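import Cfsg.Agent.Lib.Helper32Frob2
import Cfsg.Agent.S1520

set_option autoImplicit false
set_option linter.unusedSectionVars false
open Cfsg

namespace Cfsg.Agent.Lib.Helper32Nil

open Cfsg.Agent.Lib.Helper32SeqInd
open scoped commutatorElement

variable {L : Type*} [Group L] [Finite L]

theorem commute_mk' {A B W : Subgroup L} [hW : W.Normal] (hcomm : ⁅A, B⁆ ≤ W) {a b : L}
    (ha : a ∈ A) (hb : b ∈ B) :
    Commute (QuotientGroup.mk' W a) (QuotientGroup.mk' W b) := by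
  have h := hcomm (Subgroup.commutator_mem_commutator ha hb)
  have h2 : QuotientGroup.mk' W ⁅a, b⁆ = 1 := (QuotientGroup.eq_one_iff _).2 h
  rw [map_commutatorElement] at h2
  exact commutatorElement_eq_one_iff_commute.1 h2

/-- a nilpotent quotient whose abelianisation is a `p`-group is a `p`-group. -/
theorem relIndex_pow (K M : Subgroup L) (hMK : M ≤ K) [(M.subgroupOf K).Normal]
    (hnil : Group.IsNilpotent (↥K ⧸ M.subgroupOf K)) (p i : ℕ) (hp : p.Prime)
    [hn : ((⁅K, K⁆ ⊔ M).subgroupOf K).Normal]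
    (h : (⁅K, K⁆ ⊔ M).relIndex K = p ^ i) : ∃ m, M.relIndex K = p ^ m := by
  have := Fact.mk hp
  obtain ⟨P⟩ : Nonempty (Sylow p (↥K ⧸ M.subgroupOf K)) := inferInstance
  have htf : Group.IsNilpotent (↥K ⧸ M.subgroupOf K) ↔ ∀ (p : ℕ), Fact (Nat.Prime p) →
      ∀ (P : Sylow p (↥K ⧸ M.subgroupOf K)), (P : Subgroup (↥K ⧸ M.subgroupOf K)).Normal :=
    (Group.isNilpotent_of_finite_tfae (G := ↥K ⧸ M.subgroupOf K)).out 0 3
  have hPn : (P : Subgroup (↥K ⧸ M.subgroupOf K)).Normal := htf.1 hnil p inferInstance P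
  by_cases hP : (P : Subgroup (↥K ⧸ M.subgroupOf K)) = ⊤
  · have h1 : IsPGroup p (↥K ⧸ M.subgroupOf K) := by
      intro x
      obtain ⟨k, hk⟩ := P.2 ⟨x, by rw [hP]; exact Subgroup.mem_top x⟩
      exact ⟨k, by simpa using congrArg Subtype.val hk⟩
    exact h1.exists_card_eq
  · exfalso
    obtain ⟨f, hf, hfP⟩ := exists_hom (P : Subgroup (↥K ⧸ M.subgroupOf K)) hP
    apply hf
    apply MonoidHom.ext
    intro x
    obtain ⟨k, rfl⟩ := QuotientGroup.mk'_surjective _ x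
    set g : K →* ℂˣ := f.comp (QuotientGroup.mk' (M.subgroupOf K)) with hg
    have hker : ⁅K, K⁆ ⊔ M ≤ g.ker.map K.subtype := by
      apply sup_le
      · rw [Subgroup.commutator_le]
        intro a ha b hb
        refine ⟨⁅(⟨a, ha⟩ : K), ⟨b, hb⟩⁆, ?_, rfl⟩
        change g _ = 1
        rw [map_commutatorElement, commutatorElement_eq_one_iff_commute]
        exact Commute.all _ _
      · intro m hm
        refine ⟨⟨m, hMK hm⟩, ?_, rfl⟩
        change f (QuotientGroup.mk' (M.subgroupOf K) ⟨m, hMK hm⟩) = 1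
        rw [QuotientGroup.mk'_apply, (QuotientGroup.eq_one_iff (N := M.subgroupOf K) (⟨m, hMK hm⟩ : K)).2
          (Subgroup.mem_subgroupOf.2 hm), map_one]
    have h1 : g k ^ (p ^ i) = 1 := by
      rw [← map_pow]
      have h2 := Subgroup.pow_index_mem ((⁅K, K⁆ ⊔ M).subgroupOf K) k
      change k ^ (⁅K, K⁆ ⊔ M).relIndex K ∈ _ at h2
      rw [h, Subgroup.mem_subgroupOf] at h2
      obtain ⟨y, hy, e⟩ := hker h2
      have : y = k ^ (p ^ i) := Subtype.ext e
      rw [← this]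
      exact hy
    have h2 : g k ^ (P : Subgroup (↥K ⧸ M.subgroupOf K)).index = 1 := by
      change f _ ^ _ = 1
      rw [← map_pow]
      exact hfP _ (Subgroup.pow_index_mem _ _)
    have hcop : Nat.Coprime (p ^ i) (P : Subgroup (↥K ⧸ M.subgroupOf K)).index :=
      Nat.Coprime.pow_left _ ((Nat.Prime.coprime_iff_not_dvd hp).2 P.not_dvd_index)
    have h3 := pow_gcd_eq_one.2 ⟨h1, h2⟩
    rw [hcop.gcd_eq_one, pow_one] at h3
    exact h3

/-- two primes dividing the order of the abelian section `K/H₁` give an `L`-invariant subgroup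
strictly in between. -/
theorem exists_between (K H₁ : Subgroup L) [hK : K.Normal] [hH : H₁.Normal] (hcomm : ⁅K, K⁆ ≤ H₁)
    (hle : H₁ ≤ K) (p r : ℕ) (hp : p.Prime) (hr : r.Prime) (hne : p ≠ r)
    (hpd : p ∣ H₁.relIndex K) (hrd : r ∣ H₁.relIndex K) :
    ∃ N : Subgroup L, N.Normal ∧ H₁ < N ∧ N < K := by
  have := Fact.mk hp
  have := Fact.mk hr
  have hmem : ∀ k : L, k ∈ H₁ ↔ QuotientGroup.mk' H₁ k = 1 := fun k =>
    (QuotientGroup.eq_one_iff k).symm
  let N : Subgroup L :=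
    { carrier := {k | k ∈ K ∧ k ^ r ∈ H₁}
      one_mem' := ⟨K.one_mem, by rw [one_pow]; exact H₁.one_mem⟩
      mul_mem' := by
        rintro a b ⟨ha, ha'⟩ ⟨hb, hb'⟩
        refine ⟨K.mul_mem ha hb, ?_⟩
        rw [hmem, map_pow, map_mul, (commute_mk' hcomm ha hb).mul_pow, ← map_pow, ← map_pow,
          (hmem _).1 ha', (hmem _).1 hb', one_mul]
      inv_mem' := by
        rintro a ⟨ha, ha'⟩
        exact ⟨K.inv_mem ha, by rw [inv_pow]; exact H₁.inv_mem ha'⟩ }
  have hcauchy : ∀ q : ℕ, q.Prime → q ∣ H₁.relIndex K → ∃ k ∈ K, k ∉ H₁ ∧ k ^ q ∈ H₁ ∧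
      ∀ n : ℕ, k ^ n ∈ H₁ → q ∣ n := by
    intro q hq hd
    have := Fact.mk hq
    obtain ⟨x, hx⟩ := exists_prime_orderOf_dvd_card' (G := ↥K ⧸ H₁.subgroupOf K) q hd
    obtain ⟨k, rfl⟩ := QuotientGroup.mk'_surjective _ x
    have hiff : ∀ n : ℕ, (k : L) ^ n ∈ H₁ ↔ (QuotientGroup.mk' (H₁.subgroupOf K) k) ^ n = 1 := by
      intro n
      rw [← map_pow, QuotientGroup.mk'_apply, QuotientGroup.eq_one_iff, Subgroup.mem_subgroupOf]
      rfl
    refine ⟨k, k.2, ?_, ?_, ?_⟩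
    · intro h
      have h1 := (hiff 1).1 (by rwa [pow_one])
      rw [pow_one] at h1
      rw [h1, orderOf_one] at hx
      exact hq.one_lt.ne hx
    · rw [hiff, ← hx]; exact pow_orderOf_eq_one _
    · intro n hn
      rw [← hx]
      exact orderOf_dvd_of_pow_eq_one ((hiff n).1 hn)
  refine ⟨N, ⟨?_⟩, ?_, ?_⟩
  · rintro n ⟨hn, hn'⟩ g
    exact ⟨hK.conj_mem n hn g, by rw [conj_pow]; exact hH.conj_mem _ hn' g⟩
  · obtain ⟨k, hk, hk1, hk2, -⟩ := hcauchy r hr hrd
    refine lt_of_le_of_ne (fun h hh => ⟨hle hh, H₁.pow_mem hh r⟩) ?_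
    intro e
    apply hk1
    rw [e]
    exact ⟨hk, hk2⟩
  · obtain ⟨k, hk, hk1, -, hk3⟩ := hcauchy p hp hpd
    refine lt_of_le_of_ne (fun h hh => hh.1) ?_
    intro e
    have h1 : k ∈ N := by rw [e]; exact hk
    exact hne ((Nat.prime_dvd_prime_iff_eq hp hr).1 (hk3 r h1.2))

/-- a nilpotent quotient with abelianisation of prime order is abelian. -/
theorem comm_le_of_prime (K M : Subgroup L) [hK : K.Normal] [hM : M.Normal] (hMK : M ≤ K)
    [(M.subgroupOf K).Normal]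
    (hnil : Group.IsNilpotent (↥K ⧸ M.subgroupOf K)) (p : ℕ) (hp : p.Prime)
    (h : (⁅K, K⁆ ⊔ M).relIndex K = p) : ⁅K, K⁆ ≤ M := by
  have := Fact.mk hp
  by_contra hcon
  set H₁ := ⁅K, K⁆ ⊔ M with hH₁
  have hH₁K : H₁ ≤ K := sup_le (Subgroup.commutator_le_left K K) hMK
  have hlt : M < H₁ := by
    refine lt_of_le_of_ne le_sup_right ?_
    intro e
    apply hcon
    rw [e]
    exact le_sup_left
  have hW := Cfsg.Agent.S1520.comm_lt M H₁ K hlt hH₁K hnil
  set W := ⁅H₁, K⁆ ⊔ M with hWdef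
  have hWc : ⁅H₁, K⁆ ≤ W := le_sup_left
  obtain ⟨x, hxK, hx⟩ : ∃ x ∈ K, x ∉ H₁ := by
    by_contra hc
    push Not at hc
    have := Subgroup.relIndex_eq_one.2 hc
    rw [h] at this
    exact hp.one_lt.ne' this
  have hdec : ∀ a ∈ K, ∃ i : ℤ, ∃ u ∈ H₁, a = x ^ i * u := by
    intro a ha
    have hne : QuotientGroup.mk' (H₁.subgroupOf K) ⟨x, hxK⟩ ≠ 1 := by
      intro e
      rw [QuotientGroup.mk'_apply, QuotientGroup.eq_one_iff, Subgroup.mem_subgroupOf] at e
      exact hx e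
    obtain ⟨i, hi⟩ := mem_zpowers_of_prime_card (G := ↥K ⧸ H₁.subgroupOf K) h hne
      (g' := QuotientGroup.mk' (H₁.subgroupOf K) ⟨a, ha⟩)
    simp only at hi
    rw [← map_zpow] at hi
    have h1 := QuotientGroup.eq.1 hi
    rw [Subgroup.mem_subgroupOf] at h1
    refine ⟨i, _, h1, ?_⟩
    simp
  have hKK : ⁅K, K⁆ ≤ W := by
    rw [Subgroup.commutator_le]
    intro a ha b hb
    obtain ⟨i, u, hu, rfl⟩ := hdec a ha
    obtain ⟨j, v, hv, rfl⟩ := hdec b hb
    rw [← QuotientGroup.eq_one_iff, ← QuotientGroup.mk'_apply, map_commutatorElement,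
      commutatorElement_eq_one_iff_commute, map_mul, map_mul, map_zpow, map_zpow]
    have c1 : Commute (QuotientGroup.mk' W u) (QuotientGroup.mk' W x) := commute_mk' hWc hu hxK
    have c2 : Commute (QuotientGroup.mk' W v) (QuotientGroup.mk' W x) := commute_mk' hWc hv hxK
    have c3 : Commute (QuotientGroup.mk' W u) (QuotientGroup.mk' W v) :=
      commute_mk' hWc hu (hH₁K hv)
    apply Commute.mul_left
    · apply Commute.mul_right
      · exact (Commute.refl _).zpow_zpow i j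
      · exact (c2.zpow_right i).symm
    · apply Commute.mul_right
      · exact c1.zpow_right j
      · exact c3
  exact absurd (sup_le hKK le_sup_right) (not_le_of_gt hW)

end Cfsg.Agent.Lib.Helper32Nil
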