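import Cfsg.Agent.Lib.Helper32Nil

set_option autoImplicit false
set_option linter.unusedSectionVars false
open Cfsg

namespace Cfsg.Agent.Lib.Helper32Nil2

open scoped commutatorElement

variable {L : Type*} [Group L] [Finite L]

/-- a non-trivial normal subgroup inside a nilpotent normal subgroup `K` meets the centraliser of
`K` non-trivially. -/
theorem exists_central (K : Subgroup L) [hK : K.Normal]
    (hnil : Group.IsNilpotent (↥K ⧸ (⊥ : Subgroup L).subgroupOf K)) :
    ∀ (n : ℕ) (B : Subgroup L), B.Normal → Nat.card B = n → B ≠ ⊥ → B ≤ K →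
      B ⊓ Subgroup.centralizer (K : Set L) ≠ ⊥ := by
  intro n
  induction n using Nat.strong_induction_on with
  | _ n ih =>
    intro B hBn hcard hB hBK
    by_cases h : ⁅B, K⁆ = ⊥
    · rw [inf_eq_left.2 (Subgroup.commutator_eq_bot_iff_le_centralizer.1 h)]
      exact hB
    · have hlt := Cfsg.Agent.S1520.comm_lt ⊥ B K (bot_lt_iff_ne_bot.2 hB) hBK hnil
      rw [sup_bot_eq] at hlt
      have hc : Nat.card (⁅B, K⁆ : Subgroup L) < n := by
        rw [← hcard]
        refine lt_of_le_of_ne (Subgroup.card_le_of_le hlt.le) ?_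
        intro e
        exact hlt.ne (Subgroup.eq_of_le_of_card_ge hlt.le e.ge)
      have := ih _ hc ⁅B, K⁆ inferInstance rfl h (hlt.le.trans hBK)
      intro h0
      apply this
      rw [eq_bot_iff, ← h0]
      exact inf_le_inf_right _ hlt.le

end Cfsg.Agent.Lib.Helper32Nil2
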