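import Cfsg.Agent.Lib.Helper32PartA
import Cfsg.Agent.S0042
import Cfsg.Agent.S1531

set_option autoImplicit false
set_option linter.unusedSectionVars false
open Cfsg

namespace Cfsg.Agent.Lib.Helper32PartB

open Cfsg.Agent.Lib.Helper4Char Cfsg.Agent.Lib.Helper4Char2 Cfsg.Agent.Lib.Helper4Char4
open Cfsg.Agent.Lib.Helper32Virt Cfsg.Agent.Lib.Helper32Coh Cfsg.Agent.Lib.Helper32Sub
open Cfsg.Agent.Lib.Helper32Sub2 Cfsg.Agent.Lib.Helper32SeqInd Cfsg.Agent.Lib.Helper32Extend
open Cfsg.Agent.Lib.Helper32Frob2 Cfsg.Agent.Lib.Helper32Ind Cfsg.Agent.Lib.Helper19Ind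
open Cfsg.Agent.Lib.Helper5Ind Cfsg.Agent.Lib.Helper32TI Cfsg.Agent.Lib.Helper32FrobGrp
open Cfsg.Agent.Lib.Helper32Link Cfsg.Agent.Lib.Helper32PartA

variable {G : Type*} [Group G] [Fintype G]

/-- `f` vanishes at `1` and off the conjugates of `H`. -/
def Supp (H : Subgroup G) (f : G → ℂ) : Prop :=
  ∀ g, (g = 1 ∨ ∀ x : G, x * g * x⁻¹ ∉ H) → f g = 0

theorem supp_ind (H L : Subgroup G) (a : L → ℂ) (h1 : a 1 = 0)
    (hv : ∀ x : L, (x : G) ∉ H → a x = 0) : Supp H (indFun L a) := by
  intro g hg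
  rw [indFun_apply, Finset.sum_eq_zero, mul_zero]
  intro x _
  by_cases hx : x⁻¹ * g * x ∈ L
  · rw [extendByZero_of_mem L _ hx]
    rcases hg with rfl | hg
    · have : (⟨x⁻¹ * 1 * x, hx⟩ : L) = 1 := Subtype.ext (by simp)
      rw [this, h1]
    · apply hv
      have := hg x⁻¹
      simpa using this
  · exact extendByZero_of_not_mem L _ hx

/-- Frobenius reciprocity, with the induced function on the right. -/
theorem frob' (L : Subgroup G) [Fintype L] (b : L → ℂ) (Θ : G → ℂ) (hΘ : IsClassFunction G Θ) :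
    classInner Θ (indFun L b) = classInner (fun l : L => Θ l) b := by
  rw [← classInner_conj_symm, Cfsg.Agent.Lib.Helper32Ind.frobenius L b Θ hΘ, classInner_conj_symm]

theorem nilpotent_kernel (H L : Subgroup G) (hHL : H < L)
    (hHn : ∀ x ∈ L, ∀ h ∈ H, x * h * x⁻¹ ∈ H)
    (hfrob : ∀ h ∈ H, h ≠ 1 → L ⊓ Subgroup.centralizer ({h} : Set G) ≤ H) :
    Group.IsNilpotent H := by
  obtain ⟨y, hyL, hyH⟩ := SetLike.exists_of_lt hHL
  have hord : orderOf y ≠ 1 := by
    rw [Ne, orderOf_eq_one_iff]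
    rintro rfl
    exact hyH H.one_mem
  obtain ⟨r, hr, hrd⟩ := Nat.exists_prime_and_dvd hord
  have hzr : orderOf (y ^ (orderOf y / r)) = r :=
    orderOf_pow_orderOf_div (orderOf_pos y).ne' hrd
  have hzL : y ^ (orderOf y / r) ∈ L := L.pow_mem hyL _
  have hcomm : y * y ^ (orderOf y / r) = y ^ (orderOf y / r) * y :=
    ((Commute.refl y).pow_right _).eq
  generalize y ^ (orderOf y / r) = z at hzr hzL hcomm
  have hz1 : z ≠ 1 := by
    rintro rfl
    rw [orderOf_one] at hzr
    exact hr.one_lt.ne hzr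
  have hzH : z ∉ H := by
    intro hz
    apply hyH
    apply hfrob z hz hz1
    exact Subgroup.mem_inf.2 ⟨hyL, Subgroup.mem_centralizer_singleton_iff.2 hcomm⟩
  apply Cfsg.Agent.S0042.nilpotent_of_conj_fpf H z (fun q hq => hHn z hzL q hq) r hr hzr
  rw [eq_bot_iff]
  intro q hq
  rw [Subgroup.mem_bot]
  by_contra hq1
  apply hzH
  apply hfrob q hq.1 hq1
  have := Subgroup.mem_centralizer_singleton_iff.1 (Subgroup.mem_inf.1 hq).2
  exact Subgroup.mem_inf.2 ⟨hzL, Subgroup.mem_centralizer_singleton_iff.2 this.symm⟩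

theorem SIrr.conj {α : G → ℂ} (h : SIrr G α) : SIrr G (conjFun α) := by
  rcases h with h | h
  · exact Or.inl (IsIrrCharacter.conj h)
  · right
    have := IsIrrCharacter.conj h
    convert this using 1
    funext g
    simp [conjFun]

/-- the partner of a signed irreducible character in a purely imaginary difference is its
conjugate. -/
theorem conj_comm {η η' : G → ℂ} (hη : SIrr G η) (hη' : SIrr G η') (horth : classInner η' η = 0)
    (hconj : conjFun (η - η') = -(η - η')) : η' = conjFun η := by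
  have h1 : conjFun η + η = conjFun η' + η' := by
    rw [conjFun_sub] at hconj
    have : conjFun η + η - (conjFun η' + η') = 0 := by
      have e : conjFun η + η - (conjFun η' + η') = (conjFun η - conjFun η') + (η - η') := by ring
      rw [e, hconj]; ring
    exact sub_eq_zero.1 this
  have h2 := congrArg (fun f => classInner f η) h1
  simp only [classInner_add_left, hη.inner_self, horth, add_zero] at h2
  by_cases hb : classInner (conjFun η') η = 0
  · rw [hb] at h2
    have ha : classInner (conjFun η) η ≠ 0 := by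
      intro h; rw [h] at h2; simp at h2
    have h3 := (SIrr.eq_smul_of_inner_ne_zero (SIrr.conj hη) hη ha).2
    have h4 : classInner (conjFun η) η = -1 := by linear_combination h2
    rw [h4] at h3
    obtain ⟨n, hn⟩ := gen_one_int hη.gen
    have h5 := congrFun h3 1
    simp only [conjFun, Pi.smul_apply, smul_eq_mul] at h5
    rw [hn] at h5
    exfalso
    apply hη.one_ne_zero
    rw [hn]
    have : ((n : ℂ)) = -1 * n := by simpa using h5
    linear_combination this / 2
  · obtain ⟨h3, h4⟩ := SIrr.eq_smul_of_inner_ne_zero (SIrr.conj hη') hη hb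
    rcases h3 with h3 | h3
    · rw [h3, one_smul] at h4
      rw [← h4, conjFun_conjFun]
    · exfalso
      rw [h3] at h2
      have ha : classInner (conjFun η) η ≠ 0 := by
        intro h; rw [h] at h2; norm_num at h2
      rcases (SIrr.eq_smul_of_inner_ne_zero (SIrr.conj hη) hη ha).1 with h5 | h5
      · rw [h5] at h2; norm_num at h2
      · rw [h5] at h2; norm_num at h2

theorem int_aux (c : ℤ) (m : ℕ) (hm : 2 ≤ m) : 0 ≤ c * (c * m - 2) := by
  have hm' : (2 : ℤ) ≤ m := by exact_mod_cast hm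
  rcases le_or_gt c 0 with h | h
  · have h1 : c * (m : ℤ) ≤ 0 := mul_nonpos_of_nonpos_of_nonneg h (by positivity)
    exact mul_nonneg_of_nonpos_of_nonpos h (by linarith)
  · have h0 : (1 : ℤ) ≤ c := h
    have h1 : (2 : ℤ) ≤ c * m := by nlinarith
    exact mul_nonneg h.le (by linarith)

open scoped Classical in
theorem sum_sub (H L : Subgroup G) [Fintype L] (hHL : H ≤ L) (F : G → ℝ) :
    ∑ z : G, (if z ∈ H ∧ z ≠ 1 then F z else 0) =
      ∑ x : L, (if x ∈ H.subgroupOf L ∧ x ≠ 1 then F x else 0) := by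
  have h1 : ∑ z : G, (if z ∈ H ∧ z ≠ 1 then F z else 0) =
      ∑ z ∈ Finset.univ.filter (fun z : G => z ∈ L), (if z ∈ H ∧ z ≠ 1 then F z else 0) := by
    symm
    apply Finset.sum_subset (Finset.filter_subset _ _)
    intro z _ hz
    rw [if_neg]
    intro h
    exact hz (Finset.mem_filter.2 ⟨Finset.mem_univ _, hHL h.1⟩)
  rw [h1, Finset.sum_subtype (p := fun z : G => z ∈ L) _ (by intro x; simp)]
  apply Finset.sum_congr rfl
  intro x _
  have : (x : G) ≠ 1 ↔ x ≠ 1 := by
    rw [Ne, Ne, ← OneMemClass.coe_eq_one]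
  simp only [Subgroup.mem_subgroupOf, this]

end Cfsg.Agent.Lib.Helper32PartB
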