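import Cfsg.Agent.Lib.Helper32PartB

set_option autoImplicit false
set_option linter.unusedSectionVars false
open Cfsg

namespace Cfsg.Agent.Lib.Helper32PartC

open Cfsg.Agent.Lib.Helper4Char Cfsg.Agent.Lib.Helper4Char2 Cfsg.Agent.Lib.Helper4Char4
open Cfsg.Agent.Lib.Helper32Virt Cfsg.Agent.Lib.Helper32Coh Cfsg.Agent.Lib.Helper32Sub
open Cfsg.Agent.Lib.Helper32Sub2 Cfsg.Agent.Lib.Helper32SeqInd Cfsg.Agent.Lib.Helper32Extend
open Cfsg.Agent.Lib.Helper32Frob2 Cfsg.Agent.Lib.Helper32Ind Cfsg.Agent.Lib.Helper19Ind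
open Cfsg.Agent.Lib.Helper5Ind Cfsg.Agent.Lib.Helper32TI Cfsg.Agent.Lib.Helper32FrobGrp
open Cfsg.Agent.Lib.Helper32Link Cfsg.Agent.Lib.Helper32PartA Cfsg.Agent.Lib.Helper32PartB
open Cfsg.Agent.Lib.Helper32Sibley

variable {G : Type*} [Group G] [Fintype G]

open scoped Classical in
/-- the character-theoretic data attached to a TI Frobenius kernel `H` with normaliser `L`. -/
structure Pack (H L : Subgroup G) (e m : ℕ) (T : Finset (G → ℂ)) (k : (G → ℂ) → ℕ)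
    (η β : G → ℂ) : Prop where
  card_L : Nat.card L = e * Nat.card H
  card_H : e * m + 1 = Nat.card H
  one_lt_e : 1 < e
  two_le_m : 2 ≤ m
  eta_mem : η ∈ T
  k_eta : k η = 1
  sirr : ∀ ξ ∈ T, SIrr G ξ
  orth : ∀ ξ ∈ T, ∀ ξ' ∈ T, ξ ≠ ξ' → classInner ξ ξ' = 0
  partner : ∀ ξ ∈ T, ∃ ξ' ∈ T, ξ' ≠ ξ ∧ Supp H (ξ - ξ')
  diff : ∀ ξ ∈ T, Supp H (ξ - (k ξ : ℤ) • η)
  sum_k : ∑ ξ ∈ T, (k ξ) ^ 2 = m
  orth_one : ∀ ξ ∈ T, classInner ξ (fun _ => 1) = 0
  const : ∀ Θ : G → ℂ, IsClassFunction G Θ →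
    (∀ ξ ∈ T, classInner Θ (ξ - (k ξ : ℤ) • η) = 0) → ∀ z ∈ H, z ≠ 1 → Θ z = classInner Θ β
  beta_gen : IsGeneralizedCharacter G β
  beta_supp : Supp H β
  beta_norm : classInner β β = (e : ℂ) + 1
  beta_one : classInner β (fun _ => 1) = 1
  beta_conj : conjFun β = β + η - conjFun η
  own_bessel : (1 : ℝ) ≤ ∑ ξ ∈ T, ‖classInner β ξ‖ ^ 2
  own_norm : (e : ℝ) * (Nat.card H : ℝ) - (e : ℝ) ^ 2 ≤
    ∑ z : G, (if z ∈ H ∧ z ≠ 1 then ‖η z‖ ^ 2 else 0)

theorem exists_pack (H L : Subgroup G) (hodd : Odd (Nat.card G)) (hHL : H < L) (hH1 : H ≠ ⊥)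
    (hHn : ∀ x ∈ L, ∀ h ∈ H, x * h * x⁻¹ ∈ H)
    (hfrob : ∀ h ∈ H, h ≠ 1 → L ⊓ Subgroup.centralizer ({h} : Set G) ≤ H)
    (hTI : IsTISubset (H : Set G)) (hN : Subgroup.normalizer (H : Set G) = L) :
    ∃ (e m : ℕ) (T : Finset (G → ℂ)) (k : (G → ℂ) → ℕ) (η β : G → ℂ),
      Pack H L e m T k η β := by
  classical
  letI : Fintype L := Fintype.ofFinite L
  set K := H.subgroupOf L with hKdef
  have hKn : K.Normal := ⟨fun n hn g => by
    rw [hKdef, Subgroup.mem_subgroupOf] at hn ⊢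
    exact hHn g g.2 n hn⟩
  have hoddL : Odd (Nat.card L) := hodd.of_dvd_nat (Subgroup.card_subgroup_dvd_card L)
  have hKL : K < ⊤ := by
    rw [lt_top_iff_ne_top]
    intro h
    obtain ⟨y, hyL, hyH⟩ := SetLike.exists_of_lt hHL
    have : (⟨y, hyL⟩ : L) ∈ K := by rw [h]; exact Subgroup.mem_top _
    exact hyH (Subgroup.mem_subgroupOf.1 this)
  have hnilH := nilpotent_kernel H L hHL hHn hfrob
  have hnil : Group.IsNilpotent K :=
    (Group.isNilpotent_congr (Subgroup.subgroupOfEquivOfLe hHL.le)).2 hnilH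
  have hsolv : Group.IsSolvable K := inferInstance
  have hC : ∀ y : L, y ∉ K → ∀ c ∈ K, y * c = c * y → c = 1 := by
    intro y hy c hc hyc
    by_contra hc1
    apply hy
    rw [hKdef, Subgroup.mem_subgroupOf]
    apply hfrob c (Subgroup.mem_subgroupOf.1 hc) (fun h => hc1 (Subtype.ext h))
    exact Subgroup.mem_inf.2 ⟨y.2, Subgroup.mem_centralizer_singleton_iff.2
      (congrArg Subtype.val hyc)⟩
  have hK1 : K ≠ ⊥ := by
    intro h
    apply hH1
    rw [Subgroup.eq_bot_iff_forall]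
    intro x hx
    have h1 : (⟨x, hHL.le hx⟩ : L) ∈ K := Subgroup.mem_subgroupOf.2 hx
    rw [h, Subgroup.mem_bot] at h1
    exact congrArg Subtype.val h1
  obtain ⟨-, τ₁, hτ, hτα⟩ := core H L hoddL hHL.le hH1 hKL hnil hC hTI hN
  set S := inducedIrrAbove K ⊥ with hSdef
  have hirr : ∀ χ ∈ S, IsIrrCharacter L χ := all_irr K hC
  have hreal : ∀ χ ∈ S, conjFun χ ≠ χ := not_real K hC hoddL hKL
  have hfin : S.Finite := Cfsg.Agent.S1531.finite_of_irr S hirr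
  set sS := hfin.toFinset with hsS
  have hmem : ∀ φ, φ ∈ sS ↔ φ ∈ S := fun φ => hfin.mem_toFinset
  obtain ⟨χ₀, hχ₀, hχ₀1⟩ : ∃ ξ ∈ S, ξ 1 = (K.index : ℂ) :=
    exists_linear_mem hsolv (bot_lt_iff_ne_bot.2 hK1)
  have hdeg : ∀ χ ∈ S, ∃ k : ℕ, 0 < k ∧ χ 1 = ((K.index * k : ℕ) : ℂ) :=
    fun χ hχ => degree_mul K hχ
  choose! k₀ hk₀pos hk₀ using hdeg
  set e := K.index with he
  have he0 : e ≠ 0 := Subgroup.index_ne_zero_of_finite
  have hk₀χ₀ : k₀ χ₀ = 1 := by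
    have h1 := hk₀ χ₀ hχ₀
    rw [hχ₀1] at h1
    have h2 : e = e * k₀ χ₀ := by exact_mod_cast h1
    have h3 : e * 1 = e * k₀ χ₀ := by rw [mul_one]; exact h2
    exact (Nat.eq_of_mul_eq_mul_left (Nat.pos_of_ne_zero he0) h3).symm
  have hcardK : Nat.card K = Nat.card H := Nat.card_congr (Subgroup.subgroupOfEquivOfLe hHL.le).toEquiv
  set m := ∑ χ ∈ sS, k₀ χ ^ 2 with hm
  have hsum : e * m + 1 = Nat.card H := by
    have := sum_sq K hirr ⊥ bot_le sS (by rw [hsS]; exact hfin.coe_toFinset) k₀ hk₀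
    rw [Subgroup.relIndex_bot_left, hcardK] at this
    exact this
  have hcardL : Nat.card L = e * Nat.card H := by
    rw [← hcardK, mul_comm, he]; exact (K.card_mul_index).symm
  have he1 : 1 < e := by
    rcases Nat.lt_or_ge 1 e with h | h
    · exact h
    · exfalso
      have : e = 1 := by omega
      exact hKL.ne (Subgroup.index_eq_one.1 this)
  have hoddH : Odd (Nat.card H) := hodd.of_dvd_nat (Subgroup.card_subgroup_dvd_card H)
  have hodde : Odd e := by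
    rw [hcardL] at hoddL
    exact (Nat.odd_mul.1 hoddL).1
  have hm2 : 2 ≤ m := by
    have hH1' : 1 < Nat.card H := (Subgroup.one_lt_card_iff_ne_bot H).2 hH1
    have hm0 : m ≠ 0 := by
      intro h; rw [h] at hsum; omega
    have hm1 : m ≠ 1 := by
      intro h
      rw [h, mul_one] at hsum
      rw [← hsum] at hoddH
      exact (Nat.not_even_iff_odd.2 hoddH) (hodde.add_odd odd_one)
    omega
  -- the basic differences
  set D : (L → ℂ) → (L → ℂ) := fun φ => φ - (k₀ φ : ℤ) • χ₀ with hD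
  have hDmem : ∀ φ ∈ S, D φ ∈ zspanOn S {1}ᶜ := by
    intro φ hφ
    rw [mem_zspanOn_one]
    refine ⟨zspan_sub (zspan_of_mem hφ) (zspan_zsmul _ (zspan_of_mem hχ₀)), ?_⟩
    simp only [hD, Pi.sub_apply]
    rw [zsmul_apply', hk₀ φ hφ, hχ₀1]
    push_cast; ring
  have hconj1 : ∀ φ ∈ S, conjFun φ 1 = φ 1 := by
    intro φ hφ
    simp only [conjFun]
    rw [hk₀ φ hφ]; simp
  have hcS : ∀ φ ∈ S, conjFun φ ∈ S := fun φ hφ => conj_mem hφ
  set E : (L → ℂ) → (L → ℂ) := fun φ => φ - conjFun φ with hE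
  have hEmem : ∀ φ ∈ S, E φ ∈ zspanOn S {1}ᶜ := by
    intro φ hφ
    rw [mem_zspanOn_one]
    refine ⟨zspan_sub (zspan_of_mem hφ) (zspan_of_mem (hcS φ hφ)), ?_⟩
    simp only [hE, Pi.sub_apply]
    rw [hconj1 φ hφ, sub_self]
  set η := τ₁ χ₀ with hη
  have hτD : ∀ φ ∈ S, τ₁ φ - (k₀ φ : ℤ) • η = indFun L (D φ) := by
    intro φ hφ
    have h1 := hτα _ (hDmem φ hφ)
    simp only [hD] at h1 ⊢
    rw [← h1, iso_sub closed_zspan hτ (zspan_of_mem hφ) (zspan_zsmul _ (zspan_of_mem hχ₀)),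
      iso_zsmul hτ _ (zspan_of_mem hχ₀)]
  have hτE : ∀ φ ∈ S, τ₁ φ - τ₁ (conjFun φ) = indFun L (E φ) := by
    intro φ hφ
    have h1 := hτα _ (hEmem φ hφ)
    simp only [hE] at h1 ⊢
    rw [← h1, iso_sub closed_zspan hτ (zspan_of_mem hφ) (zspan_of_mem (hcS φ hφ))]
  have hvan : ∀ α ∈ zspan S, ∀ x : L, (x : G) ∉ H → α x = 0 := fun α hα x hx =>
    zspan_vanish K ⊥ hα x (fun h => hx (Subgroup.mem_subgroupOf.1 h))
  set a : L → ℂ := rho K - χ₀ with ha
  have ha1 : a 1 = 0 := by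
    simp only [ha, Pi.sub_apply]
    rw [rho_mem K K.one_mem, hχ₀1, sub_self]
  have hav : ∀ x : L, (x : G) ∉ H → a x = 0 := by
    intro x hx
    simp only [ha, Pi.sub_apply]
    rw [rho_not_mem K (fun h => hx (Subgroup.mem_subgroupOf.1 h)),
      hvan χ₀ (zspan_of_mem hχ₀) x hx, sub_self]
  have hacl : IsClassFunction L a := IsClassFunction.sub
    (IsCharacter.isClassFunction (rho_char K)) (IsIrrCharacter.isClassFunction (hirr χ₀ hχ₀))
  set β := indFun L a with hβ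
  have hTI' : ∀ g : G, g ∉ L → ∀ t ∈ (H : Set G), g * t * g⁻¹ ∈ (H : Set G) → t = 1 := by
    rw [← hN]; exact hTI
  have hS1 : ∀ φ ∈ S, classInner φ (fun _ => 1) = 0 := fun φ hφ => inner_one_of_mem K hKL hirr hφ
  have hSρ : ∀ φ ∈ S, classInner φ (rho K) = 0 := by
    intro φ hφ
    rw [inner_rho_right K φ (fun x hx => zspan_vanish K ⊥ (zspan_of_mem hφ) x hx), hS1 φ hφ,
      mul_zero]
  have hρS : ∀ φ ∈ S, classInner (rho K) φ = 0 := by
    intro φ hφ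
    rw [← classInner_conj_symm, hSρ φ hφ, map_zero]
  have haD : ∀ φ ∈ S, classInner a (D φ) = (k₀ φ : ℂ) - (if φ = χ₀ then 1 else 0) := by
    intro φ hφ
    simp only [ha, hD]
    rw [classInner_sub_left, classInner_sub_right, classInner_sub_right, classInner_zsmul_right,
      classInner_zsmul_right, hρS φ hφ, hρS χ₀ hχ₀, classInner_irr (hirr χ₀ hχ₀) (hirr φ hφ),
      classInner_irr_self (hirr χ₀ hχ₀)]
    by_cases h : φ = χ₀
    · rw [if_pos h, if_pos h.symm]; push_cast; ring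
    · rw [if_neg h, if_neg (fun h' => h h'.symm)]; push_cast; ring
  have key : ∀ Θ : L → ℂ, IsClassFunction L Θ → (∀ φ ∈ S, classInner Θ (D φ) = 0) →
      ∀ z ∈ K, z ≠ 1 → Θ z = classInner Θ a := by
    intro Θ hΘ h
    apply const_on K hKL hirr hΘ hχ₀ hχ₀1
    intro φ hφ
    have := h φ hφ
    simp only [hD] at this
    rw [classInner_sub_right, classInner_zsmul_right] at this
    rw [hχ₀1, hk₀ φ hφ]
    push_cast
    linear_combination (e : ℂ) * this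
  have hinj : Set.InjOn τ₁ S := fun χ hχ ψ hψ h => iso_injOn hirr hτ hχ hψ h
  set T := sS.image τ₁ with hT
  set k : (G → ℂ) → ℕ := fun ξ => k₀ (Function.invFunOn τ₁ S ξ) with hkdef
  have hk : ∀ φ ∈ S, k (τ₁ φ) = k₀ φ := fun φ hφ => by
    simp only [hkdef]; rw [hinj.leftInvOn_invFunOn hφ]
  have hsirr : ∀ φ ∈ S, SIrr G (τ₁ φ) := fun φ hφ => iso_sirr hirr hτ hφ
  have hβgen : IsGeneralizedCharacter G β :=
    gen_ind L (gen_sub (gen_of_char (rho_char K)) (gen_of_irr (hirr χ₀ hχ₀)))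
  have hηgen : IsGeneralizedCharacter G η := (hsirr χ₀ hχ₀).gen
  have hβnorm : classInner β β = (e : ℂ) + 1 := by
    rw [hβ, classInner_indFun_of_TI L H hTI' a a hacl hav hav ha1]
    simp only [ha]
    rw [classInner_sub_left, classInner_sub_right, classInner_sub_right, inner_rho_self,
      hρS χ₀ hχ₀, hSρ χ₀ hχ₀, classInner_irr_self (hirr χ₀ hχ₀)]
    ring
  have hβone : classInner β (fun _ => 1) = 1 := by
    rw [hβ, Cfsg.Agent.Lib.Helper32Ind.frobenius L a (fun _ => 1) (fun _ _ => rfl)]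
    simp only [ha]
    rw [classInner_sub_left, inner_rho_one, hS1 χ₀ hχ₀, sub_zero]
  have hindconj : ∀ b : L → ℂ, conjFun (indFun L b) = indFun L (conjFun b) := fun b =>
    Cfsg.Agent.Lib.Helper5Clifford.indFun_conj L b
  have hτconj : ∀ φ ∈ S, τ₁ (conjFun φ) = conjFun (τ₁ φ) := by
    intro φ hφ
    apply conj_comm (hsirr φ hφ) (hsirr _ (hcS φ hφ))
    · rw [iso_inner hτ (zspan_of_mem (hcS φ hφ)) (zspan_of_mem hφ)]
      exact classInner_irr_ne (hirr _ (hcS φ hφ)) (hirr φ hφ) (hreal φ hφ)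
    · rw [hτE φ hφ, hindconj]
      have : conjFun (E φ) = (-1 : ℤ) • E φ := by
        simp only [hE]
        rw [conjFun_sub, conjFun_conjFun]
        funext x; simp
      rw [this, indFun_zsmul]
      simp
  have hone : SIrr G (fun _ : G => (1 : ℂ)) :=
    Or.inl Cfsg.Agent.Lib.Helper82Linear.isIrrCharacter_one
  have horth1 : ∀ φ ∈ S, classInner (τ₁ φ) (fun _ => 1) = 0 := by
    intro φ hφ
    have h1 : classInner (τ₁ φ - τ₁ (conjFun φ)) (fun _ => 1) = 0 := by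
      rw [hτE φ hφ, Cfsg.Agent.Lib.Helper32Ind.frobenius L _ (fun _ => 1) (fun _ _ => rfl)]
      simp only [hE]
      rw [classInner_sub_left, hS1 φ hφ, hS1 _ (hcS φ hφ), sub_zero]
    rw [classInner_sub_left] at h1
    by_contra hne
    have h2 := (SIrr.eq_smul_of_inner_ne_zero (hsirr φ hφ) hone hne).2
    have h3 : classInner (τ₁ (conjFun φ)) (fun _ => 1) = classInner (τ₁ φ) (fun _ => 1) := by
      linear_combination -h1
    have h4 := (SIrr.eq_smul_of_inner_ne_zero (hsirr _ (hcS φ hφ)) hone (by rw [h3]; exact hne)).2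
    rw [h3, ← h2] at h4
    exact hreal φ hφ (hinj (hcS φ hφ) hφ h4)
  obtain ⟨c₀, hc₀⟩ := gen_inner_int hηgen hβgen
  have hc₀' : classInner β η = c₀ := by rw [gen_inner_comm hβgen hηgen, hc₀]
  set c : ℤ := c₀ + 1 with hc
  have hDcl : ∀ φ ∈ S, IsClassFunction L (D φ) := fun φ hφ =>
    gen_isClassFunction (zspan_gen' hirr (hDmem φ hφ).1)
  have hβτ : ∀ φ ∈ S, classInner β (τ₁ φ) = (k₀ φ : ℂ) * c - (if φ = χ₀ then 1 else 0) := by
    intro φ hφ
    have h1 : τ₁ φ = indFun L (D φ) + (k₀ φ : ℤ) • η := by rw [← hτD φ hφ]; ring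
    rw [h1, classInner_add_right, classInner_zsmul_right, hc₀', hβ,
      classInner_indFun_of_TI L H hTI' a (D φ) (hDcl φ hφ) hav (hvan _ (hDmem φ hφ).1) ha1,
      haD φ hφ, hc]
    push_cast; ring
  have hηcl : IsClassFunction G η := gen_isClassFunction hηgen
  have hηval : ∀ z ∈ K, z ≠ 1 → η z = χ₀ z + (c : ℂ) := by
    intro z hz hz1
    have hΘcl : IsClassFunction L ((fun l : L => η l) - χ₀) := by
      apply IsClassFunction.sub _ (IsIrrCharacter.isClassFunction (hirr χ₀ hχ₀))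
      intro g h
      exact hηcl g h
    have h1 := key ((fun l : L => η l) - χ₀) hΘcl (by
      intro φ hφ
      have hτα' : τ₁ (D φ) = indFun L (D φ) := hτα _ (hDmem φ hφ)
      rw [classInner_sub_left, ← frob' L (D φ) η hηcl, ← hτα', hη,
        iso_inner hτ (zspan_of_mem hχ₀) (hDmem φ hφ).1, sub_self]) z hz hz1
    rw [classInner_sub_left, ← frob' L a η hηcl, ← hβ, hc₀] at h1
    simp only [ha] at h1
    rw [classInner_sub_right, hSρ χ₀ hχ₀, classInner_irr_self (hirr χ₀ hχ₀)] at h1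
    simp only [Pi.sub_apply] at h1
    rw [hc]
    push_cast
    linear_combination h1
  have hownnorm : (e : ℝ) * (Nat.card H : ℝ) - (e : ℝ) ^ 2 ≤
      ∑ z : G, (if z ∈ H ∧ z ≠ 1 then ‖η z‖ ^ 2 else 0) := by
    rw [sum_sub H L hHL.le (fun z => ‖η z‖ ^ 2)]
    have h0 := sum_shift K (hirr χ₀ hχ₀)
      (fun x hx => zspan_vanish K ⊥ (zspan_of_mem hχ₀) x hx) e hχ₀1 (hS1 χ₀ hχ₀) c
    have h1 : ∑ x : L, (if x ∈ H.subgroupOf L ∧ x ≠ 1 then ‖η x‖ ^ 2 else 0) =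
        (Nat.card L : ℝ) + (c : ℝ) ^ 2 * (Nat.card K : ℝ) - ((e : ℝ) + c) ^ 2 := by
      rw [← h0]
      apply Finset.sum_congr rfl
      intro x _
      by_cases hx : x ∈ K ∧ x ≠ 1
      · rw [if_pos hx, if_pos hx, hηval x hx.1 hx.2]
        push_cast; rfl
      · rw [if_neg hx, if_neg hx]
    rw [h1, hcardK, hcardL, ← hsum]
    have h2 := int_aux c m hm2
    have h3 : (0 : ℝ) ≤ (c : ℝ) * ((c : ℝ) * (m : ℝ) - 2) := by exact_mod_cast h2
    have h4 : (0 : ℝ) ≤ (e : ℝ) := Nat.cast_nonneg _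
    push_cast
    nlinarith [mul_nonneg h4 h3]
  have hownbessel : (1 : ℝ) ≤ ∑ ξ ∈ T, ‖classInner β ξ‖ ^ 2 := by
    rw [hT, Finset.sum_image (fun x hx y hy h => hinj ((hmem x).1 hx) ((hmem y).1 hy) h)]
    have h1 : ∀ φ ∈ sS, ‖classInner β (τ₁ φ)‖ ^ 2 =
        (c : ℝ) ^ 2 * ((k₀ φ ^ 2 : ℕ) : ℝ) - 2 * (c : ℝ) * (if φ = χ₀ then (k₀ φ : ℝ) else 0) +
          (if φ = χ₀ then 1 else 0) := by
      intro φ hφ
      rw [hβτ φ ((hmem φ).1 hφ)]
      by_cases h : φ = χ₀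
      · rw [if_pos h, if_pos h, if_pos h]
        have : ((k₀ φ : ℂ) * (c : ℂ) - 1) = (((k₀ φ : ℝ) * (c : ℝ) - 1 : ℝ) : ℂ) := by
          push_cast; ring
        rw [this, Complex.norm_real, Real.norm_eq_abs, sq_abs]
        push_cast; ring
      · rw [if_neg h, if_neg h, if_neg h]
        have : ((k₀ φ : ℂ) * (c : ℂ) - 0) = (((k₀ φ : ℝ) * (c : ℝ) : ℝ) : ℂ) := by
          push_cast; ring
        rw [this, Complex.norm_real, Real.norm_eq_abs, sq_abs]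
        push_cast; ring
    rw [Finset.sum_congr rfl h1, Finset.sum_add_distrib, Finset.sum_sub_distrib,
      ← Finset.mul_sum, ← Finset.mul_sum, ← Nat.cast_sum, ← hm, Finset.sum_ite_eq' sS χ₀,
      Finset.sum_ite_eq' sS χ₀, if_pos ((hmem χ₀).2 hχ₀), if_pos ((hmem χ₀).2 hχ₀), hk₀χ₀]
    have h2 := int_aux c m hm2
    have h3 : (0 : ℝ) ≤ (c : ℝ) * ((c : ℝ) * (m : ℝ) - 2) := by exact_mod_cast h2
    push_cast
    nlinarith
  refine ⟨e, m, T, k, η, β, ?_⟩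
  have hTmem : ∀ ξ ∈ T, ∃ φ ∈ S, τ₁ φ = ξ := by
    intro ξ hξ
    obtain ⟨φ, hφ, h⟩ := Finset.mem_image.1 hξ
    exact ⟨φ, (hmem φ).1 hφ, h⟩
  have hmemT : ∀ φ ∈ S, τ₁ φ ∈ T := fun φ hφ => Finset.mem_image.2 ⟨φ, (hmem φ).2 hφ, rfl⟩
  refine
    { card_L := hcardL
      card_H := hsum
      one_lt_e := he1
      two_le_m := hm2
      eta_mem := hmemT χ₀ hχ₀
      k_eta := by rw [hη, hk χ₀ hχ₀, hk₀χ₀]
      sirr := ?_
      orth := ?_
      partner := ?_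
      diff := ?_
      sum_k := ?_
      orth_one := ?_
      const := ?_
      beta_gen := hβgen
      beta_supp := supp_ind H L a ha1 hav
      beta_norm := hβnorm
      beta_one := hβone
      beta_conj := ?_
      own_bessel := hownbessel
      own_norm := hownnorm }
  · intro ξ hξ
    obtain ⟨φ, hφ, rfl⟩ := hTmem ξ hξ
    exact hsirr φ hφ
  · intro ξ hξ ξ' hξ' hne
    obtain ⟨φ, hφ, rfl⟩ := hTmem ξ hξ
    obtain ⟨φ', hφ', rfl⟩ := hTmem ξ' hξ'
    rw [iso_inner hτ (zspan_of_mem hφ) (zspan_of_mem hφ')]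
    exact classInner_irr_ne (hirr φ hφ) (hirr φ' hφ') (fun h => hne (by rw [h]))
  · intro ξ hξ
    obtain ⟨φ, hφ, rfl⟩ := hTmem ξ hξ
    refine ⟨τ₁ (conjFun φ), hmemT _ (hcS φ hφ), fun h => hreal φ hφ (hinj (hcS φ hφ) hφ h), ?_⟩
    rw [hτE φ hφ]
    exact supp_ind H L _ ((mem_zspanOn_one.1 (hEmem φ hφ)).2) (hvan _ (hEmem φ hφ).1)
  · intro ξ hξ
    obtain ⟨φ, hφ, rfl⟩ := hTmem ξ hξ
    rw [hk φ hφ, hτD φ hφ]
    exact supp_ind H L _ ((mem_zspanOn_one.1 (hDmem φ hφ)).2) (hvan _ (hDmem φ hφ).1)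
  · rw [hT, Finset.sum_image (fun x hx y hy h => hinj ((hmem x).1 hx) ((hmem y).1 hy) h), hm]
    apply Finset.sum_congr rfl
    intro φ hφ
    rw [hk φ ((hmem φ).1 hφ)]
  · intro ξ hξ
    obtain ⟨φ, hφ, rfl⟩ := hTmem ξ hξ
    exact horth1 φ hφ
  · intro Θ hΘ h z hz hz1
    have hΘcl : IsClassFunction L (fun l : L => Θ l) := fun g h => hΘ g h
    have h1 := key (fun l : L => Θ l) hΘcl (by
      intro φ hφ
      have h2 := h (τ₁ φ) (hmemT φ hφ)
      rw [hk φ hφ, hτD φ hφ, frob' L (D φ) Θ hΘ] at h2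
      exact h2) ⟨z, hHL.le hz⟩ (Subgroup.mem_subgroupOf.2 hz)
      (fun h => hz1 (congrArg Subtype.val h))
    rw [hβ, frob' L a Θ hΘ]
    exact h1
  · rw [hβ, hindconj]
    have h1 : conjFun a = a + E χ₀ := by
      simp only [ha, hE]
      rw [conjFun_sub]
      have : conjFun (rho K) = rho K := by
        funext x
        simp only [conjFun]
        by_cases hx : x ∈ K
        · rw [rho_mem K hx]; simp
        · rw [rho_not_mem K hx]; simp
      rw [this]; ring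
    rw [h1, indFun_add, ← hτE χ₀ hχ₀, hτconj χ₀ hχ₀]
    ring

end Cfsg.Agent.Lib.Helper32PartC
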