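import Cfsg.Agent.Lib.Helper32Sub2
import Cfsg.Agent.Lib.Helper32Dual
import Cfsg.Agent.Lib.Helper5Ind
import Cfsg.Agent.Lib.Helper5Clifford
import Cfsg.Agent.Lib.Helper82Mult
import Cfsg.Agent.Lib.Helper82Linear
import Cfsg.Agent.Lib.Helper82Schur
import Cfsg.Agent.Lib.Helper83Char

set_option autoImplicit false
set_option linter.unusedSectionVars false
open Cfsg

namespace Cfsg.Agent.Lib.Helper32SeqInd

open Cfsg.Agent.Lib.Helper4Char Cfsg.Agent.Lib.Helper4Char2 Cfsg.Agent.Lib.Helper4Char4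
open Cfsg.Agent.Lib.Helper32Virt Cfsg.Agent.Lib.Helper32Coh Cfsg.Agent.Lib.Helper32Sub
open Cfsg.Agent.Lib.Helper32Sub2 Cfsg.Agent.Lib.Helper5Ind Cfsg.Agent.Lib.Helper5Clifford
open Cfsg.Agent.Lib.Helper19Ind Cfsg.Agent.Lib.Helper32Ind
open scoped ComplexConjugate

section Basic

variable {L : Type*} [Group L] [Fintype L] {K A A' : Subgroup L}

theorem mono (h : A ≤ A') : inducedIrrAbove K A' ⊆ inducedIrrAbove K A := by
  rintro φ ⟨θ, h1, h2, h3, h4⟩
  exact ⟨θ, h1, h2, fun a ha => h3 a (h ha), h4⟩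

theorem subset_bot : inducedIrrAbove K A ⊆ inducedIrrAbove K ⊥ := mono bot_le

theorem conj_mem {φ : L → ℂ} (h : φ ∈ inducedIrrAbove K A) : conjFun φ ∈ inducedIrrAbove K A := by
  obtain ⟨θ, h1, h2, h3, rfl⟩ := h
  haveI : Fintype K := Fintype.ofFinite K
  refine ⟨fun k => conj (θ k), IsIrrCharacter.conj h1, ?_, ?_, ?_⟩
  · intro e
    apply h2
    funext k
    have := congrArg conj (congrFun e k)
    simpa using this
  · intro a ha
    simp only
    rw [h3 a ha]
  · exact indFun_conj K θ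

theorem mem_of_hom (f : K →* ℂˣ) (hf : f ≠ 1) (hA : ∀ a : K, (a : L) ∈ A → f a = 1) :
    indFun K (fun k => ((f k : ℂˣ) : ℂ)) ∈ inducedIrrAbove K A := by
  refine ⟨_, Cfsg.Agent.Lib.Helper82Linear.isIrrCharacter_of_hom f, ?_, ?_, rfl⟩
  · intro e
    apply hf
    ext k
    have := congrFun e k
    simpa using this
  · intro a ha
    simp [hA a ha]

/-- a proper normal subgroup of a solvable group lies in the kernel of a non-trivial linear
character. -/
theorem exists_hom {X : Type*} [Group X] [Finite X] [Group.IsSolvable X] (B : Subgroup X) [B.Normal]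
    (hB : B ≠ ⊤) : ∃ f : X →* ℂˣ, f ≠ 1 ∧ ∀ b ∈ B, f b = 1 := by
  haveI : Nontrivial (X ⧸ B) := by
    rw [← not_subsingleton_iff_nontrivial]
    intro h
    exact hB (QuotientGroup.subgroup_eq_top_of_subsingleton B h)
  have hlt := Group.IsSolvable.commutator_lt_top_of_nontrivial (X ⧸ B)
  obtain ⟨q, -, hq⟩ := SetLike.exists_of_lt hlt
  have hq' : Abelianization.of q ≠ 1 := by
    intro h
    apply hq
    rw [← Abelianization.ker_of, MonoidHom.mem_ker]
    exact h
  obtain ⟨φ, -, hφ⟩ := Cfsg.Agent.Lib.Helper32Dual.exists_triv_ne_one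
    (⊥ : Subgroup (Abelianization (X ⧸ B))) (x := Abelianization.of q)
    (by rw [Subgroup.mem_bot]; exact hq')
  obtain ⟨x, rfl⟩ := QuotientGroup.mk'_surjective B q
  refine ⟨(φ.comp Abelianization.of).comp (QuotientGroup.mk' B), ?_, ?_⟩
  · intro e
    apply hφ
    have := congrArg (fun g : X →* ℂˣ => g x) e
    simpa using this
  · intro b hb
    have : (QuotientGroup.mk' B) b = 1 := (QuotientGroup.eq_one_iff b).2 hb
    simp only [MonoidHom.comp_apply, this, map_one]

theorem exists_linear_mem [K.Normal] (hsolv : Group.IsSolvable K) [A.Normal] (hAK : A < K) :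
    ∃ ξ ∈ inducedIrrAbove K A, ξ 1 = (K.index : ℂ) := by
  have hne : A.subgroupOf K ≠ ⊤ := by
    intro h
    rw [Subgroup.subgroupOf_eq_top] at h
    exact absurd h (not_le_of_gt hAK)
  obtain ⟨f, hf, hfA⟩ := exists_hom (A.subgroupOf K) hne
  refine ⟨_, mem_of_hom f hf (fun a ha => hfA a ha), ?_⟩
  rw [Cfsg.Agent.Lib.Helper82Mult.indFun_one]
  simp

end Basic

section Sum

variable {L : Type*} [Group L] [Fintype L] (K A : Subgroup L) [hK : K.Normal] [hA : A.Normal]

open scoped Classical in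
/-- the function `|K:A| 1_A` on `K`. -/
noncomputable def fA : K → ℂ := fun k => if (k : L) ∈ A then (A.relIndex K : ℂ) else 0

theorem inner_fA [Fintype K] (φ : K → ℂ) :
    classInner (fA K A) φ =
      (Nat.card (A.subgroupOf K) : ℂ)⁻¹ * ∑ᶠ a : A.subgroupOf K, conj (φ a) := by
  classical
  haveI : Fintype (A.subgroupOf K) := Fintype.ofFinite _
  rw [finsum_eq_sum_of_fintype]
  unfold classInner fA
  have h1 : ∑ a : A.subgroupOf K, conj (φ a) = ∑ k : K, if k ∈ A.subgroupOf K then conj (φ k) else 0 :=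
    Cfsg.Agent.Lib.Helper83Char.sum_subgroup (A.subgroupOf K) (fun k => conj (φ k))
  have h2 : ∑ k : K, (if (k : L) ∈ A then (A.relIndex K : ℂ) else 0) * conj (φ k) =
      (A.relIndex K : ℂ) * ∑ k : K, if k ∈ A.subgroupOf K then conj (φ k) else 0 := by
    rw [Finset.mul_sum]
    apply Finset.sum_congr rfl
    intro k _
    by_cases hk : (k : L) ∈ A
    · rw [if_pos hk, if_pos (Subgroup.mem_subgroupOf.2 hk)]
    · rw [if_neg hk, if_neg (fun h => hk (Subgroup.mem_subgroupOf.1 h))]; simp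
  rw [h2, ← h1, ← mul_assoc]
  congr 1
  have h3 : Nat.card (A.subgroupOf K) * A.relIndex K = Nat.card K :=
    (A.subgroupOf K).card_mul_index
  have h4 : (Nat.card (A.subgroupOf K) : ℂ) ≠ 0 := Nat.cast_ne_zero.mpr Nat.card_pos.ne'
  have h5 : (A.relIndex K : ℂ) ≠ 0 := by
    intro h
    have : A.relIndex K = 0 := by exact_mod_cast h
    rw [this, mul_zero] at h3
    exact Nat.card_pos.ne' h3.symm
  rw [← h3]
  push_cast
  field_simp

theorem inner_fA_of_ker [Fintype K] (φ : K → ℂ) (h : ∀ a : K, (a : L) ∈ A → φ a = φ 1) :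
    classInner (fA K A) φ = conj (φ 1) := by
  classical
  haveI : Fintype (A.subgroupOf K) := Fintype.ofFinite _
  rw [inner_fA, finsum_eq_sum_of_fintype,
    Finset.sum_congr rfl (fun a _ => by rw [h a (Subgroup.mem_subgroupOf.1 a.2)]),
    Finset.sum_const, Finset.card_univ, ← Nat.card_eq_fintype_card, nsmul_eq_mul, ← mul_assoc,
    inv_mul_cancel₀ (Nat.cast_ne_zero.mpr Nat.card_pos.ne'), one_mul]

theorem inner_fA_irr [Fintype K] (θ : IrrCharacter K)
    (h : ¬ ∀ a : K, (a : L) ∈ A → (θ : K → ℂ) a = (θ : K → ℂ) 1) :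
    classInner (fA K A) θ = 0 := by
  classical
  haveI : Fintype (A.subgroupOf K) := Fintype.ofFinite _
  rcases Cfsg.Agent.Lib.Helper82Schur.irr_sum_normal_eq_zero_or θ (A.subgroupOf K) with h1 | h1
  · exact absurd (fun a ha => h1 a (Subgroup.mem_subgroupOf.2 ha)) h
  · have h2 := h1 1
    simp only [one_mul] at h2
    rw [inner_fA, finsum_eq_sum_of_fintype, ← map_sum, h2, map_zero, mul_zero]

theorem fA_isClassFunction : IsClassFunction K (fA K A) := by
  intro g h
  unfold fA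
  have : ((h * g * h⁻¹ : K) : L) ∈ A ↔ (g : L) ∈ A := by
    constructor
    · intro hm
      have := hA.conj_mem _ hm (h : L)⁻¹
      simpa [mul_assoc] using this
    · intro hm
      exact hA.conj_mem _ hm (h : L)
  by_cases hg : (g : L) ∈ A
  · rw [if_pos hg, if_pos (this.2 hg)]
  · rw [if_neg hg, if_neg (fun hh => hg (this.1 hh))]

/-- the function `|K:A| 1_A - 1` on `K`. -/
noncomputable def f₀ : K → ℂ := fA K A - fun _ => 1

open scoped Classical in
theorem inner_f₀_irr [Fintype K] (θ : IrrCharacter K) :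
    classInner (f₀ K A) θ = if ((θ : K → ℂ) ≠ (fun _ => 1) ∧
      ∀ a : K, (a : L) ∈ A → (θ : K → ℂ) a = (θ : K → ℂ) 1) then (θ : K → ℂ) 1 else 0 := by
  have hone : IsIrrCharacter K (fun _ => (1 : ℂ)) := Cfsg.Agent.Lib.Helper82Linear.isIrrCharacter_one
  unfold f₀
  rw [classInner_sub_left]
  by_cases h1 : (θ : K → ℂ) = fun _ => 1
  · rw [if_neg (fun h => h.1 h1), h1, inner_fA_of_ker K A _ (fun _ _ => rfl),
      classInner_irr_self hone]
    simp
  · rw [classInner_irr_ne hone θ.2 (Ne.symm h1), sub_zero]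
    by_cases h2 : ∀ a : K, (a : L) ∈ A → (θ : K → ℂ) a = (θ : K → ℂ) 1
    · rw [if_pos ⟨h1, h2⟩, inner_fA_of_ker K A _ h2,
        IsCharacter.conj_degree (IsIrrCharacter.isCharacter θ.2)]
    · rw [if_neg (fun h => h2 h.2), inner_fA_irr K A θ h2]

theorem rho_mem : indFun K (f₀ K A) ∈ zspan (inducedIrrAbove K A) := by
  classical
  haveI : Fintype K := Fintype.ofFinite K
  have hcl : IsClassFunction K (f₀ K A) :=
    IsClassFunction.sub (fA_isClassFunction K A) (fun _ _ => rfl)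
  rw [classFunction_eq_sum (f₀ K A) hcl, indFun_sum]
  apply zspan_sum
  intro θ _
  rw [indFun_smul, inner_f₀_irr]
  split_ifs with h
  · obtain ⟨n, hn⟩ := IsCharacter.exists_degree (IsIrrCharacter.isCharacter θ.2)
    rw [hn, natCast_smul_eq]
    exact zspan_zsmul _ (zspan_of_mem ⟨θ, θ.2, h.1, h.2, rfl⟩)
  · rw [zero_smul]; exact zspan_zero

theorem rho_one : indFun K (f₀ K A) 1 = (K.index : ℂ) * ((A.relIndex K : ℂ) - 1) := by
  rw [Cfsg.Agent.Lib.Helper82Mult.indFun_one]
  unfold f₀ fA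
  simp [A.one_mem]

theorem ind_apply_of_ker (θ : K → ℂ) (h : ∀ a : K, (a : L) ∈ A → θ a = θ 1) (a : L) (ha : a ∈ A)
    (hAK : A ≤ K) : indFun K θ a = indFun K θ 1 := by
  rw [indFun_apply, indFun_apply]
  congr 1
  apply Finset.sum_congr rfl
  intro x _
  have hm : x⁻¹ * a * x ∈ A := by
    have := hA.conj_mem a ha x⁻¹
    simpa using this
  have e1 : x⁻¹ * 1 * x = ((1 : K) : L) := by simp
  rw [extendByZero_of_mem K θ (hAK hm), h _ hm, e1, extendByZero_coe]

theorem inner_rho (hAK : A ≤ K) {χ : L → ℂ} (hχ : χ ∈ inducedIrrAbove K A) :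
    classInner (indFun K (f₀ K A)) χ = χ 1 := by
  classical
  haveI : Fintype K := Fintype.ofFinite K
  obtain ⟨θ, h1, h2, h3, rfl⟩ := hχ
  have hone : IsIrrCharacter K (fun _ => (1 : ℂ)) := Cfsg.Agent.Lib.Helper82Linear.isIrrCharacter_one
  have hcl := indFun_isClassFunction K θ
  rw [frobenius K _ _ hcl]
  unfold f₀
  rw [classInner_sub_left, inner_fA_of_ker K A _
    (fun a ha => ind_apply_of_ker K A θ h3 a ha hAK), ← frobenius K _ _ hcl]
  have hz : classInner (indFun K (fun _ => (1 : ℂ))) (indFun K θ) = 0 := by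
    have h4 := classInner_ind_ind hK (fun _ => (1 : ℂ)) θ
    rw [Finset.sum_eq_zero] at h4
    · rcases mul_eq_zero.1 h4 with h | h
      · exact absurd h (Nat.cast_ne_zero.mpr Nat.card_pos.ne')
      · exact h
    · intro x _
      apply classInner_irr_ne hone (cj_isIrr hK h1 x)
      intro e
      apply h2
      funext k
      have h5 := congrFun e ⟨x⁻¹ * k * x, by
        have := hK.conj_mem k k.2 x⁻¹
        simpa using this⟩
      rw [cj_apply] at h5
      have h6 : (⟨x * ((⟨x⁻¹ * k * x, by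
        have := hK.conj_mem k k.2 x⁻¹
        simpa using this⟩ : K) : L) * x⁻¹, hK.conj_mem _ (Subtype.prop _) x⟩ : K) = k := by
        apply Subtype.ext
        simp [mul_assoc]
      rw [h6] at h5
      exact h5.symm
  rw [hz, sub_zero]
  have e1 : ((1 : K) : L) = 1 := rfl
  rw [e1, Cfsg.Agent.Lib.Helper82Mult.indFun_one, map_mul, Complex.conj_natCast,
    IsCharacter.conj_degree (IsIrrCharacter.isCharacter h1)]

theorem sum_formula (hAK : A ≤ K) (sA : Finset (L → ℂ))
    (hsA : (↑sA : Set (L → ℂ)) = inducedIrrAbove K A) (hO : Orth sA) :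
    ∑ χ ∈ sA, χ 1 / classInner χ χ * χ 1 = (K.index : ℂ) * ((A.relIndex K : ℂ) - 1) := by
  have h1 := expand hO (θ := indFun K (f₀ K A)) (by rw [hsA]; exact rho_mem K A)
  have h2 := congrFun h1 1
  rw [rho_one, Finset.sum_apply] at h2
  rw [h2]
  apply Finset.sum_congr rfl
  intro χ hχ
  have hχ' : χ ∈ inducedIrrAbove K A := by rw [← hsA]; exact hχ
  rw [Pi.smul_apply, smul_eq_mul, coef, inner_rho K A hAK hχ']

end Sum

end Cfsg.Agent.Lib.Helper32SeqInd
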