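import Cfsg.Agent.Lib.Helper32Div
import Cfsg.Agent.Lib.Helper32Link
import Cfsg.Agent.Lib.Helper32Nil2
import Cfsg.Agent.S1522

set_option autoImplicit false
set_option linter.unusedSectionVars false
open Cfsg

namespace Cfsg.Agent.Lib.Helper32Sibley

open Cfsg.Agent.Lib.Helper4Char Cfsg.Agent.Lib.Helper4Char2 Cfsg.Agent.Lib.Helper4Char4
open Cfsg.Agent.Lib.Helper32Virt Cfsg.Agent.Lib.Helper32Coh Cfsg.Agent.Lib.Helper32Sub
open Cfsg.Agent.Lib.Helper32Sub2 Cfsg.Agent.Lib.Helper32SeqInd Cfsg.Agent.Lib.Helper32Extend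
open Cfsg.Agent.Lib.Helper32Frob2 Cfsg.Agent.Lib.Helper32Ind Cfsg.Agent.Lib.Helper19Ind
open Cfsg.Agent.Lib.Helper5Ind Cfsg.Agent.Lib.Helper32TI Cfsg.Agent.Lib.Helper32FrobGrp
open Cfsg.Agent.Lib.Helper32Div Cfsg.Agent.Lib.Helper32Link Cfsg.Agent.Lib.Helper32Nil2

variable {G : Type*} [Group G] [Fintype G]

/-- a `p`-subgroup whose index in its normaliser is prime to `p` is a Sylow subgroup. -/
theorem not_dvd_index (p m : ℕ) [Fact p.Prime] (H L : Subgroup G)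
    (hN : Subgroup.normalizer (H : Set G) = L) (hcard : Nat.card H = p ^ m)
    (h : ¬ p ∣ (H.subgroupOf L).index) : ¬ p ∣ H.index := by
  subst hN
  have h1 := Sylow.card_quotient_normalizer_modEq_card_quotient hcard
  intro hd
  apply h
  have h2 : Nat.card (G ⧸ H) ≡ 0 [MOD p] := (Nat.modEq_zero_iff_dvd).2 hd
  exact (Nat.modEq_zero_iff_dvd).1 (h1.trans h2)

/-- the arithmetic for the last extension step. -/
theorem arith_ext (e z q n₀ n₁ k : ℕ) (he : Odd e) (hz : Odd z) (hz1 : 1 < z) (hq : 0 < q)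
    (h0 : e * n₀ + 1 = z * q) (h1 : e * n₁ + 1 = q) (hk : e * k ^ 2 ≤ e * n₁) :
    2 * e * k < q * (z - 1) := by
  obtain ⟨z', rfl⟩ : ∃ z', z = z' + 1 := ⟨z - 1, by omega⟩
  have he0 : 0 < e := he.pos
  have hz'0 : 0 < z' := by omega
  simp only [Nat.add_sub_cancel]
  -- `e ∣ z'`
  have h2 : e * n₀ = z' * q + e * n₁ := by nlinarith
  have h3 : e ∣ z' * q := (Nat.dvd_add_left (Dvd.intro _ rfl)).1 (h2 ▸ Dvd.intro _ rfl)
  have hcop : Nat.Coprime e q := by
    rw [← h1]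
    have : Nat.Coprime e (e * n₁ + 1) := by
      rw [Nat.coprime_mul_left_add_right]
      exact Nat.coprime_one_right e
    exact this
  have h4 : e ∣ z' := hcop.dvd_of_dvd_mul_right h3
  have h5 : Even z' := by
    rcases Nat.even_or_odd z' with h | h
    · exact h
    · exact absurd hz (Nat.not_odd_iff_even.2 (h.add_odd odd_one))
  have h6 : 2 * e ∣ z' :=
    Nat.Coprime.mul_dvd_of_dvd_of_dvd (Nat.coprime_two_left.2 he) h5.two_dvd h4
  have h7 : 2 * e ≤ z' := Nat.le_of_dvd hz'0 h6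
  have h8 : k < q := by
    have h9 : k ^ 2 ≤ n₁ := Nat.le_of_mul_le_mul_left hk he0
    have h10 : k ≤ k ^ 2 := Nat.le_self_pow (by norm_num) k
    have h11 : n₁ ≤ e * n₁ := Nat.le_mul_of_pos_left _ he0
    omega
  calc 2 * e * k ≤ z' * k := Nat.mul_le_mul_right _ h7
    _ < z' * q := Nat.mul_lt_mul_of_pos_left h8 hz'0
    _ = q * z' := Nat.mul_comm _ _

/-- Peterfalvi (6.8), Frobenius case, in terms of the centraliser condition. -/
theorem core (H L : Subgroup G) [Fintype L] [hKn : (H.subgroupOf L).Normal]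
    (hodd : Odd (Nat.card L)) (hHL : H ≤ L) (hH1 : H ≠ ⊥) (hKL : H.subgroupOf L < ⊤)
    (hnil : Group.IsNilpotent (H.subgroupOf L))
    (hC : ∀ y : L, y ∉ H.subgroupOf L → ∀ c ∈ H.subgroupOf L, y * c = c * y → c = 1)
    (hTI : IsTISubset (H : Set G)) (hN : Subgroup.normalizer (H : Set G) = L) :
    IsCoherent (inducedIrrAbove (H.subgroupOf L) ⊥) {1}ᶜ (fun α : L → ℂ => indFun L α) := by
  classical
  set K := H.subgroupOf L with hKdef
  have hsolv : Group.IsSolvable K := inferInstance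
  have hK1 : K ≠ ⊥ := by
    intro h
    apply hH1
    rw [Subgroup.eq_bot_iff_forall]
    intro x hx
    have h1 : (⟨x, hHL hx⟩ : L) ∈ K := Subgroup.mem_subgroupOf.2 hx
    rw [h, Subgroup.mem_bot] at h1
    exact congrArg Subtype.val h1
  have hnil' : Group.IsNilpotent (↥K ⧸ (⊥ : Subgroup L).subgroupOf K) := inferInstance
  have hH₁K : ⁅K, K⁆ < K := by
    have := Cfsg.Agent.S1520.comm_lt ⊥ K K (bot_lt_iff_ne_bot.2 hK1) le_rfl hnil'
    rwa [sup_bot_eq] at this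
  have hirr := all_irr K hC
  have hreal := not_real K hC hodd hKL
  have hne : (inducedIrrAbove K ⊥).Nonempty := by
    obtain ⟨ξ, hξ, -⟩ := exists_linear_mem hsolv (bot_lt_iff_ne_bot.2 hK1)
    exact ⟨ξ, hξ⟩
  obtain ⟨R, hS⟩ := system H L hTI hN hne hirr hreal
  have hfrob := quot_frob K hC ⁅K, K⁆ (Subgroup.commutator_le_left K K)
  by_cases hgood : (¬ ∃ p m : ℕ, p.Prime ∧ (⊥ : Subgroup L).relIndex K = p ^ m) ∨ ⁅K, K⁆ ≤ ⊥
  · apply Cfsg.Agent.S1521.result K hsolv _ R hS hodd ⊥ bot_le hnil' ⁅K, K⁆ (sup_bot_eq _).symm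
      hH₁K hKL hfrob
    rcases hgood with h | h
    · exact Or.inr (Or.inr (Or.inl h))
    · exact Or.inr (Or.inr (Or.inr (Or.inl h)))
  push Not at hgood
  obtain ⟨⟨p, m, hp, hm⟩, hna⟩ := hgood
  have := Fact.mk hp
  rw [Subgroup.relIndex_bot_left] at hm
  set τ : (L → ℂ) → (G → ℂ) := fun α : L → ℂ => indFun L α with hτdef
  set S := inducedIrrAbove K ⊥ with hSdef
  set Z : Subgroup L := ⁅K, K⁆ ⊓ Subgroup.centralizer (K : Set L) with hZdef
  have hZ1 : Z ≠ ⊥ := exists_central K hnil' _ ⁅K, K⁆ inferInstance rfl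
    (fun h => hna (h ▸ le_rfl)) (Subgroup.commutator_le_left K K)
  have hZK : Z ≤ K := inf_le_left.trans (Subgroup.commutator_le_left K K)
  have hZc : ∀ z ∈ Z, ∀ k ∈ K, z * k = k * z := fun z hz k hk =>
    (Subgroup.mem_centralizer_iff.1 hz.2 k hk).symm
  obtain ⟨hXeq, hXcoh⟩ := Cfsg.Agent.S1522.result K hsolv τ R hS hodd hnil hH₁K hKL hfrob Z hZ1 hZK
    hZc (fun χ hχ => hirr χ hχ.1)
  have hYcoh := coherent_linear K ⁅K, K⁆ hsolv hS le_rfl hH₁K
  set X := S \ inducedIrrAbove K Z with hXdef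
  set Y := inducedIrrAbove K ⁅K, K⁆ with hYdef
  obtain ⟨⟨α₀, hα₀, hα₀ne⟩, σ, hσ, hσα⟩ := hXcoh
  obtain ⟨-, τ₁, hτ, hτα⟩ := hYcoh
  have hXS : X ⊆ S := Set.sdiff_subset
  have hYS : Y ⊆ S := subset_bot
  have hYZ : Y ⊆ inducedIrrAbove K Z := mono inf_le_left
  have hXY : Disjoint X Y := by
    rw [Set.disjoint_left]
    intro a ha hb
    exact ha.2 (hYZ hb)
  have hXc : ∀ χ ∈ X, conjFun χ ∈ X ∧ conjFun χ ≠ χ := by
    intro χ hχ
    refine ⟨⟨conj_mem hχ.1, fun h => hχ.2 ?_⟩, hreal χ hχ.1⟩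
    have := conj_mem h
    rwa [conjFun_conjFun] at this
  have hYc : ∀ χ ∈ Y, conjFun χ ∈ Y ∧ conjFun χ ≠ χ := fun χ hχ =>
    ⟨conj_mem hχ, hreal χ (hYS hχ)⟩
  obtain ⟨χ, hχ⟩ : X.Nonempty := by
    by_contra hc
    rw [Set.not_nonempty_iff_eq_empty] at hc
    apply hα₀ne
    have h1 := hα₀.1
    rw [hc] at h1
    unfold zspan at h1
    rw [Submodule.span_empty] at h1
    exact h1
  obtain ⟨ξ, hξ, hξ1⟩ := exists_linear_mem hsolv hH₁K
  -- degree function
  have hkex : ∀ φ : L → ℂ, ∃ k : ℕ, φ ∈ S → (0 < k ∧ φ 1 = ((K.index * k : ℕ) : ℂ)) := by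
    intro φ
    by_cases hφ : φ ∈ S
    · obtain ⟨k, h0, h1⟩ := degree_mul K hφ
      exact ⟨k, fun _ => ⟨h0, h1⟩⟩
    · exact ⟨0, fun h => absurd h hφ⟩
  choose k hk using hkex
  have he0 : 0 < K.index := Nat.pos_of_ne_zero Subgroup.index_ne_zero_of_finite
  have hα := hS.isometry
  have hα1 := hS.map_one
  -- finite sets
  have hfin := finite hS
  set sS := hfin.toFinset with hsS
  have hmemS : ∀ φ, φ ∈ sS ↔ φ ∈ S := fun φ => hfin.mem_toFinset
  have hcoeA : ∀ A : Subgroup L, (↑(sS.filter (fun φ => φ ∈ inducedIrrAbove K A)) : Set (L → ℂ)) =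
      inducedIrrAbove K A := by
    intro A
    ext φ
    rw [Finset.mem_coe, Finset.mem_filter, hmemS]
    exact ⟨fun h => h.2, fun h => ⟨subset_bot h, h⟩⟩
  have hsq : ∀ (A : Subgroup L) [A.Normal], A ≤ K →
      K.index * ∑ φ ∈ sS.filter (fun φ => φ ∈ inducedIrrAbove K A), k φ ^ 2 + 1 = A.relIndex K :=
    fun A _ hA => sum_sq K hirr A hA _ (hcoeA A) k (fun φ hφ => (hk φ hφ).2)
  -- the Sylow subgroup
  have hcardH : Nat.card H = p ^ m := by
    rw [← hm]; exact (Nat.card_congr (Subgroup.subgroupOfEquivOfLe hHL).toEquiv).symm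
  have hcop : ¬ p ∣ K.index := by
    intro hd
    have h1 := hsq ⁅K, K⁆ hH₁K.le
    have h5 : (⁅K, K⁆ : Subgroup L).relIndex K ∣ p ^ m := by
      rw [← hm]; exact Subgroup.relIndex_dvd_card _ K
    obtain ⟨j, -, hj⟩ := (Nat.dvd_prime_pow hp).1 h5
    have hj0 : j ≠ 0 := by
      intro h; subst h; rw [pow_zero] at hj
      exact absurd (Subgroup.relIndex_eq_one.1 hj) (not_le_of_gt hH₁K)
    have h6 : p ∣ K.index * ∑ φ ∈ sS.filter (fun φ => φ ∈ inducedIrrAbove K ⁅K, K⁆), k φ ^ 2 + 1 := by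
      rw [h1, hj]; exact dvd_pow_self p hj0
    have h7 : p ∣ 1 := (Nat.dvd_add_right (Dvd.dvd.mul_right hd _)).1 h6
    exact hp.one_lt.ne' (Nat.dvd_one.1 h7)
  have hidx := not_dvd_index p m H L hN hcardH hcop
  set P : Sylow p G := (IsPGroup.of_card hcardH).toSylow hidx with hP
  have hPH : (P : Subgroup G) = H := rfl
  set ZG : Subgroup G := Z.map L.subtype with hZG
  have memZG : ∀ z : L, (z : G) ∈ ZG ↔ z ∈ Z := by
    intro z
    constructor
    · rintro ⟨z', hz', e⟩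
      have : z' = z := Subtype.ext e
      rwa [← this]
    · intro hz
      exact ⟨z, hz, rfl⟩
  have hX2 : ∃ a ∈ X, ∃ b ∈ X, a ≠ b := ⟨_, (hXc χ hχ).1, χ, hχ, (hXc χ hχ).2⟩
  have hY2 : ∃ a ∈ Y, ∃ b ∈ Y, a ≠ b := ⟨_, (hYc ξ hξ).1, ξ, hξ, (hYc ξ hξ).2⟩
  have orth := Cfsg.Agent.S1531.part1 S X Y hirr hXS hYS hXY hX2 hY2 τ hα hα1 σ τ₁ hσ hσα hτ hτα
  have hξc := (hYc ξ hξ).1
  set η := τ₁ (conjFun ξ) with hη
  have hηs : SIrr G η := iso_sirr (fun υ hυ => hirr υ (hYS hυ)) hτ hξc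
  have hηres : IsGeneralizedCharacter L (fun l : L => η l) := by
    obtain ⟨a, b, ha, hb, e⟩ := hηs.gen
    refine ⟨fun l : L => a l, fun l : L => b l, IsCharacter.restrict L ha,
      IsCharacter.restrict L hb, ?_⟩
    funext l
    rw [e]; rfl
  have hηcl : IsClassFunction G η := gen_isClassFunction hηs.gen
  have hprop : ∀ φ : IrrCharacter L,
      (∃ z : L, (z : G) ∈ ZG ∧ (φ : L → ℂ) z ≠ (φ : L → ℂ) 1) →
      χ 1 * classInner (fun l : L => η l) φ =
        (φ : L → ℂ) 1 * classInner (fun l : L => η l) χ := by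
    rintro φ ⟨z, hz, hne'⟩
    have hφX : (φ : L → ℂ) ∈ X := by
      rw [hXeq]
      exact ⟨φ.2, z, (memZG z).1 hz, hne'⟩
    have hmem := Cfsg.Agent.S1531.diff_mem hχ hφX _ _ (hk χ hχ.1).2 (hk _ hφX.1).2
    have h1 := Cfsg.Agent.Lib.Helper32Ind.frobenius L (((K.index * k (φ : L → ℂ) : ℕ) : ℤ) • χ -
      ((K.index * k χ : ℕ) : ℤ) • (φ : L → ℂ)) η hηcl
    have h2 := hσα _ hmem
    change _ = indFun L _ at h2
    rw [← h2, iso_sub closed_zspan hσ (zspan_zsmul _ (zspan_of_mem hχ))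
      (zspan_zsmul _ (zspan_of_mem hφX)), iso_zsmul hσ _ (zspan_of_mem hχ),
      iso_zsmul hσ _ (zspan_of_mem hφX), classInner_sub_left, classInner_sub_left,
      classInner_zsmul_left, classInner_zsmul_left, classInner_zsmul_left, classInner_zsmul_left,
      orth χ hχ _ hξc, orth _ hφX _ hξc,
      gen_inner_comm (gen_of_irr (hirr χ hχ.1)) hηres, gen_inner_comm (gen_of_irr φ.2) hηres] at h1
    rw [(hk χ hχ.1).2, (hk _ hφX.1).2]
    push_cast at h1 ⊢
    linear_combination h1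
  obtain ⟨y, hy⟩ := div_sirr p P L hN hTI hodd ZG
    (by
      intro h
      apply hZ1
      rw [Subgroup.eq_bot_iff_forall] at h ⊢
      intro z hz
      exact Subtype.ext (h z ((memZG z).2 hz)))
    (by
      rintro _ ⟨z, hz, rfl⟩
      exact Subgroup.mem_subgroupOf.1 (hZK hz))
    (by
      rintro x hx _ ⟨z, hz, rfl⟩
      have hZn : Z.Normal := inferInstance
      exact ⟨⟨x, hx⟩ * z * ⟨x, hx⟩⁻¹, hZn.conj_mem z hz ⟨x, hx⟩, rfl⟩)
    (by
      rintro _ ⟨z, hz, rfl⟩ w hw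
      have := hZc z hz ⟨w, hHL hw⟩ (Subgroup.mem_subgroupOf.2 hw)
      exact congrArg Subtype.val this)
    (by
      rintro _ ⟨z, hz, rfl⟩ hz1
      apply le_antisymm
      · rintro w ⟨hwL, hwc⟩
        by_contra hwH
        apply hz1
        have h1 := hC ⟨w, hwL⟩ (fun h => hwH (Subgroup.mem_subgroupOf.1 h)) z (hZK hz)
          (Subtype.ext (Subgroup.mem_centralizer_singleton_iff.1 hwc))
        rw [h1]; rfl
      · intro w hw
        refine ⟨hHL hw, Subgroup.mem_centralizer_singleton_iff.2 ?_⟩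
        have := hZc z hz ⟨w, hHL hw⟩ (Subgroup.mem_subgroupOf.2 hw)
        exact (congrArg Subtype.val this).symm)
    η hηs χ (hirr χ hχ.1) (k χ) K.index
    (by
      rw [hPH, ← K.card_mul_index, mul_comm,
        Nat.card_congr (Subgroup.subgroupOfEquivOfLe hHL).toEquiv])
    (by rw [(hk χ hχ.1).2]; push_cast; ring) hprop
  obtain ⟨w, hw⟩ := gen_inner_int (gen_of_irr (hirr ξ (hYS hξ))) hηres
  have ha : ip (τ (χ - (k χ : ℤ) • ξ)) η = (k χ : ℝ) * ((y - w : ℤ) : ℝ) := by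
    unfold ip
    change (classInner (indFun L _) η).re = _
    rw [Cfsg.Agent.Lib.Helper32Ind.frobenius L _ η hηcl, classInner_sub_left, classInner_zsmul_left, hw,
      gen_inner_comm (gen_of_irr (hirr χ hχ.1)) hηres, hy]
    have : (k χ : ℂ) * (y : ℂ) - ((k χ : ℤ) : ℂ) * (w : ℂ) =
        (((k χ : ℝ) * ((y - w : ℤ) : ℝ) : ℝ) : ℂ) := by
      push_cast; ring
    rw [this, Complex.ofReal_re]
  have hlink := link S X Y hirr hXS hYS hXY hXc hYc τ hα hα1 σ τ₁ hσ hσα hτ hτα χ ξ hχ hξ (k χ)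
    (by rw [(hk χ hχ.1).2, hξ1]; push_cast; ring) (y - w) ha
  -- the last extension
  set sB := sS.filter (fun φ => φ ∈ inducedIrrAbove K Z) with hsB
  set sX := sS.filter (fun φ => ¬ φ ∈ inducedIrrAbove K Z) with hsX
  set sA := sS.filter (fun φ => φ ∈ X ∨ φ ∈ Y) with hsA
  have hcoeAXY : (↑sA : Set (L → ℂ)) = X ∪ Y := by
    ext φ
    rw [Finset.mem_coe, Finset.mem_filter, hmemS]
    constructor
    · exact fun h => h.2
    · rintro (h | h)
      · exact ⟨hXS h, Or.inl h⟩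
      · exact ⟨hYS h, Or.inr h⟩
  have hunion : (↑(sA ∪ sB) : Set (L → ℂ)) = S := by
    ext φ
    rw [Finset.mem_coe, Finset.mem_union, Finset.mem_filter, Finset.mem_filter, hmemS]
    constructor
    · rintro (h | h)
      · exact h.1
      · exact h.1
    · intro h
      by_cases hz : φ ∈ inducedIrrAbove K Z
      · exact Or.inr ⟨h, hz⟩
      · exact Or.inl ⟨h, Or.inl ⟨h, hz⟩⟩
  have hkξ : k ξ = 1 := by
    have h1 := (hk ξ (hYS hξ)).2
    rw [hξ1] at h1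
    have h2 : K.index = K.index * k ξ := by exact_mod_cast h1
    exact (Nat.eq_of_mul_eq_mul_left he0 (by rw [mul_one]; exact h2)).symm
  rw [← hunion]
  apply extend_all hS (fun φ => K.index * k φ) (fun _ => 1) (fun φ hφ => (hk φ hφ).2)
    (fun φ hφ => by rw [classInner_irr_self (hirr φ hφ)]; simp) sA sB
    (by rw [hcoeAXY]; exact Set.union_subset hXS hYS)
    (by rw [hsB, hcoeA Z]; exact subset_bot)
    (by
      intro φ hφ
      rw [hsA, Finset.mem_filter, hmemS] at hφ ⊢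
      refine ⟨conj_mem hφ.1, ?_⟩
      rcases hφ.2 with h | h
      · exact Or.inl (hXc φ h).1
      · exact Or.inr (hYc φ h).1)
    (by
      intro φ hφ
      rw [hsB, Finset.mem_filter, hmemS] at hφ ⊢
      exact ⟨conj_mem hφ.1, conj_mem hφ.2⟩)
    (by rw [hcoeAXY]; exact hlink) ξ
    (by rw [hsA, Finset.mem_filter, hmemS]; exact ⟨hYS hξ, Or.inr hξ⟩)
    (by
      intro φ _
      rw [hkξ, mul_one]
      exact Dvd.intro _ rfl)
  intro φ hφ
  have h0 := hsq ⊥ bot_le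
  have h1 := hsq Z hZK
  rw [Subgroup.relIndex_bot_left] at h0
  have hall : sS.filter (fun φ => φ ∈ inducedIrrAbove K ⊥) = sS := by
    apply Finset.filter_true_of_mem
    intro ν hν
    exact (hmemS ν).1 hν
  rw [hall] at h0
  have hZcard : Nat.card Z * Z.relIndex K = Nat.card K := by
    rw [← Nat.card_congr (Subgroup.subgroupOfEquivOfLe hZK).toEquiv]
    exact (Z.subgroupOf K).card_mul_index
  have hoddK : Odd K.index := Odd.of_dvd_nat hodd (Subgroup.index_dvd_card K)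
  have hoddZ : Odd (Nat.card Z) := Odd.of_dvd_nat hodd (Subgroup.card_subgroup_dvd_card Z)
  have hsplit := Finset.sum_filter_add_sum_filter_not sS (fun φ => φ ∈ inducedIrrAbove K Z)
    (fun φ => k φ ^ 2)
  have har := arith_ext K.index (Nat.card Z) (Z.relIndex K) (∑ ν ∈ sS, k ν ^ 2)
    (∑ ν ∈ sB, k ν ^ 2) (k φ) hoddK hoddZ ((Subgroup.one_lt_card_iff_ne_bot Z).2 hZ1)
    (Nat.pos_of_ne_zero Subgroup.index_ne_zero_of_finite) (by rw [h0, hZcard]) h1
    (Nat.mul_le_mul_left _ (Finset.single_le_sum (f := fun ν => k ν ^ 2)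
      (fun _ _ => Nat.zero_le _) hφ))
  have hq : Z.relIndex K * (Nat.card Z - 1) = K.index * ∑ ν ∈ sX, k ν ^ 2 := by
    have hz1 : 1 ≤ Nat.card Z := Nat.card_pos
    obtain ⟨z', hz'⟩ : ∃ z', Nat.card Z = z' + 1 := ⟨Nat.card Z - 1, by omega⟩
    rw [hz'] at hZcard ⊢
    simp only [Nat.add_sub_cancel]
    have h5 : K.index * ∑ ν ∈ sS, k ν ^ 2 =
        K.index * ∑ ν ∈ sB, k ν ^ 2 + K.index * ∑ ν ∈ sX, k ν ^ 2 := by
      rw [← mul_add, hsplit]
    nlinarith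
  have hsub : sX ⊆ sA := by
    intro ν hν
    rw [hsX, Finset.mem_filter, hmemS] at hν
    rw [hsA, Finset.mem_filter, hmemS]
    exact ⟨hν.1, Or.inl ⟨hν.1, hν.2⟩⟩
  have hle : ∑ ν ∈ sX, k ν ^ 2 ≤ ∑ ν ∈ sA, k ν ^ 2 :=
    Finset.sum_le_sum_of_subset hsub
  have hfinal : 2 * (K.index * k φ) * (K.index * k ξ) < ∑ ν ∈ sA, (K.index * k ν) ^ 2 := by
    have h9 : ∑ ν ∈ sA, (K.index * k ν) ^ 2 = K.index * (K.index * ∑ ν ∈ sA, k ν ^ 2) := by
      rw [Finset.mul_sum, Finset.mul_sum]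
      exact Finset.sum_congr rfl (fun ν _ => by ring)
    rw [h9, hkξ, mul_one]
    calc 2 * (K.index * k φ) * K.index = K.index * (2 * K.index * k φ) := by ring
      _ < K.index * (K.index * ∑ ν ∈ sX, k ν ^ 2) := by
          apply Nat.mul_lt_mul_of_pos_left _ he0
          rw [← hq]; exact har
      _ ≤ K.index * (K.index * ∑ ν ∈ sA, k ν ^ 2) :=
          Nat.mul_le_mul_left _ (Nat.mul_le_mul_left _ hle)
  have hcast : ((2 * (K.index * k φ) * (K.index * k ξ) : ℕ) : ℝ) <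
      ((∑ ν ∈ sA, (K.index * k ν) ^ 2 : ℕ) : ℝ) := by exact_mod_cast hfinal
  simp only [Nat.cast_one, div_one]
  push_cast at hcast ⊢
  exact hcast

end Cfsg.Agent.Lib.Helper32Sibley
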