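import Cfsg.Agent.Lib.Helper32Coh

set_option autoImplicit false
set_option linter.unusedSectionVars false
open Cfsg

namespace Cfsg.Agent.Lib.Helper32Sub

open Cfsg.Agent.Lib.Helper4Char Cfsg.Agent.Lib.Helper4Char2 Cfsg.Agent.Lib.Helper4Char4
open Cfsg.Agent.Lib.Helper32Virt Cfsg.Agent.Lib.Helper32Coh
open scoped ComplexConjugate

section IP

variable {G : Type*} [Group G] [Fintype G]

/-- the real part of the inner product: a real symmetric positive definite form. -/
noncomputable def ip (u w : G → ℂ) : ℝ := (classInner u w).re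

theorem ip_comm (u w : G → ℂ) : ip u w = ip w u := by
  unfold ip
  rw [← classInner_conj_symm u w, Complex.conj_re]

theorem ip_add_left (a b w : G → ℂ) : ip (a + b) w = ip a w + ip b w := by
  unfold ip; rw [classInner_add_left, Complex.add_re]

theorem ip_add_right (w a b : G → ℂ) : ip w (a + b) = ip w a + ip w b := by
  unfold ip; rw [classInner_add_right, Complex.add_re]

theorem ip_sub_left (a b w : G → ℂ) : ip (a - b) w = ip a w - ip b w := by
  unfold ip; rw [classInner_sub_left, Complex.sub_re]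

theorem ip_sub_right (w a b : G → ℂ) : ip w (a - b) = ip w a - ip w b := by
  unfold ip; rw [classInner_sub_right, Complex.sub_re]

theorem ip_neg_left (a w : G → ℂ) : ip (-a) w = - ip a w := by
  unfold ip; rw [classInner_neg_left, Complex.neg_re]

theorem ip_neg_right (w a : G → ℂ) : ip w (-a) = - ip w a := by
  unfold ip; rw [classInner_neg_right, Complex.neg_re]

theorem ip_zero_left (w : G → ℂ) : ip 0 w = 0 := by
  unfold ip; rw [classInner_zero_left, Complex.zero_re]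

theorem ip_zero_right (w : G → ℂ) : ip w 0 = 0 := by
  unfold ip; rw [classInner_zero_right, Complex.zero_re]

theorem ip_smul_left (c : ℝ) (a w : G → ℂ) : ip ((c : ℂ) • a) w = c * ip a w := by
  unfold ip; rw [classInner_smul_left, Complex.re_ofReal_mul]

theorem ip_smul_right (c : ℝ) (w a : G → ℂ) : ip w ((c : ℂ) • a) = c * ip w a := by
  rw [ip_comm, ip_smul_left, ip_comm]

theorem ip_zsmul_left (n : ℤ) (a w : G → ℂ) : ip (n • a) w = n * ip a w := by
  rw [← intCast_smul_eq]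
  have := ip_smul_left (n : ℝ) a w
  simpa using this

theorem ip_zsmul_right (n : ℤ) (w a : G → ℂ) : ip w (n • a) = n * ip w a := by
  rw [ip_comm, ip_zsmul_left, ip_comm]

theorem ip_sum_left {ι : Type*} (s : Finset ι) (f : ι → G → ℂ) (w : G → ℂ) :
    ip (∑ i ∈ s, f i) w = ∑ i ∈ s, ip (f i) w := by
  unfold ip; rw [classInner_sum_left, Complex.re_sum]

theorem ip_sum_right {ι : Type*} (s : Finset ι) (w : G → ℂ) (f : ι → G → ℂ) :
    ip w (∑ i ∈ s, f i) = ∑ i ∈ s, ip w (f i) := by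
  unfold ip; rw [classInner_sum_right, Complex.re_sum]

theorem ip_self_nonneg (u : G → ℂ) : 0 ≤ ip u u := inner_self_re_nonneg u

theorem inner_self_eq_ip (u : G → ℂ) : classInner u u = (ip u u : ℂ) := by
  unfold ip
  rw [inner_self_eq, Complex.ofReal_re]

theorem ip_self_eq_zero {u : G → ℂ} (h : ip u u = 0) : u = 0 := by
  apply Helper32Virt.inner_self_eq_zero
  rw [inner_self_eq_ip, h, Complex.ofReal_zero]

theorem gen_inner_eq_ip {u w : G → ℂ} (hu : IsGeneralizedCharacter G u)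
    (hw : IsGeneralizedCharacter G w) : classInner u w = (ip u w : ℂ) := by
  obtain ⟨n, hn⟩ := gen_inner_int hu hw
  unfold ip
  rw [hn]; simp

theorem gen_ip_int {u w : G → ℂ} (hu : IsGeneralizedCharacter G u)
    (hw : IsGeneralizedCharacter G w) : ∃ n : ℤ, ip u w = n := by
  obtain ⟨n, hn⟩ := gen_inner_int hu hw
  refine ⟨n, ?_⟩
  unfold ip
  rw [hn]; simp

theorem ip_of_inner_eq_zero {u w : G → ℂ} (h : classInner u w = 0) : ip u w = 0 := by
  unfold ip; rw [h, Complex.zero_re]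

theorem eq_of_ip_sub {u w : G → ℂ} (h : ip (u - w) (u - w) ≤ 0) : u = w :=
  sub_eq_zero.1 (ip_self_eq_zero (le_antisymm h (ip_self_nonneg _)))

end IP

section Proj

variable {G : Type*} [Group G] [Fintype G]

open scoped Classical in
/-- an orthonormal finite set of virtual characters -/
structure ON (R : Finset (G → ℂ)) : Prop where
  orth : ∀ α ∈ R, ∀ β ∈ R, classInner α β = if α = β then 1 else 0
  gen : ∀ α ∈ R, IsGeneralizedCharacter G α

/-- orthogonal projection on the span of `R` -/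
noncomputable def proj (R : Finset (G → ℂ)) (v : G → ℂ) : G → ℂ := ∑ α ∈ R, classInner v α • α

theorem proj_add (R : Finset (G → ℂ)) (a b : G → ℂ) : proj R (a + b) = proj R a + proj R b := by
  unfold proj
  simp only [classInner_add_left, add_smul, Finset.sum_add_distrib]

theorem proj_neg (R : Finset (G → ℂ)) (a : G → ℂ) : proj R (-a) = - proj R a := by
  unfold proj
  simp only [classInner_neg_left, neg_smul, Finset.sum_neg_distrib]

theorem proj_sub (R : Finset (G → ℂ)) (a b : G → ℂ) : proj R (a - b) = proj R a - proj R b := by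
  rw [sub_eq_add_neg, proj_add, proj_neg, sub_eq_add_neg]

theorem proj_eq_zero {R : Finset (G → ℂ)} {v : G → ℂ} (h : ∀ α ∈ R, classInner v α = 0) :
    proj R v = 0 := by
  unfold proj
  apply Finset.sum_eq_zero
  intro α hα
  rw [h α hα, zero_smul]

theorem proj_zero (R : Finset (G → ℂ)) : proj R 0 = 0 :=
  proj_eq_zero (fun α _ => classInner_zero_left α)

theorem inner_proj_of_orth {R : Finset (G → ℂ)} (v : G → ℂ) {w : G → ℂ}
    (h : ∀ α ∈ R, classInner α w = 0) : classInner (proj R v) w = 0 := by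
  unfold proj
  rw [classInner_sum_left]
  apply Finset.sum_eq_zero
  intro α hα
  rw [classInner_smul_left, h α hα, mul_zero]

theorem inner_proj_proj_of_orth {R R' : Finset (G → ℂ)} (v w : G → ℂ)
    (h : ∀ α ∈ R, ∀ β ∈ R', classInner α β = 0) : classInner (proj R v) (proj R' w) = 0 := by
  apply inner_proj_of_orth
  intro α hα
  unfold proj
  rw [classInner_sum_right]
  apply Finset.sum_eq_zero
  intro β hβ
  rw [classInner_smul_right, h α hα β hβ, mul_zero]

theorem proj_proj_of_orth {R R' : Finset (G → ℂ)} (v : G → ℂ)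
    (h : ∀ α ∈ R, ∀ β ∈ R', classInner α β = 0) : proj R' (proj R v) = 0 :=
  proj_eq_zero (fun β hβ => inner_proj_of_orth v (fun α hα => h α hα β hβ))

theorem proj_sum_of_orth {R R' : Finset (G → ℂ)}
    (h : ∀ α ∈ R, ∀ β ∈ R', classInner α β = 0) : proj R' (∑ α ∈ R, α) = 0 := by
  apply proj_eq_zero
  intro β hβ
  rw [classInner_sum_left]
  exact Finset.sum_eq_zero (fun α hα => h α hα β hβ)

variable {R : Finset (G → ℂ)} (hR : ON R)
include hR

theorem ON.inner_proj (v : G → ℂ) {α : G → ℂ} (hα : α ∈ R) :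
    classInner (proj R v) α = classInner v α := by
  classical
  have := bessel_orth R id (fun i hi j hj => by simpa using hR.orth i hi j hj) v hα
  rw [classInner_sub_left, sub_eq_zero] at this
  exact this.symm

theorem ON.proj_gen {v : G → ℂ} (hv : IsGeneralizedCharacter G v) :
    IsGeneralizedCharacter G (proj R v) := by
  unfold proj
  apply gen_sum
  intro α hα
  obtain ⟨n, hn⟩ := gen_inner_int hv (hR.gen α hα)
  rw [hn]
  exact gen_intCast_smul n (hR.gen α hα)

theorem ON.inner_proj_right (v w : G → ℂ) :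
    classInner (proj R v) (proj R w) = classInner (proj R v) w := by
  have e : proj R v = ∑ α ∈ R, classInner v α • α := rfl
  rw [e, classInner_sum_left, classInner_sum_left]
  apply Finset.sum_congr rfl
  intro α hα
  rw [classInner_smul_left, classInner_smul_left, ← classInner_conj_symm (proj R w) α,
    hR.inner_proj w hα, classInner_conj_symm]

theorem ON.ip_proj_self (v : G → ℂ) : ip (proj R v) (proj R v) = ∑ α ∈ R, ‖classInner v α‖ ^ 2 := by
  unfold ip
  rw [hR.inner_proj_right]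
  conv_lhs => rw [proj]
  rw [classInner_sum_left, Complex.re_sum]
  apply Finset.sum_congr rfl
  intro α _
  rw [classInner_smul_left, ← classInner_conj_symm v α, Complex.mul_conj,
    Complex.normSq_eq_norm_sq, Complex.ofReal_re]

/-- Pythagoras -/
theorem ON.pythag (v : G → ℂ) :
    ip v v = ip (proj R v) (proj R v) + ip (v - proj R v) (v - proj R v) := by
  have h1 : ip (proj R v) (proj R v) = ip (proj R v) v := by
    unfold ip; rw [hR.inner_proj_right]
  rw [ip_sub_left, ip_sub_right, ip_sub_right, h1, ip_comm v (proj R v)]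
  ring

theorem ON.ip_proj_sum (v : G → ℂ) : ip (proj R v) (∑ α ∈ R, α) = ip v (∑ α ∈ R, α) := by
  rw [ip_sum_right, ip_sum_right]
  apply Finset.sum_congr rfl
  intro α hα
  unfold ip
  rw [hR.inner_proj v hα]

theorem ON.ip_sum_self : ip (∑ α ∈ R, α) (∑ α ∈ R, α) = R.card := by
  classical
  rw [ip_sum_left]
  have : ∀ α ∈ R, ip α (∑ β ∈ R, β) = 1 := by
    intro α hα
    rw [ip_sum_right, Finset.sum_eq_single α]
    · unfold ip; rw [hR.orth α hα α hα, if_pos rfl, Complex.one_re]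
    · intro β hβ hne
      unfold ip; rw [hR.orth α hα β hβ, if_neg (Ne.symm hne), Complex.zero_re]
    · intro h; exact absurd hα h
  rw [Finset.sum_congr rfl this]
  simp

/-- the integrality inequality: `∑ a ≤ ∑ a ^ 2`. -/
theorem ON.ip_sum_le {v : G → ℂ} (hv : IsGeneralizedCharacter G v) :
    ip v (∑ α ∈ R, α) ≤ ip (proj R v) (proj R v) := by
  rw [hR.ip_proj_self, ip_sum_right]
  apply Finset.sum_le_sum
  intro α hα
  obtain ⟨n, hn⟩ := gen_inner_int hv (hR.gen α hα)
  unfold ip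
  rw [hn, Complex.intCast_re, Complex.norm_intCast, sq_abs]
  have : n ≤ n ^ 2 := Int.le_self_sq n
  exact_mod_cast this

/-- equality case. -/
theorem ON.zero_or_one {v : G → ℂ} (hv : IsGeneralizedCharacter G v)
    (h : ip (proj R v) (proj R v) ≤ ip v (∑ α ∈ R, α)) {α : G → ℂ} (hα : α ∈ R) :
    classInner v α = 0 ∨ classInner v α = 1 := by
  rw [hR.ip_proj_self, ip_sum_right] at h
  have hle : ∀ β ∈ R, ip v β ≤ ‖classInner v β‖ ^ 2 := by
    intro β hβ
    obtain ⟨n, hn⟩ := gen_inner_int hv (hR.gen β hβ)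
    unfold ip
    rw [hn, Complex.intCast_re, Complex.norm_intCast, sq_abs]
    have : n ≤ n ^ 2 := Int.le_self_sq n
    exact_mod_cast this
  have heq := (Finset.sum_eq_sum_iff_of_le hle).1 (le_antisymm (Finset.sum_le_sum hle) h) α hα
  obtain ⟨n, hn⟩ := gen_inner_int hv (hR.gen α hα)
  unfold ip at heq
  rw [hn, Complex.intCast_re, Complex.norm_intCast, sq_abs] at heq
  have h2 : n = n ^ 2 := by exact_mod_cast heq
  have h3 : n * (n - 1) = 0 := by linarith [h2, sq n]
  rw [hn]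
  rcases mul_eq_zero.1 h3 with h4 | h4
  · left; rw [h4]; simp
  · right
    have : n = 1 := by omega
    rw [this]; simp

end Proj

section Sys

variable {L : Type*} [Group L] [Fintype L] {G : Type*} [Group G] [Fintype G]

theorem conjFun_conjFun {X : Type*} (χ : X → ℂ) : conjFun (conjFun χ) = χ := by
  funext x; simp [conjFun]

theorem inner_conj_conj (a b : L → ℂ) :
    classInner (conjFun a) (conjFun b) = conj (classInner a b) := by
  unfold classInner conjFun
  rw [map_mul, map_sum]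
  congr 1
  · simp
  · apply Finset.sum_congr rfl
    intro x _
    rw [map_mul]

theorem ip_conj_conj (a b : L → ℂ) : ip (conjFun a) (conjFun b) = ip a b := by
  unfold ip; rw [inner_conj_conj, Complex.conj_re]

/-- `φ` is neither `χ` nor its conjugate -/
def Far (χ φ : L → ℂ) : Prop := φ ≠ χ ∧ φ ≠ conjFun χ

theorem Far.symm {χ φ : L → ℂ} (h : Far χ φ) : Far φ χ :=
  ⟨h.1.symm, fun e => h.2 (by rw [e, conjFun_conjFun])⟩

theorem Far.conj_left {χ φ : L → ℂ} (h : Far χ φ) : Far (conjFun χ) φ :=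
  ⟨h.2, by rw [conjFun_conjFun]; exact h.1⟩

theorem Far.conj_right {χ φ : L → ℂ} (h : Far χ φ) : Far χ (conjFun φ) :=
  h.symm.conj_left.symm

variable {S : Set (L → ℂ)} {τ : (L → ℂ) → (G → ℂ)} {R : (L → ℂ) → Finset (G → ℂ)}
variable (hS : IsCoherenceSystem S τ R)
include hS

theorem on {χ : L → ℂ} (hχ : χ ∈ S) : ON (R χ) := ⟨hS.orthonormal χ hχ, hS.virtual χ hχ⟩

theorem gen_of_mem {χ : L → ℂ} (hχ : χ ∈ S) : IsGeneralizedCharacter L χ :=
  gen_of_char (hS.isCharacter χ hχ)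

theorem conj_one {χ : L → ℂ} (hχ : χ ∈ S) : conjFun χ 1 = χ 1 := by
  obtain ⟨n, hn⟩ := IsCharacter.exists_degree (hS.isCharacter χ hχ)
  unfold conjFun
  rw [hn]; simp

theorem sub_mem {χ φ : L → ℂ} (hχ : χ ∈ S) (hφ : φ ∈ S) (h : χ 1 = φ 1) :
    χ - φ ∈ zspanOn S {1}ᶜ := by
  rw [mem_zspanOn_one]
  exact ⟨zspan_sub (zspan_of_mem hχ) (zspan_of_mem hφ), by rw [Pi.sub_apply, h, sub_self]⟩

theorem sub_conj_mem {χ : L → ℂ} (hχ : χ ∈ S) : χ - conjFun χ ∈ zspanOn S {1}ᶜ :=
  sub_mem hS hχ (hS.conj_mem χ hχ) (conj_one hS hχ).symm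

theorem inner_conj {χ : L → ℂ} (hχ : χ ∈ S) : classInner χ (conjFun χ) = 0 :=
  hS.orthogonal χ hχ _ (hS.conj_mem χ hχ) (hS.conj_ne χ hχ).symm

theorem ne_zero {χ : L → ℂ} (hχ : χ ∈ S) : χ ≠ 0 := by
  intro h
  apply hS.conj_ne χ hχ
  rw [h]
  funext x
  simp [conjFun]

theorem norm_pos {χ : L → ℂ} (hχ : χ ∈ S) : 0 < ip χ χ :=
  lt_of_le_of_ne (ip_self_nonneg χ) (fun h => ne_zero hS hχ (ip_self_eq_zero h.symm))

theorem inner_far {χ φ : L → ℂ} (hχ : χ ∈ S) (hφ : φ ∈ S) (h : Far χ φ) :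
    classInner χ φ = 0 := hS.orthogonal χ hχ φ hφ h.1.symm

theorem ip_far {χ φ : L → ℂ} (hχ : χ ∈ S) (hφ : φ ∈ S) (h : Far χ φ) : ip χ φ = 0 :=
  ip_of_inner_eq_zero (inner_far hS hχ hφ h)

theorem ip_conj {χ : L → ℂ} (hχ : χ ∈ S) : ip χ (conjFun χ) = 0 :=
  ip_of_inner_eq_zero (inner_conj hS hχ)

theorem R_orth {χ φ : L → ℂ} (hχ : χ ∈ S) (hφ : φ ∈ S) (h : Far χ φ) :
    ∀ α ∈ R φ, ∀ β ∈ R χ, classInner α β = 0 :=
  hS.disjoint χ hχ φ hφ (inner_far hS hφ hχ h.symm)
    (inner_far hS hφ (hS.conj_mem χ hχ) h.conj_left.symm)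

theorem iso_ip {a b : L → ℂ} (ha : a ∈ zspanOn S {1}ᶜ) (hb : b ∈ zspanOn S {1}ᶜ) :
    ip (τ a) (τ b) = ip a b := by
  unfold ip; rw [iso_inner hS.isometry ha hb]

theorem ip_D {χ : L → ℂ} (hχ : χ ∈ S) :
    ip (τ (χ - conjFun χ)) (τ (χ - conjFun χ)) = 2 * ip χ χ := by
  rw [iso_ip hS (sub_conj_mem hS hχ) (sub_conj_mem hS hχ), ip_sub_left, ip_sub_right, ip_sub_right,
    ip_conj_conj, ip_comm (conjFun χ) χ, ip_conj hS hχ]
  ring

theorem card_R {χ : L → ℂ} (hχ : χ ∈ S) : ((R χ).card : ℝ) = 2 * ip χ χ := by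
  rw [← ip_D hS hχ, hS.sum_eq χ hχ, (on hS hχ).ip_sum_self]

/-- the heart of Peterfalvi (5.4) -/
theorem key {χ : L → ℂ} (hχ : χ ∈ S) {v : G → ℂ} (hv : IsGeneralizedCharacter G v)
    (h : ip v (τ (χ - conjFun χ)) = ip χ χ) : ip χ χ ≤ ip (proj (R χ) v) (proj (R χ) v) := by
  rw [← h, hS.sum_eq χ hχ]
  exact (on hS hχ).ip_sum_le hv

/-- if moreover the norm of `v` is at most that of `χ`, then `v` lies in the span of `R χ`. -/
theorem proj_eq_self {χ : L → ℂ} (hχ : χ ∈ S) {v : G → ℂ} (hv : IsGeneralizedCharacter G v)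
    (h : ip v (τ (χ - conjFun χ)) = ip χ χ) (h2 : ip v v ≤ ip χ χ) : v = proj (R χ) v := by
  apply eq_of_ip_sub
  have h3 := (on hS hχ).pythag v
  have h4 := key hS hχ hv h
  linarith

/-- the values `X`, `X - τ (χ - conj χ)` for the pair `χ`, `conj χ`. -/
theorem pair {χ : L → ℂ} (hχ : χ ∈ S) {X : G → ℂ} (h1 : ip X X = ip χ χ)
    (h2 : ip X (τ (χ - conjFun χ)) = ip χ χ) :
    ip (X - τ (χ - conjFun χ)) (X - τ (χ - conjFun χ)) = ip χ χ ∧
      ip X (X - τ (χ - conjFun χ)) = 0 := by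
  constructor
  · rw [ip_sub_left, ip_sub_right, ip_sub_right, ip_D hS hχ, ip_comm (τ (χ - conjFun χ)) X, h1, h2]
    ring
  · rw [ip_sub_right, h1, h2, sub_self]

theorem orth_finset {s : Finset (L → ℂ)} (hs : (↑s : Set (L → ℂ)) ⊆ S) : Orth s :=
  ⟨fun χ hχ h => (norm_pos hS (hs hχ)).ne' (by
      have := inner_self_eq_ip χ
      rw [h] at this
      exact_mod_cast this.symm),
    fun χ hχ φ hφ hne => hS.orthogonal χ (hs hχ) φ (hs hφ) hne⟩

theorem coherent_of_values (s : Finset (L → ℂ)) (hs : (↑s : Set (L → ℂ)) ⊆ S)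
    (hne : ∃ χ ∈ s, conjFun χ ∈ s) (t : (L → ℂ) → (G → ℂ))
    (htg : ∀ χ ∈ s, IsGeneralizedCharacter G (t χ))
    (hti : ∀ χ ∈ s, ∀ φ ∈ s, ip (t χ) (t φ) = ip χ φ)
    (hag : ∀ θ ∈ zspanOn (↑s : Set (L → ℂ)) {1}ᶜ, ext s t θ = τ θ) :
    IsCoherent (↑s : Set (L → ℂ)) {1}ᶜ τ := by
  refine ⟨?_, ext s t, ext_iso (orth_finset hS hs) t ?_ htg, hag⟩
  · obtain ⟨χ, hχ, hχc⟩ := hne
    refine ⟨χ - conjFun χ, ?_, sub_ne_zero.2 (hS.conj_ne χ (hs hχ)).symm⟩
    rw [mem_zspanOn_one]
    exact ⟨zspan_sub (zspan_of_mem hχ) (zspan_of_mem hχc),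
      by rw [Pi.sub_apply, conj_one hS (hs hχ), sub_self]⟩
  · intro χ hχ φ hφ
    rw [gen_inner_eq_ip (htg χ hχ) (htg φ hφ), hti χ hχ φ hφ,
      gen_inner_eq_ip (gen_of_mem hS (hs hχ)) (gen_of_mem hS (hs hφ))]

end Sys

end Cfsg.Agent.Lib.Helper32Sub
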