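import Cfsg.Agent.Lib.Helper32Frob2
import Cfsg.Agent.S0148
import Cfsg.Agent.S1514
import Cfsg.Prelude.Def_OddOrderLocal

set_option autoImplicit false
set_option linter.unusedSectionVars false
open Cfsg

namespace Cfsg.Agent.Lib.Helper32TI

open Cfsg.Agent.Lib.Helper4Char Cfsg.Agent.Lib.Helper4Char2 Cfsg.Agent.Lib.Helper4Char4
open Cfsg.Agent.Lib.Helper32Virt Cfsg.Agent.Lib.Helper32Coh Cfsg.Agent.Lib.Helper32Sub
open Cfsg.Agent.Lib.Helper32Sub2 Cfsg.Agent.Lib.Helper32SeqInd Cfsg.Agent.Lib.Helper32Extend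
open Cfsg.Agent.Lib.Helper32Frob2 Cfsg.Agent.Lib.Helper32Ind Cfsg.Agent.Lib.Helper19Ind
open Cfsg.Agent.Lib.Helper5Ind

section Basic

variable {G : Type*} [Group G] [Fintype G]

theorem gen_ind (L : Subgroup G) {α : L → ℂ} (h : IsGeneralizedCharacter L α) :
    IsGeneralizedCharacter G (indFun L α) := by
  obtain ⟨a, b, ha, hb, rfl⟩ := h
  refine ⟨indFun L a, indFun L b, Cfsg.Agent.S0148.result L a ha, Cfsg.Agent.S0148.result L b hb, ?_⟩
  have : a - b = a + (-1 : ℂ) • b := by funext x; simp [sub_eq_add_neg]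
  rw [this, indFun_add, indFun_smul]
  funext x; simp [sub_eq_add_neg]

theorem indFun_zsmul (L : Subgroup G) (n : ℤ) (α : L → ℂ) :
    indFun L (n • α) = n • indFun L α := by
  rw [← intCast_smul_eq, indFun_smul, intCast_smul_eq]

theorem indFun_sub (L : Subgroup G) (a b : L → ℂ) :
    indFun L (a - b) = indFun L a - indFun L b := by
  have : a - b = a + (-1 : ℂ) • b := by funext x; simp [sub_eq_add_neg]
  rw [this, indFun_add, indFun_smul]
  funext x; simp [sub_eq_add_neg]

/-- functions induced from a normal subgroup vanish outside it. -/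
theorem ind_vanish (K : Subgroup G) [hK : K.Normal] (θ : K → ℂ) (x : G) (hx : x ∉ K) :
    indFun K θ x = 0 := by
  rw [indFun_apply, Finset.sum_eq_zero, mul_zero]
  intro y _
  apply extendByZero_of_not_mem
  intro h
  apply hx
  have := hK.conj_mem _ h y
  simpa [mul_assoc] using this

theorem zspan_vanish (K A : Subgroup G) [hK : K.Normal] {α : G → ℂ}
    (h : α ∈ zspan (inducedIrrAbove K A)) (x : G) (hx : x ∉ K) : α x = 0 := by
  induction h using Submodule.span_induction with
  | mem a ha =>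
    obtain ⟨θ, -, -, -, rfl⟩ := ha
    exact ind_vanish K θ x hx
  | zero => rfl
  | add a b _ _ ha hb => rw [Pi.add_apply, ha, hb, add_zero]
  | smul n a _ ha => rw [zsmul_apply', ha, mul_zero]

theorem zspan_gen {S : Set (G → ℂ)} (hS : ∀ χ ∈ S, IsCharacter G χ) {α : G → ℂ}
    (h : α ∈ zspan S) : IsGeneralizedCharacter G α := by
  induction h using Submodule.span_induction with
  | mem a ha => exact gen_of_char (hS a ha)
  | zero => exact gen_zero
  | add a b _ _ ha hb => exact gen_add ha hb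
  | smul n a _ ha => exact gen_zsmul n ha

end Basic

section TI

variable {G : Type*} [Group G] [Fintype G] (H L : Subgroup G) [Fintype L]
  [hK : (H.subgroupOf L).Normal]

/-- induction from the normaliser of a TI-subgroup is an isometry on the relevant span. -/
theorem isometry (hTI : IsTISubset (H : Set G)) (hN : Subgroup.normalizer (H : Set G) = L)
    (S : Set (L → ℂ)) (hS : S ⊆ inducedIrrAbove (H.subgroupOf L) ⊥)
    (hchar : ∀ χ ∈ S, IsCharacter L χ) :
    IsLinearIsometryOn (zspanOn S {1}ᶜ) (fun α : L → ℂ => indFun L α) := by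
  have hv : ∀ α ∈ zspanOn S {1}ᶜ, ∀ x : L, (x : G) ∉ (H : Set G) → α x = 0 := by
    intro α hα x hx
    exact zspan_vanish (H.subgroupOf L) ⊥ (zspan_mono hS hα.1) x
      (fun h => hx (Subgroup.mem_subgroupOf.1 h))
  refine ⟨fun α _ β _ => indFun_add L α β, fun α _ n => indFun_zsmul L n α, ?_, ?_⟩
  · intro α hα β hβ
    apply classInner_indFun_of_TI L (H : Set G) (by rw [← hN]; exact hTI) α β
      (gen_isClassFunction (zspan_gen hchar hβ.1)) (hv α hα) (hv β hβ)
    exact (mem_zspanOn_one.1 hα).2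
  · intro α hα
    exact gen_ind L (zspan_gen hchar hα.1)

theorem map_one (S : Set (L → ℂ)) (α : L → ℂ) (hα : α ∈ zspanOn S {1}ᶜ) : indFun L α 1 = 0 := by
  rw [Cfsg.Agent.Lib.Helper82Mult.indFun_one, (mem_zspanOn_one.1 hα).2, mul_zero]

theorem system (hTI : IsTISubset (H : Set G)) (hN : Subgroup.normalizer (H : Set G) = L)
    (hne : (inducedIrrAbove (H.subgroupOf L) ⊥).Nonempty)
    (hirr : ∀ χ ∈ inducedIrrAbove (H.subgroupOf L) ⊥, IsIrrCharacter L χ)
    (hreal : ∀ χ ∈ inducedIrrAbove (H.subgroupOf L) ⊥, conjFun χ ≠ χ) :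
    ∃ R : (L → ℂ) → Finset (G → ℂ),
      IsCoherenceSystem (inducedIrrAbove (H.subgroupOf L) ⊥) (fun α : L → ℂ => indFun L α) R :=
  Cfsg.Agent.S1514.result _ hne hirr (fun χ hχ => ⟨conj_mem hχ, hreal χ hχ⟩) _
    (isometry H L hTI hN _ (Set.Subset.refl _) (fun χ hχ => IsIrrCharacter.isCharacter (hirr χ hχ)))
    (map_one L _)

end TI

end Cfsg.Agent.Lib.Helper32TI
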