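import Mathlib
import Cfsg.Prelude.Def_KGroupFacts

/-! # The multiplier of a stem quotient of a perfect group with trivial multiplier (helper33) -/

set_option autoImplicit false

namespace Cfsg.Agent.Lib.Helper33Cover

open Cfsg
open scoped commutatorElement

universe u

theorem comm_central {G : Type*} [Group G] (a b k l : G) (hk : ∀ x, k * x = x * k)
    (hl : ∀ x, l * x = x * l) : ⁅a * k, b * l⁆ = ⁅a, b⁆ := by
  simp only [commutatorElement_def, mul_inv_rev]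
  have h1 : a * k * (b * l) * (k⁻¹ * a⁻¹) * (l⁻¹ * b⁻¹) =
      a * (k * (b * l) * k⁻¹) * (a⁻¹ * l⁻¹) * b⁻¹ := by group
  rw [h1, hk (b * l), mul_inv_cancel_right]
  have h2 : a * (b * l) * (a⁻¹ * l⁻¹) * b⁻¹ = a * b * (l * a⁻¹ * l⁻¹) * b⁻¹ := by group
  rw [h2, hl a⁻¹, mul_inv_cancel_right]

/-- a stem extension of a perfect group is perfect -/
theorem perfect_of_stem {Γ G : Type*} [Group Γ] [Group G] (σ : Γ →* G) (hσ : IsStemExtension σ)
    (hG : commutator G = ⊤) : commutator Γ = ⊤ := by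
  rw [eq_top_iff]
  intro γ _
  have h1 : (commutator Γ).map σ = ⊤ := by
    rw [commutator_def, Subgroup.map_commutator, Subgroup.map_top_of_surjective _ hσ.1,
      ← commutator_def, hG]
  have h2 : σ γ ∈ (commutator Γ).map σ := by rw [h1]; trivial
  obtain ⟨c, hc, he⟩ := h2
  have h3 : c⁻¹ * γ ∈ σ.ker := by
    rw [MonoidHom.mem_ker, map_mul, map_inv, he, inv_mul_cancel]
  have h4 := (commutator Γ).mul_mem hc (hσ.2.2 h3)
  rwa [mul_inv_cancel_left] at h4

theorem perfect_image {E G : Type*} [Group E] [Group G] (π : E →* G) (hπ : Function.Surjective π)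
    (hE : commutator E = ⊤) : commutator G = ⊤ := by
  have h1 : (commutator E).map π = commutator G := by
    rw [commutator_def, Subgroup.map_commutator, Subgroup.map_top_of_surjective _ hπ,
      ← commutator_def]
  rw [← h1, hE, Subgroup.map_top_of_surjective _ hπ]

/-- every stem extension of `G` is a quotient of the perfect group `E` with trivial multiplier -/
theorem exists_lift {E G : Type u} [Group E] [Group G] [Finite E] (π : E →* G)
    (hπ : IsStemExtension π) (hE : HasCyclicSchurMultiplier E 1) (hperf : commutator E = ⊤)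
    (Γ : Type u) [Group Γ] [Finite Γ] (σ : Γ →* G) (hσ : IsStemExtension σ) :
    ∃ θ : E →* Γ, Function.Surjective θ ∧ ∀ e, σ (θ e) = π e := by
  have hG : commutator G = ⊤ := perfect_image π hπ.1 hperf
  have hΓ : commutator Γ = ⊤ := perfect_of_stem σ hσ hG
  let P : Subgroup (Γ × E) :=
    (σ.comp (MonoidHom.fst Γ E)).eqLocus (π.comp (MonoidHom.snd Γ E))
  have hP : ∀ x : Γ × E, x ∈ P ↔ σ x.1 = π x.2 := fun x => Iff.rfl
  let Q : Subgroup (Γ × E) := ⁅P, P⁆
  have hQP : Q ≤ P := Subgroup.commutator_le_self P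
  have hPs : P.map (MonoidHom.snd Γ E) = ⊤ := by
    rw [eq_top_iff]
    intro e _
    obtain ⟨γ, hγ⟩ := hσ.1 (π e)
    exact ⟨(γ, e), (hP _).2 hγ, rfl⟩
  have hPf : P.map (MonoidHom.fst Γ E) = ⊤ := by
    rw [eq_top_iff]
    intro γ _
    obtain ⟨e, he⟩ := hπ.1 (σ γ)
    exact ⟨(γ, e), (hP _).2 he.symm, rfl⟩
  have hQs : Q.map (MonoidHom.snd Γ E) = ⊤ := by
    show (⁅P, P⁆).map (MonoidHom.snd Γ E) = ⊤
    rw [Subgroup.map_commutator, hPs, ← commutator_def, hperf]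
  have hQf : Q.map (MonoidHom.fst Γ E) = ⊤ := by
    show (⁅P, P⁆).map (MonoidHom.fst Γ E) = ⊤
    rw [Subgroup.map_commutator, hPf, ← commutator_def, hΓ]
  -- elements of `P` with trivial second coordinate are central
  have hcen : ∀ k ∈ P, k.2 = 1 → ∀ x : Γ × E, k * x = x * k := by
    intro k hk hk2 x
    have h1 : k.1 ∈ σ.ker := by
      rw [MonoidHom.mem_ker, (hP k).1 hk, hk2, map_one]
    have h2 := Subgroup.mem_center_iff.1 (hσ.2.1 h1) x.1
    apply Prod.ext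
    · exact h2.symm
    · show k.2 * x.2 = x.2 * k.2
      rw [hk2, one_mul, mul_one]
  -- decomposition
  have hdec : ∀ p ∈ P, ∃ q ∈ Q, ∃ k ∈ P, k.2 = 1 ∧ p = q * k := by
    intro p hp
    have h1 : p.2 ∈ Q.map (MonoidHom.snd Γ E) := by rw [hQs]; trivial
    obtain ⟨q, hq, he⟩ := h1
    refine ⟨q, hq, q⁻¹ * p, P.mul_mem (P.inv_mem (hQP hq)) hp, ?_, by rw [mul_inv_cancel_left]⟩
    have he' : q.2 = p.2 := he
    show q.2⁻¹ * p.2 = 1
    rw [he', inv_mul_cancel]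
  have hQQ : Q ≤ ⁅Q, Q⁆ := by
    show ⁅P, P⁆ ≤ ⁅Q, Q⁆
    rw [Subgroup.commutator_le]
    intro p₁ h₁ p₂ h₂
    obtain ⟨q₁, hq₁, k₁, hk₁, hk₁', rfl⟩ := hdec p₁ h₁
    obtain ⟨q₂, hq₂, k₂, hk₂, hk₂', rfl⟩ := hdec p₂ h₂
    rw [comm_central q₁ q₂ k₁ k₂ (hcen k₁ hk₁ hk₁') (hcen k₂ hk₂ hk₂')]
    exact Subgroup.commutator_mem_commutator hq₁ hq₂
  let τ : ↥Q →* E := (MonoidHom.snd Γ E).comp Q.subtype
  have hτs : Function.Surjective τ := by
    intro e
    have h1 : e ∈ Q.map (MonoidHom.snd Γ E) := by rw [hQs]; trivial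
    obtain ⟨q, hq, he⟩ := h1
    exact ⟨⟨q, hq⟩, he⟩
  have hτ : IsStemExtension τ := by
    refine ⟨hτs, ?_, ?_⟩
    · intro x hx
      rw [Subgroup.mem_center_iff]
      intro y
      apply Subtype.ext
      exact (hcen x.1 (hQP x.2) (MonoidHom.mem_ker.1 hx) y.1).symm
    · intro x _
      have h1 : (commutator ↥Q).map Q.subtype = ⁅Q, Q⁆ := Subgroup.map_subtype_commutator Q
      have h2 : x.1 ∈ (commutator ↥Q).map Q.subtype := by rw [h1]; exact hQQ x.2
      obtain ⟨y, hy, he⟩ := h2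
      have : y = x := Subtype.ext he
      rwa [this] at hy
  obtain ⟨ρ, hρ⟩ := hE.2 ↥Q τ hτ
  have hτi : Function.Injective τ := by
    rw [injective_iff_map_eq_one]
    intro x hx
    obtain ⟨a, ha⟩ := hρ ⟨x, MonoidHom.mem_ker.2 hx⟩
    have h1 : a = 1 := Subsingleton.elim _ _
    rw [h1, map_one] at ha
    exact (congrArg Subtype.val ha).symm
  let τ' : ↥Q ≃* E := MulEquiv.ofBijective τ ⟨hτi, hτs⟩
  refine ⟨((MonoidHom.fst Γ E).comp Q.subtype).comp τ'.symm.toMonoidHom, ?_, ?_⟩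
  · intro γ
    have h1 : γ ∈ Q.map (MonoidHom.fst Γ E) := by rw [hQf]; trivial
    obtain ⟨q, hq, he⟩ := h1
    refine ⟨τ' ⟨q, hq⟩, ?_⟩
    show ((τ'.symm (τ' ⟨q, hq⟩) : ↥Q) : Γ × E).1 = γ
    rw [MulEquiv.symm_apply_apply]
    exact he
  · intro e
    show σ ((τ'.symm e : ↥Q) : Γ × E).1 = π e
    rw [(hP _).1 (hQP (τ'.symm e).2)]
    have h1 : τ' (τ'.symm e) = e := MulEquiv.apply_symm_apply _ _
    exact congrArg π h1

/-- the multiplier of a stem quotient of a perfect group with trivial multiplier -/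
theorem cover_of_trivial {E G : Type u} [Group E] [Group G] [Finite E] (π : E →* G)
    (hπ : IsStemExtension π) (hE : HasCyclicSchurMultiplier E 1) (hperf : commutator E = ⊤)
    (n : ℕ) (e : π.ker ≃* Multiplicative (ZMod n)) : HasCyclicSchurMultiplier G n := by
  refine ⟨⟨E, inferInstance, inferInstance, π, hπ, ⟨e⟩⟩, ?_⟩
  intro Γ _ _ σ hσ
  obtain ⟨θ, hθ, hc⟩ := exists_lift π hπ hE hperf Γ σ hσ
  let ρ0 : π.ker →* σ.ker := (θ.comp π.ker.subtype).codRestrict σ.ker (fun z => by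
    rw [MonoidHom.mem_ker]
    show σ (θ z.1) = 1
    rw [hc, MonoidHom.mem_ker.1 z.2])
  refine ⟨ρ0.comp e.symm.toMonoidHom, ?_⟩
  intro k
  obtain ⟨x, hx⟩ := hθ k.1
  have hxk : x ∈ π.ker := by
    rw [MonoidHom.mem_ker, ← hc, hx, MonoidHom.mem_ker.1 k.2]
  refine ⟨e ⟨x, hxk⟩, ?_⟩
  apply Subtype.ext
  show θ ((e.symm (e ⟨x, hxk⟩) : π.ker) : E) = k.1
  rw [MulEquiv.symm_apply_apply]
  exact hx

end Cfsg.Agent.Lib.Helper33Cover
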