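import Mathlib
import Cfsg.Prelude.Def_SporadicB

set_option autoImplicit false

/-! Generic lemmas: a class of 3-transpositions from a maximal subgroup centralising an involution,
and transport of `IsNonsplitDoubleCover` along isomorphisms. -/

namespace Cfsg.Agent.Lib.Helper33TT

open scoped Pointwise

theorem mem_conj_iff {G : Type*} [Group G] (z x : G) :
    x ∈ conjugatesOf z ↔ ∃ c : G, c * z * c⁻¹ = x := by
  show IsConj z x ↔ _
  rw [isConj_iff]

theorem map_center {H₁ H₂ : Type*} [Group H₁] [Group H₂] (e : H₁ ≃* H₂) :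
    (Subgroup.center H₁).map e.toMonoidHom = Subgroup.center H₂ := by
  ext x
  constructor
  · rintro ⟨y, hy, rfl⟩
    rw [Subgroup.mem_center_iff]
    intro g
    obtain ⟨g', rfl⟩ := e.surjective g
    have := Subgroup.mem_center_iff.mp hy g'
    show e g' * e y = e y * e g'
    rw [← map_mul, ← map_mul, this]
  · intro hx
    refine ⟨e.symm x, ?_, by simp⟩
    show e.symm x ∈ Subgroup.center H₁
    rw [Subgroup.mem_center_iff]
    intro g
    have := Subgroup.mem_center_iff.mp hx (e g)
    apply e.injective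
    rw [map_mul, map_mul, e.apply_symm_apply, this]

theorem nonsplit_congr {H₁ H₂ K : Type*} [Group H₁] [Group H₂] [Group K] (e : H₁ ≃* H₂)
    (h : Cfsg.IsNonsplitDoubleCover H₁ K) : Cfsg.IsNonsplitDoubleCover H₂ K := by
  obtain ⟨h1, ⟨f⟩, h3⟩ := h
  have hc := map_center e
  refine ⟨?_, ⟨(QuotientGroup.congr _ _ e hc).symm.trans f⟩, ?_⟩
  · rw [← h1]
    exact Nat.card_congr (Subgroup.centerCongr e).symm.toEquiv
  · intro L hL
    apply h3 (L.comap e.toMonoidHom)
    apply Subgroup.isComplement'_of_disjoint_and_mul_eq_univ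
    · rw [Subgroup.disjoint_def]
      intro x hx hxL
      have h4 : e x ∈ Subgroup.center H₂ := by
        rw [← hc]; exact ⟨x, hx, rfl⟩
      have h5 := Subgroup.disjoint_def.mp hL.disjoint h4 hxL
      exact e.injective (by rw [h5, map_one])
    · rw [Set.eq_univ_iff_forall]
      intro g
      have h4 : e g ∈ ((Subgroup.center H₂ : Set H₂) * (L : Set H₂)) := by
        rw [hL.mul_eq]; trivial
      obtain ⟨a, ha, b, hb, hab⟩ := h4
      refine ⟨e.symm a, ?_, e.symm b, ?_, ?_⟩
      · have ha' : a ∈ (Subgroup.center H₁).map e.toMonoidHom := by rw [hc]; exact ha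
        obtain ⟨y, hy, rfl⟩ := ha'
        show e.symm (e y) ∈ Subgroup.center H₁
        rw [e.symm_apply_apply]; exact hy
      · show e (e.symm b) ∈ L
        rw [e.apply_symm_apply]; exact hb
      · apply e.injective
        show e (e.symm a * e.symm b) = e g
        rw [map_mul, e.apply_symm_apply, e.apply_symm_apply]; exact hab

/-- the centraliser of a conjugate -/
noncomputable def centConj {G : Type*} [Group G] (z g : G) :
    Subgroup.centralizer ({z} : Set G) ≃* Subgroup.centralizer ({g * z * g⁻¹} : Set G) where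
  toFun x := ⟨g * x.1 * g⁻¹, by
    have hx := Subgroup.mem_centralizer_singleton_iff.mp x.2
    rw [Subgroup.mem_centralizer_singleton_iff]
    calc g * x.1 * g⁻¹ * (g * z * g⁻¹) = g * (x.1 * z) * g⁻¹ := by group
      _ = g * (z * x.1) * g⁻¹ := by rw [hx]
      _ = g * z * g⁻¹ * (g * x.1 * g⁻¹) := by group⟩
  invFun x := ⟨g⁻¹ * x.1 * g, by
    have hx := Subgroup.mem_centralizer_singleton_iff.mp x.2
    rw [Subgroup.mem_centralizer_singleton_iff]
    calc g⁻¹ * x.1 * g * z = g⁻¹ * (x.1 * (g * z * g⁻¹)) * g := by group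
      _ = g⁻¹ * (g * z * g⁻¹ * x.1) * g := by rw [hx]
      _ = z * (g⁻¹ * x.1 * g) := by group⟩
  left_inv x := by
    apply Subtype.ext
    show g⁻¹ * (g * x.1 * g⁻¹) * g = x.1
    group
  right_inv x := by
    apply Subtype.ext
    show g * (g⁻¹ * x.1 * g) * g⁻¹ = x.1
    group
  map_mul' x y := by
    apply Subtype.ext
    show g * (x.1 * y.1) * g⁻¹ = g * x.1 * g⁻¹ * (g * y.1 * g⁻¹)
    group

section main
variable {G : Type*} [Group G] (H : Subgroup G) (z : G)

theorem centralizer_eq [IsSimpleGroup G]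
    (hmax : ∀ M : Subgroup G, H ≤ M → M = H ∨ M = ⊤) (hH : H ≠ ⊤)
    (hzH : z ∈ H) (hz1 : z ≠ 1) (hcomm : ∀ g ∈ H, g * z = z * g) :
    Subgroup.centralizer ({z} : Set G) = H := by
  have hle : H ≤ Subgroup.centralizer ({z} : Set G) := by
    intro g hg
    rw [Subgroup.mem_centralizer_singleton_iff]
    exact hcomm g hg
  rcases hmax _ hle with h | h
  · exact h
  · exfalso
    have hzc : z ∈ Subgroup.center G := by
      rw [Subgroup.mem_center_iff]
      intro g
      have : g ∈ Subgroup.centralizer ({z} : Set G) := by rw [h]; trivial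
      exact Subgroup.mem_centralizer_singleton_iff.mp this
    have hct : Subgroup.center G = ⊤ := by
      rcases IsSimpleGroup.eq_bot_or_eq_top_of_normal (Subgroup.center G) inferInstance with h1 | h1
      · rw [h1, Subgroup.mem_bot] at hzc
        exact absurd hzc hz1
      · exact h1
    have hHn : H.Normal := by
      refine ⟨fun n hn g => ?_⟩
      have hg : g ∈ Subgroup.center G := by rw [hct]; trivial
      have := Subgroup.mem_center_iff.mp hg n
      rw [← this, mul_inv_cancel_right]
      exact hn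
    rcases IsSimpleGroup.eq_bot_or_eq_top_of_normal H hHn with h1 | h1
    · rw [h1, Subgroup.mem_bot] at hzH
      exact hz1 hzH
    · exact hH h1

theorem card_conj (hC : Subgroup.centralizer ({z} : Set G) = H) :
    Nat.card (conjugatesOf z) = H.index := by
  let φ : G ⧸ H → G := fun q => Quotient.liftOn' q (fun g => g * z * g⁻¹) (by
    intro a b hab
    rw [QuotientGroup.leftRel_apply, ← hC, Subgroup.mem_centralizer_singleton_iff] at hab
    show a * z * a⁻¹ = b * z * b⁻¹
    calc a * z * a⁻¹ = b * ((a⁻¹ * b)⁻¹ * z * (a⁻¹ * b)) * b⁻¹ := by group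
      _ = b * ((a⁻¹ * b)⁻¹ * (a⁻¹ * b * z)) * b⁻¹ := by rw [hab]; group
      _ = b * z * b⁻¹ := by group)
  have hinj : Function.Injective φ := by
    intro p q
    induction p using QuotientGroup.induction_on with
    | H a =>
      induction q using QuotientGroup.induction_on with
      | H b =>
        intro hab
        have hab' : a * z * a⁻¹ = b * z * b⁻¹ := hab
        rw [QuotientGroup.eq, ← hC, Subgroup.mem_centralizer_singleton_iff]
        calc a⁻¹ * b * z = a⁻¹ * (b * z * b⁻¹) * b := by group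
          _ = a⁻¹ * (a * z * a⁻¹) * b := by rw [hab']
          _ = z * (a⁻¹ * b) := by group
  have hr : Set.range φ = conjugatesOf z := by
    ext x
    rw [mem_conj_iff]
    constructor
    · rintro ⟨q, rfl⟩
      induction q using QuotientGroup.induction_on with
      | H a => exact ⟨a, rfl⟩
    · rintro ⟨c, rfl⟩
      exact ⟨(c : G ⧸ H), rfl⟩
  rw [← hr, Nat.card_range_of_injective hinj]
  rfl

theorem closure_conj [IsSimpleGroup G] (hz1 : z ≠ 1) :
    Subgroup.closure (conjugatesOf z) = ⊤ := by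
  have h1 : Subgroup.normalClosure ({z} : Set G) = Subgroup.closure (conjugatesOf z) := by
    rw [Subgroup.normalClosure, Group.conjugatesOfSet]
    simp
  rw [← h1]
  rcases IsSimpleGroup.eq_bot_or_eq_top_of_normal (Subgroup.normalClosure ({z} : Set G)) inferInstance with h | h
  · exfalso
    have : z ∈ Subgroup.normalClosure ({z} : Set G) :=
      Subgroup.subset_normalClosure (Set.mem_singleton z)
    rw [h, Subgroup.mem_bot] at this
    exact hz1 this
  · exact h

theorem tt_set (hz1 : z ≠ 1) (hz2 : z * z = 1)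
    (hT : ∀ g : G, (z * (g * z * g⁻¹)) ^ 2 = 1 ∨ (z * (g * z * g⁻¹)) ^ 3 = 1) :
    Cfsg.IsThreeTranspositionSet (conjugatesOf z) := by
  constructor
  · intro d hd
    rw [mem_conj_iff] at hd
    obtain ⟨c, rfl⟩ := hd
    haveI : Fact (Nat.Prime 2) := ⟨Nat.prime_two⟩
    apply orderOf_eq_prime
    · rw [pow_two]
      calc c * z * c⁻¹ * (c * z * c⁻¹) = c * (z * z) * c⁻¹ := by group
        _ = 1 := by rw [hz2]; group
    · intro h
      apply hz1
      calc z = c⁻¹ * (c * z * c⁻¹) * c := by group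
        _ = 1 := by rw [h]; group
  · intro d hd e he
    rw [mem_conj_iff] at hd he
    obtain ⟨a, rfl⟩ := hd
    obtain ⟨b, rfl⟩ := he
    have key : a * z * a⁻¹ * (b * z * b⁻¹) =
        a * (z * ((a⁻¹ * b) * z * (a⁻¹ * b)⁻¹)) * a⁻¹ := by group
    rw [key, conj_pow, conj_pow]
    rcases hT (a⁻¹ * b) with h | h
    · left; rw [h]; group
    · right; rw [h]; group

theorem tt_class [IsSimpleGroup G] (hz1 : z ≠ 1) (hz2 : z * z = 1)
    (hT : ∀ g : G, (z * (g * z * g⁻¹)) ^ 2 = 1 ∨ (z * (g * z * g⁻¹)) ^ 3 = 1) :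
    Cfsg.IsThreeTranspositionClass (conjugatesOf z) :=
  ⟨tt_set z hz1 hz2 hT, ⟨z, mem_conjugatesOf_self, rfl⟩, closure_conj z hz1⟩

/-- double coset reduction of the 3-transposition condition -/
theorem pow_of_dc (hcomm : ∀ g ∈ H, g * z = z * g) (w : G) (k : ℕ)
    (hw : (z * (w * z * w⁻¹)) ^ k = 1) (h h' : G) (hh : h ∈ H) (hh' : h' ∈ H) :
    (z * ((h * w * h') * z * (h * w * h')⁻¹)) ^ k = 1 := by
  have e1 := hcomm h hh
  have e2 := hcomm h' hh'
  have key : z * ((h * w * h') * z * (h * w * h')⁻¹) = h * (z * (w * z * w⁻¹)) * h⁻¹ := by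
    calc z * ((h * w * h') * z * (h * w * h')⁻¹)
        = z * h * w * (h' * z) * h'⁻¹ * w⁻¹ * h⁻¹ := by group
      _ = h * z * w * (z * h') * h'⁻¹ * w⁻¹ * h⁻¹ := by rw [e2, ← e1]
      _ = h * (z * (w * z * w⁻¹)) * h⁻¹ := by group
  rw [key, conj_pow, hw]
  group

end main

end Cfsg.Agent.Lib.Helper33TT
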