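import Cfsg.Agent.Lib.Helper35Fi23Dc
import Cfsg.Agent.Lib.Helper33TT

set_option autoImplicit false
set_option maxRecDepth 100000

/-! The class of 31671 3-transpositions of the presented group Fi23 (on top of helper35's
coset enumeration of Fi23 over 2.Fi22). -/

namespace Cfsg.Agent.Lib.Helper33Fi23T

open Cfsg.Agent.Lib.Helper35TC Cfsg.Agent.Lib.Helper35Fi23Dc Cfsg.Agent.Lib.Helper33TT

def w1E : WExp Cfsg.Spor.Fi23.Gen := .of .j

def w2E : WExp Cfsg.Spor.Fi23.Gen :=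
  .mul (.mul (.mul (.mul (.mul (.mul (.mul (.mul (.mul (.mul (.mul (.of .j) (.of .g)) (.of .f))
    (.of .e)) (.of .d)) (.of .h)) (.of .c)) (.of .d)) (.of .e)) (.of .f)) (.of .g)) (.of .j)

def tE (w : WExp Cfsg.Spor.Fi23.Gen) : WExp Cfsg.Spor.Fi23.Gen :=
  .mul zE (.mul (.mul w zE) (.inv w))

theorem chk1 : BD3.fixChk K3.P ((WExp.pow (tE w1E) 3).app K3.code K3.P.iv) = true := by
  decide +kernel

theorem chk2 : BD3.fixChk K3.P ((WExp.pow (tE w2E) 2).app K3.code K3.P.iv) = true := by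
  decide +kernel

noncomputable def w1 : K3.Grp := PresentedGroup.mk K3.rels w1E.eval
noncomputable def w2 : K3.Grp := PresentedGroup.mk K3.rels w2E.eval

theorem pow1 : (z * (w1 * z * w1⁻¹)) ^ 3 = 1 := by
  have := Cfsg.Agent.Lib.Helper35Fi23Fin.word_eq_one _ chk1
  simp only [WExp.eval, tE, map_mul, map_inv, map_pow] at this
  exact this

theorem pow2 : (z * (w2 * z * w2⁻¹)) ^ 2 = 1 := by
  have := Cfsg.Agent.Lib.Helper35Fi23Fin.word_eq_one _ chk2
  simp only [WExp.eval, tE, map_mul, map_inv, map_pow] at this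
  exact this

theorem pt1 : ((ok3.phi w1) ok3.zero).val = 1 := by
  rw [w1, ok3.phi_mk_apply]
  show K3.P.walkA (w1E.app K3.code K3.P.iv) 0 = 1
  decide +kernel

theorem pt2 : ((ok3.phi w2) ok3.zero).val = 52 := by
  rw [w2, ok3.phi_mk_apply]
  show K3.P.walkA (w2E.app K3.code K3.P.iv) 0 = 52
  decide +kernel

theorem horb3 : ∀ j < K3.P.n, K3.P.chkOrb j = true := Cfsg.Agent.Lib.Helper35Fi23a.horb

theorem reduce (w : K3.Grp) (k : ℕ) (hw : (z * (w * z * w⁻¹)) ^ k = 1) (g h : K3.Grp)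
    (hh : h ∈ K3.H) (hg : ok3.phi h (ok3.phi w ok3.zero) = ok3.phi g ok3.zero) :
    (z * (g * z * g⁻¹)) ^ k = 1 := by
  have hh' : (h * w)⁻¹ * g ∈ K3.H := by
    rw [ok3.mem_H_iff, map_mul, Equiv.Perm.mul_apply, ← hg, map_inv, map_mul,
      ← Equiv.Perm.mul_apply (ok3.phi h)]
    simp
  have := pow_of_dc K3.H z z_comm w k hw h ((h * w)⁻¹ * g) hh hh'
  rwa [mul_inv_cancel_left] at this

theorem hT (g : K3.Grp) : (z * (g * z * g⁻¹)) ^ 2 = 1 ∨ (z * (g * z * g⁻¹)) ^ 3 = 1 := by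
  obtain ⟨h, hh, r, hr, hgr⟩ := ok3.connect horb3 (ok3.phi g ok3.zero)
  have hlab := ok3.lab_lt horb3 (ok3.phi g ok3.zero)
  generalize K3.P.lab (ok3.phi g ok3.zero) = c at hr hlab
  have hlab' : c < 3 := hlab
  interval_cases c
  · left
    have hr0 : r.val = 0 := hr
    apply reduce 1 2 ?_ g h hh ?_
    · rw [one_mul, inv_one, mul_one, z_sq, one_pow]
    · rw [map_one, Equiv.Perm.one_apply, ← hgr]
      congr 1
      exact Fin.ext hr0.symm
  · right
    have hr0 : r.val = 1 := hr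
    apply reduce w1 3 pow1 g h hh ?_
    rw [← hgr]
    congr 1
    exact Fin.ext (pt1.trans hr0.symm)
  · left
    have hr0 : r.val = 52 := hr
    apply reduce w2 2 pow2 g h hh ?_
    rw [← hgr]
    congr 1
    exact Fin.ext (pt2.trans hr0.symm)

theorem H_ne_top : K3.H ≠ ⊤ := by
  intro h
  have h1 := ok3.index_eq
  rw [h, Subgroup.index_top] at h1
  revert h1
  show (1 : ℕ) = 31671 → False
  decide

theorem cent_eq : Subgroup.centralizer ({z} : Set K3.Grp) = K3.H := by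
  haveI : IsSimpleGroup K3.Grp := Cfsg.Agent.Lib.Helper35Fi23Fin.simple
  exact centralizer_eq K3.H z
    (ok3.maximal horb3 Cfsg.Agent.Lib.Helper35Fi23Fin.sz Cfsg.Agent.Lib.Helper35Fi23Fin.hsz
      Cfsg.Agent.Lib.Helper35Fi23Fin.har) H_ne_top z_mem z_ne z_comm

theorem card_D : Nat.card (conjugatesOf z) = 31671 := by
  rw [card_conj K3.H z cent_eq, ok3.index_eq]
  rfl

theorem tt : Cfsg.IsThreeTranspositionClass (conjugatesOf z) := by
  haveI : IsSimpleGroup K3.Grp := Cfsg.Agent.Lib.Helper35Fi23Fin.simple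
  exact tt_class z z_ne z_sq hT

theorem cover_z : Cfsg.IsNonsplitDoubleCover (Subgroup.centralizer ({z} : Set K3.Grp)) K2.Grp :=
  nonsplit_congr (MulEquiv.subgroupCongr cent_eq.symm) main

theorem cover (d : K3.Grp) (hd : d ∈ conjugatesOf z) :
    Cfsg.IsNonsplitDoubleCover (Subgroup.centralizer ({d} : Set K3.Grp)) K2.Grp := by
  rw [mem_conj_iff] at hd
  obtain ⟨c, rfl⟩ := hd
  exact nonsplit_congr (centConj z c) cover_z

end Cfsg.Agent.Lib.Helper33Fi23T
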