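import Cfsg.Agent.Lib.Helper33LFrame

/-! # Base vectors for the sublattice stabilisers (helper33) -/

set_option autoImplicit false
set_option exponentiation.threshold 2000

namespace Cfsg.Agent.Lib.Helper33LBase

open Cfsg Cfsg.Agent.Lib.Helper33Golay Cfsg.Agent.Lib.Helper33Pack Cfsg.Agent.Lib.Helper33LVec
open Cfsg.Agent.Lib.Helper33LMat Cfsg.Agent.Lib.Helper33LTest Cfsg.Agent.Lib.Helper33LCo0
open Cfsg.Agent.Lib.Helper33LMin Cfsg.Agent.Lib.Helper33LReach Cfsg.Agent.Lib.Helper33Sets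
open Cfsg.Agent.Lib.Helper33LCo2 Cfsg.Agent.Lib.Helper33LCo2Thy Cfsg.Agent.Lib.Helper33LFrame

theorem dot_lin (b : ℕ) (α c0 c1 c2 : ℤ)
    (hb : ∀ i < 24, (fld b i : ℤ) - 16 = α + (if i = 0 then c0 else 0) + (if i = 1 then c1 else 0) +
      (if i = 2 then c2 else 0)) (m : ℕ) (hm : InR m) :
    dotInt (D b) (D m) = α * ((fsum m : ℤ) - 384) + c0 * ((fld m 0 : ℤ) - 16) +
      c1 * ((fld m 1 : ℤ) - 16) + c2 * ((fld m 2 : ℤ) - 16) := by
  rw [dot_expand b _ hb, ← sum_D m hm, sum_pt', ← D_pt m 0 (by norm_num), ← D_pt m 1 (by norm_num),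
    ← D_pt m 2 (by norm_num)]
  simp only [Finset.sum_range_succ, Finset.sum_range_zero]
  norm_num
  ring

/-- `(1, 5, 1, …, 1)` -/
def u0c : ℕ := 0x110000001100000011000000110000001100000011000000110000001100000011000000110000001100000011000000110000001100000011000000110000001100000011000000110000001100000011000000110000001500000011
/-- `(0, 4, 4, 0, …, 0)` -/
def x0c : ℕ := 0x100000001000000010000000100000001000000010000000100000001000000010000000100000001000000010000000100000001000000010000000100000001000000010000000100000001000000010000000140000001400000010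
/-- `(4, -4, 0, …, 0)` -/
def xhc : ℕ := 0x100000001000000010000000100000001000000010000000100000001000000010000000100000001000000010000000100000001000000010000000100000001000000010000000100000001000000010000000100000000c00000014
/-- `(-4, 4, 0, …, 0)` -/
def xmc : ℕ := 0x10000000100000001000000010000000100000001000000010000000100000001000000010000000100000001000000010000000100000001000000010000000100000001000000010000000100000001000000010000000140000000c

theorem u0c_ok : (inR u0c && isLeech u0c && normB 48 u0c) = true := by decide +kernel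
theorem x0c_ok : (inR x0c && isLeech x0c && normB 32 x0c) = true := by decide +kernel
theorem xhc_ok : (inR xhc && isLeech xhc && normB 32 xhc) = true := by decide +kernel
theorem xmc_ok : (inR xmc && isLeech xmc && normB 32 xmc) = true := by decide +kernel

theorem dot_u0 (m : ℕ) (hm : InR m) :
    dotInt (D u0c) (D m) = (fsum m : ℤ) + 4 * (fld m 1 : ℤ) - 448 := by
  rw [dot_lin u0c 1 0 4 0 (by decide +kernel) m hm]; ring

theorem dot_v0' (m : ℕ) (hm : InR m) :
    dotInt (D v0c) (D m) = 4 * (fld m 0 : ℤ) + 4 * (fld m 1 : ℤ) - 128 := by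
  rw [dot_lin v0c 0 4 4 0 (by decide +kernel) m hm]; ring

theorem dot_x0 (m : ℕ) (hm : InR m) :
    dotInt (D x0c) (D m) = 4 * (fld m 1 : ℤ) + 4 * (fld m 2 : ℤ) - 128 := by
  rw [dot_lin x0c 0 0 4 4 (by decide +kernel) m hm]; ring

theorem dot_xh (m : ℕ) (hm : InR m) :
    dotInt (D xhc) (D m) = 4 * (fld m 0 : ℤ) - 4 * (fld m 1 : ℤ) := by
  rw [dot_lin xhc 0 4 (-4) 0 (by decide +kernel) m hm]; ring

theorem dot_xm (m : ℕ) (hm : InR m) :
    dotInt (D xmc) (D m) = 4 * (fld m 1 : ℤ) - 4 * (fld m 0 : ℤ) := by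
  rw [dot_lin xmc 0 (-4) 4 0 (by decide +kernel) m hm]; ring

/-! ### atomic conditions -/

/-- inner product with `u0` equals `s - 448` -/
def cU (s m : ℕ) : Bool := Nat.beq (Nat.add (fsum m) (Nat.mul 4 (fld m 1))) s
/-- inner product with `v0` equals `4 s - 128` -/
def cV (s m : ℕ) : Bool := Nat.beq (Nat.add (fld m 0) (fld m 1)) s
/-- inner product with `x0` equals `4 s - 128` -/
def cX (s m : ℕ) : Bool := Nat.beq (Nat.add (fld m 1) (fld m 2)) s
/-- inner product with `xh` equals `4 s - 128` -/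
def cH (s m : ℕ) : Bool := Nat.beq (Nat.add (fld m 0) 32) (Nat.add (fld m 1) s)
/-- inner product with `xm` equals `4 s - 128` -/
def cM (s m : ℕ) : Bool := Nat.beq (Nat.add (fld m 1) 32) (Nat.add (fld m 0) s)

theorem cU_iff (s m : ℕ) (hm : InR m) : cU s m = true ↔ dotInt (D u0c) (D m) = (s : ℤ) - 448 := by
  rw [dot_u0 m hm, cU, Nat.beq_eq]
  show fsum m + 4 * fld m 1 = s ↔ _
  omega

theorem cV_iff (s m : ℕ) (hm : InR m) : cV s m = true ↔ dotInt (D v0c) (D m) = 4 * (s : ℤ) - 128 := by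
  rw [dot_v0' m hm, cV, Nat.beq_eq]
  show fld m 0 + fld m 1 = s ↔ _
  omega

theorem cX_iff (s m : ℕ) (hm : InR m) : cX s m = true ↔ dotInt (D x0c) (D m) = 4 * (s : ℤ) - 128 := by
  rw [dot_x0 m hm, cX, Nat.beq_eq]
  show fld m 1 + fld m 2 = s ↔ _
  omega

theorem cH_iff (s m : ℕ) (hm : InR m) : cH s m = true ↔ dotInt (D xhc) (D m) = 4 * (s : ℤ) - 128 := by
  rw [dot_xh m hm, cH, Nat.beq_eq]
  show fld m 0 + 32 = fld m 1 + s ↔ _
  omega

theorem cM_iff (s m : ℕ) (hm : InR m) : cM s m = true ↔ dotInt (D xmc) (D m) = 4 * (s : ℤ) - 128 := by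
  rw [dot_xm m hm, cM, Nat.beq_eq]
  show fld m 1 + 32 = fld m 0 + s ↔ _
  omega

/-! ### class functions -/

def kV (m : ℕ) : ℕ := Nat.add (fld m 0) (fld m 1)
def kX (m : ℕ) : ℕ := Nat.add (fld m 1) (fld m 2)
def kH (m : ℕ) : ℕ := Nat.sub (Nat.add (fld m 0) 32) (fld m 1)
def kM (m : ℕ) : ℕ := Nat.sub (Nat.add (fld m 1) 32) (fld m 0)

theorem kV_eq (m : ℕ) (hm : InR m) : dotInt (D v0c) (D m) = 4 * (kV m : ℤ) - 128 := by
  rw [dot_v0' m hm]
  show _ = 4 * ((fld m 0 + fld m 1 : ℕ) : ℤ) - 128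
  push_cast; ring

theorem kX_eq (m : ℕ) (hm : InR m) : dotInt (D x0c) (D m) = 4 * (kX m : ℤ) - 128 := by
  rw [dot_x0 m hm]
  show _ = 4 * ((fld m 1 + fld m 2 : ℕ) : ℤ) - 128
  push_cast; ring

theorem kH_eq (m : ℕ) (hm : InR m) : dotInt (D xhc) (D m) = 4 * (kH m : ℤ) - 128 := by
  rw [dot_xh m hm]
  have := hm.2 1 (by norm_num)
  show _ = 4 * ((fld m 0 + 32 - fld m 1 : ℕ) : ℤ) - 128
  omega

theorem kM_eq (m : ℕ) (hm : InR m) : dotInt (D xmc) (D m) = 4 * (kM m : ℤ) - 128 := by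
  rw [dot_xm m hm]
  have := hm.2 0 (by norm_num)
  show _ = 4 * ((fld m 1 + 32 - fld m 0 : ℕ) : ℤ) - 128
  omega

end Cfsg.Agent.Lib.Helper33LBase
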