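import Cfsg.Agent.Lib.Helper33LFrame2
import Cfsg.Agent.Lib.Helper33LGMcL

/-! # The base vector `(-3, 1, …, 1)` (helper33) -/

set_option autoImplicit false
set_option exponentiation.threshold 2000

namespace Cfsg.Agent.Lib.Helper33LBaseW

open Cfsg Cfsg.Agent.Lib.Helper33Golay Cfsg.Agent.Lib.Helper33Pack Cfsg.Agent.Lib.Helper33LVec
open Cfsg.Agent.Lib.Helper33LMat Cfsg.Agent.Lib.Helper33LTest Cfsg.Agent.Lib.Helper33LCo0
open Cfsg.Agent.Lib.Helper33LMin Cfsg.Agent.Lib.Helper33LReach Cfsg.Agent.Lib.Helper33Sets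
open Cfsg.Agent.Lib.Helper33LCo2 Cfsg.Agent.Lib.Helper33LCo2Thy Cfsg.Agent.Lib.Helper33LFrame
open Cfsg.Agent.Lib.Helper33LBase Cfsg.Agent.Lib.Helper33LFrame2

/-- `(-3, 1, …, 1)` -/
def w0c : ℕ := 0x11000000110000001100000011000000110000001100000011000000110000001100000011000000110000001100000011000000110000001100000011000000110000001100000011000000110000001100000011000000110000000d

theorem w0c_ok : (inR w0c && isLeech w0c && normB 32 w0c) = true := by decide +kernel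

theorem gens_okW : Helper33LGMcL.gens.all (fun P => goodP P && [v0c, w0c].all (fun b => stepOK P b b)) = true := by
  decide +kernel

theorem dot_w0 (m : ℕ) (hm : InR m) :
    dotInt (D w0c) (D m) = (fsum m : ℤ) - 4 * (fld m 0 : ℤ) - 320 := by
  rw [dot_lin w0c 1 (-4) 0 0 (by decide +kernel) m hm]; ring

/-- inner product with `w0` equals `s - 448` -/
def cW (s m : ℕ) : Bool := Nat.beq (Nat.add (fsum m) 128) (Nat.add (Nat.mul 4 (fld m 0)) s)

theorem cW_iff (s m : ℕ) (hm : InR m) : cW s m = true ↔ dotInt (D w0c) (D m) = (s : ℤ) - 448 := by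
  rw [dot_w0 m hm, cW, Nat.beq_eq]
  show fsum m + 128 = 4 * fld m 0 + s ↔ _
  omega

theorem hW (s : ℕ) (k : ℤ) (h : (s : ℤ) - 448 = k) :
    ∀ m, InR m → (cW s m = true ↔ dotInt (D w0c) (D m) = k) := fun m hm => h ▸ cW_iff s m hm

def kW (m : ℕ) : ℕ := Nat.sub (Nat.add (fsum m) 128) (Nat.mul 4 (fld m 0))

theorem kW_eq (m : ℕ) (hm : InR m) : dotInt (D w0c) (D m) = (kW m : ℤ) - 448 := by
  rw [dot_w0 m hm]
  have := hm.2 0 (by norm_num)
  show _ = ((fsum m + 128 - 4 * fld m 0 : ℕ) : ℤ) - 448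
  omega

/-- variant of `trans_of_reach` for class functions with `dot = cls - b` -/
theorem trans_of_reach' (bs : List ℕ) (xc : ℕ) (hxc : D xc ∈ leechLattice) (ks : List ℤ)
    (hl : bs.length = ks.length) (cls : ℕ → ℕ) (b : ℤ)
    (hcls : ∀ m, InR m → dotInt (D xc) (D m) = (cls m : ℤ) - b)
    (R : ∀ y ∈ C (bs.map DL) ks, ∀ y' ∈ C (bs.map DL) ks,
      cls (code (y : GolayPt → ℤ)) = cls (code (y' : GolayPt → ℤ)) →
      ∃ g : ↥Co0, Fixes g ((bs ++ [xc]).map DL) ∧ g • y = y') (k : ℤ) :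
    Trans ((bs ++ [xc]).map DL) (ks ++ [k]) := by
  intro y hy y' hy'
  rw [List.map_append, List.map_cons, List.map_nil, mem_C_append _ _ _ _ _ (by simpa using hl)] at hy hy'
  apply R y hy.1 y' hy'.1
  obtain ⟨h1, h2, _, _⟩ := code_facts y hy.1.1
  obtain ⟨h1', h2', _, _⟩ := code_facts y' hy'.1.1
  have e1 := hcls _ h1
  have e2 := hcls _ h1'
  rw [h2, ← DL_coe hxc, hy.2] at e1
  rw [h2', ← DL_coe hxc, hy'.2] at e2
  omega

theorem dot_of_cls' (xc : ℕ) (hxc : D xc ∈ leechLattice) (cls : ℕ → ℕ) (b : ℤ)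
    (hcls : ∀ m, InR m → dotInt (D xc) (D m) = (cls m : ℤ) - b) (y : LV)
    (hy : sqNorm (y : GolayPt → ℤ) = 32) :
    dotInt ((DL xc : LV) : GolayPt → ℤ) (y : GolayPt → ℤ) = (cls (code (y : GolayPt → ℤ)) : ℤ) - b := by
  obtain ⟨h1, h2, _, _⟩ := code_facts y hy
  have e1 := hcls _ h1
  rwa [h2, ← DL_coe hxc] at e1

end Cfsg.Agent.Lib.Helper33LBaseW
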