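import Cfsg.Agent.Lib.Helper33LGHS
import Cfsg.Agent.Lib.Helper33LL24

set_option autoImplicit false
set_option exponentiation.threshold 2000

open Cfsg Cfsg.Agent.Lib.Helper33Golay Cfsg.Agent.Lib.Helper33LVec Cfsg.Agent.Lib.Helper33LMat
open Cfsg.Agent.Lib.Helper33LTest Cfsg.Agent.Lib.Helper33LCo0 Cfsg.Agent.Lib.Helper33LMin
open Cfsg.Agent.Lib.Helper33LReach Cfsg.Agent.Lib.Helper33Sets Cfsg.Agent.Lib.Helper33LReach2
open Cfsg.Agent.Lib.Helper33LMinTrans Cfsg.Agent.Lib.Helper33LPat
open Cfsg.Agent.Lib.Helper33LCo2 Cfsg.Agent.Lib.Helper33LFrame Cfsg.Agent.Lib.Helper33LBase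

namespace Cfsg.Agent.Lib.Helper33LR100

open Cfsg.Agent.Lib.Helper33LGHS Cfsg.Agent.Lib.Helper33LL24

def ent_g0 (c : ℕ) : ℕ :=
  0x70000062000050034000000000000054043000000000000000000000000041051000000050000000000041041000000000000000000065000000050000000000000000000042052053000041043053000000054000073000051033044000000060080000051060000000000053012021042000000000000000052031071000062050070013000000061041000000000000025000000000000000061054000052051000000000000065000000000000000000060023063050000021043000000000000000045000000055054000000000044000060032031084000044000000050000030040040031000050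

def ent_c (c : ℕ) : ℕ :=
  ent_g0 c

def ent (X : ℕ) : ℕ :=
  Nat.land (Nat.shiftRight (ent_c (Nat.shiftRight (Nat.mod X 157) 8)) (Nat.mul 12 (Nat.land (Nat.mod X 157) 255))) 4095


def rootOf (c : ℕ) : ℕ := 0x100000001000000010000000100000001000000010000000100000001000000010000000100000001000000010000000100000001000000010000000100000001000000010000000100000001000000010000000100000001400000014

def q (m : ℕ) : Bool := cH 32 m

def cls (m : ℕ) : ℕ := 0

set_option maxRecDepth 1000000 in
theorem chk : lst.all (fun m => !q m || chkM gens ent cls rootOf m) = true := by decide +kernel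

end Cfsg.Agent.Lib.Helper33LR100
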