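import Cfsg.Agent.Lib.Helper33LGM22
import Cfsg.Agent.Lib.Helper33LL24

set_option autoImplicit false
set_option exponentiation.threshold 2000

open Cfsg Cfsg.Agent.Lib.Helper33Golay Cfsg.Agent.Lib.Helper33LVec Cfsg.Agent.Lib.Helper33LMat
open Cfsg.Agent.Lib.Helper33LTest Cfsg.Agent.Lib.Helper33LCo0 Cfsg.Agent.Lib.Helper33LMin
open Cfsg.Agent.Lib.Helper33LReach Cfsg.Agent.Lib.Helper33Sets Cfsg.Agent.Lib.Helper33LReach2
open Cfsg.Agent.Lib.Helper33LMinTrans Cfsg.Agent.Lib.Helper33LPat
open Cfsg.Agent.Lib.Helper33LCo2 Cfsg.Agent.Lib.Helper33LFrame Cfsg.Agent.Lib.Helper33LBase

namespace Cfsg.Agent.Lib.Helper33LR100v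

open Cfsg.Agent.Lib.Helper33LGM22 Cfsg.Agent.Lib.Helper33LL24

def ent_g0 (c : ℕ) : ℕ :=
  0x200820000600410900000000500300000000000000810000000330110000920000000000000000000000000000000000600320000000800330000310000000000000220000700700000000000000500000000000000610000900000000000000000000000000630000710000410410000000000210000000700000000000000530000000800000000520620400000000000000000400610210710000000820200000600620510000000120320000510000510000000100000630000730000000910300000000600000810000600000000000620710000200000300710a0000000071041000062000000052000000000000000010071000000071013040070012063062000011031080043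

def ent_c (c : ℕ) : ℕ :=
  ent_g0 c

def ent (X : ℕ) : ℕ :=
  Nat.land (Nat.shiftRight (ent_c (Nat.shiftRight (Nat.mod X 179) 8)) (Nat.mul 12 (Nat.land (Nat.mod X 179) 255))) 4095


def rootOf (c : ℕ) : ℕ := bif Nat.beq c 34 then 0x1100000011000000110000001100000011000000110000001100000011000000110000001100000011000000110000001100000011000000110000001100000011000000110000001100000011000000110000000d0000001100000011 else bif Nat.beq c 36 then 0x120000001000000010000000100000001200000012000000120000001000000012000000100000001200000010000000100000001000000010000000100000001000000010000000100000001000000010000000100000001200000012 else 0x100000001000000010000000100000001000000010000000100000001000000010000000100000001000000010000000100000001000000010000000100000001000000010000000100000001000000010000000100000001400000014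

def q (m : ℕ) : Bool := cH 32 m

def cls (m : ℕ) : ℕ := kV m

set_option maxRecDepth 1000000 in
theorem chk : lst.all (fun m => !q m || chkM gens ent cls rootOf m) = true := by decide +kernel

end Cfsg.Agent.Lib.Helper33LR100v
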