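import Cfsg.Agent.Lib.Helper33LMcL
import Cfsg.Agent.Lib.Helper33LR11178
import Cfsg.Agent.Lib.Helper33LR11178h
import Cfsg.Agent.Lib.Helper33LR100
import Cfsg.Agent.Lib.Helper33LR100v

/-! # The configurations of the third Conway group and the Higman–Sims group (helper33) -/

set_option autoImplicit false
set_option exponentiation.threshold 2000

namespace Cfsg.Agent.Lib.Helper33LHS

open Cfsg Cfsg.Agent.Lib.Helper33Golay Cfsg.Agent.Lib.Helper33Pack Cfsg.Agent.Lib.Helper33LVec
open Cfsg.Agent.Lib.Helper33LMat Cfsg.Agent.Lib.Helper33LTest Cfsg.Agent.Lib.Helper33LCo0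
open Cfsg.Agent.Lib.Helper33LMin Cfsg.Agent.Lib.Helper33LReach Cfsg.Agent.Lib.Helper33Sets
open Cfsg.Agent.Lib.Helper33LMinTrans Cfsg.Agent.Lib.Helper33LReach2 Cfsg.Agent.Lib.Helper33LSound
open Cfsg.Agent.Lib.Helper33LCount Cfsg.Agent.Lib.Helper33LPair Cfsg.Agent.Lib.Helper33LPat
open Cfsg.Agent.Lib.Helper33LCo2 Cfsg.Agent.Lib.Helper33LCo2Thy Cfsg.Agent.Lib.Helper33LFrame
open Cfsg.Agent.Lib.Helper33LBase Cfsg.Agent.Lib.Helper33LFrame2 Cfsg.Agent.Lib.Helper33LN48
open Cfsg.Agent.Lib.Helper33LMcL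

theorem okUH : ∀ b ∈ [u0c, xhc], InR b ∧ D b ∈ leechLattice := by
  intro b hb; simp only [List.mem_cons, List.not_mem_nil, or_false] at hb
  rcases hb with rfl | rfl
  exacts [okU, okH]

theorem okUHV : ∀ b ∈ [u0c, xhc, v0c], InR b ∧ D b ∈ leechLattice := by
  intro b hb; simp only [List.mem_cons, List.not_mem_nil, or_false] at hb
  rcases hb with rfl | rfl | rfl
  exacts [okU, okH, okV]

theorem ok4 : ∀ b ∈ [u0c, v0c, xhc, xmc], InR b ∧ D b ∈ leechLattice := by
  intro b hb; simp only [List.mem_cons, List.not_mem_nil, or_false] at hb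
  rcases hb with rfl | rfl | rfl | rfl
  exacts [okU, okV, okH, okM]

/-! ### the 11178 vectors -/

theorem hcm : ∀ m, InR m → (Helper33LLm16.cnd m = true ↔ dotsC [u0c] (D m) = [-16]) :=
  hc_one u0c (-16) _ (hU 432 (-16) (by norm_num))

theorem hcm' : ∀ m, InR m → ((Helper33LLm16.cnd m && Helper33LR11178.q m) = true ↔
    dotsC [u0c] (D m) = [-16]) := by
  intro m hm
  rw [← hcm m hm]
  simp [Helper33LR11178.q]

set_option maxRecDepth 1000000 in
theorem len11178 : Helper33LLm16.lst.length = 11178 := by decide +kernel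

theorem n11178 : (C [DL u0c] [-16]).ncard = 11178 := by
  have := base_ncard [u0c] (fun b hb => (ok1 b hb).2) [-16] _ hcm
  rw [Helper33LLm16.lst_eq, len11178] at this
  exact this

theorem T11178 : Trans [DL u0c] [-16] := fun y hy y' hy' =>
  base_reach [u0c] [u0c] ok1 (fun _ h => h) [-16] Helper33LGCo3.gens Helper33LR11178.ent
    Helper33LR11178.cls Helper33LR11178.rootOf Helper33LGCo3.gens_ok _ hcm'
    (forall_of_lst _ _ _ _ Helper33LLm16.lst_eq Helper33LR11178.chk) y hy y' hy'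
    (show (0 : ℕ) = 0 from rfl)

theorem H_mem : DL xhc ∈ C [DL u0c] [-16] :=
  mem_base [u0c] (fun b hb => (ok1 b hb).2) [-16] _ hcm xhc xhc_ok (by decide +kernel)

theorem mvUH (u x : LV) (hu : sqNorm (u : GolayPt → ℤ) = 48) (hx : x ∈ C [u] [-16]) :
    ∃ g : ↥Co0, mv g [u, x] = [DL u0c, DL xhc] := by
  obtain ⟨g, hg⟩ := mvU u hu
  exact ext_mv g [u] [DL u0c] [-16] x (DL xhc) hg T11178 hx H_mem

/-! ### the orbits of the stabiliser of a point on the 11178 vectors -/

theorem hcmh : ∀ m, InR m → ((Helper33LLm16.cnd m && Helper33LR11178h.q m) = true ↔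
    dotsC [u0c] (D m) = [-16]) := by
  intro m hm
  rw [← hcm m hm]
  simp [Helper33LR11178h.q]

theorem TH (k : ℤ) : Trans [DL u0c, DL xhc] [-16, k] :=
  trans_of_reach [u0c] xhc okH.2 [-16] rfl Helper33LR11178h.cls (fun m hm => kH_eq m hm)
    (base_reach [u0c, xhc] [u0c] okUH (fun _ hb => List.mem_append_left [xhc] hb) [-16]
      Helper33LGHS.gens Helper33LR11178h.ent Helper33LR11178h.cls Helper33LR11178h.rootOf
      Helper33LGHS.gens_ok _ hcmh (forall_of_lst _ _ _ _ Helper33LLm16.lst_eq Helper33LR11178h.chk)) k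

theorem hcmk (s : ℕ) (k : ℤ) (h : 4 * (s : ℤ) - 128 = k) :
    ∀ m, InR m → ((Helper33LLm16.cnd m && cH s m) = true ↔ dotsC [u0c, xhc] (D m) = [-16, k]) :=
  hc_cons u0c (-16) _ (hU 432 (-16) (by norm_num)) [xhc] [k] _ (hc_one xhc k _ (hH s k h))

set_option maxRecDepth 1000000 in
theorem len352 : (Helper33LLm16.lst.filter (cH 30)).length = 352 := by decide +kernel
set_option maxRecDepth 1000000 in
theorem len1100 : (Helper33LLm16.lst.filter (cH 36)).length = 1100 := by decide +kernel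
set_option maxRecDepth 1000000 in
theorem len4125 : (Helper33LLm16.lst.filter (cH 32)).length = 4125 := by decide +kernel
set_option maxRecDepth 1000000 in
theorem len5600 : (Helper33LLm16.lst.filter (cH 34)).length = 5600 := by decide +kernel

theorem nH (s n : ℕ) (k : ℤ) (h : 4 * (s : ℤ) - 128 = k)
    (hl : (Helper33LLm16.lst.filter (cH s)).length = n) : (C [DL u0c, DL xhc] [-16, k]).ncard = n := by
  have := base_ncard [u0c, xhc] (fun b hb => (okUH b hb).2) [-16, k] _ (hcmk s k h)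
  rw [filter_and _ _ _ Helper33LLm16.lst_eq, hl] at this
  exact this

/-- the possible inner products -/
def valsH (m : ℕ) : Bool :=
  Nat.beq m xhc || Nat.beq (kH m) 30 || Nat.beq (kH m) 32 || Nat.beq (kH m) 34 || Nat.beq (kH m) 36

set_option maxRecDepth 1000000 in
theorem valsH_chk : Helper33LLm16.lst.all (fun m => !Helper33LR11178.q m || valsH m) = true := by
  decide +kernel

theorem valsH_spec (y : LV) (hy : y ∈ C [DL u0c] [-16]) : y = DL xhc ∨
    dotInt ((DL xhc : LV) : GolayPt → ℤ) (y : GolayPt → ℤ) = -8 ∨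
    dotInt ((DL xhc : LV) : GolayPt → ℤ) (y : GolayPt → ℤ) = 0 ∨
    dotInt ((DL xhc : LV) : GolayPt → ℤ) (y : GolayPt → ℤ) = 8 ∨
    dotInt ((DL xhc : LV) : GolayPt → ℤ) (y : GolayPt → ℤ) = 16 := by
  have h := base_forall [u0c] (fun b hb => (ok1 b hb).2) [-16] _ hcm' valsH
    (forall_of_lst _ _ _ _ Helper33LLm16.lst_eq valsH_chk) y hy
  have hd := dot_of_cls xhc okH.2 kH (fun m hm => kH_eq m hm) y hy.1
  unfold valsH at h
  simp only [Bool.or_eq_true, Nat.beq_eq] at h
  rcases h with (((h | h) | h) | h) | h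
  · left; rw [← (code_facts y hy.1).2.2.2, h]
  all_goals (rw [h] at hd; norm_num at hd; simp [hd])

/-! ### the 100 vectors -/

theorem hc100 : ∀ m, InR m → ((Helper33LL24.cnd m && Helper33LR100.q m) = true ↔
    dotsC [u0c, xhc] (D m) = [24, 0]) :=
  hc_cons u0c 24 _ (hU 472 24 (by norm_num)) [xhc] [0] _ (hc_one xhc 0 _ (hH 32 0 (by norm_num)))

set_option maxRecDepth 100000 in
theorem len100 : (Helper33LL24.lst.filter Helper33LR100.q).length = 100 := by decide +kernel

theorem n100 : (C [DL u0c, DL xhc] [24, 0]).ncard = 100 := by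
  have := base_ncard [u0c, xhc] (fun b hb => (okUH b hb).2) [24, 0] _ hc100
  rw [filter_and _ _ _ Helper33LL24.lst_eq, len100] at this
  exact this

theorem T100 : Trans [DL u0c, DL xhc] [24, 0] := fun y hy y' hy' =>
  base_reach [u0c, xhc] [u0c, xhc] okUH (fun _ h => h) [24, 0] Helper33LGHS.gens Helper33LR100.ent
    Helper33LR100.cls Helper33LR100.rootOf Helper33LGHS.gens_ok _ hc100
    (forall_of_lst _ _ _ _ Helper33LL24.lst_eq Helper33LR100.chk) y hy y' hy'
    (show (0 : ℕ) = 0 from rfl)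

theorem V_mem100 : DL v0c ∈ C [DL u0c, DL xhc] [24, 0] :=
  mem_base [u0c, xhc] (fun b hb => (okUH b hb).2) [24, 0] _ hc100 v0c v0c_ok (by decide +kernel)

theorem mvUHV (u x p : LV) (hu : sqNorm (u : GolayPt → ℤ) = 48) (hx : x ∈ C [u] [-16])
    (hp : p ∈ C [u, x] [24, 0]) : ∃ g : ↥Co0, mv g [u, x, p] = [DL u0c, DL xhc, DL v0c] := by
  obtain ⟨g, hg⟩ := mvUH u x hu hx
  exact ext_mv g [u, x] [DL u0c, DL xhc] [24, 0] p (DL v0c) hg T100 hp V_mem100

/-! ### the stabiliser of one of the 100 vectors -/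

theorem fixes_sub {g : ↥Co0} {F F' : List LV} (h : Fixes g F) (hs : ∀ b ∈ F', b ∈ F) : Fixes g F' :=
  fun b hb => h b (hs b hb)

theorem TV (k : ℤ) : Trans [DL u0c, DL xhc, DL v0c] [24, 0, k] :=
  trans_of_reach [u0c, xhc] v0c okV.2 [24, 0] rfl Helper33LR100v.cls (fun m hm => kV_eq m hm)
    (fun y hy y' hy' hc => by
      obtain ⟨g, hg, h⟩ := base_reach [u0c, v0c, xhc, xmc] [u0c, xhc] ok4
        (fun b hb => by
          simp only [List.mem_cons, List.not_mem_nil, or_false] at hb ⊢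
          rcases hb with rfl | rfl <;> simp) [24, 0]
        Helper33LGM22.gens Helper33LR100v.ent Helper33LR100v.cls Helper33LR100v.rootOf
        Helper33LGM22.gens_ok _ hc100
        (forall_of_lst _ _ _ _ Helper33LL24.lst_eq Helper33LR100v.chk) y hy y' hy' hc
      refine ⟨g, fixes_sub hg ?_, h⟩
      intro b hb
      simp only [List.map_append, List.map_cons, List.map_nil, List.cons_append, List.nil_append,
        List.mem_cons, List.not_mem_nil, or_false] at hb ⊢
      rcases hb with rfl | rfl | rfl <;> simp) k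

theorem hc100k (s : ℕ) (k : ℤ) (h : 4 * (s : ℤ) - 128 = k) :
    ∀ m, InR m → ((Helper33LL24.cnd m && (cH 32 m && cV s m)) = true ↔
    dotsC [u0c, xhc, v0c] (D m) = [24, 0, k]) :=
  hc_cons u0c 24 _ (hU 472 24 (by norm_num)) [xhc, v0c] [0, k] _
    (hc_cons xhc 0 _ (hH 32 0 (by norm_num)) [v0c] [k] _ (hc_one v0c k _ (hV s k h)))

set_option maxRecDepth 100000 in
theorem len22 : (Helper33LL24.lst.filter (fun m => cH 32 m && cV 34 m)).length = 22 := by
  decide +kernel

set_option maxRecDepth 100000 in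
theorem len77 : (Helper33LL24.lst.filter (fun m => cH 32 m && cV 36 m)).length = 77 := by
  decide +kernel

theorem n22 : (C [DL u0c, DL xhc, DL v0c] [24, 0, 8]).ncard = 22 := by
  have := base_ncard [u0c, xhc, v0c] (fun b hb => (okUHV b hb).2) [24, 0, 8] _ (hc100k 34 8 (by norm_num))
  rw [filter_and _ _ _ Helper33LL24.lst_eq, len22] at this
  exact this

theorem n77 : (C [DL u0c, DL xhc, DL v0c] [24, 0, 16]).ncard = 77 := by
  have := base_ncard [u0c, xhc, v0c] (fun b hb => (okUHV b hb).2) [24, 0, 16] _ (hc100k 36 16 (by norm_num))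
  rw [filter_and _ _ _ Helper33LL24.lst_eq, len77] at this
  exact this

def valsV (m : ℕ) : Bool := Nat.beq m v0c || Nat.beq (kV m) 34 || Nat.beq (kV m) 36

set_option maxRecDepth 1000000 in
theorem valsV_chk : Helper33LL24.lst.all (fun m => !Helper33LR100.q m || valsV m) = true := by
  decide +kernel

theorem valsV_spec (y : LV) (hy : y ∈ C [DL u0c, DL xhc] [24, 0]) : y = DL v0c ∨
    dotInt ((DL v0c : LV) : GolayPt → ℤ) (y : GolayPt → ℤ) = 8 ∨
    dotInt ((DL v0c : LV) : GolayPt → ℤ) (y : GolayPt → ℤ) = 16 := by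
  have h := base_forall [u0c, xhc] (fun b hb => (okUH b hb).2) [24, 0] _ hc100 valsV
    (forall_of_lst _ _ _ _ Helper33LL24.lst_eq valsV_chk) y hy
  have hd := dot_of_cls v0c okV.2 kV (fun m hm => kV_eq m hm) y hy.1
  unfold valsV at h
  simp only [Bool.or_eq_true, Nat.beq_eq] at h
  rcases h with (h | h) | h
  · left; rw [← (code_facts y hy.1).2.2.2, h]
  all_goals (rw [h] at hd; norm_num at hd; simp [hd])

end Cfsg.Agent.Lib.Helper33LHS
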