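import Cfsg.Agent.Lib.Helper33LWord
import Cfsg.Agent.Lib.Helper33LHS

/-! # Centralisers in `Co3` by Gram-matrix searches (helper33) -/

set_option autoImplicit false
set_option exponentiation.threshold 2000

namespace Cfsg.Agent.Lib.Helper33LCent

open Cfsg Cfsg.Agent.Lib.Helper33Golay Cfsg.Agent.Lib.Helper33LVec Cfsg.Agent.Lib.Helper33LMat
open Cfsg.Agent.Lib.Helper33LTest Cfsg.Agent.Lib.Helper33LCo0 Cfsg.Agent.Lib.Helper33LFrame
open Cfsg.Agent.Lib.Helper33LGood Cfsg.Agent.Lib.Helper33LReach2 Cfsg.Agent.Lib.Helper33LWord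
open Cfsg.Agent.Lib.Helper33LPat Cfsg.Agent.Lib.Helper33LFrame2 Cfsg.Agent.Lib.Helper33LBase
open Cfsg.Agent.Lib.Helper33LMcL Cfsg.Agent.Lib.Helper33LHS Cfsg.Agent.Lib.Helper33LReach
open Cfsg.Agent.Lib.Helper33LCo2Thy
open MulAction

/-! ### inner products of coded vectors -/

def dotN (a b : ℕ) : ℕ :=
  Nat.add (Nat.add (Nat.add (Nat.add (Nat.add (Nat.add (Nat.add (Nat.add (Nat.add (Nat.add (Nat.add (Nat.add (Nat.add (Nat.add (Nat.add (Nat.add (Nat.add (Nat.add (Nat.add (Nat.add (Nat.add (Nat.add (Nat.add (Nat.add ((0)) (Nat.mul (fld a 0) (fld b 0))) (Nat.mul (fld a 1) (fld b 1))) (Nat.mul (fld a 2) (fld b 2))) (Nat.mul (fld a 3) (fld b 3))) (Nat.mul (fld a 4) (fld b 4))) (Nat.mul (fld a 5) (fld b 5))) (Nat.mul (fld a 6) (fld b 6))) (Nat.mul (fld a 7) (fld b 7))) (Nat.mul (fld a 8) (fld b 8))) (Nat.mul (fld a 9) (fld b 9))) (Nat.mul (fld a 10) (fld b 10))) (Nat.mul (fld a 11) (fld b 11))) (Nat.mul (fld a 12) (fld b 12))) (Nat.mul (fld a 13)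 (fld b 13))) (Nat.mul (fld a 14) (fld b 14))) (Nat.mul (fld a 15) (fld b 15))) (Nat.mul (fld a 16) (fld b 16))) (Nat.mul (fld a 17) (fld b 17))) (Nat.mul (fld a 18) (fld b 18))) (Nat.mul (fld a 19) (fld b 19))) (Nat.mul (fld a 20) (fld b 20))) (Nat.mul (fld a 21) (fld b 21))) (Nat.mul (fld a 22) (fld b 22))) (Nat.mul (fld a 23) (fld b 23))

theorem dotN_eq (a b : ℕ) : dotN a b = ∑ i ∈ Finset.range 24, fld a i * fld b i := by
  simp only [Finset.sum_range_succ, Finset.sum_range_zero]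
  rfl

/-- the inner product of the vectors coded by `a`, `b` is `τ - 64` -/
def dotEq (a b τ : ℕ) : Bool :=
  Nat.beq (Nat.add (dotN a b) 6208) (Nat.add (Nat.mul 16 (Nat.add (fsum a) (fsum b))) τ)

theorem dot_D (a b : ℕ) (ha : InR a) (hb : InR b) :
    dotInt (D a) (D b) = (dotN a b : ℤ) + 6144 - 16 * ((fsum a : ℤ) + (fsum b : ℤ)) := by
  unfold dotInt D
  rw [sum_pt (fun i => ((fld a i : ℤ) - 16) * ((fld b i : ℤ) - 16)), dotN_eq, fsum_eq a ha,
    fsum_eq b hb]
  have e : ∀ i, ((fld a i : ℤ) - 16) * ((fld b i : ℤ) - 16) =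
      (fld a i : ℤ) * (fld b i : ℤ) - 16 * (fld a i : ℤ) - 16 * (fld b i : ℤ) + 256 :=
    fun i => by ring
  simp only [e]
  rw [Finset.sum_add_distrib, Finset.sum_sub_distrib, Finset.sum_sub_distrib, ← Finset.mul_sum,
    ← Finset.mul_sum, Finset.sum_const, Finset.card_range]
  push_cast
  ring

theorem dotEq_iff {a b : ℕ} (τ : ℕ) (ha : InR a) (hb : InR b) :
    dotEq a b τ = true ↔ dotInt (D a) (D b) = (τ : ℤ) - 64 := by
  rw [dot_D a b ha hb]
  unfold dotEq
  rw [Nat.beq_eq]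
  show dotN a b + 6208 = 16 * (fsum a + fsum b) + τ ↔ _
  omega

/-! ### images -/

structure Img (c : ↥Co0) (r s : ℕ) : Prop where
  r1 : InR r
  r2 : D r ∈ leechLattice
  s1 : InR s
  s2 : D s ∈ leechLattice
  eq : c • DL r = DL s

theorem dotEq_img {c : ↥Co0} {r s r' s' τ : ℕ} (h : Img c r s) (h' : Img c r' s')
    (e : dotEq r r' τ = true) : dotEq s s' τ = true := by
  rw [dotEq_iff τ h.r1 h'.r1] at e
  rw [dotEq_iff τ h.s1 h'.s1, ← e, ← DL_coe h.s2, ← DL_coe h'.s2, ← h.eq, ← h'.eq, dot_smul',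
    DL_coe h.r2, DL_coe h'.r2]

theorem img_step {c : ↥Co0} {P r s : ℕ} (hP : goodP P = true) (hc : c * toCo0 P = toCo0 P * c)
    (h : Img c r s) (hr : step1 P r ≠ 0) (hs : step1 P s ≠ 0) :
    Img c (step1 P r) (step1 P s) := by
  obtain ⟨a1, a2, a3⟩ := toCo0_smul_DL hP h.r1 h.r2 (step1_ne hr).2
  obtain ⟨b1, b2, b3⟩ := toCo0_smul_DL hP h.s1 h.s2 (step1_ne hs).2
  exact ⟨a1, a2, b1, b2, by rw [← a3, ← mul_smul, hc, mul_smul, h.eq, b3]⟩

/-! ### orbits under a matrix, accumulated -/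

def orbR (P : ℕ) : ℕ → ℕ → List ℕ → List ℕ
  | 0, _, acc => acc
  | n + 1, y, acc => orbR P n (step1 P y) (step1 P y :: acc)

noncomputable def accOrb {β : Sort*} (P : ℕ) : ℕ → ℕ → List ℕ → (List ℕ → β) → β
  | 0, _, acc, k => k acc
  | n + 1, y, acc, k => force (step1 P y) (fun y' => accOrb P n y' (y' :: acc) k)

theorem accOrb_eq {β : Sort*} (P : ℕ) : ∀ (n y : ℕ) (acc : List ℕ) (k : List ℕ → β),
    accOrb P n y acc k = k (orbR P n y acc)
  | 0, _, _, _ => rfl
  | n + 1, y, acc, k => by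
    rw [accOrb, force_eq, accOrb_eq P n, orbR]

theorem sub_orbR (P : ℕ) : ∀ (n y : ℕ) (acc : List ℕ), ∀ z ∈ acc, z ∈ orbR P n y acc
  | 0, _, _, z, hz => hz
  | n + 1, y, acc, z, hz => by
    rw [orbR]
    exact sub_orbR P n _ _ z (List.mem_cons_of_mem _ hz)

theorem orbR_img {c : ↥Co0} {P : ℕ} (hP : goodP P = true) (hc : c * toCo0 P = toCo0 P * c) :
    ∀ (n y y' : ℕ) (acc acc' : List ℕ), List.Forall₂ (Img c) acc acc' → Img c y y' →
      (∀ z ∈ orbR P n y acc, z ≠ 0) → (∀ z ∈ orbR P n y' acc', z ≠ 0) →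
      List.Forall₂ (Img c) (orbR P n y acc) (orbR P n y' acc')
  | 0, _, _, _, _, h, _, _, _ => h
  | n + 1, y, y', acc, acc', h, hy, h0, h0' => by
    rw [orbR] at h0 h0' ⊢
    rw [orbR]
    have h1 : Img c (step1 P y) (step1 P y') :=
      img_step hP hc hy (h0 _ (sub_orbR P n _ _ _ (by simp))) (h0' _ (sub_orbR P n _ _ _ (by simp)))
    exact orbR_img hP hc n _ _ _ _ (List.Forall₂.cons h1 h) h1 h0 h0'

def preR (P n : ℕ) : List ℕ → List ℕ → List ℕ
  | [], acc => acc
  | m :: ms, acc => preR P n ms (orbR P n m (m :: acc))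

noncomputable def accPre {β : Sort*} (P n : ℕ) : List ℕ → List ℕ → (List ℕ → β) → β
  | [], acc, k => k acc
  | m :: ms, acc, k => accOrb P n m (m :: acc) (fun acc' => accPre P n ms acc' k)

theorem accPre_eq {β : Sort*} (P n : ℕ) : ∀ (ms acc : List ℕ) (k : List ℕ → β),
    accPre P n ms acc k = k (preR P n ms acc)
  | [], _, _ => rfl
  | m :: ms, acc, k => by
    rw [accPre, accOrb_eq, accPre_eq P n ms, preR]

theorem sub_preR (P n : ℕ) : ∀ (ms acc : List ℕ), ∀ z ∈ acc, z ∈ preR P n ms acc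
  | [], _, z, hz => hz
  | m :: ms, acc, z, hz => by
    rw [preR]
    exact sub_preR P n ms _ z (sub_orbR P n _ _ z (List.mem_cons_of_mem _ hz))

theorem preR_img {c : ↥Co0} {P : ℕ} (n : ℕ) (hP : goodP P = true)
    (hc : c * toCo0 P = toCo0 P * c) :
    ∀ (W M acc acc' : List ℕ), List.Forall₂ (Img c) W M → List.Forall₂ (Img c) acc acc' →
      (∀ z ∈ preR P n W acc, z ≠ 0) → (∀ z ∈ preR P n M acc', z ≠ 0) →
      List.Forall₂ (Img c) (preR P n W acc) (preR P n M acc')
  | [], [], _, _, _, h, _, _ => h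
  | w :: W, m :: M, acc, acc', hWM, h, h0, h0' => by
    rw [List.forall₂_cons] at hWM
    rw [preR] at h0 h0' ⊢
    rw [preR]
    apply preR_img n hP hc W M _ _ hWM.2 _ h0 h0'
    exact orbR_img hP hc n _ _ _ _ (List.Forall₂.cons hWM.1 h) hWM.1
      (fun z hz => h0 z (sub_preR P n _ _ z hz)) (fun z hz => h0' z (sub_preR P n _ _ z hz))

/-! ### constraints -/

/-- some constraint is violated -/
def rejD (m : ℕ) : List ℕ → List ℕ → Bool
  | q :: qs, τ :: τs => !(dotEq q m τ) || rejD m qs τs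
  | _, _ => false

/-- all constraints hold -/
def passD (w : ℕ) : List ℕ → List ℕ → Bool
  | q :: qs, τ :: τs => dotEq q w τ && passD w qs τs
  | _, _ => true

theorem rejD_false {c : ↥Co0} {w m : ℕ} (hw : Img c w m) :
    ∀ (ref img τs : List ℕ), List.Forall₂ (Img c) ref img → passD w ref τs = true →
      rejD m img τs = false
  | [], [], _, _, _ => by cases ‹List ℕ› <;> rfl
  | r :: ref, q :: img, [], _, _ => rfl
  | r :: ref, q :: img, τ :: τs, h, hp => by
    rw [List.forall₂_cons] at h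
    rw [passD, Bool.and_eq_true] at hp
    rw [rejD, dotEq_img h.1 hw hp.1, rejD_false hw ref img τs h.2 hp.2]
    rfl

/-- valid steps up to a violated constraint -/
noncomputable def rej (P m : ℕ) : List ℕ → ℕ → Bool
  | [], _ => false
  | τ :: rest, y =>
    force (step1 P y) (fun y' => !(Nat.beq y' 0) && (!(dotEq y' m τ) || rej P m rest y'))

noncomputable def pass (P w : ℕ) : List ℕ → ℕ → Bool
  | [], _ => true
  | τ :: rest, y =>
    force (step1 P y) (fun y' => !(Nat.beq y' 0) && (dotEq y' w τ && pass P w rest y'))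

theorem rej_false {c : ↥Co0} {P w m : ℕ} (hP : goodP P = true) (hc : c * toCo0 P = toCo0 P * c)
    (hw : Img c w m) : ∀ (τs : List ℕ) (yr y : ℕ), Img c yr y → pass P w τs yr = true →
      rej P m τs y = false
  | [], _, _, _, _ => rfl
  | τ :: rest, yr, y, hy, hp => by
    rw [pass, force_eq] at hp
    rw [rej, force_eq]
    simp only [Bool.and_eq_true, Bool.not_eq_true'] at hp
    obtain ⟨h1, h2, h3⟩ := hp
    have h1' : step1 P yr ≠ 0 := by
      intro h; rw [h] at h1; simp at h1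
    by_cases h0 : step1 P y = 0
    · rw [h0]; rfl
    · have hi := img_step hP hc hy h1' h0
      rw [dotEq_img hi hw h2, rej_false hP hc hw rest _ _ hi h3]
      simp

/-! ### one stage of the search -/

noncomputable def stageChk (P n : ℕ) (lst τpre τself : List ℕ) (sols sols' : List (List ℕ)) :
    Bool :=
  sols.all (fun M => accPre P n M [] (fun pre => pre.all (fun z => !(Nat.beq z 0)) &&
    lst.all (fun m => rejD m pre τpre || (rej P m τself m ||
      sols'.any (fun M' => beqL M' (m :: M))))))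

noncomputable def refChk (P n : ℕ) (W : List ℕ) (w : ℕ) (τpre τself : List ℕ) : Bool :=
  (preR P n W []).all (fun z => !(Nat.beq z 0)) && (passD w (preR P n W []) τpre &&
    pass P w τself w)

theorem ne_of_all {l : List ℕ} (h : l.all (fun z => !(Nat.beq z 0)) = true) : ∀ z ∈ l, z ≠ 0 := by
  intro z hz h0
  have := List.all_eq_true.1 h z hz
  rw [h0] at this
  simp at this

theorem img_of_mem {c : ↥Co0} (hfix : Fixes c [DL u0c]) {w : ℕ}
    (hw : (inR w && isLeech w && normB 32 w) = true) (hwc : Helper33LLm16.cnd w = true) :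
    ∃ m ∈ Helper33LLm16.lst, Img c w m := by
  have hmem : DL w ∈ C ([u0c].map DL) [-16] := mem_base [u0c] (fun b hb => (ok1 b hb).2) [-16] _ hcm w hw hwc
  have hmem' : c • DL w ∈ C ([u0c].map DL) [-16] := by
    have := (mem_C_mv c ([u0c].map DL) [-16] (DL w)).2 hmem
    rwa [mv_of_fixes c ([u0c].map DL) hfix] at this
  obtain ⟨h1, h2, h3, h4⟩ := code_facts _ hmem'.1
  obtain ⟨a1, a2, _⟩ := code_ok hw
  refine ⟨code ((c • DL w : LV) : GolayPt → ℤ), ?_, a1, a2, h1, by rw [h2]; exact (c • DL w).2, h4.symm⟩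
  rw [← Helper33LLm16.lst_eq, List.mem_filter]
  refine ⟨h3, ?_⟩
  rw [hcm _ h1, h2, ← dots_DL [u0c] (fun b hb => (ok1 b hb).2)]
  exact hmem'.2

theorem stage_spec {P n : ℕ} (hP : goodP P = true) {c : ↥Co0} (hc : c * toCo0 P = toCo0 P * c)
    (hfix : Fixes c [DL u0c]) {W : List ℕ} {w : ℕ}
    (hw : (inR w && isLeech w && normB 32 w) = true) (hwc : Helper33LLm16.cnd w = true)
    {τpre τself : List ℕ} {sols sols' : List (List ℕ)}
    (href : refChk P n W w τpre τself = true)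
    (hchk : stageChk P n Helper33LLm16.lst τpre τself sols sols' = true)
    (h : ∃ M ∈ sols, List.Forall₂ (Img c) W M) :
    ∃ M' ∈ sols', List.Forall₂ (Img c) (w :: W) M' := by
  obtain ⟨M, hM, hWM⟩ := h
  obtain ⟨m, hm, hwm⟩ := img_of_mem hfix hw hwc
  have h1 := List.all_eq_true.1 hchk M hM
  rw [accPre_eq, Bool.and_eq_true] at h1
  unfold refChk at href
  simp only [Bool.and_eq_true] at href
  obtain ⟨r1, r2, r3⟩ := href
  have h2 := List.all_eq_true.1 h1.2 m hm
  have hpre := preR_img n hP hc W M [] [] hWM List.Forall₂.nil (ne_of_all r1) (ne_of_all h1.1)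
  rw [rejD_false hwm _ _ _ hpre r2, rej_false hP hc hwm _ _ _ hwm r3, Bool.false_or,
    Bool.false_or, List.any_eq_true] at h2
  obtain ⟨M', hM', he⟩ := h2
  refine ⟨M', hM', ?_⟩
  rw [eq_of_beqL _ _ he]
  exact List.Forall₂.cons hwm hWM

/-! ### reduction by known elements -/

noncomputable def redChk (sols reps words : List (List ℕ)) : Bool :=
  sols.all (fun M => words.any (fun z => reps.any (fun M' =>
    beqL (M.map (fun m => run z m)) M' && M'.all (fun y => !(Nat.beq y 0)))))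

theorem img_run {c : ↥Co0} {z : List ℕ} (hz : ∀ P ∈ z, goodP P = true) :
    ∀ (W M : List ℕ), List.Forall₂ (Img c) W M → (∀ y ∈ M.map (fun m => run z m), y ≠ 0) →
      List.Forall₂ (Img (wprod z * c)) W (M.map (fun m => run z m))
  | [], [], _, _ => List.Forall₂.nil
  | w :: W, m :: M, h, h0 => by
    rw [List.forall₂_cons] at h
    rw [List.map_cons]
    refine List.Forall₂.cons ?_ (img_run hz W M h.2 (fun y hy => h0 y (by simp [List.map_cons, hy])))
    obtain ⟨a1, a2, a3⟩ := run_spec z hz m h.1.s1 h.1.s2 (h0 _ (by simp))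
    exact ⟨h.1.r1, h.1.r2, a1, a2, by rw [mul_smul, h.1.eq, a3]⟩

theorem red_spec {c : ↥Co0} {W : List ℕ} {sols reps words : List (List ℕ)}
    (hw : ∀ z ∈ words, ∀ P ∈ z, goodP P = true) (hchk : redChk sols reps words = true)
    (h : ∃ M ∈ sols, List.Forall₂ (Img c) W M) :
    ∃ z ∈ words, ∃ M' ∈ reps, List.Forall₂ (Img (wprod z * c)) W M' := by
  obtain ⟨M, hM, hWM⟩ := h
  have h1 := List.all_eq_true.1 hchk M hM
  rw [List.any_eq_true] at h1
  obtain ⟨z, hz, h2⟩ := h1
  rw [List.any_eq_true] at h2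
  obtain ⟨M', hM', h3⟩ := h2
  rw [Bool.and_eq_true] at h3
  have he := eq_of_beqL _ _ h3.1
  refine ⟨z, hz, M', hM', ?_⟩
  rw [← he]
  exact img_run (hw z hz) W M hWM (by rw [he]; exact ne_of_all h3.2)

/-! ### spanning sets -/

def lin (k : ℕ) : List ℤ → List ℕ → ℤ
  | c :: cs, b :: bs => c * ((fld b k : ℤ) - 16) + lin k cs bs
  | _, _ => 0

noncomputable def linV : List ℤ → List ℕ → LV
  | c :: cs, b :: bs => c • DL b + linV cs bs
  | _, _ => 0

theorem linV_coe (p : GolayPt) : ∀ (cs : List ℤ) (bs : List ℕ), (∀ b ∈ bs, D b ∈ leechLattice) →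
    ((linV cs bs : LV) : GolayPt → ℤ) p = lin (idx p) cs bs
  | [], _, _ => by simp [linV, lin]
  | _ :: _, [], _ => by simp [linV, lin]
  | c :: cs, b :: bs, h => by
    rw [linV, lin, AddSubgroup.coe_add, Pi.add_apply, linV_coe p cs bs (fun x hx => h x (by simp [hx])),
      AddSubgroup.coe_zsmul, Pi.smul_apply, DL_coe (h b (by simp))]
    rfl

theorem linV_fix (d : ↥Co0) : ∀ (cs : List ℤ) (bs : List ℕ), (∀ b ∈ bs, d • DL b = DL b) →
    gHom d (linV cs bs) = linV cs bs
  | [], _, _ => by simp [linV]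
  | _ :: _, [], _ => by simp [linV]
  | c :: cs, b :: bs, h => by
    rw [linV, map_add, map_zsmul, linV_fix d cs bs (fun x hx => h x (by simp [hx]))]
    congr 2
    exact h b (by simp)

def spanChk (B : List ℕ) (N : ℤ) (Cs : List (List ℤ)) : Bool :=
  (List.range 24).all (fun i => (List.range 24).all (fun k =>
    decide (lin k (Cs.getD i []) B = if k = i then 8 * N else 0)))

theorem eq_one_of_fixes (d : ↥Co0) (B : List ℕ) (hL : ∀ b ∈ B, D b ∈ leechLattice)
    (hB : ∀ b ∈ B, d • DL b = DL b) (N : ℤ) (hN : N ≠ 0) (Cs : List (List ℤ))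
    (hchk : spanChk B N Cs = true) : d = 1 := by
  apply ext8
  intro i hi
  rw [one_smul]
  have h1 : linV (Cs.getD i []) B = N • DL (e8 i) := by
    apply Subtype.ext
    funext p
    rw [linV_coe p _ _ hL, AddSubgroup.coe_zsmul, Pi.smul_apply, DL_coe (e8_InR hi).2, D_e8 _ hi]
    have h2 := List.all_eq_true.1 (List.all_eq_true.1 hchk i (List.mem_range.2 hi)) (idx p)
      (List.mem_range.2 (idx_lt p))
    rw [decide_eq_true_eq] at h2
    rw [h2]
    by_cases hp : idx p = i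
    · have : p = pt i := by rw [← hp, pt_idx]
      rw [if_pos hp, if_pos this, smul_eq_mul, mul_comm]
    · have : p ≠ pt i := by
        intro h; apply hp; rw [h, idx_pt hi]
      rw [if_neg hp, if_neg this, smul_zero]
  have h3 := linV_fix d (Cs.getD i []) B hB
  rw [h1, map_zsmul] at h3
  apply Subtype.ext
  funext p
  have h4 := congrArg (fun x : LV => (x : GolayPt → ℤ) p) h3
  simp only [AddSubgroup.coe_zsmul, Pi.smul_apply, smul_eq_mul] at h4
  exact mul_left_cancel₀ hN h4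

end Cfsg.Agent.Lib.Helper33LCent
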