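import Cfsg.Agent.Lib.Helper33LCo2TcChk0
import Cfsg.Agent.Lib.Helper33LCo2TcChk1
import Cfsg.Agent.Lib.Helper33LCo2TcChk2
import Cfsg.Agent.Lib.Helper33LCo2TcChk3

set_option autoImplicit false
set_option exponentiation.threshold 2000

open Cfsg Cfsg.Agent.Lib.Helper33Golay Cfsg.Agent.Lib.Helper33LVec Cfsg.Agent.Lib.Helper33LMat
open Cfsg.Agent.Lib.Helper33LTest Cfsg.Agent.Lib.Helper33LCo0 Cfsg.Agent.Lib.Helper33LMin
open Cfsg.Agent.Lib.Helper33LReach Cfsg.Agent.Lib.Helper33Sets Cfsg.Agent.Lib.Helper33LReach2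
open Cfsg.Agent.Lib.Helper33LMinTrans

namespace Cfsg.Agent.Lib.Helper33LCo2TcAll

open Cfsg.Agent.Lib.Helper33LCo2 Cfsg.Agent.Lib.Helper33LCo2Tc Cfsg.Agent.Lib.Helper33LCo2TcChk0 Cfsg.Agent.Lib.Helper33LCo2TcChk1 Cfsg.Agent.Lib.Helper33LCo2TcChk2 Cfsg.Agent.Lib.Helper33LCo2TcChk3

theorem chkB : octL.all (fB cnd chk) = true := by
  apply all_of_chunks _ 96 8 _ (le_of_eq_of_le octL_length (by norm_num))
  intro j hj
  interval_cases j
  exacts [chkB_0, chkB_1, chkB_2, chkB_3, chkB_4, chkB_5, chkB_6, chkB_7]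

theorem chkC : (List.range 4096).all (fC cnd chk) = true := by
  apply all_of_chunks _ 512 8 _ (le_of_eq_of_le List.length_range (by norm_num))
  intro j hj
  interval_cases j
  exacts [chkC_0, chkC_1, chkC_2, chkC_3, chkC_4, chkC_5, chkC_6, chkC_7]

theorem chk_all : ∀ m ∈ minL, cnd m = true → chk m = true := forall_minL cnd chk chkA chkB chkC

end Cfsg.Agent.Lib.Helper33LCo2TcAll
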