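import Cfsg.Agent.Lib.Helper33LFrame2

/-! # Inner products of two minimal vectors (helper33) -/

set_option autoImplicit false
set_option exponentiation.threshold 2000

open Cfsg Cfsg.Agent.Lib.Helper33Golay Cfsg.Agent.Lib.Helper33LVec Cfsg.Agent.Lib.Helper33LMat
open Cfsg.Agent.Lib.Helper33LTest Cfsg.Agent.Lib.Helper33LCo0 Cfsg.Agent.Lib.Helper33LMin
open Cfsg.Agent.Lib.Helper33LReach Cfsg.Agent.Lib.Helper33Sets Cfsg.Agent.Lib.Helper33LReach2
open Cfsg.Agent.Lib.Helper33LMinTrans Cfsg.Agent.Lib.Helper33LPat
open Cfsg.Agent.Lib.Helper33LCo2 Cfsg.Agent.Lib.Helper33LFrame Cfsg.Agent.Lib.Helper33LBase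

namespace Cfsg.Agent.Lib.Helper33LVals

def cnd (_ : ℕ) : Bool := true

def chk (m : ℕ) : Bool := Nat.beq (kV m) 24 || Nat.beq (kV m) 28 || Nat.beq (kV m) 30 ||
  Nat.beq (kV m) 32 || Nat.beq (kV m) 34 || Nat.beq (kV m) 36 || Nat.beq (kV m) 40

theorem chkA : allA cnd chk = true := by decide +kernel

set_option maxRecDepth 100000 in
theorem chkB_0 : ((octP.drop (0 * 380)).take 380).all (fB' cnd chk) = true := by
  decide +kernel

set_option maxRecDepth 100000 in
theorem chkB_1 : ((octP.drop (1 * 380)).take 380).all (fB' cnd chk) = true := by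
  decide +kernel

set_option maxRecDepth 100000 in
theorem chkC_0 : (((List.range 4096).drop (0 * 2048)).take 2048).all (fC cnd chk) = true := by
  decide +kernel

set_option maxRecDepth 100000 in
theorem chkC_1 : (((List.range 4096).drop (1 * 2048)).take 2048).all (fC cnd chk) = true := by
  decide +kernel

theorem chkB : octP.all (fB' cnd chk) = true := by
  apply all_of_chunks _ 380 2 _ (le_of_eq_of_le octP_length (by norm_num))
  intro j hj
  interval_cases j
  exacts [chkB_0, chkB_1]

theorem chkC : (List.range 4096).all (fC cnd chk) = true := by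
  apply all_of_chunks _ 2048 2 _ (le_of_eq_of_le List.length_range (by norm_num))
  intro j hj
  interval_cases j
  exacts [chkC_0, chkC_1]

theorem chk_all : ∀ m ∈ minL, cnd m = true → chk m = true := forall_minL' cnd chk chkA chkB chkC

end Cfsg.Agent.Lib.Helper33LVals
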