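import Cfsg.Agent.Lib.Helper33SimpleB

/-! # A simplicity criterion for a quotient by a normal subgroup of order two (helper33) -/

set_option autoImplicit false

namespace Cfsg.Agent.Lib.Helper33SimpleC

open MulAction Cfsg.Agent.Lib.Helper33SimpleA Cfsg.Agent.Lib.Helper33SimpleB

variable {G α ι : Type*} [Group G] [MulAction G α] [Fintype ι] [DecidableEq ι]
variable {ω : α} {O : ι → Set α} {nn : ι → ℕ} {i0 : ι}

/-- overgroups of the point stabiliser, when there is one nontrivial block system with blocks of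
size two -/
theorem maximal3 (d : OrbData G ω O nn i0) (iz : ι) (hz : ∑ i ∈ ({i0, iz} : Finset ι), nn i = 2)
    (prim : ∀ T : Finset ι, i0 ∈ T → (∑ i ∈ T, nn i) ∣ (∑ i, nn i) →
      T = {i0} ∨ T = {i0, iz} ∨ T = Finset.univ)
    (M : Subgroup G) (hM : stabilizer G ω ≤ M) :
    M = stabilizer G ω ∨ ((stabilizer G ω).relIndex M = 2 ∧ (orbit ↥M ω).ncard = 2) ∨ M = ⊤ := by
  have hsub : orbit ↥M ω ⊆ orbit G ω := by
    rintro _ ⟨m, rfl⟩
    exact ⟨m.1, rfl⟩
  obtain ⟨T, hT0, hT⟩ := d.union (orbit ↥M ω) hsub (by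
    rintro h hh _ ⟨m, rfl⟩
    exact ⟨⟨h, hM hh⟩ * m, mul_smul (⟨h, hM hh⟩ : ↥M) m ω⟩) (mem_orbit_self ω)
  have hst : stabilizer ↥M ω = (stabilizer G ω).subgroupOf M := by
    ext m
    rw [mem_stabilizer_iff, Subgroup.mem_subgroupOf, mem_stabilizer_iff]
    rfl
  have hrel : (∑ i ∈ T, nn i) = (stabilizer G ω).relIndex M := by
    rw [← (d.ncard_biUnion T).2, ← hT, ← index_stabilizer, hst]
    rfl
  have hdvd : (∑ i ∈ T, nn i) ∣ (∑ i, nn i) := by
    rw [hrel, ← d.index, ← Subgroup.relIndex_mul_index hM]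
    exact Dvd.intro _ rfl
  rcases prim T hT0 hdvd with rfl | rfl | rfl
  · left
    apply le_antisymm _ hM
    intro m hm
    have : (⟨m, hm⟩ : ↥M) • ω ∈ orbit ↥M ω := ⟨_, rfl⟩
    rw [hT, d.single] at this
    exact this
  · right; left
    exact ⟨by rw [← hrel, hz], by rw [hT, (d.ncard_biUnion _).2, hz]⟩
  · right; right
    rw [eq_top_iff]
    intro g _
    have : g • ω ∈ orbit ↥M ω := by rw [hT, ← d.total]; exact ⟨g, rfl⟩
    obtain ⟨m, hm⟩ := this
    have h1 : m.1⁻¹ * g ∈ stabilizer G ω := by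
      rw [mem_stabilizer_iff, mul_smul, inv_smul_eq_iff]
      exact hm.symm
    have := M.mul_mem m.2 (hM h1)
    rwa [mul_inv_cancel_left] at this

theorem normal_cases [Finite G] (d : OrbData G ω O nn i0)
    (hH : IsSimpleGroup ↥(stabilizer G ω)) (Z : Subgroup G) (hZ : Nat.card ↥Z = 2)
    (iz : ι) (hz : ∑ i ∈ ({i0, iz} : Finset ι), nn i = 2) (i1 : ι) (h1 : 3 ≤ nn i1)
    (p q : ℕ) (hp : p.Prime) (hq : q.Prime) (hpq : p ≠ q) (hpn : p ∣ ∑ i, nn i) (hqn : q ∣ ∑ i, nn i)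
    (prim : ∀ T : Finset ι, i0 ∈ T → (∑ i ∈ T, nn i) ∣ (∑ i, nn i) →
      T = {i0} ∨ T = {i0, iz} ∨ T = Finset.univ)
    (noreg : ∀ T : Finset ι, i0 ∈ T → T ≠ Finset.univ →
      ¬ (p ∣ ∑ i ∈ T, nn i ∧ (p - 1) ∣ (∑ i ∈ T, nn i) - 1))
    (N : Subgroup G) (hN : N.Normal) (hZN : Z ≤ N) : N = Z ∨ N = ⊤ := by
  -- a normal subgroup containing the stabiliser has large orbits
  have big : stabilizer G ω ≤ N → 3 ≤ (orbit ↥N ω).ncard := by
    intro hle
    obtain ⟨x, hx⟩ : (O i1).Nonempty := Set.nonempty_of_ncard_ne_zero (by rw [d.card]; omega)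
    obtain ⟨g, rfl⟩ := d.sub i1 hx
    have hsub : O i1 ⊆ (fun y => g • y) '' (orbit ↥N ω) := by
      intro y hy
      obtain ⟨h, hh, hxy⟩ := d.trans i1 _ hx y hy
      refine ⟨(g⁻¹ * h * g) • ω, ⟨⟨g⁻¹ * h * g, ?_⟩, rfl⟩, ?_⟩
      · have := hN.conj_mem h (hle hh) g⁻¹
        rwa [inv_inv] at this
      · show g • (g⁻¹ * h * g) • ω = y
        rw [mul_smul, mul_smul, smul_inv_smul]
        exact hxy
    have hfin : (orbit ↥N ω).Finite := Set.finite_range _
    calc 3 ≤ (O i1).ncard := by rw [d.card]; exact h1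
      _ ≤ ((fun y => g • y) '' (orbit ↥N ω)).ncard := Set.ncard_le_ncard hsub (hfin.image _)
      _ ≤ (orbit ↥N ω).ncard := Set.ncard_image_le hfin
  have hnorm : (N.subgroupOf (stabilizer G ω)).Normal := hN.subgroupOf _
  rcases hnorm.eq_bot_or_eq_top with h | h
  · have h' := h
    rw [Subgroup.subgroupOf_eq_bot] at h
    rcases maximal3 d iz hz prim (N ⊔ stabilizer G ω) le_sup_right with h2 | ⟨h2, _⟩ | h2
    · exfalso
      have h3 : N ≤ stabilizer G ω := h2 ▸ le_sup_left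
      have h4 : N = ⊥ := le_bot_iff.1 (h le_rfl h3)
      have h5 : Z = ⊥ := le_bot_iff.1 (h4 ▸ hZN)
      rw [h5, Subgroup.card_bot] at hZ
      omega
    · left
      have e1 : Nat.card ↥(N ⊔ stabilizer G ω) = Nat.card ↥N * Nat.card ↥(stabilizer G ω) := by
        rw [← Subgroup.relIndex_bot_left, ← Subgroup.relIndex_mul_relIndex ⊥ N _ bot_le le_sup_left,
          Subgroup.relIndex_bot_left, Subgroup.relIndex_sup_left, Subgroup.relIndex, h',
          Subgroup.index_bot]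
      have e2 : Nat.card ↥(N ⊔ stabilizer G ω) = Nat.card ↥(stabilizer G ω) * 2 := by
        rw [← Subgroup.relIndex_bot_left,
          ← Subgroup.relIndex_mul_relIndex ⊥ (stabilizer G ω) _ bot_le le_sup_right,
          Subgroup.relIndex_bot_left, h2]
      have e3 : Nat.card ↥N = 2 := by
        have hpos : 0 < Nat.card ↥(stabilizer G ω) := Nat.card_pos
        rw [e1, mul_comm] at e2
        exact Nat.eq_of_mul_eq_mul_left hpos e2
      exact (Subgroup.eq_of_le_of_card_ge hZN (by rw [hZ, e3])).symm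
    · exact (d.no_complement p q hp hq hpq hpn hqn noreg N hN h h2).elim
  · rw [Subgroup.subgroupOf_eq_top] at h
    have hb := big h
    rcases maximal3 d iz hz prim N h with h2 | ⟨_, h2⟩ | h2
    · exfalso
      have : orbit ↥N ω = {ω} := by
        ext y
        constructor
        · rintro ⟨n, rfl⟩
          have : n.1 ∈ stabilizer G ω := h2 ▸ n.2
          exact this
        · rintro rfl
          exact mem_orbit_self _
      rw [this, Set.ncard_singleton] at hb
      omega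
    · omega
    · exact Or.inr h2

/-- the simplicity criterion for the quotient -/
theorem simple_quot [Finite G] (d : OrbData G ω O nn i0)
    (hH : IsSimpleGroup ↥(stabilizer G ω)) (Z : Subgroup G) [hZn : Z.Normal] (hZ : Nat.card ↥Z = 2)
    (iz : ι) (hz : ∑ i ∈ ({i0, iz} : Finset ι), nn i = 2) (i1 : ι) (h1 : 3 ≤ nn i1)
    (p q : ℕ) (hp : p.Prime) (hq : q.Prime) (hpq : p ≠ q) (hpn : p ∣ ∑ i, nn i) (hqn : q ∣ ∑ i, nn i)
    (prim : ∀ T : Finset ι, i0 ∈ T → (∑ i ∈ T, nn i) ∣ (∑ i, nn i) →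
      T = {i0} ∨ T = {i0, iz} ∨ T = Finset.univ)
    (noreg : ∀ T : Finset ι, i0 ∈ T → T ≠ Finset.univ →
      ¬ (p ∣ ∑ i ∈ T, nn i ∧ (p - 1) ∣ (∑ i ∈ T, nn i) - 1)) : IsSimpleGroup (G ⧸ Z) := by
  have key := normal_cases d hH Z hZ iz hz i1 h1 p q hp hq hpq hpn hqn prim noreg
  have hne : Z ≠ ⊤ := by
    intro htop
    have h2 : Nat.card G = 2 := by rw [← hZ, htop, Subgroup.card_top]
    have h3 : (∑ i, nn i) ∣ 2 := by
      rw [← d.index, ← h2]; exact Subgroup.index_dvd_card _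
    have h4 : nn i1 ≤ ∑ i, nn i := Finset.single_le_sum (fun _ _ => Nat.zero_le _) (Finset.mem_univ i1)
    have := Nat.le_of_dvd (by norm_num) h3
    omega
  have : Nontrivial (G ⧸ Z) := by
    by_contra hcon
    rw [not_nontrivial_iff_subsingleton] at hcon
    exact hne (QuotientGroup.subgroup_eq_top_of_subsingleton Z hcon)
  refine ⟨fun K hK => ?_⟩
  have hsurj := QuotientGroup.mk'_surjective Z
  have hK' : K = (K.comap (QuotientGroup.mk' Z)).map (QuotientGroup.mk' Z) :=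
    (Subgroup.map_comap_eq_self_of_surjective hsurj K).symm
  rcases key (K.comap (QuotientGroup.mk' Z)) (hK.comap _) (QuotientGroup.le_comap_mk' Z K) with h | h
  · left
    rw [hK', h, QuotientGroup.map_mk'_self]
  · right
    rw [hK', h, Subgroup.map_top_of_surjective _ hsurj]

end Cfsg.Agent.Lib.Helper33SimpleC
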