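import Cfsg.Agent.Lib.Helper33LCo2Ord
import Cfsg.Agent.Lib.Helper33LVals
import Cfsg.Agent.Lib.Helper33SimpleC
import Cfsg.Agent.Lib.Helper33LCo2TaAll
import Cfsg.Agent.Lib.Helper33LCo2TcAll
import Cfsg.Agent.Lib.Helper33LCnta
import Cfsg.Agent.Lib.Helper33LCntb
import Cfsg.Agent.Lib.Helper33LCntc

/-! # Order of the automorphism group of the Leech lattice, simplicity of the central quotient
(helper33) -/

set_option autoImplicit false
set_option exponentiation.threshold 2000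

namespace Cfsg.Agent.Lib.Helper33LCo1

open Cfsg Cfsg.Agent.Lib.Helper33Golay Cfsg.Agent.Lib.Helper33LVec Cfsg.Agent.Lib.Helper33LCo0
open Cfsg.Agent.Lib.Helper33LPair Cfsg.Agent.Lib.Helper33LFrame Cfsg.Agent.Lib.Helper33LGood
open Cfsg.Agent.Lib.Helper33LBase Cfsg.Agent.Lib.Helper33LCo2 Cfsg.Agent.Lib.Helper33LMcL
open Cfsg.Agent.Lib.Helper33LFrame2 Cfsg.Agent.Lib.Helper33LCo2Thy Cfsg.Agent.Lib.Helper33LCo2Ord
open Cfsg.Agent.Lib.Helper33LMin Cfsg.Agent.Lib.Helper33LReach Cfsg.Agent.Lib.Helper33SimpleB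
open Cfsg.Agent.Lib.Helper33SimpleC Cfsg.Agent.Lib.Helper33LMinTrans Cfsg.Agent.Lib.Helper33LReach2 MulAction

theorem mem_C1 (v y : LV) (k : ℤ) : y ∈ C [v] [k] ↔
    sqNorm (y : GolayPt → ℤ) = 32 ∧ dotInt (v : GolayPt → ℤ) (y : GolayPt → ℤ) = k := by
  simp only [C, dots, Set.mem_ofPred_eq, List.map_cons, List.map_nil, List.cons.injEq, and_true]

theorem sqNorm_neg' (x : GolayPt → ℤ) : sqNorm (-x) = sqNorm x := by
  simp only [sqNorm, Pi.neg_apply, neg_sq]

theorem neg_mem (v y : LV) (k : ℤ) : -y ∈ C [v] [-k] ↔ y ∈ C [v] [k] := by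
  rw [mem_C1, mem_C1, AddSubgroup.coe_neg, sqNorm_neg', dot_neg_right, neg_inj]

theorem trans_neg (v : LV) (k : ℤ) (h : Trans [v] [k]) : Trans [v] [-k] := by
  intro y hy y' hy'
  have e : ∀ z : LV, z ∈ C [v] [-k] → -z ∈ C [v] [k] := by
    intro z hz
    have := (neg_mem v (-z) k).1 (by rwa [neg_neg])
    exact this
  obtain ⟨g, hg, h1⟩ := h (-y) (e y hy) (-y') (e y' hy')
  refine ⟨g, hg, ?_⟩
  rw [smul_neg', neg_inj] at h1
  exact h1

theorem ncard_neg (v : LV) (k : ℤ) : (C [v] [-k]).ncard = (C [v] [k]).ncard := by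
  have : C [v] [-k] = (fun y : LV => -y) '' C [v] [k] := by
    ext y
    constructor
    · intro hy
      exact ⟨-y, (neg_mem v (-y) k).1 (by rwa [neg_neg]), neg_neg y⟩
    · rintro ⟨z, hz, rfl⟩
      exact (neg_mem v z k).2 hz
  rw [this, Set.ncard_image_of_injective _ neg_injective]

theorem normV0 : sqNorm ((DL v0c : LV) : GolayPt → ℤ) = 32 := by
  rw [DL_coe okV.2]; exact v0_norm

theorem C32 : C [DL v0c] [32] = {DL v0c} := by
  ext y
  rw [Set.mem_singleton_iff, mem_C1]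
  constructor
  · rintro ⟨h1, h2⟩
    exact eq_of_dot normV0 h1 h2
  · rintro rfl
    exact ⟨normV0, by rw [dot_self]; exact normV0⟩

theorem T32 : Trans [DL v0c] [32] := by
  intro y hy y' hy'
  rw [C32, Set.mem_singleton_iff] at hy hy'
  exact ⟨1, fun b _ => one_smul _ b, by rw [one_smul, hy, hy']⟩

theorem TS (s : ℕ) (k : ℤ) (hk : 4 * (s : ℤ) - 128 = k) (ent : ℕ → ℕ) (root : ℕ)
    (h : ∀ m ∈ minL, Nat.beq (Nat.add (fld m 0) (fld m 1)) s = true →
      chkM gensCo2 ent (fun _ => 0) (fun _ => root) m = true) : Trans [DL v0c] [k] := by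
  subst hk
  have toS : ∀ y : LV, y ∈ C [DL v0c] [4 * (s : ℤ) - 128] →
      (y : GolayPt → ℤ) ∈ Sset (4 * (s : ℤ) - 128) := by
    intro y hy
    rw [mem_C1, DL_coe okV.2] at hy
    exact ⟨y.2, hy.1, hy.2⟩
  intro y hy y' hy'
  obtain ⟨g, hg, h⟩ := base_trans s ent root h y y' (toS y hy) (toS y' hy')
  refine ⟨g, ?_, h⟩
  intro b hb
  simp only [List.mem_cons, List.not_mem_nil, or_false] at hb
  rw [hb]
  exact hg

theorem Tm16 : Trans [DL v0c] [-16] := TS 28 (-16) (by norm_num) _ _ Helper33LCo2TaAll.chk_all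
theorem Tm8 : Trans [DL v0c] [-8] := TS 30 (-8) (by norm_num) _ _ Helper33LCo2TbAll.chk_all
theorem T00 : Trans [DL v0c] [0] := TS 32 0 (by norm_num) _ _ Helper33LCo2TcAll.chk_all

theorem nS (s n : ℕ) (k : ℤ) (hk : 4 * (s : ℤ) - 128 = k)
    (hl : (minL.filter (cV s)).length = n) : (C [DL v0c] [k]).ncard = n := by
  have := base_ncard [v0c] (fun b hb => (okV1 b hb).2) [k] _ (hc_one v0c k _ (hV s k hk))
  rw [hl] at this
  exact this

theorem nm16 : (C [DL v0c] [-16]).ncard = 4600 := nS 28 4600 (-16) (by norm_num) Helper33LCnta.cnt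
theorem nm8 : (C [DL v0c] [-8]).ncard = 47104 := nS 30 47104 (-8) (by norm_num) Helper33LCntb.cnt
theorem n00 : (C [DL v0c] [0]).ncard = 93150 := nS 32 93150 0 (by norm_num) Helper33LCntc.cnt

theorem vals_spec (y : LV) (hy : sqNorm (y : GolayPt → ℤ) = 32) :
    dotInt ((DL v0c : LV) : GolayPt → ℤ) (y : GolayPt → ℤ) = -32 ∨
    dotInt ((DL v0c : LV) : GolayPt → ℤ) (y : GolayPt → ℤ) = -16 ∨
    dotInt ((DL v0c : LV) : GolayPt → ℤ) (y : GolayPt → ℤ) = -8 ∨
    dotInt ((DL v0c : LV) : GolayPt → ℤ) (y : GolayPt → ℤ) = 0 ∨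
    dotInt ((DL v0c : LV) : GolayPt → ℤ) (y : GolayPt → ℤ) = 8 ∨
    dotInt ((DL v0c : LV) : GolayPt → ℤ) (y : GolayPt → ℤ) = 16 ∨
    dotInt ((DL v0c : LV) : GolayPt → ℤ) (y : GolayPt → ℤ) = 32 := by
  have h := Helper33LVals.chk_all _ (code_facts y hy).2.2.1 rfl
  have hd := dot_of_cls v0c okV.2 kV (fun m hm => kV_eq m hm) y hy
  unfold Helper33LVals.chk at h
  simp only [Bool.or_eq_true, Nat.beq_eq] at h
  rcases h with (((((h | h) | h) | h) | h) | h) | h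
  all_goals (rw [h] at hd; norm_num at hd; simp [hd])

def kk : Fin 7 → ℤ := ![32, -32, 16, -16, 8, -8, 0]
def nn : Fin 7 → ℕ := ![1, 1, 4600, 4600, 47104, 47104, 93150]

theorem orbit_v0 : orbit ↥Co0 (DL v0c : LV) = {y : LV | sqNorm (y : GolayPt → ℤ) = 32} := by
  ext y
  constructor
  · rintro ⟨g, rfl⟩
    show sqNorm ((g • (DL v0c : LV) : LV) : GolayPt → ℤ) = 32
    rw [sqNorm_smul']; exact normV0
  · intro hy
    obtain ⟨g, hg⟩ := min_trans (DL v0c) y normV0 hy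
    exact ⟨g, hg⟩

theorem orbD : OrbData ↥Co0 (DL v0c : LV) (fun i => C [DL v0c] [kk i]) nn 0 := by
  refine ⟨?_, ?_, ?_, ?_, C32, ?_, by decide⟩
  · intro y hy
    rw [orbit_v0] at hy
    rcases vals_spec y hy with h | h | h | h | h | h | h
    · exact ⟨1, (mem_C1 _ _ _).2 ⟨hy, h⟩⟩
    · exact ⟨3, (mem_C1 _ _ _).2 ⟨hy, h⟩⟩
    · exact ⟨5, (mem_C1 _ _ _).2 ⟨hy, h⟩⟩
    · exact ⟨6, (mem_C1 _ _ _).2 ⟨hy, h⟩⟩
    · exact ⟨4, (mem_C1 _ _ _).2 ⟨hy, h⟩⟩
    · exact ⟨2, (mem_C1 _ _ _).2 ⟨hy, h⟩⟩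
    · exact ⟨0, (mem_C1 _ _ _).2 ⟨hy, h⟩⟩
  · intro i y hy
    rw [orbit_v0]
    exact hy.1
  · intro i j hij
    rw [Set.disjoint_left]
    intro y hy hy'
    apply hij
    have hinj : Function.Injective kk := by decide
    apply hinj
    rw [← ((mem_C1 _ _ _).1 hy).2, ← ((mem_C1 _ _ _).1 hy').2]
  · intro i a ha b hb
    have T : Trans [DL v0c] [kk i] := by
      fin_cases i
      exacts [T32, trans_neg _ _ T32, trans_neg _ (-16) Tm16, Tm16, trans_neg _ (-8) Tm8, Tm8, T00]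
    obtain ⟨g, hg, hgab⟩ := T a ha b hb
    exact ⟨g, hg _ (by simp), hgab⟩
  · intro i
    have n32 : (C [DL v0c] [32]).ncard = 1 := by rw [C32, Set.ncard_singleton]
    fin_cases i
    exacts [n32, (ncard_neg _ 32).trans n32, (ncard_neg _ (-16)).trans nm16, nm16,
      (ncard_neg _ (-8)).trans nm8, nm8, n00]

theorem card_stab : Nat.card ↥(stabilizer ↥Co0 (DL v0c : LV)) = 42305421312000 := by
  rw [stab_eq_fixG]; exact goodCo2.2

theorem simple_stab : IsSimpleGroup ↥(stabilizer ↥Co0 (DL v0c : LV)) := by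
  rw [stab_eq_fixG]; exact goodCo2.1

theorem card_Co0 : Nat.card ↥Co0 = 8315553613086720000 := by
  rw [← (stabilizer ↥Co0 (DL v0c : LV)).card_mul_index, orbD.index, card_stab]
  decide +kernel

theorem finite_Co0 : Finite ↥Co0 := Nat.finite_of_card_ne_zero (by rw [card_Co0]; norm_num)

theorem simple_Co1 : IsSimpleGroup (↥Co0 ⧸ Subgroup.center ↥Co0) := by
  have := finite_Co0
  exact simple_quot orbD simple_stab (Subgroup.center ↥Co0) Helper10Co0Center.card_center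
    1 (by decide) 2 (by decide) 7 2 (by norm_num) (by norm_num) (by norm_num) (by decide +kernel)
    (by decide +kernel) (by decide +kernel) (by decide +kernel)

theorem card_Co1 : Nat.card (↥Co0 ⧸ Subgroup.center ↥Co0) = 4157776806543360000 := by
  have h := Subgroup.card_eq_card_quotient_mul_card_subgroup (Subgroup.center ↥Co0)
  rw [card_Co0, Helper10Co0Center.card_center] at h
  omega

end Cfsg.Agent.Lib.Helper33LCo1
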