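import Cfsg.Agent.Lib.Helper33LCent
import Cfsg.Agent.Lib.Helper33LCo1

/-! # Further tools on words: equalities, centralisers, generation (helper33) -/

set_option autoImplicit false
set_option exponentiation.threshold 2000

namespace Cfsg.Agent.Lib.Helper33LCent2

open Cfsg Cfsg.Agent.Lib.Helper33Golay Cfsg.Agent.Lib.Helper33LVec Cfsg.Agent.Lib.Helper33LMat
open Cfsg.Agent.Lib.Helper33LTest Cfsg.Agent.Lib.Helper33LCo0 Cfsg.Agent.Lib.Helper33LFrame
open Cfsg.Agent.Lib.Helper33LGood Cfsg.Agent.Lib.Helper33LReach2 Cfsg.Agent.Lib.Helper33LWord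
open Cfsg.Agent.Lib.Helper33LPat Cfsg.Agent.Lib.Helper33LFrame2 Cfsg.Agent.Lib.Helper33LBase
open Cfsg.Agent.Lib.Helper33LMcL Cfsg.Agent.Lib.Helper33LHS Cfsg.Agent.Lib.Helper33LReach
open Cfsg.Agent.Lib.Helper33LCo2Thy Cfsg.Agent.Lib.Helper33LCent
open MulAction

theorem wprod_nil : wprod [] = 1 := by simp [wprod]

theorem wprod_append (l l' : List ℕ) : wprod (l ++ l') = wprod l * wprod l' := by
  simp [wprod]

theorem wprod_replicate (j P : ℕ) : wprod (List.replicate j P) = toCo0 P ^ j := by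
  simp [wprod]

theorem wprod_single (P : ℕ) : wprod [P] = toCo0 P := by simp [wprod]

theorem wprod_flatten (n : ℕ) (l : List ℕ) :
    wprod (List.replicate n l).flatten = wprod l ^ n := by
  induction n with
  | zero => simp [wprod]
  | succ n ih => rw [List.replicate_succ, List.flatten_cons, wprod_append, ih, pow_succ']

/-- two words represent the same element -/
noncomputable def sameW (ws ws' : List ℕ) : Bool :=
  (List.range 24).all (fun i => force (run ws (e8 i)) (fun y =>
    !(Nat.beq y 0) && Nat.beq y (run ws' (e8 i))))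

theorem wprod_eq_of_same {ws ws' : List ℕ} (hw : ∀ P ∈ ws, goodP P = true)
    (hw' : ∀ P ∈ ws', goodP P = true) (h : sameW ws ws' = true) : wprod ws = wprod ws' := by
  apply ext8
  intro i hi
  have h1 := List.all_eq_true.1 h i (List.mem_range.2 hi)
  rw [force_eq, Bool.and_eq_true, Nat.beq_eq] at h1
  have h0 : run ws (e8 i) ≠ 0 := by
    intro h0; rw [h0] at h1; simp at h1
  obtain ⟨_, _, h2⟩ := run_spec ws hw (e8 i) (e8_InR hi).1 (e8_InR hi).2 h0
  obtain ⟨_, _, h3⟩ := run_spec ws' hw' (e8 i) (e8_InR hi).1 (e8_InR hi).2 (by rw [← h1.2]; exact h0)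
  rw [h2, h3, h1.2]

/-- the word does not represent the identity -/
noncomputable def notOne (ws : List ℕ) : Bool :=
  (List.range 24).any (fun i => force (run ws (e8 i)) (fun y =>
    !(Nat.beq y 0) && !(Nat.beq y (e8 i))))

theorem wprod_ne_of_notOne {ws : List ℕ} (hw : ∀ P ∈ ws, goodP P = true)
    (h : notOne ws = true) : wprod ws ≠ 1 := by
  obtain ⟨i, hi, h1⟩ := List.any_eq_true.1 h
  rw [force_eq, Bool.and_eq_true] at h1
  apply wprod_ne_one hw i (List.mem_range.1 hi)
  · intro h0; rw [h0] at h1; simp at h1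
  · intro h0; rw [h0] at h1; simp at h1

/-! ### the centraliser of a matrix in the stabiliser of `u0` -/

noncomputable def Zc (P : ℕ) : Subgroup ↥Co0 :=
  Subgroup.centralizer {toCo0 P} ⊓ fixG [DL u0c]

theorem mem_Zc {P : ℕ} {c : ↥Co0} :
    c ∈ Zc P ↔ c * toCo0 P = toCo0 P * c ∧ Fixes c [DL u0c] := by
  unfold Zc
  rw [Subgroup.mem_inf, Subgroup.mem_centralizer_iff]
  simp only [Set.mem_singleton_iff, forall_eq]
  constructor
  · rintro ⟨h1, h2⟩; exact ⟨h1.symm, h2⟩
  · rintro ⟨h1, h2⟩; exact ⟨h1.symm, h2⟩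

theorem kok_Zc {P Q : ℕ} (hP : goodP P = true) (hQ : goodP Q = true)
    (hs : sameW [Q, P] [P, Q] = true) (hf : stepOK Q u0c u0c = true) : Kok (Zc P) Q := by
  refine ⟨hQ, mem_Zc.2 ⟨?_, ?_⟩⟩
  · have := wprod_eq_of_same (ws := [Q, P]) (ws' := [P, Q]) (by
      intro R hR; simp only [List.mem_cons, List.not_mem_nil, or_false] at hR
      rcases hR with rfl | rfl
      · exact hQ
      · exact hP) (by
      intro R hR; simp only [List.mem_cons, List.not_mem_nil, or_false] at hR
      rcases hR with rfl | rfl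
      · exact hP
      · exact hQ) hs
    simpa [wprod] using this
  · intro b hb
    simp only [List.mem_cons, List.not_mem_nil, or_false] at hb
    rw [hb]
    exact toCo0_fix hQ okU.1 okU.2 hf

theorem kok_Zc_self {P : ℕ} (hP : goodP P = true) (hf : stepOK P u0c u0c = true) :
    Kok (Zc P) P := by
  refine ⟨hP, mem_Zc.2 ⟨rfl, ?_⟩⟩
  intro b hb
  simp only [List.mem_cons, List.not_mem_nil, or_false] at hb
  rw [hb]
  exact toCo0_fix hP okU.1 okU.2 hf

theorem cent_final {P n : ℕ} (hP : goodP P = true) {c : ↥Co0} (hc : c ∈ Zc P) {W Bl : List ℕ}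
    (h : List.Forall₂ (Img c) W W) (hB : beqL (preR P n W []) Bl = true)
    (h0 : Bl.all (fun z => !(Nat.beq z 0)) = true) (N : ℤ) (hN : N ≠ 0) (Cs : List (List ℤ))
    (hspan : spanChk (u0c :: Bl) N Cs = true) : c = 1 := by
  have hB' := eq_of_beqL _ _ hB
  obtain ⟨hc1, hc2⟩ := mem_Zc.1 hc
  have h1 := preR_img n hP hc1 W W [] [] h List.Forall₂.nil (by rw [hB']; exact ne_of_all h0)
    (by rw [hB']; exact ne_of_all h0)
  rw [hB', List.forall₂_same] at h1
  apply eq_one_of_fixes c (u0c :: Bl) _ _ N hN Cs hspan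
  · intro b hb
    rcases List.mem_cons.1 hb with rfl | hb
    · exact okU.2
    · exact (h1 b hb).r2
  · intro b hb
    rcases List.mem_cons.1 hb with rfl | hb
    · exact hc2 _ (by simp)
    · exact (h1 b hb).eq

/-! ### generation: one level of a stabiliser chain -/

theorem ok_of_chk {l : List ℕ} (h : l.all (fun x => inR x && isLeech x) = true) :
    ∀ x ∈ l, InR x ∧ D x ∈ leechLattice := by
  intro x hx
  have h1 := List.all_eq_true.1 h x hx
  rw [Bool.and_eq_true] at h1
  have h2 := InR_of_inR h1.1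
  exact ⟨h2, isLeech_spec _ h2 h1.2⟩

theorem level {K : Subgroup ↥Co0} [Finite ↥K] (Fc : List ℕ) (b : ℕ) (gens : List ℕ)
    (ents : List (ℕ × ℕ × ℕ)) (n m : ℕ)
    (hF : ∀ x ∈ Fc ++ [b], InR x ∧ D x ∈ leechLattice)
    (hg : ∀ P ∈ gens, Kok K P)
    (hfix : gens.all (fun P => Fc.all (fun x => stepOK P x x)) = true)
    (horb : orbGo gens [b] ents = true) (hnd : (b :: ents.map Prod.fst).Nodup)
    (hn : (b :: ents.map Prod.fst).length = n)
    (hm : m ≤ Nat.card ↥(K ⊓ fixG ((Fc ++ [b]).map DL))) :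
    n * m ≤ Nat.card ↥(K ⊓ fixG (Fc.map DL)) := by
  have : Finite ↥(K ⊓ fixG (Fc.map DL)) :=
    Finite.of_injective _ (Subgroup.inclusion_injective (inf_le_left : K ⊓ fixG (Fc.map DL) ≤ K))
  have hb := hF b (by simp)
  have hg' : ∀ P ∈ gens, Kok (K ⊓ fixG (Fc.map DL)) P := by
    intro P hP
    refine ⟨(hg P hP).1, (hg P hP).2, ?_⟩
    intro x hx
    obtain ⟨y, hy, rfl⟩ := List.mem_map.1 hx
    have h1 := List.all_eq_true.1 (List.all_eq_true.1 hfix P hP) y hy
    have h2 := hF y (by simp [hy])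
    exact toCo0_fix (hg P hP).1 h2.1 h2.2 h1
  have h1 := orbGo_spec (root := DL b) hg' ents [b] (by
    intro c hc
    simp only [List.mem_cons, List.not_mem_nil, or_false] at hc
    rw [hc]
    exact ⟨hb.1, hb.2, 1, Subgroup.one_mem _, one_smul _ _⟩) horb
  have h2 := orbit_ge (H := K ⊓ fixG (Fc.map DL)) (root := DL b) (b :: ents.map Prod.fst) h1 hnd
  rw [hn] at h2
  apply card_step' K (Fc.map DL) (DL b) n m h2
  rw [List.map_append] at hm
  exact hm

/-! ### chunked stage checks -/

theorem stageChk_of_chunks (P n s K : ℕ) (lst τpre τself : List ℕ) (sols sols' : List (List ℕ))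
    (hlen : lst.length ≤ K * s) (hK : 0 < K)
    (h : ∀ j < K, stageChk P n ((lst.drop (j * s)).take s) τpre τself sols sols' = true) :
    stageChk P n lst τpre τself sols sols' = true := by
  unfold stageChk at *
  rw [List.all_eq_true]
  intro M hM
  rw [accPre_eq, Bool.and_eq_true]
  constructor
  · have := List.all_eq_true.1 (h 0 hK) M hM
    rw [accPre_eq, Bool.and_eq_true] at this
    exact this.1
  · apply all_of_chunks _ s K _ hlen
    intro j hj
    have := List.all_eq_true.1 (h j hj) M hM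
    rw [accPre_eq, Bool.and_eq_true] at this
    exact this.2

end Cfsg.Agent.Lib.Helper33LCent2
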