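import Cfsg.Agent.Lib.Helper33LCent2

/-! # Centraliser searches over all minimal vectors, for arbitrary frames (helper33) -/

set_option autoImplicit false
set_option exponentiation.threshold 2000

namespace Cfsg.Agent.Lib.Helper33LCent3

open Cfsg Cfsg.Agent.Lib.Helper33Golay Cfsg.Agent.Lib.Helper33LVec Cfsg.Agent.Lib.Helper33LMat
open Cfsg.Agent.Lib.Helper33LTest Cfsg.Agent.Lib.Helper33LCo0 Cfsg.Agent.Lib.Helper33LFrame
open Cfsg.Agent.Lib.Helper33LGood Cfsg.Agent.Lib.Helper33LReach2 Cfsg.Agent.Lib.Helper33LWord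
open Cfsg.Agent.Lib.Helper33LPat Cfsg.Agent.Lib.Helper33LFrame2 Cfsg.Agent.Lib.Helper33LBase
open Cfsg.Agent.Lib.Helper33LMcL Cfsg.Agent.Lib.Helper33LHS Cfsg.Agent.Lib.Helper33LReach
open Cfsg.Agent.Lib.Helper33LCo2Thy Cfsg.Agent.Lib.Helper33LCent Cfsg.Agent.Lib.Helper33LCent2
open Cfsg.Agent.Lib.Helper33LMin
open MulAction

/-- the check for one candidate `m` -/
noncomputable def cchk (P : ℕ) (pres : List (List ℕ × List ℕ)) (τpre τself : List ℕ)
    (sols' : List (List ℕ)) (m : ℕ) : Bool :=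
  pres.all (fun Mp => rejD m Mp.2 τpre || (rej P m τself m ||
    sols'.any (fun M' => beqL M' (m :: Mp.1))))

noncomputable def presOK (P n : ℕ) (pres : List (List ℕ × List ℕ)) : Bool :=
  pres.all (fun Mp => beqL (preR P n Mp.1 []) Mp.2 && Mp.2.all (fun z => !(Nat.beq z 0)))

theorem stage_gen {P n : ℕ} (hP : goodP P = true) {c : ↥Co0} (hc : c * toCo0 P = toCo0 P * c)
    {W : List ℕ} {w m : ℕ} (hwm : Img c w m)
    {τpre τself : List ℕ} {pres : List (List ℕ × List ℕ)} {sols' : List (List ℕ)}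
    (href : refChk P n W w τpre τself = true) (hpres : presOK P n pres = true)
    (hchk : cchk P pres τpre τself sols' m = true)
    (h : ∃ M ∈ pres.map Prod.fst, List.Forall₂ (Img c) W M) :
    ∃ M' ∈ sols', List.Forall₂ (Img c) (w :: W) M' := by
  obtain ⟨M, hM, hWM⟩ := h
  obtain ⟨Mp, hMp, rfl⟩ := List.mem_map.1 hM
  have h1 := List.all_eq_true.1 hpres Mp hMp
  rw [Bool.and_eq_true] at h1
  have he := eq_of_beqL _ _ h1.1
  unfold refChk at href
  simp only [Bool.and_eq_true] at href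
  obtain ⟨r1, r2, r3⟩ := href
  have h2 := List.all_eq_true.1 hchk Mp hMp
  have hpre := preR_img n hP hc W Mp.1 [] [] hWM List.Forall₂.nil (ne_of_all r1)
    (by rw [he]; exact ne_of_all h1.2)
  rw [he] at hpre
  rw [rejD_false hwm _ _ _ hpre r2, rej_false hP hc hwm _ _ _ hwm r3, Bool.false_or,
    Bool.false_or, List.any_eq_true] at h2
  obtain ⟨M', hM', he'⟩ := h2
  refine ⟨M', hM', ?_⟩
  rw [eq_of_beqL _ _ he']
  exact List.Forall₂.cons hwm hWM

/-- the image of a minimal vector in a class of a frame is a candidate -/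
theorem img_cand {c : ↥Co0} (bs : List ℕ) (hbs : ∀ b ∈ bs, D b ∈ leechLattice) (ks : List ℤ)
    (cnd : ℕ → Bool) (hcnd : ∀ m, InR m → (cnd m = true ↔ dotsC bs (D m) = ks))
    (hfix : Fixes c (bs.map DL)) {w : ℕ}
    (hw : (inR w && isLeech w && normB 32 w) = true) (hwc : cnd w = true) :
    ∃ m ∈ minL, cnd m = true ∧ Img c w m := by
  have hmem : DL w ∈ C (bs.map DL) ks := mem_base bs hbs ks _ hcnd w hw hwc
  have hmem' : c • DL w ∈ C (bs.map DL) ks := by
    have := (mem_C_mv c (bs.map DL) ks (DL w)).2 hmem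
    rwa [mv_of_fixes c (bs.map DL) hfix] at this
  obtain ⟨h1, h2, h3, h4⟩ := code_facts _ hmem'.1
  obtain ⟨a1, a2, _⟩ := code_ok hw
  refine ⟨code ((c • DL w : LV) : GolayPt → ℤ), h3, ?_, a1, a2, h1,
    by rw [h2]; exact (c • DL w).2, h4.symm⟩
  rw [hcnd _ h1, h2, ← dots_DL bs hbs]
  exact hmem'.2

/-! ### centralisers in the stabiliser of a frame -/

noncomputable def Zg (P : ℕ) (F : List LV) : Subgroup ↥Co0 :=
  Subgroup.centralizer {toCo0 P} ⊓ fixG F

theorem mem_Zg {P : ℕ} {F : List LV} {c : ↥Co0} :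
    c ∈ Zg P F ↔ c * toCo0 P = toCo0 P * c ∧ Fixes c F := by
  unfold Zg
  rw [Subgroup.mem_inf, Subgroup.mem_centralizer_iff]
  simp only [Set.mem_singleton_iff, forall_eq]
  constructor
  · rintro ⟨h1, h2⟩; exact ⟨h1.symm, h2⟩
  · rintro ⟨h1, h2⟩; exact ⟨h1.symm, h2⟩

theorem fixes_of_chk {Q : ℕ} (hQ : goodP Q = true) {bs : List ℕ}
    (hbs : ∀ b ∈ bs, InR b ∧ D b ∈ leechLattice) (hf : bs.all (fun b => stepOK Q b b) = true) :
    Fixes (toCo0 Q) (bs.map DL) := by
  intro x hx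
  obtain ⟨b, hb, rfl⟩ := List.mem_map.1 hx
  exact toCo0_fix hQ (hbs b hb).1 (hbs b hb).2 (List.all_eq_true.1 hf b hb)

theorem kok_Zg {P Q : ℕ} (hP : goodP P = true) (hQ : goodP Q = true) {bs : List ℕ}
    (hbs : ∀ b ∈ bs, InR b ∧ D b ∈ leechLattice)
    (hs : sameW [Q, P] [P, Q] = true) (hf : bs.all (fun b => stepOK Q b b) = true) :
    Kok (Zg P (bs.map DL)) Q := by
  refine ⟨hQ, mem_Zg.2 ⟨?_, fixes_of_chk hQ hbs hf⟩⟩
  have := wprod_eq_of_same (ws := [Q, P]) (ws' := [P, Q]) (by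
    intro R hR; simp only [List.mem_cons, List.not_mem_nil, or_false] at hR
    rcases hR with rfl | rfl
    · exact hQ
    · exact hP) (by
    intro R hR; simp only [List.mem_cons, List.not_mem_nil, or_false] at hR
    rcases hR with rfl | rfl
    · exact hP
    · exact hQ) hs
  simpa [wprod] using this

theorem kok_Zg_self {P : ℕ} (hP : goodP P = true) {bs : List ℕ}
    (hbs : ∀ b ∈ bs, InR b ∧ D b ∈ leechLattice)
    (hf : bs.all (fun b => stepOK P b b) = true) : Kok (Zg P (bs.map DL)) P :=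
  ⟨hP, mem_Zg.2 ⟨rfl, fixes_of_chk hP hbs hf⟩⟩

theorem cent_final_gen {P n : ℕ} (hP : goodP P = true) {bs : List ℕ}
    (hbs : ∀ b ∈ bs, InR b ∧ D b ∈ leechLattice) {c : ↥Co0} (hc : c ∈ Zg P (bs.map DL))
    {W Bl : List ℕ}
    (h : List.Forall₂ (Img c) W W) (hB : beqL (preR P n W []) Bl = true)
    (h0 : Bl.all (fun z => !(Nat.beq z 0)) = true) (N : ℤ) (hN : N ≠ 0) (Cs : List (List ℤ))
    (hspan : spanChk (bs ++ Bl) N Cs = true) : c = 1 := by
  have hB' := eq_of_beqL _ _ hB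
  obtain ⟨hc1, hc2⟩ := mem_Zg.1 hc
  have h1 := preR_img n hP hc1 W W [] [] h List.Forall₂.nil (by rw [hB']; exact ne_of_all h0)
    (by rw [hB']; exact ne_of_all h0)
  rw [hB', List.forall₂_same] at h1
  apply eq_one_of_fixes c (bs ++ Bl) _ _ N hN Cs hspan
  · intro b hb
    rcases List.mem_append.1 hb with hb | hb
    · exact (hbs b hb).2
    · exact (h1 b hb).r2
  · intro b hb
    rcases List.mem_append.1 hb with hb | hb
    · exact hc2 _ (List.mem_map_of_mem hb)
    · exact (h1 b hb).eq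

/-! ### chunked orbit checks -/

theorem orbGo_append (gens : List ℕ) : ∀ (e1 e2 : List (ℕ × ℕ × ℕ)) (done : List ℕ),
    orbGo gens done e1 = true → orbGo gens (done ++ e1.map Prod.fst) e2 = true →
    orbGo gens done (e1 ++ e2) = true
  | [], e2, done, _, h => by simpa using h
  | (c, gi, pi) :: e1, e2, done, h1, h2 => by
    have h1' : (Nat.blt gi gens.length && Nat.blt pi done.length &&
      stepOK (gens.getD gi 0) (done.getD pi 0) c && orbGo gens (done ++ [c]) e1) = true := h1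
    show (Nat.blt gi gens.length && Nat.blt pi done.length &&
      stepOK (gens.getD gi 0) (done.getD pi 0) c && orbGo gens (done ++ [c]) (e1 ++ e2)) = true
    rw [Bool.and_eq_true] at h1' ⊢
    refine ⟨h1'.1, orbGo_append gens e1 e2 _ h1'.2 ?_⟩
    simpa using h2

end Cfsg.Agent.Lib.Helper33LCent3
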