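import Cfsg.Agent.Lib.Helper33LCent3

/-! # Orbit certificates in depth-first order, fast `Nodup` checks (helper33) -/

set_option autoImplicit false
set_option exponentiation.threshold 2000

namespace Cfsg.Agent.Lib.Helper33LCent4

open Cfsg Cfsg.Agent.Lib.Helper33Golay Cfsg.Agent.Lib.Helper33LVec Cfsg.Agent.Lib.Helper33LMat
open Cfsg.Agent.Lib.Helper33LTest Cfsg.Agent.Lib.Helper33LCo0 Cfsg.Agent.Lib.Helper33LFrame
open Cfsg.Agent.Lib.Helper33LGood Cfsg.Agent.Lib.Helper33LReach2 Cfsg.Agent.Lib.Helper33LWord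
open Cfsg.Agent.Lib.Helper33LPat Cfsg.Agent.Lib.Helper33LFrame2 Cfsg.Agent.Lib.Helper33LBase
open Cfsg.Agent.Lib.Helper33LCent Cfsg.Agent.Lib.Helper33LCent2 Cfsg.Agent.Lib.Helper33LCent3
open MulAction

/-- entries `(code, generator, number of pops)`; the first argument is the current path -/
def orbDFS (gens : List ℕ) : List ℕ → List (ℕ × ℕ × ℕ) → Bool
  | _, [] => true
  | st, (c, gi, k) :: rest =>
    match st.drop k with
    | [] => false
    | top :: st' =>
      Nat.blt gi gens.length && stepOK (gens.getD gi 0) top c && orbDFS gens (c :: top :: st') rest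

theorem orbDFS_spec {H : Subgroup ↥Co0} {root : LV} {gens : List ℕ} (hg : ∀ P ∈ gens, Kok H P) :
    ∀ (ents : List (ℕ × ℕ × ℕ)) (st : List ℕ), (∀ c ∈ st, Reached H root c) →
    orbDFS gens st ents = true → ∀ c ∈ ents.map Prod.fst, Reached H root c
  | [], _, _, _ => by simp
  | (c, gi, k) :: rest, st, hd, h => by
    rw [orbDFS] at h
    cases hst : st.drop k with
    | nil => rw [hst] at h; simp at h
    | cons top st' =>
      rw [hst] at h
      simp only [Bool.and_eq_true] at h
      obtain ⟨⟨h1, h3⟩, h4⟩ := h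
      have h1' : gi < gens.length := by simpa [Nat.blt_eq] using h1
      rw [List.getD_eq_getElem _ _ h1'] at h3
      have hsub : ∀ x ∈ top :: st', Reached H root x := by
        intro x hx
        apply hd
        apply List.mem_of_mem_drop (i := k)
        rw [hst]; exact hx
      obtain ⟨a1, a2, g, hgH, hgr⟩ := hsub top (by simp)
      have hP := hg _ (List.getElem_mem h1')
      obtain ⟨b1, b2, b3⟩ := toCo0_smul_DL hP.1 a1 a2 h3
      have hc : Reached H root c :=
        ⟨b1, b2, toCo0 gens[gi] * g, H.mul_mem hP.2 hgH, by rw [mul_smul, hgr, b3]⟩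
      have ih := orbDFS_spec hg rest (c :: top :: st') (by
        intro x hx
        rcases List.mem_cons.1 hx with rfl | hx
        · exact hc
        · exact hsub x hx) h4
      intro x hx
      rw [List.map_cons] at hx
      rcases List.mem_cons.1 hx with rfl | hx
      · exact hc
      · exact ih x hx

/-! ### `Nodup` by hashing into a bit mask -/

noncomputable def ndGo (M : ℕ) : ℕ → List ℕ → Bool
  | _, [] => true
  | mask, c :: cs =>
    Nat.beq (Nat.land (Nat.shiftRight mask (Nat.mod c M)) 1) 0 &&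
      force (Nat.lor mask (Nat.shiftLeft 1 (Nat.mod c M))) (fun mask' => ndGo M mask' cs)

theorem ndGo_spec (M : ℕ) : ∀ (cs : List ℕ) (mask : ℕ), ndGo M mask cs = true →
    cs.Nodup ∧ ∀ c ∈ cs, mask.testBit (c % M) = false
  | [], _, _ => by simp
  | c :: cs, mask, h => by
    rw [ndGo, force_eq, Bool.and_eq_true, Nat.beq_eq] at h
    obtain ⟨h1, h2⟩ := h
    obtain ⟨i1, i2⟩ := ndGo_spec M cs _ h2
    have hb : mask.testBit (c % M) = false := by
      have h1' : (mask >>> (c % M)) &&& 1 = 0 := h1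
      rw [Nat.testBit, Nat.and_comm, h1']
      rfl
    have key : ∀ x ∈ cs, mask.testBit (x % M) = false ∧ x % M ≠ c % M := by
      intro x hx
      have := i2 x hx
      have h3 : (mask ||| (1 <<< (c % M))).testBit (x % M) = false := this
      rw [Nat.testBit_or, Bool.or_eq_false_iff] at h3
      refine ⟨h3.1, ?_⟩
      intro he
      have h4 := h3.2
      rw [he, Nat.one_shiftLeft, Nat.testBit_two_pow_self] at h4
      exact absurd h4 (by simp)
    refine ⟨List.nodup_cons.2 ⟨?_, i1⟩, ?_⟩
    · intro hc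
      exact (key c hc).2 rfl
    · intro x hx
      rcases List.mem_cons.1 hx with rfl | hx
      · exact hb
      · exact (key x hx).1

theorem nodup_of_ndGo (M : ℕ) (cs : List ℕ) (h : ndGo M 0 cs = true) : cs.Nodup :=
  (ndGo_spec M cs 0 h).1

/-! ### one level of a stabiliser chain, depth-first version -/

theorem levelD {K : Subgroup ↥Co0} [Finite ↥K] (Fc : List ℕ) (b : ℕ) (gens : List ℕ)
    (ents : List (ℕ × ℕ × ℕ)) (n m : ℕ)
    (hF : ∀ x ∈ Fc ++ [b], InR x ∧ D x ∈ leechLattice)
    (hg : ∀ P ∈ gens, Kok K P)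
    (hfix : gens.all (fun P => Fc.all (fun x => stepOK P x x)) = true)
    (horb : orbDFS gens [b] ents = true) (hnd : (b :: ents.map Prod.fst).Nodup)
    (hn : (b :: ents.map Prod.fst).length = n)
    (hm : m ≤ Nat.card ↥(K ⊓ fixG ((Fc ++ [b]).map DL))) :
    n * m ≤ Nat.card ↥(K ⊓ fixG (Fc.map DL)) := by
  have : Finite ↥(K ⊓ fixG (Fc.map DL)) :=
    Finite.of_injective _ (Subgroup.inclusion_injective (inf_le_left : K ⊓ fixG (Fc.map DL) ≤ K))
  have hb := hF b (by simp)
  have hg' : ∀ P ∈ gens, Kok (K ⊓ fixG (Fc.map DL)) P := by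
    intro P hP
    refine ⟨(hg P hP).1, (hg P hP).2, ?_⟩
    intro x hx
    obtain ⟨y, hy, rfl⟩ := List.mem_map.1 hx
    have h1 := List.all_eq_true.1 (List.all_eq_true.1 hfix P hP) y hy
    have h2 := hF y (by simp [hy])
    exact toCo0_fix (hg P hP).1 h2.1 h2.2 h1
  have hroot : Reached (K ⊓ fixG (Fc.map DL)) (DL b) b :=
    ⟨hb.1, hb.2, 1, Subgroup.one_mem _, one_smul _ _⟩
  have h1 := orbDFS_spec (root := DL b) hg' ents [b] (by
    intro c hc
    simp only [List.mem_cons, List.not_mem_nil, or_false] at hc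
    rw [hc]
    exact hroot) horb
  have h2 := orbit_ge (H := K ⊓ fixG (Fc.map DL)) (root := DL b) (b :: ents.map Prod.fst) (by
    intro c hc
    rcases List.mem_cons.1 hc with rfl | hc
    · exact hroot
    · exact h1 c hc) hnd
  rw [hn] at h2
  apply card_step' K (Fc.map DL) (DL b) n m h2
  rw [List.map_append] at hm
  exact hm

end Cfsg.Agent.Lib.Helper33LCent4
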