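import Cfsg.Agent.Lib.Helper33LGen

/-! # Automorphisms of the rank-24 lattice from checked packed matrices (helper33) -/

set_option autoImplicit false
set_option exponentiation.threshold 2000

namespace Cfsg.Agent.Lib.Helper33LCo0

open Cfsg Cfsg.Agent.Lib.Helper33Golay Cfsg.Agent.Lib.Helper33Pack Cfsg.Agent.Lib.Helper33LVec
open Cfsg.Agent.Lib.Helper33LMat Cfsg.Agent.Lib.Helper33LTest Cfsg.Agent.Lib.Helper33LGen
open Matrix

/-- second half of a packed generator: the transposed matrix -/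
def alt (P : ℕ) : ℕ := Nat.shiftRight P 19200

def latOK (Q : ℕ) : Bool := genL.all (fun c => stepOK Q c (outOf Q c) && isLeech (outOf Q c))

def goodP (P : ℕ) : Bool :=
  matOK P && matOK (alt P) && transOK P (alt P) && invOK P (alt P) && invOK (alt P) P &&
    latOK P && latOK (alt P)

theorem lat_spec (Q : ℕ) (hQ : MatOK Q) (h : latOK Q = true) :
    ∀ x ∈ leechLattice, ∃ y ∈ leechLattice, (8 : ℤ) • y = Mint Q *ᵥ x := by
  let K : AddSubgroup (GolayPt → ℤ) :=
    { carrier := {x | ∃ y ∈ leechLattice, (8 : ℤ) • y = Mint Q *ᵥ x}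
      zero_mem' := ⟨0, leechLattice.zero_mem, by simp⟩
      add_mem' := by
        rintro a b ⟨y, hy, hya⟩ ⟨z, hz, hzb⟩
        exact ⟨y + z, leechLattice.add_mem hy hz, by rw [smul_add, hya, hzb, Matrix.mulVec_add]⟩
      neg_mem' := by
        rintro a ⟨y, hy, hya⟩
        exact ⟨-y, leechLattice.neg_mem hy, by rw [smul_neg, hya, Matrix.mulVec_neg]⟩ }
  have : leechLattice ≤ K := by
    apply gen_le
    intro c hc
    have h1 := List.all_eq_true.1 h c hc
    have h2 := List.all_eq_true.1 genL_ok c hc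
    rw [Bool.and_eq_true] at h1 h2
    obtain ⟨ho, hD⟩ := step_spec Q c _ hQ (InR_of_inR h2.1) h1.1
    exact ⟨D (outOf Q c), isLeech_spec _ ho h1.2, hD⟩
  exact fun x hx => this hx

theorem cancel8 {a b : GolayPt → ℤ} (h : (8 : ℤ) • a = (8 : ℤ) • b) : a = b :=
  smul_right_injective _ (by norm_num : (8 : ℤ) ≠ 0) h

theorem sqNorm_eq_dot (x : GolayPt → ℤ) : sqNorm x = x ⬝ᵥ x := by
  simp [sqNorm, dotProduct, sq]

theorem sqNorm_smul (c : ℤ) (x : GolayPt → ℤ) : sqNorm (c • x) = c ^ 2 * sqNorm x := by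
  simp only [sqNorm, Pi.smul_apply, smul_eq_mul, mul_pow, Finset.mul_sum]

theorem exists_co0 (A A' : Matrix GolayPt GolayPt ℤ) (htr : A' = Aᵀ)
    (h1 : A' * A = (64 : ℤ) • (1 : Matrix GolayPt GolayPt ℤ))
    (h2 : A * A' = (64 : ℤ) • (1 : Matrix GolayPt GolayPt ℤ))
    (hl : ∀ x ∈ leechLattice, ∃ y ∈ leechLattice, (8 : ℤ) • y = A *ᵥ x)
    (hl' : ∀ x ∈ leechLattice, ∃ y ∈ leechLattice, (8 : ℤ) • y = A' *ᵥ x) :
    ∃ g : ↥Co0, ∀ v : ↥leechLattice,
      (8 : ℤ) • ((g • v : ↥leechLattice) : GolayPt → ℤ) = A *ᵥ (v : GolayPt → ℤ) := by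
  choose f hf hf8 using hl
  choose f' hf' hf8' using hl'
  have comp : ∀ (B B' : Matrix GolayPt GolayPt ℤ) (_ : B' * B = (64 : ℤ) • (1 : Matrix GolayPt GolayPt ℤ))
      (x y z : GolayPt → ℤ), (8 : ℤ) • y = B *ᵥ x → (8 : ℤ) • z = B' *ᵥ y → z = x := by
    intro B B' hB x y z hy hz
    apply cancel8
    apply cancel8
    rw [hz, ← Matrix.mulVec_smul, hy, Matrix.mulVec_mulVec, hB, Matrix.smul_mulVec, Matrix.one_mulVec,
      smul_smul]
    norm_num
  let e : Equiv.Perm ↥leechLattice :=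
    { toFun := fun v => ⟨f v.1 v.2, hf v.1 v.2⟩
      invFun := fun v => ⟨f' v.1 v.2, hf' v.1 v.2⟩
      left_inv := fun v => Subtype.ext (comp A A' h1 _ _ _ (hf8 v.1 v.2) (hf8' _ _))
      right_inv := fun v => Subtype.ext (comp A' A h2 _ _ _ (hf8' v.1 v.2) (hf8 _ _)) }
  have he : e ∈ Co0 := by
    constructor
    · intro v w
      apply Subtype.ext
      apply cancel8
      show (8 : ℤ) • f (v + w).1 (v + w).2 = (8 : ℤ) • (f v.1 v.2 + f w.1 w.2)
      rw [hf8, smul_add, hf8, hf8, ← Matrix.mulVec_add]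
      rfl
    · intro v
      show sqNorm (f v.1 v.2) = sqNorm v.1
      have e1 : sqNorm ((8 : ℤ) • f v.1 v.2) = 64 * sqNorm v.1 := by
        rw [hf8, sqNorm_eq_dot, sqNorm_eq_dot]
        have : (A *ᵥ v.1) ⬝ᵥ (A *ᵥ v.1) = v.1 ⬝ᵥ (A' *ᵥ (A *ᵥ v.1)) := by
          rw [htr, Matrix.dotProduct_mulVec v.1 Aᵀ, Matrix.vecMul_transpose]
        rw [this, Matrix.mulVec_mulVec, h1, Matrix.smul_mulVec, Matrix.one_mulVec, dotProduct_smul,
          smul_eq_mul]
      rw [sqNorm_smul] at e1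
      omega
  exact ⟨⟨e, he⟩, fun v => hf8 v.1 v.2⟩

theorem exists_of_good {P : ℕ} (h : goodP P = true) :
    ∃ g : ↥Co0, ∀ v : ↥leechLattice,
      (8 : ℤ) • ((g • v : ↥leechLattice) : GolayPt → ℤ) = Mint P *ᵥ (v : GolayPt → ℤ) := by
  unfold goodP at h
  simp only [Bool.and_eq_true] at h
  obtain ⟨⟨⟨⟨⟨⟨a1, a2⟩, a3⟩, a4⟩, a5⟩, a6⟩, a7⟩ := h
  have m1 := MatOK_of_matOK a1
  have m2 := MatOK_of_matOK a2
  exact exists_co0 (Mint P) (Mint (alt P)) (trans_spec _ _ a3) (inv_spec _ _ m1 m2 a4)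
    (inv_spec _ _ m2 m1 a5) (lat_spec _ m1 a6) (lat_spec _ m2 a7)

theorem MatOK_of_good {P : ℕ} (h : goodP P = true) : MatOK P := by
  unfold goodP at h
  simp only [Bool.and_eq_true] at h
  exact MatOK_of_matOK h.1.1.1.1.1.1

open Classical in
/-- the automorphism coded by a checked generator -/
noncomputable def toCo0 (P : ℕ) : ↥Co0 :=
  if h : goodP P = true then Classical.choose (exists_of_good h) else 1

theorem toCo0_spec {P : ℕ} (h : goodP P = true) (v : ↥leechLattice) :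
    (8 : ℤ) • ((toCo0 P • v : ↥leechLattice) : GolayPt → ℤ) = Mint P *ᵥ (v : GolayPt → ℤ) := by
  unfold toCo0
  rw [dif_pos h]
  exact Classical.choose_spec (exists_of_good h) v

open Classical in
/-- the lattice vector coded by `m` (zero if the code is not a lattice vector) -/
noncomputable def DL (m : ℕ) : ↥leechLattice := if h : D m ∈ leechLattice then ⟨D m, h⟩ else 0

theorem DL_coe {m : ℕ} (h : D m ∈ leechLattice) : ((DL m : ↥leechLattice) : GolayPt → ℤ) = D m := by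
  unfold DL; rw [dif_pos h]

theorem toCo0_smul_DL {P m o : ℕ} (hP : goodP P = true) (hm : InR m) (hmL : D m ∈ leechLattice)
    (hs : stepOK P m o = true) : InR o ∧ D o ∈ leechLattice ∧ toCo0 P • DL m = DL o := by
  obtain ⟨ho, hD⟩ := step_spec P m o (MatOK_of_good hP) hm hs
  have h1 := toCo0_spec hP (DL m)
  rw [DL_coe hmL, ← hD] at h1
  have h2 := cancel8 h1
  have h3 : D o ∈ leechLattice := h2 ▸ (toCo0 P • DL m).2
  exact ⟨ho, h3, Subtype.ext (by rw [h2, DL_coe h3])⟩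

/-! ### general facts on the action -/

theorem smul_add' (g : ↥Co0) (v w : ↥leechLattice) : g • (v + w) = g • v + g • w := g.2.1 v w

theorem sqNorm_smul' (g : ↥Co0) (v : ↥leechLattice) :
    sqNorm ((g • v : ↥leechLattice) : GolayPt → ℤ) = sqNorm (v : GolayPt → ℤ) := g.2.2 v

theorem smul_zero' (g : ↥Co0) : g • (0 : ↥leechLattice) = 0 := by
  have := smul_add' g 0 0
  rw [add_zero] at this
  exact left_eq_add.1 this

theorem smul_neg' (g : ↥Co0) (v : ↥leechLattice) : g • (-v) = -(g • v) := by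
  have := smul_add' g v (-v)
  rw [add_neg_cancel, smul_zero'] at this
  exact (neg_eq_of_add_eq_zero_right this.symm).symm

theorem smul_sub' (g : ↥Co0) (v w : ↥leechLattice) : g • (v - w) = g • v - g • w := by
  rw [sub_eq_add_neg, smul_add', smul_neg', sub_eq_add_neg]

theorem sqNorm_add (x y : GolayPt → ℤ) : sqNorm (x + y) = sqNorm x + 2 * dotInt x y + sqNorm y := by
  simp only [sqNorm, dotInt, Pi.add_apply, Finset.mul_sum, ← Finset.sum_add_distrib]
  exact Finset.sum_congr rfl (fun i _ => by ring)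

theorem sqNorm_sub (x y : GolayPt → ℤ) : sqNorm (x - y) = sqNorm x - 2 * dotInt x y + sqNorm y := by
  simp only [sqNorm, dotInt, Pi.sub_apply, Finset.mul_sum, ← Finset.sum_add_distrib,
    ← Finset.sum_sub_distrib]
  exact Finset.sum_congr rfl (fun i _ => by ring)

theorem dot_smul' (g : ↥Co0) (v w : ↥leechLattice) :
    dotInt ((g • v : ↥leechLattice) : GolayPt → ℤ) ((g • w : ↥leechLattice) : GolayPt → ℤ) =
      dotInt (v : GolayPt → ℤ) (w : GolayPt → ℤ) := by
  have h1 := sqNorm_smul' g (v + w)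
  rw [smul_add'] at h1
  have h2 := sqNorm_add ((g • v : ↥leechLattice) : GolayPt → ℤ) ((g • w : ↥leechLattice) : GolayPt → ℤ)
  have h3 := sqNorm_add (v : GolayPt → ℤ) (w : GolayPt → ℤ)
  rw [sqNorm_smul', sqNorm_smul'] at h2
  have h4 : sqNorm (((g • v + g • w : ↥leechLattice)) : GolayPt → ℤ) =
      sqNorm (((v + w : ↥leechLattice)) : GolayPt → ℤ) := h1
  rw [AddSubgroup.coe_add, AddSubgroup.coe_add] at h4
  omega

end Cfsg.Agent.Lib.Helper33LCo0
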