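import Cfsg.Agent.Lib.Helper33LCo2Tb

set_option autoImplicit false
set_option exponentiation.threshold 2000

open Cfsg Cfsg.Agent.Lib.Helper33Golay Cfsg.Agent.Lib.Helper33LVec Cfsg.Agent.Lib.Helper33LMat
open Cfsg.Agent.Lib.Helper33LTest Cfsg.Agent.Lib.Helper33LCo0 Cfsg.Agent.Lib.Helper33LMin
open Cfsg.Agent.Lib.Helper33LReach Cfsg.Agent.Lib.Helper33Sets Cfsg.Agent.Lib.Helper33LReach2
open Cfsg.Agent.Lib.Helper33LMinTrans

namespace Cfsg.Agent.Lib.Helper33LCo2TbChk3

open Cfsg.Agent.Lib.Helper33LCo2 Cfsg.Agent.Lib.Helper33LCo2Tb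

set_option maxRecDepth 100000 in
theorem chkB_3 : ((octL.drop (3 * 192)).take 192).all (fB cnd chk) = true := by
  decide +kernel

theorem chkC_3 : (((List.range 4096).drop (3 * 1024)).take 1024).all (fC cnd chk) = true := by
  decide +kernel

end Cfsg.Agent.Lib.Helper33LCo2TbChk3
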