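import Cfsg.Agent.Lib.Helper33LBaseW

set_option autoImplicit false
set_option exponentiation.threshold 2000

open Cfsg Cfsg.Agent.Lib.Helper33Golay Cfsg.Agent.Lib.Helper33LVec Cfsg.Agent.Lib.Helper33LMat
open Cfsg.Agent.Lib.Helper33LTest Cfsg.Agent.Lib.Helper33LCo0 Cfsg.Agent.Lib.Helper33LMin
open Cfsg.Agent.Lib.Helper33LReach Cfsg.Agent.Lib.Helper33Sets Cfsg.Agent.Lib.Helper33LReach2
open Cfsg.Agent.Lib.Helper33LMinTrans Cfsg.Agent.Lib.Helper33LPat

namespace Cfsg.Agent.Lib.Helper33LWCnt432

open Cfsg.Agent.Lib.Helper33LBase Cfsg.Agent.Lib.Helper33LBaseW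

def cnd (m : ℕ) : Bool := cV 30 m && cW 432 m

set_option maxRecDepth 100000 in
theorem cA : (duadL.map (gA cnd)).sum = 0 := by decide +kernel

set_option maxRecDepth 100000 in
theorem cB_0 : (((octP.drop (0 * 380)).take 380).map (gB cnd)).sum = 92 := by decide +kernel

set_option maxRecDepth 100000 in
theorem cB_1 : (((octP.drop (1 * 380)).take 380).map (gB cnd)).sum = 84 := by decide +kernel

set_option maxRecDepth 100000 in
theorem cC_0 : ((((List.range 4096).drop (0 * 2048)).take 2048).map (gC cnd)).sum = 21 := by decide +kernel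

set_option maxRecDepth 100000 in
theorem cC_1 : ((((List.range 4096).drop (1 * 2048)).take 2048).map (gC cnd)).sum = 78 := by decide +kernel

theorem cnt : (minL.filter cnd).length = 275 := by
  rw [length_filter_minL, sum_of_chunks (gB cnd) 380 2 octP (le_of_eq_of_le octP_length (by norm_num)),
    sum_of_chunks (gC cnd) 2048 2 _ (le_of_eq_of_le List.length_range (by norm_num))]
  simp only [Finset.sum_range_succ, Finset.sum_range_zero]
  rw [cA, cB_0, cB_1, cC_0, cC_1]
  all_goals norm_num

end Cfsg.Agent.Lib.Helper33LWCnt432
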