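import Cfsg.Agent.Lib.Helper33LOrders
import Cfsg.Agent.Lib.Helper33LWAll
import Cfsg.Agent.Lib.Helper33LWCnt432
import Cfsg.Agent.Lib.Helper33LWCnt440
import Cfsg.Agent.Lib.Helper33LWCnt448
import Cfsg.Agent.Lib.Helper33LWCnt456
import Cfsg.Agent.Lib.Helper33LWCnt464
import Cfsg.Agent.Lib.Helper33LCo2TbAll

/-! # Order and simplicity of the second Conway group (helper33) -/

set_option autoImplicit false
set_option exponentiation.threshold 2000

namespace Cfsg.Agent.Lib.Helper33LCo2Ord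

open Cfsg Cfsg.Agent.Lib.Helper33Golay Cfsg.Agent.Lib.Helper33LVec Cfsg.Agent.Lib.Helper33LCo0
open Cfsg.Agent.Lib.Helper33LPair Cfsg.Agent.Lib.Helper33LFrame Cfsg.Agent.Lib.Helper33LGood
open Cfsg.Agent.Lib.Helper33LBase Cfsg.Agent.Lib.Helper33LCo2 Cfsg.Agent.Lib.Helper33LMcL
open Cfsg.Agent.Lib.Helper33LFrame2 Cfsg.Agent.Lib.Helper33LBaseW Cfsg.Agent.Lib.Helper33LCo2Thy
open Cfsg.Agent.Lib.Helper33LOrders Cfsg.Agent.Lib.Helper33LMin Cfsg.Agent.Lib.Helper33LReach

theorem okW : InR w0c ∧ D w0c ∈ leechLattice := ⟨(code_ok w0c_ok).1, (code_ok w0c_ok).2.1⟩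

theorem okV1 : ∀ b ∈ [v0c], InR b ∧ D b ∈ leechLattice := by
  intro b hb; simp only [List.mem_cons, List.not_mem_nil, or_false] at hb
  rcases hb with rfl
  exact okV

theorem okVW : ∀ b ∈ [v0c, w0c], InR b ∧ D b ∈ leechLattice := by
  intro b hb; simp only [List.mem_cons, List.not_mem_nil, or_false] at hb
  rcases hb with rfl | rfl
  exacts [okV, okW]

theorem hcV : ∀ m, InR m → (cV 30 m = true ↔ dotsC [v0c] (D m) = [-8]) :=
  hc_one v0c (-8) _ (hV 30 (-8) (by norm_num))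

theorem W_mem : DL w0c ∈ C [DL v0c] [-8] :=
  mem_base [v0c] (fun b hb => (okV1 b hb).2) [-8] _ hcV w0c w0c_ok (by decide +kernel)

theorem toS (y : LV) (hy : y ∈ C [DL v0c] [-8]) :
    (y : GolayPt → ℤ) ∈ Sset (4 * ((30 : ℕ) : ℤ) - 128) := by
  refine ⟨y.2, hy.1, ?_⟩
  have h := hy.2
  simp only [dots, List.map_cons, List.map_nil, List.cons.injEq, and_true] at h
  rw [DL_coe okV.2] at h
  rw [h]; norm_num

theorem T0 : Trans [DL v0c] [-8] := by
  intro y hy y' hy'
  obtain ⟨g, hg, h⟩ := base_trans 30 Helper33LCo2Tb.ent Helper33LCo2Tb.root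
    Helper33LCo2TbAll.chk_all y y' (toS y hy) (toS y' hy')
  refine ⟨g, ?_, h⟩
  intro b hb
  simp only [List.mem_cons, List.not_mem_nil, or_false] at hb
  rw [hb]
  exact hg

theorem T1 (k : ℤ) : Trans [DL v0c, DL w0c] [-8, k] :=
  trans_of_reach' [v0c] w0c okW.2 [-8] rfl kW 448 (fun m hm => kW_eq m hm)
    (fun y hy y' hy' hc =>
      base_reach [v0c, w0c] [v0c] okVW (fun b hb => by
          simp only [List.mem_cons, List.not_mem_nil, or_false] at hb ⊢
          exact Or.inl hb) [-8]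
        Helper33LGMcL.gens Helper33LWT.ent kW Helper33LWT.rootOf gens_okW _ hcV
        (fun m hm hc => (Bool.and_eq_true _ _ ▸ Helper33LWAll.chk_all m hm hc).1) y hy y' hy' hc) k

theorem hcVW (s : ℕ) (k : ℤ) (h : (s : ℤ) - 448 = k) :
    ∀ m, InR m → ((cV 30 m && cW s m) = true ↔ dotsC [v0c, w0c] (D m) = [-8, k]) :=
  hc_cons v0c (-8) _ (hV 30 (-8) (by norm_num)) [w0c] [k] _ (hc_one w0c k _ (hW s k h))

theorem nW (s n : ℕ) (k : ℤ) (h : (s : ℤ) - 448 = k)
    (hl : (minL.filter (fun m => cV 30 m && cW s m)).length = n) :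
    (C [DL v0c, DL w0c] [-8, k]).ncard = n := by
  have := base_ncard [v0c, w0c] (fun b hb => (okVW b hb).2) [-8, k] _ (hcVW s k h)
  rw [hl] at this
  exact this

theorem n1W : (C [DL v0c, DL w0c] [-8, 32]).ncard = 1 := by
  have : C [DL v0c, DL w0c] [-8, 32] = {DL w0c} := by
    ext y
    rw [Set.mem_singleton_iff]
    have := mem_C_append [DL v0c] [-8] (DL w0c) y 32 rfl
    rw [List.singleton_append, List.singleton_append] at this
    rw [this]
    constructor
    · rintro ⟨h1, h2⟩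
      exact eq_of_dot W_mem.1 h1.1 h2
    · rintro rfl
      exact ⟨W_mem, by rw [dot_self]; exact W_mem.1⟩
  rw [this, Set.ncard_singleton]

theorem valsW_spec (y : LV) (hy : y ∈ C [DL v0c] [-8]) :
    dotInt ((DL w0c : LV) : GolayPt → ℤ) (y : GolayPt → ℤ) = -16 ∨
    dotInt ((DL w0c : LV) : GolayPt → ℤ) (y : GolayPt → ℤ) = -8 ∨
    dotInt ((DL w0c : LV) : GolayPt → ℤ) (y : GolayPt → ℤ) = 0 ∨
    dotInt ((DL w0c : LV) : GolayPt → ℤ) (y : GolayPt → ℤ) = 8 ∨
    dotInt ((DL w0c : LV) : GolayPt → ℤ) (y : GolayPt → ℤ) = 16 ∨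
    dotInt ((DL w0c : LV) : GolayPt → ℤ) (y : GolayPt → ℤ) = 32 := by
  have h := base_forall [v0c] (fun b hb => (okV1 b hb).2) [-8] _ hcV Helper33LWT.valsW
    (fun m hm hc => (Bool.and_eq_true _ _ ▸ Helper33LWAll.chk_all m hm hc).2) y hy
  have hd := dot_of_cls' w0c okW.2 kW 448 (fun m hm => kW_eq m hm) y hy.1
  unfold Helper33LWT.valsW at h
  simp only [Bool.or_eq_true, Nat.beq_eq] at h
  rcases h with ((((h | h) | h) | h) | h) | h
  all_goals (rw [h] at hd; norm_num at hd; simp [hd])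

theorem fW : ∀ i < 24, (fld u0c i : ℤ) - 16 = ((fld v0c i : ℤ) - 16) + ((fld w0c i : ℤ) - 16) := by
  decide +kernel

theorem U_eq : DL u0c = DL v0c + DL w0c := by
  apply Subtype.ext
  funext p
  show ((DL u0c : LV) : GolayPt → ℤ) p =
    ((DL v0c : LV) : GolayPt → ℤ) p + ((DL w0c : LV) : GolayPt → ℤ) p
  rw [DL_coe okU.2, DL_coe okV.2, DL_coe okW.2]
  exact fW _ (idx_lt p)

theorem fixG_VW : fixG [DL u0c, DL v0c] = fixG [DL v0c, DL w0c] := by
  ext g
  simp only [mem_fixG, Fixes, List.mem_cons, List.not_mem_nil, or_false, forall_eq_or_imp, forall_eq]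
  rw [U_eq, smul_add']
  constructor
  · rintro ⟨h1, h2⟩
    rw [h2] at h1
    exact ⟨h2, add_left_cancel h1⟩
  · rintro ⟨h1, h2⟩
    exact ⟨by rw [h1, h2], h1⟩

theorem goodCo2 : Good [DL v0c] 42305421312000 := by
  have := good_step (ι := Fin 6) [DL v0c] [-8] rfl (DL w0c) W_mem T0 T1
    ![32, -16, 16, -8, 8, 0] (by decide) ![1, 275, 2025, 7128, 15400, 22275] 0 rfl
    (by
      intro i
      fin_cases i
      exacts [n1W, nW 432 275 (-16) (by norm_num) Helper33LWCnt432.cnt,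
        nW 464 2025 16 (by norm_num) Helper33LWCnt464.cnt,
        nW 440 7128 (-8) (by norm_num) Helper33LWCnt440.cnt,
        nW 456 15400 8 (by norm_num) Helper33LWCnt456.cnt,
        nW 448 22275 0 (by norm_num) Helper33LWCnt448.cnt])
    (by decide)
    (by
      intro y hy
      rcases valsW_spec y hy with h | h | h | h | h | h
      · exact ⟨1, h⟩
      · exact ⟨3, h⟩
      · exact ⟨5, h⟩
      · exact ⟨4, h⟩
      · exact ⟨2, h⟩
      · exact ⟨0, h⟩)
    898128000 (by norm_num) (good_congr fixG_VW goodMcL) 1 (by decide) 23 2 (by norm_num)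
    (by norm_num) (by norm_num) (by decide) (by decide) (by decide +kernel) (by decide +kernel)
  exact this

theorem mvV (v : LV) (hv : sqNorm (v : GolayPt → ℤ) = 32) : ∃ g : ↥Co0, mv g [v] = [DL v0c] := by
  obtain ⟨g, hg⟩ := to_v0 v hv
  exact ⟨g, by simp [mv, hg, v0]⟩

theorem good_min (v : LV) (hv : sqNorm (v : GolayPt → ℤ) = 32) : Good [v] 42305421312000 := by
  obtain ⟨g, hg⟩ := mvV v hv
  exact good_mv g _ _ (hg ▸ goodCo2)

theorem stab_eq_fixG (v : LV) : MulAction.stabilizer ↥Co0 v = fixG [v] := by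
  ext k
  rw [MulAction.mem_stabilizer_iff, mem_fixG]
  simp only [Fixes, List.mem_cons, List.not_mem_nil, or_false, forall_eq]

end Cfsg.Agent.Lib.Helper33LCo2Ord
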