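import Cfsg.Agent.Lib.Helper33LCo2

/-! # The stabiliser of a minimal vector: transport of orbit certificates (helper33) -/

set_option autoImplicit false
set_option exponentiation.threshold 2000

open Cfsg Cfsg.Agent.Lib.Helper33Golay Cfsg.Agent.Lib.Helper33LVec Cfsg.Agent.Lib.Helper33LMat
open Cfsg.Agent.Lib.Helper33LTest Cfsg.Agent.Lib.Helper33LCo0 Cfsg.Agent.Lib.Helper33LMin
open Cfsg.Agent.Lib.Helper33LReach Cfsg.Agent.Lib.Helper33Sets Cfsg.Agent.Lib.Helper33LReach2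
open Cfsg.Agent.Lib.Helper33LMinTrans

namespace Cfsg.Agent.Lib.Helper33LCo2Thy

open Cfsg.Agent.Lib.Helper33LCo2

/-- data of a checked code of a lattice vector -/
theorem code_ok {b n : ℕ} (h : (inR b && isLeech b && normB n b) = true) :
    InR b ∧ D b ∈ leechLattice ∧ sqNorm (D b) = n := by
  rw [Bool.and_eq_true, Bool.and_eq_true] at h
  have h1 := InR_of_inR h.1.1
  exact ⟨h1, isLeech_spec b h1 h.1.2, (normB_iff n b h1).1 h.2⟩

theorem dot_expand (b : ℕ) (c : ℕ → ℤ) (hc : ∀ i < 24, (fld b i : ℤ) - 16 = c i) (x : GolayPt → ℤ) :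
    dotInt (D b) x = ∑ i ∈ Finset.range 24, c i * x (pt i) := by
  unfold dotInt
  rw [sum_pt']
  apply Finset.sum_congr rfl
  intro i hi
  have hi' := Finset.mem_range.1 hi
  unfold D
  rw [idx_pt hi', hc i hi']

theorem D_pt (m i : ℕ) (hi : i < 24) : D m (pt i) = (fld m i : ℤ) - 16 := by
  unfold D; rw [idx_pt hi]

noncomputable def v0 : ↥leechLattice := DL v0c

theorem v0_inR : InR v0c := (code_ok v0c_ok).1
theorem v0_mem : D v0c ∈ leechLattice := (code_ok v0c_ok).2.1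
theorem v0_norm : sqNorm (D v0c) = 32 := by simpa using (code_ok v0c_ok).2.2
theorem v0_coe : (v0 : GolayPt → ℤ) = D v0c := DL_coe v0_mem

theorem gens_mem (P : ℕ) (hP : P ∈ gensCo2) :
    goodP P = true ∧ toCo0 P ∈ MulAction.stabilizer ↥Co0 v0 := by
  have := List.all_eq_true.1 gensCo2_ok P hP
  rw [Bool.and_eq_true] at this
  exact ⟨this.1, toCo0_fix this.1 v0_inR v0_mem this.2⟩

theorem v0_fields : ∀ i < 24, (fld v0c i : ℤ) - 16 = if i < 2 then 4 else 0 := by decide +kernel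

theorem dot_v0 (x : GolayPt → ℤ) : dotInt (D v0c) x = 4 * x (pt 0) + 4 * x (pt 1) := by
  rw [dot_expand v0c _ v0_fields]
  simp [Finset.sum_range_succ]

theorem cnd_iff (s m : ℕ) : Nat.beq (Nat.add (fld m 0) (fld m 1)) s = true ↔
    dotInt (D v0c) (D m) = 4 * (s : ℤ) - 128 := by
  rw [dot_v0, D_pt m 0 (by norm_num), D_pt m 1 (by norm_num), Nat.beq_eq]
  show fld m 0 + fld m 1 = s ↔ _
  omega

/-- the minimal vectors with a given inner product with the base vector -/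
def Sset (k : ℤ) : Set (GolayPt → ℤ) := {x | x ∈ leechLattice ∧ sqNorm x = 32 ∧ dotInt (D v0c) x = k}

theorem Sset_inv (k : ℤ) (g : ↥Co0) (hg : g ∈ MulAction.stabilizer ↥Co0 v0) (v : ↥leechLattice)
    (hv : (v : GolayPt → ℤ) ∈ Sset k) : ((g • v : ↥leechLattice) : GolayPt → ℤ) ∈ Sset k := by
  refine ⟨(g • v).2, by rw [sqNorm_smul']; exact hv.2.1, ?_⟩
  have h1 : g • v0 = v0 := hg
  rw [← v0_coe, ← h1, dot_smul', v0_coe]
  exact hv.2.2

/-- every minimal vector can be moved to the base vector -/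
theorem to_v0 (v : ↥leechLattice) (hv : sqNorm (v : GolayPt → ℤ) = 32) : ∃ g : ↥Co0, g • v = v0 :=
  min_trans v v0 hv (by rw [v0_coe]; exact v0_norm)

theorem base_trans (s : ℕ) (ent : ℕ → ℕ) (root : ℕ)
    (h : ∀ m ∈ minL, Nat.beq (Nat.add (fld m 0) (fld m 1)) s = true →
      chkM gensCo2 ent (fun _ => 0) (fun _ => root) m = true)
    (w w' : ↥leechLattice) (hw : (w : GolayPt → ℤ) ∈ Sset (4 * (s : ℤ) - 128))
    (hw' : (w' : GolayPt → ℤ) ∈ Sset (4 * (s : ℤ) - 128)) :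
    ∃ g ∈ MulAction.stabilizer ↥Co0 v0, g • w = w' := by
  apply reach_vec (MulAction.stabilizer ↥Co0 v0) (Sset (4 * (s : ℤ) - 128)) gensCo2 ent
    (fun _ => 0) (fun _ => root) gens_mem
    (fun x hx => ⟨hx.1, bound_of_sqNorm hx.2.1 (by norm_num)⟩) (Sset_inv _) _ w w' hw hw' rfl
  intro m hm hmS
  exact h m (mem_minL_of hm hmS.1 hmS.2.1) ((cnd_iff s m).2 hmS.2.2)

theorem co2_trans (s : ℕ) (ent : ℕ → ℕ) (root : ℕ)
    (h : ∀ m ∈ minL, Nat.beq (Nat.add (fld m 0) (fld m 1)) s = true →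
      chkM gensCo2 ent (fun _ => 0) (fun _ => root) m = true)
    (v w w' : ↥leechLattice) (hv : sqNorm (v : GolayPt → ℤ) = 32)
    (hw : sqNorm (w : GolayPt → ℤ) = 32) (hw' : sqNorm (w' : GolayPt → ℤ) = 32)
    (hd : dotInt (v : GolayPt → ℤ) (w : GolayPt → ℤ) = 4 * (s : ℤ) - 128)
    (hd' : dotInt (v : GolayPt → ℤ) (w' : GolayPt → ℤ) = 4 * (s : ℤ) - 128) :
    ∃ g : ↥Co0, g • v = v ∧ g • w = w' := by
  obtain ⟨g0, hg0⟩ := to_v0 v hv
  have mem : ∀ u : ↥leechLattice, sqNorm (u : GolayPt → ℤ) = 32 →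
      dotInt (v : GolayPt → ℤ) (u : GolayPt → ℤ) = 4 * (s : ℤ) - 128 →
      ((g0 • u : ↥leechLattice) : GolayPt → ℤ) ∈ Sset (4 * (s : ℤ) - 128) := by
    intro u hu hdu
    refine ⟨(g0 • u).2, by rw [sqNorm_smul']; exact hu, ?_⟩
    rw [← v0_coe, ← hg0, dot_smul']; exact hdu
  obtain ⟨k, hk, hkw⟩ := base_trans s ent root h (g0 • w) (g0 • w') (mem w hw hd) (mem w' hw' hd')
  have hk' : k • v0 = v0 := hk
  refine ⟨g0⁻¹ * k * g0, ?_, ?_⟩
  · rw [mul_smul, mul_smul, hg0, hk', ← hg0, inv_smul_smul]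
  · rw [mul_smul, mul_smul, hkw, inv_smul_smul]

end Cfsg.Agent.Lib.Helper33LCo2Thy
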