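import Cfsg.Agent.Lib.Helper33LSound
import Cfsg.Agent.Lib.Helper33LCntAll

/-! # Counts of minimal vectors (helper33) -/

set_option autoImplicit false
set_option exponentiation.threshold 2000

open Cfsg Cfsg.Agent.Lib.Helper33Golay Cfsg.Agent.Lib.Helper33LVec Cfsg.Agent.Lib.Helper33LMat
open Cfsg.Agent.Lib.Helper33LTest Cfsg.Agent.Lib.Helper33LCo0 Cfsg.Agent.Lib.Helper33LMin
open Cfsg.Agent.Lib.Helper33LReach Cfsg.Agent.Lib.Helper33Sets Cfsg.Agent.Lib.Helper33LReach2
open Cfsg.Agent.Lib.Helper33LMinTrans Cfsg.Agent.Lib.Helper33LSound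

namespace Cfsg.Agent.Lib.Helper33LCount

theorem ncard_smul (g : ↥Co0) (A B : Set ↥leechLattice) (h : ∀ w, w ∈ A ↔ g • w ∈ B) :
    A.ncard = B.ncard := by
  have : B = (fun w => g • w) '' A := by
    ext w
    constructor
    · intro hw
      exact ⟨g⁻¹ • w, (h _).2 (by rwa [smul_inv_smul]), smul_inv_smul g w⟩
    · rintro ⟨u, hu, rfl⟩
      exact (h u).1 hu
  rw [this, Set.ncard_image_of_injective _ (MulAction.injective g)]

theorem ncard_minimal : {x : GolayPt → ℤ | x ∈ leechLattice ∧ sqNorm x = 32}.ncard = 196560 := by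
  have := ncard_min (fun _ => True) Helper33LCntAll.cnd (fun m _ => by simp [Helper33LCntAll.cnd])
  rw [Helper33LCntAll.cnt] at this
  simpa using this

end Cfsg.Agent.Lib.Helper33LCount
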