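import Cfsg.Agent.Lib.Helper33LCo2Thy
import Cfsg.Agent.Lib.Helper33LCo2TbAll

/-! # Pairs of minimal vectors with inner product `-8` (helper33) -/

set_option autoImplicit false

open Cfsg Cfsg.Agent.Lib.Helper33LVec Cfsg.Agent.Lib.Helper33LCo0
open Cfsg.Agent.Lib.Helper33LMinTrans Cfsg.Agent.Lib.Helper33LCo2Thy

namespace Cfsg.Agent.Lib.Helper33LPair

theorem dot_sub_right (x y z : GolayPt → ℤ) : dotInt x (y - z) = dotInt x y - dotInt x z := by
  simp only [dotInt, Pi.sub_apply, mul_sub, Finset.sum_sub_distrib]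

theorem dot_add_right (x y z : GolayPt → ℤ) : dotInt x (y + z) = dotInt x y + dotInt x z := by
  simp only [dotInt, Pi.add_apply, mul_add, Finset.sum_add_distrib]

theorem dot_neg_right (x y : GolayPt → ℤ) : dotInt x (-y) = -dotInt x y := by
  simp only [dotInt, Pi.neg_apply, mul_neg, Finset.sum_neg_distrib]

theorem dot_comm (x y : GolayPt → ℤ) : dotInt x y = dotInt y x := by
  simp only [dotInt, mul_comm]

theorem dot_self (x : GolayPt → ℤ) : dotInt x x = sqNorm x := by
  simp only [dotInt, sqNorm, sq]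

theorem dot_sub_left (x y z : GolayPt → ℤ) : dotInt (x - y) z = dotInt x z - dotInt y z := by
  simp only [dotInt, Pi.sub_apply, sub_mul, Finset.sum_sub_distrib]

theorem dot_add_left (x y z : GolayPt → ℤ) : dotInt (x + y) z = dotInt x z + dotInt y z := by
  simp only [dotInt, Pi.add_apply, add_mul, Finset.sum_add_distrib]

theorem dot_neg_left (x y : GolayPt → ℤ) : dotInt (-x) y = -dotInt x y := by
  simp only [dotInt, Pi.neg_apply, neg_mul, Finset.sum_neg_distrib]

/-- the automorphism group is transitive on ordered pairs of minimal vectors of inner product `-8` -/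
theorem pair_trans (v w v' w' : ↥leechLattice) (hv : sqNorm (v : GolayPt → ℤ) = 32)
    (hw : sqNorm (w : GolayPt → ℤ) = 32) (hv' : sqNorm (v' : GolayPt → ℤ) = 32)
    (hw' : sqNorm (w' : GolayPt → ℤ) = 32)
    (hd : dotInt (v : GolayPt → ℤ) (w : GolayPt → ℤ) = -8)
    (hd' : dotInt (v' : GolayPt → ℤ) (w' : GolayPt → ℤ) = -8) :
    ∃ g : ↥Co0, g • v = v' ∧ g • w = w' := by
  obtain ⟨g1, hg1⟩ := min_trans v v' hv hv'
  obtain ⟨g2, h2, h3⟩ := co2_trans 30 _ _ Helper33LCo2TbAll.chk_all v' (g1 • w) w' hv'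
    (by rw [sqNorm_smul']; exact hw) hw'
    (by rw [← hg1, dot_smul', hd]; norm_num) (by rw [hd']; norm_num)
  exact ⟨g2 * g1, by rw [mul_smul, hg1, h2], by rw [mul_smul, h3]⟩

/-- transitivity on pairs `(u, v)` with `u` of norm 48 and `v`, `u - v` minimal -/
theorem uv_trans (u v u' v' : ↥leechLattice) (hu : sqNorm (u : GolayPt → ℤ) = 48)
    (hv : sqNorm (v : GolayPt → ℤ) = 32) (huv : sqNorm ((u : GolayPt → ℤ) - (v : GolayPt → ℤ)) = 32)
    (hu' : sqNorm (u' : GolayPt → ℤ) = 48)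
    (hv' : sqNorm (v' : GolayPt → ℤ) = 32)
    (huv' : sqNorm ((u' : GolayPt → ℤ) - (v' : GolayPt → ℤ)) = 32) :
    ∃ g : ↥Co0, g • u = u' ∧ g • v = v' := by
  have key : ∀ a b : ↥leechLattice, sqNorm (a : GolayPt → ℤ) = 48 → sqNorm (b : GolayPt → ℤ) = 32 →
      sqNorm ((a : GolayPt → ℤ) - (b : GolayPt → ℤ)) = 32 →
      dotInt (b : GolayPt → ℤ) ((a - b : ↥leechLattice) : GolayPt → ℤ) = -8 := by
    intro a b ha hb hab
    have h1 := sqNorm_sub (a : GolayPt → ℤ) (b : GolayPt → ℤ)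
    rw [AddSubgroup.coe_sub, dot_sub_right, dot_self, dot_comm]
    omega
  obtain ⟨g, h1, h2⟩ := pair_trans v (u - v) v' (u' - v') hv (by rw [AddSubgroup.coe_sub]; exact huv)
    hv' (by rw [AddSubgroup.coe_sub]; exact huv') (key u v hu hv huv) (key u' v' hu' hv' huv')
  refine ⟨g, ?_, h1⟩
  have : g • u = g • ((u - v) + v) := by rw [sub_add_cancel]
  rw [this, smul_add', h1, h2, sub_add_cancel]

end Cfsg.Agent.Lib.Helper33LPair
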