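import Cfsg.Agent.Lib.Helper33LSound
import Cfsg.Agent.Lib.Helper33LPair

/-! # Vectors of norm 48 are sums of two minimal vectors (helper33) -/

set_option autoImplicit false
set_option exponentiation.threshold 2000

namespace Cfsg.Agent.Lib.Helper33LN48

open Cfsg Cfsg.Agent.Lib.Helper33Golay Cfsg.Agent.Lib.Helper33Pack Cfsg.Agent.Lib.Helper33LVec
open Cfsg.Agent.Lib.Helper94Leech Cfsg.Agent.Lib.Helper33Sets Cfsg.Agent.Lib.Helper33LMin
open Cfsg.Agent.Lib.Helper33LSound Cfsg.Agent.Lib.Helper33LCo0 Cfsg.Agent.Lib.Helper33LPair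
open Cfsg.Agent.Lib.Helper9Golay2 (Csup eight_le_card)

set_option maxRecDepth 100000 in
theorem dod_oct_aux :
    dodL.all (fun d => octL.any (fun o => Nat.beq (pop (Nat.land o d)) 6)) = true := by
  decide +kernel

theorem dod_oct (d : Finset GolayPt) (hd : d ∈ dodecads) : ∃ o ∈ octads, (o ∩ d).card = 6 := by
  have h1 := List.all_eq_true.1 dod_oct_aux _ ((mem_dodecads_iff d).1 hd)
  obtain ⟨o, ho, h2⟩ := List.any_eq_true.1 h1
  refine ⟨dec o, dec_mem_octads ho, ?_⟩
  rw [card_eq_pop, enc_inter, enc_dec (octL_lt ho)]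
  exact Nat.eq_of_beq_eq_true h2

theorem of_two (u : GolayPt → ℤ) (a b : GolayPt) (hab : a ≠ b) (h : |u a| + |u b| = 6) :
    ∃ v ∈ leechLattice, sqNorm v = 32 ∧ dotInt u v = 24 := by
  set T : Finset GolayPt := {a, b} with hT
  set N := T.filter (fun p => u p < 0) with hN
  have hmem : mkS 4 (enc T) (enc N) ∈ minL := by
    unfold minL
    apply List.mem_append_left
    apply List.mem_append_left
    unfold minA
    rw [List.mem_flatMap]
    exact ⟨enc T, (card_eq_2_iff T).1 (Finset.card_pair hab),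
      List.mem_map.2 ⟨enc N, enc_mem_subs (Finset.filter_subset _ _), rfl⟩⟩
  obtain ⟨_, h2, h3⟩ := minL_sound _ hmem
  refine ⟨_, h2, h3, ?_⟩
  have hterm : ∀ p, u p * D (mkS 4 (enc T) (enc N)) p = if p ∈ T then 4 * |u p| else 0 := by
    intro p
    rw [D_mkS 4 (by norm_num)]
    by_cases hp : p ∈ T
    · by_cases hneg : u p < 0
      · have : p ∈ N := by rw [hN, Finset.mem_filter]; exact ⟨hp, hneg⟩
        simp only [hp, this, if_true]
        rw [abs_of_neg hneg]; push_cast; ring
      · have : p ∉ N := by rw [hN, Finset.mem_filter]; exact fun h => hneg h.2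
        simp only [hp, this, if_true, if_false]
        rw [abs_of_nonneg (not_lt.1 hneg)]; push_cast; ring
    · have : p ∉ N := by rw [hN, Finset.mem_filter]; exact fun h => hp h.1
      simp [hp, this]
  unfold dotInt
  rw [Finset.sum_congr rfl (fun p _ => hterm p), Finset.sum_ite_mem, Finset.univ_inter, hT,
    Finset.sum_pair hab]
  omega

theorem of_dod (u : GolayPt → ℤ) (d N : Finset GolayPt) (hd : d ∈ dodecads) (hN : N ⊆ d)
    (hu : ∀ p, u p = 2 * (if p ∈ d then 1 else 0) + (-4) * (if p ∈ N then 1 else 0)) :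
    ∃ v ∈ leechLattice, sqNorm v = 32 ∧ dotInt u v = 24 := by
  obtain ⟨o, ho, hod⟩ := dod_oct d hd
  have ho8 : o.card = 8 := ho.2
  -- a point of the octad outside the dodecad
  have hex : ∃ r, r ∈ o ∧ r ∉ d := by
    by_contra hcon
    push Not at hcon
    have : o ∩ d = o := Finset.inter_eq_left.2 hcon
    rw [this] at hod; omega
  obtain ⟨r, hro, hrd⟩ := hex
  have hrN : r ∉ N ∩ o := fun h => hrd (hN (Finset.mem_inter.1 h).1)
  -- the sign set
  obtain ⟨N', hN'o, hN'd, hpar⟩ : ∃ N' : Finset GolayPt, N' ⊆ o ∧ (∀ p ∈ d, p ∈ N' ↔ p ∈ N ∧ p ∈ o) ∧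
      N'.card % 2 = 0 := by
    by_cases hp : (N ∩ o).card % 2 = 0
    · exact ⟨N ∩ o, Finset.inter_subset_right, fun p _ => Finset.mem_inter, hp⟩
    · refine ⟨insert r (N ∩ o), ?_, ?_, ?_⟩
      · intro p hp'
        rcases Finset.mem_insert.1 hp' with h | h
        · rw [h]; exact hro
        · exact (Finset.mem_inter.1 h).2
      · intro p hpd
        rw [Finset.mem_insert, Finset.mem_inter]
        constructor
        · rintro (h | h)
          · exact absurd (h ▸ hpd) hrd
          · exact h
        · exact Or.inr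
      · rw [Finset.card_insert_of_notMem hrN]; omega
  have hmem : mkS 2 (enc o) (enc N') ∈ minL := by
    unfold minL
    apply List.mem_append_left
    apply List.mem_append_right
    unfold minB
    rw [List.mem_flatMap]
    refine ⟨enc o, (mem_octads_iff o).1 ho, List.mem_map.2 ⟨enc N', ?_, rfl⟩⟩
    rw [List.mem_filter]
    refine ⟨enc_mem_subs hN'o, ?_⟩
    rw [← card_eq_pop]
    show Nat.beq (N'.card % 2) 0 = true
    rw [hpar]; rfl
  obtain ⟨_, h2, h3⟩ := minL_sound _ hmem
  refine ⟨_, h2, h3, ?_⟩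
  have hterm : ∀ p, u p * D (mkS 2 (enc o) (enc N')) p = 4 * (if p ∈ o ∩ d then 1 else 0) := by
    intro p
    rw [D_mkS 2 (by norm_num), hu p]
    by_cases hpd : p ∈ d
    · by_cases hpo : p ∈ o
      · have h1 := hN'd p hpd
        by_cases hpN : p ∈ N
        · have : p ∈ N' := h1.2 ⟨hpN, hpo⟩
          simp [hpd, hpo, hpN, this]
        · have : p ∉ N' := fun h => hpN (h1.1 h).1
          simp [hpd, hpo, hpN, this]
      · have : p ∉ N' := fun h => hpo (hN'o h)
        simp [hpo, this]
    · have : p ∉ N := fun h => hpd (hN h)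
      simp [hpd, this]
  unfold dotInt
  rw [Finset.sum_congr rfl (fun p _ => hterm p), ← Finset.mul_sum, sum_ind, hod]
  norm_num

theorem sum_ind3 (a b c : ℤ) (S T U : Finset GolayPt) :
    ∑ p, (a * (if p ∈ S then 1 else 0) + b * (if p ∈ T then 1 else 0) + c * (if p ∈ U then 1 else 0)) =
      a * S.card + b * T.card + c * U.card := by
  rw [Finset.sum_add_distrib, sum_ind2, ← Finset.mul_sum, sum_ind]

/-- every lattice vector of norm 48 has inner product 24 with some minimal vector -/
theorem exists_min (x : GolayPt → ℤ) (hx : x ∈ leechLattice) (hn : sqNorm x = 48) :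
    ∃ v ∈ leechLattice, sqNorm v = 32 ∧ dotInt x v = 24 := by
  have hb : ∀ p, -6 ≤ x p ∧ x p ≤ 6 := by
    intro p
    have := sq_le_sqNorm x p
    rw [hn] at this
    constructor <;> nlinarith
  rw [mem_leechLattice_iff, mem_leechSet_iff] at hx
  obtain ⟨m, h1, h2, h3⟩ := hx
  rcases Int.emod_two_eq_zero_or_one m with hm | hm
  · set S := cls x 2 with hSdef
    set T4 := Finset.univ.filter (fun p => x p = 4 ∨ x p = -4) with hT4
    set T6 := Finset.univ.filter (fun p => x p = 6 ∨ x p = -6) with hT6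
    set N := Finset.univ.filter (fun p => x p < 0) with hN
    have hval : ∀ p, (p ∈ S ∧ (x p = 2 ∨ x p = -2 ∨ x p = 6 ∨ x p = -6)) ∨
        (p ∉ S ∧ (x p = -4 ∨ x p = 0 ∨ x p = 4)) := by
      intro p
      have := h1 p
      have := hb p
      by_cases hp : p ∈ S
      · left; refine ⟨hp, ?_⟩
        rw [hSdef, mem_cls] at hp; omega
      · right; refine ⟨hp, ?_⟩
        rw [hSdef, mem_cls] at hp; omega
    have hsq : ∀ p, x p ^ 2 = 4 * (if p ∈ S then 1 else 0) + 16 * (if p ∈ T4 then 1 else 0) +
        32 * (if p ∈ T6 then 1 else 0) := by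
      intro p
      rcases hval p with ⟨hp, h | h | h | h⟩ | ⟨hp, h | h | h⟩ <;> simp [hT4, hT6, h, hp]
    have hcard : (48 : ℤ) = 4 * S.card + 16 * T4.card + 32 * T6.card := by
      rw [← hn]
      unfold sqNorm
      rw [Finset.sum_congr rfl (fun p _ => hsq p), sum_ind3]
    have hw : S.card = 0 ∨ S.card = 8 ∨ S.card = 12 ∨ S.card = 16 ∨ S.card = 24 := by
      rw [card_eq_pop]
      exact isCode_weights ((mem_supports_iff _).1 (h3 2))
    have hT6S : T6.card ≤ S.card := by
      apply Finset.card_le_card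
      intro p hp
      simp only [hT6, Finset.mem_filter, Finset.mem_univ, true_and] at hp
      rcases hval p with ⟨hp', _⟩ | ⟨_, h⟩
      · exact hp'
      · omega
    have hcases : (S.card = 0 ∧ T4.card = 3 ∧ T6.card = 0) ∨ (S.card = 8 ∧ T4.card = 1 ∧ T6.card = 0) ∨
        (S.card = 12 ∧ T4.card = 0 ∧ T6.card = 0) := by omega
    rcases hcases with ⟨hS, h4, h6⟩ | ⟨hS, h4, h6⟩ | ⟨hS, h4, h6⟩
    · -- three entries ±4: excluded by the sum condition
      exfalso
      have hS0 : ∀ p, p ∉ S := by
        intro p; rw [Finset.card_eq_zero.1 hS]; simp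
      have hx2 : ∀ p, x p = 4 * (if p ∈ T4 then 1 else 0) + (-8) * (if p ∈ N then 1 else 0) := by
        intro p
        rcases hval p with ⟨hp, _⟩ | ⟨hp, h | h | h⟩
        · exact absurd hp (hS0 p)
        all_goals simp [hT4, hN, h]
      have : ∑ p, x p = 4 * T4.card + (-8) * N.card := by
        rw [Finset.sum_congr rfl (fun p _ => hx2 p), sum_ind2]
      rw [this, h4] at h2
      omega
    · obtain ⟨a, ha⟩ := Finset.card_pos.1 (by omega : 0 < T4.card)
      obtain ⟨b, hb'⟩ := Finset.card_pos.1 (by omega : 0 < S.card)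
      have hT60 : ∀ p, p ∉ T6 := by
        intro p; rw [Finset.card_eq_zero.1 h6]; simp
      have h6b := hT60 b
      simp only [hT6, Finset.mem_filter, Finset.mem_univ, true_and] at h6b
      simp only [hT4, Finset.mem_filter, Finset.mem_univ, true_and] at ha
      have hvb : x b = 2 ∨ x b = -2 := by
        rcases hval b with ⟨_, h⟩ | ⟨hp, _⟩
        · omega
        · exact absurd hb' hp
      apply of_two x a b
      · rintro rfl; omega
      · rcases ha with h | h <;> rcases hvb with h' | h' <;> rw [h, h'] <;> norm_num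
    · have hT60 : ∀ p, p ∉ T6 := by
        intro p; rw [Finset.card_eq_zero.1 h6]; simp
      have hT40 : ∀ p, p ∉ T4 := by
        intro p; rw [Finset.card_eq_zero.1 h4]; simp
      apply of_dod x S N ⟨h3 2, hS⟩
      · intro p hp
        simp only [hN, Finset.mem_filter, Finset.mem_univ, true_and] at hp
        have h4p := hT40 p
        simp only [hT4, Finset.mem_filter, Finset.mem_univ, true_and] at h4p
        rcases hval p with ⟨hp', _⟩ | ⟨_, h⟩
        · exact hp'
        · omega
      · intro p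
        have h4p := hT40 p
        have h6p := hT60 p
        simp only [hT4, Finset.mem_filter, Finset.mem_univ, true_and] at h4p
        simp only [hT6, Finset.mem_filter, Finset.mem_univ, true_and] at h6p
        rcases hval p with ⟨hp, h | h | h | h⟩ | ⟨hp, h | h | h⟩
        all_goals first | (exfalso; omega) | simp [hN, h, hp]
  · have hval : ∀ p, x p = -5 ∨ x p = -3 ∨ x p = -1 ∨ x p = 1 ∨ x p = 3 ∨ x p = 5 := by
      intro p
      have := h1 p
      have := hb p
      omega
    set T3 := Finset.univ.filter (fun p => x p = 3 ∨ x p = -3) with hT3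
    set T5 := Finset.univ.filter (fun p => x p = 5 ∨ x p = -5) with hT5
    have hsq : ∀ p, x p ^ 2 = 1 + (8 * (if p ∈ T3 then 1 else 0) + 24 * (if p ∈ T5 then 1 else 0)) := by
      intro p
      rcases hval p with h | h | h | h | h | h <;> simp [hT3, hT5, h]
    have hcard : (T3.card = 3 ∧ T5.card = 0) ∨ (T3.card = 0 ∧ T5.card = 1) := by
      have : sqNorm x = 24 + (8 * T3.card + 24 * T5.card) := by
        unfold sqNorm
        rw [Finset.sum_congr rfl (fun p _ => hsq p), Finset.sum_add_distrib, sum_ind2,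
          Finset.sum_const, card_pts]
        norm_num
      rw [hn] at this
      omega
    rcases hcard with ⟨h3', _⟩ | ⟨h3', h5⟩
    · obtain ⟨a, ha, b, hb', hab⟩ := Finset.one_lt_card.1 (by omega : 1 < T3.card)
      simp only [hT3, Finset.mem_filter, Finset.mem_univ, true_and] at ha hb'
      apply of_two x a b hab
      rcases ha with h | h <;> rcases hb' with h' | h' <;> rw [h, h'] <;> norm_num
    · obtain ⟨a, ha⟩ := Finset.card_eq_one.1 h5
      obtain ⟨b, hab⟩ : ∃ b : GolayPt, b ≠ a := exists_ne a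
      have hbT5 : b ∉ T5 := by rw [ha]; simpa using hab
      have hbT3 : b ∉ T3 := by rw [Finset.card_eq_zero.1 h3']; simp
      have haT5 : a ∈ T5 := by rw [ha]; simp
      simp only [hT3, hT5, Finset.mem_filter, Finset.mem_univ, true_and] at hbT5 hbT3 haT5
      apply of_two x a b hab.symm
      have hvb : x b = 1 ∨ x b = -1 := by
        rcases hval b with h | h | h | h | h | h <;> omega
      rcases haT5 with h | h <;> rcases hvb with h' | h' <;> rw [h, h'] <;> norm_num

/-- lattice version -/
theorem exists_min' (u : ↥leechLattice) (hu : sqNorm (u : GolayPt → ℤ) = 48) :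
    ∃ v : ↥leechLattice, sqNorm (v : GolayPt → ℤ) = 32 ∧
      sqNorm ((u : GolayPt → ℤ) - (v : GolayPt → ℤ)) = 32 := by
  obtain ⟨v, hv, h1, h2⟩ := exists_min u u.2 hu
  refine ⟨⟨v, hv⟩, h1, ?_⟩
  rw [sqNorm_sub, hu, h1, h2]; norm_num

/-- the automorphism group is transitive on the vectors of norm 48 -/
theorem n48_trans (u u' : ↥leechLattice) (hu : sqNorm (u : GolayPt → ℤ) = 48)
    (hu' : sqNorm (u' : GolayPt → ℤ) = 48) : ∃ g : ↥Co0, g • u = u' := by
  obtain ⟨v, hv, huv⟩ := exists_min' u hu
  obtain ⟨v', hv', huv'⟩ := exists_min' u' hu'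
  obtain ⟨g, hg, _⟩ := uv_trans u v u' v' hu hv huv hu' hv' huv'
  exact ⟨g, hg⟩

end Cfsg.Agent.Lib.Helper33LN48
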