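import Cfsg.Agent.Lib.Helper33LCount
import Cfsg.Agent.Lib.Helper33LN48

/-! # Frames of lattice vectors, the minimal vectors with prescribed inner products (helper33) -/

set_option autoImplicit false
set_option exponentiation.threshold 2000

namespace Cfsg.Agent.Lib.Helper33LFrame

open Cfsg Cfsg.Agent.Lib.Helper33Golay Cfsg.Agent.Lib.Helper33Pack Cfsg.Agent.Lib.Helper33LVec
open Cfsg.Agent.Lib.Helper33LMat Cfsg.Agent.Lib.Helper33LTest Cfsg.Agent.Lib.Helper33LCo0
open Cfsg.Agent.Lib.Helper33LMin Cfsg.Agent.Lib.Helper33LReach Cfsg.Agent.Lib.Helper33Sets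
open Cfsg.Agent.Lib.Helper33LMinTrans Cfsg.Agent.Lib.Helper33LReach2 Cfsg.Agent.Lib.Helper33LSound
open Cfsg.Agent.Lib.Helper33LCount Cfsg.Agent.Lib.Helper33LPair Cfsg.Agent.Lib.Helper33LPat

abbrev LV := ↥leechLattice

/-- inner products of `x` with the vectors of a frame -/
def dots (F : List LV) (x : LV) : List ℤ :=
  F.map (fun b : LV => dotInt (b : GolayPt → ℤ) (x : GolayPt → ℤ))

/-- the minimal vectors with prescribed inner products with the frame -/
def C (F : List LV) (ks : List ℤ) : Set LV := {x | sqNorm (x : GolayPt → ℤ) = 32 ∧ dots F x = ks}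

def Fixes (g : ↥Co0) (F : List LV) : Prop := ∀ b ∈ F, g • b = b

def Trans (F : List LV) (ks : List ℤ) : Prop :=
  ∀ x ∈ C F ks, ∀ x' ∈ C F ks, ∃ g : ↥Co0, Fixes g F ∧ g • x = x'

def mv (g : ↥Co0) (F : List LV) : List LV := F.map (fun b => g • b)

theorem dots_mv (g : ↥Co0) (F : List LV) (x : LV) : dots (mv g F) (g • x) = dots F x := by
  unfold dots mv
  rw [List.map_map]
  apply List.map_congr_left
  intro b _
  exact dot_smul' g b x

theorem mem_C_mv (g : ↥Co0) (F : List LV) (ks : List ℤ) (x : LV) :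
    g • x ∈ C (mv g F) ks ↔ x ∈ C F ks := by
  unfold C
  simp only [Set.mem_ofPred_eq]
  rw [sqNorm_smul', dots_mv]

theorem ncard_mv (g : ↥Co0) (F : List LV) (ks : List ℤ) : (C F ks).ncard = (C (mv g F) ks).ncard :=
  ncard_smul g _ _ (fun w => (mem_C_mv g F ks w).symm)

theorem fixes_conj (g k : ↥Co0) (F : List LV) (h : Fixes k (mv g F)) : Fixes (g⁻¹ * k * g) F := by
  intro b hb
  have := h (g • b) (List.mem_map.2 ⟨b, hb, rfl⟩)
  rw [mul_smul, mul_smul, this, inv_smul_smul]

theorem trans_mv (g : ↥Co0) (F : List LV) (ks : List ℤ) (h : Trans (mv g F) ks) : Trans F ks := by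
  intro x hx x' hx'
  obtain ⟨k, hk, hkx⟩ := h (g • x) ((mem_C_mv g F ks x).2 hx) (g • x') ((mem_C_mv g F ks x').2 hx')
  exact ⟨g⁻¹ * k * g, fixes_conj g k F hk, by rw [mul_smul, mul_smul, hkx, inv_smul_smul]⟩

theorem mv_mul (g k : ↥Co0) (F : List LV) : mv (k * g) F = mv k (mv g F) := by
  unfold mv
  rw [List.map_map]
  apply List.map_congr_left
  intro b _
  exact mul_smul k g b

theorem mv_of_fixes (k : ↥Co0) (F : List LV) (h : Fixes k F) : mv k F = F := by
  unfold mv
  conv_rhs => rw [← List.map_id F]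
  apply List.map_congr_left
  intro b hb
  exact h b hb

/-- extension of a frame by one more vector -/
theorem ext_mv (g : ↥Co0) (F F0 : List LV) (ks : List ℤ) (x x0 : LV) (h : mv g F = F0)
    (hT : Trans F0 ks) (hx : x ∈ C F ks) (hx0 : x0 ∈ C F0 ks) :
    ∃ g' : ↥Co0, mv g' (F ++ [x]) = F0 ++ [x0] := by
  subst h
  obtain ⟨k, hk, hkx⟩ := hT (g • x) ((mem_C_mv g F ks x).2 hx) x0 hx0
  refine ⟨k * g, ?_⟩
  rw [mv_mul]
  unfold mv at *
  rw [List.map_append, List.map_append, List.map_cons, List.map_cons, List.map_nil, List.map_nil, hkx]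
  congr 1
  exact mv_of_fixes k _ hk

theorem mem_C_append (F : List LV) (ks : List ℤ) (b x : LV) (k : ℤ) (hl : F.length = ks.length) :
    x ∈ C (F ++ [b]) (ks ++ [k]) ↔ x ∈ C F ks ∧ dotInt (b : GolayPt → ℤ) (x : GolayPt → ℤ) = k := by
  unfold C dots
  simp only [Set.mem_ofPred_eq, List.map_append, List.map_cons, List.map_nil]
  constructor
  · rintro ⟨h1, h2⟩
    have := List.append_inj h2 (by simpa using hl)
    exact ⟨⟨h1, this.1⟩, by simpa using this.2⟩
  · rintro ⟨⟨h1, h2⟩, h3⟩
    exact ⟨h1, by rw [h2, h3]⟩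

/-- the orbit of the pointwise stabiliser of the frame -/
theorem orbit_eq (F : List LV) (ks : List ℤ) (y : LV) (hy : y ∈ C F ks) (hT : Trans F ks)
    (H : Subgroup ↥Co0) (hH : ∀ g, g ∈ H ↔ Fixes g F) : MulAction.orbit ↥H y = C F ks := by
  ext z
  constructor
  · rintro ⟨⟨g, hg⟩, rfl⟩
    have h1 := (mem_C_mv g F ks y).2 hy
    rw [mv_of_fixes g F ((hH g).1 hg)] at h1
    exact h1
  · intro hz
    obtain ⟨g, hg, hgy⟩ := hT y hy z hz
    exact ⟨⟨g, (hH g).2 hg⟩, hgy⟩

/-! ### base frames given by codes -/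

/-- the conditions on raw vectors -/
def dotsC (bs : List ℕ) (x : GolayPt → ℤ) : List ℤ := bs.map (fun b => dotInt (D b) x)

theorem dots_DL (bs : List ℕ) (hbs : ∀ b ∈ bs, D b ∈ leechLattice) (x : LV) :
    dots (bs.map DL) x = dotsC bs (x : GolayPt → ℤ) := by
  unfold dots dotsC
  rw [List.map_map]
  apply List.map_congr_left
  intro b hb
  show dotInt ((DL b : LV) : GolayPt → ℤ) _ = _
  rw [DL_coe (hbs b hb)]

theorem base_ncard (bs : List ℕ) (hbs : ∀ b ∈ bs, D b ∈ leechLattice) (ks : List ℤ) (cnd : ℕ → Bool)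
    (hc : ∀ m, InR m → (cnd m = true ↔ dotsC bs (D m) = ks)) :
    (C (bs.map DL) ks).ncard = (minL.filter cnd).length := by
  rw [← ncard_min (fun x => dotsC bs x = ks) cnd hc,
    ← ncard_subtype (fun x => sqNorm x = 32 ∧ dotsC bs x = ks)]
  congr 1
  ext x
  unfold C
  simp only [Set.mem_ofPred_eq]
  rw [dots_DL bs hbs]

/-- the pointwise stabiliser of a frame -/
def fixG (F : List LV) : Subgroup ↥Co0 where
  carrier := {g | Fixes g F}
  one_mem' := fun b _ => one_smul _ b
  mul_mem' := fun {a b} ha hb c hc => by rw [mul_smul, hb c hc, ha c hc]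
  inv_mem' := fun {a} ha c hc => by
    have := ha c hc
    rw [inv_smul_eq_iff, this]

theorem base_reach (fx bs : List ℕ) (hfx : ∀ b ∈ fx, InR b ∧ D b ∈ leechLattice)
    (hsub : ∀ b ∈ bs, b ∈ fx) (ks : List ℤ) (gens : List ℕ) (ent cls rootOf : ℕ → ℕ)
    (hg : gens.all (fun P => goodP P && fx.all (fun b => stepOK P b b)) = true)
    (cnd : ℕ → Bool) (hc : ∀ m, InR m → (cnd m = true ↔ dotsC bs (D m) = ks))
    (hchk : ∀ m ∈ minL, cnd m = true → chkM gens ent cls rootOf m = true) :
    ∀ y ∈ C (bs.map DL) ks, ∀ y' ∈ C (bs.map DL) ks,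
      cls (code (y : GolayPt → ℤ)) = cls (code (y' : GolayPt → ℤ)) →
      ∃ g : ↥Co0, Fixes g (fx.map DL) ∧ g • y = y' := by
  have hbs : ∀ b ∈ bs, D b ∈ leechLattice := fun b hb => (hfx b (hsub b hb)).2
  intro y hy y' hy' hcl
  have conv : ∀ z : LV, z ∈ C (bs.map DL) ks →
      (z : GolayPt → ℤ) ∈ {x | x ∈ leechLattice ∧ sqNorm x = 32 ∧ dotsC bs x = ks} := by
    intro z hz
    refine ⟨z.2, hz.1, ?_⟩
    rw [← dots_DL bs hbs]; exact hz.2
  apply reach_vec (fixG (fx.map DL)) {x | x ∈ leechLattice ∧ sqNorm x = 32 ∧ dotsC bs x = ks}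
    gens ent cls rootOf _ (fun x hx => ⟨hx.1, bound_of_sqNorm hx.2.1 (by norm_num)⟩) _ _ y y'
    (conv y hy) (conv y' hy') hcl
  · intro P hP
    have h1 := List.all_eq_true.1 hg P hP
    rw [Bool.and_eq_true] at h1
    refine ⟨h1.1, ?_⟩
    intro c hc'
    obtain ⟨b, hb, rfl⟩ := List.mem_map.1 hc'
    exact toCo0_fix h1.1 (hfx b hb).1 (hfx b hb).2 (List.all_eq_true.1 h1.2 b hb)
  · intro g hg' v hv
    refine ⟨(g • v).2, by rw [sqNorm_smul']; exact hv.2.1, ?_⟩
    rw [← hv.2.2]
    unfold dotsC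
    apply List.map_congr_left
    intro b hb
    have h1 : g • DL b = DL b := hg' (DL b) (List.mem_map.2 ⟨b, hsub b hb, rfl⟩)
    rw [← DL_coe (hbs b hb), ← dot_smul' g (DL b) v, h1]
  · intro m hm hmS
    exact hchk m (mem_minL_of hm hmS.1 hmS.2.1) ((hc m hm).2 hmS.2.2)

/-! ### explicit sublists of the list of minimal vectors -/

def hA (c : ℕ → Bool) (d : ℕ) : List ℕ := ((subs d).map (mkS 4 d)).filter c

def hB (c : ℕ → Bool) (P : ℕ) : List ℕ := ((List.range 128).map (mB P)).filter c

def hC (c : ℕ → Bool) (k : ℕ) : List ℕ := ((List.range 24).map (mkC (encode k))).filter c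

theorem filter_flatMap' (c : ℕ → Bool) (L : List ℕ) (f : ℕ → List ℕ) :
    (L.flatMap f).filter c = L.flatMap (fun a => (f a).filter c) := by
  induction L with
  | nil => simp
  | cons a l ih => rw [List.flatMap_cons, List.filter_append, ih, List.flatMap_cons]

theorem filter_minL (c : ℕ → Bool) : minL.filter c =
    duadL.flatMap (hA c) ++ octP.flatMap (hB c) ++ (List.range 4096).flatMap (hC c) := by
  unfold minL
  rw [List.filter_append, List.filter_append, minB_eq]
  unfold minA minC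
  rw [filter_flatMap', filter_flatMap', filter_flatMap']
  rfl

theorem flatMap_chunks (g : ℕ → List ℕ) (s : ℕ) : ∀ (K : ℕ) (L : List ℕ), L.length ≤ K * s →
    L.flatMap g = (List.range K).flatMap (fun j => ((L.drop (j * s)).take s).flatMap g) := by
  intro K
  induction K with
  | zero =>
    intro L hL
    have : L = [] := List.length_eq_zero_iff.1 (by omega)
    rw [this]; simp
  | succ K ih =>
    intro L hL
    rw [List.range_succ_eq_map, List.flatMap_cons, List.flatMap_map]
    have h1 : L.flatMap g = (L.take s).flatMap g ++ (L.drop s).flatMap g := by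
      conv_lhs => rw [← List.take_append_drop s L]
      rw [List.flatMap_append]
    rw [h1, ih (L.drop s) (by
      rw [List.length_drop]
      have : (K + 1) * s = K * s + s := by ring
      omega)]
    congr 1
    · simp
    · apply List.flatMap_congr
      intro j _
      rw [List.drop_drop]
      have e : s + j * s = (j + 1) * s := by ring
      rw [e]

/-- The kernel hashes a numeral by its low bits: the literal lists carry a running index there. -/
def unsalt (s : ℕ) : ℕ := Nat.shiftRight s 32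

theorem filter_and (c q : ℕ → Bool) (lst : List ℕ) (h : minL.filter c = lst) :
    minL.filter (fun m => c m && q m) = lst.filter q := by
  rw [← h, List.filter_filter]
  congr 1
  funext m
  exact Bool.and_comm _ _

theorem forall_of_lst (c q chk : ℕ → Bool) (lst : List ℕ) (h : minL.filter c = lst)
    (hall : lst.all (fun m => !q m || chk m) = true) :
    ∀ m ∈ minL, (c m && q m) = true → chk m = true := by
  intro m hm hcq
  rw [Bool.and_eq_true] at hcq
  have h1 : m ∈ lst := by rw [← h, List.mem_filter]; exact ⟨hm, hcq.1⟩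
  have := List.all_eq_true.1 hall m h1
  rw [hcq.2] at this
  simpa using this

end Cfsg.Agent.Lib.Helper33LFrame
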