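import Cfsg.Agent.Lib.Helper33LBase

/-! # Frames: further tools (helper33) -/

set_option autoImplicit false
set_option exponentiation.threshold 2000

namespace Cfsg.Agent.Lib.Helper33LFrame2

open Cfsg Cfsg.Agent.Lib.Helper33Golay Cfsg.Agent.Lib.Helper33Pack Cfsg.Agent.Lib.Helper33LVec
open Cfsg.Agent.Lib.Helper33LMat Cfsg.Agent.Lib.Helper33LTest Cfsg.Agent.Lib.Helper33LCo0
open Cfsg.Agent.Lib.Helper33LMin Cfsg.Agent.Lib.Helper33LReach Cfsg.Agent.Lib.Helper33Sets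
open Cfsg.Agent.Lib.Helper33LMinTrans Cfsg.Agent.Lib.Helper33LReach2 Cfsg.Agent.Lib.Helper33LSound
open Cfsg.Agent.Lib.Helper33LCount Cfsg.Agent.Lib.Helper33LPair Cfsg.Agent.Lib.Helper33LPat
open Cfsg.Agent.Lib.Helper33LCo2 Cfsg.Agent.Lib.Helper33LCo2Thy Cfsg.Agent.Lib.Helper33LFrame
open Cfsg.Agent.Lib.Helper33LBase

theorem code_facts (y : LV) (hy : sqNorm (y : GolayPt → ℤ) = 32) :
    InR (code (y : GolayPt → ℤ)) ∧ D (code (y : GolayPt → ℤ)) = y ∧ code (y : GolayPt → ℤ) ∈ minL ∧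
      DL (code (y : GolayPt → ℤ)) = y := by
  have hb := fun p => bound_of_sqNorm hy (by norm_num) p
  exact ⟨InR_code _ hb, D_code _ hb, min_complete _ y.2 hy, DL_code y hb⟩

/-- a Boolean property checked on the list holds for the codes of the vectors of the set -/
theorem base_forall (bs : List ℕ) (hbs : ∀ b ∈ bs, D b ∈ leechLattice) (ks : List ℤ) (cnd : ℕ → Bool)
    (hc : ∀ m, InR m → (cnd m = true ↔ dotsC bs (D m) = ks)) (chk : ℕ → Bool)
    (h : ∀ m ∈ minL, cnd m = true → chk m = true) (y : LV) (hy : y ∈ C (bs.map DL) ks) :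
    chk (code (y : GolayPt → ℤ)) = true := by
  obtain ⟨h1, h2, h3, _⟩ := code_facts y hy.1
  apply h _ h3
  rw [hc _ h1, h2, ← dots_DL bs hbs]
  exact hy.2

theorem mem_base (bs : List ℕ) (hbs : ∀ b ∈ bs, D b ∈ leechLattice) (ks : List ℤ) (cnd : ℕ → Bool)
    (hc : ∀ m, InR m → (cnd m = true ↔ dotsC bs (D m) = ks)) (m : ℕ)
    (hm : (inR m && isLeech m && normB 32 m) = true) (h : cnd m = true) : DL m ∈ C (bs.map DL) ks := by
  obtain ⟨h1, h2, h3⟩ := code_ok hm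
  refine ⟨by rw [DL_coe h2]; simpa using h3, ?_⟩
  rw [dots_DL bs hbs, DL_coe h2]
  exact (hc m h1).1 h

theorem hc_one (b : ℕ) (k : ℤ) (c : ℕ → Bool)
    (hb : ∀ m, InR m → (c m = true ↔ dotInt (D b) (D m) = k)) :
    ∀ m, InR m → (c m = true ↔ dotsC [b] (D m) = [k]) := by
  intro m hm
  rw [hb m hm]
  simp [dotsC]

theorem hc_cons (b : ℕ) (k : ℤ) (c : ℕ → Bool)
    (hb : ∀ m, InR m → (c m = true ↔ dotInt (D b) (D m) = k)) (bs : List ℕ) (ks : List ℤ)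
    (cnd : ℕ → Bool) (h : ∀ m, InR m → (cnd m = true ↔ dotsC bs (D m) = ks)) :
    ∀ m, InR m → ((c m && cnd m) = true ↔ dotsC (b :: bs) (D m) = k :: ks) := by
  intro m hm
  rw [Bool.and_eq_true, hb m hm, h m hm]
  simp [dotsC]

theorem hU (s : ℕ) (k : ℤ) (h : (s : ℤ) - 448 = k) :
    ∀ m, InR m → (cU s m = true ↔ dotInt (D u0c) (D m) = k) := fun m hm => h ▸ cU_iff s m hm
theorem hV (s : ℕ) (k : ℤ) (h : 4 * (s : ℤ) - 128 = k) :
    ∀ m, InR m → (cV s m = true ↔ dotInt (D v0c) (D m) = k) := fun m hm => h ▸ cV_iff s m hm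
theorem hX (s : ℕ) (k : ℤ) (h : 4 * (s : ℤ) - 128 = k) :
    ∀ m, InR m → (cX s m = true ↔ dotInt (D x0c) (D m) = k) := fun m hm => h ▸ cX_iff s m hm
theorem hH (s : ℕ) (k : ℤ) (h : 4 * (s : ℤ) - 128 = k) :
    ∀ m, InR m → (cH s m = true ↔ dotInt (D xhc) (D m) = k) := fun m hm => h ▸ cH_iff s m hm
theorem hM (s : ℕ) (k : ℤ) (h : 4 * (s : ℤ) - 128 = k) :
    ∀ m, InR m → (cM s m = true ↔ dotInt (D xmc) (D m) = k) := fun m hm => h ▸ cM_iff s m hm

/-- transitivity of the stabiliser of an extended frame from an orbit certificate with classes -/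
theorem trans_of_reach (bs : List ℕ) (xc : ℕ) (hxc : D xc ∈ leechLattice) (ks : List ℤ)
    (hl : bs.length = ks.length) (cls : ℕ → ℕ)
    (hcls : ∀ m, InR m → dotInt (D xc) (D m) = 4 * (cls m : ℤ) - 128)
    (R : ∀ y ∈ C (bs.map DL) ks, ∀ y' ∈ C (bs.map DL) ks,
      cls (code (y : GolayPt → ℤ)) = cls (code (y' : GolayPt → ℤ)) →
      ∃ g : ↥Co0, Fixes g ((bs ++ [xc]).map DL) ∧ g • y = y') (k : ℤ) :
    Trans ((bs ++ [xc]).map DL) (ks ++ [k]) := by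
  intro y hy y' hy'
  rw [List.map_append, List.map_cons, List.map_nil, mem_C_append _ _ _ _ _ (by simpa using hl)] at hy hy'
  apply R y hy.1 y' hy'.1
  obtain ⟨h1, h2, _, _⟩ := code_facts y hy.1.1
  obtain ⟨h1', h2', _, _⟩ := code_facts y' hy'.1.1
  have e1 := hcls _ h1
  have e2 := hcls _ h1'
  rw [h2, ← DL_coe hxc, hy.2] at e1
  rw [h2', ← DL_coe hxc, hy'.2] at e2
  omega

/-- the class of a vector determines its inner product -/
theorem dot_of_cls (xc : ℕ) (hxc : D xc ∈ leechLattice) (cls : ℕ → ℕ)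
    (hcls : ∀ m, InR m → dotInt (D xc) (D m) = 4 * (cls m : ℤ) - 128) (y : LV)
    (hy : sqNorm (y : GolayPt → ℤ) = 32) :
    dotInt ((DL xc : LV) : GolayPt → ℤ) (y : GolayPt → ℤ) = 4 * (cls (code (y : GolayPt → ℤ)) : ℤ) - 128 := by
  obtain ⟨h1, h2, _, _⟩ := code_facts y hy
  have e1 := hcls _ h1
  rwa [h2, ← DL_coe hxc] at e1

theorem trans_of_reach0 (bs : List ℕ) (ks : List ℤ)
    (R : ∀ y ∈ C (bs.map DL) ks, ∀ y' ∈ C (bs.map DL) ks, (0 : ℕ) = 0 →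
      ∃ g : ↥Co0, Fixes g (bs.map DL) ∧ g • y = y') : Trans (bs.map DL) ks :=
  fun y hy y' hy' => R y hy y' hy' rfl

end Cfsg.Agent.Lib.Helper33LFrame2
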