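import Cfsg.Agent.Lib.Helper33LTest

/-! # An explicit generating set of the rank-24 lattice (helper33) -/

set_option autoImplicit false
set_option exponentiation.threshold 2000

namespace Cfsg.Agent.Lib.Helper33LGen

open Cfsg Cfsg.Agent.Lib.Helper33Golay Cfsg.Agent.Lib.Helper33Pack Cfsg.Agent.Lib.Helper33LVec
open Cfsg.Agent.Lib.Helper94Leech Cfsg.Agent.Lib.Helper33LTest
open Cfsg.Agent.Lib.Helper9Golay2 (Csup)

/-- `(-3, 1, …, 1)` -/
def genU : ℕ := 0x11000000110000001100000011000000110000001100000011000000110000001100000011000000110000001100000011000000110000001100000011000000110000001100000011000000110000001100000011000000110000000d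

def row (k : ℕ) : ℕ := encode (Nat.shiftLeft 1 k)

/-- twice a basis word of the code -/
def genB (k : ℕ) : ℕ := Nat.add (Nat.mul 16 ONES) (Nat.mul 2 (spK (row k)))

/-- `4 e_i + 4 e_0` -/
def genA (i : ℕ) : ℕ := Nat.add (Nat.add (Nat.mul 16 ONES) 4) (Nat.shiftLeft 4 (Nat.mul 32 i))

def genL : List ℕ := genU :: ((List.range 12).map genB ++ (List.range 24).map genA)

theorem genL_ok : genL.all (fun c => inR c && isLeech c) = true := by decide +kernel

theorem genL_mem {c : ℕ} (h : c ∈ genL) : D c ∈ leechLattice := by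
  have := List.all_eq_true.1 genL_ok c h
  rw [Bool.and_eq_true] at this
  exact isLeech_spec c (InR_of_inR this.1) this.2

theorem genU_eq : genU = pk 32 (fun j => if j = 0 then 13 else 17) 24 := by decide +kernel

theorem D_genU (p : GolayPt) : D genU p = if idx p = 0 then -3 else 1 := by
  rw [genU_eq, D_pk]
  · split_ifs <;> norm_num
  · intro i _; split_ifs <;> norm_num

theorem D_genB (k : ℕ) (p : GolayPt) : D (genB k) p = 2 * (bit (row k) (idx p) : ℤ) := by
  have e : genB k = pk 32 (fun j => 16 + 2 * bit (row k) j) 24 := by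
    show 16 * ONES + 2 * spK (row k) = _
    rw [pk_add, pk_const, pk_smul, spK_eq (row k) (encode_lt _)]
  rw [e, D_pk]
  · push_cast; ring
  · intro i _
    have := bit_lt (row k) i
    have : 16 + 2 * bit (row k) i < 32 := by omega
    exact lt_trans this (by norm_num)

theorem D_genA (i : ℕ) (hi : i < 24) (p : GolayPt) :
    D (genA i) p = (if idx p = i then 4 else 0) + (if idx p = 0 then 4 else 0) := by
  have e : genA i = pk 32 (fun j => (16 + (if j = 0 then 4 else 0)) + (if j = i then 4 else 0)) 24 := by
    show 16 * ONES + 4 + 4 <<< (32 * i) = _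
    rw [pk_add, pk_add, pk_const, pk_single 32 24 i 4 hi, pk_single 32 24 0 4 (by norm_num),
      Nat.shiftLeft_eq]
    simp
  rw [e, D_pk]
  · split_ifs <;> norm_num
  · intro j _; split_ifs <;> norm_num

theorem row_low : ∀ k < 12, ∀ i < 12, bit (row k) i = if i = k then 1 else 0 := by decide +kernel

section
variable (K : AddSubgroup (GolayPt → ℤ)) (hg : ∀ c ∈ genL, D c ∈ K)
include hg

theorem four_mem (z : GolayPt → ℤ) (h4 : ∀ p, z p % 4 = 0) (h8 : (∑ p, z p) % 8 = 0) : z ∈ K := by
  have hA : ∀ i < 24, D (genA i) ∈ K := fun i hi => hg _ (by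
    unfold genL
    simp only [List.mem_cons, List.mem_append, List.mem_map, List.mem_range]
    exact Or.inr (Or.inr ⟨i, hi, rfl⟩))
  have hsum : ∑ p, z p = 4 * ∑ p, z p / 4 := by
    rw [Finset.mul_sum]
    exact Finset.sum_congr rfl (fun p _ => by have := h4 p; omega)
  have key : z = (∑ p, (z p / 4) • D (genA (idx p))) - ((∑ p, z p) / 8) • D (genA 0) := by
    funext q
    rw [Pi.sub_apply, Finset.sum_apply, Pi.smul_apply, D_genA 0 (by norm_num)]
    have e : ∀ p, ((z p / 4) • D (genA (idx p))) q =
        (if p = q then z p / 4 * 4 else 0) + (z p / 4) * (if idx q = 0 then 4 else 0) := by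
      intro p
      rw [Pi.smul_apply, D_genA _ (idx_lt p), smul_eq_mul, mul_add]
      congr 1
      by_cases hpq : p = q
      · subst hpq; simp
      · have : idx q ≠ idx p := fun h => hpq (idx_injective h).symm
        simp [hpq, this]
    simp only [e]
    rw [Finset.sum_add_distrib, Finset.sum_ite_eq' Finset.univ q, ← Finset.sum_mul]
    simp only [Finset.mem_univ, if_true, smul_eq_mul]
    have := h4 q
    split_ifs <;> omega
  rw [key]
  apply K.sub_mem
  · exact K.sum_mem (fun p _ => K.zsmul_mem (hA _ (idx_lt p)) _)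
  · exact K.zsmul_mem (hA 0 (by norm_num)) _

theorem even_mem (x : GolayPt → ℤ) (hx : x ∈ leechLattice) (hev : ∀ p, x p % 2 = 0) : x ∈ K := by
  have hB : ∀ k < 12, genB k ∈ genL := fun k hk => by
    unfold genL
    simp only [List.mem_cons, List.mem_append, List.mem_map, List.mem_range]
    exact Or.inr (Or.inl ⟨k, hk, rfl⟩)
  set s := enc (cls x 2) with hs
  set y : GolayPt → ℤ := ∑ k ∈ Finset.range 12, (bit s k : ℤ) • D (genB k) with hy
  have hyK : y ∈ K := K.sum_mem (fun k hk => K.zsmul_mem (hg _ (hB k (Finset.mem_range.1 hk))) _)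
  have hyL : y ∈ leechLattice := leechLattice.sum_mem
    (fun k hk => leechLattice.zsmul_mem (genL_mem (hB k (Finset.mem_range.1 hk))) _)
  have hyp : ∀ p, y p = 2 * ∑ k ∈ Finset.range 12, (bit s k : ℤ) * (bit (row k) (idx p) : ℤ) := by
    intro p
    rw [hy, Finset.sum_apply, Finset.mul_sum]
    apply Finset.sum_congr rfl
    intro k _
    rw [Pi.smul_apply, D_genB, smul_eq_mul]; ring
  have hylow : ∀ i < 12, y (pt i) = 2 * (bit s i : ℤ) := by
    intro i hi
    rw [hyp, idx_pt (by omega)]
    congr 1
    rw [Finset.sum_eq_single i]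
    · rw [row_low i hi i hi]; simp
    · intro k hk hki
      rw [row_low k (Finset.mem_range.1 hk) i hi, if_neg (Ne.symm hki)]; simp
    · intro h; exact absurd (Finset.mem_range.2 hi) h
  have hzL : x - y ∈ leechLattice := leechLattice.sub_mem hx hyL
  have hzev : ∀ p, (x - y) p % 2 = 0 := by
    intro p
    rw [Pi.sub_apply, hyp]
    have := hev p
    omega
  have hz := hzL
  rw [mem_leechLattice_iff, mem_leechSet_iff] at hz
  obtain ⟨m, h1, h2, h3⟩ := hz
  have hc : isCode (enc (cls (x - y) 2)) = true := (mem_supports_iff _).1 (h3 2)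
  have hlow : enc (cls (x - y) 2) % 4096 = 0 := by
    apply Nat.eq_of_testBit_eq
    intro i
    have e4096 : (4096 : ℕ) = 2 ^ 12 := by norm_num
    rw [e4096, Nat.testBit_mod_two_pow, Nat.zero_testBit]
    by_cases hi : i < 12
    · have h24 : i < 24 := by omega
      have t1 := testBit_enc (cls (x - y) 2) (pt i)
      rw [idx_pt h24] at t1
      rw [t1]
      have t2 := testBit_enc (cls x 2) (pt i)
      rw [idx_pt h24, ← hs] at t2
      have t3 : (bit s i : ℤ) = if pt i ∈ cls x 2 then 1 else 0 := by
        rw [bit_eq, t2]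
        by_cases hm : pt i ∈ cls x 2 <;> simp [hm]
      have : pt i ∉ cls (x - y) 2 := by
        rw [mem_cls, Pi.sub_apply, hylow i hi, t3]
        have := hev (pt i)
        split_ifs with hm
        · rw [mem_cls] at hm; omega
        · rw [mem_cls] at hm; omega
      simp [this]
    · simp [hi]
  have hempty : enc (cls (x - y) 2) = 0 := by
    rw [← isCode_iff.1 hc, ← encode_mod, hlow]; decide +kernel
  have h4 : ∀ p, (x - y) p % 4 = 0 := by
    intro p
    have hp : p ∉ cls (x - y) 2 := by
      have := dec_enc (cls (x - y) 2)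
      rw [hempty, dec_zero] at this
      rw [← this]; simp
    rw [mem_cls] at hp
    have := hzev p
    omega
  have h8 : (∑ p, (x - y) p) % 8 = 0 := by
    have := h1 (pt 0)
    have := hzev (pt 0)
    omega
  have := K.add_mem (four_mem K hg _ h4 h8) hyK
  simpa using this

theorem gen_le : leechLattice ≤ K := by
  intro x hx
  have hx' := hx
  rw [mem_leechLattice_iff, mem_leechSet_iff] at hx'
  obtain ⟨m, h1, -, -⟩ := hx'
  rcases Int.emod_two_eq_zero_or_one m with hm | hm
  · exact even_mem K hg x hx (fun p => by rw [h1 p, hm])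
  · have hU : genU ∈ genL := by unfold genL; simp
    have h2 : x - D genU ∈ K := by
      apply even_mem K hg _ (leechLattice.sub_mem hx (genL_mem hU))
      intro p
      rw [Pi.sub_apply, D_genU]
      have := h1 p
      split_ifs <;> omega
    have := K.add_mem h2 (hg _ hU)
    simpa using this

end

end Cfsg.Agent.Lib.Helper33LGen
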