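import Cfsg.Agent.Lib.Helper33SimpleA

/-! # A simplicity criterion: primitive action with simple point stabiliser (helper33) -/

set_option autoImplicit false

namespace Cfsg.Agent.Lib.Helper33SimpleB

open MulAction Cfsg.Agent.Lib.Helper33SimpleA

variable {G α ι : Type*} [Group G] [MulAction G α] [Fintype ι] [DecidableEq ι]

/-- the orbits of the point stabiliser on the orbit of the point -/
structure OrbData (G : Type*) {α ι : Type*} [Group G] [MulAction G α] (ω : α) (O : ι → Set α)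
    (nn : ι → ℕ) (i0 : ι) : Prop where
  cover : ∀ y ∈ orbit G ω, ∃ i, y ∈ O i
  sub : ∀ i, O i ⊆ orbit G ω
  disj : ∀ i j, i ≠ j → Disjoint (O i) (O j)
  trans : ∀ i, ∀ x ∈ O i, ∀ y ∈ O i, ∃ h ∈ stabilizer G ω, h • x = y
  base : O i0 = {ω}
  card : ∀ i, (O i).ncard = nn i
  pos : ∀ i, nn i ≠ 0

variable {ω : α} {O : ι → Set α} {nn : ι → ℕ} {i0 : ι}

theorem OrbData.fin (d : OrbData G ω O nn i0) (i : ι) : (O i).Finite :=
  Set.finite_of_ncard_ne_zero (by rw [d.card]; exact d.pos i)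

theorem OrbData.ncard_biUnion (d : OrbData G ω O nn i0) (T : Finset ι) :
    (⋃ i ∈ T, O i).Finite ∧ (⋃ i ∈ T, O i).ncard = ∑ i ∈ T, nn i := by
  induction T using Finset.induction_on with
  | empty => simp
  | insert a T ha ih =>
    rw [Finset.set_biUnion_insert, Finset.sum_insert ha]
    refine ⟨(d.fin a).union ih.1, ?_⟩
    rw [Set.ncard_union_eq _ (d.fin a) ih.1, d.card, ih.2]
    rw [Set.disjoint_iUnion₂_right]
    intro i hi
    exact d.disj a i (fun h => ha (h ▸ hi))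

/-- an invariant subset of the orbit is a union of suborbits -/
theorem OrbData.union (d : OrbData G ω O nn i0) (B : Set α) (hB : B ⊆ orbit G ω)
    (hinv : ∀ h ∈ stabilizer G ω, ∀ y ∈ B, h • y ∈ B) (hω : ω ∈ B) :
    ∃ T : Finset ι, i0 ∈ T ∧ B = ⋃ i ∈ T, O i := by
  classical
  refine ⟨Finset.univ.filter (fun i => (O i ∩ B).Nonempty), ?_, ?_⟩
  · simp only [Finset.mem_filter, Finset.mem_univ, true_and]
    exact ⟨ω, by rw [d.base]; rfl, hω⟩
  · ext y
    simp only [Finset.mem_filter, Finset.mem_univ, true_and, Set.mem_iUnion, exists_prop]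
    constructor
    · intro hy
      obtain ⟨i, hi⟩ := d.cover y (hB hy)
      exact ⟨i, ⟨y, hi, hy⟩, hi⟩
    · rintro ⟨i, ⟨z, hz, hzB⟩, hy⟩
      obtain ⟨h, hh, rfl⟩ := d.trans i z hz y hy
      exact hinv h hh z hzB

theorem OrbData.total (d : OrbData G ω O nn i0) : orbit G ω = ⋃ i ∈ (Finset.univ : Finset ι), O i := by
  ext y
  simp only [Finset.mem_univ, Set.iUnion_true, Set.mem_iUnion]
  exact ⟨d.cover y, fun ⟨i, hi⟩ => d.sub i hi⟩

theorem OrbData.index (d : OrbData G ω O nn i0) : (stabilizer G ω).index = ∑ i, nn i := by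
  rw [index_stabilizer, d.total, (d.ncard_biUnion _).2]

theorem OrbData.single (d : OrbData G ω O nn i0) : (⋃ i ∈ ({i0} : Finset ι), O i) = {ω} := by
  simp [d.base]

/-- the point stabiliser is a maximal subgroup -/
theorem OrbData.maximal (d : OrbData G ω O nn i0)
    (prim : ∀ T : Finset ι, i0 ∈ T → (∑ i ∈ T, nn i) ∣ (∑ i, nn i) → T = {i0} ∨ T = Finset.univ)
    (M : Subgroup G) (hM : stabilizer G ω ≤ M) : M = stabilizer G ω ∨ M = ⊤ := by
  have hsub : orbit ↥M ω ⊆ orbit G ω := by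
    rintro _ ⟨m, rfl⟩
    exact ⟨m.1, rfl⟩
  obtain ⟨T, hT0, hT⟩ := d.union (orbit ↥M ω) hsub (by
    rintro h hh _ ⟨m, rfl⟩
    exact ⟨⟨h, hM hh⟩ * m, mul_smul (⟨h, hM hh⟩ : ↥M) m ω⟩) (mem_orbit_self ω)
  have hst : stabilizer ↥M ω = (stabilizer G ω).subgroupOf M := by
    ext m
    rw [mem_stabilizer_iff, Subgroup.mem_subgroupOf, mem_stabilizer_iff]
    rfl
  have hdvd : (∑ i ∈ T, nn i) ∣ (∑ i, nn i) := by
    rw [← (d.ncard_biUnion T).2, ← hT, ← index_stabilizer, hst, ← d.index,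
      ← Subgroup.relIndex_mul_index hM]
    exact Dvd.intro _ rfl
  rcases prim T hT0 hdvd with rfl | rfl
  · left
    apply le_antisymm _ hM
    intro m hm
    have : (⟨m, hm⟩ : ↥M) • ω ∈ orbit ↥M ω := ⟨_, rfl⟩
    rw [hT, d.single] at this
    exact this
  · right
    rw [eq_top_iff]
    intro g _
    have : g • ω ∈ orbit ↥M ω := by rw [hT, ← d.total]; exact ⟨g, rfl⟩
    obtain ⟨m, hm⟩ := this
    have h1 : m.1⁻¹ * g ∈ stabilizer G ω := by
      rw [mem_stabilizer_iff, mul_smul, inv_smul_eq_iff]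
      exact hm.symm
    have := M.mul_mem m.2 (hM h1)
    rwa [mul_inv_cancel_left] at this

/-- there is no normal complement to the point stabiliser -/
theorem OrbData.no_complement [Finite G] (d : OrbData G ω O nn i0)
    (p q : ℕ) (hp : p.Prime) (hq : q.Prime) (hpq : p ≠ q) (hpn : p ∣ ∑ i, nn i) (hqn : q ∣ ∑ i, nn i)
    (noreg : ∀ T : Finset ι, i0 ∈ T → T ≠ Finset.univ →
      ¬ (p ∣ ∑ i ∈ T, nn i ∧ (p - 1) ∣ (∑ i ∈ T, nn i) - 1))
    (N : Subgroup G) (hN : N.Normal) (hdis : Disjoint N (stabilizer G ω))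
    (hsup : N ⊔ stabilizer G ω = ⊤) : False := by
  have := Fact.mk hp
  have := Fact.mk hq
  -- the orbit map on `N`
  have inj : ∀ x ∈ N, ∀ y ∈ N, x • ω = y • ω → x = y := by
    intro x hx y hy h
    have h1 : y⁻¹ * x ∈ stabilizer G ω := by
      rw [mem_stabilizer_iff, mul_smul, inv_smul_eq_iff]; exact h
    have h2 : y⁻¹ * x ∈ N := N.mul_mem (N.inv_mem hy) hx
    have h3 := (Subgroup.disjoint_def.1 hdis) h2 h1
    rw [inv_mul_eq_one] at h3
    exact h3.symm
  have surj : ∀ z ∈ orbit G ω, ∃ x ∈ N, x • ω = z := by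
    rintro _ ⟨g, rfl⟩
    have hg : g ∈ (↑(N ⊔ stabilizer G ω) : Set G) := by rw [hsup]; trivial
    rw [Subgroup.normal_mul] at hg
    obtain ⟨x, hx, h, hh, rfl⟩ := hg
    refine ⟨x, hx, ?_⟩
    show x • ω = (x * h) • ω
    rw [mul_smul, (mem_stabilizer_iff.1 hh)]
  -- cardinality of images
  have cardImg : ∀ P : G → Prop, ((fun x : G => x • ω) '' {x | x ∈ N ∧ P x}).ncard =
      Nat.card {x : ↥N // P x.1} := by
    intro P
    rw [Set.InjOn.ncard_image (fun x hx y hy h => inj x hx.1 y hy.1 h), ← Nat.card_coe_set_eq]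
    exact Nat.card_congr
      { toFun := fun x => ⟨⟨x.1, x.2.1⟩, x.2.2⟩
        invFun := fun x => ⟨x.1.1, x.1.2, x.2⟩
        left_inv := fun _ => rfl
        right_inv := fun _ => rfl }
  have hcardN : Nat.card ↥N = ∑ i, nn i := by
    rw [← d.index, index_stabilizer]
    have h1 := cardImg (fun _ => True)
    have h2 : ((fun x : G => x • ω) '' {x | x ∈ N ∧ True}) = orbit G ω := by
      ext z
      constructor
      · rintro ⟨x, _, rfl⟩; exact ⟨x, rfl⟩
      · intro hz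
        obtain ⟨x, hx, rfl⟩ := surj z hz
        exact ⟨x, ⟨hx, trivial⟩, rfl⟩
    rw [h2] at h1
    rw [h1]
    exact Nat.card_congr (Equiv.subtypeUnivEquiv (fun _ => trivial)).symm
  set B := (fun x : G => x • ω) '' {x | x ∈ N ∧ x ^ p = 1} with hBdef
  have hBcard : B.ncard = Nat.card {x : ↥N // x ^ p = 1} := by
    rw [hBdef, cardImg (fun x => x ^ p = 1)]
    apply Nat.card_congr
    apply Equiv.subtypeEquivRight
    intro x
    rw [← Subgroup.coe_pow, OneMemClass.coe_eq_one]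
  obtain ⟨T, hT0, hT⟩ := d.union B (by rintro _ ⟨x, _, rfl⟩; exact ⟨x, rfl⟩) (by
    rintro h hh _ ⟨x, ⟨hx, hxp⟩, rfl⟩
    refine ⟨h * x * h⁻¹, ⟨hN.conj_mem x hx h, by rw [conj_pow, hxp]; group⟩, ?_⟩
    show (h * x * h⁻¹) • ω = h • x • ω
    rw [mul_smul, mul_smul, (mem_stabilizer_iff.1 ((stabilizer G ω).inv_mem hh))]) ⟨1, ⟨N.one_mem, one_pow p⟩, one_smul _ _⟩
  have hsum : ∑ i ∈ T, nn i = Nat.card {x : ↥N // x ^ p = 1} := by
    rw [← (d.ncard_biUnion T).2, ← hT, hBcard]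
  apply noreg T hT0
  · rintro rfl
    -- every element of `N` would have order dividing `p`
    obtain ⟨x, hx⟩ := exists_prime_orderOf_dvd_card' (G := ↥N) q (by rw [hcardN]; exact hqn)
    have hxB : x.1 • ω ∈ B := by rw [hT, ← d.total]; exact ⟨x.1, rfl⟩
    obtain ⟨y, ⟨hy, hyp⟩, hxy⟩ := hxB
    have hyx := inj y hy x.1 x.2 hxy
    rw [hyx, ← Subgroup.coe_pow, OneMemClass.coe_eq_one] at hyp
    have := orderOf_dvd_of_pow_eq_one hyp
    rw [hx] at this
    exact hpq ((Nat.prime_dvd_prime_iff_eq hq hp).1 this).symm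
  · rw [hsum]
    refine ⟨dvd_card_pow_eq_one ↥N p (by rw [hcardN]; exact hpn), ?_⟩
    rw [card_pow_eq_one, Nat.add_sub_cancel]
    exact pred_dvd_card_orderOf ↥N p

/-- the simplicity criterion -/
theorem simple_of_orbits [Finite G] (d : OrbData G ω O nn i0)
    (hH : IsSimpleGroup ↥(stabilizer G ω)) (i1 : ι) (h1 : 2 ≤ nn i1)
    (p q : ℕ) (hp : p.Prime) (hq : q.Prime) (hpq : p ≠ q) (hpn : p ∣ ∑ i, nn i) (hqn : q ∣ ∑ i, nn i)
    (prim : ∀ T : Finset ι, i0 ∈ T → (∑ i ∈ T, nn i) ∣ (∑ i, nn i) → T = {i0} ∨ T = Finset.univ)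
    (noreg : ∀ T : Finset ι, i0 ∈ T → T ≠ Finset.univ →
      ¬ (p ∣ ∑ i ∈ T, nn i ∧ (p - 1) ∣ (∑ i ∈ T, nn i) - 1)) : IsSimpleGroup G := by
  have : Nontrivial G := by
    obtain ⟨a, b, hab⟩ := hH.toNontrivial.exists_pair_ne
    exact ⟨a.1, b.1, fun h => hab (Subtype.ext h)⟩
  refine ⟨fun N hN => ?_⟩
  -- the stabiliser is not normal
  have notNormal : ¬ (stabilizer G ω).Normal := by
    intro hn
    obtain ⟨x, hx, y, hy, hxy⟩ : ∃ x ∈ O i1, ∃ y ∈ O i1, x ≠ y := by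
      have : 1 < (O i1).ncard := by rw [d.card]; omega
      obtain ⟨x, hx, y, hy, hxy⟩ := (Set.one_lt_ncard (d.fin i1)).1 this
      exact ⟨x, hx, y, hy, hxy⟩
    obtain ⟨h, hh, hxy'⟩ := d.trans i1 x hx y hy
    obtain ⟨g, rfl⟩ := d.sub i1 hx
    apply hxy
    rw [← hxy']
    have h2 := hn.conj_mem h hh g⁻¹
    rw [mem_stabilizer_iff, inv_inv, mul_smul, mul_smul, inv_smul_eq_iff] at h2
    exact h2.symm
  by_contra hcon
  push Not at hcon
  obtain ⟨hbot, htop⟩ := hcon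
  have hnorm : (N.subgroupOf (stabilizer G ω)).Normal := hN.subgroupOf _
  rcases hnorm.eq_bot_or_eq_top with h | h
  · rw [Subgroup.subgroupOf_eq_bot] at h
    rcases d.maximal prim (N ⊔ stabilizer G ω) le_sup_right with h2 | h2
    · have h3 : N ≤ stabilizer G ω := h2 ▸ le_sup_left
      exact hbot (le_bot_iff.1 (h le_rfl h3))
    · exact d.no_complement p q hp hq hpq hpn hqn noreg N hN h h2
  · rw [Subgroup.subgroupOf_eq_top] at h
    rcases d.maximal prim N h with h2 | h2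
    · exact notNormal (h2 ▸ hN)
    · exact htop h2

end Cfsg.Agent.Lib.Helper33SimpleB
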