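import Cfsg.Agent.Lib.Helper33LFrame2
import Cfsg.Agent.Lib.Helper33SimpleB

/-! # Order and simplicity of pointwise stabilisers of frames (helper33) -/

set_option autoImplicit false

namespace Cfsg.Agent.Lib.Helper33LGood

open Cfsg Cfsg.Agent.Lib.Helper33LVec Cfsg.Agent.Lib.Helper33LCo0
open Cfsg.Agent.Lib.Helper33LPair Cfsg.Agent.Lib.Helper33LFrame Cfsg.Agent.Lib.Helper33SimpleB
open MulAction

/-- the pointwise stabiliser of the frame is simple of order `n` -/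
def Good (F : List LV) (n : ℕ) : Prop := IsSimpleGroup ↥(fixG F) ∧ Nat.card ↥(fixG F) = n

theorem mem_fixG {F : List LV} {g : ↥Co0} : g ∈ fixG F ↔ Fixes g F := Iff.rfl

theorem good_congr {F F' : List LV} {n : ℕ} (h : fixG F = fixG F') (hG : Good F n) : Good F' n := by
  unfold Good at *
  rw [← h]; exact hG

/-- conjugation -/
def conjEquiv (g : ↥Co0) (F : List LV) : ↥(fixG F) ≃* ↥(fixG (mv g F)) where
  toFun k := ⟨g * k.1 * g⁻¹, by
    intro b hb
    obtain ⟨c, hc, rfl⟩ := List.mem_map.1 hb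
    show (g * k.1 * g⁻¹) • g • c = g • c
    rw [mul_smul, mul_smul, inv_smul_smul, k.2 c hc]⟩
  invFun k := ⟨g⁻¹ * k.1 * g, fixes_conj g k.1 F k.2⟩
  left_inv k := by apply Subtype.ext; show g⁻¹ * (g * k.1 * g⁻¹) * g = k.1; group
  right_inv k := by apply Subtype.ext; show g * (g⁻¹ * k.1 * g) * g⁻¹ = k.1; group
  map_mul' a b := by
    apply Subtype.ext
    show g * (a.1 * b.1) * g⁻¹ = (g * a.1 * g⁻¹) * (g * b.1 * g⁻¹)
    group

theorem good_mv (g : ↥Co0) (F : List LV) (n : ℕ) (h : Good (mv g F) n) : Good F n := by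
  have := h.1
  exact ⟨(conjEquiv g F).isSimpleGroup, by rw [Nat.card_congr (conjEquiv g F).toEquiv, h.2]⟩

theorem eq_of_dot {x y : LV} (hx : sqNorm (x : GolayPt → ℤ) = 32) (hy : sqNorm (y : GolayPt → ℤ) = 32)
    (h : dotInt (x : GolayPt → ℤ) (y : GolayPt → ℤ) = 32) : y = x := by
  have h1 := sqNorm_sub (x : GolayPt → ℤ) (y : GolayPt → ℤ)
  rw [hx, hy, h] at h1
  have h2 : sqNorm ((x : GolayPt → ℤ) - (y : GolayPt → ℤ)) = 0 := by rw [h1]; norm_num
  apply Subtype.ext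
  funext p
  have h3 := Helper33LMin.sq_le_sqNorm ((x : GolayPt → ℤ) - (y : GolayPt → ℤ)) p
  rw [h2] at h3
  have h4 : ((x : GolayPt → ℤ) - (y : GolayPt → ℤ)) p = 0 := by
    have := sq_nonneg (((x : GolayPt → ℤ) - (y : GolayPt → ℤ)) p)
    exact pow_eq_zero_iff (two_ne_zero) |>.1 (le_antisymm h3 this)
  rw [Pi.sub_apply] at h4
  omega

theorem fixG_append_le (F : List LV) (x : LV) : fixG (F ++ [x]) ≤ fixG F :=
  fun _ hg b hb => hg b (List.mem_append_left _ hb)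

theorem stab_eq (F : List LV) (x : LV) :
    stabilizer ↥(fixG F) x = (fixG (F ++ [x])).subgroupOf (fixG F) := by
  ext k
  rw [mem_stabilizer_iff, Subgroup.mem_subgroupOf]
  constructor
  · intro h b hb
    rcases List.mem_append.1 hb with hb | hb
    · exact k.2 b hb
    · simp only [List.mem_cons, List.not_mem_nil, or_false] at hb
      rw [hb]; exact h
  · intro h
    exact h x (by simp)

noncomputable def stabEquiv (F : List LV) (x : LV) :
    ↥(stabilizer ↥(fixG F) x) ≃* ↥(fixG (F ++ [x])) :=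
  (MulEquiv.subgroupCongr (stab_eq F x)).trans (Subgroup.subgroupOfEquivOfLe (fixG_append_le F x))

theorem orbData {ι : Type*} (F : List LV) (ks : List ℤ) (hl : F.length = ks.length) (x : LV)
    (hx : x ∈ C F ks) (T0 : Trans F ks) (T1 : ∀ k, Trans (F ++ [x]) (ks ++ [k]))
    (kk : ι → ℤ) (hkk : Function.Injective kk) (nn : ι → ℕ) (i0 : ι) (hi0 : kk i0 = 32)
    (hn : ∀ i, (C (F ++ [x]) (ks ++ [kk i])).ncard = nn i) (hpos : ∀ i, nn i ≠ 0)
    (vals : ∀ y ∈ C F ks, ∃ i, dotInt (x : GolayPt → ℤ) (y : GolayPt → ℤ) = kk i) :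
    OrbData ↥(fixG F) x (fun i => C (F ++ [x]) (ks ++ [kk i])) nn i0 := by
  have horb : orbit ↥(fixG F) x = C F ks := orbit_eq F ks x hx T0 (fixG F) (fun _ => Iff.rfl)
  refine ⟨?_, ?_, ?_, ?_, ?_, hn, hpos⟩
  · intro y hy
    rw [horb] at hy
    obtain ⟨i, hi⟩ := vals y hy
    exact ⟨i, (mem_C_append F ks x y _ hl).2 ⟨hy, hi⟩⟩
  · intro i y hy
    rw [horb]
    exact ((mem_C_append F ks x y _ hl).1 hy).1
  · intro i j hij
    rw [Set.disjoint_left]
    intro y hy hy'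
    apply hij
    apply hkk
    rw [← ((mem_C_append F ks x y _ hl).1 hy).2, ← ((mem_C_append F ks x y _ hl).1 hy').2]
  · intro i a ha b hb
    obtain ⟨g, hg, hgab⟩ := T1 (kk i) a ha b hb
    refine ⟨⟨g, fixG_append_le F x hg⟩, ?_, hgab⟩
    rw [mem_stabilizer_iff]
    exact hg x (by simp)
  · ext y
    rw [Set.mem_singleton_iff, hi0, mem_C_append F ks x y _ hl]
    constructor
    · rintro ⟨h1, h2⟩
      exact eq_of_dot hx.1 h1.1 h2
    · rintro rfl
      exact ⟨hx, by rw [dot_self]; exact hx.1⟩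

theorem good_step {ι : Type*} [Fintype ι] [DecidableEq ι] (F : List LV) (ks : List ℤ)
    (hl : F.length = ks.length) (x : LV)
    (hx : x ∈ C F ks) (T0 : Trans F ks) (T1 : ∀ k, Trans (F ++ [x]) (ks ++ [k]))
    (kk : ι → ℤ) (hkk : Function.Injective kk) (nn : ι → ℕ) (i0 : ι) (hi0 : kk i0 = 32)
    (hn : ∀ i, (C (F ++ [x]) (ks ++ [kk i])).ncard = nn i) (hpos : ∀ i, nn i ≠ 0)
    (vals : ∀ y ∈ C F ks, ∃ i, dotInt (x : GolayPt → ℤ) (y : GolayPt → ℤ) = kk i)
    (m : ℕ) (hm : m ≠ 0) (hG : Good (F ++ [x]) m) (i1 : ι) (h1 : 2 ≤ nn i1)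
    (p q : ℕ) (hp : p.Prime) (hq : q.Prime) (hpq : p ≠ q) (hpn : p ∣ ∑ i, nn i) (hqn : q ∣ ∑ i, nn i)
    (prim : ∀ T : Finset ι, i0 ∈ T → (∑ i ∈ T, nn i) ∣ (∑ i, nn i) → T = {i0} ∨ T = Finset.univ)
    (noreg : ∀ T : Finset ι, i0 ∈ T → T ≠ Finset.univ →
      ¬ (p ∣ ∑ i ∈ T, nn i ∧ (p - 1) ∣ (∑ i ∈ T, nn i) - 1)) :
    Good F ((∑ i, nn i) * m) := by
  have d := orbData F ks hl x hx T0 T1 kk hkk nn i0 hi0 hn hpos vals
  have hcard : Nat.card ↥(fixG F) = (∑ i, nn i) * m := by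
    rw [← (stabilizer ↥(fixG F) x).card_mul_index, d.index,
      Nat.card_congr (stabEquiv F x).toEquiv, hG.2, mul_comm]
  have hsum : ∑ i, nn i ≠ 0 := by
    intro h
    have := Finset.sum_eq_zero_iff.1 h i0 (Finset.mem_univ _)
    exact hpos i0 this
  have hfin : Finite ↥(fixG F) := Nat.finite_of_card_ne_zero (by rw [hcard]; exact mul_ne_zero hsum hm)
  have hs := hG.1
  have hsimple : IsSimpleGroup ↥(stabilizer ↥(fixG F) x) := (stabEquiv F x).isSimpleGroup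
  exact ⟨simple_of_orbits d hsimple i1 h1 p q hp hq hpq hpn hqn prim noreg, hcard⟩

end Cfsg.Agent.Lib.Helper33LGood
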