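import Cfsg.Agent.Lib.Helper33LHS

/-! # Pairs of vectors of norm 48 with inner product -32 (helper33) -/

set_option autoImplicit false

namespace Cfsg.Agent.Lib.Helper33LHS2

open Cfsg Cfsg.Agent.Lib.Helper33LVec Cfsg.Agent.Lib.Helper33LCo0
open Cfsg.Agent.Lib.Helper33LPair Cfsg.Agent.Lib.Helper33LFrame
open Cfsg.Agent.Lib.Helper33LBase Cfsg.Agent.Lib.Helper33LFrame2
open Cfsg.Agent.Lib.Helper33LMcL Cfsg.Agent.Lib.Helper33LHS Cfsg.Agent.Lib.Helper33LCo2

/-- the minimal vector attached to the pair -/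
def mOf (v w : LV) : LV := -(v + w)

theorem coe_mOf (v w : LV) : ((mOf v w : LV) : GolayPt → ℤ) = -((v : GolayPt → ℤ) + (w : GolayPt → ℤ)) := rfl

theorem mOf_comm (v w : LV) : mOf v w = mOf w v := by unfold mOf; rw [add_comm]

theorem mOf_mem (v w : LV) (hv : sqNorm (v : GolayPt → ℤ) = 48) (hw : sqNorm (w : GolayPt → ℤ) = 48)
    (hvw : dotInt (v : GolayPt → ℤ) (w : GolayPt → ℤ) = -32) : mOf v w ∈ C [v] [-16] := by
  constructor
  · rw [coe_mOf, ← dot_self, dot_neg_left, dot_neg_right, neg_neg, dot_self, sqNorm_add, hv, hw, hvw]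
    norm_num
  · simp only [dots, List.map_cons, List.map_nil, List.cons.injEq, and_true]
    rw [coe_mOf, dot_neg_right, dot_add_right, dot_self, hv, hvw]
    norm_num

theorem set100 (v w : LV) :
    {x : LV | sqNorm (x : GolayPt → ℤ) = 32 ∧ dotInt (v : GolayPt → ℤ) (x : GolayPt → ℤ) = 24 ∧
      dotInt (w : GolayPt → ℤ) (x : GolayPt → ℤ) = -24} = C [v, mOf v w] [24, 0] := by
  ext x
  simp only [C, dots, Set.mem_ofPred_eq, List.map_cons, List.map_nil, List.cons.injEq, and_true]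
  rw [coe_mOf, dot_neg_left, dot_add_left]
  constructor
  · rintro ⟨h1, h2, h3⟩; exact ⟨h1, h2, by omega⟩
  · rintro ⟨h1, h2, h3⟩; exact ⟨h1, h2, by omega⟩

theorem w_eq (v w : LV) : w = -(mOf v w) - v := by unfold mOf; abel

theorem smul_w (k : ↥Co0) (v w : LV) : k • w = -(k • mOf v w) - k • v := by
  conv_lhs => rw [w_eq v w]
  rw [smul_sub', smul_neg']

theorem fix_w (k : ↥Co0) (v w : LV) (F : List LV) (h : Fixes k (v :: mOf v w :: F)) :
    k • v = v ∧ k • w = w := by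
  have h1 := h v (by simp)
  have h2 := h (mOf v w) (by simp)
  exact ⟨h1, by rw [smul_w k v w, h1, h2, ← w_eq]⟩

theorem mvVW (v w : LV) (hv : sqNorm (v : GolayPt → ℤ) = 48) (hw : sqNorm (w : GolayPt → ℤ) = 48)
    (hvw : dotInt (v : GolayPt → ℤ) (w : GolayPt → ℤ) = -32) :
    ∃ g : ↥Co0, mv g [v, mOf v w] = [DL u0c, DL xhc] := mvUH v (mOf v w) hv (mOf_mem v w hv hw hvw)

/-- transported list of possible inner products among the 100 vectors -/
theorem vals100 (g : ↥Co0) (a b x : LV) (hg : mv g [a, b, x] = [DL u0c, DL xhc, DL v0c]) (y : LV)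
    (hy : y ∈ C [a, b] [24, 0]) : y = x ∨ dotInt (x : GolayPt → ℤ) (y : GolayPt → ℤ) = 8 ∨
      dotInt (x : GolayPt → ℤ) (y : GolayPt → ℤ) = 16 := by
  simp only [mv, List.map_cons, List.map_nil, List.cons.injEq, and_true] at hg
  obtain ⟨h1, h2, h3⟩ := hg
  have hy' : g • y ∈ C [DL u0c, DL xhc] [24, 0] := by
    have := (mem_C_mv g [a, b] [24, 0] y).2 hy
    simpa [mv, h1, h2] using this
  rcases valsV_spec _ hy' with h | h | h
  · left
    rw [← h3] at h
    exact MulAction.injective g h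
  · right; left; rwa [← h3, dot_smul'] at h
  · right; right; rwa [← h3, dot_smul'] at h

end Cfsg.Agent.Lib.Helper33LHS2
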