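import Cfsg.Agent.Lib.Helper33LI2D

set_option autoImplicit false
set_option exponentiation.threshold 2000
set_option maxRecDepth 1000000

open Cfsg Cfsg.Agent.Lib.Helper33Golay Cfsg.Agent.Lib.Helper33LVec Cfsg.Agent.Lib.Helper33LMat
open Cfsg.Agent.Lib.Helper33LTest Cfsg.Agent.Lib.Helper33LCo0 Cfsg.Agent.Lib.Helper33LFrame
open Cfsg.Agent.Lib.Helper33LGood Cfsg.Agent.Lib.Helper33LReach2 Cfsg.Agent.Lib.Helper33LWord
open Cfsg.Agent.Lib.Helper33LPat Cfsg.Agent.Lib.Helper33LFrame2 Cfsg.Agent.Lib.Helper33LBase
open Cfsg.Agent.Lib.Helper33LMcL Cfsg.Agent.Lib.Helper33LHS Cfsg.Agent.Lib.Helper33LReach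
open Cfsg.Agent.Lib.Helper33LCo2Thy Cfsg.Agent.Lib.Helper33LCent Cfsg.Agent.Lib.Helper33LCent2
open Cfsg.Agent.Lib.Helper33LCent3 Cfsg.Agent.Lib.Helper33LMin
open MulAction

open Cfsg.Agent.Lib.Helper33LCo2 Cfsg.Agent.Lib.Helper33LI2D

namespace Cfsg.Agent.Lib.Helper33LI2PK1

theorem chkB_0 : ((octP.drop (0 * 6)).take 6).all (fB' cndR chkR) = true := by
  decide +kernel
theorem chkB_8 : ((octP.drop (8 * 6)).take 6).all (fB' cndR chkR) = true := by
  decide +kernel
theorem chkB_16 : ((octP.drop (16 * 6)).take 6).all (fB' cndR chkR) = true := by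
  decide +kernel
theorem chkB_24 : ((octP.drop (24 * 6)).take 6).all (fB' cndR chkR) = true := by
  decide +kernel
theorem chkB_32 : ((octP.drop (32 * 6)).take 6).all (fB' cndR chkR) = true := by
  decide +kernel
theorem chkB_40 : ((octP.drop (40 * 6)).take 6).all (fB' cndR chkR) = true := by
  decide +kernel
theorem chkB_48 : ((octP.drop (48 * 6)).take 6).all (fB' cndR chkR) = true := by
  decide +kernel
theorem chkB_56 : ((octP.drop (56 * 6)).take 6).all (fB' cndR chkR) = true := by
  decide +kernel
theorem chkB_64 : ((octP.drop (64 * 6)).take 6).all (fB' cndR chkR) = true := by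
  decide +kernel
theorem chkB_72 : ((octP.drop (72 * 6)).take 6).all (fB' cndR chkR) = true := by
  decide +kernel
theorem chkB_80 : ((octP.drop (80 * 6)).take 6).all (fB' cndR chkR) = true := by
  decide +kernel
theorem chkB_88 : ((octP.drop (88 * 6)).take 6).all (fB' cndR chkR) = true := by
  decide +kernel
theorem chkB_96 : ((octP.drop (96 * 6)).take 6).all (fB' cndR chkR) = true := by
  decide +kernel
theorem chkB_104 : ((octP.drop (104 * 6)).take 6).all (fB' cndR chkR) = true := by
  decide +kernel
theorem chkB_112 : ((octP.drop (112 * 6)).take 6).all (fB' cndR chkR) = true := by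
  decide +kernel
theorem chkB_120 : ((octP.drop (120 * 6)).take 6).all (fB' cndR chkR) = true := by
  decide +kernel
theorem chkC_1 : (((List.range 4096).drop (1 * 32)).take 32).all (fC cndR chkR) = true := by
  decide +kernel
theorem chkC_9 : (((List.range 4096).drop (9 * 32)).take 32).all (fC cndR chkR) = true := by
  decide +kernel
theorem chkC_17 : (((List.range 4096).drop (17 * 32)).take 32).all (fC cndR chkR) = true := by
  decide +kernel
theorem chkC_25 : (((List.range 4096).drop (25 * 32)).take 32).all (fC cndR chkR) = true := by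
  decide +kernel
theorem chkC_33 : (((List.range 4096).drop (33 * 32)).take 32).all (fC cndR chkR) = true := by
  decide +kernel
theorem chkC_41 : (((List.range 4096).drop (41 * 32)).take 32).all (fC cndR chkR) = true := by
  decide +kernel
theorem chkC_49 : (((List.range 4096).drop (49 * 32)).take 32).all (fC cndR chkR) = true := by
  decide +kernel
theorem chkC_57 : (((List.range 4096).drop (57 * 32)).take 32).all (fC cndR chkR) = true := by
  decide +kernel
theorem chkC_65 : (((List.range 4096).drop (65 * 32)).take 32).all (fC cndR chkR) = true := by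
  decide +kernel
theorem chkC_73 : (((List.range 4096).drop (73 * 32)).take 32).all (fC cndR chkR) = true := by
  decide +kernel
theorem chkC_81 : (((List.range 4096).drop (81 * 32)).take 32).all (fC cndR chkR) = true := by
  decide +kernel
theorem chkC_89 : (((List.range 4096).drop (89 * 32)).take 32).all (fC cndR chkR) = true := by
  decide +kernel
theorem chkC_97 : (((List.range 4096).drop (97 * 32)).take 32).all (fC cndR chkR) = true := by
  decide +kernel
theorem chkC_105 : (((List.range 4096).drop (105 * 32)).take 32).all (fC cndR chkR) = true := by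
  decide +kernel
theorem chkC_113 : (((List.range 4096).drop (113 * 32)).take 32).all (fC cndR chkR) = true := by
  decide +kernel
theorem chkC_121 : (((List.range 4096).drop (121 * 32)).take 32).all (fC cndR chkR) = true := by
  decide +kernel

end Cfsg.Agent.Lib.Helper33LI2PK1
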