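import Cfsg.Agent.Lib.Helper33LI2D

set_option autoImplicit false
set_option exponentiation.threshold 2000
set_option maxRecDepth 1000000

open Cfsg Cfsg.Agent.Lib.Helper33Golay Cfsg.Agent.Lib.Helper33LVec Cfsg.Agent.Lib.Helper33LMat
open Cfsg.Agent.Lib.Helper33LTest Cfsg.Agent.Lib.Helper33LCo0 Cfsg.Agent.Lib.Helper33LFrame
open Cfsg.Agent.Lib.Helper33LGood Cfsg.Agent.Lib.Helper33LReach2 Cfsg.Agent.Lib.Helper33LWord
open Cfsg.Agent.Lib.Helper33LPat Cfsg.Agent.Lib.Helper33LFrame2 Cfsg.Agent.Lib.Helper33LBase
open Cfsg.Agent.Lib.Helper33LMcL Cfsg.Agent.Lib.Helper33LHS Cfsg.Agent.Lib.Helper33LReach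
open Cfsg.Agent.Lib.Helper33LCo2Thy Cfsg.Agent.Lib.Helper33LCent Cfsg.Agent.Lib.Helper33LCent2
open Cfsg.Agent.Lib.Helper33LCent3 Cfsg.Agent.Lib.Helper33LMin
open MulAction

open Cfsg.Agent.Lib.Helper33LCo2 Cfsg.Agent.Lib.Helper33LI2D

namespace Cfsg.Agent.Lib.Helper33LI2PK2

theorem chkB_1 : ((octP.drop (1 * 6)).take 6).all (fB' cndR chkR) = true := by
  decide +kernel
theorem chkB_9 : ((octP.drop (9 * 6)).take 6).all (fB' cndR chkR) = true := by
  decide +kernel
theorem chkB_17 : ((octP.drop (17 * 6)).take 6).all (fB' cndR chkR) = true := by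
  decide +kernel
theorem chkB_25 : ((octP.drop (25 * 6)).take 6).all (fB' cndR chkR) = true := by
  decide +kernel
theorem chkB_33 : ((octP.drop (33 * 6)).take 6).all (fB' cndR chkR) = true := by
  decide +kernel
theorem chkB_41 : ((octP.drop (41 * 6)).take 6).all (fB' cndR chkR) = true := by
  decide +kernel
theorem chkB_49 : ((octP.drop (49 * 6)).take 6).all (fB' cndR chkR) = true := by
  decide +kernel
theorem chkB_57 : ((octP.drop (57 * 6)).take 6).all (fB' cndR chkR) = true := by
  decide +kernel
theorem chkB_65 : ((octP.drop (65 * 6)).take 6).all (fB' cndR chkR) = true := by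
  decide +kernel
theorem chkB_73 : ((octP.drop (73 * 6)).take 6).all (fB' cndR chkR) = true := by
  decide +kernel
theorem chkB_81 : ((octP.drop (81 * 6)).take 6).all (fB' cndR chkR) = true := by
  decide +kernel
theorem chkB_89 : ((octP.drop (89 * 6)).take 6).all (fB' cndR chkR) = true := by
  decide +kernel
theorem chkB_97 : ((octP.drop (97 * 6)).take 6).all (fB' cndR chkR) = true := by
  decide +kernel
theorem chkB_105 : ((octP.drop (105 * 6)).take 6).all (fB' cndR chkR) = true := by
  decide +kernel
theorem chkB_113 : ((octP.drop (113 * 6)).take 6).all (fB' cndR chkR) = true := by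
  decide +kernel
theorem chkB_121 : ((octP.drop (121 * 6)).take 6).all (fB' cndR chkR) = true := by
  decide +kernel
theorem chkC_2 : (((List.range 4096).drop (2 * 32)).take 32).all (fC cndR chkR) = true := by
  decide +kernel
theorem chkC_10 : (((List.range 4096).drop (10 * 32)).take 32).all (fC cndR chkR) = true := by
  decide +kernel
theorem chkC_18 : (((List.range 4096).drop (18 * 32)).take 32).all (fC cndR chkR) = true := by
  decide +kernel
theorem chkC_26 : (((List.range 4096).drop (26 * 32)).take 32).all (fC cndR chkR) = true := by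
  decide +kernel
theorem chkC_34 : (((List.range 4096).drop (34 * 32)).take 32).all (fC cndR chkR) = true := by
  decide +kernel
theorem chkC_42 : (((List.range 4096).drop (42 * 32)).take 32).all (fC cndR chkR) = true := by
  decide +kernel
theorem chkC_50 : (((List.range 4096).drop (50 * 32)).take 32).all (fC cndR chkR) = true := by
  decide +kernel
theorem chkC_58 : (((List.range 4096).drop (58 * 32)).take 32).all (fC cndR chkR) = true := by
  decide +kernel
theorem chkC_66 : (((List.range 4096).drop (66 * 32)).take 32).all (fC cndR chkR) = true := by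
  decide +kernel
theorem chkC_74 : (((List.range 4096).drop (74 * 32)).take 32).all (fC cndR chkR) = true := by
  decide +kernel
theorem chkC_82 : (((List.range 4096).drop (82 * 32)).take 32).all (fC cndR chkR) = true := by
  decide +kernel
theorem chkC_90 : (((List.range 4096).drop (90 * 32)).take 32).all (fC cndR chkR) = true := by
  decide +kernel
theorem chkC_98 : (((List.range 4096).drop (98 * 32)).take 32).all (fC cndR chkR) = true := by
  decide +kernel
theorem chkC_106 : (((List.range 4096).drop (106 * 32)).take 32).all (fC cndR chkR) = true := by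
  decide +kernel
theorem chkC_114 : (((List.range 4096).drop (114 * 32)).take 32).all (fC cndR chkR) = true := by
  decide +kernel
theorem chkC_122 : (((List.range 4096).drop (122 * 32)).take 32).all (fC cndR chkR) = true := by
  decide +kernel

end Cfsg.Agent.Lib.Helper33LI2PK2
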