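import Cfsg.Agent.Lib.Helper33LI2D

set_option autoImplicit false
set_option exponentiation.threshold 2000
set_option maxRecDepth 1000000

open Cfsg Cfsg.Agent.Lib.Helper33Golay Cfsg.Agent.Lib.Helper33LVec Cfsg.Agent.Lib.Helper33LMat
open Cfsg.Agent.Lib.Helper33LTest Cfsg.Agent.Lib.Helper33LCo0 Cfsg.Agent.Lib.Helper33LFrame
open Cfsg.Agent.Lib.Helper33LGood Cfsg.Agent.Lib.Helper33LReach2 Cfsg.Agent.Lib.Helper33LWord
open Cfsg.Agent.Lib.Helper33LPat Cfsg.Agent.Lib.Helper33LFrame2 Cfsg.Agent.Lib.Helper33LBase
open Cfsg.Agent.Lib.Helper33LMcL Cfsg.Agent.Lib.Helper33LHS Cfsg.Agent.Lib.Helper33LReach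
open Cfsg.Agent.Lib.Helper33LCo2Thy Cfsg.Agent.Lib.Helper33LCent Cfsg.Agent.Lib.Helper33LCent2
open Cfsg.Agent.Lib.Helper33LCent3 Cfsg.Agent.Lib.Helper33LMin
open MulAction

open Cfsg.Agent.Lib.Helper33LCo2 Cfsg.Agent.Lib.Helper33LI2D

namespace Cfsg.Agent.Lib.Helper33LI2PK3

theorem chkB_2 : ((octP.drop (2 * 6)).take 6).all (fB' cndR chkR) = true := by
  decide +kernel
theorem chkB_10 : ((octP.drop (10 * 6)).take 6).all (fB' cndR chkR) = true := by
  decide +kernel
theorem chkB_18 : ((octP.drop (18 * 6)).take 6).all (fB' cndR chkR) = true := by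
  decide +kernel
theorem chkB_26 : ((octP.drop (26 * 6)).take 6).all (fB' cndR chkR) = true := by
  decide +kernel
theorem chkB_34 : ((octP.drop (34 * 6)).take 6).all (fB' cndR chkR) = true := by
  decide +kernel
theorem chkB_42 : ((octP.drop (42 * 6)).take 6).all (fB' cndR chkR) = true := by
  decide +kernel
theorem chkB_50 : ((octP.drop (50 * 6)).take 6).all (fB' cndR chkR) = true := by
  decide +kernel
theorem chkB_58 : ((octP.drop (58 * 6)).take 6).all (fB' cndR chkR) = true := by
  decide +kernel
theorem chkB_66 : ((octP.drop (66 * 6)).take 6).all (fB' cndR chkR) = true := by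
  decide +kernel
theorem chkB_74 : ((octP.drop (74 * 6)).take 6).all (fB' cndR chkR) = true := by
  decide +kernel
theorem chkB_82 : ((octP.drop (82 * 6)).take 6).all (fB' cndR chkR) = true := by
  decide +kernel
theorem chkB_90 : ((octP.drop (90 * 6)).take 6).all (fB' cndR chkR) = true := by
  decide +kernel
theorem chkB_98 : ((octP.drop (98 * 6)).take 6).all (fB' cndR chkR) = true := by
  decide +kernel
theorem chkB_106 : ((octP.drop (106 * 6)).take 6).all (fB' cndR chkR) = true := by
  decide +kernel
theorem chkB_114 : ((octP.drop (114 * 6)).take 6).all (fB' cndR chkR) = true := by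
  decide +kernel
theorem chkB_122 : ((octP.drop (122 * 6)).take 6).all (fB' cndR chkR) = true := by
  decide +kernel
theorem chkC_3 : (((List.range 4096).drop (3 * 32)).take 32).all (fC cndR chkR) = true := by
  decide +kernel
theorem chkC_11 : (((List.range 4096).drop (11 * 32)).take 32).all (fC cndR chkR) = true := by
  decide +kernel
theorem chkC_19 : (((List.range 4096).drop (19 * 32)).take 32).all (fC cndR chkR) = true := by
  decide +kernel
theorem chkC_27 : (((List.range 4096).drop (27 * 32)).take 32).all (fC cndR chkR) = true := by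
  decide +kernel
theorem chkC_35 : (((List.range 4096).drop (35 * 32)).take 32).all (fC cndR chkR) = true := by
  decide +kernel
theorem chkC_43 : (((List.range 4096).drop (43 * 32)).take 32).all (fC cndR chkR) = true := by
  decide +kernel
theorem chkC_51 : (((List.range 4096).drop (51 * 32)).take 32).all (fC cndR chkR) = true := by
  decide +kernel
theorem chkC_59 : (((List.range 4096).drop (59 * 32)).take 32).all (fC cndR chkR) = true := by
  decide +kernel
theorem chkC_67 : (((List.range 4096).drop (67 * 32)).take 32).all (fC cndR chkR) = true := by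
  decide +kernel
theorem chkC_75 : (((List.range 4096).drop (75 * 32)).take 32).all (fC cndR chkR) = true := by
  decide +kernel
theorem chkC_83 : (((List.range 4096).drop (83 * 32)).take 32).all (fC cndR chkR) = true := by
  decide +kernel
theorem chkC_91 : (((List.range 4096).drop (91 * 32)).take 32).all (fC cndR chkR) = true := by
  decide +kernel
theorem chkC_99 : (((List.range 4096).drop (99 * 32)).take 32).all (fC cndR chkR) = true := by
  decide +kernel
theorem chkC_107 : (((List.range 4096).drop (107 * 32)).take 32).all (fC cndR chkR) = true := by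
  decide +kernel
theorem chkC_115 : (((List.range 4096).drop (115 * 32)).take 32).all (fC cndR chkR) = true := by
  decide +kernel
theorem chkC_123 : (((List.range 4096).drop (123 * 32)).take 32).all (fC cndR chkR) = true := by
  decide +kernel

end Cfsg.Agent.Lib.Helper33LI2PK3
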