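import Cfsg.Agent.Lib.Helper33LI2D

set_option autoImplicit false
set_option exponentiation.threshold 2000
set_option maxRecDepth 1000000

open Cfsg Cfsg.Agent.Lib.Helper33Golay Cfsg.Agent.Lib.Helper33LVec Cfsg.Agent.Lib.Helper33LMat
open Cfsg.Agent.Lib.Helper33LTest Cfsg.Agent.Lib.Helper33LCo0 Cfsg.Agent.Lib.Helper33LFrame
open Cfsg.Agent.Lib.Helper33LGood Cfsg.Agent.Lib.Helper33LReach2 Cfsg.Agent.Lib.Helper33LWord
open Cfsg.Agent.Lib.Helper33LPat Cfsg.Agent.Lib.Helper33LFrame2 Cfsg.Agent.Lib.Helper33LBase
open Cfsg.Agent.Lib.Helper33LMcL Cfsg.Agent.Lib.Helper33LHS Cfsg.Agent.Lib.Helper33LReach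
open Cfsg.Agent.Lib.Helper33LCo2Thy Cfsg.Agent.Lib.Helper33LCent Cfsg.Agent.Lib.Helper33LCent2
open Cfsg.Agent.Lib.Helper33LCent3 Cfsg.Agent.Lib.Helper33LMin
open MulAction

open Cfsg.Agent.Lib.Helper33LCo2 Cfsg.Agent.Lib.Helper33LI2D

namespace Cfsg.Agent.Lib.Helper33LI2PK4

theorem chkB_3 : ((octP.drop (3 * 6)).take 6).all (fB' cndR chkR) = true := by
  decide +kernel
theorem chkB_11 : ((octP.drop (11 * 6)).take 6).all (fB' cndR chkR) = true := by
  decide +kernel
theorem chkB_19 : ((octP.drop (19 * 6)).take 6).all (fB' cndR chkR) = true := by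
  decide +kernel
theorem chkB_27 : ((octP.drop (27 * 6)).take 6).all (fB' cndR chkR) = true := by
  decide +kernel
theorem chkB_35 : ((octP.drop (35 * 6)).take 6).all (fB' cndR chkR) = true := by
  decide +kernel
theorem chkB_43 : ((octP.drop (43 * 6)).take 6).all (fB' cndR chkR) = true := by
  decide +kernel
theorem chkB_51 : ((octP.drop (51 * 6)).take 6).all (fB' cndR chkR) = true := by
  decide +kernel
theorem chkB_59 : ((octP.drop (59 * 6)).take 6).all (fB' cndR chkR) = true := by
  decide +kernel
theorem chkB_67 : ((octP.drop (67 * 6)).take 6).all (fB' cndR chkR) = true := by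
  decide +kernel
theorem chkB_75 : ((octP.drop (75 * 6)).take 6).all (fB' cndR chkR) = true := by
  decide +kernel
theorem chkB_83 : ((octP.drop (83 * 6)).take 6).all (fB' cndR chkR) = true := by
  decide +kernel
theorem chkB_91 : ((octP.drop (91 * 6)).take 6).all (fB' cndR chkR) = true := by
  decide +kernel
theorem chkB_99 : ((octP.drop (99 * 6)).take 6).all (fB' cndR chkR) = true := by
  decide +kernel
theorem chkB_107 : ((octP.drop (107 * 6)).take 6).all (fB' cndR chkR) = true := by
  decide +kernel
theorem chkB_115 : ((octP.drop (115 * 6)).take 6).all (fB' cndR chkR) = true := by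
  decide +kernel
theorem chkB_123 : ((octP.drop (123 * 6)).take 6).all (fB' cndR chkR) = true := by
  decide +kernel
theorem chkC_4 : (((List.range 4096).drop (4 * 32)).take 32).all (fC cndR chkR) = true := by
  decide +kernel
theorem chkC_12 : (((List.range 4096).drop (12 * 32)).take 32).all (fC cndR chkR) = true := by
  decide +kernel
theorem chkC_20 : (((List.range 4096).drop (20 * 32)).take 32).all (fC cndR chkR) = true := by
  decide +kernel
theorem chkC_28 : (((List.range 4096).drop (28 * 32)).take 32).all (fC cndR chkR) = true := by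
  decide +kernel
theorem chkC_36 : (((List.range 4096).drop (36 * 32)).take 32).all (fC cndR chkR) = true := by
  decide +kernel
theorem chkC_44 : (((List.range 4096).drop (44 * 32)).take 32).all (fC cndR chkR) = true := by
  decide +kernel
theorem chkC_52 : (((List.range 4096).drop (52 * 32)).take 32).all (fC cndR chkR) = true := by
  decide +kernel
theorem chkC_60 : (((List.range 4096).drop (60 * 32)).take 32).all (fC cndR chkR) = true := by
  decide +kernel
theorem chkC_68 : (((List.range 4096).drop (68 * 32)).take 32).all (fC cndR chkR) = true := by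
  decide +kernel
theorem chkC_76 : (((List.range 4096).drop (76 * 32)).take 32).all (fC cndR chkR) = true := by
  decide +kernel
theorem chkC_84 : (((List.range 4096).drop (84 * 32)).take 32).all (fC cndR chkR) = true := by
  decide +kernel
theorem chkC_92 : (((List.range 4096).drop (92 * 32)).take 32).all (fC cndR chkR) = true := by
  decide +kernel
theorem chkC_100 : (((List.range 4096).drop (100 * 32)).take 32).all (fC cndR chkR) = true := by
  decide +kernel
theorem chkC_108 : (((List.range 4096).drop (108 * 32)).take 32).all (fC cndR chkR) = true := by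
  decide +kernel
theorem chkC_116 : (((List.range 4096).drop (116 * 32)).take 32).all (fC cndR chkR) = true := by
  decide +kernel
theorem chkC_124 : (((List.range 4096).drop (124 * 32)).take 32).all (fC cndR chkR) = true := by
  decide +kernel

end Cfsg.Agent.Lib.Helper33LI2PK4
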