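import Cfsg.Agent.Lib.Helper33LI2D

set_option autoImplicit false
set_option exponentiation.threshold 2000
set_option maxRecDepth 1000000

open Cfsg Cfsg.Agent.Lib.Helper33Golay Cfsg.Agent.Lib.Helper33LVec Cfsg.Agent.Lib.Helper33LMat
open Cfsg.Agent.Lib.Helper33LTest Cfsg.Agent.Lib.Helper33LCo0 Cfsg.Agent.Lib.Helper33LFrame
open Cfsg.Agent.Lib.Helper33LGood Cfsg.Agent.Lib.Helper33LReach2 Cfsg.Agent.Lib.Helper33LWord
open Cfsg.Agent.Lib.Helper33LPat Cfsg.Agent.Lib.Helper33LFrame2 Cfsg.Agent.Lib.Helper33LBase
open Cfsg.Agent.Lib.Helper33LMcL Cfsg.Agent.Lib.Helper33LHS Cfsg.Agent.Lib.Helper33LReach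
open Cfsg.Agent.Lib.Helper33LCo2Thy Cfsg.Agent.Lib.Helper33LCent Cfsg.Agent.Lib.Helper33LCent2
open Cfsg.Agent.Lib.Helper33LCent3 Cfsg.Agent.Lib.Helper33LMin
open MulAction

open Cfsg.Agent.Lib.Helper33LCo2 Cfsg.Agent.Lib.Helper33LI2D

namespace Cfsg.Agent.Lib.Helper33LI2PK5

theorem chkB_4 : ((octP.drop (4 * 6)).take 6).all (fB' cndR chkR) = true := by
  decide +kernel
theorem chkB_12 : ((octP.drop (12 * 6)).take 6).all (fB' cndR chkR) = true := by
  decide +kernel
theorem chkB_20 : ((octP.drop (20 * 6)).take 6).all (fB' cndR chkR) = true := by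
  decide +kernel
theorem chkB_28 : ((octP.drop (28 * 6)).take 6).all (fB' cndR chkR) = true := by
  decide +kernel
theorem chkB_36 : ((octP.drop (36 * 6)).take 6).all (fB' cndR chkR) = true := by
  decide +kernel
theorem chkB_44 : ((octP.drop (44 * 6)).take 6).all (fB' cndR chkR) = true := by
  decide +kernel
theorem chkB_52 : ((octP.drop (52 * 6)).take 6).all (fB' cndR chkR) = true := by
  decide +kernel
theorem chkB_60 : ((octP.drop (60 * 6)).take 6).all (fB' cndR chkR) = true := by
  decide +kernel
theorem chkB_68 : ((octP.drop (68 * 6)).take 6).all (fB' cndR chkR) = true := by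
  decide +kernel
theorem chkB_76 : ((octP.drop (76 * 6)).take 6).all (fB' cndR chkR) = true := by
  decide +kernel
theorem chkB_84 : ((octP.drop (84 * 6)).take 6).all (fB' cndR chkR) = true := by
  decide +kernel
theorem chkB_92 : ((octP.drop (92 * 6)).take 6).all (fB' cndR chkR) = true := by
  decide +kernel
theorem chkB_100 : ((octP.drop (100 * 6)).take 6).all (fB' cndR chkR) = true := by
  decide +kernel
theorem chkB_108 : ((octP.drop (108 * 6)).take 6).all (fB' cndR chkR) = true := by
  decide +kernel
theorem chkB_116 : ((octP.drop (116 * 6)).take 6).all (fB' cndR chkR) = true := by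
  decide +kernel
theorem chkB_124 : ((octP.drop (124 * 6)).take 6).all (fB' cndR chkR) = true := by
  decide +kernel
theorem chkC_5 : (((List.range 4096).drop (5 * 32)).take 32).all (fC cndR chkR) = true := by
  decide +kernel
theorem chkC_13 : (((List.range 4096).drop (13 * 32)).take 32).all (fC cndR chkR) = true := by
  decide +kernel
theorem chkC_21 : (((List.range 4096).drop (21 * 32)).take 32).all (fC cndR chkR) = true := by
  decide +kernel
theorem chkC_29 : (((List.range 4096).drop (29 * 32)).take 32).all (fC cndR chkR) = true := by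
  decide +kernel
theorem chkC_37 : (((List.range 4096).drop (37 * 32)).take 32).all (fC cndR chkR) = true := by
  decide +kernel
theorem chkC_45 : (((List.range 4096).drop (45 * 32)).take 32).all (fC cndR chkR) = true := by
  decide +kernel
theorem chkC_53 : (((List.range 4096).drop (53 * 32)).take 32).all (fC cndR chkR) = true := by
  decide +kernel
theorem chkC_61 : (((List.range 4096).drop (61 * 32)).take 32).all (fC cndR chkR) = true := by
  decide +kernel
theorem chkC_69 : (((List.range 4096).drop (69 * 32)).take 32).all (fC cndR chkR) = true := by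
  decide +kernel
theorem chkC_77 : (((List.range 4096).drop (77 * 32)).take 32).all (fC cndR chkR) = true := by
  decide +kernel
theorem chkC_85 : (((List.range 4096).drop (85 * 32)).take 32).all (fC cndR chkR) = true := by
  decide +kernel
theorem chkC_93 : (((List.range 4096).drop (93 * 32)).take 32).all (fC cndR chkR) = true := by
  decide +kernel
theorem chkC_101 : (((List.range 4096).drop (101 * 32)).take 32).all (fC cndR chkR) = true := by
  decide +kernel
theorem chkC_109 : (((List.range 4096).drop (109 * 32)).take 32).all (fC cndR chkR) = true := by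
  decide +kernel
theorem chkC_117 : (((List.range 4096).drop (117 * 32)).take 32).all (fC cndR chkR) = true := by
  decide +kernel
theorem chkC_125 : (((List.range 4096).drop (125 * 32)).take 32).all (fC cndR chkR) = true := by
  decide +kernel

end Cfsg.Agent.Lib.Helper33LI2PK5
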