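import Cfsg.Agent.Lib.Helper33LI2D

set_option autoImplicit false
set_option exponentiation.threshold 2000
set_option maxRecDepth 1000000

open Cfsg Cfsg.Agent.Lib.Helper33Golay Cfsg.Agent.Lib.Helper33LVec Cfsg.Agent.Lib.Helper33LMat
open Cfsg.Agent.Lib.Helper33LTest Cfsg.Agent.Lib.Helper33LCo0 Cfsg.Agent.Lib.Helper33LFrame
open Cfsg.Agent.Lib.Helper33LGood Cfsg.Agent.Lib.Helper33LReach2 Cfsg.Agent.Lib.Helper33LWord
open Cfsg.Agent.Lib.Helper33LPat Cfsg.Agent.Lib.Helper33LFrame2 Cfsg.Agent.Lib.Helper33LBase
open Cfsg.Agent.Lib.Helper33LMcL Cfsg.Agent.Lib.Helper33LHS Cfsg.Agent.Lib.Helper33LReach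
open Cfsg.Agent.Lib.Helper33LCo2Thy Cfsg.Agent.Lib.Helper33LCent Cfsg.Agent.Lib.Helper33LCent2
open Cfsg.Agent.Lib.Helper33LCent3 Cfsg.Agent.Lib.Helper33LMin
open MulAction

open Cfsg.Agent.Lib.Helper33LCo2 Cfsg.Agent.Lib.Helper33LI2D

namespace Cfsg.Agent.Lib.Helper33LI2PK6

theorem chkB_5 : ((octP.drop (5 * 6)).take 6).all (fB' cndR chkR) = true := by
  decide +kernel
theorem chkB_13 : ((octP.drop (13 * 6)).take 6).all (fB' cndR chkR) = true := by
  decide +kernel
theorem chkB_21 : ((octP.drop (21 * 6)).take 6).all (fB' cndR chkR) = true := by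
  decide +kernel
theorem chkB_29 : ((octP.drop (29 * 6)).take 6).all (fB' cndR chkR) = true := by
  decide +kernel
theorem chkB_37 : ((octP.drop (37 * 6)).take 6).all (fB' cndR chkR) = true := by
  decide +kernel
theorem chkB_45 : ((octP.drop (45 * 6)).take 6).all (fB' cndR chkR) = true := by
  decide +kernel
theorem chkB_53 : ((octP.drop (53 * 6)).take 6).all (fB' cndR chkR) = true := by
  decide +kernel
theorem chkB_61 : ((octP.drop (61 * 6)).take 6).all (fB' cndR chkR) = true := by
  decide +kernel
theorem chkB_69 : ((octP.drop (69 * 6)).take 6).all (fB' cndR chkR) = true := by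
  decide +kernel
theorem chkB_77 : ((octP.drop (77 * 6)).take 6).all (fB' cndR chkR) = true := by
  decide +kernel
theorem chkB_85 : ((octP.drop (85 * 6)).take 6).all (fB' cndR chkR) = true := by
  decide +kernel
theorem chkB_93 : ((octP.drop (93 * 6)).take 6).all (fB' cndR chkR) = true := by
  decide +kernel
theorem chkB_101 : ((octP.drop (101 * 6)).take 6).all (fB' cndR chkR) = true := by
  decide +kernel
theorem chkB_109 : ((octP.drop (109 * 6)).take 6).all (fB' cndR chkR) = true := by
  decide +kernel
theorem chkB_117 : ((octP.drop (117 * 6)).take 6).all (fB' cndR chkR) = true := by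
  decide +kernel
theorem chkB_125 : ((octP.drop (125 * 6)).take 6).all (fB' cndR chkR) = true := by
  decide +kernel
theorem chkC_6 : (((List.range 4096).drop (6 * 32)).take 32).all (fC cndR chkR) = true := by
  decide +kernel
theorem chkC_14 : (((List.range 4096).drop (14 * 32)).take 32).all (fC cndR chkR) = true := by
  decide +kernel
theorem chkC_22 : (((List.range 4096).drop (22 * 32)).take 32).all (fC cndR chkR) = true := by
  decide +kernel
theorem chkC_30 : (((List.range 4096).drop (30 * 32)).take 32).all (fC cndR chkR) = true := by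
  decide +kernel
theorem chkC_38 : (((List.range 4096).drop (38 * 32)).take 32).all (fC cndR chkR) = true := by
  decide +kernel
theorem chkC_46 : (((List.range 4096).drop (46 * 32)).take 32).all (fC cndR chkR) = true := by
  decide +kernel
theorem chkC_54 : (((List.range 4096).drop (54 * 32)).take 32).all (fC cndR chkR) = true := by
  decide +kernel
theorem chkC_62 : (((List.range 4096).drop (62 * 32)).take 32).all (fC cndR chkR) = true := by
  decide +kernel
theorem chkC_70 : (((List.range 4096).drop (70 * 32)).take 32).all (fC cndR chkR) = true := by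
  decide +kernel
theorem chkC_78 : (((List.range 4096).drop (78 * 32)).take 32).all (fC cndR chkR) = true := by
  decide +kernel
theorem chkC_86 : (((List.range 4096).drop (86 * 32)).take 32).all (fC cndR chkR) = true := by
  decide +kernel
theorem chkC_94 : (((List.range 4096).drop (94 * 32)).take 32).all (fC cndR chkR) = true := by
  decide +kernel
theorem chkC_102 : (((List.range 4096).drop (102 * 32)).take 32).all (fC cndR chkR) = true := by
  decide +kernel
theorem chkC_110 : (((List.range 4096).drop (110 * 32)).take 32).all (fC cndR chkR) = true := by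
  decide +kernel
theorem chkC_118 : (((List.range 4096).drop (118 * 32)).take 32).all (fC cndR chkR) = true := by
  decide +kernel
theorem chkC_126 : (((List.range 4096).drop (126 * 32)).take 32).all (fC cndR chkR) = true := by
  decide +kernel

end Cfsg.Agent.Lib.Helper33LI2PK6
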