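import Cfsg.Agent.Lib.Helper33LI2D

set_option autoImplicit false
set_option exponentiation.threshold 2000
set_option maxRecDepth 1000000

open Cfsg Cfsg.Agent.Lib.Helper33Golay Cfsg.Agent.Lib.Helper33LVec Cfsg.Agent.Lib.Helper33LMat
open Cfsg.Agent.Lib.Helper33LTest Cfsg.Agent.Lib.Helper33LCo0 Cfsg.Agent.Lib.Helper33LFrame
open Cfsg.Agent.Lib.Helper33LGood Cfsg.Agent.Lib.Helper33LReach2 Cfsg.Agent.Lib.Helper33LWord
open Cfsg.Agent.Lib.Helper33LPat Cfsg.Agent.Lib.Helper33LFrame2 Cfsg.Agent.Lib.Helper33LBase
open Cfsg.Agent.Lib.Helper33LMcL Cfsg.Agent.Lib.Helper33LHS Cfsg.Agent.Lib.Helper33LReach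
open Cfsg.Agent.Lib.Helper33LCo2Thy Cfsg.Agent.Lib.Helper33LCent Cfsg.Agent.Lib.Helper33LCent2
open Cfsg.Agent.Lib.Helper33LCent3 Cfsg.Agent.Lib.Helper33LMin
open MulAction

open Cfsg.Agent.Lib.Helper33LCo2 Cfsg.Agent.Lib.Helper33LI2D

namespace Cfsg.Agent.Lib.Helper33LI2PK7

theorem chkB_6 : ((octP.drop (6 * 6)).take 6).all (fB' cndR chkR) = true := by
  decide +kernel
theorem chkB_14 : ((octP.drop (14 * 6)).take 6).all (fB' cndR chkR) = true := by
  decide +kernel
theorem chkB_22 : ((octP.drop (22 * 6)).take 6).all (fB' cndR chkR) = true := by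
  decide +kernel
theorem chkB_30 : ((octP.drop (30 * 6)).take 6).all (fB' cndR chkR) = true := by
  decide +kernel
theorem chkB_38 : ((octP.drop (38 * 6)).take 6).all (fB' cndR chkR) = true := by
  decide +kernel
theorem chkB_46 : ((octP.drop (46 * 6)).take 6).all (fB' cndR chkR) = true := by
  decide +kernel
theorem chkB_54 : ((octP.drop (54 * 6)).take 6).all (fB' cndR chkR) = true := by
  decide +kernel
theorem chkB_62 : ((octP.drop (62 * 6)).take 6).all (fB' cndR chkR) = true := by
  decide +kernel
theorem chkB_70 : ((octP.drop (70 * 6)).take 6).all (fB' cndR chkR) = true := by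
  decide +kernel
theorem chkB_78 : ((octP.drop (78 * 6)).take 6).all (fB' cndR chkR) = true := by
  decide +kernel
theorem chkB_86 : ((octP.drop (86 * 6)).take 6).all (fB' cndR chkR) = true := by
  decide +kernel
theorem chkB_94 : ((octP.drop (94 * 6)).take 6).all (fB' cndR chkR) = true := by
  decide +kernel
theorem chkB_102 : ((octP.drop (102 * 6)).take 6).all (fB' cndR chkR) = true := by
  decide +kernel
theorem chkB_110 : ((octP.drop (110 * 6)).take 6).all (fB' cndR chkR) = true := by
  decide +kernel
theorem chkB_118 : ((octP.drop (118 * 6)).take 6).all (fB' cndR chkR) = true := by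
  decide +kernel
theorem chkB_126 : ((octP.drop (126 * 6)).take 6).all (fB' cndR chkR) = true := by
  decide +kernel
theorem chkC_7 : (((List.range 4096).drop (7 * 32)).take 32).all (fC cndR chkR) = true := by
  decide +kernel
theorem chkC_15 : (((List.range 4096).drop (15 * 32)).take 32).all (fC cndR chkR) = true := by
  decide +kernel
theorem chkC_23 : (((List.range 4096).drop (23 * 32)).take 32).all (fC cndR chkR) = true := by
  decide +kernel
theorem chkC_31 : (((List.range 4096).drop (31 * 32)).take 32).all (fC cndR chkR) = true := by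
  decide +kernel
theorem chkC_39 : (((List.range 4096).drop (39 * 32)).take 32).all (fC cndR chkR) = true := by
  decide +kernel
theorem chkC_47 : (((List.range 4096).drop (47 * 32)).take 32).all (fC cndR chkR) = true := by
  decide +kernel
theorem chkC_55 : (((List.range 4096).drop (55 * 32)).take 32).all (fC cndR chkR) = true := by
  decide +kernel
theorem chkC_63 : (((List.range 4096).drop (63 * 32)).take 32).all (fC cndR chkR) = true := by
  decide +kernel
theorem chkC_71 : (((List.range 4096).drop (71 * 32)).take 32).all (fC cndR chkR) = true := by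
  decide +kernel
theorem chkC_79 : (((List.range 4096).drop (79 * 32)).take 32).all (fC cndR chkR) = true := by
  decide +kernel
theorem chkC_87 : (((List.range 4096).drop (87 * 32)).take 32).all (fC cndR chkR) = true := by
  decide +kernel
theorem chkC_95 : (((List.range 4096).drop (95 * 32)).take 32).all (fC cndR chkR) = true := by
  decide +kernel
theorem chkC_103 : (((List.range 4096).drop (103 * 32)).take 32).all (fC cndR chkR) = true := by
  decide +kernel
theorem chkC_111 : (((List.range 4096).drop (111 * 32)).take 32).all (fC cndR chkR) = true := by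
  decide +kernel
theorem chkC_119 : (((List.range 4096).drop (119 * 32)).take 32).all (fC cndR chkR) = true := by
  decide +kernel
theorem chkC_127 : (((List.range 4096).drop (127 * 32)).take 32).all (fC cndR chkR) = true := by
  decide +kernel

end Cfsg.Agent.Lib.Helper33LI2PK7
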