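import Cfsg.Agent.Lib.Helper33LI2PK0
import Cfsg.Agent.Lib.Helper33LI2PK1
import Cfsg.Agent.Lib.Helper33LI2PK2
import Cfsg.Agent.Lib.Helper33LI2PK3
import Cfsg.Agent.Lib.Helper33LI2PK4
import Cfsg.Agent.Lib.Helper33LI2PK5
import Cfsg.Agent.Lib.Helper33LI2PK6
import Cfsg.Agent.Lib.Helper33LI2PK7

set_option autoImplicit false
set_option exponentiation.threshold 2000
set_option maxRecDepth 1000000

open Cfsg Cfsg.Agent.Lib.Helper33Golay Cfsg.Agent.Lib.Helper33LVec Cfsg.Agent.Lib.Helper33LMat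
open Cfsg.Agent.Lib.Helper33LTest Cfsg.Agent.Lib.Helper33LCo0 Cfsg.Agent.Lib.Helper33LFrame
open Cfsg.Agent.Lib.Helper33LGood Cfsg.Agent.Lib.Helper33LReach2 Cfsg.Agent.Lib.Helper33LWord
open Cfsg.Agent.Lib.Helper33LPat Cfsg.Agent.Lib.Helper33LFrame2 Cfsg.Agent.Lib.Helper33LBase
open Cfsg.Agent.Lib.Helper33LMcL Cfsg.Agent.Lib.Helper33LHS Cfsg.Agent.Lib.Helper33LReach
open Cfsg.Agent.Lib.Helper33LCo2Thy Cfsg.Agent.Lib.Helper33LCent Cfsg.Agent.Lib.Helper33LCent2
open Cfsg.Agent.Lib.Helper33LCent3 Cfsg.Agent.Lib.Helper33LMin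
open MulAction

open Cfsg.Agent.Lib.Helper33LCo2 Cfsg.Agent.Lib.Helper33LI2D

namespace Cfsg.Agent.Lib.Helper33LI2PAll

theorem chkB : octP.all (fB' Helper33LI2D.cndR Helper33LI2D.chkR) = true := by
  apply all_of_chunks _ 6 127 _ (le_of_eq_of_le octP_length (by norm_num))
  intro j hj
  interval_cases j
  · exact Helper33LI2PK1.chkB_0
  · exact Helper33LI2PK2.chkB_1
  · exact Helper33LI2PK3.chkB_2
  · exact Helper33LI2PK4.chkB_3
  · exact Helper33LI2PK5.chkB_4
  · exact Helper33LI2PK6.chkB_5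
  · exact Helper33LI2PK7.chkB_6
  · exact Helper33LI2PK0.chkB_7
  · exact Helper33LI2PK1.chkB_8
  · exact Helper33LI2PK2.chkB_9
  · exact Helper33LI2PK3.chkB_10
  · exact Helper33LI2PK4.chkB_11
  · exact Helper33LI2PK5.chkB_12
  · exact Helper33LI2PK6.chkB_13
  · exact Helper33LI2PK7.chkB_14
  · exact Helper33LI2PK0.chkB_15
  · exact Helper33LI2PK1.chkB_16
  · exact Helper33LI2PK2.chkB_17
  · exact Helper33LI2PK3.chkB_18
  · exact Helper33LI2PK4.chkB_19
  · exact Helper33LI2PK5.chkB_20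
  · exact Helper33LI2PK6.chkB_21
  · exact Helper33LI2PK7.chkB_22
  · exact Helper33LI2PK0.chkB_23
  · exact Helper33LI2PK1.chkB_24
  · exact Helper33LI2PK2.chkB_25
  · exact Helper33LI2PK3.chkB_26
  · exact Helper33LI2PK4.chkB_27
  · exact Helper33LI2PK5.chkB_28
  · exact Helper33LI2PK6.chkB_29
  · exact Helper33LI2PK7.chkB_30
  · exact Helper33LI2PK0.chkB_31
  · exact Helper33LI2PK1.chkB_32
  · exact Helper33LI2PK2.chkB_33
  · exact Helper33LI2PK3.chkB_34
  · exact Helper33LI2PK4.chkB_35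
  · exact Helper33LI2PK5.chkB_36
  · exact Helper33LI2PK6.chkB_37
  · exact Helper33LI2PK7.chkB_38
  · exact Helper33LI2PK0.chkB_39
  · exact Helper33LI2PK1.chkB_40
  · exact Helper33LI2PK2.chkB_41
  · exact Helper33LI2PK3.chkB_42
  · exact Helper33LI2PK4.chkB_43
  · exact Helper33LI2PK5.chkB_44
  · exact Helper33LI2PK6.chkB_45
  · exact Helper33LI2PK7.chkB_46
  · exact Helper33LI2PK0.chkB_47
  · exact Helper33LI2PK1.chkB_48
  · exact Helper33LI2PK2.chkB_49
  · exact Helper33LI2PK3.chkB_50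
  · exact Helper33LI2PK4.chkB_51
  · exact Helper33LI2PK5.chkB_52
  · exact Helper33LI2PK6.chkB_53
  · exact Helper33LI2PK7.chkB_54
  · exact Helper33LI2PK0.chkB_55
  · exact Helper33LI2PK1.chkB_56
  · exact Helper33LI2PK2.chkB_57
  · exact Helper33LI2PK3.chkB_58
  · exact Helper33LI2PK4.chkB_59
  · exact Helper33LI2PK5.chkB_60
  · exact Helper33LI2PK6.chkB_61
  · exact Helper33LI2PK7.chkB_62
  · exact Helper33LI2PK0.chkB_63
  · exact Helper33LI2PK1.chkB_64
  · exact Helper33LI2PK2.chkB_65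
  · exact Helper33LI2PK3.chkB_66
  · exact Helper33LI2PK4.chkB_67
  · exact Helper33LI2PK5.chkB_68
  · exact Helper33LI2PK6.chkB_69
  · exact Helper33LI2PK7.chkB_70
  · exact Helper33LI2PK0.chkB_71
  · exact Helper33LI2PK1.chkB_72
  · exact Helper33LI2PK2.chkB_73
  · exact Helper33LI2PK3.chkB_74
  · exact Helper33LI2PK4.chkB_75
  · exact Helper33LI2PK5.chkB_76
  · exact Helper33LI2PK6.chkB_77
  · exact Helper33LI2PK7.chkB_78
  · exact Helper33LI2PK0.chkB_79
  · exact Helper33LI2PK1.chkB_80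
  · exact Helper33LI2PK2.chkB_81
  · exact Helper33LI2PK3.chkB_82
  · exact Helper33LI2PK4.chkB_83
  · exact Helper33LI2PK5.chkB_84
  · exact Helper33LI2PK6.chkB_85
  · exact Helper33LI2PK7.chkB_86
  · exact Helper33LI2PK0.chkB_87
  · exact Helper33LI2PK1.chkB_88
  · exact Helper33LI2PK2.chkB_89
  · exact Helper33LI2PK3.chkB_90
  · exact Helper33LI2PK4.chkB_91
  · exact Helper33LI2PK5.chkB_92
  · exact Helper33LI2PK6.chkB_93
  · exact Helper33LI2PK7.chkB_94
  · exact Helper33LI2PK0.chkB_95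
  · exact Helper33LI2PK1.chkB_96
  · exact Helper33LI2PK2.chkB_97
  · exact Helper33LI2PK3.chkB_98
  · exact Helper33LI2PK4.chkB_99
  · exact Helper33LI2PK5.chkB_100
  · exact Helper33LI2PK6.chkB_101
  · exact Helper33LI2PK7.chkB_102
  · exact Helper33LI2PK0.chkB_103
  · exact Helper33LI2PK1.chkB_104
  · exact Helper33LI2PK2.chkB_105
  · exact Helper33LI2PK3.chkB_106
  · exact Helper33LI2PK4.chkB_107
  · exact Helper33LI2PK5.chkB_108
  · exact Helper33LI2PK6.chkB_109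
  · exact Helper33LI2PK7.chkB_110
  · exact Helper33LI2PK0.chkB_111
  · exact Helper33LI2PK1.chkB_112
  · exact Helper33LI2PK2.chkB_113
  · exact Helper33LI2PK3.chkB_114
  · exact Helper33LI2PK4.chkB_115
  · exact Helper33LI2PK5.chkB_116
  · exact Helper33LI2PK6.chkB_117
  · exact Helper33LI2PK7.chkB_118
  · exact Helper33LI2PK0.chkB_119
  · exact Helper33LI2PK1.chkB_120
  · exact Helper33LI2PK2.chkB_121
  · exact Helper33LI2PK3.chkB_122
  · exact Helper33LI2PK4.chkB_123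
  · exact Helper33LI2PK5.chkB_124
  · exact Helper33LI2PK6.chkB_125
  · exact Helper33LI2PK7.chkB_126

theorem chkC : (List.range 4096).all (fC Helper33LI2D.cndR Helper33LI2D.chkR) = true := by
  apply all_of_chunks _ 32 128 _ (le_of_eq_of_le List.length_range (by norm_num))
  intro j hj
  interval_cases j
  · exact Helper33LI2PK0.chkC_0
  · exact Helper33LI2PK1.chkC_1
  · exact Helper33LI2PK2.chkC_2
  · exact Helper33LI2PK3.chkC_3
  · exact Helper33LI2PK4.chkC_4
  · exact Helper33LI2PK5.chkC_5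
  · exact Helper33LI2PK6.chkC_6
  · exact Helper33LI2PK7.chkC_7
  · exact Helper33LI2PK0.chkC_8
  · exact Helper33LI2PK1.chkC_9
  · exact Helper33LI2PK2.chkC_10
  · exact Helper33LI2PK3.chkC_11
  · exact Helper33LI2PK4.chkC_12
  · exact Helper33LI2PK5.chkC_13
  · exact Helper33LI2PK6.chkC_14
  · exact Helper33LI2PK7.chkC_15
  · exact Helper33LI2PK0.chkC_16
  · exact Helper33LI2PK1.chkC_17
  · exact Helper33LI2PK2.chkC_18
  · exact Helper33LI2PK3.chkC_19
  · exact Helper33LI2PK4.chkC_20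
  · exact Helper33LI2PK5.chkC_21
  · exact Helper33LI2PK6.chkC_22
  · exact Helper33LI2PK7.chkC_23
  · exact Helper33LI2PK0.chkC_24
  · exact Helper33LI2PK1.chkC_25
  · exact Helper33LI2PK2.chkC_26
  · exact Helper33LI2PK3.chkC_27
  · exact Helper33LI2PK4.chkC_28
  · exact Helper33LI2PK5.chkC_29
  · exact Helper33LI2PK6.chkC_30
  · exact Helper33LI2PK7.chkC_31
  · exact Helper33LI2PK0.chkC_32
  · exact Helper33LI2PK1.chkC_33
  · exact Helper33LI2PK2.chkC_34
  · exact Helper33LI2PK3.chkC_35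
  · exact Helper33LI2PK4.chkC_36
  · exact Helper33LI2PK5.chkC_37
  · exact Helper33LI2PK6.chkC_38
  · exact Helper33LI2PK7.chkC_39
  · exact Helper33LI2PK0.chkC_40
  · exact Helper33LI2PK1.chkC_41
  · exact Helper33LI2PK2.chkC_42
  · exact Helper33LI2PK3.chkC_43
  · exact Helper33LI2PK4.chkC_44
  · exact Helper33LI2PK5.chkC_45
  · exact Helper33LI2PK6.chkC_46
  · exact Helper33LI2PK7.chkC_47
  · exact Helper33LI2PK0.chkC_48
  · exact Helper33LI2PK1.chkC_49
  · exact Helper33LI2PK2.chkC_50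
  · exact Helper33LI2PK3.chkC_51
  · exact Helper33LI2PK4.chkC_52
  · exact Helper33LI2PK5.chkC_53
  · exact Helper33LI2PK6.chkC_54
  · exact Helper33LI2PK7.chkC_55
  · exact Helper33LI2PK0.chkC_56
  · exact Helper33LI2PK1.chkC_57
  · exact Helper33LI2PK2.chkC_58
  · exact Helper33LI2PK3.chkC_59
  · exact Helper33LI2PK4.chkC_60
  · exact Helper33LI2PK5.chkC_61
  · exact Helper33LI2PK6.chkC_62
  · exact Helper33LI2PK7.chkC_63
  · exact Helper33LI2PK0.chkC_64
  · exact Helper33LI2PK1.chkC_65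
  · exact Helper33LI2PK2.chkC_66
  · exact Helper33LI2PK3.chkC_67
  · exact Helper33LI2PK4.chkC_68
  · exact Helper33LI2PK5.chkC_69
  · exact Helper33LI2PK6.chkC_70
  · exact Helper33LI2PK7.chkC_71
  · exact Helper33LI2PK0.chkC_72
  · exact Helper33LI2PK1.chkC_73
  · exact Helper33LI2PK2.chkC_74
  · exact Helper33LI2PK3.chkC_75
  · exact Helper33LI2PK4.chkC_76
  · exact Helper33LI2PK5.chkC_77
  · exact Helper33LI2PK6.chkC_78
  · exact Helper33LI2PK7.chkC_79
  · exact Helper33LI2PK0.chkC_80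
  · exact Helper33LI2PK1.chkC_81
  · exact Helper33LI2PK2.chkC_82
  · exact Helper33LI2PK3.chkC_83
  · exact Helper33LI2PK4.chkC_84
  · exact Helper33LI2PK5.chkC_85
  · exact Helper33LI2PK6.chkC_86
  · exact Helper33LI2PK7.chkC_87
  · exact Helper33LI2PK0.chkC_88
  · exact Helper33LI2PK1.chkC_89
  · exact Helper33LI2PK2.chkC_90
  · exact Helper33LI2PK3.chkC_91
  · exact Helper33LI2PK4.chkC_92
  · exact Helper33LI2PK5.chkC_93
  · exact Helper33LI2PK6.chkC_94
  · exact Helper33LI2PK7.chkC_95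
  · exact Helper33LI2PK0.chkC_96
  · exact Helper33LI2PK1.chkC_97
  · exact Helper33LI2PK2.chkC_98
  · exact Helper33LI2PK3.chkC_99
  · exact Helper33LI2PK4.chkC_100
  · exact Helper33LI2PK5.chkC_101
  · exact Helper33LI2PK6.chkC_102
  · exact Helper33LI2PK7.chkC_103
  · exact Helper33LI2PK0.chkC_104
  · exact Helper33LI2PK1.chkC_105
  · exact Helper33LI2PK2.chkC_106
  · exact Helper33LI2PK3.chkC_107
  · exact Helper33LI2PK4.chkC_108
  · exact Helper33LI2PK5.chkC_109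
  · exact Helper33LI2PK6.chkC_110
  · exact Helper33LI2PK7.chkC_111
  · exact Helper33LI2PK0.chkC_112
  · exact Helper33LI2PK1.chkC_113
  · exact Helper33LI2PK2.chkC_114
  · exact Helper33LI2PK3.chkC_115
  · exact Helper33LI2PK4.chkC_116
  · exact Helper33LI2PK5.chkC_117
  · exact Helper33LI2PK6.chkC_118
  · exact Helper33LI2PK7.chkC_119
  · exact Helper33LI2PK0.chkC_120
  · exact Helper33LI2PK1.chkC_121
  · exact Helper33LI2PK2.chkC_122
  · exact Helper33LI2PK3.chkC_123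
  · exact Helper33LI2PK4.chkC_124
  · exact Helper33LI2PK5.chkC_125
  · exact Helper33LI2PK6.chkC_126
  · exact Helper33LI2PK7.chkC_127

theorem chk_all : ∀ m ∈ minL, Helper33LI2D.cndR m = true → Helper33LI2D.chkR m = true :=
  forall_minL' Helper33LI2D.cndR Helper33LI2D.chkR Helper33LI2PK0.chkA chkB chkC

end Cfsg.Agent.Lib.Helper33LI2PAll
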