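import Cfsg.Agent.Lib.Helper33LI2D

set_option autoImplicit false
set_option exponentiation.threshold 2000
set_option maxRecDepth 1000000

open Cfsg Cfsg.Agent.Lib.Helper33Golay Cfsg.Agent.Lib.Helper33LVec Cfsg.Agent.Lib.Helper33LMat
open Cfsg.Agent.Lib.Helper33LTest Cfsg.Agent.Lib.Helper33LCo0 Cfsg.Agent.Lib.Helper33LFrame
open Cfsg.Agent.Lib.Helper33LGood Cfsg.Agent.Lib.Helper33LReach2 Cfsg.Agent.Lib.Helper33LWord
open Cfsg.Agent.Lib.Helper33LPat Cfsg.Agent.Lib.Helper33LFrame2 Cfsg.Agent.Lib.Helper33LBase
open Cfsg.Agent.Lib.Helper33LMcL Cfsg.Agent.Lib.Helper33LHS Cfsg.Agent.Lib.Helper33LReach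
open Cfsg.Agent.Lib.Helper33LCo2Thy Cfsg.Agent.Lib.Helper33LCent Cfsg.Agent.Lib.Helper33LCent2
open Cfsg.Agent.Lib.Helper33LCent3 Cfsg.Agent.Lib.Helper33LMin
open MulAction

open Cfsg.Agent.Lib.Helper33LCo2 Cfsg.Agent.Lib.Helper33LI2D

namespace Cfsg.Agent.Lib.Helper33LI2PK0

theorem chkA : allA cndR chkR = true := by decide +kernel
theorem chkB_7 : ((octP.drop (7 * 6)).take 6).all (fB' cndR chkR) = true := by
  decide +kernel
theorem chkB_15 : ((octP.drop (15 * 6)).take 6).all (fB' cndR chkR) = true := by
  decide +kernel
theorem chkB_23 : ((octP.drop (23 * 6)).take 6).all (fB' cndR chkR) = true := by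
  decide +kernel
theorem chkB_31 : ((octP.drop (31 * 6)).take 6).all (fB' cndR chkR) = true := by
  decide +kernel
theorem chkB_39 : ((octP.drop (39 * 6)).take 6).all (fB' cndR chkR) = true := by
  decide +kernel
theorem chkB_47 : ((octP.drop (47 * 6)).take 6).all (fB' cndR chkR) = true := by
  decide +kernel
theorem chkB_55 : ((octP.drop (55 * 6)).take 6).all (fB' cndR chkR) = true := by
  decide +kernel
theorem chkB_63 : ((octP.drop (63 * 6)).take 6).all (fB' cndR chkR) = true := by
  decide +kernel
theorem chkB_71 : ((octP.drop (71 * 6)).take 6).all (fB' cndR chkR) = true := by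
  decide +kernel
theorem chkB_79 : ((octP.drop (79 * 6)).take 6).all (fB' cndR chkR) = true := by
  decide +kernel
theorem chkB_87 : ((octP.drop (87 * 6)).take 6).all (fB' cndR chkR) = true := by
  decide +kernel
theorem chkB_95 : ((octP.drop (95 * 6)).take 6).all (fB' cndR chkR) = true := by
  decide +kernel
theorem chkB_103 : ((octP.drop (103 * 6)).take 6).all (fB' cndR chkR) = true := by
  decide +kernel
theorem chkB_111 : ((octP.drop (111 * 6)).take 6).all (fB' cndR chkR) = true := by
  decide +kernel
theorem chkB_119 : ((octP.drop (119 * 6)).take 6).all (fB' cndR chkR) = true := by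
  decide +kernel
theorem chkC_0 : (((List.range 4096).drop (0 * 32)).take 32).all (fC cndR chkR) = true := by
  decide +kernel
theorem chkC_8 : (((List.range 4096).drop (8 * 32)).take 32).all (fC cndR chkR) = true := by
  decide +kernel
theorem chkC_16 : (((List.range 4096).drop (16 * 32)).take 32).all (fC cndR chkR) = true := by
  decide +kernel
theorem chkC_24 : (((List.range 4096).drop (24 * 32)).take 32).all (fC cndR chkR) = true := by
  decide +kernel
theorem chkC_32 : (((List.range 4096).drop (32 * 32)).take 32).all (fC cndR chkR) = true := by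
  decide +kernel
theorem chkC_40 : (((List.range 4096).drop (40 * 32)).take 32).all (fC cndR chkR) = true := by
  decide +kernel
theorem chkC_48 : (((List.range 4096).drop (48 * 32)).take 32).all (fC cndR chkR) = true := by
  decide +kernel
theorem chkC_56 : (((List.range 4096).drop (56 * 32)).take 32).all (fC cndR chkR) = true := by
  decide +kernel
theorem chkC_64 : (((List.range 4096).drop (64 * 32)).take 32).all (fC cndR chkR) = true := by
  decide +kernel
theorem chkC_72 : (((List.range 4096).drop (72 * 32)).take 32).all (fC cndR chkR) = true := by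
  decide +kernel
theorem chkC_80 : (((List.range 4096).drop (80 * 32)).take 32).all (fC cndR chkR) = true := by
  decide +kernel
theorem chkC_88 : (((List.range 4096).drop (88 * 32)).take 32).all (fC cndR chkR) = true := by
  decide +kernel
theorem chkC_96 : (((List.range 4096).drop (96 * 32)).take 32).all (fC cndR chkR) = true := by
  decide +kernel
theorem chkC_104 : (((List.range 4096).drop (104 * 32)).take 32).all (fC cndR chkR) = true := by
  decide +kernel
theorem chkC_112 : (((List.range 4096).drop (112 * 32)).take 32).all (fC cndR chkR) = true := by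
  decide +kernel
theorem chkC_120 : (((List.range 4096).drop (120 * 32)).take 32).all (fC cndR chkR) = true := by
  decide +kernel

end Cfsg.Agent.Lib.Helper33LI2PK0
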