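import Cfsg.Agent.Lib.Helper33LHS
import Cfsg.Agent.Lib.Helper33LR2025
import Cfsg.Agent.Lib.Helper33LR2025m

/-! # The action of the McLaughlin group on 2025 points (helper33) -/

set_option autoImplicit false
set_option exponentiation.threshold 2000

namespace Cfsg.Agent.Lib.Helper33LM2025

open Cfsg Cfsg.Agent.Lib.Helper33Golay Cfsg.Agent.Lib.Helper33Pack Cfsg.Agent.Lib.Helper33LVec
open Cfsg.Agent.Lib.Helper33LMat Cfsg.Agent.Lib.Helper33LTest Cfsg.Agent.Lib.Helper33LCo0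
open Cfsg.Agent.Lib.Helper33LMin Cfsg.Agent.Lib.Helper33LReach Cfsg.Agent.Lib.Helper33Sets
open Cfsg.Agent.Lib.Helper33LMinTrans Cfsg.Agent.Lib.Helper33LReach2 Cfsg.Agent.Lib.Helper33LSound
open Cfsg.Agent.Lib.Helper33LCount Cfsg.Agent.Lib.Helper33LPair Cfsg.Agent.Lib.Helper33LPat
open Cfsg.Agent.Lib.Helper33LCo2 Cfsg.Agent.Lib.Helper33LCo2Thy Cfsg.Agent.Lib.Helper33LFrame
open Cfsg.Agent.Lib.Helper33LBase Cfsg.Agent.Lib.Helper33LFrame2 Cfsg.Agent.Lib.Helper33LN48
open Cfsg.Agent.Lib.Helper33LMcL Cfsg.Agent.Lib.Helper33LHS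

theorem okUVM : ∀ b ∈ [u0c, v0c, xmc], InR b ∧ D b ∈ leechLattice := by
  intro b hb; simp only [List.mem_cons, List.not_mem_nil, or_false] at hb
  rcases hb with rfl | rfl | rfl
  exacts [okU, okV, okM]

theorem hcb : ∀ m, InR m → (Helper33LL2025.cnd m = true ↔ dotsC [u0c, v0c] (D m) = [16, 0]) :=
  hc_cons u0c 16 _ (hU 464 16 (by norm_num)) [v0c] [0] _ (hc_one v0c 0 _ (hV 32 0 (by norm_num)))

theorem hcb' : ∀ m, InR m → ((Helper33LL2025.cnd m && Helper33LR2025.q m) = true ↔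
    dotsC [u0c, v0c] (D m) = [16, 0]) := by
  intro m hm
  rw [← hcb m hm]
  simp [Helper33LR2025.q]

theorem hcb'' : ∀ m, InR m → ((Helper33LL2025.cnd m && Helper33LR2025m.q m) = true ↔
    dotsC [u0c, v0c] (D m) = [16, 0]) := by
  intro m hm
  rw [← hcb m hm]
  simp [Helper33LR2025m.q]

set_option maxRecDepth 1000000 in
theorem len2025 : Helper33LL2025.lst.length = 2025 := by decide +kernel

theorem n2025 : (C [DL u0c, DL v0c] [16, 0]).ncard = 2025 := by
  have := base_ncard [u0c, v0c] (fun b hb => (ok2 b hb).2) [16, 0] _ hcb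
  rw [Helper33LL2025.lst_eq, len2025] at this
  exact this

theorem T2025 : Trans [DL u0c, DL v0c] [16, 0] := fun y hy y' hy' =>
  base_reach [u0c, v0c] [u0c, v0c] ok2 (fun _ h => h) [16, 0] Helper33LGMcL.gens Helper33LR2025.ent
    Helper33LR2025.cls Helper33LR2025.rootOf Helper33LGMcL.gens_ok _ hcb'
    (forall_of_lst _ _ _ _ Helper33LL2025.lst_eq Helper33LR2025.chk) y hy y' hy'
    (show (0 : ℕ) = 0 from rfl)

theorem M_mem : DL xmc ∈ C [DL u0c, DL v0c] [16, 0] :=
  mem_base [u0c, v0c] (fun b hb => (ok2 b hb).2) [16, 0] _ hcb xmc xmc_ok (by decide +kernel)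

theorem mvUVM (u v x : LV) (hu : sqNorm (u : GolayPt → ℤ) = 48) (hv : v ∈ C [u] [24])
    (hx : x ∈ C [u, v] [16, 0]) : ∃ g : ↥Co0, mv g [u, v, x] = [DL u0c, DL v0c, DL xmc] := by
  obtain ⟨g, hg⟩ := mvUV u v hu hv
  exact ext_mv g [u, v] [DL u0c, DL v0c] [16, 0] x (DL xmc) hg T2025 hx M_mem

theorem TM (k : ℤ) : Trans [DL u0c, DL v0c, DL xmc] [16, 0, k] :=
  trans_of_reach [u0c, v0c] xmc okM.2 [16, 0] rfl Helper33LR2025m.cls (fun m hm => kM_eq m hm)
    (fun y hy y' hy' hc => by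
      obtain ⟨g, hg, h⟩ := base_reach [u0c, v0c, xhc, xmc] [u0c, v0c] ok4
        (fun b hb => by
          simp only [List.mem_cons, List.not_mem_nil, or_false] at hb ⊢
          rcases hb with rfl | rfl <;> simp) [16, 0]
        Helper33LGM22.gens Helper33LR2025m.ent Helper33LR2025m.cls Helper33LR2025m.rootOf
        Helper33LGM22.gens_ok _ hcb''
        (forall_of_lst _ _ _ _ Helper33LL2025.lst_eq Helper33LR2025m.chk) y hy y' hy' hc
      refine ⟨g, fixes_sub hg ?_, h⟩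
      intro b hb
      simp only [List.map_cons, List.map_nil, List.cons_append, List.nil_append,
        List.mem_cons, List.not_mem_nil, or_false] at hb ⊢
      rcases hb with rfl | rfl | rfl <;> simp) k

theorem hcbk (s : ℕ) (k : ℤ) (h : 4 * (s : ℤ) - 128 = k) :
    ∀ m, InR m → ((Helper33LL2025.cnd m && cM s m) = true ↔
    dotsC [u0c, v0c, xmc] (D m) = [16, 0, k]) := by
  intro m hm
  have h1 := hc_cons u0c 16 _ (hU 464 16 (by norm_num)) [v0c, xmc] [0, k] _
    (hc_cons v0c 0 _ (hV 32 0 (by norm_num)) [xmc] [k] _ (hc_one xmc k _ (hM s k h))) m hm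
  rw [← h1]
  unfold Helper33LL2025.cnd
  rw [Bool.and_assoc]

set_option maxRecDepth 1000000 in
theorem len330 : (Helper33LL2025.lst.filter (cM 32)).length = 330 := by decide +kernel
set_option maxRecDepth 1000000 in
theorem len462 : (Helper33LL2025.lst.filter (cM 36)).length = 462 := by decide +kernel
set_option maxRecDepth 1000000 in
theorem len1232 : (Helper33LL2025.lst.filter (cM 34)).length = 1232 := by decide +kernel

theorem nM (s n : ℕ) (k : ℤ) (h : 4 * (s : ℤ) - 128 = k)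
    (hl : (Helper33LL2025.lst.filter (cM s)).length = n) :
    (C [DL u0c, DL v0c, DL xmc] [16, 0, k]).ncard = n := by
  have := base_ncard [u0c, v0c, xmc] (fun b hb => (okUVM b hb).2) [16, 0, k] _ (hcbk s k h)
  rw [filter_and _ _ _ Helper33LL2025.lst_eq, hl] at this
  exact this

end Cfsg.Agent.Lib.Helper33LM2025
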