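import Cfsg.Agent.Lib.Helper33LGood
import Cfsg.Agent.Lib.Helper33LHS
import Cfsg.Agent.Lib.Helper10Co0Center
import Cfsg.Agent.S0378
import Cfsg.Agent.S0379

/-! # The pointwise stabiliser of three base vectors is the Mathieu group of degree 22 (helper33) -/

set_option autoImplicit false
set_option exponentiation.threshold 2000

namespace Cfsg.Agent.Lib.Helper33LM22

open Cfsg Cfsg.Agent.Lib.Helper33Golay Cfsg.Agent.Lib.Helper33LVec Cfsg.Agent.Lib.Helper33LCo0
open Cfsg.Agent.Lib.Helper33LPair Cfsg.Agent.Lib.Helper33LFrame Cfsg.Agent.Lib.Helper33LGood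
open Cfsg.Agent.Lib.Helper33LBase Cfsg.Agent.Lib.Helper33LCo2 Cfsg.Agent.Lib.Helper33LMcL
open Cfsg.Agent.Lib.Helper10Co0 Cfsg.Agent.Lib.Helper10Co0Center
open Cfsg.Agent.S5546 (e8)
open Cfsg.Agent.S1571 (signedPerm_single)

theorem fU : ∀ i < 24, (fld u0c i : ℤ) - 16 = if i = 1 then 5 else 1 := by decide +kernel
theorem fV : ∀ i < 24, (fld v0c i : ℤ) - 16 = if i = 0 then 4 else if i = 1 then 4 else 0 := by
  decide +kernel
theorem fH : ∀ i < 24, (fld xhc i : ℤ) - 16 = if i = 0 then 4 else if i = 1 then -4 else 0 := by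
  decide +kernel

theorem idx_eq_iff (p : GolayPt) (i : ℕ) (hi : i < 24) : idx p = i ↔ p = pt i := by
  constructor
  · intro h; rw [← h, pt_idx]
  · intro h; rw [h, idx_pt hi]

theorem cU' (p : GolayPt) : ((DL u0c : LV) : GolayPt → ℤ) p = if p = pt 1 then 5 else 1 := by
  rw [DL_coe okU.2]
  show (fld u0c (idx p) : ℤ) - 16 = _
  rw [fU _ (idx_lt p)]
  simp only [idx_eq_iff p 1 (by norm_num)]

theorem cV' (p : GolayPt) : ((DL v0c : LV) : GolayPt → ℤ) p =
    if p = pt 0 then 4 else if p = pt 1 then 4 else 0 := by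
  rw [DL_coe okV.2]
  show (fld v0c (idx p) : ℤ) - 16 = _
  rw [fV _ (idx_lt p)]
  simp only [idx_eq_iff p 1 (by norm_num), idx_eq_iff p 0 (by norm_num)]

theorem cH' (p : GolayPt) : ((DL xhc : LV) : GolayPt → ℤ) p =
    if p = pt 0 then 4 else if p = pt 1 then -4 else 0 := by
  rw [DL_coe okH.2]
  show (fld xhc (idx p) : ℤ) - 16 = _
  rw [fH _ (idx_lt p)]
  simp only [idx_eq_iff p 1 (by norm_num), idx_eq_iff p 0 (by norm_num)]

theorem p01 : pt 0 ≠ pt 1 := by decide

theorem e8_eq : e8 (pt 0) = DL v0c + DL xhc := by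
  apply Subtype.ext
  funext p
  show (Pi.single (pt 0) 8 : GolayPt → ℤ) p = ((DL v0c : LV) : GolayPt → ℤ) p + ((DL xhc : LV) : GolayPt → ℤ) p
  rw [cV', cH']
  by_cases h0 : p = pt 0
  · subst h0; simp
  · rw [Pi.single_eq_of_ne h0]
    by_cases h1 : p = pt 1
    · subst h1; simp [p01.symm]
    · simp [h0, h1]

/-- the base frame -/
noncomputable abbrev FB : List LV := [DL u0c, DL xhc, DL v0c]

theorem co0_ext (g h : ↥Co0) (H : ∀ v : LV, g • v = h • v) : g = h := Subtype.ext (Equiv.ext H)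

theorem prm_coe (σ : Equiv.Perm GolayPt) (hσ : σ ∈ M24) (v : LV) :
    ((prm σ hσ • v : LV) : GolayPt → ℤ) = signedPerm σ ∅ (v : GolayPt → ℤ) := rfl

/-- an automorphism fixing the base frame is a coordinate permutation -/
theorem perm_of_fixes (g : ↥Co0) (hg : Fixes g FB) :
    ∃ (σ : Equiv.Perm GolayPt) (hσ : σ ∈ M24), σ (pt 0) = pt 0 ∧ σ (pt 1) = pt 1 ∧ g = prm σ hσ := by
  have hU : g • DL u0c = DL u0c := hg _ (by simp)
  have hH : g • DL xhc = DL xhc := hg _ (by simp)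
  have hV : g • DL v0c = DL v0c := hg _ (by simp)
  have hE : g • e8 (pt 0) = e8 (pt 0) := by rw [e8_eq, smul_add', hV, hH]
  have hcl : cl (e8 (pt 0)) = X0 := by
    rw [X0_eq]
    apply cl_eq_of_mem
    rw [← X0_eq]
    exact e8_mem_X0 _
  have hstd : ∀ v : LV, (v : GolayPt → ℤ) ∈ stdCross → ((g • v : LV) : GolayPt → ℤ) ∈ stdCross := by
    intro v hv
    have h1 : v ∈ cl (e8 (pt 0)) := by rw [hcl]; exact hv
    have h2 := smul_mem_cl g h1
    rw [hE, hcl] at h2
    exact h2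
  obtain ⟨f, ⟨σ, hσ, c, hc, rfl⟩, hf⟩ := Cfsg.Agent.S1571.result.1 g hstd
  have hUc : ∀ i, signedPerm σ c ((DL u0c : LV) : GolayPt → ℤ) i = ((DL u0c : LV) : GolayPt → ℤ) i := by
    intro i
    rw [← hf, hU]
  have hpos : ∀ i, 1 ≤ ((DL u0c : LV) : GolayPt → ℤ) i := by
    intro i; rw [cU']; split_ifs <;> norm_num
  have hc0 : c = ∅ := by
    rw [Finset.eq_empty_iff_forall_notMem]
    intro i hi
    have h1 := hUc i
    simp only [signedPerm, hi, if_true] at h1
    have h2 := hpos i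
    have h3 := hpos (σ.symm i)
    omega
  subst hc0
  have h1 : σ (pt 1) = pt 1 := by
    have h2 := hUc (pt 1)
    simp only [signedPerm, Finset.notMem_empty, if_false] at h2
    rw [cU', cU', if_pos rfl] at h2
    by_cases h3 : σ.symm (pt 1) = pt 1
    · rw [Equiv.symm_apply_eq] at h3; exact h3.symm
    · rw [if_neg h3] at h2; norm_num at h2
  have h0 : σ (pt 0) = pt 0 := by
    have h2 : signedPerm σ ∅ (Pi.single (pt 0) 8) = (Pi.single (pt 0) 8 : GolayPt → ℤ) := by
      have := hf (e8 (pt 0))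
      rw [hE] at this
      exact this.symm
    rw [signedPerm_single] at h2
    by_contra hne
    have h3 := congrFun h2 (pt 0)
    rw [Pi.single_eq_of_ne (fun h => hne h.symm), Pi.single_eq_same] at h3
    norm_num at h3
  refine ⟨σ, hσ, h0, h1, ?_⟩
  apply co0_ext
  intro v
  apply Subtype.ext
  rw [hf, prm_coe]

theorem prm_fix (σ : Equiv.Perm GolayPt) (hσ : σ ∈ M24) (b : LV)
    (h : ∀ i, (b : GolayPt → ℤ) (σ i) = (b : GolayPt → ℤ) i) : prm σ hσ • b = b := by
  apply Subtype.ext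
  funext j
  obtain ⟨i, rfl⟩ := σ.surjective j
  rw [prm_apply, h]

theorem fixes_of_perm (σ : Equiv.Perm GolayPt) (hσ : σ ∈ M24) (h0 : σ (pt 0) = pt 0)
    (h1 : σ (pt 1) = pt 1) : Fixes (prm σ hσ) FB := by
  have e0 : ∀ i, σ i = pt 0 ↔ i = pt 0 := fun i => by
    constructor
    · intro h; exact σ.injective (h.trans h0.symm)
    · intro h; rw [h, h0]
  have e1 : ∀ i, σ i = pt 1 ↔ i = pt 1 := fun i => by
    constructor
    · intro h; exact σ.injective (h.trans h1.symm)
    · intro h; rw [h, h1]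
  intro b hb
  simp only [List.mem_cons, List.not_mem_nil, or_false] at hb
  rcases hb with rfl | rfl | rfl
  · apply prm_fix; intro i; rw [cU', cU']; simp only [e1]
  · apply prm_fix; intro i; rw [cH', cH']; simp only [e0, e1]
  · apply prm_fix; intro i; rw [cV', cV']; simp only [e0, e1]

/-- coordinate permutations as a homomorphism -/
def prmHom : ↥M24 →* ↥Co0 where
  toFun σ := prm σ.1 σ.2
  map_one' := by
    apply co0_ext
    intro v
    apply Subtype.ext
    funext i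
    rw [one_smul]
    show signedPerm 1 ∅ (v : GolayPt → ℤ) i = _
    simp only [signedPerm, Finset.notMem_empty, if_false]
    rfl
  map_mul' σ τ := by
    apply co0_ext
    intro v
    apply Subtype.ext
    funext i
    rw [mul_smul]
    show signedPerm (σ.1 * τ.1) ∅ (v : GolayPt → ℤ) i =
      signedPerm σ.1 ∅ (signedPerm τ.1 ∅ (v : GolayPt → ℤ)) i
    simp only [signedPerm, Finset.notMem_empty, if_false]
    rfl

theorem prmHom_injective : Function.Injective prmHom := by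
  intro σ τ h
  apply Subtype.ext
  apply Equiv.ext
  intro j
  have h1 : prm σ.1 σ.2 • e8 j = prm τ.1 τ.2 • e8 j := by
    show prmHom σ • e8 j = prmHom τ • e8 j
    rw [h]
  rw [prm_e8, prm_e8] at h1
  have h2 := congrFun (congrArg Subtype.val h1) (σ.1 j)
  by_contra hne
  have h3 : (Pi.single (σ.1 j) 8 : GolayPt → ℤ) (σ.1 j) = (Pi.single (τ.1 j) 8 : GolayPt → ℤ) (σ.1 j) := h2
  rw [Pi.single_eq_same, Pi.single_eq_of_ne hne] at h3
  norm_num at h3

theorem fixG_eq : fixG FB = (MulAction.stabilizer M24 (pt 0) ⊓ MulAction.stabilizer M24 (pt 1)).map prmHom := by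
  ext g
  rw [Subgroup.mem_map]
  constructor
  · intro hg
    obtain ⟨σ, hσ, h0, h1, rfl⟩ := perm_of_fixes g hg
    exact ⟨⟨σ, hσ⟩, ⟨h0, h1⟩, rfl⟩
  · rintro ⟨σ, ⟨h0, h1⟩, rfl⟩
    exact fixes_of_perm σ.1 σ.2 h0 h1

theorem good_FB : Good FB 443520 := by
  unfold Good
  rw [fixG_eq]
  have e := Subgroup.equivMapOfInjective
    (MulAction.stabilizer M24 (pt 0) ⊓ MulAction.stabilizer M24 (pt 1)) prmHom prmHom_injective
  have hs := Cfsg.Agent.S0379.result (pt 0) (pt 1) p01
  exact ⟨e.symm.isSimpleGroup, by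
    rw [← Nat.card_congr e.toEquiv, Cfsg.Agent.S0378.result (pt 0) (pt 1) p01]⟩

end Cfsg.Agent.Lib.Helper33LM22
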