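import Cfsg.Agent.Lib.Helper33LVec

/-! # Packed 24 × 24 integer matrices acting on packed vectors (helper33)

A matrix `8·g` with entries in `[-8, 8]` is stored by columns (768 bits each, entry `a` stored as
`a + 8` in a 32-bit field); column 24 holds the sum of the 24 columns. -/

set_option autoImplicit false
set_option exponentiation.threshold 2000

namespace Cfsg.Agent.Lib.Helper33LMat

open Cfsg Cfsg.Agent.Lib.Helper33Golay Cfsg.Agent.Lib.Helper33Pack Cfsg.Agent.Lib.Helper33LVec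
open Matrix

def CM : ℕ := 0xffffffffffffffffffffffffffffffffffffffffffffffffffffffffffffffffffffffffffffffffffffffffffffffffffffffffffffffffffffffffffffffffffffffffffffffffffffffffffffffffffffffffffffffffffffffffffffffff

theorem CM_eq : CM = 2 ^ 768 - 1 := by decide +kernel

/-- column `i` -/
def col (Q i : ℕ) : ℕ := Nat.land (Nat.shiftRight Q (Nat.mul 768 i)) CM

theorem col_lt (Q i : ℕ) : col Q i < 2 ^ 768 := by
  unfold col
  show (Q >>> (768 * i)) &&& CM < _
  rw [CM_eq, Nat.and_two_pow_sub_one_eq_mod]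
  exact Nat.mod_lt _ (by positivity)

/-- the integer matrix coded by `Q` -/
def Mint (Q : ℕ) : Matrix GolayPt GolayPt ℤ := fun j i => (fld (col Q (idx i)) (idx j) : ℤ) - 8

def K3200 : ℕ := 0xc8000000c8000000c8000000c8000000c8000000c8000000c8000000c8000000c8000000c8000000c8000000c8000000c8000000c8000000c8000000c8000000c8000000c8000000c8000000c8000000c8000000c8000000c8000000c80

theorem K3200_eq : K3200 = 3200 * ONES := by decide +kernel

/-- `∑ i, X_i • column i` -/
def Yof (Q X : ℕ) : ℕ :=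
  Nat.add (Nat.add (Nat.add (Nat.add (Nat.add (Nat.add (Nat.add (Nat.add (Nat.add (Nat.add (Nat.add (Nat.add (Nat.add (Nat.add (Nat.add (Nat.add (Nat.add (Nat.add (Nat.add (Nat.add (Nat.add (Nat.add (Nat.add (Nat.add (0) (Nat.mul (fld X 0) (col Q 0))) (Nat.mul (fld X 1) (col Q 1))) (Nat.mul (fld X 2) (col Q 2))) (Nat.mul (fld X 3) (col Q 3))) (Nat.mul (fld X 4) (col Q 4))) (Nat.mul (fld X 5) (col Q 5))) (Nat.mul (fld X 6) (col Q 6))) (Nat.mul (fld X 7) (col Q 7))) (Nat.mul (fld X 8) (col Q 8))) (Nat.mul (fld X 9) (col Q 9))) (Nat.mul (fld X 10) (col Q 10))) (Nat.mul (fld X 11) (col Q 11))) (Nat.mul (fld X 12) (col Q 12))) (Nat.mul (fld X 13) (col Q 13))) (Nat.mul (fld X 14) (col Q 14))) (Nat.mul (fld X 15) (col Q 15))) (Nat.mul (fld X 16) (col Q 16))) (Nat.mul (fld X 17) (col Q 17))) (Nat.mul (fld X 18) (col Q 18))) (Nat.mul (fld X 19) (col Q 19))) (Nat.mul (fld X 20) (col Q 20))) (Nat.mul (fld X 21) (col Q 21))) (Nat.mul (fld X 22) (col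 Q 22))) (Nat.mul (fld X 23) (col Q 23))

theorem Yof_eq (Q X : ℕ) : Yof Q X = ∑ i ∈ Finset.range 24, fld X i * col Q i := by
  simp only [Finset.sum_range_succ, Finset.sum_range_zero]
  rfl

def corr (Q X : ℕ) : ℕ := Nat.add (Nat.mul 16 (col Q 24)) (Nat.mul (Nat.mul 8 (fsum X)) ONES)

/-- the code of the image vector -/
def outOf (Q X : ℕ) : ℕ := Nat.div (Nat.sub (Nat.add (Yof Q X) K3200) (corr Q X)) 8

/-- `o` is the code of the image of `X` -/
def stepOK (Q X o : ℕ) : Bool :=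
  inR o && Nat.beq (Nat.add (Nat.mul 8 o) (corr Q X)) (Nat.add (Yof Q X) K3200)

def MatOK (Q : ℕ) : Prop :=
  (∀ i < 24, ∀ j < 24, fld (col Q i) j ≤ 16) ∧ col Q 24 = ∑ i ∈ Finset.range 24, col Q i

def colSum (Q : ℕ) : ℕ :=
  Nat.add (Nat.add (Nat.add (Nat.add (Nat.add (Nat.add (Nat.add (Nat.add (Nat.add (Nat.add (Nat.add (Nat.add (Nat.add (Nat.add (Nat.add (Nat.add (Nat.add (Nat.add (Nat.add (Nat.add (Nat.add (Nat.add (Nat.add (Nat.add (0) (col Q 0)) (col Q 1)) (col Q 2)) (col Q 3)) (col Q 4)) (col Q 5)) (col Q 6)) (col Q 7)) (col Q 8)) (col Q 9)) (col Q 10)) (col Q 11)) (col Q 12)) (col Q 13)) (col Q 14)) (col Q 15)) (col Q 16)) (col Q 17)) (col Q 18)) (col Q 19)) (col Q 20)) (col Q 21)) (col Q 22)) (col Q 23)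

theorem colSum_eq (Q : ℕ) : colSum Q = ∑ i ∈ Finset.range 24, col Q i := by
  simp only [Finset.sum_range_succ, Finset.sum_range_zero]
  rfl

def matOK (Q : ℕ) : Bool :=
  (List.range 24).all (fun i => (List.range 24).all (fun j => Nat.ble (fld (col Q i) j) 16)) &&
    Nat.beq (col Q 24) (colSum Q)

theorem MatOK_of_matOK {Q : ℕ} (h : matOK Q = true) : MatOK Q := by
  unfold matOK at h
  rw [Bool.and_eq_true] at h
  constructor
  · intro i hi j hj
    have h1 := List.all_eq_true.1 h.1 i (List.mem_range.2 hi)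
    have h2 := List.all_eq_true.1 h1 j (List.mem_range.2 hj)
    exact Nat.le_of_ble_eq_true h2
  · rw [← colSum_eq]; exact Nat.eq_of_beq_eq_true h.2

theorem sum_le_24 (g : ℕ → ℕ) (B : ℕ) (h : ∀ i < 24, g i ≤ B) :
    ∑ i ∈ Finset.range 24, g i ≤ 24 * B := by
  calc ∑ i ∈ Finset.range 24, g i ≤ ∑ i ∈ Finset.range 24, B :=
        Finset.sum_le_sum (fun i hi => h i (Finset.mem_range.1 hi))
    _ = 24 * B := by simp

theorem step_fields (Q X o : ℕ) (hQ : MatOK Q) (hX : InR X) (h : stepOK Q X o = true) :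
    InR o ∧ ∀ j < 24, 8 * fld o j + (16 * (∑ i ∈ Finset.range 24, fld (col Q i) j) +
      8 * (∑ i ∈ Finset.range 24, fld X i)) =
      (∑ i ∈ Finset.range 24, fld X i * fld (col Q i) j) + 3200 := by
  unfold stepOK at h
  rw [Bool.and_eq_true] at h
  have ho : InR o := InR_of_inR h.1
  refine ⟨ho, ?_⟩
  have h2 : 8 * o + (16 * col Q 24 + (8 * fsum X) * ONES) = Yof Q X + K3200 :=
    Nat.eq_of_beq_eq_true h.2
  have hc : ∀ i, col Q i = pk 32 (fld (col Q i)) 24 := fun i => (pk_fld _ (col_lt Q i)).symm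
  have e1 : Yof Q X = pk 32 (fun j => ∑ i ∈ Finset.range 24, fld X i * fld (col Q i) j) 24 := by
    rw [Yof_eq, pk_sum]
    apply Finset.sum_congr rfl
    intro i _
    rw [pk_smul, ← hc i]
  have e2 : col Q 24 = pk 32 (fun j => ∑ i ∈ Finset.range 24, fld (col Q i) j) 24 := by
    rw [hQ.2, pk_sum]
    exact Finset.sum_congr rfl (fun i _ => hc i)
  have e3 : o = pk 32 (fld o) 24 := (pk_fld _ ho.1).symm
  rw [e1, e2, K3200_eq, ← pk_const, ← pk_const, ← pk_smul, ← pk_add, ← pk_add, fsum_eq X hX] at h2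
  conv at h2 => lhs; rw [e3, ← pk_smul, ← pk_add]
  have hs : ∀ j < 24, ∑ i ∈ Finset.range 24, fld (col Q i) j ≤ 24 * 16 :=
    fun j hj => sum_le_24 _ _ (fun i hi => hQ.1 i hi j hj)
  have ht : ∑ i ∈ Finset.range 24, fld X i ≤ 24 * 32 :=
    sum_le_24 _ _ (fun i hi => le_of_lt (hX.2 i hi))
  have hy : ∀ j < 24, ∑ i ∈ Finset.range 24, fld X i * fld (col Q i) j ≤ 24 * (32 * 16) :=
    fun j hj => sum_le_24 _ _ (fun i hi => Nat.mul_le_mul (le_of_lt (hX.2 i hi)) (hQ.1 i hi j hj))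
  apply pk_inj 32 24 _ _ h2
  · intro j hj
    have := hs j hj
    have := ho.2 j hj
    show 8 * fld o j + (16 * _ + 8 * _) < 2 ^ 32
    omega
  · intro j hj
    have := hy j hj
    show _ + 3200 < 2 ^ 32
    omega

theorem step_spec (Q X o : ℕ) (hQ : MatOK Q) (hX : InR X) (h : stepOK Q X o = true) :
    InR o ∧ (8 : ℤ) • D o = Mint Q *ᵥ D X := by
  obtain ⟨ho, hf⟩ := step_fields Q X o hQ hX h
  refine ⟨ho, ?_⟩
  funext p
  have := hf (idx p) (idx_lt p)
  show (8 : ℤ) • D o p = ∑ q, Mint Q p q * D X q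
  unfold Mint D
  rw [sum_pt (fun i => ((fld (col Q i) (idx p) : ℤ) - 8) * ((fld X i : ℤ) - 16))]
  have e : ∀ i, ((fld (col Q i) (idx p) : ℤ) - 8) * ((fld X i : ℤ) - 16) =
      (fld X i : ℤ) * (fld (col Q i) (idx p) : ℤ) - 16 * (fld (col Q i) (idx p) : ℤ)
        - 8 * (fld X i : ℤ) + 128 := fun i => by ring
  simp only [e]
  rw [Finset.sum_add_distrib, Finset.sum_sub_distrib, Finset.sum_sub_distrib, ← Finset.mul_sum,
    ← Finset.mul_sum, Finset.sum_const, Finset.card_range]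
  have h3 : (8 * (fld o (idx p) : ℤ) + (16 * (∑ i ∈ Finset.range 24, (fld (col Q i) (idx p) : ℤ)) +
      8 * (∑ i ∈ Finset.range 24, (fld X i : ℤ)))) =
      (∑ i ∈ Finset.range 24, (fld X i : ℤ) * (fld (col Q i) (idx p) : ℤ)) + 3200 := by
    exact_mod_cast this
  simp only [smul_eq_mul, nsmul_eq_mul]
  push_cast
  linarith

/-- the vector code of column `i` -/
def colVec (Q i : ℕ) : ℕ := Nat.add (col Q i) (Nat.mul 8 ONES)

theorem colVec_spec (Q i : ℕ) (hQ : MatOK Q) (hi : i < 24) :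
    InR (colVec Q i) ∧ D (colVec Q i) = fun p => Mint Q p (pt i) := by
  have e : colVec Q i = pk 32 (fun j => fld (col Q i) j + 8) 24 := by
    show col Q i + 8 * ONES = _
    rw [pk_add, pk_const, pk_fld _ (col_lt Q i)]
  rw [e]
  constructor
  · apply InR_pk
    intro j hj
    have := hQ.1 i hi j hj
    omega
  · funext p
    rw [D_pk]
    · unfold Mint
      rw [idx_pt hi]
      push_cast
      ring
    · intro j hj
      have := hQ.1 i hi j hj
      have : fld (col Q i) j + 8 < 32 := by omega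
      exact lt_trans this (by norm_num)

/-- the code of `8 e_i` -/
def e8 (i : ℕ) : ℕ := Nat.add (Nat.mul 16 ONES) (Nat.shiftLeft 8 (Nat.mul 32 i))

theorem D_e8 (i : ℕ) (hi : i < 24) (p : GolayPt) : D (e8 i) p = if p = pt i then 8 else 0 := by
  have e : e8 i = pk 32 (fun j => 16 + (if j = i then 8 else 0)) 24 := by
    show 16 * ONES + 8 <<< (32 * i) = _
    rw [pk_add, pk_const, pk_single 32 24 i 8 hi, Nat.shiftLeft_eq]
  rw [e, D_pk]
  · by_cases h : p = pt i
    · subst h; simp [idx_pt hi]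
    · have : idx p ≠ i := fun h' => h (by rw [← h', pt_idx])
      simp [h, this]
  · intro j _
    split_ifs <;> norm_num

def invOK (Q Q' : ℕ) : Bool := (List.range 24).all (fun i => stepOK Q' (colVec Q i) (e8 i))

theorem inv_spec (Q Q' : ℕ) (hQ : MatOK Q) (hQ' : MatOK Q') (h : invOK Q Q' = true) :
    Mint Q' * Mint Q = (64 : ℤ) • (1 : Matrix GolayPt GolayPt ℤ) := by
  ext p q
  have hi := idx_lt q
  have h1 := List.all_eq_true.1 h (idx q) (List.mem_range.2 hi)
  obtain ⟨hX, hD⟩ := colVec_spec Q (idx q) hQ hi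
  have h2 := (step_spec Q' _ _ hQ' hX h1).2
  have h3 := congrFun h2 p
  rw [hD] at h3
  simp only [pt_idx] at h3
  rw [Matrix.mul_apply]
  have h4 : (Mint Q' *ᵥ fun p => Mint Q p q) p = ∑ j, Mint Q' p j * Mint Q j q := rfl
  rw [← h4, ← h3]
  show (8 : ℤ) • D (e8 (idx q)) p = _
  rw [D_e8 _ hi, pt_idx, Matrix.smul_apply, Matrix.one_apply]
  split_ifs <;> simp

def transOK (Q Q' : ℕ) : Bool :=
  (List.range 24).all (fun i => (List.range 24).all (fun j =>
    Nat.beq (fld (col Q' j) i) (fld (col Q i) j)))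

theorem trans_spec (Q Q' : ℕ) (h : transOK Q Q' = true) : Mint Q' = (Mint Q)ᵀ := by
  ext p q
  have h1 := List.all_eq_true.1 h (idx p) (List.mem_range.2 (idx_lt p))
  have h2 := List.all_eq_true.1 h1 (idx q) (List.mem_range.2 (idx_lt q))
  have h3 := Nat.eq_of_beq_eq_true h2
  show (fld (col Q' (idx q)) (idx p) : ℤ) - 8 = (fld (col Q (idx p)) (idx q) : ℤ) - 8
  rw [h3]

end Cfsg.Agent.Lib.Helper33LMat
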