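import Cfsg.Agent.Lib.Helper33LGMcL
import Cfsg.Agent.Lib.Helper33LL24

set_option autoImplicit false
set_option exponentiation.threshold 2000

open Cfsg Cfsg.Agent.Lib.Helper33Golay Cfsg.Agent.Lib.Helper33LVec Cfsg.Agent.Lib.Helper33LMat
open Cfsg.Agent.Lib.Helper33LTest Cfsg.Agent.Lib.Helper33LCo0 Cfsg.Agent.Lib.Helper33LMin
open Cfsg.Agent.Lib.Helper33LReach Cfsg.Agent.Lib.Helper33Sets Cfsg.Agent.Lib.Helper33LReach2
open Cfsg.Agent.Lib.Helper33LMinTrans Cfsg.Agent.Lib.Helper33LPat
open Cfsg.Agent.Lib.Helper33LCo2 Cfsg.Agent.Lib.Helper33LFrame Cfsg.Agent.Lib.Helper33LBase

namespace Cfsg.Agent.Lib.Helper33LR275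

open Cfsg.Agent.Lib.Helper33LGMcL Cfsg.Agent.Lib.Helper33LL24

def ent_g0 (c : ℕ) : ℕ :=
  (bif Nat.blt c 1 then 0x900a00c00000620000000000400630000000b00b10000000000b10630000000000000330000910000000000000000000b00a30b00a00000220c00000c20000820000000000000000a30000b30000000000000000a10000000000230b10000a00000820630000810630000520a10000c10000000000000610000000000000000400000000830920000000c30a10820700810000b10000000000000c20000000000a20000000000000c00000000000000000000b00000000000000000000000000000000000000920000800000000000000a00b00000000000000420000a30c20000000000000000000000700c20c00910000000b20600c20920a20000000000000000930110000000000530000000630a00000000430b00920000000000000610000000800000000320320710a20900a20000a10200000000610810510000000000b20000000000b20000000000000000000000000000930800a00a20820000430000000000000a30500b20b10000000000000920000b00a2000000 else 0x930000000800000b00000720410000000000000a30120000920000000930b00500000000b10720710a20000a30000920000000a00c00730500000130720610930b10000520000830910000000200000c00000410800000910000000000b30500a30000a00720000710000900a10000c00000000000a20000000000820910b00000000000220000610900410000000210000000000b20720000000000b00000000000810000910930000830000620000000000000800000000000b30b10c00920900300000700000000000000800a10000b00000730610000600a00000320210710000b30520000000520620810000000000900000700000b30700000830600510000000000830000b20a20930a20a00a1)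

def ent_c (c : ℕ) : ℕ :=
  ent_g0 c

def ent (X : ℕ) : ℕ :=
  Nat.land (Nat.shiftRight (ent_c (Nat.shiftRight (Nat.mod X 439) 8)) (Nat.mul 12 (Nat.land (Nat.mod X 439) 255))) 4095


def rootOf (c : ℕ) : ℕ := 0x100000001000000010000000100000001000000010000000100000001000000010000000100000001000000010000000100000001000000010000000100000001000000010000000100000001000000010000000140000001400000010

def q (m : ℕ) : Bool := cV 36 m

def cls (m : ℕ) : ℕ := 0

set_option maxRecDepth 1000000 in
theorem chk : lst.all (fun m => !q m || chkM gens ent cls rootOf m) = true := by decide +kernel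

end Cfsg.Agent.Lib.Helper33LR275
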