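import Cfsg.Agent.Lib.Helper33LGU43
import Cfsg.Agent.Lib.Helper33LL24

set_option autoImplicit false
set_option exponentiation.threshold 2000

open Cfsg Cfsg.Agent.Lib.Helper33Golay Cfsg.Agent.Lib.Helper33LVec Cfsg.Agent.Lib.Helper33LMat
open Cfsg.Agent.Lib.Helper33LTest Cfsg.Agent.Lib.Helper33LCo0 Cfsg.Agent.Lib.Helper33LMin
open Cfsg.Agent.Lib.Helper33LReach Cfsg.Agent.Lib.Helper33Sets Cfsg.Agent.Lib.Helper33LReach2
open Cfsg.Agent.Lib.Helper33LMinTrans Cfsg.Agent.Lib.Helper33LPat
open Cfsg.Agent.Lib.Helper33LCo2 Cfsg.Agent.Lib.Helper33LFrame Cfsg.Agent.Lib.Helper33LBase

namespace Cfsg.Agent.Lib.Helper33LR275x

open Cfsg.Agent.Lib.Helper33LGU43 Cfsg.Agent.Lib.Helper33LL24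

def ent_g0 (c : ℕ) : ℕ :=
  (bif Nat.blt c 1 then 0x20000000024052000062051000000000025000000000042000040000000000000000000000000015000000035000035000014040053000000000000000000000000000000000000000000050045000050000000000051000000031032040000000000050000051000044000050000000042000000000000000000000000000052025053000052000000021051033040041000000042000030000000000050044000000000054000053042031000050000000000000060000031000021000000000000000000000000061000000000040000000000054043040000000000031000000000000070000050050044032061000000041000000000000000060051000000035000061053000000000000000021000000000031041053033000045000000000000041000000032000014024000000061000041000000000000000000034000000045000000031000041050000000000000052000000000060035034000025000000051061000000000030043033000000000000061000031 else (bif Nat.blt c 2 then 0x13000000000030000033000000000000035000024000022060000000010040061043040000042000043000000000000000054000043061000000062050034000000000000000000000061000000000000000000045064000000000041000062041050000000000000000000032000000042000031000041000000000000060052053000000042000000000000000000000000000051000000000040033000000000053043064050000034000043000000050000034000040000000040043000041000000045055051040000000053000000000000000043000000000051000030032020000000000061000000000035050000000000000000000000000000000051044000000055000000000000000000000000000000000051050000042000000000000000031000000042000000000000060000040053000000000041000000000000000000050000000000000000000051050000000055044000000000000000031000000022000000000000023000000000061000000000032000015054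 else 0x44000000023000000000000020000060000045020022000033000043025000040000000000051034000052043060000000000035000000000000000000035023000000000032045050000000000000044000060051034042042000054000000000000000051050000000062035051000050000000000034050041000000000000000000021000000053000000060000000000000054000))

def ent_c (c : ℕ) : ℕ :=
  ent_g0 c

def ent (X : ℕ) : ℕ :=
  Nat.land (Nat.shiftRight (ent_c (Nat.shiftRight (Nat.mod X 613) 8)) (Nat.mul 12 (Nat.land (Nat.mod X 613) 255))) 4095


def rootOf (c : ℕ) : ℕ := bif Nat.beq c 34 then 0x120000001000000010000000100000001200000012000000120000001000000012000000100000001200000010000000100000001000000010000000100000001000000010000000100000001000000010000000100000001200000012 else bif Nat.beq c 36 then 0x100000001000000010000000100000001000000010000000100000001000000010000000100000001000000010000000100000001000000010000000100000001000000010000000100000001000000014000000100000001400000010 else 0x100000001000000010000000100000001000000010000000100000001000000010000000100000001000000010000000100000001000000010000000100000001000000010000000100000001000000010000000140000001400000010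

def q (m : ℕ) : Bool := cV 36 m

def cls (m : ℕ) : ℕ := kX m

set_option maxRecDepth 1000000 in
theorem chk : lst.all (fun m => !q m || chkM gens ent cls rootOf m) = true := by decide +kernel

end Cfsg.Agent.Lib.Helper33LR275x
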