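import Cfsg.Agent.Lib.Helper33LFrame2
import Cfsg.Agent.Lib.Helper33LR275
import Cfsg.Agent.Lib.Helper33LR275x

/-! # The configurations `(u)`, `(u, v)`, `(u, v, x)` of the McLaughlin group (helper33) -/

set_option autoImplicit false
set_option exponentiation.threshold 2000

namespace Cfsg.Agent.Lib.Helper33LMcL

open Cfsg Cfsg.Agent.Lib.Helper33Golay Cfsg.Agent.Lib.Helper33Pack Cfsg.Agent.Lib.Helper33LVec
open Cfsg.Agent.Lib.Helper33LMat Cfsg.Agent.Lib.Helper33LTest Cfsg.Agent.Lib.Helper33LCo0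
open Cfsg.Agent.Lib.Helper33LMin Cfsg.Agent.Lib.Helper33LReach Cfsg.Agent.Lib.Helper33Sets
open Cfsg.Agent.Lib.Helper33LMinTrans Cfsg.Agent.Lib.Helper33LReach2 Cfsg.Agent.Lib.Helper33LSound
open Cfsg.Agent.Lib.Helper33LCount Cfsg.Agent.Lib.Helper33LPair Cfsg.Agent.Lib.Helper33LPat
open Cfsg.Agent.Lib.Helper33LCo2 Cfsg.Agent.Lib.Helper33LCo2Thy Cfsg.Agent.Lib.Helper33LFrame
open Cfsg.Agent.Lib.Helper33LBase Cfsg.Agent.Lib.Helper33LFrame2 Cfsg.Agent.Lib.Helper33LN48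

theorem okU : InR u0c ∧ D u0c ∈ leechLattice := ⟨(code_ok u0c_ok).1, (code_ok u0c_ok).2.1⟩
theorem okV : InR v0c ∧ D v0c ∈ leechLattice := ⟨(code_ok v0c_ok).1, (code_ok v0c_ok).2.1⟩
theorem okX : InR x0c ∧ D x0c ∈ leechLattice := ⟨(code_ok x0c_ok).1, (code_ok x0c_ok).2.1⟩
theorem okH : InR xhc ∧ D xhc ∈ leechLattice := ⟨(code_ok xhc_ok).1, (code_ok xhc_ok).2.1⟩
theorem okM : InR xmc ∧ D xmc ∈ leechLattice := ⟨(code_ok xmc_ok).1, (code_ok xmc_ok).2.1⟩

theorem normU : sqNorm ((DL u0c : LV) : GolayPt → ℤ) = 48 := by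
  rw [DL_coe okU.2]; simpa using (code_ok u0c_ok).2.2

theorem ok1 : ∀ b ∈ [u0c], InR b ∧ D b ∈ leechLattice := by
  intro b hb; simp only [List.mem_cons, List.not_mem_nil, or_false] at hb; subst hb; exact okU

theorem ok2 : ∀ b ∈ [u0c, v0c], InR b ∧ D b ∈ leechLattice := by
  intro b hb; simp only [List.mem_cons, List.not_mem_nil, or_false] at hb
  rcases hb with rfl | rfl
  exacts [okU, okV]

theorem ok3 : ∀ b ∈ [u0c, v0c, x0c], InR b ∧ D b ∈ leechLattice := by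
  intro b hb; simp only [List.mem_cons, List.not_mem_nil, or_false] at hb
  rcases hb with rfl | rfl | rfl
  exacts [okU, okV, okX]

/-! ### general facts on frames `[u]` -/

theorem set24 (u : LV) (hu : sqNorm (u : GolayPt → ℤ) = 48) :
    {v : LV | sqNorm (v : GolayPt → ℤ) = 32 ∧ sqNorm ((u : GolayPt → ℤ) - (v : GolayPt → ℤ)) = 32} =
      C [u] [24] := by
  ext v
  simp only [C, dots, Set.mem_ofPred_eq, List.map_cons, List.map_nil, List.cons.injEq, and_true]
  rw [sqNorm_sub, hu]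
  constructor
  · rintro ⟨h1, h2⟩; exact ⟨h1, by omega⟩
  · rintro ⟨h1, h2⟩; exact ⟨h1, by omega⟩

theorem trans24 (u : LV) (hu : sqNorm (u : GolayPt → ℤ) = 48) : Trans [u] [24] := by
  intro x hx x' hx'
  rw [← set24 u hu] at hx hx'
  obtain ⟨g, h1, h2⟩ := uv_trans u x u x' hu hx.1 hx.2 hu hx'.1 hx'.2
  refine ⟨g, ?_, h2⟩
  intro b hb
  simp only [List.mem_cons, List.not_mem_nil, or_false] at hb
  rw [hb, h1]

theorem mvU (u : LV) (hu : sqNorm (u : GolayPt → ℤ) = 48) : ∃ g : ↥Co0, mv g [u] = [DL u0c] := by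
  obtain ⟨g, hg⟩ := n48_trans u (DL u0c) hu normU
  exact ⟨g, by simp [mv, hg]⟩

/-! ### the 552 vectors -/

theorem hc1 : ∀ m, InR m → (Helper33LL24.cnd m = true ↔ dotsC [u0c] (D m) = [24]) :=
  hc_one u0c 24 _ (hU 472 24 (by norm_num))

set_option maxRecDepth 100000 in
theorem len552 : Helper33LL24.lst.length = 552 := by decide +kernel

theorem n552 : (C [DL u0c] [24]).ncard = 552 := by
  have := base_ncard [u0c] (fun b hb => (ok1 b hb).2) [24] _ hc1
  rw [Helper33LL24.lst_eq, len552] at this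
  exact this

theorem V_mem : DL v0c ∈ C [DL u0c] [24] :=
  mem_base [u0c] (fun b hb => (ok1 b hb).2) [24] _ hc1 v0c v0c_ok (by decide +kernel)

theorem mvUV (u v : LV) (hu : sqNorm (u : GolayPt → ℤ) = 48) (hv : v ∈ C [u] [24]) :
    ∃ g : ↥Co0, mv g [u, v] = [DL u0c, DL v0c] := by
  obtain ⟨g, hg⟩ := mvU u hu
  exact ext_mv g [u] [DL u0c] [24] v (DL v0c) hg (trans24 _ normU) hv V_mem

/-! ### the 275 vectors -/

theorem hc2 : ∀ m, InR m → ((Helper33LL24.cnd m && Helper33LR275.q m) = true ↔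
    dotsC [u0c, v0c] (D m) = [24, 16]) :=
  hc_cons u0c 24 _ (hU 472 24 (by norm_num)) [v0c] [16] _ (hc_one v0c 16 _ (hV 36 16 (by norm_num)))

set_option maxRecDepth 100000 in
theorem len275 : (Helper33LL24.lst.filter Helper33LR275.q).length = 275 := by decide +kernel

theorem n275 : (C [DL u0c, DL v0c] [24, 16]).ncard = 275 := by
  have := base_ncard [u0c, v0c] (fun b hb => (ok2 b hb).2) [24, 16] _ hc2
  rw [filter_and _ _ _ Helper33LL24.lst_eq, len275] at this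
  exact this

theorem T275 : Trans [DL u0c, DL v0c] [24, 16] := fun y hy y' hy' =>
  base_reach [u0c, v0c] [u0c, v0c] ok2 (fun _ h => h) [24, 16] Helper33LGMcL.gens Helper33LR275.ent
    Helper33LR275.cls Helper33LR275.rootOf Helper33LGMcL.gens_ok _ hc2
    (forall_of_lst _ _ _ _ Helper33LL24.lst_eq Helper33LR275.chk) y hy y' hy' (show (0 : ℕ) = 0 from rfl)

theorem X_mem : DL x0c ∈ C [DL u0c, DL v0c] [24, 16] :=
  mem_base [u0c, v0c] (fun b hb => (ok2 b hb).2) [24, 16] _ hc2 x0c x0c_ok (by decide +kernel)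

theorem mvUVX (u v x : LV) (hu : sqNorm (u : GolayPt → ℤ) = 48) (hv : v ∈ C [u] [24])
    (hx : x ∈ C [u, v] [24, 16]) : ∃ g : ↥Co0, mv g [u, v, x] = [DL u0c, DL v0c, DL x0c] := by
  obtain ⟨g, hg⟩ := mvUV u v hu hv
  exact ext_mv g [u, v] [DL u0c, DL v0c] [24, 16] x (DL x0c) hg T275 hx X_mem

/-! ### the stabiliser of a point among the 275 -/

theorem TX (k : ℤ) : Trans [DL u0c, DL v0c, DL x0c] [24, 16, k] :=
  trans_of_reach [u0c, v0c] x0c okX.2 [24, 16] rfl Helper33LR275x.cls (fun m hm => kX_eq m hm)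
    (base_reach [u0c, v0c, x0c] [u0c, v0c] ok3 (fun _ hb => List.mem_append_left [x0c] hb) [24, 16]
      Helper33LGU43.gens Helper33LR275x.ent Helper33LR275x.cls Helper33LR275x.rootOf
      Helper33LGU43.gens_ok _ hc2 (forall_of_lst _ _ _ _ Helper33LL24.lst_eq Helper33LR275x.chk)) k

theorem hc3 (s : ℕ) (k : ℤ) (h : 4 * (s : ℤ) - 128 = k) :
    ∀ m, InR m → ((Helper33LL24.cnd m && (cV 36 m && cX s m)) = true ↔
    dotsC [u0c, v0c, x0c] (D m) = [24, 16, k]) :=
  hc_cons u0c 24 _ (hU 472 24 (by norm_num)) [v0c, x0c] [16, k] _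
    (hc_cons v0c 16 _ (hV 36 16 (by norm_num)) [x0c] [k] _ (hc_one x0c k _ (hX s k h)))

set_option maxRecDepth 100000 in
theorem len112 : (Helper33LL24.lst.filter (fun m => cV 36 m && cX 34 m)).length = 112 := by
  decide +kernel

set_option maxRecDepth 100000 in
theorem len162 : (Helper33LL24.lst.filter (fun m => cV 36 m && cX 36 m)).length = 162 := by
  decide +kernel

theorem n112 : (C [DL u0c, DL v0c, DL x0c] [24, 16, 8]).ncard = 112 := by
  have := base_ncard [u0c, v0c, x0c] (fun b hb => (ok3 b hb).2) [24, 16, 8] _ (hc3 34 8 (by norm_num))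
  rw [filter_and _ _ _ Helper33LL24.lst_eq, len112] at this
  exact this

theorem n162 : (C [DL u0c, DL v0c, DL x0c] [24, 16, 16]).ncard = 162 := by
  have := base_ncard [u0c, v0c, x0c] (fun b hb => (ok3 b hb).2) [24, 16, 16] _ (hc3 36 16 (by norm_num))
  rw [filter_and _ _ _ Helper33LL24.lst_eq, len162] at this
  exact this

end Cfsg.Agent.Lib.Helper33LMcL
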