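import Cfsg.Agent.Lib.Helper33LCo0
import Cfsg.Agent.Lib.Helper33Sets

/-! # Enumeration of the minimal vectors of the rank-24 lattice (helper33) -/

set_option autoImplicit false
set_option exponentiation.threshold 2000

namespace Cfsg.Agent.Lib.Helper33LMin

open Cfsg Cfsg.Agent.Lib.Helper33Golay Cfsg.Agent.Lib.Helper33Pack Cfsg.Agent.Lib.Helper33LVec
open Cfsg.Agent.Lib.Helper94Leech Cfsg.Agent.Lib.Helper33Sets
open Cfsg.Agent.Lib.Helper9Golay2 (Csup eight_le_card)

/-! ### submasks -/

def subsAux (S : ℕ) : ℕ → List ℕ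
  | 0 => [0]
  | i + 1 => bif Nat.beq (bit S i) 1 then
      subsAux S i ++ (subsAux S i).map (fun t => Nat.add t (Nat.shiftLeft 1 i)) else subsAux S i

/-- all submasks of a 24-bit mask -/
def subs (S : ℕ) : List ℕ := subsAux S 24

theorem mem_subsAux (S : ℕ) : ∀ (i t : ℕ), t < 2 ^ i → (∀ j, t.testBit j = true → S.testBit j = true) →
    t ∈ subsAux S i := by
  intro i
  induction i with
  | zero => intro t ht _; simp [subsAux]; omega
  | succ i ih =>
    intro t ht hsub
    have hq : t / 2 ^ i < 2 := Nat.div_lt_of_lt_mul (by rw [pow_succ] at ht; omega)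
    have hdm := Nat.div_add_mod t (2 ^ i)
    have hmod : t % 2 ^ i < 2 ^ i := Nat.mod_lt _ (by positivity)
    have hsub' : ∀ j, (t % 2 ^ i).testBit j = true → S.testBit j = true := by
      intro j hj
      rw [Nat.testBit_mod_two_pow] at hj
      simp only [Bool.and_eq_true, decide_eq_true_eq] at hj
      exact hsub j hj.2
    have hb : t.testBit i = decide (t / 2 ^ i % 2 = 1) := Nat.testBit_eq_decide_div_mod_eq
    have ih' := ih _ hmod hsub'
    have ih'' := fun h => ih t h hsub
    generalize t / 2 ^ i = q at hq hdm hb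
    generalize t % 2 ^ i = r at hdm hmod ih'
    unfold subsAux
    by_cases hti : q = 1
    · have h1 : t.testBit i = true := by rw [hb, hti]; rfl
      have h2 : bit S i = 1 := by rw [bit_eq, hsub i h1]; rfl
      have hbq : Nat.beq 1 1 = true := rfl
      rw [h2, hbq]
      simp only [cond_true, List.mem_append, List.mem_map]
      right
      refine ⟨r, ih', ?_⟩
      show r + 1 <<< i = t
      rw [Nat.shiftLeft_eq, one_mul]
      rw [hti] at hdm; omega
    · have h0 : q = 0 := by omega
      have hlt : t < 2 ^ i := by rw [h0] at hdm; omega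
      have := ih'' hlt
      cases Nat.beq (bit S i) 1
      · simpa using this
      · simp only [cond_true, List.mem_append]; exact Or.inl this

theorem enc_mem_subs {N S : Finset GolayPt} (h : N ⊆ S) : enc N ∈ subs (enc S) := by
  apply mem_subsAux _ _ _ (enc_lt N)
  intro j hj
  by_cases hj24 : j < 24
  · have h1 := testBit_enc N (pt j)
    have h2 := testBit_enc S (pt j)
    rw [idx_pt hj24] at h1 h2
    rw [h1] at hj
    rw [h2]
    simp only [decide_eq_true_eq] at hj ⊢
    exact h hj
  · have : (enc N).testBit j = false :=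
      Nat.testBit_lt_two_pow (lt_of_lt_of_le (enc_lt _) (Nat.pow_le_pow_right (by decide) (by omega)))
    rw [this] at hj; exact absurd hj (by simp)

/-! ### the three families -/

/-- `a` on `S \ N`, `-a` on `N`, zero elsewhere -/
def mkS (a S N : ℕ) : ℕ :=
  Nat.sub (Nat.add (Nat.mul 16 ONES) (Nat.mul a (spK S))) (Nat.mul (Nat.mul 2 a) (spK N))

theorem mkS_eq (a S N : ℕ) (ha : a ≤ 8) (hS : S < 2 ^ 24) (hN : N < 2 ^ 24) :
    mkS a S N = pk 32 (fun i => 16 + a * bit S i - 2 * a * bit N i) 24 := by
  show 16 * ONES + a * spK S - 2 * a * spK N = _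
  rw [pk_sub, pk_add, pk_const, pk_smul, pk_smul, spK_eq S hS, spK_eq N hN]
  intro i _
  have := bit_lt N i
  have h1 : bit N i ≤ 1 := by omega
  calc 2 * a * bit N i ≤ 2 * a * 1 := Nat.mul_le_mul_left _ h1
    _ ≤ 16 + a * bit S i := by omega

theorem bit_enc (s : Finset GolayPt) (p : GolayPt) : bit (enc s) (idx p) = if p ∈ s then 1 else 0 := by
  rw [bit_eq, testBit_enc]
  by_cases h : p ∈ s <;> simp [h]

theorem fields_mkS (a : ℕ) (ha : a ≤ 8) (S N i : ℕ) : 16 + a * bit S i - 2 * a * bit N i < 32 := by
  have h1 := bit_lt S i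
  have : a * bit S i ≤ 8 * 1 := Nat.mul_le_mul ha (by omega)
  omega

theorem InR_mkS (a S N : ℕ) (ha : a ≤ 8) (hS : S < 2 ^ 24) (hN : N < 2 ^ 24) : InR (mkS a S N) := by
  rw [mkS_eq a S N ha hS hN]
  exact InR_pk _ (fun i _ => fields_mkS a ha S N i)

theorem D_mkS (a : ℕ) (ha : a ≤ 8) (S N : Finset GolayPt) (p : GolayPt) :
    D (mkS a (enc S) (enc N)) p =
      (a : ℤ) * (if p ∈ S then 1 else 0) - 2 * a * (if p ∈ N then 1 else 0) := by
  rw [mkS_eq a _ _ ha (enc_lt S) (enc_lt N), D_pk]
  · rw [bit_enc, bit_enc]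
    split_ifs <;> simp <;> omega
  · intro i _
    exact lt_trans (fields_mkS a ha _ _ i) (by norm_num)

/-- `1` off `c`, `-1` on `c`, except `∓3` at position `q` -/
def mkC (c q : ℕ) : ℕ :=
  Nat.add (Nat.sub (Nat.sub (Nat.mul 17 ONES) (Nat.mul 2 (spK c))) (Nat.shiftLeft 4 (Nat.mul 32 q)))
    (Nat.shiftLeft (Nat.mul 8 (bit c q)) (Nat.mul 32 q))

theorem mkC_eq (c q : ℕ) (hc : c < 2 ^ 24) (hq : q < 24) :
    mkC c q = pk 32 (fun i => 17 - 2 * bit c i - (if i = q then 4 else 0) +
      (if i = q then 8 * bit c q else 0)) 24 := by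
  show 17 * ONES - 2 * spK c - 4 <<< (32 * q) + (8 * bit c q) <<< (32 * q) = _
  rw [pk_add, pk_sub, pk_sub, pk_const, pk_smul, spK_eq c hc, pk_single 32 24 q _ hq,
    pk_single 32 24 q _ hq, Nat.shiftLeft_eq, Nat.shiftLeft_eq]
  · intro i _
    have := bit_lt c i
    omega
  · intro i _
    have := bit_lt c i
    split_ifs <;> omega

theorem fields_mkC (c q i : ℕ) : 17 - 2 * bit c i - (if i = q then 4 else 0) +
      (if i = q then 8 * bit c q else 0) < 32 := by
  have := bit_lt c i
  have := bit_lt c q
  split_ifs <;> omega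

theorem InR_mkC (c q : ℕ) (hc : c < 2 ^ 24) (hq : q < 24) : InR (mkC c q) := by
  rw [mkC_eq c q hc hq]
  exact InR_pk _ (fun i _ => fields_mkC c q i)

theorem D_mkC (C : Finset GolayPt) (q p : GolayPt) :
    D (mkC (enc C) (idx q)) p = 1 - 2 * (if p ∈ C then 1 else 0) +
      (if p = q then (8 * (if q ∈ C then 1 else 0) - 4) else 0) := by
  rw [mkC_eq _ _ (enc_lt C) (idx_lt q), D_pk]
  · rw [bit_enc, bit_enc]
    by_cases hpq : p = q
    · subst hpq
      simp only [if_true]
      split_ifs <;> simp
    · have : idx p ≠ idx q := fun h => hpq (idx_injective h)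
      simp only [this, hpq, if_false]
      split_ifs <;> simp
  · intro i _
    exact lt_trans (fields_mkC _ _ i) (by norm_num)

/-- the list of (codes of) all minimal vectors -/
def minA : List ℕ := duadL.flatMap (fun d => (subs d).map (mkS 4 d))

def minB : List ℕ :=
  octL.flatMap (fun o => ((subs o).filter (fun N => Nat.beq (Nat.mod (pop N) 2) 0)).map (mkS 2 o))

def minC : List ℕ := (List.range 4096).flatMap (fun k => (List.range 24).map (mkC (encode k)))

def minL : List ℕ := minA ++ minB ++ minC

theorem sq_le_sqNorm (x : GolayPt → ℤ) (p : GolayPt) : x p ^ 2 ≤ sqNorm x :=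
  Finset.single_le_sum (f := fun i => x i ^ 2) (fun j _ => sq_nonneg (x j)) (Finset.mem_univ p)

theorem code_eq_of_D {x : GolayPt → ℤ} {c : ℕ} (hc : InR c) (h : x = D c) : code x = c := by
  rw [h, code_D c hc]

theorem sum_ind2 (a b : ℤ) (S T : Finset GolayPt) :
    ∑ p, (a * (if p ∈ S then 1 else 0) + b * (if p ∈ T then 1 else 0)) = a * S.card + b * T.card := by
  rw [Finset.sum_add_distrib, ← Finset.mul_sum, ← Finset.mul_sum, sum_ind, sum_ind]

theorem min_complete (x : GolayPt → ℤ) (hx : x ∈ leechLattice) (hn : sqNorm x = 32) :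
    code x ∈ minL := by
  have hb : ∀ p, -5 ≤ x p ∧ x p ≤ 5 := by
    intro p
    have := sq_le_sqNorm x p
    rw [hn] at this
    constructor <;> nlinarith
  rw [mem_leechLattice_iff, mem_leechSet_iff] at hx
  obtain ⟨m, h1, h2, h3⟩ := hx
  unfold minL
  rcases Int.emod_two_eq_zero_or_one m with hm | hm
  · by_cases hS : cls x 2 = ∅
    · -- shape (±4, ±4, 0, …)
      have hval : ∀ p, x p = -4 ∨ x p = 0 ∨ x p = 4 := by
        intro p
        have hp : p ∉ cls x 2 := by rw [hS]; simp
        rw [mem_cls] at hp
        have := h1 p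
        have := hb p
        omega
      set T := Finset.univ.filter (fun p => x p ≠ 0) with hT
      set N := Finset.univ.filter (fun p => x p < 0) with hN
      have hsq : ∀ p, x p ^ 2 = 16 * (if p ∈ T then 1 else 0) + 0 * (if p ∈ T then 1 else 0) := by
        intro p
        rcases hval p with h | h | h <;> simp [hT, h]
      have hcard : T.card = 2 := by
        have : sqNorm x = 16 * T.card + 0 * T.card := by
          unfold sqNorm
          rw [Finset.sum_congr rfl (fun p _ => hsq p), sum_ind2]
        rw [hn] at this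
        omega
      have hD : x = D (mkS 4 (enc T) (enc N)) := by
        funext p
        rw [D_mkS 4 (by norm_num)]
        rcases hval p with h | h | h <;> simp [hT, hN, h]
      rw [code_eq_of_D (InR_mkS 4 _ _ (by norm_num) (enc_lt _) (enc_lt _)) hD]
      apply List.mem_append_left
      apply List.mem_append_left
      unfold minA
      rw [List.mem_flatMap]
      refine ⟨enc T, (card_eq_2_iff T).1 hcard, List.mem_map.2 ⟨enc N, enc_mem_subs ?_, rfl⟩⟩
      intro p hp
      simp only [hN, hT, Finset.mem_filter, Finset.mem_univ, true_and] at hp ⊢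
      omega
    · -- shape (±2^8, 0^16)
      have h8 := eight_le_card (h3 2) hS
      set S := cls x 2 with hSdef
      have hval : ∀ p, (p ∈ S ∧ (x p = 2 ∨ x p = -2)) ∨ (p ∉ S ∧ (x p = -4 ∨ x p = 0 ∨ x p = 4)) := by
        intro p
        have := h1 p
        have := hb p
        by_cases hp : p ∈ S
        · left; refine ⟨hp, ?_⟩
          rw [hSdef, mem_cls] at hp; omega
        · right; refine ⟨hp, ?_⟩
          rw [hSdef, mem_cls] at hp; omega
      set T := Finset.univ.filter (fun p => x p = 4 ∨ x p = -4) with hT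
      set N := Finset.univ.filter (fun p => x p < 0) with hN
      have hsq : ∀ p, x p ^ 2 = 4 * (if p ∈ S then 1 else 0) + 16 * (if p ∈ T then 1 else 0) := by
        intro p
        rcases hval p with ⟨hp, h | h⟩ | ⟨hp, h | h | h⟩ <;> simp [hT, h, hp]
      have hcard : S.card = 8 ∧ T.card = 0 := by
        have : sqNorm x = 4 * S.card + 16 * T.card := by
          unfold sqNorm
          rw [Finset.sum_congr rfl (fun p _ => hsq p), sum_ind2]
        rw [hn] at this
        omega
      have hT0 : ∀ p, p ∉ T := by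
        intro p
        rw [Finset.card_eq_zero.1 hcard.2]; simp
      have hval' : ∀ p, (p ∈ S ∧ (x p = 2 ∨ x p = -2)) ∨ (p ∉ S ∧ x p = 0) := by
        intro p
        have h0 := hT0 p
        simp only [hT, Finset.mem_filter, Finset.mem_univ, true_and] at h0
        rcases hval p with h | ⟨hp, h⟩
        · exact Or.inl h
        · right; refine ⟨hp, ?_⟩; omega
      have hx2 : ∀ p, x p = 2 * (if p ∈ S then 1 else 0) + (-4) * (if p ∈ N then 1 else 0) := by
        intro p
        rcases hval' p with ⟨hp, h | h⟩ | ⟨hp, h⟩ <;> simp [hN, h, hp]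
      have hD : x = D (mkS 2 (enc S) (enc N)) := by
        funext p
        rw [D_mkS 2 (by norm_num), hx2 p]
        push_cast; ring
      have hpar : N.card % 2 = 0 := by
        have : ∑ p, x p = 2 * S.card + (-4) * N.card := by
          rw [Finset.sum_congr rfl (fun p _ => hx2 p), sum_ind2]
        rw [this, hcard.1] at h2
        omega
      rw [code_eq_of_D (InR_mkS 2 _ _ (by norm_num) (enc_lt _) (enc_lt _)) hD]
      apply List.mem_append_left
      apply List.mem_append_right
      unfold minB
      rw [List.mem_flatMap]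
      refine ⟨enc S, (mem_octads_iff S).1 ⟨h3 2, hcard.1⟩, List.mem_map.2 ⟨enc N, ?_, rfl⟩⟩
      rw [List.mem_filter]
      refine ⟨enc_mem_subs ?_, ?_⟩
      · intro p hp
        simp only [hN, Finset.mem_filter, Finset.mem_univ, true_and] at hp
        rcases hval' p with ⟨hp', _⟩ | ⟨_, h⟩
        · exact hp'
        · omega
      · rw [← card_eq_pop]
        show Nat.beq (N.card % 2) 0 = true
        rw [hpar]; rfl
  · -- shape (∓3, ±1^23)
    have hval : ∀ p, x p = -5 ∨ x p = -3 ∨ x p = -1 ∨ x p = 1 ∨ x p = 3 ∨ x p = 5 := by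
      intro p
      have := h1 p
      have := hb p
      omega
    set T3 := Finset.univ.filter (fun p => x p = 3 ∨ x p = -3) with hT3
    set T5 := Finset.univ.filter (fun p => x p = 5 ∨ x p = -5) with hT5
    set C := cls x 3 with hC
    have hsq : ∀ p, x p ^ 2 = 1 + (8 * (if p ∈ T3 then 1 else 0) + 24 * (if p ∈ T5 then 1 else 0)) := by
      intro p
      rcases hval p with h | h | h | h | h | h <;> simp [hT3, hT5, h]
    have hcard : T3.card = 1 ∧ T5.card = 0 := by
      have : sqNorm x = 24 + (8 * T3.card + 24 * T5.card) := by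
        unfold sqNorm
        rw [Finset.sum_congr rfl (fun p _ => hsq p), Finset.sum_add_distrib, sum_ind2,
          Finset.sum_const, card_pts]
        norm_num
      rw [hn] at this
      omega
    obtain ⟨q, hq⟩ := Finset.card_eq_one.1 hcard.1
    have hT50 : ∀ p, p ∉ T5 := by
      intro p
      rw [Finset.card_eq_zero.1 hcard.2]; simp
    have hD : x = D (mkC (enc C) (idx q)) := by
      funext p
      rw [D_mkC]
      have h5 := hT50 p
      simp only [hT5, Finset.mem_filter, Finset.mem_univ, true_and] at h5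
      have h3' : p ∈ T3 ↔ p = q := by rw [hq]; simp
      simp only [hT3, Finset.mem_filter, Finset.mem_univ, true_and] at h3'
      have hCp : p ∈ C ↔ x p % 4 = 3 := by rw [hC, mem_cls]; norm_num
      by_cases hpq : p = q
      · subst hpq
        have := h3'.2 rfl
        simp only [if_true]
        by_cases hpC : p ∈ C
        · simp only [hpC, if_true]
          have := hCp.1 hpC
          omega
        · simp only [hpC, if_false]
          have hne : ¬ (x p % 4 = 3) := fun h => hpC (hCp.2 h)
          omega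
      · have hn3 : ¬ (x p = 3 ∨ x p = -3) := fun h => hpq (h3'.1 h)
        simp only [hpq, if_false]
        by_cases hpC : p ∈ C
        · simp only [hpC, if_true]
          have := hCp.1 hpC
          rcases hval p with h | h | h | h | h | h <;> omega
        · simp only [hpC, if_false]
          have hne : ¬ (x p % 4 = 3) := fun h => hpC (hCp.2 h)
          rcases hval p with h | h | h | h | h | h <;> omega
    rw [code_eq_of_D (InR_mkC _ _ (enc_lt _) (idx_lt _)) hD]
    apply List.mem_append_right
    unfold minC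
    rw [List.mem_flatMap]
    have hcode : isCode (enc C) = true := (mem_supports_iff _).1 (h3 3)
    refine ⟨enc C % 4096, List.mem_range.2 (Nat.mod_lt _ (by norm_num)),
      List.mem_map.2 ⟨idx q, List.mem_range.2 (idx_lt q), ?_⟩⟩
    rw [encode_mod, isCode_iff.1 hcode]

end Cfsg.Agent.Lib.Helper33LMin
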