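import Cfsg.Agent.Lib.Helper33LMinData

set_option autoImplicit false
set_option exponentiation.threshold 2000

open Cfsg Cfsg.Agent.Lib.Helper33Golay Cfsg.Agent.Lib.Helper33LVec Cfsg.Agent.Lib.Helper33LMat
open Cfsg.Agent.Lib.Helper33LTest Cfsg.Agent.Lib.Helper33LCo0 Cfsg.Agent.Lib.Helper33LMin
open Cfsg.Agent.Lib.Helper33LReach Cfsg.Agent.Lib.Helper33Sets

namespace Cfsg.Agent.Lib.Helper33LMinChk3

open Cfsg.Agent.Lib.Helper33LMinData

set_option maxRecDepth 100000 in
theorem chkB_3 : ((octL.drop (3 * 96)).take 96).all (fun o => (((subs o).filter (fun N => Nat.beq (Nat.mod (pop N) 2) 0)).map (mkS 2 o)).all chk0) = true := by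
  decide +kernel

set_option maxRecDepth 100000 in
theorem chkB_7 : ((octL.drop (7 * 96)).take 96).all (fun o => (((subs o).filter (fun N => Nat.beq (Nat.mod (pop N) 2) 0)).map (mkS 2 o)).all chk0) = true := by
  decide +kernel

theorem chkC_3 : (((List.range 4096).drop (3 * 512)).take 512).all (fun k => ((List.range 24).map (mkC (encode k))).all chk0) = true := by
  decide +kernel

theorem chkC_7 : (((List.range 4096).drop (7 * 512)).take 512).all (fun k => ((List.range 24).map (mkC (encode k))).all chk0) = true := by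
  decide +kernel

end Cfsg.Agent.Lib.Helper33LMinChk3
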