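import Cfsg.Agent.Lib.Helper33LMinChk0
import Cfsg.Agent.Lib.Helper33LMinChk1
import Cfsg.Agent.Lib.Helper33LMinChk2
import Cfsg.Agent.Lib.Helper33LMinChk3

/-! # The automorphism group of the rank-24 lattice is transitive on minimal vectors (helper33) -/

set_option autoImplicit false
set_option exponentiation.threshold 2000

open Cfsg Cfsg.Agent.Lib.Helper33Golay Cfsg.Agent.Lib.Helper33LVec Cfsg.Agent.Lib.Helper33LMat
open Cfsg.Agent.Lib.Helper33LTest Cfsg.Agent.Lib.Helper33LCo0 Cfsg.Agent.Lib.Helper33LMin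
open Cfsg.Agent.Lib.Helper33LReach Cfsg.Agent.Lib.Helper33Sets

namespace Cfsg.Agent.Lib.Helper33LMinTrans

open Cfsg.Agent.Lib.Helper33LMinData
open Cfsg.Agent.Lib.Helper33LMinChk0 Cfsg.Agent.Lib.Helper33LMinChk1
open Cfsg.Agent.Lib.Helper33LMinChk2 Cfsg.Agent.Lib.Helper33LMinChk3

theorem chkB : octL.all (fun o => (((subs o).filter (fun N => Nat.beq (Nat.mod (pop N) 2) 0)).map
    (mkS 2 o)).all chk0) = true := by
  apply all_of_chunks _ 96 8 _ (by rw [octL_length]; norm_num)
  intro j hj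
  interval_cases j
  exacts [chkB_0, chkB_1, chkB_2, chkB_3, chkB_4, chkB_5, chkB_6, chkB_7]

theorem chkC : (List.range 4096).all (fun k => ((List.range 24).map (mkC (encode k))).all chk0) = true := by
  apply all_of_chunks _ 512 8 _ (by rw [List.length_range])
  intro j hj
  interval_cases j
  exacts [chkC_0, chkC_1, chkC_2, chkC_3, chkC_4, chkC_5, chkC_6, chkC_7]

theorem chk_all (m : ℕ) (hm : m ∈ minL) : chk0 m = true := by
  unfold minL at hm
  rw [List.mem_append, List.mem_append] at hm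
  rcases hm with (hm | hm) | hm
  · exact List.all_eq_true.1 chkA m hm
  · unfold minB at hm
    obtain ⟨o, ho, hm⟩ := List.mem_flatMap.1 hm
    exact List.all_eq_true.1 (List.all_eq_true.1 chkB o ho) m hm
  · unfold minC at hm
    obtain ⟨k, hk, hm⟩ := List.mem_flatMap.1 hm
    exact List.all_eq_true.1 (List.all_eq_true.1 chkC k hk) m hm

theorem bound_of_sqNorm {x : GolayPt → ℤ} {n : ℤ} (h : sqNorm x = n) (hn : n ≤ 255) (p : GolayPt) :
    -16 ≤ x p ∧ x p < 16 := by
  have := sq_le_sqNorm x p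
  rw [h] at this
  constructor <;> nlinarith

theorem mem_minL_of {m : ℕ} (hm : InR m) (hL : D m ∈ leechLattice) (hn : sqNorm (D m) = 32) :
    m ∈ minL := by
  have := min_complete (D m) hL hn
  rwa [code_D m hm] at this

/-- transitivity on minimal vectors -/
theorem min_trans (v w : ↥leechLattice) (hv : sqNorm (v : GolayPt → ℤ) = 32)
    (hw : sqNorm (w : GolayPt → ℤ) = 32) : ∃ g : ↥Co0, g • v = w := by
  have hbv := bound_of_sqNorm hv (by norm_num)
  have hbw := bound_of_sqNorm hw (by norm_num)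
  obtain ⟨g, -, hg⟩ := reach_of_chkL ⊤ {x | x ∈ leechLattice ∧ sqNorm x = 32} gens0 dflt0 ent0
    (fun _ => 0) (fun _ => root0)
    (fun P hP => ⟨List.all_eq_true.1 gens0_good P hP, Subgroup.mem_top _⟩)
    (fun x hx => hx.1)
    (fun g _ v hv => ⟨(g • v).2, by rw [sqNorm_smul']; exact hv.2⟩)
    (fun m hm hmS => chk_all m (mem_minL_of hm hmS.1 hmS.2))
    (code v.1) (code w.1) (InR_code _ hbv) (by rw [D_code _ hbv]; exact ⟨v.2, hv⟩)
    (InR_code _ hbw) (by rw [D_code _ hbw]; exact ⟨w.2, hw⟩) rfl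
  rw [DL_code v hbv, DL_code w hbw] at hg
  exact ⟨g, hg⟩

end Cfsg.Agent.Lib.Helper33LMinTrans
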