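import Cfsg.Agent.Lib.Helper33LReach

/-! # The list of minimal vectors has no repetition (helper33) -/

set_option autoImplicit false
set_option exponentiation.threshold 2000

namespace Cfsg.Agent.Lib.Helper33LNodup

open Cfsg Cfsg.Agent.Lib.Helper33Golay Cfsg.Agent.Lib.Helper33Pack Cfsg.Agent.Lib.Helper33LVec
open Cfsg.Agent.Lib.Helper33LMin Cfsg.Agent.Lib.Helper33Sets

theorem nodup_flatMap_map (L : List ℕ) (K : ℕ → List ℕ) (f : ℕ → ℕ → ℕ) (hL : L.Nodup)
    (hK : ∀ a ∈ L, (K a).Nodup)
    (hinj : ∀ a ∈ L, ∀ b ∈ K a, ∀ a' ∈ L, ∀ b' ∈ K a', f a b = f a' b' → a = a' ∧ b = b') :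
    (L.flatMap (fun a => (K a).map (f a))).Nodup := by
  rw [List.nodup_flatMap]
  constructor
  · intro a ha
    exact (hK a ha).map_on (fun b hb b' hb' h => (hinj a ha b hb a ha b' hb' h).2)
  · apply List.Pairwise.imp_of_mem _ hL
    intro a a' ha ha' hne
    show List.Disjoint _ _
    intro c hc hc'
    obtain ⟨b, hb, rfl⟩ := List.mem_map.1 hc
    obtain ⟨b', hb', h⟩ := List.mem_map.1 hc'
    exact hne (hinj a ha b hb a' ha' b' hb' h.symm).1

theorem subsAux_sound (S : ℕ) : ∀ (i t : ℕ), t ∈ subsAux S i →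
    t < 2 ^ i ∧ ∀ j, t.testBit j = true → S.testBit j = true := by
  intro i
  induction i with
  | zero =>
    intro t ht
    simp only [subsAux, List.mem_singleton] at ht
    subst ht
    simp
  | succ i ih =>
    intro t ht
    unfold subsAux at ht
    have hpow : 2 ^ i < 2 ^ (i + 1) := Nat.pow_lt_pow_right (by norm_num) (by omega)
    cases hb : Nat.beq (bit S i) 1
    · rw [hb, cond_false] at ht
      exact ⟨lt_trans (ih t ht).1 hpow, (ih t ht).2⟩
    · rw [hb, cond_true, List.mem_append] at ht
      rcases ht with ht | ht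
      · exact ⟨lt_trans (ih t ht).1 hpow, (ih t ht).2⟩
      · obtain ⟨t', ht', rfl⟩ := List.mem_map.1 ht
        obtain ⟨h1, h2⟩ := ih t' ht'
        have e : Nat.add t' (Nat.shiftLeft 1 i) = 2 ^ i * 1 ||| t' := by
          rw [← Nat.two_pow_add_eq_or_of_lt h1]
          show t' + 1 <<< i = _
          rw [Nat.shiftLeft_eq]; ring
        constructor
        · show t' + 1 <<< i < _
          rw [Nat.shiftLeft_eq, pow_succ]; omega
        · intro j hj
          rw [e, Nat.testBit_or, mul_one, Nat.testBit_two_pow, Bool.or_eq_true] at hj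
          rcases hj with hj | hj
          · simp only [decide_eq_true_eq] at hj
            subst hj
            have h3 : bit S i = 1 := Nat.eq_of_beq_eq_true hb
            rw [bit_eq] at h3
            cases hS : S.testBit i
            · rw [hS] at h3; simp at h3
            · rfl
          · exact h2 j hj

theorem subsAux_nodup (S : ℕ) : ∀ i, (subsAux S i).Nodup := by
  intro i
  induction i with
  | zero => simp [subsAux]
  | succ i ih =>
    unfold subsAux
    cases Nat.beq (bit S i) 1
    · exact ih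
    · rw [cond_true]
      apply List.Nodup.append ih
      · apply ih.map_on
        intro a _ b _ h
        exact Nat.add_right_cancel h
      · intro a ha hb
        obtain ⟨t', _, rfl⟩ := List.mem_map.1 hb
        have h1 := (subsAux_sound S i _ ha).1
        have h2 : Nat.add t' (Nat.shiftLeft 1 i) = t' + 2 ^ i := by
          show t' + 1 <<< i = _
          rw [Nat.shiftLeft_eq, one_mul]
        rw [h2] at h1
        omega

theorem subs_nodup (S : ℕ) : (subs S).Nodup := subsAux_nodup S 24

theorem subs_sound {S t : ℕ} (h : t ∈ subs S) :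
    t < 2 ^ 24 ∧ ∀ j, t.testBit j = true → S.testBit j = true := subsAux_sound S 24 t h

theorem eq_of_bits {a b : ℕ} (ha : a < 2 ^ 24) (hb : b < 2 ^ 24) (h : ∀ i < 24, bit a i = bit b i) :
    a = b := by
  apply Nat.eq_of_testBit_eq
  intro i
  by_cases hi : i < 24
  · have := h i hi
    rw [bit_eq, bit_eq] at this
    cases h1 : a.testBit i <;> cases h2 : b.testBit i <;> simp [h1, h2] at this ⊢
  · rw [Nat.testBit_lt_two_pow (lt_of_lt_of_le ha (Nat.pow_le_pow_right (by decide) (by omega))),
      Nat.testBit_lt_two_pow (lt_of_lt_of_le hb (Nat.pow_le_pow_right (by decide) (by omega)))]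

theorem bit_le_of_sub {S t : ℕ} (h : ∀ j, t.testBit j = true → S.testBit j = true) (i : ℕ) :
    bit t i ≤ bit S i := by
  rw [bit_eq, bit_eq]
  cases h1 : t.testBit i
  · simp
  · rw [h i h1]

theorem fld_mkS (a S N : ℕ) (ha : a ≤ 8) (hS : S < 2 ^ 24) (hN : N < 2 ^ 24) (i : ℕ) (hi : i < 24) :
    fld (mkS a S N) i = 16 + a * bit S i - 2 * a * bit N i := by
  rw [mkS_eq a S N ha hS hN, fld_pk _ _ i hi]
  intro j _
  exact lt_trans (fields_mkS a ha S N j) (by norm_num)

theorem fld_mkC (c q : ℕ) (hc : c < 2 ^ 24) (hq : q < 24) (i : ℕ) (hi : i < 24) :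
    fld (mkC c q) i = 17 - 2 * bit c i - (if i = q then 4 else 0) +
      (if i = q then 8 * bit c q else 0) := by
  rw [mkC_eq c q hc hq, fld_pk _ _ i hi]
  intro j _
  exact lt_trans (fields_mkC c q j) (by norm_num)

theorem mkS_inj (a : ℕ) (ha0 : 0 < a) (ha : a ≤ 8) {S N S' N' : ℕ} (hS : S < 2 ^ 24) (hS' : S' < 2 ^ 24)
    (hN : N ∈ subs S) (hN' : N' ∈ subs S') (h : mkS a S N = mkS a S' N') : S = S' ∧ N = N' := by
  obtain ⟨n1, n2⟩ := subs_sound hN
  obtain ⟨n1', n2'⟩ := subs_sound hN'
  have key : ∀ i < 24, bit S i = bit S' i ∧ bit N i = bit N' i := by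
    intro i hi
    have e := congrArg (fun X => fld X i) h
    simp only [fld_mkS a _ _ ha hS n1 i hi, fld_mkS a _ _ ha hS' n1' i hi] at e
    have b1 := bit_lt S i
    have b2 := bit_lt S' i
    have b3 := bit_le_of_sub n2 i
    have b4 := bit_le_of_sub n2' i
    generalize bit S i = x at *
    generalize bit S' i = x' at *
    generalize bit N i = y at *
    generalize bit N' i = y' at *
    have c1 : x = 0 ∨ x = 1 := by omega
    have c2 : x' = 0 ∨ x' = 1 := by omega
    have c3 : y = 0 ∨ y = 1 := by omega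
    have c4 : y' = 0 ∨ y' = 1 := by omega
    rcases c1 with rfl | rfl <;> rcases c2 with rfl | rfl <;> rcases c3 with rfl | rfl <;>
      rcases c4 with rfl | rfl <;> omega
  exact ⟨eq_of_bits hS hS' (fun i hi => (key i hi).1), eq_of_bits n1 n1' (fun i hi => (key i hi).2)⟩

theorem mkC_inj {c q c' q' : ℕ} (hc : c < 2 ^ 24) (hc' : c' < 2 ^ 24) (hq : q < 24) (hq' : q' < 24)
    (h : mkC c q = mkC c' q') : c = c' ∧ q = q' := by
  have e : ∀ i < 24, 17 - 2 * bit c i - (if i = q then 4 else 0) + (if i = q then 8 * bit c q else 0) =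
      17 - 2 * bit c' i - (if i = q' then 4 else 0) + (if i = q' then 8 * bit c' q' else 0) := by
    intro i hi
    rw [← fld_mkC c q hc hq i hi, ← fld_mkC c' q' hc' hq' i hi, h]
  have hqq : q = q' := by
    have := e q hq
    have b1 := bit_lt c q
    have b2 := bit_lt c' q
    have b3 := bit_lt c' q'
    by_contra hne
    simp only [if_true, hne, if_false] at this
    omega
  subst hqq
  refine ⟨eq_of_bits hc hc' ?_, rfl⟩
  intro i hi
  have := e i hi
  have b1 := bit_lt c i
  have b2 := bit_lt c' i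
  by_cases hiq : i = q
  · subst hiq
    simp only [if_true] at this
    omega
  · simp only [hiq, if_false] at this
    omega

theorem encode_low_aux : (List.range 4096).all (fun k => Nat.beq (Nat.mod (encode k) 4096) k) = true := by
  decide +kernel

theorem encode_low (k : ℕ) (hk : k < 4096) : Nat.mod (encode k) 4096 = k :=
  Nat.eq_of_beq_eq_true (List.all_eq_true.1 encode_low_aux k (List.mem_range.2 hk))

theorem minA_nodup : minA.Nodup := by
  apply nodup_flatMap_map _ _ _ duadL_nodup (fun a _ => subs_nodup a)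
  intro a ha b hb a' ha' b' hb' h
  exact mkS_inj 4 (by norm_num) (by norm_num) (duadL_lt ha) (duadL_lt ha') hb hb' h

theorem minB_nodup : minB.Nodup := by
  apply nodup_flatMap_map _ _ _ octL_nodup (fun a _ => (subs_nodup a).filter _)
  intro a ha b hb a' ha' b' hb' h
  exact mkS_inj 2 (by norm_num) (by norm_num) (octL_lt ha) (octL_lt ha') (List.mem_filter.1 hb).1
    (List.mem_filter.1 hb').1 h

theorem minC_nodup : minC.Nodup := by
  apply nodup_flatMap_map _ _ (fun k q => mkC (encode k) q) List.nodup_range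
    (fun a _ => List.nodup_range)
  intro a ha b hb a' ha' b' hb' h
  obtain ⟨h1, h2⟩ := mkC_inj (encode_lt a) (encode_lt a') (List.mem_range.1 hb) (List.mem_range.1 hb') h
  refine ⟨?_, h2⟩
  rw [← encode_low a (List.mem_range.1 ha), ← encode_low a' (List.mem_range.1 ha'), h1]

theorem exists_bit {o : ℕ} (ho : o ∈ octL) : ∃ i < 24, bit o i = 1 := by
  have hlt := octL_lt ho
  have hne : o ≠ 0 := by
    rintro rfl
    have := (mem_octL.1 ho).2
    exact absurd this (by decide)
  obtain ⟨i, hi⟩ := Nat.exists_testBit_of_ne_zero hne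
  refine ⟨i, ?_, by rw [bit_eq, hi]; rfl⟩
  by_contra h24
  rw [Nat.testBit_lt_two_pow (lt_of_lt_of_le hlt (Nat.pow_le_pow_right (by decide) (by omega)))] at hi
  exact absurd hi (by simp)

theorem minL_nodup : minL.Nodup := by
  unfold minL
  apply List.Nodup.append (List.Nodup.append minA_nodup minB_nodup ?_) minC_nodup ?_
  · intro c hA hB
    unfold minA at hA
    unfold minB at hB
    obtain ⟨d, hd, hc⟩ := List.mem_flatMap.1 hA
    obtain ⟨N, hN, rfl⟩ := List.mem_map.1 hc
    obtain ⟨o, ho, hc'⟩ := List.mem_flatMap.1 hB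
    obtain ⟨N', hN', h⟩ := List.mem_map.1 hc'
    obtain ⟨i, hi, hbit⟩ := exists_bit ho
    have e := congrArg (fun X => fld X i) h
    simp only [fld_mkS 2 _ _ (by norm_num) (octL_lt ho) (subs_sound (List.mem_filter.1 hN').1).1 i hi,
      fld_mkS 4 _ _ (by norm_num) (duadL_lt hd) (subs_sound hN).1 i hi, hbit] at e
    have b1 := bit_lt d i
    have b2 := bit_lt N i
    have b3 := bit_lt N' i
    omega
  · intro c hAB hC
    unfold minC at hC
    obtain ⟨k, _, hc⟩ := List.mem_flatMap.1 hC
    obtain ⟨q, hq, rfl⟩ := List.mem_map.1 hc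
    have f0 := fld_mkC (encode k) q (encode_lt k) (List.mem_range.1 hq) 0 (by norm_num)
    have b1 := bit_lt (encode k) 0
    have b2 := bit_lt (encode k) q
    have hodd : fld (mkC (encode k) q) 0 % 2 = 1 := by
      rw [f0]; split_ifs <;> omega
    rcases List.mem_append.1 hAB with hA | hB
    · unfold minA at hA
      obtain ⟨d, hd, hc⟩ := List.mem_flatMap.1 hA
      obtain ⟨N, hN, h⟩ := List.mem_map.1 hc
      rw [← h, fld_mkS 4 _ _ (by norm_num) (duadL_lt hd) (subs_sound hN).1 0 (by norm_num)] at hodd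
      have b3 := bit_lt d 0
      have b4 := bit_lt N 0
      omega
    · unfold minB at hB
      obtain ⟨o, ho, hc⟩ := List.mem_flatMap.1 hB
      obtain ⟨N, hN, h⟩ := List.mem_map.1 hc
      rw [← h, fld_mkS 2 _ _ (by norm_num) (octL_lt ho) (subs_sound (List.mem_filter.1 hN).1).1 0
        (by norm_num)] at hodd
      have b3 := bit_lt o 0
      have b4 := bit_lt N 0
      omega

end Cfsg.Agent.Lib.Helper33LNodup
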