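import Cfsg.Agent.Lib.Helper33LO1D

set_option autoImplicit false
set_option exponentiation.threshold 2000
set_option maxRecDepth 1000000

open Cfsg Cfsg.Agent.Lib.Helper33Golay Cfsg.Agent.Lib.Helper33LVec Cfsg.Agent.Lib.Helper33LMat
open Cfsg.Agent.Lib.Helper33LTest Cfsg.Agent.Lib.Helper33LCo0 Cfsg.Agent.Lib.Helper33LFrame
open Cfsg.Agent.Lib.Helper33LGood Cfsg.Agent.Lib.Helper33LReach2 Cfsg.Agent.Lib.Helper33LWord
open Cfsg.Agent.Lib.Helper33LPat Cfsg.Agent.Lib.Helper33LFrame2 Cfsg.Agent.Lib.Helper33LBase
open Cfsg.Agent.Lib.Helper33LMcL Cfsg.Agent.Lib.Helper33LHS Cfsg.Agent.Lib.Helper33LReach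
open Cfsg.Agent.Lib.Helper33LCo2Thy Cfsg.Agent.Lib.Helper33LCent Cfsg.Agent.Lib.Helper33LCent2
open Cfsg.Agent.Lib.Helper33LCent3 Cfsg.Agent.Lib.Helper33LMin
open MulAction

open Cfsg.Agent.Lib.Helper33LO1D

namespace Cfsg.Agent.Lib.Helper33LO1PuK3

theorem chkB_2 : ((octP.drop (2 * 4)).take 4).all (fB' cndT chkU) = true := by
  decide +kernel
theorem chkB_10 : ((octP.drop (10 * 4)).take 4).all (fB' cndT chkU) = true := by
  decide +kernel
theorem chkB_18 : ((octP.drop (18 * 4)).take 4).all (fB' cndT chkU) = true := by
  decide +kernel
theorem chkB_26 : ((octP.drop (26 * 4)).take 4).all (fB' cndT chkU) = true := by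
  decide +kernel
theorem chkB_34 : ((octP.drop (34 * 4)).take 4).all (fB' cndT chkU) = true := by
  decide +kernel
theorem chkB_42 : ((octP.drop (42 * 4)).take 4).all (fB' cndT chkU) = true := by
  decide +kernel
theorem chkB_50 : ((octP.drop (50 * 4)).take 4).all (fB' cndT chkU) = true := by
  decide +kernel
theorem chkB_58 : ((octP.drop (58 * 4)).take 4).all (fB' cndT chkU) = true := by
  decide +kernel
theorem chkB_66 : ((octP.drop (66 * 4)).take 4).all (fB' cndT chkU) = true := by
  decide +kernel
theorem chkB_74 : ((octP.drop (74 * 4)).take 4).all (fB' cndT chkU) = true := by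
  decide +kernel
theorem chkB_82 : ((octP.drop (82 * 4)).take 4).all (fB' cndT chkU) = true := by
  decide +kernel
theorem chkB_90 : ((octP.drop (90 * 4)).take 4).all (fB' cndT chkU) = true := by
  decide +kernel
theorem chkB_98 : ((octP.drop (98 * 4)).take 4).all (fB' cndT chkU) = true := by
  decide +kernel
theorem chkB_106 : ((octP.drop (106 * 4)).take 4).all (fB' cndT chkU) = true := by
  decide +kernel
theorem chkB_114 : ((octP.drop (114 * 4)).take 4).all (fB' cndT chkU) = true := by
  decide +kernel
theorem chkB_122 : ((octP.drop (122 * 4)).take 4).all (fB' cndT chkU) = true := by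
  decide +kernel
theorem chkB_130 : ((octP.drop (130 * 4)).take 4).all (fB' cndT chkU) = true := by
  decide +kernel
theorem chkB_138 : ((octP.drop (138 * 4)).take 4).all (fB' cndT chkU) = true := by
  decide +kernel
theorem chkB_146 : ((octP.drop (146 * 4)).take 4).all (fB' cndT chkU) = true := by
  decide +kernel
theorem chkB_154 : ((octP.drop (154 * 4)).take 4).all (fB' cndT chkU) = true := by
  decide +kernel
theorem chkB_162 : ((octP.drop (162 * 4)).take 4).all (fB' cndT chkU) = true := by
  decide +kernel
theorem chkB_170 : ((octP.drop (170 * 4)).take 4).all (fB' cndT chkU) = true := by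
  decide +kernel
theorem chkB_178 : ((octP.drop (178 * 4)).take 4).all (fB' cndT chkU) = true := by
  decide +kernel
theorem chkB_186 : ((octP.drop (186 * 4)).take 4).all (fB' cndT chkU) = true := by
  decide +kernel
theorem chkC_4 : (((List.range 4096).drop (4 * 21)).take 21).all (fC cndT chkU) = true := by
  decide +kernel
theorem chkC_12 : (((List.range 4096).drop (12 * 21)).take 21).all (fC cndT chkU) = true := by
  decide +kernel
theorem chkC_20 : (((List.range 4096).drop (20 * 21)).take 21).all (fC cndT chkU) = true := by
  decide +kernel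
theorem chkC_28 : (((List.range 4096).drop (28 * 21)).take 21).all (fC cndT chkU) = true := by
  decide +kernel
theorem chkC_36 : (((List.range 4096).drop (36 * 21)).take 21).all (fC cndT chkU) = true := by
  decide +kernel
theorem chkC_44 : (((List.range 4096).drop (44 * 21)).take 21).all (fC cndT chkU) = true := by
  decide +kernel
theorem chkC_52 : (((List.range 4096).drop (52 * 21)).take 21).all (fC cndT chkU) = true := by
  decide +kernel
theorem chkC_60 : (((List.range 4096).drop (60 * 21)).take 21).all (fC cndT chkU) = true := by
  decide +kernel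
theorem chkC_68 : (((List.range 4096).drop (68 * 21)).take 21).all (fC cndT chkU) = true := by
  decide +kernel
theorem chkC_76 : (((List.range 4096).drop (76 * 21)).take 21).all (fC cndT chkU) = true := by
  decide +kernel
theorem chkC_84 : (((List.range 4096).drop (84 * 21)).take 21).all (fC cndT chkU) = true := by
  decide +kernel
theorem chkC_92 : (((List.range 4096).drop (92 * 21)).take 21).all (fC cndT chkU) = true := by
  decide +kernel
theorem chkC_100 : (((List.range 4096).drop (100 * 21)).take 21).all (fC cndT chkU) = true := by
  decide +kernel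
theorem chkC_108 : (((List.range 4096).drop (108 * 21)).take 21).all (fC cndT chkU) = true := by
  decide +kernel
theorem chkC_116 : (((List.range 4096).drop (116 * 21)).take 21).all (fC cndT chkU) = true := by
  decide +kernel
theorem chkC_124 : (((List.range 4096).drop (124 * 21)).take 21).all (fC cndT chkU) = true := by
  decide +kernel
theorem chkC_132 : (((List.range 4096).drop (132 * 21)).take 21).all (fC cndT chkU) = true := by
  decide +kernel
theorem chkC_140 : (((List.range 4096).drop (140 * 21)).take 21).all (fC cndT chkU) = true := by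
  decide +kernel
theorem chkC_148 : (((List.range 4096).drop (148 * 21)).take 21).all (fC cndT chkU) = true := by
  decide +kernel
theorem chkC_156 : (((List.range 4096).drop (156 * 21)).take 21).all (fC cndT chkU) = true := by
  decide +kernel
theorem chkC_164 : (((List.range 4096).drop (164 * 21)).take 21).all (fC cndT chkU) = true := by
  decide +kernel
theorem chkC_172 : (((List.range 4096).drop (172 * 21)).take 21).all (fC cndT chkU) = true := by
  decide +kernel
theorem chkC_180 : (((List.range 4096).drop (180 * 21)).take 21).all (fC cndT chkU) = true := by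
  decide +kernel
theorem chkC_188 : (((List.range 4096).drop (188 * 21)).take 21).all (fC cndT chkU) = true := by
  decide +kernel

end Cfsg.Agent.Lib.Helper33LO1PuK3
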