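import Cfsg.Agent.Lib.Helper33LO1D

set_option autoImplicit false
set_option exponentiation.threshold 2000
set_option maxRecDepth 1000000

open Cfsg Cfsg.Agent.Lib.Helper33Golay Cfsg.Agent.Lib.Helper33LVec Cfsg.Agent.Lib.Helper33LMat
open Cfsg.Agent.Lib.Helper33LTest Cfsg.Agent.Lib.Helper33LCo0 Cfsg.Agent.Lib.Helper33LFrame
open Cfsg.Agent.Lib.Helper33LGood Cfsg.Agent.Lib.Helper33LReach2 Cfsg.Agent.Lib.Helper33LWord
open Cfsg.Agent.Lib.Helper33LPat Cfsg.Agent.Lib.Helper33LFrame2 Cfsg.Agent.Lib.Helper33LBase
open Cfsg.Agent.Lib.Helper33LMcL Cfsg.Agent.Lib.Helper33LHS Cfsg.Agent.Lib.Helper33LReach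
open Cfsg.Agent.Lib.Helper33LCo2Thy Cfsg.Agent.Lib.Helper33LCent Cfsg.Agent.Lib.Helper33LCent2
open Cfsg.Agent.Lib.Helper33LCent3 Cfsg.Agent.Lib.Helper33LMin
open MulAction

open Cfsg.Agent.Lib.Helper33LO1D

namespace Cfsg.Agent.Lib.Helper33LO1PuK4

theorem chkB_3 : ((octP.drop (3 * 4)).take 4).all (fB' cndT chkU) = true := by
  decide +kernel
theorem chkB_11 : ((octP.drop (11 * 4)).take 4).all (fB' cndT chkU) = true := by
  decide +kernel
theorem chkB_19 : ((octP.drop (19 * 4)).take 4).all (fB' cndT chkU) = true := by
  decide +kernel
theorem chkB_27 : ((octP.drop (27 * 4)).take 4).all (fB' cndT chkU) = true := by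
  decide +kernel
theorem chkB_35 : ((octP.drop (35 * 4)).take 4).all (fB' cndT chkU) = true := by
  decide +kernel
theorem chkB_43 : ((octP.drop (43 * 4)).take 4).all (fB' cndT chkU) = true := by
  decide +kernel
theorem chkB_51 : ((octP.drop (51 * 4)).take 4).all (fB' cndT chkU) = true := by
  decide +kernel
theorem chkB_59 : ((octP.drop (59 * 4)).take 4).all (fB' cndT chkU) = true := by
  decide +kernel
theorem chkB_67 : ((octP.drop (67 * 4)).take 4).all (fB' cndT chkU) = true := by
  decide +kernel
theorem chkB_75 : ((octP.drop (75 * 4)).take 4).all (fB' cndT chkU) = true := by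
  decide +kernel
theorem chkB_83 : ((octP.drop (83 * 4)).take 4).all (fB' cndT chkU) = true := by
  decide +kernel
theorem chkB_91 : ((octP.drop (91 * 4)).take 4).all (fB' cndT chkU) = true := by
  decide +kernel
theorem chkB_99 : ((octP.drop (99 * 4)).take 4).all (fB' cndT chkU) = true := by
  decide +kernel
theorem chkB_107 : ((octP.drop (107 * 4)).take 4).all (fB' cndT chkU) = true := by
  decide +kernel
theorem chkB_115 : ((octP.drop (115 * 4)).take 4).all (fB' cndT chkU) = true := by
  decide +kernel
theorem chkB_123 : ((octP.drop (123 * 4)).take 4).all (fB' cndT chkU) = true := by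
  decide +kernel
theorem chkB_131 : ((octP.drop (131 * 4)).take 4).all (fB' cndT chkU) = true := by
  decide +kernel
theorem chkB_139 : ((octP.drop (139 * 4)).take 4).all (fB' cndT chkU) = true := by
  decide +kernel
theorem chkB_147 : ((octP.drop (147 * 4)).take 4).all (fB' cndT chkU) = true := by
  decide +kernel
theorem chkB_155 : ((octP.drop (155 * 4)).take 4).all (fB' cndT chkU) = true := by
  decide +kernel
theorem chkB_163 : ((octP.drop (163 * 4)).take 4).all (fB' cndT chkU) = true := by
  decide +kernel
theorem chkB_171 : ((octP.drop (171 * 4)).take 4).all (fB' cndT chkU) = true := by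
  decide +kernel
theorem chkB_179 : ((octP.drop (179 * 4)).take 4).all (fB' cndT chkU) = true := by
  decide +kernel
theorem chkB_187 : ((octP.drop (187 * 4)).take 4).all (fB' cndT chkU) = true := by
  decide +kernel
theorem chkC_5 : (((List.range 4096).drop (5 * 21)).take 21).all (fC cndT chkU) = true := by
  decide +kernel
theorem chkC_13 : (((List.range 4096).drop (13 * 21)).take 21).all (fC cndT chkU) = true := by
  decide +kernel
theorem chkC_21 : (((List.range 4096).drop (21 * 21)).take 21).all (fC cndT chkU) = true := by
  decide +kernel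
theorem chkC_29 : (((List.range 4096).drop (29 * 21)).take 21).all (fC cndT chkU) = true := by
  decide +kernel
theorem chkC_37 : (((List.range 4096).drop (37 * 21)).take 21).all (fC cndT chkU) = true := by
  decide +kernel
theorem chkC_45 : (((List.range 4096).drop (45 * 21)).take 21).all (fC cndT chkU) = true := by
  decide +kernel
theorem chkC_53 : (((List.range 4096).drop (53 * 21)).take 21).all (fC cndT chkU) = true := by
  decide +kernel
theorem chkC_61 : (((List.range 4096).drop (61 * 21)).take 21).all (fC cndT chkU) = true := by
  decide +kernel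
theorem chkC_69 : (((List.range 4096).drop (69 * 21)).take 21).all (fC cndT chkU) = true := by
  decide +kernel
theorem chkC_77 : (((List.range 4096).drop (77 * 21)).take 21).all (fC cndT chkU) = true := by
  decide +kernel
theorem chkC_85 : (((List.range 4096).drop (85 * 21)).take 21).all (fC cndT chkU) = true := by
  decide +kernel
theorem chkC_93 : (((List.range 4096).drop (93 * 21)).take 21).all (fC cndT chkU) = true := by
  decide +kernel
theorem chkC_101 : (((List.range 4096).drop (101 * 21)).take 21).all (fC cndT chkU) = true := by
  decide +kernel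
theorem chkC_109 : (((List.range 4096).drop (109 * 21)).take 21).all (fC cndT chkU) = true := by
  decide +kernel
theorem chkC_117 : (((List.range 4096).drop (117 * 21)).take 21).all (fC cndT chkU) = true := by
  decide +kernel
theorem chkC_125 : (((List.range 4096).drop (125 * 21)).take 21).all (fC cndT chkU) = true := by
  decide +kernel
theorem chkC_133 : (((List.range 4096).drop (133 * 21)).take 21).all (fC cndT chkU) = true := by
  decide +kernel
theorem chkC_141 : (((List.range 4096).drop (141 * 21)).take 21).all (fC cndT chkU) = true := by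
  decide +kernel
theorem chkC_149 : (((List.range 4096).drop (149 * 21)).take 21).all (fC cndT chkU) = true := by
  decide +kernel
theorem chkC_157 : (((List.range 4096).drop (157 * 21)).take 21).all (fC cndT chkU) = true := by
  decide +kernel
theorem chkC_165 : (((List.range 4096).drop (165 * 21)).take 21).all (fC cndT chkU) = true := by
  decide +kernel
theorem chkC_173 : (((List.range 4096).drop (173 * 21)).take 21).all (fC cndT chkU) = true := by
  decide +kernel
theorem chkC_181 : (((List.range 4096).drop (181 * 21)).take 21).all (fC cndT chkU) = true := by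
  decide +kernel
theorem chkC_189 : (((List.range 4096).drop (189 * 21)).take 21).all (fC cndT chkU) = true := by
  decide +kernel

end Cfsg.Agent.Lib.Helper33LO1PuK4
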