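import Cfsg.Agent.Lib.Helper33LO1D

set_option autoImplicit false
set_option exponentiation.threshold 2000
set_option maxRecDepth 1000000

open Cfsg Cfsg.Agent.Lib.Helper33Golay Cfsg.Agent.Lib.Helper33LVec Cfsg.Agent.Lib.Helper33LMat
open Cfsg.Agent.Lib.Helper33LTest Cfsg.Agent.Lib.Helper33LCo0 Cfsg.Agent.Lib.Helper33LFrame
open Cfsg.Agent.Lib.Helper33LGood Cfsg.Agent.Lib.Helper33LReach2 Cfsg.Agent.Lib.Helper33LWord
open Cfsg.Agent.Lib.Helper33LPat Cfsg.Agent.Lib.Helper33LFrame2 Cfsg.Agent.Lib.Helper33LBase
open Cfsg.Agent.Lib.Helper33LMcL Cfsg.Agent.Lib.Helper33LHS Cfsg.Agent.Lib.Helper33LReach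
open Cfsg.Agent.Lib.Helper33LCo2Thy Cfsg.Agent.Lib.Helper33LCent Cfsg.Agent.Lib.Helper33LCent2
open Cfsg.Agent.Lib.Helper33LCent3 Cfsg.Agent.Lib.Helper33LMin
open MulAction

open Cfsg.Agent.Lib.Helper33LO1D

namespace Cfsg.Agent.Lib.Helper33LO1PuK5

theorem chkB_4 : ((octP.drop (4 * 4)).take 4).all (fB' cndT chkU) = true := by
  decide +kernel
theorem chkB_12 : ((octP.drop (12 * 4)).take 4).all (fB' cndT chkU) = true := by
  decide +kernel
theorem chkB_20 : ((octP.drop (20 * 4)).take 4).all (fB' cndT chkU) = true := by
  decide +kernel
theorem chkB_28 : ((octP.drop (28 * 4)).take 4).all (fB' cndT chkU) = true := by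
  decide +kernel
theorem chkB_36 : ((octP.drop (36 * 4)).take 4).all (fB' cndT chkU) = true := by
  decide +kernel
theorem chkB_44 : ((octP.drop (44 * 4)).take 4).all (fB' cndT chkU) = true := by
  decide +kernel
theorem chkB_52 : ((octP.drop (52 * 4)).take 4).all (fB' cndT chkU) = true := by
  decide +kernel
theorem chkB_60 : ((octP.drop (60 * 4)).take 4).all (fB' cndT chkU) = true := by
  decide +kernel
theorem chkB_68 : ((octP.drop (68 * 4)).take 4).all (fB' cndT chkU) = true := by
  decide +kernel
theorem chkB_76 : ((octP.drop (76 * 4)).take 4).all (fB' cndT chkU) = true := by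
  decide +kernel
theorem chkB_84 : ((octP.drop (84 * 4)).take 4).all (fB' cndT chkU) = true := by
  decide +kernel
theorem chkB_92 : ((octP.drop (92 * 4)).take 4).all (fB' cndT chkU) = true := by
  decide +kernel
theorem chkB_100 : ((octP.drop (100 * 4)).take 4).all (fB' cndT chkU) = true := by
  decide +kernel
theorem chkB_108 : ((octP.drop (108 * 4)).take 4).all (fB' cndT chkU) = true := by
  decide +kernel
theorem chkB_116 : ((octP.drop (116 * 4)).take 4).all (fB' cndT chkU) = true := by
  decide +kernel
theorem chkB_124 : ((octP.drop (124 * 4)).take 4).all (fB' cndT chkU) = true := by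
  decide +kernel
theorem chkB_132 : ((octP.drop (132 * 4)).take 4).all (fB' cndT chkU) = true := by
  decide +kernel
theorem chkB_140 : ((octP.drop (140 * 4)).take 4).all (fB' cndT chkU) = true := by
  decide +kernel
theorem chkB_148 : ((octP.drop (148 * 4)).take 4).all (fB' cndT chkU) = true := by
  decide +kernel
theorem chkB_156 : ((octP.drop (156 * 4)).take 4).all (fB' cndT chkU) = true := by
  decide +kernel
theorem chkB_164 : ((octP.drop (164 * 4)).take 4).all (fB' cndT chkU) = true := by
  decide +kernel
theorem chkB_172 : ((octP.drop (172 * 4)).take 4).all (fB' cndT chkU) = true := by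
  decide +kernel
theorem chkB_180 : ((octP.drop (180 * 4)).take 4).all (fB' cndT chkU) = true := by
  decide +kernel
theorem chkB_188 : ((octP.drop (188 * 4)).take 4).all (fB' cndT chkU) = true := by
  decide +kernel
theorem chkC_6 : (((List.range 4096).drop (6 * 21)).take 21).all (fC cndT chkU) = true := by
  decide +kernel
theorem chkC_14 : (((List.range 4096).drop (14 * 21)).take 21).all (fC cndT chkU) = true := by
  decide +kernel
theorem chkC_22 : (((List.range 4096).drop (22 * 21)).take 21).all (fC cndT chkU) = true := by
  decide +kernel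
theorem chkC_30 : (((List.range 4096).drop (30 * 21)).take 21).all (fC cndT chkU) = true := by
  decide +kernel
theorem chkC_38 : (((List.range 4096).drop (38 * 21)).take 21).all (fC cndT chkU) = true := by
  decide +kernel
theorem chkC_46 : (((List.range 4096).drop (46 * 21)).take 21).all (fC cndT chkU) = true := by
  decide +kernel
theorem chkC_54 : (((List.range 4096).drop (54 * 21)).take 21).all (fC cndT chkU) = true := by
  decide +kernel
theorem chkC_62 : (((List.range 4096).drop (62 * 21)).take 21).all (fC cndT chkU) = true := by
  decide +kernel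
theorem chkC_70 : (((List.range 4096).drop (70 * 21)).take 21).all (fC cndT chkU) = true := by
  decide +kernel
theorem chkC_78 : (((List.range 4096).drop (78 * 21)).take 21).all (fC cndT chkU) = true := by
  decide +kernel
theorem chkC_86 : (((List.range 4096).drop (86 * 21)).take 21).all (fC cndT chkU) = true := by
  decide +kernel
theorem chkC_94 : (((List.range 4096).drop (94 * 21)).take 21).all (fC cndT chkU) = true := by
  decide +kernel
theorem chkC_102 : (((List.range 4096).drop (102 * 21)).take 21).all (fC cndT chkU) = true := by
  decide +kernel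
theorem chkC_110 : (((List.range 4096).drop (110 * 21)).take 21).all (fC cndT chkU) = true := by
  decide +kernel
theorem chkC_118 : (((List.range 4096).drop (118 * 21)).take 21).all (fC cndT chkU) = true := by
  decide +kernel
theorem chkC_126 : (((List.range 4096).drop (126 * 21)).take 21).all (fC cndT chkU) = true := by
  decide +kernel
theorem chkC_134 : (((List.range 4096).drop (134 * 21)).take 21).all (fC cndT chkU) = true := by
  decide +kernel
theorem chkC_142 : (((List.range 4096).drop (142 * 21)).take 21).all (fC cndT chkU) = true := by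
  decide +kernel
theorem chkC_150 : (((List.range 4096).drop (150 * 21)).take 21).all (fC cndT chkU) = true := by
  decide +kernel
theorem chkC_158 : (((List.range 4096).drop (158 * 21)).take 21).all (fC cndT chkU) = true := by
  decide +kernel
theorem chkC_166 : (((List.range 4096).drop (166 * 21)).take 21).all (fC cndT chkU) = true := by
  decide +kernel
theorem chkC_174 : (((List.range 4096).drop (174 * 21)).take 21).all (fC cndT chkU) = true := by
  decide +kernel
theorem chkC_182 : (((List.range 4096).drop (182 * 21)).take 21).all (fC cndT chkU) = true := by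
  decide +kernel
theorem chkC_190 : (((List.range 4096).drop (190 * 21)).take 21).all (fC cndT chkU) = true := by
  decide +kernel

end Cfsg.Agent.Lib.Helper33LO1PuK5
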