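import Cfsg.Agent.Lib.Helper33LO1D

set_option autoImplicit false
set_option exponentiation.threshold 2000
set_option maxRecDepth 1000000

open Cfsg Cfsg.Agent.Lib.Helper33Golay Cfsg.Agent.Lib.Helper33LVec Cfsg.Agent.Lib.Helper33LMat
open Cfsg.Agent.Lib.Helper33LTest Cfsg.Agent.Lib.Helper33LCo0 Cfsg.Agent.Lib.Helper33LFrame
open Cfsg.Agent.Lib.Helper33LGood Cfsg.Agent.Lib.Helper33LReach2 Cfsg.Agent.Lib.Helper33LWord
open Cfsg.Agent.Lib.Helper33LPat Cfsg.Agent.Lib.Helper33LFrame2 Cfsg.Agent.Lib.Helper33LBase
open Cfsg.Agent.Lib.Helper33LMcL Cfsg.Agent.Lib.Helper33LHS Cfsg.Agent.Lib.Helper33LReach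
open Cfsg.Agent.Lib.Helper33LCo2Thy Cfsg.Agent.Lib.Helper33LCent Cfsg.Agent.Lib.Helper33LCent2
open Cfsg.Agent.Lib.Helper33LCent3 Cfsg.Agent.Lib.Helper33LMin
open MulAction

open Cfsg.Agent.Lib.Helper33LO1D

namespace Cfsg.Agent.Lib.Helper33LO1PuK7

theorem chkB_6 : ((octP.drop (6 * 4)).take 4).all (fB' cndT chkU) = true := by
  decide +kernel
theorem chkB_14 : ((octP.drop (14 * 4)).take 4).all (fB' cndT chkU) = true := by
  decide +kernel
theorem chkB_22 : ((octP.drop (22 * 4)).take 4).all (fB' cndT chkU) = true := by
  decide +kernel
theorem chkB_30 : ((octP.drop (30 * 4)).take 4).all (fB' cndT chkU) = true := by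
  decide +kernel
theorem chkB_38 : ((octP.drop (38 * 4)).take 4).all (fB' cndT chkU) = true := by
  decide +kernel
theorem chkB_46 : ((octP.drop (46 * 4)).take 4).all (fB' cndT chkU) = true := by
  decide +kernel
theorem chkB_54 : ((octP.drop (54 * 4)).take 4).all (fB' cndT chkU) = true := by
  decide +kernel
theorem chkB_62 : ((octP.drop (62 * 4)).take 4).all (fB' cndT chkU) = true := by
  decide +kernel
theorem chkB_70 : ((octP.drop (70 * 4)).take 4).all (fB' cndT chkU) = true := by
  decide +kernel
theorem chkB_78 : ((octP.drop (78 * 4)).take 4).all (fB' cndT chkU) = true := by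
  decide +kernel
theorem chkB_86 : ((octP.drop (86 * 4)).take 4).all (fB' cndT chkU) = true := by
  decide +kernel
theorem chkB_94 : ((octP.drop (94 * 4)).take 4).all (fB' cndT chkU) = true := by
  decide +kernel
theorem chkB_102 : ((octP.drop (102 * 4)).take 4).all (fB' cndT chkU) = true := by
  decide +kernel
theorem chkB_110 : ((octP.drop (110 * 4)).take 4).all (fB' cndT chkU) = true := by
  decide +kernel
theorem chkB_118 : ((octP.drop (118 * 4)).take 4).all (fB' cndT chkU) = true := by
  decide +kernel
theorem chkB_126 : ((octP.drop (126 * 4)).take 4).all (fB' cndT chkU) = true := by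
  decide +kernel
theorem chkB_134 : ((octP.drop (134 * 4)).take 4).all (fB' cndT chkU) = true := by
  decide +kernel
theorem chkB_142 : ((octP.drop (142 * 4)).take 4).all (fB' cndT chkU) = true := by
  decide +kernel
theorem chkB_150 : ((octP.drop (150 * 4)).take 4).all (fB' cndT chkU) = true := by
  decide +kernel
theorem chkB_158 : ((octP.drop (158 * 4)).take 4).all (fB' cndT chkU) = true := by
  decide +kernel
theorem chkB_166 : ((octP.drop (166 * 4)).take 4).all (fB' cndT chkU) = true := by
  decide +kernel
theorem chkB_174 : ((octP.drop (174 * 4)).take 4).all (fB' cndT chkU) = true := by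
  decide +kernel
theorem chkB_182 : ((octP.drop (182 * 4)).take 4).all (fB' cndT chkU) = true := by
  decide +kernel
theorem chkC_0 : (((List.range 4096).drop (0 * 21)).take 21).all (fC cndT chkU) = true := by
  decide +kernel
theorem chkC_8 : (((List.range 4096).drop (8 * 21)).take 21).all (fC cndT chkU) = true := by
  decide +kernel
theorem chkC_16 : (((List.range 4096).drop (16 * 21)).take 21).all (fC cndT chkU) = true := by
  decide +kernel
theorem chkC_24 : (((List.range 4096).drop (24 * 21)).take 21).all (fC cndT chkU) = true := by
  decide +kernel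
theorem chkC_32 : (((List.range 4096).drop (32 * 21)).take 21).all (fC cndT chkU) = true := by
  decide +kernel
theorem chkC_40 : (((List.range 4096).drop (40 * 21)).take 21).all (fC cndT chkU) = true := by
  decide +kernel
theorem chkC_48 : (((List.range 4096).drop (48 * 21)).take 21).all (fC cndT chkU) = true := by
  decide +kernel
theorem chkC_56 : (((List.range 4096).drop (56 * 21)).take 21).all (fC cndT chkU) = true := by
  decide +kernel
theorem chkC_64 : (((List.range 4096).drop (64 * 21)).take 21).all (fC cndT chkU) = true := by
  decide +kernel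
theorem chkC_72 : (((List.range 4096).drop (72 * 21)).take 21).all (fC cndT chkU) = true := by
  decide +kernel
theorem chkC_80 : (((List.range 4096).drop (80 * 21)).take 21).all (fC cndT chkU) = true := by
  decide +kernel
theorem chkC_88 : (((List.range 4096).drop (88 * 21)).take 21).all (fC cndT chkU) = true := by
  decide +kernel
theorem chkC_96 : (((List.range 4096).drop (96 * 21)).take 21).all (fC cndT chkU) = true := by
  decide +kernel
theorem chkC_104 : (((List.range 4096).drop (104 * 21)).take 21).all (fC cndT chkU) = true := by
  decide +kernel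
theorem chkC_112 : (((List.range 4096).drop (112 * 21)).take 21).all (fC cndT chkU) = true := by
  decide +kernel
theorem chkC_120 : (((List.range 4096).drop (120 * 21)).take 21).all (fC cndT chkU) = true := by
  decide +kernel
theorem chkC_128 : (((List.range 4096).drop (128 * 21)).take 21).all (fC cndT chkU) = true := by
  decide +kernel
theorem chkC_136 : (((List.range 4096).drop (136 * 21)).take 21).all (fC cndT chkU) = true := by
  decide +kernel
theorem chkC_144 : (((List.range 4096).drop (144 * 21)).take 21).all (fC cndT chkU) = true := by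
  decide +kernel
theorem chkC_152 : (((List.range 4096).drop (152 * 21)).take 21).all (fC cndT chkU) = true := by
  decide +kernel
theorem chkC_160 : (((List.range 4096).drop (160 * 21)).take 21).all (fC cndT chkU) = true := by
  decide +kernel
theorem chkC_168 : (((List.range 4096).drop (168 * 21)).take 21).all (fC cndT chkU) = true := by
  decide +kernel
theorem chkC_176 : (((List.range 4096).drop (176 * 21)).take 21).all (fC cndT chkU) = true := by
  decide +kernel
theorem chkC_184 : (((List.range 4096).drop (184 * 21)).take 21).all (fC cndT chkU) = true := by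
  decide +kernel
theorem chkC_192 : (((List.range 4096).drop (192 * 21)).take 21).all (fC cndT chkU) = true := by
  decide +kernel

end Cfsg.Agent.Lib.Helper33LO1PuK7
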