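import Cfsg.Agent.Lib.Helper33LO1PuK0
import Cfsg.Agent.Lib.Helper33LO1PuK1
import Cfsg.Agent.Lib.Helper33LO1PuK2
import Cfsg.Agent.Lib.Helper33LO1PuK3
import Cfsg.Agent.Lib.Helper33LO1PuK4
import Cfsg.Agent.Lib.Helper33LO1PuK5
import Cfsg.Agent.Lib.Helper33LO1PuK6
import Cfsg.Agent.Lib.Helper33LO1PuK7

set_option autoImplicit false
set_option exponentiation.threshold 2000
set_option maxRecDepth 1000000

open Cfsg Cfsg.Agent.Lib.Helper33Golay Cfsg.Agent.Lib.Helper33LVec Cfsg.Agent.Lib.Helper33LMat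
open Cfsg.Agent.Lib.Helper33LTest Cfsg.Agent.Lib.Helper33LCo0 Cfsg.Agent.Lib.Helper33LFrame
open Cfsg.Agent.Lib.Helper33LGood Cfsg.Agent.Lib.Helper33LReach2 Cfsg.Agent.Lib.Helper33LWord
open Cfsg.Agent.Lib.Helper33LPat Cfsg.Agent.Lib.Helper33LFrame2 Cfsg.Agent.Lib.Helper33LBase
open Cfsg.Agent.Lib.Helper33LMcL Cfsg.Agent.Lib.Helper33LHS Cfsg.Agent.Lib.Helper33LReach
open Cfsg.Agent.Lib.Helper33LCo2Thy Cfsg.Agent.Lib.Helper33LCent Cfsg.Agent.Lib.Helper33LCent2
open Cfsg.Agent.Lib.Helper33LCent3 Cfsg.Agent.Lib.Helper33LMin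
open MulAction

open Cfsg.Agent.Lib.Helper33LO1D

namespace Cfsg.Agent.Lib.Helper33LO1PuAll

theorem chkB : octP.all (fB' Helper33LO1D.cndT Helper33LO1D.chkU) = true := by
  apply all_of_chunks _ 4 190 _ (le_of_eq_of_le octP_length (by norm_num))
  intro j hj
  interval_cases j
  · exact Helper33LO1PuK1.chkB_0
  · exact Helper33LO1PuK2.chkB_1
  · exact Helper33LO1PuK3.chkB_2
  · exact Helper33LO1PuK4.chkB_3
  · exact Helper33LO1PuK5.chkB_4
  · exact Helper33LO1PuK6.chkB_5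
  · exact Helper33LO1PuK7.chkB_6
  · exact Helper33LO1PuK0.chkB_7
  · exact Helper33LO1PuK1.chkB_8
  · exact Helper33LO1PuK2.chkB_9
  · exact Helper33LO1PuK3.chkB_10
  · exact Helper33LO1PuK4.chkB_11
  · exact Helper33LO1PuK5.chkB_12
  · exact Helper33LO1PuK6.chkB_13
  · exact Helper33LO1PuK7.chkB_14
  · exact Helper33LO1PuK0.chkB_15
  · exact Helper33LO1PuK1.chkB_16
  · exact Helper33LO1PuK2.chkB_17
  · exact Helper33LO1PuK3.chkB_18
  · exact Helper33LO1PuK4.chkB_19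
  · exact Helper33LO1PuK5.chkB_20
  · exact Helper33LO1PuK6.chkB_21
  · exact Helper33LO1PuK7.chkB_22
  · exact Helper33LO1PuK0.chkB_23
  · exact Helper33LO1PuK1.chkB_24
  · exact Helper33LO1PuK2.chkB_25
  · exact Helper33LO1PuK3.chkB_26
  · exact Helper33LO1PuK4.chkB_27
  · exact Helper33LO1PuK5.chkB_28
  · exact Helper33LO1PuK6.chkB_29
  · exact Helper33LO1PuK7.chkB_30
  · exact Helper33LO1PuK0.chkB_31
  · exact Helper33LO1PuK1.chkB_32
  · exact Helper33LO1PuK2.chkB_33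
  · exact Helper33LO1PuK3.chkB_34
  · exact Helper33LO1PuK4.chkB_35
  · exact Helper33LO1PuK5.chkB_36
  · exact Helper33LO1PuK6.chkB_37
  · exact Helper33LO1PuK7.chkB_38
  · exact Helper33LO1PuK0.chkB_39
  · exact Helper33LO1PuK1.chkB_40
  · exact Helper33LO1PuK2.chkB_41
  · exact Helper33LO1PuK3.chkB_42
  · exact Helper33LO1PuK4.chkB_43
  · exact Helper33LO1PuK5.chkB_44
  · exact Helper33LO1PuK6.chkB_45
  · exact Helper33LO1PuK7.chkB_46
  · exact Helper33LO1PuK0.chkB_47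
  · exact Helper33LO1PuK1.chkB_48
  · exact Helper33LO1PuK2.chkB_49
  · exact Helper33LO1PuK3.chkB_50
  · exact Helper33LO1PuK4.chkB_51
  · exact Helper33LO1PuK5.chkB_52
  · exact Helper33LO1PuK6.chkB_53
  · exact Helper33LO1PuK7.chkB_54
  · exact Helper33LO1PuK0.chkB_55
  · exact Helper33LO1PuK1.chkB_56
  · exact Helper33LO1PuK2.chkB_57
  · exact Helper33LO1PuK3.chkB_58
  · exact Helper33LO1PuK4.chkB_59
  · exact Helper33LO1PuK5.chkB_60
  · exact Helper33LO1PuK6.chkB_61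
  · exact Helper33LO1PuK7.chkB_62
  · exact Helper33LO1PuK0.chkB_63
  · exact Helper33LO1PuK1.chkB_64
  · exact Helper33LO1PuK2.chkB_65
  · exact Helper33LO1PuK3.chkB_66
  · exact Helper33LO1PuK4.chkB_67
  · exact Helper33LO1PuK5.chkB_68
  · exact Helper33LO1PuK6.chkB_69
  · exact Helper33LO1PuK7.chkB_70
  · exact Helper33LO1PuK0.chkB_71
  · exact Helper33LO1PuK1.chkB_72
  · exact Helper33LO1PuK2.chkB_73
  · exact Helper33LO1PuK3.chkB_74
  · exact Helper33LO1PuK4.chkB_75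
  · exact Helper33LO1PuK5.chkB_76
  · exact Helper33LO1PuK6.chkB_77
  · exact Helper33LO1PuK7.chkB_78
  · exact Helper33LO1PuK0.chkB_79
  · exact Helper33LO1PuK1.chkB_80
  · exact Helper33LO1PuK2.chkB_81
  · exact Helper33LO1PuK3.chkB_82
  · exact Helper33LO1PuK4.chkB_83
  · exact Helper33LO1PuK5.chkB_84
  · exact Helper33LO1PuK6.chkB_85
  · exact Helper33LO1PuK7.chkB_86
  · exact Helper33LO1PuK0.chkB_87
  · exact Helper33LO1PuK1.chkB_88
  · exact Helper33LO1PuK2.chkB_89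
  · exact Helper33LO1PuK3.chkB_90
  · exact Helper33LO1PuK4.chkB_91
  · exact Helper33LO1PuK5.chkB_92
  · exact Helper33LO1PuK6.chkB_93
  · exact Helper33LO1PuK7.chkB_94
  · exact Helper33LO1PuK0.chkB_95
  · exact Helper33LO1PuK1.chkB_96
  · exact Helper33LO1PuK2.chkB_97
  · exact Helper33LO1PuK3.chkB_98
  · exact Helper33LO1PuK4.chkB_99
  · exact Helper33LO1PuK5.chkB_100
  · exact Helper33LO1PuK6.chkB_101
  · exact Helper33LO1PuK7.chkB_102
  · exact Helper33LO1PuK0.chkB_103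
  · exact Helper33LO1PuK1.chkB_104
  · exact Helper33LO1PuK2.chkB_105
  · exact Helper33LO1PuK3.chkB_106
  · exact Helper33LO1PuK4.chkB_107
  · exact Helper33LO1PuK5.chkB_108
  · exact Helper33LO1PuK6.chkB_109
  · exact Helper33LO1PuK7.chkB_110
  · exact Helper33LO1PuK0.chkB_111
  · exact Helper33LO1PuK1.chkB_112
  · exact Helper33LO1PuK2.chkB_113
  · exact Helper33LO1PuK3.chkB_114
  · exact Helper33LO1PuK4.chkB_115
  · exact Helper33LO1PuK5.chkB_116
  · exact Helper33LO1PuK6.chkB_117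
  · exact Helper33LO1PuK7.chkB_118
  · exact Helper33LO1PuK0.chkB_119
  · exact Helper33LO1PuK1.chkB_120
  · exact Helper33LO1PuK2.chkB_121
  · exact Helper33LO1PuK3.chkB_122
  · exact Helper33LO1PuK4.chkB_123
  · exact Helper33LO1PuK5.chkB_124
  · exact Helper33LO1PuK6.chkB_125
  · exact Helper33LO1PuK7.chkB_126
  · exact Helper33LO1PuK0.chkB_127
  · exact Helper33LO1PuK1.chkB_128
  · exact Helper33LO1PuK2.chkB_129
  · exact Helper33LO1PuK3.chkB_130
  · exact Helper33LO1PuK4.chkB_131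
  · exact Helper33LO1PuK5.chkB_132
  · exact Helper33LO1PuK6.chkB_133
  · exact Helper33LO1PuK7.chkB_134
  · exact Helper33LO1PuK0.chkB_135
  · exact Helper33LO1PuK1.chkB_136
  · exact Helper33LO1PuK2.chkB_137
  · exact Helper33LO1PuK3.chkB_138
  · exact Helper33LO1PuK4.chkB_139
  · exact Helper33LO1PuK5.chkB_140
  · exact Helper33LO1PuK6.chkB_141
  · exact Helper33LO1PuK7.chkB_142
  · exact Helper33LO1PuK0.chkB_143
  · exact Helper33LO1PuK1.chkB_144
  · exact Helper33LO1PuK2.chkB_145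
  · exact Helper33LO1PuK3.chkB_146
  · exact Helper33LO1PuK4.chkB_147
  · exact Helper33LO1PuK5.chkB_148
  · exact Helper33LO1PuK6.chkB_149
  · exact Helper33LO1PuK7.chkB_150
  · exact Helper33LO1PuK0.chkB_151
  · exact Helper33LO1PuK1.chkB_152
  · exact Helper33LO1PuK2.chkB_153
  · exact Helper33LO1PuK3.chkB_154
  · exact Helper33LO1PuK4.chkB_155
  · exact Helper33LO1PuK5.chkB_156
  · exact Helper33LO1PuK6.chkB_157
  · exact Helper33LO1PuK7.chkB_158
  · exact Helper33LO1PuK0.chkB_159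
  · exact Helper33LO1PuK1.chkB_160
  · exact Helper33LO1PuK2.chkB_161
  · exact Helper33LO1PuK3.chkB_162
  · exact Helper33LO1PuK4.chkB_163
  · exact Helper33LO1PuK5.chkB_164
  · exact Helper33LO1PuK6.chkB_165
  · exact Helper33LO1PuK7.chkB_166
  · exact Helper33LO1PuK0.chkB_167
  · exact Helper33LO1PuK1.chkB_168
  · exact Helper33LO1PuK2.chkB_169
  · exact Helper33LO1PuK3.chkB_170
  · exact Helper33LO1PuK4.chkB_171
  · exact Helper33LO1PuK5.chkB_172
  · exact Helper33LO1PuK6.chkB_173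
  · exact Helper33LO1PuK7.chkB_174
  · exact Helper33LO1PuK0.chkB_175
  · exact Helper33LO1PuK1.chkB_176
  · exact Helper33LO1PuK2.chkB_177
  · exact Helper33LO1PuK3.chkB_178
  · exact Helper33LO1PuK4.chkB_179
  · exact Helper33LO1PuK5.chkB_180
  · exact Helper33LO1PuK6.chkB_181
  · exact Helper33LO1PuK7.chkB_182
  · exact Helper33LO1PuK0.chkB_183
  · exact Helper33LO1PuK1.chkB_184
  · exact Helper33LO1PuK2.chkB_185
  · exact Helper33LO1PuK3.chkB_186
  · exact Helper33LO1PuK4.chkB_187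
  · exact Helper33LO1PuK5.chkB_188
  · exact Helper33LO1PuK6.chkB_189

theorem chkC : (List.range 4096).all (fC Helper33LO1D.cndT Helper33LO1D.chkU) = true := by
  apply all_of_chunks _ 21 196 _ (le_of_eq_of_le List.length_range (by norm_num))
  intro j hj
  interval_cases j
  · exact Helper33LO1PuK7.chkC_0
  · exact Helper33LO1PuK0.chkC_1
  · exact Helper33LO1PuK1.chkC_2
  · exact Helper33LO1PuK2.chkC_3
  · exact Helper33LO1PuK3.chkC_4
  · exact Helper33LO1PuK4.chkC_5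
  · exact Helper33LO1PuK5.chkC_6
  · exact Helper33LO1PuK6.chkC_7
  · exact Helper33LO1PuK7.chkC_8
  · exact Helper33LO1PuK0.chkC_9
  · exact Helper33LO1PuK1.chkC_10
  · exact Helper33LO1PuK2.chkC_11
  · exact Helper33LO1PuK3.chkC_12
  · exact Helper33LO1PuK4.chkC_13
  · exact Helper33LO1PuK5.chkC_14
  · exact Helper33LO1PuK6.chkC_15
  · exact Helper33LO1PuK7.chkC_16
  · exact Helper33LO1PuK0.chkC_17
  · exact Helper33LO1PuK1.chkC_18
  · exact Helper33LO1PuK2.chkC_19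
  · exact Helper33LO1PuK3.chkC_20
  · exact Helper33LO1PuK4.chkC_21
  · exact Helper33LO1PuK5.chkC_22
  · exact Helper33LO1PuK6.chkC_23
  · exact Helper33LO1PuK7.chkC_24
  · exact Helper33LO1PuK0.chkC_25
  · exact Helper33LO1PuK1.chkC_26
  · exact Helper33LO1PuK2.chkC_27
  · exact Helper33LO1PuK3.chkC_28
  · exact Helper33LO1PuK4.chkC_29
  · exact Helper33LO1PuK5.chkC_30
  · exact Helper33LO1PuK6.chkC_31
  · exact Helper33LO1PuK7.chkC_32
  · exact Helper33LO1PuK0.chkC_33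
  · exact Helper33LO1PuK1.chkC_34
  · exact Helper33LO1PuK2.chkC_35
  · exact Helper33LO1PuK3.chkC_36
  · exact Helper33LO1PuK4.chkC_37
  · exact Helper33LO1PuK5.chkC_38
  · exact Helper33LO1PuK6.chkC_39
  · exact Helper33LO1PuK7.chkC_40
  · exact Helper33LO1PuK0.chkC_41
  · exact Helper33LO1PuK1.chkC_42
  · exact Helper33LO1PuK2.chkC_43
  · exact Helper33LO1PuK3.chkC_44
  · exact Helper33LO1PuK4.chkC_45
  · exact Helper33LO1PuK5.chkC_46
  · exact Helper33LO1PuK6.chkC_47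
  · exact Helper33LO1PuK7.chkC_48
  · exact Helper33LO1PuK0.chkC_49
  · exact Helper33LO1PuK1.chkC_50
  · exact Helper33LO1PuK2.chkC_51
  · exact Helper33LO1PuK3.chkC_52
  · exact Helper33LO1PuK4.chkC_53
  · exact Helper33LO1PuK5.chkC_54
  · exact Helper33LO1PuK6.chkC_55
  · exact Helper33LO1PuK7.chkC_56
  · exact Helper33LO1PuK0.chkC_57
  · exact Helper33LO1PuK1.chkC_58
  · exact Helper33LO1PuK2.chkC_59
  · exact Helper33LO1PuK3.chkC_60
  · exact Helper33LO1PuK4.chkC_61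
  · exact Helper33LO1PuK5.chkC_62
  · exact Helper33LO1PuK6.chkC_63
  · exact Helper33LO1PuK7.chkC_64
  · exact Helper33LO1PuK0.chkC_65
  · exact Helper33LO1PuK1.chkC_66
  · exact Helper33LO1PuK2.chkC_67
  · exact Helper33LO1PuK3.chkC_68
  · exact Helper33LO1PuK4.chkC_69
  · exact Helper33LO1PuK5.chkC_70
  · exact Helper33LO1PuK6.chkC_71
  · exact Helper33LO1PuK7.chkC_72
  · exact Helper33LO1PuK0.chkC_73
  · exact Helper33LO1PuK1.chkC_74
  · exact Helper33LO1PuK2.chkC_75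
  · exact Helper33LO1PuK3.chkC_76
  · exact Helper33LO1PuK4.chkC_77
  · exact Helper33LO1PuK5.chkC_78
  · exact Helper33LO1PuK6.chkC_79
  · exact Helper33LO1PuK7.chkC_80
  · exact Helper33LO1PuK0.chkC_81
  · exact Helper33LO1PuK1.chkC_82
  · exact Helper33LO1PuK2.chkC_83
  · exact Helper33LO1PuK3.chkC_84
  · exact Helper33LO1PuK4.chkC_85
  · exact Helper33LO1PuK5.chkC_86
  · exact Helper33LO1PuK6.chkC_87
  · exact Helper33LO1PuK7.chkC_88
  · exact Helper33LO1PuK0.chkC_89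
  · exact Helper33LO1PuK1.chkC_90
  · exact Helper33LO1PuK2.chkC_91
  · exact Helper33LO1PuK3.chkC_92
  · exact Helper33LO1PuK4.chkC_93
  · exact Helper33LO1PuK5.chkC_94
  · exact Helper33LO1PuK6.chkC_95
  · exact Helper33LO1PuK7.chkC_96
  · exact Helper33LO1PuK0.chkC_97
  · exact Helper33LO1PuK1.chkC_98
  · exact Helper33LO1PuK2.chkC_99
  · exact Helper33LO1PuK3.chkC_100
  · exact Helper33LO1PuK4.chkC_101
  · exact Helper33LO1PuK5.chkC_102
  · exact Helper33LO1PuK6.chkC_103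
  · exact Helper33LO1PuK7.chkC_104
  · exact Helper33LO1PuK0.chkC_105
  · exact Helper33LO1PuK1.chkC_106
  · exact Helper33LO1PuK2.chkC_107
  · exact Helper33LO1PuK3.chkC_108
  · exact Helper33LO1PuK4.chkC_109
  · exact Helper33LO1PuK5.chkC_110
  · exact Helper33LO1PuK6.chkC_111
  · exact Helper33LO1PuK7.chkC_112
  · exact Helper33LO1PuK0.chkC_113
  · exact Helper33LO1PuK1.chkC_114
  · exact Helper33LO1PuK2.chkC_115
  · exact Helper33LO1PuK3.chkC_116
  · exact Helper33LO1PuK4.chkC_117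
  · exact Helper33LO1PuK5.chkC_118
  · exact Helper33LO1PuK6.chkC_119
  · exact Helper33LO1PuK7.chkC_120
  · exact Helper33LO1PuK0.chkC_121
  · exact Helper33LO1PuK1.chkC_122
  · exact Helper33LO1PuK2.chkC_123
  · exact Helper33LO1PuK3.chkC_124
  · exact Helper33LO1PuK4.chkC_125
  · exact Helper33LO1PuK5.chkC_126
  · exact Helper33LO1PuK6.chkC_127
  · exact Helper33LO1PuK7.chkC_128
  · exact Helper33LO1PuK0.chkC_129
  · exact Helper33LO1PuK1.chkC_130
  · exact Helper33LO1PuK2.chkC_131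
  · exact Helper33LO1PuK3.chkC_132
  · exact Helper33LO1PuK4.chkC_133
  · exact Helper33LO1PuK5.chkC_134
  · exact Helper33LO1PuK6.chkC_135
  · exact Helper33LO1PuK7.chkC_136
  · exact Helper33LO1PuK0.chkC_137
  · exact Helper33LO1PuK1.chkC_138
  · exact Helper33LO1PuK2.chkC_139
  · exact Helper33LO1PuK3.chkC_140
  · exact Helper33LO1PuK4.chkC_141
  · exact Helper33LO1PuK5.chkC_142
  · exact Helper33LO1PuK6.chkC_143
  · exact Helper33LO1PuK7.chkC_144
  · exact Helper33LO1PuK0.chkC_145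
  · exact Helper33LO1PuK1.chkC_146
  · exact Helper33LO1PuK2.chkC_147
  · exact Helper33LO1PuK3.chkC_148
  · exact Helper33LO1PuK4.chkC_149
  · exact Helper33LO1PuK5.chkC_150
  · exact Helper33LO1PuK6.chkC_151
  · exact Helper33LO1PuK7.chkC_152
  · exact Helper33LO1PuK0.chkC_153
  · exact Helper33LO1PuK1.chkC_154
  · exact Helper33LO1PuK2.chkC_155
  · exact Helper33LO1PuK3.chkC_156
  · exact Helper33LO1PuK4.chkC_157
  · exact Helper33LO1PuK5.chkC_158
  · exact Helper33LO1PuK6.chkC_159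
  · exact Helper33LO1PuK7.chkC_160
  · exact Helper33LO1PuK0.chkC_161
  · exact Helper33LO1PuK1.chkC_162
  · exact Helper33LO1PuK2.chkC_163
  · exact Helper33LO1PuK3.chkC_164
  · exact Helper33LO1PuK4.chkC_165
  · exact Helper33LO1PuK5.chkC_166
  · exact Helper33LO1PuK6.chkC_167
  · exact Helper33LO1PuK7.chkC_168
  · exact Helper33LO1PuK0.chkC_169
  · exact Helper33LO1PuK1.chkC_170
  · exact Helper33LO1PuK2.chkC_171
  · exact Helper33LO1PuK3.chkC_172
  · exact Helper33LO1PuK4.chkC_173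
  · exact Helper33LO1PuK5.chkC_174
  · exact Helper33LO1PuK6.chkC_175
  · exact Helper33LO1PuK7.chkC_176
  · exact Helper33LO1PuK0.chkC_177
  · exact Helper33LO1PuK1.chkC_178
  · exact Helper33LO1PuK2.chkC_179
  · exact Helper33LO1PuK3.chkC_180
  · exact Helper33LO1PuK4.chkC_181
  · exact Helper33LO1PuK5.chkC_182
  · exact Helper33LO1PuK6.chkC_183
  · exact Helper33LO1PuK7.chkC_184
  · exact Helper33LO1PuK0.chkC_185
  · exact Helper33LO1PuK1.chkC_186
  · exact Helper33LO1PuK2.chkC_187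
  · exact Helper33LO1PuK3.chkC_188
  · exact Helper33LO1PuK4.chkC_189
  · exact Helper33LO1PuK5.chkC_190
  · exact Helper33LO1PuK6.chkC_191
  · exact Helper33LO1PuK7.chkC_192
  · exact Helper33LO1PuK0.chkC_193
  · exact Helper33LO1PuK1.chkC_194
  · exact Helper33LO1PuK2.chkC_195

theorem chk_all : ∀ m ∈ minL, Helper33LO1D.cndT m = true → Helper33LO1D.chkU m = true :=
  forall_minL' Helper33LO1D.cndT Helper33LO1D.chkU Helper33LO1PuK0.chkA chkB chkC

end Cfsg.Agent.Lib.Helper33LO1PuAll
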