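import Cfsg.Agent.Lib.Helper33LO2CApAll

/-! # The centraliser in `Co2` of the element `a` of order 23 (helper33) -/

set_option autoImplicit false
set_option exponentiation.threshold 2000
set_option maxRecDepth 1000000

open Cfsg Cfsg.Agent.Lib.Helper33Golay Cfsg.Agent.Lib.Helper33LVec Cfsg.Agent.Lib.Helper33LMat
open Cfsg.Agent.Lib.Helper33LTest Cfsg.Agent.Lib.Helper33LCo0 Cfsg.Agent.Lib.Helper33LFrame
open Cfsg.Agent.Lib.Helper33LGood Cfsg.Agent.Lib.Helper33LReach2 Cfsg.Agent.Lib.Helper33LWord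
open Cfsg.Agent.Lib.Helper33LPat Cfsg.Agent.Lib.Helper33LFrame2 Cfsg.Agent.Lib.Helper33LBase
open Cfsg.Agent.Lib.Helper33LMcL Cfsg.Agent.Lib.Helper33LHS Cfsg.Agent.Lib.Helper33LReach
open Cfsg.Agent.Lib.Helper33LCo2Thy Cfsg.Agent.Lib.Helper33LCent Cfsg.Agent.Lib.Helper33LCent2
open Cfsg.Agent.Lib.Helper33LCent3 Cfsg.Agent.Lib.Helper33LMin
open MulAction

open Cfsg.Agent.Lib.Helper33LO3D Cfsg.Agent.Lib.Helper33LO2D Cfsg.Agent.Lib.Helper33LO2CAD

namespace Cfsg.Agent.Lib.Helper33LO2CA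

theorem good (P : ℕ) (hP : P ∈ [PA, PAi, PU, PT2]) :
    goodP P = true ∧ [v2c].all (fun b => stepOK P b b) = true := by
  have := List.all_eq_true.1 good2 P hP
  rwa [Bool.and_eq_true] at this

theorem centA (c : ↥Co0) (hc : c ∈ Zg PA ([v2c].map DL)) : ∃ j : ℕ, toCo0 PA ^ j * c = 1 := by
  have gA := good PA (by simp)
  obtain ⟨hc1, hc2⟩ := mem_Zg.1 hc
  obtain ⟨m, hm, hmc, hwm⟩ := img_cand [v2c] (fun b hb => (Helper33LO2D.ok2 b hb).2) [8] cnd
    (hcW 328 8 (by norm_num)) hc2 w_ok w_c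
  have h1 := stage_gen gA.1 hc1 hwm ref1 pres1 (Helper33LO2CApAll.chk_all m hm hmc)
    ⟨[], by simp, List.Forall₂.nil⟩
  have hwords : ∀ z ∈ words, ∃ j : ℕ, z = List.replicate j PA := by
    intro z hz
    obtain ⟨j, _, rfl⟩ := List.mem_map.1 hz
    exact ⟨j, rfl⟩
  obtain ⟨z, hz, M', hM', h2⟩ := red_spec (W := [w]) (by
    intro z hz P hP
    obtain ⟨j, rfl⟩ := hwords z hz
    rw [List.eq_of_mem_replicate hP]
    exact gA.1) red1 h1
  obtain ⟨j, rfl⟩ := hwords z hz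
  simp only [List.mem_cons, List.not_mem_nil, or_false] at hM'
  subst hM'
  have hz' : wprod (List.replicate j PA) ∈ Zg PA ([v2c].map DL) := wprod_mem (by
    intro P hP
    rw [List.eq_of_mem_replicate hP]
    exact kok_Zg_self gA.1 Helper33LO2D.ok2 gA.2)
  have h3 := cent_final_gen gA.1 Helper33LO2D.ok2 (Subgroup.mul_mem _ hz' hc) h2 hB h0 N (by decide) Cs span
  rw [wprod_replicate] at h3
  exact ⟨j, h3⟩

end Cfsg.Agent.Lib.Helper33LO2CA
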