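import Cfsg.Agent.Lib.Helper33LO2CUD

set_option autoImplicit false
set_option exponentiation.threshold 2000
set_option maxRecDepth 1000000

open Cfsg Cfsg.Agent.Lib.Helper33Golay Cfsg.Agent.Lib.Helper33LVec Cfsg.Agent.Lib.Helper33LMat
open Cfsg.Agent.Lib.Helper33LTest Cfsg.Agent.Lib.Helper33LCo0 Cfsg.Agent.Lib.Helper33LFrame
open Cfsg.Agent.Lib.Helper33LGood Cfsg.Agent.Lib.Helper33LReach2 Cfsg.Agent.Lib.Helper33LWord
open Cfsg.Agent.Lib.Helper33LPat Cfsg.Agent.Lib.Helper33LFrame2 Cfsg.Agent.Lib.Helper33LBase
open Cfsg.Agent.Lib.Helper33LMcL Cfsg.Agent.Lib.Helper33LHS Cfsg.Agent.Lib.Helper33LReach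
open Cfsg.Agent.Lib.Helper33LCo2Thy Cfsg.Agent.Lib.Helper33LCent Cfsg.Agent.Lib.Helper33LCent2
open Cfsg.Agent.Lib.Helper33LCent3 Cfsg.Agent.Lib.Helper33LMin
open MulAction

open Cfsg.Agent.Lib.Helper33LO2CUD

namespace Cfsg.Agent.Lib.Helper33LO2CUrK1

theorem chkB_0 : ((octP.drop (0 * 14)).take 14).all (fB' cnd8 chk3) = true := by
  decide +kernel
theorem chkB_4 : ((octP.drop (4 * 14)).take 14).all (fB' cnd8 chk3) = true := by
  decide +kernel
theorem chkB_8 : ((octP.drop (8 * 14)).take 14).all (fB' cnd8 chk3) = true := by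
  decide +kernel
theorem chkB_12 : ((octP.drop (12 * 14)).take 14).all (fB' cnd8 chk3) = true := by
  decide +kernel
theorem chkB_16 : ((octP.drop (16 * 14)).take 14).all (fB' cnd8 chk3) = true := by
  decide +kernel
theorem chkB_20 : ((octP.drop (20 * 14)).take 14).all (fB' cnd8 chk3) = true := by
  decide +kernel
theorem chkB_24 : ((octP.drop (24 * 14)).take 14).all (fB' cnd8 chk3) = true := by
  decide +kernel
theorem chkB_28 : ((octP.drop (28 * 14)).take 14).all (fB' cnd8 chk3) = true := by
  decide +kernel
theorem chkB_32 : ((octP.drop (32 * 14)).take 14).all (fB' cnd8 chk3) = true := by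
  decide +kernel
theorem chkB_36 : ((octP.drop (36 * 14)).take 14).all (fB' cnd8 chk3) = true := by
  decide +kernel
theorem chkB_40 : ((octP.drop (40 * 14)).take 14).all (fB' cnd8 chk3) = true := by
  decide +kernel
theorem chkB_44 : ((octP.drop (44 * 14)).take 14).all (fB' cnd8 chk3) = true := by
  decide +kernel
theorem chkB_48 : ((octP.drop (48 * 14)).take 14).all (fB' cnd8 chk3) = true := by
  decide +kernel
theorem chkB_52 : ((octP.drop (52 * 14)).take 14).all (fB' cnd8 chk3) = true := by
  decide +kernel
theorem chkC_1 : (((List.range 4096).drop (1 * 70)).take 70).all (fC cnd8 chk3) = true := by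
  decide +kernel
theorem chkC_5 : (((List.range 4096).drop (5 * 70)).take 70).all (fC cnd8 chk3) = true := by
  decide +kernel
theorem chkC_9 : (((List.range 4096).drop (9 * 70)).take 70).all (fC cnd8 chk3) = true := by
  decide +kernel
theorem chkC_13 : (((List.range 4096).drop (13 * 70)).take 70).all (fC cnd8 chk3) = true := by
  decide +kernel
theorem chkC_17 : (((List.range 4096).drop (17 * 70)).take 70).all (fC cnd8 chk3) = true := by
  decide +kernel
theorem chkC_21 : (((List.range 4096).drop (21 * 70)).take 70).all (fC cnd8 chk3) = true := by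
  decide +kernel
theorem chkC_25 : (((List.range 4096).drop (25 * 70)).take 70).all (fC cnd8 chk3) = true := by
  decide +kernel
theorem chkC_29 : (((List.range 4096).drop (29 * 70)).take 70).all (fC cnd8 chk3) = true := by
  decide +kernel
theorem chkC_33 : (((List.range 4096).drop (33 * 70)).take 70).all (fC cnd8 chk3) = true := by
  decide +kernel
theorem chkC_37 : (((List.range 4096).drop (37 * 70)).take 70).all (fC cnd8 chk3) = true := by
  decide +kernel
theorem chkC_41 : (((List.range 4096).drop (41 * 70)).take 70).all (fC cnd8 chk3) = true := by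
  decide +kernel
theorem chkC_45 : (((List.range 4096).drop (45 * 70)).take 70).all (fC cnd8 chk3) = true := by
  decide +kernel
theorem chkC_49 : (((List.range 4096).drop (49 * 70)).take 70).all (fC cnd8 chk3) = true := by
  decide +kernel
theorem chkC_53 : (((List.range 4096).drop (53 * 70)).take 70).all (fC cnd8 chk3) = true := by
  decide +kernel
theorem chkC_57 : (((List.range 4096).drop (57 * 70)).take 70).all (fC cnd8 chk3) = true := by
  decide +kernel

end Cfsg.Agent.Lib.Helper33LO2CUrK1
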