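import Cfsg.Agent.Lib.Helper33LO2CUD

set_option autoImplicit false
set_option exponentiation.threshold 2000
set_option maxRecDepth 1000000

open Cfsg Cfsg.Agent.Lib.Helper33Golay Cfsg.Agent.Lib.Helper33LVec Cfsg.Agent.Lib.Helper33LMat
open Cfsg.Agent.Lib.Helper33LTest Cfsg.Agent.Lib.Helper33LCo0 Cfsg.Agent.Lib.Helper33LFrame
open Cfsg.Agent.Lib.Helper33LGood Cfsg.Agent.Lib.Helper33LReach2 Cfsg.Agent.Lib.Helper33LWord
open Cfsg.Agent.Lib.Helper33LPat Cfsg.Agent.Lib.Helper33LFrame2 Cfsg.Agent.Lib.Helper33LBase
open Cfsg.Agent.Lib.Helper33LMcL Cfsg.Agent.Lib.Helper33LHS Cfsg.Agent.Lib.Helper33LReach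
open Cfsg.Agent.Lib.Helper33LCo2Thy Cfsg.Agent.Lib.Helper33LCent Cfsg.Agent.Lib.Helper33LCent2
open Cfsg.Agent.Lib.Helper33LCent3 Cfsg.Agent.Lib.Helper33LMin
open MulAction

open Cfsg.Agent.Lib.Helper33LO2CUD

namespace Cfsg.Agent.Lib.Helper33LO2CUrK2

theorem chkB_1 : ((octP.drop (1 * 14)).take 14).all (fB' cnd8 chk3) = true := by
  decide +kernel
theorem chkB_5 : ((octP.drop (5 * 14)).take 14).all (fB' cnd8 chk3) = true := by
  decide +kernel
theorem chkB_9 : ((octP.drop (9 * 14)).take 14).all (fB' cnd8 chk3) = true := by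
  decide +kernel
theorem chkB_13 : ((octP.drop (13 * 14)).take 14).all (fB' cnd8 chk3) = true := by
  decide +kernel
theorem chkB_17 : ((octP.drop (17 * 14)).take 14).all (fB' cnd8 chk3) = true := by
  decide +kernel
theorem chkB_21 : ((octP.drop (21 * 14)).take 14).all (fB' cnd8 chk3) = true := by
  decide +kernel
theorem chkB_25 : ((octP.drop (25 * 14)).take 14).all (fB' cnd8 chk3) = true := by
  decide +kernel
theorem chkB_29 : ((octP.drop (29 * 14)).take 14).all (fB' cnd8 chk3) = true := by
  decide +kernel
theorem chkB_33 : ((octP.drop (33 * 14)).take 14).all (fB' cnd8 chk3) = true := by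
  decide +kernel
theorem chkB_37 : ((octP.drop (37 * 14)).take 14).all (fB' cnd8 chk3) = true := by
  decide +kernel
theorem chkB_41 : ((octP.drop (41 * 14)).take 14).all (fB' cnd8 chk3) = true := by
  decide +kernel
theorem chkB_45 : ((octP.drop (45 * 14)).take 14).all (fB' cnd8 chk3) = true := by
  decide +kernel
theorem chkB_49 : ((octP.drop (49 * 14)).take 14).all (fB' cnd8 chk3) = true := by
  decide +kernel
theorem chkB_53 : ((octP.drop (53 * 14)).take 14).all (fB' cnd8 chk3) = true := by
  decide +kernel
theorem chkC_2 : (((List.range 4096).drop (2 * 70)).take 70).all (fC cnd8 chk3) = true := by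
  decide +kernel
theorem chkC_6 : (((List.range 4096).drop (6 * 70)).take 70).all (fC cnd8 chk3) = true := by
  decide +kernel
theorem chkC_10 : (((List.range 4096).drop (10 * 70)).take 70).all (fC cnd8 chk3) = true := by
  decide +kernel
theorem chkC_14 : (((List.range 4096).drop (14 * 70)).take 70).all (fC cnd8 chk3) = true := by
  decide +kernel
theorem chkC_18 : (((List.range 4096).drop (18 * 70)).take 70).all (fC cnd8 chk3) = true := by
  decide +kernel
theorem chkC_22 : (((List.range 4096).drop (22 * 70)).take 70).all (fC cnd8 chk3) = true := by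
  decide +kernel
theorem chkC_26 : (((List.range 4096).drop (26 * 70)).take 70).all (fC cnd8 chk3) = true := by
  decide +kernel
theorem chkC_30 : (((List.range 4096).drop (30 * 70)).take 70).all (fC cnd8 chk3) = true := by
  decide +kernel
theorem chkC_34 : (((List.range 4096).drop (34 * 70)).take 70).all (fC cnd8 chk3) = true := by
  decide +kernel
theorem chkC_38 : (((List.range 4096).drop (38 * 70)).take 70).all (fC cnd8 chk3) = true := by
  decide +kernel
theorem chkC_42 : (((List.range 4096).drop (42 * 70)).take 70).all (fC cnd8 chk3) = true := by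
  decide +kernel
theorem chkC_46 : (((List.range 4096).drop (46 * 70)).take 70).all (fC cnd8 chk3) = true := by
  decide +kernel
theorem chkC_50 : (((List.range 4096).drop (50 * 70)).take 70).all (fC cnd8 chk3) = true := by
  decide +kernel
theorem chkC_54 : (((List.range 4096).drop (54 * 70)).take 70).all (fC cnd8 chk3) = true := by
  decide +kernel
theorem chkC_58 : (((List.range 4096).drop (58 * 70)).take 70).all (fC cnd8 chk3) = true := by
  decide +kernel

end Cfsg.Agent.Lib.Helper33LO2CUrK2
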