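import Cfsg.Agent.Lib.Helper33LO2CUD

set_option autoImplicit false
set_option exponentiation.threshold 2000
set_option maxRecDepth 1000000

open Cfsg Cfsg.Agent.Lib.Helper33Golay Cfsg.Agent.Lib.Helper33LVec Cfsg.Agent.Lib.Helper33LMat
open Cfsg.Agent.Lib.Helper33LTest Cfsg.Agent.Lib.Helper33LCo0 Cfsg.Agent.Lib.Helper33LFrame
open Cfsg.Agent.Lib.Helper33LGood Cfsg.Agent.Lib.Helper33LReach2 Cfsg.Agent.Lib.Helper33LWord
open Cfsg.Agent.Lib.Helper33LPat Cfsg.Agent.Lib.Helper33LFrame2 Cfsg.Agent.Lib.Helper33LBase
open Cfsg.Agent.Lib.Helper33LMcL Cfsg.Agent.Lib.Helper33LHS Cfsg.Agent.Lib.Helper33LReach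
open Cfsg.Agent.Lib.Helper33LCo2Thy Cfsg.Agent.Lib.Helper33LCent Cfsg.Agent.Lib.Helper33LCent2
open Cfsg.Agent.Lib.Helper33LCent3 Cfsg.Agent.Lib.Helper33LMin
open MulAction

open Cfsg.Agent.Lib.Helper33LO2CUD

namespace Cfsg.Agent.Lib.Helper33LO2CUrK3

theorem chkB_2 : ((octP.drop (2 * 14)).take 14).all (fB' cnd8 chk3) = true := by
  decide +kernel
theorem chkB_6 : ((octP.drop (6 * 14)).take 14).all (fB' cnd8 chk3) = true := by
  decide +kernel
theorem chkB_10 : ((octP.drop (10 * 14)).take 14).all (fB' cnd8 chk3) = true := by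
  decide +kernel
theorem chkB_14 : ((octP.drop (14 * 14)).take 14).all (fB' cnd8 chk3) = true := by
  decide +kernel
theorem chkB_18 : ((octP.drop (18 * 14)).take 14).all (fB' cnd8 chk3) = true := by
  decide +kernel
theorem chkB_22 : ((octP.drop (22 * 14)).take 14).all (fB' cnd8 chk3) = true := by
  decide +kernel
theorem chkB_26 : ((octP.drop (26 * 14)).take 14).all (fB' cnd8 chk3) = true := by
  decide +kernel
theorem chkB_30 : ((octP.drop (30 * 14)).take 14).all (fB' cnd8 chk3) = true := by
  decide +kernel
theorem chkB_34 : ((octP.drop (34 * 14)).take 14).all (fB' cnd8 chk3) = true := by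
  decide +kernel
theorem chkB_38 : ((octP.drop (38 * 14)).take 14).all (fB' cnd8 chk3) = true := by
  decide +kernel
theorem chkB_42 : ((octP.drop (42 * 14)).take 14).all (fB' cnd8 chk3) = true := by
  decide +kernel
theorem chkB_46 : ((octP.drop (46 * 14)).take 14).all (fB' cnd8 chk3) = true := by
  decide +kernel
theorem chkB_50 : ((octP.drop (50 * 14)).take 14).all (fB' cnd8 chk3) = true := by
  decide +kernel
theorem chkB_54 : ((octP.drop (54 * 14)).take 14).all (fB' cnd8 chk3) = true := by
  decide +kernel
theorem chkC_3 : (((List.range 4096).drop (3 * 70)).take 70).all (fC cnd8 chk3) = true := by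
  decide +kernel
theorem chkC_7 : (((List.range 4096).drop (7 * 70)).take 70).all (fC cnd8 chk3) = true := by
  decide +kernel
theorem chkC_11 : (((List.range 4096).drop (11 * 70)).take 70).all (fC cnd8 chk3) = true := by
  decide +kernel
theorem chkC_15 : (((List.range 4096).drop (15 * 70)).take 70).all (fC cnd8 chk3) = true := by
  decide +kernel
theorem chkC_19 : (((List.range 4096).drop (19 * 70)).take 70).all (fC cnd8 chk3) = true := by
  decide +kernel
theorem chkC_23 : (((List.range 4096).drop (23 * 70)).take 70).all (fC cnd8 chk3) = true := by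
  decide +kernel
theorem chkC_27 : (((List.range 4096).drop (27 * 70)).take 70).all (fC cnd8 chk3) = true := by
  decide +kernel
theorem chkC_31 : (((List.range 4096).drop (31 * 70)).take 70).all (fC cnd8 chk3) = true := by
  decide +kernel
theorem chkC_35 : (((List.range 4096).drop (35 * 70)).take 70).all (fC cnd8 chk3) = true := by
  decide +kernel
theorem chkC_39 : (((List.range 4096).drop (39 * 70)).take 70).all (fC cnd8 chk3) = true := by
  decide +kernel
theorem chkC_43 : (((List.range 4096).drop (43 * 70)).take 70).all (fC cnd8 chk3) = true := by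
  decide +kernel
theorem chkC_47 : (((List.range 4096).drop (47 * 70)).take 70).all (fC cnd8 chk3) = true := by
  decide +kernel
theorem chkC_51 : (((List.range 4096).drop (51 * 70)).take 70).all (fC cnd8 chk3) = true := by
  decide +kernel
theorem chkC_55 : (((List.range 4096).drop (55 * 70)).take 70).all (fC cnd8 chk3) = true := by
  decide +kernel

end Cfsg.Agent.Lib.Helper33LO2CUrK3
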