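import Cfsg.Agent.Lib.Helper33LO2CUrK0
import Cfsg.Agent.Lib.Helper33LO2CUrK1
import Cfsg.Agent.Lib.Helper33LO2CUrK2
import Cfsg.Agent.Lib.Helper33LO2CUrK3

set_option autoImplicit false
set_option exponentiation.threshold 2000
set_option maxRecDepth 1000000

open Cfsg Cfsg.Agent.Lib.Helper33Golay Cfsg.Agent.Lib.Helper33LVec Cfsg.Agent.Lib.Helper33LMat
open Cfsg.Agent.Lib.Helper33LTest Cfsg.Agent.Lib.Helper33LCo0 Cfsg.Agent.Lib.Helper33LFrame
open Cfsg.Agent.Lib.Helper33LGood Cfsg.Agent.Lib.Helper33LReach2 Cfsg.Agent.Lib.Helper33LWord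
open Cfsg.Agent.Lib.Helper33LPat Cfsg.Agent.Lib.Helper33LFrame2 Cfsg.Agent.Lib.Helper33LBase
open Cfsg.Agent.Lib.Helper33LMcL Cfsg.Agent.Lib.Helper33LHS Cfsg.Agent.Lib.Helper33LReach
open Cfsg.Agent.Lib.Helper33LCo2Thy Cfsg.Agent.Lib.Helper33LCent Cfsg.Agent.Lib.Helper33LCent2
open Cfsg.Agent.Lib.Helper33LCent3 Cfsg.Agent.Lib.Helper33LMin
open MulAction

open Cfsg.Agent.Lib.Helper33LO2CUD

namespace Cfsg.Agent.Lib.Helper33LO2CUrAll

theorem chkB : octP.all (fB' Helper33LO2CUD.cnd8 Helper33LO2CUD.chk3) = true := by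
  apply all_of_chunks _ 14 55 _ (le_of_eq_of_le octP_length (by norm_num))
  intro j hj
  interval_cases j
  · exact Helper33LO2CUrK1.chkB_0
  · exact Helper33LO2CUrK2.chkB_1
  · exact Helper33LO2CUrK3.chkB_2
  · exact Helper33LO2CUrK0.chkB_3
  · exact Helper33LO2CUrK1.chkB_4
  · exact Helper33LO2CUrK2.chkB_5
  · exact Helper33LO2CUrK3.chkB_6
  · exact Helper33LO2CUrK0.chkB_7
  · exact Helper33LO2CUrK1.chkB_8
  · exact Helper33LO2CUrK2.chkB_9
  · exact Helper33LO2CUrK3.chkB_10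
  · exact Helper33LO2CUrK0.chkB_11
  · exact Helper33LO2CUrK1.chkB_12
  · exact Helper33LO2CUrK2.chkB_13
  · exact Helper33LO2CUrK3.chkB_14
  · exact Helper33LO2CUrK0.chkB_15
  · exact Helper33LO2CUrK1.chkB_16
  · exact Helper33LO2CUrK2.chkB_17
  · exact Helper33LO2CUrK3.chkB_18
  · exact Helper33LO2CUrK0.chkB_19
  · exact Helper33LO2CUrK1.chkB_20
  · exact Helper33LO2CUrK2.chkB_21
  · exact Helper33LO2CUrK3.chkB_22
  · exact Helper33LO2CUrK0.chkB_23
  · exact Helper33LO2CUrK1.chkB_24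
  · exact Helper33LO2CUrK2.chkB_25
  · exact Helper33LO2CUrK3.chkB_26
  · exact Helper33LO2CUrK0.chkB_27
  · exact Helper33LO2CUrK1.chkB_28
  · exact Helper33LO2CUrK2.chkB_29
  · exact Helper33LO2CUrK3.chkB_30
  · exact Helper33LO2CUrK0.chkB_31
  · exact Helper33LO2CUrK1.chkB_32
  · exact Helper33LO2CUrK2.chkB_33
  · exact Helper33LO2CUrK3.chkB_34
  · exact Helper33LO2CUrK0.chkB_35
  · exact Helper33LO2CUrK1.chkB_36
  · exact Helper33LO2CUrK2.chkB_37
  · exact Helper33LO2CUrK3.chkB_38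
  · exact Helper33LO2CUrK0.chkB_39
  · exact Helper33LO2CUrK1.chkB_40
  · exact Helper33LO2CUrK2.chkB_41
  · exact Helper33LO2CUrK3.chkB_42
  · exact Helper33LO2CUrK0.chkB_43
  · exact Helper33LO2CUrK1.chkB_44
  · exact Helper33LO2CUrK2.chkB_45
  · exact Helper33LO2CUrK3.chkB_46
  · exact Helper33LO2CUrK0.chkB_47
  · exact Helper33LO2CUrK1.chkB_48
  · exact Helper33LO2CUrK2.chkB_49
  · exact Helper33LO2CUrK3.chkB_50
  · exact Helper33LO2CUrK0.chkB_51
  · exact Helper33LO2CUrK1.chkB_52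
  · exact Helper33LO2CUrK2.chkB_53
  · exact Helper33LO2CUrK3.chkB_54

theorem chkC : (List.range 4096).all (fC Helper33LO2CUD.cnd8 Helper33LO2CUD.chk3) = true := by
  apply all_of_chunks _ 70 59 _ (le_of_eq_of_le List.length_range (by norm_num))
  intro j hj
  interval_cases j
  · exact Helper33LO2CUrK0.chkC_0
  · exact Helper33LO2CUrK1.chkC_1
  · exact Helper33LO2CUrK2.chkC_2
  · exact Helper33LO2CUrK3.chkC_3
  · exact Helper33LO2CUrK0.chkC_4
  · exact Helper33LO2CUrK1.chkC_5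
  · exact Helper33LO2CUrK2.chkC_6
  · exact Helper33LO2CUrK3.chkC_7
  · exact Helper33LO2CUrK0.chkC_8
  · exact Helper33LO2CUrK1.chkC_9
  · exact Helper33LO2CUrK2.chkC_10
  · exact Helper33LO2CUrK3.chkC_11
  · exact Helper33LO2CUrK0.chkC_12
  · exact Helper33LO2CUrK1.chkC_13
  · exact Helper33LO2CUrK2.chkC_14
  · exact Helper33LO2CUrK3.chkC_15
  · exact Helper33LO2CUrK0.chkC_16
  · exact Helper33LO2CUrK1.chkC_17
  · exact Helper33LO2CUrK2.chkC_18
  · exact Helper33LO2CUrK3.chkC_19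
  · exact Helper33LO2CUrK0.chkC_20
  · exact Helper33LO2CUrK1.chkC_21
  · exact Helper33LO2CUrK2.chkC_22
  · exact Helper33LO2CUrK3.chkC_23
  · exact Helper33LO2CUrK0.chkC_24
  · exact Helper33LO2CUrK1.chkC_25
  · exact Helper33LO2CUrK2.chkC_26
  · exact Helper33LO2CUrK3.chkC_27
  · exact Helper33LO2CUrK0.chkC_28
  · exact Helper33LO2CUrK1.chkC_29
  · exact Helper33LO2CUrK2.chkC_30
  · exact Helper33LO2CUrK3.chkC_31
  · exact Helper33LO2CUrK0.chkC_32
  · exact Helper33LO2CUrK1.chkC_33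
  · exact Helper33LO2CUrK2.chkC_34
  · exact Helper33LO2CUrK3.chkC_35
  · exact Helper33LO2CUrK0.chkC_36
  · exact Helper33LO2CUrK1.chkC_37
  · exact Helper33LO2CUrK2.chkC_38
  · exact Helper33LO2CUrK3.chkC_39
  · exact Helper33LO2CUrK0.chkC_40
  · exact Helper33LO2CUrK1.chkC_41
  · exact Helper33LO2CUrK2.chkC_42
  · exact Helper33LO2CUrK3.chkC_43
  · exact Helper33LO2CUrK0.chkC_44
  · exact Helper33LO2CUrK1.chkC_45
  · exact Helper33LO2CUrK2.chkC_46
  · exact Helper33LO2CUrK3.chkC_47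
  · exact Helper33LO2CUrK0.chkC_48
  · exact Helper33LO2CUrK1.chkC_49
  · exact Helper33LO2CUrK2.chkC_50
  · exact Helper33LO2CUrK3.chkC_51
  · exact Helper33LO2CUrK0.chkC_52
  · exact Helper33LO2CUrK1.chkC_53
  · exact Helper33LO2CUrK2.chkC_54
  · exact Helper33LO2CUrK3.chkC_55
  · exact Helper33LO2CUrK0.chkC_56
  · exact Helper33LO2CUrK1.chkC_57
  · exact Helper33LO2CUrK2.chkC_58

theorem chk_all : ∀ m ∈ minL, Helper33LO2CUD.cnd8 m = true → Helper33LO2CUD.chk3 m = true :=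
  forall_minL' Helper33LO2CUD.cnd8 Helper33LO2CUD.chk3 Helper33LO2CUrK0.chkA chkB chkC

end Cfsg.Agent.Lib.Helper33LO2CUrAll
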