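import Cfsg.Agent.Lib.Helper33LO2CUpAll
import Cfsg.Agent.Lib.Helper33LO2CUqAll
import Cfsg.Agent.Lib.Helper33LO2CUrAll

/-! # The centraliser in `Co2` of the element `u` of order 11 (helper33) -/

set_option autoImplicit false
set_option exponentiation.threshold 2000
set_option maxRecDepth 1000000

open Cfsg Cfsg.Agent.Lib.Helper33Golay Cfsg.Agent.Lib.Helper33LVec Cfsg.Agent.Lib.Helper33LMat
open Cfsg.Agent.Lib.Helper33LTest Cfsg.Agent.Lib.Helper33LCo0 Cfsg.Agent.Lib.Helper33LFrame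
open Cfsg.Agent.Lib.Helper33LGood Cfsg.Agent.Lib.Helper33LReach2 Cfsg.Agent.Lib.Helper33LWord
open Cfsg.Agent.Lib.Helper33LPat Cfsg.Agent.Lib.Helper33LFrame2 Cfsg.Agent.Lib.Helper33LBase
open Cfsg.Agent.Lib.Helper33LMcL Cfsg.Agent.Lib.Helper33LHS Cfsg.Agent.Lib.Helper33LReach
open Cfsg.Agent.Lib.Helper33LCo2Thy Cfsg.Agent.Lib.Helper33LCent Cfsg.Agent.Lib.Helper33LCent2
open Cfsg.Agent.Lib.Helper33LCent3 Cfsg.Agent.Lib.Helper33LMin
open MulAction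

open Cfsg.Agent.Lib.Helper33LO3D Cfsg.Agent.Lib.Helper33LO2D Cfsg.Agent.Lib.Helper33LO2CUD

namespace Cfsg.Agent.Lib.Helper33LO2CU

theorem good (P : ℕ) (hP : P ∈ [PA, PAi, PU, PT2]) :
    goodP P = true ∧ [v2c].all (fun b => stepOK P b b) = true := by
  have := List.all_eq_true.1 good2 P hP
  rwa [Bool.and_eq_true] at this

theorem wk (w : ℕ) (hw : w ∈ [w1, w2, w3]) : (inR w && isLeech w && normB 32 w) = true :=
  List.all_eq_true.1 w_ok w hw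

theorem centU (c : ↥Co0) (hc : c ∈ Zg PU ([v2c].map DL)) : ∃ j : ℕ, toCo0 PU ^ j * c = 1 := by
  have gU := good PU (by simp)
  have hwc := w_c
  simp only [Bool.and_eq_true] at hwc
  obtain ⟨hc1, hc2⟩ := mem_Zg.1 hc
  obtain ⟨m, hm, hmc, hwm⟩ := img_cand [v2c] (fun b hb => (Helper33LO2D.ok2 b hb).2) [16] cnd16
    (hcW 336 16 (by norm_num)) hc2 (wk w1 (by simp)) hwc.1.1
  have h1 := stage_gen gU.1 hc1 hwm ref1 pok1 (Helper33LO2CUpAll.chk_all m hm hmc)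
    ⟨[], by simp, List.Forall₂.nil⟩
  have hwords : ∀ z ∈ words, ∃ j : ℕ, z = List.replicate j PU := by
    intro z hz
    obtain ⟨j, _, rfl⟩ := List.mem_map.1 hz
    exact ⟨j, rfl⟩
  obtain ⟨z, hz, h2⟩ := red_spec (W := [w1]) (by
    intro z hz P hP
    obtain ⟨j, rfl⟩ := hwords z hz
    rw [List.eq_of_mem_replicate hP]
    exact gU.1) red1 h1
  obtain ⟨j, rfl⟩ := hwords z hz
  have hz' : wprod (List.replicate j PU) ∈ Zg PU ([v2c].map DL) := wprod_mem (by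
    intro P hP
    rw [List.eq_of_mem_replicate hP]
    exact kok_Zg_self gU.1 Helper33LO2D.ok2 gU.2)
  have hc' := Subgroup.mul_mem _ hz' hc
  obtain ⟨hd1, hd2⟩ := mem_Zg.1 hc'
  obtain ⟨m2, hm2, hmc2, hwm2⟩ := img_cand [v2c] (fun b hb => (Helper33LO2D.ok2 b hb).2) [16] cnd16
    (hcW 336 16 (by norm_num)) hd2 (wk w2 (by simp)) hwc.1.2
  have h3 := stage_gen gU.1 hd1 hwm2 ref2 pok2 (Helper33LO2CUqAll.chk_all m2 hm2 hmc2) h2
  obtain ⟨m3, hm3, hmc3, hwm3⟩ := img_cand [v2c] (fun b hb => (Helper33LO2D.ok2 b hb).2) [8] cnd8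
    (hcW 328 8 (by norm_num)) hd2 (wk w3 (by simp)) hwc.2
  have h4 := stage_gen gU.1 hd1 hwm3 ref3 pok3 (Helper33LO2CUrAll.chk_all m3 hm3 hmc3) h3
  obtain ⟨M', hM', h5⟩ := h4
  simp only [List.mem_cons, List.not_mem_nil, or_false] at hM'
  subst hM'
  have h6 := cent_final_gen gU.1 Helper33LO2D.ok2 hc' h5 hB h0 N (by decide) Cs span
  rw [wprod_replicate] at h6
  exact ⟨j, h6⟩

end Cfsg.Agent.Lib.Helper33LO2CU
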