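import Cfsg.Agent.Lib.Helper33LO1PaAll
import Cfsg.Agent.Lib.Helper33LO1PuAll
import Cfsg.Agent.Lib.Helper33LO2CA
import Cfsg.Agent.Lib.Helper33LO2CU

/-! # The centralisers in `Co0` of the elements `a` (order 23) and `u` (order 11) (helper33) -/

set_option autoImplicit false
set_option exponentiation.threshold 2000
set_option maxRecDepth 1000000

open Cfsg Cfsg.Agent.Lib.Helper33Golay Cfsg.Agent.Lib.Helper33LVec Cfsg.Agent.Lib.Helper33LMat
open Cfsg.Agent.Lib.Helper33LTest Cfsg.Agent.Lib.Helper33LCo0 Cfsg.Agent.Lib.Helper33LFrame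
open Cfsg.Agent.Lib.Helper33LGood Cfsg.Agent.Lib.Helper33LReach2 Cfsg.Agent.Lib.Helper33LWord
open Cfsg.Agent.Lib.Helper33LPat Cfsg.Agent.Lib.Helper33LFrame2 Cfsg.Agent.Lib.Helper33LBase
open Cfsg.Agent.Lib.Helper33LMcL Cfsg.Agent.Lib.Helper33LHS Cfsg.Agent.Lib.Helper33LReach
open Cfsg.Agent.Lib.Helper33LCo2Thy Cfsg.Agent.Lib.Helper33LCent Cfsg.Agent.Lib.Helper33LCent2
open Cfsg.Agent.Lib.Helper33LCent3 Cfsg.Agent.Lib.Helper33LMin
open Cfsg.Agent.Lib.Helper33LCent4
open MulAction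

open Cfsg.Agent.Lib.Helper33LO3D Cfsg.Agent.Lib.Helper33LO2D Cfsg.Agent.Lib.Helper33LO1D

namespace Cfsg.Agent.Lib.Helper33LO1C

theorem gd (P : ℕ) (hP : P ∈ [PA, PU, PT, PN, PS]) : goodP P = true := by
  simp only [List.mem_cons, List.not_mem_nil, or_false] at hP
  have h3 := fun Q hQ => List.all_eq_true.1 good_all Q hQ
  have h1 := fun Q hQ => List.all_eq_true.1 good1 Q hQ
  rcases hP with rfl | rfl | rfl | rfl | rfl
  · have := h3 PA (by simp); rw [Bool.and_eq_true] at this; exact this.1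
  · have := h3 PU (by simp); rw [Bool.and_eq_true] at this; exact this.1
  · have := h3 PT (by simp); rw [Bool.and_eq_true] at this; exact this.1
  · exact h1 PN (by simp)
  · exact h1 PS (by simp)

theorem hcT : ∀ m, InR m → (cndT m = true ↔ dotsC [] (D m) = []) := by
  intro m _
  simp [cndT, dotsC]

theorem refA : refChk PA 0 [] v2c [] [96] = true := by decide +kernel
theorem refU : refChk PU 0 [] v2c [] [96] = true := by decide +kernel
theorem pokA : presOK PA 0 [([], [])] = true := by decide +kernel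
theorem pokU : presOK PU 0 [([], [])] = true := by decide +kernel

def words2 : List (List ℕ) := [[], [PN]]
def words12 : List (List ℕ) :=
  (List.range 3).flatMap (fun i => (List.range 2).flatMap (fun j => (List.range 2).map (fun k =>
    List.replicate i PS ++ List.replicate j PT ++ List.replicate k PN)))

theorem redA : redChk [[v2c], [nv2c]] [[v2c]] words2 = true := by decide +kernel
theorem redU : redChk FU [[v2c]] words12 = true := by decide +kernel

theorem let2 : ∀ z ∈ words2, ∀ Q ∈ z, Q ∈ [PN] := by decide +kernel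
theorem let12 : ∀ z ∈ words12, ∀ Q ∈ z, Q ∈ [PS, PT, PN] := by decide +kernel

theorem nil_ok : ∀ b ∈ ([] : List ℕ), InR b ∧ D b ∈ leechLattice := by simp

theorem fix_nil (c : ↥Co0) : Fixes c (([] : List ℕ).map DL) := by
  intro b hb; simp at hb

theorem fixes_v2 {c : ↥Co0} (h : List.Forall₂ (Img c) [v2c] [v2c]) : Fixes c ([v2c].map DL) := by
  intro b hb
  simp only [List.map_cons, List.map_nil, List.mem_cons, List.not_mem_nil, or_false] at hb
  rw [hb]
  rw [List.forall₂_cons] at h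
  exact h.1.eq

theorem centA0 (c : ↥Co0) (hc : c * toCo0 PA = toCo0 PA * c) :
    ∃ j : ℕ, ∃ z ∈ words2, toCo0 PA ^ j * (wprod z * c) = 1 := by
  obtain ⟨m, hm, hmc, hwm⟩ := img_cand [] (by simp) [] cndT hcT (fix_nil c) v2c_ok rfl
  have h1 := stage_gen (gd PA (by simp)) hc hwm refA pokA (Helper33LO1PaAll.chk_all m hm hmc)
    ⟨[], by simp, List.Forall₂.nil⟩
  have kokN : ∀ Q ∈ [PN], Kok (Zg PA (([] : List ℕ).map DL)) Q := by
    intro Q hQ
    simp only [List.mem_cons, List.not_mem_nil, or_false] at hQ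
    rw [hQ]
    exact kok_Zg (gd PA (by simp)) (gd PN (by simp)) nil_ok rel_NA rfl
  obtain ⟨z, hz, M', hM', h2⟩ := red_spec (W := [v2c])
    (fun z hz Q hQ => (kokN Q (let2 z hz Q hQ)).1) redA h1
  simp only [List.mem_cons, List.not_mem_nil, or_false] at hM'
  subst hM'
  have hz' : wprod z ∈ Zg PA (([] : List ℕ).map DL) :=
    wprod_mem (fun Q hQ => kokN Q (let2 z hz Q hQ))
  have hc' : wprod z * c ∈ Zg PA (([] : List ℕ).map DL) :=
    Subgroup.mul_mem _ hz' (mem_Zg.2 ⟨hc, fix_nil c⟩)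
  obtain ⟨j, hj⟩ := Helper33LO2CA.centA (wprod z * c) (mem_Zg.2 ⟨(mem_Zg.1 hc').1, fixes_v2 h2⟩)
  exact ⟨j, z, hz, hj⟩

theorem centU0 (c : ↥Co0) (hc : c * toCo0 PU = toCo0 PU * c) :
    ∃ j : ℕ, ∃ z ∈ words12, toCo0 PU ^ j * (wprod z * c) = 1 := by
  obtain ⟨m, hm, hmc, hwm⟩ := img_cand [] (by simp) [] cndT hcT (fix_nil c) v2c_ok rfl
  have h1 := stage_gen (gd PU (by simp)) hc hwm refU pokU (Helper33LO1PuAll.chk_all m hm hmc)
    ⟨[], by simp, List.Forall₂.nil⟩
  have kokL : ∀ Q ∈ [PS, PT, PN], Kok (Zg PU (([] : List ℕ).map DL)) Q := by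
    intro Q hQ
    simp only [List.mem_cons, List.not_mem_nil, or_false] at hQ
    rcases hQ with rfl | rfl | rfl
    · exact kok_Zg (gd PU (by simp)) (gd PS (by simp)) nil_ok rel_SU rfl
    · exact kok_Zg (gd PU (by simp)) (gd PT (by simp)) nil_ok Helper33LO3D.rel_TU rfl
    · exact kok_Zg (gd PU (by simp)) (gd PN (by simp)) nil_ok rel_NU rfl
  obtain ⟨z, hz, M', hM', h2⟩ := red_spec (W := [v2c])
    (fun z hz Q hQ => (kokL Q (let12 z hz Q hQ)).1) redU h1
  simp only [List.mem_cons, List.not_mem_nil, or_false] at hM'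
  subst hM'
  have hz' : wprod z ∈ Zg PU (([] : List ℕ).map DL) :=
    wprod_mem (fun Q hQ => kokL Q (let12 z hz Q hQ))
  have hc' : wprod z * c ∈ Zg PU (([] : List ℕ).map DL) :=
    Subgroup.mul_mem _ hz' (mem_Zg.2 ⟨hc, fix_nil c⟩)
  obtain ⟨j, hj⟩ := Helper33LO2CU.centU (wprod z * c) (mem_Zg.2 ⟨(mem_Zg.1 hc').1, fixes_v2 h2⟩)
  exact ⟨j, z, hz, hj⟩

end Cfsg.Agent.Lib.Helper33LO1C
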