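import Cfsg.Agent.Lib.Helper33LO1H
import Cfsg.Agent.Lib.Helper33LCo1

/-! # `Co0` is generated by `a` and `s` (helper33) -/

set_option autoImplicit false
set_option exponentiation.threshold 2000
set_option maxRecDepth 1000000

open Cfsg Cfsg.Agent.Lib.Helper33Golay Cfsg.Agent.Lib.Helper33LVec Cfsg.Agent.Lib.Helper33LMat
open Cfsg.Agent.Lib.Helper33LTest Cfsg.Agent.Lib.Helper33LCo0 Cfsg.Agent.Lib.Helper33LFrame
open Cfsg.Agent.Lib.Helper33LGood Cfsg.Agent.Lib.Helper33LReach2 Cfsg.Agent.Lib.Helper33LWord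
open Cfsg.Agent.Lib.Helper33LPat Cfsg.Agent.Lib.Helper33LFrame2 Cfsg.Agent.Lib.Helper33LBase
open Cfsg.Agent.Lib.Helper33LMcL Cfsg.Agent.Lib.Helper33LHS Cfsg.Agent.Lib.Helper33LReach
open Cfsg.Agent.Lib.Helper33LCo2Thy Cfsg.Agent.Lib.Helper33LCent Cfsg.Agent.Lib.Helper33LCent2
open Cfsg.Agent.Lib.Helper33LCent3 Cfsg.Agent.Lib.Helper33LMin
open Cfsg.Agent.Lib.Helper33LCent4
open MulAction

open Cfsg.Agent.Lib.Helper33LO3D Cfsg.Agent.Lib.Helper33LO2D Cfsg.Agent.Lib.Helper33LO1D
open Cfsg.Agent.Lib.Helper33LCo1 Cfsg.Agent.Lib.Helper33LCo2 Cfsg.Agent.Lib.Helper33LCo2Ord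

namespace Cfsg.Agent.Lib.Helper33LO1G

noncomputable def K0 : Subgroup ↥Co0 := Subgroup.closure {toCo0 PS, toCo0 PA}

def cert : List (ℕ × List ℕ) := [(PAi, [0]), (PHi, [1, 1, 0, 1, 2, 2, 1, 1, 0, 0, 1, 1, 2, 1, 0, 0, 1, 0, 1, 1, 0, 1]), (PH, [3])]

theorem cert_ok : chainOK [PA, PS] cert = true := by decide +kernel

theorem gA : goodP PA = true := (Helper33LO1H.gdH PA (by simp)).1
theorem gS : goodP PS = true := List.all_eq_true.1 good1 PS (by simp)

theorem all_kok : ∀ P ∈ [PA, PS] ++ cert.map Prod.fst, Kok K0 P := by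
  apply chain_spec cert [PA, PS] _ cert_ok
  intro P hP
  simp only [List.mem_cons, List.not_mem_nil, or_false] at hP
  rcases hP with rfl | rfl
  · exact ⟨gA, Subgroup.subset_closure (by simp)⟩
  · exact ⟨gS, Subgroup.subset_closure (by simp)⟩

theorem kok (P : ℕ) (hP : P ∈ [PA, PS, PAi, PHi, PH]) : Kok K0 P := all_kok P hP

theorem co2_le : fixG ([v2c].map DL) ≤ K0 := by
  rw [← Helper33LO1H.K_eq]
  unfold Helper33LO1H.K
  rw [Subgroup.closure_le]
  intro x hx
  simp only [Set.mem_insert_iff, Set.mem_singleton_iff] at hx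
  rcases hx with rfl | rfl
  · exact (kok PH (by simp)).2
  · exact (kok PA (by simp)).2

theorem norm2 : sqNorm ((DL v2c : LV) : GolayPt → ℤ) = 32 := by
  rw [DL_coe (code_ok v2c_ok).2.1]; simpa using (code_ok v2c_ok).2.2

theorem rep_of (z : List ℕ) (y s : ℕ) (k : ℤ) (hk : (s : ℤ) - 320 = k)
    (hz : ∀ P ∈ z, P ∈ [PA, PS, PAi, PHi, PH])
    (h : (Nat.beq (run z v2c) y && (inR y && isLeech y && normB 32 y) && cW s y) = true) :
    ∃ h ∈ K0, h • DL v2c ∈ C [DL v2c] [k] := by
  simp only [Bool.and_eq_true, Nat.beq_eq] at h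
  obtain ⟨⟨h1, ⟨h2a, h2b⟩, h2c⟩, h3⟩ := h
  have hy : (inR y && isLeech y && normB 32 y) = true := by
    simp only [Bool.and_eq_true]; exact ⟨⟨h2a, h2b⟩, h2c⟩
  have hy0 : y ≠ 0 := by
    rintro rfl
    have h4 := (code_ok hy).2.2
    have h5 : normB 32 0 = false := by decide +kernel
    rw [h5] at h2c
    exact absurd h2c (by simp)
  obtain ⟨_, _, e⟩ := run_spec z (fun P hP => (kok P (hz P hP)).1) v2c (code_ok v2c_ok).1
    (code_ok v2c_ok).2.1 (by rw [h1]; exact hy0)
  refine ⟨wprod z, wprod_mem (fun P hP => kok P (hz P hP)), ?_⟩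
  rw [e, h1]
  exact mem_base [v2c] (fun b hb => (Helper33LO2D.ok2 b hb).2) [k] _ (hcW s k hk) y hy h3

theorem rep_m32 : ∃ h ∈ K0, h • DL v2c ∈ C [DL v2c] [(-32)] :=
  rep_of [PS, PA, PS, PA, PA, PS, PA, PA, PS] 0xf0000000f0000000f0000000f0000000f0000000f0000000f0000000f0000000f0000000f0000000f0000000f0000000f0000000f0000000f0000000f0000000f0000000f0000000f0000000f0000000f0000000f000000130000000f 288 (-32) (by norm_num) (by simp) cls_m32
theorem rep_m16 : ∃ h ∈ K0, h • DL v2c ∈ C [DL v2c] [(-16)] :=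
  rep_of [PS] 0xc0000001000000010000000100000001000000010000000100000001000000010000000100000001000000010000000100000001000000010000000100000001000000010000000100000001000000010000000100000001400000010 304 (-16) (by norm_num) (by simp) cls_m16
theorem rep_m8 : ∃ h ∈ K0, h • DL v2c ∈ C [DL v2c] [(-8)] :=
  rep_of [PS, PS, PAi, PS, PA, PA, PS] 0x11000000110000000f0000000f000000110000000f000000110000000f00000011000000110000000f0000000f0000000f000000110000000f0000000f0000000f0000001100000011000000110000001100000011000000130000000f 312 (-8) (by norm_num) (by simp) cls_m8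
theorem rep_0 : ∃ h ∈ K0, h • DL v2c ∈ C [DL v2c] [0] :=
  rep_of [PS, PA, PS] 0x110000000f0000000f0000000f0000000f0000000f000000110000000f0000000f000000110000000f0000000f0000000f0000000f0000000f0000000f0000000f0000000f000000110000000f00000011000000110000000d00000011 320 0 (by norm_num) (by simp) cls_0
theorem rep_8 : ∃ h ∈ K0, h • DL v2c ∈ C [DL v2c] [8] :=
  rep_of [PS, PAi, PS, PA, PA, PS] 0x1000000010000000120000001200000010000000120000000e00000012000000100000001000000010000000120000001200000010000000100000001000000010000000100000001000000010000000100000000e0000001000000010 328 8 (by norm_num) (by simp) cls_8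
theorem rep_16 : ∃ h ∈ K0, h • DL v2c ∈ C [DL v2c] [16] :=
  rep_of [PS, PS, PA, PS] 0xf00000011000000110000001100000011000000110000000f00000011000000110000000f00000011000000110000001100000011000000110000001100000011000000110000000f000000110000000f0000000f0000000f00000013 336 16 (by norm_num) (by simp) cls_16
theorem rep_32 : ∃ h ∈ K0, h • DL v2c ∈ C [DL v2c] [32] :=
  rep_of [] 0x110000001100000011000000110000001100000011000000110000001100000011000000110000001100000011000000110000001100000011000000110000001100000011000000110000001100000011000000110000000d00000011 352 32 (by norm_num) (by simp) cls_32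

theorem transV (k : ℤ) (h : Trans [DL v0c] [k]) : Trans [DL v2c] [k] := by
  obtain ⟨g, hg⟩ := mvV (DL v2c) norm2
  exact trans_mv g _ _ (hg ▸ h)

theorem vals2 (y : LV) (hy : sqNorm (y : GolayPt → ℤ) = 32) :
    ∃ k : ℤ, y ∈ C [DL v2c] [k] ∧ (k = -32 ∨ k = -16 ∨ k = -8 ∨ k = 0 ∨ k = 8 ∨ k = 16 ∨ k = 32) := by
  obtain ⟨g, hg⟩ := mvV (DL v2c) norm2
  have hg' : g • DL v2c = DL v0c := by simpa [mv] using hg
  have h := vals_spec (g • y) (by rw [sqNorm_smul']; exact hy)
  rw [← hg', dot_smul'] at h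
  exact ⟨_, (mem_C1 _ _ _).2 ⟨hy, rfl⟩, h⟩

theorem mem_of (x : ↥Co0) (k : ℤ) (hx : x • DL v2c ∈ C [DL v2c] [k]) (hT : Trans [DL v2c] [k])
    (hr : ∃ h ∈ K0, h • DL v2c ∈ C [DL v2c] [k]) : x ∈ K0 := by
  obtain ⟨h, hh, hc⟩ := hr
  obtain ⟨g, hg, hgx⟩ := hT _ hc _ hx
  have hgK : g ∈ K0 := co2_le hg
  have h1 : (g * h)⁻¹ * x ∈ K0 := by
    apply co2_le
    intro b hb
    simp only [List.map_cons, List.map_nil, List.mem_cons, List.not_mem_nil, or_false] at hb
    rw [hb, mul_smul, ← hgx, ← mul_smul g h, inv_smul_smul]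
  have h2 := K0.mul_mem (K0.mul_mem hgK hh) h1
  rwa [mul_inv_cancel_left] at h2

theorem K0_top : K0 = ⊤ := by
  rw [eq_top_iff]
  intro x _
  obtain ⟨k, hk, hv⟩ := vals2 (x • DL v2c) (by rw [sqNorm_smul']; exact norm2)
  rcases hv with rfl | rfl | rfl | rfl | rfl | rfl | rfl
  · exact mem_of x _ hk (transV _ (trans_neg _ 32 T32)) rep_m32
  · exact mem_of x _ hk (transV _ Tm16) rep_m16
  · exact mem_of x _ hk (transV _ Tm8) rep_m8
  · exact mem_of x _ hk (transV _ T00) rep_0
  · exact mem_of x _ hk (transV _ (by have := trans_neg _ (-8) Tm8; simpa using this)) rep_8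
  · exact mem_of x _ hk (transV _ (by have := trans_neg _ (-16) Tm16; simpa using this)) rep_16
  · exact mem_of x _ hk (transV _ T32) rep_32

end Cfsg.Agent.Lib.Helper33LO1G
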