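import Cfsg.Agent.Lib.Helper33OutA

/-! # Abstract lemmas on outer automorphism groups, IV: rigidity on a Sylow normaliser
(helper33) -/

set_option autoImplicit false

namespace Cfsg.Agent.Lib.Helper33OutD

open Cfsg.Agent.Helper64J3 Cfsg.Agent.Lib.Helper33OutA

theorem inner_of_rigid {Q : Type*} [Group Q] [Finite Q] (p : ℕ) [hpp : Fact p.Prime]
    (hp : (Nat.card Q).factorization p = 1) (a u y : Q) (ha : orderOf a = p) (r : ℕ)
    (hu : u * a * u⁻¹ = a ^ r)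
    (hC : ∀ c : Q, c * a = a * c → c ∈ Subgroup.zpowers a)
    (hT : ∀ k < p, k ≠ 0 → ∃ i : ℕ, ((k * r ^ i) % p = 1 ∨ (k * r ^ i) % p = p - 1))
    (hs : ∀ j < p, ∃ m : ℕ, (m * r) % p = (m + j) % p)
    (hgen : Subgroup.closure {y, a} = ⊤)
    (hrig : ∀ ψ : MulAut Q, (ψ a = a ^ 1 ∨ ψ a = a ^ (p - 1)) → ψ u = u → (ψ a = a ∧ ψ y = y))
    (φ : MulAut Q) : φ ∈ Cfsg.Inn Q := by
  have h2 : 2 ≤ p := hpp.out.two_le
  obtain ⟨g, k, hk, hga, hgu⟩ := aut_normalise p hp a u ha r hu hC (fun k => k = 1 ∨ k = p - 1)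
    (by
      intro k hkp hk0
      obtain ⟨i, hi⟩ := hT k hkp hk0
      refine ⟨i, hi, ?_⟩
      rcases hi with hi | hi <;> omega) hs φ
  set ψ := MulAut.conj g * φ with hψ
  obtain ⟨ra, ry⟩ := hrig ψ (by rcases hk with rfl | rfl; exacts [Or.inl hga, Or.inr hga]) hgu
  have h1 := mulAut_eq_one_of_closure y a hgen ψ ry ra
  have h3 : φ = (MulAut.conj g)⁻¹ := eq_inv_of_mul_eq_one_right h1
  rw [h3]
  exact (Cfsg.Inn Q).inv_mem ⟨g, rfl⟩

end Cfsg.Agent.Lib.Helper33OutD
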