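import Cfsg.Agent.Lib.Helper33LO1C
import Cfsg.Agent.Lib.Helper33LO1G
import Cfsg.Agent.Lib.Helper33OutD
import Cfsg.Agent.Lib.Helper10Co0Center

/-! # Every automorphism of `Co1` is inner (helper33) -/

set_option autoImplicit false
set_option exponentiation.threshold 2000

open Cfsg Cfsg.Agent.Lib.Helper33Golay Cfsg.Agent.Lib.Helper33LVec Cfsg.Agent.Lib.Helper33LMat
open Cfsg.Agent.Lib.Helper33LTest Cfsg.Agent.Lib.Helper33LCo0 Cfsg.Agent.Lib.Helper33LFrame
open Cfsg.Agent.Lib.Helper33LGood Cfsg.Agent.Lib.Helper33LReach2 Cfsg.Agent.Lib.Helper33LWord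
open Cfsg.Agent.Lib.Helper33LPat Cfsg.Agent.Lib.Helper33LFrame2 Cfsg.Agent.Lib.Helper33LBase
open Cfsg.Agent.Lib.Helper33LMcL Cfsg.Agent.Lib.Helper33LHS Cfsg.Agent.Lib.Helper33LReach
open Cfsg.Agent.Lib.Helper33LCo2Thy Cfsg.Agent.Lib.Helper33LCent Cfsg.Agent.Lib.Helper33LCent2
open Cfsg.Agent.Lib.Helper33LO3D Cfsg.Agent.Lib.Helper33LO1D Cfsg.Agent.Lib.Helper33LO1C
open Cfsg.Agent.Lib.Helper10Co0Center (negOne negOne_smul negOne_mem_center negOne_ne_one
  center_cases)
open MulAction

namespace Cfsg.Agent.Lib.Helper33LO1F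

abbrev Q : Type := ↥Co0 ⧸ Subgroup.center ↥Co0

noncomputable def pr : ↥Co0 →* Q := QuotientGroup.mk' (Subgroup.center ↥Co0)

theorem pr_surj : Function.Surjective pr := QuotientGroup.mk'_surjective _

theorem pr_eq_one {g : ↥Co0} : pr g = 1 ↔ g ∈ Subgroup.center ↥Co0 :=
  QuotientGroup.eq_one_iff g

theorem neg_neg1 : negOne * negOne = 1 := by
  apply Helper33LM22.co0_ext
  intro v
  rw [mul_smul, negOne_smul, negOne_smul, neg_neg, one_smul]

theorem gdl {l : List ℕ} (h : ∀ P ∈ l, P ∈ [PA, PU, PT, PN, PS]) : ∀ P ∈ l, goodP P = true :=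
  fun P hP => gd P (h P hP)

theorem PN_eq : toCo0 PN = negOne := by
  apply ext8
  intro i hi
  have hk : ∀ k < 24, fld (run [PN] (e8 i)) k + fld (e8 i) k = 32 := by
    intro k hk
    have h1 := List.all_eq_true.1 (List.all_eq_true.1 negN i (List.mem_range.2 hi)) k
      (List.mem_range.2 hk)
    rw [Nat.beq_eq] at h1
    exact h1
  have h0 : run [PN] (e8 i) ≠ 0 := by
    intro h0
    have h1 := hk 0 (by norm_num)
    have h2 := (e8_InR hi).1.2 0 (by norm_num)
    rw [h0] at h1
    have h3 : fld 0 0 = 0 := by decide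
    omega
  obtain ⟨_, a2, h2⟩ := run_spec [PN] (gdl (by simp)) (e8 i) (e8_InR hi).1 (e8_InR hi).2 h0
  rw [wprod_single] at h2
  rw [h2, negOne_smul]
  apply Subtype.ext
  funext p
  rw [DL_coe a2, AddSubgroup.coe_neg, DL_coe (e8_InR hi).2, Pi.neg_apply]
  have h3 := hk (idx p) (idx_lt p)
  unfold D
  omega

theorem pr_one_of_inZ {w : List ℕ} (hw : ∀ P ∈ w, P ∈ [PA, PU, PT, PN, PS])
    (h : inZ w = true) : pr (wprod w) = 1 := by
  unfold inZ at h
  rw [Bool.or_eq_true] at h
  rcases h with h | h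
  · rw [wprod_eq_one (gdl hw) h, map_one]
  · have h1 := wprod_eq_one (ws := PN :: w) (gdl (by
      intro P hP
      rcases List.mem_cons.1 hP with rfl | hP
      · simp
      · exact hw P hP)) h
    rw [wprod_cons, PN_eq] at h1
    rw [pr_eq_one, eq_inv_of_mul_eq_one_right h1]
    exact Subgroup.inv_mem _ negOne_mem_center

theorem pr_ne_of_notZ {w : List ℕ} (hw : ∀ P ∈ w, P ∈ [PA, PU, PT, PN, PS])
    (h : notZ w = true) : pr (wprod w) ≠ 1 := by
  unfold notZ at h
  rw [Bool.and_eq_true] at h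
  intro h1
  rcases center_cases (pr_eq_one.1 h1) with h2 | h2
  · exact wprod_ne_of_notOne (gdl hw) h.1 h2
  · apply wprod_ne_of_notOne (ws := PN :: w) (gdl (by
      intro P hP
      rcases List.mem_cons.1 hP with rfl | hP
      · simp
      · exact hw P hP)) h.2
    rw [wprod_cons, PN_eq, h2, neg_neg1]

theorem negOne_pow_odd (n : ℕ) : negOne ^ (2 * n + 1) = negOne := by
  rw [pow_succ, pow_mul, pow_two, neg_neg1, one_pow, one_mul]

/-- commuting modulo the centre with an element of odd order -/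
theorem comm_lift (g x : ↥Co0) (n : ℕ) (hx : x ^ (2 * n + 1) = 1)
    (h : pr g * pr x = pr x * pr g) : g * x = x * g := by
  have h1 : pr (g * x * g⁻¹ * x⁻¹) = 1 := by
    rw [map_mul, map_mul, map_mul, h, map_inv, map_inv]
    group
  rcases center_cases (pr_eq_one.1 h1) with h2 | h2
  · have h3 : g * x * g⁻¹ = x := by
      rw [mul_inv_eq_one] at h2; exact h2
    rw [mul_inv_eq_iff_eq_mul] at h3
    exact h3
  · exfalso
    have h3 : g * x * g⁻¹ = negOne * x := by
      rw [mul_inv_eq_iff_eq_mul] at h2; exact h2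
    have h4 : (g * x * g⁻¹) ^ (2 * n + 1) = 1 := by
      rw [conj_pow, hx, mul_one, mul_inv_cancel]
    have hc : Commute negOne x := (Subgroup.mem_center_iff.1 negOne_mem_center x).symm
    rw [h3, hc.mul_pow, hx, mul_one, negOne_pow_odd] at h4
    exact negOne_ne_one h4

noncomputable def a : Q := pr (toCo0 PA)
noncomputable def u : Q := pr (toCo0 PU)
noncomputable def s : Q := pr (toCo0 PS)

theorem A23 : toCo0 PA ^ 23 = 1 := by
  have := wprod_eq_one (ws := List.replicate 23 PA) (gdl (by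
    intro P hP; rw [List.eq_of_mem_replicate hP]; simp)) rel_A23
  rwa [wprod_replicate] at this

theorem U11 : toCo0 PU ^ 11 = 1 := by
  have := wprod_eq_one (ws := List.replicate 11 PU) (gdl (by
    intro P hP; rw [List.eq_of_mem_replicate hP]; simp)) Helper33LO2D.rel_U11
  rwa [wprod_replicate] at this

theorem S3 : toCo0 PS ^ 3 = 1 := by
  have := wprod_eq_one (ws := [PS, PS, PS]) (gdl (by simp)) rel_S3
  rw [← this]
  simp [wprod, pow_succ, mul_assoc]

theorem a23 : a ^ 23 = 1 := by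
  unfold a; rw [← map_pow, A23, map_one]

theorem u11 : u ^ 11 = 1 := by
  unfold u; rw [← map_pow, U11, map_one]

theorem s3 : s ^ 3 = 1 := by
  unfold s; rw [← map_pow, S3, map_one]

theorem a_ne : a ≠ 1 := by
  have := pr_ne_of_notZ (w := [PA]) (by simp) A_nz
  rwa [wprod_single] at this

theorem s_ne : s ≠ 1 := by
  have := pr_ne_of_notZ (w := [PS]) (by simp) S_nz
  rwa [wprod_single] at this

theorem order_a : orderOf a = 23 := by
  haveI : Fact (Nat.Prime 23) := ⟨by norm_num⟩
  exact orderOf_eq_prime a23 a_ne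

theorem u_a : u * a * u⁻¹ = a ^ 2 := by
  have h : u * a = a * a * u := by
    have := wprod_eq_of_same (ws := [PU, PA]) (ws' := [PA, PA, PU]) (gdl (by simp)) (gdl (by simp))
      rel_UA
    have h2 := congrArg pr this
    simpa [wprod, mul_assoc, a, u] using h2
  rw [h, mul_inv_cancel_right, pow_two]

theorem s_u : s * u = u * s := by
  have := wprod_eq_of_same (ws := [PS, PU]) (ws' := [PU, PS]) (gdl (by simp)) (gdl (by simp))
    rel_SU
  have h2 := congrArg pr this
  simpa [wprod, s, u] using h2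

theorem pr_N : pr (toCo0 PN) = 1 := by
  rw [pr_eq_one, PN_eq]; exact negOne_mem_center

theorem cent_a (c : Q) (hc : c * a = a * c) : c ∈ Subgroup.zpowers a := by
  obtain ⟨g, rfl⟩ := pr_surj c
  have h1 := comm_lift g (toCo0 PA) 11 A23 hc
  obtain ⟨j, z, hz, hj⟩ := centA0 g h1
  have hz1 : pr (wprod z) = 1 := by
    simp only [words2, List.mem_cons, List.not_mem_nil, or_false] at hz
    rcases hz with rfl | rfl
    · rw [wprod_nil, map_one]
    · rw [wprod_single, pr_N]
  have h2 := congrArg pr hj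
  rw [map_mul, map_mul, map_pow, hz1, one_mul, map_one] at h2
  rw [eq_inv_of_mul_eq_one_right h2]
  exact Subgroup.inv_mem _ (Subgroup.pow_mem _ (Subgroup.mem_zpowers _) j)

theorem wz_let (j0 i j k : ℕ) : ∀ P ∈ wz j0 i j k, P ∈ [PA, PU, PT, PN, PS] := by
  intro P hP
  unfold wz at hP
  simp only [List.mem_append, List.mem_replicate] at hP
  rcases hP with h | (h | h) | h <;> rw [h.2] <;> simp

/-- elements of order dividing three centralising `u` -/
theorem cube_u (x : Q) (h3 : x ^ 3 = 1) (hu : x * u = u * x) : ∃ i < 3, x = s ^ i := by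
  obtain ⟨g, rfl⟩ := pr_surj x
  have h1 := comm_lift g (toCo0 PU) 5 U11 hu
  obtain ⟨j, z, hz, hj⟩ := centU0 g h1
  unfold words12 at hz
  simp only [List.mem_flatMap, List.mem_map, List.mem_range] at hz
  obtain ⟨i, hi, j', hj', k, hk, rfl⟩ := hz
  have hU : toCo0 PU ^ j = toCo0 PU ^ (j % 11) := by
    conv_lhs => rw [← Nat.div_add_mod j 11, pow_add, pow_mul, U11, one_pow, one_mul]
  have e1 : wprod (wz (j % 11) i j' k) * g = 1 := by
    unfold wz
    rw [wprod_append, wprod_replicate, ← hU, mul_assoc]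
    exact hj
  have e2 : pr (wprod (wz (j % 11) i j' k)) = (pr g)⁻¹ := by
    have := congrArg pr e1
    rw [map_mul, map_one] at this
    exact eq_inv_of_mul_eq_one_left this
  have e3 : pr (wprod (wz (j % 11) i j' k ++ wz (j % 11) i j' k ++ wz (j % 11) i j' k)) = 1 := by
    rw [wprod_append, wprod_append, map_mul, map_mul, e2, ← pow_two, ← pow_succ, inv_pow, h3,
      inv_one]
  have ht := List.all_eq_true.1 (List.all_eq_true.1 (List.all_eq_true.1 (List.all_eq_true.1 tbl
    (j % 11) (List.mem_range.2 (Nat.mod_lt _ (by norm_num)))) i (List.mem_range.2 hi)) j'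
    (List.mem_range.2 hj')) k (List.mem_range.2 hk)
  rw [Bool.or_eq_true] at ht
  rcases ht with ht | ht
  · rw [Bool.and_eq_true, Nat.beq_eq, Nat.beq_eq] at ht
    rw [ht.1, ht.2] at e2
    have e4 : pr (wprod (wz 0 i 0 k)) = s ^ i := by
      unfold wz
      simp only [List.replicate_zero, List.nil_append, List.append_nil]
      rw [wprod_append, wprod_replicate, wprod_replicate, map_mul, map_pow, map_pow, pr_N, one_pow,
        mul_one]
      rfl
    rw [e4] at e2
    have e5 : pr g = (s ^ i)⁻¹ := by rw [e2, inv_inv]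
    have hs2 : s⁻¹ = s ^ 2 := by
      rw [inv_eq_iff_mul_eq_one, ← pow_succ']; exact s3
    interval_cases i
    · exact ⟨0, by norm_num, by rw [e5]; simp⟩
    · exact ⟨2, by norm_num, by rw [e5, pow_one, hs2]⟩
    · refine ⟨1, by norm_num, ?_⟩
      rw [e5, pow_one, inv_eq_iff_mul_eq_one, ← pow_succ]; exact s3
  · exfalso
    refine pr_ne_of_notZ ?_ ht e3
    intro P hP
    simp only [List.mem_append] at hP
    rcases hP with (h | h) | h <;> exact wz_let _ _ _ _ P h

theorem wl_let (e d : ℕ) (es : List ℕ) : ∀ P ∈ wl e d es, P ∈ [PA, PU, PT, PN, PS] := by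
  intro P hP
  unfold wl at hP
  simp only [List.mem_flatMap, List.mem_append, List.mem_replicate] at hP
  obtain ⟨x, _, h | h⟩ := hP <;> rw [h.2] <;> simp

theorem wlr_let (n e d : ℕ) (es : List ℕ) :
    ∀ P ∈ (List.replicate n (wl e d es)).flatten, P ∈ [PA, PU, PT, PN, PS] := by
  intro P hP
  obtain ⟨l, hl, hP⟩ := List.mem_flatten.1 hP
  rw [List.eq_of_mem_replicate hl] at hP
  exact wl_let e d es P hP

theorem pr_wl (e d : ℕ) : ∀ es : List ℕ,
    pr (wprod (wl e d es)) = (es.map (fun x => (a ^ e) ^ x * s ^ d)).prod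
  | [] => by simp [wl, wprod]
  | x :: es => by
    have h : wl e d (x :: es) = (List.replicate (x * e) PA ++ List.replicate d PS) ++ wl e d es := by
      simp [wl]
    rw [h, wprod_append, wprod_append, wprod_replicate, wprod_replicate, map_mul, map_mul, map_pow,
      map_pow, pr_wl e d es, List.map_cons, List.prod_cons, mul_comm x e, pow_mul]
    rfl

theorem psi_wl (ψ : MulAut Q) (e d : ℕ) (hA : ψ a = a ^ e) (hS : ψ s = s ^ d) (n : ℕ)
    (es : List ℕ) : ψ (pr (wprod (List.replicate n (wl 1 1 es)).flatten)) =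
      pr (wprod (List.replicate n (wl e d es)).flatten) := by
  rw [wprod_flatten, wprod_flatten, map_pow, map_pow, map_pow, pr_wl, pr_wl]
  congr 1
  induction es with
  | nil => simp
  | cons x es ih =>
    rw [List.map_cons, List.map_cons, List.prod_cons, List.prod_cons, map_mul, ih, map_mul, map_pow,
      map_pow, map_pow, hA, hS, pow_one, pow_one]

theorem kill (ψ : MulAut Q) (e d n : ℕ) (es : List ℕ) (hA : ψ a = a ^ e) (hS : ψ s = s ^ d)
    (h : (inZ (List.replicate n (wl 1 1 es)).flatten &&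
      notZ (List.replicate n (wl e d es)).flatten) = true) : False := by
  rw [Bool.and_eq_true] at h
  have h1 := psi_wl ψ e d hA hS n es
  rw [pr_one_of_inZ (wlr_let _ _ _ _) h.1, map_one] at h1
  exact pr_ne_of_notZ (wlr_let _ _ _ _) h.2 h1.symm

theorem rigid (ψ : MulAut Q) (hA : ψ a = a ^ 1 ∨ ψ a = a ^ (23 - 1)) (hU : ψ u = u) :
    ψ a = a ∧ ψ s = s := by
  obtain ⟨i, hi, hS⟩ := cube_u (ψ s) (by rw [← map_pow, s3, map_one])
    (by rw [← hU, ← map_mul, ← map_mul, s_u])
  interval_cases i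
  · exfalso
    rw [pow_zero] at hS
    exact s_ne ((map_eq_one_iff ψ ψ.injective).1 hS)
  · rcases hA with hA | hA
    · exact ⟨by rw [hA, pow_one], by rw [hS, pow_one]⟩
    · exact (kill ψ 22 1 15 [1] hA hS fp_22_1).elim
  · rcases hA with hA | hA
    · exact (kill ψ 1 2 15 [1] hA hS fp_1_2).elim
    · exact (kill ψ 22 2 12 [1, 2, 3] hA hS fp_22_2).elim

theorem gen : Subgroup.closure {s, a} = (⊤ : Subgroup Q) := by
  have h := congrArg (Subgroup.map pr) Helper33LO1G.K0_top
  unfold Helper33LO1G.K0 at h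
  rw [MonoidHom.map_closure, Set.image_pair, Subgroup.map_top_of_surjective pr pr_surj] at h
  exact h

theorem fact23 : (Nat.card Q).factorization 23 = 1 := by
  rw [Helper33LCo1.card_Co1]
  have h : (4157776806543360000 : ℕ) = 23 * 180772904632320000 := by norm_num
  rw [h, Nat.factorization_mul (by norm_num) (by norm_num), Finsupp.add_apply,
    Nat.Prime.factorization_self (by norm_num),
    Nat.factorization_eq_zero_of_not_dvd (by norm_num)]

theorem all_inner (φ : MulAut Q) : φ ∈ Cfsg.Inn Q := by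
  haveI : Fact (Nat.Prime 23) := ⟨by norm_num⟩
  haveI : Finite Q := Nat.finite_of_card_ne_zero (by rw [Helper33LCo1.card_Co1]; norm_num)
  have hT : ∀ k < 23, k ≠ 0 → ∃ i < 11, ((k * 2 ^ i) % 23 = 1 ∨ (k * 2 ^ i) % 23 = 23 - 1) := by
    decide
  exact Helper33OutD.inner_of_rigid 23 fact23 a u s order_a 2 u_a cent_a
    (fun k hk h0 => by obtain ⟨i, _, hi⟩ := hT k hk h0; exact ⟨i, hi⟩)
    (fun j _ => ⟨j, by rw [mul_two]⟩) gen rigid φ

end Cfsg.Agent.Lib.Helper33LO1F
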