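import Cfsg.Agent.Lib.Helper33LO1D

set_option autoImplicit false
set_option exponentiation.threshold 2000
set_option maxRecDepth 1000000

open Cfsg Cfsg.Agent.Lib.Helper33Golay Cfsg.Agent.Lib.Helper33LVec Cfsg.Agent.Lib.Helper33LMat
open Cfsg.Agent.Lib.Helper33LTest Cfsg.Agent.Lib.Helper33LCo0 Cfsg.Agent.Lib.Helper33LFrame
open Cfsg.Agent.Lib.Helper33LGood Cfsg.Agent.Lib.Helper33LReach2 Cfsg.Agent.Lib.Helper33LWord
open Cfsg.Agent.Lib.Helper33LPat Cfsg.Agent.Lib.Helper33LFrame2 Cfsg.Agent.Lib.Helper33LBase
open Cfsg.Agent.Lib.Helper33LMcL Cfsg.Agent.Lib.Helper33LHS Cfsg.Agent.Lib.Helper33LReach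
open Cfsg.Agent.Lib.Helper33LCo2Thy Cfsg.Agent.Lib.Helper33LCent Cfsg.Agent.Lib.Helper33LCent2
open Cfsg.Agent.Lib.Helper33LCent3 Cfsg.Agent.Lib.Helper33LMin
open MulAction

open Cfsg.Agent.Lib.Helper33LO1D

namespace Cfsg.Agent.Lib.Helper33LO1PaK1

theorem chkB_0 : ((octP.drop (0 * 4)).take 4).all (fB' cndT chkA) = true := by
  decide +kernel
theorem chkB_8 : ((octP.drop (8 * 4)).take 4).all (fB' cndT chkA) = true := by
  decide +kernel
theorem chkB_16 : ((octP.drop (16 * 4)).take 4).all (fB' cndT chkA) = true := by
  decide +kernel
theorem chkB_24 : ((octP.drop (24 * 4)).take 4).all (fB' cndT chkA) = true := by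
  decide +kernel
theorem chkB_32 : ((octP.drop (32 * 4)).take 4).all (fB' cndT chkA) = true := by
  decide +kernel
theorem chkB_40 : ((octP.drop (40 * 4)).take 4).all (fB' cndT chkA) = true := by
  decide +kernel
theorem chkB_48 : ((octP.drop (48 * 4)).take 4).all (fB' cndT chkA) = true := by
  decide +kernel
theorem chkB_56 : ((octP.drop (56 * 4)).take 4).all (fB' cndT chkA) = true := by
  decide +kernel
theorem chkB_64 : ((octP.drop (64 * 4)).take 4).all (fB' cndT chkA) = true := by
  decide +kernel
theorem chkB_72 : ((octP.drop (72 * 4)).take 4).all (fB' cndT chkA) = true := by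
  decide +kernel
theorem chkB_80 : ((octP.drop (80 * 4)).take 4).all (fB' cndT chkA) = true := by
  decide +kernel
theorem chkB_88 : ((octP.drop (88 * 4)).take 4).all (fB' cndT chkA) = true := by
  decide +kernel
theorem chkB_96 : ((octP.drop (96 * 4)).take 4).all (fB' cndT chkA) = true := by
  decide +kernel
theorem chkB_104 : ((octP.drop (104 * 4)).take 4).all (fB' cndT chkA) = true := by
  decide +kernel
theorem chkB_112 : ((octP.drop (112 * 4)).take 4).all (fB' cndT chkA) = true := by
  decide +kernel
theorem chkB_120 : ((octP.drop (120 * 4)).take 4).all (fB' cndT chkA) = true := by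
  decide +kernel
theorem chkB_128 : ((octP.drop (128 * 4)).take 4).all (fB' cndT chkA) = true := by
  decide +kernel
theorem chkB_136 : ((octP.drop (136 * 4)).take 4).all (fB' cndT chkA) = true := by
  decide +kernel
theorem chkB_144 : ((octP.drop (144 * 4)).take 4).all (fB' cndT chkA) = true := by
  decide +kernel
theorem chkB_152 : ((octP.drop (152 * 4)).take 4).all (fB' cndT chkA) = true := by
  decide +kernel
theorem chkB_160 : ((octP.drop (160 * 4)).take 4).all (fB' cndT chkA) = true := by
  decide +kernel
theorem chkB_168 : ((octP.drop (168 * 4)).take 4).all (fB' cndT chkA) = true := by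
  decide +kernel
theorem chkB_176 : ((octP.drop (176 * 4)).take 4).all (fB' cndT chkA) = true := by
  decide +kernel
theorem chkB_184 : ((octP.drop (184 * 4)).take 4).all (fB' cndT chkA) = true := by
  decide +kernel
theorem chkC_2 : (((List.range 4096).drop (2 * 21)).take 21).all (fC cndT chkA) = true := by
  decide +kernel
theorem chkC_10 : (((List.range 4096).drop (10 * 21)).take 21).all (fC cndT chkA) = true := by
  decide +kernel
theorem chkC_18 : (((List.range 4096).drop (18 * 21)).take 21).all (fC cndT chkA) = true := by
  decide +kernel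
theorem chkC_26 : (((List.range 4096).drop (26 * 21)).take 21).all (fC cndT chkA) = true := by
  decide +kernel
theorem chkC_34 : (((List.range 4096).drop (34 * 21)).take 21).all (fC cndT chkA) = true := by
  decide +kernel
theorem chkC_42 : (((List.range 4096).drop (42 * 21)).take 21).all (fC cndT chkA) = true := by
  decide +kernel
theorem chkC_50 : (((List.range 4096).drop (50 * 21)).take 21).all (fC cndT chkA) = true := by
  decide +kernel
theorem chkC_58 : (((List.range 4096).drop (58 * 21)).take 21).all (fC cndT chkA) = true := by
  decide +kernel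
theorem chkC_66 : (((List.range 4096).drop (66 * 21)).take 21).all (fC cndT chkA) = true := by
  decide +kernel
theorem chkC_74 : (((List.range 4096).drop (74 * 21)).take 21).all (fC cndT chkA) = true := by
  decide +kernel
theorem chkC_82 : (((List.range 4096).drop (82 * 21)).take 21).all (fC cndT chkA) = true := by
  decide +kernel
theorem chkC_90 : (((List.range 4096).drop (90 * 21)).take 21).all (fC cndT chkA) = true := by
  decide +kernel
theorem chkC_98 : (((List.range 4096).drop (98 * 21)).take 21).all (fC cndT chkA) = true := by
  decide +kernel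
theorem chkC_106 : (((List.range 4096).drop (106 * 21)).take 21).all (fC cndT chkA) = true := by
  decide +kernel
theorem chkC_114 : (((List.range 4096).drop (114 * 21)).take 21).all (fC cndT chkA) = true := by
  decide +kernel
theorem chkC_122 : (((List.range 4096).drop (122 * 21)).take 21).all (fC cndT chkA) = true := by
  decide +kernel
theorem chkC_130 : (((List.range 4096).drop (130 * 21)).take 21).all (fC cndT chkA) = true := by
  decide +kernel
theorem chkC_138 : (((List.range 4096).drop (138 * 21)).take 21).all (fC cndT chkA) = true := by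
  decide +kernel
theorem chkC_146 : (((List.range 4096).drop (146 * 21)).take 21).all (fC cndT chkA) = true := by
  decide +kernel
theorem chkC_154 : (((List.range 4096).drop (154 * 21)).take 21).all (fC cndT chkA) = true := by
  decide +kernel
theorem chkC_162 : (((List.range 4096).drop (162 * 21)).take 21).all (fC cndT chkA) = true := by
  decide +kernel
theorem chkC_170 : (((List.range 4096).drop (170 * 21)).take 21).all (fC cndT chkA) = true := by
  decide +kernel
theorem chkC_178 : (((List.range 4096).drop (178 * 21)).take 21).all (fC cndT chkA) = true := by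
  decide +kernel
theorem chkC_186 : (((List.range 4096).drop (186 * 21)).take 21).all (fC cndT chkA) = true := by
  decide +kernel
theorem chkC_194 : (((List.range 4096).drop (194 * 21)).take 21).all (fC cndT chkA) = true := by
  decide +kernel

end Cfsg.Agent.Lib.Helper33LO1PaK1
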