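import Cfsg.Agent.Lib.Helper33LO1D

set_option autoImplicit false
set_option exponentiation.threshold 2000
set_option maxRecDepth 1000000

open Cfsg Cfsg.Agent.Lib.Helper33Golay Cfsg.Agent.Lib.Helper33LVec Cfsg.Agent.Lib.Helper33LMat
open Cfsg.Agent.Lib.Helper33LTest Cfsg.Agent.Lib.Helper33LCo0 Cfsg.Agent.Lib.Helper33LFrame
open Cfsg.Agent.Lib.Helper33LGood Cfsg.Agent.Lib.Helper33LReach2 Cfsg.Agent.Lib.Helper33LWord
open Cfsg.Agent.Lib.Helper33LPat Cfsg.Agent.Lib.Helper33LFrame2 Cfsg.Agent.Lib.Helper33LBase
open Cfsg.Agent.Lib.Helper33LMcL Cfsg.Agent.Lib.Helper33LHS Cfsg.Agent.Lib.Helper33LReach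
open Cfsg.Agent.Lib.Helper33LCo2Thy Cfsg.Agent.Lib.Helper33LCent Cfsg.Agent.Lib.Helper33LCent2
open Cfsg.Agent.Lib.Helper33LCent3 Cfsg.Agent.Lib.Helper33LMin
open MulAction

open Cfsg.Agent.Lib.Helper33LO1D

namespace Cfsg.Agent.Lib.Helper33LO1PaK2

theorem chkB_1 : ((octP.drop (1 * 4)).take 4).all (fB' cndT chkA) = true := by
  decide +kernel
theorem chkB_9 : ((octP.drop (9 * 4)).take 4).all (fB' cndT chkA) = true := by
  decide +kernel
theorem chkB_17 : ((octP.drop (17 * 4)).take 4).all (fB' cndT chkA) = true := by
  decide +kernel
theorem chkB_25 : ((octP.drop (25 * 4)).take 4).all (fB' cndT chkA) = true := by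
  decide +kernel
theorem chkB_33 : ((octP.drop (33 * 4)).take 4).all (fB' cndT chkA) = true := by
  decide +kernel
theorem chkB_41 : ((octP.drop (41 * 4)).take 4).all (fB' cndT chkA) = true := by
  decide +kernel
theorem chkB_49 : ((octP.drop (49 * 4)).take 4).all (fB' cndT chkA) = true := by
  decide +kernel
theorem chkB_57 : ((octP.drop (57 * 4)).take 4).all (fB' cndT chkA) = true := by
  decide +kernel
theorem chkB_65 : ((octP.drop (65 * 4)).take 4).all (fB' cndT chkA) = true := by
  decide +kernel
theorem chkB_73 : ((octP.drop (73 * 4)).take 4).all (fB' cndT chkA) = true := by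
  decide +kernel
theorem chkB_81 : ((octP.drop (81 * 4)).take 4).all (fB' cndT chkA) = true := by
  decide +kernel
theorem chkB_89 : ((octP.drop (89 * 4)).take 4).all (fB' cndT chkA) = true := by
  decide +kernel
theorem chkB_97 : ((octP.drop (97 * 4)).take 4).all (fB' cndT chkA) = true := by
  decide +kernel
theorem chkB_105 : ((octP.drop (105 * 4)).take 4).all (fB' cndT chkA) = true := by
  decide +kernel
theorem chkB_113 : ((octP.drop (113 * 4)).take 4).all (fB' cndT chkA) = true := by
  decide +kernel
theorem chkB_121 : ((octP.drop (121 * 4)).take 4).all (fB' cndT chkA) = true := by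
  decide +kernel
theorem chkB_129 : ((octP.drop (129 * 4)).take 4).all (fB' cndT chkA) = true := by
  decide +kernel
theorem chkB_137 : ((octP.drop (137 * 4)).take 4).all (fB' cndT chkA) = true := by
  decide +kernel
theorem chkB_145 : ((octP.drop (145 * 4)).take 4).all (fB' cndT chkA) = true := by
  decide +kernel
theorem chkB_153 : ((octP.drop (153 * 4)).take 4).all (fB' cndT chkA) = true := by
  decide +kernel
theorem chkB_161 : ((octP.drop (161 * 4)).take 4).all (fB' cndT chkA) = true := by
  decide +kernel
theorem chkB_169 : ((octP.drop (169 * 4)).take 4).all (fB' cndT chkA) = true := by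
  decide +kernel
theorem chkB_177 : ((octP.drop (177 * 4)).take 4).all (fB' cndT chkA) = true := by
  decide +kernel
theorem chkB_185 : ((octP.drop (185 * 4)).take 4).all (fB' cndT chkA) = true := by
  decide +kernel
theorem chkC_3 : (((List.range 4096).drop (3 * 21)).take 21).all (fC cndT chkA) = true := by
  decide +kernel
theorem chkC_11 : (((List.range 4096).drop (11 * 21)).take 21).all (fC cndT chkA) = true := by
  decide +kernel
theorem chkC_19 : (((List.range 4096).drop (19 * 21)).take 21).all (fC cndT chkA) = true := by
  decide +kernel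
theorem chkC_27 : (((List.range 4096).drop (27 * 21)).take 21).all (fC cndT chkA) = true := by
  decide +kernel
theorem chkC_35 : (((List.range 4096).drop (35 * 21)).take 21).all (fC cndT chkA) = true := by
  decide +kernel
theorem chkC_43 : (((List.range 4096).drop (43 * 21)).take 21).all (fC cndT chkA) = true := by
  decide +kernel
theorem chkC_51 : (((List.range 4096).drop (51 * 21)).take 21).all (fC cndT chkA) = true := by
  decide +kernel
theorem chkC_59 : (((List.range 4096).drop (59 * 21)).take 21).all (fC cndT chkA) = true := by
  decide +kernel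
theorem chkC_67 : (((List.range 4096).drop (67 * 21)).take 21).all (fC cndT chkA) = true := by
  decide +kernel
theorem chkC_75 : (((List.range 4096).drop (75 * 21)).take 21).all (fC cndT chkA) = true := by
  decide +kernel
theorem chkC_83 : (((List.range 4096).drop (83 * 21)).take 21).all (fC cndT chkA) = true := by
  decide +kernel
theorem chkC_91 : (((List.range 4096).drop (91 * 21)).take 21).all (fC cndT chkA) = true := by
  decide +kernel
theorem chkC_99 : (((List.range 4096).drop (99 * 21)).take 21).all (fC cndT chkA) = true := by
  decide +kernel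
theorem chkC_107 : (((List.range 4096).drop (107 * 21)).take 21).all (fC cndT chkA) = true := by
  decide +kernel
theorem chkC_115 : (((List.range 4096).drop (115 * 21)).take 21).all (fC cndT chkA) = true := by
  decide +kernel
theorem chkC_123 : (((List.range 4096).drop (123 * 21)).take 21).all (fC cndT chkA) = true := by
  decide +kernel
theorem chkC_131 : (((List.range 4096).drop (131 * 21)).take 21).all (fC cndT chkA) = true := by
  decide +kernel
theorem chkC_139 : (((List.range 4096).drop (139 * 21)).take 21).all (fC cndT chkA) = true := by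
  decide +kernel
theorem chkC_147 : (((List.range 4096).drop (147 * 21)).take 21).all (fC cndT chkA) = true := by
  decide +kernel
theorem chkC_155 : (((List.range 4096).drop (155 * 21)).take 21).all (fC cndT chkA) = true := by
  decide +kernel
theorem chkC_163 : (((List.range 4096).drop (163 * 21)).take 21).all (fC cndT chkA) = true := by
  decide +kernel
theorem chkC_171 : (((List.range 4096).drop (171 * 21)).take 21).all (fC cndT chkA) = true := by
  decide +kernel
theorem chkC_179 : (((List.range 4096).drop (179 * 21)).take 21).all (fC cndT chkA) = true := by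
  decide +kernel
theorem chkC_187 : (((List.range 4096).drop (187 * 21)).take 21).all (fC cndT chkA) = true := by
  decide +kernel
theorem chkC_195 : (((List.range 4096).drop (195 * 21)).take 21).all (fC cndT chkA) = true := by
  decide +kernel

end Cfsg.Agent.Lib.Helper33LO1PaK2
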