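import Cfsg.Agent.Lib.Helper33LO1D

set_option autoImplicit false
set_option exponentiation.threshold 2000
set_option maxRecDepth 1000000

open Cfsg Cfsg.Agent.Lib.Helper33Golay Cfsg.Agent.Lib.Helper33LVec Cfsg.Agent.Lib.Helper33LMat
open Cfsg.Agent.Lib.Helper33LTest Cfsg.Agent.Lib.Helper33LCo0 Cfsg.Agent.Lib.Helper33LFrame
open Cfsg.Agent.Lib.Helper33LGood Cfsg.Agent.Lib.Helper33LReach2 Cfsg.Agent.Lib.Helper33LWord
open Cfsg.Agent.Lib.Helper33LPat Cfsg.Agent.Lib.Helper33LFrame2 Cfsg.Agent.Lib.Helper33LBase
open Cfsg.Agent.Lib.Helper33LMcL Cfsg.Agent.Lib.Helper33LHS Cfsg.Agent.Lib.Helper33LReach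
open Cfsg.Agent.Lib.Helper33LCo2Thy Cfsg.Agent.Lib.Helper33LCent Cfsg.Agent.Lib.Helper33LCent2
open Cfsg.Agent.Lib.Helper33LCent3 Cfsg.Agent.Lib.Helper33LMin
open MulAction

open Cfsg.Agent.Lib.Helper33LO1D

namespace Cfsg.Agent.Lib.Helper33LO1PaK6

theorem chkB_5 : ((octP.drop (5 * 4)).take 4).all (fB' cndT chkA) = true := by
  decide +kernel
theorem chkB_13 : ((octP.drop (13 * 4)).take 4).all (fB' cndT chkA) = true := by
  decide +kernel
theorem chkB_21 : ((octP.drop (21 * 4)).take 4).all (fB' cndT chkA) = true := by
  decide +kernel
theorem chkB_29 : ((octP.drop (29 * 4)).take 4).all (fB' cndT chkA) = true := by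
  decide +kernel
theorem chkB_37 : ((octP.drop (37 * 4)).take 4).all (fB' cndT chkA) = true := by
  decide +kernel
theorem chkB_45 : ((octP.drop (45 * 4)).take 4).all (fB' cndT chkA) = true := by
  decide +kernel
theorem chkB_53 : ((octP.drop (53 * 4)).take 4).all (fB' cndT chkA) = true := by
  decide +kernel
theorem chkB_61 : ((octP.drop (61 * 4)).take 4).all (fB' cndT chkA) = true := by
  decide +kernel
theorem chkB_69 : ((octP.drop (69 * 4)).take 4).all (fB' cndT chkA) = true := by
  decide +kernel
theorem chkB_77 : ((octP.drop (77 * 4)).take 4).all (fB' cndT chkA) = true := by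
  decide +kernel
theorem chkB_85 : ((octP.drop (85 * 4)).take 4).all (fB' cndT chkA) = true := by
  decide +kernel
theorem chkB_93 : ((octP.drop (93 * 4)).take 4).all (fB' cndT chkA) = true := by
  decide +kernel
theorem chkB_101 : ((octP.drop (101 * 4)).take 4).all (fB' cndT chkA) = true := by
  decide +kernel
theorem chkB_109 : ((octP.drop (109 * 4)).take 4).all (fB' cndT chkA) = true := by
  decide +kernel
theorem chkB_117 : ((octP.drop (117 * 4)).take 4).all (fB' cndT chkA) = true := by
  decide +kernel
theorem chkB_125 : ((octP.drop (125 * 4)).take 4).all (fB' cndT chkA) = true := by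
  decide +kernel
theorem chkB_133 : ((octP.drop (133 * 4)).take 4).all (fB' cndT chkA) = true := by
  decide +kernel
theorem chkB_141 : ((octP.drop (141 * 4)).take 4).all (fB' cndT chkA) = true := by
  decide +kernel
theorem chkB_149 : ((octP.drop (149 * 4)).take 4).all (fB' cndT chkA) = true := by
  decide +kernel
theorem chkB_157 : ((octP.drop (157 * 4)).take 4).all (fB' cndT chkA) = true := by
  decide +kernel
theorem chkB_165 : ((octP.drop (165 * 4)).take 4).all (fB' cndT chkA) = true := by
  decide +kernel
theorem chkB_173 : ((octP.drop (173 * 4)).take 4).all (fB' cndT chkA) = true := by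
  decide +kernel
theorem chkB_181 : ((octP.drop (181 * 4)).take 4).all (fB' cndT chkA) = true := by
  decide +kernel
theorem chkB_189 : ((octP.drop (189 * 4)).take 4).all (fB' cndT chkA) = true := by
  decide +kernel
theorem chkC_7 : (((List.range 4096).drop (7 * 21)).take 21).all (fC cndT chkA) = true := by
  decide +kernel
theorem chkC_15 : (((List.range 4096).drop (15 * 21)).take 21).all (fC cndT chkA) = true := by
  decide +kernel
theorem chkC_23 : (((List.range 4096).drop (23 * 21)).take 21).all (fC cndT chkA) = true := by
  decide +kernel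
theorem chkC_31 : (((List.range 4096).drop (31 * 21)).take 21).all (fC cndT chkA) = true := by
  decide +kernel
theorem chkC_39 : (((List.range 4096).drop (39 * 21)).take 21).all (fC cndT chkA) = true := by
  decide +kernel
theorem chkC_47 : (((List.range 4096).drop (47 * 21)).take 21).all (fC cndT chkA) = true := by
  decide +kernel
theorem chkC_55 : (((List.range 4096).drop (55 * 21)).take 21).all (fC cndT chkA) = true := by
  decide +kernel
theorem chkC_63 : (((List.range 4096).drop (63 * 21)).take 21).all (fC cndT chkA) = true := by
  decide +kernel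
theorem chkC_71 : (((List.range 4096).drop (71 * 21)).take 21).all (fC cndT chkA) = true := by
  decide +kernel
theorem chkC_79 : (((List.range 4096).drop (79 * 21)).take 21).all (fC cndT chkA) = true := by
  decide +kernel
theorem chkC_87 : (((List.range 4096).drop (87 * 21)).take 21).all (fC cndT chkA) = true := by
  decide +kernel
theorem chkC_95 : (((List.range 4096).drop (95 * 21)).take 21).all (fC cndT chkA) = true := by
  decide +kernel
theorem chkC_103 : (((List.range 4096).drop (103 * 21)).take 21).all (fC cndT chkA) = true := by
  decide +kernel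
theorem chkC_111 : (((List.range 4096).drop (111 * 21)).take 21).all (fC cndT chkA) = true := by
  decide +kernel
theorem chkC_119 : (((List.range 4096).drop (119 * 21)).take 21).all (fC cndT chkA) = true := by
  decide +kernel
theorem chkC_127 : (((List.range 4096).drop (127 * 21)).take 21).all (fC cndT chkA) = true := by
  decide +kernel
theorem chkC_135 : (((List.range 4096).drop (135 * 21)).take 21).all (fC cndT chkA) = true := by
  decide +kernel
theorem chkC_143 : (((List.range 4096).drop (143 * 21)).take 21).all (fC cndT chkA) = true := by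
  decide +kernel
theorem chkC_151 : (((List.range 4096).drop (151 * 21)).take 21).all (fC cndT chkA) = true := by
  decide +kernel
theorem chkC_159 : (((List.range 4096).drop (159 * 21)).take 21).all (fC cndT chkA) = true := by
  decide +kernel
theorem chkC_167 : (((List.range 4096).drop (167 * 21)).take 21).all (fC cndT chkA) = true := by
  decide +kernel
theorem chkC_175 : (((List.range 4096).drop (175 * 21)).take 21).all (fC cndT chkA) = true := by
  decide +kernel
theorem chkC_183 : (((List.range 4096).drop (183 * 21)).take 21).all (fC cndT chkA) = true := by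
  decide +kernel
theorem chkC_191 : (((List.range 4096).drop (191 * 21)).take 21).all (fC cndT chkA) = true := by
  decide +kernel

end Cfsg.Agent.Lib.Helper33LO1PaK6
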