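import Cfsg.Agent.Lib.Helper33LO1D

set_option autoImplicit false
set_option exponentiation.threshold 2000
set_option maxRecDepth 1000000

open Cfsg Cfsg.Agent.Lib.Helper33Golay Cfsg.Agent.Lib.Helper33LVec Cfsg.Agent.Lib.Helper33LMat
open Cfsg.Agent.Lib.Helper33LTest Cfsg.Agent.Lib.Helper33LCo0 Cfsg.Agent.Lib.Helper33LFrame
open Cfsg.Agent.Lib.Helper33LGood Cfsg.Agent.Lib.Helper33LReach2 Cfsg.Agent.Lib.Helper33LWord
open Cfsg.Agent.Lib.Helper33LPat Cfsg.Agent.Lib.Helper33LFrame2 Cfsg.Agent.Lib.Helper33LBase
open Cfsg.Agent.Lib.Helper33LMcL Cfsg.Agent.Lib.Helper33LHS Cfsg.Agent.Lib.Helper33LReach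
open Cfsg.Agent.Lib.Helper33LCo2Thy Cfsg.Agent.Lib.Helper33LCent Cfsg.Agent.Lib.Helper33LCent2
open Cfsg.Agent.Lib.Helper33LCent3 Cfsg.Agent.Lib.Helper33LMin
open MulAction

open Cfsg.Agent.Lib.Helper33LO1D

namespace Cfsg.Agent.Lib.Helper33LO1PuK0

theorem chkA : allA cndT chkU = true := by decide +kernel
theorem chkB_7 : ((octP.drop (7 * 4)).take 4).all (fB' cndT chkU) = true := by
  decide +kernel
theorem chkB_15 : ((octP.drop (15 * 4)).take 4).all (fB' cndT chkU) = true := by
  decide +kernel
theorem chkB_23 : ((octP.drop (23 * 4)).take 4).all (fB' cndT chkU) = true := by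
  decide +kernel
theorem chkB_31 : ((octP.drop (31 * 4)).take 4).all (fB' cndT chkU) = true := by
  decide +kernel
theorem chkB_39 : ((octP.drop (39 * 4)).take 4).all (fB' cndT chkU) = true := by
  decide +kernel
theorem chkB_47 : ((octP.drop (47 * 4)).take 4).all (fB' cndT chkU) = true := by
  decide +kernel
theorem chkB_55 : ((octP.drop (55 * 4)).take 4).all (fB' cndT chkU) = true := by
  decide +kernel
theorem chkB_63 : ((octP.drop (63 * 4)).take 4).all (fB' cndT chkU) = true := by
  decide +kernel
theorem chkB_71 : ((octP.drop (71 * 4)).take 4).all (fB' cndT chkU) = true := by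
  decide +kernel
theorem chkB_79 : ((octP.drop (79 * 4)).take 4).all (fB' cndT chkU) = true := by
  decide +kernel
theorem chkB_87 : ((octP.drop (87 * 4)).take 4).all (fB' cndT chkU) = true := by
  decide +kernel
theorem chkB_95 : ((octP.drop (95 * 4)).take 4).all (fB' cndT chkU) = true := by
  decide +kernel
theorem chkB_103 : ((octP.drop (103 * 4)).take 4).all (fB' cndT chkU) = true := by
  decide +kernel
theorem chkB_111 : ((octP.drop (111 * 4)).take 4).all (fB' cndT chkU) = true := by
  decide +kernel
theorem chkB_119 : ((octP.drop (119 * 4)).take 4).all (fB' cndT chkU) = true := by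
  decide +kernel
theorem chkB_127 : ((octP.drop (127 * 4)).take 4).all (fB' cndT chkU) = true := by
  decide +kernel
theorem chkB_135 : ((octP.drop (135 * 4)).take 4).all (fB' cndT chkU) = true := by
  decide +kernel
theorem chkB_143 : ((octP.drop (143 * 4)).take 4).all (fB' cndT chkU) = true := by
  decide +kernel
theorem chkB_151 : ((octP.drop (151 * 4)).take 4).all (fB' cndT chkU) = true := by
  decide +kernel
theorem chkB_159 : ((octP.drop (159 * 4)).take 4).all (fB' cndT chkU) = true := by
  decide +kernel
theorem chkB_167 : ((octP.drop (167 * 4)).take 4).all (fB' cndT chkU) = true := by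
  decide +kernel
theorem chkB_175 : ((octP.drop (175 * 4)).take 4).all (fB' cndT chkU) = true := by
  decide +kernel
theorem chkB_183 : ((octP.drop (183 * 4)).take 4).all (fB' cndT chkU) = true := by
  decide +kernel
theorem chkC_1 : (((List.range 4096).drop (1 * 21)).take 21).all (fC cndT chkU) = true := by
  decide +kernel
theorem chkC_9 : (((List.range 4096).drop (9 * 21)).take 21).all (fC cndT chkU) = true := by
  decide +kernel
theorem chkC_17 : (((List.range 4096).drop (17 * 21)).take 21).all (fC cndT chkU) = true := by
  decide +kernel
theorem chkC_25 : (((List.range 4096).drop (25 * 21)).take 21).all (fC cndT chkU) = true := by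
  decide +kernel
theorem chkC_33 : (((List.range 4096).drop (33 * 21)).take 21).all (fC cndT chkU) = true := by
  decide +kernel
theorem chkC_41 : (((List.range 4096).drop (41 * 21)).take 21).all (fC cndT chkU) = true := by
  decide +kernel
theorem chkC_49 : (((List.range 4096).drop (49 * 21)).take 21).all (fC cndT chkU) = true := by
  decide +kernel
theorem chkC_57 : (((List.range 4096).drop (57 * 21)).take 21).all (fC cndT chkU) = true := by
  decide +kernel
theorem chkC_65 : (((List.range 4096).drop (65 * 21)).take 21).all (fC cndT chkU) = true := by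
  decide +kernel
theorem chkC_73 : (((List.range 4096).drop (73 * 21)).take 21).all (fC cndT chkU) = true := by
  decide +kernel
theorem chkC_81 : (((List.range 4096).drop (81 * 21)).take 21).all (fC cndT chkU) = true := by
  decide +kernel
theorem chkC_89 : (((List.range 4096).drop (89 * 21)).take 21).all (fC cndT chkU) = true := by
  decide +kernel
theorem chkC_97 : (((List.range 4096).drop (97 * 21)).take 21).all (fC cndT chkU) = true := by
  decide +kernel
theorem chkC_105 : (((List.range 4096).drop (105 * 21)).take 21).all (fC cndT chkU) = true := by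
  decide +kernel
theorem chkC_113 : (((List.range 4096).drop (113 * 21)).take 21).all (fC cndT chkU) = true := by
  decide +kernel
theorem chkC_121 : (((List.range 4096).drop (121 * 21)).take 21).all (fC cndT chkU) = true := by
  decide +kernel
theorem chkC_129 : (((List.range 4096).drop (129 * 21)).take 21).all (fC cndT chkU) = true := by
  decide +kernel
theorem chkC_137 : (((List.range 4096).drop (137 * 21)).take 21).all (fC cndT chkU) = true := by
  decide +kernel
theorem chkC_145 : (((List.range 4096).drop (145 * 21)).take 21).all (fC cndT chkU) = true := by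
  decide +kernel
theorem chkC_153 : (((List.range 4096).drop (153 * 21)).take 21).all (fC cndT chkU) = true := by
  decide +kernel
theorem chkC_161 : (((List.range 4096).drop (161 * 21)).take 21).all (fC cndT chkU) = true := by
  decide +kernel
theorem chkC_169 : (((List.range 4096).drop (169 * 21)).take 21).all (fC cndT chkU) = true := by
  decide +kernel
theorem chkC_177 : (((List.range 4096).drop (177 * 21)).take 21).all (fC cndT chkU) = true := by
  decide +kernel
theorem chkC_185 : (((List.range 4096).drop (185 * 21)).take 21).all (fC cndT chkU) = true := by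
  decide +kernel
theorem chkC_193 : (((List.range 4096).drop (193 * 21)).take 21).all (fC cndT chkU) = true := by
  decide +kernel

end Cfsg.Agent.Lib.Helper33LO1PuK0
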