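import Cfsg.Agent.Lib.Helper33LO2CAD

set_option autoImplicit false
set_option exponentiation.threshold 2000
set_option maxRecDepth 1000000

open Cfsg Cfsg.Agent.Lib.Helper33Golay Cfsg.Agent.Lib.Helper33LVec Cfsg.Agent.Lib.Helper33LMat
open Cfsg.Agent.Lib.Helper33LTest Cfsg.Agent.Lib.Helper33LCo0 Cfsg.Agent.Lib.Helper33LFrame
open Cfsg.Agent.Lib.Helper33LGood Cfsg.Agent.Lib.Helper33LReach2 Cfsg.Agent.Lib.Helper33LWord
open Cfsg.Agent.Lib.Helper33LPat Cfsg.Agent.Lib.Helper33LFrame2 Cfsg.Agent.Lib.Helper33LBase
open Cfsg.Agent.Lib.Helper33LMcL Cfsg.Agent.Lib.Helper33LHS Cfsg.Agent.Lib.Helper33LReach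
open Cfsg.Agent.Lib.Helper33LCo2Thy Cfsg.Agent.Lib.Helper33LCent Cfsg.Agent.Lib.Helper33LCent2
open Cfsg.Agent.Lib.Helper33LCent3 Cfsg.Agent.Lib.Helper33LMin
open MulAction

open Cfsg.Agent.Lib.Helper33LO2CAD

namespace Cfsg.Agent.Lib.Helper33LO2CApK0

theorem chkA : allA cnd chk = true := by decide +kernel
theorem chkB_3 : ((octP.drop (3 * 14)).take 14).all (fB' cnd chk) = true := by
  decide +kernel
theorem chkB_7 : ((octP.drop (7 * 14)).take 14).all (fB' cnd chk) = true := by
  decide +kernel
theorem chkB_11 : ((octP.drop (11 * 14)).take 14).all (fB' cnd chk) = true := by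
  decide +kernel
theorem chkB_15 : ((octP.drop (15 * 14)).take 14).all (fB' cnd chk) = true := by
  decide +kernel
theorem chkB_19 : ((octP.drop (19 * 14)).take 14).all (fB' cnd chk) = true := by
  decide +kernel
theorem chkB_23 : ((octP.drop (23 * 14)).take 14).all (fB' cnd chk) = true := by
  decide +kernel
theorem chkB_27 : ((octP.drop (27 * 14)).take 14).all (fB' cnd chk) = true := by
  decide +kernel
theorem chkB_31 : ((octP.drop (31 * 14)).take 14).all (fB' cnd chk) = true := by
  decide +kernel
theorem chkB_35 : ((octP.drop (35 * 14)).take 14).all (fB' cnd chk) = true := by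
  decide +kernel
theorem chkB_39 : ((octP.drop (39 * 14)).take 14).all (fB' cnd chk) = true := by
  decide +kernel
theorem chkB_43 : ((octP.drop (43 * 14)).take 14).all (fB' cnd chk) = true := by
  decide +kernel
theorem chkB_47 : ((octP.drop (47 * 14)).take 14).all (fB' cnd chk) = true := by
  decide +kernel
theorem chkB_51 : ((octP.drop (51 * 14)).take 14).all (fB' cnd chk) = true := by
  decide +kernel
theorem chkC_0 : (((List.range 4096).drop (0 * 70)).take 70).all (fC cnd chk) = true := by
  decide +kernel
theorem chkC_4 : (((List.range 4096).drop (4 * 70)).take 70).all (fC cnd chk) = true := by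
  decide +kernel
theorem chkC_8 : (((List.range 4096).drop (8 * 70)).take 70).all (fC cnd chk) = true := by
  decide +kernel
theorem chkC_12 : (((List.range 4096).drop (12 * 70)).take 70).all (fC cnd chk) = true := by
  decide +kernel
theorem chkC_16 : (((List.range 4096).drop (16 * 70)).take 70).all (fC cnd chk) = true := by
  decide +kernel
theorem chkC_20 : (((List.range 4096).drop (20 * 70)).take 70).all (fC cnd chk) = true := by
  decide +kernel
theorem chkC_24 : (((List.range 4096).drop (24 * 70)).take 70).all (fC cnd chk) = true := by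
  decide +kernel
theorem chkC_28 : (((List.range 4096).drop (28 * 70)).take 70).all (fC cnd chk) = true := by
  decide +kernel
theorem chkC_32 : (((List.range 4096).drop (32 * 70)).take 70).all (fC cnd chk) = true := by
  decide +kernel
theorem chkC_36 : (((List.range 4096).drop (36 * 70)).take 70).all (fC cnd chk) = true := by
  decide +kernel
theorem chkC_40 : (((List.range 4096).drop (40 * 70)).take 70).all (fC cnd chk) = true := by
  decide +kernel
theorem chkC_44 : (((List.range 4096).drop (44 * 70)).take 70).all (fC cnd chk) = true := by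
  decide +kernel
theorem chkC_48 : (((List.range 4096).drop (48 * 70)).take 70).all (fC cnd chk) = true := by
  decide +kernel
theorem chkC_52 : (((List.range 4096).drop (52 * 70)).take 70).all (fC cnd chk) = true := by
  decide +kernel
theorem chkC_56 : (((List.range 4096).drop (56 * 70)).take 70).all (fC cnd chk) = true := by
  decide +kernel

end Cfsg.Agent.Lib.Helper33LO2CApK0
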