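import Cfsg.Agent.Lib.Helper33LO2CUpK0

set_option autoImplicit false
set_option exponentiation.threshold 2000
set_option maxRecDepth 1000000

open Cfsg Cfsg.Agent.Lib.Helper33Golay Cfsg.Agent.Lib.Helper33LVec Cfsg.Agent.Lib.Helper33LMat
open Cfsg.Agent.Lib.Helper33LTest Cfsg.Agent.Lib.Helper33LCo0 Cfsg.Agent.Lib.Helper33LFrame
open Cfsg.Agent.Lib.Helper33LGood Cfsg.Agent.Lib.Helper33LReach2 Cfsg.Agent.Lib.Helper33LWord
open Cfsg.Agent.Lib.Helper33LPat Cfsg.Agent.Lib.Helper33LFrame2 Cfsg.Agent.Lib.Helper33LBase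
open Cfsg.Agent.Lib.Helper33LMcL Cfsg.Agent.Lib.Helper33LHS Cfsg.Agent.Lib.Helper33LReach
open Cfsg.Agent.Lib.Helper33LCo2Thy Cfsg.Agent.Lib.Helper33LCent Cfsg.Agent.Lib.Helper33LCent2
open Cfsg.Agent.Lib.Helper33LCent3 Cfsg.Agent.Lib.Helper33LMin
open MulAction

open Cfsg.Agent.Lib.Helper33LO2CUD

namespace Cfsg.Agent.Lib.Helper33LO2CUpAll

theorem chkB : octP.all (fB' Helper33LO2CUD.cnd16 Helper33LO2CUD.chk1) = true := by
  apply all_of_chunks _ 127 6 _ (le_of_eq_of_le octP_length (by norm_num))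
  intro j hj
  interval_cases j
  · exact Helper33LO2CUpK0.chkB_0
  · exact Helper33LO2CUpK0.chkB_1
  · exact Helper33LO2CUpK0.chkB_2
  · exact Helper33LO2CUpK0.chkB_3
  · exact Helper33LO2CUpK0.chkB_4
  · exact Helper33LO2CUpK0.chkB_5

theorem chkC : (List.range 4096).all (fC Helper33LO2CUD.cnd16 Helper33LO2CUD.chk1) = true := by
  apply all_of_chunks _ 683 6 _ (le_of_eq_of_le List.length_range (by norm_num))
  intro j hj
  interval_cases j
  · exact Helper33LO2CUpK0.chkC_0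
  · exact Helper33LO2CUpK0.chkC_1
  · exact Helper33LO2CUpK0.chkC_2
  · exact Helper33LO2CUpK0.chkC_3
  · exact Helper33LO2CUpK0.chkC_4
  · exact Helper33LO2CUpK0.chkC_5

theorem chk_all : ∀ m ∈ minL, Helper33LO2CUD.cnd16 m = true → Helper33LO2CUD.chk1 m = true :=
  forall_minL' Helper33LO2CUD.cnd16 Helper33LO2CUD.chk1 Helper33LO2CUpK0.chkA chkB chkC

end Cfsg.Agent.Lib.Helper33LO2CUpAll
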