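import Cfsg.Agent.Lib.Helper33LO2CUD

set_option autoImplicit false
set_option exponentiation.threshold 2000
set_option maxRecDepth 1000000

open Cfsg Cfsg.Agent.Lib.Helper33Golay Cfsg.Agent.Lib.Helper33LVec Cfsg.Agent.Lib.Helper33LMat
open Cfsg.Agent.Lib.Helper33LTest Cfsg.Agent.Lib.Helper33LCo0 Cfsg.Agent.Lib.Helper33LFrame
open Cfsg.Agent.Lib.Helper33LGood Cfsg.Agent.Lib.Helper33LReach2 Cfsg.Agent.Lib.Helper33LWord
open Cfsg.Agent.Lib.Helper33LPat Cfsg.Agent.Lib.Helper33LFrame2 Cfsg.Agent.Lib.Helper33LBase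
open Cfsg.Agent.Lib.Helper33LMcL Cfsg.Agent.Lib.Helper33LHS Cfsg.Agent.Lib.Helper33LReach
open Cfsg.Agent.Lib.Helper33LCo2Thy Cfsg.Agent.Lib.Helper33LCent Cfsg.Agent.Lib.Helper33LCent2
open Cfsg.Agent.Lib.Helper33LCent3 Cfsg.Agent.Lib.Helper33LMin
open MulAction

open Cfsg.Agent.Lib.Helper33LO2CUD

namespace Cfsg.Agent.Lib.Helper33LO2CUqK0

theorem chkA : allA cnd16 chk2 = true := by decide +kernel
theorem chkB_0 : ((octP.drop (0 * 127)).take 127).all (fB' cnd16 chk2) = true := by
  decide +kernel
theorem chkB_1 : ((octP.drop (1 * 127)).take 127).all (fB' cnd16 chk2) = true := by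
  decide +kernel
theorem chkB_2 : ((octP.drop (2 * 127)).take 127).all (fB' cnd16 chk2) = true := by
  decide +kernel
theorem chkB_3 : ((octP.drop (3 * 127)).take 127).all (fB' cnd16 chk2) = true := by
  decide +kernel
theorem chkB_4 : ((octP.drop (4 * 127)).take 127).all (fB' cnd16 chk2) = true := by
  decide +kernel
theorem chkB_5 : ((octP.drop (5 * 127)).take 127).all (fB' cnd16 chk2) = true := by
  decide +kernel
theorem chkC_0 : (((List.range 4096).drop (0 * 683)).take 683).all (fC cnd16 chk2) = true := by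
  decide +kernel
theorem chkC_1 : (((List.range 4096).drop (1 * 683)).take 683).all (fC cnd16 chk2) = true := by
  decide +kernel
theorem chkC_2 : (((List.range 4096).drop (2 * 683)).take 683).all (fC cnd16 chk2) = true := by
  decide +kernel
theorem chkC_3 : (((List.range 4096).drop (3 * 683)).take 683).all (fC cnd16 chk2) = true := by
  decide +kernel
theorem chkC_4 : (((List.range 4096).drop (4 * 683)).take 683).all (fC cnd16 chk2) = true := by
  decide +kernel
theorem chkC_5 : (((List.range 4096).drop (5 * 683)).take 683).all (fC cnd16 chk2) = true := by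
  decide +kernel

end Cfsg.Agent.Lib.Helper33LO2CUqK0
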