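import Cfsg.Agent.Lib.Helper33OutA

/-! # Abstract lemmas on outer automorphism groups, II: a Sylow normaliser `p : m` and an
involution inverting the complement (helper33) -/

set_option autoImplicit false

namespace Cfsg.Agent.Lib.Helper33OutB

open Cfsg.Agent.Helper64J3 Cfsg.Agent.Lib.Helper33OutA

theorem inner_of_data2 {Q : Type*} [Group Q] [Finite Q] (p : ℕ) [hpp : Fact p.Prime]
    (hp : (Nat.card Q).factorization p = 1) (a u t : Q) (ha : orderOf a = p) (r : ℕ)
    (hu : u * a * u⁻¹ = a ^ r)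
    (hC : ∀ c : Q, c * a = a * c → c ∈ Subgroup.zpowers a)
    (hs : ∀ j < p, ∃ m : ℕ, (m * r) % p = (m + j) % p)
    (hCu : ∀ c : Q, c * u = u * c → c ∈ Subgroup.zpowers u)
    (n : ℕ) (hodd : u ^ (2 * n + 1) = 1)
    (ht2 : t * t = 1) (htu : t * u * t⁻¹ = u⁻¹)
    (hgen : Subgroup.closure {t, a} = ⊤)
    (hno : ∀ k, 2 ≤ k → k < p → ∀ ψ : MulAut Q, ψ a = a ^ k → ψ t = t → False) (φ : MulAut Q) :
    φ ∈ Cfsg.Inn Q := by
  have hp0 : 0 < p := hpp.out.pos
  obtain ⟨g, k, -, hga, hgu⟩ := aut_normalise p hp a u ha r hu hC (fun _ => True)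
    (by
      intro k hkp hk0
      refine ⟨0, trivial, ?_⟩
      rw [pow_zero, mul_one, Nat.mod_eq_of_lt hkp]
      exact hk0) hs φ
  set ψ := MulAut.conj g * φ with hψ
  set s := ψ t with hs'
  have htinv : t⁻¹ = t := inv_eq_of_mul_eq_one_left ht2
  have hs2 : s * s = 1 := by rw [hs', ← map_mul, ht2, map_one]
  have hsinv : s⁻¹ = s := inv_eq_of_mul_eq_one_left hs2
  have hsu : s * u * s⁻¹ = u⁻¹ := by
    have := congrArg ψ htu
    rwa [map_mul, map_mul, map_inv, map_inv, hgu] at this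
  -- commutation rules
  have h1 : t * u = u⁻¹ * t := by
    calc t * u = t * u * t⁻¹ * t := by group
      _ = u⁻¹ * t := by rw [htu]
  have h2 : s * u⁻¹ = u * s := by
    have : s * u⁻¹ * s⁻¹ = u := by
      calc s * u⁻¹ * s⁻¹ = (s * u * s⁻¹)⁻¹ := by group
        _ = u := by rw [hsu, inv_inv]
    calc s * u⁻¹ = s * u⁻¹ * s⁻¹ * s := by group
      _ = u * s := by rw [this]
  have hc : (s * t) * u = u * (s * t) := by
    calc s * t * u = s * (t * u) := by group
      _ = s * u⁻¹ * t := by rw [h1]; group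
      _ = u * (s * t) := by rw [h2]; group
  have hmem := hCu _ hc
  rw [← mem_powers_iff_mem_zpowers] at hmem
  obtain ⟨z, hz⟩ := hmem
  have hz' : u ^ z = s * t := hz
  have hst : s = u ^ z * t := by
    rw [hz', mul_assoc, ht2, mul_one]
  -- `t` inverts powers of `u`
  have h3 : ∀ y : ℕ, t * (u ^ y)⁻¹ = u ^ y * t := by
    intro y
    have : t * u ^ y * t⁻¹ = (u ^ y)⁻¹ := by
      rw [← conj_pow, htu, inv_pow]
    calc t * (u ^ y)⁻¹ = t * (t * u ^ y * t⁻¹) := by rw [this]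
      _ = (t * t) * u ^ y * t⁻¹ := by group
      _ = u ^ y * t := by rw [ht2, one_mul, htinv]
  set y := n * z with hy
  let ψ' : MulAut Q := MulAut.conj (u ^ y) * ψ
  have hψt : ψ' t = t := by
    show u ^ y * s * (u ^ y)⁻¹ = t
    rw [hst]
    calc u ^ y * (u ^ z * t) * (u ^ y)⁻¹ = u ^ y * u ^ z * (t * (u ^ y)⁻¹) := by group
      _ = u ^ y * u ^ z * (u ^ y * t) := by rw [h3]
      _ = u ^ ((2 * n + 1) * z) * t := by
        rw [← mul_assoc, ← pow_add, ← pow_add]
        congr 2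
        rw [hy]; ring
      _ = t := by rw [pow_mul, hodd, one_pow, one_mul]
  have hψa : ψ' a = a ^ ((k * r ^ y) % p) := by
    show u ^ y * ψ a * (u ^ y)⁻¹ = _
    rw [hga, conj_pow_pow hu, ← ha, pow_mod_orderOf]
  set k' := (k * r ^ y) % p with hk'
  have hk'lt : k' < p := Nat.mod_lt _ hp0
  have hane : a ≠ 1 := by
    intro h
    rw [h, orderOf_one] at ha
    exact hpp.out.one_lt.ne ha
  have hk'0 : k' ≠ 0 := by
    intro h0
    rw [h0, pow_zero] at hψa
    apply hane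
    apply ψ'.injective
    rw [hψa, map_one]
  by_cases hk1 : k' = 1
  · rw [hk1, pow_one] at hψa
    have h4 := mulAut_eq_one_of_closure t a hgen ψ' hψt hψa
    have h5 : MulAut.conj (u ^ y * g) * φ = 1 := by
      rw [map_mul, mul_assoc]
      exact h4
    have h6 : φ = (MulAut.conj (u ^ y * g))⁻¹ := eq_inv_of_mul_eq_one_right h5
    rw [h6]
    exact (Cfsg.Inn Q).inv_mem ⟨_, rfl⟩
  · exact (hno k' (by omega) hk'lt ψ' hψa hψt).elim

end Cfsg.Agent.Lib.Helper33OutB
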