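import Cfsg.Agent.Lib.Helper33LO2CA
import Cfsg.Agent.Lib.Helper33LO2CU
import Cfsg.Agent.Lib.Helper33LO2G
import Cfsg.Agent.Lib.Helper33OutB

/-! # Every automorphism of `Co2` is inner (helper33) -/

set_option autoImplicit false
set_option exponentiation.threshold 2000

open Cfsg Cfsg.Agent.Lib.Helper33Golay Cfsg.Agent.Lib.Helper33LVec Cfsg.Agent.Lib.Helper33LMat
open Cfsg.Agent.Lib.Helper33LTest Cfsg.Agent.Lib.Helper33LCo0 Cfsg.Agent.Lib.Helper33LFrame
open Cfsg.Agent.Lib.Helper33LGood Cfsg.Agent.Lib.Helper33LReach2 Cfsg.Agent.Lib.Helper33LWord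
open Cfsg.Agent.Lib.Helper33LPat Cfsg.Agent.Lib.Helper33LFrame2 Cfsg.Agent.Lib.Helper33LBase
open Cfsg.Agent.Lib.Helper33LCent Cfsg.Agent.Lib.Helper33LCent2 Cfsg.Agent.Lib.Helper33LCent3
open Cfsg.Agent.Lib.Helper33LO3D Cfsg.Agent.Lib.Helper33LO2D Cfsg.Agent.Lib.Helper33LO2G
open MulAction

namespace Cfsg.Agent.Lib.Helper33LO2F

abbrev Q : Type := ↥(fixG ([v2c].map DL))

noncomputable def a : Q := ⟨toCo0 PA, fixF PA (by simp)⟩
noncomputable def u : Q := ⟨toCo0 PU, fixF PU (by simp)⟩
noncomputable def t : Q := ⟨toCo0 PT2, fixF PT2 (by simp)⟩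

theorem gd {l : List ℕ} (h : ∀ P ∈ l, P ∈ [PA, PAi, PU, PT2]) : ∀ P ∈ l, goodP P = true :=
  fun P hP => (Helper33LO2CA.good P (h P hP)).1

theorem a23 : a ^ 23 = 1 := by
  apply Subtype.ext
  have := wprod_eq_one (ws := List.replicate 23 PA) (gd (by
    intro P hP; rw [List.eq_of_mem_replicate hP]; simp)) rel_A23
  rw [wprod_replicate] at this
  exact this

theorem a_ne : a ≠ 1 := by
  intro h
  have := wprod_ne_of_notOne (ws := [PA]) (gd (by simp)) A_ne
  rw [wprod_single] at this
  exact this (congrArg Subtype.val h)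

theorem order_a : orderOf a = 23 := by
  have : Fact (Nat.Prime 23) := ⟨by norm_num⟩
  exact orderOf_eq_prime a23 a_ne

theorem u_a : u * a * u⁻¹ = a ^ 2 := by
  have h : u * a = a * a * u := by
    apply Subtype.ext
    have := wprod_eq_of_same (ws := [PU, PA]) (ws' := [PA, PA, PU]) (gd (by simp)) (gd (by simp))
      rel_UA
    simpa [wprod, mul_assoc, a, u] using this
  rw [h, mul_inv_cancel_right, pow_two]

theorem u11 : u ^ (2 * 5 + 1) = 1 := by
  apply Subtype.ext
  have := wprod_eq_one (ws := List.replicate 11 PU) (gd (by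
    intro P hP; rw [List.eq_of_mem_replicate hP]; simp)) rel_U11
  rw [wprod_replicate] at this
  exact this

theorem t_t : t * t = 1 := by
  apply Subtype.ext
  have := wprod_eq_one (ws := [PT2, PT2]) (gd (by simp)) Helper33LO2D.rel_TT
  simpa [wprod, t] using this

theorem t_u : t * u * t⁻¹ = u⁻¹ := by
  have h : t * u * t * u = 1 := by
    apply Subtype.ext
    have := wprod_eq_one (ws := [PT2, PU, PT2, PU]) (gd (by simp)) Helper33LO2D.rel_TU
    simpa [wprod, t, u, mul_assoc] using this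
  have htinv : t⁻¹ = t := inv_eq_of_mul_eq_one_left t_t
  rw [htinv]
  exact eq_inv_of_mul_eq_one_left h

theorem cent_a (c : Q) (hc : c * a = a * c) : c ∈ Subgroup.zpowers a := by
  obtain ⟨j, hj⟩ := Helper33LO2CA.centA c.1 (mem_Zg.2 ⟨congrArg Subtype.val hc, c.2⟩)
  have h1 : a ^ j * c = 1 := Subtype.ext hj
  rw [eq_inv_of_mul_eq_one_right h1]
  exact Subgroup.inv_mem _ (Subgroup.pow_mem _ (Subgroup.mem_zpowers a) j)

theorem cent_u (c : Q) (hc : c * u = u * c) : c ∈ Subgroup.zpowers u := by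
  obtain ⟨j, hj⟩ := Helper33LO2CU.centU c.1 (mem_Zg.2 ⟨congrArg Subtype.val hc, c.2⟩)
  have h1 : u ^ j * c = 1 := Subtype.ext hj
  rw [eq_inv_of_mul_eq_one_right h1]
  exact Subgroup.inv_mem _ (Subgroup.pow_mem _ (Subgroup.mem_zpowers u) j)

theorem gen : Subgroup.closure {t, a} = (⊤ : Subgroup Q) := by
  apply Subgroup.map_injective (fixG ([v2c].map DL)).subtype_injective
  rw [MonoidHom.map_closure, Set.image_pair, ← MonoidHom.range_eq_map, Subgroup.range_subtype]
  exact K_eq

noncomputable def syl (x y : Q) (es : List ℕ) : Q := (es.map (fun e => x ^ e * y)).prod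

theorem map_syl (ψ : MulAut Q) (x y : Q) (es : List ℕ) :
    ψ (syl x y es) = syl (ψ x) (ψ y) es := by
  unfold syl
  rw [map_list_prod, List.map_map]
  congr 1
  apply List.map_congr_left
  intro e _
  simp

theorem syl_val (k : ℕ) (es : List ℕ) : (syl (a ^ k) t es).1 = wprod (wl k es) := by
  induction es with
  | nil => simp [syl, wl, wprod]
  | cons e es ih =>
    have h1 : syl (a ^ k) t (e :: es) = (a ^ k) ^ e * t * syl (a ^ k) t es := by
      simp [syl]
    have h2 : wl k (e :: es) = (List.replicate (e * k) PA ++ [PT2]) ++ wl k es := by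
      simp [wl]
    rw [h1, h2, wprod_append, wprod_append, wprod_replicate, wprod_single, ← ih, ← pow_mul,
      mul_comm k e]
    rfl

theorem wl_good (k : ℕ) (es : List ℕ) (o : ℕ) :
    ∀ P ∈ (List.replicate o (wl k es)).flatten, goodP P = true := by
  apply gd
  intro P hP
  obtain ⟨l, hl, hP⟩ := List.mem_flatten.1 hP
  rw [List.eq_of_mem_replicate hl] at hP
  obtain ⟨e, _, hP⟩ := List.mem_flatMap.1 hP
  rcases List.mem_append.1 hP with hP | hP
  · rw [List.eq_of_mem_replicate hP]; simp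
  · simp only [List.mem_cons, List.not_mem_nil, or_false] at hP
    rw [hP]; simp

theorem no_k (k : ℕ) (h2 : 2 ≤ k) (h23 : k < 23) (ψ : MulAut Q) (h1 : ψ a = a ^ k)
    (ht : ψ t = t) : False := by
  obtain ⟨es, o, e1, e2⟩ := fp_all k h2 h23
  have f1 : syl a t es ^ o = 1 := by
    apply Subtype.ext
    have := wprod_eq_one (wl_good 1 es o) e1
    rw [wprod_flatten, ← syl_val, pow_one] at this
    exact this
  have f2 : syl (a ^ k) t es ^ o ≠ 1 := by
    intro h
    apply wprod_ne_of_notOne (wl_good k es o) e2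
    rw [wprod_flatten, ← syl_val]
    exact congrArg Subtype.val h
  apply f2
  have h3 := map_syl ψ a t es
  rw [h1, ht] at h3
  rw [← h3, ← map_pow, f1, map_one]

theorem fact23 : (Nat.card Q).factorization 23 = 1 := by
  rw [card2]
  have h : (42305421312000 : ℕ) = 23 * 1839366144000 := by norm_num
  rw [h, Nat.factorization_mul (by norm_num) (by norm_num), Finsupp.add_apply,
    Nat.Prime.factorization_self (by norm_num),
    Nat.factorization_eq_zero_of_not_dvd (by norm_num)]

theorem all_inner (φ : MulAut Q) : φ ∈ Cfsg.Inn Q := by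
  have : Fact (Nat.Prime 23) := ⟨by norm_num⟩
  have : Finite Q := Nat.finite_of_card_ne_zero (by rw [card2]; norm_num)
  exact Helper33OutB.inner_of_data2 23 fact23 a u t order_a 2 u_a cent_a
    (fun j _ => ⟨j, by rw [mul_two]⟩) cent_u 5 u11 t_t t_u gen no_k φ

end Cfsg.Agent.Lib.Helper33LO2F
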