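import Cfsg.Agent.Lib.Helper33LO3D

/-! # The centraliser in `Co3` of the element `u` of order 11 (helper33) -/

set_option autoImplicit false
set_option exponentiation.threshold 2000
set_option maxRecDepth 1000000

open Cfsg Cfsg.Agent.Lib.Helper33Golay Cfsg.Agent.Lib.Helper33LVec Cfsg.Agent.Lib.Helper33LMat
open Cfsg.Agent.Lib.Helper33LTest Cfsg.Agent.Lib.Helper33LCo0 Cfsg.Agent.Lib.Helper33LFrame
open Cfsg.Agent.Lib.Helper33LGood Cfsg.Agent.Lib.Helper33LReach2 Cfsg.Agent.Lib.Helper33LWord
open Cfsg.Agent.Lib.Helper33LPat Cfsg.Agent.Lib.Helper33LFrame2 Cfsg.Agent.Lib.Helper33LBase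
open Cfsg.Agent.Lib.Helper33LMcL Cfsg.Agent.Lib.Helper33LHS Cfsg.Agent.Lib.Helper33LReach
open Cfsg.Agent.Lib.Helper33LCo2Thy Cfsg.Agent.Lib.Helper33LCent Cfsg.Agent.Lib.Helper33LCent2
open MulAction

open Cfsg.Agent.Lib.Helper33LO3D

namespace Cfsg.Agent.Lib.Helper33LO3CU

def w1 : ℕ := 0x110000000f0000000f0000000f0000000f0000000f0000000f000000110000000f000000110000001100000011000000110000000f0000000f0000000f0000000f0000000f000000110000000f0000000f0000000d0000000f0000000f
def w2 : ℕ := 0xf0000000f0000000f0000000f000000110000000f0000000f000000110000000f0000000f00000011000000110000000f0000000f0000000f0000000d0000000f00000011000000110000000f000000110000000f0000000f0000000f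
def w3 : ℕ := 0x1000000010000000120000001000000010000000100000000e00000010000000120000001000000010000000100000000e0000001000000010000000100000001000000010000000100000000e000000100000000e0000000e0000000e
def τs1 : List ℕ := [64, 64, 80, 72, 72]
def τs2 : List ℕ := [64, 64, 72, 80, 64]
def τs3 : List ℕ := [64, 64, 72, 80, 64]
def τp2 : List ℕ := [56, 64, 80, 72, 64, 64, 80, 64, 64, 72, 80]
def τp3 : List ℕ := [64, 72, 72, 64, 72, 72, 72, 64, 72, 72, 72, 56, 72, 72, 64, 64, 72, 72, 64, 64, 72, 72]
def sols : List (List ℕ) := [[0xe0000001200000010000000100000001000000010000000100000000e00000010000000100000001200000010000000100000001000000010000000100000001000000010000000100000000e000000100000000e0000000e0000000e], [0xe00000010000000100000000e000000100000001000000010000000120000000e000000100000000e000000100000001000000010000000100000001000000010000000100000000e0000001000000012000000100000000e00000010], [0xe00000010000000100000000e00000010000000100000001000000010000000100000000e0000000e0000000e000000100000001000000010000000100000001200000010000000100000001000000010000000100000000e00000012],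 [0xe0000000e00000010000000100000000e0000000e000000100000001000000010000000100000001000000012000000100000001000000010000000100000000e00000010000000100000001200000010000000100000000e00000010], [0xe0000000e000000100000001200000010000000100000001000000010000000100000001000000010000000100000001000000010000000100000000e0000000e0000001000000010000000100000000e000000120000000e00000010], [0xe0000001000000010000000100000001000000010000000100000000e0000001000000010000000100000001000000010000000100000000e00000012000000100000000e0000001200000010000000100000000e0000000e00000010], [0xe000000100000000e000000100000001000000012000000100000001000000010000000120000001000000010000000100000000e00000010000000100000001000000010000000100000000e00000010000000100000000e0000000e], [0xe000000100000000e00000010000000100000001000000012000000100000000e000000100000001000000010000000100000000e000000100000001000000010000000120000000e0000001000000010000000100000000e00000010], [0xe00000010000000120000001000000012000000100000000e00000010000000100000000e000000100000000e0000000e0000001000000010000000100000001000000010000000100000001000000010000000100000000e00000010],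 [0xe00000010000000100000001000000010000000100000000e00000010000000120000001000000010000000100000000e00000010000000120000000e000000100000001000000010000000100000000e000000100000000e00000010], [0xe0000001000000010000000100000000e0000000e00000010000000100000001000000010000000100000001000000012000000120000000e00000010000000100000000e000000100000001000000010000000100000000e00000010], [0x110000000f0000000f0000000f000000110000000f0000000d000000110000000f0000000f0000000f0000000f000000110000000f000000110000000f0000000f0000000f0000000f0000000f0000000f000000110000000f00000011], [0x110000000f0000000f0000000f0000000f0000000f000000110000000f0000000f00000011000000110000000f000000110000000f0000000f000000110000000f0000000f0000000f0000000d0000000f0000000f0000000f00000011], [0x110000000f0000000f0000000f0000000f0000000f0000000f000000110000000f000000110000001100000011000000110000000f0000000f0000000f0000000f0000000f000000110000000f0000000f0000000d0000000f0000000f], [0x110000000f0000000f000000110000000f0000000f0000000f0000000f0000000f0000000f00000011000000110000000f000000110000000d0000000f0000000f00000011000000110000000f0000000f0000000f0000000f0000000f],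 [0x1100000011000000110000000f0000000f0000000f000000110000000f0000000f000000110000000f0000000f0000000f0000000d0000000f000000110000000f0000000f0000000f0000000f000000110000000f0000000f0000000f], [0x1100000011000000110000000f0000000f0000000f0000000f0000000f000000110000000f0000000f0000000f0000000f000000110000000f0000000f0000000d0000000f0000000f000000110000000f000000110000000f0000000f], [0x110000000f0000000f000000110000000d000000110000000f0000000f000000110000000f0000000f0000000f0000000f000000110000000f0000000f0000000f0000000f00000011000000110000000f0000000f0000000f0000000f], [0x110000000f000000110000000f0000000f0000000f0000000f0000000f0000000f0000000f0000000f0000000f0000000f0000000f00000011000000110000000f0000000f0000000f000000110000000d000000110000000f00000011], [0x110000000f0000000f0000000f000000110000000f0000000f000000110000000f0000000d0000000f000000110000000f0000000f000000110000000f00000011000000110000000f0000000f0000000f0000000f0000000f0000000f], [0x110000000f0000000f0000001100000011000000110000000f0000000f0000000f0000000f0000000d0000000f0000000f0000000f0000000f0000000f00000011000000110000000f0000000f000000110000000f0000000f0000000f],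 [0x11000000110000000f0000000f0000000f00000011000000110000000f000000110000000f0000000f0000000f0000000f0000000f0000000f0000000f000000110000000f0000000d0000000f000000110000000f0000000f0000000f]]
def words : List (List ℕ) :=
  (List.range 11).flatMap (fun i => [List.replicate i PU, List.replicate i PU ++ [PT]])
def Bl : List ℕ := [0x110000000f000000110000000f0000000f0000000f0000000f0000000f0000000f0000000f0000000f0000000f0000000f0000000f00000011000000110000000f0000000f0000000f000000110000000d000000110000000f00000011, 0x11000000110000000f0000000f0000000f00000011000000110000000f000000110000000f0000000f0000000f0000000f0000000f0000000f0000000f000000110000000f0000000d0000000f000000110000000f0000000f0000000f, 0x110000000f0000000f000000110000000f0000000f0000000f0000000f0000000f0000000f00000011000000110000000f000000110000000d0000000f0000000f00000011000000110000000f0000000f0000000f0000000f0000000f, 0x110000000f0000000f0000000f000000110000000f0000000d000000110000000f0000000f0000000f0000000f000000110000000f000000110000000f0000000f0000000f0000000f0000000f0000000f000000110000000f00000011,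 0x1100000011000000110000000f0000000f0000000f000000110000000f0000000f000000110000000f0000000f0000000f0000000d0000000f000000110000000f0000000f0000000f0000000f000000110000000f0000000f0000000f, 0x110000000f0000000f000000110000000d000000110000000f0000000f000000110000000f0000000f0000000f0000000f000000110000000f0000000f0000000f0000000f00000011000000110000000f0000000f0000000f0000000f, 0x110000000f0000000f0000000f000000110000000f0000000f000000110000000f0000000d0000000f000000110000000f0000000f000000110000000f00000011000000110000000f0000000f0000000f0000000f0000000f0000000f, 0x110000000f0000000f0000000f0000000f0000000f000000110000000f0000000f00000011000000110000000f000000110000000f0000000f000000110000000f0000000f0000000f0000000d0000000f0000000f0000000f00000011, 0x1100000011000000110000000f0000000f0000000f0000000f0000000f000000110000000f0000000f0000000f0000000f000000110000000f0000000f0000000d0000000f0000000f000000110000000f000000110000000f0000000f, 0x110000000f0000000f0000001100000011000000110000000f0000000f0000000f0000000f0000000d0000000f0000000f0000000f0000000f0000000f00000011000000110000000f0000000f000000110000000f0000000f0000000f,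 0x110000000f0000000f0000000f0000000f0000000f0000000f000000110000000f000000110000001100000011000000110000000f0000000f0000000f0000000f0000000f000000110000000f0000000f0000000d0000000f0000000f, 0xf0000000f0000000f0000000f0000000f0000000f0000000f0000000f0000000d000000110000000f0000000f000000110000000f00000011000000110000000f0000000f000000110000000f0000000f000000110000000f00000011, 0xf00000011000000110000000f0000000f0000000f000000110000000f000000110000000f0000000f0000000f0000000f0000000f000000110000000f0000000f0000000d0000000f00000011000000110000000f0000000f0000000f, 0xf0000000f0000000f000000110000000f00000011000000110000000f0000000f0000000f0000000f0000000f0000000d000000110000000f0000000f0000001100000011000000110000000f0000000f0000000f0000000f0000000f, 0xf0000000f0000000d0000000f000000110000000f0000000f000000110000000f0000000f00000011000000110000001100000011000000110000000f0000000f0000000f0000000f0000000f0000000f0000000f0000000f0000000f, 0xf0000000f000000110000000f000000110000000d000000110000000f0000000f000000110000000f0000000f0000000f0000000f0000000f000000110000000f0000000f0000000f0000000f0000000f000000110000000f00000011,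 0xf000000110000000f0000000f0000000f000000110000000f0000000f00000011000000110000000f0000000d0000000f000000110000000f0000000f0000000f0000000f0000000f00000011000000110000000f0000000f0000000f, 0xf0000000f0000000f00000011000000110000000f0000000f0000000f0000000f0000000f0000000f000000110000000f0000000f0000000f0000000f000000110000001100000011000000110000000f0000000f0000000f0000000d, 0xf0000000d0000000f0000000f0000000f0000000f0000000f000000110000000f00000011000000110000000f000000110000000f000000110000000f000000110000000f0000000f0000000f0000000f0000000f0000000f00000011, 0xf00000011000000110000000d0000000f0000000f000000110000000f0000000f0000000f000000110000000f0000000f0000000f0000000f000000110000000f0000000f0000000f000000110000000f000000110000000f0000000f, 0xf0000000f0000000f000000110000000f000000110000000f0000000d000000110000000f0000000f0000000f0000000f000000110000000f0000000f000000110000000f0000000f0000000f00000011000000110000000f0000000f, 0xf0000000f0000000f0000000f000000110000000f0000000f000000110000000f0000000f00000011000000110000000f0000000f0000000f0000000d0000000f00000011000000110000000f000000110000000f0000000f0000000f,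 0x100000000e0000000e000000100000001000000012000000100000001000000010000000100000001000000010000000100000000e00000010000000100000000e0000001200000010000000100000000e000000100000000e00000010, 0x1000000010000000100000000e0000000e0000000e000000100000001000000010000000100000000e000000120000001200000010000000100000001000000010000000100000000e0000001000000010000000100000000e00000010, 0x100000001000000012000000100000001000000010000000100000000e000000100000000e000000100000000e00000010000000100000000e0000001000000010000000100000001000000010000000100000000e0000000e00000012, 0x1000000012000000100000001000000010000000120000000e00000010000000100000001000000010000000100000001000000010000000100000000e0000001000000010000000100000000e0000000e000000100000000e0000000e, 0x100000000e0000001000000012000000100000001000000010000000100000000e000000100000001000000012000000100000000e00000010000000100000000e000000100000000e0000001000000010000000100000000e00000010, 0x1000000010000000100000000e0000000e00000010000000100000001200000010000000100000000e0000001000000010000000100000000e00000010000000100000000e000000100000001000000010000000100000000e00000012,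 0x1000000012000000100000001000000010000000100000000e0000000e000000100000000e00000010000000100000000e00000010000000100000001200000010000000100000001000000010000000100000000e0000000e00000010, 0x10000000100000000e000000120000001000000010000000100000001000000012000000100000001000000010000000100000000e000000100000000e0000001000000010000000100000000e0000000e000000100000000e00000010, 0x100000001000000010000000100000000e0000000e00000010000000120000000e000000100000001000000010000000100000001000000010000000100000000e000000120000000e0000001000000010000000100000000e00000010, 0x1000000010000000100000001000000010000000100000001000000010000000100000000e0000000e0000000e00000012000000100000000e00000012000000100000000e000000100000001000000010000000100000000e00000010, 0x1000000010000000120000001000000010000000100000000e00000010000000120000001000000010000000100000000e0000001000000010000000100000001000000010000000100000000e000000100000000e0000000e0000000e]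
def N : ℤ := 2
def Cs : List (List ℤ) := [[1, 0, 3, 9, 2, (-5), (-4), 2, (-4), (-5), (-1), 2, 3, 6, (-1), (-4), 3, 3, (-4), (-1), (-1), (-1), (-3), 3, 0, 0, 0, 0, 0, 0, 0, 0, 0, 0], [9, (-8), (-1), 13, 6, (-1), (-8), 6, (-8), (-1), (-1), 6, 3, 10, 3, (-4), 3, 3, (-4), 3, 3, 3, (-11), 7, 0, 0, 0, 0, 0, 0, 0, 0, 0, 0], [(-3), 4, 3, (-11), (-2), 3, 8, (-6), 4, 3, (-1), (-6), (-1), (-10), (-1), 4, (-1), (-5), 4, (-1), (-1), (-1), 9, (-5), 0, 0, 0, 0, 0, 0, 0, 0, 0, 0], [(-3), 4, (-1), (-7), (-6), 3, 8, (-2), 4, (-1), 3, (-6), (-1), (-6), (-5), 4, (-1), (-1), 0, (-1), (-1), (-1), 9, (-5), 0, 0, 0, 0, 0, 0, 0, 0, 0, 0], [(-3), 8, 3, (-7), (-6), (-1), 8, (-6), 4, (-1), 3, (-6), (-1), (-6), (-5), 4, (-1), (-1), 4, (-1), (-1), (-5), 9, (-5), 0, 0, 0, 0, 0, 0, 0, 0, 0, 0], [(-3), 4, (-1), (-11), (-2), (-1), 8, (-2), 8, (-1), (-1), (-2), (-1), (-6), (-1), 0, (-1), (-1), 4, (-5), (-1), (-1), 9, (-5), 0, 0, 0, 0, 0, 0, 0, 0, 0, 0], [1, (-4), (-1), 5, (-2), (-1), (-4), 6, 0, 3, (-1), (-2), 3, 2, (-1), (-4), (-1), 3, 0, 3, (-1), (-1), (-3), 3, 0, 0, 0, 0, 0, 0, 0, 0, 0, 0], [(-3),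 4, 3, (-7), (-2), (-1), 4, (-2), 4, (-1), (-1), (-2), (-1), (-6), (-1), 0, (-1), (-1), 4, (-1), (-1), (-1), 5, (-5), 0, 0, 0, 0, 0, 0, 0, 0, 0, 0], [1, (-4), (-5), 5, 2, 3, 0, 6, (-4), (-5), (-1), 2, (-1), 2, (-1), 0, 3, 3, (-4), (-1), 3, 3, (-7), 3, 0, 0, 0, 0, 0, 0, 0, 0, 0, 0], [(-3), 8, (-1), (-11), (-6), 3, 4, (-2), 8, 3, (-1), (-6), (-1), (-6), (-1), 4, (-5), (-1), 4, (-1), (-5), (-1), 9, (-5), 0, 0, 0, 0, 0, 0, 0, 0, 0, 0], [(-3), 4, (-1), (-7), (-6), (-1), 4, (-2), 4, 3, 3, (-2), (-1), (-6), (-1), 4, (-1), (-1), 0, (-1), (-1), (-1), 5, (-5), 0, 0, 0, 0, 0, 0, 0, 0, 0, 0], [1, (-8), (-1), 5, 2, (-5), (-4), 2, 0, 3, 3, 2, 3, 6, (-1), (-4), (-1), (-1), 0, 3, 3, (-1), (-7), 3, 0, 0, 0, 0, 0, 0, 0, 0, 0, 0], [1, 0, 3, 5, (-2), (-1), (-4), 2, (-8), (-1), (-1), 6, 3, 2, (-1), 0, 3, (-1), (-4), (-1), (-1), 3, (-3), 3, 0, 0, 0, 0, 0, 0, 0, 0, 0, 0], [(-3), 8, (-1), (-7), (-2), 3, 4, (-6), 8, (-1), (-1), (-6), (-5), (-6), (-1), 4, (-5), (-1), 4, (-1), (-1), (-1), 9, (-5), 0, 0, 0, 0, 0, 0, 0, 0, 0, 0], [(-3), 8, 3, (-11), (-6), 3, 4, (-6), 4, 3, (-1), (-2), (-1), (-10),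 (-1), 4, (-1), (-1), 4, (-1), (-5), (-1), 9, (-5), 0, 0, 0, 0, 0, 0, 0, 0, 0, 0], [1, (-4), (-1), 1, 2, (-1), 0, 6, 0, (-1), (-5), 2, (-1), 2, (-1), (-4), 3, 3, 0, (-1), (-1), 3, (-3), 3, 0, 0, 0, 0, 0, 0, 0, 0, 0, 0], [1, (-8), (-1), 5, 6, 3, 0, 2, (-8), (-1), (-1), 2, (-1), 2, 3, 0, 3, (-1), (-4), 3, 3, (-1), (-7), 3, 0, 0, 0, 0, 0, 0, 0, 0, 0, 0], [(-3), 4, 3, (-11), (-6), (-1), 8, (-6), 8, 3, 3, (-6), (-1), (-6), (-1), 4, (-1), (-5), 4, (-1), (-1), (-5), 9, (-5), 0, 0, 0, 0, 0, 0, 0, 0, 0, 0], [1, 0, (-1), 1, 2, (-1), (-4), (-2), (-4), (-1), 3, 6, (-1), 2, 3, 0, (-1), (-1), (-4), (-1), 3, 3, (-3), 3, 0, 0, 0, 0, 0, 0, 0, 0, 0, 0], [(-3), 8, (-1), (-11), (-2), (-1), 4, (-6), 8, (-1), 3, (-2), (-5), (-6), (-1), 4, (-1), (-1), 4, (-5), (-1), (-1), 9, (-5), 0, 0, 0, 0, 0, 0, 0, 0, 0, 0], [1, (-4), (-1), 9, 6, 3, (-4), (-2), (-4), (-1), (-1), (-2), (-1), 6, 3, 0, (-1), (-1), 0, 3, (-1), (-1), (-7), 3, 0, 0, 0, 0, 0, 0, 0, 0, 0, 0], [1, (-4), (-5), 5, 2, (-1), (-8), 2, (-4), 3, 3, 6, (-1), 6, 3, (-4), (-1), (-1), (-4), 3, 3, 3, (-7), 3, 0, 0, 0, 0, 0, 0, 0, 0, 0, 0],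 [1, (-4), 3, 9, 6, (-1), (-8), 2, (-4), (-1), (-5), 2, 3, 6, 3, (-4), (-1), 3, 0, (-1), (-1), (-1), (-7), 3, 0, 0, 0, 0, 0, 0, 0, 0, 0, 0], [(-7), 16, 3, (-23), (-10), 3, 16, (-10), 16, 3, 3, (-10), (-5), (-18), (-5), 8, (-5), (-5), 8, (-5), (-5), (-5), 21, (-13), 0, 0, 0, 0, 0, 0, 0, 0, 0, 0]]

theorem w_ok : [w1, w2, w3].all (fun w => inR w && isLeech w && normB 32 w &&
    Helper33LLm16.cnd w) = true := by decide +kernel
theorem ref1 : refChk PU 10 [] w1 [] τs1 = true := by decide +kernel
theorem ref2 : refChk PU 10 [w1] w2 τp2 τs2 = true := by decide +kernel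
theorem ref3 : refChk PU 10 [w2, w1] w3 τp3 τs3 = true := by decide +kernel
theorem st1_0 : stageChk PU 10 ((Helper33LLm16.lst.drop (0 * 500)).take 500) [] τs1 [[]] sols = true := by
  decide +kernel
theorem st1_1 : stageChk PU 10 ((Helper33LLm16.lst.drop (1 * 500)).take 500) [] τs1 [[]] sols = true := by
  decide +kernel
theorem st1_2 : stageChk PU 10 ((Helper33LLm16.lst.drop (2 * 500)).take 500) [] τs1 [[]] sols = true := by
  decide +kernel
theorem st1_3 : stageChk PU 10 ((Helper33LLm16.lst.drop (3 * 500)).take 500) [] τs1 [[]] sols = true := by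
  decide +kernel
theorem st1_4 : stageChk PU 10 ((Helper33LLm16.lst.drop (4 * 500)).take 500) [] τs1 [[]] sols = true := by
  decide +kernel
theorem st1_5 : stageChk PU 10 ((Helper33LLm16.lst.drop (5 * 500)).take 500) [] τs1 [[]] sols = true := by
  decide +kernel
theorem st1_6 : stageChk PU 10 ((Helper33LLm16.lst.drop (6 * 500)).take 500) [] τs1 [[]] sols = true := by
  decide +kernel
theorem st1_7 : stageChk PU 10 ((Helper33LLm16.lst.drop (7 * 500)).take 500) [] τs1 [[]] sols = true := by
  decide +kernel
theorem st1_8 : stageChk PU 10 ((Helper33LLm16.lst.drop (8 * 500)).take 500) [] τs1 [[]] sols = true := by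
  decide +kernel
theorem st1_9 : stageChk PU 10 ((Helper33LLm16.lst.drop (9 * 500)).take 500) [] τs1 [[]] sols = true := by
  decide +kernel
theorem st1_10 : stageChk PU 10 ((Helper33LLm16.lst.drop (10 * 500)).take 500) [] τs1 [[]] sols = true := by
  decide +kernel
theorem st1_11 : stageChk PU 10 ((Helper33LLm16.lst.drop (11 * 500)).take 500) [] τs1 [[]] sols = true := by
  decide +kernel
theorem st1_12 : stageChk PU 10 ((Helper33LLm16.lst.drop (12 * 500)).take 500) [] τs1 [[]] sols = true := by
  decide +kernel
theorem st1_13 : stageChk PU 10 ((Helper33LLm16.lst.drop (13 * 500)).take 500) [] τs1 [[]] sols = true := by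
  decide +kernel
theorem st1_14 : stageChk PU 10 ((Helper33LLm16.lst.drop (14 * 500)).take 500) [] τs1 [[]] sols = true := by
  decide +kernel
theorem st1_15 : stageChk PU 10 ((Helper33LLm16.lst.drop (15 * 500)).take 500) [] τs1 [[]] sols = true := by
  decide +kernel
theorem st1_16 : stageChk PU 10 ((Helper33LLm16.lst.drop (16 * 500)).take 500) [] τs1 [[]] sols = true := by
  decide +kernel
theorem st1_17 : stageChk PU 10 ((Helper33LLm16.lst.drop (17 * 500)).take 500) [] τs1 [[]] sols = true := by
  decide +kernel
theorem st1_18 : stageChk PU 10 ((Helper33LLm16.lst.drop (18 * 500)).take 500) [] τs1 [[]] sols = true := by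
  decide +kernel
theorem st1_19 : stageChk PU 10 ((Helper33LLm16.lst.drop (19 * 500)).take 500) [] τs1 [[]] sols = true := by
  decide +kernel
theorem st1_20 : stageChk PU 10 ((Helper33LLm16.lst.drop (20 * 500)).take 500) [] τs1 [[]] sols = true := by
  decide +kernel
theorem st1_21 : stageChk PU 10 ((Helper33LLm16.lst.drop (21 * 500)).take 500) [] τs1 [[]] sols = true := by
  decide +kernel
theorem st1_22 : stageChk PU 10 ((Helper33LLm16.lst.drop (22 * 500)).take 500) [] τs1 [[]] sols = true := by
  decide +kernel
theorem st1 : stageChk PU 10 Helper33LLm16.lst [] τs1 [[]] sols = true := by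
  apply stageChk_of_chunks PU 10 500 23 _ _ _ _ _ (by rw [len11178]; norm_num) (by norm_num)
  intro j hj
  interval_cases j
  · exact st1_0
  · exact st1_1
  · exact st1_2
  · exact st1_3
  · exact st1_4
  · exact st1_5
  · exact st1_6
  · exact st1_7
  · exact st1_8
  · exact st1_9
  · exact st1_10
  · exact st1_11
  · exact st1_12
  · exact st1_13
  · exact st1_14
  · exact st1_15
  · exact st1_16
  · exact st1_17
  · exact st1_18
  · exact st1_19
  · exact st1_20
  · exact st1_21
  · exact st1_22
theorem red1 : redChk sols [[w1]] words = true := by decide +kernel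
theorem st2_0 : stageChk PU 10 ((Helper33LLm16.lst.drop (0 * 500)).take 500) τp2 τs2 [[w1]] [[w2, w1]] = true := by
  decide +kernel
theorem st2_1 : stageChk PU 10 ((Helper33LLm16.lst.drop (1 * 500)).take 500) τp2 τs2 [[w1]] [[w2, w1]] = true := by
  decide +kernel
theorem st2_2 : stageChk PU 10 ((Helper33LLm16.lst.drop (2 * 500)).take 500) τp2 τs2 [[w1]] [[w2, w1]] = true := by
  decide +kernel
theorem st2_3 : stageChk PU 10 ((Helper33LLm16.lst.drop (3 * 500)).take 500) τp2 τs2 [[w1]] [[w2, w1]] = true := by
  decide +kernel
theorem st2_4 : stageChk PU 10 ((Helper33LLm16.lst.drop (4 * 500)).take 500) τp2 τs2 [[w1]] [[w2, w1]] = true := by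
  decide +kernel
theorem st2_5 : stageChk PU 10 ((Helper33LLm16.lst.drop (5 * 500)).take 500) τp2 τs2 [[w1]] [[w2, w1]] = true := by
  decide +kernel
theorem st2_6 : stageChk PU 10 ((Helper33LLm16.lst.drop (6 * 500)).take 500) τp2 τs2 [[w1]] [[w2, w1]] = true := by
  decide +kernel
theorem st2_7 : stageChk PU 10 ((Helper33LLm16.lst.drop (7 * 500)).take 500) τp2 τs2 [[w1]] [[w2, w1]] = true := by
  decide +kernel
theorem st2_8 : stageChk PU 10 ((Helper33LLm16.lst.drop (8 * 500)).take 500) τp2 τs2 [[w1]] [[w2, w1]] = true := by
  decide +kernel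
theorem st2_9 : stageChk PU 10 ((Helper33LLm16.lst.drop (9 * 500)).take 500) τp2 τs2 [[w1]] [[w2, w1]] = true := by
  decide +kernel
theorem st2_10 : stageChk PU 10 ((Helper33LLm16.lst.drop (10 * 500)).take 500) τp2 τs2 [[w1]] [[w2, w1]] = true := by
  decide +kernel
theorem st2_11 : stageChk PU 10 ((Helper33LLm16.lst.drop (11 * 500)).take 500) τp2 τs2 [[w1]] [[w2, w1]] = true := by
  decide +kernel
theorem st2_12 : stageChk PU 10 ((Helper33LLm16.lst.drop (12 * 500)).take 500) τp2 τs2 [[w1]] [[w2, w1]] = true := by
  decide +kernel
theorem st2_13 : stageChk PU 10 ((Helper33LLm16.lst.drop (13 * 500)).take 500) τp2 τs2 [[w1]] [[w2, w1]] = true := by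
  decide +kernel
theorem st2_14 : stageChk PU 10 ((Helper33LLm16.lst.drop (14 * 500)).take 500) τp2 τs2 [[w1]] [[w2, w1]] = true := by
  decide +kernel
theorem st2_15 : stageChk PU 10 ((Helper33LLm16.lst.drop (15 * 500)).take 500) τp2 τs2 [[w1]] [[w2, w1]] = true := by
  decide +kernel
theorem st2_16 : stageChk PU 10 ((Helper33LLm16.lst.drop (16 * 500)).take 500) τp2 τs2 [[w1]] [[w2, w1]] = true := by
  decide +kernel
theorem st2_17 : stageChk PU 10 ((Helper33LLm16.lst.drop (17 * 500)).take 500) τp2 τs2 [[w1]] [[w2, w1]] = true := by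
  decide +kernel
theorem st2_18 : stageChk PU 10 ((Helper33LLm16.lst.drop (18 * 500)).take 500) τp2 τs2 [[w1]] [[w2, w1]] = true := by
  decide +kernel
theorem st2_19 : stageChk PU 10 ((Helper33LLm16.lst.drop (19 * 500)).take 500) τp2 τs2 [[w1]] [[w2, w1]] = true := by
  decide +kernel
theorem st2_20 : stageChk PU 10 ((Helper33LLm16.lst.drop (20 * 500)).take 500) τp2 τs2 [[w1]] [[w2, w1]] = true := by
  decide +kernel
theorem st2_21 : stageChk PU 10 ((Helper33LLm16.lst.drop (21 * 500)).take 500) τp2 τs2 [[w1]] [[w2, w1]] = true := by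
  decide +kernel
theorem st2_22 : stageChk PU 10 ((Helper33LLm16.lst.drop (22 * 500)).take 500) τp2 τs2 [[w1]] [[w2, w1]] = true := by
  decide +kernel
theorem st2 : stageChk PU 10 Helper33LLm16.lst τp2 τs2 [[w1]] [[w2, w1]] = true := by
  apply stageChk_of_chunks PU 10 500 23 _ _ _ _ _ (by rw [len11178]; norm_num) (by norm_num)
  intro j hj
  interval_cases j
  · exact st2_0
  · exact st2_1
  · exact st2_2
  · exact st2_3
  · exact st2_4
  · exact st2_5
  · exact st2_6
  · exact st2_7
  · exact st2_8
  · exact st2_9
  · exact st2_10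
  · exact st2_11
  · exact st2_12
  · exact st2_13
  · exact st2_14
  · exact st2_15
  · exact st2_16
  · exact st2_17
  · exact st2_18
  · exact st2_19
  · exact st2_20
  · exact st2_21
  · exact st2_22
theorem st3_0 : stageChk PU 10 ((Helper33LLm16.lst.drop (0 * 500)).take 500) τp3 τs3 [[w2, w1]] [[w3, w2, w1]] = true := by
  decide +kernel
theorem st3_1 : stageChk PU 10 ((Helper33LLm16.lst.drop (1 * 500)).take 500) τp3 τs3 [[w2, w1]] [[w3, w2, w1]] = true := by
  decide +kernel
theorem st3_2 : stageChk PU 10 ((Helper33LLm16.lst.drop (2 * 500)).take 500) τp3 τs3 [[w2, w1]] [[w3, w2, w1]] = true := by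
  decide +kernel
theorem st3_3 : stageChk PU 10 ((Helper33LLm16.lst.drop (3 * 500)).take 500) τp3 τs3 [[w2, w1]] [[w3, w2, w1]] = true := by
  decide +kernel
theorem st3_4 : stageChk PU 10 ((Helper33LLm16.lst.drop (4 * 500)).take 500) τp3 τs3 [[w2, w1]] [[w3, w2, w1]] = true := by
  decide +kernel
theorem st3_5 : stageChk PU 10 ((Helper33LLm16.lst.drop (5 * 500)).take 500) τp3 τs3 [[w2, w1]] [[w3, w2, w1]] = true := by
  decide +kernel
theorem st3_6 : stageChk PU 10 ((Helper33LLm16.lst.drop (6 * 500)).take 500) τp3 τs3 [[w2, w1]] [[w3, w2, w1]] = true := by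
  decide +kernel
theorem st3_7 : stageChk PU 10 ((Helper33LLm16.lst.drop (7 * 500)).take 500) τp3 τs3 [[w2, w1]] [[w3, w2, w1]] = true := by
  decide +kernel
theorem st3_8 : stageChk PU 10 ((Helper33LLm16.lst.drop (8 * 500)).take 500) τp3 τs3 [[w2, w1]] [[w3, w2, w1]] = true := by
  decide +kernel
theorem st3_9 : stageChk PU 10 ((Helper33LLm16.lst.drop (9 * 500)).take 500) τp3 τs3 [[w2, w1]] [[w3, w2, w1]] = true := by
  decide +kernel
theorem st3_10 : stageChk PU 10 ((Helper33LLm16.lst.drop (10 * 500)).take 500) τp3 τs3 [[w2, w1]] [[w3, w2, w1]] = true := by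
  decide +kernel
theorem st3_11 : stageChk PU 10 ((Helper33LLm16.lst.drop (11 * 500)).take 500) τp3 τs3 [[w2, w1]] [[w3, w2, w1]] = true := by
  decide +kernel
theorem st3_12 : stageChk PU 10 ((Helper33LLm16.lst.drop (12 * 500)).take 500) τp3 τs3 [[w2, w1]] [[w3, w2, w1]] = true := by
  decide +kernel
theorem st3_13 : stageChk PU 10 ((Helper33LLm16.lst.drop (13 * 500)).take 500) τp3 τs3 [[w2, w1]] [[w3, w2, w1]] = true := by
  decide +kernel
theorem st3_14 : stageChk PU 10 ((Helper33LLm16.lst.drop (14 * 500)).take 500) τp3 τs3 [[w2, w1]] [[w3, w2, w1]] = true := by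
  decide +kernel
theorem st3_15 : stageChk PU 10 ((Helper33LLm16.lst.drop (15 * 500)).take 500) τp3 τs3 [[w2, w1]] [[w3, w2, w1]] = true := by
  decide +kernel
theorem st3_16 : stageChk PU 10 ((Helper33LLm16.lst.drop (16 * 500)).take 500) τp3 τs3 [[w2, w1]] [[w3, w2, w1]] = true := by
  decide +kernel
theorem st3_17 : stageChk PU 10 ((Helper33LLm16.lst.drop (17 * 500)).take 500) τp3 τs3 [[w2, w1]] [[w3, w2, w1]] = true := by
  decide +kernel
theorem st3_18 : stageChk PU 10 ((Helper33LLm16.lst.drop (18 * 500)).take 500) τp3 τs3 [[w2, w1]] [[w3, w2, w1]] = true := by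
  decide +kernel
theorem st3_19 : stageChk PU 10 ((Helper33LLm16.lst.drop (19 * 500)).take 500) τp3 τs3 [[w2, w1]] [[w3, w2, w1]] = true := by
  decide +kernel
theorem st3_20 : stageChk PU 10 ((Helper33LLm16.lst.drop (20 * 500)).take 500) τp3 τs3 [[w2, w1]] [[w3, w2, w1]] = true := by
  decide +kernel
theorem st3_21 : stageChk PU 10 ((Helper33LLm16.lst.drop (21 * 500)).take 500) τp3 τs3 [[w2, w1]] [[w3, w2, w1]] = true := by
  decide +kernel
theorem st3_22 : stageChk PU 10 ((Helper33LLm16.lst.drop (22 * 500)).take 500) τp3 τs3 [[w2, w1]] [[w3, w2, w1]] = true := by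
  decide +kernel
theorem st3 : stageChk PU 10 Helper33LLm16.lst τp3 τs3 [[w2, w1]] [[w3, w2, w1]] = true := by
  apply stageChk_of_chunks PU 10 500 23 _ _ _ _ _ (by rw [len11178]; norm_num) (by norm_num)
  intro j hj
  interval_cases j
  · exact st3_0
  · exact st3_1
  · exact st3_2
  · exact st3_3
  · exact st3_4
  · exact st3_5
  · exact st3_6
  · exact st3_7
  · exact st3_8
  · exact st3_9
  · exact st3_10
  · exact st3_11
  · exact st3_12
  · exact st3_13
  · exact st3_14
  · exact st3_15
  · exact st3_16
  · exact st3_17
  · exact st3_18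
  · exact st3_19
  · exact st3_20
  · exact st3_21
  · exact st3_22
theorem hB : beqL (preR PU 10 [w3, w2, w1] []) Bl = true := by decide +kernel
theorem h0 : Bl.all (fun z => !(Nat.beq z 0)) = true := by decide +kernel
theorem span : spanChk (u0c :: Bl) N Cs = true := by decide +kernel

theorem goodU : goodP PU = true ∧ stepOK PU u0c u0c = true := by
  have := List.all_eq_true.1 good_all PU (by simp)
  rwa [Bool.and_eq_true] at this

theorem goodT : goodP PT = true ∧ stepOK PT u0c u0c = true := by
  have := List.all_eq_true.1 good_all PT (by simp)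
  rwa [Bool.and_eq_true] at this

theorem wk (w : ℕ) (hw : w ∈ [w1, w2, w3]) :
    (inR w && isLeech w && normB 32 w) = true ∧ Helper33LLm16.cnd w = true := by
  have := List.all_eq_true.1 w_ok w hw
  rwa [Bool.and_eq_true] at this

theorem letters : ∀ z ∈ words, ∀ P ∈ z, P = PU ∨ P = PT := by
  intro z hz P hP
  obtain ⟨i, _, hz⟩ := List.mem_flatMap.1 hz
  simp only [List.mem_cons, List.not_mem_nil, or_false] at hz
  rcases hz with rfl | rfl
  · left; exact List.eq_of_mem_replicate hP
  · rcases List.mem_append.1 hP with hP | hP
    · left; exact List.eq_of_mem_replicate hP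
    · right; simpa using hP

theorem centU (c : ↥Co0) (hc : c ∈ Zc PU) : ∃ z ∈ words, wprod z * c = 1 := by
  obtain ⟨hc1, hc2⟩ := mem_Zc.1 hc
  have h1 := stage_spec goodU.1 hc1 hc2 (wk w1 (by simp)).1 (wk w1 (by simp)).2 ref1 st1
    ⟨[], by simp, List.Forall₂.nil⟩
  obtain ⟨z, hz, h2⟩ := red_spec (W := [w1]) (by
    intro z hz P hP
    rcases letters z hz P hP with rfl | rfl
    · exact goodU.1
    · exact goodT.1) red1 h1
  have hz' : wprod z ∈ Zc PU := wprod_mem (by
    intro P hP
    rcases letters z hz P hP with rfl | rfl
    · exact kok_Zc_self goodU.1 goodU.2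
    · exact kok_Zc goodU.1 goodT.1 rel_TU goodT.2)
  have hc' := Subgroup.mul_mem _ hz' hc
  obtain ⟨hd1, hd2⟩ := mem_Zc.1 hc'
  have h3 := stage_spec goodU.1 hd1 hd2 (wk w2 (by simp)).1 (wk w2 (by simp)).2 ref2 st2 h2
  have h4 := stage_spec goodU.1 hd1 hd2 (wk w3 (by simp)).1 (wk w3 (by simp)).2 ref3 st3 h3
  obtain ⟨M', hM', h5⟩ := h4
  simp only [List.mem_cons, List.not_mem_nil, or_false] at hM'
  subst hM'
  exact ⟨z, hz, cent_final goodU.1 hc' h5 hB h0 N (by decide) Cs span⟩

theorem inv_chk : words.all (fun z => beqL z [] || beqL z [PT] || notOne (z ++ z)) = true := by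
  decide +kernel

end Cfsg.Agent.Lib.Helper33LO3CU
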