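import Mathlib
import Cfsg.Prelude.Def_KGroupFacts

/-!
# Abstract lemmas on outer automorphism groups (helper64)
-/

set_option autoImplicit false

namespace Cfsg.Agent.Helper64J3

/-- `Out` has order two as soon as one non-inner automorphism represents all of them. -/
theorem card_out_eq_two {Q : Type*} [Group Q] (σ : MulAut Q) (hσ : σ ∉ Cfsg.Inn Q)
    (h : ∀ φ : MulAut Q, φ ∈ Cfsg.Inn Q ∨ σ⁻¹ * φ ∈ Cfsg.Inn Q) : Nat.card (Cfsg.Out Q) = 2 := by
  show (Cfsg.Inn Q).index = 2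
  rw [Subgroup.index_eq_two_iff]
  refine ⟨σ, fun φ => ?_⟩
  by_cases hφ : φ ∈ Cfsg.Inn Q
  · refine Or.inr ⟨hφ, fun h1 => hσ ?_⟩
    have := (Cfsg.Inn Q).mul_mem ((Cfsg.Inn Q).inv_mem hφ) h1
    rwa [inv_mul_cancel_left] at this
  · refine Or.inl ⟨?_, hφ⟩
    rcases h (φ * σ) with h1 | h1
    · exact h1
    · exfalso
      apply hφ
      have h2 := (Cfsg.innNormal Q).conj_mem _ h1 σ
      have h3 : σ * (σ⁻¹ * (φ * σ)) * σ⁻¹ = φ := by group
      rwa [h3] at h2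

/-- an element of order `p` is conjugate into any subgroup whose order has the full `p`-part. -/
theorem exists_conj_mem_of_pow {G : Type*} [Group G] [Finite G] (p : ℕ) [Fact p.Prime]
    (C : Subgroup G) (hC : (Nat.card C).factorization p = (Nat.card G).factorization p)
    (u : G) (hu : u ^ p = 1) : ∃ g : G, g * u * g⁻¹ ∈ C := by
  obtain ⟨P⟩ : Nonempty (Sylow p C) := inferInstance
  have hP : Nat.card (P : Subgroup C) = p ^ (Nat.card G).factorization p := by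
    rw [← hC]; exact P.card_eq_multiplicity
  let P' : Subgroup G := (P : Subgroup C).map C.subtype
  have hP' : Nat.card P' = p ^ (Nat.card G).factorization p := by
    rw [← hP]
    exact Nat.card_congr
      ((P : Subgroup C).equivMapOfInjective C.subtype (Subgroup.subtype_injective C)).symm.toEquiv
  let S : Sylow p G := Sylow.ofCard P' hP'
  have hz : IsPGroup p (Subgroup.zpowers u) := by
    intro ⟨y, hy⟩
    refine ⟨1, ?_⟩
    obtain ⟨n, rfl⟩ := Subgroup.mem_zpowers_iff.mp hy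
    apply Subtype.ext
    show (u ^ n) ^ (p ^ 1) = 1
    rw [pow_one, ← zpow_natCast, ← zpow_mul, mul_comm, zpow_mul, zpow_natCast, hu, one_zpow]
  obtain ⟨R, hR⟩ := hz.exists_le_sylow
  obtain ⟨g, hg⟩ := MulAction.exists_smul_eq G R S
  refine ⟨g, ?_⟩
  have h1 : u ∈ (R : Subgroup G) := hR (Subgroup.mem_zpowers u)
  have h2 : g * u * g⁻¹ ∈ ((g • R : Sylow p G) : Subgroup G) := by
    rw [Sylow.coe_subgroup_smul]
    exact ⟨u, h1, rfl⟩
  rw [hg] at h2
  obtain ⟨c, -, hc⟩ := (h2 : g * u * g⁻¹ ∈ P')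
  rw [← hc]
  exact c.2

theorem mulAut_eq_one_of_closure {Q : Type*} [Group Q] (x a : Q)
    (hgen : Subgroup.closure {x, a} = ⊤) (φ : MulAut Q) (hx : φ x = x) (ha : φ a = a) : φ = 1 := by
  have h : φ.toMonoidHom = MonoidHom.id Q := by
    apply MonoidHom.eq_of_eqOn_dense hgen
    rintro y (rfl | rfl)
    · exact hx
    · exact ha
  ext y
  exact DFunLike.congr_fun h y

theorem num17 : ∀ k < 17, k ≠ 0 → ∃ i < 8, (k * 2 ^ i) % 17 = 1 ∨ (k * 2 ^ i) % 17 = 3 := by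
  decide

/-- reduction of the computation of `Out` to automorphisms fixing an element of order 17. -/
theorem aut_dichotomy {Q : Type*} [Group Q] [Finite Q] (x a b x2 : Q) (σ : MulAut Q)
    (hgen : Subgroup.closure {x, a} = ⊤)
    (h17 : (Nat.card Q).factorization 17 = 1) (ha : orderOf a = 17)
    (hb : b * a * b⁻¹ = a ^ 2)
    (hσa : σ a = a) (hσx : σ x = x2)
    (key1 : ∀ φ : MulAut Q, φ a = a →
      ∃ j : ℕ, a ^ j * x = φ x * a ^ j ∨ a ^ j * x2 = φ x * a ^ j)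
    (key3 : ∀ φ : MulAut Q, φ a ≠ a ^ 3) (φ : MulAut Q) :
    φ ∈ Cfsg.Inn Q ∨ σ⁻¹ * φ ∈ Cfsg.Inn Q := by
  have : Fact (Nat.Prime 17) := ⟨by norm_num⟩
  have hinn : ∀ g : Q, MulAut.conj g ∈ Cfsg.Inn Q := fun g => ⟨g, rfl⟩
  have ha17 : a ^ 17 = 1 := by rw [← ha]; exact pow_orderOf_eq_one a
  -- step 1: move `φ a` into `⟨a⟩`
  obtain ⟨g, hg⟩ := exists_conj_mem_of_pow 17 (Subgroup.zpowers a)
    (by rw [Nat.card_zpowers, ha, h17]; exact Nat.Prime.factorization_self (by norm_num))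
    (φ a) (by rw [← map_pow, ha17, map_one])
  obtain ⟨k, hk17, hk⟩ : ∃ k < 17, a ^ k = g * φ a * g⁻¹ := by
    rw [Subgroup.mem_zpowers_iff] at hg
    obtain ⟨n, hn⟩ := hg
    refine ⟨(n % 17).toNat, by omega, ?_⟩
    rw [← hn, ← zpow_natCast, Int.toNat_of_nonneg (by omega)]
    have h0 := zpow_mod_orderOf a n
    rw [ha] at h0
    exact h0
  have hk0 : k ≠ 0 := by
    rintro rfl
    rw [pow_zero] at hk
    have h1 : φ a = 1 := by
      calc φ a = g⁻¹ * (g * φ a * g⁻¹) * g := by group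
        _ = 1 := by rw [← hk]; group
    have h2 : a = 1 := by
      apply φ.injective
      rw [h1, map_one]
    rw [h2, orderOf_one] at ha
    norm_num at ha
  obtain ⟨i, -, hi⟩ := num17 k hk17 hk0
  -- step 2: conjugation by powers of `b`
  have hbi : ∀ i m : ℕ, b ^ i * a ^ m * (b ^ i)⁻¹ = a ^ (m * 2 ^ i) := by
    intro i
    induction i with
    | zero => intro m; simp
    | succ i ih =>
      intro m
      have h1 : b ^ (i + 1) * a ^ m * (b ^ (i + 1))⁻¹ = b * (b ^ i * a ^ m * (b ^ i)⁻¹) * b⁻¹ := by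
        rw [pow_succ']; group
      rw [h1, ih, ← conj_pow, hb, ← pow_mul]
      congr 1
      ring
  let φ2 : MulAut Q := MulAut.conj (b ^ i * g) * φ
  have hφ2 : φ2 a = a ^ (k * 2 ^ i) := by
    show b ^ i * g * φ a * (b ^ i * g)⁻¹ = _
    rw [← hbi, hk]
    group
  have hφ2' : φ2 a = a ^ ((k * 2 ^ i) % 17) := by
    rw [hφ2, ← ha, pow_mod_orderOf]
  have hφ2a : φ2 a = a := by
    rcases hi with hi | hi
    · rw [hφ2', hi, pow_one]
    · rw [hi] at hφ2'
      exact absurd hφ2' (key3 φ2)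
  obtain ⟨j, hj⟩ := key1 φ2 hφ2a
  let φ3 : MulAut Q := MulAut.conj (a ^ j)⁻¹ * φ2
  have hφ3a : φ3 a = a := by
    show (a ^ j)⁻¹ * φ2 a * (a ^ j)⁻¹⁻¹ = a
    rw [hφ2a]
    have : Commute (a ^ j) a := (Commute.refl a).pow_left j
    rw [inv_inv, mul_assoc, ← this.eq, inv_mul_cancel_left]
  have hφ3 : φ3 = MulAut.conj ((a ^ j)⁻¹ * (b ^ i * g)) * φ := by
    show MulAut.conj (a ^ j)⁻¹ * (MulAut.conj (b ^ i * g) * φ) = _
    rw [← mul_assoc, ← map_mul]
  rcases hj with hj | hj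
  · left
    have hφ3x : φ3 x = x := by
      show (a ^ j)⁻¹ * φ2 x * (a ^ j)⁻¹⁻¹ = x
      rw [inv_inv, mul_assoc, ← hj, inv_mul_cancel_left]
    have h1 := mulAut_eq_one_of_closure x a hgen φ3 hφ3x hφ3a
    rw [hφ3] at h1
    have h2 : φ = (MulAut.conj ((a ^ j)⁻¹ * (b ^ i * g)))⁻¹ := eq_inv_of_mul_eq_one_right h1
    rw [h2]
    exact (Cfsg.Inn Q).inv_mem (hinn _)
  · right
    have hφ3x : φ3 x = x2 := by
      show (a ^ j)⁻¹ * φ2 x * (a ^ j)⁻¹⁻¹ = x2
      rw [inv_inv, mul_assoc, ← hj, inv_mul_cancel_left]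
    have h1 := mulAut_eq_one_of_closure x a hgen (σ⁻¹ * φ3)
      (by
        show σ⁻¹ (φ3 x) = x
        rw [hφ3x, ← hσx]
        exact σ.symm_apply_apply x)
      (by
        show σ⁻¹ (φ3 a) = a
        rw [hφ3a]
        conv_lhs => rw [← hσa]
        exact σ.symm_apply_apply a)
    rw [hφ3] at h1
    set c := MulAut.conj ((a ^ j)⁻¹ * (b ^ i * g)) with hc
    have h2 : σ⁻¹ * φ = σ⁻¹ * c⁻¹ * σ⁻¹⁻¹ := by
      have h3 : φ = c⁻¹ * σ := by
        have : c * φ = σ := by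
          have h4 : σ * (σ⁻¹ * (c * φ)) = σ * 1 := by rw [h1]
          rwa [mul_inv_cancel_left, mul_one] at h4
        rw [← this, inv_mul_cancel_left]
      rw [h3, inv_inv, mul_assoc]
    rw [h2]
    exact (Cfsg.innNormal Q).conj_mem _ ((Cfsg.Inn Q).inv_mem (hinn _)) _

end Cfsg.Agent.Helper64J3
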