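import Mathlib
import Cfsg.Prelude.Def_KGroupFacts
import Cfsg.Agent.Lib.Helper64J3OutA

/-! # Abstract lemmas on outer automorphism groups: normalising an automorphism on a
Sylow normaliser `p : m` (helper33) -/

set_option autoImplicit false

namespace Cfsg.Agent.Lib.Helper33OutA

open Cfsg.Agent.Helper64J3

theorem card_out_eq_one {Q : Type*} [Group Q] (h : ∀ φ : MulAut Q, φ ∈ Cfsg.Inn Q) :
    Nat.card (Cfsg.Out Q) = 1 := by
  show (Cfsg.Inn Q).index = 1
  rw [Subgroup.index_eq_one, eq_top_iff]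
  intro φ _
  exact h φ

theorem inn_of_equiv {G H : Type*} [Group G] [Group H] (e : G ≃* H)
    (h : ∀ φ : MulAut G, φ ∈ Cfsg.Inn G) : ∀ φ : MulAut H, φ ∈ Cfsg.Inn H := by
  intro φ
  obtain ⟨g, hg⟩ := h ((e.trans φ).trans e.symm)
  refine ⟨e g, ?_⟩
  ext x
  have h1 := DFunLike.congr_fun hg (e.symm x)
  have h2 : g * e.symm x * g⁻¹ = e.symm (φ (e (e.symm x))) := h1
  rw [e.apply_symm_apply] at h2
  show e g * x * (e g)⁻¹ = φ x
  have h3 := congrArg e h2
  rw [e.apply_symm_apply, map_mul, map_mul, map_inv, e.apply_symm_apply] at h3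
  exact h3

theorem pow_eq_of_mod {Q : Type*} [Group Q] {a : Q} {p : ℕ} (ha : orderOf a = p) {m n : ℕ}
    (h : m % p = n % p) : a ^ m = a ^ n := by
  rw [← pow_mod_orderOf a m, ← pow_mod_orderOf a n, ha, h]

theorem exists_pow_of_mem_zpowers {Q : Type*} [Group Q] {a c : Q} {p : ℕ} (hp : 0 < p)
    (ha : orderOf a = p) (hc : c ∈ Subgroup.zpowers a) : ∃ k < p, a ^ k = c := by
  rw [Subgroup.mem_zpowers_iff] at hc
  obtain ⟨n, hn⟩ := hc
  have hp' : (0 : ℤ) < p := by exact_mod_cast hp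
  refine ⟨(n % p).toNat, ?_, ?_⟩
  · have := Int.emod_lt_of_pos n hp'
    have h0 := Int.emod_nonneg n (ne_of_gt hp')
    omega
  · rw [← hn, ← zpow_natCast, Int.toNat_of_nonneg (Int.emod_nonneg n (ne_of_gt hp'))]
    have h0 := zpow_mod_orderOf a n
    rw [ha] at h0
    exact h0

/-- conjugation by powers of `u` -/
theorem conj_pow_pow {Q : Type*} [Group Q] {a u : Q} {r : ℕ} (hu : u * a * u⁻¹ = a ^ r) :
    ∀ i m : ℕ, u ^ i * a ^ m * (u ^ i)⁻¹ = a ^ (m * r ^ i) := by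
  intro i
  induction i with
  | zero => intro m; simp
  | succ i ih =>
    intro m
    have h1 : u ^ (i + 1) * a ^ m * (u ^ (i + 1))⁻¹ = u * (u ^ i * a ^ m * (u ^ i)⁻¹) * u⁻¹ := by
      rw [pow_succ']; group
    rw [h1, ih, ← conj_pow, hu, ← pow_mul]
    congr 1
    ring

/-- Every automorphism can be composed with an inner one so as to fix `u` and to send `a` to
`a ^ k`, with `k` in a transversal. -/
theorem aut_normalise {Q : Type*} [Group Q] [Finite Q] (p : ℕ) [hpp : Fact p.Prime]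
    (hp : (Nat.card Q).factorization p = 1) (a u : Q) (ha : orderOf a = p) (r : ℕ)
    (hu : u * a * u⁻¹ = a ^ r)
    (hC : ∀ c : Q, c * a = a * c → c ∈ Subgroup.zpowers a)
    (T : ℕ → Prop)
    (hT : ∀ k < p, k ≠ 0 → ∃ i : ℕ, T ((k * r ^ i) % p) ∧ (k * r ^ i) % p ≠ 0)
    (hs : ∀ j < p, ∃ m : ℕ, (m * r) % p = (m + j) % p)
    (φ : MulAut Q) :
    ∃ g : Q, ∃ k, T k ∧ (MulAut.conj g * φ) a = a ^ k ∧ (MulAut.conj g * φ) u = u := by
  have hp0 : 0 < p := hpp.out.pos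
  have hap : a ^ p = 1 := by rw [← ha]; exact pow_orderOf_eq_one a
  obtain ⟨g, hg⟩ := exists_conj_mem_of_pow p (Subgroup.zpowers a)
    (by rw [Nat.card_zpowers, ha, hp]; exact Nat.Prime.factorization_self hpp.out)
    (φ a) (by rw [← map_pow, hap, map_one])
  obtain ⟨k0, hk0p, hk0⟩ := exists_pow_of_mem_zpowers hp0 ha hg
  have hk00 : k0 ≠ 0 := by
    rintro rfl
    rw [pow_zero] at hk0
    have h1 : φ a = 1 := by
      calc φ a = g⁻¹ * (g * φ a * g⁻¹) * g := by group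
        _ = 1 := by rw [← hk0]; group
    have h2 : a = 1 := by
      apply φ.injective
      rw [h1, map_one]
    rw [h2, orderOf_one] at ha
    exact hpp.out.one_lt.ne ha
  obtain ⟨i, hTi, hne⟩ := hT k0 hk0p hk00
  set k := (k0 * r ^ i) % p with hk
  let ψ : MulAut Q := MulAut.conj (u ^ i * g) * φ
  have hψa : ψ a = a ^ k := by
    show u ^ i * g * φ a * (u ^ i * g)⁻¹ = _
    have h1 : u ^ i * g * φ a * (u ^ i * g)⁻¹ = u ^ i * (g * φ a * g⁻¹) * (u ^ i)⁻¹ := by group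
    rw [h1, ← hk0, conj_pow_pow hu, hk, ← ha, pow_mod_orderOf]
  -- `k` is invertible modulo `p`
  have hcop : Nat.Coprime k p := by
    rw [Nat.coprime_comm, Nat.Prime.coprime_iff_not_dvd hpp.out]
    intro hd
    have hlt : k < p := Nat.mod_lt _ hp0
    exact hne (Nat.eq_zero_of_dvd_of_lt hd hlt)
  obtain ⟨k', hk'⟩ : ∃ k' : ℕ, (k * k') % p = 1 % p := by
    obtain ⟨m, -, hm⟩ := Nat.exists_mul_mod_eq_one_of_coprime hcop hpp.out.one_lt
    exact ⟨m, by rw [hm, Nat.mod_eq_of_lt hpp.out.one_lt]⟩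
  set v := ψ u with hv
  have hv1 : v * a ^ k * v⁻¹ = (a ^ k) ^ r := by
    rw [← hψa, hv, ← map_inv, ← map_mul, ← map_mul, hu, map_pow]
  have hakk : (a ^ k) ^ k' = a := by
    rw [← pow_mul]
    conv_rhs => rw [← pow_one a]
    exact pow_eq_of_mod ha hk'
  have hv2 : v * a * v⁻¹ = a ^ r := by
    calc v * a * v⁻¹ = v * (a ^ k) ^ k' * v⁻¹ := by rw [hakk]
      _ = (v * a ^ k * v⁻¹) ^ k' := by rw [conj_pow]
      _ = ((a ^ k) ^ r) ^ k' := by rw [hv1]
      _ = ((a ^ k) ^ k') ^ r := by rw [← pow_mul (a ^ k), ← pow_mul (a ^ k), mul_comm r k']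
      _ = a ^ r := by rw [hakk]
  have hc : (u⁻¹ * v) * a = a * (u⁻¹ * v) := by
    have h1 : v * a = a ^ r * v := by
      calc v * a = v * a * v⁻¹ * v := by group
        _ = a ^ r * v := by rw [hv2]
    have h2 : u⁻¹ * a ^ r = a * u⁻¹ := by
      rw [← hu]; group
    calc u⁻¹ * v * a = u⁻¹ * (v * a) := by group
      _ = u⁻¹ * a ^ r * v := by rw [h1]; group
      _ = a * (u⁻¹ * v) := by rw [h2]; group
  obtain ⟨j, hjp, hj⟩ := exists_pow_of_mem_zpowers hp0 ha (hC _ hc)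
  have hvj : v = u * a ^ j := by rw [hj]; group
  obtain ⟨m, hm⟩ := hs j hjp
  have hum : a ^ (m * r) * u = u * a ^ m := by
    have h1 := conj_pow_pow hu 1 m
    rw [pow_one, pow_one] at h1
    rw [← h1]; group
  refine ⟨a ^ (m * r) * (u ^ i * g), k, hTi, ?_, ?_⟩
  · have h1 : (MulAut.conj (a ^ (m * r) * (u ^ i * g)) * φ) a
        = a ^ (m * r) * ψ a * (a ^ (m * r))⁻¹ := by
      show a ^ (m * r) * (u ^ i * g) * φ a * (a ^ (m * r) * (u ^ i * g))⁻¹ =
        a ^ (m * r) * (u ^ i * g * φ a * (u ^ i * g)⁻¹) * (a ^ (m * r))⁻¹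
      group
    rw [h1, hψa, ← pow_add, add_comm, pow_add, mul_inv_cancel_right]
  · have h1 : (MulAut.conj (a ^ (m * r) * (u ^ i * g)) * φ) u
        = a ^ (m * r) * v * (a ^ (m * r))⁻¹ := by
      show a ^ (m * r) * (u ^ i * g) * φ u * (a ^ (m * r) * (u ^ i * g))⁻¹ =
        a ^ (m * r) * (u ^ i * g * φ u * (u ^ i * g)⁻¹) * (a ^ (m * r))⁻¹
      group
    rw [h1, hvj, ← mul_assoc, hum, mul_assoc u, ← pow_add, ← pow_eq_of_mod ha hm, mul_assoc,
      mul_inv_cancel, mul_one]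

/-- `Out = 1` from a Sylow normaliser `p : m`, a canonical involution and generation. -/
theorem inner_of_data {Q : Type*} [Group Q] [Finite Q] (p : ℕ) [hpp : Fact p.Prime]
    (hp : (Nat.card Q).factorization p = 1) (a u t : Q) (ha : orderOf a = p) (r : ℕ)
    (hu : u * a * u⁻¹ = a ^ r)
    (hC : ∀ c : Q, c * a = a * c → c ∈ Subgroup.zpowers a)
    (hT : ∀ k < p, k ≠ 0 → ∃ i : ℕ, ((k * r ^ i) % p = 1 ∨ (k * r ^ i) % p = p - 1))
    (hs : ∀ j < p, ∃ m : ℕ, (m * r) % p = (m + j) % p)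
    (ht : ∀ s : Q, s * s = 1 → s ≠ 1 → s * u = u * s → s = t)
    (ht2 : t * t = 1) (ht1 : t ≠ 1) (htu : t * u = u * t)
    (hgen : Subgroup.closure {t, a} = ⊤)
    (hno : ∀ ψ : MulAut Q, ψ a = a ^ (p - 1) → ψ t = t → False) (φ : MulAut Q) :
    φ ∈ Cfsg.Inn Q := by
  have h2 : 2 ≤ p := hpp.out.two_le
  obtain ⟨g, k, hk, hga, hgu⟩ := aut_normalise p hp a u ha r hu hC (fun k => k = 1 ∨ k = p - 1)
    (by
      intro k hkp hk0
      obtain ⟨i, hi⟩ := hT k hkp hk0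
      refine ⟨i, hi, ?_⟩
      rcases hi with hi | hi <;> omega) hs φ
  set ψ := MulAut.conj g * φ with hψ
  have hψt : ψ t = t := by
    apply ht
    · rw [← map_mul, ht2, map_one]
    · intro h
      apply ht1
      apply ψ.injective
      rw [h, map_one]
    · conv_lhs => rw [← hgu]
      conv_rhs => rw [← hgu]
      rw [← map_mul, ← map_mul, htu]
  rcases hk with rfl | rfl
  · rw [pow_one] at hga
    have h1 := mulAut_eq_one_of_closure t a hgen ψ hψt hga
    have h3 : φ = (MulAut.conj g)⁻¹ := eq_inv_of_mul_eq_one_right h1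
    rw [h3]
    exact (Cfsg.Inn Q).inv_mem ⟨g, rfl⟩
  · exact (hno ψ hga hψt).elim

end Cfsg.Agent.Lib.Helper33OutA
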