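import Cfsg.Agent.Lib.Helper33LO3CA
import Cfsg.Agent.Lib.Helper33LO3CU
import Cfsg.Agent.Lib.Helper33LO3G
import Cfsg.Agent.Lib.Helper33OutA

/-! # Every automorphism of `Co3` is inner (helper33) -/

set_option autoImplicit false
set_option exponentiation.threshold 2000

open Cfsg Cfsg.Agent.Lib.Helper33Golay Cfsg.Agent.Lib.Helper33LVec Cfsg.Agent.Lib.Helper33LMat
open Cfsg.Agent.Lib.Helper33LTest Cfsg.Agent.Lib.Helper33LCo0 Cfsg.Agent.Lib.Helper33LFrame
open Cfsg.Agent.Lib.Helper33LGood Cfsg.Agent.Lib.Helper33LReach2 Cfsg.Agent.Lib.Helper33LWord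
open Cfsg.Agent.Lib.Helper33LPat Cfsg.Agent.Lib.Helper33LFrame2 Cfsg.Agent.Lib.Helper33LBase
open Cfsg.Agent.Lib.Helper33LMcL Cfsg.Agent.Lib.Helper33LHS Cfsg.Agent.Lib.Helper33LReach
open Cfsg.Agent.Lib.Helper33LCo2Thy Cfsg.Agent.Lib.Helper33LCent Cfsg.Agent.Lib.Helper33LCent2
open Cfsg.Agent.Lib.Helper33LO3D Cfsg.Agent.Lib.Helper33LO3G
open MulAction

namespace Cfsg.Agent.Lib.Helper33LO3F

abbrev Q : Type := ↥(fixG [DL u0c])

noncomputable def a : Q := ⟨toCo0 PA, fixU PA (by simp)⟩
noncomputable def u : Q := ⟨toCo0 PU, fixU PU (by simp)⟩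
noncomputable def t : Q := ⟨toCo0 PT, fixU PT (by simp)⟩
noncomputable def ai : Q := ⟨toCo0 PAi, fixU PAi (by simp)⟩

theorem gd {l : List ℕ} (h : ∀ P ∈ l, P ∈ [PA, PAi, PU, PT]) : ∀ P ∈ l, goodP P = true :=
  fun P hP => (good P (h P hP)).1

theorem a23 : a ^ 23 = 1 := by
  apply Subtype.ext
  have := wprod_eq_one (ws := List.replicate 23 PA) (gd (by
    intro P hP; rw [List.eq_of_mem_replicate hP]; simp)) rel_A23
  rw [wprod_replicate] at this
  exact this

theorem a_ne : a ≠ 1 := by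
  intro h
  have := wprod_ne_of_notOne (ws := [PA]) (gd (by simp)) A_ne
  rw [wprod_single] at this
  exact this (congrArg Subtype.val h)

theorem order_a : orderOf a = 23 := by
  haveI : Fact (Nat.Prime 23) := ⟨by norm_num⟩
  exact orderOf_eq_prime a23 a_ne

theorem a_ai : a * ai = 1 := by
  apply Subtype.ext
  have := wprod_eq_one (ws := [PA, PAi]) (gd (by simp)) rel_AAi
  simpa [wprod, a, ai] using this

theorem a22 : a ^ 22 = ai := by
  have h1 : a ^ 22 * a = 1 := by rw [← pow_succ]; exact a23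
  have h2 : a ^ 22 = a⁻¹ := eq_inv_of_mul_eq_one_left h1
  rw [h2]
  exact (eq_inv_of_mul_eq_one_right a_ai).symm

theorem u_a : u * a * u⁻¹ = a ^ 2 := by
  have h : u * a = a * a * u := by
    apply Subtype.ext
    have := wprod_eq_of_same (ws := [PU, PA]) (ws' := [PA, PA, PU]) (gd (by simp)) (gd (by simp))
      rel_UA
    simpa [wprod, mul_assoc, a, u] using this
  rw [h, mul_inv_cancel_right, pow_two]

theorem t_t : t * t = 1 := by
  apply Subtype.ext
  have := wprod_eq_one (ws := [PT, PT]) (gd (by simp)) rel_TT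
  simpa [wprod, t] using this

theorem t_ne : t ≠ 1 := by
  intro h
  have := wprod_ne_of_notOne (ws := [PT]) (gd (by simp)) T_ne
  rw [wprod_single] at this
  exact this (congrArg Subtype.val h)

theorem t_u : t * u = u * t := by
  apply Subtype.ext
  have := wprod_eq_of_same (ws := [PT, PU]) (ws' := [PU, PT]) (gd (by simp)) (gd (by simp)) rel_TU
  simpa [wprod, t, u] using this

theorem cent_a (c : Q) (hc : c * a = a * c) : c ∈ Subgroup.zpowers a := by
  obtain ⟨j, hj⟩ := Helper33LO3CA.centA c.1 (mem_Zc.2 ⟨congrArg Subtype.val hc, c.2⟩)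
  have h1 : a ^ j * c = 1 := Subtype.ext hj
  rw [eq_inv_of_mul_eq_one_right h1]
  exact Subgroup.inv_mem _ (Subgroup.pow_mem _ (Subgroup.mem_zpowers a) j)

theorem inv_u (s : Q) (h2 : s * s = 1) (h1 : s ≠ 1) (hu : s * u = u * s) : s = t := by
  obtain ⟨z, hz, hzc⟩ := Helper33LO3CU.centU s.1 (mem_Zc.2 ⟨congrArg Subtype.val hu, s.2⟩)
  have hs2 : s.1 * s.1 = 1 := congrArg Subtype.val h2
  have hzs : wprod z = s.1 := by
    calc wprod z = wprod z * (s.1 * s.1) := by rw [hs2, mul_one]
      _ = s.1 := by rw [← mul_assoc, hzc, one_mul]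
  have hchk := List.all_eq_true.1 Helper33LO3CU.inv_chk z hz
  simp only [Bool.or_eq_true] at hchk
  rcases hchk with (h | h) | h
  · rw [eq_of_beqL _ _ h, wprod_nil] at hzs
    exact absurd (Subtype.ext hzs.symm) h1
  · rw [eq_of_beqL _ _ h, wprod_single] at hzs
    exact Subtype.ext hzs.symm
  · exfalso
    have hg : ∀ P ∈ z ++ z, goodP P = true := by
      intro P hP
      have hP' : P ∈ z := by simpa using hP
      rcases Helper33LO3CU.letters z hz P hP' with rfl | rfl
      · exact (good PU (by simp)).1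
      · exact (good PT (by simp)).1
    apply wprod_ne_of_notOne hg h
    rw [wprod_append, hzs, hs2]

theorem gen : Subgroup.closure {t, a} = (⊤ : Subgroup Q) := by
  apply Subgroup.map_injective (fixG [DL u0c]).subtype_injective
  rw [MonoidHom.map_closure, Set.image_pair, ← MonoidHom.range_eq_map, Subgroup.range_subtype]
  exact K_eq

noncomputable def Wq (x y : Q) : Q := x * x * x * y * x * x * y * x * y

theorem W8 : Wq a t ^ 8 = 1 := by
  apply Subtype.ext
  have := wprod_eq_one (ws := (List.replicate 8 [PA, PA, PA, PT, PA, PA, PT, PA, PT]).flatten)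
    (gd (by
      intro P hP
      obtain ⟨l, hl, hP⟩ := List.mem_flatten.1 hP
      rw [List.eq_of_mem_replicate hl] at hP
      simp only [List.mem_cons, List.not_mem_nil, or_false] at hP ⊢
      tauto)) rel_W
  rw [wprod_flatten] at this
  rw [Subgroup.coe_one, ← this]
  simp [wprod, Wq, a, t, mul_assoc]

theorem W8' : Wq ai t ^ 8 ≠ 1 := by
  intro h
  have := wprod_ne_of_notOne
    (ws := (List.replicate 8 [PAi, PAi, PAi, PT, PAi, PAi, PT, PAi, PT]).flatten)
    (gd (by
      intro P hP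
      obtain ⟨l, hl, hP⟩ := List.mem_flatten.1 hP
      rw [List.eq_of_mem_replicate hl] at hP
      simp only [List.mem_cons, List.not_mem_nil, or_false] at hP ⊢
      tauto)) rel_W'
  apply this
  rw [wprod_flatten]
  have h' := congrArg Subtype.val h
  rw [Subgroup.coe_one] at h'
  rw [← h']
  simp [wprod, Wq, ai, t, mul_assoc]

theorem no_inv (ψ : MulAut Q) (h1 : ψ a = a ^ (23 - 1)) (h2 : ψ t = t) : False := by
  have h3 : ψ (Wq a t ^ 8) = Wq ai t ^ 8 := by
    rw [map_pow]
    unfold Wq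
    simp only [map_mul, h1, h2]
    rw [show (23 - 1 : ℕ) = 22 from rfl, a22]
  rw [W8, map_one] at h3
  exact W8' h3.symm

theorem fact23 : (Nat.card Q).factorization 23 = 1 := by
  rw [Helper33LOrders.goodCo3.2]
  have h : (495766656000 : ℕ) = 23 * 21555072000 := by norm_num
  rw [h, Nat.factorization_mul (by norm_num) (by norm_num), Finsupp.add_apply,
    Nat.Prime.factorization_self (by norm_num),
    Nat.factorization_eq_zero_of_not_dvd (by norm_num)]

theorem all_inner (φ : MulAut Q) : φ ∈ Cfsg.Inn Q := by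
  haveI : Fact (Nat.Prime 23) := ⟨by norm_num⟩
  haveI : Finite Q := Nat.finite_of_card_ne_zero (by rw [Helper33LOrders.goodCo3.2]; norm_num)
  have hT : ∀ k < 23, k ≠ 0 → ∃ i < 11, ((k * 2 ^ i) % 23 = 1 ∨ (k * 2 ^ i) % 23 = 23 - 1) := by
    decide
  exact Helper33OutA.inner_of_data 23 fact23 a u t order_a 2 u_a cent_a
    (fun k hk h0 => by obtain ⟨i, _, hi⟩ := hT k hk h0; exact ⟨i, hi⟩)
    (fun j _ => ⟨j, by rw [mul_two]⟩) inv_u t_t t_ne t_u gen no_inv φ

end Cfsg.Agent.Lib.Helper33LO3F
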