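import Cfsg.Agent.Lib.Helper33OutA

/-! # Abstract lemmas on outer automorphism groups, III: `|Out| = 2` (helper33) -/

set_option autoImplicit false

namespace Cfsg.Agent.Lib.Helper33OutC

open Cfsg.Agent.Helper64J3 Cfsg.Agent.Lib.Helper33OutA

theorem out_two_of_data {Q : Type*} [Group Q] [Finite Q] (p : ℕ) [hpp : Fact p.Prime]
    (hp : (Nat.card Q).factorization p = 1) (a u y : Q) (ha : orderOf a = p) (r : ℕ)
    (hu : u * a * u⁻¹ = a ^ r)
    (hC : ∀ c : Q, c * a = a * c → c ∈ Subgroup.zpowers a)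
    (hT : ∀ k < p, k ≠ 0 → ∃ i : ℕ, ((k * r ^ i) % p = 1 ∨ (k * r ^ i) % p = p - 1))
    (hs : ∀ j < p, ∃ m : ℕ, (m * r) % p = (m + j) % p)
    (hr : ∀ j < p, j ≠ 0 → (j * r) % p ≠ j)
    (τ : MulAut Q) (hτa : τ a = a) (hτu : τ u = u) (hτy : τ y ≠ y)
    (hgen : Subgroup.closure {y, a} = ⊤)
    (hrig : ∀ ψ : MulAut Q, (ψ a = a ^ 1 ∨ ψ a = a ^ (p - 1)) → ψ u = u →
      (ψ a = a ∧ (ψ y = y ∨ ψ y = τ y))) :
    Nat.card (Cfsg.Out Q) = 2 := by
  have hp0 : 0 < p := hpp.out.pos
  have h2 : 2 ≤ p := hpp.out.two_le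
  apply card_out_eq_two τ
  · rintro ⟨h, hh⟩
    have e1 : h * a * h⁻¹ = a := by
      have := DFunLike.congr_fun hh a
      rw [hτa] at this
      exact this
    have e2 : h * u * h⁻¹ = u := by
      have := DFunLike.congr_fun hh u
      rw [hτu] at this
      exact this
    have c1 : h * a = a * h := by
      calc h * a = h * a * h⁻¹ * h := by group
        _ = a * h := by rw [e1]
    obtain ⟨j, hj, rfl⟩ := exists_pow_of_mem_zpowers hp0 ha (hC h c1)
    have c2 : u * a ^ j * u⁻¹ = a ^ j := by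
      have : a ^ j * u = u * a ^ j := by
        calc a ^ j * u = a ^ j * u * (a ^ j)⁻¹ * a ^ j := by group
          _ = u * a ^ j := by rw [e2]
      rw [← this]; group
    have c3 := conj_pow_pow hu 1 j
    rw [pow_one, pow_one, c2] at c3
    have c4 : j % p = (j * r) % p := by
      rw [← ha]; exact pow_inj_mod.1 c3
    rw [Nat.mod_eq_of_lt hj] at c4
    have hj0 : j = 0 := by
      by_contra h0
      exact hr j hj h0 c4.symm
    apply hτy
    rw [← hh, hj0, pow_zero, map_one]
    rfl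
  · intro φ
    obtain ⟨g, k, hk, hga, hgu⟩ := aut_normalise p hp a u ha r hu hC (fun k => k = 1 ∨ k = p - 1)
      (by
        intro k hkp hk0
        obtain ⟨i, hi⟩ := hT k hkp hk0
        refine ⟨i, hi, ?_⟩
        rcases hi with hi | hi <;> omega) hs φ
    set ψ := MulAut.conj g * φ with hψ
    obtain ⟨ra, ry⟩ := hrig ψ (by rcases hk with rfl | rfl; exacts [Or.inl hga, Or.inr hga]) hgu
    rcases ry with ry | ry
    · left
      have h1 := mulAut_eq_one_of_closure y a hgen ψ ry ra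
      have h3 : φ = (MulAut.conj g)⁻¹ := eq_inv_of_mul_eq_one_right h1
      rw [h3]
      exact (Cfsg.Inn Q).inv_mem ⟨g, rfl⟩
    · right
      have h1 : τ⁻¹ * ψ = 1 := by
        apply mulAut_eq_one_of_closure y a hgen
        · show τ⁻¹ (ψ y) = y
          rw [ry]
          exact τ.symm_apply_apply y
        · show τ⁻¹ (ψ a) = a
          rw [ra]
          conv_lhs => rw [← hτa]
          exact τ.symm_apply_apply a
      have h3 : ψ = τ := by
        have := congrArg (fun x => τ * x) h1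
        simpa using this
      have h4 : φ = (MulAut.conj g)⁻¹ * τ := by
        rw [← h3, hψ]; group
      rw [h4]
      have h5 := (Cfsg.innNormal Q).conj_mem _ ((Cfsg.Inn Q).inv_mem ⟨g, rfl⟩) τ⁻¹
      rw [inv_inv] at h5
      rw [← mul_assoc]
      exact h5

end Cfsg.Agent.Lib.Helper33OutC
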