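import Cfsg.Agent.Lib.Helper33LOMCA
import Cfsg.Agent.Lib.Helper33LOMCU
import Cfsg.Agent.Lib.Helper33LOMG
import Cfsg.Agent.Lib.Helper33OutC

/-! # The outer automorphism group of `McL` has order two (helper33) -/

set_option autoImplicit false
set_option exponentiation.threshold 2000

open Cfsg Cfsg.Agent.Lib.Helper33Golay Cfsg.Agent.Lib.Helper33LVec Cfsg.Agent.Lib.Helper33LMat
open Cfsg.Agent.Lib.Helper33LTest Cfsg.Agent.Lib.Helper33LCo0 Cfsg.Agent.Lib.Helper33LFrame
open Cfsg.Agent.Lib.Helper33LGood Cfsg.Agent.Lib.Helper33LReach2 Cfsg.Agent.Lib.Helper33LWord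
open Cfsg.Agent.Lib.Helper33LPat Cfsg.Agent.Lib.Helper33LFrame2 Cfsg.Agent.Lib.Helper33LBase
open Cfsg.Agent.Lib.Helper33LCent Cfsg.Agent.Lib.Helper33LCent2 Cfsg.Agent.Lib.Helper33LCent3
open Cfsg.Agent.Lib.Helper33LCo2 Cfsg.Agent.Lib.Helper33LBaseW Cfsg.Agent.Lib.Helper33LOMD
open Cfsg.Agent.Lib.Helper33LOMG Cfsg.Agent.Lib.Helper33LMcL Cfsg.Agent.Lib.Helper33LCo2Ord
open MulAction

namespace Cfsg.Agent.Lib.Helper33LOMF

abbrev Q : Type := ↥(fixG ([u0c, v0c].map DL))

noncomputable def a : Q := ⟨toCo0 PA11, fixF PA11 (by simp)⟩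
noncomputable def u : Q := ⟨toCo0 PU5, fixF PU5 (by simp)⟩
noncomputable def y : Q := ⟨toCo0 PY0, fixF PY0 (by simp)⟩

theorem gT : goodP PT1 = true ∧ stepOK PT1 u0c u0c = true ∧ stepOK PT1 v0c w0c = true ∧
    stepOK PT1 w0c v0c = true := by
  have := goodT
  simp only [Bool.and_eq_true] at this
  exact ⟨this.1.1.1, this.1.1.2, this.1.2, this.2⟩

theorem gdl {l : List ℕ} (h : ∀ P ∈ l, P ∈ [PA11, PU5, PY0, PT1]) : ∀ P ∈ l, goodP P = true := by
  intro P hP
  have := h P hP
  simp only [List.mem_cons, List.not_mem_nil, or_false] at this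
  rcases this with rfl | rfl | rfl | rfl
  · exact (gd PA11 (by simp)).1
  · exact (gd PU5 (by simp)).1
  · exact (gd PY0 (by simp)).1
  · exact gT.1

theorem a11 : a ^ 11 = 1 := by
  apply Subtype.ext
  have := wprod_eq_one (ws := List.replicate 11 PA11) (gdl (by
    intro P hP; rw [List.eq_of_mem_replicate hP]; simp)) rel_A11
  rw [wprod_replicate] at this
  exact this

theorem a_ne : a ≠ 1 := by
  intro h
  have := wprod_ne_of_notOne (ws := [PA11]) (gdl (by simp)) A_ne
  rw [wprod_single] at this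
  exact this (congrArg Subtype.val h)

theorem order_a : orderOf a = 11 := by
  have : Fact (Nat.Prime 11) := ⟨by norm_num⟩
  exact orderOf_eq_prime a11 a_ne

theorem u_a : u * a * u⁻¹ = a ^ 3 := by
  have h : u * a = a * a * a * u := by
    apply Subtype.ext
    have := wprod_eq_of_same (ws := [PU5, PA11]) (ws' := [PA11, PA11, PA11, PU5]) (gdl (by simp))
      (gdl (by simp)) rel_UA
    simpa [wprod, mul_assoc, a, u] using this
  rw [h, mul_inv_cancel_right, pow_succ, pow_two]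

theorem y_u : y * u = u * y := by
  apply Subtype.ext
  have := wprod_eq_of_same (ws := [PY0, PU5]) (ws' := [PU5, PY0]) (gdl (by simp)) (gdl (by simp))
    rel_YU
  simpa [wprod, y, u] using this

theorem y5 : y ^ 5 = 1 := by
  apply Subtype.ext
  have := wprod_eq_one (ws := List.replicate 5 PY0) (gdl (by
    intro P hP; rw [List.eq_of_mem_replicate hP]; simp)) rel_Y5
  rw [wprod_replicate] at this
  exact this

theorem y2_ne : y * y ≠ 1 := by
  intro h
  have := wprod_ne_of_notOne (ws := [PY0, PY0]) (gdl (by simp)) Y2_ne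
  apply this
  have h' := congrArg Subtype.val h
  simpa [wprod, y] using h'

theorem cent_a (c : Q) (hc : c * a = a * c) : c ∈ Subgroup.zpowers a := by
  obtain ⟨z, hz, hj⟩ := Helper33LOMCA.cent c.1 (mem_Zg.2 ⟨congrArg Subtype.val hc, c.2⟩)
  obtain ⟨j, _, rfl⟩ := List.mem_map.1 hz
  rw [wprod_replicate] at hj
  have h1 : a ^ j * c = 1 := Subtype.ext hj
  rw [eq_inv_of_mul_eq_one_right h1]
  exact Subgroup.inv_mem _ (Subgroup.pow_mem _ (Subgroup.mem_zpowers a) j)

theorem gen : Subgroup.closure {y, a} = (⊤ : Subgroup Q) := by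
  apply Subgroup.map_injective (fixG ([u0c, v0c].map DL)).subtype_injective
  rw [MonoidHom.map_closure, Set.image_pair, ← MonoidHom.range_eq_map, Subgroup.range_subtype]
  exact K_eq

/-! ### the outer automorphism -/

theorem T_u0 : toCo0 PT1 • DL u0c = DL u0c := toCo0_fix gT.1 okU.1 okU.2 gT.2.1
theorem T_v0 : toCo0 PT1 • DL v0c = DL w0c := (toCo0_smul_DL gT.1 okV.1 okV.2 gT.2.2.1).2.2

theorem fix_eq : fixG (mv (toCo0 PT1) ([u0c, v0c].map DL)) = fixG ([u0c, v0c].map DL) := by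
  have e : mv (toCo0 PT1) ([u0c, v0c].map DL) = [DL u0c, DL w0c] := by
    simp [mv, T_u0, T_v0]
  rw [e]
  ext g
  simp only [mem_fixG, Fixes, List.map_cons, List.map_nil, List.mem_cons, List.not_mem_nil,
    or_false, forall_eq_or_imp, forall_eq]
  rw [U_eq, smul_add']
  constructor
  · rintro ⟨h1, h2⟩
    rw [h2] at h1
    exact ⟨by rw [add_right_cancel h1, h2], add_right_cancel h1⟩
  · rintro ⟨h1, h2⟩
    rw [h2] at h1
    exact ⟨by rw [h2, add_left_cancel h1], add_left_cancel h1⟩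

noncomputable def τ : MulAut Q :=
  (conjEquiv (toCo0 PT1) ([u0c, v0c].map DL)).trans (MulEquiv.subgroupCongr fix_eq)

theorem τ_val (x : Q) : (τ x).1 = toCo0 PT1 * x.1 * (toCo0 PT1)⁻¹ := rfl

theorem τ_a : τ a = a := by
  apply Subtype.ext
  rw [τ_val]
  have := wprod_eq_of_same (ws := [PT1, PA11]) (ws' := [PA11, PT1]) (gdl (by simp)) (gdl (by simp))
    rel_TA
  have h : toCo0 PT1 * toCo0 PA11 = toCo0 PA11 * toCo0 PT1 := by simpa [wprod] using this
  show toCo0 PT1 * toCo0 PA11 * (toCo0 PT1)⁻¹ = toCo0 PA11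
  rw [h, mul_inv_cancel_right]

theorem τ_u : τ u = u := by
  apply Subtype.ext
  rw [τ_val]
  have := wprod_eq_of_same (ws := [PT1, PU5]) (ws' := [PU5, PT1]) (gdl (by simp)) (gdl (by simp))
    rel_TU
  have h : toCo0 PT1 * toCo0 PU5 = toCo0 PU5 * toCo0 PT1 := by simpa [wprod] using this
  show toCo0 PT1 * toCo0 PU5 * (toCo0 PT1)⁻¹ = toCo0 PU5
  rw [h, mul_inv_cancel_right]

theorem τ_y : τ y = y⁻¹ := by
  apply Subtype.ext
  rw [τ_val]
  have := wprod_eq_of_same (ws := [PY0, PT1, PY0]) (ws' := [PT1]) (gdl (by simp)) (gdl (by simp))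
    rel_TY
  have h : toCo0 PY0 * (toCo0 PT1 * toCo0 PY0) = toCo0 PT1 := by simpa [wprod] using this
  show toCo0 PT1 * toCo0 PY0 * (toCo0 PT1)⁻¹ = (toCo0 PY0)⁻¹
  have h2 : toCo0 PT1 * toCo0 PY0 = (toCo0 PY0)⁻¹ * toCo0 PT1 := by
    conv_rhs => rw [← h]
    group
  rw [h2, mul_inv_cancel_right]

theorem τ_y_ne : τ y ≠ y := by
  rw [τ_y]
  intro h
  apply y2_ne
  calc y * y = y⁻¹ * y := by rw [h]
    _ = 1 := inv_mul_cancel y

/-! ### rigidity -/

noncomputable def syl (x z : Q) (es : List ℕ) : Q := (es.map (fun e => x ^ e * z)).prod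

theorem map_syl (ψ : MulAut Q) (x z : Q) (es : List ℕ) :
    ψ (syl x z es) = syl (ψ x) (ψ z) es := by
  unfold syl
  rw [map_list_prod, List.map_map]
  congr 1
  apply List.map_congr_left
  intro e _
  simp

theorem syl_val (k : ℕ) (z : Q) (zw : List ℕ) (hz : z.1 = wprod zw) (es : List ℕ) :
    (syl (a ^ k) z es).1 = wprod (wl k zw es) := by
  induction es with
  | nil => simp [syl, wl, wprod]
  | cons e es ih =>
    have h1 : syl (a ^ k) z (e :: es) = (a ^ k) ^ e * z * syl (a ^ k) z es := by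
      simp [syl]
    have h2 : wl k zw (e :: es) = (List.replicate (e * k) PA11 ++ zw) ++ wl k zw es := by
      simp [wl]
    rw [h1, h2, wprod_append, wprod_append, wprod_replicate, ← hz, ← ih, ← pow_mul,
      mul_comm k e]
    rfl

theorem wl_good (k i j : ℕ) (es : List ℕ) (o : ℕ) :
    ∀ P ∈ (List.replicate o (wl k (List.replicate i PU5 ++ List.replicate j PY0) es)).flatten,
      goodP P = true := by
  apply gdl
  intro P hP
  obtain ⟨l, hl, hP⟩ := List.mem_flatten.1 hP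
  rw [List.eq_of_mem_replicate hl] at hP
  obtain ⟨e, _, hP⟩ := List.mem_flatMap.1 hP
  rcases List.mem_append.1 hP with hP | hP
  · rw [List.eq_of_mem_replicate hP]; simp
  · rcases List.mem_append.1 hP with hP | hP
    · rw [List.eq_of_mem_replicate hP]; simp
    · rw [List.eq_of_mem_replicate hP]; simp

theorem rigid (ψ : MulAut Q) (ha : ψ a = a ^ 1 ∨ ψ a = a ^ (11 - 1)) (hu : ψ u = u) :
    ψ a = a ∧ (ψ y = y ∨ ψ y = τ y) := by
  have hcom : ψ y * u = u * ψ y := by
    conv_lhs => rw [← hu]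
    conv_rhs => rw [← hu]
    rw [← map_mul, ← map_mul, y_u]
  have hcom' : (ψ y)⁻¹ * u = u * (ψ y)⁻¹ := by
    calc (ψ y)⁻¹ * u = (ψ y)⁻¹ * (u * ψ y) * (ψ y)⁻¹ := by group
      _ = u * (ψ y)⁻¹ := by rw [← hcom]; group
  obtain ⟨z, hz, hzc⟩ := Helper33LOMCU.cent ((ψ y)⁻¹).1
    (mem_Zg.2 ⟨congrArg Subtype.val hcom', ((ψ y)⁻¹).2⟩)
  have hzy : (ψ y).1 = wprod z := by
    have h1 : wprod z * ((ψ y).1)⁻¹ = 1 := hzc
    exact (eq_of_mul_inv_eq_one h1).symm
  obtain ⟨i, hi, hz⟩ := List.mem_flatMap.1 hz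
  obtain ⟨j, hj, rfl⟩ := List.mem_map.1 hz
  obtain ⟨e, he, hae⟩ : ∃ e ∈ [1, 10], ψ a = a ^ e := by
    rcases ha with h | h
    · exact ⟨1, by simp, h⟩
    · exact ⟨10, by simp, h⟩
  rcases fp_all e he i (List.mem_range.1 hi) j (List.mem_range.1 hj) with ⟨rfl, rfl, hj'⟩ | ⟨es, o, e1, e2⟩
  · refine ⟨by rw [hae, pow_one], ?_⟩
    rcases hj' with rfl | rfl
    · left
      apply Subtype.ext
      rw [hzy]
      simp [wprod, y]
    · right
      rw [τ_y]
      have h4 : y ^ 4 = y⁻¹ := by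
        apply eq_inv_of_mul_eq_one_left
        rw [← pow_succ]; exact y5
      rw [← h4]
      apply Subtype.ext
      rw [hzy, wprod_append, wprod_replicate, wprod_replicate, pow_zero, one_mul]
      rfl
  · exfalso
    have f1 : syl a y es ^ o = 1 := by
      apply Subtype.ext
      have := wprod_eq_one (wl_good 1 0 1 es o) e1
      rw [wprod_flatten, ← syl_val 1 y _ (by simp [wprod, y]), pow_one] at this
      exact this
    have f2 : syl (a ^ e) (ψ y) es ^ o ≠ 1 := by
      intro h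
      apply wprod_ne_of_notOne (wl_good e i j es o) e2
      rw [wprod_flatten, ← syl_val e (ψ y) _ hzy]
      exact congrArg Subtype.val h
    apply f2
    have h3 := map_syl ψ a y es
    rw [hae] at h3
    rw [← h3, ← map_pow, f1, map_one]

theorem card_Q : Nat.card Q = 898128000 := Helper33LOrders.goodMcL.2

theorem fact11 : (Nat.card Q).factorization 11 = 1 := by
  rw [card_Q]
  have h : (898128000 : ℕ) = 11 * 81648000 := by norm_num
  rw [h, Nat.factorization_mul (by norm_num) (by norm_num), Finsupp.add_apply,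
    Nat.Prime.factorization_self (by norm_num),
    Nat.factorization_eq_zero_of_not_dvd (by norm_num)]

theorem card_out : Nat.card (Cfsg.Out Q) = 2 := by
  have : Fact (Nat.Prime 11) := ⟨by norm_num⟩
  have : Finite Q := Nat.finite_of_card_ne_zero (by rw [card_Q]; norm_num)
  have hT : ∀ k < 11, k ≠ 0 → ∃ i < 5, ((k * 3 ^ i) % 11 = 1 ∨ (k * 3 ^ i) % 11 = 11 - 1) := by
    decide
  exact Helper33OutC.out_two_of_data 11 fact11 a u y order_a 3 u_a cent_a
    (fun k hk h0 => by obtain ⟨i, _, hi⟩ := hT k hk h0; exact ⟨i, hi⟩)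
    (fun j _ => ⟨6 * j, by omega⟩) (by decide) τ τ_a τ_u τ_y_ne gen rigid

end Cfsg.Agent.Lib.Helper33LOMF
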