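import Cfsg.Agent.Lib.Helper33LM22
import Cfsg.Agent.Lib.Helper33LM2025
import Cfsg.Agent.Lib.Helper33LHS2

/-! # Order and simplicity of the Higman–Sims, McLaughlin and third Conway groups (helper33) -/

set_option autoImplicit false
set_option exponentiation.threshold 2000

namespace Cfsg.Agent.Lib.Helper33LOrders

open Cfsg Cfsg.Agent.Lib.Helper33Golay Cfsg.Agent.Lib.Helper33LVec Cfsg.Agent.Lib.Helper33LCo0
open Cfsg.Agent.Lib.Helper33LPair Cfsg.Agent.Lib.Helper33LFrame Cfsg.Agent.Lib.Helper33LGood
open Cfsg.Agent.Lib.Helper33LBase Cfsg.Agent.Lib.Helper33LCo2 Cfsg.Agent.Lib.Helper33LMcL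
open Cfsg.Agent.Lib.Helper33LHS Cfsg.Agent.Lib.Helper33LM22 Cfsg.Agent.Lib.Helper33LM2025
open Cfsg.Agent.Lib.Helper33LFrame2

/-! ### Higman–Sims -/

set_option maxRecDepth 100000 in
theorem len1V : (Helper33LL24.lst.filter (fun m => cH 32 m && cV 40 m)).length = 1 := by
  decide +kernel

theorem n1V : (C [DL u0c, DL xhc, DL v0c] [24, 0, 32]).ncard = 1 := by
  have := base_ncard [u0c, xhc, v0c] (fun b hb => (okUHV b hb).2) [24, 0, 32] _ (hc100k 40 32 (by norm_num))
  rw [filter_and _ _ _ Helper33LL24.lst_eq, len1V] at this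
  exact this

theorem normV : sqNorm ((DL v0c : LV) : GolayPt → ℤ) = 32 := V_mem.1

theorem goodHS : Good [DL u0c, DL xhc] 44352000 := by
  have := good_step (ι := Fin 3) [DL u0c, DL xhc] [24, 0] rfl (DL v0c) V_mem100 T100 TV
    ![32, 8, 16] (by decide) ![1, 22, 77] 0 rfl
    (by
      intro i
      fin_cases i
      exacts [n1V, n22, n77])
    (by decide)
    (by
      intro y hy
      rcases valsV_spec y hy with h | h | h
      · exact ⟨0, by rw [h, dot_self]; exact normV⟩
      · exact ⟨1, h⟩
      · exact ⟨2, h⟩)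
    443520 (by norm_num) good_FB 1 (by decide) 5 2 (by norm_num) (by norm_num) (by norm_num)
    (by decide) (by decide) (by decide) (by decide)
  exact this

/-! ### McLaughlin -/

theorem fM : ∀ i < 24, (fld xmc i : ℤ) - 16 = -((fld xhc i : ℤ) - 16) := by decide +kernel

theorem M_eq : DL xmc = -DL xhc := by
  apply Subtype.ext
  funext p
  show ((DL xmc : LV) : GolayPt → ℤ) p = -((DL xhc : LV) : GolayPt → ℤ) p
  rw [DL_coe okM.2, DL_coe okH.2]
  exact fM _ (idx_lt p)

theorem fixG_M : fixG FB = fixG [DL u0c, DL v0c, DL xmc] := by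
  ext g
  simp only [mem_fixG, Fixes, List.mem_cons, List.not_mem_nil, or_false, forall_eq_or_imp, forall_eq]
  rw [M_eq, smul_neg', neg_inj]
  tauto

set_option maxRecDepth 100000 in
theorem len1M : (Helper33LL2025.lst.filter (cM 40)).length = 1 := by decide +kernel

def valsM (m : ℕ) : Bool :=
  Nat.beq m xmc || Nat.beq (kM m) 32 || Nat.beq (kM m) 34 || Nat.beq (kM m) 36

set_option maxRecDepth 1000000 in
theorem valsM_chk : Helper33LL2025.lst.all (fun m => !Helper33LR2025.q m || valsM m) = true := by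
  decide +kernel

theorem valsM_spec (y : LV) (hy : y ∈ C [DL u0c, DL v0c] [16, 0]) : y = DL xmc ∨
    dotInt ((DL xmc : LV) : GolayPt → ℤ) (y : GolayPt → ℤ) = 0 ∨
    dotInt ((DL xmc : LV) : GolayPt → ℤ) (y : GolayPt → ℤ) = 8 ∨
    dotInt ((DL xmc : LV) : GolayPt → ℤ) (y : GolayPt → ℤ) = 16 := by
  have h := base_forall [u0c, v0c] (fun b hb => (ok2 b hb).2) [16, 0] _ hcb' valsM
    (forall_of_lst _ _ _ _ Helper33LL2025.lst_eq valsM_chk) y hy
  have hd := dot_of_cls xmc okM.2 kM (fun m hm => kM_eq m hm) y hy.1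
  unfold valsM at h
  simp only [Bool.or_eq_true, Nat.beq_eq] at h
  rcases h with ((h | h) | h) | h
  · left; rw [← (code_facts y hy.1).2.2.2, h]
  all_goals (rw [h] at hd; norm_num at hd; simp [hd])

theorem goodMcL : Good [DL u0c, DL v0c] 898128000 := by
  have := good_step (ι := Fin 4) [DL u0c, DL v0c] [16, 0] rfl (DL xmc) M_mem T2025 TM
    ![32, 0, 16, 8] (by decide) ![1, 330, 462, 1232] 0 rfl
    (by
      intro i
      fin_cases i
      exacts [nM 40 1 32 (by norm_num) len1M, nM 32 330 0 (by norm_num) len330,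
        nM 36 462 16 (by norm_num) len462, nM 34 1232 8 (by norm_num) len1232])
    (by decide)
    (by
      intro y hy
      rcases valsM_spec y hy with h | h | h | h
      · exact ⟨0, by rw [h, dot_self]; exact M_mem.1⟩
      · exact ⟨1, h⟩
      · exact ⟨3, h⟩
      · exact ⟨2, h⟩)
    443520 (by norm_num) (good_congr fixG_M good_FB) 1 (by decide) 5 3 (by norm_num) (by norm_num)
    (by norm_num) (by decide) (by decide) (by decide) (by decide)
  exact this

/-! ### the third Conway group -/

set_option maxRecDepth 1000000 in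
theorem len1H : (Helper33LLm16.lst.filter (cH 40)).length = 1 := by decide +kernel

theorem goodCo3 : Good [DL u0c] 495766656000 := by
  have := good_step (ι := Fin 5) [DL u0c] [-16] rfl (DL xhc) H_mem T11178 TH
    ![32, -8, 16, 0, 8] (by decide) ![1, 352, 1100, 4125, 5600] 0 rfl
    (by
      intro i
      fin_cases i
      exacts [nH 40 1 32 (by norm_num) len1H, nH 30 352 (-8) (by norm_num) len352,
        nH 36 1100 16 (by norm_num) len1100, nH 32 4125 0 (by norm_num) len4125,
        nH 34 5600 8 (by norm_num) len5600])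
    (by decide)
    (by
      intro y hy
      rcases valsH_spec y hy with h | h | h | h | h
      · exact ⟨0, by rw [h, dot_self]; exact H_mem.1⟩
      · exact ⟨1, h⟩
      · exact ⟨3, h⟩
      · exact ⟨4, h⟩
      · exact ⟨2, h⟩)
    44352000 (by norm_num) goodHS 1 (by decide) 23 2 (by norm_num) (by norm_num)
    (by norm_num) (by decide) (by decide) (by decide +kernel) (by decide +kernel)
  exact this

end Cfsg.Agent.Lib.Helper33LOrders
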