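import Cfsg.Agent.Lib.Helper33Golay

/-!
# Orbit certificates on masks, and a maximality criterion (helper33)
-/

set_option autoImplicit false

namespace Cfsg.Agent.Lib.Helper33Orbit

open Cfsg Cfsg.Agent.Lib.Helper33Golay
open scoped Pointwise

/-- generic descent certificate: every mask satisfying `X` is carried by `H` to the root of its class -/
theorem reach (H : Subgroup (Equiv.Perm GolayPt)) (X : ℕ → Prop) (cls rootOf rank step : ℕ → ℕ)
    (hstep : ∀ m, X m → ∃ g ∈ H, g • dec m = dec (step m))
    (hcheck : ∀ m, X m → m = rootOf (cls m) ∨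
      (X (step m) ∧ cls (step m) = cls m ∧ rank (step m) < rank m)) :
    ∀ m, X m → ∃ g ∈ H, g • dec m = dec (rootOf (cls m)) := by
  intro m
  induction h : rank m using Nat.strong_induction_on generalizing m with
  | _ n ih =>
    intro hm
    rcases hcheck m hm with h0 | ⟨h1, h2, h3⟩
    · exact ⟨1, H.one_mem, by rw [one_smul, ← h0]⟩
    · obtain ⟨g, hg, hgm⟩ := hstep m hm
      obtain ⟨g', hg', hgm'⟩ := ih _ (h ▸ h3) (step m) rfl h1
      exact ⟨g' * g, H.mul_mem hg' hg, by rw [mul_smul, hgm, hgm', h2]⟩

/-- entry `i` of a packed table with 12 bits per entry -/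
def tblEnt (T i : ℕ) : ℕ := Nat.land (Nat.shiftRight T (Nat.mul 12 i)) 4095

/-- one descent step: apply the generator selected by the table -/
def stepT (gens : List ℕ) (T : ℕ) (index : ℕ → ℕ) (m : ℕ) : ℕ :=
  app (gens.getD (Nat.mod (tblEnt T (index m)) 16) idP) m

/-- the Bool check for one mask -/
def chk (gens : List ℕ) (T : ℕ) (index : ℕ → ℕ) (X : ℕ → Bool) (cls rootOf : ℕ → ℕ) (m : ℕ) : Bool :=
  Nat.beq m (rootOf (cls m)) ||
    (X (stepT gens T index m) && Nat.beq (cls (stepT gens T index m)) (cls m) &&
      Nat.blt (Nat.div (tblEnt T (index (stepT gens T index m))) 16) (Nat.div (tblEnt T (index m)) 16))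

theorem getD_mem_or (gens : List ℕ) (k : ℕ) : gens.getD k idP ∈ gens ∨ gens.getD k idP = idP := by
  by_cases h : k < gens.length
  · left; rw [List.getD_eq_getElem _ _ h]; exact List.getElem_mem h
  · right; exact List.getD_eq_default _ _ (by omega)

/-- **orbit certificate**: if all generators lie in `H` and the table check passes on a list
enumerating `X`, then two masks of the same class are in one `H`-orbit. -/
theorem reach_of_chk (H : Subgroup (Equiv.Perm GolayPt)) (gens : List ℕ) (T : ℕ) (index : ℕ → ℕ)
    (X : ℕ → Bool) (cls rootOf : ℕ → ℕ) (L : List ℕ)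
    (hgens : ∀ P ∈ gens, validPerm P = true ∧ toPerm P ∈ H)
    (hL : ∀ m, X m = true → m ∈ L)
    (hchk : L.all (chk gens T index X cls rootOf) = true) :
    ∀ a b, X a = true → X b = true → cls a = cls b → ∃ g ∈ H, g • dec a = dec b := by
  have key : ∀ m, X m = true → ∃ g ∈ H, g • dec m = dec (rootOf (cls m)) := by
    apply reach H (fun m => X m = true) cls rootOf
      (fun m => Nat.div (tblEnt T (index m)) 16) (stepT gens T index)
    · intro m _
      rcases getD_mem_or gens (Nat.mod (tblEnt T (index m)) 16) with h | h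
      · exact ⟨_, (hgens _ h).2, smul_dec (hgens _ h).1 m⟩
      · refine ⟨1, H.one_mem, ?_⟩
        unfold stepT
        rw [h, ← smul_dec idP_valid, toPerm_idP]
    · intro m hm
      have := List.all_eq_true.1 hchk m (hL m hm)
      unfold chk at this
      rw [Bool.or_eq_true] at this
      rcases this with h | h
      · left; exact Nat.eq_of_beq_eq_true h
      · right
        rw [Bool.and_eq_true, Bool.and_eq_true] at h
        exact ⟨h.1.1, Nat.eq_of_beq_eq_true h.1.2, by simpa [Nat.blt] using h.2⟩
  intro a b ha hb hab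
  obtain ⟨g, hg, h1⟩ := key a ha
  obtain ⟨g', hg', h2⟩ := key b hb
  refine ⟨g'⁻¹ * g, H.mul_mem (H.inv_mem hg') hg, ?_⟩
  rw [mul_smul, h1, hab, ← h2, inv_smul_smul]

end Cfsg.Agent.Lib.Helper33Orbit
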