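import Cfsg.Agent.Lib.Helper33LMin
import Cfsg.Agent.Lib.Helper33Orbit

/-! # Orbit certificates and counting for packed lattice vectors (helper33) -/

set_option autoImplicit false
set_option exponentiation.threshold 2000

namespace Cfsg.Agent.Lib.Helper33LReach

open Cfsg Cfsg.Agent.Lib.Helper33Golay Cfsg.Agent.Lib.Helper33Pack Cfsg.Agent.Lib.Helper33LVec
open Cfsg.Agent.Lib.Helper33LMat Cfsg.Agent.Lib.Helper33LTest Cfsg.Agent.Lib.Helper33LCo0
open Cfsg.Agent.Lib.Helper33Orbit (tblEnt)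

theorem getD_mem_or' (gens : List ℕ) (k d : ℕ) : gens.getD k d ∈ gens ∨ gens.getD k d = d := by
  by_cases h : k < gens.length
  · left; rw [List.getD_eq_getElem _ _ h]; exact List.getElem_mem h
  · right; exact List.getD_eq_default _ _ (by omega)

theorem reachG {G α : Type*} [Group G] [MulAction G α] (Dd : ℕ → α) (H : Subgroup G) (X : ℕ → Prop)
    (cls rootOf rank step : ℕ → ℕ)
    (hcheck : ∀ m, X m → m = rootOf (cls m) ∨
      ((∃ g ∈ H, g • Dd m = Dd (step m)) ∧ X (step m) ∧ cls (step m) = cls m ∧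
        rank (step m) < rank m)) :
    ∀ m, X m → ∃ g ∈ H, g • Dd m = Dd (rootOf (cls m)) := by
  intro m
  induction h : rank m using Nat.strong_induction_on generalizing m with
  | _ n ih =>
    intro hm
    rcases hcheck m hm with h0 | ⟨⟨g, hg, hgm⟩, h1, h2, h3⟩
    · exact ⟨1, H.one_mem, by rw [one_smul, ← h0]⟩
    · obtain ⟨g', hg', hgm'⟩ := ih _ (h ▸ h3) (step m) rfl h1
      exact ⟨g' * g, H.mul_mem hg' hg, by rw [mul_smul, hgm, hgm', h2]⟩

/-- perfect hash: `(X mod (p2 + displacement (X mod p1))) mod msz` -/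
def hidx (p1 p2 msz Dt X : ℕ) : ℕ :=
  Nat.mod (Nat.mod X (Nat.add p2 (Nat.land (Nat.shiftRight Dt (Nat.mul 16 (Nat.mod X p1))) 65535))) msz

def selP (gens : List ℕ) (dflt : ℕ) (ent : ℕ → ℕ) (m : ℕ) : ℕ :=
  gens.getD (Nat.mod (ent m) 16) dflt

def stepL (gens : List ℕ) (dflt : ℕ) (ent : ℕ → ℕ) (m : ℕ) : ℕ :=
  outOf (selP gens dflt ent m) m

/-- `ent m = 16 * rank + (index of the generator to apply)` -/
def chkL (gens : List ℕ) (dflt : ℕ) (ent cls rootOf : ℕ → ℕ) (m : ℕ) : Bool :=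
  Nat.beq m (rootOf (cls m)) ||
    (stepOK (selP gens dflt ent m) m (stepL gens dflt ent m) &&
      Nat.beq (cls (stepL gens dflt ent m)) (cls m) &&
      Nat.blt (Nat.div (ent (stepL gens dflt ent m)) 16) (Nat.div (ent m) 16))

theorem reach_of_chkL (H : Subgroup ↥Co0) (S : Set (GolayPt → ℤ)) (gens : List ℕ) (dflt : ℕ)
    (ent cls rootOf : ℕ → ℕ)
    (hgens : ∀ P ∈ dflt :: gens, goodP P = true ∧ toCo0 P ∈ H)
    (hS : ∀ x ∈ S, x ∈ leechLattice)
    (hinv : ∀ g ∈ H, ∀ v : ↥leechLattice, (v : GolayPt → ℤ) ∈ S →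
      ((g • v : ↥leechLattice) : GolayPt → ℤ) ∈ S)
    (hchk : ∀ m, InR m → D m ∈ S → chkL gens dflt ent cls rootOf m = true) :
    ∀ a b, InR a → D a ∈ S → InR b → D b ∈ S → cls a = cls b → ∃ g ∈ H, g • DL a = DL b := by
  have key : ∀ m, (InR m ∧ D m ∈ S) → ∃ g ∈ H, g • DL m = DL (rootOf (cls m)) := by
    apply reachG DL H (fun m => InR m ∧ D m ∈ S) cls rootOf
      (fun m => Nat.div (ent m) 16) (stepL gens dflt ent)
    rintro m ⟨hm, hmS⟩
    have := hchk m hm hmS
    unfold chkL at this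
    rw [Bool.or_eq_true] at this
    rcases this with h | h
    · left; exact Nat.eq_of_beq_eq_true h
    · right
      rw [Bool.and_eq_true, Bool.and_eq_true] at h
      have hmem : selP gens dflt ent m ∈ dflt :: gens := by
        unfold selP
        rcases getD_mem_or' gens (Nat.mod (ent m) 16) dflt with h | h
        · exact List.mem_cons_of_mem _ h
        · rw [h]; exact List.mem_cons_self
      obtain ⟨hgood, hH⟩ := hgens _ hmem
      obtain ⟨ho, hoL, hsm⟩ := toCo0_smul_DL hgood hm (hS _ hmS) h.1.1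
      refine ⟨⟨_, hH, hsm⟩, ⟨ho, ?_⟩, Nat.eq_of_beq_eq_true h.1.2, by simpa [Nat.blt] using h.2⟩
      have := hinv _ hH (DL m) (by rw [DL_coe (hS _ hmS)]; exact hmS)
      rw [hsm, DL_coe hoL] at this
      exact this
  intro a b ha haS hb hbS hab
  obtain ⟨g, hg, h1⟩ := key a ⟨ha, haS⟩
  obtain ⟨g', hg', h2⟩ := key b ⟨hb, hbS⟩
  refine ⟨g'⁻¹ * g, H.mul_mem (H.inv_mem hg') hg, ?_⟩
  rw [mul_smul, h1, hab, ← h2, inv_smul_smul]

theorem all_of_chunks {α : Type*} (f : α → Bool) (s : ℕ) : ∀ (K : ℕ) (L : List α), L.length ≤ K * s →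
    (∀ j < K, ((L.drop (j * s)).take s).all f = true) → L.all f = true := by
  intro K
  induction K with
  | zero =>
    intro L hL _
    have : L = [] := List.length_eq_zero_iff.1 (by omega)
    rw [this]; rfl
  | succ K ih =>
    intro L hL h
    rw [← List.take_append_drop s L, List.all_append, Bool.and_eq_true]
    constructor
    · have := h 0 (by omega)
      simpa using this
    · apply ih
      · rw [List.length_drop]
        have : (K + 1) * s = K * s + s := by ring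
        omega
      · intro j hj
        have := h (j + 1) (by omega)
        rw [List.drop_drop]
        have e : s + j * s = (j + 1) * s := by ring
        rw [e]; exact this

theorem DL_code (v : ↥leechLattice) (h : ∀ p, -16 ≤ (v : GolayPt → ℤ) p ∧ (v : GolayPt → ℤ) p < 16) :
    DL (code (v : GolayPt → ℤ)) = v := by
  apply Subtype.ext
  have := D_code _ h
  rw [DL_coe (by rw [this]; exact v.2), this]

/-! ### norms -/

def sqsum (X : ℕ) : ℕ :=
  Nat.add (Nat.add (Nat.add (Nat.add (Nat.add (Nat.add (Nat.add (Nat.add (Nat.add (Nat.add (Nat.add (Nat.add (Nat.add (Nat.add (Nat.add (Nat.add (Nat.add (Nat.add (Nat.add (Nat.add (Nat.add (Nat.add (Nat.add (Nat.add (0) (Nat.mul (fld X 0) (fld X 0))) (Nat.mul (fld X 1) (fld X 1))) (Nat.mul (fld X 2) (fld X 2))) (Nat.mul (fld X 3) (fld X 3))) (Nat.mul (fld X 4) (fld X 4))) (Nat.mul (fld X 5) (fld X 5))) (Nat.mul (fld X 6) (fld X 6))) (Nat.mul (fld X 7) (fld X 7))) (Nat.mul (fld X 8) (fld X 8))) (Nat.mul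 (fld X 9) (fld X 9))) (Nat.mul (fld X 10) (fld X 10))) (Nat.mul (fld X 11) (fld X 11))) (Nat.mul (fld X 12) (fld X 12))) (Nat.mul (fld X 13) (fld X 13))) (Nat.mul (fld X 14) (fld X 14))) (Nat.mul (fld X 15) (fld X 15))) (Nat.mul (fld X 16) (fld X 16))) (Nat.mul (fld X 17) (fld X 17))) (Nat.mul (fld X 18) (fld X 18))) (Nat.mul (fld X 19) (fld X 19))) (Nat.mul (fld X 20) (fld X 20))) (Nat.mul (fld X 21) (fld X 21))) (Nat.mul (fld X 22) (fld X 22))) (Nat.mul (fld X 23) (fld X 23))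

theorem sqsum_eq (X : ℕ) : sqsum X = ∑ i ∈ Finset.range 24, fld X i * fld X i := by
  simp only [Finset.sum_range_succ, Finset.sum_range_zero]
  rfl

/-- the sum of squares of the vector coded by `X` is `n` -/
def normB (n X : ℕ) : Bool := Nat.beq (Nat.add (sqsum X) 6144) (Nat.add n (Nat.mul 32 (fsum X)))

theorem sqNorm_D (X : ℕ) (hX : InR X) : sqNorm (D X) = (sqsum X : ℤ) + 6144 - 32 * (fsum X : ℤ) := by
  unfold sqNorm D
  rw [sum_pt (fun i => ((fld X i : ℤ) - 16) ^ 2), sqsum_eq, fsum_eq X hX]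
  have e : ∀ i, ((fld X i : ℤ) - 16) ^ 2 = (fld X i : ℤ) * (fld X i : ℤ) - 32 * (fld X i : ℤ) + 256 :=
    fun i => by ring
  simp only [e]
  rw [Finset.sum_add_distrib, Finset.sum_sub_distrib, ← Finset.mul_sum, Finset.sum_const,
    Finset.card_range]
  push_cast
  ring

theorem normB_iff (n X : ℕ) (hX : InR X) : normB n X = true ↔ sqNorm (D X) = n := by
  rw [sqNorm_D X hX]
  unfold normB
  rw [Nat.beq_eq]
  show sqsum X + 6144 = n + 32 * fsum X ↔ _
  omega

/-! ### counting -/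

theorem ncard_of_list (S : Set (GolayPt → ℤ)) (L : List ℕ) (hnd : L.Nodup)
    (hsound : ∀ c ∈ L, InR c ∧ D c ∈ S) (hcomp : ∀ x ∈ S, code x ∈ L ∧ D (code x) = x) :
    S.ncard = L.length := by
  have : S = D '' (↑L.toFinset : Set ℕ) := by
    ext x
    constructor
    · intro hx
      exact ⟨code x, by simpa using (hcomp x hx).1, (hcomp x hx).2⟩
    · rintro ⟨c, hc, rfl⟩
      exact (hsound c (by simpa using hc)).2
  rw [this, Set.InjOn.ncard_image, Set.ncard_coe_finset, List.toFinset_card_of_nodup hnd]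
  intro a ha b hb hab
  exact D_injOn (hsound a (by simpa using ha)).1 (hsound b (by simpa using hb)).1 hab

theorem ncard_subtype (P : (GolayPt → ℤ) → Prop) :
    {v : ↥leechLattice | P (v : GolayPt → ℤ)}.ncard = {x : GolayPt → ℤ | x ∈ leechLattice ∧ P x}.ncard := by
  rw [← Set.ncard_image_of_injective _ Subtype.val_injective]
  congr 1
  ext x
  constructor
  · rintro ⟨v, hv, rfl⟩; exact ⟨v.2, hv⟩
  · rintro ⟨hx, hP⟩; exact ⟨⟨x, hx⟩, hP, rfl⟩

end Cfsg.Agent.Lib.Helper33LReach
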