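import Cfsg.Agent.Lib.Helper33LMinTrans

/-! # Orbit certificates for subgroups fixing given lattice vectors (helper33) -/

set_option autoImplicit false
set_option exponentiation.threshold 2000

namespace Cfsg.Agent.Lib.Helper33LReach2

open Cfsg Cfsg.Agent.Lib.Helper33Golay Cfsg.Agent.Lib.Helper33Pack Cfsg.Agent.Lib.Helper33LVec
open Cfsg.Agent.Lib.Helper33LMat Cfsg.Agent.Lib.Helper33LTest Cfsg.Agent.Lib.Helper33LCo0
open Cfsg.Agent.Lib.Helper33LMin Cfsg.Agent.Lib.Helper33LReach Cfsg.Agent.Lib.Helper33Sets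
open Cfsg.Agent.Lib.Helper33LMinTrans

theorem reachR {G α : Type*} [Group G] [MulAction G α] (Dd : ℕ → α) (H : Subgroup G) (X : ℕ → Prop)
    (cls rootOf rank : ℕ → ℕ)
    (hcheck : ∀ m, X m → m = rootOf (cls m) ∨
      ∃ o, (∃ g ∈ H, g • Dd m = Dd o) ∧ X o ∧ cls o = cls m ∧ rank o < rank m) :
    ∀ m, X m → ∃ g ∈ H, g • Dd m = Dd (rootOf (cls m)) := by
  intro m
  induction h : rank m using Nat.strong_induction_on generalizing m with
  | _ n ih =>
    intro hm
    rcases hcheck m hm with h0 | ⟨o, ⟨g, hg, hgm⟩, h1, h2, h3⟩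
    · exact ⟨1, H.one_mem, by rw [one_smul, ← h0]⟩
    · obtain ⟨g', hg', hgm'⟩ := ih _ (h ▸ h3) o rfl h1
      exact ⟨g' * g, H.mul_mem hg' hg, by rw [mul_smul, hgm, hgm', h2]⟩

/-- apply `F` to the `k`-th element of the list -/
def findP (F : ℕ → Bool) : List ℕ → ℕ → Bool
  | [], _ => false
  | P :: l, k => bif Nat.beq k 0 then F P else findP F l (Nat.sub k 1)

theorem findP_spec (F : ℕ → Bool) : ∀ (l : List ℕ) (k : ℕ), findP F l k = true → ∃ P ∈ l, F P = true := by
  intro l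
  induction l with
  | nil => intro k h; simp [findP] at h
  | cons P l ih =>
    intro k h
    unfold findP at h
    cases hk : Nat.beq k 0
    · rw [hk, cond_false] at h
      obtain ⟨Q, hQ, hF⟩ := ih _ h
      exact ⟨Q, List.mem_cons_of_mem _ hQ, hF⟩
    · rw [hk, cond_true] at h
      exact ⟨P, List.mem_cons_self, h⟩

def chkP (ent cls : ℕ → ℕ) (m P : ℕ) : Bool :=
  stepOK P m (outOf P m) && Nat.beq (cls (outOf P m)) (cls m) &&
    Nat.blt (Nat.div (ent (outOf P m)) 16) (Nat.div (ent m) 16)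

/-- `ent m = 16 * rank + (index of the generator to apply)` -/
def chkM (gens : List ℕ) (ent cls rootOf : ℕ → ℕ) (m : ℕ) : Bool :=
  Nat.beq m (rootOf (cls m)) || findP (chkP ent cls m) gens (Nat.mod (ent m) 16)

theorem reach_of_chkM (H : Subgroup ↥Co0) (S : Set (GolayPt → ℤ)) (gens : List ℕ)
    (ent cls rootOf : ℕ → ℕ)
    (hgens : ∀ P ∈ gens, goodP P = true ∧ toCo0 P ∈ H)
    (hS : ∀ x ∈ S, x ∈ leechLattice)
    (hinv : ∀ g ∈ H, ∀ v : ↥leechLattice, (v : GolayPt → ℤ) ∈ S →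
      ((g • v : ↥leechLattice) : GolayPt → ℤ) ∈ S)
    (hchk : ∀ m, InR m → D m ∈ S → chkM gens ent cls rootOf m = true) :
    ∀ a b, InR a → D a ∈ S → InR b → D b ∈ S → cls a = cls b → ∃ g ∈ H, g • DL a = DL b := by
  have key : ∀ m, (InR m ∧ D m ∈ S) → ∃ g ∈ H, g • DL m = DL (rootOf (cls m)) := by
    apply reachR DL H (fun m => InR m ∧ D m ∈ S) cls rootOf (fun m => Nat.div (ent m) 16)
    rintro m ⟨hm, hmS⟩
    have := hchk m hm hmS
    unfold chkM at this
    rw [Bool.or_eq_true] at this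
    rcases this with h | h
    · left; exact Nat.eq_of_beq_eq_true h
    · right
      obtain ⟨P, hP, h⟩ := findP_spec _ _ _ h
      unfold chkP at h
      rw [Bool.and_eq_true, Bool.and_eq_true] at h
      obtain ⟨hgood, hH⟩ := hgens _ hP
      obtain ⟨ho, hoL, hsm⟩ := toCo0_smul_DL hgood hm (hS _ hmS) h.1.1
      refine ⟨outOf P m, ⟨_, hH, hsm⟩, ⟨ho, ?_⟩, Nat.eq_of_beq_eq_true h.1.2,
        by simpa [Nat.blt] using h.2⟩
      have := hinv _ hH (DL m) (by rw [DL_coe (hS _ hmS)]; exact hmS)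
      rw [hsm, DL_coe hoL] at this
      exact this
  intro a b ha haS hb hbS hab
  obtain ⟨g, hg, h1⟩ := key a ⟨ha, haS⟩
  obtain ⟨g', hg', h2⟩ := key b ⟨hb, hbS⟩
  refine ⟨g'⁻¹ * g, H.mul_mem (H.inv_mem hg') hg, ?_⟩
  rw [mul_smul, h1, hab, ← h2, inv_smul_smul]

/-- version for lattice vectors -/
theorem reach_vec (H : Subgroup ↥Co0) (S : Set (GolayPt → ℤ)) (gens : List ℕ)
    (ent cls rootOf : ℕ → ℕ)
    (hgens : ∀ P ∈ gens, goodP P = true ∧ toCo0 P ∈ H)
    (hS : ∀ x ∈ S, x ∈ leechLattice ∧ ∀ p, -16 ≤ x p ∧ x p < 16)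
    (hinv : ∀ g ∈ H, ∀ v : ↥leechLattice, (v : GolayPt → ℤ) ∈ S →
      ((g • v : ↥leechLattice) : GolayPt → ℤ) ∈ S)
    (hchk : ∀ m, InR m → D m ∈ S → chkM gens ent cls rootOf m = true)
    (v w : ↥leechLattice) (hv : (v : GolayPt → ℤ) ∈ S) (hw : (w : GolayPt → ℤ) ∈ S)
    (hc : cls (code (v : GolayPt → ℤ)) = cls (code (w : GolayPt → ℤ))) : ∃ g ∈ H, g • v = w := by
  have hbv := (hS _ hv).2
  have hbw := (hS _ hw).2
  obtain ⟨g, hg, h⟩ := reach_of_chkM H S gens ent cls rootOf hgens (fun x hx => (hS x hx).1) hinv hchk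
    (code v.1) (code w.1) (InR_code _ hbv) (by rw [D_code _ hbv]; exact hv)
    (InR_code _ hbw) (by rw [D_code _ hbw]; exact hw) hc
  rw [DL_code v hbv, DL_code w hbw] at h
  exact ⟨g, hg, h⟩

/-! ### quantifying over the minimal vectors -/

def allA (cond chk : ℕ → Bool) : Bool :=
  duadL.all (fun d => (subs d).all (fun N => !cond (mkS 4 d N) || chk (mkS 4 d N)))

def fB (cond chk : ℕ → Bool) (o : ℕ) : Bool :=
  (subs o).all (fun N => !cond (mkS 2 o N) || Nat.beq (Nat.mod (pop N) 2) 1 || chk (mkS 2 o N))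

def fC (cond chk : ℕ → Bool) (k : ℕ) : Bool :=
  (List.range 24).all (fun q => !cond (mkC (encode k) q) || chk (mkC (encode k) q))

theorem forall_minL (cond chk : ℕ → Bool) (hA : allA cond chk = true)
    (hB : octL.all (fB cond chk) = true) (hC : (List.range 4096).all (fC cond chk) = true) :
    ∀ m ∈ minL, cond m = true → chk m = true := by
  intro m hm hc
  unfold minL at hm
  rw [List.mem_append, List.mem_append] at hm
  rcases hm with (hm | hm) | hm
  · unfold minA at hm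
    obtain ⟨d, hd, hm⟩ := List.mem_flatMap.1 hm
    obtain ⟨N, hN, rfl⟩ := List.mem_map.1 hm
    have := List.all_eq_true.1 (List.all_eq_true.1 hA d hd) N hN
    rw [hc] at this
    simpa using this
  · unfold minB at hm
    obtain ⟨o, ho, hm⟩ := List.mem_flatMap.1 hm
    obtain ⟨N, hN, rfl⟩ := List.mem_map.1 hm
    rw [List.mem_filter] at hN
    have := List.all_eq_true.1 (List.all_eq_true.1 hB o ho) N hN.1
    have h0 : Nat.mod (pop N) 2 = 0 := Nat.eq_of_beq_eq_true hN.2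
    have h1 : Nat.beq 0 1 = false := rfl
    rw [hc, h0, h1] at this
    simpa using this
  · unfold minC at hm
    obtain ⟨k, hk, hm⟩ := List.mem_flatMap.1 hm
    obtain ⟨q, hq, rfl⟩ := List.mem_map.1 hm
    have := List.all_eq_true.1 (List.all_eq_true.1 hC k hk) q hq
    rw [hc] at this
    simpa using this

/-- a checked generator fixing a coded vector -/
theorem toCo0_fix {P b : ℕ} (hP : goodP P = true) (hb : InR b) (hbL : D b ∈ leechLattice)
    (h : stepOK P b b = true) : toCo0 P • DL b = DL b := (toCo0_smul_DL hP hb hbL h).2.2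

end Cfsg.Agent.Lib.Helper33LReach2
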