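import Cfsg.Agent.Lib.Helper33LSoundChk0
import Cfsg.Agent.Lib.Helper33LSoundChk1
import Cfsg.Agent.Lib.Helper33LSoundChk2
import Cfsg.Agent.Lib.Helper33LSoundChk3
import Cfsg.Agent.Lib.Helper33LNodup
import Cfsg.Agent.Lib.Helper33LCo2Thy

/-! # Soundness of the list of minimal vectors, and counting subsets of them (helper33) -/

set_option autoImplicit false
set_option exponentiation.threshold 2000

open Cfsg Cfsg.Agent.Lib.Helper33Golay Cfsg.Agent.Lib.Helper33LVec Cfsg.Agent.Lib.Helper33LMat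
open Cfsg.Agent.Lib.Helper33LTest Cfsg.Agent.Lib.Helper33LCo0 Cfsg.Agent.Lib.Helper33LMin
open Cfsg.Agent.Lib.Helper33LReach Cfsg.Agent.Lib.Helper33Sets Cfsg.Agent.Lib.Helper33LReach2
open Cfsg.Agent.Lib.Helper33LMinTrans

namespace Cfsg.Agent.Lib.Helper33LSound

open Cfsg.Agent.Lib.Helper33LSoundDef Cfsg.Agent.Lib.Helper33LSoundChk0 Cfsg.Agent.Lib.Helper33LSoundChk1 Cfsg.Agent.Lib.Helper33LSoundChk2 Cfsg.Agent.Lib.Helper33LSoundChk3 Cfsg.Agent.Lib.Helper33LNodup
open Cfsg.Agent.Lib.Helper33LCo2Thy (code_ok)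

theorem chkB : octL.all (fB (fun _ => true) soundB) = true := by
  apply all_of_chunks _ 96 8 _ (le_of_eq_of_le octL_length (by norm_num))
  intro j hj
  interval_cases j
  exacts [chkB_0, chkB_1, chkB_2, chkB_3, chkB_4, chkB_5, chkB_6, chkB_7]

theorem chkC : (List.range 4096).all (fC (fun _ => true) soundB) = true := by
  apply all_of_chunks _ 512 8 _ (le_of_eq_of_le List.length_range (by norm_num))
  intro j hj
  interval_cases j
  exacts [chkC_0, chkC_1, chkC_2, chkC_3, chkC_4, chkC_5, chkC_6, chkC_7]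

theorem minL_sound (m : ℕ) (hm : m ∈ minL) : InR m ∧ D m ∈ leechLattice ∧ sqNorm (D m) = 32 := by
  have := forall_minL (fun _ => true) soundB chkA chkB chkC m hm rfl
  simpa using code_ok this

/-- counting the minimal vectors satisfying a condition -/
theorem ncard_min (P : (GolayPt → ℤ) → Prop) (cnd : ℕ → Bool)
    (hc : ∀ m, InR m → (cnd m = true ↔ P (D m))) :
    {x : GolayPt → ℤ | x ∈ leechLattice ∧ sqNorm x = 32 ∧ P x}.ncard = (minL.filter cnd).length := by
  apply ncard_of_list _ _ (minL_nodup.filter _)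
  · intro c hc'
    rw [List.mem_filter] at hc'
    obtain ⟨h1, h2, h3⟩ := minL_sound c hc'.1
    exact ⟨h1, h2, h3, (hc c h1).1 hc'.2⟩
  · rintro x ⟨hx, hn, hP⟩
    have hb := bound_of_sqNorm hn (by norm_num)
    have hD := D_code x hb
    refine ⟨?_, hD⟩
    rw [List.mem_filter]
    refine ⟨min_complete x hx hn, (hc _ (InR_code x hb)).2 ?_⟩
    rw [hD]; exact hP

end Cfsg.Agent.Lib.Helper33LSound
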