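import Cfsg.Agent.Lib.Helper33LReach2

set_option autoImplicit false
set_option exponentiation.threshold 2000

open Cfsg Cfsg.Agent.Lib.Helper33Golay Cfsg.Agent.Lib.Helper33LVec Cfsg.Agent.Lib.Helper33LMat
open Cfsg.Agent.Lib.Helper33LTest Cfsg.Agent.Lib.Helper33LCo0 Cfsg.Agent.Lib.Helper33LMin
open Cfsg.Agent.Lib.Helper33LReach Cfsg.Agent.Lib.Helper33Sets Cfsg.Agent.Lib.Helper33LReach2
open Cfsg.Agent.Lib.Helper33LMinTrans

namespace Cfsg.Agent.Lib.Helper33LSoundDef

def soundB (m : ℕ) : Bool := inR m && isLeech m && normB 32 m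

theorem chkA : allA (fun _ => true) soundB = true := by decide +kernel

end Cfsg.Agent.Lib.Helper33LSoundDef
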