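import Cfsg.Agent.Lib.Helper33LMat
import Cfsg.Agent.Lib.Helper94Leech

/-! # Membership test for the rank-24 lattice on packed vectors (helper33) -/

set_option autoImplicit false
set_option exponentiation.threshold 2000

namespace Cfsg.Agent.Lib.Helper33LTest

open Cfsg Cfsg.Agent.Lib.Helper33Golay Cfsg.Agent.Lib.Helper33Pack Cfsg.Agent.Lib.Helper33LVec
open Cfsg.Agent.Lib.Helper94Leech
open Cfsg.Agent.Lib.Helper9Golay2 (Csup)

/-- the mask formed by bit `b` of each field -/
def plane (b X : ℕ) : ℕ :=
  Nat.add (Nat.add (Nat.add (Nat.add (Nat.add (Nat.add (Nat.add (Nat.add (Nat.add (Nat.add (Nat.add (Nat.add (Nat.add (Nat.add (Nat.add (Nat.add (Nat.add (Nat.add (Nat.add (Nat.add (Nat.add (Nat.add (Nat.add (Nat.add (0) (Nat.mul (bit X (Nat.add 0 b)) 1)) (Nat.mul (bit X (Nat.add 32 b)) 2)) (Nat.mul (bit X (Nat.add 64 b)) 4)) (Nat.mul (bit X (Nat.add 96 b)) 8)) (Nat.mul (bit X (Nat.add 128 b)) 16)) (Nat.mul (bit X (Nat.add 160 b)) 32)) (Nat.mul (bit X (Nat.add 192 b)) 64)) (Nat.mul (bit X (Nat.add 224 b)) 128)) (Nat.mul (bit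 X (Nat.add 256 b)) 256)) (Nat.mul (bit X (Nat.add 288 b)) 512)) (Nat.mul (bit X (Nat.add 320 b)) 1024)) (Nat.mul (bit X (Nat.add 352 b)) 2048)) (Nat.mul (bit X (Nat.add 384 b)) 4096)) (Nat.mul (bit X (Nat.add 416 b)) 8192)) (Nat.mul (bit X (Nat.add 448 b)) 16384)) (Nat.mul (bit X (Nat.add 480 b)) 32768)) (Nat.mul (bit X (Nat.add 512 b)) 65536)) (Nat.mul (bit X (Nat.add 544 b)) 131072)) (Nat.mul (bit X (Nat.add 576 b)) 262144)) (Nat.mul (bit X (Nat.add 608 b)) 524288)) (Nat.mul (bit X (Nat.add 640 b)) 1048576)) (Nat.mul (bit X (Nat.add 672 b)) 2097152)) (Nat.mul (bit X (Nat.add 704 b)) 4194304)) (Nat.mul (bit X (Nat.add 736 b)) 8388608)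

theorem plane_eq (b X : ℕ) : plane b X = pk 1 (fun i => bit X (32 * i + b)) 24 := by
  simp only [pk, Finset.sum_range_succ, Finset.sum_range_zero]
  rfl

theorem plane_lt (b X : ℕ) : plane b X < 2 ^ 24 := by
  rw [plane_eq]
  exact pk_lt 1 _ 24 (fun i _ => bit_lt _ _)

theorem testBit_plane (b X i : ℕ) (hi : i < 24) : (plane b X).testBit i = X.testBit (32 * i + b) := by
  rw [plane_eq]
  have := testBit_pk 1 (fun i => bit X (32 * i + b)) 24 (fun i _ => bit_lt _ _) i 0 hi (by norm_num)
  rw [show 1 * i + 0 = i by ring] at this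
  rw [this, bit_eq]
  cases X.testBit (32 * i + b) <;> rfl

theorem mem_dec_plane (b X : ℕ) (hb : b < 32) (p : GolayPt) :
    p ∈ dec (plane b X) ↔ (fld X (idx p)).testBit b = true := by
  rw [mem_dec, testBit_plane _ _ _ (idx_lt p), fld_eq, testBit_dg _ _ _ _ hb]

def isLeech (X : ℕ) : Bool :=
  isCode (plane 1 X) &&
    ((Nat.beq (plane 0 X) 0 && Nat.beq (Nat.mod (fsum X) 8) 0) ||
      (Nat.beq (plane 0 X) 16777215 && Nat.beq (Nat.mod (fsum X) 8) 4))

theorem dec_mem_Csup {m : ℕ} (h : isCode m = true) : dec m ∈ Csup := by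
  rw [mem_supports_iff, enc_dec (isCode_lt h)]; exact h

theorem dec_compl_mem_Csup {m : ℕ} (h : isCode m = true) : (dec m)ᶜ ∈ Csup := by
  rw [← dec_compl]
  exact dec_mem_Csup (isCode_xor h (by decide +kernel))

theorem isLeech_spec (X : ℕ) (hX : InR X) (h : isLeech X = true) : D X ∈ leechLattice := by
  rw [mem_leechLattice_iff, mem_leechSet_iff]
  unfold isLeech at h
  rw [Bool.and_eq_true, Bool.or_eq_true, Bool.and_eq_true, Bool.and_eq_true] at h
  obtain ⟨hc, h⟩ := h
  have hs := sum_D X hX
  have b0 : ∀ p, p ∈ dec (plane 0 X) ↔ fld X (idx p) % 2 = 1 := by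
    intro p
    rw [mem_dec_plane 0 X (by norm_num), Nat.testBit_zero]
    simp
  have b1 : ∀ p, p ∈ dec (plane 1 X) ↔ fld X (idx p) / 2 % 2 = 1 := by
    intro p
    rw [mem_dec_plane 1 X (by norm_num), Nat.testBit_eq_decide_div_mod_eq]
    simp
  rcases h with ⟨h0, ht⟩ | ⟨h0, ht⟩
  · have h0' : plane 0 X = 0 := Nat.eq_of_beq_eq_true h0
    have ht' : fsum X % 8 = 0 := Nat.eq_of_beq_eq_true ht
    have ev : ∀ p, fld X (idx p) % 2 = 0 := by
      intro p
      have := b0 p
      rw [h0', dec_zero] at this
      simp only [Finset.notMem_empty, false_iff] at this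
      omega
    refine ⟨0, ?_, ?_, ?_⟩
    · intro p
      have := ev p
      unfold D; omega
    · rw [hs]; omega
    · intro k
      have hk : k % 4 = 0 ∨ k % 4 = 1 ∨ k % 4 = 2 ∨ k % 4 = 3 := by omega
      rcases hk with hk | hk | hk | hk
      · have : cls (D X) k = (dec (plane 1 X))ᶜ := by
          ext p
          have := ev p
          rw [mem_cls, Finset.mem_compl, b1 p]
          unfold D; omega
        rw [this]; exact dec_compl_mem_Csup hc
      · have : cls (D X) k = ∅ := by
          ext p
          have := ev p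
          rw [mem_cls]
          simp only [Finset.notMem_empty, iff_false]
          unfold D; omega
        rw [this]; exact empty_mem
      · have : cls (D X) k = dec (plane 1 X) := by
          ext p
          have := ev p
          rw [mem_cls, b1 p]
          unfold D; omega
        rw [this]; exact dec_mem_Csup hc
      · have : cls (D X) k = ∅ := by
          ext p
          have := ev p
          rw [mem_cls]
          simp only [Finset.notMem_empty, iff_false]
          unfold D; omega
        rw [this]; exact empty_mem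
  · have h0' : plane 0 X = 16777215 := Nat.eq_of_beq_eq_true h0
    have ht' : fsum X % 8 = 4 := Nat.eq_of_beq_eq_true ht
    have ev : ∀ p, fld X (idx p) % 2 = 1 := by
      intro p
      have := b0 p
      rw [h0', dec_full] at this
      simpa using this
    refine ⟨1, ?_, ?_, ?_⟩
    · intro p
      have := ev p
      unfold D; omega
    · rw [hs]; omega
    · intro k
      have hk : k % 4 = 0 ∨ k % 4 = 1 ∨ k % 4 = 2 ∨ k % 4 = 3 := by omega
      rcases hk with hk | hk | hk | hk
      · have : cls (D X) k = ∅ := by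
          ext p
          have := ev p
          rw [mem_cls]
          simp only [Finset.notMem_empty, iff_false]
          unfold D; omega
        rw [this]; exact empty_mem
      · have : cls (D X) k = (dec (plane 1 X))ᶜ := by
          ext p
          have := ev p
          rw [mem_cls, Finset.mem_compl, b1 p]
          unfold D; omega
        rw [this]; exact dec_compl_mem_Csup hc
      · have : cls (D X) k = ∅ := by
          ext p
          have := ev p
          rw [mem_cls]
          simp only [Finset.notMem_empty, iff_false]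
          unfold D; omega
        rw [this]; exact empty_mem
      · have : cls (D X) k = dec (plane 1 X) := by
          ext p
          have := ev p
          rw [mem_cls, b1 p]
          unfold D; omega
        rw [this]; exact dec_mem_Csup hc

end Cfsg.Agent.Lib.Helper33LTest
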