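import Mathlib

/-! # Numbers as packed arrays of digits in base `2 ^ W` (helper33) -/

set_option autoImplicit false

namespace Cfsg.Agent.Lib.Helper33Pack

/-- the number with digits `f 0, …, f (n-1)` in base `2 ^ W` -/
def pk (W : ℕ) (f : ℕ → ℕ) (n : ℕ) : ℕ := ∑ i ∈ Finset.range n, f i * 2 ^ (W * i)

theorem pk_succ (W : ℕ) (f : ℕ → ℕ) (n : ℕ) : pk W f (n + 1) = pk W f n + f n * 2 ^ (W * n) :=
  Finset.sum_range_succ _ _

theorem pk_lt (W : ℕ) (f : ℕ → ℕ) (n : ℕ) (h : ∀ i < n, f i < 2 ^ W) : pk W f n < 2 ^ (W * n) := by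
  induction n with
  | zero => simp [pk]
  | succ n ih =>
    rw [pk_succ]
    have h1 := ih (fun i hi => h i (by omega))
    have h2 : f n + 1 ≤ 2 ^ W := h n (by omega)
    calc pk W f n + f n * 2 ^ (W * n) < 2 ^ (W * n) + f n * 2 ^ (W * n) := by omega
      _ = (f n + 1) * 2 ^ (W * n) := by ring
      _ ≤ 2 ^ W * 2 ^ (W * n) := Nat.mul_le_mul_right _ h2
      _ = 2 ^ (W * (n + 1)) := by rw [← pow_add]; ring_nf

/-- digit `i` in base `2 ^ W` -/
def dg (W X i : ℕ) : ℕ := X / 2 ^ (W * i) % 2 ^ W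

theorem dg_lt (W X i : ℕ) : dg W X i < 2 ^ W := Nat.mod_lt _ (by positivity)

theorem dg_pk (W : ℕ) (f : ℕ → ℕ) (n : ℕ) (h : ∀ i < n, f i < 2 ^ W) :
    ∀ i < n, dg W (pk W f n) i = f i := by
  induction n with
  | zero => intro i hi; omega
  | succ n ih =>
    intro i hi
    rw [pk_succ]
    have hlt := pk_lt W f n (fun i hi => h i (by omega))
    unfold dg
    rcases Nat.lt_succ_iff_lt_or_eq.1 hi with hi' | rfl
    · have h3 : f n * 2 ^ (W * n) = (f n * 2 ^ (W * (n - i - 1))) * 2 ^ W * 2 ^ (W * i) := by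
        rw [mul_assoc, mul_assoc, ← pow_add, ← pow_add]
        congr 2
        obtain ⟨k, rfl⟩ : ∃ k, n = i + 1 + k := ⟨n - i - 1, by omega⟩
        have : i + 1 + k - i - 1 = k := by omega
        rw [this]; ring
      rw [h3, Nat.add_mul_div_right _ _ (by positivity), Nat.add_mul_mod_self_right]
      exact ih (fun i hi => h i (by omega)) i hi'
    · rw [Nat.add_mul_div_right _ _ (by positivity), Nat.div_eq_of_lt hlt, zero_add,
        Nat.mod_eq_of_lt (h _ (by omega))]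

theorem pk_dg_mod (W X n : ℕ) : pk W (dg W X) n = X % 2 ^ (W * n) := by
  induction n with
  | zero => simp [pk, Nat.mod_one]
  | succ n ih =>
    rw [pk_succ, ih]
    have : 2 ^ (W * (n + 1)) = 2 ^ (W * n) * 2 ^ W := by rw [← pow_add]; ring_nf
    rw [this, Nat.mod_mul]
    unfold dg
    ring

theorem pk_dg (W X n : ℕ) (h : X < 2 ^ (W * n)) : pk W (dg W X) n = X := by
  rw [pk_dg_mod, Nat.mod_eq_of_lt h]

theorem pk_congr (W : ℕ) {f g : ℕ → ℕ} (n : ℕ) (h : ∀ i < n, f i = g i) : pk W f n = pk W g n :=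
  Finset.sum_congr rfl (fun i hi => by rw [h i (Finset.mem_range.1 hi)])

theorem pk_add (W : ℕ) (f g : ℕ → ℕ) (n : ℕ) :
    pk W (fun i => f i + g i) n = pk W f n + pk W g n := by
  unfold pk
  rw [← Finset.sum_add_distrib]
  exact Finset.sum_congr rfl (fun i _ => by ring)

theorem pk_smul (W c : ℕ) (f : ℕ → ℕ) (n : ℕ) : pk W (fun i => c * f i) n = c * pk W f n := by
  unfold pk
  rw [Finset.mul_sum]
  exact Finset.sum_congr rfl (fun i _ => by ring)

theorem pk_sum {ι : Type*} (W : ℕ) (s : Finset ι) (F : ι → ℕ → ℕ) (n : ℕ) :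
    pk W (fun j => ∑ i ∈ s, F i j) n = ∑ i ∈ s, pk W (F i) n := by
  unfold pk
  rw [Finset.sum_comm]
  exact Finset.sum_congr rfl (fun i _ => by rw [Finset.sum_mul])

theorem pk_sub (W : ℕ) (f g : ℕ → ℕ) (n : ℕ) (h : ∀ i < n, g i ≤ f i) :
    pk W (fun i => f i - g i) n = pk W f n - pk W g n := by
  have : pk W (fun i => f i - g i) n + pk W g n = pk W f n := by
    rw [← pk_add]
    exact pk_congr W n (fun i hi => Nat.sub_add_cancel (h i hi))
  omega

theorem pk_inj (W : ℕ) {f g : ℕ → ℕ} (n : ℕ) (hf : ∀ i < n, f i < 2 ^ W) (hg : ∀ i < n, g i < 2 ^ W)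
    (h : pk W f n = pk W g n) : ∀ i < n, f i = g i := by
  intro i hi
  rw [← dg_pk W f n hf i hi, h, dg_pk W g n hg i hi]

theorem pk_single (W n k c : ℕ) (hk : k < n) :
    pk W (fun i => if i = k then c else 0) n = c * 2 ^ (W * k) := by
  unfold pk
  rw [Finset.sum_eq_single k]
  · simp
  · intro b _ hb; simp [hb]
  · intro h; exact absurd (Finset.mem_range.2 hk) h

theorem pk_modEq (W : ℕ) (f : ℕ → ℕ) (n : ℕ) :
    pk W f n ≡ ∑ i ∈ Finset.range n, f i [MOD (2 ^ W - 1)] := by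
  induction n with
  | zero => simp [pk]; rfl
  | succ n ih =>
    rw [pk_succ, Finset.sum_range_succ]
    apply Nat.ModEq.add ih
    have h1 : 2 ^ W ≡ 1 [MOD (2 ^ W - 1)] := by
      have : 2 ^ W = (2 ^ W - 1) + 1 := by have := Nat.one_le_two_pow (n := W); omega
      conv_lhs => rw [this]
      simp [Nat.ModEq]
    have h2 : 2 ^ (W * n) ≡ 1 [MOD (2 ^ W - 1)] := by
      rw [pow_mul]
      simpa using h1.pow n
    simpa using (Nat.ModEq.refl (f n)).mul h2

theorem pk_mod (W : ℕ) (f : ℕ → ℕ) (n : ℕ) (h : ∑ i ∈ Finset.range n, f i < 2 ^ W - 1) :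
    pk W f n % (2 ^ W - 1) = ∑ i ∈ Finset.range n, f i := by
  rw [pk_modEq W f n, Nat.mod_eq_of_lt h]

theorem testBit_dg (W X i r : ℕ) (hr : r < W) : (dg W X i).testBit r = X.testBit (W * i + r) := by
  unfold dg
  rw [Nat.testBit_mod_two_pow, ← Nat.shiftRight_eq_div_pow, Nat.testBit_shiftRight]
  simp [hr]

theorem testBit_pk (W : ℕ) (f : ℕ → ℕ) (n : ℕ) (h : ∀ i < n, f i < 2 ^ W) (i r : ℕ) (hi : i < n)
    (hr : r < W) : (pk W f n).testBit (W * i + r) = (f i).testBit r := by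
  rw [← testBit_dg W _ i r hr, dg_pk W f n h i hi]

theorem testBit_pk_ge (W : ℕ) (f : ℕ → ℕ) (n : ℕ) (h : ∀ i < n, f i < 2 ^ W) (k : ℕ)
    (hk : W * n ≤ k) : (pk W f n).testBit k = false :=
  Nat.testBit_lt_two_pow (lt_of_lt_of_le (pk_lt W f n h) (Nat.pow_le_pow_right (by decide) hk))

end Cfsg.Agent.Lib.Helper33Pack
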