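import Cfsg.Agent.Lib.Helper33Golay
import Cfsg.Agent.Lib.Helper33Pack

/-! # Integer vectors on the 24 points packed into one number (helper33)

32 bits per coordinate, coordinate `x` stored as `x + 16`. -/

set_option autoImplicit false
set_option exponentiation.threshold 2000

namespace Cfsg.Agent.Lib.Helper33LVec

open Cfsg Cfsg.Agent.Lib.Helper33Golay Cfsg.Agent.Lib.Helper33Pack

/-- field `i` (32 bits) -/
def fld (X i : ℕ) : ℕ := Nat.land (Nat.shiftRight X (Nat.mul 32 i)) 4294967295

theorem fld_eq (X i : ℕ) : fld X i = dg 32 X i := by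
  unfold fld dg
  show (X >>> (32 * i)) &&& 4294967295 = _
  have : (4294967295 : ℕ) = 2 ^ 32 - 1 := by norm_num
  rw [Nat.shiftRight_eq_div_pow, this, Nat.and_two_pow_sub_one_eq_mod]

/-- all fields equal to one -/
def ONES : ℕ := 0x10000000100000001000000010000000100000001000000010000000100000001000000010000000100000001000000010000000100000001000000010000000100000001000000010000000100000001000000010000000100000001

def K31 : ℕ := 0x20000000400000008000000100000002000000040000000800000010000000200000004000000080000001000000020000000400000008000000100000002000000040000000800000010000000200000004000000080000001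

def M31 : ℕ := 0x1f0000001f0000001f0000001f0000001f0000001f0000001f0000001f0000001f0000001f0000001f0000001f0000001f0000001f0000001f0000001f0000001f0000001f0000001f0000001f0000001f0000001f0000001f0000001f

theorem ONES_eq : ONES = pk 32 (fun _ => 1) 24 := by decide +kernel

theorem K31_eq : K31 = pk 31 (fun _ => 1) 24 := by decide +kernel

theorem pk_const (c : ℕ) : pk 32 (fun _ => c) 24 = c * ONES := by
  rw [ONES_eq, ← pk_smul]; simp

theorem sum_pt {M : Type*} [AddCommMonoid M] (F : ℕ → M) :
    ∑ p : GolayPt, F (idx p) = ∑ i ∈ Finset.range 24, F i := by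
  apply Finset.sum_nbij' idx pt
  · intro p _; exact Finset.mem_range.2 (idx_lt p)
  · intro i _; exact Finset.mem_univ _
  · intro p _; exact pt_idx p
  · intro i hi; exact idx_pt (Finset.mem_range.1 hi)
  · intro p _; rfl

theorem sum_pt' {M : Type*} [AddCommMonoid M] (F : GolayPt → M) :
    ∑ p : GolayPt, F p = ∑ i ∈ Finset.range 24, F (pt i) := by
  rw [← sum_pt (fun i => F (pt i))]
  simp

/-- the vector coded by `X` -/
def D (X : ℕ) : GolayPt → ℤ := fun p => (fld X (idx p) : ℤ) - 16

/-- the code of a vector -/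
def code (x : GolayPt → ℤ) : ℕ := pk 32 (fun i => (x (pt i) + 16).toNat) 24

/-- valid codes: all fields below 32 -/
def InR (X : ℕ) : Prop := X < 2 ^ 768 ∧ ∀ i < 24, fld X i < 32

def inR (X : ℕ) : Bool := Nat.beq (Nat.land X M31) X

theorem fld_pk (f : ℕ → ℕ) (h : ∀ i < 24, f i < 2 ^ 32) (i : ℕ) (hi : i < 24) :
    fld (pk 32 f 24) i = f i := by
  rw [fld_eq]; exact dg_pk 32 f 24 h i hi

theorem pk_fld (X : ℕ) (h : X < 2 ^ 768) : pk 32 (fld X) 24 = X := by
  have : fld X = dg 32 X := funext (fld_eq X)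
  rw [this]; exact pk_dg 32 X 24 h

theorem D_pk (f : ℕ → ℕ) (h : ∀ i < 24, f i < 2 ^ 32) (p : GolayPt) :
    D (pk 32 f 24) p = (f (idx p) : ℤ) - 16 := by
  unfold D; rw [fld_pk f h _ (idx_lt p)]

theorem InR_pk (f : ℕ → ℕ) (h : ∀ i < 24, f i < 32) : InR (pk 32 f 24) := by
  have h' : ∀ i < 24, f i < 2 ^ 32 := fun i hi => lt_trans (h i hi) (by norm_num)
  exact ⟨pk_lt 32 f 24 h', fun i hi => by rw [fld_pk f h' i hi]; exact h i hi⟩

theorem D_code (x : GolayPt → ℤ) (h : ∀ p, -16 ≤ x p ∧ x p < 16) : D (code x) = x := by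
  funext p
  unfold code
  rw [D_pk]
  · have := h p
    simp only [pt_idx]
    omega
  · intro i _
    have := h (pt i)
    have : (x (pt i) + 16).toNat < 32 := by omega
    exact lt_trans this (by norm_num)

theorem InR_code (x : GolayPt → ℤ) (h : ∀ p, -16 ≤ x p ∧ x p < 16) : InR (code x) := by
  apply InR_pk
  intro i _
  have := h (pt i)
  omega

theorem code_D (X : ℕ) (h : InR X) : code (D X) = X := by
  unfold code
  conv_rhs => rw [← pk_fld X h.1]
  apply pk_congr
  intro i hi
  unfold D
  rw [idx_pt hi]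
  omega

theorem D_range (X : ℕ) (h : InR X) (p : GolayPt) : -16 ≤ D X p ∧ D X p < 16 := by
  have := h.2 _ (idx_lt p)
  unfold D
  omega

theorem D_injOn {X Y : ℕ} (hX : InR X) (hY : InR Y) (h : D X = D Y) : X = Y := by
  rw [← code_D X hX, ← code_D Y hY, h]

theorem fld_and (a b i : ℕ) : fld (a &&& b) i = fld a i &&& fld b i := by
  unfold fld
  show ((a &&& b) >>> (32 * i)) &&& 4294967295 =
    ((a >>> (32 * i)) &&& 4294967295) &&& ((b >>> (32 * i)) &&& 4294967295)
  apply Nat.eq_of_testBit_eq
  intro j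
  simp only [Nat.testBit_and, Nat.testBit_shiftRight]
  cases a.testBit (32 * i + j) <;> cases b.testBit (32 * i + j) <;>
    cases (4294967295 : ℕ).testBit j <;> rfl

theorem fld_M31 : ∀ i < 24, fld M31 i = 31 := by decide +kernel

theorem InR_of_inR {X : ℕ} (h : inR X = true) : InR X := by
  have h1 : X &&& M31 = X := Nat.eq_of_beq_eq_true h
  constructor
  · have h2 : X ≤ M31 := by rw [← h1]; exact Nat.and_le_right
    exact lt_of_le_of_lt h2 (by decide +kernel)
  · intro i hi
    rw [← h1, fld_and, fld_M31 i hi]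
    exact lt_of_le_of_lt Nat.and_le_right (by norm_num)

/-- sum of the fields -/
def fsum (X : ℕ) : ℕ := Nat.mod X 4294967295

theorem fsum_eq (X : ℕ) (h : InR X) : fsum X = ∑ i ∈ Finset.range 24, fld X i := by
  unfold fsum
  show X % 4294967295 = _
  conv_lhs => rw [← pk_fld X h.1]
  have : (4294967295 : ℕ) = 2 ^ 32 - 1 := by norm_num
  rw [this]
  apply pk_mod
  calc ∑ i ∈ Finset.range 24, fld X i ≤ ∑ i ∈ Finset.range 24, 32 :=
        Finset.sum_le_sum (fun i hi => le_of_lt (h.2 i (Finset.mem_range.1 hi)))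
    _ < 2 ^ 32 - 1 := by simp

theorem sum_D (X : ℕ) (h : InR X) : ∑ p, D X p = (fsum X : ℤ) - 384 := by
  unfold D
  rw [sum_pt (fun i => (fld X i : ℤ) - 16), fsum_eq X h, Finset.sum_sub_distrib, Finset.sum_const,
    Finset.card_range, Nat.cast_sum]
  norm_num

/-- spread the 24 bits of a mask to the low bits of the 24 fields -/
def spK (m : ℕ) : ℕ := Nat.land (Nat.mul m K31) ONES

theorem bit_lt (m i : ℕ) : bit m i < 2 := by
  rw [bit_eq]; cases m.testBit i <;> simp

theorem spK_eq (m : ℕ) (hm : m < 2 ^ 24) : spK m = pk 32 (bit m) 24 := by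
  unfold spK
  show (m * K31) &&& ONES = _
  have hb : ∀ i < 24, bit m i < 2 ^ 32 := fun i _ => lt_trans (bit_lt m i) (by norm_num)
  have h1 : ∀ i < 24, (fun _ : ℕ => 1) i < 2 ^ 32 := fun i _ => by norm_num
  have hm31 : ∀ i < 24, (fun _ : ℕ => m * 1) i < 2 ^ 31 := fun i _ => by
    simp only [mul_one]; exact lt_trans hm (by norm_num)
  rw [K31_eq, ← pk_smul, ONES_eq]
  apply Nat.eq_of_testBit_eq
  intro k
  rw [Nat.testBit_and]
  obtain ⟨q, r, hr, rfl⟩ : ∃ q r, r < 32 ∧ k = 32 * q + r :=
    ⟨k / 32, k % 32, Nat.mod_lt _ (by norm_num), (Nat.div_add_mod k 32).symm⟩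
  by_cases hq : q < 24
  · rw [testBit_pk 32 _ 24 h1 q r hq hr, testBit_pk 32 _ 24 hb q r hq hr]
    by_cases hr0 : r = 0
    · subst hr0
      have : 32 * q + 0 = 31 * q + q := by ring
      rw [this, testBit_pk 31 _ 24 hm31 q q hq (by omega), bit_eq, mul_one]
      cases m.testBit q <;> simp
    · have e1 : (1 : ℕ).testBit r = false :=
        Bool.eq_false_iff.2 (fun h => hr0 (Nat.testBit_one_eq_true_iff_self_eq_zero.1 h))
      have e2 : (bit m q).testBit r = false := by
        apply Nat.testBit_lt_two_pow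
        calc bit m q < 2 := bit_lt m q
          _ ≤ 2 ^ r := by
            have : 1 ≤ r := by omega
            calc 2 = 2 ^ 1 := rfl
              _ ≤ 2 ^ r := Nat.pow_le_pow_right (by norm_num) this
      rw [e1, e2, Bool.and_false]
  · rw [testBit_pk_ge 32 _ 24 h1 _ (by omega), testBit_pk_ge 32 _ 24 hb _ (by omega), Bool.and_false]

end Cfsg.Agent.Lib.Helper33LVec
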