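import Cfsg.Agent.Lib.Helper33LGood
import Cfsg.Agent.Lib.Helper33LM22

/-! # Words in checked generators of `Co0`: membership in generated subgroups, orbits,
lower bounds for orders (helper33) -/

set_option autoImplicit false
set_option exponentiation.threshold 2000

namespace Cfsg.Agent.Lib.Helper33LWord

open Cfsg Cfsg.Agent.Lib.Helper33Golay Cfsg.Agent.Lib.Helper33LVec Cfsg.Agent.Lib.Helper33LMat
open Cfsg.Agent.Lib.Helper33LTest Cfsg.Agent.Lib.Helper33LCo0 Cfsg.Agent.Lib.Helper33LFrame
open Cfsg.Agent.Lib.Helper33LGood Cfsg.Agent.Lib.Helper33LReach2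
open MulAction

/-- force the evaluation of `v` before continuing -/
noncomputable def force {β : Sort*} (v : ℕ) (k : ℕ → β) : β :=
  Nat.rec (k Nat.zero) (fun n _ => k n) (Nat.succ v)

@[simp] theorem force_eq {β : Sort*} (v : ℕ) (k : ℕ → β) : force v k = k v := rfl

def chk1 (P y o : ℕ) : ℕ := bif stepOK P y o then o else 0

/-- one step; `0` signals a failure -/
def step1 (P y : ℕ) : ℕ := bif Nat.beq y 0 then 0 else chk1 P y (outOf P y)

/-- the image of the vector coded by `x` under the product of the matrices in `ws` -/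
noncomputable def run : List ℕ → ℕ → ℕ
  | [], x => x
  | P :: ws, x => force (run ws x) (fun y => step1 P y)

theorem run_cons (P : ℕ) (ws : List ℕ) (x : ℕ) : run (P :: ws) x = step1 P (run ws x) := by
  rw [run, force_eq]

/-- the product of the automorphisms coded by a list -/
noncomputable def wprod (ws : List ℕ) : ↥Co0 := (ws.map toCo0).prod

theorem wprod_cons (P : ℕ) (ws : List ℕ) : wprod (P :: ws) = toCo0 P * wprod ws := by
  simp [wprod]

theorem step1_ne {P y : ℕ} (h : step1 P y ≠ 0) : y ≠ 0 ∧ stepOK P y (step1 P y) = true := by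
  unfold step1 chk1 at h ⊢
  generalize outOf P y = o at h ⊢
  cases hy : Nat.beq y 0 with
  | true => rw [hy] at h; exact absurd rfl h
  | false =>
    rw [hy] at h
    rw [cond_false] at h ⊢
    refine ⟨fun h0 => by rw [h0] at hy; simp at hy, ?_⟩
    cases hs : stepOK P y o with
    | true => rw [cond_true]; exact hs
    | false => rw [hs] at h; exact absurd rfl h

theorem run_spec : ∀ (ws : List ℕ), (∀ P ∈ ws, goodP P = true) → ∀ x, InR x → D x ∈ leechLattice →
    run ws x ≠ 0 → InR (run ws x) ∧ D (run ws x) ∈ leechLattice ∧ wprod ws • DL x = DL (run ws x)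
  | [], _, x, hx, hxL, _ => ⟨hx, hxL, by simp [wprod, run]⟩
  | P :: ws, hw, x, hx, hxL, h => by
    rw [run_cons] at h ⊢
    have h' : step1 P (run ws x) ≠ 0 := h
    obtain ⟨h1, h2⟩ := step1_ne h'
    obtain ⟨a1, a2, a3⟩ := run_spec ws (fun Q hQ => hw Q (by simp [hQ])) x hx hxL h1
    obtain ⟨b1, b2, b3⟩ := toCo0_smul_DL (hw P (by simp)) a1 a2 h2
    refine ⟨b1, b2, ?_⟩
    rw [wprod_cons, mul_smul, a3]
    exact b3

/-! ### automorphisms are determined by the images of the vectors `8 e_i` -/

theorem e8_ok : (List.range 24).all (fun i => inR (e8 i) && isLeech (e8 i)) = true := by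
  decide +kernel

theorem e8_InR {i : ℕ} (hi : i < 24) : InR (e8 i) ∧ D (e8 i) ∈ leechLattice := by
  have h := List.all_eq_true.1 e8_ok i (List.mem_range.2 hi)
  rw [Bool.and_eq_true] at h
  have h1 := InR_of_inR h.1
  exact ⟨h1, isLeech_spec _ h1 h.2⟩

theorem e8_ne {i : ℕ} (hi : i < 24) : e8 i ≠ 0 := by
  have : ∀ i < 24, e8 i ≠ 0 := by decide +kernel
  exact this i hi

/-- the additive map given by an automorphism -/
def gHom (g : ↥Co0) : LV →+ LV where
  toFun v := g • v
  map_zero' := smul_zero' g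
  map_add' := smul_add' g

theorem eight_smul_eq (v : LV) :
    (8 : ℤ) • v = ∑ p : GolayPt, (v : GolayPt → ℤ) p • DL (e8 (idx p)) := by
  apply Subtype.ext
  funext q
  rw [AddSubgroup.coe_zsmul, AddSubgroup.val_finsetSum, Finset.sum_apply]
  have : ∀ p : GolayPt, (((v : GolayPt → ℤ) p • DL (e8 (idx p)) : LV) : GolayPt → ℤ) q =
      if q = p then 8 * (v : GolayPt → ℤ) q else 0 := by
    intro p
    rw [AddSubgroup.coe_zsmul, Pi.smul_apply, DL_coe (e8_InR (idx_lt p)).2, D_e8 _ (idx_lt p), pt_idx]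
    split_ifs with h
    · subst h; simp [mul_comm]
    · simp
  simp only [this]
  rw [Finset.sum_ite_eq Finset.univ q]
  simp

theorem ext8 (g h : ↥Co0) (H : ∀ i < 24, g • DL (e8 i) = h • DL (e8 i)) : g = h := by
  apply Helper33LM22.co0_ext
  intro v
  have h1 : gHom g ((8 : ℤ) • v) = gHom h ((8 : ℤ) • v) := by
    rw [eight_smul_eq, map_sum, map_sum]
    apply Finset.sum_congr rfl
    intro p _
    rw [map_zsmul, map_zsmul]
    congr 1
    exact H _ (idx_lt p)
  rw [map_zsmul, map_zsmul] at h1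
  have h2 : (8 : ℤ) • ((g • v : LV) : GolayPt → ℤ) = (8 : ℤ) • ((h • v : LV) : GolayPt → ℤ) := by
    have := congrArg (fun x : LV => (x : GolayPt → ℤ)) h1
    simpa [gHom] using this
  exact Subtype.ext (cancel8 h2)

/-- the word `ws` represents the identity -/
noncomputable def isOne (ws : List ℕ) : Bool :=
  (List.range 24).all (fun i => Nat.beq (run ws (e8 i)) (e8 i))

theorem wprod_eq_one {ws : List ℕ} (hw : ∀ P ∈ ws, goodP P = true) (h : isOne ws = true) :
    wprod ws = 1 := by
  apply ext8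
  intro i hi
  have h1 := List.all_eq_true.1 h i (List.mem_range.2 hi)
  rw [Nat.beq_eq] at h1
  obtain ⟨_, _, h2⟩ := run_spec ws hw (e8 i) (e8_InR hi).1 (e8_InR hi).2 (by rw [h1]; exact e8_ne hi)
  rw [h2, h1, one_smul]

/-- a word which does not represent the identity -/
theorem wprod_ne_one {ws : List ℕ} (hw : ∀ P ∈ ws, goodP P = true) (i : ℕ) (hi : i < 24)
    (h0 : run ws (e8 i) ≠ 0) (h : run ws (e8 i) ≠ e8 i) : wprod ws ≠ 1 := by
  intro h1
  obtain ⟨a1, a2, h2⟩ := run_spec ws hw (e8 i) (e8_InR hi).1 (e8_InR hi).2 h0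
  rw [h1, one_smul] at h2
  apply h
  have h3 := congrArg (fun x : LV => (x : GolayPt → ℤ)) h2
  simp only [DL_coe a2, DL_coe (e8_InR hi).2] at h3
  exact (D_injOn (e8_InR hi).1 a1 h3).symm

/-! ### membership in a subgroup -/

def Kok (K : Subgroup ↥Co0) (P : ℕ) : Prop := goodP P = true ∧ toCo0 P ∈ K

theorem wprod_mem {K : Subgroup ↥Co0} : ∀ {ws : List ℕ}, (∀ P ∈ ws, Kok K P) → wprod ws ∈ K
  | [], _ => by simp [wprod]
  | P :: ws, h => by
    rw [wprod_cons]
    exact K.mul_mem (h P (by simp)).2 (wprod_mem (fun Q hQ => h Q (by simp [hQ])))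

theorem kok_of_isOne {K : Subgroup ↥Co0} {R : ℕ} {ws : List ℕ} (hR : goodP R = true)
    (hw : ∀ P ∈ ws, Kok K P) (h : isOne (R :: ws) = true) : Kok K R := by
  refine ⟨hR, ?_⟩
  have h1 := wprod_eq_one (ws := R :: ws) (by
    intro P hP
    rcases List.mem_cons.1 hP with rfl | hP
    · exact hR
    · exact (hw P hP).1) h
  rw [wprod_cons] at h1
  rw [eq_inv_of_mul_eq_one_left h1]
  exact K.inv_mem (wprod_mem hw)

/-- certificates: each new matrix times a word in the known ones is the identity -/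
noncomputable def chainOK : List ℕ → List (ℕ × List ℕ) → Bool
  | _, [] => true
  | known, (R, ix) :: rest =>
    goodP R && ix.all (fun i => Nat.blt i known.length) &&
      isOne (R :: ix.map (fun i => known.getD i 0)) && chainOK (known ++ [R]) rest

theorem chain_spec {K : Subgroup ↥Co0} : ∀ (cert : List (ℕ × List ℕ)) (known : List ℕ),
    (∀ P ∈ known, Kok K P) → chainOK known cert = true →
    ∀ P ∈ known ++ cert.map Prod.fst, Kok K P
  | [], known, hk, _ => by simpa using hk
  | (R, ix) :: rest, known, hk, h => by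
    have h' : (goodP R && ix.all (fun i => Nat.blt i known.length) &&
      isOne (R :: ix.map (fun i => known.getD i 0)) && chainOK (known ++ [R]) rest) = true := h
    simp only [Bool.and_eq_true] at h'
    obtain ⟨⟨⟨h1, h2⟩, h3⟩, h4⟩ := h'
    have hR : Kok K R := by
      apply kok_of_isOne h1 _ h3
      intro P hP
      obtain ⟨i, hi, rfl⟩ := List.mem_map.1 hP
      have hlt := List.all_eq_true.1 h2 i hi
      have hlt' : i < known.length := by simpa [Nat.blt_eq] using hlt
      rw [List.getD_eq_getElem _ _ hlt']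
      exact hk _ (List.getElem_mem hlt')
    have := chain_spec rest (known ++ [R]) (by
      intro P hP
      rcases List.mem_append.1 hP with hP | hP
      · exact hk P hP
      · simp only [List.mem_cons, List.not_mem_nil, or_false] at hP
        rw [hP]; exact hR) h4
    simpa using this

/-! ### orbits -/

/-- entries `(code, generator, parent)` -/
def orbGo (gens : List ℕ) : List ℕ → List (ℕ × ℕ × ℕ) → Bool
  | _, [] => true
  | done, (c, gi, pi) :: rest =>
    Nat.blt gi gens.length && Nat.blt pi done.length &&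
      stepOK (gens.getD gi 0) (done.getD pi 0) c && orbGo gens (done ++ [c]) rest

def Reached (H : Subgroup ↥Co0) (root : LV) (c : ℕ) : Prop :=
  InR c ∧ D c ∈ leechLattice ∧ ∃ g ∈ H, g • root = DL c

theorem orbGo_spec {H : Subgroup ↥Co0} {root : LV} {gens : List ℕ} (hg : ∀ P ∈ gens, Kok H P) :
    ∀ (ents : List (ℕ × ℕ × ℕ)) (done : List ℕ), (∀ c ∈ done, Reached H root c) →
    orbGo gens done ents = true → ∀ c ∈ done ++ ents.map Prod.fst, Reached H root c
  | [], done, hd, _ => by simpa using hd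
  | (c, gi, pi) :: rest, done, hd, h => by
    have h' : (Nat.blt gi gens.length && Nat.blt pi done.length &&
      stepOK (gens.getD gi 0) (done.getD pi 0) c && orbGo gens (done ++ [c]) rest) = true := h
    simp only [Bool.and_eq_true] at h'
    obtain ⟨⟨⟨h1, h2⟩, h3⟩, h4⟩ := h'
    have h1' : gi < gens.length := by simpa [Nat.blt_eq] using h1
    have h2' : pi < done.length := by simpa [Nat.blt_eq] using h2
    rw [List.getD_eq_getElem _ _ h1', List.getD_eq_getElem _ _ h2'] at h3
    obtain ⟨a1, a2, g, hgH, hgr⟩ := hd _ (List.getElem_mem h2')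
    have hP := hg _ (List.getElem_mem h1')
    obtain ⟨b1, b2, b3⟩ := toCo0_smul_DL hP.1 a1 a2 h3
    have hc : Reached H root c :=
      ⟨b1, b2, toCo0 gens[gi] * g, H.mul_mem hP.2 hgH, by rw [mul_smul, hgr, b3]⟩
    have := orbGo_spec hg rest (done ++ [c]) (by
      intro x hx
      rcases List.mem_append.1 hx with hx | hx
      · exact hd x hx
      · simp only [List.mem_cons, List.not_mem_nil, or_false] at hx
        rw [hx]; exact hc) h4
    simpa using this

theorem orbit_ge {H : Subgroup ↥Co0} {root : LV} (L : List ℕ) (hL : ∀ c ∈ L, Reached H root c)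
    (hnd : L.Nodup) [Finite ↥H] : L.length ≤ (orbit ↥H root).ncard := by
  classical
  have hinj : Set.InjOn DL {c | c ∈ L} := by
    intro c hc c' hc' h
    have h3 := congrArg (fun x : LV => (x : GolayPt → ℤ)) h
    simp only [DL_coe (hL c hc).2.1, DL_coe (hL c' hc').2.1] at h3
    exact D_injOn (hL c hc).1 (hL c' hc').1 h3
  have hsub : DL '' {c | c ∈ L} ⊆ orbit ↥H root := by
    rintro _ ⟨c, hc, rfl⟩
    obtain ⟨_, _, g, hg, hgr⟩ := hL c hc
    exact ⟨⟨g, hg⟩, hgr⟩
  have hfin : (orbit ↥H root).Finite := Set.finite_range _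
  calc L.length = L.toFinset.card := (List.toFinset_card_of_nodup hnd).symm
    _ = ({c | c ∈ L} : Set ℕ).ncard := by
      rw [← Set.ncard_coe_finset]; congr 1; ext c; simp
    _ = (DL '' {c | c ∈ L}).ncard := hinj.ncard_image.symm
    _ ≤ _ := Set.ncard_le_ncard hsub hfin

/-! ### the chain of stabilisers -/

theorem inf_fixG_append (K : Subgroup ↥Co0) (F : List LV) (b : LV) :
    K ⊓ fixG F ⊓ fixG [b] = K ⊓ fixG (F ++ [b]) := by
  ext g
  simp only [Subgroup.mem_inf]
  constructor
  · rintro ⟨⟨h1, h2⟩, h3⟩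
    refine ⟨h1, fun c hc => ?_⟩
    rcases List.mem_append.1 hc with hc | hc
    · exact h2 c hc
    · exact h3 c hc
  · rintro ⟨h1, h2⟩
    exact ⟨⟨h1, fun c hc => h2 c (List.mem_append_left _ hc)⟩,
      fun c hc => h2 c (List.mem_append_right _ hc)⟩

theorem card_step (H : Subgroup ↥Co0) [Finite ↥H] (b : LV) (n : ℕ)
    (hn : n ≤ (orbit ↥H b).ncard) : n * Nat.card ↥(H ⊓ fixG [b]) ≤ Nat.card ↥H := by
  have hst : stabilizer ↥H b = (H ⊓ fixG [b]).subgroupOf H := by
    ext k
    rw [mem_stabilizer_iff, Subgroup.mem_subgroupOf, Subgroup.mem_inf]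
    constructor
    · intro h
      refine ⟨k.2, fun c hc => ?_⟩
      simp only [List.mem_cons, List.not_mem_nil, or_false] at hc
      rw [hc]; exact h
    · intro h
      exact h.2 b (by simp)
  have e : ↥(stabilizer ↥H b) ≃* ↥(H ⊓ fixG [b]) :=
    (MulEquiv.subgroupCongr hst).trans (Subgroup.subgroupOfEquivOfLe inf_le_left)
  rw [← (stabilizer ↥H b).card_mul_index, index_stabilizer, Nat.card_congr e.toEquiv, mul_comm]
  exact Nat.mul_le_mul_left _ hn

theorem card_step' (K : Subgroup ↥Co0) [Finite ↥K] (F : List LV) (b : LV) (n m : ℕ)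
    (hn : n ≤ (orbit ↥(K ⊓ fixG F) b).ncard) (hm : m ≤ Nat.card ↥(K ⊓ fixG (F ++ [b]))) :
    n * m ≤ Nat.card ↥(K ⊓ fixG F) := by
  haveI : Finite ↥(K ⊓ fixG F) :=
    Finite.of_injective _ (Subgroup.inclusion_injective (inf_le_left : K ⊓ fixG F ≤ K))
  have := card_step (K ⊓ fixG F) b n hn
  rw [inf_fixG_append] at this
  exact (Nat.mul_le_mul_left _ hm).trans this

end Cfsg.Agent.Lib.Helper33LWord
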