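import Mathlib

/-! # Counting the solutions of `x ^ p = 1` in a finite group (helper33) -/

set_option autoImplicit false

namespace Cfsg.Agent.Lib.Helper33SimpleA

open Equiv.Perm

/-- Frobenius for a prime: the number of solutions of `x ^ p = 1` is divisible by `p`. -/
theorem dvd_card_pow_eq_one (G : Type*) [Group G] [Finite G] (p : ℕ) [hp : Fact p.Prime]
    (hdvd : p ∣ Nat.card G) : p ∣ Nat.card {x : G // x ^ p = 1} := by
  classical
  have := Fintype.ofFinite G
  rw [Nat.card_eq_fintype_card] at hdvd
  have hp' : p - 1 ≠ 0 := mt tsub_eq_zero_iff_le.mp (not_le_of_gt hp.out.one_lt)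
  have Scard : p ∣ Fintype.card (vectorsProdEqOne G p) := by
    rw [VectorsProdEqOne.card G p]
    exact hdvd.trans (dvd_pow (dvd_refl _) hp')
  let f : Function.End (vectorsProdEqOne G p) := fun v => VectorsProdEqOne.rotate v 1
  have hf : ∀ k v, (f ^ k) v = VectorsProdEqOne.rotate v k := by
    intro k
    induction k with
    | zero => intro v; rw [pow_zero, VectorsProdEqOne.rotate_zero]; rfl
    | succ k ih =>
      intro v
      rw [pow_succ]
      show (f ^ k) (f v) = _
      rw [ih]
      show VectorsProdEqOne.rotate (VectorsProdEqOne.rotate v 1) k = _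
      rw [VectorsProdEqOne.rotate_rotate, add_comm]
  have hfp : f ^ p ^ 1 = 1 := by
    funext v
    rw [pow_one, hf, VectorsProdEqOne.rotate_length]; rfl
  have hmod := card_fixedPoints_modEq hfp
  have h1 : p ∣ Fintype.card (Function.fixedPoints f) :=
    (Nat.modEq_zero_iff_dvd.1 (hmod.symm.trans (Nat.modEq_zero_iff_dvd.2 Scard)))
  have e : {x : G // x ^ p = 1} ≃ Function.fixedPoints f := by
    refine Equiv.ofBijective (fun x => ⟨⟨⟨List.replicate p x.1, List.length_replicate⟩,
      (List.prod_replicate p x.1).trans x.2⟩,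
      Subtype.ext (Subtype.ext (List.rotate_replicate x.1 p 1))⟩) ⟨?_, ?_⟩
    · intro x y hxy
      have h2 : List.replicate p x.1 = List.replicate p y.1 :=
        congrArg (fun z : Function.fixedPoints f => z.1.1.1) hxy
      have h3 := (List.replicate_inj.1 h2).2
      rcases h3 with h3 | h3
      · exact absurd h3 hp.out.ne_zero
      · exact Subtype.ext h3
    · rintro ⟨v, hv⟩
      have hv' : v.1.1.rotate 1 = v.1.1 := congrArg (fun z : vectorsProdEqOne G p => z.1.1) hv
      obtain ⟨g, hg⟩ := List.rotate_one_eq_self_iff_eq_replicate.1 hv'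
      rw [v.1.2] at hg
      refine ⟨⟨g, ?_⟩, ?_⟩
      · rw [← List.prod_replicate, ← hg]; exact v.2
      · exact Subtype.ext (Subtype.ext (Subtype.ext hg.symm))
  rw [Nat.card_congr e, Nat.card_eq_fintype_card]
  exact h1

/-- the elements of order `p` come in packets of `p - 1` -/
theorem pred_dvd_card_orderOf (G : Type*) [Group G] [Finite G] (p : ℕ) [hp : Fact p.Prime] :
    (p - 1) ∣ Nat.card {x : G // orderOf x = p} := by
  classical
  have := Fintype.ofFinite G
  rw [Nat.card_eq_fintype_card, Fintype.card_subtype]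
  set S := Finset.univ.filter (fun x : G => orderOf x = p) with hS
  rw [Finset.card_eq_sum_card_fiberwise (f := fun x : G => Subgroup.zpowers x)
    (t := S.image (fun x : G => Subgroup.zpowers x)) (fun x hx => Finset.mem_image_of_mem _ hx)]
  apply Finset.dvd_sum
  intro C hC
  obtain ⟨x0, hx0, rfl⟩ := Finset.mem_image.1 hC
  have hx0' : orderOf x0 = p := (Finset.mem_filter.1 hx0).2
  have hcard : Nat.card (Subgroup.zpowers x0) = p := by rw [Nat.card_zpowers, hx0']
  have key : S.filter (fun x => Subgroup.zpowers x = Subgroup.zpowers x0) =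
      ((Subgroup.zpowers x0 : Set G).toFinset).erase 1 := by
    ext x
    simp only [Finset.mem_filter, Finset.mem_erase, Set.mem_toFinset, SetLike.mem_coe, hS,
      Finset.mem_univ, true_and]
    constructor
    · rintro ⟨h1, h2⟩
      refine ⟨?_, h2 ▸ Subgroup.mem_zpowers x⟩
      rintro rfl
      rw [orderOf_one] at h1
      exact hp.out.one_lt.ne h1
    · rintro ⟨h1, h2⟩
      have h3 : orderOf x ∣ p := by
        have := orderOf_dvd_natCard (⟨x, h2⟩ : Subgroup.zpowers x0)
        rwa [hcard, Subgroup.orderOf_mk] at this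
      have h4 : orderOf x = p := by
        rcases (Nat.dvd_prime hp.out).1 h3 with h | h
        · exact absurd (orderOf_eq_one_iff.1 h) h1
        · exact h
      refine ⟨h4, ?_⟩
      apply Subgroup.eq_of_le_of_card_ge
      · rwa [Subgroup.zpowers_le]
      · rw [hcard, Nat.card_zpowers, h4]
  rw [key, Finset.card_erase_of_mem (by simp [Subgroup.one_mem]), Set.toFinset_card,
    ← Nat.card_eq_fintype_card]
  rw [show Nat.card ↑(Subgroup.zpowers x0 : Set G) = p from hcard]

theorem card_pow_eq_one (G : Type*) [Group G] [Finite G] (p : ℕ) [hp : Fact p.Prime] :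
    Nat.card {x : G // x ^ p = 1} = Nat.card {x : G // orderOf x = p} + 1 := by
  classical
  have := Fintype.ofFinite G
  rw [Nat.card_eq_fintype_card, Nat.card_eq_fintype_card, Fintype.card_subtype, Fintype.card_subtype]
  have : Finset.univ.filter (fun x : G => x ^ p = 1) =
      insert 1 (Finset.univ.filter (fun x : G => orderOf x = p)) := by
    ext x
    simp only [Finset.mem_filter, Finset.mem_univ, true_and, Finset.mem_insert]
    rw [← orderOf_dvd_iff_pow_eq_one, Nat.dvd_prime hp.out, orderOf_eq_one_iff]
  rw [this, Finset.card_insert_of_notMem]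
  simp only [Finset.mem_filter, Finset.mem_univ, true_and, orderOf_one]
  exact hp.out.one_lt.ne

end Cfsg.Agent.Lib.Helper33SimpleA
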