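import Cfsg.Agent.Lib.Helper33Trans

/-! # Transport lemmas along elements of the group of the code (helper33) -/

set_option autoImplicit false

namespace Cfsg.Agent.Lib.Helper33Transport

open Cfsg Cfsg.Agent.Lib.Helper33Golay
open scoped Pointwise

theorem land_eq (a b : ℕ) : Nat.land a b = a &&& b := rfl

theorem lor_eq (a b : ℕ) : Nat.lor a b = a ||| b := rfl

theorem xor_eq (a b : ℕ) : Nat.xor a b = a ^^^ b := rfl

theorem disjoint_smul (g : Equiv.Perm GolayPt) (A B : Finset GolayPt) :
    Disjoint (g • A) (g • B) ↔ Disjoint A B := by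
  rw [Finset.disjoint_iff_inter_eq_empty, Finset.disjoint_iff_inter_eq_empty,
    ← Finset.smul_finset_inter, Finset.smul_finset_eq_empty]

/-- if `Q (g • U) ↔ P U` then `Q` and `P` have equally many solutions -/
theorem ncard_transport {α : Type*} [MulAction (Equiv.Perm GolayPt) α] (g : Equiv.Perm GolayPt)
    (P Q : α → Prop) (h : ∀ U, Q (g • U) ↔ P U) : {U | Q U}.ncard = {U | P U}.ncard := by
  have : {U | Q U} = (fun U => g • U) '' {U | P U} := by
    ext U
    constructor
    · intro hU
      exact ⟨g⁻¹ • U, (h _).1 (by rw [smul_inv_smul]; exact hU), smul_inv_smul g U⟩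
    · rintro ⟨V, hV, rfl⟩
      exact (h V).2 hV
  rw [this, Set.ncard_image_of_injective _ (MulAction.injective g)]

theorem card_inter_smul (g : Equiv.Perm GolayPt) (A B : Finset GolayPt) :
    (g • A ∩ g • B).card = (A ∩ B).card := by
  rw [← Finset.smul_finset_inter, Finset.card_smul_finset]

end Cfsg.Agent.Lib.Helper33Transport
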