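import Mathlib

set_option autoImplicit false

/-!
# Verified "central" coset tables (helper34)

Let `x y` be two elements of a group `Γ`, `H = wev x y hw` a word in them, and let `a k` be central
elements which are the values of the relator words `rel k`.  A certificate `Cert` is a coset table
for the cyclic subgroup generated by `H`, every entry of which carries a "voltage": an exponent of
`H` and an integer vector of exponents of the `a k`.  Every entry is justified by a spanning tree,
by the subgroup generator, or by a relator all of whose other edges have smaller rank.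
Consequences: every element of `closure {x, y}` is `H ^ c * wrep j * ∏ a k ^ v k`, and scanning
relators through the finished table gives relations between the `a k`.
-/

namespace Cfsg.Agent.Lib.Helper34CovA

open scoped IsMulCommutative

section words
variable {Γ : Type*} [Group Γ]

/-- the generator belonging to a letter -/
def gen (x y : Γ) (l : ℕ) : Γ := if l = 0 then x else y

/-- value of a positive word -/
def wev (x y : Γ) : List ℕ → Γ
  | [] => 1
  | l :: ls => gen x y l * wev x y ls

theorem wev_append (x y : Γ) (u v : List ℕ) : wev x y (u ++ v) = wev x y u * wev x y v := by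
  induction u with
  | nil => simp [wev]
  | cons l ls ih => simp [wev, ih, mul_assoc]

theorem wev_rotate (x y : Γ) (l : List ℕ) (n : ℕ) (hz : ∀ g : Γ, g * wev x y l = wev x y l * g) :
    wev x y (l.rotate n) = wev x y l := by
  rw [List.rotate_eq_drop_append_take_mod, wev_append]
  have h1 : wev x y l = wev x y (l.take (n % l.length)) * wev x y (l.drop (n % l.length)) := by
    rw [← wev_append, List.take_append_drop]
  have h2 := hz (wev x y (l.drop (n % l.length)))
  rw [h1] at h2 ⊢
  rw [← mul_assoc] at h2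
  have h3 := hz (wev x y (l.take (n % l.length)))⁻¹
  rw [h1] at h3
  calc wev x y (l.drop (n % l.length)) * wev x y (l.take (n % l.length))
      = (wev x y (l.take (n % l.length)))⁻¹ * (wev x y (l.take (n % l.length)) *
          wev x y (l.drop (n % l.length))) * wev x y (l.take (n % l.length)) := by group
    _ = wev x y (l.take (n % l.length)) * wev x y (l.drop (n % l.length)) *
          (wev x y (l.take (n % l.length)))⁻¹ * wev x y (l.take (n % l.length)) := by rw [h3]
    _ = _ := by group

theorem map_wev {X : Type*} [Group X] (τ : Γ →* X) (x y : Γ) (w : List ℕ) :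
    τ (wev x y w) = wev (τ x) (τ y) w := by
  induction w with
  | nil => simp [wev]
  | cons l ls ih =>
    simp only [wev, map_mul, ih, gen]
    split_ifs <;> rfl

end words

/-- the certificate -/
structure Cert where
  N : ℕ
  m : ℕ
  R : ℕ
  hw : List ℕ
  rel : ℕ → List ℕ
  T : ℕ → ℕ → ℕ
  par : ℕ → ℕ
  pg : ℕ → ℕ
  rk : ℕ → ℕ → ℕ
  jk : ℕ → ℕ → ℕ
  jr : ℕ → ℕ → ℕ
  vc : ℕ → ℕ → ℤ
  vv : ℕ → ℕ → ℕ → ℤ

namespace Cert
variable (C : Cert)

def endc : List ℕ → ℕ → ℕ
  | [], i => i
  | l :: ls, i => endc ls (C.T l i)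

def okr (r : ℕ) : List ℕ → ℕ → Bool
  | [], _ => true
  | l :: ls, i => decide (l < 2) && (decide (C.rk l i < r) && okr r ls (C.T l i))

def cs : List ℕ → ℕ → ℤ
  | [], _ => 0
  | l :: ls, i => C.vc l i + cs ls (C.T l i)

def vs : List ℕ → ℕ → ℕ → ℤ
  | [], _, _ => 0
  | l :: ls, i, q => C.vv l i q + vs ls (C.T l i) q

/-- check of one table entry -/
def chkE (l i : ℕ) : Bool :=
  decide (C.T l i < C.N) && decide (C.rk l i < C.R) &&
  (match C.jk l i with
   | 0 => decide (C.par (C.T l i) = i) && (decide (i < C.T l i) && (decide (C.pg (C.T l i) = l) &&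
        (decide (C.vc l i = 0) && (List.range C.m).all (fun q => decide (C.vv l i q = 0)))))
   | 1 => decide (C.hw = C.hw.dropLast ++ [l]) && (decide (C.T l i = 0) &&
        (C.okr (C.rk l i) C.hw.dropLast 0 && (decide (C.endc C.hw.dropLast 0 = i) &&
        (decide (C.cs C.hw.dropLast 0 + C.vc l i = 1) &&
          (List.range C.m).all (fun q => decide (C.vs C.hw.dropLast 0 q + C.vv l i q = 0))))))
   | k + 2 => decide (k < C.m) &&
        (decide ((C.rel k).rotate (C.jr l i) = ((C.rel k).rotate (C.jr l i)).dropLast ++ [l]) &&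
        (C.okr (C.rk l i) ((C.rel k).rotate (C.jr l i)).dropLast (C.T l i) &&
        (decide (C.endc ((C.rel k).rotate (C.jr l i)).dropLast (C.T l i) = i) &&
        (decide (C.cs ((C.rel k).rotate (C.jr l i)).dropLast (C.T l i) + C.vc l i = 0) &&
          (List.range C.m).all (fun q => decide
            (C.vs ((C.rel k).rotate (C.jr l i)).dropLast (C.T l i) q + C.vv l i q
              = if q = k then 1 else 0)))))))

def chkAll : Bool := (List.range 2).all fun l => (List.range C.N).all fun i => C.chkE l i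

end Cert

section sound
variable {Γ : Type*} [Group Γ] (C : Cert) (x y : Γ) (a : ℕ → Subgroup.center Γ)

/-- coset representatives -/
def wrep (C : Cert) (x y : Γ) (j : ℕ) : Γ :=
  if _h : C.par j < j then wrep C x y (C.par j) * gen x y (C.pg j) else 1
termination_by j

theorem wrep_zero : wrep C x y 0 = 1 := by
  rw [wrep]; simp

theorem wrep_succ {j : ℕ} (h : C.par j < j) :
    wrep C x y j = wrep C x y (C.par j) * gen x y (C.pg j) := by
  rw [wrep]; simp [h]

theorem wrep_of_not {j : ℕ} (h : ¬ C.par j < j) : wrep C x y j = 1 := by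
  rw [wrep]; simp [h]

theorem map_wrep {X : Type*} [Group X] (τ : Γ →* X) (j : ℕ) :
    τ (wrep C x y j) = wrep C (τ x) (τ y) j := by
  induction j using Nat.strong_induction_on with
  | _ j ih =>
    by_cases h : C.par j < j
    · rw [wrep_succ C x y h, wrep_succ C _ _ h, map_mul, ih _ h]
      congr 1
      simp only [gen]; split_ifs <;> rfl
    · rw [wrep_of_not C x y h, wrep_of_not C _ _ h, map_one]

/-- the central element with exponent vector `v` -/
def al (m : ℕ) (v : ℕ → ℤ) : Subgroup.center Γ := ∏ k ∈ Finset.range m, a k ^ v k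

theorem al_add (m : ℕ) (v w : ℕ → ℤ) : al a m (fun q => v q + w q) = al a m v * al a m w := by
  simp only [al, zpow_add, Finset.prod_mul_distrib]

theorem al_zero (m : ℕ) : al a m (fun _ => 0) = 1 := by simp [al]

theorem al_congr (m : ℕ) {v w : ℕ → ℤ} (h : ∀ q < m, v q = w q) : al a m v = al a m w := by
  apply Finset.prod_congr rfl
  intro k hk
  rw [h k (Finset.mem_range.1 hk)]

theorem al_single (m k : ℕ) (hk : k < m) : al a m (fun q => if q = k then 1 else 0) = a k := by
  unfold al
  rw [Finset.prod_eq_single k]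
  · simp
  · intro b _ hb; simp [hb]
  · intro h; exact absurd (Finset.mem_range.2 hk) h

theorem al_smul (m : ℕ) (n : ℤ) (v : ℕ → ℤ) : al a m (fun q => n * v q) = al a m v ^ n := by
  unfold al
  rw [← Finset.prod_zpow]
  apply Finset.prod_congr rfl
  intro k _
  show a k ^ (n * v k) = (a k ^ v k) ^ n
  rw [mul_comm, zpow_mul]

theorem cen (z : Subgroup.center Γ) (g : Γ) : g * (z : Γ) = z * g :=
  Subgroup.mem_center_iff.1 z.2 g

/-- the statement carried by a table entry -/
def P (l i : ℕ) : Prop :=
  C.T l i < C.N ∧ wrep C x y i * gen x y l =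
    wev x y C.hw ^ C.vc l i * wrep C x y (C.T l i) * (al a C.m (C.vv l i) : Γ)

theorem reorg (h1 w1 W h2 wj : Γ) (A1 A2 : Subgroup.center Γ) (e : w1 * W = h2 * wj * (A2 : Γ)) :
    h1 * w1 * (A1 : Γ) * W = h1 * h2 * wj * ((A1 * A2 : Subgroup.center Γ) : Γ) := by
  rw [mul_assoc (h1 * w1), ← cen A1 W, ← mul_assoc, mul_assoc h1 w1 W, e, Subgroup.coe_mul,
    ← cen A1 (A2 : Γ)]
  simp only [mul_assoc]

theorem scan_sound (r : ℕ) (IH : ∀ l < 2, ∀ i < C.N, C.rk l i < r → P C x y a l i) :
    ∀ (w : List ℕ) (i : ℕ), i < C.N → C.okr r w i = true →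
      C.endc w i < C.N ∧ wrep C x y i * wev x y w =
        wev x y C.hw ^ C.cs w i * wrep C x y (C.endc w i) * (al a C.m (C.vs w i) : Γ) := by
  intro w
  induction w with
  | nil =>
    intro i hi _
    refine ⟨hi, ?_⟩
    have : al a C.m (C.vs [] i) = 1 := al_zero a C.m
    simp [wev, Cert.endc, Cert.cs, this]
  | cons l ls ih =>
    intro i hi hok
    simp only [Cert.okr, Bool.and_eq_true, decide_eq_true_eq] at hok
    obtain ⟨hl, hr, hok'⟩ := hok
    obtain ⟨h1, h2⟩ := IH l hl i hi hr
    obtain ⟨h3, h4⟩ := ih (C.T l i) h1 hok'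
    refine ⟨h3, ?_⟩
    have h5 : al a C.m (C.vs (l :: ls) i) = al a C.m (C.vv l i) * al a C.m (C.vs ls (C.T l i)) :=
      al_add a C.m _ _
    rw [h5]
    simp only [wev, Cert.endc, Cert.cs]
    rw [← mul_assoc, h2, reorg _ _ _ _ _ _ _ h4, zpow_add]

theorem all_of_range {n : ℕ} {f : ℕ → Bool} (h : (List.range n).all f = true) (q : ℕ) (hq : q < n) :
    f q = true := by
  rw [List.all_eq_true] at h
  exact h q (List.mem_range.2 hq)

theorem edge_sound (hrel : ∀ k < C.m, wev x y (C.rel k) = (a k : Γ)) (l i : ℕ)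
    (hi : i < C.N) (hchk : C.chkE l i = true)
    (IH : ∀ l' < 2, ∀ i' < C.N, C.rk l' i' < C.rk l i → P C x y a l' i') : P C x y a l i := by
  unfold Cert.chkE at hchk
  rw [Bool.and_eq_true, Bool.and_eq_true] at hchk
  obtain ⟨⟨hT, -⟩, hm⟩ := hchk
  have hT' : C.T l i < C.N := of_decide_eq_true hT
  refine ⟨hT', ?_⟩
  split at hm
  · -- tree
    simp only [Bool.and_eq_true, decide_eq_true_eq] at hm
    obtain ⟨h1, h2, h3, h4, h5⟩ := hm
    have h6 : al a C.m (C.vv l i) = 1 := by
      rw [← al_zero a C.m]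
      apply al_congr
      intro q hq
      exact of_decide_eq_true (all_of_range h5 q hq)
    have h7 : C.par (C.T l i) < C.T l i := by rw [h1]; exact h2
    rw [h6, h4, wrep_succ C x y h7, h1, h3]
    simp
  · -- subgroup generator
    simp only [Bool.and_eq_true, decide_eq_true_eq] at hm
    obtain ⟨h1, h2, h3, h4, h5, h6⟩ := hm
    have hN : 0 < C.N := lt_of_le_of_lt (Nat.zero_le _) hi
    obtain ⟨-, e⟩ := scan_sound C x y a _ IH _ 0 hN h3
    rw [h4, wrep_zero, one_mul] at e
    have e2 : wev x y C.hw = wev x y C.hw.dropLast * gen x y l := by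
      conv_lhs => rw [h1]
      rw [wev_append]; simp [wev]
    have h7 : al a C.m (C.vs C.hw.dropLast 0) * al a C.m (C.vv l i) = 1 := by
      rw [← al_add, ← al_zero a C.m]
      apply al_congr
      intro q hq
      exact of_decide_eq_true (all_of_range h6 q hq)
    rw [h2, wrep_zero, mul_one]
    have h8 : wev x y C.hw ^ C.cs C.hw.dropLast 0 * (wrep C x y i * gen x y l) *
        (al a C.m (C.vs C.hw.dropLast 0) : Γ) = wev x y C.hw := by
      conv_rhs => rw [e2, e]
      rw [mul_assoc _ _ (gen x y l), ← cen _ (gen x y l)]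
      simp only [mul_assoc]
    have h9 : wev x y C.hw ^ C.cs C.hw.dropLast 0 *
        (wev x y C.hw ^ C.vc l i * (al a C.m (C.vv l i) : Γ)) *
        (al a C.m (C.vs C.hw.dropLast 0) : Γ) = wev x y C.hw := by
      rw [← mul_assoc, ← zpow_add, h5, zpow_one, mul_assoc, ← Subgroup.coe_mul, mul_comm, h7]
      simp
    exact mul_left_cancel (mul_right_cancel (h8.trans h9.symm))
  · -- relator
    rename_i k hk
    simp only [Bool.and_eq_true, decide_eq_true_eq] at hm
    obtain ⟨h0, h1, h3, h4, h5, h6⟩ := hm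
    obtain ⟨-, e⟩ := scan_sound C x y a _ IH _ _ hT' h3
    rw [h4] at e
    have hz : ∀ g : Γ, g * wev x y (C.rel k) = wev x y (C.rel k) * g := by
      intro g; rw [hrel k h0]; exact cen _ g
    have e2 : (a k : Γ) = wev x y ((C.rel k).rotate (C.jr l i)).dropLast * gen x y l := by
      rw [← hrel k h0, ← wev_rotate x y (C.rel k) (C.jr l i) hz]
      conv_lhs => rw [h1]
      rw [wev_append]; simp [wev]
    have h7 : al a C.m (C.vs ((C.rel k).rotate (C.jr l i)).dropLast (C.T l i)) *
        al a C.m (C.vv l i) = a k := by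
      rw [← al_add, ← al_single a C.m k h0]
      apply al_congr
      intro q hq
      exact of_decide_eq_true (all_of_range h6 q hq)
    set pre := ((C.rel k).rotate (C.jr l i)).dropLast with hpre
    have h8 : wev x y C.hw ^ C.cs pre (C.T l i) * (wrep C x y i * gen x y l) *
        (al a C.m (C.vs pre (C.T l i)) : Γ) = wrep C x y (C.T l i) * (a k : Γ) := by
      conv_rhs => rw [e2, ← mul_assoc, e]
      rw [mul_assoc _ _ (gen x y l), ← cen _ (gen x y l)]
      simp only [mul_assoc]
    have h9 : wev x y C.hw ^ C.cs pre (C.T l i) *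
        (wev x y C.hw ^ C.vc l i * wrep C x y (C.T l i) * (al a C.m (C.vv l i) : Γ)) *
        (al a C.m (C.vs pre (C.T l i)) : Γ) = wrep C x y (C.T l i) * (a k : Γ) := by
      rw [← h7, mul_comm (al a C.m (C.vs pre (C.T l i))), Subgroup.coe_mul]
      rw [← mul_assoc, ← mul_assoc, ← zpow_add, h5, zpow_zero, one_mul, mul_assoc]
    exact mul_left_cancel (mul_right_cancel (h8.trans h9.symm))

theorem chkE_of_all (hchk : C.chkAll = true) (l i : ℕ) (hl : l < 2) (hi : i < C.N) :
    C.chkE l i = true :=
  all_of_range (all_of_range hchk l hl) i hi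

theorem all_P (hrel : ∀ k < C.m, wev x y (C.rel k) = (a k : Γ)) (hchk : C.chkAll = true) :
    ∀ l < 2, ∀ i < C.N, P C x y a l i := by
  have key : ∀ r : ℕ, ∀ l < 2, ∀ i < C.N, C.rk l i < r → P C x y a l i := by
    intro r
    induction r with
    | zero => intro l _ i _ h; exact absurd h (Nat.not_lt_zero _)
    | succ r ih =>
      intro l hl i hi h
      apply edge_sound C x y a hrel l i hi (chkE_of_all C hchk l i hl hi)
      intro l' hl' i' hi' h'
      exact ih l' hl' i' hi' (lt_of_lt_of_le h' (Nat.lt_succ_iff.1 h))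
  intro l hl i hi
  exact key _ l hl i hi (Nat.lt_succ_self _)

theorem rk_lt (hchk : C.chkAll = true) (l i : ℕ) (hl : l < 2) (hi : i < C.N) : C.rk l i < C.R := by
  have h := chkE_of_all C hchk l i hl hi
  unfold Cert.chkE at h
  rw [Bool.and_eq_true, Bool.and_eq_true] at h
  exact of_decide_eq_true h.1.2

/-- scanning through the finished table -/
theorem scan_all (hrel : ∀ k < C.m, wev x y (C.rel k) = (a k : Γ)) (hchk : C.chkAll = true)
    (w : List ℕ) (i : ℕ) (hi : i < C.N) (hok : C.okr C.R w i = true) :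
    C.endc w i < C.N ∧ wrep C x y i * wev x y w =
        wev x y C.hw ^ C.cs w i * wrep C x y (C.endc w i) * (al a C.m (C.vs w i) : Γ) :=
  scan_sound C x y a C.R (fun l hl i hi _ => all_P C x y a hrel hchk l hl i hi) w i hi hok

/-- a relator scanned at any coset gives a relation -/
theorem closing (hrel : ∀ k < C.m, wev x y (C.rel k) = (a k : Γ)) (hchk : C.chkAll = true)
    (k s : ℕ) (hk : k < C.m) (hs : s < C.N) (hok : C.okr C.R (C.rel k) s = true)
    (hend : C.endc (C.rel k) s = s) :
    wev x y C.hw ^ C.cs (C.rel k) s =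
      (al a C.m (fun q => (if q = k then 1 else 0) + (-1) * C.vs (C.rel k) s q) : Γ) := by
  obtain ⟨-, e⟩ := scan_all C x y a hrel hchk _ s hs hok
  rw [hend, hrel k hk, cen, mul_assoc, cen, ← mul_assoc] at e
  have e2 := mul_right_cancel e
  rw [al_add, al_single a C.m k hk, al_smul, Subgroup.coe_mul, e2]
  simp

/-- normal form of the elements of the subgroup generated by `x` and `y` -/
theorem cover [Finite Γ] (hrel : ∀ k < C.m, wev x y (C.rel k) = (a k : Γ)) (hchk : C.chkAll = true)
    (hN : 0 < C.N) (g : Γ) (hg : g ∈ Subgroup.closure ({x, y} : Set Γ)) :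
    ∃ (c : ℤ) (j : ℕ) (v : ℕ → ℤ), j < C.N ∧
      g = wev x y C.hw ^ c * wrep C x y j * (al a C.m v : Γ) := by
  have step : ∀ (g : Γ) (l : ℕ), l < 2 → (∃ (c : ℤ) (j : ℕ) (v : ℕ → ℤ), j < C.N ∧
      g = wev x y C.hw ^ c * wrep C x y j * (al a C.m v : Γ)) →
      ∃ (c : ℤ) (j : ℕ) (v : ℕ → ℤ), j < C.N ∧
      g * gen x y l = wev x y C.hw ^ c * wrep C x y j * (al a C.m v : Γ) := by
    rintro g l hl ⟨c, j, v, hj, rfl⟩
    obtain ⟨h1, h2⟩ := all_P C x y a hrel hchk l hl j hj
    refine ⟨c + C.vc l j, C.T l j, fun q => v q + C.vv l j q, h1, ?_⟩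
    rw [reorg _ _ _ _ _ _ _ h2, al_add, zpow_add]
  have stepn : ∀ (l : ℕ), l < 2 → ∀ (n : ℕ) (g : Γ), (∃ (c : ℤ) (j : ℕ) (v : ℕ → ℤ), j < C.N ∧
      g = wev x y C.hw ^ c * wrep C x y j * (al a C.m v : Γ)) →
      ∃ (c : ℤ) (j : ℕ) (v : ℕ → ℤ), j < C.N ∧
      g * gen x y l ^ n = wev x y C.hw ^ c * wrep C x y j * (al a C.m v : Γ) := by
    intro l hl n
    induction n with
    | zero => intro g h; simpa using h
    | succ n ih =>
      intro g h
      rw [pow_succ, ← mul_assoc]
      exact step _ l hl (ih g h)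
  have hgen : ∀ z ∈ ({x, y} : Set Γ), ∃ l < 2, z = gen x y l := by
    intro z hz
    rcases hz with rfl | hz
    · exact ⟨0, by norm_num, by simp [gen]⟩
    · exact ⟨1, by norm_num, by simp [gen, Set.mem_singleton_iff.1 hz]⟩
  induction hg using Subgroup.closure_induction_right with
  | one => exact ⟨0, 0, fun _ => 0, hN, by simp [wrep_zero, al_zero]⟩
  | mul_right g _ z hz ih =>
    obtain ⟨l, hl, rfl⟩ := hgen z hz
    exact step g l hl ih
  | mul_inv_cancel g _ z hz ih =>
    obtain ⟨l, hl, rfl⟩ := hgen z hz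
    have h1 : (gen x y l)⁻¹ = gen x y l ^ (orderOf (gen x y l) - 1) := by
      have h2 : 0 < orderOf (gen x y l) := orderOf_pos _
      rw [eq_comm, ← mul_eq_one_iff_eq_inv, ← pow_succ, Nat.sub_add_cancel h2, pow_orderOf_eq_one]
    rw [h1]
    exact stepn l hl _ g ih

end sound

end Cfsg.Agent.Lib.Helper34CovA
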