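import Cfsg.Agent.Lib.Helper34CovC
import Cfsg.Agent.Lib.Helper64J2P315

set_option autoImplicit false

/-!
# Central coset tables, part D: the bound coming from a perfect subgroup of `P315` (helper34)
-/

namespace Cfsg.Agent.Lib.Helper34CovD

open Cfsg.Agent.Lib.Helper34CovA Cfsg.Agent.Lib.Helper34CovB Cfsg.Agent.Lib.Helper34CovC
  Cfsg.Agent.Lib.Helper34J2Perm

theorem index_of_card {U : Subgroup P315} {n idx : ℕ} (hU : Nat.card U = n) (hn : 0 < n)
    (h : idx * n = 604800) : U.index = idx := by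
  have h1 := U.index_mul_card
  rw [hU, Cfsg.Agent.Helper64J2.card_P315, ← h] at h1
  exact Nat.eq_of_mul_eq_mul_right hn h1

theorem sub_bound {Γ : Type*} [Group Γ] [Finite Γ] (τ : Γ →* P315)
    (hsurj : Function.Surjective τ) (hc : τ.ker ≤ Subgroup.center Γ) (hs : τ.ker ≤ commutator Γ)
    (wx wy base : List ℕ) (C : Cert) (A : LA) (idx : ℕ)
    (chk1 : C.chkAll = true) (chk2 : chkNorm C A = true) (chk3 : chkSrc C A = true)
    (chk4 : chkRows C A = true)
    (chk5 : (List.range C.m).all (fun k => triv (expand wx wy (C.rel k))) = true)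
    (chk6 : C.rel 0 = (List.replicate A.oh C.hw).flatten)
    (chk7 : base.all (fun b => decide (b < 315)) = true)
    (ord : List ℕ) (chk8 : (ord.all (fun t => decide (t < A.oh * C.N)) && ord.length == A.oh * C.N) = true)
    (chk9 : incr (ord.map fun t => code (key C wx wy base t)) = true)
    (hm : 0 < C.m) (hpos : 0 < A.oh * C.N) (hidx : idx * (A.oh * C.N) = 604800) :
    ∃ b : Γ, b * b = 1 ∧ ∀ k ∈ τ.ker, k ^ idx = 1 ∨ k ^ idx = b := by
  have hoh : 0 < A.oh := Nat.pos_of_mul_pos_right hpos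
  have hN : 0 < C.N := Nat.pos_of_mul_pos_left hpos
  have hrelX : ∀ k < C.m, wev (sw wx) (sw wy) (C.rel k) = 1 := by
    intro k hk
    rw [wev_sw]
    exact sw_eq_one (all_of_range chk5 k hk)
  have hHo : wev (sw wx) (sw wy) C.hw ^ A.oh = 1 := by
    rw [← wev_pow, ← chk6]; exact hrelX 0 hm
  have hinj := inj_of_keys C wx wy base A.oh ord chk7 chk8 chk9
  obtain ⟨x, y, b, hx, hy, hb, hker⟩ := perfect_bound τ hc C A (sw wx) (sw wy)
    (MonoidHom.mem_range.2 (hsurj _)) (MonoidHom.mem_range.2 (hsurj _)) hrelX chk1 hN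
    (hG_of_inj C _ _ A.oh hoh hN hHo hinj) chk2 chk3 chk4
  refine ⟨b, hb, ?_⟩
  intro k hk
  have h1 := pow_index_mem_closure τ hc hs {x, y} k hk
  have h2 : τ '' ({x, y} : Set Γ) = {sw wx, sw wy} := by rw [Set.image_pair, hx, hy]
  have h3 : ((Subgroup.closure (τ '' ({x, y} : Set Γ))).comap τ).index = idx := by
    rw [h2, Subgroup.index_comap_of_surjective _ hsurj]
    exact index_of_card (card_closure C _ _ A.oh hoh hrelX chk1 hN hHo hinj) hpos hidx
  rw [h3] at h1
  have h4 : ⁅Subgroup.closure ({x, y} : Set Γ), Subgroup.closure ({x, y} : Set Γ)⁆ ≤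
      Subgroup.closure ({x, y} : Set Γ) := by
    rw [Subgroup.commutator_le]
    intro g1 hg1 g2 hg2
    rw [commutatorElement_def]
    exact Subgroup.mul_mem _ (Subgroup.mul_mem _ (Subgroup.mul_mem _ hg1 hg2)
      (Subgroup.inv_mem _ hg1)) (Subgroup.inv_mem _ hg2)
  apply hker _ (h4 h1)
  rw [map_pow, MonoidHom.mem_ker.1 hk, one_pow]

end Cfsg.Agent.Lib.Helper34CovD
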