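import Cfsg.Agent.Lib.Helper34CovF

set_option autoImplicit false
set_option maxRecDepth 100000
set_option maxHeartbeats 4000000

/-! certificate data (generated by scratch/cov/emit_card.py, helper34) -/

namespace Cfsg.Agent.Lib.Helper34CovE3

open Cfsg.Agent.Lib.Helper34CovA Cfsg.Agent.Lib.Helper34CovB Cfsg.Agent.Lib.Helper34CovC
  Cfsg.Agent.Lib.Helper34CovD Cfsg.Agent.Lib.Helper34CovF

def wx : List ℕ := [0, 1, 3, 0, 1, 3, 0, 1, 3]
def wy : List ℕ := [0, 2, 1, 3, 2, 0, 3, 2, 0, 3, 2]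
def base : List ℕ := [0]
def dRel : List (List ℕ) := [[1, 1, 1, 1, 1],
  [0, 0, 0, 0, 0],
  [0, 0, 0, 0, 1, 0, 1, 1, 1, 1]]
def dT : List (List ℕ) := [[1, 2, 3, 4, 0],
  [0, 1, 2, 3, 4]]
def dPar : ℕ := 0x3010040000
def dPg : ℕ := 0x0
def dRk : List ℕ := [0, 0, 0, 0, 2, 1, 6, 5, 4, 3]
def dJk : List ℕ := [0, 0, 0, 0, 3, 1, 4, 4, 4, 4]
def dJr : List ℕ := [0, 0, 0, 0, 0, 0, 5, 5, 5, 5]
def dVc : List ℤ := [0, 0, 0, 0, 0, 1, 256, -64, 16, -4]
def dVv : List (List ℤ) := [[0, 0, 0],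
  [0, 0, 0],
  [0, 0, 0],
  [0, 0, 0],
  [0, 1, 0],
  [0, 0, 0],
  [0, 51, -51],
  [0, -13, 13],
  [0, 3, -3],
  [0, -1, 1]]

def C : Cert where
  N := 5
  m := 3
  R := 7
  hw := [1]
  rel := fun k => dRel.getD k []
  T := fun l i => (dT.getD l []).getD i 0
  par := fun j => Cfsg.Agent.Lib.Helper34J2Perm.tb dPar j
  pg := fun j => Cfsg.Agent.Lib.Helper34J2Perm.tb dPg j
  rk := fun l i => dRk.getD (l * 5 + i) 0
  jk := fun l i => dJk.getD (l * 5 + i) 0
  jr := fun l i => dJr.getD (l * 5 + i) 0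
  vc := fun l i => dVc.getD (l * 5 + i) 0
  vv := fun l i q => (dVv.getD (l * 5 + i) []).getD q 0

theorem chk1 : C.chkAll = true := by decide +kernel
theorem chk5 : (List.range C.m).all (fun k => triv (expand wx wy (C.rel k))) = true := by decide +kernel
theorem chk6 : C.rel 0 = (List.replicate 5 C.hw).flatten := by decide +kernel
theorem chk7 : base.all (fun b => decide (b < 315)) = true := by decide +kernel
def ord : List ℕ := [0, 13, 9, 21, 17, 12, 16, 22, 20, 8, 1, 18, 4, 14, 5, 23, 15, 19, 24, 11, 2, 10, 3, 6, 7]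
theorem chk8 : (ord.all (fun t => decide (t < 5 * C.N)) && ord.length == 5 * C.N) = true := by
  decide +kernel
theorem chk9 : incr (ord.map fun t => code (key C wx wy base t)) = true := by decide +kernel

theorem card : Nat.card (Subgroup.closure ({sw wx, sw wy} : Set Cfsg.Agent.Lib.Helper34J2Perm.P315)) = 25 :=
  sub_card wx wy base C 5 chk1 chk5 chk6 chk7 ord chk8 chk9 (by decide) (by decide)

end Cfsg.Agent.Lib.Helper34CovE3
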