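import Cfsg.Agent.Lib.Helper34CovD

set_option autoImplicit false

/-!
# Central coset tables, part F: abelian subgroups (helper34)

* `sub_card`: the order of a two-generator subgroup of `P315` from a table certificate;
* `comm_of_invert`: in a central extension the lifts of two commuting elements `u`, `v` commute as
  soon as `u ^ n = 1` with `n` odd and some `t` inverts `u` and centralises `v`;
* `pow_index_eq_one`: the transfer bound for a subgroup generated by commuting lifts.
-/

namespace Cfsg.Agent.Lib.Helper34CovF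

open scoped commutatorElement
open Cfsg.Agent.Lib.Helper34CovA Cfsg.Agent.Lib.Helper34CovB Cfsg.Agent.Lib.Helper34CovC
  Cfsg.Agent.Lib.Helper34CovD Cfsg.Agent.Lib.Helper34J2Perm

theorem sub_card (wx wy base : List ℕ) (C : Cert) (oh : ℕ)
    (chk1 : C.chkAll = true)
    (chk5 : (List.range C.m).all (fun k => triv (expand wx wy (C.rel k))) = true)
    (chk6 : C.rel 0 = (List.replicate oh C.hw).flatten)
    (chk7 : base.all (fun b => decide (b < 315)) = true)
    (ord : List ℕ) (chk8 : (ord.all (fun t => decide (t < oh * C.N)) && ord.length == oh * C.N) = true)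
    (chk9 : incr (ord.map fun t => code (key C wx wy base t)) = true)
    (hm : 0 < C.m) (hpos : 0 < oh * C.N) :
    Nat.card (Subgroup.closure ({sw wx, sw wy} : Set P315)) = oh * C.N := by
  have hoh : 0 < oh := Nat.pos_of_mul_pos_right hpos
  have hN : 0 < C.N := Nat.pos_of_mul_pos_left hpos
  have hrelX : ∀ k < C.m, wev (sw wx) (sw wy) (C.rel k) = 1 := by
    intro k hk
    rw [wev_sw]
    exact sw_eq_one (all_of_range chk5 k hk)
  have hHo : wev (sw wx) (sw wy) C.hw ^ oh = 1 := by
    rw [← wev_pow, ← chk6]; exact hrelX 0 hm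
  have hinj := inj_of_keys C wx wy base oh ord chk7 chk8 chk9
  exact card_closure C _ _ oh hoh hrelX chk1 hN hHo hinj

section generic

variable {Γ X : Type*} [Group Γ] [Group X]

theorem pow_comm {A B z : Γ} (hz : z ∈ Subgroup.center Γ) (h : A * B = z * (B * A)) (n : ℕ) :
    A ^ n * B = z ^ n * (B * A ^ n) := by
  have hzc := Subgroup.mem_center_iff.1 hz
  induction n with
  | zero => simp
  | succ n ih =>
    calc A ^ (n + 1) * B = A ^ n * (A * B) := by rw [pow_succ, mul_assoc]
      _ = A ^ n * (z * (B * A)) := by rw [h]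
      _ = (A ^ n * z) * (B * A) := by rw [mul_assoc]
      _ = (z * A ^ n) * (B * A) := by rw [hzc]
      _ = z * ((A ^ n * B) * A) := by simp only [mul_assoc]
      _ = z * ((z ^ n * (B * A ^ n)) * A) := by rw [ih]
      _ = z ^ (n + 1) * (B * A ^ (n + 1)) := by
        rw [pow_succ' z, pow_succ A]; simp only [mul_assoc]

theorem comm_of_invert (τ : Γ →* X) (hc : τ.ker ≤ Subgroup.center Γ) (A B N : Γ) (n : ℕ)
    (hn : τ A ^ (2 * n + 1) = 1) (hAB : τ A * τ B = τ B * τ A)
    (hNA : τ N * τ A * (τ N)⁻¹ = (τ A)⁻¹) (hNB : τ N * τ B * (τ N)⁻¹ = τ B) : A * B = B * A := by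
  have hk : τ ⁅A, B⁆ = 1 := by
    rw [map_commutatorElement, commutatorElement_eq_one_iff_mul_comm]; exact hAB
  have hz : ⁅A, B⁆ ∈ Subgroup.center Γ := hc hk
  have h0 : A * B = ⁅A, B⁆ * (B * A) := by rw [commutatorElement_def]; group
  have e1 : ⁅A, B⁆ = ⁅A, B⁆⁻¹ := by
    calc ⁅A, B⁆ = N * ⁅A, B⁆ * N⁻¹ := (Cfsg.Agent.Lib.Helper69Mult.conj_ker hc hk N).symm
      _ = ⁅N * A * N⁻¹, N * B * N⁻¹⁆ := conjugate_commutatorElement _ _ _
      _ = ⁅A⁻¹, B⁆ := Cfsg.Agent.Lib.Helper69Mult.comm_lift_eq hc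
          (by rw [map_mul, map_mul, map_inv, hNA, map_inv])
          (by rw [map_mul, map_mul, map_inv, hNB])
      _ = A⁻¹ * ⁅A, B⁆⁻¹ * A⁻¹⁻¹ := by rw [commutatorElement_def, commutatorElement_def]; group
      _ = ⁅A, B⁆⁻¹ := Cfsg.Agent.Lib.Helper69Mult.conj_ker hc (by rw [map_inv, hk, inv_one]) _
  have e2 : ⁅A, B⁆ ^ 2 = 1 := by
    rw [pow_two]
    conv_lhs => lhs; rw [e1]
    exact inv_mul_cancel _
  have e3 : ⁅A, B⁆ ^ (2 * n + 1) = 1 := by
    have h1 := pow_comm hz h0 (2 * n + 1)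
    have h2 : A ^ (2 * n + 1) ∈ Subgroup.center Γ := hc (by rw [MonoidHom.mem_ker, map_pow, hn])
    rw [← Subgroup.mem_center_iff.1 h2 B] at h1
    exact mul_eq_right.1 h1.symm
  have e4 : ⁅A, B⁆ = 1 := by
    rw [pow_succ, pow_mul, e2, one_pow, one_mul] at e3
    exact e3
  exact commutatorElement_eq_one_iff_mul_comm.1 e4

theorem pow_index_eq_one [Finite Γ] (τ : Γ →* X) (hc : τ.ker ≤ Subgroup.center Γ)
    (hs : τ.ker ≤ commutator Γ) (S : Set Γ) (hS : ∀ s ∈ S, ∀ t ∈ S, s * t = t * s)
    (k : Γ) (hk : k ∈ τ.ker) : k ^ ((Subgroup.closure (τ '' S)).comap τ).index = 1 := by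
  have h1 := pow_index_mem_closure τ hc hs S k hk
  have h2 : ⁅Subgroup.closure S, Subgroup.closure S⁆ = ⊥ := by
    rw [Subgroup.commutator_eq_bot_iff_le_centralizer, Subgroup.closure_le]
    intro s hs
    rw [SetLike.mem_coe, Subgroup.mem_centralizer_iff]
    intro g hg
    have : Subgroup.closure S ≤ Subgroup.centralizer {s} := by
      rw [Subgroup.closure_le]
      intro t ht
      rw [SetLike.mem_coe, Subgroup.mem_centralizer_iff]
      intro x hx
      rw [Set.mem_singleton_iff.1 hx]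
      exact hS s hs t ht
    have h3 := Subgroup.mem_centralizer_iff.1 (this hg) s (Set.mem_singleton s)
    exact h3.symm
  rw [h2, Subgroup.mem_bot] at h1
  exact h1

end generic

end Cfsg.Agent.Lib.Helper34CovF
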