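import Cfsg.Agent.Lib.Helper34CovE1
import Cfsg.Agent.Lib.Helper34CovE2
import Cfsg.Agent.Lib.Helper34CovE3

set_option autoImplicit false
set_option maxRecDepth 100000

/-!
# The kernel of a stem extension of `P315 ≅ J2` has at most two elements (helper34)
-/

namespace Cfsg.Agent.Lib.Helper34CovG

open Cfsg.Agent.Lib.Helper34CovA Cfsg.Agent.Lib.Helper34CovB Cfsg.Agent.Lib.Helper34CovC
  Cfsg.Agent.Lib.Helper34CovD Cfsg.Agent.Lib.Helper34CovF Cfsg.Agent.Lib.Helper34J2Perm

def wu : List ℕ := Cfsg.Agent.Lib.Helper34CovE3.wx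
def wv : List ℕ := Cfsg.Agent.Lib.Helper34CovE3.wy
def wt : List ℕ := [0, 3, 0, 3, 0, 1, 0, 3, 0, 3, 0]
def w7 : List ℕ := [0, 1, 2, 0, 3]

theorem u5 : sw wu ^ (2 * 2 + 1) = 1 := by
  have h : sw (wu ++ (wu ++ (wu ++ (wu ++ wu)))) = 1 := sw_eq_one (by decide +kernel)
  simp only [sw_append] at h
  rw [← h]
  simp only [pow_succ, pow_zero, one_mul, mul_assoc]

theorem uv : sw wu * sw wv = sw wv * sw wu := by
  rw [← sw_append, ← sw_append]
  exact sw_eq_sw (by decide +kernel)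

theorem tv : sw wt * sw wv * (sw wt)⁻¹ = sw wv := by
  have h : sw wt * sw wv = sw wv * sw wt := by
    rw [← sw_append, ← sw_append]
    exact sw_eq_sw (by decide +kernel)
  rw [h, mul_inv_cancel_right]

theorem tu : sw wt * sw wu * (sw wt)⁻¹ = (sw wu)⁻¹ := by
  have h : sw wu * (sw wt * sw wu) = sw wt := by
    rw [← sw_append, ← sw_append]
    exact sw_eq_sw (by decide +kernel)
  have h2 : sw wt * sw wu = (sw wu)⁻¹ * sw wt := by
    rw [eq_inv_mul_iff_mul_eq]; exact h
  rw [h2, mul_inv_cancel_right]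

theorem g7 : sw w7 ^ 7 = 1 := by
  have h : sw (w7 ++ (w7 ++ (w7 ++ (w7 ++ (w7 ++ (w7 ++ w7)))))) = 1 := sw_eq_one (by decide +kernel)
  simp only [sw_append] at h
  rw [← h]
  simp only [pow_succ, pow_zero, one_mul, mul_assoc]

theorem g7_ne : sw w7 ≠ 1 := by
  intro h
  have h1 := sw_apply w7 0
  rw [h] at h1
  revert h1
  simp only [Subgroup.coe_one, Equiv.Perm.coe_one, id_eq]
  decide +kernel

section
variable {Γ : Type*} [Group Γ] [Finite Γ] (τ : Γ →* P315)

theorem five_part (hsurj : Function.Surjective τ) (hc : τ.ker ≤ Subgroup.center Γ)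
    (hs : τ.ker ≤ commutator Γ) (k : Γ) (hk : k ∈ τ.ker) : k ^ 24192 = 1 := by
  obtain ⟨A, hA⟩ := hsurj (sw wu)
  obtain ⟨B, hB⟩ := hsurj (sw wv)
  obtain ⟨N, hN⟩ := hsurj (sw wt)
  have hAB : A * B = B * A := comm_of_invert τ hc A B N 2 (by rw [hA]; exact u5)
    (by rw [hA, hB]; exact uv) (by rw [hA, hN]; exact tu) (by rw [hB, hN]; exact tv)
  have h1 := pow_index_eq_one τ hc hs {A, B} (by
    intro s hs t ht
    simp only [Set.mem_insert_iff, Set.mem_singleton_iff] at hs ht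
    rcases hs with rfl | rfl <;> rcases ht with rfl | rfl
    · rfl
    · exact hAB
    · exact hAB.symm
    · rfl) k hk
  have h2 : τ '' ({A, B} : Set Γ) = {sw wu, sw wv} := by rw [Set.image_pair, hA, hB]
  have h3 : ((Subgroup.closure (τ '' ({A, B} : Set Γ))).comap τ).index = 24192 := by
    rw [h2, Subgroup.index_comap_of_surjective _ hsurj]
    exact index_of_card Cfsg.Agent.Lib.Helper34CovE3.card (by norm_num) (by norm_num)
  rwa [h3] at h1

theorem seven_part (hsurj : Function.Surjective τ) (hc : τ.ker ≤ Subgroup.center Γ)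
    (hs : τ.ker ≤ commutator Γ) (k : Γ) (hk : k ∈ τ.ker) : k ^ 86400 = 1 := by
  obtain ⟨A, hA⟩ := hsurj (sw w7)
  have h1 := pow_index_eq_one τ hc hs {A} (by
    intro s hs t ht
    rw [Set.mem_singleton_iff] at hs ht
    rw [hs, ht]) k hk
  have h2 : τ '' ({A} : Set Γ) = {sw w7} := by rw [Set.image_singleton, hA]
  have h3 : ((Subgroup.closure (τ '' ({A} : Set Γ))).comap τ).index = 86400 := by
    rw [h2, Subgroup.index_comap_of_surjective _ hsurj]
    refine index_of_card (n := 7) ?_ (by norm_num) (by norm_num)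
    rw [← Subgroup.zpowers_eq_closure, Nat.card_zpowers]
    haveI : Fact (Nat.Prime 7) := ⟨by norm_num⟩
    exact orderOf_eq_prime g7 g7_ne
  rwa [h3] at h1

/-- the kernel of a stem extension of `P315` has at most two elements -/
theorem ker_bound (hsurj : Function.Surjective τ) (hc : τ.ker ≤ Subgroup.center Γ)
    (hs : τ.ker ≤ commutator Γ) : ∃ b : Γ, b * b = 1 ∧ ∀ k ∈ τ.ker, k = 1 ∨ k = b := by
  obtain ⟨b, hb, h1⟩ := Cfsg.Agent.Lib.Helper34CovE1.bound τ hsurj hc hs
  obtain ⟨b', hb', h2⟩ := Cfsg.Agent.Lib.Helper34CovE2.bound τ hsurj hc hs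
  refine ⟨b, hb, ?_⟩
  intro k hk
  have e1 : k ^ 1120 = 1 := by
    rw [show 1120 = 560 * 2 from rfl, pow_mul, pow_two]
    rcases h2 k hk with h | h <;> rw [h]
    · exact one_mul 1
    · exact hb'
  have e2 := five_part τ hsurj hc hs k hk
  have e3 := seven_part τ hsurj hc hs k hk
  have d : orderOf k ∣ 32 := by
    have d1 := Nat.dvd_gcd (Nat.dvd_gcd (orderOf_dvd_of_pow_eq_one e1) (orderOf_dvd_of_pow_eq_one e2))
      (orderOf_dvd_of_pow_eq_one e3)
    have : Nat.gcd (Nat.gcd 1120 24192) 86400 = 32 := by norm_num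
    rwa [this] at d1
  have e4 : k ^ 32 = 1 := orderOf_dvd_iff_pow_eq_one.1 d
  have e5 : k = (k ^ 315) ^ 19 := by
    rw [← pow_mul, show 315 * 19 = 32 * 187 + 1 from rfl, pow_succ, pow_mul, e4, one_pow, one_mul]
  rcases h1 k hk with h | h
  · left; rw [e5, h, one_pow]
  · right
    rw [e5, h, show 19 = 2 * 9 + 1 from rfl, pow_succ, pow_mul, pow_two, hb, one_pow, one_mul]

end

end Cfsg.Agent.Lib.Helper34CovG
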