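import Cfsg.Agent.Lib.Helper34IcoD

set_option autoImplicit false

/-!
Data for the classification of the minimal vectors of the icosian Leech lattice.
-/

namespace Cfsg.Agent.Lib.Helper34IcoE

open Cfsg.Agent.Lib.Helper34IcoA Cfsg.Agent.Lib.Helper34IcoC

/-- all icosians of trace norm at most 4 -/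
def S32 : List Q8 := [
  ⟨0, 0, 0, 0, 0, 0, 0, 0⟩,
  ⟨-4, 0, 0, 0, 0, 0, 0, 0⟩,
  ⟨-2, 0, -2, 0, -2, 0, -2, 0⟩,
  ⟨-2, 0, -2, 0, -2, 0, 2, 0⟩,
  ⟨-2, 0, -2, 0, 2, 0, -2, 0⟩,
  ⟨-2, 0, -2, 0, 2, 0, 2, 0⟩,
  ⟨-2, 0, -1, -1, -1, 1, 0, 0⟩,
  ⟨-2, 0, -1, -1, 1, -1, 0, 0⟩,
  ⟨-2, 0, -1, 1, 0, 0, -1, -1⟩,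
  ⟨-2, 0, -1, 1, 0, 0, 1, 1⟩,
  ⟨-2, 0, 0, 0, -1, -1, -1, 1⟩,
  ⟨-2, 0, 0, 0, -1, -1, 1, -1⟩,
  ⟨-2, 0, 0, 0, 1, 1, -1, 1⟩,
  ⟨-2, 0, 0, 0, 1, 1, 1, -1⟩,
  ⟨-2, 0, 1, -1, 0, 0, -1, -1⟩,
  ⟨-2, 0, 1, -1, 0, 0, 1, 1⟩,
  ⟨-2, 0, 1, 1, -1, 1, 0, 0⟩,
  ⟨-2, 0, 1, 1, 1, -1, 0, 0⟩,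
  ⟨-2, 0, 2, 0, -2, 0, -2, 0⟩,
  ⟨-2, 0, 2, 0, -2, 0, 2, 0⟩,
  ⟨-2, 0, 2, 0, 2, 0, -2, 0⟩,
  ⟨-2, 0, 2, 0, 2, 0, 2, 0⟩,
  ⟨-1, -1, -2, 0, 0, 0, -1, 1⟩,
  ⟨-1, -1, -2, 0, 0, 0, 1, -1⟩,
  ⟨-1, -1, -1, 1, -2, 0, 0, 0⟩,
  ⟨-1, -1, -1, 1, 2, 0, 0, 0⟩,
  ⟨-1, -1, 0, 0, -1, 1, -2, 0⟩,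
  ⟨-1, -1, 0, 0, -1, 1, 2, 0⟩,
  ⟨-1, -1, 0, 0, 1, -1, -2, 0⟩,
  ⟨-1, -1, 0, 0, 1, -1, 2, 0⟩,
  ⟨-1, -1, 1, -1, -2, 0, 0, 0⟩,
  ⟨-1, -1, 1, -1, 2, 0, 0, 0⟩,
  ⟨-1, -1, 2, 0, 0, 0, -1, 1⟩,
  ⟨-1, -1, 2, 0, 0, 0, 1, -1⟩,
  ⟨-1, 1, -2, 0, -1, -1, 0, 0⟩,
  ⟨-1, 1, -2, 0, 1, 1, 0, 0⟩,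
  ⟨-1, 1, -1, -1, 0, 0, -2, 0⟩,
  ⟨-1, 1, -1, -1, 0, 0, 2, 0⟩,
  ⟨-1, 1, 0, 0, -2, 0, -1, -1⟩,
  ⟨-1, 1, 0, 0, -2, 0, 1, 1⟩,
  ⟨-1, 1, 0, 0, 2, 0, -1, -1⟩,
  ⟨-1, 1, 0, 0, 2, 0, 1, 1⟩,
  ⟨-1, 1, 1, 1, 0, 0, -2, 0⟩,
  ⟨-1, 1, 1, 1, 0, 0, 2, 0⟩,
  ⟨-1, 1, 2, 0, -1, -1, 0, 0⟩,
  ⟨-1, 1, 2, 0, 1, 1, 0, 0⟩,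
  ⟨0, 0, -4, 0, 0, 0, 0, 0⟩,
  ⟨0, 0, -2, 0, -1, 1, -1, -1⟩,
  ⟨0, 0, -2, 0, -1, 1, 1, 1⟩,
  ⟨0, 0, -2, 0, 1, -1, -1, -1⟩,
  ⟨0, 0, -2, 0, 1, -1, 1, 1⟩,
  ⟨0, 0, -1, -1, -2, 0, -1, 1⟩,
  ⟨0, 0, -1, -1, -2, 0, 1, -1⟩,
  ⟨0, 0, -1, -1, 2, 0, -1, 1⟩,
  ⟨0, 0, -1, -1, 2, 0, 1, -1⟩,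
  ⟨0, 0, -1, 1, -1, -1, -2, 0⟩,
  ⟨0, 0, -1, 1, -1, -1, 2, 0⟩,
  ⟨0, 0, -1, 1, 1, 1, -2, 0⟩,
  ⟨0, 0, -1, 1, 1, 1, 2, 0⟩,
  ⟨0, 0, 0, 0, -4, 0, 0, 0⟩,
  ⟨0, 0, 0, 0, 0, 0, -4, 0⟩,
  ⟨0, 0, 0, 0, 0, 0, 4, 0⟩,
  ⟨0, 0, 0, 0, 4, 0, 0, 0⟩,
  ⟨0, 0, 1, -1, -1, -1, -2, 0⟩,
  ⟨0, 0, 1, -1, -1, -1, 2, 0⟩,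
  ⟨0, 0, 1, -1, 1, 1, -2, 0⟩,
  ⟨0, 0, 1, -1, 1, 1, 2, 0⟩,
  ⟨0, 0, 1, 1, -2, 0, -1, 1⟩,
  ⟨0, 0, 1, 1, -2, 0, 1, -1⟩,
  ⟨0, 0, 1, 1, 2, 0, -1, 1⟩,
  ⟨0, 0, 1, 1, 2, 0, 1, -1⟩,
  ⟨0, 0, 2, 0, -1, 1, -1, -1⟩,
  ⟨0, 0, 2, 0, -1, 1, 1, 1⟩,
  ⟨0, 0, 2, 0, 1, -1, -1, -1⟩,
  ⟨0, 0, 2, 0, 1, -1, 1, 1⟩,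
  ⟨0, 0, 4, 0, 0, 0, 0, 0⟩,
  ⟨1, -1, -2, 0, -1, -1, 0, 0⟩,
  ⟨1, -1, -2, 0, 1, 1, 0, 0⟩,
  ⟨1, -1, -1, -1, 0, 0, -2, 0⟩,
  ⟨1, -1, -1, -1, 0, 0, 2, 0⟩,
  ⟨1, -1, 0, 0, -2, 0, -1, -1⟩,
  ⟨1, -1, 0, 0, -2, 0, 1, 1⟩,
  ⟨1, -1, 0, 0, 2, 0, -1, -1⟩,
  ⟨1, -1, 0, 0, 2, 0, 1, 1⟩,
  ⟨1, -1, 1, 1, 0, 0, -2, 0⟩,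
  ⟨1, -1, 1, 1, 0, 0, 2, 0⟩,
  ⟨1, -1, 2, 0, -1, -1, 0, 0⟩,
  ⟨1, -1, 2, 0, 1, 1, 0, 0⟩,
  ⟨1, 1, -2, 0, 0, 0, -1, 1⟩,
  ⟨1, 1, -2, 0, 0, 0, 1, -1⟩,
  ⟨1, 1, -1, 1, -2, 0, 0, 0⟩,
  ⟨1, 1, -1, 1, 2, 0, 0, 0⟩,
  ⟨1, 1, 0, 0, -1, 1, -2, 0⟩,
  ⟨1, 1, 0, 0, -1, 1, 2, 0⟩,
  ⟨1, 1, 0, 0, 1, -1, -2, 0⟩,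
  ⟨1, 1, 0, 0, 1, -1, 2, 0⟩,
  ⟨1, 1, 1, -1, -2, 0, 0, 0⟩,
  ⟨1, 1, 1, -1, 2, 0, 0, 0⟩,
  ⟨1, 1, 2, 0, 0, 0, -1, 1⟩,
  ⟨1, 1, 2, 0, 0, 0, 1, -1⟩,
  ⟨2, 0, -2, 0, -2, 0, -2, 0⟩,
  ⟨2, 0, -2, 0, -2, 0, 2, 0⟩,
  ⟨2, 0, -2, 0, 2, 0, -2, 0⟩,
  ⟨2, 0, -2, 0, 2, 0, 2, 0⟩,
  ⟨2, 0, -1, -1, -1, 1, 0, 0⟩,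
  ⟨2, 0, -1, -1, 1, -1, 0, 0⟩,
  ⟨2, 0, -1, 1, 0, 0, -1, -1⟩,
  ⟨2, 0, -1, 1, 0, 0, 1, 1⟩,
  ⟨2, 0, 0, 0, -1, -1, -1, 1⟩,
  ⟨2, 0, 0, 0, -1, -1, 1, -1⟩,
  ⟨2, 0, 0, 0, 1, 1, -1, 1⟩,
  ⟨2, 0, 0, 0, 1, 1, 1, -1⟩,
  ⟨2, 0, 1, -1, 0, 0, -1, -1⟩,
  ⟨2, 0, 1, -1, 0, 0, 1, 1⟩,
  ⟨2, 0, 1, 1, -1, 1, 0, 0⟩,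
  ⟨2, 0, 1, 1, 1, -1, 0, 0⟩,
  ⟨2, 0, 2, 0, -2, 0, -2, 0⟩,
  ⟨2, 0, 2, 0, -2, 0, 2, 0⟩,
  ⟨2, 0, 2, 0, 2, 0, -2, 0⟩,
  ⟨2, 0, 2, 0, 2, 0, 2, 0⟩,
  ⟨4, 0, 0, 0, 0, 0, 0, 0⟩,
  ⟨-3, 1, -2, 0, 0, 0, -1, 1⟩,
  ⟨-3, 1, -2, 0, 0, 0, 1, -1⟩,
  ⟨-3, 1, -1, 1, -2, 0, 0, 0⟩,
  ⟨-3, 1, -1, 1, 2, 0, 0, 0⟩,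
  ⟨-3, 1, 0, 0, -1, 1, -2, 0⟩,
  ⟨-3, 1, 0, 0, -1, 1, 2, 0⟩,
  ⟨-3, 1, 0, 0, 1, -1, -2, 0⟩,
  ⟨-3, 1, 0, 0, 1, -1, 2, 0⟩,
  ⟨-3, 1, 1, -1, -2, 0, 0, 0⟩,
  ⟨-3, 1, 1, -1, 2, 0, 0, 0⟩,
  ⟨-3, 1, 2, 0, 0, 0, -1, 1⟩,
  ⟨-3, 1, 2, 0, 0, 0, 1, -1⟩,
  ⟨-2, 0, -3, 1, -1, 1, 0, 0⟩,
  ⟨-2, 0, -3, 1, 1, -1, 0, 0⟩,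
  ⟨-2, 0, -1, 1, 0, 0, -3, 1⟩,
  ⟨-2, 0, -1, 1, 0, 0, 3, -1⟩,
  ⟨-2, 0, 0, 0, -3, 1, -1, 1⟩,
  ⟨-2, 0, 0, 0, -3, 1, 1, -1⟩,
  ⟨-2, 0, 0, 0, 3, -1, -1, 1⟩,
  ⟨-2, 0, 0, 0, 3, -1, 1, -1⟩,
  ⟨-2, 0, 1, -1, 0, 0, -3, 1⟩,
  ⟨-2, 0, 1, -1, 0, 0, 3, -1⟩,
  ⟨-2, 0, 3, -1, -1, 1, 0, 0⟩,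
  ⟨-2, 0, 3, -1, 1, -1, 0, 0⟩,
  ⟨-2, 2, 0, 0, 0, 0, 0, 0⟩,
  ⟨-1, 1, -3, 1, 0, 0, -2, 0⟩,
  ⟨-1, 1, -3, 1, 0, 0, 2, 0⟩,
  ⟨-1, 1, -2, 0, -3, 1, 0, 0⟩,
  ⟨-1, 1, -2, 0, 3, -1, 0, 0⟩,
  ⟨-1, 1, -1, 1, -1, 1, -1, 1⟩,
  ⟨-1, 1, -1, 1, -1, 1, 1, -1⟩,
  ⟨-1, 1, -1, 1, 1, -1, -1, 1⟩,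
  ⟨-1, 1, -1, 1, 1, -1, 1, -1⟩,
  ⟨-1, 1, 0, 0, -2, 0, -3, 1⟩,
  ⟨-1, 1, 0, 0, -2, 0, 3, -1⟩,
  ⟨-1, 1, 0, 0, 2, 0, -3, 1⟩,
  ⟨-1, 1, 0, 0, 2, 0, 3, -1⟩,
  ⟨-1, 1, 1, -1, -1, 1, -1, 1⟩,
  ⟨-1, 1, 1, -1, -1, 1, 1, -1⟩,
  ⟨-1, 1, 1, -1, 1, -1, -1, 1⟩,
  ⟨-1, 1, 1, -1, 1, -1, 1, -1⟩,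
  ⟨-1, 1, 2, 0, -3, 1, 0, 0⟩,
  ⟨-1, 1, 2, 0, 3, -1, 0, 0⟩,
  ⟨-1, 1, 3, -1, 0, 0, -2, 0⟩,
  ⟨-1, 1, 3, -1, 0, 0, 2, 0⟩,
  ⟨0, 0, -3, 1, -2, 0, -1, 1⟩,
  ⟨0, 0, -3, 1, -2, 0, 1, -1⟩,
  ⟨0, 0, -3, 1, 2, 0, -1, 1⟩,
  ⟨0, 0, -3, 1, 2, 0, 1, -1⟩,
  ⟨0, 0, -2, 0, -1, 1, -3, 1⟩,
  ⟨0, 0, -2, 0, -1, 1, 3, -1⟩,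
  ⟨0, 0, -2, 0, 1, -1, -3, 1⟩,
  ⟨0, 0, -2, 0, 1, -1, 3, -1⟩,
  ⟨0, 0, -2, 2, 0, 0, 0, 0⟩,
  ⟨0, 0, -1, 1, -3, 1, -2, 0⟩,
  ⟨0, 0, -1, 1, -3, 1, 2, 0⟩,
  ⟨0, 0, -1, 1, 3, -1, -2, 0⟩,
  ⟨0, 0, -1, 1, 3, -1, 2, 0⟩,
  ⟨0, 0, 0, 0, -2, 2, 0, 0⟩,
  ⟨0, 0, 0, 0, 0, 0, -2, 2⟩,
  ⟨0, 0, 0, 0, 0, 0, 2, -2⟩,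
  ⟨0, 0, 0, 0, 2, -2, 0, 0⟩,
  ⟨0, 0, 1, -1, -3, 1, -2, 0⟩,
  ⟨0, 0, 1, -1, -3, 1, 2, 0⟩,
  ⟨0, 0, 1, -1, 3, -1, -2, 0⟩,
  ⟨0, 0, 1, -1, 3, -1, 2, 0⟩,
  ⟨0, 0, 2, -2, 0, 0, 0, 0⟩,
  ⟨0, 0, 2, 0, -1, 1, -3, 1⟩,
  ⟨0, 0, 2, 0, -1, 1, 3, -1⟩,
  ⟨0, 0, 2, 0, 1, -1, -3, 1⟩,
  ⟨0, 0, 2, 0, 1, -1, 3, -1⟩,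
  ⟨0, 0, 3, -1, -2, 0, -1, 1⟩,
  ⟨0, 0, 3, -1, -2, 0, 1, -1⟩,
  ⟨0, 0, 3, -1, 2, 0, -1, 1⟩,
  ⟨0, 0, 3, -1, 2, 0, 1, -1⟩,
  ⟨1, -1, -3, 1, 0, 0, -2, 0⟩,
  ⟨1, -1, -3, 1, 0, 0, 2, 0⟩,
  ⟨1, -1, -2, 0, -3, 1, 0, 0⟩,
  ⟨1, -1, -2, 0, 3, -1, 0, 0⟩,
  ⟨1, -1, -1, 1, -1, 1, -1, 1⟩,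
  ⟨1, -1, -1, 1, -1, 1, 1, -1⟩,
  ⟨1, -1, -1, 1, 1, -1, -1, 1⟩,
  ⟨1, -1, -1, 1, 1, -1, 1, -1⟩,
  ⟨1, -1, 0, 0, -2, 0, -3, 1⟩,
  ⟨1, -1, 0, 0, -2, 0, 3, -1⟩,
  ⟨1, -1, 0, 0, 2, 0, -3, 1⟩,
  ⟨1, -1, 0, 0, 2, 0, 3, -1⟩,
  ⟨1, -1, 1, -1, -1, 1, -1, 1⟩,
  ⟨1, -1, 1, -1, -1, 1, 1, -1⟩,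
  ⟨1, -1, 1, -1, 1, -1, -1, 1⟩,
  ⟨1, -1, 1, -1, 1, -1, 1, -1⟩,
  ⟨1, -1, 2, 0, -3, 1, 0, 0⟩,
  ⟨1, -1, 2, 0, 3, -1, 0, 0⟩,
  ⟨1, -1, 3, -1, 0, 0, -2, 0⟩,
  ⟨1, -1, 3, -1, 0, 0, 2, 0⟩,
  ⟨2, -2, 0, 0, 0, 0, 0, 0⟩,
  ⟨2, 0, -3, 1, -1, 1, 0, 0⟩,
  ⟨2, 0, -3, 1, 1, -1, 0, 0⟩,
  ⟨2, 0, -1, 1, 0, 0, -3, 1⟩,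
  ⟨2, 0, -1, 1, 0, 0, 3, -1⟩,
  ⟨2, 0, 0, 0, -3, 1, -1, 1⟩,
  ⟨2, 0, 0, 0, -3, 1, 1, -1⟩,
  ⟨2, 0, 0, 0, 3, -1, -1, 1⟩,
  ⟨2, 0, 0, 0, 3, -1, 1, -1⟩,
  ⟨2, 0, 1, -1, 0, 0, -3, 1⟩,
  ⟨2, 0, 1, -1, 0, 0, 3, -1⟩,
  ⟨2, 0, 3, -1, -1, 1, 0, 0⟩,
  ⟨2, 0, 3, -1, 1, -1, 0, 0⟩,
  ⟨3, -1, -2, 0, 0, 0, -1, 1⟩,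
  ⟨3, -1, -2, 0, 0, 0, 1, -1⟩,
  ⟨3, -1, -1, 1, -2, 0, 0, 0⟩,
  ⟨3, -1, -1, 1, 2, 0, 0, 0⟩,
  ⟨3, -1, 0, 0, -1, 1, -2, 0⟩,
  ⟨3, -1, 0, 0, -1, 1, 2, 0⟩,
  ⟨3, -1, 0, 0, 1, -1, -2, 0⟩,
  ⟨3, -1, 0, 0, 1, -1, 2, 0⟩,
  ⟨3, -1, 1, -1, -2, 0, 0, 0⟩,
  ⟨3, -1, 1, -1, 2, 0, 0, 0⟩,
  ⟨3, -1, 2, 0, 0, 0, -1, 1⟩,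
  ⟨3, -1, 2, 0, 0, 0, 1, -1⟩,
  ⟨-3, -1, -2, 0, -1, -1, 0, 0⟩,
  ⟨-3, -1, -2, 0, 1, 1, 0, 0⟩,
  ⟨-3, -1, -1, -1, 0, 0, -2, 0⟩,
  ⟨-3, -1, -1, -1, 0, 0, 2, 0⟩,
  ⟨-3, -1, 0, 0, -2, 0, -1, -1⟩,
  ⟨-3, -1, 0, 0, -2, 0, 1, 1⟩,
  ⟨-3, -1, 0, 0, 2, 0, -1, -1⟩,
  ⟨-3, -1, 0, 0, 2, 0, 1, 1⟩,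
  ⟨-3, -1, 1, 1, 0, 0, -2, 0⟩,
  ⟨-3, -1, 1, 1, 0, 0, 2, 0⟩,
  ⟨-3, -1, 2, 0, -1, -1, 0, 0⟩,
  ⟨-3, -1, 2, 0, 1, 1, 0, 0⟩,
  ⟨-2, -2, 0, 0, 0, 0, 0, 0⟩,
  ⟨-2, 0, -3, -1, 0, 0, -1, -1⟩,
  ⟨-2, 0, -3, -1, 0, 0, 1, 1⟩,
  ⟨-2, 0, -1, -1, -3, -1, 0, 0⟩,
  ⟨-2, 0, -1, -1, 3, 1, 0, 0⟩,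
  ⟨-2, 0, 0, 0, -1, -1, -3, -1⟩,
  ⟨-2, 0, 0, 0, -1, -1, 3, 1⟩,
  ⟨-2, 0, 0, 0, 1, 1, -3, -1⟩,
  ⟨-2, 0, 0, 0, 1, 1, 3, 1⟩,
  ⟨-2, 0, 1, 1, -3, -1, 0, 0⟩,
  ⟨-2, 0, 1, 1, 3, 1, 0, 0⟩,
  ⟨-2, 0, 3, 1, 0, 0, -1, -1⟩,
  ⟨-2, 0, 3, 1, 0, 0, 1, 1⟩,
  ⟨-1, -1, -3, -1, -2, 0, 0, 0⟩,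
  ⟨-1, -1, -3, -1, 2, 0, 0, 0⟩,
  ⟨-1, -1, -2, 0, 0, 0, -3, -1⟩,
  ⟨-1, -1, -2, 0, 0, 0, 3, 1⟩,
  ⟨-1, -1, -1, -1, -1, -1, -1, -1⟩,
  ⟨-1, -1, -1, -1, -1, -1, 1, 1⟩,
  ⟨-1, -1, -1, -1, 1, 1, -1, -1⟩,
  ⟨-1, -1, -1, -1, 1, 1, 1, 1⟩,
  ⟨-1, -1, 0, 0, -3, -1, -2, 0⟩,
  ⟨-1, -1, 0, 0, -3, -1, 2, 0⟩,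
  ⟨-1, -1, 0, 0, 3, 1, -2, 0⟩,
  ⟨-1, -1, 0, 0, 3, 1, 2, 0⟩,
  ⟨-1, -1, 1, 1, -1, -1, -1, -1⟩,
  ⟨-1, -1, 1, 1, -1, -1, 1, 1⟩,
  ⟨-1, -1, 1, 1, 1, 1, -1, -1⟩,
  ⟨-1, -1, 1, 1, 1, 1, 1, 1⟩,
  ⟨-1, -1, 2, 0, 0, 0, -3, -1⟩,
  ⟨-1, -1, 2, 0, 0, 0, 3, 1⟩,
  ⟨-1, -1, 3, 1, -2, 0, 0, 0⟩,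
  ⟨-1, -1, 3, 1, 2, 0, 0, 0⟩,
  ⟨0, 0, -3, -1, -1, -1, -2, 0⟩,
  ⟨0, 0, -3, -1, -1, -1, 2, 0⟩,
  ⟨0, 0, -3, -1, 1, 1, -2, 0⟩,
  ⟨0, 0, -3, -1, 1, 1, 2, 0⟩,
  ⟨0, 0, -2, -2, 0, 0, 0, 0⟩,
  ⟨0, 0, -2, 0, -3, -1, -1, -1⟩,
  ⟨0, 0, -2, 0, -3, -1, 1, 1⟩,
  ⟨0, 0, -2, 0, 3, 1, -1, -1⟩,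
  ⟨0, 0, -2, 0, 3, 1, 1, 1⟩,
  ⟨0, 0, -1, -1, -2, 0, -3, -1⟩,
  ⟨0, 0, -1, -1, -2, 0, 3, 1⟩,
  ⟨0, 0, -1, -1, 2, 0, -3, -1⟩,
  ⟨0, 0, -1, -1, 2, 0, 3, 1⟩,
  ⟨0, 0, 0, 0, -2, -2, 0, 0⟩,
  ⟨0, 0, 0, 0, 0, 0, -2, -2⟩,
  ⟨0, 0, 0, 0, 0, 0, 2, 2⟩,
  ⟨0, 0, 0, 0, 2, 2, 0, 0⟩,
  ⟨0, 0, 1, 1, -2, 0, -3, -1⟩,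
  ⟨0, 0, 1, 1, -2, 0, 3, 1⟩,
  ⟨0, 0, 1, 1, 2, 0, -3, -1⟩,
  ⟨0, 0, 1, 1, 2, 0, 3, 1⟩,
  ⟨0, 0, 2, 0, -3, -1, -1, -1⟩,
  ⟨0, 0, 2, 0, -3, -1, 1, 1⟩,
  ⟨0, 0, 2, 0, 3, 1, -1, -1⟩,
  ⟨0, 0, 2, 0, 3, 1, 1, 1⟩,
  ⟨0, 0, 2, 2, 0, 0, 0, 0⟩,
  ⟨0, 0, 3, 1, -1, -1, -2, 0⟩,
  ⟨0, 0, 3, 1, -1, -1, 2, 0⟩,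
  ⟨0, 0, 3, 1, 1, 1, -2, 0⟩,
  ⟨0, 0, 3, 1, 1, 1, 2, 0⟩,
  ⟨1, 1, -3, -1, -2, 0, 0, 0⟩,
  ⟨1, 1, -3, -1, 2, 0, 0, 0⟩,
  ⟨1, 1, -2, 0, 0, 0, -3, -1⟩,
  ⟨1, 1, -2, 0, 0, 0, 3, 1⟩,
  ⟨1, 1, -1, -1, -1, -1, -1, -1⟩,
  ⟨1, 1, -1, -1, -1, -1, 1, 1⟩,
  ⟨1, 1, -1, -1, 1, 1, -1, -1⟩,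
  ⟨1, 1, -1, -1, 1, 1, 1, 1⟩,
  ⟨1, 1, 0, 0, -3, -1, -2, 0⟩,
  ⟨1, 1, 0, 0, -3, -1, 2, 0⟩,
  ⟨1, 1, 0, 0, 3, 1, -2, 0⟩,
  ⟨1, 1, 0, 0, 3, 1, 2, 0⟩,
  ⟨1, 1, 1, 1, -1, -1, -1, -1⟩,
  ⟨1, 1, 1, 1, -1, -1, 1, 1⟩,
  ⟨1, 1, 1, 1, 1, 1, -1, -1⟩,
  ⟨1, 1, 1, 1, 1, 1, 1, 1⟩,
  ⟨1, 1, 2, 0, 0, 0, -3, -1⟩,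
  ⟨1, 1, 2, 0, 0, 0, 3, 1⟩,
  ⟨1, 1, 3, 1, -2, 0, 0, 0⟩,
  ⟨1, 1, 3, 1, 2, 0, 0, 0⟩,
  ⟨2, 0, -3, -1, 0, 0, -1, -1⟩,
  ⟨2, 0, -3, -1, 0, 0, 1, 1⟩,
  ⟨2, 0, -1, -1, -3, -1, 0, 0⟩,
  ⟨2, 0, -1, -1, 3, 1, 0, 0⟩,
  ⟨2, 0, 0, 0, -1, -1, -3, -1⟩,
  ⟨2, 0, 0, 0, -1, -1, 3, 1⟩,
  ⟨2, 0, 0, 0, 1, 1, -3, -1⟩,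
  ⟨2, 0, 0, 0, 1, 1, 3, 1⟩,
  ⟨2, 0, 1, 1, -3, -1, 0, 0⟩,
  ⟨2, 0, 1, 1, 3, 1, 0, 0⟩,
  ⟨2, 0, 3, 1, 0, 0, -1, -1⟩,
  ⟨2, 0, 3, 1, 0, 0, 1, 1⟩,
  ⟨2, 2, 0, 0, 0, 0, 0, 0⟩,
  ⟨3, 1, -2, 0, -1, -1, 0, 0⟩,
  ⟨3, 1, -2, 0, 1, 1, 0, 0⟩,
  ⟨3, 1, -1, -1, 0, 0, -2, 0⟩,
  ⟨3, 1, -1, -1, 0, 0, 2, 0⟩,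
  ⟨3, 1, 0, 0, -2, 0, -1, -1⟩,
  ⟨3, 1, 0, 0, -2, 0, 1, 1⟩,
  ⟨3, 1, 0, 0, 2, 0, -1, -1⟩,
  ⟨3, 1, 0, 0, 2, 0, 1, 1⟩,
  ⟨3, 1, 1, 1, 0, 0, -2, 0⟩,
  ⟨3, 1, 1, 1, 0, 0, 2, 0⟩,
  ⟨3, 1, 2, 0, -1, -1, 0, 0⟩,
  ⟨3, 1, 2, 0, 1, 1, 0, 0⟩,
  ⟨-4, 0, -4, 0, 0, 0, 0, 0⟩,
  ⟨-4, 0, -2, 0, -1, 1, -1, -1⟩,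
  ⟨-4, 0, -2, 0, -1, 1, 1, 1⟩,
  ⟨-4, 0, -2, 0, 1, -1, -1, -1⟩,
  ⟨-4, 0, -2, 0, 1, -1, 1, 1⟩,
  ⟨-4, 0, -1, -1, -2, 0, -1, 1⟩,
  ⟨-4, 0, -1, -1, -2, 0, 1, -1⟩,
  ⟨-4, 0, -1, -1, 2, 0, -1, 1⟩,
  ⟨-4, 0, -1, -1, 2, 0, 1, -1⟩,
  ⟨-4, 0, -1, 1, -1, -1, -2, 0⟩,
  ⟨-4, 0, -1, 1, -1, -1, 2, 0⟩,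
  ⟨-4, 0, -1, 1, 1, 1, -2, 0⟩,
  ⟨-4, 0, -1, 1, 1, 1, 2, 0⟩,
  ⟨-4, 0, 0, 0, -4, 0, 0, 0⟩,
  ⟨-4, 0, 0, 0, 0, 0, -4, 0⟩,
  ⟨-4, 0, 0, 0, 0, 0, 4, 0⟩,
  ⟨-4, 0, 0, 0, 4, 0, 0, 0⟩,
  ⟨-4, 0, 1, -1, -1, -1, -2, 0⟩,
  ⟨-4, 0, 1, -1, -1, -1, 2, 0⟩,
  ⟨-4, 0, 1, -1, 1, 1, -2, 0⟩,
  ⟨-4, 0, 1, -1, 1, 1, 2, 0⟩,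
  ⟨-4, 0, 1, 1, -2, 0, -1, 1⟩,
  ⟨-4, 0, 1, 1, -2, 0, 1, -1⟩,
  ⟨-4, 0, 1, 1, 2, 0, -1, 1⟩,
  ⟨-4, 0, 1, 1, 2, 0, 1, -1⟩,
  ⟨-4, 0, 2, 0, -1, 1, -1, -1⟩,
  ⟨-4, 0, 2, 0, -1, 1, 1, 1⟩,
  ⟨-4, 0, 2, 0, 1, -1, -1, -1⟩,
  ⟨-4, 0, 2, 0, 1, -1, 1, 1⟩,
  ⟨-4, 0, 4, 0, 0, 0, 0, 0⟩,
  ⟨-3, -1, -3, 1, 0, 0, -2, 0⟩,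
  ⟨-3, -1, -3, 1, 0, 0, 2, 0⟩,
  ⟨-3, -1, -2, 0, -3, 1, 0, 0⟩,
  ⟨-3, -1, -2, 0, 3, -1, 0, 0⟩,
  ⟨-3, -1, -1, 1, -1, 1, -1, 1⟩,
  ⟨-3, -1, -1, 1, -1, 1, 1, -1⟩,
  ⟨-3, -1, -1, 1, 1, -1, -1, 1⟩,
  ⟨-3, -1, -1, 1, 1, -1, 1, -1⟩,
  ⟨-3, -1, 0, 0, -2, 0, -3, 1⟩,
  ⟨-3, -1, 0, 0, -2, 0, 3, -1⟩,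
  ⟨-3, -1, 0, 0, 2, 0, -3, 1⟩,
  ⟨-3, -1, 0, 0, 2, 0, 3, -1⟩,
  ⟨-3, -1, 1, -1, -1, 1, -1, 1⟩,
  ⟨-3, -1, 1, -1, -1, 1, 1, -1⟩,
  ⟨-3, -1, 1, -1, 1, -1, -1, 1⟩,
  ⟨-3, -1, 1, -1, 1, -1, 1, -1⟩,
  ⟨-3, -1, 2, 0, -3, 1, 0, 0⟩,
  ⟨-3, -1, 2, 0, 3, -1, 0, 0⟩,
  ⟨-3, -1, 3, -1, 0, 0, -2, 0⟩,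
  ⟨-3, -1, 3, -1, 0, 0, 2, 0⟩,
  ⟨-3, 1, -3, -1, -2, 0, 0, 0⟩,
  ⟨-3, 1, -3, -1, 2, 0, 0, 0⟩,
  ⟨-3, 1, -2, 0, 0, 0, -3, -1⟩,
  ⟨-3, 1, -2, 0, 0, 0, 3, 1⟩,
  ⟨-3, 1, -1, -1, -1, -1, -1, -1⟩,
  ⟨-3, 1, -1, -1, -1, -1, 1, 1⟩,
  ⟨-3, 1, -1, -1, 1, 1, -1, -1⟩,
  ⟨-3, 1, -1, -1, 1, 1, 1, 1⟩,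
  ⟨-3, 1, 0, 0, -3, -1, -2, 0⟩,
  ⟨-3, 1, 0, 0, -3, -1, 2, 0⟩,
  ⟨-3, 1, 0, 0, 3, 1, -2, 0⟩,
  ⟨-3, 1, 0, 0, 3, 1, 2, 0⟩,
  ⟨-3, 1, 1, 1, -1, -1, -1, -1⟩,
  ⟨-3, 1, 1, 1, -1, -1, 1, 1⟩,
  ⟨-3, 1, 1, 1, 1, 1, -1, -1⟩,
  ⟨-3, 1, 1, 1, 1, 1, 1, 1⟩,
  ⟨-3, 1, 2, 0, 0, 0, -3, -1⟩,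
  ⟨-3, 1, 2, 0, 0, 0, 3, 1⟩,
  ⟨-3, 1, 3, 1, -2, 0, 0, 0⟩,
  ⟨-3, 1, 3, 1, 2, 0, 0, 0⟩,
  ⟨-2, 0, -4, 0, -1, -1, -1, 1⟩,
  ⟨-2, 0, -4, 0, -1, -1, 1, -1⟩,
  ⟨-2, 0, -4, 0, 1, 1, -1, 1⟩,
  ⟨-2, 0, -4, 0, 1, 1, 1, -1⟩,
  ⟨-2, 0, -3, -1, 0, 0, -3, 1⟩,
  ⟨-2, 0, -3, -1, 0, 0, 3, -1⟩,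
  ⟨-2, 0, -3, 1, -3, -1, 0, 0⟩,
  ⟨-2, 0, -3, 1, 3, 1, 0, 0⟩,
  ⟨-2, 0, -2, 0, -2, 0, 0, -2⟩,
  ⟨-2, 0, -2, 0, -2, 0, 0, 2⟩,
  ⟨-2, 0, -2, 0, 0, -2, -2, 0⟩,
  ⟨-2, 0, -2, 0, 0, -2, 2, 0⟩,
  ⟨-2, 0, -2, 0, 0, 2, -2, 0⟩,
  ⟨-2, 0, -2, 0, 0, 2, 2, 0⟩,
  ⟨-2, 0, -2, 0, 2, 0, 0, -2⟩,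
  ⟨-2, 0, -2, 0, 2, 0, 0, 2⟩,
  ⟨-2, 0, -1, -1, -1, 1, -4, 0⟩,
  ⟨-2, 0, -1, -1, -1, 1, 4, 0⟩,
  ⟨-2, 0, -1, -1, 1, -1, -4, 0⟩,
  ⟨-2, 0, -1, -1, 1, -1, 4, 0⟩,
  ⟨-2, 0, -1, 1, -4, 0, -1, -1⟩,
  ⟨-2, 0, -1, 1, -4, 0, 1, 1⟩,
  ⟨-2, 0, -1, 1, 4, 0, -1, -1⟩,
  ⟨-2, 0, -1, 1, 4, 0, 1, 1⟩,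
  ⟨-2, 0, 0, -2, -2, 0, -2, 0⟩,
  ⟨-2, 0, 0, -2, -2, 0, 2, 0⟩,
  ⟨-2, 0, 0, -2, 2, 0, -2, 0⟩,
  ⟨-2, 0, 0, -2, 2, 0, 2, 0⟩,
  ⟨-2, 0, 0, 0, -3, 1, -3, -1⟩,
  ⟨-2, 0, 0, 0, -3, 1, 3, 1⟩,
  ⟨-2, 0, 0, 0, 3, -1, -3, -1⟩,
  ⟨-2, 0, 0, 0, 3, -1, 3, 1⟩,
  ⟨-2, 0, 0, 2, -2, 0, -2, 0⟩,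
  ⟨-2, 0, 0, 2, -2, 0, 2, 0⟩,
  ⟨-2, 0, 0, 2, 2, 0, -2, 0⟩,
  ⟨-2, 0, 0, 2, 2, 0, 2, 0⟩,
  ⟨-2, 0, 1, -1, -4, 0, -1, -1⟩,
  ⟨-2, 0, 1, -1, -4, 0, 1, 1⟩,
  ⟨-2, 0, 1, -1, 4, 0, -1, -1⟩,
  ⟨-2, 0, 1, -1, 4, 0, 1, 1⟩,
  ⟨-2, 0, 1, 1, -1, 1, -4, 0⟩,
  ⟨-2, 0, 1, 1, -1, 1, 4, 0⟩,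
  ⟨-2, 0, 1, 1, 1, -1, -4, 0⟩,
  ⟨-2, 0, 1, 1, 1, -1, 4, 0⟩,
  ⟨-2, 0, 2, 0, -2, 0, 0, -2⟩,
  ⟨-2, 0, 2, 0, -2, 0, 0, 2⟩,
  ⟨-2, 0, 2, 0, 0, -2, -2, 0⟩,
  ⟨-2, 0, 2, 0, 0, -2, 2, 0⟩,
  ⟨-2, 0, 2, 0, 0, 2, -2, 0⟩,
  ⟨-2, 0, 2, 0, 0, 2, 2, 0⟩,
  ⟨-2, 0, 2, 0, 2, 0, 0, -2⟩,
  ⟨-2, 0, 2, 0, 2, 0, 0, 2⟩,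
  ⟨-2, 0, 3, -1, -3, -1, 0, 0⟩,
  ⟨-2, 0, 3, -1, 3, 1, 0, 0⟩,
  ⟨-2, 0, 3, 1, 0, 0, -3, 1⟩,
  ⟨-2, 0, 3, 1, 0, 0, 3, -1⟩,
  ⟨-2, 0, 4, 0, -1, -1, -1, 1⟩,
  ⟨-2, 0, 4, 0, -1, -1, 1, -1⟩,
  ⟨-2, 0, 4, 0, 1, 1, -1, 1⟩,
  ⟨-2, 0, 4, 0, 1, 1, 1, -1⟩,
  ⟨-1, -1, -4, 0, -1, 1, -2, 0⟩,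
  ⟨-1, -1, -4, 0, -1, 1, 2, 0⟩,
  ⟨-1, -1, -4, 0, 1, -1, -2, 0⟩,
  ⟨-1, -1, -4, 0, 1, -1, 2, 0⟩,
  ⟨-1, -1, -3, 1, -1, -1, -1, -1⟩,
  ⟨-1, -1, -3, 1, -1, -1, 1, 1⟩,
  ⟨-1, -1, -3, 1, 1, 1, -1, -1⟩,
  ⟨-1, -1, -3, 1, 1, 1, 1, 1⟩,
  ⟨-1, -1, -2, 0, -4, 0, -1, 1⟩,
  ⟨-1, -1, -2, 0, -4, 0, 1, -1⟩,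
  ⟨-1, -1, -2, 0, 4, 0, -1, 1⟩,
  ⟨-1, -1, -2, 0, 4, 0, 1, -1⟩,
  ⟨-1, -1, -1, -1, -3, 1, -1, -1⟩,
  ⟨-1, -1, -1, -1, -3, 1, 1, 1⟩,
  ⟨-1, -1, -1, -1, -1, -1, -3, 1⟩,
  ⟨-1, -1, -1, -1, -1, -1, 3, -1⟩,
  ⟨-1, -1, -1, -1, 1, 1, -3, 1⟩,
  ⟨-1, -1, -1, -1, 1, 1, 3, -1⟩,
  ⟨-1, -1, -1, -1, 3, -1, -1, -1⟩,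
  ⟨-1, -1, -1, -1, 3, -1, 1, 1⟩,
  ⟨-1, -1, -1, 1, -2, 0, -4, 0⟩,
  ⟨-1, -1, -1, 1, -2, 0, 4, 0⟩,
  ⟨-1, -1, -1, 1, 0, -2, 0, 0⟩,
  ⟨-1, -1, -1, 1, 0, 2, 0, 0⟩,
  ⟨-1, -1, -1, 1, 2, 0, -4, 0⟩,
  ⟨-1, -1, -1, 1, 2, 0, 4, 0⟩,
  ⟨-1, -1, 0, -2, 0, 0, -1, 1⟩,
  ⟨-1, -1, 0, -2, 0, 0, 1, -1⟩,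
  ⟨-1, -1, 0, 0, -1, 1, 0, -2⟩,
  ⟨-1, -1, 0, 0, -1, 1, 0, 2⟩,
  ⟨-1, -1, 0, 0, 1, -1, 0, -2⟩,
  ⟨-1, -1, 0, 0, 1, -1, 0, 2⟩,
  ⟨-1, -1, 0, 2, 0, 0, -1, 1⟩,
  ⟨-1, -1, 0, 2, 0, 0, 1, -1⟩,
  ⟨-1, -1, 1, -1, -2, 0, -4, 0⟩,
  ⟨-1, -1, 1, -1, -2, 0, 4, 0⟩,
  ⟨-1, -1, 1, -1, 0, -2, 0, 0⟩,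
  ⟨-1, -1, 1, -1, 0, 2, 0, 0⟩,
  ⟨-1, -1, 1, -1, 2, 0, -4, 0⟩,
  ⟨-1, -1, 1, -1, 2, 0, 4, 0⟩,
  ⟨-1, -1, 1, 1, -3, 1, -1, -1⟩,
  ⟨-1, -1, 1, 1, -3, 1, 1, 1⟩,
  ⟨-1, -1, 1, 1, -1, -1, -3, 1⟩,
  ⟨-1, -1, 1, 1, -1, -1, 3, -1⟩,
  ⟨-1, -1, 1, 1, 1, 1, -3, 1⟩,
  ⟨-1, -1, 1, 1, 1, 1, 3, -1⟩,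
  ⟨-1, -1, 1, 1, 3, -1, -1, -1⟩,
  ⟨-1, -1, 1, 1, 3, -1, 1, 1⟩,
  ⟨-1, -1, 2, 0, -4, 0, -1, 1⟩,
  ⟨-1, -1, 2, 0, -4, 0, 1, -1⟩,
  ⟨-1, -1, 2, 0, 4, 0, -1, 1⟩,
  ⟨-1, -1, 2, 0, 4, 0, 1, -1⟩,
  ⟨-1, -1, 3, -1, -1, -1, -1, -1⟩,
  ⟨-1, -1, 3, -1, -1, -1, 1, 1⟩,
  ⟨-1, -1, 3, -1, 1, 1, -1, -1⟩,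
  ⟨-1, -1, 3, -1, 1, 1, 1, 1⟩,
  ⟨-1, -1, 4, 0, -1, 1, -2, 0⟩,
  ⟨-1, -1, 4, 0, -1, 1, 2, 0⟩,
  ⟨-1, -1, 4, 0, 1, -1, -2, 0⟩,
  ⟨-1, -1, 4, 0, 1, -1, 2, 0⟩,
  ⟨-1, 1, -4, 0, -2, 0, -1, -1⟩,
  ⟨-1, 1, -4, 0, -2, 0, 1, 1⟩,
  ⟨-1, 1, -4, 0, 2, 0, -1, -1⟩,
  ⟨-1, 1, -4, 0, 2, 0, 1, 1⟩,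
  ⟨-1, 1, -3, -1, -1, 1, -1, 1⟩,
  ⟨-1, 1, -3, -1, -1, 1, 1, -1⟩,
  ⟨-1, 1, -3, -1, 1, -1, -1, 1⟩,
  ⟨-1, 1, -3, -1, 1, -1, 1, -1⟩,
  ⟨-1, 1, -2, 0, -1, -1, -4, 0⟩,
  ⟨-1, 1, -2, 0, -1, -1, 4, 0⟩,
  ⟨-1, 1, -2, 0, 1, 1, -4, 0⟩,
  ⟨-1, 1, -2, 0, 1, 1, 4, 0⟩,
  ⟨-1, 1, -1, -1, -4, 0, -2, 0⟩,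
  ⟨-1, 1, -1, -1, -4, 0, 2, 0⟩,
  ⟨-1, 1, -1, -1, 0, 0, 0, -2⟩,
  ⟨-1, 1, -1, -1, 0, 0, 0, 2⟩,
  ⟨-1, 1, -1, -1, 4, 0, -2, 0⟩,
  ⟨-1, 1, -1, -1, 4, 0, 2, 0⟩,
  ⟨-1, 1, -1, 1, -3, -1, -1, 1⟩,
  ⟨-1, 1, -1, 1, -3, -1, 1, -1⟩,
  ⟨-1, 1, -1, 1, -1, 1, -3, -1⟩,
  ⟨-1, 1, -1, 1, -1, 1, 3, 1⟩,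
  ⟨-1, 1, -1, 1, 1, -1, -3, -1⟩,
  ⟨-1, 1, -1, 1, 1, -1, 3, 1⟩,
  ⟨-1, 1, -1, 1, 3, 1, -1, 1⟩,
  ⟨-1, 1, -1, 1, 3, 1, 1, -1⟩,
  ⟨-1, 1, 0, -2, -1, -1, 0, 0⟩,
  ⟨-1, 1, 0, -2, 1, 1, 0, 0⟩,
  ⟨-1, 1, 0, 0, 0, -2, -1, -1⟩,
  ⟨-1, 1, 0, 0, 0, -2, 1, 1⟩,
  ⟨-1, 1, 0, 0, 0, 2, -1, -1⟩,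
  ⟨-1, 1, 0, 0, 0, 2, 1, 1⟩,
  ⟨-1, 1, 0, 2, -1, -1, 0, 0⟩,
  ⟨-1, 1, 0, 2, 1, 1, 0, 0⟩,
  ⟨-1, 1, 1, -1, -3, -1, -1, 1⟩,
  ⟨-1, 1, 1, -1, -3, -1, 1, -1⟩,
  ⟨-1, 1, 1, -1, -1, 1, -3, -1⟩,
  ⟨-1, 1, 1, -1, -1, 1, 3, 1⟩,
  ⟨-1, 1, 1, -1, 1, -1, -3, -1⟩,
  ⟨-1, 1, 1, -1, 1, -1, 3, 1⟩,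
  ⟨-1, 1, 1, -1, 3, 1, -1, 1⟩,
  ⟨-1, 1, 1, -1, 3, 1, 1, -1⟩,
  ⟨-1, 1, 1, 1, -4, 0, -2, 0⟩,
  ⟨-1, 1, 1, 1, -4, 0, 2, 0⟩,
  ⟨-1, 1, 1, 1, 0, 0, 0, -2⟩,
  ⟨-1, 1, 1, 1, 0, 0, 0, 2⟩,
  ⟨-1, 1, 1, 1, 4, 0, -2, 0⟩,
  ⟨-1, 1, 1, 1, 4, 0, 2, 0⟩,
  ⟨-1, 1, 2, 0, -1, -1, -4, 0⟩,
  ⟨-1, 1, 2, 0, -1, -1, 4, 0⟩,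
  ⟨-1, 1, 2, 0, 1, 1, -4, 0⟩,
  ⟨-1, 1, 2, 0, 1, 1, 4, 0⟩,
  ⟨-1, 1, 3, 1, -1, 1, -1, 1⟩,
  ⟨-1, 1, 3, 1, -1, 1, 1, -1⟩,
  ⟨-1, 1, 3, 1, 1, -1, -1, 1⟩,
  ⟨-1, 1, 3, 1, 1, -1, 1, -1⟩,
  ⟨-1, 1, 4, 0, -2, 0, -1, -1⟩,
  ⟨-1, 1, 4, 0, -2, 0, 1, 1⟩,
  ⟨-1, 1, 4, 0, 2, 0, -1, -1⟩,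
  ⟨-1, 1, 4, 0, 2, 0, 1, 1⟩,
  ⟨0, -2, -2, 0, -2, 0, -2, 0⟩,
  ⟨0, -2, -2, 0, -2, 0, 2, 0⟩,
  ⟨0, -2, -2, 0, 2, 0, -2, 0⟩,
  ⟨0, -2, -2, 0, 2, 0, 2, 0⟩,
  ⟨0, -2, -1, -1, -1, 1, 0, 0⟩,
  ⟨0, -2, -1, -1, 1, -1, 0, 0⟩,
  ⟨0, -2, -1, 1, 0, 0, -1, -1⟩,
  ⟨0, -2, -1, 1, 0, 0, 1, 1⟩,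
  ⟨0, -2, 0, 0, -1, -1, -1, 1⟩,
  ⟨0, -2, 0, 0, -1, -1, 1, -1⟩,
  ⟨0, -2, 0, 0, 1, 1, -1, 1⟩,
  ⟨0, -2, 0, 0, 1, 1, 1, -1⟩,
  ⟨0, -2, 1, -1, 0, 0, -1, -1⟩,
  ⟨0, -2, 1, -1, 0, 0, 1, 1⟩,
  ⟨0, -2, 1, 1, -1, 1, 0, 0⟩,
  ⟨0, -2, 1, 1, 1, -1, 0, 0⟩,
  ⟨0, -2, 2, 0, -2, 0, -2, 0⟩,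
  ⟨0, -2, 2, 0, -2, 0, 2, 0⟩,
  ⟨0, -2, 2, 0, 2, 0, -2, 0⟩,
  ⟨0, -2, 2, 0, 2, 0, 2, 0⟩,
  ⟨0, 0, -4, 0, -4, 0, 0, 0⟩,
  ⟨0, 0, -4, 0, 0, 0, -4, 0⟩,
  ⟨0, 0, -4, 0, 0, 0, 4, 0⟩,
  ⟨0, 0, -4, 0, 4, 0, 0, 0⟩,
  ⟨0, 0, -3, -1, -3, 1, -2, 0⟩,
  ⟨0, 0, -3, -1, -3, 1, 2, 0⟩,
  ⟨0, 0, -3, -1, 3, -1, -2, 0⟩,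
  ⟨0, 0, -3, -1, 3, -1, 2, 0⟩,
  ⟨0, 0, -3, 1, -2, 0, -3, -1⟩,
  ⟨0, 0, -3, 1, -2, 0, 3, 1⟩,
  ⟨0, 0, -3, 1, 2, 0, -3, -1⟩,
  ⟨0, 0, -3, 1, 2, 0, 3, 1⟩,
  ⟨0, 0, -2, 0, -3, -1, -3, 1⟩,
  ⟨0, 0, -2, 0, -3, -1, 3, -1⟩,
  ⟨0, 0, -2, 0, 3, 1, -3, 1⟩,
  ⟨0, 0, -2, 0, 3, 1, 3, -1⟩,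
  ⟨0, 0, -1, -1, 0, -2, -1, 1⟩,
  ⟨0, 0, -1, -1, 0, -2, 1, -1⟩,
  ⟨0, 0, -1, -1, 0, 2, -1, 1⟩,
  ⟨0, 0, -1, -1, 0, 2, 1, -1⟩,
  ⟨0, 0, -1, 1, -1, -1, 0, -2⟩,
  ⟨0, 0, -1, 1, -1, -1, 0, 2⟩,
  ⟨0, 0, -1, 1, 1, 1, 0, -2⟩,
  ⟨0, 0, -1, 1, 1, 1, 0, 2⟩,
  ⟨0, 0, 0, -2, -1, 1, -1, -1⟩,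
  ⟨0, 0, 0, -2, -1, 1, 1, 1⟩,
  ⟨0, 0, 0, -2, 1, -1, -1, -1⟩,
  ⟨0, 0, 0, -2, 1, -1, 1, 1⟩,
  ⟨0, 0, 0, 0, -4, 0, -4, 0⟩,
  ⟨0, 0, 0, 0, -4, 0, 4, 0⟩,
  ⟨0, 0, 0, 0, 4, 0, -4, 0⟩,
  ⟨0, 0, 0, 0, 4, 0, 4, 0⟩,
  ⟨0, 0, 0, 2, -1, 1, -1, -1⟩,
  ⟨0, 0, 0, 2, -1, 1, 1, 1⟩,
  ⟨0, 0, 0, 2, 1, -1, -1, -1⟩,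
  ⟨0, 0, 0, 2, 1, -1, 1, 1⟩,
  ⟨0, 0, 1, -1, -1, -1, 0, -2⟩,
  ⟨0, 0, 1, -1, -1, -1, 0, 2⟩,
  ⟨0, 0, 1, -1, 1, 1, 0, -2⟩,
  ⟨0, 0, 1, -1, 1, 1, 0, 2⟩,
  ⟨0, 0, 1, 1, 0, -2, -1, 1⟩,
  ⟨0, 0, 1, 1, 0, -2, 1, -1⟩,
  ⟨0, 0, 1, 1, 0, 2, -1, 1⟩,
  ⟨0, 0, 1, 1, 0, 2, 1, -1⟩,
  ⟨0, 0, 2, 0, -3, -1, -3, 1⟩,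
  ⟨0, 0, 2, 0, -3, -1, 3, -1⟩,
  ⟨0, 0, 2, 0, 3, 1, -3, 1⟩,
  ⟨0, 0, 2, 0, 3, 1, 3, -1⟩,
  ⟨0, 0, 3, -1, -2, 0, -3, -1⟩,
  ⟨0, 0, 3, -1, -2, 0, 3, 1⟩,
  ⟨0, 0, 3, -1, 2, 0, -3, -1⟩,
  ⟨0, 0, 3, -1, 2, 0, 3, 1⟩,
  ⟨0, 0, 3, 1, -3, 1, -2, 0⟩,
  ⟨0, 0, 3, 1, -3, 1, 2, 0⟩,
  ⟨0, 0, 3, 1, 3, -1, -2, 0⟩,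
  ⟨0, 0, 3, 1, 3, -1, 2, 0⟩,
  ⟨0, 0, 4, 0, -4, 0, 0, 0⟩,
  ⟨0, 0, 4, 0, 0, 0, -4, 0⟩,
  ⟨0, 0, 4, 0, 0, 0, 4, 0⟩,
  ⟨0, 0, 4, 0, 4, 0, 0, 0⟩,
  ⟨0, 2, -2, 0, -2, 0, -2, 0⟩,
  ⟨0, 2, -2, 0, -2, 0, 2, 0⟩,
  ⟨0, 2, -2, 0, 2, 0, -2, 0⟩,
  ⟨0, 2, -2, 0, 2, 0, 2, 0⟩,
  ⟨0, 2, -1, -1, -1, 1, 0, 0⟩,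
  ⟨0, 2, -1, -1, 1, -1, 0, 0⟩,
  ⟨0, 2, -1, 1, 0, 0, -1, -1⟩,
  ⟨0, 2, -1, 1, 0, 0, 1, 1⟩,
  ⟨0, 2, 0, 0, -1, -1, -1, 1⟩,
  ⟨0, 2, 0, 0, -1, -1, 1, -1⟩,
  ⟨0, 2, 0, 0, 1, 1, -1, 1⟩,
  ⟨0, 2, 0, 0, 1, 1, 1, -1⟩,
  ⟨0, 2, 1, -1, 0, 0, -1, -1⟩,
  ⟨0, 2, 1, -1, 0, 0, 1, 1⟩,
  ⟨0, 2, 1, 1, -1, 1, 0, 0⟩,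
  ⟨0, 2, 1, 1, 1, -1, 0, 0⟩,
  ⟨0, 2, 2, 0, -2, 0, -2, 0⟩,
  ⟨0, 2, 2, 0, -2, 0, 2, 0⟩,
  ⟨0, 2, 2, 0, 2, 0, -2, 0⟩,
  ⟨0, 2, 2, 0, 2, 0, 2, 0⟩,
  ⟨1, -1, -4, 0, -2, 0, -1, -1⟩,
  ⟨1, -1, -4, 0, -2, 0, 1, 1⟩,
  ⟨1, -1, -4, 0, 2, 0, -1, -1⟩,
  ⟨1, -1, -4, 0, 2, 0, 1, 1⟩,
  ⟨1, -1, -3, -1, -1, 1, -1, 1⟩,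
  ⟨1, -1, -3, -1, -1, 1, 1, -1⟩,
  ⟨1, -1, -3, -1, 1, -1, -1, 1⟩,
  ⟨1, -1, -3, -1, 1, -1, 1, -1⟩,
  ⟨1, -1, -2, 0, -1, -1, -4, 0⟩,
  ⟨1, -1, -2, 0, -1, -1, 4, 0⟩,
  ⟨1, -1, -2, 0, 1, 1, -4, 0⟩,
  ⟨1, -1, -2, 0, 1, 1, 4, 0⟩,
  ⟨1, -1, -1, -1, -4, 0, -2, 0⟩,
  ⟨1, -1, -1, -1, -4, 0, 2, 0⟩,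
  ⟨1, -1, -1, -1, 0, 0, 0, -2⟩,
  ⟨1, -1, -1, -1, 0, 0, 0, 2⟩,
  ⟨1, -1, -1, -1, 4, 0, -2, 0⟩,
  ⟨1, -1, -1, -1, 4, 0, 2, 0⟩,
  ⟨1, -1, -1, 1, -3, -1, -1, 1⟩,
  ⟨1, -1, -1, 1, -3, -1, 1, -1⟩,
  ⟨1, -1, -1, 1, -1, 1, -3, -1⟩,
  ⟨1, -1, -1, 1, -1, 1, 3, 1⟩,
  ⟨1, -1, -1, 1, 1, -1, -3, -1⟩,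
  ⟨1, -1, -1, 1, 1, -1, 3, 1⟩,
  ⟨1, -1, -1, 1, 3, 1, -1, 1⟩,
  ⟨1, -1, -1, 1, 3, 1, 1, -1⟩,
  ⟨1, -1, 0, -2, -1, -1, 0, 0⟩,
  ⟨1, -1, 0, -2, 1, 1, 0, 0⟩,
  ⟨1, -1, 0, 0, 0, -2, -1, -1⟩,
  ⟨1, -1, 0, 0, 0, -2, 1, 1⟩,
  ⟨1, -1, 0, 0, 0, 2, -1, -1⟩,
  ⟨1, -1, 0, 0, 0, 2, 1, 1⟩,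
  ⟨1, -1, 0, 2, -1, -1, 0, 0⟩,
  ⟨1, -1, 0, 2, 1, 1, 0, 0⟩,
  ⟨1, -1, 1, -1, -3, -1, -1, 1⟩,
  ⟨1, -1, 1, -1, -3, -1, 1, -1⟩,
  ⟨1, -1, 1, -1, -1, 1, -3, -1⟩,
  ⟨1, -1, 1, -1, -1, 1, 3, 1⟩,
  ⟨1, -1, 1, -1, 1, -1, -3, -1⟩,
  ⟨1, -1, 1, -1, 1, -1, 3, 1⟩,
  ⟨1, -1, 1, -1, 3, 1, -1, 1⟩,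
  ⟨1, -1, 1, -1, 3, 1, 1, -1⟩,
  ⟨1, -1, 1, 1, -4, 0, -2, 0⟩,
  ⟨1, -1, 1, 1, -4, 0, 2, 0⟩,
  ⟨1, -1, 1, 1, 0, 0, 0, -2⟩,
  ⟨1, -1, 1, 1, 0, 0, 0, 2⟩,
  ⟨1, -1, 1, 1, 4, 0, -2, 0⟩,
  ⟨1, -1, 1, 1, 4, 0, 2, 0⟩,
  ⟨1, -1, 2, 0, -1, -1, -4, 0⟩,
  ⟨1, -1, 2, 0, -1, -1, 4, 0⟩,
  ⟨1, -1, 2, 0, 1, 1, -4, 0⟩,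
  ⟨1, -1, 2, 0, 1, 1, 4, 0⟩,
  ⟨1, -1, 3, 1, -1, 1, -1, 1⟩,
  ⟨1, -1, 3, 1, -1, 1, 1, -1⟩,
  ⟨1, -1, 3, 1, 1, -1, -1, 1⟩,
  ⟨1, -1, 3, 1, 1, -1, 1, -1⟩,
  ⟨1, -1, 4, 0, -2, 0, -1, -1⟩,
  ⟨1, -1, 4, 0, -2, 0, 1, 1⟩,
  ⟨1, -1, 4, 0, 2, 0, -1, -1⟩,
  ⟨1, -1, 4, 0, 2, 0, 1, 1⟩,
  ⟨1, 1, -4, 0, -1, 1, -2, 0⟩,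
  ⟨1, 1, -4, 0, -1, 1, 2, 0⟩,
  ⟨1, 1, -4, 0, 1, -1, -2, 0⟩,
  ⟨1, 1, -4, 0, 1, -1, 2, 0⟩,
  ⟨1, 1, -3, 1, -1, -1, -1, -1⟩,
  ⟨1, 1, -3, 1, -1, -1, 1, 1⟩,
  ⟨1, 1, -3, 1, 1, 1, -1, -1⟩,
  ⟨1, 1, -3, 1, 1, 1, 1, 1⟩,
  ⟨1, 1, -2, 0, -4, 0, -1, 1⟩,
  ⟨1, 1, -2, 0, -4, 0, 1, -1⟩,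
  ⟨1, 1, -2, 0, 4, 0, -1, 1⟩,
  ⟨1, 1, -2, 0, 4, 0, 1, -1⟩,
  ⟨1, 1, -1, -1, -3, 1, -1, -1⟩,
  ⟨1, 1, -1, -1, -3, 1, 1, 1⟩,
  ⟨1, 1, -1, -1, -1, -1, -3, 1⟩,
  ⟨1, 1, -1, -1, -1, -1, 3, -1⟩,
  ⟨1, 1, -1, -1, 1, 1, -3, 1⟩,
  ⟨1, 1, -1, -1, 1, 1, 3, -1⟩,
  ⟨1, 1, -1, -1, 3, -1, -1, -1⟩,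
  ⟨1, 1, -1, -1, 3, -1, 1, 1⟩,
  ⟨1, 1, -1, 1, -2, 0, -4, 0⟩,
  ⟨1, 1, -1, 1, -2, 0, 4, 0⟩,
  ⟨1, 1, -1, 1, 0, -2, 0, 0⟩,
  ⟨1, 1, -1, 1, 0, 2, 0, 0⟩,
  ⟨1, 1, -1, 1, 2, 0, -4, 0⟩,
  ⟨1, 1, -1, 1, 2, 0, 4, 0⟩,
  ⟨1, 1, 0, -2, 0, 0, -1, 1⟩,
  ⟨1, 1, 0, -2, 0, 0, 1, -1⟩,
  ⟨1, 1, 0, 0, -1, 1, 0, -2⟩,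
  ⟨1, 1, 0, 0, -1, 1, 0, 2⟩,
  ⟨1, 1, 0, 0, 1, -1, 0, -2⟩,
  ⟨1, 1, 0, 0, 1, -1, 0, 2⟩,
  ⟨1, 1, 0, 2, 0, 0, -1, 1⟩,
  ⟨1, 1, 0, 2, 0, 0, 1, -1⟩,
  ⟨1, 1, 1, -1, -2, 0, -4, 0⟩,
  ⟨1, 1, 1, -1, -2, 0, 4, 0⟩,
  ⟨1, 1, 1, -1, 0, -2, 0, 0⟩,
  ⟨1, 1, 1, -1, 0, 2, 0, 0⟩,
  ⟨1, 1, 1, -1, 2, 0, -4, 0⟩,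
  ⟨1, 1, 1, -1, 2, 0, 4, 0⟩,
  ⟨1, 1, 1, 1, -3, 1, -1, -1⟩,
  ⟨1, 1, 1, 1, -3, 1, 1, 1⟩,
  ⟨1, 1, 1, 1, -1, -1, -3, 1⟩,
  ⟨1, 1, 1, 1, -1, -1, 3, -1⟩,
  ⟨1, 1, 1, 1, 1, 1, -3, 1⟩,
  ⟨1, 1, 1, 1, 1, 1, 3, -1⟩,
  ⟨1, 1, 1, 1, 3, -1, -1, -1⟩,
  ⟨1, 1, 1, 1, 3, -1, 1, 1⟩,
  ⟨1, 1, 2, 0, -4, 0, -1, 1⟩,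
  ⟨1, 1, 2, 0, -4, 0, 1, -1⟩,
  ⟨1, 1, 2, 0, 4, 0, -1, 1⟩,
  ⟨1, 1, 2, 0, 4, 0, 1, -1⟩,
  ⟨1, 1, 3, -1, -1, -1, -1, -1⟩,
  ⟨1, 1, 3, -1, -1, -1, 1, 1⟩,
  ⟨1, 1, 3, -1, 1, 1, -1, -1⟩,
  ⟨1, 1, 3, -1, 1, 1, 1, 1⟩,
  ⟨1, 1, 4, 0, -1, 1, -2, 0⟩,
  ⟨1, 1, 4, 0, -1, 1, 2, 0⟩,
  ⟨1, 1, 4, 0, 1, -1, -2, 0⟩,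
  ⟨1, 1, 4, 0, 1, -1, 2, 0⟩,
  ⟨2, 0, -4, 0, -1, -1, -1, 1⟩,
  ⟨2, 0, -4, 0, -1, -1, 1, -1⟩,
  ⟨2, 0, -4, 0, 1, 1, -1, 1⟩,
  ⟨2, 0, -4, 0, 1, 1, 1, -1⟩,
  ⟨2, 0, -3, -1, 0, 0, -3, 1⟩,
  ⟨2, 0, -3, -1, 0, 0, 3, -1⟩,
  ⟨2, 0, -3, 1, -3, -1, 0, 0⟩,
  ⟨2, 0, -3, 1, 3, 1, 0, 0⟩,
  ⟨2, 0, -2, 0, -2, 0, 0, -2⟩,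
  ⟨2, 0, -2, 0, -2, 0, 0, 2⟩,
  ⟨2, 0, -2, 0, 0, -2, -2, 0⟩,
  ⟨2, 0, -2, 0, 0, -2, 2, 0⟩,
  ⟨2, 0, -2, 0, 0, 2, -2, 0⟩,
  ⟨2, 0, -2, 0, 0, 2, 2, 0⟩,
  ⟨2, 0, -2, 0, 2, 0, 0, -2⟩,
  ⟨2, 0, -2, 0, 2, 0, 0, 2⟩,
  ⟨2, 0, -1, -1, -1, 1, -4, 0⟩,
  ⟨2, 0, -1, -1, -1, 1, 4, 0⟩,
  ⟨2, 0, -1, -1, 1, -1, -4, 0⟩,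
  ⟨2, 0, -1, -1, 1, -1, 4, 0⟩,
  ⟨2, 0, -1, 1, -4, 0, -1, -1⟩,
  ⟨2, 0, -1, 1, -4, 0, 1, 1⟩,
  ⟨2, 0, -1, 1, 4, 0, -1, -1⟩,
  ⟨2, 0, -1, 1, 4, 0, 1, 1⟩,
  ⟨2, 0, 0, -2, -2, 0, -2, 0⟩,
  ⟨2, 0, 0, -2, -2, 0, 2, 0⟩,
  ⟨2, 0, 0, -2, 2, 0, -2, 0⟩,
  ⟨2, 0, 0, -2, 2, 0, 2, 0⟩,
  ⟨2, 0, 0, 0, -3, 1, -3, -1⟩,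
  ⟨2, 0, 0, 0, -3, 1, 3, 1⟩,
  ⟨2, 0, 0, 0, 3, -1, -3, -1⟩,
  ⟨2, 0, 0, 0, 3, -1, 3, 1⟩,
  ⟨2, 0, 0, 2, -2, 0, -2, 0⟩,
  ⟨2, 0, 0, 2, -2, 0, 2, 0⟩,
  ⟨2, 0, 0, 2, 2, 0, -2, 0⟩,
  ⟨2, 0, 0, 2, 2, 0, 2, 0⟩,
  ⟨2, 0, 1, -1, -4, 0, -1, -1⟩,
  ⟨2, 0, 1, -1, -4, 0, 1, 1⟩,
  ⟨2, 0, 1, -1, 4, 0, -1, -1⟩,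
  ⟨2, 0, 1, -1, 4, 0, 1, 1⟩,
  ⟨2, 0, 1, 1, -1, 1, -4, 0⟩,
  ⟨2, 0, 1, 1, -1, 1, 4, 0⟩,
  ⟨2, 0, 1, 1, 1, -1, -4, 0⟩,
  ⟨2, 0, 1, 1, 1, -1, 4, 0⟩,
  ⟨2, 0, 2, 0, -2, 0, 0, -2⟩,
  ⟨2, 0, 2, 0, -2, 0, 0, 2⟩,
  ⟨2, 0, 2, 0, 0, -2, -2, 0⟩,
  ⟨2, 0, 2, 0, 0, -2, 2, 0⟩,
  ⟨2, 0, 2, 0, 0, 2, -2, 0⟩,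
  ⟨2, 0, 2, 0, 0, 2, 2, 0⟩,
  ⟨2, 0, 2, 0, 2, 0, 0, -2⟩,
  ⟨2, 0, 2, 0, 2, 0, 0, 2⟩,
  ⟨2, 0, 3, -1, -3, -1, 0, 0⟩,
  ⟨2, 0, 3, -1, 3, 1, 0, 0⟩,
  ⟨2, 0, 3, 1, 0, 0, -3, 1⟩,
  ⟨2, 0, 3, 1, 0, 0, 3, -1⟩,
  ⟨2, 0, 4, 0, -1, -1, -1, 1⟩,
  ⟨2, 0, 4, 0, -1, -1, 1, -1⟩,
  ⟨2, 0, 4, 0, 1, 1, -1, 1⟩,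
  ⟨2, 0, 4, 0, 1, 1, 1, -1⟩,
  ⟨3, -1, -3, -1, -2, 0, 0, 0⟩,
  ⟨3, -1, -3, -1, 2, 0, 0, 0⟩,
  ⟨3, -1, -2, 0, 0, 0, -3, -1⟩,
  ⟨3, -1, -2, 0, 0, 0, 3, 1⟩,
  ⟨3, -1, -1, -1, -1, -1, -1, -1⟩,
  ⟨3, -1, -1, -1, -1, -1, 1, 1⟩,
  ⟨3, -1, -1, -1, 1, 1, -1, -1⟩,
  ⟨3, -1, -1, -1, 1, 1, 1, 1⟩,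
  ⟨3, -1, 0, 0, -3, -1, -2, 0⟩,
  ⟨3, -1, 0, 0, -3, -1, 2, 0⟩,
  ⟨3, -1, 0, 0, 3, 1, -2, 0⟩,
  ⟨3, -1, 0, 0, 3, 1, 2, 0⟩,
  ⟨3, -1, 1, 1, -1, -1, -1, -1⟩,
  ⟨3, -1, 1, 1, -1, -1, 1, 1⟩,
  ⟨3, -1, 1, 1, 1, 1, -1, -1⟩,
  ⟨3, -1, 1, 1, 1, 1, 1, 1⟩,
  ⟨3, -1, 2, 0, 0, 0, -3, -1⟩,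
  ⟨3, -1, 2, 0, 0, 0, 3, 1⟩,
  ⟨3, -1, 3, 1, -2, 0, 0, 0⟩,
  ⟨3, -1, 3, 1, 2, 0, 0, 0⟩,
  ⟨3, 1, -3, 1, 0, 0, -2, 0⟩,
  ⟨3, 1, -3, 1, 0, 0, 2, 0⟩,
  ⟨3, 1, -2, 0, -3, 1, 0, 0⟩,
  ⟨3, 1, -2, 0, 3, -1, 0, 0⟩,
  ⟨3, 1, -1, 1, -1, 1, -1, 1⟩,
  ⟨3, 1, -1, 1, -1, 1, 1, -1⟩,
  ⟨3, 1, -1, 1, 1, -1, -1, 1⟩,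
  ⟨3, 1, -1, 1, 1, -1, 1, -1⟩,
  ⟨3, 1, 0, 0, -2, 0, -3, 1⟩,
  ⟨3, 1, 0, 0, -2, 0, 3, -1⟩,
  ⟨3, 1, 0, 0, 2, 0, -3, 1⟩,
  ⟨3, 1, 0, 0, 2, 0, 3, -1⟩,
  ⟨3, 1, 1, -1, -1, 1, -1, 1⟩,
  ⟨3, 1, 1, -1, -1, 1, 1, -1⟩,
  ⟨3, 1, 1, -1, 1, -1, -1, 1⟩,
  ⟨3, 1, 1, -1, 1, -1, 1, -1⟩,
  ⟨3, 1, 2, 0, -3, 1, 0, 0⟩,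
  ⟨3, 1, 2, 0, 3, -1, 0, 0⟩,
  ⟨3, 1, 3, -1, 0, 0, -2, 0⟩,
  ⟨3, 1, 3, -1, 0, 0, 2, 0⟩,
  ⟨4, 0, -4, 0, 0, 0, 0, 0⟩,
  ⟨4, 0, -2, 0, -1, 1, -1, -1⟩,
  ⟨4, 0, -2, 0, -1, 1, 1, 1⟩,
  ⟨4, 0, -2, 0, 1, -1, -1, -1⟩,
  ⟨4, 0, -2, 0, 1, -1, 1, 1⟩,
  ⟨4, 0, -1, -1, -2, 0, -1, 1⟩,
  ⟨4, 0, -1, -1, -2, 0, 1, -1⟩,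
  ⟨4, 0, -1, -1, 2, 0, -1, 1⟩,
  ⟨4, 0, -1, -1, 2, 0, 1, -1⟩,
  ⟨4, 0, -1, 1, -1, -1, -2, 0⟩,
  ⟨4, 0, -1, 1, -1, -1, 2, 0⟩,
  ⟨4, 0, -1, 1, 1, 1, -2, 0⟩,
  ⟨4, 0, -1, 1, 1, 1, 2, 0⟩,
  ⟨4, 0, 0, 0, -4, 0, 0, 0⟩,
  ⟨4, 0, 0, 0, 0, 0, -4, 0⟩,
  ⟨4, 0, 0, 0, 0, 0, 4, 0⟩,
  ⟨4, 0, 0, 0, 4, 0, 0, 0⟩,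
  ⟨4, 0, 1, -1, -1, -1, -2, 0⟩,
  ⟨4, 0, 1, -1, -1, -1, 2, 0⟩,
  ⟨4, 0, 1, -1, 1, 1, -2, 0⟩,
  ⟨4, 0, 1, -1, 1, 1, 2, 0⟩,
  ⟨4, 0, 1, 1, -2, 0, -1, 1⟩,
  ⟨4, 0, 1, 1, -2, 0, 1, -1⟩,
  ⟨4, 0, 1, 1, 2, 0, -1, 1⟩,
  ⟨4, 0, 1, 1, 2, 0, 1, -1⟩,
  ⟨4, 0, 2, 0, -1, 1, -1, -1⟩,
  ⟨4, 0, 2, 0, -1, 1, 1, 1⟩,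
  ⟨4, 0, 2, 0, 1, -1, -1, -1⟩,
  ⟨4, 0, 2, 0, 1, -1, 1, 1⟩,
  ⟨4, 0, 4, 0, 0, 0, 0, 0⟩]

/-- those in `I h` -/
def Sh32 : List Q8 := [
  ⟨0, 0, 0, 0, 0, 0, 0, 0⟩,
  ⟨-4, 0, -4, 0, 0, 0, 0, 0⟩,
  ⟨-4, 0, 0, 0, -4, 0, 0, 0⟩,
  ⟨-4, 0, 0, 0, 0, 0, -4, 0⟩,
  ⟨-4, 0, 0, 0, 0, 0, 4, 0⟩,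
  ⟨-4, 0, 0, 0, 4, 0, 0, 0⟩,
  ⟨-4, 0, 4, 0, 0, 0, 0, 0⟩,
  ⟨-3, -1, -1, 1, -1, 1, 1, -1⟩,
  ⟨-3, -1, -1, 1, 1, -1, -1, 1⟩,
  ⟨-3, -1, 1, -1, -1, 1, -1, 1⟩,
  ⟨-3, -1, 1, -1, 1, -1, 1, -1⟩,
  ⟨-3, 1, -1, -1, -1, -1, -1, -1⟩,
  ⟨-3, 1, -1, -1, 1, 1, 1, 1⟩,
  ⟨-3, 1, 1, 1, -1, -1, 1, 1⟩,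
  ⟨-3, 1, 1, 1, 1, 1, -1, -1⟩,
  ⟨-2, 0, -2, 0, -2, 0, 0, 2⟩,
  ⟨-2, 0, -2, 0, 0, -2, 2, 0⟩,
  ⟨-2, 0, -2, 0, 0, 2, -2, 0⟩,
  ⟨-2, 0, -2, 0, 2, 0, 0, -2⟩,
  ⟨-2, 0, 0, -2, -2, 0, 2, 0⟩,
  ⟨-2, 0, 0, -2, 2, 0, -2, 0⟩,
  ⟨-2, 0, 0, 2, -2, 0, -2, 0⟩,
  ⟨-2, 0, 0, 2, 2, 0, 2, 0⟩,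
  ⟨-2, 0, 2, 0, -2, 0, 0, -2⟩,
  ⟨-2, 0, 2, 0, 0, -2, -2, 0⟩,
  ⟨-2, 0, 2, 0, 0, 2, 2, 0⟩,
  ⟨-2, 0, 2, 0, 2, 0, 0, 2⟩,
  ⟨-1, -1, -3, 1, -1, -1, -1, -1⟩,
  ⟨-1, -1, -3, 1, 1, 1, 1, 1⟩,
  ⟨-1, -1, -1, -1, -3, 1, -1, -1⟩,
  ⟨-1, -1, -1, -1, -1, -1, -3, 1⟩,
  ⟨-1, -1, -1, -1, 1, 1, 3, -1⟩,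
  ⟨-1, -1, -1, -1, 3, -1, 1, 1⟩,
  ⟨-1, -1, 1, 1, -3, 1, 1, 1⟩,
  ⟨-1, -1, 1, 1, -1, -1, 3, -1⟩,
  ⟨-1, -1, 1, 1, 1, 1, -3, 1⟩,
  ⟨-1, -1, 1, 1, 3, -1, -1, -1⟩,
  ⟨-1, -1, 3, -1, -1, -1, 1, 1⟩,
  ⟨-1, -1, 3, -1, 1, 1, -1, -1⟩,
  ⟨-1, 1, -3, -1, -1, 1, 1, -1⟩,
  ⟨-1, 1, -3, -1, 1, -1, -1, 1⟩,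
  ⟨-1, 1, -1, 1, -3, -1, 1, -1⟩,
  ⟨-1, 1, -1, 1, -1, 1, 3, 1⟩,
  ⟨-1, 1, -1, 1, 1, -1, -3, -1⟩,
  ⟨-1, 1, -1, 1, 3, 1, -1, 1⟩,
  ⟨-1, 1, 1, -1, -3, -1, -1, 1⟩,
  ⟨-1, 1, 1, -1, -1, 1, -3, -1⟩,
  ⟨-1, 1, 1, -1, 1, -1, 3, 1⟩,
  ⟨-1, 1, 1, -1, 3, 1, 1, -1⟩,
  ⟨-1, 1, 3, 1, -1, 1, -1, 1⟩,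
  ⟨-1, 1, 3, 1, 1, -1, 1, -1⟩,
  ⟨0, -2, -2, 0, -2, 0, 2, 0⟩,
  ⟨0, -2, -2, 0, 2, 0, -2, 0⟩,
  ⟨0, -2, 2, 0, -2, 0, -2, 0⟩,
  ⟨0, -2, 2, 0, 2, 0, 2, 0⟩,
  ⟨0, 0, -4, 0, -4, 0, 0, 0⟩,
  ⟨0, 0, -4, 0, 0, 0, -4, 0⟩,
  ⟨0, 0, -4, 0, 0, 0, 4, 0⟩,
  ⟨0, 0, -4, 0, 4, 0, 0, 0⟩,
  ⟨0, 0, 0, 0, -4, 0, -4, 0⟩,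
  ⟨0, 0, 0, 0, -4, 0, 4, 0⟩,
  ⟨0, 0, 0, 0, 4, 0, -4, 0⟩,
  ⟨0, 0, 0, 0, 4, 0, 4, 0⟩,
  ⟨0, 0, 4, 0, -4, 0, 0, 0⟩,
  ⟨0, 0, 4, 0, 0, 0, -4, 0⟩,
  ⟨0, 0, 4, 0, 0, 0, 4, 0⟩,
  ⟨0, 0, 4, 0, 4, 0, 0, 0⟩,
  ⟨0, 2, -2, 0, -2, 0, -2, 0⟩,
  ⟨0, 2, -2, 0, 2, 0, 2, 0⟩,
  ⟨0, 2, 2, 0, -2, 0, 2, 0⟩,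
  ⟨0, 2, 2, 0, 2, 0, -2, 0⟩,
  ⟨1, -1, -3, -1, -1, 1, -1, 1⟩,
  ⟨1, -1, -3, -1, 1, -1, 1, -1⟩,
  ⟨1, -1, -1, 1, -3, -1, -1, 1⟩,
  ⟨1, -1, -1, 1, -1, 1, -3, -1⟩,
  ⟨1, -1, -1, 1, 1, -1, 3, 1⟩,
  ⟨1, -1, -1, 1, 3, 1, 1, -1⟩,
  ⟨1, -1, 1, -1, -3, -1, 1, -1⟩,
  ⟨1, -1, 1, -1, -1, 1, 3, 1⟩,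
  ⟨1, -1, 1, -1, 1, -1, -3, -1⟩,
  ⟨1, -1, 1, -1, 3, 1, -1, 1⟩,
  ⟨1, -1, 3, 1, -1, 1, 1, -1⟩,
  ⟨1, -1, 3, 1, 1, -1, -1, 1⟩,
  ⟨1, 1, -3, 1, -1, -1, 1, 1⟩,
  ⟨1, 1, -3, 1, 1, 1, -1, -1⟩,
  ⟨1, 1, -1, -1, -3, 1, 1, 1⟩,
  ⟨1, 1, -1, -1, -1, -1, 3, -1⟩,
  ⟨1, 1, -1, -1, 1, 1, -3, 1⟩,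
  ⟨1, 1, -1, -1, 3, -1, -1, -1⟩,
  ⟨1, 1, 1, 1, -3, 1, -1, -1⟩,
  ⟨1, 1, 1, 1, -1, -1, -3, 1⟩,
  ⟨1, 1, 1, 1, 1, 1, 3, -1⟩,
  ⟨1, 1, 1, 1, 3, -1, 1, 1⟩,
  ⟨1, 1, 3, -1, -1, -1, -1, -1⟩,
  ⟨1, 1, 3, -1, 1, 1, 1, 1⟩,
  ⟨2, 0, -2, 0, -2, 0, 0, -2⟩,
  ⟨2, 0, -2, 0, 0, -2, -2, 0⟩,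
  ⟨2, 0, -2, 0, 0, 2, 2, 0⟩,
  ⟨2, 0, -2, 0, 2, 0, 0, 2⟩,
  ⟨2, 0, 0, -2, -2, 0, -2, 0⟩,
  ⟨2, 0, 0, -2, 2, 0, 2, 0⟩,
  ⟨2, 0, 0, 2, -2, 0, 2, 0⟩,
  ⟨2, 0, 0, 2, 2, 0, -2, 0⟩,
  ⟨2, 0, 2, 0, -2, 0, 0, 2⟩,
  ⟨2, 0, 2, 0, 0, -2, 2, 0⟩,
  ⟨2, 0, 2, 0, 0, 2, -2, 0⟩,
  ⟨2, 0, 2, 0, 2, 0, 0, -2⟩,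
  ⟨3, -1, -1, -1, -1, -1, 1, 1⟩,
  ⟨3, -1, -1, -1, 1, 1, -1, -1⟩,
  ⟨3, -1, 1, 1, -1, -1, -1, -1⟩,
  ⟨3, -1, 1, 1, 1, 1, 1, 1⟩,
  ⟨3, 1, -1, 1, -1, 1, -1, 1⟩,
  ⟨3, 1, -1, 1, 1, -1, 1, -1⟩,
  ⟨3, 1, 1, -1, -1, 1, 1, -1⟩,
  ⟨3, 1, 1, -1, 1, -1, -1, 1⟩,
  ⟨4, 0, -4, 0, 0, 0, 0, 0⟩,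
  ⟨4, 0, 0, 0, -4, 0, 0, 0⟩,
  ⟨4, 0, 0, 0, 0, 0, -4, 0⟩,
  ⟨4, 0, 0, 0, 0, 0, 4, 0⟩,
  ⟨4, 0, 0, 0, 4, 0, 0, 0⟩,
  ⟨4, 0, 4, 0, 0, 0, 0, 0⟩]

/-- those congruent to 1 modulo `I h` -/
def S1 : List Q8 := [
  ⟨-4, 0, 0, 0, 0, 0, 0, 0⟩,
  ⟨0, 0, -4, 0, 0, 0, 0, 0⟩,
  ⟨0, 0, 0, 0, -4, 0, 0, 0⟩,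
  ⟨0, 0, 0, 0, 0, 0, -4, 0⟩,
  ⟨0, 0, 0, 0, 0, 0, 4, 0⟩,
  ⟨0, 0, 0, 0, 4, 0, 0, 0⟩,
  ⟨0, 0, 4, 0, 0, 0, 0, 0⟩,
  ⟨4, 0, 0, 0, 0, 0, 0, 0⟩,
  ⟨-1, 1, -1, 1, -1, 1, -1, 1⟩,
  ⟨-1, 1, -1, 1, 1, -1, 1, -1⟩,
  ⟨-1, 1, 1, -1, -1, 1, 1, -1⟩,
  ⟨-1, 1, 1, -1, 1, -1, -1, 1⟩,
  ⟨1, -1, -1, 1, -1, 1, 1, -1⟩,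
  ⟨1, -1, -1, 1, 1, -1, -1, 1⟩,
  ⟨1, -1, 1, -1, -1, 1, -1, 1⟩,
  ⟨1, -1, 1, -1, 1, -1, 1, -1⟩,
  ⟨-1, -1, -1, -1, -1, -1, 1, 1⟩,
  ⟨-1, -1, -1, -1, 1, 1, -1, -1⟩,
  ⟨-1, -1, 1, 1, -1, -1, -1, -1⟩,
  ⟨-1, -1, 1, 1, 1, 1, 1, 1⟩,
  ⟨1, 1, -1, -1, -1, -1, -1, -1⟩,
  ⟨1, 1, -1, -1, 1, 1, 1, 1⟩,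
  ⟨1, 1, 1, 1, -1, -1, 1, 1⟩,
  ⟨1, 1, 1, 1, 1, 1, -1, -1⟩,
  ⟨-2, 0, -2, 0, -2, 0, 0, -2⟩,
  ⟨-2, 0, -2, 0, 0, -2, -2, 0⟩,
  ⟨-2, 0, -2, 0, 0, 2, 2, 0⟩,
  ⟨-2, 0, -2, 0, 2, 0, 0, 2⟩,
  ⟨-2, 0, 0, -2, -2, 0, -2, 0⟩,
  ⟨-2, 0, 0, -2, 2, 0, 2, 0⟩,
  ⟨-2, 0, 0, 2, -2, 0, 2, 0⟩,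
  ⟨-2, 0, 0, 2, 2, 0, -2, 0⟩,
  ⟨-2, 0, 2, 0, -2, 0, 0, 2⟩,
  ⟨-2, 0, 2, 0, 0, -2, 2, 0⟩,
  ⟨-2, 0, 2, 0, 0, 2, -2, 0⟩,
  ⟨-2, 0, 2, 0, 2, 0, 0, -2⟩,
  ⟨0, -2, -2, 0, -2, 0, -2, 0⟩,
  ⟨0, -2, -2, 0, 2, 0, 2, 0⟩,
  ⟨0, -2, 2, 0, -2, 0, 2, 0⟩,
  ⟨0, -2, 2, 0, 2, 0, -2, 0⟩,
  ⟨0, 2, -2, 0, -2, 0, 2, 0⟩,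
  ⟨0, 2, -2, 0, 2, 0, -2, 0⟩,
  ⟨0, 2, 2, 0, -2, 0, -2, 0⟩,
  ⟨0, 2, 2, 0, 2, 0, 2, 0⟩,
  ⟨2, 0, -2, 0, -2, 0, 0, 2⟩,
  ⟨2, 0, -2, 0, 0, -2, 2, 0⟩,
  ⟨2, 0, -2, 0, 0, 2, -2, 0⟩,
  ⟨2, 0, -2, 0, 2, 0, 0, -2⟩,
  ⟨2, 0, 0, -2, -2, 0, 2, 0⟩,
  ⟨2, 0, 0, -2, 2, 0, -2, 0⟩,
  ⟨2, 0, 0, 2, -2, 0, -2, 0⟩,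
  ⟨2, 0, 0, 2, 2, 0, 2, 0⟩,
  ⟨2, 0, 2, 0, -2, 0, 0, -2⟩,
  ⟨2, 0, 2, 0, 0, -2, -2, 0⟩,
  ⟨2, 0, 2, 0, 0, 2, 2, 0⟩,
  ⟨2, 0, 2, 0, 2, 0, 0, 2⟩]

def P23 : List (ℤ × ℤ) := [(-2, -2), (0, -2), (2, -2), (-5, -1), (-3, -1), (-1, -1), (1, -1), (3, -1), (5, -1), (-4, 0), (-2, 0), (0, 0), (2, 0), (4, 0), (-5, 1), (-3, 1), (-1, 1), (1, 1), (3, 1), (5, 1), (-2, 2), (0, 2), (2, 2)]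

/-- normalised representatives of the 315 lines -/
def repL : List V3 := [
  ⟨⟨0, 0, 0, 0, 0, 0, 0, 0⟩, ⟨0, 0, 0, 0, 0, 0, 0, 0⟩, ⟨8, 0, 0, 0, 0, 0, 0, 0⟩⟩,
  ⟨⟨0, 0, 0, 0, 0, 0, 0, 0⟩, ⟨0, -2, 2, 0, 2, 0, 2, 0⟩, ⟨0, 2, -2, 0, -2, 0, -2, 0⟩⟩,
  ⟨⟨0, 0, 0, 0, 0, 0, 0, 0⟩, ⟨0, -2, 2, 0, 2, 0, 2, 0⟩, ⟨2, 0, 0, 2, -2, 0, 2, 0⟩⟩,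
  ⟨⟨0, 0, 0, 0, 0, 0, 0, 0⟩, ⟨0, -2, 2, 0, 2, 0, 2, 0⟩, ⟨2, 0, 2, 0, 0, 2, -2, 0⟩⟩,
  ⟨⟨0, 0, 0, 0, 0, 0, 0, 0⟩, ⟨0, -2, 2, 0, 2, 0, 2, 0⟩, ⟨2, 0, -2, 0, 2, 0, 0, 2⟩⟩,
  ⟨⟨0, 0, 0, 0, 0, 0, 0, 0⟩, ⟨0, -2, 2, 0, 2, 0, 2, 0⟩, ⟨-2, 0, 2, 0, -2, 0, 0, -2⟩⟩,
  ⟨⟨0, 0, 0, 0, 0, 0, 0, 0⟩, ⟨0, -2, 2, 0, 2, 0, 2, 0⟩, ⟨-2, 0, -2, 0, 0, -2, 2, 0⟩⟩,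
  ⟨⟨0, 0, 0, 0, 0, 0, 0, 0⟩, ⟨0, -2, 2, 0, 2, 0, 2, 0⟩, ⟨-2, 0, 0, -2, 2, 0, -2, 0⟩⟩,
  ⟨⟨0, 0, 0, 0, 0, 0, 0, 0⟩, ⟨0, -2, 2, 0, 2, 0, 2, 0⟩, ⟨0, -2, 2, 0, 2, 0, 2, 0⟩⟩,
  ⟨⟨0, 0, 0, 0, 0, 0, 0, 0⟩, ⟨8, 0, 0, 0, 0, 0, 0, 0⟩, ⟨0, 0, 0, 0, 0, 0, 0, 0⟩⟩,
  ⟨⟨4, 0, 0, 0, 0, 0, 0, 0⟩, ⟨-4, 0, 0, 0, 0, 0, 0, 0⟩, ⟨-2, 0, -2, 0, 2, 0, 0, 2⟩⟩,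
  ⟨⟨4, 0, 0, 0, 0, 0, 0, 0⟩, ⟨-4, 0, 0, 0, 0, 0, 0, 0⟩, ⟨-2, 0, 0, 2, -2, 0, 2, 0⟩⟩,
  ⟨⟨4, 0, 0, 0, 0, 0, 0, 0⟩, ⟨-4, 0, 0, 0, 0, 0, 0, 0⟩, ⟨-2, 0, 2, 0, 0, 2, -2, 0⟩⟩,
  ⟨⟨4, 0, 0, 0, 0, 0, 0, 0⟩, ⟨-4, 0, 0, 0, 0, 0, 0, 0⟩, ⟨0, -2, -2, 0, -2, 0, -2, 0⟩⟩,
  ⟨⟨4, 0, 0, 0, 0, 0, 0, 0⟩, ⟨-4, 0, 0, 0, 0, 0, 0, 0⟩, ⟨0, 2, 2, 0, 2, 0, 2, 0⟩⟩,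
  ⟨⟨4, 0, 0, 0, 0, 0, 0, 0⟩, ⟨-4, 0, 0, 0, 0, 0, 0, 0⟩, ⟨2, 0, -2, 0, 0, -2, 2, 0⟩⟩,
  ⟨⟨4, 0, 0, 0, 0, 0, 0, 0⟩, ⟨-4, 0, 0, 0, 0, 0, 0, 0⟩, ⟨2, 0, 0, -2, 2, 0, -2, 0⟩⟩,
  ⟨⟨4, 0, 0, 0, 0, 0, 0, 0⟩, ⟨-4, 0, 0, 0, 0, 0, 0, 0⟩, ⟨2, 0, 2, 0, -2, 0, 0, -2⟩⟩,
  ⟨⟨4, 0, 0, 0, 0, 0, 0, 0⟩, ⟨-2, 0, -2, 0, -2, 0, 0, -2⟩, ⟨0, 0, -4, 0, 0, 0, 0, 0⟩⟩,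
  ⟨⟨4, 0, 0, 0, 0, 0, 0, 0⟩, ⟨-2, 0, -2, 0, -2, 0, 0, -2⟩, ⟨0, 0, 4, 0, 0, 0, 0, 0⟩⟩,
  ⟨⟨4, 0, 0, 0, 0, 0, 0, 0⟩, ⟨-2, 0, -2, 0, 0, -2, -2, 0⟩, ⟨0, 0, 0, 0, 0, 0, -4, 0⟩⟩,
  ⟨⟨4, 0, 0, 0, 0, 0, 0, 0⟩, ⟨-2, 0, -2, 0, 0, -2, -2, 0⟩, ⟨0, 0, 0, 0, 0, 0, 4, 0⟩⟩,
  ⟨⟨4, 0, 0, 0, 0, 0, 0, 0⟩, ⟨-2, 0, -2, 0, 0, 2, 2, 0⟩, ⟨0, 0, 0, 0, -4, 0, 0, 0⟩⟩,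
  ⟨⟨4, 0, 0, 0, 0, 0, 0, 0⟩, ⟨-2, 0, -2, 0, 0, 2, 2, 0⟩, ⟨0, 0, 0, 0, 4, 0, 0, 0⟩⟩,
  ⟨⟨4, 0, 0, 0, 0, 0, 0, 0⟩, ⟨-2, 0, -2, 0, 2, 0, 0, 2⟩, ⟨-4, 0, 0, 0, 0, 0, 0, 0⟩⟩,
  ⟨⟨4, 0, 0, 0, 0, 0, 0, 0⟩, ⟨-2, 0, -2, 0, 2, 0, 0, 2⟩, ⟨4, 0, 0, 0, 0, 0, 0, 0⟩⟩,
  ⟨⟨4, 0, 0, 0, 0, 0, 0, 0⟩, ⟨-2, 0, 0, -2, -2, 0, -2, 0⟩, ⟨0, 0, 0, 0, -4, 0, 0, 0⟩⟩,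
  ⟨⟨4, 0, 0, 0, 0, 0, 0, 0⟩, ⟨-2, 0, 0, -2, -2, 0, -2, 0⟩, ⟨0, 0, 0, 0, 4, 0, 0, 0⟩⟩,
  ⟨⟨4, 0, 0, 0, 0, 0, 0, 0⟩, ⟨-2, 0, 0, -2, 2, 0, 2, 0⟩, ⟨0, 0, 0, 0, 0, 0, -4, 0⟩⟩,
  ⟨⟨4, 0, 0, 0, 0, 0, 0, 0⟩, ⟨-2, 0, 0, -2, 2, 0, 2, 0⟩, ⟨0, 0, 0, 0, 0, 0, 4, 0⟩⟩,
  ⟨⟨4, 0, 0, 0, 0, 0, 0, 0⟩, ⟨-2, 0, 0, 2, -2, 0, 2, 0⟩, ⟨-4, 0, 0, 0, 0, 0, 0, 0⟩⟩,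
  ⟨⟨4, 0, 0, 0, 0, 0, 0, 0⟩, ⟨-2, 0, 0, 2, -2, 0, 2, 0⟩, ⟨4, 0, 0, 0, 0, 0, 0, 0⟩⟩,
  ⟨⟨4, 0, 0, 0, 0, 0, 0, 0⟩, ⟨-2, 0, 0, 2, 2, 0, -2, 0⟩, ⟨0, 0, -4, 0, 0, 0, 0, 0⟩⟩,
  ⟨⟨4, 0, 0, 0, 0, 0, 0, 0⟩, ⟨-2, 0, 0, 2, 2, 0, -2, 0⟩, ⟨0, 0, 4, 0, 0, 0, 0, 0⟩⟩,
  ⟨⟨4, 0, 0, 0, 0, 0, 0, 0⟩, ⟨-2, 0, 2, 0, -2, 0, 0, 2⟩, ⟨0, 0, 0, 0, 0, 0, -4, 0⟩⟩,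
  ⟨⟨4, 0, 0, 0, 0, 0, 0, 0⟩, ⟨-2, 0, 2, 0, -2, 0, 0, 2⟩, ⟨0, 0, 0, 0, 0, 0, 4, 0⟩⟩,
  ⟨⟨4, 0, 0, 0, 0, 0, 0, 0⟩, ⟨-2, 0, 2, 0, 0, -2, 2, 0⟩, ⟨0, 0, -4, 0, 0, 0, 0, 0⟩⟩,
  ⟨⟨4, 0, 0, 0, 0, 0, 0, 0⟩, ⟨-2, 0, 2, 0, 0, -2, 2, 0⟩, ⟨0, 0, 4, 0, 0, 0, 0, 0⟩⟩,
  ⟨⟨4, 0, 0, 0, 0, 0, 0, 0⟩, ⟨-2, 0, 2, 0, 0, 2, -2, 0⟩, ⟨-4, 0, 0, 0, 0, 0, 0, 0⟩⟩,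
  ⟨⟨4, 0, 0, 0, 0, 0, 0, 0⟩, ⟨-2, 0, 2, 0, 0, 2, -2, 0⟩, ⟨4, 0, 0, 0, 0, 0, 0, 0⟩⟩,
  ⟨⟨4, 0, 0, 0, 0, 0, 0, 0⟩, ⟨-2, 0, 2, 0, 2, 0, 0, -2⟩, ⟨0, 0, 0, 0, -4, 0, 0, 0⟩⟩,
  ⟨⟨4, 0, 0, 0, 0, 0, 0, 0⟩, ⟨-2, 0, 2, 0, 2, 0, 0, -2⟩, ⟨0, 0, 0, 0, 4, 0, 0, 0⟩⟩,
  ⟨⟨4, 0, 0, 0, 0, 0, 0, 0⟩, ⟨-1, -1, -1, -1, -1, -1, 1, 1⟩, ⟨-1, 1, -1, 1, 1, -1, 1, -1⟩⟩,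
  ⟨⟨4, 0, 0, 0, 0, 0, 0, 0⟩, ⟨-1, -1, -1, -1, -1, -1, 1, 1⟩, ⟨1, -1, 1, -1, -1, 1, -1, 1⟩⟩,
  ⟨⟨4, 0, 0, 0, 0, 0, 0, 0⟩, ⟨-1, -1, -1, -1, 1, 1, -1, -1⟩, ⟨-1, 1, 1, -1, 1, -1, -1, 1⟩⟩,
  ⟨⟨4, 0, 0, 0, 0, 0, 0, 0⟩, ⟨-1, -1, -1, -1, 1, 1, -1, -1⟩, ⟨1, -1, -1, 1, -1, 1, 1, -1⟩⟩,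
  ⟨⟨4, 0, 0, 0, 0, 0, 0, 0⟩, ⟨-1, -1, 1, 1, -1, -1, -1, -1⟩, ⟨-1, 1, 1, -1, -1, 1, 1, -1⟩⟩,
  ⟨⟨4, 0, 0, 0, 0, 0, 0, 0⟩, ⟨-1, -1, 1, 1, -1, -1, -1, -1⟩, ⟨1, -1, -1, 1, 1, -1, -1, 1⟩⟩,
  ⟨⟨4, 0, 0, 0, 0, 0, 0, 0⟩, ⟨-1, -1, 1, 1, 1, 1, 1, 1⟩, ⟨-1, 1, -1, 1, -1, 1, -1, 1⟩⟩,
  ⟨⟨4, 0, 0, 0, 0, 0, 0, 0⟩, ⟨-1, -1, 1, 1, 1, 1, 1, 1⟩, ⟨1, -1, 1, -1, 1, -1, 1, -1⟩⟩,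
  ⟨⟨4, 0, 0, 0, 0, 0, 0, 0⟩, ⟨-1, 1, -1, 1, -1, 1, -1, 1⟩, ⟨-1, -1, 1, 1, 1, 1, 1, 1⟩⟩,
  ⟨⟨4, 0, 0, 0, 0, 0, 0, 0⟩, ⟨-1, 1, -1, 1, -1, 1, -1, 1⟩, ⟨1, 1, -1, -1, -1, -1, -1, -1⟩⟩,
  ⟨⟨4, 0, 0, 0, 0, 0, 0, 0⟩, ⟨-1, 1, -1, 1, 1, -1, 1, -1⟩, ⟨-1, -1, -1, -1, -1, -1, 1, 1⟩⟩,
  ⟨⟨4, 0, 0, 0, 0, 0, 0, 0⟩, ⟨-1, 1, -1, 1, 1, -1, 1, -1⟩, ⟨1, 1, 1, 1, 1, 1, -1, -1⟩⟩,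
  ⟨⟨4, 0, 0, 0, 0, 0, 0, 0⟩, ⟨-1, 1, 1, -1, -1, 1, 1, -1⟩, ⟨-1, -1, 1, 1, -1, -1, -1, -1⟩⟩,
  ⟨⟨4, 0, 0, 0, 0, 0, 0, 0⟩, ⟨-1, 1, 1, -1, -1, 1, 1, -1⟩, ⟨1, 1, -1, -1, 1, 1, 1, 1⟩⟩,
  ⟨⟨4, 0, 0, 0, 0, 0, 0, 0⟩, ⟨-1, 1, 1, -1, 1, -1, -1, 1⟩, ⟨-1, -1, -1, -1, 1, 1, -1, -1⟩⟩,
  ⟨⟨4, 0, 0, 0, 0, 0, 0, 0⟩, ⟨-1, 1, 1, -1, 1, -1, -1, 1⟩, ⟨1, 1, 1, 1, -1, -1, 1, 1⟩⟩,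
  ⟨⟨4, 0, 0, 0, 0, 0, 0, 0⟩, ⟨0, -2, -2, 0, -2, 0, -2, 0⟩, ⟨-4, 0, 0, 0, 0, 0, 0, 0⟩⟩,
  ⟨⟨4, 0, 0, 0, 0, 0, 0, 0⟩, ⟨0, -2, -2, 0, -2, 0, -2, 0⟩, ⟨4, 0, 0, 0, 0, 0, 0, 0⟩⟩,
  ⟨⟨4, 0, 0, 0, 0, 0, 0, 0⟩, ⟨0, -2, -2, 0, 2, 0, 2, 0⟩, ⟨0, 0, -4, 0, 0, 0, 0, 0⟩⟩,
  ⟨⟨4, 0, 0, 0, 0, 0, 0, 0⟩, ⟨0, -2, -2, 0, 2, 0, 2, 0⟩, ⟨0, 0, 4, 0, 0, 0, 0, 0⟩⟩,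
  ⟨⟨4, 0, 0, 0, 0, 0, 0, 0⟩, ⟨0, -2, 2, 0, -2, 0, 2, 0⟩, ⟨0, 0, 0, 0, -4, 0, 0, 0⟩⟩,
  ⟨⟨4, 0, 0, 0, 0, 0, 0, 0⟩, ⟨0, -2, 2, 0, -2, 0, 2, 0⟩, ⟨0, 0, 0, 0, 4, 0, 0, 0⟩⟩,
  ⟨⟨4, 0, 0, 0, 0, 0, 0, 0⟩, ⟨0, -2, 2, 0, 2, 0, -2, 0⟩, ⟨0, 0, 0, 0, 0, 0, -4, 0⟩⟩,
  ⟨⟨4, 0, 0, 0, 0, 0, 0, 0⟩, ⟨0, -2, 2, 0, 2, 0, -2, 0⟩, ⟨0, 0, 0, 0, 0, 0, 4, 0⟩⟩,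
  ⟨⟨4, 0, 0, 0, 0, 0, 0, 0⟩, ⟨0, 0, -4, 0, 0, 0, 0, 0⟩, ⟨-2, 0, -2, 0, -2, 0, 0, -2⟩⟩,
  ⟨⟨4, 0, 0, 0, 0, 0, 0, 0⟩, ⟨0, 0, -4, 0, 0, 0, 0, 0⟩, ⟨-2, 0, 0, 2, 2, 0, -2, 0⟩⟩,
  ⟨⟨4, 0, 0, 0, 0, 0, 0, 0⟩, ⟨0, 0, -4, 0, 0, 0, 0, 0⟩, ⟨-2, 0, 2, 0, 0, -2, 2, 0⟩⟩,
  ⟨⟨4, 0, 0, 0, 0, 0, 0, 0⟩, ⟨0, 0, -4, 0, 0, 0, 0, 0⟩, ⟨0, -2, -2, 0, 2, 0, 2, 0⟩⟩,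
  ⟨⟨4, 0, 0, 0, 0, 0, 0, 0⟩, ⟨0, 0, -4, 0, 0, 0, 0, 0⟩, ⟨0, 2, 2, 0, -2, 0, -2, 0⟩⟩,
  ⟨⟨4, 0, 0, 0, 0, 0, 0, 0⟩, ⟨0, 0, -4, 0, 0, 0, 0, 0⟩, ⟨2, 0, -2, 0, 0, 2, -2, 0⟩⟩,
  ⟨⟨4, 0, 0, 0, 0, 0, 0, 0⟩, ⟨0, 0, -4, 0, 0, 0, 0, 0⟩, ⟨2, 0, 0, -2, -2, 0, 2, 0⟩⟩,
  ⟨⟨4, 0, 0, 0, 0, 0, 0, 0⟩, ⟨0, 0, -4, 0, 0, 0, 0, 0⟩, ⟨2, 0, 2, 0, 2, 0, 0, 2⟩⟩,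
  ⟨⟨4, 0, 0, 0, 0, 0, 0, 0⟩, ⟨0, 0, 0, 0, -4, 0, 0, 0⟩, ⟨-2, 0, -2, 0, 0, 2, 2, 0⟩⟩,
  ⟨⟨4, 0, 0, 0, 0, 0, 0, 0⟩, ⟨0, 0, 0, 0, -4, 0, 0, 0⟩, ⟨-2, 0, 0, -2, -2, 0, -2, 0⟩⟩,
  ⟨⟨4, 0, 0, 0, 0, 0, 0, 0⟩, ⟨0, 0, 0, 0, -4, 0, 0, 0⟩, ⟨-2, 0, 2, 0, 2, 0, 0, -2⟩⟩,
  ⟨⟨4, 0, 0, 0, 0, 0, 0, 0⟩, ⟨0, 0, 0, 0, -4, 0, 0, 0⟩, ⟨0, -2, 2, 0, -2, 0, 2, 0⟩⟩,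
  ⟨⟨4, 0, 0, 0, 0, 0, 0, 0⟩, ⟨0, 0, 0, 0, -4, 0, 0, 0⟩, ⟨0, 2, -2, 0, 2, 0, -2, 0⟩⟩,
  ⟨⟨4, 0, 0, 0, 0, 0, 0, 0⟩, ⟨0, 0, 0, 0, -4, 0, 0, 0⟩, ⟨2, 0, -2, 0, -2, 0, 0, 2⟩⟩,
  ⟨⟨4, 0, 0, 0, 0, 0, 0, 0⟩, ⟨0, 0, 0, 0, -4, 0, 0, 0⟩, ⟨2, 0, 0, 2, 2, 0, 2, 0⟩⟩,
  ⟨⟨4, 0, 0, 0, 0, 0, 0, 0⟩, ⟨0, 0, 0, 0, -4, 0, 0, 0⟩, ⟨2, 0, 2, 0, 0, -2, -2, 0⟩⟩,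
  ⟨⟨4, 0, 0, 0, 0, 0, 0, 0⟩, ⟨0, 0, 0, 0, 0, 0, -4, 0⟩, ⟨-2, 0, -2, 0, 0, -2, -2, 0⟩⟩,
  ⟨⟨4, 0, 0, 0, 0, 0, 0, 0⟩, ⟨0, 0, 0, 0, 0, 0, -4, 0⟩, ⟨-2, 0, 0, -2, 2, 0, 2, 0⟩⟩,
  ⟨⟨4, 0, 0, 0, 0, 0, 0, 0⟩, ⟨0, 0, 0, 0, 0, 0, -4, 0⟩, ⟨-2, 0, 2, 0, -2, 0, 0, 2⟩⟩,
  ⟨⟨4, 0, 0, 0, 0, 0, 0, 0⟩, ⟨0, 0, 0, 0, 0, 0, -4, 0⟩, ⟨0, -2, 2, 0, 2, 0, -2, 0⟩⟩,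
  ⟨⟨4, 0, 0, 0, 0, 0, 0, 0⟩, ⟨0, 0, 0, 0, 0, 0, -4, 0⟩, ⟨0, 2, -2, 0, -2, 0, 2, 0⟩⟩,
  ⟨⟨4, 0, 0, 0, 0, 0, 0, 0⟩, ⟨0, 0, 0, 0, 0, 0, -4, 0⟩, ⟨2, 0, -2, 0, 2, 0, 0, -2⟩⟩,
  ⟨⟨4, 0, 0, 0, 0, 0, 0, 0⟩, ⟨0, 0, 0, 0, 0, 0, -4, 0⟩, ⟨2, 0, 0, 2, -2, 0, -2, 0⟩⟩,
  ⟨⟨4, 0, 0, 0, 0, 0, 0, 0⟩, ⟨0, 0, 0, 0, 0, 0, -4, 0⟩, ⟨2, 0, 2, 0, 0, 2, 2, 0⟩⟩,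
  ⟨⟨4, 0, 0, 0, 0, 0, 0, 0⟩, ⟨0, 0, 0, 0, 0, 0, 4, 0⟩, ⟨-2, 0, -2, 0, 0, -2, -2, 0⟩⟩,
  ⟨⟨4, 0, 0, 0, 0, 0, 0, 0⟩, ⟨0, 0, 0, 0, 0, 0, 4, 0⟩, ⟨-2, 0, 0, -2, 2, 0, 2, 0⟩⟩,
  ⟨⟨4, 0, 0, 0, 0, 0, 0, 0⟩, ⟨0, 0, 0, 0, 0, 0, 4, 0⟩, ⟨-2, 0, 2, 0, -2, 0, 0, 2⟩⟩,
  ⟨⟨4, 0, 0, 0, 0, 0, 0, 0⟩, ⟨0, 0, 0, 0, 0, 0, 4, 0⟩, ⟨0, -2, 2, 0, 2, 0, -2, 0⟩⟩,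
  ⟨⟨4, 0, 0, 0, 0, 0, 0, 0⟩, ⟨0, 0, 0, 0, 0, 0, 4, 0⟩, ⟨0, 2, -2, 0, -2, 0, 2, 0⟩⟩,
  ⟨⟨4, 0, 0, 0, 0, 0, 0, 0⟩, ⟨0, 0, 0, 0, 0, 0, 4, 0⟩, ⟨2, 0, -2, 0, 2, 0, 0, -2⟩⟩,
  ⟨⟨4, 0, 0, 0, 0, 0, 0, 0⟩, ⟨0, 0, 0, 0, 0, 0, 4, 0⟩, ⟨2, 0, 0, 2, -2, 0, -2, 0⟩⟩,
  ⟨⟨4, 0, 0, 0, 0, 0, 0, 0⟩, ⟨0, 0, 0, 0, 0, 0, 4, 0⟩, ⟨2, 0, 2, 0, 0, 2, 2, 0⟩⟩,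
  ⟨⟨4, 0, 0, 0, 0, 0, 0, 0⟩, ⟨0, 0, 0, 0, 4, 0, 0, 0⟩, ⟨-2, 0, -2, 0, 0, 2, 2, 0⟩⟩,
  ⟨⟨4, 0, 0, 0, 0, 0, 0, 0⟩, ⟨0, 0, 0, 0, 4, 0, 0, 0⟩, ⟨-2, 0, 0, -2, -2, 0, -2, 0⟩⟩,
  ⟨⟨4, 0, 0, 0, 0, 0, 0, 0⟩, ⟨0, 0, 0, 0, 4, 0, 0, 0⟩, ⟨-2, 0, 2, 0, 2, 0, 0, -2⟩⟩,
  ⟨⟨4, 0, 0, 0, 0, 0, 0, 0⟩, ⟨0, 0, 0, 0, 4, 0, 0, 0⟩, ⟨0, -2, 2, 0, -2, 0, 2, 0⟩⟩,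
  ⟨⟨4, 0, 0, 0, 0, 0, 0, 0⟩, ⟨0, 0, 0, 0, 4, 0, 0, 0⟩, ⟨0, 2, -2, 0, 2, 0, -2, 0⟩⟩,
  ⟨⟨4, 0, 0, 0, 0, 0, 0, 0⟩, ⟨0, 0, 0, 0, 4, 0, 0, 0⟩, ⟨2, 0, -2, 0, -2, 0, 0, 2⟩⟩,
  ⟨⟨4, 0, 0, 0, 0, 0, 0, 0⟩, ⟨0, 0, 0, 0, 4, 0, 0, 0⟩, ⟨2, 0, 0, 2, 2, 0, 2, 0⟩⟩,
  ⟨⟨4, 0, 0, 0, 0, 0, 0, 0⟩, ⟨0, 0, 0, 0, 4, 0, 0, 0⟩, ⟨2, 0, 2, 0, 0, -2, -2, 0⟩⟩,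
  ⟨⟨4, 0, 0, 0, 0, 0, 0, 0⟩, ⟨0, 0, 4, 0, 0, 0, 0, 0⟩, ⟨-2, 0, -2, 0, -2, 0, 0, -2⟩⟩,
  ⟨⟨4, 0, 0, 0, 0, 0, 0, 0⟩, ⟨0, 0, 4, 0, 0, 0, 0, 0⟩, ⟨-2, 0, 0, 2, 2, 0, -2, 0⟩⟩,
  ⟨⟨4, 0, 0, 0, 0, 0, 0, 0⟩, ⟨0, 0, 4, 0, 0, 0, 0, 0⟩, ⟨-2, 0, 2, 0, 0, -2, 2, 0⟩⟩,
  ⟨⟨4, 0, 0, 0, 0, 0, 0, 0⟩, ⟨0, 0, 4, 0, 0, 0, 0, 0⟩, ⟨0, -2, -2, 0, 2, 0, 2, 0⟩⟩,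
  ⟨⟨4, 0, 0, 0, 0, 0, 0, 0⟩, ⟨0, 0, 4, 0, 0, 0, 0, 0⟩, ⟨0, 2, 2, 0, -2, 0, -2, 0⟩⟩,
  ⟨⟨4, 0, 0, 0, 0, 0, 0, 0⟩, ⟨0, 0, 4, 0, 0, 0, 0, 0⟩, ⟨2, 0, -2, 0, 0, 2, -2, 0⟩⟩,
  ⟨⟨4, 0, 0, 0, 0, 0, 0, 0⟩, ⟨0, 0, 4, 0, 0, 0, 0, 0⟩, ⟨2, 0, 0, -2, -2, 0, 2, 0⟩⟩,
  ⟨⟨4, 0, 0, 0, 0, 0, 0, 0⟩, ⟨0, 0, 4, 0, 0, 0, 0, 0⟩, ⟨2, 0, 2, 0, 2, 0, 0, 2⟩⟩,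
  ⟨⟨4, 0, 0, 0, 0, 0, 0, 0⟩, ⟨0, 2, -2, 0, -2, 0, 2, 0⟩, ⟨0, 0, 0, 0, 0, 0, -4, 0⟩⟩,
  ⟨⟨4, 0, 0, 0, 0, 0, 0, 0⟩, ⟨0, 2, -2, 0, -2, 0, 2, 0⟩, ⟨0, 0, 0, 0, 0, 0, 4, 0⟩⟩,
  ⟨⟨4, 0, 0, 0, 0, 0, 0, 0⟩, ⟨0, 2, -2, 0, 2, 0, -2, 0⟩, ⟨0, 0, 0, 0, -4, 0, 0, 0⟩⟩,
  ⟨⟨4, 0, 0, 0, 0, 0, 0, 0⟩, ⟨0, 2, -2, 0, 2, 0, -2, 0⟩, ⟨0, 0, 0, 0, 4, 0, 0, 0⟩⟩,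
  ⟨⟨4, 0, 0, 0, 0, 0, 0, 0⟩, ⟨0, 2, 2, 0, -2, 0, -2, 0⟩, ⟨0, 0, -4, 0, 0, 0, 0, 0⟩⟩,
  ⟨⟨4, 0, 0, 0, 0, 0, 0, 0⟩, ⟨0, 2, 2, 0, -2, 0, -2, 0⟩, ⟨0, 0, 4, 0, 0, 0, 0, 0⟩⟩,
  ⟨⟨4, 0, 0, 0, 0, 0, 0, 0⟩, ⟨0, 2, 2, 0, 2, 0, 2, 0⟩, ⟨-4, 0, 0, 0, 0, 0, 0, 0⟩⟩,
  ⟨⟨4, 0, 0, 0, 0, 0, 0, 0⟩, ⟨0, 2, 2, 0, 2, 0, 2, 0⟩, ⟨4, 0, 0, 0, 0, 0, 0, 0⟩⟩,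
  ⟨⟨4, 0, 0, 0, 0, 0, 0, 0⟩, ⟨1, -1, -1, 1, -1, 1, 1, -1⟩, ⟨-1, -1, -1, -1, 1, 1, -1, -1⟩⟩,
  ⟨⟨4, 0, 0, 0, 0, 0, 0, 0⟩, ⟨1, -1, -1, 1, -1, 1, 1, -1⟩, ⟨1, 1, 1, 1, -1, -1, 1, 1⟩⟩,
  ⟨⟨4, 0, 0, 0, 0, 0, 0, 0⟩, ⟨1, -1, -1, 1, 1, -1, -1, 1⟩, ⟨-1, -1, 1, 1, -1, -1, -1, -1⟩⟩,
  ⟨⟨4, 0, 0, 0, 0, 0, 0, 0⟩, ⟨1, -1, -1, 1, 1, -1, -1, 1⟩, ⟨1, 1, -1, -1, 1, 1, 1, 1⟩⟩,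
  ⟨⟨4, 0, 0, 0, 0, 0, 0, 0⟩, ⟨1, -1, 1, -1, -1, 1, -1, 1⟩, ⟨-1, -1, -1, -1, -1, -1, 1, 1⟩⟩,
  ⟨⟨4, 0, 0, 0, 0, 0, 0, 0⟩, ⟨1, -1, 1, -1, -1, 1, -1, 1⟩, ⟨1, 1, 1, 1, 1, 1, -1, -1⟩⟩,
  ⟨⟨4, 0, 0, 0, 0, 0, 0, 0⟩, ⟨1, -1, 1, -1, 1, -1, 1, -1⟩, ⟨-1, -1, 1, 1, 1, 1, 1, 1⟩⟩,
  ⟨⟨4, 0, 0, 0, 0, 0, 0, 0⟩, ⟨1, -1, 1, -1, 1, -1, 1, -1⟩, ⟨1, 1, -1, -1, -1, -1, -1, -1⟩⟩,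
  ⟨⟨4, 0, 0, 0, 0, 0, 0, 0⟩, ⟨1, 1, -1, -1, -1, -1, -1, -1⟩, ⟨-1, 1, -1, 1, -1, 1, -1, 1⟩⟩,
  ⟨⟨4, 0, 0, 0, 0, 0, 0, 0⟩, ⟨1, 1, -1, -1, -1, -1, -1, -1⟩, ⟨1, -1, 1, -1, 1, -1, 1, -1⟩⟩,
  ⟨⟨4, 0, 0, 0, 0, 0, 0, 0⟩, ⟨1, 1, -1, -1, 1, 1, 1, 1⟩, ⟨-1, 1, 1, -1, -1, 1, 1, -1⟩⟩,
  ⟨⟨4, 0, 0, 0, 0, 0, 0, 0⟩, ⟨1, 1, -1, -1, 1, 1, 1, 1⟩, ⟨1, -1, -1, 1, 1, -1, -1, 1⟩⟩,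
  ⟨⟨4, 0, 0, 0, 0, 0, 0, 0⟩, ⟨1, 1, 1, 1, -1, -1, 1, 1⟩, ⟨-1, 1, 1, -1, 1, -1, -1, 1⟩⟩,
  ⟨⟨4, 0, 0, 0, 0, 0, 0, 0⟩, ⟨1, 1, 1, 1, -1, -1, 1, 1⟩, ⟨1, -1, -1, 1, -1, 1, 1, -1⟩⟩,
  ⟨⟨4, 0, 0, 0, 0, 0, 0, 0⟩, ⟨1, 1, 1, 1, 1, 1, -1, -1⟩, ⟨-1, 1, -1, 1, 1, -1, 1, -1⟩⟩,
  ⟨⟨4, 0, 0, 0, 0, 0, 0, 0⟩, ⟨1, 1, 1, 1, 1, 1, -1, -1⟩, ⟨1, -1, 1, -1, -1, 1, -1, 1⟩⟩,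
  ⟨⟨4, 0, 0, 0, 0, 0, 0, 0⟩, ⟨2, 0, -2, 0, -2, 0, 0, 2⟩, ⟨0, 0, 0, 0, -4, 0, 0, 0⟩⟩,
  ⟨⟨4, 0, 0, 0, 0, 0, 0, 0⟩, ⟨2, 0, -2, 0, -2, 0, 0, 2⟩, ⟨0, 0, 0, 0, 4, 0, 0, 0⟩⟩,
  ⟨⟨4, 0, 0, 0, 0, 0, 0, 0⟩, ⟨2, 0, -2, 0, 0, -2, 2, 0⟩, ⟨-4, 0, 0, 0, 0, 0, 0, 0⟩⟩,
  ⟨⟨4, 0, 0, 0, 0, 0, 0, 0⟩, ⟨2, 0, -2, 0, 0, -2, 2, 0⟩, ⟨4, 0, 0, 0, 0, 0, 0, 0⟩⟩,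
  ⟨⟨4, 0, 0, 0, 0, 0, 0, 0⟩, ⟨2, 0, -2, 0, 0, 2, -2, 0⟩, ⟨0, 0, -4, 0, 0, 0, 0, 0⟩⟩,
  ⟨⟨4, 0, 0, 0, 0, 0, 0, 0⟩, ⟨2, 0, -2, 0, 0, 2, -2, 0⟩, ⟨0, 0, 4, 0, 0, 0, 0, 0⟩⟩,
  ⟨⟨4, 0, 0, 0, 0, 0, 0, 0⟩, ⟨2, 0, -2, 0, 2, 0, 0, -2⟩, ⟨0, 0, 0, 0, 0, 0, -4, 0⟩⟩,
  ⟨⟨4, 0, 0, 0, 0, 0, 0, 0⟩, ⟨2, 0, -2, 0, 2, 0, 0, -2⟩, ⟨0, 0, 0, 0, 0, 0, 4, 0⟩⟩,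
  ⟨⟨4, 0, 0, 0, 0, 0, 0, 0⟩, ⟨2, 0, 0, -2, -2, 0, 2, 0⟩, ⟨0, 0, -4, 0, 0, 0, 0, 0⟩⟩,
  ⟨⟨4, 0, 0, 0, 0, 0, 0, 0⟩, ⟨2, 0, 0, -2, -2, 0, 2, 0⟩, ⟨0, 0, 4, 0, 0, 0, 0, 0⟩⟩,
  ⟨⟨4, 0, 0, 0, 0, 0, 0, 0⟩, ⟨2, 0, 0, -2, 2, 0, -2, 0⟩, ⟨-4, 0, 0, 0, 0, 0, 0, 0⟩⟩,
  ⟨⟨4, 0, 0, 0, 0, 0, 0, 0⟩, ⟨2, 0, 0, -2, 2, 0, -2, 0⟩, ⟨4, 0, 0, 0, 0, 0, 0, 0⟩⟩,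
  ⟨⟨4, 0, 0, 0, 0, 0, 0, 0⟩, ⟨2, 0, 0, 2, -2, 0, -2, 0⟩, ⟨0, 0, 0, 0, 0, 0, -4, 0⟩⟩,
  ⟨⟨4, 0, 0, 0, 0, 0, 0, 0⟩, ⟨2, 0, 0, 2, -2, 0, -2, 0⟩, ⟨0, 0, 0, 0, 0, 0, 4, 0⟩⟩,
  ⟨⟨4, 0, 0, 0, 0, 0, 0, 0⟩, ⟨2, 0, 0, 2, 2, 0, 2, 0⟩, ⟨0, 0, 0, 0, -4, 0, 0, 0⟩⟩,
  ⟨⟨4, 0, 0, 0, 0, 0, 0, 0⟩, ⟨2, 0, 0, 2, 2, 0, 2, 0⟩, ⟨0, 0, 0, 0, 4, 0, 0, 0⟩⟩,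
  ⟨⟨4, 0, 0, 0, 0, 0, 0, 0⟩, ⟨2, 0, 2, 0, -2, 0, 0, -2⟩, ⟨-4, 0, 0, 0, 0, 0, 0, 0⟩⟩,
  ⟨⟨4, 0, 0, 0, 0, 0, 0, 0⟩, ⟨2, 0, 2, 0, -2, 0, 0, -2⟩, ⟨4, 0, 0, 0, 0, 0, 0, 0⟩⟩,
  ⟨⟨4, 0, 0, 0, 0, 0, 0, 0⟩, ⟨2, 0, 2, 0, 0, -2, -2, 0⟩, ⟨0, 0, 0, 0, -4, 0, 0, 0⟩⟩,
  ⟨⟨4, 0, 0, 0, 0, 0, 0, 0⟩, ⟨2, 0, 2, 0, 0, -2, -2, 0⟩, ⟨0, 0, 0, 0, 4, 0, 0, 0⟩⟩,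
  ⟨⟨4, 0, 0, 0, 0, 0, 0, 0⟩, ⟨2, 0, 2, 0, 0, 2, 2, 0⟩, ⟨0, 0, 0, 0, 0, 0, -4, 0⟩⟩,
  ⟨⟨4, 0, 0, 0, 0, 0, 0, 0⟩, ⟨2, 0, 2, 0, 0, 2, 2, 0⟩, ⟨0, 0, 0, 0, 0, 0, 4, 0⟩⟩,
  ⟨⟨4, 0, 0, 0, 0, 0, 0, 0⟩, ⟨2, 0, 2, 0, 2, 0, 0, 2⟩, ⟨0, 0, -4, 0, 0, 0, 0, 0⟩⟩,
  ⟨⟨4, 0, 0, 0, 0, 0, 0, 0⟩, ⟨2, 0, 2, 0, 2, 0, 0, 2⟩, ⟨0, 0, 4, 0, 0, 0, 0, 0⟩⟩,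
  ⟨⟨4, 0, 0, 0, 0, 0, 0, 0⟩, ⟨4, 0, 0, 0, 0, 0, 0, 0⟩, ⟨-2, 0, -2, 0, 2, 0, 0, 2⟩⟩,
  ⟨⟨4, 0, 0, 0, 0, 0, 0, 0⟩, ⟨4, 0, 0, 0, 0, 0, 0, 0⟩, ⟨-2, 0, 0, 2, -2, 0, 2, 0⟩⟩,
  ⟨⟨4, 0, 0, 0, 0, 0, 0, 0⟩, ⟨4, 0, 0, 0, 0, 0, 0, 0⟩, ⟨-2, 0, 2, 0, 0, 2, -2, 0⟩⟩,
  ⟨⟨4, 0, 0, 0, 0, 0, 0, 0⟩, ⟨4, 0, 0, 0, 0, 0, 0, 0⟩, ⟨0, -2, -2, 0, -2, 0, -2, 0⟩⟩,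
  ⟨⟨4, 0, 0, 0, 0, 0, 0, 0⟩, ⟨4, 0, 0, 0, 0, 0, 0, 0⟩, ⟨0, 2, 2, 0, 2, 0, 2, 0⟩⟩,
  ⟨⟨4, 0, 0, 0, 0, 0, 0, 0⟩, ⟨4, 0, 0, 0, 0, 0, 0, 0⟩, ⟨2, 0, -2, 0, 0, -2, 2, 0⟩⟩,
  ⟨⟨4, 0, 0, 0, 0, 0, 0, 0⟩, ⟨4, 0, 0, 0, 0, 0, 0, 0⟩, ⟨2, 0, 0, -2, 2, 0, -2, 0⟩⟩,
  ⟨⟨4, 0, 0, 0, 0, 0, 0, 0⟩, ⟨4, 0, 0, 0, 0, 0, 0, 0⟩, ⟨2, 0, 2, 0, -2, 0, 0, -2⟩⟩,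
  ⟨⟨-1, 1, -1, 1, -1, 1, -1, 1⟩, ⟨1, 1, -1, -1, -1, -1, -1, -1⟩, ⟨4, 0, 0, 0, 0, 0, 0, 0⟩⟩,
  ⟨⟨1, -1, 1, -1, 1, -1, 1, -1⟩, ⟨-1, -1, 1, 1, 1, 1, 1, 1⟩, ⟨4, 0, 0, 0, 0, 0, 0, 0⟩⟩,
  ⟨⟨-1, 1, 1, -1, 1, -1, -1, 1⟩, ⟨-1, -1, -1, -1, 1, 1, -1, -1⟩, ⟨4, 0, 0, 0, 0, 0, 0, 0⟩⟩,
  ⟨⟨1, -1, -1, 1, -1, 1, 1, -1⟩, ⟨1, 1, 1, 1, -1, -1, 1, 1⟩, ⟨4, 0, 0, 0, 0, 0, 0, 0⟩⟩,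
  ⟨⟨-1, 1, -1, 1, 1, -1, 1, -1⟩, ⟨-1, -1, -1, -1, -1, -1, 1, 1⟩, ⟨4, 0, 0, 0, 0, 0, 0, 0⟩⟩,
  ⟨⟨1, -1, 1, -1, -1, 1, -1, 1⟩, ⟨1, 1, 1, 1, 1, 1, -1, -1⟩, ⟨4, 0, 0, 0, 0, 0, 0, 0⟩⟩,
  ⟨⟨-1, 1, 1, -1, -1, 1, 1, -1⟩, ⟨-1, -1, 1, 1, -1, -1, -1, -1⟩, ⟨4, 0, 0, 0, 0, 0, 0, 0⟩⟩,
  ⟨⟨1, -1, -1, 1, 1, -1, -1, 1⟩, ⟨1, 1, -1, -1, 1, 1, 1, 1⟩, ⟨4, 0, 0, 0, 0, 0, 0, 0⟩⟩,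
  ⟨⟨-1, 1, 1, -1, 1, -1, -1, 1⟩, ⟨4, 0, 0, 0, 0, 0, 0, 0⟩, ⟨-1, -1, -1, -1, 1, 1, -1, -1⟩⟩,
  ⟨⟨-1, 1, 1, -1, 1, -1, -1, 1⟩, ⟨4, 0, 0, 0, 0, 0, 0, 0⟩, ⟨1, 1, 1, 1, -1, -1, 1, 1⟩⟩,
  ⟨⟨-1, 1, 1, -1, -1, 1, 1, -1⟩, ⟨4, 0, 0, 0, 0, 0, 0, 0⟩, ⟨-1, -1, 1, 1, -1, -1, -1, -1⟩⟩,
  ⟨⟨-1, 1, 1, -1, -1, 1, 1, -1⟩, ⟨4, 0, 0, 0, 0, 0, 0, 0⟩, ⟨1, 1, -1, -1, 1, 1, 1, 1⟩⟩,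
  ⟨⟨-1, 1, -1, 1, 1, -1, 1, -1⟩, ⟨4, 0, 0, 0, 0, 0, 0, 0⟩, ⟨-1, -1, -1, -1, -1, -1, 1, 1⟩⟩,
  ⟨⟨-1, 1, -1, 1, 1, -1, 1, -1⟩, ⟨4, 0, 0, 0, 0, 0, 0, 0⟩, ⟨1, 1, 1, 1, 1, 1, -1, -1⟩⟩,
  ⟨⟨-1, 1, -1, 1, -1, 1, -1, 1⟩, ⟨4, 0, 0, 0, 0, 0, 0, 0⟩, ⟨1, 1, -1, -1, -1, -1, -1, -1⟩⟩,
  ⟨⟨-1, 1, -1, 1, -1, 1, -1, 1⟩, ⟨4, 0, 0, 0, 0, 0, 0, 0⟩, ⟨-1, -1, 1, 1, 1, 1, 1, 1⟩⟩,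
  ⟨⟨1, -1, 1, -1, 1, -1, 1, -1⟩, ⟨4, 0, 0, 0, 0, 0, 0, 0⟩, ⟨-1, -1, 1, 1, 1, 1, 1, 1⟩⟩,
  ⟨⟨1, -1, 1, -1, 1, -1, 1, -1⟩, ⟨4, 0, 0, 0, 0, 0, 0, 0⟩, ⟨1, 1, -1, -1, -1, -1, -1, -1⟩⟩,
  ⟨⟨1, -1, 1, -1, -1, 1, -1, 1⟩, ⟨4, 0, 0, 0, 0, 0, 0, 0⟩, ⟨1, 1, 1, 1, 1, 1, -1, -1⟩⟩,
  ⟨⟨1, -1, 1, -1, -1, 1, -1, 1⟩, ⟨4, 0, 0, 0, 0, 0, 0, 0⟩, ⟨-1, -1, -1, -1, -1, -1, 1, 1⟩⟩,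
  ⟨⟨1, -1, -1, 1, 1, -1, -1, 1⟩, ⟨4, 0, 0, 0, 0, 0, 0, 0⟩, ⟨1, 1, -1, -1, 1, 1, 1, 1⟩⟩,
  ⟨⟨1, -1, -1, 1, 1, -1, -1, 1⟩, ⟨4, 0, 0, 0, 0, 0, 0, 0⟩, ⟨-1, -1, 1, 1, -1, -1, -1, -1⟩⟩,
  ⟨⟨1, -1, -1, 1, -1, 1, 1, -1⟩, ⟨4, 0, 0, 0, 0, 0, 0, 0⟩, ⟨1, 1, 1, 1, -1, -1, 1, 1⟩⟩,
  ⟨⟨1, -1, -1, 1, -1, 1, 1, -1⟩, ⟨4, 0, 0, 0, 0, 0, 0, 0⟩, ⟨-1, -1, -1, -1, 1, 1, -1, -1⟩⟩,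
  ⟨⟨-1, 1, 1, -1, -1, 1, 1, -1⟩, ⟨1, 1, -1, -1, 1, 1, 1, 1⟩, ⟨4, 0, 0, 0, 0, 0, 0, 0⟩⟩,
  ⟨⟨1, -1, -1, 1, 1, -1, -1, 1⟩, ⟨-1, -1, 1, 1, -1, -1, -1, -1⟩, ⟨4, 0, 0, 0, 0, 0, 0, 0⟩⟩,
  ⟨⟨-1, 1, -1, 1, 1, -1, 1, -1⟩, ⟨1, 1, 1, 1, 1, 1, -1, -1⟩, ⟨4, 0, 0, 0, 0, 0, 0, 0⟩⟩,
  ⟨⟨1, -1, 1, -1, -1, 1, -1, 1⟩, ⟨-1, -1, -1, -1, -1, -1, 1, 1⟩, ⟨4, 0, 0, 0, 0, 0, 0, 0⟩⟩,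
  ⟨⟨-1, 1, 1, -1, 1, -1, -1, 1⟩, ⟨1, 1, 1, 1, -1, -1, 1, 1⟩, ⟨4, 0, 0, 0, 0, 0, 0, 0⟩⟩,
  ⟨⟨1, -1, -1, 1, -1, 1, 1, -1⟩, ⟨-1, -1, -1, -1, 1, 1, -1, -1⟩, ⟨4, 0, 0, 0, 0, 0, 0, 0⟩⟩,
  ⟨⟨-1, 1, -1, 1, -1, 1, -1, 1⟩, ⟨-1, -1, 1, 1, 1, 1, 1, 1⟩, ⟨4, 0, 0, 0, 0, 0, 0, 0⟩⟩,
  ⟨⟨1, -1, 1, -1, 1, -1, 1, -1⟩, ⟨1, 1, -1, -1, -1, -1, -1, -1⟩, ⟨4, 0, 0, 0, 0, 0, 0, 0⟩⟩,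
  ⟨⟨-1, -1, 1, 1, -1, -1, -1, -1⟩, ⟨-1, 1, 1, -1, -1, 1, 1, -1⟩, ⟨4, 0, 0, 0, 0, 0, 0, 0⟩⟩,
  ⟨⟨1, 1, -1, -1, 1, 1, 1, 1⟩, ⟨1, -1, -1, 1, 1, -1, -1, 1⟩, ⟨4, 0, 0, 0, 0, 0, 0, 0⟩⟩,
  ⟨⟨-1, -1, -1, -1, -1, -1, 1, 1⟩, ⟨-1, 1, -1, 1, 1, -1, 1, -1⟩, ⟨4, 0, 0, 0, 0, 0, 0, 0⟩⟩,
  ⟨⟨1, 1, 1, 1, 1, 1, -1, -1⟩, ⟨1, -1, 1, -1, -1, 1, -1, 1⟩, ⟨4, 0, 0, 0, 0, 0, 0, 0⟩⟩,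
  ⟨⟨-1, -1, -1, -1, 1, 1, -1, -1⟩, ⟨-1, 1, 1, -1, 1, -1, -1, 1⟩, ⟨4, 0, 0, 0, 0, 0, 0, 0⟩⟩,
  ⟨⟨1, 1, 1, 1, -1, -1, 1, 1⟩, ⟨1, -1, -1, 1, -1, 1, 1, -1⟩, ⟨4, 0, 0, 0, 0, 0, 0, 0⟩⟩,
  ⟨⟨-1, -1, 1, 1, 1, 1, 1, 1⟩, ⟨1, -1, 1, -1, 1, -1, 1, -1⟩, ⟨4, 0, 0, 0, 0, 0, 0, 0⟩⟩,
  ⟨⟨1, 1, -1, -1, -1, -1, -1, -1⟩, ⟨-1, 1, -1, 1, -1, 1, -1, 1⟩, ⟨4, 0, 0, 0, 0, 0, 0, 0⟩⟩,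
  ⟨⟨-1, -1, 1, 1, 1, 1, 1, 1⟩, ⟨4, 0, 0, 0, 0, 0, 0, 0⟩, ⟨1, -1, 1, -1, 1, -1, 1, -1⟩⟩,
  ⟨⟨-1, -1, 1, 1, 1, 1, 1, 1⟩, ⟨4, 0, 0, 0, 0, 0, 0, 0⟩, ⟨-1, 1, -1, 1, -1, 1, -1, 1⟩⟩,
  ⟨⟨-1, -1, 1, 1, -1, -1, -1, -1⟩, ⟨4, 0, 0, 0, 0, 0, 0, 0⟩, ⟨-1, 1, 1, -1, -1, 1, 1, -1⟩⟩,
  ⟨⟨-1, -1, 1, 1, -1, -1, -1, -1⟩, ⟨4, 0, 0, 0, 0, 0, 0, 0⟩, ⟨1, -1, -1, 1, 1, -1, -1, 1⟩⟩,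
  ⟨⟨-1, -1, -1, -1, 1, 1, -1, -1⟩, ⟨4, 0, 0, 0, 0, 0, 0, 0⟩, ⟨-1, 1, 1, -1, 1, -1, -1, 1⟩⟩,
  ⟨⟨-1, -1, -1, -1, 1, 1, -1, -1⟩, ⟨4, 0, 0, 0, 0, 0, 0, 0⟩, ⟨1, -1, -1, 1, -1, 1, 1, -1⟩⟩,
  ⟨⟨-1, -1, -1, -1, -1, -1, 1, 1⟩, ⟨4, 0, 0, 0, 0, 0, 0, 0⟩, ⟨-1, 1, -1, 1, 1, -1, 1, -1⟩⟩,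
  ⟨⟨-1, -1, -1, -1, -1, -1, 1, 1⟩, ⟨4, 0, 0, 0, 0, 0, 0, 0⟩, ⟨1, -1, 1, -1, -1, 1, -1, 1⟩⟩,
  ⟨⟨1, 1, 1, 1, 1, 1, -1, -1⟩, ⟨4, 0, 0, 0, 0, 0, 0, 0⟩, ⟨1, -1, 1, -1, -1, 1, -1, 1⟩⟩,
  ⟨⟨1, 1, 1, 1, 1, 1, -1, -1⟩, ⟨4, 0, 0, 0, 0, 0, 0, 0⟩, ⟨-1, 1, -1, 1, 1, -1, 1, -1⟩⟩,
  ⟨⟨1, 1, 1, 1, -1, -1, 1, 1⟩, ⟨4, 0, 0, 0, 0, 0, 0, 0⟩, ⟨1, -1, -1, 1, -1, 1, 1, -1⟩⟩,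
  ⟨⟨1, 1, 1, 1, -1, -1, 1, 1⟩, ⟨4, 0, 0, 0, 0, 0, 0, 0⟩, ⟨-1, 1, 1, -1, 1, -1, -1, 1⟩⟩,
  ⟨⟨1, 1, -1, -1, 1, 1, 1, 1⟩, ⟨4, 0, 0, 0, 0, 0, 0, 0⟩, ⟨1, -1, -1, 1, 1, -1, -1, 1⟩⟩,
  ⟨⟨1, 1, -1, -1, 1, 1, 1, 1⟩, ⟨4, 0, 0, 0, 0, 0, 0, 0⟩, ⟨-1, 1, 1, -1, -1, 1, 1, -1⟩⟩,
  ⟨⟨1, 1, -1, -1, -1, -1, -1, -1⟩, ⟨4, 0, 0, 0, 0, 0, 0, 0⟩, ⟨-1, 1, -1, 1, -1, 1, -1, 1⟩⟩,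
  ⟨⟨1, 1, -1, -1, -1, -1, -1, -1⟩, ⟨4, 0, 0, 0, 0, 0, 0, 0⟩, ⟨1, -1, 1, -1, 1, -1, 1, -1⟩⟩,
  ⟨⟨-1, -1, 1, 1, 1, 1, 1, 1⟩, ⟨-1, 1, -1, 1, -1, 1, -1, 1⟩, ⟨4, 0, 0, 0, 0, 0, 0, 0⟩⟩,
  ⟨⟨1, 1, -1, -1, -1, -1, -1, -1⟩, ⟨1, -1, 1, -1, 1, -1, 1, -1⟩, ⟨4, 0, 0, 0, 0, 0, 0, 0⟩⟩,
  ⟨⟨-1, -1, -1, -1, 1, 1, -1, -1⟩, ⟨1, -1, -1, 1, -1, 1, 1, -1⟩, ⟨4, 0, 0, 0, 0, 0, 0, 0⟩⟩,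
  ⟨⟨1, 1, 1, 1, -1, -1, 1, 1⟩, ⟨-1, 1, 1, -1, 1, -1, -1, 1⟩, ⟨4, 0, 0, 0, 0, 0, 0, 0⟩⟩,
  ⟨⟨-1, -1, -1, -1, -1, -1, 1, 1⟩, ⟨1, -1, 1, -1, -1, 1, -1, 1⟩, ⟨4, 0, 0, 0, 0, 0, 0, 0⟩⟩,
  ⟨⟨1, 1, 1, 1, 1, 1, -1, -1⟩, ⟨-1, 1, -1, 1, 1, -1, 1, -1⟩, ⟨4, 0, 0, 0, 0, 0, 0, 0⟩⟩,
  ⟨⟨-1, -1, 1, 1, -1, -1, -1, -1⟩, ⟨1, -1, -1, 1, 1, -1, -1, 1⟩, ⟨4, 0, 0, 0, 0, 0, 0, 0⟩⟩,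
  ⟨⟨1, 1, -1, -1, 1, 1, 1, 1⟩, ⟨-1, 1, 1, -1, -1, 1, 1, -1⟩, ⟨4, 0, 0, 0, 0, 0, 0, 0⟩⟩,
  ⟨⟨0, -2, 2, 0, 2, 0, 2, 0⟩, ⟨0, 2, -2, 0, -2, 0, -2, 0⟩, ⟨0, 0, 0, 0, 0, 0, 0, 0⟩⟩,
  ⟨⟨-2, 0, 2, 0, 2, 0, 0, -2⟩, ⟨4, 0, 0, 0, 0, 0, 0, 0⟩, ⟨0, 0, 0, 0, -4, 0, 0, 0⟩⟩,
  ⟨⟨-2, 0, 2, 0, 2, 0, 0, -2⟩, ⟨4, 0, 0, 0, 0, 0, 0, 0⟩, ⟨0, 0, 0, 0, 4, 0, 0, 0⟩⟩,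
  ⟨⟨-2, 0, 2, 0, 0, 2, -2, 0⟩, ⟨4, 0, 0, 0, 0, 0, 0, 0⟩, ⟨4, 0, 0, 0, 0, 0, 0, 0⟩⟩,
  ⟨⟨-2, 0, 2, 0, 0, 2, -2, 0⟩, ⟨4, 0, 0, 0, 0, 0, 0, 0⟩, ⟨-4, 0, 0, 0, 0, 0, 0, 0⟩⟩,
  ⟨⟨-2, 0, 2, 0, 0, -2, 2, 0⟩, ⟨4, 0, 0, 0, 0, 0, 0, 0⟩, ⟨0, 0, -4, 0, 0, 0, 0, 0⟩⟩,
  ⟨⟨-2, 0, 2, 0, 0, -2, 2, 0⟩, ⟨4, 0, 0, 0, 0, 0, 0, 0⟩, ⟨0, 0, 4, 0, 0, 0, 0, 0⟩⟩,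
  ⟨⟨-2, 0, 2, 0, -2, 0, 0, 2⟩, ⟨4, 0, 0, 0, 0, 0, 0, 0⟩, ⟨0, 0, 0, 0, 0, 0, -4, 0⟩⟩,
  ⟨⟨-2, 0, 2, 0, -2, 0, 0, 2⟩, ⟨4, 0, 0, 0, 0, 0, 0, 0⟩, ⟨0, 0, 0, 0, 0, 0, 4, 0⟩⟩,
  ⟨⟨-2, 0, 0, 2, 2, 0, -2, 0⟩, ⟨4, 0, 0, 0, 0, 0, 0, 0⟩, ⟨0, 0, -4, 0, 0, 0, 0, 0⟩⟩,
  ⟨⟨-2, 0, 0, 2, 2, 0, -2, 0⟩, ⟨4, 0, 0, 0, 0, 0, 0, 0⟩, ⟨0, 0, 4, 0, 0, 0, 0, 0⟩⟩,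
  ⟨⟨-2, 0, 0, 2, -2, 0, 2, 0⟩, ⟨4, 0, 0, 0, 0, 0, 0, 0⟩, ⟨4, 0, 0, 0, 0, 0, 0, 0⟩⟩,
  ⟨⟨-2, 0, 0, 2, -2, 0, 2, 0⟩, ⟨4, 0, 0, 0, 0, 0, 0, 0⟩, ⟨-4, 0, 0, 0, 0, 0, 0, 0⟩⟩,
  ⟨⟨-2, 0, 0, -2, 2, 0, 2, 0⟩, ⟨4, 0, 0, 0, 0, 0, 0, 0⟩, ⟨0, 0, 0, 0, 0, 0, -4, 0⟩⟩,
  ⟨⟨-2, 0, 0, -2, 2, 0, 2, 0⟩, ⟨4, 0, 0, 0, 0, 0, 0, 0⟩, ⟨0, 0, 0, 0, 0, 0, 4, 0⟩⟩,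
  ⟨⟨-2, 0, 0, -2, -2, 0, -2, 0⟩, ⟨4, 0, 0, 0, 0, 0, 0, 0⟩, ⟨0, 0, 0, 0, 4, 0, 0, 0⟩⟩,
  ⟨⟨-2, 0, 0, -2, -2, 0, -2, 0⟩, ⟨4, 0, 0, 0, 0, 0, 0, 0⟩, ⟨0, 0, 0, 0, -4, 0, 0, 0⟩⟩,
  ⟨⟨-2, 0, -2, 0, 2, 0, 0, 2⟩, ⟨4, 0, 0, 0, 0, 0, 0, 0⟩, ⟨4, 0, 0, 0, 0, 0, 0, 0⟩⟩,
  ⟨⟨-2, 0, -2, 0, 2, 0, 0, 2⟩, ⟨4, 0, 0, 0, 0, 0, 0, 0⟩, ⟨-4, 0, 0, 0, 0, 0, 0, 0⟩⟩,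
  ⟨⟨-2, 0, -2, 0, 0, 2, 2, 0⟩, ⟨4, 0, 0, 0, 0, 0, 0, 0⟩, ⟨0, 0, 0, 0, -4, 0, 0, 0⟩⟩,
  ⟨⟨-2, 0, -2, 0, 0, 2, 2, 0⟩, ⟨4, 0, 0, 0, 0, 0, 0, 0⟩, ⟨0, 0, 0, 0, 4, 0, 0, 0⟩⟩,
  ⟨⟨-2, 0, -2, 0, 0, -2, -2, 0⟩, ⟨4, 0, 0, 0, 0, 0, 0, 0⟩, ⟨0, 0, 0, 0, 0, 0, 4, 0⟩⟩,
  ⟨⟨-2, 0, -2, 0, 0, -2, -2, 0⟩, ⟨4, 0, 0, 0, 0, 0, 0, 0⟩, ⟨0, 0, 0, 0, 0, 0, -4, 0⟩⟩,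
  ⟨⟨-2, 0, -2, 0, -2, 0, 0, -2⟩, ⟨4, 0, 0, 0, 0, 0, 0, 0⟩, ⟨0, 0, 4, 0, 0, 0, 0, 0⟩⟩,
  ⟨⟨-2, 0, -2, 0, -2, 0, 0, -2⟩, ⟨4, 0, 0, 0, 0, 0, 0, 0⟩, ⟨0, 0, -4, 0, 0, 0, 0, 0⟩⟩,
  ⟨⟨0, -2, 2, 0, 2, 0, -2, 0⟩, ⟨4, 0, 0, 0, 0, 0, 0, 0⟩, ⟨0, 0, 0, 0, 0, 0, 4, 0⟩⟩,
  ⟨⟨0, -2, 2, 0, 2, 0, -2, 0⟩, ⟨4, 0, 0, 0, 0, 0, 0, 0⟩, ⟨0, 0, 0, 0, 0, 0, -4, 0⟩⟩,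
  ⟨⟨0, -2, 2, 0, -2, 0, 2, 0⟩, ⟨4, 0, 0, 0, 0, 0, 0, 0⟩, ⟨0, 0, 0, 0, 4, 0, 0, 0⟩⟩,
  ⟨⟨0, -2, 2, 0, -2, 0, 2, 0⟩, ⟨4, 0, 0, 0, 0, 0, 0, 0⟩, ⟨0, 0, 0, 0, -4, 0, 0, 0⟩⟩,
  ⟨⟨0, -2, -2, 0, 2, 0, 2, 0⟩, ⟨4, 0, 0, 0, 0, 0, 0, 0⟩, ⟨0, 0, 4, 0, 0, 0, 0, 0⟩⟩,
  ⟨⟨0, -2, -2, 0, 2, 0, 2, 0⟩, ⟨4, 0, 0, 0, 0, 0, 0, 0⟩, ⟨0, 0, -4, 0, 0, 0, 0, 0⟩⟩,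
  ⟨⟨0, -2, -2, 0, -2, 0, -2, 0⟩, ⟨4, 0, 0, 0, 0, 0, 0, 0⟩, ⟨4, 0, 0, 0, 0, 0, 0, 0⟩⟩,
  ⟨⟨0, -2, -2, 0, -2, 0, -2, 0⟩, ⟨4, 0, 0, 0, 0, 0, 0, 0⟩, ⟨-4, 0, 0, 0, 0, 0, 0, 0⟩⟩,
  ⟨⟨0, -2, 2, 0, 2, 0, 2, 0⟩, ⟨2, 0, 0, 2, -2, 0, 2, 0⟩, ⟨0, 0, 0, 0, 0, 0, 0, 0⟩⟩,
  ⟨⟨0, -2, 2, 0, 2, 0, 2, 0⟩, ⟨2, 0, 2, 0, 0, 2, -2, 0⟩, ⟨0, 0, 0, 0, 0, 0, 0, 0⟩⟩,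
  ⟨⟨0, -2, 2, 0, 2, 0, 2, 0⟩, ⟨2, 0, -2, 0, 2, 0, 0, 2⟩, ⟨0, 0, 0, 0, 0, 0, 0, 0⟩⟩,
  ⟨⟨0, -2, 2, 0, 2, 0, 2, 0⟩, ⟨0, 0, 0, 0, 0, 0, 0, 0⟩, ⟨0, 2, -2, 0, -2, 0, -2, 0⟩⟩,
  ⟨⟨0, -2, 2, 0, 2, 0, 2, 0⟩, ⟨0, 0, 0, 0, 0, 0, 0, 0⟩, ⟨2, 0, 0, 2, -2, 0, 2, 0⟩⟩,
  ⟨⟨0, -2, 2, 0, 2, 0, 2, 0⟩, ⟨0, 0, 0, 0, 0, 0, 0, 0⟩, ⟨2, 0, 2, 0, 0, 2, -2, 0⟩⟩,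
  ⟨⟨0, -2, 2, 0, 2, 0, 2, 0⟩, ⟨0, 0, 0, 0, 0, 0, 0, 0⟩, ⟨2, 0, -2, 0, 2, 0, 0, 2⟩⟩,
  ⟨⟨0, -2, 2, 0, 2, 0, 2, 0⟩, ⟨0, 0, 0, 0, 0, 0, 0, 0⟩, ⟨-2, 0, 2, 0, -2, 0, 0, -2⟩⟩,
  ⟨⟨0, -2, 2, 0, 2, 0, 2, 0⟩, ⟨0, 0, 0, 0, 0, 0, 0, 0⟩, ⟨-2, 0, -2, 0, 0, -2, 2, 0⟩⟩,
  ⟨⟨0, -2, 2, 0, 2, 0, 2, 0⟩, ⟨0, 0, 0, 0, 0, 0, 0, 0⟩, ⟨-2, 0, 0, -2, 2, 0, -2, 0⟩⟩,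
  ⟨⟨0, -2, 2, 0, 2, 0, 2, 0⟩, ⟨0, 0, 0, 0, 0, 0, 0, 0⟩, ⟨0, -2, 2, 0, 2, 0, 2, 0⟩⟩,
  ⟨⟨0, -2, 2, 0, 2, 0, 2, 0⟩, ⟨-2, 0, 2, 0, -2, 0, 0, -2⟩, ⟨0, 0, 0, 0, 0, 0, 0, 0⟩⟩,
  ⟨⟨0, -2, 2, 0, 2, 0, 2, 0⟩, ⟨-2, 0, -2, 0, 0, -2, 2, 0⟩, ⟨0, 0, 0, 0, 0, 0, 0, 0⟩⟩,
  ⟨⟨0, -2, 2, 0, 2, 0, 2, 0⟩, ⟨-2, 0, 0, -2, 2, 0, -2, 0⟩, ⟨0, 0, 0, 0, 0, 0, 0, 0⟩⟩,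
  ⟨⟨0, 2, 2, 0, 2, 0, 2, 0⟩, ⟨4, 0, 0, 0, 0, 0, 0, 0⟩, ⟨-4, 0, 0, 0, 0, 0, 0, 0⟩⟩,
  ⟨⟨0, 2, 2, 0, 2, 0, 2, 0⟩, ⟨4, 0, 0, 0, 0, 0, 0, 0⟩, ⟨4, 0, 0, 0, 0, 0, 0, 0⟩⟩,
  ⟨⟨0, 2, 2, 0, -2, 0, -2, 0⟩, ⟨4, 0, 0, 0, 0, 0, 0, 0⟩, ⟨0, 0, -4, 0, 0, 0, 0, 0⟩⟩,
  ⟨⟨0, 2, 2, 0, -2, 0, -2, 0⟩, ⟨4, 0, 0, 0, 0, 0, 0, 0⟩, ⟨0, 0, 4, 0, 0, 0, 0, 0⟩⟩,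
  ⟨⟨0, 2, -2, 0, 2, 0, -2, 0⟩, ⟨4, 0, 0, 0, 0, 0, 0, 0⟩, ⟨0, 0, 0, 0, -4, 0, 0, 0⟩⟩,
  ⟨⟨0, 2, -2, 0, 2, 0, -2, 0⟩, ⟨4, 0, 0, 0, 0, 0, 0, 0⟩, ⟨0, 0, 0, 0, 4, 0, 0, 0⟩⟩,
  ⟨⟨0, 2, -2, 0, -2, 0, 2, 0⟩, ⟨4, 0, 0, 0, 0, 0, 0, 0⟩, ⟨0, 0, 0, 0, 0, 0, -4, 0⟩⟩,
  ⟨⟨0, 2, -2, 0, -2, 0, 2, 0⟩, ⟨4, 0, 0, 0, 0, 0, 0, 0⟩, ⟨0, 0, 0, 0, 0, 0, 4, 0⟩⟩,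
  ⟨⟨2, 0, 2, 0, 2, 0, 0, 2⟩, ⟨4, 0, 0, 0, 0, 0, 0, 0⟩, ⟨0, 0, -4, 0, 0, 0, 0, 0⟩⟩,
  ⟨⟨2, 0, 2, 0, 2, 0, 0, 2⟩, ⟨4, 0, 0, 0, 0, 0, 0, 0⟩, ⟨0, 0, 4, 0, 0, 0, 0, 0⟩⟩,
  ⟨⟨2, 0, 2, 0, 0, 2, 2, 0⟩, ⟨4, 0, 0, 0, 0, 0, 0, 0⟩, ⟨0, 0, 0, 0, 0, 0, -4, 0⟩⟩,
  ⟨⟨2, 0, 2, 0, 0, 2, 2, 0⟩, ⟨4, 0, 0, 0, 0, 0, 0, 0⟩, ⟨0, 0, 0, 0, 0, 0, 4, 0⟩⟩,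
  ⟨⟨2, 0, 2, 0, 0, -2, -2, 0⟩, ⟨4, 0, 0, 0, 0, 0, 0, 0⟩, ⟨0, 0, 0, 0, 4, 0, 0, 0⟩⟩,
  ⟨⟨2, 0, 2, 0, 0, -2, -2, 0⟩, ⟨4, 0, 0, 0, 0, 0, 0, 0⟩, ⟨0, 0, 0, 0, -4, 0, 0, 0⟩⟩,
  ⟨⟨2, 0, 2, 0, -2, 0, 0, -2⟩, ⟨4, 0, 0, 0, 0, 0, 0, 0⟩, ⟨-4, 0, 0, 0, 0, 0, 0, 0⟩⟩,
  ⟨⟨2, 0, 2, 0, -2, 0, 0, -2⟩, ⟨4, 0, 0, 0, 0, 0, 0, 0⟩, ⟨4, 0, 0, 0, 0, 0, 0, 0⟩⟩,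
  ⟨⟨2, 0, 0, 2, 2, 0, 2, 0⟩, ⟨4, 0, 0, 0, 0, 0, 0, 0⟩, ⟨0, 0, 0, 0, -4, 0, 0, 0⟩⟩,
  ⟨⟨2, 0, 0, 2, 2, 0, 2, 0⟩, ⟨4, 0, 0, 0, 0, 0, 0, 0⟩, ⟨0, 0, 0, 0, 4, 0, 0, 0⟩⟩,
  ⟨⟨2, 0, 0, 2, -2, 0, -2, 0⟩, ⟨4, 0, 0, 0, 0, 0, 0, 0⟩, ⟨0, 0, 0, 0, 0, 0, 4, 0⟩⟩,
  ⟨⟨2, 0, 0, 2, -2, 0, -2, 0⟩, ⟨4, 0, 0, 0, 0, 0, 0, 0⟩, ⟨0, 0, 0, 0, 0, 0, -4, 0⟩⟩,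
  ⟨⟨2, 0, 0, -2, 2, 0, -2, 0⟩, ⟨4, 0, 0, 0, 0, 0, 0, 0⟩, ⟨-4, 0, 0, 0, 0, 0, 0, 0⟩⟩,
  ⟨⟨2, 0, 0, -2, 2, 0, -2, 0⟩, ⟨4, 0, 0, 0, 0, 0, 0, 0⟩, ⟨4, 0, 0, 0, 0, 0, 0, 0⟩⟩,
  ⟨⟨2, 0, 0, -2, -2, 0, 2, 0⟩, ⟨4, 0, 0, 0, 0, 0, 0, 0⟩, ⟨0, 0, 4, 0, 0, 0, 0, 0⟩⟩,
  ⟨⟨2, 0, 0, -2, -2, 0, 2, 0⟩, ⟨4, 0, 0, 0, 0, 0, 0, 0⟩, ⟨0, 0, -4, 0, 0, 0, 0, 0⟩⟩,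
  ⟨⟨2, 0, -2, 0, 2, 0, 0, -2⟩, ⟨4, 0, 0, 0, 0, 0, 0, 0⟩, ⟨0, 0, 0, 0, 0, 0, 4, 0⟩⟩,
  ⟨⟨2, 0, -2, 0, 2, 0, 0, -2⟩, ⟨4, 0, 0, 0, 0, 0, 0, 0⟩, ⟨0, 0, 0, 0, 0, 0, -4, 0⟩⟩,
  ⟨⟨2, 0, -2, 0, 0, 2, -2, 0⟩, ⟨4, 0, 0, 0, 0, 0, 0, 0⟩, ⟨0, 0, 4, 0, 0, 0, 0, 0⟩⟩,
  ⟨⟨2, 0, -2, 0, 0, 2, -2, 0⟩, ⟨4, 0, 0, 0, 0, 0, 0, 0⟩, ⟨0, 0, -4, 0, 0, 0, 0, 0⟩⟩,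
  ⟨⟨2, 0, -2, 0, 0, -2, 2, 0⟩, ⟨4, 0, 0, 0, 0, 0, 0, 0⟩, ⟨-4, 0, 0, 0, 0, 0, 0, 0⟩⟩,
  ⟨⟨2, 0, -2, 0, 0, -2, 2, 0⟩, ⟨4, 0, 0, 0, 0, 0, 0, 0⟩, ⟨4, 0, 0, 0, 0, 0, 0, 0⟩⟩,
  ⟨⟨2, 0, -2, 0, -2, 0, 0, 2⟩, ⟨4, 0, 0, 0, 0, 0, 0, 0⟩, ⟨0, 0, 0, 0, 4, 0, 0, 0⟩⟩,
  ⟨⟨2, 0, -2, 0, -2, 0, 0, 2⟩, ⟨4, 0, 0, 0, 0, 0, 0, 0⟩, ⟨0, 0, 0, 0, -4, 0, 0, 0⟩⟩,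
  ⟨⟨0, -2, 2, 0, 2, 0, 2, 0⟩, ⟨0, -2, 2, 0, 2, 0, 2, 0⟩, ⟨0, 0, 0, 0, 0, 0, 0, 0⟩⟩,
  ⟨⟨8, 0, 0, 0, 0, 0, 0, 0⟩, ⟨0, 0, 0, 0, 0, 0, 0, 0⟩, ⟨0, 0, 0, 0, 0, 0, 0, 0⟩⟩]

end Cfsg.Agent.Lib.Helper34IcoE
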