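import Cfsg.Agent.Lib.Helper34IcoF

set_option autoImplicit false

/-!
Kernel checks for the classification of the minimal vectors (part 1).
-/

namespace Cfsg.Agent.Lib.Helper34IcoG1

open Cfsg.Agent.Lib.Helper34IcoA Cfsg.Agent.Lib.Helper34IcoA.Q8
  Cfsg.Agent.Lib.Helper34IcoB Cfsg.Agent.Lib.Helper34IcoC Cfsg.Agent.Lib.Helper34IcoD
  Cfsg.Agent.Lib.Helper34IcoE Cfsg.Agent.Lib.Helper34IcoF

set_option maxRecDepth 100000 in
theorem c0 : chk32p (-2, -2) = true := by decide +kernel

set_option maxRecDepth 100000 in
theorem c1 : chk32p (0, -2) = true := by decide +kernel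

set_option maxRecDepth 100000 in
theorem c2 : chk32p (2, -2) = true := by decide +kernel

set_option maxRecDepth 100000 in
theorem c3 : chk32p (-5, -1) = true := by decide +kernel

set_option maxRecDepth 100000 in
theorem c4 : chk32p (-3, -1) = true := by decide +kernel

set_option maxRecDepth 100000 in
theorem c5 : chk32p (-1, -1) = true := by decide +kernel

set_option maxRecDepth 100000 in
theorem c6 : chk32p (1, -1) = true := by decide +kernel

set_option maxRecDepth 100000 in
theorem c7 : chk32p (3, -1) = true := by decide +kernel

set_option maxRecDepth 100000 in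
theorem c8 : chk32p (5, -1) = true := by decide +kernel

set_option maxRecDepth 100000 in
theorem c9 : chk32p (-4, 0) = true := by decide +kernel

set_option maxRecDepth 100000 in
theorem c10 : chk32p (-2, 0) = true := by decide +kernel

set_option maxRecDepth 100000 in
theorem c11 : chk32p (0, 0) = true := by decide +kernel

set_option maxRecDepth 100000 in
theorem c12 : chk32p (2, 0) = true := by decide +kernel

set_option maxRecDepth 100000 in
theorem c13 : chk32p (4, 0) = true := by decide +kernel

set_option maxRecDepth 100000 in
theorem c14 : chk32p (-5, 1) = true := by decide +kernel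

set_option maxRecDepth 100000 in
theorem c15 : chk32p (-3, 1) = true := by decide +kernel

set_option maxRecDepth 100000 in
theorem c16 : chk32p (-1, 1) = true := by decide +kernel

set_option maxRecDepth 100000 in
theorem c17 : chk32p (1, 1) = true := by decide +kernel

set_option maxRecDepth 100000 in
theorem c18 : chk32p (3, 1) = true := by decide +kernel

set_option maxRecDepth 100000 in
theorem c19 : chk32p (5, 1) = true := by decide +kernel

set_option maxRecDepth 100000 in
theorem c20 : chk32p (-2, 2) = true := by decide +kernel

set_option maxRecDepth 100000 in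
theorem c21 : chk32p (0, 2) = true := by decide +kernel

set_option maxRecDepth 100000 in
theorem c22 : chk32p (2, 2) = true := by decide +kernel

theorem chk32_ok : ∀ p ∈ P23, chk32p p = true := by
  intro p hp
  simp only [P23, List.mem_cons, List.not_mem_nil, or_false] at hp
  rcases hp with rfl | rfl | rfl | rfl | rfl | rfl | rfl | rfl | rfl | rfl | rfl | rfl | rfl | rfl | rfl | rfl | rfl | rfl | rfl | rfl | rfl | rfl | rfl
  exacts [c0, c1, c2, c3, c4, c5, c6, c7, c8, c9, c10, c11, c12, c13, c14, c15, c16, c17, c18, c19, c20, c21, c22]

end Cfsg.Agent.Lib.Helper34IcoG1
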