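import Cfsg.Agent.Lib.Helper34IcoL

set_option autoImplicit false

/-!
`-1` lies in the commutator subgroup of the icosian reflection group: it is the square of
`diag (i, j, k)`, a product of four reflections, and squares lie in the commutator subgroup of a
group generated by involutions.
-/

namespace Cfsg.Agent.Lib.Helper34IcoM

open Quaternion Cfsg.Spor Cfsg.Agent.Lib.Helper34IcoA Cfsg.Agent.Lib.Helper34IcoA.Q8
  Cfsg.Agent.Lib.Helper34IcoB Cfsg.Agent.Lib.Helper34IcoC Cfsg.Agent.Lib.Helper34IcoD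
  Cfsg.Agent.Lib.Helper34IcoE Cfsg.Agent.Lib.Helper34IcoF Cfsg.Agent.Lib.Helper34IcoH
  Cfsg.Agent.Lib.Helper34IcoI Cfsg.Agent.Lib.Helper34IcoJ Cfsg.Agent.Lib.Helper34IcoL

/-- in a group generated by involutions all squares are products of commutators -/
theorem sq_mem_commutator {G : Type*} [Group G] (S : Set G) (hS : ∀ s ∈ S, s * s = 1)
    (g : G) (hg : g ∈ Subgroup.closure S) :
    (⟨g, hg⟩ : Subgroup.closure S) * ⟨g, hg⟩ ∈ commutator (Subgroup.closure S) := by
  induction hg using Subgroup.closure_induction with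
  | mem s hs =>
    have : (⟨s, Subgroup.subset_closure hs⟩ : Subgroup.closure S) * ⟨s, Subgroup.subset_closure hs⟩ = 1 :=
      Subtype.ext (hS s hs)
    rw [this]; exact Subgroup.one_mem _
  | one =>
    have : (⟨1, Subgroup.one_mem _⟩ : Subgroup.closure S) * ⟨1, Subgroup.one_mem _⟩ = 1 :=
      Subtype.ext (one_mul 1)
    rw [this]; exact Subgroup.one_mem _
  | mul a b ha hb iha ihb =>
    set A : Subgroup.closure S := ⟨a, ha⟩
    set B : Subgroup.closure S := ⟨b, hb⟩
    have e : (⟨a * b, Subgroup.mul_mem _ ha hb⟩ : Subgroup.closure S) * ⟨a * b, Subgroup.mul_mem _ ha hb⟩ =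
        (A * A) * (A⁻¹ * B * A⁻¹⁻¹ * B⁻¹) * (B * B) := by
      have : (⟨a * b, Subgroup.mul_mem _ ha hb⟩ : Subgroup.closure S) = A * B := rfl
      rw [this]; group
    rw [e]
    refine Subgroup.mul_mem _ (Subgroup.mul_mem _ iha ?_) ihb
    exact Subgroup.commutator_mem_commutator (Subgroup.mem_top A⁻¹) (Subgroup.mem_top B)
  | inv a ha iha =>
    set A : Subgroup.closure S := ⟨a, ha⟩
    have e : (⟨a⁻¹, Subgroup.inv_mem _ ha⟩ : Subgroup.closure S) * ⟨a⁻¹, Subgroup.inv_mem _ ha⟩ =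
        (A * A)⁻¹ := by
      have : (⟨a⁻¹, Subgroup.inv_mem _ ha⟩ : Subgroup.closure S) = A⁻¹ := rfl
      rw [this]; group
    rw [e]
    exact Subgroup.inv_mem _ iha

def QJ : Q8 := ⟨0, 0, 0, 0, 4, 0, 0, 0⟩
def QK : Q8 := ⟨0, 0, 0, 0, 0, 0, 4, 0⟩

def A1 : MV := ⟨⟨zero, HH, neg HH⟩, by decide +kernel, by decide +kernel, by decide +kernel⟩
def A2 : MV := ⟨⟨zero, HH, ⟨2, 0, 2, 0, 0, 2, -2, 0⟩⟩, by decide +kernel, by decide +kernel, by decide +kernel⟩
def A3 : MV := ⟨⟨HH, zero, neg HH⟩, by decide +kernel, by decide +kernel, by decide +kernel⟩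
def A4 : MV := ⟨⟨HH, zero, ⟨2, 0, 0, 2, -2, 0, 2, 0⟩⟩, by decide +kernel, by decide +kernel, by decide +kernel⟩

/-- `diag (i, j, k)` -/
noncomputable def dg : Equiv.Perm icoLeech :=
  reflP A1.el A1.min * reflP A2.el A2.min * reflP A3.el A3.min * reflP A4.el A4.min

theorem dg_mem : dg ∈ twoJ2 :=
  twoJ2.mul_mem (twoJ2.mul_mem (twoJ2.mul_mem (Subgroup.subset_closure (isRefl_reflP _ _))
    (Subgroup.subset_closure (isRefl_reflP _ _))) (Subgroup.subset_closure (isRefl_reflP _ _)))
    (Subgroup.subset_closure (isRefl_reflP _ _))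

theorem dg_apply (F : MV) (u : Q8) (hu : inI u = true)
    (h4 : inL (reflZ A4.v F.v) = true) (h3 : inL (reflZ A3.v (reflZ A4.v F.v)) = true)
    (h2 : inL (reflZ A2.v (reflZ A3.v (reflZ A4.v F.v))) = true)
    (h : reflZ A1.v (reflZ A2.v (reflZ A3.v (reflZ A4.v F.v))) = smulZ u F.v) :
    ((dg F.el : icoLeech) : V) = io u • (F.el : V) := by
  unfold dg
  rw [Equiv.Perm.mul_apply, Equiv.Perm.mul_apply, Equiv.Perm.mul_apply, reflP_apply, reflP_apply,
    reflP_apply, reflP_apply, MV.coe, MV.coe, MV.coe, MV.coe, MV.coe, ← io3_reflZ A4.hL F.hL,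
    ← io3_reflZ A3.hL h4, ← io3_reflZ A2.hL h3, ← io3_reflZ A1.hL h2, h, io3_smulZ hu F.hL]

theorem dg_coords (x : icoLeech) :
    ((dg x : icoLeech) : V) = ![(x : V) 0 * io QI, (x : V) 1 * io QJ, (x : V) 2 * io QK] :=
  coords (twoJ2_le_AutL dg_mem)
    (dg_apply F0 QI (by decide +kernel) (by decide +kernel) (by decide +kernel) (by decide +kernel)
      (by decide +kernel))
    (dg_apply F1 QJ (by decide +kernel) (by decide +kernel) (by decide +kernel) (by decide +kernel)
      (by decide +kernel))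
    (dg_apply F2 QK (by decide +kernel) (by decide +kernel) (by decide +kernel) (by decide +kernel)
      (by decide +kernel)) x

theorem sq_neg (u : Q8) (hu : inI u = true) (h : mul u u = neg one) : io u * io u = -1 := by
  rw [← io_mul' hu hu, h, io_neg, io_one]

theorem dg_sq (x : icoLeech) : ((dg (dg x) : icoLeech) : V) = -(x : V) := by
  rw [dg_coords, dg_coords]
  funext t
  fin_cases t
  · simp only [Fin.zero_eta, Matrix.cons_val_zero, Pi.neg_apply]
    rw [mul_assoc, sq_neg QI (by decide +kernel) (by decide +kernel), mul_neg, mul_one]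
  · simp only [Fin.mk_one, Matrix.cons_val_one, Matrix.cons_val_zero, Pi.neg_apply]
    rw [mul_assoc, sq_neg QJ (by decide +kernel) (by decide +kernel), mul_neg, mul_one]
  · simp only [Fin.reduceFinMk, Matrix.cons_val, Pi.neg_apply]
    rw [mul_assoc, sq_neg QK (by decide +kernel) (by decide +kernel), mul_neg, mul_one]

theorem refl_sq (f : Equiv.Perm icoLeech) (hf : f ∈ {f | IsIcoReflection f}) : f * f = 1 := by
  obtain ⟨r, h4, rfl⟩ := (isRefl_iff f).1 hf
  apply Equiv.ext
  intro x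
  apply Subtype.ext
  rw [Equiv.Perm.mul_apply, reflP_apply, reflP_apply, Equiv.Perm.one_apply]
  exact qrefl_invol h4 _

/-- every element of `twoJ2` acting as `-1` is a product of commutators -/
theorem neg_mem_commutator (z : ↥twoJ2)
    (hz : ∀ x : icoLeech, (((z : Equiv.Perm icoLeech) x : icoLeech) : V) = -(x : V)) :
    z ∈ commutator ↥twoJ2 := by
  have h := sq_mem_commutator {f | IsIcoReflection f} refl_sq dg dg_mem
  have e : z = (⟨dg, dg_mem⟩ : ↥twoJ2) * ⟨dg, dg_mem⟩ := by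
    apply Subtype.ext
    rw [Subgroup.coe_mul, Subgroup.coe_mk]
    apply Equiv.ext
    intro x
    rw [Equiv.Perm.mul_apply]
    apply Subtype.ext
    rw [hz x, dg_sq x]
  rw [e]
  exact h

end Cfsg.Agent.Lib.Helper34IcoM
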