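import Cfsg.Agent.Lib.Helper34M22VCx0
import Cfsg.Agent.Lib.Helper34M22VCx1
import Cfsg.Agent.Lib.Helper34M22VCx2
import Cfsg.Agent.Lib.Helper34M22VCx3
import Cfsg.Agent.Lib.Helper34M22VCx4
import Cfsg.Agent.Lib.Helper34M22VCx5
import Cfsg.Agent.Lib.Helper34M22VCx6
import Cfsg.Agent.Lib.Helper34M22VCx7
import Cfsg.Agent.Lib.Helper34M22Cert
import Cfsg.Agent.Lib.H34VMain
import Cfsg.Agent.Lib.H34VPerm
import Cfsg.Agent.Lib.H34VGen

set_option autoImplicit false
set_option maxRecDepth 1000000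
set_option maxHeartbeats 4000000

/-! existence of the covering group (generated by scratch/cov/emit5.py, helper34) -/

namespace Cfsg.Agent.Lib.Helper34M22Ex

open Cfsg.Agent.Lib.Helper34CovA Cfsg.Agent.Lib.Helper34CovB Cfsg.Agent.Lib.Helper34CovC
  Cfsg.Agent.Lib.Helper34CovH Cfsg.Agent.Lib.Helper34CovP Cfsg.Agent.Lib.Helper34CovQ Cfsg.Agent.Lib.Helper34CovV
  Cfsg.Agent.Lib.Helper34M22Tab Cfsg.Agent.Lib.Helper34M22Vol Cfsg.Agent.Lib.Helper34M22Cert Cfsg.Agent.Lib

universe u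

theorem cl0 (k : ℕ) (hk : k < 7) (c : ℕ) (hc : c < 8) :
    (List.range 5040).all (fun t => chkCl C p1 p2 1 12 e1 e2 k (c * 5040 + t)) = true := by
  interval_cases k
  · interval_cases c
    · exact Helper34M22VCx7.c0x0
    · exact Helper34M22VCx6.c0x1
    · exact Helper34M22VCx5.c0x2
    · exact Helper34M22VCx4.c0x3
    · exact Helper34M22VCx3.c0x4
    · exact Helper34M22VCx2.c0x5
    · exact Helper34M22VCx1.c0x6
    · exact Helper34M22VCx0.c0x7
  · interval_cases c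
    · exact Helper34M22VCx7.c1x0
    · exact Helper34M22VCx6.c1x1
    · exact Helper34M22VCx5.c1x2
    · exact Helper34M22VCx4.c1x3
    · exact Helper34M22VCx3.c1x4
    · exact Helper34M22VCx2.c1x5
    · exact Helper34M22VCx1.c1x6
    · exact Helper34M22VCx0.c1x7
  · interval_cases c
    · exact Helper34M22VCx7.c2x0
    · exact Helper34M22VCx6.c2x1
    · exact Helper34M22VCx5.c2x2
    · exact Helper34M22VCx4.c2x3
    · exact Helper34M22VCx3.c2x4
    · exact Helper34M22VCx2.c2x5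
    · exact Helper34M22VCx1.c2x6
    · exact Helper34M22VCx0.c2x7
  · interval_cases c
    · exact Helper34M22VCx7.c3x0
    · exact Helper34M22VCx6.c3x1
    · exact Helper34M22VCx5.c3x2
    · exact Helper34M22VCx4.c3x3
    · exact Helper34M22VCx3.c3x4
    · exact Helper34M22VCx2.c3x5
    · exact Helper34M22VCx1.c3x6
    · exact Helper34M22VCx0.c3x7
  · interval_cases c
    · exact Helper34M22VCx7.c4x0
    · exact Helper34M22VCx6.c4x1
    · exact Helper34M22VCx5.c4x2
    · exact Helper34M22VCx4.c4x3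
    · exact Helper34M22VCx3.c4x4
    · exact Helper34M22VCx2.c4x5
    · exact Helper34M22VCx1.c4x6
    · exact Helper34M22VCx0.c4x7
  · interval_cases c
    · exact Helper34M22VCx7.c5x0
    · exact Helper34M22VCx6.c5x1
    · exact Helper34M22VCx5.c5x2
    · exact Helper34M22VCx4.c5x3
    · exact Helper34M22VCx3.c5x4
    · exact Helper34M22VCx2.c5x5
    · exact Helper34M22VCx1.c5x6
    · exact Helper34M22VCx0.c5x7
  · interval_cases c
    · exact Helper34M22VCx7.c6x0
    · exact Helper34M22VCx6.c6x1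
    · exact Helper34M22VCx5.c6x2
    · exact Helper34M22VCx4.c6x3
    · exact Helper34M22VCx3.c6x4
    · exact Helper34M22VCx2.c6x5
    · exact Helper34M22VCx1.c6x6
    · exact Helper34M22VCx0.c6x7

theorem cl (k : ℕ) (hk : k < 7) :
    (List.range (8 * 5040)).all (fun i => chkCl C p1 p2 1 12 e1 e2 k i) = true :=
  all_range_of_chunks _ 8 5040 (cl0 k hk)

theorem hlet : ∀ k < C.m, ∀ l ∈ C.rel k, l < 2 := by decide +kernel

def ee (k : ℕ) : Multiplicative (ZMod 1 × ZMod 12) :=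
  Multiplicative.ofAdd (-(((e1 k : ℕ) : ZMod 1), ((e2 k : ℕ) : ZMod 12)))

theorem g1 : Multiplicative.ofAdd ((1, 0) : ZMod 1 × ZMod 12) = H34VStem.ev ee C.m w1 := by
  decide +kernel
theorem g2 : Multiplicative.ofAdd ((0, 1) : ZMod 1 × ZMod 12) = H34VStem.ev ee C.m w2 := by
  decide +kernel

theorem exists_stem {G : Type u} [Group G] [Finite G] (ux uy : G) (M : Model G C 11 ux uy) :
    ∃ (Γ : Type u) (_ : Group Γ) (_ : Finite Γ) (σ : Γ →* G),
      Cfsg.IsStemExtension σ ∧ Nat.card σ.ker = 12 := by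
  obtain ⟨X, Y, δ, hδ, hcx, hcy, hrel⟩ := H34VPerm.exists_perms C p1 p2 1 12 e1 e2 (by decide)
    (T_lt C chk1) hlet
    (fun k hk i hi => of_chkCl C p1 p2 1 12 e1 e2 k i (all_of_range (cl k hk) i hi))
    ⟨1, by decide, _, rfl⟩ ⟨0, by decide, _, rfl⟩
  obtain ⟨Γ, i1, i2, σ, h1, h2⟩ := H34VMain.exists_stem X Y ux uy C 11 M chk1 chk6 (by decide) δ hδ
    hcx hcy ee hrel [w1, w2]
    (by decide +kernel) (by decide +kernel)
    (H34VGen.closure_top 1 12 _ ⟨w1, by simp, g1⟩ ⟨w2, by simp, g2⟩)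
  refine ⟨Γ, i1, i2, σ, h1, ?_⟩
  rw [h2, Nat.card_eq_fintype_card]
  rfl

end Cfsg.Agent.Lib.Helper34M22Ex
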