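import Cfsg.Agent.Lib.Helper18SU32b
import Cfsg.Agent.Lib.Helper17Heis
import Cfsg.Agent.Lib.Helper17UWitt
import Cfsg.Agent.Lib.Helper6Transport
import Cfsg.Agent.S0245
import Cfsg.Agent.S0246
import Cfsg.Agent.S0270
import Cfsg.Agent.S0280
import Cfsg.Agent.S0283
import Cfsg.Agent.S0779
import Cfsg.Agent.S0780

set_option autoImplicit false
open Cfsg

namespace Cfsg.Agent.Lib.Helper34U42

open Matrix Cfsg.Agent.Lib.Helper18F4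

abbrev K4 := F4c
abbrev K3 := ZMod 3
abbrev W1 := Fin 4 → K4
abbrev I2 := Fin 2 ⊕ Fin 2
abbrev W2 := I2 → K3
abbrev Om := Fin 40
abbrev SUg := ↥(Cfsg.SU 4 K4 2)
abbrev Spg := ↥(Matrix.symplecticGroup (Fin 2) K3)

def el (k : ℕ) : K4 := ⟨Nat.testBit k 0, Nat.testBit k 1⟩

def cd (x : K4) : ℕ := x.a.toNat + 2 * x.b.toNat

def vec1 (c : ℕ) : W1 := ![el c, el (c / 4), el (c / 16), el (c / 64)]

def code1 (w : W1) : ℕ := cd (w 0) + 4 * cd (w 1) + 16 * cd (w 2) + 64 * cd (w 3)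

def vec2 (c : ℕ) : W2 := Sum.elim ![(c : K3), ((c / 3 : ℕ) : K3)] ![((c / 9 : ℕ) : K3), ((c / 27 : ℕ) : K3)]

def code2 (w : W2) : ℕ := (w (.inl 0)).val + 3 * (w (.inl 1)).val + 9 * (w (.inr 0)).val +
  27 * (w (.inr 1)).val

def ix : I2 → ℕ
  | .inl i => i.val
  | .inr i => 2 + i.val

def matOf (n : ℕ) : Matrix I2 I2 K3 := fun i j => ((n / 3 ^ (4 * ix i + ix j) : ℕ) : K3)

def tabP1 : List ℕ := [0, 3, 3, 3, 2, 0, 0, 0, 2, 0, 0, 0, 2, 0, 0, 0, 1, 0, 0, 0, 0, 13, 18, 20, 0, 17, 19, 15, 0, 21, 14, 16, 1, 0, 0, 0, 0, 16, 21, 14, 0, 20, 13, 18, 0, 15, 17, 19, 1, 0, 0, 0, 0, 19, 15, 17, 0, 14, 16, 21, 0, 18, 20, 13, 0, 0, 0, 0, 0, 4, 11, 9, 0, 8, 6, 10, 0, 12, 7, 5, 0, 31, 38, 36, 22, 0, 0, 0, 30, 0, 0, 0, 26, 0, 0, 0, 0, 34, 32, 39, 25, 0, 0, 0, 24, 0, 0, 0, 29, 0, 0, 0, 0, 37, 35, 33, 28, 0, 0, 0, 27, 0, 0, 0, 23, 0, 0, 0, 0, 0, 0, 0, 0, 5, 12, 7,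 0, 9, 4, 11, 0, 10, 8, 6, 0, 33, 37, 35, 23, 0, 0, 0, 28, 0, 0, 0, 27, 0, 0, 0, 0, 36, 31, 38, 26, 0, 0, 0, 22, 0, 0, 0, 30, 0, 0, 0, 0, 39, 34, 32, 29, 0, 0, 0, 25, 0, 0, 0, 24, 0, 0, 0, 0, 0, 0, 0, 0, 6, 10, 8, 0, 7, 5, 12, 0, 11, 9, 4, 0, 32, 39, 34, 24, 0, 0, 0, 29, 0, 0, 0, 25, 0, 0, 0, 0, 35, 33, 37, 27, 0, 0, 0, 23, 0, 0, 0, 28, 0, 0, 0, 0, 38, 36, 31, 30, 0, 0, 0, 26, 0, 0, 0, 22, 0, 0, 0]

def tabV1 : List ℕ := [64, 16, 4, 1, 69, 133, 197, 201, 73, 137, 141, 205, 77, 21, 57, 45, 37, 25, 61, 53, 41, 29, 84, 148, 212, 100, 164, 228, 116, 180, 244, 81, 209, 145, 97, 225, 161, 113, 241, 177]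

def tabP2 : List ℕ := [0, 13, 13, 4, 22, 31, 4, 31, 22, 1, 16, 19, 7, 25, 37, 10, 34, 28, 1, 19, 16, 10, 28, 34, 7, 37, 25, 0, 14, 15, 5, 23, 33, 6, 32, 24, 2, 17, 21, 8, 26, 39, 12, 35, 30, 3, 20, 18, 11, 29, 36, 9, 38, 27, 0, 15, 14, 6, 24, 32, 5, 33, 23, 3, 18, 20, 9, 27, 38, 11, 36, 29, 2, 21, 17, 12, 30, 35, 8, 39, 26]

def tabV2 : List ℕ := [27, 9, 36, 63, 3, 30, 57, 12, 39, 66, 21, 48, 75, 1, 28, 55, 10, 37, 64, 19, 46, 73, 4, 31, 58, 13, 40, 67, 22, 49, 76, 7, 34, 61, 16, 43, 70, 25, 52, 79]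

def tabW : List ℕ := [14408200, 0, 0, 0, 0, 28757350, 29328157, 29839915, 0, 29839915, 28757350, 29328157, 0, 29328157, 29839915, 28757350, 0, 38323294, 39405859, 38894101, 33540322, 0, 0, 0, 34111129, 0, 0, 0, 34622887, 0, 0, 0, 0, 38894101, 38323294, 39405859, 34622887, 0, 0, 0, 33540322, 0, 0, 0, 34111129, 0, 0, 0, 0, 39405859, 38894101, 38323294, 34111129, 0, 0, 0, 34622887, 0, 0, 0, 33540322, 0, 0, 0, 0, 28934578, 30017143, 29505385, 29111806, 0, 0, 0, 29682613, 0, 0, 0, 30194371, 0, 0, 0, 4960200, 0, 0, 0, 0, 572292, 39072814, 39583870, 0, 34978126, 10314762, 28758835, 0, 34467070, 28758133, 10827222, 6042765, 0, 0, 0, 0, 749520, 39761800, 38324077, 0, 34289140, 5355264, 28936063, 0, 33541807, 29112589, 4960983, 5531007, 0, 0, 0, 0, 1260576, 38324779, 39249340, 0, 33541105, 4961685, 29113291, 0, 34801600, 28935361, 10138236, 0, 29505385, 28934578,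 30017143, 30194371, 0, 0, 0, 29111806, 0, 0, 0, 29682613, 0, 0, 0, 5531007, 0, 0, 0, 0, 10138236, 34801600, 28935361, 0, 39249340, 1260576, 38324779, 0, 29113291, 33541105, 4961685, 4960200, 0, 0, 0, 0, 10827222, 34467070, 28758133, 0, 39583870, 572292, 39072814, 0, 28758835, 34978126, 10314762, 6042765, 0, 0, 0, 0, 4960983, 33541807, 29112589, 0, 38324077, 749520, 39761800, 0, 28936063, 34289140, 5355264, 0, 30017143, 29505385, 28934578, 29682613, 0, 0, 0, 30194371, 0, 0, 0, 29111806, 0, 0, 0, 6042765, 0, 0, 0, 0, 5355264, 28936063, 34289140, 0, 29112589, 4960983, 33541807, 0, 39761800, 38324077, 749520, 5531007, 0, 0, 0, 0, 4961685, 29113291, 33541105, 0, 28935361, 10138236, 34801600, 0, 38324779, 39249340, 1260576, 4960200, 0, 0, 0, 0, 10314762, 28758835, 34978126, 0, 28758133, 10827222, 34467070, 0, 39072814, 39583870, 572292]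

def ptOf1 (w : W1) : Om := Fin.ofNat 40 (tabP1.getD (code1 w) 0)

def vecAt1 (x : Om) : W1 := vec1 (tabV1.getD x.val 0)

def ptOf2 (w : W2) : Om := Fin.ofNat 40 (tabP2.getD (code2 w) 0)

def vecAt2 (x : Om) : W2 := vec2 (tabV2.getD x.val 0)

abbrev H (u v : W1) : K4 := Cfsg.hermForm 4 K4 2 u v

def act1 (A : Matrix (Fin 4) (Fin 4) K4) (x : Om) : Om := ptOf1 (A *ᵥ vecAt1 x)

def act2 (B : Matrix I2 I2 K3) (x : Om) : Om := ptOf2 (B *ᵥ vecAt2 x)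

set_option maxRecDepth 100000 in
theorem U1 : ∀ (w : W1) (c : K4), c ≠ 0 → ptOf1 (c • w) = ptOf1 w := by decide +kernel

set_option maxRecDepth 100000 in
theorem U2 : ∀ w : W1, H w w ≠ 0 → ∃ c : K4, c ≠ 0 ∧ vecAt1 (ptOf1 w) = c • w := by decide +kernel

theorem U3 : ∀ x : Om, ptOf1 (vecAt1 x) = x ∧ H (vecAt1 x) (vecAt1 x) ≠ 0 := by decide +kernel

theorem S1 : ∀ (w : W2) (c : K3), c ≠ 0 → ptOf2 (c • w) = ptOf2 w := by decide +kernel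

theorem S2 : ∀ w : W2, w ≠ 0 → ∃ c : K3, c ≠ 0 ∧ vecAt2 (ptOf2 w) = c • w := by decide +kernel

theorem S3 : ∀ x : Om, ptOf2 (vecAt2 x) = x ∧ vecAt2 x ≠ 0 := by decide +kernel

set_option maxRecDepth 100000 in
/-- the witnesses: each unitary transvection acts as a symplectic matrix -/
theorem T_ok : ∀ v : W1, H v v = 0 →
    matOf (tabW.getD (code1 v) 0) * Matrix.J (Fin 2) K3 * (matOf (tabW.getD (code1 v) 0))ᵀ =
      Matrix.J (Fin 2) K3 ∧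
    ∀ x : Om, ptOf1 (vecAt1 x + (1 * H (vecAt1 x) v) • v) = act2 (matOf (tabW.getD (code1 v) 0)) x := by
  decide +kernel


end Cfsg.Agent.Lib.Helper34U42
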