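import Cfsg.Agent.Lib.Helper35Ord4
import Cfsg.Prelude.Def_SporadicB

set_option autoImplicit false

namespace Cfsg.Agent.Lib.Helper35TC

/-! ## Non-split double covers -/

theorem nonsplit_of {H Q : Type*} [Group H] [Group Q] [Finite H] [IsSimpleGroup Q]
    (hQc : ¬ (Nat.card Q).Prime) (hperf : commutator H = ⊤)
    (Z : Subgroup H) [Z.Normal] (hZc : Z ≤ Subgroup.center H) (hZ2 : Nat.card Z = 2)
    (ψ : Q →* H ⧸ Z) (hsurj : Function.Surjective ψ) (hcard : Nat.card H = 2 * Nat.card Q) :
    Cfsg.IsNonsplitDoubleCover H Q := by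
  have hQfin : Finite Q := by
    apply Nat.finite_of_card_ne_zero
    intro h0
    rw [h0] at hcard
    have := Nat.card_pos (α := H)
    omega
  have hq : Nat.card (H ⧸ Z) = Nat.card Q := by
    have := Subgroup.card_eq_card_quotient_mul_card_subgroup Z
    rw [hZ2, hcard] at this
    omega
  have hbij : Function.Bijective ψ := hsurj.bijective_of_nat_card_le (by rw [hq])
  let e : Q ≃* H ⧸ Z := MulEquiv.ofBijective ψ hbij
  have hnt : Nontrivial (H ⧸ Z) := e.symm.toEquiv.nontrivial
  have hsimp : IsSimpleGroup (H ⧸ Z) := IsSimpleGroup.isSimpleGroup_of_surjective ψ hsurj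
  have hCZ : Subgroup.center H = Z := by
    apply le_antisymm _ hZc
    have hn : ((Subgroup.center H).map (QuotientGroup.mk' Z)).Normal :=
      Subgroup.Normal.map inferInstance _ (QuotientGroup.mk'_surjective Z)
    rcases hsimp.eq_bot_or_eq_top_of_normal _ hn with h1 | h1
    · intro c hc
      have h2 : QuotientGroup.mk' Z c ∈ (Subgroup.center H).map (QuotientGroup.mk' Z) :=
        Subgroup.mem_map_of_mem _ hc
      rw [h1, Subgroup.mem_bot] at h2
      exact (QuotientGroup.eq_one_iff c).mp h2
    · exfalso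
      have hcomm : ∀ x y : Q, x * y = y * x := by
        intro x y
        apply e.injective
        rw [map_mul, map_mul]
        have hx : e x ∈ (Subgroup.center H).map (QuotientGroup.mk' Z) := by rw [h1]; trivial
        obtain ⟨c, hc, hcx⟩ := hx
        obtain ⟨d, hd⟩ := QuotientGroup.mk'_surjective Z (e y)
        rw [← hcx, ← hd, ← map_mul, ← map_mul, Subgroup.mem_center_iff.mp hc d]
      letI : CommGroup Q := { (inferInstance : Group Q) with mul_comm := hcomm }
      exact hQc (IsSimpleGroup.prime_card (α := Q))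
  refine ⟨by rw [hCZ, hZ2], ⟨(QuotientGroup.quotientMulEquivOfEq hCZ).trans e.symm⟩, ?_⟩
  intro L hL
  have hL2 : L.index = 2 := by rw [hL.index_eq_card, hCZ, hZ2]
  have hLn : L.Normal := Subgroup.normal_of_index_eq_two hL2
  have hc2 : Nat.card (H ⧸ L) = 2 := hL2
  haveI : Fact (Nat.Prime 2) := ⟨Nat.prime_two⟩
  have hcyc : IsCyclic (H ⧸ L) := isCyclic_of_prime_card hc2
  letI : CommGroup (H ⧸ L) := IsCyclic.commGroup
  have h3 : commutator H ≤ (QuotientGroup.mk' L).ker :=
    Abelianization.commutator_subset_ker (QuotientGroup.mk' L)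
  rw [hperf, QuotientGroup.ker_mk', top_le_iff] at h3
  rw [h3, Subgroup.index_top] at hL2
  omega

/-- two involutions whose product has order three have the same image in an abelian group -/
theorem braid_eq {Γ A : Type*} [Group Γ] [CommGroup A] (χ : Γ →* A) {x y : Γ}
    (hx : x * x = 1) (hy : y * y = 1) (hxy : (x * y) ^ 3 = 1) : χ x = χ y := by
  have hx := congrArg χ hx
  have hy := congrArg χ hy
  have hxy := congrArg χ hxy
  simp only [map_mul, map_pow, map_one] at hx hy hxy
  set X := χ x
  set Y := χ y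
  have e1 : (X * Y) ^ 3 = (X * X) * (Y * Y) * (X * Y) := by
    rw [pow_three]
    simp only [mul_comm, mul_left_comm]
  rw [e1, hx, hy, one_mul, one_mul] at hxy
  calc X = X * (Y * Y) := by rw [hy, mul_one]
    _ = (X * Y) * Y := by rw [mul_assoc]
    _ = Y := by rw [hxy, one_mul]

end Cfsg.Agent.Lib.Helper35TC
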