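import Cfsg.Agent.Lib.Helper35F23sD

set_option autoImplicit false
set_option maxRecDepth 100000

namespace Cfsg.Agent.Lib.Helper35F23sD

open Cfsg.Agent.Lib.Helper35TC

theorem chkE_13_4 : allD chkE 13 32768 = true := by decide +kernel

theorem chkE_13_5 : allD chkE 13 40960 = true := by decide +kernel

theorem chkE_13_6 : allD chkE 13 49152 = true := by decide +kernel

theorem chkE_13_7 : allD chkE 13 57344 = true := by decide +kernel

end Cfsg.Agent.Lib.Helper35F23sD
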