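import Cfsg.Agent.Lib.Helper35F23sD

set_option autoImplicit false
set_option maxRecDepth 100000

namespace Cfsg.Agent.Lib.Helper35F23sD

open Cfsg.Agent.Lib.Helper35TC

theorem chkE_13_24 : allD chkE 13 196608 = true := by decide +kernel

theorem chkE_13_25 : allD chkE 13 204800 = true := by decide +kernel

theorem chkE_13_26 : allD chkE 13 212992 = true := by decide +kernel

theorem chkE_13_27 : allD chkE 13 221184 = true := by decide +kernel

end Cfsg.Agent.Lib.Helper35F23sD
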