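import Cfsg.Agent.Lib.Helper35F23sG
import Cfsg.Agent.Lib.Helper35F23sC0
import Cfsg.Agent.Lib.Helper35F23sC1
import Cfsg.Agent.Lib.Helper35F23sC2
import Cfsg.Agent.Lib.Helper35F23sC3
import Cfsg.Agent.Lib.Helper35F23sC4
import Cfsg.Agent.Lib.Helper35F23sC5
import Cfsg.Agent.Lib.Helper35F23sC6
import Cfsg.Agent.Lib.Helper35F23sC7

set_option autoImplicit false
set_option maxRecDepth 100000

/-! The normal elementary abelian subgroups of a Sylow 2-subgroup of Fi23. -/

namespace Cfsg.Agent.Lib.Helper35F23sD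

open Cfsg.Agent.Lib.Helper35TC

theorem chkE_14_0 : allD chkE 14 0 = true :=
  allD_join chkE_13_0 chkE_13_1 (by norm_num)

theorem chkE_14_1 : allD chkE 14 16384 = true :=
  allD_join chkE_13_2 chkE_13_3 (by norm_num)

theorem chkE_14_2 : allD chkE 14 32768 = true :=
  allD_join chkE_13_4 chkE_13_5 (by norm_num)

theorem chkE_14_3 : allD chkE 14 49152 = true :=
  allD_join chkE_13_6 chkE_13_7 (by norm_num)

theorem chkE_14_4 : allD chkE 14 65536 = true :=
  allD_join chkE_13_8 chkE_13_9 (by norm_num)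

theorem chkE_14_5 : allD chkE 14 81920 = true :=
  allD_join chkE_13_10 chkE_13_11 (by norm_num)

theorem chkE_14_6 : allD chkE 14 98304 = true :=
  allD_join chkE_13_12 chkE_13_13 (by norm_num)

theorem chkE_14_7 : allD chkE 14 114688 = true :=
  allD_join chkE_13_14 chkE_13_15 (by norm_num)

theorem chkE_14_8 : allD chkE 14 131072 = true :=
  allD_join chkE_13_16 chkE_13_17 (by norm_num)

theorem chkE_14_9 : allD chkE 14 147456 = true :=
  allD_join chkE_13_18 chkE_13_19 (by norm_num)

theorem chkE_14_10 : allD chkE 14 163840 = true :=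
  allD_join chkE_13_20 chkE_13_21 (by norm_num)

theorem chkE_14_11 : allD chkE 14 180224 = true :=
  allD_join chkE_13_22 chkE_13_23 (by norm_num)

theorem chkE_14_12 : allD chkE 14 196608 = true :=
  allD_join chkE_13_24 chkE_13_25 (by norm_num)

theorem chkE_14_13 : allD chkE 14 212992 = true :=
  allD_join chkE_13_26 chkE_13_27 (by norm_num)

theorem chkE_14_14 : allD chkE 14 229376 = true :=
  allD_join chkE_13_28 chkE_13_29 (by norm_num)

theorem chkE_14_15 : allD chkE 14 245760 = true :=
  allD_join chkE_13_30 chkE_13_31 (by norm_num)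

theorem chkE_15_0 : allD chkE 15 0 = true :=
  allD_join chkE_14_0 chkE_14_1 (by norm_num)

theorem chkE_15_1 : allD chkE 15 32768 = true :=
  allD_join chkE_14_2 chkE_14_3 (by norm_num)

theorem chkE_15_2 : allD chkE 15 65536 = true :=
  allD_join chkE_14_4 chkE_14_5 (by norm_num)

theorem chkE_15_3 : allD chkE 15 98304 = true :=
  allD_join chkE_14_6 chkE_14_7 (by norm_num)

theorem chkE_15_4 : allD chkE 15 131072 = true :=
  allD_join chkE_14_8 chkE_14_9 (by norm_num)

theorem chkE_15_5 : allD chkE 15 163840 = true :=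
  allD_join chkE_14_10 chkE_14_11 (by norm_num)

theorem chkE_15_6 : allD chkE 15 196608 = true :=
  allD_join chkE_14_12 chkE_14_13 (by norm_num)

theorem chkE_15_7 : allD chkE 15 229376 = true :=
  allD_join chkE_14_14 chkE_14_15 (by norm_num)

theorem chkE_16_0 : allD chkE 16 0 = true :=
  allD_join chkE_15_0 chkE_15_1 (by norm_num)

theorem chkE_16_1 : allD chkE 16 65536 = true :=
  allD_join chkE_15_2 chkE_15_3 (by norm_num)

theorem chkE_16_2 : allD chkE 16 131072 = true :=
  allD_join chkE_15_4 chkE_15_5 (by norm_num)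

theorem chkE_16_3 : allD chkE 16 196608 = true :=
  allD_join chkE_15_6 chkE_15_7 (by norm_num)

theorem chkE_17_0 : allD chkE 17 0 = true :=
  allD_join chkE_16_0 chkE_16_1 (by norm_num)

theorem chkE_17_1 : allD chkE 17 131072 = true :=
  allD_join chkE_16_2 chkE_16_3 (by norm_num)

theorem chkE_18_0 : allD chkE 18 0 = true :=
  allD_join chkE_17_0 chkE_17_1 (by norm_num)

end Cfsg.Agent.Lib.Helper35F23sD

namespace Cfsg.Agent.Lib.Helper35F23s

open Cfsg.Agent.Lib.Helper35TC Cfsg.Agent.Lib.Helper35Syl Cfsg.Agent.Lib.Helper35F23sD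
open Cfsg.Agent.Lib.Helper35F23sG Cfsg.Agent.Lib.Helper63PCDefs Cfsg.Spor

theorem hall : ∀ e < 2 ^ 18, chkE e = true := all_of_allD chkE 18 (2 ^ 18) le_rfl chkE_18_0

noncomputable abbrev K : Pkg Fi23.Gen := Cfsg.Agent.Lib.Helper35Fi23a.K

theorem ok : K.Ok := Cfsg.Agent.Lib.Helper35Fi23a.ok

def gen (l : ℕ) : Fi23.Gen :=
  [Fi23.Gen.a, .b, .c, .d, .e, .f, .g, .j, .h, .i].getD l .a

theorem code_gen : ∀ l < 10, K.code (gen l) = l := by decide

def toE : List ℕ → WExp Fi23.Gen
  | [] => .pow (.of .a) 0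
  | l :: w => .mul (toE w) (.of (gen l))

theorem toE_app (iv : ℕ → ℕ) : ∀ w : List ℕ, (∀ l ∈ w, l < 10) → (toE w).app K.code iv = w
  | [], _ => rfl
  | l :: w, h => by
    rw [toE, WExp.app, WExp.app, toE_app iv w (fun x hx => h x (List.mem_cons_of_mem _ hx)),
      code_gen l (h l List.mem_cons_self)]
    rfl

theorem wv_eq (w : List ℕ) (hw : ∀ l ∈ w, l < 10) :
    wordVal K.valG w = PresentedGroup.mk K.rels (toE w).eval := by
  rw [ok.mk_eval, toE_app _ w hw]

noncomputable def x (i : ℕ) : K.Grp := wordVal K.valG (xw i)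

theorem evalW_x (v : List ℕ) : evalW x v = wordVal K.valG (lw v) := by
  induction v with
  | nil => rfl
  | cons i v ih =>
    rw [evalW_cons, ih, lw, wordVal_append]
    rfl

theorem eq_of_chk {u v : List ℕ} (h : relChk u v = true) : evalW x u = evalW x v := by
  unfold relChk at h
  rw [Bool.and_eq_true] at h
  have hl : ∀ l ∈ relW u v, l < 10 := fun l hl =>
    Nat.lt_succ_of_le (Nat.le_of_ble_eq_true (allL_spec _ _ h.1 l hl))
  have h1 := Cfsg.Agent.Lib.Helper35Fi23Fin.word_eq_one (toE (relW u v))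
    (by rw [toE_app _ _ hl]; exact h.2)
  have h2 : wordVal K.valG (relW u v) = 1 := (wv_eq _ hl).trans h1
  rw [relW, wordVal_append, wordVal_invRev K.valG K.P.iv ok.hvalG] at h2
  rw [evalW_x, evalW_x]
  exact mul_inv_eq_one.mp h2

theorem om_lt : ∀ a b, a < b → b < 535 → om a < om b := by
  have hstep : ∀ k < 534, om k < om (k + 1) := fun k hk =>
    Nat.le_of_ble_eq_true (allB_spec _ 534 om_step k hk)
  intro a b hab
  induction b, hab using Nat.le_induction with
  | base => intro h; exact hstep a (by omega)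
  | succ b hb ih => intro h; exact (ih (by omega)).trans (hstep b (by omega))

theorem om_n {k : ℕ} (hk : k < 535) : om k < K.P.n := by
  have h1 : om 534 < 31671 := om_last
  rcases Nat.lt_or_ge k 534 with h | h
  · exact (om_lt k 534 h (by norm_num)).trans h1
  · have : k = 534 := by omega
    rw [this]; exact h1

open Classical in
noncomputable def pt (k : ℕ) : Fin K.P.n := if h : om k < K.P.n then ⟨om k, h⟩ else ok.zero

theorem pt_val {k : ℕ} (hk : k < 535) : (pt k).val = om k := by
  rw [pt, dif_pos (om_n hk)]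

theorem cfg : Cfg x ok.phi pt where
  inj := by
    intro a ha b hb hab
    have h1 : om a = om b := by rw [← pt_val ha, ← pt_val hb, hab]
    rcases lt_trichotomy a b with h | h | h
    · exact absurd h1 (om_lt a b h hb).ne
    · exact h
    · exact absurd h1 (om_lt b a h ha).ne'
  act := by
    intro i hi k hk
    obtain ⟨h1, h2⟩ := act_fact hi hk
    apply Fin.ext
    rw [x, wv_eq _ (xw_lt i hi), ok.phi_mk_apply, toE_app _ _ (xw_lt i hi), pt_val hk, pt_val h1]
    exact h2
  sq := by
    intro i hi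
    have h := eq_of_chk (sq_chk i hi)
    rw [evalW_cons, evalW_cons, evalW_nil, mul_one] at h
    exact h
  cj := by
    intro b a hba ha
    have h := eq_of_chk (cj_chk b (by omega) a ha hba)
    rw [evalW_cons, evalW_cons, evalW_cons, evalW_nil, mul_one, ← mul_assoc] at h
    exact h

theorem main (T : Sylow 2 K.Grp) :
    (∀ A : Subgroup K.Grp, A ≤ T → (A.subgroupOf T).Normal → Cfsg.IsElementaryAbelian 2 A →
        Nat.card A ≤ 2 ^ 11) ∧
    ∃! A : Subgroup K.Grp, A ≤ T ∧ (A.subgroupOf T).Normal ∧ Cfsg.IsElementaryAbelian 2 A ∧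
        Nat.card A = 2 ^ 11 := by
  have hfin : Finite K.Grp := Cfsg.Agent.Lib.Helper35Fi23Fin.hub.1
  exact cfg.final hall 15600091832325
    (Cfsg.Agent.Lib.Helper35Fi23Fin.card_eq.trans (by norm_num)) (by norm_num) T

end Cfsg.Agent.Lib.Helper35F23s
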