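import Cfsg.Agent.Lib.Helper35F23sD
import Cfsg.Prelude.Def_Transfer

set_option autoImplicit false

/-! The normal elementary abelian subgroups of a Sylow 2-subgroup of Fi23: the generic part. -/

namespace Cfsg.Agent.Lib.Helper35F23sG

open Cfsg.Agent.Lib.Helper35TC Cfsg.Agent.Lib.Helper35Syl Cfsg.Agent.Lib.Helper35F23sD
open Cfsg.Agent.Lib.Helper63PCDefs

theorem act_fact {i k : ℕ} (hi : i < 18) (hk : k < 535) : T i k < 535 ∧
    Cfsg.Agent.Lib.Helper35Fi23a.K.P.walkA (xw i) (om k) = om (T i k) := by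
  have h := allB_spec chkAct 9630 act_chk (i * 535 + k) (by omega)
  unfold chkAct at h
  simp only [strict_eq] at h
  have h1 : Nat.div (i * 535 + k) 535 = i := by
    show (i * 535 + k) / 535 = i
    omega
  have h2 : Nat.mod (i * 535 + k) 535 = k := by
    show (i * 535 + k) % 535 = k
    omega
  rw [h1, h2, Bool.and_eq_true] at h
  exact ⟨Nat.le_of_ble_eq_true h.1, Nat.eq_of_beq_eq_true h.2⟩

theorem T_lt {i k : ℕ} (hi : i < 18) (hk : k < 535) : T i k < 535 := (act_fact hi hk).1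

theorem lab_inv {i j k : ℕ} (hi : i < 18) (hj : j < 18) (hij : i < j) (hk : k < 535)
    (hl : lab i k = 1) : lab i (T j k) = 1 := by
  have h := allB_spec chkLab 9630 lab_chk (i * 535 + k) (by omega)
  unfold chkLab at h
  simp only [strict_eq] at h
  have h1 : Nat.div (i * 535 + k) 535 = i := by
    show (i * 535 + k) / 535 = i
    omega
  have h2 : Nat.mod (i * 535 + k) 535 = k := by
    show (i * 535 + k) % 535 = k
    omega
  rw [h1, h2, Bool.or_eq_true] at h
  rcases h with h | h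
  · have := Nat.eq_of_beq_eq_true h
    omega
  · have h3 := allB_spec _ 18 h j hj
    simp only [Bool.or_eq_true] at h3
    rcases h3 with h3 | h3
    · have := Nat.le_of_ble_eq_true h3
      omega
    · exact Nat.eq_of_beq_eq_true h3

theorem lab_actL {i : ℕ} (hi : i < 18) : ∀ v : List ℕ, (∀ l ∈ v, i + 1 ≤ l ∧ l < 18) →
    ∀ k < 535, lab i k = 1 → actL v k < 535 ∧ lab i (actL v k) = 1 := by
  intro v
  induction v with
  | nil => intro _ k hk hl; exact ⟨hk, hl⟩
  | cons j v ih =>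
    intro hv k hk hl
    obtain ⟨h1, h2⟩ := ih (fun l hl => hv l (List.mem_cons_of_mem _ hl)) k hk hl
    have hj := hv j List.mem_cons_self
    rw [actL_cons]
    exact ⟨T_lt hj.2 h1, lab_inv hi hj.2 hj.1 h1 h2⟩

theorem nfl_low : ∀ (m d i e : ℕ), e % 2 ^ m = 0 → ∀ l ∈ nfl d i e, i + m ≤ l := by
  intro m
  induction m with
  | zero =>
    intro d i e _ l hl
    exact (nfl_mem d i e l hl).1
  | succ m ih =>
    intro d i e he l hl
    cases d with
    | zero => simp [nfl_zero] at hl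
    | succ d =>
      have h2 : e % 2 = 0 := by
        have : e % 2 ^ (m + 1) % 2 = e % 2 := Nat.mod_mod_of_dvd e (by rw [pow_succ]; exact Dvd.intro_left _ rfl)
        rw [he] at this
        omega
      obtain ⟨e', rfl⟩ : ∃ e', e = 2 * e' := ⟨e / 2, by omega⟩
      rw [nfl_even] at hl
      have h3 : e' % 2 ^ m = 0 := by
        rw [pow_succ, mul_comm (2 ^ m) 2, Nat.mul_mod_mul_left] at he
        omega
      have := ih d (i + 1) e' h3 l hl
      omega

variable {G : Type*} [Group G] {X : Type*}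

/-- generators `x i` acting on points `pt k` as in the tables, and satisfying the relations -/
structure Cfg (x : ℕ → G) (φ : G →* Equiv.Perm X) (pt : ℕ → X) : Prop where
  inj : ∀ a < 535, ∀ b < 535, pt a = pt b → a = b
  act : ∀ i < 18, ∀ k < 535, φ (x i) (pt k) = pt (T i k)
  sq : ∀ i < 18, x i * x i = 1
  cj : ∀ b a, b < a → a < 18 → x b * x a * x b = evalW x (cjw b a)

variable {x : ℕ → G} {φ : G →* Equiv.Perm X} {pt : ℕ → X}

theorem Cfg.inv (h : Cfg x φ pt) : Inv x 18 :=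
  ⟨h.sq, fun b a hba ha => by
    rw [h.cj b a hba ha]
    exact evalW_mem x 18 (b + 1) _ (cj_l b (by omega) a ha hba)⟩

theorem Cfg.actW (h : Cfg x φ pt) : ∀ v : List ℕ, (∀ l ∈ v, l < 18) → ∀ k < 535,
    actL v k < 535 ∧ φ (evalW x v) (pt k) = pt (actL v k) := by
  intro v
  induction v with
  | nil =>
    intro _ k hk
    exact ⟨hk, by rw [evalW_nil, map_one]; rfl⟩
  | cons i v ih =>
    intro hv k hk
    obtain ⟨h1, h2⟩ := ih (fun l hl => hv l (List.mem_cons_of_mem _ hl)) k hk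
    have hi := hv i List.mem_cons_self
    refine ⟨T_lt hi h1, ?_⟩
    rw [evalW_cons, map_mul, Equiv.Perm.mul_apply, h2, h.act i hi _ h1]
    rfl

theorem Cfg.ne_of_act (h : Cfg x φ pt) {u w : List ℕ} (hu : ∀ l ∈ u, l < 18)
    (hw : ∀ l ∈ w, l < 18) {k : ℕ} (hk : k < 535) (hne : actL u k ≠ actL w k) :
    evalW x u ≠ evalW x w := by
  intro he
  have h1 := h.actW u hu k hk
  have h2 := h.actW w hw k hk
  rw [he, h2.2] at h1
  exact hne (h.inj _ h1.1 _ h2.1 h1.2.symm)

theorem Cfg.hne (h : Cfg x φ pt) : ∀ i < 18, x i ∉ Kc x 18 (i + 1) := by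
  intro i hi hmem
  obtain ⟨e, -, he⟩ := h.inv.nf_full (i + 1) (by omega) _ hmem
  have hv : ∀ l ∈ nfl (18 - (i + 1)) (i + 1) e, i + 1 ≤ l ∧ l < 18 := by
    intro l hl
    have := nfl_mem _ _ _ _ hl
    omega
  obtain ⟨hw1, hw2, hw3⟩ := lab_wit i hi
  have h1 := h.actW _ (fun l hl => (hv l hl).2) (wit i) hw1
  have h2 := lab_actL hi _ hv (wit i) hw1 hw2
  rw [← he, h.act i hi _ hw1] at h1
  have h3 := h.inj _ (T_lt hi hw1) _ h1.1 h1.2
  rw [h3, h2.2] at hw3
  exact absurd hw3 (by norm_num)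

theorem Cfg.comm_gen (h : Cfg x φ pt) {a b : ℕ} (hb : 7 ≤ b) (hba : b < a) (ha : a < 18) :
    x a * x b = x b * x a := by
  have h1 := h.cj b a hba ha
  rw [cj_C b (by omega) a ha hb hba, evalW_cons, evalW_nil, mul_one] at h1
  calc x a * x b = x b * x a * x b * x b := by rw [h1]
    _ = x b * x a := by rw [mul_assoc, h.sq b (by omega), mul_one]

theorem Cfg.A_comm (h : Cfg x φ pt) : IsMulCommutative (Kc x 18 7) := by
  apply Subgroup.isMulCommutative_closure
  rintro _ ⟨a, ⟨ha1, ha2⟩, rfl⟩ _ ⟨b, ⟨hb1, hb2⟩, rfl⟩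
  rcases lt_trichotomy a b with hab | rfl | hab
  · exact (h.comm_gen ha1 hab hb2).symm
  · rfl
  · exact h.comm_gen hb1 hab ha2

theorem Cfg.A_sq (h : Cfg x φ pt) : ∀ a ∈ Kc x 18 7, a ^ 2 = 1 := by
  have := h.A_comm
  intro a ha
  induction ha using Subgroup.closure_induction with
  | mem y hy =>
    obtain ⟨i, ⟨_, hi⟩, rfl⟩ := hy
    rw [pow_two, h.sq i hi]
  | one => simp
  | mul y z hy hz ihy ihz =>
    have hc : y * z = z * y := setLike_mul_comm (s := Kc x 18 7) hy hz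
    rw [(show Commute y z from hc).mul_pow, ihy, ihz, one_mul]
  | inv y hy ih => rw [inv_pow, ih, inv_one]

theorem Cfg.conjA (h : Cfg x φ pt) {b : ℕ} (hb : b < 18) :
    ∀ g ∈ Kc x 18 7, x b * g * x b ∈ Kc x 18 7 := by
  have hle : Kc x 18 7 ≤ (Kc x 18 7).comap (MulAut.conj (x b)).toMonoidHom := by
    rw [Kc, Subgroup.closure_le]
    rintro _ ⟨a, ⟨ha1, ha2⟩, rfl⟩
    show x b * x a * (x b)⁻¹ ∈ Kc x 18 7
    rw [h.inv.inv_eq hb]
    by_cases hb7 : b < 7
    · rw [h.cj b a (by omega) ha2]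
      exact evalW_mem x 18 7 _
        (fun l hl => ⟨cj_A b hb7 a ha2 ha1 l hl, (cj_l b hb a ha2 (by omega) l hl).2⟩)
    · have hbm := mem_Kc x (show 7 ≤ b by omega) hb
      exact mul_mem (mul_mem hbm (mem_Kc x ha1 ha2)) hbm
  intro g hg
  have h2 : x b * g * (x b)⁻¹ ∈ Kc x 18 7 := hle hg
  rwa [h.inv.inv_eq hb] at h2

theorem Cfg.A_normal (h : Cfg x φ pt) : ((Kc x 18 7).subgroupOf (Kc x 18 0)).Normal := by
  rw [Subgroup.normal_subgroupOf_iff_le_normalizer (Kc_mono x 18 (by norm_num))]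
  conv_lhs => rw [Kc]
  rw [Subgroup.closure_le]
  rintro _ ⟨b, ⟨-, hb⟩, rfl⟩
  show x b ∈ Subgroup.normalizer _
  rw [Subgroup.mem_normalizer_iff]
  intro g
  rw [h.inv.inv_eq hb]
  constructor
  · exact h.conjA hb g
  · intro hg
    have h1 := h.conjA hb _ hg
    have e : x b * (x b * g * x b) * x b = g := by
      calc x b * (x b * g * x b) * x b = (x b * x b) * g * (x b * x b) := by group
        _ = g := by rw [h.sq b hb]; simp
    rwa [e] at h1

/-- the exceptional elements -/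
def SR (x : ℕ → G) : Set G := (fun e => evalW x (nfl 18 0 e)) '' (Rl.toFinset : Set ℕ)

theorem SR_card (x : ℕ → G) : (SR x).Finite ∧ (SR x).ncard ≤ 128 := by
  have hf : ((Rl.toFinset : Finset ℕ) : Set ℕ).Finite := Finset.finite_toSet _
  refine ⟨hf.image _, (Set.ncard_image_le hf).trans ?_⟩
  rw [Set.ncard_coe_finset]
  exact (List.toFinset_card_le Rl).trans (le_of_eq Rl_len)

theorem Cfg.evalW_rev (h : Cfg x φ pt) : ∀ s : List ℕ, (∀ l ∈ s, l < 18) →
    evalW x s.reverse = (evalW x s)⁻¹ := by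
  intro s
  induction s with
  | nil => intro _; simp [evalW_nil]
  | cons i s ih =>
    intro hs
    rw [List.reverse_cons, evalW_append, ih (fun l hl => hs l (List.mem_cons_of_mem _ hl)),
      evalW_cons, evalW_cons, evalW_nil, mul_one, mul_inv_rev, h.inv.inv_eq (hs i List.mem_cons_self)]

theorem Cfg.sq_case (h : Cfg x φ pt) {e k : ℕ} (hk : k < 535) (hc : chkSq e k = true) :
    evalW x (nfl 18 0 e) * evalW x (nfl 18 0 e) ≠ 1 := by
  have hv : ∀ l ∈ nfl 18 0 e, l < 18 := by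
    intro l hl
    have := nfl_mem _ _ _ _ hl
    omega
  rw [← evalW_append, ← evalW_nil x]
  apply h.ne_of_act (k := k) _ (by simp) hk
  · rw [actL_append, actL_nil]
    intro he
    unfold chkSq at hc
    rw [ae_eq, ae_eq, he, Nat.beq_refl] at hc
    exact absurd hc (by decide)
  · intro l hl
    rcases List.mem_append.mp hl with hl | hl <;> exact hv l hl

theorem Cfg.cm_case (h : Cfg x φ pt) {e k : ℕ} {s : List ℕ} (hs : ∀ l ∈ s, l < 18) (hk : k < 535)
    (hc : chkCm e s k = true) :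
    ∃ S ∈ Kc x 18 0, evalW x (nfl 18 0 e) * (S * evalW x (nfl 18 0 e) * S⁻¹) ≠
      S * evalW x (nfl 18 0 e) * S⁻¹ * evalW x (nfl 18 0 e) := by
  have hv : ∀ l ∈ nfl 18 0 e, l < 18 := by
    intro l hl
    have := nfl_mem _ _ _ _ hl
    omega
  have hsr : ∀ l ∈ s.reverse, l < 18 := fun l hl => hs l (List.mem_reverse.mp hl)
  refine ⟨evalW x s, evalW_mem x 18 0 s (fun l hl => ⟨Nat.zero_le _, hs l hl⟩), ?_⟩
  rw [← h.evalW_rev s hs, ← evalW_append, ← evalW_append, ← evalW_append, ← evalW_append]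
  apply h.ne_of_act (k := k) _ _ hk
  · rw [actL_append, actL_append, actL_append, actL_append, actL_append, actL_append]
    intro he
    unfold chkCm at hc
    rw [ae_eq, ae_eq, ae_eq, ae_eq, he, Nat.beq_refl] at hc
    exact absurd hc (by decide)
  · intro l hl
    simp only [List.mem_append] at hl
    rcases hl with hl | (hl | hl) | hl
    · exact hv l hl
    · exact hs l hl
    · exact hv l hl
    · exact hsr l hl
  · intro l hl
    simp only [List.mem_append] at hl
    rcases hl with ((hl | hl) | hl) | hl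
    · exact hs l hl
    · exact hv l hl
    · exact hsr l hl
    · exact hv l hl

theorem Cfg.tri (h : Cfg x φ pt) (hall : ∀ e < 2 ^ 18, chkE e = true) : ∀ b ∈ Kc x 18 0,
    b ∈ Kc x 18 7 ∨ b * b ≠ 1 ∨
      (∃ S ∈ Kc x 18 0, b * (S * b * S⁻¹) ≠ S * b * S⁻¹ * b) ∨ b ∈ SR x := by
  intro b hb
  obtain ⟨e, he, rfl⟩ := h.inv.nf_full 0 (by norm_num) b hb
  have hc := hall e he
  unfold chkE at hc
  simp only [Bool.or_eq_true] at hc
  rcases hc with ((hc | ((hc | hc) | hc)) | ((((hc | hc) | hc) | hc) | hc)) | hc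
  · left
    have h0 : e % 2 ^ 7 = 0 := Nat.eq_of_beq_eq_true hc
    apply evalW_mem
    intro l hl
    have h1 := nfl_low 7 _ _ _ h0 l hl
    have h2 := nfl_mem _ _ _ _ hl
    omega
  · exact Or.inr (Or.inl (h.sq_case (by norm_num) hc))
  · exact Or.inr (Or.inl (h.sq_case (by norm_num) hc))
  · exact Or.inr (Or.inl (h.sq_case (by norm_num) hc))
  · exact Or.inr (Or.inr (Or.inl (h.cm_case (by decide) (by norm_num) hc)))
  · exact Or.inr (Or.inr (Or.inl (h.cm_case (by decide) (by norm_num) hc)))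
  · exact Or.inr (Or.inr (Or.inl (h.cm_case (by decide) (by norm_num) hc)))
  · exact Or.inr (Or.inr (Or.inl (h.cm_case (by decide) (by norm_num) hc)))
  · exact Or.inr (Or.inr (Or.inl (h.cm_case (by decide) (by norm_num) hc)))
  · right; right; right
    rw [List.any_eq_true] at hc
    obtain ⟨r, hr, hre⟩ := hc
    have : r = e := Nat.eq_of_beq_eq_true hre
    subst this
    exact ⟨r, by simpa using hr, rfl⟩

theorem Cfg.core (h : Cfg x φ pt) (hall : ∀ e < 2 ^ 18, chkE e = true) (B : Subgroup G)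
    (hB : B ≤ Kc x 18 0) (hn : (B.subgroupOf (Kc x 18 0)).Normal)
    (he : Cfsg.IsElementaryAbelian 2 B) : B ≤ Kc x 18 7 ∨ Nat.card B ≤ 256 := by
  have hmem : ∀ b ∈ B, b ∈ Kc x 18 7 ∨ b ∈ SR x := by
    intro b hb
    rcases h.tri hall b (hB hb) with h1 | h1 | ⟨S, hS, h1⟩ | h1
    · exact Or.inl h1
    · exact absurd (by rw [← pow_two]; exact he.2 b hb) h1
    · have hc : S * b * S⁻¹ ∈ B := (Subgroup.normal_subgroupOf_iff hB).mp hn b S hb hS
      have := he.1
      exact absurd (setLike_mul_comm (s := B) hb hc) h1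
    · exact Or.inr h1
  by_cases hle : B ≤ Kc x 18 7
  · exact Or.inl hle
  right
  obtain ⟨b0, hb0, hb0A⟩ := SetLike.not_le_iff_exists.mp hle
  have hsub : (B : Set G) ⊆ SR x ∪ (fun r => b0⁻¹ * r) '' SR x := by
    intro b hb
    rcases hmem b hb with h1 | h1
    · right
      rcases hmem (b0 * b) (B.mul_mem hb0 hb) with h2 | h2
      · exfalso
        apply hb0A
        have := (Kc x 18 7).mul_mem h2 ((Kc x 18 7).inv_mem h1)
        simpa using this
      · exact ⟨b0 * b, h2, by simp⟩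
    · exact Or.inl h1
  obtain ⟨hf, hc⟩ := SR_card x
  calc Nat.card B = (B : Set G).ncard := rfl
    _ ≤ (SR x ∪ (fun r => b0⁻¹ * r) '' SR x).ncard :=
      Set.ncard_le_ncard hsub (hf.union (hf.image _))
    _ ≤ (SR x).ncard + ((fun r => b0⁻¹ * r) '' SR x).ncard := Set.ncard_union_le _ _
    _ ≤ 128 + 128 := Nat.add_le_add hc ((Set.ncard_image_le hf).trans hc)
    _ = 256 := rfl

theorem Cfg.main (h : Cfg x φ pt) (hall : ∀ e < 2 ^ 18, chkE e = true) :
    (∀ B : Subgroup G, B ≤ Kc x 18 0 → (B.subgroupOf (Kc x 18 0)).Normal →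
      Cfsg.IsElementaryAbelian 2 B → Nat.card B ≤ 2 ^ 11) ∧
    ∃! B : Subgroup G, B ≤ Kc x 18 0 ∧ (B.subgroupOf (Kc x 18 0)).Normal ∧
      Cfsg.IsElementaryAbelian 2 B ∧ Nat.card B = 2 ^ 11 := by
  have hcA : Nat.card (Kc x 18 7) = 2 ^ 11 := h.inv.card_eq h.hne 7 (by norm_num)
  have hfA : Finite (Kc x 18 7) := (h.inv.card_le 7 (by norm_num)).1
  constructor
  · intro B hB hn he
    rcases h.core hall B hB hn he with h1 | h1
    · rw [← hcA]
      exact Subgroup.card_le_of_le h1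
    · exact h1.trans (by norm_num)
  · refine ⟨Kc x 18 7, ⟨Kc_mono x 18 (by norm_num), h.A_normal, ⟨h.A_comm, h.A_sq⟩, hcA⟩, ?_⟩
    rintro B ⟨hB, hn, he, hc⟩
    rcases h.core hall B hB hn he with h1 | h1
    · exact Subgroup.eq_of_le_of_card_ge h1 (by rw [hc, hcA])
    · rw [hc] at h1
      norm_num at h1

theorem evalW_conj (x : ℕ → G) (g : G) (v : List ℕ) :
    evalW (fun i => g * x i * g⁻¹) v = g * evalW x v * g⁻¹ := by
  induction v with
  | nil => simp [evalW_nil]
  | cons i v ih =>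
    rw [evalW_cons, evalW_cons, ih]
    group

theorem Cfg.conj (h : Cfg x φ pt) (g : G) :
    Cfg (fun i => g * x i * g⁻¹) (φ.comp (MulAut.conj g⁻¹).toMonoidHom) pt where
  inj := h.inj
  act := by
    intro i hi k hk
    have h1 : (φ.comp (MulAut.conj g⁻¹).toMonoidHom) (g * x i * g⁻¹) = φ (x i) := by
      show φ (g⁻¹ * (g * x i * g⁻¹) * g⁻¹⁻¹) = _
      congr 1
      group
    rw [h1]
    exact h.act i hi k hk
  sq := by
    intro i hi
    calc g * x i * g⁻¹ * (g * x i * g⁻¹) = g * (x i * x i) * g⁻¹ := by group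
      _ = 1 := by rw [h.sq i hi]; simp
  cj := by
    intro b a hba ha
    rw [evalW_conj, ← h.cj b a hba ha]
    group

theorem Cfg.final [Finite G] (h : Cfg x φ pt) (hall : ∀ e < 2 ^ 18, chkE e = true) (m : ℕ)
    (hcard : Nat.card G = 2 ^ 18 * m) (hm : ¬ 2 ∣ m) (T : Sylow 2 G) :
    (∀ A : Subgroup G, A ≤ T → (A.subgroupOf T).Normal → Cfsg.IsElementaryAbelian 2 A →
        Nat.card A ≤ 2 ^ 11) ∧
    ∃! A : Subgroup G, A ≤ T ∧ (A.subgroupOf T).Normal ∧ Cfsg.IsElementaryAbelian 2 A ∧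
        Nat.card A = 2 ^ 11 := by
  have : Fact (Nat.Prime 2) := ⟨Nat.prime_two⟩
  have hcP : Nat.card (Kc x 18 0) = 2 ^ 18 := h.inv.card_eq h.hne 0 (by norm_num)
  have hfac : (Nat.card G).factorization 2 = 18 := by
    have hm0 : m ≠ 0 := by
      rintro rfl
      exact hm (dvd_zero _)
    rw [hcard, Nat.factorization_mul (by norm_num) hm0, Nat.Prime.factorization_pow Nat.prime_two]
    simp [Nat.factorization_eq_zero_of_not_dvd hm]
  let P' : Sylow 2 G := Sylow.ofCard (Kc x 18 0) (by rw [hcP, hfac])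
  obtain ⟨g, hg⟩ := MulAction.exists_smul_eq G P' T
  have hT : (T : Subgroup G) = Kc (fun i => g * x i * g⁻¹) 18 0 := by
    rw [← hg, Sylow.coe_subgroup_smul, Sylow.coe_ofCard]
    rw [Subgroup.pointwise_smul_def]
    show (Kc x 18 0).map (MulAut.conj g).toMonoidHom = _
    unfold Kc
    rw [MonoidHom.map_closure, Set.image_image]
    rfl
  rw [hT]
  exact (h.conj g).main hall

end Cfsg.Agent.Lib.Helper35F23sG
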