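import Cfsg.Agent.Lib.Helper35Ord3

set_option autoImplicit false

namespace Cfsg.Agent.Lib.Helper35TC

/-! ## Order and simplicity of a presented group -/

theorem hsub_of_list {α β : Type} (ι : β → α) (l : List (WExp α)) (l' : List (WExp β))
    (h : l = l'.map (WExp.map ι)) : ∀ e ∈ l, ∃ e' : WExp β, e = e'.map ι := by
  intro e he
  rw [h, List.mem_map] at he
  obtain ⟨e', _, rfl⟩ := he
  exact ⟨e', rfl⟩

namespace BData

/-- the word `w` fixes the point `0` and all base points -/
noncomputable def fixChk (D : BData) (P : LData) (w : List ℕ) : Bool :=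
  Nat.beq (P.walkA w 0) 0 && allL (fun b => Nat.beq (P.walkA w (D.pt b)) (D.pt b)) D.base

end BData

namespace Pkg
variable {α : Type} {K : Pkg α}

open Classical in
noncomputable def Ok.qpt (h : K.Ok) (D : BData) (r : ℕ) : Fin K.P.n :=
  if hr : D.pt r < K.P.n then ⟨D.pt r, hr⟩ else h.zero

theorem Ok.qpt_val (h : K.Ok) {D : BData} (hD : D.Valid K.P) {r : ℕ} (hr : r < D.m) :
    (h.qpt D r).val = D.pt r := by
  rw [Ok.qpt, dif_pos (hD.row hr).1]

noncomputable def subElt (K : Pkg α) (c : ℕ) : K.Grp :=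
  match K.subExps[c]? with
  | some e => PresentedGroup.mk K.rels e.eval
  | none => 1

theorem Ok.base_cols (h : K.Ok) {D : BData} (hD : D.Valid K.P) :
    ∀ c < D.LB, BData.ColOK D h.phi K.H (h.qpt D) c (K.subElt c) := by
  intro c hc
  have hlen : K.P.subs.length = K.subExps.length := by rw [h.hsubsP, List.length_map]
  have hc2 : c < K.subExps.length := by rw [← hlen]; exact lt_of_lt_of_le hc hD.hLB
  have he : K.subElt c = PresentedGroup.mk K.rels (K.subExps[c]).eval := by
    unfold subElt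
    rw [List.getElem?_eq_getElem hc2]
  have hw : K.P.subs.getD c [] = (K.subExps[c]).app K.code K.P.iv := by
    rw [List.getD_eq_getElem _ _ (by rw [hlen]; exact hc2)]
    simp only [h.hsubsP, List.getElem_map]
  refine ⟨by rw [he]; exact h.mem_H_of_sub (List.getElem_mem hc2), fun r hr hv => ?_⟩
  apply Fin.ext
  rw [he, h.phi_mk_apply, h.qpt_val hD hr, h.qpt_val hD hv, ← hw]
  exact (hD.row hr).2.2.1 c hc hv

theorem Ok.order_eq (h : K.Ok) {D : BData} (hD : D.Valid K.P) (c : ℕ)
    (hc : (∏ i ∈ Finset.range D.base.length, D.cnt i) = c)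
    (hub : Finite K.Grp ∧ Nat.card K.Grp ≤ K.P.n * c) :
    Nat.card K.Grp = K.P.n * c ∧ Nat.card K.H = c ∧
    (∀ g : K.Grp, h.phi g h.zero = h.zero →
      (∀ b ∈ D.base, h.phi g (h.qpt D b) = h.qpt D b) → g = 1) := by
  have := hub.1
  have h1 := hD.card_ge h.phi K.H (h.qpt D) K.subElt (h.base_cols hD) (by
    intro r hr s hs hrs
    apply hD.pt_inj hr hs
    rw [← h.qpt_val hD hr, ← h.qpt_val hD hs, hrs])
  rw [hc] at h1
  set F := BData.fixer D h.phi K.H (h.qpt D) D.base.length with hF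
  have h2 : K.P.n * Nat.card K.H = Nat.card K.Grp := by
    rw [← h.index_eq]; exact Subgroup.index_mul_card K.H
  have hn := h.hP.hn
  have hFpos : 0 < Nat.card F := Nat.card_pos
  have hGpos : 0 < Nat.card K.Grp := Nat.card_pos
  have hH : Nat.card K.H ≤ c := by
    have : K.P.n * Nat.card K.H ≤ K.P.n * c := by rw [h2]; exact hub.2
    exact Nat.le_of_mul_le_mul_left this hn
  have hcpos : 0 < c := by
    rcases Nat.eq_zero_or_pos c with h0 | h0
    · rw [h0, mul_zero] at hub; omega
    · exact h0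
  have hF1 : Nat.card F ≤ 1 := by
    have : c * Nat.card F ≤ c * 1 := by rw [mul_one]; exact h1.trans hH
    exact Nat.le_of_mul_le_mul_left this hcpos
  have hHc : Nat.card K.H = c := by
    apply le_antisymm hH
    calc c = c * 1 := (mul_one c).symm
      _ ≤ c * Nat.card F := Nat.mul_le_mul_left _ hFpos
      _ ≤ _ := h1
  refine ⟨by rw [← h2, hHc], hHc, fun g hg0 hgb => ?_⟩
  have hbot : F = ⊥ := Subgroup.eq_bot_of_card_le F hF1
  have hgF : g ∈ F := by
    rw [hF, BData.mem_fixer]
    refine ⟨(h.mem_H_iff g).mpr hg0, fun t ht => ?_⟩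
    apply hgb
    unfold BData.bs
    rw [List.getD_eq_getElem _ _ ht]
    exact List.getElem_mem ht
  rw [hbot] at hgF
  exact hgF

/-- identities between words can be checked on the base -/
theorem Ok.word_eq_one (h : K.Ok) {D : BData} (hD : D.Valid K.P)
    (hfix : ∀ g : K.Grp, h.phi g h.zero = h.zero →
      (∀ b ∈ D.base, h.phi g (h.qpt D b) = h.qpt D b) → g = 1)
    (e : WExp α) (he : D.fixChk K.P (e.app K.code K.P.iv) = true) :
    PresentedGroup.mk K.rels e.eval = 1 := by
  unfold BData.fixChk at he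
  rw [Bool.and_eq_true, Nat.beq_eq] at he
  apply hfix
  · apply Fin.ext
    rw [h.phi_mk_apply]
    exact he.1
  · intro b hb
    apply Fin.ext
    rw [h.phi_mk_apply, h.qpt_val hD (hD.hbase b hb)]
    have := allL_spec _ _ he.2 b hb
    rwa [Nat.beq_eq] at this

theorem top_of_gens (N : Subgroup K.Grp) (hall : ∀ a : α, (PresentedGroup.of a : K.Grp) ∈ N) :
    N = ⊤ := by
  rw [eq_top_iff, ← PresentedGroup.closure_range_of, Subgroup.closure_le]
  rintro _ ⟨a, rfl⟩
  exact hall a

theorem Ok.simple_of_seeds (h : K.Ok) (horb : ∀ j < K.P.n, K.P.chkOrb j = true)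
    {D : BData} (hD : D.Valid K.P) (c : ℕ)
    (hc : (∏ i ∈ Finset.range D.base.length, D.cnt i) = c)
    (hub : Finite K.Grp ∧ Nat.card K.Grp ≤ K.P.n * c)
    (sz : ℕ → ℕ)
    (hsz : ∀ c < K.P.roots.length,
      ((Finset.range K.P.n).filter (fun j => K.P.labIs c j = true)).card = sz c)
    (har : ∀ C ∈ (Finset.range K.P.roots.length).powerset, K.P.lab 0 ∈ C →
      (∑ c ∈ C, sz c) ∣ K.P.n → (∑ c ∈ C, sz c) = 1 ∨ (∑ c ∈ C, sz c) = K.P.n)
    (p : ℕ) (hp : Nat.Coprime p c) (hn1 : 1 < K.P.n)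
    (seed : α → WExp α)
    (hs1 : ∀ a, D.fixChk K.P ((WExp.pow (seed a) p).app K.code K.P.iv) = true)
    (hs2 : ∀ a, D.fixChk K.P ((WExp.pow (.mul (.of a) (seed a)) p).app K.code K.P.iv) = true) :
    IsSimpleGroup K.Grp := by
  obtain ⟨hcard, hH, hfix⟩ := h.order_eq hD c hc hub
  have := hub.1
  have hcpos : 0 < c := by
    rcases Nat.eq_zero_or_pos c with h0 | h0
    · have : 0 < Nat.card K.Grp := Nat.card_pos
      rw [hcard, h0, mul_zero] at this; omega
    · exact h0
  have hnt : Nontrivial K.Grp := by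
    rw [← Finite.one_lt_card_iff_nontrivial, hcard]
    calc 1 < K.P.n := hn1
      _ = K.P.n * 1 := (mul_one _).symm
      _ ≤ K.P.n * c := Nat.mul_le_mul_left _ hcpos
  apply simple_of_maximal K.H (h.maximal horb sz hsz har) ?_ p (by rw [hH]; exact hp) ?_
  · intro N hN hNH
    rw [eq_bot_iff]
    intro g hg
    have hall : ∀ j : Fin K.P.n, h.phi g j = j := by
      intro j
      obtain ⟨x, rfl⟩ := h.transitive j
      have h1 : x⁻¹ * g * x ∈ K.H := hNH (by
        have := hN.conj_mem g hg x⁻¹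
        rwa [inv_inv] at this)
      have h2 := h.H_fix _ h1
      rw [map_mul, map_mul, map_inv, Equiv.Perm.mul_apply, Equiv.Perm.mul_apply,
        Equiv.Perm.inv_eq_iff_eq] at h2
      exact h2
    exact hfix g (hall _) (fun b _ => hall _)
  · intro N hN hall
    apply top_of_gens
    intro a
    have h1 := h.word_eq_one hD hfix _ (hs1 a)
    have h2 := h.word_eq_one hD hfix _ (hs2 a)
    simp only [WExp.eval, map_pow, map_mul] at h1 h2
    have h3 := hall _ h1
    have h4 := hall _ h2
    have h5 := N.mul_mem h4 (N.inv_mem h3)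
    rwa [mul_inv_cancel_right] at h5

end Pkg

end Cfsg.Agent.Lib.Helper35TC
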