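import Cfsg.Agent.Lib.Helper35Fi22a

set_option autoImplicit false
set_option maxRecDepth 100000

namespace Cfsg.Agent.Lib.Helper35Fi22a

open Cfsg.Agent.Lib.Helper35TC

theorem chkU_11_0 : allD U.chkRow 11 0 = true := by decide +kernel
theorem chkU_11_1 : allD U.chkRow 11 2048 = true := by decide +kernel
theorem cntU_12_0 : cntD U.live 12 0 = 3510 := by decide +kernel
theorem chkP_9_0 : allD P.chkPt 9 0 = true := by decide +kernel
theorem chkP_9_1 : allD P.chkPt 9 512 = true := by decide +kernel
theorem chkP_9_2 : allD P.chkPt 9 1024 = true := by decide +kernel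
theorem chkP_9_3 : allD P.chkPt 9 1536 = true := by decide +kernel
theorem chkP_9_4 : allD P.chkPt 9 2048 = true := by decide +kernel
theorem chkP_9_5 : allD P.chkPt 9 2560 = true := by decide +kernel
theorem chkP_9_6 : allD P.chkPt 9 3072 = true := by decide +kernel
theorem chkP_9_7 : allD P.chkPt 9 3584 = true := by decide +kernel
theorem chkO_11_0 : allD P.chkOrb 11 0 = true := by decide +kernel
theorem chkO_11_1 : allD P.chkOrb 11 2048 = true := by decide +kernel
theorem cntO0_12_0 : cntD (P.labIs 0) 12 0 = 1 := by decide +kernel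
theorem cntO1_12_0 : cntD (P.labIs 1) 12 0 = 2816 := by decide +kernel
theorem cntO2_12_0 : cntD (P.labIs 2) 12 0 = 693 := by decide +kernel

end Cfsg.Agent.Lib.Helper35Fi22a
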