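import Cfsg.Agent.Lib.Helper35Fi22aChk0
import Cfsg.Prelude.Def_Spor_Fi22

set_option autoImplicit false
set_option maxRecDepth 100000

namespace Cfsg.Agent.Lib.Helper35Fi22a

open Cfsg.Agent.Lib.Helper35TC

open Cfsg.Spor

theorem chkU_12_0 : allD U.chkRow 12 0 = true :=
  allD_join chkU_11_0 chkU_11_1 (by norm_num)
theorem chkP_10_0 : allD P.chkPt 10 0 = true :=
  allD_join chkP_9_0 chkP_9_1 (by norm_num)
theorem chkP_10_1 : allD P.chkPt 10 1024 = true :=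
  allD_join chkP_9_2 chkP_9_3 (by norm_num)
theorem chkP_10_2 : allD P.chkPt 10 2048 = true :=
  allD_join chkP_9_4 chkP_9_5 (by norm_num)
theorem chkP_10_3 : allD P.chkPt 10 3072 = true :=
  allD_join chkP_9_6 chkP_9_7 (by norm_num)
theorem chkP_11_0 : allD P.chkPt 11 0 = true :=
  allD_join chkP_10_0 chkP_10_1 (by norm_num)
theorem chkP_11_1 : allD P.chkPt 11 2048 = true :=
  allD_join chkP_10_2 chkP_10_3 (by norm_num)
theorem chkP_12_0 : allD P.chkPt 12 0 = true :=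
  allD_join chkP_11_0 chkP_11_1 (by norm_num)
theorem chkO_12_0 : allD P.chkOrb 12 0 = true :=
  allD_join chkO_11_0 chkO_11_1 (by norm_num)

def extraExps : List (WExp Cfsg.Spor.Fi22.Gen) := [
  (.pow (.mul (.mul (.mul (.mul (.mul (.mul (.mul (.mul (.of .d) (.of .c)) (.of .b)) (.of .d)) (.of .e)) (.of .f)) (.of .d)) (.of .h)) (.of .i)) 10),
  (.pow (.mul (.mul (.mul (.mul (.mul (.mul (.of .a) (.of .b)) (.of .c)) (.of .d)) (.of .e)) (.of .f)) (.of .h)) 9),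
  (.pow (.mul (.mul (.mul (.mul (.mul (.mul (.of .b) (.of .c)) (.of .d)) (.of .e)) (.of .f)) (.of .g)) (.of .h)) 9)]

def subExps : List (WExp Cfsg.Spor.Fi22.Gen) := [
  (.of .a),
  (.of .c),
  (.of .d),
  (.of .e),
  (.of .f),
  (.of .g),
  (.of .h),
  (.of .i),
  (.pow (.mul (.mul (.mul (.mul (.mul (.of .a) (.of .b)) (.of .c)) (.of .d)) (.of .e)) (.of .h)) 5)]

def code : Cfsg.Spor.Fi22.Gen → ℕ
  | .a => 0
  | .b => 1
  | .c => 2
  | .d => 3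
  | .e => 4
  | .f => 5
  | .g => 6
  | .h => 7
  | .i => 8

noncomputable def K : Pkg Cfsg.Spor.Fi22.Gen where
  rels := coxRelators Cfsg.Spor.Fi22.edges ∪ {r | r ∈ Cfsg.Spor.Fi22.extra}
  S := {Cfsg.Spor.Fi22.a, Cfsg.Spor.Fi22.c, Cfsg.Spor.Fi22.d, Cfsg.Spor.Fi22.e, Cfsg.Spor.Fi22.f, Cfsg.Spor.Fi22.g, Cfsg.Spor.Fi22.h, Cfsg.Spor.Fi22.i, (Cfsg.Spor.Fi22.a * Cfsg.Spor.Fi22.b * Cfsg.Spor.Fi22.c * Cfsg.Spor.Fi22.d * Cfsg.Spor.Fi22.e * Cfsg.Spor.Fi22.h) ^ 5}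
  relExps := coxExps Cfsg.Spor.Fi22.edges ++ extraExps
  subExps := subExps
  code := code
  letters := [FreeGroup.of Cfsg.Spor.Fi22.Gen.a, FreeGroup.of Cfsg.Spor.Fi22.Gen.b, FreeGroup.of Cfsg.Spor.Fi22.Gen.c, FreeGroup.of Cfsg.Spor.Fi22.Gen.d, FreeGroup.of Cfsg.Spor.Fi22.Gen.e, FreeGroup.of Cfsg.Spor.Fi22.Gen.f, FreeGroup.of Cfsg.Spor.Fi22.Gen.g, FreeGroup.of Cfsg.Spor.Fi22.Gen.h, FreeGroup.of Cfsg.Spor.Fi22.Gen.i]
  U := U
  rotT := tR
  rotSrc := rotSrc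
  relWords := relWords
  P := P

theorem hS : ∀ s, s ∈ K.S ↔ ∃ e ∈ K.subExps, s = e.eval := by
  intro s
  constructor
  · intro hs
    have hs' : s ∈ ({Cfsg.Spor.Fi22.a, Cfsg.Spor.Fi22.c, Cfsg.Spor.Fi22.d, Cfsg.Spor.Fi22.e, Cfsg.Spor.Fi22.f, Cfsg.Spor.Fi22.g, Cfsg.Spor.Fi22.h, Cfsg.Spor.Fi22.i, (Cfsg.Spor.Fi22.a * Cfsg.Spor.Fi22.b * Cfsg.Spor.Fi22.c * Cfsg.Spor.Fi22.d * Cfsg.Spor.Fi22.e * Cfsg.Spor.Fi22.h) ^ 5} : Set (FreeGroup Cfsg.Spor.Fi22.Gen)) := hs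
    simp only [Set.mem_insert_iff, Set.mem_singleton_iff] at hs'
    rcases hs' with rfl | rfl | rfl | rfl | rfl | rfl | rfl | rfl | rfl
    · exact ⟨(.of .a), by simp [K, subExps], rfl⟩
    · exact ⟨(.of .c), by simp [K, subExps], rfl⟩
    · exact ⟨(.of .d), by simp [K, subExps], rfl⟩
    · exact ⟨(.of .e), by simp [K, subExps], rfl⟩
    · exact ⟨(.of .f), by simp [K, subExps], rfl⟩
    · exact ⟨(.of .g), by simp [K, subExps], rfl⟩
    · exact ⟨(.of .h), by simp [K, subExps], rfl⟩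
    · exact ⟨(.of .i), by simp [K, subExps], rfl⟩
    · exact ⟨(.pow (.mul (.mul (.mul (.mul (.mul (.of .a) (.of .b)) (.of .c)) (.of .d)) (.of .e)) (.of .h)) 5), by simp [K, subExps], rfl⟩
  · rintro ⟨e, he, rfl⟩
    have he' : e ∈ subExps := he
    simp only [subExps, List.mem_cons, List.not_mem_nil, or_false] at he'
    show e.eval ∈ ({Cfsg.Spor.Fi22.a, Cfsg.Spor.Fi22.c, Cfsg.Spor.Fi22.d, Cfsg.Spor.Fi22.e, Cfsg.Spor.Fi22.f, Cfsg.Spor.Fi22.g, Cfsg.Spor.Fi22.h, Cfsg.Spor.Fi22.i, (Cfsg.Spor.Fi22.a * Cfsg.Spor.Fi22.b * Cfsg.Spor.Fi22.c * Cfsg.Spor.Fi22.d * Cfsg.Spor.Fi22.e * Cfsg.Spor.Fi22.h) ^ 5} : Set (FreeGroup Cfsg.Spor.Fi22.Gen))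
    rcases he' with rfl | rfl | rfl | rfl | rfl | rfl | rfl | rfl | rfl <;>
      simp only [WExp.eval, Set.mem_insert_iff, Set.mem_singleton_iff, true_or, or_true]

theorem hsurj : ∀ l < K.P.L, ∃ x, l = K.code x ∨ l = K.P.iv (K.code x) := by
  intro l hl
  have hl' : l < 9 := hl
  interval_cases l
  · exact ⟨.a, Or.inl rfl⟩
  · exact ⟨.b, Or.inl rfl⟩
  · exact ⟨.c, Or.inl rfl⟩
  · exact ⟨.d, Or.inl rfl⟩
  · exact ⟨.e, Or.inl rfl⟩
  · exact ⟨.f, Or.inl rfl⟩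
  · exact ⟨.g, Or.inl rfl⟩
  · exact ⟨.h, Or.inl rfl⟩
  · exact ⟨.i, Or.inl rfl⟩

theorem hvalG_lt : ∀ l < K.P.L, K.valG (K.P.iv l) * K.valG l = 1 := by
  intro l hl
  have hl' : l < 9 := hl
  interval_cases l
  · exact cox_sq Cfsg.Spor.Fi22.edges _ .a (by decide)
  · exact cox_sq Cfsg.Spor.Fi22.edges _ .b (by decide)
  · exact cox_sq Cfsg.Spor.Fi22.edges _ .c (by decide)
  · exact cox_sq Cfsg.Spor.Fi22.edges _ .d (by decide)
  · exact cox_sq Cfsg.Spor.Fi22.edges _ .e (by decide)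
  · exact cox_sq Cfsg.Spor.Fi22.edges _ .f (by decide)
  · exact cox_sq Cfsg.Spor.Fi22.edges _ .g (by decide)
  · exact cox_sq Cfsg.Spor.Fi22.edges _ .h (by decide)
  · exact cox_sq Cfsg.Spor.Fi22.edges _ .i (by decide)

theorem hP : K.P.Valid where
  hn := by decide
  hlen := rfl
  hiv := by decide
  hpt := all_of_allD _ 12 3510 (by norm_num) chkP_12_0
  hmacL := by decide
  hrelL := by decide

theorem ok : K.Ok where
  hrels := hrels_of Cfsg.Spor.Fi22.edges Cfsg.Spor.Fi22.extra extraExps rfl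
  hS := hS
  hcodeL := by intro x; cases x <;> decide
  hletters := by intro x; cases x <;> rfl
  hsurj := hsurj
  hvalG := Pkg.hvalG_of rfl rfl hvalG_lt
  hP := hP
  hpairs := by decide +kernel
  hsubsP := by decide +kernel
  hsub0 := by decide +kernel
  hUL := rfl
  hUN := by decide
  hrot := rfl
  hrotT := by decide +kernel
  hrelW := by decide +kernel
  hUsub := fun _ => rfl
  hchk := all_of_allD _ 12 3544 (by norm_num) chkU_12_0
  hcnt := by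
    have h := card_filter_range U.live 12 3544 (by norm_num) U.live_lt
    rw [cntU_12_0] at h
    exact le_of_eq h

theorem horb : ∀ j < K.P.n, K.P.chkOrb j = true :=
  all_of_allD _ 12 3510 (by norm_num) chkO_12_0

theorem orbit0 : ∃ q : K.Grp ⧸ K.H,
    (∀ q', q' ∈ MulAction.orbit K.H q ↔ K.P.lab (ok.thetaFun q') = 0) ∧
    (MulAction.orbit K.H q).ncard = 1 := by
  obtain ⟨q, h1, h2⟩ := ok.orbit_spec horb 0 0 (by decide +kernel) (by decide) (by decide +kernel)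
  refine ⟨q, h1, ?_⟩
  have h := card_filter_range (P.labIs 0) 12 3510 (by norm_num) (P.labIs_lt 0)
  rw [cntO0_12_0] at h
  exact h2.trans h

theorem orbit1 : ∃ q : K.Grp ⧸ K.H,
    (∀ q', q' ∈ MulAction.orbit K.H q ↔ K.P.lab (ok.thetaFun q') = 1) ∧
    (MulAction.orbit K.H q).ncard = 2816 := by
  obtain ⟨q, h1, h2⟩ := ok.orbit_spec horb 1 1 (by decide +kernel) (by decide) (by decide +kernel)
  refine ⟨q, h1, ?_⟩
  have h := card_filter_range (P.labIs 1) 12 3510 (by norm_num) (P.labIs_lt 1)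
  rw [cntO1_12_0] at h
  exact h2.trans h

theorem orbit2 : ∃ q : K.Grp ⧸ K.H,
    (∀ q', q' ∈ MulAction.orbit K.H q ↔ K.P.lab (ok.thetaFun q') = 2) ∧
    (MulAction.orbit K.H q).ncard = 693 := by
  obtain ⟨q, h1, h2⟩ := ok.orbit_spec horb 2 4 (by decide +kernel) (by decide) (by decide +kernel)
  refine ⟨q, h1, ?_⟩
  have h := card_filter_range (P.labIs 2) 12 3510 (by norm_num) (P.labIs_lt 2)
  rw [cntO2_12_0] at h
  exact h2.trans h

end Cfsg.Agent.Lib.Helper35Fi22a
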