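import Cfsg.Agent.Lib.Helper35Fi22b

set_option autoImplicit false
set_option maxRecDepth 100000

namespace Cfsg.Agent.Lib.Helper35Fi22b

open Cfsg.Agent.Lib.Helper35TC

theorem chkU_11_0 : allD U.chkRow 11 0 = true := by decide +kernel
theorem chkU_11_1 : allD U.chkRow 11 2048 = true := by decide +kernel
theorem chkU_11_2 : allD U.chkRow 11 4096 = true := by decide +kernel
theorem chkU_11_3 : allD U.chkRow 11 6144 = true := by decide +kernel
theorem chkU_11_4 : allD U.chkRow 11 8192 = true := by decide +kernel
theorem chkU_11_5 : allD U.chkRow 11 10240 = true := by decide +kernel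
theorem chkU_11_6 : allD U.chkRow 11 12288 = true := by decide +kernel
theorem chkU_11_7 : allD U.chkRow 11 14336 = true := by decide +kernel
theorem cntU_14_0 : cntD U.live 14 0 = 14080 := by decide +kernel
theorem chkP_9_0 : allD P.chkPt 9 0 = true := by decide +kernel
theorem chkP_9_1 : allD P.chkPt 9 512 = true := by decide +kernel
theorem chkP_9_2 : allD P.chkPt 9 1024 = true := by decide +kernel
theorem chkP_9_3 : allD P.chkPt 9 1536 = true := by decide +kernel
theorem chkP_9_4 : allD P.chkPt 9 2048 = true := by decide +kernel

end Cfsg.Agent.Lib.Helper35Fi22b
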