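import Cfsg.Agent.Lib.Helper35Fi22b

set_option autoImplicit false
set_option maxRecDepth 100000

namespace Cfsg.Agent.Lib.Helper35Fi22b

open Cfsg.Agent.Lib.Helper35TC

theorem chkP_9_19 : allD P.chkPt 9 9728 = true := by decide +kernel
theorem chkP_9_20 : allD P.chkPt 9 10240 = true := by decide +kernel
theorem chkP_9_21 : allD P.chkPt 9 10752 = true := by decide +kernel
theorem chkP_9_22 : allD P.chkPt 9 11264 = true := by decide +kernel
theorem chkP_9_23 : allD P.chkPt 9 11776 = true := by decide +kernel
theorem chkP_9_24 : allD P.chkPt 9 12288 = true := by decide +kernel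
theorem chkP_9_25 : allD P.chkPt 9 12800 = true := by decide +kernel
theorem chkP_9_26 : allD P.chkPt 9 13312 = true := by decide +kernel
theorem chkP_9_27 : allD P.chkPt 9 13824 = true := by decide +kernel
theorem chkP_9_28 : allD P.chkPt 9 14336 = true := by decide +kernel
theorem chkP_9_29 : allD P.chkPt 9 14848 = true := by decide +kernel
theorem chkP_9_30 : allD P.chkPt 9 15360 = true := by decide +kernel
theorem chkP_9_31 : allD P.chkPt 9 15872 = true := by decide +kernel

end Cfsg.Agent.Lib.Helper35Fi22b
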