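import Cfsg.Agent.Lib.Helper35Fi22c1

set_option autoImplicit false
set_option maxRecDepth 100000

namespace Cfsg.Agent.Lib.Helper35Fi22c1

open Cfsg.Agent.Lib.Helper35TC

theorem chkU_10_0 : allD U.chkRow 10 0 = true := by decide +kernel
theorem cntU_10_0 : cntD U.live 10 0 = 364 := by decide +kernel
theorem chkP_9_0 : allD P.chkPt 9 0 = true := by decide +kernel

end Cfsg.Agent.Lib.Helper35Fi22c1
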