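import Cfsg.Agent.Lib.Helper35Fi23c1Chk0
import Cfsg.Agent.Lib.Helper35Fi23c1Chk1
import Cfsg.Agent.Lib.Helper35Fi23c1Chk2

set_option autoImplicit false
set_option maxRecDepth 100000

namespace Cfsg.Agent.Lib.Helper35Fi23c1

open Cfsg.Agent.Lib.Helper35TC

open Cfsg.Spor

inductive Gen
  | a
  | b
  | c
  | d
  | e
  | f
  | g
  | h
  | i
  deriving DecidableEq

def edges : List (Gen × ℕ × Gen) :=
  [(.a, 3, .b), (.b, 3, .c), (.c, 3, .d), (.d, 3, .e), (.d, 3, .h), (.e, 3, .f), (.f, 3, .g), (.h, 3, .i)]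

theorem chkU_12_0 : allD U.chkRow 12 0 = true :=
  allD_join chkU_11_0 chkU_11_1 (by norm_num)
theorem chkU_12_1 : allD U.chkRow 12 4096 = true :=
  allD_join chkU_11_2 chkU_11_3 (by norm_num)
theorem chkU_12_2 : allD U.chkRow 12 8192 = true :=
  allD_join chkU_11_4 chkU_11_5 (by norm_num)
theorem chkU_12_3 : allD U.chkRow 12 12288 = true :=
  allD_join chkU_11_6 chkU_11_7 (by norm_num)
theorem chkU_13_0 : allD U.chkRow 13 0 = true :=
  allD_join chkU_12_0 chkU_12_1 (by norm_num)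
theorem chkU_13_1 : allD U.chkRow 13 8192 = true :=
  allD_join chkU_12_2 chkU_12_3 (by norm_num)
theorem chkU_14_0 : allD U.chkRow 14 0 = true :=
  allD_join chkU_13_0 chkU_13_1 (by norm_num)
theorem chkP_10_0 : allD P.chkPt 10 0 = true :=
  allD_join chkP_9_0 chkP_9_1 (by norm_num)
theorem chkP_10_1 : allD P.chkPt 10 1024 = true :=
  allD_join chkP_9_2 chkP_9_3 (by norm_num)
theorem chkP_10_2 : allD P.chkPt 10 2048 = true :=
  allD_join chkP_9_4 chkP_9_5 (by norm_num)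
theorem chkP_10_3 : allD P.chkPt 10 3072 = true :=
  allD_join chkP_9_6 chkP_9_7 (by norm_num)
theorem chkP_10_4 : allD P.chkPt 10 4096 = true :=
  allD_join chkP_9_8 chkP_9_9 (by norm_num)
theorem chkP_10_5 : allD P.chkPt 10 5120 = true :=
  allD_join chkP_9_10 chkP_9_11 (by norm_num)
theorem chkP_10_6 : allD P.chkPt 10 6144 = true :=
  allD_join chkP_9_12 chkP_9_13 (by norm_num)
theorem chkP_10_7 : allD P.chkPt 10 7168 = true :=
  allD_join chkP_9_14 chkP_9_15 (by norm_num)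
theorem chkP_10_8 : allD P.chkPt 10 8192 = true :=
  allD_join chkP_9_16 chkP_9_17 (by norm_num)
theorem chkP_10_9 : allD P.chkPt 10 9216 = true :=
  allD_join chkP_9_18 chkP_9_19 (by norm_num)
theorem chkP_10_10 : allD P.chkPt 10 10240 = true :=
  allD_join chkP_9_20 chkP_9_21 (by norm_num)
theorem chkP_10_11 : allD P.chkPt 10 11264 = true :=
  allD_join chkP_9_22 chkP_9_23 (by norm_num)
theorem chkP_10_12 : allD P.chkPt 10 12288 = true :=
  allD_join chkP_9_24 chkP_9_25 (by norm_num)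
theorem chkP_10_13 : allD P.chkPt 10 13312 = true :=
  allD_join chkP_9_26 chkP_9_27 (by norm_num)
theorem chkP_10_14 : allD P.chkPt 10 14336 = true :=
  allD_join chkP_9_28 chkP_9_29 (by norm_num)
theorem chkP_10_15 : allD P.chkPt 10 15360 = true :=
  allD_join chkP_9_30 chkP_9_31 (by norm_num)
theorem chkP_11_0 : allD P.chkPt 11 0 = true :=
  allD_join chkP_10_0 chkP_10_1 (by norm_num)
theorem chkP_11_1 : allD P.chkPt 11 2048 = true :=
  allD_join chkP_10_2 chkP_10_3 (by norm_num)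
theorem chkP_11_2 : allD P.chkPt 11 4096 = true :=
  allD_join chkP_10_4 chkP_10_5 (by norm_num)
theorem chkP_11_3 : allD P.chkPt 11 6144 = true :=
  allD_join chkP_10_6 chkP_10_7 (by norm_num)
theorem chkP_11_4 : allD P.chkPt 11 8192 = true :=
  allD_join chkP_10_8 chkP_10_9 (by norm_num)
theorem chkP_11_5 : allD P.chkPt 11 10240 = true :=
  allD_join chkP_10_10 chkP_10_11 (by norm_num)
theorem chkP_11_6 : allD P.chkPt 11 12288 = true :=
  allD_join chkP_10_12 chkP_10_13 (by norm_num)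
theorem chkP_11_7 : allD P.chkPt 11 14336 = true :=
  allD_join chkP_10_14 chkP_10_15 (by norm_num)
theorem chkP_12_0 : allD P.chkPt 12 0 = true :=
  allD_join chkP_11_0 chkP_11_1 (by norm_num)
theorem chkP_12_1 : allD P.chkPt 12 4096 = true :=
  allD_join chkP_11_2 chkP_11_3 (by norm_num)
theorem chkP_12_2 : allD P.chkPt 12 8192 = true :=
  allD_join chkP_11_4 chkP_11_5 (by norm_num)
theorem chkP_12_3 : allD P.chkPt 12 12288 = true :=
  allD_join chkP_11_6 chkP_11_7 (by norm_num)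
theorem chkP_13_0 : allD P.chkPt 13 0 = true :=
  allD_join chkP_12_0 chkP_12_1 (by norm_num)
theorem chkP_13_1 : allD P.chkPt 13 8192 = true :=
  allD_join chkP_12_2 chkP_12_3 (by norm_num)
theorem chkP_14_0 : allD P.chkPt 14 0 = true :=
  allD_join chkP_13_0 chkP_13_1 (by norm_num)

def extraExps : List (WExp Cfsg.Agent.Lib.Helper35Fi23c1.Gen) := [
  (.pow (.mul (.mul (.mul (.mul (.mul (.mul (.mul (.mul (.of .d) (.of .c)) (.of .b)) (.of .d)) (.of .e)) (.of .f)) (.of .d)) (.of .h)) (.of .i)) 10),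
  (.pow (.mul (.mul (.mul (.mul (.mul (.mul (.of .a) (.of .b)) (.of .c)) (.of .d)) (.of .e)) (.of .f)) (.of .h)) 9)]

def subExps : List (WExp Cfsg.Agent.Lib.Helper35Fi23c1.Gen) := [
  (.of .b),
  (.of .c),
  (.of .d),
  (.of .e),
  (.of .f),
  (.of .g),
  (.of .h),
  (.of .i)]

def code : Cfsg.Agent.Lib.Helper35Fi23c1.Gen → ℕ
  | .a => 0
  | .b => 1
  | .c => 2
  | .d => 3
  | .e => 4
  | .f => 5
  | .g => 6
  | .h => 7
  | .i => 8

def extra : List (FreeGroup Gen) := extraExps.map WExp.eval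

noncomputable def K : Pkg Cfsg.Agent.Lib.Helper35Fi23c1.Gen where
  rels := coxRelators Cfsg.Agent.Lib.Helper35Fi23c1.edges ∪ {r | r ∈ Cfsg.Agent.Lib.Helper35Fi23c1.extra}
  S := {s | ∃ e ∈ subExps, s = e.eval}
  relExps := coxExps Cfsg.Agent.Lib.Helper35Fi23c1.edges ++ extraExps
  subExps := subExps
  code := code
  letters := [FreeGroup.of Cfsg.Agent.Lib.Helper35Fi23c1.Gen.a, FreeGroup.of Cfsg.Agent.Lib.Helper35Fi23c1.Gen.b, FreeGroup.of Cfsg.Agent.Lib.Helper35Fi23c1.Gen.c, FreeGroup.of Cfsg.Agent.Lib.Helper35Fi23c1.Gen.d, FreeGroup.of Cfsg.Agent.Lib.Helper35Fi23c1.Gen.e, FreeGroup.of Cfsg.Agent.Lib.Helper35Fi23c1.Gen.f, FreeGroup.of Cfsg.Agent.Lib.Helper35Fi23c1.Gen.g, FreeGroup.of Cfsg.Agent.Lib.Helper35Fi23c1.Gen.h, FreeGroup.of Cfsg.Agent.Lib.Helper35Fi23c1.Gen.i]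
  U := U
  rotT := tR
  rotSrc := rotSrc
  relWords := relWords
  P := P

theorem hS : ∀ s, s ∈ K.S ↔ ∃ e ∈ K.subExps, s = e.eval := fun _ => Iff.rfl

theorem hsurj : ∀ l < K.P.L, ∃ x, l = K.code x ∨ l = K.P.iv (K.code x) := by
  intro l hl
  have hl' : l < 9 := hl
  interval_cases l
  · exact ⟨.a, Or.inl rfl⟩
  · exact ⟨.b, Or.inl rfl⟩
  · exact ⟨.c, Or.inl rfl⟩
  · exact ⟨.d, Or.inl rfl⟩
  · exact ⟨.e, Or.inl rfl⟩
  · exact ⟨.f, Or.inl rfl⟩
  · exact ⟨.g, Or.inl rfl⟩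
  · exact ⟨.h, Or.inl rfl⟩
  · exact ⟨.i, Or.inl rfl⟩

theorem hvalG_lt : ∀ l < K.P.L, K.valG (K.P.iv l) * K.valG l = 1 := by
  intro l hl
  have hl' : l < 9 := hl
  interval_cases l
  · exact cox_sq Cfsg.Agent.Lib.Helper35Fi23c1.edges _ .a (by decide)
  · exact cox_sq Cfsg.Agent.Lib.Helper35Fi23c1.edges _ .b (by decide)
  · exact cox_sq Cfsg.Agent.Lib.Helper35Fi23c1.edges _ .c (by decide)
  · exact cox_sq Cfsg.Agent.Lib.Helper35Fi23c1.edges _ .d (by decide)
  · exact cox_sq Cfsg.Agent.Lib.Helper35Fi23c1.edges _ .e (by decide)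
  · exact cox_sq Cfsg.Agent.Lib.Helper35Fi23c1.edges _ .f (by decide)
  · exact cox_sq Cfsg.Agent.Lib.Helper35Fi23c1.edges _ .g (by decide)
  · exact cox_sq Cfsg.Agent.Lib.Helper35Fi23c1.edges _ .h (by decide)
  · exact cox_sq Cfsg.Agent.Lib.Helper35Fi23c1.edges _ .i (by decide)

theorem hP : K.P.Valid where
  hn := by decide
  hlen := rfl
  hiv := by decide
  hpt := all_of_allD _ 14 14080 (by norm_num) chkP_14_0
  hmacL := by decide
  hrelL := by decide

theorem ok : K.Ok where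
  hrels := hrels_of Cfsg.Agent.Lib.Helper35Fi23c1.edges Cfsg.Agent.Lib.Helper35Fi23c1.extra extraExps rfl
  hS := hS
  hcodeL := by intro x; cases x <;> decide
  hletters := by intro x; cases x <;> rfl
  hsurj := hsurj
  hvalG := Pkg.hvalG_of rfl rfl hvalG_lt
  hP := hP
  hpairs := by decide +kernel
  hsubsP := by decide +kernel
  hsub0 := by decide +kernel
  hUL := rfl
  hUN := by decide
  hrot := rfl
  hrotT := by decide +kernel
  hrelW := by decide +kernel
  hUsub := fun _ => rfl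
  hchk := all_of_allD _ 14 16318 (by norm_num) chkU_14_0
  hcnt := by
    have h := card_filter_range U.live 14 16318 (by norm_num) U.live_lt
    rw [cntU_14_0] at h
    exact le_of_eq h

end Cfsg.Agent.Lib.Helper35Fi23c1
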