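import Cfsg.Agent.Lib.Helper35Fi23aMain
import Cfsg.Agent.Lib.Helper35Fi23c1Main
import Cfsg.Agent.Lib.Helper35Fi23c2Main
import Cfsg.Agent.Lib.Helper35Fi22c2Main
import Cfsg.Agent.Lib.Helper35Fi22c3Main
import Cfsg.Agent.Lib.Helper35Fi22c4Main
import Cfsg.Agent.Lib.Helper35Ord4

set_option autoImplicit false
set_option maxRecDepth 100000

namespace Cfsg.Agent.Lib.Helper35Fi23Ub

open Cfsg.Agent.Lib.Helper35TC

theorem ub5 : Finite Cfsg.Agent.Lib.Helper35Fi22c4.K.Grp ∧ Nat.card Cfsg.Agent.Lib.Helper35Fi22c4.K.Grp ≤ 720 :=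
  Cfsg.Agent.Lib.Helper35Fi22c4.ok.chain_base rfl

def i4 : Cfsg.Agent.Lib.Helper35Fi22c4.Gen → Cfsg.Agent.Lib.Helper35Fi22c3.Gen
  | .b => .b
  | .c => .c
  | .d => .d
  | .e => .e
  | .f => .f

theorem hmem4 : ∀ e ∈ Cfsg.Agent.Lib.Helper35Fi22c4.K.relExps, e.map i4 ∈ Cfsg.Agent.Lib.Helper35Fi22c3.K.relExps := by decide +kernel

theorem ub4 : Finite Cfsg.Agent.Lib.Helper35Fi22c3.K.Grp ∧ Nat.card Cfsg.Agent.Lib.Helper35Fi22c3.K.Grp ≤ 72 * 720 :=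
  Cfsg.Agent.Lib.Helper35Fi22c3.ok.chain_step Cfsg.Agent.Lib.Helper35Fi22c4.ok i4 (fun e he => Cfsg.Agent.Lib.Helper35Fi22c3.ok.rel_one (hmem4 e he))
    (hsub_of_list i4 _ [(.of .b), (.of .c), (.of .d), (.of .e), (.of .f)] (by decide +kernel)) 720 ub5

def i3 : Cfsg.Agent.Lib.Helper35Fi22c3.Gen → Cfsg.Agent.Lib.Helper35Fi22c2.Gen
  | .b => .b
  | .c => .c
  | .d => .d
  | .e => .e
  | .f => .f
  | .h => .h

theorem hmem3 : ∀ e ∈ Cfsg.Agent.Lib.Helper35Fi22c3.K.relExps, e.map i3 ∈ Cfsg.Agent.Lib.Helper35Fi22c2.K.relExps := by decide +kernel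

theorem ub3 : Finite Cfsg.Agent.Lib.Helper35Fi22c2.K.Grp ∧ Nat.card Cfsg.Agent.Lib.Helper35Fi22c2.K.Grp ≤ 243 * 51840 :=
  Cfsg.Agent.Lib.Helper35Fi22c2.ok.chain_step Cfsg.Agent.Lib.Helper35Fi22c3.ok i3 (fun e he => Cfsg.Agent.Lib.Helper35Fi22c2.ok.rel_one (hmem3 e he))
    (hsub_of_list i3 _ [(.of .b), (.of .c), (.of .d), (.of .e), (.of .f), (.of .h)] (by decide +kernel)) 51840 ub4

def i2 : Cfsg.Agent.Lib.Helper35Fi22c2.Gen → Cfsg.Agent.Lib.Helper35Fi23c2.Gen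
  | .b => .b
  | .c => .c
  | .d => .d
  | .e => .e
  | .f => .f
  | .h => .h
  | .i => .i

theorem hmem2 : ∀ e ∈ Cfsg.Agent.Lib.Helper35Fi22c2.K.relExps, e.map i2 ∈ Cfsg.Agent.Lib.Helper35Fi23c2.K.relExps := by decide +kernel

theorem ub2 : Finite Cfsg.Agent.Lib.Helper35Fi23c2.K.Grp ∧ Nat.card Cfsg.Agent.Lib.Helper35Fi23c2.K.Grp ≤ 728 * 12597120 :=
  Cfsg.Agent.Lib.Helper35Fi23c2.ok.chain_step Cfsg.Agent.Lib.Helper35Fi22c2.ok i2 (fun e he => Cfsg.Agent.Lib.Helper35Fi23c2.ok.rel_one (hmem2 e he))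
    (hsub_of_list i2 _ [(.of .b), (.of .c), (.of .d), (.of .e), (.of .f), (.of .h), (.of .i)] (by decide +kernel)) 12597120 ub3

def i1 : Cfsg.Agent.Lib.Helper35Fi23c2.Gen → Cfsg.Agent.Lib.Helper35Fi23c1.Gen
  | .b => .b
  | .c => .c
  | .d => .d
  | .e => .e
  | .f => .f
  | .g => .g
  | .h => .h
  | .i => .i

theorem hmem1 : ∀ e ∈ Cfsg.Agent.Lib.Helper35Fi23c2.K.relExps, e.map i1 ∈ Cfsg.Agent.Lib.Helper35Fi23c1.K.relExps := by decide +kernel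

theorem ub1 : Finite Cfsg.Agent.Lib.Helper35Fi23c1.K.Grp ∧ Nat.card Cfsg.Agent.Lib.Helper35Fi23c1.K.Grp ≤ 14080 * 9170703360 :=
  Cfsg.Agent.Lib.Helper35Fi23c1.ok.chain_step Cfsg.Agent.Lib.Helper35Fi23c2.ok i1 (fun e he => Cfsg.Agent.Lib.Helper35Fi23c1.ok.rel_one (hmem1 e he))
    (hsub_of_list i1 _ [(.of .b), (.of .c), (.of .d), (.of .e), (.of .f), (.of .g), (.of .h), (.of .i)] (by decide +kernel)) 9170703360 ub2

def i0 : Cfsg.Agent.Lib.Helper35Fi23c1.Gen → Cfsg.Spor.Fi23.Gen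
  | .a => .a
  | .b => .b
  | .c => .c
  | .d => .d
  | .e => .e
  | .f => .f
  | .g => .g
  | .h => .h
  | .i => .i

theorem hmem0 : ∀ e ∈ Cfsg.Agent.Lib.Helper35Fi23c1.K.relExps, e.map i0 ∈ Cfsg.Agent.Lib.Helper35Fi23a.K.relExps := by decide +kernel

theorem ub0 : Finite Cfsg.Agent.Lib.Helper35Fi23a.K.Grp ∧ Nat.card Cfsg.Agent.Lib.Helper35Fi23a.K.Grp ≤ 31671 * 129123503308800 :=
  Cfsg.Agent.Lib.Helper35Fi23a.ok.chain_step Cfsg.Agent.Lib.Helper35Fi23c1.ok i0 (fun e he => Cfsg.Agent.Lib.Helper35Fi23a.ok.rel_one (hmem0 e he))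
    (hsub_of_list i0 _ [(.of .a), (.of .b), (.of .c), (.of .d), (.of .e), (.of .f), (.of .g), (.of .h), (.of .i)] (by decide +kernel)) 129123503308800 ub1

end Cfsg.Agent.Lib.Helper35Fi23Ub
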