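import Cfsg.Agent.Lib.Helper35Dc
import Cfsg.Agent.Lib.Helper35Fi23Fin
import Cfsg.Agent.Lib.Helper35Fi22Fin

set_option autoImplicit false
set_option maxRecDepth 100000

namespace Cfsg.Agent.Lib.Helper35Fi23Dc

open Cfsg.Agent.Lib.Helper35TC

noncomputable abbrev K3 : Pkg Cfsg.Spor.Fi23.Gen := Cfsg.Agent.Lib.Helper35Fi23a.K
noncomputable abbrev K2 : Pkg Cfsg.Spor.Fi22.Gen := Cfsg.Agent.Lib.Helper35Fi22a.K
noncomputable abbrev BD3 : BData := Cfsg.Agent.Lib.Helper35Fi23a.BD

theorem ok3 : K3.Ok := Cfsg.Agent.Lib.Helper35Fi23a.ok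
theorem ok2 : K2.Ok := Cfsg.Agent.Lib.Helper35Fi22a.ok

def io : Cfsg.Spor.Fi22.Gen → Cfsg.Spor.Fi23.Gen
  | .a => .a
  | .b => .b
  | .c => .c
  | .d => .d
  | .e => .e
  | .f => .f
  | .g => .g
  | .h => .h
  | .i => .i

def zE : WExp Cfsg.Spor.Fi23.Gen :=
  (.pow (.mul (.mul (.mul (.mul (.mul (.mul (.of .b) (.of .c)) (.of .d)) (.of .e)) (.of .f)) (.of .g)) (.of .h)) 9)

theorem hmem : ∀ e ∈ K2.relExps, e.map io ∈ K3.relExps ∨ e.map io = zE := by decide +kernel

noncomputable def z : K3.Grp := PresentedGroup.mk K3.rels zE.eval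

theorem z_mem : z ∈ K3.H := by
  rw [ok3.mem_H_iff]
  apply Fin.ext
  rw [z, ok3.phi_mk_apply]
  show K3.P.walkA (zE.app K3.code K3.P.iv) 0 = 0
  decide +kernel

theorem z_ne : z ≠ 1 := by
  intro h
  have h1 := ok3.phi_mk_apply zE ⟨1, by decide⟩
  have h2 : PresentedGroup.mk K3.rels zE.eval = 1 := h
  rw [h2, map_one] at h1
  have h3 : (1 : ℕ) = K3.P.walkA (zE.app K3.code K3.P.iv) 1 := h1
  revert h3
  decide +kernel

theorem z_sq : z * z = 1 := by
  have := Cfsg.Agent.Lib.Helper35Fi23Fin.word_eq_one (.mul zE zE) (by decide +kernel)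
  simp only [WExp.eval, map_mul] at this
  exact this

theorem hcomm_chk : ∀ e ∈ K3.subExps,
    BD3.fixChk K3.P ((WExp.mul (.mul e zE) (.inv (.mul zE e))).app K3.code K3.P.iv) = true := by
  decide +kernel

theorem z_comm : ∀ g ∈ K3.H, g * z = z * g := by
  have : K3.H ≤ Subgroup.centralizer {z} := by
    apply ok3.H_le
    intro e he
    rw [Subgroup.mem_centralizer_singleton_iff]
    have h1 := Cfsg.Agent.Lib.Helper35Fi23Fin.word_eq_one _ (hcomm_chk e he)
    simp only [WExp.eval, map_mul, map_inv] at h1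
    exact mul_inv_eq_one.mp h1
  intro g hg
  exact Subgroup.mem_centralizer_singleton_iff.mp (this hg)

abbrev Hs : Type := ↥K3.H

noncomputable def z' : Hs := ⟨z, z_mem⟩

noncomputable def Z : Subgroup Hs := Subgroup.zpowers z'

theorem z'_center : z' ∈ Subgroup.center Hs := by
  rw [Subgroup.mem_center_iff]
  intro g
  exact Subtype.ext (z_comm g.1 g.2)

theorem hZc : Z ≤ Subgroup.center Hs := Subgroup.zpowers_le.mpr z'_center

instance : Z.Normal where
  conj_mem n hn g := by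
    have h1 := Subgroup.mem_center_iff.mp (hZc hn) g
    rw [h1, mul_inv_cancel_right]
    exact hn

theorem hZ2 : Nat.card Z = 2 := by
  haveI : Fact (Nat.Prime 2) := ⟨Nat.prime_two⟩
  rw [Z, Nat.card_zpowers]
  apply orderOf_eq_prime
  · rw [pow_two]; exact Subtype.ext z_sq
  · intro h
    exact z_ne (congrArg Subtype.val h)

theorem of_mem (x : Cfsg.Spor.Fi22.Gen) : WExp.of (io x) ∈ K3.subExps := by
  cases x <;> decide +kernel

noncomputable def γ (x : Cfsg.Spor.Fi22.Gen) : Hs :=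
  ⟨PresentedGroup.mk K3.rels (WExp.of (io x)).eval, ok3.mem_H_of_sub (of_mem x)⟩

noncomputable def θ : FreeGroup Cfsg.Spor.Fi22.Gen →* Hs := FreeGroup.lift γ

theorem hθ (w : FreeGroup Cfsg.Spor.Fi22.Gen) :
    ((θ w : Hs) : K3.Grp) = PresentedGroup.mk K3.rels (FreeGroup.map io w) := by
  have : (K3.H.subtype).comp θ = (PresentedGroup.mk K3.rels).comp (FreeGroup.map io) := by
    ext x
    simp [θ, γ, WExp.eval]
  exact congrArg (fun f => f w) this

theorem θ_eval (e : WExp Cfsg.Spor.Fi22.Gen) :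
    ((θ e.eval : Hs) : K3.Grp) = PresentedGroup.mk K3.rels (e.map io).eval := by
  rw [hθ, WExp.eval_map]

theorem θ_rel (e : WExp Cfsg.Spor.Fi22.Gen) (h : e.map io ∈ K3.relExps) : θ e.eval = 1 :=
  Subtype.ext (by rw [θ_eval]; exact ok3.rel_one h)

theorem θ_surj : Function.Surjective θ := by
  intro h
  have hle : K3.H ≤ ((PresentedGroup.mk K3.rels).comp (FreeGroup.map io)).range := by
    apply ok3.H_le
    intro e he
    obtain ⟨e', rfl⟩ := hsub_of_list io K3.subExps
      [(.of .a), (.of .b), (.of .c), (.of .d), (.of .e), (.of .f), (.of .g), (.of .h), (.of .i)]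
      (by decide +kernel) e he
    exact ⟨e'.eval, by rw [WExp.eval_map]; rfl⟩
  obtain ⟨w, hw⟩ := hle h.2
  exact ⟨w, Subtype.ext (by rw [hθ]; exact hw)⟩

theorem lift_eq (w : FreeGroup Cfsg.Spor.Fi22.Gen) :
    FreeGroup.lift (fun x => QuotientGroup.mk' Z (γ x)) w = QuotientGroup.mk' Z (θ w) := by
  have : FreeGroup.lift (fun x => QuotientGroup.mk' Z (γ x)) = (QuotientGroup.mk' Z).comp θ := by
    ext x
    simp [θ]
  rw [this]; rfl

noncomputable def ψ : K2.Grp →* Hs ⧸ Z :=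
  PresentedGroup.toGroup (f := fun x => QuotientGroup.mk' Z (γ x)) (by
    intro r hr
    obtain ⟨e, he, rfl⟩ := (ok2.hrels r).mp hr
    rw [lift_eq]
    rcases hmem e he with h | h
    · rw [θ_rel e h, map_one]
    · have : θ e.eval = z' := Subtype.ext (by rw [θ_eval, h]; rfl)
      rw [this]
      exact (QuotientGroup.eq_one_iff _).mpr (Subgroup.mem_zpowers z'))

theorem ψ_surj : Function.Surjective ψ := by
  intro q
  obtain ⟨h, rfl⟩ := QuotientGroup.mk'_surjective Z q
  obtain ⟨w, rfl⟩ := θ_surj h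
  exact ⟨PresentedGroup.mk K2.rels w, lift_eq w⟩

theorem top_of_γ (M : Subgroup Hs) (hM : ∀ x, γ x ∈ M) : M = ⊤ := by
  have h1 : M.comap θ = ⊤ := by
    rw [eq_top_iff, ← FreeGroup.closure_range_of, Subgroup.closure_le]
    rintro _ ⟨x, rfl⟩
    show θ (FreeGroup.of x) ∈ M
    simpa [θ] using hM x
  rw [eq_top_iff]
  intro h _
  obtain ⟨w, rfl⟩ := θ_surj h
  have : w ∈ M.comap θ := by rw [h1]; trivial
  exact this

theorem γ_sq (x : Cfsg.Spor.Fi22.Gen) : γ x * γ x = 1 := by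
  have := θ_rel (.pow (.mul (.of x) (.of x)) 1) (by cases x <;> decide +kernel)
  simpa [WExp.eval, θ] using this

theorem γ_braid (x y : Cfsg.Spor.Fi22.Gen)
    (h : (WExp.pow (.mul (.of x) (.of y)) 3).map io ∈ K3.relExps) : (γ x * γ y) ^ 3 = 1 := by
  have := θ_rel _ h
  simpa [WExp.eval, θ] using this

theorem hperf : commutator Hs = ⊤ := by
  rw [← Abelianization.ker_of]
  apply top_of_γ
  set q : Hs →* Abelianization Hs := Abelianization.of with hq
  have hb : ∀ x y, (WExp.pow (.mul (.of x) (.of y)) 3).map io ∈ K3.relExps → q (γ x) = q (γ y) :=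
    fun x y h => braid_eq q (γ_sq x) (γ_sq y) (γ_braid x y h)
  have hc := hb .c .d (by decide +kernel)
  have hbb := (hb .b .c (by decide +kernel)).trans hc
  have ha := (hb .a .b (by decide +kernel)).trans hbb
  have he := hb .e .d (by decide +kernel)
  have hf := (hb .f .e (by decide +kernel)).trans he
  have hg := (hb .g .f (by decide +kernel)).trans hf
  have hh := hb .h .d (by decide +kernel)
  have hi := (hb .i .h (by decide +kernel)).trans hh
  have hd2 : q (γ .d) * q (γ .d) = 1 := by rw [← map_mul, γ_sq, map_one]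
  have hodd := θ_rel (.pow (.mul (.mul (.mul (.mul (.mul (.mul (.of .a) (.of .b)) (.of .c)) (.of .d)) (.of .e)) (.of .f)) (.of .h)) 9) (by decide +kernel)
  have hodd2 := congrArg q hodd
  simp only [WExp.eval, θ, map_pow, map_mul, FreeGroup.lift_apply_of, map_one, ha, hbb, hc, he, hf,
    hh] at hodd2
  have hd1 : q (γ .d) = 1 := by
    set t := q (γ .d) with ht
    have e1 : (t * t * t * t * t * t * t) = t := by
      rw [hd2, one_mul, hd2, one_mul, hd2, one_mul]
    rw [e1] at hodd2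
    have e2 : t ^ 9 = t := by
      have : t ^ 9 = (t * t) ^ 4 * t := by rw [← pow_two, ← pow_mul, ← pow_succ]
      rw [this, hd2, one_pow, one_mul]
    rw [e2] at hodd2
    exact hodd2
  intro x
  rw [MonoidHom.mem_ker]
  cases x
  · rw [ha, hd1]
  · rw [hbb, hd1]
  · rw [hc, hd1]
  · exact hd1
  · rw [he, hd1]
  · rw [hf, hd1]
  · rw [hg, hd1]
  · rw [hh, hd1]
  · rw [hi, hd1]

theorem main : Cfsg.IsNonsplitDoubleCover Hs K2.Grp := by
  haveI : Finite K3.Grp := Cfsg.Agent.Lib.Helper35Fi23Fin.hub.1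
  haveI : IsSimpleGroup K2.Grp := Cfsg.Agent.Lib.Helper35Fi22Fin.simple
  apply nonsplit_of (H := Hs) (Q := K2.Grp) ?_ hperf Z hZc hZ2 ψ ψ_surj ?_
  · rw [Cfsg.Agent.Lib.Helper35Fi22Fin.card_eq]
    norm_num
  · rw [Cfsg.Agent.Lib.Helper35Fi22Fin.card_eq]
    exact Cfsg.Agent.Lib.Helper35Fi23Fin.card_H

end Cfsg.Agent.Lib.Helper35Fi23Dc
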