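import Cfsg.Agent.Lib.Helper35Fi23a

set_option autoImplicit false
set_option maxRecDepth 100000

namespace Cfsg.Agent.Lib.Helper35Fi23a

open Cfsg.Agent.Lib.Helper35TC

theorem chkU_11_21 : allD U.chkRow 11 43008 = true := by decide +kernel
theorem chkU_11_22 : allD U.chkRow 11 45056 = true := by decide +kernel
theorem chkU_11_23 : allD U.chkRow 11 47104 = true := by decide +kernel
theorem chkU_11_24 : allD U.chkRow 11 49152 = true := by decide +kernel
theorem chkU_11_25 : allD U.chkRow 11 51200 = true := by decide +kernel
theorem chkU_11_26 : allD U.chkRow 11 53248 = true := by decide +kernel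
theorem chkU_11_27 : allD U.chkRow 11 55296 = true := by decide +kernel
theorem chkU_11_28 : allD U.chkRow 11 57344 = true := by decide +kernel
theorem chkU_11_29 : allD U.chkRow 11 59392 = true := by decide +kernel
theorem chkU_11_30 : allD U.chkRow 11 61440 = true := by decide +kernel
theorem chkU_11_31 : allD U.chkRow 11 63488 = true := by decide +kernel
theorem cntU_14_0 : cntD U.live 14 0 = 9639 := by decide +kernel
theorem cntU_14_1 : cntD U.live 14 16384 = 12008 := by decide +kernel
theorem cntU_14_2 : cntD U.live 14 32768 = 10024 := by decide +kernel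
theorem cntU_14_3 : cntD U.live 14 49152 = 0 := by decide +kernel
theorem chkP_9_0 : allD P.chkPt 9 0 = true := by decide +kernel
theorem chkP_9_1 : allD P.chkPt 9 512 = true := by decide +kernel
theorem chkP_9_2 : allD P.chkPt 9 1024 = true := by decide +kernel
theorem chkP_9_3 : allD P.chkPt 9 1536 = true := by decide +kernel
theorem chkP_9_4 : allD P.chkPt 9 2048 = true := by decide +kernel
theorem chkP_9_5 : allD P.chkPt 9 2560 = true := by decide +kernel

end Cfsg.Agent.Lib.Helper35Fi23a
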