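import Cfsg.Agent.Lib.Helper35Fi24aD0
import Cfsg.Agent.Lib.Helper35Fi24aD1
import Cfsg.Agent.Lib.Helper35Fi24aD2
import Cfsg.Agent.Lib.Helper35Fi24aD3
import Cfsg.Agent.Lib.Helper35Fi24aD4
import Cfsg.Agent.Lib.Helper35Fi24aD5
import Cfsg.Agent.Lib.Helper35Fi24aD6
import Cfsg.Agent.Lib.Helper35Fi24aD7
import Cfsg.Agent.Lib.Helper35Fi24aD8
import Cfsg.Agent.Lib.Helper35Fi24aD9
import Cfsg.Agent.Lib.Helper35Fi24aD10
import Cfsg.Agent.Lib.Helper35Fi24aD11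
import Cfsg.Agent.Lib.Helper35Fi24aD12
import Cfsg.Agent.Lib.Helper35Fi24aD13
import Cfsg.Agent.Lib.Helper35Fi24aD14
import Cfsg.Agent.Lib.Helper35Fi24aD15
import Cfsg.Agent.Lib.Helper35Fi24aD16
import Cfsg.Agent.Lib.Helper35Fi24aD17
import Cfsg.Agent.Lib.Helper35Fi24aD18

set_option autoImplicit false
set_option maxRecDepth 100000

namespace Cfsg.Agent.Lib.Helper35Fi24a

open Cfsg.Agent.Lib.Helper35TC

def tU : Tr := (Tr.node (Tr.node (Tr.node (Tr.node (Tr.node (Tr.node (Tr.node (Tr.node tU_0 tU_128) (Tr.node tU_64 tU_192)) (Tr.node (Tr.node tU_32 tU_160) (Tr.node tU_96 tU_224))) (Tr.node (Tr.node (Tr.node tU_16 tU_144) (Tr.node tU_80 tU_208)) (Tr.node (Tr.node tU_48 tU_176) (Tr.node tU_112 tU_240)))) (Tr.node (Tr.node (Tr.node (Tr.node tU_8 tU_136) (Tr.node tU_72 tU_200)) (Tr.node (Tr.node tU_40 tU_168) (Tr.node tU_104 tU_232))) (Tr.node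 (Tr.node (Tr.node tU_24 tU_152) (Tr.node tU_88 tU_216)) (Tr.node (Tr.node tU_56 tU_184) (Tr.node tU_120 tU_248))))) (Tr.node (Tr.node (Tr.node (Tr.node (Tr.node tU_4 tU_132) (Tr.node tU_68 tU_196)) (Tr.node (Tr.node tU_36 tU_164) (Tr.node tU_100 tU_228))) (Tr.node (Tr.node (Tr.node tU_20 tU_148) (Tr.node tU_84 tU_212)) (Tr.node (Tr.node tU_52 tU_180) (Tr.node tU_116 tU_244)))) (Tr.node (Tr.node (Tr.node (Tr.node tU_12 tU_140) (Tr.node tU_76 tU_204)) (Tr.node (Tr.node tU_44 tU_172) (Tr.node tU_108 tU_236))) (Tr.node (Tr.node (Tr.node tU_28 tU_156) (Tr.node tU_92 tU_220)) (Tr.node (Tr.node tU_60 tU_188) (Tr.node tU_124 tU_252)))))) (Tr.node (Tr.node (Tr.node (Tr.node (Tr.node (Tr.node tU_2 tU_130) (Tr.node tU_66 tU_194)) (Tr.node (Tr.node tU_34 tU_162) (Tr.node tU_98 tU_226))) (Tr.node (Tr.node (Tr.node tU_18 tU_146) (Tr.node tU_82 tU_210))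 (Tr.node (Tr.node tU_50 tU_178) (Tr.node tU_114 tU_242)))) (Tr.node (Tr.node (Tr.node (Tr.node tU_10 tU_138) (Tr.node tU_74 tU_202)) (Tr.node (Tr.node tU_42 tU_170) (Tr.node tU_106 tU_234))) (Tr.node (Tr.node (Tr.node tU_26 tU_154) (Tr.node tU_90 tU_218)) (Tr.node (Tr.node tU_58 tU_186) (Tr.node tU_122 tU_250))))) (Tr.node (Tr.node (Tr.node (Tr.node (Tr.node tU_6 tU_134) (Tr.node tU_70 tU_198)) (Tr.node (Tr.node tU_38 tU_166) (Tr.node tU_102 tU_230))) (Tr.node (Tr.node (Tr.node tU_22 tU_150) (Tr.node tU_86 tU_214)) (Tr.node (Tr.node tU_54 tU_182) (Tr.node tU_118 tU_246)))) (Tr.node (Tr.node (Tr.node (Tr.node tU_14 tU_142) (Tr.node tU_78 tU_206)) (Tr.node (Tr.node tU_46 tU_174) (Tr.node tU_110 tU_238))) (Tr.node (Tr.node (Tr.node tU_30 tU_158) (Tr.node tU_94 tU_222)) (Tr.node (Tr.node tU_62 tU_190) (Tr.node tU_126 tU_254))))))) (Tr.node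 (Tr.node (Tr.node (Tr.node (Tr.node (Tr.node (Tr.node tU_1 tU_129) (Tr.node tU_65 tU_193)) (Tr.node (Tr.node tU_33 tU_161) (Tr.node tU_97 tU_225))) (Tr.node (Tr.node (Tr.node tU_17 tU_145) (Tr.node tU_81 tU_209)) (Tr.node (Tr.node tU_49 tU_177) (Tr.node tU_113 tU_241)))) (Tr.node (Tr.node (Tr.node (Tr.node tU_9 tU_137) (Tr.node tU_73 tU_201)) (Tr.node (Tr.node tU_41 tU_169) (Tr.node tU_105 tU_233))) (Tr.node (Tr.node (Tr.node tU_25 tU_153) (Tr.node tU_89 tU_217)) (Tr.node (Tr.node tU_57 tU_185) (Tr.node tU_121 tU_249))))) (Tr.node (Tr.node (Tr.node (Tr.node (Tr.node tU_5 tU_133) (Tr.node tU_69 tU_197)) (Tr.node (Tr.node tU_37 tU_165) (Tr.node tU_101 tU_229))) (Tr.node (Tr.node (Tr.node tU_21 tU_149) (Tr.node tU_85 tU_213)) (Tr.node (Tr.node tU_53 tU_181) (Tr.node tU_117 tU_245)))) (Tr.node (Tr.node (Tr.node (Tr.node tU_13 tU_141) (Tr.node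 tU_77 tU_205)) (Tr.node (Tr.node tU_45 tU_173) (Tr.node tU_109 tU_237))) (Tr.node (Tr.node (Tr.node tU_29 tU_157) (Tr.node tU_93 tU_221)) (Tr.node (Tr.node tU_61 tU_189) (Tr.node tU_125 tU_253)))))) (Tr.node (Tr.node (Tr.node (Tr.node (Tr.node (Tr.node tU_3 tU_131) (Tr.node tU_67 tU_195)) (Tr.node (Tr.node tU_35 tU_163) (Tr.node tU_99 tU_227))) (Tr.node (Tr.node (Tr.node tU_19 tU_147) (Tr.node tU_83 tU_211)) (Tr.node (Tr.node tU_51 tU_179) (Tr.node tU_115 tU_243)))) (Tr.node (Tr.node (Tr.node (Tr.node tU_11 tU_139) (Tr.node tU_75 tU_203)) (Tr.node (Tr.node tU_43 tU_171) (Tr.node tU_107 tU_235))) (Tr.node (Tr.node (Tr.node tU_27 tU_155) (Tr.node tU_91 tU_219)) (Tr.node (Tr.node tU_59 tU_187) (Tr.node tU_123 tU_251))))) (Tr.node (Tr.node (Tr.node (Tr.node (Tr.node tU_7 tU_135) (Tr.node tU_71 tU_199)) (Tr.node (Tr.node tU_39 tU_167) (Tr.node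 tU_103 tU_231))) (Tr.node (Tr.node (Tr.node tU_23 tU_151) (Tr.node tU_87 tU_215)) (Tr.node (Tr.node tU_55 tU_183) (Tr.node tU_119 tU_247)))) (Tr.node (Tr.node (Tr.node (Tr.node tU_15 tU_143) (Tr.node tU_79 tU_207)) (Tr.node (Tr.node tU_47 tU_175) (Tr.node tU_111 tU_239))) (Tr.node (Tr.node (Tr.node tU_31 tU_159) (Tr.node tU_95 tU_223)) (Tr.node (Tr.node tU_63 tU_191) (Tr.node tU_127 tU_255))))))))
def tJ : Tr := (Tr.node (Tr.node (Tr.node (Tr.node (Tr.node (Tr.node (Tr.node (Tr.node tJ_0 tJ_128) (Tr.node tJ_64 tJ_192)) (Tr.node (Tr.node tJ_32 tJ_160) (Tr.node tJ_96 tJ_224))) (Tr.node (Tr.node (Tr.node tJ_16 tJ_144) (Tr.node tJ_80 tJ_208)) (Tr.node (Tr.node tJ_48 tJ_176) (Tr.node tJ_112 tJ_240)))) (Tr.node (Tr.node (Tr.node (Tr.node tJ_8 tJ_136) (Tr.node tJ_72 tJ_200)) (Tr.node (Tr.node tJ_40 tJ_168) (Tr.node tJ_104 tJ_232))) (Tr.node (Tr.node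 (Tr.node tJ_24 tJ_152) (Tr.node tJ_88 tJ_216)) (Tr.node (Tr.node tJ_56 tJ_184) (Tr.node tJ_120 tJ_248))))) (Tr.node (Tr.node (Tr.node (Tr.node (Tr.node tJ_4 tJ_132) (Tr.node tJ_68 tJ_196)) (Tr.node (Tr.node tJ_36 tJ_164) (Tr.node tJ_100 tJ_228))) (Tr.node (Tr.node (Tr.node tJ_20 tJ_148) (Tr.node tJ_84 tJ_212)) (Tr.node (Tr.node tJ_52 tJ_180) (Tr.node tJ_116 tJ_244)))) (Tr.node (Tr.node (Tr.node (Tr.node tJ_12 tJ_140) (Tr.node tJ_76 tJ_204)) (Tr.node (Tr.node tJ_44 tJ_172) (Tr.node tJ_108 tJ_236))) (Tr.node (Tr.node (Tr.node tJ_28 tJ_156) (Tr.node tJ_92 tJ_220)) (Tr.node (Tr.node tJ_60 tJ_188) (Tr.node tJ_124 tJ_252)))))) (Tr.node (Tr.node (Tr.node (Tr.node (Tr.node (Tr.node tJ_2 tJ_130) (Tr.node tJ_66 tJ_194)) (Tr.node (Tr.node tJ_34 tJ_162) (Tr.node tJ_98 tJ_226))) (Tr.node (Tr.node (Tr.node tJ_18 tJ_146) (Tr.node tJ_82 tJ_210)) (Tr.node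 (Tr.node tJ_50 tJ_178) (Tr.node tJ_114 tJ_242)))) (Tr.node (Tr.node (Tr.node (Tr.node tJ_10 tJ_138) (Tr.node tJ_74 tJ_202)) (Tr.node (Tr.node tJ_42 tJ_170) (Tr.node tJ_106 tJ_234))) (Tr.node (Tr.node (Tr.node tJ_26 tJ_154) (Tr.node tJ_90 tJ_218)) (Tr.node (Tr.node tJ_58 tJ_186) (Tr.node tJ_122 tJ_250))))) (Tr.node (Tr.node (Tr.node (Tr.node (Tr.node tJ_6 tJ_134) (Tr.node tJ_70 tJ_198)) (Tr.node (Tr.node tJ_38 tJ_166) (Tr.node tJ_102 tJ_230))) (Tr.node (Tr.node (Tr.node tJ_22 tJ_150) (Tr.node tJ_86 tJ_214)) (Tr.node (Tr.node tJ_54 tJ_182) (Tr.node tJ_118 tJ_246)))) (Tr.node (Tr.node (Tr.node (Tr.node tJ_14 tJ_142) (Tr.node tJ_78 tJ_206)) (Tr.node (Tr.node tJ_46 tJ_174) (Tr.node tJ_110 tJ_238))) (Tr.node (Tr.node (Tr.node tJ_30 tJ_158) (Tr.node tJ_94 tJ_222)) (Tr.node (Tr.node tJ_62 tJ_190) (Tr.node tJ_126 tJ_254))))))) (Tr.node (Tr.node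 (Tr.node (Tr.node (Tr.node (Tr.node (Tr.node tJ_1 tJ_129) (Tr.node tJ_65 tJ_193)) (Tr.node (Tr.node tJ_33 tJ_161) (Tr.node tJ_97 tJ_225))) (Tr.node (Tr.node (Tr.node tJ_17 tJ_145) (Tr.node tJ_81 tJ_209)) (Tr.node (Tr.node tJ_49 tJ_177) (Tr.node tJ_113 tJ_241)))) (Tr.node (Tr.node (Tr.node (Tr.node tJ_9 tJ_137) (Tr.node tJ_73 tJ_201)) (Tr.node (Tr.node tJ_41 tJ_169) (Tr.node tJ_105 tJ_233))) (Tr.node (Tr.node (Tr.node tJ_25 tJ_153) (Tr.node tJ_89 tJ_217)) (Tr.node (Tr.node tJ_57 tJ_185) (Tr.node tJ_121 tJ_249))))) (Tr.node (Tr.node (Tr.node (Tr.node (Tr.node tJ_5 tJ_133) (Tr.node tJ_69 tJ_197)) (Tr.node (Tr.node tJ_37 tJ_165) (Tr.node tJ_101 tJ_229))) (Tr.node (Tr.node (Tr.node tJ_21 tJ_149) (Tr.node tJ_85 tJ_213)) (Tr.node (Tr.node tJ_53 tJ_181) (Tr.node tJ_117 tJ_245)))) (Tr.node (Tr.node (Tr.node (Tr.node tJ_13 tJ_141) (Tr.node tJ_77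 tJ_205)) (Tr.node (Tr.node tJ_45 tJ_173) (Tr.node tJ_109 tJ_237))) (Tr.node (Tr.node (Tr.node tJ_29 tJ_157) (Tr.node tJ_93 tJ_221)) (Tr.node (Tr.node tJ_61 tJ_189) (Tr.node tJ_125 tJ_253)))))) (Tr.node (Tr.node (Tr.node (Tr.node (Tr.node (Tr.node tJ_3 tJ_131) (Tr.node tJ_67 tJ_195)) (Tr.node (Tr.node tJ_35 tJ_163) (Tr.node tJ_99 tJ_227))) (Tr.node (Tr.node (Tr.node tJ_19 tJ_147) (Tr.node tJ_83 tJ_211)) (Tr.node (Tr.node tJ_51 tJ_179) (Tr.node tJ_115 tJ_243)))) (Tr.node (Tr.node (Tr.node (Tr.node tJ_11 tJ_139) (Tr.node tJ_75 tJ_203)) (Tr.node (Tr.node tJ_43 tJ_171) (Tr.node tJ_107 tJ_235))) (Tr.node (Tr.node (Tr.node tJ_27 tJ_155) (Tr.node tJ_91 tJ_219)) (Tr.node (Tr.node tJ_59 tJ_187) (Tr.node tJ_123 tJ_251))))) (Tr.node (Tr.node (Tr.node (Tr.node (Tr.node tJ_7 tJ_135) (Tr.node tJ_71 tJ_199)) (Tr.node (Tr.node tJ_39 tJ_167) (Tr.node tJ_103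 tJ_231))) (Tr.node (Tr.node (Tr.node tJ_23 tJ_151) (Tr.node tJ_87 tJ_215)) (Tr.node (Tr.node tJ_55 tJ_183) (Tr.node tJ_119 tJ_247)))) (Tr.node (Tr.node (Tr.node (Tr.node tJ_15 tJ_143) (Tr.node tJ_79 tJ_207)) (Tr.node (Tr.node tJ_47 tJ_175) (Tr.node tJ_111 tJ_239))) (Tr.node (Tr.node (Tr.node tJ_31 tJ_159) (Tr.node tJ_95 tJ_223)) (Tr.node (Tr.node tJ_63 tJ_191) (Tr.node tJ_127 tJ_255))))))))
def tA : Tr := (Tr.node (Tr.node (Tr.node (Tr.node (Tr.node (Tr.node (Tr.node tA_0 tA_64) (Tr.node tA_32 tA_96)) (Tr.node (Tr.node tA_16 tA_80) (Tr.node tA_48 tA_112))) (Tr.node (Tr.node (Tr.node tA_8 tA_72) (Tr.node tA_40 tA_104)) (Tr.node (Tr.node tA_24 tA_88) (Tr.node tA_56 tA_120)))) (Tr.node (Tr.node (Tr.node (Tr.node tA_4 tA_68) (Tr.node tA_36 tA_100)) (Tr.node (Tr.node tA_20 tA_84) (Tr.node tA_52 tA_116))) (Tr.node (Tr.node (Tr.node tA_12 tA_76)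 (Tr.node tA_44 tA_108)) (Tr.node (Tr.node tA_28 tA_92) (Tr.node tA_60 tA_124))))) (Tr.node (Tr.node (Tr.node (Tr.node (Tr.node tA_2 tA_66) (Tr.node tA_34 tA_98)) (Tr.node (Tr.node tA_18 tA_82) (Tr.node tA_50 tA_114))) (Tr.node (Tr.node (Tr.node tA_10 tA_74) (Tr.node tA_42 tA_106)) (Tr.node (Tr.node tA_26 tA_90) (Tr.node tA_58 tA_122)))) (Tr.node (Tr.node (Tr.node (Tr.node tA_6 tA_70) (Tr.node tA_38 tA_102)) (Tr.node (Tr.node tA_22 tA_86) (Tr.node tA_54 tA_118))) (Tr.node (Tr.node (Tr.node tA_14 tA_78) (Tr.node tA_46 tA_110)) (Tr.node (Tr.node tA_30 tA_94) (Tr.node tA_62 tA_126)))))) (Tr.node (Tr.node (Tr.node (Tr.node (Tr.node (Tr.node tA_1 tA_65) (Tr.node tA_33 tA_97)) (Tr.node (Tr.node tA_17 tA_81) (Tr.node tA_49 tA_113))) (Tr.node (Tr.node (Tr.node tA_9 tA_73) (Tr.node tA_41 tA_105)) (Tr.node (Tr.node tA_25 tA_89) (Tr.node tA_57 tA_121))))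 (Tr.node (Tr.node (Tr.node (Tr.node tA_5 tA_69) (Tr.node tA_37 tA_101)) (Tr.node (Tr.node tA_21 tA_85) (Tr.node tA_53 tA_117))) (Tr.node (Tr.node (Tr.node tA_13 tA_77) (Tr.node tA_45 tA_109)) (Tr.node (Tr.node tA_29 tA_93) (Tr.node tA_61 tA_125))))) (Tr.node (Tr.node (Tr.node (Tr.node (Tr.node tA_3 tA_67) (Tr.node tA_35 tA_99)) (Tr.node (Tr.node tA_19 tA_83) (Tr.node tA_51 tA_115))) (Tr.node (Tr.node (Tr.node tA_11 tA_75) (Tr.node tA_43 tA_107)) (Tr.node (Tr.node tA_27 tA_91) (Tr.node tA_59 tA_123)))) (Tr.node (Tr.node (Tr.node (Tr.node tA_7 tA_71) (Tr.node tA_39 tA_103)) (Tr.node (Tr.node tA_23 tA_87) (Tr.node tA_55 tA_119))) (Tr.node (Tr.node (Tr.node tA_15 tA_79) (Tr.node tA_47 tA_111)) (Tr.node (Tr.node tA_31 tA_95) (Tr.node tA_63 tA_127)))))))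
def tR : TrL := (TrL.node (TrL.node (TrL.node (TrL.node (TrL.node (TrL.node (TrL.node (TrL.node (TrL.leaf [nat_lit 0, nat_lit 0]) (TrL.leaf [nat_lit 9, nat_lit 7, nat_lit 9, nat_lit 7])) (TrL.node (TrL.leaf [nat_lit 8, nat_lit 2, nat_lit 8, nat_lit 2]) (TrL.leaf [nat_lit 6, nat_lit 5, nat_lit 0, nat_lit 1, nat_lit 2, nat_lit 3, nat_lit 4, nat_lit 5, nat_lit 11, nat_lit 10, nat_lit 5, nat_lit 9, nat_lit 8, nat_lit 7, nat_lit 6, nat_lit 5, nat_lit 0, nat_lit 1, nat_lit 2, nat_lit 3, nat_lit 4, nat_lit 5, nat_lit 11, nat_lit 10, nat_lit 5, nat_lit 9, nat_lit 8, nat_lit 7, nat_lit 6, nat_lit 5, nat_lit 0, nat_lit 1, nat_lit 2, nat_lit 3, nat_lit 4, nat_lit 5, nat_lit 11, nat_lit 10, nat_lit 5, nat_lit 9, nat_lit 8, nat_lit 7, nat_lit 6, nat_lit 5, nat_lit 0, nat_lit 1, nat_lit 2, nat_lit 3, nat_lit 4, nat_lit 5, nat_lit 11, nat_lit 10, nat_lit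 5, nat_lit 9, nat_lit 8, nat_lit 7, nat_lit 6, nat_lit 5, nat_lit 0, nat_lit 1, nat_lit 2, nat_lit 3, nat_lit 4, nat_lit 5, nat_lit 11, nat_lit 10, nat_lit 5, nat_lit 9, nat_lit 8, nat_lit 7, nat_lit 6, nat_lit 5, nat_lit 0, nat_lit 1, nat_lit 2, nat_lit 3, nat_lit 4, nat_lit 5, nat_lit 11, nat_lit 10, nat_lit 5, nat_lit 9, nat_lit 8, nat_lit 7, nat_lit 6, nat_lit 5, nat_lit 0, nat_lit 1, nat_lit 2, nat_lit 3, nat_lit 4, nat_lit 5, nat_lit 11, nat_lit 10, nat_lit 5, nat_lit 9, nat_lit 8, nat_lit 7, nat_lit 6, nat_lit 5, nat_lit 0, nat_lit 1, nat_lit 2, nat_lit 3, nat_lit 4, nat_lit 5, nat_lit 11, nat_lit 10, nat_lit 5, nat_lit 9, nat_lit 8, nat_lit 7, nat_lit 6, nat_lit 5, nat_lit 0, nat_lit 1, nat_lit 2, nat_lit 3, nat_lit 4, nat_lit 5, nat_lit 11, nat_lit 10, nat_lit 5, nat_lit 9, nat_lit 8, nat_lit 7, nat_lit 6, nat_lit 5, nat_lit 0,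 nat_lit 1, nat_lit 2, nat_lit 3, nat_lit 4, nat_lit 5, nat_lit 11, nat_lit 10, nat_lit 5, nat_lit 9, nat_lit 8, nat_lit 7, nat_lit 6, nat_lit 5, nat_lit 0, nat_lit 1, nat_lit 2, nat_lit 3, nat_lit 4, nat_lit 5, nat_lit 11, nat_lit 10, nat_lit 5, nat_lit 9, nat_lit 8, nat_lit 7, nat_lit 6, nat_lit 5, nat_lit 0, nat_lit 1, nat_lit 2, nat_lit 3, nat_lit 4, nat_lit 5, nat_lit 11, nat_lit 10, nat_lit 5, nat_lit 9, nat_lit 8, nat_lit 7, nat_lit 6, nat_lit 5, nat_lit 0, nat_lit 1, nat_lit 2, nat_lit 3, nat_lit 4, nat_lit 5, nat_lit 11, nat_lit 10, nat_lit 5, nat_lit 9, nat_lit 8, nat_lit 7, nat_lit 6, nat_lit 5, nat_lit 0, nat_lit 1, nat_lit 2, nat_lit 3, nat_lit 4, nat_lit 5, nat_lit 11, nat_lit 10, nat_lit 5, nat_lit 9, nat_lit 8, nat_lit 7, nat_lit 6, nat_lit 5, nat_lit 0, nat_lit 1, nat_lit 2, nat_lit 3, nat_lit 4, nat_lit 5, nat_lit 11,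 nat_lit 10, nat_lit 5, nat_lit 9, nat_lit 8, nat_lit 7, nat_lit 6, nat_lit 5, nat_lit 0, nat_lit 1, nat_lit 2, nat_lit 3, nat_lit 4, nat_lit 5, nat_lit 11, nat_lit 10, nat_lit 5, nat_lit 9, nat_lit 8, nat_lit 7, nat_lit 6, nat_lit 5, nat_lit 0, nat_lit 1, nat_lit 2, nat_lit 3, nat_lit 4, nat_lit 5, nat_lit 11, nat_lit 10, nat_lit 5, nat_lit 9, nat_lit 8, nat_lit 7]))) (TrL.node (TrL.node (TrL.leaf [nat_lit 11, nat_lit 0, nat_lit 11, nat_lit 0]) (TrL.leaf [nat_lit 6, nat_lit 7, nat_lit 10, nat_lit 2, nat_lit 3, nat_lit 4, nat_lit 5, nat_lit 6, nat_lit 7, nat_lit 10, nat_lit 0, nat_lit 2, nat_lit 3, nat_lit 4, nat_lit 5, nat_lit 6, nat_lit 7, nat_lit 10, nat_lit 2, nat_lit 3, nat_lit 4, nat_lit 5, nat_lit 6, nat_lit 7, nat_lit 10, nat_lit 2, nat_lit 3, nat_lit 4, nat_lit 5, nat_lit 6, nat_lit 7, nat_lit 10, nat_lit 2, nat_lit 3, nat_lit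 4, nat_lit 5, nat_lit 6, nat_lit 7, nat_lit 10, nat_lit 2, nat_lit 3, nat_lit 4, nat_lit 5, nat_lit 6, nat_lit 7, nat_lit 10, nat_lit 2, nat_lit 3, nat_lit 4, nat_lit 5, nat_lit 6, nat_lit 7, nat_lit 10, nat_lit 2, nat_lit 3, nat_lit 4, nat_lit 5, nat_lit 6, nat_lit 7, nat_lit 10, nat_lit 2, nat_lit 3, nat_lit 4, nat_lit 5])) (TrL.node (TrL.leaf [nat_lit 10, nat_lit 4, nat_lit 10, nat_lit 4]) (TrL.leaf [])))) (TrL.node (TrL.node (TrL.node (TrL.leaf [nat_lit 3, nat_lit 0, nat_lit 3, nat_lit 0]) (TrL.leaf [nat_lit 2, nat_lit 3, nat_lit 4, nat_lit 5, nat_lit 6, nat_lit 7, nat_lit 10, nat_lit 2, nat_lit 3, nat_lit 4, nat_lit 5, nat_lit 6, nat_lit 7, nat_lit 10, nat_lit 2, nat_lit 3, nat_lit 4, nat_lit 5, nat_lit 6, nat_lit 7, nat_lit 10, nat_lit 2, nat_lit 3, nat_lit 4, nat_lit 5, nat_lit 6, nat_lit 7, nat_lit 10, nat_lit 2, nat_lit 3, nat_lit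 4, nat_lit 5, nat_lit 6, nat_lit 7, nat_lit 10, nat_lit 2, nat_lit 3, nat_lit 4, nat_lit 5, nat_lit 6, nat_lit 7, nat_lit 10, nat_lit 2, nat_lit 3, nat_lit 4, nat_lit 5, nat_lit 6, nat_lit 7, nat_lit 10, nat_lit 2, nat_lit 3, nat_lit 4, nat_lit 5, nat_lit 6, nat_lit 7, nat_lit 10, nat_lit 2, nat_lit 3, nat_lit 4, nat_lit 5, nat_lit 6, nat_lit 7, nat_lit 10, nat_lit 0])) (TrL.node (TrL.leaf [nat_lit 8, nat_lit 3, nat_lit 8, nat_lit 3]) (TrL.leaf []))) (TrL.node (TrL.node (TrL.leaf [nat_lit 10, nat_lit 1, nat_lit 10, nat_lit 1]) (TrL.leaf [nat_lit 5, nat_lit 4, nat_lit 3, nat_lit 2, nat_lit 10, nat_lit 7, nat_lit 6, nat_lit 5, nat_lit 4, nat_lit 3, nat_lit 2, nat_lit 10, nat_lit 7, nat_lit 6, nat_lit 5, nat_lit 4, nat_lit 3, nat_lit 2, nat_lit 10, nat_lit 7, nat_lit 6, nat_lit 5, nat_lit 4, nat_lit 3, nat_lit 2, nat_lit 10, nat_lit 7, nat_lit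 6, nat_lit 5, nat_lit 4, nat_lit 3, nat_lit 2, nat_lit 10, nat_lit 7, nat_lit 6, nat_lit 5, nat_lit 4, nat_lit 3, nat_lit 2, nat_lit 10, nat_lit 7, nat_lit 6, nat_lit 5, nat_lit 4, nat_lit 3, nat_lit 2, nat_lit 10, nat_lit 7, nat_lit 6, nat_lit 5, nat_lit 4, nat_lit 3, nat_lit 2, nat_lit 0, nat_lit 10, nat_lit 7, nat_lit 6, nat_lit 5, nat_lit 4, nat_lit 3, nat_lit 2, nat_lit 10, nat_lit 7, nat_lit 6])) (TrL.node (TrL.leaf [nat_lit 11, nat_lit 5, nat_lit 11, nat_lit 5]) (TrL.leaf []))))) (TrL.node (TrL.node (TrL.node (TrL.node (TrL.leaf [nat_lit 8, nat_lit 8]) (TrL.leaf [nat_lit 11, nat_lit 8, nat_lit 11, nat_lit 8])) (TrL.node (TrL.leaf [nat_lit 4, nat_lit 3, nat_lit 4, nat_lit 3, nat_lit 4, nat_lit 3]) (TrL.leaf [nat_lit 8, nat_lit 9, nat_lit 5, nat_lit 10, nat_lit 11, nat_lit 5, nat_lit 4, nat_lit 3, nat_lit 2, nat_lit 1, nat_lit 0,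 nat_lit 5, nat_lit 6, nat_lit 7, nat_lit 8, nat_lit 9, nat_lit 5, nat_lit 10, nat_lit 11, nat_lit 5, nat_lit 4, nat_lit 3, nat_lit 2, nat_lit 1, nat_lit 0, nat_lit 5, nat_lit 6, nat_lit 7, nat_lit 8, nat_lit 9, nat_lit 5, nat_lit 10, nat_lit 11, nat_lit 5, nat_lit 4, nat_lit 3, nat_lit 2, nat_lit 1, nat_lit 0, nat_lit 5, nat_lit 6, nat_lit 7, nat_lit 8, nat_lit 9, nat_lit 5, nat_lit 10, nat_lit 11, nat_lit 5, nat_lit 4, nat_lit 3, nat_lit 2, nat_lit 1, nat_lit 0, nat_lit 5, nat_lit 6, nat_lit 7, nat_lit 8, nat_lit 9, nat_lit 5, nat_lit 10, nat_lit 11, nat_lit 5, nat_lit 4, nat_lit 3, nat_lit 2, nat_lit 1, nat_lit 0, nat_lit 5, nat_lit 6, nat_lit 7, nat_lit 8, nat_lit 9, nat_lit 5, nat_lit 10, nat_lit 11, nat_lit 5, nat_lit 4, nat_lit 3, nat_lit 2, nat_lit 1, nat_lit 0, nat_lit 5, nat_lit 6, nat_lit 7, nat_lit 8, nat_lit 9, nat_lit 5, nat_lit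 10, nat_lit 11, nat_lit 5, nat_lit 4, nat_lit 3, nat_lit 2, nat_lit 1, nat_lit 0, nat_lit 5, nat_lit 6, nat_lit 7, nat_lit 8, nat_lit 9, nat_lit 5, nat_lit 10, nat_lit 11, nat_lit 5, nat_lit 4, nat_lit 3, nat_lit 2, nat_lit 1, nat_lit 0, nat_lit 5, nat_lit 6, nat_lit 7, nat_lit 8, nat_lit 9, nat_lit 5, nat_lit 10, nat_lit 11, nat_lit 5, nat_lit 4, nat_lit 3, nat_lit 2, nat_lit 1, nat_lit 0, nat_lit 5, nat_lit 6, nat_lit 7, nat_lit 8, nat_lit 9, nat_lit 5, nat_lit 10, nat_lit 11, nat_lit 5, nat_lit 4, nat_lit 3, nat_lit 2, nat_lit 1, nat_lit 0, nat_lit 5, nat_lit 6, nat_lit 7, nat_lit 8, nat_lit 9, nat_lit 5, nat_lit 10, nat_lit 11, nat_lit 5, nat_lit 4, nat_lit 3, nat_lit 2, nat_lit 1, nat_lit 0, nat_lit 5, nat_lit 6, nat_lit 7, nat_lit 8, nat_lit 9, nat_lit 5, nat_lit 10, nat_lit 11, nat_lit 5, nat_lit 4, nat_lit 3, nat_lit 2, nat_lit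 1, nat_lit 0, nat_lit 5, nat_lit 6, nat_lit 7, nat_lit 8, nat_lit 9, nat_lit 5, nat_lit 10, nat_lit 11, nat_lit 5, nat_lit 4, nat_lit 3, nat_lit 2, nat_lit 1, nat_lit 0, nat_lit 5, nat_lit 6, nat_lit 7, nat_lit 8, nat_lit 9, nat_lit 5, nat_lit 10, nat_lit 11, nat_lit 5, nat_lit 4, nat_lit 3, nat_lit 2, nat_lit 1, nat_lit 0, nat_lit 5, nat_lit 6, nat_lit 7, nat_lit 8, nat_lit 9, nat_lit 5, nat_lit 10, nat_lit 11, nat_lit 5, nat_lit 4, nat_lit 3, nat_lit 2, nat_lit 1, nat_lit 0, nat_lit 5, nat_lit 6, nat_lit 7, nat_lit 8, nat_lit 9, nat_lit 5, nat_lit 10, nat_lit 11, nat_lit 5, nat_lit 4, nat_lit 3, nat_lit 2, nat_lit 1, nat_lit 0, nat_lit 5, nat_lit 6, nat_lit 7, nat_lit 8, nat_lit 9, nat_lit 5, nat_lit 10, nat_lit 11, nat_lit 5, nat_lit 4, nat_lit 3, nat_lit 2, nat_lit 1, nat_lit 0, nat_lit 5, nat_lit 6, nat_lit 7]))) (TrL.node (TrL.node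 (TrL.leaf [nat_lit 5, nat_lit 1, nat_lit 5, nat_lit 1]) (TrL.leaf [nat_lit 6, nat_lit 5, nat_lit 4, nat_lit 3, nat_lit 2, nat_lit 10, nat_lit 7, nat_lit 6, nat_lit 5, nat_lit 4, nat_lit 3, nat_lit 2, nat_lit 10, nat_lit 7, nat_lit 6, nat_lit 5, nat_lit 4, nat_lit 3, nat_lit 2, nat_lit 10, nat_lit 7, nat_lit 6, nat_lit 5, nat_lit 4, nat_lit 3, nat_lit 2, nat_lit 10, nat_lit 7, nat_lit 6, nat_lit 5, nat_lit 4, nat_lit 3, nat_lit 2, nat_lit 10, nat_lit 7, nat_lit 6, nat_lit 5, nat_lit 4, nat_lit 3, nat_lit 2, nat_lit 10, nat_lit 7, nat_lit 6, nat_lit 5, nat_lit 4, nat_lit 3, nat_lit 2, nat_lit 10, nat_lit 7, nat_lit 6, nat_lit 5, nat_lit 4, nat_lit 3, nat_lit 2, nat_lit 10, nat_lit 7, nat_lit 6, nat_lit 5, nat_lit 4, nat_lit 3, nat_lit 2, nat_lit 0, nat_lit 10, nat_lit 7])) (TrL.node (TrL.leaf [nat_lit 7, nat_lit 5, nat_lit 7, nat_lit 5])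 (TrL.leaf [])))) (TrL.node (TrL.node (TrL.node (TrL.leaf [nat_lit 7, nat_lit 0, nat_lit 7, nat_lit 0]) (TrL.leaf [nat_lit 7, nat_lit 10, nat_lit 2, nat_lit 3, nat_lit 4, nat_lit 5, nat_lit 6, nat_lit 7, nat_lit 10, nat_lit 2, nat_lit 3, nat_lit 4, nat_lit 5, nat_lit 6, nat_lit 7, nat_lit 10, nat_lit 2, nat_lit 3, nat_lit 4, nat_lit 5, nat_lit 6, nat_lit 7, nat_lit 10, nat_lit 2, nat_lit 3, nat_lit 4, nat_lit 5, nat_lit 6, nat_lit 7, nat_lit 10, nat_lit 2, nat_lit 3, nat_lit 4, nat_lit 5, nat_lit 6, nat_lit 7, nat_lit 10, nat_lit 2, nat_lit 3, nat_lit 4, nat_lit 5, nat_lit 6, nat_lit 7, nat_lit 10, nat_lit 2, nat_lit 3, nat_lit 4, nat_lit 5, nat_lit 6, nat_lit 7, nat_lit 10, nat_lit 0, nat_lit 2, nat_lit 3, nat_lit 4, nat_lit 5, nat_lit 6, nat_lit 7, nat_lit 10, nat_lit 2, nat_lit 3, nat_lit 4, nat_lit 5, nat_lit 6])) (TrL.node (TrL.leaf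 [nat_lit 5, nat_lit 4, nat_lit 5, nat_lit 4, nat_lit 5, nat_lit 4]) (TrL.leaf []))) (TrL.node (TrL.node (TrL.leaf [nat_lit 4, nat_lit 2, nat_lit 4, nat_lit 2]) (TrL.leaf [nat_lit 6, nat_lit 5, nat_lit 4, nat_lit 3, nat_lit 2, nat_lit 10, nat_lit 7, nat_lit 6, nat_lit 5, nat_lit 4, nat_lit 3, nat_lit 2, nat_lit 10, nat_lit 7, nat_lit 6, nat_lit 5, nat_lit 4, nat_lit 3, nat_lit 2, nat_lit 0, nat_lit 10, nat_lit 7, nat_lit 6, nat_lit 5, nat_lit 4, nat_lit 3, nat_lit 2, nat_lit 10, nat_lit 7, nat_lit 6, nat_lit 5, nat_lit 4, nat_lit 3, nat_lit 2, nat_lit 10, nat_lit 7, nat_lit 6, nat_lit 5, nat_lit 4, nat_lit 3, nat_lit 2, nat_lit 10, nat_lit 7, nat_lit 6, nat_lit 5, nat_lit 4, nat_lit 3, nat_lit 2, nat_lit 10, nat_lit 7, nat_lit 6, nat_lit 5, nat_lit 4, nat_lit 3, nat_lit 2, nat_lit 10, nat_lit 7, nat_lit 6, nat_lit 5, nat_lit 4, nat_lit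 3, nat_lit 2, nat_lit 10, nat_lit 7])) (TrL.node (TrL.leaf [nat_lit 9, nat_lit 6, nat_lit 9, nat_lit 6]) (TrL.leaf [])))))) (TrL.node (TrL.node (TrL.node (TrL.node (TrL.node (TrL.leaf [nat_lit 4, nat_lit 4]) (TrL.leaf [nat_lit 10, nat_lit 8, nat_lit 10, nat_lit 8])) (TrL.node (TrL.leaf [nat_lit 9, nat_lit 2, nat_lit 9, nat_lit 2]) (TrL.leaf [nat_lit 2, nat_lit 1, nat_lit 0, nat_lit 5, nat_lit 6, nat_lit 7, nat_lit 8, nat_lit 9, nat_lit 5, nat_lit 10, nat_lit 11, nat_lit 5, nat_lit 4, nat_lit 3, nat_lit 2, nat_lit 1, nat_lit 0, nat_lit 5, nat_lit 6, nat_lit 7, nat_lit 8, nat_lit 9, nat_lit 5, nat_lit 10, nat_lit 11, nat_lit 5, nat_lit 4, nat_lit 3, nat_lit 2, nat_lit 1, nat_lit 0, nat_lit 5, nat_lit 6, nat_lit 7, nat_lit 8, nat_lit 9, nat_lit 5, nat_lit 10, nat_lit 11, nat_lit 5, nat_lit 4, nat_lit 3, nat_lit 2, nat_lit 1, nat_lit 0, nat_lit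 5, nat_lit 6, nat_lit 7, nat_lit 8, nat_lit 9, nat_lit 5, nat_lit 10, nat_lit 11, nat_lit 5, nat_lit 4, nat_lit 3, nat_lit 2, nat_lit 1, nat_lit 0, nat_lit 5, nat_lit 6, nat_lit 7, nat_lit 8, nat_lit 9, nat_lit 5, nat_lit 10, nat_lit 11, nat_lit 5, nat_lit 4, nat_lit 3, nat_lit 2, nat_lit 1, nat_lit 0, nat_lit 5, nat_lit 6, nat_lit 7, nat_lit 8, nat_lit 9, nat_lit 5, nat_lit 10, nat_lit 11, nat_lit 5, nat_lit 4, nat_lit 3, nat_lit 2, nat_lit 1, nat_lit 0, nat_lit 5, nat_lit 6, nat_lit 7, nat_lit 8, nat_lit 9, nat_lit 5, nat_lit 10, nat_lit 11, nat_lit 5, nat_lit 4, nat_lit 3, nat_lit 2, nat_lit 1, nat_lit 0, nat_lit 5, nat_lit 6, nat_lit 7, nat_lit 8, nat_lit 9, nat_lit 5, nat_lit 10, nat_lit 11, nat_lit 5, nat_lit 4, nat_lit 3, nat_lit 2, nat_lit 1, nat_lit 0, nat_lit 5, nat_lit 6, nat_lit 7, nat_lit 8, nat_lit 9, nat_lit 5, nat_lit 10,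 nat_lit 11, nat_lit 5, nat_lit 4, nat_lit 3, nat_lit 2, nat_lit 1, nat_lit 0, nat_lit 5, nat_lit 6, nat_lit 7, nat_lit 8, nat_lit 9, nat_lit 5, nat_lit 10, nat_lit 11, nat_lit 5, nat_lit 4, nat_lit 3, nat_lit 2, nat_lit 1, nat_lit 0, nat_lit 5, nat_lit 6, nat_lit 7, nat_lit 8, nat_lit 9, nat_lit 5, nat_lit 10, nat_lit 11, nat_lit 5, nat_lit 4, nat_lit 3, nat_lit 2, nat_lit 1, nat_lit 0, nat_lit 5, nat_lit 6, nat_lit 7, nat_lit 8, nat_lit 9, nat_lit 5, nat_lit 10, nat_lit 11, nat_lit 5, nat_lit 4, nat_lit 3, nat_lit 2, nat_lit 1, nat_lit 0, nat_lit 5, nat_lit 6, nat_lit 7, nat_lit 8, nat_lit 9, nat_lit 5, nat_lit 10, nat_lit 11, nat_lit 5, nat_lit 4, nat_lit 3, nat_lit 2, nat_lit 1, nat_lit 0, nat_lit 5, nat_lit 6, nat_lit 7, nat_lit 8, nat_lit 9, nat_lit 5, nat_lit 10, nat_lit 11, nat_lit 5, nat_lit 4, nat_lit 3, nat_lit 2, nat_lit 1,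 nat_lit 0, nat_lit 5, nat_lit 6, nat_lit 7, nat_lit 8, nat_lit 9, nat_lit 5, nat_lit 10, nat_lit 11, nat_lit 5, nat_lit 4, nat_lit 3, nat_lit 2, nat_lit 1, nat_lit 0, nat_lit 5, nat_lit 6, nat_lit 7, nat_lit 8, nat_lit 9, nat_lit 5, nat_lit 10, nat_lit 11, nat_lit 5, nat_lit 4, nat_lit 3, nat_lit 2, nat_lit 1, nat_lit 0, nat_lit 5, nat_lit 6, nat_lit 7, nat_lit 8, nat_lit 9, nat_lit 5, nat_lit 10, nat_lit 11, nat_lit 5, nat_lit 4, nat_lit 3]))) (TrL.node (TrL.node (TrL.leaf [nat_lit 3, nat_lit 1, nat_lit 3, nat_lit 1]) (TrL.leaf [nat_lit 10, nat_lit 0, nat_lit 2, nat_lit 3, nat_lit 4, nat_lit 5, nat_lit 6, nat_lit 7, nat_lit 10, nat_lit 2, nat_lit 3, nat_lit 4, nat_lit 5, nat_lit 6, nat_lit 7, nat_lit 10, nat_lit 2, nat_lit 3, nat_lit 4, nat_lit 5, nat_lit 6, nat_lit 7, nat_lit 10, nat_lit 2, nat_lit 3, nat_lit 4, nat_lit 5, nat_lit 6,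 nat_lit 7, nat_lit 10, nat_lit 2, nat_lit 3, nat_lit 4, nat_lit 5, nat_lit 6, nat_lit 7, nat_lit 10, nat_lit 2, nat_lit 3, nat_lit 4, nat_lit 5, nat_lit 6, nat_lit 7, nat_lit 10, nat_lit 2, nat_lit 3, nat_lit 4, nat_lit 5, nat_lit 6, nat_lit 7, nat_lit 10, nat_lit 2, nat_lit 3, nat_lit 4, nat_lit 5, nat_lit 6, nat_lit 7, nat_lit 10, nat_lit 2, nat_lit 3, nat_lit 4, nat_lit 5, nat_lit 6, nat_lit 7])) (TrL.node (TrL.leaf [nat_lit 11, nat_lit 4, nat_lit 11, nat_lit 4]) (TrL.leaf [])))) (TrL.node (TrL.node (TrL.node (TrL.leaf [nat_lit 5, nat_lit 0, nat_lit 5, nat_lit 0]) (TrL.leaf [nat_lit 7, nat_lit 10, nat_lit 2, nat_lit 3, nat_lit 4, nat_lit 5, nat_lit 6, nat_lit 7, nat_lit 10, nat_lit 2, nat_lit 3, nat_lit 4, nat_lit 5, nat_lit 6, nat_lit 7, nat_lit 10, nat_lit 2, nat_lit 3, nat_lit 4, nat_lit 5, nat_lit 6, nat_lit 7, nat_lit 10, nat_lit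 2, nat_lit 3, nat_lit 4, nat_lit 5, nat_lit 6, nat_lit 7, nat_lit 10, nat_lit 2, nat_lit 3, nat_lit 4, nat_lit 5, nat_lit 6, nat_lit 7, nat_lit 10, nat_lit 2, nat_lit 3, nat_lit 4, nat_lit 5, nat_lit 6, nat_lit 7, nat_lit 10, nat_lit 2, nat_lit 3, nat_lit 4, nat_lit 5, nat_lit 6, nat_lit 7, nat_lit 10, nat_lit 2, nat_lit 3, nat_lit 4, nat_lit 5, nat_lit 6, nat_lit 7, nat_lit 10, nat_lit 0, nat_lit 2, nat_lit 3, nat_lit 4, nat_lit 5, nat_lit 6])) (TrL.node (TrL.leaf [nat_lit 9, nat_lit 3, nat_lit 9, nat_lit 3]) (TrL.leaf []))) (TrL.node (TrL.node (TrL.leaf [nat_lit 11, nat_lit 1, nat_lit 11, nat_lit 1]) (TrL.leaf [nat_lit 2, nat_lit 10, nat_lit 7, nat_lit 6, nat_lit 5, nat_lit 4, nat_lit 3, nat_lit 2, nat_lit 10, nat_lit 7, nat_lit 6, nat_lit 5, nat_lit 4, nat_lit 3, nat_lit 2, nat_lit 10, nat_lit 7, nat_lit 6, nat_lit 5, nat_lit 4, nat_lit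 3, nat_lit 2, nat_lit 10, nat_lit 7, nat_lit 6, nat_lit 5, nat_lit 4, nat_lit 3, nat_lit 2, nat_lit 10, nat_lit 7, nat_lit 6, nat_lit 5, nat_lit 4, nat_lit 3, nat_lit 2, nat_lit 10, nat_lit 7, nat_lit 6, nat_lit 5, nat_lit 4, nat_lit 3, nat_lit 2, nat_lit 0, nat_lit 10, nat_lit 7, nat_lit 6, nat_lit 5, nat_lit 4, nat_lit 3, nat_lit 2, nat_lit 10, nat_lit 7, nat_lit 6, nat_lit 5, nat_lit 4, nat_lit 3, nat_lit 2, nat_lit 10, nat_lit 7, nat_lit 6, nat_lit 5, nat_lit 4, nat_lit 3])) (TrL.node (TrL.leaf [nat_lit 8, nat_lit 6, nat_lit 8, nat_lit 6]) (TrL.leaf []))))) (TrL.node (TrL.node (TrL.node (TrL.node (TrL.leaf [nat_lit 1, nat_lit 0, nat_lit 1, nat_lit 0, nat_lit 1, nat_lit 0]) (TrL.leaf [nat_lit 11, nat_lit 10, nat_lit 11, nat_lit 10, nat_lit 11, nat_lit 10])) (TrL.node (TrL.leaf [nat_lit 6, nat_lit 3, nat_lit 6, nat_lit 3]) (TrL.leaf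 []))) (TrL.node (TrL.node (TrL.leaf [nat_lit 7, nat_lit 1, nat_lit 7, nat_lit 1]) (TrL.leaf [nat_lit 2, nat_lit 10, nat_lit 7, nat_lit 6, nat_lit 5, nat_lit 4, nat_lit 3, nat_lit 2, nat_lit 10, nat_lit 7, nat_lit 6, nat_lit 5, nat_lit 4, nat_lit 3, nat_lit 2, nat_lit 10, nat_lit 7, nat_lit 6, nat_lit 5, nat_lit 4, nat_lit 3, nat_lit 2, nat_lit 10, nat_lit 7, nat_lit 6, nat_lit 5, nat_lit 4, nat_lit 3, nat_lit 2, nat_lit 10, nat_lit 7, nat_lit 6, nat_lit 5, nat_lit 4, nat_lit 3, nat_lit 2, nat_lit 10, nat_lit 7, nat_lit 6, nat_lit 5, nat_lit 4, nat_lit 3, nat_lit 2, nat_lit 10, nat_lit 7, nat_lit 6, nat_lit 5, nat_lit 4, nat_lit 3, nat_lit 2, nat_lit 10, nat_lit 7, nat_lit 6, nat_lit 5, nat_lit 4, nat_lit 3, nat_lit 2, nat_lit 0, nat_lit 10, nat_lit 7, nat_lit 6, nat_lit 5, nat_lit 4, nat_lit 3])) (TrL.node (TrL.leaf [nat_lit 10, nat_lit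 5, nat_lit 10, nat_lit 5, nat_lit 10, nat_lit 5]) (TrL.leaf [])))) (TrL.node (TrL.node (TrL.node (TrL.leaf [nat_lit 10, nat_lit 0, nat_lit 10, nat_lit 0]) (TrL.leaf [nat_lit 6, nat_lit 7, nat_lit 10, nat_lit 2, nat_lit 3, nat_lit 4, nat_lit 5, nat_lit 6, nat_lit 7, nat_lit 10, nat_lit 2, nat_lit 3, nat_lit 4, nat_lit 5, nat_lit 6, nat_lit 7, nat_lit 10, nat_lit 2, nat_lit 3, nat_lit 4, nat_lit 5, nat_lit 6, nat_lit 7, nat_lit 10, nat_lit 2, nat_lit 3, nat_lit 4, nat_lit 5, nat_lit 6, nat_lit 7, nat_lit 10, nat_lit 0, nat_lit 2, nat_lit 3, nat_lit 4, nat_lit 5, nat_lit 6, nat_lit 7, nat_lit 10, nat_lit 2, nat_lit 3, nat_lit 4, nat_lit 5, nat_lit 6, nat_lit 7, nat_lit 10, nat_lit 2, nat_lit 3, nat_lit 4, nat_lit 5, nat_lit 6, nat_lit 7, nat_lit 10, nat_lit 2, nat_lit 3, nat_lit 4, nat_lit 5, nat_lit 6, nat_lit 7, nat_lit 10, nat_lit 2, nat_lit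 3, nat_lit 4, nat_lit 5])) (TrL.node (TrL.leaf [nat_lit 7, nat_lit 4, nat_lit 7, nat_lit 4]) (TrL.leaf []))) (TrL.node (TrL.node (TrL.leaf [nat_lit 6, nat_lit 2, nat_lit 6, nat_lit 2]) (TrL.leaf [nat_lit 4, nat_lit 3, nat_lit 2, nat_lit 0, nat_lit 10, nat_lit 7, nat_lit 6, nat_lit 5, nat_lit 4, nat_lit 3, nat_lit 2, nat_lit 10, nat_lit 7, nat_lit 6, nat_lit 5, nat_lit 4, nat_lit 3, nat_lit 2, nat_lit 10, nat_lit 7, nat_lit 6, nat_lit 5, nat_lit 4, nat_lit 3, nat_lit 2, nat_lit 10, nat_lit 7, nat_lit 6, nat_lit 5, nat_lit 4, nat_lit 3, nat_lit 2, nat_lit 10, nat_lit 7, nat_lit 6, nat_lit 5, nat_lit 4, nat_lit 3, nat_lit 2, nat_lit 10, nat_lit 7, nat_lit 6, nat_lit 5, nat_lit 4, nat_lit 3, nat_lit 2, nat_lit 10, nat_lit 7, nat_lit 6, nat_lit 5, nat_lit 4, nat_lit 3, nat_lit 2, nat_lit 10, nat_lit 7, nat_lit 6, nat_lit 5, nat_lit 4, nat_lit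 3, nat_lit 2, nat_lit 10, nat_lit 7, nat_lit 6, nat_lit 5])) (TrL.node (TrL.leaf [nat_lit 8, nat_lit 7, nat_lit 8, nat_lit 7, nat_lit 8, nat_lit 7]) (TrL.leaf []))))))) (TrL.node (TrL.node (TrL.node (TrL.node (TrL.node (TrL.node (TrL.leaf [nat_lit 2, nat_lit 2]) (TrL.leaf [nat_lit 11, nat_lit 7, nat_lit 11, nat_lit 7])) (TrL.node (TrL.leaf [nat_lit 10, nat_lit 2, nat_lit 10, nat_lit 2]) (TrL.leaf [nat_lit 5, nat_lit 11, nat_lit 10, nat_lit 5, nat_lit 9, nat_lit 8, nat_lit 7, nat_lit 6, nat_lit 5, nat_lit 0, nat_lit 1, nat_lit 2, nat_lit 3, nat_lit 4, nat_lit 5, nat_lit 11, nat_lit 10, nat_lit 5, nat_lit 9, nat_lit 8, nat_lit 7, nat_lit 6, nat_lit 5, nat_lit 0, nat_lit 1, nat_lit 2, nat_lit 3, nat_lit 4, nat_lit 5, nat_lit 11, nat_lit 10, nat_lit 5, nat_lit 9, nat_lit 8, nat_lit 7, nat_lit 6, nat_lit 5, nat_lit 0, nat_lit 1, nat_lit 2,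 nat_lit 3, nat_lit 4, nat_lit 5, nat_lit 11, nat_lit 10, nat_lit 5, nat_lit 9, nat_lit 8, nat_lit 7, nat_lit 6, nat_lit 5, nat_lit 0, nat_lit 1, nat_lit 2, nat_lit 3, nat_lit 4, nat_lit 5, nat_lit 11, nat_lit 10, nat_lit 5, nat_lit 9, nat_lit 8, nat_lit 7, nat_lit 6, nat_lit 5, nat_lit 0, nat_lit 1, nat_lit 2, nat_lit 3, nat_lit 4, nat_lit 5, nat_lit 11, nat_lit 10, nat_lit 5, nat_lit 9, nat_lit 8, nat_lit 7, nat_lit 6, nat_lit 5, nat_lit 0, nat_lit 1, nat_lit 2, nat_lit 3, nat_lit 4, nat_lit 5, nat_lit 11, nat_lit 10, nat_lit 5, nat_lit 9, nat_lit 8, nat_lit 7, nat_lit 6, nat_lit 5, nat_lit 0, nat_lit 1, nat_lit 2, nat_lit 3, nat_lit 4, nat_lit 5, nat_lit 11, nat_lit 10, nat_lit 5, nat_lit 9, nat_lit 8, nat_lit 7, nat_lit 6, nat_lit 5, nat_lit 0, nat_lit 1, nat_lit 2, nat_lit 3, nat_lit 4, nat_lit 5, nat_lit 11, nat_lit 10, nat_lit 5,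 nat_lit 9, nat_lit 8, nat_lit 7, nat_lit 6, nat_lit 5, nat_lit 0, nat_lit 1, nat_lit 2, nat_lit 3, nat_lit 4, nat_lit 5, nat_lit 11, nat_lit 10, nat_lit 5, nat_lit 9, nat_lit 8, nat_lit 7, nat_lit 6, nat_lit 5, nat_lit 0, nat_lit 1, nat_lit 2, nat_lit 3, nat_lit 4, nat_lit 5, nat_lit 11, nat_lit 10, nat_lit 5, nat_lit 9, nat_lit 8, nat_lit 7, nat_lit 6, nat_lit 5, nat_lit 0, nat_lit 1, nat_lit 2, nat_lit 3, nat_lit 4, nat_lit 5, nat_lit 11, nat_lit 10, nat_lit 5, nat_lit 9, nat_lit 8, nat_lit 7, nat_lit 6, nat_lit 5, nat_lit 0, nat_lit 1, nat_lit 2, nat_lit 3, nat_lit 4, nat_lit 5, nat_lit 11, nat_lit 10, nat_lit 5, nat_lit 9, nat_lit 8, nat_lit 7, nat_lit 6, nat_lit 5, nat_lit 0, nat_lit 1, nat_lit 2, nat_lit 3, nat_lit 4, nat_lit 5, nat_lit 11, nat_lit 10, nat_lit 5, nat_lit 9, nat_lit 8, nat_lit 7, nat_lit 6, nat_lit 5, nat_lit 0, nat_lit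 1, nat_lit 2, nat_lit 3, nat_lit 4, nat_lit 5, nat_lit 11, nat_lit 10, nat_lit 5, nat_lit 9, nat_lit 8, nat_lit 7, nat_lit 6, nat_lit 5, nat_lit 0, nat_lit 1, nat_lit 2, nat_lit 3, nat_lit 4, nat_lit 5, nat_lit 11, nat_lit 10, nat_lit 5, nat_lit 9, nat_lit 8, nat_lit 7, nat_lit 6, nat_lit 5, nat_lit 0, nat_lit 1, nat_lit 2, nat_lit 3, nat_lit 4, nat_lit 5, nat_lit 11, nat_lit 10, nat_lit 5, nat_lit 9, nat_lit 8, nat_lit 7, nat_lit 6, nat_lit 5, nat_lit 0, nat_lit 1, nat_lit 2, nat_lit 3, nat_lit 4]))) (TrL.node (TrL.node (TrL.leaf [nat_lit 2, nat_lit 1, nat_lit 2, nat_lit 1, nat_lit 2, nat_lit 1]) (TrL.leaf [nat_lit 6, nat_lit 7, nat_lit 10, nat_lit 0, nat_lit 2, nat_lit 3, nat_lit 4, nat_lit 5, nat_lit 6, nat_lit 7, nat_lit 10, nat_lit 2, nat_lit 3, nat_lit 4, nat_lit 5, nat_lit 6, nat_lit 7, nat_lit 10, nat_lit 2, nat_lit 3, nat_lit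 4, nat_lit 5, nat_lit 6, nat_lit 7, nat_lit 10, nat_lit 2, nat_lit 3, nat_lit 4, nat_lit 5, nat_lit 6, nat_lit 7, nat_lit 10, nat_lit 2, nat_lit 3, nat_lit 4, nat_lit 5, nat_lit 6, nat_lit 7, nat_lit 10, nat_lit 2, nat_lit 3, nat_lit 4, nat_lit 5, nat_lit 6, nat_lit 7, nat_lit 10, nat_lit 2, nat_lit 3, nat_lit 4, nat_lit 5, nat_lit 6, nat_lit 7, nat_lit 10, nat_lit 2, nat_lit 3, nat_lit 4, nat_lit 5, nat_lit 6, nat_lit 7, nat_lit 10, nat_lit 2, nat_lit 3, nat_lit 4, nat_lit 5])) (TrL.node (TrL.leaf [nat_lit 9, nat_lit 4, nat_lit 9, nat_lit 4]) (TrL.leaf [])))) (TrL.node (TrL.node (TrL.node (TrL.leaf [nat_lit 4, nat_lit 0, nat_lit 4, nat_lit 0]) (TrL.leaf [nat_lit 5, nat_lit 6, nat_lit 7, nat_lit 10, nat_lit 2, nat_lit 3, nat_lit 4, nat_lit 5, nat_lit 6, nat_lit 7, nat_lit 10, nat_lit 2, nat_lit 3, nat_lit 4, nat_lit 5, nat_lit 6, nat_lit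 7, nat_lit 10, nat_lit 2, nat_lit 3, nat_lit 4, nat_lit 5, nat_lit 6, nat_lit 7, nat_lit 10, nat_lit 2, nat_lit 3, nat_lit 4, nat_lit 5, nat_lit 6, nat_lit 7, nat_lit 10, nat_lit 2, nat_lit 3, nat_lit 4, nat_lit 5, nat_lit 6, nat_lit 7, nat_lit 10, nat_lit 2, nat_lit 3, nat_lit 4, nat_lit 5, nat_lit 6, nat_lit 7, nat_lit 10, nat_lit 2, nat_lit 3, nat_lit 4, nat_lit 5, nat_lit 6, nat_lit 7, nat_lit 10, nat_lit 2, nat_lit 3, nat_lit 4, nat_lit 5, nat_lit 6, nat_lit 7, nat_lit 10, nat_lit 0, nat_lit 2, nat_lit 3, nat_lit 4])) (TrL.node (TrL.leaf [nat_lit 10, nat_lit 3, nat_lit 10, nat_lit 3]) (TrL.leaf []))) (TrL.node (TrL.node (TrL.leaf [nat_lit 9, nat_lit 1, nat_lit 9, nat_lit 1]) (TrL.leaf [nat_lit 3, nat_lit 2, nat_lit 10, nat_lit 7, nat_lit 6, nat_lit 5, nat_lit 4, nat_lit 3, nat_lit 2, nat_lit 10, nat_lit 7, nat_lit 6, nat_lit 5, nat_lit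 4, nat_lit 3, nat_lit 2, nat_lit 10, nat_lit 7, nat_lit 6, nat_lit 5, nat_lit 4, nat_lit 3, nat_lit 2, nat_lit 10, nat_lit 7, nat_lit 6, nat_lit 5, nat_lit 4, nat_lit 3, nat_lit 2, nat_lit 10, nat_lit 7, nat_lit 6, nat_lit 5, nat_lit 4, nat_lit 3, nat_lit 2, nat_lit 10, nat_lit 7, nat_lit 6, nat_lit 5, nat_lit 4, nat_lit 3, nat_lit 2, nat_lit 10, nat_lit 7, nat_lit 6, nat_lit 5, nat_lit 4, nat_lit 3, nat_lit 2, nat_lit 0, nat_lit 10, nat_lit 7, nat_lit 6, nat_lit 5, nat_lit 4, nat_lit 3, nat_lit 2, nat_lit 10, nat_lit 7, nat_lit 6, nat_lit 5, nat_lit 4])) (TrL.node (TrL.leaf [nat_lit 7, nat_lit 6, nat_lit 7, nat_lit 6, nat_lit 7, nat_lit 6]) (TrL.leaf []))))) (TrL.node (TrL.node (TrL.node (TrL.node (TrL.leaf [nat_lit 10, nat_lit 10]) (TrL.leaf [nat_lit 9, nat_lit 10, nat_lit 9, nat_lit 10])) (TrL.node (TrL.leaf [nat_lit 5, nat_lit 3, nat_lit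 5, nat_lit 3]) (TrL.leaf [nat_lit 10, nat_lit 11, nat_lit 5, nat_lit 4, nat_lit 3, nat_lit 2, nat_lit 1, nat_lit 0, nat_lit 5, nat_lit 6, nat_lit 7, nat_lit 8, nat_lit 9, nat_lit 5, nat_lit 10, nat_lit 11, nat_lit 5, nat_lit 4, nat_lit 3, nat_lit 2, nat_lit 1, nat_lit 0, nat_lit 5, nat_lit 6, nat_lit 7, nat_lit 8, nat_lit 9, nat_lit 5, nat_lit 10, nat_lit 11, nat_lit 5, nat_lit 4, nat_lit 3, nat_lit 2, nat_lit 1, nat_lit 0, nat_lit 5, nat_lit 6, nat_lit 7, nat_lit 8, nat_lit 9, nat_lit 5, nat_lit 10, nat_lit 11, nat_lit 5, nat_lit 4, nat_lit 3, nat_lit 2, nat_lit 1, nat_lit 0, nat_lit 5, nat_lit 6, nat_lit 7, nat_lit 8, nat_lit 9, nat_lit 5, nat_lit 10, nat_lit 11, nat_lit 5, nat_lit 4, nat_lit 3, nat_lit 2, nat_lit 1, nat_lit 0, nat_lit 5, nat_lit 6, nat_lit 7, nat_lit 8, nat_lit 9, nat_lit 5, nat_lit 10, nat_lit 11, nat_lit 5, nat_lit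 4, nat_lit 3, nat_lit 2, nat_lit 1, nat_lit 0, nat_lit 5, nat_lit 6, nat_lit 7, nat_lit 8, nat_lit 9, nat_lit 5, nat_lit 10, nat_lit 11, nat_lit 5, nat_lit 4, nat_lit 3, nat_lit 2, nat_lit 1, nat_lit 0, nat_lit 5, nat_lit 6, nat_lit 7, nat_lit 8, nat_lit 9, nat_lit 5, nat_lit 10, nat_lit 11, nat_lit 5, nat_lit 4, nat_lit 3, nat_lit 2, nat_lit 1, nat_lit 0, nat_lit 5, nat_lit 6, nat_lit 7, nat_lit 8, nat_lit 9, nat_lit 5, nat_lit 10, nat_lit 11, nat_lit 5, nat_lit 4, nat_lit 3, nat_lit 2, nat_lit 1, nat_lit 0, nat_lit 5, nat_lit 6, nat_lit 7, nat_lit 8, nat_lit 9, nat_lit 5, nat_lit 10, nat_lit 11, nat_lit 5, nat_lit 4, nat_lit 3, nat_lit 2, nat_lit 1, nat_lit 0, nat_lit 5, nat_lit 6, nat_lit 7, nat_lit 8, nat_lit 9, nat_lit 5, nat_lit 10, nat_lit 11, nat_lit 5, nat_lit 4, nat_lit 3, nat_lit 2, nat_lit 1, nat_lit 0, nat_lit 5, nat_lit 6,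 nat_lit 7, nat_lit 8, nat_lit 9, nat_lit 5, nat_lit 10, nat_lit 11, nat_lit 5, nat_lit 4, nat_lit 3, nat_lit 2, nat_lit 1, nat_lit 0, nat_lit 5, nat_lit 6, nat_lit 7, nat_lit 8, nat_lit 9, nat_lit 5, nat_lit 10, nat_lit 11, nat_lit 5, nat_lit 4, nat_lit 3, nat_lit 2, nat_lit 1, nat_lit 0, nat_lit 5, nat_lit 6, nat_lit 7, nat_lit 8, nat_lit 9, nat_lit 5, nat_lit 10, nat_lit 11, nat_lit 5, nat_lit 4, nat_lit 3, nat_lit 2, nat_lit 1, nat_lit 0, nat_lit 5, nat_lit 6, nat_lit 7, nat_lit 8, nat_lit 9, nat_lit 5, nat_lit 10, nat_lit 11, nat_lit 5, nat_lit 4, nat_lit 3, nat_lit 2, nat_lit 1, nat_lit 0, nat_lit 5, nat_lit 6, nat_lit 7, nat_lit 8, nat_lit 9, nat_lit 5, nat_lit 10, nat_lit 11, nat_lit 5, nat_lit 4, nat_lit 3, nat_lit 2, nat_lit 1, nat_lit 0, nat_lit 5, nat_lit 6, nat_lit 7, nat_lit 8, nat_lit 9, nat_lit 5, nat_lit 10, nat_lit 11,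 nat_lit 5, nat_lit 4, nat_lit 3, nat_lit 2, nat_lit 1, nat_lit 0, nat_lit 5, nat_lit 6, nat_lit 7, nat_lit 8, nat_lit 9, nat_lit 5]))) (TrL.node (TrL.node (TrL.leaf [nat_lit 6, nat_lit 1, nat_lit 6, nat_lit 1]) (TrL.leaf [nat_lit 4, nat_lit 3, nat_lit 2, nat_lit 10, nat_lit 7, nat_lit 6, nat_lit 5, nat_lit 4, nat_lit 3, nat_lit 2, nat_lit 10, nat_lit 7, nat_lit 6, nat_lit 5, nat_lit 4, nat_lit 3, nat_lit 2, nat_lit 10, nat_lit 7, nat_lit 6, nat_lit 5, nat_lit 4, nat_lit 3, nat_lit 2, nat_lit 10, nat_lit 7, nat_lit 6, nat_lit 5, nat_lit 4, nat_lit 3, nat_lit 2, nat_lit 10, nat_lit 7, nat_lit 6, nat_lit 5, nat_lit 4, nat_lit 3, nat_lit 2, nat_lit 10, nat_lit 7, nat_lit 6, nat_lit 5, nat_lit 4, nat_lit 3, nat_lit 2, nat_lit 10, nat_lit 7, nat_lit 6, nat_lit 5, nat_lit 4, nat_lit 3, nat_lit 2, nat_lit 10, nat_lit 7, nat_lit 6, nat_lit 5, nat_lit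 4, nat_lit 3, nat_lit 2, nat_lit 0, nat_lit 10, nat_lit 7, nat_lit 6, nat_lit 5])) (TrL.node (TrL.leaf [nat_lit 8, nat_lit 5, nat_lit 8, nat_lit 5]) (TrL.leaf [])))) (TrL.node (TrL.node (TrL.node (TrL.leaf [nat_lit 8, nat_lit 0, nat_lit 8, nat_lit 0]) (TrL.leaf [nat_lit 6, nat_lit 7, nat_lit 10, nat_lit 2, nat_lit 3, nat_lit 4, nat_lit 5, nat_lit 6, nat_lit 7, nat_lit 10, nat_lit 2, nat_lit 3, nat_lit 4, nat_lit 5, nat_lit 6, nat_lit 7, nat_lit 10, nat_lit 2, nat_lit 3, nat_lit 4, nat_lit 5, nat_lit 6, nat_lit 7, nat_lit 10, nat_lit 2, nat_lit 3, nat_lit 4, nat_lit 5, nat_lit 6, nat_lit 7, nat_lit 10, nat_lit 2, nat_lit 3, nat_lit 4, nat_lit 5, nat_lit 6, nat_lit 7, nat_lit 10, nat_lit 2, nat_lit 3, nat_lit 4, nat_lit 5, nat_lit 6, nat_lit 7, nat_lit 10, nat_lit 0, nat_lit 2, nat_lit 3, nat_lit 4, nat_lit 5, nat_lit 6, nat_lit 7, nat_lit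 10, nat_lit 2, nat_lit 3, nat_lit 4, nat_lit 5, nat_lit 6, nat_lit 7, nat_lit 10, nat_lit 2, nat_lit 3, nat_lit 4, nat_lit 5])) (TrL.node (TrL.leaf [nat_lit 6, nat_lit 4, nat_lit 6, nat_lit 4]) (TrL.leaf []))) (TrL.node (TrL.node (TrL.leaf [nat_lit 5, nat_lit 2, nat_lit 5, nat_lit 2]) (TrL.leaf [nat_lit 2, nat_lit 10, nat_lit 7, nat_lit 6, nat_lit 5, nat_lit 4, nat_lit 3, nat_lit 2, nat_lit 10, nat_lit 7, nat_lit 6, nat_lit 5, nat_lit 4, nat_lit 3, nat_lit 2, nat_lit 0, nat_lit 10, nat_lit 7, nat_lit 6, nat_lit 5, nat_lit 4, nat_lit 3, nat_lit 2, nat_lit 10, nat_lit 7, nat_lit 6, nat_lit 5, nat_lit 4, nat_lit 3, nat_lit 2, nat_lit 10, nat_lit 7, nat_lit 6, nat_lit 5, nat_lit 4, nat_lit 3, nat_lit 2, nat_lit 10, nat_lit 7, nat_lit 6, nat_lit 5, nat_lit 4, nat_lit 3, nat_lit 2, nat_lit 10, nat_lit 7, nat_lit 6, nat_lit 5, nat_lit 4, nat_lit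 3, nat_lit 2, nat_lit 10, nat_lit 7, nat_lit 6, nat_lit 5, nat_lit 4, nat_lit 3, nat_lit 2, nat_lit 10, nat_lit 7, nat_lit 6, nat_lit 5, nat_lit 4, nat_lit 3])) (TrL.node (TrL.leaf [nat_lit 11, nat_lit 6, nat_lit 11, nat_lit 6]) (TrL.leaf [])))))) (TrL.node (TrL.node (TrL.node (TrL.node (TrL.node (TrL.leaf [nat_lit 6, nat_lit 6]) (TrL.leaf [nat_lit 9, nat_lit 8, nat_lit 9, nat_lit 8, nat_lit 9, nat_lit 8])) (TrL.node (TrL.leaf [nat_lit 11, nat_lit 2, nat_lit 11, nat_lit 2]) (TrL.leaf [nat_lit 0, nat_lit 5, nat_lit 6, nat_lit 7, nat_lit 8, nat_lit 9, nat_lit 5, nat_lit 10, nat_lit 11, nat_lit 5, nat_lit 4, nat_lit 3, nat_lit 2, nat_lit 1, nat_lit 0, nat_lit 5, nat_lit 6, nat_lit 7, nat_lit 8, nat_lit 9, nat_lit 5, nat_lit 10, nat_lit 11, nat_lit 5, nat_lit 4, nat_lit 3, nat_lit 2, nat_lit 1, nat_lit 0, nat_lit 5, nat_lit 6, nat_lit 7, nat_lit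 8, nat_lit 9, nat_lit 5, nat_lit 10, nat_lit 11, nat_lit 5, nat_lit 4, nat_lit 3, nat_lit 2, nat_lit 1, nat_lit 0, nat_lit 5, nat_lit 6, nat_lit 7, nat_lit 8, nat_lit 9, nat_lit 5, nat_lit 10, nat_lit 11, nat_lit 5, nat_lit 4, nat_lit 3, nat_lit 2, nat_lit 1, nat_lit 0, nat_lit 5, nat_lit 6, nat_lit 7, nat_lit 8, nat_lit 9, nat_lit 5, nat_lit 10, nat_lit 11, nat_lit 5, nat_lit 4, nat_lit 3, nat_lit 2, nat_lit 1, nat_lit 0, nat_lit 5, nat_lit 6, nat_lit 7, nat_lit 8, nat_lit 9, nat_lit 5, nat_lit 10, nat_lit 11, nat_lit 5, nat_lit 4, nat_lit 3, nat_lit 2, nat_lit 1, nat_lit 0, nat_lit 5, nat_lit 6, nat_lit 7, nat_lit 8, nat_lit 9, nat_lit 5, nat_lit 10, nat_lit 11, nat_lit 5, nat_lit 4, nat_lit 3, nat_lit 2, nat_lit 1, nat_lit 0, nat_lit 5, nat_lit 6, nat_lit 7, nat_lit 8, nat_lit 9, nat_lit 5, nat_lit 10, nat_lit 11, nat_lit 5, nat_lit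 4, nat_lit 3, nat_lit 2, nat_lit 1, nat_lit 0, nat_lit 5, nat_lit 6, nat_lit 7, nat_lit 8, nat_lit 9, nat_lit 5, nat_lit 10, nat_lit 11, nat_lit 5, nat_lit 4, nat_lit 3, nat_lit 2, nat_lit 1, nat_lit 0, nat_lit 5, nat_lit 6, nat_lit 7, nat_lit 8, nat_lit 9, nat_lit 5, nat_lit 10, nat_lit 11, nat_lit 5, nat_lit 4, nat_lit 3, nat_lit 2, nat_lit 1, nat_lit 0, nat_lit 5, nat_lit 6, nat_lit 7, nat_lit 8, nat_lit 9, nat_lit 5, nat_lit 10, nat_lit 11, nat_lit 5, nat_lit 4, nat_lit 3, nat_lit 2, nat_lit 1, nat_lit 0, nat_lit 5, nat_lit 6, nat_lit 7, nat_lit 8, nat_lit 9, nat_lit 5, nat_lit 10, nat_lit 11, nat_lit 5, nat_lit 4, nat_lit 3, nat_lit 2, nat_lit 1, nat_lit 0, nat_lit 5, nat_lit 6, nat_lit 7, nat_lit 8, nat_lit 9, nat_lit 5, nat_lit 10, nat_lit 11, nat_lit 5, nat_lit 4, nat_lit 3, nat_lit 2, nat_lit 1, nat_lit 0, nat_lit 5, nat_lit 6,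 nat_lit 7, nat_lit 8, nat_lit 9, nat_lit 5, nat_lit 10, nat_lit 11, nat_lit 5, nat_lit 4, nat_lit 3, nat_lit 2, nat_lit 1, nat_lit 0, nat_lit 5, nat_lit 6, nat_lit 7, nat_lit 8, nat_lit 9, nat_lit 5, nat_lit 10, nat_lit 11, nat_lit 5, nat_lit 4, nat_lit 3, nat_lit 2, nat_lit 1, nat_lit 0, nat_lit 5, nat_lit 6, nat_lit 7, nat_lit 8, nat_lit 9, nat_lit 5, nat_lit 10, nat_lit 11, nat_lit 5, nat_lit 4, nat_lit 3, nat_lit 2, nat_lit 1, nat_lit 0, nat_lit 5, nat_lit 6, nat_lit 7, nat_lit 8, nat_lit 9, nat_lit 5, nat_lit 10, nat_lit 11, nat_lit 5, nat_lit 4, nat_lit 3, nat_lit 2, nat_lit 1]))) (TrL.node (TrL.node (TrL.leaf [nat_lit 4, nat_lit 1, nat_lit 4, nat_lit 1]) (TrL.leaf [nat_lit 10, nat_lit 7, nat_lit 6, nat_lit 5, nat_lit 4, nat_lit 3, nat_lit 2, nat_lit 10, nat_lit 7, nat_lit 6, nat_lit 5, nat_lit 4, nat_lit 3, nat_lit 2, nat_lit 10,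 nat_lit 7, nat_lit 6, nat_lit 5, nat_lit 4, nat_lit 3, nat_lit 2, nat_lit 10, nat_lit 7, nat_lit 6, nat_lit 5, nat_lit 4, nat_lit 3, nat_lit 2, nat_lit 10, nat_lit 7, nat_lit 6, nat_lit 5, nat_lit 4, nat_lit 3, nat_lit 2, nat_lit 10, nat_lit 7, nat_lit 6, nat_lit 5, nat_lit 4, nat_lit 3, nat_lit 2, nat_lit 10, nat_lit 7, nat_lit 6, nat_lit 5, nat_lit 4, nat_lit 3, nat_lit 2, nat_lit 10, nat_lit 7, nat_lit 6, nat_lit 5, nat_lit 4, nat_lit 3, nat_lit 2, nat_lit 10, nat_lit 7, nat_lit 6, nat_lit 5, nat_lit 4, nat_lit 3, nat_lit 2, nat_lit 0])) (TrL.node (TrL.leaf [nat_lit 6, nat_lit 5, nat_lit 6, nat_lit 5, nat_lit 6, nat_lit 5]) (TrL.leaf [])))) (TrL.node (TrL.node (TrL.node (TrL.leaf [nat_lit 6, nat_lit 0, nat_lit 6, nat_lit 0]) (TrL.leaf [nat_lit 4, nat_lit 5, nat_lit 6, nat_lit 7, nat_lit 10, nat_lit 2, nat_lit 3, nat_lit 4, nat_lit 5,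 nat_lit 6, nat_lit 7, nat_lit 10, nat_lit 2, nat_lit 3, nat_lit 4, nat_lit 5, nat_lit 6, nat_lit 7, nat_lit 10, nat_lit 2, nat_lit 3, nat_lit 4, nat_lit 5, nat_lit 6, nat_lit 7, nat_lit 10, nat_lit 2, nat_lit 3, nat_lit 4, nat_lit 5, nat_lit 6, nat_lit 7, nat_lit 10, nat_lit 2, nat_lit 3, nat_lit 4, nat_lit 5, nat_lit 6, nat_lit 7, nat_lit 10, nat_lit 2, nat_lit 3, nat_lit 4, nat_lit 5, nat_lit 6, nat_lit 7, nat_lit 10, nat_lit 2, nat_lit 3, nat_lit 4, nat_lit 5, nat_lit 6, nat_lit 7, nat_lit 10, nat_lit 0, nat_lit 2, nat_lit 3, nat_lit 4, nat_lit 5, nat_lit 6, nat_lit 7, nat_lit 10, nat_lit 2, nat_lit 3])) (TrL.node (TrL.leaf [nat_lit 11, nat_lit 3, nat_lit 11, nat_lit 3]) (TrL.leaf []))) (TrL.node (TrL.node (TrL.leaf [nat_lit 3, nat_lit 2, nat_lit 3, nat_lit 2, nat_lit 3, nat_lit 2]) (TrL.leaf [nat_lit 2, nat_lit 10, nat_lit 7, nat_lit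 6, nat_lit 5, nat_lit 4, nat_lit 3, nat_lit 2, nat_lit 10, nat_lit 7, nat_lit 6, nat_lit 5, nat_lit 4, nat_lit 3, nat_lit 2, nat_lit 10, nat_lit 7, nat_lit 6, nat_lit 5, nat_lit 4, nat_lit 3, nat_lit 2, nat_lit 10, nat_lit 7, nat_lit 6, nat_lit 5, nat_lit 4, nat_lit 3, nat_lit 2, nat_lit 10, nat_lit 7, nat_lit 6, nat_lit 5, nat_lit 4, nat_lit 3, nat_lit 2, nat_lit 0, nat_lit 10, nat_lit 7, nat_lit 6, nat_lit 5, nat_lit 4, nat_lit 3, nat_lit 2, nat_lit 10, nat_lit 7, nat_lit 6, nat_lit 5, nat_lit 4, nat_lit 3, nat_lit 2, nat_lit 10, nat_lit 7, nat_lit 6, nat_lit 5, nat_lit 4, nat_lit 3, nat_lit 2, nat_lit 10, nat_lit 7, nat_lit 6, nat_lit 5, nat_lit 4, nat_lit 3])) (TrL.node (TrL.leaf [nat_lit 10, nat_lit 6, nat_lit 10, nat_lit 6]) (TrL.leaf []))))) (TrL.node (TrL.node (TrL.node (TrL.node (TrL.leaf [nat_lit 2, nat_lit 0, nat_lit 2, nat_lit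 0]) (TrL.leaf [nat_lit 11, nat_lit 9, nat_lit 11, nat_lit 9])) (TrL.node (TrL.leaf [nat_lit 7, nat_lit 3, nat_lit 7, nat_lit 3]) (TrL.leaf []))) (TrL.node (TrL.node (TrL.leaf [nat_lit 8, nat_lit 1, nat_lit 8, nat_lit 1]) (TrL.leaf [nat_lit 7, nat_lit 6, nat_lit 5, nat_lit 4, nat_lit 3, nat_lit 2, nat_lit 10, nat_lit 7, nat_lit 6, nat_lit 5, nat_lit 4, nat_lit 3, nat_lit 2, nat_lit 10, nat_lit 7, nat_lit 6, nat_lit 5, nat_lit 4, nat_lit 3, nat_lit 2, nat_lit 10, nat_lit 7, nat_lit 6, nat_lit 5, nat_lit 4, nat_lit 3, nat_lit 2, nat_lit 10, nat_lit 7, nat_lit 6, nat_lit 5, nat_lit 4, nat_lit 3, nat_lit 2, nat_lit 10, nat_lit 7, nat_lit 6, nat_lit 5, nat_lit 4, nat_lit 3, nat_lit 2, nat_lit 10, nat_lit 7, nat_lit 6, nat_lit 5, nat_lit 4, nat_lit 3, nat_lit 2, nat_lit 10, nat_lit 7, nat_lit 6, nat_lit 5, nat_lit 4, nat_lit 3, nat_lit 2, nat_lit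 0, nat_lit 10, nat_lit 7, nat_lit 6, nat_lit 5, nat_lit 4, nat_lit 3, nat_lit 2, nat_lit 10])) (TrL.node (TrL.leaf [nat_lit 9, nat_lit 5, nat_lit 9, nat_lit 5]) (TrL.leaf [])))) (TrL.node (TrL.node (TrL.node (TrL.leaf [nat_lit 9, nat_lit 0, nat_lit 9, nat_lit 0]) (TrL.leaf [nat_lit 7, nat_lit 10, nat_lit 2, nat_lit 3, nat_lit 4, nat_lit 5, nat_lit 6, nat_lit 7, nat_lit 10, nat_lit 2, nat_lit 3, nat_lit 4, nat_lit 5, nat_lit 6, nat_lit 7, nat_lit 10, nat_lit 0, nat_lit 2, nat_lit 3, nat_lit 4, nat_lit 5, nat_lit 6, nat_lit 7, nat_lit 10, nat_lit 2, nat_lit 3, nat_lit 4, nat_lit 5, nat_lit 6, nat_lit 7, nat_lit 10, nat_lit 2, nat_lit 3, nat_lit 4, nat_lit 5, nat_lit 6, nat_lit 7, nat_lit 10, nat_lit 2, nat_lit 3, nat_lit 4, nat_lit 5, nat_lit 6, nat_lit 7, nat_lit 10, nat_lit 2, nat_lit 3, nat_lit 4, nat_lit 5, nat_lit 6, nat_lit 7, nat_lit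 10, nat_lit 2, nat_lit 3, nat_lit 4, nat_lit 5, nat_lit 6, nat_lit 7, nat_lit 10, nat_lit 2, nat_lit 3, nat_lit 4, nat_lit 5, nat_lit 6])) (TrL.node (TrL.leaf [nat_lit 8, nat_lit 4, nat_lit 8, nat_lit 4]) (TrL.leaf []))) (TrL.node (TrL.node (TrL.leaf [nat_lit 7, nat_lit 2, nat_lit 7, nat_lit 2]) (TrL.leaf [nat_lit 2, nat_lit 0, nat_lit 10, nat_lit 7, nat_lit 6, nat_lit 5, nat_lit 4, nat_lit 3, nat_lit 2, nat_lit 10, nat_lit 7, nat_lit 6, nat_lit 5, nat_lit 4, nat_lit 3, nat_lit 2, nat_lit 10, nat_lit 7, nat_lit 6, nat_lit 5, nat_lit 4, nat_lit 3, nat_lit 2, nat_lit 10, nat_lit 7, nat_lit 6, nat_lit 5, nat_lit 4, nat_lit 3, nat_lit 2, nat_lit 10, nat_lit 7, nat_lit 6, nat_lit 5, nat_lit 4, nat_lit 3, nat_lit 2, nat_lit 10, nat_lit 7, nat_lit 6, nat_lit 5, nat_lit 4, nat_lit 3, nat_lit 2, nat_lit 10, nat_lit 7, nat_lit 6, nat_lit 5, nat_lit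 4, nat_lit 3, nat_lit 2, nat_lit 10, nat_lit 7, nat_lit 6, nat_lit 5, nat_lit 4, nat_lit 3, nat_lit 2, nat_lit 10, nat_lit 7, nat_lit 6, nat_lit 5, nat_lit 4, nat_lit 3])) (TrL.node (TrL.leaf [nat_lit 10, nat_lit 7, nat_lit 10, nat_lit 7]) (TrL.leaf [])))))))) (TrL.node (TrL.node (TrL.node (TrL.node (TrL.node (TrL.node (TrL.node (TrL.leaf [nat_lit 1, nat_lit 1]) (TrL.leaf [nat_lit 7, nat_lit 9, nat_lit 7, nat_lit 9])) (TrL.node (TrL.leaf [nat_lit 2, nat_lit 8, nat_lit 2, nat_lit 8]) (TrL.leaf [nat_lit 5, nat_lit 0, nat_lit 1, nat_lit 2, nat_lit 3, nat_lit 4, nat_lit 5, nat_lit 11, nat_lit 10, nat_lit 5, nat_lit 9, nat_lit 8, nat_lit 7, nat_lit 6, nat_lit 5, nat_lit 0, nat_lit 1, nat_lit 2, nat_lit 3, nat_lit 4, nat_lit 5, nat_lit 11, nat_lit 10, nat_lit 5, nat_lit 9, nat_lit 8, nat_lit 7, nat_lit 6, nat_lit 5, nat_lit 0, nat_lit 1, nat_lit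 2, nat_lit 3, nat_lit 4, nat_lit 5, nat_lit 11, nat_lit 10, nat_lit 5, nat_lit 9, nat_lit 8, nat_lit 7, nat_lit 6, nat_lit 5, nat_lit 0, nat_lit 1, nat_lit 2, nat_lit 3, nat_lit 4, nat_lit 5, nat_lit 11, nat_lit 10, nat_lit 5, nat_lit 9, nat_lit 8, nat_lit 7, nat_lit 6, nat_lit 5, nat_lit 0, nat_lit 1, nat_lit 2, nat_lit 3, nat_lit 4, nat_lit 5, nat_lit 11, nat_lit 10, nat_lit 5, nat_lit 9, nat_lit 8, nat_lit 7, nat_lit 6, nat_lit 5, nat_lit 0, nat_lit 1, nat_lit 2, nat_lit 3, nat_lit 4, nat_lit 5, nat_lit 11, nat_lit 10, nat_lit 5, nat_lit 9, nat_lit 8, nat_lit 7, nat_lit 6, nat_lit 5, nat_lit 0, nat_lit 1, nat_lit 2, nat_lit 3, nat_lit 4, nat_lit 5, nat_lit 11, nat_lit 10, nat_lit 5, nat_lit 9, nat_lit 8, nat_lit 7, nat_lit 6, nat_lit 5, nat_lit 0, nat_lit 1, nat_lit 2, nat_lit 3, nat_lit 4, nat_lit 5, nat_lit 11, nat_lit 10, nat_lit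 5, nat_lit 9, nat_lit 8, nat_lit 7, nat_lit 6, nat_lit 5, nat_lit 0, nat_lit 1, nat_lit 2, nat_lit 3, nat_lit 4, nat_lit 5, nat_lit 11, nat_lit 10, nat_lit 5, nat_lit 9, nat_lit 8, nat_lit 7, nat_lit 6, nat_lit 5, nat_lit 0, nat_lit 1, nat_lit 2, nat_lit 3, nat_lit 4, nat_lit 5, nat_lit 11, nat_lit 10, nat_lit 5, nat_lit 9, nat_lit 8, nat_lit 7, nat_lit 6, nat_lit 5, nat_lit 0, nat_lit 1, nat_lit 2, nat_lit 3, nat_lit 4, nat_lit 5, nat_lit 11, nat_lit 10, nat_lit 5, nat_lit 9, nat_lit 8, nat_lit 7, nat_lit 6, nat_lit 5, nat_lit 0, nat_lit 1, nat_lit 2, nat_lit 3, nat_lit 4, nat_lit 5, nat_lit 11, nat_lit 10, nat_lit 5, nat_lit 9, nat_lit 8, nat_lit 7, nat_lit 6, nat_lit 5, nat_lit 0, nat_lit 1, nat_lit 2, nat_lit 3, nat_lit 4, nat_lit 5, nat_lit 11, nat_lit 10, nat_lit 5, nat_lit 9, nat_lit 8, nat_lit 7, nat_lit 6, nat_lit 5, nat_lit 0,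 nat_lit 1, nat_lit 2, nat_lit 3, nat_lit 4, nat_lit 5, nat_lit 11, nat_lit 10, nat_lit 5, nat_lit 9, nat_lit 8, nat_lit 7, nat_lit 6, nat_lit 5, nat_lit 0, nat_lit 1, nat_lit 2, nat_lit 3, nat_lit 4, nat_lit 5, nat_lit 11, nat_lit 10, nat_lit 5, nat_lit 9, nat_lit 8, nat_lit 7, nat_lit 6, nat_lit 5, nat_lit 0, nat_lit 1, nat_lit 2, nat_lit 3, nat_lit 4, nat_lit 5, nat_lit 11, nat_lit 10, nat_lit 5, nat_lit 9, nat_lit 8, nat_lit 7, nat_lit 6, nat_lit 5, nat_lit 0, nat_lit 1, nat_lit 2, nat_lit 3, nat_lit 4, nat_lit 5, nat_lit 11, nat_lit 10, nat_lit 5, nat_lit 9, nat_lit 8, nat_lit 7, nat_lit 6]))) (TrL.node (TrL.node (TrL.leaf [nat_lit 0, nat_lit 11, nat_lit 0, nat_lit 11]) (TrL.leaf [nat_lit 7, nat_lit 10, nat_lit 2, nat_lit 3, nat_lit 4, nat_lit 5, nat_lit 6, nat_lit 7, nat_lit 10, nat_lit 0, nat_lit 2, nat_lit 3, nat_lit 4, nat_lit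 5, nat_lit 6, nat_lit 7, nat_lit 10, nat_lit 2, nat_lit 3, nat_lit 4, nat_lit 5, nat_lit 6, nat_lit 7, nat_lit 10, nat_lit 2, nat_lit 3, nat_lit 4, nat_lit 5, nat_lit 6, nat_lit 7, nat_lit 10, nat_lit 2, nat_lit 3, nat_lit 4, nat_lit 5, nat_lit 6, nat_lit 7, nat_lit 10, nat_lit 2, nat_lit 3, nat_lit 4, nat_lit 5, nat_lit 6, nat_lit 7, nat_lit 10, nat_lit 2, nat_lit 3, nat_lit 4, nat_lit 5, nat_lit 6, nat_lit 7, nat_lit 10, nat_lit 2, nat_lit 3, nat_lit 4, nat_lit 5, nat_lit 6, nat_lit 7, nat_lit 10, nat_lit 2, nat_lit 3, nat_lit 4, nat_lit 5, nat_lit 6])) (TrL.node (TrL.leaf [nat_lit 4, nat_lit 10, nat_lit 4, nat_lit 10]) (TrL.leaf [])))) (TrL.node (TrL.node (TrL.node (TrL.leaf [nat_lit 0, nat_lit 3, nat_lit 0, nat_lit 3]) (TrL.leaf [nat_lit 4, nat_lit 5, nat_lit 6, nat_lit 7, nat_lit 10, nat_lit 2, nat_lit 3, nat_lit 4, nat_lit 5, nat_lit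 6, nat_lit 7, nat_lit 10, nat_lit 2, nat_lit 3, nat_lit 4, nat_lit 5, nat_lit 6, nat_lit 7, nat_lit 10, nat_lit 2, nat_lit 3, nat_lit 4, nat_lit 5, nat_lit 6, nat_lit 7, nat_lit 10, nat_lit 2, nat_lit 3, nat_lit 4, nat_lit 5, nat_lit 6, nat_lit 7, nat_lit 10, nat_lit 2, nat_lit 3, nat_lit 4, nat_lit 5, nat_lit 6, nat_lit 7, nat_lit 10, nat_lit 2, nat_lit 3, nat_lit 4, nat_lit 5, nat_lit 6, nat_lit 7, nat_lit 10, nat_lit 2, nat_lit 3, nat_lit 4, nat_lit 5, nat_lit 6, nat_lit 7, nat_lit 10, nat_lit 2, nat_lit 3, nat_lit 4, nat_lit 5, nat_lit 6, nat_lit 7, nat_lit 10, nat_lit 0, nat_lit 2, nat_lit 3])) (TrL.node (TrL.leaf [nat_lit 3, nat_lit 8, nat_lit 3, nat_lit 8]) (TrL.leaf []))) (TrL.node (TrL.node (TrL.leaf [nat_lit 1, nat_lit 10, nat_lit 1, nat_lit 10]) (TrL.leaf [nat_lit 4, nat_lit 3, nat_lit 2, nat_lit 10, nat_lit 7, nat_lit 6, nat_lit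 5, nat_lit 4, nat_lit 3, nat_lit 2, nat_lit 10, nat_lit 7, nat_lit 6, nat_lit 5, nat_lit 4, nat_lit 3, nat_lit 2, nat_lit 10, nat_lit 7, nat_lit 6, nat_lit 5, nat_lit 4, nat_lit 3, nat_lit 2, nat_lit 10, nat_lit 7, nat_lit 6, nat_lit 5, nat_lit 4, nat_lit 3, nat_lit 2, nat_lit 10, nat_lit 7, nat_lit 6, nat_lit 5, nat_lit 4, nat_lit 3, nat_lit 2, nat_lit 10, nat_lit 7, nat_lit 6, nat_lit 5, nat_lit 4, nat_lit 3, nat_lit 2, nat_lit 10, nat_lit 7, nat_lit 6, nat_lit 5, nat_lit 4, nat_lit 3, nat_lit 2, nat_lit 0, nat_lit 10, nat_lit 7, nat_lit 6, nat_lit 5, nat_lit 4, nat_lit 3, nat_lit 2, nat_lit 10, nat_lit 7, nat_lit 6, nat_lit 5])) (TrL.node (TrL.leaf [nat_lit 5, nat_lit 11, nat_lit 5, nat_lit 11]) (TrL.leaf []))))) (TrL.node (TrL.node (TrL.node (TrL.node (TrL.leaf [nat_lit 9, nat_lit 9]) (TrL.leaf [nat_lit 8, nat_lit 11, nat_lit 8, nat_lit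 11])) (TrL.node (TrL.leaf [nat_lit 3, nat_lit 4, nat_lit 3, nat_lit 4, nat_lit 3, nat_lit 4]) (TrL.leaf [nat_lit 9, nat_lit 5, nat_lit 10, nat_lit 11, nat_lit 5, nat_lit 4, nat_lit 3, nat_lit 2, nat_lit 1, nat_lit 0, nat_lit 5, nat_lit 6, nat_lit 7, nat_lit 8, nat_lit 9, nat_lit 5, nat_lit 10, nat_lit 11, nat_lit 5, nat_lit 4, nat_lit 3, nat_lit 2, nat_lit 1, nat_lit 0, nat_lit 5, nat_lit 6, nat_lit 7, nat_lit 8, nat_lit 9, nat_lit 5, nat_lit 10, nat_lit 11, nat_lit 5, nat_lit 4, nat_lit 3, nat_lit 2, nat_lit 1, nat_lit 0, nat_lit 5, nat_lit 6, nat_lit 7, nat_lit 8, nat_lit 9, nat_lit 5, nat_lit 10, nat_lit 11, nat_lit 5, nat_lit 4, nat_lit 3, nat_lit 2, nat_lit 1, nat_lit 0, nat_lit 5, nat_lit 6, nat_lit 7, nat_lit 8, nat_lit 9, nat_lit 5, nat_lit 10, nat_lit 11, nat_lit 5, nat_lit 4, nat_lit 3, nat_lit 2, nat_lit 1, nat_lit 0, nat_lit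 5, nat_lit 6, nat_lit 7, nat_lit 8, nat_lit 9, nat_lit 5, nat_lit 10, nat_lit 11, nat_lit 5, nat_lit 4, nat_lit 3, nat_lit 2, nat_lit 1, nat_lit 0, nat_lit 5, nat_lit 6, nat_lit 7, nat_lit 8, nat_lit 9, nat_lit 5, nat_lit 10, nat_lit 11, nat_lit 5, nat_lit 4, nat_lit 3, nat_lit 2, nat_lit 1, nat_lit 0, nat_lit 5, nat_lit 6, nat_lit 7, nat_lit 8, nat_lit 9, nat_lit 5, nat_lit 10, nat_lit 11, nat_lit 5, nat_lit 4, nat_lit 3, nat_lit 2, nat_lit 1, nat_lit 0, nat_lit 5, nat_lit 6, nat_lit 7, nat_lit 8, nat_lit 9, nat_lit 5, nat_lit 10, nat_lit 11, nat_lit 5, nat_lit 4, nat_lit 3, nat_lit 2, nat_lit 1, nat_lit 0, nat_lit 5, nat_lit 6, nat_lit 7, nat_lit 8, nat_lit 9, nat_lit 5, nat_lit 10, nat_lit 11, nat_lit 5, nat_lit 4, nat_lit 3, nat_lit 2, nat_lit 1, nat_lit 0, nat_lit 5, nat_lit 6, nat_lit 7, nat_lit 8, nat_lit 9, nat_lit 5, nat_lit 10,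 nat_lit 11, nat_lit 5, nat_lit 4, nat_lit 3, nat_lit 2, nat_lit 1, nat_lit 0, nat_lit 5, nat_lit 6, nat_lit 7, nat_lit 8, nat_lit 9, nat_lit 5, nat_lit 10, nat_lit 11, nat_lit 5, nat_lit 4, nat_lit 3, nat_lit 2, nat_lit 1, nat_lit 0, nat_lit 5, nat_lit 6, nat_lit 7, nat_lit 8, nat_lit 9, nat_lit 5, nat_lit 10, nat_lit 11, nat_lit 5, nat_lit 4, nat_lit 3, nat_lit 2, nat_lit 1, nat_lit 0, nat_lit 5, nat_lit 6, nat_lit 7, nat_lit 8, nat_lit 9, nat_lit 5, nat_lit 10, nat_lit 11, nat_lit 5, nat_lit 4, nat_lit 3, nat_lit 2, nat_lit 1, nat_lit 0, nat_lit 5, nat_lit 6, nat_lit 7, nat_lit 8, nat_lit 9, nat_lit 5, nat_lit 10, nat_lit 11, nat_lit 5, nat_lit 4, nat_lit 3, nat_lit 2, nat_lit 1, nat_lit 0, nat_lit 5, nat_lit 6, nat_lit 7, nat_lit 8, nat_lit 9, nat_lit 5, nat_lit 10, nat_lit 11, nat_lit 5, nat_lit 4, nat_lit 3, nat_lit 2, nat_lit 1,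 nat_lit 0, nat_lit 5, nat_lit 6, nat_lit 7, nat_lit 8, nat_lit 9, nat_lit 5, nat_lit 10, nat_lit 11, nat_lit 5, nat_lit 4, nat_lit 3, nat_lit 2, nat_lit 1, nat_lit 0, nat_lit 5, nat_lit 6, nat_lit 7, nat_lit 8]))) (TrL.node (TrL.node (TrL.leaf [nat_lit 1, nat_lit 5, nat_lit 1, nat_lit 5]) (TrL.leaf [nat_lit 5, nat_lit 4, nat_lit 3, nat_lit 2, nat_lit 10, nat_lit 7, nat_lit 6, nat_lit 5, nat_lit 4, nat_lit 3, nat_lit 2, nat_lit 10, nat_lit 7, nat_lit 6, nat_lit 5, nat_lit 4, nat_lit 3, nat_lit 2, nat_lit 10, nat_lit 7, nat_lit 6, nat_lit 5, nat_lit 4, nat_lit 3, nat_lit 2, nat_lit 10, nat_lit 7, nat_lit 6, nat_lit 5, nat_lit 4, nat_lit 3, nat_lit 2, nat_lit 10, nat_lit 7, nat_lit 6, nat_lit 5, nat_lit 4, nat_lit 3, nat_lit 2, nat_lit 10, nat_lit 7, nat_lit 6, nat_lit 5, nat_lit 4, nat_lit 3, nat_lit 2, nat_lit 10, nat_lit 7, nat_lit 6,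 nat_lit 5, nat_lit 4, nat_lit 3, nat_lit 2, nat_lit 10, nat_lit 7, nat_lit 6, nat_lit 5, nat_lit 4, nat_lit 3, nat_lit 2, nat_lit 0, nat_lit 10, nat_lit 7, nat_lit 6])) (TrL.node (TrL.leaf [nat_lit 5, nat_lit 7, nat_lit 5, nat_lit 7]) (TrL.leaf [])))) (TrL.node (TrL.node (TrL.node (TrL.leaf [nat_lit 0, nat_lit 7, nat_lit 0, nat_lit 7]) (TrL.leaf [nat_lit 10, nat_lit 2, nat_lit 3, nat_lit 4, nat_lit 5, nat_lit 6, nat_lit 7, nat_lit 10, nat_lit 2, nat_lit 3, nat_lit 4, nat_lit 5, nat_lit 6, nat_lit 7, nat_lit 10, nat_lit 2, nat_lit 3, nat_lit 4, nat_lit 5, nat_lit 6, nat_lit 7, nat_lit 10, nat_lit 2, nat_lit 3, nat_lit 4, nat_lit 5, nat_lit 6, nat_lit 7, nat_lit 10, nat_lit 2, nat_lit 3, nat_lit 4, nat_lit 5, nat_lit 6, nat_lit 7, nat_lit 10, nat_lit 2, nat_lit 3, nat_lit 4, nat_lit 5, nat_lit 6, nat_lit 7, nat_lit 10, nat_lit 2, nat_lit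 3, nat_lit 4, nat_lit 5, nat_lit 6, nat_lit 7, nat_lit 10, nat_lit 0, nat_lit 2, nat_lit 3, nat_lit 4, nat_lit 5, nat_lit 6, nat_lit 7, nat_lit 10, nat_lit 2, nat_lit 3, nat_lit 4, nat_lit 5, nat_lit 6, nat_lit 7])) (TrL.node (TrL.leaf [nat_lit 4, nat_lit 5, nat_lit 4, nat_lit 5, nat_lit 4, nat_lit 5]) (TrL.leaf []))) (TrL.node (TrL.node (TrL.leaf [nat_lit 2, nat_lit 4, nat_lit 2, nat_lit 4]) (TrL.leaf [nat_lit 3, nat_lit 2, nat_lit 10, nat_lit 7, nat_lit 6, nat_lit 5, nat_lit 4, nat_lit 3, nat_lit 2, nat_lit 10, nat_lit 7, nat_lit 6, nat_lit 5, nat_lit 4, nat_lit 3, nat_lit 2, nat_lit 0, nat_lit 10, nat_lit 7, nat_lit 6, nat_lit 5, nat_lit 4, nat_lit 3, nat_lit 2, nat_lit 10, nat_lit 7, nat_lit 6, nat_lit 5, nat_lit 4, nat_lit 3, nat_lit 2, nat_lit 10, nat_lit 7, nat_lit 6, nat_lit 5, nat_lit 4, nat_lit 3, nat_lit 2, nat_lit 10, nat_lit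 7, nat_lit 6, nat_lit 5, nat_lit 4, nat_lit 3, nat_lit 2, nat_lit 10, nat_lit 7, nat_lit 6, nat_lit 5, nat_lit 4, nat_lit 3, nat_lit 2, nat_lit 10, nat_lit 7, nat_lit 6, nat_lit 5, nat_lit 4, nat_lit 3, nat_lit 2, nat_lit 10, nat_lit 7, nat_lit 6, nat_lit 5, nat_lit 4])) (TrL.node (TrL.leaf [nat_lit 6, nat_lit 9, nat_lit 6, nat_lit 9]) (TrL.leaf [])))))) (TrL.node (TrL.node (TrL.node (TrL.node (TrL.node (TrL.leaf [nat_lit 5, nat_lit 5]) (TrL.leaf [nat_lit 8, nat_lit 10, nat_lit 8, nat_lit 10])) (TrL.node (TrL.leaf [nat_lit 2, nat_lit 9, nat_lit 2, nat_lit 9]) (TrL.leaf [nat_lit 1, nat_lit 0, nat_lit 5, nat_lit 6, nat_lit 7, nat_lit 8, nat_lit 9, nat_lit 5, nat_lit 10, nat_lit 11, nat_lit 5, nat_lit 4, nat_lit 3, nat_lit 2, nat_lit 1, nat_lit 0, nat_lit 5, nat_lit 6, nat_lit 7, nat_lit 8, nat_lit 9, nat_lit 5, nat_lit 10, nat_lit 11, nat_lit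 5, nat_lit 4, nat_lit 3, nat_lit 2, nat_lit 1, nat_lit 0, nat_lit 5, nat_lit 6, nat_lit 7, nat_lit 8, nat_lit 9, nat_lit 5, nat_lit 10, nat_lit 11, nat_lit 5, nat_lit 4, nat_lit 3, nat_lit 2, nat_lit 1, nat_lit 0, nat_lit 5, nat_lit 6, nat_lit 7, nat_lit 8, nat_lit 9, nat_lit 5, nat_lit 10, nat_lit 11, nat_lit 5, nat_lit 4, nat_lit 3, nat_lit 2, nat_lit 1, nat_lit 0, nat_lit 5, nat_lit 6, nat_lit 7, nat_lit 8, nat_lit 9, nat_lit 5, nat_lit 10, nat_lit 11, nat_lit 5, nat_lit 4, nat_lit 3, nat_lit 2, nat_lit 1, nat_lit 0, nat_lit 5, nat_lit 6, nat_lit 7, nat_lit 8, nat_lit 9, nat_lit 5, nat_lit 10, nat_lit 11, nat_lit 5, nat_lit 4, nat_lit 3, nat_lit 2, nat_lit 1, nat_lit 0, nat_lit 5, nat_lit 6, nat_lit 7, nat_lit 8, nat_lit 9, nat_lit 5, nat_lit 10, nat_lit 11, nat_lit 5, nat_lit 4, nat_lit 3, nat_lit 2, nat_lit 1, nat_lit 0, nat_lit 5,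 nat_lit 6, nat_lit 7, nat_lit 8, nat_lit 9, nat_lit 5, nat_lit 10, nat_lit 11, nat_lit 5, nat_lit 4, nat_lit 3, nat_lit 2, nat_lit 1, nat_lit 0, nat_lit 5, nat_lit 6, nat_lit 7, nat_lit 8, nat_lit 9, nat_lit 5, nat_lit 10, nat_lit 11, nat_lit 5, nat_lit 4, nat_lit 3, nat_lit 2, nat_lit 1, nat_lit 0, nat_lit 5, nat_lit 6, nat_lit 7, nat_lit 8, nat_lit 9, nat_lit 5, nat_lit 10, nat_lit 11, nat_lit 5, nat_lit 4, nat_lit 3, nat_lit 2, nat_lit 1, nat_lit 0, nat_lit 5, nat_lit 6, nat_lit 7, nat_lit 8, nat_lit 9, nat_lit 5, nat_lit 10, nat_lit 11, nat_lit 5, nat_lit 4, nat_lit 3, nat_lit 2, nat_lit 1, nat_lit 0, nat_lit 5, nat_lit 6, nat_lit 7, nat_lit 8, nat_lit 9, nat_lit 5, nat_lit 10, nat_lit 11, nat_lit 5, nat_lit 4, nat_lit 3, nat_lit 2, nat_lit 1, nat_lit 0, nat_lit 5, nat_lit 6, nat_lit 7, nat_lit 8, nat_lit 9, nat_lit 5, nat_lit 10,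 nat_lit 11, nat_lit 5, nat_lit 4, nat_lit 3, nat_lit 2, nat_lit 1, nat_lit 0, nat_lit 5, nat_lit 6, nat_lit 7, nat_lit 8, nat_lit 9, nat_lit 5, nat_lit 10, nat_lit 11, nat_lit 5, nat_lit 4, nat_lit 3, nat_lit 2, nat_lit 1, nat_lit 0, nat_lit 5, nat_lit 6, nat_lit 7, nat_lit 8, nat_lit 9, nat_lit 5, nat_lit 10, nat_lit 11, nat_lit 5, nat_lit 4, nat_lit 3, nat_lit 2, nat_lit 1, nat_lit 0, nat_lit 5, nat_lit 6, nat_lit 7, nat_lit 8, nat_lit 9, nat_lit 5, nat_lit 10, nat_lit 11, nat_lit 5, nat_lit 4, nat_lit 3, nat_lit 2, nat_lit 1, nat_lit 0, nat_lit 5, nat_lit 6, nat_lit 7, nat_lit 8, nat_lit 9, nat_lit 5, nat_lit 10, nat_lit 11, nat_lit 5, nat_lit 4, nat_lit 3, nat_lit 2]))) (TrL.node (TrL.node (TrL.leaf [nat_lit 1, nat_lit 3, nat_lit 1, nat_lit 3]) (TrL.leaf [nat_lit 0, nat_lit 2, nat_lit 3, nat_lit 4, nat_lit 5, nat_lit 6, nat_lit 7,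 nat_lit 10, nat_lit 2, nat_lit 3, nat_lit 4, nat_lit 5, nat_lit 6, nat_lit 7, nat_lit 10, nat_lit 2, nat_lit 3, nat_lit 4, nat_lit 5, nat_lit 6, nat_lit 7, nat_lit 10, nat_lit 2, nat_lit 3, nat_lit 4, nat_lit 5, nat_lit 6, nat_lit 7, nat_lit 10, nat_lit 2, nat_lit 3, nat_lit 4, nat_lit 5, nat_lit 6, nat_lit 7, nat_lit 10, nat_lit 2, nat_lit 3, nat_lit 4, nat_lit 5, nat_lit 6, nat_lit 7, nat_lit 10, nat_lit 2, nat_lit 3, nat_lit 4, nat_lit 5, nat_lit 6, nat_lit 7, nat_lit 10, nat_lit 2, nat_lit 3, nat_lit 4, nat_lit 5, nat_lit 6, nat_lit 7, nat_lit 10, nat_lit 2, nat_lit 3, nat_lit 4, nat_lit 5, nat_lit 6, nat_lit 7, nat_lit 10])) (TrL.node (TrL.leaf [nat_lit 4, nat_lit 11, nat_lit 4, nat_lit 11]) (TrL.leaf [])))) (TrL.node (TrL.node (TrL.node (TrL.leaf [nat_lit 0, nat_lit 5, nat_lit 0, nat_lit 5]) (TrL.leaf [nat_lit 10, nat_lit 2, nat_lit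 3, nat_lit 4, nat_lit 5, nat_lit 6, nat_lit 7, nat_lit 10, nat_lit 2, nat_lit 3, nat_lit 4, nat_lit 5, nat_lit 6, nat_lit 7, nat_lit 10, nat_lit 2, nat_lit 3, nat_lit 4, nat_lit 5, nat_lit 6, nat_lit 7, nat_lit 10, nat_lit 2, nat_lit 3, nat_lit 4, nat_lit 5, nat_lit 6, nat_lit 7, nat_lit 10, nat_lit 2, nat_lit 3, nat_lit 4, nat_lit 5, nat_lit 6, nat_lit 7, nat_lit 10, nat_lit 2, nat_lit 3, nat_lit 4, nat_lit 5, nat_lit 6, nat_lit 7, nat_lit 10, nat_lit 2, nat_lit 3, nat_lit 4, nat_lit 5, nat_lit 6, nat_lit 7, nat_lit 10, nat_lit 2, nat_lit 3, nat_lit 4, nat_lit 5, nat_lit 6, nat_lit 7, nat_lit 10, nat_lit 0, nat_lit 2, nat_lit 3, nat_lit 4, nat_lit 5, nat_lit 6, nat_lit 7])) (TrL.node (TrL.leaf [nat_lit 3, nat_lit 9, nat_lit 3, nat_lit 9]) (TrL.leaf []))) (TrL.node (TrL.node (TrL.leaf [nat_lit 1, nat_lit 11, nat_lit 1, nat_lit 11]) (TrL.leaf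 [nat_lit 3, nat_lit 2, nat_lit 10, nat_lit 7, nat_lit 6, nat_lit 5, nat_lit 4, nat_lit 3, nat_lit 2, nat_lit 10, nat_lit 7, nat_lit 6, nat_lit 5, nat_lit 4, nat_lit 3, nat_lit 2, nat_lit 10, nat_lit 7, nat_lit 6, nat_lit 5, nat_lit 4, nat_lit 3, nat_lit 2, nat_lit 10, nat_lit 7, nat_lit 6, nat_lit 5, nat_lit 4, nat_lit 3, nat_lit 2, nat_lit 10, nat_lit 7, nat_lit 6, nat_lit 5, nat_lit 4, nat_lit 3, nat_lit 2, nat_lit 0, nat_lit 10, nat_lit 7, nat_lit 6, nat_lit 5, nat_lit 4, nat_lit 3, nat_lit 2, nat_lit 10, nat_lit 7, nat_lit 6, nat_lit 5, nat_lit 4, nat_lit 3, nat_lit 2, nat_lit 10, nat_lit 7, nat_lit 6, nat_lit 5, nat_lit 4, nat_lit 3, nat_lit 2, nat_lit 10, nat_lit 7, nat_lit 6, nat_lit 5, nat_lit 4])) (TrL.node (TrL.leaf [nat_lit 6, nat_lit 8, nat_lit 6, nat_lit 8]) (TrL.leaf []))))) (TrL.node (TrL.node (TrL.node (TrL.node (TrL.leaf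 [nat_lit 0, nat_lit 1, nat_lit 0, nat_lit 1, nat_lit 0, nat_lit 1]) (TrL.leaf [nat_lit 10, nat_lit 11, nat_lit 10, nat_lit 11, nat_lit 10, nat_lit 11])) (TrL.node (TrL.leaf [nat_lit 3, nat_lit 6, nat_lit 3, nat_lit 6]) (TrL.leaf []))) (TrL.node (TrL.node (TrL.leaf [nat_lit 1, nat_lit 7, nat_lit 1, nat_lit 7]) (TrL.leaf [nat_lit 10, nat_lit 7, nat_lit 6, nat_lit 5, nat_lit 4, nat_lit 3, nat_lit 2, nat_lit 10, nat_lit 7, nat_lit 6, nat_lit 5, nat_lit 4, nat_lit 3, nat_lit 2, nat_lit 10, nat_lit 7, nat_lit 6, nat_lit 5, nat_lit 4, nat_lit 3, nat_lit 2, nat_lit 10, nat_lit 7, nat_lit 6, nat_lit 5, nat_lit 4, nat_lit 3, nat_lit 2, nat_lit 10, nat_lit 7, nat_lit 6, nat_lit 5, nat_lit 4, nat_lit 3, nat_lit 2, nat_lit 10, nat_lit 7, nat_lit 6, nat_lit 5, nat_lit 4, nat_lit 3, nat_lit 2, nat_lit 10, nat_lit 7, nat_lit 6, nat_lit 5, nat_lit 4, nat_lit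 3, nat_lit 2, nat_lit 10, nat_lit 7, nat_lit 6, nat_lit 5, nat_lit 4, nat_lit 3, nat_lit 2, nat_lit 0, nat_lit 10, nat_lit 7, nat_lit 6, nat_lit 5, nat_lit 4, nat_lit 3, nat_lit 2])) (TrL.node (TrL.leaf [nat_lit 5, nat_lit 10, nat_lit 5, nat_lit 10, nat_lit 5, nat_lit 10]) (TrL.leaf [])))) (TrL.node (TrL.node (TrL.node (TrL.leaf [nat_lit 0, nat_lit 10, nat_lit 0, nat_lit 10]) (TrL.leaf [nat_lit 7, nat_lit 10, nat_lit 2, nat_lit 3, nat_lit 4, nat_lit 5, nat_lit 6, nat_lit 7, nat_lit 10, nat_lit 2, nat_lit 3, nat_lit 4, nat_lit 5, nat_lit 6, nat_lit 7, nat_lit 10, nat_lit 2, nat_lit 3, nat_lit 4, nat_lit 5, nat_lit 6, nat_lit 7, nat_lit 10, nat_lit 2, nat_lit 3, nat_lit 4, nat_lit 5, nat_lit 6, nat_lit 7, nat_lit 10, nat_lit 0, nat_lit 2, nat_lit 3, nat_lit 4, nat_lit 5, nat_lit 6, nat_lit 7, nat_lit 10, nat_lit 2, nat_lit 3, nat_lit 4,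 nat_lit 5, nat_lit 6, nat_lit 7, nat_lit 10, nat_lit 2, nat_lit 3, nat_lit 4, nat_lit 5, nat_lit 6, nat_lit 7, nat_lit 10, nat_lit 2, nat_lit 3, nat_lit 4, nat_lit 5, nat_lit 6, nat_lit 7, nat_lit 10, nat_lit 2, nat_lit 3, nat_lit 4, nat_lit 5, nat_lit 6])) (TrL.node (TrL.leaf [nat_lit 4, nat_lit 7, nat_lit 4, nat_lit 7]) (TrL.leaf []))) (TrL.node (TrL.node (TrL.leaf [nat_lit 2, nat_lit 6, nat_lit 2, nat_lit 6]) (TrL.leaf [nat_lit 3, nat_lit 2, nat_lit 0, nat_lit 10, nat_lit 7, nat_lit 6, nat_lit 5, nat_lit 4, nat_lit 3, nat_lit 2, nat_lit 10, nat_lit 7, nat_lit 6, nat_lit 5, nat_lit 4, nat_lit 3, nat_lit 2, nat_lit 10, nat_lit 7, nat_lit 6, nat_lit 5, nat_lit 4, nat_lit 3, nat_lit 2, nat_lit 10, nat_lit 7, nat_lit 6, nat_lit 5, nat_lit 4, nat_lit 3, nat_lit 2, nat_lit 10, nat_lit 7, nat_lit 6, nat_lit 5, nat_lit 4, nat_lit 3, nat_lit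 2, nat_lit 10, nat_lit 7, nat_lit 6, nat_lit 5, nat_lit 4, nat_lit 3, nat_lit 2, nat_lit 10, nat_lit 7, nat_lit 6, nat_lit 5, nat_lit 4, nat_lit 3, nat_lit 2, nat_lit 10, nat_lit 7, nat_lit 6, nat_lit 5, nat_lit 4, nat_lit 3, nat_lit 2, nat_lit 10, nat_lit 7, nat_lit 6, nat_lit 5, nat_lit 4])) (TrL.node (TrL.leaf [nat_lit 7, nat_lit 8, nat_lit 7, nat_lit 8, nat_lit 7, nat_lit 8]) (TrL.leaf []))))))) (TrL.node (TrL.node (TrL.node (TrL.node (TrL.node (TrL.node (TrL.leaf [nat_lit 3, nat_lit 3]) (TrL.leaf [nat_lit 7, nat_lit 11, nat_lit 7, nat_lit 11])) (TrL.node (TrL.leaf [nat_lit 2, nat_lit 10, nat_lit 2, nat_lit 10]) (TrL.leaf [nat_lit 4, nat_lit 3, nat_lit 2, nat_lit 1, nat_lit 0, nat_lit 5, nat_lit 6, nat_lit 7, nat_lit 8, nat_lit 9, nat_lit 5, nat_lit 10, nat_lit 11, nat_lit 5, nat_lit 4, nat_lit 3, nat_lit 2, nat_lit 1, nat_lit 0, nat_lit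 5, nat_lit 6, nat_lit 7, nat_lit 8, nat_lit 9, nat_lit 5, nat_lit 10, nat_lit 11, nat_lit 5, nat_lit 4, nat_lit 3, nat_lit 2, nat_lit 1, nat_lit 0, nat_lit 5, nat_lit 6, nat_lit 7, nat_lit 8, nat_lit 9, nat_lit 5, nat_lit 10, nat_lit 11, nat_lit 5, nat_lit 4, nat_lit 3, nat_lit 2, nat_lit 1, nat_lit 0, nat_lit 5, nat_lit 6, nat_lit 7, nat_lit 8, nat_lit 9, nat_lit 5, nat_lit 10, nat_lit 11, nat_lit 5, nat_lit 4, nat_lit 3, nat_lit 2, nat_lit 1, nat_lit 0, nat_lit 5, nat_lit 6, nat_lit 7, nat_lit 8, nat_lit 9, nat_lit 5, nat_lit 10, nat_lit 11, nat_lit 5, nat_lit 4, nat_lit 3, nat_lit 2, nat_lit 1, nat_lit 0, nat_lit 5, nat_lit 6, nat_lit 7, nat_lit 8, nat_lit 9, nat_lit 5, nat_lit 10, nat_lit 11, nat_lit 5, nat_lit 4, nat_lit 3, nat_lit 2, nat_lit 1, nat_lit 0, nat_lit 5, nat_lit 6, nat_lit 7, nat_lit 8, nat_lit 9, nat_lit 5, nat_lit 10,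 nat_lit 11, nat_lit 5, nat_lit 4, nat_lit 3, nat_lit 2, nat_lit 1, nat_lit 0, nat_lit 5, nat_lit 6, nat_lit 7, nat_lit 8, nat_lit 9, nat_lit 5, nat_lit 10, nat_lit 11, nat_lit 5, nat_lit 4, nat_lit 3, nat_lit 2, nat_lit 1, nat_lit 0, nat_lit 5, nat_lit 6, nat_lit 7, nat_lit 8, nat_lit 9, nat_lit 5, nat_lit 10, nat_lit 11, nat_lit 5, nat_lit 4, nat_lit 3, nat_lit 2, nat_lit 1, nat_lit 0, nat_lit 5, nat_lit 6, nat_lit 7, nat_lit 8, nat_lit 9, nat_lit 5, nat_lit 10, nat_lit 11, nat_lit 5, nat_lit 4, nat_lit 3, nat_lit 2, nat_lit 1, nat_lit 0, nat_lit 5, nat_lit 6, nat_lit 7, nat_lit 8, nat_lit 9, nat_lit 5, nat_lit 10, nat_lit 11, nat_lit 5, nat_lit 4, nat_lit 3, nat_lit 2, nat_lit 1, nat_lit 0, nat_lit 5, nat_lit 6, nat_lit 7, nat_lit 8, nat_lit 9, nat_lit 5, nat_lit 10, nat_lit 11, nat_lit 5, nat_lit 4, nat_lit 3, nat_lit 2, nat_lit 1,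 nat_lit 0, nat_lit 5, nat_lit 6, nat_lit 7, nat_lit 8, nat_lit 9, nat_lit 5, nat_lit 10, nat_lit 11, nat_lit 5, nat_lit 4, nat_lit 3, nat_lit 2, nat_lit 1, nat_lit 0, nat_lit 5, nat_lit 6, nat_lit 7, nat_lit 8, nat_lit 9, nat_lit 5, nat_lit 10, nat_lit 11, nat_lit 5, nat_lit 4, nat_lit 3, nat_lit 2, nat_lit 1, nat_lit 0, nat_lit 5, nat_lit 6, nat_lit 7, nat_lit 8, nat_lit 9, nat_lit 5, nat_lit 10, nat_lit 11, nat_lit 5, nat_lit 4, nat_lit 3, nat_lit 2, nat_lit 1, nat_lit 0, nat_lit 5, nat_lit 6, nat_lit 7, nat_lit 8, nat_lit 9, nat_lit 5, nat_lit 10, nat_lit 11, nat_lit 5, nat_lit 4, nat_lit 3, nat_lit 2, nat_lit 1, nat_lit 0, nat_lit 5, nat_lit 6, nat_lit 7, nat_lit 8, nat_lit 9, nat_lit 5, nat_lit 10, nat_lit 11, nat_lit 5]))) (TrL.node (TrL.node (TrL.leaf [nat_lit 1, nat_lit 2, nat_lit 1, nat_lit 2, nat_lit 1, nat_lit 2]) (TrL.leaf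 [nat_lit 7, nat_lit 10, nat_lit 0, nat_lit 2, nat_lit 3, nat_lit 4, nat_lit 5, nat_lit 6, nat_lit 7, nat_lit 10, nat_lit 2, nat_lit 3, nat_lit 4, nat_lit 5, nat_lit 6, nat_lit 7, nat_lit 10, nat_lit 2, nat_lit 3, nat_lit 4, nat_lit 5, nat_lit 6, nat_lit 7, nat_lit 10, nat_lit 2, nat_lit 3, nat_lit 4, nat_lit 5, nat_lit 6, nat_lit 7, nat_lit 10, nat_lit 2, nat_lit 3, nat_lit 4, nat_lit 5, nat_lit 6, nat_lit 7, nat_lit 10, nat_lit 2, nat_lit 3, nat_lit 4, nat_lit 5, nat_lit 6, nat_lit 7, nat_lit 10, nat_lit 2, nat_lit 3, nat_lit 4, nat_lit 5, nat_lit 6, nat_lit 7, nat_lit 10, nat_lit 2, nat_lit 3, nat_lit 4, nat_lit 5, nat_lit 6, nat_lit 7, nat_lit 10, nat_lit 2, nat_lit 3, nat_lit 4, nat_lit 5, nat_lit 6])) (TrL.node (TrL.leaf [nat_lit 4, nat_lit 9, nat_lit 4, nat_lit 9]) (TrL.leaf [])))) (TrL.node (TrL.node (TrL.node (TrL.leaf [nat_lit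 0, nat_lit 4, nat_lit 0, nat_lit 4]) (TrL.leaf [nat_lit 6, nat_lit 7, nat_lit 10, nat_lit 2, nat_lit 3, nat_lit 4, nat_lit 5, nat_lit 6, nat_lit 7, nat_lit 10, nat_lit 2, nat_lit 3, nat_lit 4, nat_lit 5, nat_lit 6, nat_lit 7, nat_lit 10, nat_lit 2, nat_lit 3, nat_lit 4, nat_lit 5, nat_lit 6, nat_lit 7, nat_lit 10, nat_lit 2, nat_lit 3, nat_lit 4, nat_lit 5, nat_lit 6, nat_lit 7, nat_lit 10, nat_lit 2, nat_lit 3, nat_lit 4, nat_lit 5, nat_lit 6, nat_lit 7, nat_lit 10, nat_lit 2, nat_lit 3, nat_lit 4, nat_lit 5, nat_lit 6, nat_lit 7, nat_lit 10, nat_lit 2, nat_lit 3, nat_lit 4, nat_lit 5, nat_lit 6, nat_lit 7, nat_lit 10, nat_lit 2, nat_lit 3, nat_lit 4, nat_lit 5, nat_lit 6, nat_lit 7, nat_lit 10, nat_lit 0, nat_lit 2, nat_lit 3, nat_lit 4, nat_lit 5])) (TrL.node (TrL.leaf [nat_lit 3, nat_lit 10, nat_lit 3, nat_lit 10]) (TrL.leaf [])))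 (TrL.node (TrL.node (TrL.leaf [nat_lit 1, nat_lit 9, nat_lit 1, nat_lit 9]) (TrL.leaf [nat_lit 3, nat_lit 2, nat_lit 10, nat_lit 7, nat_lit 6, nat_lit 5, nat_lit 4, nat_lit 3, nat_lit 2, nat_lit 10, nat_lit 7, nat_lit 6, nat_lit 5, nat_lit 4, nat_lit 3, nat_lit 2, nat_lit 10, nat_lit 7, nat_lit 6, nat_lit 5, nat_lit 4, nat_lit 3, nat_lit 2, nat_lit 10, nat_lit 7, nat_lit 6, nat_lit 5, nat_lit 4, nat_lit 3, nat_lit 2, nat_lit 10, nat_lit 7, nat_lit 6, nat_lit 5, nat_lit 4, nat_lit 3, nat_lit 2, nat_lit 10, nat_lit 7, nat_lit 6, nat_lit 5, nat_lit 4, nat_lit 3, nat_lit 2, nat_lit 0, nat_lit 10, nat_lit 7, nat_lit 6, nat_lit 5, nat_lit 4, nat_lit 3, nat_lit 2, nat_lit 10, nat_lit 7, nat_lit 6, nat_lit 5, nat_lit 4, nat_lit 3, nat_lit 2, nat_lit 10, nat_lit 7, nat_lit 6, nat_lit 5, nat_lit 4])) (TrL.node (TrL.leaf [nat_lit 6, nat_lit 7, nat_lit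 6, nat_lit 7, nat_lit 6, nat_lit 7]) (TrL.leaf []))))) (TrL.node (TrL.node (TrL.node (TrL.node (TrL.leaf [nat_lit 11, nat_lit 11]) (TrL.leaf [nat_lit 10, nat_lit 9, nat_lit 10, nat_lit 9])) (TrL.node (TrL.leaf [nat_lit 3, nat_lit 5, nat_lit 3, nat_lit 5]) (TrL.leaf [nat_lit 11, nat_lit 5, nat_lit 4, nat_lit 3, nat_lit 2, nat_lit 1, nat_lit 0, nat_lit 5, nat_lit 6, nat_lit 7, nat_lit 8, nat_lit 9, nat_lit 5, nat_lit 10, nat_lit 11, nat_lit 5, nat_lit 4, nat_lit 3, nat_lit 2, nat_lit 1, nat_lit 0, nat_lit 5, nat_lit 6, nat_lit 7, nat_lit 8, nat_lit 9, nat_lit 5, nat_lit 10, nat_lit 11, nat_lit 5, nat_lit 4, nat_lit 3, nat_lit 2, nat_lit 1, nat_lit 0, nat_lit 5, nat_lit 6, nat_lit 7, nat_lit 8, nat_lit 9, nat_lit 5, nat_lit 10, nat_lit 11, nat_lit 5, nat_lit 4, nat_lit 3, nat_lit 2, nat_lit 1, nat_lit 0, nat_lit 5, nat_lit 6, nat_lit 7, nat_lit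 8, nat_lit 9, nat_lit 5, nat_lit 10, nat_lit 11, nat_lit 5, nat_lit 4, nat_lit 3, nat_lit 2, nat_lit 1, nat_lit 0, nat_lit 5, nat_lit 6, nat_lit 7, nat_lit 8, nat_lit 9, nat_lit 5, nat_lit 10, nat_lit 11, nat_lit 5, nat_lit 4, nat_lit 3, nat_lit 2, nat_lit 1, nat_lit 0, nat_lit 5, nat_lit 6, nat_lit 7, nat_lit 8, nat_lit 9, nat_lit 5, nat_lit 10, nat_lit 11, nat_lit 5, nat_lit 4, nat_lit 3, nat_lit 2, nat_lit 1, nat_lit 0, nat_lit 5, nat_lit 6, nat_lit 7, nat_lit 8, nat_lit 9, nat_lit 5, nat_lit 10, nat_lit 11, nat_lit 5, nat_lit 4, nat_lit 3, nat_lit 2, nat_lit 1, nat_lit 0, nat_lit 5, nat_lit 6, nat_lit 7, nat_lit 8, nat_lit 9, nat_lit 5, nat_lit 10, nat_lit 11, nat_lit 5, nat_lit 4, nat_lit 3, nat_lit 2, nat_lit 1, nat_lit 0, nat_lit 5, nat_lit 6, nat_lit 7, nat_lit 8, nat_lit 9, nat_lit 5, nat_lit 10, nat_lit 11, nat_lit 5, nat_lit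 4, nat_lit 3, nat_lit 2, nat_lit 1, nat_lit 0, nat_lit 5, nat_lit 6, nat_lit 7, nat_lit 8, nat_lit 9, nat_lit 5, nat_lit 10, nat_lit 11, nat_lit 5, nat_lit 4, nat_lit 3, nat_lit 2, nat_lit 1, nat_lit 0, nat_lit 5, nat_lit 6, nat_lit 7, nat_lit 8, nat_lit 9, nat_lit 5, nat_lit 10, nat_lit 11, nat_lit 5, nat_lit 4, nat_lit 3, nat_lit 2, nat_lit 1, nat_lit 0, nat_lit 5, nat_lit 6, nat_lit 7, nat_lit 8, nat_lit 9, nat_lit 5, nat_lit 10, nat_lit 11, nat_lit 5, nat_lit 4, nat_lit 3, nat_lit 2, nat_lit 1, nat_lit 0, nat_lit 5, nat_lit 6, nat_lit 7, nat_lit 8, nat_lit 9, nat_lit 5, nat_lit 10, nat_lit 11, nat_lit 5, nat_lit 4, nat_lit 3, nat_lit 2, nat_lit 1, nat_lit 0, nat_lit 5, nat_lit 6, nat_lit 7, nat_lit 8, nat_lit 9, nat_lit 5, nat_lit 10, nat_lit 11, nat_lit 5, nat_lit 4, nat_lit 3, nat_lit 2, nat_lit 1, nat_lit 0, nat_lit 5, nat_lit 6,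 nat_lit 7, nat_lit 8, nat_lit 9, nat_lit 5, nat_lit 10, nat_lit 11, nat_lit 5, nat_lit 4, nat_lit 3, nat_lit 2, nat_lit 1, nat_lit 0, nat_lit 5, nat_lit 6, nat_lit 7, nat_lit 8, nat_lit 9, nat_lit 5, nat_lit 10, nat_lit 11, nat_lit 5, nat_lit 4, nat_lit 3, nat_lit 2, nat_lit 1, nat_lit 0, nat_lit 5, nat_lit 6, nat_lit 7, nat_lit 8, nat_lit 9, nat_lit 5, nat_lit 10]))) (TrL.node (TrL.node (TrL.leaf [nat_lit 1, nat_lit 6, nat_lit 1, nat_lit 6]) (TrL.leaf [nat_lit 3, nat_lit 2, nat_lit 10, nat_lit 7, nat_lit 6, nat_lit 5, nat_lit 4, nat_lit 3, nat_lit 2, nat_lit 10, nat_lit 7, nat_lit 6, nat_lit 5, nat_lit 4, nat_lit 3, nat_lit 2, nat_lit 10, nat_lit 7, nat_lit 6, nat_lit 5, nat_lit 4, nat_lit 3, nat_lit 2, nat_lit 10, nat_lit 7, nat_lit 6, nat_lit 5, nat_lit 4, nat_lit 3, nat_lit 2, nat_lit 10, nat_lit 7, nat_lit 6, nat_lit 5, nat_lit 4,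 nat_lit 3, nat_lit 2, nat_lit 10, nat_lit 7, nat_lit 6, nat_lit 5, nat_lit 4, nat_lit 3, nat_lit 2, nat_lit 10, nat_lit 7, nat_lit 6, nat_lit 5, nat_lit 4, nat_lit 3, nat_lit 2, nat_lit 10, nat_lit 7, nat_lit 6, nat_lit 5, nat_lit 4, nat_lit 3, nat_lit 2, nat_lit 0, nat_lit 10, nat_lit 7, nat_lit 6, nat_lit 5, nat_lit 4])) (TrL.node (TrL.leaf [nat_lit 5, nat_lit 8, nat_lit 5, nat_lit 8]) (TrL.leaf [])))) (TrL.node (TrL.node (TrL.node (TrL.leaf [nat_lit 0, nat_lit 8, nat_lit 0, nat_lit 8]) (TrL.leaf [nat_lit 7, nat_lit 10, nat_lit 2, nat_lit 3, nat_lit 4, nat_lit 5, nat_lit 6, nat_lit 7, nat_lit 10, nat_lit 2, nat_lit 3, nat_lit 4, nat_lit 5, nat_lit 6, nat_lit 7, nat_lit 10, nat_lit 2, nat_lit 3, nat_lit 4, nat_lit 5, nat_lit 6, nat_lit 7, nat_lit 10, nat_lit 2, nat_lit 3, nat_lit 4, nat_lit 5, nat_lit 6, nat_lit 7, nat_lit 10, nat_lit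 2, nat_lit 3, nat_lit 4, nat_lit 5, nat_lit 6, nat_lit 7, nat_lit 10, nat_lit 2, nat_lit 3, nat_lit 4, nat_lit 5, nat_lit 6, nat_lit 7, nat_lit 10, nat_lit 0, nat_lit 2, nat_lit 3, nat_lit 4, nat_lit 5, nat_lit 6, nat_lit 7, nat_lit 10, nat_lit 2, nat_lit 3, nat_lit 4, nat_lit 5, nat_lit 6, nat_lit 7, nat_lit 10, nat_lit 2, nat_lit 3, nat_lit 4, nat_lit 5, nat_lit 6])) (TrL.node (TrL.leaf [nat_lit 4, nat_lit 6, nat_lit 4, nat_lit 6]) (TrL.leaf []))) (TrL.node (TrL.node (TrL.leaf [nat_lit 2, nat_lit 5, nat_lit 2, nat_lit 5]) (TrL.leaf [nat_lit 6, nat_lit 5, nat_lit 4, nat_lit 3, nat_lit 2, nat_lit 0, nat_lit 10, nat_lit 7, nat_lit 6, nat_lit 5, nat_lit 4, nat_lit 3, nat_lit 2, nat_lit 10, nat_lit 7, nat_lit 6, nat_lit 5, nat_lit 4, nat_lit 3, nat_lit 2, nat_lit 10, nat_lit 7, nat_lit 6, nat_lit 5, nat_lit 4, nat_lit 3, nat_lit 2, nat_lit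 10, nat_lit 7, nat_lit 6, nat_lit 5, nat_lit 4, nat_lit 3, nat_lit 2, nat_lit 10, nat_lit 7, nat_lit 6, nat_lit 5, nat_lit 4, nat_lit 3, nat_lit 2, nat_lit 10, nat_lit 7, nat_lit 6, nat_lit 5, nat_lit 4, nat_lit 3, nat_lit 2, nat_lit 10, nat_lit 7, nat_lit 6, nat_lit 5, nat_lit 4, nat_lit 3, nat_lit 2, nat_lit 10, nat_lit 7, nat_lit 6, nat_lit 5, nat_lit 4, nat_lit 3, nat_lit 2, nat_lit 10, nat_lit 7])) (TrL.node (TrL.leaf [nat_lit 6, nat_lit 11, nat_lit 6, nat_lit 11]) (TrL.leaf [])))))) (TrL.node (TrL.node (TrL.node (TrL.node (TrL.node (TrL.leaf [nat_lit 7, nat_lit 7]) (TrL.leaf [nat_lit 8, nat_lit 9, nat_lit 8, nat_lit 9, nat_lit 8, nat_lit 9])) (TrL.node (TrL.leaf [nat_lit 2, nat_lit 11, nat_lit 2, nat_lit 11]) (TrL.leaf [nat_lit 7, nat_lit 8, nat_lit 9, nat_lit 5, nat_lit 10, nat_lit 11, nat_lit 5, nat_lit 4, nat_lit 3, nat_lit 2,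 nat_lit 1, nat_lit 0, nat_lit 5, nat_lit 6, nat_lit 7, nat_lit 8, nat_lit 9, nat_lit 5, nat_lit 10, nat_lit 11, nat_lit 5, nat_lit 4, nat_lit 3, nat_lit 2, nat_lit 1, nat_lit 0, nat_lit 5, nat_lit 6, nat_lit 7, nat_lit 8, nat_lit 9, nat_lit 5, nat_lit 10, nat_lit 11, nat_lit 5, nat_lit 4, nat_lit 3, nat_lit 2, nat_lit 1, nat_lit 0, nat_lit 5, nat_lit 6, nat_lit 7, nat_lit 8, nat_lit 9, nat_lit 5, nat_lit 10, nat_lit 11, nat_lit 5, nat_lit 4, nat_lit 3, nat_lit 2, nat_lit 1, nat_lit 0, nat_lit 5, nat_lit 6, nat_lit 7, nat_lit 8, nat_lit 9, nat_lit 5, nat_lit 10, nat_lit 11, nat_lit 5, nat_lit 4, nat_lit 3, nat_lit 2, nat_lit 1, nat_lit 0, nat_lit 5, nat_lit 6, nat_lit 7, nat_lit 8, nat_lit 9, nat_lit 5, nat_lit 10, nat_lit 11, nat_lit 5, nat_lit 4, nat_lit 3, nat_lit 2, nat_lit 1, nat_lit 0, nat_lit 5, nat_lit 6, nat_lit 7, nat_lit 8, nat_lit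 9, nat_lit 5, nat_lit 10, nat_lit 11, nat_lit 5, nat_lit 4, nat_lit 3, nat_lit 2, nat_lit 1, nat_lit 0, nat_lit 5, nat_lit 6, nat_lit 7, nat_lit 8, nat_lit 9, nat_lit 5, nat_lit 10, nat_lit 11, nat_lit 5, nat_lit 4, nat_lit 3, nat_lit 2, nat_lit 1, nat_lit 0, nat_lit 5, nat_lit 6, nat_lit 7, nat_lit 8, nat_lit 9, nat_lit 5, nat_lit 10, nat_lit 11, nat_lit 5, nat_lit 4, nat_lit 3, nat_lit 2, nat_lit 1, nat_lit 0, nat_lit 5, nat_lit 6, nat_lit 7, nat_lit 8, nat_lit 9, nat_lit 5, nat_lit 10, nat_lit 11, nat_lit 5, nat_lit 4, nat_lit 3, nat_lit 2, nat_lit 1, nat_lit 0, nat_lit 5, nat_lit 6, nat_lit 7, nat_lit 8, nat_lit 9, nat_lit 5, nat_lit 10, nat_lit 11, nat_lit 5, nat_lit 4, nat_lit 3, nat_lit 2, nat_lit 1, nat_lit 0, nat_lit 5, nat_lit 6, nat_lit 7, nat_lit 8, nat_lit 9, nat_lit 5, nat_lit 10, nat_lit 11, nat_lit 5, nat_lit 4, nat_lit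 3, nat_lit 2, nat_lit 1, nat_lit 0, nat_lit 5, nat_lit 6, nat_lit 7, nat_lit 8, nat_lit 9, nat_lit 5, nat_lit 10, nat_lit 11, nat_lit 5, nat_lit 4, nat_lit 3, nat_lit 2, nat_lit 1, nat_lit 0, nat_lit 5, nat_lit 6, nat_lit 7, nat_lit 8, nat_lit 9, nat_lit 5, nat_lit 10, nat_lit 11, nat_lit 5, nat_lit 4, nat_lit 3, nat_lit 2, nat_lit 1, nat_lit 0, nat_lit 5, nat_lit 6, nat_lit 7, nat_lit 8, nat_lit 9, nat_lit 5, nat_lit 10, nat_lit 11, nat_lit 5, nat_lit 4, nat_lit 3, nat_lit 2, nat_lit 1, nat_lit 0, nat_lit 5, nat_lit 6, nat_lit 7, nat_lit 8, nat_lit 9, nat_lit 5, nat_lit 10, nat_lit 11, nat_lit 5, nat_lit 4, nat_lit 3, nat_lit 2, nat_lit 1, nat_lit 0, nat_lit 5, nat_lit 6, nat_lit 7, nat_lit 8, nat_lit 9, nat_lit 5, nat_lit 10, nat_lit 11, nat_lit 5, nat_lit 4, nat_lit 3, nat_lit 2, nat_lit 1, nat_lit 0, nat_lit 5, nat_lit 6]))) (TrL.node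 (TrL.node (TrL.leaf [nat_lit 1, nat_lit 4, nat_lit 1, nat_lit 4]) (TrL.leaf [nat_lit 7, nat_lit 6, nat_lit 5, nat_lit 4, nat_lit 3, nat_lit 2, nat_lit 10, nat_lit 7, nat_lit 6, nat_lit 5, nat_lit 4, nat_lit 3, nat_lit 2, nat_lit 10, nat_lit 7, nat_lit 6, nat_lit 5, nat_lit 4, nat_lit 3, nat_lit 2, nat_lit 10, nat_lit 7, nat_lit 6, nat_lit 5, nat_lit 4, nat_lit 3, nat_lit 2, nat_lit 10, nat_lit 7, nat_lit 6, nat_lit 5, nat_lit 4, nat_lit 3, nat_lit 2, nat_lit 10, nat_lit 7, nat_lit 6, nat_lit 5, nat_lit 4, nat_lit 3, nat_lit 2, nat_lit 10, nat_lit 7, nat_lit 6, nat_lit 5, nat_lit 4, nat_lit 3, nat_lit 2, nat_lit 10, nat_lit 7, nat_lit 6, nat_lit 5, nat_lit 4, nat_lit 3, nat_lit 2, nat_lit 10, nat_lit 7, nat_lit 6, nat_lit 5, nat_lit 4, nat_lit 3, nat_lit 2, nat_lit 0, nat_lit 10])) (TrL.node (TrL.leaf [nat_lit 5, nat_lit 6, nat_lit 5, nat_lit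 6, nat_lit 5, nat_lit 6]) (TrL.leaf [])))) (TrL.node (TrL.node (TrL.node (TrL.leaf [nat_lit 0, nat_lit 6, nat_lit 0, nat_lit 6]) (TrL.leaf [nat_lit 5, nat_lit 6, nat_lit 7, nat_lit 10, nat_lit 2, nat_lit 3, nat_lit 4, nat_lit 5, nat_lit 6, nat_lit 7, nat_lit 10, nat_lit 2, nat_lit 3, nat_lit 4, nat_lit 5, nat_lit 6, nat_lit 7, nat_lit 10, nat_lit 2, nat_lit 3, nat_lit 4, nat_lit 5, nat_lit 6, nat_lit 7, nat_lit 10, nat_lit 2, nat_lit 3, nat_lit 4, nat_lit 5, nat_lit 6, nat_lit 7, nat_lit 10, nat_lit 2, nat_lit 3, nat_lit 4, nat_lit 5, nat_lit 6, nat_lit 7, nat_lit 10, nat_lit 2, nat_lit 3, nat_lit 4, nat_lit 5, nat_lit 6, nat_lit 7, nat_lit 10, nat_lit 2, nat_lit 3, nat_lit 4, nat_lit 5, nat_lit 6, nat_lit 7, nat_lit 10, nat_lit 0, nat_lit 2, nat_lit 3, nat_lit 4, nat_lit 5, nat_lit 6, nat_lit 7, nat_lit 10, nat_lit 2, nat_lit 3, nat_lit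 4])) (TrL.node (TrL.leaf [nat_lit 3, nat_lit 11, nat_lit 3, nat_lit 11]) (TrL.leaf []))) (TrL.node (TrL.node (TrL.leaf [nat_lit 2, nat_lit 3, nat_lit 2, nat_lit 3, nat_lit 2, nat_lit 3]) (TrL.leaf [nat_lit 5, nat_lit 4, nat_lit 3, nat_lit 2, nat_lit 10, nat_lit 7, nat_lit 6, nat_lit 5, nat_lit 4, nat_lit 3, nat_lit 2, nat_lit 10, nat_lit 7, nat_lit 6, nat_lit 5, nat_lit 4, nat_lit 3, nat_lit 2, nat_lit 10, nat_lit 7, nat_lit 6, nat_lit 5, nat_lit 4, nat_lit 3, nat_lit 2, nat_lit 10, nat_lit 7, nat_lit 6, nat_lit 5, nat_lit 4, nat_lit 3, nat_lit 2, nat_lit 0, nat_lit 10, nat_lit 7, nat_lit 6, nat_lit 5, nat_lit 4, nat_lit 3, nat_lit 2, nat_lit 10, nat_lit 7, nat_lit 6, nat_lit 5, nat_lit 4, nat_lit 3, nat_lit 2, nat_lit 10, nat_lit 7, nat_lit 6, nat_lit 5, nat_lit 4, nat_lit 3, nat_lit 2, nat_lit 10, nat_lit 7, nat_lit 6, nat_lit 5, nat_lit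 4, nat_lit 3, nat_lit 2, nat_lit 10, nat_lit 7, nat_lit 6])) (TrL.node (TrL.leaf [nat_lit 6, nat_lit 10, nat_lit 6, nat_lit 10]) (TrL.leaf []))))) (TrL.node (TrL.node (TrL.node (TrL.node (TrL.leaf [nat_lit 0, nat_lit 2, nat_lit 0, nat_lit 2]) (TrL.leaf [nat_lit 9, nat_lit 11, nat_lit 9, nat_lit 11])) (TrL.node (TrL.leaf [nat_lit 3, nat_lit 7, nat_lit 3, nat_lit 7]) (TrL.leaf []))) (TrL.node (TrL.node (TrL.leaf [nat_lit 1, nat_lit 8, nat_lit 1, nat_lit 8]) (TrL.leaf [nat_lit 6, nat_lit 5, nat_lit 4, nat_lit 3, nat_lit 2, nat_lit 10, nat_lit 7, nat_lit 6, nat_lit 5, nat_lit 4, nat_lit 3, nat_lit 2, nat_lit 10, nat_lit 7, nat_lit 6, nat_lit 5, nat_lit 4, nat_lit 3, nat_lit 2, nat_lit 10, nat_lit 7, nat_lit 6, nat_lit 5, nat_lit 4, nat_lit 3, nat_lit 2, nat_lit 10, nat_lit 7, nat_lit 6, nat_lit 5, nat_lit 4, nat_lit 3, nat_lit 2, nat_lit 10,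 nat_lit 7, nat_lit 6, nat_lit 5, nat_lit 4, nat_lit 3, nat_lit 2, nat_lit 10, nat_lit 7, nat_lit 6, nat_lit 5, nat_lit 4, nat_lit 3, nat_lit 2, nat_lit 10, nat_lit 7, nat_lit 6, nat_lit 5, nat_lit 4, nat_lit 3, nat_lit 2, nat_lit 0, nat_lit 10, nat_lit 7, nat_lit 6, nat_lit 5, nat_lit 4, nat_lit 3, nat_lit 2, nat_lit 10, nat_lit 7])) (TrL.node (TrL.leaf [nat_lit 5, nat_lit 9, nat_lit 5, nat_lit 9]) (TrL.leaf [])))) (TrL.node (TrL.node (TrL.node (TrL.leaf [nat_lit 0, nat_lit 9, nat_lit 0, nat_lit 9]) (TrL.leaf [nat_lit 5, nat_lit 6, nat_lit 7, nat_lit 10, nat_lit 2, nat_lit 3, nat_lit 4, nat_lit 5, nat_lit 6, nat_lit 7, nat_lit 10, nat_lit 0, nat_lit 2, nat_lit 3, nat_lit 4, nat_lit 5, nat_lit 6, nat_lit 7, nat_lit 10, nat_lit 2, nat_lit 3, nat_lit 4, nat_lit 5, nat_lit 6, nat_lit 7, nat_lit 10, nat_lit 2, nat_lit 3, nat_lit 4, nat_lit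 5, nat_lit 6, nat_lit 7, nat_lit 10, nat_lit 2, nat_lit 3, nat_lit 4, nat_lit 5, nat_lit 6, nat_lit 7, nat_lit 10, nat_lit 2, nat_lit 3, nat_lit 4, nat_lit 5, nat_lit 6, nat_lit 7, nat_lit 10, nat_lit 2, nat_lit 3, nat_lit 4, nat_lit 5, nat_lit 6, nat_lit 7, nat_lit 10, nat_lit 2, nat_lit 3, nat_lit 4, nat_lit 5, nat_lit 6, nat_lit 7, nat_lit 10, nat_lit 2, nat_lit 3, nat_lit 4])) (TrL.node (TrL.leaf [nat_lit 4, nat_lit 8, nat_lit 4, nat_lit 8]) (TrL.leaf []))) (TrL.node (TrL.node (TrL.leaf [nat_lit 2, nat_lit 7, nat_lit 2, nat_lit 7]) (TrL.leaf [nat_lit 5, nat_lit 9, nat_lit 8, nat_lit 7, nat_lit 6, nat_lit 5, nat_lit 0, nat_lit 1, nat_lit 2, nat_lit 3, nat_lit 4, nat_lit 5, nat_lit 11, nat_lit 10, nat_lit 5, nat_lit 9, nat_lit 8, nat_lit 7, nat_lit 6, nat_lit 5, nat_lit 0, nat_lit 1, nat_lit 2, nat_lit 3, nat_lit 4, nat_lit 5, nat_lit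 11, nat_lit 10, nat_lit 5, nat_lit 9, nat_lit 8, nat_lit 7, nat_lit 6, nat_lit 5, nat_lit 0, nat_lit 1, nat_lit 2, nat_lit 3, nat_lit 4, nat_lit 5, nat_lit 11, nat_lit 10, nat_lit 5, nat_lit 9, nat_lit 8, nat_lit 7, nat_lit 6, nat_lit 5, nat_lit 0, nat_lit 1, nat_lit 2, nat_lit 3, nat_lit 4, nat_lit 5, nat_lit 11, nat_lit 10, nat_lit 5, nat_lit 9, nat_lit 8, nat_lit 7, nat_lit 6, nat_lit 5, nat_lit 0, nat_lit 1, nat_lit 2, nat_lit 3, nat_lit 4, nat_lit 5, nat_lit 11, nat_lit 10, nat_lit 5, nat_lit 9, nat_lit 8, nat_lit 7, nat_lit 6, nat_lit 5, nat_lit 0, nat_lit 1, nat_lit 2, nat_lit 3, nat_lit 4, nat_lit 5, nat_lit 11, nat_lit 10, nat_lit 5, nat_lit 9, nat_lit 8, nat_lit 7, nat_lit 6, nat_lit 5, nat_lit 0, nat_lit 1, nat_lit 2, nat_lit 3, nat_lit 4, nat_lit 5, nat_lit 11, nat_lit 10, nat_lit 5, nat_lit 9, nat_lit 8, nat_lit 7, nat_lit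 6, nat_lit 5, nat_lit 0, nat_lit 1, nat_lit 2, nat_lit 3, nat_lit 4, nat_lit 5, nat_lit 11, nat_lit 10, nat_lit 5, nat_lit 9, nat_lit 8, nat_lit 7, nat_lit 6, nat_lit 5, nat_lit 0, nat_lit 1, nat_lit 2, nat_lit 3, nat_lit 4, nat_lit 5, nat_lit 11, nat_lit 10, nat_lit 5, nat_lit 9, nat_lit 8, nat_lit 7, nat_lit 6, nat_lit 5, nat_lit 0, nat_lit 1, nat_lit 2, nat_lit 3, nat_lit 4, nat_lit 5, nat_lit 11, nat_lit 10, nat_lit 5, nat_lit 9, nat_lit 8, nat_lit 7, nat_lit 6, nat_lit 5, nat_lit 0, nat_lit 1, nat_lit 2, nat_lit 3, nat_lit 4, nat_lit 5, nat_lit 11, nat_lit 10, nat_lit 5, nat_lit 9, nat_lit 8, nat_lit 7, nat_lit 6, nat_lit 5, nat_lit 0, nat_lit 1, nat_lit 2, nat_lit 3, nat_lit 4, nat_lit 5, nat_lit 11, nat_lit 10, nat_lit 5, nat_lit 9, nat_lit 8, nat_lit 7, nat_lit 6, nat_lit 5, nat_lit 0, nat_lit 1, nat_lit 2, nat_lit 3, nat_lit 4,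 nat_lit 5, nat_lit 11, nat_lit 10, nat_lit 5, nat_lit 9, nat_lit 8, nat_lit 7, nat_lit 6, nat_lit 5, nat_lit 0, nat_lit 1, nat_lit 2, nat_lit 3, nat_lit 4, nat_lit 5, nat_lit 11, nat_lit 10, nat_lit 5, nat_lit 9, nat_lit 8, nat_lit 7, nat_lit 6, nat_lit 5, nat_lit 0, nat_lit 1, nat_lit 2, nat_lit 3, nat_lit 4, nat_lit 5, nat_lit 11, nat_lit 10, nat_lit 5, nat_lit 9, nat_lit 8, nat_lit 7, nat_lit 6, nat_lit 5, nat_lit 0, nat_lit 1, nat_lit 2, nat_lit 3, nat_lit 4, nat_lit 5, nat_lit 11, nat_lit 10, nat_lit 5, nat_lit 9, nat_lit 8, nat_lit 7, nat_lit 6, nat_lit 5, nat_lit 0, nat_lit 1, nat_lit 2, nat_lit 3, nat_lit 4, nat_lit 5, nat_lit 11, nat_lit 10])) (TrL.node (TrL.leaf [nat_lit 7, nat_lit 10, nat_lit 7, nat_lit 10]) (TrL.leaf [])))))))))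
def rotSrc : List (ℕ × ℕ × Bool) := [(0, 0, false), (106, 0, false), (44, 0, false), (157, 6, false), (23, 0, false), (156, 53, false), (69, 0, false), (158, 0, false), (15, 0, false), (156, 0, false), (56, 0, false), (158, 0, false), (33, 0, false), (156, 11, true), (83, 0, false), (158, 0, false), (8, 0, false), (119, 0, false), (52, 0, false), (157, 9, true), (29, 0, false), (156, 3, true), (79, 0, false), (158, 0, false), (19, 0, false), (156, 12, false), (65, 0, false), (158, 0, false), (40, 0, false), (156, 45, true), (94, 0, false), (158, 0, false), (4, 0, false), (117, 0, false), (46, 0, false), (157, 3, true), (27, 0, false), (156, 62, false), (71, 0, false), (158, 0, false), (17, 0, false), (156, 5, false), (58, 0, false), (158, 0, false), (35, 0, false), (156, 21, true), (92, 0, false), (158, 0, false), (13, 0, false), (131,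 0, false), (54, 0, false), (158, 0, false), (31, 0, false), (156, 7, true), (81, 0, false), (158, 0, false), (21, 0, false), (156, 32, false), (67, 0, false), (158, 0, false), (42, 0, false), (156, 61, true), (104, 0, false), (158, 0, false), (2, 0, false), (107, 0, false), (45, 0, false), (157, 13, false), (26, 0, false), (156, 60, false), (70, 0, false), (158, 0, false), (16, 0, false), (156, 3, false), (57, 0, false), (158, 0, false), (34, 0, false), (156, 13, true), (91, 0, false), (158, 0, false), (10, 0, false), (130, 0, false), (53, 0, false), (157, 12, true), (30, 0, false), (156, 5, true), (80, 0, false), (158, 0, false), (20, 0, false), (156, 18, false), (66, 0, false), (158, 0, false), (41, 0, false), (156, 49, true), (95, 0, false), (158, 0, false), (6, 0, false), (118, 0, false), (47, 0, false), (157, 5, true), (28, 0, false),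 (156, 1, true), (78, 0, false), (158, 0, false), (18, 0, false), (156, 9, false), (59, 0, false), (158, 0, false), (39, 0, false), (156, 28, true), (93, 0, false), (158, 0, false), (14, 0, false), (143, 0, false), (55, 0, false), (158, 0, false), (32, 0, false), (156, 9, true), (82, 0, false), (158, 0, false), (22, 0, false), (156, 47, false), (68, 0, false), (158, 0, false), (43, 0, false), (156, 63, true), (105, 0, false), (158, 0, false), (1, 0, false), (106, 1, false), (44, 1, false), (157, 7, false), (23, 1, false), (156, 54, false), (69, 1, false), (158, 0, false), (15, 1, false), (156, 2, false), (56, 1, false), (158, 0, false), (33, 1, false), (156, 12, true), (83, 1, false), (158, 0, false), (9, 0, false), (119, 1, false), (52, 1, false), (157, 10, true), (29, 1, false), (156, 4, true), (79, 1, false), (158, 0, false), (19, 1,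 false), (156, 13, false), (65, 1, false), (158, 0, false), (40, 1, false), (156, 48, true), (94, 1, false), (158, 0, false), (5, 0, false), (117, 1, false), (46, 1, false), (157, 4, true), (27, 1, false), (156, 63, false), (71, 1, false), (158, 0, false), (17, 1, false), (156, 6, false), (58, 1, false), (158, 0, false), (35, 1, false), (156, 27, true), (92, 1, false), (158, 0, false), (13, 1, false), (131, 1, false), (54, 1, false), (158, 0, false), (31, 1, false), (156, 8, true), (81, 1, false), (158, 0, false), (21, 1, false), (156, 33, false), (67, 1, false), (158, 0, false), (42, 1, false), (156, 62, true), (104, 1, false), (158, 0, false), (3, 0, false), (107, 1, false), (45, 1, false), (157, 1, true), (26, 1, false), (156, 61, false), (70, 1, false), (158, 0, false), (16, 1, false), (156, 4, false), (57, 1, false), (158, 0, false),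 (34, 1, false), (156, 20, true), (91, 1, false), (158, 0, false), (11, 0, false), (130, 1, false), (53, 1, false), (157, 13, true), (30, 1, false), (156, 6, true), (80, 1, false), (158, 0, false), (20, 1, false), (156, 19, false), (66, 1, false), (158, 0, false), (41, 1, false), (156, 59, true), (95, 1, false), (158, 0, false), (7, 0, false), (118, 1, false), (47, 1, false), (157, 8, true), (28, 1, false), (156, 2, true), (78, 1, false), (158, 0, false), (18, 1, false), (156, 10, false), (59, 1, false), (158, 0, false), (39, 1, false), (156, 32, true), (93, 1, false), (158, 0, false), (14, 1, false), (143, 1, false), (55, 1, false), (158, 0, false), (32, 1, false), (156, 10, true), (82, 1, false), (158, 0, false), (22, 1, false), (156, 52, false), (68, 1, false), (158, 0, false), (43, 1, false), (157, 2, false), (105, 1, false), (158,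 0, false)]
def relWords : List (List ℕ) := [[0, 0], [1, 1], [2, 2], [3, 3], [4, 4], [5, 5], [6, 6], [7, 7], [8, 8], [9, 9], [10, 10], [11, 11], [0, 0], [1, 0, 1, 0, 1, 0], [2, 0, 2, 0], [3, 0, 3, 0], [4, 0, 4, 0], [5, 0, 5, 0], [6, 0, 6, 0], [7, 0, 7, 0], [8, 0, 8, 0], [10, 0, 10, 0], [9, 0, 9, 0], [11, 0, 11, 0], [0, 1, 0, 1, 0, 1], [1, 1], [2, 1, 2, 1, 2, 1], [3, 1, 3, 1], [4, 1, 4, 1], [5, 1, 5, 1], [6, 1, 6, 1], [7, 1, 7, 1], [8, 1, 8, 1], [10, 1, 10, 1], [9, 1, 9, 1], [11, 1, 11, 1], [0, 2, 0, 2], [1, 2, 1, 2, 1, 2], [2, 2], [3, 2, 3, 2, 3, 2], [4, 2, 4, 2], [5, 2, 5, 2], [6, 2, 6, 2], [7, 2, 7, 2], [8, 2, 8, 2], [10, 2, 10, 2], [9, 2, 9, 2], [11, 2, 11, 2], [0, 3, 0, 3], [1, 3, 1, 3], [2, 3, 2, 3, 2, 3], [3, 3], [4, 3, 4, 3, 4, 3], [5, 3, 5, 3], [6, 3, 6, 3], [7, 3, 7, 3], [8, 3, 8, 3], [10, 3, 10, 3], [9, 3, 9, 3], [11, 3, 11, 3],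 [0, 4, 0, 4], [1, 4, 1, 4], [2, 4, 2, 4], [3, 4, 3, 4, 3, 4], [4, 4], [5, 4, 5, 4, 5, 4], [6, 4, 6, 4], [7, 4, 7, 4], [8, 4, 8, 4], [10, 4, 10, 4], [9, 4, 9, 4], [11, 4, 11, 4], [0, 5, 0, 5], [1, 5, 1, 5], [2, 5, 2, 5], [3, 5, 3, 5], [4, 5, 4, 5, 4, 5], [5, 5], [6, 5, 6, 5, 6, 5], [7, 5, 7, 5], [8, 5, 8, 5], [10, 5, 10, 5, 10, 5], [9, 5, 9, 5], [11, 5, 11, 5], [0, 6, 0, 6], [1, 6, 1, 6], [2, 6, 2, 6], [3, 6, 3, 6], [4, 6, 4, 6], [5, 6, 5, 6, 5, 6], [6, 6], [7, 6, 7, 6, 7, 6], [8, 6, 8, 6], [10, 6, 10, 6], [9, 6, 9, 6], [11, 6, 11, 6], [0, 7, 0, 7], [1, 7, 1, 7], [2, 7, 2, 7], [3, 7, 3, 7], [4, 7, 4, 7], [5, 7, 5, 7], [6, 7, 6, 7, 6, 7], [7, 7], [8, 7, 8, 7, 8, 7], [10, 7, 10, 7], [9, 7, 9, 7], [11, 7, 11, 7], [0, 8, 0, 8], [1, 8, 1, 8], [2, 8, 2, 8], [3, 8, 3, 8], [4, 8, 4, 8], [5, 8, 5, 8], [6, 8, 6, 8], [7, 8, 7, 8, 7, 8], [8, 8], [10,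 8, 10, 8], [9, 8, 9, 8, 9, 8], [11, 8, 11, 8], [0, 10, 0, 10], [1, 10, 1, 10], [2, 10, 2, 10], [3, 10, 3, 10], [4, 10, 4, 10], [5, 10, 5, 10, 5, 10], [6, 10, 6, 10], [7, 10, 7, 10], [8, 10, 8, 10], [10, 10], [9, 10, 9, 10], [11, 10, 11, 10, 11, 10], [0, 9, 0, 9], [1, 9, 1, 9], [2, 9, 2, 9], [3, 9, 3, 9], [4, 9, 4, 9], [5, 9, 5, 9], [6, 9, 6, 9], [7, 9, 7, 9], [8, 9, 8, 9, 8, 9], [10, 9, 10, 9], [9, 9], [11, 9, 11, 9], [0, 11, 0, 11], [1, 11, 1, 11], [2, 11, 2, 11], [3, 11, 3, 11], [4, 11, 4, 11], [5, 11, 5, 11], [6, 11, 6, 11], [7, 11, 7, 11], [8, 11, 8, 11], [10, 11, 10, 11, 10, 11], [9, 11, 9, 11], [11, 11], [2, 3, 4, 5, 6, 7, 10, 2, 3, 4, 5, 6, 7, 10, 2, 3, 4, 5, 6, 7, 10, 2, 3, 4, 5, 6, 7, 10, 2, 3, 4, 5, 6, 7, 10, 2, 3, 4, 5, 6, 7, 10, 2, 3, 4, 5, 6, 7, 10, 2, 3, 4, 5, 6, 7, 10, 2, 3, 4, 5, 6, 7, 10, 0], [11, 10, 5, 9, 8, 7, 6, 5,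 0, 1, 2, 3, 4, 5, 11, 10, 5, 9, 8, 7, 6, 5, 0, 1, 2, 3, 4, 5, 11, 10, 5, 9, 8, 7, 6, 5, 0, 1, 2, 3, 4, 5, 11, 10, 5, 9, 8, 7, 6, 5, 0, 1, 2, 3, 4, 5, 11, 10, 5, 9, 8, 7, 6, 5, 0, 1, 2, 3, 4, 5, 11, 10, 5, 9, 8, 7, 6, 5, 0, 1, 2, 3, 4, 5, 11, 10, 5, 9, 8, 7, 6, 5, 0, 1, 2, 3, 4, 5, 11, 10, 5, 9, 8, 7, 6, 5, 0, 1, 2, 3, 4, 5, 11, 10, 5, 9, 8, 7, 6, 5, 0, 1, 2, 3, 4, 5, 11, 10, 5, 9, 8, 7, 6, 5, 0, 1, 2, 3, 4, 5, 11, 10, 5, 9, 8, 7, 6, 5, 0, 1, 2, 3, 4, 5, 11, 10, 5, 9, 8, 7, 6, 5, 0, 1, 2, 3, 4, 5, 11, 10, 5, 9, 8, 7, 6, 5, 0, 1, 2, 3, 4, 5, 11, 10, 5, 9, 8, 7, 6, 5, 0, 1, 2, 3, 4, 5, 11, 10, 5, 9, 8, 7, 6, 5, 0, 1, 2, 3, 4, 5, 11, 10, 5, 9, 8, 7, 6, 5, 0, 1, 2, 3, 4, 5, 11, 10, 5, 9, 8, 7, 6, 5, 0, 1, 2, 3, 4, 5]]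
def subsW : List (List ℕ) := [[nat_lit 2], [nat_lit 3], [nat_lit 4], [nat_lit 5], [nat_lit 6], [nat_lit 7], [nat_lit 8], [nat_lit 10], [nat_lit 11], [nat_lit 9], [nat_lit 0]]
def relPairs : List (List ℕ × List ℕ) := [([nat_lit 1, nat_lit 0, nat_lit 1], [nat_lit 0, nat_lit 1, nat_lit 0]), ([nat_lit 2, nat_lit 0], [nat_lit 0, nat_lit 2]), ([nat_lit 3, nat_lit 0], [nat_lit 0, nat_lit 3]), ([nat_lit 4, nat_lit 0], [nat_lit 0, nat_lit 4]), ([nat_lit 5, nat_lit 0], [nat_lit 0, nat_lit 5]), ([nat_lit 6, nat_lit 0], [nat_lit 0, nat_lit 6]), ([nat_lit 7, nat_lit 0], [nat_lit 0, nat_lit 7]), ([nat_lit 8, nat_lit 0], [nat_lit 0, nat_lit 8]), ([nat_lit 10, nat_lit 0], [nat_lit 0, nat_lit 10]), ([nat_lit 9, nat_lit 0], [nat_lit 0, nat_lit 9]), ([nat_lit 11, nat_lit 0], [nat_lit 0, nat_lit 11]), ([nat_lit 2, nat_lit 1, nat_lit 2], [nat_lit 1, nat_lit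 2, nat_lit 1]), ([nat_lit 3, nat_lit 1], [nat_lit 1, nat_lit 3]), ([nat_lit 4, nat_lit 1], [nat_lit 1, nat_lit 4]), ([nat_lit 5, nat_lit 1], [nat_lit 1, nat_lit 5]), ([nat_lit 6, nat_lit 1], [nat_lit 1, nat_lit 6]), ([nat_lit 7, nat_lit 1], [nat_lit 1, nat_lit 7]), ([nat_lit 8, nat_lit 1], [nat_lit 1, nat_lit 8]), ([nat_lit 10, nat_lit 1], [nat_lit 1, nat_lit 10]), ([nat_lit 9, nat_lit 1], [nat_lit 1, nat_lit 9]), ([nat_lit 11, nat_lit 1], [nat_lit 1, nat_lit 11]), ([nat_lit 3, nat_lit 2, nat_lit 3], [nat_lit 2, nat_lit 3, nat_lit 2]), ([nat_lit 4, nat_lit 2], [nat_lit 2, nat_lit 4]), ([nat_lit 5, nat_lit 2], [nat_lit 2, nat_lit 5]), ([nat_lit 6, nat_lit 2], [nat_lit 2, nat_lit 6]), ([nat_lit 7, nat_lit 2], [nat_lit 2, nat_lit 7]), ([nat_lit 8, nat_lit 2], [nat_lit 2, nat_lit 8]), ([nat_lit 10, nat_lit 2], [nat_lit 2, nat_lit 10]), ([nat_lit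 9, nat_lit 2], [nat_lit 2, nat_lit 9]), ([nat_lit 11, nat_lit 2], [nat_lit 2, nat_lit 11]), ([nat_lit 4, nat_lit 3, nat_lit 4], [nat_lit 3, nat_lit 4, nat_lit 3]), ([nat_lit 5, nat_lit 3], [nat_lit 3, nat_lit 5]), ([nat_lit 6, nat_lit 3], [nat_lit 3, nat_lit 6]), ([nat_lit 7, nat_lit 3], [nat_lit 3, nat_lit 7]), ([nat_lit 8, nat_lit 3], [nat_lit 3, nat_lit 8]), ([nat_lit 10, nat_lit 3], [nat_lit 3, nat_lit 10]), ([nat_lit 9, nat_lit 3], [nat_lit 3, nat_lit 9]), ([nat_lit 11, nat_lit 3], [nat_lit 3, nat_lit 11]), ([nat_lit 5, nat_lit 4, nat_lit 5], [nat_lit 4, nat_lit 5, nat_lit 4]), ([nat_lit 6, nat_lit 4], [nat_lit 4, nat_lit 6]), ([nat_lit 7, nat_lit 4], [nat_lit 4, nat_lit 7]), ([nat_lit 8, nat_lit 4], [nat_lit 4, nat_lit 8]), ([nat_lit 10, nat_lit 4], [nat_lit 4, nat_lit 10]), ([nat_lit 9, nat_lit 4], [nat_lit 4, nat_lit 9]), ([nat_lit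 11, nat_lit 4], [nat_lit 4, nat_lit 11]), ([nat_lit 6, nat_lit 5, nat_lit 6], [nat_lit 5, nat_lit 6, nat_lit 5]), ([nat_lit 7, nat_lit 5], [nat_lit 5, nat_lit 7]), ([nat_lit 8, nat_lit 5], [nat_lit 5, nat_lit 8]), ([nat_lit 10, nat_lit 5, nat_lit 10], [nat_lit 5, nat_lit 10, nat_lit 5]), ([nat_lit 9, nat_lit 5], [nat_lit 5, nat_lit 9]), ([nat_lit 11, nat_lit 5], [nat_lit 5, nat_lit 11]), ([nat_lit 7, nat_lit 6, nat_lit 7], [nat_lit 6, nat_lit 7, nat_lit 6]), ([nat_lit 8, nat_lit 6], [nat_lit 6, nat_lit 8]), ([nat_lit 10, nat_lit 6], [nat_lit 6, nat_lit 10]), ([nat_lit 9, nat_lit 6], [nat_lit 6, nat_lit 9]), ([nat_lit 11, nat_lit 6], [nat_lit 6, nat_lit 11]), ([nat_lit 8, nat_lit 7, nat_lit 8], [nat_lit 7, nat_lit 8, nat_lit 7]), ([nat_lit 10, nat_lit 7], [nat_lit 7, nat_lit 10]), ([nat_lit 9, nat_lit 7], [nat_lit 7, nat_lit 9]), ([nat_lit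 11, nat_lit 7], [nat_lit 7, nat_lit 11]), ([nat_lit 10, nat_lit 8], [nat_lit 8, nat_lit 10]), ([nat_lit 9, nat_lit 8, nat_lit 9], [nat_lit 8, nat_lit 9, nat_lit 8]), ([nat_lit 11, nat_lit 8], [nat_lit 8, nat_lit 11]), ([nat_lit 9, nat_lit 10], [nat_lit 10, nat_lit 9]), ([nat_lit 11, nat_lit 10, nat_lit 11], [nat_lit 10, nat_lit 11, nat_lit 10]), ([nat_lit 11, nat_lit 9], [nat_lit 9, nat_lit 11]), ([nat_lit 15, nat_lit 15, nat_lit 15, nat_lit 15, nat_lit 15, nat_lit 15, nat_lit 15, nat_lit 15, nat_lit 15, nat_lit 0], []), ([nat_lit 16, nat_lit 16, nat_lit 16, nat_lit 16, nat_lit 16, nat_lit 16, nat_lit 16, nat_lit 16, nat_lit 16, nat_lit 16, nat_lit 16, nat_lit 16, nat_lit 16, nat_lit 16, nat_lit 16, nat_lit 16, nat_lit 16], [])]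
def macrosW : List (List ℕ) := [[nat_lit 2, nat_lit 3, nat_lit 4, nat_lit 5, nat_lit 6, nat_lit 7, nat_lit 10], [nat_lit 11, nat_lit 10, nat_lit 5, nat_lit 9, nat_lit 8, nat_lit 7, nat_lit 6, nat_lit 5, nat_lit 0, nat_lit 1, nat_lit 2, nat_lit 3, nat_lit 4, nat_lit 5]]

noncomputable def U : UData where
  N := nat_lit 353097
  L := nat_lit 12
  F := nat_lit 4
  TB := nat_lit 19
  FW := nat_lit 41
  JW := nat_lit 29
  mT := nat_lit 524287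
  mF := nat_lit 2199023255551
  mJ := nat_lit 536870911
  row := getRow tU (nat_lit 5) (nat_lit 31) (nat_lit 574) (nat_lit 0x3fffffffffffffffffffffffffffffffffffffffffffffffffffffffffffffffffffffffffffffffffffffffffffffffffffffffffffffffffffffffffffffffffffffffffffffff)
  jrow := getRow tJ (nat_lit 5) (nat_lit 31) (nat_lit 377) (nat_lit 0x1ffffffffffffffffffffffffffffffffffffffffffffffffffffffffffffffffffffffffffffffffffffffffffffff)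
  rot := tR.get
  sub := fun h => subsW.getD h []

noncomputable def P : LData where
  n := nat_lit 306936
  L := nat_lit 12
  AB := nat_lit 19
  mA := nat_lit 524287
  arow := getRow tA (nat_lit 6) (nat_lit 63) (nat_lit 323) (nat_lit 0x7ffffffffffffffffffffffffffffffffffffffffffffffffffffffffffffffffffffffffffffffff)
  ivl := [nat_lit 0, nat_lit 1, nat_lit 2, nat_lit 3, nat_lit 4, nat_lit 5, nat_lit 6, nat_lit 7, nat_lit 8, nat_lit 9, nat_lit 10, nat_lit 11]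
  relPairs := relPairs
  macros := macrosW
  subs := subsW
  roots := [nat_lit 0, nat_lit 1, nat_lit 6]

end Cfsg.Agent.Lib.Helper35Fi24a
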