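import Cfsg.Agent.Lib.Helper35Fi24a
import Cfsg.Agent.Lib.Helper35Fi24aChk5

set_option autoImplicit false
set_option maxRecDepth 100000

namespace Cfsg.Agent.Lib.Helper35Fi24a

open Cfsg.Agent.Lib.Helper35TC

theorem chkP_9_50 : allD P.chkPt 9 25600 = true := by decide +kernel
theorem chkP_9_51 : allD P.chkPt 9 26112 = true := by decide +kernel
theorem chkP_9_52 : allD P.chkPt 9 26624 = true := by decide +kernel
theorem chkP_9_53 : allD P.chkPt 9 27136 = true := by decide +kernel
theorem chkP_9_54 : allD P.chkPt 9 27648 = true := by decide +kernel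
theorem chkP_9_55 : allD P.chkPt 9 28160 = true := by decide +kernel
theorem chkP_9_56 : allD P.chkPt 9 28672 = true := by decide +kernel
theorem chkP_9_57 : allD P.chkPt 9 29184 = true := by decide +kernel
theorem chkP_9_58 : allD P.chkPt 9 29696 = true := by decide +kernel
theorem chkP_9_59 : allD P.chkPt 9 30208 = true := by decide +kernel
theorem chkP_9_60 : allD P.chkPt 9 30720 = true := by decide +kernel
theorem chkP_9_61 : allD P.chkPt 9 31232 = true := by decide +kernel
theorem chkP_9_62 : allD P.chkPt 9 31744 = true := by decide +kernel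
theorem chkP_9_63 : allD P.chkPt 9 32256 = true := by decide +kernel
theorem chkP_9_64 : allD P.chkPt 9 32768 = true := by decide +kernel
theorem chkP_9_65 : allD P.chkPt 9 33280 = true := by decide +kernel
theorem chkP_9_66 : allD P.chkPt 9 33792 = true := by decide +kernel
theorem chkP_9_67 : allD P.chkPt 9 34304 = true := by decide +kernel
theorem chkP_9_68 : allD P.chkPt 9 34816 = true := by decide +kernel
theorem chkP_9_69 : allD P.chkPt 9 35328 = true := by decide +kernel
theorem chkP_9_70 : allD P.chkPt 9 35840 = true := by decide +kernel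
theorem chkP_9_71 : allD P.chkPt 9 36352 = true := by decide +kernel
theorem chkP_9_72 : allD P.chkPt 9 36864 = true := by decide +kernel
theorem chkP_9_73 : allD P.chkPt 9 37376 = true := by decide +kernel
theorem chkP_9_74 : allD P.chkPt 9 37888 = true := by decide +kernel
theorem chkP_9_75 : allD P.chkPt 9 38400 = true := by decide +kernel

end Cfsg.Agent.Lib.Helper35Fi24a
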