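import Cfsg.Agent.Lib.Helper35Fi24a
import Cfsg.Agent.Lib.Helper35Fi24aChk7

set_option autoImplicit false
set_option maxRecDepth 100000

namespace Cfsg.Agent.Lib.Helper35Fi24a

open Cfsg.Agent.Lib.Helper35TC

theorem chkP_9_102 : allD P.chkPt 9 52224 = true := by decide +kernel
theorem chkP_9_103 : allD P.chkPt 9 52736 = true := by decide +kernel
theorem chkP_9_104 : allD P.chkPt 9 53248 = true := by decide +kernel
theorem chkP_9_105 : allD P.chkPt 9 53760 = true := by decide +kernel
theorem chkP_9_106 : allD P.chkPt 9 54272 = true := by decide +kernel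
theorem chkP_9_107 : allD P.chkPt 9 54784 = true := by decide +kernel
theorem chkP_9_108 : allD P.chkPt 9 55296 = true := by decide +kernel
theorem chkP_9_109 : allD P.chkPt 9 55808 = true := by decide +kernel
theorem chkP_9_110 : allD P.chkPt 9 56320 = true := by decide +kernel
theorem chkP_9_111 : allD P.chkPt 9 56832 = true := by decide +kernel
theorem chkP_9_112 : allD P.chkPt 9 57344 = true := by decide +kernel
theorem chkP_9_113 : allD P.chkPt 9 57856 = true := by decide +kernel
theorem chkP_9_114 : allD P.chkPt 9 58368 = true := by decide +kernel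
theorem chkP_9_115 : allD P.chkPt 9 58880 = true := by decide +kernel
theorem chkP_9_116 : allD P.chkPt 9 59392 = true := by decide +kernel
theorem chkP_9_117 : allD P.chkPt 9 59904 = true := by decide +kernel
theorem chkP_9_118 : allD P.chkPt 9 60416 = true := by decide +kernel
theorem chkP_9_119 : allD P.chkPt 9 60928 = true := by decide +kernel
theorem chkP_9_120 : allD P.chkPt 9 61440 = true := by decide +kernel
theorem chkP_9_121 : allD P.chkPt 9 61952 = true := by decide +kernel
theorem chkP_9_122 : allD P.chkPt 9 62464 = true := by decide +kernel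
theorem chkP_9_123 : allD P.chkPt 9 62976 = true := by decide +kernel
theorem chkP_9_124 : allD P.chkPt 9 63488 = true := by decide +kernel
theorem chkP_9_125 : allD P.chkPt 9 64000 = true := by decide +kernel
theorem chkP_9_126 : allD P.chkPt 9 64512 = true := by decide +kernel
theorem chkP_9_127 : allD P.chkPt 9 65024 = true := by decide +kernel

end Cfsg.Agent.Lib.Helper35Fi24a
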