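import Cfsg.Agent.Lib.Helper35Fi24a
import Cfsg.Agent.Lib.Helper35Fi24aChk12

set_option autoImplicit false
set_option maxRecDepth 100000

namespace Cfsg.Agent.Lib.Helper35Fi24a

open Cfsg.Agent.Lib.Helper35TC

theorem chkP_9_232 : allD P.chkPt 9 118784 = true := by decide +kernel
theorem chkP_9_233 : allD P.chkPt 9 119296 = true := by decide +kernel
theorem chkP_9_234 : allD P.chkPt 9 119808 = true := by decide +kernel
theorem chkP_9_235 : allD P.chkPt 9 120320 = true := by decide +kernel
theorem chkP_9_236 : allD P.chkPt 9 120832 = true := by decide +kernel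
theorem chkP_9_237 : allD P.chkPt 9 121344 = true := by decide +kernel
theorem chkP_9_238 : allD P.chkPt 9 121856 = true := by decide +kernel
theorem chkP_9_239 : allD P.chkPt 9 122368 = true := by decide +kernel
theorem chkP_9_240 : allD P.chkPt 9 122880 = true := by decide +kernel
theorem chkP_9_241 : allD P.chkPt 9 123392 = true := by decide +kernel
theorem chkP_9_242 : allD P.chkPt 9 123904 = true := by decide +kernel
theorem chkP_9_243 : allD P.chkPt 9 124416 = true := by decide +kernel
theorem chkP_9_244 : allD P.chkPt 9 124928 = true := by decide +kernel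
theorem chkP_9_245 : allD P.chkPt 9 125440 = true := by decide +kernel
theorem chkP_9_246 : allD P.chkPt 9 125952 = true := by decide +kernel
theorem chkP_9_247 : allD P.chkPt 9 126464 = true := by decide +kernel
theorem chkP_9_248 : allD P.chkPt 9 126976 = true := by decide +kernel
theorem chkP_9_249 : allD P.chkPt 9 127488 = true := by decide +kernel
theorem chkP_9_250 : allD P.chkPt 9 128000 = true := by decide +kernel
theorem chkP_9_251 : allD P.chkPt 9 128512 = true := by decide +kernel
theorem chkP_9_252 : allD P.chkPt 9 129024 = true := by decide +kernel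
theorem chkP_9_253 : allD P.chkPt 9 129536 = true := by decide +kernel
theorem chkP_9_254 : allD P.chkPt 9 130048 = true := by decide +kernel
theorem chkP_9_255 : allD P.chkPt 9 130560 = true := by decide +kernel
theorem chkP_9_256 : allD P.chkPt 9 131072 = true := by decide +kernel
theorem chkP_9_257 : allD P.chkPt 9 131584 = true := by decide +kernel

end Cfsg.Agent.Lib.Helper35Fi24a
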