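import Cfsg.Agent.Lib.Helper35Fi24aChk0
import Cfsg.Agent.Lib.Helper35Fi24aChk1
import Cfsg.Agent.Lib.Helper35Fi24aChk2
import Cfsg.Agent.Lib.Helper35Fi24aChk3
import Cfsg.Agent.Lib.Helper35Fi24aChk4
import Cfsg.Agent.Lib.Helper35Fi24aChk5
import Cfsg.Agent.Lib.Helper35Fi24aChk6
import Cfsg.Agent.Lib.Helper35Fi24aChk7
import Cfsg.Agent.Lib.Helper35Fi24aChk8
import Cfsg.Agent.Lib.Helper35Fi24aChk9
import Cfsg.Agent.Lib.Helper35Fi24aChk10
import Cfsg.Agent.Lib.Helper35Fi24aChk11
import Cfsg.Agent.Lib.Helper35Fi24aChk12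
import Cfsg.Agent.Lib.Helper35Fi24aChk13
import Cfsg.Agent.Lib.Helper35Fi24aChk14
import Cfsg.Agent.Lib.Helper35Fi24aChk15
import Cfsg.Agent.Lib.Helper35Fi24aChk16
import Cfsg.Agent.Lib.Helper35Fi24aChk17
import Cfsg.Agent.Lib.Helper35Fi24aChk18
import Cfsg.Agent.Lib.Helper35Fi24aChk19
import Cfsg.Agent.Lib.Helper35Fi24aChk20
import Cfsg.Agent.Lib.Helper35Fi24aChk21
import Cfsg.Agent.Lib.Helper35Fi24aChk22
import Cfsg.Agent.Lib.Helper35Fi24aChk23
import Cfsg.Agent.Lib.Helper35Fi24aChk24
import Cfsg.Agent.Lib.Helper35Fi24aChk25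
import Cfsg.Agent.Lib.Helper35Fi24aChk26
import Cfsg.Agent.Lib.Helper35Fi24aChk27
import Cfsg.Agent.Lib.Helper35Fi24aChk28
import Cfsg.Agent.Lib.Helper35Fi24aChk29
import Cfsg.Agent.Lib.Helper35Fi24aChk30
import Cfsg.Agent.Lib.Helper35Fi24aChk31
import Cfsg.Agent.Lib.Helper35Fi24aChk32
import Cfsg.Agent.Lib.Helper35Fi24aChk33
import Cfsg.Agent.Lib.Helper35Fi24aChk34
import Cfsg.Agent.Lib.Helper35Fi24aChk35
import Cfsg.Agent.Lib.Helper35Fi24aChk36
import Cfsg.Agent.Lib.Helper35Fi24aChk37
import Cfsg.Agent.Lib.Helper35Fi24aChk38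
import Cfsg.Agent.Lib.Helper35Fi24aChk39
import Cfsg.Agent.Lib.Helper35Fi24aChk40
import Cfsg.Agent.Lib.Helper35Fi24aChk41
import Cfsg.Agent.Lib.Helper35Fi24aChk42
import Cfsg.Agent.Lib.Helper35Fi24aChk43
import Cfsg.Agent.Lib.Helper35Fi24aChk44
import Cfsg.Agent.Lib.Helper35Fi24aChk45
import Cfsg.Agent.Lib.Helper35Fi24aChk46
import Cfsg.Agent.Lib.Helper35Fi24aChk47
import Cfsg.Agent.Lib.Helper35Fi24aChk48
import Cfsg.Agent.Lib.Helper35Fi24aChk49
import Cfsg.Agent.Lib.Helper35Fi24aChk50
import Cfsg.Agent.Lib.Helper35Fi24aChk51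
import Cfsg.Agent.Lib.Helper35Fi24aChk52
import Cfsg.Agent.Lib.Helper35Fi24aChk53
import Cfsg.Agent.Lib.Helper35Fi24aChk54
import Cfsg.Agent.Lib.Helper35Fi24aChk55
import Cfsg.Agent.Lib.Helper35Fi24aChk56
import Cfsg.Agent.Lib.Helper35Fi24aChk57
import Cfsg.Agent.Lib.Helper35Fi24aChk58
import Cfsg.Agent.Lib.Helper35Fi24aChk59
import Cfsg.Agent.Lib.Helper35Fi24aChk60
import Cfsg.Agent.Lib.Helper35Fi24aChk61
import Cfsg.Agent.Lib.Helper35Fi24aChk62
import Cfsg.Agent.Lib.Helper35Fi24aChk63
import Cfsg.Prelude.Def_Spor_Fi24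

set_option autoImplicit false
set_option maxRecDepth 100000

namespace Cfsg.Agent.Lib.Helper35Fi24a

open Cfsg.Agent.Lib.Helper35TC

open Cfsg.Spor

theorem chkU_12_0 : allD U.chkRow 12 0 = true :=
  allD_join chkU_11_0 chkU_11_1 (by norm_num)
theorem chkU_12_1 : allD U.chkRow 12 4096 = true :=
  allD_join chkU_11_2 chkU_11_3 (by norm_num)
theorem chkU_12_2 : allD U.chkRow 12 8192 = true :=
  allD_join chkU_11_4 chkU_11_5 (by norm_num)
theorem chkU_12_3 : allD U.chkRow 12 12288 = true :=
  allD_join chkU_11_6 chkU_11_7 (by norm_num)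
theorem chkU_12_4 : allD U.chkRow 12 16384 = true :=
  allD_join chkU_11_8 chkU_11_9 (by norm_num)
theorem chkU_12_5 : allD U.chkRow 12 20480 = true :=
  allD_join chkU_11_10 chkU_11_11 (by norm_num)
theorem chkU_12_6 : allD U.chkRow 12 24576 = true :=
  allD_join chkU_11_12 chkU_11_13 (by norm_num)
theorem chkU_12_7 : allD U.chkRow 12 28672 = true :=
  allD_join chkU_11_14 chkU_11_15 (by norm_num)
theorem chkU_12_8 : allD U.chkRow 12 32768 = true :=
  allD_join chkU_11_16 chkU_11_17 (by norm_num)
theorem chkU_12_9 : allD U.chkRow 12 36864 = true :=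
  allD_join chkU_11_18 chkU_11_19 (by norm_num)
theorem chkU_12_10 : allD U.chkRow 12 40960 = true :=
  allD_join chkU_11_20 chkU_11_21 (by norm_num)
theorem chkU_12_11 : allD U.chkRow 12 45056 = true :=
  allD_join chkU_11_22 chkU_11_23 (by norm_num)
theorem chkU_12_12 : allD U.chkRow 12 49152 = true :=
  allD_join chkU_11_24 chkU_11_25 (by norm_num)
theorem chkU_12_13 : allD U.chkRow 12 53248 = true :=
  allD_join chkU_11_26 chkU_11_27 (by norm_num)
theorem chkU_12_14 : allD U.chkRow 12 57344 = true :=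
  allD_join chkU_11_28 chkU_11_29 (by norm_num)
theorem chkU_12_15 : allD U.chkRow 12 61440 = true :=
  allD_join chkU_11_30 chkU_11_31 (by norm_num)
theorem chkU_12_16 : allD U.chkRow 12 65536 = true :=
  allD_join chkU_11_32 chkU_11_33 (by norm_num)
theorem chkU_12_17 : allD U.chkRow 12 69632 = true :=
  allD_join chkU_11_34 chkU_11_35 (by norm_num)
theorem chkU_12_18 : allD U.chkRow 12 73728 = true :=
  allD_join chkU_11_36 chkU_11_37 (by norm_num)
theorem chkU_12_19 : allD U.chkRow 12 77824 = true :=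
  allD_join chkU_11_38 chkU_11_39 (by norm_num)
theorem chkU_12_20 : allD U.chkRow 12 81920 = true :=
  allD_join chkU_11_40 chkU_11_41 (by norm_num)
theorem chkU_12_21 : allD U.chkRow 12 86016 = true :=
  allD_join chkU_11_42 chkU_11_43 (by norm_num)
theorem chkU_12_22 : allD U.chkRow 12 90112 = true :=
  allD_join chkU_11_44 chkU_11_45 (by norm_num)
theorem chkU_12_23 : allD U.chkRow 12 94208 = true :=
  allD_join chkU_11_46 chkU_11_47 (by norm_num)
theorem chkU_12_24 : allD U.chkRow 12 98304 = true :=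
  allD_join chkU_11_48 chkU_11_49 (by norm_num)
theorem chkU_12_25 : allD U.chkRow 12 102400 = true :=
  allD_join chkU_11_50 chkU_11_51 (by norm_num)
theorem chkU_12_26 : allD U.chkRow 12 106496 = true :=
  allD_join chkU_11_52 chkU_11_53 (by norm_num)
theorem chkU_12_27 : allD U.chkRow 12 110592 = true :=
  allD_join chkU_11_54 chkU_11_55 (by norm_num)
theorem chkU_12_28 : allD U.chkRow 12 114688 = true :=
  allD_join chkU_11_56 chkU_11_57 (by norm_num)
theorem chkU_12_29 : allD U.chkRow 12 118784 = true :=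
  allD_join chkU_11_58 chkU_11_59 (by norm_num)
theorem chkU_12_30 : allD U.chkRow 12 122880 = true :=
  allD_join chkU_11_60 chkU_11_61 (by norm_num)
theorem chkU_12_31 : allD U.chkRow 12 126976 = true :=
  allD_join chkU_11_62 chkU_11_63 (by norm_num)
theorem chkU_12_32 : allD U.chkRow 12 131072 = true :=
  allD_join chkU_11_64 chkU_11_65 (by norm_num)
theorem chkU_12_33 : allD U.chkRow 12 135168 = true :=
  allD_join chkU_11_66 chkU_11_67 (by norm_num)
theorem chkU_12_34 : allD U.chkRow 12 139264 = true :=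
  allD_join chkU_11_68 chkU_11_69 (by norm_num)
theorem chkU_12_35 : allD U.chkRow 12 143360 = true :=
  allD_join chkU_11_70 chkU_11_71 (by norm_num)
theorem chkU_12_36 : allD U.chkRow 12 147456 = true :=
  allD_join chkU_11_72 chkU_11_73 (by norm_num)
theorem chkU_12_37 : allD U.chkRow 12 151552 = true :=
  allD_join chkU_11_74 chkU_11_75 (by norm_num)
theorem chkU_12_38 : allD U.chkRow 12 155648 = true :=
  allD_join chkU_11_76 chkU_11_77 (by norm_num)
theorem chkU_12_39 : allD U.chkRow 12 159744 = true :=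
  allD_join chkU_11_78 chkU_11_79 (by norm_num)
theorem chkU_12_40 : allD U.chkRow 12 163840 = true :=
  allD_join chkU_11_80 chkU_11_81 (by norm_num)
theorem chkU_12_41 : allD U.chkRow 12 167936 = true :=
  allD_join chkU_11_82 chkU_11_83 (by norm_num)
theorem chkU_12_42 : allD U.chkRow 12 172032 = true :=
  allD_join chkU_11_84 chkU_11_85 (by norm_num)
theorem chkU_12_43 : allD U.chkRow 12 176128 = true :=
  allD_join chkU_11_86 chkU_11_87 (by norm_num)
theorem chkU_12_44 : allD U.chkRow 12 180224 = true :=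
  allD_join chkU_11_88 chkU_11_89 (by norm_num)
theorem chkU_12_45 : allD U.chkRow 12 184320 = true :=
  allD_join chkU_11_90 chkU_11_91 (by norm_num)
theorem chkU_12_46 : allD U.chkRow 12 188416 = true :=
  allD_join chkU_11_92 chkU_11_93 (by norm_num)
theorem chkU_12_47 : allD U.chkRow 12 192512 = true :=
  allD_join chkU_11_94 chkU_11_95 (by norm_num)
theorem chkU_12_48 : allD U.chkRow 12 196608 = true :=
  allD_join chkU_11_96 chkU_11_97 (by norm_num)
theorem chkU_12_49 : allD U.chkRow 12 200704 = true :=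
  allD_join chkU_11_98 chkU_11_99 (by norm_num)
theorem chkU_12_50 : allD U.chkRow 12 204800 = true :=
  allD_join chkU_11_100 chkU_11_101 (by norm_num)
theorem chkU_12_51 : allD U.chkRow 12 208896 = true :=
  allD_join chkU_11_102 chkU_11_103 (by norm_num)
theorem chkU_12_52 : allD U.chkRow 12 212992 = true :=
  allD_join chkU_11_104 chkU_11_105 (by norm_num)
theorem chkU_12_53 : allD U.chkRow 12 217088 = true :=
  allD_join chkU_11_106 chkU_11_107 (by norm_num)
theorem chkU_12_54 : allD U.chkRow 12 221184 = true :=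
  allD_join chkU_11_108 chkU_11_109 (by norm_num)
theorem chkU_12_55 : allD U.chkRow 12 225280 = true :=
  allD_join chkU_11_110 chkU_11_111 (by norm_num)
theorem chkU_12_56 : allD U.chkRow 12 229376 = true :=
  allD_join chkU_11_112 chkU_11_113 (by norm_num)
theorem chkU_12_57 : allD U.chkRow 12 233472 = true :=
  allD_join chkU_11_114 chkU_11_115 (by norm_num)
theorem chkU_12_58 : allD U.chkRow 12 237568 = true :=
  allD_join chkU_11_116 chkU_11_117 (by norm_num)
theorem chkU_12_59 : allD U.chkRow 12 241664 = true :=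
  allD_join chkU_11_118 chkU_11_119 (by norm_num)
theorem chkU_12_60 : allD U.chkRow 12 245760 = true :=
  allD_join chkU_11_120 chkU_11_121 (by norm_num)
theorem chkU_12_61 : allD U.chkRow 12 249856 = true :=
  allD_join chkU_11_122 chkU_11_123 (by norm_num)
theorem chkU_12_62 : allD U.chkRow 12 253952 = true :=
  allD_join chkU_11_124 chkU_11_125 (by norm_num)
theorem chkU_12_63 : allD U.chkRow 12 258048 = true :=
  allD_join chkU_11_126 chkU_11_127 (by norm_num)
theorem chkU_12_64 : allD U.chkRow 12 262144 = true :=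
  allD_join chkU_11_128 chkU_11_129 (by norm_num)
theorem chkU_12_65 : allD U.chkRow 12 266240 = true :=
  allD_join chkU_11_130 chkU_11_131 (by norm_num)
theorem chkU_12_66 : allD U.chkRow 12 270336 = true :=
  allD_join chkU_11_132 chkU_11_133 (by norm_num)
theorem chkU_12_67 : allD U.chkRow 12 274432 = true :=
  allD_join chkU_11_134 chkU_11_135 (by norm_num)
theorem chkU_12_68 : allD U.chkRow 12 278528 = true :=
  allD_join chkU_11_136 chkU_11_137 (by norm_num)
theorem chkU_12_69 : allD U.chkRow 12 282624 = true :=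
  allD_join chkU_11_138 chkU_11_139 (by norm_num)
theorem chkU_12_70 : allD U.chkRow 12 286720 = true :=
  allD_join chkU_11_140 chkU_11_141 (by norm_num)
theorem chkU_12_71 : allD U.chkRow 12 290816 = true :=
  allD_join chkU_11_142 chkU_11_143 (by norm_num)
theorem chkU_12_72 : allD U.chkRow 12 294912 = true :=
  allD_join chkU_11_144 chkU_11_145 (by norm_num)
theorem chkU_12_73 : allD U.chkRow 12 299008 = true :=
  allD_join chkU_11_146 chkU_11_147 (by norm_num)
theorem chkU_12_74 : allD U.chkRow 12 303104 = true :=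
  allD_join chkU_11_148 chkU_11_149 (by norm_num)
theorem chkU_12_75 : allD U.chkRow 12 307200 = true :=
  allD_join chkU_11_150 chkU_11_151 (by norm_num)
theorem chkU_12_76 : allD U.chkRow 12 311296 = true :=
  allD_join chkU_11_152 chkU_11_153 (by norm_num)
theorem chkU_12_77 : allD U.chkRow 12 315392 = true :=
  allD_join chkU_11_154 chkU_11_155 (by norm_num)
theorem chkU_12_78 : allD U.chkRow 12 319488 = true :=
  allD_join chkU_11_156 chkU_11_157 (by norm_num)
theorem chkU_12_79 : allD U.chkRow 12 323584 = true :=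
  allD_join chkU_11_158 chkU_11_159 (by norm_num)
theorem chkU_12_80 : allD U.chkRow 12 327680 = true :=
  allD_join chkU_11_160 chkU_11_161 (by norm_num)
theorem chkU_12_81 : allD U.chkRow 12 331776 = true :=
  allD_join chkU_11_162 chkU_11_163 (by norm_num)
theorem chkU_12_82 : allD U.chkRow 12 335872 = true :=
  allD_join chkU_11_164 chkU_11_165 (by norm_num)
theorem chkU_12_83 : allD U.chkRow 12 339968 = true :=
  allD_join chkU_11_166 chkU_11_167 (by norm_num)
theorem chkU_12_84 : allD U.chkRow 12 344064 = true :=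
  allD_join chkU_11_168 chkU_11_169 (by norm_num)
theorem chkU_12_85 : allD U.chkRow 12 348160 = true :=
  allD_join chkU_11_170 chkU_11_171 (by norm_num)
theorem chkU_12_86 : allD U.chkRow 12 352256 = true :=
  allD_join chkU_11_172 chkU_11_173 (by norm_num)
theorem chkU_12_87 : allD U.chkRow 12 356352 = true :=
  allD_join chkU_11_174 chkU_11_175 (by norm_num)
theorem chkU_12_88 : allD U.chkRow 12 360448 = true :=
  allD_join chkU_11_176 chkU_11_177 (by norm_num)
theorem chkU_12_89 : allD U.chkRow 12 364544 = true :=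
  allD_join chkU_11_178 chkU_11_179 (by norm_num)
theorem chkU_12_90 : allD U.chkRow 12 368640 = true :=
  allD_join chkU_11_180 chkU_11_181 (by norm_num)
theorem chkU_12_91 : allD U.chkRow 12 372736 = true :=
  allD_join chkU_11_182 chkU_11_183 (by norm_num)
theorem chkU_12_92 : allD U.chkRow 12 376832 = true :=
  allD_join chkU_11_184 chkU_11_185 (by norm_num)
theorem chkU_12_93 : allD U.chkRow 12 380928 = true :=
  allD_join chkU_11_186 chkU_11_187 (by norm_num)
theorem chkU_12_94 : allD U.chkRow 12 385024 = true :=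
  allD_join chkU_11_188 chkU_11_189 (by norm_num)
theorem chkU_12_95 : allD U.chkRow 12 389120 = true :=
  allD_join chkU_11_190 chkU_11_191 (by norm_num)
theorem chkU_12_96 : allD U.chkRow 12 393216 = true :=
  allD_join chkU_11_192 chkU_11_193 (by norm_num)
theorem chkU_12_97 : allD U.chkRow 12 397312 = true :=
  allD_join chkU_11_194 chkU_11_195 (by norm_num)
theorem chkU_12_98 : allD U.chkRow 12 401408 = true :=
  allD_join chkU_11_196 chkU_11_197 (by norm_num)
theorem chkU_12_99 : allD U.chkRow 12 405504 = true :=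
  allD_join chkU_11_198 chkU_11_199 (by norm_num)
theorem chkU_12_100 : allD U.chkRow 12 409600 = true :=
  allD_join chkU_11_200 chkU_11_201 (by norm_num)
theorem chkU_12_101 : allD U.chkRow 12 413696 = true :=
  allD_join chkU_11_202 chkU_11_203 (by norm_num)
theorem chkU_12_102 : allD U.chkRow 12 417792 = true :=
  allD_join chkU_11_204 chkU_11_205 (by norm_num)
theorem chkU_12_103 : allD U.chkRow 12 421888 = true :=
  allD_join chkU_11_206 chkU_11_207 (by norm_num)
theorem chkU_12_104 : allD U.chkRow 12 425984 = true :=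
  allD_join chkU_11_208 chkU_11_209 (by norm_num)
theorem chkU_12_105 : allD U.chkRow 12 430080 = true :=
  allD_join chkU_11_210 chkU_11_211 (by norm_num)
theorem chkU_12_106 : allD U.chkRow 12 434176 = true :=
  allD_join chkU_11_212 chkU_11_213 (by norm_num)
theorem chkU_12_107 : allD U.chkRow 12 438272 = true :=
  allD_join chkU_11_214 chkU_11_215 (by norm_num)
theorem chkU_12_108 : allD U.chkRow 12 442368 = true :=
  allD_join chkU_11_216 chkU_11_217 (by norm_num)
theorem chkU_12_109 : allD U.chkRow 12 446464 = true :=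
  allD_join chkU_11_218 chkU_11_219 (by norm_num)
theorem chkU_12_110 : allD U.chkRow 12 450560 = true :=
  allD_join chkU_11_220 chkU_11_221 (by norm_num)
theorem chkU_12_111 : allD U.chkRow 12 454656 = true :=
  allD_join chkU_11_222 chkU_11_223 (by norm_num)
theorem chkU_12_112 : allD U.chkRow 12 458752 = true :=
  allD_join chkU_11_224 chkU_11_225 (by norm_num)
theorem chkU_12_113 : allD U.chkRow 12 462848 = true :=
  allD_join chkU_11_226 chkU_11_227 (by norm_num)
theorem chkU_12_114 : allD U.chkRow 12 466944 = true :=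
  allD_join chkU_11_228 chkU_11_229 (by norm_num)
theorem chkU_12_115 : allD U.chkRow 12 471040 = true :=
  allD_join chkU_11_230 chkU_11_231 (by norm_num)
theorem chkU_12_116 : allD U.chkRow 12 475136 = true :=
  allD_join chkU_11_232 chkU_11_233 (by norm_num)
theorem chkU_12_117 : allD U.chkRow 12 479232 = true :=
  allD_join chkU_11_234 chkU_11_235 (by norm_num)
theorem chkU_12_118 : allD U.chkRow 12 483328 = true :=
  allD_join chkU_11_236 chkU_11_237 (by norm_num)
theorem chkU_12_119 : allD U.chkRow 12 487424 = true :=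
  allD_join chkU_11_238 chkU_11_239 (by norm_num)
theorem chkU_12_120 : allD U.chkRow 12 491520 = true :=
  allD_join chkU_11_240 chkU_11_241 (by norm_num)
theorem chkU_12_121 : allD U.chkRow 12 495616 = true :=
  allD_join chkU_11_242 chkU_11_243 (by norm_num)
theorem chkU_12_122 : allD U.chkRow 12 499712 = true :=
  allD_join chkU_11_244 chkU_11_245 (by norm_num)
theorem chkU_12_123 : allD U.chkRow 12 503808 = true :=
  allD_join chkU_11_246 chkU_11_247 (by norm_num)
theorem chkU_12_124 : allD U.chkRow 12 507904 = true :=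
  allD_join chkU_11_248 chkU_11_249 (by norm_num)
theorem chkU_12_125 : allD U.chkRow 12 512000 = true :=
  allD_join chkU_11_250 chkU_11_251 (by norm_num)
theorem chkU_12_126 : allD U.chkRow 12 516096 = true :=
  allD_join chkU_11_252 chkU_11_253 (by norm_num)
theorem chkU_12_127 : allD U.chkRow 12 520192 = true :=
  allD_join chkU_11_254 chkU_11_255 (by norm_num)
theorem chkU_13_0 : allD U.chkRow 13 0 = true :=
  allD_join chkU_12_0 chkU_12_1 (by norm_num)
theorem chkU_13_1 : allD U.chkRow 13 8192 = true :=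
  allD_join chkU_12_2 chkU_12_3 (by norm_num)
theorem chkU_13_2 : allD U.chkRow 13 16384 = true :=
  allD_join chkU_12_4 chkU_12_5 (by norm_num)
theorem chkU_13_3 : allD U.chkRow 13 24576 = true :=
  allD_join chkU_12_6 chkU_12_7 (by norm_num)
theorem chkU_13_4 : allD U.chkRow 13 32768 = true :=
  allD_join chkU_12_8 chkU_12_9 (by norm_num)
theorem chkU_13_5 : allD U.chkRow 13 40960 = true :=
  allD_join chkU_12_10 chkU_12_11 (by norm_num)
theorem chkU_13_6 : allD U.chkRow 13 49152 = true :=
  allD_join chkU_12_12 chkU_12_13 (by norm_num)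
theorem chkU_13_7 : allD U.chkRow 13 57344 = true :=
  allD_join chkU_12_14 chkU_12_15 (by norm_num)
theorem chkU_13_8 : allD U.chkRow 13 65536 = true :=
  allD_join chkU_12_16 chkU_12_17 (by norm_num)
theorem chkU_13_9 : allD U.chkRow 13 73728 = true :=
  allD_join chkU_12_18 chkU_12_19 (by norm_num)
theorem chkU_13_10 : allD U.chkRow 13 81920 = true :=
  allD_join chkU_12_20 chkU_12_21 (by norm_num)
theorem chkU_13_11 : allD U.chkRow 13 90112 = true :=
  allD_join chkU_12_22 chkU_12_23 (by norm_num)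
theorem chkU_13_12 : allD U.chkRow 13 98304 = true :=
  allD_join chkU_12_24 chkU_12_25 (by norm_num)
theorem chkU_13_13 : allD U.chkRow 13 106496 = true :=
  allD_join chkU_12_26 chkU_12_27 (by norm_num)
theorem chkU_13_14 : allD U.chkRow 13 114688 = true :=
  allD_join chkU_12_28 chkU_12_29 (by norm_num)
theorem chkU_13_15 : allD U.chkRow 13 122880 = true :=
  allD_join chkU_12_30 chkU_12_31 (by norm_num)
theorem chkU_13_16 : allD U.chkRow 13 131072 = true :=
  allD_join chkU_12_32 chkU_12_33 (by norm_num)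
theorem chkU_13_17 : allD U.chkRow 13 139264 = true :=
  allD_join chkU_12_34 chkU_12_35 (by norm_num)
theorem chkU_13_18 : allD U.chkRow 13 147456 = true :=
  allD_join chkU_12_36 chkU_12_37 (by norm_num)
theorem chkU_13_19 : allD U.chkRow 13 155648 = true :=
  allD_join chkU_12_38 chkU_12_39 (by norm_num)
theorem chkU_13_20 : allD U.chkRow 13 163840 = true :=
  allD_join chkU_12_40 chkU_12_41 (by norm_num)
theorem chkU_13_21 : allD U.chkRow 13 172032 = true :=
  allD_join chkU_12_42 chkU_12_43 (by norm_num)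
theorem chkU_13_22 : allD U.chkRow 13 180224 = true :=
  allD_join chkU_12_44 chkU_12_45 (by norm_num)
theorem chkU_13_23 : allD U.chkRow 13 188416 = true :=
  allD_join chkU_12_46 chkU_12_47 (by norm_num)
theorem chkU_13_24 : allD U.chkRow 13 196608 = true :=
  allD_join chkU_12_48 chkU_12_49 (by norm_num)
theorem chkU_13_25 : allD U.chkRow 13 204800 = true :=
  allD_join chkU_12_50 chkU_12_51 (by norm_num)
theorem chkU_13_26 : allD U.chkRow 13 212992 = true :=
  allD_join chkU_12_52 chkU_12_53 (by norm_num)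
theorem chkU_13_27 : allD U.chkRow 13 221184 = true :=
  allD_join chkU_12_54 chkU_12_55 (by norm_num)
theorem chkU_13_28 : allD U.chkRow 13 229376 = true :=
  allD_join chkU_12_56 chkU_12_57 (by norm_num)
theorem chkU_13_29 : allD U.chkRow 13 237568 = true :=
  allD_join chkU_12_58 chkU_12_59 (by norm_num)
theorem chkU_13_30 : allD U.chkRow 13 245760 = true :=
  allD_join chkU_12_60 chkU_12_61 (by norm_num)
theorem chkU_13_31 : allD U.chkRow 13 253952 = true :=
  allD_join chkU_12_62 chkU_12_63 (by norm_num)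
theorem chkU_13_32 : allD U.chkRow 13 262144 = true :=
  allD_join chkU_12_64 chkU_12_65 (by norm_num)
theorem chkU_13_33 : allD U.chkRow 13 270336 = true :=
  allD_join chkU_12_66 chkU_12_67 (by norm_num)
theorem chkU_13_34 : allD U.chkRow 13 278528 = true :=
  allD_join chkU_12_68 chkU_12_69 (by norm_num)
theorem chkU_13_35 : allD U.chkRow 13 286720 = true :=
  allD_join chkU_12_70 chkU_12_71 (by norm_num)
theorem chkU_13_36 : allD U.chkRow 13 294912 = true :=
  allD_join chkU_12_72 chkU_12_73 (by norm_num)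
theorem chkU_13_37 : allD U.chkRow 13 303104 = true :=
  allD_join chkU_12_74 chkU_12_75 (by norm_num)
theorem chkU_13_38 : allD U.chkRow 13 311296 = true :=
  allD_join chkU_12_76 chkU_12_77 (by norm_num)
theorem chkU_13_39 : allD U.chkRow 13 319488 = true :=
  allD_join chkU_12_78 chkU_12_79 (by norm_num)
theorem chkU_13_40 : allD U.chkRow 13 327680 = true :=
  allD_join chkU_12_80 chkU_12_81 (by norm_num)
theorem chkU_13_41 : allD U.chkRow 13 335872 = true :=
  allD_join chkU_12_82 chkU_12_83 (by norm_num)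
theorem chkU_13_42 : allD U.chkRow 13 344064 = true :=
  allD_join chkU_12_84 chkU_12_85 (by norm_num)
theorem chkU_13_43 : allD U.chkRow 13 352256 = true :=
  allD_join chkU_12_86 chkU_12_87 (by norm_num)
theorem chkU_13_44 : allD U.chkRow 13 360448 = true :=
  allD_join chkU_12_88 chkU_12_89 (by norm_num)
theorem chkU_13_45 : allD U.chkRow 13 368640 = true :=
  allD_join chkU_12_90 chkU_12_91 (by norm_num)
theorem chkU_13_46 : allD U.chkRow 13 376832 = true :=
  allD_join chkU_12_92 chkU_12_93 (by norm_num)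
theorem chkU_13_47 : allD U.chkRow 13 385024 = true :=
  allD_join chkU_12_94 chkU_12_95 (by norm_num)
theorem chkU_13_48 : allD U.chkRow 13 393216 = true :=
  allD_join chkU_12_96 chkU_12_97 (by norm_num)
theorem chkU_13_49 : allD U.chkRow 13 401408 = true :=
  allD_join chkU_12_98 chkU_12_99 (by norm_num)
theorem chkU_13_50 : allD U.chkRow 13 409600 = true :=
  allD_join chkU_12_100 chkU_12_101 (by norm_num)
theorem chkU_13_51 : allD U.chkRow 13 417792 = true :=
  allD_join chkU_12_102 chkU_12_103 (by norm_num)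
theorem chkU_13_52 : allD U.chkRow 13 425984 = true :=
  allD_join chkU_12_104 chkU_12_105 (by norm_num)
theorem chkU_13_53 : allD U.chkRow 13 434176 = true :=
  allD_join chkU_12_106 chkU_12_107 (by norm_num)
theorem chkU_13_54 : allD U.chkRow 13 442368 = true :=
  allD_join chkU_12_108 chkU_12_109 (by norm_num)
theorem chkU_13_55 : allD U.chkRow 13 450560 = true :=
  allD_join chkU_12_110 chkU_12_111 (by norm_num)
theorem chkU_13_56 : allD U.chkRow 13 458752 = true :=
  allD_join chkU_12_112 chkU_12_113 (by norm_num)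
theorem chkU_13_57 : allD U.chkRow 13 466944 = true :=
  allD_join chkU_12_114 chkU_12_115 (by norm_num)
theorem chkU_13_58 : allD U.chkRow 13 475136 = true :=
  allD_join chkU_12_116 chkU_12_117 (by norm_num)
theorem chkU_13_59 : allD U.chkRow 13 483328 = true :=
  allD_join chkU_12_118 chkU_12_119 (by norm_num)
theorem chkU_13_60 : allD U.chkRow 13 491520 = true :=
  allD_join chkU_12_120 chkU_12_121 (by norm_num)
theorem chkU_13_61 : allD U.chkRow 13 499712 = true :=
  allD_join chkU_12_122 chkU_12_123 (by norm_num)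
theorem chkU_13_62 : allD U.chkRow 13 507904 = true :=
  allD_join chkU_12_124 chkU_12_125 (by norm_num)
theorem chkU_13_63 : allD U.chkRow 13 516096 = true :=
  allD_join chkU_12_126 chkU_12_127 (by norm_num)
theorem chkU_14_0 : allD U.chkRow 14 0 = true :=
  allD_join chkU_13_0 chkU_13_1 (by norm_num)
theorem chkU_14_1 : allD U.chkRow 14 16384 = true :=
  allD_join chkU_13_2 chkU_13_3 (by norm_num)
theorem chkU_14_2 : allD U.chkRow 14 32768 = true :=
  allD_join chkU_13_4 chkU_13_5 (by norm_num)
theorem chkU_14_3 : allD U.chkRow 14 49152 = true :=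
  allD_join chkU_13_6 chkU_13_7 (by norm_num)
theorem chkU_14_4 : allD U.chkRow 14 65536 = true :=
  allD_join chkU_13_8 chkU_13_9 (by norm_num)
theorem chkU_14_5 : allD U.chkRow 14 81920 = true :=
  allD_join chkU_13_10 chkU_13_11 (by norm_num)
theorem chkU_14_6 : allD U.chkRow 14 98304 = true :=
  allD_join chkU_13_12 chkU_13_13 (by norm_num)
theorem chkU_14_7 : allD U.chkRow 14 114688 = true :=
  allD_join chkU_13_14 chkU_13_15 (by norm_num)
theorem chkU_14_8 : allD U.chkRow 14 131072 = true :=
  allD_join chkU_13_16 chkU_13_17 (by norm_num)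
theorem chkU_14_9 : allD U.chkRow 14 147456 = true :=
  allD_join chkU_13_18 chkU_13_19 (by norm_num)
theorem chkU_14_10 : allD U.chkRow 14 163840 = true :=
  allD_join chkU_13_20 chkU_13_21 (by norm_num)
theorem chkU_14_11 : allD U.chkRow 14 180224 = true :=
  allD_join chkU_13_22 chkU_13_23 (by norm_num)
theorem chkU_14_12 : allD U.chkRow 14 196608 = true :=
  allD_join chkU_13_24 chkU_13_25 (by norm_num)
theorem chkU_14_13 : allD U.chkRow 14 212992 = true :=
  allD_join chkU_13_26 chkU_13_27 (by norm_num)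
theorem chkU_14_14 : allD U.chkRow 14 229376 = true :=
  allD_join chkU_13_28 chkU_13_29 (by norm_num)
theorem chkU_14_15 : allD U.chkRow 14 245760 = true :=
  allD_join chkU_13_30 chkU_13_31 (by norm_num)
theorem chkU_14_16 : allD U.chkRow 14 262144 = true :=
  allD_join chkU_13_32 chkU_13_33 (by norm_num)
theorem chkU_14_17 : allD U.chkRow 14 278528 = true :=
  allD_join chkU_13_34 chkU_13_35 (by norm_num)
theorem chkU_14_18 : allD U.chkRow 14 294912 = true :=
  allD_join chkU_13_36 chkU_13_37 (by norm_num)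
theorem chkU_14_19 : allD U.chkRow 14 311296 = true :=
  allD_join chkU_13_38 chkU_13_39 (by norm_num)
theorem chkU_14_20 : allD U.chkRow 14 327680 = true :=
  allD_join chkU_13_40 chkU_13_41 (by norm_num)
theorem chkU_14_21 : allD U.chkRow 14 344064 = true :=
  allD_join chkU_13_42 chkU_13_43 (by norm_num)
theorem chkU_14_22 : allD U.chkRow 14 360448 = true :=
  allD_join chkU_13_44 chkU_13_45 (by norm_num)
theorem chkU_14_23 : allD U.chkRow 14 376832 = true :=
  allD_join chkU_13_46 chkU_13_47 (by norm_num)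
theorem chkU_14_24 : allD U.chkRow 14 393216 = true :=
  allD_join chkU_13_48 chkU_13_49 (by norm_num)
theorem chkU_14_25 : allD U.chkRow 14 409600 = true :=
  allD_join chkU_13_50 chkU_13_51 (by norm_num)
theorem chkU_14_26 : allD U.chkRow 14 425984 = true :=
  allD_join chkU_13_52 chkU_13_53 (by norm_num)
theorem chkU_14_27 : allD U.chkRow 14 442368 = true :=
  allD_join chkU_13_54 chkU_13_55 (by norm_num)
theorem chkU_14_28 : allD U.chkRow 14 458752 = true :=
  allD_join chkU_13_56 chkU_13_57 (by norm_num)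
theorem chkU_14_29 : allD U.chkRow 14 475136 = true :=
  allD_join chkU_13_58 chkU_13_59 (by norm_num)
theorem chkU_14_30 : allD U.chkRow 14 491520 = true :=
  allD_join chkU_13_60 chkU_13_61 (by norm_num)
theorem chkU_14_31 : allD U.chkRow 14 507904 = true :=
  allD_join chkU_13_62 chkU_13_63 (by norm_num)
theorem chkU_15_0 : allD U.chkRow 15 0 = true :=
  allD_join chkU_14_0 chkU_14_1 (by norm_num)
theorem chkU_15_1 : allD U.chkRow 15 32768 = true :=
  allD_join chkU_14_2 chkU_14_3 (by norm_num)
theorem chkU_15_2 : allD U.chkRow 15 65536 = true :=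
  allD_join chkU_14_4 chkU_14_5 (by norm_num)
theorem chkU_15_3 : allD U.chkRow 15 98304 = true :=
  allD_join chkU_14_6 chkU_14_7 (by norm_num)
theorem chkU_15_4 : allD U.chkRow 15 131072 = true :=
  allD_join chkU_14_8 chkU_14_9 (by norm_num)
theorem chkU_15_5 : allD U.chkRow 15 163840 = true :=
  allD_join chkU_14_10 chkU_14_11 (by norm_num)
theorem chkU_15_6 : allD U.chkRow 15 196608 = true :=
  allD_join chkU_14_12 chkU_14_13 (by norm_num)
theorem chkU_15_7 : allD U.chkRow 15 229376 = true :=
  allD_join chkU_14_14 chkU_14_15 (by norm_num)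
theorem chkU_15_8 : allD U.chkRow 15 262144 = true :=
  allD_join chkU_14_16 chkU_14_17 (by norm_num)
theorem chkU_15_9 : allD U.chkRow 15 294912 = true :=
  allD_join chkU_14_18 chkU_14_19 (by norm_num)
theorem chkU_15_10 : allD U.chkRow 15 327680 = true :=
  allD_join chkU_14_20 chkU_14_21 (by norm_num)
theorem chkU_15_11 : allD U.chkRow 15 360448 = true :=
  allD_join chkU_14_22 chkU_14_23 (by norm_num)
theorem chkU_15_12 : allD U.chkRow 15 393216 = true :=
  allD_join chkU_14_24 chkU_14_25 (by norm_num)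
theorem chkU_15_13 : allD U.chkRow 15 425984 = true :=
  allD_join chkU_14_26 chkU_14_27 (by norm_num)
theorem chkU_15_14 : allD U.chkRow 15 458752 = true :=
  allD_join chkU_14_28 chkU_14_29 (by norm_num)
theorem chkU_15_15 : allD U.chkRow 15 491520 = true :=
  allD_join chkU_14_30 chkU_14_31 (by norm_num)
theorem chkU_16_0 : allD U.chkRow 16 0 = true :=
  allD_join chkU_15_0 chkU_15_1 (by norm_num)
theorem chkU_16_1 : allD U.chkRow 16 65536 = true :=
  allD_join chkU_15_2 chkU_15_3 (by norm_num)
theorem chkU_16_2 : allD U.chkRow 16 131072 = true :=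
  allD_join chkU_15_4 chkU_15_5 (by norm_num)
theorem chkU_16_3 : allD U.chkRow 16 196608 = true :=
  allD_join chkU_15_6 chkU_15_7 (by norm_num)
theorem chkU_16_4 : allD U.chkRow 16 262144 = true :=
  allD_join chkU_15_8 chkU_15_9 (by norm_num)
theorem chkU_16_5 : allD U.chkRow 16 327680 = true :=
  allD_join chkU_15_10 chkU_15_11 (by norm_num)
theorem chkU_16_6 : allD U.chkRow 16 393216 = true :=
  allD_join chkU_15_12 chkU_15_13 (by norm_num)
theorem chkU_16_7 : allD U.chkRow 16 458752 = true :=
  allD_join chkU_15_14 chkU_15_15 (by norm_num)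
theorem chkU_17_0 : allD U.chkRow 17 0 = true :=
  allD_join chkU_16_0 chkU_16_1 (by norm_num)
theorem chkU_17_1 : allD U.chkRow 17 131072 = true :=
  allD_join chkU_16_2 chkU_16_3 (by norm_num)
theorem chkU_17_2 : allD U.chkRow 17 262144 = true :=
  allD_join chkU_16_4 chkU_16_5 (by norm_num)
theorem chkU_17_3 : allD U.chkRow 17 393216 = true :=
  allD_join chkU_16_6 chkU_16_7 (by norm_num)
theorem chkU_18_0 : allD U.chkRow 18 0 = true :=
  allD_join chkU_17_0 chkU_17_1 (by norm_num)
theorem chkU_18_1 : allD U.chkRow 18 262144 = true :=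
  allD_join chkU_17_2 chkU_17_3 (by norm_num)
theorem chkU_19_0 : allD U.chkRow 19 0 = true :=
  allD_join chkU_18_0 chkU_18_1 (by norm_num)
theorem cntU_15_0 : cntD U.live 15 0 = 25465 :=
  cntD_join cntU_14_0 cntU_14_1 (by norm_num) (by norm_num)
theorem cntU_15_1 : cntD U.live 15 32768 = 19761 :=
  cntD_join cntU_14_2 cntU_14_3 (by norm_num) (by norm_num)
theorem cntU_15_2 : cntD U.live 15 65536 = 17136 :=
  cntD_join cntU_14_4 cntU_14_5 (by norm_num) (by norm_num)
theorem cntU_15_3 : cntD U.live 15 98304 = 22579 :=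
  cntD_join cntU_14_6 cntU_14_7 (by norm_num) (by norm_num)
theorem cntU_15_4 : cntD U.live 15 131072 = 32767 :=
  cntD_join cntU_14_8 cntU_14_9 (by norm_num) (by norm_num)
theorem cntU_15_5 : cntD U.live 15 163840 = 32758 :=
  cntD_join cntU_14_10 cntU_14_11 (by norm_num) (by norm_num)
theorem cntU_15_6 : cntD U.live 15 196608 = 32749 :=
  cntD_join cntU_14_12 cntU_14_13 (by norm_num) (by norm_num)
theorem cntU_15_7 : cntD U.live 15 229376 = 32768 :=
  cntD_join cntU_14_14 cntU_14_15 (by norm_num) (by norm_num)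
theorem cntU_15_8 : cntD U.live 15 262144 = 32768 :=
  cntD_join cntU_14_16 cntU_14_17 (by norm_num) (by norm_num)
theorem cntU_15_9 : cntD U.live 15 294912 = 32768 :=
  cntD_join cntU_14_18 cntU_14_19 (by norm_num) (by norm_num)
theorem cntU_15_10 : cntD U.live 15 327680 = 25417 :=
  cntD_join cntU_14_20 cntU_14_21 (by norm_num) (by norm_num)
theorem cntU_15_11 : cntD U.live 15 360448 = 0 :=
  cntD_join cntU_14_22 cntU_14_23 (by norm_num) (by norm_num)
theorem cntU_15_12 : cntD U.live 15 393216 = 0 :=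
  cntD_join cntU_14_24 cntU_14_25 (by norm_num) (by norm_num)
theorem cntU_15_13 : cntD U.live 15 425984 = 0 :=
  cntD_join cntU_14_26 cntU_14_27 (by norm_num) (by norm_num)
theorem cntU_15_14 : cntD U.live 15 458752 = 0 :=
  cntD_join cntU_14_28 cntU_14_29 (by norm_num) (by norm_num)
theorem cntU_15_15 : cntD U.live 15 491520 = 0 :=
  cntD_join cntU_14_30 cntU_14_31 (by norm_num) (by norm_num)
theorem cntU_16_0 : cntD U.live 16 0 = 45226 :=
  cntD_join cntU_15_0 cntU_15_1 (by norm_num) (by norm_num)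
theorem cntU_16_1 : cntD U.live 16 65536 = 39715 :=
  cntD_join cntU_15_2 cntU_15_3 (by norm_num) (by norm_num)
theorem cntU_16_2 : cntD U.live 16 131072 = 65525 :=
  cntD_join cntU_15_4 cntU_15_5 (by norm_num) (by norm_num)
theorem cntU_16_3 : cntD U.live 16 196608 = 65517 :=
  cntD_join cntU_15_6 cntU_15_7 (by norm_num) (by norm_num)
theorem cntU_16_4 : cntD U.live 16 262144 = 65536 :=
  cntD_join cntU_15_8 cntU_15_9 (by norm_num) (by norm_num)
theorem cntU_16_5 : cntD U.live 16 327680 = 25417 :=
  cntD_join cntU_15_10 cntU_15_11 (by norm_num) (by norm_num)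
theorem cntU_16_6 : cntD U.live 16 393216 = 0 :=
  cntD_join cntU_15_12 cntU_15_13 (by norm_num) (by norm_num)
theorem cntU_16_7 : cntD U.live 16 458752 = 0 :=
  cntD_join cntU_15_14 cntU_15_15 (by norm_num) (by norm_num)
theorem cntU_17_0 : cntD U.live 17 0 = 84941 :=
  cntD_join cntU_16_0 cntU_16_1 (by norm_num) (by norm_num)
theorem cntU_17_1 : cntD U.live 17 131072 = 131042 :=
  cntD_join cntU_16_2 cntU_16_3 (by norm_num) (by norm_num)
theorem cntU_17_2 : cntD U.live 17 262144 = 90953 :=
  cntD_join cntU_16_4 cntU_16_5 (by norm_num) (by norm_num)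
theorem cntU_17_3 : cntD U.live 17 393216 = 0 :=
  cntD_join cntU_16_6 cntU_16_7 (by norm_num) (by norm_num)
theorem cntU_18_0 : cntD U.live 18 0 = 215983 :=
  cntD_join cntU_17_0 cntU_17_1 (by norm_num) (by norm_num)
theorem cntU_18_1 : cntD U.live 18 262144 = 90953 :=
  cntD_join cntU_17_2 cntU_17_3 (by norm_num) (by norm_num)
theorem cntU_19_0 : cntD U.live 19 0 = 306936 :=
  cntD_join cntU_18_0 cntU_18_1 (by norm_num) (by norm_num)
theorem chkP_10_0 : allD P.chkPt 10 0 = true :=
  allD_join chkP_9_0 chkP_9_1 (by norm_num)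
theorem chkP_10_1 : allD P.chkPt 10 1024 = true :=
  allD_join chkP_9_2 chkP_9_3 (by norm_num)
theorem chkP_10_2 : allD P.chkPt 10 2048 = true :=
  allD_join chkP_9_4 chkP_9_5 (by norm_num)
theorem chkP_10_3 : allD P.chkPt 10 3072 = true :=
  allD_join chkP_9_6 chkP_9_7 (by norm_num)
theorem chkP_10_4 : allD P.chkPt 10 4096 = true :=
  allD_join chkP_9_8 chkP_9_9 (by norm_num)
theorem chkP_10_5 : allD P.chkPt 10 5120 = true :=
  allD_join chkP_9_10 chkP_9_11 (by norm_num)
theorem chkP_10_6 : allD P.chkPt 10 6144 = true :=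
  allD_join chkP_9_12 chkP_9_13 (by norm_num)
theorem chkP_10_7 : allD P.chkPt 10 7168 = true :=
  allD_join chkP_9_14 chkP_9_15 (by norm_num)
theorem chkP_10_8 : allD P.chkPt 10 8192 = true :=
  allD_join chkP_9_16 chkP_9_17 (by norm_num)
theorem chkP_10_9 : allD P.chkPt 10 9216 = true :=
  allD_join chkP_9_18 chkP_9_19 (by norm_num)
theorem chkP_10_10 : allD P.chkPt 10 10240 = true :=
  allD_join chkP_9_20 chkP_9_21 (by norm_num)
theorem chkP_10_11 : allD P.chkPt 10 11264 = true :=
  allD_join chkP_9_22 chkP_9_23 (by norm_num)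
theorem chkP_10_12 : allD P.chkPt 10 12288 = true :=
  allD_join chkP_9_24 chkP_9_25 (by norm_num)
theorem chkP_10_13 : allD P.chkPt 10 13312 = true :=
  allD_join chkP_9_26 chkP_9_27 (by norm_num)
theorem chkP_10_14 : allD P.chkPt 10 14336 = true :=
  allD_join chkP_9_28 chkP_9_29 (by norm_num)
theorem chkP_10_15 : allD P.chkPt 10 15360 = true :=
  allD_join chkP_9_30 chkP_9_31 (by norm_num)
theorem chkP_10_16 : allD P.chkPt 10 16384 = true :=
  allD_join chkP_9_32 chkP_9_33 (by norm_num)
theorem chkP_10_17 : allD P.chkPt 10 17408 = true :=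
  allD_join chkP_9_34 chkP_9_35 (by norm_num)
theorem chkP_10_18 : allD P.chkPt 10 18432 = true :=
  allD_join chkP_9_36 chkP_9_37 (by norm_num)
theorem chkP_10_19 : allD P.chkPt 10 19456 = true :=
  allD_join chkP_9_38 chkP_9_39 (by norm_num)
theorem chkP_10_20 : allD P.chkPt 10 20480 = true :=
  allD_join chkP_9_40 chkP_9_41 (by norm_num)
theorem chkP_10_21 : allD P.chkPt 10 21504 = true :=
  allD_join chkP_9_42 chkP_9_43 (by norm_num)
theorem chkP_10_22 : allD P.chkPt 10 22528 = true :=
  allD_join chkP_9_44 chkP_9_45 (by norm_num)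
theorem chkP_10_23 : allD P.chkPt 10 23552 = true :=
  allD_join chkP_9_46 chkP_9_47 (by norm_num)
theorem chkP_10_24 : allD P.chkPt 10 24576 = true :=
  allD_join chkP_9_48 chkP_9_49 (by norm_num)
theorem chkP_10_25 : allD P.chkPt 10 25600 = true :=
  allD_join chkP_9_50 chkP_9_51 (by norm_num)
theorem chkP_10_26 : allD P.chkPt 10 26624 = true :=
  allD_join chkP_9_52 chkP_9_53 (by norm_num)
theorem chkP_10_27 : allD P.chkPt 10 27648 = true :=
  allD_join chkP_9_54 chkP_9_55 (by norm_num)
theorem chkP_10_28 : allD P.chkPt 10 28672 = true :=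
  allD_join chkP_9_56 chkP_9_57 (by norm_num)
theorem chkP_10_29 : allD P.chkPt 10 29696 = true :=
  allD_join chkP_9_58 chkP_9_59 (by norm_num)
theorem chkP_10_30 : allD P.chkPt 10 30720 = true :=
  allD_join chkP_9_60 chkP_9_61 (by norm_num)
theorem chkP_10_31 : allD P.chkPt 10 31744 = true :=
  allD_join chkP_9_62 chkP_9_63 (by norm_num)
theorem chkP_10_32 : allD P.chkPt 10 32768 = true :=
  allD_join chkP_9_64 chkP_9_65 (by norm_num)
theorem chkP_10_33 : allD P.chkPt 10 33792 = true :=
  allD_join chkP_9_66 chkP_9_67 (by norm_num)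
theorem chkP_10_34 : allD P.chkPt 10 34816 = true :=
  allD_join chkP_9_68 chkP_9_69 (by norm_num)
theorem chkP_10_35 : allD P.chkPt 10 35840 = true :=
  allD_join chkP_9_70 chkP_9_71 (by norm_num)
theorem chkP_10_36 : allD P.chkPt 10 36864 = true :=
  allD_join chkP_9_72 chkP_9_73 (by norm_num)
theorem chkP_10_37 : allD P.chkPt 10 37888 = true :=
  allD_join chkP_9_74 chkP_9_75 (by norm_num)
theorem chkP_10_38 : allD P.chkPt 10 38912 = true :=
  allD_join chkP_9_76 chkP_9_77 (by norm_num)
theorem chkP_10_39 : allD P.chkPt 10 39936 = true :=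
  allD_join chkP_9_78 chkP_9_79 (by norm_num)
theorem chkP_10_40 : allD P.chkPt 10 40960 = true :=
  allD_join chkP_9_80 chkP_9_81 (by norm_num)
theorem chkP_10_41 : allD P.chkPt 10 41984 = true :=
  allD_join chkP_9_82 chkP_9_83 (by norm_num)
theorem chkP_10_42 : allD P.chkPt 10 43008 = true :=
  allD_join chkP_9_84 chkP_9_85 (by norm_num)
theorem chkP_10_43 : allD P.chkPt 10 44032 = true :=
  allD_join chkP_9_86 chkP_9_87 (by norm_num)
theorem chkP_10_44 : allD P.chkPt 10 45056 = true :=
  allD_join chkP_9_88 chkP_9_89 (by norm_num)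
theorem chkP_10_45 : allD P.chkPt 10 46080 = true :=
  allD_join chkP_9_90 chkP_9_91 (by norm_num)
theorem chkP_10_46 : allD P.chkPt 10 47104 = true :=
  allD_join chkP_9_92 chkP_9_93 (by norm_num)
theorem chkP_10_47 : allD P.chkPt 10 48128 = true :=
  allD_join chkP_9_94 chkP_9_95 (by norm_num)
theorem chkP_10_48 : allD P.chkPt 10 49152 = true :=
  allD_join chkP_9_96 chkP_9_97 (by norm_num)
theorem chkP_10_49 : allD P.chkPt 10 50176 = true :=
  allD_join chkP_9_98 chkP_9_99 (by norm_num)
theorem chkP_10_50 : allD P.chkPt 10 51200 = true :=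
  allD_join chkP_9_100 chkP_9_101 (by norm_num)
theorem chkP_10_51 : allD P.chkPt 10 52224 = true :=
  allD_join chkP_9_102 chkP_9_103 (by norm_num)
theorem chkP_10_52 : allD P.chkPt 10 53248 = true :=
  allD_join chkP_9_104 chkP_9_105 (by norm_num)
theorem chkP_10_53 : allD P.chkPt 10 54272 = true :=
  allD_join chkP_9_106 chkP_9_107 (by norm_num)
theorem chkP_10_54 : allD P.chkPt 10 55296 = true :=
  allD_join chkP_9_108 chkP_9_109 (by norm_num)
theorem chkP_10_55 : allD P.chkPt 10 56320 = true :=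
  allD_join chkP_9_110 chkP_9_111 (by norm_num)
theorem chkP_10_56 : allD P.chkPt 10 57344 = true :=
  allD_join chkP_9_112 chkP_9_113 (by norm_num)
theorem chkP_10_57 : allD P.chkPt 10 58368 = true :=
  allD_join chkP_9_114 chkP_9_115 (by norm_num)
theorem chkP_10_58 : allD P.chkPt 10 59392 = true :=
  allD_join chkP_9_116 chkP_9_117 (by norm_num)
theorem chkP_10_59 : allD P.chkPt 10 60416 = true :=
  allD_join chkP_9_118 chkP_9_119 (by norm_num)
theorem chkP_10_60 : allD P.chkPt 10 61440 = true :=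
  allD_join chkP_9_120 chkP_9_121 (by norm_num)
theorem chkP_10_61 : allD P.chkPt 10 62464 = true :=
  allD_join chkP_9_122 chkP_9_123 (by norm_num)
theorem chkP_10_62 : allD P.chkPt 10 63488 = true :=
  allD_join chkP_9_124 chkP_9_125 (by norm_num)
theorem chkP_10_63 : allD P.chkPt 10 64512 = true :=
  allD_join chkP_9_126 chkP_9_127 (by norm_num)
theorem chkP_10_64 : allD P.chkPt 10 65536 = true :=
  allD_join chkP_9_128 chkP_9_129 (by norm_num)
theorem chkP_10_65 : allD P.chkPt 10 66560 = true :=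
  allD_join chkP_9_130 chkP_9_131 (by norm_num)
theorem chkP_10_66 : allD P.chkPt 10 67584 = true :=
  allD_join chkP_9_132 chkP_9_133 (by norm_num)
theorem chkP_10_67 : allD P.chkPt 10 68608 = true :=
  allD_join chkP_9_134 chkP_9_135 (by norm_num)
theorem chkP_10_68 : allD P.chkPt 10 69632 = true :=
  allD_join chkP_9_136 chkP_9_137 (by norm_num)
theorem chkP_10_69 : allD P.chkPt 10 70656 = true :=
  allD_join chkP_9_138 chkP_9_139 (by norm_num)
theorem chkP_10_70 : allD P.chkPt 10 71680 = true :=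
  allD_join chkP_9_140 chkP_9_141 (by norm_num)
theorem chkP_10_71 : allD P.chkPt 10 72704 = true :=
  allD_join chkP_9_142 chkP_9_143 (by norm_num)
theorem chkP_10_72 : allD P.chkPt 10 73728 = true :=
  allD_join chkP_9_144 chkP_9_145 (by norm_num)
theorem chkP_10_73 : allD P.chkPt 10 74752 = true :=
  allD_join chkP_9_146 chkP_9_147 (by norm_num)
theorem chkP_10_74 : allD P.chkPt 10 75776 = true :=
  allD_join chkP_9_148 chkP_9_149 (by norm_num)
theorem chkP_10_75 : allD P.chkPt 10 76800 = true :=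
  allD_join chkP_9_150 chkP_9_151 (by norm_num)
theorem chkP_10_76 : allD P.chkPt 10 77824 = true :=
  allD_join chkP_9_152 chkP_9_153 (by norm_num)
theorem chkP_10_77 : allD P.chkPt 10 78848 = true :=
  allD_join chkP_9_154 chkP_9_155 (by norm_num)
theorem chkP_10_78 : allD P.chkPt 10 79872 = true :=
  allD_join chkP_9_156 chkP_9_157 (by norm_num)
theorem chkP_10_79 : allD P.chkPt 10 80896 = true :=
  allD_join chkP_9_158 chkP_9_159 (by norm_num)
theorem chkP_10_80 : allD P.chkPt 10 81920 = true :=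
  allD_join chkP_9_160 chkP_9_161 (by norm_num)
theorem chkP_10_81 : allD P.chkPt 10 82944 = true :=
  allD_join chkP_9_162 chkP_9_163 (by norm_num)
theorem chkP_10_82 : allD P.chkPt 10 83968 = true :=
  allD_join chkP_9_164 chkP_9_165 (by norm_num)
theorem chkP_10_83 : allD P.chkPt 10 84992 = true :=
  allD_join chkP_9_166 chkP_9_167 (by norm_num)
theorem chkP_10_84 : allD P.chkPt 10 86016 = true :=
  allD_join chkP_9_168 chkP_9_169 (by norm_num)
theorem chkP_10_85 : allD P.chkPt 10 87040 = true :=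
  allD_join chkP_9_170 chkP_9_171 (by norm_num)
theorem chkP_10_86 : allD P.chkPt 10 88064 = true :=
  allD_join chkP_9_172 chkP_9_173 (by norm_num)
theorem chkP_10_87 : allD P.chkPt 10 89088 = true :=
  allD_join chkP_9_174 chkP_9_175 (by norm_num)
theorem chkP_10_88 : allD P.chkPt 10 90112 = true :=
  allD_join chkP_9_176 chkP_9_177 (by norm_num)
theorem chkP_10_89 : allD P.chkPt 10 91136 = true :=
  allD_join chkP_9_178 chkP_9_179 (by norm_num)
theorem chkP_10_90 : allD P.chkPt 10 92160 = true :=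
  allD_join chkP_9_180 chkP_9_181 (by norm_num)
theorem chkP_10_91 : allD P.chkPt 10 93184 = true :=
  allD_join chkP_9_182 chkP_9_183 (by norm_num)
theorem chkP_10_92 : allD P.chkPt 10 94208 = true :=
  allD_join chkP_9_184 chkP_9_185 (by norm_num)
theorem chkP_10_93 : allD P.chkPt 10 95232 = true :=
  allD_join chkP_9_186 chkP_9_187 (by norm_num)
theorem chkP_10_94 : allD P.chkPt 10 96256 = true :=
  allD_join chkP_9_188 chkP_9_189 (by norm_num)
theorem chkP_10_95 : allD P.chkPt 10 97280 = true :=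
  allD_join chkP_9_190 chkP_9_191 (by norm_num)
theorem chkP_10_96 : allD P.chkPt 10 98304 = true :=
  allD_join chkP_9_192 chkP_9_193 (by norm_num)
theorem chkP_10_97 : allD P.chkPt 10 99328 = true :=
  allD_join chkP_9_194 chkP_9_195 (by norm_num)
theorem chkP_10_98 : allD P.chkPt 10 100352 = true :=
  allD_join chkP_9_196 chkP_9_197 (by norm_num)
theorem chkP_10_99 : allD P.chkPt 10 101376 = true :=
  allD_join chkP_9_198 chkP_9_199 (by norm_num)
theorem chkP_10_100 : allD P.chkPt 10 102400 = true :=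
  allD_join chkP_9_200 chkP_9_201 (by norm_num)
theorem chkP_10_101 : allD P.chkPt 10 103424 = true :=
  allD_join chkP_9_202 chkP_9_203 (by norm_num)
theorem chkP_10_102 : allD P.chkPt 10 104448 = true :=
  allD_join chkP_9_204 chkP_9_205 (by norm_num)
theorem chkP_10_103 : allD P.chkPt 10 105472 = true :=
  allD_join chkP_9_206 chkP_9_207 (by norm_num)
theorem chkP_10_104 : allD P.chkPt 10 106496 = true :=
  allD_join chkP_9_208 chkP_9_209 (by norm_num)
theorem chkP_10_105 : allD P.chkPt 10 107520 = true :=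
  allD_join chkP_9_210 chkP_9_211 (by norm_num)
theorem chkP_10_106 : allD P.chkPt 10 108544 = true :=
  allD_join chkP_9_212 chkP_9_213 (by norm_num)
theorem chkP_10_107 : allD P.chkPt 10 109568 = true :=
  allD_join chkP_9_214 chkP_9_215 (by norm_num)
theorem chkP_10_108 : allD P.chkPt 10 110592 = true :=
  allD_join chkP_9_216 chkP_9_217 (by norm_num)
theorem chkP_10_109 : allD P.chkPt 10 111616 = true :=
  allD_join chkP_9_218 chkP_9_219 (by norm_num)
theorem chkP_10_110 : allD P.chkPt 10 112640 = true :=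
  allD_join chkP_9_220 chkP_9_221 (by norm_num)
theorem chkP_10_111 : allD P.chkPt 10 113664 = true :=
  allD_join chkP_9_222 chkP_9_223 (by norm_num)
theorem chkP_10_112 : allD P.chkPt 10 114688 = true :=
  allD_join chkP_9_224 chkP_9_225 (by norm_num)
theorem chkP_10_113 : allD P.chkPt 10 115712 = true :=
  allD_join chkP_9_226 chkP_9_227 (by norm_num)
theorem chkP_10_114 : allD P.chkPt 10 116736 = true :=
  allD_join chkP_9_228 chkP_9_229 (by norm_num)
theorem chkP_10_115 : allD P.chkPt 10 117760 = true :=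
  allD_join chkP_9_230 chkP_9_231 (by norm_num)
theorem chkP_10_116 : allD P.chkPt 10 118784 = true :=
  allD_join chkP_9_232 chkP_9_233 (by norm_num)
theorem chkP_10_117 : allD P.chkPt 10 119808 = true :=
  allD_join chkP_9_234 chkP_9_235 (by norm_num)
theorem chkP_10_118 : allD P.chkPt 10 120832 = true :=
  allD_join chkP_9_236 chkP_9_237 (by norm_num)
theorem chkP_10_119 : allD P.chkPt 10 121856 = true :=
  allD_join chkP_9_238 chkP_9_239 (by norm_num)
theorem chkP_10_120 : allD P.chkPt 10 122880 = true :=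
  allD_join chkP_9_240 chkP_9_241 (by norm_num)
theorem chkP_10_121 : allD P.chkPt 10 123904 = true :=
  allD_join chkP_9_242 chkP_9_243 (by norm_num)
theorem chkP_10_122 : allD P.chkPt 10 124928 = true :=
  allD_join chkP_9_244 chkP_9_245 (by norm_num)
theorem chkP_10_123 : allD P.chkPt 10 125952 = true :=
  allD_join chkP_9_246 chkP_9_247 (by norm_num)
theorem chkP_10_124 : allD P.chkPt 10 126976 = true :=
  allD_join chkP_9_248 chkP_9_249 (by norm_num)
theorem chkP_10_125 : allD P.chkPt 10 128000 = true :=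
  allD_join chkP_9_250 chkP_9_251 (by norm_num)
theorem chkP_10_126 : allD P.chkPt 10 129024 = true :=
  allD_join chkP_9_252 chkP_9_253 (by norm_num)
theorem chkP_10_127 : allD P.chkPt 10 130048 = true :=
  allD_join chkP_9_254 chkP_9_255 (by norm_num)
theorem chkP_10_128 : allD P.chkPt 10 131072 = true :=
  allD_join chkP_9_256 chkP_9_257 (by norm_num)
theorem chkP_10_129 : allD P.chkPt 10 132096 = true :=
  allD_join chkP_9_258 chkP_9_259 (by norm_num)
theorem chkP_10_130 : allD P.chkPt 10 133120 = true :=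
  allD_join chkP_9_260 chkP_9_261 (by norm_num)
theorem chkP_10_131 : allD P.chkPt 10 134144 = true :=
  allD_join chkP_9_262 chkP_9_263 (by norm_num)
theorem chkP_10_132 : allD P.chkPt 10 135168 = true :=
  allD_join chkP_9_264 chkP_9_265 (by norm_num)
theorem chkP_10_133 : allD P.chkPt 10 136192 = true :=
  allD_join chkP_9_266 chkP_9_267 (by norm_num)
theorem chkP_10_134 : allD P.chkPt 10 137216 = true :=
  allD_join chkP_9_268 chkP_9_269 (by norm_num)
theorem chkP_10_135 : allD P.chkPt 10 138240 = true :=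
  allD_join chkP_9_270 chkP_9_271 (by norm_num)
theorem chkP_10_136 : allD P.chkPt 10 139264 = true :=
  allD_join chkP_9_272 chkP_9_273 (by norm_num)
theorem chkP_10_137 : allD P.chkPt 10 140288 = true :=
  allD_join chkP_9_274 chkP_9_275 (by norm_num)
theorem chkP_10_138 : allD P.chkPt 10 141312 = true :=
  allD_join chkP_9_276 chkP_9_277 (by norm_num)
theorem chkP_10_139 : allD P.chkPt 10 142336 = true :=
  allD_join chkP_9_278 chkP_9_279 (by norm_num)
theorem chkP_10_140 : allD P.chkPt 10 143360 = true :=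
  allD_join chkP_9_280 chkP_9_281 (by norm_num)
theorem chkP_10_141 : allD P.chkPt 10 144384 = true :=
  allD_join chkP_9_282 chkP_9_283 (by norm_num)
theorem chkP_10_142 : allD P.chkPt 10 145408 = true :=
  allD_join chkP_9_284 chkP_9_285 (by norm_num)
theorem chkP_10_143 : allD P.chkPt 10 146432 = true :=
  allD_join chkP_9_286 chkP_9_287 (by norm_num)
theorem chkP_10_144 : allD P.chkPt 10 147456 = true :=
  allD_join chkP_9_288 chkP_9_289 (by norm_num)
theorem chkP_10_145 : allD P.chkPt 10 148480 = true :=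
  allD_join chkP_9_290 chkP_9_291 (by norm_num)
theorem chkP_10_146 : allD P.chkPt 10 149504 = true :=
  allD_join chkP_9_292 chkP_9_293 (by norm_num)
theorem chkP_10_147 : allD P.chkPt 10 150528 = true :=
  allD_join chkP_9_294 chkP_9_295 (by norm_num)
theorem chkP_10_148 : allD P.chkPt 10 151552 = true :=
  allD_join chkP_9_296 chkP_9_297 (by norm_num)
theorem chkP_10_149 : allD P.chkPt 10 152576 = true :=
  allD_join chkP_9_298 chkP_9_299 (by norm_num)
theorem chkP_10_150 : allD P.chkPt 10 153600 = true :=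
  allD_join chkP_9_300 chkP_9_301 (by norm_num)
theorem chkP_10_151 : allD P.chkPt 10 154624 = true :=
  allD_join chkP_9_302 chkP_9_303 (by norm_num)
theorem chkP_10_152 : allD P.chkPt 10 155648 = true :=
  allD_join chkP_9_304 chkP_9_305 (by norm_num)
theorem chkP_10_153 : allD P.chkPt 10 156672 = true :=
  allD_join chkP_9_306 chkP_9_307 (by norm_num)
theorem chkP_10_154 : allD P.chkPt 10 157696 = true :=
  allD_join chkP_9_308 chkP_9_309 (by norm_num)
theorem chkP_10_155 : allD P.chkPt 10 158720 = true :=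
  allD_join chkP_9_310 chkP_9_311 (by norm_num)
theorem chkP_10_156 : allD P.chkPt 10 159744 = true :=
  allD_join chkP_9_312 chkP_9_313 (by norm_num)
theorem chkP_10_157 : allD P.chkPt 10 160768 = true :=
  allD_join chkP_9_314 chkP_9_315 (by norm_num)
theorem chkP_10_158 : allD P.chkPt 10 161792 = true :=
  allD_join chkP_9_316 chkP_9_317 (by norm_num)
theorem chkP_10_159 : allD P.chkPt 10 162816 = true :=
  allD_join chkP_9_318 chkP_9_319 (by norm_num)
theorem chkP_10_160 : allD P.chkPt 10 163840 = true :=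
  allD_join chkP_9_320 chkP_9_321 (by norm_num)
theorem chkP_10_161 : allD P.chkPt 10 164864 = true :=
  allD_join chkP_9_322 chkP_9_323 (by norm_num)
theorem chkP_10_162 : allD P.chkPt 10 165888 = true :=
  allD_join chkP_9_324 chkP_9_325 (by norm_num)
theorem chkP_10_163 : allD P.chkPt 10 166912 = true :=
  allD_join chkP_9_326 chkP_9_327 (by norm_num)
theorem chkP_10_164 : allD P.chkPt 10 167936 = true :=
  allD_join chkP_9_328 chkP_9_329 (by norm_num)
theorem chkP_10_165 : allD P.chkPt 10 168960 = true :=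
  allD_join chkP_9_330 chkP_9_331 (by norm_num)
theorem chkP_10_166 : allD P.chkPt 10 169984 = true :=
  allD_join chkP_9_332 chkP_9_333 (by norm_num)
theorem chkP_10_167 : allD P.chkPt 10 171008 = true :=
  allD_join chkP_9_334 chkP_9_335 (by norm_num)
theorem chkP_10_168 : allD P.chkPt 10 172032 = true :=
  allD_join chkP_9_336 chkP_9_337 (by norm_num)
theorem chkP_10_169 : allD P.chkPt 10 173056 = true :=
  allD_join chkP_9_338 chkP_9_339 (by norm_num)
theorem chkP_10_170 : allD P.chkPt 10 174080 = true :=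
  allD_join chkP_9_340 chkP_9_341 (by norm_num)
theorem chkP_10_171 : allD P.chkPt 10 175104 = true :=
  allD_join chkP_9_342 chkP_9_343 (by norm_num)
theorem chkP_10_172 : allD P.chkPt 10 176128 = true :=
  allD_join chkP_9_344 chkP_9_345 (by norm_num)
theorem chkP_10_173 : allD P.chkPt 10 177152 = true :=
  allD_join chkP_9_346 chkP_9_347 (by norm_num)
theorem chkP_10_174 : allD P.chkPt 10 178176 = true :=
  allD_join chkP_9_348 chkP_9_349 (by norm_num)
theorem chkP_10_175 : allD P.chkPt 10 179200 = true :=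
  allD_join chkP_9_350 chkP_9_351 (by norm_num)
theorem chkP_10_176 : allD P.chkPt 10 180224 = true :=
  allD_join chkP_9_352 chkP_9_353 (by norm_num)
theorem chkP_10_177 : allD P.chkPt 10 181248 = true :=
  allD_join chkP_9_354 chkP_9_355 (by norm_num)
theorem chkP_10_178 : allD P.chkPt 10 182272 = true :=
  allD_join chkP_9_356 chkP_9_357 (by norm_num)
theorem chkP_10_179 : allD P.chkPt 10 183296 = true :=
  allD_join chkP_9_358 chkP_9_359 (by norm_num)
theorem chkP_10_180 : allD P.chkPt 10 184320 = true :=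
  allD_join chkP_9_360 chkP_9_361 (by norm_num)
theorem chkP_10_181 : allD P.chkPt 10 185344 = true :=
  allD_join chkP_9_362 chkP_9_363 (by norm_num)
theorem chkP_10_182 : allD P.chkPt 10 186368 = true :=
  allD_join chkP_9_364 chkP_9_365 (by norm_num)
theorem chkP_10_183 : allD P.chkPt 10 187392 = true :=
  allD_join chkP_9_366 chkP_9_367 (by norm_num)
theorem chkP_10_184 : allD P.chkPt 10 188416 = true :=
  allD_join chkP_9_368 chkP_9_369 (by norm_num)
theorem chkP_10_185 : allD P.chkPt 10 189440 = true :=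
  allD_join chkP_9_370 chkP_9_371 (by norm_num)
theorem chkP_10_186 : allD P.chkPt 10 190464 = true :=
  allD_join chkP_9_372 chkP_9_373 (by norm_num)
theorem chkP_10_187 : allD P.chkPt 10 191488 = true :=
  allD_join chkP_9_374 chkP_9_375 (by norm_num)
theorem chkP_10_188 : allD P.chkPt 10 192512 = true :=
  allD_join chkP_9_376 chkP_9_377 (by norm_num)
theorem chkP_10_189 : allD P.chkPt 10 193536 = true :=
  allD_join chkP_9_378 chkP_9_379 (by norm_num)
theorem chkP_10_190 : allD P.chkPt 10 194560 = true :=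
  allD_join chkP_9_380 chkP_9_381 (by norm_num)
theorem chkP_10_191 : allD P.chkPt 10 195584 = true :=
  allD_join chkP_9_382 chkP_9_383 (by norm_num)
theorem chkP_10_192 : allD P.chkPt 10 196608 = true :=
  allD_join chkP_9_384 chkP_9_385 (by norm_num)
theorem chkP_10_193 : allD P.chkPt 10 197632 = true :=
  allD_join chkP_9_386 chkP_9_387 (by norm_num)
theorem chkP_10_194 : allD P.chkPt 10 198656 = true :=
  allD_join chkP_9_388 chkP_9_389 (by norm_num)
theorem chkP_10_195 : allD P.chkPt 10 199680 = true :=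
  allD_join chkP_9_390 chkP_9_391 (by norm_num)
theorem chkP_10_196 : allD P.chkPt 10 200704 = true :=
  allD_join chkP_9_392 chkP_9_393 (by norm_num)
theorem chkP_10_197 : allD P.chkPt 10 201728 = true :=
  allD_join chkP_9_394 chkP_9_395 (by norm_num)
theorem chkP_10_198 : allD P.chkPt 10 202752 = true :=
  allD_join chkP_9_396 chkP_9_397 (by norm_num)
theorem chkP_10_199 : allD P.chkPt 10 203776 = true :=
  allD_join chkP_9_398 chkP_9_399 (by norm_num)
theorem chkP_10_200 : allD P.chkPt 10 204800 = true :=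
  allD_join chkP_9_400 chkP_9_401 (by norm_num)
theorem chkP_10_201 : allD P.chkPt 10 205824 = true :=
  allD_join chkP_9_402 chkP_9_403 (by norm_num)
theorem chkP_10_202 : allD P.chkPt 10 206848 = true :=
  allD_join chkP_9_404 chkP_9_405 (by norm_num)
theorem chkP_10_203 : allD P.chkPt 10 207872 = true :=
  allD_join chkP_9_406 chkP_9_407 (by norm_num)
theorem chkP_10_204 : allD P.chkPt 10 208896 = true :=
  allD_join chkP_9_408 chkP_9_409 (by norm_num)
theorem chkP_10_205 : allD P.chkPt 10 209920 = true :=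
  allD_join chkP_9_410 chkP_9_411 (by norm_num)
theorem chkP_10_206 : allD P.chkPt 10 210944 = true :=
  allD_join chkP_9_412 chkP_9_413 (by norm_num)
theorem chkP_10_207 : allD P.chkPt 10 211968 = true :=
  allD_join chkP_9_414 chkP_9_415 (by norm_num)
theorem chkP_10_208 : allD P.chkPt 10 212992 = true :=
  allD_join chkP_9_416 chkP_9_417 (by norm_num)
theorem chkP_10_209 : allD P.chkPt 10 214016 = true :=
  allD_join chkP_9_418 chkP_9_419 (by norm_num)
theorem chkP_10_210 : allD P.chkPt 10 215040 = true :=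
  allD_join chkP_9_420 chkP_9_421 (by norm_num)
theorem chkP_10_211 : allD P.chkPt 10 216064 = true :=
  allD_join chkP_9_422 chkP_9_423 (by norm_num)
theorem chkP_10_212 : allD P.chkPt 10 217088 = true :=
  allD_join chkP_9_424 chkP_9_425 (by norm_num)
theorem chkP_10_213 : allD P.chkPt 10 218112 = true :=
  allD_join chkP_9_426 chkP_9_427 (by norm_num)
theorem chkP_10_214 : allD P.chkPt 10 219136 = true :=
  allD_join chkP_9_428 chkP_9_429 (by norm_num)
theorem chkP_10_215 : allD P.chkPt 10 220160 = true :=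
  allD_join chkP_9_430 chkP_9_431 (by norm_num)
theorem chkP_10_216 : allD P.chkPt 10 221184 = true :=
  allD_join chkP_9_432 chkP_9_433 (by norm_num)
theorem chkP_10_217 : allD P.chkPt 10 222208 = true :=
  allD_join chkP_9_434 chkP_9_435 (by norm_num)
theorem chkP_10_218 : allD P.chkPt 10 223232 = true :=
  allD_join chkP_9_436 chkP_9_437 (by norm_num)
theorem chkP_10_219 : allD P.chkPt 10 224256 = true :=
  allD_join chkP_9_438 chkP_9_439 (by norm_num)
theorem chkP_10_220 : allD P.chkPt 10 225280 = true :=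
  allD_join chkP_9_440 chkP_9_441 (by norm_num)
theorem chkP_10_221 : allD P.chkPt 10 226304 = true :=
  allD_join chkP_9_442 chkP_9_443 (by norm_num)
theorem chkP_10_222 : allD P.chkPt 10 227328 = true :=
  allD_join chkP_9_444 chkP_9_445 (by norm_num)
theorem chkP_10_223 : allD P.chkPt 10 228352 = true :=
  allD_join chkP_9_446 chkP_9_447 (by norm_num)
theorem chkP_10_224 : allD P.chkPt 10 229376 = true :=
  allD_join chkP_9_448 chkP_9_449 (by norm_num)
theorem chkP_10_225 : allD P.chkPt 10 230400 = true :=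
  allD_join chkP_9_450 chkP_9_451 (by norm_num)
theorem chkP_10_226 : allD P.chkPt 10 231424 = true :=
  allD_join chkP_9_452 chkP_9_453 (by norm_num)
theorem chkP_10_227 : allD P.chkPt 10 232448 = true :=
  allD_join chkP_9_454 chkP_9_455 (by norm_num)
theorem chkP_10_228 : allD P.chkPt 10 233472 = true :=
  allD_join chkP_9_456 chkP_9_457 (by norm_num)
theorem chkP_10_229 : allD P.chkPt 10 234496 = true :=
  allD_join chkP_9_458 chkP_9_459 (by norm_num)
theorem chkP_10_230 : allD P.chkPt 10 235520 = true :=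
  allD_join chkP_9_460 chkP_9_461 (by norm_num)
theorem chkP_10_231 : allD P.chkPt 10 236544 = true :=
  allD_join chkP_9_462 chkP_9_463 (by norm_num)
theorem chkP_10_232 : allD P.chkPt 10 237568 = true :=
  allD_join chkP_9_464 chkP_9_465 (by norm_num)
theorem chkP_10_233 : allD P.chkPt 10 238592 = true :=
  allD_join chkP_9_466 chkP_9_467 (by norm_num)
theorem chkP_10_234 : allD P.chkPt 10 239616 = true :=
  allD_join chkP_9_468 chkP_9_469 (by norm_num)
theorem chkP_10_235 : allD P.chkPt 10 240640 = true :=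
  allD_join chkP_9_470 chkP_9_471 (by norm_num)
theorem chkP_10_236 : allD P.chkPt 10 241664 = true :=
  allD_join chkP_9_472 chkP_9_473 (by norm_num)
theorem chkP_10_237 : allD P.chkPt 10 242688 = true :=
  allD_join chkP_9_474 chkP_9_475 (by norm_num)
theorem chkP_10_238 : allD P.chkPt 10 243712 = true :=
  allD_join chkP_9_476 chkP_9_477 (by norm_num)
theorem chkP_10_239 : allD P.chkPt 10 244736 = true :=
  allD_join chkP_9_478 chkP_9_479 (by norm_num)
theorem chkP_10_240 : allD P.chkPt 10 245760 = true :=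
  allD_join chkP_9_480 chkP_9_481 (by norm_num)
theorem chkP_10_241 : allD P.chkPt 10 246784 = true :=
  allD_join chkP_9_482 chkP_9_483 (by norm_num)
theorem chkP_10_242 : allD P.chkPt 10 247808 = true :=
  allD_join chkP_9_484 chkP_9_485 (by norm_num)
theorem chkP_10_243 : allD P.chkPt 10 248832 = true :=
  allD_join chkP_9_486 chkP_9_487 (by norm_num)
theorem chkP_10_244 : allD P.chkPt 10 249856 = true :=
  allD_join chkP_9_488 chkP_9_489 (by norm_num)
theorem chkP_10_245 : allD P.chkPt 10 250880 = true :=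
  allD_join chkP_9_490 chkP_9_491 (by norm_num)
theorem chkP_10_246 : allD P.chkPt 10 251904 = true :=
  allD_join chkP_9_492 chkP_9_493 (by norm_num)
theorem chkP_10_247 : allD P.chkPt 10 252928 = true :=
  allD_join chkP_9_494 chkP_9_495 (by norm_num)
theorem chkP_10_248 : allD P.chkPt 10 253952 = true :=
  allD_join chkP_9_496 chkP_9_497 (by norm_num)
theorem chkP_10_249 : allD P.chkPt 10 254976 = true :=
  allD_join chkP_9_498 chkP_9_499 (by norm_num)
theorem chkP_10_250 : allD P.chkPt 10 256000 = true :=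
  allD_join chkP_9_500 chkP_9_501 (by norm_num)
theorem chkP_10_251 : allD P.chkPt 10 257024 = true :=
  allD_join chkP_9_502 chkP_9_503 (by norm_num)
theorem chkP_10_252 : allD P.chkPt 10 258048 = true :=
  allD_join chkP_9_504 chkP_9_505 (by norm_num)
theorem chkP_10_253 : allD P.chkPt 10 259072 = true :=
  allD_join chkP_9_506 chkP_9_507 (by norm_num)
theorem chkP_10_254 : allD P.chkPt 10 260096 = true :=
  allD_join chkP_9_508 chkP_9_509 (by norm_num)
theorem chkP_10_255 : allD P.chkPt 10 261120 = true :=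
  allD_join chkP_9_510 chkP_9_511 (by norm_num)
theorem chkP_10_256 : allD P.chkPt 10 262144 = true :=
  allD_join chkP_9_512 chkP_9_513 (by norm_num)
theorem chkP_10_257 : allD P.chkPt 10 263168 = true :=
  allD_join chkP_9_514 chkP_9_515 (by norm_num)
theorem chkP_10_258 : allD P.chkPt 10 264192 = true :=
  allD_join chkP_9_516 chkP_9_517 (by norm_num)
theorem chkP_10_259 : allD P.chkPt 10 265216 = true :=
  allD_join chkP_9_518 chkP_9_519 (by norm_num)
theorem chkP_10_260 : allD P.chkPt 10 266240 = true :=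
  allD_join chkP_9_520 chkP_9_521 (by norm_num)
theorem chkP_10_261 : allD P.chkPt 10 267264 = true :=
  allD_join chkP_9_522 chkP_9_523 (by norm_num)
theorem chkP_10_262 : allD P.chkPt 10 268288 = true :=
  allD_join chkP_9_524 chkP_9_525 (by norm_num)
theorem chkP_10_263 : allD P.chkPt 10 269312 = true :=
  allD_join chkP_9_526 chkP_9_527 (by norm_num)
theorem chkP_10_264 : allD P.chkPt 10 270336 = true :=
  allD_join chkP_9_528 chkP_9_529 (by norm_num)
theorem chkP_10_265 : allD P.chkPt 10 271360 = true :=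
  allD_join chkP_9_530 chkP_9_531 (by norm_num)
theorem chkP_10_266 : allD P.chkPt 10 272384 = true :=
  allD_join chkP_9_532 chkP_9_533 (by norm_num)
theorem chkP_10_267 : allD P.chkPt 10 273408 = true :=
  allD_join chkP_9_534 chkP_9_535 (by norm_num)
theorem chkP_10_268 : allD P.chkPt 10 274432 = true :=
  allD_join chkP_9_536 chkP_9_537 (by norm_num)
theorem chkP_10_269 : allD P.chkPt 10 275456 = true :=
  allD_join chkP_9_538 chkP_9_539 (by norm_num)
theorem chkP_10_270 : allD P.chkPt 10 276480 = true :=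
  allD_join chkP_9_540 chkP_9_541 (by norm_num)
theorem chkP_10_271 : allD P.chkPt 10 277504 = true :=
  allD_join chkP_9_542 chkP_9_543 (by norm_num)
theorem chkP_10_272 : allD P.chkPt 10 278528 = true :=
  allD_join chkP_9_544 chkP_9_545 (by norm_num)
theorem chkP_10_273 : allD P.chkPt 10 279552 = true :=
  allD_join chkP_9_546 chkP_9_547 (by norm_num)
theorem chkP_10_274 : allD P.chkPt 10 280576 = true :=
  allD_join chkP_9_548 chkP_9_549 (by norm_num)
theorem chkP_10_275 : allD P.chkPt 10 281600 = true :=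
  allD_join chkP_9_550 chkP_9_551 (by norm_num)
theorem chkP_10_276 : allD P.chkPt 10 282624 = true :=
  allD_join chkP_9_552 chkP_9_553 (by norm_num)
theorem chkP_10_277 : allD P.chkPt 10 283648 = true :=
  allD_join chkP_9_554 chkP_9_555 (by norm_num)
theorem chkP_10_278 : allD P.chkPt 10 284672 = true :=
  allD_join chkP_9_556 chkP_9_557 (by norm_num)
theorem chkP_10_279 : allD P.chkPt 10 285696 = true :=
  allD_join chkP_9_558 chkP_9_559 (by norm_num)
theorem chkP_10_280 : allD P.chkPt 10 286720 = true :=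
  allD_join chkP_9_560 chkP_9_561 (by norm_num)
theorem chkP_10_281 : allD P.chkPt 10 287744 = true :=
  allD_join chkP_9_562 chkP_9_563 (by norm_num)
theorem chkP_10_282 : allD P.chkPt 10 288768 = true :=
  allD_join chkP_9_564 chkP_9_565 (by norm_num)
theorem chkP_10_283 : allD P.chkPt 10 289792 = true :=
  allD_join chkP_9_566 chkP_9_567 (by norm_num)
theorem chkP_10_284 : allD P.chkPt 10 290816 = true :=
  allD_join chkP_9_568 chkP_9_569 (by norm_num)
theorem chkP_10_285 : allD P.chkPt 10 291840 = true :=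
  allD_join chkP_9_570 chkP_9_571 (by norm_num)
theorem chkP_10_286 : allD P.chkPt 10 292864 = true :=
  allD_join chkP_9_572 chkP_9_573 (by norm_num)
theorem chkP_10_287 : allD P.chkPt 10 293888 = true :=
  allD_join chkP_9_574 chkP_9_575 (by norm_num)
theorem chkP_10_288 : allD P.chkPt 10 294912 = true :=
  allD_join chkP_9_576 chkP_9_577 (by norm_num)
theorem chkP_10_289 : allD P.chkPt 10 295936 = true :=
  allD_join chkP_9_578 chkP_9_579 (by norm_num)
theorem chkP_10_290 : allD P.chkPt 10 296960 = true :=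
  allD_join chkP_9_580 chkP_9_581 (by norm_num)
theorem chkP_10_291 : allD P.chkPt 10 297984 = true :=
  allD_join chkP_9_582 chkP_9_583 (by norm_num)
theorem chkP_10_292 : allD P.chkPt 10 299008 = true :=
  allD_join chkP_9_584 chkP_9_585 (by norm_num)
theorem chkP_10_293 : allD P.chkPt 10 300032 = true :=
  allD_join chkP_9_586 chkP_9_587 (by norm_num)
theorem chkP_10_294 : allD P.chkPt 10 301056 = true :=
  allD_join chkP_9_588 chkP_9_589 (by norm_num)
theorem chkP_10_295 : allD P.chkPt 10 302080 = true :=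
  allD_join chkP_9_590 chkP_9_591 (by norm_num)
theorem chkP_10_296 : allD P.chkPt 10 303104 = true :=
  allD_join chkP_9_592 chkP_9_593 (by norm_num)
theorem chkP_10_297 : allD P.chkPt 10 304128 = true :=
  allD_join chkP_9_594 chkP_9_595 (by norm_num)
theorem chkP_10_298 : allD P.chkPt 10 305152 = true :=
  allD_join chkP_9_596 chkP_9_597 (by norm_num)
theorem chkP_10_299 : allD P.chkPt 10 306176 = true :=
  allD_join chkP_9_598 chkP_9_599 (by norm_num)
theorem chkP_10_300 : allD P.chkPt 10 307200 = true :=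
  allD_join chkP_9_600 chkP_9_601 (by norm_num)
theorem chkP_10_301 : allD P.chkPt 10 308224 = true :=
  allD_join chkP_9_602 chkP_9_603 (by norm_num)
theorem chkP_10_302 : allD P.chkPt 10 309248 = true :=
  allD_join chkP_9_604 chkP_9_605 (by norm_num)
theorem chkP_10_303 : allD P.chkPt 10 310272 = true :=
  allD_join chkP_9_606 chkP_9_607 (by norm_num)
theorem chkP_10_304 : allD P.chkPt 10 311296 = true :=
  allD_join chkP_9_608 chkP_9_609 (by norm_num)
theorem chkP_10_305 : allD P.chkPt 10 312320 = true :=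
  allD_join chkP_9_610 chkP_9_611 (by norm_num)
theorem chkP_10_306 : allD P.chkPt 10 313344 = true :=
  allD_join chkP_9_612 chkP_9_613 (by norm_num)
theorem chkP_10_307 : allD P.chkPt 10 314368 = true :=
  allD_join chkP_9_614 chkP_9_615 (by norm_num)
theorem chkP_10_308 : allD P.chkPt 10 315392 = true :=
  allD_join chkP_9_616 chkP_9_617 (by norm_num)
theorem chkP_10_309 : allD P.chkPt 10 316416 = true :=
  allD_join chkP_9_618 chkP_9_619 (by norm_num)
theorem chkP_10_310 : allD P.chkPt 10 317440 = true :=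
  allD_join chkP_9_620 chkP_9_621 (by norm_num)
theorem chkP_10_311 : allD P.chkPt 10 318464 = true :=
  allD_join chkP_9_622 chkP_9_623 (by norm_num)
theorem chkP_10_312 : allD P.chkPt 10 319488 = true :=
  allD_join chkP_9_624 chkP_9_625 (by norm_num)
theorem chkP_10_313 : allD P.chkPt 10 320512 = true :=
  allD_join chkP_9_626 chkP_9_627 (by norm_num)
theorem chkP_10_314 : allD P.chkPt 10 321536 = true :=
  allD_join chkP_9_628 chkP_9_629 (by norm_num)
theorem chkP_10_315 : allD P.chkPt 10 322560 = true :=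
  allD_join chkP_9_630 chkP_9_631 (by norm_num)
theorem chkP_10_316 : allD P.chkPt 10 323584 = true :=
  allD_join chkP_9_632 chkP_9_633 (by norm_num)
theorem chkP_10_317 : allD P.chkPt 10 324608 = true :=
  allD_join chkP_9_634 chkP_9_635 (by norm_num)
theorem chkP_10_318 : allD P.chkPt 10 325632 = true :=
  allD_join chkP_9_636 chkP_9_637 (by norm_num)
theorem chkP_10_319 : allD P.chkPt 10 326656 = true :=
  allD_join chkP_9_638 chkP_9_639 (by norm_num)
theorem chkP_10_320 : allD P.chkPt 10 327680 = true :=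
  allD_join chkP_9_640 chkP_9_641 (by norm_num)
theorem chkP_10_321 : allD P.chkPt 10 328704 = true :=
  allD_join chkP_9_642 chkP_9_643 (by norm_num)
theorem chkP_10_322 : allD P.chkPt 10 329728 = true :=
  allD_join chkP_9_644 chkP_9_645 (by norm_num)
theorem chkP_10_323 : allD P.chkPt 10 330752 = true :=
  allD_join chkP_9_646 chkP_9_647 (by norm_num)
theorem chkP_10_324 : allD P.chkPt 10 331776 = true :=
  allD_join chkP_9_648 chkP_9_649 (by norm_num)
theorem chkP_10_325 : allD P.chkPt 10 332800 = true :=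
  allD_join chkP_9_650 chkP_9_651 (by norm_num)
theorem chkP_10_326 : allD P.chkPt 10 333824 = true :=
  allD_join chkP_9_652 chkP_9_653 (by norm_num)
theorem chkP_10_327 : allD P.chkPt 10 334848 = true :=
  allD_join chkP_9_654 chkP_9_655 (by norm_num)
theorem chkP_10_328 : allD P.chkPt 10 335872 = true :=
  allD_join chkP_9_656 chkP_9_657 (by norm_num)
theorem chkP_10_329 : allD P.chkPt 10 336896 = true :=
  allD_join chkP_9_658 chkP_9_659 (by norm_num)
theorem chkP_10_330 : allD P.chkPt 10 337920 = true :=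
  allD_join chkP_9_660 chkP_9_661 (by norm_num)
theorem chkP_10_331 : allD P.chkPt 10 338944 = true :=
  allD_join chkP_9_662 chkP_9_663 (by norm_num)
theorem chkP_10_332 : allD P.chkPt 10 339968 = true :=
  allD_join chkP_9_664 chkP_9_665 (by norm_num)
theorem chkP_10_333 : allD P.chkPt 10 340992 = true :=
  allD_join chkP_9_666 chkP_9_667 (by norm_num)
theorem chkP_10_334 : allD P.chkPt 10 342016 = true :=
  allD_join chkP_9_668 chkP_9_669 (by norm_num)
theorem chkP_10_335 : allD P.chkPt 10 343040 = true :=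
  allD_join chkP_9_670 chkP_9_671 (by norm_num)
theorem chkP_10_336 : allD P.chkPt 10 344064 = true :=
  allD_join chkP_9_672 chkP_9_673 (by norm_num)
theorem chkP_10_337 : allD P.chkPt 10 345088 = true :=
  allD_join chkP_9_674 chkP_9_675 (by norm_num)
theorem chkP_10_338 : allD P.chkPt 10 346112 = true :=
  allD_join chkP_9_676 chkP_9_677 (by norm_num)
theorem chkP_10_339 : allD P.chkPt 10 347136 = true :=
  allD_join chkP_9_678 chkP_9_679 (by norm_num)
theorem chkP_10_340 : allD P.chkPt 10 348160 = true :=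
  allD_join chkP_9_680 chkP_9_681 (by norm_num)
theorem chkP_10_341 : allD P.chkPt 10 349184 = true :=
  allD_join chkP_9_682 chkP_9_683 (by norm_num)
theorem chkP_10_342 : allD P.chkPt 10 350208 = true :=
  allD_join chkP_9_684 chkP_9_685 (by norm_num)
theorem chkP_10_343 : allD P.chkPt 10 351232 = true :=
  allD_join chkP_9_686 chkP_9_687 (by norm_num)
theorem chkP_10_344 : allD P.chkPt 10 352256 = true :=
  allD_join chkP_9_688 chkP_9_689 (by norm_num)
theorem chkP_10_345 : allD P.chkPt 10 353280 = true :=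
  allD_join chkP_9_690 chkP_9_691 (by norm_num)
theorem chkP_10_346 : allD P.chkPt 10 354304 = true :=
  allD_join chkP_9_692 chkP_9_693 (by norm_num)
theorem chkP_10_347 : allD P.chkPt 10 355328 = true :=
  allD_join chkP_9_694 chkP_9_695 (by norm_num)
theorem chkP_10_348 : allD P.chkPt 10 356352 = true :=
  allD_join chkP_9_696 chkP_9_697 (by norm_num)
theorem chkP_10_349 : allD P.chkPt 10 357376 = true :=
  allD_join chkP_9_698 chkP_9_699 (by norm_num)
theorem chkP_10_350 : allD P.chkPt 10 358400 = true :=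
  allD_join chkP_9_700 chkP_9_701 (by norm_num)
theorem chkP_10_351 : allD P.chkPt 10 359424 = true :=
  allD_join chkP_9_702 chkP_9_703 (by norm_num)
theorem chkP_10_352 : allD P.chkPt 10 360448 = true :=
  allD_join chkP_9_704 chkP_9_705 (by norm_num)
theorem chkP_10_353 : allD P.chkPt 10 361472 = true :=
  allD_join chkP_9_706 chkP_9_707 (by norm_num)
theorem chkP_10_354 : allD P.chkPt 10 362496 = true :=
  allD_join chkP_9_708 chkP_9_709 (by norm_num)
theorem chkP_10_355 : allD P.chkPt 10 363520 = true :=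
  allD_join chkP_9_710 chkP_9_711 (by norm_num)
theorem chkP_10_356 : allD P.chkPt 10 364544 = true :=
  allD_join chkP_9_712 chkP_9_713 (by norm_num)
theorem chkP_10_357 : allD P.chkPt 10 365568 = true :=
  allD_join chkP_9_714 chkP_9_715 (by norm_num)
theorem chkP_10_358 : allD P.chkPt 10 366592 = true :=
  allD_join chkP_9_716 chkP_9_717 (by norm_num)
theorem chkP_10_359 : allD P.chkPt 10 367616 = true :=
  allD_join chkP_9_718 chkP_9_719 (by norm_num)
theorem chkP_10_360 : allD P.chkPt 10 368640 = true :=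
  allD_join chkP_9_720 chkP_9_721 (by norm_num)
theorem chkP_10_361 : allD P.chkPt 10 369664 = true :=
  allD_join chkP_9_722 chkP_9_723 (by norm_num)
theorem chkP_10_362 : allD P.chkPt 10 370688 = true :=
  allD_join chkP_9_724 chkP_9_725 (by norm_num)
theorem chkP_10_363 : allD P.chkPt 10 371712 = true :=
  allD_join chkP_9_726 chkP_9_727 (by norm_num)
theorem chkP_10_364 : allD P.chkPt 10 372736 = true :=
  allD_join chkP_9_728 chkP_9_729 (by norm_num)
theorem chkP_10_365 : allD P.chkPt 10 373760 = true :=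
  allD_join chkP_9_730 chkP_9_731 (by norm_num)
theorem chkP_10_366 : allD P.chkPt 10 374784 = true :=
  allD_join chkP_9_732 chkP_9_733 (by norm_num)
theorem chkP_10_367 : allD P.chkPt 10 375808 = true :=
  allD_join chkP_9_734 chkP_9_735 (by norm_num)
theorem chkP_10_368 : allD P.chkPt 10 376832 = true :=
  allD_join chkP_9_736 chkP_9_737 (by norm_num)
theorem chkP_10_369 : allD P.chkPt 10 377856 = true :=
  allD_join chkP_9_738 chkP_9_739 (by norm_num)
theorem chkP_10_370 : allD P.chkPt 10 378880 = true :=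
  allD_join chkP_9_740 chkP_9_741 (by norm_num)
theorem chkP_10_371 : allD P.chkPt 10 379904 = true :=
  allD_join chkP_9_742 chkP_9_743 (by norm_num)
theorem chkP_10_372 : allD P.chkPt 10 380928 = true :=
  allD_join chkP_9_744 chkP_9_745 (by norm_num)
theorem chkP_10_373 : allD P.chkPt 10 381952 = true :=
  allD_join chkP_9_746 chkP_9_747 (by norm_num)
theorem chkP_10_374 : allD P.chkPt 10 382976 = true :=
  allD_join chkP_9_748 chkP_9_749 (by norm_num)
theorem chkP_10_375 : allD P.chkPt 10 384000 = true :=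
  allD_join chkP_9_750 chkP_9_751 (by norm_num)
theorem chkP_10_376 : allD P.chkPt 10 385024 = true :=
  allD_join chkP_9_752 chkP_9_753 (by norm_num)
theorem chkP_10_377 : allD P.chkPt 10 386048 = true :=
  allD_join chkP_9_754 chkP_9_755 (by norm_num)
theorem chkP_10_378 : allD P.chkPt 10 387072 = true :=
  allD_join chkP_9_756 chkP_9_757 (by norm_num)
theorem chkP_10_379 : allD P.chkPt 10 388096 = true :=
  allD_join chkP_9_758 chkP_9_759 (by norm_num)
theorem chkP_10_380 : allD P.chkPt 10 389120 = true :=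
  allD_join chkP_9_760 chkP_9_761 (by norm_num)
theorem chkP_10_381 : allD P.chkPt 10 390144 = true :=
  allD_join chkP_9_762 chkP_9_763 (by norm_num)
theorem chkP_10_382 : allD P.chkPt 10 391168 = true :=
  allD_join chkP_9_764 chkP_9_765 (by norm_num)
theorem chkP_10_383 : allD P.chkPt 10 392192 = true :=
  allD_join chkP_9_766 chkP_9_767 (by norm_num)
theorem chkP_10_384 : allD P.chkPt 10 393216 = true :=
  allD_join chkP_9_768 chkP_9_769 (by norm_num)
theorem chkP_10_385 : allD P.chkPt 10 394240 = true :=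
  allD_join chkP_9_770 chkP_9_771 (by norm_num)
theorem chkP_10_386 : allD P.chkPt 10 395264 = true :=
  allD_join chkP_9_772 chkP_9_773 (by norm_num)
theorem chkP_10_387 : allD P.chkPt 10 396288 = true :=
  allD_join chkP_9_774 chkP_9_775 (by norm_num)
theorem chkP_10_388 : allD P.chkPt 10 397312 = true :=
  allD_join chkP_9_776 chkP_9_777 (by norm_num)
theorem chkP_10_389 : allD P.chkPt 10 398336 = true :=
  allD_join chkP_9_778 chkP_9_779 (by norm_num)
theorem chkP_10_390 : allD P.chkPt 10 399360 = true :=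
  allD_join chkP_9_780 chkP_9_781 (by norm_num)
theorem chkP_10_391 : allD P.chkPt 10 400384 = true :=
  allD_join chkP_9_782 chkP_9_783 (by norm_num)
theorem chkP_10_392 : allD P.chkPt 10 401408 = true :=
  allD_join chkP_9_784 chkP_9_785 (by norm_num)
theorem chkP_10_393 : allD P.chkPt 10 402432 = true :=
  allD_join chkP_9_786 chkP_9_787 (by norm_num)
theorem chkP_10_394 : allD P.chkPt 10 403456 = true :=
  allD_join chkP_9_788 chkP_9_789 (by norm_num)
theorem chkP_10_395 : allD P.chkPt 10 404480 = true :=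
  allD_join chkP_9_790 chkP_9_791 (by norm_num)
theorem chkP_10_396 : allD P.chkPt 10 405504 = true :=
  allD_join chkP_9_792 chkP_9_793 (by norm_num)
theorem chkP_10_397 : allD P.chkPt 10 406528 = true :=
  allD_join chkP_9_794 chkP_9_795 (by norm_num)
theorem chkP_10_398 : allD P.chkPt 10 407552 = true :=
  allD_join chkP_9_796 chkP_9_797 (by norm_num)
theorem chkP_10_399 : allD P.chkPt 10 408576 = true :=
  allD_join chkP_9_798 chkP_9_799 (by norm_num)
theorem chkP_10_400 : allD P.chkPt 10 409600 = true :=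
  allD_join chkP_9_800 chkP_9_801 (by norm_num)
theorem chkP_10_401 : allD P.chkPt 10 410624 = true :=
  allD_join chkP_9_802 chkP_9_803 (by norm_num)
theorem chkP_10_402 : allD P.chkPt 10 411648 = true :=
  allD_join chkP_9_804 chkP_9_805 (by norm_num)
theorem chkP_10_403 : allD P.chkPt 10 412672 = true :=
  allD_join chkP_9_806 chkP_9_807 (by norm_num)
theorem chkP_10_404 : allD P.chkPt 10 413696 = true :=
  allD_join chkP_9_808 chkP_9_809 (by norm_num)
theorem chkP_10_405 : allD P.chkPt 10 414720 = true :=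
  allD_join chkP_9_810 chkP_9_811 (by norm_num)
theorem chkP_10_406 : allD P.chkPt 10 415744 = true :=
  allD_join chkP_9_812 chkP_9_813 (by norm_num)
theorem chkP_10_407 : allD P.chkPt 10 416768 = true :=
  allD_join chkP_9_814 chkP_9_815 (by norm_num)
theorem chkP_10_408 : allD P.chkPt 10 417792 = true :=
  allD_join chkP_9_816 chkP_9_817 (by norm_num)
theorem chkP_10_409 : allD P.chkPt 10 418816 = true :=
  allD_join chkP_9_818 chkP_9_819 (by norm_num)
theorem chkP_10_410 : allD P.chkPt 10 419840 = true :=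
  allD_join chkP_9_820 chkP_9_821 (by norm_num)
theorem chkP_10_411 : allD P.chkPt 10 420864 = true :=
  allD_join chkP_9_822 chkP_9_823 (by norm_num)
theorem chkP_10_412 : allD P.chkPt 10 421888 = true :=
  allD_join chkP_9_824 chkP_9_825 (by norm_num)
theorem chkP_10_413 : allD P.chkPt 10 422912 = true :=
  allD_join chkP_9_826 chkP_9_827 (by norm_num)
theorem chkP_10_414 : allD P.chkPt 10 423936 = true :=
  allD_join chkP_9_828 chkP_9_829 (by norm_num)
theorem chkP_10_415 : allD P.chkPt 10 424960 = true :=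
  allD_join chkP_9_830 chkP_9_831 (by norm_num)
theorem chkP_10_416 : allD P.chkPt 10 425984 = true :=
  allD_join chkP_9_832 chkP_9_833 (by norm_num)
theorem chkP_10_417 : allD P.chkPt 10 427008 = true :=
  allD_join chkP_9_834 chkP_9_835 (by norm_num)
theorem chkP_10_418 : allD P.chkPt 10 428032 = true :=
  allD_join chkP_9_836 chkP_9_837 (by norm_num)
theorem chkP_10_419 : allD P.chkPt 10 429056 = true :=
  allD_join chkP_9_838 chkP_9_839 (by norm_num)
theorem chkP_10_420 : allD P.chkPt 10 430080 = true :=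
  allD_join chkP_9_840 chkP_9_841 (by norm_num)
theorem chkP_10_421 : allD P.chkPt 10 431104 = true :=
  allD_join chkP_9_842 chkP_9_843 (by norm_num)
theorem chkP_10_422 : allD P.chkPt 10 432128 = true :=
  allD_join chkP_9_844 chkP_9_845 (by norm_num)
theorem chkP_10_423 : allD P.chkPt 10 433152 = true :=
  allD_join chkP_9_846 chkP_9_847 (by norm_num)
theorem chkP_10_424 : allD P.chkPt 10 434176 = true :=
  allD_join chkP_9_848 chkP_9_849 (by norm_num)
theorem chkP_10_425 : allD P.chkPt 10 435200 = true :=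
  allD_join chkP_9_850 chkP_9_851 (by norm_num)
theorem chkP_10_426 : allD P.chkPt 10 436224 = true :=
  allD_join chkP_9_852 chkP_9_853 (by norm_num)
theorem chkP_10_427 : allD P.chkPt 10 437248 = true :=
  allD_join chkP_9_854 chkP_9_855 (by norm_num)
theorem chkP_10_428 : allD P.chkPt 10 438272 = true :=
  allD_join chkP_9_856 chkP_9_857 (by norm_num)
theorem chkP_10_429 : allD P.chkPt 10 439296 = true :=
  allD_join chkP_9_858 chkP_9_859 (by norm_num)
theorem chkP_10_430 : allD P.chkPt 10 440320 = true :=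
  allD_join chkP_9_860 chkP_9_861 (by norm_num)
theorem chkP_10_431 : allD P.chkPt 10 441344 = true :=
  allD_join chkP_9_862 chkP_9_863 (by norm_num)
theorem chkP_10_432 : allD P.chkPt 10 442368 = true :=
  allD_join chkP_9_864 chkP_9_865 (by norm_num)
theorem chkP_10_433 : allD P.chkPt 10 443392 = true :=
  allD_join chkP_9_866 chkP_9_867 (by norm_num)
theorem chkP_10_434 : allD P.chkPt 10 444416 = true :=
  allD_join chkP_9_868 chkP_9_869 (by norm_num)
theorem chkP_10_435 : allD P.chkPt 10 445440 = true :=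
  allD_join chkP_9_870 chkP_9_871 (by norm_num)
theorem chkP_10_436 : allD P.chkPt 10 446464 = true :=
  allD_join chkP_9_872 chkP_9_873 (by norm_num)
theorem chkP_10_437 : allD P.chkPt 10 447488 = true :=
  allD_join chkP_9_874 chkP_9_875 (by norm_num)
theorem chkP_10_438 : allD P.chkPt 10 448512 = true :=
  allD_join chkP_9_876 chkP_9_877 (by norm_num)
theorem chkP_10_439 : allD P.chkPt 10 449536 = true :=
  allD_join chkP_9_878 chkP_9_879 (by norm_num)
theorem chkP_10_440 : allD P.chkPt 10 450560 = true :=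
  allD_join chkP_9_880 chkP_9_881 (by norm_num)
theorem chkP_10_441 : allD P.chkPt 10 451584 = true :=
  allD_join chkP_9_882 chkP_9_883 (by norm_num)
theorem chkP_10_442 : allD P.chkPt 10 452608 = true :=
  allD_join chkP_9_884 chkP_9_885 (by norm_num)
theorem chkP_10_443 : allD P.chkPt 10 453632 = true :=
  allD_join chkP_9_886 chkP_9_887 (by norm_num)
theorem chkP_10_444 : allD P.chkPt 10 454656 = true :=
  allD_join chkP_9_888 chkP_9_889 (by norm_num)
theorem chkP_10_445 : allD P.chkPt 10 455680 = true :=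
  allD_join chkP_9_890 chkP_9_891 (by norm_num)
theorem chkP_10_446 : allD P.chkPt 10 456704 = true :=
  allD_join chkP_9_892 chkP_9_893 (by norm_num)
theorem chkP_10_447 : allD P.chkPt 10 457728 = true :=
  allD_join chkP_9_894 chkP_9_895 (by norm_num)
theorem chkP_10_448 : allD P.chkPt 10 458752 = true :=
  allD_join chkP_9_896 chkP_9_897 (by norm_num)
theorem chkP_10_449 : allD P.chkPt 10 459776 = true :=
  allD_join chkP_9_898 chkP_9_899 (by norm_num)
theorem chkP_10_450 : allD P.chkPt 10 460800 = true :=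
  allD_join chkP_9_900 chkP_9_901 (by norm_num)
theorem chkP_10_451 : allD P.chkPt 10 461824 = true :=
  allD_join chkP_9_902 chkP_9_903 (by norm_num)
theorem chkP_10_452 : allD P.chkPt 10 462848 = true :=
  allD_join chkP_9_904 chkP_9_905 (by norm_num)
theorem chkP_10_453 : allD P.chkPt 10 463872 = true :=
  allD_join chkP_9_906 chkP_9_907 (by norm_num)
theorem chkP_10_454 : allD P.chkPt 10 464896 = true :=
  allD_join chkP_9_908 chkP_9_909 (by norm_num)
theorem chkP_10_455 : allD P.chkPt 10 465920 = true :=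
  allD_join chkP_9_910 chkP_9_911 (by norm_num)
theorem chkP_10_456 : allD P.chkPt 10 466944 = true :=
  allD_join chkP_9_912 chkP_9_913 (by norm_num)
theorem chkP_10_457 : allD P.chkPt 10 467968 = true :=
  allD_join chkP_9_914 chkP_9_915 (by norm_num)
theorem chkP_10_458 : allD P.chkPt 10 468992 = true :=
  allD_join chkP_9_916 chkP_9_917 (by norm_num)
theorem chkP_10_459 : allD P.chkPt 10 470016 = true :=
  allD_join chkP_9_918 chkP_9_919 (by norm_num)
theorem chkP_10_460 : allD P.chkPt 10 471040 = true :=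
  allD_join chkP_9_920 chkP_9_921 (by norm_num)
theorem chkP_10_461 : allD P.chkPt 10 472064 = true :=
  allD_join chkP_9_922 chkP_9_923 (by norm_num)
theorem chkP_10_462 : allD P.chkPt 10 473088 = true :=
  allD_join chkP_9_924 chkP_9_925 (by norm_num)
theorem chkP_10_463 : allD P.chkPt 10 474112 = true :=
  allD_join chkP_9_926 chkP_9_927 (by norm_num)
theorem chkP_10_464 : allD P.chkPt 10 475136 = true :=
  allD_join chkP_9_928 chkP_9_929 (by norm_num)
theorem chkP_10_465 : allD P.chkPt 10 476160 = true :=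
  allD_join chkP_9_930 chkP_9_931 (by norm_num)
theorem chkP_10_466 : allD P.chkPt 10 477184 = true :=
  allD_join chkP_9_932 chkP_9_933 (by norm_num)
theorem chkP_10_467 : allD P.chkPt 10 478208 = true :=
  allD_join chkP_9_934 chkP_9_935 (by norm_num)
theorem chkP_10_468 : allD P.chkPt 10 479232 = true :=
  allD_join chkP_9_936 chkP_9_937 (by norm_num)
theorem chkP_10_469 : allD P.chkPt 10 480256 = true :=
  allD_join chkP_9_938 chkP_9_939 (by norm_num)
theorem chkP_10_470 : allD P.chkPt 10 481280 = true :=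
  allD_join chkP_9_940 chkP_9_941 (by norm_num)
theorem chkP_10_471 : allD P.chkPt 10 482304 = true :=
  allD_join chkP_9_942 chkP_9_943 (by norm_num)
theorem chkP_10_472 : allD P.chkPt 10 483328 = true :=
  allD_join chkP_9_944 chkP_9_945 (by norm_num)
theorem chkP_10_473 : allD P.chkPt 10 484352 = true :=
  allD_join chkP_9_946 chkP_9_947 (by norm_num)
theorem chkP_10_474 : allD P.chkPt 10 485376 = true :=
  allD_join chkP_9_948 chkP_9_949 (by norm_num)
theorem chkP_10_475 : allD P.chkPt 10 486400 = true :=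
  allD_join chkP_9_950 chkP_9_951 (by norm_num)
theorem chkP_10_476 : allD P.chkPt 10 487424 = true :=
  allD_join chkP_9_952 chkP_9_953 (by norm_num)
theorem chkP_10_477 : allD P.chkPt 10 488448 = true :=
  allD_join chkP_9_954 chkP_9_955 (by norm_num)
theorem chkP_10_478 : allD P.chkPt 10 489472 = true :=
  allD_join chkP_9_956 chkP_9_957 (by norm_num)
theorem chkP_10_479 : allD P.chkPt 10 490496 = true :=
  allD_join chkP_9_958 chkP_9_959 (by norm_num)
theorem chkP_10_480 : allD P.chkPt 10 491520 = true :=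
  allD_join chkP_9_960 chkP_9_961 (by norm_num)
theorem chkP_10_481 : allD P.chkPt 10 492544 = true :=
  allD_join chkP_9_962 chkP_9_963 (by norm_num)
theorem chkP_10_482 : allD P.chkPt 10 493568 = true :=
  allD_join chkP_9_964 chkP_9_965 (by norm_num)
theorem chkP_10_483 : allD P.chkPt 10 494592 = true :=
  allD_join chkP_9_966 chkP_9_967 (by norm_num)
theorem chkP_10_484 : allD P.chkPt 10 495616 = true :=
  allD_join chkP_9_968 chkP_9_969 (by norm_num)
theorem chkP_10_485 : allD P.chkPt 10 496640 = true :=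
  allD_join chkP_9_970 chkP_9_971 (by norm_num)
theorem chkP_10_486 : allD P.chkPt 10 497664 = true :=
  allD_join chkP_9_972 chkP_9_973 (by norm_num)
theorem chkP_10_487 : allD P.chkPt 10 498688 = true :=
  allD_join chkP_9_974 chkP_9_975 (by norm_num)
theorem chkP_10_488 : allD P.chkPt 10 499712 = true :=
  allD_join chkP_9_976 chkP_9_977 (by norm_num)
theorem chkP_10_489 : allD P.chkPt 10 500736 = true :=
  allD_join chkP_9_978 chkP_9_979 (by norm_num)
theorem chkP_10_490 : allD P.chkPt 10 501760 = true :=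
  allD_join chkP_9_980 chkP_9_981 (by norm_num)
theorem chkP_10_491 : allD P.chkPt 10 502784 = true :=
  allD_join chkP_9_982 chkP_9_983 (by norm_num)
theorem chkP_10_492 : allD P.chkPt 10 503808 = true :=
  allD_join chkP_9_984 chkP_9_985 (by norm_num)
theorem chkP_10_493 : allD P.chkPt 10 504832 = true :=
  allD_join chkP_9_986 chkP_9_987 (by norm_num)
theorem chkP_10_494 : allD P.chkPt 10 505856 = true :=
  allD_join chkP_9_988 chkP_9_989 (by norm_num)
theorem chkP_10_495 : allD P.chkPt 10 506880 = true :=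
  allD_join chkP_9_990 chkP_9_991 (by norm_num)
theorem chkP_10_496 : allD P.chkPt 10 507904 = true :=
  allD_join chkP_9_992 chkP_9_993 (by norm_num)
theorem chkP_10_497 : allD P.chkPt 10 508928 = true :=
  allD_join chkP_9_994 chkP_9_995 (by norm_num)
theorem chkP_10_498 : allD P.chkPt 10 509952 = true :=
  allD_join chkP_9_996 chkP_9_997 (by norm_num)
theorem chkP_10_499 : allD P.chkPt 10 510976 = true :=
  allD_join chkP_9_998 chkP_9_999 (by norm_num)
theorem chkP_10_500 : allD P.chkPt 10 512000 = true :=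
  allD_join chkP_9_1000 chkP_9_1001 (by norm_num)
theorem chkP_10_501 : allD P.chkPt 10 513024 = true :=
  allD_join chkP_9_1002 chkP_9_1003 (by norm_num)
theorem chkP_10_502 : allD P.chkPt 10 514048 = true :=
  allD_join chkP_9_1004 chkP_9_1005 (by norm_num)
theorem chkP_10_503 : allD P.chkPt 10 515072 = true :=
  allD_join chkP_9_1006 chkP_9_1007 (by norm_num)
theorem chkP_10_504 : allD P.chkPt 10 516096 = true :=
  allD_join chkP_9_1008 chkP_9_1009 (by norm_num)
theorem chkP_10_505 : allD P.chkPt 10 517120 = true :=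
  allD_join chkP_9_1010 chkP_9_1011 (by norm_num)
theorem chkP_10_506 : allD P.chkPt 10 518144 = true :=
  allD_join chkP_9_1012 chkP_9_1013 (by norm_num)
theorem chkP_10_507 : allD P.chkPt 10 519168 = true :=
  allD_join chkP_9_1014 chkP_9_1015 (by norm_num)
theorem chkP_10_508 : allD P.chkPt 10 520192 = true :=
  allD_join chkP_9_1016 chkP_9_1017 (by norm_num)
theorem chkP_10_509 : allD P.chkPt 10 521216 = true :=
  allD_join chkP_9_1018 chkP_9_1019 (by norm_num)
theorem chkP_10_510 : allD P.chkPt 10 522240 = true :=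
  allD_join chkP_9_1020 chkP_9_1021 (by norm_num)
theorem chkP_10_511 : allD P.chkPt 10 523264 = true :=
  allD_join chkP_9_1022 chkP_9_1023 (by norm_num)
theorem chkP_11_0 : allD P.chkPt 11 0 = true :=
  allD_join chkP_10_0 chkP_10_1 (by norm_num)
theorem chkP_11_1 : allD P.chkPt 11 2048 = true :=
  allD_join chkP_10_2 chkP_10_3 (by norm_num)
theorem chkP_11_2 : allD P.chkPt 11 4096 = true :=
  allD_join chkP_10_4 chkP_10_5 (by norm_num)
theorem chkP_11_3 : allD P.chkPt 11 6144 = true :=
  allD_join chkP_10_6 chkP_10_7 (by norm_num)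
theorem chkP_11_4 : allD P.chkPt 11 8192 = true :=
  allD_join chkP_10_8 chkP_10_9 (by norm_num)
theorem chkP_11_5 : allD P.chkPt 11 10240 = true :=
  allD_join chkP_10_10 chkP_10_11 (by norm_num)
theorem chkP_11_6 : allD P.chkPt 11 12288 = true :=
  allD_join chkP_10_12 chkP_10_13 (by norm_num)
theorem chkP_11_7 : allD P.chkPt 11 14336 = true :=
  allD_join chkP_10_14 chkP_10_15 (by norm_num)
theorem chkP_11_8 : allD P.chkPt 11 16384 = true :=
  allD_join chkP_10_16 chkP_10_17 (by norm_num)
theorem chkP_11_9 : allD P.chkPt 11 18432 = true :=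
  allD_join chkP_10_18 chkP_10_19 (by norm_num)
theorem chkP_11_10 : allD P.chkPt 11 20480 = true :=
  allD_join chkP_10_20 chkP_10_21 (by norm_num)
theorem chkP_11_11 : allD P.chkPt 11 22528 = true :=
  allD_join chkP_10_22 chkP_10_23 (by norm_num)
theorem chkP_11_12 : allD P.chkPt 11 24576 = true :=
  allD_join chkP_10_24 chkP_10_25 (by norm_num)
theorem chkP_11_13 : allD P.chkPt 11 26624 = true :=
  allD_join chkP_10_26 chkP_10_27 (by norm_num)
theorem chkP_11_14 : allD P.chkPt 11 28672 = true :=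
  allD_join chkP_10_28 chkP_10_29 (by norm_num)
theorem chkP_11_15 : allD P.chkPt 11 30720 = true :=
  allD_join chkP_10_30 chkP_10_31 (by norm_num)
theorem chkP_11_16 : allD P.chkPt 11 32768 = true :=
  allD_join chkP_10_32 chkP_10_33 (by norm_num)
theorem chkP_11_17 : allD P.chkPt 11 34816 = true :=
  allD_join chkP_10_34 chkP_10_35 (by norm_num)
theorem chkP_11_18 : allD P.chkPt 11 36864 = true :=
  allD_join chkP_10_36 chkP_10_37 (by norm_num)
theorem chkP_11_19 : allD P.chkPt 11 38912 = true :=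
  allD_join chkP_10_38 chkP_10_39 (by norm_num)
theorem chkP_11_20 : allD P.chkPt 11 40960 = true :=
  allD_join chkP_10_40 chkP_10_41 (by norm_num)
theorem chkP_11_21 : allD P.chkPt 11 43008 = true :=
  allD_join chkP_10_42 chkP_10_43 (by norm_num)
theorem chkP_11_22 : allD P.chkPt 11 45056 = true :=
  allD_join chkP_10_44 chkP_10_45 (by norm_num)
theorem chkP_11_23 : allD P.chkPt 11 47104 = true :=
  allD_join chkP_10_46 chkP_10_47 (by norm_num)
theorem chkP_11_24 : allD P.chkPt 11 49152 = true :=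
  allD_join chkP_10_48 chkP_10_49 (by norm_num)
theorem chkP_11_25 : allD P.chkPt 11 51200 = true :=
  allD_join chkP_10_50 chkP_10_51 (by norm_num)
theorem chkP_11_26 : allD P.chkPt 11 53248 = true :=
  allD_join chkP_10_52 chkP_10_53 (by norm_num)
theorem chkP_11_27 : allD P.chkPt 11 55296 = true :=
  allD_join chkP_10_54 chkP_10_55 (by norm_num)
theorem chkP_11_28 : allD P.chkPt 11 57344 = true :=
  allD_join chkP_10_56 chkP_10_57 (by norm_num)
theorem chkP_11_29 : allD P.chkPt 11 59392 = true :=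
  allD_join chkP_10_58 chkP_10_59 (by norm_num)
theorem chkP_11_30 : allD P.chkPt 11 61440 = true :=
  allD_join chkP_10_60 chkP_10_61 (by norm_num)
theorem chkP_11_31 : allD P.chkPt 11 63488 = true :=
  allD_join chkP_10_62 chkP_10_63 (by norm_num)
theorem chkP_11_32 : allD P.chkPt 11 65536 = true :=
  allD_join chkP_10_64 chkP_10_65 (by norm_num)
theorem chkP_11_33 : allD P.chkPt 11 67584 = true :=
  allD_join chkP_10_66 chkP_10_67 (by norm_num)
theorem chkP_11_34 : allD P.chkPt 11 69632 = true :=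
  allD_join chkP_10_68 chkP_10_69 (by norm_num)
theorem chkP_11_35 : allD P.chkPt 11 71680 = true :=
  allD_join chkP_10_70 chkP_10_71 (by norm_num)
theorem chkP_11_36 : allD P.chkPt 11 73728 = true :=
  allD_join chkP_10_72 chkP_10_73 (by norm_num)
theorem chkP_11_37 : allD P.chkPt 11 75776 = true :=
  allD_join chkP_10_74 chkP_10_75 (by norm_num)
theorem chkP_11_38 : allD P.chkPt 11 77824 = true :=
  allD_join chkP_10_76 chkP_10_77 (by norm_num)
theorem chkP_11_39 : allD P.chkPt 11 79872 = true :=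
  allD_join chkP_10_78 chkP_10_79 (by norm_num)
theorem chkP_11_40 : allD P.chkPt 11 81920 = true :=
  allD_join chkP_10_80 chkP_10_81 (by norm_num)
theorem chkP_11_41 : allD P.chkPt 11 83968 = true :=
  allD_join chkP_10_82 chkP_10_83 (by norm_num)
theorem chkP_11_42 : allD P.chkPt 11 86016 = true :=
  allD_join chkP_10_84 chkP_10_85 (by norm_num)
theorem chkP_11_43 : allD P.chkPt 11 88064 = true :=
  allD_join chkP_10_86 chkP_10_87 (by norm_num)
theorem chkP_11_44 : allD P.chkPt 11 90112 = true :=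
  allD_join chkP_10_88 chkP_10_89 (by norm_num)
theorem chkP_11_45 : allD P.chkPt 11 92160 = true :=
  allD_join chkP_10_90 chkP_10_91 (by norm_num)
theorem chkP_11_46 : allD P.chkPt 11 94208 = true :=
  allD_join chkP_10_92 chkP_10_93 (by norm_num)
theorem chkP_11_47 : allD P.chkPt 11 96256 = true :=
  allD_join chkP_10_94 chkP_10_95 (by norm_num)
theorem chkP_11_48 : allD P.chkPt 11 98304 = true :=
  allD_join chkP_10_96 chkP_10_97 (by norm_num)
theorem chkP_11_49 : allD P.chkPt 11 100352 = true :=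
  allD_join chkP_10_98 chkP_10_99 (by norm_num)
theorem chkP_11_50 : allD P.chkPt 11 102400 = true :=
  allD_join chkP_10_100 chkP_10_101 (by norm_num)
theorem chkP_11_51 : allD P.chkPt 11 104448 = true :=
  allD_join chkP_10_102 chkP_10_103 (by norm_num)
theorem chkP_11_52 : allD P.chkPt 11 106496 = true :=
  allD_join chkP_10_104 chkP_10_105 (by norm_num)
theorem chkP_11_53 : allD P.chkPt 11 108544 = true :=
  allD_join chkP_10_106 chkP_10_107 (by norm_num)
theorem chkP_11_54 : allD P.chkPt 11 110592 = true :=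
  allD_join chkP_10_108 chkP_10_109 (by norm_num)
theorem chkP_11_55 : allD P.chkPt 11 112640 = true :=
  allD_join chkP_10_110 chkP_10_111 (by norm_num)
theorem chkP_11_56 : allD P.chkPt 11 114688 = true :=
  allD_join chkP_10_112 chkP_10_113 (by norm_num)
theorem chkP_11_57 : allD P.chkPt 11 116736 = true :=
  allD_join chkP_10_114 chkP_10_115 (by norm_num)
theorem chkP_11_58 : allD P.chkPt 11 118784 = true :=
  allD_join chkP_10_116 chkP_10_117 (by norm_num)
theorem chkP_11_59 : allD P.chkPt 11 120832 = true :=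
  allD_join chkP_10_118 chkP_10_119 (by norm_num)
theorem chkP_11_60 : allD P.chkPt 11 122880 = true :=
  allD_join chkP_10_120 chkP_10_121 (by norm_num)
theorem chkP_11_61 : allD P.chkPt 11 124928 = true :=
  allD_join chkP_10_122 chkP_10_123 (by norm_num)
theorem chkP_11_62 : allD P.chkPt 11 126976 = true :=
  allD_join chkP_10_124 chkP_10_125 (by norm_num)
theorem chkP_11_63 : allD P.chkPt 11 129024 = true :=
  allD_join chkP_10_126 chkP_10_127 (by norm_num)
theorem chkP_11_64 : allD P.chkPt 11 131072 = true :=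
  allD_join chkP_10_128 chkP_10_129 (by norm_num)
theorem chkP_11_65 : allD P.chkPt 11 133120 = true :=
  allD_join chkP_10_130 chkP_10_131 (by norm_num)
theorem chkP_11_66 : allD P.chkPt 11 135168 = true :=
  allD_join chkP_10_132 chkP_10_133 (by norm_num)
theorem chkP_11_67 : allD P.chkPt 11 137216 = true :=
  allD_join chkP_10_134 chkP_10_135 (by norm_num)
theorem chkP_11_68 : allD P.chkPt 11 139264 = true :=
  allD_join chkP_10_136 chkP_10_137 (by norm_num)
theorem chkP_11_69 : allD P.chkPt 11 141312 = true :=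
  allD_join chkP_10_138 chkP_10_139 (by norm_num)
theorem chkP_11_70 : allD P.chkPt 11 143360 = true :=
  allD_join chkP_10_140 chkP_10_141 (by norm_num)
theorem chkP_11_71 : allD P.chkPt 11 145408 = true :=
  allD_join chkP_10_142 chkP_10_143 (by norm_num)
theorem chkP_11_72 : allD P.chkPt 11 147456 = true :=
  allD_join chkP_10_144 chkP_10_145 (by norm_num)
theorem chkP_11_73 : allD P.chkPt 11 149504 = true :=
  allD_join chkP_10_146 chkP_10_147 (by norm_num)
theorem chkP_11_74 : allD P.chkPt 11 151552 = true :=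
  allD_join chkP_10_148 chkP_10_149 (by norm_num)
theorem chkP_11_75 : allD P.chkPt 11 153600 = true :=
  allD_join chkP_10_150 chkP_10_151 (by norm_num)
theorem chkP_11_76 : allD P.chkPt 11 155648 = true :=
  allD_join chkP_10_152 chkP_10_153 (by norm_num)
theorem chkP_11_77 : allD P.chkPt 11 157696 = true :=
  allD_join chkP_10_154 chkP_10_155 (by norm_num)
theorem chkP_11_78 : allD P.chkPt 11 159744 = true :=
  allD_join chkP_10_156 chkP_10_157 (by norm_num)
theorem chkP_11_79 : allD P.chkPt 11 161792 = true :=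
  allD_join chkP_10_158 chkP_10_159 (by norm_num)
theorem chkP_11_80 : allD P.chkPt 11 163840 = true :=
  allD_join chkP_10_160 chkP_10_161 (by norm_num)
theorem chkP_11_81 : allD P.chkPt 11 165888 = true :=
  allD_join chkP_10_162 chkP_10_163 (by norm_num)
theorem chkP_11_82 : allD P.chkPt 11 167936 = true :=
  allD_join chkP_10_164 chkP_10_165 (by norm_num)
theorem chkP_11_83 : allD P.chkPt 11 169984 = true :=
  allD_join chkP_10_166 chkP_10_167 (by norm_num)
theorem chkP_11_84 : allD P.chkPt 11 172032 = true :=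
  allD_join chkP_10_168 chkP_10_169 (by norm_num)
theorem chkP_11_85 : allD P.chkPt 11 174080 = true :=
  allD_join chkP_10_170 chkP_10_171 (by norm_num)
theorem chkP_11_86 : allD P.chkPt 11 176128 = true :=
  allD_join chkP_10_172 chkP_10_173 (by norm_num)
theorem chkP_11_87 : allD P.chkPt 11 178176 = true :=
  allD_join chkP_10_174 chkP_10_175 (by norm_num)
theorem chkP_11_88 : allD P.chkPt 11 180224 = true :=
  allD_join chkP_10_176 chkP_10_177 (by norm_num)
theorem chkP_11_89 : allD P.chkPt 11 182272 = true :=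
  allD_join chkP_10_178 chkP_10_179 (by norm_num)
theorem chkP_11_90 : allD P.chkPt 11 184320 = true :=
  allD_join chkP_10_180 chkP_10_181 (by norm_num)
theorem chkP_11_91 : allD P.chkPt 11 186368 = true :=
  allD_join chkP_10_182 chkP_10_183 (by norm_num)
theorem chkP_11_92 : allD P.chkPt 11 188416 = true :=
  allD_join chkP_10_184 chkP_10_185 (by norm_num)
theorem chkP_11_93 : allD P.chkPt 11 190464 = true :=
  allD_join chkP_10_186 chkP_10_187 (by norm_num)
theorem chkP_11_94 : allD P.chkPt 11 192512 = true :=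
  allD_join chkP_10_188 chkP_10_189 (by norm_num)
theorem chkP_11_95 : allD P.chkPt 11 194560 = true :=
  allD_join chkP_10_190 chkP_10_191 (by norm_num)
theorem chkP_11_96 : allD P.chkPt 11 196608 = true :=
  allD_join chkP_10_192 chkP_10_193 (by norm_num)
theorem chkP_11_97 : allD P.chkPt 11 198656 = true :=
  allD_join chkP_10_194 chkP_10_195 (by norm_num)
theorem chkP_11_98 : allD P.chkPt 11 200704 = true :=
  allD_join chkP_10_196 chkP_10_197 (by norm_num)
theorem chkP_11_99 : allD P.chkPt 11 202752 = true :=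
  allD_join chkP_10_198 chkP_10_199 (by norm_num)
theorem chkP_11_100 : allD P.chkPt 11 204800 = true :=
  allD_join chkP_10_200 chkP_10_201 (by norm_num)
theorem chkP_11_101 : allD P.chkPt 11 206848 = true :=
  allD_join chkP_10_202 chkP_10_203 (by norm_num)
theorem chkP_11_102 : allD P.chkPt 11 208896 = true :=
  allD_join chkP_10_204 chkP_10_205 (by norm_num)
theorem chkP_11_103 : allD P.chkPt 11 210944 = true :=
  allD_join chkP_10_206 chkP_10_207 (by norm_num)
theorem chkP_11_104 : allD P.chkPt 11 212992 = true :=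
  allD_join chkP_10_208 chkP_10_209 (by norm_num)
theorem chkP_11_105 : allD P.chkPt 11 215040 = true :=
  allD_join chkP_10_210 chkP_10_211 (by norm_num)
theorem chkP_11_106 : allD P.chkPt 11 217088 = true :=
  allD_join chkP_10_212 chkP_10_213 (by norm_num)
theorem chkP_11_107 : allD P.chkPt 11 219136 = true :=
  allD_join chkP_10_214 chkP_10_215 (by norm_num)
theorem chkP_11_108 : allD P.chkPt 11 221184 = true :=
  allD_join chkP_10_216 chkP_10_217 (by norm_num)
theorem chkP_11_109 : allD P.chkPt 11 223232 = true :=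
  allD_join chkP_10_218 chkP_10_219 (by norm_num)
theorem chkP_11_110 : allD P.chkPt 11 225280 = true :=
  allD_join chkP_10_220 chkP_10_221 (by norm_num)
theorem chkP_11_111 : allD P.chkPt 11 227328 = true :=
  allD_join chkP_10_222 chkP_10_223 (by norm_num)
theorem chkP_11_112 : allD P.chkPt 11 229376 = true :=
  allD_join chkP_10_224 chkP_10_225 (by norm_num)
theorem chkP_11_113 : allD P.chkPt 11 231424 = true :=
  allD_join chkP_10_226 chkP_10_227 (by norm_num)
theorem chkP_11_114 : allD P.chkPt 11 233472 = true :=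
  allD_join chkP_10_228 chkP_10_229 (by norm_num)
theorem chkP_11_115 : allD P.chkPt 11 235520 = true :=
  allD_join chkP_10_230 chkP_10_231 (by norm_num)
theorem chkP_11_116 : allD P.chkPt 11 237568 = true :=
  allD_join chkP_10_232 chkP_10_233 (by norm_num)
theorem chkP_11_117 : allD P.chkPt 11 239616 = true :=
  allD_join chkP_10_234 chkP_10_235 (by norm_num)
theorem chkP_11_118 : allD P.chkPt 11 241664 = true :=
  allD_join chkP_10_236 chkP_10_237 (by norm_num)
theorem chkP_11_119 : allD P.chkPt 11 243712 = true :=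
  allD_join chkP_10_238 chkP_10_239 (by norm_num)
theorem chkP_11_120 : allD P.chkPt 11 245760 = true :=
  allD_join chkP_10_240 chkP_10_241 (by norm_num)
theorem chkP_11_121 : allD P.chkPt 11 247808 = true :=
  allD_join chkP_10_242 chkP_10_243 (by norm_num)
theorem chkP_11_122 : allD P.chkPt 11 249856 = true :=
  allD_join chkP_10_244 chkP_10_245 (by norm_num)
theorem chkP_11_123 : allD P.chkPt 11 251904 = true :=
  allD_join chkP_10_246 chkP_10_247 (by norm_num)
theorem chkP_11_124 : allD P.chkPt 11 253952 = true :=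
  allD_join chkP_10_248 chkP_10_249 (by norm_num)
theorem chkP_11_125 : allD P.chkPt 11 256000 = true :=
  allD_join chkP_10_250 chkP_10_251 (by norm_num)
theorem chkP_11_126 : allD P.chkPt 11 258048 = true :=
  allD_join chkP_10_252 chkP_10_253 (by norm_num)
theorem chkP_11_127 : allD P.chkPt 11 260096 = true :=
  allD_join chkP_10_254 chkP_10_255 (by norm_num)
theorem chkP_11_128 : allD P.chkPt 11 262144 = true :=
  allD_join chkP_10_256 chkP_10_257 (by norm_num)
theorem chkP_11_129 : allD P.chkPt 11 264192 = true :=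
  allD_join chkP_10_258 chkP_10_259 (by norm_num)
theorem chkP_11_130 : allD P.chkPt 11 266240 = true :=
  allD_join chkP_10_260 chkP_10_261 (by norm_num)
theorem chkP_11_131 : allD P.chkPt 11 268288 = true :=
  allD_join chkP_10_262 chkP_10_263 (by norm_num)
theorem chkP_11_132 : allD P.chkPt 11 270336 = true :=
  allD_join chkP_10_264 chkP_10_265 (by norm_num)
theorem chkP_11_133 : allD P.chkPt 11 272384 = true :=
  allD_join chkP_10_266 chkP_10_267 (by norm_num)
theorem chkP_11_134 : allD P.chkPt 11 274432 = true :=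
  allD_join chkP_10_268 chkP_10_269 (by norm_num)
theorem chkP_11_135 : allD P.chkPt 11 276480 = true :=
  allD_join chkP_10_270 chkP_10_271 (by norm_num)
theorem chkP_11_136 : allD P.chkPt 11 278528 = true :=
  allD_join chkP_10_272 chkP_10_273 (by norm_num)
theorem chkP_11_137 : allD P.chkPt 11 280576 = true :=
  allD_join chkP_10_274 chkP_10_275 (by norm_num)
theorem chkP_11_138 : allD P.chkPt 11 282624 = true :=
  allD_join chkP_10_276 chkP_10_277 (by norm_num)
theorem chkP_11_139 : allD P.chkPt 11 284672 = true :=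
  allD_join chkP_10_278 chkP_10_279 (by norm_num)
theorem chkP_11_140 : allD P.chkPt 11 286720 = true :=
  allD_join chkP_10_280 chkP_10_281 (by norm_num)
theorem chkP_11_141 : allD P.chkPt 11 288768 = true :=
  allD_join chkP_10_282 chkP_10_283 (by norm_num)
theorem chkP_11_142 : allD P.chkPt 11 290816 = true :=
  allD_join chkP_10_284 chkP_10_285 (by norm_num)
theorem chkP_11_143 : allD P.chkPt 11 292864 = true :=
  allD_join chkP_10_286 chkP_10_287 (by norm_num)
theorem chkP_11_144 : allD P.chkPt 11 294912 = true :=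
  allD_join chkP_10_288 chkP_10_289 (by norm_num)
theorem chkP_11_145 : allD P.chkPt 11 296960 = true :=
  allD_join chkP_10_290 chkP_10_291 (by norm_num)
theorem chkP_11_146 : allD P.chkPt 11 299008 = true :=
  allD_join chkP_10_292 chkP_10_293 (by norm_num)
theorem chkP_11_147 : allD P.chkPt 11 301056 = true :=
  allD_join chkP_10_294 chkP_10_295 (by norm_num)
theorem chkP_11_148 : allD P.chkPt 11 303104 = true :=
  allD_join chkP_10_296 chkP_10_297 (by norm_num)
theorem chkP_11_149 : allD P.chkPt 11 305152 = true :=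
  allD_join chkP_10_298 chkP_10_299 (by norm_num)
theorem chkP_11_150 : allD P.chkPt 11 307200 = true :=
  allD_join chkP_10_300 chkP_10_301 (by norm_num)
theorem chkP_11_151 : allD P.chkPt 11 309248 = true :=
  allD_join chkP_10_302 chkP_10_303 (by norm_num)
theorem chkP_11_152 : allD P.chkPt 11 311296 = true :=
  allD_join chkP_10_304 chkP_10_305 (by norm_num)
theorem chkP_11_153 : allD P.chkPt 11 313344 = true :=
  allD_join chkP_10_306 chkP_10_307 (by norm_num)
theorem chkP_11_154 : allD P.chkPt 11 315392 = true :=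
  allD_join chkP_10_308 chkP_10_309 (by norm_num)
theorem chkP_11_155 : allD P.chkPt 11 317440 = true :=
  allD_join chkP_10_310 chkP_10_311 (by norm_num)
theorem chkP_11_156 : allD P.chkPt 11 319488 = true :=
  allD_join chkP_10_312 chkP_10_313 (by norm_num)
theorem chkP_11_157 : allD P.chkPt 11 321536 = true :=
  allD_join chkP_10_314 chkP_10_315 (by norm_num)
theorem chkP_11_158 : allD P.chkPt 11 323584 = true :=
  allD_join chkP_10_316 chkP_10_317 (by norm_num)
theorem chkP_11_159 : allD P.chkPt 11 325632 = true :=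
  allD_join chkP_10_318 chkP_10_319 (by norm_num)
theorem chkP_11_160 : allD P.chkPt 11 327680 = true :=
  allD_join chkP_10_320 chkP_10_321 (by norm_num)
theorem chkP_11_161 : allD P.chkPt 11 329728 = true :=
  allD_join chkP_10_322 chkP_10_323 (by norm_num)
theorem chkP_11_162 : allD P.chkPt 11 331776 = true :=
  allD_join chkP_10_324 chkP_10_325 (by norm_num)
theorem chkP_11_163 : allD P.chkPt 11 333824 = true :=
  allD_join chkP_10_326 chkP_10_327 (by norm_num)
theorem chkP_11_164 : allD P.chkPt 11 335872 = true :=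
  allD_join chkP_10_328 chkP_10_329 (by norm_num)
theorem chkP_11_165 : allD P.chkPt 11 337920 = true :=
  allD_join chkP_10_330 chkP_10_331 (by norm_num)
theorem chkP_11_166 : allD P.chkPt 11 339968 = true :=
  allD_join chkP_10_332 chkP_10_333 (by norm_num)
theorem chkP_11_167 : allD P.chkPt 11 342016 = true :=
  allD_join chkP_10_334 chkP_10_335 (by norm_num)
theorem chkP_11_168 : allD P.chkPt 11 344064 = true :=
  allD_join chkP_10_336 chkP_10_337 (by norm_num)
theorem chkP_11_169 : allD P.chkPt 11 346112 = true :=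
  allD_join chkP_10_338 chkP_10_339 (by norm_num)
theorem chkP_11_170 : allD P.chkPt 11 348160 = true :=
  allD_join chkP_10_340 chkP_10_341 (by norm_num)
theorem chkP_11_171 : allD P.chkPt 11 350208 = true :=
  allD_join chkP_10_342 chkP_10_343 (by norm_num)
theorem chkP_11_172 : allD P.chkPt 11 352256 = true :=
  allD_join chkP_10_344 chkP_10_345 (by norm_num)
theorem chkP_11_173 : allD P.chkPt 11 354304 = true :=
  allD_join chkP_10_346 chkP_10_347 (by norm_num)
theorem chkP_11_174 : allD P.chkPt 11 356352 = true :=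
  allD_join chkP_10_348 chkP_10_349 (by norm_num)
theorem chkP_11_175 : allD P.chkPt 11 358400 = true :=
  allD_join chkP_10_350 chkP_10_351 (by norm_num)
theorem chkP_11_176 : allD P.chkPt 11 360448 = true :=
  allD_join chkP_10_352 chkP_10_353 (by norm_num)
theorem chkP_11_177 : allD P.chkPt 11 362496 = true :=
  allD_join chkP_10_354 chkP_10_355 (by norm_num)
theorem chkP_11_178 : allD P.chkPt 11 364544 = true :=
  allD_join chkP_10_356 chkP_10_357 (by norm_num)
theorem chkP_11_179 : allD P.chkPt 11 366592 = true :=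
  allD_join chkP_10_358 chkP_10_359 (by norm_num)
theorem chkP_11_180 : allD P.chkPt 11 368640 = true :=
  allD_join chkP_10_360 chkP_10_361 (by norm_num)
theorem chkP_11_181 : allD P.chkPt 11 370688 = true :=
  allD_join chkP_10_362 chkP_10_363 (by norm_num)
theorem chkP_11_182 : allD P.chkPt 11 372736 = true :=
  allD_join chkP_10_364 chkP_10_365 (by norm_num)
theorem chkP_11_183 : allD P.chkPt 11 374784 = true :=
  allD_join chkP_10_366 chkP_10_367 (by norm_num)
theorem chkP_11_184 : allD P.chkPt 11 376832 = true :=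
  allD_join chkP_10_368 chkP_10_369 (by norm_num)
theorem chkP_11_185 : allD P.chkPt 11 378880 = true :=
  allD_join chkP_10_370 chkP_10_371 (by norm_num)
theorem chkP_11_186 : allD P.chkPt 11 380928 = true :=
  allD_join chkP_10_372 chkP_10_373 (by norm_num)
theorem chkP_11_187 : allD P.chkPt 11 382976 = true :=
  allD_join chkP_10_374 chkP_10_375 (by norm_num)
theorem chkP_11_188 : allD P.chkPt 11 385024 = true :=
  allD_join chkP_10_376 chkP_10_377 (by norm_num)
theorem chkP_11_189 : allD P.chkPt 11 387072 = true :=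
  allD_join chkP_10_378 chkP_10_379 (by norm_num)
theorem chkP_11_190 : allD P.chkPt 11 389120 = true :=
  allD_join chkP_10_380 chkP_10_381 (by norm_num)
theorem chkP_11_191 : allD P.chkPt 11 391168 = true :=
  allD_join chkP_10_382 chkP_10_383 (by norm_num)
theorem chkP_11_192 : allD P.chkPt 11 393216 = true :=
  allD_join chkP_10_384 chkP_10_385 (by norm_num)
theorem chkP_11_193 : allD P.chkPt 11 395264 = true :=
  allD_join chkP_10_386 chkP_10_387 (by norm_num)
theorem chkP_11_194 : allD P.chkPt 11 397312 = true :=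
  allD_join chkP_10_388 chkP_10_389 (by norm_num)
theorem chkP_11_195 : allD P.chkPt 11 399360 = true :=
  allD_join chkP_10_390 chkP_10_391 (by norm_num)
theorem chkP_11_196 : allD P.chkPt 11 401408 = true :=
  allD_join chkP_10_392 chkP_10_393 (by norm_num)
theorem chkP_11_197 : allD P.chkPt 11 403456 = true :=
  allD_join chkP_10_394 chkP_10_395 (by norm_num)
theorem chkP_11_198 : allD P.chkPt 11 405504 = true :=
  allD_join chkP_10_396 chkP_10_397 (by norm_num)
theorem chkP_11_199 : allD P.chkPt 11 407552 = true :=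
  allD_join chkP_10_398 chkP_10_399 (by norm_num)
theorem chkP_11_200 : allD P.chkPt 11 409600 = true :=
  allD_join chkP_10_400 chkP_10_401 (by norm_num)
theorem chkP_11_201 : allD P.chkPt 11 411648 = true :=
  allD_join chkP_10_402 chkP_10_403 (by norm_num)
theorem chkP_11_202 : allD P.chkPt 11 413696 = true :=
  allD_join chkP_10_404 chkP_10_405 (by norm_num)
theorem chkP_11_203 : allD P.chkPt 11 415744 = true :=
  allD_join chkP_10_406 chkP_10_407 (by norm_num)
theorem chkP_11_204 : allD P.chkPt 11 417792 = true :=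
  allD_join chkP_10_408 chkP_10_409 (by norm_num)
theorem chkP_11_205 : allD P.chkPt 11 419840 = true :=
  allD_join chkP_10_410 chkP_10_411 (by norm_num)
theorem chkP_11_206 : allD P.chkPt 11 421888 = true :=
  allD_join chkP_10_412 chkP_10_413 (by norm_num)
theorem chkP_11_207 : allD P.chkPt 11 423936 = true :=
  allD_join chkP_10_414 chkP_10_415 (by norm_num)
theorem chkP_11_208 : allD P.chkPt 11 425984 = true :=
  allD_join chkP_10_416 chkP_10_417 (by norm_num)
theorem chkP_11_209 : allD P.chkPt 11 428032 = true :=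
  allD_join chkP_10_418 chkP_10_419 (by norm_num)
theorem chkP_11_210 : allD P.chkPt 11 430080 = true :=
  allD_join chkP_10_420 chkP_10_421 (by norm_num)
theorem chkP_11_211 : allD P.chkPt 11 432128 = true :=
  allD_join chkP_10_422 chkP_10_423 (by norm_num)
theorem chkP_11_212 : allD P.chkPt 11 434176 = true :=
  allD_join chkP_10_424 chkP_10_425 (by norm_num)
theorem chkP_11_213 : allD P.chkPt 11 436224 = true :=
  allD_join chkP_10_426 chkP_10_427 (by norm_num)
theorem chkP_11_214 : allD P.chkPt 11 438272 = true :=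
  allD_join chkP_10_428 chkP_10_429 (by norm_num)
theorem chkP_11_215 : allD P.chkPt 11 440320 = true :=
  allD_join chkP_10_430 chkP_10_431 (by norm_num)
theorem chkP_11_216 : allD P.chkPt 11 442368 = true :=
  allD_join chkP_10_432 chkP_10_433 (by norm_num)
theorem chkP_11_217 : allD P.chkPt 11 444416 = true :=
  allD_join chkP_10_434 chkP_10_435 (by norm_num)
theorem chkP_11_218 : allD P.chkPt 11 446464 = true :=
  allD_join chkP_10_436 chkP_10_437 (by norm_num)
theorem chkP_11_219 : allD P.chkPt 11 448512 = true :=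
  allD_join chkP_10_438 chkP_10_439 (by norm_num)
theorem chkP_11_220 : allD P.chkPt 11 450560 = true :=
  allD_join chkP_10_440 chkP_10_441 (by norm_num)
theorem chkP_11_221 : allD P.chkPt 11 452608 = true :=
  allD_join chkP_10_442 chkP_10_443 (by norm_num)
theorem chkP_11_222 : allD P.chkPt 11 454656 = true :=
  allD_join chkP_10_444 chkP_10_445 (by norm_num)
theorem chkP_11_223 : allD P.chkPt 11 456704 = true :=
  allD_join chkP_10_446 chkP_10_447 (by norm_num)
theorem chkP_11_224 : allD P.chkPt 11 458752 = true :=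
  allD_join chkP_10_448 chkP_10_449 (by norm_num)
theorem chkP_11_225 : allD P.chkPt 11 460800 = true :=
  allD_join chkP_10_450 chkP_10_451 (by norm_num)
theorem chkP_11_226 : allD P.chkPt 11 462848 = true :=
  allD_join chkP_10_452 chkP_10_453 (by norm_num)
theorem chkP_11_227 : allD P.chkPt 11 464896 = true :=
  allD_join chkP_10_454 chkP_10_455 (by norm_num)
theorem chkP_11_228 : allD P.chkPt 11 466944 = true :=
  allD_join chkP_10_456 chkP_10_457 (by norm_num)
theorem chkP_11_229 : allD P.chkPt 11 468992 = true :=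
  allD_join chkP_10_458 chkP_10_459 (by norm_num)
theorem chkP_11_230 : allD P.chkPt 11 471040 = true :=
  allD_join chkP_10_460 chkP_10_461 (by norm_num)
theorem chkP_11_231 : allD P.chkPt 11 473088 = true :=
  allD_join chkP_10_462 chkP_10_463 (by norm_num)
theorem chkP_11_232 : allD P.chkPt 11 475136 = true :=
  allD_join chkP_10_464 chkP_10_465 (by norm_num)
theorem chkP_11_233 : allD P.chkPt 11 477184 = true :=
  allD_join chkP_10_466 chkP_10_467 (by norm_num)
theorem chkP_11_234 : allD P.chkPt 11 479232 = true :=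
  allD_join chkP_10_468 chkP_10_469 (by norm_num)
theorem chkP_11_235 : allD P.chkPt 11 481280 = true :=
  allD_join chkP_10_470 chkP_10_471 (by norm_num)
theorem chkP_11_236 : allD P.chkPt 11 483328 = true :=
  allD_join chkP_10_472 chkP_10_473 (by norm_num)
theorem chkP_11_237 : allD P.chkPt 11 485376 = true :=
  allD_join chkP_10_474 chkP_10_475 (by norm_num)
theorem chkP_11_238 : allD P.chkPt 11 487424 = true :=
  allD_join chkP_10_476 chkP_10_477 (by norm_num)
theorem chkP_11_239 : allD P.chkPt 11 489472 = true :=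
  allD_join chkP_10_478 chkP_10_479 (by norm_num)
theorem chkP_11_240 : allD P.chkPt 11 491520 = true :=
  allD_join chkP_10_480 chkP_10_481 (by norm_num)
theorem chkP_11_241 : allD P.chkPt 11 493568 = true :=
  allD_join chkP_10_482 chkP_10_483 (by norm_num)
theorem chkP_11_242 : allD P.chkPt 11 495616 = true :=
  allD_join chkP_10_484 chkP_10_485 (by norm_num)
theorem chkP_11_243 : allD P.chkPt 11 497664 = true :=
  allD_join chkP_10_486 chkP_10_487 (by norm_num)
theorem chkP_11_244 : allD P.chkPt 11 499712 = true :=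
  allD_join chkP_10_488 chkP_10_489 (by norm_num)
theorem chkP_11_245 : allD P.chkPt 11 501760 = true :=
  allD_join chkP_10_490 chkP_10_491 (by norm_num)
theorem chkP_11_246 : allD P.chkPt 11 503808 = true :=
  allD_join chkP_10_492 chkP_10_493 (by norm_num)
theorem chkP_11_247 : allD P.chkPt 11 505856 = true :=
  allD_join chkP_10_494 chkP_10_495 (by norm_num)
theorem chkP_11_248 : allD P.chkPt 11 507904 = true :=
  allD_join chkP_10_496 chkP_10_497 (by norm_num)
theorem chkP_11_249 : allD P.chkPt 11 509952 = true :=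
  allD_join chkP_10_498 chkP_10_499 (by norm_num)
theorem chkP_11_250 : allD P.chkPt 11 512000 = true :=
  allD_join chkP_10_500 chkP_10_501 (by norm_num)
theorem chkP_11_251 : allD P.chkPt 11 514048 = true :=
  allD_join chkP_10_502 chkP_10_503 (by norm_num)
theorem chkP_11_252 : allD P.chkPt 11 516096 = true :=
  allD_join chkP_10_504 chkP_10_505 (by norm_num)
theorem chkP_11_253 : allD P.chkPt 11 518144 = true :=
  allD_join chkP_10_506 chkP_10_507 (by norm_num)
theorem chkP_11_254 : allD P.chkPt 11 520192 = true :=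
  allD_join chkP_10_508 chkP_10_509 (by norm_num)
theorem chkP_11_255 : allD P.chkPt 11 522240 = true :=
  allD_join chkP_10_510 chkP_10_511 (by norm_num)
theorem chkP_12_0 : allD P.chkPt 12 0 = true :=
  allD_join chkP_11_0 chkP_11_1 (by norm_num)
theorem chkP_12_1 : allD P.chkPt 12 4096 = true :=
  allD_join chkP_11_2 chkP_11_3 (by norm_num)
theorem chkP_12_2 : allD P.chkPt 12 8192 = true :=
  allD_join chkP_11_4 chkP_11_5 (by norm_num)
theorem chkP_12_3 : allD P.chkPt 12 12288 = true :=
  allD_join chkP_11_6 chkP_11_7 (by norm_num)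
theorem chkP_12_4 : allD P.chkPt 12 16384 = true :=
  allD_join chkP_11_8 chkP_11_9 (by norm_num)
theorem chkP_12_5 : allD P.chkPt 12 20480 = true :=
  allD_join chkP_11_10 chkP_11_11 (by norm_num)
theorem chkP_12_6 : allD P.chkPt 12 24576 = true :=
  allD_join chkP_11_12 chkP_11_13 (by norm_num)
theorem chkP_12_7 : allD P.chkPt 12 28672 = true :=
  allD_join chkP_11_14 chkP_11_15 (by norm_num)
theorem chkP_12_8 : allD P.chkPt 12 32768 = true :=
  allD_join chkP_11_16 chkP_11_17 (by norm_num)
theorem chkP_12_9 : allD P.chkPt 12 36864 = true :=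
  allD_join chkP_11_18 chkP_11_19 (by norm_num)
theorem chkP_12_10 : allD P.chkPt 12 40960 = true :=
  allD_join chkP_11_20 chkP_11_21 (by norm_num)
theorem chkP_12_11 : allD P.chkPt 12 45056 = true :=
  allD_join chkP_11_22 chkP_11_23 (by norm_num)
theorem chkP_12_12 : allD P.chkPt 12 49152 = true :=
  allD_join chkP_11_24 chkP_11_25 (by norm_num)
theorem chkP_12_13 : allD P.chkPt 12 53248 = true :=
  allD_join chkP_11_26 chkP_11_27 (by norm_num)
theorem chkP_12_14 : allD P.chkPt 12 57344 = true :=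
  allD_join chkP_11_28 chkP_11_29 (by norm_num)
theorem chkP_12_15 : allD P.chkPt 12 61440 = true :=
  allD_join chkP_11_30 chkP_11_31 (by norm_num)
theorem chkP_12_16 : allD P.chkPt 12 65536 = true :=
  allD_join chkP_11_32 chkP_11_33 (by norm_num)
theorem chkP_12_17 : allD P.chkPt 12 69632 = true :=
  allD_join chkP_11_34 chkP_11_35 (by norm_num)
theorem chkP_12_18 : allD P.chkPt 12 73728 = true :=
  allD_join chkP_11_36 chkP_11_37 (by norm_num)
theorem chkP_12_19 : allD P.chkPt 12 77824 = true :=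
  allD_join chkP_11_38 chkP_11_39 (by norm_num)
theorem chkP_12_20 : allD P.chkPt 12 81920 = true :=
  allD_join chkP_11_40 chkP_11_41 (by norm_num)
theorem chkP_12_21 : allD P.chkPt 12 86016 = true :=
  allD_join chkP_11_42 chkP_11_43 (by norm_num)
theorem chkP_12_22 : allD P.chkPt 12 90112 = true :=
  allD_join chkP_11_44 chkP_11_45 (by norm_num)
theorem chkP_12_23 : allD P.chkPt 12 94208 = true :=
  allD_join chkP_11_46 chkP_11_47 (by norm_num)
theorem chkP_12_24 : allD P.chkPt 12 98304 = true :=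
  allD_join chkP_11_48 chkP_11_49 (by norm_num)
theorem chkP_12_25 : allD P.chkPt 12 102400 = true :=
  allD_join chkP_11_50 chkP_11_51 (by norm_num)
theorem chkP_12_26 : allD P.chkPt 12 106496 = true :=
  allD_join chkP_11_52 chkP_11_53 (by norm_num)
theorem chkP_12_27 : allD P.chkPt 12 110592 = true :=
  allD_join chkP_11_54 chkP_11_55 (by norm_num)
theorem chkP_12_28 : allD P.chkPt 12 114688 = true :=
  allD_join chkP_11_56 chkP_11_57 (by norm_num)
theorem chkP_12_29 : allD P.chkPt 12 118784 = true :=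
  allD_join chkP_11_58 chkP_11_59 (by norm_num)
theorem chkP_12_30 : allD P.chkPt 12 122880 = true :=
  allD_join chkP_11_60 chkP_11_61 (by norm_num)
theorem chkP_12_31 : allD P.chkPt 12 126976 = true :=
  allD_join chkP_11_62 chkP_11_63 (by norm_num)
theorem chkP_12_32 : allD P.chkPt 12 131072 = true :=
  allD_join chkP_11_64 chkP_11_65 (by norm_num)
theorem chkP_12_33 : allD P.chkPt 12 135168 = true :=
  allD_join chkP_11_66 chkP_11_67 (by norm_num)
theorem chkP_12_34 : allD P.chkPt 12 139264 = true :=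
  allD_join chkP_11_68 chkP_11_69 (by norm_num)
theorem chkP_12_35 : allD P.chkPt 12 143360 = true :=
  allD_join chkP_11_70 chkP_11_71 (by norm_num)
theorem chkP_12_36 : allD P.chkPt 12 147456 = true :=
  allD_join chkP_11_72 chkP_11_73 (by norm_num)
theorem chkP_12_37 : allD P.chkPt 12 151552 = true :=
  allD_join chkP_11_74 chkP_11_75 (by norm_num)
theorem chkP_12_38 : allD P.chkPt 12 155648 = true :=
  allD_join chkP_11_76 chkP_11_77 (by norm_num)
theorem chkP_12_39 : allD P.chkPt 12 159744 = true :=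
  allD_join chkP_11_78 chkP_11_79 (by norm_num)
theorem chkP_12_40 : allD P.chkPt 12 163840 = true :=
  allD_join chkP_11_80 chkP_11_81 (by norm_num)
theorem chkP_12_41 : allD P.chkPt 12 167936 = true :=
  allD_join chkP_11_82 chkP_11_83 (by norm_num)
theorem chkP_12_42 : allD P.chkPt 12 172032 = true :=
  allD_join chkP_11_84 chkP_11_85 (by norm_num)
theorem chkP_12_43 : allD P.chkPt 12 176128 = true :=
  allD_join chkP_11_86 chkP_11_87 (by norm_num)
theorem chkP_12_44 : allD P.chkPt 12 180224 = true :=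
  allD_join chkP_11_88 chkP_11_89 (by norm_num)
theorem chkP_12_45 : allD P.chkPt 12 184320 = true :=
  allD_join chkP_11_90 chkP_11_91 (by norm_num)
theorem chkP_12_46 : allD P.chkPt 12 188416 = true :=
  allD_join chkP_11_92 chkP_11_93 (by norm_num)
theorem chkP_12_47 : allD P.chkPt 12 192512 = true :=
  allD_join chkP_11_94 chkP_11_95 (by norm_num)
theorem chkP_12_48 : allD P.chkPt 12 196608 = true :=
  allD_join chkP_11_96 chkP_11_97 (by norm_num)
theorem chkP_12_49 : allD P.chkPt 12 200704 = true :=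
  allD_join chkP_11_98 chkP_11_99 (by norm_num)
theorem chkP_12_50 : allD P.chkPt 12 204800 = true :=
  allD_join chkP_11_100 chkP_11_101 (by norm_num)
theorem chkP_12_51 : allD P.chkPt 12 208896 = true :=
  allD_join chkP_11_102 chkP_11_103 (by norm_num)
theorem chkP_12_52 : allD P.chkPt 12 212992 = true :=
  allD_join chkP_11_104 chkP_11_105 (by norm_num)
theorem chkP_12_53 : allD P.chkPt 12 217088 = true :=
  allD_join chkP_11_106 chkP_11_107 (by norm_num)
theorem chkP_12_54 : allD P.chkPt 12 221184 = true :=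
  allD_join chkP_11_108 chkP_11_109 (by norm_num)
theorem chkP_12_55 : allD P.chkPt 12 225280 = true :=
  allD_join chkP_11_110 chkP_11_111 (by norm_num)
theorem chkP_12_56 : allD P.chkPt 12 229376 = true :=
  allD_join chkP_11_112 chkP_11_113 (by norm_num)
theorem chkP_12_57 : allD P.chkPt 12 233472 = true :=
  allD_join chkP_11_114 chkP_11_115 (by norm_num)
theorem chkP_12_58 : allD P.chkPt 12 237568 = true :=
  allD_join chkP_11_116 chkP_11_117 (by norm_num)
theorem chkP_12_59 : allD P.chkPt 12 241664 = true :=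
  allD_join chkP_11_118 chkP_11_119 (by norm_num)
theorem chkP_12_60 : allD P.chkPt 12 245760 = true :=
  allD_join chkP_11_120 chkP_11_121 (by norm_num)
theorem chkP_12_61 : allD P.chkPt 12 249856 = true :=
  allD_join chkP_11_122 chkP_11_123 (by norm_num)
theorem chkP_12_62 : allD P.chkPt 12 253952 = true :=
  allD_join chkP_11_124 chkP_11_125 (by norm_num)
theorem chkP_12_63 : allD P.chkPt 12 258048 = true :=
  allD_join chkP_11_126 chkP_11_127 (by norm_num)
theorem chkP_12_64 : allD P.chkPt 12 262144 = true :=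
  allD_join chkP_11_128 chkP_11_129 (by norm_num)
theorem chkP_12_65 : allD P.chkPt 12 266240 = true :=
  allD_join chkP_11_130 chkP_11_131 (by norm_num)
theorem chkP_12_66 : allD P.chkPt 12 270336 = true :=
  allD_join chkP_11_132 chkP_11_133 (by norm_num)
theorem chkP_12_67 : allD P.chkPt 12 274432 = true :=
  allD_join chkP_11_134 chkP_11_135 (by norm_num)
theorem chkP_12_68 : allD P.chkPt 12 278528 = true :=
  allD_join chkP_11_136 chkP_11_137 (by norm_num)
theorem chkP_12_69 : allD P.chkPt 12 282624 = true :=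
  allD_join chkP_11_138 chkP_11_139 (by norm_num)
theorem chkP_12_70 : allD P.chkPt 12 286720 = true :=
  allD_join chkP_11_140 chkP_11_141 (by norm_num)
theorem chkP_12_71 : allD P.chkPt 12 290816 = true :=
  allD_join chkP_11_142 chkP_11_143 (by norm_num)
theorem chkP_12_72 : allD P.chkPt 12 294912 = true :=
  allD_join chkP_11_144 chkP_11_145 (by norm_num)
theorem chkP_12_73 : allD P.chkPt 12 299008 = true :=
  allD_join chkP_11_146 chkP_11_147 (by norm_num)
theorem chkP_12_74 : allD P.chkPt 12 303104 = true :=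
  allD_join chkP_11_148 chkP_11_149 (by norm_num)
theorem chkP_12_75 : allD P.chkPt 12 307200 = true :=
  allD_join chkP_11_150 chkP_11_151 (by norm_num)
theorem chkP_12_76 : allD P.chkPt 12 311296 = true :=
  allD_join chkP_11_152 chkP_11_153 (by norm_num)
theorem chkP_12_77 : allD P.chkPt 12 315392 = true :=
  allD_join chkP_11_154 chkP_11_155 (by norm_num)
theorem chkP_12_78 : allD P.chkPt 12 319488 = true :=
  allD_join chkP_11_156 chkP_11_157 (by norm_num)
theorem chkP_12_79 : allD P.chkPt 12 323584 = true :=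
  allD_join chkP_11_158 chkP_11_159 (by norm_num)
theorem chkP_12_80 : allD P.chkPt 12 327680 = true :=
  allD_join chkP_11_160 chkP_11_161 (by norm_num)
theorem chkP_12_81 : allD P.chkPt 12 331776 = true :=
  allD_join chkP_11_162 chkP_11_163 (by norm_num)
theorem chkP_12_82 : allD P.chkPt 12 335872 = true :=
  allD_join chkP_11_164 chkP_11_165 (by norm_num)
theorem chkP_12_83 : allD P.chkPt 12 339968 = true :=
  allD_join chkP_11_166 chkP_11_167 (by norm_num)
theorem chkP_12_84 : allD P.chkPt 12 344064 = true :=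
  allD_join chkP_11_168 chkP_11_169 (by norm_num)
theorem chkP_12_85 : allD P.chkPt 12 348160 = true :=
  allD_join chkP_11_170 chkP_11_171 (by norm_num)
theorem chkP_12_86 : allD P.chkPt 12 352256 = true :=
  allD_join chkP_11_172 chkP_11_173 (by norm_num)
theorem chkP_12_87 : allD P.chkPt 12 356352 = true :=
  allD_join chkP_11_174 chkP_11_175 (by norm_num)
theorem chkP_12_88 : allD P.chkPt 12 360448 = true :=
  allD_join chkP_11_176 chkP_11_177 (by norm_num)
theorem chkP_12_89 : allD P.chkPt 12 364544 = true :=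
  allD_join chkP_11_178 chkP_11_179 (by norm_num)
theorem chkP_12_90 : allD P.chkPt 12 368640 = true :=
  allD_join chkP_11_180 chkP_11_181 (by norm_num)
theorem chkP_12_91 : allD P.chkPt 12 372736 = true :=
  allD_join chkP_11_182 chkP_11_183 (by norm_num)
theorem chkP_12_92 : allD P.chkPt 12 376832 = true :=
  allD_join chkP_11_184 chkP_11_185 (by norm_num)
theorem chkP_12_93 : allD P.chkPt 12 380928 = true :=
  allD_join chkP_11_186 chkP_11_187 (by norm_num)
theorem chkP_12_94 : allD P.chkPt 12 385024 = true :=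
  allD_join chkP_11_188 chkP_11_189 (by norm_num)
theorem chkP_12_95 : allD P.chkPt 12 389120 = true :=
  allD_join chkP_11_190 chkP_11_191 (by norm_num)
theorem chkP_12_96 : allD P.chkPt 12 393216 = true :=
  allD_join chkP_11_192 chkP_11_193 (by norm_num)
theorem chkP_12_97 : allD P.chkPt 12 397312 = true :=
  allD_join chkP_11_194 chkP_11_195 (by norm_num)
theorem chkP_12_98 : allD P.chkPt 12 401408 = true :=
  allD_join chkP_11_196 chkP_11_197 (by norm_num)
theorem chkP_12_99 : allD P.chkPt 12 405504 = true :=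
  allD_join chkP_11_198 chkP_11_199 (by norm_num)
theorem chkP_12_100 : allD P.chkPt 12 409600 = true :=
  allD_join chkP_11_200 chkP_11_201 (by norm_num)
theorem chkP_12_101 : allD P.chkPt 12 413696 = true :=
  allD_join chkP_11_202 chkP_11_203 (by norm_num)
theorem chkP_12_102 : allD P.chkPt 12 417792 = true :=
  allD_join chkP_11_204 chkP_11_205 (by norm_num)
theorem chkP_12_103 : allD P.chkPt 12 421888 = true :=
  allD_join chkP_11_206 chkP_11_207 (by norm_num)
theorem chkP_12_104 : allD P.chkPt 12 425984 = true :=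
  allD_join chkP_11_208 chkP_11_209 (by norm_num)
theorem chkP_12_105 : allD P.chkPt 12 430080 = true :=
  allD_join chkP_11_210 chkP_11_211 (by norm_num)
theorem chkP_12_106 : allD P.chkPt 12 434176 = true :=
  allD_join chkP_11_212 chkP_11_213 (by norm_num)
theorem chkP_12_107 : allD P.chkPt 12 438272 = true :=
  allD_join chkP_11_214 chkP_11_215 (by norm_num)
theorem chkP_12_108 : allD P.chkPt 12 442368 = true :=
  allD_join chkP_11_216 chkP_11_217 (by norm_num)
theorem chkP_12_109 : allD P.chkPt 12 446464 = true :=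
  allD_join chkP_11_218 chkP_11_219 (by norm_num)
theorem chkP_12_110 : allD P.chkPt 12 450560 = true :=
  allD_join chkP_11_220 chkP_11_221 (by norm_num)
theorem chkP_12_111 : allD P.chkPt 12 454656 = true :=
  allD_join chkP_11_222 chkP_11_223 (by norm_num)
theorem chkP_12_112 : allD P.chkPt 12 458752 = true :=
  allD_join chkP_11_224 chkP_11_225 (by norm_num)
theorem chkP_12_113 : allD P.chkPt 12 462848 = true :=
  allD_join chkP_11_226 chkP_11_227 (by norm_num)
theorem chkP_12_114 : allD P.chkPt 12 466944 = true :=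
  allD_join chkP_11_228 chkP_11_229 (by norm_num)
theorem chkP_12_115 : allD P.chkPt 12 471040 = true :=
  allD_join chkP_11_230 chkP_11_231 (by norm_num)
theorem chkP_12_116 : allD P.chkPt 12 475136 = true :=
  allD_join chkP_11_232 chkP_11_233 (by norm_num)
theorem chkP_12_117 : allD P.chkPt 12 479232 = true :=
  allD_join chkP_11_234 chkP_11_235 (by norm_num)
theorem chkP_12_118 : allD P.chkPt 12 483328 = true :=
  allD_join chkP_11_236 chkP_11_237 (by norm_num)
theorem chkP_12_119 : allD P.chkPt 12 487424 = true :=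
  allD_join chkP_11_238 chkP_11_239 (by norm_num)
theorem chkP_12_120 : allD P.chkPt 12 491520 = true :=
  allD_join chkP_11_240 chkP_11_241 (by norm_num)
theorem chkP_12_121 : allD P.chkPt 12 495616 = true :=
  allD_join chkP_11_242 chkP_11_243 (by norm_num)
theorem chkP_12_122 : allD P.chkPt 12 499712 = true :=
  allD_join chkP_11_244 chkP_11_245 (by norm_num)
theorem chkP_12_123 : allD P.chkPt 12 503808 = true :=
  allD_join chkP_11_246 chkP_11_247 (by norm_num)
theorem chkP_12_124 : allD P.chkPt 12 507904 = true :=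
  allD_join chkP_11_248 chkP_11_249 (by norm_num)
theorem chkP_12_125 : allD P.chkPt 12 512000 = true :=
  allD_join chkP_11_250 chkP_11_251 (by norm_num)
theorem chkP_12_126 : allD P.chkPt 12 516096 = true :=
  allD_join chkP_11_252 chkP_11_253 (by norm_num)
theorem chkP_12_127 : allD P.chkPt 12 520192 = true :=
  allD_join chkP_11_254 chkP_11_255 (by norm_num)
theorem chkP_13_0 : allD P.chkPt 13 0 = true :=
  allD_join chkP_12_0 chkP_12_1 (by norm_num)
theorem chkP_13_1 : allD P.chkPt 13 8192 = true :=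
  allD_join chkP_12_2 chkP_12_3 (by norm_num)
theorem chkP_13_2 : allD P.chkPt 13 16384 = true :=
  allD_join chkP_12_4 chkP_12_5 (by norm_num)
theorem chkP_13_3 : allD P.chkPt 13 24576 = true :=
  allD_join chkP_12_6 chkP_12_7 (by norm_num)
theorem chkP_13_4 : allD P.chkPt 13 32768 = true :=
  allD_join chkP_12_8 chkP_12_9 (by norm_num)
theorem chkP_13_5 : allD P.chkPt 13 40960 = true :=
  allD_join chkP_12_10 chkP_12_11 (by norm_num)
theorem chkP_13_6 : allD P.chkPt 13 49152 = true :=
  allD_join chkP_12_12 chkP_12_13 (by norm_num)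
theorem chkP_13_7 : allD P.chkPt 13 57344 = true :=
  allD_join chkP_12_14 chkP_12_15 (by norm_num)
theorem chkP_13_8 : allD P.chkPt 13 65536 = true :=
  allD_join chkP_12_16 chkP_12_17 (by norm_num)
theorem chkP_13_9 : allD P.chkPt 13 73728 = true :=
  allD_join chkP_12_18 chkP_12_19 (by norm_num)
theorem chkP_13_10 : allD P.chkPt 13 81920 = true :=
  allD_join chkP_12_20 chkP_12_21 (by norm_num)
theorem chkP_13_11 : allD P.chkPt 13 90112 = true :=
  allD_join chkP_12_22 chkP_12_23 (by norm_num)
theorem chkP_13_12 : allD P.chkPt 13 98304 = true :=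
  allD_join chkP_12_24 chkP_12_25 (by norm_num)
theorem chkP_13_13 : allD P.chkPt 13 106496 = true :=
  allD_join chkP_12_26 chkP_12_27 (by norm_num)
theorem chkP_13_14 : allD P.chkPt 13 114688 = true :=
  allD_join chkP_12_28 chkP_12_29 (by norm_num)
theorem chkP_13_15 : allD P.chkPt 13 122880 = true :=
  allD_join chkP_12_30 chkP_12_31 (by norm_num)
theorem chkP_13_16 : allD P.chkPt 13 131072 = true :=
  allD_join chkP_12_32 chkP_12_33 (by norm_num)
theorem chkP_13_17 : allD P.chkPt 13 139264 = true :=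
  allD_join chkP_12_34 chkP_12_35 (by norm_num)
theorem chkP_13_18 : allD P.chkPt 13 147456 = true :=
  allD_join chkP_12_36 chkP_12_37 (by norm_num)
theorem chkP_13_19 : allD P.chkPt 13 155648 = true :=
  allD_join chkP_12_38 chkP_12_39 (by norm_num)
theorem chkP_13_20 : allD P.chkPt 13 163840 = true :=
  allD_join chkP_12_40 chkP_12_41 (by norm_num)
theorem chkP_13_21 : allD P.chkPt 13 172032 = true :=
  allD_join chkP_12_42 chkP_12_43 (by norm_num)
theorem chkP_13_22 : allD P.chkPt 13 180224 = true :=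
  allD_join chkP_12_44 chkP_12_45 (by norm_num)
theorem chkP_13_23 : allD P.chkPt 13 188416 = true :=
  allD_join chkP_12_46 chkP_12_47 (by norm_num)
theorem chkP_13_24 : allD P.chkPt 13 196608 = true :=
  allD_join chkP_12_48 chkP_12_49 (by norm_num)
theorem chkP_13_25 : allD P.chkPt 13 204800 = true :=
  allD_join chkP_12_50 chkP_12_51 (by norm_num)
theorem chkP_13_26 : allD P.chkPt 13 212992 = true :=
  allD_join chkP_12_52 chkP_12_53 (by norm_num)
theorem chkP_13_27 : allD P.chkPt 13 221184 = true :=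
  allD_join chkP_12_54 chkP_12_55 (by norm_num)
theorem chkP_13_28 : allD P.chkPt 13 229376 = true :=
  allD_join chkP_12_56 chkP_12_57 (by norm_num)
theorem chkP_13_29 : allD P.chkPt 13 237568 = true :=
  allD_join chkP_12_58 chkP_12_59 (by norm_num)
theorem chkP_13_30 : allD P.chkPt 13 245760 = true :=
  allD_join chkP_12_60 chkP_12_61 (by norm_num)
theorem chkP_13_31 : allD P.chkPt 13 253952 = true :=
  allD_join chkP_12_62 chkP_12_63 (by norm_num)
theorem chkP_13_32 : allD P.chkPt 13 262144 = true :=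
  allD_join chkP_12_64 chkP_12_65 (by norm_num)
theorem chkP_13_33 : allD P.chkPt 13 270336 = true :=
  allD_join chkP_12_66 chkP_12_67 (by norm_num)
theorem chkP_13_34 : allD P.chkPt 13 278528 = true :=
  allD_join chkP_12_68 chkP_12_69 (by norm_num)
theorem chkP_13_35 : allD P.chkPt 13 286720 = true :=
  allD_join chkP_12_70 chkP_12_71 (by norm_num)
theorem chkP_13_36 : allD P.chkPt 13 294912 = true :=
  allD_join chkP_12_72 chkP_12_73 (by norm_num)
theorem chkP_13_37 : allD P.chkPt 13 303104 = true :=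
  allD_join chkP_12_74 chkP_12_75 (by norm_num)
theorem chkP_13_38 : allD P.chkPt 13 311296 = true :=
  allD_join chkP_12_76 chkP_12_77 (by norm_num)
theorem chkP_13_39 : allD P.chkPt 13 319488 = true :=
  allD_join chkP_12_78 chkP_12_79 (by norm_num)
theorem chkP_13_40 : allD P.chkPt 13 327680 = true :=
  allD_join chkP_12_80 chkP_12_81 (by norm_num)
theorem chkP_13_41 : allD P.chkPt 13 335872 = true :=
  allD_join chkP_12_82 chkP_12_83 (by norm_num)
theorem chkP_13_42 : allD P.chkPt 13 344064 = true :=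
  allD_join chkP_12_84 chkP_12_85 (by norm_num)
theorem chkP_13_43 : allD P.chkPt 13 352256 = true :=
  allD_join chkP_12_86 chkP_12_87 (by norm_num)
theorem chkP_13_44 : allD P.chkPt 13 360448 = true :=
  allD_join chkP_12_88 chkP_12_89 (by norm_num)
theorem chkP_13_45 : allD P.chkPt 13 368640 = true :=
  allD_join chkP_12_90 chkP_12_91 (by norm_num)
theorem chkP_13_46 : allD P.chkPt 13 376832 = true :=
  allD_join chkP_12_92 chkP_12_93 (by norm_num)
theorem chkP_13_47 : allD P.chkPt 13 385024 = true :=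
  allD_join chkP_12_94 chkP_12_95 (by norm_num)
theorem chkP_13_48 : allD P.chkPt 13 393216 = true :=
  allD_join chkP_12_96 chkP_12_97 (by norm_num)
theorem chkP_13_49 : allD P.chkPt 13 401408 = true :=
  allD_join chkP_12_98 chkP_12_99 (by norm_num)
theorem chkP_13_50 : allD P.chkPt 13 409600 = true :=
  allD_join chkP_12_100 chkP_12_101 (by norm_num)
theorem chkP_13_51 : allD P.chkPt 13 417792 = true :=
  allD_join chkP_12_102 chkP_12_103 (by norm_num)
theorem chkP_13_52 : allD P.chkPt 13 425984 = true :=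
  allD_join chkP_12_104 chkP_12_105 (by norm_num)
theorem chkP_13_53 : allD P.chkPt 13 434176 = true :=
  allD_join chkP_12_106 chkP_12_107 (by norm_num)
theorem chkP_13_54 : allD P.chkPt 13 442368 = true :=
  allD_join chkP_12_108 chkP_12_109 (by norm_num)
theorem chkP_13_55 : allD P.chkPt 13 450560 = true :=
  allD_join chkP_12_110 chkP_12_111 (by norm_num)
theorem chkP_13_56 : allD P.chkPt 13 458752 = true :=
  allD_join chkP_12_112 chkP_12_113 (by norm_num)
theorem chkP_13_57 : allD P.chkPt 13 466944 = true :=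
  allD_join chkP_12_114 chkP_12_115 (by norm_num)
theorem chkP_13_58 : allD P.chkPt 13 475136 = true :=
  allD_join chkP_12_116 chkP_12_117 (by norm_num)
theorem chkP_13_59 : allD P.chkPt 13 483328 = true :=
  allD_join chkP_12_118 chkP_12_119 (by norm_num)
theorem chkP_13_60 : allD P.chkPt 13 491520 = true :=
  allD_join chkP_12_120 chkP_12_121 (by norm_num)
theorem chkP_13_61 : allD P.chkPt 13 499712 = true :=
  allD_join chkP_12_122 chkP_12_123 (by norm_num)
theorem chkP_13_62 : allD P.chkPt 13 507904 = true :=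
  allD_join chkP_12_124 chkP_12_125 (by norm_num)
theorem chkP_13_63 : allD P.chkPt 13 516096 = true :=
  allD_join chkP_12_126 chkP_12_127 (by norm_num)
theorem chkP_14_0 : allD P.chkPt 14 0 = true :=
  allD_join chkP_13_0 chkP_13_1 (by norm_num)
theorem chkP_14_1 : allD P.chkPt 14 16384 = true :=
  allD_join chkP_13_2 chkP_13_3 (by norm_num)
theorem chkP_14_2 : allD P.chkPt 14 32768 = true :=
  allD_join chkP_13_4 chkP_13_5 (by norm_num)
theorem chkP_14_3 : allD P.chkPt 14 49152 = true :=
  allD_join chkP_13_6 chkP_13_7 (by norm_num)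
theorem chkP_14_4 : allD P.chkPt 14 65536 = true :=
  allD_join chkP_13_8 chkP_13_9 (by norm_num)
theorem chkP_14_5 : allD P.chkPt 14 81920 = true :=
  allD_join chkP_13_10 chkP_13_11 (by norm_num)
theorem chkP_14_6 : allD P.chkPt 14 98304 = true :=
  allD_join chkP_13_12 chkP_13_13 (by norm_num)
theorem chkP_14_7 : allD P.chkPt 14 114688 = true :=
  allD_join chkP_13_14 chkP_13_15 (by norm_num)
theorem chkP_14_8 : allD P.chkPt 14 131072 = true :=
  allD_join chkP_13_16 chkP_13_17 (by norm_num)
theorem chkP_14_9 : allD P.chkPt 14 147456 = true :=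
  allD_join chkP_13_18 chkP_13_19 (by norm_num)
theorem chkP_14_10 : allD P.chkPt 14 163840 = true :=
  allD_join chkP_13_20 chkP_13_21 (by norm_num)
theorem chkP_14_11 : allD P.chkPt 14 180224 = true :=
  allD_join chkP_13_22 chkP_13_23 (by norm_num)
theorem chkP_14_12 : allD P.chkPt 14 196608 = true :=
  allD_join chkP_13_24 chkP_13_25 (by norm_num)
theorem chkP_14_13 : allD P.chkPt 14 212992 = true :=
  allD_join chkP_13_26 chkP_13_27 (by norm_num)
theorem chkP_14_14 : allD P.chkPt 14 229376 = true :=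
  allD_join chkP_13_28 chkP_13_29 (by norm_num)
theorem chkP_14_15 : allD P.chkPt 14 245760 = true :=
  allD_join chkP_13_30 chkP_13_31 (by norm_num)
theorem chkP_14_16 : allD P.chkPt 14 262144 = true :=
  allD_join chkP_13_32 chkP_13_33 (by norm_num)
theorem chkP_14_17 : allD P.chkPt 14 278528 = true :=
  allD_join chkP_13_34 chkP_13_35 (by norm_num)
theorem chkP_14_18 : allD P.chkPt 14 294912 = true :=
  allD_join chkP_13_36 chkP_13_37 (by norm_num)
theorem chkP_14_19 : allD P.chkPt 14 311296 = true :=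
  allD_join chkP_13_38 chkP_13_39 (by norm_num)
theorem chkP_14_20 : allD P.chkPt 14 327680 = true :=
  allD_join chkP_13_40 chkP_13_41 (by norm_num)
theorem chkP_14_21 : allD P.chkPt 14 344064 = true :=
  allD_join chkP_13_42 chkP_13_43 (by norm_num)
theorem chkP_14_22 : allD P.chkPt 14 360448 = true :=
  allD_join chkP_13_44 chkP_13_45 (by norm_num)
theorem chkP_14_23 : allD P.chkPt 14 376832 = true :=
  allD_join chkP_13_46 chkP_13_47 (by norm_num)
theorem chkP_14_24 : allD P.chkPt 14 393216 = true :=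
  allD_join chkP_13_48 chkP_13_49 (by norm_num)
theorem chkP_14_25 : allD P.chkPt 14 409600 = true :=
  allD_join chkP_13_50 chkP_13_51 (by norm_num)
theorem chkP_14_26 : allD P.chkPt 14 425984 = true :=
  allD_join chkP_13_52 chkP_13_53 (by norm_num)
theorem chkP_14_27 : allD P.chkPt 14 442368 = true :=
  allD_join chkP_13_54 chkP_13_55 (by norm_num)
theorem chkP_14_28 : allD P.chkPt 14 458752 = true :=
  allD_join chkP_13_56 chkP_13_57 (by norm_num)
theorem chkP_14_29 : allD P.chkPt 14 475136 = true :=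
  allD_join chkP_13_58 chkP_13_59 (by norm_num)
theorem chkP_14_30 : allD P.chkPt 14 491520 = true :=
  allD_join chkP_13_60 chkP_13_61 (by norm_num)
theorem chkP_14_31 : allD P.chkPt 14 507904 = true :=
  allD_join chkP_13_62 chkP_13_63 (by norm_num)
theorem chkP_15_0 : allD P.chkPt 15 0 = true :=
  allD_join chkP_14_0 chkP_14_1 (by norm_num)
theorem chkP_15_1 : allD P.chkPt 15 32768 = true :=
  allD_join chkP_14_2 chkP_14_3 (by norm_num)
theorem chkP_15_2 : allD P.chkPt 15 65536 = true :=
  allD_join chkP_14_4 chkP_14_5 (by norm_num)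
theorem chkP_15_3 : allD P.chkPt 15 98304 = true :=
  allD_join chkP_14_6 chkP_14_7 (by norm_num)
theorem chkP_15_4 : allD P.chkPt 15 131072 = true :=
  allD_join chkP_14_8 chkP_14_9 (by norm_num)
theorem chkP_15_5 : allD P.chkPt 15 163840 = true :=
  allD_join chkP_14_10 chkP_14_11 (by norm_num)
theorem chkP_15_6 : allD P.chkPt 15 196608 = true :=
  allD_join chkP_14_12 chkP_14_13 (by norm_num)
theorem chkP_15_7 : allD P.chkPt 15 229376 = true :=
  allD_join chkP_14_14 chkP_14_15 (by norm_num)
theorem chkP_15_8 : allD P.chkPt 15 262144 = true :=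
  allD_join chkP_14_16 chkP_14_17 (by norm_num)
theorem chkP_15_9 : allD P.chkPt 15 294912 = true :=
  allD_join chkP_14_18 chkP_14_19 (by norm_num)
theorem chkP_15_10 : allD P.chkPt 15 327680 = true :=
  allD_join chkP_14_20 chkP_14_21 (by norm_num)
theorem chkP_15_11 : allD P.chkPt 15 360448 = true :=
  allD_join chkP_14_22 chkP_14_23 (by norm_num)
theorem chkP_15_12 : allD P.chkPt 15 393216 = true :=
  allD_join chkP_14_24 chkP_14_25 (by norm_num)
theorem chkP_15_13 : allD P.chkPt 15 425984 = true :=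
  allD_join chkP_14_26 chkP_14_27 (by norm_num)
theorem chkP_15_14 : allD P.chkPt 15 458752 = true :=
  allD_join chkP_14_28 chkP_14_29 (by norm_num)
theorem chkP_15_15 : allD P.chkPt 15 491520 = true :=
  allD_join chkP_14_30 chkP_14_31 (by norm_num)
theorem chkP_16_0 : allD P.chkPt 16 0 = true :=
  allD_join chkP_15_0 chkP_15_1 (by norm_num)
theorem chkP_16_1 : allD P.chkPt 16 65536 = true :=
  allD_join chkP_15_2 chkP_15_3 (by norm_num)
theorem chkP_16_2 : allD P.chkPt 16 131072 = true :=
  allD_join chkP_15_4 chkP_15_5 (by norm_num)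
theorem chkP_16_3 : allD P.chkPt 16 196608 = true :=
  allD_join chkP_15_6 chkP_15_7 (by norm_num)
theorem chkP_16_4 : allD P.chkPt 16 262144 = true :=
  allD_join chkP_15_8 chkP_15_9 (by norm_num)
theorem chkP_16_5 : allD P.chkPt 16 327680 = true :=
  allD_join chkP_15_10 chkP_15_11 (by norm_num)
theorem chkP_16_6 : allD P.chkPt 16 393216 = true :=
  allD_join chkP_15_12 chkP_15_13 (by norm_num)
theorem chkP_16_7 : allD P.chkPt 16 458752 = true :=
  allD_join chkP_15_14 chkP_15_15 (by norm_num)
theorem chkP_17_0 : allD P.chkPt 17 0 = true :=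
  allD_join chkP_16_0 chkP_16_1 (by norm_num)
theorem chkP_17_1 : allD P.chkPt 17 131072 = true :=
  allD_join chkP_16_2 chkP_16_3 (by norm_num)
theorem chkP_17_2 : allD P.chkPt 17 262144 = true :=
  allD_join chkP_16_4 chkP_16_5 (by norm_num)
theorem chkP_17_3 : allD P.chkPt 17 393216 = true :=
  allD_join chkP_16_6 chkP_16_7 (by norm_num)
theorem chkP_18_0 : allD P.chkPt 18 0 = true :=
  allD_join chkP_17_0 chkP_17_1 (by norm_num)
theorem chkP_18_1 : allD P.chkPt 18 262144 = true :=
  allD_join chkP_17_2 chkP_17_3 (by norm_num)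
theorem chkP_19_0 : allD P.chkPt 19 0 = true :=
  allD_join chkP_18_0 chkP_18_1 (by norm_num)
theorem chkO_12_0 : allD P.chkOrb 12 0 = true :=
  allD_join chkO_11_0 chkO_11_1 (by norm_num)
theorem chkO_12_1 : allD P.chkOrb 12 4096 = true :=
  allD_join chkO_11_2 chkO_11_3 (by norm_num)
theorem chkO_12_2 : allD P.chkOrb 12 8192 = true :=
  allD_join chkO_11_4 chkO_11_5 (by norm_num)
theorem chkO_12_3 : allD P.chkOrb 12 12288 = true :=
  allD_join chkO_11_6 chkO_11_7 (by norm_num)
theorem chkO_12_4 : allD P.chkOrb 12 16384 = true :=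
  allD_join chkO_11_8 chkO_11_9 (by norm_num)
theorem chkO_12_5 : allD P.chkOrb 12 20480 = true :=
  allD_join chkO_11_10 chkO_11_11 (by norm_num)
theorem chkO_12_6 : allD P.chkOrb 12 24576 = true :=
  allD_join chkO_11_12 chkO_11_13 (by norm_num)
theorem chkO_12_7 : allD P.chkOrb 12 28672 = true :=
  allD_join chkO_11_14 chkO_11_15 (by norm_num)
theorem chkO_12_8 : allD P.chkOrb 12 32768 = true :=
  allD_join chkO_11_16 chkO_11_17 (by norm_num)
theorem chkO_12_9 : allD P.chkOrb 12 36864 = true :=
  allD_join chkO_11_18 chkO_11_19 (by norm_num)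
theorem chkO_12_10 : allD P.chkOrb 12 40960 = true :=
  allD_join chkO_11_20 chkO_11_21 (by norm_num)
theorem chkO_12_11 : allD P.chkOrb 12 45056 = true :=
  allD_join chkO_11_22 chkO_11_23 (by norm_num)
theorem chkO_12_12 : allD P.chkOrb 12 49152 = true :=
  allD_join chkO_11_24 chkO_11_25 (by norm_num)
theorem chkO_12_13 : allD P.chkOrb 12 53248 = true :=
  allD_join chkO_11_26 chkO_11_27 (by norm_num)
theorem chkO_12_14 : allD P.chkOrb 12 57344 = true :=
  allD_join chkO_11_28 chkO_11_29 (by norm_num)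
theorem chkO_12_15 : allD P.chkOrb 12 61440 = true :=
  allD_join chkO_11_30 chkO_11_31 (by norm_num)
theorem chkO_12_16 : allD P.chkOrb 12 65536 = true :=
  allD_join chkO_11_32 chkO_11_33 (by norm_num)
theorem chkO_12_17 : allD P.chkOrb 12 69632 = true :=
  allD_join chkO_11_34 chkO_11_35 (by norm_num)
theorem chkO_12_18 : allD P.chkOrb 12 73728 = true :=
  allD_join chkO_11_36 chkO_11_37 (by norm_num)
theorem chkO_12_19 : allD P.chkOrb 12 77824 = true :=
  allD_join chkO_11_38 chkO_11_39 (by norm_num)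
theorem chkO_12_20 : allD P.chkOrb 12 81920 = true :=
  allD_join chkO_11_40 chkO_11_41 (by norm_num)
theorem chkO_12_21 : allD P.chkOrb 12 86016 = true :=
  allD_join chkO_11_42 chkO_11_43 (by norm_num)
theorem chkO_12_22 : allD P.chkOrb 12 90112 = true :=
  allD_join chkO_11_44 chkO_11_45 (by norm_num)
theorem chkO_12_23 : allD P.chkOrb 12 94208 = true :=
  allD_join chkO_11_46 chkO_11_47 (by norm_num)
theorem chkO_12_24 : allD P.chkOrb 12 98304 = true :=
  allD_join chkO_11_48 chkO_11_49 (by norm_num)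
theorem chkO_12_25 : allD P.chkOrb 12 102400 = true :=
  allD_join chkO_11_50 chkO_11_51 (by norm_num)
theorem chkO_12_26 : allD P.chkOrb 12 106496 = true :=
  allD_join chkO_11_52 chkO_11_53 (by norm_num)
theorem chkO_12_27 : allD P.chkOrb 12 110592 = true :=
  allD_join chkO_11_54 chkO_11_55 (by norm_num)
theorem chkO_12_28 : allD P.chkOrb 12 114688 = true :=
  allD_join chkO_11_56 chkO_11_57 (by norm_num)
theorem chkO_12_29 : allD P.chkOrb 12 118784 = true :=
  allD_join chkO_11_58 chkO_11_59 (by norm_num)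
theorem chkO_12_30 : allD P.chkOrb 12 122880 = true :=
  allD_join chkO_11_60 chkO_11_61 (by norm_num)
theorem chkO_12_31 : allD P.chkOrb 12 126976 = true :=
  allD_join chkO_11_62 chkO_11_63 (by norm_num)
theorem chkO_12_32 : allD P.chkOrb 12 131072 = true :=
  allD_join chkO_11_64 chkO_11_65 (by norm_num)
theorem chkO_12_33 : allD P.chkOrb 12 135168 = true :=
  allD_join chkO_11_66 chkO_11_67 (by norm_num)
theorem chkO_12_34 : allD P.chkOrb 12 139264 = true :=
  allD_join chkO_11_68 chkO_11_69 (by norm_num)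
theorem chkO_12_35 : allD P.chkOrb 12 143360 = true :=
  allD_join chkO_11_70 chkO_11_71 (by norm_num)
theorem chkO_12_36 : allD P.chkOrb 12 147456 = true :=
  allD_join chkO_11_72 chkO_11_73 (by norm_num)
theorem chkO_12_37 : allD P.chkOrb 12 151552 = true :=
  allD_join chkO_11_74 chkO_11_75 (by norm_num)
theorem chkO_12_38 : allD P.chkOrb 12 155648 = true :=
  allD_join chkO_11_76 chkO_11_77 (by norm_num)
theorem chkO_12_39 : allD P.chkOrb 12 159744 = true :=
  allD_join chkO_11_78 chkO_11_79 (by norm_num)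
theorem chkO_12_40 : allD P.chkOrb 12 163840 = true :=
  allD_join chkO_11_80 chkO_11_81 (by norm_num)
theorem chkO_12_41 : allD P.chkOrb 12 167936 = true :=
  allD_join chkO_11_82 chkO_11_83 (by norm_num)
theorem chkO_12_42 : allD P.chkOrb 12 172032 = true :=
  allD_join chkO_11_84 chkO_11_85 (by norm_num)
theorem chkO_12_43 : allD P.chkOrb 12 176128 = true :=
  allD_join chkO_11_86 chkO_11_87 (by norm_num)
theorem chkO_12_44 : allD P.chkOrb 12 180224 = true :=
  allD_join chkO_11_88 chkO_11_89 (by norm_num)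
theorem chkO_12_45 : allD P.chkOrb 12 184320 = true :=
  allD_join chkO_11_90 chkO_11_91 (by norm_num)
theorem chkO_12_46 : allD P.chkOrb 12 188416 = true :=
  allD_join chkO_11_92 chkO_11_93 (by norm_num)
theorem chkO_12_47 : allD P.chkOrb 12 192512 = true :=
  allD_join chkO_11_94 chkO_11_95 (by norm_num)
theorem chkO_12_48 : allD P.chkOrb 12 196608 = true :=
  allD_join chkO_11_96 chkO_11_97 (by norm_num)
theorem chkO_12_49 : allD P.chkOrb 12 200704 = true :=
  allD_join chkO_11_98 chkO_11_99 (by norm_num)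
theorem chkO_12_50 : allD P.chkOrb 12 204800 = true :=
  allD_join chkO_11_100 chkO_11_101 (by norm_num)
theorem chkO_12_51 : allD P.chkOrb 12 208896 = true :=
  allD_join chkO_11_102 chkO_11_103 (by norm_num)
theorem chkO_12_52 : allD P.chkOrb 12 212992 = true :=
  allD_join chkO_11_104 chkO_11_105 (by norm_num)
theorem chkO_12_53 : allD P.chkOrb 12 217088 = true :=
  allD_join chkO_11_106 chkO_11_107 (by norm_num)
theorem chkO_12_54 : allD P.chkOrb 12 221184 = true :=
  allD_join chkO_11_108 chkO_11_109 (by norm_num)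
theorem chkO_12_55 : allD P.chkOrb 12 225280 = true :=
  allD_join chkO_11_110 chkO_11_111 (by norm_num)
theorem chkO_12_56 : allD P.chkOrb 12 229376 = true :=
  allD_join chkO_11_112 chkO_11_113 (by norm_num)
theorem chkO_12_57 : allD P.chkOrb 12 233472 = true :=
  allD_join chkO_11_114 chkO_11_115 (by norm_num)
theorem chkO_12_58 : allD P.chkOrb 12 237568 = true :=
  allD_join chkO_11_116 chkO_11_117 (by norm_num)
theorem chkO_12_59 : allD P.chkOrb 12 241664 = true :=
  allD_join chkO_11_118 chkO_11_119 (by norm_num)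
theorem chkO_12_60 : allD P.chkOrb 12 245760 = true :=
  allD_join chkO_11_120 chkO_11_121 (by norm_num)
theorem chkO_12_61 : allD P.chkOrb 12 249856 = true :=
  allD_join chkO_11_122 chkO_11_123 (by norm_num)
theorem chkO_12_62 : allD P.chkOrb 12 253952 = true :=
  allD_join chkO_11_124 chkO_11_125 (by norm_num)
theorem chkO_12_63 : allD P.chkOrb 12 258048 = true :=
  allD_join chkO_11_126 chkO_11_127 (by norm_num)
theorem chkO_12_64 : allD P.chkOrb 12 262144 = true :=
  allD_join chkO_11_128 chkO_11_129 (by norm_num)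
theorem chkO_12_65 : allD P.chkOrb 12 266240 = true :=
  allD_join chkO_11_130 chkO_11_131 (by norm_num)
theorem chkO_12_66 : allD P.chkOrb 12 270336 = true :=
  allD_join chkO_11_132 chkO_11_133 (by norm_num)
theorem chkO_12_67 : allD P.chkOrb 12 274432 = true :=
  allD_join chkO_11_134 chkO_11_135 (by norm_num)
theorem chkO_12_68 : allD P.chkOrb 12 278528 = true :=
  allD_join chkO_11_136 chkO_11_137 (by norm_num)
theorem chkO_12_69 : allD P.chkOrb 12 282624 = true :=
  allD_join chkO_11_138 chkO_11_139 (by norm_num)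
theorem chkO_12_70 : allD P.chkOrb 12 286720 = true :=
  allD_join chkO_11_140 chkO_11_141 (by norm_num)
theorem chkO_12_71 : allD P.chkOrb 12 290816 = true :=
  allD_join chkO_11_142 chkO_11_143 (by norm_num)
theorem chkO_12_72 : allD P.chkOrb 12 294912 = true :=
  allD_join chkO_11_144 chkO_11_145 (by norm_num)
theorem chkO_12_73 : allD P.chkOrb 12 299008 = true :=
  allD_join chkO_11_146 chkO_11_147 (by norm_num)
theorem chkO_12_74 : allD P.chkOrb 12 303104 = true :=
  allD_join chkO_11_148 chkO_11_149 (by norm_num)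
theorem chkO_12_75 : allD P.chkOrb 12 307200 = true :=
  allD_join chkO_11_150 chkO_11_151 (by norm_num)
theorem chkO_12_76 : allD P.chkOrb 12 311296 = true :=
  allD_join chkO_11_152 chkO_11_153 (by norm_num)
theorem chkO_12_77 : allD P.chkOrb 12 315392 = true :=
  allD_join chkO_11_154 chkO_11_155 (by norm_num)
theorem chkO_12_78 : allD P.chkOrb 12 319488 = true :=
  allD_join chkO_11_156 chkO_11_157 (by norm_num)
theorem chkO_12_79 : allD P.chkOrb 12 323584 = true :=
  allD_join chkO_11_158 chkO_11_159 (by norm_num)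
theorem chkO_12_80 : allD P.chkOrb 12 327680 = true :=
  allD_join chkO_11_160 chkO_11_161 (by norm_num)
theorem chkO_12_81 : allD P.chkOrb 12 331776 = true :=
  allD_join chkO_11_162 chkO_11_163 (by norm_num)
theorem chkO_12_82 : allD P.chkOrb 12 335872 = true :=
  allD_join chkO_11_164 chkO_11_165 (by norm_num)
theorem chkO_12_83 : allD P.chkOrb 12 339968 = true :=
  allD_join chkO_11_166 chkO_11_167 (by norm_num)
theorem chkO_12_84 : allD P.chkOrb 12 344064 = true :=
  allD_join chkO_11_168 chkO_11_169 (by norm_num)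
theorem chkO_12_85 : allD P.chkOrb 12 348160 = true :=
  allD_join chkO_11_170 chkO_11_171 (by norm_num)
theorem chkO_12_86 : allD P.chkOrb 12 352256 = true :=
  allD_join chkO_11_172 chkO_11_173 (by norm_num)
theorem chkO_12_87 : allD P.chkOrb 12 356352 = true :=
  allD_join chkO_11_174 chkO_11_175 (by norm_num)
theorem chkO_12_88 : allD P.chkOrb 12 360448 = true :=
  allD_join chkO_11_176 chkO_11_177 (by norm_num)
theorem chkO_12_89 : allD P.chkOrb 12 364544 = true :=
  allD_join chkO_11_178 chkO_11_179 (by norm_num)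
theorem chkO_12_90 : allD P.chkOrb 12 368640 = true :=
  allD_join chkO_11_180 chkO_11_181 (by norm_num)
theorem chkO_12_91 : allD P.chkOrb 12 372736 = true :=
  allD_join chkO_11_182 chkO_11_183 (by norm_num)
theorem chkO_12_92 : allD P.chkOrb 12 376832 = true :=
  allD_join chkO_11_184 chkO_11_185 (by norm_num)
theorem chkO_12_93 : allD P.chkOrb 12 380928 = true :=
  allD_join chkO_11_186 chkO_11_187 (by norm_num)
theorem chkO_12_94 : allD P.chkOrb 12 385024 = true :=
  allD_join chkO_11_188 chkO_11_189 (by norm_num)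
theorem chkO_12_95 : allD P.chkOrb 12 389120 = true :=
  allD_join chkO_11_190 chkO_11_191 (by norm_num)
theorem chkO_12_96 : allD P.chkOrb 12 393216 = true :=
  allD_join chkO_11_192 chkO_11_193 (by norm_num)
theorem chkO_12_97 : allD P.chkOrb 12 397312 = true :=
  allD_join chkO_11_194 chkO_11_195 (by norm_num)
theorem chkO_12_98 : allD P.chkOrb 12 401408 = true :=
  allD_join chkO_11_196 chkO_11_197 (by norm_num)
theorem chkO_12_99 : allD P.chkOrb 12 405504 = true :=
  allD_join chkO_11_198 chkO_11_199 (by norm_num)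
theorem chkO_12_100 : allD P.chkOrb 12 409600 = true :=
  allD_join chkO_11_200 chkO_11_201 (by norm_num)
theorem chkO_12_101 : allD P.chkOrb 12 413696 = true :=
  allD_join chkO_11_202 chkO_11_203 (by norm_num)
theorem chkO_12_102 : allD P.chkOrb 12 417792 = true :=
  allD_join chkO_11_204 chkO_11_205 (by norm_num)
theorem chkO_12_103 : allD P.chkOrb 12 421888 = true :=
  allD_join chkO_11_206 chkO_11_207 (by norm_num)
theorem chkO_12_104 : allD P.chkOrb 12 425984 = true :=
  allD_join chkO_11_208 chkO_11_209 (by norm_num)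
theorem chkO_12_105 : allD P.chkOrb 12 430080 = true :=
  allD_join chkO_11_210 chkO_11_211 (by norm_num)
theorem chkO_12_106 : allD P.chkOrb 12 434176 = true :=
  allD_join chkO_11_212 chkO_11_213 (by norm_num)
theorem chkO_12_107 : allD P.chkOrb 12 438272 = true :=
  allD_join chkO_11_214 chkO_11_215 (by norm_num)
theorem chkO_12_108 : allD P.chkOrb 12 442368 = true :=
  allD_join chkO_11_216 chkO_11_217 (by norm_num)
theorem chkO_12_109 : allD P.chkOrb 12 446464 = true :=
  allD_join chkO_11_218 chkO_11_219 (by norm_num)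
theorem chkO_12_110 : allD P.chkOrb 12 450560 = true :=
  allD_join chkO_11_220 chkO_11_221 (by norm_num)
theorem chkO_12_111 : allD P.chkOrb 12 454656 = true :=
  allD_join chkO_11_222 chkO_11_223 (by norm_num)
theorem chkO_12_112 : allD P.chkOrb 12 458752 = true :=
  allD_join chkO_11_224 chkO_11_225 (by norm_num)
theorem chkO_12_113 : allD P.chkOrb 12 462848 = true :=
  allD_join chkO_11_226 chkO_11_227 (by norm_num)
theorem chkO_12_114 : allD P.chkOrb 12 466944 = true :=
  allD_join chkO_11_228 chkO_11_229 (by norm_num)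
theorem chkO_12_115 : allD P.chkOrb 12 471040 = true :=
  allD_join chkO_11_230 chkO_11_231 (by norm_num)
theorem chkO_12_116 : allD P.chkOrb 12 475136 = true :=
  allD_join chkO_11_232 chkO_11_233 (by norm_num)
theorem chkO_12_117 : allD P.chkOrb 12 479232 = true :=
  allD_join chkO_11_234 chkO_11_235 (by norm_num)
theorem chkO_12_118 : allD P.chkOrb 12 483328 = true :=
  allD_join chkO_11_236 chkO_11_237 (by norm_num)
theorem chkO_12_119 : allD P.chkOrb 12 487424 = true :=
  allD_join chkO_11_238 chkO_11_239 (by norm_num)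
theorem chkO_12_120 : allD P.chkOrb 12 491520 = true :=
  allD_join chkO_11_240 chkO_11_241 (by norm_num)
theorem chkO_12_121 : allD P.chkOrb 12 495616 = true :=
  allD_join chkO_11_242 chkO_11_243 (by norm_num)
theorem chkO_12_122 : allD P.chkOrb 12 499712 = true :=
  allD_join chkO_11_244 chkO_11_245 (by norm_num)
theorem chkO_12_123 : allD P.chkOrb 12 503808 = true :=
  allD_join chkO_11_246 chkO_11_247 (by norm_num)
theorem chkO_12_124 : allD P.chkOrb 12 507904 = true :=
  allD_join chkO_11_248 chkO_11_249 (by norm_num)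
theorem chkO_12_125 : allD P.chkOrb 12 512000 = true :=
  allD_join chkO_11_250 chkO_11_251 (by norm_num)
theorem chkO_12_126 : allD P.chkOrb 12 516096 = true :=
  allD_join chkO_11_252 chkO_11_253 (by norm_num)
theorem chkO_12_127 : allD P.chkOrb 12 520192 = true :=
  allD_join chkO_11_254 chkO_11_255 (by norm_num)
theorem chkO_13_0 : allD P.chkOrb 13 0 = true :=
  allD_join chkO_12_0 chkO_12_1 (by norm_num)
theorem chkO_13_1 : allD P.chkOrb 13 8192 = true :=
  allD_join chkO_12_2 chkO_12_3 (by norm_num)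
theorem chkO_13_2 : allD P.chkOrb 13 16384 = true :=
  allD_join chkO_12_4 chkO_12_5 (by norm_num)
theorem chkO_13_3 : allD P.chkOrb 13 24576 = true :=
  allD_join chkO_12_6 chkO_12_7 (by norm_num)
theorem chkO_13_4 : allD P.chkOrb 13 32768 = true :=
  allD_join chkO_12_8 chkO_12_9 (by norm_num)
theorem chkO_13_5 : allD P.chkOrb 13 40960 = true :=
  allD_join chkO_12_10 chkO_12_11 (by norm_num)
theorem chkO_13_6 : allD P.chkOrb 13 49152 = true :=
  allD_join chkO_12_12 chkO_12_13 (by norm_num)
theorem chkO_13_7 : allD P.chkOrb 13 57344 = true :=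
  allD_join chkO_12_14 chkO_12_15 (by norm_num)
theorem chkO_13_8 : allD P.chkOrb 13 65536 = true :=
  allD_join chkO_12_16 chkO_12_17 (by norm_num)
theorem chkO_13_9 : allD P.chkOrb 13 73728 = true :=
  allD_join chkO_12_18 chkO_12_19 (by norm_num)
theorem chkO_13_10 : allD P.chkOrb 13 81920 = true :=
  allD_join chkO_12_20 chkO_12_21 (by norm_num)
theorem chkO_13_11 : allD P.chkOrb 13 90112 = true :=
  allD_join chkO_12_22 chkO_12_23 (by norm_num)
theorem chkO_13_12 : allD P.chkOrb 13 98304 = true :=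
  allD_join chkO_12_24 chkO_12_25 (by norm_num)
theorem chkO_13_13 : allD P.chkOrb 13 106496 = true :=
  allD_join chkO_12_26 chkO_12_27 (by norm_num)
theorem chkO_13_14 : allD P.chkOrb 13 114688 = true :=
  allD_join chkO_12_28 chkO_12_29 (by norm_num)
theorem chkO_13_15 : allD P.chkOrb 13 122880 = true :=
  allD_join chkO_12_30 chkO_12_31 (by norm_num)
theorem chkO_13_16 : allD P.chkOrb 13 131072 = true :=
  allD_join chkO_12_32 chkO_12_33 (by norm_num)
theorem chkO_13_17 : allD P.chkOrb 13 139264 = true :=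
  allD_join chkO_12_34 chkO_12_35 (by norm_num)
theorem chkO_13_18 : allD P.chkOrb 13 147456 = true :=
  allD_join chkO_12_36 chkO_12_37 (by norm_num)
theorem chkO_13_19 : allD P.chkOrb 13 155648 = true :=
  allD_join chkO_12_38 chkO_12_39 (by norm_num)
theorem chkO_13_20 : allD P.chkOrb 13 163840 = true :=
  allD_join chkO_12_40 chkO_12_41 (by norm_num)
theorem chkO_13_21 : allD P.chkOrb 13 172032 = true :=
  allD_join chkO_12_42 chkO_12_43 (by norm_num)
theorem chkO_13_22 : allD P.chkOrb 13 180224 = true :=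
  allD_join chkO_12_44 chkO_12_45 (by norm_num)
theorem chkO_13_23 : allD P.chkOrb 13 188416 = true :=
  allD_join chkO_12_46 chkO_12_47 (by norm_num)
theorem chkO_13_24 : allD P.chkOrb 13 196608 = true :=
  allD_join chkO_12_48 chkO_12_49 (by norm_num)
theorem chkO_13_25 : allD P.chkOrb 13 204800 = true :=
  allD_join chkO_12_50 chkO_12_51 (by norm_num)
theorem chkO_13_26 : allD P.chkOrb 13 212992 = true :=
  allD_join chkO_12_52 chkO_12_53 (by norm_num)
theorem chkO_13_27 : allD P.chkOrb 13 221184 = true :=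
  allD_join chkO_12_54 chkO_12_55 (by norm_num)
theorem chkO_13_28 : allD P.chkOrb 13 229376 = true :=
  allD_join chkO_12_56 chkO_12_57 (by norm_num)
theorem chkO_13_29 : allD P.chkOrb 13 237568 = true :=
  allD_join chkO_12_58 chkO_12_59 (by norm_num)
theorem chkO_13_30 : allD P.chkOrb 13 245760 = true :=
  allD_join chkO_12_60 chkO_12_61 (by norm_num)
theorem chkO_13_31 : allD P.chkOrb 13 253952 = true :=
  allD_join chkO_12_62 chkO_12_63 (by norm_num)
theorem chkO_13_32 : allD P.chkOrb 13 262144 = true :=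
  allD_join chkO_12_64 chkO_12_65 (by norm_num)
theorem chkO_13_33 : allD P.chkOrb 13 270336 = true :=
  allD_join chkO_12_66 chkO_12_67 (by norm_num)
theorem chkO_13_34 : allD P.chkOrb 13 278528 = true :=
  allD_join chkO_12_68 chkO_12_69 (by norm_num)
theorem chkO_13_35 : allD P.chkOrb 13 286720 = true :=
  allD_join chkO_12_70 chkO_12_71 (by norm_num)
theorem chkO_13_36 : allD P.chkOrb 13 294912 = true :=
  allD_join chkO_12_72 chkO_12_73 (by norm_num)
theorem chkO_13_37 : allD P.chkOrb 13 303104 = true :=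
  allD_join chkO_12_74 chkO_12_75 (by norm_num)
theorem chkO_13_38 : allD P.chkOrb 13 311296 = true :=
  allD_join chkO_12_76 chkO_12_77 (by norm_num)
theorem chkO_13_39 : allD P.chkOrb 13 319488 = true :=
  allD_join chkO_12_78 chkO_12_79 (by norm_num)
theorem chkO_13_40 : allD P.chkOrb 13 327680 = true :=
  allD_join chkO_12_80 chkO_12_81 (by norm_num)
theorem chkO_13_41 : allD P.chkOrb 13 335872 = true :=
  allD_join chkO_12_82 chkO_12_83 (by norm_num)
theorem chkO_13_42 : allD P.chkOrb 13 344064 = true :=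
  allD_join chkO_12_84 chkO_12_85 (by norm_num)
theorem chkO_13_43 : allD P.chkOrb 13 352256 = true :=
  allD_join chkO_12_86 chkO_12_87 (by norm_num)
theorem chkO_13_44 : allD P.chkOrb 13 360448 = true :=
  allD_join chkO_12_88 chkO_12_89 (by norm_num)
theorem chkO_13_45 : allD P.chkOrb 13 368640 = true :=
  allD_join chkO_12_90 chkO_12_91 (by norm_num)
theorem chkO_13_46 : allD P.chkOrb 13 376832 = true :=
  allD_join chkO_12_92 chkO_12_93 (by norm_num)
theorem chkO_13_47 : allD P.chkOrb 13 385024 = true :=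
  allD_join chkO_12_94 chkO_12_95 (by norm_num)
theorem chkO_13_48 : allD P.chkOrb 13 393216 = true :=
  allD_join chkO_12_96 chkO_12_97 (by norm_num)
theorem chkO_13_49 : allD P.chkOrb 13 401408 = true :=
  allD_join chkO_12_98 chkO_12_99 (by norm_num)
theorem chkO_13_50 : allD P.chkOrb 13 409600 = true :=
  allD_join chkO_12_100 chkO_12_101 (by norm_num)
theorem chkO_13_51 : allD P.chkOrb 13 417792 = true :=
  allD_join chkO_12_102 chkO_12_103 (by norm_num)
theorem chkO_13_52 : allD P.chkOrb 13 425984 = true :=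
  allD_join chkO_12_104 chkO_12_105 (by norm_num)
theorem chkO_13_53 : allD P.chkOrb 13 434176 = true :=
  allD_join chkO_12_106 chkO_12_107 (by norm_num)
theorem chkO_13_54 : allD P.chkOrb 13 442368 = true :=
  allD_join chkO_12_108 chkO_12_109 (by norm_num)
theorem chkO_13_55 : allD P.chkOrb 13 450560 = true :=
  allD_join chkO_12_110 chkO_12_111 (by norm_num)
theorem chkO_13_56 : allD P.chkOrb 13 458752 = true :=
  allD_join chkO_12_112 chkO_12_113 (by norm_num)
theorem chkO_13_57 : allD P.chkOrb 13 466944 = true :=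
  allD_join chkO_12_114 chkO_12_115 (by norm_num)
theorem chkO_13_58 : allD P.chkOrb 13 475136 = true :=
  allD_join chkO_12_116 chkO_12_117 (by norm_num)
theorem chkO_13_59 : allD P.chkOrb 13 483328 = true :=
  allD_join chkO_12_118 chkO_12_119 (by norm_num)
theorem chkO_13_60 : allD P.chkOrb 13 491520 = true :=
  allD_join chkO_12_120 chkO_12_121 (by norm_num)
theorem chkO_13_61 : allD P.chkOrb 13 499712 = true :=
  allD_join chkO_12_122 chkO_12_123 (by norm_num)
theorem chkO_13_62 : allD P.chkOrb 13 507904 = true :=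
  allD_join chkO_12_124 chkO_12_125 (by norm_num)
theorem chkO_13_63 : allD P.chkOrb 13 516096 = true :=
  allD_join chkO_12_126 chkO_12_127 (by norm_num)
theorem chkO_14_0 : allD P.chkOrb 14 0 = true :=
  allD_join chkO_13_0 chkO_13_1 (by norm_num)
theorem chkO_14_1 : allD P.chkOrb 14 16384 = true :=
  allD_join chkO_13_2 chkO_13_3 (by norm_num)
theorem chkO_14_2 : allD P.chkOrb 14 32768 = true :=
  allD_join chkO_13_4 chkO_13_5 (by norm_num)
theorem chkO_14_3 : allD P.chkOrb 14 49152 = true :=
  allD_join chkO_13_6 chkO_13_7 (by norm_num)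
theorem chkO_14_4 : allD P.chkOrb 14 65536 = true :=
  allD_join chkO_13_8 chkO_13_9 (by norm_num)
theorem chkO_14_5 : allD P.chkOrb 14 81920 = true :=
  allD_join chkO_13_10 chkO_13_11 (by norm_num)
theorem chkO_14_6 : allD P.chkOrb 14 98304 = true :=
  allD_join chkO_13_12 chkO_13_13 (by norm_num)
theorem chkO_14_7 : allD P.chkOrb 14 114688 = true :=
  allD_join chkO_13_14 chkO_13_15 (by norm_num)
theorem chkO_14_8 : allD P.chkOrb 14 131072 = true :=
  allD_join chkO_13_16 chkO_13_17 (by norm_num)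
theorem chkO_14_9 : allD P.chkOrb 14 147456 = true :=
  allD_join chkO_13_18 chkO_13_19 (by norm_num)
theorem chkO_14_10 : allD P.chkOrb 14 163840 = true :=
  allD_join chkO_13_20 chkO_13_21 (by norm_num)
theorem chkO_14_11 : allD P.chkOrb 14 180224 = true :=
  allD_join chkO_13_22 chkO_13_23 (by norm_num)
theorem chkO_14_12 : allD P.chkOrb 14 196608 = true :=
  allD_join chkO_13_24 chkO_13_25 (by norm_num)
theorem chkO_14_13 : allD P.chkOrb 14 212992 = true :=
  allD_join chkO_13_26 chkO_13_27 (by norm_num)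
theorem chkO_14_14 : allD P.chkOrb 14 229376 = true :=
  allD_join chkO_13_28 chkO_13_29 (by norm_num)
theorem chkO_14_15 : allD P.chkOrb 14 245760 = true :=
  allD_join chkO_13_30 chkO_13_31 (by norm_num)
theorem chkO_14_16 : allD P.chkOrb 14 262144 = true :=
  allD_join chkO_13_32 chkO_13_33 (by norm_num)
theorem chkO_14_17 : allD P.chkOrb 14 278528 = true :=
  allD_join chkO_13_34 chkO_13_35 (by norm_num)
theorem chkO_14_18 : allD P.chkOrb 14 294912 = true :=
  allD_join chkO_13_36 chkO_13_37 (by norm_num)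
theorem chkO_14_19 : allD P.chkOrb 14 311296 = true :=
  allD_join chkO_13_38 chkO_13_39 (by norm_num)
theorem chkO_14_20 : allD P.chkOrb 14 327680 = true :=
  allD_join chkO_13_40 chkO_13_41 (by norm_num)
theorem chkO_14_21 : allD P.chkOrb 14 344064 = true :=
  allD_join chkO_13_42 chkO_13_43 (by norm_num)
theorem chkO_14_22 : allD P.chkOrb 14 360448 = true :=
  allD_join chkO_13_44 chkO_13_45 (by norm_num)
theorem chkO_14_23 : allD P.chkOrb 14 376832 = true :=
  allD_join chkO_13_46 chkO_13_47 (by norm_num)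
theorem chkO_14_24 : allD P.chkOrb 14 393216 = true :=
  allD_join chkO_13_48 chkO_13_49 (by norm_num)
theorem chkO_14_25 : allD P.chkOrb 14 409600 = true :=
  allD_join chkO_13_50 chkO_13_51 (by norm_num)
theorem chkO_14_26 : allD P.chkOrb 14 425984 = true :=
  allD_join chkO_13_52 chkO_13_53 (by norm_num)
theorem chkO_14_27 : allD P.chkOrb 14 442368 = true :=
  allD_join chkO_13_54 chkO_13_55 (by norm_num)
theorem chkO_14_28 : allD P.chkOrb 14 458752 = true :=
  allD_join chkO_13_56 chkO_13_57 (by norm_num)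
theorem chkO_14_29 : allD P.chkOrb 14 475136 = true :=
  allD_join chkO_13_58 chkO_13_59 (by norm_num)
theorem chkO_14_30 : allD P.chkOrb 14 491520 = true :=
  allD_join chkO_13_60 chkO_13_61 (by norm_num)
theorem chkO_14_31 : allD P.chkOrb 14 507904 = true :=
  allD_join chkO_13_62 chkO_13_63 (by norm_num)
theorem chkO_15_0 : allD P.chkOrb 15 0 = true :=
  allD_join chkO_14_0 chkO_14_1 (by norm_num)
theorem chkO_15_1 : allD P.chkOrb 15 32768 = true :=
  allD_join chkO_14_2 chkO_14_3 (by norm_num)
theorem chkO_15_2 : allD P.chkOrb 15 65536 = true :=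
  allD_join chkO_14_4 chkO_14_5 (by norm_num)
theorem chkO_15_3 : allD P.chkOrb 15 98304 = true :=
  allD_join chkO_14_6 chkO_14_7 (by norm_num)
theorem chkO_15_4 : allD P.chkOrb 15 131072 = true :=
  allD_join chkO_14_8 chkO_14_9 (by norm_num)
theorem chkO_15_5 : allD P.chkOrb 15 163840 = true :=
  allD_join chkO_14_10 chkO_14_11 (by norm_num)
theorem chkO_15_6 : allD P.chkOrb 15 196608 = true :=
  allD_join chkO_14_12 chkO_14_13 (by norm_num)
theorem chkO_15_7 : allD P.chkOrb 15 229376 = true :=
  allD_join chkO_14_14 chkO_14_15 (by norm_num)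
theorem chkO_15_8 : allD P.chkOrb 15 262144 = true :=
  allD_join chkO_14_16 chkO_14_17 (by norm_num)
theorem chkO_15_9 : allD P.chkOrb 15 294912 = true :=
  allD_join chkO_14_18 chkO_14_19 (by norm_num)
theorem chkO_15_10 : allD P.chkOrb 15 327680 = true :=
  allD_join chkO_14_20 chkO_14_21 (by norm_num)
theorem chkO_15_11 : allD P.chkOrb 15 360448 = true :=
  allD_join chkO_14_22 chkO_14_23 (by norm_num)
theorem chkO_15_12 : allD P.chkOrb 15 393216 = true :=
  allD_join chkO_14_24 chkO_14_25 (by norm_num)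
theorem chkO_15_13 : allD P.chkOrb 15 425984 = true :=
  allD_join chkO_14_26 chkO_14_27 (by norm_num)
theorem chkO_15_14 : allD P.chkOrb 15 458752 = true :=
  allD_join chkO_14_28 chkO_14_29 (by norm_num)
theorem chkO_15_15 : allD P.chkOrb 15 491520 = true :=
  allD_join chkO_14_30 chkO_14_31 (by norm_num)
theorem chkO_16_0 : allD P.chkOrb 16 0 = true :=
  allD_join chkO_15_0 chkO_15_1 (by norm_num)
theorem chkO_16_1 : allD P.chkOrb 16 65536 = true :=
  allD_join chkO_15_2 chkO_15_3 (by norm_num)
theorem chkO_16_2 : allD P.chkOrb 16 131072 = true :=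
  allD_join chkO_15_4 chkO_15_5 (by norm_num)
theorem chkO_16_3 : allD P.chkOrb 16 196608 = true :=
  allD_join chkO_15_6 chkO_15_7 (by norm_num)
theorem chkO_16_4 : allD P.chkOrb 16 262144 = true :=
  allD_join chkO_15_8 chkO_15_9 (by norm_num)
theorem chkO_16_5 : allD P.chkOrb 16 327680 = true :=
  allD_join chkO_15_10 chkO_15_11 (by norm_num)
theorem chkO_16_6 : allD P.chkOrb 16 393216 = true :=
  allD_join chkO_15_12 chkO_15_13 (by norm_num)
theorem chkO_16_7 : allD P.chkOrb 16 458752 = true :=
  allD_join chkO_15_14 chkO_15_15 (by norm_num)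
theorem chkO_17_0 : allD P.chkOrb 17 0 = true :=
  allD_join chkO_16_0 chkO_16_1 (by norm_num)
theorem chkO_17_1 : allD P.chkOrb 17 131072 = true :=
  allD_join chkO_16_2 chkO_16_3 (by norm_num)
theorem chkO_17_2 : allD P.chkOrb 17 262144 = true :=
  allD_join chkO_16_4 chkO_16_5 (by norm_num)
theorem chkO_17_3 : allD P.chkOrb 17 393216 = true :=
  allD_join chkO_16_6 chkO_16_7 (by norm_num)
theorem chkO_18_0 : allD P.chkOrb 18 0 = true :=
  allD_join chkO_17_0 chkO_17_1 (by norm_num)
theorem chkO_18_1 : allD P.chkOrb 18 262144 = true :=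
  allD_join chkO_17_2 chkO_17_3 (by norm_num)
theorem chkO_19_0 : allD P.chkOrb 19 0 = true :=
  allD_join chkO_18_0 chkO_18_1 (by norm_num)
theorem cntO0_15_0 : cntD (P.labIs 0) 15 0 = 1 :=
  cntD_join cntO0_14_0 cntO0_14_1 (by norm_num) (by norm_num)
theorem cntO0_15_1 : cntD (P.labIs 0) 15 32768 = 0 :=
  cntD_join cntO0_14_2 cntO0_14_3 (by norm_num) (by norm_num)
theorem cntO0_15_2 : cntD (P.labIs 0) 15 65536 = 0 :=
  cntD_join cntO0_14_4 cntO0_14_5 (by norm_num) (by norm_num)
theorem cntO0_15_3 : cntD (P.labIs 0) 15 98304 = 0 :=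
  cntD_join cntO0_14_6 cntO0_14_7 (by norm_num) (by norm_num)
theorem cntO0_15_4 : cntD (P.labIs 0) 15 131072 = 0 :=
  cntD_join cntO0_14_8 cntO0_14_9 (by norm_num) (by norm_num)
theorem cntO0_15_5 : cntD (P.labIs 0) 15 163840 = 0 :=
  cntD_join cntO0_14_10 cntO0_14_11 (by norm_num) (by norm_num)
theorem cntO0_15_6 : cntD (P.labIs 0) 15 196608 = 0 :=
  cntD_join cntO0_14_12 cntO0_14_13 (by norm_num) (by norm_num)
theorem cntO0_15_7 : cntD (P.labIs 0) 15 229376 = 0 :=
  cntD_join cntO0_14_14 cntO0_14_15 (by norm_num) (by norm_num)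
theorem cntO0_15_8 : cntD (P.labIs 0) 15 262144 = 0 :=
  cntD_join cntO0_14_16 cntO0_14_17 (by norm_num) (by norm_num)
theorem cntO0_15_9 : cntD (P.labIs 0) 15 294912 = 0 :=
  cntD_join cntO0_14_18 cntO0_14_19 (by norm_num) (by norm_num)
theorem cntO0_15_10 : cntD (P.labIs 0) 15 327680 = 0 :=
  cntD_join cntO0_14_20 cntO0_14_21 (by norm_num) (by norm_num)
theorem cntO0_15_11 : cntD (P.labIs 0) 15 360448 = 0 :=
  cntD_join cntO0_14_22 cntO0_14_23 (by norm_num) (by norm_num)
theorem cntO0_15_12 : cntD (P.labIs 0) 15 393216 = 0 :=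
  cntD_join cntO0_14_24 cntO0_14_25 (by norm_num) (by norm_num)
theorem cntO0_15_13 : cntD (P.labIs 0) 15 425984 = 0 :=
  cntD_join cntO0_14_26 cntO0_14_27 (by norm_num) (by norm_num)
theorem cntO0_15_14 : cntD (P.labIs 0) 15 458752 = 0 :=
  cntD_join cntO0_14_28 cntO0_14_29 (by norm_num) (by norm_num)
theorem cntO0_15_15 : cntD (P.labIs 0) 15 491520 = 0 :=
  cntD_join cntO0_14_30 cntO0_14_31 (by norm_num) (by norm_num)
theorem cntO0_16_0 : cntD (P.labIs 0) 16 0 = 1 :=
  cntD_join cntO0_15_0 cntO0_15_1 (by norm_num) (by norm_num)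
theorem cntO0_16_1 : cntD (P.labIs 0) 16 65536 = 0 :=
  cntD_join cntO0_15_2 cntO0_15_3 (by norm_num) (by norm_num)
theorem cntO0_16_2 : cntD (P.labIs 0) 16 131072 = 0 :=
  cntD_join cntO0_15_4 cntO0_15_5 (by norm_num) (by norm_num)
theorem cntO0_16_3 : cntD (P.labIs 0) 16 196608 = 0 :=
  cntD_join cntO0_15_6 cntO0_15_7 (by norm_num) (by norm_num)
theorem cntO0_16_4 : cntD (P.labIs 0) 16 262144 = 0 :=
  cntD_join cntO0_15_8 cntO0_15_9 (by norm_num) (by norm_num)
theorem cntO0_16_5 : cntD (P.labIs 0) 16 327680 = 0 :=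
  cntD_join cntO0_15_10 cntO0_15_11 (by norm_num) (by norm_num)
theorem cntO0_16_6 : cntD (P.labIs 0) 16 393216 = 0 :=
  cntD_join cntO0_15_12 cntO0_15_13 (by norm_num) (by norm_num)
theorem cntO0_16_7 : cntD (P.labIs 0) 16 458752 = 0 :=
  cntD_join cntO0_15_14 cntO0_15_15 (by norm_num) (by norm_num)
theorem cntO0_17_0 : cntD (P.labIs 0) 17 0 = 1 :=
  cntD_join cntO0_16_0 cntO0_16_1 (by norm_num) (by norm_num)
theorem cntO0_17_1 : cntD (P.labIs 0) 17 131072 = 0 :=
  cntD_join cntO0_16_2 cntO0_16_3 (by norm_num) (by norm_num)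
theorem cntO0_17_2 : cntD (P.labIs 0) 17 262144 = 0 :=
  cntD_join cntO0_16_4 cntO0_16_5 (by norm_num) (by norm_num)
theorem cntO0_17_3 : cntD (P.labIs 0) 17 393216 = 0 :=
  cntD_join cntO0_16_6 cntO0_16_7 (by norm_num) (by norm_num)
theorem cntO0_18_0 : cntD (P.labIs 0) 18 0 = 1 :=
  cntD_join cntO0_17_0 cntO0_17_1 (by norm_num) (by norm_num)
theorem cntO0_18_1 : cntD (P.labIs 0) 18 262144 = 0 :=
  cntD_join cntO0_17_2 cntO0_17_3 (by norm_num) (by norm_num)
theorem cntO0_19_0 : cntD (P.labIs 0) 19 0 = 1 :=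
  cntD_join cntO0_18_0 cntO0_18_1 (by norm_num) (by norm_num)
theorem cntO1_15_0 : cntD (P.labIs 1) 15 0 = 25442 :=
  cntD_join cntO1_14_0 cntO1_14_1 (by norm_num) (by norm_num)
theorem cntO1_15_1 : cntD (P.labIs 1) 15 32768 = 27778 :=
  cntD_join cntO1_14_2 cntO1_14_3 (by norm_num) (by norm_num)
theorem cntO1_15_2 : cntD (P.labIs 1) 15 65536 = 28633 :=
  cntD_join cntO1_14_4 cntO1_14_5 (by norm_num) (by norm_num)
theorem cntO1_15_3 : cntD (P.labIs 1) 15 98304 = 29259 :=
  cntD_join cntO1_14_6 cntO1_14_7 (by norm_num) (by norm_num)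
theorem cntO1_15_4 : cntD (P.labIs 1) 15 131072 = 30910 :=
  cntD_join cntO1_14_8 cntO1_14_9 (by norm_num) (by norm_num)
theorem cntO1_15_5 : cntD (P.labIs 1) 15 163840 = 30290 :=
  cntD_join cntO1_14_10 cntO1_14_11 (by norm_num) (by norm_num)
theorem cntO1_15_6 : cntD (P.labIs 1) 15 196608 = 31597 :=
  cntD_join cntO1_14_12 cntO1_14_13 (by norm_num) (by norm_num)
theorem cntO1_15_7 : cntD (P.labIs 1) 15 229376 = 31391 :=
  cntD_join cntO1_14_14 cntO1_14_15 (by norm_num) (by norm_num)
theorem cntO1_15_8 : cntD (P.labIs 1) 15 262144 = 30509 :=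
  cntD_join cntO1_14_16 cntO1_14_17 (by norm_num) (by norm_num)
theorem cntO1_15_9 : cntD (P.labIs 1) 15 294912 = 9455 :=
  cntD_join cntO1_14_18 cntO1_14_19 (by norm_num) (by norm_num)
theorem cntO1_15_10 : cntD (P.labIs 1) 15 327680 = 0 :=
  cntD_join cntO1_14_20 cntO1_14_21 (by norm_num) (by norm_num)
theorem cntO1_15_11 : cntD (P.labIs 1) 15 360448 = 0 :=
  cntD_join cntO1_14_22 cntO1_14_23 (by norm_num) (by norm_num)
theorem cntO1_15_12 : cntD (P.labIs 1) 15 393216 = 0 :=
  cntD_join cntO1_14_24 cntO1_14_25 (by norm_num) (by norm_num)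
theorem cntO1_15_13 : cntD (P.labIs 1) 15 425984 = 0 :=
  cntD_join cntO1_14_26 cntO1_14_27 (by norm_num) (by norm_num)
theorem cntO1_15_14 : cntD (P.labIs 1) 15 458752 = 0 :=
  cntD_join cntO1_14_28 cntO1_14_29 (by norm_num) (by norm_num)
theorem cntO1_15_15 : cntD (P.labIs 1) 15 491520 = 0 :=
  cntD_join cntO1_14_30 cntO1_14_31 (by norm_num) (by norm_num)
theorem cntO1_16_0 : cntD (P.labIs 1) 16 0 = 53220 :=
  cntD_join cntO1_15_0 cntO1_15_1 (by norm_num) (by norm_num)
theorem cntO1_16_1 : cntD (P.labIs 1) 16 65536 = 57892 :=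
  cntD_join cntO1_15_2 cntO1_15_3 (by norm_num) (by norm_num)
theorem cntO1_16_2 : cntD (P.labIs 1) 16 131072 = 61200 :=
  cntD_join cntO1_15_4 cntO1_15_5 (by norm_num) (by norm_num)
theorem cntO1_16_3 : cntD (P.labIs 1) 16 196608 = 62988 :=
  cntD_join cntO1_15_6 cntO1_15_7 (by norm_num) (by norm_num)
theorem cntO1_16_4 : cntD (P.labIs 1) 16 262144 = 39964 :=
  cntD_join cntO1_15_8 cntO1_15_9 (by norm_num) (by norm_num)
theorem cntO1_16_5 : cntD (P.labIs 1) 16 327680 = 0 :=
  cntD_join cntO1_15_10 cntO1_15_11 (by norm_num) (by norm_num)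
theorem cntO1_16_6 : cntD (P.labIs 1) 16 393216 = 0 :=
  cntD_join cntO1_15_12 cntO1_15_13 (by norm_num) (by norm_num)
theorem cntO1_16_7 : cntD (P.labIs 1) 16 458752 = 0 :=
  cntD_join cntO1_15_14 cntO1_15_15 (by norm_num) (by norm_num)
theorem cntO1_17_0 : cntD (P.labIs 1) 17 0 = 111112 :=
  cntD_join cntO1_16_0 cntO1_16_1 (by norm_num) (by norm_num)
theorem cntO1_17_1 : cntD (P.labIs 1) 17 131072 = 124188 :=
  cntD_join cntO1_16_2 cntO1_16_3 (by norm_num) (by norm_num)
theorem cntO1_17_2 : cntD (P.labIs 1) 17 262144 = 39964 :=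
  cntD_join cntO1_16_4 cntO1_16_5 (by norm_num) (by norm_num)
theorem cntO1_17_3 : cntD (P.labIs 1) 17 393216 = 0 :=
  cntD_join cntO1_16_6 cntO1_16_7 (by norm_num) (by norm_num)
theorem cntO1_18_0 : cntD (P.labIs 1) 18 0 = 235300 :=
  cntD_join cntO1_17_0 cntO1_17_1 (by norm_num) (by norm_num)
theorem cntO1_18_1 : cntD (P.labIs 1) 18 262144 = 39964 :=
  cntD_join cntO1_17_2 cntO1_17_3 (by norm_num) (by norm_num)
theorem cntO1_19_0 : cntD (P.labIs 1) 19 0 = 275264 :=
  cntD_join cntO1_18_0 cntO1_18_1 (by norm_num) (by norm_num)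
theorem cntO2_15_0 : cntD (P.labIs 2) 15 0 = 7325 :=
  cntD_join cntO2_14_0 cntO2_14_1 (by norm_num) (by norm_num)
theorem cntO2_15_1 : cntD (P.labIs 2) 15 32768 = 4990 :=
  cntD_join cntO2_14_2 cntO2_14_3 (by norm_num) (by norm_num)
theorem cntO2_15_2 : cntD (P.labIs 2) 15 65536 = 4135 :=
  cntD_join cntO2_14_4 cntO2_14_5 (by norm_num) (by norm_num)
theorem cntO2_15_3 : cntD (P.labIs 2) 15 98304 = 3509 :=
  cntD_join cntO2_14_6 cntO2_14_7 (by norm_num) (by norm_num)
theorem cntO2_15_4 : cntD (P.labIs 2) 15 131072 = 1858 :=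
  cntD_join cntO2_14_8 cntO2_14_9 (by norm_num) (by norm_num)
theorem cntO2_15_5 : cntD (P.labIs 2) 15 163840 = 2478 :=
  cntD_join cntO2_14_10 cntO2_14_11 (by norm_num) (by norm_num)
theorem cntO2_15_6 : cntD (P.labIs 2) 15 196608 = 1171 :=
  cntD_join cntO2_14_12 cntO2_14_13 (by norm_num) (by norm_num)
theorem cntO2_15_7 : cntD (P.labIs 2) 15 229376 = 1377 :=
  cntD_join cntO2_14_14 cntO2_14_15 (by norm_num) (by norm_num)
theorem cntO2_15_8 : cntD (P.labIs 2) 15 262144 = 2259 :=
  cntD_join cntO2_14_16 cntO2_14_17 (by norm_num) (by norm_num)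
theorem cntO2_15_9 : cntD (P.labIs 2) 15 294912 = 2569 :=
  cntD_join cntO2_14_18 cntO2_14_19 (by norm_num) (by norm_num)
theorem cntO2_15_10 : cntD (P.labIs 2) 15 327680 = 0 :=
  cntD_join cntO2_14_20 cntO2_14_21 (by norm_num) (by norm_num)
theorem cntO2_15_11 : cntD (P.labIs 2) 15 360448 = 0 :=
  cntD_join cntO2_14_22 cntO2_14_23 (by norm_num) (by norm_num)
theorem cntO2_15_12 : cntD (P.labIs 2) 15 393216 = 0 :=
  cntD_join cntO2_14_24 cntO2_14_25 (by norm_num) (by norm_num)
theorem cntO2_15_13 : cntD (P.labIs 2) 15 425984 = 0 :=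
  cntD_join cntO2_14_26 cntO2_14_27 (by norm_num) (by norm_num)
theorem cntO2_15_14 : cntD (P.labIs 2) 15 458752 = 0 :=
  cntD_join cntO2_14_28 cntO2_14_29 (by norm_num) (by norm_num)
theorem cntO2_15_15 : cntD (P.labIs 2) 15 491520 = 0 :=
  cntD_join cntO2_14_30 cntO2_14_31 (by norm_num) (by norm_num)
theorem cntO2_16_0 : cntD (P.labIs 2) 16 0 = 12315 :=
  cntD_join cntO2_15_0 cntO2_15_1 (by norm_num) (by norm_num)
theorem cntO2_16_1 : cntD (P.labIs 2) 16 65536 = 7644 :=
  cntD_join cntO2_15_2 cntO2_15_3 (by norm_num) (by norm_num)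
theorem cntO2_16_2 : cntD (P.labIs 2) 16 131072 = 4336 :=
  cntD_join cntO2_15_4 cntO2_15_5 (by norm_num) (by norm_num)
theorem cntO2_16_3 : cntD (P.labIs 2) 16 196608 = 2548 :=
  cntD_join cntO2_15_6 cntO2_15_7 (by norm_num) (by norm_num)
theorem cntO2_16_4 : cntD (P.labIs 2) 16 262144 = 4828 :=
  cntD_join cntO2_15_8 cntO2_15_9 (by norm_num) (by norm_num)
theorem cntO2_16_5 : cntD (P.labIs 2) 16 327680 = 0 :=
  cntD_join cntO2_15_10 cntO2_15_11 (by norm_num) (by norm_num)
theorem cntO2_16_6 : cntD (P.labIs 2) 16 393216 = 0 :=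
  cntD_join cntO2_15_12 cntO2_15_13 (by norm_num) (by norm_num)
theorem cntO2_16_7 : cntD (P.labIs 2) 16 458752 = 0 :=
  cntD_join cntO2_15_14 cntO2_15_15 (by norm_num) (by norm_num)
theorem cntO2_17_0 : cntD (P.labIs 2) 17 0 = 19959 :=
  cntD_join cntO2_16_0 cntO2_16_1 (by norm_num) (by norm_num)
theorem cntO2_17_1 : cntD (P.labIs 2) 17 131072 = 6884 :=
  cntD_join cntO2_16_2 cntO2_16_3 (by norm_num) (by norm_num)
theorem cntO2_17_2 : cntD (P.labIs 2) 17 262144 = 4828 :=
  cntD_join cntO2_16_4 cntO2_16_5 (by norm_num) (by norm_num)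
theorem cntO2_17_3 : cntD (P.labIs 2) 17 393216 = 0 :=
  cntD_join cntO2_16_6 cntO2_16_7 (by norm_num) (by norm_num)
theorem cntO2_18_0 : cntD (P.labIs 2) 18 0 = 26843 :=
  cntD_join cntO2_17_0 cntO2_17_1 (by norm_num) (by norm_num)
theorem cntO2_18_1 : cntD (P.labIs 2) 18 262144 = 4828 :=
  cntD_join cntO2_17_2 cntO2_17_3 (by norm_num) (by norm_num)
theorem cntO2_19_0 : cntD (P.labIs 2) 19 0 = 31671 :=
  cntD_join cntO2_18_0 cntO2_18_1 (by norm_num) (by norm_num)

def extraExps : List (WExp Cfsg.Spor.Fi24.Gen) := [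
  (.mul (.of .l) (.inv (.pow (.mul (.mul (.mul (.mul (.mul (.mul (.of .a) (.of .b)) (.of .c)) (.of .d)) (.of .e)) (.of .f)) (.of .h)) 9))),
  (.pow (.mul (.mul (.mul (.mul (.mul (.mul (.mul (.mul (.mul (.mul (.mul (.mul (.mul (.of .d) (.of .c)) (.of .b)) (.of .a)) (.of .k)) (.of .l)) (.of .d)) (.of .e)) (.of .f)) (.of .g)) (.of .j)) (.of .d)) (.of .h)) (.of .i)) 17)]

def subExps : List (WExp Cfsg.Spor.Fi24.Gen) := [
  (.of .a),
  (.of .b),
  (.of .c),
  (.of .d),
  (.of .e),
  (.of .f),
  (.of .g),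
  (.of .h),
  (.of .i),
  (.of .j),
  (.of .l)]

def code : Cfsg.Spor.Fi24.Gen → ℕ
  | .l => 0
  | .k => 1
  | .a => 2
  | .b => 3
  | .c => 4
  | .d => 5
  | .e => 6
  | .f => 7
  | .g => 8
  | .j => 9
  | .h => 10
  | .i => 11

noncomputable def K : Pkg Cfsg.Spor.Fi24.Gen where
  rels := coxRelators Cfsg.Spor.Fi24.edges ∪ {r | r ∈ Cfsg.Spor.Fi24.extra}
  S := {Cfsg.Spor.Fi24.a, Cfsg.Spor.Fi24.b, Cfsg.Spor.Fi24.c, Cfsg.Spor.Fi24.d, Cfsg.Spor.Fi24.e, Cfsg.Spor.Fi24.f, Cfsg.Spor.Fi24.g, Cfsg.Spor.Fi24.h, Cfsg.Spor.Fi24.i, Cfsg.Spor.Fi24.j, Cfsg.Spor.Fi24.l}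
  relExps := coxExps Cfsg.Spor.Fi24.edges ++ extraExps
  subExps := subExps
  code := code
  letters := [FreeGroup.of Cfsg.Spor.Fi24.Gen.l, FreeGroup.of Cfsg.Spor.Fi24.Gen.k, FreeGroup.of Cfsg.Spor.Fi24.Gen.a, FreeGroup.of Cfsg.Spor.Fi24.Gen.b, FreeGroup.of Cfsg.Spor.Fi24.Gen.c, FreeGroup.of Cfsg.Spor.Fi24.Gen.d, FreeGroup.of Cfsg.Spor.Fi24.Gen.e, FreeGroup.of Cfsg.Spor.Fi24.Gen.f, FreeGroup.of Cfsg.Spor.Fi24.Gen.g, FreeGroup.of Cfsg.Spor.Fi24.Gen.j, FreeGroup.of Cfsg.Spor.Fi24.Gen.h, FreeGroup.of Cfsg.Spor.Fi24.Gen.i]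
  U := U
  rotT := tR
  rotSrc := rotSrc
  relWords := relWords
  P := P

theorem hS : ∀ s, s ∈ K.S ↔ ∃ e ∈ K.subExps, s = e.eval := by
  intro s
  constructor
  · intro hs
    have hs' : s ∈ ({Cfsg.Spor.Fi24.a, Cfsg.Spor.Fi24.b, Cfsg.Spor.Fi24.c, Cfsg.Spor.Fi24.d, Cfsg.Spor.Fi24.e, Cfsg.Spor.Fi24.f, Cfsg.Spor.Fi24.g, Cfsg.Spor.Fi24.h, Cfsg.Spor.Fi24.i, Cfsg.Spor.Fi24.j, Cfsg.Spor.Fi24.l} : Set (FreeGroup Cfsg.Spor.Fi24.Gen)) := hs
    simp only [Set.mem_insert_iff, Set.mem_singleton_iff] at hs'
    rcases hs' with rfl | rfl | rfl | rfl | rfl | rfl | rfl | rfl | rfl | rfl | rfl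
    · exact ⟨(.of .a), by simp [K, subExps], rfl⟩
    · exact ⟨(.of .b), by simp [K, subExps], rfl⟩
    · exact ⟨(.of .c), by simp [K, subExps], rfl⟩
    · exact ⟨(.of .d), by simp [K, subExps], rfl⟩
    · exact ⟨(.of .e), by simp [K, subExps], rfl⟩
    · exact ⟨(.of .f), by simp [K, subExps], rfl⟩
    · exact ⟨(.of .g), by simp [K, subExps], rfl⟩
    · exact ⟨(.of .h), by simp [K, subExps], rfl⟩
    · exact ⟨(.of .i), by simp [K, subExps], rfl⟩
    · exact ⟨(.of .j), by simp [K, subExps], rfl⟩
    · exact ⟨(.of .l), by simp [K, subExps], rfl⟩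
  · rintro ⟨e, he, rfl⟩
    have he' : e ∈ subExps := he
    simp only [subExps, List.mem_cons, List.not_mem_nil, or_false] at he'
    show e.eval ∈ ({Cfsg.Spor.Fi24.a, Cfsg.Spor.Fi24.b, Cfsg.Spor.Fi24.c, Cfsg.Spor.Fi24.d, Cfsg.Spor.Fi24.e, Cfsg.Spor.Fi24.f, Cfsg.Spor.Fi24.g, Cfsg.Spor.Fi24.h, Cfsg.Spor.Fi24.i, Cfsg.Spor.Fi24.j, Cfsg.Spor.Fi24.l} : Set (FreeGroup Cfsg.Spor.Fi24.Gen))
    rcases he' with rfl | rfl | rfl | rfl | rfl | rfl | rfl | rfl | rfl | rfl | rfl <;>
      simp only [WExp.eval, Set.mem_insert_iff, Set.mem_singleton_iff, true_or, or_true]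

theorem hsurj : ∀ l < K.P.L, ∃ x, l = K.code x ∨ l = K.P.iv (K.code x) := by
  intro l hl
  have hl' : l < 12 := hl
  interval_cases l
  · exact ⟨.l, Or.inl rfl⟩
  · exact ⟨.k, Or.inl rfl⟩
  · exact ⟨.a, Or.inl rfl⟩
  · exact ⟨.b, Or.inl rfl⟩
  · exact ⟨.c, Or.inl rfl⟩
  · exact ⟨.d, Or.inl rfl⟩
  · exact ⟨.e, Or.inl rfl⟩
  · exact ⟨.f, Or.inl rfl⟩
  · exact ⟨.g, Or.inl rfl⟩
  · exact ⟨.j, Or.inl rfl⟩
  · exact ⟨.h, Or.inl rfl⟩
  · exact ⟨.i, Or.inl rfl⟩

theorem hvalG_lt : ∀ l < K.P.L, K.valG (K.P.iv l) * K.valG l = 1 := by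
  intro l hl
  have hl' : l < 12 := hl
  interval_cases l
  · exact cox_sq Cfsg.Spor.Fi24.edges _ .l (by decide)
  · exact cox_sq Cfsg.Spor.Fi24.edges _ .k (by decide)
  · exact cox_sq Cfsg.Spor.Fi24.edges _ .a (by decide)
  · exact cox_sq Cfsg.Spor.Fi24.edges _ .b (by decide)
  · exact cox_sq Cfsg.Spor.Fi24.edges _ .c (by decide)
  · exact cox_sq Cfsg.Spor.Fi24.edges _ .d (by decide)
  · exact cox_sq Cfsg.Spor.Fi24.edges _ .e (by decide)
  · exact cox_sq Cfsg.Spor.Fi24.edges _ .f (by decide)
  · exact cox_sq Cfsg.Spor.Fi24.edges _ .g (by decide)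
  · exact cox_sq Cfsg.Spor.Fi24.edges _ .j (by decide)
  · exact cox_sq Cfsg.Spor.Fi24.edges _ .h (by decide)
  · exact cox_sq Cfsg.Spor.Fi24.edges _ .i (by decide)

theorem hP : K.P.Valid where
  hn := by decide
  hlen := rfl
  hiv := by decide
  hpt := all_of_allD _ 19 306936 (by norm_num) chkP_19_0
  hmacL := by decide
  hrelL := by decide

theorem ok : K.Ok where
  hrels := hrels_of Cfsg.Spor.Fi24.edges Cfsg.Spor.Fi24.extra extraExps rfl
  hS := hS
  hcodeL := by intro x; cases x <;> decide
  hletters := by intro x; cases x <;> rfl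
  hsurj := hsurj
  hvalG := Pkg.hvalG_of rfl rfl hvalG_lt
  hP := hP
  hpairs := by decide +kernel
  hsubsP := by decide +kernel
  hsub0 := by decide +kernel
  hUL := rfl
  hUN := by decide
  hrot := rfl
  hrotT := by decide +kernel
  hrelW := by decide +kernel
  hUsub := fun _ => rfl
  hchk := all_of_allD _ 19 353097 (by norm_num) chkU_19_0
  hcnt := by
    have h := card_filter_range U.live 19 353097 (by norm_num) U.live_lt
    rw [cntU_19_0] at h
    exact le_of_eq h

theorem horb : ∀ j < K.P.n, K.P.chkOrb j = true :=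
  all_of_allD _ 19 306936 (by norm_num) chkO_19_0

theorem orbit0 : ∃ q : K.Grp ⧸ K.H,
    (∀ q', q' ∈ MulAction.orbit K.H q ↔ K.P.lab (ok.thetaFun q') = 0) ∧
    (MulAction.orbit K.H q).ncard = 1 := by
  obtain ⟨q, h1, h2⟩ := ok.orbit_spec horb 0 0 (by decide +kernel) (by decide) (by decide +kernel)
  refine ⟨q, h1, ?_⟩
  have h := card_filter_range (P.labIs 0) 19 306936 (by norm_num) (P.labIs_lt 0)
  rw [cntO0_19_0] at h
  exact h2.trans h

theorem orbit1 : ∃ q : K.Grp ⧸ K.H,
    (∀ q', q' ∈ MulAction.orbit K.H q ↔ K.P.lab (ok.thetaFun q') = 1) ∧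
    (MulAction.orbit K.H q).ncard = 275264 := by
  obtain ⟨q, h1, h2⟩ := ok.orbit_spec horb 1 1 (by decide +kernel) (by decide) (by decide +kernel)
  refine ⟨q, h1, ?_⟩
  have h := card_filter_range (P.labIs 1) 19 306936 (by norm_num) (P.labIs_lt 1)
  rw [cntO1_19_0] at h
  exact h2.trans h

theorem orbit2 : ∃ q : K.Grp ⧸ K.H,
    (∀ q', q' ∈ MulAction.orbit K.H q ↔ K.P.lab (ok.thetaFun q') = 2) ∧
    (MulAction.orbit K.H q).ncard = 31671 := by
  obtain ⟨q, h1, h2⟩ := ok.orbit_spec horb 2 6 (by decide +kernel) (by decide) (by decide +kernel)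
  refine ⟨q, h1, ?_⟩
  have h := card_filter_range (P.labIs 2) 19 306936 (by norm_num) (P.labIs_lt 2)
  rw [cntO2_19_0] at h
  exact h2.trans h

end Cfsg.Agent.Lib.Helper35Fi24a
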