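import Cfsg.Agent.Lib.Helper35HeAChk0
import Cfsg.Prelude.Def_Spor_He

set_option autoImplicit false
set_option maxRecDepth 100000

namespace Cfsg.Agent.Lib.Helper35HeA

open Cfsg.Agent.Lib.Helper35TC

open Cfsg.Spor

theorem chkU_12_0 : allD U.chkRow 12 0 = true :=
  allD_join chkU_11_0 chkU_11_1 (by norm_num)
theorem chkU_12_1 : allD U.chkRow 12 4096 = true :=
  allD_join chkU_11_2 chkU_11_3 (by norm_num)
theorem chkU_13_0 : allD U.chkRow 13 0 = true :=
  allD_join chkU_12_0 chkU_12_1 (by norm_num)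
theorem chkP_10_0 : allD P.chkPt 10 0 = true :=
  allD_join chkP_9_0 chkP_9_1 (by norm_num)
theorem chkP_10_1 : allD P.chkPt 10 1024 = true :=
  allD_join chkP_9_2 chkP_9_3 (by norm_num)
theorem chkP_10_2 : allD P.chkPt 10 2048 = true :=
  allD_join chkP_9_4 chkP_9_5 (by norm_num)
theorem chkP_10_3 : allD P.chkPt 10 3072 = true :=
  allD_join chkP_9_6 chkP_9_7 (by norm_num)
theorem chkP_11_0 : allD P.chkPt 11 0 = true :=
  allD_join chkP_10_0 chkP_10_1 (by norm_num)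
theorem chkP_11_1 : allD P.chkPt 11 2048 = true :=
  allD_join chkP_10_2 chkP_10_3 (by norm_num)
theorem chkP_12_0 : allD P.chkPt 12 0 = true :=
  allD_join chkP_11_0 chkP_11_1 (by norm_num)
theorem chkO_12_0 : allD P.chkOrb 12 0 = true :=
  allD_join chkO_11_0 chkO_11_1 (by norm_num)

def extraExps : List (WExp Cfsg.Spor.He.Gen) := [
  (.mul (.of .e) (.inv (.pow (.mul (.of .f) (.of .g)) 2))),
  (.mul (.of .e) (.inv (.pow (.mul (.mul (.of .a) (.of .b)) (.of .c)) 3))),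
  (.mul (.of .a) (.inv (.pow (.mul (.of .c) (.of .d)) 5))),
  (.pow (.mul (.mul (.mul (.of .c) (.of .d)) (.of .f)) (.of .g)) 4)]

def subExps : List (WExp Cfsg.Spor.He.Gen) := [
  (.of .a),
  (.of .c),
  (.of .d),
  (.of .e),
  (.of .f),
  (.pow (.mul (.of .a) (.of .b)) 2),
  (.pow (.mul (.mul (.mul (.of .b) (.of .c)) (.of .d)) (.of .e)) 7)]

def code : Cfsg.Spor.He.Gen → ℕ
  | .a => 0
  | .b => 1
  | .c => 2
  | .d => 3
  | .e => 4
  | .f => 5
  | .g => 6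

noncomputable def K : Pkg Cfsg.Spor.He.Gen where
  rels := coxRelators Cfsg.Spor.He.edges ∪ {r | r ∈ Cfsg.Spor.He.extra}
  S := {Cfsg.Spor.He.a, Cfsg.Spor.He.c, Cfsg.Spor.He.d, Cfsg.Spor.He.e, Cfsg.Spor.He.f, (Cfsg.Spor.He.a * Cfsg.Spor.He.b) ^ 2, (Cfsg.Spor.He.b * Cfsg.Spor.He.c * Cfsg.Spor.He.d * Cfsg.Spor.He.e) ^ 7}
  relExps := coxExps Cfsg.Spor.He.edges ++ extraExps
  subExps := subExps
  code := code
  letters := [FreeGroup.of Cfsg.Spor.He.Gen.a, FreeGroup.of Cfsg.Spor.He.Gen.b, FreeGroup.of Cfsg.Spor.He.Gen.c, FreeGroup.of Cfsg.Spor.He.Gen.d, FreeGroup.of Cfsg.Spor.He.Gen.e, FreeGroup.of Cfsg.Spor.He.Gen.f, FreeGroup.of Cfsg.Spor.He.Gen.g]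
  U := U
  rotT := tR
  rotSrc := rotSrc
  relWords := relWords
  P := P

theorem hS : ∀ s, s ∈ K.S ↔ ∃ e ∈ K.subExps, s = e.eval := by
  intro s
  constructor
  · intro hs
    have hs' : s ∈ ({Cfsg.Spor.He.a, Cfsg.Spor.He.c, Cfsg.Spor.He.d, Cfsg.Spor.He.e, Cfsg.Spor.He.f, (Cfsg.Spor.He.a * Cfsg.Spor.He.b) ^ 2, (Cfsg.Spor.He.b * Cfsg.Spor.He.c * Cfsg.Spor.He.d * Cfsg.Spor.He.e) ^ 7} : Set (FreeGroup Cfsg.Spor.He.Gen)) := hs
    simp only [Set.mem_insert_iff, Set.mem_singleton_iff] at hs'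
    rcases hs' with rfl | rfl | rfl | rfl | rfl | rfl | rfl
    · exact ⟨(.of .a), by simp [K, subExps], rfl⟩
    · exact ⟨(.of .c), by simp [K, subExps], rfl⟩
    · exact ⟨(.of .d), by simp [K, subExps], rfl⟩
    · exact ⟨(.of .e), by simp [K, subExps], rfl⟩
    · exact ⟨(.of .f), by simp [K, subExps], rfl⟩
    · exact ⟨(.pow (.mul (.of .a) (.of .b)) 2), by simp [K, subExps], rfl⟩
    · exact ⟨(.pow (.mul (.mul (.mul (.of .b) (.of .c)) (.of .d)) (.of .e)) 7), by simp [K, subExps], rfl⟩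
  · rintro ⟨e, he, rfl⟩
    have he' : e ∈ subExps := he
    simp only [subExps, List.mem_cons, List.not_mem_nil, or_false] at he'
    show e.eval ∈ ({Cfsg.Spor.He.a, Cfsg.Spor.He.c, Cfsg.Spor.He.d, Cfsg.Spor.He.e, Cfsg.Spor.He.f, (Cfsg.Spor.He.a * Cfsg.Spor.He.b) ^ 2, (Cfsg.Spor.He.b * Cfsg.Spor.He.c * Cfsg.Spor.He.d * Cfsg.Spor.He.e) ^ 7} : Set (FreeGroup Cfsg.Spor.He.Gen))
    rcases he' with rfl | rfl | rfl | rfl | rfl | rfl | rfl <;>
      simp only [WExp.eval, Set.mem_insert_iff, Set.mem_singleton_iff, true_or, or_true]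

theorem hsurj : ∀ l < K.P.L, ∃ x, l = K.code x ∨ l = K.P.iv (K.code x) := by
  intro l hl
  have hl' : l < 7 := hl
  interval_cases l
  · exact ⟨.a, Or.inl rfl⟩
  · exact ⟨.b, Or.inl rfl⟩
  · exact ⟨.c, Or.inl rfl⟩
  · exact ⟨.d, Or.inl rfl⟩
  · exact ⟨.e, Or.inl rfl⟩
  · exact ⟨.f, Or.inl rfl⟩
  · exact ⟨.g, Or.inl rfl⟩

theorem hvalG_lt : ∀ l < K.P.L, K.valG (K.P.iv l) * K.valG l = 1 := by
  intro l hl
  have hl' : l < 7 := hl
  interval_cases l
  · exact cox_sq Cfsg.Spor.He.edges _ .a (by decide)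
  · exact cox_sq Cfsg.Spor.He.edges _ .b (by decide)
  · exact cox_sq Cfsg.Spor.He.edges _ .c (by decide)
  · exact cox_sq Cfsg.Spor.He.edges _ .d (by decide)
  · exact cox_sq Cfsg.Spor.He.edges _ .e (by decide)
  · exact cox_sq Cfsg.Spor.He.edges _ .f (by decide)
  · exact cox_sq Cfsg.Spor.He.edges _ .g (by decide)

theorem hP : K.P.Valid where
  hn := by decide
  hlen := rfl
  hiv := by decide
  hpt := all_of_allD _ 12 2058 (by norm_num) chkP_12_0
  hmacL := by decide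
  hrelL := by decide

theorem ok : K.Ok where
  hrels := hrels_of Cfsg.Spor.He.edges Cfsg.Spor.He.extra extraExps rfl
  hS := hS
  hcodeL := by intro x; cases x <;> decide
  hletters := by intro x; cases x <;> rfl
  hsurj := hsurj
  hvalG := Pkg.hvalG_of rfl rfl hvalG_lt
  hP := hP
  hpairs := by decide +kernel
  hsubsP := by decide +kernel
  hsub0 := by decide +kernel
  hUL := rfl
  hUN := by decide
  hrot := rfl
  hrotT := by decide +kernel
  hrelW := by decide +kernel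
  hUsub := fun _ => rfl
  hchk := all_of_allD _ 13 5473 (by norm_num) chkU_13_0
  hcnt := by
    have h := card_filter_range U.live 13 5473 (by norm_num) U.live_lt
    rw [cntU_13_0] at h
    exact le_of_eq h

theorem horb : ∀ j < K.P.n, K.P.chkOrb j = true :=
  all_of_allD _ 12 2058 (by norm_num) chkO_12_0

theorem orbit0 : ∃ q : K.Grp ⧸ K.H,
    (∀ q', q' ∈ MulAction.orbit K.H q ↔ K.P.lab (ok.thetaFun q') = 0) ∧
    (MulAction.orbit K.H q).ncard = 1 := by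
  obtain ⟨q, h1, h2⟩ := ok.orbit_spec horb 0 0 (by decide +kernel) (by decide) (by decide +kernel)
  refine ⟨q, h1, ?_⟩
  have h := card_filter_range (P.labIs 0) 12 2058 (by norm_num) (P.labIs_lt 0)
  rw [cntO0_12_0] at h
  exact h2.trans h

theorem orbit1 : ∃ q : K.Grp ⧸ K.H,
    (∀ q', q' ∈ MulAction.orbit K.H q ↔ K.P.lab (ok.thetaFun q') = 1) ∧
    (MulAction.orbit K.H q).ncard = 1360 := by
  obtain ⟨q, h1, h2⟩ := ok.orbit_spec horb 1 1 (by decide +kernel) (by decide) (by decide +kernel)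
  refine ⟨q, h1, ?_⟩
  have h := card_filter_range (P.labIs 1) 12 2058 (by norm_num) (P.labIs_lt 1)
  rw [cntO1_12_0] at h
  exact h2.trans h

theorem orbit2 : ∃ q : K.Grp ⧸ K.H,
    (∀ q', q' ∈ MulAction.orbit K.H q ↔ K.P.lab (ok.thetaFun q') = 2) ∧
    (MulAction.orbit K.H q).ncard = 425 := by
  obtain ⟨q, h1, h2⟩ := ok.orbit_spec horb 2 5 (by decide +kernel) (by decide) (by decide +kernel)
  refine ⟨q, h1, ?_⟩
  have h := card_filter_range (P.labIs 2) 12 2058 (by norm_num) (P.labIs_lt 2)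
  rw [cntO2_12_0] at h
  exact h2.trans h

theorem orbit3 : ∃ q : K.Grp ⧸ K.H,
    (∀ q', q' ∈ MulAction.orbit K.H q ↔ K.P.lab (ok.thetaFun q') = 3) ∧
    (MulAction.orbit K.H q).ncard = 136 := by
  obtain ⟨q, h1, h2⟩ := ok.orbit_spec horb 3 37 (by decide +kernel) (by decide) (by decide +kernel)
  refine ⟨q, h1, ?_⟩
  have h := card_filter_range (P.labIs 3) 12 2058 (by norm_num) (P.labIs_lt 3)
  rw [cntO3_12_0] at h
  exact h2.trans h

theorem orbit4 : ∃ q : K.Grp ⧸ K.H,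
    (∀ q', q' ∈ MulAction.orbit K.H q ↔ K.P.lab (ok.thetaFun q') = 4) ∧
    (MulAction.orbit K.H q).ncard = 136 := by
  obtain ⟨q, h1, h2⟩ := ok.orbit_spec horb 4 213 (by decide +kernel) (by decide) (by decide +kernel)
  refine ⟨q, h1, ?_⟩
  have h := card_filter_range (P.labIs 4) 12 2058 (by norm_num) (P.labIs_lt 4)
  rw [cntO4_12_0] at h
  exact h2.trans h

end Cfsg.Agent.Lib.Helper35HeA
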