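import Cfsg.Agent.Lib.Helper35HeBD0
import Cfsg.Agent.Lib.Helper35HeBD1

set_option autoImplicit false
set_option maxRecDepth 100000

namespace Cfsg.Agent.Lib.Helper35HeB

open Cfsg.Agent.Lib.Helper35TC

def tU : Tr := (Tr.node (Tr.node (Tr.node (Tr.node (Tr.node tU_0 tU_16) (Tr.node tU_8 tU_24)) (Tr.node (Tr.node tU_4 tU_20) (Tr.node tU_12 tU_28))) (Tr.node (Tr.node (Tr.node tU_2 tU_18) (Tr.node tU_10 tU_26)) (Tr.node (Tr.node tU_6 tU_22) (Tr.node tU_14 tU_30)))) (Tr.node (Tr.node (Tr.node (Tr.node tU_1 tU_17) (Tr.node tU_9 tU_25)) (Tr.node (Tr.node tU_5 tU_21) (Tr.node tU_13 tU_29))) (Tr.node (Tr.node (Tr.node tU_3 tU_19) (Tr.node tU_11 tU_27)) (Tr.node (Tr.node tU_7 tU_23) (Tr.node tU_15 tU_31)))))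
def tJ : Tr := (Tr.node (Tr.node (Tr.node (Tr.node (Tr.node tJ_0 tJ_16) (Tr.node tJ_8 tJ_24)) (Tr.node (Tr.node tJ_4 tJ_20) (Tr.node tJ_12 tJ_28))) (Tr.node (Tr.node (Tr.node tJ_2 tJ_18) (Tr.node tJ_10 tJ_26)) (Tr.node (Tr.node tJ_6 tJ_22) (Tr.node tJ_14 tJ_30)))) (Tr.node (Tr.node (Tr.node (Tr.node tJ_1 tJ_17) (Tr.node tJ_9 tJ_25)) (Tr.node (Tr.node tJ_5 tJ_21) (Tr.node tJ_13 tJ_29))) (Tr.node (Tr.node (Tr.node tJ_3 tJ_19) (Tr.node tJ_11 tJ_27)) (Tr.node (Tr.node tJ_7 tJ_23) (Tr.node tJ_15 tJ_31)))))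
def tA : Tr := (Tr.node (Tr.node (Tr.node (Tr.node tA_0 tA_8) (Tr.node tA_4 tA_12)) (Tr.node (Tr.node tA_2 tA_10) (Tr.node tA_6 tA_14))) (Tr.node (Tr.node (Tr.node tA_1 tA_9) (Tr.node tA_5 tA_13)) (Tr.node (Tr.node tA_3 tA_11) (Tr.node tA_7 tA_15))))
def tR : TrL := (TrL.node (TrL.node (TrL.node (TrL.node (TrL.node (TrL.node (TrL.node (TrL.leaf [nat_lit 0, nat_lit 0]) (TrL.leaf [nat_lit 2, nat_lit 4, nat_lit 0, nat_lit 1, nat_lit 2, nat_lit 0, nat_lit 1, nat_lit 2, nat_lit 0, nat_lit 1])) (TrL.node (TrL.leaf [nat_lit 6, nat_lit 2, nat_lit 6, nat_lit 2]) (TrL.leaf [nat_lit 2, nat_lit 0, nat_lit 3, nat_lit 2, nat_lit 3, nat_lit 2, nat_lit 3, nat_lit 2, nat_lit 3, nat_lit 2, nat_lit 3]))) (TrL.node (TrL.node (TrL.leaf [nat_lit 0, nat_lit 6, nat_lit 0, nat_lit 6]) (TrL.leaf [nat_lit 2, nat_lit 3, nat_lit 2, nat_lit 3, nat_lit 2, nat_lit 3, nat_lit 0, nat_lit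 2, nat_lit 3, nat_lit 2, nat_lit 3])) (TrL.node (TrL.leaf [nat_lit 5, nat_lit 6, nat_lit 4, nat_lit 5, nat_lit 6]) (TrL.leaf [])))) (TrL.node (TrL.node (TrL.node (TrL.leaf [nat_lit 0, nat_lit 1, nat_lit 0, nat_lit 1, nat_lit 0, nat_lit 1, nat_lit 0, nat_lit 1]) (TrL.leaf [nat_lit 0, nat_lit 2, nat_lit 1, nat_lit 0, nat_lit 4, nat_lit 2, nat_lit 1, nat_lit 0, nat_lit 2, nat_lit 1])) (TrL.node (TrL.leaf [nat_lit 4, nat_lit 3, nat_lit 4, nat_lit 3, nat_lit 4, nat_lit 3]) (TrL.leaf [nat_lit 6, nat_lit 2, nat_lit 3, nat_lit 5, nat_lit 6, nat_lit 2, nat_lit 3, nat_lit 5, nat_lit 6, nat_lit 2, nat_lit 3, nat_lit 5, nat_lit 6, nat_lit 2, nat_lit 3, nat_lit 5]))) (TrL.node (TrL.node (TrL.leaf [nat_lit 1, nat_lit 5, nat_lit 1, nat_lit 5]) (TrL.leaf [nat_lit 3, nat_lit 2, nat_lit 3, nat_lit 2, nat_lit 3, nat_lit 2, nat_lit 3, nat_lit 2, nat_lit 3, nat_lit 2,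 nat_lit 0])) (TrL.node (TrL.leaf [nat_lit 0, nat_lit 1, nat_lit 2, nat_lit 0, nat_lit 1, nat_lit 2, nat_lit 0, nat_lit 1, nat_lit 2, nat_lit 4]) (TrL.leaf []))))) (TrL.node (TrL.node (TrL.node (TrL.node (TrL.leaf [nat_lit 4, nat_lit 4]) (TrL.leaf [nat_lit 1, nat_lit 0, nat_lit 2, nat_lit 1, nat_lit 0, nat_lit 2, nat_lit 1, nat_lit 0, nat_lit 4, nat_lit 2])) (TrL.node (TrL.leaf [nat_lit 5, nat_lit 3, nat_lit 5, nat_lit 3, nat_lit 5, nat_lit 3]) (TrL.leaf [nat_lit 2, nat_lit 6, nat_lit 5, nat_lit 3, nat_lit 2, nat_lit 6, nat_lit 5, nat_lit 3, nat_lit 2, nat_lit 6, nat_lit 5, nat_lit 3, nat_lit 2, nat_lit 6, nat_lit 5, nat_lit 3]))) (TrL.node (TrL.node (TrL.leaf [nat_lit 1, nat_lit 2, nat_lit 1, nat_lit 2, nat_lit 1, nat_lit 2]) (TrL.leaf [nat_lit 2, nat_lit 3, nat_lit 0, nat_lit 2, nat_lit 3, nat_lit 2, nat_lit 3, nat_lit 2, nat_lit 3, nat_lit 2, nat_lit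 3])) (TrL.node (TrL.leaf [nat_lit 6, nat_lit 5, nat_lit 6, nat_lit 5, nat_lit 4]) (TrL.leaf [])))) (TrL.node (TrL.node (TrL.node (TrL.leaf [nat_lit 0, nat_lit 3, nat_lit 0, nat_lit 3]) (TrL.leaf [nat_lit 2, nat_lit 3, nat_lit 2, nat_lit 3, nat_lit 2, nat_lit 3, nat_lit 2, nat_lit 3, nat_lit 2, nat_lit 3, nat_lit 0])) (TrL.node (TrL.leaf [nat_lit 4, nat_lit 6, nat_lit 4, nat_lit 6]) (TrL.leaf []))) (TrL.node (TrL.node (TrL.leaf [nat_lit 1, nat_lit 4, nat_lit 1, nat_lit 4]) (TrL.leaf [nat_lit 2, nat_lit 3, nat_lit 2, nat_lit 3, nat_lit 2, nat_lit 0, nat_lit 3, nat_lit 2, nat_lit 3, nat_lit 2, nat_lit 3])) (TrL.node (TrL.leaf [nat_lit 1, nat_lit 2, nat_lit 0, nat_lit 1, nat_lit 2, nat_lit 4, nat_lit 0, nat_lit 1, nat_lit 2, nat_lit 0]) (TrL.leaf [])))))) (TrL.node (TrL.node (TrL.node (TrL.node (TrL.node (TrL.leaf [nat_lit 2, nat_lit 2]) (TrL.leaf [nat_lit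 4, nat_lit 2, nat_lit 1, nat_lit 0, nat_lit 2, nat_lit 1, nat_lit 0, nat_lit 2, nat_lit 1, nat_lit 0])) (TrL.node (TrL.leaf [nat_lit 4, nat_lit 2, nat_lit 4, nat_lit 2]) (TrL.leaf [nat_lit 5, nat_lit 3, nat_lit 2, nat_lit 6, nat_lit 5, nat_lit 3, nat_lit 2, nat_lit 6, nat_lit 5, nat_lit 3, nat_lit 2, nat_lit 6, nat_lit 5, nat_lit 3, nat_lit 2, nat_lit 6]))) (TrL.node (TrL.node (TrL.leaf [nat_lit 0, nat_lit 4, nat_lit 0, nat_lit 4]) (TrL.leaf [nat_lit 2, nat_lit 3, nat_lit 2, nat_lit 3, nat_lit 0, nat_lit 2, nat_lit 3, nat_lit 2, nat_lit 3, nat_lit 2, nat_lit 3])) (TrL.node (TrL.leaf [nat_lit 4, nat_lit 5, nat_lit 6, nat_lit 5, nat_lit 6]) (TrL.leaf [])))) (TrL.node (TrL.node (TrL.node (TrL.leaf [nat_lit 0, nat_lit 2, nat_lit 0, nat_lit 2]) (TrL.leaf [nat_lit 1, nat_lit 0, nat_lit 4, nat_lit 2, nat_lit 1, nat_lit 0, nat_lit 2, nat_lit 1, nat_lit 0,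 nat_lit 2])) (TrL.node (TrL.leaf [nat_lit 4, nat_lit 5, nat_lit 4, nat_lit 5]) (TrL.leaf []))) (TrL.node (TrL.node (TrL.leaf [nat_lit 1, nat_lit 6, nat_lit 1, nat_lit 6]) (TrL.leaf [nat_lit 3, nat_lit 2, nat_lit 3, nat_lit 2, nat_lit 3, nat_lit 2, nat_lit 3, nat_lit 2, nat_lit 0, nat_lit 3, nat_lit 2])) (TrL.node (TrL.leaf [nat_lit 2, nat_lit 0, nat_lit 1, nat_lit 2, nat_lit 0, nat_lit 1, nat_lit 2, nat_lit 4, nat_lit 0, nat_lit 1]) (TrL.leaf []))))) (TrL.node (TrL.node (TrL.node (TrL.node (TrL.leaf [nat_lit 6, nat_lit 6]) (TrL.leaf [nat_lit 2, nat_lit 1, nat_lit 0, nat_lit 2, nat_lit 1, nat_lit 0, nat_lit 4, nat_lit 2, nat_lit 1, nat_lit 0])) (TrL.node (TrL.leaf [nat_lit 6, nat_lit 3, nat_lit 6, nat_lit 3, nat_lit 6, nat_lit 3]) (TrL.leaf [nat_lit 3, nat_lit 5, nat_lit 6, nat_lit 2, nat_lit 3, nat_lit 5, nat_lit 6, nat_lit 2, nat_lit 3, nat_lit 5,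 nat_lit 6, nat_lit 2, nat_lit 3, nat_lit 5, nat_lit 6, nat_lit 2]))) (TrL.node (TrL.node (TrL.leaf [nat_lit 1, nat_lit 3, nat_lit 1, nat_lit 3]) (TrL.leaf [nat_lit 0, nat_lit 2, nat_lit 3, nat_lit 2, nat_lit 3, nat_lit 2, nat_lit 3, nat_lit 2, nat_lit 3, nat_lit 2, nat_lit 3])) (TrL.node (TrL.leaf [nat_lit 6, nat_lit 5, nat_lit 4, nat_lit 6, nat_lit 5]) (TrL.leaf [])))) (TrL.node (TrL.node (TrL.node (TrL.leaf [nat_lit 0, nat_lit 5, nat_lit 0, nat_lit 5]) (TrL.leaf [nat_lit 2, nat_lit 3, nat_lit 2, nat_lit 3, nat_lit 2, nat_lit 3, nat_lit 2, nat_lit 3, nat_lit 0, nat_lit 2, nat_lit 3])) (TrL.node (TrL.leaf [nat_lit 5, nat_lit 6, nat_lit 5, nat_lit 6, nat_lit 4]) (TrL.leaf []))) (TrL.node (TrL.node (TrL.leaf [nat_lit 5, nat_lit 2, nat_lit 5, nat_lit 2]) (TrL.leaf [nat_lit 2, nat_lit 3, nat_lit 2, nat_lit 0, nat_lit 3, nat_lit 2, nat_lit 3, nat_lit 2,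 nat_lit 3, nat_lit 2, nat_lit 3])) (TrL.node (TrL.leaf [nat_lit 0, nat_lit 1, nat_lit 2, nat_lit 4, nat_lit 0, nat_lit 1, nat_lit 2, nat_lit 0, nat_lit 1, nat_lit 2]) (TrL.leaf []))))))) (TrL.node (TrL.node (TrL.node (TrL.node (TrL.node (TrL.node (TrL.leaf [nat_lit 1, nat_lit 1]) (TrL.leaf [nat_lit 4, nat_lit 0, nat_lit 1, nat_lit 2, nat_lit 0, nat_lit 1, nat_lit 2, nat_lit 0, nat_lit 1, nat_lit 2])) (TrL.node (TrL.leaf [nat_lit 2, nat_lit 6, nat_lit 2, nat_lit 6]) (TrL.leaf [nat_lit 6, nat_lit 5, nat_lit 3, nat_lit 2, nat_lit 6, nat_lit 5, nat_lit 3, nat_lit 2, nat_lit 6, nat_lit 5, nat_lit 3, nat_lit 2, nat_lit 6, nat_lit 5, nat_lit 3, nat_lit 2]))) (TrL.node (TrL.node (TrL.leaf [nat_lit 4, nat_lit 0, nat_lit 4, nat_lit 0]) (TrL.leaf [nat_lit 3, nat_lit 2, nat_lit 3, nat_lit 2, nat_lit 3, nat_lit 0, nat_lit 2, nat_lit 3, nat_lit 2, nat_lit 3, nat_lit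 2])) (TrL.node (TrL.leaf [nat_lit 6, nat_lit 4, nat_lit 5, nat_lit 6, nat_lit 5]) (TrL.leaf [])))) (TrL.node (TrL.node (TrL.node (TrL.leaf [nat_lit 2, nat_lit 0, nat_lit 2, nat_lit 0]) (TrL.leaf [nat_lit 2, nat_lit 1, nat_lit 0, nat_lit 4, nat_lit 2, nat_lit 1, nat_lit 0, nat_lit 2, nat_lit 1, nat_lit 0])) (TrL.node (TrL.leaf [nat_lit 3, nat_lit 4, nat_lit 3, nat_lit 4, nat_lit 3, nat_lit 4]) (TrL.leaf []))) (TrL.node (TrL.node (TrL.leaf [nat_lit 6, nat_lit 1, nat_lit 6, nat_lit 1]) (TrL.leaf [nat_lit 2, nat_lit 3, nat_lit 2, nat_lit 3, nat_lit 2, nat_lit 3, nat_lit 2, nat_lit 3, nat_lit 2, nat_lit 0, nat_lit 3])) (TrL.node (TrL.leaf [nat_lit 1, nat_lit 2, nat_lit 0, nat_lit 1, nat_lit 2, nat_lit 0, nat_lit 1, nat_lit 2, nat_lit 4, nat_lit 0]) (TrL.leaf []))))) (TrL.node (TrL.node (TrL.node (TrL.node (TrL.leaf [nat_lit 5, nat_lit 5]) (TrL.leaf [nat_lit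 0, nat_lit 2, nat_lit 1, nat_lit 0, nat_lit 2, nat_lit 1, nat_lit 0, nat_lit 4, nat_lit 2, nat_lit 1])) (TrL.node (TrL.leaf [nat_lit 3, nat_lit 5, nat_lit 3, nat_lit 5, nat_lit 3, nat_lit 5]) (TrL.leaf [nat_lit 2, nat_lit 3, nat_lit 5, nat_lit 6, nat_lit 2, nat_lit 3, nat_lit 5, nat_lit 6, nat_lit 2, nat_lit 3, nat_lit 5, nat_lit 6, nat_lit 2, nat_lit 3, nat_lit 5, nat_lit 6]))) (TrL.node (TrL.node (TrL.leaf [nat_lit 3, nat_lit 1, nat_lit 3, nat_lit 1]) (TrL.leaf [nat_lit 3, nat_lit 0, nat_lit 2, nat_lit 3, nat_lit 2, nat_lit 3, nat_lit 2, nat_lit 3, nat_lit 2, nat_lit 3, nat_lit 2])) (TrL.node (TrL.leaf [nat_lit 5, nat_lit 6, nat_lit 5, nat_lit 4, nat_lit 6]) (TrL.leaf [])))) (TrL.node (TrL.node (TrL.node (TrL.leaf [nat_lit 5, nat_lit 0, nat_lit 5, nat_lit 0]) (TrL.leaf [nat_lit 3, nat_lit 2, nat_lit 3, nat_lit 2, nat_lit 3, nat_lit 2, nat_lit 3,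 nat_lit 2, nat_lit 3, nat_lit 0, nat_lit 2])) (TrL.node (TrL.leaf [nat_lit 6, nat_lit 4, nat_lit 6, nat_lit 4]) (TrL.leaf []))) (TrL.node (TrL.node (TrL.leaf [nat_lit 3, nat_lit 2, nat_lit 3, nat_lit 2, nat_lit 3, nat_lit 2, nat_lit 3, nat_lit 2, nat_lit 3, nat_lit 2, nat_lit 3, nat_lit 2, nat_lit 3, nat_lit 2, nat_lit 3, nat_lit 2, nat_lit 3, nat_lit 2, nat_lit 3, nat_lit 2]) (TrL.leaf [nat_lit 3, nat_lit 2, nat_lit 3, nat_lit 2, nat_lit 0, nat_lit 3, nat_lit 2, nat_lit 3, nat_lit 2, nat_lit 3, nat_lit 2])) (TrL.node (TrL.leaf [nat_lit 2, nat_lit 0, nat_lit 1, nat_lit 2, nat_lit 4, nat_lit 0, nat_lit 1, nat_lit 2, nat_lit 0, nat_lit 1]) (TrL.leaf [])))))) (TrL.node (TrL.node (TrL.node (TrL.node (TrL.node (TrL.leaf [nat_lit 3, nat_lit 3]) (TrL.leaf [nat_lit 2, nat_lit 1, nat_lit 0, nat_lit 2, nat_lit 1, nat_lit 0, nat_lit 2, nat_lit 1, nat_lit 0, nat_lit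 4])) (TrL.node (TrL.leaf [nat_lit 2, nat_lit 4, nat_lit 2, nat_lit 4]) (TrL.leaf [nat_lit 3, nat_lit 2, nat_lit 6, nat_lit 5, nat_lit 3, nat_lit 2, nat_lit 6, nat_lit 5, nat_lit 3, nat_lit 2, nat_lit 6, nat_lit 5, nat_lit 3, nat_lit 2, nat_lit 6, nat_lit 5]))) (TrL.node (TrL.node (TrL.leaf [nat_lit 2, nat_lit 1, nat_lit 2, nat_lit 1, nat_lit 2, nat_lit 1]) (TrL.leaf [nat_lit 3, nat_lit 2, nat_lit 3, nat_lit 0, nat_lit 2, nat_lit 3, nat_lit 2, nat_lit 3, nat_lit 2, nat_lit 3, nat_lit 2])) (TrL.node (TrL.leaf [nat_lit 4, nat_lit 6, nat_lit 5, nat_lit 6, nat_lit 5]) (TrL.leaf [])))) (TrL.node (TrL.node (TrL.node (TrL.leaf [nat_lit 3, nat_lit 0, nat_lit 3, nat_lit 0]) (TrL.leaf [nat_lit 0, nat_lit 4, nat_lit 2, nat_lit 1, nat_lit 0, nat_lit 2, nat_lit 1, nat_lit 0, nat_lit 2, nat_lit 1])) (TrL.node (TrL.leaf [nat_lit 5, nat_lit 4, nat_lit 5, nat_lit 4])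 (TrL.leaf []))) (TrL.node (TrL.node (TrL.leaf [nat_lit 4, nat_lit 1, nat_lit 4, nat_lit 1]) (TrL.leaf [nat_lit 2, nat_lit 3, nat_lit 2, nat_lit 3, nat_lit 2, nat_lit 3, nat_lit 2, nat_lit 0, nat_lit 3, nat_lit 2, nat_lit 3])) (TrL.node (TrL.leaf [nat_lit 0, nat_lit 1, nat_lit 2, nat_lit 0, nat_lit 1, nat_lit 2, nat_lit 4, nat_lit 0, nat_lit 1, nat_lit 2]) (TrL.leaf []))))) (TrL.node (TrL.node (TrL.node (TrL.node (TrL.leaf [nat_lit 1, nat_lit 0, nat_lit 1, nat_lit 0, nat_lit 1, nat_lit 0, nat_lit 1, nat_lit 0]) (TrL.leaf [nat_lit 1, nat_lit 0, nat_lit 2, nat_lit 1, nat_lit 0, nat_lit 4, nat_lit 2, nat_lit 1, nat_lit 0, nat_lit 2])) (TrL.node (TrL.leaf [nat_lit 3, nat_lit 6, nat_lit 3, nat_lit 6, nat_lit 3, nat_lit 6]) (TrL.leaf [nat_lit 5, nat_lit 6, nat_lit 2, nat_lit 3, nat_lit 5, nat_lit 6, nat_lit 2, nat_lit 3, nat_lit 5, nat_lit 6, nat_lit 2, nat_lit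 3, nat_lit 5, nat_lit 6, nat_lit 2, nat_lit 3]))) (TrL.node (TrL.node (TrL.leaf [nat_lit 5, nat_lit 1, nat_lit 5, nat_lit 1]) (TrL.leaf [nat_lit 0, nat_lit 3, nat_lit 2, nat_lit 3, nat_lit 2, nat_lit 3, nat_lit 2, nat_lit 3, nat_lit 2, nat_lit 3, nat_lit 2])) (TrL.node (TrL.leaf [nat_lit 5, nat_lit 4, nat_lit 6, nat_lit 5, nat_lit 6]) (TrL.leaf [])))) (TrL.node (TrL.node (TrL.node (TrL.leaf [nat_lit 6, nat_lit 0, nat_lit 6, nat_lit 0]) (TrL.leaf [nat_lit 3, nat_lit 2, nat_lit 3, nat_lit 2, nat_lit 3, nat_lit 2, nat_lit 3, nat_lit 0, nat_lit 2, nat_lit 3, nat_lit 2])) (TrL.node (TrL.leaf [nat_lit 6, nat_lit 5, nat_lit 6, nat_lit 4, nat_lit 5]) (TrL.leaf []))) (TrL.node (TrL.node (TrL.leaf [nat_lit 2, nat_lit 5, nat_lit 2, nat_lit 5]) (TrL.leaf [nat_lit 3, nat_lit 2, nat_lit 0, nat_lit 3, nat_lit 2, nat_lit 3, nat_lit 2, nat_lit 3, nat_lit 2, nat_lit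 3, nat_lit 2])) (TrL.node (TrL.leaf [nat_lit 1, nat_lit 2, nat_lit 4, nat_lit 0, nat_lit 1, nat_lit 2, nat_lit 0, nat_lit 1, nat_lit 2, nat_lit 0]) (TrL.leaf []))))))))
def rotSrc : List (ℕ × ℕ × Bool) := [(0, 0, false), (57, 8, false), (26, 0, false), (58, 10, true), (12, 1, false), (58, 4, false), (56, 2, false), (60, 0, false), (8, 1, false), (57, 6, true), (34, 0, false), (59, 3, true), (18, 1, false), (58, 1, true), (57, 0, false), (60, 0, false), (4, 0, false), (57, 2, true), (32, 0, false), (59, 3, false), (16, 1, false), (58, 8, false), (56, 1, true), (60, 0, false), (10, 1, false), (58, 0, false), (48, 0, false), (60, 0, false), (20, 1, false), (58, 6, true), (57, 4, false), (60, 0, false), (2, 0, false), (57, 0, true), (27, 0, false), (59, 1, false), (13, 1, false), (58, 6, false), (56, 4, false), (60, 0, false), (9, 1, false), (57, 8, true),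 (41, 0, false), (60, 0, false), (19, 1, false), (58, 3, true), (57, 2, false), (60, 0, false), (6, 0, false), (57, 4, true), (33, 0, false), (59, 1, true), (17, 1, false), (58, 10, false), (56, 3, true), (60, 0, false), (11, 1, false), (58, 2, false), (56, 0, false), (60, 0, false), (25, 0, false), (58, 8, true), (57, 6, false), (60, 0, false), (1, 0, false), (57, 9, false), (26, 1, false), (59, 0, false), (13, 0, false), (58, 5, false), (56, 3, false), (60, 0, false), (9, 0, false), (57, 7, true), (34, 1, false), (60, 0, false), (19, 0, false), (58, 2, true), (57, 1, false), (60, 0, false), (5, 0, false), (57, 3, true), (32, 1, false), (59, 0, true), (17, 0, false), (58, 9, false), (56, 2, true), (60, 0, false), (11, 0, false), (58, 1, false), (48, 1, false), (60, 0, false), (24, 0, false), (58, 7, true), (57, 5, false), (60, 0, false), (3, 0, false),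 (57, 1, true), (27, 1, false), (59, 2, false), (16, 0, false), (58, 7, false), (56, 0, true), (60, 0, false), (10, 0, false), (57, 9, true), (41, 1, false), (60, 0, false), (20, 0, false), (58, 4, true), (57, 3, false), (60, 0, false), (8, 0, false), (57, 5, true), (33, 1, false), (59, 2, true), (18, 0, false), (58, 0, true), (56, 4, true), (60, 0, false), (12, 0, false), (58, 3, false), (56, 1, false), (60, 0, false), (25, 1, false), (58, 9, true), (57, 7, false), (60, 0, false)]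
def relWords : List (List ℕ) := [[0, 0], [1, 1], [2, 2], [3, 3], [4, 4], [5, 5], [6, 6], [0, 0], [1, 0, 1, 0, 1, 0, 1, 0], [2, 0, 2, 0], [3, 0, 3, 0], [5, 0, 5, 0], [6, 0, 6, 0], [4, 0, 4, 0], [0, 1, 0, 1, 0, 1, 0, 1], [1, 1], [2, 1, 2, 1, 2, 1], [3, 1, 3, 1], [5, 1, 5, 1], [6, 1, 6, 1], [4, 1, 4, 1], [0, 2, 0, 2], [1, 2, 1, 2, 1, 2], [2, 2], [3, 2, 3, 2, 3, 2, 3, 2, 3, 2, 3, 2, 3, 2, 3, 2, 3, 2, 3, 2], [5, 2, 5, 2], [6, 2, 6, 2], [4, 2, 4, 2], [0, 3, 0, 3], [1, 3, 1, 3], [2, 3, 2, 3, 2, 3, 2, 3, 2, 3, 2, 3, 2, 3, 2, 3, 2, 3, 2, 3], [3, 3], [5, 3, 5, 3, 5, 3], [6, 3, 6, 3, 6, 3], [4, 3, 4, 3, 4, 3], [0, 5, 0, 5], [1, 5, 1, 5], [2, 5, 2, 5], [3, 5, 3, 5, 3, 5], [5, 5], [6, 5, 6, 5, 6, 5, 6, 5], [4, 5, 4, 5], [0, 6, 0, 6], [1, 6, 1, 6], [2, 6, 2, 6], [3, 6, 3, 6, 3, 6], [5, 6, 5, 6, 5, 6, 5, 6], [6, 6], [4, 6, 4, 6], [0, 4, 0, 4], [1, 4, 1, 4], [2, 4,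 2, 4], [3, 4, 3, 4, 3, 4], [5, 4, 5, 4], [6, 4, 6, 4], [4, 4], [5, 6, 5, 6, 4], [0, 1, 2, 0, 1, 2, 0, 1, 2, 4], [2, 3, 2, 3, 2, 3, 2, 3, 2, 3, 0], [6, 5, 3, 2, 6, 5, 3, 2, 6, 5, 3, 2, 6, 5, 3, 2]]
def subsW : List (List ℕ) := [[nat_lit 0], [nat_lit 2], [nat_lit 3], [nat_lit 4], [nat_lit 5], [nat_lit 6]]
def relPairs : List (List ℕ × List ℕ) := [([nat_lit 1, nat_lit 0, nat_lit 1, nat_lit 0], [nat_lit 0, nat_lit 1, nat_lit 0, nat_lit 1]), ([nat_lit 2, nat_lit 0], [nat_lit 0, nat_lit 2]), ([nat_lit 3, nat_lit 0], [nat_lit 0, nat_lit 3]), ([nat_lit 5, nat_lit 0], [nat_lit 0, nat_lit 5]), ([nat_lit 6, nat_lit 0], [nat_lit 0, nat_lit 6]), ([nat_lit 4, nat_lit 0], [nat_lit 0, nat_lit 4]), ([nat_lit 2, nat_lit 1, nat_lit 2], [nat_lit 1, nat_lit 2, nat_lit 1]), ([nat_lit 3, nat_lit 1], [nat_lit 1, nat_lit 3]), ([nat_lit 5, nat_lit 1], [nat_lit 1, nat_lit 5]),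 ([nat_lit 6, nat_lit 1], [nat_lit 1, nat_lit 6]), ([nat_lit 4, nat_lit 1], [nat_lit 1, nat_lit 4]), ([nat_lit 3, nat_lit 2, nat_lit 3, nat_lit 2, nat_lit 3, nat_lit 2, nat_lit 3, nat_lit 2, nat_lit 3, nat_lit 2], [nat_lit 2, nat_lit 3, nat_lit 2, nat_lit 3, nat_lit 2, nat_lit 3, nat_lit 2, nat_lit 3, nat_lit 2, nat_lit 3]), ([nat_lit 5, nat_lit 2], [nat_lit 2, nat_lit 5]), ([nat_lit 6, nat_lit 2], [nat_lit 2, nat_lit 6]), ([nat_lit 4, nat_lit 2], [nat_lit 2, nat_lit 4]), ([nat_lit 5, nat_lit 3, nat_lit 5], [nat_lit 3, nat_lit 5, nat_lit 3]), ([nat_lit 6, nat_lit 3, nat_lit 6], [nat_lit 3, nat_lit 6, nat_lit 3]), ([nat_lit 4, nat_lit 3, nat_lit 4], [nat_lit 3, nat_lit 4, nat_lit 3]), ([nat_lit 6, nat_lit 5, nat_lit 6, nat_lit 5], [nat_lit 5, nat_lit 6, nat_lit 5, nat_lit 6]), ([nat_lit 4, nat_lit 5], [nat_lit 5, nat_lit 4]), ([nat_lit 4, nat_lit 6],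 [nat_lit 6, nat_lit 4]), ([nat_lit 5, nat_lit 6, nat_lit 5], [nat_lit 4, nat_lit 6]), ([nat_lit 10, nat_lit 10, nat_lit 10, nat_lit 4], []), ([nat_lit 2, nat_lit 3, nat_lit 2, nat_lit 3, nat_lit 2, nat_lit 3], [nat_lit 0, nat_lit 3, nat_lit 2, nat_lit 3, nat_lit 2]), ([nat_lit 11, nat_lit 11, nat_lit 11, nat_lit 11], [])]
def macrosW : List (List ℕ) := [[nat_lit 0, nat_lit 1, nat_lit 2], [nat_lit 6, nat_lit 5, nat_lit 3, nat_lit 2]]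

noncomputable def U : UData where
  N := nat_lit 50446
  L := nat_lit 7
  F := nat_lit 2
  TB := nat_lit 16
  FW := nat_lit 35
  JW := nat_lit 26
  mT := nat_lit 65535
  mF := nat_lit 34359738367
  mJ := nat_lit 67108863
  row := getRow tU (nat_lit 5) (nat_lit 31) (nat_lit 315) (nat_lit 0x7ffffffffffffffffffffffffffffffffffffffffffffffffffffffffffffffffffffffffffffff)
  jrow := getRow tJ (nat_lit 5) (nat_lit 31) (nat_lit 208) (nat_lit 0xffffffffffffffffffffffffffffffffffffffffffffffffffff)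
  rot := tR.get
  sub := fun h => subsW.getD h []

noncomputable def P : LData where
  n := nat_lit 49980
  L := nat_lit 7
  AB := nat_lit 16
  mA := nat_lit 65535
  arow := getRow tA (nat_lit 6) (nat_lit 63) (nat_lit 192) (nat_lit 0xffffffffffffffffffffffffffffffffffffffffffffffff)
  ivl := [nat_lit 0, nat_lit 1, nat_lit 2, nat_lit 3, nat_lit 4, nat_lit 5, nat_lit 6]
  relPairs := relPairs
  macros := macrosW
  subs := subsW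
  roots := [nat_lit 0, nat_lit 1, nat_lit 4, nat_lit 16, nat_lit 25, nat_lit 182, nat_lit 188, nat_lit 191, nat_lit 194, nat_lit 199, nat_lit 2569, nat_lit 2572, nat_lit 3104, nat_lit 3135, nat_lit 8033, nat_lit 8255, nat_lit 10383, nat_lit 10570, nat_lit 12358, nat_lit 12556, nat_lit 13988, nat_lit 14357, nat_lit 49908, nat_lit 49911, nat_lit 49953, nat_lit 49955]

end Cfsg.Agent.Lib.Helper35HeB
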