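import Cfsg.Agent.Lib.Helper35HeB

set_option autoImplicit false
set_option maxRecDepth 100000

namespace Cfsg.Agent.Lib.Helper35HeB

open Cfsg.Agent.Lib.Helper35TC

theorem chkU_11_28 : allD U.chkRow 11 57344 = true := by decide +kernel
theorem chkU_11_29 : allD U.chkRow 11 59392 = true := by decide +kernel
theorem chkU_11_30 : allD U.chkRow 11 61440 = true := by decide +kernel
theorem chkU_11_31 : allD U.chkRow 11 63488 = true := by decide +kernel
theorem cntU_14_0 : cntD U.live 14 0 = 16142 := by decide +kernel
theorem cntU_14_1 : cntD U.live 14 16384 = 16176 := by decide +kernel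
theorem cntU_14_2 : cntD U.live 14 32768 = 16368 := by decide +kernel
theorem cntU_14_3 : cntD U.live 14 49152 = 1294 := by decide +kernel
theorem chkP_9_0 : allD P.chkPt 9 0 = true := by decide +kernel
theorem chkP_9_1 : allD P.chkPt 9 512 = true := by decide +kernel
theorem chkP_9_2 : allD P.chkPt 9 1024 = true := by decide +kernel
theorem chkP_9_3 : allD P.chkPt 9 1536 = true := by decide +kernel
theorem chkP_9_4 : allD P.chkPt 9 2048 = true := by decide +kernel
theorem chkP_9_5 : allD P.chkPt 9 2560 = true := by decide +kernel
theorem chkP_9_6 : allD P.chkPt 9 3072 = true := by decide +kernel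
theorem chkP_9_7 : allD P.chkPt 9 3584 = true := by decide +kernel
theorem chkP_9_8 : allD P.chkPt 9 4096 = true := by decide +kernel
theorem chkP_9_9 : allD P.chkPt 9 4608 = true := by decide +kernel
theorem chkP_9_10 : allD P.chkPt 9 5120 = true := by decide +kernel
theorem chkP_9_11 : allD P.chkPt 9 5632 = true := by decide +kernel
theorem chkP_9_12 : allD P.chkPt 9 6144 = true := by decide +kernel
theorem chkP_9_13 : allD P.chkPt 9 6656 = true := by decide +kernel
theorem chkP_9_14 : allD P.chkPt 9 7168 = true := by decide +kernel
theorem chkP_9_15 : allD P.chkPt 9 7680 = true := by decide +kernel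
theorem chkP_9_16 : allD P.chkPt 9 8192 = true := by decide +kernel
theorem chkP_9_17 : allD P.chkPt 9 8704 = true := by decide +kernel
theorem chkP_9_18 : allD P.chkPt 9 9216 = true := by decide +kernel
theorem chkP_9_19 : allD P.chkPt 9 9728 = true := by decide +kernel

end Cfsg.Agent.Lib.Helper35HeB
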