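import Cfsg.Agent.Lib.Helper35HeBChk0
import Cfsg.Agent.Lib.Helper35HeBChk1
import Cfsg.Agent.Lib.Helper35HeBChk2
import Cfsg.Agent.Lib.Helper35HeBChk3
import Cfsg.Agent.Lib.Helper35HeBChk4
import Cfsg.Agent.Lib.Helper35HeBChk5
import Cfsg.Prelude.Def_Spor_He

set_option autoImplicit false
set_option maxRecDepth 100000

namespace Cfsg.Agent.Lib.Helper35HeB

open Cfsg.Agent.Lib.Helper35TC

open Cfsg.Spor

theorem chkU_12_0 : allD U.chkRow 12 0 = true :=
  allD_join chkU_11_0 chkU_11_1 (by norm_num)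
theorem chkU_12_1 : allD U.chkRow 12 4096 = true :=
  allD_join chkU_11_2 chkU_11_3 (by norm_num)
theorem chkU_12_2 : allD U.chkRow 12 8192 = true :=
  allD_join chkU_11_4 chkU_11_5 (by norm_num)
theorem chkU_12_3 : allD U.chkRow 12 12288 = true :=
  allD_join chkU_11_6 chkU_11_7 (by norm_num)
theorem chkU_12_4 : allD U.chkRow 12 16384 = true :=
  allD_join chkU_11_8 chkU_11_9 (by norm_num)
theorem chkU_12_5 : allD U.chkRow 12 20480 = true :=
  allD_join chkU_11_10 chkU_11_11 (by norm_num)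
theorem chkU_12_6 : allD U.chkRow 12 24576 = true :=
  allD_join chkU_11_12 chkU_11_13 (by norm_num)
theorem chkU_12_7 : allD U.chkRow 12 28672 = true :=
  allD_join chkU_11_14 chkU_11_15 (by norm_num)
theorem chkU_12_8 : allD U.chkRow 12 32768 = true :=
  allD_join chkU_11_16 chkU_11_17 (by norm_num)
theorem chkU_12_9 : allD U.chkRow 12 36864 = true :=
  allD_join chkU_11_18 chkU_11_19 (by norm_num)
theorem chkU_12_10 : allD U.chkRow 12 40960 = true :=
  allD_join chkU_11_20 chkU_11_21 (by norm_num)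
theorem chkU_12_11 : allD U.chkRow 12 45056 = true :=
  allD_join chkU_11_22 chkU_11_23 (by norm_num)
theorem chkU_12_12 : allD U.chkRow 12 49152 = true :=
  allD_join chkU_11_24 chkU_11_25 (by norm_num)
theorem chkU_12_13 : allD U.chkRow 12 53248 = true :=
  allD_join chkU_11_26 chkU_11_27 (by norm_num)
theorem chkU_12_14 : allD U.chkRow 12 57344 = true :=
  allD_join chkU_11_28 chkU_11_29 (by norm_num)
theorem chkU_12_15 : allD U.chkRow 12 61440 = true :=
  allD_join chkU_11_30 chkU_11_31 (by norm_num)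
theorem chkU_13_0 : allD U.chkRow 13 0 = true :=
  allD_join chkU_12_0 chkU_12_1 (by norm_num)
theorem chkU_13_1 : allD U.chkRow 13 8192 = true :=
  allD_join chkU_12_2 chkU_12_3 (by norm_num)
theorem chkU_13_2 : allD U.chkRow 13 16384 = true :=
  allD_join chkU_12_4 chkU_12_5 (by norm_num)
theorem chkU_13_3 : allD U.chkRow 13 24576 = true :=
  allD_join chkU_12_6 chkU_12_7 (by norm_num)
theorem chkU_13_4 : allD U.chkRow 13 32768 = true :=
  allD_join chkU_12_8 chkU_12_9 (by norm_num)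
theorem chkU_13_5 : allD U.chkRow 13 40960 = true :=
  allD_join chkU_12_10 chkU_12_11 (by norm_num)
theorem chkU_13_6 : allD U.chkRow 13 49152 = true :=
  allD_join chkU_12_12 chkU_12_13 (by norm_num)
theorem chkU_13_7 : allD U.chkRow 13 57344 = true :=
  allD_join chkU_12_14 chkU_12_15 (by norm_num)
theorem chkU_14_0 : allD U.chkRow 14 0 = true :=
  allD_join chkU_13_0 chkU_13_1 (by norm_num)
theorem chkU_14_1 : allD U.chkRow 14 16384 = true :=
  allD_join chkU_13_2 chkU_13_3 (by norm_num)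
theorem chkU_14_2 : allD U.chkRow 14 32768 = true :=
  allD_join chkU_13_4 chkU_13_5 (by norm_num)
theorem chkU_14_3 : allD U.chkRow 14 49152 = true :=
  allD_join chkU_13_6 chkU_13_7 (by norm_num)
theorem chkU_15_0 : allD U.chkRow 15 0 = true :=
  allD_join chkU_14_0 chkU_14_1 (by norm_num)
theorem chkU_15_1 : allD U.chkRow 15 32768 = true :=
  allD_join chkU_14_2 chkU_14_3 (by norm_num)
theorem chkU_16_0 : allD U.chkRow 16 0 = true :=
  allD_join chkU_15_0 chkU_15_1 (by norm_num)
theorem cntU_15_0 : cntD U.live 15 0 = 32318 :=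
  cntD_join cntU_14_0 cntU_14_1 (by norm_num) (by norm_num)
theorem cntU_15_1 : cntD U.live 15 32768 = 17662 :=
  cntD_join cntU_14_2 cntU_14_3 (by norm_num) (by norm_num)
theorem cntU_16_0 : cntD U.live 16 0 = 49980 :=
  cntD_join cntU_15_0 cntU_15_1 (by norm_num) (by norm_num)
theorem chkP_10_0 : allD P.chkPt 10 0 = true :=
  allD_join chkP_9_0 chkP_9_1 (by norm_num)
theorem chkP_10_1 : allD P.chkPt 10 1024 = true :=
  allD_join chkP_9_2 chkP_9_3 (by norm_num)
theorem chkP_10_2 : allD P.chkPt 10 2048 = true :=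
  allD_join chkP_9_4 chkP_9_5 (by norm_num)
theorem chkP_10_3 : allD P.chkPt 10 3072 = true :=
  allD_join chkP_9_6 chkP_9_7 (by norm_num)
theorem chkP_10_4 : allD P.chkPt 10 4096 = true :=
  allD_join chkP_9_8 chkP_9_9 (by norm_num)
theorem chkP_10_5 : allD P.chkPt 10 5120 = true :=
  allD_join chkP_9_10 chkP_9_11 (by norm_num)
theorem chkP_10_6 : allD P.chkPt 10 6144 = true :=
  allD_join chkP_9_12 chkP_9_13 (by norm_num)
theorem chkP_10_7 : allD P.chkPt 10 7168 = true :=
  allD_join chkP_9_14 chkP_9_15 (by norm_num)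
theorem chkP_10_8 : allD P.chkPt 10 8192 = true :=
  allD_join chkP_9_16 chkP_9_17 (by norm_num)
theorem chkP_10_9 : allD P.chkPt 10 9216 = true :=
  allD_join chkP_9_18 chkP_9_19 (by norm_num)
theorem chkP_10_10 : allD P.chkPt 10 10240 = true :=
  allD_join chkP_9_20 chkP_9_21 (by norm_num)
theorem chkP_10_11 : allD P.chkPt 10 11264 = true :=
  allD_join chkP_9_22 chkP_9_23 (by norm_num)
theorem chkP_10_12 : allD P.chkPt 10 12288 = true :=
  allD_join chkP_9_24 chkP_9_25 (by norm_num)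
theorem chkP_10_13 : allD P.chkPt 10 13312 = true :=
  allD_join chkP_9_26 chkP_9_27 (by norm_num)
theorem chkP_10_14 : allD P.chkPt 10 14336 = true :=
  allD_join chkP_9_28 chkP_9_29 (by norm_num)
theorem chkP_10_15 : allD P.chkPt 10 15360 = true :=
  allD_join chkP_9_30 chkP_9_31 (by norm_num)
theorem chkP_10_16 : allD P.chkPt 10 16384 = true :=
  allD_join chkP_9_32 chkP_9_33 (by norm_num)
theorem chkP_10_17 : allD P.chkPt 10 17408 = true :=
  allD_join chkP_9_34 chkP_9_35 (by norm_num)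
theorem chkP_10_18 : allD P.chkPt 10 18432 = true :=
  allD_join chkP_9_36 chkP_9_37 (by norm_num)
theorem chkP_10_19 : allD P.chkPt 10 19456 = true :=
  allD_join chkP_9_38 chkP_9_39 (by norm_num)
theorem chkP_10_20 : allD P.chkPt 10 20480 = true :=
  allD_join chkP_9_40 chkP_9_41 (by norm_num)
theorem chkP_10_21 : allD P.chkPt 10 21504 = true :=
  allD_join chkP_9_42 chkP_9_43 (by norm_num)
theorem chkP_10_22 : allD P.chkPt 10 22528 = true :=
  allD_join chkP_9_44 chkP_9_45 (by norm_num)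
theorem chkP_10_23 : allD P.chkPt 10 23552 = true :=
  allD_join chkP_9_46 chkP_9_47 (by norm_num)
theorem chkP_10_24 : allD P.chkPt 10 24576 = true :=
  allD_join chkP_9_48 chkP_9_49 (by norm_num)
theorem chkP_10_25 : allD P.chkPt 10 25600 = true :=
  allD_join chkP_9_50 chkP_9_51 (by norm_num)
theorem chkP_10_26 : allD P.chkPt 10 26624 = true :=
  allD_join chkP_9_52 chkP_9_53 (by norm_num)
theorem chkP_10_27 : allD P.chkPt 10 27648 = true :=
  allD_join chkP_9_54 chkP_9_55 (by norm_num)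
theorem chkP_10_28 : allD P.chkPt 10 28672 = true :=
  allD_join chkP_9_56 chkP_9_57 (by norm_num)
theorem chkP_10_29 : allD P.chkPt 10 29696 = true :=
  allD_join chkP_9_58 chkP_9_59 (by norm_num)
theorem chkP_10_30 : allD P.chkPt 10 30720 = true :=
  allD_join chkP_9_60 chkP_9_61 (by norm_num)
theorem chkP_10_31 : allD P.chkPt 10 31744 = true :=
  allD_join chkP_9_62 chkP_9_63 (by norm_num)
theorem chkP_10_32 : allD P.chkPt 10 32768 = true :=
  allD_join chkP_9_64 chkP_9_65 (by norm_num)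
theorem chkP_10_33 : allD P.chkPt 10 33792 = true :=
  allD_join chkP_9_66 chkP_9_67 (by norm_num)
theorem chkP_10_34 : allD P.chkPt 10 34816 = true :=
  allD_join chkP_9_68 chkP_9_69 (by norm_num)
theorem chkP_10_35 : allD P.chkPt 10 35840 = true :=
  allD_join chkP_9_70 chkP_9_71 (by norm_num)
theorem chkP_10_36 : allD P.chkPt 10 36864 = true :=
  allD_join chkP_9_72 chkP_9_73 (by norm_num)
theorem chkP_10_37 : allD P.chkPt 10 37888 = true :=
  allD_join chkP_9_74 chkP_9_75 (by norm_num)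
theorem chkP_10_38 : allD P.chkPt 10 38912 = true :=
  allD_join chkP_9_76 chkP_9_77 (by norm_num)
theorem chkP_10_39 : allD P.chkPt 10 39936 = true :=
  allD_join chkP_9_78 chkP_9_79 (by norm_num)
theorem chkP_10_40 : allD P.chkPt 10 40960 = true :=
  allD_join chkP_9_80 chkP_9_81 (by norm_num)
theorem chkP_10_41 : allD P.chkPt 10 41984 = true :=
  allD_join chkP_9_82 chkP_9_83 (by norm_num)
theorem chkP_10_42 : allD P.chkPt 10 43008 = true :=
  allD_join chkP_9_84 chkP_9_85 (by norm_num)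
theorem chkP_10_43 : allD P.chkPt 10 44032 = true :=
  allD_join chkP_9_86 chkP_9_87 (by norm_num)
theorem chkP_10_44 : allD P.chkPt 10 45056 = true :=
  allD_join chkP_9_88 chkP_9_89 (by norm_num)
theorem chkP_10_45 : allD P.chkPt 10 46080 = true :=
  allD_join chkP_9_90 chkP_9_91 (by norm_num)
theorem chkP_10_46 : allD P.chkPt 10 47104 = true :=
  allD_join chkP_9_92 chkP_9_93 (by norm_num)
theorem chkP_10_47 : allD P.chkPt 10 48128 = true :=
  allD_join chkP_9_94 chkP_9_95 (by norm_num)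
theorem chkP_10_48 : allD P.chkPt 10 49152 = true :=
  allD_join chkP_9_96 chkP_9_97 (by norm_num)
theorem chkP_10_49 : allD P.chkPt 10 50176 = true :=
  allD_join chkP_9_98 chkP_9_99 (by norm_num)
theorem chkP_10_50 : allD P.chkPt 10 51200 = true :=
  allD_join chkP_9_100 chkP_9_101 (by norm_num)
theorem chkP_10_51 : allD P.chkPt 10 52224 = true :=
  allD_join chkP_9_102 chkP_9_103 (by norm_num)
theorem chkP_10_52 : allD P.chkPt 10 53248 = true :=
  allD_join chkP_9_104 chkP_9_105 (by norm_num)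
theorem chkP_10_53 : allD P.chkPt 10 54272 = true :=
  allD_join chkP_9_106 chkP_9_107 (by norm_num)
theorem chkP_10_54 : allD P.chkPt 10 55296 = true :=
  allD_join chkP_9_108 chkP_9_109 (by norm_num)
theorem chkP_10_55 : allD P.chkPt 10 56320 = true :=
  allD_join chkP_9_110 chkP_9_111 (by norm_num)
theorem chkP_10_56 : allD P.chkPt 10 57344 = true :=
  allD_join chkP_9_112 chkP_9_113 (by norm_num)
theorem chkP_10_57 : allD P.chkPt 10 58368 = true :=
  allD_join chkP_9_114 chkP_9_115 (by norm_num)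
theorem chkP_10_58 : allD P.chkPt 10 59392 = true :=
  allD_join chkP_9_116 chkP_9_117 (by norm_num)
theorem chkP_10_59 : allD P.chkPt 10 60416 = true :=
  allD_join chkP_9_118 chkP_9_119 (by norm_num)
theorem chkP_10_60 : allD P.chkPt 10 61440 = true :=
  allD_join chkP_9_120 chkP_9_121 (by norm_num)
theorem chkP_10_61 : allD P.chkPt 10 62464 = true :=
  allD_join chkP_9_122 chkP_9_123 (by norm_num)
theorem chkP_10_62 : allD P.chkPt 10 63488 = true :=
  allD_join chkP_9_124 chkP_9_125 (by norm_num)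
theorem chkP_10_63 : allD P.chkPt 10 64512 = true :=
  allD_join chkP_9_126 chkP_9_127 (by norm_num)
theorem chkP_11_0 : allD P.chkPt 11 0 = true :=
  allD_join chkP_10_0 chkP_10_1 (by norm_num)
theorem chkP_11_1 : allD P.chkPt 11 2048 = true :=
  allD_join chkP_10_2 chkP_10_3 (by norm_num)
theorem chkP_11_2 : allD P.chkPt 11 4096 = true :=
  allD_join chkP_10_4 chkP_10_5 (by norm_num)
theorem chkP_11_3 : allD P.chkPt 11 6144 = true :=
  allD_join chkP_10_6 chkP_10_7 (by norm_num)
theorem chkP_11_4 : allD P.chkPt 11 8192 = true :=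
  allD_join chkP_10_8 chkP_10_9 (by norm_num)
theorem chkP_11_5 : allD P.chkPt 11 10240 = true :=
  allD_join chkP_10_10 chkP_10_11 (by norm_num)
theorem chkP_11_6 : allD P.chkPt 11 12288 = true :=
  allD_join chkP_10_12 chkP_10_13 (by norm_num)
theorem chkP_11_7 : allD P.chkPt 11 14336 = true :=
  allD_join chkP_10_14 chkP_10_15 (by norm_num)
theorem chkP_11_8 : allD P.chkPt 11 16384 = true :=
  allD_join chkP_10_16 chkP_10_17 (by norm_num)
theorem chkP_11_9 : allD P.chkPt 11 18432 = true :=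
  allD_join chkP_10_18 chkP_10_19 (by norm_num)
theorem chkP_11_10 : allD P.chkPt 11 20480 = true :=
  allD_join chkP_10_20 chkP_10_21 (by norm_num)
theorem chkP_11_11 : allD P.chkPt 11 22528 = true :=
  allD_join chkP_10_22 chkP_10_23 (by norm_num)
theorem chkP_11_12 : allD P.chkPt 11 24576 = true :=
  allD_join chkP_10_24 chkP_10_25 (by norm_num)
theorem chkP_11_13 : allD P.chkPt 11 26624 = true :=
  allD_join chkP_10_26 chkP_10_27 (by norm_num)
theorem chkP_11_14 : allD P.chkPt 11 28672 = true :=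
  allD_join chkP_10_28 chkP_10_29 (by norm_num)
theorem chkP_11_15 : allD P.chkPt 11 30720 = true :=
  allD_join chkP_10_30 chkP_10_31 (by norm_num)
theorem chkP_11_16 : allD P.chkPt 11 32768 = true :=
  allD_join chkP_10_32 chkP_10_33 (by norm_num)
theorem chkP_11_17 : allD P.chkPt 11 34816 = true :=
  allD_join chkP_10_34 chkP_10_35 (by norm_num)
theorem chkP_11_18 : allD P.chkPt 11 36864 = true :=
  allD_join chkP_10_36 chkP_10_37 (by norm_num)
theorem chkP_11_19 : allD P.chkPt 11 38912 = true :=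
  allD_join chkP_10_38 chkP_10_39 (by norm_num)
theorem chkP_11_20 : allD P.chkPt 11 40960 = true :=
  allD_join chkP_10_40 chkP_10_41 (by norm_num)
theorem chkP_11_21 : allD P.chkPt 11 43008 = true :=
  allD_join chkP_10_42 chkP_10_43 (by norm_num)
theorem chkP_11_22 : allD P.chkPt 11 45056 = true :=
  allD_join chkP_10_44 chkP_10_45 (by norm_num)
theorem chkP_11_23 : allD P.chkPt 11 47104 = true :=
  allD_join chkP_10_46 chkP_10_47 (by norm_num)
theorem chkP_11_24 : allD P.chkPt 11 49152 = true :=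
  allD_join chkP_10_48 chkP_10_49 (by norm_num)
theorem chkP_11_25 : allD P.chkPt 11 51200 = true :=
  allD_join chkP_10_50 chkP_10_51 (by norm_num)
theorem chkP_11_26 : allD P.chkPt 11 53248 = true :=
  allD_join chkP_10_52 chkP_10_53 (by norm_num)
theorem chkP_11_27 : allD P.chkPt 11 55296 = true :=
  allD_join chkP_10_54 chkP_10_55 (by norm_num)
theorem chkP_11_28 : allD P.chkPt 11 57344 = true :=
  allD_join chkP_10_56 chkP_10_57 (by norm_num)
theorem chkP_11_29 : allD P.chkPt 11 59392 = true :=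
  allD_join chkP_10_58 chkP_10_59 (by norm_num)
theorem chkP_11_30 : allD P.chkPt 11 61440 = true :=
  allD_join chkP_10_60 chkP_10_61 (by norm_num)
theorem chkP_11_31 : allD P.chkPt 11 63488 = true :=
  allD_join chkP_10_62 chkP_10_63 (by norm_num)
theorem chkP_12_0 : allD P.chkPt 12 0 = true :=
  allD_join chkP_11_0 chkP_11_1 (by norm_num)
theorem chkP_12_1 : allD P.chkPt 12 4096 = true :=
  allD_join chkP_11_2 chkP_11_3 (by norm_num)
theorem chkP_12_2 : allD P.chkPt 12 8192 = true :=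
  allD_join chkP_11_4 chkP_11_5 (by norm_num)
theorem chkP_12_3 : allD P.chkPt 12 12288 = true :=
  allD_join chkP_11_6 chkP_11_7 (by norm_num)
theorem chkP_12_4 : allD P.chkPt 12 16384 = true :=
  allD_join chkP_11_8 chkP_11_9 (by norm_num)
theorem chkP_12_5 : allD P.chkPt 12 20480 = true :=
  allD_join chkP_11_10 chkP_11_11 (by norm_num)
theorem chkP_12_6 : allD P.chkPt 12 24576 = true :=
  allD_join chkP_11_12 chkP_11_13 (by norm_num)
theorem chkP_12_7 : allD P.chkPt 12 28672 = true :=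
  allD_join chkP_11_14 chkP_11_15 (by norm_num)
theorem chkP_12_8 : allD P.chkPt 12 32768 = true :=
  allD_join chkP_11_16 chkP_11_17 (by norm_num)
theorem chkP_12_9 : allD P.chkPt 12 36864 = true :=
  allD_join chkP_11_18 chkP_11_19 (by norm_num)
theorem chkP_12_10 : allD P.chkPt 12 40960 = true :=
  allD_join chkP_11_20 chkP_11_21 (by norm_num)
theorem chkP_12_11 : allD P.chkPt 12 45056 = true :=
  allD_join chkP_11_22 chkP_11_23 (by norm_num)
theorem chkP_12_12 : allD P.chkPt 12 49152 = true :=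
  allD_join chkP_11_24 chkP_11_25 (by norm_num)
theorem chkP_12_13 : allD P.chkPt 12 53248 = true :=
  allD_join chkP_11_26 chkP_11_27 (by norm_num)
theorem chkP_12_14 : allD P.chkPt 12 57344 = true :=
  allD_join chkP_11_28 chkP_11_29 (by norm_num)
theorem chkP_12_15 : allD P.chkPt 12 61440 = true :=
  allD_join chkP_11_30 chkP_11_31 (by norm_num)
theorem chkP_13_0 : allD P.chkPt 13 0 = true :=
  allD_join chkP_12_0 chkP_12_1 (by norm_num)
theorem chkP_13_1 : allD P.chkPt 13 8192 = true :=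
  allD_join chkP_12_2 chkP_12_3 (by norm_num)
theorem chkP_13_2 : allD P.chkPt 13 16384 = true :=
  allD_join chkP_12_4 chkP_12_5 (by norm_num)
theorem chkP_13_3 : allD P.chkPt 13 24576 = true :=
  allD_join chkP_12_6 chkP_12_7 (by norm_num)
theorem chkP_13_4 : allD P.chkPt 13 32768 = true :=
  allD_join chkP_12_8 chkP_12_9 (by norm_num)
theorem chkP_13_5 : allD P.chkPt 13 40960 = true :=
  allD_join chkP_12_10 chkP_12_11 (by norm_num)
theorem chkP_13_6 : allD P.chkPt 13 49152 = true :=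
  allD_join chkP_12_12 chkP_12_13 (by norm_num)
theorem chkP_13_7 : allD P.chkPt 13 57344 = true :=
  allD_join chkP_12_14 chkP_12_15 (by norm_num)
theorem chkP_14_0 : allD P.chkPt 14 0 = true :=
  allD_join chkP_13_0 chkP_13_1 (by norm_num)
theorem chkP_14_1 : allD P.chkPt 14 16384 = true :=
  allD_join chkP_13_2 chkP_13_3 (by norm_num)
theorem chkP_14_2 : allD P.chkPt 14 32768 = true :=
  allD_join chkP_13_4 chkP_13_5 (by norm_num)
theorem chkP_14_3 : allD P.chkPt 14 49152 = true :=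
  allD_join chkP_13_6 chkP_13_7 (by norm_num)
theorem chkP_15_0 : allD P.chkPt 15 0 = true :=
  allD_join chkP_14_0 chkP_14_1 (by norm_num)
theorem chkP_15_1 : allD P.chkPt 15 32768 = true :=
  allD_join chkP_14_2 chkP_14_3 (by norm_num)
theorem chkP_16_0 : allD P.chkPt 16 0 = true :=
  allD_join chkP_15_0 chkP_15_1 (by norm_num)

def extraExps : List (WExp Cfsg.Spor.He.Gen) := [
  (.mul (.of .e) (.inv (.pow (.mul (.of .f) (.of .g)) 2))),
  (.mul (.of .e) (.inv (.pow (.mul (.mul (.of .a) (.of .b)) (.of .c)) 3))),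
  (.mul (.of .a) (.inv (.pow (.mul (.of .c) (.of .d)) 5))),
  (.pow (.mul (.mul (.mul (.of .c) (.of .d)) (.of .f)) (.of .g)) 4)]

def subExps : List (WExp Cfsg.Spor.He.Gen) := [
  (.of .a),
  (.of .c),
  (.of .d),
  (.of .e),
  (.of .f),
  (.of .g)]

def code : Cfsg.Spor.He.Gen → ℕ
  | .a => 0
  | .b => 1
  | .c => 2
  | .d => 3
  | .e => 4
  | .f => 5
  | .g => 6

noncomputable def K : Pkg Cfsg.Spor.He.Gen where
  rels := coxRelators Cfsg.Spor.He.edges ∪ {r | r ∈ Cfsg.Spor.He.extra}
  S := {Cfsg.Spor.He.a, Cfsg.Spor.He.c, Cfsg.Spor.He.d, Cfsg.Spor.He.e, Cfsg.Spor.He.f, Cfsg.Spor.He.g}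
  relExps := coxExps Cfsg.Spor.He.edges ++ extraExps
  subExps := subExps
  code := code
  letters := [FreeGroup.of Cfsg.Spor.He.Gen.a, FreeGroup.of Cfsg.Spor.He.Gen.b, FreeGroup.of Cfsg.Spor.He.Gen.c, FreeGroup.of Cfsg.Spor.He.Gen.d, FreeGroup.of Cfsg.Spor.He.Gen.e, FreeGroup.of Cfsg.Spor.He.Gen.f, FreeGroup.of Cfsg.Spor.He.Gen.g]
  U := U
  rotT := tR
  rotSrc := rotSrc
  relWords := relWords
  P := P

theorem hS : ∀ s, s ∈ K.S ↔ ∃ e ∈ K.subExps, s = e.eval := by
  intro s
  constructor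
  · intro hs
    have hs' : s ∈ ({Cfsg.Spor.He.a, Cfsg.Spor.He.c, Cfsg.Spor.He.d, Cfsg.Spor.He.e, Cfsg.Spor.He.f, Cfsg.Spor.He.g} : Set (FreeGroup Cfsg.Spor.He.Gen)) := hs
    simp only [Set.mem_insert_iff, Set.mem_singleton_iff] at hs'
    rcases hs' with rfl | rfl | rfl | rfl | rfl | rfl
    · exact ⟨(.of .a), by simp [K, subExps], rfl⟩
    · exact ⟨(.of .c), by simp [K, subExps], rfl⟩
    · exact ⟨(.of .d), by simp [K, subExps], rfl⟩
    · exact ⟨(.of .e), by simp [K, subExps], rfl⟩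
    · exact ⟨(.of .f), by simp [K, subExps], rfl⟩
    · exact ⟨(.of .g), by simp [K, subExps], rfl⟩
  · rintro ⟨e, he, rfl⟩
    have he' : e ∈ subExps := he
    simp only [subExps, List.mem_cons, List.not_mem_nil, or_false] at he'
    show e.eval ∈ ({Cfsg.Spor.He.a, Cfsg.Spor.He.c, Cfsg.Spor.He.d, Cfsg.Spor.He.e, Cfsg.Spor.He.f, Cfsg.Spor.He.g} : Set (FreeGroup Cfsg.Spor.He.Gen))
    rcases he' with rfl | rfl | rfl | rfl | rfl | rfl <;>
      simp only [WExp.eval, Set.mem_insert_iff, Set.mem_singleton_iff, true_or, or_true]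

theorem hsurj : ∀ l < K.P.L, ∃ x, l = K.code x ∨ l = K.P.iv (K.code x) := by
  intro l hl
  have hl' : l < 7 := hl
  interval_cases l
  · exact ⟨.a, Or.inl rfl⟩
  · exact ⟨.b, Or.inl rfl⟩
  · exact ⟨.c, Or.inl rfl⟩
  · exact ⟨.d, Or.inl rfl⟩
  · exact ⟨.e, Or.inl rfl⟩
  · exact ⟨.f, Or.inl rfl⟩
  · exact ⟨.g, Or.inl rfl⟩

theorem hvalG_lt : ∀ l < K.P.L, K.valG (K.P.iv l) * K.valG l = 1 := by
  intro l hl
  have hl' : l < 7 := hl
  interval_cases l
  · exact cox_sq Cfsg.Spor.He.edges _ .a (by decide)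
  · exact cox_sq Cfsg.Spor.He.edges _ .b (by decide)
  · exact cox_sq Cfsg.Spor.He.edges _ .c (by decide)
  · exact cox_sq Cfsg.Spor.He.edges _ .d (by decide)
  · exact cox_sq Cfsg.Spor.He.edges _ .e (by decide)
  · exact cox_sq Cfsg.Spor.He.edges _ .f (by decide)
  · exact cox_sq Cfsg.Spor.He.edges _ .g (by decide)

theorem hP : K.P.Valid where
  hn := by decide
  hlen := rfl
  hiv := by decide
  hpt := all_of_allD _ 16 49980 (by norm_num) chkP_16_0
  hmacL := by decide
  hrelL := by decide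

theorem ok : K.Ok where
  hrels := hrels_of Cfsg.Spor.He.edges Cfsg.Spor.He.extra extraExps rfl
  hS := hS
  hcodeL := by intro x; cases x <;> decide
  hletters := by intro x; cases x <;> rfl
  hsurj := hsurj
  hvalG := Pkg.hvalG_of rfl rfl hvalG_lt
  hP := hP
  hpairs := by decide +kernel
  hsubsP := by decide +kernel
  hsub0 := by decide +kernel
  hUL := rfl
  hUN := by decide
  hrot := rfl
  hrotT := by decide +kernel
  hrelW := by decide +kernel
  hUsub := fun _ => rfl
  hchk := all_of_allD _ 16 50446 (by norm_num) chkU_16_0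
  hcnt := by
    have h := card_filter_range U.live 16 50446 (by norm_num) U.live_lt
    rw [cntU_16_0] at h
    exact le_of_eq h

end Cfsg.Agent.Lib.Helper35HeB
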