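import Cfsg.Agent.Lib.Helper35HeCD0
import Cfsg.Agent.Lib.Helper35HeCD1
import Cfsg.Agent.Lib.Helper35HeCD2
import Cfsg.Agent.Lib.Helper35HeCD3
import Cfsg.Agent.Lib.Helper35HeCD4
import Cfsg.Agent.Lib.Helper35HeCD5
import Cfsg.Agent.Lib.Helper35HeCD6

set_option autoImplicit false
set_option maxRecDepth 100000

namespace Cfsg.Agent.Lib.Helper35HeC

open Cfsg.Agent.Lib.Helper35TC

def tU : Tr := (Tr.node (Tr.node (Tr.node (Tr.node (Tr.node (Tr.node (Tr.node tU_0 tU_64) (Tr.node tU_32 tU_96)) (Tr.node (Tr.node tU_16 tU_80) (Tr.node tU_48 tU_112))) (Tr.node (Tr.node (Tr.node tU_8 tU_72) (Tr.node tU_40 tU_104)) (Tr.node (Tr.node tU_24 tU_88) (Tr.node tU_56 tU_120)))) (Tr.node (Tr.node (Tr.node (Tr.node tU_4 tU_68) (Tr.node tU_36 tU_100)) (Tr.node (Tr.node tU_20 tU_84) (Tr.node tU_52 tU_116))) (Tr.node (Tr.node (Tr.node tU_12 tU_76) (Tr.node tU_44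 tU_108)) (Tr.node (Tr.node tU_28 tU_92) (Tr.node tU_60 tU_124))))) (Tr.node (Tr.node (Tr.node (Tr.node (Tr.node tU_2 tU_66) (Tr.node tU_34 tU_98)) (Tr.node (Tr.node tU_18 tU_82) (Tr.node tU_50 tU_114))) (Tr.node (Tr.node (Tr.node tU_10 tU_74) (Tr.node tU_42 tU_106)) (Tr.node (Tr.node tU_26 tU_90) (Tr.node tU_58 tU_122)))) (Tr.node (Tr.node (Tr.node (Tr.node tU_6 tU_70) (Tr.node tU_38 tU_102)) (Tr.node (Tr.node tU_22 tU_86) (Tr.node tU_54 tU_118))) (Tr.node (Tr.node (Tr.node tU_14 tU_78) (Tr.node tU_46 tU_110)) (Tr.node (Tr.node tU_30 tU_94) (Tr.node tU_62 tU_126)))))) (Tr.node (Tr.node (Tr.node (Tr.node (Tr.node (Tr.node tU_1 tU_65) (Tr.node tU_33 tU_97)) (Tr.node (Tr.node tU_17 tU_81) (Tr.node tU_49 tU_113))) (Tr.node (Tr.node (Tr.node tU_9 tU_73) (Tr.node tU_41 tU_105)) (Tr.node (Tr.node tU_25 tU_89) (Tr.node tU_57 tU_121)))) (Tr.node (Tr.node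 (Tr.node (Tr.node tU_5 tU_69) (Tr.node tU_37 tU_101)) (Tr.node (Tr.node tU_21 tU_85) (Tr.node tU_53 tU_117))) (Tr.node (Tr.node (Tr.node tU_13 tU_77) (Tr.node tU_45 tU_109)) (Tr.node (Tr.node tU_29 tU_93) (Tr.node tU_61 tU_125))))) (Tr.node (Tr.node (Tr.node (Tr.node (Tr.node tU_3 tU_67) (Tr.node tU_35 tU_99)) (Tr.node (Tr.node tU_19 tU_83) (Tr.node tU_51 tU_115))) (Tr.node (Tr.node (Tr.node tU_11 tU_75) (Tr.node tU_43 tU_107)) (Tr.node (Tr.node tU_27 tU_91) (Tr.node tU_59 tU_123)))) (Tr.node (Tr.node (Tr.node (Tr.node tU_7 tU_71) (Tr.node tU_39 tU_103)) (Tr.node (Tr.node tU_23 tU_87) (Tr.node tU_55 tU_119))) (Tr.node (Tr.node (Tr.node tU_15 tU_79) (Tr.node tU_47 tU_111)) (Tr.node (Tr.node tU_31 tU_95) (Tr.node tU_63 tU_127)))))))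
def tJ : Tr := (Tr.node (Tr.node (Tr.node (Tr.node (Tr.node (Tr.node (Tr.node tJ_0 tJ_64) (Tr.node tJ_32 tJ_96)) (Tr.node (Tr.node tJ_16 tJ_80) (Tr.node tJ_48 tJ_112))) (Tr.node (Tr.node (Tr.node tJ_8 tJ_72) (Tr.node tJ_40 tJ_104)) (Tr.node (Tr.node tJ_24 tJ_88) (Tr.node tJ_56 tJ_120)))) (Tr.node (Tr.node (Tr.node (Tr.node tJ_4 tJ_68) (Tr.node tJ_36 tJ_100)) (Tr.node (Tr.node tJ_20 tJ_84) (Tr.node tJ_52 tJ_116))) (Tr.node (Tr.node (Tr.node tJ_12 tJ_76) (Tr.node tJ_44 tJ_108)) (Tr.node (Tr.node tJ_28 tJ_92) (Tr.node tJ_60 tJ_124))))) (Tr.node (Tr.node (Tr.node (Tr.node (Tr.node tJ_2 tJ_66) (Tr.node tJ_34 tJ_98)) (Tr.node (Tr.node tJ_18 tJ_82) (Tr.node tJ_50 tJ_114))) (Tr.node (Tr.node (Tr.node tJ_10 tJ_74) (Tr.node tJ_42 tJ_106)) (Tr.node (Tr.node tJ_26 tJ_90) (Tr.node tJ_58 tJ_122)))) (Tr.node (Tr.node (Tr.node (Tr.node tJ_6 tJ_70) (Tr.node tJ_38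 tJ_102)) (Tr.node (Tr.node tJ_22 tJ_86) (Tr.node tJ_54 tJ_118))) (Tr.node (Tr.node (Tr.node tJ_14 tJ_78) (Tr.node tJ_46 tJ_110)) (Tr.node (Tr.node tJ_30 tJ_94) (Tr.node tJ_62 tJ_126)))))) (Tr.node (Tr.node (Tr.node (Tr.node (Tr.node (Tr.node tJ_1 tJ_65) (Tr.node tJ_33 tJ_97)) (Tr.node (Tr.node tJ_17 tJ_81) (Tr.node tJ_49 tJ_113))) (Tr.node (Tr.node (Tr.node tJ_9 tJ_73) (Tr.node tJ_41 tJ_105)) (Tr.node (Tr.node tJ_25 tJ_89) (Tr.node tJ_57 tJ_121)))) (Tr.node (Tr.node (Tr.node (Tr.node tJ_5 tJ_69) (Tr.node tJ_37 tJ_101)) (Tr.node (Tr.node tJ_21 tJ_85) (Tr.node tJ_53 tJ_117))) (Tr.node (Tr.node (Tr.node tJ_13 tJ_77) (Tr.node tJ_45 tJ_109)) (Tr.node (Tr.node tJ_29 tJ_93) (Tr.node tJ_61 tJ_125))))) (Tr.node (Tr.node (Tr.node (Tr.node (Tr.node tJ_3 tJ_67) (Tr.node tJ_35 tJ_99)) (Tr.node (Tr.node tJ_19 tJ_83) (Tr.node tJ_51 tJ_115))) (Tr.node (Tr.node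 (Tr.node tJ_11 tJ_75) (Tr.node tJ_43 tJ_107)) (Tr.node (Tr.node tJ_27 tJ_91) (Tr.node tJ_59 tJ_123)))) (Tr.node (Tr.node (Tr.node (Tr.node tJ_7 tJ_71) (Tr.node tJ_39 tJ_103)) (Tr.node (Tr.node tJ_23 tJ_87) (Tr.node tJ_55 tJ_119))) (Tr.node (Tr.node (Tr.node tJ_15 tJ_79) (Tr.node tJ_47 tJ_111)) (Tr.node (Tr.node tJ_31 tJ_95) (Tr.node tJ_63 tJ_127)))))))
def tA : Tr := (Tr.node (Tr.node (Tr.node (Tr.node (Tr.node (Tr.node tA_0 tA_32) (Tr.node tA_16 tA_48)) (Tr.node (Tr.node tA_8 tA_40) (Tr.node tA_24 tA_56))) (Tr.node (Tr.node (Tr.node tA_4 tA_36) (Tr.node tA_20 tA_52)) (Tr.node (Tr.node tA_12 tA_44) (Tr.node tA_28 tA_60)))) (Tr.node (Tr.node (Tr.node (Tr.node tA_2 tA_34) (Tr.node tA_18 tA_50)) (Tr.node (Tr.node tA_10 tA_42) (Tr.node tA_26 tA_58))) (Tr.node (Tr.node (Tr.node tA_6 tA_38) (Tr.node tA_22 tA_54)) (Tr.node (Tr.node tA_14 tA_46) (Tr.node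 tA_30 tA_62))))) (Tr.node (Tr.node (Tr.node (Tr.node (Tr.node tA_1 tA_33) (Tr.node tA_17 tA_49)) (Tr.node (Tr.node tA_9 tA_41) (Tr.node tA_25 tA_57))) (Tr.node (Tr.node (Tr.node tA_5 tA_37) (Tr.node tA_21 tA_53)) (Tr.node (Tr.node tA_13 tA_45) (Tr.node tA_29 tA_61)))) (Tr.node (Tr.node (Tr.node (Tr.node tA_3 tA_35) (Tr.node tA_19 tA_51)) (Tr.node (Tr.node tA_11 tA_43) (Tr.node tA_27 tA_59))) (Tr.node (Tr.node (Tr.node tA_7 tA_39) (Tr.node tA_23 tA_55)) (Tr.node (Tr.node tA_15 tA_47) (Tr.node tA_31 tA_63))))))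
def tR : TrL := (TrL.node (TrL.node (TrL.node (TrL.node (TrL.node (TrL.node (TrL.node (TrL.leaf [nat_lit 0, nat_lit 0]) (TrL.leaf [nat_lit 1, nat_lit 2, nat_lit 4, nat_lit 0, nat_lit 1, nat_lit 2, nat_lit 0, nat_lit 1, nat_lit 2, nat_lit 0])) (TrL.node (TrL.leaf [nat_lit 2, nat_lit 5, nat_lit 2, nat_lit 5]) (TrL.leaf [nat_lit 2, nat_lit 3, nat_lit 2, nat_lit 0, nat_lit 3, nat_lit 2, nat_lit 3, nat_lit 2, nat_lit 3, nat_lit 2, nat_lit 3]))) (TrL.node (TrL.node (TrL.leaf [nat_lit 0, nat_lit 6, nat_lit 0, nat_lit 6]) (TrL.leaf [nat_lit 3, nat_lit 2, nat_lit 3, nat_lit 2, nat_lit 3, nat_lit 2, nat_lit 3, nat_lit 0, nat_lit 2, nat_lit 3, nat_lit 2])) (TrL.node (TrL.leaf [nat_lit 6, nat_lit 5, nat_lit 6, nat_lit 4, nat_lit 5]) (TrL.leaf [])))) (TrL.node (TrL.node (TrL.node (TrL.leaf [nat_lit 0, nat_lit 1, nat_lit 0, nat_lit 1, nat_lit 0, nat_lit 1,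 nat_lit 0, nat_lit 1]) (TrL.leaf [nat_lit 1, nat_lit 0, nat_lit 2, nat_lit 1, nat_lit 0, nat_lit 4, nat_lit 2, nat_lit 1, nat_lit 0, nat_lit 2])) (TrL.node (TrL.leaf [nat_lit 3, nat_lit 6, nat_lit 3, nat_lit 6, nat_lit 3, nat_lit 6]) (TrL.leaf [nat_lit 3, nat_lit 5, nat_lit 6, nat_lit 2, nat_lit 3, nat_lit 5, nat_lit 6, nat_lit 2, nat_lit 3, nat_lit 5, nat_lit 6, nat_lit 2, nat_lit 3, nat_lit 5, nat_lit 6, nat_lit 2]))) (TrL.node (TrL.node (TrL.leaf [nat_lit 1, nat_lit 5, nat_lit 1, nat_lit 5]) (TrL.leaf [nat_lit 0, nat_lit 3, nat_lit 2, nat_lit 3, nat_lit 2, nat_lit 3, nat_lit 2, nat_lit 3, nat_lit 2, nat_lit 3, nat_lit 2])) (TrL.node (TrL.leaf [nat_lit 5, nat_lit 4, nat_lit 6, nat_lit 5, nat_lit 6]) (TrL.leaf []))))) (TrL.node (TrL.node (TrL.node (TrL.node (TrL.leaf [nat_lit 4, nat_lit 4]) (TrL.leaf [nat_lit 2, nat_lit 1, nat_lit 0, nat_lit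 2, nat_lit 1, nat_lit 0, nat_lit 2, nat_lit 1, nat_lit 0, nat_lit 4])) (TrL.node (TrL.leaf [nat_lit 2, nat_lit 4, nat_lit 2, nat_lit 4]) (TrL.leaf [nat_lit 5, nat_lit 3, nat_lit 2, nat_lit 6, nat_lit 5, nat_lit 3, nat_lit 2, nat_lit 6, nat_lit 5, nat_lit 3, nat_lit 2, nat_lit 6, nat_lit 5, nat_lit 3, nat_lit 2, nat_lit 6]))) (TrL.node (TrL.node (TrL.leaf [nat_lit 1, nat_lit 2, nat_lit 1, nat_lit 2, nat_lit 1, nat_lit 2]) (TrL.leaf [nat_lit 3, nat_lit 2, nat_lit 3, nat_lit 0, nat_lit 2, nat_lit 3, nat_lit 2, nat_lit 3, nat_lit 2, nat_lit 3, nat_lit 2])) (TrL.node (TrL.leaf [nat_lit 4, nat_lit 6, nat_lit 5, nat_lit 6, nat_lit 5]) (TrL.leaf [])))) (TrL.node (TrL.node (TrL.node (TrL.leaf [nat_lit 0, nat_lit 3, nat_lit 0, nat_lit 3]) (TrL.leaf [nat_lit 0, nat_lit 4, nat_lit 2, nat_lit 1, nat_lit 0, nat_lit 2, nat_lit 1, nat_lit 0, nat_lit 2, nat_lit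 1])) (TrL.node (TrL.leaf [nat_lit 5, nat_lit 4, nat_lit 5, nat_lit 4]) (TrL.leaf []))) (TrL.node (TrL.node (TrL.leaf [nat_lit 1, nat_lit 4, nat_lit 1, nat_lit 4]) (TrL.leaf [nat_lit 2, nat_lit 3, nat_lit 2, nat_lit 3, nat_lit 2, nat_lit 3, nat_lit 2, nat_lit 0, nat_lit 3, nat_lit 2, nat_lit 3])) (TrL.node (TrL.leaf [nat_lit 0, nat_lit 1, nat_lit 2, nat_lit 0, nat_lit 1, nat_lit 2, nat_lit 4, nat_lit 0, nat_lit 1, nat_lit 2]) (TrL.leaf [])))))) (TrL.node (TrL.node (TrL.node (TrL.node (TrL.node (TrL.leaf [nat_lit 2, nat_lit 2]) (TrL.leaf [nat_lit 4, nat_lit 0, nat_lit 1, nat_lit 2, nat_lit 0, nat_lit 1, nat_lit 2, nat_lit 0, nat_lit 1, nat_lit 2])) (TrL.node (TrL.leaf [nat_lit 2, nat_lit 6, nat_lit 2, nat_lit 6]) (TrL.leaf [nat_lit 2, nat_lit 0, nat_lit 3, nat_lit 2, nat_lit 3, nat_lit 2, nat_lit 3, nat_lit 2, nat_lit 3, nat_lit 2, nat_lit 3])))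 (TrL.node (TrL.node (TrL.leaf [nat_lit 0, nat_lit 4, nat_lit 0, nat_lit 4]) (TrL.leaf [nat_lit 3, nat_lit 2, nat_lit 3, nat_lit 2, nat_lit 3, nat_lit 0, nat_lit 2, nat_lit 3, nat_lit 2, nat_lit 3, nat_lit 2])) (TrL.node (TrL.leaf [nat_lit 6, nat_lit 4, nat_lit 5, nat_lit 6, nat_lit 5]) (TrL.leaf [])))) (TrL.node (TrL.node (TrL.node (TrL.leaf [nat_lit 0, nat_lit 2, nat_lit 0, nat_lit 2]) (TrL.leaf [nat_lit 2, nat_lit 1, nat_lit 0, nat_lit 4, nat_lit 2, nat_lit 1, nat_lit 0, nat_lit 2, nat_lit 1, nat_lit 0])) (TrL.node (TrL.leaf [nat_lit 3, nat_lit 4, nat_lit 3, nat_lit 4, nat_lit 3, nat_lit 4]) (TrL.leaf [nat_lit 6, nat_lit 2, nat_lit 3, nat_lit 5, nat_lit 6, nat_lit 2, nat_lit 3, nat_lit 5, nat_lit 6, nat_lit 2, nat_lit 3, nat_lit 5, nat_lit 6, nat_lit 2, nat_lit 3, nat_lit 5]))) (TrL.node (TrL.node (TrL.leaf [nat_lit 1, nat_lit 6, nat_lit 1,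 nat_lit 6]) (TrL.leaf [nat_lit 2, nat_lit 3, nat_lit 2, nat_lit 3, nat_lit 2, nat_lit 3, nat_lit 2, nat_lit 3, nat_lit 2, nat_lit 0, nat_lit 3])) (TrL.node (TrL.leaf [nat_lit 1, nat_lit 2, nat_lit 0, nat_lit 1, nat_lit 2, nat_lit 0, nat_lit 1, nat_lit 2, nat_lit 4, nat_lit 0]) (TrL.leaf []))))) (TrL.node (TrL.node (TrL.node (TrL.node (TrL.leaf [nat_lit 6, nat_lit 6]) (TrL.leaf [nat_lit 0, nat_lit 2, nat_lit 1, nat_lit 0, nat_lit 2, nat_lit 1, nat_lit 0, nat_lit 4, nat_lit 2, nat_lit 1])) (TrL.node (TrL.leaf [nat_lit 3, nat_lit 5, nat_lit 3, nat_lit 5, nat_lit 3, nat_lit 5]) (TrL.leaf [nat_lit 2, nat_lit 6, nat_lit 5, nat_lit 3, nat_lit 2, nat_lit 6, nat_lit 5, nat_lit 3, nat_lit 2, nat_lit 6, nat_lit 5, nat_lit 3, nat_lit 2, nat_lit 6, nat_lit 5, nat_lit 3]))) (TrL.node (TrL.node (TrL.leaf [nat_lit 1, nat_lit 3, nat_lit 1, nat_lit 3]) (TrL.leaf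 [nat_lit 3, nat_lit 0, nat_lit 2, nat_lit 3, nat_lit 2, nat_lit 3, nat_lit 2, nat_lit 3, nat_lit 2, nat_lit 3, nat_lit 2])) (TrL.node (TrL.leaf [nat_lit 5, nat_lit 6, nat_lit 5, nat_lit 4, nat_lit 6]) (TrL.leaf [])))) (TrL.node (TrL.node (TrL.node (TrL.leaf [nat_lit 0, nat_lit 5, nat_lit 0, nat_lit 5]) (TrL.leaf [nat_lit 3, nat_lit 2, nat_lit 3, nat_lit 2, nat_lit 3, nat_lit 2, nat_lit 3, nat_lit 2, nat_lit 3, nat_lit 0, nat_lit 2])) (TrL.node (TrL.leaf [nat_lit 6, nat_lit 4, nat_lit 6, nat_lit 4]) (TrL.leaf []))) (TrL.node (TrL.node (TrL.leaf [nat_lit 2, nat_lit 3, nat_lit 2, nat_lit 3, nat_lit 2, nat_lit 3, nat_lit 2, nat_lit 3, nat_lit 2, nat_lit 3, nat_lit 2, nat_lit 3, nat_lit 2, nat_lit 3, nat_lit 2, nat_lit 3, nat_lit 2, nat_lit 3, nat_lit 2, nat_lit 3]) (TrL.leaf [nat_lit 2, nat_lit 3, nat_lit 2, nat_lit 3, nat_lit 2, nat_lit 0, nat_lit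 3, nat_lit 2, nat_lit 3, nat_lit 2, nat_lit 3])) (TrL.node (TrL.leaf [nat_lit 2, nat_lit 0, nat_lit 1, nat_lit 2, nat_lit 4, nat_lit 0, nat_lit 1, nat_lit 2, nat_lit 0, nat_lit 1]) (TrL.leaf []))))))) (TrL.node (TrL.node (TrL.node (TrL.node (TrL.node (TrL.node (TrL.leaf [nat_lit 1, nat_lit 1]) (TrL.leaf [nat_lit 2, nat_lit 4, nat_lit 0, nat_lit 1, nat_lit 2, nat_lit 0, nat_lit 1, nat_lit 2, nat_lit 0, nat_lit 1])) (TrL.node (TrL.leaf [nat_lit 6, nat_lit 2, nat_lit 6, nat_lit 2]) (TrL.leaf [nat_lit 3, nat_lit 2, nat_lit 0, nat_lit 3, nat_lit 2, nat_lit 3, nat_lit 2, nat_lit 3, nat_lit 2, nat_lit 3, nat_lit 2]))) (TrL.node (TrL.node (TrL.leaf [nat_lit 4, nat_lit 0, nat_lit 4, nat_lit 0]) (TrL.leaf [nat_lit 2, nat_lit 3, nat_lit 2, nat_lit 3, nat_lit 2, nat_lit 3, nat_lit 0, nat_lit 2, nat_lit 3, nat_lit 2, nat_lit 3])) (TrL.node (TrL.leaf [nat_lit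 5, nat_lit 6, nat_lit 4, nat_lit 5, nat_lit 6]) (TrL.leaf [])))) (TrL.node (TrL.node (TrL.node (TrL.leaf [nat_lit 2, nat_lit 0, nat_lit 2, nat_lit 0]) (TrL.leaf [nat_lit 0, nat_lit 2, nat_lit 1, nat_lit 0, nat_lit 4, nat_lit 2, nat_lit 1, nat_lit 0, nat_lit 2, nat_lit 1])) (TrL.node (TrL.leaf [nat_lit 4, nat_lit 3, nat_lit 4, nat_lit 3, nat_lit 4, nat_lit 3]) (TrL.leaf [nat_lit 5, nat_lit 6, nat_lit 2, nat_lit 3, nat_lit 5, nat_lit 6, nat_lit 2, nat_lit 3, nat_lit 5, nat_lit 6, nat_lit 2, nat_lit 3, nat_lit 5, nat_lit 6, nat_lit 2, nat_lit 3]))) (TrL.node (TrL.node (TrL.leaf [nat_lit 6, nat_lit 1, nat_lit 6, nat_lit 1]) (TrL.leaf [nat_lit 3, nat_lit 2, nat_lit 3, nat_lit 2, nat_lit 3, nat_lit 2, nat_lit 3, nat_lit 2, nat_lit 3, nat_lit 2, nat_lit 0])) (TrL.node (TrL.leaf [nat_lit 0, nat_lit 1, nat_lit 2, nat_lit 0, nat_lit 1, nat_lit 2, nat_lit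 0, nat_lit 1, nat_lit 2, nat_lit 4]) (TrL.leaf []))))) (TrL.node (TrL.node (TrL.node (TrL.node (TrL.leaf [nat_lit 5, nat_lit 5]) (TrL.leaf [nat_lit 1, nat_lit 0, nat_lit 2, nat_lit 1, nat_lit 0, nat_lit 2, nat_lit 1, nat_lit 0, nat_lit 4, nat_lit 2])) (TrL.node (TrL.leaf [nat_lit 5, nat_lit 3, nat_lit 5, nat_lit 3, nat_lit 5, nat_lit 3]) (TrL.leaf [nat_lit 3, nat_lit 2, nat_lit 6, nat_lit 5, nat_lit 3, nat_lit 2, nat_lit 6, nat_lit 5, nat_lit 3, nat_lit 2, nat_lit 6, nat_lit 5, nat_lit 3, nat_lit 2, nat_lit 6, nat_lit 5]))) (TrL.node (TrL.node (TrL.leaf [nat_lit 3, nat_lit 1, nat_lit 3, nat_lit 1]) (TrL.leaf [nat_lit 2, nat_lit 3, nat_lit 0, nat_lit 2, nat_lit 3, nat_lit 2, nat_lit 3, nat_lit 2, nat_lit 3, nat_lit 2, nat_lit 3])) (TrL.node (TrL.leaf [nat_lit 6, nat_lit 5, nat_lit 6, nat_lit 5, nat_lit 4]) (TrL.leaf [])))) (TrL.node (TrL.node (TrL.node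 (TrL.leaf [nat_lit 5, nat_lit 0, nat_lit 5, nat_lit 0]) (TrL.leaf [nat_lit 2, nat_lit 3, nat_lit 2, nat_lit 3, nat_lit 2, nat_lit 3, nat_lit 2, nat_lit 3, nat_lit 2, nat_lit 3, nat_lit 0])) (TrL.node (TrL.leaf [nat_lit 4, nat_lit 6, nat_lit 4, nat_lit 6]) (TrL.leaf []))) (TrL.node (TrL.node (TrL.leaf [nat_lit 3, nat_lit 2, nat_lit 3, nat_lit 2, nat_lit 3, nat_lit 2, nat_lit 3, nat_lit 2, nat_lit 3, nat_lit 2, nat_lit 3, nat_lit 2, nat_lit 3, nat_lit 2, nat_lit 3, nat_lit 2, nat_lit 3, nat_lit 2, nat_lit 3, nat_lit 2]) (TrL.leaf [nat_lit 3, nat_lit 2, nat_lit 3, nat_lit 2, nat_lit 3, nat_lit 2, nat_lit 0, nat_lit 3, nat_lit 2, nat_lit 3, nat_lit 2])) (TrL.node (TrL.leaf [nat_lit 1, nat_lit 2, nat_lit 0, nat_lit 1, nat_lit 2, nat_lit 4, nat_lit 0, nat_lit 1, nat_lit 2, nat_lit 0]) (TrL.leaf [])))))) (TrL.node (TrL.node (TrL.node (TrL.node (TrL.node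 (TrL.leaf [nat_lit 3, nat_lit 3]) (TrL.leaf [nat_lit 4, nat_lit 2, nat_lit 1, nat_lit 0, nat_lit 2, nat_lit 1, nat_lit 0, nat_lit 2, nat_lit 1, nat_lit 0])) (TrL.node (TrL.leaf [nat_lit 4, nat_lit 2, nat_lit 4, nat_lit 2]) (TrL.leaf [nat_lit 6, nat_lit 5, nat_lit 3, nat_lit 2, nat_lit 6, nat_lit 5, nat_lit 3, nat_lit 2, nat_lit 6, nat_lit 5, nat_lit 3, nat_lit 2, nat_lit 6, nat_lit 5, nat_lit 3, nat_lit 2]))) (TrL.node (TrL.node (TrL.leaf [nat_lit 2, nat_lit 1, nat_lit 2, nat_lit 1, nat_lit 2, nat_lit 1]) (TrL.leaf [nat_lit 2, nat_lit 3, nat_lit 2, nat_lit 3, nat_lit 0, nat_lit 2, nat_lit 3, nat_lit 2, nat_lit 3, nat_lit 2, nat_lit 3])) (TrL.node (TrL.leaf [nat_lit 4, nat_lit 5, nat_lit 6, nat_lit 5, nat_lit 6]) (TrL.leaf [])))) (TrL.node (TrL.node (TrL.node (TrL.leaf [nat_lit 3, nat_lit 0, nat_lit 3, nat_lit 0]) (TrL.leaf [nat_lit 1, nat_lit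 0, nat_lit 4, nat_lit 2, nat_lit 1, nat_lit 0, nat_lit 2, nat_lit 1, nat_lit 0, nat_lit 2])) (TrL.node (TrL.leaf [nat_lit 4, nat_lit 5, nat_lit 4, nat_lit 5]) (TrL.leaf []))) (TrL.node (TrL.node (TrL.leaf [nat_lit 4, nat_lit 1, nat_lit 4, nat_lit 1]) (TrL.leaf [nat_lit 3, nat_lit 2, nat_lit 3, nat_lit 2, nat_lit 3, nat_lit 2, nat_lit 3, nat_lit 2, nat_lit 0, nat_lit 3, nat_lit 2])) (TrL.node (TrL.leaf [nat_lit 2, nat_lit 0, nat_lit 1, nat_lit 2, nat_lit 0, nat_lit 1, nat_lit 2, nat_lit 4, nat_lit 0, nat_lit 1]) (TrL.leaf []))))) (TrL.node (TrL.node (TrL.node (TrL.node (TrL.leaf [nat_lit 1, nat_lit 0, nat_lit 1, nat_lit 0, nat_lit 1, nat_lit 0, nat_lit 1, nat_lit 0]) (TrL.leaf [nat_lit 2, nat_lit 1, nat_lit 0, nat_lit 2, nat_lit 1, nat_lit 0, nat_lit 4, nat_lit 2, nat_lit 1, nat_lit 0])) (TrL.node (TrL.leaf [nat_lit 6, nat_lit 3, nat_lit 6, nat_lit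 3, nat_lit 6, nat_lit 3]) (TrL.leaf [nat_lit 2, nat_lit 3, nat_lit 5, nat_lit 6, nat_lit 2, nat_lit 3, nat_lit 5, nat_lit 6, nat_lit 2, nat_lit 3, nat_lit 5, nat_lit 6, nat_lit 2, nat_lit 3, nat_lit 5, nat_lit 6]))) (TrL.node (TrL.node (TrL.leaf [nat_lit 5, nat_lit 1, nat_lit 5, nat_lit 1]) (TrL.leaf [nat_lit 0, nat_lit 2, nat_lit 3, nat_lit 2, nat_lit 3, nat_lit 2, nat_lit 3, nat_lit 2, nat_lit 3, nat_lit 2, nat_lit 3])) (TrL.node (TrL.leaf [nat_lit 6, nat_lit 5, nat_lit 4, nat_lit 6, nat_lit 5]) (TrL.leaf [])))) (TrL.node (TrL.node (TrL.node (TrL.leaf [nat_lit 6, nat_lit 0, nat_lit 6, nat_lit 0]) (TrL.leaf [nat_lit 2, nat_lit 3, nat_lit 2, nat_lit 3, nat_lit 2, nat_lit 3, nat_lit 2, nat_lit 3, nat_lit 0, nat_lit 2, nat_lit 3])) (TrL.node (TrL.leaf [nat_lit 5, nat_lit 6, nat_lit 5, nat_lit 6, nat_lit 4]) (TrL.leaf []))) (TrL.node (TrL.node (TrL.leaf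 [nat_lit 5, nat_lit 2, nat_lit 5, nat_lit 2]) (TrL.leaf [nat_lit 3, nat_lit 2, nat_lit 3, nat_lit 2, nat_lit 0, nat_lit 3, nat_lit 2, nat_lit 3, nat_lit 2, nat_lit 3, nat_lit 2])) (TrL.node (TrL.leaf [nat_lit 0, nat_lit 1, nat_lit 2, nat_lit 4, nat_lit 0, nat_lit 1, nat_lit 2, nat_lit 0, nat_lit 1, nat_lit 2]) (TrL.leaf []))))))))
def rotSrc : List (ℕ × ℕ × Bool) := [(0, 0, false), (57, 7, false), (25, 1, false), (58, 8, true), (12, 1, false), (58, 3, false), (56, 1, false), (60, 0, false), (8, 1, false), (57, 5, true), (33, 1, false), (59, 1, true), (18, 1, false), (58, 0, true), (56, 4, true), (60, 0, false), (4, 0, false), (57, 1, true), (27, 1, false), (59, 1, false), (16, 1, false), (58, 7, false), (56, 0, true), (60, 0, false), (10, 1, false), (57, 9, true), (41, 1, false), (60, 0, false), (20, 1, false), (58, 4, true), (57, 3, false), (60,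 0, false), (2, 0, false), (57, 9, false), (26, 1, false), (58, 10, true), (13, 1, false), (58, 5, false), (56, 3, false), (60, 0, false), (9, 1, false), (57, 7, true), (34, 1, false), (59, 3, true), (19, 1, false), (58, 2, true), (57, 1, false), (60, 0, false), (6, 0, false), (57, 3, true), (32, 1, false), (59, 3, false), (17, 1, false), (58, 9, false), (56, 2, true), (60, 0, false), (11, 1, false), (58, 1, false), (48, 1, false), (60, 0, false), (24, 1, false), (58, 6, true), (57, 5, false), (60, 0, false), (1, 0, false), (57, 8, false), (26, 0, false), (58, 9, true), (13, 0, false), (58, 4, false), (56, 2, false), (60, 0, false), (9, 0, false), (57, 6, true), (34, 0, false), (59, 2, true), (19, 0, false), (58, 1, true), (57, 0, false), (60, 0, false), (5, 0, false), (57, 2, true), (32, 0, false), (59, 2, false), (17, 0, false), (58, 8, false),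 (56, 1, true), (60, 0, false), (11, 0, false), (58, 0, false), (48, 0, false), (60, 0, false), (24, 0, false), (58, 5, true), (57, 4, false), (60, 0, false), (3, 0, false), (57, 0, true), (27, 0, false), (59, 0, false), (16, 0, false), (58, 6, false), (56, 4, false), (60, 0, false), (10, 0, false), (57, 8, true), (41, 0, false), (60, 0, false), (20, 0, false), (58, 3, true), (57, 2, false), (60, 0, false), (8, 0, false), (57, 4, true), (33, 0, false), (59, 0, true), (18, 0, false), (58, 10, false), (56, 3, true), (60, 0, false), (12, 0, false), (58, 2, false), (56, 0, false), (60, 0, false), (25, 0, false), (58, 7, true), (57, 6, false), (60, 0, false)]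
def relWords : List (List ℕ) := [[0, 0], [1, 1], [2, 2], [3, 3], [4, 4], [5, 5], [6, 6], [0, 0], [1, 0, 1, 0, 1, 0, 1, 0], [2, 0, 2, 0], [3, 0, 3, 0], [5, 0, 5, 0], [6, 0, 6, 0], [4, 0, 4, 0], [0, 1, 0, 1, 0, 1, 0, 1], [1, 1], [2, 1, 2, 1, 2, 1], [3, 1, 3, 1], [5, 1, 5, 1], [6, 1, 6, 1], [4, 1, 4, 1], [0, 2, 0, 2], [1, 2, 1, 2, 1, 2], [2, 2], [3, 2, 3, 2, 3, 2, 3, 2, 3, 2, 3, 2, 3, 2, 3, 2, 3, 2, 3, 2], [5, 2, 5, 2], [6, 2, 6, 2], [4, 2, 4, 2], [0, 3, 0, 3], [1, 3, 1, 3], [2, 3, 2, 3, 2, 3, 2, 3, 2, 3, 2, 3, 2, 3, 2, 3, 2, 3, 2, 3], [3, 3], [5, 3, 5, 3, 5, 3], [6, 3, 6, 3, 6, 3], [4, 3, 4, 3, 4, 3], [0, 5, 0, 5], [1, 5, 1, 5], [2, 5, 2, 5], [3, 5, 3, 5, 3, 5], [5, 5], [6, 5, 6, 5, 6, 5, 6, 5], [4, 5, 4, 5], [0, 6, 0, 6], [1, 6, 1, 6], [2, 6, 2, 6], [3, 6, 3, 6, 3, 6], [5, 6, 5, 6, 5, 6, 5, 6], [6, 6], [4, 6, 4, 6], [0, 4, 0, 4], [1, 4, 1, 4],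 [2, 4, 2, 4], [3, 4, 3, 4, 3, 4], [5, 4, 5, 4], [6, 4, 6, 4], [4, 4], [5, 6, 5, 6, 4], [0, 1, 2, 0, 1, 2, 0, 1, 2, 4], [2, 3, 2, 3, 2, 3, 2, 3, 2, 3, 0], [6, 5, 3, 2, 6, 5, 3, 2, 6, 5, 3, 2, 6, 5, 3, 2]]
def subsW : List (List ℕ) := [[nat_lit 0], [nat_lit 1], [nat_lit 2], [nat_lit 5], [nat_lit 6], [nat_lit 3, nat_lit 4, nat_lit 5, nat_lit 3, nat_lit 2, nat_lit 3, nat_lit 5, nat_lit 4, nat_lit 3], [nat_lit 3, nat_lit 4, nat_lit 6, nat_lit 3, nat_lit 2, nat_lit 3, nat_lit 6, nat_lit 4, nat_lit 3]]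
def relPairs : List (List ℕ × List ℕ) := [([nat_lit 1, nat_lit 0, nat_lit 1, nat_lit 0], [nat_lit 0, nat_lit 1, nat_lit 0, nat_lit 1]), ([nat_lit 2, nat_lit 0], [nat_lit 0, nat_lit 2]), ([nat_lit 3, nat_lit 0], [nat_lit 0, nat_lit 3]), ([nat_lit 5, nat_lit 0], [nat_lit 0, nat_lit 5]), ([nat_lit 6, nat_lit 0], [nat_lit 0, nat_lit 6]), ([nat_lit 4, nat_lit 0], [nat_lit 0, nat_lit 4]), ([nat_lit 2, nat_lit 1, nat_lit 2], [nat_lit 1, nat_lit 2, nat_lit 1]), ([nat_lit 3, nat_lit 1], [nat_lit 1, nat_lit 3]), ([nat_lit 5, nat_lit 1], [nat_lit 1, nat_lit 5]), ([nat_lit 6, nat_lit 1], [nat_lit 1, nat_lit 6]), ([nat_lit 4, nat_lit 1], [nat_lit 1, nat_lit 4]), ([nat_lit 3, nat_lit 2, nat_lit 3, nat_lit 2, nat_lit 3, nat_lit 2, nat_lit 3, nat_lit 2, nat_lit 3, nat_lit 2], [nat_lit 2, nat_lit 3, nat_lit 2, nat_lit 3, nat_lit 2, nat_lit 3, nat_lit 2, nat_lit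 3, nat_lit 2, nat_lit 3]), ([nat_lit 5, nat_lit 2], [nat_lit 2, nat_lit 5]), ([nat_lit 6, nat_lit 2], [nat_lit 2, nat_lit 6]), ([nat_lit 4, nat_lit 2], [nat_lit 2, nat_lit 4]), ([nat_lit 5, nat_lit 3, nat_lit 5], [nat_lit 3, nat_lit 5, nat_lit 3]), ([nat_lit 6, nat_lit 3, nat_lit 6], [nat_lit 3, nat_lit 6, nat_lit 3]), ([nat_lit 4, nat_lit 3, nat_lit 4], [nat_lit 3, nat_lit 4, nat_lit 3]), ([nat_lit 6, nat_lit 5, nat_lit 6, nat_lit 5], [nat_lit 5, nat_lit 6, nat_lit 5, nat_lit 6]), ([nat_lit 4, nat_lit 5], [nat_lit 5, nat_lit 4]), ([nat_lit 4, nat_lit 6], [nat_lit 6, nat_lit 4]), ([nat_lit 5, nat_lit 6, nat_lit 5], [nat_lit 4, nat_lit 6]), ([nat_lit 10, nat_lit 10, nat_lit 10, nat_lit 4], []), ([nat_lit 2, nat_lit 3, nat_lit 2, nat_lit 3, nat_lit 2, nat_lit 3], [nat_lit 0, nat_lit 3, nat_lit 2, nat_lit 3, nat_lit 2]), ([nat_lit 11, nat_lit 11,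 nat_lit 11, nat_lit 11], [])]
def macrosW : List (List ℕ) := [[nat_lit 0, nat_lit 1, nat_lit 2], [nat_lit 6, nat_lit 5, nat_lit 3, nat_lit 2]]

noncomputable def U : UData where
  N := nat_lit 189174
  L := nat_lit 7
  F := nat_lit 3
  TB := nat_lit 18
  FW := nat_lit 39
  JW := nat_lit 28
  mT := nat_lit 262143
  mF := nat_lit 549755813887
  mJ := nat_lit 268435455
  row := getRow tU (nat_lit 5) (nat_lit 31) (nat_lit 351) (nat_lit 0x7fffffffffffffffffffffffffffffffffffffffffffffffffffffffffffffffffffffffffffffffffffffff)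
  jrow := getRow tJ (nat_lit 5) (nat_lit 31) (nat_lit 224) (nat_lit 0xffffffffffffffffffffffffffffffffffffffffffffffffffffffff)
  rot := tR.get
  sub := fun h => subsW.getD h []

noncomputable def P : LData where
  n := nat_lit 187425
  L := nat_lit 7
  AB := nat_lit 18
  mA := nat_lit 262143
  arow := getRow tA (nat_lit 6) (nat_lit 63) (nat_lit 216) (nat_lit 0xffffffffffffffffffffffffffffffffffffffffffffffffffffff)
  ivl := [nat_lit 0, nat_lit 1, nat_lit 2, nat_lit 3, nat_lit 4, nat_lit 5, nat_lit 6]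
  relPairs := relPairs
  macros := macrosW
  subs := subsW
  roots := [nat_lit 0, nat_lit 1, nat_lit 4, nat_lit 6, nat_lit 18, nat_lit 26, nat_lit 31, nat_lit 96, nat_lit 125, nat_lit 148, nat_lit 151, nat_lit 174, nat_lit 176, nat_lit 221, nat_lit 266, nat_lit 432, nat_lit 434, nat_lit 507, nat_lit 719, nat_lit 829, nat_lit 909, nat_lit 923, nat_lit 1006, nat_lit 1011, nat_lit 1025, nat_lit 1238, nat_lit 1270, nat_lit 1328, nat_lit 1419, nat_lit 1447, nat_lit 1984, nat_lit 1991, nat_lit 2290, nat_lit 2507]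

end Cfsg.Agent.Lib.Helper35HeC
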