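import Cfsg.Agent.Lib.Helper35HeC

set_option autoImplicit false
set_option maxRecDepth 100000

namespace Cfsg.Agent.Lib.Helper35HeC

open Cfsg.Agent.Lib.Helper35TC

theorem chkU_11_55 : allD U.chkRow 11 112640 = true := by decide +kernel
theorem chkU_11_56 : allD U.chkRow 11 114688 = true := by decide +kernel
theorem chkU_11_57 : allD U.chkRow 11 116736 = true := by decide +kernel
theorem chkU_11_58 : allD U.chkRow 11 118784 = true := by decide +kernel
theorem chkU_11_59 : allD U.chkRow 11 120832 = true := by decide +kernel
theorem chkU_11_60 : allD U.chkRow 11 122880 = true := by decide +kernel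
theorem chkU_11_61 : allD U.chkRow 11 124928 = true := by decide +kernel
theorem chkU_11_62 : allD U.chkRow 11 126976 = true := by decide +kernel
theorem chkU_11_63 : allD U.chkRow 11 129024 = true := by decide +kernel
theorem chkU_11_64 : allD U.chkRow 11 131072 = true := by decide +kernel
theorem chkU_11_65 : allD U.chkRow 11 133120 = true := by decide +kernel
theorem chkU_11_66 : allD U.chkRow 11 135168 = true := by decide +kernel
theorem chkU_11_67 : allD U.chkRow 11 137216 = true := by decide +kernel
theorem chkU_11_68 : allD U.chkRow 11 139264 = true := by decide +kernel
theorem chkU_11_69 : allD U.chkRow 11 141312 = true := by decide +kernel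
theorem chkU_11_70 : allD U.chkRow 11 143360 = true := by decide +kernel
theorem chkU_11_71 : allD U.chkRow 11 145408 = true := by decide +kernel
theorem chkU_11_72 : allD U.chkRow 11 147456 = true := by decide +kernel
theorem chkU_11_73 : allD U.chkRow 11 149504 = true := by decide +kernel
theorem chkU_11_74 : allD U.chkRow 11 151552 = true := by decide +kernel
theorem chkU_11_75 : allD U.chkRow 11 153600 = true := by decide +kernel
theorem chkU_11_76 : allD U.chkRow 11 155648 = true := by decide +kernel
theorem chkU_11_77 : allD U.chkRow 11 157696 = true := by decide +kernel
theorem chkU_11_78 : allD U.chkRow 11 159744 = true := by decide +kernel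
theorem chkU_11_79 : allD U.chkRow 11 161792 = true := by decide +kernel
theorem chkU_11_80 : allD U.chkRow 11 163840 = true := by decide +kernel
theorem chkU_11_81 : allD U.chkRow 11 165888 = true := by decide +kernel
theorem chkU_11_82 : allD U.chkRow 11 167936 = true := by decide +kernel
theorem chkU_11_83 : allD U.chkRow 11 169984 = true := by decide +kernel
theorem chkU_11_84 : allD U.chkRow 11 172032 = true := by decide +kernel
theorem chkU_11_85 : allD U.chkRow 11 174080 = true := by decide +kernel
theorem chkU_11_86 : allD U.chkRow 11 176128 = true := by decide +kernel
theorem chkU_11_87 : allD U.chkRow 11 178176 = true := by decide +kernel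
theorem chkU_11_88 : allD U.chkRow 11 180224 = true := by decide +kernel
theorem chkU_11_89 : allD U.chkRow 11 182272 = true := by decide +kernel
theorem chkU_11_90 : allD U.chkRow 11 184320 = true := by decide +kernel
theorem chkU_11_91 : allD U.chkRow 11 186368 = true := by decide +kernel
theorem chkU_11_92 : allD U.chkRow 11 188416 = true := by decide +kernel
theorem chkU_11_93 : allD U.chkRow 11 190464 = true := by decide +kernel
theorem chkU_11_94 : allD U.chkRow 11 192512 = true := by decide +kernel
theorem chkU_11_95 : allD U.chkRow 11 194560 = true := by decide +kernel
theorem chkU_11_96 : allD U.chkRow 11 196608 = true := by decide +kernel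
theorem chkU_11_97 : allD U.chkRow 11 198656 = true := by decide +kernel
theorem chkU_11_98 : allD U.chkRow 11 200704 = true := by decide +kernel
theorem chkU_11_99 : allD U.chkRow 11 202752 = true := by decide +kernel
theorem chkU_11_100 : allD U.chkRow 11 204800 = true := by decide +kernel
theorem chkU_11_101 : allD U.chkRow 11 206848 = true := by decide +kernel
theorem chkU_11_102 : allD U.chkRow 11 208896 = true := by decide +kernel
theorem chkU_11_103 : allD U.chkRow 11 210944 = true := by decide +kernel
theorem chkU_11_104 : allD U.chkRow 11 212992 = true := by decide +kernel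
theorem chkU_11_105 : allD U.chkRow 11 215040 = true := by decide +kernel
theorem chkU_11_106 : allD U.chkRow 11 217088 = true := by decide +kernel
theorem chkU_11_107 : allD U.chkRow 11 219136 = true := by decide +kernel
theorem chkU_11_108 : allD U.chkRow 11 221184 = true := by decide +kernel
theorem chkU_11_109 : allD U.chkRow 11 223232 = true := by decide +kernel

end Cfsg.Agent.Lib.Helper35HeC
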