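import Cfsg.Agent.Lib.Helper35HeC

set_option autoImplicit false
set_option maxRecDepth 100000

namespace Cfsg.Agent.Lib.Helper35HeC

open Cfsg.Agent.Lib.Helper35TC

theorem chkU_11_110 : allD U.chkRow 11 225280 = true := by decide +kernel
theorem chkU_11_111 : allD U.chkRow 11 227328 = true := by decide +kernel
theorem chkU_11_112 : allD U.chkRow 11 229376 = true := by decide +kernel
theorem chkU_11_113 : allD U.chkRow 11 231424 = true := by decide +kernel
theorem chkU_11_114 : allD U.chkRow 11 233472 = true := by decide +kernel
theorem chkU_11_115 : allD U.chkRow 11 235520 = true := by decide +kernel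
theorem chkU_11_116 : allD U.chkRow 11 237568 = true := by decide +kernel
theorem chkU_11_117 : allD U.chkRow 11 239616 = true := by decide +kernel
theorem chkU_11_118 : allD U.chkRow 11 241664 = true := by decide +kernel
theorem chkU_11_119 : allD U.chkRow 11 243712 = true := by decide +kernel
theorem chkU_11_120 : allD U.chkRow 11 245760 = true := by decide +kernel
theorem chkU_11_121 : allD U.chkRow 11 247808 = true := by decide +kernel
theorem chkU_11_122 : allD U.chkRow 11 249856 = true := by decide +kernel
theorem chkU_11_123 : allD U.chkRow 11 251904 = true := by decide +kernel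
theorem chkU_11_124 : allD U.chkRow 11 253952 = true := by decide +kernel
theorem chkU_11_125 : allD U.chkRow 11 256000 = true := by decide +kernel
theorem chkU_11_126 : allD U.chkRow 11 258048 = true := by decide +kernel
theorem chkU_11_127 : allD U.chkRow 11 260096 = true := by decide +kernel
theorem cntU_14_0 : cntD U.live 14 0 = 16203 := by decide +kernel
theorem cntU_14_1 : cntD U.live 14 16384 = 16064 := by decide +kernel
theorem cntU_14_2 : cntD U.live 14 32768 = 16143 := by decide +kernel
theorem cntU_14_3 : cntD U.live 14 49152 = 16173 := by decide +kernel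
theorem cntU_14_4 : cntD U.live 14 65536 = 16209 := by decide +kernel
theorem cntU_14_5 : cntD U.live 14 81920 = 16192 := by decide +kernel
theorem cntU_14_6 : cntD U.live 14 98304 = 16216 := by decide +kernel
theorem cntU_14_7 : cntD U.live 14 114688 = 16252 := by decide +kernel
theorem cntU_14_8 : cntD U.live 14 131072 = 16321 := by decide +kernel
theorem cntU_14_9 : cntD U.live 14 147456 = 16349 := by decide +kernel
theorem cntU_14_10 : cntD U.live 14 163840 = 16357 := by decide +kernel
theorem cntU_14_11 : cntD U.live 14 180224 = 8946 := by decide +kernel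
theorem cntU_14_12 : cntD U.live 14 196608 = 0 := by decide +kernel
theorem cntU_14_13 : cntD U.live 14 212992 = 0 := by decide +kernel
theorem cntU_14_14 : cntD U.live 14 229376 = 0 := by decide +kernel
theorem cntU_14_15 : cntD U.live 14 245760 = 0 := by decide +kernel
theorem chkP_9_0 : allD P.chkPt 9 0 = true := by decide +kernel
theorem chkP_9_1 : allD P.chkPt 9 512 = true := by decide +kernel
theorem chkP_9_2 : allD P.chkPt 9 1024 = true := by decide +kernel
theorem chkP_9_3 : allD P.chkPt 9 1536 = true := by decide +kernel
theorem chkP_9_4 : allD P.chkPt 9 2048 = true := by decide +kernel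
theorem chkP_9_5 : allD P.chkPt 9 2560 = true := by decide +kernel
theorem chkP_9_6 : allD P.chkPt 9 3072 = true := by decide +kernel
theorem chkP_9_7 : allD P.chkPt 9 3584 = true := by decide +kernel
theorem chkP_9_8 : allD P.chkPt 9 4096 = true := by decide +kernel
theorem chkP_9_9 : allD P.chkPt 9 4608 = true := by decide +kernel
theorem chkP_9_10 : allD P.chkPt 9 5120 = true := by decide +kernel
theorem chkP_9_11 : allD P.chkPt 9 5632 = true := by decide +kernel
theorem chkP_9_12 : allD P.chkPt 9 6144 = true := by decide +kernel
theorem chkP_9_13 : allD P.chkPt 9 6656 = true := by decide +kernel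
theorem chkP_9_14 : allD P.chkPt 9 7168 = true := by decide +kernel
theorem chkP_9_15 : allD P.chkPt 9 7680 = true := by decide +kernel
theorem chkP_9_16 : allD P.chkPt 9 8192 = true := by decide +kernel
theorem chkP_9_17 : allD P.chkPt 9 8704 = true := by decide +kernel
theorem chkP_9_18 : allD P.chkPt 9 9216 = true := by decide +kernel
theorem chkP_9_19 : allD P.chkPt 9 9728 = true := by decide +kernel
theorem chkP_9_20 : allD P.chkPt 9 10240 = true := by decide +kernel

end Cfsg.Agent.Lib.Helper35HeC
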