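import Cfsg.Agent.Lib.Helper35HeC

set_option autoImplicit false
set_option maxRecDepth 100000

namespace Cfsg.Agent.Lib.Helper35HeC

open Cfsg.Agent.Lib.Helper35TC

theorem chkP_9_21 : allD P.chkPt 9 10752 = true := by decide +kernel
theorem chkP_9_22 : allD P.chkPt 9 11264 = true := by decide +kernel
theorem chkP_9_23 : allD P.chkPt 9 11776 = true := by decide +kernel
theorem chkP_9_24 : allD P.chkPt 9 12288 = true := by decide +kernel
theorem chkP_9_25 : allD P.chkPt 9 12800 = true := by decide +kernel
theorem chkP_9_26 : allD P.chkPt 9 13312 = true := by decide +kernel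
theorem chkP_9_27 : allD P.chkPt 9 13824 = true := by decide +kernel
theorem chkP_9_28 : allD P.chkPt 9 14336 = true := by decide +kernel
theorem chkP_9_29 : allD P.chkPt 9 14848 = true := by decide +kernel
theorem chkP_9_30 : allD P.chkPt 9 15360 = true := by decide +kernel
theorem chkP_9_31 : allD P.chkPt 9 15872 = true := by decide +kernel
theorem chkP_9_32 : allD P.chkPt 9 16384 = true := by decide +kernel
theorem chkP_9_33 : allD P.chkPt 9 16896 = true := by decide +kernel
theorem chkP_9_34 : allD P.chkPt 9 17408 = true := by decide +kernel
theorem chkP_9_35 : allD P.chkPt 9 17920 = true := by decide +kernel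
theorem chkP_9_36 : allD P.chkPt 9 18432 = true := by decide +kernel
theorem chkP_9_37 : allD P.chkPt 9 18944 = true := by decide +kernel
theorem chkP_9_38 : allD P.chkPt 9 19456 = true := by decide +kernel
theorem chkP_9_39 : allD P.chkPt 9 19968 = true := by decide +kernel
theorem chkP_9_40 : allD P.chkPt 9 20480 = true := by decide +kernel
theorem chkP_9_41 : allD P.chkPt 9 20992 = true := by decide +kernel
theorem chkP_9_42 : allD P.chkPt 9 21504 = true := by decide +kernel
theorem chkP_9_43 : allD P.chkPt 9 22016 = true := by decide +kernel
theorem chkP_9_44 : allD P.chkPt 9 22528 = true := by decide +kernel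
theorem chkP_9_45 : allD P.chkPt 9 23040 = true := by decide +kernel
theorem chkP_9_46 : allD P.chkPt 9 23552 = true := by decide +kernel
theorem chkP_9_47 : allD P.chkPt 9 24064 = true := by decide +kernel
theorem chkP_9_48 : allD P.chkPt 9 24576 = true := by decide +kernel
theorem chkP_9_49 : allD P.chkPt 9 25088 = true := by decide +kernel
theorem chkP_9_50 : allD P.chkPt 9 25600 = true := by decide +kernel
theorem chkP_9_51 : allD P.chkPt 9 26112 = true := by decide +kernel
theorem chkP_9_52 : allD P.chkPt 9 26624 = true := by decide +kernel
theorem chkP_9_53 : allD P.chkPt 9 27136 = true := by decide +kernel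
theorem chkP_9_54 : allD P.chkPt 9 27648 = true := by decide +kernel
theorem chkP_9_55 : allD P.chkPt 9 28160 = true := by decide +kernel
theorem chkP_9_56 : allD P.chkPt 9 28672 = true := by decide +kernel
theorem chkP_9_57 : allD P.chkPt 9 29184 = true := by decide +kernel
theorem chkP_9_58 : allD P.chkPt 9 29696 = true := by decide +kernel
theorem chkP_9_59 : allD P.chkPt 9 30208 = true := by decide +kernel
theorem chkP_9_60 : allD P.chkPt 9 30720 = true := by decide +kernel
theorem chkP_9_61 : allD P.chkPt 9 31232 = true := by decide +kernel
theorem chkP_9_62 : allD P.chkPt 9 31744 = true := by decide +kernel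
theorem chkP_9_63 : allD P.chkPt 9 32256 = true := by decide +kernel
theorem chkP_9_64 : allD P.chkPt 9 32768 = true := by decide +kernel
theorem chkP_9_65 : allD P.chkPt 9 33280 = true := by decide +kernel
theorem chkP_9_66 : allD P.chkPt 9 33792 = true := by decide +kernel
theorem chkP_9_67 : allD P.chkPt 9 34304 = true := by decide +kernel
theorem chkP_9_68 : allD P.chkPt 9 34816 = true := by decide +kernel
theorem chkP_9_69 : allD P.chkPt 9 35328 = true := by decide +kernel
theorem chkP_9_70 : allD P.chkPt 9 35840 = true := by decide +kernel
theorem chkP_9_71 : allD P.chkPt 9 36352 = true := by decide +kernel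
theorem chkP_9_72 : allD P.chkPt 9 36864 = true := by decide +kernel
theorem chkP_9_73 : allD P.chkPt 9 37376 = true := by decide +kernel
theorem chkP_9_74 : allD P.chkPt 9 37888 = true := by decide +kernel
theorem chkP_9_75 : allD P.chkPt 9 38400 = true := by decide +kernel

end Cfsg.Agent.Lib.Helper35HeC
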