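import Cfsg.Agent.Lib.Helper35HeC

set_option autoImplicit false
set_option maxRecDepth 100000

namespace Cfsg.Agent.Lib.Helper35HeC

open Cfsg.Agent.Lib.Helper35TC

theorem chkP_9_76 : allD P.chkPt 9 38912 = true := by decide +kernel
theorem chkP_9_77 : allD P.chkPt 9 39424 = true := by decide +kernel
theorem chkP_9_78 : allD P.chkPt 9 39936 = true := by decide +kernel
theorem chkP_9_79 : allD P.chkPt 9 40448 = true := by decide +kernel
theorem chkP_9_80 : allD P.chkPt 9 40960 = true := by decide +kernel
theorem chkP_9_81 : allD P.chkPt 9 41472 = true := by decide +kernel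
theorem chkP_9_82 : allD P.chkPt 9 41984 = true := by decide +kernel
theorem chkP_9_83 : allD P.chkPt 9 42496 = true := by decide +kernel
theorem chkP_9_84 : allD P.chkPt 9 43008 = true := by decide +kernel
theorem chkP_9_85 : allD P.chkPt 9 43520 = true := by decide +kernel
theorem chkP_9_86 : allD P.chkPt 9 44032 = true := by decide +kernel
theorem chkP_9_87 : allD P.chkPt 9 44544 = true := by decide +kernel
theorem chkP_9_88 : allD P.chkPt 9 45056 = true := by decide +kernel
theorem chkP_9_89 : allD P.chkPt 9 45568 = true := by decide +kernel
theorem chkP_9_90 : allD P.chkPt 9 46080 = true := by decide +kernel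
theorem chkP_9_91 : allD P.chkPt 9 46592 = true := by decide +kernel
theorem chkP_9_92 : allD P.chkPt 9 47104 = true := by decide +kernel
theorem chkP_9_93 : allD P.chkPt 9 47616 = true := by decide +kernel
theorem chkP_9_94 : allD P.chkPt 9 48128 = true := by decide +kernel
theorem chkP_9_95 : allD P.chkPt 9 48640 = true := by decide +kernel
theorem chkP_9_96 : allD P.chkPt 9 49152 = true := by decide +kernel
theorem chkP_9_97 : allD P.chkPt 9 49664 = true := by decide +kernel
theorem chkP_9_98 : allD P.chkPt 9 50176 = true := by decide +kernel
theorem chkP_9_99 : allD P.chkPt 9 50688 = true := by decide +kernel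
theorem chkP_9_100 : allD P.chkPt 9 51200 = true := by decide +kernel
theorem chkP_9_101 : allD P.chkPt 9 51712 = true := by decide +kernel
theorem chkP_9_102 : allD P.chkPt 9 52224 = true := by decide +kernel
theorem chkP_9_103 : allD P.chkPt 9 52736 = true := by decide +kernel
theorem chkP_9_104 : allD P.chkPt 9 53248 = true := by decide +kernel
theorem chkP_9_105 : allD P.chkPt 9 53760 = true := by decide +kernel
theorem chkP_9_106 : allD P.chkPt 9 54272 = true := by decide +kernel
theorem chkP_9_107 : allD P.chkPt 9 54784 = true := by decide +kernel
theorem chkP_9_108 : allD P.chkPt 9 55296 = true := by decide +kernel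
theorem chkP_9_109 : allD P.chkPt 9 55808 = true := by decide +kernel
theorem chkP_9_110 : allD P.chkPt 9 56320 = true := by decide +kernel
theorem chkP_9_111 : allD P.chkPt 9 56832 = true := by decide +kernel
theorem chkP_9_112 : allD P.chkPt 9 57344 = true := by decide +kernel
theorem chkP_9_113 : allD P.chkPt 9 57856 = true := by decide +kernel
theorem chkP_9_114 : allD P.chkPt 9 58368 = true := by decide +kernel
theorem chkP_9_115 : allD P.chkPt 9 58880 = true := by decide +kernel
theorem chkP_9_116 : allD P.chkPt 9 59392 = true := by decide +kernel
theorem chkP_9_117 : allD P.chkPt 9 59904 = true := by decide +kernel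
theorem chkP_9_118 : allD P.chkPt 9 60416 = true := by decide +kernel
theorem chkP_9_119 : allD P.chkPt 9 60928 = true := by decide +kernel
theorem chkP_9_120 : allD P.chkPt 9 61440 = true := by decide +kernel
theorem chkP_9_121 : allD P.chkPt 9 61952 = true := by decide +kernel
theorem chkP_9_122 : allD P.chkPt 9 62464 = true := by decide +kernel
theorem chkP_9_123 : allD P.chkPt 9 62976 = true := by decide +kernel
theorem chkP_9_124 : allD P.chkPt 9 63488 = true := by decide +kernel
theorem chkP_9_125 : allD P.chkPt 9 64000 = true := by decide +kernel
theorem chkP_9_126 : allD P.chkPt 9 64512 = true := by decide +kernel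
theorem chkP_9_127 : allD P.chkPt 9 65024 = true := by decide +kernel
theorem chkP_9_128 : allD P.chkPt 9 65536 = true := by decide +kernel
theorem chkP_9_129 : allD P.chkPt 9 66048 = true := by decide +kernel
theorem chkP_9_130 : allD P.chkPt 9 66560 = true := by decide +kernel

end Cfsg.Agent.Lib.Helper35HeC
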