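import Cfsg.Agent.Lib.Helper35HeC

set_option autoImplicit false
set_option maxRecDepth 100000

namespace Cfsg.Agent.Lib.Helper35HeC

open Cfsg.Agent.Lib.Helper35TC

theorem chkP_9_131 : allD P.chkPt 9 67072 = true := by decide +kernel
theorem chkP_9_132 : allD P.chkPt 9 67584 = true := by decide +kernel
theorem chkP_9_133 : allD P.chkPt 9 68096 = true := by decide +kernel
theorem chkP_9_134 : allD P.chkPt 9 68608 = true := by decide +kernel
theorem chkP_9_135 : allD P.chkPt 9 69120 = true := by decide +kernel
theorem chkP_9_136 : allD P.chkPt 9 69632 = true := by decide +kernel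
theorem chkP_9_137 : allD P.chkPt 9 70144 = true := by decide +kernel
theorem chkP_9_138 : allD P.chkPt 9 70656 = true := by decide +kernel
theorem chkP_9_139 : allD P.chkPt 9 71168 = true := by decide +kernel
theorem chkP_9_140 : allD P.chkPt 9 71680 = true := by decide +kernel
theorem chkP_9_141 : allD P.chkPt 9 72192 = true := by decide +kernel
theorem chkP_9_142 : allD P.chkPt 9 72704 = true := by decide +kernel
theorem chkP_9_143 : allD P.chkPt 9 73216 = true := by decide +kernel
theorem chkP_9_144 : allD P.chkPt 9 73728 = true := by decide +kernel
theorem chkP_9_145 : allD P.chkPt 9 74240 = true := by decide +kernel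
theorem chkP_9_146 : allD P.chkPt 9 74752 = true := by decide +kernel
theorem chkP_9_147 : allD P.chkPt 9 75264 = true := by decide +kernel
theorem chkP_9_148 : allD P.chkPt 9 75776 = true := by decide +kernel
theorem chkP_9_149 : allD P.chkPt 9 76288 = true := by decide +kernel
theorem chkP_9_150 : allD P.chkPt 9 76800 = true := by decide +kernel
theorem chkP_9_151 : allD P.chkPt 9 77312 = true := by decide +kernel
theorem chkP_9_152 : allD P.chkPt 9 77824 = true := by decide +kernel
theorem chkP_9_153 : allD P.chkPt 9 78336 = true := by decide +kernel
theorem chkP_9_154 : allD P.chkPt 9 78848 = true := by decide +kernel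
theorem chkP_9_155 : allD P.chkPt 9 79360 = true := by decide +kernel
theorem chkP_9_156 : allD P.chkPt 9 79872 = true := by decide +kernel
theorem chkP_9_157 : allD P.chkPt 9 80384 = true := by decide +kernel
theorem chkP_9_158 : allD P.chkPt 9 80896 = true := by decide +kernel
theorem chkP_9_159 : allD P.chkPt 9 81408 = true := by decide +kernel
theorem chkP_9_160 : allD P.chkPt 9 81920 = true := by decide +kernel
theorem chkP_9_161 : allD P.chkPt 9 82432 = true := by decide +kernel
theorem chkP_9_162 : allD P.chkPt 9 82944 = true := by decide +kernel
theorem chkP_9_163 : allD P.chkPt 9 83456 = true := by decide +kernel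
theorem chkP_9_164 : allD P.chkPt 9 83968 = true := by decide +kernel
theorem chkP_9_165 : allD P.chkPt 9 84480 = true := by decide +kernel
theorem chkP_9_166 : allD P.chkPt 9 84992 = true := by decide +kernel
theorem chkP_9_167 : allD P.chkPt 9 85504 = true := by decide +kernel
theorem chkP_9_168 : allD P.chkPt 9 86016 = true := by decide +kernel
theorem chkP_9_169 : allD P.chkPt 9 86528 = true := by decide +kernel
theorem chkP_9_170 : allD P.chkPt 9 87040 = true := by decide +kernel
theorem chkP_9_171 : allD P.chkPt 9 87552 = true := by decide +kernel
theorem chkP_9_172 : allD P.chkPt 9 88064 = true := by decide +kernel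
theorem chkP_9_173 : allD P.chkPt 9 88576 = true := by decide +kernel
theorem chkP_9_174 : allD P.chkPt 9 89088 = true := by decide +kernel
theorem chkP_9_175 : allD P.chkPt 9 89600 = true := by decide +kernel
theorem chkP_9_176 : allD P.chkPt 9 90112 = true := by decide +kernel
theorem chkP_9_177 : allD P.chkPt 9 90624 = true := by decide +kernel
theorem chkP_9_178 : allD P.chkPt 9 91136 = true := by decide +kernel
theorem chkP_9_179 : allD P.chkPt 9 91648 = true := by decide +kernel
theorem chkP_9_180 : allD P.chkPt 9 92160 = true := by decide +kernel
theorem chkP_9_181 : allD P.chkPt 9 92672 = true := by decide +kernel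
theorem chkP_9_182 : allD P.chkPt 9 93184 = true := by decide +kernel
theorem chkP_9_183 : allD P.chkPt 9 93696 = true := by decide +kernel
theorem chkP_9_184 : allD P.chkPt 9 94208 = true := by decide +kernel
theorem chkP_9_185 : allD P.chkPt 9 94720 = true := by decide +kernel

end Cfsg.Agent.Lib.Helper35HeC
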