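import Cfsg.Agent.Lib.Helper35HeCChk0
import Cfsg.Agent.Lib.Helper35HeCChk1
import Cfsg.Agent.Lib.Helper35HeCChk2
import Cfsg.Agent.Lib.Helper35HeCChk3
import Cfsg.Agent.Lib.Helper35HeCChk4
import Cfsg.Agent.Lib.Helper35HeCChk5
import Cfsg.Agent.Lib.Helper35HeCChk6
import Cfsg.Agent.Lib.Helper35HeCChk7
import Cfsg.Agent.Lib.Helper35HeCChk8
import Cfsg.Agent.Lib.Helper35HeCChk9
import Cfsg.Agent.Lib.Helper35HeCChk10
import Cfsg.Agent.Lib.Helper35HeCChk11
import Cfsg.Prelude.Def_Spor_He

set_option autoImplicit false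
set_option maxRecDepth 100000

namespace Cfsg.Agent.Lib.Helper35HeC

open Cfsg.Agent.Lib.Helper35TC

open Cfsg.Spor

theorem chkU_12_0 : allD U.chkRow 12 0 = true :=
  allD_join chkU_11_0 chkU_11_1 (by norm_num)
theorem chkU_12_1 : allD U.chkRow 12 4096 = true :=
  allD_join chkU_11_2 chkU_11_3 (by norm_num)
theorem chkU_12_2 : allD U.chkRow 12 8192 = true :=
  allD_join chkU_11_4 chkU_11_5 (by norm_num)
theorem chkU_12_3 : allD U.chkRow 12 12288 = true :=
  allD_join chkU_11_6 chkU_11_7 (by norm_num)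
theorem chkU_12_4 : allD U.chkRow 12 16384 = true :=
  allD_join chkU_11_8 chkU_11_9 (by norm_num)
theorem chkU_12_5 : allD U.chkRow 12 20480 = true :=
  allD_join chkU_11_10 chkU_11_11 (by norm_num)
theorem chkU_12_6 : allD U.chkRow 12 24576 = true :=
  allD_join chkU_11_12 chkU_11_13 (by norm_num)
theorem chkU_12_7 : allD U.chkRow 12 28672 = true :=
  allD_join chkU_11_14 chkU_11_15 (by norm_num)
theorem chkU_12_8 : allD U.chkRow 12 32768 = true :=
  allD_join chkU_11_16 chkU_11_17 (by norm_num)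
theorem chkU_12_9 : allD U.chkRow 12 36864 = true :=
  allD_join chkU_11_18 chkU_11_19 (by norm_num)
theorem chkU_12_10 : allD U.chkRow 12 40960 = true :=
  allD_join chkU_11_20 chkU_11_21 (by norm_num)
theorem chkU_12_11 : allD U.chkRow 12 45056 = true :=
  allD_join chkU_11_22 chkU_11_23 (by norm_num)
theorem chkU_12_12 : allD U.chkRow 12 49152 = true :=
  allD_join chkU_11_24 chkU_11_25 (by norm_num)
theorem chkU_12_13 : allD U.chkRow 12 53248 = true :=
  allD_join chkU_11_26 chkU_11_27 (by norm_num)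
theorem chkU_12_14 : allD U.chkRow 12 57344 = true :=
  allD_join chkU_11_28 chkU_11_29 (by norm_num)
theorem chkU_12_15 : allD U.chkRow 12 61440 = true :=
  allD_join chkU_11_30 chkU_11_31 (by norm_num)
theorem chkU_12_16 : allD U.chkRow 12 65536 = true :=
  allD_join chkU_11_32 chkU_11_33 (by norm_num)
theorem chkU_12_17 : allD U.chkRow 12 69632 = true :=
  allD_join chkU_11_34 chkU_11_35 (by norm_num)
theorem chkU_12_18 : allD U.chkRow 12 73728 = true :=
  allD_join chkU_11_36 chkU_11_37 (by norm_num)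
theorem chkU_12_19 : allD U.chkRow 12 77824 = true :=
  allD_join chkU_11_38 chkU_11_39 (by norm_num)
theorem chkU_12_20 : allD U.chkRow 12 81920 = true :=
  allD_join chkU_11_40 chkU_11_41 (by norm_num)
theorem chkU_12_21 : allD U.chkRow 12 86016 = true :=
  allD_join chkU_11_42 chkU_11_43 (by norm_num)
theorem chkU_12_22 : allD U.chkRow 12 90112 = true :=
  allD_join chkU_11_44 chkU_11_45 (by norm_num)
theorem chkU_12_23 : allD U.chkRow 12 94208 = true :=
  allD_join chkU_11_46 chkU_11_47 (by norm_num)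
theorem chkU_12_24 : allD U.chkRow 12 98304 = true :=
  allD_join chkU_11_48 chkU_11_49 (by norm_num)
theorem chkU_12_25 : allD U.chkRow 12 102400 = true :=
  allD_join chkU_11_50 chkU_11_51 (by norm_num)
theorem chkU_12_26 : allD U.chkRow 12 106496 = true :=
  allD_join chkU_11_52 chkU_11_53 (by norm_num)
theorem chkU_12_27 : allD U.chkRow 12 110592 = true :=
  allD_join chkU_11_54 chkU_11_55 (by norm_num)
theorem chkU_12_28 : allD U.chkRow 12 114688 = true :=
  allD_join chkU_11_56 chkU_11_57 (by norm_num)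
theorem chkU_12_29 : allD U.chkRow 12 118784 = true :=
  allD_join chkU_11_58 chkU_11_59 (by norm_num)
theorem chkU_12_30 : allD U.chkRow 12 122880 = true :=
  allD_join chkU_11_60 chkU_11_61 (by norm_num)
theorem chkU_12_31 : allD U.chkRow 12 126976 = true :=
  allD_join chkU_11_62 chkU_11_63 (by norm_num)
theorem chkU_12_32 : allD U.chkRow 12 131072 = true :=
  allD_join chkU_11_64 chkU_11_65 (by norm_num)
theorem chkU_12_33 : allD U.chkRow 12 135168 = true :=
  allD_join chkU_11_66 chkU_11_67 (by norm_num)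
theorem chkU_12_34 : allD U.chkRow 12 139264 = true :=
  allD_join chkU_11_68 chkU_11_69 (by norm_num)
theorem chkU_12_35 : allD U.chkRow 12 143360 = true :=
  allD_join chkU_11_70 chkU_11_71 (by norm_num)
theorem chkU_12_36 : allD U.chkRow 12 147456 = true :=
  allD_join chkU_11_72 chkU_11_73 (by norm_num)
theorem chkU_12_37 : allD U.chkRow 12 151552 = true :=
  allD_join chkU_11_74 chkU_11_75 (by norm_num)
theorem chkU_12_38 : allD U.chkRow 12 155648 = true :=
  allD_join chkU_11_76 chkU_11_77 (by norm_num)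
theorem chkU_12_39 : allD U.chkRow 12 159744 = true :=
  allD_join chkU_11_78 chkU_11_79 (by norm_num)
theorem chkU_12_40 : allD U.chkRow 12 163840 = true :=
  allD_join chkU_11_80 chkU_11_81 (by norm_num)
theorem chkU_12_41 : allD U.chkRow 12 167936 = true :=
  allD_join chkU_11_82 chkU_11_83 (by norm_num)
theorem chkU_12_42 : allD U.chkRow 12 172032 = true :=
  allD_join chkU_11_84 chkU_11_85 (by norm_num)
theorem chkU_12_43 : allD U.chkRow 12 176128 = true :=
  allD_join chkU_11_86 chkU_11_87 (by norm_num)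
theorem chkU_12_44 : allD U.chkRow 12 180224 = true :=
  allD_join chkU_11_88 chkU_11_89 (by norm_num)
theorem chkU_12_45 : allD U.chkRow 12 184320 = true :=
  allD_join chkU_11_90 chkU_11_91 (by norm_num)
theorem chkU_12_46 : allD U.chkRow 12 188416 = true :=
  allD_join chkU_11_92 chkU_11_93 (by norm_num)
theorem chkU_12_47 : allD U.chkRow 12 192512 = true :=
  allD_join chkU_11_94 chkU_11_95 (by norm_num)
theorem chkU_12_48 : allD U.chkRow 12 196608 = true :=
  allD_join chkU_11_96 chkU_11_97 (by norm_num)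
theorem chkU_12_49 : allD U.chkRow 12 200704 = true :=
  allD_join chkU_11_98 chkU_11_99 (by norm_num)
theorem chkU_12_50 : allD U.chkRow 12 204800 = true :=
  allD_join chkU_11_100 chkU_11_101 (by norm_num)
theorem chkU_12_51 : allD U.chkRow 12 208896 = true :=
  allD_join chkU_11_102 chkU_11_103 (by norm_num)
theorem chkU_12_52 : allD U.chkRow 12 212992 = true :=
  allD_join chkU_11_104 chkU_11_105 (by norm_num)
theorem chkU_12_53 : allD U.chkRow 12 217088 = true :=
  allD_join chkU_11_106 chkU_11_107 (by norm_num)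
theorem chkU_12_54 : allD U.chkRow 12 221184 = true :=
  allD_join chkU_11_108 chkU_11_109 (by norm_num)
theorem chkU_12_55 : allD U.chkRow 12 225280 = true :=
  allD_join chkU_11_110 chkU_11_111 (by norm_num)
theorem chkU_12_56 : allD U.chkRow 12 229376 = true :=
  allD_join chkU_11_112 chkU_11_113 (by norm_num)
theorem chkU_12_57 : allD U.chkRow 12 233472 = true :=
  allD_join chkU_11_114 chkU_11_115 (by norm_num)
theorem chkU_12_58 : allD U.chkRow 12 237568 = true :=
  allD_join chkU_11_116 chkU_11_117 (by norm_num)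
theorem chkU_12_59 : allD U.chkRow 12 241664 = true :=
  allD_join chkU_11_118 chkU_11_119 (by norm_num)
theorem chkU_12_60 : allD U.chkRow 12 245760 = true :=
  allD_join chkU_11_120 chkU_11_121 (by norm_num)
theorem chkU_12_61 : allD U.chkRow 12 249856 = true :=
  allD_join chkU_11_122 chkU_11_123 (by norm_num)
theorem chkU_12_62 : allD U.chkRow 12 253952 = true :=
  allD_join chkU_11_124 chkU_11_125 (by norm_num)
theorem chkU_12_63 : allD U.chkRow 12 258048 = true :=
  allD_join chkU_11_126 chkU_11_127 (by norm_num)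
theorem chkU_13_0 : allD U.chkRow 13 0 = true :=
  allD_join chkU_12_0 chkU_12_1 (by norm_num)
theorem chkU_13_1 : allD U.chkRow 13 8192 = true :=
  allD_join chkU_12_2 chkU_12_3 (by norm_num)
theorem chkU_13_2 : allD U.chkRow 13 16384 = true :=
  allD_join chkU_12_4 chkU_12_5 (by norm_num)
theorem chkU_13_3 : allD U.chkRow 13 24576 = true :=
  allD_join chkU_12_6 chkU_12_7 (by norm_num)
theorem chkU_13_4 : allD U.chkRow 13 32768 = true :=
  allD_join chkU_12_8 chkU_12_9 (by norm_num)
theorem chkU_13_5 : allD U.chkRow 13 40960 = true :=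
  allD_join chkU_12_10 chkU_12_11 (by norm_num)
theorem chkU_13_6 : allD U.chkRow 13 49152 = true :=
  allD_join chkU_12_12 chkU_12_13 (by norm_num)
theorem chkU_13_7 : allD U.chkRow 13 57344 = true :=
  allD_join chkU_12_14 chkU_12_15 (by norm_num)
theorem chkU_13_8 : allD U.chkRow 13 65536 = true :=
  allD_join chkU_12_16 chkU_12_17 (by norm_num)
theorem chkU_13_9 : allD U.chkRow 13 73728 = true :=
  allD_join chkU_12_18 chkU_12_19 (by norm_num)
theorem chkU_13_10 : allD U.chkRow 13 81920 = true :=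
  allD_join chkU_12_20 chkU_12_21 (by norm_num)
theorem chkU_13_11 : allD U.chkRow 13 90112 = true :=
  allD_join chkU_12_22 chkU_12_23 (by norm_num)
theorem chkU_13_12 : allD U.chkRow 13 98304 = true :=
  allD_join chkU_12_24 chkU_12_25 (by norm_num)
theorem chkU_13_13 : allD U.chkRow 13 106496 = true :=
  allD_join chkU_12_26 chkU_12_27 (by norm_num)
theorem chkU_13_14 : allD U.chkRow 13 114688 = true :=
  allD_join chkU_12_28 chkU_12_29 (by norm_num)
theorem chkU_13_15 : allD U.chkRow 13 122880 = true :=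
  allD_join chkU_12_30 chkU_12_31 (by norm_num)
theorem chkU_13_16 : allD U.chkRow 13 131072 = true :=
  allD_join chkU_12_32 chkU_12_33 (by norm_num)
theorem chkU_13_17 : allD U.chkRow 13 139264 = true :=
  allD_join chkU_12_34 chkU_12_35 (by norm_num)
theorem chkU_13_18 : allD U.chkRow 13 147456 = true :=
  allD_join chkU_12_36 chkU_12_37 (by norm_num)
theorem chkU_13_19 : allD U.chkRow 13 155648 = true :=
  allD_join chkU_12_38 chkU_12_39 (by norm_num)
theorem chkU_13_20 : allD U.chkRow 13 163840 = true :=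
  allD_join chkU_12_40 chkU_12_41 (by norm_num)
theorem chkU_13_21 : allD U.chkRow 13 172032 = true :=
  allD_join chkU_12_42 chkU_12_43 (by norm_num)
theorem chkU_13_22 : allD U.chkRow 13 180224 = true :=
  allD_join chkU_12_44 chkU_12_45 (by norm_num)
theorem chkU_13_23 : allD U.chkRow 13 188416 = true :=
  allD_join chkU_12_46 chkU_12_47 (by norm_num)
theorem chkU_13_24 : allD U.chkRow 13 196608 = true :=
  allD_join chkU_12_48 chkU_12_49 (by norm_num)
theorem chkU_13_25 : allD U.chkRow 13 204800 = true :=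
  allD_join chkU_12_50 chkU_12_51 (by norm_num)
theorem chkU_13_26 : allD U.chkRow 13 212992 = true :=
  allD_join chkU_12_52 chkU_12_53 (by norm_num)
theorem chkU_13_27 : allD U.chkRow 13 221184 = true :=
  allD_join chkU_12_54 chkU_12_55 (by norm_num)
theorem chkU_13_28 : allD U.chkRow 13 229376 = true :=
  allD_join chkU_12_56 chkU_12_57 (by norm_num)
theorem chkU_13_29 : allD U.chkRow 13 237568 = true :=
  allD_join chkU_12_58 chkU_12_59 (by norm_num)
theorem chkU_13_30 : allD U.chkRow 13 245760 = true :=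
  allD_join chkU_12_60 chkU_12_61 (by norm_num)
theorem chkU_13_31 : allD U.chkRow 13 253952 = true :=
  allD_join chkU_12_62 chkU_12_63 (by norm_num)
theorem chkU_14_0 : allD U.chkRow 14 0 = true :=
  allD_join chkU_13_0 chkU_13_1 (by norm_num)
theorem chkU_14_1 : allD U.chkRow 14 16384 = true :=
  allD_join chkU_13_2 chkU_13_3 (by norm_num)
theorem chkU_14_2 : allD U.chkRow 14 32768 = true :=
  allD_join chkU_13_4 chkU_13_5 (by norm_num)
theorem chkU_14_3 : allD U.chkRow 14 49152 = true :=
  allD_join chkU_13_6 chkU_13_7 (by norm_num)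
theorem chkU_14_4 : allD U.chkRow 14 65536 = true :=
  allD_join chkU_13_8 chkU_13_9 (by norm_num)
theorem chkU_14_5 : allD U.chkRow 14 81920 = true :=
  allD_join chkU_13_10 chkU_13_11 (by norm_num)
theorem chkU_14_6 : allD U.chkRow 14 98304 = true :=
  allD_join chkU_13_12 chkU_13_13 (by norm_num)
theorem chkU_14_7 : allD U.chkRow 14 114688 = true :=
  allD_join chkU_13_14 chkU_13_15 (by norm_num)
theorem chkU_14_8 : allD U.chkRow 14 131072 = true :=
  allD_join chkU_13_16 chkU_13_17 (by norm_num)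
theorem chkU_14_9 : allD U.chkRow 14 147456 = true :=
  allD_join chkU_13_18 chkU_13_19 (by norm_num)
theorem chkU_14_10 : allD U.chkRow 14 163840 = true :=
  allD_join chkU_13_20 chkU_13_21 (by norm_num)
theorem chkU_14_11 : allD U.chkRow 14 180224 = true :=
  allD_join chkU_13_22 chkU_13_23 (by norm_num)
theorem chkU_14_12 : allD U.chkRow 14 196608 = true :=
  allD_join chkU_13_24 chkU_13_25 (by norm_num)
theorem chkU_14_13 : allD U.chkRow 14 212992 = true :=
  allD_join chkU_13_26 chkU_13_27 (by norm_num)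
theorem chkU_14_14 : allD U.chkRow 14 229376 = true :=
  allD_join chkU_13_28 chkU_13_29 (by norm_num)
theorem chkU_14_15 : allD U.chkRow 14 245760 = true :=
  allD_join chkU_13_30 chkU_13_31 (by norm_num)
theorem chkU_15_0 : allD U.chkRow 15 0 = true :=
  allD_join chkU_14_0 chkU_14_1 (by norm_num)
theorem chkU_15_1 : allD U.chkRow 15 32768 = true :=
  allD_join chkU_14_2 chkU_14_3 (by norm_num)
theorem chkU_15_2 : allD U.chkRow 15 65536 = true :=
  allD_join chkU_14_4 chkU_14_5 (by norm_num)
theorem chkU_15_3 : allD U.chkRow 15 98304 = true :=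
  allD_join chkU_14_6 chkU_14_7 (by norm_num)
theorem chkU_15_4 : allD U.chkRow 15 131072 = true :=
  allD_join chkU_14_8 chkU_14_9 (by norm_num)
theorem chkU_15_5 : allD U.chkRow 15 163840 = true :=
  allD_join chkU_14_10 chkU_14_11 (by norm_num)
theorem chkU_15_6 : allD U.chkRow 15 196608 = true :=
  allD_join chkU_14_12 chkU_14_13 (by norm_num)
theorem chkU_15_7 : allD U.chkRow 15 229376 = true :=
  allD_join chkU_14_14 chkU_14_15 (by norm_num)
theorem chkU_16_0 : allD U.chkRow 16 0 = true :=
  allD_join chkU_15_0 chkU_15_1 (by norm_num)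
theorem chkU_16_1 : allD U.chkRow 16 65536 = true :=
  allD_join chkU_15_2 chkU_15_3 (by norm_num)
theorem chkU_16_2 : allD U.chkRow 16 131072 = true :=
  allD_join chkU_15_4 chkU_15_5 (by norm_num)
theorem chkU_16_3 : allD U.chkRow 16 196608 = true :=
  allD_join chkU_15_6 chkU_15_7 (by norm_num)
theorem chkU_17_0 : allD U.chkRow 17 0 = true :=
  allD_join chkU_16_0 chkU_16_1 (by norm_num)
theorem chkU_17_1 : allD U.chkRow 17 131072 = true :=
  allD_join chkU_16_2 chkU_16_3 (by norm_num)
theorem chkU_18_0 : allD U.chkRow 18 0 = true :=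
  allD_join chkU_17_0 chkU_17_1 (by norm_num)
theorem cntU_15_0 : cntD U.live 15 0 = 32267 :=
  cntD_join cntU_14_0 cntU_14_1 (by norm_num) (by norm_num)
theorem cntU_15_1 : cntD U.live 15 32768 = 32316 :=
  cntD_join cntU_14_2 cntU_14_3 (by norm_num) (by norm_num)
theorem cntU_15_2 : cntD U.live 15 65536 = 32401 :=
  cntD_join cntU_14_4 cntU_14_5 (by norm_num) (by norm_num)
theorem cntU_15_3 : cntD U.live 15 98304 = 32468 :=
  cntD_join cntU_14_6 cntU_14_7 (by norm_num) (by norm_num)
theorem cntU_15_4 : cntD U.live 15 131072 = 32670 :=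
  cntD_join cntU_14_8 cntU_14_9 (by norm_num) (by norm_num)
theorem cntU_15_5 : cntD U.live 15 163840 = 25303 :=
  cntD_join cntU_14_10 cntU_14_11 (by norm_num) (by norm_num)
theorem cntU_15_6 : cntD U.live 15 196608 = 0 :=
  cntD_join cntU_14_12 cntU_14_13 (by norm_num) (by norm_num)
theorem cntU_15_7 : cntD U.live 15 229376 = 0 :=
  cntD_join cntU_14_14 cntU_14_15 (by norm_num) (by norm_num)
theorem cntU_16_0 : cntD U.live 16 0 = 64583 :=
  cntD_join cntU_15_0 cntU_15_1 (by norm_num) (by norm_num)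
theorem cntU_16_1 : cntD U.live 16 65536 = 64869 :=
  cntD_join cntU_15_2 cntU_15_3 (by norm_num) (by norm_num)
theorem cntU_16_2 : cntD U.live 16 131072 = 57973 :=
  cntD_join cntU_15_4 cntU_15_5 (by norm_num) (by norm_num)
theorem cntU_16_3 : cntD U.live 16 196608 = 0 :=
  cntD_join cntU_15_6 cntU_15_7 (by norm_num) (by norm_num)
theorem cntU_17_0 : cntD U.live 17 0 = 129452 :=
  cntD_join cntU_16_0 cntU_16_1 (by norm_num) (by norm_num)
theorem cntU_17_1 : cntD U.live 17 131072 = 57973 :=
  cntD_join cntU_16_2 cntU_16_3 (by norm_num) (by norm_num)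
theorem cntU_18_0 : cntD U.live 18 0 = 187425 :=
  cntD_join cntU_17_0 cntU_17_1 (by norm_num) (by norm_num)
theorem chkP_10_0 : allD P.chkPt 10 0 = true :=
  allD_join chkP_9_0 chkP_9_1 (by norm_num)
theorem chkP_10_1 : allD P.chkPt 10 1024 = true :=
  allD_join chkP_9_2 chkP_9_3 (by norm_num)
theorem chkP_10_2 : allD P.chkPt 10 2048 = true :=
  allD_join chkP_9_4 chkP_9_5 (by norm_num)
theorem chkP_10_3 : allD P.chkPt 10 3072 = true :=
  allD_join chkP_9_6 chkP_9_7 (by norm_num)
theorem chkP_10_4 : allD P.chkPt 10 4096 = true :=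
  allD_join chkP_9_8 chkP_9_9 (by norm_num)
theorem chkP_10_5 : allD P.chkPt 10 5120 = true :=
  allD_join chkP_9_10 chkP_9_11 (by norm_num)
theorem chkP_10_6 : allD P.chkPt 10 6144 = true :=
  allD_join chkP_9_12 chkP_9_13 (by norm_num)
theorem chkP_10_7 : allD P.chkPt 10 7168 = true :=
  allD_join chkP_9_14 chkP_9_15 (by norm_num)
theorem chkP_10_8 : allD P.chkPt 10 8192 = true :=
  allD_join chkP_9_16 chkP_9_17 (by norm_num)
theorem chkP_10_9 : allD P.chkPt 10 9216 = true :=
  allD_join chkP_9_18 chkP_9_19 (by norm_num)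
theorem chkP_10_10 : allD P.chkPt 10 10240 = true :=
  allD_join chkP_9_20 chkP_9_21 (by norm_num)
theorem chkP_10_11 : allD P.chkPt 10 11264 = true :=
  allD_join chkP_9_22 chkP_9_23 (by norm_num)
theorem chkP_10_12 : allD P.chkPt 10 12288 = true :=
  allD_join chkP_9_24 chkP_9_25 (by norm_num)
theorem chkP_10_13 : allD P.chkPt 10 13312 = true :=
  allD_join chkP_9_26 chkP_9_27 (by norm_num)
theorem chkP_10_14 : allD P.chkPt 10 14336 = true :=
  allD_join chkP_9_28 chkP_9_29 (by norm_num)
theorem chkP_10_15 : allD P.chkPt 10 15360 = true :=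
  allD_join chkP_9_30 chkP_9_31 (by norm_num)
theorem chkP_10_16 : allD P.chkPt 10 16384 = true :=
  allD_join chkP_9_32 chkP_9_33 (by norm_num)
theorem chkP_10_17 : allD P.chkPt 10 17408 = true :=
  allD_join chkP_9_34 chkP_9_35 (by norm_num)
theorem chkP_10_18 : allD P.chkPt 10 18432 = true :=
  allD_join chkP_9_36 chkP_9_37 (by norm_num)
theorem chkP_10_19 : allD P.chkPt 10 19456 = true :=
  allD_join chkP_9_38 chkP_9_39 (by norm_num)
theorem chkP_10_20 : allD P.chkPt 10 20480 = true :=
  allD_join chkP_9_40 chkP_9_41 (by norm_num)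
theorem chkP_10_21 : allD P.chkPt 10 21504 = true :=
  allD_join chkP_9_42 chkP_9_43 (by norm_num)
theorem chkP_10_22 : allD P.chkPt 10 22528 = true :=
  allD_join chkP_9_44 chkP_9_45 (by norm_num)
theorem chkP_10_23 : allD P.chkPt 10 23552 = true :=
  allD_join chkP_9_46 chkP_9_47 (by norm_num)
theorem chkP_10_24 : allD P.chkPt 10 24576 = true :=
  allD_join chkP_9_48 chkP_9_49 (by norm_num)
theorem chkP_10_25 : allD P.chkPt 10 25600 = true :=
  allD_join chkP_9_50 chkP_9_51 (by norm_num)
theorem chkP_10_26 : allD P.chkPt 10 26624 = true :=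
  allD_join chkP_9_52 chkP_9_53 (by norm_num)
theorem chkP_10_27 : allD P.chkPt 10 27648 = true :=
  allD_join chkP_9_54 chkP_9_55 (by norm_num)
theorem chkP_10_28 : allD P.chkPt 10 28672 = true :=
  allD_join chkP_9_56 chkP_9_57 (by norm_num)
theorem chkP_10_29 : allD P.chkPt 10 29696 = true :=
  allD_join chkP_9_58 chkP_9_59 (by norm_num)
theorem chkP_10_30 : allD P.chkPt 10 30720 = true :=
  allD_join chkP_9_60 chkP_9_61 (by norm_num)
theorem chkP_10_31 : allD P.chkPt 10 31744 = true :=
  allD_join chkP_9_62 chkP_9_63 (by norm_num)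
theorem chkP_10_32 : allD P.chkPt 10 32768 = true :=
  allD_join chkP_9_64 chkP_9_65 (by norm_num)
theorem chkP_10_33 : allD P.chkPt 10 33792 = true :=
  allD_join chkP_9_66 chkP_9_67 (by norm_num)
theorem chkP_10_34 : allD P.chkPt 10 34816 = true :=
  allD_join chkP_9_68 chkP_9_69 (by norm_num)
theorem chkP_10_35 : allD P.chkPt 10 35840 = true :=
  allD_join chkP_9_70 chkP_9_71 (by norm_num)
theorem chkP_10_36 : allD P.chkPt 10 36864 = true :=
  allD_join chkP_9_72 chkP_9_73 (by norm_num)
theorem chkP_10_37 : allD P.chkPt 10 37888 = true :=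
  allD_join chkP_9_74 chkP_9_75 (by norm_num)
theorem chkP_10_38 : allD P.chkPt 10 38912 = true :=
  allD_join chkP_9_76 chkP_9_77 (by norm_num)
theorem chkP_10_39 : allD P.chkPt 10 39936 = true :=
  allD_join chkP_9_78 chkP_9_79 (by norm_num)
theorem chkP_10_40 : allD P.chkPt 10 40960 = true :=
  allD_join chkP_9_80 chkP_9_81 (by norm_num)
theorem chkP_10_41 : allD P.chkPt 10 41984 = true :=
  allD_join chkP_9_82 chkP_9_83 (by norm_num)
theorem chkP_10_42 : allD P.chkPt 10 43008 = true :=
  allD_join chkP_9_84 chkP_9_85 (by norm_num)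
theorem chkP_10_43 : allD P.chkPt 10 44032 = true :=
  allD_join chkP_9_86 chkP_9_87 (by norm_num)
theorem chkP_10_44 : allD P.chkPt 10 45056 = true :=
  allD_join chkP_9_88 chkP_9_89 (by norm_num)
theorem chkP_10_45 : allD P.chkPt 10 46080 = true :=
  allD_join chkP_9_90 chkP_9_91 (by norm_num)
theorem chkP_10_46 : allD P.chkPt 10 47104 = true :=
  allD_join chkP_9_92 chkP_9_93 (by norm_num)
theorem chkP_10_47 : allD P.chkPt 10 48128 = true :=
  allD_join chkP_9_94 chkP_9_95 (by norm_num)
theorem chkP_10_48 : allD P.chkPt 10 49152 = true :=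
  allD_join chkP_9_96 chkP_9_97 (by norm_num)
theorem chkP_10_49 : allD P.chkPt 10 50176 = true :=
  allD_join chkP_9_98 chkP_9_99 (by norm_num)
theorem chkP_10_50 : allD P.chkPt 10 51200 = true :=
  allD_join chkP_9_100 chkP_9_101 (by norm_num)
theorem chkP_10_51 : allD P.chkPt 10 52224 = true :=
  allD_join chkP_9_102 chkP_9_103 (by norm_num)
theorem chkP_10_52 : allD P.chkPt 10 53248 = true :=
  allD_join chkP_9_104 chkP_9_105 (by norm_num)
theorem chkP_10_53 : allD P.chkPt 10 54272 = true :=
  allD_join chkP_9_106 chkP_9_107 (by norm_num)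
theorem chkP_10_54 : allD P.chkPt 10 55296 = true :=
  allD_join chkP_9_108 chkP_9_109 (by norm_num)
theorem chkP_10_55 : allD P.chkPt 10 56320 = true :=
  allD_join chkP_9_110 chkP_9_111 (by norm_num)
theorem chkP_10_56 : allD P.chkPt 10 57344 = true :=
  allD_join chkP_9_112 chkP_9_113 (by norm_num)
theorem chkP_10_57 : allD P.chkPt 10 58368 = true :=
  allD_join chkP_9_114 chkP_9_115 (by norm_num)
theorem chkP_10_58 : allD P.chkPt 10 59392 = true :=
  allD_join chkP_9_116 chkP_9_117 (by norm_num)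
theorem chkP_10_59 : allD P.chkPt 10 60416 = true :=
  allD_join chkP_9_118 chkP_9_119 (by norm_num)
theorem chkP_10_60 : allD P.chkPt 10 61440 = true :=
  allD_join chkP_9_120 chkP_9_121 (by norm_num)
theorem chkP_10_61 : allD P.chkPt 10 62464 = true :=
  allD_join chkP_9_122 chkP_9_123 (by norm_num)
theorem chkP_10_62 : allD P.chkPt 10 63488 = true :=
  allD_join chkP_9_124 chkP_9_125 (by norm_num)
theorem chkP_10_63 : allD P.chkPt 10 64512 = true :=
  allD_join chkP_9_126 chkP_9_127 (by norm_num)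
theorem chkP_10_64 : allD P.chkPt 10 65536 = true :=
  allD_join chkP_9_128 chkP_9_129 (by norm_num)
theorem chkP_10_65 : allD P.chkPt 10 66560 = true :=
  allD_join chkP_9_130 chkP_9_131 (by norm_num)
theorem chkP_10_66 : allD P.chkPt 10 67584 = true :=
  allD_join chkP_9_132 chkP_9_133 (by norm_num)
theorem chkP_10_67 : allD P.chkPt 10 68608 = true :=
  allD_join chkP_9_134 chkP_9_135 (by norm_num)
theorem chkP_10_68 : allD P.chkPt 10 69632 = true :=
  allD_join chkP_9_136 chkP_9_137 (by norm_num)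
theorem chkP_10_69 : allD P.chkPt 10 70656 = true :=
  allD_join chkP_9_138 chkP_9_139 (by norm_num)
theorem chkP_10_70 : allD P.chkPt 10 71680 = true :=
  allD_join chkP_9_140 chkP_9_141 (by norm_num)
theorem chkP_10_71 : allD P.chkPt 10 72704 = true :=
  allD_join chkP_9_142 chkP_9_143 (by norm_num)
theorem chkP_10_72 : allD P.chkPt 10 73728 = true :=
  allD_join chkP_9_144 chkP_9_145 (by norm_num)
theorem chkP_10_73 : allD P.chkPt 10 74752 = true :=
  allD_join chkP_9_146 chkP_9_147 (by norm_num)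
theorem chkP_10_74 : allD P.chkPt 10 75776 = true :=
  allD_join chkP_9_148 chkP_9_149 (by norm_num)
theorem chkP_10_75 : allD P.chkPt 10 76800 = true :=
  allD_join chkP_9_150 chkP_9_151 (by norm_num)
theorem chkP_10_76 : allD P.chkPt 10 77824 = true :=
  allD_join chkP_9_152 chkP_9_153 (by norm_num)
theorem chkP_10_77 : allD P.chkPt 10 78848 = true :=
  allD_join chkP_9_154 chkP_9_155 (by norm_num)
theorem chkP_10_78 : allD P.chkPt 10 79872 = true :=
  allD_join chkP_9_156 chkP_9_157 (by norm_num)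
theorem chkP_10_79 : allD P.chkPt 10 80896 = true :=
  allD_join chkP_9_158 chkP_9_159 (by norm_num)
theorem chkP_10_80 : allD P.chkPt 10 81920 = true :=
  allD_join chkP_9_160 chkP_9_161 (by norm_num)
theorem chkP_10_81 : allD P.chkPt 10 82944 = true :=
  allD_join chkP_9_162 chkP_9_163 (by norm_num)
theorem chkP_10_82 : allD P.chkPt 10 83968 = true :=
  allD_join chkP_9_164 chkP_9_165 (by norm_num)
theorem chkP_10_83 : allD P.chkPt 10 84992 = true :=
  allD_join chkP_9_166 chkP_9_167 (by norm_num)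
theorem chkP_10_84 : allD P.chkPt 10 86016 = true :=
  allD_join chkP_9_168 chkP_9_169 (by norm_num)
theorem chkP_10_85 : allD P.chkPt 10 87040 = true :=
  allD_join chkP_9_170 chkP_9_171 (by norm_num)
theorem chkP_10_86 : allD P.chkPt 10 88064 = true :=
  allD_join chkP_9_172 chkP_9_173 (by norm_num)
theorem chkP_10_87 : allD P.chkPt 10 89088 = true :=
  allD_join chkP_9_174 chkP_9_175 (by norm_num)
theorem chkP_10_88 : allD P.chkPt 10 90112 = true :=
  allD_join chkP_9_176 chkP_9_177 (by norm_num)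
theorem chkP_10_89 : allD P.chkPt 10 91136 = true :=
  allD_join chkP_9_178 chkP_9_179 (by norm_num)
theorem chkP_10_90 : allD P.chkPt 10 92160 = true :=
  allD_join chkP_9_180 chkP_9_181 (by norm_num)
theorem chkP_10_91 : allD P.chkPt 10 93184 = true :=
  allD_join chkP_9_182 chkP_9_183 (by norm_num)
theorem chkP_10_92 : allD P.chkPt 10 94208 = true :=
  allD_join chkP_9_184 chkP_9_185 (by norm_num)
theorem chkP_10_93 : allD P.chkPt 10 95232 = true :=
  allD_join chkP_9_186 chkP_9_187 (by norm_num)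
theorem chkP_10_94 : allD P.chkPt 10 96256 = true :=
  allD_join chkP_9_188 chkP_9_189 (by norm_num)
theorem chkP_10_95 : allD P.chkPt 10 97280 = true :=
  allD_join chkP_9_190 chkP_9_191 (by norm_num)
theorem chkP_10_96 : allD P.chkPt 10 98304 = true :=
  allD_join chkP_9_192 chkP_9_193 (by norm_num)
theorem chkP_10_97 : allD P.chkPt 10 99328 = true :=
  allD_join chkP_9_194 chkP_9_195 (by norm_num)
theorem chkP_10_98 : allD P.chkPt 10 100352 = true :=
  allD_join chkP_9_196 chkP_9_197 (by norm_num)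
theorem chkP_10_99 : allD P.chkPt 10 101376 = true :=
  allD_join chkP_9_198 chkP_9_199 (by norm_num)
theorem chkP_10_100 : allD P.chkPt 10 102400 = true :=
  allD_join chkP_9_200 chkP_9_201 (by norm_num)
theorem chkP_10_101 : allD P.chkPt 10 103424 = true :=
  allD_join chkP_9_202 chkP_9_203 (by norm_num)
theorem chkP_10_102 : allD P.chkPt 10 104448 = true :=
  allD_join chkP_9_204 chkP_9_205 (by norm_num)
theorem chkP_10_103 : allD P.chkPt 10 105472 = true :=
  allD_join chkP_9_206 chkP_9_207 (by norm_num)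
theorem chkP_10_104 : allD P.chkPt 10 106496 = true :=
  allD_join chkP_9_208 chkP_9_209 (by norm_num)
theorem chkP_10_105 : allD P.chkPt 10 107520 = true :=
  allD_join chkP_9_210 chkP_9_211 (by norm_num)
theorem chkP_10_106 : allD P.chkPt 10 108544 = true :=
  allD_join chkP_9_212 chkP_9_213 (by norm_num)
theorem chkP_10_107 : allD P.chkPt 10 109568 = true :=
  allD_join chkP_9_214 chkP_9_215 (by norm_num)
theorem chkP_10_108 : allD P.chkPt 10 110592 = true :=
  allD_join chkP_9_216 chkP_9_217 (by norm_num)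
theorem chkP_10_109 : allD P.chkPt 10 111616 = true :=
  allD_join chkP_9_218 chkP_9_219 (by norm_num)
theorem chkP_10_110 : allD P.chkPt 10 112640 = true :=
  allD_join chkP_9_220 chkP_9_221 (by norm_num)
theorem chkP_10_111 : allD P.chkPt 10 113664 = true :=
  allD_join chkP_9_222 chkP_9_223 (by norm_num)
theorem chkP_10_112 : allD P.chkPt 10 114688 = true :=
  allD_join chkP_9_224 chkP_9_225 (by norm_num)
theorem chkP_10_113 : allD P.chkPt 10 115712 = true :=
  allD_join chkP_9_226 chkP_9_227 (by norm_num)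
theorem chkP_10_114 : allD P.chkPt 10 116736 = true :=
  allD_join chkP_9_228 chkP_9_229 (by norm_num)
theorem chkP_10_115 : allD P.chkPt 10 117760 = true :=
  allD_join chkP_9_230 chkP_9_231 (by norm_num)
theorem chkP_10_116 : allD P.chkPt 10 118784 = true :=
  allD_join chkP_9_232 chkP_9_233 (by norm_num)
theorem chkP_10_117 : allD P.chkPt 10 119808 = true :=
  allD_join chkP_9_234 chkP_9_235 (by norm_num)
theorem chkP_10_118 : allD P.chkPt 10 120832 = true :=
  allD_join chkP_9_236 chkP_9_237 (by norm_num)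
theorem chkP_10_119 : allD P.chkPt 10 121856 = true :=
  allD_join chkP_9_238 chkP_9_239 (by norm_num)
theorem chkP_10_120 : allD P.chkPt 10 122880 = true :=
  allD_join chkP_9_240 chkP_9_241 (by norm_num)
theorem chkP_10_121 : allD P.chkPt 10 123904 = true :=
  allD_join chkP_9_242 chkP_9_243 (by norm_num)
theorem chkP_10_122 : allD P.chkPt 10 124928 = true :=
  allD_join chkP_9_244 chkP_9_245 (by norm_num)
theorem chkP_10_123 : allD P.chkPt 10 125952 = true :=
  allD_join chkP_9_246 chkP_9_247 (by norm_num)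
theorem chkP_10_124 : allD P.chkPt 10 126976 = true :=
  allD_join chkP_9_248 chkP_9_249 (by norm_num)
theorem chkP_10_125 : allD P.chkPt 10 128000 = true :=
  allD_join chkP_9_250 chkP_9_251 (by norm_num)
theorem chkP_10_126 : allD P.chkPt 10 129024 = true :=
  allD_join chkP_9_252 chkP_9_253 (by norm_num)
theorem chkP_10_127 : allD P.chkPt 10 130048 = true :=
  allD_join chkP_9_254 chkP_9_255 (by norm_num)
theorem chkP_10_128 : allD P.chkPt 10 131072 = true :=
  allD_join chkP_9_256 chkP_9_257 (by norm_num)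
theorem chkP_10_129 : allD P.chkPt 10 132096 = true :=
  allD_join chkP_9_258 chkP_9_259 (by norm_num)
theorem chkP_10_130 : allD P.chkPt 10 133120 = true :=
  allD_join chkP_9_260 chkP_9_261 (by norm_num)
theorem chkP_10_131 : allD P.chkPt 10 134144 = true :=
  allD_join chkP_9_262 chkP_9_263 (by norm_num)
theorem chkP_10_132 : allD P.chkPt 10 135168 = true :=
  allD_join chkP_9_264 chkP_9_265 (by norm_num)
theorem chkP_10_133 : allD P.chkPt 10 136192 = true :=
  allD_join chkP_9_266 chkP_9_267 (by norm_num)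
theorem chkP_10_134 : allD P.chkPt 10 137216 = true :=
  allD_join chkP_9_268 chkP_9_269 (by norm_num)
theorem chkP_10_135 : allD P.chkPt 10 138240 = true :=
  allD_join chkP_9_270 chkP_9_271 (by norm_num)
theorem chkP_10_136 : allD P.chkPt 10 139264 = true :=
  allD_join chkP_9_272 chkP_9_273 (by norm_num)
theorem chkP_10_137 : allD P.chkPt 10 140288 = true :=
  allD_join chkP_9_274 chkP_9_275 (by norm_num)
theorem chkP_10_138 : allD P.chkPt 10 141312 = true :=
  allD_join chkP_9_276 chkP_9_277 (by norm_num)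
theorem chkP_10_139 : allD P.chkPt 10 142336 = true :=
  allD_join chkP_9_278 chkP_9_279 (by norm_num)
theorem chkP_10_140 : allD P.chkPt 10 143360 = true :=
  allD_join chkP_9_280 chkP_9_281 (by norm_num)
theorem chkP_10_141 : allD P.chkPt 10 144384 = true :=
  allD_join chkP_9_282 chkP_9_283 (by norm_num)
theorem chkP_10_142 : allD P.chkPt 10 145408 = true :=
  allD_join chkP_9_284 chkP_9_285 (by norm_num)
theorem chkP_10_143 : allD P.chkPt 10 146432 = true :=
  allD_join chkP_9_286 chkP_9_287 (by norm_num)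
theorem chkP_10_144 : allD P.chkPt 10 147456 = true :=
  allD_join chkP_9_288 chkP_9_289 (by norm_num)
theorem chkP_10_145 : allD P.chkPt 10 148480 = true :=
  allD_join chkP_9_290 chkP_9_291 (by norm_num)
theorem chkP_10_146 : allD P.chkPt 10 149504 = true :=
  allD_join chkP_9_292 chkP_9_293 (by norm_num)
theorem chkP_10_147 : allD P.chkPt 10 150528 = true :=
  allD_join chkP_9_294 chkP_9_295 (by norm_num)
theorem chkP_10_148 : allD P.chkPt 10 151552 = true :=
  allD_join chkP_9_296 chkP_9_297 (by norm_num)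
theorem chkP_10_149 : allD P.chkPt 10 152576 = true :=
  allD_join chkP_9_298 chkP_9_299 (by norm_num)
theorem chkP_10_150 : allD P.chkPt 10 153600 = true :=
  allD_join chkP_9_300 chkP_9_301 (by norm_num)
theorem chkP_10_151 : allD P.chkPt 10 154624 = true :=
  allD_join chkP_9_302 chkP_9_303 (by norm_num)
theorem chkP_10_152 : allD P.chkPt 10 155648 = true :=
  allD_join chkP_9_304 chkP_9_305 (by norm_num)
theorem chkP_10_153 : allD P.chkPt 10 156672 = true :=
  allD_join chkP_9_306 chkP_9_307 (by norm_num)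
theorem chkP_10_154 : allD P.chkPt 10 157696 = true :=
  allD_join chkP_9_308 chkP_9_309 (by norm_num)
theorem chkP_10_155 : allD P.chkPt 10 158720 = true :=
  allD_join chkP_9_310 chkP_9_311 (by norm_num)
theorem chkP_10_156 : allD P.chkPt 10 159744 = true :=
  allD_join chkP_9_312 chkP_9_313 (by norm_num)
theorem chkP_10_157 : allD P.chkPt 10 160768 = true :=
  allD_join chkP_9_314 chkP_9_315 (by norm_num)
theorem chkP_10_158 : allD P.chkPt 10 161792 = true :=
  allD_join chkP_9_316 chkP_9_317 (by norm_num)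
theorem chkP_10_159 : allD P.chkPt 10 162816 = true :=
  allD_join chkP_9_318 chkP_9_319 (by norm_num)
theorem chkP_10_160 : allD P.chkPt 10 163840 = true :=
  allD_join chkP_9_320 chkP_9_321 (by norm_num)
theorem chkP_10_161 : allD P.chkPt 10 164864 = true :=
  allD_join chkP_9_322 chkP_9_323 (by norm_num)
theorem chkP_10_162 : allD P.chkPt 10 165888 = true :=
  allD_join chkP_9_324 chkP_9_325 (by norm_num)
theorem chkP_10_163 : allD P.chkPt 10 166912 = true :=
  allD_join chkP_9_326 chkP_9_327 (by norm_num)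
theorem chkP_10_164 : allD P.chkPt 10 167936 = true :=
  allD_join chkP_9_328 chkP_9_329 (by norm_num)
theorem chkP_10_165 : allD P.chkPt 10 168960 = true :=
  allD_join chkP_9_330 chkP_9_331 (by norm_num)
theorem chkP_10_166 : allD P.chkPt 10 169984 = true :=
  allD_join chkP_9_332 chkP_9_333 (by norm_num)
theorem chkP_10_167 : allD P.chkPt 10 171008 = true :=
  allD_join chkP_9_334 chkP_9_335 (by norm_num)
theorem chkP_10_168 : allD P.chkPt 10 172032 = true :=
  allD_join chkP_9_336 chkP_9_337 (by norm_num)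
theorem chkP_10_169 : allD P.chkPt 10 173056 = true :=
  allD_join chkP_9_338 chkP_9_339 (by norm_num)
theorem chkP_10_170 : allD P.chkPt 10 174080 = true :=
  allD_join chkP_9_340 chkP_9_341 (by norm_num)
theorem chkP_10_171 : allD P.chkPt 10 175104 = true :=
  allD_join chkP_9_342 chkP_9_343 (by norm_num)
theorem chkP_10_172 : allD P.chkPt 10 176128 = true :=
  allD_join chkP_9_344 chkP_9_345 (by norm_num)
theorem chkP_10_173 : allD P.chkPt 10 177152 = true :=
  allD_join chkP_9_346 chkP_9_347 (by norm_num)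
theorem chkP_10_174 : allD P.chkPt 10 178176 = true :=
  allD_join chkP_9_348 chkP_9_349 (by norm_num)
theorem chkP_10_175 : allD P.chkPt 10 179200 = true :=
  allD_join chkP_9_350 chkP_9_351 (by norm_num)
theorem chkP_10_176 : allD P.chkPt 10 180224 = true :=
  allD_join chkP_9_352 chkP_9_353 (by norm_num)
theorem chkP_10_177 : allD P.chkPt 10 181248 = true :=
  allD_join chkP_9_354 chkP_9_355 (by norm_num)
theorem chkP_10_178 : allD P.chkPt 10 182272 = true :=
  allD_join chkP_9_356 chkP_9_357 (by norm_num)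
theorem chkP_10_179 : allD P.chkPt 10 183296 = true :=
  allD_join chkP_9_358 chkP_9_359 (by norm_num)
theorem chkP_10_180 : allD P.chkPt 10 184320 = true :=
  allD_join chkP_9_360 chkP_9_361 (by norm_num)
theorem chkP_10_181 : allD P.chkPt 10 185344 = true :=
  allD_join chkP_9_362 chkP_9_363 (by norm_num)
theorem chkP_10_182 : allD P.chkPt 10 186368 = true :=
  allD_join chkP_9_364 chkP_9_365 (by norm_num)
theorem chkP_10_183 : allD P.chkPt 10 187392 = true :=
  allD_join chkP_9_366 chkP_9_367 (by norm_num)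
theorem chkP_10_184 : allD P.chkPt 10 188416 = true :=
  allD_join chkP_9_368 chkP_9_369 (by norm_num)
theorem chkP_10_185 : allD P.chkPt 10 189440 = true :=
  allD_join chkP_9_370 chkP_9_371 (by norm_num)
theorem chkP_10_186 : allD P.chkPt 10 190464 = true :=
  allD_join chkP_9_372 chkP_9_373 (by norm_num)
theorem chkP_10_187 : allD P.chkPt 10 191488 = true :=
  allD_join chkP_9_374 chkP_9_375 (by norm_num)
theorem chkP_10_188 : allD P.chkPt 10 192512 = true :=
  allD_join chkP_9_376 chkP_9_377 (by norm_num)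
theorem chkP_10_189 : allD P.chkPt 10 193536 = true :=
  allD_join chkP_9_378 chkP_9_379 (by norm_num)
theorem chkP_10_190 : allD P.chkPt 10 194560 = true :=
  allD_join chkP_9_380 chkP_9_381 (by norm_num)
theorem chkP_10_191 : allD P.chkPt 10 195584 = true :=
  allD_join chkP_9_382 chkP_9_383 (by norm_num)
theorem chkP_10_192 : allD P.chkPt 10 196608 = true :=
  allD_join chkP_9_384 chkP_9_385 (by norm_num)
theorem chkP_10_193 : allD P.chkPt 10 197632 = true :=
  allD_join chkP_9_386 chkP_9_387 (by norm_num)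
theorem chkP_10_194 : allD P.chkPt 10 198656 = true :=
  allD_join chkP_9_388 chkP_9_389 (by norm_num)
theorem chkP_10_195 : allD P.chkPt 10 199680 = true :=
  allD_join chkP_9_390 chkP_9_391 (by norm_num)
theorem chkP_10_196 : allD P.chkPt 10 200704 = true :=
  allD_join chkP_9_392 chkP_9_393 (by norm_num)
theorem chkP_10_197 : allD P.chkPt 10 201728 = true :=
  allD_join chkP_9_394 chkP_9_395 (by norm_num)
theorem chkP_10_198 : allD P.chkPt 10 202752 = true :=
  allD_join chkP_9_396 chkP_9_397 (by norm_num)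
theorem chkP_10_199 : allD P.chkPt 10 203776 = true :=
  allD_join chkP_9_398 chkP_9_399 (by norm_num)
theorem chkP_10_200 : allD P.chkPt 10 204800 = true :=
  allD_join chkP_9_400 chkP_9_401 (by norm_num)
theorem chkP_10_201 : allD P.chkPt 10 205824 = true :=
  allD_join chkP_9_402 chkP_9_403 (by norm_num)
theorem chkP_10_202 : allD P.chkPt 10 206848 = true :=
  allD_join chkP_9_404 chkP_9_405 (by norm_num)
theorem chkP_10_203 : allD P.chkPt 10 207872 = true :=
  allD_join chkP_9_406 chkP_9_407 (by norm_num)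
theorem chkP_10_204 : allD P.chkPt 10 208896 = true :=
  allD_join chkP_9_408 chkP_9_409 (by norm_num)
theorem chkP_10_205 : allD P.chkPt 10 209920 = true :=
  allD_join chkP_9_410 chkP_9_411 (by norm_num)
theorem chkP_10_206 : allD P.chkPt 10 210944 = true :=
  allD_join chkP_9_412 chkP_9_413 (by norm_num)
theorem chkP_10_207 : allD P.chkPt 10 211968 = true :=
  allD_join chkP_9_414 chkP_9_415 (by norm_num)
theorem chkP_10_208 : allD P.chkPt 10 212992 = true :=
  allD_join chkP_9_416 chkP_9_417 (by norm_num)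
theorem chkP_10_209 : allD P.chkPt 10 214016 = true :=
  allD_join chkP_9_418 chkP_9_419 (by norm_num)
theorem chkP_10_210 : allD P.chkPt 10 215040 = true :=
  allD_join chkP_9_420 chkP_9_421 (by norm_num)
theorem chkP_10_211 : allD P.chkPt 10 216064 = true :=
  allD_join chkP_9_422 chkP_9_423 (by norm_num)
theorem chkP_10_212 : allD P.chkPt 10 217088 = true :=
  allD_join chkP_9_424 chkP_9_425 (by norm_num)
theorem chkP_10_213 : allD P.chkPt 10 218112 = true :=
  allD_join chkP_9_426 chkP_9_427 (by norm_num)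
theorem chkP_10_214 : allD P.chkPt 10 219136 = true :=
  allD_join chkP_9_428 chkP_9_429 (by norm_num)
theorem chkP_10_215 : allD P.chkPt 10 220160 = true :=
  allD_join chkP_9_430 chkP_9_431 (by norm_num)
theorem chkP_10_216 : allD P.chkPt 10 221184 = true :=
  allD_join chkP_9_432 chkP_9_433 (by norm_num)
theorem chkP_10_217 : allD P.chkPt 10 222208 = true :=
  allD_join chkP_9_434 chkP_9_435 (by norm_num)
theorem chkP_10_218 : allD P.chkPt 10 223232 = true :=
  allD_join chkP_9_436 chkP_9_437 (by norm_num)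
theorem chkP_10_219 : allD P.chkPt 10 224256 = true :=
  allD_join chkP_9_438 chkP_9_439 (by norm_num)
theorem chkP_10_220 : allD P.chkPt 10 225280 = true :=
  allD_join chkP_9_440 chkP_9_441 (by norm_num)
theorem chkP_10_221 : allD P.chkPt 10 226304 = true :=
  allD_join chkP_9_442 chkP_9_443 (by norm_num)
theorem chkP_10_222 : allD P.chkPt 10 227328 = true :=
  allD_join chkP_9_444 chkP_9_445 (by norm_num)
theorem chkP_10_223 : allD P.chkPt 10 228352 = true :=
  allD_join chkP_9_446 chkP_9_447 (by norm_num)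
theorem chkP_10_224 : allD P.chkPt 10 229376 = true :=
  allD_join chkP_9_448 chkP_9_449 (by norm_num)
theorem chkP_10_225 : allD P.chkPt 10 230400 = true :=
  allD_join chkP_9_450 chkP_9_451 (by norm_num)
theorem chkP_10_226 : allD P.chkPt 10 231424 = true :=
  allD_join chkP_9_452 chkP_9_453 (by norm_num)
theorem chkP_10_227 : allD P.chkPt 10 232448 = true :=
  allD_join chkP_9_454 chkP_9_455 (by norm_num)
theorem chkP_10_228 : allD P.chkPt 10 233472 = true :=
  allD_join chkP_9_456 chkP_9_457 (by norm_num)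
theorem chkP_10_229 : allD P.chkPt 10 234496 = true :=
  allD_join chkP_9_458 chkP_9_459 (by norm_num)
theorem chkP_10_230 : allD P.chkPt 10 235520 = true :=
  allD_join chkP_9_460 chkP_9_461 (by norm_num)
theorem chkP_10_231 : allD P.chkPt 10 236544 = true :=
  allD_join chkP_9_462 chkP_9_463 (by norm_num)
theorem chkP_10_232 : allD P.chkPt 10 237568 = true :=
  allD_join chkP_9_464 chkP_9_465 (by norm_num)
theorem chkP_10_233 : allD P.chkPt 10 238592 = true :=
  allD_join chkP_9_466 chkP_9_467 (by norm_num)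
theorem chkP_10_234 : allD P.chkPt 10 239616 = true :=
  allD_join chkP_9_468 chkP_9_469 (by norm_num)
theorem chkP_10_235 : allD P.chkPt 10 240640 = true :=
  allD_join chkP_9_470 chkP_9_471 (by norm_num)
theorem chkP_10_236 : allD P.chkPt 10 241664 = true :=
  allD_join chkP_9_472 chkP_9_473 (by norm_num)
theorem chkP_10_237 : allD P.chkPt 10 242688 = true :=
  allD_join chkP_9_474 chkP_9_475 (by norm_num)
theorem chkP_10_238 : allD P.chkPt 10 243712 = true :=
  allD_join chkP_9_476 chkP_9_477 (by norm_num)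
theorem chkP_10_239 : allD P.chkPt 10 244736 = true :=
  allD_join chkP_9_478 chkP_9_479 (by norm_num)
theorem chkP_10_240 : allD P.chkPt 10 245760 = true :=
  allD_join chkP_9_480 chkP_9_481 (by norm_num)
theorem chkP_10_241 : allD P.chkPt 10 246784 = true :=
  allD_join chkP_9_482 chkP_9_483 (by norm_num)
theorem chkP_10_242 : allD P.chkPt 10 247808 = true :=
  allD_join chkP_9_484 chkP_9_485 (by norm_num)
theorem chkP_10_243 : allD P.chkPt 10 248832 = true :=
  allD_join chkP_9_486 chkP_9_487 (by norm_num)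
theorem chkP_10_244 : allD P.chkPt 10 249856 = true :=
  allD_join chkP_9_488 chkP_9_489 (by norm_num)
theorem chkP_10_245 : allD P.chkPt 10 250880 = true :=
  allD_join chkP_9_490 chkP_9_491 (by norm_num)
theorem chkP_10_246 : allD P.chkPt 10 251904 = true :=
  allD_join chkP_9_492 chkP_9_493 (by norm_num)
theorem chkP_10_247 : allD P.chkPt 10 252928 = true :=
  allD_join chkP_9_494 chkP_9_495 (by norm_num)
theorem chkP_10_248 : allD P.chkPt 10 253952 = true :=
  allD_join chkP_9_496 chkP_9_497 (by norm_num)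
theorem chkP_10_249 : allD P.chkPt 10 254976 = true :=
  allD_join chkP_9_498 chkP_9_499 (by norm_num)
theorem chkP_10_250 : allD P.chkPt 10 256000 = true :=
  allD_join chkP_9_500 chkP_9_501 (by norm_num)
theorem chkP_10_251 : allD P.chkPt 10 257024 = true :=
  allD_join chkP_9_502 chkP_9_503 (by norm_num)
theorem chkP_10_252 : allD P.chkPt 10 258048 = true :=
  allD_join chkP_9_504 chkP_9_505 (by norm_num)
theorem chkP_10_253 : allD P.chkPt 10 259072 = true :=
  allD_join chkP_9_506 chkP_9_507 (by norm_num)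
theorem chkP_10_254 : allD P.chkPt 10 260096 = true :=
  allD_join chkP_9_508 chkP_9_509 (by norm_num)
theorem chkP_10_255 : allD P.chkPt 10 261120 = true :=
  allD_join chkP_9_510 chkP_9_511 (by norm_num)
theorem chkP_11_0 : allD P.chkPt 11 0 = true :=
  allD_join chkP_10_0 chkP_10_1 (by norm_num)
theorem chkP_11_1 : allD P.chkPt 11 2048 = true :=
  allD_join chkP_10_2 chkP_10_3 (by norm_num)
theorem chkP_11_2 : allD P.chkPt 11 4096 = true :=
  allD_join chkP_10_4 chkP_10_5 (by norm_num)
theorem chkP_11_3 : allD P.chkPt 11 6144 = true :=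
  allD_join chkP_10_6 chkP_10_7 (by norm_num)
theorem chkP_11_4 : allD P.chkPt 11 8192 = true :=
  allD_join chkP_10_8 chkP_10_9 (by norm_num)
theorem chkP_11_5 : allD P.chkPt 11 10240 = true :=
  allD_join chkP_10_10 chkP_10_11 (by norm_num)
theorem chkP_11_6 : allD P.chkPt 11 12288 = true :=
  allD_join chkP_10_12 chkP_10_13 (by norm_num)
theorem chkP_11_7 : allD P.chkPt 11 14336 = true :=
  allD_join chkP_10_14 chkP_10_15 (by norm_num)
theorem chkP_11_8 : allD P.chkPt 11 16384 = true :=
  allD_join chkP_10_16 chkP_10_17 (by norm_num)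
theorem chkP_11_9 : allD P.chkPt 11 18432 = true :=
  allD_join chkP_10_18 chkP_10_19 (by norm_num)
theorem chkP_11_10 : allD P.chkPt 11 20480 = true :=
  allD_join chkP_10_20 chkP_10_21 (by norm_num)
theorem chkP_11_11 : allD P.chkPt 11 22528 = true :=
  allD_join chkP_10_22 chkP_10_23 (by norm_num)
theorem chkP_11_12 : allD P.chkPt 11 24576 = true :=
  allD_join chkP_10_24 chkP_10_25 (by norm_num)
theorem chkP_11_13 : allD P.chkPt 11 26624 = true :=
  allD_join chkP_10_26 chkP_10_27 (by norm_num)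
theorem chkP_11_14 : allD P.chkPt 11 28672 = true :=
  allD_join chkP_10_28 chkP_10_29 (by norm_num)
theorem chkP_11_15 : allD P.chkPt 11 30720 = true :=
  allD_join chkP_10_30 chkP_10_31 (by norm_num)
theorem chkP_11_16 : allD P.chkPt 11 32768 = true :=
  allD_join chkP_10_32 chkP_10_33 (by norm_num)
theorem chkP_11_17 : allD P.chkPt 11 34816 = true :=
  allD_join chkP_10_34 chkP_10_35 (by norm_num)
theorem chkP_11_18 : allD P.chkPt 11 36864 = true :=
  allD_join chkP_10_36 chkP_10_37 (by norm_num)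
theorem chkP_11_19 : allD P.chkPt 11 38912 = true :=
  allD_join chkP_10_38 chkP_10_39 (by norm_num)
theorem chkP_11_20 : allD P.chkPt 11 40960 = true :=
  allD_join chkP_10_40 chkP_10_41 (by norm_num)
theorem chkP_11_21 : allD P.chkPt 11 43008 = true :=
  allD_join chkP_10_42 chkP_10_43 (by norm_num)
theorem chkP_11_22 : allD P.chkPt 11 45056 = true :=
  allD_join chkP_10_44 chkP_10_45 (by norm_num)
theorem chkP_11_23 : allD P.chkPt 11 47104 = true :=
  allD_join chkP_10_46 chkP_10_47 (by norm_num)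
theorem chkP_11_24 : allD P.chkPt 11 49152 = true :=
  allD_join chkP_10_48 chkP_10_49 (by norm_num)
theorem chkP_11_25 : allD P.chkPt 11 51200 = true :=
  allD_join chkP_10_50 chkP_10_51 (by norm_num)
theorem chkP_11_26 : allD P.chkPt 11 53248 = true :=
  allD_join chkP_10_52 chkP_10_53 (by norm_num)
theorem chkP_11_27 : allD P.chkPt 11 55296 = true :=
  allD_join chkP_10_54 chkP_10_55 (by norm_num)
theorem chkP_11_28 : allD P.chkPt 11 57344 = true :=
  allD_join chkP_10_56 chkP_10_57 (by norm_num)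
theorem chkP_11_29 : allD P.chkPt 11 59392 = true :=
  allD_join chkP_10_58 chkP_10_59 (by norm_num)
theorem chkP_11_30 : allD P.chkPt 11 61440 = true :=
  allD_join chkP_10_60 chkP_10_61 (by norm_num)
theorem chkP_11_31 : allD P.chkPt 11 63488 = true :=
  allD_join chkP_10_62 chkP_10_63 (by norm_num)
theorem chkP_11_32 : allD P.chkPt 11 65536 = true :=
  allD_join chkP_10_64 chkP_10_65 (by norm_num)
theorem chkP_11_33 : allD P.chkPt 11 67584 = true :=
  allD_join chkP_10_66 chkP_10_67 (by norm_num)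
theorem chkP_11_34 : allD P.chkPt 11 69632 = true :=
  allD_join chkP_10_68 chkP_10_69 (by norm_num)
theorem chkP_11_35 : allD P.chkPt 11 71680 = true :=
  allD_join chkP_10_70 chkP_10_71 (by norm_num)
theorem chkP_11_36 : allD P.chkPt 11 73728 = true :=
  allD_join chkP_10_72 chkP_10_73 (by norm_num)
theorem chkP_11_37 : allD P.chkPt 11 75776 = true :=
  allD_join chkP_10_74 chkP_10_75 (by norm_num)
theorem chkP_11_38 : allD P.chkPt 11 77824 = true :=
  allD_join chkP_10_76 chkP_10_77 (by norm_num)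
theorem chkP_11_39 : allD P.chkPt 11 79872 = true :=
  allD_join chkP_10_78 chkP_10_79 (by norm_num)
theorem chkP_11_40 : allD P.chkPt 11 81920 = true :=
  allD_join chkP_10_80 chkP_10_81 (by norm_num)
theorem chkP_11_41 : allD P.chkPt 11 83968 = true :=
  allD_join chkP_10_82 chkP_10_83 (by norm_num)
theorem chkP_11_42 : allD P.chkPt 11 86016 = true :=
  allD_join chkP_10_84 chkP_10_85 (by norm_num)
theorem chkP_11_43 : allD P.chkPt 11 88064 = true :=
  allD_join chkP_10_86 chkP_10_87 (by norm_num)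
theorem chkP_11_44 : allD P.chkPt 11 90112 = true :=
  allD_join chkP_10_88 chkP_10_89 (by norm_num)
theorem chkP_11_45 : allD P.chkPt 11 92160 = true :=
  allD_join chkP_10_90 chkP_10_91 (by norm_num)
theorem chkP_11_46 : allD P.chkPt 11 94208 = true :=
  allD_join chkP_10_92 chkP_10_93 (by norm_num)
theorem chkP_11_47 : allD P.chkPt 11 96256 = true :=
  allD_join chkP_10_94 chkP_10_95 (by norm_num)
theorem chkP_11_48 : allD P.chkPt 11 98304 = true :=
  allD_join chkP_10_96 chkP_10_97 (by norm_num)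
theorem chkP_11_49 : allD P.chkPt 11 100352 = true :=
  allD_join chkP_10_98 chkP_10_99 (by norm_num)
theorem chkP_11_50 : allD P.chkPt 11 102400 = true :=
  allD_join chkP_10_100 chkP_10_101 (by norm_num)
theorem chkP_11_51 : allD P.chkPt 11 104448 = true :=
  allD_join chkP_10_102 chkP_10_103 (by norm_num)
theorem chkP_11_52 : allD P.chkPt 11 106496 = true :=
  allD_join chkP_10_104 chkP_10_105 (by norm_num)
theorem chkP_11_53 : allD P.chkPt 11 108544 = true :=
  allD_join chkP_10_106 chkP_10_107 (by norm_num)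
theorem chkP_11_54 : allD P.chkPt 11 110592 = true :=
  allD_join chkP_10_108 chkP_10_109 (by norm_num)
theorem chkP_11_55 : allD P.chkPt 11 112640 = true :=
  allD_join chkP_10_110 chkP_10_111 (by norm_num)
theorem chkP_11_56 : allD P.chkPt 11 114688 = true :=
  allD_join chkP_10_112 chkP_10_113 (by norm_num)
theorem chkP_11_57 : allD P.chkPt 11 116736 = true :=
  allD_join chkP_10_114 chkP_10_115 (by norm_num)
theorem chkP_11_58 : allD P.chkPt 11 118784 = true :=
  allD_join chkP_10_116 chkP_10_117 (by norm_num)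
theorem chkP_11_59 : allD P.chkPt 11 120832 = true :=
  allD_join chkP_10_118 chkP_10_119 (by norm_num)
theorem chkP_11_60 : allD P.chkPt 11 122880 = true :=
  allD_join chkP_10_120 chkP_10_121 (by norm_num)
theorem chkP_11_61 : allD P.chkPt 11 124928 = true :=
  allD_join chkP_10_122 chkP_10_123 (by norm_num)
theorem chkP_11_62 : allD P.chkPt 11 126976 = true :=
  allD_join chkP_10_124 chkP_10_125 (by norm_num)
theorem chkP_11_63 : allD P.chkPt 11 129024 = true :=
  allD_join chkP_10_126 chkP_10_127 (by norm_num)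
theorem chkP_11_64 : allD P.chkPt 11 131072 = true :=
  allD_join chkP_10_128 chkP_10_129 (by norm_num)
theorem chkP_11_65 : allD P.chkPt 11 133120 = true :=
  allD_join chkP_10_130 chkP_10_131 (by norm_num)
theorem chkP_11_66 : allD P.chkPt 11 135168 = true :=
  allD_join chkP_10_132 chkP_10_133 (by norm_num)
theorem chkP_11_67 : allD P.chkPt 11 137216 = true :=
  allD_join chkP_10_134 chkP_10_135 (by norm_num)
theorem chkP_11_68 : allD P.chkPt 11 139264 = true :=
  allD_join chkP_10_136 chkP_10_137 (by norm_num)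
theorem chkP_11_69 : allD P.chkPt 11 141312 = true :=
  allD_join chkP_10_138 chkP_10_139 (by norm_num)
theorem chkP_11_70 : allD P.chkPt 11 143360 = true :=
  allD_join chkP_10_140 chkP_10_141 (by norm_num)
theorem chkP_11_71 : allD P.chkPt 11 145408 = true :=
  allD_join chkP_10_142 chkP_10_143 (by norm_num)
theorem chkP_11_72 : allD P.chkPt 11 147456 = true :=
  allD_join chkP_10_144 chkP_10_145 (by norm_num)
theorem chkP_11_73 : allD P.chkPt 11 149504 = true :=
  allD_join chkP_10_146 chkP_10_147 (by norm_num)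
theorem chkP_11_74 : allD P.chkPt 11 151552 = true :=
  allD_join chkP_10_148 chkP_10_149 (by norm_num)
theorem chkP_11_75 : allD P.chkPt 11 153600 = true :=
  allD_join chkP_10_150 chkP_10_151 (by norm_num)
theorem chkP_11_76 : allD P.chkPt 11 155648 = true :=
  allD_join chkP_10_152 chkP_10_153 (by norm_num)
theorem chkP_11_77 : allD P.chkPt 11 157696 = true :=
  allD_join chkP_10_154 chkP_10_155 (by norm_num)
theorem chkP_11_78 : allD P.chkPt 11 159744 = true :=
  allD_join chkP_10_156 chkP_10_157 (by norm_num)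
theorem chkP_11_79 : allD P.chkPt 11 161792 = true :=
  allD_join chkP_10_158 chkP_10_159 (by norm_num)
theorem chkP_11_80 : allD P.chkPt 11 163840 = true :=
  allD_join chkP_10_160 chkP_10_161 (by norm_num)
theorem chkP_11_81 : allD P.chkPt 11 165888 = true :=
  allD_join chkP_10_162 chkP_10_163 (by norm_num)
theorem chkP_11_82 : allD P.chkPt 11 167936 = true :=
  allD_join chkP_10_164 chkP_10_165 (by norm_num)
theorem chkP_11_83 : allD P.chkPt 11 169984 = true :=
  allD_join chkP_10_166 chkP_10_167 (by norm_num)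
theorem chkP_11_84 : allD P.chkPt 11 172032 = true :=
  allD_join chkP_10_168 chkP_10_169 (by norm_num)
theorem chkP_11_85 : allD P.chkPt 11 174080 = true :=
  allD_join chkP_10_170 chkP_10_171 (by norm_num)
theorem chkP_11_86 : allD P.chkPt 11 176128 = true :=
  allD_join chkP_10_172 chkP_10_173 (by norm_num)
theorem chkP_11_87 : allD P.chkPt 11 178176 = true :=
  allD_join chkP_10_174 chkP_10_175 (by norm_num)
theorem chkP_11_88 : allD P.chkPt 11 180224 = true :=
  allD_join chkP_10_176 chkP_10_177 (by norm_num)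
theorem chkP_11_89 : allD P.chkPt 11 182272 = true :=
  allD_join chkP_10_178 chkP_10_179 (by norm_num)
theorem chkP_11_90 : allD P.chkPt 11 184320 = true :=
  allD_join chkP_10_180 chkP_10_181 (by norm_num)
theorem chkP_11_91 : allD P.chkPt 11 186368 = true :=
  allD_join chkP_10_182 chkP_10_183 (by norm_num)
theorem chkP_11_92 : allD P.chkPt 11 188416 = true :=
  allD_join chkP_10_184 chkP_10_185 (by norm_num)
theorem chkP_11_93 : allD P.chkPt 11 190464 = true :=
  allD_join chkP_10_186 chkP_10_187 (by norm_num)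
theorem chkP_11_94 : allD P.chkPt 11 192512 = true :=
  allD_join chkP_10_188 chkP_10_189 (by norm_num)
theorem chkP_11_95 : allD P.chkPt 11 194560 = true :=
  allD_join chkP_10_190 chkP_10_191 (by norm_num)
theorem chkP_11_96 : allD P.chkPt 11 196608 = true :=
  allD_join chkP_10_192 chkP_10_193 (by norm_num)
theorem chkP_11_97 : allD P.chkPt 11 198656 = true :=
  allD_join chkP_10_194 chkP_10_195 (by norm_num)
theorem chkP_11_98 : allD P.chkPt 11 200704 = true :=
  allD_join chkP_10_196 chkP_10_197 (by norm_num)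
theorem chkP_11_99 : allD P.chkPt 11 202752 = true :=
  allD_join chkP_10_198 chkP_10_199 (by norm_num)
theorem chkP_11_100 : allD P.chkPt 11 204800 = true :=
  allD_join chkP_10_200 chkP_10_201 (by norm_num)
theorem chkP_11_101 : allD P.chkPt 11 206848 = true :=
  allD_join chkP_10_202 chkP_10_203 (by norm_num)
theorem chkP_11_102 : allD P.chkPt 11 208896 = true :=
  allD_join chkP_10_204 chkP_10_205 (by norm_num)
theorem chkP_11_103 : allD P.chkPt 11 210944 = true :=
  allD_join chkP_10_206 chkP_10_207 (by norm_num)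
theorem chkP_11_104 : allD P.chkPt 11 212992 = true :=
  allD_join chkP_10_208 chkP_10_209 (by norm_num)
theorem chkP_11_105 : allD P.chkPt 11 215040 = true :=
  allD_join chkP_10_210 chkP_10_211 (by norm_num)
theorem chkP_11_106 : allD P.chkPt 11 217088 = true :=
  allD_join chkP_10_212 chkP_10_213 (by norm_num)
theorem chkP_11_107 : allD P.chkPt 11 219136 = true :=
  allD_join chkP_10_214 chkP_10_215 (by norm_num)
theorem chkP_11_108 : allD P.chkPt 11 221184 = true :=
  allD_join chkP_10_216 chkP_10_217 (by norm_num)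
theorem chkP_11_109 : allD P.chkPt 11 223232 = true :=
  allD_join chkP_10_218 chkP_10_219 (by norm_num)
theorem chkP_11_110 : allD P.chkPt 11 225280 = true :=
  allD_join chkP_10_220 chkP_10_221 (by norm_num)
theorem chkP_11_111 : allD P.chkPt 11 227328 = true :=
  allD_join chkP_10_222 chkP_10_223 (by norm_num)
theorem chkP_11_112 : allD P.chkPt 11 229376 = true :=
  allD_join chkP_10_224 chkP_10_225 (by norm_num)
theorem chkP_11_113 : allD P.chkPt 11 231424 = true :=
  allD_join chkP_10_226 chkP_10_227 (by norm_num)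
theorem chkP_11_114 : allD P.chkPt 11 233472 = true :=
  allD_join chkP_10_228 chkP_10_229 (by norm_num)
theorem chkP_11_115 : allD P.chkPt 11 235520 = true :=
  allD_join chkP_10_230 chkP_10_231 (by norm_num)
theorem chkP_11_116 : allD P.chkPt 11 237568 = true :=
  allD_join chkP_10_232 chkP_10_233 (by norm_num)
theorem chkP_11_117 : allD P.chkPt 11 239616 = true :=
  allD_join chkP_10_234 chkP_10_235 (by norm_num)
theorem chkP_11_118 : allD P.chkPt 11 241664 = true :=
  allD_join chkP_10_236 chkP_10_237 (by norm_num)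
theorem chkP_11_119 : allD P.chkPt 11 243712 = true :=
  allD_join chkP_10_238 chkP_10_239 (by norm_num)
theorem chkP_11_120 : allD P.chkPt 11 245760 = true :=
  allD_join chkP_10_240 chkP_10_241 (by norm_num)
theorem chkP_11_121 : allD P.chkPt 11 247808 = true :=
  allD_join chkP_10_242 chkP_10_243 (by norm_num)
theorem chkP_11_122 : allD P.chkPt 11 249856 = true :=
  allD_join chkP_10_244 chkP_10_245 (by norm_num)
theorem chkP_11_123 : allD P.chkPt 11 251904 = true :=
  allD_join chkP_10_246 chkP_10_247 (by norm_num)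
theorem chkP_11_124 : allD P.chkPt 11 253952 = true :=
  allD_join chkP_10_248 chkP_10_249 (by norm_num)
theorem chkP_11_125 : allD P.chkPt 11 256000 = true :=
  allD_join chkP_10_250 chkP_10_251 (by norm_num)
theorem chkP_11_126 : allD P.chkPt 11 258048 = true :=
  allD_join chkP_10_252 chkP_10_253 (by norm_num)
theorem chkP_11_127 : allD P.chkPt 11 260096 = true :=
  allD_join chkP_10_254 chkP_10_255 (by norm_num)
theorem chkP_12_0 : allD P.chkPt 12 0 = true :=
  allD_join chkP_11_0 chkP_11_1 (by norm_num)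
theorem chkP_12_1 : allD P.chkPt 12 4096 = true :=
  allD_join chkP_11_2 chkP_11_3 (by norm_num)
theorem chkP_12_2 : allD P.chkPt 12 8192 = true :=
  allD_join chkP_11_4 chkP_11_5 (by norm_num)
theorem chkP_12_3 : allD P.chkPt 12 12288 = true :=
  allD_join chkP_11_6 chkP_11_7 (by norm_num)
theorem chkP_12_4 : allD P.chkPt 12 16384 = true :=
  allD_join chkP_11_8 chkP_11_9 (by norm_num)
theorem chkP_12_5 : allD P.chkPt 12 20480 = true :=
  allD_join chkP_11_10 chkP_11_11 (by norm_num)
theorem chkP_12_6 : allD P.chkPt 12 24576 = true :=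
  allD_join chkP_11_12 chkP_11_13 (by norm_num)
theorem chkP_12_7 : allD P.chkPt 12 28672 = true :=
  allD_join chkP_11_14 chkP_11_15 (by norm_num)
theorem chkP_12_8 : allD P.chkPt 12 32768 = true :=
  allD_join chkP_11_16 chkP_11_17 (by norm_num)
theorem chkP_12_9 : allD P.chkPt 12 36864 = true :=
  allD_join chkP_11_18 chkP_11_19 (by norm_num)
theorem chkP_12_10 : allD P.chkPt 12 40960 = true :=
  allD_join chkP_11_20 chkP_11_21 (by norm_num)
theorem chkP_12_11 : allD P.chkPt 12 45056 = true :=
  allD_join chkP_11_22 chkP_11_23 (by norm_num)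
theorem chkP_12_12 : allD P.chkPt 12 49152 = true :=
  allD_join chkP_11_24 chkP_11_25 (by norm_num)
theorem chkP_12_13 : allD P.chkPt 12 53248 = true :=
  allD_join chkP_11_26 chkP_11_27 (by norm_num)
theorem chkP_12_14 : allD P.chkPt 12 57344 = true :=
  allD_join chkP_11_28 chkP_11_29 (by norm_num)
theorem chkP_12_15 : allD P.chkPt 12 61440 = true :=
  allD_join chkP_11_30 chkP_11_31 (by norm_num)
theorem chkP_12_16 : allD P.chkPt 12 65536 = true :=
  allD_join chkP_11_32 chkP_11_33 (by norm_num)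
theorem chkP_12_17 : allD P.chkPt 12 69632 = true :=
  allD_join chkP_11_34 chkP_11_35 (by norm_num)
theorem chkP_12_18 : allD P.chkPt 12 73728 = true :=
  allD_join chkP_11_36 chkP_11_37 (by norm_num)
theorem chkP_12_19 : allD P.chkPt 12 77824 = true :=
  allD_join chkP_11_38 chkP_11_39 (by norm_num)
theorem chkP_12_20 : allD P.chkPt 12 81920 = true :=
  allD_join chkP_11_40 chkP_11_41 (by norm_num)
theorem chkP_12_21 : allD P.chkPt 12 86016 = true :=
  allD_join chkP_11_42 chkP_11_43 (by norm_num)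
theorem chkP_12_22 : allD P.chkPt 12 90112 = true :=
  allD_join chkP_11_44 chkP_11_45 (by norm_num)
theorem chkP_12_23 : allD P.chkPt 12 94208 = true :=
  allD_join chkP_11_46 chkP_11_47 (by norm_num)
theorem chkP_12_24 : allD P.chkPt 12 98304 = true :=
  allD_join chkP_11_48 chkP_11_49 (by norm_num)
theorem chkP_12_25 : allD P.chkPt 12 102400 = true :=
  allD_join chkP_11_50 chkP_11_51 (by norm_num)
theorem chkP_12_26 : allD P.chkPt 12 106496 = true :=
  allD_join chkP_11_52 chkP_11_53 (by norm_num)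
theorem chkP_12_27 : allD P.chkPt 12 110592 = true :=
  allD_join chkP_11_54 chkP_11_55 (by norm_num)
theorem chkP_12_28 : allD P.chkPt 12 114688 = true :=
  allD_join chkP_11_56 chkP_11_57 (by norm_num)
theorem chkP_12_29 : allD P.chkPt 12 118784 = true :=
  allD_join chkP_11_58 chkP_11_59 (by norm_num)
theorem chkP_12_30 : allD P.chkPt 12 122880 = true :=
  allD_join chkP_11_60 chkP_11_61 (by norm_num)
theorem chkP_12_31 : allD P.chkPt 12 126976 = true :=
  allD_join chkP_11_62 chkP_11_63 (by norm_num)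
theorem chkP_12_32 : allD P.chkPt 12 131072 = true :=
  allD_join chkP_11_64 chkP_11_65 (by norm_num)
theorem chkP_12_33 : allD P.chkPt 12 135168 = true :=
  allD_join chkP_11_66 chkP_11_67 (by norm_num)
theorem chkP_12_34 : allD P.chkPt 12 139264 = true :=
  allD_join chkP_11_68 chkP_11_69 (by norm_num)
theorem chkP_12_35 : allD P.chkPt 12 143360 = true :=
  allD_join chkP_11_70 chkP_11_71 (by norm_num)
theorem chkP_12_36 : allD P.chkPt 12 147456 = true :=
  allD_join chkP_11_72 chkP_11_73 (by norm_num)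
theorem chkP_12_37 : allD P.chkPt 12 151552 = true :=
  allD_join chkP_11_74 chkP_11_75 (by norm_num)
theorem chkP_12_38 : allD P.chkPt 12 155648 = true :=
  allD_join chkP_11_76 chkP_11_77 (by norm_num)
theorem chkP_12_39 : allD P.chkPt 12 159744 = true :=
  allD_join chkP_11_78 chkP_11_79 (by norm_num)
theorem chkP_12_40 : allD P.chkPt 12 163840 = true :=
  allD_join chkP_11_80 chkP_11_81 (by norm_num)
theorem chkP_12_41 : allD P.chkPt 12 167936 = true :=
  allD_join chkP_11_82 chkP_11_83 (by norm_num)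
theorem chkP_12_42 : allD P.chkPt 12 172032 = true :=
  allD_join chkP_11_84 chkP_11_85 (by norm_num)
theorem chkP_12_43 : allD P.chkPt 12 176128 = true :=
  allD_join chkP_11_86 chkP_11_87 (by norm_num)
theorem chkP_12_44 : allD P.chkPt 12 180224 = true :=
  allD_join chkP_11_88 chkP_11_89 (by norm_num)
theorem chkP_12_45 : allD P.chkPt 12 184320 = true :=
  allD_join chkP_11_90 chkP_11_91 (by norm_num)
theorem chkP_12_46 : allD P.chkPt 12 188416 = true :=
  allD_join chkP_11_92 chkP_11_93 (by norm_num)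
theorem chkP_12_47 : allD P.chkPt 12 192512 = true :=
  allD_join chkP_11_94 chkP_11_95 (by norm_num)
theorem chkP_12_48 : allD P.chkPt 12 196608 = true :=
  allD_join chkP_11_96 chkP_11_97 (by norm_num)
theorem chkP_12_49 : allD P.chkPt 12 200704 = true :=
  allD_join chkP_11_98 chkP_11_99 (by norm_num)
theorem chkP_12_50 : allD P.chkPt 12 204800 = true :=
  allD_join chkP_11_100 chkP_11_101 (by norm_num)
theorem chkP_12_51 : allD P.chkPt 12 208896 = true :=
  allD_join chkP_11_102 chkP_11_103 (by norm_num)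
theorem chkP_12_52 : allD P.chkPt 12 212992 = true :=
  allD_join chkP_11_104 chkP_11_105 (by norm_num)
theorem chkP_12_53 : allD P.chkPt 12 217088 = true :=
  allD_join chkP_11_106 chkP_11_107 (by norm_num)
theorem chkP_12_54 : allD P.chkPt 12 221184 = true :=
  allD_join chkP_11_108 chkP_11_109 (by norm_num)
theorem chkP_12_55 : allD P.chkPt 12 225280 = true :=
  allD_join chkP_11_110 chkP_11_111 (by norm_num)
theorem chkP_12_56 : allD P.chkPt 12 229376 = true :=
  allD_join chkP_11_112 chkP_11_113 (by norm_num)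
theorem chkP_12_57 : allD P.chkPt 12 233472 = true :=
  allD_join chkP_11_114 chkP_11_115 (by norm_num)
theorem chkP_12_58 : allD P.chkPt 12 237568 = true :=
  allD_join chkP_11_116 chkP_11_117 (by norm_num)
theorem chkP_12_59 : allD P.chkPt 12 241664 = true :=
  allD_join chkP_11_118 chkP_11_119 (by norm_num)
theorem chkP_12_60 : allD P.chkPt 12 245760 = true :=
  allD_join chkP_11_120 chkP_11_121 (by norm_num)
theorem chkP_12_61 : allD P.chkPt 12 249856 = true :=
  allD_join chkP_11_122 chkP_11_123 (by norm_num)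
theorem chkP_12_62 : allD P.chkPt 12 253952 = true :=
  allD_join chkP_11_124 chkP_11_125 (by norm_num)
theorem chkP_12_63 : allD P.chkPt 12 258048 = true :=
  allD_join chkP_11_126 chkP_11_127 (by norm_num)
theorem chkP_13_0 : allD P.chkPt 13 0 = true :=
  allD_join chkP_12_0 chkP_12_1 (by norm_num)
theorem chkP_13_1 : allD P.chkPt 13 8192 = true :=
  allD_join chkP_12_2 chkP_12_3 (by norm_num)
theorem chkP_13_2 : allD P.chkPt 13 16384 = true :=
  allD_join chkP_12_4 chkP_12_5 (by norm_num)
theorem chkP_13_3 : allD P.chkPt 13 24576 = true :=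
  allD_join chkP_12_6 chkP_12_7 (by norm_num)
theorem chkP_13_4 : allD P.chkPt 13 32768 = true :=
  allD_join chkP_12_8 chkP_12_9 (by norm_num)
theorem chkP_13_5 : allD P.chkPt 13 40960 = true :=
  allD_join chkP_12_10 chkP_12_11 (by norm_num)
theorem chkP_13_6 : allD P.chkPt 13 49152 = true :=
  allD_join chkP_12_12 chkP_12_13 (by norm_num)
theorem chkP_13_7 : allD P.chkPt 13 57344 = true :=
  allD_join chkP_12_14 chkP_12_15 (by norm_num)
theorem chkP_13_8 : allD P.chkPt 13 65536 = true :=
  allD_join chkP_12_16 chkP_12_17 (by norm_num)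
theorem chkP_13_9 : allD P.chkPt 13 73728 = true :=
  allD_join chkP_12_18 chkP_12_19 (by norm_num)
theorem chkP_13_10 : allD P.chkPt 13 81920 = true :=
  allD_join chkP_12_20 chkP_12_21 (by norm_num)
theorem chkP_13_11 : allD P.chkPt 13 90112 = true :=
  allD_join chkP_12_22 chkP_12_23 (by norm_num)
theorem chkP_13_12 : allD P.chkPt 13 98304 = true :=
  allD_join chkP_12_24 chkP_12_25 (by norm_num)
theorem chkP_13_13 : allD P.chkPt 13 106496 = true :=
  allD_join chkP_12_26 chkP_12_27 (by norm_num)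
theorem chkP_13_14 : allD P.chkPt 13 114688 = true :=
  allD_join chkP_12_28 chkP_12_29 (by norm_num)
theorem chkP_13_15 : allD P.chkPt 13 122880 = true :=
  allD_join chkP_12_30 chkP_12_31 (by norm_num)
theorem chkP_13_16 : allD P.chkPt 13 131072 = true :=
  allD_join chkP_12_32 chkP_12_33 (by norm_num)
theorem chkP_13_17 : allD P.chkPt 13 139264 = true :=
  allD_join chkP_12_34 chkP_12_35 (by norm_num)
theorem chkP_13_18 : allD P.chkPt 13 147456 = true :=
  allD_join chkP_12_36 chkP_12_37 (by norm_num)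
theorem chkP_13_19 : allD P.chkPt 13 155648 = true :=
  allD_join chkP_12_38 chkP_12_39 (by norm_num)
theorem chkP_13_20 : allD P.chkPt 13 163840 = true :=
  allD_join chkP_12_40 chkP_12_41 (by norm_num)
theorem chkP_13_21 : allD P.chkPt 13 172032 = true :=
  allD_join chkP_12_42 chkP_12_43 (by norm_num)
theorem chkP_13_22 : allD P.chkPt 13 180224 = true :=
  allD_join chkP_12_44 chkP_12_45 (by norm_num)
theorem chkP_13_23 : allD P.chkPt 13 188416 = true :=
  allD_join chkP_12_46 chkP_12_47 (by norm_num)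
theorem chkP_13_24 : allD P.chkPt 13 196608 = true :=
  allD_join chkP_12_48 chkP_12_49 (by norm_num)
theorem chkP_13_25 : allD P.chkPt 13 204800 = true :=
  allD_join chkP_12_50 chkP_12_51 (by norm_num)
theorem chkP_13_26 : allD P.chkPt 13 212992 = true :=
  allD_join chkP_12_52 chkP_12_53 (by norm_num)
theorem chkP_13_27 : allD P.chkPt 13 221184 = true :=
  allD_join chkP_12_54 chkP_12_55 (by norm_num)
theorem chkP_13_28 : allD P.chkPt 13 229376 = true :=
  allD_join chkP_12_56 chkP_12_57 (by norm_num)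
theorem chkP_13_29 : allD P.chkPt 13 237568 = true :=
  allD_join chkP_12_58 chkP_12_59 (by norm_num)
theorem chkP_13_30 : allD P.chkPt 13 245760 = true :=
  allD_join chkP_12_60 chkP_12_61 (by norm_num)
theorem chkP_13_31 : allD P.chkPt 13 253952 = true :=
  allD_join chkP_12_62 chkP_12_63 (by norm_num)
theorem chkP_14_0 : allD P.chkPt 14 0 = true :=
  allD_join chkP_13_0 chkP_13_1 (by norm_num)
theorem chkP_14_1 : allD P.chkPt 14 16384 = true :=
  allD_join chkP_13_2 chkP_13_3 (by norm_num)
theorem chkP_14_2 : allD P.chkPt 14 32768 = true :=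
  allD_join chkP_13_4 chkP_13_5 (by norm_num)
theorem chkP_14_3 : allD P.chkPt 14 49152 = true :=
  allD_join chkP_13_6 chkP_13_7 (by norm_num)
theorem chkP_14_4 : allD P.chkPt 14 65536 = true :=
  allD_join chkP_13_8 chkP_13_9 (by norm_num)
theorem chkP_14_5 : allD P.chkPt 14 81920 = true :=
  allD_join chkP_13_10 chkP_13_11 (by norm_num)
theorem chkP_14_6 : allD P.chkPt 14 98304 = true :=
  allD_join chkP_13_12 chkP_13_13 (by norm_num)
theorem chkP_14_7 : allD P.chkPt 14 114688 = true :=
  allD_join chkP_13_14 chkP_13_15 (by norm_num)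
theorem chkP_14_8 : allD P.chkPt 14 131072 = true :=
  allD_join chkP_13_16 chkP_13_17 (by norm_num)
theorem chkP_14_9 : allD P.chkPt 14 147456 = true :=
  allD_join chkP_13_18 chkP_13_19 (by norm_num)
theorem chkP_14_10 : allD P.chkPt 14 163840 = true :=
  allD_join chkP_13_20 chkP_13_21 (by norm_num)
theorem chkP_14_11 : allD P.chkPt 14 180224 = true :=
  allD_join chkP_13_22 chkP_13_23 (by norm_num)
theorem chkP_14_12 : allD P.chkPt 14 196608 = true :=
  allD_join chkP_13_24 chkP_13_25 (by norm_num)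
theorem chkP_14_13 : allD P.chkPt 14 212992 = true :=
  allD_join chkP_13_26 chkP_13_27 (by norm_num)
theorem chkP_14_14 : allD P.chkPt 14 229376 = true :=
  allD_join chkP_13_28 chkP_13_29 (by norm_num)
theorem chkP_14_15 : allD P.chkPt 14 245760 = true :=
  allD_join chkP_13_30 chkP_13_31 (by norm_num)
theorem chkP_15_0 : allD P.chkPt 15 0 = true :=
  allD_join chkP_14_0 chkP_14_1 (by norm_num)
theorem chkP_15_1 : allD P.chkPt 15 32768 = true :=
  allD_join chkP_14_2 chkP_14_3 (by norm_num)
theorem chkP_15_2 : allD P.chkPt 15 65536 = true :=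
  allD_join chkP_14_4 chkP_14_5 (by norm_num)
theorem chkP_15_3 : allD P.chkPt 15 98304 = true :=
  allD_join chkP_14_6 chkP_14_7 (by norm_num)
theorem chkP_15_4 : allD P.chkPt 15 131072 = true :=
  allD_join chkP_14_8 chkP_14_9 (by norm_num)
theorem chkP_15_5 : allD P.chkPt 15 163840 = true :=
  allD_join chkP_14_10 chkP_14_11 (by norm_num)
theorem chkP_15_6 : allD P.chkPt 15 196608 = true :=
  allD_join chkP_14_12 chkP_14_13 (by norm_num)
theorem chkP_15_7 : allD P.chkPt 15 229376 = true :=
  allD_join chkP_14_14 chkP_14_15 (by norm_num)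
theorem chkP_16_0 : allD P.chkPt 16 0 = true :=
  allD_join chkP_15_0 chkP_15_1 (by norm_num)
theorem chkP_16_1 : allD P.chkPt 16 65536 = true :=
  allD_join chkP_15_2 chkP_15_3 (by norm_num)
theorem chkP_16_2 : allD P.chkPt 16 131072 = true :=
  allD_join chkP_15_4 chkP_15_5 (by norm_num)
theorem chkP_16_3 : allD P.chkPt 16 196608 = true :=
  allD_join chkP_15_6 chkP_15_7 (by norm_num)
theorem chkP_17_0 : allD P.chkPt 17 0 = true :=
  allD_join chkP_16_0 chkP_16_1 (by norm_num)
theorem chkP_17_1 : allD P.chkPt 17 131072 = true :=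
  allD_join chkP_16_2 chkP_16_3 (by norm_num)
theorem chkP_18_0 : allD P.chkPt 18 0 = true :=
  allD_join chkP_17_0 chkP_17_1 (by norm_num)

def extraExps : List (WExp Cfsg.Spor.He.Gen) := [
  (.mul (.of .e) (.inv (.pow (.mul (.of .f) (.of .g)) 2))),
  (.mul (.of .e) (.inv (.pow (.mul (.mul (.of .a) (.of .b)) (.of .c)) 3))),
  (.mul (.of .a) (.inv (.pow (.mul (.of .c) (.of .d)) 5))),
  (.pow (.mul (.mul (.mul (.of .c) (.of .d)) (.of .f)) (.of .g)) 4)]

def subExps : List (WExp Cfsg.Spor.He.Gen) := [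
  (.of .a),
  (.of .b),
  (.of .c),
  (.of .f),
  (.of .g),
  (.mul (.mul (.mul (.mul (.mul (.mul (.mul (.mul (.of .d) (.of .e)) (.of .f)) (.of .d)) (.of .c)) (.of .d)) (.of .f)) (.of .e)) (.of .d)),
  (.mul (.mul (.mul (.mul (.mul (.mul (.mul (.mul (.of .d) (.of .e)) (.of .g)) (.of .d)) (.of .c)) (.of .d)) (.of .g)) (.of .e)) (.of .d))]

def code : Cfsg.Spor.He.Gen → ℕ
  | .a => 0
  | .b => 1
  | .c => 2
  | .d => 3
  | .e => 4
  | .f => 5
  | .g => 6

noncomputable def K : Pkg Cfsg.Spor.He.Gen where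
  rels := coxRelators Cfsg.Spor.He.edges ∪ {r | r ∈ Cfsg.Spor.He.extra}
  S := {Cfsg.Spor.He.a, Cfsg.Spor.He.b, Cfsg.Spor.He.c, Cfsg.Spor.He.f, Cfsg.Spor.He.g, Cfsg.Spor.He.d * Cfsg.Spor.He.e * Cfsg.Spor.He.f * Cfsg.Spor.He.d * Cfsg.Spor.He.c * Cfsg.Spor.He.d * Cfsg.Spor.He.f * Cfsg.Spor.He.e * Cfsg.Spor.He.d, Cfsg.Spor.He.d * Cfsg.Spor.He.e * Cfsg.Spor.He.g * Cfsg.Spor.He.d * Cfsg.Spor.He.c * Cfsg.Spor.He.d * Cfsg.Spor.He.g * Cfsg.Spor.He.e * Cfsg.Spor.He.d}
  relExps := coxExps Cfsg.Spor.He.edges ++ extraExps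
  subExps := subExps
  code := code
  letters := [FreeGroup.of Cfsg.Spor.He.Gen.a, FreeGroup.of Cfsg.Spor.He.Gen.b, FreeGroup.of Cfsg.Spor.He.Gen.c, FreeGroup.of Cfsg.Spor.He.Gen.d, FreeGroup.of Cfsg.Spor.He.Gen.e, FreeGroup.of Cfsg.Spor.He.Gen.f, FreeGroup.of Cfsg.Spor.He.Gen.g]
  U := U
  rotT := tR
  rotSrc := rotSrc
  relWords := relWords
  P := P

theorem hS : ∀ s, s ∈ K.S ↔ ∃ e ∈ K.subExps, s = e.eval := by
  intro s
  constructor
  · intro hs
    have hs' : s ∈ ({Cfsg.Spor.He.a, Cfsg.Spor.He.b, Cfsg.Spor.He.c, Cfsg.Spor.He.f, Cfsg.Spor.He.g, Cfsg.Spor.He.d * Cfsg.Spor.He.e * Cfsg.Spor.He.f * Cfsg.Spor.He.d * Cfsg.Spor.He.c * Cfsg.Spor.He.d * Cfsg.Spor.He.f * Cfsg.Spor.He.e * Cfsg.Spor.He.d, Cfsg.Spor.He.d * Cfsg.Spor.He.e * Cfsg.Spor.He.g * Cfsg.Spor.He.d * Cfsg.Spor.He.c * Cfsg.Spor.He.d * Cfsg.Spor.He.g * Cfsg.Spor.He.e * Cfsg.Spor.He.d} : Set (FreeGroup Cfsg.Spor.He.Gen)) := hs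
    simp only [Set.mem_insert_iff, Set.mem_singleton_iff] at hs'
    rcases hs' with rfl | rfl | rfl | rfl | rfl | rfl | rfl
    · exact ⟨(.of .a), by simp [K, subExps], rfl⟩
    · exact ⟨(.of .b), by simp [K, subExps], rfl⟩
    · exact ⟨(.of .c), by simp [K, subExps], rfl⟩
    · exact ⟨(.of .f), by simp [K, subExps], rfl⟩
    · exact ⟨(.of .g), by simp [K, subExps], rfl⟩
    · exact ⟨(.mul (.mul (.mul (.mul (.mul (.mul (.mul (.mul (.of .d) (.of .e)) (.of .f)) (.of .d)) (.of .c)) (.of .d)) (.of .f)) (.of .e)) (.of .d)), by simp [K, subExps], rfl⟩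
    · exact ⟨(.mul (.mul (.mul (.mul (.mul (.mul (.mul (.mul (.of .d) (.of .e)) (.of .g)) (.of .d)) (.of .c)) (.of .d)) (.of .g)) (.of .e)) (.of .d)), by simp [K, subExps], rfl⟩
  · rintro ⟨e, he, rfl⟩
    have he' : e ∈ subExps := he
    simp only [subExps, List.mem_cons, List.not_mem_nil, or_false] at he'
    show e.eval ∈ ({Cfsg.Spor.He.a, Cfsg.Spor.He.b, Cfsg.Spor.He.c, Cfsg.Spor.He.f, Cfsg.Spor.He.g, Cfsg.Spor.He.d * Cfsg.Spor.He.e * Cfsg.Spor.He.f * Cfsg.Spor.He.d * Cfsg.Spor.He.c * Cfsg.Spor.He.d * Cfsg.Spor.He.f * Cfsg.Spor.He.e * Cfsg.Spor.He.d, Cfsg.Spor.He.d * Cfsg.Spor.He.e * Cfsg.Spor.He.g * Cfsg.Spor.He.d * Cfsg.Spor.He.c * Cfsg.Spor.He.d * Cfsg.Spor.He.g * Cfsg.Spor.He.e * Cfsg.Spor.He.d} : Set (FreeGroup Cfsg.Spor.He.Gen))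
    rcases he' with rfl | rfl | rfl | rfl | rfl | rfl | rfl <;>
      simp only [WExp.eval, Set.mem_insert_iff, Set.mem_singleton_iff, true_or, or_true]

theorem hsurj : ∀ l < K.P.L, ∃ x, l = K.code x ∨ l = K.P.iv (K.code x) := by
  intro l hl
  have hl' : l < 7 := hl
  interval_cases l
  · exact ⟨.a, Or.inl rfl⟩
  · exact ⟨.b, Or.inl rfl⟩
  · exact ⟨.c, Or.inl rfl⟩
  · exact ⟨.d, Or.inl rfl⟩
  · exact ⟨.e, Or.inl rfl⟩
  · exact ⟨.f, Or.inl rfl⟩
  · exact ⟨.g, Or.inl rfl⟩

theorem hvalG_lt : ∀ l < K.P.L, K.valG (K.P.iv l) * K.valG l = 1 := by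
  intro l hl
  have hl' : l < 7 := hl
  interval_cases l
  · exact cox_sq Cfsg.Spor.He.edges _ .a (by decide)
  · exact cox_sq Cfsg.Spor.He.edges _ .b (by decide)
  · exact cox_sq Cfsg.Spor.He.edges _ .c (by decide)
  · exact cox_sq Cfsg.Spor.He.edges _ .d (by decide)
  · exact cox_sq Cfsg.Spor.He.edges _ .e (by decide)
  · exact cox_sq Cfsg.Spor.He.edges _ .f (by decide)
  · exact cox_sq Cfsg.Spor.He.edges _ .g (by decide)

theorem hP : K.P.Valid where
  hn := by decide
  hlen := rfl
  hiv := by decide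
  hpt := all_of_allD _ 18 187425 (by norm_num) chkP_18_0
  hmacL := by decide
  hrelL := by decide

theorem ok : K.Ok where
  hrels := hrels_of Cfsg.Spor.He.edges Cfsg.Spor.He.extra extraExps rfl
  hS := hS
  hcodeL := by intro x; cases x <;> decide
  hletters := by intro x; cases x <;> rfl
  hsurj := hsurj
  hvalG := Pkg.hvalG_of rfl rfl hvalG_lt
  hP := hP
  hpairs := by decide +kernel
  hsubsP := by decide +kernel
  hsub0 := by decide +kernel
  hUL := rfl
  hUN := by decide
  hrot := rfl
  hrotT := by decide +kernel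
  hrelW := by decide +kernel
  hUsub := fun _ => rfl
  hchk := all_of_allD _ 18 189174 (by norm_num) chkU_18_0
  hcnt := by
    have h := card_filter_range U.live 18 189174 (by norm_num) U.live_lt
    rw [cntU_18_0] at h
    exact le_of_eq h

end Cfsg.Agent.Lib.Helper35HeC
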