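import Cfsg.Agent.Lib.Helper35HeBMain
import Cfsg.Agent.Lib.Helper35Hec1Main
import Cfsg.Agent.Lib.Helper35Hec2Main
import Cfsg.Agent.Lib.Helper35HeRMain
import Cfsg.Agent.Lib.Helper35Ord4

set_option autoImplicit false
set_option maxRecDepth 100000

namespace Cfsg.Agent.Lib.Helper35HeUb

open Cfsg.Agent.Lib.Helper35TC

def iR : Cfsg.Agent.Lib.Helper35HeR.Gen → Cfsg.Spor.He.Gen
  | .a => .a
  | .b => .b
  | .c => .c
  | .d => .d
  | .e => .e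

theorem hmemR : ∀ e ∈ Cfsg.Agent.Lib.Helper35HeR.K.relExps, e.map iR ∈ Cfsg.Agent.Lib.Helper35HeB.K.relExps := by decide +kernel

def rR : WExp Cfsg.Agent.Lib.Helper35HeR.Gen := (.mul (.mul (.mul (.mul (.mul (.mul (.mul (.mul (.mul (.mul (.mul (.mul (.mul (.mul (.of .e) (.of .d)) (.of .c)) (.of .d)) (.of .e)) (.of .d)) (.of .c)) (.of .d)) (.of .c)) (.of .d)) (.of .e)) (.of .d)) (.of .c)) (.of .d)) (.of .c))

def provenL : List (WExp Cfsg.Spor.He.Gen) := [rR.map iR]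

theorem hproven : ∀ e ∈ provenL, PresentedGroup.mk Cfsg.Agent.Lib.Helper35HeB.K.rels e.eval = 1 := by
  intro e he
  simp only [provenL, List.mem_singleton] at he
  subst he
  have h1 : PresentedGroup.mk Cfsg.Agent.Lib.Helper35HeR.K.rels rR.eval = 1 :=
    Cfsg.Agent.Lib.Helper35HeR.ok.eq_one_of_regular rfl rR (by decide +kernel)
  have h2 := Cfsg.Agent.Lib.Helper35HeR.ok.homOf_mk Cfsg.Agent.Lib.Helper35HeB.K iR (fun e he => Cfsg.Agent.Lib.Helper35HeB.ok.rel_one (hmemR e he)) rR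
  rw [h1, map_one] at h2
  exact h2.symm

theorem ub2 : Finite Cfsg.Agent.Lib.Helper35Hec2.K.Grp ∧ Nat.card Cfsg.Agent.Lib.Helper35Hec2.K.Grp ≤ 336 :=
  Cfsg.Agent.Lib.Helper35Hec2.ok.chain_base rfl

def i1 : Cfsg.Agent.Lib.Helper35Hec2.Gen → Cfsg.Agent.Lib.Helper35Hec1.Gen
  | .a => .a
  | .d => .d
  | .e => .e
  | .f => .f
  | .g => .g

theorem hmem1 : ∀ e ∈ Cfsg.Agent.Lib.Helper35Hec2.K.relExps, e.map i1 ∈ Cfsg.Agent.Lib.Helper35Hec1.K.relExps := by decide +kernel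

theorem ub1 : Finite Cfsg.Agent.Lib.Helper35Hec1.K.Grp ∧ Nat.card Cfsg.Agent.Lib.Helper35Hec1.K.Grp ≤ 240 * 336 :=
  Cfsg.Agent.Lib.Helper35Hec1.ok.chain_step Cfsg.Agent.Lib.Helper35Hec2.ok i1 (fun e he => Cfsg.Agent.Lib.Helper35Hec1.ok.rel_one (hmem1 e he))
    (hsub_of_list i1 _ [(.of .a), (.of .d), (.of .e), (.of .f), (.of .g)] (by decide +kernel)) 336 ub2

def i0 : Cfsg.Agent.Lib.Helper35Hec1.Gen → Cfsg.Spor.He.Gen
  | .a => .a
  | .c => .c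
  | .d => .d
  | .e => .e
  | .f => .f
  | .g => .g

theorem hmem0 : ∀ e ∈ Cfsg.Agent.Lib.Helper35Hec1.K.relExps, e.map i0 ∈ Cfsg.Agent.Lib.Helper35HeB.K.relExps ∨ e.map i0 ∈ provenL := by decide +kernel

theorem ub0 : Finite Cfsg.Agent.Lib.Helper35HeB.K.Grp ∧ Nat.card Cfsg.Agent.Lib.Helper35HeB.K.Grp ≤ 49980 * 80640 :=
  Cfsg.Agent.Lib.Helper35HeB.ok.chain_step Cfsg.Agent.Lib.Helper35Hec1.ok i0 (fun e he => (hmem0 e he).elim (fun h => Cfsg.Agent.Lib.Helper35HeB.ok.rel_one h) (fun h => hproven _ h))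
    (hsub_of_list i0 _ [(.of .a), (.of .c), (.of .d), (.of .e), (.of .f), (.of .g)] (by decide +kernel)) 80640 ub1

end Cfsg.Agent.Lib.Helper35HeUb
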