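import Cfsg.Agent.Lib.Helper35Ord4

set_option autoImplicit false

namespace Cfsg.Agent.Lib.Helper35TC

/-! ## Homomorphisms out of certified presented groups, isomorphism lemmas -/

def WExp.bind {α β : Type} (g : β → WExp α) : WExp β → WExp α
  | .of a => g a
  | .mul x y => .mul (x.bind g) (y.bind g)
  | .inv x => .inv (x.bind g)
  | .pow x n => .pow (x.bind g) n

/-- evaluate a word in a group -/
def WExp.evalIn {α : Type} {T : Type*} [Group T] (f : α → T) : WExp α → T
  | .of a => f a
  | .mul x y => x.evalIn f * y.evalIn f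
  | .inv x => (x.evalIn f)⁻¹
  | .pow x n => (x.evalIn f) ^ n

theorem WExp.lift_eval {α : Type} {T : Type*} [Group T] (f : α → T) (e : WExp α) :
    FreeGroup.lift f e.eval = e.evalIn f := by
  induction e with
  | of a => simp [WExp.evalIn, WExp.eval]
  | mul x y hx hy => simp [WExp.evalIn, WExp.eval, hx, hy]
  | inv x hx => simp [WExp.evalIn, WExp.eval, hx]
  | pow x n hx => simp [WExp.evalIn, WExp.eval, hx]

theorem WExp.evalIn_bind {α β : Type} {T : Type*} [Group T] (f : α → T) (g : β → WExp α)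
    (e : WExp β) : (e.bind g).evalIn f = e.evalIn (fun x => (g x).evalIn f) := by
  induction e with
  | of a => simp [WExp.evalIn, WExp.bind]
  | mul x y hx hy => simp [WExp.evalIn, WExp.bind, hx, hy]
  | inv x hx => simp [WExp.evalIn, WExp.bind, hx]
  | pow x n hx => simp [WExp.evalIn, WExp.bind, hx]

theorem WExp.map_evalIn {α : Type} {T T' : Type*} [Group T] [Group T'] (θ : T →* T') (f : α → T)
    (e : WExp α) : θ (e.evalIn f) = e.evalIn (fun x => θ (f x)) := by
  induction e with
  | of a => simp [WExp.evalIn]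
  | mul x y hx hy => simp [WExp.evalIn, hx, hy]
  | inv x hx => simp [WExp.evalIn, hx]
  | pow x n hx => simp [WExp.evalIn, hx]

namespace Pkg
variable {α β : Type} {K : Pkg α} {K' : Pkg β}

theorem mk_eval_eq (K : Pkg α) (e : WExp α) :
    PresentedGroup.mk K.rels e.eval = e.evalIn (fun x => (PresentedGroup.of x : K.Grp)) := by
  rw [← WExp.lift_eval]
  have : (PresentedGroup.mk K.rels : FreeGroup α →* K.Grp) =
      FreeGroup.lift (fun x => (PresentedGroup.of x : K.Grp)) := by
    ext x
    simp [PresentedGroup.of]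
  rw [this]

/-- the homomorphism to an arbitrary group given by images of the generators -/
noncomputable def Ok.homTo (h : K.Ok) {T : Type*} [Group T] (f : α → T)
    (hrel : ∀ e ∈ K.relExps, e.evalIn f = 1) : K.Grp →* T :=
  PresentedGroup.toGroup (f := f) (by
    intro r hr
    obtain ⟨e, he, rfl⟩ := (h.hrels r).mp hr
    rw [WExp.lift_eval]
    exact hrel e he)

theorem Ok.homTo_of (h : K.Ok) {T : Type*} [Group T] (f : α → T)
    (hrel : ∀ e ∈ K.relExps, e.evalIn f = 1) (x : α) :
    h.homTo f hrel (PresentedGroup.of x) = f x :=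
  PresentedGroup.toGroup.of _

theorem Ok.homTo_mk (h : K.Ok) {T : Type*} [Group T] (f : α → T)
    (hrel : ∀ e ∈ K.relExps, e.evalIn f = 1) (e : WExp α) :
    h.homTo f hrel (PresentedGroup.mk K.rels e.eval) = e.evalIn f := by
  rw [mk_eval_eq, WExp.map_evalIn]
  simp only [h.homTo_of]

theorem mk_bind_eq (K : Pkg α) (g : β → WExp α) (e : WExp β) :
    PresentedGroup.mk K.rels (e.bind g).eval =
      e.evalIn (fun x => PresentedGroup.mk K.rels (g x).eval) := by
  rw [mk_eval_eq, WExp.evalIn_bind]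
  simp only [mk_eval_eq]

/-- the homomorphism between certified presented groups given by words -/
noncomputable def Ok.homW (h' : K'.Ok) (K : Pkg α) (g : β → WExp α)
    (hrel : ∀ e ∈ K'.relExps, PresentedGroup.mk K.rels (e.bind g).eval = 1) : K'.Grp →* K.Grp :=
  h'.homTo (fun x => PresentedGroup.mk K.rels (g x).eval) (by
    intro e he
    rw [← mk_bind_eq]
    exact hrel e he)

theorem Ok.homW_of (h' : K'.Ok) (K : Pkg α) (g : β → WExp α)
    (hrel : ∀ e ∈ K'.relExps, PresentedGroup.mk K.rels (e.bind g).eval = 1) (x : β) :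
    h'.homW K g hrel (PresentedGroup.of x) = PresentedGroup.mk K.rels (g x).eval :=
  h'.homTo_of _ _ x

theorem Ok.homW_mk (h' : K'.Ok) (K : Pkg α) (g : β → WExp α)
    (hrel : ∀ e ∈ K'.relExps, PresentedGroup.mk K.rels (e.bind g).eval = 1) (e : WExp β) :
    h'.homW K g hrel (PresentedGroup.mk K'.rels e.eval) =
      PresentedGroup.mk K.rels (e.bind g).eval := by
  rw [mk_bind_eq]
  exact h'.homTo_mk _ _ e

theorem Ok.mk_mem_H (h : K.Ok) (e : WExp α)
    (he : K.P.walkA (e.app K.code K.P.iv) 0 = 0) : PresentedGroup.mk K.rels e.eval ∈ K.H := by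
  rw [h.mem_H_iff]
  apply Fin.ext
  rw [h.phi_mk_apply]
  exact he

theorem Ok.mk_ne_one (h : K.Ok) (e : WExp α) (j : ℕ) (hj : j < K.P.n)
    (he : K.P.walkA (e.app K.code K.P.iv) j ≠ j) : PresentedGroup.mk K.rels e.eval ≠ 1 := by
  intro h1
  have h2 := h.phi_mk_apply e ⟨j, hj⟩
  rw [h1, map_one] at h2
  exact he h2.symm

/-- a homomorphism out of a presented group has range inside `M` if the generators go to `M` -/
theorem range_le_of_gens {T : Type*} [Group T] (φ : K.Grp →* T) (M : Subgroup T)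
    (hall : ∀ a : α, φ (PresentedGroup.of a) ∈ M) : φ.range ≤ M := by
  have h1 : M.comap φ = ⊤ := top_of_gens _ (fun a => hall a)
  rintro _ ⟨x, rfl⟩
  have : x ∈ M.comap φ := by rw [h1]; trivial
  exact this

end Pkg

theorem injective_of_simple {P T : Type*} [Group P] [Group T] [IsSimpleGroup P] (ψ : P →* T)
    (h1 : ∃ x, ψ x ≠ 1) : Function.Injective ψ := by
  rw [← MonoidHom.ker_eq_bot_iff]
  rcases (ψ.normal_ker).eq_bot_or_eq_top with h | h
  · exact h
  · obtain ⟨x, hx⟩ := h1
    exact absurd (by rw [← MonoidHom.mem_ker, h]; trivial) hx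

theorem equiv_of_simple {P T : Type*} [Group P] [Group T] [IsSimpleGroup P] [Finite T] (ψ : P →* T)
    (h1 : ∃ x, ψ x ≠ 1) (hT : Nat.card T ≤ Nat.card P) : Nonempty (P ≃* T) := by
  have hi := injective_of_simple ψ h1
  have : Finite P := Finite.of_injective _ hi
  exact ⟨MulEquiv.ofBijective ψ (hi.bijective_of_nat_card_le hT)⟩

theorem iso_index_two {G P T : Type*} [Group G] [Group P] [Group T] [IsSimpleGroup P] [Finite P]
    (H : Subgroup G) (φ : P →* G) (hφ : φ.range ≤ H) (hφ1 : ∃ x, φ x ≠ 1)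
    (hH : Nat.card H = 2 * Nat.card P) (hPT : Nonempty (P ≃* T)) :
    ∃ N : Subgroup H, N.Normal ∧ N.index = 2 ∧ Nonempty (N ≃* T) := by
  obtain ⟨ePT⟩ := hPT
  have hi := injective_of_simple φ hφ1
  let e1 : P ≃* φ.range := MonoidHom.ofInjective hi
  let e2 : φ.range.subgroupOf H ≃* φ.range := Subgroup.subgroupOfEquivOfLe hφ
  have hidx : (φ.range.subgroupOf H).index = 2 := by
    have h1 := Subgroup.card_mul_index (φ.range.subgroupOf H)
    rw [Nat.card_congr (e2.trans e1.symm).toEquiv, hH, mul_comm] at h1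
    exact Nat.eq_of_mul_eq_mul_right Nat.card_pos h1
  exact ⟨φ.range.subgroupOf H, Subgroup.normal_of_index_eq_two hidx, hidx,
    ⟨(e2.trans e1.symm).trans ePT⟩⟩

end Cfsg.Agent.Lib.Helper35TC
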