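import Cfsg.Agent.Lib.Helper35HeCMain
import Cfsg.Agent.Lib.Helper35HeFin
import Cfsg.Agent.Lib.Helper35Iso

set_option autoImplicit false
set_option maxRecDepth 100000

/-! The centraliser of the involution `e` in the presented Held group. -/

namespace Cfsg.Agent.Lib.Helper35HeZa

open Cfsg.Agent.Lib.Helper35TC Cfsg.Spor

noncomputable abbrev KA := Cfsg.Agent.Lib.Helper35HeA.K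
noncomputable abbrev KC := Cfsg.Agent.Lib.Helper35HeC.K
theorem okC : KC.Ok := Cfsg.Agent.Lib.Helper35HeC.ok
noncomputable abbrev PC := Cfsg.Agent.Lib.Helper35HeC.P

/-- the fixed points of `e` other than the base point, with a path from the base point -/
def fixL : List (ℕ × List ℕ) := [
  (4, [3, 4, 5, 3]),
  (6, [3, 4, 6, 3]),
  (13, [3, 4, 5, 3, 6]),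
  (16, [3, 4, 6, 3, 5]),
  (96, [3, 2, 4, 3, 2, 3]),
  (171, [3, 2, 3, 2, 4, 3]),
  (174, [3, 2, 3, 2, 5, 3]),
  (176, [3, 2, 3, 2, 6, 3]),
  (189, [3, 2, 5, 3, 2, 3]),
  (195, [3, 2, 6, 3, 2, 3]),
  (209, [3, 2, 4, 3, 2, 1, 3]),
  (237, [3, 2, 4, 5, 3, 2, 4, 3]),
  (240, [3, 2, 4, 3, 5, 3, 2, 3]),
  (282, [3, 2, 4, 6, 3, 2, 4, 3]),
  (284, [3, 2, 4, 3, 6, 3, 2, 3]),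
  (340, [3, 2, 3, 2, 1, 4, 3]),
  (343, [3, 2, 3, 2, 1, 5, 3]),
  (345, [3, 2, 3, 2, 1, 6, 3]),
  (347, [3, 2, 3, 2, 5, 3, 6]),
  (349, [3, 2, 3, 2, 6, 3, 5]),
  (369, [3, 2, 5, 3, 2, 1, 3]),
  (371, [3, 2, 5, 3, 2, 3, 6]),
  (377, [3, 2, 6, 3, 2, 1, 3]),
  (379, [3, 2, 6, 3, 2, 3, 5]),
  (403, [3, 2, 4, 3, 2, 1, 3, 2]),
  (406, [3, 2, 3, 4, 3, 2, 5, 3]),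
  (407, [3, 2, 3, 4, 3, 2, 6, 3]),
  (450, [3, 2, 5, 3, 2, 1, 0, 3]),
  (453, [3, 2, 4, 3, 5, 3, 2, 1, 3]),
  (456, [3, 2, 3, 4, 5, 3, 2, 3]),
  (458, [3, 2, 3, 5, 3, 2, 4, 3]),
  (523, [3, 2, 6, 3, 2, 1, 0, 3]),
  (525, [3, 2, 4, 3, 6, 3, 2, 1, 3]),
  (526, [3, 2, 3, 4, 6, 3, 2, 3]),
  (528, [3, 2, 3, 6, 3, 2, 4, 3]),
  (634, [3, 2, 3, 2, 1, 0, 5, 3]),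
  (635, [3, 2, 3, 2, 1, 0, 6, 3]),
  (636, [3, 2, 3, 2, 1, 4, 3, 2]),
  (637, [3, 2, 3, 2, 1, 5, 3, 2]),
  (638, [3, 2, 3, 2, 1, 5, 3, 6]),
  (640, [3, 2, 3, 2, 1, 6, 3, 2]),
  (641, [3, 2, 3, 2, 1, 6, 3, 5]),
  (661, [3, 2, 5, 3, 2, 1, 3, 2]),
  (662, [3, 2, 5, 3, 2, 1, 3, 6]),
  (669, [3, 2, 6, 3, 2, 1, 3, 2]),
  (670, [3, 2, 6, 3, 2, 1, 3, 5]),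
  (722, [3, 2, 3, 4, 3, 2, 5, 3, 6]),
  (723, [3, 2, 3, 4, 3, 2, 6, 3, 5]),
  (795, [3, 2, 3, 5, 3, 2, 1, 4, 3]),
  (797, [3, 2, 5, 3, 2, 1, 0, 3, 2]),
  (798, [3, 2, 3, 4, 5, 3, 2, 1, 3]),
  (800, [3, 2, 4, 3, 5, 3, 2, 1, 3, 2]),
  (894, [3, 2, 3, 6, 3, 2, 1, 4, 3]),
  (895, [3, 2, 6, 3, 2, 1, 0, 3, 2]),
  (896, [3, 2, 3, 4, 6, 3, 2, 1, 3]),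
  (898, [3, 2, 4, 3, 6, 3, 2, 1, 3, 2]),
  (1103, [3, 2, 3, 2, 1, 0, 5, 3, 2]),
  (1104, [3, 2, 3, 2, 1, 0, 5, 3, 6]),
  (1105, [3, 2, 3, 2, 1, 0, 6, 3, 2]),
  (1106, [3, 2, 3, 2, 1, 0, 6, 3, 5]),
  (1109, [3, 2, 3, 2, 1, 5, 3, 2, 6]),
  (1113, [3, 2, 3, 2, 1, 6, 3, 2, 5]),
  (1121, [3, 2, 5, 3, 2, 1, 3, 2, 6]),
  (1126, [3, 2, 6, 3, 2, 1, 3, 2, 5]),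
  (1369, [3, 2, 3, 5, 3, 2, 1, 4, 3, 2]),
  (1373, [3, 2, 3, 4, 5, 3, 2, 1, 3, 2]),
  (1535, [3, 2, 3, 6, 3, 2, 1, 4, 3, 2]),
  (1537, [3, 2, 3, 4, 6, 3, 2, 1, 3, 2]),
  (1959, [3, 2, 3, 2, 1, 0, 5, 3, 2, 6]),
  (1961, [3, 2, 3, 2, 1, 0, 6, 3, 2, 5]),
  (3460, [3, 2, 1, 5, 3, 2, 1, 3, 2, 5, 3]),
  (3582, [3, 2, 1, 6, 3, 2, 1, 3, 2, 6, 3]),
  (4200, [3, 2, 4, 3, 2, 1, 3, 2, 3, 4, 5, 3]),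
  (4201, [3, 2, 4, 3, 2, 1, 3, 2, 3, 4, 6, 3]),
  (4257, [3, 2, 1, 5, 3, 2, 1, 3, 2, 5, 3, 6]),
  (4293, [3, 2, 1, 5, 3, 2, 1, 0, 3, 2, 5, 3]),
  (4856, [3, 6, 5, 3, 2, 1, 3, 2, 3, 2, 5, 3]),
  (4987, [3, 2, 1, 6, 3, 2, 1, 3, 2, 6, 3, 5]),
  (5022, [3, 2, 1, 6, 3, 2, 1, 0, 3, 2, 6, 3]),
  (5498, [3, 5, 6, 3, 2, 1, 3, 2, 3, 2, 6, 3]),
  (6834, [3, 2, 1, 5, 3, 2, 1, 3, 2, 1, 5, 3]),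
  (6842, [3, 2, 1, 5, 3, 2, 1, 3, 2, 3, 5, 3]),
  (6846, [3, 2, 1, 5, 3, 2, 1, 3, 2, 5, 3, 2]),
  (7072, [3, 2, 1, 6, 3, 2, 1, 3, 2, 1, 6, 3]),
  (7081, [3, 2, 1, 6, 3, 2, 1, 3, 2, 3, 6, 3]),
  (7084, [3, 2, 1, 6, 3, 2, 1, 3, 2, 6, 3, 2]),
  (7314, [3, 2, 3, 2, 1, 4, 3, 2, 3, 4, 5, 3]),
  (7315, [3, 2, 3, 2, 1, 4, 3, 2, 3, 4, 6, 3]),
  (7325, [3, 2, 3, 2, 1, 5, 3, 2, 3, 4, 5, 3]),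
  (7348, [3, 2, 3, 2, 1, 6, 3, 2, 3, 4, 6, 3]),
  (7376, [3, 2, 5, 3, 2, 1, 3, 2, 3, 4, 5, 3]),
  (7378, [3, 2, 5, 3, 2, 1, 3, 2, 3, 5, 6, 3]),
  (7412, [3, 2, 6, 3, 2, 1, 3, 2, 3, 4, 6, 3]),
  (7415, [3, 2, 6, 3, 2, 1, 3, 2, 3, 6, 5, 3]),
  (8274, [3, 2, 4, 3, 2, 1, 3, 2, 3, 4, 5, 3, 2]),
  (8275, [3, 2, 4, 3, 2, 1, 3, 2, 3, 4, 5, 3, 6]),
  (8276, [3, 2, 4, 3, 2, 1, 3, 2, 3, 4, 6, 3, 2]),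
  (8277, [3, 2, 4, 3, 2, 1, 3, 2, 3, 4, 6, 3, 5]),
  (8302, [3, 2, 1, 5, 3, 2, 1, 0, 3, 2, 5, 3, 6]),
  (8363, [3, 2, 1, 5, 3, 2, 1, 3, 2, 1, 5, 3, 6]),
  (8377, [3, 2, 1, 5, 3, 2, 1, 3, 2, 3, 5, 3, 6]),
  (8380, [3, 2, 1, 5, 3, 2, 1, 3, 2, 5, 3, 2, 6]),
  (8446, [3, 2, 1, 5, 3, 2, 1, 0, 3, 2, 1, 5, 3]),
  (8449, [3, 2, 1, 5, 3, 2, 1, 0, 3, 2, 3, 5, 3]),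
  (8452, [3, 2, 1, 5, 3, 2, 1, 0, 3, 2, 5, 3, 2]),
  (9472, [3, 2, 5, 3, 2, 1, 0, 3, 2, 3, 4, 5, 3]),
  (9474, [3, 2, 5, 3, 2, 1, 0, 3, 2, 3, 5, 6, 3]),
  (9506, [3, 2, 4, 3, 5, 3, 2, 1, 3, 2, 3, 4, 5, 3]),
  (9577, [3, 2, 1, 3, 6, 3, 2, 1, 3, 5, 3, 2, 3]),
  (9583, [3, 6, 5, 3, 2, 1, 3, 2, 3, 2, 5, 3, 2]),
  (9584, [3, 6, 5, 3, 2, 1, 3, 2, 3, 2, 5, 3, 6]),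
  (9733, [3, 2, 1, 6, 3, 2, 1, 0, 3, 2, 6, 3, 5]),
  (9793, [3, 2, 1, 6, 3, 2, 1, 3, 2, 1, 6, 3, 5]),
  (9807, [3, 2, 1, 6, 3, 2, 1, 3, 2, 3, 6, 3, 5]),
  (9809, [3, 2, 1, 6, 3, 2, 1, 3, 2, 6, 3, 2, 5]),
  (9874, [3, 2, 1, 6, 3, 2, 1, 0, 3, 2, 1, 6, 3]),
  (9878, [3, 2, 1, 6, 3, 2, 1, 0, 3, 2, 3, 6, 3]),
  (9880, [3, 2, 1, 6, 3, 2, 1, 0, 3, 2, 6, 3, 2]),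
  (10733, [3, 2, 6, 3, 2, 1, 0, 3, 2, 3, 4, 6, 3]),
  (10735, [3, 2, 6, 3, 2, 1, 0, 3, 2, 3, 6, 5, 3]),
  (10761, [3, 2, 4, 3, 6, 3, 2, 1, 3, 2, 3, 4, 6, 3]),
  (10801, [3, 2, 1, 3, 5, 3, 2, 1, 3, 6, 3, 2, 3]),
  (10805, [3, 5, 6, 3, 2, 1, 3, 2, 3, 2, 6, 3, 2]),
  (10806, [3, 5, 6, 3, 2, 1, 3, 2, 3, 2, 6, 3, 5]),
  (13416, [3, 2, 1, 5, 3, 2, 1, 3, 2, 1, 0, 5, 3]),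
  (13425, [3, 2, 1, 5, 3, 2, 1, 3, 2, 1, 3, 5, 3]),
  (13430, [3, 2, 1, 5, 3, 2, 1, 3, 2, 1, 5, 3, 2]),
  (13442, [3, 2, 1, 5, 3, 2, 1, 3, 2, 3, 5, 3, 2]),
  (13443, [3, 2, 1, 5, 3, 2, 1, 3, 2, 5, 3, 2, 1]),
  (13857, [3, 2, 1, 6, 3, 2, 1, 3, 2, 1, 0, 6, 3]),
  (13867, [3, 2, 1, 6, 3, 2, 1, 3, 2, 1, 3, 6, 3]),
  (13871, [3, 2, 1, 6, 3, 2, 1, 3, 2, 1, 6, 3, 2]),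
  (13883, [3, 2, 1, 6, 3, 2, 1, 3, 2, 3, 6, 3, 2]),
  (13884, [3, 2, 1, 6, 3, 2, 1, 3, 2, 6, 3, 2, 1]),
  (14276, [3, 2, 3, 2, 1, 0, 5, 3, 2, 3, 4, 5, 3]),
  (14289, [3, 2, 3, 2, 1, 0, 6, 3, 2, 3, 4, 6, 3]),
  (14303, [3, 2, 3, 2, 1, 4, 3, 2, 3, 4, 5, 3, 2]),
  (14304, [3, 2, 3, 2, 1, 4, 3, 2, 3, 4, 5, 3, 6]),
  (14305, [3, 2, 3, 2, 1, 4, 3, 2, 3, 4, 6, 3, 2]),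
  (14306, [3, 2, 3, 2, 1, 4, 3, 2, 3, 4, 6, 3, 5]),
  (14329, [3, 2, 3, 2, 1, 5, 3, 2, 3, 4, 5, 3, 2]),
  (14330, [3, 2, 3, 2, 1, 5, 3, 2, 3, 4, 5, 3, 6]),
  (14351, [3, 2, 3, 2, 1, 5, 3, 2, 6, 3, 4, 5, 3]),
  (14375, [3, 2, 3, 2, 1, 6, 3, 2, 3, 4, 6, 3, 2]),
  (14376, [3, 2, 3, 2, 1, 6, 3, 2, 3, 4, 6, 3, 5]),
  (14394, [3, 2, 3, 2, 1, 6, 3, 2, 5, 3, 4, 6, 3]),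
  (14428, [3, 2, 5, 3, 2, 1, 3, 2, 3, 4, 5, 3, 2]),
  (14432, [3, 2, 5, 3, 2, 1, 3, 2, 3, 5, 6, 3, 2]),
  (14433, [3, 2, 5, 3, 2, 1, 3, 2, 3, 5, 6, 3, 5]),
  (14496, [3, 2, 6, 3, 2, 1, 3, 2, 3, 4, 6, 3, 2]),
  (14497, [3, 2, 6, 3, 2, 1, 3, 2, 3, 6, 5, 3, 2]),
  (14498, [3, 2, 6, 3, 2, 1, 3, 2, 3, 6, 5, 3, 6]),
  (16081, [3, 2, 4, 3, 2, 1, 3, 2, 3, 4, 5, 3, 2, 1]),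
  (16083, [3, 2, 4, 3, 2, 1, 3, 2, 3, 4, 5, 3, 2, 6]),
  (16084, [3, 2, 4, 3, 2, 1, 3, 2, 3, 4, 6, 3, 2, 1]),
  (16086, [3, 2, 4, 3, 2, 1, 3, 2, 3, 4, 6, 3, 2, 5]),
  (16119, [3, 2, 1, 5, 3, 2, 1, 0, 3, 2, 3, 5, 3, 6]),
  (16122, [3, 2, 1, 5, 3, 2, 1, 0, 3, 2, 5, 3, 2, 6]),
  (16218, [3, 2, 1, 5, 3, 2, 1, 3, 2, 1, 3, 5, 3, 6]),
  (16221, [3, 2, 1, 5, 3, 2, 1, 3, 2, 1, 5, 3, 2, 6]),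
  (16242, [3, 2, 1, 5, 3, 2, 1, 3, 2, 3, 5, 3, 2, 6]),
  (16244, [3, 2, 1, 5, 3, 2, 1, 3, 2, 5, 3, 2, 1, 0]),
  (16343, [3, 2, 1, 5, 3, 2, 1, 0, 3, 2, 1, 3, 5, 3]),
  (16346, [3, 2, 1, 5, 3, 2, 1, 0, 3, 2, 1, 5, 3, 2]),
  (16348, [3, 2, 1, 5, 3, 2, 1, 0, 3, 2, 3, 5, 3, 2]),
  (16350, [3, 2, 1, 5, 3, 2, 1, 0, 3, 2, 5, 3, 2, 1]),
  (18131, [3, 2, 3, 5, 3, 2, 1, 4, 3, 2, 3, 4, 5, 3]),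
  (18150, [3, 2, 5, 3, 2, 1, 0, 3, 2, 3, 4, 5, 3, 2]),
  (18154, [3, 2, 5, 3, 2, 1, 0, 3, 2, 3, 5, 6, 3, 2]),
  (18155, [3, 2, 5, 3, 2, 1, 0, 3, 2, 3, 5, 6, 3, 5]),
  (18200, [3, 2, 4, 3, 5, 3, 2, 1, 3, 2, 3, 4, 5, 3, 2]),
  (18201, [3, 2, 4, 3, 5, 3, 2, 1, 3, 2, 3, 4, 5, 3, 6]),
  (18310, [3, 2, 1, 3, 6, 3, 2, 1, 3, 5, 3, 2, 3, 2]),
  (18311, [3, 2, 1, 3, 6, 3, 2, 1, 3, 5, 3, 2, 3, 6]),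
  (18321, [3, 6, 5, 3, 2, 1, 3, 2, 3, 2, 5, 3, 2, 1]),
  (18323, [3, 6, 5, 3, 2, 1, 3, 2, 3, 2, 5, 3, 2, 6]),
  (18504, [3, 2, 6, 3, 2, 1, 0, 3, 2, 3, 6, 5, 3, 2, 6]),
  (18554, [3, 2, 1, 6, 3, 2, 1, 0, 3, 2, 3, 6, 3, 5]),
  (18556, [3, 2, 1, 6, 3, 2, 1, 0, 3, 2, 6, 3, 2, 5]),
  (18647, [3, 2, 1, 6, 3, 2, 1, 3, 2, 1, 3, 6, 3, 5]),
  (18649, [3, 2, 1, 6, 3, 2, 1, 3, 2, 1, 6, 3, 2, 5]),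
  (18667, [3, 2, 1, 6, 3, 2, 1, 3, 2, 3, 6, 3, 2, 5]),
  (18668, [3, 2, 1, 6, 3, 2, 1, 3, 2, 6, 3, 2, 1, 0]),
  (18759, [3, 2, 1, 6, 3, 2, 1, 0, 3, 2, 1, 3, 6, 3]),
  (18761, [3, 2, 1, 6, 3, 2, 1, 0, 3, 2, 1, 6, 3, 2]),
  (18762, [3, 2, 1, 6, 3, 2, 1, 0, 3, 2, 3, 6, 3, 2]),
  (18763, [3, 2, 1, 6, 3, 2, 1, 0, 3, 2, 6, 3, 2, 1]),
  (20212, [3, 2, 3, 6, 3, 2, 1, 4, 3, 2, 3, 4, 6, 3]),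
  (20232, [3, 2, 6, 3, 2, 1, 0, 3, 2, 3, 4, 6, 3, 2]),
  (20233, [3, 2, 6, 3, 2, 1, 0, 3, 2, 3, 6, 5, 3, 2]),
  (20234, [3, 2, 6, 3, 2, 1, 0, 3, 2, 3, 6, 5, 3, 6]),
  (20272, [3, 2, 4, 3, 6, 3, 2, 1, 3, 2, 3, 4, 6, 3, 2]),
  (20273, [3, 2, 4, 3, 6, 3, 2, 1, 3, 2, 3, 4, 6, 3, 5]),
  (20336, [3, 2, 1, 3, 5, 3, 2, 1, 3, 6, 3, 2, 3, 2]),
  (20337, [3, 2, 1, 3, 5, 3, 2, 1, 3, 6, 3, 2, 3, 5]),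
  (20343, [3, 5, 6, 3, 2, 1, 3, 2, 3, 2, 6, 3, 2, 1]),
  (20345, [3, 5, 6, 3, 2, 1, 3, 2, 3, 2, 6, 3, 2, 5]),
  (20473, [3, 2, 5, 3, 2, 1, 0, 3, 2, 3, 5, 6, 3, 2, 5]),
  (25067, [3, 2, 1, 5, 3, 2, 1, 3, 2, 1, 0, 3, 5, 3]),
  (25070, [3, 2, 1, 5, 3, 2, 1, 3, 2, 1, 0, 5, 3, 2]),
  (25087, [3, 2, 1, 5, 3, 2, 1, 3, 2, 1, 3, 5, 3, 2]),
  (25090, [3, 2, 1, 5, 3, 2, 1, 3, 2, 1, 5, 3, 2, 1]),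
  (25110, [3, 2, 1, 5, 3, 2, 1, 3, 2, 3, 5, 3, 2, 1]),
  (25756, [3, 2, 1, 6, 3, 2, 1, 3, 2, 1, 0, 3, 6, 3]),
  (25758, [3, 2, 1, 6, 3, 2, 1, 3, 2, 1, 0, 6, 3, 2]),
  (25775, [3, 2, 1, 6, 3, 2, 1, 3, 2, 1, 3, 6, 3, 2]),
  (25778, [3, 2, 1, 6, 3, 2, 1, 3, 2, 1, 6, 3, 2, 1]),
  (25798, [3, 2, 1, 6, 3, 2, 1, 3, 2, 3, 6, 3, 2, 1]),
  (26417, [3, 2, 3, 2, 1, 0, 5, 3, 2, 3, 4, 5, 3, 2]),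
  (26418, [3, 2, 3, 2, 1, 0, 5, 3, 2, 3, 4, 5, 3, 6]),
  (26430, [3, 2, 3, 2, 1, 0, 5, 3, 2, 6, 3, 4, 5, 3]),
  (26437, [3, 2, 3, 2, 1, 0, 6, 3, 2, 3, 4, 6, 3, 2]),
  (26438, [3, 2, 3, 2, 1, 0, 6, 3, 2, 3, 4, 6, 3, 5]),
  (26447, [3, 2, 3, 2, 1, 0, 6, 3, 2, 5, 3, 4, 6, 3]),
  (26455, [3, 2, 3, 2, 1, 4, 3, 2, 3, 4, 5, 3, 2, 1]),
  (26457, [3, 2, 3, 2, 1, 4, 3, 2, 3, 4, 5, 3, 2, 6]),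
  (26458, [3, 2, 3, 2, 1, 4, 3, 2, 3, 4, 6, 3, 2, 1]),
  (26460, [3, 2, 3, 2, 1, 4, 3, 2, 3, 4, 6, 3, 2, 5]),
  (26493, [3, 2, 3, 2, 1, 5, 3, 2, 3, 4, 5, 3, 2, 1]),
  (26495, [3, 2, 3, 2, 1, 5, 3, 2, 3, 4, 5, 3, 2, 6]),
  (26530, [3, 2, 3, 2, 1, 5, 3, 2, 6, 3, 4, 5, 3, 2]),
  (26531, [3, 2, 3, 2, 1, 5, 3, 2, 6, 3, 4, 5, 3, 6]),
  (26563, [3, 2, 3, 2, 1, 6, 3, 2, 3, 4, 6, 3, 2, 1]),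
  (26565, [3, 2, 3, 2, 1, 6, 3, 2, 3, 4, 6, 3, 2, 5]),
  (26595, [3, 2, 3, 2, 1, 6, 3, 2, 5, 3, 4, 6, 3, 2]),
  (26596, [3, 2, 3, 2, 1, 6, 3, 2, 5, 3, 4, 6, 3, 5]),
  (26653, [3, 2, 5, 3, 2, 1, 3, 2, 3, 4, 5, 3, 2, 1]),
  (26660, [3, 2, 5, 3, 2, 1, 3, 2, 3, 5, 6, 3, 2, 1]),
  (26662, [3, 2, 5, 3, 2, 1, 3, 2, 3, 5, 6, 3, 2, 5]),
  (26768, [3, 2, 6, 3, 2, 1, 3, 2, 3, 4, 6, 3, 2, 1]),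
  (26770, [3, 2, 6, 3, 2, 1, 3, 2, 3, 6, 5, 3, 2, 1]),
  (26772, [3, 2, 6, 3, 2, 1, 3, 2, 3, 6, 5, 3, 2, 6]),
  (29543, [3, 2, 4, 3, 2, 1, 3, 2, 3, 4, 5, 3, 2, 1, 6]),
  (29550, [3, 2, 4, 3, 2, 1, 3, 2, 3, 4, 6, 3, 2, 1, 5]),
  (29602, [3, 2, 1, 5, 3, 2, 1, 0, 3, 2, 3, 5, 3, 2, 6]),
  (29604, [3, 2, 1, 5, 3, 2, 1, 0, 3, 2, 5, 3, 2, 1, 0]),
  (29739, [3, 2, 1, 5, 3, 2, 1, 3, 2, 1, 3, 5, 3, 2, 6]),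
  (29741, [3, 2, 1, 5, 3, 2, 1, 3, 2, 1, 5, 3, 2, 1, 0]),
  (29772, [3, 2, 1, 5, 3, 2, 1, 3, 2, 3, 5, 3, 2, 1, 0]),
  (29921, [3, 2, 1, 5, 3, 2, 1, 0, 3, 2, 1, 3, 5, 3, 2]),
  (29923, [3, 2, 1, 5, 3, 2, 1, 0, 3, 2, 1, 5, 3, 2, 1]),
  (29925, [3, 2, 1, 5, 3, 2, 1, 0, 3, 2, 3, 5, 3, 2, 1]),
  (32883, [3, 2, 3, 5, 3, 2, 1, 4, 3, 2, 3, 4, 5, 3, 2]),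
  (32884, [3, 2, 1, 3, 4, 5, 3, 2, 1, 3, 4, 5, 3, 2, 3]),
  (32912, [3, 2, 5, 3, 2, 1, 0, 3, 2, 3, 4, 5, 3, 2, 1]),
  (32919, [3, 2, 5, 3, 2, 1, 0, 3, 2, 3, 5, 6, 3, 2, 1]),
  (32972, [3, 2, 4, 3, 5, 3, 2, 1, 3, 2, 3, 4, 5, 3, 2, 1]),
  (32974, [3, 2, 4, 3, 5, 3, 2, 1, 3, 2, 3, 4, 5, 3, 2, 6]),
  (33116, [3, 2, 1, 3, 6, 3, 2, 1, 3, 5, 3, 2, 3, 2, 1]),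
  (33118, [3, 2, 1, 3, 6, 3, 2, 1, 3, 5, 3, 2, 3, 2, 6]),
  (33130, [3, 6, 5, 3, 2, 1, 3, 2, 3, 2, 5, 3, 2, 1, 0]),
  (33132, [3, 6, 5, 3, 2, 1, 3, 2, 3, 2, 5, 3, 2, 1, 6]),
  (33385, [3, 2, 6, 3, 2, 1, 0, 3, 2, 3, 6, 5, 3, 2, 1, 6]),
  (33455, [3, 2, 1, 6, 3, 2, 1, 0, 3, 2, 3, 6, 3, 2, 5]),
  (33456, [3, 2, 1, 6, 3, 2, 1, 0, 3, 2, 6, 3, 2, 1, 0]),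
  (33576, [3, 2, 1, 6, 3, 2, 1, 3, 2, 1, 3, 6, 3, 2, 5]),
  (33577, [3, 2, 1, 6, 3, 2, 1, 3, 2, 1, 6, 3, 2, 1, 0]),
  (33602, [3, 2, 1, 6, 3, 2, 1, 3, 2, 3, 6, 3, 2, 1, 0]),
  (33736, [3, 2, 1, 6, 3, 2, 1, 0, 3, 2, 1, 3, 6, 3, 2]),
  (33737, [3, 2, 1, 6, 3, 2, 1, 0, 3, 2, 1, 6, 3, 2, 1]),
  (33739, [3, 2, 1, 6, 3, 2, 1, 0, 3, 2, 3, 6, 3, 2, 1]),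
  (36028, [3, 2, 3, 6, 3, 2, 1, 4, 3, 2, 3, 4, 6, 3, 2]),
  (36029, [3, 2, 1, 3, 4, 6, 3, 2, 1, 3, 4, 6, 3, 2, 3]),
  (36058, [3, 2, 6, 3, 2, 1, 0, 3, 2, 3, 4, 6, 3, 2, 1]),
  (36060, [3, 2, 6, 3, 2, 1, 0, 3, 2, 3, 6, 5, 3, 2, 1]),
  (36105, [3, 2, 4, 3, 6, 3, 2, 1, 3, 2, 3, 4, 6, 3, 2, 1]),
  (36107, [3, 2, 4, 3, 6, 3, 2, 1, 3, 2, 3, 4, 6, 3, 2, 5]),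
  (36188, [3, 2, 1, 3, 5, 3, 2, 1, 3, 6, 3, 2, 3, 2, 1]),
  (36190, [3, 2, 1, 3, 5, 3, 2, 1, 3, 6, 3, 2, 3, 2, 5]),
  (36198, [3, 5, 6, 3, 2, 1, 3, 2, 3, 2, 6, 3, 2, 1, 0]),
  (36200, [3, 5, 6, 3, 2, 1, 3, 2, 3, 2, 6, 3, 2, 1, 5]),
  (36365, [3, 2, 5, 3, 2, 1, 0, 3, 2, 3, 5, 6, 3, 2, 1, 5]),
  (43834, [3, 2, 1, 5, 3, 2, 1, 3, 2, 1, 0, 3, 5, 3, 2]),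
  (43835, [3, 2, 1, 5, 3, 2, 1, 3, 2, 1, 0, 5, 3, 2, 1]),
  (43866, [3, 2, 1, 5, 3, 2, 1, 3, 2, 1, 3, 5, 3, 2, 1]),
  (44778, [3, 2, 1, 6, 3, 2, 1, 3, 2, 1, 0, 3, 6, 3, 2]),
  (44779, [3, 2, 1, 6, 3, 2, 1, 3, 2, 1, 0, 6, 3, 2, 1]),
  (44810, [3, 2, 1, 6, 3, 2, 1, 3, 2, 1, 3, 6, 3, 2, 1]),
  (45670, [3, 2, 3, 2, 1, 0, 5, 3, 2, 3, 4, 5, 3, 2, 1]),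
  (45672, [3, 2, 3, 2, 1, 0, 5, 3, 2, 3, 4, 5, 3, 2, 6]),
  (45687, [3, 2, 3, 2, 1, 0, 5, 3, 2, 6, 3, 4, 5, 3, 2]),
  (45688, [3, 2, 3, 2, 1, 0, 5, 3, 2, 6, 3, 4, 5, 3, 6]),
  (45697, [3, 2, 3, 2, 1, 0, 6, 3, 2, 3, 4, 6, 3, 2, 1]),
  (45699, [3, 2, 3, 2, 1, 0, 6, 3, 2, 3, 4, 6, 3, 2, 5]),
  (45709, [3, 2, 3, 2, 1, 0, 6, 3, 2, 5, 3, 4, 6, 3, 2]),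
  (45710, [3, 2, 3, 2, 1, 0, 6, 3, 2, 5, 3, 4, 6, 3, 5]),
  (45721, [3, 2, 3, 2, 1, 4, 3, 2, 3, 4, 5, 3, 2, 1, 6]),
  (45728, [3, 2, 3, 2, 1, 4, 3, 2, 3, 4, 6, 3, 2, 1, 5]),
  (45780, [3, 2, 3, 2, 1, 5, 3, 2, 3, 4, 5, 3, 2, 1, 6]),
  (45828, [3, 2, 3, 2, 1, 5, 3, 2, 6, 3, 4, 5, 3, 2, 1]),
  (45830, [3, 2, 3, 2, 1, 5, 3, 2, 6, 3, 4, 5, 3, 2, 6]),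
  (45873, [3, 2, 3, 2, 1, 6, 3, 2, 3, 4, 6, 3, 2, 1, 5]),
  (45911, [3, 2, 3, 2, 1, 6, 3, 2, 5, 3, 4, 6, 3, 2, 1]),
  (45913, [3, 2, 3, 2, 1, 6, 3, 2, 5, 3, 4, 6, 3, 2, 5]),
  (46000, [3, 2, 5, 3, 2, 1, 3, 2, 3, 5, 6, 3, 2, 1, 5]),
  (46146, [3, 2, 6, 3, 2, 1, 3, 2, 3, 6, 5, 3, 2, 1, 6]),
  (50382, [3, 2, 1, 5, 3, 2, 1, 0, 3, 2, 3, 5, 3, 2, 1, 0]),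
  (50505, [3, 2, 1, 0, 5, 3, 2, 1, 3, 2, 1, 3, 2, 3, 4, 5, 3]),
  (50542, [3, 2, 1, 5, 3, 2, 1, 3, 2, 1, 3, 5, 3, 2, 1, 0]),
  (50763, [3, 2, 1, 5, 3, 2, 1, 0, 3, 2, 1, 3, 5, 3, 2, 1]),
  (54485, [3, 2, 3, 5, 3, 2, 1, 4, 3, 2, 3, 4, 5, 3, 2, 1]),
  (54487, [3, 2, 1, 3, 4, 5, 3, 2, 1, 3, 4, 5, 3, 2, 3, 2]),
  (54585, [3, 2, 4, 3, 5, 3, 2, 1, 3, 2, 3, 4, 5, 3, 2, 1, 6]),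
  (55124, [3, 2, 1, 6, 3, 2, 1, 0, 3, 2, 3, 6, 3, 2, 1, 0]),
  (55224, [3, 2, 1, 0, 6, 3, 2, 1, 3, 2, 1, 3, 2, 3, 4, 6, 3]),
  (55256, [3, 2, 1, 6, 3, 2, 1, 3, 2, 1, 3, 6, 3, 2, 1, 0]),
  (55436, [3, 2, 1, 6, 3, 2, 1, 0, 3, 2, 1, 3, 6, 3, 2, 1]),
  (58179, [3, 2, 3, 6, 3, 2, 1, 4, 3, 2, 3, 4, 6, 3, 2, 1]),
  (58181, [3, 2, 1, 3, 4, 6, 3, 2, 1, 3, 4, 6, 3, 2, 3, 2]),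
  (58257, [3, 2, 4, 3, 6, 3, 2, 1, 3, 2, 3, 4, 6, 3, 2, 1, 5]),
  (59926, [3, 2, 1, 3, 2, 1, 3, 2, 3, 5, 3, 2, 3, 2, 5, 3]),
  (59975, [3, 2, 1, 3, 2, 1, 3, 2, 3, 6, 3, 2, 3, 2, 6, 3]),
  (68893, [3, 2, 1, 5, 3, 2, 1, 3, 2, 1, 0, 3, 5, 3, 2, 1]),
  (69907, [3, 2, 1, 6, 3, 2, 1, 3, 2, 1, 0, 3, 6, 3, 2, 1]),
  (70878, [3, 2, 3, 2, 1, 0, 5, 3, 2, 3, 4, 5, 3, 2, 1, 6]),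
  (70890, [3, 2, 3, 2, 1, 0, 5, 3, 2, 6, 3, 4, 5, 3, 2, 1]),
  (70892, [3, 2, 3, 2, 1, 0, 5, 3, 2, 6, 3, 4, 5, 3, 2, 6]),
  (70900, [3, 2, 3, 2, 1, 0, 6, 3, 2, 3, 4, 6, 3, 2, 1, 5]),
  (70908, [3, 2, 3, 2, 1, 0, 6, 3, 2, 5, 3, 4, 6, 3, 2, 1]),
  (70910, [3, 2, 3, 2, 1, 0, 6, 3, 2, 5, 3, 4, 6, 3, 2, 5]),
  (71030, [3, 2, 3, 2, 1, 5, 3, 2, 6, 3, 4, 5, 3, 2, 1, 6]),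
  (71096, [3, 2, 3, 2, 1, 6, 3, 2, 5, 3, 4, 6, 3, 2, 1, 5]),
  (76887, [3, 2, 4, 3, 2, 1, 3, 2, 3, 5, 6, 3, 2, 3, 4, 6, 3]),
  (76914, [3, 2, 4, 3, 2, 1, 3, 2, 3, 6, 5, 3, 2, 3, 4, 5, 3]),
  (76933, [3, 2, 1, 5, 3, 2, 1, 4, 3, 2, 1, 3, 2, 3, 4, 5, 3]),
  (77058, [3, 2, 1, 5, 3, 2, 1, 3, 2, 1, 3, 2, 3, 2, 4, 5, 3]),
  (77072, [3, 2, 1, 3, 2, 1, 3, 2, 3, 4, 6, 3, 2, 5, 3, 2, 3]),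
  (77073, [3, 2, 1, 0, 5, 3, 2, 1, 3, 2, 1, 3, 2, 3, 4, 5, 3, 6]),
  (81510, [3, 2, 1, 3, 4, 5, 3, 2, 1, 3, 4, 5, 3, 2, 3, 2, 1]),
  (82097, [3, 2, 1, 6, 3, 2, 1, 4, 3, 2, 1, 3, 2, 3, 4, 6, 3]),
  (82195, [3, 2, 1, 6, 3, 2, 1, 3, 2, 1, 3, 2, 3, 2, 4, 6, 3]),
  (82204, [3, 2, 1, 3, 2, 1, 3, 2, 3, 4, 5, 3, 2, 6, 3, 2, 3]),
  (82207, [3, 2, 1, 0, 6, 3, 2, 1, 3, 2, 1, 3, 2, 3, 4, 6, 3, 5]),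
  (85589, [3, 2, 1, 3, 4, 6, 3, 2, 1, 3, 4, 6, 3, 2, 3, 2, 1]),
  (86256, [3, 2, 1, 3, 2, 1, 0, 3, 2, 3, 5, 3, 2, 3, 2, 5, 3]),
  (86269, [3, 2, 1, 3, 2, 1, 0, 3, 2, 3, 6, 3, 2, 3, 2, 6, 3]),
  (87947, [3, 2, 1, 3, 2, 1, 3, 2, 3, 5, 3, 2, 3, 2, 1, 5, 3]),
  (87950, [3, 2, 1, 3, 2, 1, 3, 2, 3, 5, 3, 2, 3, 2, 5, 3, 2]),
  (87951, [3, 2, 1, 3, 2, 1, 3, 2, 3, 5, 3, 2, 3, 2, 5, 3, 6]),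
  (87965, [3, 2, 1, 3, 2, 1, 3, 2, 3, 5, 6, 3, 2, 5, 3, 2, 3]),
  (87998, [3, 2, 1, 3, 2, 1, 3, 2, 3, 6, 3, 2, 3, 2, 1, 6, 3]),
  (88000, [3, 2, 1, 3, 2, 1, 3, 2, 3, 6, 3, 2, 3, 2, 6, 3, 2]),
  (88001, [3, 2, 1, 3, 2, 1, 3, 2, 3, 6, 3, 2, 3, 2, 6, 3, 5]),
  (88014, [3, 2, 1, 3, 2, 1, 3, 2, 3, 6, 5, 3, 2, 6, 3, 2, 3]),
  (88747, [3, 2, 1, 3, 2, 1, 3, 5, 3, 6, 3, 2, 4, 3, 2, 5, 3]),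
  (89041, [3, 2, 1, 3, 2, 1, 3, 6, 3, 5, 3, 2, 4, 3, 2, 6, 3]),
  (99318, [3, 2, 1, 5, 3, 2, 1, 3, 2, 1, 4, 3, 2, 3, 4, 5, 3]),
  (100382, [3, 2, 1, 6, 3, 2, 1, 3, 2, 1, 4, 3, 2, 3, 4, 6, 3]),
  (101378, [3, 2, 3, 2, 1, 0, 5, 3, 2, 6, 3, 4, 5, 3, 2, 1, 6]),
  (101389, [3, 2, 3, 2, 1, 0, 6, 3, 2, 5, 3, 4, 6, 3, 2, 1, 5]),
  (101439, [3, 2, 3, 2, 1, 4, 3, 2, 3, 5, 6, 3, 2, 3, 4, 6, 3]),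
  (101450, [3, 2, 3, 2, 1, 4, 3, 2, 3, 6, 5, 3, 2, 3, 4, 5, 3]),
  (102676, [3, 2, 1, 0, 3, 2, 1, 3, 2, 3, 5, 6, 3, 2, 3, 5, 6, 3]),
  (102718, [3, 2, 1, 0, 3, 2, 1, 3, 2, 3, 6, 5, 3, 2, 3, 6, 5, 3]),
  (102812, [3, 2, 1, 0, 3, 2, 1, 3, 2, 5, 3, 2, 3, 2, 5, 3, 2, 3]),
  (102891, [3, 2, 1, 0, 3, 2, 1, 3, 2, 6, 3, 2, 3, 2, 6, 3, 2, 3]),
  (103150, [3, 2, 1, 0, 3, 2, 1, 3, 5, 3, 6, 3, 2, 3, 2, 4, 5, 3]),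
  (103347, [3, 2, 1, 0, 3, 2, 1, 3, 6, 3, 5, 3, 2, 3, 2, 4, 6, 3]),
  (108841, [3, 2, 4, 3, 2, 1, 3, 2, 3, 5, 6, 3, 2, 1, 3, 4, 6, 3]),
  (108845, [3, 2, 4, 3, 2, 1, 3, 2, 3, 5, 6, 3, 2, 3, 4, 3, 6, 3]),
  (108864, [3, 2, 4, 3, 2, 1, 3, 2, 3, 6, 5, 3, 2, 1, 3, 4, 5, 3]),
  (108869, [3, 2, 4, 3, 2, 1, 3, 2, 3, 6, 5, 3, 2, 3, 4, 3, 5, 3]),
  (108996, [3, 2, 1, 3, 2, 1, 0, 3, 2, 3, 4, 6, 3, 2, 5, 3, 2, 3]),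
  (108997, [3, 2, 1, 3, 2, 1, 3, 5, 6, 3, 2, 3, 5, 3, 6, 3, 2, 3]),
  (113960, [3, 2, 1, 3, 2, 1, 6, 5, 3, 6, 5, 3, 2, 4, 3, 2, 6, 3]),
  (115349, [3, 2, 1, 3, 2, 1, 0, 3, 2, 3, 4, 5, 3, 2, 6, 3, 2, 3]),
  (115350, [3, 2, 1, 3, 2, 1, 3, 6, 5, 3, 2, 3, 6, 3, 5, 3, 2, 3]),
  (119300, [3, 2, 1, 3, 2, 1, 5, 6, 3, 5, 6, 3, 2, 4, 3, 2, 5, 3]),
  (120441, [3, 2, 1, 3, 2, 1, 0, 3, 2, 3, 5, 3, 2, 3, 2, 1, 5, 3]),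
  (120442, [3, 2, 1, 3, 2, 1, 0, 3, 2, 3, 5, 3, 2, 3, 2, 5, 3, 2]),
  (120443, [3, 2, 1, 3, 2, 1, 0, 3, 2, 3, 5, 3, 2, 3, 2, 5, 3, 6]),
  (120452, [3, 2, 1, 3, 2, 1, 0, 3, 2, 3, 6, 3, 2, 3, 2, 1, 6, 3]),
  (120453, [3, 2, 1, 3, 2, 1, 0, 3, 2, 3, 6, 3, 2, 3, 2, 6, 3, 2]),
  (120454, [3, 2, 1, 3, 2, 1, 0, 3, 2, 3, 6, 3, 2, 3, 2, 6, 3, 5]),
  (122442, [3, 2, 1, 3, 2, 1, 3, 2, 3, 5, 3, 2, 3, 2, 1, 5, 3, 6]),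
  (122444, [3, 2, 1, 3, 2, 1, 3, 2, 3, 5, 3, 2, 3, 2, 5, 3, 2, 6]),
  (122449, [3, 2, 1, 3, 2, 1, 3, 2, 3, 5, 6, 3, 2, 5, 3, 2, 1, 3]),
  (122475, [3, 2, 1, 3, 2, 1, 3, 2, 3, 6, 3, 2, 3, 2, 1, 6, 3, 5]),
  (122477, [3, 2, 1, 3, 2, 1, 3, 2, 3, 6, 3, 2, 3, 2, 6, 3, 2, 5]),
  (122482, [3, 2, 1, 3, 2, 1, 3, 2, 3, 6, 5, 3, 2, 6, 3, 2, 1, 3]),
  (123239, [3, 2, 1, 3, 2, 1, 3, 5, 3, 6, 3, 2, 4, 3, 2, 1, 5, 3]),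
  (123506, [3, 2, 1, 3, 2, 1, 3, 6, 3, 5, 3, 2, 4, 3, 2, 1, 6, 3]),
  (138459, [3, 2, 3, 2, 1, 4, 3, 2, 3, 5, 6, 3, 2, 1, 3, 4, 6, 3]),
  (138466, [3, 2, 3, 2, 1, 4, 3, 2, 3, 6, 5, 3, 2, 1, 3, 4, 5, 3]),
  (139690, [3, 2, 1, 0, 3, 2, 1, 3, 2, 3, 5, 3, 2, 3, 2, 5, 3, 2, 3]),
  (139703, [3, 2, 1, 0, 3, 2, 1, 3, 2, 3, 5, 6, 3, 2, 1, 3, 5, 6, 3]),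
  (139727, [3, 2, 1, 0, 3, 2, 1, 3, 2, 3, 6, 3, 2, 3, 2, 6, 3, 2, 3]),
  (139740, [3, 2, 1, 0, 3, 2, 1, 3, 2, 3, 6, 5, 3, 2, 1, 3, 6, 5, 3]),
  (139864, [3, 2, 1, 0, 3, 2, 1, 3, 2, 5, 3, 2, 3, 2, 5, 3, 2, 1, 3]),
  (139970, [3, 2, 1, 0, 3, 2, 1, 3, 2, 6, 3, 2, 3, 2, 6, 3, 2, 1, 3]),
  (140210, [3, 2, 1, 0, 3, 2, 1, 3, 5, 3, 6, 3, 2, 3, 2, 1, 4, 5, 3]),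
  (140347, [3, 2, 1, 0, 3, 2, 1, 3, 6, 3, 5, 3, 2, 3, 2, 1, 4, 6, 3]),
  (146028, [3, 2, 1, 3, 2, 1, 3, 6, 3, 5, 3, 2, 4, 3, 2, 1, 6, 3, 2]),
  (146041, [3, 2, 1, 3, 2, 1, 3, 5, 3, 6, 3, 2, 4, 3, 2, 1, 5, 3, 2]),
  (151329, [3, 2, 1, 3, 2, 1, 6, 5, 3, 6, 5, 3, 2, 4, 3, 2, 1, 6, 3]),
  (156279, [3, 2, 1, 3, 2, 1, 5, 6, 3, 5, 6, 3, 2, 4, 3, 2, 1, 5, 3]),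
  (157290, [3, 2, 1, 3, 2, 1, 0, 3, 2, 3, 5, 3, 2, 3, 2, 1, 5, 3, 6]),
  (157291, [3, 2, 1, 3, 2, 1, 0, 3, 2, 3, 5, 3, 2, 3, 2, 5, 3, 2, 6]),
  (157301, [3, 2, 1, 3, 2, 1, 0, 3, 2, 3, 6, 3, 2, 3, 2, 1, 6, 3, 5]),
  (157302, [3, 2, 1, 3, 2, 1, 0, 3, 2, 3, 6, 3, 2, 3, 2, 6, 3, 2, 5]),
  (162709, [3, 2, 1, 3, 2, 3, 2, 5, 3, 2, 1, 0, 6, 3, 2, 1, 3, 2, 3]),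
  (162815, [3, 2, 1, 3, 2, 3, 2, 5, 3, 2, 1, 6, 3, 2, 1, 3, 2, 4, 3]),
  (162816, [3, 2, 1, 3, 2, 3, 2, 5, 3, 2, 1, 6, 3, 2, 1, 3, 2, 5, 3]),
  (162902, [3, 2, 1, 3, 2, 3, 2, 6, 3, 2, 1, 0, 5, 3, 2, 1, 3, 2, 3]),
  (163008, [3, 2, 1, 3, 2, 3, 2, 6, 3, 2, 1, 5, 3, 2, 1, 3, 2, 4, 3]),
  (163009, [3, 2, 1, 3, 2, 3, 2, 6, 3, 2, 1, 5, 3, 2, 1, 3, 2, 6, 3]),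
  (172678, [3, 2, 1, 0, 3, 2, 3, 2, 5, 3, 2, 1, 6, 3, 2, 1, 4, 3, 2, 3]),
  (172726, [3, 2, 1, 0, 3, 2, 3, 2, 6, 3, 2, 1, 5, 3, 2, 1, 4, 3, 2, 3]),
  (172865, [3, 2, 1, 0, 3, 2, 3, 4, 5, 3, 2, 1, 3, 6, 3, 2, 5, 3, 2, 3]),
  (173033, [3, 2, 1, 0, 3, 2, 3, 4, 6, 3, 2, 1, 3, 5, 3, 2, 6, 3, 2, 3]),
  (175323, [3, 2, 1, 3, 2, 3, 2, 6, 3, 2, 1, 0, 5, 3, 2, 1, 3, 2, 3, 2]),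
  (175348, [3, 2, 1, 3, 2, 3, 2, 6, 3, 2, 1, 5, 3, 2, 1, 0, 3, 2, 6, 3]),
  (175349, [3, 2, 1, 3, 2, 3, 2, 6, 3, 2, 1, 5, 3, 2, 1, 0, 3, 2, 4, 3]),
  (178132, [3, 2, 1, 3, 2, 3, 2, 5, 3, 2, 1, 0, 6, 3, 2, 1, 3, 2, 3, 2]),
  (178150, [3, 2, 1, 3, 2, 3, 2, 5, 3, 2, 1, 6, 3, 2, 1, 0, 3, 2, 5, 3]),
  (178151, [3, 2, 1, 3, 2, 3, 2, 5, 3, 2, 1, 6, 3, 2, 1, 0, 3, 2, 4, 3]),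
  (180446, [3, 2, 1, 3, 2, 1, 3, 4, 3, 5, 3, 2, 1, 3, 2, 6, 3, 4, 5, 3]),
  (180447, [3, 2, 1, 3, 2, 1, 3, 4, 3, 5, 3, 2, 1, 3, 2, 6, 3, 5, 6, 3]),
  (180460, [3, 2, 1, 3, 2, 1, 3, 4, 3, 6, 3, 2, 1, 3, 2, 5, 3, 4, 6, 3]),
  (180461, [3, 2, 1, 3, 2, 1, 3, 4, 3, 6, 3, 2, 1, 3, 2, 5, 3, 6, 5, 3]),
  (180536, [3, 2, 1, 3, 2, 1, 3, 4, 5, 3, 2, 1, 4, 3, 2, 6, 3, 4, 5, 3]),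
  (180537, [3, 2, 1, 3, 2, 1, 3, 4, 5, 3, 2, 1, 4, 3, 2, 6, 3, 5, 6, 3]),
  (180648, [3, 2, 1, 3, 2, 1, 3, 4, 6, 3, 2, 1, 4, 3, 2, 5, 3, 4, 6, 3]),
  (180649, [3, 2, 1, 3, 2, 1, 3, 4, 6, 3, 2, 1, 4, 3, 2, 5, 3, 6, 5, 3]),
  (181957, [3, 2, 1, 3, 2, 3, 2, 5, 3, 2, 1, 0, 6, 3, 2, 1, 3, 2, 1, 3]),
  (181987, [3, 2, 1, 3, 2, 3, 2, 5, 3, 2, 1, 6, 3, 2, 1, 3, 2, 1, 4, 3]),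
  (181988, [3, 2, 1, 3, 2, 3, 2, 5, 3, 2, 1, 6, 3, 2, 1, 3, 2, 1, 5, 3]),
  (181989, [3, 2, 1, 3, 2, 3, 2, 5, 3, 2, 1, 6, 3, 2, 1, 3, 2, 5, 3, 6]),
  (182009, [3, 2, 1, 3, 2, 3, 2, 6, 3, 2, 1, 0, 5, 3, 2, 1, 3, 2, 1, 3]),
  (182037, [3, 2, 1, 3, 2, 3, 2, 6, 3, 2, 1, 5, 3, 2, 1, 3, 2, 1, 4, 3]),
  (182038, [3, 2, 1, 3, 2, 3, 2, 6, 3, 2, 1, 5, 3, 2, 1, 3, 2, 1, 6, 3]),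
  (182039, [3, 2, 1, 3, 2, 3, 2, 6, 3, 2, 1, 5, 3, 2, 1, 3, 2, 6, 3, 5]),
  (183934, [3, 2, 1, 5, 3, 2, 3, 2, 6, 3, 2, 1, 5, 3, 2, 1, 4, 3, 2, 3]),
  (184122, [3, 2, 1, 6, 3, 2, 3, 2, 5, 3, 2, 1, 6, 3, 2, 1, 4, 3, 2, 3]),
  (184676, [3, 2, 1, 0, 3, 2, 1, 3, 4, 5, 3, 2, 1, 3, 2, 4, 6, 3, 5, 6, 3]),
  (184712, [3, 2, 1, 0, 3, 2, 1, 3, 4, 6, 3, 2, 1, 3, 2, 4, 5, 3, 6, 5, 3]),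
  (185156, [3, 2, 1, 0, 3, 2, 3, 2, 5, 3, 2, 1, 6, 3, 2, 1, 4, 3, 2, 1, 3]),
  (185157, [3, 2, 1, 0, 3, 2, 3, 2, 5, 3, 2, 1, 6, 3, 2, 1, 4, 3, 2, 3, 6]),
  (185163, [3, 2, 1, 0, 3, 2, 3, 2, 6, 3, 2, 1, 5, 3, 2, 1, 4, 3, 2, 1, 3]),
  (185164, [3, 2, 1, 0, 3, 2, 3, 2, 6, 3, 2, 1, 5, 3, 2, 1, 4, 3, 2, 3, 5]),
  (185217, [3, 2, 1, 0, 3, 2, 3, 4, 5, 3, 2, 1, 3, 6, 3, 2, 5, 3, 2, 3, 2]),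
  (185283, [3, 2, 1, 0, 3, 2, 3, 4, 6, 3, 2, 1, 3, 5, 3, 2, 6, 3, 2, 3, 2]),
  (185689, [3, 2, 1, 3, 2, 1, 3, 4, 3, 5, 3, 2, 1, 3, 2, 6, 3, 5, 6, 3, 2]),
  (185693, [3, 2, 1, 3, 2, 1, 3, 4, 3, 5, 3, 2, 1, 3, 2, 6, 3, 5, 6, 3, 5]),
  (185780, [3, 2, 1, 3, 2, 1, 3, 4, 5, 3, 2, 1, 4, 3, 2, 1, 6, 3, 5, 6, 3]),
  (186212, [3, 2, 1, 3, 2, 1, 3, 4, 3, 6, 3, 2, 1, 3, 2, 5, 3, 6, 5, 3, 2]),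
  (186214, [3, 2, 1, 3, 2, 1, 3, 4, 3, 6, 3, 2, 1, 3, 2, 5, 3, 6, 5, 3, 6]),
  (186269, [3, 2, 1, 3, 2, 1, 3, 4, 6, 3, 2, 1, 4, 3, 2, 1, 5, 3, 6, 5, 3])]

noncomputable def chkEnt (t : ℕ × List ℕ) : Bool :=
  t.2.all (fun l => Nat.blt l 7) && Nat.beq (PC.walkA t.2 0) t.1 &&
    !(Nat.beq (PC.walkA (4 :: t.2) 1) (PC.walkA (t.2 ++ [4]) 1))

noncomputable def scan (j : ℕ) : Bool :=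
  Nat.ble 187425 j || !(Nat.beq (PC.A j 4) j) || Nat.beq j 0 ||
    fixL.any (fun t => Nat.beq t.1 j && chkEnt t)

theorem hscan_0 : allD scan 16 0 = true := by decide +kernel
theorem hscan_1 : allD scan 16 65536 = true := by decide +kernel
theorem hscan_2 : allD scan 16 131072 = true := by decide +kernel
theorem hscan_3 : allD scan 16 196608 = true := by decide +kernel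

theorem hscan : allD scan 18 0 = true :=
  allD_join (allD_join hscan_0 hscan_1 (by norm_num)) (allD_join hscan_2 hscan_3 (by norm_num))
    (by norm_num)

end Cfsg.Agent.Lib.Helper35HeZa
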