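import Mathlib

set_option autoImplicit false

namespace Cfsg.Agent.Lib.Helper35L37Card

open Matrix

abbrev F := ZMod 7

instance : Fact (Nat.Prime 7) := ⟨by norm_num⟩

theorem card_GL : Nat.card (GL (Fin 3) F) = 33784128 := by
  rw [Matrix.card_GL_field]
  simp [ZMod.card, Fin.prod_univ_succ]

/-- the kernel of the determinant is the special linear group -/
def kerEquiv {n : ℕ} {R : Type*} [CommRing R] :
    (GeneralLinearGroup.det : GL (Fin n) R →* Rˣ).ker ≃ SpecialLinearGroup (Fin n) R where
  toFun g := ⟨(g.1 : Matrix (Fin n) (Fin n) R), by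
    have h := g.2
    rw [MonoidHom.mem_ker] at h
    have h2 := congrArg Units.val h
    simpa using h2⟩
  invFun A := ⟨SpecialLinearGroup.toGL A, by
    rw [MonoidHom.mem_ker]
    ext
    simp [A.2]⟩
  left_inv g := by ext; rfl
  right_inv A := by ext; rfl

theorem card_SL : Nat.card (SpecialLinearGroup (Fin 3) F) = 5630688 := by
  have h1 := Subgroup.card_eq_card_quotient_mul_card_subgroup
    (GeneralLinearGroup.det : GL (Fin 3) F →* Fˣ).ker
  rw [card_GL, Nat.card_congr kerEquiv,
    Nat.card_congr (QuotientGroup.quotientKerEquivOfSurjective _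
      (GeneralLinearGroup.det_surjective (n := Fin 3) (R := F))).toEquiv] at h1
  have h2 : Nat.card Fˣ = 6 := by
    rw [Nat.card_eq_fintype_card]; decide +kernel
  rw [h2] at h1
  omega

instance decRoots : DecidablePred (· ∈ rootsOfUnity 3 F) :=
  fun x => decidable_of_iff (x ^ 3 = 1) (mem_rootsOfUnity _ _).symm

theorem card_center : Nat.card (Subgroup.center (SpecialLinearGroup (Fin 3) F)) = 3 := by
  rw [Nat.card_congr (SpecialLinearGroup.center_equiv_rootsOfUnity' (0 : Fin 3)).toEquiv]
  have h : Fintype.card (Fin 3) = 3 := by simp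
  rw [h, Nat.card_eq_fintype_card]
  decide +kernel

theorem card_PSL : Nat.card (ProjectiveSpecialLinearGroup (Fin 3) F) = 1876896 := by
  have h1 := Subgroup.card_eq_card_quotient_mul_card_subgroup
    (Subgroup.center (SpecialLinearGroup (Fin 3) F))
  rw [card_SL, card_center] at h1
  have h2 : Nat.card (ProjectiveSpecialLinearGroup (Fin 3) F) =
    Nat.card (SpecialLinearGroup (Fin 3) F ⧸ Subgroup.center (SpecialLinearGroup (Fin 3) F)) := rfl
  omega

end Cfsg.Agent.Lib.Helper35L37Card
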