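import Cfsg.Agent.Lib.Helper35L37uMain
import Cfsg.Agent.Lib.Helper35L37vMain
import Cfsg.Agent.Lib.Helper35Ord4

set_option autoImplicit false
set_option maxRecDepth 100000

namespace Cfsg.Agent.Lib.Helper35L37Ub

open Cfsg.Agent.Lib.Helper35TC

theorem ub1 : Finite Cfsg.Agent.Lib.Helper35L37v.K.Grp ∧ Nat.card Cfsg.Agent.Lib.Helper35L37v.K.Grp ≤ 72 :=
  Cfsg.Agent.Lib.Helper35L37v.ok.chain_base rfl

def i0 : Cfsg.Agent.Lib.Helper35L37v.Gen → Cfsg.Agent.Lib.Helper35L37u.Gen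
  | .b => .b
  | .c => .c
  | .e => .e
  | .f => .f

theorem hmem0 : ∀ e ∈ Cfsg.Agent.Lib.Helper35L37v.K.relExps, e.map i0 ∈ Cfsg.Agent.Lib.Helper35L37u.K.relExps := by decide +kernel

theorem ub0 : Finite Cfsg.Agent.Lib.Helper35L37u.K.Grp ∧ Nat.card Cfsg.Agent.Lib.Helper35L37u.K.Grp ≤ 26068 * 72 :=
  Cfsg.Agent.Lib.Helper35L37u.ok.chain_step Cfsg.Agent.Lib.Helper35L37v.ok i0 (fun e he => Cfsg.Agent.Lib.Helper35L37u.ok.rel_one (hmem0 e he))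
    (hsub_of_list i0 _ [(.of .b), (.of .c), (.of .e), (.of .f)] (by decide +kernel)) 72 ub1

end Cfsg.Agent.Lib.Helper35L37Ub
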