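import Cfsg.Agent.Lib.Helper35L37aB
import Cfsg.Agent.Lib.Helper35L37Ub

set_option autoImplicit false
set_option maxRecDepth 100000

namespace Cfsg.Agent.Lib.Helper35L37Fin

open Cfsg.Agent.Lib.Helper35TC Cfsg.Agent.Lib.Helper35L37a

def seed : Cfsg.Agent.Lib.Helper35L37u.Gen → WExp Cfsg.Agent.Lib.Helper35L37u.Gen
  | .b => (.mul (.mul (.mul (.mul (.of .b) (.of .c)) (.of .d)) (.of .e)) (.of .f))
  | .c => (.mul (.mul (.mul (.mul (.mul (.of .b) (.of .c)) (.of .d)) (.of .e)) (.of .f)) (.of .b))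
  | .d => (.mul (.mul (.mul (.mul (.mul (.mul (.mul (.mul (.mul (.mul (.mul (.mul (.mul (.mul (.of .e) (.of .c)) (.of .f)) (.of .d)) (.of .c)) (.of .c)) (.of .d)) (.of .b)) (.of .d)) (.of .e)) (.of .c)) (.of .f)) (.of .d)) (.of .d)) (.of .b))
  | .e => (.mul (.mul (.mul (.mul (.mul (.mul (.mul (.mul (.mul (.mul (.mul (.mul (.mul (.mul (.mul (.mul (.mul (.mul (.of .b) (.of .e)) (.of .e)) (.of .d)) (.of .e)) (.of .f)) (.of .d)) (.of .d)) (.of .c)) (.of .b)) (.of .c)) (.of .e)) (.of .f)) (.of .c)) (.of .c)) (.of .d)) (.of .c)) (.of .d)) (.of .e))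
  | .f => (.mul (.mul (.mul (.mul (.mul (.mul (.mul (.mul (.mul (.mul (.mul (.of .e) (.of .d)) (.of .b)) (.of .c)) (.of .e)) (.of .b)) (.of .d)) (.of .e)) (.of .c)) (.of .d)) (.of .f)) (.of .c))

theorem hs1 : ∀ a, BD.fixChk K.P ((WExp.pow (seed a) 19).app K.code K.P.iv) = true := by
  intro a; cases a <;> decide +kernel

theorem hs2 : ∀ a, BD.fixChk K.P ((WExp.pow (.mul (.of a) (seed a)) 19).app K.code K.P.iv) = true := by
  intro a; cases a <;> decide +kernel

theorem hub : Finite K.Grp ∧ Nat.card K.Grp ≤ K.P.n * 32928 :=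
  ⟨Cfsg.Agent.Lib.Helper35L37Ub.ub0.1, Cfsg.Agent.Lib.Helper35L37Ub.ub0.2.trans (by show _ ≤ 57 * 32928; norm_num)⟩

def sz (c : ℕ) : ℕ := [1, 56].getD c 0

theorem hsz : ∀ c < K.P.roots.length,
    ((Finset.range K.P.n).filter (fun j => K.P.labIs c j = true)).card = sz c := by
  intro c hc
  have hc' : c < 2 := hc
  interval_cases c
  · have h := card_filter_range (P.labIs 0) 6 57 (by norm_num) (P.labIs_lt 0)
    rw [cntO0_6_0] at h
    exact h
  · have h := card_filter_range (P.labIs 1) 6 57 (by norm_num) (P.labIs_lt 1)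
    rw [cntO1_6_0] at h
    exact h

theorem har : ∀ C ∈ (Finset.range K.P.roots.length).powerset, K.P.lab 0 ∈ C →
    (∑ c ∈ C, sz c) ∣ K.P.n → (∑ c ∈ C, sz c) = 1 ∨ (∑ c ∈ C, sz c) = K.P.n := by decide +kernel

theorem simple : IsSimpleGroup K.Grp :=
  ok.simple_of_seeds horb hBD 32928 hprod hub sz hsz har 19 (by norm_num) (by decide) seed hs1 hs2

theorem card_eq : Nat.card K.Grp = 1876896 :=
  (ok.order_eq hBD 32928 hprod hub).1.trans (by show 57 * 32928 = _; norm_num)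

theorem card_H : Nat.card K.H = 32928 := (ok.order_eq hBD 32928 hprod hub).2.1

theorem word_eq_one (e : WExp Cfsg.Agent.Lib.Helper35L37u.Gen) (he : BD.fixChk K.P (e.app K.code K.P.iv) = true) :
    PresentedGroup.mk K.rels e.eval = 1 :=
  ok.word_eq_one hBD (ok.order_eq hBD 32928 hprod hub).2.2 e he

end Cfsg.Agent.Lib.Helper35L37Fin
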