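import Cfsg.Agent.Lib.Helper35ONaMain
import Cfsg.Agent.Lib.Helper35ONc1Main
import Cfsg.Agent.Lib.Helper35ONc2Main
import Cfsg.Agent.Lib.Helper35Ord4

set_option autoImplicit false
set_option maxRecDepth 100000

namespace Cfsg.Agent.Lib.Helper35ONUb

open Cfsg.Agent.Lib.Helper35TC

theorem ub2 : Finite Cfsg.Agent.Lib.Helper35ONc2.K.Grp ∧ Nat.card Cfsg.Agent.Lib.Helper35ONc2.K.Grp ≤ 144 :=
  Cfsg.Agent.Lib.Helper35ONc2.ok.chain_base rfl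

def i1 : Cfsg.Agent.Lib.Helper35ONc2.Gen → Cfsg.Agent.Lib.Helper35ONc1.Gen
  | .a => .a
  | .b => .b
  | .c => .c
  | .e => .e
  | .f => .f

theorem hmem1 : ∀ e ∈ Cfsg.Agent.Lib.Helper35ONc2.K.relExps, e.map i1 ∈ Cfsg.Agent.Lib.Helper35ONc1.K.relExps := by decide +kernel

theorem ub1 : Finite Cfsg.Agent.Lib.Helper35ONc1.K.Grp ∧ Nat.card Cfsg.Agent.Lib.Helper35ONc1.K.Grp ≤ 26068 * 144 :=
  Cfsg.Agent.Lib.Helper35ONc1.ok.chain_step Cfsg.Agent.Lib.Helper35ONc2.ok i1 (fun e he => Cfsg.Agent.Lib.Helper35ONc1.ok.rel_one (hmem1 e he))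
    (hsub_of_list i1 _ [(.of .a), (.of .b), (.of .c), (.of .e), (.of .f)] (by decide +kernel)) 144 ub2

def i0 : Cfsg.Agent.Lib.Helper35ONc1.Gen → Cfsg.Spor.ON.Gen
  | .a => .a
  | .b => .b
  | .c => .c
  | .d => .d
  | .e => .e
  | .f => .f

theorem hmem0 : ∀ e ∈ Cfsg.Agent.Lib.Helper35ONc1.K.relExps, e.map i0 ∈ Cfsg.Agent.Lib.Helper35ONa.K.relExps := by decide +kernel

theorem ub0 : Finite Cfsg.Agent.Lib.Helper35ONa.K.Grp ∧ Nat.card Cfsg.Agent.Lib.Helper35ONa.K.Grp ≤ 122760 * 3753792 :=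
  Cfsg.Agent.Lib.Helper35ONa.ok.chain_step Cfsg.Agent.Lib.Helper35ONc1.ok i0 (fun e he => Cfsg.Agent.Lib.Helper35ONa.ok.rel_one (hmem0 e he))
    (hsub_of_list i0 _ [(.of .a), (.of .b), (.of .c), (.of .d), (.of .e), (.of .f)] (by decide +kernel)) 3753792 ub1

end Cfsg.Agent.Lib.Helper35ONUb
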