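import Cfsg.Agent.Lib.Helper35ONaB
import Cfsg.Agent.Lib.Helper35ONUb

set_option autoImplicit false
set_option maxRecDepth 100000

namespace Cfsg.Agent.Lib.Helper35ONFin

open Cfsg.Agent.Lib.Helper35TC Cfsg.Agent.Lib.Helper35ONa

def seed : Cfsg.Spor.ON.Gen → WExp Cfsg.Spor.ON.Gen
  | .g => (.mul (.mul (.mul (.mul (.mul (.mul (.mul (.mul (.mul (.mul (.mul (.mul (.mul (.mul (.mul (.mul (.mul (.mul (.mul (.mul (.mul (.mul (.mul (.mul (.mul (.mul (.mul (.mul (.mul (.mul (.mul (.mul (.mul (.mul (.mul (.mul (.mul (.mul (.mul (.mul (.mul (.of .f) (.of .b)) (.of .a)) (.of .c)) (.of .d)) (.of .g)) (.of .e)) (.of .f)) (.of .a)) (.of .d)) (.of .b)) (.of .g)) (.of .e)) (.of .c)) (.of .a)) (.of .f)) (.of .d)) (.of .e)) (.of .g)) (.of .b)) (.of .c)) (.of .b)) (.of .a)) (.of .d)) (.of .c)) (.of .g)) (.of .e)) (.of .f)) (.of .c)) (.of .b)) (.of .d)) (.of .e)) (.of .g)) (.of .f)) (.of .a)) (.of .b)) (.of .a)) (.of .c)) (.of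 .d)) (.of .e)) (.of .g)) (.of .f))
  | .a => (.mul (.mul (.pow (.mul (.of .b) (.of .a)) 1) (.mul (.mul (.pow (.mul (.of .c) (.of .b)) 1) (.mul (.mul (.mul (.mul (.mul (.mul (.mul (.mul (.mul (.mul (.mul (.mul (.mul (.mul (.mul (.mul (.mul (.mul (.mul (.mul (.mul (.mul (.mul (.mul (.mul (.mul (.mul (.of .b) (.of .a)) (.of .f)) (.of .c)) (.of .e)) (.of .g)) (.of .d)) (.of .f)) (.of .b)) (.of .g)) (.of .e)) (.of .d)) (.of .c)) (.of .a)) (.of .e)) (.of .b)) (.of .c)) (.of .a)) (.of .f)) (.of .g)) (.of .d)) (.of .b)) (.of .c)) (.of .f)) (.of .a)) (.of .g)) (.of .d)) (.of .e))) (.inv (.pow (.mul (.of .c) (.of .b)) 1)))) (.inv (.pow (.mul (.of .b) (.of .a)) 1)))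
  | .b => (.mul (.mul (.pow (.mul (.of .c) (.of .b)) 1) (.mul (.mul (.mul (.mul (.mul (.mul (.mul (.mul (.mul (.mul (.mul (.mul (.mul (.mul (.mul (.mul (.mul (.mul (.mul (.mul (.mul (.mul (.mul (.mul (.mul (.mul (.mul (.of .b) (.of .a)) (.of .f)) (.of .c)) (.of .e)) (.of .g)) (.of .d)) (.of .f)) (.of .b)) (.of .g)) (.of .e)) (.of .d)) (.of .c)) (.of .a)) (.of .e)) (.of .b)) (.of .c)) (.of .a)) (.of .f)) (.of .g)) (.of .d)) (.of .b)) (.of .c)) (.of .f)) (.of .a)) (.of .g)) (.of .d)) (.of .e))) (.inv (.pow (.mul (.of .c) (.of .b)) 1)))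
  | .c => (.mul (.mul (.mul (.mul (.mul (.mul (.mul (.mul (.mul (.mul (.mul (.mul (.mul (.mul (.mul (.mul (.mul (.mul (.mul (.mul (.mul (.mul (.mul (.mul (.mul (.mul (.mul (.of .b) (.of .a)) (.of .f)) (.of .c)) (.of .e)) (.of .g)) (.of .d)) (.of .f)) (.of .b)) (.of .g)) (.of .e)) (.of .d)) (.of .c)) (.of .a)) (.of .e)) (.of .b)) (.of .c)) (.of .a)) (.of .f)) (.of .g)) (.of .d)) (.of .b)) (.of .c)) (.of .f)) (.of .a)) (.of .g)) (.of .d)) (.of .e))
  | .d => (.mul (.mul (.pow (.mul (.of .e) (.of .d)) 1) (.mul (.mul (.mul (.mul (.mul (.mul (.mul (.mul (.mul (.mul (.mul (.mul (.mul (.of .b) (.of .d)) (.of .g)) (.of .c)) (.of .e)) (.of .a)) (.of .f)) (.of .d)) (.of .e)) (.of .g)) (.of .a)) (.of .b)) (.of .c)) (.of .f))) (.inv (.pow (.mul (.of .e) (.of .d)) 1)))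
  | .e => (.mul (.mul (.mul (.mul (.mul (.mul (.mul (.mul (.mul (.mul (.mul (.mul (.mul (.of .b) (.of .d)) (.of .g)) (.of .c)) (.of .e)) (.of .a)) (.of .f)) (.of .d)) (.of .e)) (.of .g)) (.of .a)) (.of .b)) (.of .c)) (.of .f))
  | .f => (.mul (.mul (.pow (.mul (.of .e) (.of .f)) 1) (.mul (.mul (.mul (.mul (.mul (.mul (.mul (.mul (.mul (.mul (.mul (.mul (.mul (.of .b) (.of .d)) (.of .g)) (.of .c)) (.of .e)) (.of .a)) (.of .f)) (.of .d)) (.of .e)) (.of .g)) (.of .a)) (.of .b)) (.of .c)) (.of .f))) (.inv (.pow (.mul (.of .e) (.of .f)) 1)))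

theorem hs1 : ∀ a, BD.fixChk K.P ((WExp.pow (seed a) 11).app K.code K.P.iv) = true := by
  intro a; cases a <;> decide +kernel

theorem hs2 : ∀ a, BD.fixChk K.P ((WExp.pow (.mul (.of a) (seed a)) 11).app K.code K.P.iv) = true := by
  intro a; cases a <;> decide +kernel

theorem hub : Finite K.Grp ∧ Nat.card K.Grp ≤ K.P.n * 3753792 :=
  ⟨Cfsg.Agent.Lib.Helper35ONUb.ub0.1, Cfsg.Agent.Lib.Helper35ONUb.ub0.2.trans (by show _ ≤ 122760 * 3753792; norm_num)⟩

def sz (c : ℕ) : ℕ := [1, 58653, 52136, 5586, 6384].getD c 0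

theorem hsz : ∀ c < K.P.roots.length,
    ((Finset.range K.P.n).filter (fun j => K.P.labIs c j = true)).card = sz c := by
  intro c hc
  have hc' : c < 5 := hc
  interval_cases c
  · have h := card_filter_range (P.labIs 0) 17 122760 (by norm_num) (P.labIs_lt 0)
    rw [cntO0_17_0] at h
    exact h
  · have h := card_filter_range (P.labIs 1) 17 122760 (by norm_num) (P.labIs_lt 1)
    rw [cntO1_17_0] at h
    exact h
  · have h := card_filter_range (P.labIs 2) 17 122760 (by norm_num) (P.labIs_lt 2)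
    rw [cntO2_17_0] at h
    exact h
  · have h := card_filter_range (P.labIs 3) 17 122760 (by norm_num) (P.labIs_lt 3)
    rw [cntO3_17_0] at h
    exact h
  · have h := card_filter_range (P.labIs 4) 17 122760 (by norm_num) (P.labIs_lt 4)
    rw [cntO4_17_0] at h
    exact h

theorem har : ∀ C ∈ (Finset.range K.P.roots.length).powerset, K.P.lab 0 ∈ C →
    (∑ c ∈ C, sz c) ∣ K.P.n → (∑ c ∈ C, sz c) = 1 ∨ (∑ c ∈ C, sz c) = K.P.n := by decide +kernel

theorem simple : IsSimpleGroup K.Grp :=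
  ok.simple_of_seeds horb hBD 3753792 hprod hub sz hsz har 11 (by norm_num) (by decide) seed hs1 hs2

theorem card_eq : Nat.card K.Grp = 460815505920 :=
  (ok.order_eq hBD 3753792 hprod hub).1.trans (by show 122760 * 3753792 = _; norm_num)

theorem card_H : Nat.card K.H = 3753792 := (ok.order_eq hBD 3753792 hprod hub).2.1

theorem word_eq_one (e : WExp Cfsg.Spor.ON.Gen) (he : BD.fixChk K.P (e.app K.code K.P.iv) = true) :
    PresentedGroup.mk K.rels e.eval = 1 :=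
  ok.word_eq_one hBD (ok.order_eq hBD 3753792 hprod hub).2.2 e he

end Cfsg.Agent.Lib.Helper35ONFin
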