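import Cfsg.Agent.Lib.Helper35L37Fin
import Cfsg.Agent.Lib.Helper35ONFin
import Cfsg.Agent.Lib.Helper35Iso

set_option autoImplicit false
set_option maxRecDepth 100000

namespace Cfsg.Agent.Lib.Helper35L37Iso

open Cfsg.Agent.Lib.Helper35TC

abbrev PGen := Cfsg.Agent.Lib.Helper35L37u.Gen
noncomputable abbrev KP := Cfsg.Agent.Lib.Helper35L37a.K
noncomputable abbrev KO := Cfsg.Agent.Lib.Helper35ONa.K

/-- the generator `s` of the presentation of `L₃(7)` goes to the word `a * s` of `O'N` -/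
def gw : PGen → WExp Cfsg.Spor.ON.Gen
  | .b => .mul (.of .a) (.of .b)
  | .c => .mul (.of .a) (.of .c)
  | .d => .mul (.of .a) (.of .d)
  | .e => .mul (.of .a) (.of .e)
  | .f => .mul (.of .a) (.of .f)

theorem hchk : ∀ e ∈ KP.relExps,
    Cfsg.Agent.Lib.Helper35ONa.BD.fixChk KO.P ((e.bind gw).app KO.code KO.P.iv) = true := by
  decide +kernel

noncomputable def phi : KP.Grp →* KO.Grp :=
  Cfsg.Agent.Lib.Helper35L37a.ok.homW KO gw
    (fun e he => Cfsg.Agent.Lib.Helper35ONFin.word_eq_one _ (hchk e he))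

theorem phi_range : phi.range ≤ KO.H := by
  apply Pkg.range_le_of_gens
  intro x
  rw [phi, Pkg.Ok.homW_of]
  apply Cfsg.Agent.Lib.Helper35ONa.ok.mk_mem_H
  cases x <;> decide +kernel

theorem phi_ne : ∃ x, phi x ≠ 1 := by
  refine ⟨PresentedGroup.of .b, ?_⟩
  rw [phi, Pkg.Ok.homW_of]
  exact Cfsg.Agent.Lib.Helper35ONa.ok.mk_ne_one _ 1 (by decide +kernel) (by decide +kernel)

/-- the relators of the presentation of `L₃(7)` -/
abbrev relators : List (WExp PGen) := Cfsg.Agent.Lib.Helper35L37u.extraExps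

theorem main {T : Type*} [Group T] [Finite T] (hT : Nat.card T ≤ 1876896) (f : PGen → T)
    (hrel : ∀ e ∈ relators, e.evalIn f = 1) (hne : ∃ x, f x ≠ 1) :
    ∃ N : Subgroup KO.H, N.Normal ∧ N.index = 2 ∧ Nonempty (N ≃* T) := by
  haveI := Cfsg.Agent.Lib.Helper35L37Fin.simple
  haveI : Finite KP.Grp := Cfsg.Agent.Lib.Helper35L37Fin.hub.1
  have hc : Nat.card KP.Grp = 1876896 := Cfsg.Agent.Lib.Helper35L37Fin.card_eq
  let ψ : KP.Grp →* T := Cfsg.Agent.Lib.Helper35L37a.ok.homTo f (fun e he => hrel e he)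
  obtain ⟨x, hx⟩ := hne
  have hψ : ∃ y, ψ y ≠ 1 := ⟨PresentedGroup.of x, by
    rw [Cfsg.Agent.Lib.Helper35L37a.ok.homTo_of]; exact hx⟩
  exact iso_index_two KO.H phi phi_range phi_ne
    (by rw [Cfsg.Agent.Lib.Helper35ONFin.card_H, hc]) (equiv_of_simple ψ hψ (by rw [hc]; exact hT))

end Cfsg.Agent.Lib.Helper35L37Iso
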