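import Cfsg.Agent.Lib.Helper35L37Iso
import Cfsg.Agent.Lib.Helper35Mat

set_option autoImplicit false
set_option maxRecDepth 100000

namespace Cfsg.Agent.Lib.Helper35L37Mat

open Matrix Cfsg.Agent.Lib.Helper35TC Cfsg.Agent.Lib.Helper35Mat

abbrev F := ZMod 7
abbrev SL := SpecialLinearGroup (Fin 3) F

instance : Fact (Nat.Prime 7) := ⟨by norm_num⟩

def matOf (R : List (List F)) : Matrix (Fin 3) (Fin 3) F :=
  Matrix.of fun i j => (R.getD i.val []).getD j.val 0

def r0 : List (List F) := [[1, 0, 0], [0, 4, 0], [0, 0, 2]]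
def s0 : SL := ⟨matOf r0, by rw [Matrix.det_fin_three]; decide +kernel⟩
def r1 : List (List F) := [[1, 0, 0], [0, 2, 0], [0, 0, 4]]
def s1 : SL := ⟨matOf r1, by rw [Matrix.det_fin_three]; decide +kernel⟩
def r2 : List (List F) := [[4, 1, 1], [1, 4, 6], [1, 6, 4]]
def s2 : SL := ⟨matOf r2, by rw [Matrix.det_fin_three]; decide +kernel⟩
def r3 : List (List F) := [[1, 2, 2], [2, 1, 5], [2, 5, 1]]
def s3 : SL := ⟨matOf r3, by rw [Matrix.det_fin_three]; decide +kernel⟩
def r4 : List (List F) := [[0, 0, 5], [0, 5, 0], [5, 0, 0]]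
def s4 : SL := ⟨matOf r4, by rw [Matrix.det_fin_three]; decide +kernel⟩
def r5 : List (List F) := [[0, 0, 3], [0, 3, 0], [3, 0, 0]]
def s5 : SL := ⟨matOf r5, by rw [Matrix.det_fin_three]; decide +kernel⟩
def r6 : List (List F) := [[0, 1, 0], [1, 0, 0], [0, 0, 6]]
def s6 : SL := ⟨matOf r6, by rw [Matrix.det_fin_three]; decide +kernel⟩
def r7 : List (List F) := [[0, 1, 0], [1, 0, 0], [0, 0, 6]]
def s7 : SL := ⟨matOf r7, by rw [Matrix.det_fin_three]; decide +kernel⟩
def r8 : List (List F) := [[0, 0, 1], [0, 6, 0], [1, 0, 0]]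
def s8 : SL := ⟨matOf r8, by rw [Matrix.det_fin_three]; decide +kernel⟩
def r9 : List (List F) := [[0, 0, 1], [0, 6, 0], [1, 0, 0]]
def s9 : SL := ⟨matOf r9, by rw [Matrix.det_fin_three]; decide +kernel⟩

def tabs : List (List (List F)) := [r0, r1, r2, r3, r4, r5, r6, r7, r8, r9]
def vals : List SL := [s0, s1, s2, s3, s4, s5, s6, s7, s8, s9]
def ivl : List ℕ := [1, 0, 3, 2, 5, 4, 7, 6, 9, 8]

def rho : SL →* Matrix (Fin 3) (Fin 3) F where
  toFun A := A.1
  map_one' := rfl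
  map_mul' _ _ := rfl

def E : Enum (Fin 3) := ⟨[0, 1, 2], by decide, by decide⟩

def nm : List F → List F := nmL (fun a : F => a.val) (fun k => (k : F)) 7

theorem hnm (x : List F) : nm x = x :=
  nmL_eq _ _ _ (fun a => ZMod.val_lt a) (fun a => ZMod.natCast_zmod_val a) x

def tab (l : ℕ) : List (List F) := tabs.getD l []

abbrev code := Cfsg.Agent.Lib.Helper35L37a.code

theorem hiv : ∀ l < vals.length, vals.getD (ivl.getD l l) 1 * vals.getD l 1 = 1 := by
  decide +kernel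

theorem htab : ∀ l < vals.length, rowsOf E.en (rho (vals.getD l 1)) = tab l := by
  decide +kernel

theorem hchk : ∀ e ∈ Cfsg.Agent.Lib.Helper35L37Iso.relators,
    (∀ l ∈ e.app code (fun l => ivl.getD l l), l < vals.length) ∧
    ∃ r ∈ ([1, 2, 4] : List F), ∀ j ∈ E.en, walkV nm tab (e.app code (fun l => ivl.getD l l))
      (E.en.map (Pi.single j 1)) = E.en.map (Pi.single j r) := by
  decide +kernel

end Cfsg.Agent.Lib.Helper35L37Mat
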