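import Cfsg.Agent.Lib.Helper35L37aMain
import Cfsg.Agent.Lib.Helper35Ord4

set_option autoImplicit false
set_option maxRecDepth 100000

namespace Cfsg.Agent.Lib.Helper35L37a

open Cfsg.Agent.Lib.Helper35TC

def tB : Tr := (Tr.node (Tr.node (Tr.leaf (nat_lit 0xe38e1b409414438e1544540538fe389cd3433513b8e3890b8cb10de38e1731230c3381d2c872870cbe1f0a820f20a2abe388091490891783ac280288238689981041007e2b0c53883851b8e381048042c5e2c5ee08d08911ed06d830831c30410591861860800000001c0041)) (Tr.leaf (nat_lit 0xe38e2bd2fd30c38e380ec7eccefe38d78b68b71bb8e331ee86ebede38e2fa77a6ab38e38aaad2aa6be38dd0af2aebab8e38264b64969e38e279dc9e3a38c32e209a0a27e38e3479b7a69b8e0c328928825e38e3888c8a2938e38ce34639e3e0c815e2c69b8b89562261267a1))) (Tr.node (Tr.leaf (nat_lit 0x4c6d1466e6618386e6c2552591fe3889271d71c7b8b906389dd61de38c0f4e54df738e1fc6166165b81d3f87da7d36b8e1d718558759e38e0b513510638e38dd55955d7e38e2159858f5b8e387d7797555e38e236d76da5383887512d1353e38e0ee224924b8e38a4f38f591)) (Tr.leaf (nat_lit 0xe38e16dabdb6e38e380b7c77d77e38e35d70d77db8e1a96faafbb5e38e22c33c34d38e1e2b1a71b73e38e1acb6cb2cb8e137b3d73b31))))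
def tT : Tr := (Tr.node (Tr.node (Tr.leaf (nat_lit 0x1905036414100000048181470503000000000004800140000084181610605000000c030648081400000c810147010318140c6050320041000000240c1070003000000a030600080820502040c0810003000000e03061c1c0c0000000000200205000000203052800100000124141080004000000000010000080000000000000001)) (Tr.leaf (nat_lit 0x340305b0001000000701816c010400000000000c8001400000b80c18704030000008070514181000000000002b000500000100405ac0414000002410126000500000000000880019e050318100c604040000020060480181400000a00c15e0006000002203054c10140000074141110205000001a0304b0081000000641c0c80404))) (Tr.node (Tr.leaf (nat_lit 0x6814119030364041020702940c16000050000019060364181000000740c11d000578180cf04048400174050318180d902040000001040204100c0000070101550205000001403054c0814000008014110000500000160305381410000007c1010f0005c01415f070464001000000741010a050400000120305381010000003c0c10e0204)) (Tr.leaf (nat_lit 0x160405ac0814000000810142040500000000000d80018206027c14133000500000300305b0141260504981410a0404000001a0404c80415b0504981812f0005))))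

noncomputable def BD : BData where
  m := nat_lit 56
  LB := nat_lit 3
  W := nat_lit 6
  mW := nat_lit 63
  brow := getRow tB (nat_lit 4) (nat_lit 15) (nat_lit 54) (nat_lit 0x3fffffffffffff)
  TW := nat_lit 22
  mTW := nat_lit 4194303
  trow := getRow tT (nat_lit 4) (nat_lit 15) (nat_lit 66) (nat_lit 0x3ffffffffffffffff)
  defs := [([nat_lit 2, nat_lit 1, nat_lit 0, nat_lit 2, nat_lit 0, nat_lit 2, nat_lit 0, nat_lit 2, nat_lit 0], [nat_lit 2, nat_lit 0, nat_lit 1, nat_lit 2, nat_lit 0, nat_lit 0, nat_lit 2]), ([nat_lit 2, nat_lit 0, nat_lit 1, nat_lit 2, nat_lit 0, nat_lit 2, nat_lit 0, nat_lit 1, nat_lit 2, nat_lit 0, nat_lit 0, nat_lit 2, nat_lit 3], [nat_lit 2, nat_lit 0, nat_lit 1, nat_lit 2, nat_lit 0, nat_lit 2, nat_lit 0, nat_lit 1, nat_lit 2, nat_lit 0, nat_lit 0, nat_lit 2, nat_lit 0]), ([nat_lit 0, nat_lit 0, nat_lit 4, nat_lit 0, nat_lit 1], [nat_lit 2, nat_lit 0, nat_lit 4, nat_lit 0, nat_lit 0]), ([nat_lit 2, nat_lit 1, nat_lit 4, nat_lit 2, nat_lit 5], [nat_lit 2, nat_lit 0, nat_lit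 0, nat_lit 4, nat_lit 1]), ([nat_lit 3, nat_lit 6, nat_lit 5], [nat_lit 4, nat_lit 3])]
  base := [nat_lit 0, nat_lit 1, nat_lit 2]
  lev := [nat_lit 1, nat_lit 1, nat_lit 1, nat_lit 2, nat_lit 2, nat_lit 3, nat_lit 3, nat_lit 3]

theorem chkB_6_0 : allD (BD.chkB P) 6 0 = true := by decide +kernel
theorem cntC0 : cntD (BD.claimed 0) 6 0 = 56 := by decide +kernel
theorem cnt0 : BD.cnt 0 = 56 := by
  have h := card_filter_range (BD.claimed 0) 6 56 (by norm_num) (BD.claimed_lt 0)
  rw [cntC0] at h
  exact h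
theorem cntC1 : cntD (BD.claimed 1) 6 0 = 49 := by decide +kernel
theorem cnt1 : BD.cnt 1 = 49 := by
  have h := card_filter_range (BD.claimed 1) 6 56 (by norm_num) (BD.claimed_lt 1)
  rw [cntC1] at h
  exact h
theorem cntC2 : cntD (BD.claimed 2) 6 0 = 12 := by decide +kernel
theorem cnt2 : BD.cnt 2 = 12 := by
  have h := card_filter_range (BD.claimed 2) 6 56 (by norm_num) (BD.claimed_lt 2)
  rw [cntC2] at h
  exact h

theorem hBD : BD.Valid K.P where
  hrow := all_of_allD _ 6 56 (by norm_num) chkB_6_0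
  hlev := by decide +kernel
  hlen := by decide +kernel
  hLB := by decide +kernel
  hbase := by decide +kernel
  hdefs := by decide +kernel

theorem hprod : (∏ i ∈ Finset.range BD.base.length, BD.cnt i) = 32928 := by
  have hl : BD.base.length = 3 := rfl
  rw [hl]
  simp only [Finset.prod_range_succ, Finset.prod_range_zero, cnt0, cnt1, cnt2]
  norm_num

end Cfsg.Agent.Lib.Helper35L37a
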