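import Cfsg.Agent.Lib.Helper35ON3D0
import Cfsg.Agent.Lib.Helper35ON3D1
import Cfsg.Agent.Lib.Helper35ON3D2
import Cfsg.Agent.Lib.Helper35ON3D3

set_option autoImplicit false
set_option maxRecDepth 100000

namespace Cfsg.Agent.Lib.Helper35ON3

open Cfsg.Agent.Lib.Helper35TC

def tA : Tr := (Tr.node (Tr.node (Tr.node (Tr.node (Tr.node (Tr.node (Tr.node tA_0 tA_64) (Tr.node tA_32 tA_96)) (Tr.node (Tr.node tA_16 tA_80) (Tr.node tA_48 tA_112))) (Tr.node (Tr.node (Tr.node tA_8 tA_72) (Tr.node tA_40 tA_104)) (Tr.node (Tr.node tA_24 tA_88) (Tr.node tA_56 tA_120)))) (Tr.node (Tr.node (Tr.node (Tr.node tA_4 tA_68) (Tr.node tA_36 tA_100)) (Tr.node (Tr.node tA_20 tA_84) (Tr.node tA_52 tA_116))) (Tr.node (Tr.node (Tr.node tA_12 tA_76) (Tr.node tA_44 tA_108)) (Tr.node (Tr.node tA_28 tA_92) (Tr.node tA_60 tA_124))))) (Tr.node (Tr.node (Tr.node (Tr.node (Tr.node tA_2 tA_66)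 (Tr.node tA_34 tA_98)) (Tr.node (Tr.node tA_18 tA_82) (Tr.node tA_50 tA_114))) (Tr.node (Tr.node (Tr.node tA_10 tA_74) (Tr.node tA_42 tA_106)) (Tr.node (Tr.node tA_26 tA_90) (Tr.node tA_58 tA_122)))) (Tr.node (Tr.node (Tr.node (Tr.node tA_6 tA_70) (Tr.node tA_38 tA_102)) (Tr.node (Tr.node tA_22 tA_86) (Tr.node tA_54 tA_118))) (Tr.node (Tr.node (Tr.node tA_14 tA_78) (Tr.node tA_46 tA_110)) (Tr.node (Tr.node tA_30 tA_94) (Tr.node tA_62 tA_126)))))) (Tr.node (Tr.node (Tr.node (Tr.node (Tr.node (Tr.node tA_1 tA_65) (Tr.node tA_33 tA_97)) (Tr.node (Tr.node tA_17 tA_81) (Tr.node tA_49 tA_113))) (Tr.node (Tr.node (Tr.node tA_9 tA_73) (Tr.node tA_41 tA_105)) (Tr.node (Tr.node tA_25 tA_89) (Tr.node tA_57 tA_121)))) (Tr.node (Tr.node (Tr.node (Tr.node tA_5 tA_69) (Tr.node tA_37 tA_101)) (Tr.node (Tr.node tA_21 tA_85) (Tr.node tA_53 tA_117))) (Tr.node (Tr.node (Tr.node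 tA_13 tA_77) (Tr.node tA_45 tA_109)) (Tr.node (Tr.node tA_29 tA_93) (Tr.node tA_61 tA_125))))) (Tr.node (Tr.node (Tr.node (Tr.node (Tr.node tA_3 tA_67) (Tr.node tA_35 tA_99)) (Tr.node (Tr.node tA_19 tA_83) (Tr.node tA_51 tA_115))) (Tr.node (Tr.node (Tr.node tA_11 tA_75) (Tr.node tA_43 tA_107)) (Tr.node (Tr.node tA_27 tA_91) (Tr.node tA_59 tA_123)))) (Tr.node (Tr.node (Tr.node (Tr.node tA_7 tA_71) (Tr.node tA_39 tA_103)) (Tr.node (Tr.node tA_23 tA_87) (Tr.node tA_55 tA_119))) (Tr.node (Tr.node (Tr.node tA_15 tA_79) (Tr.node tA_47 tA_111)) (Tr.node (Tr.node tA_31 tA_95) (Tr.node tA_63 tA_127)))))))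
def relPairs : List (List ℕ × List ℕ) := [([nat_lit 3, nat_lit 2, nat_lit 3], [nat_lit 2, nat_lit 3, nat_lit 2]), ([nat_lit 4, nat_lit 2], [nat_lit 2, nat_lit 4]), ([nat_lit 5, nat_lit 2], [nat_lit 2, nat_lit 5]), ([nat_lit 6, nat_lit 2], [nat_lit 2, nat_lit 6]), ([nat_lit 7, nat_lit 2], [nat_lit 2, nat_lit 7]), ([nat_lit 4, nat_lit 3, nat_lit 4], [nat_lit 3, nat_lit 4, nat_lit 3]), ([nat_lit 5, nat_lit 3], [nat_lit 3, nat_lit 5]), ([nat_lit 6, nat_lit 3], [nat_lit 3, nat_lit 6]), ([nat_lit 7, nat_lit 3], [nat_lit 3, nat_lit 7]), ([nat_lit 5, nat_lit 4, nat_lit 5, nat_lit 4, nat_lit 5, nat_lit 4, nat_lit 5, nat_lit 4], [nat_lit 4, nat_lit 5, nat_lit 4, nat_lit 5, nat_lit 4, nat_lit 5, nat_lit 4, nat_lit 5]), ([nat_lit 6, nat_lit 4], [nat_lit 4, nat_lit 6]), ([nat_lit 7, nat_lit 4], [nat_lit 4, nat_lit 7]), ([nat_lit 6, nat_lit 5, nat_lit 6], [nat_lit 5, nat_lit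 6, nat_lit 5]), ([nat_lit 7, nat_lit 5], [nat_lit 5, nat_lit 7]), ([nat_lit 7, nat_lit 6, nat_lit 7], [nat_lit 6, nat_lit 7, nat_lit 6]), ([nat_lit 1, nat_lit 1], [nat_lit 2, nat_lit 7]), ([nat_lit 4, nat_lit 5, nat_lit 4, nat_lit 5, nat_lit 4], [nat_lit 2, nat_lit 7, nat_lit 5, nat_lit 4, nat_lit 5]), ([nat_lit 0, nat_lit 5, nat_lit 0, nat_lit 5, nat_lit 4], [nat_lit 4, nat_lit 0, nat_lit 5, nat_lit 0, nat_lit 5]), ([nat_lit 0, nat_lit 4, nat_lit 0, nat_lit 4, nat_lit 5], [nat_lit 5, nat_lit 0, nat_lit 4, nat_lit 0, nat_lit 4]), ([nat_lit 4, nat_lit 0, nat_lit 4, nat_lit 3, nat_lit 0, nat_lit 3, nat_lit 4, nat_lit 0, nat_lit 4, nat_lit 3, nat_lit 0], [nat_lit 11]), ([nat_lit 5, nat_lit 0, nat_lit 5, nat_lit 6, nat_lit 0, nat_lit 6, nat_lit 5, nat_lit 0, nat_lit 5, nat_lit 6, nat_lit 0], [nat_lit 11]), ([nat_lit 11, nat_lit 11, nat_lit 11], []), ([nat_lit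 11, nat_lit 0], [nat_lit 0, nat_lit 11]), ([nat_lit 11, nat_lit 2], [nat_lit 2, nat_lit 11]), ([nat_lit 11, nat_lit 3], [nat_lit 3, nat_lit 11]), ([nat_lit 11, nat_lit 4], [nat_lit 4, nat_lit 11]), ([nat_lit 11, nat_lit 5], [nat_lit 5, nat_lit 11]), ([nat_lit 11, nat_lit 6], [nat_lit 6, nat_lit 11]), ([nat_lit 11, nat_lit 7], [nat_lit 7, nat_lit 11])]
def macrosW : List (List ℕ) := [[nat_lit 0, nat_lit 5, nat_lit 4, nat_lit 3, nat_lit 0, nat_lit 5, nat_lit 4, nat_lit 3, nat_lit 0, nat_lit 5, nat_lit 4, nat_lit 3, nat_lit 0, nat_lit 5, nat_lit 4, nat_lit 3, nat_lit 0, nat_lit 5, nat_lit 4, nat_lit 3]]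

noncomputable def P : LData where
  n := nat_lit 368280
  L := nat_lit 8
  AB := nat_lit 19
  mA := nat_lit 524287
  arow := getRow tA (nat_lit 6) (nat_lit 63) (nat_lit 228) (nat_lit 0xfffffffffffffffffffffffffffffffffffffffffffffffffffffffff)
  ivl := [nat_lit 1, nat_lit 0, nat_lit 2, nat_lit 3, nat_lit 4, nat_lit 5, nat_lit 6, nat_lit 7]
  relPairs := relPairs
  macros := macrosW
  subs := []
  roots := []

end Cfsg.Agent.Lib.Helper35ON3
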