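import Cfsg.Agent.Lib.Helper35ON3

set_option autoImplicit false
set_option maxRecDepth 100000

namespace Cfsg.Agent.Lib.Helper35ON3

open Cfsg.Agent.Lib.Helper35TC

theorem chkP_10_330 : allD P.chkPt 10 337920 = true := by decide +kernel
theorem chkP_10_331 : allD P.chkPt 10 338944 = true := by decide +kernel
theorem chkP_10_332 : allD P.chkPt 10 339968 = true := by decide +kernel
theorem chkP_10_333 : allD P.chkPt 10 340992 = true := by decide +kernel
theorem chkP_10_334 : allD P.chkPt 10 342016 = true := by decide +kernel
theorem chkP_10_335 : allD P.chkPt 10 343040 = true := by decide +kernel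
theorem chkP_10_336 : allD P.chkPt 10 344064 = true := by decide +kernel
theorem chkP_10_337 : allD P.chkPt 10 345088 = true := by decide +kernel
theorem chkP_10_338 : allD P.chkPt 10 346112 = true := by decide +kernel
theorem chkP_10_339 : allD P.chkPt 10 347136 = true := by decide +kernel
theorem chkP_10_340 : allD P.chkPt 10 348160 = true := by decide +kernel
theorem chkP_10_341 : allD P.chkPt 10 349184 = true := by decide +kernel
theorem chkP_10_342 : allD P.chkPt 10 350208 = true := by decide +kernel
theorem chkP_10_343 : allD P.chkPt 10 351232 = true := by decide +kernel
theorem chkP_10_344 : allD P.chkPt 10 352256 = true := by decide +kernel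
theorem chkP_10_345 : allD P.chkPt 10 353280 = true := by decide +kernel
theorem chkP_10_346 : allD P.chkPt 10 354304 = true := by decide +kernel
theorem chkP_10_347 : allD P.chkPt 10 355328 = true := by decide +kernel
theorem chkP_10_348 : allD P.chkPt 10 356352 = true := by decide +kernel
theorem chkP_10_349 : allD P.chkPt 10 357376 = true := by decide +kernel
theorem chkP_10_350 : allD P.chkPt 10 358400 = true := by decide +kernel
theorem chkP_10_351 : allD P.chkPt 10 359424 = true := by decide +kernel
theorem chkP_10_352 : allD P.chkPt 10 360448 = true := by decide +kernel
theorem chkP_10_353 : allD P.chkPt 10 361472 = true := by decide +kernel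
theorem chkP_10_354 : allD P.chkPt 10 362496 = true := by decide +kernel
theorem chkP_10_355 : allD P.chkPt 10 363520 = true := by decide +kernel
theorem chkP_10_356 : allD P.chkPt 10 364544 = true := by decide +kernel
theorem chkP_10_357 : allD P.chkPt 10 365568 = true := by decide +kernel
theorem chkP_10_358 : allD P.chkPt 10 366592 = true := by decide +kernel
theorem chkP_10_359 : allD P.chkPt 10 367616 = true := by decide +kernel
theorem chkP_10_360 : allD P.chkPt 10 368640 = true := by decide +kernel
theorem chkP_10_361 : allD P.chkPt 10 369664 = true := by decide +kernel
theorem chkP_10_362 : allD P.chkPt 10 370688 = true := by decide +kernel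
theorem chkP_10_363 : allD P.chkPt 10 371712 = true := by decide +kernel
theorem chkP_10_364 : allD P.chkPt 10 372736 = true := by decide +kernel
theorem chkP_10_365 : allD P.chkPt 10 373760 = true := by decide +kernel
theorem chkP_10_366 : allD P.chkPt 10 374784 = true := by decide +kernel
theorem chkP_10_367 : allD P.chkPt 10 375808 = true := by decide +kernel
theorem chkP_10_368 : allD P.chkPt 10 376832 = true := by decide +kernel
theorem chkP_10_369 : allD P.chkPt 10 377856 = true := by decide +kernel
theorem chkP_10_370 : allD P.chkPt 10 378880 = true := by decide +kernel
theorem chkP_10_371 : allD P.chkPt 10 379904 = true := by decide +kernel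
theorem chkP_10_372 : allD P.chkPt 10 380928 = true := by decide +kernel
theorem chkP_10_373 : allD P.chkPt 10 381952 = true := by decide +kernel
theorem chkP_10_374 : allD P.chkPt 10 382976 = true := by decide +kernel
theorem chkP_10_375 : allD P.chkPt 10 384000 = true := by decide +kernel
theorem chkP_10_376 : allD P.chkPt 10 385024 = true := by decide +kernel
theorem chkP_10_377 : allD P.chkPt 10 386048 = true := by decide +kernel
theorem chkP_10_378 : allD P.chkPt 10 387072 = true := by decide +kernel
theorem chkP_10_379 : allD P.chkPt 10 388096 = true := by decide +kernel
theorem chkP_10_380 : allD P.chkPt 10 389120 = true := by decide +kernel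
theorem chkP_10_381 : allD P.chkPt 10 390144 = true := by decide +kernel
theorem chkP_10_382 : allD P.chkPt 10 391168 = true := by decide +kernel
theorem chkP_10_383 : allD P.chkPt 10 392192 = true := by decide +kernel
theorem chkP_10_384 : allD P.chkPt 10 393216 = true := by decide +kernel
theorem chkP_10_385 : allD P.chkPt 10 394240 = true := by decide +kernel
theorem chkP_10_386 : allD P.chkPt 10 395264 = true := by decide +kernel
theorem chkP_10_387 : allD P.chkPt 10 396288 = true := by decide +kernel
theorem chkP_10_388 : allD P.chkPt 10 397312 = true := by decide +kernel
theorem chkP_10_389 : allD P.chkPt 10 398336 = true := by decide +kernel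
theorem chkP_10_390 : allD P.chkPt 10 399360 = true := by decide +kernel
theorem chkP_10_391 : allD P.chkPt 10 400384 = true := by decide +kernel
theorem chkP_10_392 : allD P.chkPt 10 401408 = true := by decide +kernel
theorem chkP_10_393 : allD P.chkPt 10 402432 = true := by decide +kernel
theorem chkP_10_394 : allD P.chkPt 10 403456 = true := by decide +kernel
theorem chkP_10_395 : allD P.chkPt 10 404480 = true := by decide +kernel
theorem chkP_10_396 : allD P.chkPt 10 405504 = true := by decide +kernel
theorem chkP_10_397 : allD P.chkPt 10 406528 = true := by decide +kernel
theorem chkP_10_398 : allD P.chkPt 10 407552 = true := by decide +kernel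
theorem chkP_10_399 : allD P.chkPt 10 408576 = true := by decide +kernel
theorem chkP_10_400 : allD P.chkPt 10 409600 = true := by decide +kernel
theorem chkP_10_401 : allD P.chkPt 10 410624 = true := by decide +kernel
theorem chkP_10_402 : allD P.chkPt 10 411648 = true := by decide +kernel
theorem chkP_10_403 : allD P.chkPt 10 412672 = true := by decide +kernel
theorem chkP_10_404 : allD P.chkPt 10 413696 = true := by decide +kernel
theorem chkP_10_405 : allD P.chkPt 10 414720 = true := by decide +kernel
theorem chkP_10_406 : allD P.chkPt 10 415744 = true := by decide +kernel
theorem chkP_10_407 : allD P.chkPt 10 416768 = true := by decide +kernel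
theorem chkP_10_408 : allD P.chkPt 10 417792 = true := by decide +kernel
theorem chkP_10_409 : allD P.chkPt 10 418816 = true := by decide +kernel
theorem chkP_10_410 : allD P.chkPt 10 419840 = true := by decide +kernel
theorem chkP_10_411 : allD P.chkPt 10 420864 = true := by decide +kernel
theorem chkP_10_412 : allD P.chkPt 10 421888 = true := by decide +kernel
theorem chkP_10_413 : allD P.chkPt 10 422912 = true := by decide +kernel
theorem chkP_10_414 : allD P.chkPt 10 423936 = true := by decide +kernel
theorem chkP_10_415 : allD P.chkPt 10 424960 = true := by decide +kernel
theorem chkP_10_416 : allD P.chkPt 10 425984 = true := by decide +kernel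
theorem chkP_10_417 : allD P.chkPt 10 427008 = true := by decide +kernel
theorem chkP_10_418 : allD P.chkPt 10 428032 = true := by decide +kernel
theorem chkP_10_419 : allD P.chkPt 10 429056 = true := by decide +kernel
theorem chkP_10_420 : allD P.chkPt 10 430080 = true := by decide +kernel
theorem chkP_10_421 : allD P.chkPt 10 431104 = true := by decide +kernel
theorem chkP_10_422 : allD P.chkPt 10 432128 = true := by decide +kernel
theorem chkP_10_423 : allD P.chkPt 10 433152 = true := by decide +kernel
theorem chkP_10_424 : allD P.chkPt 10 434176 = true := by decide +kernel
theorem chkP_10_425 : allD P.chkPt 10 435200 = true := by decide +kernel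
theorem chkP_10_426 : allD P.chkPt 10 436224 = true := by decide +kernel
theorem chkP_10_427 : allD P.chkPt 10 437248 = true := by decide +kernel
theorem chkP_10_428 : allD P.chkPt 10 438272 = true := by decide +kernel
theorem chkP_10_429 : allD P.chkPt 10 439296 = true := by decide +kernel
theorem chkP_10_430 : allD P.chkPt 10 440320 = true := by decide +kernel
theorem chkP_10_431 : allD P.chkPt 10 441344 = true := by decide +kernel
theorem chkP_10_432 : allD P.chkPt 10 442368 = true := by decide +kernel
theorem chkP_10_433 : allD P.chkPt 10 443392 = true := by decide +kernel
theorem chkP_10_434 : allD P.chkPt 10 444416 = true := by decide +kernel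
theorem chkP_10_435 : allD P.chkPt 10 445440 = true := by decide +kernel
theorem chkP_10_436 : allD P.chkPt 10 446464 = true := by decide +kernel
theorem chkP_10_437 : allD P.chkPt 10 447488 = true := by decide +kernel
theorem chkP_10_438 : allD P.chkPt 10 448512 = true := by decide +kernel
theorem chkP_10_439 : allD P.chkPt 10 449536 = true := by decide +kernel
theorem chkP_10_440 : allD P.chkPt 10 450560 = true := by decide +kernel
theorem chkP_10_441 : allD P.chkPt 10 451584 = true := by decide +kernel
theorem chkP_10_442 : allD P.chkPt 10 452608 = true := by decide +kernel
theorem chkP_10_443 : allD P.chkPt 10 453632 = true := by decide +kernel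
theorem chkP_10_444 : allD P.chkPt 10 454656 = true := by decide +kernel
theorem chkP_10_445 : allD P.chkPt 10 455680 = true := by decide +kernel
theorem chkP_10_446 : allD P.chkPt 10 456704 = true := by decide +kernel
theorem chkP_10_447 : allD P.chkPt 10 457728 = true := by decide +kernel
theorem chkP_10_448 : allD P.chkPt 10 458752 = true := by decide +kernel
theorem chkP_10_449 : allD P.chkPt 10 459776 = true := by decide +kernel
theorem chkP_10_450 : allD P.chkPt 10 460800 = true := by decide +kernel
theorem chkP_10_451 : allD P.chkPt 10 461824 = true := by decide +kernel
theorem chkP_10_452 : allD P.chkPt 10 462848 = true := by decide +kernel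
theorem chkP_10_453 : allD P.chkPt 10 463872 = true := by decide +kernel
theorem chkP_10_454 : allD P.chkPt 10 464896 = true := by decide +kernel
theorem chkP_10_455 : allD P.chkPt 10 465920 = true := by decide +kernel
theorem chkP_10_456 : allD P.chkPt 10 466944 = true := by decide +kernel
theorem chkP_10_457 : allD P.chkPt 10 467968 = true := by decide +kernel
theorem chkP_10_458 : allD P.chkPt 10 468992 = true := by decide +kernel
theorem chkP_10_459 : allD P.chkPt 10 470016 = true := by decide +kernel
theorem chkP_10_460 : allD P.chkPt 10 471040 = true := by decide +kernel
theorem chkP_10_461 : allD P.chkPt 10 472064 = true := by decide +kernel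
theorem chkP_10_462 : allD P.chkPt 10 473088 = true := by decide +kernel
theorem chkP_10_463 : allD P.chkPt 10 474112 = true := by decide +kernel
theorem chkP_10_464 : allD P.chkPt 10 475136 = true := by decide +kernel
theorem chkP_10_465 : allD P.chkPt 10 476160 = true := by decide +kernel
theorem chkP_10_466 : allD P.chkPt 10 477184 = true := by decide +kernel
theorem chkP_10_467 : allD P.chkPt 10 478208 = true := by decide +kernel
theorem chkP_10_468 : allD P.chkPt 10 479232 = true := by decide +kernel
theorem chkP_10_469 : allD P.chkPt 10 480256 = true := by decide +kernel
theorem chkP_10_470 : allD P.chkPt 10 481280 = true := by decide +kernel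
theorem chkP_10_471 : allD P.chkPt 10 482304 = true := by decide +kernel
theorem chkP_10_472 : allD P.chkPt 10 483328 = true := by decide +kernel
theorem chkP_10_473 : allD P.chkPt 10 484352 = true := by decide +kernel
theorem chkP_10_474 : allD P.chkPt 10 485376 = true := by decide +kernel
theorem chkP_10_475 : allD P.chkPt 10 486400 = true := by decide +kernel
theorem chkP_10_476 : allD P.chkPt 10 487424 = true := by decide +kernel
theorem chkP_10_477 : allD P.chkPt 10 488448 = true := by decide +kernel
theorem chkP_10_478 : allD P.chkPt 10 489472 = true := by decide +kernel
theorem chkP_10_479 : allD P.chkPt 10 490496 = true := by decide +kernel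
theorem chkP_10_480 : allD P.chkPt 10 491520 = true := by decide +kernel
theorem chkP_10_481 : allD P.chkPt 10 492544 = true := by decide +kernel
theorem chkP_10_482 : allD P.chkPt 10 493568 = true := by decide +kernel
theorem chkP_10_483 : allD P.chkPt 10 494592 = true := by decide +kernel
theorem chkP_10_484 : allD P.chkPt 10 495616 = true := by decide +kernel
theorem chkP_10_485 : allD P.chkPt 10 496640 = true := by decide +kernel
theorem chkP_10_486 : allD P.chkPt 10 497664 = true := by decide +kernel
theorem chkP_10_487 : allD P.chkPt 10 498688 = true := by decide +kernel
theorem chkP_10_488 : allD P.chkPt 10 499712 = true := by decide +kernel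
theorem chkP_10_489 : allD P.chkPt 10 500736 = true := by decide +kernel
theorem chkP_10_490 : allD P.chkPt 10 501760 = true := by decide +kernel
theorem chkP_10_491 : allD P.chkPt 10 502784 = true := by decide +kernel
theorem chkP_10_492 : allD P.chkPt 10 503808 = true := by decide +kernel
theorem chkP_10_493 : allD P.chkPt 10 504832 = true := by decide +kernel
theorem chkP_10_494 : allD P.chkPt 10 505856 = true := by decide +kernel
theorem chkP_10_495 : allD P.chkPt 10 506880 = true := by decide +kernel
theorem chkP_10_496 : allD P.chkPt 10 507904 = true := by decide +kernel
theorem chkP_10_497 : allD P.chkPt 10 508928 = true := by decide +kernel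
theorem chkP_10_498 : allD P.chkPt 10 509952 = true := by decide +kernel
theorem chkP_10_499 : allD P.chkPt 10 510976 = true := by decide +kernel
theorem chkP_10_500 : allD P.chkPt 10 512000 = true := by decide +kernel
theorem chkP_10_501 : allD P.chkPt 10 513024 = true := by decide +kernel
theorem chkP_10_502 : allD P.chkPt 10 514048 = true := by decide +kernel
theorem chkP_10_503 : allD P.chkPt 10 515072 = true := by decide +kernel
theorem chkP_10_504 : allD P.chkPt 10 516096 = true := by decide +kernel
theorem chkP_10_505 : allD P.chkPt 10 517120 = true := by decide +kernel
theorem chkP_10_506 : allD P.chkPt 10 518144 = true := by decide +kernel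
theorem chkP_10_507 : allD P.chkPt 10 519168 = true := by decide +kernel
theorem chkP_10_508 : allD P.chkPt 10 520192 = true := by decide +kernel
theorem chkP_10_509 : allD P.chkPt 10 521216 = true := by decide +kernel
theorem chkP_10_510 : allD P.chkPt 10 522240 = true := by decide +kernel
theorem chkP_10_511 : allD P.chkPt 10 523264 = true := by decide +kernel

end Cfsg.Agent.Lib.Helper35ON3
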