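import Cfsg.Agent.Lib.Helper35ON3Chk0
import Cfsg.Agent.Lib.Helper35ON3Chk1
import Cfsg.Agent.Lib.Helper35ON3Chk2
import Cfsg.Agent.Lib.Helper35ON3Chk3
import Cfsg.Agent.Lib.Helper35ON3Chk4
import Cfsg.Agent.Lib.Helper35ON3Chk5
import Cfsg.Agent.Lib.Helper35ON3Chk6
import Cfsg.Agent.Lib.Helper35ON3Chk7
import Cfsg.Agent.Lib.Helper35ON3Chk8
import Cfsg.Agent.Lib.Helper35ON3Chk9
import Cfsg.Agent.Lib.Helper35ON3Chk10
import Cfsg.Agent.Lib.Helper35ON3Chk11

set_option autoImplicit false
set_option maxRecDepth 100000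

namespace Cfsg.Agent.Lib.Helper35ON3

open Cfsg.Agent.Lib.Helper35TC

theorem chkP_11_0 : allD P.chkPt 11 0 = true :=
  allD_join chkP_10_0 chkP_10_1 (by norm_num)
theorem chkP_11_1 : allD P.chkPt 11 2048 = true :=
  allD_join chkP_10_2 chkP_10_3 (by norm_num)
theorem chkP_11_2 : allD P.chkPt 11 4096 = true :=
  allD_join chkP_10_4 chkP_10_5 (by norm_num)
theorem chkP_11_3 : allD P.chkPt 11 6144 = true :=
  allD_join chkP_10_6 chkP_10_7 (by norm_num)
theorem chkP_11_4 : allD P.chkPt 11 8192 = true :=
  allD_join chkP_10_8 chkP_10_9 (by norm_num)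
theorem chkP_11_5 : allD P.chkPt 11 10240 = true :=
  allD_join chkP_10_10 chkP_10_11 (by norm_num)
theorem chkP_11_6 : allD P.chkPt 11 12288 = true :=
  allD_join chkP_10_12 chkP_10_13 (by norm_num)
theorem chkP_11_7 : allD P.chkPt 11 14336 = true :=
  allD_join chkP_10_14 chkP_10_15 (by norm_num)
theorem chkP_11_8 : allD P.chkPt 11 16384 = true :=
  allD_join chkP_10_16 chkP_10_17 (by norm_num)
theorem chkP_11_9 : allD P.chkPt 11 18432 = true :=
  allD_join chkP_10_18 chkP_10_19 (by norm_num)
theorem chkP_11_10 : allD P.chkPt 11 20480 = true :=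
  allD_join chkP_10_20 chkP_10_21 (by norm_num)
theorem chkP_11_11 : allD P.chkPt 11 22528 = true :=
  allD_join chkP_10_22 chkP_10_23 (by norm_num)
theorem chkP_11_12 : allD P.chkPt 11 24576 = true :=
  allD_join chkP_10_24 chkP_10_25 (by norm_num)
theorem chkP_11_13 : allD P.chkPt 11 26624 = true :=
  allD_join chkP_10_26 chkP_10_27 (by norm_num)
theorem chkP_11_14 : allD P.chkPt 11 28672 = true :=
  allD_join chkP_10_28 chkP_10_29 (by norm_num)
theorem chkP_11_15 : allD P.chkPt 11 30720 = true :=
  allD_join chkP_10_30 chkP_10_31 (by norm_num)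
theorem chkP_11_16 : allD P.chkPt 11 32768 = true :=
  allD_join chkP_10_32 chkP_10_33 (by norm_num)
theorem chkP_11_17 : allD P.chkPt 11 34816 = true :=
  allD_join chkP_10_34 chkP_10_35 (by norm_num)
theorem chkP_11_18 : allD P.chkPt 11 36864 = true :=
  allD_join chkP_10_36 chkP_10_37 (by norm_num)
theorem chkP_11_19 : allD P.chkPt 11 38912 = true :=
  allD_join chkP_10_38 chkP_10_39 (by norm_num)
theorem chkP_11_20 : allD P.chkPt 11 40960 = true :=
  allD_join chkP_10_40 chkP_10_41 (by norm_num)
theorem chkP_11_21 : allD P.chkPt 11 43008 = true :=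
  allD_join chkP_10_42 chkP_10_43 (by norm_num)
theorem chkP_11_22 : allD P.chkPt 11 45056 = true :=
  allD_join chkP_10_44 chkP_10_45 (by norm_num)
theorem chkP_11_23 : allD P.chkPt 11 47104 = true :=
  allD_join chkP_10_46 chkP_10_47 (by norm_num)
theorem chkP_11_24 : allD P.chkPt 11 49152 = true :=
  allD_join chkP_10_48 chkP_10_49 (by norm_num)
theorem chkP_11_25 : allD P.chkPt 11 51200 = true :=
  allD_join chkP_10_50 chkP_10_51 (by norm_num)
theorem chkP_11_26 : allD P.chkPt 11 53248 = true :=
  allD_join chkP_10_52 chkP_10_53 (by norm_num)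
theorem chkP_11_27 : allD P.chkPt 11 55296 = true :=
  allD_join chkP_10_54 chkP_10_55 (by norm_num)
theorem chkP_11_28 : allD P.chkPt 11 57344 = true :=
  allD_join chkP_10_56 chkP_10_57 (by norm_num)
theorem chkP_11_29 : allD P.chkPt 11 59392 = true :=
  allD_join chkP_10_58 chkP_10_59 (by norm_num)
theorem chkP_11_30 : allD P.chkPt 11 61440 = true :=
  allD_join chkP_10_60 chkP_10_61 (by norm_num)
theorem chkP_11_31 : allD P.chkPt 11 63488 = true :=
  allD_join chkP_10_62 chkP_10_63 (by norm_num)
theorem chkP_11_32 : allD P.chkPt 11 65536 = true :=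
  allD_join chkP_10_64 chkP_10_65 (by norm_num)
theorem chkP_11_33 : allD P.chkPt 11 67584 = true :=
  allD_join chkP_10_66 chkP_10_67 (by norm_num)
theorem chkP_11_34 : allD P.chkPt 11 69632 = true :=
  allD_join chkP_10_68 chkP_10_69 (by norm_num)
theorem chkP_11_35 : allD P.chkPt 11 71680 = true :=
  allD_join chkP_10_70 chkP_10_71 (by norm_num)
theorem chkP_11_36 : allD P.chkPt 11 73728 = true :=
  allD_join chkP_10_72 chkP_10_73 (by norm_num)
theorem chkP_11_37 : allD P.chkPt 11 75776 = true :=
  allD_join chkP_10_74 chkP_10_75 (by norm_num)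
theorem chkP_11_38 : allD P.chkPt 11 77824 = true :=
  allD_join chkP_10_76 chkP_10_77 (by norm_num)
theorem chkP_11_39 : allD P.chkPt 11 79872 = true :=
  allD_join chkP_10_78 chkP_10_79 (by norm_num)
theorem chkP_11_40 : allD P.chkPt 11 81920 = true :=
  allD_join chkP_10_80 chkP_10_81 (by norm_num)
theorem chkP_11_41 : allD P.chkPt 11 83968 = true :=
  allD_join chkP_10_82 chkP_10_83 (by norm_num)
theorem chkP_11_42 : allD P.chkPt 11 86016 = true :=
  allD_join chkP_10_84 chkP_10_85 (by norm_num)
theorem chkP_11_43 : allD P.chkPt 11 88064 = true :=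
  allD_join chkP_10_86 chkP_10_87 (by norm_num)
theorem chkP_11_44 : allD P.chkPt 11 90112 = true :=
  allD_join chkP_10_88 chkP_10_89 (by norm_num)
theorem chkP_11_45 : allD P.chkPt 11 92160 = true :=
  allD_join chkP_10_90 chkP_10_91 (by norm_num)
theorem chkP_11_46 : allD P.chkPt 11 94208 = true :=
  allD_join chkP_10_92 chkP_10_93 (by norm_num)
theorem chkP_11_47 : allD P.chkPt 11 96256 = true :=
  allD_join chkP_10_94 chkP_10_95 (by norm_num)
theorem chkP_11_48 : allD P.chkPt 11 98304 = true :=
  allD_join chkP_10_96 chkP_10_97 (by norm_num)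
theorem chkP_11_49 : allD P.chkPt 11 100352 = true :=
  allD_join chkP_10_98 chkP_10_99 (by norm_num)
theorem chkP_11_50 : allD P.chkPt 11 102400 = true :=
  allD_join chkP_10_100 chkP_10_101 (by norm_num)
theorem chkP_11_51 : allD P.chkPt 11 104448 = true :=
  allD_join chkP_10_102 chkP_10_103 (by norm_num)
theorem chkP_11_52 : allD P.chkPt 11 106496 = true :=
  allD_join chkP_10_104 chkP_10_105 (by norm_num)
theorem chkP_11_53 : allD P.chkPt 11 108544 = true :=
  allD_join chkP_10_106 chkP_10_107 (by norm_num)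
theorem chkP_11_54 : allD P.chkPt 11 110592 = true :=
  allD_join chkP_10_108 chkP_10_109 (by norm_num)
theorem chkP_11_55 : allD P.chkPt 11 112640 = true :=
  allD_join chkP_10_110 chkP_10_111 (by norm_num)
theorem chkP_11_56 : allD P.chkPt 11 114688 = true :=
  allD_join chkP_10_112 chkP_10_113 (by norm_num)
theorem chkP_11_57 : allD P.chkPt 11 116736 = true :=
  allD_join chkP_10_114 chkP_10_115 (by norm_num)
theorem chkP_11_58 : allD P.chkPt 11 118784 = true :=
  allD_join chkP_10_116 chkP_10_117 (by norm_num)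
theorem chkP_11_59 : allD P.chkPt 11 120832 = true :=
  allD_join chkP_10_118 chkP_10_119 (by norm_num)
theorem chkP_11_60 : allD P.chkPt 11 122880 = true :=
  allD_join chkP_10_120 chkP_10_121 (by norm_num)
theorem chkP_11_61 : allD P.chkPt 11 124928 = true :=
  allD_join chkP_10_122 chkP_10_123 (by norm_num)
theorem chkP_11_62 : allD P.chkPt 11 126976 = true :=
  allD_join chkP_10_124 chkP_10_125 (by norm_num)
theorem chkP_11_63 : allD P.chkPt 11 129024 = true :=
  allD_join chkP_10_126 chkP_10_127 (by norm_num)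
theorem chkP_11_64 : allD P.chkPt 11 131072 = true :=
  allD_join chkP_10_128 chkP_10_129 (by norm_num)
theorem chkP_11_65 : allD P.chkPt 11 133120 = true :=
  allD_join chkP_10_130 chkP_10_131 (by norm_num)
theorem chkP_11_66 : allD P.chkPt 11 135168 = true :=
  allD_join chkP_10_132 chkP_10_133 (by norm_num)
theorem chkP_11_67 : allD P.chkPt 11 137216 = true :=
  allD_join chkP_10_134 chkP_10_135 (by norm_num)
theorem chkP_11_68 : allD P.chkPt 11 139264 = true :=
  allD_join chkP_10_136 chkP_10_137 (by norm_num)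
theorem chkP_11_69 : allD P.chkPt 11 141312 = true :=
  allD_join chkP_10_138 chkP_10_139 (by norm_num)
theorem chkP_11_70 : allD P.chkPt 11 143360 = true :=
  allD_join chkP_10_140 chkP_10_141 (by norm_num)
theorem chkP_11_71 : allD P.chkPt 11 145408 = true :=
  allD_join chkP_10_142 chkP_10_143 (by norm_num)
theorem chkP_11_72 : allD P.chkPt 11 147456 = true :=
  allD_join chkP_10_144 chkP_10_145 (by norm_num)
theorem chkP_11_73 : allD P.chkPt 11 149504 = true :=
  allD_join chkP_10_146 chkP_10_147 (by norm_num)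
theorem chkP_11_74 : allD P.chkPt 11 151552 = true :=
  allD_join chkP_10_148 chkP_10_149 (by norm_num)
theorem chkP_11_75 : allD P.chkPt 11 153600 = true :=
  allD_join chkP_10_150 chkP_10_151 (by norm_num)
theorem chkP_11_76 : allD P.chkPt 11 155648 = true :=
  allD_join chkP_10_152 chkP_10_153 (by norm_num)
theorem chkP_11_77 : allD P.chkPt 11 157696 = true :=
  allD_join chkP_10_154 chkP_10_155 (by norm_num)
theorem chkP_11_78 : allD P.chkPt 11 159744 = true :=
  allD_join chkP_10_156 chkP_10_157 (by norm_num)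
theorem chkP_11_79 : allD P.chkPt 11 161792 = true :=
  allD_join chkP_10_158 chkP_10_159 (by norm_num)
theorem chkP_11_80 : allD P.chkPt 11 163840 = true :=
  allD_join chkP_10_160 chkP_10_161 (by norm_num)
theorem chkP_11_81 : allD P.chkPt 11 165888 = true :=
  allD_join chkP_10_162 chkP_10_163 (by norm_num)
theorem chkP_11_82 : allD P.chkPt 11 167936 = true :=
  allD_join chkP_10_164 chkP_10_165 (by norm_num)
theorem chkP_11_83 : allD P.chkPt 11 169984 = true :=
  allD_join chkP_10_166 chkP_10_167 (by norm_num)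
theorem chkP_11_84 : allD P.chkPt 11 172032 = true :=
  allD_join chkP_10_168 chkP_10_169 (by norm_num)
theorem chkP_11_85 : allD P.chkPt 11 174080 = true :=
  allD_join chkP_10_170 chkP_10_171 (by norm_num)
theorem chkP_11_86 : allD P.chkPt 11 176128 = true :=
  allD_join chkP_10_172 chkP_10_173 (by norm_num)
theorem chkP_11_87 : allD P.chkPt 11 178176 = true :=
  allD_join chkP_10_174 chkP_10_175 (by norm_num)
theorem chkP_11_88 : allD P.chkPt 11 180224 = true :=
  allD_join chkP_10_176 chkP_10_177 (by norm_num)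
theorem chkP_11_89 : allD P.chkPt 11 182272 = true :=
  allD_join chkP_10_178 chkP_10_179 (by norm_num)
theorem chkP_11_90 : allD P.chkPt 11 184320 = true :=
  allD_join chkP_10_180 chkP_10_181 (by norm_num)
theorem chkP_11_91 : allD P.chkPt 11 186368 = true :=
  allD_join chkP_10_182 chkP_10_183 (by norm_num)
theorem chkP_11_92 : allD P.chkPt 11 188416 = true :=
  allD_join chkP_10_184 chkP_10_185 (by norm_num)
theorem chkP_11_93 : allD P.chkPt 11 190464 = true :=
  allD_join chkP_10_186 chkP_10_187 (by norm_num)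
theorem chkP_11_94 : allD P.chkPt 11 192512 = true :=
  allD_join chkP_10_188 chkP_10_189 (by norm_num)
theorem chkP_11_95 : allD P.chkPt 11 194560 = true :=
  allD_join chkP_10_190 chkP_10_191 (by norm_num)
theorem chkP_11_96 : allD P.chkPt 11 196608 = true :=
  allD_join chkP_10_192 chkP_10_193 (by norm_num)
theorem chkP_11_97 : allD P.chkPt 11 198656 = true :=
  allD_join chkP_10_194 chkP_10_195 (by norm_num)
theorem chkP_11_98 : allD P.chkPt 11 200704 = true :=
  allD_join chkP_10_196 chkP_10_197 (by norm_num)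
theorem chkP_11_99 : allD P.chkPt 11 202752 = true :=
  allD_join chkP_10_198 chkP_10_199 (by norm_num)
theorem chkP_11_100 : allD P.chkPt 11 204800 = true :=
  allD_join chkP_10_200 chkP_10_201 (by norm_num)
theorem chkP_11_101 : allD P.chkPt 11 206848 = true :=
  allD_join chkP_10_202 chkP_10_203 (by norm_num)
theorem chkP_11_102 : allD P.chkPt 11 208896 = true :=
  allD_join chkP_10_204 chkP_10_205 (by norm_num)
theorem chkP_11_103 : allD P.chkPt 11 210944 = true :=
  allD_join chkP_10_206 chkP_10_207 (by norm_num)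
theorem chkP_11_104 : allD P.chkPt 11 212992 = true :=
  allD_join chkP_10_208 chkP_10_209 (by norm_num)
theorem chkP_11_105 : allD P.chkPt 11 215040 = true :=
  allD_join chkP_10_210 chkP_10_211 (by norm_num)
theorem chkP_11_106 : allD P.chkPt 11 217088 = true :=
  allD_join chkP_10_212 chkP_10_213 (by norm_num)
theorem chkP_11_107 : allD P.chkPt 11 219136 = true :=
  allD_join chkP_10_214 chkP_10_215 (by norm_num)
theorem chkP_11_108 : allD P.chkPt 11 221184 = true :=
  allD_join chkP_10_216 chkP_10_217 (by norm_num)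
theorem chkP_11_109 : allD P.chkPt 11 223232 = true :=
  allD_join chkP_10_218 chkP_10_219 (by norm_num)
theorem chkP_11_110 : allD P.chkPt 11 225280 = true :=
  allD_join chkP_10_220 chkP_10_221 (by norm_num)
theorem chkP_11_111 : allD P.chkPt 11 227328 = true :=
  allD_join chkP_10_222 chkP_10_223 (by norm_num)
theorem chkP_11_112 : allD P.chkPt 11 229376 = true :=
  allD_join chkP_10_224 chkP_10_225 (by norm_num)
theorem chkP_11_113 : allD P.chkPt 11 231424 = true :=
  allD_join chkP_10_226 chkP_10_227 (by norm_num)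
theorem chkP_11_114 : allD P.chkPt 11 233472 = true :=
  allD_join chkP_10_228 chkP_10_229 (by norm_num)
theorem chkP_11_115 : allD P.chkPt 11 235520 = true :=
  allD_join chkP_10_230 chkP_10_231 (by norm_num)
theorem chkP_11_116 : allD P.chkPt 11 237568 = true :=
  allD_join chkP_10_232 chkP_10_233 (by norm_num)
theorem chkP_11_117 : allD P.chkPt 11 239616 = true :=
  allD_join chkP_10_234 chkP_10_235 (by norm_num)
theorem chkP_11_118 : allD P.chkPt 11 241664 = true :=
  allD_join chkP_10_236 chkP_10_237 (by norm_num)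
theorem chkP_11_119 : allD P.chkPt 11 243712 = true :=
  allD_join chkP_10_238 chkP_10_239 (by norm_num)
theorem chkP_11_120 : allD P.chkPt 11 245760 = true :=
  allD_join chkP_10_240 chkP_10_241 (by norm_num)
theorem chkP_11_121 : allD P.chkPt 11 247808 = true :=
  allD_join chkP_10_242 chkP_10_243 (by norm_num)
theorem chkP_11_122 : allD P.chkPt 11 249856 = true :=
  allD_join chkP_10_244 chkP_10_245 (by norm_num)
theorem chkP_11_123 : allD P.chkPt 11 251904 = true :=
  allD_join chkP_10_246 chkP_10_247 (by norm_num)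
theorem chkP_11_124 : allD P.chkPt 11 253952 = true :=
  allD_join chkP_10_248 chkP_10_249 (by norm_num)
theorem chkP_11_125 : allD P.chkPt 11 256000 = true :=
  allD_join chkP_10_250 chkP_10_251 (by norm_num)
theorem chkP_11_126 : allD P.chkPt 11 258048 = true :=
  allD_join chkP_10_252 chkP_10_253 (by norm_num)
theorem chkP_11_127 : allD P.chkPt 11 260096 = true :=
  allD_join chkP_10_254 chkP_10_255 (by norm_num)
theorem chkP_11_128 : allD P.chkPt 11 262144 = true :=
  allD_join chkP_10_256 chkP_10_257 (by norm_num)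
theorem chkP_11_129 : allD P.chkPt 11 264192 = true :=
  allD_join chkP_10_258 chkP_10_259 (by norm_num)
theorem chkP_11_130 : allD P.chkPt 11 266240 = true :=
  allD_join chkP_10_260 chkP_10_261 (by norm_num)
theorem chkP_11_131 : allD P.chkPt 11 268288 = true :=
  allD_join chkP_10_262 chkP_10_263 (by norm_num)
theorem chkP_11_132 : allD P.chkPt 11 270336 = true :=
  allD_join chkP_10_264 chkP_10_265 (by norm_num)
theorem chkP_11_133 : allD P.chkPt 11 272384 = true :=
  allD_join chkP_10_266 chkP_10_267 (by norm_num)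
theorem chkP_11_134 : allD P.chkPt 11 274432 = true :=
  allD_join chkP_10_268 chkP_10_269 (by norm_num)
theorem chkP_11_135 : allD P.chkPt 11 276480 = true :=
  allD_join chkP_10_270 chkP_10_271 (by norm_num)
theorem chkP_11_136 : allD P.chkPt 11 278528 = true :=
  allD_join chkP_10_272 chkP_10_273 (by norm_num)
theorem chkP_11_137 : allD P.chkPt 11 280576 = true :=
  allD_join chkP_10_274 chkP_10_275 (by norm_num)
theorem chkP_11_138 : allD P.chkPt 11 282624 = true :=
  allD_join chkP_10_276 chkP_10_277 (by norm_num)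
theorem chkP_11_139 : allD P.chkPt 11 284672 = true :=
  allD_join chkP_10_278 chkP_10_279 (by norm_num)
theorem chkP_11_140 : allD P.chkPt 11 286720 = true :=
  allD_join chkP_10_280 chkP_10_281 (by norm_num)
theorem chkP_11_141 : allD P.chkPt 11 288768 = true :=
  allD_join chkP_10_282 chkP_10_283 (by norm_num)
theorem chkP_11_142 : allD P.chkPt 11 290816 = true :=
  allD_join chkP_10_284 chkP_10_285 (by norm_num)
theorem chkP_11_143 : allD P.chkPt 11 292864 = true :=
  allD_join chkP_10_286 chkP_10_287 (by norm_num)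
theorem chkP_11_144 : allD P.chkPt 11 294912 = true :=
  allD_join chkP_10_288 chkP_10_289 (by norm_num)
theorem chkP_11_145 : allD P.chkPt 11 296960 = true :=
  allD_join chkP_10_290 chkP_10_291 (by norm_num)
theorem chkP_11_146 : allD P.chkPt 11 299008 = true :=
  allD_join chkP_10_292 chkP_10_293 (by norm_num)
theorem chkP_11_147 : allD P.chkPt 11 301056 = true :=
  allD_join chkP_10_294 chkP_10_295 (by norm_num)
theorem chkP_11_148 : allD P.chkPt 11 303104 = true :=
  allD_join chkP_10_296 chkP_10_297 (by norm_num)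
theorem chkP_11_149 : allD P.chkPt 11 305152 = true :=
  allD_join chkP_10_298 chkP_10_299 (by norm_num)
theorem chkP_11_150 : allD P.chkPt 11 307200 = true :=
  allD_join chkP_10_300 chkP_10_301 (by norm_num)
theorem chkP_11_151 : allD P.chkPt 11 309248 = true :=
  allD_join chkP_10_302 chkP_10_303 (by norm_num)
theorem chkP_11_152 : allD P.chkPt 11 311296 = true :=
  allD_join chkP_10_304 chkP_10_305 (by norm_num)
theorem chkP_11_153 : allD P.chkPt 11 313344 = true :=
  allD_join chkP_10_306 chkP_10_307 (by norm_num)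
theorem chkP_11_154 : allD P.chkPt 11 315392 = true :=
  allD_join chkP_10_308 chkP_10_309 (by norm_num)
theorem chkP_11_155 : allD P.chkPt 11 317440 = true :=
  allD_join chkP_10_310 chkP_10_311 (by norm_num)
theorem chkP_11_156 : allD P.chkPt 11 319488 = true :=
  allD_join chkP_10_312 chkP_10_313 (by norm_num)
theorem chkP_11_157 : allD P.chkPt 11 321536 = true :=
  allD_join chkP_10_314 chkP_10_315 (by norm_num)
theorem chkP_11_158 : allD P.chkPt 11 323584 = true :=
  allD_join chkP_10_316 chkP_10_317 (by norm_num)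
theorem chkP_11_159 : allD P.chkPt 11 325632 = true :=
  allD_join chkP_10_318 chkP_10_319 (by norm_num)
theorem chkP_11_160 : allD P.chkPt 11 327680 = true :=
  allD_join chkP_10_320 chkP_10_321 (by norm_num)
theorem chkP_11_161 : allD P.chkPt 11 329728 = true :=
  allD_join chkP_10_322 chkP_10_323 (by norm_num)
theorem chkP_11_162 : allD P.chkPt 11 331776 = true :=
  allD_join chkP_10_324 chkP_10_325 (by norm_num)
theorem chkP_11_163 : allD P.chkPt 11 333824 = true :=
  allD_join chkP_10_326 chkP_10_327 (by norm_num)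
theorem chkP_11_164 : allD P.chkPt 11 335872 = true :=
  allD_join chkP_10_328 chkP_10_329 (by norm_num)
theorem chkP_11_165 : allD P.chkPt 11 337920 = true :=
  allD_join chkP_10_330 chkP_10_331 (by norm_num)
theorem chkP_11_166 : allD P.chkPt 11 339968 = true :=
  allD_join chkP_10_332 chkP_10_333 (by norm_num)
theorem chkP_11_167 : allD P.chkPt 11 342016 = true :=
  allD_join chkP_10_334 chkP_10_335 (by norm_num)
theorem chkP_11_168 : allD P.chkPt 11 344064 = true :=
  allD_join chkP_10_336 chkP_10_337 (by norm_num)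
theorem chkP_11_169 : allD P.chkPt 11 346112 = true :=
  allD_join chkP_10_338 chkP_10_339 (by norm_num)
theorem chkP_11_170 : allD P.chkPt 11 348160 = true :=
  allD_join chkP_10_340 chkP_10_341 (by norm_num)
theorem chkP_11_171 : allD P.chkPt 11 350208 = true :=
  allD_join chkP_10_342 chkP_10_343 (by norm_num)
theorem chkP_11_172 : allD P.chkPt 11 352256 = true :=
  allD_join chkP_10_344 chkP_10_345 (by norm_num)
theorem chkP_11_173 : allD P.chkPt 11 354304 = true :=
  allD_join chkP_10_346 chkP_10_347 (by norm_num)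
theorem chkP_11_174 : allD P.chkPt 11 356352 = true :=
  allD_join chkP_10_348 chkP_10_349 (by norm_num)
theorem chkP_11_175 : allD P.chkPt 11 358400 = true :=
  allD_join chkP_10_350 chkP_10_351 (by norm_num)
theorem chkP_11_176 : allD P.chkPt 11 360448 = true :=
  allD_join chkP_10_352 chkP_10_353 (by norm_num)
theorem chkP_11_177 : allD P.chkPt 11 362496 = true :=
  allD_join chkP_10_354 chkP_10_355 (by norm_num)
theorem chkP_11_178 : allD P.chkPt 11 364544 = true :=
  allD_join chkP_10_356 chkP_10_357 (by norm_num)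
theorem chkP_11_179 : allD P.chkPt 11 366592 = true :=
  allD_join chkP_10_358 chkP_10_359 (by norm_num)
theorem chkP_11_180 : allD P.chkPt 11 368640 = true :=
  allD_join chkP_10_360 chkP_10_361 (by norm_num)
theorem chkP_11_181 : allD P.chkPt 11 370688 = true :=
  allD_join chkP_10_362 chkP_10_363 (by norm_num)
theorem chkP_11_182 : allD P.chkPt 11 372736 = true :=
  allD_join chkP_10_364 chkP_10_365 (by norm_num)
theorem chkP_11_183 : allD P.chkPt 11 374784 = true :=
  allD_join chkP_10_366 chkP_10_367 (by norm_num)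
theorem chkP_11_184 : allD P.chkPt 11 376832 = true :=
  allD_join chkP_10_368 chkP_10_369 (by norm_num)
theorem chkP_11_185 : allD P.chkPt 11 378880 = true :=
  allD_join chkP_10_370 chkP_10_371 (by norm_num)
theorem chkP_11_186 : allD P.chkPt 11 380928 = true :=
  allD_join chkP_10_372 chkP_10_373 (by norm_num)
theorem chkP_11_187 : allD P.chkPt 11 382976 = true :=
  allD_join chkP_10_374 chkP_10_375 (by norm_num)
theorem chkP_11_188 : allD P.chkPt 11 385024 = true :=
  allD_join chkP_10_376 chkP_10_377 (by norm_num)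
theorem chkP_11_189 : allD P.chkPt 11 387072 = true :=
  allD_join chkP_10_378 chkP_10_379 (by norm_num)
theorem chkP_11_190 : allD P.chkPt 11 389120 = true :=
  allD_join chkP_10_380 chkP_10_381 (by norm_num)
theorem chkP_11_191 : allD P.chkPt 11 391168 = true :=
  allD_join chkP_10_382 chkP_10_383 (by norm_num)
theorem chkP_11_192 : allD P.chkPt 11 393216 = true :=
  allD_join chkP_10_384 chkP_10_385 (by norm_num)
theorem chkP_11_193 : allD P.chkPt 11 395264 = true :=
  allD_join chkP_10_386 chkP_10_387 (by norm_num)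
theorem chkP_11_194 : allD P.chkPt 11 397312 = true :=
  allD_join chkP_10_388 chkP_10_389 (by norm_num)
theorem chkP_11_195 : allD P.chkPt 11 399360 = true :=
  allD_join chkP_10_390 chkP_10_391 (by norm_num)
theorem chkP_11_196 : allD P.chkPt 11 401408 = true :=
  allD_join chkP_10_392 chkP_10_393 (by norm_num)
theorem chkP_11_197 : allD P.chkPt 11 403456 = true :=
  allD_join chkP_10_394 chkP_10_395 (by norm_num)
theorem chkP_11_198 : allD P.chkPt 11 405504 = true :=
  allD_join chkP_10_396 chkP_10_397 (by norm_num)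
theorem chkP_11_199 : allD P.chkPt 11 407552 = true :=
  allD_join chkP_10_398 chkP_10_399 (by norm_num)
theorem chkP_11_200 : allD P.chkPt 11 409600 = true :=
  allD_join chkP_10_400 chkP_10_401 (by norm_num)
theorem chkP_11_201 : allD P.chkPt 11 411648 = true :=
  allD_join chkP_10_402 chkP_10_403 (by norm_num)
theorem chkP_11_202 : allD P.chkPt 11 413696 = true :=
  allD_join chkP_10_404 chkP_10_405 (by norm_num)
theorem chkP_11_203 : allD P.chkPt 11 415744 = true :=
  allD_join chkP_10_406 chkP_10_407 (by norm_num)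
theorem chkP_11_204 : allD P.chkPt 11 417792 = true :=
  allD_join chkP_10_408 chkP_10_409 (by norm_num)
theorem chkP_11_205 : allD P.chkPt 11 419840 = true :=
  allD_join chkP_10_410 chkP_10_411 (by norm_num)
theorem chkP_11_206 : allD P.chkPt 11 421888 = true :=
  allD_join chkP_10_412 chkP_10_413 (by norm_num)
theorem chkP_11_207 : allD P.chkPt 11 423936 = true :=
  allD_join chkP_10_414 chkP_10_415 (by norm_num)
theorem chkP_11_208 : allD P.chkPt 11 425984 = true :=
  allD_join chkP_10_416 chkP_10_417 (by norm_num)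
theorem chkP_11_209 : allD P.chkPt 11 428032 = true :=
  allD_join chkP_10_418 chkP_10_419 (by norm_num)
theorem chkP_11_210 : allD P.chkPt 11 430080 = true :=
  allD_join chkP_10_420 chkP_10_421 (by norm_num)
theorem chkP_11_211 : allD P.chkPt 11 432128 = true :=
  allD_join chkP_10_422 chkP_10_423 (by norm_num)
theorem chkP_11_212 : allD P.chkPt 11 434176 = true :=
  allD_join chkP_10_424 chkP_10_425 (by norm_num)
theorem chkP_11_213 : allD P.chkPt 11 436224 = true :=
  allD_join chkP_10_426 chkP_10_427 (by norm_num)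
theorem chkP_11_214 : allD P.chkPt 11 438272 = true :=
  allD_join chkP_10_428 chkP_10_429 (by norm_num)
theorem chkP_11_215 : allD P.chkPt 11 440320 = true :=
  allD_join chkP_10_430 chkP_10_431 (by norm_num)
theorem chkP_11_216 : allD P.chkPt 11 442368 = true :=
  allD_join chkP_10_432 chkP_10_433 (by norm_num)
theorem chkP_11_217 : allD P.chkPt 11 444416 = true :=
  allD_join chkP_10_434 chkP_10_435 (by norm_num)
theorem chkP_11_218 : allD P.chkPt 11 446464 = true :=
  allD_join chkP_10_436 chkP_10_437 (by norm_num)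
theorem chkP_11_219 : allD P.chkPt 11 448512 = true :=
  allD_join chkP_10_438 chkP_10_439 (by norm_num)
theorem chkP_11_220 : allD P.chkPt 11 450560 = true :=
  allD_join chkP_10_440 chkP_10_441 (by norm_num)
theorem chkP_11_221 : allD P.chkPt 11 452608 = true :=
  allD_join chkP_10_442 chkP_10_443 (by norm_num)
theorem chkP_11_222 : allD P.chkPt 11 454656 = true :=
  allD_join chkP_10_444 chkP_10_445 (by norm_num)
theorem chkP_11_223 : allD P.chkPt 11 456704 = true :=
  allD_join chkP_10_446 chkP_10_447 (by norm_num)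
theorem chkP_11_224 : allD P.chkPt 11 458752 = true :=
  allD_join chkP_10_448 chkP_10_449 (by norm_num)
theorem chkP_11_225 : allD P.chkPt 11 460800 = true :=
  allD_join chkP_10_450 chkP_10_451 (by norm_num)
theorem chkP_11_226 : allD P.chkPt 11 462848 = true :=
  allD_join chkP_10_452 chkP_10_453 (by norm_num)
theorem chkP_11_227 : allD P.chkPt 11 464896 = true :=
  allD_join chkP_10_454 chkP_10_455 (by norm_num)
theorem chkP_11_228 : allD P.chkPt 11 466944 = true :=
  allD_join chkP_10_456 chkP_10_457 (by norm_num)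
theorem chkP_11_229 : allD P.chkPt 11 468992 = true :=
  allD_join chkP_10_458 chkP_10_459 (by norm_num)
theorem chkP_11_230 : allD P.chkPt 11 471040 = true :=
  allD_join chkP_10_460 chkP_10_461 (by norm_num)
theorem chkP_11_231 : allD P.chkPt 11 473088 = true :=
  allD_join chkP_10_462 chkP_10_463 (by norm_num)
theorem chkP_11_232 : allD P.chkPt 11 475136 = true :=
  allD_join chkP_10_464 chkP_10_465 (by norm_num)
theorem chkP_11_233 : allD P.chkPt 11 477184 = true :=
  allD_join chkP_10_466 chkP_10_467 (by norm_num)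
theorem chkP_11_234 : allD P.chkPt 11 479232 = true :=
  allD_join chkP_10_468 chkP_10_469 (by norm_num)
theorem chkP_11_235 : allD P.chkPt 11 481280 = true :=
  allD_join chkP_10_470 chkP_10_471 (by norm_num)
theorem chkP_11_236 : allD P.chkPt 11 483328 = true :=
  allD_join chkP_10_472 chkP_10_473 (by norm_num)
theorem chkP_11_237 : allD P.chkPt 11 485376 = true :=
  allD_join chkP_10_474 chkP_10_475 (by norm_num)
theorem chkP_11_238 : allD P.chkPt 11 487424 = true :=
  allD_join chkP_10_476 chkP_10_477 (by norm_num)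
theorem chkP_11_239 : allD P.chkPt 11 489472 = true :=
  allD_join chkP_10_478 chkP_10_479 (by norm_num)
theorem chkP_11_240 : allD P.chkPt 11 491520 = true :=
  allD_join chkP_10_480 chkP_10_481 (by norm_num)
theorem chkP_11_241 : allD P.chkPt 11 493568 = true :=
  allD_join chkP_10_482 chkP_10_483 (by norm_num)
theorem chkP_11_242 : allD P.chkPt 11 495616 = true :=
  allD_join chkP_10_484 chkP_10_485 (by norm_num)
theorem chkP_11_243 : allD P.chkPt 11 497664 = true :=
  allD_join chkP_10_486 chkP_10_487 (by norm_num)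
theorem chkP_11_244 : allD P.chkPt 11 499712 = true :=
  allD_join chkP_10_488 chkP_10_489 (by norm_num)
theorem chkP_11_245 : allD P.chkPt 11 501760 = true :=
  allD_join chkP_10_490 chkP_10_491 (by norm_num)
theorem chkP_11_246 : allD P.chkPt 11 503808 = true :=
  allD_join chkP_10_492 chkP_10_493 (by norm_num)
theorem chkP_11_247 : allD P.chkPt 11 505856 = true :=
  allD_join chkP_10_494 chkP_10_495 (by norm_num)
theorem chkP_11_248 : allD P.chkPt 11 507904 = true :=
  allD_join chkP_10_496 chkP_10_497 (by norm_num)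
theorem chkP_11_249 : allD P.chkPt 11 509952 = true :=
  allD_join chkP_10_498 chkP_10_499 (by norm_num)
theorem chkP_11_250 : allD P.chkPt 11 512000 = true :=
  allD_join chkP_10_500 chkP_10_501 (by norm_num)
theorem chkP_11_251 : allD P.chkPt 11 514048 = true :=
  allD_join chkP_10_502 chkP_10_503 (by norm_num)
theorem chkP_11_252 : allD P.chkPt 11 516096 = true :=
  allD_join chkP_10_504 chkP_10_505 (by norm_num)
theorem chkP_11_253 : allD P.chkPt 11 518144 = true :=
  allD_join chkP_10_506 chkP_10_507 (by norm_num)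
theorem chkP_11_254 : allD P.chkPt 11 520192 = true :=
  allD_join chkP_10_508 chkP_10_509 (by norm_num)
theorem chkP_11_255 : allD P.chkPt 11 522240 = true :=
  allD_join chkP_10_510 chkP_10_511 (by norm_num)
theorem chkP_12_0 : allD P.chkPt 12 0 = true :=
  allD_join chkP_11_0 chkP_11_1 (by norm_num)
theorem chkP_12_1 : allD P.chkPt 12 4096 = true :=
  allD_join chkP_11_2 chkP_11_3 (by norm_num)
theorem chkP_12_2 : allD P.chkPt 12 8192 = true :=
  allD_join chkP_11_4 chkP_11_5 (by norm_num)
theorem chkP_12_3 : allD P.chkPt 12 12288 = true :=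
  allD_join chkP_11_6 chkP_11_7 (by norm_num)
theorem chkP_12_4 : allD P.chkPt 12 16384 = true :=
  allD_join chkP_11_8 chkP_11_9 (by norm_num)
theorem chkP_12_5 : allD P.chkPt 12 20480 = true :=
  allD_join chkP_11_10 chkP_11_11 (by norm_num)
theorem chkP_12_6 : allD P.chkPt 12 24576 = true :=
  allD_join chkP_11_12 chkP_11_13 (by norm_num)
theorem chkP_12_7 : allD P.chkPt 12 28672 = true :=
  allD_join chkP_11_14 chkP_11_15 (by norm_num)
theorem chkP_12_8 : allD P.chkPt 12 32768 = true :=
  allD_join chkP_11_16 chkP_11_17 (by norm_num)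
theorem chkP_12_9 : allD P.chkPt 12 36864 = true :=
  allD_join chkP_11_18 chkP_11_19 (by norm_num)
theorem chkP_12_10 : allD P.chkPt 12 40960 = true :=
  allD_join chkP_11_20 chkP_11_21 (by norm_num)
theorem chkP_12_11 : allD P.chkPt 12 45056 = true :=
  allD_join chkP_11_22 chkP_11_23 (by norm_num)
theorem chkP_12_12 : allD P.chkPt 12 49152 = true :=
  allD_join chkP_11_24 chkP_11_25 (by norm_num)
theorem chkP_12_13 : allD P.chkPt 12 53248 = true :=
  allD_join chkP_11_26 chkP_11_27 (by norm_num)
theorem chkP_12_14 : allD P.chkPt 12 57344 = true :=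
  allD_join chkP_11_28 chkP_11_29 (by norm_num)
theorem chkP_12_15 : allD P.chkPt 12 61440 = true :=
  allD_join chkP_11_30 chkP_11_31 (by norm_num)
theorem chkP_12_16 : allD P.chkPt 12 65536 = true :=
  allD_join chkP_11_32 chkP_11_33 (by norm_num)
theorem chkP_12_17 : allD P.chkPt 12 69632 = true :=
  allD_join chkP_11_34 chkP_11_35 (by norm_num)
theorem chkP_12_18 : allD P.chkPt 12 73728 = true :=
  allD_join chkP_11_36 chkP_11_37 (by norm_num)
theorem chkP_12_19 : allD P.chkPt 12 77824 = true :=
  allD_join chkP_11_38 chkP_11_39 (by norm_num)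
theorem chkP_12_20 : allD P.chkPt 12 81920 = true :=
  allD_join chkP_11_40 chkP_11_41 (by norm_num)
theorem chkP_12_21 : allD P.chkPt 12 86016 = true :=
  allD_join chkP_11_42 chkP_11_43 (by norm_num)
theorem chkP_12_22 : allD P.chkPt 12 90112 = true :=
  allD_join chkP_11_44 chkP_11_45 (by norm_num)
theorem chkP_12_23 : allD P.chkPt 12 94208 = true :=
  allD_join chkP_11_46 chkP_11_47 (by norm_num)
theorem chkP_12_24 : allD P.chkPt 12 98304 = true :=
  allD_join chkP_11_48 chkP_11_49 (by norm_num)
theorem chkP_12_25 : allD P.chkPt 12 102400 = true :=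
  allD_join chkP_11_50 chkP_11_51 (by norm_num)
theorem chkP_12_26 : allD P.chkPt 12 106496 = true :=
  allD_join chkP_11_52 chkP_11_53 (by norm_num)
theorem chkP_12_27 : allD P.chkPt 12 110592 = true :=
  allD_join chkP_11_54 chkP_11_55 (by norm_num)
theorem chkP_12_28 : allD P.chkPt 12 114688 = true :=
  allD_join chkP_11_56 chkP_11_57 (by norm_num)
theorem chkP_12_29 : allD P.chkPt 12 118784 = true :=
  allD_join chkP_11_58 chkP_11_59 (by norm_num)
theorem chkP_12_30 : allD P.chkPt 12 122880 = true :=
  allD_join chkP_11_60 chkP_11_61 (by norm_num)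
theorem chkP_12_31 : allD P.chkPt 12 126976 = true :=
  allD_join chkP_11_62 chkP_11_63 (by norm_num)
theorem chkP_12_32 : allD P.chkPt 12 131072 = true :=
  allD_join chkP_11_64 chkP_11_65 (by norm_num)
theorem chkP_12_33 : allD P.chkPt 12 135168 = true :=
  allD_join chkP_11_66 chkP_11_67 (by norm_num)
theorem chkP_12_34 : allD P.chkPt 12 139264 = true :=
  allD_join chkP_11_68 chkP_11_69 (by norm_num)
theorem chkP_12_35 : allD P.chkPt 12 143360 = true :=
  allD_join chkP_11_70 chkP_11_71 (by norm_num)
theorem chkP_12_36 : allD P.chkPt 12 147456 = true :=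
  allD_join chkP_11_72 chkP_11_73 (by norm_num)
theorem chkP_12_37 : allD P.chkPt 12 151552 = true :=
  allD_join chkP_11_74 chkP_11_75 (by norm_num)
theorem chkP_12_38 : allD P.chkPt 12 155648 = true :=
  allD_join chkP_11_76 chkP_11_77 (by norm_num)
theorem chkP_12_39 : allD P.chkPt 12 159744 = true :=
  allD_join chkP_11_78 chkP_11_79 (by norm_num)
theorem chkP_12_40 : allD P.chkPt 12 163840 = true :=
  allD_join chkP_11_80 chkP_11_81 (by norm_num)
theorem chkP_12_41 : allD P.chkPt 12 167936 = true :=
  allD_join chkP_11_82 chkP_11_83 (by norm_num)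
theorem chkP_12_42 : allD P.chkPt 12 172032 = true :=
  allD_join chkP_11_84 chkP_11_85 (by norm_num)
theorem chkP_12_43 : allD P.chkPt 12 176128 = true :=
  allD_join chkP_11_86 chkP_11_87 (by norm_num)
theorem chkP_12_44 : allD P.chkPt 12 180224 = true :=
  allD_join chkP_11_88 chkP_11_89 (by norm_num)
theorem chkP_12_45 : allD P.chkPt 12 184320 = true :=
  allD_join chkP_11_90 chkP_11_91 (by norm_num)
theorem chkP_12_46 : allD P.chkPt 12 188416 = true :=
  allD_join chkP_11_92 chkP_11_93 (by norm_num)
theorem chkP_12_47 : allD P.chkPt 12 192512 = true :=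
  allD_join chkP_11_94 chkP_11_95 (by norm_num)
theorem chkP_12_48 : allD P.chkPt 12 196608 = true :=
  allD_join chkP_11_96 chkP_11_97 (by norm_num)
theorem chkP_12_49 : allD P.chkPt 12 200704 = true :=
  allD_join chkP_11_98 chkP_11_99 (by norm_num)
theorem chkP_12_50 : allD P.chkPt 12 204800 = true :=
  allD_join chkP_11_100 chkP_11_101 (by norm_num)
theorem chkP_12_51 : allD P.chkPt 12 208896 = true :=
  allD_join chkP_11_102 chkP_11_103 (by norm_num)
theorem chkP_12_52 : allD P.chkPt 12 212992 = true :=
  allD_join chkP_11_104 chkP_11_105 (by norm_num)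
theorem chkP_12_53 : allD P.chkPt 12 217088 = true :=
  allD_join chkP_11_106 chkP_11_107 (by norm_num)
theorem chkP_12_54 : allD P.chkPt 12 221184 = true :=
  allD_join chkP_11_108 chkP_11_109 (by norm_num)
theorem chkP_12_55 : allD P.chkPt 12 225280 = true :=
  allD_join chkP_11_110 chkP_11_111 (by norm_num)
theorem chkP_12_56 : allD P.chkPt 12 229376 = true :=
  allD_join chkP_11_112 chkP_11_113 (by norm_num)
theorem chkP_12_57 : allD P.chkPt 12 233472 = true :=
  allD_join chkP_11_114 chkP_11_115 (by norm_num)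
theorem chkP_12_58 : allD P.chkPt 12 237568 = true :=
  allD_join chkP_11_116 chkP_11_117 (by norm_num)
theorem chkP_12_59 : allD P.chkPt 12 241664 = true :=
  allD_join chkP_11_118 chkP_11_119 (by norm_num)
theorem chkP_12_60 : allD P.chkPt 12 245760 = true :=
  allD_join chkP_11_120 chkP_11_121 (by norm_num)
theorem chkP_12_61 : allD P.chkPt 12 249856 = true :=
  allD_join chkP_11_122 chkP_11_123 (by norm_num)
theorem chkP_12_62 : allD P.chkPt 12 253952 = true :=
  allD_join chkP_11_124 chkP_11_125 (by norm_num)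
theorem chkP_12_63 : allD P.chkPt 12 258048 = true :=
  allD_join chkP_11_126 chkP_11_127 (by norm_num)
theorem chkP_12_64 : allD P.chkPt 12 262144 = true :=
  allD_join chkP_11_128 chkP_11_129 (by norm_num)
theorem chkP_12_65 : allD P.chkPt 12 266240 = true :=
  allD_join chkP_11_130 chkP_11_131 (by norm_num)
theorem chkP_12_66 : allD P.chkPt 12 270336 = true :=
  allD_join chkP_11_132 chkP_11_133 (by norm_num)
theorem chkP_12_67 : allD P.chkPt 12 274432 = true :=
  allD_join chkP_11_134 chkP_11_135 (by norm_num)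
theorem chkP_12_68 : allD P.chkPt 12 278528 = true :=
  allD_join chkP_11_136 chkP_11_137 (by norm_num)
theorem chkP_12_69 : allD P.chkPt 12 282624 = true :=
  allD_join chkP_11_138 chkP_11_139 (by norm_num)
theorem chkP_12_70 : allD P.chkPt 12 286720 = true :=
  allD_join chkP_11_140 chkP_11_141 (by norm_num)
theorem chkP_12_71 : allD P.chkPt 12 290816 = true :=
  allD_join chkP_11_142 chkP_11_143 (by norm_num)
theorem chkP_12_72 : allD P.chkPt 12 294912 = true :=
  allD_join chkP_11_144 chkP_11_145 (by norm_num)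
theorem chkP_12_73 : allD P.chkPt 12 299008 = true :=
  allD_join chkP_11_146 chkP_11_147 (by norm_num)
theorem chkP_12_74 : allD P.chkPt 12 303104 = true :=
  allD_join chkP_11_148 chkP_11_149 (by norm_num)
theorem chkP_12_75 : allD P.chkPt 12 307200 = true :=
  allD_join chkP_11_150 chkP_11_151 (by norm_num)
theorem chkP_12_76 : allD P.chkPt 12 311296 = true :=
  allD_join chkP_11_152 chkP_11_153 (by norm_num)
theorem chkP_12_77 : allD P.chkPt 12 315392 = true :=
  allD_join chkP_11_154 chkP_11_155 (by norm_num)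
theorem chkP_12_78 : allD P.chkPt 12 319488 = true :=
  allD_join chkP_11_156 chkP_11_157 (by norm_num)
theorem chkP_12_79 : allD P.chkPt 12 323584 = true :=
  allD_join chkP_11_158 chkP_11_159 (by norm_num)
theorem chkP_12_80 : allD P.chkPt 12 327680 = true :=
  allD_join chkP_11_160 chkP_11_161 (by norm_num)
theorem chkP_12_81 : allD P.chkPt 12 331776 = true :=
  allD_join chkP_11_162 chkP_11_163 (by norm_num)
theorem chkP_12_82 : allD P.chkPt 12 335872 = true :=
  allD_join chkP_11_164 chkP_11_165 (by norm_num)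
theorem chkP_12_83 : allD P.chkPt 12 339968 = true :=
  allD_join chkP_11_166 chkP_11_167 (by norm_num)
theorem chkP_12_84 : allD P.chkPt 12 344064 = true :=
  allD_join chkP_11_168 chkP_11_169 (by norm_num)
theorem chkP_12_85 : allD P.chkPt 12 348160 = true :=
  allD_join chkP_11_170 chkP_11_171 (by norm_num)
theorem chkP_12_86 : allD P.chkPt 12 352256 = true :=
  allD_join chkP_11_172 chkP_11_173 (by norm_num)
theorem chkP_12_87 : allD P.chkPt 12 356352 = true :=
  allD_join chkP_11_174 chkP_11_175 (by norm_num)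
theorem chkP_12_88 : allD P.chkPt 12 360448 = true :=
  allD_join chkP_11_176 chkP_11_177 (by norm_num)
theorem chkP_12_89 : allD P.chkPt 12 364544 = true :=
  allD_join chkP_11_178 chkP_11_179 (by norm_num)
theorem chkP_12_90 : allD P.chkPt 12 368640 = true :=
  allD_join chkP_11_180 chkP_11_181 (by norm_num)
theorem chkP_12_91 : allD P.chkPt 12 372736 = true :=
  allD_join chkP_11_182 chkP_11_183 (by norm_num)
theorem chkP_12_92 : allD P.chkPt 12 376832 = true :=
  allD_join chkP_11_184 chkP_11_185 (by norm_num)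
theorem chkP_12_93 : allD P.chkPt 12 380928 = true :=
  allD_join chkP_11_186 chkP_11_187 (by norm_num)
theorem chkP_12_94 : allD P.chkPt 12 385024 = true :=
  allD_join chkP_11_188 chkP_11_189 (by norm_num)
theorem chkP_12_95 : allD P.chkPt 12 389120 = true :=
  allD_join chkP_11_190 chkP_11_191 (by norm_num)
theorem chkP_12_96 : allD P.chkPt 12 393216 = true :=
  allD_join chkP_11_192 chkP_11_193 (by norm_num)
theorem chkP_12_97 : allD P.chkPt 12 397312 = true :=
  allD_join chkP_11_194 chkP_11_195 (by norm_num)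
theorem chkP_12_98 : allD P.chkPt 12 401408 = true :=
  allD_join chkP_11_196 chkP_11_197 (by norm_num)
theorem chkP_12_99 : allD P.chkPt 12 405504 = true :=
  allD_join chkP_11_198 chkP_11_199 (by norm_num)
theorem chkP_12_100 : allD P.chkPt 12 409600 = true :=
  allD_join chkP_11_200 chkP_11_201 (by norm_num)
theorem chkP_12_101 : allD P.chkPt 12 413696 = true :=
  allD_join chkP_11_202 chkP_11_203 (by norm_num)
theorem chkP_12_102 : allD P.chkPt 12 417792 = true :=
  allD_join chkP_11_204 chkP_11_205 (by norm_num)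
theorem chkP_12_103 : allD P.chkPt 12 421888 = true :=
  allD_join chkP_11_206 chkP_11_207 (by norm_num)
theorem chkP_12_104 : allD P.chkPt 12 425984 = true :=
  allD_join chkP_11_208 chkP_11_209 (by norm_num)
theorem chkP_12_105 : allD P.chkPt 12 430080 = true :=
  allD_join chkP_11_210 chkP_11_211 (by norm_num)
theorem chkP_12_106 : allD P.chkPt 12 434176 = true :=
  allD_join chkP_11_212 chkP_11_213 (by norm_num)
theorem chkP_12_107 : allD P.chkPt 12 438272 = true :=
  allD_join chkP_11_214 chkP_11_215 (by norm_num)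
theorem chkP_12_108 : allD P.chkPt 12 442368 = true :=
  allD_join chkP_11_216 chkP_11_217 (by norm_num)
theorem chkP_12_109 : allD P.chkPt 12 446464 = true :=
  allD_join chkP_11_218 chkP_11_219 (by norm_num)
theorem chkP_12_110 : allD P.chkPt 12 450560 = true :=
  allD_join chkP_11_220 chkP_11_221 (by norm_num)
theorem chkP_12_111 : allD P.chkPt 12 454656 = true :=
  allD_join chkP_11_222 chkP_11_223 (by norm_num)
theorem chkP_12_112 : allD P.chkPt 12 458752 = true :=
  allD_join chkP_11_224 chkP_11_225 (by norm_num)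
theorem chkP_12_113 : allD P.chkPt 12 462848 = true :=
  allD_join chkP_11_226 chkP_11_227 (by norm_num)
theorem chkP_12_114 : allD P.chkPt 12 466944 = true :=
  allD_join chkP_11_228 chkP_11_229 (by norm_num)
theorem chkP_12_115 : allD P.chkPt 12 471040 = true :=
  allD_join chkP_11_230 chkP_11_231 (by norm_num)
theorem chkP_12_116 : allD P.chkPt 12 475136 = true :=
  allD_join chkP_11_232 chkP_11_233 (by norm_num)
theorem chkP_12_117 : allD P.chkPt 12 479232 = true :=
  allD_join chkP_11_234 chkP_11_235 (by norm_num)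
theorem chkP_12_118 : allD P.chkPt 12 483328 = true :=
  allD_join chkP_11_236 chkP_11_237 (by norm_num)
theorem chkP_12_119 : allD P.chkPt 12 487424 = true :=
  allD_join chkP_11_238 chkP_11_239 (by norm_num)
theorem chkP_12_120 : allD P.chkPt 12 491520 = true :=
  allD_join chkP_11_240 chkP_11_241 (by norm_num)
theorem chkP_12_121 : allD P.chkPt 12 495616 = true :=
  allD_join chkP_11_242 chkP_11_243 (by norm_num)
theorem chkP_12_122 : allD P.chkPt 12 499712 = true :=
  allD_join chkP_11_244 chkP_11_245 (by norm_num)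
theorem chkP_12_123 : allD P.chkPt 12 503808 = true :=
  allD_join chkP_11_246 chkP_11_247 (by norm_num)
theorem chkP_12_124 : allD P.chkPt 12 507904 = true :=
  allD_join chkP_11_248 chkP_11_249 (by norm_num)
theorem chkP_12_125 : allD P.chkPt 12 512000 = true :=
  allD_join chkP_11_250 chkP_11_251 (by norm_num)
theorem chkP_12_126 : allD P.chkPt 12 516096 = true :=
  allD_join chkP_11_252 chkP_11_253 (by norm_num)
theorem chkP_12_127 : allD P.chkPt 12 520192 = true :=
  allD_join chkP_11_254 chkP_11_255 (by norm_num)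
theorem chkP_13_0 : allD P.chkPt 13 0 = true :=
  allD_join chkP_12_0 chkP_12_1 (by norm_num)
theorem chkP_13_1 : allD P.chkPt 13 8192 = true :=
  allD_join chkP_12_2 chkP_12_3 (by norm_num)
theorem chkP_13_2 : allD P.chkPt 13 16384 = true :=
  allD_join chkP_12_4 chkP_12_5 (by norm_num)
theorem chkP_13_3 : allD P.chkPt 13 24576 = true :=
  allD_join chkP_12_6 chkP_12_7 (by norm_num)
theorem chkP_13_4 : allD P.chkPt 13 32768 = true :=
  allD_join chkP_12_8 chkP_12_9 (by norm_num)
theorem chkP_13_5 : allD P.chkPt 13 40960 = true :=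
  allD_join chkP_12_10 chkP_12_11 (by norm_num)
theorem chkP_13_6 : allD P.chkPt 13 49152 = true :=
  allD_join chkP_12_12 chkP_12_13 (by norm_num)
theorem chkP_13_7 : allD P.chkPt 13 57344 = true :=
  allD_join chkP_12_14 chkP_12_15 (by norm_num)
theorem chkP_13_8 : allD P.chkPt 13 65536 = true :=
  allD_join chkP_12_16 chkP_12_17 (by norm_num)
theorem chkP_13_9 : allD P.chkPt 13 73728 = true :=
  allD_join chkP_12_18 chkP_12_19 (by norm_num)
theorem chkP_13_10 : allD P.chkPt 13 81920 = true :=
  allD_join chkP_12_20 chkP_12_21 (by norm_num)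
theorem chkP_13_11 : allD P.chkPt 13 90112 = true :=
  allD_join chkP_12_22 chkP_12_23 (by norm_num)
theorem chkP_13_12 : allD P.chkPt 13 98304 = true :=
  allD_join chkP_12_24 chkP_12_25 (by norm_num)
theorem chkP_13_13 : allD P.chkPt 13 106496 = true :=
  allD_join chkP_12_26 chkP_12_27 (by norm_num)
theorem chkP_13_14 : allD P.chkPt 13 114688 = true :=
  allD_join chkP_12_28 chkP_12_29 (by norm_num)
theorem chkP_13_15 : allD P.chkPt 13 122880 = true :=
  allD_join chkP_12_30 chkP_12_31 (by norm_num)
theorem chkP_13_16 : allD P.chkPt 13 131072 = true :=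
  allD_join chkP_12_32 chkP_12_33 (by norm_num)
theorem chkP_13_17 : allD P.chkPt 13 139264 = true :=
  allD_join chkP_12_34 chkP_12_35 (by norm_num)
theorem chkP_13_18 : allD P.chkPt 13 147456 = true :=
  allD_join chkP_12_36 chkP_12_37 (by norm_num)
theorem chkP_13_19 : allD P.chkPt 13 155648 = true :=
  allD_join chkP_12_38 chkP_12_39 (by norm_num)
theorem chkP_13_20 : allD P.chkPt 13 163840 = true :=
  allD_join chkP_12_40 chkP_12_41 (by norm_num)
theorem chkP_13_21 : allD P.chkPt 13 172032 = true :=
  allD_join chkP_12_42 chkP_12_43 (by norm_num)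
theorem chkP_13_22 : allD P.chkPt 13 180224 = true :=
  allD_join chkP_12_44 chkP_12_45 (by norm_num)
theorem chkP_13_23 : allD P.chkPt 13 188416 = true :=
  allD_join chkP_12_46 chkP_12_47 (by norm_num)
theorem chkP_13_24 : allD P.chkPt 13 196608 = true :=
  allD_join chkP_12_48 chkP_12_49 (by norm_num)
theorem chkP_13_25 : allD P.chkPt 13 204800 = true :=
  allD_join chkP_12_50 chkP_12_51 (by norm_num)
theorem chkP_13_26 : allD P.chkPt 13 212992 = true :=
  allD_join chkP_12_52 chkP_12_53 (by norm_num)
theorem chkP_13_27 : allD P.chkPt 13 221184 = true :=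
  allD_join chkP_12_54 chkP_12_55 (by norm_num)
theorem chkP_13_28 : allD P.chkPt 13 229376 = true :=
  allD_join chkP_12_56 chkP_12_57 (by norm_num)
theorem chkP_13_29 : allD P.chkPt 13 237568 = true :=
  allD_join chkP_12_58 chkP_12_59 (by norm_num)
theorem chkP_13_30 : allD P.chkPt 13 245760 = true :=
  allD_join chkP_12_60 chkP_12_61 (by norm_num)
theorem chkP_13_31 : allD P.chkPt 13 253952 = true :=
  allD_join chkP_12_62 chkP_12_63 (by norm_num)
theorem chkP_13_32 : allD P.chkPt 13 262144 = true :=
  allD_join chkP_12_64 chkP_12_65 (by norm_num)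
theorem chkP_13_33 : allD P.chkPt 13 270336 = true :=
  allD_join chkP_12_66 chkP_12_67 (by norm_num)
theorem chkP_13_34 : allD P.chkPt 13 278528 = true :=
  allD_join chkP_12_68 chkP_12_69 (by norm_num)
theorem chkP_13_35 : allD P.chkPt 13 286720 = true :=
  allD_join chkP_12_70 chkP_12_71 (by norm_num)
theorem chkP_13_36 : allD P.chkPt 13 294912 = true :=
  allD_join chkP_12_72 chkP_12_73 (by norm_num)
theorem chkP_13_37 : allD P.chkPt 13 303104 = true :=
  allD_join chkP_12_74 chkP_12_75 (by norm_num)
theorem chkP_13_38 : allD P.chkPt 13 311296 = true :=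
  allD_join chkP_12_76 chkP_12_77 (by norm_num)
theorem chkP_13_39 : allD P.chkPt 13 319488 = true :=
  allD_join chkP_12_78 chkP_12_79 (by norm_num)
theorem chkP_13_40 : allD P.chkPt 13 327680 = true :=
  allD_join chkP_12_80 chkP_12_81 (by norm_num)
theorem chkP_13_41 : allD P.chkPt 13 335872 = true :=
  allD_join chkP_12_82 chkP_12_83 (by norm_num)
theorem chkP_13_42 : allD P.chkPt 13 344064 = true :=
  allD_join chkP_12_84 chkP_12_85 (by norm_num)
theorem chkP_13_43 : allD P.chkPt 13 352256 = true :=
  allD_join chkP_12_86 chkP_12_87 (by norm_num)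
theorem chkP_13_44 : allD P.chkPt 13 360448 = true :=
  allD_join chkP_12_88 chkP_12_89 (by norm_num)
theorem chkP_13_45 : allD P.chkPt 13 368640 = true :=
  allD_join chkP_12_90 chkP_12_91 (by norm_num)
theorem chkP_13_46 : allD P.chkPt 13 376832 = true :=
  allD_join chkP_12_92 chkP_12_93 (by norm_num)
theorem chkP_13_47 : allD P.chkPt 13 385024 = true :=
  allD_join chkP_12_94 chkP_12_95 (by norm_num)
theorem chkP_13_48 : allD P.chkPt 13 393216 = true :=
  allD_join chkP_12_96 chkP_12_97 (by norm_num)
theorem chkP_13_49 : allD P.chkPt 13 401408 = true :=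
  allD_join chkP_12_98 chkP_12_99 (by norm_num)
theorem chkP_13_50 : allD P.chkPt 13 409600 = true :=
  allD_join chkP_12_100 chkP_12_101 (by norm_num)
theorem chkP_13_51 : allD P.chkPt 13 417792 = true :=
  allD_join chkP_12_102 chkP_12_103 (by norm_num)
theorem chkP_13_52 : allD P.chkPt 13 425984 = true :=
  allD_join chkP_12_104 chkP_12_105 (by norm_num)
theorem chkP_13_53 : allD P.chkPt 13 434176 = true :=
  allD_join chkP_12_106 chkP_12_107 (by norm_num)
theorem chkP_13_54 : allD P.chkPt 13 442368 = true :=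
  allD_join chkP_12_108 chkP_12_109 (by norm_num)
theorem chkP_13_55 : allD P.chkPt 13 450560 = true :=
  allD_join chkP_12_110 chkP_12_111 (by norm_num)
theorem chkP_13_56 : allD P.chkPt 13 458752 = true :=
  allD_join chkP_12_112 chkP_12_113 (by norm_num)
theorem chkP_13_57 : allD P.chkPt 13 466944 = true :=
  allD_join chkP_12_114 chkP_12_115 (by norm_num)
theorem chkP_13_58 : allD P.chkPt 13 475136 = true :=
  allD_join chkP_12_116 chkP_12_117 (by norm_num)
theorem chkP_13_59 : allD P.chkPt 13 483328 = true :=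
  allD_join chkP_12_118 chkP_12_119 (by norm_num)
theorem chkP_13_60 : allD P.chkPt 13 491520 = true :=
  allD_join chkP_12_120 chkP_12_121 (by norm_num)
theorem chkP_13_61 : allD P.chkPt 13 499712 = true :=
  allD_join chkP_12_122 chkP_12_123 (by norm_num)
theorem chkP_13_62 : allD P.chkPt 13 507904 = true :=
  allD_join chkP_12_124 chkP_12_125 (by norm_num)
theorem chkP_13_63 : allD P.chkPt 13 516096 = true :=
  allD_join chkP_12_126 chkP_12_127 (by norm_num)
theorem chkP_14_0 : allD P.chkPt 14 0 = true :=
  allD_join chkP_13_0 chkP_13_1 (by norm_num)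
theorem chkP_14_1 : allD P.chkPt 14 16384 = true :=
  allD_join chkP_13_2 chkP_13_3 (by norm_num)
theorem chkP_14_2 : allD P.chkPt 14 32768 = true :=
  allD_join chkP_13_4 chkP_13_5 (by norm_num)
theorem chkP_14_3 : allD P.chkPt 14 49152 = true :=
  allD_join chkP_13_6 chkP_13_7 (by norm_num)
theorem chkP_14_4 : allD P.chkPt 14 65536 = true :=
  allD_join chkP_13_8 chkP_13_9 (by norm_num)
theorem chkP_14_5 : allD P.chkPt 14 81920 = true :=
  allD_join chkP_13_10 chkP_13_11 (by norm_num)
theorem chkP_14_6 : allD P.chkPt 14 98304 = true :=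
  allD_join chkP_13_12 chkP_13_13 (by norm_num)
theorem chkP_14_7 : allD P.chkPt 14 114688 = true :=
  allD_join chkP_13_14 chkP_13_15 (by norm_num)
theorem chkP_14_8 : allD P.chkPt 14 131072 = true :=
  allD_join chkP_13_16 chkP_13_17 (by norm_num)
theorem chkP_14_9 : allD P.chkPt 14 147456 = true :=
  allD_join chkP_13_18 chkP_13_19 (by norm_num)
theorem chkP_14_10 : allD P.chkPt 14 163840 = true :=
  allD_join chkP_13_20 chkP_13_21 (by norm_num)
theorem chkP_14_11 : allD P.chkPt 14 180224 = true :=
  allD_join chkP_13_22 chkP_13_23 (by norm_num)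
theorem chkP_14_12 : allD P.chkPt 14 196608 = true :=
  allD_join chkP_13_24 chkP_13_25 (by norm_num)
theorem chkP_14_13 : allD P.chkPt 14 212992 = true :=
  allD_join chkP_13_26 chkP_13_27 (by norm_num)
theorem chkP_14_14 : allD P.chkPt 14 229376 = true :=
  allD_join chkP_13_28 chkP_13_29 (by norm_num)
theorem chkP_14_15 : allD P.chkPt 14 245760 = true :=
  allD_join chkP_13_30 chkP_13_31 (by norm_num)
theorem chkP_14_16 : allD P.chkPt 14 262144 = true :=
  allD_join chkP_13_32 chkP_13_33 (by norm_num)
theorem chkP_14_17 : allD P.chkPt 14 278528 = true :=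
  allD_join chkP_13_34 chkP_13_35 (by norm_num)
theorem chkP_14_18 : allD P.chkPt 14 294912 = true :=
  allD_join chkP_13_36 chkP_13_37 (by norm_num)
theorem chkP_14_19 : allD P.chkPt 14 311296 = true :=
  allD_join chkP_13_38 chkP_13_39 (by norm_num)
theorem chkP_14_20 : allD P.chkPt 14 327680 = true :=
  allD_join chkP_13_40 chkP_13_41 (by norm_num)
theorem chkP_14_21 : allD P.chkPt 14 344064 = true :=
  allD_join chkP_13_42 chkP_13_43 (by norm_num)
theorem chkP_14_22 : allD P.chkPt 14 360448 = true :=
  allD_join chkP_13_44 chkP_13_45 (by norm_num)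
theorem chkP_14_23 : allD P.chkPt 14 376832 = true :=
  allD_join chkP_13_46 chkP_13_47 (by norm_num)
theorem chkP_14_24 : allD P.chkPt 14 393216 = true :=
  allD_join chkP_13_48 chkP_13_49 (by norm_num)
theorem chkP_14_25 : allD P.chkPt 14 409600 = true :=
  allD_join chkP_13_50 chkP_13_51 (by norm_num)
theorem chkP_14_26 : allD P.chkPt 14 425984 = true :=
  allD_join chkP_13_52 chkP_13_53 (by norm_num)
theorem chkP_14_27 : allD P.chkPt 14 442368 = true :=
  allD_join chkP_13_54 chkP_13_55 (by norm_num)
theorem chkP_14_28 : allD P.chkPt 14 458752 = true :=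
  allD_join chkP_13_56 chkP_13_57 (by norm_num)
theorem chkP_14_29 : allD P.chkPt 14 475136 = true :=
  allD_join chkP_13_58 chkP_13_59 (by norm_num)
theorem chkP_14_30 : allD P.chkPt 14 491520 = true :=
  allD_join chkP_13_60 chkP_13_61 (by norm_num)
theorem chkP_14_31 : allD P.chkPt 14 507904 = true :=
  allD_join chkP_13_62 chkP_13_63 (by norm_num)
theorem chkP_15_0 : allD P.chkPt 15 0 = true :=
  allD_join chkP_14_0 chkP_14_1 (by norm_num)
theorem chkP_15_1 : allD P.chkPt 15 32768 = true :=
  allD_join chkP_14_2 chkP_14_3 (by norm_num)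
theorem chkP_15_2 : allD P.chkPt 15 65536 = true :=
  allD_join chkP_14_4 chkP_14_5 (by norm_num)
theorem chkP_15_3 : allD P.chkPt 15 98304 = true :=
  allD_join chkP_14_6 chkP_14_7 (by norm_num)
theorem chkP_15_4 : allD P.chkPt 15 131072 = true :=
  allD_join chkP_14_8 chkP_14_9 (by norm_num)
theorem chkP_15_5 : allD P.chkPt 15 163840 = true :=
  allD_join chkP_14_10 chkP_14_11 (by norm_num)
theorem chkP_15_6 : allD P.chkPt 15 196608 = true :=
  allD_join chkP_14_12 chkP_14_13 (by norm_num)
theorem chkP_15_7 : allD P.chkPt 15 229376 = true :=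
  allD_join chkP_14_14 chkP_14_15 (by norm_num)
theorem chkP_15_8 : allD P.chkPt 15 262144 = true :=
  allD_join chkP_14_16 chkP_14_17 (by norm_num)
theorem chkP_15_9 : allD P.chkPt 15 294912 = true :=
  allD_join chkP_14_18 chkP_14_19 (by norm_num)
theorem chkP_15_10 : allD P.chkPt 15 327680 = true :=
  allD_join chkP_14_20 chkP_14_21 (by norm_num)
theorem chkP_15_11 : allD P.chkPt 15 360448 = true :=
  allD_join chkP_14_22 chkP_14_23 (by norm_num)
theorem chkP_15_12 : allD P.chkPt 15 393216 = true :=
  allD_join chkP_14_24 chkP_14_25 (by norm_num)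
theorem chkP_15_13 : allD P.chkPt 15 425984 = true :=
  allD_join chkP_14_26 chkP_14_27 (by norm_num)
theorem chkP_15_14 : allD P.chkPt 15 458752 = true :=
  allD_join chkP_14_28 chkP_14_29 (by norm_num)
theorem chkP_15_15 : allD P.chkPt 15 491520 = true :=
  allD_join chkP_14_30 chkP_14_31 (by norm_num)
theorem chkP_16_0 : allD P.chkPt 16 0 = true :=
  allD_join chkP_15_0 chkP_15_1 (by norm_num)
theorem chkP_16_1 : allD P.chkPt 16 65536 = true :=
  allD_join chkP_15_2 chkP_15_3 (by norm_num)
theorem chkP_16_2 : allD P.chkPt 16 131072 = true :=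
  allD_join chkP_15_4 chkP_15_5 (by norm_num)
theorem chkP_16_3 : allD P.chkPt 16 196608 = true :=
  allD_join chkP_15_6 chkP_15_7 (by norm_num)
theorem chkP_16_4 : allD P.chkPt 16 262144 = true :=
  allD_join chkP_15_8 chkP_15_9 (by norm_num)
theorem chkP_16_5 : allD P.chkPt 16 327680 = true :=
  allD_join chkP_15_10 chkP_15_11 (by norm_num)
theorem chkP_16_6 : allD P.chkPt 16 393216 = true :=
  allD_join chkP_15_12 chkP_15_13 (by norm_num)
theorem chkP_16_7 : allD P.chkPt 16 458752 = true :=
  allD_join chkP_15_14 chkP_15_15 (by norm_num)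
theorem chkP_17_0 : allD P.chkPt 17 0 = true :=
  allD_join chkP_16_0 chkP_16_1 (by norm_num)
theorem chkP_17_1 : allD P.chkPt 17 131072 = true :=
  allD_join chkP_16_2 chkP_16_3 (by norm_num)
theorem chkP_17_2 : allD P.chkPt 17 262144 = true :=
  allD_join chkP_16_4 chkP_16_5 (by norm_num)
theorem chkP_17_3 : allD P.chkPt 17 393216 = true :=
  allD_join chkP_16_6 chkP_16_7 (by norm_num)
theorem chkP_18_0 : allD P.chkPt 18 0 = true :=
  allD_join chkP_17_0 chkP_17_1 (by norm_num)
theorem chkP_18_1 : allD P.chkPt 18 262144 = true :=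
  allD_join chkP_17_2 chkP_17_3 (by norm_num)
theorem chkP_19_0 : allD P.chkPt 19 0 = true :=
  allD_join chkP_18_0 chkP_18_1 (by norm_num)

theorem hP : P.Valid where
  hn := by decide
  hlen := rfl
  hiv := by decide
  hpt := all_of_allD _ 19 368280 (by norm_num) chkP_19_0
  hmacL := by decide
  hrelL := by decide

end Cfsg.Agent.Lib.Helper35ON3
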