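import Cfsg.Agent.Lib.Helper35ONM

set_option autoImplicit false
set_option maxRecDepth 1000000
set_option maxHeartbeats 0

/-! Local bound at the prime 2 for the Schur multiplier of the O'Nan group (generated certificate). -/

namespace Cfsg.Agent.Lib.Helper35ONMP2

open Cfsg Cfsg.Agent.Lib.Helper63PCDefs Cfsg.Agent.Lib.Helper35ONM

def C : Cert where
  D := { p := 2, n := 9, pwL := [[4, 7], [6, 8], [], [], [], [], [], [], []], cmL := [[], [3, 6, 7, 8], [2, 3, 8], [2, 3], [4, 7], [4, 7], [6, 8], [4, 7], [6, 8], [], [], [2, 4, 6, 8], [3, 6, 7, 8], [2, 4, 8], [3, 6, 7], [], [3, 6, 7], [], [], [], [], [5, 6, 7, 8], [6], [5, 7], [], [5, 6, 7, 8], [], [], [], [], [], [5, 7], [6], [], [8], [], [], [], [], [], [], [5, 7], [], [5, 6,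 7, 8], [], [], [], [], [], [], [], [], [6, 8], [], [], [], [], [], [], [], [], [], [], [], [], [], [], [], [], [], [], [], [], [], [], [], [], [], [], [], []] }
  k := 0
  f := 352
  R := 6
  fus := [([[0, 7], [1, 5, 7, 8], [6, 8]], [[0, 6, 7, 8], [0, 1, 3, 5, 6, 7], [1, 5, 7, 8]]), ([[3, 7], [4], [6], [8]], [[3, 4, 5, 6], [6], [4], [8]]), ([[1, 4, 7], [2, 4], [3, 7], [5, 7], [6], [8]], [[5, 7], [1, 2, 5, 6, 8], [2, 4, 5, 7], [1, 4, 7], [2, 3, 4, 6, 7], [8]])]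
  specs := [(0, [0], [0, 0]),
    (0, [1], [1, 0]),
    (0, [1], [0, 0]),
    (0, [2], [1, 0]),
    (0, [3], [1, 0]),
    (0, [4], [1, 0]),
    (0, [5], [1, 0]),
    (0, [6], [1, 0]),
    (0, [7], [1, 0]),
    (0, [8], [1, 0]),
    (0, [2], [2, 0]),
    (0, [2], [0, 0]),
    (0, [3], [2, 0]),
    (0, [4], [2, 0]),
    (0, [5], [2, 0]),
    (0, [6], [2, 0]),
    (0, [7], [2, 0]),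
    (0, [8], [2, 0]),
    (0, [3], [3, 0]),
    (0, [3], [0, 0]),
    (0, [4], [3, 0]),
    (0, [5], [3, 0]),
    (0, [6], [3, 0]),
    (0, [7], [3, 0]),
    (0, [4], [4, 0]),
    (0, [5], [4, 0]),
    (0, [6], [4, 0]),
    (0, [7], [4, 0]),
    (0, [8], [4, 0]),
    (0, [5], [5, 0]),
    (0, [6], [5, 0]),
    (0, [2], [2, 1]),
    (0, [2], [1, 1]),
    (1, [2, 2], []),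
    (1, [1, 1], []),
    (1, [2, 0, 2, 0], []),
    (2, [2, 2], []),
    (2, [0, 0, 3], []),
    (2, [1, 0, 1, 0, 3], []),
    (3, [4, 4], []),
    (3, [3, 3, 5, 4], []),
    (3, [2, 2, 5], []),
    (3, [0, 0, 5, 4, 3, 5, 4, 2, 5, 1, 4], [])]
  relV := [[0, 0, 0, 0, 1, 0, 0, 1, 0, 0, 0, 0, 0, 0, 0, 0, 0, 0, 0, 0, 0, 0, 0, 0, 0, 0, 0, 0, 0, 0, 0, 0, 0, 0, 0, 0, 0, 0, 0, 0, 1, 0, 0, 0, 0, 0, 0, 0, 0, 0, 0, 0, 0, 0, 0, 0, 0, 0, 0, 0, 0, 0, 0, 0, 0, 0, 0, 0, 0, 0, 1, 0, 0, 0, 0, 0, 0, 0, 0, 0, 0, 0, 0, 0, 0, 0, 0, 0, 0, 0, 0, 0, 0, 0, 0, 0, 0, 0, 0],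
    [0, (-2), 0, 0, 0, 0, 1, 0, 1, 0, 0, 0, (-1), 0, 0, (-1), (-1), (-1), 0, 0, 0, 0, 0, 0, 0, 0, 0, 0, 0, 0, (-2), 0, 0, (-3), (-1), (-3), 0, 0, 0, 0, 0, 0, 0, 0, 0, 0, 0, 0, 0, 0, 0, 0, 0, 0, 0, 0, 0, 0, 0, 0, (-1), (-2), (-1), 0, 0, 0, 0, 0, 0, 0, (-2), (-1), 0, 0, 0, 0, 0, 0, 0, 0, (-1), 0, 0, 0, 0, 0, 0, 0, 0, 0, 0, 0, 0, 0, 0, 0, 0, 0, 0],
    [0, 2, 0, 1, 0, 0, 1, 1, 1, 0, 0, 0, 0, 1, 0, 0, 1, 0, 0, 0, 1, 1, 1, 0, 1, 1, 0, 0, 0, 0, 2, 0, 0, 3, 3, 2, 0, 0, 0, 0, 1, 0, 2, 0, 0, 0, 0, 0, 0, 0, 1, 0, 0, 1, 0, 0, 0, 0, 0, 0, 4, 5, 5, 0, 0, 0, 0, 0, 0, 0, 3, 3, 0, 0, 0, 0, 0, 0, 0, 0, 5, 0, 0, 0, 0, 0, 0, 0, 0, 0, 0, 0, 0, 0, 0, 0, 0, 0, 0],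
    [0, 0, (-1), 0, 1, 0, 1, 0, 1, 0, 0, 1, (-1), 0, 0, 0, 0, (-1), 0, 0, 0, 0, 0, 0, 0, 0, 0, 0, 0, 0, (-1), 0, 0, (-1), (-1), 0, 0, 0, 0, 0, 1, 1, 2, 1, 2, 0, 0, 0, 0, 0, 1, 1, 1, 0, 0, 0, 0, 0, 0, 0, 2, 2, 3, 0, 0, 0, 0, 0, 0, 0, 1, 1, 0, 0, 0, 0, 0, 0, 0, 0, 1, 0, 0, 0, 0, 0, 0, 0, 0, 0, 0, 0, 0, 0, 0, 0, 0, 0, 0],
    [0, 0, 0, (-1), 0, 0, 1, 1, 1, 0, 0, (-1), 1, 0, (-1), 0, (-1), 0, 0, 0, (-1), (-1), 0, 0, 0, 0, 0, 0, 0, 0, (-1), (-3), (-3), (-3), (-3), (-3), 0, 0, 0, 0, 0, 0, 1, 0, 0, 0, 0, 0, 0, 0, (-2), (-1), (-2), (-1), 0, 0, 0, 0, 0, 0, (-3), (-4), (-3), 0, 0, 0, 0, 0, 0, 0, (-2), (-3), 0, 0, 0, 0, 0, 0, 0, 0, (-2), 0, 0, 0, 0, 0, 0, 0, 0, 0, 0, 0, 0, 0, 0, 0, 0, 0, 0],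
    [0, 0, 1, 0, (-1), 0, 1, 0, 1, 0, 0, 0, 0, 1, 0, 0, (-1), 0, 0, 0, 1, 2, 1, 0, 2, 2, 2, 0, 0, 0, 0, 0, 0, 0, 0, 0, 0, 0, 0, 0, 0, 0, 1, 0, 0, 0, 0, 0, 0, 0, 2, 0, 0, 2, 0, 0, 0, 0, 0, 0, 3, 4, 5, 0, 0, 0, 0, 0, 0, 0, 1, 2, 0, 0, 0, 0, 0, 0, 0, 0, 4, 0, 0, 0, 0, 0, 0, 0, 0, 0, 0, 0, 0, 0, 0, 0, 0, 0, 0],
    [0, 0, 0, 1, 0, 0, 0, 1, 0, 0, 0, 0, 0, (-1), 1, 0, 0, 0, 0, 0, 0, 0, (-1), 0, 1, 1, 0, 0, 0, 0, 1, 0, 2, 1, 1, 0, 0, 0, 0, 0, 0, (-1), (-1), 0, 0, 0, 0, 0, 0, 0, 0, 1, 1, 0, 0, 0, 0, 0, 0, 0, 2, 2, 0, 0, 0, 0, 0, 0, 0, 0, 1, 0, 0, 0, 0, 0, 0, 0, 0, 0, 1, 0, 0, 0, 0, 0, 0, 0, 0, 0, 0, 0, 0, 0, 0, 0, 0, 0, 0],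
    [0, 0, 0, 0, 0, 0, 0, 0, 0, 0, 0, 0, 0, 0, 0, 1, 0, (-1), 0, 0, 0, 0, 0, 0, 0, 0, 0, 0, 0, 0, 0, 0, 0, 0, 0, (-1), 0, 0, 0, 0, 0, 0, 0, 0, 0, 0, 0, 0, 0, 0, 0, 0, 0, 0, 0, 0, 0, 0, 0, 0, 0, 2, 1, 0, 0, 0, 0, 0, 0, 0, 0, (-1), 0, 0, 0, 0, 0, 0, 0, 0, 0, 0, 0, 0, 0, 0, 0, 0, 0, 0, 0, 0, 0, 0, 0, 0, 0, 0, 0],
    [0, 0, 0, 1, 0, 0, 1, (-1), 1, 0, 0, 0, 0, (-1), (-1), 0, 0, 0, 0, 0, 0, 0, (-1), 0, 1, 1, 0, 0, 0, 0, 0, 0, (-2), (-1), 1, (-2), 0, 0, 0, 0, (-1), 0, (-1), (-1), 0, 0, 0, 0, 0, 0, 0, 0, 0, (-1), 0, 0, 0, 0, 0, 0, (-1), 0, (-1), 0, 0, 0, 0, 0, 0, 0, (-1), (-2), 0, 0, 0, 0, 0, 0, 0, 0, 1, 0, 0, 0, 0, 0, 0, 0, 0, 0, 0, 0, 0, 0, 0, 0, 0, 0, 0],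
    [0, 0, 0, 0, 0, 0, 0, 0, 0, 0, 0, 0, 0, 0, 0, (-1), 0, 1, 0, 0, 0, 0, 0, 0, 0, 0, 0, 0, 0, 0, 0, 0, 0, (-1), 0, 0, 0, 0, 0, 0, 0, 0, 0, 0, 0, 0, 0, 0, 0, 0, 0, 0, 0, 0, 0, 0, 0, 0, 0, 0, 0, 1, (-1), 0, 0, 0, 0, 0, 0, 0, 0, 0, 0, 0, 0, 0, 0, 0, 0, 0, 0, 0, 0, 0, 0, 0, 0, 0, 0, 0, 0, 0, 0, 0, 0, 0, 0, 0, 0],
    [0, 0, (-2), 0, 0, 0, 0, 0, 0, 0, 0, 0, 0, 0, 0, 0, 0, 0, 0, 0, (-1), (-2), 0, (-1), (-1), (-1), (-1), 0, 0, 0, (-1), 0, 0, 0, 0, (-1), 0, 0, 0, 0, 0, 0, 0, 0, 0, 0, 0, 0, 0, 0, (-2), (-1), (-3), (-2), 0, 0, 0, 0, 0, 0, (-3), (-4), (-1), 0, 0, 0, 0, 0, 0, 0, (-2), (-2), 0, 0, 0, 0, 0, 0, 0, 0, (-4), 0, 0, 0, 0, 0, 0, 0, 0, 0, 0, 0, 0, 0, 0, 0, 0, 0, 0],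
    [0, 0, 1, 1, 0, 0, 0, 0, 1, 0, 0, 0, 0, 0, 0, 0, 0, 0, 0, 0, 1, 1, 1, 1, 0, 0, 1, 0, 0, 0, 1, 2, 1, 1, 1, 1, 0, 0, 0, 0, 0, 1, 1, 1, 1, 0, 0, 0, 0, 0, 3, 2, 3, 1, 0, 0, 0, 0, 0, 0, 4, 8, 3, 0, 0, 0, 0, 0, 0, 0, 3, 0, 0, 0, 0, 0, 0, 0, 0, 0, 4, 0, 0, 0, 0, 0, 0, 0, 0, 0, 0, 0, 0, 0, 0, 0, 0, 0, 0],
    [0, 0, 0, 0, 0, 1, 1, 1, 1, 0, 0, 0, 0, 0, 0, 0, 0, 0, 0, 0, 0, 0, 0, (-2), (-1), (-2), 0, 0, 0, 0, 0, 0, (-2), (-1), (-2), 1, 0, 0, 0, 0, 1, 1, 0, 1, 1, 0, 0, 0, 0, 0, (-1), (-1), 1, 1, 0, 0, 0, 0, 0, 0, 0, 2, 4, 0, 0, 0, 0, 0, 0, 0, 0, 2, 0, 0, 0, 0, 0, 0, 0, 0, 0, 0, 0, 0, 0, 0, 0, 0, 0, 0, 0, 0, 0, 0, 0, 0, 0, 0, 0],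
    [0, 0, 0, 0, 0, 0, 1, 0, 0, 0, 0, 0, 0, 0, 0, 0, 0, 0, 0, 0, 0, 0, 1, (-1), 0, (-1), 0, 0, 0, 0, 0, 0, 0, 0, (-1), 0, 0, 0, 0, 0, 0, 0, 0, 0, 2, 0, 0, 0, 0, 0, (-1), 0, (-1), 0, 0, 0, 0, 0, 0, 0, 0, 0, 1, 0, 0, 0, 0, 0, 0, 0, (-1), 0, 0, 0, 0, 0, 0, 0, 0, 0, (-1), 0, 0, 0, 0, 0, 0, 0, 0, 0, 0, 0, 0, 0, 0, 0, 0, 0, 0],
    [0, 0, 0, 0, 0, (-1), 0, 1, 0, 0, 0, 0, 0, 0, 0, 0, 0, 0, 0, 0, 0, 0, (-2), 1, (-1), 0, 0, 0, 0, 0, 0, (-1), 0, 0, 0, 0, 0, 0, 0, 0, 0, (-1), 0, 1, 1, 0, 0, 0, 0, 0, 0, 0, 1, 0, 0, 0, 0, 0, 0, 0, 0, 2, 1, 0, 0, 0, 0, 0, 0, 0, 0, 3, 0, 0, 0, 0, 0, 0, 0, 0, 1, 0, 0, 0, 0, 0, 0, 0, 0, 0, 0, 0, 0, 0, 0, 0, 0, 0, 0],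
    [0, 0, 0, 0, 0, 0, 0, 0, 0, 0, 0, 0, 0, 0, 0, 0, 0, 0, 0, 0, 0, 0, 0, 0, 1, 0, (-2), 0, 0, 0, 0, 0, 0, 0, 0, (-1), 0, 0, 0, 0, 0, 0, 0, 0, 0, 0, 0, 0, 0, 0, 0, 0, 0, 0, 0, 0, 0, 0, 0, 0, 0, 0, 2, 0, 0, 0, 0, 0, 0, 0, 0, 0, 0, 0, 0, 0, 0, 0, 0, 0, 0, 0, 0, 0, 0, 0, 0, 0, 0, 0, 0, 0, 0, 0, 0, 0, 0, 0, 0],
    [0, 0, 0, 0, 0, 1, 0, (-1), 0, 0, 0, 0, 0, 0, 0, 0, 0, 0, 0, 0, 0, 0, (-2), (-2), 0, (-1), (-1), 0, 0, 0, 0, (-1), (-1), 0, (-1), 0, 0, 0, 0, 0, 0, 1, 0, (-1), 1, 0, 0, 0, 0, 0, (-2), (-6), (-1), 1, 0, 0, 0, 0, 0, 0, (-3), (-2), (-1), 0, 0, 0, 0, 0, 0, 0, (-2), 0, 0, 0, 0, 0, 0, 0, 0, 0, (-2), 0, 0, 0, 0, 0, 0, 0, 0, 0, 0, 0, 0, 0, 0, 0, 0, 0, 0],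
    [0, 0, 0, 0, 0, 0, 0, 0, 0, 0, 0, 0, 0, 0, 0, 0, 0, 0, 0, 0, 0, 0, 0, 0, (-2), 0, 1, 0, 0, 0, 0, 0, 0, (-1), 0, 0, 0, 0, 0, 0, 0, 0, 0, 0, 0, 0, 0, 0, 0, 0, 0, 0, 0, 0, 0, 0, 0, 0, 0, 0, 0, 0, (-1), 0, 0, 0, 0, 0, 0, 0, 0, 0, 0, 0, 0, 0, 0, 0, 0, 0, 0, 0, 0, 0, 0, 0, 0, 0, 0, 0, 0, 0, 0, 0, 0, 0, 0, 0, 0],
    [0, 0, 0, (-2), 0, 0, 0, 0, 0, 0, 0, 0, 0, 0, 0, 0, 0, 0, 0, 0, (-1), (-2), 0, (-1), (-1), (-1), (-1), 0, 0, 0, (-1), 0, (-2), (-1), (-2), (-1), 0, 0, 0, 0, 0, 0, 0, 0, 0, 0, 0, 0, 0, 0, (-2), (-1), (-3), (-2), 0, 0, 0, 0, 0, 0, (-4), (-4), (-1), 0, 0, 0, 0, 0, 0, 0, (-2), (-2), 0, 0, 0, 0, 0, 0, 0, 0, (-4), 0, 0, 0, 0, 0, 0, 0, 0, 0, 0, 0, 0, 0, 0, 0, 0, 0, 0],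
    [0, 0, 1, 1, 0, 1, 0, 1, 0, 0, 0, 0, 0, 0, 0, 0, 0, 0, 0, 0, 1, 1, 2, 1, 1, 1, 0, 0, 0, 0, 1, 1, 1, 1, 2, 1, 0, 0, 0, 0, 1, 0, 0, 0, 0, 0, 0, 0, 0, 0, 2, 3, 1, 0, 0, 0, 0, 0, 0, 0, 3, 3, 1, 0, 0, 0, 0, 0, 0, 0, 3, 1, 0, 0, 0, 0, 0, 0, 0, 0, 3, 0, 0, 0, 0, 0, 0, 0, 0, 0, 0, 0, 0, 0, 0, 0, 0, 0, 0],
    [0, 0, 0, 0, 0, 1, 0, 1, 0, 0, 0, 0, 0, 0, 0, 0, 0, 0, 0, 0, 0, 0, 0, 0, 0, (-1), (-1), 0, 0, 0, 0, 1, 1, 1, (-1), 0, 0, 0, 0, 0, 1, 2, 1, 2, 1, 0, 0, 0, 0, 0, 2, 0, 0, (-1), 0, 0, 0, 0, 0, 0, 1, 1, (-1), 0, 0, 0, 0, 0, 0, 0, 3, (-2), 0, 0, 0, 0, 0, 0, 0, 0, 0, 0, 0, 0, 0, 0, 0, 0, 0, 0, 0, 0, 0, 0, 0, 0, 0, 0, 0],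
    [0, 0, 0, 0, 0, 0, 1, 0, 0, 0, 0, 0, 0, 0, 0, 0, 0, 0, 0, 0, 0, 0, (-1), (-1), 0, (-1), 0, 0, 0, 0, 0, (-2), 2, 0, 1, 1, 0, 0, 0, 0, 0, (-2), 0, 0, 0, 0, 0, 0, 0, 0, (-3), (-2), (-1), (-1), 0, 0, 0, 0, 0, 0, 0, (-2), 2, 0, 0, 0, 0, 0, 0, 0, (-3), 1, 0, 0, 0, 0, 0, 0, 0, 0, 0, 0, 0, 0, 0, 0, 0, 0, 0, 0, 0, 0, 0, 0, 0, 0, 0, 0, 0],
    [0, 0, 0, 0, 0, 0, 0, 0, 0, 0, 0, 0, 0, 0, 0, 0, 0, 0, 0, 0, 0, 0, 0, 0, 0, 0, (-1), 0, 0, 0, 0, 0, 0, 1, 0, 0, 0, 0, 0, 0, 0, 0, 0, 0, 0, 0, 0, 0, 0, 0, 0, 0, 0, 0, 0, 0, 0, 0, 0, 0, 0, 2, 0, 0, 0, 0, 0, 0, 0, 0, 0, 0, 0, 0, 0, 0, 0, 0, 0, 0, 0, 0, 0, 0, 0, 0, 0, 0, 0, 0, 0, 0, 0, 0, 0, 0, 0, 0, 0],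
    [0, 0, 0, 0, 0, 0, 0, 0, 1, 0, 0, 0, 0, 0, 0, 0, 0, 0, 0, 0, 0, 0, (-1), 0, 0, 0, 0, 0, 0, 0, 0, (-2), (-1), 0, 0, 1, 0, 0, 0, 0, 0, 0, (-1), (-2), (-1), 0, 0, 0, 0, 0, (-2), (-1), (-3), 0, 0, 0, 0, 0, 0, 0, (-3), (-9), (-3), 0, 0, 0, 0, 0, 0, 0, (-2), (-3), 0, 0, 0, 0, 0, 0, 0, 0, (-2), 0, 0, 0, 0, 0, 0, 0, 0, 0, 0, 0, 0, 0, 0, 0, 0, 0, 0],
    [0, 0, 0, 0, (-2), 0, 0, 0, 0, 0, 0, 0, 0, 0, 0, 0, 0, 0, 0, 0, 0, 0, 0, 0, 0, 0, 0, 0, 0, 0, 0, 0, 0, 0, 0, 0, 0, 0, 0, 0, (-1), (-1), 0, (-1), 0, 0, 0, 0, 0, 0, (-1), 0, (-1), 0, 0, 0, 0, 0, 0, 0, (-1), (-2), (-1), 0, 0, 0, 0, 0, 0, 0, (-2), (-1), 0, 0, 0, 0, 0, 0, 0, 0, (-1), 0, 0, 0, 0, 0, 0, 0, 0, 0, 0, 0, 0, 0, 0, 0, 0, 0, 0],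
    [0, 0, 0, 0, 0, (-1), 0, 1, 0, 0, 0, 0, 0, 0, 0, 0, 0, 0, 0, 0, 0, 0, 0, 0, 0, 0, 0, 0, 0, 0, 0, 0, 0, 0, 0, 0, 0, 0, 0, 0, 0, 0, 0, 0, 0, 0, 0, 0, 0, 0, 0, 0, 0, 0, 0, 0, 0, 0, 0, 0, 0, 0, 0, 0, 0, 0, 0, 0, 0, 0, 0, 0, 0, 0, 0, 0, 0, 0, 0, 0, 0, 0, 0, 0, 0, 0, 0, 0, 0, 0, 0, 0, 0, 0, 0, 0, 0, 0, 0],
    [0, 0, 0, 0, 0, 0, 0, 0, 0, 0, 0, 0, 0, 0, 0, 0, 0, 0, 0, 0, 0, 0, 0, 0, 0, 0, 0, 0, 0, 0, 0, 0, 0, 0, 0, 0, 0, 0, 0, 0, 0, 0, 1, 0, (-2), 0, 0, 0, 0, 0, 0, 0, 0, 0, 0, 0, 0, 0, 0, 0, 0, 2, 0, 0, 0, 0, 0, 0, 0, 0, 0, (-1), 0, 0, 0, 0, 0, 0, 0, 0, 0, 0, 0, 0, 0, 0, 0, 0, 0, 0, 0, 0, 0, 0, 0, 0, 0, 0, 0],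
    [0, 0, 0, 0, 0, 1, 0, (-1), 0, 0, 0, 0, 0, 0, 0, 0, 0, 0, 0, 0, 0, 0, 0, 0, 0, 0, 0, 0, 0, 0, 0, 0, 0, 0, 0, 0, 0, 0, 0, 0, 0, (-1), 0, (-1), 0, 0, 0, 0, 0, 0, (-1), 0, 1, 0, 0, 0, 0, 0, 0, 0, 0, 1, 0, 0, 0, 0, 0, 0, 0, 0, (-1), 0, 0, 0, 0, 0, 0, 0, 0, 0, 0, 0, 0, 0, 0, 0, 0, 0, 0, 0, 0, 0, 0, 0, 0, 0, 0, 0, 0],
    [0, 0, 0, 0, 0, 0, 0, 0, 0, 0, 0, 0, 0, 0, 0, 0, 0, 0, 0, 0, 0, 0, 0, 0, 0, 0, 0, 0, 0, 0, 0, 0, 0, 0, 0, 0, 0, 0, 0, 0, 0, 0, (-2), 0, 1, 0, 0, 0, 0, 0, 0, 0, 0, 0, 0, 0, 0, 0, 0, 0, 0, 1, 0, 0, 0, 0, 0, 0, 0, 0, 0, 0, 0, 0, 0, 0, 0, 0, 0, 0, 0, 0, 0, 0, 0, 0, 0, 0, 0, 0, 0, 0, 0, 0, 0, 0, 0, 0, 0],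
    [0, 0, 0, 0, 0, (-2), 0, 0, 0, 0, 0, 0, 0, 0, 0, 0, 0, 0, 0, 0, 0, 0, 0, 0, 0, 0, 0, 0, 0, 0, 0, 0, 0, 0, 0, 0, 0, 0, 0, 0, (-1), (-2), 0, 0, 0, 0, 0, 0, 0, 0, (-1), 0, 0, 0, 0, 0, 0, 0, 0, 0, 0, 0, 0, 0, 0, 0, 0, 0, 0, 0, (-2), 0, 0, 0, 0, 0, 0, 0, 0, 0, 0, 0, 0, 0, 0, 0, 0, 0, 0, 0, 0, 0, 0, 0, 0, 0, 0, 0, 0],
    [0, 0, 0, 0, 0, 0, 0, 0, 0, 0, 0, 0, 0, 0, 0, 0, 0, 0, 0, 0, 0, 0, 0, 0, 0, 0, 0, 0, 0, 0, 0, 0, 0, 0, 0, 0, 0, 0, 0, 0, 0, 0, 0, 0, (-1), 0, 0, 0, 0, 0, 0, 1, 0, (-1), 0, 0, 0, 0, 0, 0, 0, 0, 0, 0, 0, 0, 0, 0, 0, 0, 0, (-1), 0, 0, 0, 0, 0, 0, 0, 0, 0, 0, 0, 0, 0, 0, 0, 0, 0, 0, 0, 0, 0, 0, 0, 0, 0, 0, 0],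
    [0, 0, 0, 0, 0, 0, 0, 0, 0, 0, 0, (-2), 0, 0, 0, 0, 0, 0, 0, 0, (-1), 0, (-2), 0, (-1), 0, (-2), 0, 0, 0, 0, 0, 0, 0, 0, 0, 0, 0, 0, 0, (-1), 0, (-1), 0, (-1), 0, 0, 0, 0, 0, 0, 0, 0, 0, 0, 0, 0, 0, 0, 0, (-2), 0, (-1), 0, 0, 0, 0, 0, 0, 0, 0, 0, 0, 0, 0, 0, 0, 0, 0, 0, (-1), 0, 0, 0, 0, 0, 0, 0, 0, 0, 0, 0, 0, 0, 0, 0, 0, 0, 0],
    [0, 0, 0, 0, 0, 0, 0, 0, 0, 0, 0, 1, 0, 1, 0, 1, 0, 1, 0, 0, 1, 0, 1, 0, 1, 0, 1, 0, 0, 0, 0, 0, 0, 0, 0, 0, 0, 0, 0, 0, 1, 0, 1, 0, 2, 0, 0, 0, 0, 0, 0, 0, 0, 0, 0, 0, 0, 0, 0, 0, 1, 0, 0, 0, 0, 0, 0, 0, 0, 0, 0, 0, 0, 0, 0, 0, 0, 0, 0, 0, 1, 0, 0, 0, 0, 0, 0, 0, 0, 0, 0, 0, 0, 0, 0, 0, 0, 0, 0],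
    [0, 0, 0, 0, 0, 0, 0, 0, 0, 0, (-1), 0, 0, 0, (-1), 0, (-1), (-1), 0, 0, 0, 0, 0, 0, 0, 0, 0, 0, 0, 0, (-1), 0, (-2), (-2), 0, (-2), 0, 0, 0, 0, 0, 0, 0, 0, 0, 0, 0, 0, 0, 0, (-1), (-2), (-1), (-1), 0, 0, 0, 0, 0, 0, (-2), (-1), (-1), 0, 0, 0, 0, 0, 0, 0, (-2), (-4), 0, 0, 0, 0, 0, 0, 0, 0, (-1), 0, 0, (-2), 0, 0, 0, 0, 0, 0, 0, 0, 0, 0, 0, 0, 0, 0, 0],
    [(-1), (-1), 0, (-1), 0, (-1), (-1), (-1), 0, 0, 0, 0, 0, (-1), 0, 0, 0, 0, 0, 0, (-1), (-1), (-1), 0, (-1), (-1), 0, 0, 0, 0, (-2), 0, 0, (-3), (-4), (-1), 0, 0, 0, 0, (-2), (-2), (-2), (-2), 0, 0, 0, 0, 0, 0, (-3), (-1), (-1), (-3), 0, 0, 0, 0, 0, 0, (-5), (-5), (-3), 0, 0, 0, 0, 0, 0, 0, (-5), (-2), 0, 0, 0, 0, 0, 0, 0, 0, (-5), 0, (-2), 0, 0, 0, 0, 0, 0, 0, 0, 0, 0,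 0, 0, 0, 0, 0, 0],
    [0, (-1), 0, 0, 0, (-1), 0, (-1), (-1), 0, (-1), 0, (-1), 0, (-1), 0, (-1), (-1), 0, 0, 0, 0, 0, 0, 0, 0, 0, 0, 0, 0, (-2), 0, (-2), (-4), (-2), (-3), 0, 0, 0, 0, (-1), (-2), (-1), (-2), (-2), 0, 0, 0, 0, 0, (-3), (-3), (-2), (-1), 0, 0, 0, 0, 0, 0, (-6), (-8), (-3), 0, 0, 0, 0, 0, 0, 0, (-6), (-6), 0, 0, 0, 0, 0, 0, 0, 0, (-6), (-2), 0, (-2), 0, 0, 0, 0, 0, 0, 0, 0, 0, 0, 0, 0, 0, 0, 0],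
    [0, 0, 0, 0, 0, 0, 0, 0, 0, 0, 0, 0, 0, 0, 0, 0, 0, 0, 0, 0, 0, 0, 0, 0, 0, 0, 0, 0, 0, 0, 0, 0, 0, 0, 0, 0, 0, 0, 0, 0, (-1), 0, 0, 0, 0, 0, 0, 0, 0, 0, 0, 0, 0, 0, 0, 0, 0, 0, 0, 0, 1, 0, 0, 0, 0, 0, 0, 0, 0, 0, 0, 0, 0, 0, 0, 0, 0, 0, 0, 0, 0, 0, 0, 0, 0, 0, 0, 0, 0, (-2), 0, 0, 0, 0, 0, 0, 0, 0, 0],
    [0, 0, 0, 0, 0, 0, 0, 0, 0, 0, 0, 0, 0, 0, 0, 0, 0, 0, 0, 0, 0, 0, 0, 0, 0, 0, 0, 0, 0, 0, 0, (-1), (-1), (-1), 1, 0, 0, 0, 0, 0, (-1), 0, (-1), (-1), (-1), 0, 0, 0, 0, 0, (-2), (-2), (-2), (-1), 0, 0, 0, 0, 0, 0, (-3), (-5), (-4), 0, 0, 0, 0, 0, 0, 0, 0, 0, 0, 0, 0, 0, 0, 0, 0, 0, (-1), 0, 0, 0, 0, 0, 0, (-2), 0, 0, (-1), 0, 0, 0, 0, 0, 0, 0, 0],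
    [0, 0, 0, 0, 0, 0, 0, 0, 0, 0, 0, 0, 0, 0, 0, 0, 0, 0, 0, 0, 0, 0, 0, 0, 0, 0, 0, 0, 0, 0, 0, 0, (-1), (-2), 1, 0, 0, 0, 0, 0, 0, 1, (-2), (-1), (-1), 0, 0, 0, 0, 0, (-1), (-3), (-2), (-1), 0, 0, 0, 0, 0, 0, (-4), (-5), (-4), 0, 0, 0, 0, 0, 0, 0, 1, 0, 0, 0, 0, 0, 0, 0, 0, 0, (-1), 0, 0, 0, 0, 0, 0, (-2), (-2), 0, (-1), 0, 0, 0, 0, 0, 0, 0, 0],
    [0, 0, 0, 0, 0, 0, 0, 0, 0, 0, 0, 0, 0, 0, 0, 0, 0, 0, 0, 0, (-1), (-1), (-1), 0, (-1), (-1), 0, 0, 0, 0, (-1), (-1), 0, (-1), (-1), (-1), 0, 0, 0, 0, (-1), (-2), (-2), (-1), (-1), 0, 0, 0, 0, 0, (-3), (-1), 0, 0, 0, 0, 0, 0, 0, 0, (-2), (-6), 0, 0, 0, 0, 0, 0, 0, 0, (-4), 0, 0, 0, 0, 0, 0, 0, 0, 0, (-2), 0, 0, 0, 0, 0, 0, 0, 0, 0, 0, 0, 0, 0, 0, 0, 0, (-2), 0],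
    [0, 0, 0, 0, 0, 0, 0, 0, 0, 0, (-1), 0, 0, (-1), 0, 0, (-1), 0, 0, 0, (-1), (-1), (-2), 0, (-2), (-1), (-1), 0, 0, 0, (-1), (-1), 0, (-1), (-2), (-1), 0, 0, 0, 0, (-2), (-2), (-4), (-1), (-4), 0, 0, 0, 0, 0, (-2), (-1), 1, 0, 0, 0, 0, 0, 0, 0, (-3), (-6), (-1), 0, 0, 0, 0, 0, 0, 0, (-4), (-1), 0, 0, 0, 0, 0, 0, 0, 0, (-3), 0, 0, 0, 0, 0, 0, 0, 0, 0, 0, 0, 0, 0, 0, 0, (-2), (-1), (-1)],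
    [0, 0, 0, 0, 0, 0, 0, 0, 0, 0, 0, 0, 0, 0, 0, 0, 0, 0, 0, 0, (-1), 0, (-1), (-1), 0, (-1), 0, 0, 0, 0, 1, 0, 0, 0, 1, 0, 0, 0, 0, 0, (-1), (-1), 0, (-1), (-1), 0, 0, 0, 0, 0, (-3), (-4), (-1), 0, 0, 0, 0, 0, 0, 0, (-2), (-1), 0, 0, 0, 0, 0, 0, 0, 0, (-2), 0, 0, 0, 0, 0, 0, 0, 0, 0, (-1), 0, 0, 0, 0, 0, 0, 0, 0, 0, 0, 0, 0, 0, 0, (-2), 0, 0, (-1)],
    [0, 0, 0, 0, 0, 0, 0, 0, 0, 0, 0, (-2), (-1), 0, (-1), (-1), 0, (-1), 0, 0, (-3), (-3), (-1), (-2), (-5), (-3), (-2), 0, 0, 0, (-2), (-4), (-2), (-4), (-2), (-5), 0, 0, 0, 0, (-2), (-4), (-3), (-5), (-3), 0, 0, 0, 0, 0, (-12), (-5), (-11), (-3), 0, 0, 0, 0, 0, 0, (-15), (-28), (-14), 0, 0, 0, 0, 0, 0, 0, (-13), (-11), 0, 0, 0, 0, 0, 0, 0, 0, (-14), 0, 0, 0, 0, 0, 0, 0, 0, 0,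 0, 0, 0, (-2), (-1), (-1), (-1), (-3), (-3)]]
  lam := [[0, 0, 0, 0, 0, 0, 0, 0, 0, 0, 0, 0, 0, 0, 0, 0, 0, 0, 0, 0, 0, 0, 0, 0, 0, 0, 0, 0, 0, 0, 0, 0, 0, 0, 0, 0, 0, 0, 0, 0, 0, 0, 0, 0, 0, 0, 0, 0, 0, 0, 0, 0, 0, 0, 0, 0, 0, 0, 0, 0, 0, 0, 0, 0, 0, 0, 0, 0, 0, 0, 0, 0, 0, 0, 0, 0, 0, 0, 0, 0, 0, 0, 0, 0, 0, 0, 0, 0, 0, 0, 0, 0, 0, 0, 0, 0, 0, 0, 0],
    [0, 0, 0, 0, 0, 0, 0, 0, 0, 0, 0, 0, 0, 0, 0, 0, 0, 0, 0, 0, 0, 0, 0, 0, 0, 0, 0, 0, 0, 0, 0, 0, 0, 0, 0, 0, 0, 0, 0, 0, 0, 0, 0, 0, 0, 0, 0, 0, 0, 0, 0, 0, 0, 0, 0, 0, 0, 0, 0, 0, 0, 0, 0, 0, 0, 0, 0, 0, 0, 0, 0, 0, 0, 0, 0, 0, 0, 0, 0, 0, 0, 0, 0, 0, 0, 0, 0, 0, 0, 0, 0, 0, 0, 0, 0, 0, 0, 0, 0],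
    [0, 0, 0, 0, 0, 0, 0, 1, 0, 0, 0, 0, 0, 0, 0, 0, 1, 0, 0, 0, 0, 0, 0, 0, 0, 0, 0, 0, 0, 0, 0, 0, 0, 0, 1, 0, 0, 0, 0, 0, 0, 0, 0, 0, 0, 0, 0, 0, 0, 0, 0, 0, 1, 0, 0, 0, 0, 0, 0, 0, 0, 0, 0, 0, 0, 0, 0, 0, 0, 0, 0, 0, 0, 0, 0, 0, 0, 0, 0, 0, 0, 0, 0, 0, 0, 0, 0, 0, 0, 0, 0, 0, 0, 0, 0, 0, 0, 1, 0],
    [0, 0, 0, 0, 0, 0, 0, 0, 0, 0, 0, 0, 0, 0, 0, 0, 1, 0, 0, 0, 0, 0, 0, 0, 0, 0, 0, 0, 0, 0, 0, 0, 0, 0, 1, 0, 0, 0, 0, 0, 0, 0, 0, 0, 0, 0, 0, 0, 0, 0, 0, 0, 1, 0, 0, 0, 0, 0, 0, 0, 0, 0, 0, 0, 0, 0, 0, 0, 0, 0, 0, 0, 0, 0, 0, 0, 0, 0, 0, 0, 0, 0, 0, 0, 0, 0, 0, 0, 0, 0, 0, 0, 0, 0, 0, 0, 0, 0, 0],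
    [0, 0, 0, 0, 0, 0, 0, 1, 0, 0, 0, 0, 0, 0, 0, 0, 0, 0, 0, 0, 0, 0, 0, 0, 0, 0, 0, 0, 0, 0, 0, 0, 0, 0, 0, 0, 0, 0, 0, 0, 0, 0, 0, 0, 0, 0, 0, 0, 0, 0, 0, 0, 0, 0, 0, 0, 0, 0, 0, 0, 0, 0, 0, 0, 0, 0, 0, 0, 0, 0, 0, 0, 0, 0, 0, 0, 0, 0, 0, 0, 0, 0, 0, 0, 0, 0, 0, 0, 0, 0, 0, 0, 0, 0, 0, 0, 0, 0, 0],
    [0, 0, 0, 0, 0, 0, 0, 0, 0, 0, 0, 0, 0, 0, 0, 0, 0, 0, 0, 0, 0, 0, 0, 0, 0, 0, 0, 0, 0, 0, 0, 0, 0, 0, 0, 0, 0, 0, 0, 0, 0, 0, 0, 0, 0, 0, 0, 0, 0, 0, 0, 0, 1, 0, 0, 0, 0, 0, 0, 0, 0, 0, 0, 0, 0, 0, 0, 0, 0, 0, 0, 0, 0, 0, 0, 0, 0, 0, 0, 0, 0, 0, 0, 0, 0, 0, 0, 0, 0, 0, 0, 0, 0, 0, 1, 1, 1, 1, 0],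
    [0, 0, 0, 0, 0, 0, 0, 0, 0, 0, 0, 0, 0, 0, 0, 0, 0, 0, 0, 0, 0, 0, 0, 0, 0, 0, 0, 0, 0, 0, 0, 0, 0, 0, 1, 0, 0, 0, 0, 0, 0, 0, 0, 0, 0, 0, 0, 0, 0, 0, 0, 0, 1, 0, 0, 0, 0, 0, 0, 0, 0, 0, 0, 0, 0, 0, 0, 0, 0, 0, 0, 0, 0, 0, 0, 0, 0, 0, 0, 0, 0, 0, 0, 0, 0, 0, 0, 0, 0, 0, 0, 0, 0, 0, 0, 0, 0, 0, 0],
    [0, 0, 0, 0, 0, 0, 0, 0, 0, 0, 0, 0, 0, 0, 0, 0, 0, 0, 0, 0, 0, 0, 0, 0, 0, 0, 0, 0, 0, 0, 0, 0, 0, 0, 0, 0, 0, 0, 0, 0, 0, 0, 0, 0, 0, 0, 0, 0, 0, 0, 0, 0, 0, 0, 0, 0, 0, 0, 0, 0, 0, 0, 0, 0, 0, 0, 0, 0, 0, 0, 0, 0, 0, 0, 0, 0, 0, 0, 0, 0, 0, 0, 0, 0, 0, 0, 0, 0, 0, 0, 0, 0, 0, 0, 0, 0, 0, 0, 0],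
    [0, 0, 0, 0, 0, 0, 0, 0, 0, 0, 0, 0, 0, 0, 0, 0, 0, 0, 0, 0, 0, 0, 0, 0, 0, 0, 0, 0, 0, 0, 0, 0, 0, 0, 1, 0, 0, 0, 0, 0, 0, 0, 0, 0, 0, 0, 0, 0, 0, 0, 0, 0, 0, 0, 0, 0, 0, 0, 0, 0, 0, 0, 0, 0, 0, 0, 0, 0, 0, 0, 0, 0, 0, 0, 0, 0, 0, 0, 0, 0, 0, 0, 0, 0, 0, 0, 0, 0, 0, 0, 0, 0, 0, 0, 0, 0, 0, 0, 0]]
  j0 := 0
  mu := [0, 0, 0, 0, 0, 0, 0, 0, 0, 0, 0, 0, 0, 0, 0, 0, 0, 0, 0, 0, 0, 0, 0, 0, 0, 0, 0, 0, 0, 0, 0, 0, 0, 0, 0, 0, 0, 0, 0, 0, 0, 0, 0, 0, 0, 0, 0, 0, 0, 0, 0, 0, 0, 0, 0, 0, 0, 0, 0, 0, 0, 0, 0, 0, 0, 0, 0, 0, 0, 0, 0, 0, 0, 0, 0, 0, 0, 0, 0, 0, 0]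
  y1 := [[(0, 1), (1, 1), (5, 1), (6, 1), (8, 1), (9, 1), (10, 1), (12, 1), (13, 1), (14, 1), (15, 1), (19, 1), (22, 1), (23, 1), (26, 1), (27, 1), (30, 1), (33, 1), (34, 1), (35, 1), (36, 1)],
    [(0, 1), (2, 1), (4, 1), (5, 1), (6, 1), (7, 1), (12, 1), (16, 1), (17, 1), (18, 1), (19, 1), (23, 1), (25, 1), (26, 1), (27, 1), (28, 1), (31, 1), (32, 1), (33, 1), (35, 1), (39, 1)],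
    [(1, 1), (3, 1), (5, 1), (8, 1), (10, 1), (13, 1), (14, 1), (15, 1), (17, 1), (19, 1), (20, 1), (21, 1), (22, 1), (27, 1), (28, 1), (32, 1), (33, 1), (40, 1), (41, 1)],
    [(0, 1), (2, 1), (3, 1), (4, 1), (13, 1), (14, 1), (16, 1), (19, 1), (23, 1), (24, 1), (25, 1), (28, 1), (29, 1), (31, 1), (33, 1), (36, 1), (37, 1), (38, 1), (40, 1), (41, 1)],
    [(0, 1), (11, 1), (12, 1), (13, 1), (14, 1), (15, 1), (17, 1), (19, 1), (24, 1), (25, 1), (26, 1), (28, 1)],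
    [(25, 1)],
    [(0, 1), (1, 1), (2, 1), (4, 1), (5, 1), (8, 1), (10, 1), (11, 1), (13, 1), (16, 1), (17, 1), (20, 1), (21, 1), (26, 1), (29, 1), (30, 1), (31, 1), (32, 1), (39, 1)],
    [],
    [(1, 1), (4, 1), (7, 1), (8, 1), (9, 1), (11, 1), (14, 1), (16, 1), (19, 1), (20, 1), (21, 1), (23, 1), (25, 1), (26, 1), (27, 1), (28, 1), (31, 1), (32, 1), (39, 1)],
    [],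
    [(2, 1), (3, 1), (4, 1), (5, 1), (6, 1), (7, 1), (8, 1), (9, 1), (11, 1), (12, 1), (17, 1), (19, 1), (23, 1), (24, 1), (25, 1), (26, 1), (27, 1), (29, 1), (31, 1), (33, 1)],
    [(0, 1), (1, 1), (3, 1), (7, 1), (8, 1), (12, 1), (13, 1), (14, 1), (15, 1), (16, 1), (18, 1), (19, 1), (21, 1), (22, 1), (24, 1), (26, 1), (28, 1), (29, 1), (30, 1), (33, 1), (40, 1), (41, 1)],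
    [(1, 1), (7, 1), (12, 1), (15, 1), (17, 1), (22, 1), (24, 1), (25, 1), (30, 1)],
    [(2, 1), (3, 1), (4, 1), (5, 1), (6, 1), (7, 1), (8, 1), (9, 1), (11, 1), (14, 1), (17, 1), (18, 1), (19, 1), (20, 1), (21, 1), (22, 1), (26, 1), (27, 1), (28, 1), (30, 1), (31, 1), (33, 1), (39, 1), (40, 1), (41, 1)],
    [(1, 1), (2, 1), (4, 1), (6, 1), (7, 1), (8, 1), (9, 1), (10, 1), (11, 1), (12, 1), (13, 1), (14, 1), (17, 1), (18, 1), (19, 1), (20, 1), (24, 1), (25, 1), (26, 1), (27, 1), (28, 1), (31, 1), (32, 1)],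
    [(1, 1), (3, 1), (5, 1), (6, 1), (7, 1), (8, 1), (12, 1), (14, 1), (15, 1), (20, 1), (21, 1), (23, 1), (25, 1), (29, 1), (32, 1)],
    [],
    [(0, 1), (1, 1), (2, 1), (3, 1), (6, 1), (8, 1), (10, 1), (11, 1), (13, 1), (15, 1), (16, 1), (17, 1), (20, 1), (21, 1), (23, 1), (24, 1), (25, 1), (27, 1), (29, 1), (32, 1)],
    [],
    [],
    [(0, 1), (2, 1), (5, 1), (10, 1), (12, 1), (13, 1), (14, 1), (17, 1), (19, 1), (23, 1), (24, 1), (26, 1), (27, 1), (29, 1), (31, 1), (36, 1)],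
    [(2, 1), (4, 1), (11, 1), (12, 1), (17, 1), (19, 1), (20, 1), (21, 1), (24, 1), (26, 1), (27, 1), (28, 1), (30, 1), (31, 1), (32, 1), (36, 1), (37, 1), (38, 1), (41, 1), (42, 1)],
    [(0, 1), (1, 1), (2, 1), (4, 1), (5, 1), (6, 1), (10, 1), (11, 1), (14, 1), (15, 1), (16, 1), (17, 1), (18, 1), (23, 1), (24, 1), (25, 1), (27, 1), (28, 1), (29, 1), (32, 1), (39, 1)],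
    [(1, 1), (2, 1), (6, 1), (10, 1), (12, 1), (13, 1), (14, 1), (16, 1), (18, 1), (22, 1), (23, 1), (24, 1), (25, 1), (28, 1), (29, 1), (31, 1), (41, 1), (42, 1)],
    [(0, 1), (2, 1), (5, 1), (10, 1), (11, 1), (15, 1), (23, 1), (24, 1), (26, 1), (29, 1)],
    [(0, 1), (1, 1), (5, 1), (7, 1), (8, 1), (9, 1), (10, 1), (11, 1), (12, 1), (13, 1), (15, 1), (16, 1), (18, 1), (20, 1), (21, 1), (22, 1), (23, 1), (25, 1), (29, 1), (30, 1), (41, 1), (42, 1)],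
    [(12, 1), (13, 1), (14, 1), (20, 1), (23, 1), (25, 1)],
    [],
    [],
    [],
    [(0, 1), (2, 1), (5, 1), (6, 1), (7, 1), (8, 1), (9, 1), (10, 1), (11, 1), (13, 1), (14, 1), (15, 1), (16, 1), (17, 1), (24, 1), (25, 1), (27, 1), (28, 1), (29, 1), (36, 1)],
    [(1, 1), (2, 1), (6, 1), (7, 1), (9, 1), (14, 1), (15, 1), (26, 1), (27, 1), (29, 1), (31, 1), (41, 1), (42, 1)],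
    [(0, 1), (2, 1), (5, 1), (6, 1), (7, 1), (8, 1), (9, 1), (10, 1), (11, 1), (13, 1), (16, 1), (17, 1), (18, 1), (20, 1), (24, 1), (28, 1), (30, 1), (31, 1)],
    [(12, 1), (13, 1), (14, 1), (20, 1), (22, 1), (23, 1), (25, 1)],
    [],
    [(0, 1), (2, 1), (5, 1), (10, 1), (11, 1), (23, 1), (24, 1), (26, 1), (29, 1)],
    [],
    [],
    [],
    [],
    [(10, 1), (12, 1), (13, 1), (14, 1), (18, 1), (20, 1), (22, 1), (23, 1), (25, 1), (36, 1)],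
    [(0, 1), (1, 1), (5, 1), (6, 1), (7, 1), (9, 1), (11, 1), (13, 1), (14, 1), (15, 1), (18, 1), (21, 1), (23, 1), (25, 1), (26, 1), (28, 1), (29, 1), (30, 1), (31, 1), (36, 1), (37, 1), (38, 1), (41, 1), (42, 1)],
    [(12, 1), (13, 1), (14, 1), (16, 1), (22, 1), (23, 1), (27, 1), (29, 1)],
    [(1, 1), (2, 1), (6, 1), (10, 1), (11, 1), (12, 1), (16, 1), (17, 1), (18, 1), (19, 1), (20, 1), (21, 1), (30, 1), (31, 1), (36, 1), (37, 1), (38, 1), (41, 1), (42, 1)],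
    [(0, 1), (2, 1), (5, 1), (7, 1), (9, 1), (10, 1), (11, 1), (16, 1), (20, 1), (23, 1), (24, 1), (25, 1), (27, 1), (28, 1)],
    [],
    [],
    [],
    [],
    [],
    [(10, 1), (12, 1), (13, 1), (14, 1), (18, 1), (20, 1), (22, 1), (23, 1), (25, 1), (29, 1), (36, 1)],
    [(0, 1), (2, 1), (5, 1), (12, 1), (14, 1), (15, 1), (16, 1), (17, 1), (18, 1), (19, 1), (20, 1), (21, 1), (23, 1), (24, 1), (25, 1), (26, 1), (30, 1)],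
    [],
    [(7, 1), (9, 1), (10, 1), (11, 1), (13, 1), (15, 1), (16, 1), (17, 1), (18, 1), (19, 1), (21, 1), (22, 1), (23, 1), (28, 1), (29, 1)],
    [],
    [],
    [],
    [],
    [],
    [],
    [(10, 1), (12, 1), (13, 1), (14, 1), (18, 1), (20, 1), (22, 1), (23, 1), (25, 1)],
    [(0, 1), (2, 1), (5, 1), (7, 1), (9, 1), (10, 1), (11, 1), (16, 1), (20, 1), (23, 1), (24, 1), (25, 1), (27, 1)],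
    [(17, 1), (22, 1)],
    [],
    [],
    [],
    [],
    [],
    [],
    [],
    [(10, 1), (11, 1), (15, 1), (17, 1), (18, 1), (19, 1), (20, 1), (22, 1), (23, 1), (24, 1), (26, 1), (28, 1), (36, 1)],
    [(12, 1), (13, 1), (14, 1), (16, 1), (22, 1), (23, 1), (26, 1), (27, 1), (29, 1)],
    [],
    [],
    [],
    [],
    [],
    [],
    [],
    [],
    [(0, 1), (2, 1), (5, 1), (7, 1), (9, 1), (12, 1), (13, 1), (14, 1), (15, 1), (18, 1), (19, 1), (22, 1), (23, 1), (24, 1), (27, 1), (28, 1), (29, 1)]]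
  y2 := [[(0, 1), (1, 1), (5, 1), (6, 1), (8, 1), (9, 1), (10, 1), (12, 1), (13, 1), (14, 1), (15, 1), (19, 1), (22, 1), (23, 1), (26, 1), (27, 1), (30, 1), (33, 1), (34, 1), (35, 1), (36, 1)],
    [(0, 1), (2, 1), (4, 1), (5, 1), (6, 1), (7, 1), (12, 1), (16, 1), (17, 1), (18, 1), (19, 1), (23, 1), (25, 1), (26, 1), (27, 1), (28, 1), (31, 1), (32, 1), (33, 1), (35, 1), (39, 1)],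
    [(1, 1), (3, 1), (5, 1), (8, 1), (10, 1), (13, 1), (14, 1), (15, 1), (17, 1), (19, 1), (20, 1), (21, 1), (22, 1), (27, 1), (28, 1), (32, 1), (33, 1), (40, 1), (41, 1)],
    [(0, 1), (2, 1), (3, 1), (4, 1), (13, 1), (14, 1), (16, 1), (19, 1), (23, 1), (24, 1), (25, 1), (28, 1), (29, 1), (31, 1), (33, 1), (36, 1), (37, 1), (38, 1), (40, 1), (41, 1)],
    [(0, 1), (11, 1), (12, 1), (13, 1), (14, 1), (15, 1), (17, 1), (19, 1), (24, 1), (25, 1), (26, 1), (28, 1)],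
    [(25, 1)],
    [(0, 1), (1, 1), (2, 1), (4, 1), (5, 1), (8, 1), (10, 1), (11, 1), (13, 1), (16, 1), (17, 1), (20, 1), (21, 1), (26, 1), (29, 1), (30, 1), (31, 1), (32, 1), (39, 1)],
    [],
    [(1, 1), (4, 1), (7, 1), (8, 1), (9, 1), (11, 1), (14, 1), (16, 1), (19, 1), (20, 1), (21, 1), (23, 1), (25, 1), (26, 1), (27, 1), (28, 1), (31, 1), (32, 1), (39, 1)],
    [],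
    [(2, 1), (3, 1), (4, 1), (5, 1), (6, 1), (7, 1), (8, 1), (9, 1), (11, 1), (12, 1), (17, 1), (19, 1), (23, 1), (24, 1), (25, 1), (26, 1), (27, 1), (29, 1), (31, 1), (33, 1)],
    [(0, 1), (1, 1), (3, 1), (7, 1), (8, 1), (12, 1), (13, 1), (14, 1), (15, 1), (16, 1), (18, 1), (19, 1), (21, 1), (22, 1), (24, 1), (26, 1), (28, 1), (29, 1), (30, 1), (33, 1), (40, 1), (41, 1)],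
    [(1, 1), (7, 1), (12, 1), (15, 1), (17, 1), (22, 1), (24, 1), (25, 1), (30, 1)],
    [(2, 1), (3, 1), (4, 1), (5, 1), (6, 1), (7, 1), (8, 1), (9, 1), (11, 1), (14, 1), (17, 1), (18, 1), (19, 1), (20, 1), (21, 1), (22, 1), (26, 1), (27, 1), (28, 1), (30, 1), (31, 1), (33, 1), (39, 1), (40, 1), (41, 1)],
    [(1, 1), (2, 1), (4, 1), (6, 1), (7, 1), (8, 1), (9, 1), (10, 1), (11, 1), (12, 1), (13, 1), (14, 1), (17, 1), (18, 1), (19, 1), (20, 1), (24, 1), (25, 1), (26, 1), (27, 1), (28, 1), (31, 1), (32, 1)],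
    [(1, 1), (3, 1), (5, 1), (6, 1), (7, 1), (8, 1), (12, 1), (14, 1), (15, 1), (20, 1), (21, 1), (23, 1), (25, 1), (29, 1), (32, 1)],
    [],
    [(0, 1), (1, 1), (2, 1), (3, 1), (6, 1), (8, 1), (10, 1), (11, 1), (13, 1), (15, 1), (16, 1), (17, 1), (20, 1), (21, 1), (23, 1), (24, 1), (25, 1), (27, 1), (29, 1), (32, 1)],
    [],
    [],
    [(0, 1), (2, 1), (5, 1), (10, 1), (12, 1), (13, 1), (14, 1), (17, 1), (19, 1), (23, 1), (24, 1), (26, 1), (27, 1), (29, 1), (31, 1), (36, 1)],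
    [(2, 1), (4, 1), (11, 1), (12, 1), (17, 1), (19, 1), (20, 1), (21, 1), (24, 1), (26, 1), (27, 1), (28, 1), (30, 1), (31, 1), (32, 1), (36, 1), (37, 1), (38, 1), (41, 1), (42, 1)],
    [(0, 1), (1, 1), (2, 1), (4, 1), (5, 1), (6, 1), (10, 1), (11, 1), (14, 1), (15, 1), (16, 1), (17, 1), (18, 1), (23, 1), (24, 1), (25, 1), (27, 1), (28, 1), (29, 1), (32, 1), (39, 1)],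
    [(1, 1), (2, 1), (6, 1), (10, 1), (12, 1), (13, 1), (14, 1), (16, 1), (18, 1), (22, 1), (23, 1), (24, 1), (25, 1), (28, 1), (29, 1), (31, 1), (41, 1), (42, 1)],
    [(0, 1), (2, 1), (5, 1), (10, 1), (11, 1), (15, 1), (23, 1), (24, 1), (26, 1), (29, 1)],
    [(0, 1), (1, 1), (5, 1), (7, 1), (8, 1), (9, 1), (10, 1), (11, 1), (12, 1), (13, 1), (15, 1), (16, 1), (18, 1), (20, 1), (21, 1), (22, 1), (23, 1), (25, 1), (29, 1), (30, 1), (41, 1), (42, 1)],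
    [(12, 1), (13, 1), (14, 1), (20, 1), (23, 1), (25, 1)],
    [],
    [],
    [],
    [(0, 1), (2, 1), (5, 1), (6, 1), (7, 1), (8, 1), (9, 1), (10, 1), (11, 1), (13, 1), (14, 1), (15, 1), (16, 1), (17, 1), (24, 1), (25, 1), (27, 1), (28, 1), (29, 1), (36, 1)],
    [(1, 1), (2, 1), (6, 1), (7, 1), (9, 1), (14, 1), (15, 1), (26, 1), (27, 1), (29, 1), (31, 1), (41, 1), (42, 1)],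
    [(0, 1), (2, 1), (5, 1), (6, 1), (7, 1), (8, 1), (9, 1), (10, 1), (11, 1), (13, 1), (16, 1), (17, 1), (18, 1), (20, 1), (24, 1), (28, 1), (30, 1), (31, 1)],
    [(12, 1), (13, 1), (14, 1), (20, 1), (22, 1), (23, 1), (25, 1)],
    [],
    [(0, 1), (2, 1), (5, 1), (10, 1), (11, 1), (23, 1), (24, 1), (26, 1), (29, 1)],
    [],
    [],
    [],
    [],
    [(10, 1), (12, 1), (13, 1), (14, 1), (18, 1), (20, 1), (22, 1), (23, 1), (25, 1), (36, 1)],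
    [(0, 1), (1, 1), (5, 1), (6, 1), (7, 1), (9, 1), (11, 1), (13, 1), (14, 1), (15, 1), (18, 1), (21, 1), (23, 1), (25, 1), (26, 1), (28, 1), (29, 1), (30, 1), (31, 1), (36, 1), (37, 1), (38, 1), (41, 1), (42, 1)],
    [(12, 1), (13, 1), (14, 1), (16, 1), (22, 1), (23, 1), (27, 1), (29, 1)],
    [(1, 1), (2, 1), (6, 1), (10, 1), (11, 1), (12, 1), (16, 1), (17, 1), (18, 1), (19, 1), (20, 1), (21, 1), (30, 1), (31, 1), (36, 1), (37, 1), (38, 1), (41, 1), (42, 1)],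
    [(0, 1), (2, 1), (5, 1), (7, 1), (9, 1), (10, 1), (11, 1), (16, 1), (20, 1), (23, 1), (24, 1), (25, 1), (27, 1), (28, 1)],
    [],
    [],
    [],
    [],
    [],
    [(10, 1), (12, 1), (13, 1), (14, 1), (18, 1), (20, 1), (22, 1), (23, 1), (25, 1), (29, 1), (36, 1)],
    [(0, 1), (2, 1), (5, 1), (12, 1), (14, 1), (15, 1), (16, 1), (17, 1), (18, 1), (19, 1), (20, 1), (21, 1), (23, 1), (24, 1), (25, 1), (26, 1), (30, 1)],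
    [],
    [(7, 1), (9, 1), (10, 1), (11, 1), (13, 1), (15, 1), (16, 1), (17, 1), (18, 1), (19, 1), (21, 1), (22, 1), (23, 1), (28, 1), (29, 1)],
    [],
    [],
    [],
    [],
    [],
    [],
    [(10, 1), (12, 1), (13, 1), (14, 1), (18, 1), (20, 1), (22, 1), (23, 1), (25, 1)],
    [(0, 1), (2, 1), (5, 1), (7, 1), (9, 1), (10, 1), (11, 1), (16, 1), (20, 1), (23, 1), (24, 1), (25, 1), (27, 1)],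
    [(17, 1), (22, 1)],
    [],
    [],
    [],
    [],
    [],
    [],
    [],
    [(10, 1), (11, 1), (15, 1), (17, 1), (18, 1), (19, 1), (20, 1), (22, 1), (23, 1), (24, 1), (26, 1), (28, 1), (36, 1)],
    [(12, 1), (13, 1), (14, 1), (16, 1), (22, 1), (23, 1), (26, 1), (27, 1), (29, 1)],
    [],
    [],
    [],
    [],
    [],
    [],
    [],
    [],
    [(0, 1), (2, 1), (5, 1), (7, 1), (9, 1), (12, 1), (13, 1), (14, 1), (15, 1), (18, 1), (19, 1), (22, 1), (23, 1), (24, 1), (27, 1), (28, 1), (29, 1)]]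

def XW : List (List ℕ) := [[6, 2, 5, 2, 7, 4, 3, 5, 6, 5, 4, 6, 3, 5, 4, 5, 2, 6, 5, 2, 6, 7, 4, 6, 2, 6, 2, 5, 2, 7, 4, 3, 5, 6, 5, 4, 6, 3, 5, 4, 5, 2, 6, 5, 2, 6, 7, 4, 6, 6, 2, 5, 2, 7, 4, 3, 5, 6, 5, 4, 6, 3, 5, 4, 5, 2, 6, 5, 2, 6, 7, 4, 6, 6, 2, 5, 2, 7, 4, 3, 5, 6, 5, 4, 6, 3, 5, 4, 5, 2, 6, 5, 2, 6, 7, 4, 6, 2, 6, 2, 5, 2, 7, 4, 3, 5, 6, 5, 4, 6, 3, 5, 4, 5, 2, 6, 5, 2, 6, 7, 4, 6], [0], [0, 5, 0], [0, 4, 0], [5], [5, 4, 5], [7], [4], [2]]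

def GW : List (List ℕ) := [[0, 6, 3, 0, 5, 4, 5, 6, 4, 0, 0, 3, 1, 4, 5, 4, 3, 5, 6, 7], [7, 6, 5, 0, 4, 0, 6, 4], [6, 5, 4, 1, 6, 5, 1, 6, 4, 0, 5, 4, 1, 6, 5]]

def u : List ℕ := [3, 5, 6, 4, 3, 5, 6, 0]

theorem hC : C.check = true := by decide +kernel

theorem hpc : pcChk XW C.D = true := by decide +kernel

theorem hfus : fusChk XW GW C = true := by decide +kernel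

theorem hinj : injChk XW C.D u = true := by decide +kernel

theorem lb : LocalBound G 2 0 :=
  Cfsg.Agent.Lib.Helper35ONM.lb XW GW C u (by norm_num [C]) hC hpc hfus hinj (by norm_num [C])

end Cfsg.Agent.Lib.Helper35ONMP2
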