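import Cfsg.Agent.Lib.Helper35ONM

set_option autoImplicit false
set_option maxRecDepth 1000000
set_option maxHeartbeats 0

/-! Local bound at the prime 3 for the Schur multiplier of the O'Nan group (generated certificate). -/

namespace Cfsg.Agent.Lib.Helper35ONMP3

open Cfsg Cfsg.Agent.Lib.Helper63PCDefs Cfsg.Agent.Lib.Helper35ONM

def C : Cert where
  D := { p := 3, n := 4, pwL := [[], [], [], []], cmL := [[], [], [], [], [], [], [], [], [], [], [], [], [], [], [], []] }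
  k := 1
  f := 72
  R := 4
  fus := [([[0], [1], [2], [3]], [[1, 1, 3, 3], [0, 2, 2, 3], [2, 3], [2, 3, 3]]), ([[0], [1], [2], [3]], [[0, 1, 1, 2, 2, 3], [0, 0, 1, 1, 2, 2], [0, 0, 1, 1, 3], [1, 2, 2]])]
  specs := [(0, [1, 1], [1, 0]),
    (1, [3, 3, 3], []),
    (1, [2, 2, 2], []),
    (1, [1, 1, 1], []),
    (1, [0, 0, 0], []),
    (1, [1, 0, 1, 1, 0, 0], []),
    (1, [2, 0, 2, 2, 0, 0], []),
    (2, [1, 0, 1, 1, 0, 0], []),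
    (2, [2, 0, 2, 2, 0, 0], []),
    (2, [3, 0, 3, 3, 0, 0], [])]
  relV := [[0, (-3), 0, 0, 0, 0, 0, 0, 0, 0, 0, 0, 0, 0, 0, 0, 0, 0, 0, 0, 0, 0, 0, 0],
    [0, 0, 0, 0, 0, 0, 0, 0, 0, 0, (-1), (-3), 0, 0, 0, (-1), 0, 0, 0, (-3), 0, 0, 0, 0],
    [0, 0, 0, 0, 0, 0, 0, 0, 0, 0, 0, (-3), 0, 0, 0, (-1), 0, 0, (-3), 0, 0, 0, 0, 0],
    [(-1), 0, (-3), (-3), 0, 1, 0, 0, 0, 0, (-2), (-6), 0, 0, 0, (-1), 0, (-3), 0, 0, 0, 0, 0, 0],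
    [1, 0, 0, 0, 0, (-2), 0, (-6), 0, 0, 0, 0, 0, 0, 0, (-2), (-3), 0, 0, 0, 0, 0, 0, 0],
    [0, (-3), (-3), (-1), 0, (-1), (-4), (-8), 0, 0, (-2), (-2), 0, 0, 0, (-3), (-3), (-3), 0, 0, 0, 0, 0, 0],
    [1, 0, 1, 0, 0, (-2), (-2), (-8), 0, 0, 0, (-1), 0, 0, 0, (-3), (-3), 0, (-3), 0, 0, 0, 0, 0],
    [(-2), (-6), (-7), (-7), 0, (-3), (-12), (-10), 0, 0, (-4), (-10), 0, 0, 0, (-1), 0, 0, 0, 0, (-3), (-3), 0, 0],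
    [(-2), (-7), (-10), (-8), 0, (-4), (-14), (-12), 0, 0, (-1), (-8), 0, 0, 0, (-2), 0, 0, 0, 0, (-3), 0, (-3), 0],
    [0, (-4), (-5), (-2), 0, (-3), (-11), (-8), 0, 0, (-4), (-10), 0, 0, 0, 0, 0, 0, 0, 0, (-3), 0, 0, (-3)]]
  lam := [[0, 0, 0, 0, 0, 0, 0, 0, 0, 0, 0, 0, 0, 0, 0, 0, 0, 0, 0, 0, 0, 0, 0, 0],
    [0, 0, 0, 0, 0, 0, 0, 0, 0, 0, 0, 0, 0, 0, 0, 0, 0, 0, 0, 0, 0, 0, 0, 0],
    [0, 0, 0, 0, 0, 0, 0, 0, 0, 0, 0, 0, 0, 0, 0, 0, 0, 0, 0, 0, 0, 0, 0, 0],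
    [0, 0, 0, 0, 0, 0, 0, 0, 0, 0, 0, 0, 0, 0, 0, 0, 0, 0, 0, 0, 0, 0, 0, 0]]
  j0 := 1
  mu := [0, 1, 1, 1, 0, 0, 0, 0, 0, 0, 0, 1, 0, 0, 0, 0]
  y1 := [[(1, 4), (3, 7), (4, 8)],
    [],
    [(1, 2), (3, 1), (4, 5), (5, 3), (6, 8), (7, 4), (8, 2), (9, 2)],
    [(1, 5), (2, 5), (4, 1), (5, 6), (6, 2), (7, 3), (8, 3), (9, 1)],
    [],
    [(1, 2), (2, 1), (3, 8), (4, 8)],
    [(1, 2), (2, 8), (3, 1), (4, 2), (5, 2), (6, 6), (7, 1), (8, 7), (9, 2)],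
    [(1, 6), (2, 5), (3, 5), (5, 2), (6, 5), (7, 1), (8, 8), (9, 1)],
    [],
    [],
    [(1, 8), (2, 7)],
    [(1, 4), (2, 5), (3, 1), (4, 2), (5, 7), (6, 6), (7, 6), (8, 2), (9, 2)],
    [],
    [],
    [],
    [(2, 8)]]
  y2 := [[(1, 3), (3, 3), (4, 6)],
    [(0, 5)],
    [(0, 5), (1, 6), (3, 3), (4, 6), (6, 6), (7, 3), (8, 6), (9, 6)],
    [(0, 5), (1, 6), (2, 6), (4, 3), (6, 6), (9, 3)],
    [],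
    [(1, 6), (2, 3), (3, 6), (4, 6)],
    [(1, 6), (2, 6), (3, 3), (4, 6), (5, 6), (7, 3), (8, 3), (9, 6)],
    [(2, 6), (3, 6), (5, 6), (6, 6), (7, 3), (8, 6), (9, 3)],
    [],
    [],
    [(1, 6), (2, 3)],
    [(0, 5), (1, 3), (2, 6), (3, 3), (4, 6), (5, 3), (8, 6), (9, 6)],
    [],
    [],
    [],
    [(2, 6)]]

def XW : List (List ℕ) := [[7, 6, 5, 3, 1, 6, 3, 4, 3, 1, 5, 3, 6, 7], [7, 6, 5, 2, 3, 4, 5, 6, 0, 0], [1, 6, 7, 5, 6, 0, 5], [5, 2, 6, 5, 2, 6]]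

def GW : List (List ℕ) := [[7, 5, 6, 5, 3, 1, 3, 4, 5, 6, 7], [4, 2, 6, 1, 1, 3, 2, 0, 2, 1, 4, 1, 1, 6, 3, 5, 0, 7, 6, 2, 4, 7, 0, 5, 0, 0, 6, 2, 6, 3, 0, 0, 3, 4, 0, 3, 5, 4, 0, 2, 6, 5, 4, 5, 2, 1, 5, 0, 5, 3, 4, 3, 1, 5, 1, 7, 5, 2, 7, 4, 3, 6, 1, 2, 5, 2, 4, 7, 1, 1, 6, 5, 3, 4, 0, 0, 2, 7, 5, 3]]

def u : List ℕ := [1]

theorem hC : C.check = true := by decide +kernel

theorem hpc : pcChk XW C.D = true := by decide +kernel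

theorem hfus : fusChk XW GW C = true := by decide +kernel

theorem hinj : injChk XW C.D u = true := by decide +kernel

theorem lb : LocalBound G 3 1 :=
  Cfsg.Agent.Lib.Helper35ONM.lb XW GW C u (by norm_num [C]) hC hpc hfus hinj (by norm_num [C])

end Cfsg.Agent.Lib.Helper35ONMP3
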