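import Cfsg.Agent.Lib.Helper35ONM

set_option autoImplicit false
set_option maxRecDepth 1000000
set_option maxHeartbeats 0

/-! Local bound at the prime 7 for the Schur multiplier of the O'Nan group (generated certificate). -/

namespace Cfsg.Agent.Lib.Helper35ONMP7

open Cfsg Cfsg.Agent.Lib.Helper63PCDefs Cfsg.Agent.Lib.Helper35ONM

def C : Cert where
  D := { p := 7, n := 3, pwL := [[], [], []], cmL := [[], [2, 2, 2, 2], [], [], [], [], [], [], []] }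
  k := 0
  f := 323
  R := 3
  fus := [([[0], [1], [2]], [[1, 1, 1, 1, 1, 1, 2, 2, 2, 2, 2], [0], [2]])]
  specs := [(0, [1, 1, 1, 1, 1, 1], [1, 0]),
    (1, [1, 1, 1, 1, 1, 1, 1], []),
    (1, [0, 0, 0, 0, 0, 0, 0], []),
    (1, [2, 0, 2, 2, 2, 2, 2, 2, 0, 0, 0, 0, 0, 0], []),
    (1, [2, 1, 2, 2, 2, 2, 2, 2, 1, 1, 1, 1, 1, 1], [])]
  relV := [[0, (-7), 0, 0, 0, (-21), 0, 0, (-4), 0, 0, 0],
    [(-1), 0, 0, 0, 1, 0, 0, 0, 0, 0, (-7), 0],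
    [1, 0, 0, 0, (-6), (-126), 0, 0, (-5), (-7), 0, 0],
    [1, 0, 1, 0, (-6), (-132), 0, 0, (-5), (-7), 0, (-7)],
    [(-1), 0, (-1), 0, 1, 1, 0, 0, 0, 0, (-7), (-7)]]
  lam := [[0, 0, 0, 0, 0, 0, 0, 0, 0, 0, 0, 0],
    [0, 0, 0, 0, 0, 0, 0, 0, 0, 0, 0, 0],
    [0, 2, 0, 0, 0, 0, 0, 0, 0, 0, 0, 0]]
  j0 := 0
  mu := [0, 0, 0, 0, 0, 0, 0, 0, 0]
  y1 := [[(0, 2), (1, 3), (2, 4)],
    [],
    [(1, 4), (2, 3), (3, 4), (4, 3)],
    [],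
    [(0, 2), (1, 4), (2, 4)],
    [(1, 3), (2, 3), (3, 4), (4, 4)],
    [],
    [],
    [(0, 5)]]
  y2 := [[(0, 2), (1, 3), (2, 4)],
    [],
    [(1, 4), (2, 3), (3, 4), (4, 3)],
    [],
    [(0, 2), (1, 4), (2, 4)],
    [(1, 3), (2, 3), (3, 4), (4, 4)],
    [],
    [],
    [(0, 5)]]

def XW : List (List ℕ) := [[5, 6, 1, 3, 4, 5, 6, 1, 5, 4, 5, 3, 1, 4, 6, 5, 4, 0, 3, 6, 0], [5, 6, 1, 3, 4, 5, 6, 1, 6, 4, 5, 3, 4, 0, 5, 6, 1, 5, 4, 3, 6, 0], [4, 1, 5, 3, 4, 1, 5, 3, 4, 1, 5, 3, 4, 1, 5, 3]]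

def GW : List (List ℕ) := [[4, 0, 5, 2, 3]]

def u : List ℕ := [5]

theorem hC : C.check = true := by decide +kernel

theorem hpc : pcChk XW C.D = true := by decide +kernel

theorem hfus : fusChk XW GW C = true := by decide +kernel

theorem hinj : injChk XW C.D u = true := by decide +kernel

theorem lb : LocalBound G 7 0 :=
  Cfsg.Agent.Lib.Helper35ONM.lb XW GW C u (by norm_num [C]) hC hpc hfus hinj (by norm_num [C])

end Cfsg.Agent.Lib.Helper35ONMP7
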