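import Cfsg.Agent.Lib.Helper35ONaBc0
import Cfsg.Agent.Lib.Helper35ONaBc1

set_option autoImplicit false
set_option maxRecDepth 100000

namespace Cfsg.Agent.Lib.Helper35ONa

open Cfsg.Agent.Lib.Helper35TC

theorem chkB_11_0 : allD (BD.chkB P) 11 0 = true :=
  allD_join chkB_10_0 chkB_10_1 (by norm_num)
theorem chkB_11_1 : allD (BD.chkB P) 11 2048 = true :=
  allD_join chkB_10_2 chkB_10_3 (by norm_num)
theorem chkB_11_2 : allD (BD.chkB P) 11 4096 = true :=
  allD_join chkB_10_4 chkB_10_5 (by norm_num)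
theorem chkB_11_3 : allD (BD.chkB P) 11 6144 = true :=
  allD_join chkB_10_6 chkB_10_7 (by norm_num)
theorem chkB_12_0 : allD (BD.chkB P) 12 0 = true :=
  allD_join chkB_11_0 chkB_11_1 (by norm_num)
theorem chkB_12_1 : allD (BD.chkB P) 12 4096 = true :=
  allD_join chkB_11_2 chkB_11_3 (by norm_num)
theorem chkB_13_0 : allD (BD.chkB P) 13 0 = true :=
  allD_join chkB_12_0 chkB_12_1 (by norm_num)
theorem cntC0 : cntD (BD.claimed 0) 13 0 = 5586 := by decide +kernel
theorem cnt0 : BD.cnt 0 = 5586 := by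
  have h := card_filter_range (BD.claimed 0) 13 5586 (by norm_num) (BD.claimed_lt 0)
  rw [cntC0] at h
  exact h
theorem cntC1 : cntD (BD.claimed 1) 13 0 = 28 := by decide +kernel
theorem cnt1 : BD.cnt 1 = 28 := by
  have h := card_filter_range (BD.claimed 1) 13 5586 (by norm_num) (BD.claimed_lt 1)
  rw [cntC1] at h
  exact h
theorem cntC2 : cntD (BD.claimed 2) 13 0 = 6 := by decide +kernel
theorem cnt2 : BD.cnt 2 = 6 := by
  have h := card_filter_range (BD.claimed 2) 13 5586 (by norm_num) (BD.claimed_lt 2)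
  rw [cntC2] at h
  exact h
theorem cntC3 : cntD (BD.claimed 3) 13 0 = 2 := by decide +kernel
theorem cnt3 : BD.cnt 3 = 2 := by
  have h := card_filter_range (BD.claimed 3) 13 5586 (by norm_num) (BD.claimed_lt 3)
  rw [cntC3] at h
  exact h
theorem cntC4 : cntD (BD.claimed 4) 13 0 = 2 := by decide +kernel
theorem cnt4 : BD.cnt 4 = 2 := by
  have h := card_filter_range (BD.claimed 4) 13 5586 (by norm_num) (BD.claimed_lt 4)
  rw [cntC4] at h
  exact h

theorem hBD : BD.Valid K.P where
  hrow := all_of_allD _ 13 5586 (by norm_num) chkB_13_0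
  hlev := by decide +kernel
  hlen := by decide +kernel
  hLB := by decide +kernel
  hbase := by decide +kernel
  hdefs := by decide +kernel

theorem hprod : (∏ i ∈ Finset.range BD.base.length, BD.cnt i) = 3753792 := by
  have hl : BD.base.length = 5 := rfl
  rw [hl]
  simp only [Finset.prod_range_succ, Finset.prod_range_zero, cnt0, cnt1, cnt2, cnt3, cnt4]
  norm_num

end Cfsg.Agent.Lib.Helper35ONa
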