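import Cfsg.Agent.Lib.Helper35ONa

set_option autoImplicit false
set_option maxRecDepth 100000

namespace Cfsg.Agent.Lib.Helper35ONa

open Cfsg.Agent.Lib.Helper35TC

theorem chkP_9_66 : allD P.chkPt 9 33792 = true := by decide +kernel
theorem chkP_9_67 : allD P.chkPt 9 34304 = true := by decide +kernel
theorem chkP_9_68 : allD P.chkPt 9 34816 = true := by decide +kernel
theorem chkP_9_69 : allD P.chkPt 9 35328 = true := by decide +kernel
theorem chkP_9_70 : allD P.chkPt 9 35840 = true := by decide +kernel
theorem chkP_9_71 : allD P.chkPt 9 36352 = true := by decide +kernel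
theorem chkP_9_72 : allD P.chkPt 9 36864 = true := by decide +kernel
theorem chkP_9_73 : allD P.chkPt 9 37376 = true := by decide +kernel
theorem chkP_9_74 : allD P.chkPt 9 37888 = true := by decide +kernel
theorem chkP_9_75 : allD P.chkPt 9 38400 = true := by decide +kernel
theorem chkP_9_76 : allD P.chkPt 9 38912 = true := by decide +kernel
theorem chkP_9_77 : allD P.chkPt 9 39424 = true := by decide +kernel
theorem chkP_9_78 : allD P.chkPt 9 39936 = true := by decide +kernel
theorem chkP_9_79 : allD P.chkPt 9 40448 = true := by decide +kernel
theorem chkP_9_80 : allD P.chkPt 9 40960 = true := by decide +kernel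
theorem chkP_9_81 : allD P.chkPt 9 41472 = true := by decide +kernel
theorem chkP_9_82 : allD P.chkPt 9 41984 = true := by decide +kernel
theorem chkP_9_83 : allD P.chkPt 9 42496 = true := by decide +kernel
theorem chkP_9_84 : allD P.chkPt 9 43008 = true := by decide +kernel
theorem chkP_9_85 : allD P.chkPt 9 43520 = true := by decide +kernel
theorem chkP_9_86 : allD P.chkPt 9 44032 = true := by decide +kernel

end Cfsg.Agent.Lib.Helper35ONa
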