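import Cfsg.Agent.Lib.Helper35ONa

set_option autoImplicit false
set_option maxRecDepth 100000

namespace Cfsg.Agent.Lib.Helper35ONa

open Cfsg.Agent.Lib.Helper35TC

theorem chkP_9_87 : allD P.chkPt 9 44544 = true := by decide +kernel
theorem chkP_9_88 : allD P.chkPt 9 45056 = true := by decide +kernel
theorem chkP_9_89 : allD P.chkPt 9 45568 = true := by decide +kernel
theorem chkP_9_90 : allD P.chkPt 9 46080 = true := by decide +kernel
theorem chkP_9_91 : allD P.chkPt 9 46592 = true := by decide +kernel
theorem chkP_9_92 : allD P.chkPt 9 47104 = true := by decide +kernel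
theorem chkP_9_93 : allD P.chkPt 9 47616 = true := by decide +kernel
theorem chkP_9_94 : allD P.chkPt 9 48128 = true := by decide +kernel
theorem chkP_9_95 : allD P.chkPt 9 48640 = true := by decide +kernel
theorem chkP_9_96 : allD P.chkPt 9 49152 = true := by decide +kernel
theorem chkP_9_97 : allD P.chkPt 9 49664 = true := by decide +kernel
theorem chkP_9_98 : allD P.chkPt 9 50176 = true := by decide +kernel
theorem chkP_9_99 : allD P.chkPt 9 50688 = true := by decide +kernel
theorem chkP_9_100 : allD P.chkPt 9 51200 = true := by decide +kernel
theorem chkP_9_101 : allD P.chkPt 9 51712 = true := by decide +kernel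
theorem chkP_9_102 : allD P.chkPt 9 52224 = true := by decide +kernel
theorem chkP_9_103 : allD P.chkPt 9 52736 = true := by decide +kernel
theorem chkP_9_104 : allD P.chkPt 9 53248 = true := by decide +kernel
theorem chkP_9_105 : allD P.chkPt 9 53760 = true := by decide +kernel
theorem chkP_9_106 : allD P.chkPt 9 54272 = true := by decide +kernel
theorem chkP_9_107 : allD P.chkPt 9 54784 = true := by decide +kernel

end Cfsg.Agent.Lib.Helper35ONa
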