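import Cfsg.Agent.Lib.Helper35ONa

set_option autoImplicit false
set_option maxRecDepth 100000

namespace Cfsg.Agent.Lib.Helper35ONa

open Cfsg.Agent.Lib.Helper35TC

theorem chkP_9_150 : allD P.chkPt 9 76800 = true := by decide +kernel
theorem chkP_9_151 : allD P.chkPt 9 77312 = true := by decide +kernel
theorem chkP_9_152 : allD P.chkPt 9 77824 = true := by decide +kernel
theorem chkP_9_153 : allD P.chkPt 9 78336 = true := by decide +kernel
theorem chkP_9_154 : allD P.chkPt 9 78848 = true := by decide +kernel
theorem chkP_9_155 : allD P.chkPt 9 79360 = true := by decide +kernel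
theorem chkP_9_156 : allD P.chkPt 9 79872 = true := by decide +kernel
theorem chkP_9_157 : allD P.chkPt 9 80384 = true := by decide +kernel
theorem chkP_9_158 : allD P.chkPt 9 80896 = true := by decide +kernel
theorem chkP_9_159 : allD P.chkPt 9 81408 = true := by decide +kernel
theorem chkP_9_160 : allD P.chkPt 9 81920 = true := by decide +kernel
theorem chkP_9_161 : allD P.chkPt 9 82432 = true := by decide +kernel
theorem chkP_9_162 : allD P.chkPt 9 82944 = true := by decide +kernel
theorem chkP_9_163 : allD P.chkPt 9 83456 = true := by decide +kernel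
theorem chkP_9_164 : allD P.chkPt 9 83968 = true := by decide +kernel
theorem chkP_9_165 : allD P.chkPt 9 84480 = true := by decide +kernel
theorem chkP_9_166 : allD P.chkPt 9 84992 = true := by decide +kernel
theorem chkP_9_167 : allD P.chkPt 9 85504 = true := by decide +kernel
theorem chkP_9_168 : allD P.chkPt 9 86016 = true := by decide +kernel
theorem chkP_9_169 : allD P.chkPt 9 86528 = true := by decide +kernel
theorem chkP_9_170 : allD P.chkPt 9 87040 = true := by decide +kernel

end Cfsg.Agent.Lib.Helper35ONa
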