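import Cfsg.Agent.Lib.Helper35ONa

set_option autoImplicit false
set_option maxRecDepth 100000

namespace Cfsg.Agent.Lib.Helper35ONa

open Cfsg.Agent.Lib.Helper35TC

theorem chkP_9_171 : allD P.chkPt 9 87552 = true := by decide +kernel
theorem chkP_9_172 : allD P.chkPt 9 88064 = true := by decide +kernel
theorem chkP_9_173 : allD P.chkPt 9 88576 = true := by decide +kernel
theorem chkP_9_174 : allD P.chkPt 9 89088 = true := by decide +kernel
theorem chkP_9_175 : allD P.chkPt 9 89600 = true := by decide +kernel
theorem chkP_9_176 : allD P.chkPt 9 90112 = true := by decide +kernel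
theorem chkP_9_177 : allD P.chkPt 9 90624 = true := by decide +kernel
theorem chkP_9_178 : allD P.chkPt 9 91136 = true := by decide +kernel
theorem chkP_9_179 : allD P.chkPt 9 91648 = true := by decide +kernel
theorem chkP_9_180 : allD P.chkPt 9 92160 = true := by decide +kernel
theorem chkP_9_181 : allD P.chkPt 9 92672 = true := by decide +kernel
theorem chkP_9_182 : allD P.chkPt 9 93184 = true := by decide +kernel
theorem chkP_9_183 : allD P.chkPt 9 93696 = true := by decide +kernel
theorem chkP_9_184 : allD P.chkPt 9 94208 = true := by decide +kernel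
theorem chkP_9_185 : allD P.chkPt 9 94720 = true := by decide +kernel
theorem chkP_9_186 : allD P.chkPt 9 95232 = true := by decide +kernel
theorem chkP_9_187 : allD P.chkPt 9 95744 = true := by decide +kernel
theorem chkP_9_188 : allD P.chkPt 9 96256 = true := by decide +kernel
theorem chkP_9_189 : allD P.chkPt 9 96768 = true := by decide +kernel
theorem chkP_9_190 : allD P.chkPt 9 97280 = true := by decide +kernel
theorem chkP_9_191 : allD P.chkPt 9 97792 = true := by decide +kernel

end Cfsg.Agent.Lib.Helper35ONa
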