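import Cfsg.Agent.Lib.Helper35ONa

set_option autoImplicit false
set_option maxRecDepth 100000

namespace Cfsg.Agent.Lib.Helper35ONa

open Cfsg.Agent.Lib.Helper35TC

theorem chkP_9_192 : allD P.chkPt 9 98304 = true := by decide +kernel
theorem chkP_9_193 : allD P.chkPt 9 98816 = true := by decide +kernel
theorem chkP_9_194 : allD P.chkPt 9 99328 = true := by decide +kernel
theorem chkP_9_195 : allD P.chkPt 9 99840 = true := by decide +kernel
theorem chkP_9_196 : allD P.chkPt 9 100352 = true := by decide +kernel
theorem chkP_9_197 : allD P.chkPt 9 100864 = true := by decide +kernel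
theorem chkP_9_198 : allD P.chkPt 9 101376 = true := by decide +kernel
theorem chkP_9_199 : allD P.chkPt 9 101888 = true := by decide +kernel
theorem chkP_9_200 : allD P.chkPt 9 102400 = true := by decide +kernel
theorem chkP_9_201 : allD P.chkPt 9 102912 = true := by decide +kernel
theorem chkP_9_202 : allD P.chkPt 9 103424 = true := by decide +kernel
theorem chkP_9_203 : allD P.chkPt 9 103936 = true := by decide +kernel
theorem chkP_9_204 : allD P.chkPt 9 104448 = true := by decide +kernel
theorem chkP_9_205 : allD P.chkPt 9 104960 = true := by decide +kernel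
theorem chkP_9_206 : allD P.chkPt 9 105472 = true := by decide +kernel
theorem chkP_9_207 : allD P.chkPt 9 105984 = true := by decide +kernel
theorem chkP_9_208 : allD P.chkPt 9 106496 = true := by decide +kernel
theorem chkP_9_209 : allD P.chkPt 9 107008 = true := by decide +kernel
theorem chkP_9_210 : allD P.chkPt 9 107520 = true := by decide +kernel
theorem chkP_9_211 : allD P.chkPt 9 108032 = true := by decide +kernel
theorem chkP_9_212 : allD P.chkPt 9 108544 = true := by decide +kernel

end Cfsg.Agent.Lib.Helper35ONa
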