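import Cfsg.Agent.Lib.Helper35ONa

set_option autoImplicit false
set_option maxRecDepth 100000

namespace Cfsg.Agent.Lib.Helper35ONa

open Cfsg.Agent.Lib.Helper35TC

theorem chkP_9_255 : allD P.chkPt 9 130560 = true := by decide +kernel
theorem chkO_11_0 : allD P.chkOrb 11 0 = true := by decide +kernel
theorem chkO_11_1 : allD P.chkOrb 11 2048 = true := by decide +kernel
theorem chkO_11_2 : allD P.chkOrb 11 4096 = true := by decide +kernel
theorem chkO_11_3 : allD P.chkOrb 11 6144 = true := by decide +kernel
theorem chkO_11_4 : allD P.chkOrb 11 8192 = true := by decide +kernel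
theorem chkO_11_5 : allD P.chkOrb 11 10240 = true := by decide +kernel
theorem chkO_11_6 : allD P.chkOrb 11 12288 = true := by decide +kernel
theorem chkO_11_7 : allD P.chkOrb 11 14336 = true := by decide +kernel
theorem chkO_11_8 : allD P.chkOrb 11 16384 = true := by decide +kernel
theorem chkO_11_9 : allD P.chkOrb 11 18432 = true := by decide +kernel
theorem chkO_11_10 : allD P.chkOrb 11 20480 = true := by decide +kernel
theorem chkO_11_11 : allD P.chkOrb 11 22528 = true := by decide +kernel
theorem chkO_11_12 : allD P.chkOrb 11 24576 = true := by decide +kernel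
theorem chkO_11_13 : allD P.chkOrb 11 26624 = true := by decide +kernel
theorem chkO_11_14 : allD P.chkOrb 11 28672 = true := by decide +kernel
theorem chkO_11_15 : allD P.chkOrb 11 30720 = true := by decide +kernel
theorem chkO_11_16 : allD P.chkOrb 11 32768 = true := by decide +kernel
theorem chkO_11_17 : allD P.chkOrb 11 34816 = true := by decide +kernel
theorem chkO_11_18 : allD P.chkOrb 11 36864 = true := by decide +kernel
theorem chkO_11_19 : allD P.chkOrb 11 38912 = true := by decide +kernel

end Cfsg.Agent.Lib.Helper35ONa
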