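import Cfsg.Agent.Lib.Helper35ONa

set_option autoImplicit false
set_option maxRecDepth 100000

namespace Cfsg.Agent.Lib.Helper35ONa

open Cfsg.Agent.Lib.Helper35TC

theorem chkO_11_62 : allD P.chkOrb 11 126976 = true := by decide +kernel
theorem chkO_11_63 : allD P.chkOrb 11 129024 = true := by decide +kernel
theorem cntO0_14_0 : cntD (P.labIs 0) 14 0 = 1 := by decide +kernel
theorem cntO0_14_1 : cntD (P.labIs 0) 14 16384 = 0 := by decide +kernel
theorem cntO0_14_2 : cntD (P.labIs 0) 14 32768 = 0 := by decide +kernel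
theorem cntO0_14_3 : cntD (P.labIs 0) 14 49152 = 0 := by decide +kernel
theorem cntO0_14_4 : cntD (P.labIs 0) 14 65536 = 0 := by decide +kernel
theorem cntO0_14_5 : cntD (P.labIs 0) 14 81920 = 0 := by decide +kernel
theorem cntO0_14_6 : cntD (P.labIs 0) 14 98304 = 0 := by decide +kernel
theorem cntO0_14_7 : cntD (P.labIs 0) 14 114688 = 0 := by decide +kernel
theorem cntO1_14_0 : cntD (P.labIs 1) 14 0 = 7282 := by decide +kernel
theorem cntO1_14_1 : cntD (P.labIs 1) 14 16384 = 7078 := by decide +kernel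
theorem cntO1_14_2 : cntD (P.labIs 1) 14 32768 = 7122 := by decide +kernel
theorem cntO1_14_3 : cntD (P.labIs 1) 14 49152 = 7704 := by decide +kernel
theorem cntO1_14_4 : cntD (P.labIs 1) 14 65536 = 7564 := by decide +kernel
theorem cntO1_14_5 : cntD (P.labIs 1) 14 81920 = 8179 := by decide +kernel
theorem cntO1_14_6 : cntD (P.labIs 1) 14 98304 = 8669 := by decide +kernel
theorem cntO1_14_7 : cntD (P.labIs 1) 14 114688 = 5055 := by decide +kernel
theorem cntO2_14_0 : cntD (P.labIs 2) 14 0 = 7052 := by decide +kernel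
theorem cntO2_14_1 : cntD (P.labIs 2) 14 16384 = 7630 := by decide +kernel
theorem cntO2_14_2 : cntD (P.labIs 2) 14 32768 = 7710 := by decide +kernel

end Cfsg.Agent.Lib.Helper35ONa
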