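import Cfsg.Agent.Lib.Helper35ONa

set_option autoImplicit false
set_option maxRecDepth 100000

namespace Cfsg.Agent.Lib.Helper35ONa

open Cfsg.Agent.Lib.Helper35TC

theorem cntO2_14_3 : cntD (P.labIs 2) 14 49152 = 7040 := by decide +kernel
theorem cntO2_14_4 : cntD (P.labIs 2) 14 65536 = 7220 := by decide +kernel
theorem cntO2_14_5 : cntD (P.labIs 2) 14 81920 = 6707 := by decide +kernel
theorem cntO2_14_6 : cntD (P.labIs 2) 14 98304 = 6277 := by decide +kernel
theorem cntO2_14_7 : cntD (P.labIs 2) 14 114688 = 2500 := by decide +kernel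
theorem cntO3_14_0 : cntD (P.labIs 3) 14 0 = 825 := by decide +kernel
theorem cntO3_14_1 : cntD (P.labIs 3) 14 16384 = 849 := by decide +kernel
theorem cntO3_14_2 : cntD (P.labIs 3) 14 32768 = 766 := by decide +kernel
theorem cntO3_14_3 : cntD (P.labIs 3) 14 49152 = 687 := by decide +kernel
theorem cntO3_14_4 : cntD (P.labIs 3) 14 65536 = 753 := by decide +kernel
theorem cntO3_14_5 : cntD (P.labIs 3) 14 81920 = 701 := by decide +kernel
theorem cntO3_14_6 : cntD (P.labIs 3) 14 98304 = 691 := by decide +kernel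
theorem cntO3_14_7 : cntD (P.labIs 3) 14 114688 = 314 := by decide +kernel
theorem cntO4_14_0 : cntD (P.labIs 4) 14 0 = 1224 := by decide +kernel
theorem cntO4_14_1 : cntD (P.labIs 4) 14 16384 = 827 := by decide +kernel
theorem cntO4_14_2 : cntD (P.labIs 4) 14 32768 = 786 := by decide +kernel
theorem cntO4_14_3 : cntD (P.labIs 4) 14 49152 = 953 := by decide +kernel
theorem cntO4_14_4 : cntD (P.labIs 4) 14 65536 = 847 := by decide +kernel
theorem cntO4_14_5 : cntD (P.labIs 4) 14 81920 = 797 := by decide +kernel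
theorem cntO4_14_6 : cntD (P.labIs 4) 14 98304 = 747 := by decide +kernel
theorem cntO4_14_7 : cntD (P.labIs 4) 14 114688 = 203 := by decide +kernel

end Cfsg.Agent.Lib.Helper35ONa
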