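import Cfsg.Agent.Lib.Helper35ONa

set_option autoImplicit false
set_option maxRecDepth 100000

namespace Cfsg.Agent.Lib.Helper35ONa

open Cfsg.Agent.Lib.Helper35TC

theorem chkU_11_126 : allD U.chkRow 11 258048 = true := by decide +kernel
theorem chkU_11_127 : allD U.chkRow 11 260096 = true := by decide +kernel
theorem cntU_14_0 : cntD U.live 14 0 = 11488 := by decide +kernel
theorem cntU_14_1 : cntD U.live 14 16384 = 10991 := by decide +kernel
theorem cntU_14_2 : cntD U.live 14 32768 = 9423 := by decide +kernel
theorem cntU_14_3 : cntD U.live 14 49152 = 10151 := by decide +kernel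
theorem cntU_14_4 : cntD U.live 14 65536 = 6666 := by decide +kernel
theorem cntU_14_5 : cntD U.live 14 81920 = 9399 := by decide +kernel
theorem cntU_14_6 : cntD U.live 14 98304 = 8567 := by decide +kernel
theorem cntU_14_7 : cntD U.live 14 114688 = 8298 := by decide +kernel
theorem cntU_14_8 : cntD U.live 14 131072 = 5555 := by decide +kernel
theorem cntU_14_9 : cntD U.live 14 147456 = 9037 := by decide +kernel
theorem cntU_14_10 : cntD U.live 14 163840 = 16004 := by decide +kernel
theorem cntU_14_11 : cntD U.live 14 180224 = 16317 := by decide +kernel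
theorem cntU_14_12 : cntD U.live 14 196608 = 864 := by decide +kernel
theorem cntU_14_13 : cntD U.live 14 212992 = 0 := by decide +kernel
theorem cntU_14_14 : cntD U.live 14 229376 = 0 := by decide +kernel
theorem cntU_14_15 : cntD U.live 14 245760 = 0 := by decide +kernel
theorem chkP_9_0 : allD P.chkPt 9 0 = true := by decide +kernel
theorem chkP_9_1 : allD P.chkPt 9 512 = true := by decide +kernel
theorem chkP_9_2 : allD P.chkPt 9 1024 = true := by decide +kernel

end Cfsg.Agent.Lib.Helper35ONa
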