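import Cfsg.Agent.Lib.Helper35TCd

set_option autoImplicit false

namespace Cfsg.Agent.Lib.Helper35TC

/-! ## Homomorphisms between presented groups, upper bounds for orders -/

deriving instance DecidableEq for WExp

def WExp.map {α β : Type} (ι : β → α) : WExp β → WExp α
  | .of a => .of (ι a)
  | .mul x y => .mul (x.map ι) (y.map ι)
  | .inv x => .inv (x.map ι)
  | .pow x n => .pow (x.map ι) n

theorem WExp.eval_map {α β : Type} (ι : β → α) (e : WExp β) :
    (e.map ι).eval = FreeGroup.map ι e.eval := by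
  induction e with
  | of a => simp [WExp.map, WExp.eval]
  | mul x y hx hy => simp [WExp.map, WExp.eval, hx, hy]
  | inv x hx => simp [WExp.map, WExp.eval, hx]
  | pow x n hx => simp [WExp.map, WExp.eval, hx]

namespace Pkg
variable {α β : Type} {K : Pkg α} {K' : Pkg β}

theorem Ok.rel_one (h : K.Ok) {e : WExp α} (he : e ∈ K.relExps) :
    PresentedGroup.mk K.rels e.eval = 1 :=
  PresentedGroup.one_of_mem ((h.hrels _).mpr ⟨e, he, rfl⟩)

theorem lift_of_eq (ι : β → α) (w : FreeGroup β) :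
    FreeGroup.lift (fun x => (PresentedGroup.of (ι x) : K.Grp)) w =
      PresentedGroup.mk K.rels (FreeGroup.map ι w) := by
  have : FreeGroup.lift (fun x => (PresentedGroup.of (ι x) : K.Grp)) =
      (PresentedGroup.mk K.rels).comp (FreeGroup.map ι) := by
    ext x
    simp [PresentedGroup.of]
  rw [this]; rfl

/-- the homomorphism induced by a map of generators -/
noncomputable def Ok.homOf (h' : K'.Ok) (K : Pkg α) (ι : β → α)
    (hrel : ∀ e ∈ K'.relExps, PresentedGroup.mk K.rels (e.map ι).eval = 1) : K'.Grp →* K.Grp :=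
  PresentedGroup.toGroup (f := fun x => (PresentedGroup.of (ι x) : K.Grp)) (by
    intro r hr
    obtain ⟨e, he, rfl⟩ := (h'.hrels r).mp hr
    rw [lift_of_eq, ← WExp.eval_map]
    exact hrel e he)

theorem Ok.homOf_of (h' : K'.Ok) (K : Pkg α) (ι : β → α)
    (hrel : ∀ e ∈ K'.relExps, PresentedGroup.mk K.rels (e.map ι).eval = 1) (x : β) :
    h'.homOf K ι hrel (PresentedGroup.of x) = PresentedGroup.of (ι x) :=
  PresentedGroup.toGroup.of _

theorem Ok.homOf_mk (h' : K'.Ok) (K : Pkg α) (ι : β → α)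
    (hrel : ∀ e ∈ K'.relExps, PresentedGroup.mk K.rels (e.map ι).eval = 1) (e : WExp β) :
    h'.homOf K ι hrel (PresentedGroup.mk K'.rels e.eval) =
      PresentedGroup.mk K.rels (e.map ι).eval := by
  rw [WExp.eval_map, ← lift_of_eq]
  rfl

theorem Ok.card_le_mul (h : K.Ok) {Γ : Type*} [Group Γ] [Finite Γ] (ψ : Γ →* K.Grp)
    (hH : K.H ≤ ψ.range) : Finite K.Grp ∧ Nat.card K.Grp ≤ K.P.n * Nat.card Γ := by
  have : Finite ψ.range := Finite.of_surjective _ ψ.rangeRestrict_surjective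
  have : Finite K.H := Finite.of_injective _ (Subgroup.inclusion_injective hH)
  have : Finite (K.Grp ⧸ K.H) := h.card_le.1
  have : Finite K.Grp := Finite.of_equiv _ (Subgroup.groupEquivQuotientProdSubgroup (s := K.H)).symm
  refine ⟨inferInstance, ?_⟩
  rw [Subgroup.card_eq_card_quotient_mul_card_subgroup K.H]
  have h1 : Nat.card K.H ≤ Nat.card Γ :=
    (Nat.card_le_card_of_injective _ (Subgroup.inclusion_injective hH)).trans
      (Nat.card_le_card_of_surjective _ ψ.rangeRestrict_surjective)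
  exact Nat.mul_le_mul h.card_le.2 h1

/-- one step of a subgroup chain -/
theorem Ok.chain_step (h : K.Ok) (h' : K'.Ok) (ι : β → α)
    (hrel : ∀ e ∈ K'.relExps, PresentedGroup.mk K.rels (e.map ι).eval = 1)
    (hsub : ∀ e ∈ K.subExps, ∃ e' : WExp β, e = e'.map ι)
    (c : ℕ) (hc : Finite K'.Grp ∧ Nat.card K'.Grp ≤ c) :
    Finite K.Grp ∧ Nat.card K.Grp ≤ K.P.n * c := by
  have := hc.1
  obtain ⟨h1, h2⟩ := h.card_le_mul (h'.homOf K ι hrel) (by
    apply h.H_le
    intro e he
    obtain ⟨e', rfl⟩ := hsub e he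
    exact ⟨PresentedGroup.mk K'.rels e'.eval, h'.homOf_mk K ι hrel e'⟩)
  exact ⟨h1, h2.trans (Nat.mul_le_mul_left _ hc.2)⟩

theorem Ok.H_eq_bot (h : K.Ok) (hs : K.subExps = []) : K.H = ⊥ := by
  rw [eq_bot_iff]
  apply h.H_le
  intro e he
  rw [hs] at he
  simp at he

theorem Ok.chain_base (h : K.Ok) (hs : K.subExps = []) :
    Finite K.Grp ∧ Nat.card K.Grp ≤ K.P.n := by
  have h1 := h.card_le_mul (Γ := Unit) 1 (by rw [h.H_eq_bot hs]; exact bot_le)
  simpa using h1

theorem Ok.mem_H_iff (h : K.Ok) (g : K.Grp) : g ∈ K.H ↔ h.phi g h.zero = h.zero := by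
  refine ⟨h.H_fix g, fun hg => ?_⟩
  have h1 : h.thetaFun (g : K.Grp ⧸ K.H) = h.thetaFun ((1 : K.Grp) : K.Grp ⧸ K.H) := by
    rw [h.thetaFun_mk, h.thetaFun_mk, hg, map_one]; rfl
  have h2 := h.thetaFun_bij.1 h1
  rw [QuotientGroup.eq] at h2
  simpa using K.H.inv_mem h2

/-- a word which fixes the base point of a regular representation is trivial -/
theorem Ok.eq_one_of_regular (h : K.Ok) (hs : K.subExps = []) (e : WExp α)
    (he : K.P.walkA (e.app K.code K.P.iv) 0 = 0) : PresentedGroup.mk K.rels e.eval = 1 := by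
  have h1 : PresentedGroup.mk K.rels e.eval ∈ K.H := by
    rw [h.mem_H_iff]
    apply Fin.ext
    rw [h.phi_mk_apply]
    exact he
  rw [h.H_eq_bot hs] at h1
  exact h1

end Pkg

end Cfsg.Agent.Lib.Helper35TC
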