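import Cfsg.Agent.Lib.Helper35Ord

set_option autoImplicit false

namespace Cfsg.Agent.Lib.Helper35TC

/-! ## Maximality of the point stabiliser from the suborbit lengths -/

namespace Pkg
variable {α : Type} {K : Pkg α}

theorem Ok.lab_lt (h : K.Ok) (horb : ∀ j < K.P.n, K.P.chkOrb j = true) (j : Fin K.P.n) :
    K.P.lab j < K.P.roots.length := by
  obtain ⟨g, _, r, hr, _⟩ := h.connect horb j
  by_contra hlt
  rw [List.getD_eq_default _ _ (by omega)] at hr
  exact absurd r.2 (by omega)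

theorem Ok.same_orbit (h : K.Ok) (horb : ∀ j < K.P.n, K.P.chkOrb j = true) (i j : Fin K.P.n)
    (hij : K.P.lab i = K.P.lab j) : ∃ g ∈ K.H, h.phi g i = j := by
  obtain ⟨g1, hg1, r1, hr1, e1⟩ := h.connect horb i
  obtain ⟨g2, hg2, r2, hr2, e2⟩ := h.connect horb j
  have : r1 = r2 := Fin.ext (by rw [hr1, hr2, hij])
  refine ⟨g2 * g1⁻¹, K.H.mul_mem hg2 (K.H.inv_mem hg1), ?_⟩
  rw [map_mul, Equiv.Perm.mul_apply, map_inv, ← e1]
  simp only [Equiv.Perm.inv_def, Equiv.symm_apply_apply]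
  rw [this, e2]

theorem Ok.relIndex_eq (h : K.Ok) (M : Subgroup K.Grp) :
    K.H.relIndex M = Nat.card {j : Fin K.P.n // ∃ m ∈ M, h.phi m h.zero = j} := by
  have hst : MulAction.stabilizer M (((1 : K.Grp) : K.Grp ⧸ K.H)) = K.H.subgroupOf M := by
    ext m
    rw [MulAction.mem_stabilizer_iff, Subgroup.mem_subgroupOf]
    show ((m : K.Grp) • ((1 : K.Grp) : K.Grp ⧸ K.H)) = _ ↔ _
    rw [MulAction.Quotient.smul_coe, smul_eq_mul, mul_one, eq_comm, QuotientGroup.eq]
    simp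
  rw [Subgroup.relIndex, ← hst, MulAction.index_stabilizer, ← Nat.card_coe_set_eq]
  refine Nat.card_congr (Equiv.ofBijective
    (fun q => ⟨h.thetaFun q.1, ?_⟩) ⟨?_, ?_⟩)
  · obtain ⟨m, hm⟩ := q.2
    refine ⟨m.1, m.2, ?_⟩
    rw [← hm]
    show _ = h.thetaFun ((m : K.Grp) • ((1 : K.Grp) : K.Grp ⧸ K.H))
    rw [h.thetaFun_smul, h.thetaFun_mk, map_one]
    rfl
  · intro a b hab
    exact Subtype.ext (h.thetaFun_bij.1 (congrArg Subtype.val hab))
  · rintro ⟨j, m, hm, rfl⟩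
    refine ⟨⟨(⟨m, hm⟩ : M) • ((1 : K.Grp) : K.Grp ⧸ K.H), ⟨_, rfl⟩⟩, ?_⟩
    apply Subtype.ext
    show h.thetaFun ((m : K.Grp) • ((1 : K.Grp) : K.Grp ⧸ K.H)) = _
    rw [h.thetaFun_smul, h.thetaFun_mk, map_one]
    rfl

open Classical in
theorem Ok.relIndex_sum (h : K.Ok) (horb : ∀ j < K.P.n, K.P.chkOrb j = true)
    (M : Subgroup K.Grp) (hM : K.H ≤ M) :
    ∃ C ∈ (Finset.range K.P.roots.length).powerset, K.P.lab 0 ∈ C ∧
      K.H.relIndex M =
        ∑ c ∈ C, ((Finset.range K.P.n).filter (fun j => K.P.labIs c j = true)).card := by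
  set C : Finset ℕ := (Finset.range K.P.roots.length).filter
    (fun c => ∃ m ∈ M, K.P.lab (h.phi m h.zero) = c) with hC
  refine ⟨C, ?_, ?_, ?_⟩
  · rw [Finset.mem_powerset]; exact Finset.filter_subset _ _
  · rw [hC, Finset.mem_filter, Finset.mem_range]
    exact ⟨h.lab_lt horb h.zero, 1, M.one_mem, by rw [map_one]; rfl⟩
  · have hB : ∀ j : Fin K.P.n, (∃ m ∈ M, h.phi m h.zero = j) ↔ K.P.lab j ∈ C := by
      intro j
      constructor
      · rintro ⟨m, hm, rfl⟩
        rw [hC, Finset.mem_filter, Finset.mem_range]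
        exact ⟨h.lab_lt horb _, m, hm, rfl⟩
      · intro hj
        rw [hC, Finset.mem_filter] at hj
        obtain ⟨_, m, hm, hl⟩ := hj
        obtain ⟨g, hg, e⟩ := h.same_orbit horb _ j hl
        exact ⟨g * m, M.mul_mem (hM hg) hm, by rw [map_mul, Equiv.Perm.mul_apply, e]⟩
    set S : Finset ℕ := (Finset.range K.P.n).filter (fun j => K.P.lab j ∈ C) with hS
    have hSm : ∀ x, x ∈ S ↔ x < K.P.n ∧ K.P.lab x ∈ C := by
      intro x
      rw [hS, Finset.mem_filter, Finset.mem_range]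
    have h1 : K.H.relIndex M = S.card := by
      rw [h.relIndex_eq, ← Fintype.card_coe S, ← Nat.card_eq_fintype_card]
      refine Nat.card_congr ⟨fun j => ⟨j.1.1, ?_⟩, fun x => ⟨⟨x.1, ?_⟩, ?_⟩, ?_, ?_⟩
      · exact (hSm _).mpr ⟨j.1.2, (hB j.1).mp j.2⟩
      · exact ((hSm _).mp x.2).1
      · exact (hB ⟨x.1, ((hSm _).mp x.2).1⟩).mpr ((hSm _).mp x.2).2
      · intro j; rfl
      · intro x; rfl
    have hmaps : (S : Set ℕ).MapsTo K.P.lab C := by
      intro x hx
      exact ((hSm x).mp hx).2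
    rw [h1, Finset.card_eq_sum_card_fiberwise hmaps]
    apply Finset.sum_congr rfl
    intro c hc
    congr 1
    ext j
    simp only [hS, Finset.mem_filter, Finset.mem_range, LData.labIs_iff]
    constructor
    · rintro ⟨⟨h1, _⟩, h3⟩; exact ⟨h1, h1, h3⟩
    · rintro ⟨h1, _, h3⟩; exact ⟨⟨h1, h3 ▸ hc⟩, h3⟩

/-- the point stabiliser is a maximal subgroup -/
theorem Ok.maximal (h : K.Ok) (horb : ∀ j < K.P.n, K.P.chkOrb j = true) (sz : ℕ → ℕ)
    (hsz : ∀ c < K.P.roots.length,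
      ((Finset.range K.P.n).filter (fun j => K.P.labIs c j = true)).card = sz c)
    (har : ∀ C ∈ (Finset.range K.P.roots.length).powerset, K.P.lab 0 ∈ C →
      (∑ c ∈ C, sz c) ∣ K.P.n → (∑ c ∈ C, sz c) = 1 ∨ (∑ c ∈ C, sz c) = K.P.n)
    (M : Subgroup K.Grp) (hM : K.H ≤ M) : M = K.H ∨ M = ⊤ := by
  obtain ⟨C, hC, h0, hsum⟩ := h.relIndex_sum horb M hM
  have hsum2 : K.H.relIndex M = ∑ c ∈ C, sz c := by
    rw [hsum]
    apply Finset.sum_congr rfl
    intro c hc
    exact hsz c (Finset.mem_range.mp (Finset.mem_powerset.mp hC hc))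
  have hmul := Subgroup.relIndex_mul_index hM
  rw [h.index_eq] at hmul
  rcases har C hC h0 (by rw [← hsum2]; exact Dvd.intro _ hmul) with h1 | h1
  · left
    rw [← hsum2, Subgroup.relIndex_eq_one] at h1
    exact le_antisymm h1 hM
  · right
    rw [← hsum2] at h1
    rw [h1] at hmul
    have hn := h.hP.hn
    have : M.index = 1 := by
      have h2 : K.P.n * M.index = K.P.n * 1 := by rw [hmul, mul_one]
      exact Nat.eq_of_mul_eq_mul_left hn h2
    exact Subgroup.index_eq_one.mp this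

end Pkg

/-! ## A simplicity criterion -/

theorem mem_of_pow_of_coprime {G : Type*} [Group G] (N : Subgroup G) [N.Normal] {p : ℕ}
    (hp : Nat.Coprime p N.index) {u : G} (hu : u ^ p = 1) : u ∈ N := by
  have h1 : u ^ N.index ∈ N := Subgroup.pow_index_mem N u
  have h2 : u ^ (Nat.gcd p N.index) ∈ N := by
    have h3 : (u ^ (Nat.gcd p N.index : ℕ) : G) = u ^ ((Nat.gcd p N.index : ℕ) : ℤ) := by
      rw [zpow_natCast]
    rw [h3, Nat.gcd_eq_gcd_ab, zpow_add, zpow_mul, zpow_mul, zpow_natCast, zpow_natCast, hu,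
      one_zpow, one_mul]
    exact N.zpow_mem h1 _
  rw [hp, pow_one] at h2
  exact h2

theorem simple_of_maximal {G : Type*} [Group G] [Finite G] [Nontrivial G] (H : Subgroup G)
    (hmax : ∀ M : Subgroup G, H ≤ M → M = H ∨ M = ⊤)
    (hcore : ∀ N : Subgroup G, N.Normal → N ≤ H → N = ⊥)
    (p : ℕ) (hp : Nat.Coprime p (Nat.card H))
    (hgen : ∀ N : Subgroup G, N.Normal → (∀ u : G, u ^ p = 1 → u ∈ N) → N = ⊤) :
    IsSimpleGroup G := by
  refine ⟨fun N hN => ?_⟩
  by_cases hNH : N ≤ H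
  · exact Or.inl (hcore N hN hNH)
  · right
    have hsup : H ⊔ N = ⊤ := by
      rcases hmax (H ⊔ N) le_sup_left with h1 | h1
      · exact absurd (h1 ▸ le_sup_right) hNH
      · exact h1
    have hidx : N.index ∣ Nat.card H := by
      rw [← Subgroup.relIndex_top_right, ← hsup, Subgroup.relIndex_sup_right]
      exact Subgroup.index_dvd_card _
    apply hgen N hN
    intro u hu
    exact mem_of_pow_of_coprime N (Nat.Coprime.coprime_dvd_right hidx hp) hu

end Cfsg.Agent.Lib.Helper35TC
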