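import Cfsg.Agent.Lib.Helper35Ord2

set_option autoImplicit false

namespace Cfsg.Agent.Lib.Helper35TC

/-! ## Lower bounds for orders: bases and strong generators -/

structure BData where
  m : ℕ
  LB : ℕ
  W : ℕ
  mW : ℕ
  brow : ℕ → ℕ
  TW : ℕ
  mTW : ℕ
  trow : ℕ → ℕ
  defs : List (List ℕ × List ℕ)
  base : List ℕ
  lev : List ℕ

namespace BData
variable (D : BData)

def pt (r : ℕ) : ℕ := Nat.land (D.brow r) D.mW
def col (r c : ℕ) : ℕ := Nat.land (Nat.shiftRight (D.brow r) (Nat.mul (Nat.succ c) D.W)) D.mW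
def tre (r i : ℕ) : ℕ := Nat.land (Nat.shiftRight (D.trow r) (Nat.mul i D.TW)) D.mTW
def tdep (e : ℕ) : ℕ := Nat.land e (nat_lit 255)
def tltr (e : ℕ) : ℕ := Nat.land (Nat.shiftRight e (nat_lit 8)) (nat_lit 255)
def tpar (e : ℕ) : ℕ := Nat.shiftRight e (nat_lit 16)
def bs (t : ℕ) : ℕ := D.base.getD t D.m

noncomputable def walkB (w : List ℕ) : ℕ → ℕ :=
  List.rec (fun r => r)
    (fun l _ ih r => strict (D.col r l) (fun v => Bool.rec (ih v) D.m (Nat.ble D.m v))) w

theorem walkB_nil (r : ℕ) : D.walkB [] r = r := rfl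

theorem walkB_cons (l : ℕ) (w : List ℕ) (r : ℕ) :
    D.walkB (l :: w) r = if D.m ≤ D.col r l then D.m else D.walkB w (D.col r l) := by
  show strict (D.col r l) (fun v => @Bool.rec (fun _ => ℕ) (D.walkB w v) D.m (Nat.ble D.m v)) = _
  rw [strict_eq]
  by_cases h : D.m ≤ D.col r l
  · rw [if_pos h, Nat.ble_eq_true_of_le h]
  · rw [if_neg h]
    have : Nat.ble D.m (D.col r l) = false := by
      rw [← Bool.not_eq_true, Nat.ble_eq]; exact h
    rw [this]

noncomputable def chkDef (r c : ℕ) (d : List ℕ × List ℕ) : Bool :=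
  strict (D.col r c) fun v => Nat.ble D.m v ||
    (strict (D.walkB d.1 r) fun x => Nat.ble (Nat.succ x) D.m && Nat.beq x (D.walkB d.2 v))

noncomputable def chkDefs (r : ℕ) (ds : List (List ℕ × List ℕ)) : ℕ → Bool :=
  List.rec (fun _ => true)
    (fun d _ ih c => Bool.rec false (ih (Nat.succ c)) (D.chkDef r c d)) ds

theorem chkDefs_spec (r : ℕ) : ∀ (ds : List (List ℕ × List ℕ)) (c : ℕ), D.chkDefs r ds c = true →
    ∀ i, i < ds.length → D.chkDef r (c + i) (ds.getD i ([], [])) = true
  | [], _, _, i, hi => by simp at hi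
  | d :: ds, c, h, i, hi => by
    have h' : @Bool.rec (fun _ => Bool) false (D.chkDefs r ds (c + 1)) (D.chkDef r c d) = true := h
    cases hp : D.chkDef r c d with
    | false => rw [hp] at h'; exact absurd h' (by simp)
    | true =>
      rw [hp] at h'
      cases i with
      | zero => simpa using hp
      | succ i =>
        have := chkDefs_spec r ds (c + 1) h' i (by simpa using hi)
        rw [show c + (i + 1) = c + 1 + i by omega]
        simpa using this

noncomputable def chkTree (r i : ℕ) : Bool :=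
  strict (D.tre r i) fun e =>
    Nat.beq (tdep e) 0 || Nat.beq r (D.bs i) ||
    (strict (tpar e) fun p => strict (tltr e) fun c =>
      Nat.ble (Nat.succ p) D.m && Nat.ble (Nat.succ i) (D.lev.getD c 0) && Nat.beq (D.col p c) r &&
      (strict (D.tre p i) fun e' =>
        Nat.ble 1 (tdep e') && Nat.ble (Nat.succ (tdep e')) (tdep e)))

noncomputable def chkB (P : LData) (r : ℕ) : Bool :=
  Nat.ble D.m r ||
  (Nat.ble (Nat.succ (D.pt r)) P.n &&
    (Nat.ble D.m (Nat.succ r) || Nat.ble (Nat.succ (D.pt r)) (D.pt (Nat.succ r))) &&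
    allB (fun c => strict (D.col r c) fun v => Nat.ble D.m v ||
      Nat.beq (P.walkA (P.subs.getD c []) (D.pt r)) (D.pt v)) D.LB &&
    D.chkDefs r D.defs D.LB &&
    allB (fun i => D.chkTree r i) D.base.length)

/-- letter `c` fixes the first `lev c - 1` base points -/
noncomputable def chkLev : Bool :=
  allB (fun c => allB (fun t => Nat.beq (D.col (D.bs t) c) (D.bs t)) (Nat.pred (D.lev.getD c 0)))
    D.lev.length

def claimed (i r : ℕ) : Bool := Nat.ble (Nat.succ r) D.m && Nat.ble 1 (tdep (D.tre r i))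

theorem claimed_lt (i r : ℕ) (h : D.claimed i r = true) : r < D.m := by
  unfold claimed at h
  rw [Bool.and_eq_true, Nat.ble_eq] at h
  exact h.1

def cnt (i : ℕ) : ℕ := ((Finset.range D.m).filter (fun r => D.claimed i r = true)).card

structure Valid (P : LData) : Prop where
  hrow : ∀ r < D.m, D.chkB P r = true
  hlev : D.chkLev = true
  hlen : D.lev.length = D.LB + D.defs.length
  hLB : D.LB ≤ P.subs.length
  hbase : ∀ b ∈ D.base, b < D.m
  hdefs : ∀ i < D.defs.length, ∀ l ∈ (D.defs.getD i ([], [])).1 ++ (D.defs.getD i ([], [])).2,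
    l < D.LB + i

section sound
variable {D}
variable {G X : Type*} [Group G] (ρ : G →* Equiv.Perm X) (S0 : Subgroup G) (q : ℕ → X)

def ColOK (D : BData) (ρ : G →* Equiv.Perm X) (S0 : Subgroup G) (q : ℕ → X) (c : ℕ) (g : G) : Prop :=
  g ∈ S0 ∧ ∀ r < D.m, D.col r c < D.m → ρ g (q r) = q (D.col r c)

theorem wordVal_mem (g : ℕ → G) : ∀ (w : List ℕ), (∀ l ∈ w, g l ∈ S0) → wordVal g w ∈ S0
  | [], _ => S0.one_mem
  | l :: w, h => S0.mul_mem (wordVal_mem g w (fun a ha => h a (by simp [ha]))) (h l (by simp))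

theorem walkB_sound (g : ℕ → G) : ∀ (w : List ℕ), (∀ l ∈ w, ColOK D ρ S0 q l (g l)) →
    ∀ r < D.m, D.walkB w r < D.m → ρ (wordVal g w) (q r) = q (D.walkB w r)
  | [], _, r, _, _ => by simp [wordVal, walkB_nil]
  | l :: w, h, r, hr, hw => by
    rw [walkB_cons] at hw ⊢
    by_cases hc : D.m ≤ D.col r l
    · rw [if_pos hc] at hw; omega
    · rw [if_neg hc] at hw ⊢
      rw [wordVal, map_mul, Equiv.Perm.mul_apply, (h l (by simp)).2 r hr (by omega)]
      exact walkB_sound g w (fun a ha => h a (by simp [ha])) _ (by omega) hw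


/-- consequences of the row checks -/
theorem Valid.row {P : LData} (h : D.Valid P) {r : ℕ} (hr : r < D.m) :
    D.pt r < P.n ∧ (r + 1 < D.m → D.pt r < D.pt (r + 1)) ∧
    (∀ c < D.LB, D.col r c < D.m →
      P.walkA (P.subs.getD c []) (D.pt r) = D.pt (D.col r c)) ∧
    (∀ i < D.defs.length, D.col r (D.LB + i) < D.m →
      D.walkB (D.defs.getD i ([], [])).1 r < D.m ∧
      D.walkB (D.defs.getD i ([], [])).1 r =
        D.walkB (D.defs.getD i ([], [])).2 (D.col r (D.LB + i))) ∧
    (∀ i < D.base.length, D.chkTree r i = true) := by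
  have h1 := h.hrow r hr
  unfold chkB at h1
  rw [Bool.or_eq_true, Nat.ble_eq, Bool.and_eq_true, Bool.and_eq_true, Bool.and_eq_true,
    Bool.and_eq_true, Bool.or_eq_true, Nat.ble_eq, Nat.ble_eq, Nat.ble_eq] at h1
  rcases h1 with h1 | ⟨⟨⟨⟨h1, h2⟩, h3⟩, h4⟩, h5⟩
  · omega
  refine ⟨h1, fun hr1 => ?_, fun c hc hv => ?_, fun i hi hv => ?_, allB_spec _ _ h5⟩
  · rcases h2 with h2 | h2
    · have : D.m ≤ r + 1 := h2
      omega
    · exact h2
  · have := allB_spec _ _ h3 c hc
    simp only [strict_eq, Bool.or_eq_true, Nat.ble_eq, Nat.beq_eq] at this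
    rcases this with h6 | h6
    · omega
    · exact h6
  · have := D.chkDefs_spec r _ _ h4 i hi
    unfold chkDef at this
    simp only [strict_eq, Bool.or_eq_true, Bool.and_eq_true, Nat.ble_eq, Nat.beq_eq] at this
    rcases this with h6 | h6
    · omega
    · exact ⟨h6.1, h6.2⟩

theorem Valid.pt_strictMono {P : LData} (h : D.Valid P) :
    ∀ r s, r < s → s < D.m → D.pt r < D.pt s := by
  intro r s hrs
  induction s with
  | zero => omega
  | succ s ih =>
    intro hs
    have h1 := (h.row (r := s) (by omega)).2.1 hs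
    rcases Nat.lt_succ_iff_lt_or_eq.mp hrs with h2 | h2
    · exact (ih h2 (by omega)).trans h1
    · rw [h2]; exact h1

theorem Valid.pt_inj {P : LData} (h : D.Valid P) {r s : ℕ} (hr : r < D.m) (hs : s < D.m)
    (he : D.pt r = D.pt s) : r = s := by
  rcases Nat.lt_trichotomy r s with h1 | h1 | h1
  · have := h.pt_strictMono r s h1 hs; omega
  · exact h1
  · have := h.pt_strictMono s r h1 hr; omega

theorem Valid.exists_elts {P : LData} (h : D.Valid P) (γ : ℕ → G)
    (hγ : ∀ c < D.LB, ColOK D ρ S0 q c (γ c)) :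
    ∃ g : ℕ → G, ∀ c < D.LB + D.defs.length, ColOK D ρ S0 q c (g c) := by
  have key : ∀ k ≤ D.defs.length, ∃ g : ℕ → G, ∀ c < D.LB + k, ColOK D ρ S0 q c (g c) := by
    intro k
    induction k with
    | zero => intro _; exact ⟨γ, fun c hc => hγ c (by omega)⟩
    | succ k ih =>
      intro hk
      obtain ⟨g, hg⟩ := ih (by omega)
      set pre := (D.defs.getD k ([], [])).1 with hpre
      set post := (D.defs.getD k ([], [])).2 with hpost
      have hl := h.hdefs k (by omega)
      have hpreL : ∀ l ∈ pre, ColOK D ρ S0 q l (g l) :=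
        fun l hl' => hg l (hl l (List.mem_append_left _ hl'))
      have hpostL : ∀ l ∈ post, ColOK D ρ S0 q l (g l) :=
        fun l hl' => hg l (hl l (List.mem_append_right _ hl'))
      refine ⟨Function.update g (D.LB + k) ((wordVal g post)⁻¹ * wordVal g pre), ?_⟩
      intro c hc
      by_cases hck : c = D.LB + k
      · subst hck
        rw [Function.update_self]
        refine ⟨S0.mul_mem (S0.inv_mem (wordVal_mem S0 g post (fun l hl' => (hpostL l hl').1)))
          (wordVal_mem S0 g pre (fun l hl' => (hpreL l hl').1)), ?_⟩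
        intro r hr hv
        obtain ⟨h1, h2⟩ := (h.row hr).2.2.2.1 k (by omega) hv
        have e1 := walkB_sound ρ S0 q g pre hpreL r hr h1
        have e2 := walkB_sound ρ S0 q g post hpostL _ hv (by
          have h3 : D.walkB post (D.col r (D.LB + k)) = D.walkB pre r := h2.symm
          rw [h3]; exact h1)
        rw [map_mul, Equiv.Perm.mul_apply, e1, map_inv, Equiv.Perm.inv_eq_iff_eq, e2]
        exact congrArg q h2
      · rw [Function.update_of_ne hck]
        exact hg c (by omega)
  exact key _ le_rfl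

/-- elements of `S0` fixing the first `i` base points -/
def fixer (D : BData) (ρ : G →* Equiv.Perm X) (S0 : Subgroup G) (q : ℕ → X) (i : ℕ) :
    Subgroup G where
  carrier := {g | g ∈ S0 ∧ ∀ t < i, ρ g (q (D.bs t)) = q (D.bs t)}
  one_mem' := ⟨S0.one_mem, fun t _ => by simp⟩
  mul_mem' := by
    intro a b ha hb
    refine ⟨S0.mul_mem ha.1 hb.1, fun t ht => ?_⟩
    rw [map_mul, Equiv.Perm.mul_apply, hb.2 t ht, ha.2 t ht]
  inv_mem' := by
    intro a ha
    refine ⟨S0.inv_mem ha.1, fun t ht => ?_⟩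
    rw [map_inv, Equiv.Perm.inv_eq_iff_eq, ha.2 t ht]

theorem mem_fixer {i : ℕ} {g : G} :
    g ∈ fixer D ρ S0 q i ↔ g ∈ S0 ∧ ∀ t < i, ρ g (q (D.bs t)) = q (D.bs t) := Iff.rfl

theorem Valid.bs_lt {P : LData} (h : D.Valid P) {t : ℕ} (ht : t < D.base.length) :
    D.bs t < D.m := by
  unfold bs
  rw [List.getD_eq_getElem _ _ ht]
  exact h.hbase _ (List.getElem_mem ht)

theorem Valid.elt_fix {P : LData} (h : D.Valid P) {g : ℕ → G}
    (hg : ∀ c < D.LB + D.defs.length, ColOK D ρ S0 q c (g c)) {c i : ℕ}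
    (hi : i < D.base.length) (hc : i + 1 ≤ D.lev.getD c 0) : g c ∈ fixer D ρ S0 q i := by
  have hcl : c < D.lev.length := by
    by_contra hcl
    rw [List.getD_eq_default _ _ (by omega)] at hc
    omega
  have hcol := hg c (by rw [← h.hlen]; exact hcl)
  refine ⟨hcol.1, fun t ht => ?_⟩
  have h1 := allB_spec _ _ (allB_spec _ _ h.hlev c hcl) t (by
    show t < Nat.pred _
    have : Nat.pred (D.lev.getD c 0) = D.lev.getD c 0 - 1 := rfl
    omega)
  rw [Nat.beq_eq] at h1
  have h2 := h.bs_lt (t := t) (by omega)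
  have h3 := hcol.2 _ h2 (by rw [h1]; exact h2)
  rw [h1] at h3
  exact h3

theorem Valid.tree_sound {P : LData} (h : D.Valid P) {g : ℕ → G}
    (hg : ∀ c < D.LB + D.defs.length, ColOK D ρ S0 q c (g c)) {i : ℕ}
    (hi : i < D.base.length) :
    ∀ r, D.claimed i r = true → ∃ x ∈ fixer D ρ S0 q i, ρ x (q (D.bs i)) = q r := by
  have key : ∀ d r, tdep (D.tre r i) = d → D.claimed i r = true →
      ∃ x ∈ fixer D ρ S0 q i, ρ x (q (D.bs i)) = q r := by
    intro d
    induction d using Nat.strong_induction_on with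
    | _ d ih =>
      intro r hd hcl
      have hr := D.claimed_lt i r hcl
      unfold claimed at hcl
      rw [Bool.and_eq_true, Nat.ble_eq, Nat.ble_eq] at hcl
      have h1 := (h.row hr).2.2.2.2 i hi
      unfold chkTree at h1
      simp only [strict_eq, Bool.or_eq_true, Bool.and_eq_true, Nat.ble_eq, Nat.beq_eq] at h1
      rcases h1 with (h1 | h1) | ⟨⟨⟨h1, h2⟩, h3⟩, h4, h5⟩
      · omega
      · exact ⟨1, Subgroup.one_mem _, by rw [map_one, h1]; rfl⟩
      · set p := tpar (D.tre r i) with hp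
        set c := tltr (D.tre r i) with hc
        obtain ⟨x, hx, ex⟩ := ih (tdep (D.tre p i)) (by omega) p rfl (by
          unfold claimed
          rw [Bool.and_eq_true, Nat.ble_eq, Nat.ble_eq]
          exact ⟨h1, h4⟩)
        have hcf := h.elt_fix ρ S0 q hg hi h2
        have hcl' : c < D.lev.length := by
          by_contra hcl'
          rw [List.getD_eq_default _ _ (by omega)] at h2
          omega
        have hcol := hg c (by rw [← h.hlen]; exact hcl')
        refine ⟨g c * x, Subgroup.mul_mem _ hcf hx, ?_⟩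
        rw [map_mul, Equiv.Perm.mul_apply, ex, hcol.2 p h1 (by rw [h3]; exact hr), h3]
  exact fun r hr => key _ r rfl hr

theorem card_step [Finite G] (F F' : Subgroup G) (x : X)
    (hF' : ∀ g, g ∈ F' ↔ g ∈ F ∧ ρ g x = x) (O : Finset X)
    (hO : ∀ y ∈ O, ∃ g ∈ F, ρ g x = y) : O.card * Nat.card F' ≤ Nat.card F := by
  classical
  choose! t ht1 ht2 using hO
  have hinj : Function.Injective (fun z : O × F' =>
      (⟨t z.1.1 * z.2.1, F.mul_mem (ht1 _ z.1.2) ((hF' _).mp z.2.2).1⟩ : F)) := by
    rintro ⟨⟨y, hy⟩, ⟨a, ha⟩⟩ ⟨⟨y', hy'⟩, ⟨b, hb⟩⟩ hab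
    have h1 : t y * a = t y' * b := congrArg Subtype.val hab
    have h2 : y = y' := by
      have := congrArg (fun z => ρ z x) h1
      simp only [map_mul, Equiv.Perm.mul_apply] at this
      rw [((hF' _).mp ha).2, ((hF' _).mp hb).2, ht2 y hy, ht2 y' hy'] at this
      exact this
    subst h2
    have h3 : a = b := mul_left_cancel h1
    subst h3
    rfl
  have := Nat.card_le_card_of_injective _ hinj
  rwa [Nat.card_prod, Nat.card_eq_fintype_card, Fintype.card_coe] at this

theorem Valid.card_ge [Finite G] {P : LData} (h : D.Valid P) (γ : ℕ → G)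
    (hγ : ∀ c < D.LB, ColOK D ρ S0 q c (γ c))
    (hq : ∀ r < D.m, ∀ s < D.m, q r = q s → r = s) :
    (∏ i ∈ Finset.range D.base.length, D.cnt i) * Nat.card (fixer D ρ S0 q D.base.length) ≤
      Nat.card S0 := by
  classical
  obtain ⟨g, hg⟩ := h.exists_elts ρ S0 q γ hγ
  have key : ∀ k ≤ D.base.length,
      (∏ i ∈ Finset.range k, D.cnt i) * Nat.card (fixer D ρ S0 q k) ≤ Nat.card S0 := by
    intro k
    induction k with
    | zero =>
      intro _
      have : fixer D ρ S0 q 0 = S0 := by
        ext x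
        rw [mem_fixer]
        exact ⟨fun hx => hx.1, fun hx => ⟨hx, fun t ht => absurd ht (by omega)⟩⟩
      rw [this]; simp
    | succ k ih =>
      intro hk
      refine le_trans ?_ (ih (by omega))
      rw [Finset.prod_range_succ, mul_assoc]
      apply Nat.mul_le_mul_left
      set T := (Finset.range D.m).filter (fun r => D.claimed k r = true) with hT
      have hcard : (T.image q).card = D.cnt k := by
        rw [Finset.card_image_of_injOn]
        · rfl
        · intro a ha b hb hab
          have ha' : a ∈ T := ha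
          have hb' : b ∈ T := hb
          rw [hT, Finset.mem_filter, Finset.mem_range] at ha' hb'
          exact hq a ha'.1 b hb'.1 hab
      rw [← hcard]
      apply card_step ρ _ _ (q (D.bs k))
      · intro x
        rw [mem_fixer, mem_fixer]
        constructor
        · rintro ⟨h1, h2⟩
          exact ⟨⟨h1, fun t ht => h2 t (by omega)⟩, h2 k (by omega)⟩
        · rintro ⟨⟨h1, h2⟩, h3⟩
          refine ⟨h1, fun t ht => ?_⟩
          rcases Nat.lt_succ_iff_lt_or_eq.mp ht with h4 | h4
          · exact h2 t h4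
          · rw [h4]; exact h3
      · intro y hy
        rw [Finset.mem_image] at hy
        obtain ⟨r, hr, rfl⟩ := hy
        rw [hT, Finset.mem_filter] at hr
        exact h.tree_sound ρ S0 q hg (by omega) r hr.2
  exact key _ le_rfl

end sound

end BData

end Cfsg.Agent.Lib.Helper35TC
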