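import Cfsg.Agent.Lib.Helper35TCd

set_option autoImplicit false
set_option maxRecDepth 100000

namespace Cfsg.Agent.Lib.Helper35R2c2

open Cfsg.Agent.Lib.Helper35TC

def tU : Tr := (Tr.node (Tr.leaf (nat_lit 0x1b2000222fcc63883f0f7e2cfc399a14b147224e01980001067a18f40d885bd3b920af411e84b7076c08c00007d3afb666f2405d7c312c8df2ebfda7eb4035c0003d5c8e40f471e6e3d9c792f258a26fc55f032c0001dcdbc1b75acef6e450bb5b7637087a14f01160000e669cebc7a174b4e45a2f0395a7f3b007408a80006eb2fc75b8cb8996d2b0d7db6cb8176f2e05500003618692b02799ea3ddd68b0d061acb35160226000198bba1a65aecd5d929bc5c652edf65c2c81520000c7598a9ba9b6124e36988b30d66ab0d7600a88000602ad3617eaae116cb2ba5572aaf535da608400002b1058a2b0519cc2bd45728ad516a92cd2029e0001549b19654a6a63d90baa1353a6bc557ca820e00009e39467a89260aca14940927d25a28b65010600004998b2512e6add54b229545288a6cf4c9e07300002ad44418914118822d0452089411e7234e0414000102529124296a54d087a0cf411e9a4538881ca00009d48f451fce3f1c7d38f871ece4720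90401048000379273353089e0d391a7134e069d8b3a160624000249143a06524da61a0c33986630d651a4a04100000bc4188b431e632cc25980b2f967534ee681880000803cf2716082e145b28b45164a35186c300a38000371a5124c8613872b1250249e4950829100518000174b25905728903130825104920a649549020a000080390471f8e4d247a291871f0e44188430104000039187430e06239036107630dc6218e451c0618000170a2f145a28b051e0e2b0c6828c841808030800009c4140826104a20d46120429106228cc5010200003a187830e061b0c3418a850c8221083e10080000016082e105420a04130846204801006220c000000008020f041c0834106020b0430182000480000000001800280040006000800080110814081c1)) (Tr.leaf (nat_lit 0x4600003d787cf7f96ff8dfe197bb1f667f6d3e9a01300001e9cbc3b7836f3edddc3cdb77b4f267e2cc0b78000ede7d2d7afaf3afec69d1d79f87572e9e408b400071ede5e9cad399a7675e45ddfdbebbfdf7025a0003b5af0f3e167c5cf836f133f6efe3dbcbb016c0001e8db7d96ff2dd59f1df7b96eedea6bd6d41158000d7d7b3c7658ee31d8e3efdf618edaeda5c05a80007ab7d461adc34b57736d357d0d7576ea6d035200033d7e8efc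cd3cdd73b7e72fcd55a1b33f60228000192a32d7656ecbdd94bb93a64eedae3b7c40b38000e3698fb7216e327e0678da37996ab0d6600698000626cc559849b739622cc3d9859f417e8af02c800035d8df2bc1577a93035e9f0bdd77fa2fb401a3000173aaf155be3d26172aae1266efbb4f749c0518000b3536797317d969b2536da6c71dae6b4cc0584000646eafd161a2bb0d828c75b5ea2fd5e02b03400002b53d6e7ab418bb6b33d5e1c35975aaef500a00001519aa5160eca84d4f9aa9353a0b5536ca404f8000a3cb68a68d2d165a24b4c9686fd2a2a44406740004f24a0c93876f35ce9eb8d539927f0cf6101ba00025f1cc1fb7552e8e6d1cb5db1533482650009c00012a8aa734a629445278a571499ca4cb4b940cd000091c324863ed572890b7589e410cfa4a048036800046a08db9559e33047608c354d9a671cd63)))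
def tJ : Tr := (Tr.node (Tr.leaf (nat_lit 0x6d001d0065005d0055000d000000e100dd000000b500bd001900a1001100690041010501010000008d00950000007d00110000003100ed00e90000006d001d0065005d0055000d000000050001000000b500bd001900a1001100690041000500010000008d00950000007d001100000031000500010000008d001d0085007d00110000003100ed00e9000000a500ad0000001500000061003900f900f50000008d001d0085007d00110000003100050001000000a500ad0000001500000061003900050001000000a5001d009d001500000061003900f900f50000002100c500b90000009100710049011d0119000000a5001d009d0015000000610039000500010000002100c500b900000091007100490005000100000021001d00b90000009100710049011d011900000000001d00c100b10099007900510111010d00000021001d00b900000091007100490005000100000000001d00c100b1009900790051000500010000002100c5001900a9009100710049011d0119000000000000001900a1008900690041010501010000002100c5001900a900910071004900050001000000000000001900a1008900690041000500010000000000ad0000001500810061003900f900f50000000000ad00000015008100610039000500010000008d00950085000000110059003100ed00e90000008d009500850000001100590031000500010000006d00750065005d0000000d002900e100dd0000006d00750065005d0000000d00290005000100000045004d003d0035002d0000000900d500d100000045004d003d0035002d000000090005000100000115010900fd00f100e500d90000000500cd0000140310030c03080304030003000000050000))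 (Tr.leaf (nat_lit 0x2100c500b900a9009100710049011d01190000002100950085007d00110059003100ed00e90000002100ad009d001500c90061003900f900f50000002100c500b900a9001100710009000500010000008d00950085007d001100590009000500010000012100ad009d0015001100610039000500010000002100c500b900a90091000d0049011d01190000000000ad009d001500000061000900f900f5000000b500bd00190000008900690041010501010000002100c500b900a90091000d0049000500010000000000ad009d001500000061000900050001000000b500bd00190000008900690041000500010000000000ad009d00150081000d003900f900f5000000b500bd001900000089006900090105010100000045004d00000035002d0025000900d500d10000000000ad009d00150081000d003900050001000000b500bd001900000089006900090005000100000045004d00000035002d002500090005000100000045001d003d0035002d0025000900d500d1000000b500bd001900000089000d0041010501010000006d00750000005d0055000d000000e100dd00000045001d003d0035002d0025000900050001000000b500bd001900000089000d0041000500010000006d00750000005d0055000d000000050001)))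
def tA : Tr := (Tr.leaf (nat_lit 0x700000c37df7cb1cf4d28000032db6db0db4cf3640000cf5d6fd35c32c9f00002dd34d35bb6df7ac0000d73cf3b73df6d97000036cb2b37cadd75880000af1c71c77c6ebad000037c30ab6af5b6d540000befa75befaacb25000028baebaed2ec71c00000d2db67ce8cb0c1300002cb26cacb27befc80000c6bae4af0ae8a3300002aaa3c2a92f9e7300000a65be9a698e69b500002ea28868b68aebd800009e782d9e1b2aa8a0000268ac9a69a0a692400009699659657e28b700002491dadeaa4861bc00008dfaa38dda608080000229a28a289c965d000008616a86e786492c0000207278206a68e3a400007e37df7d995c73100001e7987a479e6dba8000075991d62375a6a600001c81c71c5e27dfb800006db59b85b6de7a700001a5e169681a75d8c000065d65955f6575e400001855e51d6185968000005da5d74dc5d96610000164db49a5966187400005585516555534de0000104546145144926800004d64cf5d34d555b00000e3d259249251460000031435545144f3d100001431041041038e5800002922d33cf3d144f00001228e38e38e41040000024d44d34d34b2cd00001140930c30c28a38000020b3cb2cb2cd34b00000f38828a28a30c1c000034930724924820600000b20a1882082491400001c71c91471c61840000061862041861c70c00001451451c31441020000041041060841450400000c30c30c50420800000020820821000c35000000410410410c0012000000000000002041))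
def tR : TrL := (TrL.node (TrL.node (TrL.node (TrL.node (TrL.node (TrL.node (TrL.node (TrL.leaf [nat_lit 0, nat_lit 1]) (TrL.leaf [nat_lit 0, nat_lit 6, nat_lit 0, nat_lit 6])) (TrL.node (TrL.leaf [nat_lit 4, nat_lit 5, nat_lit 4, nat_lit 5, nat_lit 4, nat_lit 5]) (TrL.leaf []))) (TrL.node (TrL.node (TrL.leaf [nat_lit 2, nat_lit 6, nat_lit 2, nat_lit 6]) (TrL.leaf [])) (TrL.node (TrL.leaf [nat_lit 6, nat_lit 7, nat_lit 6, nat_lit 7, nat_lit 6, nat_lit 7]) (TrL.leaf [])))) (TrL.node (TrL.node (TrL.node (TrL.leaf [nat_lit 8, nat_lit 8]) (TrL.leaf [nat_lit 8, nat_lit 1, nat_lit 8, nat_lit 1])) (TrL.node (TrL.leaf [nat_lit 5, nat_lit 6, nat_lit 5, nat_lit 6, nat_lit 5, nat_lit 6]) (TrL.leaf []))) (TrL.node (TrL.node (TrL.leaf [nat_lit 3, nat_lit 5, nat_lit 3, nat_lit 5]) (TrL.leaf [])) (TrL.node (TrL.leaf [nat_lit 1, nat_lit 3, nat_lit 1, nat_lit 3]) (TrL.leaf []))))) (TrL.node (TrL.node (TrL.node (TrL.node (TrL.leaf [nat_lit 4, nat_lit 4])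 (TrL.leaf [nat_lit 1, nat_lit 7, nat_lit 1, nat_lit 7])) (TrL.node (TrL.leaf [nat_lit 4, nat_lit 8, nat_lit 4, nat_lit 8]) (TrL.leaf []))) (TrL.node (TrL.node (TrL.leaf [nat_lit 2, nat_lit 7, nat_lit 2, nat_lit 7]) (TrL.leaf [])) (TrL.node (TrL.leaf [nat_lit 0, nat_lit 2, nat_lit 0, nat_lit 2]) (TrL.leaf [])))) (TrL.node (TrL.node (TrL.node (TrL.leaf [nat_lit 2, nat_lit 4, nat_lit 2, nat_lit 4]) (TrL.leaf [])) (TrL.node (TrL.leaf [nat_lit 5, nat_lit 7, nat_lit 5, nat_lit 7]) (TrL.leaf []))) (TrL.node (TrL.node (TrL.leaf [nat_lit 3, nat_lit 8, nat_lit 3, nat_lit 8]) (TrL.leaf [])) (TrL.node (TrL.leaf [nat_lit 5, nat_lit 0, nat_lit 5, nat_lit 0]) (TrL.leaf [])))))) (TrL.node (TrL.node (TrL.node (TrL.node (TrL.node (TrL.leaf [nat_lit 2, nat_lit 2]) (TrL.leaf [nat_lit 7, nat_lit 0, nat_lit 7, nat_lit 0])) (TrL.node (TrL.leaf [nat_lit 4, nat_lit 6, nat_lit 4, nat_lit 6]) (TrL.leaf []))) (TrL.node (TrL.node (TrL.leaf [nat_lit 2, nat_lit 8, nat_lit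 2, nat_lit 8]) (TrL.leaf [])) (TrL.node (TrL.leaf [nat_lit 4, nat_lit 3, nat_lit 2, nat_lit 8, nat_lit 7, nat_lit 6, nat_lit 5, nat_lit 4, nat_lit 3, nat_lit 2, nat_lit 8, nat_lit 7, nat_lit 6, nat_lit 5, nat_lit 4, nat_lit 3, nat_lit 2, nat_lit 8, nat_lit 7, nat_lit 6, nat_lit 5, nat_lit 4, nat_lit 3, nat_lit 2, nat_lit 8, nat_lit 7, nat_lit 6, nat_lit 5, nat_lit 4, nat_lit 3, nat_lit 2, nat_lit 8, nat_lit 7, nat_lit 6, nat_lit 5, nat_lit 4, nat_lit 3, nat_lit 2, nat_lit 8, nat_lit 7, nat_lit 6, nat_lit 5, nat_lit 4, nat_lit 3, nat_lit 2, nat_lit 8, nat_lit 7, nat_lit 6, nat_lit 5, nat_lit 4, nat_lit 3, nat_lit 2, nat_lit 8, nat_lit 7, nat_lit 6, nat_lit 5, nat_lit 4, nat_lit 3, nat_lit 2, nat_lit 1, nat_lit 8, nat_lit 7, nat_lit 6, nat_lit 5]) (TrL.leaf [])))) (TrL.node (TrL.node (TrL.node (TrL.leaf [nat_lit 2, nat_lit 3, nat_lit 2, nat_lit 3, nat_lit 2, nat_lit 3]) (TrL.leaf [])) (TrL.node (TrL.leaf [nat_lit 5, nat_lit 8, nat_lit 5,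 nat_lit 8, nat_lit 5, nat_lit 8]) (TrL.leaf []))) (TrL.node (TrL.node (TrL.leaf [nat_lit 3, nat_lit 6, nat_lit 3, nat_lit 6]) (TrL.leaf [])) (TrL.node (TrL.leaf [nat_lit 0, nat_lit 4, nat_lit 0, nat_lit 4]) (TrL.leaf []))))) (TrL.node (TrL.node (TrL.node (TrL.node (TrL.leaf [nat_lit 6, nat_lit 6]) (TrL.leaf [nat_lit 0, nat_lit 8, nat_lit 0, nat_lit 8])) (TrL.node (TrL.leaf [nat_lit 4, nat_lit 7, nat_lit 4, nat_lit 7]) (TrL.leaf []))) (TrL.node (TrL.node (TrL.leaf [nat_lit 3, nat_lit 4, nat_lit 3, nat_lit 4, nat_lit 3, nat_lit 4]) (TrL.leaf [])) (TrL.node (TrL.leaf [nat_lit 3, nat_lit 0, nat_lit 3, nat_lit 0]) (TrL.leaf [])))) (TrL.node (TrL.node (TrL.node (TrL.leaf [nat_lit 2, nat_lit 5, nat_lit 2, nat_lit 5]) (TrL.leaf [])) (TrL.node (TrL.leaf [nat_lit 6, nat_lit 8, nat_lit 6, nat_lit 8]) (TrL.leaf []))) (TrL.node (TrL.node (TrL.leaf [nat_lit 3, nat_lit 7, nat_lit 3, nat_lit 7]) (TrL.leaf [])) (TrL.node (TrL.leaf [nat_lit 1, nat_lit 5,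 nat_lit 1, nat_lit 5]) (TrL.leaf []))))))) (TrL.node (TrL.node (TrL.node (TrL.node (TrL.node (TrL.node (TrL.leaf [nat_lit 1, nat_lit 0]) (TrL.leaf [nat_lit 1, nat_lit 6, nat_lit 1, nat_lit 6])) (TrL.node (TrL.leaf [nat_lit 6, nat_lit 4, nat_lit 6, nat_lit 4]) (TrL.leaf []))) (TrL.node (TrL.node (TrL.leaf [nat_lit 8, nat_lit 2, nat_lit 8, nat_lit 2]) (TrL.leaf [])) (TrL.node (TrL.leaf [nat_lit 7, nat_lit 8, nat_lit 7, nat_lit 8]) (TrL.leaf [])))) (TrL.node (TrL.node (TrL.node (TrL.leaf [nat_lit 3, nat_lit 2, nat_lit 3, nat_lit 2, nat_lit 3, nat_lit 2]) (TrL.leaf [])) (TrL.node (TrL.leaf [nat_lit 8, nat_lit 5, nat_lit 8, nat_lit 5, nat_lit 8, nat_lit 5]) (TrL.leaf []))) (TrL.node (TrL.node (TrL.leaf [nat_lit 6, nat_lit 3, nat_lit 6, nat_lit 3]) (TrL.leaf [])) (TrL.node (TrL.leaf [nat_lit 4, nat_lit 0, nat_lit 4, nat_lit 0]) (TrL.leaf []))))) (TrL.node (TrL.node (TrL.node (TrL.node (TrL.leaf [nat_lit 5, nat_lit 5]) (TrL.leaf [nat_lit 8, nat_lit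 0, nat_lit 8, nat_lit 0])) (TrL.node (TrL.leaf [nat_lit 7, nat_lit 4, nat_lit 7, nat_lit 4]) (TrL.leaf []))) (TrL.node (TrL.node (TrL.leaf [nat_lit 4, nat_lit 3, nat_lit 4, nat_lit 3, nat_lit 4, nat_lit 3]) (TrL.leaf [])) (TrL.node (TrL.leaf [nat_lit 1, nat_lit 2, nat_lit 1, nat_lit 2]) (TrL.leaf [])))) (TrL.node (TrL.node (TrL.node (TrL.leaf [nat_lit 5, nat_lit 2, nat_lit 5, nat_lit 2]) (TrL.leaf [])) (TrL.node (TrL.leaf [nat_lit 8, nat_lit 6, nat_lit 8, nat_lit 6]) (TrL.leaf []))) (TrL.node (TrL.node (TrL.leaf [nat_lit 7, nat_lit 3, nat_lit 7, nat_lit 3]) (TrL.leaf [])) (TrL.node (TrL.leaf [nat_lit 0, nat_lit 5, nat_lit 0, nat_lit 5]) (TrL.leaf [])))))) (TrL.node (TrL.node (TrL.node (TrL.node (TrL.node (TrL.leaf [nat_lit 3, nat_lit 3]) (TrL.leaf [nat_lit 0, nat_lit 7, nat_lit 0, nat_lit 7])) (TrL.node (TrL.leaf [nat_lit 8, nat_lit 4, nat_lit 8, nat_lit 4]) (TrL.leaf []))) (TrL.node (TrL.node (TrL.leaf [nat_lit 7, nat_lit 2, nat_lit 7,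 nat_lit 2]) (TrL.leaf [])) (TrL.node (TrL.leaf [nat_lit 0, nat_lit 0]) (TrL.leaf [])))) (TrL.node (TrL.node (TrL.node (TrL.leaf [nat_lit 4, nat_lit 2, nat_lit 4, nat_lit 2]) (TrL.leaf [])) (TrL.node (TrL.leaf [nat_lit 7, nat_lit 5, nat_lit 7, nat_lit 5]) (TrL.leaf []))) (TrL.node (TrL.node (TrL.leaf [nat_lit 8, nat_lit 3, nat_lit 8, nat_lit 3]) (TrL.leaf [])) (TrL.node (TrL.leaf [nat_lit 1, nat_lit 4, nat_lit 1, nat_lit 4]) (TrL.leaf []))))) (TrL.node (TrL.node (TrL.node (TrL.node (TrL.leaf [nat_lit 7, nat_lit 7]) (TrL.leaf [nat_lit 1, nat_lit 8, nat_lit 1, nat_lit 8])) (TrL.node (TrL.leaf [nat_lit 6, nat_lit 5, nat_lit 6, nat_lit 5, nat_lit 6, nat_lit 5]) (TrL.leaf []))) (TrL.node (TrL.node (TrL.leaf [nat_lit 5, nat_lit 3, nat_lit 5, nat_lit 3]) (TrL.leaf [])) (TrL.node (TrL.leaf [nat_lit 0, nat_lit 3, nat_lit 0, nat_lit 3]) (TrL.leaf [])))) (TrL.node (TrL.node (TrL.node (TrL.leaf [nat_lit 6, nat_lit 2, nat_lit 6, nat_lit 2]) (TrL.leaf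 [])) (TrL.node (TrL.leaf [nat_lit 7, nat_lit 6, nat_lit 7, nat_lit 6, nat_lit 7, nat_lit 6]) (TrL.leaf []))) (TrL.node (TrL.node (TrL.leaf [nat_lit 5, nat_lit 4, nat_lit 5, nat_lit 4, nat_lit 5, nat_lit 4]) (TrL.leaf [])) (TrL.node (TrL.leaf [nat_lit 6, nat_lit 0, nat_lit 6, nat_lit 0]) (TrL.leaf []))))))))
def rotSrc : List (ℕ × ℕ × Bool) := [(0, 0, false), (64, 1, false), (26, 1, false), (67, 0, false), (13, 1, false), (67, 0, false), (43, 1, false), (67, 0, false), (8, 0, false), (66, 1, true), (34, 1, false), (67, 0, false), (19, 1, false), (67, 0, false), (61, 0, true), (67, 0, false), (4, 0, false), (65, 0, true), (28, 1, false), (67, 0, false), (15, 1, false), (67, 0, false), (60, 1, false), (67, 0, false), (11, 1, false), (67, 0, false), (36, 1, false), (67, 0, false), (21, 1, false), (67, 0, false), (63, 0, false), (67, 0, false), (2, 0, false), (65, 0, false), (27, 1, false), (67, 0, false), (14, 1, false), (67, 0, false), (58,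 5, true), (67, 0, false), (10, 1, false), (67, 0, false), (35, 1, false), (67, 0, false), (20, 1, false), (67, 0, false), (62, 1, false), (67, 0, false), (6, 0, false), (66, 1, false), (29, 1, false), (67, 0, false), (18, 1, false), (67, 0, false), (61, 0, false), (67, 0, false), (12, 1, false), (67, 0, false), (42, 1, false), (67, 0, false), (22, 1, false), (67, 0, false), (63, 0, true), (67, 0, false), (0, 1, false), (64, 0, true), (27, 0, false), (67, 0, false), (14, 0, false), (67, 0, false), (50, 0, false), (67, 0, false), (10, 0, false), (67, 0, false), (35, 0, false), (67, 0, false), (20, 0, false), (67, 0, false), (62, 0, false), (67, 0, false), (5, 0, false), (66, 0, false), (29, 0, false), (67, 0, false), (18, 0, false), (67, 0, false), (60, 0, true), (67, 0, false), (12, 0, false), (67, 0, false), (42, 0, false), (67, 0, false), (22, 0, false), (67, 0, false), (63, 1, false), (67, 0, false), (3, 0, false), (65, 1, false), (28,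 0, false), (67, 0, false), (15, 0, false), (67, 0, false), (59, 0, false), (67, 0, false), (11, 0, false), (67, 0, false), (36, 0, false), (67, 0, false), (21, 0, false), (67, 0, false), (62, 0, true), (67, 0, false), (7, 0, false), (66, 0, true), (34, 0, false), (67, 0, false), (19, 0, false), (67, 0, false), (61, 1, false), (67, 0, false), (13, 0, false), (67, 0, false), (43, 0, false), (67, 0, false), (26, 0, false), (67, 0, false), (64, 0, false), (67, 0, false)]
def relWords : List (List ℕ) := [[0, 1], [1, 0], [2, 2], [3, 3], [4, 4], [5, 5], [6, 6], [7, 7], [8, 8], [2, 2], [3, 2, 3, 2, 3, 2], [4, 2, 4, 2], [5, 2, 5, 2], [6, 2, 6, 2], [8, 2, 8, 2], [7, 2, 7, 2], [2, 3, 2, 3, 2, 3], [3, 3], [4, 3, 4, 3, 4, 3], [5, 3, 5, 3], [6, 3, 6, 3], [8, 3, 8, 3], [7, 3, 7, 3], [2, 4, 2, 4], [3, 4, 3, 4, 3, 4], [4, 4], [5, 4, 5, 4, 5, 4], [6, 4, 6, 4], [8, 4, 8, 4], [7, 4, 7, 4], [2, 5, 2, 5], [3, 5, 3, 5], [4, 5, 4, 5, 4, 5], [5, 5], [6, 5, 6,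 5, 6, 5], [8, 5, 8, 5, 8, 5], [7, 5, 7, 5], [2, 6, 2, 6], [3, 6, 3, 6], [4, 6, 4, 6], [5, 6, 5, 6, 5, 6], [6, 6], [8, 6, 8, 6], [7, 6, 7, 6, 7, 6], [2, 8, 2, 8], [3, 8, 3, 8], [4, 8, 4, 8], [5, 8, 5, 8, 5, 8], [6, 8, 6, 8], [8, 8], [7, 8, 7, 8], [2, 7, 2, 7], [3, 7, 3, 7], [4, 7, 4, 7], [5, 7, 5, 7], [6, 7, 6, 7, 6, 7], [8, 7, 8, 7], [7, 7], [2, 3, 4, 5, 6, 7, 8, 2, 3, 4, 5, 6, 7, 8, 2, 3, 4, 5, 6, 7, 8, 2, 3, 4, 5, 6, 7, 8, 2, 3, 4, 5, 6, 7, 8, 2, 3, 4, 5, 6, 7, 8, 2, 3, 4, 5, 6, 7, 8, 2, 3, 4, 5, 6, 7, 8, 2, 3, 4, 5, 6, 7, 8, 0], [0, 0], [2, 0, 2, 0], [3, 0, 3, 0], [4, 0, 4, 0], [5, 0, 5, 0], [6, 0, 6, 0], [7, 0, 7, 0], [8, 0, 8, 0]]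
def subsW : List (List ℕ) := [[nat_lit 3], [nat_lit 4], [nat_lit 5], [nat_lit 6], [nat_lit 7], [nat_lit 8]]
def relPairs : List (List ℕ × List ℕ) := [([nat_lit 3, nat_lit 2, nat_lit 3], [nat_lit 2, nat_lit 3, nat_lit 2]), ([nat_lit 4, nat_lit 2], [nat_lit 2, nat_lit 4]), ([nat_lit 5, nat_lit 2], [nat_lit 2, nat_lit 5]), ([nat_lit 6, nat_lit 2], [nat_lit 2, nat_lit 6]), ([nat_lit 8, nat_lit 2], [nat_lit 2, nat_lit 8]), ([nat_lit 7, nat_lit 2], [nat_lit 2, nat_lit 7]), ([nat_lit 4, nat_lit 3, nat_lit 4], [nat_lit 3, nat_lit 4, nat_lit 3]), ([nat_lit 5, nat_lit 3], [nat_lit 3, nat_lit 5]), ([nat_lit 6, nat_lit 3], [nat_lit 3, nat_lit 6]), ([nat_lit 8, nat_lit 3], [nat_lit 3, nat_lit 8]), ([nat_lit 7, nat_lit 3], [nat_lit 3, nat_lit 7]), ([nat_lit 5, nat_lit 4, nat_lit 5], [nat_lit 4, nat_lit 5, nat_lit 4]), ([nat_lit 6, nat_lit 4], [nat_lit 4, nat_lit 6]), ([nat_lit 8, nat_lit 4], [nat_lit 4, nat_lit 8]), ([nat_lit 7, nat_lit 4], [nat_lit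 4, nat_lit 7]), ([nat_lit 6, nat_lit 5, nat_lit 6], [nat_lit 5, nat_lit 6, nat_lit 5]), ([nat_lit 8, nat_lit 5, nat_lit 8], [nat_lit 5, nat_lit 8, nat_lit 5]), ([nat_lit 7, nat_lit 5], [nat_lit 5, nat_lit 7]), ([nat_lit 8, nat_lit 6], [nat_lit 6, nat_lit 8]), ([nat_lit 7, nat_lit 6, nat_lit 7], [nat_lit 6, nat_lit 7, nat_lit 6]), ([nat_lit 7, nat_lit 8], [nat_lit 8, nat_lit 7]), ([nat_lit 12, nat_lit 12, nat_lit 12, nat_lit 12, nat_lit 12, nat_lit 12, nat_lit 12, nat_lit 12, nat_lit 12, nat_lit 0], []), ([nat_lit 0], [nat_lit 1]), ([nat_lit 2, nat_lit 0], [nat_lit 1, nat_lit 2]), ([nat_lit 3, nat_lit 0], [nat_lit 1, nat_lit 3]), ([nat_lit 4, nat_lit 0], [nat_lit 1, nat_lit 4]), ([nat_lit 5, nat_lit 0], [nat_lit 1, nat_lit 5]), ([nat_lit 6, nat_lit 0], [nat_lit 1, nat_lit 6]), ([nat_lit 7, nat_lit 0], [nat_lit 1, nat_lit 7]), ([nat_lit 8, nat_lit 0], [nat_lit 1, nat_lit 8])]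
def macrosW : List (List ℕ) := [[nat_lit 2, nat_lit 3, nat_lit 4, nat_lit 5, nat_lit 6, nat_lit 7, nat_lit 8]]

noncomputable def U : UData where
  N := nat_lit 56
  L := nat_lit 9
  F := nat_lit 1
  TB := nat_lit 6
  FW := nat_lit 15
  JW := nat_lit 16
  mT := nat_lit 63
  mF := nat_lit 32767
  mJ := nat_lit 65535
  row := getRow tU (nat_lit 5) (nat_lit 31) (nat_lit 165) (nat_lit 0x1fffffffffffffffffffffffffffffffffffffffff)
  jrow := getRow tJ (nat_lit 5) (nat_lit 31) (nat_lit 160) (nat_lit 0xffffffffffffffffffffffffffffffffffffffff)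
  rot := tR.get
  sub := fun h => subsW.getD h []

noncomputable def P : LData where
  n := nat_lit 56
  L := nat_lit 9
  AB := nat_lit 6
  mA := nat_lit 63
  arow := getRow tA (nat_lit 6) (nat_lit 63) (nat_lit 78) (nat_lit 0x3fffffffffffffffffff)
  ivl := [nat_lit 1, nat_lit 0, nat_lit 2, nat_lit 3, nat_lit 4, nat_lit 5, nat_lit 6, nat_lit 7, nat_lit 8]
  relPairs := relPairs
  macros := macrosW
  subs := subsW
  roots := []

end Cfsg.Agent.Lib.Helper35R2c2
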