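import Cfsg.Agent.Lib.Helper35SuzAChk0
import Cfsg.Prelude.Def_Spor_Suz

set_option autoImplicit false
set_option maxRecDepth 100000

namespace Cfsg.Agent.Lib.Helper35SuzA

open Cfsg.Agent.Lib.Helper35TC

open Cfsg.Spor

theorem chkU_12_0 : allD U.chkRow 12 0 = true :=
  allD_join chkU_11_0 chkU_11_1 (by norm_num)
theorem chkU_12_1 : allD U.chkRow 12 4096 = true :=
  allD_join chkU_11_2 chkU_11_3 (by norm_num)
theorem chkU_13_0 : allD U.chkRow 13 0 = true :=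
  allD_join chkU_12_0 chkU_12_1 (by norm_num)
theorem chkP_10_0 : allD P.chkPt 10 0 = true :=
  allD_join chkP_9_0 chkP_9_1 (by norm_num)
theorem chkP_10_1 : allD P.chkPt 10 1024 = true :=
  allD_join chkP_9_2 chkP_9_3 (by norm_num)
theorem chkP_11_0 : allD P.chkPt 11 0 = true :=
  allD_join chkP_10_0 chkP_10_1 (by norm_num)

def extraExps : List (WExp Cfsg.Spor.Suz.Gen) := [
  (.mul (.of .a) (.inv (.pow (.mul (.of .c) (.of .d)) 4))),
  (.mul (.of .a) (.inv (.pow (.mul (.of .f) (.of .g)) 2))),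
  (.pow (.mul (.mul (.mul (.of .a) (.of .b)) (.of .c)) (.of .f)) 5),
  (.pow (.mul (.mul (.of .b) (.of .f)) (.of .g)) 5),
  (.pow (.mul (.pow (.mul (.mul (.mul (.mul (.of .b) (.of .c)) (.of .d)) (.of .c)) (.of .d)) 5) (.of .e)) 3)]

def subExps : List (WExp Cfsg.Spor.Suz.Gen) := [
  (.of .a),
  (.of .b),
  (.of .c),
  (.of .d),
  (.of .e),
  (.of .f)]

def code : Cfsg.Spor.Suz.Gen → ℕ
  | .a => 0
  | .b => 1
  | .c => 2
  | .d => 3
  | .e => 4
  | .f => 5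
  | .g => 6

noncomputable def K : Pkg Cfsg.Spor.Suz.Gen where
  rels := coxRelators Cfsg.Spor.Suz.edges ∪ {r | r ∈ Cfsg.Spor.Suz.extra}
  S := {Cfsg.Spor.Suz.a, Cfsg.Spor.Suz.b, Cfsg.Spor.Suz.c, Cfsg.Spor.Suz.d, Cfsg.Spor.Suz.e, Cfsg.Spor.Suz.f}
  relExps := coxExps Cfsg.Spor.Suz.edges ++ extraExps
  subExps := subExps
  code := code
  letters := [FreeGroup.of Cfsg.Spor.Suz.Gen.a, FreeGroup.of Cfsg.Spor.Suz.Gen.b, FreeGroup.of Cfsg.Spor.Suz.Gen.c, FreeGroup.of Cfsg.Spor.Suz.Gen.d, FreeGroup.of Cfsg.Spor.Suz.Gen.e, FreeGroup.of Cfsg.Spor.Suz.Gen.f, FreeGroup.of Cfsg.Spor.Suz.Gen.g]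
  U := U
  rotT := tR
  rotSrc := rotSrc
  relWords := relWords
  P := P

theorem hS : ∀ s, s ∈ K.S ↔ ∃ e ∈ K.subExps, s = e.eval := by
  intro s
  constructor
  · intro hs
    have hs' : s ∈ ({Cfsg.Spor.Suz.a, Cfsg.Spor.Suz.b, Cfsg.Spor.Suz.c, Cfsg.Spor.Suz.d, Cfsg.Spor.Suz.e, Cfsg.Spor.Suz.f} : Set (FreeGroup Cfsg.Spor.Suz.Gen)) := hs
    simp only [Set.mem_insert_iff, Set.mem_singleton_iff] at hs'
    rcases hs' with rfl | rfl | rfl | rfl | rfl | rfl
    · exact ⟨(.of .a), by simp [K, subExps], rfl⟩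
    · exact ⟨(.of .b), by simp [K, subExps], rfl⟩
    · exact ⟨(.of .c), by simp [K, subExps], rfl⟩
    · exact ⟨(.of .d), by simp [K, subExps], rfl⟩
    · exact ⟨(.of .e), by simp [K, subExps], rfl⟩
    · exact ⟨(.of .f), by simp [K, subExps], rfl⟩
  · rintro ⟨e, he, rfl⟩
    have he' : e ∈ subExps := he
    simp only [subExps, List.mem_cons, List.not_mem_nil, or_false] at he'
    show e.eval ∈ ({Cfsg.Spor.Suz.a, Cfsg.Spor.Suz.b, Cfsg.Spor.Suz.c, Cfsg.Spor.Suz.d, Cfsg.Spor.Suz.e, Cfsg.Spor.Suz.f} : Set (FreeGroup Cfsg.Spor.Suz.Gen))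
    rcases he' with rfl | rfl | rfl | rfl | rfl | rfl <;>
      simp only [WExp.eval, Set.mem_insert_iff, Set.mem_singleton_iff, true_or, or_true]

theorem hsurj : ∀ l < K.P.L, ∃ x, l = K.code x ∨ l = K.P.iv (K.code x) := by
  intro l hl
  have hl' : l < 7 := hl
  interval_cases l
  · exact ⟨.a, Or.inl rfl⟩
  · exact ⟨.b, Or.inl rfl⟩
  · exact ⟨.c, Or.inl rfl⟩
  · exact ⟨.d, Or.inl rfl⟩
  · exact ⟨.e, Or.inl rfl⟩
  · exact ⟨.f, Or.inl rfl⟩
  · exact ⟨.g, Or.inl rfl⟩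

theorem hvalG_lt : ∀ l < K.P.L, K.valG (K.P.iv l) * K.valG l = 1 := by
  intro l hl
  have hl' : l < 7 := hl
  interval_cases l
  · exact cox_sq Cfsg.Spor.Suz.edges _ .a (by decide)
  · exact cox_sq Cfsg.Spor.Suz.edges _ .b (by decide)
  · exact cox_sq Cfsg.Spor.Suz.edges _ .c (by decide)
  · exact cox_sq Cfsg.Spor.Suz.edges _ .d (by decide)
  · exact cox_sq Cfsg.Spor.Suz.edges _ .e (by decide)
  · exact cox_sq Cfsg.Spor.Suz.edges _ .f (by decide)
  · exact cox_sq Cfsg.Spor.Suz.edges _ .g (by decide)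

theorem hP : K.P.Valid where
  hn := by decide
  hlen := rfl
  hiv := by decide
  hpt := all_of_allD _ 11 1782 (by norm_num) chkP_11_0
  hmacL := by decide
  hrelL := by decide

theorem ok : K.Ok where
  hrels := hrels_of Cfsg.Spor.Suz.edges Cfsg.Spor.Suz.extra extraExps rfl
  hS := hS
  hcodeL := by intro x; cases x <;> decide
  hletters := by intro x; cases x <;> rfl
  hsurj := hsurj
  hvalG := Pkg.hvalG_of rfl rfl hvalG_lt
  hP := hP
  hpairs := by decide +kernel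
  hsubsP := by decide +kernel
  hsub0 := by decide +kernel
  hUL := rfl
  hUN := by decide
  hrot := rfl
  hrotT := by decide +kernel
  hrelW := by decide +kernel
  hUsub := fun _ => rfl
  hchk := all_of_allD _ 13 7923 (by norm_num) chkU_13_0
  hcnt := by
    have h := card_filter_range U.live 13 7923 (by norm_num) U.live_lt
    rw [cntU_13_0] at h
    exact le_of_eq h

theorem horb : ∀ j < K.P.n, K.P.chkOrb j = true :=
  all_of_allD _ 11 1782 (by norm_num) chkO_11_0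

theorem orbit0 : ∃ q : K.Grp ⧸ K.H,
    (∀ q', q' ∈ MulAction.orbit K.H q ↔ K.P.lab (ok.thetaFun q') = 0) ∧
    (MulAction.orbit K.H q).ncard = 1 := by
  obtain ⟨q, h1, h2⟩ := ok.orbit_spec horb 0 0 (by decide +kernel) (by decide) (by decide +kernel)
  refine ⟨q, h1, ?_⟩
  have h := card_filter_range (P.labIs 0) 11 1782 (by norm_num) (P.labIs_lt 0)
  rw [cntO0_11_0] at h
  exact h2.trans h

theorem orbit1 : ∃ q : K.Grp ⧸ K.H,
    (∀ q', q' ∈ MulAction.orbit K.H q ↔ K.P.lab (ok.thetaFun q') = 1) ∧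
    (MulAction.orbit K.H q).ncard = 1365 := by
  obtain ⟨q, h1, h2⟩ := ok.orbit_spec horb 1 1 (by decide +kernel) (by decide) (by decide +kernel)
  refine ⟨q, h1, ?_⟩
  have h := card_filter_range (P.labIs 1) 11 1782 (by norm_num) (P.labIs_lt 1)
  rw [cntO1_11_0] at h
  exact h2.trans h

theorem orbit2 : ∃ q : K.Grp ⧸ K.H,
    (∀ q', q' ∈ MulAction.orbit K.H q ↔ K.P.lab (ok.thetaFun q') = 2) ∧
    (MulAction.orbit K.H q).ncard = 416 := by
  obtain ⟨q, h1, h2⟩ := ok.orbit_spec horb 2 47 (by decide +kernel) (by decide) (by decide +kernel)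
  refine ⟨q, h1, ?_⟩
  have h := card_filter_range (P.labIs 2) 11 1782 (by norm_num) (P.labIs_lt 2)
  rw [cntO2_11_0] at h
  exact h2.trans h

end Cfsg.Agent.Lib.Helper35SuzA
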