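import Cfsg.Agent.Lib.Helper35SuzAMain
import Cfsg.Agent.Lib.Helper35Suzc1Main
import Cfsg.Agent.Lib.Helper35Suzc2Main
import Cfsg.Agent.Lib.Helper35Suzc3Main
import Cfsg.Agent.Lib.Helper35Suzc4Main
import Cfsg.Agent.Lib.Helper35Ord4

set_option autoImplicit false
set_option maxRecDepth 100000

namespace Cfsg.Agent.Lib.Helper35SuzUb

open Cfsg.Agent.Lib.Helper35TC

theorem ub4 : Finite Cfsg.Agent.Lib.Helper35Suzc4.K.Grp ∧ Nat.card Cfsg.Agent.Lib.Helper35Suzc4.K.Grp ≤ 16 :=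
  Cfsg.Agent.Lib.Helper35Suzc4.ok.chain_base rfl

def i3 : Cfsg.Agent.Lib.Helper35Suzc4.Gen → Cfsg.Agent.Lib.Helper35Suzc3.Gen
  | .c => .c
  | .d => .d

theorem hmem3 : ∀ e ∈ Cfsg.Agent.Lib.Helper35Suzc4.K.relExps, e.map i3 ∈ Cfsg.Agent.Lib.Helper35Suzc3.K.relExps := by decide +kernel

theorem ub3 : Finite Cfsg.Agent.Lib.Helper35Suzc3.K.Grp ∧ Nat.card Cfsg.Agent.Lib.Helper35Suzc3.K.Grp ≤ 135 * 16 :=
  Cfsg.Agent.Lib.Helper35Suzc3.ok.chain_step Cfsg.Agent.Lib.Helper35Suzc4.ok i3 (fun e he => Cfsg.Agent.Lib.Helper35Suzc3.ok.rel_one (hmem3 e he))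
    (hsub_of_list i3 _ [(.of .c), (.of .d)] (by decide +kernel)) 16 ub4

def i2 : Cfsg.Agent.Lib.Helper35Suzc3.Gen → Cfsg.Agent.Lib.Helper35Suzc2.Gen
  | .a => .a
  | .b => .b
  | .c => .c
  | .d => .d

theorem hmem2 : ∀ e ∈ Cfsg.Agent.Lib.Helper35Suzc3.K.relExps, e.map i2 ∈ Cfsg.Agent.Lib.Helper35Suzc2.K.relExps := by decide +kernel

theorem ub2 : Finite Cfsg.Agent.Lib.Helper35Suzc2.K.Grp ∧ Nat.card Cfsg.Agent.Lib.Helper35Suzc2.K.Grp ≤ 280 * 2160 :=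
  Cfsg.Agent.Lib.Helper35Suzc2.ok.chain_step Cfsg.Agent.Lib.Helper35Suzc3.ok i2 (fun e he => Cfsg.Agent.Lib.Helper35Suzc2.ok.rel_one (hmem2 e he))
    (hsub_of_list i2 _ [(.of .a), (.of .b), (.of .c), (.of .d)] (by decide +kernel)) 2160 ub3

def i1 : Cfsg.Agent.Lib.Helper35Suzc2.Gen → Cfsg.Agent.Lib.Helper35Suzc1.Gen
  | .a => .a
  | .b => .b
  | .c => .c
  | .d => .d
  | .e => .e

theorem hmem1 : ∀ e ∈ Cfsg.Agent.Lib.Helper35Suzc2.K.relExps, e.map i1 ∈ Cfsg.Agent.Lib.Helper35Suzc1.K.relExps := by decide +kernel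

theorem ub1 : Finite Cfsg.Agent.Lib.Helper35Suzc1.K.Grp ∧ Nat.card Cfsg.Agent.Lib.Helper35Suzc1.K.Grp ≤ 416 * 604800 :=
  Cfsg.Agent.Lib.Helper35Suzc1.ok.chain_step Cfsg.Agent.Lib.Helper35Suzc2.ok i1 (fun e he => Cfsg.Agent.Lib.Helper35Suzc1.ok.rel_one (hmem1 e he))
    (hsub_of_list i1 _ [(.of .a), (.of .b), (.of .c), (.of .d), (.of .e)] (by decide +kernel)) 604800 ub2

def i0 : Cfsg.Agent.Lib.Helper35Suzc1.Gen → Cfsg.Spor.Suz.Gen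
  | .a => .a
  | .b => .b
  | .c => .c
  | .d => .d
  | .e => .e
  | .f => .f

theorem hmem0 : ∀ e ∈ Cfsg.Agent.Lib.Helper35Suzc1.K.relExps, e.map i0 ∈ Cfsg.Agent.Lib.Helper35SuzA.K.relExps := by decide +kernel

theorem ub0 : Finite Cfsg.Agent.Lib.Helper35SuzA.K.Grp ∧ Nat.card Cfsg.Agent.Lib.Helper35SuzA.K.Grp ≤ 1782 * 251596800 :=
  Cfsg.Agent.Lib.Helper35SuzA.ok.chain_step Cfsg.Agent.Lib.Helper35Suzc1.ok i0 (fun e he => Cfsg.Agent.Lib.Helper35SuzA.ok.rel_one (hmem0 e he))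
    (hsub_of_list i0 _ [(.of .a), (.of .b), (.of .c), (.of .d), (.of .e), (.of .f)] (by decide +kernel)) 251596800 ub1

end Cfsg.Agent.Lib.Helper35SuzUb
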