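import Cfsg.Agent.Lib.Helper35TCd

set_option autoImplicit false
set_option maxRecDepth 100000

namespace Cfsg.Agent.Lib.Helper35Suzc4

open Cfsg.Agent.Lib.Helper35TC

def tU : Tr := (Tr.leaf (nat_lit 0x5a001e6bee058001c640f016001d7b4b014001b730a05200164b2d050001442ec00e00155a4700c0013520604a000e2a29048000c21e8006000d3943004000b310204200060925040000400e40000005184000000031021))
def tJ : Tr := (Tr.leaf (nat_lit 0x140048000000a00040000000000200000000001000000140000000000a00000000000000200000000001000000140000000000a00000000000000200000000001000000140000000000a00000000000000200000000000))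
def tA : Tr := (Tr.leaf (nat_lit 0xd7000063c0003d60001ca00009680004300002ce00014600005480002200001c60000c200001280000100000c0000041))
def tR : TrL := (TrL.node (TrL.node (TrL.leaf [nat_lit 0, nat_lit 0]) (TrL.leaf [nat_lit 0, nat_lit 1, nat_lit 0, nat_lit 1, nat_lit 0, nat_lit 1, nat_lit 0, nat_lit 1, nat_lit 0, nat_lit 1, nat_lit 0, nat_lit 1, nat_lit 0, nat_lit 1, nat_lit 0, nat_lit 1])) (TrL.node (TrL.leaf [nat_lit 1, nat_lit 1]) (TrL.leaf [])))
def rotSrc : List (ℕ × ℕ × Bool) := [(0, 0, false), (3, 1, false), (1, 0, false), (6, 0, false)]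
def relWords : List (List ℕ) := [[0, 0], [1, 1], [0, 0], [1, 0, 1, 0, 1, 0, 1, 0, 1, 0, 1, 0, 1, 0, 1, 0], [0, 1, 0, 1, 0, 1, 0, 1, 0, 1, 0, 1, 0, 1, 0, 1], [1, 1]]
def subsW : List (List ℕ) := []
def relPairs : List (List ℕ × List ℕ) := [([nat_lit 1, nat_lit 0, nat_lit 1, nat_lit 0, nat_lit 1, nat_lit 0, nat_lit 1, nat_lit 0], [nat_lit 0, nat_lit 1, nat_lit 0, nat_lit 1, nat_lit 0, nat_lit 1, nat_lit 0, nat_lit 1])]
def macrosW : List (List ℕ) := []

noncomputable def U : UData where
  N := nat_lit 16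
  L := nat_lit 2
  F := nat_lit 1
  TB := nat_lit 5
  FW := nat_lit 11
  JW := nat_lit 15
  mT := nat_lit 31
  mF := nat_lit 2047
  mJ := nat_lit 32767
  row := getRow tU (nat_lit 5) (nat_lit 31) (nat_lit 44) (nat_lit 0xfffffffffff)
  jrow := getRow tJ (nat_lit 5) (nat_lit 31) (nat_lit 45) (nat_lit 0x1fffffffffff)
  rot := tR.get
  sub := fun h => subsW.getD h []

noncomputable def P : LData where
  n := nat_lit 16
  L := nat_lit 2
  AB := nat_lit 5
  mA := nat_lit 31
  arow := getRow tA (nat_lit 6) (nat_lit 63) (nat_lit 25) (nat_lit 0x1ffffff)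
  ivl := [nat_lit 0, nat_lit 1]
  relPairs := relPairs
  macros := macrosW
  subs := subsW
  roots := []

end Cfsg.Agent.Lib.Helper35Suzc4
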