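import Cfsg.Agent.Lib.Helper38PCpcb

set_option autoImplicit false

/-! Groups generated by a polycyclic sequence of involutions: normal forms and orders. -/

namespace Cfsg.Agent.Lib.Helper35Syl

open Cfsg.Agent.Lib.Helper63PCDefs Cfsg.Agent.Lib.Helper38PCpcb

/-- the increasing list of the `i + t`, `t < d`, such that bit `t` of `e` is set -/
noncomputable def nfl (d : ℕ) : ℕ → ℕ → List ℕ :=
  Nat.rec (motive := fun _ => ℕ → ℕ → List ℕ) (fun _ _ => [])
    (fun _ ih i e => bif Nat.beq (Nat.mod e 2) 1 then i :: ih (Nat.succ i) (Nat.div e 2)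
      else ih (Nat.succ i) (Nat.div e 2)) d

theorem nfl_zero (i e : ℕ) : nfl 0 i e = [] := rfl

theorem nfl_succ (d i e : ℕ) : nfl (d + 1) i e =
    bif Nat.beq (e % 2) 1 then i :: nfl d (i + 1) (e / 2) else nfl d (i + 1) (e / 2) := rfl

theorem nfl_even (d i e : ℕ) : nfl (d + 1) i (2 * e) = nfl d (i + 1) e := by
  rw [nfl_succ]
  have h1 : 2 * e % 2 = 0 := by omega
  have h2 : 2 * e / 2 = e := by omega
  rw [h1, h2]
  rfl

theorem nfl_odd (d i e : ℕ) : nfl (d + 1) i (2 * e + 1) = i :: nfl d (i + 1) e := by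
  rw [nfl_succ]
  have h1 : (2 * e + 1) % 2 = 1 := by omega
  have h2 : (2 * e + 1) / 2 = e := by omega
  rw [h1, h2]
  rfl

theorem nfl_mem : ∀ (d i e l : ℕ), l ∈ nfl d i e → i ≤ l ∧ l < i + d := by
  intro d
  induction d with
  | zero => intro i e l h; simp [nfl_zero] at h
  | succ d ih =>
    intro i e l h
    rw [nfl_succ] at h
    cases hb : Nat.beq (e % 2) 1 with
    | true =>
      rw [hb] at h
      simp only [cond_true, List.mem_cons] at h
      rcases h with h | h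
      · omega
      · have := ih _ _ _ h; omega
    | false =>
      rw [hb] at h
      simp only [cond_false] at h
      have := ih _ _ _ h; omega

variable {Y : Type*} [Group Y]

theorem evalW_nil (y : ℕ → Y) : evalW y [] = 1 := rfl

theorem evalW_cons (y : ℕ → Y) (i : ℕ) (v : List ℕ) : evalW y (i :: v) = y i * evalW y v := by
  simp [evalW]

theorem evalW_append (y : ℕ → Y) (u v : List ℕ) : evalW y (u ++ v) = evalW y u * evalW y v := by
  simp [evalW]

/-- the subgroup generated by the `y a`, `i ≤ a < n` -/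
def Kc (y : ℕ → Y) (n i : ℕ) : Subgroup Y := Subgroup.closure (y '' {a | i ≤ a ∧ a < n})

theorem mem_Kc (y : ℕ → Y) {n i a : ℕ} (h1 : i ≤ a) (h2 : a < n) : y a ∈ Kc y n i :=
  Subgroup.subset_closure ⟨a, ⟨h1, h2⟩, rfl⟩

theorem Kc_mono (y : ℕ → Y) (n : ℕ) {i j : ℕ} (h : i ≤ j) : Kc y n j ≤ Kc y n i := by
  apply Subgroup.closure_mono
  apply Set.image_mono
  intro a ha
  exact ⟨h.trans ha.1, ha.2⟩

theorem Kc_top (y : ℕ → Y) (n : ℕ) : Kc y n n = ⊥ := by
  have : {a | n ≤ a ∧ a < n} = (∅ : Set ℕ) := by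
    ext a
    simp only [Set.mem_ofPred_eq, Set.mem_empty_iff_false, iff_false]
    omega
  rw [Kc, this, Set.image_empty, Subgroup.closure_empty]

theorem evalW_mem (y : ℕ → Y) (n i : ℕ) (v : List ℕ) (h : ∀ l ∈ v, i ≤ l ∧ l < n) :
    evalW y v ∈ Kc y n i := by
  apply Subgroup.list_prod_mem
  intro g hg
  obtain ⟨l, hl, rfl⟩ := List.mem_map.1 hg
  exact mem_Kc y (h l hl).1 (h l hl).2

/-- a polycyclic sequence of involutions -/
structure Inv (y : ℕ → Y) (n : ℕ) : Prop where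
  sq : ∀ i < n, y i * y i = 1
  cj : ∀ b a, b < a → a < n → y b * y a * y b ∈ Kc y n (b + 1)

variable {y : ℕ → Y} {n : ℕ}

theorem Inv.inv_eq (h : Inv y n) {i : ℕ} (hi : i < n) : (y i)⁻¹ = y i :=
  inv_eq_of_mul_eq_one_left (h.sq i hi)

theorem Inv.conj_mem (h : Inv y n) {i : ℕ} (hi : i < n) :
    ∀ k ∈ Kc y n (i + 1), (y i)⁻¹ * k * y i ∈ Kc y n (i + 1) := by
  have hle : Kc y n (i + 1) ≤ (Kc y n (i + 1)).comap (MulAut.conj (y i)⁻¹).toMonoidHom := by
    rw [Kc, Subgroup.closure_le]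
    rintro _ ⟨a, ⟨ha1, ha2⟩, rfl⟩
    show (y i)⁻¹ * y a * (y i)⁻¹⁻¹ ∈ Kc y n (i + 1)
    rw [inv_inv, h.inv_eq hi]
    exact h.cj i a ha1 ha2
  intro k hk
  have := hle hk
  simpa using this

theorem Inv.step (h : Inv y n) {i : ℕ} (hi : i < n) :
    ∀ g ∈ Kc y n i, g ∈ Kc y n (i + 1) ∨ ∃ k ∈ Kc y n (i + 1), g = y i * k := by
  have hxp : y i ^ 2 ∈ Kc y n (i + 1) := by
    rw [pow_two, h.sq i hi]
    exact Subgroup.one_mem _
  have hle : Kc y n i ≤ stepSub (Kc y n (i + 1)) (y i) 2 (by norm_num) hxp (h.conj_mem hi) := by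
    rw [Kc, Subgroup.closure_le]
    rintro _ ⟨a, ⟨ha1, ha2⟩, rfl⟩
    rcases Nat.eq_or_lt_of_le ha1 with h' | h'
    · subst h'
      exact ⟨1, 1, Subgroup.one_mem _, by simp⟩
    · exact ⟨0, y a, mem_Kc y h' ha2, by simp⟩
  intro g hg
  obtain ⟨e, k, hk, rfl⟩ := hle hg
  have hpow : ∀ m : ℕ, y i ^ (2 * m) = 1 := by
    intro m
    rw [pow_mul, pow_two, h.sq i hi, one_pow]
  rcases Nat.even_or_odd' e with ⟨m, rfl | rfl⟩
  · left
    rw [hpow, one_mul]
    exact hk
  · right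
    exact ⟨k, hk, by rw [pow_succ, hpow, one_mul]⟩

/-- normal forms -/
theorem Inv.nf (h : Inv y n) : ∀ d i, i + d ≤ n → ∀ g ∈ Kc y n i,
    ∃ e < 2 ^ d, ∃ k ∈ Kc y n (i + d), g = evalW y (nfl d i e) * k := by
  intro d
  induction d with
  | zero =>
    intro i _ g hg
    exact ⟨0, by norm_num, g, hg, by rw [nfl_zero, evalW_nil, one_mul]⟩
  | succ d ih =>
    intro i hid g hg
    rcases h.step (by omega) g hg with h1 | ⟨k1, h1, rfl⟩
    · obtain ⟨e, he, k, hk, rfl⟩ := ih (i + 1) (by omega) g h1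
      refine ⟨2 * e, by rw [pow_succ]; omega, k, ?_, by rw [nfl_even]⟩
      rwa [show i + (d + 1) = i + 1 + d by omega]
    · obtain ⟨e, he, k, hk, rfl⟩ := ih (i + 1) (by omega) k1 h1
      refine ⟨2 * e + 1, by rw [pow_succ]; omega, k, ?_, by rw [nfl_odd, evalW_cons, mul_assoc]⟩
      rwa [show i + (d + 1) = i + 1 + d by omega]

theorem Inv.nf_full (h : Inv y n) (i : ℕ) (hi : i ≤ n) : ∀ g ∈ Kc y n i,
    ∃ e < 2 ^ (n - i), g = evalW y (nfl (n - i) i e) := by
  intro g hg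
  obtain ⟨e, he, k, hk, rfl⟩ := h.nf (n - i) i (by omega) g hg
  rw [show i + (n - i) = n by omega, Kc_top, Subgroup.mem_bot] at hk
  exact ⟨e, he, by rw [hk, mul_one]⟩

theorem Inv.card_le (h : Inv y n) (i : ℕ) (hi : i ≤ n) :
    Finite (Kc y n i) ∧ Nat.card (Kc y n i) ≤ 2 ^ (n - i) := by
  have h2 : (Kc y n i : Set Y) ⊆
      Set.range (fun t : Fin (2 ^ (n - i)) => evalW y (nfl (n - i) i t)) := by
    intro g hg
    obtain ⟨e, he, rfl⟩ := h.nf_full i hi g hg
    exact ⟨⟨e, he⟩, rfl⟩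
  have hfr := Set.finite_range (fun t : Fin (2 ^ (n - i)) => evalW y (nfl (n - i) i t))
  refine ⟨(hfr.subset h2).to_subtype, ?_⟩
  calc Nat.card (Kc y n i) = (Kc y n i : Set Y).ncard := rfl
    _ ≤ (Set.range (fun t : Fin (2 ^ (n - i)) => evalW y (nfl (n - i) i t))).ncard :=
      Set.ncard_le_ncard h2 hfr
    _ ≤ Nat.card (Fin (2 ^ (n - i))) := by
      rw [← Set.image_univ, ← Set.ncard_univ]
      exact Set.ncard_image_le Set.finite_univ
    _ = 2 ^ (n - i) := Nat.card_fin _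

theorem two_mul_card_le {H K : Subgroup Y} [Finite K] (hle : H ≤ K) {x : Y} (hx : x ∈ K)
    (hxH : x ∉ H) : 2 * Nat.card H ≤ Nat.card K := by
  have h1 : H.relIndex K * Nat.card H = Nat.card K := by
    have h0 := Subgroup.card_mul_index (H.subgroupOf K)
    rw [Nat.card_congr (Subgroup.subgroupOfEquivOfLe hle).toEquiv, mul_comm] at h0
    exact h0
  have h2 : H.relIndex K ≠ 1 := by
    intro h
    exact hxH (Subgroup.relIndex_eq_one.mp h hx)
  have h3 : H.relIndex K ≠ 0 := by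
    intro h
    rw [h, zero_mul] at h1
    exact Nat.card_pos.ne h1
  rw [← h1]
  exact Nat.mul_le_mul_right _ (by omega)

theorem Inv.le_card (h : Inv y n) (hne : ∀ i < n, y i ∉ Kc y n (i + 1)) :
    ∀ d, d ≤ n → 2 ^ d ≤ Nat.card (Kc y n (n - d)) := by
  intro d
  induction d with
  | zero =>
    intro _
    rw [Nat.sub_zero, Kc_top]
    simp
  | succ d ih =>
    intro hd
    have h1 := ih (by omega)
    have := (h.card_le (n - (d + 1)) (by omega)).1
    have h2 := two_mul_card_le (Kc_mono y n (show n - (d + 1) ≤ n - (d + 1) + 1 by omega))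
      (mem_Kc y le_rfl (show n - (d + 1) < n by omega)) (hne (n - (d + 1)) (by omega))
    rw [show n - (d + 1) + 1 = n - d by omega] at h2
    rw [pow_succ]
    omega

theorem Inv.card_eq (h : Inv y n) (hne : ∀ i < n, y i ∉ Kc y n (i + 1)) (i : ℕ) (hi : i ≤ n) :
    Nat.card (Kc y n i) = 2 ^ (n - i) := by
  apply le_antisymm (h.card_le i hi).2
  have := h.le_card hne (n - i) (by omega)
  rwa [show n - (n - i) = i by omega] at this

end Cfsg.Agent.Lib.Helper35Syl
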