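import Mathlib

set_option autoImplicit false

namespace Cfsg.Agent.Lib.Helper35TC

/-! ## Trees used as read-only arrays -/

inductive Tr
  | leaf (v : ℕ)
  | node (l r : Tr)

noncomputable def Tr.get (t : Tr) : ℕ → ℕ :=
  Tr.rec (fun v _ => v)
    (fun _ _ ihl ihr i =>
      Nat.rec (ihl (Nat.shiftRight i (nat_lit 1))) (fun _ _ => ihr (Nat.shiftRight i (nat_lit 1)))
        (Nat.land i (nat_lit 1))) t

inductive TrL
  | leaf (v : List ℕ)
  | node (l r : TrL)

noncomputable def TrL.get (t : TrL) : ℕ → List ℕ :=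
  TrL.rec (fun v _ => v)
    (fun _ _ ihl ihr i =>
      Nat.rec (ihl (Nat.shiftRight i (nat_lit 1))) (fun _ _ => ihr (Nat.shiftRight i (nat_lit 1)))
        (Nat.land i (nat_lit 1))) t

def TrL.All (P : List ℕ → Prop) : TrL → Prop
  | .leaf v => P v
  | .node l r => l.All P ∧ r.All P

theorem TrL.get_of_all {P : List ℕ → Prop} : ∀ (t : TrL), t.All P → ∀ i, P (t.get i)
  | .leaf _, h, _ => h
  | .node l r, h, i => by
    have hl := TrL.get_of_all l h.1 (Nat.shiftRight i (nat_lit 1))
    have hr := TrL.get_of_all r h.2 (Nat.shiftRight i (nat_lit 1))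
    show P (Nat.rec (l.get (Nat.shiftRight i (nat_lit 1)))
      (fun _ _ => r.get (Nat.shiftRight i (nat_lit 1))) (Nat.land i (nat_lit 1)))
    cases Nat.land i (nat_lit 1) with
    | zero => exact hl
    | succ n => exact hr

def TrL.toList : TrL → List (List ℕ)
  | .leaf v => [v]
  | .node l r => l.toList ++ r.toList

theorem TrL.all_of_toList {P : List ℕ → Prop} : ∀ (t : TrL), (∀ w ∈ t.toList, P w) → t.All P
  | .leaf _, h => h _ (by simp [TrL.toList])
  | .node l r, h =>
    ⟨TrL.all_of_toList l (fun w hw => h w (by simp [TrL.toList, hw])),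
     TrL.all_of_toList r (fun w hw => h w (by simp [TrL.toList, hw]))⟩

/-- force evaluation of `v` before continuing -/
noncomputable def strict {β : Sort*} (v : ℕ) (k : ℕ → β) : β :=
  Nat.rec (k Nat.zero) (fun n _ => k n) (Nat.succ v)

@[simp] theorem strict_eq {β : Sort*} (v : ℕ) (k : ℕ → β) : strict v k = k v := rfl

/-! ## Range checks by binary splitting -/

noncomputable def allD (p : ℕ → Bool) (d : ℕ) : ℕ → Bool :=
  Nat.rec (fun lo => strict lo p)
    (fun d ih lo => Bool.rec false (ih (Nat.add lo (Nat.pow (nat_lit 2) d))) (ih lo)) d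

theorem allD_zero (p : ℕ → Bool) (lo : ℕ) : allD p 0 lo = p lo := by
  show strict lo p = p lo
  simp

theorem allD_succ (p : ℕ → Bool) (d lo : ℕ) :
    allD p (d + 1) lo = (allD p d lo && allD p d (lo + 2 ^ d)) := by
  show @Bool.rec (fun _ => Bool) false (allD p d (lo + 2 ^ d)) (allD p d lo) = _
  cases allD p d lo <;> rfl

theorem allD_spec (p : ℕ → Bool) : ∀ d lo, allD p d lo = true →
    ∀ u, lo ≤ u → u < lo + 2 ^ d → p u = true
  | 0, lo, h, u, h1, h2 => by
    rw [allD_zero] at h
    have : u = lo := by simp at h2; omega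
    rw [this]; exact h
  | d + 1, lo, h, u, h1, h2 => by
    rw [allD_succ, Bool.and_eq_true] at h
    by_cases hu : u < lo + 2 ^ d
    · exact allD_spec p d lo h.1 u h1 hu
    · exact allD_spec p d (lo + 2 ^ d) h.2 u (by omega) (by rw [pow_succ] at h2; omega)

noncomputable def cntD (p : ℕ → Bool) (d : ℕ) : ℕ → ℕ :=
  Nat.rec (fun lo => strict lo (fun u => Bool.rec (nat_lit 0) (nat_lit 1) (p u)))
    (fun d ih lo => Nat.add (ih lo) (ih (Nat.add lo (Nat.pow (nat_lit 2) d)))) d

theorem cntD_zero (p : ℕ → Bool) (lo : ℕ) : cntD p 0 lo = if p lo = true then 1 else 0 := by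
  show strict lo (fun u => @Bool.rec (fun _ => ℕ) 0 1 (p u)) = _
  simp only [strict_eq]
  cases p lo <;> rfl

theorem cntD_succ (p : ℕ → Bool) (d lo : ℕ) :
    cntD p (d + 1) lo = cntD p d lo + cntD p d (lo + 2 ^ d) := rfl

theorem cntD_spec (p : ℕ → Bool) : ∀ d lo,
    cntD p d lo = ((Finset.Ico lo (lo + 2 ^ d)).filter (fun u => p u = true)).card
  | 0, lo => by
    rw [cntD_zero]
    simp only [pow_zero, Nat.Ico_succ_singleton, Finset.filter_singleton]
    split <;> simp
  | d + 1, lo => by
    rw [cntD_succ, cntD_spec p d lo, cntD_spec p d (lo + 2 ^ d)]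
    have h : Finset.Ico lo (lo + 2 ^ (d + 1)) =
        Finset.Ico lo (lo + 2 ^ d) ∪ Finset.Ico (lo + 2 ^ d) (lo + 2 ^ d + 2 ^ d) := by
      rw [Finset.Ico_union_Ico_eq_Ico (Nat.le_add_right _ _) (Nat.le_add_right _ _)]
      congr 1
      rw [pow_succ]; omega
    rw [h, Finset.filter_union, Finset.card_union_of_disjoint]
    apply Finset.disjoint_filter_filter
    exact Finset.Ico_disjoint_Ico_consecutive _ _ _

/-- `p` holds for all `k < n` (small `n`) -/
noncomputable def allB (p : ℕ → Bool) (n : ℕ) : Bool :=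
  Nat.rec true (fun k ih => Bool.rec false ih (p k)) n

theorem allB_spec (p : ℕ → Bool) : ∀ n, allB p n = true → ∀ k < n, p k = true
  | 0, _, k, hk => by omega
  | n + 1, h, k, hk => by
    have h' : @Bool.rec (fun _ => Bool) false (allB p n) (p n) = true := h
    cases hp : p n with
    | false => rw [hp] at h'; exact absurd h' (by simp)
    | true =>
      rw [hp] at h'
      rcases Nat.lt_succ_iff_lt_or_eq.mp hk with h1 | h1
      · exact allB_spec p n h' k h1
      · rw [h1]; exact hp

noncomputable def anyB (p : ℕ → Bool) (n : ℕ) : Bool :=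
  Nat.rec false (fun k ih => Bool.rec ih true (p k)) n

theorem anyB_spec (p : ℕ → Bool) : ∀ n, anyB p n = true → ∃ k < n, p k = true
  | 0, h => by simp [anyB] at h
  | n + 1, h => by
    have h' : @Bool.rec (fun _ => Bool) (anyB p n) true (p n) = true := h
    cases hp : p n with
    | false =>
      rw [hp] at h'
      obtain ⟨k, hk, hk2⟩ := anyB_spec p n h'
      exact ⟨k, by omega, hk2⟩
    | true => exact ⟨n, by omega, hp⟩

/-! ## Words -/

inductive WExp (α : Type)
  | of (a : α)
  | mul (x y : WExp α)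
  | inv (x : WExp α)
  | pow (x : WExp α) (n : ℕ)

def WExp.eval {α : Type} : WExp α → FreeGroup α
  | .of a => FreeGroup.of a
  | .mul x y => x.eval * y.eval
  | .inv x => (x.eval)⁻¹
  | .pow x n => x.eval ^ n

def invRev (iv : ℕ → ℕ) (w : List ℕ) : List ℕ := (w.map iv).reverse

def repW (w : List ℕ) : ℕ → List ℕ
  | 0 => []
  | n + 1 => w ++ repW w n

/-- letters of a word in the order in which they act (rightmost factor first) -/
def WExp.app {α : Type} (code : α → ℕ) (iv : ℕ → ℕ) : WExp α → List ℕ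
  | .of a => [code a]
  | .mul x y => y.app code iv ++ x.app code iv
  | .inv x => invRev iv (x.app code iv)
  | .pow x n => repW (x.app code iv) n

section wordVal
variable {Γ : Type*} [Group Γ] (val : ℕ → Γ)

def wordVal : List ℕ → Γ
  | [] => 1
  | l :: w => wordVal w * val l

theorem wordVal_append (w1 w2 : List ℕ) :
    wordVal val (w1 ++ w2) = wordVal val w2 * wordVal val w1 := by
  induction w1 with
  | nil => simp [wordVal]
  | cons l w ih => simp [wordVal, ih, mul_assoc]

theorem wordVal_invRev (iv : ℕ → ℕ) (hiv : ∀ l, val (iv l) = (val l)⁻¹) (w : List ℕ) :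
    wordVal val (invRev iv w) = (wordVal val w)⁻¹ := by
  induction w with
  | nil => simp [wordVal, invRev]
  | cons l w ih =>
    have : invRev iv (l :: w) = invRev iv w ++ [iv l] := by simp [invRev]
    rw [this, wordVal_append, ih]
    simp [wordVal, hiv]

theorem wordVal_repW (w : List ℕ) (n : ℕ) :
    wordVal val (repW w n) = (wordVal val w) ^ n := by
  induction n with
  | zero => simp [wordVal, repW]
  | succ n ih => rw [repW, wordVal_append, ih, pow_succ]

theorem eval_eq_wordVal {α : Type} (code : α → ℕ) (iv : ℕ → ℕ)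
    (hiv : ∀ l, val (iv l) = (val l)⁻¹) (f : FreeGroup α →* Γ)
    (hf : ∀ a, f (FreeGroup.of a) = val (code a)) (e : WExp α) :
    f e.eval = wordVal val (e.app code iv) := by
  induction e with
  | of a => simp [WExp.eval, WExp.app, wordVal, hf]
  | mul x y hx hy => simp [WExp.eval, WExp.app, wordVal_append, hx, hy]
  | inv x hx => simp [WExp.eval, WExp.app, wordVal_invRev val iv hiv, hx]
  | pow x n hx => simp [WExp.eval, WExp.app, wordVal_repW, hx]

end wordVal

def actWord {X : Type*} (act : ℕ → X → X) : List ℕ → X → X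
  | [], x => x
  | l :: w, x => actWord act w (act l x)

theorem actWord_append {X : Type*} (act : ℕ → X → X) (w1 w2 : List ℕ) (x : X) :
    actWord act (w1 ++ w2) x = actWord act w2 (actWord act w1 x) := by
  induction w1 generalizing x with
  | nil => rfl
  | cons l w ih => exact ih _

theorem actWord_injective {X : Type*} (act : ℕ → X → X) (hinj : ∀ l, Function.Injective (act l))
    (w : List ℕ) : Function.Injective (actWord act w) := by
  induction w with
  | nil => exact fun _ _ h => h
  | cons l w ih => exact fun _ _ h => hinj l (ih h)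

theorem actWord_smul {Γ X : Type*} [Group Γ] [MulAction Γ X] (val : ℕ → Γ) (w : List ℕ) (x : X) :
    actWord (fun l y => val l • y) w x = wordVal val w • x := by
  induction w generalizing x with
  | nil => simp [actWord, wordVal]
  | cons l w ih => simp [actWord, wordVal, ih, mul_smul]


/-! ## Part U: certificates that a set of cosets is closed -/

structure UData where
  N : ℕ
  L : ℕ
  F : ℕ
  TB : ℕ
  FW : ℕ
  JW : ℕ
  mT : ℕ
  mF : ℕ
  mJ : ℕ
  row : ℕ → ℕ
  jrow : ℕ → ℕ
  rot : ℕ → List ℕ
  sub : ℕ → List ℕ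

namespace UData
variable (D : UData)

def ent (u k : ℕ) : ℕ := Nat.land (Nat.shiftRight (D.row u) (Nat.mul k D.FW)) D.mF
def jent (u k : ℕ) : ℕ := Nat.land (Nat.shiftRight (D.jrow u) (Nat.mul k D.JW)) D.mJ
def tgt (e : ℕ) : ℕ := Nat.land e D.mT
def tim (e : ℕ) : ℕ := Nat.shiftRight e D.TB
/-- `0 < te < t` -/
noncomputable def ok (t te : ℕ) : Bool :=
  Bool.rec false (Nat.ble (Nat.succ te) t) (Nat.ble (nat_lit 1) te)

theorem ok_iff (t te : ℕ) : ok t te = true ↔ 0 < te ∧ te < t := by
  have h : ok t te = (Nat.ble 1 te && Nat.ble (te + 1) t) := by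
    show @Bool.rec (fun _ => Bool) false (Nat.ble (te + 1) t) (Nat.ble 1 te) = _
    cases Nat.ble 1 te <;> rfl
  rw [h]
  simp [Nat.ble_eq]
  omega

noncomputable def fol (t : ℕ) (f : ℕ) : ℕ → (ℕ → ℕ) → ℕ :=
  Nat.rec (fun v k => k v)
    (fun _ ih v k =>
      Bool.rec (k v) (strict (D.tgt (D.ent v D.L)) (fun v' => ih v' k))
        (ok t (D.tim (D.ent v D.L)))) f

theorem fol_zero (t v : ℕ) (k : ℕ → ℕ) : D.fol t 0 v k = k v := rfl

theorem fol_succ (t f v : ℕ) (k : ℕ → ℕ) :
    D.fol t (f + 1) v k =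
      if ok t (D.tim (D.ent v D.L)) = true then D.fol t f (D.tgt (D.ent v D.L)) k else k v := by
  show @Bool.rec (fun _ => ℕ) (k v) (strict (D.tgt (D.ent v D.L)) (fun v' => D.fol t f v' k))
        (ok t (D.tim (D.ent v D.L))) = _
  cases ok t (D.tim (D.ent v D.L)) <;> simp

noncomputable def walk (t : ℕ) (w : List ℕ) : ℕ → ℕ :=
  List.rec (fun u => u)
    (fun l _ ih u =>
      Bool.rec D.N
        (Bool.rec D.N (strict (D.tgt (D.ent u l)) (fun v => D.fol t D.F v ih))
          (Nat.ble (Nat.succ l) D.L))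
        (ok t (D.tim (D.ent u l)))) w

theorem walk_nil (t u : ℕ) : D.walk t [] u = u := rfl

theorem walk_cons (t l : ℕ) (w : List ℕ) (u : ℕ) :
    D.walk t (l :: w) u =
      if (ok t (D.tim (D.ent u l)) && Nat.ble (l + 1) D.L) = true
      then D.fol t D.F (D.tgt (D.ent u l)) (D.walk t w) else D.N := by
  show @Bool.rec (fun _ => ℕ) D.N
        (@Bool.rec (fun _ => ℕ) D.N (strict (D.tgt (D.ent u l)) (fun v => D.fol t D.F v (D.walk t w)))
          (Nat.ble (l + 1) D.L))
        (ok t (D.tim (D.ent u l))) = _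
  cases ok t (D.tim (D.ent u l)) <;> cases Nat.ble (l + 1) D.L <;> simp

def par (v : ℕ) : ℕ := D.tgt (D.ent v (Nat.succ D.L))
def ltr (v : ℕ) : ℕ := D.tim (D.ent v (Nat.succ D.L))

/-- four-way selection without decidable equality -/
noncomputable def sel4 (k : ℕ) (a b c d : Bool) : Bool :=
  Nat.rec a (fun k _ => Nat.rec b (fun k _ => Nat.rec c (fun _ _ => d) k) k) k

theorem sel4_true {k : ℕ} {a b c d : Bool} (h : sel4 k a b c d = true) :
    a = true ∨ b = true ∨ c = true ∨ d = true := by
  match k, h with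
  | 0, h => exact Or.inl h
  | 1, h => exact Or.inr (Or.inl h)
  | 2, h => exact Or.inr (Or.inr (Or.inl h))
  | _ + 3, h => exact Or.inr (Or.inr (Or.inr h))

noncomputable def chkE (u l : ℕ) : Bool :=
  strict (D.tim (D.ent u l)) fun t =>
  strict (D.tgt (D.ent u l)) fun v =>
  strict (Nat.shiftRight (D.jent u l) (nat_lit 2)) fun p =>
  match t with
  | 0 => true
  | _ + 1 =>
    Nat.ble (Nat.succ v) D.N &&
    sel4 (Nat.land (D.jent u l) (nat_lit 3))
      (Nat.beq (D.par v) u && Nat.beq (D.ltr v) l && Nat.ble (Nat.succ u) v)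
      (match D.rot p with
        | [] => false
        | l' :: rest => Nat.beq l' l && Nat.beq (D.walk t rest v) u)
      (Nat.ble (Nat.succ p) D.N && Nat.beq (D.fol t D.F p (fun a => a)) u &&
        Nat.beq (D.walk t [l] p) v)
      (Nat.beq (D.walk t ((D.sub (Nat.shiftRight p 8)).take (Nat.land p 255)) 0) u &&
        (match (D.sub (Nat.shiftRight p 8)).drop (Nat.land p 255) with
         | [] => false
         | l' :: rest => Nat.beq l' l && Nat.beq (D.walk t rest v) 0))

noncomputable def chkD (v : ℕ) : Bool :=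
  strict (D.tim (D.ent v D.L)) fun t =>
  strict (D.tgt (D.ent v D.L)) fun u =>
  strict (Nat.shiftRight (D.jent v D.L) (nat_lit 2)) fun p =>
  match t with
  | 0 => allB (fun l => Nat.ble (nat_lit 1) (D.tim (D.ent v l))) D.L
  | _ + 1 =>
    Nat.ble (Nat.succ u) v &&
    sel4 (Nat.land (D.jent v D.L) (nat_lit 3))
      false
      (Nat.beq (D.walk t (D.rot p) v) u)
      (strict (Nat.shiftRight p 8) fun v0 => strict (Nat.land p 255) fun l =>
        Nat.ble (Nat.succ v0) D.N &&
        ((Nat.beq (D.walk t [l] v0) v && Nat.beq (D.fol t D.F v0 (D.walk t [l])) u) ||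
         (Nat.beq (D.walk t [l] v0) u && Nat.beq (D.fol t D.F v0 (D.walk t [l])) v)))
      false

noncomputable def chkRow (u : ℕ) : Bool :=
  Nat.ble D.N u || (D.chkD u && allB (fun l => D.chkE u l) D.L)

def live (u : ℕ) : Bool := Nat.ble (Nat.succ u) D.N && Nat.beq (D.tim (D.ent u D.L)) (nat_lit 0)

section sound
variable {X : Type*} (act : ℕ → X → X) (x0 : X)

noncomputable def cos : ℕ → X
  | 0 => x0
  | k + 1 => if h : D.par (k + 1) < k + 1 then act (D.ltr (k + 1)) (cos (D.par (k + 1))) else x0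
termination_by k => k
decreasing_by exact h

theorem cos_zero : D.cos act x0 0 = x0 := by rw [cos]

theorem cos_of_par {v : ℕ} (h : D.par v < v) :
    D.cos act x0 v = act (D.ltr v) (D.cos act x0 (D.par v)) := by
  cases v with
  | zero => omega
  | succ k => rw [cos, dif_pos h]

def Good (t : ℕ) : Prop :=
  (∀ u l, u < D.N → l < D.L → ok t (D.tim (D.ent u l)) = true →
      D.tgt (D.ent u l) < D.N ∧ act l (D.cos act x0 u) = D.cos act x0 (D.tgt (D.ent u l))) ∧
  (∀ v, v < D.N → ok t (D.tim (D.ent v D.L)) = true →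
      D.tgt (D.ent v D.L) < D.N ∧ D.cos act x0 (D.tgt (D.ent v D.L)) = D.cos act x0 v)

variable {D act x0}

theorem Good.mono {s t : ℕ} (h : D.Good act x0 t) (hst : s ≤ t) : D.Good act x0 s := by
  refine ⟨fun u l hu hl ho => h.1 u l hu hl ?_, fun v hv ho => h.2 v hv ?_⟩
  · rw [ok_iff] at ho ⊢; omega
  · rw [ok_iff] at ho ⊢; omega

theorem fol_sound {t : ℕ} (hG : D.Good act x0 t) (k : ℕ → ℕ) : ∀ (f v : ℕ), v < D.N →
    ∃ v', v' < D.N ∧ D.cos act x0 v' = D.cos act x0 v ∧ D.fol t f v k = k v'
  | 0, v, hv => ⟨v, hv, rfl, rfl⟩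
  | f + 1, v, hv => by
    rw [fol_succ]
    split
    · rename_i ho
      obtain ⟨h1, h2⟩ := hG.2 v hv ho
      obtain ⟨v', hv', hc, he⟩ := fol_sound hG k f _ h1
      exact ⟨v', hv', hc.trans h2, he⟩
    · exact ⟨v, hv, rfl, rfl⟩

theorem walk_sound {t : ℕ} (hG : D.Good act x0 t) : ∀ (w : List ℕ) (u : ℕ), u < D.N →
    D.walk t w u < D.N → actWord act w (D.cos act x0 u) = D.cos act x0 (D.walk t w u)
  | [], u, _, _ => rfl
  | l :: w, u, hu, hr => by
    rw [walk_cons] at hr ⊢
    split at hr
    · rename_i ho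
      rw [if_pos ho]
      rw [Bool.and_eq_true, Nat.ble_eq] at ho
      obtain ⟨h1, h2⟩ := hG.1 u l hu (by omega) ho.1
      obtain ⟨v', hv', hc, he⟩ := fol_sound hG (D.walk t w) D.F _ h1
      rw [he] at hr ⊢
      rw [← walk_sound hG w v' hv' hr, hc, ← h2]
      rfl
    · omega

theorem chkE_sound (hrot : ∀ p x, actWord act (D.rot p) x = x)
    (hsub : ∀ h, actWord act (D.sub h) x0 = x0) (hinj : ∀ l, Function.Injective (act l))
    (hN : 0 < D.N)
    {u l : ℕ} (hu : u < D.N) (hc : D.chkE u l = true) (ht : 0 < D.tim (D.ent u l))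
    (hG : D.Good act x0 (D.tim (D.ent u l))) :
    D.tgt (D.ent u l) < D.N ∧ act l (D.cos act x0 u) = D.cos act x0 (D.tgt (D.ent u l)) := by
  unfold chkE at hc
  simp only [strict_eq] at hc
  generalize hT : D.tim (D.ent u l) = t at hc ht hG
  generalize hV : D.tgt (D.ent u l) = v at hc
  generalize hP : Nat.shiftRight (D.jent u l) 2 = p at hc
  cases t with
  | zero => omega
  | succ t' =>
    simp only [Bool.and_eq_true, Nat.ble_eq] at hc
    obtain ⟨hv, hc⟩ := hc
    have hv : v < D.N := hv
    refine ⟨hv, ?_⟩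
    rcases sel4_true hc with hc | hc | hc | hc
    · -- definition
      simp only [Bool.and_eq_true, Nat.ble_eq, Nat.beq_eq] at hc
      obtain ⟨⟨h1, h2⟩, h3⟩ := hc
      have h3 : u < v := h3
      have := D.cos_of_par act x0 (v := v) (by omega)
      rw [this, h1, h2]
    · -- cycle
      split at hc
      · exact absurd hc (by simp)
      · rename_i l' rest hr
        simp only [Bool.and_eq_true, Nat.beq_eq] at hc
        obtain ⟨h1, h2⟩ := hc
        subst h1
        have hw := walk_sound hG rest v hv (by rw [h2]; exact hu)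
        rw [h2] at hw
        have h3 := hrot p (D.cos act x0 u)
        rw [hr] at h3
        exact actWord_injective act hinj rest (h3.trans hw.symm)
    · -- transfer
      simp only [Bool.and_eq_true, Nat.ble_eq, Nat.beq_eq] at hc
      obtain ⟨⟨h1, h2⟩, h3⟩ := hc
      have h1 : p < D.N := h1
      obtain ⟨v', _, hc', he⟩ := fol_sound hG (fun a => a) D.F p h1
      rw [he] at h2
      have hw := walk_sound hG [l] p h1 (by rw [h3]; exact hv)
      rw [h3] at hw
      rw [← h2, hc', ← hw]
      rfl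
    · -- subgroup generator
      simp only [Bool.and_eq_true, Nat.beq_eq] at hc
      obtain ⟨h1, hc⟩ := hc
      split at hc
      · exact absurd hc (by simp)
      · rename_i l' rest hr
        simp only [Bool.and_eq_true, Nat.beq_eq] at hc
        obtain ⟨h2, h3⟩ := hc
        subst h2
        have hw1 := walk_sound hG _ 0 hN (by rw [h1]; exact hu)
        rw [h1, cos_zero] at hw1
        have hw2 := walk_sound hG rest v hv (by rw [h3]; exact hN)
        rw [h3, cos_zero] at hw2
        have h4 := hsub (Nat.shiftRight p 8)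
        rw [← List.take_append_drop (Nat.land p 255) (D.sub (Nat.shiftRight p 8)), hr,
          actWord_append, hw1] at h4
        exact actWord_injective act hinj rest (h4.trans hw2.symm)

theorem chkD_sound (hrot : ∀ p x, actWord act (D.rot p) x = x)
    {v : ℕ} (hv : v < D.N) (hc : D.chkD v = true) (ht : 0 < D.tim (D.ent v D.L))
    (hG : D.Good act x0 (D.tim (D.ent v D.L))) :
    D.tgt (D.ent v D.L) < v ∧ D.cos act x0 (D.tgt (D.ent v D.L)) = D.cos act x0 v := by
  unfold chkD at hc
  simp only [strict_eq] at hc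
  generalize hT : D.tim (D.ent v D.L) = t at hc ht hG
  generalize hV : D.tgt (D.ent v D.L) = u at hc
  generalize hP : Nat.shiftRight (D.jent v D.L) 2 = p at hc
  cases t with
  | zero => omega
  | succ t' =>
    simp only [Bool.and_eq_true, Nat.ble_eq] at hc
    obtain ⟨hu, hc⟩ := hc
    have hu : u < v := hu
    refine ⟨hu, ?_⟩
    rcases sel4_true hc with hc | hc | hc | hc
    · exact absurd hc (by simp)
    · rw [Nat.beq_eq] at hc
      have hw := walk_sound hG _ v hv (by rw [hc]; omega)
      rw [hc, hrot] at hw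
      exact hw.symm
    · simp only [Bool.and_eq_true, Bool.or_eq_true, Nat.ble_eq, Nat.beq_eq] at hc
      obtain ⟨h0, hc⟩ := hc
      have h0 : Nat.shiftRight p 8 < D.N := h0
      obtain ⟨a, ha, hca, he⟩ := fol_sound hG (D.walk (t' + 1) [Nat.land p 255]) D.F _ h0
      rw [he] at hc
      have key : ∀ r1 r2, r1 < D.N → r2 < D.N →
          D.walk (t' + 1) [Nat.land p 255] (Nat.shiftRight p 8) = r1 →
          D.walk (t' + 1) [Nat.land p 255] a = r2 →
          D.cos act x0 r1 = D.cos act x0 r2 := by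
        intro r1 r2 hr1 hr2 e1 e2
        have hw1 := walk_sound hG _ _ h0 (by rw [e1]; exact hr1)
        have hw2 := walk_sound hG _ a ha (by rw [e2]; exact hr2)
        rw [e1] at hw1
        rw [e2] at hw2
        rw [← hw1, ← hw2, hca]
      rcases hc with ⟨e1, e2⟩ | ⟨e1, e2⟩
      · exact (key v u hv (by omega) e1 e2).symm
      · exact key u v (by omega) hv e1 e2
    · exact absurd hc (by simp)

theorem good_all (hrot : ∀ p x, actWord act (D.rot p) x = x)
    (hsub : ∀ h, actWord act (D.sub h) x0 = x0) (hinj : ∀ l, Function.Injective (act l))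
    (hN : 0 < D.N) (hchk : ∀ u < D.N, D.chkRow u = true) : ∀ t, D.Good act x0 t := by
  have hrow : ∀ u < D.N, D.chkD u = true ∧ ∀ l < D.L, D.chkE u l = true := by
    intro u hu
    have h := hchk u hu
    unfold chkRow at h
    rw [Bool.or_eq_true, Nat.ble_eq, Bool.and_eq_true] at h
    rcases h with h | h
    · omega
    · exact ⟨h.1, allB_spec _ _ h.2⟩
  intro t
  induction t with
  | zero =>
    refine ⟨fun u l _ _ ho => ?_, fun v _ ho => ?_⟩
    · rw [ok_iff] at ho; omega
    · rw [ok_iff] at ho; omega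
  | succ t ih =>
    refine ⟨fun u l hu hl ho => ?_, fun v hv ho => ?_⟩
    · rw [ok_iff] at ho
      exact chkE_sound hrot hsub hinj hN hu ((hrow u hu).2 l hl) ho.1 (ih.mono (by omega))
    · rw [ok_iff] at ho
      obtain ⟨h1, h2⟩ := chkD_sound hrot hv (hrow v hv).1 ho.1 (ih.mono (by omega))
      exact ⟨by omega, h2⟩

theorem closed_of_check (hrot : ∀ p x, actWord act (D.rot p) x = x)
    (hsub : ∀ h, actWord act (D.sub h) x0 = x0) (hinj : ∀ l, Function.Injective (act l))
    (hN : 0 < D.N) (hchk : ∀ u < D.N, D.chkRow u = true) :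
    D.live 0 = true ∧ ∀ u, D.live u = true → ∀ l < D.L,
      ∃ v, D.live v = true ∧ act l (D.cos act x0 u) = D.cos act x0 v := by
  have hG := good_all hrot hsub hinj hN hchk
  have hrow : ∀ u < D.N, D.chkD u = true := by
    intro u hu
    have h := hchk u hu
    unfold chkRow at h
    rw [Bool.or_eq_true, Nat.ble_eq, Bool.and_eq_true] at h
    rcases h with h | h
    · omega
    · exact h.1
  have hlive : ∀ u, D.live u = true ↔ u < D.N ∧ D.tim (D.ent u D.L) = 0 := by
    intro u
    unfold live
    rw [Bool.and_eq_true, Nat.ble_eq, Nat.beq_eq]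
    constructor <;> rintro ⟨h1, h2⟩ <;> exact ⟨by omega, h2⟩
  have hdead : ∀ v < D.N, D.tim (D.ent v D.L) ≠ 0 →
      D.tgt (D.ent v D.L) < v ∧ D.cos act x0 (D.tgt (D.ent v D.L)) = D.cos act x0 v := by
    intro v hv ht
    exact chkD_sound hrot hv (hrow v hv) (by omega) (hG _)
  have hrep : ∀ v, v < D.N → ∃ v', D.live v' = true ∧ D.cos act x0 v' = D.cos act x0 v := by
    intro v
    induction v using Nat.strong_induction_on with
    | _ v ih =>
      intro hv
      by_cases ht : D.tim (D.ent v D.L) = 0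
      · exact ⟨v, (hlive v).2 ⟨hv, ht⟩, rfl⟩
      · obtain ⟨h1, h2⟩ := hdead v hv ht
        obtain ⟨v', h3, h4⟩ := ih _ h1 (by omega)
        exact ⟨v', h3, h4.trans h2⟩
  refine ⟨?_, ?_⟩
  · rw [hlive]
    refine ⟨hN, ?_⟩
    by_contra ht
    have := (hdead 0 hN ht).1
    omega
  · intro u hu l hl
    rw [hlive] at hu
    have hc := hrow u hu.1
    unfold chkD at hc
    simp only [strict_eq] at hc
    rw [hu.2] at hc
    have h1 := allB_spec _ _ hc l hl
    rw [Nat.ble_eq] at h1
    obtain ⟨h2, h3⟩ := (hG (D.tim (D.ent u l) + 1)).1 u l hu.1 hl (by rw [ok_iff]; omega)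
    obtain ⟨v', h4, h5⟩ := hrep _ h2
    exact ⟨v', h4, h3.trans h5.symm⟩

end sound
end UData

end Cfsg.Agent.Lib.Helper35TC
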