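import Cfsg.Agent.Lib.Helper35TC

set_option autoImplicit false

namespace Cfsg.Agent.Lib.Helper35TC

/-! ## Part U at the level of groups -/

section groupU
variable {G : Type*} [Group G] (H : Subgroup G) (D : UData) (val : ℕ → G) (iv : ℕ → ℕ)

theorem card_quot_le
    (hiv : ∀ l, val (iv l) = (val l)⁻¹) (hivL : ∀ l < D.L, iv l < D.L)
    (hgen : Subgroup.closure (val '' {l | l < D.L}) = ⊤)
    (hrot : ∀ p, wordVal val (D.rot p) = 1)
    (hsub : ∀ h, wordVal val (D.sub h) ∈ H)
    (hN : 0 < D.N) (hchk : ∀ u < D.N, D.chkRow u = true) :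
    Finite (G ⧸ H) ∧
      Nat.card (G ⧸ H) ≤ ((Finset.range D.N).filter (fun u => D.live u = true)).card := by
  classical
  set act : ℕ → G ⧸ H → G ⧸ H := fun l y => val l • y with hact
  set x0 : G ⧸ H := ((1 : G) : G ⧸ H) with hx0
  have h1 : ∀ p x, actWord act (D.rot p) x = x := by
    intro p x
    rw [hact, actWord_smul, hrot, one_smul]
  have h2 : ∀ h, actWord act (D.sub h) x0 = x0 := by
    intro h
    rw [hact, actWord_smul, hx0, MulAction.Quotient.smul_coe, QuotientGroup.eq]
    simpa using H.inv_mem (hsub h)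
  have h3 : ∀ l, Function.Injective (act l) := fun l => MulAction.injective (val l)
  obtain ⟨hl0, hcl⟩ := UData.closed_of_check (D := D) (act := act) (x0 := x0) h1 h2 h3 hN hchk
  set c := D.cos act x0 with hc
  set T : Finset ℕ := (Finset.range D.N).filter (fun u => D.live u = true) with hT
  have hmemT : ∀ u, D.live u = true → u ∈ T := by
    intro u hu
    rw [hT, Finset.mem_filter, Finset.mem_range]
    refine ⟨?_, hu⟩
    unfold UData.live at hu
    rw [Bool.and_eq_true, Nat.ble_eq] at hu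
    omega
  set S : Finset (G ⧸ H) := T.image c with hS
  have hSl : ∀ x ∈ S, ∀ l < D.L, val l • x ∈ S := by
    intro x hx l hl
    rw [hS, Finset.mem_image] at hx
    obtain ⟨u, hu, rfl⟩ := hx
    rw [hT, Finset.mem_filter] at hu
    obtain ⟨v, hv, he⟩ := hcl u hu.2 l hl
    rw [hS, Finset.mem_image]
    exact ⟨v, hmemT v hv, he.symm⟩
  let K : Subgroup G :=
    { carrier := {g | ∀ x ∈ S, g • x ∈ S ∧ g⁻¹ • x ∈ S}
      one_mem' := by intro x hx; simpa using hx
      mul_mem' := by
        intro a b ha hb x hx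
        refine ⟨?_, ?_⟩
        · rw [mul_smul]; exact (ha _ (hb x hx).1).1
        · rw [mul_inv_rev, mul_smul]; exact (hb _ (ha x hx).2).2
      inv_mem' := by
        intro a ha x hx
        refine ⟨(ha x hx).2, ?_⟩
        rw [inv_inv]; exact (ha x hx).1 }
  have hK : K = ⊤ := by
    rw [eq_top_iff, ← hgen, Subgroup.closure_le]
    rintro _ ⟨l, hl, rfl⟩ x hx
    refine ⟨hSl x hx l hl, ?_⟩
    rw [← hiv]
    exact hSl x hx _ (hivL l hl)
  have hall : ∀ q : G ⧸ H, q ∈ S := by
    intro q
    induction q using QuotientGroup.induction_on with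
    | H g =>
      have hg : g ∈ K := by rw [hK]; trivial
      have hx0S : x0 ∈ S := by
        rw [hS, Finset.mem_image]
        exact ⟨0, hmemT 0 hl0, D.cos_zero act x0⟩
      have := (hg x0 hx0S).1
      rwa [hx0, MulAction.Quotient.smul_coe, smul_eq_mul, mul_one] at this
  have hfin : Finite (G ⧸ H) := by
    apply Finite.of_injective (fun q : G ⧸ H => (⟨q, hall q⟩ : S))
    intro a b hab
    simpa using hab
  refine ⟨hfin, ?_⟩
  haveI := Fintype.ofFinite (G ⧸ H)
  rw [Nat.card_eq_fintype_card]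
  calc Fintype.card (G ⧸ H) = (Finset.univ : Finset (G ⧸ H)).card := rfl
    _ ≤ S.card := Finset.card_le_card (fun q _ => hall q)
    _ ≤ T.card := Finset.card_image_le

end groupU

/-! ## Part L: permutation representations from tables -/

noncomputable def allL {β : Type} (p : β → Bool) (l : List β) : Bool :=
  List.rec true (fun a _ ih => Bool.rec false ih (p a)) l

theorem allL_spec {β : Type} (p : β → Bool) : ∀ l : List β, allL p l = true → ∀ a ∈ l, p a = true
  | [], _, a, ha => by simp at ha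
  | b :: l, h, a, ha => by
    have h' : @Bool.rec (fun _ => Bool) false (allL p l) (p b) = true := h
    cases hp : p b with
    | false => rw [hp] at h'; exact absurd h' (by simp)
    | true =>
      rw [hp] at h'
      rcases List.mem_cons.mp ha with h1 | h1
      · rw [h1]; exact hp
      · exact allL_spec p l h' a h1

structure LData where
  n : ℕ
  L : ℕ
  AB : ℕ
  mA : ℕ
  arow : ℕ → ℕ
  ivl : List ℕ
  relPairs : List (List ℕ × List ℕ)
  macros : List (List ℕ)
  subs : List (List ℕ)
  roots : List ℕ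

namespace LData
variable (D : LData)

def A (j l : ℕ) : ℕ := Nat.land (Nat.shiftRight (D.arow j) (Nat.mul l D.AB)) D.mA
def iv (l : ℕ) : ℕ := D.ivl.getD l l

noncomputable def walkA (w : List ℕ) : ℕ → ℕ :=
  List.rec (fun j => j) (fun l _ ih j => strict (D.A j l) ih) w

theorem walkA_nil (j : ℕ) : D.walkA [] j = j := rfl
theorem walkA_cons (l : ℕ) (w : List ℕ) (j : ℕ) : D.walkA (l :: w) j = D.walkA w (D.A j l) := by
  show strict (D.A j l) (D.walkA w) = _
  simp

theorem walkA_append (w1 w2 : List ℕ) (j : ℕ) :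
    D.walkA (w1 ++ w2) j = D.walkA w2 (D.walkA w1 j) := by
  induction w1 generalizing j with
  | nil => rfl
  | cons l w ih => rw [List.cons_append, walkA_cons, walkA_cons, ih]

noncomputable def chkMac (j : ℕ) (ms : List (List ℕ)) : ℕ → Bool :=
  List.rec (fun _ => true)
    (fun w _ ih c => Bool.rec false (ih (Nat.succ c)) (Nat.beq (D.A j c) (D.walkA w j))) ms

theorem chkMac_spec (j : ℕ) : ∀ (ms : List (List ℕ)) (c : ℕ), D.chkMac j ms c = true →
    ∀ i, i < ms.length → D.A j (c + i) = D.walkA (ms.getD i []) j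
  | [], _, _, i, hi => by simp at hi
  | w :: ms, c, h, i, hi => by
    have h' : @Bool.rec (fun _ => Bool) false (D.chkMac j ms (c + 1))
      (Nat.beq (D.A j c) (D.walkA w j)) = true := h
    cases hp : Nat.beq (D.A j c) (D.walkA w j) with
    | false => rw [hp] at h'; exact absurd h' (by simp)
    | true =>
      rw [hp] at h'
      cases i with
      | zero => simpa using (Nat.beq_eq ▸ hp : D.A j c = D.walkA w j)
      | succ i =>
        have := chkMac_spec j ms (c + 1) h' i (by simpa using hi)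
        rw [show c + (i + 1) = c + 1 + i by omega, this]
        simp

noncomputable def chkPt (j : ℕ) : Bool :=
  Nat.ble D.n j ||
  (allB (fun l => strict (D.A j l)
      (fun a => Nat.ble (Nat.succ a) D.n && Nat.beq (D.A a (D.iv l)) j)) D.L
    && D.chkMac j D.macros (D.L + 3)
    && allL (fun p => Nat.beq (D.walkA p.1 j) (D.walkA p.2 j)) D.relPairs
    && (Nat.beq j 0 || anyB (fun l => Nat.ble (Nat.succ (D.A j l)) j) D.L))

def expand (w : List ℕ) : List ℕ :=
  w.flatMap (fun l => if l < D.L then [l] else D.macros.getD (l - (D.L + 3)) [])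

structure Valid : Prop where
  hn : 0 < D.n
  hlen : D.ivl.length = D.L
  hiv : ∀ l < D.L, D.iv l < D.L ∧ D.iv (D.iv l) = l
  hpt : ∀ j < D.n, D.chkPt j = true
  hmacL : ∀ m ∈ D.macros, ∀ l ∈ m, l < D.L
  hrelL : ∀ p ∈ D.relPairs, ∀ l ∈ p.1 ++ p.2,
    l < D.L ∨ (D.L + 3 ≤ l ∧ l - (D.L + 3) < D.macros.length)

variable {D}

theorem Valid.pt (h : D.Valid) {j : ℕ} (hj : j < D.n) :
    (∀ l < D.L, D.A j l < D.n ∧ D.A (D.A j l) (D.iv l) = j) ∧
    (∀ i < D.macros.length, D.A j (D.L + 3 + i) = D.walkA (D.macros.getD i []) j) ∧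
    (∀ p ∈ D.relPairs, D.walkA p.1 j = D.walkA p.2 j) ∧
    (j = 0 ∨ ∃ l < D.L, D.A j l < j) := by
  have h1 := h.hpt j hj
  unfold chkPt at h1
  rw [Bool.or_eq_true, Nat.ble_eq, Bool.and_eq_true, Bool.and_eq_true, Bool.and_eq_true] at h1
  rcases h1 with h1 | ⟨⟨⟨h1, h0⟩, h2⟩, h3⟩
  · omega
  refine ⟨fun l hl => ?_, D.chkMac_spec j _ _ h0, fun p hp => ?_, ?_⟩
  · have := allB_spec _ _ h1 l hl
    simp only [strict_eq, Bool.and_eq_true, Nat.ble_eq, Nat.beq_eq] at this
    exact ⟨this.1, this.2⟩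
  · have := allL_spec _ _ h2 p hp
    rwa [Nat.beq_eq] at this
  · rw [Bool.or_eq_true, Nat.beq_eq] at h3
    rcases h3 with h3 | h3
    · exact Or.inl h3
    · obtain ⟨l, hl, h4⟩ := anyB_spec _ _ h3
      rw [Nat.ble_eq] at h4
      exact Or.inr ⟨l, hl, h4⟩

/-- the permutation of `Fin n` given by a letter -/
def Valid.sigma (h : D.Valid) (l : ℕ) (hl : l < D.L) : Equiv.Perm (Fin D.n) where
  toFun j := ⟨D.A j l, ((h.pt j.2).1 l hl).1⟩
  invFun j := ⟨D.A j (D.iv l), ((h.pt j.2).1 _ (h.hiv l hl).1).1⟩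
  left_inv j := by
    apply Fin.ext
    exact ((h.pt j.2).1 l hl).2
  right_inv j := by
    apply Fin.ext
    have := ((h.pt j.2).1 _ (h.hiv l hl).1).2
    rwa [(h.hiv l hl).2] at this

open Classical in
noncomputable def Valid.val (h : D.Valid) (l : ℕ) : Equiv.Perm (Fin D.n) :=
  if hl : l < D.L then h.sigma l hl else 1

theorem Valid.val_apply (h : D.Valid) {l : ℕ} (hl : l < D.L) (j : Fin D.n) :
    ((h.val l) j).val = D.A j l := by
  rw [Valid.val, dif_pos hl]; rfl

theorem Valid.val_iv (h : D.Valid) (l : ℕ) : h.val (D.iv l) = (h.val l)⁻¹ := by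
  by_cases hl : l < D.L
  · rw [Valid.val, Valid.val, dif_pos hl, dif_pos (h.hiv l hl).1]
    ext j
    rfl
  · have : D.iv l = l := by
      unfold iv
      rw [List.getD_eq_default]
      rw [h.hlen]; omega
    rw [this, Valid.val, dif_neg hl, inv_one]

theorem Valid.wordVal_apply (h : D.Valid) : ∀ (w : List ℕ), (∀ l ∈ w, l < D.L) → ∀ j : Fin D.n,
    ((wordVal h.val w) j).val = D.walkA w j
  | [], _, j => rfl
  | l :: w, hw, j => by
    rw [wordVal, Equiv.Perm.mul_apply, Valid.wordVal_apply h w (fun a ha => hw a (by simp [ha])),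
      walkA_cons, h.val_apply (hw l (by simp))]

theorem Valid.mac_lt (h : D.Valid) (i : ℕ) : ∀ l ∈ D.macros.getD i [], l < D.L := by
  by_cases hi : i < D.macros.length
  · rw [List.getD_eq_getElem _ _ hi]
    exact h.hmacL _ (List.getElem_mem hi)
  · rw [List.getD_eq_default _ _ (by omega)]
    simp

theorem Valid.expand_lt (h : D.Valid) (w : List ℕ) : ∀ l ∈ D.expand w, l < D.L := by
  intro l hl
  rw [expand, List.mem_flatMap] at hl
  obtain ⟨a, _, ha⟩ := hl
  split at ha
  · simp only [List.mem_singleton] at ha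
    omega
  · exact h.mac_lt _ l ha

theorem Valid.walkA_expand (h : D.Valid) : ∀ (w : List ℕ),
    (∀ l ∈ w, l < D.L ∨ (D.L + 3 ≤ l ∧ l - (D.L + 3) < D.macros.length)) → ∀ j : Fin D.n,
    D.walkA w j = D.walkA (D.expand w) j
  | [], _, _ => rfl
  | l :: w, hw, j => by
    have hw' : ∀ a ∈ w, a < D.L ∨ (D.L + 3 ≤ a ∧ a - (D.L + 3) < D.macros.length) :=
      fun a ha => hw a (by simp [ha])
    have hex : D.expand (l :: w) =
        (if l < D.L then [l] else D.macros.getD (l - (D.L + 3)) []) ++ D.expand w := by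
      simp [expand]
    rw [hex, walkA_append, walkA_cons]
    by_cases hl : l < D.L
    · rw [if_pos hl, walkA_cons, walkA_nil, ← h.val_apply hl j]
      exact Valid.walkA_expand h w hw' _
    · rw [if_neg hl]
      rcases hw l (by simp) with h1 | ⟨h1, h2⟩
      · exact absurd h1 hl
      · have h3 := (h.pt j.2).2.1 _ h2
        rw [show D.L + 3 + (l - (D.L + 3)) = l by omega] at h3
        rw [h3, ← h.wordVal_apply _ (h.mac_lt _) j]
        exact Valid.walkA_expand h w hw' _

theorem Valid.pair_eq (h : D.Valid) (p : List ℕ × List ℕ) (hp : p ∈ D.relPairs) :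
    wordVal h.val (D.expand p.1) = wordVal h.val (D.expand p.2) := by
  ext j
  rw [h.wordVal_apply _ (h.expand_lt _), h.wordVal_apply _ (h.expand_lt _),
    ← h.walkA_expand _ (fun l hl => h.hrelL p hp l (by simp [hl])),
    ← h.walkA_expand _ (fun l hl => h.hrelL p hp l (by simp [hl]))]
  exact (h.pt j.2).2.2.1 p hp

theorem wordVal_of_rotate {Γ : Type*} [Group Γ] (val : ℕ → Γ) {w : List ℕ} (k : ℕ)
    (h : wordVal val (w.rotate k) = 1) : wordVal val w = 1 := by
  rw [List.rotate_eq_drop_append_take_mod, wordVal_append] at h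
  rw [← List.take_append_drop (k % w.length) w, wordVal_append]
  exact mul_eq_one_comm.mp h

theorem Valid.rel_eq_one (h : D.Valid) (w : List ℕ)
    (hw : (w = w.take (w.length / 2) ++ invRev D.iv (w.take (w.length / 2))) ∨
      ∃ p ∈ D.relPairs, ∃ k < 2, w.rotate k = D.expand p.1 ++ invRev D.iv (D.expand p.2)) :
    wordVal h.val w = 1 := by
  rcases hw with hw | ⟨p, hp, k, _, hw⟩
  · rw [hw, wordVal_append, wordVal_invRev _ _ h.val_iv, inv_mul_cancel]
  · apply wordVal_of_rotate _ k
    rw [hw, wordVal_append, wordVal_invRev _ _ h.val_iv, h.pair_eq p hp, inv_mul_cancel]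

end LData

end Cfsg.Agent.Lib.Helper35TC
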