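import Cfsg.Agent.Lib.Helper35TCb
import Cfsg.Prelude.Def_SporCoxeter

set_option autoImplicit false

namespace Cfsg.Agent.Lib.Helper35TC

open Cfsg.Spor

/-! ## Coxeter relators as word expressions -/

def coxExps {α : Type} [DecidableEq α] (edges : List (α × ℕ × α)) : List (WExp α) :=
  (coxNodes edges).flatMap fun x => (coxNodes edges).map fun y =>
    .pow (.mul (.of x) (.of y)) (coxLabel edges x y)

theorem mem_coxRelators_iff {α : Type} [DecidableEq α] (edges : List (α × ℕ × α))
    (r : FreeGroup α) : r ∈ coxRelators edges ↔ ∃ e ∈ coxExps edges, r = e.eval := by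
  constructor
  · rintro ⟨x, hx, y, hy, rfl⟩
    refine ⟨.pow (.mul (.of x) (.of y)) (coxLabel edges x y), ?_, rfl⟩
    rw [coxExps, List.mem_flatMap]
    exact ⟨x, hx, List.mem_map.mpr ⟨y, hy, rfl⟩⟩
  · rintro ⟨e, he, rfl⟩
    rw [coxExps, List.mem_flatMap] at he
    obtain ⟨x, hx, he⟩ := he
    obtain ⟨y, hy, rfl⟩ := List.mem_map.mp he
    exact ⟨x, hx, y, hy, rfl⟩

/-! ## Rotations of relator words -/

section rot
variable {Γ : Type*} [Group Γ] (val : ℕ → Γ)

theorem wordVal_rotate {w : List ℕ} (h : wordVal val w = 1) (k : ℕ) :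
    wordVal val (w.rotate k) = 1 := by
  rw [List.rotate_eq_drop_append_take_mod, wordVal_append]
  have h2 : wordVal val (w.take (k % w.length) ++ w.drop (k % w.length)) = 1 := by
    rw [List.take_append_drop]; exact h
  rw [wordVal_append] at h2
  exact mul_eq_one_comm.mp h2

def mkRot (relWords : List (List ℕ)) (iv : ℕ → ℕ) (s : ℕ × ℕ × Bool) : List ℕ :=
  ((if s.2.2 then invRev iv (relWords.getD s.1 []) else relWords.getD s.1 [])).rotate s.2.1

theorem wordVal_mkRot (relWords : List (List ℕ)) (iv : ℕ → ℕ)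
    (hiv : ∀ l, val (iv l) = (val l)⁻¹) (hrel : ∀ r ∈ relWords, wordVal val r = 1)
    (s : ℕ × ℕ × Bool) : wordVal val (mkRot relWords iv s) = 1 := by
  have h1 : wordVal val (relWords.getD s.1 []) = 1 := by
    by_cases hs : s.1 < relWords.length
    · rw [List.getD_eq_getElem _ _ hs]
      exact hrel _ (List.getElem_mem hs)
    · rw [List.getD_eq_default _ _ (by omega)]
      rfl
  unfold mkRot
  apply wordVal_rotate
  split
  · rw [wordVal_invRev val iv hiv, h1, inv_one]
  · exact h1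

end rot

theorem hrels_of {α : Type} [DecidableEq α] (edges : List (α × ℕ × α))
    (extra : List (FreeGroup α)) (extraExps : List (WExp α))
    (h : extra = extraExps.map WExp.eval) (r : FreeGroup α) :
    r ∈ (coxRelators edges ∪ {r | r ∈ extra}) ↔ ∃ e ∈ coxExps edges ++ extraExps, r = e.eval := by
  rw [Set.mem_union, mem_coxRelators_iff]
  constructor
  · rintro (⟨e, he, rfl⟩ | hr)
    · exact ⟨e, List.mem_append_left _ he, rfl⟩
    · have hr' : r ∈ extra := hr
      rw [h, List.mem_map] at hr'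
      obtain ⟨e, he, rfl⟩ := hr'
      exact ⟨e, List.mem_append_right _ he, rfl⟩
  · rintro ⟨e, he, rfl⟩
    rcases List.mem_append.mp he with he | he
    · exact Or.inl ⟨e, he, rfl⟩
    · right
      show e.eval ∈ extra
      rw [h]
      exact List.mem_map.mpr ⟨e, he, rfl⟩

theorem cox_sq {α : Type} [DecidableEq α] (edges : List (α × ℕ × α)) (X : Set (FreeGroup α))
    (x : α) (hx : x ∈ coxNodes edges) :
    PresentedGroup.mk (coxRelators edges ∪ X) (FreeGroup.of x) *
      PresentedGroup.mk (coxRelators edges ∪ X) (FreeGroup.of x) = 1 := by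
  have h : (FreeGroup.of x * FreeGroup.of x) ^ coxLabel edges x x ∈ coxRelators edges ∪ X :=
    Or.inl ⟨x, hx, x, hx, rfl⟩
  have h2 := PresentedGroup.one_of_mem h
  have h3 : coxLabel edges x x = 1 := by simp [coxLabel]
  rw [h3, pow_one, map_mul] at h2
  exact h2

noncomputable def getRow (t : Tr) (lg lgMask RW mask u : ℕ) : ℕ :=
  Nat.land (Nat.shiftRight (t.get (Nat.shiftRight u lg)) (Nat.mul (Nat.land u lgMask) RW)) mask

/-! ## The main package -/

/-- All the data about one enumeration. -/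
structure Pkg (α : Type) where
  rels : Set (FreeGroup α)
  S : Set (FreeGroup α)
  relExps : List (WExp α)
  subExps : List (WExp α)
  code : α → ℕ
  letters : List (FreeGroup α)
  U : UData
  rotT : TrL
  rotSrc : List (ℕ × ℕ × Bool)
  relWords : List (List ℕ)
  P : LData

namespace Pkg
variable {α : Type} (K : Pkg α)

abbrev Grp : Type := PresentedGroup K.rels
abbrev H : Subgroup K.Grp := (Subgroup.closure K.S).map (PresentedGroup.mk K.rels)

def valG (l : ℕ) : K.Grp := PresentedGroup.mk K.rels (K.letters.getD l 1)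

structure Ok : Prop where
  hrels : ∀ r, r ∈ K.rels ↔ ∃ e ∈ K.relExps, r = e.eval
  hS : ∀ s, s ∈ K.S ↔ ∃ e ∈ K.subExps, s = e.eval
  hcodeL : ∀ a, K.code a < K.P.L
  hletters : ∀ a, K.letters.getD (K.code a) 1 = FreeGroup.of a
  hsurj : ∀ l < K.P.L, ∃ a, l = K.code a ∨ l = K.P.iv (K.code a)
  hvalG : ∀ l, K.valG (K.P.iv l) = (K.valG l)⁻¹
  hP : K.P.Valid
  -- every relator is covered by a checked pair
  hpairs : ∀ e ∈ K.relExps,
    (e.app K.code K.P.iv = (e.app K.code K.P.iv).take ((e.app K.code K.P.iv).length / 2) ++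
        invRev K.P.iv ((e.app K.code K.P.iv).take ((e.app K.code K.P.iv).length / 2))) ∨
    ∃ p ∈ K.P.relPairs, ∃ k < 2,
      (e.app K.code K.P.iv).rotate k = K.P.expand p.1 ++ invRev K.P.iv (K.P.expand p.2)
  hsubsP : K.P.subs = K.subExps.map (fun e => e.app K.code K.P.iv)
  hsub0 : ∀ w ∈ K.P.subs, K.P.walkA w 0 = 0
  -- part U
  hUL : K.U.L = K.P.L
  hUN : 0 < K.U.N
  hrot : K.U.rot = K.rotT.get
  hrotT : K.rotT.toList = K.rotSrc.map (mkRot K.relWords K.P.iv)
  hrelW : ∀ r ∈ K.relWords,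
    (∃ l < K.P.L, r = [l, K.P.iv l]) ∨ ∃ e ∈ K.relExps, r = e.app K.code K.P.iv
  hUsub : ∀ h, K.U.sub h = K.P.subs.getD h []
  hchk : ∀ u < K.U.N, K.U.chkRow u = true
  hcnt : ((Finset.range K.U.N).filter (fun u => K.U.live u = true)).card ≤ K.P.n

variable {K}

theorem hvalG_of (hlen : K.letters.length = K.P.L) (hlen2 : K.P.ivl.length = K.P.L)
    (h : ∀ l < K.P.L, K.valG (K.P.iv l) * K.valG l = 1) (l : ℕ) :
    K.valG (K.P.iv l) = (K.valG l)⁻¹ := by
  by_cases hl : l < K.P.L
  · exact eq_inv_of_mul_eq_one_left (h l hl)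
  · have h1 : K.P.iv l = l := by
      unfold LData.iv
      rw [List.getD_eq_default]
      omega
    have h2 : K.valG l = 1 := by
      unfold valG
      rw [List.getD_eq_default _ _ (by omega), map_one]
    rw [h1, h2, inv_one]

theorem Ok.mk_eval (h : K.Ok) (e : WExp α) :
    PresentedGroup.mk K.rels e.eval = wordVal K.valG (e.app K.code K.P.iv) :=
  eval_eq_wordVal K.valG K.code K.P.iv h.hvalG (PresentedGroup.mk K.rels)
    (fun a => by rw [valG, h.hletters]) e

theorem Ok.app_lt (h : K.Ok) (e : WExp α) : ∀ l ∈ e.app K.code K.P.iv, l < K.P.L := by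
  induction e with
  | of a => intro l hl; simp only [WExp.app, List.mem_singleton] at hl; rw [hl]; exact h.hcodeL a
  | mul x y hx hy =>
    intro l hl
    simp only [WExp.app, List.mem_append] at hl
    rcases hl with hl | hl
    · exact hy l hl
    · exact hx l hl
  | inv x hx =>
    intro l hl
    simp only [WExp.app, invRev, List.mem_reverse, List.mem_map] at hl
    obtain ⟨a, ha, rfl⟩ := hl
    exact (h.hP.hiv a (hx a ha)).1
  | pow x n hx =>
    intro l hl
    simp only [WExp.app] at hl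
    induction n with
    | zero => simp [repW] at hl
    | succ n ih =>
      simp only [repW, List.mem_append] at hl
      rcases hl with hl | hl
      · exact hx l hl
      · exact ih hl

/-- the permutation representation -/
noncomputable def Ok.phi (h : K.Ok) : K.Grp →* Equiv.Perm (Fin K.P.n) :=
  PresentedGroup.toGroup (f := fun a => h.hP.val (K.code a)) (by
    intro r hr
    obtain ⟨e, he, rfl⟩ := (h.hrels r).mp hr
    rw [eval_eq_wordVal h.hP.val K.code K.P.iv h.hP.val_iv _ (fun a => by simp) e]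
    exact h.hP.rel_eq_one _ (h.hpairs e he))

theorem Ok.phi_mk (h : K.Ok) (e : WExp α) :
    h.phi (PresentedGroup.mk K.rels e.eval) = wordVal h.hP.val (e.app K.code K.P.iv) :=
  eval_eq_wordVal h.hP.val K.code K.P.iv h.hP.val_iv (h.phi.comp (PresentedGroup.mk K.rels))
    (fun a => by
      show h.phi (PresentedGroup.of a) = _
      exact PresentedGroup.toGroup.of _) e

theorem Ok.phi_mk_apply (h : K.Ok) (e : WExp α) (j : Fin K.P.n) :
    ((h.phi (PresentedGroup.mk K.rels e.eval)) j).val = K.P.walkA (e.app K.code K.P.iv) j := by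
  rw [h.phi_mk, h.hP.wordVal_apply _ (h.app_lt e)]

theorem Ok.exists_phi_eq_val (h : K.Ok) {l : ℕ} (hl : l < K.P.L) :
    ∃ g : K.Grp, h.phi g = h.hP.val l := by
  obtain ⟨a, ha | ha⟩ := h.hsurj l hl
  · exact ⟨PresentedGroup.of a, by rw [ha]; exact PresentedGroup.toGroup.of _⟩
  · refine ⟨(PresentedGroup.of a)⁻¹, ?_⟩
    rw [ha, h.hP.val_iv, map_inv]
    exact congrArg (·⁻¹) (PresentedGroup.toGroup.of _)

def Ok.zero (h : K.Ok) : Fin K.P.n := ⟨0, h.hP.hn⟩

theorem Ok.transitive (h : K.Ok) : ∀ j : Fin K.P.n, ∃ g : K.Grp, h.phi g h.zero = j := by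
  have key : ∀ m, ∀ j : Fin K.P.n, j.val = m → ∃ g : K.Grp, h.phi g h.zero = j := by
    intro m
    induction m using Nat.strong_induction_on with
    | _ m ih =>
      intro j hj
      rcases (h.hP.pt j.2).2.2.2 with h0 | ⟨l, hl, hlt⟩
      · exact ⟨1, by rw [map_one]; exact Fin.ext h0.symm⟩
      · obtain ⟨g, hg⟩ := ih (K.P.A j l) (by omega) (h.hP.val l j) (h.hP.val_apply hl j)
        obtain ⟨x, hx⟩ := h.exists_phi_eq_val hl
        refine ⟨x⁻¹ * g, ?_⟩
        rw [map_mul, Equiv.Perm.mul_apply, hg, map_inv, hx]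
        simp
  exact fun j => key j.val j rfl

theorem Ok.mem_H_of_sub (h : K.Ok) {e : WExp α} (he : e ∈ K.subExps) :
    PresentedGroup.mk K.rels e.eval ∈ K.H :=
  Subgroup.mem_map_of_mem _ (Subgroup.subset_closure ((h.hS _).mpr ⟨e, he, rfl⟩))

/-- induction principle for the subgroup `H` -/
theorem Ok.H_le (h : K.Ok) (M : Subgroup K.Grp)
    (hM : ∀ e ∈ K.subExps, PresentedGroup.mk K.rels e.eval ∈ M) : K.H ≤ M := by
  rw [Subgroup.map_le_iff_le_comap, Subgroup.closure_le]
  intro s hs
  obtain ⟨e, he, rfl⟩ := (h.hS s).mp hs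
  exact hM e he

theorem Ok.H_fix (h : K.Ok) : ∀ g ∈ K.H, h.phi g h.zero = h.zero := by
  have : K.H ≤ (MulAction.stabilizer (Equiv.Perm (Fin K.P.n)) h.zero).comap h.phi := by
    apply h.H_le
    intro e he
    rw [Subgroup.mem_comap, MulAction.mem_stabilizer_iff, Equiv.Perm.smul_def]
    apply Fin.ext
    rw [h.phi_mk_apply]
    exact h.hsub0 _ (by rw [h.hsubsP]; exact List.mem_map.mpr ⟨e, he, rfl⟩)
  intro g hg
  exact this hg

theorem Ok.card_le (h : K.Ok) : Finite (K.Grp ⧸ K.H) ∧ Nat.card (K.Grp ⧸ K.H) ≤ K.P.n := by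
  have hrelW : ∀ r ∈ K.relWords, wordVal K.valG r = 1 := by
    intro r hr
    rcases h.hrelW r hr with ⟨l, _, rfl⟩ | ⟨e, he, rfl⟩
    · simp [wordVal, h.hvalG]
    · rw [← h.mk_eval]
      exact PresentedGroup.one_of_mem ((h.hrels _).mpr ⟨e, he, rfl⟩)
  have hrot : ∀ p, wordVal K.valG (K.U.rot p) = 1 := by
    intro p
    rw [h.hrot]
    apply TrL.get_of_all (P := fun w => wordVal K.valG w = 1)
    apply TrL.all_of_toList
    intro w hw
    rw [h.hrotT, List.mem_map] at hw
    obtain ⟨s, _, rfl⟩ := hw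
    exact wordVal_mkRot K.valG K.relWords K.P.iv h.hvalG hrelW s
  have hsub : ∀ i, wordVal K.valG (K.U.sub i) ∈ K.H := by
    intro i
    rw [h.hUsub]
    by_cases hi : i < K.P.subs.length
    · rw [List.getD_eq_getElem _ _ hi]
      have hm : ∀ w ∈ K.P.subs, wordVal K.valG w ∈ K.H := by
        intro w hw
        rw [h.hsubsP, List.mem_map] at hw
        obtain ⟨e, he, rfl⟩ := hw
        rw [← h.mk_eval]
        exact h.mem_H_of_sub he
      exact hm _ (List.getElem_mem hi)
    · rw [List.getD_eq_default _ _ (by omega)]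
      exact K.H.one_mem
  have hgen : Subgroup.closure (K.valG '' {l | l < K.U.L}) = ⊤ := by
    rw [eq_top_iff, ← PresentedGroup.closure_range_of, Subgroup.closure_le]
    rintro _ ⟨a, rfl⟩
    apply Subgroup.subset_closure
    refine ⟨K.code a, ?_, ?_⟩
    · show K.code a < K.U.L
      rw [h.hUL]; exact h.hcodeL a
    · rw [valG, h.hletters]; rfl
  obtain ⟨h1, h2⟩ := card_quot_le K.H K.U K.valG K.P.iv h.hvalG
    (fun l hl => by rw [h.hUL] at hl ⊢; exact (h.hP.hiv l hl).1) hgen hrot hsub h.hUN h.hchk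
  exact ⟨h1, h2.trans h.hcnt⟩

/-- the equivariant map from cosets to points -/
noncomputable def Ok.thetaFun (h : K.Ok) : K.Grp ⧸ K.H → Fin K.P.n :=
  fun q => Quotient.liftOn' q (fun g => h.phi g h.zero) (by
    intro a b hab
    rw [QuotientGroup.leftRel_apply] at hab
    have := h.H_fix _ hab
    rw [map_mul, map_inv, Equiv.Perm.mul_apply, Equiv.Perm.inv_eq_iff_eq] at this
    exact this.symm)

theorem Ok.thetaFun_mk (h : K.Ok) (g : K.Grp) : h.thetaFun (g : K.Grp ⧸ K.H) = h.phi g h.zero := rfl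

theorem Ok.thetaFun_smul (h : K.Ok) (g : K.Grp) (q : K.Grp ⧸ K.H) :
    h.thetaFun (g • q) = h.phi g (h.thetaFun q) := by
  induction q using QuotientGroup.induction_on with
  | H x =>
    rw [MulAction.Quotient.smul_coe, h.thetaFun_mk, h.thetaFun_mk, smul_eq_mul, map_mul,
      Equiv.Perm.mul_apply]

theorem Ok.thetaFun_surj (h : K.Ok) : Function.Surjective h.thetaFun := by
  intro j
  obtain ⟨g, hg⟩ := h.transitive j
  exact ⟨(g : K.Grp ⧸ K.H), hg⟩

theorem Ok.thetaFun_bij (h : K.Ok) : Function.Bijective h.thetaFun := by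
  obtain ⟨hf, hc⟩ := h.card_le
  have := Fintype.ofFinite (K.Grp ⧸ K.H)
  rw [Nat.card_eq_fintype_card] at hc
  refine (Function.Surjective.bijective_of_nat_card_le h.thetaFun_surj ?_)
  rw [Nat.card_eq_fintype_card, Nat.card_eq_fintype_card, Fintype.card_fin]
  exact hc

theorem Ok.index_eq (h : K.Ok) : K.H.index = K.P.n := by
  rw [Subgroup.index, Nat.card_congr (Equiv.ofBijective _ h.thetaFun_bij), Nat.card_eq_fintype_card,
    Fintype.card_fin]

end Pkg

end Cfsg.Agent.Lib.Helper35TC
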