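import Cfsg.Agent.Lib.Helper35TCc

set_option autoImplicit false

namespace Cfsg.Agent.Lib.Helper35TC

theorem all_of_allD (p : ℕ → Bool) (d N : ℕ) (hN : N ≤ 2 ^ d) (h : allD p d 0 = true) :
    ∀ u < N, p u = true :=
  fun u hu => allD_spec p d 0 h u (Nat.zero_le _) (by omega)

theorem card_filter_range (p : ℕ → Bool) (d N : ℕ) (hN : N ≤ 2 ^ d)
    (hp : ∀ u, p u = true → u < N) :
    ((Finset.range N).filter (fun u => p u = true)).card = cntD p d 0 := by
  rw [cntD_spec]
  congr 1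
  ext u
  simp only [Finset.mem_filter, Finset.mem_range, Finset.mem_Ico, zero_add, Nat.zero_le, true_and]
  constructor
  · rintro ⟨h1, h2⟩; exact ⟨by omega, h2⟩
  · rintro ⟨_, h2⟩; exact ⟨hp u h2, h2⟩

namespace LData
variable (D : LData)

def lab (j : ℕ) : ℕ := D.A j D.L
def dep (j : ℕ) : ℕ := D.A j (Nat.succ D.L)
def hp (j : ℕ) : ℕ := D.A j (Nat.succ (Nat.succ D.L))

noncomputable def chkOrb (j : ℕ) : Bool :=
  Nat.ble D.n j ||
  (allL (fun w => strict (D.walkA w j) (fun a => Nat.beq (D.lab a) (D.lab j))) D.subs &&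
   ((Nat.beq (D.dep j) 0 && Nat.beq (D.roots.getD (D.lab j) D.n) j) ||
     strict (D.walkA (D.subs.getD (D.hp j) []) j)
       (fun j' => Nat.ble (Nat.succ (D.dep j')) (D.dep j))))

def labIs (c j : ℕ) : Bool := Nat.ble (Nat.succ j) D.n && Nat.beq (D.lab j) c

theorem labIs_iff (c j : ℕ) : D.labIs c j = true ↔ j < D.n ∧ D.lab j = c := by
  unfold labIs
  rw [Bool.and_eq_true, Nat.ble_eq, Nat.beq_eq]
  constructor <;> rintro ⟨h1, h2⟩ <;> exact ⟨by omega, h2⟩

end LData

namespace Pkg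
variable {α : Type} {K : Pkg α}

theorem Ok.orb (h : K.Ok) (horb : ∀ j < K.P.n, K.P.chkOrb j = true) {j : ℕ} (hj : j < K.P.n) :
    (∀ w ∈ K.P.subs, K.P.lab (K.P.walkA w j) = K.P.lab j) ∧
    ((K.P.dep j = 0 ∧ K.P.roots.getD (K.P.lab j) K.P.n = j) ∨
      K.P.dep (K.P.walkA (K.P.subs.getD (K.P.hp j) []) j) < K.P.dep j) := by
  have h1 := horb j hj
  unfold LData.chkOrb at h1
  rw [Bool.or_eq_true, Nat.ble_eq, Bool.and_eq_true] at h1
  rcases h1 with h1 | ⟨h1, h2⟩
  · omega
  refine ⟨fun w hw => ?_, ?_⟩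
  · have := allL_spec _ _ h1 w hw
    simpa only [strict_eq, Nat.beq_eq] using this
  · simp only [strict_eq, Bool.or_eq_true, Bool.and_eq_true, Nat.beq_eq, Nat.ble_eq] at h2
    rcases h2 with h2 | h2
    · exact Or.inl h2
    · exact Or.inr (by omega)

theorem Ok.lab_invariant (h : K.Ok) (horb : ∀ j < K.P.n, K.P.chkOrb j = true) :
    ∀ g ∈ K.H, ∀ j : Fin K.P.n, K.P.lab (h.phi g j) = K.P.lab j := by
  let M : Subgroup K.Grp :=
    { carrier := {g | ∀ j : Fin K.P.n, K.P.lab (h.phi g j) = K.P.lab j}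
      one_mem' := by intro j; simp
      mul_mem' := by
        intro a b ha hb j
        rw [map_mul, Equiv.Perm.mul_apply, ha, hb]
      inv_mem' := by
        intro a ha j
        have := ha (h.phi a⁻¹ j)
        rw [← Equiv.Perm.mul_apply, ← map_mul, mul_inv_cancel, map_one, Equiv.Perm.one_apply] at this
        exact this.symm }
  have hle : K.H ≤ M := by
    apply h.H_le
    intro e he j
    rw [h.phi_mk_apply]
    exact (h.orb horb j.2).1 _ (by rw [h.hsubsP]; exact List.mem_map.mpr ⟨e, he, rfl⟩)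
  exact fun g hg => hle hg

theorem Ok.connect (h : K.Ok) (horb : ∀ j < K.P.n, K.P.chkOrb j = true) :
    ∀ j : Fin K.P.n, ∃ g ∈ K.H, ∃ r : Fin K.P.n,
      r.val = K.P.roots.getD (K.P.lab j) K.P.n ∧ h.phi g r = j := by
  have key : ∀ m, ∀ j : Fin K.P.n, K.P.dep j = m → ∃ g ∈ K.H, ∃ r : Fin K.P.n,
      r.val = K.P.roots.getD (K.P.lab j) K.P.n ∧ h.phi g r = j := by
    intro m
    induction m using Nat.strong_induction_on with
    | _ m ih =>
      intro j hj
      rcases (h.orb horb j.2).2 with ⟨_, h2⟩ | h2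
      · exact ⟨1, K.H.one_mem, j, h2.symm, by simp⟩
      · by_cases hi : K.P.hp j < K.P.subs.length
        · rw [List.getD_eq_getElem _ _ hi] at h2
          have hm := List.getElem_mem hi
          generalize K.P.subs[K.P.hp j] = w at h2 hm
          rw [h.hsubsP, List.mem_map] at hm
          obtain ⟨e, he, rfl⟩ := hm
          set x := PresentedGroup.mk K.rels e.eval with hx
          have hxH : x ∈ K.H := h.mem_H_of_sub he
          have hxj : ((h.phi x) j).val = K.P.walkA (e.app K.code K.P.iv) j := h.phi_mk_apply e j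
          rw [← hxj] at h2
          obtain ⟨g, hg, r, hr, hgr⟩ := ih _ (by rw [← hj]; exact h2) (h.phi x j) rfl
          refine ⟨x⁻¹ * g, K.H.mul_mem (K.H.inv_mem hxH) hg, r, ?_, ?_⟩
          · rw [hr, h.lab_invariant horb x hxH]
          · rw [map_mul, Equiv.Perm.mul_apply, hgr, map_inv]
            simp
        · rw [List.getD_eq_default _ _ (by omega)] at h2
          exact absurd h2 (lt_irrefl _)
  exact fun j => key _ j rfl

theorem Ok.orbit_spec (h : K.Ok) (horb : ∀ j < K.P.n, K.P.chkOrb j = true) (c r : ℕ)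
    (hr : K.P.roots.getD c K.P.n = r) (hrn : r < K.P.n) (hlab : K.P.lab r = c) :
    ∃ q : K.Grp ⧸ K.H,
      (∀ q', q' ∈ MulAction.orbit K.H q ↔ K.P.lab (h.thetaFun q') = c) ∧
      (MulAction.orbit K.H q).ncard =
        ((Finset.range K.P.n).filter (fun j => K.P.labIs c j = true)).card := by
  classical
  obtain ⟨q, hq⟩ := h.thetaFun_surj ⟨r, hrn⟩
  have hmem : ∀ q', q' ∈ MulAction.orbit K.H q ↔ K.P.lab (h.thetaFun q') = c := by
    intro q'
    constructor
    · rintro ⟨g, rfl⟩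
      show K.P.lab (h.thetaFun ((g : K.Grp) • q)) = c
      rw [h.thetaFun_smul, h.lab_invariant horb _ g.2, hq]
      exact hlab
    · intro hl
      obtain ⟨g, hg, r', hr', hgr⟩ := h.connect horb (h.thetaFun q')
      rw [hl, hr] at hr'
      have : r' = ⟨r, hrn⟩ := Fin.ext hr'
      rw [this, ← hq, ← h.thetaFun_smul] at hgr
      exact ⟨⟨g, hg⟩, h.thetaFun_bij.1 hgr⟩
  refine ⟨q, hmem, ?_⟩
  have himg : h.thetaFun '' (MulAction.orbit K.H q) = {j : Fin K.P.n | K.P.lab j = c} := by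
    ext j
    constructor
    · rintro ⟨q', hq', rfl⟩
      exact (hmem q').mp hq'
    · intro hj
      obtain ⟨q', rfl⟩ := h.thetaFun_surj j
      exact ⟨q', (hmem q').mpr hj, rfl⟩
  rw [← Set.ncard_image_of_injective _ h.thetaFun_bij.1, himg,
    ← Set.ncard_image_of_injective _ Fin.val_injective, ← Set.ncard_coe_finset]
  congr 1
  ext j
  simp only [Set.mem_image, Set.mem_setOf_eq, Finset.coe_filter, Finset.mem_range,
    LData.labIs_iff]
  constructor
  · rintro ⟨x, hx, rfl⟩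
    exact ⟨x.2, x.2, hx⟩
  · rintro ⟨h1, _, h2⟩
    exact ⟨⟨j, h1⟩, h2, rfl⟩

end Pkg

end Cfsg.Agent.Lib.Helper35TC

namespace Cfsg.Agent.Lib.Helper35TC

theorem allD_join {p : ℕ → Bool} {d lo lo2 : ℕ} (h1 : allD p d lo = true)
    (h2 : allD p d lo2 = true) (hlo : lo2 = lo + 2 ^ d) : allD p (d + 1) lo = true := by
  subst hlo
  rw [allD_succ, h1, h2]; rfl

theorem cntD_join {p : ℕ → Bool} {d lo lo2 a b c : ℕ} (h1 : cntD p d lo = a)
    (h2 : cntD p d lo2 = b) (hlo : lo2 = lo + 2 ^ d) (hc : c = a + b) :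
    cntD p (d + 1) lo = c := by
  subst hlo
  rw [cntD_succ, h1, h2, hc]

theorem UData.live_lt (D : UData) (u : ℕ) (h : D.live u = true) : u < D.N := by
  unfold UData.live at h
  rw [Bool.and_eq_true, Nat.ble_eq] at h
  exact h.1

theorem LData.labIs_lt (D : LData) (c u : ℕ) (h : D.labIs c u = true) : u < D.n :=
  ((D.labIs_iff c u).mp h).1

end Cfsg.Agent.Lib.Helper35TC
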