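import Cfsg.Agent.Lib.Helper35Y5bD0
import Cfsg.Agent.Lib.Helper35Y5bD1
import Cfsg.Agent.Lib.Helper35Y5bD2

set_option autoImplicit false
set_option maxRecDepth 100000

namespace Cfsg.Agent.Lib.Helper35Y5b

open Cfsg.Agent.Lib.Helper35TC

def tU : Tr := (Tr.node (Tr.node (Tr.node (Tr.node (Tr.node tU_0 tU_16) (Tr.node tU_8 tU_24)) (Tr.node (Tr.node tU_4 tU_20) (Tr.node tU_12 tU_28))) (Tr.node (Tr.node (Tr.node tU_2 tU_18) (Tr.node tU_10 tU_26)) (Tr.node (Tr.node tU_6 tU_22) (Tr.node tU_14 tU_30)))) (Tr.node (Tr.node (Tr.node (Tr.node tU_1 tU_17) (Tr.node tU_9 tU_25)) (Tr.node (Tr.node tU_5 tU_21) (Tr.node tU_13 tU_29))) (Tr.node (Tr.node (Tr.node tU_3 tU_19) (Tr.node tU_11 tU_27)) (Tr.node (Tr.node tU_7 tU_23) (Tr.node tU_15 tU_31)))))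
def tJ : Tr := (Tr.node (Tr.node (Tr.node (Tr.node (Tr.node tJ_0 tJ_16) (Tr.node tJ_8 tJ_24)) (Tr.node (Tr.node tJ_4 tJ_20) (Tr.node tJ_12 tJ_28))) (Tr.node (Tr.node (Tr.node tJ_2 tJ_18) (Tr.node tJ_10 tJ_26)) (Tr.node (Tr.node tJ_6 tJ_22) (Tr.node tJ_14 tJ_30)))) (Tr.node (Tr.node (Tr.node (Tr.node tJ_1 tJ_17) (Tr.node tJ_9 tJ_25)) (Tr.node (Tr.node tJ_5 tJ_21) (Tr.node tJ_13 tJ_29))) (Tr.node (Tr.node (Tr.node tJ_3 tJ_19) (Tr.node tJ_11 tJ_27)) (Tr.node (Tr.node tJ_7 tJ_23) (Tr.node tJ_15 tJ_31)))))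
def tA : Tr := (Tr.node (Tr.node (Tr.node tA_0 tA_4) (Tr.node tA_2 tA_6)) (Tr.node (Tr.node tA_1 tA_5) (Tr.node tA_3 tA_7)))
def tR : TrL := (TrL.node (TrL.node (TrL.node (TrL.node (TrL.node (TrL.node (TrL.node (TrL.leaf [nat_lit 0, nat_lit 0]) (TrL.leaf [nat_lit 8, nat_lit 3, nat_lit 8, nat_lit 3, nat_lit 8, nat_lit 3])) (TrL.node (TrL.leaf [nat_lit 4, nat_lit 1, nat_lit 4, nat_lit 1]) (TrL.leaf [nat_lit 9, nat_lit 8, nat_lit 9, nat_lit 8, nat_lit 9, nat_lit 8]))) (TrL.node (TrL.node (TrL.leaf [nat_lit 4, nat_lit 0, nat_lit 4, nat_lit 0]) (TrL.leaf [nat_lit 6, nat_lit 5, nat_lit 6, nat_lit 5, nat_lit 6, nat_lit 5])) (TrL.node (TrL.leaf [nat_lit 5, nat_lit 2, nat_lit 5, nat_lit 2]) (TrL.leaf [nat_lit 9, nat_lit 3, nat_lit 2, nat_lit 1, nat_lit 3, nat_lit 4, nat_lit 5, nat_lit 3, nat_lit 8, nat_lit 9, nat_lit 3, nat_lit 2, nat_lit 1,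 nat_lit 3, nat_lit 4, nat_lit 5, nat_lit 3, nat_lit 8, nat_lit 9, nat_lit 3, nat_lit 2, nat_lit 1, nat_lit 3, nat_lit 4, nat_lit 5, nat_lit 3, nat_lit 8, nat_lit 9, nat_lit 3, nat_lit 2, nat_lit 1, nat_lit 3, nat_lit 4, nat_lit 5, nat_lit 3, nat_lit 8, nat_lit 9, nat_lit 3, nat_lit 2, nat_lit 1, nat_lit 3, nat_lit 4, nat_lit 5, nat_lit 3, nat_lit 8, nat_lit 9, nat_lit 3, nat_lit 2, nat_lit 1, nat_lit 3, nat_lit 4, nat_lit 5, nat_lit 3, nat_lit 8, nat_lit 9, nat_lit 3, nat_lit 2, nat_lit 1, nat_lit 3, nat_lit 4, nat_lit 5, nat_lit 3, nat_lit 8, nat_lit 9, nat_lit 3, nat_lit 2, nat_lit 1, nat_lit 3, nat_lit 4, nat_lit 5, nat_lit 3, nat_lit 8, nat_lit 9, nat_lit 3, nat_lit 2, nat_lit 1, nat_lit 3, nat_lit 4, nat_lit 5, nat_lit 3, nat_lit 8, nat_lit 9, nat_lit 3, nat_lit 2, nat_lit 1, nat_lit 3, nat_lit 4, nat_lit 5, nat_lit 3, nat_lit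 8])))) (TrL.node (TrL.node (TrL.node (TrL.leaf [nat_lit 8, nat_lit 8]) (TrL.leaf [nat_lit 6, nat_lit 4, nat_lit 6, nat_lit 4])) (TrL.node (TrL.leaf [nat_lit 7, nat_lit 1, nat_lit 7, nat_lit 1]) (TrL.leaf [nat_lit 2, nat_lit 3, nat_lit 9, nat_lit 8, nat_lit 3, nat_lit 5, nat_lit 4, nat_lit 3, nat_lit 1, nat_lit 2, nat_lit 3, nat_lit 9, nat_lit 8, nat_lit 3, nat_lit 5, nat_lit 4, nat_lit 3, nat_lit 1, nat_lit 2, nat_lit 3, nat_lit 9, nat_lit 8, nat_lit 3, nat_lit 5, nat_lit 4, nat_lit 3, nat_lit 1, nat_lit 2, nat_lit 3, nat_lit 9, nat_lit 8, nat_lit 3, nat_lit 5, nat_lit 4, nat_lit 3, nat_lit 1, nat_lit 2, nat_lit 3, nat_lit 9, nat_lit 8, nat_lit 3, nat_lit 5, nat_lit 4, nat_lit 3, nat_lit 1, nat_lit 2, nat_lit 3, nat_lit 9, nat_lit 8, nat_lit 3, nat_lit 5, nat_lit 4, nat_lit 3, nat_lit 1, nat_lit 2, nat_lit 3, nat_lit 9, nat_lit 8, nat_lit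 3, nat_lit 5, nat_lit 4, nat_lit 3, nat_lit 1, nat_lit 2, nat_lit 3, nat_lit 9, nat_lit 8, nat_lit 3, nat_lit 5, nat_lit 4, nat_lit 3, nat_lit 1, nat_lit 2, nat_lit 3, nat_lit 9, nat_lit 8, nat_lit 3, nat_lit 5, nat_lit 4, nat_lit 3, nat_lit 1, nat_lit 2, nat_lit 3, nat_lit 9, nat_lit 8, nat_lit 3, nat_lit 5, nat_lit 4, nat_lit 3, nat_lit 1]))) (TrL.node (TrL.node (TrL.leaf [nat_lit 7, nat_lit 0, nat_lit 7, nat_lit 0]) (TrL.leaf [nat_lit 8, nat_lit 6, nat_lit 8, nat_lit 6])) (TrL.node (TrL.leaf [nat_lit 9, nat_lit 2, nat_lit 9, nat_lit 2]) (TrL.leaf []))))) (TrL.node (TrL.node (TrL.node (TrL.node (TrL.leaf [nat_lit 4, nat_lit 4]) (TrL.leaf [nat_lit 9, nat_lit 3, nat_lit 9, nat_lit 3])) (TrL.node (TrL.leaf [nat_lit 6, nat_lit 1, nat_lit 6, nat_lit 1]) (TrL.leaf [nat_lit 3, nat_lit 5, nat_lit 4, nat_lit 3, nat_lit 1, nat_lit 2, nat_lit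 3, nat_lit 9, nat_lit 8, nat_lit 3, nat_lit 5, nat_lit 4, nat_lit 3, nat_lit 1, nat_lit 2, nat_lit 3, nat_lit 9, nat_lit 8, nat_lit 3, nat_lit 5, nat_lit 4, nat_lit 3, nat_lit 1, nat_lit 2, nat_lit 3, nat_lit 9, nat_lit 8, nat_lit 3, nat_lit 5, nat_lit 4, nat_lit 3, nat_lit 1, nat_lit 2, nat_lit 3, nat_lit 9, nat_lit 8, nat_lit 3, nat_lit 5, nat_lit 4, nat_lit 3, nat_lit 1, nat_lit 2, nat_lit 3, nat_lit 9, nat_lit 8, nat_lit 3, nat_lit 5, nat_lit 4, nat_lit 3, nat_lit 1, nat_lit 2, nat_lit 3, nat_lit 9, nat_lit 8, nat_lit 3, nat_lit 5, nat_lit 4, nat_lit 3, nat_lit 1, nat_lit 2, nat_lit 3, nat_lit 9, nat_lit 8, nat_lit 3, nat_lit 5, nat_lit 4, nat_lit 3, nat_lit 1, nat_lit 2, nat_lit 3, nat_lit 9, nat_lit 8, nat_lit 3, nat_lit 5, nat_lit 4, nat_lit 3, nat_lit 1, nat_lit 2, nat_lit 3, nat_lit 9, nat_lit 8, nat_lit 3, nat_lit 5, nat_lit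 4, nat_lit 3, nat_lit 1, nat_lit 2, nat_lit 3, nat_lit 9, nat_lit 8]))) (TrL.node (TrL.node (TrL.leaf [nat_lit 6, nat_lit 0, nat_lit 6, nat_lit 0]) (TrL.leaf [nat_lit 7, nat_lit 5, nat_lit 7, nat_lit 5])) (TrL.node (TrL.leaf [nat_lit 8, nat_lit 2, nat_lit 8, nat_lit 2]) (TrL.leaf [])))) (TrL.node (TrL.node (TrL.node (TrL.leaf [nat_lit 2, nat_lit 0, nat_lit 2, nat_lit 0]) (TrL.leaf [nat_lit 7, nat_lit 4, nat_lit 7, nat_lit 4])) (TrL.node (TrL.leaf [nat_lit 3, nat_lit 2, nat_lit 3, nat_lit 2, nat_lit 3, nat_lit 2]) (TrL.leaf [nat_lit 1, nat_lit 3, nat_lit 4, nat_lit 5, nat_lit 3, nat_lit 8, nat_lit 9, nat_lit 3, nat_lit 2, nat_lit 1, nat_lit 3, nat_lit 4, nat_lit 5, nat_lit 3, nat_lit 8, nat_lit 9, nat_lit 3, nat_lit 2, nat_lit 1, nat_lit 3, nat_lit 4, nat_lit 5, nat_lit 3, nat_lit 8, nat_lit 9, nat_lit 3, nat_lit 2, nat_lit 1, nat_lit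 3, nat_lit 4, nat_lit 5, nat_lit 3, nat_lit 8, nat_lit 9, nat_lit 3, nat_lit 2, nat_lit 1, nat_lit 3, nat_lit 4, nat_lit 5, nat_lit 3, nat_lit 8, nat_lit 9, nat_lit 3, nat_lit 2, nat_lit 1, nat_lit 3, nat_lit 4, nat_lit 5, nat_lit 3, nat_lit 8, nat_lit 9, nat_lit 3, nat_lit 2, nat_lit 1, nat_lit 3, nat_lit 4, nat_lit 5, nat_lit 3, nat_lit 8, nat_lit 9, nat_lit 3, nat_lit 2, nat_lit 1, nat_lit 3, nat_lit 4, nat_lit 5, nat_lit 3, nat_lit 8, nat_lit 9, nat_lit 3, nat_lit 2, nat_lit 1, nat_lit 3, nat_lit 4, nat_lit 5, nat_lit 3, nat_lit 8, nat_lit 9, nat_lit 3, nat_lit 2, nat_lit 1, nat_lit 3, nat_lit 4, nat_lit 5, nat_lit 3, nat_lit 8, nat_lit 9, nat_lit 3, nat_lit 2]))) (TrL.node (TrL.node (TrL.leaf [nat_lit 2, nat_lit 1, nat_lit 2, nat_lit 1, nat_lit 2, nat_lit 1]) (TrL.leaf [nat_lit 9, nat_lit 6, nat_lit 9, nat_lit 6])) (TrL.node (TrL.leaf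 [nat_lit 5, nat_lit 3, nat_lit 5, nat_lit 3]) (TrL.leaf [])))))) (TrL.node (TrL.node (TrL.node (TrL.node (TrL.node (TrL.leaf [nat_lit 2, nat_lit 2]) (TrL.leaf [nat_lit 7, nat_lit 3, nat_lit 7, nat_lit 3])) (TrL.node (TrL.leaf [nat_lit 5, nat_lit 1, nat_lit 5, nat_lit 1]) (TrL.leaf [nat_lit 9, nat_lit 7, nat_lit 9, nat_lit 7]))) (TrL.node (TrL.node (TrL.leaf [nat_lit 5, nat_lit 0, nat_lit 5, nat_lit 0]) (TrL.leaf [nat_lit 8, nat_lit 5, nat_lit 8, nat_lit 5])) (TrL.node (TrL.leaf [nat_lit 6, nat_lit 2, nat_lit 6, nat_lit 2]) (TrL.leaf [])))) (TrL.node (TrL.node (TrL.node (TrL.leaf [nat_lit 1, nat_lit 0, nat_lit 1, nat_lit 0, nat_lit 1, nat_lit 0]) (TrL.leaf [nat_lit 8, nat_lit 4, nat_lit 8, nat_lit 4])) (TrL.node (TrL.leaf [nat_lit 9, nat_lit 1, nat_lit 9, nat_lit 1]) (TrL.leaf [nat_lit 3, nat_lit 2, nat_lit 1, nat_lit 3, nat_lit 4, nat_lit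 5, nat_lit 3, nat_lit 8, nat_lit 9, nat_lit 3, nat_lit 2, nat_lit 1, nat_lit 3, nat_lit 4, nat_lit 5, nat_lit 3, nat_lit 8, nat_lit 9, nat_lit 3, nat_lit 2, nat_lit 1, nat_lit 3, nat_lit 4, nat_lit 5, nat_lit 3, nat_lit 8, nat_lit 9, nat_lit 3, nat_lit 2, nat_lit 1, nat_lit 3, nat_lit 4, nat_lit 5, nat_lit 3, nat_lit 8, nat_lit 9, nat_lit 3, nat_lit 2, nat_lit 1, nat_lit 3, nat_lit 4, nat_lit 5, nat_lit 3, nat_lit 8, nat_lit 9, nat_lit 3, nat_lit 2, nat_lit 1, nat_lit 3, nat_lit 4, nat_lit 5, nat_lit 3, nat_lit 8, nat_lit 9, nat_lit 3, nat_lit 2, nat_lit 1, nat_lit 3, nat_lit 4, nat_lit 5, nat_lit 3, nat_lit 8, nat_lit 9, nat_lit 3, nat_lit 2, nat_lit 1, nat_lit 3, nat_lit 4, nat_lit 5, nat_lit 3, nat_lit 8, nat_lit 9, nat_lit 3, nat_lit 2, nat_lit 1, nat_lit 3, nat_lit 4, nat_lit 5, nat_lit 3, nat_lit 8, nat_lit 9, nat_lit 3, nat_lit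 2, nat_lit 1, nat_lit 3, nat_lit 4, nat_lit 5, nat_lit 3, nat_lit 8, nat_lit 9]))) (TrL.node (TrL.node (TrL.leaf [nat_lit 9, nat_lit 0, nat_lit 9, nat_lit 0]) (TrL.leaf [nat_lit 7, nat_lit 6, nat_lit 7, nat_lit 6, nat_lit 7, nat_lit 6])) (TrL.node (TrL.leaf [nat_lit 4, nat_lit 3, nat_lit 4, nat_lit 3, nat_lit 4, nat_lit 3]) (TrL.leaf []))))) (TrL.node (TrL.node (TrL.node (TrL.node (TrL.leaf [nat_lit 6, nat_lit 6]) (TrL.leaf [nat_lit 5, nat_lit 4, nat_lit 5, nat_lit 4, nat_lit 5, nat_lit 4])) (TrL.node (TrL.leaf [nat_lit 8, nat_lit 1, nat_lit 8, nat_lit 1]) (TrL.leaf [nat_lit 4, nat_lit 3, nat_lit 1, nat_lit 2, nat_lit 3, nat_lit 9, nat_lit 8, nat_lit 3, nat_lit 5, nat_lit 4, nat_lit 3, nat_lit 1, nat_lit 2, nat_lit 3, nat_lit 9, nat_lit 8, nat_lit 3, nat_lit 5, nat_lit 4, nat_lit 3, nat_lit 1, nat_lit 2, nat_lit 3, nat_lit 9, nat_lit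 8, nat_lit 3, nat_lit 5, nat_lit 4, nat_lit 3, nat_lit 1, nat_lit 2, nat_lit 3, nat_lit 9, nat_lit 8, nat_lit 3, nat_lit 5, nat_lit 4, nat_lit 3, nat_lit 1, nat_lit 2, nat_lit 3, nat_lit 9, nat_lit 8, nat_lit 3, nat_lit 5, nat_lit 4, nat_lit 3, nat_lit 1, nat_lit 2, nat_lit 3, nat_lit 9, nat_lit 8, nat_lit 3, nat_lit 5, nat_lit 4, nat_lit 3, nat_lit 1, nat_lit 2, nat_lit 3, nat_lit 9, nat_lit 8, nat_lit 3, nat_lit 5, nat_lit 4, nat_lit 3, nat_lit 1, nat_lit 2, nat_lit 3, nat_lit 9, nat_lit 8, nat_lit 3, nat_lit 5, nat_lit 4, nat_lit 3, nat_lit 1, nat_lit 2, nat_lit 3, nat_lit 9, nat_lit 8, nat_lit 3, nat_lit 5, nat_lit 4, nat_lit 3, nat_lit 1, nat_lit 2, nat_lit 3, nat_lit 9, nat_lit 8, nat_lit 3, nat_lit 5]))) (TrL.node (TrL.node (TrL.leaf [nat_lit 8, nat_lit 0, nat_lit 8, nat_lit 0]) (TrL.leaf [nat_lit 9, nat_lit 5, nat_lit 9, nat_lit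 5])) (TrL.node (TrL.leaf [nat_lit 7, nat_lit 2, nat_lit 7, nat_lit 2]) (TrL.leaf [])))) (TrL.node (TrL.node (TrL.node (TrL.leaf [nat_lit 3, nat_lit 0, nat_lit 3, nat_lit 0]) (TrL.leaf [nat_lit 9, nat_lit 4, nat_lit 9, nat_lit 4])) (TrL.node (TrL.leaf [nat_lit 4, nat_lit 2, nat_lit 4, nat_lit 2]) (TrL.leaf [nat_lit 5, nat_lit 3, nat_lit 8, nat_lit 9, nat_lit 3, nat_lit 2, nat_lit 1, nat_lit 3, nat_lit 4, nat_lit 5, nat_lit 3, nat_lit 8, nat_lit 9, nat_lit 3, nat_lit 2, nat_lit 1, nat_lit 3, nat_lit 4, nat_lit 5, nat_lit 3, nat_lit 8, nat_lit 9, nat_lit 3, nat_lit 2, nat_lit 1, nat_lit 3, nat_lit 4, nat_lit 5, nat_lit 3, nat_lit 8, nat_lit 9, nat_lit 3, nat_lit 2, nat_lit 1, nat_lit 3, nat_lit 4, nat_lit 5, nat_lit 3, nat_lit 8, nat_lit 9, nat_lit 3, nat_lit 2, nat_lit 1, nat_lit 3, nat_lit 4, nat_lit 5, nat_lit 3, nat_lit 8, nat_lit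 9, nat_lit 3, nat_lit 2, nat_lit 1, nat_lit 3, nat_lit 4, nat_lit 5, nat_lit 3, nat_lit 8, nat_lit 9, nat_lit 3, nat_lit 2, nat_lit 1, nat_lit 3, nat_lit 4, nat_lit 5, nat_lit 3, nat_lit 8, nat_lit 9, nat_lit 3, nat_lit 2, nat_lit 1, nat_lit 3, nat_lit 4, nat_lit 5, nat_lit 3, nat_lit 8, nat_lit 9, nat_lit 3, nat_lit 2, nat_lit 1, nat_lit 3, nat_lit 4, nat_lit 5, nat_lit 3, nat_lit 8, nat_lit 9, nat_lit 3, nat_lit 2, nat_lit 1, nat_lit 3, nat_lit 4]))) (TrL.node (TrL.node (TrL.leaf [nat_lit 3, nat_lit 1, nat_lit 3, nat_lit 1]) (TrL.leaf [nat_lit 7, nat_lit 8, nat_lit 7, nat_lit 8])) (TrL.node (TrL.leaf [nat_lit 6, nat_lit 3, nat_lit 6, nat_lit 3]) (TrL.leaf []))))))) (TrL.node (TrL.node (TrL.node (TrL.node (TrL.node (TrL.node (TrL.leaf [nat_lit 1, nat_lit 1]) (TrL.leaf [nat_lit 3, nat_lit 8, nat_lit 3, nat_lit 8, nat_lit 3, nat_lit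 8])) (TrL.node (TrL.leaf [nat_lit 1, nat_lit 4, nat_lit 1, nat_lit 4]) (TrL.leaf [nat_lit 8, nat_lit 9, nat_lit 8, nat_lit 9, nat_lit 8, nat_lit 9]))) (TrL.node (TrL.node (TrL.leaf [nat_lit 0, nat_lit 4, nat_lit 0, nat_lit 4]) (TrL.leaf [nat_lit 5, nat_lit 6, nat_lit 5, nat_lit 6, nat_lit 5, nat_lit 6])) (TrL.node (TrL.leaf [nat_lit 2, nat_lit 5, nat_lit 2, nat_lit 5]) (TrL.leaf [])))) (TrL.node (TrL.node (TrL.node (TrL.leaf [nat_lit 9, nat_lit 9]) (TrL.leaf [nat_lit 4, nat_lit 6, nat_lit 4, nat_lit 6])) (TrL.node (TrL.leaf [nat_lit 1, nat_lit 7, nat_lit 1, nat_lit 7]) (TrL.leaf [nat_lit 3, nat_lit 9, nat_lit 8, nat_lit 3, nat_lit 5, nat_lit 4, nat_lit 3, nat_lit 1, nat_lit 2, nat_lit 3, nat_lit 9, nat_lit 8, nat_lit 3, nat_lit 5, nat_lit 4, nat_lit 3, nat_lit 1, nat_lit 2, nat_lit 3, nat_lit 9, nat_lit 8, nat_lit 3, nat_lit 5, nat_lit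 4, nat_lit 3, nat_lit 1, nat_lit 2, nat_lit 3, nat_lit 9, nat_lit 8, nat_lit 3, nat_lit 5, nat_lit 4, nat_lit 3, nat_lit 1, nat_lit 2, nat_lit 3, nat_lit 9, nat_lit 8, nat_lit 3, nat_lit 5, nat_lit 4, nat_lit 3, nat_lit 1, nat_lit 2, nat_lit 3, nat_lit 9, nat_lit 8, nat_lit 3, nat_lit 5, nat_lit 4, nat_lit 3, nat_lit 1, nat_lit 2, nat_lit 3, nat_lit 9, nat_lit 8, nat_lit 3, nat_lit 5, nat_lit 4, nat_lit 3, nat_lit 1, nat_lit 2, nat_lit 3, nat_lit 9, nat_lit 8, nat_lit 3, nat_lit 5, nat_lit 4, nat_lit 3, nat_lit 1, nat_lit 2, nat_lit 3, nat_lit 9, nat_lit 8, nat_lit 3, nat_lit 5, nat_lit 4, nat_lit 3, nat_lit 1, nat_lit 2, nat_lit 3, nat_lit 9, nat_lit 8, nat_lit 3, nat_lit 5, nat_lit 4, nat_lit 3, nat_lit 1, nat_lit 2]))) (TrL.node (TrL.node (TrL.leaf [nat_lit 0, nat_lit 7, nat_lit 0, nat_lit 7]) (TrL.leaf [nat_lit 6, nat_lit 8, nat_lit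 6, nat_lit 8])) (TrL.node (TrL.leaf [nat_lit 2, nat_lit 9, nat_lit 2, nat_lit 9]) (TrL.leaf []))))) (TrL.node (TrL.node (TrL.node (TrL.node (TrL.leaf [nat_lit 5, nat_lit 5]) (TrL.leaf [nat_lit 3, nat_lit 9, nat_lit 3, nat_lit 9])) (TrL.node (TrL.leaf [nat_lit 1, nat_lit 6, nat_lit 1, nat_lit 6]) (TrL.leaf [nat_lit 5, nat_lit 4, nat_lit 3, nat_lit 1, nat_lit 2, nat_lit 3, nat_lit 9, nat_lit 8, nat_lit 3, nat_lit 5, nat_lit 4, nat_lit 3, nat_lit 1, nat_lit 2, nat_lit 3, nat_lit 9, nat_lit 8, nat_lit 3, nat_lit 5, nat_lit 4, nat_lit 3, nat_lit 1, nat_lit 2, nat_lit 3, nat_lit 9, nat_lit 8, nat_lit 3, nat_lit 5, nat_lit 4, nat_lit 3, nat_lit 1, nat_lit 2, nat_lit 3, nat_lit 9, nat_lit 8, nat_lit 3, nat_lit 5, nat_lit 4, nat_lit 3, nat_lit 1, nat_lit 2, nat_lit 3, nat_lit 9, nat_lit 8, nat_lit 3, nat_lit 5, nat_lit 4, nat_lit 3, nat_lit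 1, nat_lit 2, nat_lit 3, nat_lit 9, nat_lit 8, nat_lit 3, nat_lit 5, nat_lit 4, nat_lit 3, nat_lit 1, nat_lit 2, nat_lit 3, nat_lit 9, nat_lit 8, nat_lit 3, nat_lit 5, nat_lit 4, nat_lit 3, nat_lit 1, nat_lit 2, nat_lit 3, nat_lit 9, nat_lit 8, nat_lit 3, nat_lit 5, nat_lit 4, nat_lit 3, nat_lit 1, nat_lit 2, nat_lit 3, nat_lit 9, nat_lit 8, nat_lit 3, nat_lit 5, nat_lit 4, nat_lit 3, nat_lit 1, nat_lit 2, nat_lit 3, nat_lit 9, nat_lit 8, nat_lit 3]))) (TrL.node (TrL.node (TrL.leaf [nat_lit 0, nat_lit 6, nat_lit 0, nat_lit 6]) (TrL.leaf [nat_lit 5, nat_lit 7, nat_lit 5, nat_lit 7])) (TrL.node (TrL.leaf [nat_lit 2, nat_lit 8, nat_lit 2, nat_lit 8]) (TrL.leaf [])))) (TrL.node (TrL.node (TrL.node (TrL.leaf [nat_lit 0, nat_lit 2, nat_lit 0, nat_lit 2]) (TrL.leaf [nat_lit 4, nat_lit 7, nat_lit 4, nat_lit 7])) (TrL.node (TrL.leaf [nat_lit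 2, nat_lit 3, nat_lit 2, nat_lit 3, nat_lit 2, nat_lit 3]) (TrL.leaf [nat_lit 3, nat_lit 4, nat_lit 5, nat_lit 3, nat_lit 8, nat_lit 9, nat_lit 3, nat_lit 2, nat_lit 1, nat_lit 3, nat_lit 4, nat_lit 5, nat_lit 3, nat_lit 8, nat_lit 9, nat_lit 3, nat_lit 2, nat_lit 1, nat_lit 3, nat_lit 4, nat_lit 5, nat_lit 3, nat_lit 8, nat_lit 9, nat_lit 3, nat_lit 2, nat_lit 1, nat_lit 3, nat_lit 4, nat_lit 5, nat_lit 3, nat_lit 8, nat_lit 9, nat_lit 3, nat_lit 2, nat_lit 1, nat_lit 3, nat_lit 4, nat_lit 5, nat_lit 3, nat_lit 8, nat_lit 9, nat_lit 3, nat_lit 2, nat_lit 1, nat_lit 3, nat_lit 4, nat_lit 5, nat_lit 3, nat_lit 8, nat_lit 9, nat_lit 3, nat_lit 2, nat_lit 1, nat_lit 3, nat_lit 4, nat_lit 5, nat_lit 3, nat_lit 8, nat_lit 9, nat_lit 3, nat_lit 2, nat_lit 1, nat_lit 3, nat_lit 4, nat_lit 5, nat_lit 3, nat_lit 8, nat_lit 9, nat_lit 3, nat_lit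 2, nat_lit 1, nat_lit 3, nat_lit 4, nat_lit 5, nat_lit 3, nat_lit 8, nat_lit 9, nat_lit 3, nat_lit 2, nat_lit 1, nat_lit 3, nat_lit 4, nat_lit 5, nat_lit 3, nat_lit 8, nat_lit 9, nat_lit 3, nat_lit 2, nat_lit 1]))) (TrL.node (TrL.node (TrL.leaf [nat_lit 1, nat_lit 2, nat_lit 1, nat_lit 2, nat_lit 1, nat_lit 2]) (TrL.leaf [nat_lit 6, nat_lit 9, nat_lit 6, nat_lit 9])) (TrL.node (TrL.leaf [nat_lit 3, nat_lit 5, nat_lit 3, nat_lit 5]) (TrL.leaf [])))))) (TrL.node (TrL.node (TrL.node (TrL.node (TrL.node (TrL.leaf [nat_lit 3, nat_lit 3]) (TrL.leaf [nat_lit 3, nat_lit 7, nat_lit 3, nat_lit 7])) (TrL.node (TrL.leaf [nat_lit 1, nat_lit 5, nat_lit 1, nat_lit 5]) (TrL.leaf [nat_lit 7, nat_lit 9, nat_lit 7, nat_lit 9]))) (TrL.node (TrL.node (TrL.leaf [nat_lit 0, nat_lit 5, nat_lit 0, nat_lit 5]) (TrL.leaf [nat_lit 5, nat_lit 8, nat_lit 5, nat_lit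 8])) (TrL.node (TrL.leaf [nat_lit 2, nat_lit 6, nat_lit 2, nat_lit 6]) (TrL.leaf [])))) (TrL.node (TrL.node (TrL.node (TrL.leaf [nat_lit 0, nat_lit 1, nat_lit 0, nat_lit 1, nat_lit 0, nat_lit 1]) (TrL.leaf [nat_lit 4, nat_lit 8, nat_lit 4, nat_lit 8])) (TrL.node (TrL.leaf [nat_lit 1, nat_lit 9, nat_lit 1, nat_lit 9]) (TrL.leaf [nat_lit 2, nat_lit 1, nat_lit 3, nat_lit 4, nat_lit 5, nat_lit 3, nat_lit 8, nat_lit 9, nat_lit 3, nat_lit 2, nat_lit 1, nat_lit 3, nat_lit 4, nat_lit 5, nat_lit 3, nat_lit 8, nat_lit 9, nat_lit 3, nat_lit 2, nat_lit 1, nat_lit 3, nat_lit 4, nat_lit 5, nat_lit 3, nat_lit 8, nat_lit 9, nat_lit 3, nat_lit 2, nat_lit 1, nat_lit 3, nat_lit 4, nat_lit 5, nat_lit 3, nat_lit 8, nat_lit 9, nat_lit 3, nat_lit 2, nat_lit 1, nat_lit 3, nat_lit 4, nat_lit 5, nat_lit 3, nat_lit 8, nat_lit 9, nat_lit 3, nat_lit 2, nat_lit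 1, nat_lit 3, nat_lit 4, nat_lit 5, nat_lit 3, nat_lit 8, nat_lit 9, nat_lit 3, nat_lit 2, nat_lit 1, nat_lit 3, nat_lit 4, nat_lit 5, nat_lit 3, nat_lit 8, nat_lit 9, nat_lit 3, nat_lit 2, nat_lit 1, nat_lit 3, nat_lit 4, nat_lit 5, nat_lit 3, nat_lit 8, nat_lit 9, nat_lit 3, nat_lit 2, nat_lit 1, nat_lit 3, nat_lit 4, nat_lit 5, nat_lit 3, nat_lit 8, nat_lit 9, nat_lit 3, nat_lit 2, nat_lit 1, nat_lit 3, nat_lit 4, nat_lit 5, nat_lit 3, nat_lit 8, nat_lit 9, nat_lit 3]))) (TrL.node (TrL.node (TrL.leaf [nat_lit 0, nat_lit 9, nat_lit 0, nat_lit 9]) (TrL.leaf [nat_lit 6, nat_lit 7, nat_lit 6, nat_lit 7, nat_lit 6, nat_lit 7])) (TrL.node (TrL.leaf [nat_lit 3, nat_lit 4, nat_lit 3, nat_lit 4, nat_lit 3, nat_lit 4]) (TrL.leaf []))))) (TrL.node (TrL.node (TrL.node (TrL.node (TrL.leaf [nat_lit 7, nat_lit 7]) (TrL.leaf [nat_lit 4, nat_lit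 5, nat_lit 4, nat_lit 5, nat_lit 4, nat_lit 5])) (TrL.node (TrL.leaf [nat_lit 1, nat_lit 8, nat_lit 1, nat_lit 8]) (TrL.leaf [nat_lit 1, nat_lit 2, nat_lit 3, nat_lit 9, nat_lit 8, nat_lit 3, nat_lit 5, nat_lit 4, nat_lit 3, nat_lit 1, nat_lit 2, nat_lit 3, nat_lit 9, nat_lit 8, nat_lit 3, nat_lit 5, nat_lit 4, nat_lit 3, nat_lit 1, nat_lit 2, nat_lit 3, nat_lit 9, nat_lit 8, nat_lit 3, nat_lit 5, nat_lit 4, nat_lit 3, nat_lit 1, nat_lit 2, nat_lit 3, nat_lit 9, nat_lit 8, nat_lit 3, nat_lit 5, nat_lit 4, nat_lit 3, nat_lit 1, nat_lit 2, nat_lit 3, nat_lit 9, nat_lit 8, nat_lit 3, nat_lit 5, nat_lit 4, nat_lit 3, nat_lit 1, nat_lit 2, nat_lit 3, nat_lit 9, nat_lit 8, nat_lit 3, nat_lit 5, nat_lit 4, nat_lit 3, nat_lit 1, nat_lit 2, nat_lit 3, nat_lit 9, nat_lit 8, nat_lit 3, nat_lit 5, nat_lit 4, nat_lit 3, nat_lit 1, nat_lit 2, nat_lit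 3, nat_lit 9, nat_lit 8, nat_lit 3, nat_lit 5, nat_lit 4, nat_lit 3, nat_lit 1, nat_lit 2, nat_lit 3, nat_lit 9, nat_lit 8, nat_lit 3, nat_lit 5, nat_lit 4, nat_lit 3, nat_lit 1, nat_lit 2, nat_lit 3, nat_lit 9, nat_lit 8, nat_lit 3, nat_lit 5, nat_lit 4, nat_lit 3]))) (TrL.node (TrL.node (TrL.leaf [nat_lit 0, nat_lit 8, nat_lit 0, nat_lit 8]) (TrL.leaf [nat_lit 5, nat_lit 9, nat_lit 5, nat_lit 9])) (TrL.node (TrL.leaf [nat_lit 2, nat_lit 7, nat_lit 2, nat_lit 7]) (TrL.leaf [])))) (TrL.node (TrL.node (TrL.node (TrL.leaf [nat_lit 0, nat_lit 3, nat_lit 0, nat_lit 3]) (TrL.leaf [nat_lit 4, nat_lit 9, nat_lit 4, nat_lit 9])) (TrL.node (TrL.leaf [nat_lit 2, nat_lit 4, nat_lit 2, nat_lit 4]) (TrL.leaf [nat_lit 3, nat_lit 8, nat_lit 9, nat_lit 3, nat_lit 2, nat_lit 1, nat_lit 3, nat_lit 4, nat_lit 5, nat_lit 3, nat_lit 8, nat_lit 9, nat_lit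 3, nat_lit 2, nat_lit 1, nat_lit 3, nat_lit 4, nat_lit 5, nat_lit 3, nat_lit 8, nat_lit 9, nat_lit 3, nat_lit 2, nat_lit 1, nat_lit 3, nat_lit 4, nat_lit 5, nat_lit 3, nat_lit 8, nat_lit 9, nat_lit 3, nat_lit 2, nat_lit 1, nat_lit 3, nat_lit 4, nat_lit 5, nat_lit 3, nat_lit 8, nat_lit 9, nat_lit 3, nat_lit 2, nat_lit 1, nat_lit 3, nat_lit 4, nat_lit 5, nat_lit 3, nat_lit 8, nat_lit 9, nat_lit 3, nat_lit 2, nat_lit 1, nat_lit 3, nat_lit 4, nat_lit 5, nat_lit 3, nat_lit 8, nat_lit 9, nat_lit 3, nat_lit 2, nat_lit 1, nat_lit 3, nat_lit 4, nat_lit 5, nat_lit 3, nat_lit 8, nat_lit 9, nat_lit 3, nat_lit 2, nat_lit 1, nat_lit 3, nat_lit 4, nat_lit 5, nat_lit 3, nat_lit 8, nat_lit 9, nat_lit 3, nat_lit 2, nat_lit 1, nat_lit 3, nat_lit 4, nat_lit 5, nat_lit 3, nat_lit 8, nat_lit 9, nat_lit 3, nat_lit 2, nat_lit 1, nat_lit 3, nat_lit 4, nat_lit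 5]))) (TrL.node (TrL.node (TrL.leaf [nat_lit 1, nat_lit 3, nat_lit 1, nat_lit 3]) (TrL.leaf [nat_lit 8, nat_lit 7, nat_lit 8, nat_lit 7])) (TrL.node (TrL.leaf [nat_lit 3, nat_lit 6, nat_lit 3, nat_lit 6]) (TrL.leaf []))))))))
def rotSrc : List (ℕ × ℕ × Bool) := [(0, 0, false), (47, 0, false), (24, 0, false), (89, 0, false), (14, 0, false), (66, 0, false), (35, 0, false), (110, 8, true), (8, 0, false), (56, 0, false), (28, 0, false), (110, 7, false), (18, 0, false), (77, 0, false), (39, 0, false), (111, 0, false), (4, 0, false), (49, 0, false), (26, 0, false), (110, 2, false), (16, 0, false), (68, 0, false), (37, 0, false), (111, 0, false), (12, 0, false), (58, 0, false), (33, 0, false), (110, 2, true), (22, 0, false), (79, 0, false), (45, 0, false), (111, 0, false), (2, 0, false), (48, 0, false), (25, 0, false), (99, 0, false), (15,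 0, false), (67, 0, false), (36, 0, false), (111, 0, false), (11, 0, false), (57, 0, false), (29, 0, false), (110, 0, true), (19, 0, false), (78, 0, false), (44, 0, false), (111, 0, false), (6, 0, false), (55, 0, false), (27, 0, false), (110, 4, false), (17, 0, false), (69, 0, false), (38, 0, false), (111, 0, false), (13, 0, false), (59, 0, false), (34, 0, false), (110, 5, true), (23, 0, false), (88, 0, false), (46, 0, false), (111, 0, false), (1, 0, false), (47, 1, false), (24, 1, false), (89, 1, false), (14, 1, false), (66, 1, false), (35, 1, false), (111, 0, false), (9, 0, false), (56, 1, false), (28, 1, false), (110, 8, false), (18, 1, false), (77, 1, false), (39, 1, false), (111, 0, false), (5, 0, false), (49, 1, false), (26, 1, false), (110, 3, false), (16, 1, false), (68, 1, false), (37, 1, false), (111, 0, false), (12, 1, false),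 (58, 1, false), (33, 1, false), (110, 3, true), (22, 1, false), (79, 1, false), (45, 1, false), (111, 0, false), (3, 0, false), (48, 1, false), (25, 1, false), (99, 1, false), (15, 1, false), (67, 1, false), (36, 1, false), (111, 0, false), (11, 1, false), (57, 1, false), (29, 1, false), (110, 1, true), (19, 1, false), (78, 1, false), (44, 1, false), (111, 0, false), (7, 0, false), (55, 1, false), (27, 1, false), (110, 6, false), (17, 1, false), (69, 1, false), (38, 1, false), (111, 0, false), (13, 1, false), (59, 1, false), (34, 1, false), (110, 6, true), (23, 1, false), (88, 1, false), (46, 1, false), (111, 0, false)]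
def relWords : List (List ℕ) := [[0, 0], [1, 1], [2, 2], [3, 3], [4, 4], [5, 5], [6, 6], [7, 7], [8, 8], [9, 9], [0, 0], [1, 0, 1, 0, 1, 0], [2, 0, 2, 0], [3, 0, 3, 0], [4, 0, 4, 0], [5, 0, 5, 0], [6, 0, 6, 0], [8, 0, 8, 0], [7, 0, 7, 0], [9, 0, 9, 0], [0, 1, 0, 1, 0, 1], [1, 1], [2, 1, 2, 1, 2, 1], [3, 1, 3, 1], [4, 1, 4, 1], [5, 1, 5, 1], [6, 1, 6, 1], [8, 1, 8, 1], [7, 1, 7, 1], [9, 1, 9, 1], [0, 2, 0, 2], [1, 2, 1, 2, 1, 2], [2, 2], [3, 2, 3, 2, 3, 2], [4, 2, 4, 2], [5, 2, 5, 2], [6, 2, 6, 2], [8, 2, 8, 2], [7, 2, 7, 2], [9, 2, 9, 2], [0, 3, 0, 3], [1, 3, 1, 3], [2, 3, 2, 3, 2, 3], [3, 3], [4, 3, 4, 3, 4, 3], [5, 3, 5, 3], [6, 3, 6, 3], [8, 3, 8, 3, 8, 3], [7, 3, 7, 3], [9, 3, 9, 3], [0, 4, 0, 4], [1, 4, 1, 4], [2, 4, 2, 4], [3, 4, 3, 4, 3, 4], [4, 4], [5, 4, 5, 4, 5, 4], [6, 4, 6, 4], [8, 4, 8, 4], [7, 4, 7, 4], [9, 4, 9, 4], [0,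 5, 0, 5], [1, 5, 1, 5], [2, 5, 2, 5], [3, 5, 3, 5], [4, 5, 4, 5, 4, 5], [5, 5], [6, 5, 6, 5, 6, 5], [8, 5, 8, 5], [7, 5, 7, 5], [9, 5, 9, 5], [0, 6, 0, 6], [1, 6, 1, 6], [2, 6, 2, 6], [3, 6, 3, 6], [4, 6, 4, 6], [5, 6, 5, 6, 5, 6], [6, 6], [8, 6, 8, 6], [7, 6, 7, 6, 7, 6], [9, 6, 9, 6], [0, 8, 0, 8], [1, 8, 1, 8], [2, 8, 2, 8], [3, 8, 3, 8, 3, 8], [4, 8, 4, 8], [5, 8, 5, 8], [6, 8, 6, 8], [8, 8], [7, 8, 7, 8], [9, 8, 9, 8, 9, 8], [0, 7, 0, 7], [1, 7, 1, 7], [2, 7, 2, 7], [3, 7, 3, 7], [4, 7, 4, 7], [5, 7, 5, 7], [6, 7, 6, 7, 6, 7], [8, 7, 8, 7], [7, 7], [9, 7, 9, 7], [0, 9, 0, 9], [1, 9, 1, 9], [2, 9, 2, 9], [3, 9, 3, 9], [4, 9, 4, 9], [5, 9, 5, 9], [6, 9, 6, 9], [8, 9, 8, 9, 8, 9], [7, 9, 7, 9], [9, 9], [9, 8, 3, 5, 4, 3, 1, 2, 3, 9, 8, 3, 5, 4, 3, 1, 2, 3, 9, 8, 3, 5, 4, 3, 1, 2, 3, 9, 8, 3, 5, 4, 3, 1, 2, 3, 9, 8, 3, 5, 4, 3, 1,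 2, 3, 9, 8, 3, 5, 4, 3, 1, 2, 3, 9, 8, 3, 5, 4, 3, 1, 2, 3, 9, 8, 3, 5, 4, 3, 1, 2, 3, 9, 8, 3, 5, 4, 3, 1, 2, 3, 9, 8, 3, 5, 4, 3, 1, 2, 3]]
def subsW : List (List ℕ) := [[nat_lit 0], [nat_lit 1], [nat_lit 2], [nat_lit 3], [nat_lit 4], [nat_lit 5], [nat_lit 6], [nat_lit 8], [nat_lit 9]]
def relPairs : List (List ℕ × List ℕ) := [([nat_lit 1, nat_lit 0, nat_lit 1], [nat_lit 0, nat_lit 1, nat_lit 0]), ([nat_lit 2, nat_lit 0], [nat_lit 0, nat_lit 2]), ([nat_lit 3, nat_lit 0], [nat_lit 0, nat_lit 3]), ([nat_lit 4, nat_lit 0], [nat_lit 0, nat_lit 4]), ([nat_lit 5, nat_lit 0], [nat_lit 0, nat_lit 5]), ([nat_lit 6, nat_lit 0], [nat_lit 0, nat_lit 6]), ([nat_lit 8, nat_lit 0], [nat_lit 0, nat_lit 8]), ([nat_lit 7, nat_lit 0], [nat_lit 0, nat_lit 7]), ([nat_lit 9, nat_lit 0], [nat_lit 0, nat_lit 9]), ([nat_lit 2, nat_lit 1, nat_lit 2], [nat_lit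 1, nat_lit 2, nat_lit 1]), ([nat_lit 3, nat_lit 1], [nat_lit 1, nat_lit 3]), ([nat_lit 4, nat_lit 1], [nat_lit 1, nat_lit 4]), ([nat_lit 5, nat_lit 1], [nat_lit 1, nat_lit 5]), ([nat_lit 6, nat_lit 1], [nat_lit 1, nat_lit 6]), ([nat_lit 8, nat_lit 1], [nat_lit 1, nat_lit 8]), ([nat_lit 7, nat_lit 1], [nat_lit 1, nat_lit 7]), ([nat_lit 9, nat_lit 1], [nat_lit 1, nat_lit 9]), ([nat_lit 3, nat_lit 2, nat_lit 3], [nat_lit 2, nat_lit 3, nat_lit 2]), ([nat_lit 4, nat_lit 2], [nat_lit 2, nat_lit 4]), ([nat_lit 5, nat_lit 2], [nat_lit 2, nat_lit 5]), ([nat_lit 6, nat_lit 2], [nat_lit 2, nat_lit 6]), ([nat_lit 8, nat_lit 2], [nat_lit 2, nat_lit 8]), ([nat_lit 7, nat_lit 2], [nat_lit 2, nat_lit 7]), ([nat_lit 9, nat_lit 2], [nat_lit 2, nat_lit 9]), ([nat_lit 4, nat_lit 3, nat_lit 4], [nat_lit 3, nat_lit 4, nat_lit 3]), ([nat_lit 5, nat_lit 3],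 [nat_lit 3, nat_lit 5]), ([nat_lit 6, nat_lit 3], [nat_lit 3, nat_lit 6]), ([nat_lit 8, nat_lit 3, nat_lit 8], [nat_lit 3, nat_lit 8, nat_lit 3]), ([nat_lit 7, nat_lit 3], [nat_lit 3, nat_lit 7]), ([nat_lit 9, nat_lit 3], [nat_lit 3, nat_lit 9]), ([nat_lit 5, nat_lit 4, nat_lit 5], [nat_lit 4, nat_lit 5, nat_lit 4]), ([nat_lit 6, nat_lit 4], [nat_lit 4, nat_lit 6]), ([nat_lit 8, nat_lit 4], [nat_lit 4, nat_lit 8]), ([nat_lit 7, nat_lit 4], [nat_lit 4, nat_lit 7]), ([nat_lit 9, nat_lit 4], [nat_lit 4, nat_lit 9]), ([nat_lit 6, nat_lit 5, nat_lit 6], [nat_lit 5, nat_lit 6, nat_lit 5]), ([nat_lit 8, nat_lit 5], [nat_lit 5, nat_lit 8]), ([nat_lit 7, nat_lit 5], [nat_lit 5, nat_lit 7]), ([nat_lit 9, nat_lit 5], [nat_lit 5, nat_lit 9]), ([nat_lit 8, nat_lit 6], [nat_lit 6, nat_lit 8]), ([nat_lit 7, nat_lit 6, nat_lit 7], [nat_lit 6, nat_lit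 7, nat_lit 6]), ([nat_lit 9, nat_lit 6], [nat_lit 6, nat_lit 9]), ([nat_lit 7, nat_lit 8], [nat_lit 8, nat_lit 7]), ([nat_lit 9, nat_lit 8, nat_lit 9], [nat_lit 8, nat_lit 9, nat_lit 8]), ([nat_lit 9, nat_lit 7], [nat_lit 7, nat_lit 9]), ([nat_lit 13, nat_lit 13, nat_lit 13, nat_lit 13, nat_lit 13, nat_lit 13, nat_lit 13, nat_lit 13, nat_lit 13, nat_lit 13], [])]
def macrosW : List (List ℕ) := [[nat_lit 9, nat_lit 8, nat_lit 3, nat_lit 5, nat_lit 4, nat_lit 3, nat_lit 1, nat_lit 2, nat_lit 3]]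

noncomputable def U : UData where
  N := nat_lit 65317
  L := nat_lit 10
  F := nat_lit 6
  TB := nat_lit 16
  FW := nat_lit 35
  JW := nat_lit 26
  mT := nat_lit 65535
  mF := nat_lit 34359738367
  mJ := nat_lit 67108863
  row := getRow tU (nat_lit 5) (nat_lit 31) (nat_lit 420) (nat_lit 0xfffffffffffffffffffffffffffffffffffffffffffffffffffffffffffffffffffffffffffffffffffffffffffffffffffffffff)
  jrow := getRow tJ (nat_lit 5) (nat_lit 31) (nat_lit 286) (nat_lit 0x3fffffffffffffffffffffffffffffffffffffffffffffffffffffffffffffffffffffff)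
  rot := tR.get
  sub := fun h => subsW.getD h []

noncomputable def P : LData where
  n := nat_lit 31671
  L := nat_lit 10
  AB := nat_lit 15
  mA := nat_lit 32767
  arow := getRow tA (nat_lit 6) (nat_lit 63) (nat_lit 210) (nat_lit 0x3ffffffffffffffffffffffffffffffffffffffffffffffffffff)
  ivl := [nat_lit 0, nat_lit 1, nat_lit 2, nat_lit 3, nat_lit 4, nat_lit 5, nat_lit 6, nat_lit 7, nat_lit 8, nat_lit 9]
  relPairs := relPairs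
  macros := macrosW
  subs := subsW
  roots := []

end Cfsg.Agent.Lib.Helper35Y5b
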