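import Cfsg.Agent.Lib.Helper61Zass

set_option autoImplicit false
set_option linter.unusedVariables false
set_option linter.unusedSectionVars false

namespace Cfsg.Agent.Lib.Helper8CA

open Cfsg.Agent.Lib.Helper61Zass

variable {L : Type*} [Group L] [Finite L]

theorem conjSet_subset (A : Subgroup L) : conjSet A ⊆ ({1} : Set L)ᶜ := by
  rintro z ⟨g, y, hy, hy1, rfl⟩ h
  apply hy1
  have h' : g * y * g⁻¹ = 1 := h
  have : y = g⁻¹ * (g * y * g⁻¹) * g := by group
  rw [this, h']; group

theorem ncard_compl_one : (({1} : Set L)ᶜ).ncard + 1 = Nat.card L := by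
  have := Set.ncard_add_ncard_compl ({1} : Set L)
  rw [Set.ncard_singleton] at this
  omega

/-- a finite group in which commuting is transitive on non-identity elements and in which
centralisers are self-normalising is abelian -/
theorem abelian_of_CT_SN
    (hCT : ∀ x y z : L, y ≠ 1 → Commute x y → Commute y z → Commute x z)
    (hSN : ∀ x g : L, x ≠ 1 → Commute (g * x * g⁻¹) x → Commute g x) (a b : L) :
    Commute a b := by
  by_contra hab
  have ha1 : a ≠ 1 := by
    rintro rfl
    exact hab (Commute.one_left b)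
  have key : ∀ x : L, x ≠ 1 →
      (conjSet (Subgroup.centralizer ({x} : Set L))).ncard *
        Nat.card (Subgroup.centralizer ({x} : Set L))
        = Nat.card L * (Nat.card (Subgroup.centralizer ({x} : Set L)) - 1) := by
    intro x hx
    have hin : ∀ y ∈ Subgroup.centralizer ({x} : Set L), y ≠ 1 → ∀ g : L,
        g * y * g⁻¹ ∈ Subgroup.centralizer ({x} : Set L) →
        g ∈ Subgroup.centralizer ({x} : Set L) := by
      intro y hy hy1 g hg
      rw [mem_cent] at hy hg ⊢
      have h1 : Commute (g * y * g⁻¹) y := hCT _ x _ hx hg hy.symm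
      have h2 : Commute g y := hSN y g hy1 h1
      exact hCT _ y _ hy1 h2 hy
    have hN : Subgroup.normalizer ((Subgroup.centralizer ({x} : Set L) : Subgroup L) : Set L)
        = Subgroup.centralizer ({x} : Set L) := by
      apply le_antisymm
      · intro g hg
        exact hin x (mem_cent.2 (Commute.refl x)) hx g
          ((Subgroup.mem_normalizer_iff.1 hg x).1 (mem_cent.2 (Commute.refl x)))
      · exact Subgroup.le_normalizer
    have h := card_conjSet (Subgroup.centralizer ({x} : Set L))
      (fun y hy hy1 g hg => Subgroup.le_normalizer (hin y hy hy1 g hg))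
    rw [hN, Nat.card_coe_set_eq] at h
    exact h
  have two_le : ∀ x : L, x ≠ 1 → 2 ≤ Nat.card (Subgroup.centralizer ({x} : Set L)) := by
    intro x hx
    by_contra hlt
    have hpos : 0 < Nat.card (Subgroup.centralizer ({x} : Set L)) := Nat.card_pos
    have h1 : Nat.card (Subgroup.centralizer ({x} : Set L)) = 1 := by omega
    rw [Subgroup.card_eq_one] at h1
    have : x ∈ Subgroup.centralizer ({x} : Set L) := mem_cent.2 (Commute.refl x)
    rw [h1, Subgroup.mem_bot] at this
    exact hx this
  have half : ∀ x : L, x ≠ 1 →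
      Nat.card L ≤ 2 * (conjSet (Subgroup.centralizer ({x} : Set L))).ncard := by
    intro x hx
    have h1 := key x hx
    have h2 := two_le x hx
    obtain ⟨c, hc⟩ : ∃ c, Nat.card (Subgroup.centralizer ({x} : Set L)) = c + 2 :=
      ⟨_, (Nat.sub_add_cancel h2).symm⟩
    rw [hc] at h1
    have e : c + 2 - 1 = c + 1 := by omega
    rw [e] at h1
    by_contra hlt
    push Not at hlt
    nlinarith
  have hn := ncard_compl_one (L := L)
  -- an element outside the conjugates of `C(a)`
  obtain ⟨y, hy1, hy⟩ : ∃ y : L, y ≠ 1 ∧ y ∉ conjSet (Subgroup.centralizer ({a} : Set L)) := by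
    by_contra hcon
    push Not at hcon
    have heq : conjSet (Subgroup.centralizer ({a} : Set L)) = ({1} : Set L)ᶜ :=
      Set.Subset.antisymm (conjSet_subset _) (fun z hz => hcon z hz)
    have h1 := key a ha1
    rw [heq] at h1
    have h2 := two_le a ha1
    have htop : Nat.card (Subgroup.centralizer ({a} : Set L)) = Nat.card L := by
      obtain ⟨c, hc⟩ : ∃ c, Nat.card (Subgroup.centralizer ({a} : Set L)) = c + 1 :=
        ⟨_, (Nat.sub_add_cancel (by omega : 1 ≤ _)).symm⟩
      rw [hc] at h1 ⊢
      rw [Nat.add_sub_cancel, ← hn] at h1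
      rw [← hn]
      nlinarith
    have := Subgroup.eq_top_of_card_eq _ htop
    have hb : b ∈ Subgroup.centralizer ({a} : Set L) := this ▸ Subgroup.mem_top b
    exact hab (mem_cent.1 hb).symm
  have hdisj : Disjoint (conjSet (Subgroup.centralizer ({a} : Set L)))
      (conjSet (Subgroup.centralizer ({y} : Set L))) := by
    rw [Set.disjoint_left]
    rintro z ⟨g, u, hu, hu1, rfl⟩ ⟨h, v, hv, hv1, e⟩
    apply hy
    rw [mem_cent] at hu hv
    have hz1 : g * u * g⁻¹ ≠ 1 := by
      intro h'
      apply hu1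
      have : u = g⁻¹ * (g * u * g⁻¹) * g := by group
      rw [this, h']; group
    have c1 : Commute (g * a * g⁻¹) (g * u * g⁻¹) := conj_commute.2 hu.symm
    have c2 : Commute (g * u * g⁻¹) (h * y * h⁻¹) := by
      rw [e]; exact conj_commute.2 hv
    have c3 : Commute (g * a * g⁻¹) (h * y * h⁻¹) := hCT _ _ _ hz1 c1 c2
    -- so `y` is conjugate into `C(a)`
    refine ⟨h⁻¹ * g, g⁻¹ * h * y * h⁻¹ * g, ?_, ?_, by group⟩
    · rw [mem_cent]
      have c4 : Commute (g⁻¹ * (h * y * h⁻¹) * (g⁻¹)⁻¹) (g⁻¹ * (g * a * g⁻¹) * (g⁻¹)⁻¹) :=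
        conj_commute.2 c3.symm
      have e1 : g⁻¹ * (h * y * h⁻¹) * (g⁻¹)⁻¹ = g⁻¹ * h * y * h⁻¹ * g := by group
      have e2 : g⁻¹ * (g * a * g⁻¹) * (g⁻¹)⁻¹ = a := by group
      rwa [e1, e2] at c4
    · intro h'
      apply hy1
      have : y = h⁻¹ * g * (g⁻¹ * h * y * h⁻¹ * g) * g⁻¹ * h := by group
      rw [this, h']; group
  have hun := Set.ncard_union_eq hdisj (Set.toFinite _) (Set.toFinite _)
  have hle : (conjSet (Subgroup.centralizer ({a} : Set L)) ∪
      conjSet (Subgroup.centralizer ({y} : Set L))).ncard ≤ (({1} : Set L)ᶜ).ncard :=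
    Set.ncard_le_ncard (Set.union_subset (conjSet_subset _) (conjSet_subset _)) (Set.toFinite _)
  have h1 := half a ha1
  have h2 := half y hy1
  omega

end Cfsg.Agent.Lib.Helper8CA
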