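import Cfsg.Agent.Lib.Helper61Zass
import Cfsg.Agent.Lib.Helper8Irr

set_option autoImplicit false
set_option linter.unusedVariables false
set_option linter.unusedSectionVars false
set_option linter.unusedSimpArgs false

namespace Cfsg.Agent.Lib.Helper61Zass2

open Cfsg.Agent.Lib.Helper61Zass

variable {G : Type*} [Group G] [Finite G] {O : Type*} [Finite O] [MulAction G O] {q : ℕ}

theorem pow_inj (D : ZData G O q) {x : G} (hx : Good q x) :
    ∀ i < 4, ∀ j < 4, x ^ (q ^ i) = x ^ (q ^ j) → i = j := by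
  obtain ⟨p, hp, hpq, hxp⟩ := hx
  have : Fact p.Prime := ⟨hp⟩
  have hp2 : p ≠ 2 := by
    have := prime_ge D hp hpq
    omega
  have key : ∀ i ≤ 4, ∀ j ≤ i, i < 4 → x ^ (q ^ i) = x ^ (q ^ j) → i = j := by
    intro i hi j hj hi4 hij
    rw [pow_eq_pow_iff_modEq, hxp] at hij
    rcases Cfsg.Agent.Lib.Helper8Irr.arith hp2 hpq hi hj hij with h2 | ⟨h2, _⟩
    · exact h2
    · omega
  intro i hi j hj hij
  rcases le_total j i with h | h
  · exact key i hi.le j h hi hij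
  · exact (key j hj.le i h hj hij.symm).symm

theorem conj_pow_pow {x g : G} (hg : g * x * g⁻¹ = x ^ q) (i : ℕ) :
    g ^ i * x * (g ^ i)⁻¹ = x ^ (q ^ i) := by
  induction i with
  | zero => simp
  | succ i ih =>
    have e1 : g ^ (i + 1) * x * (g ^ (i + 1))⁻¹ = g * (g ^ i * x * (g ^ i)⁻¹) * g⁻¹ := by
      rw [pow_succ']; group
    rw [e1, ih, ← conj_pow, hg, ← pow_mul, ← pow_succ']

theorem card_normalizer_eq (D : ZData G O q) {x : G} (hx : Good q x) :
    Nat.card (Subgroup.normalizer ((tor x : Subgroup G) : Set G)) = Nat.card (tor x) * 4 := by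
  apply le_antisymm (card_normalizer_le_four D hx)
  obtain ⟨g, hg⟩ := exists_conj_pow D hx
  have hxA : x ∈ tor x := mem_cent.2 (Commute.refl x)
  have hgN : g ∈ Subgroup.normalizer ((tor x : Subgroup G) : Set G) := by
    apply ti D hx x hxA (good_ne_one hx) g
    rw [hg]
    exact Subgroup.pow_mem _ hxA _
  let f : tor x × Fin 4 → Subgroup.normalizer ((tor x : Subgroup G) : Set G) := fun p =>
    ⟨g ^ (p.2 : ℕ) * p.1, Subgroup.mul_mem _ (Subgroup.pow_mem _ hgN _)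
      (Subgroup.le_normalizer p.1.2)⟩
  have hf : Function.Injective f := by
    rintro ⟨y, i⟩ ⟨y', j⟩ h
    have h1 : g ^ (i : ℕ) * (y : G) = g ^ (j : ℕ) * (y' : G) := congrArg Subtype.val h
    have hc : ∀ (y : tor x) (i : ℕ), (g ^ i * (y : G)) * x * (g ^ i * (y : G))⁻¹ = x ^ (q ^ i) := by
      intro y i
      have e1 : (g ^ i * (y : G)) * x * (g ^ i * (y : G))⁻¹
          = g ^ i * ((y : G) * x * (y : G)⁻¹) * (g ^ i)⁻¹ := by group
      rw [e1, (mem_cent.1 y.2).eq, mul_inv_cancel_right, conj_pow_pow hg]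
    have h2 : x ^ (q ^ (i : ℕ)) = x ^ (q ^ (j : ℕ)) := by
      rw [← hc y i, ← hc y' j, h1]
    have h3 : (i : ℕ) = j := pow_inj D hx i i.2 j j.2 h2
    have h4 : i = j := Fin.ext h3
    subst h4
    have h5 : (y : G) = y' := mul_left_cancel h1
    rw [Subtype.ext h5]
  have := Nat.card_le_card_of_injective f hf
  rwa [Nat.card_prod, Nat.card_eq_fintype_card (α := Fin 4), Fintype.card_fin] at this

theorem prime_dvd_of_dvd_card_tor (D : ZData G O q) {x : G} (hx : Good q x) {l : ℕ} (hl : l.Prime)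
    (hdvd : l ∣ Nat.card (tor x)) :
    l ∣ q ^ 2 + 1 ∧ ∃ y : G, Commute y x ∧ orderOf y = l := by
  have : Fact l.Prime := ⟨hl⟩
  obtain ⟨y, hy⟩ := exists_prime_orderOf_dvd_card' l hdvd
  have hy' : orderOf (y : G) = l := by rw [Subgroup.orderOf_coe, hy]
  have hy1 : (y : G) ≠ 1 := by
    intro h
    rw [h, orderOf_one] at hy'
    exact hl.one_lt.ne hy'
  have hc : Commute (y : G) x := mem_cent.1 y.2
  obtain ⟨p, hp, hpq, hyp⟩ := good_of_prime_fpf D hl hy' (fpf_of_commute_good D hx hy1 hc)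
  have : p = l := by rw [← hyp, hy']
  subst this
  exact ⟨hpq, y, hc, hy'⟩

theorem card_tor_dvd (D : ZData G O q) {x : G} (hx : Good q x) :
    Nat.card (tor x) ∣ q ^ 2 + 1 := by
  have h3 : Nat.card (tor x) ∣ (q ^ 2 * (q - 1)) * (q ^ 2 + 1) := by
    have : (q ^ 2 * (q - 1)) * (q ^ 2 + 1) = Nat.card G := by rw [D.card_G]; ring
    rw [this]
    exact Subgroup.card_subgroup_dvd_card _
  apply Nat.Coprime.dvd_of_dvd_mul_left _ h3
  apply Nat.coprime_of_dvd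
  intro l hl h1 h2
  exact coprime_aux D hl (prime_dvd_of_dvd_card_tor D hx hl h1).1 h2

theorem coprime_tor (D : ZData G O q) {x₁ x₂ : G} (hx₁ : Good q x₁) (hx₂ : Good q x₂)
    (hd : Disjoint (conjSet (tor x₁)) (conjSet (tor x₂))) :
    Nat.Coprime (Nat.card (tor x₁)) (Nat.card (tor x₂)) := by
  apply Nat.coprime_of_dvd
  intro l hl h1 h2
  have : Fact l.Prime := ⟨hl⟩
  obtain ⟨_, y₁, hc₁, ho₁⟩ := prime_dvd_of_dvd_card_tor D hx₁ hl h1
  obtain ⟨_, y₂, hc₂, ho₂⟩ := prime_dvd_of_dvd_card_tor D hx₂ hl h2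
  have hy₁ : y₁ ≠ 1 := by
    rintro rfl
    rw [orderOf_one] at ho₁
    exact hl.one_lt.ne ho₁
  have hy₂ : y₂ ≠ 1 := by
    rintro rfl
    rw [orderOf_one] at ho₂
    exact hl.one_lt.ne ho₂
  have hp₁ : IsPGroup l (Subgroup.zpowers y₁) := by
    apply IsPGroup.of_card (n := 1)
    rw [Nat.card_zpowers, ho₁, pow_one]
  have hp₂ : IsPGroup l (Subgroup.zpowers y₂) := by
    apply IsPGroup.of_card (n := 1)
    rw [Nat.card_zpowers, ho₂, pow_one]
  obtain ⟨P, hP⟩ := hp₁.exists_le_sylow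
  obtain ⟨P', hP'⟩ := hp₂.exists_le_sylow
  obtain ⟨g, hg⟩ := MulAction.exists_smul_eq G P P'
  have hy₁P : y₁ ∈ (P : Subgroup G) := hP (Subgroup.mem_zpowers y₁)
  have hy₂P : g⁻¹ * y₂ * g ∈ (P : Subgroup G) := by
    have h3 : y₂ ∈ (P' : Subgroup G) := hP' (Subgroup.mem_zpowers y₂)
    rw [← hg, Sylow.coe_subgroup_smul, Subgroup.mem_pointwise_smul_iff_inv_smul_mem,
      ← map_inv, MulAut.smul_def, MulAut.conj_apply, inv_inv] at h3
    exact h3
  have hnt : Nontrivial P := ⟨⟨⟨y₁, hy₁P⟩, 1, fun h => hy₁ (congrArg Subtype.val h)⟩⟩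
  have hcnt : Nontrivial (Subgroup.center P) := P.isPGroup'.center_nontrivial
  obtain ⟨u, hu⟩ := exists_ne (1 : Subgroup.center P)
  have hu1 : ((u : P) : G) ≠ 1 := by
    intro h
    apply hu
    apply Subtype.ext
    apply Subtype.ext
    exact h
  have hcomm : ∀ v : G, v ∈ (P : Subgroup G) → Commute ((u : P) : G) v := by
    intro v hv
    have := Subgroup.mem_center_iff.1 u.2 ⟨v, hv⟩
    exact (congrArg Subtype.val this).symm
  have hu₁ : Commute ((u : P) : G) x₁ := (commute_iff D hx₁ hy₁ hc₁ _).1 (hcomm y₁ hy₁P)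
  have hu₂ : Commute (g * ((u : P) : G) * g⁻¹) x₂ := by
    apply (commute_iff D hx₂ hy₂ hc₂ _).1
    have h4 := hcomm _ hy₂P
    have h5 : y₂ = g * (g⁻¹ * y₂ * g) * g⁻¹ := by group
    rw [h5, conj_commute]
    exact h4
  have hu1' : g * ((u : P) : G) * g⁻¹ ≠ 1 := by
    intro h
    apply hu1
    have : ((u : P) : G) = g⁻¹ * (g * ((u : P) : G) * g⁻¹) * g := by group
    rw [this, h]; group
  have m1 : g * ((u : P) : G) * g⁻¹ ∈ conjSet (tor x₁) := ⟨g, _, mem_cent.2 hu₁, hu1, rfl⟩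
  have m2 : g * ((u : P) : G) * g⁻¹ ∈ conjSet (tor x₂) := ⟨1, _, mem_cent.2 hu₂, hu1', by group⟩
  exact Set.disjoint_left.1 hd m1 m2

theorem star {q A B c₁ c₂ : ℕ} (hq : 8 ≤ q) (hA : 1 ≤ A) (hB : 1 ≤ B)
    (e1 : c₁ * (A * 4) = q ^ 2 * (q ^ 2 + 1) * (q - 1) * (A - 1))
    (e2 : c₂ * (B * 4) = q ^ 2 * (q ^ 2 + 1) * (q - 1) * (B - 1))
    (e3 : 2 * (c₁ + c₂) + q ^ 2 * (q ^ 2 - 1) = q ^ 2 * (q ^ 2 + 1) * (q - 1)) :
    (q ^ 2 + 1) * (A + B) = 2 * (q + 1) * (A * B) := by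
  obtain ⟨s, rfl⟩ : ∃ s, q = s + 1 := ⟨q - 1, by omega⟩
  obtain ⟨a, rfl⟩ : ∃ a, A = a + 1 := ⟨A - 1, by omega⟩
  obtain ⟨b, rfl⟩ : ∃ b, B = b + 1 := ⟨B - 1, by omega⟩
  have e4 : (s + 1) ^ 2 - 1 = s * (s + 2) := by
    have : (s + 1) ^ 2 = s * (s + 2) + 1 := by ring
    rw [this, Nat.add_sub_cancel]
  rw [e4] at e3
  simp only [Nat.add_sub_cancel] at e1 e2 e3
  have hpos : 0 < (s + 1) ^ 2 * s := by
    have : 0 < s := by omega
    positivity
  apply Nat.eq_of_mul_eq_mul_left hpos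
  zify at e1 e2 e3 ⊢
  linear_combination ((b + 1 : ℤ)) * e1 + (a + 1 : ℤ) * e2 - 2 * (a + 1 : ℤ) * (b + 1) * e3

theorem solve {q r A B : ℕ} (hq : 8 ≤ q) (hr : r ^ 2 = 2 * q) (heven : 2 ∣ q)
    (hs : (q ^ 2 + 1) * (A + B) = 2 * (q + 1) * (A * B)) (hAB : A * B ∣ q ^ 2 + 1) :
    (A = q + r + 1 ∧ B + r = q + 1) ∨ (B = q + r + 1 ∧ A + r = q + 1) := by
  obtain ⟨c, hc⟩ := hAB
  have hABpos : 0 < A * B := by
    rcases Nat.eq_zero_or_pos (A * B) with h | h
    · rw [h] at hc; omega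
    · exact h
  have h1 : c * (A + B) = 2 * (q + 1) := by
    apply Nat.eq_of_mul_eq_mul_left hABpos
    calc A * B * (c * (A + B)) = (A * B * c) * (A + B) := by ring
      _ = (q ^ 2 + 1) * (A + B) := by rw [← hc]
      _ = 2 * (q + 1) * (A * B) := hs
      _ = _ := by ring
  have hc1 : c ∣ q ^ 2 + 1 := ⟨A * B, by rw [hc]; ring⟩
  have hc2 : c ∣ 2 * (q + 1) := ⟨A + B, h1.symm⟩
  have hodd : ¬ 2 ∣ q ^ 2 + 1 := by
    obtain ⟨t, rfl⟩ := heven
    have : (2 * t) ^ 2 + 1 = 2 * (2 * t ^ 2) + 1 := by ring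
    rw [this]; omega
  have hcop : Nat.Coprime c 2 := by
    rw [Nat.coprime_comm, Nat.Prime.coprime_iff_not_dvd Nat.prime_two]
    intro h
    exact hodd (h.trans hc1)
  have hc3 : c ∣ q + 1 := hcop.dvd_of_dvd_mul_left hc2
  have hc4 : c ∣ 2 := by
    have h2 : c ∣ (q + 1) * (q - 1) := Dvd.dvd.mul_right hc3 _
    have h3 : (q + 1) * (q - 1) + 2 = q ^ 2 + 1 := by
      obtain ⟨s, rfl⟩ : ∃ s, q = s + 1 := ⟨q - 1, by omega⟩
      simp only [Nat.add_sub_cancel]; ring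
    rw [← h3] at hc1
    exact (Nat.dvd_add_right h2).1 hc1
  have hc5 : c = 1 := by
    have := Nat.le_of_dvd two_pos hc4
    interval_cases c
    · simp at hc4
    · rfl
    · exact absurd hcop (by norm_num)
  subst hc5
  rw [one_mul] at h1
  rw [mul_one] at hc
  have h4 : ((A : ℤ) - B) ^ 2 = (2 * r) ^ 2 := by
    have e1 : (A : ℤ) + B = 2 * (q + 1) := by exact_mod_cast h1
    have e2 : (q : ℤ) ^ 2 + 1 = A * B := by exact_mod_cast hc
    have e3 : (r : ℤ) ^ 2 = 2 * q := by exact_mod_cast hr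
    have : ((A : ℤ) - B) ^ 2 = (A + B) ^ 2 - 4 * (A * B) := by ring
    rw [this, e1, ← e2]
    linear_combination (-4 : ℤ) * e3
  rcases sq_eq_sq_iff_eq_or_eq_neg.1 h4 with h5 | h5
  · left
    constructor <;> omega
  · right
    constructor <;> omega

theorem exists_good (D : ZData G O q) : ∃ x : G, Good q x := by
  have hq := q_ge D
  have h1 : q ^ 2 + 1 ≠ 1 := by
    have : 0 < q ^ 2 := by positivity
    omega
  obtain ⟨p, hp, hpq⟩ := Nat.exists_prime_and_dvd h1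
  have : Fact p.Prime := ⟨hp⟩
  have h2 : p ∣ Nat.card G := by
    rw [D.card_G]
    exact Dvd.dvd.mul_right (Dvd.dvd.mul_left hpq _) _
  obtain ⟨x, hx⟩ := exists_prime_orderOf_dvd_card' p h2
  exact ⟨x, p, hp, hpq, hx⟩

theorem card_eq4 (D : ZData G O q) {x : G} (hx : Good q x) :
    (conjSet (tor x)).ncard * (Nat.card (tor x) * 4)
      = q ^ 2 * (q ^ 2 + 1) * (q - 1) * (Nat.card (tor x) - 1) := by
  rw [← card_normalizer_eq D hx, ← D.card_G]
  exact card_eq D hx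

theorem two_K_lt (hq : 8 ≤ q) : 2 * (q ^ 2 * (q ^ 2 - 1)) < q ^ 2 * (q ^ 2 + 1) * (q - 1) := by
  obtain ⟨s, rfl⟩ : ∃ s, q = s + 1 := ⟨q - 1, by omega⟩
  have e4 : (s + 1) ^ 2 - 1 = s * (s + 2) := by
    have : (s + 1) ^ 2 = s * (s + 2) + 1 := by ring
    rw [this, Nat.add_sub_cancel]
  rw [e4, Nat.add_sub_cancel]
  have hpos : 0 < (s + 1) ^ 2 * s := by
    have : 0 < s := by omega
    positivity
  calc 2 * ((s + 1) ^ 2 * (s * (s + 2))) = (s + 1) ^ 2 * s * (2 * (s + 2)) := by ring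
    _ < (s + 1) ^ 2 * s * ((s + 1) ^ 2 + 1) := by
        apply Nat.mul_lt_mul_of_pos_left _ hpos
        nlinarith
    _ = _ := by ring

theorem two_tori (D : ZData G O q) {r : ℕ} (hr : r ^ 2 = 2 * q) :
    ∃ x₁ x₂ : G, Good q x₁ ∧ Good q x₂ ∧ Nat.card (tor x₁) = q + r + 1 ∧
      Nat.card (tor x₂) + r = q + 1 ∧
      (∀ z : G, Fpf O z → z ∈ conjSet (tor x₁) ∨ z ∈ conjSet (tor x₂)) := by
  have hq := q_ge D
  have hG := card_G_pos D
  have hF := ncard_fpf D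
  have hK := two_K_lt hq
  rw [← D.card_G] at hK
  obtain ⟨x₁, hx₁⟩ := exists_good D
  have e1 := card_eq4 D hx₁
  have a1 := five_le_card_tor D hx₁
  -- a fixed point free element outside the first family
  obtain ⟨z, hz, hzn⟩ : ∃ z : G, Fpf O z ∧ z ∉ conjSet (tor x₁) := by
    by_contra hcon
    push Not at hcon
    have hEq : conjSet (tor x₁) = {z : G | Fpf O z} :=
      Set.Subset.antisymm (conjSet_subset_fpf D hx₁) hcon
    rw [hEq, ← D.card_G] at e1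
    set n0 := ({z : G | Fpf O z} : Set G).ncard with hn0
    have h1 : n0 * (Nat.card (tor x₁) * 4) < Nat.card G * Nat.card (tor x₁) := by
      rw [e1]
      apply Nat.mul_lt_mul_of_pos_left _ hG
      omega
    have h2 : 4 * n0 < Nat.card G := by
      have h3 : (4 * n0) * Nat.card (tor x₁) < Nat.card G * Nat.card (tor x₁) := by
        calc (4 * n0) * Nat.card (tor x₁) = n0 * (Nat.card (tor x₁) * 4) := by ring
          _ < _ := h1
      exact Nat.lt_of_mul_lt_mul_right h3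
    omega
  obtain ⟨x₂, hx₂, _, hx₂n⟩ := exists_second D hz
  have hd := conjSet_disjoint D hx₁ hx₂ (hx₂n x₁ hx₁ hzn)
  have e2 := card_eq4 D hx₂
  have a2 := five_le_card_tor D hx₂
  have hall : ∀ z : G, Fpf O z → z ∈ conjSet (tor x₁) ∨ z ∈ conjSet (tor x₂) := by
    by_contra hcon
    push Not at hcon
    obtain ⟨w, hw, hw1, hw2⟩ := hcon
    obtain ⟨x₃, hx₃, _, hx₃n⟩ := exists_second D hw
    have hd13 := conjSet_disjoint D hx₁ hx₃ (hx₃n x₁ hx₁ hw1)
    have hd23 := conjSet_disjoint D hx₂ hx₃ (hx₃n x₂ hx₂ hw2)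
    have h6 := five_mul_ncard_ge D hx₁
    have h7 := five_mul_ncard_ge D hx₂
    have h8 := five_mul_ncard_ge D hx₃
    have h9 : ((conjSet (tor x₁) ∪ conjSet (tor x₂)) ∪ conjSet (tor x₃)).ncard
        ≤ ({z : G | Fpf O z} : Set G).ncard :=
      Set.ncard_le_ncard (Set.union_subset (Set.union_subset (conjSet_subset_fpf D hx₁)
        (conjSet_subset_fpf D hx₂)) (conjSet_subset_fpf D hx₃)) (Set.toFinite _)
    rw [Set.ncard_union_eq (Set.disjoint_union_left.2 ⟨hd13, hd23⟩) (Set.toFinite _)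
      (Set.toFinite _), Set.ncard_union_eq hd (Set.toFinite _) (Set.toFinite _)] at h9
    omega
  have hEq : conjSet (tor x₁) ∪ conjSet (tor x₂) = {z : G | Fpf O z} :=
    Set.Subset.antisymm (Set.union_subset (conjSet_subset_fpf D hx₁) (conjSet_subset_fpf D hx₂))
      (fun z hz => hall z hz)
  rw [← hEq, Set.ncard_union_eq hd (Set.toFinite _) (Set.toFinite _), D.card_G] at hF
  have hs := star hq (by omega) (by omega) e1 e2 hF
  have hdvd : Nat.card (tor x₁) * Nat.card (tor x₂) ∣ q ^ 2 + 1 :=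
    (coprime_tor D hx₁ hx₂ hd).mul_dvd_of_dvd_of_dvd (card_tor_dvd D hx₁) (card_tor_dvd D hx₂)
  rcases solve hq hr (q_even D) hs hdvd with ⟨h1, h2⟩ | ⟨h1, h2⟩
  · exact ⟨x₁, x₂, hx₁, hx₂, h1, h2, hall⟩
  · exact ⟨x₂, x₁, hx₂, hx₁, h1, h2, fun z hz => (hall z hz).symm⟩

end Cfsg.Agent.Lib.Helper61Zass2
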