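import Cfsg.Agent.Lib.Helper61Fix2
import Cfsg.Agent.Lib.Helper61Zass2

set_option autoImplicit false
set_option linter.unusedVariables false
set_option linter.unusedSectionVars false
set_option linter.unusedSimpArgs false

namespace Cfsg.Agent.Lib.Helper61Part

open Cfsg.Agent.Lib.Helper61Zass Cfsg.Agent.Lib.Helper61Fix2 Cfsg.Agent.Lib.Helper61Zass2

variable {G : Type*} [Group G] [Finite G] {O : Type*} [Finite O] [MulAction G O] {q : ℕ}

/-- the centraliser of an element with two fixed points fixes both points -/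
theorem cent_two_fix (D : ZData G O q) {g h : G} (hg : g ≠ 1) {a b : O} (hab : a ≠ b)
    (ga : g • a = a) (gb : g • b = b) (hc : Commute h g) : h • a = a ∧ h • b = b := by
  have hmem : ∀ c : O, g • c = c → c = a ∨ c = b := by
    intro c hc'
    by_contra hcon
    push Not at hcon
    exact hg (D.three_point g a b c hab (Ne.symm hcon.2) (Ne.symm hcon.1) ga gb hc')
  have hinv : ∀ c : O, g • c = c → g • (h • c) = h • c := by
    intro c hc'
    rw [← mul_smul, ← hc.eq, mul_smul, hc']
  by_cases hha : h • a = a
  · refine ⟨hha, ?_⟩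
    rcases hmem _ (hinv b gb) with h1 | h1
    · exfalso
      apply hab
      have : h • b = h • a := by rw [h1, hha]
      exact (MulAction.injective h this).symm
    · exact h1
  · exfalso
    have hab' : h • a = b := by
      rcases hmem _ (hinv a ga) with h1 | h1
      · exact absurd h1 hha
      · exact h1
    have hba' : h • b = a := by
      rcases hmem _ (hinv b gb) with h1 | h1
      · exact h1
      · exfalso
        apply hab
        have : h • a = h • b := by rw [hab', h1]
        exact MulAction.injective h this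
    have h2 : h ^ 2 • a = a := by rw [pow_two, mul_smul, hab', hba']
    by_cases hev : 2 ∣ orderOf h
    · obtain ⟨j, hj⟩ := hev
      have hpos := orderOf_pos h
      have ht : h ^ j ≠ 1 := pow_ne_one_of_lt_orderOf (by omega) (by omega)
      have ht2 : (h ^ j) ^ 2 = 1 := by
        rw [← pow_mul, mul_comm, ← hj, pow_orderOf_eq_one]
      obtain ⟨c, hc1, hu⟩ := invol_fix D ht ht2
      have hgc : g • c = c := by
        apply hu
        rw [← mul_smul, (hc.pow_left j).eq, mul_smul, hc1]
      have hhc : h • c = c := by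
        apply hu
        rw [← mul_smul, ((Commute.refl h).pow_left j).eq, mul_smul, hc1]
      rcases hmem c hgc with rfl | rfl
      · exact hha hhc
      · exact hab (hba'.symm.trans hhc)
    · obtain ⟨j, hj⟩ : ∃ j, orderOf h + 1 = 2 * j := ⟨(orderOf h + 1) / 2, by omega⟩
      have h5 : (h ^ 2) ^ j = h := by
        rw [← pow_mul, ← hj, pow_succ, pow_orderOf_eq_one, one_mul]
      have := pow_fix h2 j
      rw [h5] at this
      exact hha this

/-- an element of odd order with a fixed point has a second one -/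
theorem odd_two_fix (D : ZData G O q) {g : G} (hg : g ≠ 1) (hodd : ¬ 2 ∣ orderOf g) {a : O}
    (ha : g • a = a) : ∃ b : O, b ≠ a ∧ g • b = b := by
  obtain ⟨k, p, hp, hk⟩ := exists_prime_pow hg
  have hk1 : g ^ k ≠ 1 := by
    intro h
    rw [h, orderOf_one] at hk
    exact hp.one_lt.ne hk
  have hp2 : p ≠ 2 := by
    rintro rfl
    apply hodd
    rw [← hk]
    exact orderOf_pow_dvd k
  obtain ⟨b, hba, hb⟩ := two_fix D hp hp2 hk (pow_fix ha k)
  refine ⟨b, hba, ?_⟩
  have hcomm : Commute (g ^ k) g := (Commute.refl g).pow_left k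
  have h1 : g ^ k • (g • b) = g • b := by
    rw [← mul_smul, hcomm.eq, mul_smul, hb]
  by_contra hgb
  have hga : g • b ≠ a := by
    intro h
    apply hba
    have : g • b = g • a := by rw [h, ha]
    exact MulAction.injective g this
  exact hk1 (D.three_point _ a b (g • b) (Ne.symm hba) (Ne.symm hgb) (Ne.symm hga)
    (pow_fix ha k) hb h1)

/-- elements of even order are conjugate into `Q` -/
theorem even_mem_conj_Q (D : ZData G O q) {inf : O} {Q Z : Subgroup G} (E : QData G O q inf Q Z)
    {g : G} (hev : 2 ∣ orderOf g) : ∃ k : G, k⁻¹ * g * k ∈ Q := by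
  obtain ⟨j, hj⟩ := hev
  have hpos := orderOf_pos g
  have ht : g ^ j ≠ 1 := pow_ne_one_of_lt_orderOf (by omega) (by omega)
  have ht2 : (g ^ j) ^ 2 = 1 := by
    rw [← pow_mul, mul_comm, ← hj, pow_orderOf_eq_one]
  obtain ⟨c, hc1, hu⟩ := invol_fix D ht ht2
  have h2t := D.two_trans
  have h1t : MulAction.IsPretransitive G O := MulAction.isPretransitive_of_is_two_pretransitive
  obtain ⟨k, hk⟩ := MulAction.exists_smul_eq G inf c
  refine ⟨k, ?_⟩
  have htZ : k⁻¹ * g ^ j * k ∈ Z := by
    apply E.invol_mem
    · have := conj_pow (a := k⁻¹) (b := g ^ j) (i := 2)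
      rw [inv_inv] at this
      rw [this, ht2]; group
    · rw [mul_smul, mul_smul, hk, hc1, ← hk, inv_smul_smul]
  have ht1 : k⁻¹ * g ^ j * k ≠ 1 := by
    intro h
    apply ht
    have : g ^ j = k * (k⁻¹ * g ^ j * k) * k⁻¹ := by group
    rw [this, h]; group
  apply E.Q_cent _ (E.Z_le htZ) ht1
  have h3 : Commute g (g ^ j) := (Commute.refl g).pow_right j
  have h4 := (conj_commute (g := k⁻¹) (a := g) (b := g ^ j)).2 h3
  rwa [inv_inv] at h4

theorem card_tor_conj (x k : G) : Nat.card (tor (k * x * k⁻¹)) = Nat.card (tor x) := by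
  apply Nat.card_congr
  exact ((MulAut.conj k).toEquiv.subtypeEquiv (fun h => by
    show h ∈ tor x ↔ k * h * k⁻¹ ∈ tor (k * x * k⁻¹)
    rw [mem_cent, mem_cent, conj_commute])).symm

end Cfsg.Agent.Lib.Helper61Part
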