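import Cfsg.Agent.Lib.Helper61SzTori
import Cfsg.Agent.Lib.Helper61Zass2

set_option autoImplicit false
set_option linter.unusedVariables false
set_option linter.unusedSectionVars false
set_option linter.unusedSimpArgs false

namespace Cfsg.Agent.Lib.Helper61SzTori2

open Cfsg Cfsg.Agent.Lib.Helper8Sz Cfsg.Agent.Lib.Helper8Sz2 Cfsg.Agent.Lib.Helper8Sz3
  Cfsg.Agent.Lib.Helper8Sz4 Cfsg.Agent.Lib.Helper8Sz5 Cfsg.Agent.Lib.Helper8Irr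
  Cfsg.Agent.Lib.Helper8Sz6 Cfsg.Agent.Lib.Helper8Sz7 Cfsg.Agent.Lib.Helper61Zass
  Cfsg.Agent.Lib.Helper61Fix2 Cfsg.Agent.Lib.Helper61SzTori Cfsg.Agent.Lib.Helper61Zass2

variable {F : Type*} [Field F] [Fintype F] {m : ℕ} (hF : Fintype.card F = 2 ^ (2 * m + 1))
include hF

theorem tor_cyclic (hm : 1 ≤ m) {x : Sz F m} (hx : Good (2 ^ (2 * m + 1)) x) :
    IsCyclic (tor x) := by
  have D := szData hF hm
  obtain ⟨p, hp, hpq, hxp⟩ := hx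
  have : Fact p.Prime := ⟨hp⟩
  have hp2 : p ≠ 2 := by
    have := prime_ge D hp hpq
    omega
  exact cent_cyclic hF hp2 hpq hxp

theorem tor_cent (hm : 1 ≤ m) {x : Sz F m} (hx : Good (2 ^ (2 * m + 1)) x) :
    ∀ u ∈ tor x, u ≠ 1 → Subgroup.centralizer {u} = tor x := by
  intro u hu hu1
  ext g
  rw [mem_cent, mem_cent]
  exact commute_iff (szData hF hm) hx hu1 (mem_cent.1 hu) g

theorem r_sq : (2 ^ (m + 1)) ^ 2 = 2 * 2 ^ (2 * m + 1) := by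
  rw [← pow_mul, ← pow_succ']
  congr 1
  ring

theorem r_le : 2 ^ (m + 1) ≤ 2 ^ (2 * m + 1) := Nat.pow_le_pow_right (by norm_num) (by omega)

/-- the two exceptional tori -/
theorem sz_two_tori (hm : 1 ≤ m) :
    ∃ x₁ x₂ : Sz F m, Good (2 ^ (2 * m + 1)) x₁ ∧ Good (2 ^ (2 * m + 1)) x₂ ∧
      Nat.card (tor x₁) = 2 ^ (2 * m + 1) + 2 ^ (m + 1) + 1 ∧
      Nat.card (tor x₂) = 2 ^ (2 * m + 1) - 2 ^ (m + 1) + 1 ∧
      (∀ z : Sz F m, Fpf (suzukiOvoid F m) z → z ∈ conjSet (tor x₁) ∨ z ∈ conjSet (tor x₂)) := by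
  obtain ⟨x₁, x₂, h1, h2, h3, h4, h5⟩ := two_tori (szData hF hm) (r_sq hF)
  refine ⟨x₁, x₂, h1, h2, h3, ?_, h5⟩
  have := r_le hF
  omega

end Cfsg.Agent.Lib.Helper61SzTori2
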