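import Cfsg.Agent.Lib.Helper8SzMax
import Cfsg.Agent.Lib.Helper8CA
import Cfsg.Agent.S2238

set_option autoImplicit false
set_option linter.unusedVariables false
set_option linter.unusedSectionVars false
set_option linter.unusedSimpArgs false

namespace Cfsg.Agent.Lib.Helper8SzMax2

open Cfsg Cfsg.Agent.Lib.Helper8Sz Cfsg.Agent.Lib.Helper8Sz2 Cfsg.Agent.Lib.Helper8Sz3
  Cfsg.Agent.Lib.Helper8Sz4 Cfsg.Agent.Lib.Helper8Sz5 Cfsg.Agent.Lib.Helper8Sz7
  Cfsg.Agent.Lib.Helper8Sz8 Cfsg.Agent.Lib.Helper8SzAut Cfsg.Agent.Lib.Helper8SzSub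
  Cfsg.Agent.Lib.Helper8SzMax Cfsg.Agent.Lib.Helper8CA
  Cfsg.Agent.Lib.Helper61Zass Cfsg.Agent.Lib.Helper61Fix2 Cfsg.Agent.Lib.Helper61SzTori
  Cfsg.Agent.Lib.Helper61Zass2 Cfsg.Agent.Lib.Helper61SzTori2 Cfsg.Agent.Lib.Helper61Part

variable {F : Type*} [Field F] [Fintype F] {m : ℕ} (hF : Fintype.card F = 2 ^ (2 * m + 1))

/-- an element of odd order is a power of any of its `2`-power powers -/
theorem exists_pow_pow_eq {G : Type*} [Group G] {g : G} (hodd : ¬ 2 ∣ orderOf g) (j : ℕ) :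
    ∃ e, (g ^ (2 ^ j)) ^ e = g := by
  apply exists_pow_eq_self_of_coprime
  apply Nat.Coprime.pow_left
  rw [Nat.Prime.coprime_iff_not_dvd Nat.prime_two]
  exact hodd

theorem conj_pow_iter {G : Type*} [Group G] {x g : G} {N : ℕ} (hg : g * x * g⁻¹ = x ^ N) (i : ℕ) :
    g ^ i * x * (g ^ i)⁻¹ = x ^ (N ^ i) := by
  induction i with
  | zero => simp
  | succ i ih =>
    have e1 : g ^ (i + 1) * x * (g ^ (i + 1))⁻¹ = g * (g ^ i * x * (g ^ i)⁻¹) * g⁻¹ := by
      rw [pow_succ']; group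
    rw [e1, ih, ← conj_pow, hg, ← pow_mul, ← pow_succ']

include hF

/-- commuting is transitive through a non-identity element of odd order -/
theorem commute_trans (hm : 1 ≤ m) {x y z : Sz F m} (hy : y ≠ 1) (hyo : ¬ 2 ∣ orderOf y)
    (h1 : Commute x y) (h2 : Commute y z) : Commute x z := by
  obtain ⟨hcyc, -⟩ := Cfsg.Agent.S2238.cent_odd hm hF y hy hyo
  have := isMulCommutative_iff.1 (IsCyclic.isMulCommutative
    (α := Subgroup.centralizer ({y} : Set (Sz F m)))) ⟨x, mem_cent.2 h1⟩ ⟨z, mem_cent.2 h2.symm⟩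
  exact congrArg Subtype.val this

/-- odd order elements normalising the centraliser of an odd order element centralise it -/
theorem commute_of_conj_commute (hm : 1 ≤ m) {x g : Sz F m} (hx : x ≠ 1)
    (hxo : ¬ 2 ∣ orderOf x) (hgo : ¬ 2 ∣ orderOf g) (hc : Commute (g * x * g⁻¹) x) :
    Commute g x := by
  have D := szData hF hm
  have E := szQData hF hm
  by_cases hf : Fpf (suzukiOvoid F m) x
  · obtain ⟨k, p, hp, hk⟩ := exists_prime_pow hx
    have hk1 : x ^ k ≠ 1 := by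
      intro h
      rw [h, orderOf_one] at hk
      exact hp.one_lt.ne hk
    have hgood : Good (2 ^ (2 * m + 1)) (x ^ k) := good_of_prime_fpf D hp hk (fpf_pow D hf hk1)
    have hc' : Commute (g * x ^ k * g⁻¹) (x ^ k) := by
      rw [← conj_pow]
      exact (hc.pow_left k).pow_right k
    obtain ⟨p', hp', hpq', hxp'⟩ := hgood
    obtain ⟨i, -, hi⟩ := D.conj_pow (x ^ k) p' hp' hpq' hxp' g hc'
    have h4 := conj_pow_iter hi 4
    have hq4 : (x ^ k) ^ (((2 ^ (2 * m + 1)) ^ i) ^ 4) = x ^ k := by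
      have e : ((2 ^ (2 * m + 1)) ^ i) ^ 4 = ((2 ^ (2 * m + 1)) ^ 4) ^ i := by
        rw [← pow_mul (2 ^ (2 * m + 1)), ← pow_mul (2 ^ (2 * m + 1)), mul_comm i 4]
      rw [e]
      clear h4 hi e
      induction i with
      | zero => simp
      | succ i ih =>
        rw [pow_succ, pow_mul, ih]
        exact pow_q4 D ⟨p', hp', hpq', hxp'⟩
    rw [hq4] at h4
    have h5 : Commute (g ^ 4) (x ^ k) := by
      show g ^ 4 * x ^ k = x ^ k * g ^ 4
      rw [← mul_inv_eq_iff_eq_mul]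
      exact h4
    obtain ⟨e, he⟩ := exists_pow_pow_eq hgo 2
    have h6 : Commute g (x ^ k) := by
      rw [← he]
      exact h5.pow_left e
    exact (commute_iff D ⟨p', hp', hpq', hxp'⟩ hx ((Commute.refl x).pow_right k) g).2 h6
  · unfold Fpf at hf
    push Not at hf
    obtain ⟨a, ha⟩ := hf
    obtain ⟨b, hba, hb⟩ := odd_two_fix D hx hxo ha
    obtain ⟨ya, yb⟩ := cent_two_fix D hx (Ne.symm hba) ha hb hc
    have hy1 : g * x * g⁻¹ ≠ 1 := by
      intro h
      apply hx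
      have : x = g⁻¹ * (g * x * g⁻¹) * g := by group
      rw [this, h]; group
    have yga : (g * x * g⁻¹) • (g • a) = g • a := by
      rw [mul_smul, mul_smul, inv_smul_smul, ha]
    have ygb : (g * x * g⁻¹) • (g • b) = g • b := by
      rw [mul_smul, mul_smul, inv_smul_smul, hb]
    have hmem : ∀ c : suzukiOvoid F m, (g * x * g⁻¹) • c = c → c = a ∨ c = b := by
      intro c hc'
      by_contra hcon
      push Not at hcon
      exact hy1 (three_point hF hm _ a b c (Ne.symm hba) (Ne.symm hcon.2) (Ne.symm hcon.1) ya yb hc')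
    have hg2 : (g ^ 2) • a = a ∧ (g ^ 2) • b = b := by
      rw [pow_two, mul_smul, mul_smul]
      rcases hmem _ yga with h1 | h1 <;> rcases hmem _ ygb with h2 | h2
      · exact absurd (smul_left_cancel g (h1.trans h2.symm)) (Ne.symm hba)
      · rw [h1, h2, h1, h2]; exact ⟨rfl, rfl⟩
      · rw [h1, h2, h1]; exact ⟨rfl, rfl⟩
      · exact absurd (smul_left_cancel g (h1.trans h2.symm)) (Ne.symm hba)
    obtain ⟨e, he⟩ := exists_pow_pow_eq hgo 1
    rw [pow_one] at he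
    have hga : g • a = a := by
      rw [← he]; exact pow_fix hg2.1 e
    have hgb : g • b = b := by
      rw [← he]; exact pow_fix hg2.2 e
    exact E.stab_comm a b (Ne.symm hba) g x hga hgb ha hb

/-- subgroups of odd order are abelian -/
theorem odd_abelian (hm : 1 ≤ m) (O : Subgroup (Sz F m)) (hO : ∀ g ∈ O, ¬ 2 ∣ orderOf g)
    {a b : Sz F m} (ha : a ∈ O) (hb : b ∈ O) : Commute a b := by
  have h := abelian_of_CT_SN (L := O) ?_ ?_ ⟨a, ha⟩ ⟨b, hb⟩
  · exact congrArg Subtype.val h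
  · intro x y z hy h1 h2
    apply Subtype.ext
    exact commute_trans hF hm (y := (y : Sz F m)) (fun h => hy (Subtype.ext h)) (hO y y.2)
      (congrArg Subtype.val h1) (congrArg Subtype.val h2)
  · intro x g hx hc
    apply Subtype.ext
    exact commute_of_conj_commute hF hm (x := (x : Sz F m)) (fun h => hx (Subtype.ext h))
      (hO x x.2) (hO g g.2) (congrArg Subtype.val hc)

/-- a subgroup normalising a nontrivial subgroup of odd order normalises a torus -/
theorem le_normalizer_torus (hm : 1 ≤ m) (M O : Subgroup (Sz F m))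
    (hO : ∀ g ∈ O, ¬ 2 ∣ orderOf g) (hne : O ≠ ⊥) (hnorm : ∀ g ∈ M, ∀ y ∈ O, g * y * g⁻¹ ∈ O) :
    ∃ U : Subgroup (Sz F m), IsCyclic U ∧ Nat.card U ∈ ({2 ^ (2 * m + 1) - 1,
      2 ^ (2 * m + 1) + 2 ^ (m + 1) + 1, 2 ^ (2 * m + 1) - 2 ^ (m + 1) + 1} : Set ℕ) ∧
      M ≤ Subgroup.normalizer (U : Set (Sz F m)) := by
  obtain ⟨⟨x, hxO⟩, hx1'⟩ := Subgroup.ne_bot_iff_exists_ne_one.1 hne
  have hx1 : x ≠ 1 := fun h => hx1' (Subtype.ext h)
  obtain ⟨hcyc, hcard⟩ := Cfsg.Agent.S2238.cent_odd hm hF x hx1 (hO x hxO)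
  refine ⟨Subgroup.centralizer ({(x : Sz F m)} : Set (Sz F m)), hcyc, hcard, ?_⟩
  intro g hg
  rw [Subgroup.mem_normalizer_iff]
  intro h
  rw [mem_cent, mem_cent]
  have hy := hnorm g hg x hxO
  have hy1 : g * x * g⁻¹ ≠ 1 := by
    intro h'
    apply hx1
    have : (x : Sz F m) = g⁻¹ * (g * x * g⁻¹) * g := by group
    rw [this, h']; group
  have hyx : Commute (g * x * g⁻¹) x := odd_abelian hF hm O hO hy hxO
  constructor
  · intro hh
    have h1 : Commute (g * h * g⁻¹) (g * x * g⁻¹) := conj_commute.2 hh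
    exact commute_trans hF hm hy1 (hO _ hy) h1 hyx
  · intro hh
    have h1 : Commute (g * h * g⁻¹) (g * x * g⁻¹) :=
      commute_trans hF hm hx1 (hO _ hxO) hh hyx.symm
    exact conj_commute.1 h1

/-- a subgroup of `Q` with at most one involution is cyclic -/
theorem cyclic_of_unique_invol (hm : 1 ≤ m) (P : Subgroup (Sz F m)) (hPQ : P ≤ Q hF hm)
    (huniq : ∀ b b' : F, b ≠ 0 → b' ≠ 0 → T hF 0 b ∈ P → T hF 0 b' ∈ P → b = b') :
    IsCyclic P := by
  by_cases h : ∃ a b : F, a ≠ 0 ∧ T hF a b ∈ P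
  · obtain ⟨a₁, b₀, ha₁, hg⟩ := h
    have hν : a₁ * sg m a₁ ≠ 0 := mul_ne_zero ha₁ (sg_ne_zero ha₁)
    have hg2 : T hF a₁ b₀ ^ 2 = T hF 0 (a₁ * sg m a₁) := by rw [pow_two, T_sq hF hm]
    have hg2P : T hF 0 (a₁ * sg m a₁) ∈ P := hg2 ▸ P.pow_mem hg 2
    refine ⟨⟨⟨T hF a₁ b₀, hg⟩, ?_⟩⟩
    rintro ⟨x, hx⟩
    obtain ⟨a, b, rfl⟩ := (mem_Q hF hm).1 (hPQ hx)
    have hz : ∀ e : F, T hF 0 e ∈ P → T hF 0 e = 1 ∨ T hF 0 e = T hF a₁ b₀ ^ 2 := by
      intro e he
      by_cases he0 : e = 0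
      · left; rw [he0, T_zero hF hm]
      · right; rw [hg2, huniq e _ he0 hν he hg2P]
    by_cases ha : a = 0
    · subst ha
      rcases hz b hx with h1 | h1
      · exact ⟨0, Subtype.ext (by simp [h1])⟩
      · exact ⟨2, Subtype.ext (by
          show (T hF a₁ b₀) ^ (2 : ℤ) = T hF 0 b
          rw [h1]; rfl)⟩
    · have hx2 : T hF 0 (a * sg m a) ∈ P := by
        rw [← T_sq hF hm a b]; exact P.mul_mem hx hx
      have haa : a = a₁ := norm_inj hF ha ha₁
        (huniq _ _ (mul_ne_zero ha (sg_ne_zero ha)) hν hx2 hg2P)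
      subst haa
      have e1 : (T hF a b₀)⁻¹ * T hF a b = T hF 0 (b₀ + b) := by
        rw [T_inv hF hm, T_mul hF hm]
        congr 1
        · exact add_self hF a
        · have := add_self hF (a * sg m a)
          linear_combination this
      have he : T hF 0 (b₀ + b) ∈ P := e1 ▸ P.mul_mem (P.inv_mem hg) hx
      rcases hz _ he with h1 | h1
      · refine ⟨1, Subtype.ext ?_⟩
        show (T hF a b₀) ^ (1 : ℤ) = T hF a b
        rw [zpow_one]
        rw [h1] at e1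
        exact (inv_mul_eq_one.1 e1)
      · refine ⟨3, Subtype.ext ?_⟩
        show (T hF a b₀) ^ (3 : ℤ) = T hF a b
        rw [h1] at e1
        have : T hF a b = T hF a b₀ * T hF a b₀ ^ 2 := by rw [← e1]; group
        rw [this]
        group
  · push Not at h
    by_cases h' : ∃ b : F, b ≠ 0 ∧ T hF 0 b ∈ P
    · obtain ⟨b₀, hb₀, hg⟩ := h'
      refine ⟨⟨⟨T hF 0 b₀, hg⟩, ?_⟩⟩
      rintro ⟨x, hx⟩
      obtain ⟨a, b, rfl⟩ := (mem_Q hF hm).1 (hPQ hx)
      have ha : a = 0 := by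
        by_contra ha
        exact h a b ha hx
      subst ha
      by_cases hb : b = 0
      · exact ⟨0, Subtype.ext (by simp [hb, T_zero hF hm])⟩
      · refine ⟨1, Subtype.ext ?_⟩
        show (T hF 0 b₀) ^ (1 : ℤ) = T hF 0 b
        rw [zpow_one, huniq b b₀ hb hb₀ hx hg]
    · push Not at h'
      refine ⟨⟨1, ?_⟩⟩
      rintro ⟨x, hx⟩
      obtain ⟨a, b, rfl⟩ := (mem_Q hF hm).1 (hPQ hx)
      have ha : a = 0 := by
        by_contra ha
        exact h a b ha hx
      subst ha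
      have hb : b = 0 := by
        by_contra hb
        exact h' b hb hx
      exact ⟨0, Subtype.ext (by simp [hb, T_zero hF hm])⟩

/-- point stabilisers are normalisers of Sylow `2`-subgroups -/
theorem fix_le_normalizer (hm : 1 ≤ m) (M : Subgroup (Sz F m)) (α : suzukiOvoid F m)
    (h : ∀ g ∈ M, g • α = α) :
    ∃ P : Sylow 2 (Sz F m), M ≤ Subgroup.normalizer ((P : Subgroup (Sz F m)) : Set (Sz F m)) := by
  have : Fact (Nat.Prime 2) := ⟨Nat.prime_two⟩
  obtain ⟨k, rfl⟩ := exists_map_inf hF α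
  let Q' : Sylow 2 (Sz F m) := (isPGroup_Q hF hm).toSylow (index_Q hF hm)
  refine ⟨k • Q', ?_⟩
  intro g hg
  have h1 : (k⁻¹ * g * k) • Q' = Q' := by
    rw [Sylow.smul_eq_iff_mem_normalizer]
    show k⁻¹ * g * k ∈ Subgroup.normalizer ((Q hF hm : Subgroup (Sz F m)) : Set (Sz F m))
    rw [normalizer_Q hF hm, MulAction.mem_stabilizer_iff, mul_smul, mul_smul, h g hg,
      inv_smul_smul]
  have h2 : g • (k • Q') = k • Q' := by
    have e : g * k = k * (k⁻¹ * g * k) := by group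
    rw [← mul_smul, e, mul_smul, h1]
  exact Sylow.smul_eq_iff_mem_normalizer.1 h2

/-- subgroups of even order with a unique involution fixing a point which they move -/
theorem cyclic_sylow_case (hm : 1 ≤ m) (M : Subgroup (Sz F m)) {s : Sz F m} (hs : orderOf s = 2)
    (hsM : s ∈ M) {α : suzukiOvoid F m} (hα : s • α = α)
    (huniq : ∀ s' ∈ M, orderOf s' = 2 → s' • α = α → s' = s) {g₀ : Sz F m} (hg₀ : g₀ ∈ M)
    (hmove : g₀ • α ≠ α) :
    ∃ U : Subgroup (Sz F m), IsCyclic U ∧ Nat.card U ∈ ({2 ^ (2 * m + 1) - 1,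
      2 ^ (2 * m + 1) + 2 ^ (m + 1) + 1, 2 ^ (2 * m + 1) - 2 ^ (m + 1) + 1} : Set ℕ) ∧
      M ≤ Subgroup.normalizer (U : Set (Sz F m)) := by
  have : Fact (Nat.Prime 2) := ⟨Nat.prime_two⟩
  have hs' : orderOf (⟨s, hsM⟩ : M) = 2 := by
    rw [← Subgroup.orderOf_coe]; exact hs
  have hp0 : IsPGroup 2 (Subgroup.zpowers (⟨s, hsM⟩ : M)) := by
    apply IsPGroup.of_card (n := 1)
    rw [Nat.card_zpowers, hs', pow_one]
  obtain ⟨P₂, hP₂⟩ := hp0.exists_le_sylow
  have hsP₂ : (⟨s, hsM⟩ : M) ∈ (P₂ : Subgroup M) := hP₂ (Subgroup.mem_zpowers _)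
  have hpimg : IsPGroup 2 ((P₂ : Subgroup M).map M.subtype) := P₂.isPGroup'.map _
  obtain ⟨PG, hPG⟩ := hpimg.exists_le_sylow
  obtain ⟨k, hk⟩ := sylow_conj hF hm PG
  have hfixk : ∀ x : M, x ∈ (P₂ : Subgroup M) → (x : Sz F m) • (k • oInf F m) = k • oInf F m := by
    intro x hx
    have h1 : (x : Sz F m) ∈ PG := hPG ⟨x, hx, rfl⟩
    obtain ⟨a, b, e⟩ := (mem_Q hF hm).1 ((hk _).1 h1)
    have e2 : (x : Sz F m) = k * T hF a b * k⁻¹ := by rw [← e]; group
    rw [e2, mul_smul, mul_smul, inv_smul_smul, T_oInf]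
  have hkα : k • oInf F m = α := invol_unique hF hm hs hα _ (hfixk _ hsP₂)
  let P' : Subgroup (Sz F m) := ((P₂ : Subgroup M).map M.subtype).comap (MulAut.conj k).toMonoidHom
  have hP' : ∀ y, y ∈ P' ↔ k * y * k⁻¹ ∈ (P₂ : Subgroup M).map M.subtype := fun y => Iff.rfl
  have hP'Q : P' ≤ Q hF hm := by
    intro y hy
    have h1 := (hk _).1 (hPG ((hP' y).1 hy))
    have e : k⁻¹ * (k * y * k⁻¹) * k = y := by group
    rwa [e] at h1
  have hinv : ∀ b : F, b ≠ 0 → T hF 0 b ∈ P' → k * T hF 0 b * k⁻¹ = s := by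
    intro b hb hbP
    obtain ⟨x, hx, e⟩ := (hP' _).1 hbP
    have e' : (x : Sz F m) = k * T hF 0 b * k⁻¹ := e
    apply huniq
    · rw [← e']; exact x.2
    · rw [orderOf_conj' hF, orderOf_T0 hF hm hb]
    · rw [← hkα, mul_smul, mul_smul, inv_smul_smul, T_oInf]
  have hcycP' : IsCyclic P' := by
    apply cyclic_of_unique_invol hF hm P' hP'Q
    intro b b' hb hb' h1 h2
    have e := (hinv b hb h1).trans (hinv b' hb' h2).symm
    have e2 : T hF 0 b = T hF 0 b' := by
      have := congrArg (fun z => k⁻¹ * z * k) e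
      simpa [mul_assoc] using this
    exact (T_inj hF e2).2
  let f : (P₂ : Subgroup M) →* P' :=
    { toFun := fun x => ⟨k⁻¹ * ((x : M) : Sz F m) * k, by
        rw [hP']
        have e : k * (k⁻¹ * ((x : M) : Sz F m) * k) * k⁻¹ = ((x : M) : Sz F m) := by group
        rw [e]
        exact ⟨x, x.2, rfl⟩⟩
      map_one' := by
        apply Subtype.ext
        show k⁻¹ * 1 * k = 1
        group
      map_mul' := by
        intro x y
        apply Subtype.ext
        show k⁻¹ * (((x : M) : Sz F m) * ((y : M) : Sz F m)) * k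
          = (k⁻¹ * ((x : M) : Sz F m) * k) * (k⁻¹ * ((y : M) : Sz F m) * k)
        group }
  have hfinj : Function.Injective f := by
    intro x y hxy
    have h1 : k⁻¹ * ((x : M) : Sz F m) * k = k⁻¹ * ((y : M) : Sz F m) * k :=
      congrArg Subtype.val hxy
    apply Subtype.ext
    apply Subtype.ext
    exact mul_left_cancel (mul_right_cancel h1)
  have hcyc : IsCyclic (P₂ : Subgroup M) := isCyclic_of_injective f hfinj
  have hp : (Nat.card M).minFac = 2 := by
    rw [Nat.minFac_eq_two_iff, ← hs']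
    exact orderOf_dvd_natCard _
  obtain ⟨N, hNn, hNodd, hcompl⟩ : ∃ N : Subgroup M, N.Normal ∧ ¬ 2 ∣ Nat.card N ∧
      N.IsComplement' (P₂ : Subgroup M) :=
    ⟨(MonoidHom.transferSylow P₂ (hcyc.normalizer_le_centralizer hp)).ker, inferInstance,
      MonoidHom.not_dvd_card_ker_transferSylow P₂ (hcyc.normalizer_le_centralizer hp),
      IsCyclic.isComplement' hp hcyc⟩
  apply le_normalizer_torus hF hm M (N.map M.subtype)
  · rintro _ ⟨n, hn, rfl⟩ h2
    apply hNodd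
    apply h2.trans
    have h3 : orderOf (M.subtype n) = orderOf (⟨n, hn⟩ : N) := by
      rw [← Subgroup.orderOf_coe (⟨n, hn⟩ : N)]
      exact Subgroup.orderOf_coe n
    rw [h3]
    exact orderOf_dvd_natCard _
  · intro hbot
    have hNbot : N = ⊥ := by
      rw [eq_bot_iff]
      intro n hn
      have : M.subtype n ∈ N.map M.subtype := ⟨n, hn, rfl⟩
      rw [hbot, Subgroup.mem_bot] at this
      rw [Subgroup.mem_bot]
      exact Subtype.ext this
    rw [hNbot, Subgroup.isComplement'_bot_left] at hcompl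
    apply hmove
    rw [← hkα]
    exact hfixk ⟨g₀, hg₀⟩ (hcompl ▸ Subgroup.mem_top _)
  · rintro g hg _ ⟨n, hn, rfl⟩
    have h1 := hNn.conj_mem n hn (⟨g, hg⟩ : M)
    refine Subgroup.mem_map.2 ⟨_, h1, ?_⟩
    rw [map_mul, map_mul, map_inv]
    simp only [Subgroup.subtype_apply]

end Cfsg.Agent.Lib.Helper8SzMax2
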