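import Cfsg.Agent.Lib.Helper36Sol3
import Cfsg.Agent.Lib.Helper8SzMax2

set_option autoImplicit false
set_option linter.unusedVariables false
set_option linter.unusedSectionVars false
set_option linter.unusedSimpArgs false

/-! Solubilizers in the Suzuki groups: concrete input -/

namespace Cfsg.Agent.Lib.Helper36Sol4

open Cfsg Cfsg.Agent.Lib.Helper8Sz Cfsg.Agent.Lib.Helper8Sz2 Cfsg.Agent.Lib.Helper8Sz3
  Cfsg.Agent.Lib.Helper8Sz4 Cfsg.Agent.Lib.Helper8Sz5
  Cfsg.Agent.Lib.Helper8Sz6 Cfsg.Agent.Lib.Helper8Sz7 Cfsg.Agent.Lib.Helper8Sz8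
  Cfsg.Agent.Lib.Helper8SzMax Cfsg.Agent.Lib.Helper8SzMax2
  Cfsg.Agent.Lib.Helper61Zass
  Cfsg.Agent.Lib.Helper61Fix2 Cfsg.Agent.Lib.Helper61SzTori Cfsg.Agent.Lib.Helper61Zass2
  Cfsg.Agent.Lib.Helper61SzTori2 Cfsg.Agent.Lib.Helper61Part Cfsg.Agent.Lib.Helper61SzCent
  Cfsg.Agent.Lib.Helper36Sol Cfsg.Agent.Lib.Helper36Sol2 Cfsg.Agent.Lib.Helper36Sol3

section abstract

variable {G : Type*} [Group G] [Finite G] {O : Type*} [Finite O] [MulAction G O] {q : ℕ}
  {inf : O} {Q Z : Subgroup G}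

theorem NC_solvable (D : ZData G O q) (E : QData G O q inf Q Z) {g : G} (hg : g ≠ 1)
    (hodd : ¬ 2 ∣ orderOf g) : Group.IsSolvable (NC g) := by
  have : Fact (Nat.Prime 2) := ⟨Nat.prime_two⟩
  rw [Group.isSolvable_iff_subgroup_quotient
    ((Subgroup.centralizer ({g} : Set G)).subgroupOf (NC g))]
  constructor
  · apply Group.isSolvable_of_comm
    rintro ⟨⟨a, haN⟩, ha⟩ ⟨⟨b, hbN⟩, hb⟩
    apply Subtype.ext
    apply Subtype.ext
    show a * b = b * a
    have ha' : a ∈ Subgroup.centralizer ({g} : Set G) := ha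
    have hb' : b ∈ Subgroup.centralizer ({g} : Set G) := hb
    by_cases ha1 : a = 1
    · rw [ha1, one_mul, mul_one]
    · have e := cent_eq D E hg hodd ha' ha1
      rw [← e] at hb'
      exact (mem_cent.1 hb').eq.symm
  · have hp : IsPGroup 2 (NC g ⧸ (Subgroup.centralizer ({g} : Set G)).subgroupOf (NC g)) := by
      intro x
      obtain ⟨n, rfl⟩ := QuotientGroup.mk_surjective x
      refine ⟨2, ?_⟩
      rw [← QuotientGroup.mk_pow, QuotientGroup.eq_one_iff]
      exact pow_four_mem D E hg hodd n.2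
    have := hp.isNilpotent
    infer_instance

end abstract

variable {F : Type*} [Field F] [Fintype F] {m : ℕ} (hF : Fintype.card F = 2 ^ (2 * m + 1))
include hF

theorem conv (hm : 1 ≤ m) (M : Subgroup (Sz F m))
    (h : ∃ U : Subgroup (Sz F m), IsCyclic U ∧ Nat.card U ∈ ({2 ^ (2 * m + 1) - 1,
      2 ^ (2 * m + 1) + 2 ^ (m + 1) + 1, 2 ^ (2 * m + 1) - 2 ^ (m + 1) + 1} : Set ℕ) ∧
      M ≤ Subgroup.normalizer (U : Set (Sz F m))) :
    ∃ g : Sz F m, g ≠ 1 ∧ ¬ 2 ∣ orderOf g ∧ M ≤ NC g := by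
  obtain ⟨U, hcyc, hcard, hle⟩ := h
  obtain ⟨g, hg⟩ := hcyc.exists_generator
  have ho : orderOf (g : Sz F m) = Nat.card U := by
    rw [Subgroup.orderOf_coe]
    exact orderOf_eq_card_of_forall_mem_zpowers hg
  have hq2 : 2 ^ (2 * m + 1) = 2 * 2 ^ (2 * m) := by rw [pow_succ]; ring
  have hr2 : 2 ^ (m + 1) = 2 * 2 ^ m := by rw [pow_succ]; ring
  have hlt : 2 ^ (m + 1) < 2 ^ (2 * m + 1) := Nat.pow_lt_pow_right (by norm_num) (by omega)
  have hpos : 0 < 2 ^ m := by positivity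
  have hc : ¬ 2 ∣ Nat.card U ∧ 1 < Nat.card U := by
    rcases hcard with h | h | h
    · rw [h]; constructor <;> omega
    · rw [h]; constructor <;> omega
    · rw [h]; constructor <;> omega
  have hg1 : (g : Sz F m) ≠ 1 := by
    intro h
    rw [h, orderOf_one] at ho
    omega
  have hgo : ¬ 2 ∣ orderOf (g : Sz F m) := by rw [ho]; exact hc.1
  refine ⟨g, hg1, hgo, hle.trans ?_⟩
  intro n hn
  have h1 : n * (g : Sz F m) * n⁻¹ ∈ U := (Subgroup.mem_normalizer_iff.1 hn g).1 g.2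
  have h2 : n * (g : Sz F m) * n⁻¹ ∈ Subgroup.centralizer ({(g : Sz F m)} : Set (Sz F m)) := by
    rw [mem_cent]
    obtain ⟨k, hk⟩ := Subgroup.mem_zpowers_iff.1 (hg ⟨_, h1⟩)
    have hk' : (g : Sz F m) ^ k = n * (g : Sz F m) * n⁻¹ := by
      have := congrArg Subtype.val hk
      simpa using this
    rw [← hk']
    exact (Commute.refl _).zpow_left k
  have h3 : n * (g : Sz F m) * n⁻¹ ≠ 1 := by
    intro h
    apply hg1
    have : (g : Sz F m) = n⁻¹ * (n * (g : Sz F m) * n⁻¹) * n := by group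
    rw [this, h]; group
  have e := sz_cent_eq hF hm hg1 hgo h2 h3
  rw [Subgroup.mem_normalizer_iff]
  intro k
  rw [← cent_conj n (g : Sz F m) k, e]

theorem maxH (hm : 1 ≤ m) (hp : (2 * m + 1).Prime) : MaxH (Sz F m) (suzukiOvoid F m) := by
  intro M hM
  by_cases hodd : ∀ g ∈ M, ¬ 2 ∣ orderOf g
  · by_cases hbot : M = ⊥
    · left
      refine ⟨oInf F m, ?_⟩
      intro x hx
      rw [hbot, Subgroup.mem_bot] at hx
      rw [hx, one_smul]
    · right
      exact conv hF hm M (le_normalizer_torus hF hm M M hodd hbot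
        (fun g hg y hy => M.mul_mem (M.mul_mem hg hy) (M.inv_mem hg)))
  · push Not at hodd
    obtain ⟨g, hgM, j, hj⟩ := hodd
    have hpos := orderOf_pos g
    have hj0 : 0 < j := by omega
    have hs : orderOf (g ^ j) = 2 := by
      rw [orderOf_pow_of_dvd hj0.ne' ⟨2, by rw [hj]; ring⟩, hj]
      exact Nat.mul_div_cancel _ hj0
    have hsM : g ^ j ∈ M := M.pow_mem hgM j
    obtain ⟨α, hα, -⟩ := Cfsg.Agent.Lib.Helper8Sz8.invol_fix hF hm hs
    by_cases hfix : ∀ x ∈ M, x • α = α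
    · left
      exact ⟨α, hfix⟩
    · push Not at hfix
      obtain ⟨g₀, hg₀, hmove⟩ := hfix
      by_cases huniq : ∀ s' ∈ M, orderOf s' = 2 → s' • α = α → s' = g ^ j
      · right
        exact conv hF hm M (cyclic_sylow_case hF hm M hs hsM hα huniq hg₀ hmove)
      · push Not at huniq
        obtain ⟨s', hs'M, hs', hs'α, hne⟩ := huniq
        exfalso
        obtain ⟨K, _, _, k, hk1, hkm, -, hdvd, -⟩ :=
          subfield_case hF hm M hM hs' hs hne hs'M hsM hs'α hα hg₀ hmove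
        rcases (Nat.dvd_prime hp).1 hdvd with h | h <;> omega

theorem hswap (hm : 1 ≤ m) (a b : suzukiOvoid F m) (t : Sz F m) (hab : a ≠ b) (h1 : t • a = b)
    (h2 : t • b = a) : t ^ 2 = 1 := by
  obtain ⟨g, hg1, hg2⟩ := exists_map_pair hF hab
  have k1 : (W hF * (g⁻¹ * t * g)) • oInf F m = oInf F m := by
    rw [mul_smul, mul_smul, mul_smul, hg1, h1, ← hg2, inv_smul_smul, W_oPt_zero]
  have k2 : (W hF * (g⁻¹ * t * g)) • oPt m (0 : F) 0 = oPt m 0 0 := by
    rw [mul_smul, mul_smul, mul_smul, hg2, h2, ← hg1, inv_smul_smul, W_oInf]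
  obtain ⟨c, hc, e⟩ := stab_two' hF hm k1 k2
  have e1 : g⁻¹ * t * g = W hF * H hF c hc := by
    rw [← e, ← mul_assoc, W_mul_self, one_mul]
  have e2 : (g⁻¹ * t * g) * (g⁻¹ * t * g) = 1 := by
    rw [e1]
    have e4 : W hF * H hF c hc * (W hF * H hF c hc)
        = (W hF * H hF c hc) * W hF * H hF c hc := by group
    rw [e4, W_H, mul_assoc (H hF c⁻¹ _), W_mul_self, mul_one, ← H_inv hF c hc, inv_mul_cancel]
  have e3 : t ^ 2 = g * ((g⁻¹ * t * g) * (g⁻¹ * t * g)) * g⁻¹ := by rw [pow_two]; group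
  rw [e3, e2]; group

/-- the additive map `t ↦ σ t + t` -/
def Lmap : F →+ F where
  toFun t := sg m t + t
  map_zero' := by rw [sg_zero, add_zero]
  map_add' := by intro x y; rw [sg_add hF]; ring

theorem sg_fixed {t : F} (h : sg m t = t) : t = 0 ∨ t = 1 := by
  have h1 := sg_sg hF t
  rw [h, h] at h1
  have h2 : t * (t - 1) = 0 := by rw [mul_sub, mul_one, ← pow_two, ← h1, sub_self]
  rcases mul_eq_zero.1 h2 with h3 | h3
  · left; exact h3
  · right; exact sub_eq_zero.1 h3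

theorem Lmap_eq_zero {t : F} (h : sg m t + t = 0) : t = 0 ∨ t = 1 := by
  apply sg_fixed hF
  have := eq_neg_of_add_eq_zero_left h
  rwa [neg_eq hF] at this

theorem Lmap_ne_one (t : F) : sg m t + t ≠ 1 := by
  intro h
  have h1 : sg m t = t + 1 := by
    have : sg m t = 1 - t := eq_sub_of_add_eq h
    rw [this, sub_eq hF, add_comm]
  have h2 := sg_sg hF t
  rw [h1, sg_add hF, sg_one, h1] at h2
  have h3 : t ^ 2 = t := by
    rw [← h2, add_assoc, add_self hF, add_zero]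
  have h4 : t * (t - 1) = 0 := by rw [mul_sub, mul_one, ← pow_two, h3, sub_self]
  have h5 : sg m t = t := by
    rcases mul_eq_zero.1 h4 with h6 | h6
    · rw [h6, sg_zero]
    · rw [sub_eq_zero.1 h6, sg_one]
  rw [h5, add_self hF] at h
  exact zero_ne_one h

theorem Lmap_index : (Lmap hF).range.index = 2 := by
  have h1 := AddSubgroup.index_ker (Lmap hF)
  have h2 := (Lmap hF).ker.card_mul_index
  have h3 := (Lmap hF).range.card_mul_index
  have h4 : Nat.card (Lmap hF).ker = 2 := by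
    rw [Nat.card_eq_two_iff]
    refine ⟨⟨0, (Lmap hF).ker.zero_mem⟩, ⟨1, ?_⟩, ?_, ?_⟩
    · rw [AddMonoidHom.mem_ker]
      show sg m (1 : F) + 1 = 0
      rw [sg_one, add_self hF]
    · intro h
      exact zero_ne_one (congrArg Subtype.val h)
    · ext ⟨t, ht⟩
      simp only [Set.mem_insert_iff, Set.mem_singleton_iff, Set.mem_univ, iff_true]
      rw [AddMonoidHom.mem_ker] at ht
      rcases Lmap_eq_zero hF ht with h | h
      · left; exact Subtype.ext h
      · right; exact Subtype.ext h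
  rw [h1, h4] at h2
  rw [← h2, mul_comm] at h3
  exact Nat.eq_of_mul_eq_mul_right Nat.card_pos h3

theorem exists_L (e : F) : (∃ t : F, sg m t + t = e) ∨ (∃ t : F, sg m t + t = e + 1) := by
  by_cases h : e ∈ (Lmap hF).range
  · left
    obtain ⟨t, ht⟩ := h
    exact ⟨t, ht⟩
  · right
    have h1 : (1 : F) ∉ (Lmap hF).range := by
      rintro ⟨t, ht⟩
      exact Lmap_ne_one hF t ht
    have h2 := (AddSubgroup.add_mem_iff_of_index_two (Lmap_index hF) (a := e) (b := 1)).2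
      ⟨fun h' => absurd h' h, fun h' => absurd h' h1⟩
    obtain ⟨t, ht⟩ := h2
    exact ⟨t, ht⟩

theorem conj_T (hm : 1 ≤ m) (c a b : F) :
    T hF c 0 * T hF a b * (T hF c 0)⁻¹ = T hF a (b + sg m c * a + sg m a * c) := by
  rw [T_inv hF hm, T_mul hF hm, T_mul hF hm]
  have h2 : (2 : F) = 0 := two_eq_zero hF
  congr 1
  · linear_combination c * h2
  · rw [sg_add hF]
    linear_combination (c * sg m c) * h2

theorem T_pow_two (hm : 1 ≤ m) (a b : F) : T hF a b ^ 2 = T hF 0 (a * sg m a) := by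
  rw [pow_two, T_sq hF hm]

theorem hQ4 (hm : 1 ≤ m) {z : Sz F m} (hz1 : z ≠ 1) (v v' : Sz F m) (hv : v ∈ Q hF hm)
    (hv' : v' ∈ Q hF hm) (h : v ^ 2 = z) (h' : v' ^ 2 = z) :
    ∃ u ∈ Q hF hm, u * v * u⁻¹ = v' ∨ u * v * u⁻¹ = v'⁻¹ := by
  obtain ⟨a, b, rfl⟩ := hv
  obtain ⟨a', b', rfl⟩ := hv'
  rw [T_pow_two hF hm] at h h'
  have ha : a ≠ 0 := by
    rintro rfl
    rw [zero_mul, T_zero hF hm] at h
    exact hz1 h.symm
  have ha' : a' ≠ 0 := by
    rintro rfl
    rw [zero_mul, T_zero hF hm] at h'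
    exact hz1 h'.symm
  have e : a = a' := norm_inj hF ha ha' (T_inj hF (h.trans h'.symm)).2
  subst e
  have hn : a * sg m a ≠ 0 := mul_ne_zero ha (sg_ne_zero ha)
  have h2 : (2 : F) = 0 := two_eq_zero hF
  rcases exists_L hF ((b + b') / (a * sg m a)) with ⟨t, ht⟩ | ⟨t, ht⟩
  · refine ⟨T hF (a * t) 0, T_mem_Q hF hm _ _, Or.inl ?_⟩
    rw [conj_T hF hm]
    congr 1
    rw [sg_mul]
    have : (sg m t + t) * (a * sg m a) = b + b' := by rw [ht, div_mul_cancel₀ _ hn]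
    linear_combination this + b * h2
  · refine ⟨T hF (a * t) 0, T_mem_Q hF hm _ _, Or.inr ?_⟩
    rw [conj_T hF hm, T_inv hF hm]
    congr 1
    rw [sg_mul]
    have : (sg m t + t) * (a * sg m a) = b + b' + a * sg m a := by
      rw [ht, add_mul, div_mul_cancel₀ _ hn, one_mul]
    linear_combination this + b * h2

theorem hV (hm : 1 ≤ m) {z : Sz F m} (hz1 : z ≠ 1) (hz2 : z ^ 2 = 1) (hzQ : z ∈ Q hF hm) :
    Nat.card {v : Sz F m // v ∈ Q hF hm ∧ v ^ 2 = z} = 2 ^ (2 * m + 1) := by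
  obtain ⟨a, b₀, rfl⟩ := hzQ
  have ha := T_sq_eq_one hF hm hz2
  subst ha
  have hb₀ : b₀ ≠ 0 := by
    rintro rfl
    exact hz1 (T_zero hF hm)
  obtain ⟨a₀, ha₀, hn⟩ := norm_surj hF hb₀
  rw [← hF, ← Nat.card_eq_fintype_card]
  symm
  apply Nat.card_congr
  refine Equiv.ofBijective (fun b : F => (⟨T hF a₀ b, T_mem_Q hF hm _ _, by
    rw [T_pow_two hF hm, hn]⟩ : {v : Sz F m // v ∈ Q hF hm ∧ v ^ 2 = T hF 0 b₀})) ⟨?_, ?_⟩
  · intro b b' h
    exact (T_inj hF (congrArg Subtype.val h)).2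
  · rintro ⟨_, ⟨a, b, rfl⟩, h⟩
    rw [T_pow_two hF hm] at h
    have h1 := (T_inj hF h).2
    have ha : a ≠ 0 := by
      rintro rfl
      rw [zero_mul] at h1
      exact hb₀ h1.symm
    have e : a = a₀ := norm_inj hF ha ha₀ (h1.trans hn.symm)
    subst e
    exact ⟨b, rfl⟩

end Cfsg.Agent.Lib.Helper36Sol4
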