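import Cfsg.Agent.Lib.Helper36Sol4

set_option autoImplicit false
set_option linter.unusedVariables false
set_option linter.unusedSectionVars false
set_option linter.unusedSimpArgs false

/-! Solubilizers in the Suzuki groups: assembly on `Sz F m` -/

namespace Cfsg.Agent.Lib.Helper36Sol5

open Cfsg Cfsg.Agent.Lib.Helper8Sz Cfsg.Agent.Lib.Helper8Sz2 Cfsg.Agent.Lib.Helper8Sz3
  Cfsg.Agent.Lib.Helper8Sz4 Cfsg.Agent.Lib.Helper8Sz5
  Cfsg.Agent.Lib.Helper8Sz6 Cfsg.Agent.Lib.Helper8Sz7 Cfsg.Agent.Lib.Helper8Sz8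
  Cfsg.Agent.Lib.Helper8SzMax Cfsg.Agent.Lib.Helper8SzMax2
  Cfsg.Agent.Lib.Helper61Zass
  Cfsg.Agent.Lib.Helper61Fix2 Cfsg.Agent.Lib.Helper61SzTori Cfsg.Agent.Lib.Helper61Zass2
  Cfsg.Agent.Lib.Helper61SzTori2 Cfsg.Agent.Lib.Helper61Part Cfsg.Agent.Lib.Helper61SzCent
  Cfsg.Agent.Lib.Helper36Sol Cfsg.Agent.Lib.Helper36Sol2 Cfsg.Agent.Lib.Helper36Sol3
  Cfsg.Agent.Lib.Helper36Sol4

section general

variable {G H : Type*} [Group G] [Group H]

theorem closure_pair_map (e : G ≃* H) (x y : G) :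
    Subgroup.closure ({e x, e y} : Set H)
      = (Subgroup.closure ({x, y} : Set G)).map e.toMonoidHom := by
  rw [MonoidHom.map_closure, Set.image_pair]
  rfl

theorem pr_map (e : G ≃* H) (x y : G) : Pr (e x) (e y) ↔ Pr x y := by
  unfold Pr
  rw [closure_pair_map]
  constructor
  · intro h h'
    apply h
    rw [h']
    exact Subgroup.map_top_of_surjective _ e.surjective
  · intro h h'
    apply h
    rw [eq_top_iff]
    intro g _
    have : e g ∈ (Subgroup.closure ({x, y} : Set G)).map e.toMonoidHom := by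
      rw [h']; exact Subgroup.mem_top _
    obtain ⟨k, hk, hk'⟩ := this
    have : k = g := e.injective hk'
    rwa [← this]

theorem card_pr_map (e : G ≃* H) (x : G) :
    Nat.card {y : H // Pr (e x) y} = Nat.card {y : G // Pr x y} := by
  symm
  apply Nat.card_congr
  exact e.toEquiv.subtypeEquiv (fun y => (pr_map e x y).symm)

theorem card_pr_conj (k x : G) :
    Nat.card {y : G // Pr (k * x * k⁻¹) y} = Nat.card {y : G // Pr x y} :=
  card_pr_map (MulAut.conj k) x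

theorem solvable_closure_map (e : G ≃* H) (x y : G) :
    Group.IsSolvable (Subgroup.closure ({e x, e y} : Set H)) ↔
      Group.IsSolvable (Subgroup.closure ({x, y} : Set G)) := by
  rw [closure_pair_map]
  have f : Subgroup.closure ({x, y} : Set G) ≃*
      (Subgroup.closure ({x, y} : Set G)).map e.toMonoidHom :=
    e.subgroupMap (Subgroup.closure ({x, y} : Set G))
  constructor
  · intro h
    exact Group.isSolvable_of_isSolvable_injective (f := f.toMonoidHom) f.injective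
  · intro h
    exact Group.isSolvable_of_isSolvable_injective (f := f.symm.toMonoidHom) f.symm.injective

end general

section arith

theorem ar_mul {q r : ℕ} (hr : r ^ 2 = 2 * q) (hle : r ≤ q) :
    (q + r + 1) * (q - r + 1) = q ^ 2 + 1 := by
  obtain ⟨d, rfl⟩ : ∃ d, q = r + d := ⟨q - r, by omega⟩
  have : r + d - r = d := by omega
  rw [this]
  nlinarith

theorem ar_gcd1 {q d : ℕ} (hq : 1 ≤ q) (hodd : ¬ 2 ∣ d) (h1 : d ∣ q - 1) (h2 : d ∣ q ^ 2 + 1) :
    d = 1 := by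
  have e : q ^ 2 + 1 = (q - 1) * (q + 1) + 2 := by
    obtain ⟨s, rfl⟩ : ∃ s, q = s + 1 := ⟨q - 1, by omega⟩
    have : s + 1 - 1 = s := by omega
    rw [this]; ring
  rw [e] at h2
  have h3 : d ∣ 2 := (Nat.dvd_add_right (Dvd.dvd.mul_right h1 _)).1 h2
  rcases (Nat.dvd_prime Nat.prime_two).1 h3 with h | h
  · exact h
  · rw [h] at hodd
    exact absurd (dvd_refl 2) hodd

theorem ar_gcd2 {q d k : ℕ} (hle : 2 ^ k ≤ q) (hodd : ¬ 2 ∣ d) (h1 : d ∣ q + 2 ^ k + 1)
    (h2 : d ∣ q - 2 ^ k + 1) : d = 1 := by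
  have e : q + 2 ^ k + 1 = (q - 2 ^ k + 1) + 2 ^ (k + 1) := by
    rw [pow_succ]; omega
  rw [e] at h1
  have h3 : d ∣ 2 ^ (k + 1) := (Nat.dvd_add_right h2).1 h1
  have hc : Nat.Coprime d (2 ^ (k + 1)) := by
    apply Nat.Coprime.pow_right
    exact (Nat.coprime_comm.1 ((Nat.Prime.coprime_iff_not_dvd Nat.prime_two).2 hodd))
  exact Nat.eq_one_of_dvd_coprimes hc (dvd_refl d) h3

end arith

variable {F : Type*} [Field F] [Fintype F] {m : ℕ} (hF : Fintype.card F = 2 ^ (2 * m + 1))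
include hF

theorem solvable_iff (hm : 1 ≤ m) (hp : (2 * m + 1).Prime) (M : Subgroup (Sz F m)) :
    Group.IsSolvable M ↔ M ≠ ⊤ := by
  constructor
  · rintro hs rfl
    have h1 : Group.IsSolvable (Sz F m) :=
      Group.isSolvable_of_isSolvable_injective
        (f := (Subgroup.topEquiv (G := Sz F m)).symm.toMonoidHom)
        (Subgroup.topEquiv (G := Sz F m)).symm.injective
    have := nontrivial_Sz hF hm
    have h2 := Group.IsSolvable.commutator_lt_top_of_nontrivial (Sz F m)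
    rw [perfect hF hm] at h2
    exact lt_irrefl _ h2
  · intro hM
    rcases maxH hF hm hp M hM with ⟨α, hα⟩ | ⟨g, hg, hodd, hle⟩
    · obtain ⟨k, rfl⟩ := exists_map_inf hF α
      have := stab_solvable hF hm
      let f : M →* MulAction.stabilizer (Sz F m) (oInf F m) :=
        ((MulAut.conj k⁻¹).toMonoidHom.comp M.subtype).codRestrict _ (by
          intro x
          show (k⁻¹ * (x : Sz F m) * k⁻¹⁻¹) • oInf F m = oInf F m
          rw [inv_inv, mul_smul, mul_smul, hα x x.2, inv_smul_smul])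
      apply Group.isSolvable_of_isSolvable_injective (f := f)
      intro x y hxy
      have h1 : k⁻¹ * (x : Sz F m) * k⁻¹⁻¹ = k⁻¹ * (y : Sz F m) * k⁻¹⁻¹ :=
        congrArg Subtype.val hxy
      exact Subtype.ext (mul_left_cancel (mul_right_cancel h1))
    · have := NC_solvable (szData hF hm) (szQData hF hm) hg hodd
      exact Group.isSolvable_of_isSolvable_injective (f := Subgroup.inclusion hle)
        (Subgroup.inclusion_injective hle)

theorem q_facts : 2 ∣ 2 ^ (2 * m + 1) ∧ 2 ∣ 2 ^ (m + 1) ∧ 2 ^ (m + 1) ≤ 2 ^ (2 * m + 1) ∧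
    1 ≤ 2 ^ (2 * m + 1) :=
  ⟨dvd_pow_self 2 (by omega), dvd_pow_self 2 (by omega), r_le hF, Nat.one_le_two_pow⟩

theorem fpf_of_dvd (hm : 1 ≤ m) {x : Sz F m} (hx1 : x ≠ 1)
    (hd : orderOf x ∣ (2 ^ (2 * m + 1)) ^ 2 + 1) : Fpf (suzukiOvoid F m) x := by
  obtain ⟨f1, f2, f3, f4⟩ := q_facts hF
  have hodd : ¬ 2 ∣ orderOf x := by
    intro h
    have h1 := h.trans hd
    have h2 : 2 ∣ (2 ^ (2 * m + 1)) ^ 2 := Dvd.dvd.pow f1 (by norm_num)
    omega
  rcases cent_cases (szData hF hm) (szQData hF hm) hx1 hodd with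
    ⟨x₀, hx₀, hmem, e⟩ | ⟨a, b, hab, ha, hb, e⟩
  · exact fpf_of_commute_good (szData hF hm) hx₀ hx1 (mem_cent.1 hmem)
  · exfalso
    have h1 : orderOf x ∣ 2 ^ (2 * m + 1) - 1 := by
      rw [← card_stab_two (szData hF hm) hab, ← e]
      have := orderOf_dvd_natCard
        (⟨x, mem_cent.2 (Commute.refl x)⟩ : Subgroup.centralizer ({x} : Set (Sz F m)))
      rwa [← Subgroup.orderOf_coe] at this
    have := ar_gcd1 f4 hodd h1 hd
    exact hx1 (orderOf_eq_one_iff.1 this)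

theorem card_cent_fpf (hm : 1 ≤ m) {x : Sz F m} (hf : Fpf (suzukiOvoid F m) x) :
    Nat.card (Subgroup.centralizer ({x} : Set (Sz F m))) = 2 ^ (2 * m + 1) + 2 ^ (m + 1) + 1 ∨
    Nat.card (Subgroup.centralizer ({x} : Set (Sz F m))) = 2 ^ (2 * m + 1) - 2 ^ (m + 1) + 1 := by
  obtain ⟨x₁, x₂, g1, g2, c1, c2, hall⟩ := sz_two_tori hF hm
  rcases hall x hf with ⟨g, y, hy, hy1, rfl⟩ | ⟨g, y, hy, hy1, rfl⟩
  · left
    have := card_tor_conj y g
    unfold tor at this
    rw [this, tor_cent hF hm g1 y hy hy1, c1]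
  · right
    have := card_tor_conj y g
    unfold tor at this
    rw [this, tor_cent hF hm g2 y hy hy1, c2]

theorem orderOf_dvd_cent (x : Sz F m) :
    orderOf x ∣ Nat.card (Subgroup.centralizer ({x} : Set (Sz F m))) := by
  have := orderOf_dvd_natCard
    (⟨x, mem_cent.2 (Commute.refl x)⟩ : Subgroup.centralizer ({x} : Set (Sz F m)))
  rwa [← Subgroup.orderOf_coe] at this

theorem main (hm : 1 ≤ m) (hp : (2 * m + 1).Prime) (x : Sz F m) :
    (orderOf x = 2 → Nat.card {y : Sz F m // Pr x y}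
      = (2 ^ (2 * m + 1)) ^ 2 * (4 * 2 ^ (2 * m + 1) - 3)) ∧
    (orderOf x = 4 → Nat.card {y : Sz F m // Pr x y}
      = (2 ^ (2 * m + 1)) ^ 2 * (2 ^ (2 * m + 1) + 3)) ∧
    (x ≠ 1 → orderOf x ∣ 2 ^ (2 * m + 1) - 1 → Nat.card {y : Sz F m // Pr x y}
      = 2 * (2 ^ (2 * m + 1)) ^ 2 * (2 ^ (2 * m + 1) - 1)) ∧
    (x ≠ 1 → orderOf x ∣ 2 ^ (2 * m + 1) + 2 ^ (m + 1) + 1 → Nat.card {y : Sz F m // Pr x y}
      = 4 * (2 ^ (2 * m + 1) + 2 ^ (m + 1) + 1)) ∧
    (x ≠ 1 → orderOf x ∣ 2 ^ (2 * m + 1) - 2 ^ (m + 1) + 1 → Nat.card {y : Sz F m // Pr x y}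
      = 4 * (2 ^ (2 * m + 1) - 2 ^ (m + 1) + 1)) := by
  classical
  have D := szData hF hm
  have E := szQData hF hm
  have hmax := maxH hF hm hp
  have hsw := hswap hF hm
  obtain ⟨f1, f2, f3, f4⟩ := q_facts hF
  have hmul := ar_mul (r_sq hF) f3
  let _ : Fintype (Sz F m) := Fintype.ofFinite _
  let _ : Fintype (suzukiOvoid F m) := Fintype.ofFinite _
  refine ⟨?_, ?_, ?_, ?_, ?_⟩
  · intro ho
    obtain ⟨k, hk⟩ := sz_even hF hm (g := x) (by rw [ho])
    have e : x = k * (k⁻¹ * x * k) * k⁻¹ := by group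
    have hz1 : k⁻¹ * x * k ≠ 1 := by
      intro h
      rw [h] at e
      have : x = 1 := by rw [e]; group
      rw [this, orderOf_one] at ho
      omega
    have hz2 : (k⁻¹ * x * k) ^ 2 = 1 := by
      have := conj_pow (a := k⁻¹) (b := x) (i := 2)
      rw [inv_inv] at this
      rw [this, ← ho, pow_orderOf_eq_one]; group
    rw [e, card_pr_conj]
    exact card_sol_invol D E hz1 hz2 (E.Q_fix _ hk) hmax hsw
  · intro ho
    obtain ⟨k, hk⟩ := sz_even hF hm (g := x) (by rw [ho]; norm_num)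
    have e : x = k * (k⁻¹ * x * k) * k⁻¹ := by group
    have hpow : ∀ i : ℕ, (k⁻¹ * x * k) ^ i = k⁻¹ * x ^ i * k := by
      intro i
      have := conj_pow (a := k⁻¹) (b := x) (i := i)
      rwa [inv_inv] at this
    have hz1 : (k⁻¹ * x * k) ^ 2 ≠ 1 := by
      intro h
      rw [hpow] at h
      have h1 : x ^ 2 = 1 := by
        have : x ^ 2 = k * (k⁻¹ * x ^ 2 * k) * k⁻¹ := by group
        rw [this, h]; group
      have := orderOf_dvd_of_pow_eq_one h1
      rw [ho] at this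
      omega
    have hz2 : ((k⁻¹ * x * k) ^ 2) ^ 2 = 1 := by
      rw [← pow_mul, hpow]
      have : x ^ (2 * 2) = 1 := by
        have := pow_orderOf_eq_one x
        rwa [ho] at this
      rw [this]; group
    have hzQ : (k⁻¹ * x * k) ^ 2 ∈ Q hF hm := (Q hF hm).pow_mem hk 2
    rw [e, card_pr_conj]
    refine card_sol_four D E hz1 hz2 (E.Q_fix _ hzQ) hmax hsw ?_ (hQ4 hF hm hz1) hk rfl
    have hv := (card_subtype_eq_filter _).symm.trans (hV hF hm hz1 hz2 hzQ)
    convert hv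
  · intro hx1 hd
    have hodd : ¬ 2 ∣ orderOf x := by
      intro h
      have := h.trans hd
      omega
    rcases cent_cases D E hx1 hodd with ⟨x₀, hx₀, hmem, e⟩ | ⟨a, b, hab, ha, hb, e⟩
    · exfalso
      have h1 : orderOf x ∣ (2 ^ (2 * m + 1)) ^ 2 + 1 := by
        refine Dvd.dvd.trans ?_ (card_tor_dvd D hx₀)
        rw [← e]
        exact orderOf_dvd_cent hF x
      exact hx1 (orderOf_eq_one_iff.1 (ar_gcd1 f4 hodd hd h1))
    · exact card_sol_two D E hmax hx1 hodd hab ha hb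
  · intro hx1 hd
    have hd' : orderOf x ∣ (2 ^ (2 * m + 1)) ^ 2 + 1 := by
      rw [← hmul]; exact Dvd.dvd.mul_right hd _
    have hf := fpf_of_dvd hF hm hx1 hd'
    rw [card_sol_fpf D E hmax hf]
    rcases card_cent_fpf hF hm hf with h | h
    · rw [h, mul_comm]
    · exfalso
      have h1 := orderOf_dvd_cent hF x
      rw [h] at h1
      exact hx1 (orderOf_eq_one_iff.1 (ar_gcd2 f3 (odd_of_fpf D hf) hd h1))
  · intro hx1 hd
    have hd' : orderOf x ∣ (2 ^ (2 * m + 1)) ^ 2 + 1 := by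
      rw [← hmul]; exact Dvd.dvd.mul_left hd _
    have hf := fpf_of_dvd hF hm hx1 hd'
    rw [card_sol_fpf D E hmax hf]
    rcases card_cent_fpf hF hm hf with h | h
    · exfalso
      have h1 := orderOf_dvd_cent hF x
      rw [h] at h1
      exact hx1 (orderOf_eq_one_iff.1 (ar_gcd2 f3 (odd_of_fpf D hf) h1 hd))
    · rw [h, mul_comm]

end Cfsg.Agent.Lib.Helper36Sol5
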