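import Cfsg.Agent.Lib.Helper43SpDefs
import Cfsg.Agent.Lib.Helper43StHubF
import Cfsg.Agent.Lib.Helper77SpCpiQ

set_option autoImplicit false

/-! Project 243, piece `cuinj`. -/

namespace Cfsg.Agent.Lib.Helper52SpCuinj

open Matrix Cfsg.Agent.Lib.Helper43St Cfsg.Agent.Lib.Helper43Sp

variable {m : ℕ} {F : Type*} [Field F] {P : Type*} [Group P] (S : CSys m F P)

variable {Sg : Type*} [Group Sg] (A : StSys m F Sg) (ι : Sg →* P)

-- piece `cuinj`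
theorem u_inj (hm : 3 ≤ m) (hι : ∀ i j t, i ≠ j → ι (A.x i j t) = S.x (Sum.inl i) (Sum.inl j) t)
    (y : P) (hy : y ∈ S.U) (h : S.π y = 1)
    (U_dec : ∀ y : P, y ∈ S.U → ∃ u ∈ A.U, ∃ q ∈ S.Q, y = ι u * q)
    (pi_iota : ∀ g : Sg, ((S.π (ι g) : Sp m F) : Matrix (I m) (I m) F) =
      Matrix.fromBlocks (A.π g).1 0 0 ((A.π g)⁻¹).1ᵀ)
    (q_inj : ∀ q : P, q ∈ S.Q → S.π q = 1 → q = 1) : y = 1 := by
  obtain ⟨u, -, q, hq, rfl⟩ := U_dec y hy
  obtain ⟨B, hB⟩ := Cfsg.Agent.Lib.Helper77SpCpiQ.pi_Q S q hq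
  have h1 : (S.π (ι u)).1 * (S.π q).1 = 1 := by
    have := congrArg Subtype.val h
    rw [map_mul] at this
    exact this
  rw [pi_iota, hB, Matrix.fromBlocks_multiply, ← Matrix.fromBlocks_one] at h1
  have h2 := (Matrix.fromBlocks_inj.1 h1).1
  rw [mul_one, zero_mul, add_zero] at h2
  have h3 : A.π u = 1 := Subtype.ext h2
  have h4 : u = 1 := Cfsg.Agent.Lib.Helper43StHubF.injective A hm (by rw [h3, map_one])
  rw [h4, map_one, one_mul] at h ⊢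
  exact q_inj q hq h

end Cfsg.Agent.Lib.Helper52SpCuinj
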