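import Cfsg.Agent.Lib.Helper43SpDefs
import Cfsg.Agent.Lib.Helper43StHubF

set_option autoImplicit false

/-! Project 243 wave 2 (S2292), piece `cgenUN`: `U ⊔ N = ⊤`.
Extra hypotheses at the end: `w_long` (piece `cwL`), `w_short_long` (piece `cwlong`). -/

namespace Cfsg.Agent.Lib.Helper73SpCgenUN

open Matrix Cfsg.Agent.Lib.Helper43St Cfsg.Agent.Lib.Helper43Sp

variable {m : ℕ} {F : Type*} [Field F] {P : Type*} [Group P] (S : CSys m F P)
variable {Sg : Type*} [Group Sg] (A : StSys m F Sg) (ι : Sg →* P)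

theorem sw_long (i : Fin m) : sw (Sum.inl i : I m) (Sum.inr i) = Equiv.swap (Sum.inl i) (Sum.inr i) := by
  unfold sw
  exact if_pos rfl

theorem gen_UN (hm : 3 ≤ m) (hι : ∀ i j t, i ≠ j → ι (A.x i j t) = S.x (Sum.inl i) (Sum.inl j) t)
    (hw_long : ∀ (i : Fin m) (c d : I m), c ≠ d → ∀ t : F,
      (∃ t', S.w (Sum.inl i) (Sum.inr i) 1 * S.x c d t * (S.w (Sum.inl i) (Sum.inr i) 1)⁻¹ =
        S.x (sw (Sum.inl i) (Sum.inr i) c) (sw (Sum.inl i) (Sum.inr i) d) t') ∧
      (∃ t', (S.w (Sum.inl i) (Sum.inr i) 1)⁻¹ * S.x c d t * S.w (Sum.inl i) (Sum.inr i) 1 =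
        S.x (sw (Sum.inl i) (Sum.inr i) c) (sw (Sum.inl i) (Sum.inr i) d) t'))
    (hw_short_long : ∀ (i j : Fin m), i ≠ j → ∀ (a : I m) (t : F),
      S.w (Sum.inl i) (Sum.inl j) 1 * S.x a (ng a) t * (S.w (Sum.inl i) (Sum.inl j) 1)⁻¹ =
        S.x (pmI (Equiv.swap i j) a) (ng (pmI (Equiv.swap i j) a)) t ∧
      (S.w (Sum.inl i) (Sum.inl j) 1)⁻¹ * S.x a (ng a) t * S.w (Sum.inl i) (Sum.inl j) 1 =
        S.x (pmI (Equiv.swap i j) a) (ng (pmI (Equiv.swap i j) a)) t) :
    S.U ⊔ S.N = ⊤ := by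
  set K : Subgroup P := S.U ⊔ S.N with hK
  have hUK : S.U ≤ K := le_sup_left
  have hNK : S.N ≤ K := le_sup_right
  -- step 1
  have hιw : ∀ i j : Fin m, i ≠ j → ι (A.w i j 1) = S.w (Sum.inl i) (Sum.inl j) 1 := by
    intro i j hij
    unfold StSys.w CSys.w
    rw [map_mul, map_mul, hι i j _ hij, hι j i _ hij.symm]
  have hιK : ∀ g : Sg, ι g ∈ K := by
    intro g
    have h1 : (⊤ : Subgroup Sg) ≤ K.comap ι := by
      rw [← Cfsg.Agent.Lib.Helper43StHubF.gen_UN A hm]
      apply sup_le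
      · unfold StSys.U
        rw [Subgroup.closure_le]
        rintro _ ⟨i, j, t, hij, rfl⟩
        show ι (A.x i j t) ∈ K
        rw [hι i j t hij.ne]
        exact hUK (Subgroup.subset_closure ⟨Sum.inl i, Sum.inl j, t, hij, rfl⟩)
      · unfold StSys.N
        rw [Subgroup.closure_le]
        rintro _ ⟨i, j, hij, rfl⟩
        show ι (A.w i j 1) ∈ K
        have hne : i ≠ j := by
          intro h
          rw [h] at hij
          omega
        rw [hιw i j hne]
        refine hNK (Subgroup.subset_closure ⟨_, _, ⟨?_, ?_⟩, rfl⟩)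
        · simp only [rk, Sum.elim_inl]
          exact hij
        · simp only [rk, Sum.elim_inl]
          exact i.2
    exact h1 (Subgroup.mem_top g)
  have hll : ∀ (i j : Fin m) (t : F), i ≠ j → S.x (Sum.inl i) (Sum.inl j) t ∈ K := by
    intro i j t hij
    rw [← hι i j t hij]
    exact hιK _
  have hwll : ∀ i j : Fin m, i ≠ j → S.w (Sum.inl i) (Sum.inl j) 1 ∈ K := by
    intro i j hij
    rw [← hιw i j hij]
    exact hιK _
  -- step 2
  have hlr : ∀ (i j : Fin m) (t : F), S.x (Sum.inl i) (Sum.inr j) t ∈ K := by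
    intro i j t
    refine hUK (Subgroup.subset_closure ⟨_, _, t, ?_, rfl⟩)
    simp only [rk, Sum.elim_inl, Sum.elim_inr]
    have := i.2
    have := j.2
    omega
  -- step 3
  let L : Fin m := ⟨m - 1, by omega⟩
  have htL : S.w (Sum.inl L) (Sum.inr L) 1 ∈ K := by
    refine hNK (Subgroup.subset_closure ⟨_, _, ⟨?_, ?_⟩, rfl⟩)
    · simp only [rk, Sum.elim_inl, Sum.elim_inr, L]
      omega
    · simp only [rk, Sum.elim_inl, L]
      omega
  -- a general principle: conjugating back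
  have hback : ∀ (i : Fin m), S.w (Sum.inl i) (Sum.inr i) 1 ∈ K → ∀ (c d : I m), c ≠ d →
      (∀ t', S.x (sw (Sum.inl i) (Sum.inr i) c) (sw (Sum.inl i) (Sum.inr i) d) t' ∈ K) →
      ∀ t, S.x c d t ∈ K := by
    intro i hi c d hcd h t
    obtain ⟨t', ht'⟩ := (hw_long i c d hcd t).2
    have e : S.x c d t = S.w (Sum.inl i) (Sum.inr i) 1 *
        ((S.w (Sum.inl i) (Sum.inr i) 1)⁻¹ * S.x c d t * S.w (Sum.inl i) (Sum.inr i) 1) *
        (S.w (Sum.inl i) (Sum.inr i) 1)⁻¹ := by group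
    rw [e, ht']
    exact K.mul_mem (K.mul_mem hi (h t')) (K.inv_mem hi)
  have hrlL : ∀ t, S.x (Sum.inr L) (Sum.inl L) t ∈ K := by
    refine hback L htL _ _ (by simp) ?_
    intro t'
    rw [sw_long, Equiv.swap_apply_right, Equiv.swap_apply_left]
    exact hlr L L t'
  -- step 4
  have hrl : ∀ (i : Fin m) (t : F), S.x (Sum.inr i) (Sum.inl i) t ∈ K := by
    intro i t
    by_cases hiL : i = L
    · rw [hiL]
      exact hrlL t
    · have h1 := (hw_short_long i L hiL (Sum.inr L) t).1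
      have h2 : pmI (Equiv.swap i L) (Sum.inr L : I m) = Sum.inr i := by
        simp only [pmI, Sum.map_inr, Equiv.swap_apply_right]
      rw [h2] at h1
      have h3 : ng (Sum.inr i : I m) = Sum.inl i := rfl
      have h4 : ng (Sum.inr L : I m) = Sum.inl L := rfl
      rw [h3, h4] at h1
      rw [← h1]
      exact K.mul_mem (K.mul_mem (hwll i L hiL) (hrlL t)) (K.inv_mem (hwll i L hiL))
  have ht : ∀ i : Fin m, S.w (Sum.inl i) (Sum.inr i) 1 ∈ K := by
    intro i
    unfold CSys.w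
    exact K.mul_mem (K.mul_mem (hlr i i _) (hrl i _)) (hlr i i _)
  -- step 5
  have hrl' : ∀ (i j : Fin m) (t : F), i ≠ j → S.x (Sum.inr i) (Sum.inl j) t ∈ K := by
    intro i j t hij
    refine hback i (ht i) _ _ (by simp) ?_ t
    intro t'
    rw [sw_long, Equiv.swap_apply_right, Equiv.swap_apply_of_ne_of_ne (by
      intro h
      exact hij (Sum.inl.inj h).symm) (by simp)]
    exact hll i j t' hij
  -- step 6
  have hrr : ∀ (i j : Fin m) (t : F), i ≠ j → S.x (Sum.inr i) (Sum.inr j) t ∈ K := by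
    intro i j t hij
    have hne : ab (Sum.inr i : I m) ≠ ab (Sum.inr j : I m) := by
      simp only [ab, Sum.elim_inr, id]
      exact hij
    rw [S.sym _ _ t hne]
    exact hll j i _ hij.symm
  rw [eq_top_iff, ← S.gen, Subgroup.closure_le]
  rintro _ ⟨a, b, t, hab, rfl⟩
  rcases a with i | i <;> rcases b with j | j
  · exact hll i j t (fun h => hab (by rw [h]))
  · exact hlr i j t
  · by_cases hij : i = j
    · rw [hij]
      exact hrl j t
    · exact hrl' i j t hij
  · exact hrr i j t (fun h => hab (by rw [h]))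

end Cfsg.Agent.Lib.Helper73SpCgenUN
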