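import Cfsg.Agent.Lib.Helper43SpDefs
import Cfsg.Agent.Lib.Helper43StHubF
import Cfsg.Agent.Lib.Helper43GlDefs
import Cfsg.Agent.Lib.Helper43R1Defs
import Cfsg.Agent.Lib.Helper52SpCwh
import Cfsg.Agent.Lib.Helper52SpCuinj
import Cfsg.Agent.Lib.Helper52SpCut
import Cfsg.Agent.Lib.Helper52SpChinj
import Cfsg.Agent.Lib.Helper65Spcw
import Cfsg.Agent.Lib.Helper65Spcxw
import Cfsg.Agent.Lib.Helper1SpCncox
import Cfsg.Agent.Lib.Helper1SpCd1s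
import Cfsg.Agent.Lib.Helper1SpCqinj
import Cfsg.Agent.Lib.Helper36SpCd1l
import Cfsg.Agent.Lib.Helper36SpCiH
import Cfsg.Agent.Lib.Helper36SpCnform
import Cfsg.Agent.Lib.Helper36SpCwSt
import Cfsg.Agent.Lib.Helper77SpCtl
import Cfsg.Agent.Lib.Helper30SpCkdiag
import Cfsg.Agent.Lib.Helper30SpCkconj
import Cfsg.Agent.Lib.Helper30SpCkap
import Cfsg.Agent.Lib.Helper77SpClam
import Cfsg.Agent.Lib.Helper77SpCpiQ
import Cfsg.Agent.Lib.Helper77SpCpiiota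
import Cfsg.Agent.Lib.Helper77SpCpikap
import Cfsg.Agent.Lib.Helper1SpCiota
import Cfsg.Agent.Lib.Helper54SpcwS
import Cfsg.Agent.Lib.Helper54Spcsimple
import Cfsg.Agent.Lib.Helper54SpcLQn
import Cfsg.Agent.Lib.Helper54Spcnact
import Cfsg.Agent.Lib.Helper73SpCUdec
import Cfsg.Agent.Lib.Helper73SpCUAQ
import Cfsg.Agent.Lib.Helper73SpCgenUN
import Cfsg.Agent.Lib.Helper38SpCcomm
import Cfsg.Agent.Lib.Helper38SpCLQ
import Cfsg.Agent.Lib.Helper65Spcbasic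
import Cfsg.Agent.Lib.Helper65Sphxd
import Cfsg.Agent.Lib.Helper36SpDval

set_option autoImplicit false

/-! Project 243, piece `cfinal`: the hub of part C.  All pieces are wired together and
`CSys_injective` (Theorem F of type C) is proved without hypotheses. -/

namespace Cfsg.Agent.Lib.Helper36SpCfinal

open Matrix Cfsg.Agent.Lib.Helper43St Cfsg.Agent.Lib.Helper43Sp Cfsg.Agent.Lib.Helper43P3
open Cfsg.Agent.Lib.Helper43Gl (wv hv)
open Cfsg.Agent.Lib.Helper43R1 (StG)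
open Cfsg.Agent.Lib

variable {m : ℕ} {F : Type*} [Field F] {P : Type*} [Group P] (S : CSys m F P)

theorem x_add (hm : 2 ≤ m) (a b : I m) (hab : a ≠ b) (s t : F) :
    S.x a b (s + t) = S.x a b s * S.x a b t := Helper65Spcbasic.x_add S hm a b hab s t
theorem x_zero (hm : 2 ≤ m) (a b : I m) (hab : a ≠ b) : S.x a b 0 = 1 :=
  Helper65Spcbasic.x_zero S hm a b hab
theorem x_neg (hm : 2 ≤ m) (a b : I m) (hab : a ≠ b) (t : F) : (S.x a b t)⁻¹ = S.x a b (-t) :=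
  Helper65Spcbasic.x_neg S hm a b hab t

theorem x_comm (hm : 2 ≤ m) (a b c d : I m) (hab : a ≠ b) (hcd : c ≠ d) (h1 : b ≠ c) (h2 : a ≠ d)
    (h3 : b ≠ ng d) (h4 : a ≠ ng c) (s t : F) : Commute (S.x a b s) (S.x c d t) :=
  Helper38SpCcomm.x_comm S hm a b c d hab hcd h1 h2 h3 h4 s t

theorem x_chain (a b c : I m) (hab : ab a ≠ ab b) (hbc : ab b ≠ ab c) (hac : ab a ≠ ab c) (s t : F) :
    S.x a b s * S.x b c t * (S.x a b s)⁻¹ * (S.x b c t)⁻¹ = S.x a c (s * t) :=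
  Helper65Spcbasic.x_chain S a b c hab hbc hac s t

theorem w_short_dis (i j : Fin m) (hij : i ≠ j) (c d : I m) (hcd : c ≠ d)
    (h1 : ab c ≠ i) (h2 : ab c ≠ j) (h3 : ab d ≠ i) (h4 : ab d ≠ j) (t : F) :
    Commute (S.w (Sum.inl i) (Sum.inl j) 1) (S.x c d t) :=
  Helper65Spcbasic.w_short_dis S i j hij c d hcd h1 h2 h3 h4 t

theorem w_short (i j : Fin m) (hij : i ≠ j) (c d : I m) (hcd : c ≠ d) (t : F) :
    (∃ t', S.w (Sum.inl i) (Sum.inl j) 1 * S.x c d t * (S.w (Sum.inl i) (Sum.inl j) 1)⁻¹ =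
      S.x (sw (Sum.inl i) (Sum.inl j) c) (sw (Sum.inl i) (Sum.inl j) d) t') ∧
    (∃ t', (S.w (Sum.inl i) (Sum.inl j) 1)⁻¹ * S.x c d t * S.w (Sum.inl i) (Sum.inl j) 1 =
      S.x (sw (Sum.inl i) (Sum.inl j) c) (sw (Sum.inl i) (Sum.inl j) d) t') :=
  Helper54SpcwS.w_short S i j hij c d hcd t (Helper65Spcbasic.w_short_dis S)
    (Helper65Spcw.w_short_quad S) (Helper36SpCwSt.w_short_tri S)

theorem w_long (hm : 2 ≤ m) (i : Fin m) (c d : I m) (hcd : c ≠ d) (t : F) :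
    (∃ t', S.w (Sum.inl i) (Sum.inr i) 1 * S.x c d t * (S.w (Sum.inl i) (Sum.inr i) 1)⁻¹ =
      S.x (sw (Sum.inl i) (Sum.inr i) c) (sw (Sum.inl i) (Sum.inr i) d) t') ∧
    (∃ t', (S.w (Sum.inl i) (Sum.inr i) 1)⁻¹ * S.x c d t * S.w (Sum.inl i) (Sum.inr i) 1 =
      S.x (sw (Sum.inl i) (Sum.inr i) c) (sw (Sum.inl i) (Sum.inr i) d) t') :=
  Helper65Spcw.w_long S hm i c d hcd t

theorem w_short_long (i j : Fin m) (hij : i ≠ j) (a : I m) (t : F) :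
    S.w (Sum.inl i) (Sum.inl j) 1 * S.x a (ng a) t * (S.w (Sum.inl i) (Sum.inl j) 1)⁻¹ =
      S.x (pmI (Equiv.swap i j) a) (ng (pmI (Equiv.swap i j) a)) t ∧
    (S.w (Sum.inl i) (Sum.inl j) 1)⁻¹ * S.x a (ng a) t * S.w (Sum.inl i) (Sum.inl j) 1 =
      S.x (pmI (Equiv.swap i j) a) (ng (pmI (Equiv.swap i j) a)) t :=
  Helper65Spcw.w_short_long S i j hij a t

theorem h_act (hm : 2 ≤ m) (i : Fin m) (u : F) (hu : u ≠ 0) (c d : I m) (hcd : c ≠ d) (t : F) :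
    ∃ t', S.hl i u * S.x c d t * (S.hl i u)⁻¹ = S.x c d t' :=
  Helper65Spcxw.h_act S hm i u hu c d hcd t

/-- the inverse of a long coroot element -/
theorem hl_inv (hm : 2 ≤ m) (i : Fin m) (u : F) (hu : u ≠ 0) : (S.hl i u)⁻¹ = S.hl i u⁻¹ := by
  obtain ⟨k, hk⟩ := Helper65Spcxw.exists_ne hm i
  obtain ⟨f, hf⟩ := S.quad i k hk
  have h2 := Helper65Sphxd.hX_long (F := F) (0 : Fin 2) (Units.mk0 u hu)
  have h3 := Helper65Sphxd.hX_long (F := F) (0 : Fin 2) (Units.mk0 u hu)⁻¹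
  rw [Units.val_mk0] at h2
  rw [Units.val_inv_eq_inv_val, Units.val_mk0] at h3
  have h4 : ((hX (Sum.inl 0) (Sum.inr 0) u : Sp 2 F))⁻¹ = hX (Sum.inl 0) (Sum.inr 0) u⁻¹ := by
    rw [h2, h3, Helper36SpDval.D_inv, Pi.mulSingle_inv]
  have h := congrArg f h4
  rw [map_inv, Helper65Spcxw.map_hX S f hf _ _ Helper65Spcxw.n00,
    Helper65Spcxw.map_hX S f hf _ _ Helper65Spcxw.n00, Helper65Spcxw.e2_l0',
    Helper65Spcxw.e2_r0'] at h
  exact h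

theorem h_act_inv (hm : 2 ≤ m) (i : Fin m) (u : F) (hu : u ≠ 0) (c d : I m) (hcd : c ≠ d) (t : F) :
    ∃ t', (S.hl i u)⁻¹ * S.x c d t * S.hl i u = S.x c d t' := by
  obtain ⟨t', ht'⟩ := h_act S hm i u⁻¹ (inv_ne_zero hu) c d hcd t
  refine ⟨t', ?_⟩
  rw [← hl_inv S hm i u hu, inv_inv] at ht'
  exact ht'

theorem hh_short (i j : Fin m) (hij : i ≠ j) (u : F) (hu : u ≠ 0) :
    S.hh (Sum.inl i) (Sum.inl j) u = S.hl i u * (S.hl j u)⁻¹ :=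
  Helper65Spcxw.hh_short S i j hij u hu

theorem x_mul_w_short (i j : Fin m) (hij : i ≠ j) (u : F) (hu : u ≠ 0) :
    S.x (Sum.inl i) (Sum.inl j) u * S.w (Sum.inl i) (Sum.inl j) 1 =
      S.x (Sum.inl j) (Sum.inl i) u⁻¹ * S.hh (Sum.inl i) (Sum.inl j) (-u) *
        S.x (Sum.inl i) (Sum.inl j) (-u⁻¹) := Helper65Spcxw.x_mul_w_short S i j hij u hu
theorem x_mul_w_long (hm : 2 ≤ m) (i : Fin m) (u : F) (hu : u ≠ 0) :
    S.x (Sum.inl i) (Sum.inr i) u * S.w (Sum.inl i) (Sum.inr i) 1 =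
      S.x (Sum.inr i) (Sum.inl i) u⁻¹ * S.hl i (-u) * S.x (Sum.inl i) (Sum.inr i) (-u⁻¹) :=
  Helper65Spcxw.x_mul_w_long S hm i u hu

theorem w_sq_short (i j : Fin m) (hij : i ≠ j) :
    S.w (Sum.inl i) (Sum.inl j) 1 * S.w (Sum.inl i) (Sum.inl j) 1 = S.hh (Sum.inl i) (Sum.inl j) (-1) :=
  Helper65Spcxw.w_sq_short S i j hij
theorem w_sq_long (hm : 2 ≤ m) (i : Fin m) :
    S.w (Sum.inl i) (Sum.inr i) 1 * S.w (Sum.inl i) (Sum.inr i) 1 = S.hl i (-1) :=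
  Helper65Spcxw.w_sq_long S hm i

/-! ## the three homomorphisms into `P` -/

theorem exists_iota [Finite F] (hm : 3 ≤ m) :
    ∃ (A : StSys m F (StG m F)) (ι : StG m F →* P),
      ∀ i j t, i ≠ j → ι (A.x i j t) = S.x (Sum.inl i) (Sum.inl j) t :=
  Helper1SpCiota.exists_iota S hm (x_add S (by omega)) (x_comm S (by omega)) (x_chain S)

theorem exists_lam (hm : 2 ≤ m) (i : Fin m) :
    ∃ f : SpecialLinearGroup (Fin 2) F →* P, (∀ t, f (tv 0 1 t) = S.x (Sum.inl i) (Sum.inr i) t) ∧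
      (∀ t, f (tv 1 0 t) = S.x (Sum.inr i) (Sum.inl i) t) := Helper77SpClam.exists_lam S hm i

theorem exists_kap (hm : 2 ≤ m) :
    ∃ κ : (Fin m → SpecialLinearGroup (Fin 2) F) →* P,
      ∀ i t, κ (Pi.mulSingle i (tv 0 1 t)) = S.x (Sum.inl i) (Sum.inr i) t ∧
        κ (Pi.mulSingle i (tv 1 0 t)) = S.x (Sum.inr i) (Sum.inl i) t :=
  Helper30SpCkap.exists_kap S hm (exists_lam S hm)

section hom

variable {Sg : Type*} [Group Sg] (A : StSys m F Sg) (ι : Sg →* P)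
  (κ : (Fin m → SpecialLinearGroup (Fin 2) F) →* P)

theorem pi_iota (hι : ∀ i j t, i ≠ j → ι (A.x i j t) = S.x (Sum.inl i) (Sum.inl j) t) (g : Sg) :
    ((S.π (ι g) : Sp m F) : Matrix (I m) (I m) F) =
      Matrix.fromBlocks (A.π g).1 0 0 ((A.π g)⁻¹).1ᵀ := Helper77SpCpiiota.pi_iota S A ι hι g

theorem pi_kap (hκ : ∀ i t, κ (Pi.mulSingle i (tv 0 1 t)) = S.x (Sum.inl i) (Sum.inr i) t ∧
        κ (Pi.mulSingle i (tv 1 0 t)) = S.x (Sum.inr i) (Sum.inl i) t)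
    (z : Fin m → SpecialLinearGroup (Fin 2) F) :
    ((S.π (κ z) : Sp m F) : Matrix (I m) (I m) F) = Km z := Helper77SpCpikap.pi_kap S κ hκ z

/-! ## the unipotent part -/

theorem q_inj (hm : 2 ≤ m) (q : P) (hq : q ∈ S.Q) (h : S.π q = 1) : q = 1 :=
  Helper1SpCqinj.q_inj S hm q hq h (x_add S hm) (x_comm S hm)

theorem LQ (hm : 2 ≤ m) (hι : ∀ i j t, i ≠ j → ι (A.x i j t) = S.x (Sum.inl i) (Sum.inl j) t)
    (g : Sg) (q : P) (hq : q ∈ S.Q) : ι g * q * (ι g)⁻¹ ∈ S.Q :=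
  Helper54SpcLQn.LQ S A ι hm hι g q hq (Helper38SpCLQ.LQ_gen S)

theorem U_dec (hm : 2 ≤ m) (hι : ∀ i j t, i ≠ j → ι (A.x i j t) = S.x (Sum.inl i) (Sum.inl j) t)
    (y : P) (hy : y ∈ S.U) : ∃ u ∈ A.U, ∃ q ∈ S.Q, y = ι u * q :=
  Helper73SpCUdec.U_dec S A ι hm hι y hy (LQ S A ι hm hι)

theorem iota_U_le (hι : ∀ i j t, i ≠ j → ι (A.x i j t) = S.x (Sum.inl i) (Sum.inl j) t)
    (u : Sg) (hu : u ∈ A.U) : ι u ∈ S.U := Helper54Spcsimple.iota_U_le S A ι hι u hu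
theorem Q_le_U : S.Q ≤ S.U := Helper54Spcsimple.Q_le_U S

theorem u_inj (hm : 3 ≤ m) (hι : ∀ i j t, i ≠ j → ι (A.x i j t) = S.x (Sum.inl i) (Sum.inl j) t)
    (y : P) (hy : y ∈ S.U) (h : S.π y = 1) : y = 1 :=
  Helper52SpCuinj.u_inj S A ι hm hι y hy h (U_dec S A ι (by omega) hι) (pi_iota S A ι hι)
    (q_inj S (by omega))

theorem ut_U (y : P) (hy : y ∈ S.U) :
    (∀ a b, rk b < rk a → (S.π y).1 a b = 0) ∧ (∀ a, (S.π y).1 a a = 1) :=
  Helper52SpCut.ut_U S y hy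
theorem ut_H (hm : 2 ≤ m) (η : P) (hη : η ∈ S.H) : ∀ a b, a ≠ b → (S.π η).1 a b = 0 :=
  Helper52SpCut.ut_H S hm η hη Helper65Sphxd.hX_long

theorem d1_short (hm : 3 ≤ m) (hι : ∀ i j t, i ≠ j → ι (A.x i j t) = S.x (Sum.inl i) (Sum.inl j) t)
    (i j : Fin m) (hij : j.val = i.val + 1) (y : P) (hy : y ∈ S.U) :
    ∃ a y', y = S.x (Sum.inl i) (Sum.inl j) a * y' ∧
      (S.w (Sum.inl i) (Sum.inl j) 1)⁻¹ * y' * S.w (Sum.inl i) (Sum.inl j) 1 ∈ S.U :=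
  Helper1SpCd1s.d1_short S A ι hm hι i j hij y hy (U_dec S A ι (by omega) hι)
    (LQ S A ι (by omega) hι) (iota_U_le S A ι hι) (Q_le_U S)

theorem Q_dec (hm : 2 ≤ m) (L : Fin m) (q : P) (hq : q ∈ S.Q) :
    ∃ c, ∃ q' ∈ S.Q' L, q = S.x (Sum.inl L) (Sum.inr L) c * q' :=
  Helper54SpcLQn.Q_dec S hm L q hq (x_comm S)

theorem UA_Q' (hm : 2 ≤ m) (hι : ∀ i j t, i ≠ j → ι (A.x i j t) = S.x (Sum.inl i) (Sum.inl j) t)
    (L : Fin m) (hL : L.val + 1 = m) (u : Sg) (hu : u ∈ A.U) (q : P) (hq : q ∈ S.Q' L) :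
    ι u * q * (ι u)⁻¹ ∈ S.Q' L ∧ (ι u)⁻¹ * q * ι u ∈ S.Q' L :=
  Helper73SpCUAQ.UA_Q' S A ι hm hι L hL u hu q hq (Helper38SpCLQ.LQ_gen' S hm)
theorem UA_x (hm : 2 ≤ m) (hι : ∀ i j t, i ≠ j → ι (A.x i j t) = S.x (Sum.inl i) (Sum.inl j) t)
    (L : Fin m) (hL : L.val + 1 = m) (u : Sg) (hu : u ∈ A.U) (c : F) :
    (S.x (Sum.inl L) (Sum.inr L) c)⁻¹ * (ι u * S.x (Sum.inl L) (Sum.inr L) c * (ι u)⁻¹) ∈ S.Q' L :=
  Helper73SpCUAQ.UA_x S A ι hm hι L hL u hu c (Helper38SpCLQ.LQ_gen' S hm)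
    (Helper38SpCLQ.LQ_gen'' S hm)

theorem tl_UA (hm : 2 ≤ m) (hι : ∀ i j t, i ≠ j → ι (A.x i j t) = S.x (Sum.inl i) (Sum.inl j) t)
    (L : Fin m) (hL : L.val + 1 = m) (u : Sg) (hu : u ∈ A.U) :
    (S.w (Sum.inl L) (Sum.inr L) 1)⁻¹ * ι u * S.w (Sum.inl L) (Sum.inr L) 1 ∈ S.U :=
  Helper77SpCtl.tl_UA S A ι hm hι L hL u hu (w_long S hm)
theorem tl_Q' (hm : 2 ≤ m) (L : Fin m) (hL : L.val + 1 = m) (q : P) (hq : q ∈ S.Q' L) :
    (S.w (Sum.inl L) (Sum.inr L) 1)⁻¹ * q * S.w (Sum.inl L) (Sum.inr L) 1 ∈ S.U :=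
  Helper77SpCtl.tl_Q' S hm L hL q hq (w_long S hm)

theorem d1_long (hm : 3 ≤ m) (hι : ∀ i j t, i ≠ j → ι (A.x i j t) = S.x (Sum.inl i) (Sum.inl j) t)
    (L : Fin m) (hL : L.val + 1 = m) (y : P) (hy : y ∈ S.U) :
    ∃ a y', y = S.x (Sum.inl L) (Sum.inr L) a * y' ∧
      (S.w (Sum.inl L) (Sum.inr L) 1)⁻¹ * y' * S.w (Sum.inl L) (Sum.inr L) 1 ∈ S.U :=
  Helper36SpCd1l.d1_long S A ι hm hι L hL y hy (U_dec S A ι (by omega) hι)
    (Q_dec S (by omega) L) (UA_x S A ι (by omega) hι L hL) (tl_UA S A ι (by omega) hι L hL)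
    (tl_Q' S (by omega) L hL)

/-! ## torus and Weyl group -/

theorem simple_cases (a b : I m) (h : Simple a b) :
    (∃ i j : Fin m, j.val = i.val + 1 ∧ a = Sum.inl i ∧ b = Sum.inl j) ∨
    (∃ L : Fin m, L.val + 1 = m ∧ a = Sum.inl L ∧ b = Sum.inr L) :=
  Helper54Spcsimple.simple_cases a b h

theorem n_act (hm : 2 ≤ m) (ν : P) (hν : ν ∈ S.N) :
    ∃ σ : Equiv.Perm (I m), ∀ c d t, c ≠ d → ∃ t', ν * S.x c d t * ν⁻¹ = S.x (σ c) (σ d) t' :=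
  Helper54Spcnact.n_act S hm ν hν (w_short S) (w_long S)

theorem w_hl (hm : 2 ≤ m) (a b : I m) (h : Simple a b) (k : Fin m) (u : F) (hu : u ≠ 0) :
    S.w a b 1 * S.hl k u * (S.w a b 1)⁻¹ ∈ S.H ∧ (S.w a b 1)⁻¹ * S.hl k u * S.w a b 1 ∈ S.H :=
  Helper52SpCwh.w_hl S hm a b h k u hu (w_short_long S)

theorem n_H (hm : 2 ≤ m) (ν : P) (hν : ν ∈ S.N) (η : P) (hη : η ∈ S.H) : ν * η * ν⁻¹ ∈ S.H :=
  Helper54Spcnact.n_H S hm ν hν η hη (w_hl S)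

theorem h_U (hm : 2 ≤ m) (η : P) (hη : η ∈ S.H) (y : P) (hy : y ∈ S.U) : η * y * η⁻¹ ∈ S.U :=
  Helper54Spcnact.h_U S hm η hη y hy (h_act S) (h_act_inv S)

theorem gen_UN (hm : 3 ≤ m) (hι : ∀ i j t, i ≠ j → ι (A.x i j t) = S.x (Sum.inl i) (Sum.inl j) t) :
    S.U ⊔ S.N = ⊤ :=
  Helper73SpCgenUN.gen_UN S A ι hm hι (w_long S (by omega)) (w_short_long S)

/-- monomial 2 x 2 matrices -/
def Mon2 (g : SpecialLinearGroup (Fin 2) F) : Prop :=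
  (g 0 1 = 0 ∧ g 1 0 = 0) ∨ (g 0 0 = 0 ∧ g 1 1 = 0)

theorem k_conj (hκ : ∀ i t, κ (Pi.mulSingle i (tv 0 1 t)) = S.x (Sum.inl i) (Sum.inr i) t ∧
        κ (Pi.mulSingle i (tv 1 0 t)) = S.x (Sum.inr i) (Sum.inl i) t)
    (i j : Fin m) (hij : i ≠ j) (z : Fin m → SpecialLinearGroup (Fin 2) F) :
    S.w (Sum.inl i) (Sum.inl j) 1 * κ z * (S.w (Sum.inl i) (Sum.inl j) 1)⁻¹ =
      κ (fun k => z (Equiv.swap i j k)) ∧
    (S.w (Sum.inl i) (Sum.inl j) 1)⁻¹ * κ z * S.w (Sum.inl i) (Sum.inl j) 1 =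
      κ (fun k => z (Equiv.swap i j k)) :=
  Helper30SpCkconj.k_conj S κ hκ i j hij z (w_short_long S)

theorem n_form (hm : 2 ≤ m) (hι : ∀ i j t, i ≠ j → ι (A.x i j t) = S.x (Sum.inl i) (Sum.inl j) t)
    (hκ : ∀ i t, κ (Pi.mulSingle i (tv 0 1 t)) = S.x (Sum.inl i) (Sum.inr i) t ∧
        κ (Pi.mulSingle i (tv 1 0 t)) = S.x (Sum.inr i) (Sum.inl i) t)
    (ν : P) (hν : ν ∈ S.N) :
    ∃ n ∈ A.N, ∃ z : Fin m → SpecialLinearGroup (Fin 2) F, (∀ i, Mon2 (z i)) ∧ ν = ι n * κ z :=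
  Helper36SpCnform.n_form S A ι κ hm hι hκ ν hν (k_conj S κ hκ)

theorem k_diag (hκ : ∀ i t, κ (Pi.mulSingle i (tv 0 1 t)) = S.x (Sum.inl i) (Sum.inr i) t ∧
        κ (Pi.mulSingle i (tv 1 0 t)) = S.x (Sum.inr i) (Sum.inl i) t)
    (z : Fin m → SpecialLinearGroup (Fin 2) F) (hz : ∀ i, z i 0 1 = 0 ∧ z i 1 0 = 0) : κ z ∈ S.H :=
  Helper30SpCkdiag.k_diag S κ hκ z hz
theorem h_form (hκ : ∀ i t, κ (Pi.mulSingle i (tv 0 1 t)) = S.x (Sum.inl i) (Sum.inr i) t ∧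
        κ (Pi.mulSingle i (tv 1 0 t)) = S.x (Sum.inr i) (Sum.inl i) t)
    (η : P) (hη : η ∈ S.H) : ∃ z, η = κ z := Helper30SpCkdiag.h_form S κ hκ η hη

theorem iota_H (hι : ∀ i j t, i ≠ j → ι (A.x i j t) = S.x (Sum.inl i) (Sum.inl j) t)
    (n : Sg) (hn : n ∈ A.H) : ι n ∈ S.H := Helper36SpCiH.iota_H S A ι hι n hn (hh_short S)

theorem n_cox (hm : 3 ≤ m) (hι : ∀ i j t, i ≠ j → ι (A.x i j t) = S.x (Sum.inl i) (Sum.inl j) t)
    (hκ : ∀ i t, κ (Pi.mulSingle i (tv 0 1 t)) = S.x (Sum.inl i) (Sum.inr i) t ∧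
        κ (Pi.mulSingle i (tv 1 0 t)) = S.x (Sum.inr i) (Sum.inl i) t)
    (ν : P) (hν : ν ∈ S.N) (h : ∀ a b, rk b < rk a → (S.π ν).1 a b = 0) : ν ∈ S.H :=
  Helper1SpCncox.n_cox S A ι κ hm hι hκ ν hν h (n_form S A ι κ (by omega) hι hκ)
    (pi_iota S A ι hι) (pi_kap S κ hκ) (k_diag S κ hκ) (iota_H S A ι hι)

theorem h_inj (hκ : ∀ i t, κ (Pi.mulSingle i (tv 0 1 t)) = S.x (Sum.inl i) (Sum.inr i) t ∧
        κ (Pi.mulSingle i (tv 1 0 t)) = S.x (Sum.inr i) (Sum.inl i) t)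
    (η : P) (hη : η ∈ S.H) (h : S.π η = 1) : η = 1 :=
  Helper52SpChinj.h_inj S κ hκ η hη h (h_form S κ hκ)

/-! ## assembly (piece `cfinal`: replace the sorry-ed pieces by the landed files) -/

theorem bn (hm : 2 ≤ m) : BN S.U S.H (S.N : Set P) where
  HU := h_U S hm
  WH := fun w hw η hη => n_H S hm w hw η hη
  one_mem := S.N.one_mem

theorem rk_inj : Function.Injective (rk : I m → ℕ) := by
  intro a b h
  rcases a with a | a <;> rcases b with b | b <;> simp only [rk, Sum.elim_inl, Sum.elim_inr] at h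
  · exact congrArg _ (Fin.ext h)
  · have := a.2; have := b.2; omega
  · have := a.2; have := b.2; omega
  · have := a.2; have := b.2
    exact congrArg _ (Fin.ext (by omega))

theorem hl_mem (i : Fin m) (u : F) (hu : u ≠ 0) : S.hl i u ∈ S.H :=
  Subgroup.subset_closure ⟨i, u, hu, rfl⟩

theorem hh_short_mem (i j : Fin m) (hij : i ≠ j) (u : F) (hu : u ≠ 0) :
    S.hh (Sum.inl i) (Sum.inl j) u ∈ S.H := by
  rw [hh_short S i j hij u hu]
  exact S.H.mul_mem (hl_mem S i u hu) (S.H.inv_mem (hl_mem S j u hu))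

theorem inC_mul_w (hm : 3 ≤ m)
    (hι : ∀ i j t, i ≠ j → ι (A.x i j t) = S.x (Sum.inl i) (Sum.inl j) t)
    (a b : I m) (hab : Simple a b) {g : P}
    (hg : InC S.U S.H (S.N : Set P) g) : InC S.U S.H (S.N : Set P) (g * S.w a b 1) := by
  have hm2 : 2 ≤ m := by omega
  have hlt : rk a < rk b := by rw [hab.1]; omega
  have hne : a ≠ b := fun h => by rw [h] at hlt; omega
  refine (bn S hm2).inC_mul_ts (S.x a b) (S.x b a) (S.w a b 1) ?_ ?_ ?_ ?_ ?_ ?_ hg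
  · intro y hy
    rcases simple_cases a b hab with ⟨i, j, hij, rfl, rfl⟩ | ⟨L, hL, rfl, rfl⟩
    · exact d1_short S A ι hm hι i j hij y hy
    · exact d1_long S A ι hm hι L hL y hy
  · intro u hu
    rcases simple_cases a b hab with ⟨i, j, hij, rfl, rfl⟩ | ⟨L, hL, rfl, rfl⟩
    · have hij' : i ≠ j := fun h => by rw [h] at hij; omega
      exact ⟨u⁻¹, _, hh_short_mem S i j hij' (-u) (neg_ne_zero.2 hu), -u⁻¹,
        x_mul_w_short S i j hij' u hu⟩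
    · exact ⟨u⁻¹, _, hl_mem S L (-u) (neg_ne_zero.2 hu), -u⁻¹, x_mul_w_long S hm2 L u hu⟩
  · intro w hw
    obtain ⟨σ, hσ⟩ := n_act S hm2 w hw
    rcases lt_or_gt_of_ne (rk_inj.ne (σ.injective.ne hne)) with h | h
    · left
      intro t
      obtain ⟨t', ht'⟩ := hσ a b t hne
      rw [ht']
      exact Subgroup.subset_closure ⟨_, _, t', h, rfl⟩
    · right
      intro t
      obtain ⟨t', ht'⟩ := hσ b a t hne.symm
      rw [ht']
      exact Subgroup.subset_closure ⟨_, _, t', h, rfl⟩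
  · intro w hw
    exact ⟨1, S.H.one_mem, w * S.w a b 1,
      S.N.mul_mem hw (Subgroup.subset_closure ⟨a, b, hab, rfl⟩), by simp⟩
  · intro t
    exact Subgroup.subset_closure ⟨a, b, t, hlt, rfl⟩
  · exact x_zero S hm2 a b hne

/-- the subgroup of elements which stabilise `U H N U` under right multiplication -/
def stab : Subgroup P where
  carrier := {ν | (∀ g, InC S.U S.H (S.N : Set P) g → InC S.U S.H (S.N : Set P) (g * ν)) ∧
    (∀ g, InC S.U S.H (S.N : Set P) g → InC S.U S.H (S.N : Set P) (g * ν⁻¹))}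
  one_mem' := by constructor <;> intro g hg <;> simpa using hg
  mul_mem' := by
    rintro a b ⟨ha1, ha2⟩ ⟨hb1, hb2⟩
    constructor
    · intro g hg
      rw [← mul_assoc]
      exact hb1 _ (ha1 _ hg)
    · intro g hg
      rw [_root_.mul_inv_rev, ← mul_assoc]
      exact ha2 _ (hb2 _ hg)
  inv_mem' := by
    rintro a ⟨ha1, ha2⟩
    refine ⟨ha2, ?_⟩
    intro g hg
    rw [inv_inv]
    exact ha1 g hg

theorem w_sq_mem (hm : 2 ≤ m) (a b : I m) (hab : Simple a b) : S.w a b 1 * S.w a b 1 ∈ S.H := by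
  rcases simple_cases a b hab with ⟨i, j, hij, rfl, rfl⟩ | ⟨L, hL, rfl, rfl⟩
  · have hij' : i ≠ j := fun h => by rw [h] at hij; omega
    rw [w_sq_short S i j hij']
    exact hh_short_mem S i j hij' (-1) (by simp)
  · rw [w_sq_long S hm L]
    exact hl_mem S L (-1) (by simp)

theorem inC_all (hm : 3 ≤ m)
    (hι : ∀ i j t, i ≠ j → ι (A.x i j t) = S.x (Sum.inl i) (Sum.inl j) t) (g : P) :
    InC S.U S.H (S.N : Set P) g := by
  have hm2 : 2 ≤ m := by omega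
  have hD := bn S hm2
  have hU : S.U ≤ stab S := fun y hy =>
    ⟨fun g hg => hD.inC_mul_U hg hy, fun g hg => hD.inC_mul_U hg (S.U.inv_mem hy)⟩
  have hN : S.N ≤ stab S := by
    unfold CSys.N
    rw [Subgroup.closure_le]
    rintro _ ⟨a, b, hab, rfl⟩
    refine ⟨fun g hg => inC_mul_w S A ι hm hι a b hab hg, fun g hg => ?_⟩
    have e : g * (S.w a b 1)⁻¹ = g * S.w a b 1 * (S.w a b 1 * S.w a b 1)⁻¹ := by group
    rw [e]
    exact hD.inC_mul_H (inC_mul_w S A ι hm hι a b hab hg) (S.H.inv_mem (w_sq_mem S hm2 a b hab))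
  have hmem : g ∈ stab S := by
    have : S.U ⊔ S.N ≤ stab S := sup_le hU hN
    rw [gen_UN S A ι hm hι] at this
    exact this trivial
  simpa using hmem.1 1 hD.inC_one

theorem injective_aux (hm : 3 ≤ m)
    (hι : ∀ i j t, i ≠ j → ι (A.x i j t) = S.x (Sum.inl i) (Sum.inl j) t)
    (hκ : ∀ i t, κ (Pi.mulSingle i (tv 0 1 t)) = S.x (Sum.inl i) (Sum.inr i) t ∧
        κ (Pi.mulSingle i (tv 1 0 t)) = S.x (Sum.inr i) (Sum.inl i) t) :
    Function.Injective S.π := by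
  have hm2 : 2 ≤ m := by omega
  rw [injective_iff_map_eq_one]
  intro g hg
  obtain ⟨y1, h1, η, hη, w, hw, y2, h2, rfl⟩ := inC_all S A ι hm hι g
  have hw' : S.π w = S.π η⁻¹ * S.π y1⁻¹ * S.π y2⁻¹ := by
    have : S.π y1 * S.π η * S.π w * S.π y2 = 1 := by simpa using hg
    have e : S.π w = (S.π η)⁻¹ * (S.π y1)⁻¹ * (S.π y1 * S.π η * S.π w * S.π y2) * (S.π y2)⁻¹ := by
      group
    rw [e, this]
    simp
  have bt : ∀ z : P, (∀ a b, rk b < rk a → (S.π z).1 a b = 0) → (S.π z).1.BlockTriangular rk :=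
    fun z hz a b hab => hz a b hab
  have hwH : w ∈ S.H := by
    refine n_cox S A ι κ hm hι hκ w hw ?_
    have b1 : (S.π η⁻¹).1.BlockTriangular rk :=
      bt _ (fun a b hab => ut_H S hm2 _ (S.H.inv_mem hη) a b (fun h => by rw [h] at hab; omega))
    have b2 := bt _ (ut_U S _ (S.U.inv_mem h1)).1
    have b3 := bt _ (ut_U S _ (S.U.inv_mem h2)).1
    have b4 := (b1.mul b2).mul b3
    intro a b hab
    rw [hw']
    exact b4 hab
  set η' := η * w with hη'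
  have hη'H : η' ∈ S.H := S.H.mul_mem hη hwH
  set y := y1 * (η' * y2 * η'⁻¹) with hy
  have hyU : y ∈ S.U := S.U.mul_mem h1 (h_U S hm2 η' hη'H y2 h2)
  have hgy : y1 * η * w * y2 = y * η' := by rw [hy, hη']; group
  rw [hgy] at hg ⊢
  have hm' : (S.π y).1 * (S.π η').1 = 1 := by
    have := congrArg Subtype.val hg
    simpa using this
  have hdiag : ∀ a, (S.π η').1 a a = 1 := by
    intro a
    have := congrFun (congrFun hm' a) a
    rw [Matrix.mul_apply, Finset.sum_eq_single a] at this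
    · rw [(ut_U S y hyU).2 a] at this
      simpa using this
    · intro b _ hb
      rw [ut_H S hm2 η' hη'H b a hb, mul_zero]
    · simp
  have hη1 : S.π η' = 1 := by
    apply Subtype.ext
    ext a b
    by_cases hab : a = b
    · subst hab; simp [hdiag a]
    · rw [ut_H S hm2 η' hη'H a b hab]; simp [hab]
  have hy1 : S.π y = 1 := by
    rw [map_mul, hη1, mul_one] at hg
    exact hg
  rw [u_inj S A ι hm hι y hyU hy1, h_inj S κ hκ η' hη'H hη1, one_mul]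

end hom

/-- **Theorem F of type C** -/
theorem CSys_injective [Finite F] (hm : 3 ≤ m) : Function.Injective S.π := by
  obtain ⟨A, ι, hι⟩ := exists_iota S hm
  obtain ⟨κ, hκ⟩ := exists_kap S (by omega)
  exact injective_aux S A ι κ hm hι hκ

end Cfsg.Agent.Lib.Helper36SpCfinal
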