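import Mathlib
import Cfsg.Prelude.Def_Solvable

set_option autoImplicit false

namespace Cfsg.Agent.Lib.Helper75Frobenius

open Pointwise Cfsg

universe u v

theorem mem_conj_smul {G : Type*} [Group G] (g y : G) (M : Subgroup G) :
    y ∈ MulAut.conj g • M ↔ g⁻¹ * y * g ∈ M := by
  rw [Subgroup.mem_pointwise_smul_iff_inv_smul_mem]
  simp [MulAut.smul_def]

/-- elementwise form of the definition of a Frobenius complement -/
theorem isFrobeniusComplement_iff {G : Type*} [Group G] (H : Subgroup G) :
    IsFrobeniusComplement H ↔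
      H ≠ ⊥ ∧ H ≠ ⊤ ∧ ∀ g : G, g ∉ H → ∀ x ∈ H, g⁻¹ * x * g ∈ H → x = 1 := by
  unfold IsFrobeniusComplement
  refine and_congr Iff.rfl (and_congr Iff.rfl (forall_congr' fun g => imp_congr Iff.rfl ?_))
  rw [eq_bot_iff]
  constructor
  · intro h x hx hx2
    have : x ∈ H ⊓ MulAut.conj g • H := ⟨hx, (mem_conj_smul g x H).2 hx2⟩
    exact (Subgroup.mem_bot).1 (h this)
  · rintro h x ⟨hx, hx2⟩
    exact (Subgroup.mem_bot).2 (h x hx ((mem_conj_smul g x H).1 hx2))

theorem mem_frobeniusKernel_iff {G : Type*} [Group G] (H : Subgroup G) (x : G) :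
    x ∈ frobeniusKernel H ↔ x = 1 ∨ ∀ g : G, g⁻¹ * x * g ∉ H := by
  unfold frobeniusKernel
  simp only [Set.mem_ofPred_eq, mem_conj_smul]

/-- Frobenius complements are transported by isomorphisms. -/
theorem isFrobeniusComplement_map {G G' : Type*} [Group G] [Group G'] (e : G ≃* G') (H : Subgroup G)
    (h : IsFrobeniusComplement H) : IsFrobeniusComplement (H.map e.toMonoidHom) := by
  rw [isFrobeniusComplement_iff] at h ⊢
  obtain ⟨h1, h2, h3⟩ := h
  have hmem : ∀ y : G, e y ∈ H.map e.toMonoidHom ↔ y ∈ H := by
    intro y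
    constructor
    · rintro ⟨z, hz, hzy⟩
      have : z = y := e.injective hzy
      rw [← this]; exact hz
    · intro hy; exact ⟨y, hy, rfl⟩
  refine ⟨?_, ?_, ?_⟩
  · intro hb
    apply h1
    rw [eq_bot_iff]
    intro y hy
    have : e y ∈ H.map e.toMonoidHom := (hmem y).2 hy
    rw [hb, Subgroup.mem_bot] at this
    rw [Subgroup.mem_bot]
    exact e.injective (by rw [this, map_one])
  · intro ht
    apply h2
    rw [eq_top_iff]
    intro y _
    rw [← hmem, ht]; trivial
  · intro g hg x hx hx2
    obtain ⟨g, rfl⟩ := e.surjective g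
    obtain ⟨x, rfl⟩ := e.surjective x
    rw [hmem] at hg hx
    rw [← map_inv, ← map_mul, ← map_mul, hmem] at hx2
    rw [h3 g hg x hx hx2, map_one]

theorem card_frobeniusKernel_map {G G' : Type*} [Group G] [Group G'] (e : G ≃* G') (H : Subgroup G) :
    Nat.card (frobeniusKernel (H.map e.toMonoidHom)) = Nat.card (frobeniusKernel H) := by
  have hmem : ∀ y : G, e y ∈ H.map e.toMonoidHom ↔ y ∈ H := by
    intro y
    constructor
    · rintro ⟨z, hz, hzy⟩
      have : z = y := e.injective hzy
      rw [← this]; exact hz
    · intro hy; exact ⟨y, hy, rfl⟩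
  symm
  refine Nat.card_congr (Equiv.subtypeEquiv e.toEquiv ?_)
  intro x
  change x ∈ frobeniusKernel H ↔ e x ∈ frobeniusKernel (H.map e.toMonoidHom)
  rw [mem_frobeniusKernel_iff, mem_frobeniusKernel_iff]
  refine or_congr ?_ ?_
  · constructor
    · rintro rfl; exact map_one e
    · intro h; exact e.injective (by rw [h, map_one])
  · constructor
    · intro h g
      obtain ⟨g, rfl⟩ := e.surjective g
      rw [← map_inv, ← map_mul, ← map_mul, hmem]
      exact h g
    · intro h g
      have := h (e g)
      rwa [← map_inv, ← map_mul, ← map_mul, hmem] at this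

/-- Move a Frobenius complement in a finite group of any universe to `Type`. -/
theorem transport {L0 : Type u} [Group L0] [Finite L0] (C0 : Subgroup L0)
    (h : IsFrobeniusComplement C0) :
    ∃ (L : Type) (_ : Group L) (_ : Finite L) (C : Subgroup L), IsFrobeniusComplement C ∧
      Nonempty (C0 ≃* C) ∧ Nat.card (frobeniusKernel C) = Nat.card (frobeniusKernel C0) := by
  have : Small.{0} L0 := Countable.toSmall L0
  let e' : L0 ≃* Shrink.{0} L0 := (Shrink.mulEquiv (α := L0)).symm
  have : Finite (Shrink.{0} L0) := Finite.of_equiv _ e'.toEquiv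
  exact ⟨Shrink.{0} L0, inferInstance, inferInstance, C0.map e'.toMonoidHom,
    isFrobeniusComplement_map e' C0 h, ⟨e'.subgroupMap C0⟩, card_frobeniusKernel_map e' C0⟩

section Semidirect

variable {H : Type u} {K : Type v} [Group H] [Group K]

open SemidirectProduct

theorem mem_range_inr_iff (φ : H →* MulAut K) (x : K ⋊[φ] H) :
    x ∈ (inr : H →* K ⋊[φ] H).range ↔ x.left = 1 := by
  constructor
  · rintro ⟨h, rfl⟩; rfl
  · intro hx
    exact ⟨x.right, by ext <;> simp [hx]⟩

theorem isFrobeniusComplement_range_inr [Nontrivial H] [Nontrivial K] (φ : H →* MulAut K)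
    (hfpf : ∀ h : H, h ≠ 1 → ∀ k : K, φ h k = k → k = 1) :
    IsFrobeniusComplement (inr : H →* K ⋊[φ] H).range := by
  rw [isFrobeniusComplement_iff]
  refine ⟨?_, ?_, ?_⟩
  · intro hb
    obtain ⟨h, hh⟩ := exists_ne (1 : H)
    have : (inr h : K ⋊[φ] H) ∈ (inr : H →* K ⋊[φ] H).range := ⟨h, rfl⟩
    rw [hb, Subgroup.mem_bot] at this
    exact hh (inr_injective (by rw [this, map_one]))
  · intro ht
    obtain ⟨k, hk⟩ := exists_ne (1 : K)
    have : (inl k : K ⋊[φ] H) ∈ (inr : H →* K ⋊[φ] H).range := by rw [ht]; trivial
    rw [mem_range_inr_iff] at this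
    exact hk this
  · intro g hg x hx hx2
    rw [mem_range_inr_iff] at hg hx hx2
    by_contra hne
    have hxr : x.right ≠ 1 := by
      intro h
      apply hne
      ext
      · exact hx
      · exact h
    apply hg
    apply hfpf x.right hxr
    -- x * g = g * c with c.left = 1
    have e1 : x * g = g * (g⁻¹ * x * g) := by group
    have e2 := congrArg SemidirectProduct.left e1
    rw [mul_left, mul_left g, hx, hx2, one_mul, map_one, mul_one] at e2
    exact e2

theorem frobeniusKernel_range_inr [Finite K] (φ : H →* MulAut K)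
    (hfpf : ∀ h : H, h ≠ 1 → ∀ k : K, φ h k = k → k = 1) :
    frobeniusKernel (inr : H →* K ⋊[φ] H).range = Set.range (inl : K → K ⋊[φ] H) := by
  ext x
  rw [mem_frobeniusKernel_iff]
  constructor
  · intro hx
    by_cases hr : x.right = 1
    · exact ⟨x.left, by ext <;> simp [hr]⟩
    · exfalso
      have hx1 : x ≠ 1 := by
        rintro rfl; exact hr rfl
      have hx2 := hx.resolve_left hx1
      -- the map u ↦ u * φ h u⁻¹ is injective, so surjective
      let f : K → K := fun u => u * φ x.right u⁻¹
      have hinj : Function.Injective f := by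
        intro u w huw
        simp only [f] at huw
        have h1 : φ x.right (w⁻¹ * u) = w⁻¹ * u := by
          rw [map_mul, map_inv, map_inv] at *
          have h2 : u = w * (φ x.right w)⁻¹ * φ x.right u := by
            rw [← huw]; group
          calc (φ x.right w)⁻¹ * φ x.right u = w⁻¹ * (w * (φ x.right w)⁻¹ * φ x.right u) := by group
            _ = w⁻¹ * u := by rw [← h2]
        have h3 := hfpf _ hr _ h1
        exact (inv_mul_eq_one.1 h3).symm
      obtain ⟨u, hu⟩ := (Finite.injective_iff_surjective.1 hinj) x.left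
      apply hx2 (inl u)
      rw [mem_range_inr_iff]
      simp only [mul_left, inv_left, right_inl, left_inl, inv_one, map_one, MulAut.one_apply,
        mul_right, inv_right, one_mul]
      rw [← hu]
      simp only [f]
      rw [map_inv]
      group
  · rintro ⟨k, rfl⟩
    by_cases hk : k = 1
    · left; rw [hk, map_one]
    · right
      intro g hg
      rw [mem_range_inr_iff] at hg
      apply hk
      have h1 : (g⁻¹ * inl k * g : K ⋊[φ] H) = 1 := by
        ext
        · exact hg
        · simp
      have h2 : (inl k : K ⋊[φ] H) = 1 := by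
        have : (inl k : K ⋊[φ] H) = g * (g⁻¹ * inl k * g) * g⁻¹ := by group
        rw [this, h1]; group
      exact inl_injective (by rw [h2, map_one])

/-- A fixed-point-free action of a nontrivial finite group `H` on a nontrivial finite group `K`
makes `H` a Frobenius complement with kernel of order `|K|`. -/
theorem exists_frobenius_of_fpf [Finite H] [Finite K] [Nontrivial H] [Nontrivial K]
    (φ : H →* MulAut K) (hfpf : ∀ h : H, h ≠ 1 → ∀ k : K, φ h k = k → k = 1) :
    ∃ (L : Type) (_ : Group L) (_ : Finite L) (C : Subgroup L), IsFrobeniusComplement C ∧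
      Nonempty (H ≃* C) ∧ Nat.card (frobeniusKernel C) = Nat.card K := by
  have : Finite (K ⋊[φ] H) := Finite.of_equiv _ (equivProd (φ := φ)).symm
  obtain ⟨L, i1, i2, C, hC, ⟨e⟩, hcard⟩ :=
    transport (inr : H →* K ⋊[φ] H).range (isFrobeniusComplement_range_inr φ hfpf)
  refine ⟨L, i1, i2, C, hC, ⟨(MonoidHom.ofInjective inr_injective).trans e⟩, ?_⟩
  rw [hcard, frobeniusKernel_range_inr φ hfpf]
  exact Nat.card_range_of_injective inl_injective

end Semidirect

/-- the action on `Multiplicative V` coming from a distributive action on `V` -/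
def toMulAutMultiplicative (H : Type u) (V : Type v) [Group H] [AddCommGroup V]
    [DistribMulAction H V] : H →* MulAut (Multiplicative V) where
  toFun h := AddEquiv.toMultiplicative (DistribMulAction.toAddEquiv V h)
  map_one' := by
    ext w
    change Multiplicative.ofAdd ((1 : H) • Multiplicative.toAdd w) = w
    rw [one_smul]; rfl
  map_mul' a b := by
    ext w
    change Multiplicative.ofAdd ((a * b) • Multiplicative.toAdd w) =
      Multiplicative.ofAdd (a • (b • Multiplicative.toAdd w))
    rw [mul_smul]

/-- additive version -/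
theorem exists_frobenius_of_distribMulAction {H : Type u} {V : Type v} [Group H] [AddCommGroup V]
    [Finite H] [Finite V] [Nontrivial H] [Nontrivial V] [DistribMulAction H V]
    (hfpf : ∀ h : H, h ≠ 1 → ∀ w : V, h • w = w → w = 0) :
    ∃ (L : Type) (_ : Group L) (_ : Finite L) (C : Subgroup L), IsFrobeniusComplement C ∧
      Nonempty (H ≃* C) ∧ Nat.card (frobeniusKernel C) = Nat.card V := by
  have := exists_frobenius_of_fpf (H := H) (K := Multiplicative V)
    (toMulAutMultiplicative H V) (by
      intro h hh k hk
      have := hfpf h hh (Multiplicative.toAdd k) (by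
        have h2 : Multiplicative.ofAdd (h • Multiplicative.toAdd k) = k := hk
        exact congrArg Multiplicative.toAdd h2)
      exact Multiplicative.toAdd.injective this)
  have e : Nat.card (Multiplicative V) = Nat.card V := Nat.card_congr Multiplicative.toAdd
  rw [e] at this
  exact this

end Cfsg.Agent.Lib.Helper75Frobenius
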