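import Mathlib
import Cfsg.Prelude.Def_Solvable
import Cfsg.Agent.Lib.Helper71ZaDefs
import Cfsg.Agent.Lib.Helper36ZaLIN1
import Cfsg.Agent.Lib.Helper36ZaLIN2
import Cfsg.Agent.Lib.Helper75Frobenius

/-!
# Zassenhaus project, piece LIN3: fixed-point-free automorphism groups
-/

set_option autoImplicit false

namespace Cfsg.Agent.Lib.Helper36ZaLIN3

open Cfsg.Agent.Lib.Helper71ZaDefs Subgroup

theorem fc_of_fpf_aut {K : Type*} [Group K] [Finite K] (G : Subgroup (MulAut K))
    (hfpf : ∀ φ ∈ G, φ ≠ 1 → ∀ k : K, φ k = k → k = 1) (hne : G ≠ ⊥) : FC G := by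
  have hG : Nontrivial G := (Subgroup.nontrivial_iff_ne_bot G).mpr hne
  have hK : Nontrivial K := by
    by_contra hK
    rw [not_nontrivial_iff_subsingleton] at hK
    apply hne
    rw [eq_bot_iff]
    intro φ _
    rw [mem_bot]
    ext k
    exact Subsingleton.elim _ _
  have hfin : Finite (K ⋊[G.subtype] G) :=
    Finite.of_equiv _ (SemidirectProduct.equivProd (φ := G.subtype)).symm
  have hF := Cfsg.Agent.Lib.Helper75Frobenius.isFrobeniusComplement_range_inr (G.subtype)
    (fun h hh k hk => hfpf h h.2 (fun h0 => hh (Subtype.ext h0)) k hk)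
  have h1 := Cfsg.Agent.Lib.Helper36ZaLIN2.fc_of_frobenius_complement _ hF
  refine Cfsg.Agent.Lib.Helper36ZaLIN1.fc_of_injective h1
    (SemidirectProduct.inr : G →* K ⋊[G.subtype] G).rangeRestrict ?_
  intro a b hab
  have := congrArg Subtype.val hab
  exact SemidirectProduct.inr_injective this

end Cfsg.Agent.Lib.Helper36ZaLIN3
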