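import Mathlib
import Cfsg.Prelude.Def_TwoFusion
import Cfsg.Agent.Lib.Helper14ZJ
import Cfsg.Agent.Lib.Helper24Ser

set_option autoImplicit false
set_option linter.unusedSectionVars false

/-! An axiomatic form of Glauberman's ZJ-theorem for a fixed family of abelian subgroups of a Sylow
subgroup: invariance of the partial intersections plus a replacement property. -/

namespace Cfsg.Agent.Lib.Helper37AxZJ

open Subgroup Cfsg
open scoped commutatorElement
open Cfsg.Agent.Lib.Helper14Sylow Cfsg.Agent.Lib.Helper14Quad Cfsg.Agent.Lib.Helper14Comm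
  Cfsg.Agent.Lib.Helper14ZJ

variable {X : Type*} [Group X] [Finite X] {p : ℕ} [Fact p.Prime]

/-- the group-theoretic axioms -/
structure GAx (p : ℕ) [Fact p.Prime] (T : Sylow p X) (𝒜 : Set (Subgroup X)) (U : Subgroup X) :
    Prop where
  sc : IsStronglyClosed U (T : Subgroup X)
  mem : ∀ A ∈ 𝒜, A ≤ U ∧ IsMulCommutative A
  ne : 𝒜.Nonempty
  inv : ∀ Y : Subgroup X, Y ≤ (T : Subgroup X) → (∃ A ∈ 𝒜, A ≤ Y) →
    normalizer (Y : Set X) ≤ normalizer ((sInf {A | A ∈ 𝒜 ∧ A ≤ Y} : Subgroup X) : Set X)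
  rep : ∀ B : Subgroup X, B ≤ U → (T : Subgroup X) ≤ normalizer (B : Set X) → ⁅⁅B, B⁆, B⁆ = ⊥ →
    (∃ A ∈ 𝒜, ⁅B, B⁆ ≤ A ∧ ¬ B ≤ A) → ∃ A ∈ 𝒜, ⁅B, B⁆ ≤ A ∧ ¬ B ≤ A ∧ B ≤ normalizer (A : Set X)

variable {T : Sylow p X} {𝒜 : Set (Subgroup X)} {U : Subgroup X}

theorem GAx.sInf_le (h : GAx p T 𝒜 U) : sInf 𝒜 ≤ U := by
  obtain ⟨A, hA⟩ := h.ne
  exact (_root_.sInf_le hA).trans (h.mem A hA).1

theorem GAx.set_eq (h : GAx p T 𝒜 U) : {A | A ∈ 𝒜 ∧ A ≤ (T : Subgroup X)} = 𝒜 := by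
  ext A
  exact ⟨fun h' => h'.1, fun hA => ⟨hA, (h.mem A hA).1.trans h.sc.1⟩⟩

theorem GAx.le_normalizer (h : GAx p T 𝒜 U) :
    (T : Subgroup X) ≤ normalizer ((sInf 𝒜 : Subgroup X) : Set X) := by
  obtain ⟨A, hA⟩ := h.ne
  have := h.inv T le_rfl ⟨A, hA, (h.mem A hA).1.trans h.sc.1⟩
  rw [h.set_eq] at this
  exact Subgroup.le_normalizer.trans this

theorem GAx.comm (h : GAx p T 𝒜 U) : IsMulCommutative (sInf 𝒜 : Subgroup X) := by
  obtain ⟨A, hA⟩ := h.ne
  have hZA : sInf 𝒜 ≤ A := _root_.sInf_le hA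
  have hAc := (h.mem A hA).2
  exact .of_setLike_mul_comm fun a ha b hb => setLike_mul_comm (hZA ha) (hZA hb)

/-- the case `B = ⟨(B ∩ Z)^X⟩` with `[B,B] ≤ Z` -/
theorem main_case (h : GAx p T 𝒜 U)
    (hst : ∀ (P : Subgroup X) [P.Normal], IsPGroup p P → IsPStableOn p P)
    (B : Subgroup X) [hBn : B.Normal] (hBp : IsPGroup p B) (hBU : B ≤ U)
    (hgen : normalClosure ((B ⊓ sInf 𝒜 : Subgroup X) : Set X) = B)
    (hder : ⁅B, B⁆ ≤ sInf 𝒜) : (B ⊓ sInf 𝒜).Normal := by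
  by_cases hBZ : B ≤ sInf 𝒜
  · rw [inf_eq_left.mpr hBZ]
    exact hBn
  exfalso
  have hTB : (T : Subgroup X) ≤ normalizer (B : Set X) := Subgroup.le_normalizer_of_normal
  obtain ⟨A₁, hA₁, hBA₁⟩ : ∃ A ∈ 𝒜, ¬ B ≤ A := by
    by_contra hcon
    push Not at hcon
    exact hBZ (le_sInf hcon)
  have hZc := h.comm
  -- class at most two
  have hcl : ⁅⁅B, B⁆, B⁆ = ⊥ := by
    rw [Subgroup.commutator_comm, Subgroup.commutator_eq_bot_iff_le_centralizer]
    have hn : (centralizer ((⁅B, B⁆ : Subgroup X) : Set X)).Normal := inferInstance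
    have h1 : normalClosure ((B ⊓ sInf 𝒜 : Subgroup X) : Set X) ≤
        centralizer ((⁅B, B⁆ : Subgroup X) : Set X) := by
      apply normalClosure_le_normal
      intro x hx y hy
      exact setLike_mul_comm (hder hy) hx.2
    rwa [hgen] at h1
  obtain ⟨A, hA, hBA', hBA, hBN⟩ := h.rep B hBU hTB hcl ⟨A₁, hA₁, hder.trans (_root_.sInf_le hA₁), hBA₁⟩
  have hAL : A ≤ LL p B := le_LL_of_le_normalizer B (hst B hBp) A (h.mem A hA).2 hBN
  have hAT : A ≤ (T : Subgroup X) ⊓ LL p B := le_inf ((h.mem A hA).1.trans h.sc.1) hAL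
  set T₁ := (T : Subgroup X) ⊓ LL p B with hT₁
  have hinv := h.inv T₁ inf_le_left ⟨A, hA, hAT⟩
  set I₁ := (sInf {A | A ∈ 𝒜 ∧ A ≤ T₁} : Subgroup X) with hI₁
  have hnor : (B ⊓ I₁).Normal := by
    rw [← Subgroup.normalizer_eq_top_iff, eq_top_iff, ← frattini_LL B T]
    apply sup_le
    · refine le_trans (le_inf ?_ hinv) Subgroup.inf_normalizer_le_normalizer_inf
      rw [Subgroup.normalizer_eq_top B]
      exact le_top
    · refine le_trans ?_ (Subgroup.centralizer_le_normalizer _)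
      apply Subgroup.centralizer_le
      exact inf_le_left
  have hZI : sInf 𝒜 ≤ I₁ := sInf_le_sInf (fun A hA => hA.1)
  have h1 : normalClosure ((B ⊓ sInf 𝒜 : Subgroup X) : Set X) ≤ B ⊓ I₁ :=
    normalClosure_le_normal (inf_le_inf_left B hZI)
  rw [hgen] at h1
  exact hBA ((h1.trans inf_le_right).trans (_root_.sInf_le ⟨hA, hAT⟩))

theorem main (h : GAx p T 𝒜 U)
    (hst : ∀ (P : Subgroup X) [P.Normal], IsPGroup p P → IsPStableOn p P) :
    ∀ n : ℕ, ∀ B : Subgroup X, B.Normal → IsPGroup p B → B ≤ U →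
    Nat.card B = n → (B ⊓ sInf 𝒜).Normal := by
  intro n
  induction n using Nat.strong_induction_on with
  | _ n ih =>
  intro B hBn hBp hBU hcard
  have hB₁B : normalClosure ((B ⊓ sInf 𝒜 : Subgroup X) : Set X) ≤ B :=
    normalClosure_le_normal inf_le_left
  by_cases hB₁ : normalClosure ((B ⊓ sInf 𝒜 : Subgroup X) : Set X) = B
  · by_cases hbot : B = ⊥
    · rw [hbot, bot_inf_eq]
      infer_instance
    · have hlt := derived_lt B hBp hbot
      have hY : (⁅B, B⁆ ⊓ sInf 𝒜).Normal :=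
        ih _ (hcard ▸ card_lt_of_lt hlt) ⁅B, B⁆ inferInstance (hBp.to_le hlt.le)
          (hlt.le.trans hBU) rfl
      have hBS : B ≤ T := hBU.trans h.sc.1
      have hSZ := h.le_normalizer
      have hder : ⁅normalClosure ((B ⊓ sInf 𝒜 : Subgroup X) : Set X), B⁆ ≤
          ⁅B, B⁆ ⊓ sInf 𝒜 := by
        have h' := commutator_closure_le
          (s := Group.conjugatesOfSet ((B ⊓ sInf 𝒜 : Subgroup X) : Set X)) (t := (B : Set X))
          (N := ⁅B, B⁆ ⊓ sInf 𝒜) (by rw [Subgroup.normalizer_eq_top]; exact le_top)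
          (by rw [Subgroup.normalizer_eq_top]; exact le_top) ?_
        · rwa [Subgroup.closure_eq] at h'
        · intro x hx y hy
          obtain ⟨z, hz, hzx⟩ := Group.mem_conjugatesOfSet_iff.mp hx
          obtain ⟨c, rfl⟩ := isConj_iff.mp hzx
          have hy' : c⁻¹ * y * c ∈ B := by
            have := hBn.conj_mem y hy c⁻¹
            rwa [inv_inv] at this
          have h1 : ⁅c * z * c⁻¹, y⁆ = c * ⁅z, c⁻¹ * y * c⁆ * c⁻¹ := by
            rw [conjugate_commutatorElement]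
            congr 1
            group
          rw [h1]
          apply hY.conj_mem
          refine Subgroup.mem_inf.mpr ⟨Subgroup.commutator_mem_commutator hz.1 hy', ?_⟩
          have h2 : ⁅z, c⁻¹ * y * c⁆ = z * ((c⁻¹ * y * c) * z⁻¹ * (c⁻¹ * y * c)⁻¹) := by
            rw [commutatorElement_def]; group
          rw [h2]
          exact mul_mem hz.2 (conj_mem_of_le_normalizer hSZ (hBS hy') (inv_mem hz.2))
      rw [hB₁] at hder
      exact main_case h hst B hBp hBU hB₁ (hder.trans inf_le_right)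
  · have hlt : normalClosure ((B ⊓ sInf 𝒜 : Subgroup X) : Set X) < B :=
      lt_of_le_of_ne hB₁B hB₁
    have h1 := ih _ (hcard ▸ card_lt_of_lt hlt) _ normalClosure_normal
      (hBp.to_le hB₁B) (hB₁B.trans hBU) rfl
    have h2 : normalClosure ((B ⊓ sInf 𝒜 : Subgroup X) : Set X) ⊓ sInf 𝒜 =
        B ⊓ sInf 𝒜 :=
      le_antisymm (inf_le_inf_right _ hB₁B) (le_inf le_normalClosure inf_le_right)
    rwa [h2] at h1

/-- **Axiomatic ZJ-theorem.** -/
theorem Z_normal (h : GAx p T 𝒜 U)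
    (hst : ∀ (P : Subgroup X) [P.Normal], IsPGroup p P → IsPStableOn p P)
    (hc : centralizer (pCore p X : Set X) ≤ pCore p X) : (sInf 𝒜).Normal := by
  have hQp : IsPGroup p (pCore p X) :=
    Sylow.sSup_of_normal _ (fun _ h => h.2) (fun _ h => h.1)
  have hQS : pCore p X ≤ T := hQp.le_sylow_of_normal T
  have hSZ := h.le_normalizer
  have hZc := h.comm
  have h1 : sInf 𝒜 ≤ LL p (pCore p X) :=
    le_LL_of_le_normalizer _ (hst _ hQp) _ hZc (hQS.trans hSZ)
  have h2 : IsPGroup p (LL p (pCore p X)) := by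
    unfold LL
    apply IsPGroup.comap_of_ker_isPGroup
    · exact Sylow.sSup_of_normal _ (fun _ h => h.2) (fun _ h => h.1)
    · rw [QuotientGroup.ker_mk']
      exact hQp.to_le hc
  have h3 : LL p (pCore p X) ≤ pCore p X := le_sSup ⟨inferInstance, h2⟩
  have hBn : (pCore p X ⊓ U).Normal := by
    refine ⟨fun x hx g => ⟨(inferInstance : (pCore p X).Normal).conj_mem x hx.1 g, ?_⟩⟩
    exact h.sc.2 x hx.2 g (hQS ((inferInstance : (pCore p X).Normal).conj_mem x hx.1 g))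
  have h4 := main h hst _ (pCore p X ⊓ U) hBn (hQp.to_le inf_le_left) inf_le_right rfl
  rwa [inf_eq_right.mpr (le_inf (h1.trans h3) h.sInf_le)] at h4

theorem isCoatom_sylow (hco : IsCoatom (T : Subgroup X)) (T' : Sylow p X) :
    IsCoatom (T' : Subgroup X) := by
  obtain ⟨g, rfl⟩ := MulAction.exists_smul_eq X T T'
  have h1 : ((g • T : Sylow p X) : Subgroup X) =
      (MulEquiv.mapSubgroup (MulAut.conj g)) (T : Subgroup X) := rfl
  rw [h1, OrderIso.isCoatom_iff]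
  exact hco

open Cfsg.Agent.Lib.Helper11Frobenius in
/-- the ZJ-theorem when the Sylow subgroup is maximal and `X / H` has a normal `p`-complement -/
theorem Z_normal_of_coatom (hp : p ≠ 2) (h : GAx p T 𝒜 U) (hco : IsCoatom (T : Subgroup X))
    (H : Subgroup X) [hHn : H.Normal] (hHp : IsPGroup p H)
    (hcH : centralizer (H : Set X) ≤ H) (hq : HasNPC p (X ⧸ H)) : (sInf 𝒜).Normal := by
  obtain ⟨K, hK⟩ := Cfsg.Agent.Lib.Helper24Star.exists_star H hHp hq (isCoatom_sylow hco)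
  have hser := Cfsg.Agent.Lib.Helper24Ser.Star.ser hK
  apply Z_normal h (fun P _ hP => hser.pstableOn hp P hP)
  have hH : H ≤ pCore p X := le_sSup ⟨hHn, hHp⟩
  exact (Subgroup.centralizer_le hH).trans (hcH.trans hH)

end Cfsg.Agent.Lib.Helper37AxZJ
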