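import Mathlib

/-!
# helper37: project 14, counting half of S1434 (class support of the set `Ẑ`)
-/

set_option autoImplicit false

namespace Cfsg.Agent.Lib.Helper37BG14cs

open Subgroup

variable {G : Type*} [Group G] [Finite G]

/-- the class support of a subset `T` of an abelian subgroup `Z` such that `g d g⁻¹ ∈ Z` forces
`g ∈ Z` for `d ∈ T` -/
theorem card_class_support (Z : Subgroup G) (hab : ∀ a ∈ Z, ∀ b ∈ Z, a * b = b * a) (T : Set G)
    (hT : T ⊆ Z) (hTI : ∀ d ∈ T, ∀ g : G, g * d * g⁻¹ ∈ Z → g ∈ Z) :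
    Nat.card Z * Set.ncard {a : G | ∃ g : G, ∃ z ∈ T, a = g * z * g⁻¹} = T.ncard * Nat.card G := by
  classical
  have := Fintype.ofFinite G
  set C : Finset G := Finset.univ.filter (fun a => ∃ g : G, ∃ z ∈ T, a = g * z * g⁻¹) with hCdef
  set TF : Finset G := Finset.univ.filter (fun a => a ∈ T) with hTFdef
  have hC : Set.ncard {a : G | ∃ g : G, ∃ z ∈ T, a = g * z * g⁻¹} = C.card := by
    rw [← Set.ncard_coe_finset]
    congr 1
    ext a
    simp [hCdef]
  have hTF : T.ncard = TF.card := by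
    rw [← Set.ncard_coe_finset]
    congr 1
    ext a
    simp [hTFdef]
  have h1 : ((Finset.univ : Finset G) ×ˢ TF).card =
      ∑ b ∈ C, (((Finset.univ : Finset G) ×ˢ TF).filter
        (fun x => x.1 * x.2 * x.1⁻¹ = b)).card := by
    apply Finset.card_eq_sum_card_fiberwise
    intro x hx
    have hx2 : x.2 ∈ T := by
      have := (Finset.mem_product.mp hx).2
      simpa [hTFdef] using this
    simp only [hCdef, Finset.coe_filter, Finset.mem_univ, true_and, Set.mem_ofPred_eq]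
    exact ⟨x.1, x.2, hx2, rfl⟩
  have h2 : ∀ b ∈ C, (((Finset.univ : Finset G) ×ˢ TF).filter
      (fun x => x.1 * x.2 * x.1⁻¹ = b)).card = Nat.card Z := by
    intro b hb
    obtain ⟨g, z, hz, rfl⟩ : ∃ g : G, ∃ z ∈ T, b = g * z * g⁻¹ := by
      simpa [hCdef] using hb
    have heq : ((Finset.univ : Finset G) ×ˢ TF).filter (fun x => x.1 * x.2 * x.1⁻¹ = g * z * g⁻¹) =
        (Finset.univ : Finset ↥Z).image (fun c : ↥Z => ((g * (c : G), z) : G × G)) := by
      ext ⟨g', z'⟩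
      simp only [Finset.mem_filter, Finset.mem_product, Finset.mem_univ, true_and,
        Finset.mem_image, Prod.mk.injEq, hTFdef]
      constructor
      · rintro ⟨hz', he⟩
        have h3 : (g⁻¹ * g') * z' * (g⁻¹ * g')⁻¹ = z := by
          calc (g⁻¹ * g') * z' * (g⁻¹ * g')⁻¹ = g⁻¹ * (g' * z' * g'⁻¹) * g := by group
            _ = g⁻¹ * (g * z * g⁻¹) * g := by rw [he]
            _ = z := by group
        have hc : g⁻¹ * g' ∈ Z := hTI z' hz' _ (by rw [h3]; exact hT hz)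
        refine ⟨⟨g⁻¹ * g', hc⟩, by simp, ?_⟩
        rw [← h3, hab _ hc _ (hT hz')]
        group
      · rintro ⟨c, rfl, rfl⟩
        refine ⟨hz, ?_⟩
        have h4 : (c : G) * z = z * c := hab _ c.2 _ (hT hz)
        calc g * (c : G) * z * (g * (c : G))⁻¹ = g * ((c : G) * z) * (c : G)⁻¹ * g⁻¹ := by group
          _ = g * (z * c) * (c : G)⁻¹ * g⁻¹ := by rw [h4]
          _ = g * z * g⁻¹ := by group
    rw [heq, Finset.card_image_of_injective, Finset.card_univ, Nat.card_eq_fintype_card]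
    intro c c' h
    have := (Prod.mk.injEq _ _ _ _ ▸ h).1
    exact Subtype.ext (mul_left_cancel this)
  rw [Finset.sum_const_nat h2, Finset.card_product, Finset.card_univ, ← Nat.card_eq_fintype_card]
    at h1
  rw [hC, hTF]
  linarith [h1, mul_comm (Nat.card G) TF.card, mul_comm C.card (Nat.card Z)]

/-- the number of elements of `K L` outside `K ∪ L` -/
theorem ncard_hat {K L : Subgroup G}
    (hcard : Nat.card (K ⊔ L : Subgroup G) = Nat.card K * Nat.card L)
    (hco : (Nat.card K).Coprime (Nat.card L)) (hK : 2 ≤ Nat.card K) (hL : 2 ≤ Nat.card L) :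
    Set.ncard ((↑(K ⊔ L) : Set G) \ ((K : Set G) ∪ ↑L)) =
      Nat.card K * Nat.card L - Nat.card K - Nat.card L + 1 := by
  have hbot : K ⊓ L = ⊥ := (disjoint_of_coprime_natCard hco).eq_bot
  have hsub : ((K : Set G) ∪ ↑L) ⊆ (↑(K ⊔ L) : Set G) := by
    intro x hx
    rcases hx with hx | hx
    · exact (le_sup_left : K ≤ K ⊔ L) hx
    · exact (le_sup_right : L ≤ K ⊔ L) hx
  have h1 : Set.ncard ((↑(K ⊔ L) : Set G) \ ((K : Set G) ∪ ↑L)) =
      Set.ncard (↑(K ⊔ L) : Set G) - Set.ncard ((K : Set G) ∪ ↑L) :=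
    Set.ncard_sdiff hsub (Set.toFinite _)
  have h2 := Set.ncard_union_add_ncard_inter (K : Set G) (L : Set G)
  have h3 : ((K : Set G) ∩ ↑L) = {1} := by
    rw [← coe_inf, hbot]; rfl
  rw [h3, Set.ncard_singleton] at h2
  have hk : Set.ncard (K : Set G) = Nat.card K := rfl
  have hl : Set.ncard (L : Set G) = Nat.card L := rfl
  have hkl : Set.ncard (↑(K ⊔ L) : Set G) = Nat.card K * Nat.card L := by rw [← hcard]; rfl
  rw [h1, hkl]
  rw [hk, hl] at h2
  have h5 : Nat.card K + Nat.card L ≤ Nat.card K * Nat.card L := by nlinarith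
  omega

theorem arith {k l : ℕ} (hk : Odd k) (hl : Odd l) (hk1 : k ≠ 1) (hl1 : l ≠ 1) (hco : k.Coprime l) :
    k * l < 2 * (k * l - k - l + 1) := by
  obtain ⟨a, rfl⟩ := hk
  obtain ⟨b, rfl⟩ := hl
  have ha : 1 ≤ a := by omega
  have hb : 1 ≤ b := by omega
  have hne : a ≠ b := by
    rintro rfl
    rw [Nat.coprime_self] at hco
    omega
  have h1 : (2 * a + 1) * (2 * b + 1) - (2 * a + 1) - (2 * b + 1) + 1 = 4 * a * b := by
    have h0 : (2 * a + 1) * (2 * b + 1) = 4 * a * b + 2 * a + 2 * b + 1 := by ring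
    rw [h0]
    have hm : 1 ≤ 4 * a * b := by nlinarith [Nat.mul_le_mul ha hb]
    generalize 4 * a * b = m at hm ⊢
    omega
  rw [h1]
  have h2 : (2 * a + 1) * (2 * b + 1) = 4 * a * b + 2 * a + 2 * b + 1 := by ring
  rw [h2]
  rcases Nat.lt_or_gt_of_ne hne with h | h
  · have hb2 : 2 ≤ b := by omega
    nlinarith [Nat.mul_le_mul ha hb2, Nat.mul_le_mul_left a hb2, Nat.mul_le_mul_right b ha]
  · have ha2 : 2 ≤ a := by omega
    nlinarith [Nat.mul_le_mul ha2 hb, Nat.mul_le_mul_left a hb, Nat.mul_le_mul_right b ha2]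

/-- the last two clauses of S1434 -/
theorem class_support_clauses {K L : Subgroup G}
    (hcard : Nat.card (K ⊔ L : Subgroup G) = Nat.card K * Nat.card L)
    (hco : (Nat.card K).Coprime (Nat.card L)) (hKo : Odd (Nat.card K)) (hLo : Odd (Nat.card L))
    (hK1 : K ≠ ⊥) (hL1 : L ≠ ⊥)
    (hab : ∀ a ∈ K ⊔ L, ∀ b ∈ K ⊔ L, a * b = b * a)
    (hTI : ∀ d ∈ ((↑(K ⊔ L) : Set G) \ ((K : Set G) ∪ ↑L)), ∀ g : G, g * d * g⁻¹ ∈ K ⊔ L →
      g ∈ K ⊔ L) :
    Nat.card K * Nat.card L * Set.ncard {a : G | ∃ g : G, ∃ z ∈ ((↑(K ⊔ L) : Set G) \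
        ((K : Set G) ∪ ↑L)), a = g * z * g⁻¹} =
      (Nat.card K * Nat.card L - Nat.card K - Nat.card L + 1) * Nat.card G ∧
    Nat.card G < 2 * Set.ncard {a : G | ∃ g : G, ∃ z ∈ ((↑(K ⊔ L) : Set G) \
        ((K : Set G) ∪ ↑L)), a = g * z * g⁻¹} := by
  have hk1 : Nat.card K ≠ 1 := fun h => hK1 (card_eq_one.mp h)
  have hl1 : Nat.card L ≠ 1 := fun h => hL1 (card_eq_one.mp h)
  have hk0 : 0 < Nat.card K := Nat.card_pos
  have hl0 : 0 < Nat.card L := Nat.card_pos
  have h1 := card_class_support (K ⊔ L) hab _ Set.sdiff_subset hTI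
  rw [hcard, ncard_hat hcard hco (by omega) (by omega)] at h1
  refine ⟨h1, ?_⟩
  have h2 := arith hKo hLo hk1 hl1 hco
  have hG0 : 0 < Nat.card G := Nat.card_pos
  have hkl : 0 < Nat.card K * Nat.card L := Nat.mul_pos hk0 hl0
  by_contra hcon
  push Not at hcon
  have h3 : Nat.card K * Nat.card L * (2 * Set.ncard {a : G | ∃ g : G, ∃ z ∈ ((↑(K ⊔ L) : Set G) \
        ((K : Set G) ∪ ↑L)), a = g * z * g⁻¹}) ≤ Nat.card K * Nat.card L * Nat.card G :=
    Nat.mul_le_mul_left _ hcon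
  have h4 : Nat.card K * Nat.card L * Nat.card G <
      2 * (Nat.card K * Nat.card L - Nat.card K - Nat.card L + 1) * Nat.card G :=
    Nat.mul_lt_mul_of_pos_right h2 hG0
  nlinarith [h1, h3, h4]

end Cfsg.Agent.Lib.Helper37BG14cs
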