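import Cfsg.Agent.Lib.LeadTwDefs3
import Cfsg.Agent.Lib.LeadAutOut
import Cfsg.Agent.Lib.Helper23Tw3D4d
import Cfsg.Agent.Lib.Helper23Tw2E6d

set_option autoImplicit false
set_option linter.unusedVariables false
set_option linter.unusedSectionVars false
set_option maxRecDepth 100000

/-! PROJECT 101 (TW-AUT), piece C2. -/

namespace Cfsg.Agent.Lib.Helper37TwC2

open Cfsg Cfsg.Lie Cfsg.Lie.ChevalleyDatum
open Subgroup Cfsg.Agent.Lib.Helper23Grp Cfsg.Agent.Lib.Helper23RG Cfsg.Agent.Lib.Helper23TG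
  Cfsg.Agent.Lib.Helper23Tw Cfsg.Agent.Lib.Helper23Weyl Cfsg.Agent.Lib.LeadTwDefs
  Cfsg.Agent.Lib.Helper23Table Cfsg.Agent.Lib.Helper23Chev Cfsg.Agent.Lib.Helper23Fast
  Cfsg.Agent.Lib.Helper23TwC Cfsg.Agent.Lib.LeadAutConc

/-- C2 (see the field `comm_orb` in the proof of `Helper23TwC.tw_ok`) -/
theorem comm_C {F : Type*} [Field F] {D : ChevalleyDatum} (hT : TableOK D) (hR : Rel D F)
    (hCF : ∀ r s, r < D.nroots → s < D.nroots → s ≠ r → s ≠ D.neg r → ∀ t u : F,
      D.x F s u * D.x F r t = D.x F r t * D.x F s u * D.wordMat F (D.commWord F r s t u))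
    (a b : Fin D.nroots) (h1 : b.val ≠ a.val) (h2 : b.val ≠ D.neg a.val) (h3 : D.commTerms a.val b.val = []) (t u : F) :
    Commute ((rg hT hR).x a t) ((rg hT hR).x b u) := by
  have h4 := hCF a b a.2 b.2 h1 h2 t u
  rw [commWord, h3] at h4
  simp only [List.map_nil, wordMat, List.prod_nil, mul_one] at h4
  show xg D F a t * xg D F b u = xg D F b u * xg D F a t
  apply Units.ext
  rw [Units.val_mul, Units.val_mul, coe_xg hR, coe_xg hR]
  exact h4.symm

end Cfsg.Agent.Lib.Helper37TwC2
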