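import Mathlib
import Cfsg.Agent.Lib.Helper24BG
import Cfsg.Agent.Lib.Helper31UniqD
import Cfsg.Agent.Lib.Helper31BGS
import Cfsg.Agent.Lib.Helper30BG2
import Cfsg.Agent.Lib.Helper3Narrow
import Cfsg.Agent.S1449

/-!
PROJECT 76, piece `abel` (helper38).
-/

set_option autoImplicit false

namespace Cfsg.Agent.Lib.Helper38BG76abel

open Cfsg Subgroup
open Cfsg.Agent.Lib.Helper30Trans Cfsg.Agent.Lib.Helper24BG

variable {G : Type*} [Group G] [Finite G]

omit [Finite G] in
theorem normalizer_le_normalizer_center (P : Subgroup G) :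
    normalizer (P : Set G) ≤ normalizer ((P ⊓ centralizer (P : Set G) : Subgroup G) : Set G) := by
  have key : ∀ g ∈ normalizer (P : Set G), ∀ v ∈ P ⊓ centralizer (P : Set G),
      g * v * g⁻¹ ∈ P ⊓ centralizer (P : Set G) := by
    rintro g hg v ⟨hv, hvc⟩
    refine ⟨(mem_normalizer_iff.mp hg v).mp hv, ?_⟩
    show g * v * g⁻¹ ∈ centralizer (P : Set G)
    rw [mem_centralizer_iff]
    intro x hx
    have h1 : g⁻¹ * x * g ∈ P := by
      have := (mem_normalizer_iff.mp (inv_mem hg) x).mp hx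
      simpa using this
    have h2 := (mem_centralizer_iff.mp hvc) _ h1
    calc x * (g * v * g⁻¹) = g * ((g⁻¹ * x * g) * v) * g⁻¹ := by group
      _ = g * (v * (g⁻¹ * x * g)) * g⁻¹ := by rw [h2]
      _ = g * v * g⁻¹ * x := by group
  intro g hg
  rw [mem_normalizer_iff]
  intro v
  refine ⟨key g hg v, fun h => ?_⟩
  have := key g⁻¹ (inv_mem hg) _ h
  have e : g⁻¹ * (g * v * g⁻¹) * g⁻¹⁻¹ = v := by group
  rwa [e] at this

theorem abel (hG : IsMinSimpleOddOrder G) {M D A : Subgroup G} {p : ℕ} (hM : IsCoatom M)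
    (hc : IsComplIn D (sigmaCore M) M) (hnil : Group.IsNilpotent (sigmaCore M))
    (hreg : ∀ d ∈ D, d ≠ 1 → sigmaCore M ⊓ centralizer ({d} : Set G) = ⊥)
    (pp : p.Prime) (AM : A ≤ sigmaCore M) (Ae : IsElementaryAbelian p A) (Ac : Nat.card A = p ^ 2)
    (maxA : ∀ B : Subgroup G, IsElementaryAbelian p B → A ≤ B → B = A) :
    IsMulCommutative D := by
  have : Fact p.Prime := ⟨pp⟩
  obtain ⟨P, hPF, hPp, hPn, hPmax⟩ := Cfsg.Agent.Lib.Helper31UniqD.exists_char_sylow (s := p) hnil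
  have hAp : IsPGroup p A := isPGroup_of_elemAb Ae
  have hAP : A ≤ P := hPmax A AM hAp
  have hA1 : A ≠ ⊥ := by
    intro h
    rw [h, card_bot] at Ac
    have := Nat.one_lt_pow (n := 2) (by norm_num) pp.one_lt
    omega
  have hP1 : P ≠ ⊥ := ne_bot_of_le_ne_bot hA1 hAP
  have hp2 : p ≠ 2 := ne_two hG hAp hA1
  have hMP : M ≤ normalizer (P : Set G) :=
    (Cfsg.Agent.Lib.Helper30BG2.le_normalizer_sigmaCore M).trans hPn
  obtain ⟨z, hzP, hzc, hz1, -⟩ := Cfsg.Agent.Lib.Helper31UniqD.exists_central_order hPp hP1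
  have hr : PRankLE p 2 (P ⊓ centralizer (P : Set G) : Subgroup G) := by
    by_contra h
    obtain ⟨B, hB1, hB2, hB3⟩ := exists_elemAb h
    have hBA : IsElementaryAbelian p (B ⊔ A) :=
      Cfsg.Agent.Lib.Helper3Narrow.elemAb_sup hB2 Ae
        (fun e he b hb => (mem_centralizer_iff.mp (hB1 he).2 b (hAP hb)).symm)
    have h1 := maxA _ hBA le_sup_right
    have hBle : B ≤ A := h1 ▸ le_sup_left
    have h2 := Nat.le_of_dvd Nat.card_pos (card_dvd_of_le hBle)
    omega
  have hDn : D ≤ normalizer ((P ⊓ centralizer (P : Set G) : Subgroup G) : Set G) :=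
    (hc.1.trans hMP).trans (normalizer_le_normalizer_center P)
  have hfaith : D ⊓ centralizer ((P ⊓ centralizer (P : Set G) : Subgroup G) : Set G) = ⊥ := by
    rw [eq_bot_iff]
    rintro d ⟨hd1, hd2⟩
    rw [mem_bot]
    by_contra hd
    have h1 := hreg d hd1 hd
    have hz' : z ∈ sigmaCore M ⊓ centralizer ({d} : Set G) := by
      refine ⟨hPF hzP, ?_⟩
      show z ∈ centralizer ({d} : Set G)
      rw [mem_centralizer_singleton_iff]
      exact mem_centralizer_iff.mp hd2 z ⟨hzP, hzc⟩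
    rw [h1, mem_bot] at hz'
    exact hz1 hz'
  have hDtop : D ≠ ⊤ := fun h => hM.1 (top_le_iff.mp (h ▸ hc.1))
  have h49 := Cfsg.Agent.S1449.result p hp2 _ D (hPp.to_le inf_le_left) hr hDn (sol hG hDtop)
    (odd_sub hG D) hfaith
  have hpσ : p ∈ sigma M := by
    apply Cfsg.Agent.Lib.Helper30BG2.card_sigmaCore hG hM p pp
    refine dvd_trans ?_ (card_dvd_of_le AM)
    rw [Ac]
    exact dvd_pow_self p (by norm_num)
  have hpD : ¬ p ∣ Nat.card D := fun h =>
    Cfsg.Agent.Lib.Helper31BGS.not_mem_sigma_of_dvd_compl hG hM hc pp h hpσ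
  have hDD : ⁅D, D⁆ ≤ D := le_normalizer_iff_commutator_le_left.mp le_normalizer
  have hbot : ⁅D, D⁆ = ⊥ := by
    by_contra hne
    exact hpD ((dvd_card_of_pgroup h49 hne le_rfl).trans (card_dvd_of_le hDD))
  rw [commutator_eq_bot_iff_le_centralizer] at hbot
  refine ⟨⟨fun a b => Subtype.ext ?_⟩⟩
  exact (mem_centralizer_iff.mp (hbot a.2) b b.2).symm

end Cfsg.Agent.Lib.Helper38BG76abel
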