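import Mathlib
import Cfsg.Agent.Lib.Helper11BG76Defs
import Cfsg.Agent.Lib.Helper52BG14
import Cfsg.Agent.Lib.Helper51BG16a
import Cfsg.Agent.Lib.Helper30Bender
import Cfsg.Agent.Lib.Helper30Gen
import Cfsg.Agent.Lib.Helper24BGAsym
import Cfsg.Agent.S1418
import Cfsg.Agent.S1432

/-!
PROJECT 76, piece `qsigma` (helper38).
-/

set_option autoImplicit false

namespace Cfsg.Agent.Lib.Helper38BG76qsigma

open Cfsg Subgroup
open Cfsg.Agent.Lib.Helper30Trans Cfsg.Agent.Lib.Helper24BG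
open Cfsg.Agent.Lib.Helper52BG14Defs Cfsg.Agent.Lib.Helper11BG76Defs

variable {G : Type*} [Group G] [Finite G]

/-- an elementary abelian group of order `q ^ 2` acting coprimely on `S ≠ 1` has a non-identity
element with non-trivial fixed points. -/
theorem exists_fix {S B : Subgroup G} {q : ℕ} [Fact q.Prime] (hS : S ≠ ⊥)
    (hBe : IsElementaryAbelian q B) (hBc : Nat.card B = q ^ 2)
    (hBS : B ≤ normalizer (S : Set G)) (hco : (Nat.card S).Coprime q) :
    ∃ d ∈ B, d ≠ 1 ∧ S ⊓ centralizer ({d} : Set G) ≠ ⊥ := by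
  have hq : q.Prime := Fact.out
  haveI := hBe.1
  letI : CommGroup B := { (inferInstance : Group B) with mul_comm := fun a b => mul_comm' a b }
  have hnc : ¬ IsCyclic B := by
    intro hc
    obtain ⟨g, hg⟩ := hc
    have h1 : orderOf g = Nat.card B := orderOf_eq_card_of_forall_mem_zpowers hg
    have h2 : g ^ q = 1 := Subtype.ext (by simpa using hBe.2 g g.2)
    have h3 : orderOf g ∣ q := orderOf_dvd_of_pow_eq_one h2
    rw [h1, hBc] at h3
    have h4 := Nat.le_of_dvd hq.pos h3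
    have h5 : q < q ^ 2 := by nlinarith [hq.two_le]
    omega
  obtain ⟨r, w, z, hr, hw, hz, hw1, hzw⟩ := Cfsg.Agent.Lib.Helper30Gen.exists_rank_two hnc
  have hrq : r = q := by
    have h2 : w ^ q = 1 := Subtype.ext (by simpa using hBe.2 w w.2)
    have h3 : orderOf w ∣ q := orderOf_dvd_of_pow_eq_one h2
    have h4 : orderOf w ∣ r := orderOf_dvd_of_pow_eq_one hw
    have h5 : orderOf w ≠ 1 := fun h => hw1 (orderOf_eq_one_iff.mp h)
    have h6 : orderOf w = q := (Nat.dvd_prime hq).mp h3 |>.resolve_left h5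
    have h7 : orderOf w = r := (Nat.dvd_prime hr).mp h4 |>.resolve_left h5
    rw [← h7, h6]
  subst hrq
  by_contra hcon
  push Not at hcon
  have hgen := Cfsg.Agent.Lib.Helper30Gen.le_gen (K := S) (r := r) (w := (w : G)) (z := (z : G))
    (by
      have := mul_comm w z
      exact congrArg Subtype.val this)
    (by simpa using congrArg Subtype.val hw) (by simpa using congrArg Subtype.val hz) hco
    (hBS w.2) (hBS z.2)
  apply hS
  rw [eq_bot_iff]
  refine hgen.trans ?_
  unfold Cfsg.Agent.Lib.Helper30Gen.gen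
  refine sup_le ?_ (iSup_le fun j => ?_)
  · exact (hcon w w.2 (fun h => hw1 (Subtype.ext h))).le
  · exact (hcon ((z : G) * (w : G) ^ j) (mul_mem z.2 (pow_mem w.2 j))
      (fun h => hzw j (Subtype.ext (by simpa using h)))).le

theorem qsigma (hG : IsMinSimpleOddOrder G) {M Ns K Kst A B : Subgroup G} {p k q : ℕ}
    (h : Bas M Ns K Kst A p k) (hq : q ∈ tau2 M) (hqk : q ≠ k) (hBD : B ≤ M ⊓ Ns)
    (hBe : IsElementaryAbelian q B) (hBc : Nat.card B = q ^ 2) :
    B ≤ sigmaCore Ns ⊓ centralizer (K : Set G) := by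
  have hqp : q.Prime := hq.1
  haveI : Fact q.Prime := ⟨hqp⟩
  obtain ⟨⟨hDN, -⟩, -, hX⟩ :=
    Cfsg.Agent.S1418.result hG M h.hM (M ⊓ Ns) h.compl q hq B ⟨hBD, hBe, hBc⟩
  -- `B` is a `q`-group
  have hBp : IsPGroup q B := IsPGroup.of_card hBc
  -- `[B, K] = 1`
  have hBF : B ≤ fittingOf (M ⊓ Ns) := by
    apply Cfsg.Agent.Lib.Helper30Bender.le_fittingOf hBD hDN
    haveI := hBe.1
    letI : CommGroup B := { (inferInstance : Group B) with mul_comm := fun a b => mul_comm' a b }
    infer_instance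
  have hBK : B ≤ centralizer (K : Set G) := by
    intro b hb
    rw [mem_centralizer_iff]
    intro z hz
    haveI := Cfsg.Agent.Lib.Helper30Bender.fittingOf_isNilpotent (M ⊓ Ns)
    have h1 := Cfsg.Agent.Lib.Helper31Nilpotent.coprime_commute (fittingOf (M ⊓ Ns))
      ⟨z, h.KF hz⟩ ⟨b, hBF hb⟩ (by
        rw [Subgroup.orderOf_mk, Subgroup.orderOf_mk]
        have h2 : orderOf z ∣ k := by
          have := orderOf_dvd_natCard (⟨z, hz⟩ : K)
          rwa [Subgroup.orderOf_mk, h.Kc] at this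
        have h3 : orderOf b ∣ q := orderOf_dvd_of_pow_eq_one (hBe.2 b hb)
        exact Nat.Coprime.coprime_dvd_left h2 (Nat.Coprime.coprime_dvd_right h3
          ((Nat.coprime_primes h.kp hqp).mpr (Ne.symm hqk))))
    exact congrArg Subtype.val h1
  refine le_inf ?_ hBK
  by_cases hqs : q ∈ sigma Ns
  · exact Cfsg.Agent.Lib.Helper2BGb.pgroup_le_sigmaCore hG h.pt.max hqs (hBD.trans inf_le_right) hBp
  exfalso
  -- a non-identity element of `B` with fixed points on `M_σ`
  have hS1 : sigmaCore M ≠ ⊥ := by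
    intro h0
    have h1 : A = ⊥ := by rw [eq_bot_iff, ← h0]; exact h.AM
    have h2 := h.Ac
    rw [h1, Subgroup.card_bot] at h2
    have := h.pp.two_le
    nlinarith
  have hco : (Nat.card (sigmaCore M)).Coprime q := by
    rw [Nat.coprime_comm, Nat.Prime.coprime_iff_not_dvd hqp]
    intro hd
    exact hq.2.1 (Cfsg.Agent.Lib.Helper30BG2.card_sigmaCore hG h.hM q hqp hd)
  obtain ⟨d, hdB, hd1, hdS⟩ := exists_fix hS1 hBe hBc
    ((hBD.trans inf_le_left).trans (Cfsg.Agent.Lib.Helper30BG2.le_normalizer_sigmaCore M)) hco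
  have hcz : centralizer ((zpowers d : Subgroup G) : Set G) = centralizer ({d} : Set G) := by
    rw [Subgroup.zpowers_eq_closure, Subgroup.centralizer_closure]
  have hod : orderOf d = q :=
    (Nat.dvd_prime hqp).mp (orderOf_dvd_of_pow_eq_one (hBe.2 d hdB)) |>.resolve_left
      (fun h => hd1 (orderOf_eq_one_iff.mp h))
  have hcard : Nat.card (zpowers d) = q := by rw [Nat.card_zpowers, hod]
  obtain ⟨hCM, hCu⟩ := hX (zpowers d) (zpowers_le.mpr hdB) hcard (by rw [hcz]; exact hdS)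
  -- a generator of `K`
  have hK1 : K ≠ ⊥ := by
    intro h0
    have := h.Kc
    rw [h0, Subgroup.card_bot] at this
    exact h.kp.one_lt.ne this
  obtain ⟨z, hzK, hz1⟩ : ∃ z ∈ K, z ≠ 1 := by
    obtain ⟨z, hz⟩ := (Subgroup.ne_bot_iff_exists_ne_one).mp hK1
    exact ⟨(z : G), z.2, fun h0 => hz (Subtype.ext h0)⟩
  have hKs : K ≤ sigmaCore Ns := by
    rw [← h.KsK]; exact inf_le_left
  have hdz : d ∈ Ns ⊓ centralizer ({z} : Set G) := by
    refine ⟨(hBD hdB).2, ?_⟩
    show d ∈ centralizer ({z} : Set G)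
    rw [mem_centralizer_singleton_iff]
    exact ((mem_centralizer_iff.mp (hBK hdB)) z hzK).symm
  have hpr : ∀ r : ℕ, r.Prime → r ∣ orderOf d → r = q := by
    intro r hr hrd
    rw [hod] at hrd
    exact (Nat.prime_dvd_prime_iff_eq hr hqp).mp hrd
  rcases Cfsg.Agent.S1432.result hG Ns h.pt.max z (hKs hzK) hz1 d hdz hd1
    (fun r hr hrd => by rw [hpr r hr hrd]; exact hqs) with ⟨hk, -⟩ | ⟨-, -, hCN, hCNu⟩
  · have hqk' : q ∈ kappa Ns := hk q hqp (by rw [hod])
    obtain ⟨m, hm, hmK⟩ := Cfsg.Agent.Lib.Helper51BG16.exists_cj_le_K hG h.pt.max h.pt.hall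
      (Y := zpowers d) (zpowers_le.mpr (hBD hdB).2) (by
        intro r hr hrd
        rw [hcard] at hrd
        rw [(Nat.prime_dvd_prime_iff_eq hr hqp).mp hrd]
        exact hqk')
    have h1 := h.uniq (cj m (zpowers d)) hmK (by rw [card_cj, hcard]; exact hqp) (cj m M)
      (isCoatom_cj h.hM m)
      ((Cfsg.Agent.Lib.Helper24BGAsym.cj_centralizer_le m (zpowers d)).trans (cj_mono hCM))
    rw [Cfsg.Agent.Lib.Helper52BG14.kappa_cj, h.kM] at h1
    exact Set.not_nonempty_empty h1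
  · apply h.ne
    apply hCNu M h.hM
    rw [← hcz]
    exact hCM

end Cfsg.Agent.Lib.Helper38BG76qsigma
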