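import Mathlib

set_option autoImplicit false

namespace Cfsg.Agent.Lib.Helper38Dih

variable {G : Type*} [Group G]

theorem inv_of_sq {a : G} (ha : a * a = 1) : a⁻¹ = a := inv_eq_of_mul_eq_one_left ha

theorem sq_of_orderOf_two {a : G} (ha : orderOf a = 2) : a * a = 1 := by
  rw [← pow_two, ← ha, pow_orderOf_eq_one]

theorem ne_one_of_orderOf_two {a : G} (ha : orderOf a = 2) : a ≠ 1 := by
  rintro rfl; simp at ha

theorem orderOf_two_of_sq {a : G} (ha : a * a = 1) (h1 : a ≠ 1) : orderOf a = 2 :=
  orderOf_eq_prime (by rw [pow_two, ha]) h1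

/-- `d` inverts powers of `d * e`. -/
theorem conj_rot_pow {d e : G} (hd : d * d = 1) (he : e * e = 1) (n : ℕ) :
    d * (d * e) ^ n * d = (e * d) ^ n := by
  induction n with
  | zero => simpa using hd
  | succ n ih =>
    calc d * (d * e) ^ (n + 1) * d = (d * (d * e) ^ n * d) * (d * d) * (e * d) := by
          rw [pow_succ, hd]; group
      _ = (e * d) ^ (n + 1) := by rw [ih, hd, pow_succ]; group

theorem rot_mul_rot' {d e : G} (hd : d * d = 1) (he : e * e = 1) : (d * e) * (e * d) = 1 := by
  calc (d * e) * (e * d) = d * (e * e) * d := by group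
    _ = 1 := by rw [he]; simpa using hd

theorem rot_inv {d e : G} (hd : d * d = 1) (he : e * e = 1) : (d * e)⁻¹ = e * d :=
  inv_eq_of_mul_eq_one_right (rot_mul_rot' hd he)

/-- Every reflection `(d e)^n d` is conjugate to `d` or to `e`. -/
theorem refl_conj {d e : G} (hd : d * d = 1) (he : e * e = 1) (n : ℕ) :
    ∃ w : G, (d * e) ^ n * d = w * d * w⁻¹ ∨ (d * e) ^ n * d = w * e * w⁻¹ := by
  induction n using Nat.strong_induction_on with
  | _ n ih =>
    match n with
    | 0 => exact ⟨1, Or.inl (by simp)⟩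
    | 1 =>
      refine ⟨d, Or.inr ?_⟩
      rw [inv_of_sq hd]; simp
    | (n + 2) =>
      obtain ⟨w, hw⟩ := ih n (by omega)
      have key : (d * e) ^ (n + 2) * d = (d * e) * ((d * e) ^ n * d) * (d * e)⁻¹ := by
        rw [rot_inv hd he]
        calc (d * e) ^ (n + 2) * d = (d * e) * (d * e) ^ n * (d * e) * d := by
              rw [pow_succ, pow_succ']
          _ = (d * e) * (d * e) ^ n * (d * (e * d)) := by group
          _ = (d * e) * ((d * e) ^ n * d) * (e * d) := by group
      refine ⟨(d * e) * w, ?_⟩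
      rcases hw with hw | hw
      · left; rw [key, hw]; group
      · right; rw [key, hw]; group

/-- The odd case: if `(d e)^(2j+1) = 1` then `s = (d e)^j d` is an involution with `s e s = d`. -/
theorem odd_case {d e : G} (hd : d * d = 1) (he : e * e = 1) {j : ℕ} (h : (d * e) ^ (2 * j + 1) = 1) :
    ((d * e) ^ j * d) * ((d * e) ^ j * d) = 1 ∧ ((d * e) ^ j * d) * e * ((d * e) ^ j * d) = d := by
  constructor
  · calc ((d * e) ^ j * d) * ((d * e) ^ j * d) = (d * e) ^ j * (d * (d * e) ^ j * d) := by group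
      _ = (d * e) ^ j * (e * d) ^ j := by rw [conj_rot_pow hd he]
      _ = 1 := by
        rw [← rot_inv hd he, inv_pow, mul_inv_cancel]
  · calc ((d * e) ^ j * d) * e * ((d * e) ^ j * d) = ((d * e) ^ j * (d * e) * (d * e) ^ j) * d := by group
      _ = (d * e) ^ (2 * j + 1) * d := by
        rw [← pow_succ, ← pow_add]; congr 2; ring
      _ = d := by rw [h, one_mul]

/-- The even case: `c = (d e)^m` with `(d e)^(2m) = 1` commutes with `d` and `e`. -/
theorem even_case_comm {d e : G} (hd : d * d = 1) (he : e * e = 1) {m : ℕ} (h : (d * e) ^ (2 * m) = 1) :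
    d * (d * e) ^ m = (d * e) ^ m * d ∧ e * (d * e) ^ m = (d * e) ^ m * e ∧
      (d * e) ^ m * (d * e) ^ m = 1 ∧ (e * d) ^ m = (d * e) ^ m := by
  have hsq : (d * e) ^ m * (d * e) ^ m = 1 := by rw [← pow_add, ← two_mul, h]
  have hinv : (e * d) ^ m = (d * e) ^ m := by
    rw [← rot_inv hd he, inv_pow]
    exact inv_eq_of_mul_eq_one_left hsq
  have h1 : d * (d * e) ^ m = (d * e) ^ m * d := by
    have := conj_rot_pow hd he m
    rw [hinv] at this
    calc d * (d * e) ^ m = (d * (d * e) ^ m * d) * d := by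
          rw [mul_assoc _ d d, hd, mul_one]
      _ = (d * e) ^ m * d := by rw [this]
  refine ⟨h1, ?_, hsq, hinv⟩
  have := conj_rot_pow he hd m
  rw [hinv] at this
  calc e * (d * e) ^ m = (e * (d * e) ^ m * e) * e := by rw [mul_assoc _ e e, he, mul_one]
    _ = (d * e) ^ m * e := by rw [this]

/-- square roots are unique among elements of odd order -/
theorem eq_of_sq_eq_of_odd {x y : G} {a b : ℕ} (ha : Odd a) (hb : Odd b) (hx : x ^ a = 1) (hy : y ^ b = 1)
    (h : x * x = y * y) : x = y := by
  obtain ⟨k, hk⟩ := ha.mul hb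
  have hx' : x ^ (a * b) = 1 := by rw [pow_mul, hx, one_pow]
  have hy' : y ^ (a * b) = 1 := by rw [mul_comm, pow_mul, hy, one_pow]
  calc x = x ^ (a * b) * x := by rw [hx', one_mul]
    _ = (x * x) ^ (k + 1) := by rw [hk, ← pow_two, ← pow_mul, ← pow_succ]; congr 1
    _ = (y * y) ^ (k + 1) := by rw [h]
    _ = y ^ (a * b) * y := by rw [hk, ← pow_two, ← pow_mul, ← pow_succ]; congr 1
    _ = y := by rw [hy', one_mul]

/-- parity of an involutive map -/
theorem card_modEq_of_involutive {α : Type*} [Finite α] (f : α → α) (hf : Function.Involutive f) :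
    Nat.card α ≡ Nat.card {x // f x = x} [MOD 2] := by
  classical
  have := Fintype.ofFinite α
  let F : Function.End α := f
  have hF : F ^ 2 ^ 1 = 1 := by
    rw [pow_one, pow_two]
    funext x
    exact hf x
  have h := Equiv.Perm.card_fixedPoints_modEq (α := α) (f := F) (p := 2) (n := 1) hF
  rw [Nat.card_eq_fintype_card, Nat.card_eq_fintype_card]
  refine h.trans ?_
  have : Fintype.card (Function.fixedPoints f) = Fintype.card {x // f x = x} :=
    Fintype.card_congr (Equiv.refl _)
  rw [← this]

/-- parity for a subset of a group stable under conjugation by an involution -/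
theorem ncard_modEq_of_conj [Finite G] (S : Set G) {w : G} (hw : w * w = 1)
    (hS : ∀ s ∈ S, w * s * w ∈ S) :
    S.ncard ≡ (S ∩ {s | w * s = s * w}).ncard [MOD 2] := by
  have h := card_modEq_of_involutive (α := S) (fun s => ⟨w * s * w, hS s s.2⟩) (by
    intro s
    apply Subtype.ext
    change w * (w * s * w) * w = s
    calc w * (w * s * w) * w = (w * w) * s * (w * w) := by group
      _ = s := by rw [hw]; simp)
  rw [Nat.card_coe_set_eq] at h
  refine h.trans ?_
  have e : Nat.card {x : S // (⟨w * x * w, hS x x.2⟩ : S) = x} = (S ∩ {s | w * s = s * w}).ncard := by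
    rw [← Nat.card_coe_set_eq]
    refine Nat.card_congr ⟨fun x => ⟨x.1.1, x.1.2, ?_⟩, fun x => ⟨⟨x.1, x.2.1⟩, ?_⟩, ?_, ?_⟩
    · have := congrArg Subtype.val x.2
      change w * x.1.1 * w = x.1.1 at this
      change w * x.1.1 = x.1.1 * w
      calc w * x.1.1 = (w * x.1.1 * w) * w := by rw [mul_assoc _ w w, hw, mul_one]
        _ = x.1.1 * w := by rw [this]
    · apply Subtype.ext
      change w * x.1 * w = x.1
      have : w * x.1 = x.1 * w := x.2.2
      rw [this, mul_assoc, hw, mul_one]
    · intro x; rfl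
    · intro x; rfl
  rw [e]

theorem index_centralizer_eq_ncard (z : G) :
    (Subgroup.centralizer ({z} : Set G)).index = {x | IsConj z x}.ncard := by
  have h1 : (MulAction.stabilizer (ConjAct G) z).index = (MulAction.orbit (ConjAct G) z).ncard :=
    MulAction.index_stabilizer (ConjAct G) z
  rw [ConjAct.stabilizer_eq_centralizer] at h1
  have h2 : MulAction.orbit (ConjAct G) z = {x | IsConj z x} := by
    ext x
    rw [ConjAct.mem_orbit_conjAct, Set.mem_setOf_eq, isConj_comm]
  rw [h2] at h1
  exact h1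

end Cfsg.Agent.Lib.Helper38Dih
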