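import Cfsg.Agent.Lib.Helper63PCDefs

/-!
# PROJECT PC-MULT, piece `pcb` (helper38)
-/

set_option autoImplicit false

namespace Cfsg.Agent.Lib.Helper38PCpcb

open Cfsg Cfsg.Agent.Lib.Helper63PCDefs

section step
variable {Y : Type*} [Group Y]

/-- conjugation by powers -/
theorem conj_pow_mem (K : Subgroup Y) (x : Y) (hn : ∀ k ∈ K, x⁻¹ * k * x ∈ K) :
    ∀ (e : ℕ), ∀ k ∈ K, (x ^ e)⁻¹ * k * x ^ e ∈ K := by
  intro e
  induction e with
  | zero => intro k hk; simpa using hk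
  | succ e ih =>
    intro k hk
    have h1 := hn _ (ih k hk)
    have h2 : (x ^ (e + 1))⁻¹ * k * x ^ (e + 1) = x⁻¹ * ((x ^ e)⁻¹ * k * x ^ e) * x := by
      rw [pow_succ]
      group
    rw [h2]
    exact h1

/-- the subgroup `⋃ x ^ e K` -/
def stepSub (K : Subgroup Y) (x : Y) (p : ℕ) (hp : 0 < p) (hxp : x ^ p ∈ K)
    (hn : ∀ k ∈ K, x⁻¹ * k * x ∈ K) : Subgroup Y where
  carrier := {g | ∃ e : ℕ, ∃ k ∈ K, g = x ^ e * k}
  one_mem' := ⟨0, 1, K.one_mem, by simp⟩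
  mul_mem' := by
    rintro _ _ ⟨e, k, hk, rfl⟩ ⟨e', k', hk', rfl⟩
    refine ⟨e + e', (x ^ e')⁻¹ * k * x ^ e' * k', K.mul_mem (conj_pow_mem K x hn e' k hk) hk', ?_⟩
    rw [pow_add]
    group
  inv_mem' := by
    rintro _ ⟨e, k, hk, rfl⟩
    refine ⟨(p - 1) * e, (x ^ ((p - 1) * e))⁻¹ * k⁻¹ * x ^ ((p - 1) * e) * ((x ^ p) ^ e)⁻¹,
      K.mul_mem (conj_pow_mem K x hn _ _ (K.inv_mem hk)) (K.inv_mem (K.pow_mem hxp e)), ?_⟩
    have h1 : x ^ ((p - 1) * e) * ((x ^ p) ^ e)⁻¹ = (x ^ e)⁻¹ := by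
      rw [← pow_mul, eq_comm, inv_eq_iff_mul_eq_one, ← mul_assoc, ← pow_add, mul_inv_eq_one]
      congr 1
      obtain ⟨m, rfl⟩ : ∃ m, p = m + 1 := ⟨p - 1, by omega⟩
      simp only [Nat.add_sub_cancel]
      ring
    calc (x ^ e * k)⁻¹ = k⁻¹ * (x ^ e)⁻¹ := by group
      _ = k⁻¹ * (x ^ ((p - 1) * e) * ((x ^ p) ^ e)⁻¹) := by rw [h1]
      _ = _ := by group

theorem step_lemma (K : Subgroup Y) (x : Y) (p : ℕ) (hp : 0 < p) (hxp : x ^ p ∈ K)
    (hn : ∀ k ∈ K, x⁻¹ * k * x ∈ K) (hfin : Finite K) (L : Subgroup Y)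
    (hL : L ≤ K ⊔ Subgroup.zpowers x) :
    Finite L ∧ Nat.card L ≤ p * Nat.card K := by
  have h1 : K ⊔ Subgroup.zpowers x ≤ stepSub K x p hp hxp hn := by
    rw [sup_le_iff, Subgroup.zpowers_le]
    exact ⟨fun k hk => ⟨0, k, hk, by simp⟩, ⟨1, 1, K.one_mem, by simp⟩⟩
  have h2 : (L : Set Y) ⊆ Set.range (fun t : Fin p × K => x ^ (t.1 : ℕ) * (t.2 : Y)) := by
    intro g hg
    obtain ⟨e, k, hk, rfl⟩ := h1 (hL hg)
    refine ⟨(⟨e % p, Nat.mod_lt _ hp⟩, ⟨(x ^ p) ^ (e / p) * k, K.mul_mem (K.pow_mem hxp _) hk⟩), ?_⟩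
    show x ^ (e % p) * ((x ^ p) ^ (e / p) * k) = x ^ e * k
    rw [← mul_assoc, ← pow_mul, ← pow_add, Nat.mod_add_div]
  have hfr : (Set.range (fun t : Fin p × K => x ^ (t.1 : ℕ) * (t.2 : Y))).Finite := Set.finite_range _
  refine ⟨(hfr.subset h2).to_subtype, ?_⟩
  calc Nat.card L = (L : Set Y).ncard := rfl
    _ ≤ (Set.range (fun t : Fin p × K => x ^ (t.1 : ℕ) * (t.2 : Y))).ncard := Set.ncard_le_ncard h2 hfr
    _ ≤ Nat.card (Fin p × K) := by
      rw [← Set.image_univ, ← Set.ncard_univ]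
      exact Set.ncard_image_le Set.finite_univ
    _ = p * Nat.card K := by rw [Nat.card_prod, Nat.card_fin]

end step

/-- piece `pcb`: a group satisfying the power-commutator relations has order at most `p ^ n` -/
theorem pcb {Y : Type*} [Group Y] (D : PC) (hp : 0 < D.p) (hw : D.wordsOK = true) (y : ℕ → Y)
    (hS : Sat D y (fun _ => 1)) :
    Finite (Subgroup.closure (y '' Set.Iio D.n)) ∧
      Nat.card (Subgroup.closure (y '' Set.Iio D.n)) ≤ D.p ^ D.n := by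
  have hw1 : ∀ a, a < D.n → ∀ l ∈ D.pw a, a < l ∧ l < D.n := by
    intro a ha l hl
    simp only [PC.wordsOK, Bool.and_eq_true, List.all_eq_true, List.mem_range,
      decide_eq_true_eq] at hw
    exact hw.1 a ha l hl
  have hw2 : ∀ b a, b < D.n → a < D.n → ∀ l ∈ D.cm b a, b < l ∧ l < D.n := by
    intro b a hb ha l hl
    simp only [PC.wordsOK, Bool.and_eq_true, List.all_eq_true, List.mem_range,
      decide_eq_true_eq] at hw
    exact hw.2 b hb a ha l hl
  have hev : ∀ (i : ℕ) (w : List ℕ), (∀ l ∈ w, i < l ∧ l < D.n) →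
      evalW y w ∈ Subgroup.closure (y '' {a | i + 1 ≤ a ∧ a < D.n}) := by
    intro i w hwl
    apply Subgroup.list_prod_mem
    intro g hg
    obtain ⟨l, hl, rfl⟩ := List.mem_map.1 hg
    exact Subgroup.subset_closure ⟨l, ⟨(hwl l hl).1, (hwl l hl).2⟩, rfl⟩
  have key : ∀ d, d ≤ D.n → Finite (Subgroup.closure (y '' {a | D.n - d ≤ a ∧ a < D.n})) ∧
      Nat.card (Subgroup.closure (y '' {a | D.n - d ≤ a ∧ a < D.n})) ≤ D.p ^ d := by
    intro d
    induction d with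
    | zero =>
      intro _
      have : {a | D.n - 0 ≤ a ∧ a < D.n} = (∅ : Set ℕ) := by
        ext a
        simp only [Set.mem_ofPred_eq, Set.mem_empty_iff_false, iff_false]
        omega
      rw [this, Set.image_empty, Subgroup.closure_empty]
      exact ⟨inferInstance, by simp⟩
    | succ d ih =>
      intro hd
      obtain ⟨hfin, hcard⟩ := ih (by omega)
      obtain ⟨i, hi⟩ : ∃ i, D.n - (d + 1) = i := ⟨_, rfl⟩
      have hi1 : D.n - d = i + 1 := by omega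
      have hin : i < D.n := by omega
      rw [hi1] at hfin hcard
      rw [hi]
      have hxp : y i ^ D.p ∈ Subgroup.closure (y '' {a | i + 1 ≤ a ∧ a < D.n}) := by
        rw [hS.pw i hin, mul_one]
        exact hev i _ (hw1 i hin)
      have hn : ∀ k ∈ Subgroup.closure (y '' {a | i + 1 ≤ a ∧ a < D.n}),
          (y i)⁻¹ * k * y i ∈ Subgroup.closure (y '' {a | i + 1 ≤ a ∧ a < D.n}) := by
        have hle : Subgroup.closure (y '' {a | i + 1 ≤ a ∧ a < D.n}) ≤
            (Subgroup.closure (y '' {a | i + 1 ≤ a ∧ a < D.n})).comap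
              (MulAut.conj (y i)⁻¹).toMonoidHom := by
          rw [Subgroup.closure_le]
          rintro _ ⟨a, ⟨ha1, ha2⟩, rfl⟩
          show (y i)⁻¹ * y a * (y i)⁻¹⁻¹ ∈ Subgroup.closure (y '' {a | i + 1 ≤ a ∧ a < D.n})
          have h1 := hS.cm i a ha1 ha2
          have h2 : (y i)⁻¹ * y a * (y i)⁻¹⁻¹ = y a * evalW y (D.cm i a) := by
            rw [inv_inv, mul_assoc, h1]
            group
          rw [h2]
          exact Subgroup.mul_mem _ (Subgroup.subset_closure ⟨a, ⟨ha1, ha2⟩, rfl⟩)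
            (hev i _ (hw2 i a hin ha2))
        intro k hk
        have := hle hk
        simpa using this
      have hL : Subgroup.closure (y '' {a | i ≤ a ∧ a < D.n}) ≤
          Subgroup.closure (y '' {a | i + 1 ≤ a ∧ a < D.n}) ⊔ Subgroup.zpowers (y i) := by
        rw [Subgroup.closure_le]
        rintro _ ⟨a, ⟨ha1, ha2⟩, rfl⟩
        rcases Nat.eq_or_lt_of_le ha1 with h | h
        · subst h
          exact Subgroup.mem_sup_right (Subgroup.mem_zpowers _)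
        · exact Subgroup.mem_sup_left (Subgroup.subset_closure ⟨a, ⟨h, ha2⟩, rfl⟩)
      obtain ⟨h1, h2⟩ := step_lemma _ (y i) D.p hp hxp hn hfin _ hL
      refine ⟨h1, h2.trans ?_⟩
      rw [pow_succ, mul_comm]
      exact Nat.mul_le_mul_right _ hcard
  have h0 := key D.n le_rfl
  have hset : {a | D.n - D.n ≤ a ∧ a < D.n} = Set.Iio D.n := by
    ext a
    simp
  rwa [hset] at h0

end Cfsg.Agent.Lib.Helper38PCpcb
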