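import Cfsg.Agent.Lib.Helper57UMax
import Cfsg.Agent.Lib.Helper13UProper

set_option autoImplicit false

/-! ASCH-U: `Helper57UMax.umax` for all `n ≥ 5` (same proof, with `Helper13UProper.not_le_subfield4`). -/

namespace Cfsg.Agent.Lib.Helper38U6Max

open Cfsg Cfsg.Geo Matrix
open Cfsg.Agent.Lib.Helper97AschBase Cfsg.Agent.Lib.Helper97UBase
  Cfsg.Agent.Lib.Helper13UDefs Cfsg.Agent.Lib.Helper57UConv Cfsg.Agent.Lib.Helper57UMax
open Cfsg.Agent.Lib.Helper13UMain (umain)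
open Cfsg.Agent.Lib.Helper60UPdecomp (notSU_decomp)
open Cfsg.Agent.Lib.Helper60UPsubalg (notSU_subalg)
open Cfsg.Agent.Lib.Helper15UPc6 (notSU_c6)
open Cfsg.Agent.Lib.Helper12UPtensor (notSU_tensor)
open Cfsg.Agent.Lib.Helper57UTensor2 (tensor_two_u)
open Cfsg.Agent.Lib.Helper13UProper (not_le_subfield4)
open scoped MatrixGroups Kronecker

variable {n : ℕ} {F : Type*} [Field F] {σ : F ≃+* F} {f : (Fin n → F) → (Fin n → F) → F}

theorem umax5 [Fintype F] {q : ℕ} (hU : US σ f q) (hn : 5 ≤ n) (hpl : q = 2 → Planes2 f)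
    (H : Subgroup (GL (Fin n) F)) (hH : IsMaximalIn (Iso f ⊓ specialLinear (Fin n) F) H) :
    UMaxAlt σ f q H ∨ InUnitaryResidualClass H := by
  have hf := hU.unitary
  have hq2 := two_le_q hU.card
  have hHI : H ≤ Iso f := hH.1.le.trans inf_le_left
  rcases umain hU (by omega) H hHI with h | h
  swap
  · exact Or.inr h
  left
  -- non-degenerate decompositions
  have hdec : ∀ {t k : ℕ} {D : Fin t → Submodule F (Fin n → F)}, IsNondegenerateMDecomposition f k D →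
      (k = 2 → 3 ≤ q) → H ≤ decompositionStabilizer D → UMaxAlt σ f q H := by
    intro t k D hD hk2 hle
    have hcard := Cfsg.Agent.Lib.Helper67AschD.decomp_card D hD.decomp
    refine Or.inr (Or.inr (Or.inl ⟨t, k, D, hcard, hD.decomp.two_le, hD.decomp.pos, hk2, hD,
      eq_inf_of_le' hH hle ?_⟩))
    have hk0 := hD.decomp.pos
    by_cases hk1 : k = 1
    · subst hk1
      obtain rfl : t = n := by omega
      exact Cfsg.Agent.Lib.Helper97UProper.not_le_decomp hf (by omega) D hD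
    · exact notSU_decomp hf (by omega) D hD.decomp
  rcases h with ⟨W, h0, h1, h⟩ | ⟨W, h0, h1, h2, h⟩ | ⟨t, k, D, hD, h⟩ | ⟨k, D, hk, hD, hs, h⟩ |
    ⟨r, K, hr, hodd, hK, hs, h⟩ | ⟨n₁, n₂, e, P, h1, h2, hP, h⟩ | ⟨F₀, r, P, hr, hodd, hc, hP, h⟩ |
    ⟨F₀, P, hodd, hc, hP, h⟩ | ⟨F₀, P, ζ, hev, hc, h0, h1, hP, ha, h⟩ |
    ⟨r, R, p, e, k, h1, h2, h3, h3', h4, h5, h6, h7, h⟩ | ⟨k, t, e, P, hk, ht, hP, h⟩
  · exact Or.inl ⟨W, h0, h1, eq_inf_of_le' hH h
      (Cfsg.Agent.Lib.Helper97UProper.not_le_stab_singular hf h0 h1)⟩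
  · refine Or.inr (Or.inl ⟨W, h0, h1, h2, eq_inf_of_le' hH h
      (Cfsg.Agent.Lib.Helper97UProper.not_le_stab_nondeg hf h0 ?_ h1)⟩)
    rintro rfl
    rw [finrank_top, Module.finrank_fin_fun] at h2
    omega
  · by_cases hk2 : k = 2 ∧ q = 2
    · obtain ⟨rfl, rfl⟩ := hk2
      obtain ⟨D', hD', hle'⟩ := hpl rfl D hD
      exact hdec hD' (by omega) ((le_inf h hHI).trans hle')
    · exact hdec hD (by omega) h
  · refine Or.inr (Or.inr (Or.inr (Or.inl ⟨k, D, hk, hD, hs, eq_inf_of_le' hH h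
      (notSU_decomp hf (by omega) D hD)⟩)))
  · exact Or.inr (Or.inr (Or.inr (Or.inr (Or.inl ⟨r, K, hr, hodd,
      Cfsg.Agent.Lib.Helper67AschD.field_dvd K hK, hK, hs, eq_inf_of_le' hH h
      (notSU_subalg hf (by omega) hr.one_lt K hK)⟩))))
  · have hcard := Fintype.card_congr e
    simp only [Fintype.card_fin, Fintype.card_prod] at hcard
    by_cases hk2 : n₁ = 2 ∧ q = 2
    · obtain ⟨rfl, rfl⟩ := hk2
      obtain ⟨D', hD', hle'⟩ := tensor_two_u hU (by omega) e hP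
      exact hdec hD' (by omega) ((le_inf h hHI).trans hle')
    · exact Or.inr (Or.inr (Or.inr (Or.inr (Or.inr (Or.inl ⟨n₁, n₂, e, P, hermForm n₁ F q,
        hermForm n₂ F q, hcard, h1, h2, by omega, unitaryPow_herm hU.card n₁, unitaryPow_herm hU.card n₂,
        tensorForm_of_ON hU e hP, eq_inf_of_le' hH h (notSU_tensor hU h1 (by omega) e hP)⟩)))))
  · exact Or.inr (Or.inr (Or.inr (Or.inr (Or.inr (Or.inr (Or.inl ⟨F₀, r, P, hr, hodd, hc, hP,
      eq_inf_of_le' hH h (not_le_subfield4 hf (by omega)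
        (Cfsg.Agent.Lib.Helper97AschSubfield.subfield_ne_top_of_card hr hc) P)⟩))))))
  · exact Or.inr (Or.inr (Or.inr (Or.inr (Or.inr (Or.inr (Or.inr (Or.inl ⟨hodd, F₀, P, hc, hP,
      eq_inf_of_le' hH h (not_le_subfield4 hf (by omega)
        (Cfsg.Agent.Lib.Helper97AschSubfield.subfield_ne_top_of_card Nat.prime_two hc) P)⟩)))))))
  · exact Or.inr (Or.inr (Or.inr (Or.inr (Or.inr (Or.inr (Or.inr (Or.inr (Or.inl ⟨hev, F₀, P, ζ, hc, h0,
      h1, hP, ha, eq_inf_of_le' hH h (not_le_subfield4 hf (by omega)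
        (Cfsg.Agent.Lib.Helper97AschSubfield.subfield_ne_top_of_card Nat.prime_two hc) P)⟩))))))))
  · exact Or.inr (Or.inr (Or.inr (Or.inr (Or.inr (Or.inr (Or.inr (Or.inr (Or.inr (Or.inl ⟨r, R, p, e, k,
      h1, h2, h3.trans Iso_le_similarityGroup, h4, h5, h6, h7, eq_inf_of_le' hH h
      (notSU_c6 hf (by omega) h2 h3')⟩)))))))))
  · have hcard := Fintype.card_congr e
    simp only [Fintype.card_fin, Fintype.card_fun] at hcard
    exact Or.inr (Or.inr (Or.inr (Or.inr (Or.inr (Or.inr (Or.inr (Or.inr (Or.inr (Or.inr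
      ⟨k, t, e, P, hcard, hk, ht, hP, h⟩)))))))))

end Cfsg.Agent.Lib.Helper38U6Max
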