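import Cfsg.Agent.Lib.Helper3BG36NonabA
import Cfsg.Agent.Lib.Helper17BG36Thompson
import Cfsg.Agent.Lib.Helper30SZ

set_option autoImplicit false
set_option linter.unusedSectionVars false

/-! The nonabelian case of the hard case of B-G Theorem 3.6: the minimal `A R`-invariant subgroup
`Q` is abelian. -/

namespace Cfsg.Agent.Lib.Helper3BG36Nonab

open Cfsg.Agent.Lib.Helper36Frob Cfsg.Agent.Lib.Helper74BG36 Subgroup
open Cfsg.Agent.Lib.Helper3BG36NonabA

variable {G V : Type*} [Group G] [Finite G] [AddCommGroup V] [DistribMulAction G V]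

attribute [local instance] Cfsg.Agent.Lib.Helper36Frob.instFintypeSub

/-- a subgroup of prime order lies in every subgroup containing one of its nontrivial elements. -/
lemma le_of_prime_card {r : ℕ} (hr : r.Prime) {R K : Subgroup G} (hR : Nat.card R = r) {x : G}
    (hx : x ∈ R) (hx1 : x ≠ 1) (hxK : x ∈ K) : R ≤ K := by
  have h1 : Nat.card ↥(R ⊓ K) ∣ r := hR ▸ card_dvd_of_le inf_le_left
  rcases (Nat.dvd_prime hr).mp h1 with h | h
  · exfalso
    have h2 : R ⊓ K = ⊥ := card_eq_one.mp h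
    have h3 : x ∈ R ⊓ K := ⟨hx, hxK⟩
    rw [h2] at h3
    exact hx1 (mem_bot.mp h3)
  · have h2 : R ⊓ K = R := eq_of_le_of_card_ge inf_le_left (by rw [h, hR])
    rw [← h2]
    exact inf_le_right

/-- the pointwise stabiliser of an additive subgroup. -/
def fixer (U : AddSubgroup V) : Subgroup G where
  carrier := {x | ∀ u ∈ U, x • u = u}
  mul_mem' := by
    intro a b ha hb u hu
    rw [mul_smul, hb u hu, ha u hu]
  one_mem' := fun u _ => one_smul _ u
  inv_mem' := by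
    intro a ha u hu
    rw [inv_smul_eq_iff, ha u hu]

lemma normalizer_le_normalizer_center (Q : Subgroup G) :
    normalizer (Q : Set G) ≤ normalizer ((Q ⊓ centralizer (Q : Set G) : Subgroup G) : Set G) := by
  rw [le_normalizer_iff]
  intro b hb x hx
  refine ⟨conj_mem hb hx.1, ?_⟩
  show b * x * b⁻¹ ∈ centralizer (Q : Set G)
  rw [mem_centralizer_iff]
  intro s hs
  have h1 := (mem_centralizer_iff.mp hx.2) (b⁻¹ * s * b) (conj_mem' hb hs)
  calc s * (b * x * b⁻¹) = b * ((b⁻¹ * s * b) * x) * b⁻¹ := by group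
    _ = b * (x * (b⁻¹ * s * b)) * b⁻¹ := by rw [h1]
    _ = b * x * b⁻¹ * s := by group

theorem abelian_of_min [Finite V] {r : ℕ} (hr : r.Prime) (Q A R : Subgroup G)
    (hAQ : A ≤ normalizer (Q : Set G)) (hRQ : R ≤ normalizer (Q : Set G))
    (hRA : R ≤ normalizer (A : Set G))
    (hcop : (Nat.card Q).Coprime (Nat.card V)) (hQA : (Nat.card Q).Coprime (Nat.card A))
    (hQr : (Nat.card Q).Coprime r) (hR : Nat.card R = r)
    (hfpf : ∀ x ∈ R, x ≠ 1 → ∀ a ∈ A, x * a = a * x → a = 1)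
    (hsol : Group.IsSolvable Q) (hQQ : ⁅Q, A⁆ = Q)
    (hmin : ∀ N : Subgroup G, N ≤ Q → N ≠ Q → A ≤ normalizer (N : Set G) →
      R ≤ normalizer (N : Set G) → N ≤ centralizer (A : Set G))
    (hfaith : ∀ g ∈ Q, (∀ v : V, g • v = v) → g = 1)
    (hcycQ : ∀ a ∈ Q ⊓ centralizer (R : Set G), ∀ b ∈ Q ⊓ centralizer (R : Set G), a * b = b * a)
    (hcyc : Cyc (fix R : AddSubgroup V)) :
    ∀ a ∈ Q, ∀ b ∈ Q, a * b = b * a := by
  classical
  by_contra hnab
  -- proper invariant normal subgroups are central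
  have hminC : ∀ N : Subgroup G, N ≤ Q → N ≠ Q → Q ≤ normalizer (N : Set G) →
      A ≤ normalizer (N : Set G) → R ≤ normalizer (N : Set G) → N ≤ centralizer (Q : Set G) := by
    intro N hNQ hne hQN hAN hRN
    have h1 : N ≤ centralizer (A : Set G) := hmin N hNQ hne hAN hRN
    have h2 : ⁅⁅A, N⁆, Q⁆ = ⊥ := by
      have : ⁅A, N⁆ = ⊥ := commutator_eq_bot_iff_le_centralizer.mpr (le_centralizer_iff.mp h1)
      rw [this, commutator_bot_left]
    have h3 : ⁅⁅N, Q⁆, A⁆ = ⊥ := by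
      apply commutator_eq_bot_iff_le_centralizer.mpr
      refine le_trans ?_ h1
      exact le_normalizer_iff_commutator_le_left.mp hQN
    have h4 := commutator_commutator_eq_bot_of_rotate h2 h3
    rw [hQQ] at h4
    exact le_centralizer_iff.mp (commutator_eq_bot_iff_le_centralizer.mp h4)
  obtain ⟨Q1, hQ1⟩ : ∃ Q1, Q1 = ⁅Q, Q⁆ := ⟨_, rfl⟩
  have hQ1le : Q1 ≤ Q := by
    rw [hQ1]
    exact le_normalizer_iff_commutator_le_left.mp le_normalizer
  have hQ1bot : Q1 ≠ ⊥ := by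
    intro h
    apply hnab
    intro a ha b hb
    have h1 : Q ≤ centralizer (Q : Set G) :=
      commutator_eq_bot_iff_le_centralizer.mp (hQ1 ▸ h)
    exact ((mem_centralizer_iff.mp (h1 ha)) b hb).symm
  have hQ1ne : Q1 ≠ Q := by
    intro h
    have hnt : Nontrivial Q := by
      rw [nontrivial_iff_ne_bot]
      intro h0
      apply hQ1bot
      rw [eq_bot_iff, ← h0]
      exact hQ1le
    have h1 := Group.IsSolvable.commutator_lt_top_of_nontrivial (G := Q)
    apply h1.ne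
    apply map_injective (subtype_injective Q)
    rw [map_subtype_commutator, ← hQ1, h, ← MonoidHom.range_eq_map, range_subtype]
  have hQQ1 : Q ≤ normalizer (Q1 : Set G) :=
    hQ1 ▸ Cfsg.Agent.Lib.Helper30SZ.le_normalizer_commutator le_normalizer le_normalizer
  have hAQ1 : A ≤ normalizer (Q1 : Set G) :=
    hQ1 ▸ Cfsg.Agent.Lib.Helper30SZ.le_normalizer_commutator hAQ hAQ
  have hRQ1 : R ≤ normalizer (Q1 : Set G) :=
    hQ1 ▸ Cfsg.Agent.Lib.Helper30SZ.le_normalizer_commutator hRQ hRQ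
  have hQ1C : Q1 ≤ centralizer (Q : Set G) := hminC Q1 hQ1le hQ1ne hQQ1 hAQ1 hRQ1
  have hQ1A : Q1 ≤ centralizer (A : Set G) := hmin Q1 hQ1le hQ1ne hAQ1 hRQ1
  -- `z g = g z` for `z ∈ Q1`, `g ∈ Q`
  have hzc : ∀ z ∈ Q1, ∀ g ∈ Q, g * z = z * g := fun z hz g hg =>
    (mem_centralizer_iff.mp (hQ1C hz)) g hg
  have hQ1c : ∀ a ∈ Q1, ∀ b ∈ Q1, a * b = b * a := fun a ha b hb => hzc b hb a (hQ1le ha)
  have hcomm_mem : ∀ g ∈ Q, ∀ h ∈ Q, g * h * g⁻¹ * h⁻¹ ∈ Q1 := by
    intro g hg h hh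
    rw [hQ1, ← commutatorElement_def]
    exact commutator_mem_commutator hg hh
  have hcop1 : (Nat.card Q1).Coprime (Nat.card V) :=
    Nat.Coprime.coprime_dvd_left (card_dvd_of_le hQ1le) hcop
  have hker : (nrm Q1 : V →+ V).ker ≠ ⊥ := by
    obtain ⟨g, hg, hg1⟩ : ∃ g ∈ Q1, g ≠ 1 := by
      by_contra h
      push Not at h
      exact hQ1bot ((eq_bot_iff_forall _).mpr h)
    obtain ⟨v, hv⟩ : ∃ v : V, g • v ≠ v := by
      by_contra h
      push Not at h
      exact hg1 (hfaith g (hQ1le hg) h)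
    intro h0
    have h1 : g • v - v ∈ (nrm Q1 : V →+ V).ker := by
      rw [AddMonoidHom.mem_ker, map_sub, nrm_smul hg, sub_self]
    rw [h0, AddSubgroup.mem_bot] at h1
    exact hv (sub_eq_zero.mp h1)
  obtain ⟨D, hD⟩ := exists_Wt hker
  obtain ⟨U, hU⟩ : ∃ U : AddSubgroup V, U = cw Q1 D := ⟨_, rfl⟩
  have hU0 : U ≠ ⊥ := hU ▸ hD.ne
  have hDne : D ≠ Q1 := by
    intro h
    apply hD.ne
    rw [h]
    exact cw_self_eq_bot hcop1
  -- invariance of `U`
  have hinvU : ∀ g : G, g ∈ normalizer (Q1 : Set G) → g ∈ normalizer (D : Set G) →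
      ∀ u ∈ U, g • u ∈ U := by
    intro g hg hgD u hu
    rw [hU] at hu ⊢
    have := smul_mem_cw hg hu
    rwa [cj_eq_iff.mpr hgD] at this
  have hQD : Q ≤ normalizer (D : Set G) := by
    rw [le_normalizer_iff]
    intro g hg d hd
    rw [hzc d (hD.le hd) g hg, mul_inv_cancel_right]
    exact hd
  have hAD : A ≤ normalizer (D : Set G) := by
    rw [le_normalizer_iff]
    intro g hg d hd
    rw [(mem_centralizer_iff.mp (hQ1A (hD.le hd))) g hg, mul_inv_cancel_right]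
    exact hd
  have hQU : ∀ g ∈ Q, ∀ u ∈ U, g • u ∈ U := fun g hg => hinvU g (hQQ1 hg) (hQD hg)
  -- elements of `Q1` outside `D` act freely on `U`
  have hfree : ∀ x ∈ Q1, x ∉ D → ∀ u ∈ U, x • u = u → u = 0 := by
    intro x hx hxD u hu hxu
    rw [hU] at hu
    have h1 : u ∈ (fix (zpowers x) : AddSubgroup V) := by
      have h2 : zpowers x ≤ MulAction.stabilizer G u := by
        rw [zpowers_le]
        exact hxu
      exact fun y hy => h2 hy
    have h3 : u ∈ (cw Q1 (D ⊔ zpowers x) : AddSubgroup V) := ⟨hu.1, mem_fix_sup hu.2 h1⟩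
    have h4 : D < D ⊔ zpowers x := by
      apply lt_of_le_of_ne le_sup_left
      intro h
      apply hxD
      rw [h]
      exact mem_sup_right (mem_zpowers x)
    rw [hD.max _ h4 (sup_le hD.le (zpowers_le.mpr hx))] at h3
    exact (AddSubgroup.mem_bot).mp h3
  -- endgame: `U` is not contained in a cyclic module
  have hEG : ∀ f ∈ U, U ≤ span Q1 f → False := by
    intro f hf hUf
    have hT : ∀ g ∈ Q, ∀ z ∈ Q1, ∀ v : V, DistribSMul.toAddMonoidHom V g (z • v) =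
        z • DistribSMul.toAddMonoidHom V g v := by
      intro g hg z hz v
      show g • z • v = z • g • v
      rw [← mul_smul, ← mul_smul, hzc z hz g hg]
    have hgh : ∀ g ∈ Q, ∀ h ∈ Q, ∀ u ∈ U, g • h • u = h • g • u := by
      intro g hg h hh u hu
      exact comm_on_span hQ1c (hT g hg) (hT h hh) (hUf (hQU g hg f hf)) (hUf (hQU h hh f hf)) u
        (hUf hu)
    have h1 : Q1 ≤ fixer U := by
      rw [hQ1, commutator_le]
      intro g hg h hh u hu
      rw [commutatorElement_def, mul_smul, mul_smul, mul_smul,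
        hgh g hg h hh _ (hQU _ (Q.inv_mem hg) _ (hQU _ (Q.inv_mem hh) _ hu)), smul_inv_smul,
        smul_inv_smul]
    obtain ⟨u, hu, hu0⟩ : ∃ u ∈ U, u ≠ 0 := by
      by_contra h
      push Not at h
      exact hU0 ((AddSubgroup.eq_bot_iff_forall _).mpr h)
    have h2 : u ∈ (cw Q1 Q1 : AddSubgroup V) := by
      have hu' := hu
      rw [hU] at hu'
      exact ⟨hu'.1, fun z hz => h1 hz u hu⟩
    rw [cw_self_eq_bot hcop1] at h2
    exact hu0 ((AddSubgroup.mem_bot).mp h2)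
  by_cases hRD : R ≤ normalizer (D : Set G)
  swap
  · -- `R` moves `D`
    have hmov : ∀ x ∈ R, x ≠ 1 → cj x D ≠ D := by
      intro x hx hx1 h
      exact hRD (le_of_prime_card hr hR hx hx1 (cj_eq_iff.mp h))
    have hc := hD.cyc hcop1 hQ1c hRQ1 hcyc hmov
    obtain ⟨f, hf, hf0⟩ : ∃ u ∈ U, u ≠ 0 := by
      by_contra h
      push Not at h
      exact hU0 ((AddSubgroup.eq_bot_iff_forall _).mpr h)
    apply hEG f hf
    intro u hu
    rw [hU] at hu hf
    obtain ⟨n, rfl⟩ := hc u hu f hf hf0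
    exact AddSubgroup.nsmul_mem _ (self_mem_span Q1 f) n
  have hRU : ∀ g ∈ R, ∀ u ∈ U, g • u ∈ U := fun g hg => hinvU g (hRQ1 hg) (hRD hg)
  by_cases hz : ∃ z ∈ Q1, ∃ y ∈ R, z⁻¹ * (y * z * y⁻¹) ∉ D
  · -- `R` acts nontrivially on `Q1 / D`
    obtain ⟨z, hz, y, hy, hzy⟩ := hz
    have hzs : ∀ x : R, (x : G) * z * (x : G)⁻¹ ∈ Q1 := fun x => conj_mem (hRQ1 x.2) hz
    -- the stabiliser of `z` modulo `D`
    let St : Subgroup G :=
      { carrier := {s | s ∈ normalizer (D : Set G) ∧ z⁻¹ * (s * z * s⁻¹) ∈ D}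
        mul_mem' := by
          rintro a b ⟨ha, ha'⟩ ⟨hb, hb'⟩
          refine ⟨mul_mem ha hb, ?_⟩
          have h1 := D.mul_mem ha' (conj_mem ha hb')
          have e : z⁻¹ * (a * z * a⁻¹) * (a * (z⁻¹ * (b * z * b⁻¹)) * a⁻¹) =
              z⁻¹ * (a * b * z * (a * b)⁻¹) := by group
          rwa [e] at h1
        one_mem' := ⟨one_mem _, by simp⟩
        inv_mem' := by
          rintro a ⟨ha, ha'⟩
          refine ⟨inv_mem ha, ?_⟩
          have h1 := D.inv_mem (conj_mem' ha ha')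
          have e : (a⁻¹ * (z⁻¹ * (a * z * a⁻¹)) * a)⁻¹ = z⁻¹ * (a⁻¹ * z * a⁻¹⁻¹) := by group
          rwa [e] at h1 }
    have hSt : ∀ s ∈ R, s ≠ 1 → z⁻¹ * (s * z * s⁻¹) ∉ D := by
      intro s hs hs1 hsD
      have h1 : R ≤ St := le_of_prime_card hr hR hs hs1 ⟨hRD hs, hsD⟩
      exact hzy (h1 hy).2
    have key : ∀ M : AddSubgroup V, (∀ z' ∈ Q1, ∀ m ∈ M, z' • m ∈ M) →
        (∀ c ∈ U, c ∈ (fix R : AddSubgroup V) → c ∈ M) → U ≤ M := by
      intro M hM hC w hw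
      have h := elim M U (fun x : R => (x : G) * z * (x : G)⁻¹) (fun x => hM _ (hzs x))
        (fun x => hQU _ (hQ1le (hzs x))) (fun x x' => hQ1c _ (hzs x) _ (hzs x'))
        (by
          intro x x' hne u hu hxu
          apply hfree (((x' : G) * z * (x' : G)⁻¹)⁻¹ * ((x : G) * z * (x : G)⁻¹))
            (Q1.mul_mem (Q1.inv_mem (hzs x')) (hzs x)) _ u hu
          · rw [mul_smul, hxu, inv_smul_smul]
          · intro hmem
            have h1 := conj_mem' (hRD x'.2) hmem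
            have e : (x' : G)⁻¹ * (((x' : G) * z * (x' : G)⁻¹)⁻¹ * ((x : G) * z * (x : G)⁻¹)) *
                (x' : G) = z⁻¹ * (((x' : G)⁻¹ * x) * z * ((x' : G)⁻¹ * x)⁻¹) := by group
            rw [e] at h1
            refine hSt _ (R.mul_mem (R.inv_mem x'.2) x.2) ?_ h1
            intro h2
            apply hne
            apply Subtype.ext
            exact (inv_mul_eq_one.mp h2).symm)
        Finset.univ (fun x => (x : G) • w) (fun x _ => hRU x x.2 w hw)
        (by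
          intro j
          have e : ∑ x : R, ((x : G) * z * (x : G)⁻¹) ^ j • (x : G) • w = nrm R (z ^ j • w) := by
            rw [nrm_apply]
            refine Finset.sum_congr rfl fun x _ => ?_
            rw [conj_pow, ← mul_smul, ← mul_smul, inv_mul_cancel_right]
          rw [e]
          have hzw : z ^ j • w ∈ U := hQU _ (Q.pow_mem (hQ1le hz) j) w hw
          exact hC _ (nrm_mem hRU hzw) (nrm_mem_fix R _))
        1 (Finset.mem_univ _)
      simpa using h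
    by_cases hf : ∃ f ∈ U, f ∈ (fix R : AddSubgroup V) ∧ f ≠ 0
    · obtain ⟨f, hfU, hfR, hf0⟩ := hf
      apply hEG f hfU
      apply key _ (fun z' hz' m hm => smul_mem_span hz' hm)
      intro c _ hcR
      obtain ⟨n, rfl⟩ := hcyc c hcR f hfR hf0
      exact AddSubgroup.nsmul_mem _ (self_mem_span Q1 f) n
    · push Not at hf
      apply hU0
      rw [eq_bot_iff]
      apply key ⊥
      · intro z' _ m hm
        rw [AddSubgroup.mem_bot] at hm ⊢
        rw [hm, smul_zero]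
      · intro c hc hcR
        exact (AddSubgroup.mem_bot).mpr (hf c hc hcR)
  · -- `R` centralises `Q1 / D`
    push Not at hz
    have hcj : ∀ d ∈ Q1, ∀ g ∈ Q, g * d * g⁻¹ = d := by
      intro d hd g hg
      rw [hzc d hd g hg, mul_inv_cancel_right]
    let T : Subgroup G :=
      { carrier := {t | t ∈ Q ∧ ∀ s ∈ Q, t * s * t⁻¹ * s⁻¹ ∈ D}
        mul_mem' := by
          rintro a b ⟨ha, ha'⟩ ⟨hb, hb'⟩
          refine ⟨Q.mul_mem ha hb, fun s hs => ?_⟩
          have h1 := D.mul_mem (hb' s hs) (ha' s hs)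
          have h2 := hcj _ (hD.le (hb' s hs)) a ha
          have e : a * b * s * (a * b)⁻¹ * s⁻¹ =
              a * (b * s * b⁻¹ * s⁻¹) * a⁻¹ * (a * s * a⁻¹ * s⁻¹) := by group
          rw [e, h2]
          exact h1
        one_mem' := ⟨Q.one_mem, fun s _ => by simp⟩
        inv_mem' := by
          rintro a ⟨ha, ha'⟩
          refine ⟨Q.inv_mem ha, fun s hs => ?_⟩
          have h1 := D.inv_mem (ha' s hs)
          have h2 := hcj _ (hD.le h1) a⁻¹ (Q.inv_mem ha)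
          have e : a⁻¹ * s * a⁻¹⁻¹ * s⁻¹ = a⁻¹ * (a * s * a⁻¹ * s⁻¹)⁻¹ * a⁻¹⁻¹ := by group
          rw [e, h2]
          exact h1 }
    have hTQ : T ≤ Q := fun t ht => ht.1
    have hTne : T ≠ Q := by
      intro h
      apply hDne
      apply le_antisymm hD.le
      rw [hQ1, commutator_le]
      intro g hg k hk
      have hgT : g ∈ T := by rw [h]; exact hg
      rw [commutatorElement_def]
      exact hgT.2 k hk
    have hNT : ∀ b, b ∈ normalizer (Q : Set G) → b ∈ normalizer (D : Set G) → ∀ t ∈ T,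
        b * t * b⁻¹ ∈ T := by
      intro b hbQ hbD t ht
      refine ⟨conj_mem hbQ ht.1, fun s hs => ?_⟩
      have h1 := conj_mem hbD (ht.2 (b⁻¹ * s * b) (conj_mem' hbQ hs))
      have e : b * (t * (b⁻¹ * s * b) * t⁻¹ * (b⁻¹ * s * b)⁻¹) * b⁻¹ =
          b * t * b⁻¹ * s * (b * t * b⁻¹)⁻¹ * s⁻¹ := by group
      rwa [e] at h1
    have hTC : T ≤ centralizer (Q : Set G) :=
      hminC T hTQ hTne
        (le_normalizer_iff.mpr fun b hb t ht => hNT b (le_normalizer hb) (hQD hb) t ht)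
        (le_normalizer_iff.mpr fun b hb t ht => hNT b (hAQ hb) (hAD hb) t ht)
        (le_normalizer_iff.mpr fun b hb t ht => hNT b (hRQ hb) (hRD hb) t ht)
    obtain ⟨c, hc, hcC⟩ : ∃ c ∈ Q ⊓ centralizer (R : Set G), c ∉ centralizer (Q : Set G) := by
      by_contra h
      push Not at h
      have h1 := Cfsg.Agent.Lib.Helper17BG36Thompson.comm_le_of_fixed_le hr hAQ hRQ hRA
        (Z := Q ⊓ centralizer (Q : Set G)) inf_le_left
        (le_normalizer.trans (normalizer_le_normalizer_center Q))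
        (hAQ.trans (normalizer_le_normalizer_center Q))
        (hRQ.trans (normalizer_le_normalizer_center Q)) hR hfpf hQA hQr
        (fun c hc => ⟨hc.1, h c hc⟩)
      rw [hQQ] at h1
      apply hnab
      intro a ha b hb
      exact ((mem_centralizer_iff.mp (h1 ha).2) b hb).symm
    apply hcC
    apply hTC
    have hcQ : c ∈ Q := hc.1
    let Ks : Subgroup G :=
      { carrier := {s | s ∈ Q ∧ c * s * c⁻¹ * s⁻¹ ∈ D}
        mul_mem' := by
          rintro a b ⟨ha, ha'⟩ ⟨hb, hb'⟩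
          refine ⟨Q.mul_mem ha hb, ?_⟩
          have h1 := D.mul_mem ha' hb'
          have h2 := hcj _ (hD.le hb') a ha
          have e : c * (a * b) * c⁻¹ * (a * b)⁻¹ =
              c * a * c⁻¹ * a⁻¹ * (a * (c * b * c⁻¹ * b⁻¹) * a⁻¹) := by group
          rw [e, h2]
          exact h1
        one_mem' := ⟨Q.one_mem, by simp⟩
        inv_mem' := by
          rintro a ⟨ha, ha'⟩
          refine ⟨Q.inv_mem ha, ?_⟩
          have h1 := D.inv_mem ha'
          have h2 := hcj _ (hD.le h1) a⁻¹ (Q.inv_mem ha)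
          have e : c * a⁻¹ * c⁻¹ * a⁻¹⁻¹ = a⁻¹ * (c * a * c⁻¹ * a⁻¹)⁻¹ * a⁻¹⁻¹ := by group
          rw [e, h2]
          exact h1 }
    have hK1 : ⁅Q, R⁆ ≤ Ks := by
      rw [commutator_le]
      intro s hs y hy
      rw [commutatorElement_def]
      have hsy : s * y * s⁻¹ * y⁻¹ ∈ Q := by
        have h1 := Q.mul_mem hs (conj_mem (hRQ hy) (Q.inv_mem hs))
        have e : s * (y * s⁻¹ * y⁻¹) = s * y * s⁻¹ * y⁻¹ := by group
        rwa [e] at h1
      refine ⟨hsy, ?_⟩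
      have hyc : y * c = c * y := (mem_centralizer_iff.mp hc.2) y hy
      have hcy1 : c⁻¹ * y * c = y := by rw [mul_assoc, hyc, inv_mul_cancel_left]
      have hcy2 : y⁻¹ * c⁻¹ * y = c⁻¹ := by
        have : y⁻¹ * c⁻¹ * y = (y⁻¹ * c * y)⁻¹ := by group
        rw [this, mul_assoc, ← hyc, inv_mul_cancel_left]
      have hzz : c * s⁻¹ * c⁻¹ * s⁻¹⁻¹ ∈ Q1 := hcomm_mem c hcQ s⁻¹ (Q.inv_mem hs)
      have hk1 : c * s * c⁻¹ * s⁻¹ ∈ Q1 := hcomm_mem c hcQ s hs
      have hw : y * (c * s⁻¹ * c⁻¹ * s⁻¹⁻¹) * y⁻¹ ∈ Q1 := conj_mem (hRQ1 hy) hzz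
      have h1 := hz _ hzz y hy
      have e1 := hcj _ hw s hs
      have e2 := hcj _ hk1 s⁻¹ (Q.inv_mem hs)
      have e3 : s⁻¹ * (c * s * c⁻¹ * s⁻¹) * s⁻¹⁻¹ = (c * s⁻¹ * c⁻¹ * s⁻¹⁻¹)⁻¹ := by group
      have e : c * (s * y * s⁻¹ * y⁻¹) * c⁻¹ * (s * y * s⁻¹ * y⁻¹)⁻¹ =
          (c * s⁻¹ * c⁻¹ * s⁻¹⁻¹)⁻¹ * (y * (c * s⁻¹ * c⁻¹ * s⁻¹⁻¹) * y⁻¹) := by
        calc c * (s * y * s⁻¹ * y⁻¹) * c⁻¹ * (s * y * s⁻¹ * y⁻¹)⁻¹
            = c * s * y * s⁻¹ * (y⁻¹ * c⁻¹ * y) * s * y⁻¹ * s⁻¹ := by group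
          _ = c * s * y * s⁻¹ * c⁻¹ * s * y⁻¹ * s⁻¹ := by rw [hcy2]
          _ = c * s * (c⁻¹ * y * c) * s⁻¹ * c⁻¹ * s * y⁻¹ * s⁻¹ := by rw [hcy1]
          _ = c * s * c⁻¹ * s⁻¹ * (s * (y * (c * s⁻¹ * c⁻¹ * s⁻¹⁻¹) * y⁻¹) * s⁻¹) := by group
          _ = c * s * c⁻¹ * s⁻¹ * (y * (c * s⁻¹ * c⁻¹ * s⁻¹⁻¹) * y⁻¹) := by rw [e1]
          _ = (c * s⁻¹ * c⁻¹ * s⁻¹⁻¹)⁻¹ * (y * (c * s⁻¹ * c⁻¹ * s⁻¹⁻¹) * y⁻¹) := by
              rw [← e3, e2]
      rw [e]
      exact h1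
    have hK2 : Q ⊓ centralizer (R : Set G) ≤ Ks := by
      intro s hs
      refine ⟨hs.1, ?_⟩
      rw [hcycQ c hc s hs, mul_inv_cancel_right, mul_inv_cancel]
      exact D.one_mem
    refine ⟨hcQ, fun s hs => ?_⟩
    obtain ⟨x, hx, c', hc', rfl⟩ := Cfsg.Agent.Lib.Helper30SZ.exists_commutator_mul_centralizer hRQ
      (by rw [hR]; exact hQr.symm) (Or.inr hsol) hs
    exact (Ks.mul_mem (hK1 hx) (hK2 hc')).2

end Cfsg.Agent.Lib.Helper3BG36Nonab
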