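import Cfsg.Agent.Lib.Helper74BG36A

set_option autoImplicit false
set_option linter.unusedSectionVars false

/-! Tools for the nonabelian case of the hard case of B-G Theorem 3.6:
cyclic modules over a commutative group of operators, and a Vandermonde type elimination. -/

namespace Cfsg.Agent.Lib.Helper3BG36NonabA

open Cfsg.Agent.Lib.Helper36Frob Cfsg.Agent.Lib.Helper74BG36 Subgroup

variable {G V : Type*} [Group G] [AddCommGroup V] [DistribMulAction G V]

/-- the additive span of the `Z`-orbit of `f`. -/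
def span (Z : Subgroup G) (f : V) : AddSubgroup V :=
  AddSubgroup.closure (Set.range fun z : Z => (z : G) • f)

lemma self_mem_span (Z : Subgroup G) (f : V) : f ∈ span Z f :=
  AddSubgroup.subset_closure ⟨1, by simp⟩

lemma smul_mem_span {Z : Subgroup G} {f : V} {z : G} (hz : z ∈ Z) {m : V} (hm : m ∈ span Z f) :
    z • m ∈ span Z f := by
  unfold span at hm ⊢
  induction hm using AddSubgroup.closure_induction with
  | mem x hx =>
    obtain ⟨w, rfl⟩ := hx
    exact AddSubgroup.subset_closure ⟨⟨z, hz⟩ * w, by simp [mul_smul]⟩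
  | zero => rw [smul_zero]; exact AddSubgroup.zero_mem _
  | add x y _ _ hx hy => rw [smul_add]; exact AddSubgroup.add_mem _ hx hy
  | neg x _ hx => rw [smul_neg]; exact AddSubgroup.neg_mem _ hx

/-- operators in the ring generated by `Z`. -/
def IsOp (Z : Subgroup G) (e : V →+ V) : Prop :=
  (∀ T : V →+ V, (∀ z ∈ Z, ∀ v, T (z • v) = z • T v) → ∀ v, e (T v) = T (e v)) ∧
    ∀ z ∈ Z, ∀ v, e (z • v) = z • e v

lemma exists_op {Z : Subgroup G} (hZ : ∀ a ∈ Z, ∀ b ∈ Z, a * b = b * a) (f : V) {a : V}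
    (ha : a ∈ span Z f) : ∃ e : V →+ V, IsOp Z e ∧ e f = a := by
  unfold span at ha
  induction ha using AddSubgroup.closure_induction with
  | mem x hx =>
    obtain ⟨w, rfl⟩ := hx
    refine ⟨DistribSMul.toAddMonoidHom V (w : G), ⟨?_, ?_⟩, rfl⟩
    · intro T hT v
      exact (hT w w.2 v).symm
    · intro z hz v
      show (w : G) • z • v = z • (w : G) • v
      rw [← mul_smul, ← mul_smul, hZ w w.2 z hz]
  | zero =>
    refine ⟨0, ⟨?_, ?_⟩, rfl⟩
    · intro T _ v
      simp
    · intro z _ v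
      simp
  | add x y _ _ hx hy =>
    obtain ⟨e₁, h1, rfl⟩ := hx
    obtain ⟨e₂, h2, rfl⟩ := hy
    refine ⟨e₁ + e₂, ⟨?_, ?_⟩, rfl⟩
    · intro T hT v
      simp only [AddMonoidHom.add_apply, map_add]
      rw [h1.1 T hT v, h2.1 T hT v]
    · intro z hz v
      simp only [AddMonoidHom.add_apply, smul_add]
      rw [h1.2 z hz v, h2.2 z hz v]
  | neg x _ hx =>
    obtain ⟨e₁, h1, rfl⟩ := hx
    refine ⟨-e₁, ⟨?_, ?_⟩, rfl⟩
    · intro T hT v
      simp only [AddMonoidHom.neg_apply, map_neg]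
      rw [h1.1 T hT v]
    · intro z hz v
      simp only [AddMonoidHom.neg_apply, smul_neg]
      rw [h1.2 z hz v]

/-- endomorphisms of a cyclic module over a commutative ring commute. -/
lemma comm_on_span {Z : Subgroup G} (hZ : ∀ a ∈ Z, ∀ b ∈ Z, a * b = b * a) {f : V}
    {T₁ T₂ : V →+ V} (h1 : ∀ z ∈ Z, ∀ v, T₁ (z • v) = z • T₁ v)
    (h2 : ∀ z ∈ Z, ∀ v, T₂ (z • v) = z • T₂ v) (hf1 : T₁ f ∈ span Z f) (hf2 : T₂ f ∈ span Z f) :
    ∀ u ∈ span Z f, T₁ (T₂ u) = T₂ (T₁ u) := by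
  intro u hu
  obtain ⟨ea, ha, hea⟩ := exists_op hZ f hf1
  obtain ⟨eb, hb, heb⟩ := exists_op hZ f hf2
  obtain ⟨eu, hu', rfl⟩ := exists_op hZ f hu
  rw [← hu'.1 T₂ h2, ← hu'.1 T₁ h1, ← hu'.1 T₁ h1, ← hu'.1 T₂ h2, ← heb, ← hea, ← hb.1 T₁ h1,
    ← ha.1 T₂ h2, ← heb, ← hea, hb.1 ea ha.2]

/-- Vandermonde type elimination. -/
lemma elim [Finite V] {ι : Type*} [DecidableEq ι] (M U : AddSubgroup V) (zs : ι → G)
    (hzM : ∀ i, ∀ m ∈ M, zs i • m ∈ M) (hzU : ∀ i, ∀ u ∈ U, zs i • u ∈ U)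
    (hcomm : ∀ i j, zs i * zs j = zs j * zs i)
    (hinj : ∀ i j, i ≠ j → ∀ u ∈ U, zs i • u = zs j • u → u = 0) :
    ∀ (I : Finset ι) (u : ι → V), (∀ i ∈ I, u i ∈ U) →
      (∀ j : ℕ, ∑ i ∈ I, (zs i) ^ j • u i ∈ M) → ∀ i ∈ I, u i ∈ M := by
  intro I
  induction I using Finset.induction_on with
  | empty => intro u _ _ i hi; simp at hi
  | insert i₀ I' hi₀ IH =>
    intro u huU hsum
    have hu' : ∀ i ∈ I', zs i • u i - zs i₀ • u i ∈ M := by
      apply IH (fun i => zs i • u i - zs i₀ • u i)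
      · intro i hi
        have := huU i (Finset.mem_insert_of_mem hi)
        exact U.sub_mem (hzU i _ this) (hzU i₀ _ this)
      · intro j
        have h1 := hsum (j + 1)
        have h2 := hzM i₀ _ (hsum j)
        have h3 := M.sub_mem h1 h2
        rw [Finset.sum_insert hi₀, Finset.sum_insert hi₀, smul_add, Finset.smul_sum] at h3
        have e0 : zs i₀ ^ (j + 1) • u i₀ = zs i₀ • zs i₀ ^ j • u i₀ := by
          rw [← mul_smul, ← pow_succ']
        rw [e0, add_sub_add_left_eq_sub, ← Finset.sum_sub_distrib] at h3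
        refine (congrArg (· ∈ M) (Finset.sum_congr rfl fun i _ => ?_)).mp h3
        have hc : zs i ^ j * zs i₀ = zs i₀ * zs i ^ j :=
          ((show Commute (zs i) (zs i₀) from hcomm i i₀).pow_left j).eq
        rw [smul_sub, ← mul_smul, ← mul_smul, ← mul_smul, ← pow_succ, hc]
    have hI' : ∀ i ∈ I', u i ∈ M := by
      intro i hi
      have hne : i ≠ i₀ := fun h => hi₀ (h ▸ hi)
      have hui : u i ∈ U := huU i (Finset.mem_insert_of_mem hi)
      let δ : ↥(U ⊓ M) → ↥(U ⊓ M) := fun m =>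
        ⟨zs i • (m : V) - zs i₀ • (m : V),
          U.sub_mem (hzU i _ m.2.1) (hzU i₀ _ m.2.1), M.sub_mem (hzM i _ m.2.2) (hzM i₀ _ m.2.2)⟩
      have hδ : Function.Injective δ := by
        intro m m' hmm
        have h1 : zs i • (m : V) - zs i₀ • (m : V) = zs i • (m' : V) - zs i₀ • (m' : V) :=
          congrArg Subtype.val hmm
        have h2 : zs i • ((m : V) - m') = zs i₀ • ((m : V) - m') := by
          rw [smul_sub, smul_sub]
          have := sub_eq_sub_iff_sub_eq_sub.mp h1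
          exact this
        have h3 := hinj i i₀ hne _ (U.sub_mem m.2.1 m'.2.1) h2
        exact Subtype.ext (sub_eq_zero.mp h3)
      obtain ⟨m, hm⟩ := (Finite.injective_iff_surjective.mp hδ)
        ⟨zs i • u i - zs i₀ • u i, U.sub_mem (hzU i _ hui) (hzU i₀ _ hui), hu' i hi⟩
      have h1 : zs i • (m : V) - zs i₀ • (m : V) = zs i • u i - zs i₀ • u i :=
        congrArg Subtype.val hm
      have h2 : zs i • (u i - (m : V)) = zs i₀ • (u i - (m : V)) := by
        rw [smul_sub, smul_sub]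
        exact sub_eq_sub_iff_sub_eq_sub.mp h1.symm
      have h3 := hinj i i₀ hne _ (U.sub_mem hui m.2.1) h2
      rw [sub_eq_zero.mp h3]
      exact m.2.2
    intro i hi
    rcases Finset.mem_insert.mp hi with rfl | hi
    · have h0 := hsum 0
      simp only [pow_zero, one_smul] at h0
      rw [Finset.sum_insert hi₀] at h0
      have h1 : ∑ x ∈ I', u x ∈ M := M.sum_mem hI'
      have := M.sub_mem h0 h1
      rwa [add_sub_cancel_right] at this
    · exact hI' i hi

end Cfsg.Agent.Lib.Helper3BG36NonabA
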