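import Mathlib
import Cfsg.Agent.Lib.Helper3Extraspecial

set_option autoImplicit false

namespace Cfsg.Agent.Lib.Helper3ExtraInner

open scoped commutatorElement
open Cfsg.Agent.Lib.Helper3PGroup Cfsg.Agent.Lib.Helper3Class2 Cfsg.Agent.Lib.Helper3Extraspecial

universe u

theorem exists_comm_pair {P : Type u} [Group P] [Finite P] {p : ℕ} [hp : Fact p.Prime]
    (h : Cfsg.IsExtraspecial p P) {x y : P} (hxy : ⁅x, y⁆ ≠ 1)
    (u v : P) (hu : u ∈ Subgroup.center P) (hv : v ∈ Subgroup.center P) :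
    ∃ e : P, ⁅e, x⁆ = u ∧ ⁅e, y⁆ = v := by
  have hcl := comm_central h
  have hZ := h.2
  have hyx : ⁅y, x⁆ ≠ 1 := by
    intro h1
    apply hxy
    rw [← commutatorElement_inv, h1, inv_one]
  have h1 : (commHom hcl x y) ≠ 1 := fun h2 => hyx (congrArg Subtype.val h2)
  have h2 : (commHom hcl y x) ≠ 1 := fun h2 => hxy (congrArg Subtype.val h2)
  have hxx : commHom hcl x x = 1 := by
    apply Subtype.ext; rw [commHom_apply]; simp
  have hyy : commHom hcl y y = 1 := by
    apply Subtype.ext; rw [commHom_apply]; simp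
  obtain ⟨i, hi⟩ := Subgroup.mem_zpowers_iff.mp
    (mem_zpowers_of_prime_card hZ h1 (g' := (⟨u, hu⟩ : Subgroup.center P)))
  obtain ⟨j, hj⟩ := Subgroup.mem_zpowers_iff.mp
    (mem_zpowers_of_prime_card hZ h2 (g' := (⟨v, hv⟩ : Subgroup.center P)))
  refine ⟨y ^ i * x ^ j, ?_, ?_⟩
  · have : commHom hcl x (y ^ i * x ^ j) = ⟨u, hu⟩ := by
      rw [map_mul, map_zpow, map_zpow, hxx, one_zpow, mul_one, hi]
    exact congrArg Subtype.val this
  · have : commHom hcl y (y ^ i * x ^ j) = ⟨v, hv⟩ := by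
      rw [map_mul, map_zpow, map_zpow, hyy, one_zpow, one_mul, hj]
    exact congrArg Subtype.val this

/-- An endomorphism of an extraspecial group that is trivial modulo the centre is inner. -/
theorem inner_of_trivial_mod_center {p : ℕ} [hp : Fact p.Prime] (m : ℕ) :
    ∀ (P : Type u) [Group P] [Finite P], Nat.card P ≤ m → Cfsg.IsExtraspecial p P →
    ∀ α : P →* P, (∀ e : P, e⁻¹ * α e ∈ Subgroup.center P) →
    ∃ e₀ : P, ∀ e : P, α e = e₀ * e * e₀⁻¹ := by
  induction m with
  | zero =>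
    intro P _ _ hm _
    exact absurd hm (by have := Nat.card_pos (α := P); omega)
  | succ m ih =>
    intro P _ _ hm h α hα
    obtain ⟨x, y, hxy⟩ := exists_noncomm h
    have hα' : ∀ e : P, α e * e⁻¹ ∈ Subgroup.center P := by
      intro e
      have h1 := hα e
      have h2 := Subgroup.mem_center_iff.mp h1 e
      have h3 : α e * e⁻¹ = e⁻¹ * α e := by
        calc α e * e⁻¹ = (e * (e⁻¹ * α e)) * e⁻¹ := by group
          _ = ((e⁻¹ * α e) * e) * e⁻¹ := by rw [h2]
          _ = e⁻¹ * α e := by group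
      rw [h3]; exact h1
    obtain ⟨e₁, he₁x, he₁y⟩ := exists_comm_pair h hxy _ _ (hα' x) (hα' y)
    have hx1 : α x = e₁ * x * e₁⁻¹ := by
      have : e₁ * x * e₁⁻¹ = ⁅e₁, x⁆ * x := by rw [commutatorElement_def]; group
      rw [this, he₁x]; group
    have hy1 : α y = e₁ * y * e₁⁻¹ := by
      have : e₁ * y * e₁⁻¹ = ⁅e₁, y⁆ * y := by rw [commutatorElement_def]; group
      rw [this, he₁y]; group
    let β : P →* P := (MulAut.conj e₁⁻¹).toMonoidHom.comp α
    have hβ : ∀ e, β e = e₁⁻¹ * α e * e₁ := by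
      intro e; simp [β]
    have hβx : β x = x := by rw [hβ, hx1]; group
    have hβy : β y = y := by rw [hβ, hy1]; group
    have hcl := comm_central h
    have hβZ : ∀ e : P, e⁻¹ * β e ∈ Subgroup.center P := by
      intro e
      have h1 : e⁻¹ * β e = (e⁻¹ * α e) * ⁅(α e)⁻¹, e₁⁻¹⁆ := by
        rw [hβ, commutatorElement_def]; group
      rw [h1]
      exact Subgroup.mul_mem _ (hα e) (hcl _ _)
    set Q := hypCompl x y with hQ
    have hβQ : ∀ w : Q, β (w : P) ∈ Q := by
      intro w
      obtain ⟨h1, h2⟩ := mem_hypCompl.mp w.2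
      refine mem_hypCompl.mpr ?_
      constructor
      · conv_lhs => rw [← hβx]
        conv_rhs => rw [← hβx]
        rw [← map_mul, ← map_mul, h1]
      · conv_lhs => rw [← hβy]
        conv_rhs => rw [← hβy]
        rw [← map_mul, ← map_mul, h2]
    -- β is conjugation by some q ∈ Q on Q
    have hq : ∃ q ∈ Q, ∀ w ∈ Q, β w = q * w * q⁻¹ := by
      rcases hypCompl_dichotomy h hxy with hQc | hQe
      · refine ⟨1, Q.one_mem, ?_⟩
        intro w hw
        have hQZ : Q = Subgroup.center P := by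
          symm
          apply Subgroup.eq_of_le_of_card_ge (center_le_hypCompl x y)
          rw [hQc, h.2]
        rw [hQZ] at hw
        have hz1 : (⟨⁅x, y⁆, hcl x y⟩ : Subgroup.center P) ≠ 1 :=
          fun h2 => hxy (congrArg Subtype.val h2)
        obtain ⟨i, hi⟩ := Subgroup.mem_zpowers_iff.mp
          (mem_zpowers_of_prime_card h.2 hz1 (g' := (⟨w, hw⟩ : Subgroup.center P)))
        have hi' : ⁅x, y⁆ ^ i = w := by
          have := congrArg Subtype.val hi
          simpa using this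
        rw [← hi', map_zpow, map_commutatorElement, hβx, hβy]
        group
      · let γ : Q →* Q := (β.comp Q.subtype).codRestrict Q hβQ
        have hlt : Nat.card Q ≤ m := by
          have hcard := card_eq_hypCompl h hxy
          have h1 : 1 < p ^ 2 := Nat.one_lt_pow (by norm_num) hp.out.one_lt
          have h2 := Nat.card_pos (α := Q)
          nlinarith
        have hγ : ∀ e : Q, e⁻¹ * γ e ∈ Subgroup.center Q := by
          intro e
          rw [mem_center_hypCompl_iff h hxy]
          exact hβZ e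
        obtain ⟨q, hq⟩ := ih Q hlt hQe γ hγ
        refine ⟨q, q.2, ?_⟩
        intro w hw
        exact congrArg Subtype.val (hq ⟨w, hw⟩)
    obtain ⟨q, hqQ, hq⟩ := hq
    obtain ⟨hqx, hqy⟩ := mem_hypCompl.mp hqQ
    have hβall : ∀ g, β g = q * g * q⁻¹ := by
      intro g
      obtain ⟨i, j, hij⟩ := exists_decomp h hxy g
      have hg : g = (y ^ i * x ^ j) * ((y ^ i * x ^ j)⁻¹ * g) := by group
      have c1 : Commute q (y ^ i * x ^ j) :=
        ((show Commute q y from hqy).zpow_right i).mul_right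
          ((show Commute q x from hqx).zpow_right j)
      conv_lhs => rw [hg]
      rw [map_mul, hq _ hij, map_mul, map_zpow, map_zpow, hβx, hβy]
      calc y ^ i * x ^ j * (q * ((y ^ i * x ^ j)⁻¹ * g) * q⁻¹)
          = ((y ^ i * x ^ j) * q) * ((y ^ i * x ^ j)⁻¹ * g) * q⁻¹ := by group
        _ = (q * (y ^ i * x ^ j)) * ((y ^ i * x ^ j)⁻¹ * g) * q⁻¹ := by rw [c1.eq]
        _ = q * g * q⁻¹ := by group
    refine ⟨e₁ * q, ?_⟩
    intro e
    have h1 := hβall e
    rw [hβ] at h1
    calc α e = e₁ * (e₁⁻¹ * α e * e₁) * e₁⁻¹ := by group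
      _ = e₁ * (q * e * q⁻¹) * e₁⁻¹ := by rw [h1]
      _ = e₁ * q * e * (e₁ * q)⁻¹ := by group

end Cfsg.Agent.Lib.Helper3ExtraInner
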