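import Mathlib
import Cfsg.Prelude.Def_OddOrderLocal
import Cfsg.Agent.Lib.Helper3Class2
import Cfsg.Agent.Lib.Helper3OmegaQuot
import Cfsg.Agent.Lib.Helper3MetaOmega
import Cfsg.Agent.Lib.Helper3AutOdd
import Cfsg.Agent.Lib.Helper3Narrow
import Cfsg.Agent.Lib.Helper3DerFit
import Cfsg.Agent.Lib.Helper30SZ
import Cfsg.Agent.S0026
import Cfsg.Agent.S0027
import Cfsg.Agent.Lib.Helper98MetaC

set_option autoImplicit false

/-!
# Coprime action on metacyclic `p`-groups, `p` odd (B-G 4.12)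
-/

namespace Cfsg.Agent.Lib.Helper3MetaCop

open Cfsg.Agent.Lib
open scoped commutatorElement

/-- The norm trick: for an action of `B` on `X` and an invariant normal subgroup `Z` with abelian
quotient there is a subgroup `M ≥ Z` containing all `x⁻¹ x^b` and such that an element of `M`
fixed modulo `Z` has its `|B|`-th power in `Z`. -/
theorem norm_trick {X B : Type*} [Group X] [Group B] [Finite B] (ρ : B →* MulAut X)
    (Z : Subgroup X) [Z.Normal] (hab : ∀ x y : X, x * y * x⁻¹ * y⁻¹ ∈ Z)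
    (hinv : ∀ b, ∀ x ∈ Z, ρ b x ∈ Z) :
    ∃ M : Subgroup X, Z ≤ M ∧ (∀ b x, x⁻¹ * ρ b x ∈ M) ∧
      ∀ y, (∀ b, y⁻¹ * ρ b y ∈ Z) → y ∈ M → y ^ Nat.card B ∈ Z := by
  classical
  have := Fintype.ofFinite B
  letI : CommGroup (X ⧸ Z) :=
    { (QuotientGroup.Quotient.group Z) with
      mul_comm := by
        intro a b
        induction a using QuotientGroup.induction_on with
        | H a =>
        induction b using QuotientGroup.induction_on with
        | H b =>
        rw [← QuotientGroup.mk_mul, ← QuotientGroup.mk_mul, QuotientGroup.eq]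
        have h := hab b⁻¹ a⁻¹
        have h2 : (a * b)⁻¹ * (b * a) = b⁻¹ * a⁻¹ * b⁻¹⁻¹ * a⁻¹⁻¹ := by group
        rw [h2]; exact h }
  let τ : X →* X ⧸ Z := ∏ b : B, (QuotientGroup.mk' Z).comp (ρ b).toMonoidHom
  have hτ : ∀ x, τ x = ∏ b : B, (QuotientGroup.mk (ρ b x) : X ⧸ Z) := by
    intro x
    simp only [τ, MonoidHom.finsetProd_apply]
    rfl
  refine ⟨τ.ker, ?_, ?_, ?_⟩
  · intro x hx
    rw [MonoidHom.mem_ker, hτ]
    apply Finset.prod_eq_one
    intro b _
    exact (QuotientGroup.eq_one_iff _).mpr (hinv b x hx)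
  · intro b₀ x
    rw [MonoidHom.mem_ker, map_mul, map_inv, inv_mul_eq_one, hτ, hτ]
    apply Fintype.prod_equiv (Equiv.mulRight b₀⁻¹)
    intro b
    simp only [Equiv.coe_mulRight]
    congr 1
    rw [← MulAut.mul_apply, ← map_mul]
    simp
  · intro y hy hyM
    rw [MonoidHom.mem_ker, hτ] at hyM
    have h1 : ∀ b : B, (QuotientGroup.mk (ρ b y) : X ⧸ Z) = QuotientGroup.mk y := by
      intro b
      exact (QuotientGroup.eq.mpr (hy b)).symm
    simp only [h1, Finset.prod_const, Finset.card_univ] at hyM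
    rw [← QuotientGroup.mk_pow, QuotientGroup.eq_one_iff, ← Nat.card_eq_fintype_card] at hyM
    exact hyM

/-- coordinates in a group of order `p²`. -/
theorem coords {p : ℕ} [hp : Fact p.Prime] {Q : Type*} [Group Q] (hcard : Nat.card Q = p ^ 2)
    (hcomm : ∀ a b : Q, a * b = b * a)
    (u v : Q) (hu : u ≠ 1) (hv : v ∉ Subgroup.zpowers u) : ∀ q : Q, ∃ i j : ℕ, q = u ^ i * v ^ j := by
  have hfin : Finite Q := Nat.finite_of_card_ne_zero (by rw [hcard]; exact pow_ne_zero _ hp.out.ne_zero)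
  have hlt : Subgroup.zpowers u < Subgroup.zpowers u ⊔ Subgroup.zpowers v := by
    refine lt_of_le_of_ne le_sup_left ?_
    intro h
    apply hv
    rw [h]
    exact (le_sup_right : Subgroup.zpowers v ≤ _) (Subgroup.mem_zpowers v)
  have h1 : Nat.card (Subgroup.zpowers u ⊔ Subgroup.zpowers v : Subgroup Q) ∣ p ^ 2 := by
    rw [← hcard]; exact Subgroup.card_subgroup_dvd_card _
  obtain ⟨k, hk, hk2⟩ := (Nat.dvd_prime_pow hp.out).mp h1
  have h3 : 1 < Nat.card (Subgroup.zpowers u) := by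
    rw [Nat.card_zpowers]
    have h4 : orderOf u ≠ 1 := by rwa [Ne, orderOf_eq_one_iff]
    have h5 := orderOf_pos u
    omega
  have h6 : Nat.card (Subgroup.zpowers u) ∣ p ^ 2 := by
    rw [← hcard]; exact Subgroup.card_subgroup_dvd_card _
  obtain ⟨k', hk', hk2'⟩ := (Nat.dvd_prime_pow hp.out).mp h6
  have h7 : Nat.card (Subgroup.zpowers u) < Nat.card (Subgroup.zpowers u ⊔ Subgroup.zpowers v : Subgroup Q) := by
    by_contra hc
    exact hlt.ne (Subgroup.eq_of_le_of_card_ge hlt.le (not_lt.mp hc))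
  have hk'1 : 1 ≤ k' := by
    rcases Nat.eq_zero_or_pos k' with h | h
    · rw [hk2', h, pow_zero] at h3; omega
    · exact h
  have hkk : k' < k := by
    rw [hk2, hk2'] at h7
    exact (Nat.pow_lt_pow_iff_right hp.out.one_lt).mp h7
  have hk22 : k = 2 := by omega
  have htop : Subgroup.zpowers u ⊔ Subgroup.zpowers v = ⊤ := by
    apply Subgroup.eq_top_of_card_eq
    rw [hk2, hk22, hcard]
  intro q
  have hq : q ∈ Subgroup.zpowers u ⊔ Subgroup.zpowers v := by rw [htop]; trivial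
  haveI : (Subgroup.zpowers v).Normal := ⟨fun n hn g => by
    rw [hcomm g n, mul_assoc, mul_inv_cancel, mul_one]; exact hn⟩
  rw [Subgroup.mem_sup_of_normal_right] at hq
  obtain ⟨a, ha, b, hb, rfl⟩ := hq
  obtain ⟨i, rfl⟩ := (mem_powers_iff_mem_zpowers.mpr ha)
  obtain ⟨j, rfl⟩ := (mem_powers_iff_mem_zpowers.mpr hb)
  exact ⟨i, j, rfl⟩

/-- a nonidentity element of a subgroup of prime order generates it. -/
theorem gen_of_prime {p : ℕ} [hp : Fact p.Prime] {X : Type*} [Group X] (D : Subgroup X)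
    (hD : Nat.card D = p) {z : X} (hz : z ∈ D) (hz1 : z ≠ 1) : ∀ c ∈ D, ∃ i : ℕ, c = z ^ i := by
  intro c hc
  have h := mem_powers_of_prime_card (G := D) hD (g := ⟨z, hz⟩) (g' := ⟨c, hc⟩)
    (by intro h; exact hz1 (congrArg Subtype.val h))
  obtain ⟨i, hi⟩ := h
  exact ⟨i, (congrArg Subtype.val hi).symm⟩

theorem pow_eq_one_of_card {p : ℕ} {X : Type*} [Group X] (D : Subgroup X)
    (hD : Nat.card D = p) {c : X} (hc : c ∈ D) : c ^ p = 1 := by
  have h0 := pow_card_eq_one' (G := D) (x := ⟨c, hc⟩)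
  rw [hD] at h0
  exact congrArg Subtype.val h0

section class2
variable {X : Type*} [Group X] (hcc : ∀ x y : X, ⁅x, y⁆ ∈ Subgroup.center X)
include hcc

theorem comm_mul_left (a b x : X) : ⁅a * b, x⁆ = ⁅a, x⁆ * ⁅b, x⁆ :=
  Helper3Narrow.commutator_mul_left_of_central a b x (hcc b x)

theorem comm_mul_right (x a b : X) : ⁅x, a * b⁆ = ⁅x, a⁆ * ⁅x, b⁆ := by
  rw [← commutatorElement_inv, comm_mul_left hcc, mul_inv_rev, commutatorElement_inv,
    commutatorElement_inv]
  exact (Subgroup.mem_center_iff.mp (hcc x b) _).symm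

theorem comm_pow_left (x y : X) (n : ℕ) : ⁅x ^ n, y⁆ = ⁅x, y⁆ ^ n :=
  Helper3Class2.commutator_pow_left x y (Helper3Class2.commute_of_mem_center (hcc x y) x) n

theorem comm_pow_right (x y : X) (n : ℕ) : ⁅x, y ^ n⁆ = ⁅x, y⁆ ^ n :=
  Helper3Class2.commutator_pow_right x y (Helper3Class2.commute_of_mem_center (hcc x y) y) n

theorem comm_inv_right (x y : X) : ⁅x, y⁻¹⁆ = ⁅x, y⁆⁻¹ := by
  have h := comm_mul_right hcc x y y⁻¹
  rw [mul_inv_cancel, commutatorElement_one_right] at h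
  exact (inv_eq_of_mul_eq_one_right h.symm).symm

omit hcc in
theorem comm_central_left {w : X} (hw : w ∈ Subgroup.center X) (b : X) : ⁅w, b⁆ = 1 := by
  rw [commutatorElement_eq_one_iff_mul_comm]
  exact (Subgroup.mem_center_iff.mp hw b).symm

omit hcc in
theorem comm_central_right {w : X} (hw : w ∈ Subgroup.center X) (b : X) : ⁅b, w⁆ = 1 := by
  rw [commutatorElement_eq_one_iff_mul_comm]
  exact (Subgroup.mem_center_iff.mp hw b)

theorem comm_drop_left {w : X} (hw : w ∈ Subgroup.center X) (a b : X) : ⁅a * w, b⁆ = ⁅a, b⁆ := by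
  rw [comm_mul_left hcc, comm_central_left hw, mul_one]

theorem comm_drop_right {w : X} (hw : w ∈ Subgroup.center X) (a b : X) : ⁅a, b * w⁆ = ⁅a, b⁆ := by
  rw [comm_mul_right hcc, comm_central_right hw, mul_one]

end class2

/-- the core case `|X'| = p`. -/
theorem core {p : ℕ} [hp : Fact p.Prime] (hp2 : p ≠ 2) {X : Type*} [Group X] [Finite X]
    (hX : IsPGroup p X) (hm : Cfsg.IsMetacyclic X) (hD : Nat.card (commutator X) = p)
    {B : Type*} [Group B] [Finite B] (hB : (Nat.card B).Coprime p) (ρ : B →* MulAut X) :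
    ∃ M : Subgroup X, M ≠ ⊤ ∧ ∀ b x, x⁻¹ * ρ b x ∈ M := by
  have hDc : commutator X ≤ Subgroup.center X :=
    Helper3OmegaQuot.central_of_card_prime hX (commutator X) hD
  have hmemD : ∀ x y : X, ⁅x, y⁆ ∈ commutator X := fun x y =>
    Subgroup.commutator_mem_commutator (Subgroup.mem_top x) (Subgroup.mem_top y)
  have hcc : ∀ x y : X, ⁅x, y⁆ ∈ Subgroup.center X := fun x y => hDc (hmemD x y)
  have hDp : ∀ c ∈ commutator X, c ^ p = 1 := fun c hc => pow_eq_one_of_card _ hD hc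
  have hpow : ∀ (k : ℕ) (x y : X), (x * y) ^ (p ^ k) = x ^ (p ^ k) * y ^ (p ^ k) := by
    intro k
    induction k with
    | zero => intro x y; simp
    | succ k ih =>
      intro x y
      rw [pow_succ, pow_mul, ih, Helper3Class2.mul_pow_prime_class2 hp.out hp2 _ _
        (Helper3Class2.commute_of_mem_center (hcc _ _) _)
        (Helper3Class2.commute_of_mem_center (hcc _ _) _) (hDp _ (hmemD _ _)), ← pow_mul, ← pow_mul]
  have hZpow : ∀ w ∈ Subgroup.center X, ∃ v, v ^ p = w := by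
    intro w hw
    rw [← Helper98MetaC.agemo_eq_center hp2 hX hm 1 (by rw [hD, pow_one])] at hw
    unfold Helper98MetaC.agemo at hw
    induction hw using Subgroup.closure_induction with
    | mem x hx => obtain ⟨y, hy⟩ := hx; exact ⟨y, by simpa using hy⟩
    | one => exact ⟨1, one_pow p⟩
    | mul x y _ _ hx hy =>
      obtain ⟨a, rfl⟩ := hx; obtain ⟨b, rfl⟩ := hy
      exact ⟨a * b, by have := hpow 1 a b; simpa using this⟩
    | inv x _ hx => obtain ⟨a, rfl⟩ := hx; exact ⟨a⁻¹, inv_pow a p⟩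
  have hidx : (Subgroup.center X).index = p ^ 2 := by
    rw [Helper98MetaB.index_center hp2 hX hm, hD]
  have hpZ : ∀ x : X, x ^ p ∈ Subgroup.center X := by
    intro x
    rw [Subgroup.mem_center_iff]
    intro g
    have h : ⁅x ^ p, g⁆ = 1 := by rw [comm_pow_left hcc, hDp _ (hmemD _ _)]
    exact (commutatorElement_eq_one_iff_mul_comm.mp h).symm
  -- generator
  obtain ⟨z, hzD, hz1⟩ : ∃ z ∈ commutator X, z ≠ 1 := by
    have hne : commutator X ≠ ⊥ := by
      intro h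
      rw [h, Subgroup.card_bot] at hD
      exact hp.out.one_lt.ne hD
    exact (Subgroup.ne_bot_iff_exists_ne_one.mp hne).elim fun a ha =>
      ⟨a.1, a.2, fun h => ha (Subtype.ext h)⟩
  have hzgen := gen_of_prime (commutator X) hD hzD hz1
  have hzp : z ^ p = 1 := hDp z hzD
  have hzord : orderOf z = p := orderOf_eq_prime hzp hz1
  obtain ⟨k, ⟨x₀, hx₀⟩, hmax⟩ : ∃ k, (∃ x : X, x ^ (p ^ k) = z) ∧ ∀ x : X, x ^ (p ^ (k + 1)) ≠ z := by
    by_contra hcon
    push Not at hcon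
    have hall : ∀ k, ∃ x : X, x ^ (p ^ k) = z := by
      intro k
      induction k with
      | zero => exact ⟨z, by simp⟩
      | succ k ih => exact hcon k ih
    obtain ⟨n, hn⟩ := IsPGroup.iff_card.mp hX
    obtain ⟨x, hx⟩ := hall n
    rw [← hn, pow_card_eq_one'] at hx
    exact hz1 hx.symm
  have hcap : ∀ y : X, y ^ (p ^ (k + 1)) ∈ commutator X → y ^ (p ^ (k + 1)) = 1 := by
    intro y hy
    by_contra hne
    obtain ⟨j, hj⟩ := gen_of_prime (commutator X) hD hy hne z hzD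
    apply hmax (y ^ j)
    rw [hj, ← pow_mul, ← pow_mul, mul_comm]
  have hZk : ∀ w ∈ Subgroup.center X, w ^ (p ^ k) ∈ commutator X → w ^ (p ^ k) = 1 := by
    intro w hw hwD
    obtain ⟨v, rfl⟩ := hZpow w hw
    rw [← pow_mul, ← pow_succ'] at hwD ⊢
    exact hcap v hwD
  have hx₀Z : x₀ ∉ Subgroup.center X := by
    intro h
    obtain ⟨v, rfl⟩ := hZpow x₀ h
    rw [← pow_mul, ← pow_succ'] at hx₀
    exact hmax v hx₀
  have hαD : ∀ (α : MulAut X), ∀ c ∈ commutator X, α c ∈ commutator X := fun α c hc =>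
    Helper3AutOdd.char_mem inferInstance α hc
  have hαZ : ∀ (α : MulAut X), ∀ c ∈ Subgroup.center X, α c ∈ Subgroup.center X := fun α c hc =>
    Helper3AutOdd.char_mem inferInstance α hc
  have hzpow_one : ∀ i : ℕ, z ^ i = 1 → p ∣ i := by
    intro i hi
    rw [← hzord]; exact orderOf_dvd_of_pow_eq_one hi
  by_cases hcase : ∀ b, ∃ μ : ℕ, ∃ w ∈ Subgroup.center X, ρ b x₀ = x₀ ^ μ * w
  · refine ⟨Subgroup.centralizer {x₀}, ?_, ?_⟩
    · intro h
      apply hx₀Z
      rw [Subgroup.mem_center_iff]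
      intro g
      have hg : g ∈ Subgroup.centralizer {x₀} := by rw [h]; trivial
      exact (Subgroup.mem_centralizer_singleton_iff.mp hg)
    · intro b y
      obtain ⟨μ, w, hw, hαx⟩ := hcase b
      obtain ⟨α, hα⟩ : ∃ α, α = ρ b := ⟨_, rfl⟩
      rw [← hα] at hαx ⊢
      have h1 : α z = z ^ μ * w ^ (p ^ k) := by
        rw [← hx₀, map_pow, hαx, hpow, ← pow_mul, ← pow_mul, mul_comm μ]
      have h2 : w ^ (p ^ k) = 1 := by
        apply hZk w hw
        have : w ^ (p ^ k) = (z ^ μ)⁻¹ * α z := by rw [h1]; group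
        rw [this]
        exact mul_mem (inv_mem (pow_mem hzD μ)) (hαD α z hzD)
      rw [h2, mul_one] at h1
      have hμ : ¬ p ∣ μ := by
        intro hd
        obtain ⟨t, rfl⟩ := hd
        rw [pow_mul, hzp, one_pow] at h1
        exact hz1 (by simpa using h1)
      obtain ⟨i, hi⟩ := hzgen _ (hmemD x₀ y)
      have h3 : α ⁅x₀, y⁆ = ⁅x₀, y⁆ ^ μ := by
        rw [hi, map_pow, h1, ← pow_mul, ← pow_mul, mul_comm]
      have h4 : α ⁅x₀, y⁆ = ⁅x₀, α y⁆ ^ μ := by
        rw [map_commutatorElement, hαx, comm_drop_left hcc hw, comm_pow_left hcc]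
      have h5 : ⁅x₀, y⁻¹ * α y⁆ = 1 := by
        rw [comm_mul_right hcc, comm_inv_right hcc]
        apply Helper3AutOdd.eq_one_of_pow_coprime (m := μ) (n := p)
        · rw [(Helper3Class2.commute_of_mem_center (inv_mem (hcc x₀ y)) _).mul_pow, inv_pow, ← h3, h4]
          simp
        · exact hDp _ (mul_mem (inv_mem (hmemD _ _)) (hmemD _ _))
        · exact ((Nat.Prime.coprime_iff_not_dvd hp.out).mpr hμ).symm
      rw [Subgroup.mem_centralizer_singleton_iff]
      exact (commutatorElement_eq_one_iff_mul_comm.mp h5).symm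
  · push Not at hcase
    obtain ⟨b₀, hb₀⟩ := hcase
    obtain ⟨l₀, hl₀⟩ := hzgen _ (hαD (ρ b₀) z hzD)
    obtain ⟨y, hy⟩ : ∃ y, y = (x₀ ^ l₀)⁻¹ * ρ b₀ x₀ := ⟨_, rfl⟩
    have hyk : y ^ (p ^ k) = 1 := by
      rw [hy, hpow, inv_pow, ← map_pow, hx₀, hl₀, ← pow_mul, mul_comm, pow_mul, hx₀]
      simp
    have hQcard : Nat.card (X ⧸ Subgroup.center X) = p ^ 2 := hidx
    have hQcomm : ∀ a b : X ⧸ Subgroup.center X, a * b = b * a := by
      intro a b
      induction a using QuotientGroup.induction_on with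
      | H a =>
      induction b using QuotientGroup.induction_on with
      | H b =>
      rw [← QuotientGroup.mk_mul, ← QuotientGroup.mk_mul, QuotientGroup.eq]
      have h := hcc b⁻¹ a⁻¹
      have h2 : (a * b)⁻¹ * (b * a) = ⁅b⁻¹, a⁻¹⁆ := by rw [commutatorElement_def]; group
      rw [h2]; exact h
    have hu : (QuotientGroup.mk x₀ : X ⧸ Subgroup.center X) ≠ 1 := by
      rw [Ne, QuotientGroup.eq_one_iff]; exact hx₀Z
    have hv : (QuotientGroup.mk y : X ⧸ Subgroup.center X) ∉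
        Subgroup.zpowers (QuotientGroup.mk x₀ : X ⧸ Subgroup.center X) := by
      intro h
      obtain ⟨n, hn⟩ := mem_powers_iff_mem_zpowers.mpr h
      simp only at hn
      rw [← QuotientGroup.mk_pow, QuotientGroup.eq] at hn
      apply hb₀ (l₀ + n) _ hn
      rw [hy, pow_add]; group
    have hcoord : ∀ g : X, ∃ i j : ℕ, ∃ w ∈ Subgroup.center X, g = x₀ ^ i * y ^ j * w := by
      intro g
      obtain ⟨i, j, hij⟩ := coords hQcard hQcomm _ _ hu hv (QuotientGroup.mk g)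
      rw [← QuotientGroup.mk_pow, ← QuotientGroup.mk_pow, ← QuotientGroup.mk_mul, eq_comm,
        QuotientGroup.eq] at hij
      exact ⟨i, j, _, hij, by group⟩
    have hyZ : y ∉ Subgroup.center X := by
      intro h
      apply hv
      rw [(QuotientGroup.eq_one_iff y).mpr h]
      exact one_mem _
    obtain ⟨c, hc⟩ : ∃ c, c = ⁅x₀, y⁆ := ⟨_, rfl⟩
    have hcD : c ∈ commutator X := by rw [hc]; exact hmemD _ _
    have hc1 : c ≠ 1 := by
      intro h
      apply hx₀Z
      rw [Subgroup.mem_center_iff]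
      intro g
      obtain ⟨i, j, w, hw, rfl⟩ := hcoord g
      have h1 : ⁅x₀, x₀ ^ i * y ^ j * w⁆ = 1 := by
        rw [comm_drop_right hcc hw, comm_mul_right hcc, comm_pow_right hcc, comm_pow_right hcc,
          ← hc, h, commutatorElement_self]
        simp
      exact (commutatorElement_eq_one_iff_mul_comm.mp h1).symm
    -- power map on coordinates
    have hpc : ∀ (i j : ℕ) (w : X), (x₀ ^ i * y ^ j * w) ^ (p ^ k) = z ^ i * w ^ (p ^ k) := by
      intro i j w
      rw [hpow, hpow, ← pow_mul, mul_comm i, pow_mul, hx₀, ← pow_mul, mul_comm j, pow_mul, hyk]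
      simp
    have hfix : ∀ b, y⁻¹ * ρ b y ∈ Subgroup.center X := by
      intro b
      obtain ⟨α, hα⟩ : ∃ α, α = ρ b := ⟨_, rfl⟩
      rw [← hα]
      obtain ⟨i, j, w, hw, hαy⟩ := hcoord (α y)
      obtain ⟨i', j', w', hw', hαx⟩ := hcoord (α x₀)
      have h1 : z ^ i * w ^ (p ^ k) = 1 := by
        rw [← hpc i j w, ← hαy, ← map_pow, hyk, map_one]
      have h2 : w ^ (p ^ k) = 1 := by
        apply hZk w hw
        have : w ^ (p ^ k) = (z ^ i)⁻¹ := (inv_eq_of_mul_eq_one_right h1).symm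
        rw [this]
        exact inv_mem (pow_mem hzD i)
      rw [h2, mul_one] at h1
      obtain ⟨t, rfl⟩ := hzpow_one i h1
      have hxi : x₀ ^ (p * t) ∈ Subgroup.center X := by
        rw [pow_mul]; exact pow_mem (hpZ x₀) t
      have h3 : α z = z ^ i' * w' ^ (p ^ k) := by
        rw [← hpc i' j' w', ← hαx, ← map_pow, hx₀]
      have h4 : w' ^ (p ^ k) = 1 := by
        apply hZk w' hw'
        have : w' ^ (p ^ k) = (z ^ i')⁻¹ * α z := by rw [h3]; group
        rw [this]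
        exact mul_mem (inv_mem (pow_mem hzD i')) (hαD α z hzD)
      rw [h4, mul_one] at h3
      have hi' : ¬ p ∣ i' := by
        intro hd
        obtain ⟨t, rfl⟩ := hd
        rw [pow_mul, hzp, one_pow] at h3
        exact hz1 (by simpa using h3)
      obtain ⟨m, hm'⟩ := hzgen c hcD
      have h5 : α c = c ^ i' := by
        rw [hm', map_pow, h3, ← pow_mul, ← pow_mul, mul_comm]
      have h6 : α c = (c ^ i') ^ j := by
        have e1 : x₀ ^ (p * t) * y ^ j * w = y ^ j * (x₀ ^ (p * t) * w) := by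
          rw [← mul_assoc, (Subgroup.mem_center_iff.mp hxi (y ^ j))]
        rw [hc, map_commutatorElement, hαx, hαy, e1, comm_drop_left hcc hw',
          comm_drop_right hcc (mul_mem hxi hw), comm_mul_left hcc, comm_pow_left hcc,
          comm_pow_right hcc, comm_pow_left hcc, comm_pow_right hcc, commutatorElement_self]
        simp [← pow_mul, mul_comm]
      have hc'1 : c ^ i' ≠ 1 := by
        rw [← h5]
        intro h
        exact hc1 (by simpa using h)
      have hc'p : (c ^ i') ^ p = 1 := hDp _ (pow_mem hcD i')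
      have hord : orderOf (c ^ i') = p := orderOf_eq_prime hc'p hc'1
      have h7 : (c ^ i') ^ j = (c ^ i') ^ 1 := by rw [← h6, h5, pow_one]
      have h8 : j ≡ 1 [MOD p] := by
        rw [← hord]; exact pow_eq_pow_iff_modEq.mp h7
      rw [← QuotientGroup.eq, hαy, QuotientGroup.mk_mul, QuotientGroup.mk_mul,
        (QuotientGroup.eq_one_iff _).mpr hxi, (QuotientGroup.eq_one_iff _).mpr hw, one_mul, mul_one,
        QuotientGroup.mk_pow]
      have h9 : orderOf (QuotientGroup.mk y : X ⧸ Subgroup.center X) ∣ p := by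
        apply orderOf_dvd_of_pow_eq_one
        rw [← QuotientGroup.mk_pow, QuotientGroup.eq_one_iff]
        exact hpZ y
      have h10 := pow_eq_pow_iff_modEq.mpr (h8.of_dvd h9)
      rw [h10, pow_one]
    obtain ⟨M, hZM, hM1, hM2⟩ := norm_trick ρ (Subgroup.center X)
      (fun x y => by have := hcc x y; rwa [commutatorElement_def] at this)
      (fun b x hx => hαZ (ρ b) x hx)
    refine ⟨M, ?_, hM1⟩
    intro hMtop
    apply hyZ
    exact Helper3DerFit.mem_of_pow_mem_coprime hB (hM2 y hfix (by rw [hMtop]; trivial)) (hpZ y)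

/-- the subgroup generated by the `p`-th powers of elements of the commutator subgroup. -/
def dpow (p : ℕ) (X : Type*) [Group X] : Subgroup X :=
  Subgroup.closure {x | ∃ c ∈ commutator X, c ^ p = x}

instance dpow_char (p : ℕ) (X : Type*) [Group X] : (dpow p X).Characteristic := by
  rw [Subgroup.characteristic_iff_map_le]
  intro φ
  unfold dpow
  rw [MonoidHom.map_closure, Subgroup.closure_le]
  rintro _ ⟨x, ⟨c, hc, rfl⟩, rfl⟩
  apply Subgroup.subset_closure
  exact ⟨φ c, Helper3AutOdd.char_mem inferInstance φ hc, by simp⟩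

/-- B-G 4.12, key step (abstract form): a `p'`-group acting on a nonabelian metacyclic `p`-group
`X`, `p` odd, has `[X, B] < X`. -/
theorem key_abs {p : ℕ} [hp : Fact p.Prime] (hp2 : p ≠ 2) {X : Type*} [Group X] [Finite X]
    (hX : IsPGroup p X) (hm : Cfsg.IsMetacyclic X) (hnc : ∃ x y : X, x * y ≠ y * x)
    {B : Type*} [Group B] [Finite B] (hB : (Nat.card B).Coprime p) (ρ : B →* MulAut X) :
    ∃ M : Subgroup X, M ≠ ⊤ ∧ ∀ b x, x⁻¹ * ρ b x ∈ M := by
  have hcyc : IsCyclic (commutator X) := Helper98MetaB.isCyclic_commutator hm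
  obtain ⟨⟨d, hdD⟩, hd⟩ := hcyc.exists_generator
  have hgen : ∀ c ∈ commutator X, ∃ i : ℕ, c = d ^ i := by
    intro c hc
    obtain ⟨i, hi⟩ := mem_powers_iff_mem_zpowers.mpr (hd ⟨c, hc⟩)
    exact ⟨i, (congrArg Subtype.val hi).symm⟩
  have hd1 : d ≠ 1 := by
    intro h
    obtain ⟨x, y, hxy⟩ := hnc
    apply hxy
    obtain ⟨i, hi⟩ := hgen ⁅x, y⁆ (Subgroup.commutator_mem_commutator (Subgroup.mem_top x)
      (Subgroup.mem_top y))
    rw [h, one_pow] at hi
    exact commutatorElement_eq_one_iff_mul_comm.mp hi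
  obtain ⟨m, hm'⟩ := IsPGroup.iff_orderOf.mp hX d
  have hm1 : 1 ≤ m := by
    rcases Nat.eq_zero_or_pos m with h | h
    · rw [h, pow_zero, orderOf_eq_one_iff] at hm'; exact absurd hm' hd1
    · exact h
  have hNprop : ∀ x ∈ dpow p X, x ∈ commutator X ∧ x ^ (p ^ (m - 1)) = 1 := by
    intro x hx
    unfold dpow at hx
    induction hx using Subgroup.closure_induction with
    | mem x hx =>
      obtain ⟨c, hc, rfl⟩ := hx
      refine ⟨pow_mem hc p, ?_⟩
      obtain ⟨i, rfl⟩ := hgen c hc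
      rw [← pow_mul, ← pow_mul, ← pow_succ', Nat.sub_add_cancel hm1, mul_comm, pow_mul,
        ← hm', pow_orderOf_eq_one, one_pow]
    | one => exact ⟨one_mem _, one_pow _⟩
    | mul x y _ _ hx hy =>
      refine ⟨mul_mem hx.1 hy.1, ?_⟩
      obtain ⟨i, hi⟩ := hgen x hx.1
      obtain ⟨j, hj⟩ := hgen y hy.1
      have hc : Commute x y := by rw [hi, hj]; exact (Commute.refl d).pow_pow i j
      rw [hc.mul_pow, hx.2, hy.2, one_mul]
    | inv x _ hx => exact ⟨inv_mem hx.1, by rw [inv_pow, hx.2, inv_one]⟩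
  have hdN : d ∉ dpow p X := by
    intro h
    have h1 := orderOf_dvd_of_pow_eq_one (hNprop d h).2
    rw [hm'] at h1
    have h2 := (Nat.pow_dvd_pow_iff_le_right hp.out.one_lt).mp h1
    omega
  have hmQ : Cfsg.IsMetacyclic (X ⧸ dpow p X) := Helper98MetaB.isMetacyclic_quotient hm _
  have hXQ : IsPGroup p (X ⧸ dpow p X) := hX.to_quotient _
  have hcycQ : IsCyclic (commutator (X ⧸ dpow p X)) := Helper98MetaB.isCyclic_commutator hmQ
  have hmap : (commutator X).map (QuotientGroup.mk' (dpow p X)) = commutator (X ⧸ dpow p X) := by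
    rw [commutator_def, Subgroup.map_commutator,
      Subgroup.map_top_of_surjective _ (QuotientGroup.mk'_surjective _), commutator_def]
  have hexp : ∀ c : commutator (X ⧸ dpow p X), c ^ p = 1 := by
    rintro ⟨c, hc⟩
    rw [← hmap] at hc
    obtain ⟨c₀, hc₀, rfl⟩ := hc
    apply Subtype.ext
    show (QuotientGroup.mk' (dpow p X) c₀) ^ p = 1
    rw [← map_pow]
    exact (QuotientGroup.eq_one_iff _).mpr (Subgroup.subset_closure ⟨c₀, hc₀, rfl⟩)
  have hcard : Nat.card (commutator (X ⧸ dpow p X)) = p := by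
    rcases (Nat.dvd_prime hp.out).mp (Helper3MetaOmega.card_dvd_of_cyclic_exp hexp) with h | h
    · exfalso
      apply hdN
      have hbot : commutator (X ⧸ dpow p X) = ⊥ := Subgroup.card_eq_one.mp h
      have h1 : QuotientGroup.mk' (dpow p X) d ∈ commutator (X ⧸ dpow p X) := by
        rw [← hmap]; exact ⟨d, hdD, rfl⟩
      rw [hbot, Subgroup.mem_bot] at h1
      exact (QuotientGroup.eq_one_iff _).mp h1
    · exact h
  obtain ⟨M', hM', hM'2⟩ := core hp2 hXQ hmQ hcard hB ((Helper3AutOdd.quotChar (dpow p X)).comp ρ)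
  refine ⟨M'.comap (QuotientGroup.mk' (dpow p X)), ?_, ?_⟩
  · intro h
    apply hM'
    apply Subgroup.comap_injective (QuotientGroup.mk'_surjective (dpow p X))
    rw [h, Subgroup.comap_top]
  · intro b x
    rw [Subgroup.mem_comap]
    exact hM'2 b (QuotientGroup.mk x)

theorem comm_le_map {G : Type*} [Group G] (R A : Subgroup G)
    (hA : A ≤ Subgroup.normalizer (R : Set G)) (M : Subgroup R)
    (h : ∀ (b : A) (x : R), x⁻¹ * Helper3AutOdd.conjHom R A hA b x ∈ M) :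
    ⁅R, A⁆ ≤ M.map R.subtype := by
  rw [Subgroup.commutator_le]
  intro r hr a ha
  refine ⟨_, h ⟨a, ha⟩ (⟨r, hr⟩ : R)⁻¹, ?_⟩
  simp only [Subgroup.subtype_apply, Subgroup.coe_mul, Subgroup.coe_inv,
    Helper3AutOdd.conjHom_apply, commutatorElement_def]
  group

theorem eq_top_of_comm {G : Type*} [Group G] (R A : Subgroup G)
    (hA : A ≤ Subgroup.normalizer (R : Set G)) (hRA : ⁅R, A⁆ = R) (M : Subgroup R)
    (h : ∀ (b : A) (x : R), x⁻¹ * Helper3AutOdd.conjHom R A hA b x ∈ M) : M = ⊤ := by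
  have h1 := comm_le_map R A hA M h
  rw [hRA] at h1
  rw [eq_top_iff]
  intro g _
  obtain ⟨g', hg', hgg⟩ := h1 g.2
  have : g' = g := Subtype.ext hgg
  rwa [← this]

/-- B-G 4.12, key step, ambient form. -/
theorem key_amb {G : Type*} [Group G] [Finite G] (p : ℕ) [hp : Fact p.Prime] (hp2 : p ≠ 2)
    (R A : Subgroup G) (hR : IsPGroup p R) (hRm : Cfsg.IsMetacyclic R)
    (hA : A ≤ Subgroup.normalizer (R : Set G)) (hcop : (Nat.card A).Coprime p)
    (hRA : ⁅R, A⁆ = R) : ∀ x ∈ R, ∀ y ∈ R, x * y = y * x := by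
  by_contra hcon
  push Not at hcon
  obtain ⟨x, hx, y, hy, hxy⟩ := hcon
  obtain ⟨M, hM, hM2⟩ := key_abs hp2 hR hRm
    ⟨⟨x, hx⟩, ⟨y, hy⟩, fun h => hxy (congrArg Subtype.val h)⟩ hcop (Helper3AutOdd.conjHom R A hA)
  exact hM (eq_top_of_comm R A hA hRA M hM2)

/-- abelian `T = [T, A]` under coprime action has no fixed points. -/
theorem fix_eq_bot {G : Type*} [Group G] [Finite G] (p : ℕ) [hp : Fact p.Prime]
    (T A : Subgroup G) (hT : IsPGroup p T) (hA : A ≤ Subgroup.normalizer (T : Set G))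
    (hcop : (Nat.card A).Coprime p) (hTA : ⁅T, A⁆ = T) (hab : ∀ x ∈ T, ∀ y ∈ T, x * y = y * x) :
    T ⊓ Subgroup.centralizer (A : Set G) = ⊥ := by
  obtain ⟨M, -, hM1, hM2⟩ := norm_trick (Helper3AutOdd.conjHom T A hA) (⊥ : Subgroup T)
    (fun x y => by
      rw [Subgroup.mem_bot]
      have h : x * y = y * x := Subtype.ext (hab x x.2 y y.2)
      rw [h]; group)
    (fun b x hx => by rw [Subgroup.mem_bot] at hx ⊢; rw [hx, map_one])
  have hMtop := eq_top_of_comm T A hA hTA M hM1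
  rw [eq_bot_iff]
  intro y hy
  obtain ⟨hyT, hyC⟩ := Subgroup.mem_inf.mp hy
  have h1 := hM2 ⟨y, hyT⟩ (by
    intro b
    rw [Subgroup.mem_bot, inv_mul_eq_one]
    apply Subtype.ext
    rw [Helper3AutOdd.conjHom_apply]
    have := Subgroup.mem_centralizer_iff.mp hyC b b.2
    show y = b * y * (b : G)⁻¹
    rw [this]; group) (by rw [hMtop]; trivial)
  rw [Subgroup.mem_bot] at h1
  obtain ⟨k, hk⟩ := hT ⟨y, hyT⟩
  have h2 := Helper3AutOdd.eq_one_of_pow_coprime h1 hk (Nat.Coprime.pow_right k hcop)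
  rw [Subgroup.mem_bot]
  exact congrArg Subtype.val h2

/-- In a noncyclic metacyclic `p`-group (`p` odd), a subgroup meeting a nontrivial subgroup
trivially is cyclic. -/
theorem cyclic_of_inf_eq_bot {p : ℕ} [hp : Fact p.Prime] (hp2 : p ≠ 2) {X : Type*} [Group X]
    [Finite X] (hX : IsPGroup p X) (hm : Cfsg.IsMetacyclic X) (hnc : ¬ IsCyclic X)
    (H K : Subgroup X) (hHK : H ⊓ K = ⊥) (hK : K ≠ ⊥) : IsCyclic H := by
  by_contra hH
  obtain ⟨hΩ1, hΩ2⟩ := Helper3MetaOmega.main hp2 hX hm hnc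
  obtain ⟨E, -, hE, hEc⟩ := Helper3RankTwo.main hp2 (Nat.card H) H le_rfl (hX.to_subgroup H) hH
  have hle : E.map H.subtype ≤ Cfsg.omegaOne p (⊤ : Subgroup X) := by
    rintro _ ⟨e, he, rfl⟩
    apply Subgroup.subset_closure
    exact ⟨trivial, congrArg Subtype.val (hE.2 e he)⟩
  have hcard : Nat.card (E.map H.subtype) = p ^ 2 := by
    rw [Subgroup.card_map_of_injective H.subtype_injective, hEc]
  have heq : E.map H.subtype = Cfsg.omegaOne p (⊤ : Subgroup X) :=
    Subgroup.eq_of_le_of_card_ge hle (by rw [hcard, hΩ2])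
  have hKp : p ∣ Nat.card K := by
    rcases (hX.to_subgroup K).card_eq_or_dvd with h | h
    · exact absurd (Subgroup.card_eq_one.mp h) hK
    · exact h
  obtain ⟨c, hc⟩ := exists_prime_orderOf_dvd_card' p hKp
  have hc1 : (c : X) ∈ Cfsg.omegaOne p (⊤ : Subgroup X) := by
    apply Subgroup.subset_closure
    refine ⟨trivial, ?_⟩
    have := pow_orderOf_eq_one c
    rw [hc] at this
    exact congrArg Subtype.val this
  rw [← heq] at hc1
  obtain ⟨e, -, he⟩ := hc1
  have hcH : (c : X) ∈ H ⊓ K := ⟨by rw [← he]; exact e.2, c.2⟩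
  rw [hHK, Subgroup.mem_bot] at hcH
  have : c = 1 := Subtype.ext hcH
  rw [this, orderOf_one] at hc
  exact hp.out.one_lt.ne hc

theorem le_normalizer_comm {G : Type*} [Group G] (R A : Subgroup G) :
    R ≤ Subgroup.normalizer ((⁅R, A⁆ : Subgroup G) : Set G) := by
  have key : ∀ r ∈ R, ∀ x ∈ ⁅R, A⁆, r * x * r⁻¹ ∈ ⁅R, A⁆ := by
    intro r hr x hx
    rw [Subgroup.commutator_def] at hx
    induction hx using Subgroup.closure_induction with
    | mem x hx =>
      obtain ⟨k, hk, a, ha, rfl⟩ := hx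
      have e : r * ⁅k, a⁆ * r⁻¹ = ⁅r * k, a⁆ * ⁅r, a⁆⁻¹ := by
        simp only [commutatorElement_def]; group
      rw [e]
      exact mul_mem (Subgroup.commutator_mem_commutator (mul_mem hr hk) ha)
        (inv_mem (Subgroup.commutator_mem_commutator hr ha))
    | one => simp
    | mul x y _ _ hx hy =>
      have e : r * (x * y) * r⁻¹ = (r * x * r⁻¹) * (r * y * r⁻¹) := by group
      rw [e]; exact mul_mem hx hy
    | inv x _ hx =>
      have e : r * x⁻¹ * r⁻¹ = (r * x * r⁻¹)⁻¹ := by group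
      rw [e]; exact inv_mem hx
  intro r hr
  rw [Subgroup.mem_normalizer_iff]
  intro x
  constructor
  · exact key r hr x
  · intro h
    have := key r⁻¹ (inv_mem hr) _ h
    have e : r⁻¹ * (r * x * r⁻¹) * r⁻¹⁻¹ = x := by group
    rwa [e] at this

/-- B-G Theorem 4.12 (= S1447). -/
theorem main {G : Type*} [Group G] [Finite G] (p : ℕ) [hp : Fact p.Prime] (hp2 : p ≠ 2)
    (R A : Subgroup G) (hR : IsPGroup p R) (hRm : Cfsg.IsMetacyclic R)
    (hA : (A ≤ Subgroup.normalizer (R : Set G))) (hcop : (Nat.card A).Coprime p) :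
    IsMulCommutative ↥⁅R, A⁆ ∧ ⁅R, A⁆ ⊔ (R ⊓ Subgroup.centralizer (A : Set G)) = R ∧
      ⁅R, A⁆ ⊓ (R ⊓ Subgroup.centralizer (A : Set G)) = ⊥ ∧
      (¬ IsMulCommutative R → ¬ A ≤ Subgroup.centralizer (R : Set G) →
        ⁅R, A⁆ ≠ ⊥ ∧ IsCyclic ↥⁅R, A⁆ ∧ (R ⊓ Subgroup.centralizer (A : Set G)) ≠ ⊥ ∧
          IsCyclic ↥(R ⊓ Subgroup.centralizer (A : Set G)) ∧ ⁅R, R⁆ ≤ ⁅R, A⁆) := by
  have hTR : ⁅R, A⁆ ≤ R := Helper30SZ.commutator_le_of_le_normalizer hA
  have hAT : A ≤ Subgroup.normalizer ((⁅R, A⁆ : Subgroup G) : Set G) :=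
    Helper30SZ.le_normalizer_commutator hA Subgroup.le_normalizer
  obtain ⟨n, hn⟩ := IsPGroup.iff_card.mp hR
  have hcop' : (Nat.card A).Coprime (Nat.card R) := by rw [hn]; exact Nat.Coprime.pow_right n hcop
  have hsol : Group.IsSolvable R := by
    haveI := hR.isNilpotent
    infer_instance
  have hTT : ⁅⁅R, A⁆, A⁆ = ⁅R, A⁆ := Cfsg.Agent.S0027.result A R hA hcop' (Or.inr hsol)
  have hsup : ⁅R, A⁆ ⊔ (R ⊓ Subgroup.centralizer (A : Set G)) = R :=
    Cfsg.Agent.S0026.result A R hA hcop' (Or.inr hsol)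
  have hTp : IsPGroup p ↥⁅R, A⁆ := hR.to_le hTR
  have hTm : Cfsg.IsMetacyclic ↥⁅R, A⁆ :=
    Helper98MetaB.isMetacyclic_of_mulEquiv (Subgroup.subgroupOfEquivOfLe hTR)
      (Helper98MetaB.isMetacyclic_subgroup hRm (⁅R, A⁆.subgroupOf R))
  have hTab := key_amb p hp2 ⁅R, A⁆ A hTp hTm hAT hcop hTT
  have hTC : ⁅R, A⁆ ⊓ (R ⊓ Subgroup.centralizer (A : Set G)) = ⊥ := by
    rw [← inf_assoc, inf_eq_left.mpr hTR]
    exact fix_eq_bot p ⁅R, A⁆ A hTp hAT hcop hTT hTab
  refine ⟨⟨⟨fun a b => Subtype.ext (hTab a a.2 b b.2)⟩⟩, hsup, hTC, ?_⟩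
  intro hnab hncent
  have hT1 : ⁅R, A⁆ ≠ ⊥ := by
    intro h
    apply hncent
    rw [Subgroup.commutator_eq_bot_iff_le_centralizer] at h
    exact Subgroup.le_centralizer_iff.mp h
  have hC1 : R ⊓ Subgroup.centralizer (A : Set G) ≠ ⊥ := by
    intro h
    apply hnab
    rw [h, sup_bot_eq] at hsup
    exact ⟨⟨fun a b => Subtype.ext (by
      have ha : (a : G) ∈ ⁅R, A⁆ := by rw [hsup]; exact a.2
      have hb : (b : G) ∈ ⁅R, A⁆ := by rw [hsup]; exact b.2
      exact hTab a ha b hb)⟩⟩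
  have hncyc : ¬ IsCyclic R := by
    intro h
    apply hnab
    exact ⟨⟨fun a b => (IsCyclic.commGroup (α := R)).mul_comm a b⟩⟩
  have hinf : (⁅R, A⁆.subgroupOf R) ⊓ ((R ⊓ Subgroup.centralizer (A : Set G)).subgroupOf R) = ⊥ := by
    rw [eq_bot_iff]
    intro x hx
    have h1 : (x : G) ∈ ⁅R, A⁆ ⊓ (R ⊓ Subgroup.centralizer (A : Set G)) :=
      ⟨Subgroup.mem_subgroupOf.mp hx.1, Subgroup.mem_subgroupOf.mp hx.2⟩
    rw [hTC, Subgroup.mem_bot] at h1
    rw [Subgroup.mem_bot]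
    exact Subtype.ext h1
  have hT1' : ⁅R, A⁆.subgroupOf R ≠ ⊥ := by
    intro h
    rw [Subgroup.subgroupOf_eq_bot, disjoint_iff, inf_eq_left.mpr hTR] at h
    exact hT1 h
  have hC1' : (R ⊓ Subgroup.centralizer (A : Set G)).subgroupOf R ≠ ⊥ := by
    intro h
    rw [Subgroup.subgroupOf_eq_bot, disjoint_iff, inf_eq_left.mpr inf_le_left] at h
    exact hC1 h
  have hTcyc : IsCyclic ↥⁅R, A⁆ := by
    have := cyclic_of_inf_eq_bot hp2 hR hRm hncyc _ _ hinf hC1'
    exact isCyclic_of_surjective (Subgroup.subgroupOfEquivOfLe hTR)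
      (Subgroup.subgroupOfEquivOfLe hTR).surjective
  have hCcyc : IsCyclic ↥(R ⊓ Subgroup.centralizer (A : Set G)) := by
    have := cyclic_of_inf_eq_bot hp2 hR hRm hncyc _ _ (by rw [inf_comm]; exact hinf) hT1'
    exact isCyclic_of_surjective (Subgroup.subgroupOfEquivOfLe (inf_le_left : R ⊓ _ ≤ R))
      (Subgroup.subgroupOfEquivOfLe (inf_le_left : R ⊓ _ ≤ R)).surjective
  refine ⟨hT1, hTcyc, hC1, hCcyc, ?_⟩
  have hCcomm : ∀ c₁ ∈ R ⊓ Subgroup.centralizer (A : Set G),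
      ∀ c₂ ∈ R ⊓ Subgroup.centralizer (A : Set G), c₁ * c₂ = c₂ * c₁ := by
    intro c₁ h₁ c₂ h₂
    exact congrArg Subtype.val ((IsCyclic.commGroup
      (α := ↥(R ⊓ Subgroup.centralizer (A : Set G)))).mul_comm ⟨c₁, h₁⟩ ⟨c₂, h₂⟩)
  have hRT := le_normalizer_comm R A
  rw [Subgroup.commutator_le]
  intro x hx y hy
  obtain ⟨t₁, ht₁, c₁, hc₁, rfl⟩ :=
    Helper30SZ.exists_commutator_mul_centralizer hA hcop' (Or.inr hsol) hx
  obtain ⟨t₂, ht₂, c₂, hc₂, rfl⟩ :=
    Helper30SZ.exists_commutator_mul_centralizer hA hcop' (Or.inr hsol) hy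
  have hcc := hCcomm c₁ hc₁ c₂ hc₂
  have e : ⁅t₁ * c₁, t₂ * c₂⁆ = t₁ * (c₁ * t₂ * c₁⁻¹) * (c₂ * t₁⁻¹ * c₂⁻¹) * t₂⁻¹ := by
    have h1 : c₂ * c₁⁻¹ = c₁⁻¹ * c₂ := by
      calc c₂ * c₁⁻¹ = c₁⁻¹ * (c₁ * c₂) * c₁⁻¹ := by group
        _ = c₁⁻¹ * (c₂ * c₁) * c₁⁻¹ := by rw [hcc]
        _ = c₁⁻¹ * c₂ := by group
    calc ⁅t₁ * c₁, t₂ * c₂⁆ = t₁ * c₁ * t₂ * (c₂ * c₁⁻¹) * t₁⁻¹ * c₂⁻¹ * t₂⁻¹ := by
          rw [commutatorElement_def]; group
      _ = t₁ * c₁ * t₂ * (c₁⁻¹ * c₂) * t₁⁻¹ * c₂⁻¹ * t₂⁻¹ := by rw [h1]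
      _ = _ := by group
  rw [e]
  exact mul_mem (mul_mem (mul_mem ht₁
    ((Subgroup.mem_normalizer_iff.mp (hRT hc₁.1) t₂).mp ht₂))
    ((Subgroup.mem_normalizer_iff.mp (hRT hc₂.1) t₁⁻¹).mp (inv_mem ht₁))) (inv_mem ht₂)

end Cfsg.Agent.Lib.Helper3MetaCop
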