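import Mathlib
import Cfsg.Agent.Lib.Helper3MetaAut
import Cfsg.Agent.Lib.Helper86Series
import Cfsg.Agent.Lib.Helper89Omega

set_option autoImplicit false

/-! Group-theoretic core for strongly closed metacyclic 2-subgroups (helper3). -/

namespace Cfsg.Agent.Lib.Helper3MetaFus

open Subgroup Cfsg.Agent.Lib.Helper3PGroup Cfsg.Agent.Lib.Helper3AutOdd
  Cfsg.Agent.Lib.Helper98MetaB Cfsg.Agent.Lib.Helper3MetaTwo Cfsg.Agent.Lib.Helper3MetaAut
  Cfsg.Agent.Lib.Helper86Series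

theorem conj_cyclic_square {P : Type*} [Group P] [Finite P] (hP : IsPGroup 2 P) (N : Subgroup P)
    [hNn : N.Normal] (hN : IsCyclic N) {ν : P} (hνN : ν ∈ N) (g : P) :
    ∃ l : ℕ, ν⁻¹ * (g * ν * g⁻¹) = (ν ^ l) ^ 2 := by
  have hmem := conj_mem_zpowers N hN hνN g
  rw [← mem_powers_iff_mem_zpowers] at hmem
  obtain ⟨i, hi⟩ := hmem
  simp only at hi
  by_cases hν1 : ν = 1
  · exact ⟨0, by rw [hν1]; group⟩
  have hodd : Odd i := by
    by_contra hev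
    rw [Nat.not_odd_iff_even] at hev
    obtain ⟨l, rfl⟩ := hev
    obtain ⟨e, he⟩ := IsPGroup.iff_orderOf.mp hP ν
    have he0 : e ≠ 0 := by
      rintro rfl
      rw [pow_zero, orderOf_eq_one_iff] at he; exact hν1 he
    obtain ⟨e', rfl⟩ : ∃ e', e = e' + 1 := ⟨e - 1, by omega⟩
    have h5 : (g * ν * g⁻¹) ^ (2 ^ e') = 1 := by
      rw [← hi, ← pow_mul]
      have : (l + l) * 2 ^ e' = 2 ^ (e' + 1) * l := by ring
      rw [this, pow_mul, ← he, pow_orderOf_eq_one, one_pow]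
    rw [conj_pow] at h5
    have h6 := conj_eq_one_iff.mp h5
    have h7 := orderOf_dvd_of_pow_eq_one h6
    rw [he] at h7
    have h8 := Nat.le_of_dvd (by positivity) h7
    rw [pow_succ] at h8
    have : 0 < 2 ^ e' := by positivity
    omega
  obtain ⟨l, rfl⟩ := hodd
  refine ⟨l, ?_⟩
  rw [← hi, pow_succ', inv_mul_cancel_left, ← pow_mul, mul_comm]

theorem sq_step {Q : Type*} [Group Q] [Finite Q] (hQ : IsPGroup 2 Q) (hm : Cfsg.IsMetacyclic Q)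
    (D : Subgroup Q) (g : Q) (hg : ∀ a ∈ D, g * a * g⁻¹ ∈ D) (a : Q) (ha : a ∈ D) :
    ∃ e₁ ∈ D, ∃ e₂ ∈ D, a⁻¹ * (g ^ 2 * a * (g ^ 2)⁻¹) = e₁ ^ 2 * e₂ ^ 2 := by
  obtain ⟨N, hNn, hN, hq⟩ := hm
  obtain ⟨c, hc⟩ : ∃ c, c = a⁻¹ * (g * a * g⁻¹) := ⟨_, rfl⟩
  have hcN : c ∈ N := hc ▸ comm_mem_of_cyclic_quot N hq a g
  have hcD : c ∈ D := hc ▸ D.mul_mem (D.inv_mem ha) (hg a ha)
  obtain ⟨l, hl⟩ := conj_cyclic_square hQ N hN hcN g
  refine ⟨c, hcD, c ^ l, D.pow_mem hcD l, ?_⟩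
  have e : a⁻¹ * (g ^ 2 * a * (g ^ 2)⁻¹) = c * (g * c * g⁻¹) := by rw [hc, pow_two]; group
  have e2 : g * c * g⁻¹ = c * (c ^ l) ^ 2 := by rw [← hl]; group
  rw [e, e2, pow_two c, mul_assoc]

theorem zmod_sq {n : ℕ} (hn : n ≠ 1) (z : Multiplicative (ZMod (2 ^ n))) (hz : z ^ 2 = 1) :
    ∃ w : Multiplicative (ZMod (2 ^ n)), z = w ^ 2 := by
  rcases Nat.eq_zero_or_pos n with h0 | h0
  · subst h0
    haveI : Subsingleton (Multiplicative (ZMod (2 ^ 0))) := by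
      show Subsingleton (ZMod (2 ^ 0))
      rw [pow_zero]; infer_instance
    exact ⟨1, Subsingleton.elim _ _⟩
  obtain ⟨k, rfl⟩ : ∃ k, n = k + 2 := ⟨n - 2, by omega⟩
  obtain ⟨a, ha⟩ : ∃ a : ZMod (2 ^ (k + 2)), z = Multiplicative.ofAdd a := ⟨z.toAdd, rfl⟩
  rw [ha] at hz ⊢
  have h1 : (2 : ℕ) • a = 0 := by
    have := congrArg Multiplicative.toAdd hz
    simpa using this
  have h2 : ((2 * a.val : ℕ) : ZMod (2 ^ (k + 2))) = 0 := by
    rw [Nat.cast_mul, ZMod.natCast_zmod_val]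
    simpa using h1
  rw [ZMod.natCast_eq_zero_iff] at h2
  have h3 : 2 ∣ a.val := by
    have h4 : 2 * (2 * 2 ^ k) ∣ 2 * a.val := by
      have e : 2 ^ (k + 2) = 2 * (2 * 2 ^ k) := by rw [pow_succ, pow_succ]; ring
      exact e ▸ h2
    have h5 := Nat.dvd_of_mul_dvd_mul_left (by norm_num) h4
    exact dvd_trans (Dvd.intro _ rfl) h5
  obtain ⟨b, hb⟩ := h3
  refine ⟨Multiplicative.ofAdd (b : ZMod (2 ^ (k + 2))), ?_⟩
  rw [← ofAdd_nsmul]
  congr 1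
  rw [← ZMod.natCast_zmod_val a, hb]
  simp

theorem homocyclic_facts {Y : Type*} [Group Y] (n : ℕ)
    (e : Y ≃* Multiplicative (ZMod (2 ^ n)) × Multiplicative (ZMod (2 ^ n))) :
    (∀ x y : Y, x * y = y * x) ∧
      ((∀ x : Y, x ^ 2 = 1 → ∃ z, x = z ^ 2) ∨ (Nat.card Y = 4 ∧ ∀ x : Y, x ^ 2 = 1)) := by
  refine ⟨fun x y => e.injective (by rw [map_mul, map_mul, mul_comm]), ?_⟩
  by_cases hn : n = 1
  · right
    subst hn
    have hc : Nat.card (Multiplicative (ZMod (2 ^ 1))) = 2 := by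
      show Nat.card (ZMod (2 ^ 1)) = 2
      rw [Nat.card_zmod]; norm_num
    refine ⟨?_, fun x => ?_⟩
    · rw [Nat.card_congr e.toEquiv, Nat.card_prod, hc]
    · apply e.injective
      rw [map_pow, map_one]
      have h2 : ∀ z : Multiplicative (ZMod (2 ^ 1)), z ^ 2 = 1 := by
        intro z
        have := pow_card_eq_one' (G := Multiplicative (ZMod (2 ^ 1))) (x := z)
        rwa [hc] at this
      exact Prod.ext (h2 _) (h2 _)
  · left
    intro x hx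
    have h1 : (e x) ^ 2 = 1 := by rw [← map_pow, hx, map_one]
    obtain ⟨w1, hw1⟩ := zmod_sq hn (e x).1 (congrArg Prod.fst h1)
    obtain ⟨w2, hw2⟩ := zmod_sq hn (e x).2 (congrArg Prod.snd h1)
    refine ⟨e.symm (w1, w2), ?_⟩
    apply e.injective
    rw [map_pow, MulEquiv.apply_symm_apply]
    exact Prod.ext hw1 hw2

theorem final {Q : Type*} [Group Q] [Finite Q] (hQ : IsPGroup 2 Q) (hm : Cfsg.IsMetacyclic Q)
    (hnm : ¬ MaxClassTwo Q) (D : Subgroup Q)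
    (hD : Nonempty (D ≃* QuaternionGroup 2) ∨
      ∃ n : ℕ, Nonempty (D ≃* Multiplicative (ZMod (2 ^ n)) × Multiplicative (ZMod (2 ^ n))))
    (g : Q) (hg : ∀ a ∈ D, g * a * g⁻¹ ∈ D) (hg2 : g ^ 2 ∈ D) (a : Q) (ha : a ∈ D) :
    ∃ e ∈ D, a⁻¹ * (g * a * g⁻¹) = e ^ 2 := by
  rcases hD with ⟨⟨e⟩⟩ | ⟨n, ⟨e⟩⟩
  · exfalso
    apply hnm
    have h1 : orderOf ((e.symm (QuaternionGroup.a 1) : D) : Q) = 4 := by
      rw [Subgroup.orderOf_coe, MulEquiv.orderOf_eq, QuaternionGroup.orderOf_a_one]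
    have h2 : (QuaternionGroup.xa 0 : QuaternionGroup 2) * QuaternionGroup.a 1 *
        (QuaternionGroup.xa 0)⁻¹ = (QuaternionGroup.a 1)⁻¹ := by decide
    have h3 : (QuaternionGroup.xa 0 : QuaternionGroup 2) ^ 2 = (QuaternionGroup.a 1) ^ 2 := by
      decide
    refine maxclass_of_quat hQ hm (u := ((e.symm (QuaternionGroup.a 1) : D) : Q))
      (v := ((e.symm (QuaternionGroup.xa 0) : D) : Q)) h1 ?_ ?_
    · have h4 := congrArg e.symm h2
      rw [map_mul, map_mul, map_inv, map_inv] at h4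
      exact congrArg Subtype.val h4
    · have h4 := congrArg e.symm h3
      rw [map_pow, map_pow] at h4
      exact congrArg Subtype.val h4
  · obtain ⟨hcomm, halt⟩ := homocyclic_facts n e
    have hDc : ∀ a ∈ D, ∀ b ∈ D, a * b = b * a := fun a ha b hb =>
      congrArg Subtype.val (hcomm ⟨a, ha⟩ ⟨b, hb⟩)
    have hm' := hm
    obtain ⟨N, hNn, hN, hq⟩ := hm'
    have hcD : a⁻¹ * (g * a * g⁻¹) ∈ D := D.mul_mem (D.inv_mem ha) (hg a ha)
    rcases comm_sq_or_square hQ N hN hq D hDc g hg hg2 a ha with h | h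
    · rcases halt with h1 | ⟨hcard, hexp⟩
      · obtain ⟨z, hz⟩ := h1 ⟨_, hcD⟩ (Subtype.ext h)
        exact ⟨z, z.2, congrArg Subtype.val hz⟩
      · by_cases hfix : g * a * g⁻¹ = a
        · exact ⟨1, D.one_mem, by rw [hfix]; group⟩
        · exact absurd (maxclass_of_four hQ hm D hcard
            (fun a ha => congrArg Subtype.val (hexp ⟨a, ha⟩)) g hg hg2 a ha hfix) hnm
    · exact h


/-- restriction of an automorphism to an invariant subgroup. -/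
def resAut {R : Type*} [Group R] (D : Subgroup R) (γ : MulAut R)
    (h : ∀ x ∈ D, γ x ∈ D ∧ γ⁻¹ x ∈ D) : MulAut D :=
  { toFun := fun x => ⟨γ x, (h x x.2).1⟩
    invFun := fun x => ⟨γ⁻¹ x, (h x x.2).2⟩
    left_inv := fun x => Subtype.ext (by
      show γ⁻¹ (γ x) = x
      simp)
    right_inv := fun x => Subtype.ext (by
      show γ (γ⁻¹ x) = x
      simp)
    map_mul' := fun x y => Subtype.ext (by
      show γ (x * y) = γ x * γ y
      rw [map_mul]) }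

theorem resAut_apply {R : Type*} [Group R] (D : Subgroup R) (γ : MulAut R)
    (h : ∀ x ∈ D, γ x ∈ D ∧ γ⁻¹ x ∈ D) (x : D) : ((resAut D γ h x : D) : R) = γ x := rfl

theorem resAut_pow {R : Type*} [Group R] (D : Subgroup R) (γ : MulAut R)
    (h : ∀ x ∈ D, γ x ∈ D ∧ γ⁻¹ x ∈ D) (k : ℕ) (x : D) :
    ((((resAut D γ h) ^ k) x : D) : R) = (γ ^ k) x := by
  induction k with
  | zero => rfl
  | succ k ih =>
    rw [pow_succ', pow_succ', MulAut.mul_apply, MulAut.mul_apply, resAut_apply, ih]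

theorem resAut_pow_orderOf {R : Type*} [Group R] (D : Subgroup R) (γ : MulAut R)
    (h : ∀ x ∈ D, γ x ∈ D ∧ γ⁻¹ x ∈ D) : (resAut D γ h) ^ orderOf γ = 1 := by
  ext x
  rw [resAut_pow, pow_orderOf_eq_one]
  rfl

/-- the subgroup generated by the squares of the elements of `D`. -/
def sqSub {R : Type*} [Group R] (D : Subgroup R) : Subgroup R :=
  closure {x | ∃ y ∈ D, y ^ 2 = x}

theorem sqSub_inv {R : Type*} [Group R] (D : Subgroup R) (γ : MulAut R)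
    (h : ∀ x ∈ D, γ x ∈ D) (x : R) (hx : x ∈ sqSub D) : γ x ∈ sqSub D := by
  unfold sqSub at hx ⊢
  induction hx using closure_induction with
  | mem x hx =>
    obtain ⟨y, hy, rfl⟩ := hx
    exact subset_closure ⟨γ y, h y hy, (map_pow γ y 2).symm⟩
  | one => rw [map_one]; exact one_mem _
  | mul a b _ _ ha hb => rw [map_mul]; exact mul_mem ha hb
  | inv a _ ha => rw [map_inv]; exact inv_mem ha

theorem mem_frattini_of_mem_sqSub {R : Type*} [Group R] (D : Subgroup R) [Finite D]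
    (hD : IsPGroup 2 D) (x : D) (hx : (x : R) ∈ sqSub D) : x ∈ frattini D := by
  haveI : Fact (Nat.Prime 2) := ⟨Nat.prime_two⟩
  have h1 : sqSub D ≤ (frattini D).map D.subtype := by
    unfold sqSub
    rw [closure_le]
    rintro _ ⟨y, hy, rfl⟩
    exact ⟨(⟨y, hy⟩ : D) ^ 2, pow_mem_frattini hD _, rfl⟩
  obtain ⟨x', hx', he⟩ := h1 hx
  have : x' = x := Subtype.ext he
  rwa [this] at hx'

/-- a three term chain. -/
def chainOf {R : Type*} [Group R] (V D : Subgroup R) : ℕ → Subgroup R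
  | 0 => V
  | 1 => D
  | _ => ⊤

theorem mem_stab {R : Type*} [Group R] (V D : Subgroup R) (ρ : MulAut R)
    (hV : ∀ x ∈ V, ρ x ∈ V ∧ ρ⁻¹ x ∈ V) (hD : ∀ x ∈ D, ρ x ∈ D ∧ ρ⁻¹ x ∈ D)
    (h0 : ∀ x ∈ D, x⁻¹ * ρ x ∈ V) (h1 : ∀ x, x⁻¹ * ρ x ∈ D) : ρ ∈ stabChain (chainOf V D) := by
  refine ⟨fun i x hx => ?_, fun i x hx => ?_⟩
  · rcases i with _ | _ | i
    · exact hV x hx
    · exact hD x hx
    · exact ⟨mem_top _, mem_top _⟩
  · rcases i with _ | _ | i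
    · exact h0 x hx
    · exact h1 x
    · exact mem_top _

theorem isPGroup_stab {R : Type*} [Group R] [Finite R] (hR : IsPGroup 2 R) (V D : Subgroup R)
    (h3 : ∀ γ (hγ : γ ∈ stabChain (chainOf V D)), (orderOf γ).Coprime 2 →
      resAut D γ (hγ.1 1) = 1) : IsPGroup 2 (stabChain (chainOf V D)) := by
  haveI : Fact (Nat.Prime 2) := ⟨Nat.prime_two⟩
  apply Cfsg.Agent.Lib.Helper89Omega.isPGroup_of_coprime_trivial
  rintro ⟨γ, hγ⟩ ho
  rw [Subgroup.orderOf_mk] at ho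
  apply Subtype.ext
  show γ = 1
  refine Cfsg.Agent.Lib.Helper89Omega.trivial_of_coprime 2 hR γ ho D
    (fun x => hγ.2 1 x (mem_top x)) (fun x hx _ => ?_)
  have := congrArg (fun f : MulAut D => ((f ⟨x, hx⟩ : D) : R)) (h3 γ hγ ho)
  exact this

/-- the two ways of viewing `P ⊓ R`. -/
def swapEquiv {Ω : Type*} [Group Ω] (P R : Subgroup Ω) : P.subgroupOf R ≃* R.subgroupOf P :=
  { toFun := fun x => ⟨⟨((x : R) : Ω), x.2⟩, (x : R).2⟩
    invFun := fun x => ⟨⟨((x : P) : Ω), x.2⟩, (x : P).2⟩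
    left_inv := fun _ => rfl
    right_inv := fun _ => rfl
    map_mul' := fun _ _ => rfl }

theorem core {Ω : Type*} [Group Ω] (P R : Subgroup Ω) [Finite P] [Finite R]
    (hP2 : IsPGroup 2 P) (hR2 : IsPGroup 2 R) (hm : Cfsg.IsMetacyclic P)
    (hnm : ¬ MaxClassTwo P) (hRP : ∀ x ∈ R, ∀ y ∈ P, x * y * x⁻¹ ∈ P)
    (A : Subgroup (MulAut R)) (hA : ∀ γ ∈ A, ∀ x : R, (x : Ω) ∈ P → ((γ x : R) : Ω) ∈ P)
    (hRC : ∀ h ∈ P, ∀ ρ ∈ A, (∀ x : R, ((ρ x : R) : Ω) = h * x * h⁻¹) →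
      ρ ∈ (Cfsg.pCore 2 A).map A.subtype → h ∈ R)
    (g : Ω) (hgP : g ∈ P) (r : MulAut R) (hrA : r ∈ A)
    (hgr : ∀ x : R, ((r x : R) : Ω) = g * x * g⁻¹) :
    r ∈ (Cfsg.pCore 2 A).map A.subtype := by
  haveI : Fact (Nat.Prime 2) := ⟨Nat.prime_two⟩
  obtain ⟨D, hDdef⟩ : ∃ D : Subgroup R, D = P.subgroupOf R := ⟨_, rfl⟩
  have hmemD : ∀ x : R, x ∈ D ↔ (x : Ω) ∈ P := fun x => by rw [hDdef, mem_subgroupOf]
  have hDinv : ∀ γ ∈ A, ∀ x ∈ D, γ x ∈ D := fun γ hγ x hx =>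
    (hmemD _).mpr (hA γ hγ x ((hmemD x).mp hx))
  have hDinv2 : ∀ γ ∈ A, ∀ x ∈ D, γ x ∈ D ∧ γ⁻¹ x ∈ D := fun γ hγ x hx =>
    ⟨hDinv γ hγ x hx, hDinv γ⁻¹ (A.inv_mem hγ) x hx⟩
  have hVinv2 : ∀ γ ∈ A, ∀ x ∈ sqSub D, γ x ∈ sqSub D ∧ γ⁻¹ x ∈ sqSub D := fun γ hγ x hx =>
    ⟨sqSub_inv D γ (hDinv γ hγ) x hx, sqSub_inv D γ⁻¹ (hDinv γ⁻¹ (A.inv_mem hγ)) x hx⟩
  have hD2 : IsPGroup 2 D := hR2.to_subgroup D
  -- membership in the core from membership in a normal 2-subgroup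
  have hcore : ∀ V : Subgroup R, (∀ γ ∈ A, ∀ x ∈ V, γ x ∈ V) →
      IsPGroup 2 (stabChain (chainOf V D)) → ∀ ρ ∈ A, ρ ∈ stabChain (chainOf V D) →
      ρ ∈ (Cfsg.pCore 2 A).map A.subtype := by
    intro V hV hpK ρ hρA hρK
    have hnormal : ((stabChain (chainOf V D)).subgroupOf A).Normal := by
      apply stabChain_normal
      intro γ hγ i x hx
      rcases i with _ | _ | i
      · exact hV γ hγ x hx
      · exact hDinv γ hγ x hx
      · exact mem_top _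
    exact ⟨⟨ρ, hρA⟩, Cfsg.Agent.Lib.Helper86Group.le_pCore hnormal hpK.comap_subtype
      (by rw [mem_subgroupOf]; exact hρK), rfl⟩
  -- conjugation by elements of `P` is trivial modulo `D`
  have hmodD : ∀ h ∈ P, ∀ ρ : MulAut R, (∀ x : R, ((ρ x : R) : Ω) = h * x * h⁻¹) →
      ∀ x : R, x⁻¹ * ρ x ∈ D := by
    intro h hh ρ hρ x
    rw [hmemD]
    show (x : Ω)⁻¹ * ((ρ x : R) : Ω) ∈ P
    rw [hρ]
    have h1 := hRP _ (R.inv_mem x.2) h hh
    rw [inv_inv] at h1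
    have h2 := P.mul_mem h1 (P.inv_mem hh)
    have e : (x : Ω)⁻¹ * h * x * h⁻¹ = (x : Ω)⁻¹ * (h * x * h⁻¹) := by group
    rwa [e] at h2
  by_cases hAut : IsPGroup 2 (MulAut D)
  · -- the stabilizer of `D ≤ R`
    refine hcore D hDinv ?_ r hrA (mem_stab D D r (hDinv2 r hrA) (hDinv2 r hrA) ?_
      (hmodD g hgP r hgr))
    · apply isPGroup_stab hR2
      intro γ hγ ho
      obtain ⟨k, hk⟩ := hAut (resAut D γ (hγ.1 1))
      exact eq_one_of_pow_coprime (resAut_pow_orderOf D γ _) hk (Nat.Coprime.pow_right k ho)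
    · intro x hx
      exact D.mul_mem (D.inv_mem hx) (hDinv r hrA x hx)
  · have hpK : IsPGroup 2 (stabChain (chainOf (sqSub D) D)) := by
      apply isPGroup_stab hR2
      intro γ hγ ho
      apply eq_one_of_trivial_mod_frattini hD2
      · exact Nat.Coprime.coprime_dvd_left
          (orderOf_dvd_of_pow_eq_one (resAut_pow_orderOf D γ _)) ho
      · intro x
        apply mem_frattini_of_mem_sqSub D hD2
        exact hγ.2 0 x x.2
    have hVinv : ∀ γ ∈ A, ∀ x ∈ sqSub D, γ x ∈ sqSub D := fun γ hγ x hx => (hVinv2 γ hγ x hx).1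
    -- the level of `P`
    have hgD : ∀ a ∈ R.subgroupOf P, (⟨g, hgP⟩ : P) * a * (⟨g, hgP⟩ : P)⁻¹ ∈ R.subgroupOf P := by
      intro a ha
      rw [mem_subgroupOf] at ha ⊢
      show g * (a : Ω) * g⁻¹ ∈ R
      rw [← hgr ⟨a, ha⟩]
      exact (r ⟨a, ha⟩).2
    have hmD : Cfsg.IsMetacyclic D := by
      rw [hDdef]
      exact isMetacyclic_of_mulEquiv (swapEquiv P R).symm (isMetacyclic_subgroup hm _)
    have halt := Cfsg.Agent.Lib.Helper3MetaAut.main hD2 hmD hAut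
    have halt' : Nonempty (R.subgroupOf P ≃* QuaternionGroup 2) ∨
        ∃ n : ℕ, Nonempty (R.subgroupOf P ≃*
          Multiplicative (ZMod (2 ^ n)) × Multiplicative (ZMod (2 ^ n))) := by
      subst hDdef
      rcases halt with ⟨⟨e⟩⟩ | ⟨n, ⟨e⟩⟩
      · exact Or.inl ⟨(swapEquiv P R).symm.trans e⟩
      · exact Or.inr ⟨n, ⟨(swapEquiv P R).symm.trans e⟩⟩
    have hsqmem : ∀ e : P, e ∈ R.subgroupOf P → ∀ he : (e : Ω) ∈ R,
        (⟨(e : Ω), he⟩ : R) ^ 2 ∈ sqSub D := by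
      intro e _ he
      exact subset_closure ⟨⟨(e : Ω), he⟩, (hmemD _).mpr e.2, rfl⟩
    -- `r ^ 2` lies in the stabilizer
    have hr2 : ∀ x : R, (((r ^ 2) x : R) : Ω) = g ^ 2 * x * (g ^ 2)⁻¹ := by
      intro x
      rw [pow_two, MulAut.mul_apply, hgr, hgr, pow_two]; group
    have hr2A : r ^ 2 ∈ A := A.pow_mem hrA 2
    have hr2K : r ^ 2 ∈ stabChain (chainOf (sqSub D) D) := by
      refine mem_stab _ D _ (hVinv2 _ hr2A) (hDinv2 _ hr2A) ?_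
        (hmodD (g ^ 2) (P.pow_mem hgP 2) _ hr2)
      intro x hx
      have hxP := (hmemD x).mp hx
      obtain ⟨e₁, he₁, e₂, he₂, he⟩ := sq_step hP2 hm (R.subgroupOf P) ⟨g, hgP⟩ hgD
        ⟨(x : Ω), hxP⟩ (by rw [mem_subgroupOf]; exact x.2)
      rw [mem_subgroupOf] at he₁ he₂
      have e : x⁻¹ * (r ^ 2) x = (⟨(e₁ : Ω), he₁⟩ : R) ^ 2 * (⟨(e₂ : Ω), he₂⟩ : R) ^ 2 := by
        apply Subtype.ext
        show (x : Ω)⁻¹ * (((r ^ 2) x : R) : Ω) = (e₁ : Ω) ^ 2 * (e₂ : Ω) ^ 2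
        rw [hr2]
        exact congrArg Subtype.val he
      rw [e]
      exact mul_mem (hsqmem e₁ (by rw [mem_subgroupOf]; exact he₁) he₁)
        (hsqmem e₂ (by rw [mem_subgroupOf]; exact he₂) he₂)
    have hg2R : g ^ 2 ∈ R := hRC (g ^ 2) (P.pow_mem hgP 2) (r ^ 2) hr2A hr2
      (hcore _ hVinv hpK _ hr2A hr2K)
    refine hcore _ hVinv hpK r hrA (mem_stab _ D r (hVinv2 r hrA) (hDinv2 r hrA) ?_
      (hmodD g hgP r hgr))
    intro x hx
    have hxP := (hmemD x).mp hx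
    obtain ⟨e₁, he₁, he⟩ := final hP2 hm hnm (R.subgroupOf P) halt' ⟨g, hgP⟩ hgD
      (by rw [mem_subgroupOf]; exact hg2R) ⟨(x : Ω), hxP⟩ (by rw [mem_subgroupOf]; exact x.2)
    rw [mem_subgroupOf] at he₁
    have e : x⁻¹ * r x = (⟨(e₁ : Ω), he₁⟩ : R) ^ 2 := by
      apply Subtype.ext
      show (x : Ω)⁻¹ * ((r x : R) : Ω) = (e₁ : Ω) ^ 2
      rw [hgr]
      exact congrArg Subtype.val he
    rw [e]
    exact hsqmem e₁ (by rw [mem_subgroupOf]; exact he₁) he₁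

end Cfsg.Agent.Lib.Helper3MetaFus
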