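import Mathlib
import Cfsg.Prelude.Def_Transfer
import Cfsg.Prelude.Def_PLocal
import Cfsg.Prelude.Def_OddOrderLocal
import Cfsg.Agent.Lib.Helper3PGroup
import Cfsg.Agent.Lib.Helper3Class2
import Cfsg.Agent.Lib.Helper3TwoMax
import Cfsg.Agent.Lib.Helper3OmegaQuot

set_option autoImplicit false

namespace Cfsg.Agent.Lib.Helper3Metacyclic

universe u

open scoped commutatorElement

/-- If `X = C⟨t⟩` with `C` abelian normal, then `X' = [C,t]`. -/
theorem commutator_le_range_of_gen {X : Type*} [Group X] (C : Subgroup X) (hN : C.Normal)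
    (hC : ∀ a ∈ C, ∀ b ∈ C, a * b = b * a) (t : X)
    (hgen : ∀ g : X, ∃ c ∈ C, ∃ i : ℤ, g = c * t ^ i) :
    commutator X ≤ (Helper3TwoMax.kappa C hN hC t).range := by
  set I := (Helper3TwoMax.kappa C hN hC t).range with hI
  have hIC : I ≤ C := by
    rintro _ ⟨x, rfl⟩
    rw [Helper3TwoMax.kappa_apply]
    have := C.mul_mem x.2 (hN.conj_mem _ (C.inv_mem x.2) t)
    have e : (x : X) * t * (x : X)⁻¹ * t⁻¹ = (x : X) * (t * (x : X)⁻¹ * t⁻¹) := by group
    rw [e]; exact this
  haveI hnorm : I.Normal := by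
    constructor
    rintro _ ⟨x, rfl⟩ g
    obtain ⟨y, hy, i, rfl⟩ := hgen g
    have hx' : t ^ i * (x : X) * (t ^ i)⁻¹ ∈ C := hN.conj_mem _ x.2 _
    have hw : Helper3TwoMax.kappa C hN hC t ⟨_, hx'⟩ ∈ I := ⟨_, rfl⟩
    have hwC := hIC hw
    have e1 : y * t ^ i * (Helper3TwoMax.kappa C hN hC t x) * (y * t ^ i)⁻¹ =
        y * (Helper3TwoMax.kappa C hN hC t ⟨_, hx'⟩) * y⁻¹ := by
      rw [Helper3TwoMax.kappa_apply, Helper3TwoMax.kappa_apply]
      group
    rw [e1, hC y hy _ hwC, mul_inv_cancel_right]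
    exact hw
  rw [← Subgroup.Normal.quotient_commutative_iff_commutator_le]
  have h1 : ∀ x ∈ C, Commute (QuotientGroup.mk x : X ⧸ I) (QuotientGroup.mk t) := by
    intro x hx
    have : Helper3TwoMax.kappa C hN hC t ⟨x, hx⟩ ∈ I := ⟨_, rfl⟩
    rw [Helper3TwoMax.kappa_apply] at this
    have h2 := (QuotientGroup.eq_one_iff _).mpr this
    simp only [QuotientGroup.mk_mul, QuotientGroup.mk_inv] at h2
    show (QuotientGroup.mk x : X ⧸ I) * QuotientGroup.mk t = QuotientGroup.mk t * QuotientGroup.mk x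
    calc (QuotientGroup.mk x : X ⧸ I) * QuotientGroup.mk t
        = ((QuotientGroup.mk x : X ⧸ I) * QuotientGroup.mk t * (QuotientGroup.mk x)⁻¹ *
          (QuotientGroup.mk t)⁻¹) * (QuotientGroup.mk t * QuotientGroup.mk x) := by group
      _ = _ := by rw [h2, one_mul]
  have h2 : ∀ x ∈ C, ∀ y ∈ C, Commute (QuotientGroup.mk x : X ⧸ I) (QuotientGroup.mk y) := by
    intro x hx y hy
    show (QuotientGroup.mk x : X ⧸ I) * QuotientGroup.mk y = QuotientGroup.mk y * QuotientGroup.mk x
    rw [← QuotientGroup.mk_mul, ← QuotientGroup.mk_mul, hC x hx y hy]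
  refine ⟨⟨fun a b => ?_⟩⟩
  obtain ⟨a, rfl⟩ := QuotientGroup.mk_surjective a
  obtain ⟨b, rfl⟩ := QuotientGroup.mk_surjective b
  obtain ⟨x, hx, i, rfl⟩ := hgen a
  obtain ⟨y, hy, j, rfl⟩ := hgen b
  simp only [QuotientGroup.mk_mul, QuotientGroup.mk_zpow]
  have : Commute ((QuotientGroup.mk x : X ⧸ I) * (QuotientGroup.mk t) ^ i)
      ((QuotientGroup.mk y : X ⧸ I) * (QuotientGroup.mk t) ^ j) := by
    apply Commute.mul_left
    · exact Commute.mul_right (h2 x hx y hy) ((h1 x hx).zpow_right j)
    · exact Commute.mul_right ((h1 y hy).symm.zpow_left i)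
        ((Commute.refl (QuotientGroup.mk t : X ⧸ I)).zpow_zpow i j)
  exact this

/-- Lifting metacyclicity through a central subgroup of order `p` inside `℧₁(R')`. -/
theorem lift_metacyclic {p : ℕ} [hp : Fact p.Prime] {R : Type*} [Group R] [Finite R]
    (hR : IsPGroup p R) (z : R) (hzZ : z ∈ Subgroup.center R) (hzc : z ∈ commutator R)
    (hzp : z ^ p = 1) (hcard : p < Nat.card (commutator R))
    [hn : (Subgroup.zpowers z).Normal]
    (hm : Cfsg.IsMetacyclic (R ⧸ Subgroup.zpowers z)) : Cfsg.IsMetacyclic R := by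
  obtain ⟨A', hA'n, hA'c, hQc⟩ := hm
  set N := Subgroup.zpowers z with hN
  set A := A'.comap (QuotientGroup.mk' N) with hA
  haveI hAn : A.Normal := hA'n.comap _
  obtain ⟨a', ha'⟩ := hA'c.exists_generator
  obtain ⟨a, ha⟩ := QuotientGroup.mk_surjective (a' : R ⧸ N)
  have haA : a ∈ A := by
    rw [hA, Subgroup.mem_comap]
    show (QuotientGroup.mk a : R ⧸ N) ∈ A'
    rw [ha]; exact a'.2
  have hzcomm : ∀ g : R, Commute z g := fun g => Helper3Class2.commute_of_mem_center hzZ g
  have hdecA : ∀ x ∈ A, ∃ k j : ℤ, x = a ^ k * z ^ j := by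
    intro x hx
    have hx' : (QuotientGroup.mk x : R ⧸ N) ∈ A' := hx
    obtain ⟨k, hk⟩ := Subgroup.mem_zpowers_iff.mp (ha' ⟨_, hx'⟩)
    have hk' : (QuotientGroup.mk a : R ⧸ N) ^ k = QuotientGroup.mk x := by
      have := congrArg Subtype.val hk
      rw [Subgroup.coe_zpow, ← ha] at this
      exact this
    have h2 : (a ^ k)⁻¹ * x ∈ N := by
      rw [← QuotientGroup.eq, QuotientGroup.mk_zpow, hk']
    obtain ⟨j, hj⟩ := Subgroup.mem_zpowers_iff.mp h2
    exact ⟨k, j, by rw [hj]; group⟩
  have hAcomm : ∀ x ∈ A, ∀ y ∈ A, x * y = y * x := by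
    intro x hx y hy
    obtain ⟨k, j, rfl⟩ := hdecA x hx
    obtain ⟨l, i, rfl⟩ := hdecA y hy
    have : Commute (a ^ k * z ^ j) (a ^ l * z ^ i) := by
      apply Commute.mul_left
      · exact Commute.mul_right ((Commute.refl a).zpow_zpow k l) ((hzcomm _).symm.zpow_right i)
      · exact ((hzcomm _).zpow_left j)
    exact this
  obtain ⟨b', hb'⟩ := hQc.exists_generator
  obtain ⟨b'', hb''⟩ := QuotientGroup.mk_surjective b'
  obtain ⟨b, hb⟩ := QuotientGroup.mk_surjective b''
  have hgen : ∀ g : R, ∃ c ∈ A, ∃ i : ℤ, g = c * b ^ i := by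
    intro g
    obtain ⟨i, hi⟩ := Subgroup.mem_zpowers_iff.mp
      (hb' (QuotientGroup.mk (QuotientGroup.mk g : R ⧸ N)))
    refine ⟨g * (b ^ i)⁻¹, ?_, i, by group⟩
    rw [hA, Subgroup.mem_comap]
    show (QuotientGroup.mk (g * (b ^ i)⁻¹) : R ⧸ N) ∈ A'
    rw [← QuotientGroup.eq_one_iff, QuotientGroup.mk_mul, QuotientGroup.mk_mul, ← hi,
      QuotientGroup.mk_inv, QuotientGroup.mk_zpow, hb, QuotientGroup.mk_inv,
      QuotientGroup.mk_zpow, hb'']
    group
  have hcomm := commutator_le_range_of_gen A hAn hAcomm b hgen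
  set κ := Helper3TwoMax.kappa A hAn hAcomm b with hκ
  set c : R := κ ⟨a, haA⟩ with hc
  have hrange : κ.range ≤ Subgroup.zpowers c := by
    rintro _ ⟨x, rfl⟩
    obtain ⟨k, j, hx⟩ := hdecA x x.2
    have e : κ x = κ ((⟨a, haA⟩ : A) ^ k) := by
      rw [hκ, Helper3TwoMax.kappa_apply, Helper3TwoMax.kappa_apply, hx, Subgroup.coe_zpow]
      have h1 := ((hzcomm b).zpow_left j).eq
      have h2 := ((hzcomm (a ^ k)⁻¹).zpow_left j).eq
      calc a ^ k * z ^ j * b * (a ^ k * z ^ j)⁻¹ * b⁻¹
          = a ^ k * (z ^ j * b) * (z ^ j)⁻¹ * (a ^ k)⁻¹ * b⁻¹ := by group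
        _ = a ^ k * (b * z ^ j) * (z ^ j)⁻¹ * (a ^ k)⁻¹ * b⁻¹ := by rw [h1]
        _ = _ := by group
    rw [e, map_zpow]
    exact Subgroup.zpow_mem_zpowers _ _
  have hcmem : c ∈ commutator R := by
    have : c = ⁅a, b⁆ := by
      rw [hc, hκ, Helper3TwoMax.kappa_apply, commutatorElement_def]
    rw [this]
    exact Subgroup.commutator_mem_commutator (Subgroup.mem_top a) (Subgroup.mem_top b)
  have hceq : commutator R = Subgroup.zpowers c :=
    le_antisymm (hcomm.trans hrange) (by rw [Subgroup.zpowers_le]; exact hcmem)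
  have hord : Nat.card (commutator R) = orderOf c := by
    rw [hceq, Nat.card_zpowers]
  obtain ⟨e, he⟩ := IsPGroup.iff_orderOf.mp hR c
  have he2 : 2 ≤ e := by
    rw [hord, he] at hcard
    by_contra hlt
    have : e ≤ 1 := by omega
    have := Nat.pow_le_pow_right hp.out.pos this
    rw [pow_one] at this
    omega
  obtain ⟨j, hj⟩ := Subgroup.mem_zpowers_iff.mp (hceq ▸ hzc : z ∈ Subgroup.zpowers c)
  have hpj : (p : ℤ) ∣ j := by
    have h1 : c ^ (j * p) = 1 := by
      rw [zpow_mul, hj, zpow_natCast, hzp]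
    have h2 := orderOf_dvd_iff_zpow_eq_one.mpr h1
    rw [he] at h2
    have h3 : ((p : ℤ) * p) ∣ j * p := by
      refine dvd_trans ?_ h2
      obtain ⟨e', rfl⟩ := Nat.exists_eq_add_of_le he2
      push_cast
      exact ⟨(p : ℤ) ^ e', by ring⟩
    exact Int.dvd_of_mul_dvd_mul_right (by exact_mod_cast hp.out.ne_zero) h3
  obtain ⟨j', rfl⟩ := hpj
  have hcA : c ^ j' ∈ A := by
    have hcA' : c ∈ A := by
      have e : c = a * (b * a⁻¹ * b⁻¹) := by
        rw [hc, hκ, Helper3TwoMax.kappa_apply]; group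
      rw [e]
      exact A.mul_mem haA (hAn.conj_mem _ (A.inv_mem haA) b)
    exact A.zpow_mem hcA' _
  obtain ⟨k, i, hki⟩ := hdecA _ hcA
  have hza : z ∈ Subgroup.zpowers a := by
    have h1 : z = (a ^ k * z ^ i) ^ p := by
      rw [← hki, ← zpow_natCast, ← zpow_mul, mul_comm j' (p : ℤ), hj]
    have h2 : Commute (a ^ k) (z ^ i) := ((hzcomm _).zpow_left i).symm
    rw [h2.mul_pow, ← zpow_natCast (z ^ i), ← zpow_mul, mul_comm i, zpow_mul, zpow_natCast z, hzp,
      one_zpow, mul_one] at h1
    rw [h1]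
    exact Subgroup.pow_mem _ (Subgroup.zpow_mem_zpowers _ _) _
  refine ⟨A, hAn, ?_, ?_⟩
  · refine ⟨⟨⟨a, haA⟩, fun x => ?_⟩⟩
    obtain ⟨k, j, hx⟩ := hdecA x x.2
    obtain ⟨l, hl⟩ := Subgroup.mem_zpowers_iff.mp hza
    refine ⟨k + l * j, Subtype.ext ?_⟩
    show (((⟨a, haA⟩ : A) ^ (k + l * j) : A) : R) = x
    rw [Subgroup.coe_zpow, hx, ← hl, zpow_add, zpow_mul]
  · refine ⟨⟨QuotientGroup.mk b, fun q => ?_⟩⟩
    obtain ⟨g, rfl⟩ := QuotientGroup.mk_surjective q
    obtain ⟨x, hx, i, rfl⟩ := hgen g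
    refine ⟨i, ?_⟩
    show (QuotientGroup.mk b : R ⧸ A) ^ i = _
    rw [QuotientGroup.mk_mul, (QuotientGroup.eq_one_iff x).mpr hx, one_mul, QuotientGroup.mk_zpow]

/-- The case `|R'| ≤ p`. -/
theorem metacyclic_of_small_commutator {p : ℕ} [hp : Fact p.Prime] (hp2 : p ≠ 2)
    {R : Type*} [Group R] [Finite R] (hR : IsPGroup p R)
    (hO : Nat.card (Cfsg.omegaOne p (⊤ : Subgroup R)) ≤ p ^ 2)
    (hc : Nat.card (commutator R) ≤ p) : Cfsg.IsMetacyclic R := by
  -- basic facts on the commutator subgroup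
  have hcard : Nat.card (commutator R) = 1 ∨ Nat.card (commutator R) = p := by
    obtain ⟨k, hk⟩ := IsPGroup.iff_card.mp (hR.to_subgroup (commutator R))
    rw [hk] at hc ⊢
    have hk1 : k ≤ 1 := by
      by_contra hlt
      have h2 : 2 ≤ k := by omega
      have h3 := Nat.pow_le_pow_right hp.out.pos h2
      have h4 : p < p ^ 2 := by
        have := hp.out.one_lt
        nlinarith
      omega
    interval_cases k
    · left; simp
    · right; simp
  have hcen : commutator R ≤ Subgroup.center R := by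
    rcases hcard with h | h
    · rw [Subgroup.card_eq_one.mp h]; exact bot_le
    · exact Helper3OmegaQuot.central_of_card_prime hR _ h
  have hexp : ∀ x ∈ commutator R, x ^ p = 1 := by
    intro x hx
    have h1 : (⟨x, hx⟩ : commutator R) ^ Nat.card (commutator R) = 1 := pow_card_eq_one'
    rcases hcard with h | h
    · rw [h, pow_one] at h1
      have : x = 1 := congrArg Subtype.val h1
      rw [this, one_pow]
    · rw [h] at h1
      exact congrArg Subtype.val h1
  have hcyc : ∃ c : R, commutator R = Subgroup.zpowers c := by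
    haveI : IsCyclic (commutator R) := by
      rcases hcard with h | h
      · haveI : Subsingleton (commutator R) := (Nat.card_eq_one_iff_unique.mp h).1
        exact isCyclic_of_subsingleton
      · exact isCyclic_of_prime_card h
    obtain ⟨g, hg⟩ := IsCyclic.exists_generator (α := commutator R)
    refine ⟨g, le_antisymm ?_ (by rw [Subgroup.zpowers_le]; exact g.2)⟩
    intro x hx
    obtain ⟨k, hk⟩ := Subgroup.mem_zpowers_iff.mp (hg ⟨x, hx⟩)
    rw [Subgroup.mem_zpowers_iff]
    exact ⟨k, by have := congrArg Subtype.val hk; rwa [Subgroup.coe_zpow] at this⟩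
  have hmem : ∀ a b : R, ⁅a, b⁆ ∈ commutator R := fun a b =>
    Subgroup.commutator_mem_commutator (Subgroup.mem_top a) (Subgroup.mem_top b)
  have hmul : ∀ x y : R, (x * y) ^ p = x ^ p * y ^ p := fun x y =>
    Helper3Class2.mul_pow_prime_class2 hp.out hp2 x y
      (Helper3Class2.commute_of_mem_center (hcen (hmem y x)) x)
      (Helper3Class2.commute_of_mem_center (hcen (hmem y x)) y) (hexp _ (hmem y x))
  let π : R →* R :=
    { toFun := fun a => a ^ p
      map_one' := one_pow p
      map_mul' := hmul }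
  set P := π.range with hP
  have hPmem : ∀ x : R, x ^ p ∈ P := fun x => ⟨x, rfl⟩
  have hker : Nat.card π.ker ≤ p ^ 2 := by
    refine le_trans (Subgroup.card_le_of_le ?_) hO
    intro a ha
    exact Helper3OmegaQuot.mem_omega (MonoidHom.mem_ker.mp ha)
  have hidx : P.index ≤ p ^ 2 := by
    have e1 : Nat.card π.ker * Nat.card P = Nat.card R := by
      rw [hP, ← Subgroup.index_ker]; exact Subgroup.card_mul_index _
    have e2 : Nat.card P * P.index = Nat.card R := Subgroup.card_mul_index _
    have e3 : P.index = Nat.card π.ker := by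
      have hpos : 0 < Nat.card P := Nat.card_pos
      have : Nat.card P * P.index = Nat.card P * Nat.card π.ker := by rw [e2, ← e1, mul_comm]
      exact Nat.eq_of_mul_eq_mul_left hpos this
    rw [e3]; exact hker
  haveI hPn : P.Normal := by
    constructor
    rintro _ ⟨x, rfl⟩ g
    refine ⟨g * x * g⁻¹, ?_⟩
    show (g * x * g⁻¹) ^ p = g * x ^ p * g⁻¹
    rw [conj_pow]
  have hcP : commutator R ≤ P := by
    rw [← Subgroup.Normal.quotient_commutative_iff_commutator_le]
    exact ⟨⟨fun a b => Helper3OmegaQuot.comm_of_card_le_sq (hR.to_quotient P) hidx a b⟩⟩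
  obtain ⟨c, hceq⟩ := hcyc
  let S : Set R := {x | commutator R ≤ Subgroup.zpowers x}
  have hSne : S.Nonempty := by
    have hcP' : c ∈ P := hcP (by rw [hceq]; exact Subgroup.mem_zpowers c)
    obtain ⟨x, hx⟩ := hcP'
    refine ⟨x, ?_⟩
    show commutator R ≤ Subgroup.zpowers x
    rw [hceq, Subgroup.zpowers_le, ← hx]
    exact Subgroup.pow_mem _ (Subgroup.mem_zpowers x) p
  obtain ⟨x, hxS, hxmax⟩ := Set.exists_max_image S orderOf (Set.toFinite S) hSne
  have hxS' : commutator R ≤ Subgroup.zpowers x := hxS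
  haveI hNn : (Subgroup.zpowers x).Normal := Helper3PGroup.normal_of_commutator_le hxS'
  by_cases hxP : x ∈ P
  · -- then `R` is trivial
    obtain ⟨y, hy⟩ := hxP
    have hy' : y ^ p = x := hy
    have hyS : y ∈ S := by
      show commutator R ≤ Subgroup.zpowers y
      refine hxS'.trans ?_
      rw [Subgroup.zpowers_le, ← hy']
      exact Subgroup.pow_mem _ (Subgroup.mem_zpowers y) p
    have h1 := hxmax y hyS
    have hy1 : y = 1 := by
      by_contra hne
      obtain ⟨k, hk⟩ := IsPGroup.iff_orderOf.mp hR y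
      have hk0 : k ≠ 0 := by
        rintro rfl
        rw [pow_zero, orderOf_eq_one_iff] at hk
        exact hne hk
      have hdvd : p ∣ orderOf y := by rw [hk]; exact dvd_pow_self p hk0
      have h2 : orderOf (y ^ p) = orderOf y / p := orderOf_pow_of_dvd hp.out.ne_zero hdvd
      rw [← hy', h2] at h1
      have h3 : orderOf y / p < orderOf y := Nat.div_lt_self (orderOf_pos y) hp.out.one_lt
      omega
    have hx1 : x = 1 := by rw [← hy', hy1, one_pow]
    haveI : Subsingleton R := by
      refine ⟨fun a b => ?_⟩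
      have hall : ∀ w : R, w = 1 := by
        intro w
        have hwS : w ∈ S := by
          show commutator R ≤ Subgroup.zpowers w
          refine hxS'.trans ?_
          rw [hx1, Subgroup.zpowers_one_eq_bot]; exact bot_le
        have := hxmax w hwS
        rw [hx1, orderOf_one] at this
        have h4 : orderOf w = 1 := le_antisymm this (orderOf_pos w)
        exact orderOf_eq_one_iff.mp h4
      rw [hall a, hall b]
    exact ⟨⊥, inferInstance, isCyclic_of_subsingleton, isCyclic_of_subsingleton⟩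
  · set M := Subgroup.zpowers x ⊔ P with hM
    have hPM : P ≤ M := le_sup_right
    have hxM : x ∈ M := (le_sup_left : Subgroup.zpowers x ≤ M) (Subgroup.mem_zpowers x)
    have hMidx : M.index ≤ p := by
      obtain ⟨i, hi⟩ := hR.index M
      obtain ⟨k, hk⟩ := hR.index P
      have h1 := Subgroup.relIndex_mul_index hPM
      have h2 : P.relIndex M ≠ 1 := by
        intro h
        exact hxP (Subgroup.relIndex_eq_one.mp h hxM)
      have hk2 : k ≤ 2 := by
        rw [hk] at hidx
        exact (Nat.pow_le_pow_iff_right hp.out.one_lt).mp hidx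
      have hik : i < k := by
        by_contra hlt
        have hki : k ≤ i := by omega
        rw [hi, hk] at h1
        have h3 : p ^ k ≤ p ^ i := Nat.pow_le_pow_right hp.out.pos hki
        have h4 : 0 < p ^ i := pow_pos hp.out.pos i
        have h5 : P.relIndex M = 1 := by
          have h6 : P.relIndex M * p ^ i ≤ 1 * p ^ i := by rw [h1, one_mul]; exact h3
          have h7 := Nat.le_of_mul_le_mul_right h6 h4
          have h8 : P.relIndex M ≠ 0 := by
            intro h0
            rw [h0, zero_mul] at h1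
            exact (pow_pos hp.out.pos k).ne h1
          omega
        exact h2 h5
      rw [hi]
      calc p ^ i ≤ p ^ 1 := Nat.pow_le_pow_right hp.out.pos (by omega)
        _ = p := pow_one p
    obtain ⟨y, hy⟩ : ∃ y : R, M = ⊤ ∨ y ∉ M := by
      by_cases h : M = ⊤
      · exact ⟨1, Or.inl h⟩
      · obtain ⟨y, -, hy⟩ := SetLike.exists_of_lt (lt_top_iff_ne_top.mpr h)
        exact ⟨y, Or.inr hy⟩
    have htop : Subgroup.closure {x, y} = (⊤ : Subgroup R) := by
      rcases eq_top_or_exists_le_coatom (Subgroup.closure {x, y}) with h | ⟨M', hM', hle⟩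
      · exact h
      · exfalso
        have hxM' : x ∈ M' := hle (Subgroup.subset_closure (by simp))
        have hyM' : y ∈ M' := hle (Subgroup.subset_closure (by simp))
        have hMM' : M ≤ M' := by
          rw [hM, sup_le_iff, Subgroup.zpowers_le]
          refine ⟨hxM', ?_⟩
          rintro _ ⟨w, rfl⟩
          exact Helper3PGroup.pow_mem_coatom hR hM' w
        rcases hy with h | h
        · exact hM'.1 (top_le_iff.mp (h ▸ hMM'))
        · have h1 := Subgroup.relIndex_mul_index hMM'
          rw [Helper3PGroup.coatom_index hR hM'] at h1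
          have h2 : M.relIndex M' = 1 := by
            have h3 : M.relIndex M' * p ≤ 1 * p := by rw [h1, one_mul]; exact hMidx
            have h4 := Nat.le_of_mul_le_mul_right h3 hp.out.pos
            have h5 : M.relIndex M' ≠ 0 := by
              intro h0
              rw [h0, zero_mul] at h1
              exact Subgroup.index_ne_zero_of_finite h1.symm
            omega
          exact h (Subgroup.relIndex_eq_one.mp h2 hyM')
    refine ⟨Subgroup.zpowers x, hNn, inferInstance, ⟨⟨QuotientGroup.mk y, fun q => ?_⟩⟩⟩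
    obtain ⟨g, rfl⟩ := QuotientGroup.mk_surjective q
    have hg : g ∈ Subgroup.closure {x, y} := by rw [htop]; exact Subgroup.mem_top g
    show (QuotientGroup.mk g : R ⧸ Subgroup.zpowers x) ∈ Subgroup.zpowers (QuotientGroup.mk y)
    induction hg using Subgroup.closure_induction with
    | mem w hw =>
      rcases hw with rfl | hw
      · rw [(QuotientGroup.eq_one_iff w).mpr (Subgroup.mem_zpowers w)]
        exact Subgroup.one_mem _
      · rw [Set.mem_singleton_iff] at hw
        rw [hw]; exact Subgroup.mem_zpowers _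
    | one => exact Subgroup.one_mem _
    | mul a b _ _ ha hb => rw [QuotientGroup.mk_mul]; exact Subgroup.mul_mem _ ha hb
    | inv a _ ha => rw [QuotientGroup.mk_inv]; exact Subgroup.inv_mem _ ha

/-- Huppert's criterion (B-G 4.8(a)). -/
theorem main {p : ℕ} [hp : Fact p.Prime] (hp3 : 3 < p) (m : ℕ) :
    ∀ (R : Type u) [Group R] [Finite R], Nat.card R ≤ m → IsPGroup p R →
    Nat.card (Cfsg.omegaOne p (⊤ : Subgroup R)) ≤ p ^ 2 → Cfsg.IsMetacyclic R := by
  induction m with
  | zero =>
    intro R _ _ hc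
    have := Nat.card_pos (α := R)
    omega
  | succ m ih =>
    intro R _ _ hcard hR hO
    by_cases hc : Nat.card (commutator R) ≤ p
    · exact metacyclic_of_small_commutator (by omega) hR hO hc
    · have hne : commutator R ≠ ⊥ := by
        intro h
        rw [h, Subgroup.card_bot] at hc
        exact hc hp.out.one_lt.le
      obtain ⟨z, hzc, hzZ, hz1, hzp⟩ := Helper3PGroup.exists_central_order_p hR (commutator R) hne
      haveI hn : (Subgroup.zpowers z).Normal :=
        Helper3RankTwo.normal_of_le_center (by rw [Subgroup.zpowers_le]; exact hzZ)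
      apply lift_metacyclic hR z hzZ hzc hzp (by omega)
      apply ih
      · have h1 := Subgroup.card_eq_card_quotient_mul_card_subgroup (Subgroup.zpowers z)
        have h2 : 1 < Nat.card (Subgroup.zpowers z) := by
          rw [Helper3RankTwo.card_zpowers_of_order_p hp.out hz1 hzp]
          exact hp.out.one_lt
        have h3 : 0 < Nat.card (R ⧸ Subgroup.zpowers z) := Nat.card_pos
        nlinarith
      · exact hR.to_quotient _
      · exact Helper3OmegaQuot.main hp3 (Nat.card R) R le_rfl hR hO _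

end Cfsg.Agent.Lib.Helper3Metacyclic
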