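import Mathlib
import Cfsg.Prelude.Def_OddOrderLocal
import Cfsg.Agent.Lib.Helper3NarrowAut
import Cfsg.Agent.Lib.Helper3OmegaRank
import Cfsg.Agent.Lib.Helper3OmegaQuot
import Cfsg.Agent.Lib.Helper3Metacyclic
import Cfsg.Agent.Lib.Helper3RankTwo
import Cfsg.Agent.Lib.Helper3Chain

set_option autoImplicit false

/-! A `p`-group of rank at most 2 with an automorphism of prime order not dividing `p (p - 1)`. -/

namespace Cfsg.Agent.Lib.Helper3NarrowCube

universe u

open scoped commutatorElement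
open Cfsg Helper3NarrowAut

theorem card_commutator_lt {R : Type*} [Group R] [Finite R] [Group.IsNilpotent R] (M : Subgroup R)
    [M.Normal] (hM : M ≠ ⊥) :
    Nat.card (⁅M, (⊤ : Subgroup R)⁆ : Subgroup R) < Nat.card M := by
  have hNM : ⁅M, (⊤ : Subgroup R)⁆ ≤ M := Subgroup.commutator_le_left M ⊤
  rcases lt_or_eq_of_le (Subgroup.card_le_of_le hNM) with h | h
  · exact h
  · exact absurd (eq_bot_of_commutator_eq M (Subgroup.eq_of_le_of_card_ge hNM h.ge)) hM

theorem isCyclic_of_le {R : Type*} [Group R] {Y N : Subgroup R} (h : Y ≤ N) [IsCyclic N] :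
    IsCyclic Y := by
  have : IsCyclic (Y.subgroupOf N) := inferInstance
  exact isCyclic_of_surjective (Subgroup.subgroupOfEquivOfLe h) (MulEquiv.surjective _)

theorem card_eq_cube {R : Type u} [Group R] [Finite R] {p : ℕ} [hp : Fact p.Prime] (hp3 : 3 < p)
    (hR : IsPGroup p R) (hrk : PRankLE p 2 R) (α : MulAut R) {q : ℕ} (hq : q.Prime)
    (hα : orderOf α = q) (hqp : q ≠ p) (hq1 : ¬ q ∣ p - 1)
    (hgen : ∀ N : Subgroup R, (∀ x, x⁻¹ * α x ∈ N) → N = ⊤)
    (hnc : ∃ x y : R, x * y ≠ y * x) : Nat.card R = p ^ 3 := by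
  have hpp := hp.out
  have hp2 : p ≠ 2 := by omega
  have hcop : (orderOf α).Coprime p := by
    rw [hα]; exact (Nat.coprime_primes hq hpp).mpr hqp
  have hα1 : α ≠ 1 := by
    rintro rfl
    rw [orderOf_one] at hα
    exact hq.one_lt.ne hα
  haveI : Group.IsNilpotent R := hR.isNilpotent
  have hrk' : ∀ E : Subgroup R, IsElementaryAbelian p E → Nat.card E ≤ p ^ 2 :=
    fun E hE => hrk E hE.1 hE.2
  have hsec : ∀ (M N : Subgroup R) [M.Characteristic] [N.Characteristic], N ≤ M →
      Nat.card M ≤ p * Nat.card N → ∀ x ∈ M, x⁻¹ * α x ∈ N := by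
    have hc1 : (p - 1).Coprime q := by
      rw [Nat.coprime_comm]; exact (Nat.Prime.coprime_iff_not_dvd hq).mpr hq1
    obtain ⟨m, -, hm⟩ := Nat.exists_mul_mod_eq_one_of_coprime hc1 hq.one_lt
    have h1 : (α ^ m) ^ (p - 1) = α := by
      rw [← pow_mul, mul_comm, ← pow_mod_orderOf, hα, hm, pow_one]
    intro M N _ _ h2 h3 x hx
    have h4 := sec_pow hR M N h2 h3 (α ^ m) hx
    rwa [h1] at h4
  have htriv : ∀ (M N : Subgroup R) [M.Characteristic] [N.Characteristic], N ≤ M →
      Nat.card M ≤ p * Nat.card N → (∀ n ∈ N, α n = n) → ∀ x ∈ M, α x = x :=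
    fun M N _ _ h1 h2 h3 => stab hR α hcop M N (hsec M N h1 h2) h3
  let Ω : Subgroup R :=
    { carrier := {x | x ^ p = 1}
      mul_mem' := fun {a b} ha hb => Helper3OmegaRank.main hp3 _ R le_rfl hR hrk' a b ha hb
      one_mem' := one_pow p
      inv_mem' := by
        intro x hx
        show x⁻¹ ^ p = 1
        rw [inv_pow, (hx : x ^ p = 1), inv_one] }
  have hΩmem : ∀ x, x ∈ Ω ↔ x ^ p = 1 := fun x => Iff.rfl
  haveI hΩchar : Ω.Characteristic := by
    rw [Subgroup.characteristic_iff_le_comap]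
    intro φ x hx
    show (φ x) ^ p = 1
    rw [← map_pow, (hx : x ^ p = 1), map_one]
  have hA : ¬ ∀ x ∈ Ω, α x = x := by
    intro h
    obtain ⟨D, _, hDexp, x0, hx0D, hx0⟩ := Helper3AutRank.exists_exp_p hp2 hR α hcop hα1
    exact hx0 (h x0 (hDexp x0 hx0D))
  have hbot : ∀ n ∈ (⊥ : Subgroup R), α n = n := by
    intro n hn
    rw [Subgroup.mem_bot.mp hn, map_one]
  have hΩ3 : Nat.card Ω ≤ p ^ 3 :=
    Helper3OmegaRank.card_le_of_exponent_rank (Y := Ω) (fun g => Subtype.ext g.2)
      (Helper3OmegaRank.rank_subgroup Ω hrk')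
  obtain ⟨e, he⟩ := (hR.to_subgroup Ω).exists_card_eq
  have he3 : e ≤ 3 := by
    rw [he] at hΩ3
    exact (Nat.pow_le_pow_iff_right hpp.one_lt).mp hΩ3
  by_cases hcase : e ≤ 2
  · exfalso
    have hO : Nat.card (omegaOne p (⊤ : Subgroup R)) ≤ p ^ 2 := by
      have h1 : omegaOne p (⊤ : Subgroup R) ≤ Ω := by
        unfold omegaOne
        rw [Subgroup.closure_le]
        exact fun x hx => hx.2
      refine (Subgroup.card_le_of_le h1).trans ?_
      rw [he]
      exact Nat.pow_le_pow_right hpp.pos hcase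
    obtain ⟨N, hNn, hNc, hQc⟩ := Helper3Metacyclic.main hp3 _ R le_rfl hR hO
    have hcomN : commutator R ≤ N := by
      have h1 := Helper3AutOdd.commutator_le_ker_of_comm (QuotientGroup.mk' N)
        (fun a b => (IsCyclic.commGroup (α := R ⧸ N)).mul_comm a b)
      rwa [QuotientGroup.ker_mk'] at h1
    set Y : Subgroup R := Ω ⊓ commutator R with hY
    haveI : (commutator R).Characteristic := by
      rw [commutator_def]; infer_instance
    haveI hYchar : Y.Characteristic := inferInstance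
    have hY1 : Nat.card Y ≤ p := by
      haveI : IsCyclic Y := isCyclic_of_le (inf_le_right.trans hcomN)
      apply Nat.le_of_dvd hpp.pos
      apply Helper3MetaOmega.card_dvd_of_cyclic_exp
      intro k
      exact Subtype.ext k.2.1
    have hY2 : p ≤ Nat.card Y := by
      obtain ⟨x, y, hxy⟩ := hnc
      have hb : ⁅x, y⁆ ≠ 1 := by
        intro h
        exact hxy (commutatorElement_eq_one_iff_mul_comm.mp h)
      obtain ⟨k, hk1, hk2⟩ := Helper3PGroup.exists_pow_order_p hR hb
      have hmem : ⁅x, y⁆ ^ k ∈ Y :=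
        ⟨hk2, Subgroup.pow_mem _ (Subgroup.commutator_mem_commutator (Subgroup.mem_top x)
          (Subgroup.mem_top y)) k⟩
      obtain ⟨j, hj⟩ := (hR.to_subgroup Y).exists_card_eq
      rw [hj]
      rcases Nat.eq_zero_or_pos j with h0 | h0
      · rw [h0, pow_zero] at hj
        have := Subgroup.card_eq_one.mp hj
        rw [this] at hmem
        exact absurd (Subgroup.mem_bot.mp hmem) hk1
      · calc p = p ^ 1 := (pow_one p).symm
          _ ≤ p ^ j := Nat.pow_le_pow_right hpp.pos h0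
    have hT1 := htriv Y ⊥ bot_le (by rw [Subgroup.card_bot, mul_one]; exact hY1) hbot
    apply hA
    apply htriv Ω Y inf_le_left _ hT1
    rw [he]
    calc p ^ e ≤ p ^ 2 := Nat.pow_le_pow_right hpp.pos hcase
      _ = p * p := sq p
      _ ≤ p * Nat.card Y := Nat.mul_le_mul_left _ hY2
  have he' : e = 3 := by omega
  rw [he'] at he
  have hlt23 : p ^ 2 < p ^ 3 := Nat.pow_lt_pow_right hpp.one_lt (by norm_num)
  set C : Subgroup R := Subgroup.centralizer (Ω : Set R) with hC
  haveI hCchar : C.Characteristic := inferInstance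
  -- subgroups of `Z(Ω)` have order at most `p`
  have RK : ∀ Y : Subgroup R, Y ≤ Ω ⊓ C → Nat.card Y ≤ p := by
    intro Y hY
    have hYe : IsElementaryAbelian p Y := by
      refine ⟨⟨⟨fun a b => Subtype.ext ?_⟩⟩, fun a ha => (hY ha).1⟩
      exact (Subgroup.mem_centralizer_iff.mp (hY b.2).2 a (hY a.2).1)
    have hY2 := hrk' Y hYe
    obtain ⟨x, hxΩ, hxY⟩ : ∃ x ∈ Ω, x ∉ Y := by
      by_contra hcon
      push Not at hcon
      have := Subgroup.card_le_of_le (show Ω ≤ Y from hcon)
      omega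
    have hB := hrk' _ (Helper3Narrow.elemAb_sup hYe (Helper3Narrow.elemAb_zpowers hxΩ) (by
      intro y hy b hb
      obtain ⟨i, rfl⟩ := Subgroup.mem_zpowers_iff.mp hb
      exact (Subgroup.mem_centralizer_iff.mp (hY hy).2 _ (Ω.zpow_mem hxΩ i)).symm))
    have hlt : Nat.card Y < Nat.card (Y ⊔ Subgroup.zpowers x : Subgroup R) := by
      rcases lt_or_eq_of_le (Subgroup.card_le_of_le (le_sup_left : Y ≤ Y ⊔ Subgroup.zpowers x))
        with h | h
      · exact h
      · have h1 := Subgroup.eq_of_le_of_card_ge (le_sup_left : Y ≤ Y ⊔ Subgroup.zpowers x) h.ge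
        exfalso
        apply hxY
        rw [h1]
        exact (le_sup_right : Subgroup.zpowers x ≤ Y ⊔ Subgroup.zpowers x)
          (Subgroup.mem_zpowers x)
    obtain ⟨j, hj⟩ := (hR.to_subgroup Y).exists_card_eq
    have hj2 : j < 2 := by
      have : p ^ j < p ^ 2 := by rw [← hj]; omega
      exact (Nat.pow_lt_pow_iff_right hpp.one_lt).mp this
    rw [hj]
    calc p ^ j ≤ p ^ 1 := Nat.pow_le_pow_right hpp.pos (by omega)
      _ = p := pow_one p
  have hΩne : Ω ≠ ⊥ := by
    intro h
    rw [h, Subgroup.card_bot] at he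
    have := Nat.one_lt_pow (n := 3) (by norm_num) hpp.one_lt
    omega
  set N1 : Subgroup R := ⁅Ω, (⊤ : Subgroup R)⁆ with hN1
  have hN1Ω : N1 ≤ Ω := Subgroup.commutator_le_left Ω ⊤
  have hN1card : Nat.card N1 ≤ p := by
    set N2 : Subgroup R := ⁅N1, (⊤ : Subgroup R)⁆ with hN2
    by_cases hN2b : N2 = ⊥
    · apply RK
      refine le_inf hN1Ω ?_
      have h1 := Subgroup.commutator_eq_bot_iff_le_centralizer.mp hN2b
      exact h1.trans (Subgroup.centralizer_le (Set.subset_univ _))
    · exfalso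
      set N3 : Subgroup R := ⁅N2, (⊤ : Subgroup R)⁆ with hN3
      have hN1b : N1 ≠ ⊥ := by
        intro h
        apply hN2b
        rw [hN2, h]
        exact Subgroup.commutator_bot_left _
      have l1 := card_commutator_lt Ω hΩne
      have l2 := card_commutator_lt N1 hN1b
      have l3 := card_commutator_lt N2 hN2b
      obtain ⟨a, ha⟩ := (hR.to_subgroup N1).exists_card_eq
      obtain ⟨b, hb⟩ := (hR.to_subgroup N2).exists_card_eq
      obtain ⟨c, hc⟩ := (hR.to_subgroup N3).exists_card_eq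
      rw [← hN1, ha, he] at l1
      rw [← hN2, hb, ha] at l2
      rw [← hN3, hc, hb] at l3
      have m1 := (Nat.pow_lt_pow_iff_right hpp.one_lt).mp l1
      have m2 := (Nat.pow_lt_pow_iff_right hpp.one_lt).mp l2
      have m3 := (Nat.pow_lt_pow_iff_right hpp.one_lt).mp l3
      obtain rfl : a = 2 := by omega
      obtain rfl : b = 1 := by omega
      obtain rfl : c = 0 := by omega
      have t3 := htriv N3 ⊥ bot_le (by
        rw [Subgroup.card_bot, hc, pow_zero, mul_one]; exact hpp.one_lt.le) hbot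
      have t2 := htriv N2 N3 (Subgroup.commutator_le_left N2 ⊤) (by
        rw [hb, hc, pow_zero, pow_one, mul_one]) t3
      have t1 := htriv N1 N2 (Subgroup.commutator_le_left N1 ⊤) (by
        rw [ha, hb, pow_one, sq]) t2
      exact hA (htriv Ω N1 hN1Ω (by rw [he, ha]; ring_nf; rfl) t1)
  -- a noncommuting pair in `Ω`
  obtain ⟨x, hx, y, hy, hxy⟩ : ∃ x ∈ Ω, ∃ y ∈ Ω, x * y ≠ y * x := by
    by_contra hcon
    push Not at hcon
    have := hrk' Ω ⟨⟨⟨fun a b => Subtype.ext (hcon a a.2 b b.2)⟩⟩, fun a ha => ha⟩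
    omega
  have hH : Subgroup.closure ({x, y} : Set R) = Ω := by
    have hle : Subgroup.closure ({x, y} : Set R) ≤ Ω := by
      rw [Subgroup.closure_le]
      rintro g (rfl | rfl)
      · exact hx
      · exact hy
    apply Subgroup.eq_of_le_of_card_ge hle
    obtain ⟨j, hj⟩ := (hR.to_subgroup (Subgroup.closure ({x, y} : Set R))).exists_card_eq
    rw [he, hj]
    apply Nat.pow_le_pow_right hpp.pos
    by_contra hj3
    apply hxy
    have h1 := Helper3OmegaQuot.comm_of_card_le_sq
      (hR.to_subgroup (Subgroup.closure ({x, y} : Set R)))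
      (by rw [hj]; exact Nat.pow_le_pow_right hpp.pos (by omega))
      ⟨x, Subgroup.subset_closure (by simp)⟩ ⟨y, Subgroup.subset_closure (by simp)⟩
    exact congrArg Subtype.val h1
  have hCle : Subgroup.centralizer ({x} : Set R) ⊓ Subgroup.centralizer ({y} : Set R) ≤ C := by
    intro g hg
    have h1 : Subgroup.closure ({x, y} : Set R) ≤ Subgroup.centralizer ({g} : Set R) := by
      rw [Subgroup.closure_le]
      rintro z (rfl | rfl)
      · show z ∈ Subgroup.centralizer ({g} : Set R)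
        rw [Subgroup.mem_centralizer_singleton_iff]
        exact (Subgroup.mem_centralizer_singleton_iff.mp hg.1).symm
      · show z ∈ Subgroup.centralizer ({g} : Set R)
        rw [Subgroup.mem_centralizer_singleton_iff]
        exact (Subgroup.mem_centralizer_singleton_iff.mp hg.2).symm
    rw [hH] at h1
    rw [hC, Subgroup.mem_centralizer_iff]
    intro w hw
    exact (Subgroup.mem_centralizer_singleton_iff.mp (h1 hw))
  have hidx : ∀ w ∈ Ω, (Subgroup.centralizer ({w} : Set R)).index ≤ p := by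
    intro w hw
    refine (Helper3Chain.index_centralizer_le w N1 ?_).trans hN1card
    intro g
    rw [← commutatorElement_inv]
    exact N1.inv_mem (Subgroup.commutator_mem_commutator hw (Subgroup.mem_top g))
  have hCidx : C.index ≤ p ^ 2 := by
    refine (Nat.le_of_dvd ?_ (Subgroup.index_dvd_of_le hCle)).trans
      (Subgroup.index_inf_le.trans ?_)
    · exact Nat.pos_of_ne_zero Subgroup.index_ne_zero_of_finite
    · rw [sq]
      exact Nat.mul_le_mul (hidx x hx) (hidx y hy)
  have htop : Ω ⊔ C = ⊤ := by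
    rw [← Subgroup.index_eq_one]
    have h1 := Subgroup.relIndex_mul_index (le_sup_right : C ≤ Ω ⊔ C)
    rw [Subgroup.relIndex_sup_right, ← Subgroup.inf_relIndex_left] at h1
    have h2 := Helper60Core.card_mul_relIndex (inf_le_left : Ω ⊓ C ≤ Ω)
    rw [he] at h2
    have h3 := RK (Ω ⊓ C) le_rfl
    have h4 : p ^ 2 ≤ (Ω ⊓ C).relIndex Ω := by
      by_contra hcon
      push Not at hcon
      have : Nat.card (Ω ⊓ C : Subgroup R) * (Ω ⊓ C).relIndex Ω < p * p ^ 2 := by
        calc Nat.card (Ω ⊓ C : Subgroup R) * (Ω ⊓ C).relIndex Ω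
            ≤ p * (Ω ⊓ C).relIndex Ω := Nat.mul_le_mul_right _ h3
          _ < p * p ^ 2 := Nat.mul_lt_mul_of_pos_left hcon hpp.pos
      rw [h2] at this
      have h5 : p * p ^ 2 = p ^ 3 := by ring
      omega
    have h5 : 0 < (Ω ⊔ C).index := Nat.pos_of_ne_zero Subgroup.index_ne_zero_of_finite
    by_contra hne
    have h6 : 2 ≤ (Ω ⊔ C).index := by omega
    have h7 : p ^ 2 * 2 ≤ (Ω ⊓ C).relIndex Ω * (Ω ⊔ C).index := Nat.mul_le_mul h4 h6
    have h8 : 0 < p ^ 2 := pow_pos hpp.pos 2
    omega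
  have hCcyc : IsCyclic C := by
    by_contra hcon
    obtain ⟨A0, -, hA0e, hA0c⟩ :=
      Helper3RankTwo.main hp2 _ C le_rfl (hR.to_subgroup C) hcon
    have h1 : A0.map C.subtype ≤ Ω ⊓ C := by
      rintro _ ⟨a, ha, rfl⟩
      exact ⟨congrArg Subtype.val (hA0e.2 a ha), a.2⟩
    have h2 := RK _ h1
    rw [Subgroup.card_map_of_injective C.subtype_injective, hA0c] at h2
    have : p < p ^ 2 := by nlinarith [hpp.one_lt]
    omega
  have hαC : ∀ c ∈ C, α c = c := by
    have h1 : Helper3AutOdd.resChar C α = 1 := by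
      have h2 : (Helper3AutOdd.resChar C α) ^ q = 1 := by
        rw [← map_pow, ← hα, pow_orderOf_eq_one, map_one]
      have h3 : (Helper3AutOdd.resChar C α) ^ Nat.card (MulAut C) = 1 := pow_card_eq_one'
      apply Helper3AutOdd.eq_one_of_pow_coprime h2 h3
      rw [IsCyclic.card_mulAut]
      obtain ⟨k, hk⟩ := (hR.to_subgroup C).exists_card_eq
      rw [hk]
      rcases Nat.eq_zero_or_pos k with h0 | h0
      · rw [h0, pow_zero, Nat.totient_one]; exact Nat.coprime_one_right q
      · rw [Nat.totient_prime_pow hpp h0]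
        exact Nat.Coprime.mul_right (Nat.Coprime.pow_right _ ((Nat.coprime_primes hq hpp).mpr hqp))
          ((Nat.Prime.coprime_iff_not_dvd hq).mpr hq1)
    intro c hc
    have h2 := congrArg (fun f : MulAut C => ((f ⟨c, hc⟩ : C) : R)) h1
    exact h2
  have hfinal : Ω = ⊤ := by
    apply hgen
    intro g
    have hg : g ∈ Ω ⊔ C := by rw [htop]; exact Subgroup.mem_top g
    obtain ⟨w, hw, c, hc, rfl⟩ := Subgroup.mem_sup_of_normal_left.mp hg
    have h1 : (w * c)⁻¹ * α (w * c) = c⁻¹ * (w⁻¹ * α w) * c⁻¹⁻¹ := by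
      rw [map_mul, hαC c hc]; group
    rw [h1]
    apply (inferInstance : Ω.Normal).conj_mem
    exact Ω.mul_mem (Ω.inv_mem hw) (Helper3AutOdd.char_mem hΩchar α hw)
  rw [← he, hfinal, Subgroup.card_top]

end Cfsg.Agent.Lib.Helper3NarrowCube
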