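import Mathlib
import Cfsg.Prelude.Def_OddOrderLocal
import Cfsg.Agent.Lib.Helper3MetaCop
import Cfsg.Agent.Lib.Helper3NarrowCube
import Cfsg.Agent.Lib.Helper3ExtraInner
import Cfsg.Agent.Lib.Helper89PCube
import Cfsg.Agent.Lib.Helper3Alperin

set_option autoImplicit false

/-!
# Coprime action of odd order on `p`-groups of rank at most 2 (B-G 4.16, Blackburn)
-/

namespace Cfsg.Agent.Lib.Helper3RankCop

open Cfsg.Agent.Lib
open scoped commutatorElement

universe u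

variable {p : ℕ} [hp : Fact p.Prime] {X : Type u} [Group X] [Finite X]

/-- decomposition along a normal subgroup of index `p`. -/
theorem decomp (hX : IsPGroup p X) {H K : Subgroup X} [H.Normal] (hHK : H ≤ K)
    (hcard : Nat.card K ≤ p * Nat.card H) {g : X} (hgK : g ∈ K) (hgH : g ∉ H) :
    ∀ k ∈ K, ∃ i : ℕ, ∃ h ∈ H, k = g ^ i * h := by
  have hL : Subgroup.zpowers g ⊔ H ≤ K := sup_le (by rw [Subgroup.zpowers_le]; exact hgK) hHK
  have hlt : H < Subgroup.zpowers g ⊔ H := by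
    refine lt_of_le_of_ne le_sup_right ?_
    intro h
    apply hgH
    rw [h]
    exact (le_sup_left : Subgroup.zpowers g ≤ _) (Subgroup.mem_zpowers g)
  obtain ⟨a, ha⟩ := (hX.to_subgroup (Subgroup.zpowers g ⊔ H)).exists_card_eq
  obtain ⟨b, hb⟩ := (hX.to_subgroup H).exists_card_eq
  have h1 : Nat.card H < Nat.card (Subgroup.zpowers g ⊔ H : Subgroup X) := by
    by_contra hc
    exact hlt.ne (Subgroup.eq_of_le_of_card_ge hlt.le (not_lt.mp hc))
  have hab : b < a := by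
    rw [ha, hb] at h1
    exact (Nat.pow_lt_pow_iff_right hp.out.one_lt).mp h1
  have h2 : Nat.card K ≤ Nat.card (Subgroup.zpowers g ⊔ H : Subgroup X) := by
    refine hcard.trans ?_
    rw [ha, hb, ← pow_succ']
    exact Nat.pow_le_pow_right hp.out.pos hab
  have hLK : Subgroup.zpowers g ⊔ H = K := Subgroup.eq_of_le_of_card_ge hL h2
  intro k hk
  rw [← hLK, Subgroup.mem_sup_of_normal_right] at hk
  obtain ⟨y, hy, h, hh, rfl⟩ := hk
  obtain ⟨i, rfl⟩ := mem_powers_iff_mem_zpowers.mpr hy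
  exact ⟨i, h, hh, rfl⟩

omit hp [Finite X] in
theorem char_of_mem_iff (S : Subgroup X) (hS : ∀ x, x ∈ S ↔ x ^ p = 1) : S.Characteristic := by
  rw [Subgroup.characteristic_iff_le_comap]
  intro φ x hx
  rw [Subgroup.mem_comap, hS]
  show (φ x) ^ p = 1
  rw [← map_pow, (hS x).mp hx, map_one]

/-- basic structure in the case `|Ω₁(X)| = p³`. -/
theorem basic (hX : IsPGroup p X) (hp2 : p ≠ 2) (hrk : Cfsg.PRankLE p 2 X) (S : Subgroup X)
    (hS : ∀ x, x ∈ S ↔ x ^ p = 1) (hScard : Nat.card S = p ^ 3) :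
    (∃ a ∈ S, ∃ b ∈ S, a * b ≠ b * a) ∧
    Nat.card (S ⊓ Subgroup.centralizer (S : Set X) : Subgroup X) = p ∧
    (∀ s ∈ S, ∀ t ∈ S, ⁅s, t⁆ ∈ S ⊓ Subgroup.centralizer (S : Set X)) ∧
    IsCyclic (Subgroup.centralizer (S : Set X)) ∧
    ⁅S, S⁆ = S ⊓ Subgroup.centralizer (S : Set X) ∧
    (∀ x, (∀ s ∈ S, ⁅s, x⁆ ∈ S ⊓ Subgroup.centralizer (S : Set X)) →
      x ∈ S ⊔ Subgroup.centralizer (S : Set X)) := by
  have hpp := hp.out
  haveI hSchar : S.Characteristic := char_of_mem_iff S hS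
  have hnc : ∃ a b : S, a * b ≠ b * a := by
    by_contra hcon
    push Not at hcon
    have h1 := hrk S ⟨⟨hcon⟩⟩ (fun a ha => (hS a).mp ha)
    rw [hScard] at h1
    have := Nat.pow_lt_pow_right hpp.one_lt (show 2 < 3 by norm_num)
    omega
  have hES := Helper89PCube.isExtraspecial_of_card_cube hScard hnc
  have hZmap : (Subgroup.center S).map S.subtype = S ⊓ Subgroup.centralizer (S : Set X) := by
    ext x
    constructor
    · rintro ⟨z, hz, rfl⟩
      refine ⟨z.2, ?_⟩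
      show (z : X) ∈ Subgroup.centralizer (S : Set X)
      rw [Subgroup.mem_centralizer_iff]
      intro s hs
      exact congrArg Subtype.val (Subgroup.mem_center_iff.mp hz ⟨s, hs⟩)
    · rintro ⟨hx1, hx2⟩
      refine ⟨⟨x, hx1⟩, ?_, rfl⟩
      show (⟨x, hx1⟩ : S) ∈ Subgroup.center S
      rw [Subgroup.mem_center_iff]
      intro s
      exact Subtype.ext (Subgroup.mem_centralizer_iff.mp hx2 s s.2)
  have hZcard : Nat.card (S ⊓ Subgroup.centralizer (S : Set X) : Subgroup X) = p := by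
    rw [← hZmap, Subgroup.card_map_of_injective S.subtype_injective]
    exact hES.2
  have hcomm : ⁅S, S⁆ = S ⊓ Subgroup.centralizer (S : Set X) := by
    rw [← hZmap, ← hES.1.2.2, Subgroup.map_subtype_commutator]
  have hSS : ∀ s ∈ S, ∀ t ∈ S, ⁅s, t⁆ ∈ S ⊓ Subgroup.centralizer (S : Set X) := by
    intro s hs t ht
    rw [← hcomm]
    exact Subgroup.commutator_mem_commutator hs ht
  refine ⟨?_, hZcard, hSS, ?_, hcomm, ?_⟩
  · obtain ⟨a, b, hab⟩ := hnc
    exact ⟨a, a.2, b, b.2, fun h => hab (Subtype.ext h)⟩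
  · by_contra hC
    obtain ⟨E, -, hE, hEc⟩ := Helper3RankTwo.main hp2 _ (Subgroup.centralizer (S : Set X)) le_rfl
      (hX.to_subgroup _) hC
    have hle : E.map (Subgroup.centralizer (S : Set X)).subtype ≤
        S ⊓ Subgroup.centralizer (S : Set X) := by
      rintro _ ⟨e, he, rfl⟩
      exact ⟨(hS _).mpr (congrArg Subtype.val (hE.2 e he)), e.2⟩
    have h1 := Subgroup.card_le_of_le hle
    rw [Subgroup.card_map_of_injective (Subgroup.subtype_injective _), hEc, hZcard] at h1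
    have : p < p ^ 2 := by nlinarith [hpp.one_lt]
    omega
  · intro x hx
    have hSn : S.Normal := inferInstance
    let β : S →* S :=
      { toFun := fun s => ⟨x * s * x⁻¹, hSn.conj_mem s s.2 x⟩
        map_one' := Subtype.ext (by simp)
        map_mul' := fun a b => Subtype.ext (by simp) }
    obtain ⟨e₀, he₀⟩ := Helper3ExtraInner.inner_of_trivial_mod_center _ S le_rfl hES β (by
      intro e
      have h1 := hx (e⁻¹ : S) (e⁻¹ : S).2
      rw [← hZmap] at h1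
      obtain ⟨z, hz, hz2⟩ := h1
      have : e⁻¹ * β e = z := by
        apply Subtype.ext
        have hz3 : (z : X) = ⁅((e⁻¹ : S) : X), x⁆ := hz2
        rw [hz3]
        simp [β, commutatorElement_def, mul_assoc]
      rw [this]; exact hz)
    have h2 : (e₀ : X)⁻¹ * x ∈ Subgroup.centralizer (S : Set X) := by
      rw [Subgroup.mem_centralizer_iff]
      intro s hs
      have h3 : x * s * x⁻¹ = e₀ * s * (e₀ : X)⁻¹ := congrArg Subtype.val (he₀ ⟨s, hs⟩)
      calc s * ((e₀ : X)⁻¹ * x) = (e₀ : X)⁻¹ * (e₀ * s * (e₀ : X)⁻¹) * x := by group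
        _ = (e₀ : X)⁻¹ * (x * s * x⁻¹) * x := by rw [h3]
        _ = (e₀ : X)⁻¹ * x * s := by group
    have h4 : x = e₀ * ((e₀ : X)⁻¹ * x) := by group
    rw [h4]
    exact mul_mem ((le_sup_left : S ≤ _) e₀.2) ((le_sup_right : _ ≤ S ⊔ _) h2)

/-- a cyclic characteristic subgroup is central if `X = [X, B]`. -/
theorem cyclic_char_central (hX : IsPGroup p X) (C : Subgroup X) [hC : C.Characteristic]
    [IsCyclic C] {B : Type*} [Group B] (ρ : B →* MulAut X)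
    (hfull : ∀ M : Subgroup X, (∀ b x, x⁻¹ * ρ b x ∈ M) → M = ⊤) : C ≤ Subgroup.center X := by
  have h1 := hfull (Subgroup.centralizer (C : Set X)) (by
    intro b x
    obtain ⟨α, hα⟩ : ∃ α, α = ρ b := ⟨_, rfl⟩
    rw [← hα, Subgroup.mem_centralizer_iff]
    intro c hc
    obtain ⟨n, -, hn⟩ := Helper98MetaA.exists_rho hX C x
    have h2 : α x * c * (α x)⁻¹ = x * c * x⁻¹ := by
      have h3 : α⁻¹ c ∈ C := Helper3AutOdd.char_mem hC α⁻¹ hc
      have h4 := hn _ h3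
      have h5 := congrArg α h4
      rw [map_mul, map_mul, map_inv, map_pow] at h5
      have h6 : α (α⁻¹ c) = c := by simp
      rw [h6] at h5
      rw [h5, hn c hc]
    calc c * (x⁻¹ * α x) = x⁻¹ * (x * c * x⁻¹) * α x := by group
      _ = x⁻¹ * (α x * c * (α x)⁻¹) * α x := by rw [h2]
      _ = x⁻¹ * α x * c := by group)
  intro c hc
  rw [Subgroup.mem_center_iff]
  intro g
  have hg : g ∈ Subgroup.centralizer (C : Set X) := by rw [h1]; trivial
  exact (Subgroup.mem_centralizer_iff.mp hg c hc).symm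

theorem sup_eq_top (hX : IsPGroup p X) (hp2 : p ≠ 2) (hrk : Cfsg.PRankLE p 2 X) (S : Subgroup X)
    (hS : ∀ x, x ∈ S ↔ x ^ p = 1) (hScard : Nat.card S = p ^ 3)
    {B : Type*} [Group B] [Finite B] (hBodd : Odd (Nat.card B)) (ρ : B →* MulAut X)
    (hfull : ∀ M : Subgroup X, (∀ b x, x⁻¹ * ρ b x ∈ M) → M = ⊤) :
    S ⊔ Subgroup.centralizer (S : Set X) = ⊤ := by
  have hpp := hp.out
  obtain ⟨hnc, hZcard, hSS, hCcyc, hcomm, hchar⟩ := basic hX hp2 hrk S hS hScard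
  haveI hSchar : S.Characteristic := char_of_mem_iff S hS
  haveI : Group.IsNilpotent X := hX.isNilpotent
  obtain ⟨C, hC⟩ : ∃ C, C = Subgroup.centralizer (S : Set X) := ⟨_, rfl⟩
  rw [← hC] at hZcard hSS hCcyc hcomm hchar ⊢
  haveI hCchar : C.Characteristic := by rw [hC]; infer_instance
  obtain ⟨Z, hZ⟩ : ∃ Z, Z = S ⊓ C := ⟨_, rfl⟩
  rw [← hZ] at hZcard hSS hcomm hchar
  haveI hZchar : Z.Characteristic := by rw [hZ]; infer_instance
  have hCZ : C ≤ Subgroup.center X := cyclic_char_central hX C ρ hfull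
  have hZC : Z ≤ C := by rw [hZ]; exact inf_le_right
  have hZS : Z ≤ S := by rw [hZ]; exact inf_le_left
  have hZc : Z ≤ Subgroup.center X := hZC.trans hCZ
  have hmemC : ∀ x, x ∈ C ↔ ∀ s ∈ S, s * x = x * s := by
    intro x; rw [hC, Subgroup.mem_centralizer_iff]; rfl
  have hmemZ : ∀ x, x ∈ Z ↔ x ∈ S ∧ ∀ s ∈ S, s * x = x * s := by
    intro x; rw [hZ, Subgroup.mem_inf, hmemC]
  by_contra hD
  obtain ⟨S₁, hS₁⟩ : ∃ S₁, S₁ = ⁅S, (⊤ : Subgroup X)⁆ := ⟨_, rfl⟩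
  haveI hS₁char : S₁.Characteristic := by rw [hS₁]; infer_instance
  have hS₁S : S₁ ≤ S := by rw [hS₁]; exact Subgroup.commutator_le_left S ⊤
  have ha : ∀ s ∈ S, ∀ x, ⁅s, x⁆ ∈ S₁ := fun s hs x => by
    rw [hS₁]; exact Subgroup.commutator_mem_commutator hs (Subgroup.mem_top x)
  have hSne : S ≠ ⊥ := by
    intro h
    rw [h, Subgroup.card_bot] at hScard
    have := Nat.one_lt_pow (n := 3) (by norm_num) hpp.one_lt
    omega
  obtain ⟨e, he⟩ := (hX.to_subgroup S₁).exists_card_eq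
  have he2 : e ≤ 2 := by
    have h1 := Helper3NarrowCube.card_commutator_lt S hSne
    rw [← hS₁, he, hScard] at h1
    have := (Nat.pow_lt_pow_iff_right hpp.one_lt).mp h1
    omega
  have hS₁le : Nat.card S₁ ≤ p ^ 2 := by rw [he]; exact Nat.pow_le_pow_right hpp.pos he2
  have hd : ∀ t ∈ S₁, ∀ t' ∈ S₁, t * t' = t' * t := fun t ht t' ht' =>
    congrArg Subtype.val (Helper3OmegaQuot.comm_of_card_le_sq (hX.to_subgroup S₁) hS₁le
      ⟨t, ht⟩ ⟨t', ht'⟩)
  have hN2 : ⁅S₁, (⊤ : Subgroup X)⁆ ≤ Z := by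
    by_cases hb : S₁ = ⊥
    · rw [hb, Subgroup.commutator_bot_left]; exact bot_le
    · have h1 := Helper3NarrowCube.card_commutator_lt S₁ hb
      obtain ⟨f, hf⟩ := (hX.to_subgroup ⁅S₁, (⊤ : Subgroup X)⁆).exists_card_eq
      have hf1 : f ≤ 1 := by
        rw [hf, he] at h1
        have := (Nat.pow_lt_pow_iff_right hpp.one_lt).mp h1
        omega
      have hcen : ⁅S₁, (⊤ : Subgroup X)⁆ ≤ Subgroup.center X := by
        interval_cases f
        · rw [pow_zero] at hf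
          rw [Subgroup.card_eq_one.mp hf]; exact bot_le
        · rw [pow_one] at hf
          exact Helper3OmegaQuot.central_of_card_prime hX _ hf
      intro x hx
      rw [hmemZ]
      refine ⟨hS₁S (Subgroup.commutator_le_left S₁ ⊤ hx), ?_⟩
      intro s _
      exact Subgroup.mem_center_iff.mp (hcen hx) s
  have hc : ∀ t ∈ S₁, ∀ x, ⁅t, x⁆ ∈ Z := fun t ht x =>
    hN2 (Subgroup.commutator_mem_commutator ht (Subgroup.mem_top x))
  obtain ⟨x₁, s₀, hs₀, ht₁⟩ : ∃ x₁, ∃ s₀ ∈ S, ⁅s₀, x₁⁆ ∉ Z := by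
    by_contra hcon
    push Not at hcon
    apply hD
    rw [eq_top_iff]
    intro x _
    exact hchar x (hcon x)
  have hZS₁ : Z ≤ S₁ := by
    rw [← hcomm, hS₁]; exact Subgroup.commutator_mono le_rfl le_top
  have hS₁card : Nat.card S₁ = p ^ 2 := by
    have h1 : Nat.card Z < Nat.card S₁ := by
      by_contra hcon
      have h2 := Subgroup.eq_of_le_of_card_ge hZS₁ (not_lt.mp hcon)
      apply ht₁
      rw [h2]; exact ha s₀ hs₀ x₁
    rw [hZcard, he] at h1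
    have h3 : 1 < e := by
      have : p ^ 1 < p ^ e := by rwa [pow_one]
      exact (Nat.pow_lt_pow_iff_right hpp.one_lt).mp this
    have : e = 2 := by omega
    rw [he, this]
  have hf : ∀ t ∈ S₁, t ∉ Z → ∀ t' ∈ S₁, ∃ i : ℕ, ∃ z ∈ Z, t' = t ^ i * z := fun t ht htZ =>
    decomp hX hZS₁ (by rw [hS₁card, hZcard, sq]) ht htZ
  have hs₀S₁ : s₀ ∉ S₁ := fun h => ht₁ (hc s₀ h x₁)
  have hg : ∀ s ∈ S, ∃ i : ℕ, ∃ t ∈ S₁, s = s₀ ^ i * t :=
    decomp hX hS₁S (by rw [hS₁card, hScard, ← pow_succ']) hs₀ hs₀S₁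
  have hne : ∀ t ∈ S₁, t ∉ Z → ⁅s₀, t⁆ ≠ 1 := by
    intro t ht htZ h1
    apply htZ
    rw [hmemZ]
    refine ⟨hS₁S ht, ?_⟩
    intro s hs
    obtain ⟨i, t', ht', rfl⟩ := hg s hs
    have h2 : Commute s₀ t := commutatorElement_eq_one_iff_mul_comm.mp h1
    have h3 : Commute t' t := hd t' ht' t ht
    exact ((h2.pow_left i).mul_left h3)
  obtain ⟨Q, hQ⟩ : ∃ Q, Q = Subgroup.centralizer (S₁ : Set X) := ⟨_, rfl⟩
  haveI hQchar : Q.Characteristic := by rw [hQ]; infer_instance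
  have hmemQ : ∀ x, x ∈ Q ↔ ∀ t ∈ S₁, t * x = x * t := by
    intro x; rw [hQ, Subgroup.mem_centralizer_iff]; rfl
  have hS₁Q : S₁ ≤ Q := fun t ht => (hmemQ t).mpr (fun t' ht' => hd t' ht' t ht)
  have hCQ : C ≤ Q := fun c hc => (hmemQ c).mpr (fun t _ =>
    Subgroup.mem_center_iff.mp (hCZ hc) t)
  have hcen : ∀ z ∈ Z, ∀ g : X, Commute z g := fun z hz g =>
    Helper3Class2.commute_of_mem_center (hZc hz) g
  -- `X = ⟨s₀⟩ Q`
  have hXQ : ∀ x : X, ∃ i : ℕ, ∃ y ∈ Q, x = s₀ ^ i * y := by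
    intro x
    obtain ⟨t₁, hdef⟩ : ∃ t₁, t₁ = ⁅s₀, x₁⁆ := ⟨_, rfl⟩
    rw [← hdef] at ht₁
    have ht₁S : t₁ ∈ S₁ := by rw [hdef]; exact ha s₀ hs₀ x₁
    have hc' : ∀ y : X, ⁅y, t₁⁆ ∈ Z := by
      intro y
      rw [← commutatorElement_inv]; exact inv_mem (hc t₁ ht₁S y)
    let h : X →* X := MonoidHom.mk' (fun y => ⁅y, t₁⁆) (by
      intro a b
      exact Helper3Narrow.commutator_mul_left_of_central a b t₁ (hZc (hc' b)))
    have hh : ∀ y : X, h y = ⁅y, t₁⁆ := fun y => rfl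
    obtain ⟨i, hi⟩ := Helper3MetaCop.gen_of_prime Z hZcard (hc' s₀) (hne t₁ ht₁S ht₁) _ (hc' x)
    refine ⟨i, (s₀ ^ i)⁻¹ * x, ?_, by group⟩
    have h1 : h ((s₀ ^ i)⁻¹ * x) = 1 := by
      rw [map_mul, map_inv, map_pow, hh, hh, hi]; group
    rw [hh] at h1
    have h2 : Commute ((s₀ ^ i)⁻¹ * x) t₁ := commutatorElement_eq_one_iff_mul_comm.mp h1
    rw [hmemQ]
    intro t ht
    obtain ⟨j, z, hz, rfl⟩ := hf t₁ ht₁S ht₁ t ht
    exact ((h2.pow_right j).mul_right (hcen z hz _).symm).symm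
  obtain ⟨i₁, x₀, hx₀Q, hx₁⟩ := hXQ x₁
  obtain ⟨t₀, ht₀⟩ : ∃ t₀, t₀ = ⁅s₀, x₀⁆ := ⟨_, rfl⟩
  have ht₀S : t₀ ∈ S₁ := by rw [ht₀]; exact ha s₀ hs₀ x₀
  have ht₀Z : t₀ ∉ Z := by
    intro h
    apply ht₁
    have e1 : ⁅s₀, x₁⁆ = s₀ ^ i₁ * t₀ * (s₀ ^ i₁)⁻¹ := by
      rw [hx₁, ht₀, commutatorElement_def, commutatorElement_def]
      have e2 : s₀ * (s₀ ^ i₁ * x₀) = s₀ ^ i₁ * (s₀ * x₀) := by
        rw [← mul_assoc, ← mul_assoc, ← pow_succ', ← pow_succ]
      rw [e2]; group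
    rw [e1, ((hcen t₀ h (s₀ ^ i₁)).symm).eq, mul_assoc, mul_inv_cancel, mul_one]
    exact h
  obtain ⟨z₀, hz₀⟩ : ∃ z₀, z₀ = ⁅s₀, t₀⁆ := ⟨_, rfl⟩
  have hz₀1 : z₀ ≠ 1 := by rw [hz₀]; exact hne t₀ ht₀S ht₀Z
  have hz₀Z : z₀ ∈ Z := by rw [hz₀]; exact hSS s₀ hs₀ t₀ (hS₁S ht₀S)
  -- the homomorphism `θ`
  let θ : Q →* X := MonoidHom.mk' (fun y => ⁅s₀, (y : X)⁆) (by
    intro a b
    have e1 : ⁅s₀, ((a * b : Q) : X)⁆ = ⁅s₀, (a : X)⁆ * ((a : X) * ⁅s₀, (b : X)⁆ * (a : X)⁻¹) := by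
      simp only [commutatorElement_def, Subgroup.coe_mul]; group
    rw [e1]
    have e2 := (hmemQ a).mp a.2 _ (ha s₀ hs₀ (b : X))
    rw [← e2, mul_assoc, mul_inv_cancel, mul_one])
  have hθ : ∀ y : Q, θ y = ⁅s₀, (y : X)⁆ := fun y => rfl
  have hθker : ∀ y : Q, θ y = 1 → (y : X) ∈ C := by
    intro y hy
    rw [hθ] at hy
    have h2 : Commute s₀ (y : X) := commutatorElement_eq_one_iff_mul_comm.mp hy
    rw [hmemC]
    intro s hs
    obtain ⟨i, t, ht, rfl⟩ := hg s hs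
    exact ((h2.pow_left i).mul_left ((hmemQ y).mp y.2 t ht))
  have hQdec : ∀ y ∈ Q, ∃ i j : ℕ, ∃ c ∈ C, y = x₀ ^ i * t₀ ^ j * c := by
    intro y hy
    obtain ⟨i, z, hz, hiz⟩ := hf t₀ ht₀S ht₀Z _ (ha s₀ hs₀ y)
    obtain ⟨j, hj⟩ := Helper3MetaCop.gen_of_prime Z hZcard hz₀Z hz₀1 z hz
    refine ⟨i, j, (x₀ ^ i * t₀ ^ j)⁻¹ * y, ?_, by group⟩
    have h1 : θ ((⟨x₀, hx₀Q⟩ ^ i * ⟨t₀, hS₁Q ht₀S⟩ ^ j)⁻¹ * ⟨y, hy⟩) = 1 := by
      rw [map_mul, map_inv, map_mul, map_pow, map_pow, hθ, hθ, hθ]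
      show (⁅s₀, x₀⁆ ^ i * ⁅s₀, t₀⁆ ^ j)⁻¹ * ⁅s₀, y⁆ = 1
      rw [hiz, ← ht₀, ← hz₀, hj]; group
    exact hθker _ h1
  have hQab : ∀ y ∈ Q, ∀ y' ∈ Q, Commute y y' := by
    intro y hy y' hy'
    obtain ⟨i, j, c, hc1, rfl⟩ := hQdec y hy
    obtain ⟨i', j', c', hc1', rfl⟩ := hQdec y' hy'
    have k1 : Commute x₀ t₀ := ((hmemQ x₀).mp hx₀Q t₀ ht₀S).symm
    have k2 : ∀ g : X, Commute c g := Helper3Class2.commute_of_mem_center (hCZ hc1)
    have k3 : ∀ g : X, Commute c' g := Helper3Class2.commute_of_mem_center (hCZ hc1')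
    have k4 : Commute (x₀ ^ i * t₀ ^ j) (x₀ ^ i' * t₀ ^ j') := by
      apply Commute.mul_left
      · exact Commute.mul_right ((Commute.refl x₀).pow_pow i i') (k1.pow_pow i j')
      · exact Commute.mul_right (k1.symm.pow_pow j i') ((Commute.refl t₀).pow_pow j j')
    exact Commute.mul_left (Commute.mul_right k4 (k3 _).symm) (k2 _)
  have hQp : ∀ y ∈ Q, y ^ p ∈ C := by
    intro y hy
    have h1 : θ (⟨y, hy⟩ ^ p) = 1 := by
      rw [map_pow, hθ]
      exact (hS _).mp (hS₁S (ha s₀ hs₀ y))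
    exact hθker _ h1
  have hcenbar : ∀ t ∈ S₁, (QuotientGroup.mk' Z t) ∈ Subgroup.center (X ⧸ Z) := by
    intro t ht
    have h1 : t ∈ Helper98MetaC.cen Z := by
      rw [Helper98MetaC.mem_cen_iff]
      intro x
      have := hc t ht x
      rw [← commutatorElement_inv] at this
      have h2 := inv_mem this
      rwa [inv_inv, commutatorElement_def] at h2
    exact h1
  have hz₀ord : orderOf z₀ = p := orderOf_eq_prime ((hS z₀).mp (hZS hz₀Z)) hz₀1
  have hkey : ∀ b x, x⁻¹ * ρ b x ∈ Q := by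
    intro b
    obtain ⟨α, hα⟩ : ∃ α, α = ρ b := ⟨_, rfl⟩
    rw [← hα]
    obtain ⟨n, hn⟩ : ∃ n : ℕ, ∀ c ∈ C, α c = c ^ n := by
      obtain ⟨⟨g, hgC⟩, hgen⟩ := hCcyc.exists_generator
      have h1 : α g ∈ C := Helper3AutOdd.char_mem hCchar α hgC
      obtain ⟨n, hn⟩ := mem_powers_iff_mem_zpowers.mpr (hgen ⟨α g, h1⟩)
      have hn' : g ^ n = α g := congrArg Subtype.val hn
      refine ⟨n, ?_⟩
      intro c hc
      obtain ⟨j, hj⟩ := mem_powers_iff_mem_zpowers.mpr (hgen ⟨c, hc⟩)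
      have hj' : g ^ j = c := congrArg Subtype.val hj
      rw [← hj', map_pow, ← hn', ← pow_mul, ← pow_mul, mul_comm]
    have hαx₀Q : α x₀ ∈ Q := Helper3AutOdd.char_mem hQchar α hx₀Q
    obtain ⟨w, hw⟩ : ∃ w, w = (x₀ ^ n)⁻¹ * α x₀ := ⟨_, rfl⟩
    have hwS : w ∈ S := by
      rw [hS, hw, (hQab _ (inv_mem (pow_mem hx₀Q n)) _ hαx₀Q).mul_pow, inv_pow, ← map_pow,
        hn _ (hQp x₀ hx₀Q), ← pow_mul, ← pow_mul, mul_comm n p]
      group
    have hαx₀ : α x₀ = x₀ ^ n * w := by rw [hw]; group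
    obtain ⟨a, t', ht', hαs₀⟩ := hg (α s₀) (Helper3AutOdd.char_mem hSchar α hs₀)
    -- `α t₀` modulo `Z`
    have hbar : QuotientGroup.mk' Z (α t₀) = QuotientGroup.mk' Z (t₀ ^ (n * a)) := by
      have c1 : ∀ v : X, ⁅QuotientGroup.mk' Z s₀, QuotientGroup.mk' Z v⁆ ∈
          Subgroup.center (X ⧸ Z) := by
        intro v
        rw [← map_commutatorElement]
        exact hcenbar _ (ha s₀ hs₀ v)
      rw [ht₀, map_commutatorElement, hαs₀, hαx₀, map_commutatorElement, map_mul,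
        (Helper3Class2.commute_of_mem_center (hcenbar t' ht') _).symm.eq,
        Helper3Alperin.commutator_central_mul_left (hcenbar t' ht'), map_pow,
        Helper3Class2.commutator_pow_left _ _ (Helper3Class2.commute_of_mem_center (c1 _) _),
        map_mul]
      have c2 : ⁅QuotientGroup.mk' Z s₀, QuotientGroup.mk' Z w⁆ = 1 := by
        rw [← map_commutatorElement]
        exact (QuotientGroup.eq_one_iff _).mpr (hSS s₀ hs₀ w hwS)
      have c3 : ⁅QuotientGroup.mk' Z s₀, QuotientGroup.mk' Z (x₀ ^ n) * QuotientGroup.mk' Z w⁆ =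
          ⁅QuotientGroup.mk' Z s₀, QuotientGroup.mk' Z (x₀ ^ n)⁆ := by
        have e1 : ∀ x a b : X ⧸ Z, ⁅x, a * b⁆ = ⁅x, a⁆ * (a * ⁅x, b⁆ * a⁻¹) := by
          intro x a b
          simp only [commutatorElement_def]; group
        rw [e1, c2]; group
      rw [c3, map_pow, Helper3Class2.commutator_pow_right _ _
        (Helper3Class2.commute_of_mem_center (c1 _) _), ← pow_mul, map_pow, map_commutatorElement]
    obtain ⟨z', hz'⟩ : ∃ z', z' = (t₀ ^ (n * a))⁻¹ * α t₀ := ⟨_, rfl⟩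
    have hz'Z : z' ∈ Z := by
      rw [hz']
      exact QuotientGroup.eq.mp hbar.symm
    have hαt₀ : α t₀ = t₀ ^ (n * a) * z' := by rw [hz']; group
    have h1 : α z₀ = (z₀ ^ (n * a)) ^ a := by
      have hvS : t₀ ^ (n * a) * z' ∈ S₁ := mul_mem (pow_mem ht₀S _) (hZS₁ hz'Z)
      have c1 : ⁅t', t₀ ^ (n * a) * z'⁆ = 1 :=
        commutatorElement_eq_one_iff_mul_comm.mpr (hd t' ht' _ hvS)
      have c2 : ⁅s₀, t₀ ^ (n * a) * z'⁆ = ⁅s₀, t₀⁆ ^ (n * a) := by
        rw [(hcen z' hz'Z _).symm.eq, Helper3Alperin.commutator_central_mul_right (hZc hz'Z),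
          Helper3Class2.commutator_pow_right _ _ (hcen _ (hSS s₀ hs₀ t₀ (hS₁S ht₀S)) _)]
      rw [hz₀, map_commutatorElement, hαs₀, hαt₀,
        Helper3Narrow.commutator_mul_left_of_central _ _ _ (by rw [c1]; exact one_mem _), c1,
        mul_one, Helper3Class2.commutator_pow_left _ _
          (hcen _ (hSS s₀ hs₀ _ (hS₁S hvS)) _), c2]
    have h2 : α z₀ = z₀ ^ n := hn z₀ (hZC hz₀Z)
    have hnp : ¬ p ∣ n := by
      intro hd'
      obtain ⟨k, rfl⟩ := hd'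
      rw [pow_mul, (hS z₀).mp (hZS hz₀Z), one_pow] at h2
      exact hz₀1 (by simpa using h2)
    have h3 : n * (a * a) ≡ n * 1 [MOD p] := by
      rw [← hz₀ord]
      apply pow_eq_pow_iff_modEq.mp
      rw [mul_one, ← h2, h1, ← pow_mul, mul_assoc]
    have h4 : a * a ≡ 1 [MOD p] :=
      Nat.ModEq.cancel_left_of_coprime
        (by rw [Nat.gcd_comm]; exact ((Nat.Prime.coprime_iff_not_dvd hpp).mpr hnp).symm) h3
    -- the action on `X ⧸ Q`
    obtain ⟨β, hβ⟩ : ∃ β, β = Helper3AutOdd.quotChar Q α := ⟨_, rfl⟩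
    have hβs : β (QuotientGroup.mk s₀) = (QuotientGroup.mk s₀ : X ⧸ Q) ^ a := by
      rw [hβ, Helper3AutOdd.quotChar_mk, hαs₀, QuotientGroup.mk_mul,
        (QuotientGroup.eq_one_iff t').mpr (hS₁Q ht'), mul_one, QuotientGroup.mk_pow]
    have hord : orderOf (QuotientGroup.mk s₀ : X ⧸ Q) ∣ p := by
      apply orderOf_dvd_of_pow_eq_one
      rw [← QuotientGroup.mk_pow, (hS s₀).mp hs₀]; rfl
    have hβ2 : β ^ 2 = 1 := by
      ext v
      induction v using QuotientGroup.induction_on with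
      | H x =>
      obtain ⟨i, y, hy, rfl⟩ := hXQ x
      have e1 : (QuotientGroup.mk (s₀ ^ i * y) : X ⧸ Q) = (QuotientGroup.mk s₀ : X ⧸ Q) ^ i := by
        rw [QuotientGroup.mk_mul, (QuotientGroup.eq_one_iff y).mpr hy, mul_one,
          QuotientGroup.mk_pow]
      rw [e1, sq, MulAut.mul_apply, MulAut.one_apply, map_pow, map_pow, hβs, map_pow, hβs]
      have e2 := pow_eq_pow_iff_modEq.mpr (h4.of_dvd hord)
      rw [← pow_mul _ a a, e2, pow_one]
    have hβN : β ^ Nat.card B = 1 := by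
      rw [hβ, hα, ← map_pow, ← map_pow, pow_card_eq_one', map_one, map_one]
    have hβ1 : β = 1 := Helper3AutOdd.eq_one_of_pow_coprime hβ2 hβN (Nat.coprime_two_left.mpr hBodd)
    intro x
    rw [← QuotientGroup.eq, ← Helper3AutOdd.quotChar_mk, ← hβ, hβ1, MulAut.one_apply]
  have hQtop := hfull Q hkey
  apply hz₀1
  rw [hz₀, commutatorElement_eq_one_iff_mul_comm]
  have hs₀Q : s₀ ∈ Q := by rw [hQtop]; trivial
  exact ((hmemQ s₀).mp hs₀Q t₀ ht₀S).symm

/-- B-G 4.16 (Blackburn), abstract form. -/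
theorem abs_main (hX : IsPGroup p X) (hp2 : p ≠ 2) (hrk : Cfsg.PRankLE p 2 X) (hnt : Nontrivial X)
    {B : Type*} [Group B] [Finite B] (hBodd : Odd (Nat.card B)) (hBcop : (Nat.card B).Coprime p)
    (ρ : B →* MulAut X)
    (hfull : ∀ M : Subgroup X, (∀ b x, x⁻¹ * ρ b x ∈ M) → M = ⊤) :
    3 < p ∧ ((∀ x y : X, x * y = y * x) ∨ ∃ S C : Subgroup X, S ⊔ C = ⊤ ∧
      (∀ a ∈ S, ∀ b ∈ C, a * b = b * a) ∧ (∃ a ∈ S, ∃ b ∈ S, a * b ≠ b * a) ∧
      Nat.card S = p ^ 3 ∧ (∀ s ∈ S, s ^ p = 1) ∧ IsCyclic C ∧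
      ∀ x, (x ∈ C ∧ x ^ p = 1) ↔ x ∈ ⁅S, S⁆) := by
  have hpp := hp.out
  have hp3 : 3 < p := by
    by_contra hcon
    have hp3' : p = 3 := by
      have := hpp.two_le
      omega
    have htriv : ∀ b, ρ b = 1 := by
      intro b
      by_contra hne
      have h1 : orderOf (ρ b) ≠ 1 := by rwa [Ne, orderOf_eq_one_iff]
      obtain ⟨q, hq, hqd⟩ := Nat.exists_prime_and_dvd h1
      have h2 : orderOf (ρ b) ∣ Nat.card B :=
        (orderOf_map_dvd ρ b).trans (orderOf_dvd_natCard b)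
      have hqB : q ∣ Nat.card B := hqd.trans h2
      have hqp : q ≠ p := by
        rintro rfl
        have := Nat.Coprime.eq_one_of_dvd hBcop.symm hqB
        exact hpp.one_lt.ne' this
      have h3 := (Helper3AutRank.main hp2 hX hrk q hq hqp
        (hqd.trans (orderOf_dvd_natCard _))).2
      have hq2 : q = 2 := by
        have := hq.two_le
        omega
      rw [hq2] at hqB
      exact (Nat.not_even_iff_odd.mpr hBodd) (even_iff_two_dvd.mpr hqB)
    have h4 := hfull ⊥ (by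
      intro b x
      rw [htriv b]; simp)
    exact bot_ne_top h4
  refine ⟨hp3, ?_⟩
  have hrk' : ∀ E : Subgroup X, Cfsg.IsElementaryAbelian p E → Nat.card E ≤ p ^ 2 :=
    fun E hE => hrk E hE.1 hE.2
  let S : Subgroup X :=
    { carrier := {x | x ^ p = 1}
      mul_mem' := fun {a b} ha hb => Helper3OmegaRank.main hp3 _ X le_rfl hX hrk' a b ha hb
      one_mem' := one_pow p
      inv_mem' := by
        intro x hx
        show x⁻¹ ^ p = 1
        rw [inv_pow, (hx : x ^ p = 1), inv_one] }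
  have hS : ∀ x, x ∈ S ↔ x ^ p = 1 := fun x => Iff.rfl
  have hS3 : Nat.card S ≤ p ^ 3 :=
    Helper3OmegaRank.card_le_of_exponent_rank (Y := S) (fun g => Subtype.ext g.2)
      (Helper3OmegaRank.rank_subgroup S hrk')
  obtain ⟨e, he⟩ := (hX.to_subgroup S).exists_card_eq
  have he3 : e ≤ 3 := by
    rw [he] at hS3
    exact (Nat.pow_le_pow_iff_right hpp.one_lt).mp hS3
  by_cases hcase : e ≤ 2
  · left
    have hO : Nat.card (Cfsg.omegaOne p (⊤ : Subgroup X)) ≤ p ^ 2 := by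
      have h1 : Cfsg.omegaOne p (⊤ : Subgroup X) ≤ S := by
        unfold Cfsg.omegaOne
        rw [Subgroup.closure_le]
        exact fun x hx => hx.2
      refine (Subgroup.card_le_of_le h1).trans ?_
      rw [he]
      exact Nat.pow_le_pow_right hpp.pos hcase
    have hm := Helper3Metacyclic.main hp3 _ X le_rfl hX hO
    by_contra hcon
    push Not at hcon
    obtain ⟨M, hM, hM2⟩ := Helper3MetaCop.key_abs hp2 hX hm hcon hBcop ρ
    exact hM (hfull M hM2)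
  · right
    have he' : e = 3 := by omega
    rw [he'] at he
    obtain ⟨hnc, hZcard, hSS, hCcyc, hcomm, hchar⟩ := basic hX hp2 hrk S hS he
    refine ⟨S, Subgroup.centralizer (S : Set X), sup_eq_top hX hp2 hrk S hS he hBodd ρ hfull,
      ?_, hnc, he, fun s hs => hs, hCcyc, ?_⟩
    · intro a ha b hb
      exact Subgroup.mem_centralizer_iff.mp hb a ha
    · intro x
      rw [hcomm, Subgroup.mem_inf, hS, and_comm]

/-- B-G 4.16 (Blackburn) = S1448. -/
theorem main {G : Type*} [Group G] [Finite G] (p : ℕ) [hp' : Fact p.Prime] (hp : p ≠ 2)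
    (R A : Subgroup G) (hR : IsPGroup p R) (hR1 : R ≠ ⊥) (hr : Cfsg.PRankLE p 2 R)
    (hA : (A ≤ Subgroup.normalizer (R : Set G))) (hcop : (Nat.card A).Coprime p)
    (hAodd : Odd (Nat.card A)) (hRA : ⁅R, A⁆ = R) :
    3 < p ∧ (IsMulCommutative R ∨ ∃ R₁ R₂ : Subgroup G, R₁ ⊔ R₂ = R ∧
        (∀ a ∈ R₁, ∀ b ∈ R₂, a * b = b * a) ∧
        ¬ IsMulCommutative R₁ ∧ Nat.card R₁ = p ^ 3 ∧ Monoid.exponent R₁ = p ∧ IsCyclic R₂ ∧
        Subgroup.closure {x : G | x ∈ R₂ ∧ x ^ p = 1} = ⁅R₁, R₁⁆) := by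
  have hpp := hp'.out
  have hnt : Nontrivial R := (Subgroup.nontrivial_iff_ne_bot R).mpr hR1
  obtain ⟨h3, h⟩ := abs_main hR hp hr hnt hAodd hcop (Helper3AutOdd.conjHom R A hA)
    (fun M hM => Helper3MetaCop.eq_top_of_comm R A hA hRA M hM)
  refine ⟨h3, ?_⟩
  rcases h with h | ⟨S, C, hsup, hcomm, ⟨a, ha, b, hb, hab⟩, hcard, hexp, hcyc, hom⟩
  · left
    exact ⟨⟨h⟩⟩
  · right
    have hcard' : Nat.card (S.map R.subtype) = p ^ 3 := by
      rw [Subgroup.card_map_of_injective R.subtype_injective, hcard]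
    refine ⟨S.map R.subtype, C.map R.subtype, ?_, ?_, ?_, hcard', ?_, ?_, ?_⟩
    · rw [← Subgroup.map_sup, hsup, ← MonoidHom.range_eq_map, Subgroup.range_subtype]
    · rintro _ ⟨x, hx, rfl⟩ _ ⟨y, hy, rfl⟩
      exact congrArg Subtype.val (hcomm x hx y hy)
    · intro hc
      apply hab
      have h1 := hc.is_comm.comm ⟨R.subtype a, Subgroup.mem_map_of_mem _ ha⟩
        ⟨R.subtype b, Subgroup.mem_map_of_mem _ hb⟩
      have h2 : (a : G) * (b : G) = (b : G) * (a : G) := congrArg Subtype.val h1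
      exact Subtype.ext h2
    · have h1 : Monoid.exponent (S.map R.subtype) ∣ p := by
        apply Monoid.exponent_dvd_of_forall_pow_eq_one
        rintro ⟨_, x, hx, rfl⟩
        apply Subtype.ext
        have h2 : (x : G) ^ p = 1 := congrArg Subtype.val (hexp x hx)
        exact h2
      rcases (Nat.dvd_prime hpp).mp h1 with h2 | h2
      · exfalso
        have h4 : Subsingleton (S.map R.subtype) := Monoid.exp_eq_one_iff.mp h2
        have h5 : Nat.card (S.map R.subtype) = 1 := Nat.card_eq_one_iff_unique.mpr ⟨h4, ⟨1⟩⟩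
        rw [hcard'] at h5
        have := Nat.one_lt_pow (n := 3) (by norm_num) hpp.one_lt
        omega
      · exact h2
    · exact isCyclic_of_surjective (R.subtype.subgroupMap C) (R.subtype.subgroupMap_surjective C)
    · rw [← Subgroup.map_commutator]
      have hset : {x : G | x ∈ C.map R.subtype ∧ x ^ p = 1} = ((⁅S, S⁆.map R.subtype : Subgroup G) : Set G) := by
        ext x
        constructor
        · rintro ⟨⟨c, hc, rfl⟩, hx⟩
          exact ⟨c, (hom c).mp ⟨hc, Subtype.ext hx⟩, rfl⟩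
        · rintro ⟨c, hc, rfl⟩
          obtain ⟨h1, h2⟩ := (hom c).mpr hc
          exact ⟨⟨c, h1, rfl⟩, congrArg Subtype.val h2⟩
      rw [hset, Subgroup.closure_eq]

end Cfsg.Agent.Lib.Helper3RankCop
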