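import Cfsg.Agent.Lib.Helper40Fusion
import Cfsg.Prelude.Def_ConjugacyFunctors

set_option autoImplicit false

namespace Cfsg.Agent.Lib.Helper40ConjFam

open Subgroup Cfsg.Agent.Lib.Helper40Sylow Cfsg.Agent.Lib.Helper40Alperin Cfsg.Agent.Lib.Helper40Fusion

variable {G : Type*} [Group G]

/-- The step relation of a conjugation family. -/
def StF (𝓕 : Set (Subgroup G)) (D : Subgroup G) (x : G) : Prop :=
  ∃ T ∈ 𝓕, x ∈ Subgroup.normalizer (T : Set G) ∧ D ≤ T

theorem StF.mono {𝓕 : Set (Subgroup G)} (D D' : Subgroup G) (x : G) (h : StF 𝓕 D x) (hD : D' ≤ D) :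
    StF 𝓕 D' x := by
  obtain ⟨T, hT, hx, hle⟩ := h
  exact ⟨T, hT, hx, hD.trans hle⟩

theorem StF.symm {𝓕 : Set (Subgroup G)} (D : Subgroup G) (x : G) (h : StF 𝓕 D x) :
    StF 𝓕 (rj x D) x⁻¹ := by
  obtain ⟨T, hT, hx, hle⟩ := h
  refine ⟨T, hT, Subgroup.inv_mem _ hx, ?_⟩
  rw [← rj_eq_self_of_mem_normalizer hx]
  exact rj_mono hle

theorem fclosed_StF (𝓕 : Set (Subgroup G)) : FClosed (Gen (StF 𝓕)) :=
  Gen.fclosed StF.mono StF.symm

/-- From chains to the indexed form of a conjugation family. -/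
theorem isConjugationFamily_of_gen {𝓕 : Set (Subgroup G)} {S : Subgroup G} (h𝓕 : ∀ T ∈ 𝓕, T ≤ S)
    (h : ∀ D : Subgroup G, D ≤ S → ∀ g : G, rj g D ≤ S → Gen (StF 𝓕) D g) :
    Cfsg.IsConjugationFamily 𝓕 S := by
  refine ⟨h𝓕, ?_⟩
  intro A g _ hA hAg
  have hD : Gen (StF 𝓕) (S ⊓ cj g S) g := by
    apply h _ inf_le_left
    calc rj g (S ⊓ cj g S) ≤ rj g (cj g S) := rj_mono inf_le_right
      _ = S := cj_inv_cj g S
  obtain ⟨n, x, hprod, hC⟩ := hD.exists_fin
  choose T hT hx hle using hC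
  have hAD : A ⊆ ((S ⊓ cj g S : Subgroup G) : Set G) := by
    intro a ha
    refine Subgroup.mem_inf.mpr ⟨hA ha, ?_⟩
    rw [mem_cj]
    exact hAg ⟨a, ha, rfl⟩
  have key : ∀ i : Fin n, (fun a => (((List.ofFn x).take i.val).prod)⁻¹ * a * ((List.ofFn x).take i.val).prod) '' A ⊆
      ((T i : Subgroup G) : Set G) := by
    intro i
    refine (Set.image_mono hAD).trans ?_
    rw [← coe_rj]
    exact hle i
  refine ⟨n, T, x, hprod, hT, hx, fun h0 => ?_, fun i hi => key ⟨i.val + 1, hi⟩⟩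
  have := key ⟨0, h0⟩
  simpa using this

/-- From the indexed form of a conjugation family to chains. -/
theorem gen_of_fin {𝓕 : Set (Subgroup G)} (n : ℕ) : ∀ (D : Subgroup G) (T : Fin n → Subgroup G) (x : Fin n → G),
    (∀ i, T i ∈ 𝓕) → (∀ i, x i ∈ Subgroup.normalizer ((T i : Subgroup G) : Set G)) →
    (∀ i : Fin n, rj ((List.ofFn x).take i.val).prod D ≤ T i) → Gen (StF 𝓕) D (List.ofFn x).prod := by
  induction n with
  | zero => intro D T x _ _ _; simpa using Gen.nil D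
  | succ n ih =>
    intro D T x hT hx hle
    rw [List.ofFn_succ, List.prod_cons]
    refine Gen.cons D (x 0) _ ⟨T 0, hT 0, hx 0, ?_⟩ ?_
    · have := hle 0
      simpa [rj_one] using this
    · apply ih (rj (x 0) D) (fun i => T i.succ) (fun i => x i.succ) (fun i => hT _) (fun i => hx _)
      intro i
      have := hle i.succ
      simp only [List.ofFn_succ, Fin.val_succ, List.take_succ_cons, List.prod_cons] at this
      rw [rj_mul] at this
      exact this

theorem gen_of_isConjugationFamily {𝓕 : Set (Subgroup G)} {S : Subgroup G}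
    (h : Cfsg.IsConjugationFamily 𝓕 S) (D : Subgroup G) (hD : D ≤ S) (g : G) (hg : rj g D ≤ S) :
    Gen (StF 𝓕) D g := by
  obtain ⟨n, T, x, hprod, hT, hx, h0, hs⟩ := h.2 (D : Set G) g ⟨1, D.one_mem⟩ hD (by
    rw [← coe_rj]; exact hg)
  rw [← hprod]
  apply gen_of_fin n D T x hT hx
  rintro ⟨i, hi⟩
  cases i with
  | zero => simpa [rj_one] using h0 hi
  | succ j =>
    have := hs ⟨j, by omega⟩ hi
    rw [← coe_rj] at this
    exact this

variable {p : ℕ} [Finite G] [Fact p.Prime]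

/-- Criterion for a conjugation family, chain form. -/
theorem gen_of_criterion (S : Sylow p G) (𝓕 : Set (Subgroup G)) (h𝓕 : ∀ U ∈ 𝓕, U ≤ (S : Subgroup G))
    (h : ∀ T : Subgroup G, T ≤ (S : Subgroup G) → ∃ U ∈ 𝓕, (∃ g : G, cj g T = U) ∧
      FullyNorm p (S : Subgroup G) U) :
    ∀ D : Subgroup G, D ≤ (S : Subgroup G) → ∀ g : G, rj g D ≤ (S : Subgroup G) → Gen (StF 𝓕) D g := by
  apply fusion_induction S (fclosed_StF 𝓕)
  intro T hT
  obtain ⟨U, hU, ⟨g, hg⟩, hfn⟩ := h T hT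
  have e : rj g⁻¹ T = U := by rw [rj, inv_inv]; exact hg
  refine ⟨g⁻¹, ?_, ?_, ?_⟩
  · rw [e]; exact h𝓕 U hU
  · rw [e]; exact hfn
  · intro _ m hm
    rw [e] at hm ⊢
    exact Gen.single ⟨U, hU, hm, le_rfl⟩

end Cfsg.Agent.Lib.Helper40ConjFam
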