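import Mathlib

set_option autoImplicit false

/-! PROJECT 61: additive maps of a finite field of characteristic 2 as combinations of
automorphisms (used by the row S1140 and by the piece `COORD`). -/

namespace Cfsg.Agent.Lib.Helper40HigAut

open Module

variable {F : Type*} [Field F]

theorem aut_indep : LinearIndependent F (fun σ : F ≃+* F => ((σ : F →+* F) : F → F)) := by
  have h := linearIndependent_monoidHom F F
  have hinj : Function.Injective (fun σ : F ≃+* F => (((σ : F →+* F) : F →* F))) := by
    intro σ τ hστ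
    ext x
    exact congrArg (fun g : F →* F => g x) hστ
  exact h.comp _ hinj

theorem coef_unique [Fintype (F ≃+* F)] (c c' : (F ≃+* F) → F)
    (h : ∀ x, ∑ σ, c σ * σ x = ∑ σ, c' σ * σ x) : c = c' := by
  have h1 := Fintype.linearIndependent_iff.1 (aut_indep (F := F)) (fun σ => c σ - c' σ) (by
    funext x
    simp only [Finset.sum_apply, Pi.smul_apply, smul_eq_mul, Pi.zero_apply, sub_mul,
      Finset.sum_sub_distrib]
    exact sub_eq_zero.2 (h x))
  funext σ
  exact sub_eq_zero.1 (h1 σ)

theorem exists_coef [Fintype F] [CharP F 2] [Fintype (F ≃+* F)] (f : F →+ F) :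
    ∃ c : (F ≃+* F) → F, ∀ x, f x = ∑ σ, c σ * σ x := by
  classical
  let _ : Algebra (ZMod 2) F := ZMod.algebra F 2
  let e : (F ≃ₐ[ZMod 2] F) ≃ (F ≃+* F) :=
    { toFun := fun σ => σ.toRingEquiv
      invFun := fun σ => AlgEquiv.ofRingEquiv (f := σ) (fun r => by
        have : (σ : F →+* F).comp (algebraMap (ZMod 2) F) = algebraMap (ZMod 2) F :=
          Subsingleton.elim _ _
        exact congrArg (fun g : ZMod 2 →+* F => g r) this)
      left_inv := fun σ => by ext x; rfl
      right_inv := fun σ => by ext x; rfl }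
  let b : (F ≃ₐ[ZMod 2] F) → (F →ₗ[ZMod 2] F) := fun σ => (σ : F →ₐ[ZMod 2] F).toLinearMap
  have hb : LinearIndependent F b := by
    have h := linearIndependent_toLinearMap (ZMod 2) F F
    have hinj : Function.Injective (fun σ : F ≃ₐ[ZMod 2] F => (σ : F →ₐ[ZMod 2] F)) := by
      intro σ τ hστ
      ext x
      exact congrArg (fun g : F →ₐ[ZMod 2] F => g x) hστ
    exact h.comp _ hinj
  have hcard : Fintype.card (F ≃ₐ[ZMod 2] F) = finrank F (F →ₗ[ZMod 2] F) := by
    rw [Module.finrank_linearMap_self, ← IsGalois.card_aut_eq_finrank, Nat.card_eq_fintype_card]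
  have hspan := hb.span_eq_top_of_card_eq_finrank' hcard
  have hf : AddMonoidHom.toZModLinearMap 2 f ∈ Submodule.span F (Set.range b) := by
    rw [hspan]; trivial
  obtain ⟨c', hc'⟩ := (Submodule.mem_span_range_iff_exists_fun F).1 hf
  refine ⟨fun σ => c' (e.symm σ), fun x => ?_⟩
  have h1 := congrArg (fun g : F →ₗ[ZMod 2] F => g x) hc'
  simp only [LinearMap.sum_apply, LinearMap.smul_apply, smul_eq_mul] at h1
  rw [← Equiv.sum_comp e]
  simp only [Equiv.symm_apply_apply]
  exact h1.symm

/-- coefficients of an additive family of additive maps -/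
theorem exists_coef_add [Fintype F] [CharP F 2] [Fintype (F ≃+* F)] {V : Type*} [AddCommGroup V]
    (β : V →+ F →+ F) :
    ∃ c : (F ≃+* F) → V →+ F, ∀ v x, β v x = ∑ σ, c σ v * σ x := by
  choose c hc using fun v => exists_coef (β v)
  have hadd : ∀ v w, c (v + w) = c v + c w := by
    intro v w
    apply coef_unique
    intro x
    rw [← hc]
    simp only [Pi.add_apply, add_mul, Finset.sum_add_distrib]
    rw [← hc, ← hc, map_add]
    rfl
  refine ⟨fun σ => AddMonoidHom.mk' (fun v => c v σ) (fun v w => by rw [hadd]; rfl), ?_⟩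
  intro v x
  exact hc v x

end Cfsg.Agent.Lib.Helper40HigAut
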