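import Mathlib
import Cfsg.Agent.Lib.Helper40HigAut

set_option autoImplicit false

/-! PROJECT 61, piece `U2`. -/

namespace Cfsg.Agent.Lib.Helper40HigU2

open Cfsg.Agent.Lib.Helper40HigAut

theorem U2 {F : Type*} [Field F] [Finite F] [CharP F 2] (a b c d : F ≃+* F)
    (h : ∀ x : F, a x * b x = c x * d x) : (a = c ∧ b = d) ∨ (a = d ∧ b = c) := by
  classical
  by_cases hac : a = c
  · subst hac
    left
    refine ⟨rfl, ?_⟩
    ext x
    by_cases hx : x = 0
    · subst hx; simp
    · have hax : a x ≠ 0 := by simpa using hx
      exact mul_left_cancel₀ hax (h x)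
  by_cases had : a = d
  · subst had
    right
    refine ⟨rfl, ?_⟩
    ext x
    by_cases hx : x = 0
    · subst hx; simp
    · have hax : a x ≠ 0 := by simpa using hx
      have := h x
      rw [mul_comm (c x)] at this
      exact mul_left_cancel₀ hax this
  exfalso
  -- polarisation
  have hpol : ∀ x y : F, a x * b y + b x * a y = c x * d y + d x * c y := by
    intro x y
    have h1 := h (x + y)
    simp only [map_add] at h1
    have h2 := h x
    have h3 := h y
    linear_combination h1 - h2 - h3
  have hind := linearIndependent_iff.1 (aut_indep (F := F))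
  have hl : ∀ x : F, (Finsupp.single b (a x) + Finsupp.single a (b x) - Finsupp.single d (c x)
      - Finsupp.single c (d x) : (F ≃+* F) →₀ F) = 0 := by
    intro x
    apply hind
    funext y
    simp only [map_sub, map_add, Finsupp.linearCombination_single, Pi.sub_apply, Pi.add_apply,
      Pi.smul_apply, smul_eq_mul, Pi.zero_apply]
    have := hpol x y
    show a x * b y + b x * a y - c x * d y - d x * c y = 0
    linear_combination this
  have h1 := DFunLike.congr_fun (hl 1) a
  simp only [map_one, Finsupp.coe_sub, Finsupp.coe_add, Pi.sub_apply, Pi.add_apply,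
    Finsupp.single_apply, Finsupp.coe_zero, Pi.zero_apply, if_true,
    if_neg (Ne.symm had), if_neg (Ne.symm hac), sub_zero] at h1
  have hba : b = a := by
    by_contra hba
    rw [if_neg hba, zero_add] at h1
    exact one_ne_zero h1
  subst hba
  have h2 := DFunLike.congr_fun (hl 1) c
  simp only [map_one, Finsupp.coe_sub, Finsupp.coe_add, Pi.sub_apply, Pi.add_apply,
    Finsupp.single_apply, Finsupp.coe_zero, Pi.zero_apply, if_true,
    if_neg hac, add_zero, zero_sub] at h2
  have hdc : d = c := by
    by_contra hdc
    rw [if_neg hdc, neg_zero, zero_sub, neg_eq_zero] at h2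
    exact one_ne_zero h2
  subst hdc
  apply hac
  ext x
  have h3 := h x
  rw [← sq, ← sq, sq_eq_sq_iff_eq_or_eq_neg, CharTwo.neg_eq] at h3
  exact h3.elim id id

end Cfsg.Agent.Lib.Helper40HigU2
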