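import Mathlib
import Cfsg.Agent.Lib.Helper40HigAut
import Cfsg.Agent.Lib.Helper40HigU2

set_option autoImplicit false

/-! PROJECT 61, piece `COORD`. -/

namespace Cfsg.Agent.Lib.Helper40HigCOORD

open Cfsg.Agent.Lib.Helper40HigAut Cfsg.Agent.Lib.Helper40HigU2

universe u

/-- two semilinear coordinates differ by a field automorphism -/
theorem exists_aut {F : Type} [Field F] [Fintype F] {V : Type u} [AddCommGroup V]
    (ξ : V ≃+ V) (hV : ∀ v w : V, v ≠ 0 → w ≠ 0 → ∃ i : ℕ, (⇑ξ)^[i] v = w)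
    (I : V ≃+ F) (i' : V →+ F) (hi' : Function.Injective i') (w w' : F)
    (hI : ∀ v, I (ξ v) = w * I v) (hI' : ∀ v, i' (ξ v) = w' * i' v) :
    ∃ σ : F ≃+* F, σ w = w' := by
  have hIk : ∀ (k : ℕ) (v : V), I ((⇑ξ)^[k] v) = w ^ k * I v := by
    intro k
    induction k with
    | zero => intro v; simp
    | succ n ih => intro v; rw [Function.iterate_succ_apply', hI, ih]; ring
  have hIk' : ∀ (k : ℕ) (v : V), i' ((⇑ξ)^[k] v) = w' ^ k * i' v := by
    intro k
    induction k with
    | zero => intro v; simp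
    | succ n ih => intro v; rw [Function.iterate_succ_apply', hI', ih]; ring
  obtain ⟨v₁, hv₁⟩ : ∃ v₁, v₁ = I.symm 1 := ⟨_, rfl⟩
  have hIv₁ : I v₁ = 1 := by rw [hv₁]; simp
  have hv₁0 : v₁ ≠ 0 := by
    rintro rfl
    rw [map_zero] at hIv₁
    exact zero_ne_one hIv₁
  have hg₁ : i' v₁ ≠ 0 := by
    intro h
    exact hv₁0 (hi' (by rw [h, map_zero]))
  have key : ∀ t y : F, i' (I.symm (t * y)) = i' (I.symm t) / i' v₁ * i' (I.symm y) := by
    intro t y
    by_cases ht : t = 0
    · subst ht; simp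
    · have h1 : I.symm t ≠ 0 := by simpa using ht
      obtain ⟨k, hk⟩ := hV v₁ (I.symm t) hv₁0 h1
      have h2 : t = w ^ k := by
        have := hIk k v₁
        rw [hk, hIv₁, mul_one] at this
        simpa using this
      have h3 : I.symm (t * y) = (⇑ξ)^[k] (I.symm y) := by
        apply I.injective
        rw [hIk, h2]
        simp
      rw [h3, hIk', ← hk, hIk']
      field_simp
  let κ : F →+* F :=
    { toFun := fun t => i' (I.symm t) / i' v₁
      map_one' := by
        show i' (I.symm 1) / i' v₁ = 1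
        rw [← hv₁, div_self hg₁]
      map_mul' := by
        intro t s
        show i' (I.symm (t * s)) / i' v₁ = i' (I.symm t) / i' v₁ * (i' (I.symm s) / i' v₁)
        rw [key t s]
        ring
      map_zero' := by
        show i' (I.symm 0) / i' v₁ = 0
        simp
      map_add' := by
        intro t s
        show i' (I.symm (t + s)) / i' v₁ = i' (I.symm t) / i' v₁ + i' (I.symm s) / i' v₁
        rw [map_add, map_add, add_div] }
  have hκ : Function.Bijective κ := Finite.injective_iff_bijective.1 κ.injective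
  refine ⟨RingEquiv.ofBijective κ hκ, ?_⟩
  show i' (I.symm w) / i' v₁ = w'
  have h4 : I.symm w = ξ v₁ := by
    apply I.injective
    rw [hI, hIv₁]
    simp
  rw [h4, hI']
  field_simp

theorem COORD {F : Type} [Field F] [Fintype F] [CharP F 2] {V : Type u} [AddCommGroup V] [Finite V]
    (ξ : V ≃+ V) (l : F)
    (hV : ∀ v w : V, v ≠ 0 → w ≠ 0 → ∃ i : ℕ, (⇑ξ)^[i] v = w)
    (hl : ∀ t : F, t ≠ 0 → ∃ i : ℕ, l ^ i = t)
    (hcard : Nat.card V = Fintype.card F) (hF : 2 < Fintype.card F)
    (β : V →+ F →+ F) (hβ : ∀ v t, β (ξ v) (l * t) = l * β v t) (hne : β ≠ 0) :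
    ∃ (i : V ≃+ F) (τ : F ≃+* F), τ ≠ RingEquiv.refl F ∧ ∀ v t, β v t = i v * τ t := by
  classical
  have hfin : Finite (F ≃+* F) :=
    Finite.of_injective (fun σ : F ≃+* F => (σ : F → F)) DFunLike.coe_injective
  have : Fintype (F ≃+* F) := Fintype.ofFinite _
  obtain ⟨c, hc⟩ := exists_coef_add β
  -- an element different from `0`, `1`
  obtain ⟨t₀, ht₀0, ht₀1⟩ : ∃ t₀ : F, t₀ ≠ 0 ∧ t₀ ≠ 1 := by
    have h1 : ({0, 1} : Finset F).card < (Finset.univ : Finset F).card := by
      rw [Finset.card_univ]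
      exact lt_of_le_of_lt (Finset.card_le_two) hF
    obtain ⟨t, -, ht⟩ := Finset.exists_mem_notMem_of_card_lt_card h1
    simp only [Finset.mem_insert, Finset.mem_singleton, not_or] at ht
    exact ⟨t, ht.1, ht.2⟩
  have hl0 : l ≠ 0 := by
    rintro rfl
    obtain ⟨i, hi⟩ := hl t₀ ht₀0
    rcases Nat.eq_zero_or_pos i with rfl | hi0
    · exact ht₀1 (by simpa using hi.symm)
    · rw [zero_pow hi0.ne'] at hi
      exact ht₀0 hi.symm
  have hσl : ∀ σ : F ≃+* F, σ l ≠ 0 := fun σ => by simpa using hl0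
  -- equivariance of the coefficients
  have hcξ : ∀ σ v, c σ (ξ v) = l / σ l * c σ v := by
    intro σ v
    have h1 : (fun σ : F ≃+* F => c σ (ξ v) * σ l) = fun σ => l * c σ v := by
      apply coef_unique
      intro x
      have h2 := hβ v x
      rw [hc, hc, Finset.mul_sum] at h2
      simp only [map_mul] at h2
      calc ∑ σ, c σ (ξ v) * σ l * σ x = ∑ σ, c σ (ξ v) * (σ l * σ x) :=
            Finset.sum_congr rfl (fun σ _ => by ring)
        _ = ∑ σ, l * (c σ v * σ x) := h2
        _ = ∑ σ, l * c σ v * σ x := Finset.sum_congr rfl (fun σ _ => by ring)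
    have h3 := congrFun h1 σ
    have := hσl σ
    field_simp
    exact h3
  have hcξk : ∀ σ (k : ℕ) v, c σ ((⇑ξ)^[k] v) = (l / σ l) ^ k * c σ v := by
    intro σ k
    induction k with
    | zero => intro v; simp
    | succ n ih => intro v; rw [Function.iterate_succ_apply', hcξ, ih]; ring
  -- nonzero coefficients are bijective
  have hinj : ∀ σ, c σ ≠ 0 → Function.Injective (c σ) := by
    intro σ hσ
    rw [injective_iff_map_eq_zero]
    intro v hv
    by_contra hv0
    apply hσ
    ext v'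
    by_cases hv' : v' = 0
    · subst hv'; simp
    · obtain ⟨k, hk⟩ := hV v v' hv0 hv'
      rw [← hk, hcξk, hv, mul_zero]
      rfl
  have hbij : ∀ σ, c σ ≠ 0 → Function.Bijective (c σ) := by
    intro σ hσ
    apply (hinj σ hσ).bijective_of_nat_card_le
    rw [hcard, Nat.card_eq_fintype_card]
  -- uniqueness
  have huniq : ∀ τ τ', c τ ≠ 0 → c τ' ≠ 0 → τ' = τ := by
    intro τ τ' hτ hτ'
    obtain ⟨σ, hσ⟩ := exists_aut ξ hV (AddEquiv.ofBijective (c τ) (hbij τ hτ)) (c τ') (hinj τ' hτ')
      (l / τ l) (l / τ' l) (fun v => hcξ τ v) (fun v => hcξ τ' v)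
    have h1 : σ l * τ' l = l * σ (τ l) := by
      rw [map_div₀] at hσ
      have h2 := hσl τ'
      have h3 : σ (τ l) ≠ 0 := by simpa using hl0
      field_simp at hσ
      linear_combination hσ
    have h2 : ∀ x : F, σ x * τ' x = (RingEquiv.refl F) x * (τ.trans σ) x := by
      intro x
      by_cases hx : x = 0
      · subst hx; simp
      · obtain ⟨k, rfl⟩ := hl x hx
        simp only [map_pow, RingEquiv.refl_apply, RingEquiv.trans_apply]
        rw [← mul_pow, h1, mul_pow]
    rcases U2 σ τ' (RingEquiv.refl F) (τ.trans σ) h2 with ⟨h3, h4⟩ | ⟨h3, h4⟩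
    · rw [h4, h3]
      ext x
      rfl
    · rw [h4]
      ext x
      have := DFunLike.congr_fun h3 x
      simp only [RingEquiv.trans_apply] at this
      exact σ.injective this
  -- existence
  obtain ⟨τ, hτ⟩ : ∃ τ, c τ ≠ 0 := by
    by_contra hcon
    push Not at hcon
    apply hne
    ext v t
    rw [hc]
    simp [hcon]
  refine ⟨AddEquiv.ofBijective (c τ) (hbij τ hτ), τ, ?_, ?_⟩
  · rintro rfl
    have h1 : ∀ v, ξ v = v := by
      intro v
      apply hinj _ hτ
      rw [hcξ]
      simp [div_self hl0]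
    have h2 : ∀ (k : ℕ) v, (⇑ξ)^[k] v = v := by
      intro k
      induction k with
      | zero => intro v; rfl
      | succ n ih => intro v; rw [Function.iterate_succ_apply', ih, h1]
    obtain ⟨v₁, hv₁⟩ := (hbij _ hτ).2 1
    obtain ⟨v₂, hv₂⟩ := (hbij _ hτ).2 t₀
    have hv₁0 : v₁ ≠ 0 := by
      rintro rfl
      rw [map_zero] at hv₁
      exact zero_ne_one hv₁
    have hv₂0 : v₂ ≠ 0 := by
      rintro rfl
      rw [map_zero] at hv₂
      exact ht₀0 hv₂.symm
    obtain ⟨k, hk⟩ := hV v₁ v₂ hv₁0 hv₂0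
    rw [h2] at hk
    rw [← hk, hv₁] at hv₂
    exact ht₀1 hv₂.symm
  · intro v t
    rw [hc]
    apply Finset.sum_eq_single τ
    · intro σ _ hσ
      have : c σ = 0 := by
        by_contra h
        exact hσ (huniq τ σ hτ h)
      rw [this]
      simp
    · intro h
      exact absurd (Finset.mem_univ τ) h

end Cfsg.Agent.Lib.Helper40HigCOORD
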