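import Mathlib
import Cfsg.Prelude.Def_LocalEven
import Cfsg.Prelude.Def_PLocal
import Cfsg.Prelude.Def_ConjugacyFunctors
import Cfsg.Agent.Lib.Helper14NPS
import Cfsg.Agent.Lib.Helper39SecFusion
import Cfsg.Agent.Lib.Helper39SecTransport
import Cfsg.Agent.Lib.Helper39KInfFunctor
import Cfsg.Agent.S1983

set_option autoImplicit false
open Cfsg

namespace Cfsg.Agent.Lib.Helper40KCor

universe u

open Cfsg.Agent.Lib.Helper39Sylow Cfsg.Agent.Lib.Helper24Functor Cfsg.Agent.Lib.Helper39Section
  Cfsg.Agent.Lib.Helper39SecTransport Cfsg.Agent.Lib.Helper39SecFusion Cfsg.Agent.Lib.Helper39Control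
  Cfsg.Agent.Lib.Helper39KInfFunctor

/-- normalizer `p`-stability is invariant under isomorphism -/
theorem stable_of_equiv {A B : Type*} [Group A] [Group B] [Finite A] [Finite B] {p : ℕ} [Fact p.Prime]
    (e : A ≃* B) (h : IsNormalizerPStable p A) : IsNormalizerPStable p B := by
  rw [Helper14NPS.nps_iff] at h ⊢
  refine Helper14NPS.nps_quotient e.toMonoidHom e.surjective ?_ h
  have : e.toMonoidHom.ker = ⊥ := (MonoidHom.ker_eq_bot_iff _).2 e.injective
  rw [this]
  simp

theorem stable_of_involves {G : Type*} {X : Type*} [Group G] [Finite G] [Group X] [Finite X] {p : ℕ}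
    [Fact p.Prime]
    (hst : ∀ (K R : Subgroup G) [hR : (R.subgroupOf K).Normal], IsNormalizerPStable p (↥K ⧸ R.subgroupOf K))
    (hX : Involves X G) : IsNormalizerPStable p X := by
  obtain ⟨K, R, hR, ⟨e⟩⟩ := hX
  exact stable_of_equiv e (hst K R)

theorem kInf_normal_of_involves {G X : Type u} [Group G] [Finite G] [Group X] [Finite X] {p : ℕ}
    [Fact p.Prime]
    (hst : ∀ (K R : Subgroup G) [hR : (R.subgroupOf K).Normal], IsNormalizerPStable p (↥K ⧸ R.subgroupOf K))
    (hX : Involves X G)
    (hcon : Subgroup.centralizer ((pCore p X : Subgroup X) : Set X) ≤ pCore p X)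
    (S : Subgroup X) (hS : IsSyl p S ⊤) :
    (inducedFunctor kInfLower S).Normal ∧ (inducedFunctor kInfUpper S).Normal := by
  by_contra hcontra
  have hK : ¬ (inducedFunctor kInfLower ((toSylowTop hS : Sylow p X) : Subgroup X)).Normal ∨
      ¬ (inducedFunctor kInfUpper ((toSylowTop hS : Sylow p X) : Subgroup X)).Normal := by
    rw [coe_toSylowTop]
    exact not_and_or.1 hcontra
  obtain ⟨g, -, -, -, -, h5⟩ := Cfsg.Agent.S1983.result (toSylowTop hS) hK
  obtain ⟨N, hN, hns⟩ := h5 hcon
  exact hns (stable_of_involves hst (involves_quot X N hX))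

theorem controlsStrongFusion_of_csf {G : Type u} [Group G] {p : ℕ} [Fact p.Prime]
    {W : ∀ (Q : Type u) [Group Q], Subgroup Q} (S : Sylow p G)
    (h : CSF (inducedFunctor (G := G) W) ⊤ (S : Subgroup G)) :
    ControlsStrongFusion p (inducedFunctor W (S : Subgroup G)) := by
  rw [csf_iff_set] at h
  refine ⟨S, ind_le _, fun A hA => ⟨hA, fun g hg => ?_⟩⟩
  obtain ⟨x, hx, hxa⟩ := h A g (Subgroup.mem_top g) hA hg
  exact ⟨x, hx.2, fun a ha => (hxa a ha).symm⟩

theorem kInfLower_strong {G : Type u} [Group G] [Finite G] {p : ℕ} [Fact p.Prime]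
    (hst : ∀ (K R : Subgroup G) [hR : (R.subgroupOf K).Normal], IsNormalizerPStable p (↥K ⧸ R.subgroupOf K))
    (S : Sylow p G) : ControlsStrongFusion p (inducedFunctor kInfLower (S : Subgroup G)) := by
  apply controlsStrongFusion_of_csf
  exact csf_all (p := p) (W := kInfLower) (isCharPFunctor_kInfLower p) (fun X _ => Cfsg.Involves X G)
    (fun X _ _ Y h => involves_sub X Y h)
    (fun X _ _ N _ h => involves_quot X N h)
    (fun X _ _ hX hcon S hS => (kInf_normal_of_involves hst hX hcon S hS).1)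
    (Nat.card G) G rfl (Cfsg.Agent.Lib.Helper24Section.involves_self G) S (isSyl_sylow S)

theorem kInfUpper_strong {G : Type u} [Group G] [Finite G] {p : ℕ} [Fact p.Prime]
    (hst : ∀ (K R : Subgroup G) [hR : (R.subgroupOf K).Normal], IsNormalizerPStable p (↥K ⧸ R.subgroupOf K))
    (S : Sylow p G) : ControlsStrongFusion p (inducedFunctor kInfUpper (S : Subgroup G)) := by
  apply controlsStrongFusion_of_csf
  exact csf_all (p := p) (W := kInfUpper) (isCharPFunctor_kInfUpper p) (fun X _ => Cfsg.Involves X G)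
    (fun X _ _ Y h => involves_sub X Y h)
    (fun X _ _ N _ h => involves_quot X N h)
    (fun X _ _ hX hcon S hS => (kInf_normal_of_involves hst hX hcon S hS).2)
    (Nat.card G) G rfl (Cfsg.Agent.Lib.Helper24Section.involves_self G) S (isSyl_sylow S)

end Cfsg.Agent.Lib.Helper40KCor
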