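import Mathlib
import Cfsg.Agent.Lib.Helper6Small
import Cfsg.Agent.Lib.Helper3MetaTwo

set_option autoImplicit false

/-! PROJECT 8 (D8), piece `s4`: a group of order 24 with a normal self-centralizing four-group is `S4`. -/

namespace Cfsg.Agent.Lib.Helper40P8s4

open MulAction Subgroup

/-- the elements of a group of order 4 and exponent 2 -/
theorem four_cases {G : Type*} [Group G] [Finite G] (V : Subgroup G) (hV : Nat.card V = 4)
    (hV2 : ∀ v ∈ V, v ^ 2 = 1) {v a : G} (hv : v ∈ V) (ha : a ∈ V) (hv1 : v ≠ 1) (ha1 : a ≠ 1) (hav : a ≠ v) :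
    ∀ w ∈ V, w = 1 ∨ w = v ∨ w = a ∨ w = v * a := by
  classical
  have := Fintype.ofFinite V
  have hvv : v * v = 1 := by rw [← pow_two]; exact hV2 v hv
  let v' : V := ⟨v, hv⟩
  let a' : V := ⟨a, ha⟩
  have h1 : (1 : V) ≠ v' := fun h => hv1 (congrArg Subtype.val h).symm
  have h2 : (1 : V) ≠ a' := fun h => ha1 (congrArg Subtype.val h).symm
  have h3 : (1 : V) ≠ v' * a' := by
    intro h
    have h' : (1 : G) = v * a := congrArg Subtype.val h
    apply hav
    calc a = v * v * a := by rw [hvv, one_mul]
      _ = v * (v * a) := by rw [mul_assoc]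
      _ = v := by rw [← h', mul_one]
  have h4 : v' ≠ a' := fun h => hav (congrArg Subtype.val h).symm
  have h5 : v' ≠ v' * a' := by
    intro h
    have h' : v = v * a := congrArg Subtype.val h
    exact ha1 (by simpa using h')
  have h6 : a' ≠ v' * a' := by
    intro h
    have h' : a = v * a := congrArg Subtype.val h
    exact hv1 (by simpa using h')
  have hcard : ({1, v', a', v' * a'} : Finset V).card = 4 := by
    rw [Finset.card_insert_of_notMem, Finset.card_insert_of_notMem, Finset.card_insert_of_notMem,
      Finset.card_singleton]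
    · simpa using h6
    · simp only [Finset.mem_insert, Finset.mem_singleton, not_or]
      exact ⟨h4, h5⟩
    · simp only [Finset.mem_insert, Finset.mem_singleton, not_or]
      exact ⟨h1, h2, h3⟩
  have huniv : ({1, v', a', v' * a'} : Finset V) = Finset.univ := by
    apply Finset.eq_univ_of_card
    rw [hcard, ← Nat.card_eq_fintype_card, hV]
  intro w hw
  have hmem : (⟨w, hw⟩ : V) ∈ ({1, v', a', v' * a'} : Finset V) := by rw [huniv]; exact Finset.mem_univ _
  simp only [Finset.mem_insert, Finset.mem_singleton] at hmem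
  rcases hmem with h | h | h | h
  · exact Or.inl (congrArg Subtype.val h)
  · exact Or.inr (Or.inl (congrArg Subtype.val h))
  · exact Or.inr (Or.inr (Or.inl (congrArg Subtype.val h)))
  · exact Or.inr (Or.inr (Or.inr (congrArg Subtype.val h)))

/-- piece `s4` -/
theorem s4_of_card {G : Type*} [Group G] [Finite G] (h : Nat.card G = 24) (V : Subgroup G)
    [hVn : V.Normal] (hV : Nat.card V = 4) (hV2 : ∀ v ∈ V, v ^ 2 = 1)
    (hC : centralizer (V : Set G) ≤ V) : Nonempty (G ≃* Equiv.Perm (Fin 4)) := by
  classical
  apply Cfsg.Agent.Lib.Helper6Small.s4_of_card h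
  intro y hy1 hYn
  by_cases hex : ∃ v ∈ zpowers y, v ∈ V ∧ v ≠ 1
  · obtain ⟨v, hvY, hvV, hv1⟩ := hex
    have hvc : ∀ g : G, g * v * g⁻¹ = v := by
      intro g
      apply Cfsg.Agent.Lib.Helper3MetaTwo.invol_unique_sub (zpowers y) inferInstance (hYn.conj_mem v hvY g) hvY
      · rw [conj_pow, hV2 v hvV]; simp
      · exact hV2 v hvV
      · intro h1
        apply hv1
        have : v = g⁻¹ * (g * v * g⁻¹) * g := by group
        rw [this, h1]; group
      · exact hv1
    -- an element of order 3
    have : Fact (Nat.Prime 3) := ⟨by norm_num⟩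
    obtain ⟨x, hx⟩ := exists_prime_orderOf_dvd_card' (G := G) 3 (by rw [h]; norm_num)
    have hx3 : x ^ 3 = 1 := by rw [← hx, pow_orderOf_eq_one]
    have hvv : v * v = 1 := by rw [← pow_two]; exact hV2 v hvV
    obtain ⟨a, haV, ha1, hav⟩ : ∃ a ∈ V, a ≠ 1 ∧ a ≠ v := by
      by_contra hcon
      push Not at hcon
      have hsub : (V : Set G) ⊆ {1, v} := by
        intro w hw
        by_cases hw1 : w = 1
        · exact Or.inl hw1
        · exact Or.inr (hcon w hw hw1)
      have h1 := Set.ncard_le_ncard hsub (Set.toFinite _)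
      have h2 : ({1, v} : Set G).ncard ≤ 2 := by
        have := Set.ncard_insert_le (1 : G) {v}
        rw [Set.ncard_singleton] at this
        exact this
      have h3 : (V : Set G).ncard = 4 := by
        rw [← Nat.card_coe_set_eq]
        exact hV
      omega
    have hcases := four_cases V hV hV2 hvV haV hv1 ha1 hav
    have hxa : x * a * x⁻¹ = a := by
      rcases hcases _ (hVn.conj_mem a haV x) with hb | hb | hb | hb
      · exfalso
        apply ha1
        have : a = x⁻¹ * (x * a * x⁻¹) * x := by group
        rw [this, hb]; group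
      · exfalso
        apply hav
        have h1 : a = x⁻¹ * (x * a * x⁻¹) * x := by group
        have h2 := hvc x⁻¹
        rw [inv_inv] at h2
        rw [h1, hb, h2]
      · exact hb
      · exfalso
        apply hv1
        have h1 : x * (v * a) * x⁻¹ = a := by
          calc x * (v * a) * x⁻¹ = (x * v * x⁻¹) * (x * a * x⁻¹) := by group
            _ = v * (v * a) := by rw [hvc, hb]
            _ = a := by rw [← mul_assoc, hvv, one_mul]
        have h2 : x ^ 3 * a * (x ^ 3)⁻¹ = v * a := by
          calc x ^ 3 * a * (x ^ 3)⁻¹ = x * (x * (x * a * x⁻¹) * x⁻¹) * x⁻¹ := by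
                simp only [pow_succ, pow_zero, one_mul, mul_inv_rev, mul_assoc]
            _ = v * a := by rw [hb, h1, hb]
        rw [hx3] at h2
        simpa using h2.symm
    have hxC : x ∈ centralizer (V : Set G) := by
      rw [mem_centralizer_iff]
      intro w hw
      have key : x * w * x⁻¹ = w := by
        rcases hcases w hw with rfl | rfl | rfl | rfl
        · simp
        · exact hvc x
        · exact hxa
        · calc x * (v * a) * x⁻¹ = (x * v * x⁻¹) * (x * a * x⁻¹) := by group
            _ = v * a := by rw [hvc, hxa]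
      calc w * x = (x * w * x⁻¹) * x := by rw [key]
        _ = x * w := by group
    have hx2 : x ^ 2 = 1 := hV2 x (hC hxC)
    have hx1 : x = 1 := by
      calc x = x ^ 3 * (x ^ 2)⁻¹ := by group
        _ = 1 := by rw [hx3, hx2]; simp
    rw [hx1, orderOf_one] at hx
    omega
  · push Not at hex
    apply hy1
    have hyC : y ∈ centralizer (V : Set G) := by
      rw [mem_centralizer_iff]
      intro w hw
      have h1 : y * w * y⁻¹ * w⁻¹ ∈ zpowers y := by
        have : y * w * y⁻¹ * w⁻¹ = y * (w * y⁻¹ * w⁻¹) := by group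
        rw [this]
        exact mul_mem (mem_zpowers y) (hYn.conj_mem _ (inv_mem (mem_zpowers y)) w)
      have h2 : y * w * y⁻¹ * w⁻¹ ∈ V := mul_mem (hVn.conj_mem w hw y) (inv_mem hw)
      have h3 := hex _ h1 h2
      calc w * y = (y * w * y⁻¹ * w⁻¹)⁻¹ * (y * w) := by group
        _ = y * w := by rw [h3]; simp
    exact hex y (mem_zpowers y) (hC hyC)

end Cfsg.Agent.Lib.Helper40P8s4
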