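import Mathlib
import Cfsg.Agent.S2119

set_option autoImplicit false

/-! PROJECT 8 (D8), piece `s5`: a group with a subgroup `A5` of index two with trivial centralizer is `S5`. -/

namespace Cfsg.Agent.Lib.Helper40P8s5

open MulAction Subgroup

/-- piece `s5` -/
theorem s5_of_index_two {G : Type*} [Group G] [Finite G] (N : Subgroup G) (hN : N.index = 2)
    (e : N ≃* alternatingGroup (Fin 5)) (hC : centralizer (N : Set G) = ⊥) :
    Nonempty (G ≃* Equiv.Perm (Fin 5)) := by
  classical
  have hn : N.Normal := Subgroup.normal_of_index_eq_two hN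
  let ψ : Equiv.Perm (Fin 5) ≃* MulAut (alternatingGroup (Fin 5)) :=
    MulEquiv.ofBijective _ (Cfsg.Agent.S2119.result 5 (by norm_num) (by norm_num))
  let φ : G →* MulAut N := MulAut.conjNormal
  have hinj : Function.Injective φ := by
    rw [injective_iff_map_eq_one]
    intro g hg
    have hgC : g ∈ centralizer (N : Set G) := by
      rw [mem_centralizer_iff]
      intro n hnN
      have h1 : φ g ⟨n, hnN⟩ = ⟨n, hnN⟩ := by rw [hg]; rfl
      have h2 : g * n * g⁻¹ = n := by
        have := congrArg Subtype.val h1
        rwa [MulAut.conjNormal_apply] at this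
      calc n * g = (g * n * g⁻¹) * g := by rw [h2]
        _ = g * n := by group
    rw [hC, mem_bot] at hgC
    exact hgC
  have hfin : Finite (MulAut N) := Finite.of_equiv _ (ψ.trans (MulAut.congr e.symm)).toEquiv
  have hcardG : Nat.card G = Nat.card (Equiv.Perm (Fin 5)) := by
    rw [← N.card_mul_index, hN, Nat.card_congr e.toEquiv, mul_comm, two_mul_nat_card_alternatingGroup]
  have hcardA : Nat.card (MulAut N) = Nat.card (Equiv.Perm (Fin 5)) :=
    (Nat.card_congr (ψ.trans (MulAut.congr e.symm)).toEquiv).symm
  have hbij : Function.Bijective φ := hinj.bijective_of_nat_card_le (by rw [hcardG, hcardA])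
  exact ⟨(MulEquiv.ofBijective φ hbij).trans ((MulAut.congr e).trans ψ.symm)⟩

end Cfsg.Agent.Lib.Helper40P8s5
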