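import Cfsg.Agent.Lib.Helper96SpTv
import Cfsg.Agent.Lib.Helper97SpRed
import Cfsg.Agent.Lib.Helper58GD

set_option autoImplicit false
set_option linter.unusedSectionVars false

/-! PROJECT 3 = ASCH-SP, PART D, piece D_fieldSA: a self-adjoint field `K` of degree `r` with `f (k v) v = 0`
forces `2 r ∣ n`. -/

namespace Cfsg.Agent.Lib.Helper40SpDFieldSA

open Cfsg Cfsg.Geo Matrix
open Cfsg.Agent.Lib.Helper97GBase Cfsg.Agent.Lib.Helper96SpDefs Cfsg.Agent.Lib.Helper97SpRed
open scoped MatrixGroups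

variable {ι : Type} [Fintype ι] [DecidableEq ι] {F : Type*} [Field F]
variable {f : (ι → F) → (ι → F) → F}

/-- `U` is invariant under the subalgebra `K` -/
def KInv (K : Subalgebra F (Matrix ι ι F)) (U : Submodule F (ι → F)) : Prop :=
  ∀ k ∈ K, ∀ u ∈ U, k *ᵥ u ∈ U

/-- the dimension of a `K`-invariant subspace is divisible by the degree of the field `K` -/
theorem dvd_finrank_of_KInv [Finite F] {r : ℕ} {K : Subalgebra F (Matrix ι ι F)} (hK : IsFieldSubalgebra r K)
    {U : Submodule F (ι → F)} (hU : KInv K U) : r ∣ Module.finrank F U := by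
  classical
  rcases isEmpty_or_nonempty ι with hn | hn
  · have : Module.finrank F U = 0 := by
      have h1 := Submodule.finrank_le U
      rw [Module.finrank_fintype_fun_eq_card, Fintype.card_eq_zero] at h1
      omega
    rw [this]
    exact dvd_zero r
  have : Fintype F := Fintype.ofFinite F
  let φ : K →+* Module.End F (ι → F) :=
    (((Matrix.toLinAlgEquiv' : Matrix ι ι F ≃ₐ[F] _) : _ →ₐ[F] _).comp K.val).toRingHom
  let inst : Module K (ι → F) := Module.compHom (ι → F) φ
  have hF : IsField K := by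
    refine ⟨exists_pair_ne K, fun a b => Subtype.ext (hK.comm a a.2 b b.2), ?_⟩
    intro a ha
    obtain ⟨y, hy, hxy⟩ := hK.inv a a.2 (fun h => ha (Subtype.ext h))
    exact ⟨⟨y, hy⟩, Subtype.ext hxy⟩
  let U' : Submodule K (ι → F) :=
    { carrier := U
      add_mem' := fun ha hb => U.add_mem ha hb
      zero_mem' := U.zero_mem
      smul_mem' := fun k u hu => hU k k.2 u hu }
  apply Cfsg.Agent.Lib.Helper58GD.dvd_of_isField_module (K := K) (V := U') hF (Fintype.card F) r
    (Module.finrank F U) Fintype.one_lt_card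
  · rw [Module.natCard_eq_pow_finrank (K := F), Nat.card_eq_fintype_card, hK.finrank_eq]
  · have h1 := Module.natCard_eq_pow_finrank (K := F) (V := U)
    rw [Nat.card_eq_fintype_card (α := F)] at h1
    exact h1

/-- the map `k ↦ k v` -/
def evalAt (v : ι → F) : Matrix ι ι F →ₗ[F] (ι → F) where
  toFun k := k *ᵥ v
  map_add' a b := Matrix.add_mulVec a b v
  map_smul' c a := Matrix.smul_mulVec c a v

/-- the `K`-span of `v` -/
def Kspan (K : Subalgebra F (Matrix ι ι F)) (v : ι → F) : Submodule F (ι → F) :=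
  (Subalgebra.toSubmodule K).map (evalAt v)

lemma mem_Kspan {K : Subalgebra F (Matrix ι ι F)} {v x : ι → F} :
    x ∈ Kspan K v ↔ ∃ k ∈ K, k *ᵥ v = x := Iff.rfl

/-- a `K`-invariant totally singular subspace lies in a `K`-invariant subspace `U` with `U = U^⊥` -/
theorem exists_lagrangian (hf : IsSymplecticForm f) {K : Subalgebra F (Matrix ι ι F)}
    (hsa : IsSelfAdjointFor f K) (hz : ∀ k ∈ K, ∀ v, f (k *ᵥ v) v = 0) :
    ∀ (m : ℕ) (U : Submodule F (ι → F)), KInv K U → U ≤ perp hf U → Fintype.card ι - Module.finrank F U = m →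
      ∃ U' : Submodule F (ι → F), KInv K U' ∧ U' = perp hf U' := by
  intro m
  induction m using Nat.strong_induction_on with
  | _ m ih =>
    intro U hU hts hm
    by_cases heq : U = perp hf U
    · exact ⟨U, hU, heq⟩
    have hlt : U < perp hf U := lt_of_le_of_ne hts heq
    obtain ⟨v, hv, hvU⟩ := SetLike.exists_of_lt hlt
    have hlt2 : U < U ⊔ Kspan K v := by
      apply lt_of_le_of_ne le_sup_left
      intro h
      apply hvU
      rw [h]
      exact Submodule.mem_sup_right ⟨1, K.one_mem, Matrix.one_mulVec v⟩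
    have hfr := Submodule.finrank_lt_finrank_of_lt hlt2
    have hle := Submodule.finrank_le (U ⊔ Kspan K v)
    rw [Module.finrank_fintype_fun_eq_card] at hle
    refine ih (Fintype.card ι - Module.finrank F (U ⊔ Kspan K v : Submodule F (ι → F))) (by omega)
      (U ⊔ Kspan K v) ?_ ?_ rfl
    · intro k hk x hx
      obtain ⟨u, hu, y, ⟨k', hk', rfl⟩, rfl⟩ := Submodule.mem_sup.1 hx
      rw [Matrix.mulVec_add]
      refine Submodule.add_mem _ (Submodule.mem_sup_left (hU k hk u hu)) (Submodule.mem_sup_right ?_)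
      exact ⟨k * k', K.mul_mem hk hk', (Matrix.mulVec_mulVec _ _ _).symm⟩
    · intro x hx
      rw [mem_perp]
      intro y hy
      obtain ⟨u, hu, _, ⟨k, hk, rfl⟩, rfl⟩ := Submodule.mem_sup.1 hx
      obtain ⟨u', hu', _, ⟨k', hk', rfl⟩, rfl⟩ := Submodule.mem_sup.1 hy
      have e1 : f u' u = 0 := (mem_perp hf).1 (hts hu) u' hu'
      have e2 : f u' (k *ᵥ v) = 0 := by
        rw [← hsa k hk]
        exact (mem_perp hf).1 hv _ (hU k hk u' hu')
      have e3 : f (k' *ᵥ v) u = 0 := by
        rw [hf.skew, ← hsa k' hk', (mem_perp hf).1 hv _ (hU k' hk' u hu), neg_zero]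
      have e4 : f (k' *ᵥ v) (k *ᵥ v) = 0 := by
        rw [← hsa k hk, Matrix.mulVec_mulVec]
        exact hz _ (K.mul_mem hk hk') v
      change f (u' + k' *ᵥ v) (u + k *ᵥ v) = 0
      rw [hf.bilinear.add_left, hf.bilinear.add_right, hf.bilinear.add_right, e1, e2, e3, e4]
      simp

/-- [D_fieldSA] -/
theorem fieldSA_dvd [Finite F] (hf : IsSymplecticForm f) {r : ℕ} {K : Subalgebra F (Matrix ι ι F)}
    (hK : IsFieldSubalgebra r K) (hsa : IsSelfAdjointFor f K) (hz : ∀ k ∈ K, ∀ v, f (k *ᵥ v) v = 0) :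
    2 * r ∣ Fintype.card ι := by
  obtain ⟨U, hU, heq⟩ := exists_lagrangian hf hsa hz _ ⊥
    (by
      intro k _ u hu
      rw [Submodule.mem_bot] at hu
      rw [hu, Matrix.mulVec_zero]
      exact Submodule.zero_mem _) bot_le rfl
  have h1 := finrank_perp hf U
  rw [← heq] at h1
  obtain ⟨d, hd⟩ := dvd_finrank_of_KInv hK hU
  refine ⟨d, ?_⟩
  rw [← h1, hd]
  ring

end Cfsg.Agent.Lib.Helper40SpDFieldSA
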