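import Cfsg.Agent.Lib.Helper96SpTv
import Cfsg.Agent.Lib.Helper95SpTenstwo
import Cfsg.Agent.Lib.Helper97SpFieldeven
import Cfsg.Agent.Lib.Helper97SpTv
import Cfsg.Agent.Lib.Helper97SpRed
import Cfsg.Agent.Lib.Helper40SpDPair3

set_option autoImplicit false
set_option linter.unusedSectionVars false
set_option linter.unusedSimpArgs false

/-! PROJECT 3 = ASCH-SP, PART D for `Sp_4(3)`, piece D_fieldU3a: normal form of a unitary type quadratic field. -/

namespace Cfsg.Agent.Lib.Helper40SpDFieldU3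

open Cfsg Cfsg.Geo Matrix
open Cfsg.Agent.Lib.Helper97GBase Cfsg.Agent.Lib.Helper97GCore
  Cfsg.Agent.Lib.Helper98AschGDefs Cfsg.Agent.Lib.Helper98AschGBasic Cfsg.Agent.Lib.Helper96SpDefs
  Cfsg.Agent.Lib.Helper95SpTenstwo Cfsg.Agent.Lib.Helper40SpDPair3
open scoped MatrixGroups Kronecker

variable {ι : Type} [Fintype ι] [DecidableEq ι] {F : Type*} [Field F]
variable {f : (ι → F) → (ι → F) → F}

/-- step 1: an element `i` of `K` with `i² = -1` and adjoint `-i` -/
lemma exists_i [Fintype F] (hq : Fintype.card F = 3) (hf : IsSymplecticForm f)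
    {K : Subalgebra F (Matrix ι ι F)} (hK : IsFieldSubalgebra 2 K)
    (hac : IsAdjointClosedFor f K) (hnsa : ¬ IsSelfAdjointFor f K) :
    ∃ i ∈ K, i * i = -1 ∧ IsAdj f i (-i) := by
  obtain ⟨h30, h3⟩ := three_cases hq
  have hx : ∃ x ∈ K, ¬ ∀ u v, f (x *ᵥ u) v = f u (x *ᵥ v) := by
    by_contra hcon
    push Not at hcon
    exact hnsa hcon
  obtain ⟨k, hkK, hkns⟩ := hx
  obtain ⟨k', hk'K, hkk'⟩ := hac k hkK
  replace hkk' : IsAdj f k k' := hkk'
  set δ : Matrix ι ι F := k - k' with hδ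
  have hδK : δ ∈ K := K.sub_mem hkK hk'K
  have hadj : IsAdj f δ (-δ) := by
    have := hkk'.sub hf.bilinear (hkk'.symm hf)
    rwa [show k' - k = -δ by rw [hδ]; abel] at this
  have hδ0 : δ ≠ 0 := by
    intro h0
    have : k = k' := sub_eq_zero.1 h0
    rw [← this] at hkk'
    exact hkns hkk'
  have hsq : IsAdj f (δ * δ) (δ * δ) := by
    have := hadj.mul hadj
    rwa [neg_mul_neg] at this
  obtain ⟨c, hc⟩ := Cfsg.Agent.Lib.Helper97SpFieldeven.selfAdj_scalar hf.bilinear hK hnsa (K.mul_mem hδK hδK) hsq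
  obtain ⟨y, hyK, hy⟩ := hK.inv δ hδK hδ0
  rcases h3 c with rfl | rfl | rfl
  · exfalso
    apply hδ0
    calc δ = δ * (δ * y) := by rw [hy, mul_one]
      _ = (δ * δ) * y := by rw [mul_assoc]
      _ = 0 := by rw [hc, zero_smul, zero_mul]
  · exfalso
    rw [one_smul] at hc
    have hprod : (δ - 1) * (δ + 1) = 0 := by
      rw [sub_mul, mul_add, mul_one, one_mul, hc]
      abel
    have hsc : IsAdj f δ δ := by
      by_cases h1 : δ - 1 = 0
      · rw [sub_eq_zero.1 h1]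
        exact IsAdj.one
      · obtain ⟨z, hzK, hz⟩ := hK.inv _ (K.sub_mem hδK K.one_mem) h1
        have hz' : z * (δ - 1) = 1 := by
          rw [hK.comm z hzK _ (K.sub_mem hδK K.one_mem)]; exact hz
        have h2 : δ + 1 = 0 := by
          calc δ + 1 = (z * (δ - 1)) * (δ + 1) := by rw [hz', one_mul]
            _ = 0 := by rw [mul_assoc, hprod, mul_zero]
        rw [eq_neg_of_add_eq_zero_left h2]
        exact IsAdj.one.neg hf.bilinear
    have h4 : δ = -δ := hsc.unique hf.bilinear hf.nondegenerate hadj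
    apply hδ0
    have h5 : (2 : F) • δ = 0 := by
      rw [two_smul]
      nth_rewrite 2 [h4]
      exact add_neg_cancel δ
    have h2 : (2 : F) ≠ 0 := by
      intro h
      have : (1 : F) = 0 := by linear_combination h30 - h
      exact one_ne_zero this
    exact (smul_eq_zero.1 h5).resolve_left h2
  · exact ⟨δ, hδK, by rw [hc, neg_smul, one_smul], hadj⟩

/-- step 2: on an `i`-invariant subspace where `f` is not zero, `Q v = f (i v) v` takes the value 1 -/
lemma exists_Q_one [Fintype F] (hq : Fintype.card F = 3) (hf : IsSymplecticForm f)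
    {i : Matrix ι ι F} (hii : i * i = -1) (hadj : IsAdj f i (-i)) (W : Submodule F (ι → F))
    (hW : ∀ w ∈ W, i *ᵥ w ∈ W) {w w' : ι → F} (hw : w ∈ W) (hw' : w' ∈ W) (hne : f w w' ≠ 0) :
    ∃ u ∈ W, f (i *ᵥ u) u = 1 := by
  obtain ⟨h30, h3⟩ := three_cases hq
  have hsymm : ∀ x y, f (i *ᵥ x) y = f (i *ᵥ y) x := by
    intro x y
    rw [hadj x y, Matrix.neg_mulVec, bil_neg_right hf.bilinear, hf.skew (i *ᵥ y) x]
  have hiiv : ∀ x, i *ᵥ (i *ᵥ x) = -x := by
    intro x
    rw [Matrix.mulVec_mulVec, hii, Matrix.neg_mulVec, Matrix.one_mulVec]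
  -- some vector with `Q ≠ 0`
  have h1 : ∃ v ∈ W, f (i *ᵥ v) v ≠ 0 := by
    by_contra hcon
    push Not at hcon
    set z : ι → F := -(i *ᵥ w) with hz
    have hzW : z ∈ W := W.neg_mem (hW w hw)
    have hiz : i *ᵥ z = w := by rw [hz, Matrix.mulVec_neg, hiiv, neg_neg]
    have e1 := hcon (z + w') (W.add_mem hzW hw')
    rw [Matrix.mulVec_add, hf.bilinear.add_left, hf.bilinear.add_right, hf.bilinear.add_right, hcon z hzW,
      hcon w' hw', hsymm w' z, hiz] at e1
    apply hne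
    linear_combination -e1 + f w w' * h30
  obtain ⟨v, hvW, hv⟩ := h1
  rcases h3 (f (i *ᵥ v) v) with h | h | h
  · exact absurd h hv
  · exact ⟨v, hvW, h⟩
  · refine ⟨v + i *ᵥ v, W.add_mem hvW (hW v hvW), ?_⟩
    rw [Matrix.mulVec_add, hiiv, hf.bilinear.add_left, hf.bilinear.add_right, hf.bilinear.add_right,
      bil_neg_left hf.bilinear, bil_neg_left hf.bilinear, hf.alternating, hf.alternating, hf.skew v (i *ᵥ v), h]
    linear_combination -h30

/-- a change of basis with prescribed independent columns -/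
lemma exists_P {κ : Type} [Fintype κ] [DecidableEq κ] (e : ι ≃ κ) (B : κ → ι → F)
    (hB : ∀ x : κ → F, ∑ a, x a • B a = 0 → x = 0) :
    ∃ P : GL ι F, ∀ x : κ → F, (P : Matrix ι ι F) *ᵥ (x ∘ e) = ∑ a, x a • B a := by
  set M : Matrix ι ι F := fun r c => B (e c) r with hM
  have hMv : ∀ x : κ → F, M *ᵥ (x ∘ e) = ∑ a, x a • B a := by
    intro x
    funext r
    rw [Finset.sum_apply]
    simp only [Matrix.mulVec, dotProduct, hM, Function.comp_apply, Pi.smul_apply, smul_eq_mul]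
    rw [← Equiv.sum_comp e]
    apply Finset.sum_congr rfl
    intro c _
    ring
  have hinj : Function.Injective M.mulVec := by
    intro y y' hyy
    have h1 : M *ᵥ (((y - y') ∘ e.symm) ∘ e) = 0 := by
      have : ((y - y') ∘ e.symm) ∘ e = y - y' := by
        funext c; simp
      rw [this, Matrix.mulVec_sub, sub_eq_zero]
      exact hyy
    rw [hMv] at h1
    have h2 := hB _ h1
    funext c
    have h3 := congrFun h2 (e c)
    simp only [Function.comp_apply, Equiv.symm_apply_apply, Pi.sub_apply, Pi.zero_apply] at h3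
    exact sub_eq_zero.1 h3
  have hunit : IsUnit M := Matrix.mulVec_injective_iff_isUnit.1 hinj
  exact ⟨hunit.unit, fun x => by rw [IsUnit.unit_spec]; exact hMv x⟩

/-- step 3: the two vectors -/
lemma exists_u [Fintype F] (hq : Fintype.card F = 3) (hn : Fintype.card ι = 4) (hf : IsSymplecticForm f)
    {i : Matrix ι ι F} (hii : i * i = -1) (hadj : IsAdj f i (-i)) :
    ∃ u₁ u₂ : ι → F, f (i *ᵥ u₁) u₁ = 1 ∧ f (i *ᵥ u₂) u₂ = 1 ∧ f u₂ u₁ = 0 ∧ f u₂ (i *ᵥ u₁) = 0 := by
  have hne : Nonempty ι := Fintype.card_pos_iff.1 (by omega)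
  have hiiv : ∀ x, i *ᵥ (i *ᵥ x) = -x := by
    intro x
    rw [Matrix.mulVec_mulVec, hii, Matrix.neg_mulVec, Matrix.one_mulVec]
  obtain ⟨j⟩ := hne
  have hs0 : (Pi.single j 1 : ι → F) ≠ 0 := by
    intro h0
    have := congrFun h0 j
    simp at this
  obtain ⟨x, hx⟩ := (hf.nondegenerate _ hs0).1
  obtain ⟨u₁, -, hu₁⟩ := exists_Q_one hq hf hii hadj ⊤ (fun _ _ => Submodule.mem_top)
    (Submodule.mem_top (x := x)) (Submodule.mem_top (x := Pi.single j 1)) hx
  -- the orthogonal complement of `⟨u₁, i u₁⟩`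
  let W : Submodule F (ι → F) :=
    { carrier := {v | f v u₁ = 0 ∧ f v (i *ᵥ u₁) = 0}
      add_mem' := by
        rintro a b ⟨ha1, ha2⟩ ⟨hb1, hb2⟩
        exact ⟨by rw [hf.bilinear.add_left, ha1, hb1, add_zero], by rw [hf.bilinear.add_left, ha2, hb2, add_zero]⟩
      zero_mem' := ⟨bil_zero_left hf.bilinear _, bil_zero_left hf.bilinear _⟩
      smul_mem' := by
        rintro c a ⟨ha1, ha2⟩
        exact ⟨by rw [hf.bilinear.smul_left, ha1, mul_zero], by rw [hf.bilinear.smul_left, ha2, mul_zero]⟩ }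
  have hWi : ∀ w ∈ W, i *ᵥ w ∈ W := by
    rintro w ⟨h1, h2⟩
    refine ⟨?_, ?_⟩
    · rw [hadj w u₁, Matrix.neg_mulVec, bil_neg_right hf.bilinear, h2, neg_zero]
    · rw [hadj w (i *ᵥ u₁), Matrix.neg_mulVec, hiiv, neg_neg, h1]
  obtain ⟨w, hw0, hw1, hw2⟩ := Cfsg.Agent.Lib.Helper97SpTv.exists_ker_two (F := F) (ι := ι) (by omega)
    ((Cfsg.Agent.Lib.Helper97SpRed.bilF hf.bilinear).flip u₁)
    ((Cfsg.Agent.Lib.Helper97SpRed.bilF hf.bilinear).flip (i *ᵥ u₁))
  replace hw1 : f w u₁ = 0 := hw1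
  replace hw2 : f w (i *ᵥ u₁) = 0 := hw2
  obtain ⟨y, hy⟩ := (hf.nondegenerate w hw0).2
  have hu₁' : f u₁ (i *ᵥ u₁) = -1 := by rw [hf.skew, hu₁]
  set y' : ι → F := y + f y (i *ᵥ u₁) • u₁ - f y u₁ • (i *ᵥ u₁) with hy'
  have hy'W : y' ∈ W := by
    refine ⟨?_, ?_⟩
    · rw [hy', bil_sub_left hf.bilinear, hf.bilinear.add_left, hf.bilinear.smul_left, hf.bilinear.smul_left,
        hf.alternating, hu₁]
      ring
    · rw [hy', bil_sub_left hf.bilinear, hf.bilinear.add_left, hf.bilinear.smul_left, hf.bilinear.smul_left,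
        hf.alternating, hu₁']
      ring
  have hwy' : f w y' ≠ 0 := by
    rw [hy', bil_sub_right hf.bilinear, hf.bilinear.add_right, hf.bilinear.smul_right, hf.bilinear.smul_right,
      hw1, hw2]
    simpa using hy
  obtain ⟨u₂, hu₂W, hu₂⟩ := exists_Q_one hq hf hii hadj W hWi (show w ∈ W from ⟨hw1, hw2⟩) hy'W hwy'
  exact ⟨u₁, u₂, hu₁, hu₂, hu₂W.1, hu₂W.2⟩

/-- [D_fieldU3a] normal form. -/
theorem fieldU3_normal_form [Fintype F] (hq : Fintype.card F = 3) (hn : Fintype.card ι = 4)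
    (hf : IsSymplecticForm f) {K : Subalgebra F (Matrix ι ι F)} (hK : IsFieldSubalgebra 2 K)
    (hac : IsAdjointClosedFor f K) (hnsa : ¬ IsSelfAdjointFor f K) :
    ∃ (e : ι ≃ Fin 2 × Fin 2) (P : GL ι F), tens e P 1 (J0 F) ∈ K ∧
      ∀ x y : Fin 2 × Fin 2 → F, f ((P : Matrix ι ι F) *ᵥ (x ∘ e)) ((P : Matrix ι ι F) *ᵥ (y ∘ e)) =
        formOfGram id ((1 : Matrix (Fin 2) (Fin 2) F) ⊗ₖ J0 F) x y := by
  obtain ⟨i, hiK, hii, hadj⟩ := exists_i hq hf hK hac hnsa
  obtain ⟨u₁, u₂, q1, q2, o1, o2⟩ := exists_u hq hn hf hii hadj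
  have hiiv : ∀ x, i *ᵥ (i *ᵥ x) = -x := by
    intro x
    rw [Matrix.mulVec_mulVec, hii, Matrix.neg_mulVec, Matrix.one_mulVec]
  have hadj' : ∀ x y, f (i *ᵥ x) y = - f x (i *ᵥ y) := by
    intro x y
    rw [hadj x y, Matrix.neg_mulVec, bil_neg_right hf.bilinear]
  set v₁ : ι → F := i *ᵥ u₁ with hv₁
  set v₂ : ι → F := i *ᵥ u₂ with hv₂
  -- the Gram table
  have t11 : f u₁ u₁ = 0 := hf.alternating _
  have t12 : f u₁ v₁ = -1 := by rw [hf.skew, q1]
  have t13 : f u₁ u₂ = 0 := by rw [hf.skew, o1, neg_zero]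
  have t23 : f v₁ u₂ = 0 := by rw [hf.skew, o2, neg_zero]
  have t14 : f u₁ v₂ = 0 := by
    have := hadj' u₁ u₂
    rw [← hv₁, t23] at this
    rw [hv₂]
    linear_combination this
  have t22 : f v₁ v₁ = 0 := hf.alternating _
  have t24 : f v₁ v₂ = 0 := by rw [hv₁, hv₂, hadj', hiiv, bil_neg_right hf.bilinear, t13]; simp
  have t33 : f u₂ u₂ = 0 := hf.alternating _
  have t34 : f u₂ v₂ = -1 := by rw [hf.skew, q2]
  have t41 : f v₂ u₁ = 0 := by rw [hf.skew, t14, neg_zero]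
  have t42 : f v₂ v₁ = 0 := by rw [hf.skew, t24, neg_zero]
  have t44 : f v₂ v₂ = 0 := hf.alternating _
  set B : Fin 2 × Fin 2 → ι → F := fun κ => ![![u₁, -v₁], ![u₂, -v₂]] κ.1 κ.2 with hB
  have hsum : ∀ x : Fin 2 × Fin 2 → F, ∑ a, x a • B a =
      x (0, 0) • u₁ + x (0, 1) • (-v₁) + (x (1, 0) • u₂ + x (1, 1) • (-v₂)) := by
    intro x
    rw [Fintype.sum_prod_type, Fin.sum_univ_two, Fin.sum_univ_two, Fin.sum_univ_two]
    simp [hB]
  have hform : ∀ x y : Fin 2 × Fin 2 → F, f (∑ a, x a • B a) (∑ a, y a • B a) =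
      formOfGram id ((1 : Matrix (Fin 2) (Fin 2) F) ⊗ₖ J0 F) x y := by
    intro x y
    rw [hsum, hsum]
    unfold formOfGram
    simp only [Fintype.sum_prod_type, Fin.sum_univ_two, Matrix.kroneckerMap_apply, J0, id]
    simp only [hf.bilinear.add_left, hf.bilinear.add_right, hf.bilinear.smul_left, hf.bilinear.smul_right,
      bil_neg_left hf.bilinear, bil_neg_right hf.bilinear, t11, t12, t13, t14, q1, t22, t23, t24, o1, o2, t33, t34,
      t41, t42, q2, t44]
    simp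
  have hind : ∀ x : Fin 2 × Fin 2 → F, ∑ a, x a • B a = 0 → x = 0 := by
    intro x hx
    have hz : ∀ y : Fin 2 × Fin 2 → F, formOfGram id ((1 : Matrix (Fin 2) (Fin 2) F) ⊗ₖ J0 F) x y = 0 := by
      intro y
      rw [← hform, hx, bil_zero_left hf.bilinear]
    have hval : ∀ b : Fin 2 × Fin 2, formOfGram id ((1 : Matrix (Fin 2) (Fin 2) F) ⊗ₖ J0 F) x (Pi.single b 1) =
        ∑ a, x a * ((1 : Matrix (Fin 2) (Fin 2) F) ⊗ₖ J0 F) a b := by
      intro b
      unfold formOfGram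
      apply Finset.sum_congr rfl
      intro a _
      rw [Finset.sum_eq_single b]
      · simp
      · intro c _ hc
        simp [Pi.single_apply, hc]
      · simp
    have h00 := (hval (0, 1)).symm.trans (hz _)
    have h01 := (hval (0, 0)).symm.trans (hz _)
    have h10 := (hval (1, 1)).symm.trans (hz _)
    have h11 := (hval (1, 0)).symm.trans (hz _)
    simp only [Fintype.sum_prod_type, Fin.sum_univ_two, Matrix.kroneckerMap_apply, J0] at h00 h01 h10 h11
    simp at h00 h01 h10 h11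
    funext ⟨a, b⟩
    fin_cases a <;> fin_cases b
    · exact h00
    · exact h01
    · exact h10
    · exact h11
  let e : ι ≃ Fin 2 × Fin 2 := Fintype.equivOfCardEq (by rw [hn]; simp)
  obtain ⟨P, hP⟩ := exists_P e B hind
  refine ⟨e, P, ?_, ?_⟩
  · have heq : tens e P 1 (J0 F) = i := by
      apply matrix_ext_mulVec
      intro v
      obtain ⟨x, rfl⟩ := Cfsg.Agent.Lib.Helper96SpDefs.exists_coords e P v
      unfold tens
      rw [Cfsg.Agent.Lib.Helper96SpDefs.conj_reindex_mulVec, hP, hP, hsum, hsum]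
      simp only [Matrix.mulVec_add, Matrix.mulVec_smul, Matrix.mulVec_neg, hv₁, hv₂, hiiv]
      simp only [Matrix.mulVec, dotProduct, Fintype.sum_prod_type, Fin.sum_univ_two, Matrix.kroneckerMap_apply, J0]
      simp
      abel
    rw [heq]
    exact hiK
  · intro x y
    rw [hP, hP, hform]

end Cfsg.Agent.Lib.Helper40SpDFieldU3
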