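import Mathlib
import Cfsg.Agent.Lib.Helper58SylDefs

set_option autoImplicit false

/-! PROJECT 58, piece `congr`. -/

namespace Cfsg.Agent.Lib.Helper40Sylcongr

open Cfsg.Agent.Lib.Helper58SylDefs

/-- membership in the commutator subgroup of the subtype, in ambient form -/
theorem mem_commutator_iff {G : Type*} [Group G] (P : Subgroup G) (x : P) :
    x ∈ commutator P ↔ (x : G) ∈ ⁅P, P⁆ := by
  rw [← Subgroup.map_subtype_commutator]
  constructor
  · intro h
    exact ⟨x, h, rfl⟩
  · rintro ⟨z, hz, hzx⟩
    have : z = x := Subtype.ext hzx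
    rwa [← this]

/-- ambient form of `ElemAb`. -/
theorem elemAb_iff {G : Type*} [Group G] (p : ℕ) :
    ElemAb p G ↔ ∀ P : Sylow p G, ∀ x ∈ (P : Subgroup G),
      x ^ p ∈ ⁅(P : Subgroup G), (P : Subgroup G)⁆ := by
  constructor
  · intro h P x hx
    have := (mem_commutator_iff (P : Subgroup G) _).1 (h P ⟨x, hx⟩)
    simpa using this
  · intro h P x
    rw [mem_commutator_iff]
    simpa using h P x x.2

theorem elemAb_congr {G G' : Type*} [Group G] [Group G'] (p : ℕ) (e : G ≃* G')
    (h : ElemAb p G) : ElemAb p G' := by
  rw [elemAb_iff] at h ⊢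
  intro P' x hx
  have hr : (P' : Subgroup G') ≤ e.toMonoidHom.range := by
    intro y _
    exact ⟨e.symm y, by simp⟩
  let P : Sylow p G := P'.comapOfInjective e.toMonoidHom e.injective hr
  have hP : (P : Subgroup G) = (P' : Subgroup G').comap e.toMonoidHom := rfl
  have hmap : (P : Subgroup G).map e.toMonoidHom = P' := by
    rw [hP]
    exact Subgroup.map_comap_eq_self_of_surjective e.surjective _
  have h1 : e.symm x ∈ (P : Subgroup G) := by
    rw [hP, Subgroup.mem_comap]
    simpa using hx
  have h2 := Subgroup.mem_map_of_mem e.toMonoidHom (h P _ h1)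
  rw [Subgroup.map_commutator, hmap] at h2
  simpa using h2

theorem elemAb_commutator_congr {G G' : Type*} [Group G] [Group G'] (p : ℕ) (e : G ≃* G')
    (h : ElemAb p (commutator G)) : ElemAb p (commutator G') := by
  have hm : (commutator G).map e.toMonoidHom = commutator G' := by
    rw [commutator_def, Subgroup.map_commutator, commutator_def,
      Subgroup.map_top_of_surjective _ e.surjective]
  exact elemAb_congr p ((e.subgroupMap (commutator G)).trans (MulEquiv.subgroupCongr hm)) h

end Cfsg.Agent.Lib.Helper40Sylcongr
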