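import Mathlib
import Cfsg.Agent.Lib.Helper58SylDefs
import Cfsg.Agent.Lib.Helper40Sylcongr
import Cfsg.Agent.Lib.Helper67Basic

set_option autoImplicit false

/-! PROJECT 58, piece `gen`. -/

namespace Cfsg.Agent.Lib.Helper40Sylgen

open Cfsg.Agent.Lib.Helper58SylDefs Cfsg.Agent.Lib.Helper40Sylcongr

/-- `x ↦ x ^ p` kills `P / P'` as soon as it kills generators. -/
theorem pow_mem_of_gen {G : Type*} [Group G] (p : ℕ) (P0 : Subgroup G)
    (Y : Set G) (hgen : P0 = Subgroup.closure Y) (hY : ∀ y ∈ Y, y ^ p ∈ ⁅P0, P0⁆) :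
    ∀ x ∈ P0, x ^ p ∈ ⁅P0, P0⁆ := by
  subst hgen
  let ψ : (Subgroup.closure Y) →* Abelianization (Subgroup.closure Y) :=
    (powMonoidHom p).comp Abelianization.of
  have h1 : (⊤ : Subgroup (Subgroup.closure Y)) ≤ ψ.ker := by
    rw [← Subgroup.closure_closure_coe_preimage, Subgroup.closure_le]
    intro y hy
    have hy' : (y : G) ∈ Y := hy
    have h2 : y ^ p ∈ commutator (Subgroup.closure Y) := by
      rw [mem_commutator_iff]
      simpa using hY _ hy'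
    rw [← Abelianization.ker_of, MonoidHom.mem_ker] at h2
    show ψ y = 1
    show (Abelianization.of y) ^ p = 1
    rw [← map_pow, h2]
  intro x hx
  have h3 : ψ ⟨x, hx⟩ = 1 := h1 (Subgroup.mem_top _)
  have h4 : (Abelianization.of (⟨x, hx⟩ : Subgroup.closure Y)) ^ p = 1 := h3
  rw [← map_pow, ← MonoidHom.mem_ker, Abelianization.ker_of, mem_commutator_iff] at h4
  simpa using h4

/-- it is enough to look at one Sylow subgroup. -/
theorem elemAb_of_sylow {G : Type*} [Group G] [Finite G] (p : ℕ) [Fact p.Prime] (P0 : Sylow p G)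
    (h : ∀ x ∈ (P0 : Subgroup G), x ^ p ∈ ⁅(P0 : Subgroup G), (P0 : Subgroup G)⁆) :
    ElemAb p G := by
  rw [elemAb_iff]
  intro P x hx
  obtain ⟨g, rfl⟩ := MulAction.exists_smul_eq G P0 P
  have hc : ((g • P0 : Sylow p G) : Subgroup G) =
      (P0 : Subgroup G).map (MulAut.conj g).toMonoidHom := by
    rw [Sylow.smul_def, Sylow.pointwise_smul_def]
    rfl
  rw [hc] at hx ⊢
  obtain ⟨y, hy, rfl⟩ := hx
  rw [← Subgroup.map_commutator, ← map_pow]
  exact Subgroup.mem_map_of_mem _ (h y hy)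

/-- a subgroup of the right order is a Sylow subgroup. -/
theorem exists_sylow_of_card {G : Type*} [Group G] [Finite G] (p : ℕ) [Fact p.Prime]
    (P0 : Subgroup G) (e : ℕ) (hP : Nat.card P0 = p ^ e) (hG : ¬ p ^ (e + 1) ∣ Nat.card G) :
    ∃ P : Sylow p G, (P : Subgroup G) = P0 := by
  have hp : p.Prime := Fact.out
  have hn : Nat.card G ≠ 0 := Nat.card_pos.ne'
  have h1 : p ^ e ∣ Nat.card G := hP ▸ Subgroup.card_subgroup_dvd_card P0
  rw [hp.pow_dvd_iff_le_factorization hn] at h1 hG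
  have he : e = (Nat.card G).factorization p := by omega
  exact ⟨Sylow.ofCard P0 (by rw [hP, ← he]), rfl⟩

theorem elemAb_of_gen {G : Type*} [Group G] [Finite G] (p : ℕ) [Fact p.Prime] (P0 : Subgroup G)
    (e : ℕ) (hP : Nat.card P0 = p ^ e) (hG : ¬ p ^ (e + 1) ∣ Nat.card G)
    (Y : Set G) (hgen : P0 = Subgroup.closure Y) (hY : ∀ y ∈ Y, y ^ p ∈ ⁅P0, P0⁆) :
    ElemAb p G := by
  obtain ⟨P, hPP⟩ := exists_sylow_of_card p P0 e hP hG
  apply elemAb_of_sylow p P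
  rw [hPP]
  exact pow_mem_of_gen p P0 Y hgen hY

theorem elemAb_normal {G : Type*} [Group G] [Finite G] (p : ℕ) [Fact p.Prime] (N : Subgroup G)
    [N.Normal] (S : Subgroup G) (e : ℕ) (hS : Nat.card S = p ^ e)
    (hG : ¬ p ^ (e + 1) ∣ Nat.card G) (Y : Set G) (hgen : S ⊓ N = Subgroup.closure Y)
    (hY : ∀ y ∈ Y, y ^ p ∈ ⁅S ⊓ N, S ⊓ N⁆) : ElemAb p N := by
  obtain ⟨P, hPS⟩ := exists_sylow_of_card p S e hS hG
  apply elemAb_of_sylow p (Cfsg.Agent.Lib.Helper67Basic.sylowInfNormal P N)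
  rw [Cfsg.Agent.Lib.Helper67Basic.sylowInfNormal_coe, hPS]
  intro x hx
  have h1 : (x : G) ∈ S ⊓ N := ⟨hx, x.2⟩
  have h2 := pow_mem_of_gen p (S ⊓ N) Y hgen hY _ h1
  rw [← Subgroup.subgroupOf_map_subtype, ← Subgroup.map_commutator] at h2
  obtain ⟨z, hz, hzx⟩ := h2
  have : z = x ^ p := Subtype.ext (by simpa using hzx)
  rwa [← this]

end Cfsg.Agent.Lib.Helper40Sylgen
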