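import Mathlib

set_option autoImplicit false

/-! PROJECT 58, piece `lemK`. -/

namespace Cfsg.Agent.Lib.Helper40SyllemK

theorem lemK {G : Type*} [Group G] (S P N R : Subgroup G) (X : Set G)
    (hS : S = Subgroup.closure X) (hnorm : ∀ s ∈ S, ∀ n ∈ N, s * n * s⁻¹ ∈ N) (hR : R ≤ S)
    (hX : ∀ x ∈ X, ∃ r ∈ R, x * r ∈ N) (hRP : R ⊓ P ≤ N) (hNP : N ≤ P) : S ⊓ P ≤ N := by
  have key : ∀ s ∈ Subgroup.closure X, ∃ r ∈ R, s * r ∈ N := by
    intro s hs
    induction hs using Subgroup.closure_induction with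
    | mem x hx => exact hX x hx
    | one => exact ⟨1, R.one_mem, by simp⟩
    | mul s t hs ht ihs iht =>
      obtain ⟨r, hr, h1⟩ := ihs
      obtain ⟨r', hr', h2⟩ := iht
      refine ⟨r' * r, R.mul_mem hr' hr, ?_⟩
      have h3 := hnorm s (hS ▸ hs) _ h2
      have h4 := N.mul_mem h3 h1
      have : s * (t * r') * s⁻¹ * (s * r) = s * t * (r' * r) := by group
      rwa [this] at h4
    | inv s hs ihs =>
      obtain ⟨r, hr, h1⟩ := ihs
      refine ⟨r⁻¹, R.inv_mem hr, ?_⟩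
      have h3 := N.inv_mem (hnorm r (hR hr) _ h1)
      have : (r * (s * r) * r⁻¹)⁻¹ = s⁻¹ * r⁻¹ := by group
      rwa [this] at h3
  rintro s ⟨hs, hsP⟩
  obtain ⟨r, hr, h1⟩ := key s (hS ▸ hs)
  have hrP : r ∈ P := by
    have := P.mul_mem (P.inv_mem hsP) (hNP h1)
    rwa [inv_mul_cancel_left] at this
  have hrN : r ∈ N := hRP ⟨hr, hrP⟩
  have := N.mul_mem h1 (N.inv_mem hrN)
  rwa [mul_inv_cancel_right] at this

end Cfsg.Agent.Lib.Helper40SyllemK
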