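import Cfsg.Agent.Lib.Helper40ConjFam

set_option autoImplicit false

namespace Cfsg.Agent.Lib.Helper40WellPlaced

open Subgroup Cfsg.Agent.Lib.Helper40Sylow Cfsg.Agent.Lib.Helper40Alperin Cfsg.Agent.Lib.Helper40Fusion
  Cfsg.Agent.Lib.Helper40ConjFam

variable {G : Type*} [Group G] {p : ℕ}

theorem functor_le {W : Subgroup G → Subgroup G} (hW : Cfsg.IsConjugacyFunctor p W) {P : Subgroup G}
    (hP : IsPGroup p P) : W P ≤ P := (hW P hP).1

theorem functor_ne_bot {W : Subgroup G → Subgroup G} (hW : Cfsg.IsConjugacyFunctor p W) {P : Subgroup G}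
    (hP : IsPGroup p P) (h : P ≠ ⊥) : W P ≠ ⊥ := (hW P hP).2.1 h

theorem functor_cj {W : Subgroup G → Subgroup G} (hW : Cfsg.IsConjugacyFunctor p W) {P : Subgroup G}
    (hP : IsPGroup p P) (g : G) : W (cj g P) = cj g (W P) := (hW P hP).2.2 g

theorem functor_rj {W : Subgroup G → Subgroup G} (hW : Cfsg.IsConjugacyFunctor p W) {P : Subgroup G}
    (hP : IsPGroup p P) (g : G) : W (rj g P) = rj g (W P) := functor_cj hW hP g⁻¹

/-- The normalizer of a `p`-subgroup normalizes its image under a conjugacy functor. -/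
theorem normalizer_le_normalizer_functor {W : Subgroup G → Subgroup G} (hW : Cfsg.IsConjugacyFunctor p W)
    {P : Subgroup G} (hP : IsPGroup p P) :
    Subgroup.normalizer (P : Set G) ≤ Subgroup.normalizer ((W P : Subgroup G) : Set G) := by
  intro g hg
  rw [mem_normalizer_iff_cj] at hg ⊢
  rw [← functor_cj hW hP, hg]

theorem tower_succ (W : Subgroup G → Subgroup G) (S T : Subgroup G) (i : ℕ) :
    Cfsg.functorTower W S T (i + 1) =
      Cfsg.functorTower W S (W (S ⊓ Subgroup.normalizer (T : Set G))) i := by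
  induction i with
  | zero => rfl
  | succ i ih =>
    change W (S ⊓ Subgroup.normalizer ((Cfsg.functorTower W S T (i + 1) : Subgroup G) : Set G)) = _
    rw [ih]
    rfl

theorem isWellPlaced_iff {W : Subgroup G → Subgroup G} (hW : Cfsg.IsConjugacyFunctor p W) (S : Sylow p G)
    (T : Subgroup G) : Cfsg.IsWellPlaced p W (S : Subgroup G) T ↔
      T ≤ (S : Subgroup G) ∧ FullyNorm p (S : Subgroup G) T ∧
        Cfsg.IsWellPlaced p W (S : Subgroup G) (W ((S : Subgroup G) ⊓ Subgroup.normalizer (T : Set G))) := by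
  constructor
  · rintro ⟨h1, h2⟩
    refine ⟨h1, fullyNorm_iff.mpr (h2 0), ?_, ?_⟩
    · exact (functor_le hW (S.2.to_le inf_le_left)).trans inf_le_left
    · intro i
      rw [← tower_succ]
      exact h2 (i + 1)
  · rintro ⟨h1, h2, h3⟩
    refine ⟨h1, ?_⟩
    intro i
    cases i with
    | zero => exact h2.2.2
    | succ i =>
      rw [tower_succ]
      exact h3.2 i

variable [Finite G] [Fact p.Prime]

theorem fullyNorm_of_le_normalizer (S : Sylow p G) {T : Subgroup G}
    (h : (S : Subgroup G) ≤ Subgroup.normalizer (T : Set G)) : FullyNorm p (S : Subgroup G) T := by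
  have := isSylowIn_of_le S h
  rwa [FullyNorm, inf_of_le_left h]

theorem isWellPlaced_functor_top {W : Subgroup G → Subgroup G} (hW : Cfsg.IsConjugacyFunctor p W)
    (S : Sylow p G) : Cfsg.IsWellPlaced p W (S : Subgroup G) (W (S : Subgroup G)) := by
  have hn : (S : Subgroup G) ≤ Subgroup.normalizer ((W (S : Subgroup G) : Subgroup G) : Set G) :=
    Subgroup.le_normalizer.trans (normalizer_le_normalizer_functor hW S.2)
  have htower : ∀ i, Cfsg.functorTower W (S : Subgroup G) (W (S : Subgroup G)) i = W (S : Subgroup G) := by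
    intro i
    induction i with
    | zero => rfl
    | succ i ih =>
      change W ((S : Subgroup G) ⊓ Subgroup.normalizer
        ((Cfsg.functorTower W (S : Subgroup G) (W (S : Subgroup G)) i : Subgroup G) : Set G)) = _
      rw [ih, inf_of_le_left hn]
  refine ⟨functor_le hW S.2, fun i => ?_⟩
  rw [htower]
  exact (fullyNorm_of_le_normalizer S hn).2.2

theorem isWellPlaced_of_le_normalizer {W : Subgroup G → Subgroup G} (hW : Cfsg.IsConjugacyFunctor p W)
    (S : Sylow p G) {T : Subgroup G} (hT : T ≤ (S : Subgroup G))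
    (h : (S : Subgroup G) ≤ Subgroup.normalizer (T : Set G)) : Cfsg.IsWellPlaced p W (S : Subgroup G) T := by
  rw [isWellPlaced_iff hW]
  refine ⟨hT, fullyNorm_of_le_normalizer S h, ?_⟩
  rw [inf_of_le_left h]
  exact isWellPlaced_functor_top hW S

/-- For `S₁ = N_S(T) < S`, the normalizer in `S` of `W(S₁)` is strictly larger than `S₁`. -/
theorem card_lt_card_normalizer_functor {W : Subgroup G → Subgroup G} (hW : Cfsg.IsConjugacyFunctor p W)
    (S : Sylow p G) {S₁ : Subgroup G} (h : S₁ < (S : Subgroup G)) :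
    Nat.card S₁ < Nat.card ((S : Subgroup G) ⊓ Subgroup.normalizer ((W S₁ : Subgroup G) : Set G) : Subgroup G) :=
  lt_of_lt_of_le (card_lt_card_inf_normalizer S.2 h)
    (Subgroup.card_le_of_le (inf_le_inf_left _ (normalizer_le_normalizer_functor hW (S.2.to_le h.le))))

theorem exists_wellPlaced_aux {W : Subgroup G → Subgroup G} (hW : Cfsg.IsConjugacyFunctor p W)
    (S : Sylow p G) : ∀ n : ℕ, ∀ T : Subgroup G, T ≤ (S : Subgroup G) → FullyNorm p (S : Subgroup G) T →
      Nat.card (S : Subgroup G) - Nat.card ((S : Subgroup G) ⊓ Subgroup.normalizer (T : Set G) : Subgroup G) = n →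
      ∃ g : G, Cfsg.IsWellPlaced p W (S : Subgroup G) (rj g T) := by
  intro n
  induction n using Nat.strong_induction_on with
  | _ n ih =>
    intro T hT hfn hn
    set S₁ : Subgroup G := (S : Subgroup G) ⊓ Subgroup.normalizer (T : Set G) with hS₁
    have hS₁p : IsPGroup p S₁ := S.2.to_le inf_le_left
    by_cases hS : S₁ = (S : Subgroup G)
    · refine ⟨1, ?_⟩
      rw [rj_one]
      apply isWellPlaced_of_le_normalizer hW S hT
      rw [← hS]; exact inf_le_right
    · have hlt : S₁ < (S : Subgroup G) := lt_of_le_of_ne inf_le_left hS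
      have hcard := card_lt_card_normalizer_functor hW S hlt
      have hT₁ : W S₁ ≤ (S : Subgroup G) := (functor_le hW hS₁p).trans inf_le_left
      obtain ⟨k, hk1, hk2, hk3⟩ := exists_fullyNorm_conj S (W S₁) hT₁
      have hcard2 : Nat.card S₁ <
          Nat.card ((S : Subgroup G) ⊓ Subgroup.normalizer ((rj k (W S₁) : Subgroup G) : Set G) : Subgroup G) :=
        lt_of_lt_of_le hcard (card_le_of_rj_le hk3)
      have hle : Nat.card ((S : Subgroup G) ⊓ Subgroup.normalizer ((rj k (W S₁) : Subgroup G) : Set G) : Subgroup G) ≤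
          Nat.card (S : Subgroup G) := Subgroup.card_le_of_le inf_le_left
      obtain ⟨g₁, hg₁⟩ := ih _ (by omega) (rj k (W S₁)) hk1 hk2 rfl
      rw [← rj_mul] at hg₁
      set g := k * g₁ with hg
      have hV : FullyNorm p (S : Subgroup G) (rj g (W S₁)) := ((isWellPlaced_iff hW S _).mp hg₁).2.1
      have h1 : rj g S₁ ≤ Subgroup.normalizer ((rj g (W S₁) : Subgroup G) : Set G) := by
        rw [normalizer_rj]
        exact rj_mono (Subgroup.le_normalizer.trans (normalizer_le_normalizer_functor hW hS₁p))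
      obtain ⟨h, hh, hle2⟩ := hV.exists_conj_le (isPGroup_cj hS₁p _) h1
      have e : ∀ X : Subgroup G, rj (g * h⁻¹) X = cj h (rj g X) := by
        intro X
        rw [rj_mul, rj, inv_inv]
      refine ⟨g * h⁻¹, ?_⟩
      have hsyl : IsSylowIn p (rj (g * h⁻¹) S₁) (Subgroup.normalizer ((rj (g * h⁻¹) T : Subgroup G) : Set G)) := by
        rw [normalizer_rj]
        exact hfn.cj _
      have hleS : rj (g * h⁻¹) S₁ ≤ (S : Subgroup G) := by
        rw [e]; exact hle2.trans inf_le_left
      have heq : rj (g * h⁻¹) S₁ =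
          (S : Subgroup G) ⊓ Subgroup.normalizer ((rj (g * h⁻¹) T : Subgroup G) : Set G) :=
        hsyl.eq_of_le (S.2.to_le inf_le_left) inf_le_right (le_inf hleS hsyl.1)
      rw [isWellPlaced_iff hW]
      refine ⟨(rj_mono (le_inf hT Subgroup.le_normalizer)).trans hleS, by
        rw [FullyNorm, ← heq]; exact hsyl, ?_⟩
      rw [← heq, functor_rj hW hS₁p, e, mem_normalizer_iff_cj.mp hh]
      exact hg₁

/-- Every subgroup of `S` has a well-placed conjugate. -/
theorem exists_wellPlaced {W : Subgroup G → Subgroup G} (hW : Cfsg.IsConjugacyFunctor p W)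
    (S : Sylow p G) (T : Subgroup G) (hT : T ≤ (S : Subgroup G)) :
    ∃ g : G, Cfsg.IsWellPlaced p W (S : Subgroup G) (rj g T) := by
  obtain ⟨k, hk1, hk2, -⟩ := exists_fullyNorm_conj S T hT
  obtain ⟨g, hg⟩ := exists_wellPlaced_aux hW S _ (rj k T) hk1 hk2 rfl
  refine ⟨k * g, ?_⟩
  rw [rj_mul]; exact hg

end Cfsg.Agent.Lib.Helper40WellPlaced
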