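import Mathlib

set_option autoImplicit false

/-! A₄ subgroups of GL₂(ℤ/2ᵏ) are conjugate (helper41, row S2874). -/

namespace Cfsg.Agent.H41A4GL


/-! ### Generators of `A₄` -/

/-- a 3-cycle -/
def a4w : alternatingGroup (Fin 4) :=
  ⟨Equiv.swap 0 1 * Equiv.swap 1 2, Equiv.Perm.mem_alternatingGroup.mpr (by decide)⟩

/-- a double transposition -/
def a4v : alternatingGroup (Fin 4) :=
  ⟨Equiv.swap 0 1 * Equiv.swap 2 3, Equiv.Perm.mem_alternatingGroup.mpr (by decide)⟩

theorem a4_key : ∀ g : alternatingGroup (Fin 4), ∃ i : Fin 3, ∃ j : Fin 2, ∃ l : Fin 3,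
      g = a4w^(i:ℕ) * a4v^(j:ℕ) * a4w^(l:ℕ) := by decide

theorem A4_gens : ∃ v w : alternatingGroup (Fin 4), w^3 = 1 ∧ w ≠ 1 ∧ v^2 = 1 ∧ v ≠ 1 ∧
    w*v*w*v = v*w*w ∧ Subgroup.closure {v, w} = ⊤ := by
  refine ⟨a4v, a4w, by decide, by decide, by decide, by decide, by decide, ?_⟩
  rw [eq_top_iff]
  intro g _
  obtain ⟨i, j, l, rfl⟩ := a4_key g
  have h1 : a4w ∈ Subgroup.closure {a4v, a4w} := Subgroup.subset_closure (by simp)
  have h2 : a4v ∈ Subgroup.closure {a4v, a4w} := Subgroup.subset_closure (by simp)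
  exact mul_mem (mul_mem (pow_mem h1 _) (pow_mem h2 _)) (pow_mem h1 _)

theorem exists_gens {G : Type*} [Group G] (H : Subgroup G)
    (e : H ≃* alternatingGroup (Fin 4)) :
    ∃ v w : G, w^3 = 1 ∧ w ≠ 1 ∧ v^2 = 1 ∧ v ≠ 1 ∧ w*v*w*v = v*w*w ∧
      H = Subgroup.closure {v, w} := by
  obtain ⟨v, w, h1, h2, h3, h4, h5, h6⟩ := A4_gens
  let f : alternatingGroup (Fin 4) →* G := H.subtype.comp e.symm.toMonoidHom
  have hf : Function.Injective f := H.subtype_injective.comp e.symm.injective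
  refine ⟨f v, f w, by rw [← map_pow, h1, map_one],
    fun h => h2 (hf (h.trans (map_one f).symm)), by rw [← map_pow, h3, map_one],
    fun h => h4 (hf (h.trans (map_one f).symm)), by simp only [← map_mul, h5], ?_⟩
  have h7 : Subgroup.map f ⊤ = H := by
    ext x
    constructor
    · rintro ⟨y, _, rfl⟩
      exact (e.symm y).2
    · intro hx
      exact ⟨e ⟨x, hx⟩, trivial, by simp [f]⟩
  rw [← h7, ← h6, MonoidHom.map_closure, Set.image_pair]



/-! ### The ring `ZMod (2^k)` -/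

/-- data of a "2-adic-like" ring -/
structure ParData (R : Type*) [CommRing R] where
  par : R →+* ZMod 2
  unit_of : ∀ x, par x = 1 → IsUnit x
  h : R
  two_h : 2 * h = 0
  h_sq : h * h = 0
  tors : ∀ x, 2 * x = 0 → x = 0 ∨ x = h

theorem zmod_unit_of (k : ℕ) (hk : 1 ≤ k) (x : ZMod (2^k))
    (hx : ZMod.castHom (dvd_pow_self 2 (by omega : k ≠ 0)) (ZMod 2) x = 1) : IsUnit x := by
  haveI : NeZero (2^k) := ⟨by positivity⟩
  obtain ⟨n, rfl⟩ : ∃ n : ℕ, x = (n : ZMod (2^k)) := ⟨x.val, (ZMod.natCast_zmod_val x).symm⟩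
  rw [map_natCast, ZMod.natCast_eq_one_iff_odd] at hx
  rw [ZMod.isUnit_iff_coprime]
  exact Nat.Coprime.pow_right k (Nat.coprime_two_right.mpr hx)

theorem zmod_tors (k : ℕ) (hk : 1 ≤ k) (x : ZMod (2^k)) (hx : 2 * x = 0) :
    x = 0 ∨ x = 2^(k-1) := by
  haveI : NeZero (2^k) := ⟨by positivity⟩
  obtain ⟨n, hn, rfl⟩ : ∃ n : ℕ, n < 2^k ∧ x = (n : ZMod (2^k)) :=
    ⟨x.val, ZMod.val_lt x, (ZMod.natCast_zmod_val x).symm⟩
  have h1 : ((2 * n : ℕ) : ZMod (2^k)) = 0 := by push_cast; exact hx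
  rw [ZMod.natCast_eq_zero_iff] at h1
  obtain ⟨j, rfl⟩ : ∃ j, k = j + 1 := ⟨k - 1, by omega⟩
  rw [pow_succ, mul_comm] at h1
  have h2 : 2^j ∣ n := Nat.dvd_of_mul_dvd_mul_left (by norm_num) h1
  obtain ⟨m, rfl⟩ := h2
  have h3 : m < 2 := by
    rw [pow_succ] at hn
    exact Nat.lt_of_mul_lt_mul_left hn
  interval_cases m
  · left; simp
  · right; simp

/-- the data for `ZMod (2^k)`, `k ≥ 2`. -/
noncomputable def zmodPar (k : ℕ) (hk : 2 ≤ k) : ParData (ZMod (2^k)) where
  par := ZMod.castHom (dvd_pow_self 2 (by omega : k ≠ 0)) (ZMod 2)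
  unit_of := zmod_unit_of k (by omega)
  h := 2^(k-1)
  two_h := by
    rw [← pow_succ', show k - 1 + 1 = k by omega]
    have := ZMod.natCast_self (2^k)
    push_cast at this
    exact this
  h_sq := by
    rw [← pow_add, show k - 1 + (k - 1) = k + (k - 2) by omega, pow_add]
    have := ZMod.natCast_self (2^k)
    push_cast at this
    rw [this, zero_mul]
  tors := zmod_tors k (by omega)



section Alg
variable {R : Type*} [CommRing R]

theorem zmod2_cases (t : ZMod 2) : t = 0 ∨ t = 1 := by revert t; decide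

theorem ParData.cube (P : ParData R) {l : R} (hl : l^3 = 1) : l = 1 := by
  have h1 : P.par (l^2 + l + 1) = 1 := by
    simp only [map_add, map_pow, map_one]
    generalize P.par l = t
    revert t; decide
  have h2 : (l^2 + l + 1) * (l - 1) = 0 := by linear_combination hl
  have h3 := (P.unit_of _ h1).mul_right_eq_zero.mp h2
  linear_combination h3

theorem ParData.three (P : ParData R) {x : R} (hx : 3 * x = 0) : x = 0 := by
  have h1 : P.par 3 = 1 := by
    rw [map_ofNat]; decide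
  exact (P.unit_of _ h1).mul_right_eq_zero.mp hx

/-- Step B. -/
theorem ParData.stepB (P : ParData R) {a b c d : R}
    (h11 : a^3+2*a*b*c+b*c*d = 1) (h12 : b*(a^2+a*d+d^2+b*c) = 0)
    (h21 : c*(a^2+a*d+d^2+b*c) = 0) (h22 : d^3+2*b*c*d+a*b*c = 1)
    (hne : ¬ (a = 1 ∧ b = 0 ∧ c = 0 ∧ d = 1)) :
    a + d = -1 ∧ a*d - b*c = 1 := by
  have hD : a*d - b*c = 1 := by
    apply P.cube
    linear_combination (d^3+2*b*c*d+a*b*c) * h11 + h22 - (c*(a^2+a*d+d^2+b*c)) * h12
  refine ⟨?_, hD⟩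
  have ea : (a+d+1) * ((a+d-1)*a - 1) = 0 := by
    linear_combination h11 + (a + (a + d)) * hD
  have ed : (a+d+1) * ((a+d-1)*d - 1) = 0 := by
    linear_combination h22 + (d + (a + d)) * hD
  have eb : (a+d+1) * ((a+d-1)*b) = 0 := by
    linear_combination h12 + b * hD
  have ec : (a+d+1) * ((a+d-1)*c) = 0 := by
    linear_combination h21 + c * hD
  rcases zmod2_cases (P.par (a+d)) with hT | hT
  · exfalso
    have u1 : IsUnit (a+d+1) := P.unit_of _ (by rw [map_add, hT, map_one]; decide)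
    have u2 : IsUnit (a+d-1) := P.unit_of _ (by rw [map_sub, hT, map_one]; decide)
    have hb : b = 0 := u2.mul_right_eq_zero.mp (u1.mul_right_eq_zero.mp eb)
    have hc : c = 0 := u2.mul_right_eq_zero.mp (u1.mul_right_eq_zero.mp ec)
    have ha : a = 1 := by
      apply P.cube
      rw [hb] at h11
      linear_combination h11
    have hd : d = 1 := by
      apply P.cube
      rw [hb] at h22
      linear_combination h22
    exact hne ⟨ha, hb, hc, hd⟩
  · have u1 : IsUnit ((a+d-1)*a - 1) := P.unit_of _ (by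
      rw [map_sub, map_mul, map_sub, hT, map_one]; simp)
    have := u1.mul_left_eq_zero.mp ea
    linear_combination this

/-- Step C: the lower-left entry is a unit. -/
theorem ParData.stepC (P : ParData R) {a b c d : R} (hT : a + d = -1) (hD : a*d - b*c = 1) : IsUnit c := by
  have h1 : b * c = -(a^2+a+1) := by
    have : d = -1 - a := by linear_combination hT
    subst this
    linear_combination (-1 : R) * hD
  have h2 : P.par (b * c) = 1 := by
    rw [h1]
    simp only [map_neg, map_add, map_pow, map_one]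
    generalize P.par a = t
    revert t; decide
  exact isUnit_of_mul_isUnit_right (P.unit_of _ h2)

/-- Step D. -/
theorem ParData.stepD (P : ParData R) {p q r s : R}
    (e11 : p*p+q*r = 1) (e12 : q*(p+s) = 0) (e21 : r*(p+s) = 0) (e22 : q*r+s*s = 1)
    (m11 : r*r - s*p + s*r + p + q = 0) (m12 : r*s - s*q + s*s - p = 0)
    (m21 : (p-r)*(q-s-r) + r + s = 0) (m22 : -(s*p) + s*r + (q-s)*(q-s) - r = 0)
    (hne : ¬ (p = 1 ∧ q = 0 ∧ r = 0 ∧ s = 1)) :
    (p = 1 + P.h ∧ q = P.h ∧ r = 0 ∧ s = 1 + P.h) ∨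
    (p = 1 ∧ q = P.h ∧ r = P.h ∧ s = 1) ∨
    (p = 1 + P.h ∧ q = 0 ∧ r = P.h ∧ s = 1 + P.h) := by
  have k1 : s + r - q = 1 := by
    linear_combination (-1 : R) * (m11 - m21 + m12) + (e21 - e12 + e22)
  have k2 : (p+r-q+2*s)^2 - (2*r-2*q-p+s)^2 + 3*(2*r-2*q-p+s) - 9 = 0 := by
    linear_combination 3 * ((e11+e21-e12+2*e22) - (2*m11-m21+m12+m22) + (2*e21-2*e12-e11+e22))
  have k3 : 2*r-2*q-p+s = 0 := by
    apply P.three
    have k4 : (p+r-q+2*s) = 3 - (2*r-2*q-p+s) := by linear_combination 3 * k1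
    rw [k4] at k2
    linear_combination (-1 : R) * k2
  have k5 : p + s = 2 := by linear_combination 2 * k1 - k3
  have hq : 2 * q = 0 := by rw [k5] at e12; linear_combination e12
  have hr : 2 * r = 0 := by rw [k5] at e21; linear_combination e21
  have hs : s = 1 + (r - q) := by linear_combination k1 - hr + hq
  have hp : p = 1 + (r - q) := by linear_combination k5 - k1
  have h2 := P.two_h
  rcases P.tors q hq with rfl | rfl <;> rcases P.tors r hr with rfl | rfl
  · exact absurd ⟨by simpa using hp, rfl, rfl, by simpa using hs⟩ hne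
  · right; right
    exact ⟨by simpa using hp, rfl, rfl, by simpa using hs⟩
  · left
    exact ⟨by linear_combination hp - h2, rfl, rfl, by linear_combination hs - h2⟩
  · right; left
    exact ⟨by simpa using hp, rfl, rfl, by simpa using hs⟩

end Alg

section GLpart
variable {R : Type*} [CommRing R]

omit [CommRing R] in
theorem mat2_ext_iff {a b c d a' b' c' d' : R} :
    (!![a,b;c,d] : Matrix (Fin 2) (Fin 2) R) = !![a',b';c',d'] ↔
      a = a' ∧ b = b' ∧ c = c' ∧ d = d' := by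
  constructor
  · intro h
    exact ⟨congrFun (congrFun h 0) 0, congrFun (congrFun h 0) 1, congrFun (congrFun h 1) 0,
      congrFun (congrFun h 1) 1⟩
  · rintro ⟨rfl, rfl, rfl, rfl⟩; rfl

/-- the companion matrix of `x² + x + 1` -/
noncomputable def C0 (R : Type*) [CommRing R] : GL (Fin 2) R :=
  Matrix.GeneralLinearGroup.mk'' !![0,-1;1,-1] (by simp [Matrix.det_fin_two_of])

theorem C0_val : ((C0 R : GL (Fin 2) R) : Matrix (Fin 2) (Fin 2) R) = !![0,-1;1,-1] := rfl

/-- the standard involution -/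
noncomputable def V0 (P : ParData R) : GL (Fin 2) R :=
  Matrix.GeneralLinearGroup.mk'' !![1+P.h,P.h;0,1+P.h] (by
    rw [Matrix.det_fin_two_of]
    have : (1+P.h)*(1+P.h) - P.h*0 = 1 := by linear_combination P.two_h + P.h_sq
    rw [this]; exact isUnit_one)

theorem V0_val (P : ParData R) :
    ((V0 P : GL (Fin 2) R) : Matrix (Fin 2) (Fin 2) R) = !![1+P.h,P.h;0,1+P.h] := rfl

theorem main_conj (P : ParData R) (v w : GL (Fin 2) R) (hw3 : w^3 = 1) (hw1 : w ≠ 1)
    (hv2 : v^2 = 1) (hv1 : v ≠ 1) (hrel : w*v*w*v = v*w*w) :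
    ∃ g : GL (Fin 2) R, w * g = g * C0 R ∧ v * g = g * V0 P := by
  -- entries of w
  obtain ⟨a, b, c, d, hwm⟩ : ∃ a b c d : R, (w : Matrix (Fin 2) (Fin 2) R) = !![a,b;c,d] :=
    ⟨_, _, _, _, Matrix.eta_fin_two _⟩
  have h3 : (w : Matrix (Fin 2) (Fin 2) R)^3 = 1 := by
    rw [← Units.val_pow_eq_pow_val, hw3, Units.val_one]
  rw [hwm, pow_succ, pow_succ, pow_one, Matrix.mul_fin_two, Matrix.mul_fin_two,
    Matrix.one_fin_two, mat2_ext_iff] at h3
  obtain ⟨h11, h12, h21, h22⟩ := h3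
  have hne : ¬ (a = 1 ∧ b = 0 ∧ c = 0 ∧ d = 1) := by
    rintro ⟨rfl, rfl, rfl, rfl⟩
    apply hw1
    apply Units.ext
    rw [hwm, Units.val_one, Matrix.one_fin_two]
  obtain ⟨hT, hD⟩ := P.stepB (a := a) (b := b) (c := c) (d := d)
    (by linear_combination h11) (by linear_combination h12) (by linear_combination h21)
    (by linear_combination h22) hne
  have hc : IsUnit c := P.stepC hT hD
  obtain ⟨g₀, hg₀⟩ : ∃ g₀ : GL (Fin 2) R, (g₀ : Matrix (Fin 2) (Fin 2) R) = !![1,a;0,c] :=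
    ⟨Matrix.GeneralLinearGroup.mk'' !![1,a;0,c] (by simpa [Matrix.det_fin_two_of] using hc), rfl⟩
  have hwg : w * g₀ = g₀ * C0 R := by
    apply Units.ext
    rw [Units.val_mul, Units.val_mul, hwm, hg₀, C0_val, Matrix.mul_fin_two, Matrix.mul_fin_two,
      mat2_ext_iff]
    refine ⟨by ring, ?_, by ring, ?_⟩
    · have : d = -1 - a := by linear_combination hT
      subst this
      linear_combination (-1 : R) * hD
    · linear_combination c * hT
  -- the conjugated involution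
  obtain ⟨V, hV⟩ : ∃ V : GL (Fin 2) R, v * g₀ = g₀ * V := ⟨g₀⁻¹ * v * g₀, by group⟩
  have hv' : v = g₀ * V * g₀⁻¹ := by rw [← hV]; group
  have hw' : w = g₀ * C0 R * g₀⁻¹ := by rw [← hwg]; group
  have hV2 : V * V = 1 := by
    have : g₀ * (V * V) * g₀⁻¹ = 1 := by
      rw [← hv2, hv', pow_two]; group
    have h5 : V * V = g₀⁻¹ * (g₀ * (V * V) * g₀⁻¹) * g₀ := by group
    rw [h5, this]; group
  have hV1 : V ≠ 1 := by
    rintro rfl
    apply hv1
    rw [hv']; group
  have hVrel : C0 R * V * C0 R * V = V * C0 R * C0 R := by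
    have : g₀ * (C0 R * V * C0 R * V) * g₀⁻¹ = g₀ * (V * C0 R * C0 R) * g₀⁻¹ := by
      have e1 : g₀ * (C0 R * V * C0 R * V) * g₀⁻¹ = w*v*w*v := by rw [hv', hw']; group
      have e2 : g₀ * (V * C0 R * C0 R) * g₀⁻¹ = v*w*w := by rw [hv', hw']; group
      rw [e1, e2, hrel]
    exact mul_left_cancel (mul_right_cancel this)
  obtain ⟨p, q, r, s, hVm⟩ : ∃ p q r s : R, (V : Matrix (Fin 2) (Fin 2) R) = !![p,q;r,s] :=
    ⟨_, _, _, _, Matrix.eta_fin_two _⟩
  have hV2m := congrArg Units.val hV2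
  rw [Units.val_mul, Units.val_one, hVm, Matrix.mul_fin_two, Matrix.one_fin_two,
    mat2_ext_iff] at hV2m
  obtain ⟨e11, e12, e21, e22⟩ := hV2m
  have hVrm := congrArg Units.val hVrel
  simp only [Units.val_mul, hVm, C0_val, Matrix.mul_fin_two, mat2_ext_iff] at hVrm
  obtain ⟨m11, m12, m21, m22⟩ := hVrm
  have hVne : ¬ (p = 1 ∧ q = 0 ∧ r = 0 ∧ s = 1) := by
    rintro ⟨rfl, rfl, rfl, rfl⟩
    apply hV1
    apply Units.ext
    rw [hVm, Units.val_one, Matrix.one_fin_two]
  have h2 := P.two_h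
  rcases P.stepD (p := p) (q := q) (r := r) (s := s) (by linear_combination e11)
    (by linear_combination e12) (by linear_combination e21) (by linear_combination e22)
    (by linear_combination m11) (by linear_combination m12) (by linear_combination m21)
    (by linear_combination m22) hVne with ⟨rfl, rfl, rfl, rfl⟩ | ⟨rfl, rfl, rfl, rfl⟩ |
      ⟨rfl, rfl, rfl, rfl⟩
  · refine ⟨g₀, hwg, ?_⟩
    rw [hV]
    congr 1
    exact Units.ext (by rw [hVm, V0_val])
  · have hc2 : V * (C0 R * C0 R) = (C0 R * C0 R) * V0 P := by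
      apply Units.ext
      simp only [Units.val_mul, hVm, C0_val, V0_val, Matrix.mul_fin_two, mat2_ext_iff]
      refine ⟨?_, ?_, ?_, ?_⟩ <;> first | ring1 | linear_combination h2 | linear_combination (-1 : R) * h2
    refine ⟨g₀ * (C0 R * C0 R), ?_, ?_⟩
    · rw [← mul_assoc, hwg]; group
    · rw [← mul_assoc, hV, mul_assoc, hc2]; simp only [mul_assoc]
  · have hc1 : V * C0 R = C0 R * V0 P := by
      apply Units.ext
      simp only [Units.val_mul, hVm, C0_val, V0_val, Matrix.mul_fin_two, mat2_ext_iff]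
      refine ⟨?_, ?_, ?_, ?_⟩ <;> first | ring1 | linear_combination h2 | linear_combination (-1 : R) * h2
    refine ⟨g₀ * C0 R, ?_, ?_⟩
    · rw [← mul_assoc, hwg]
    · rw [← mul_assoc, hV, mul_assoc, hc1]; simp only [mul_assoc]

end GLpart

/-- every `A₄`-subgroup is a conjugate of the standard one -/
theorem conj_std {R : Type*} [CommRing R] (P : ParData R) (H : Subgroup (GL (Fin 2) R))
    (e : H ≃* alternatingGroup (Fin 4)) :
    ∃ g : GL (Fin 2) R,
      H = (Subgroup.closure {V0 P, C0 R}).map (MulAut.conj g).toMonoidHom := by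
  obtain ⟨v, w, h1, h2, h3, h4, h5, h6⟩ := exists_gens H e
  obtain ⟨g, hg1, hg2⟩ := main_conj P v w h1 h2 h3 h4 h5
  refine ⟨g, ?_⟩
  rw [MonoidHom.map_closure, Set.image_pair, h6]
  have e1 : (MulAut.conj g).toMonoidHom (V0 P) = v := by
    change g * V0 P * g⁻¹ = v
    rw [← hg2]; group
  have e2 : (MulAut.conj g).toMonoidHom (C0 R) = w := by
    change g * C0 R * g⁻¹ = w
    rw [← hg1]; group
  rw [e1, e2]

theorem conj_pair {R : Type*} [CommRing R] (P : ParData R) (H₁ H₂ : Subgroup (GL (Fin 2) R))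
    (e₁ : H₁ ≃* alternatingGroup (Fin 4)) (e₂ : H₂ ≃* alternatingGroup (Fin 4)) :
    ∃ g : GL (Fin 2) R, H₂ = H₁.map (MulAut.conj g).toMonoidHom := by
  obtain ⟨g₁, h₁⟩ := conj_std P H₁ e₁
  obtain ⟨g₂, h₂⟩ := conj_std P H₂ e₂
  refine ⟨g₂ * g₁⁻¹, ?_⟩
  rw [h₁, h₂, Subgroup.map_map]
  congr 1
  ext x : 1
  change g₂ * x * g₂⁻¹ = (g₂ * g₁⁻¹) * (g₁ * x * g₁⁻¹) * (g₂ * g₁⁻¹)⁻¹
  group

end Cfsg.Agent.H41A4GL
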