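import Mathlib
import Cfsg.Agent.Lib.Helper41Klein2

/-!
# Counting the subgroups `A₅` of `PSL₂(q)`
-/

set_option autoImplicit false

namespace Cfsg.Agent.Lib.Helper41A5

open Matrix Cfsg.Agent.Lib.Helper46SL2 Cfsg.Agent.Lib.Helper41SL2 Cfsg.Agent.Lib.Helper41Dk
  Cfsg.Agent.Lib.Helper41Pair Cfsg.Agent.Lib.Helper41Gen Cfsg.Agent.Lib.Helper41Lift
  Cfsg.Agent.Lib.Helper41Klein

variable {F : Type*} [Field F]

local notation "SL2" => Matrix.SpecialLinearGroup (Fin 2)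
local notation "PSL2" => Matrix.ProjectiveSpecialLinearGroup (Fin 2)

theorem commute_x0_iff {c : SL2 F} : c * x0 = x0 * c ↔ c 1 1 = c 0 0 ∧ c 0 1 = - c 1 0 := by
  constructor
  · intro h
    have e00 := congrArg (fun g : SL2 F => g 0 0) h
    have e01 := congrArg (fun g : SL2 F => g 0 1) h
    simp only [mul_00, mul_01, x0_00, x0_01, x0_10, x0_11] at e00 e01
    exact ⟨by linear_combination e01, by linear_combination e00⟩
  · rintro ⟨h1, h2⟩
    apply ext2 <;> simp only [mul_00, mul_01, mul_10, mul_11, x0_00, x0_01, x0_10, x0_11]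
    · linear_combination h2
    · linear_combination h1
    · linear_combination h1
    · linear_combination -h2

/-- the centraliser of `x0` is the circle group -/
def circleEquiv : {c : SL2 F // c * x0 = x0 * c} ≃ {p : F × F // p.1 ^ 2 + p.2 ^ 2 = 1} where
  toFun c := ⟨(c.1 0 0, c.1 1 0), by
    obtain ⟨c1, c2⟩ := commute_x0_iff.mp c.2
    have hd := det2 c.1
    rw [c1, c2] at hd
    linear_combination hd⟩
  invFun p := ⟨mk2 p.1.1 (-p.1.2) p.1.2 p.1.1 (by linear_combination p.2),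
    commute_x0_iff.mpr ⟨rfl, rfl⟩⟩
  left_inv c := by
    obtain ⟨c1, c2⟩ := commute_x0_iff.mp c.2
    apply Subtype.ext
    apply ext2
    · rfl
    · exact c2.symm
    · rfl
    · exact c1.symm
  right_inv p := rfl

/-- circles of different radii -/
def conicEquiv {N u0 v0 : F} (hN : N ≠ 0) (h0 : 4 * (u0 ^ 2 + v0 ^ 2) = N) :
    {p : F × F // p.1 ^ 2 + p.2 ^ 2 = 1} ≃ {p : F × F // 4 * (p.1 ^ 2 + p.2 ^ 2) = N} where
  toFun p := ⟨(p.1.1 * u0 - p.1.2 * v0, p.1.2 * u0 + p.1.1 * v0), by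
    have := p.2
    simp only
    linear_combination (4 * (u0 ^ 2 + v0 ^ 2)) * this + h0⟩
  invFun p := ⟨(4 * (p.1.1 * u0 + p.1.2 * v0) / N, 4 * (p.1.2 * u0 - p.1.1 * v0) / N), by
    have := p.2
    simp only
    field_simp
    linear_combination (4 * (u0 ^ 2 + v0 ^ 2)) * this + N * h0⟩
  left_inv p := by
    apply Subtype.ext
    apply Prod.ext
    · simp only
      field_simp
      linear_combination p.1.1 * h0
    · simp only
      field_simp
      linear_combination p.1.2 * h0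
  right_inv p := by
    apply Subtype.ext
    apply Prod.ext
    · simp only
      field_simp
      linear_combination p.1.1 * h0
    · simp only
      field_simp
      linear_combination p.1.2 * h0

/-- parametrisation of the elements with given traces -/
def hsEquiv (h2 : (2 : F) ≠ 0) (τ t : F) :
    {p : F × F // 4 * (p.1 ^ 2 + p.2 ^ 2) = τ ^ 2 + t ^ 2 - 4} ≃
      {h : SL2 F // tr h = τ ∧ tr (x0 * h) = t} where
  toFun p := ⟨hh τ t p.1.1 p.1.2 h2 p.2, tr_hh _ _ _ _ _ _, tr_x0_hh _ _ _ _ _ _⟩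
  invFun h := ⟨((h.1 0 0 - h.1 1 1) / 2, (h.1 0 1 + h.1 1 0) / 2), by
    obtain ⟨h, k1, k2⟩ := h
    rw [tr_x0_mul] at k2
    have hd := det2 h
    have k1' : h 0 0 + h 1 1 = τ := k1
    simp only
    rw [← k1', ← k2]
    field_simp
    linear_combination (-16 : F) * hd⟩
  left_inv p := by
    apply Subtype.ext
    apply Prod.ext
    · simp only [hh, mk2_00, mk2_11]
      field_simp; ring
    · simp only [hh, mk2_01, mk2_10]
      field_simp; ring
  right_inv h := by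
    obtain ⟨h, k1, k2⟩ := h
    rw [tr_x0_mul] at k2
    have k1' : h 0 0 + h 1 1 = τ := k1
    apply Subtype.ext
    apply ext2
    · simp only [hh, mk2_00]
      rw [← k1']; field_simp; ring
    · simp only [hh, mk2_01]
      rw [← k2]; field_simp; ring
    · simp only [hh, mk2_10]
      rw [← k2]; field_simp; ring
    · simp only [hh, mk2_11]
      rw [← k1']; field_simp; ring

/-- the elements with prescribed traces relative to `x0` form a torsor under the centraliser -/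
theorem card_HS [Finite F] (h2 : (2 : F) ≠ 0) (τ t : F) (hN : τ ^ 2 + t ^ 2 - 4 ≠ 0) :
    Nat.card {h : SL2 F // tr h = τ ∧ tr (x0 * h) = t} =
      Nat.card {c : SL2 F // c * x0 = x0 * c} := by
  have h40 : (4 : F) ≠ 0 := by
    have : (4 : F) = 2 * 2 := by norm_num
    rw [this]; exact mul_ne_zero h2 h2
  obtain ⟨u0, -, v0, -, huv⟩ := exists_sq_add_sq h2 (⊤ : Subfield F)
    (c := (τ ^ 2 + t ^ 2 - 4) / 4) trivial
  have huv' : 4 * (u0 ^ 2 + v0 ^ 2) = τ ^ 2 + t ^ 2 - 4 := by rw [huv]; field_simp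
  exact (Nat.card_congr ((circleEquiv.trans (conicEquiv hN huv')).trans (hsEquiv h2 τ t))).symm

/-- the number of pairs `(x, h)` with `tr x = 0` and prescribed `tr h`, `tr (x h)` -/
theorem card_pairs [Fintype F] (h2 : (2 : F) ≠ 0) (τ t : F) (hN : τ ^ 2 + t ^ 2 - 4 ≠ 0) :
    Nat.card {p : SL2 F × SL2 F // tr p.1 = 0 ∧ tr p.2 = τ ∧ tr (p.1 * p.2) = t} =
      Nat.card (SL2 F) := by
  classical
  let X0 := {x : SL2 F // tr x = 0}
  have e1 : {p : SL2 F × SL2 F // tr p.1 = 0 ∧ tr p.2 = τ ∧ tr (p.1 * p.2) = t} ≃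
      Σ x : X0, {h : SL2 F // tr h = τ ∧ tr (x.1 * h) = t} :=
    { toFun := fun p => ⟨⟨p.1.1, p.2.1⟩, ⟨p.1.2, p.2.2⟩⟩
      invFun := fun s => ⟨(s.1.1, s.2.1), s.1.2, s.2.2⟩
      left_inv := fun p => rfl
      right_inv := fun s => rfl }
  let f : SL2 F → X0 := fun g => ⟨g * x0 * g⁻¹, by rw [tr_conj, tr_x0]⟩
  have e2 : (Σ x : X0, {g : SL2 F // f g = x}) ≃ SL2 F := Equiv.sigmaFiberEquiv f
  rw [Nat.card_congr e1, ← Nat.card_congr e2, Nat.card_sigma, Nat.card_sigma]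
  apply Finset.sum_congr rfl
  rintro ⟨x, hx⟩ -
  obtain ⟨g0, hg0⟩ := isConj_iff.mp (isConj_of_tr_eq_zero h2 tr_x0 hx)
  have hA : ∀ h : SL2 F, x0 * (g0⁻¹ * h * g0) = g0⁻¹ * (x * h) * g0 := by
    intro h; rw [← hg0]; group
  have hB : ∀ h : SL2 F, x * (g0 * h * g0⁻¹) = g0 * (x0 * h) * g0⁻¹ := by
    intro h; rw [← hg0]; group
  have hC : ∀ g : SL2 F, g * x0 * g⁻¹ = x → g0⁻¹ * g * x0 = x0 * (g0⁻¹ * g) := by
    intro g h7
    have h8 : g * x0 = g0 * x0 * g0⁻¹ * g := by rw [hg0, ← h7]; group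
    calc g0⁻¹ * g * x0 = g0⁻¹ * (g * x0) := by group
      _ = x0 * (g0⁻¹ * g) := by rw [h8]; group
  have hD : ∀ c : SL2 F, c * x0 = x0 * c → g0 * c * x0 * (g0 * c)⁻¹ = x := by
    intro c hc
    have : g0 * c * x0 * (g0 * c)⁻¹ = g0 * (c * x0) * c⁻¹ * g0⁻¹ := by group
    rw [this, hc, ← hg0]; group
  have e3 : {h : SL2 F // tr h = τ ∧ tr (x * h) = t} ≃
      {h : SL2 F // tr h = τ ∧ tr (x0 * h) = t} :=
    { toFun := fun h => ⟨g0⁻¹ * h.1 * g0, by rw [tr_conj']; exact h.2.1, by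
        rw [hA, tr_conj']; exact h.2.2⟩
      invFun := fun h => ⟨g0 * h.1 * g0⁻¹, by rw [tr_conj]; exact h.2.1, by
        rw [hB, tr_conj]; exact h.2.2⟩
      left_inv := fun h => by apply Subtype.ext; simp only; group
      right_inv := fun h => by apply Subtype.ext; simp only; group }
  have e4 : {g : SL2 F // f g = ⟨x, hx⟩} ≃ {c : SL2 F // c * x0 = x0 * c} :=
    { toFun := fun g => ⟨g0⁻¹ * g.1, hC g.1 (congrArg Subtype.val g.2)⟩
      invFun := fun c => ⟨g0 * c.1, Subtype.ext (hD c.1 c.2)⟩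
      left_inv := fun g => by apply Subtype.ext; simp only; group
      right_inv := fun c => by apply Subtype.ext; simp only; group }
  rw [Nat.card_congr e3, Nat.card_congr e4, card_HS h2 τ t hN]

/-- the `(2,3,5)`-pairs in `SL₂`, normalised -/
def T5P (x h : SL2 F) : Prop := tr x = 0 ∧ tr h = -1 ∧ tr (x * h) ^ 2 = tr (x * h) + 1

/-- `(2,3,5)`-pairs in a group -/
def P235 {Γ : Type*} [Group Γ] (a b : Γ) : Prop :=
  a ^ 2 = 1 ∧ a ≠ 1 ∧ b ^ 3 = 1 ∧ b ≠ 1 ∧ (a * b) ^ 5 = 1 ∧ a * b ≠ 1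

theorem N_ne {t : F} (ht : t ^ 2 = t + 1) : (-1 : F) ^ 2 + t ^ 2 - 4 ≠ 0 := by
  intro h
  have h1 : t = 2 := by linear_combination h - ht
  rw [h1] at ht
  exact one_ne_zero (α := F) (by linear_combination ht)

theorem card_T5 [Fintype F] (h2 : (2 : F) ≠ 0) (h5 : (5 : F) ≠ 0) {t1 : F} (ht1 : t1 ^ 2 = t1 + 1) :
    Nat.card {p : SL2 F × SL2 F // T5P p.1 p.2} = 2 * Nat.card (SL2 F) := by
  classical
  have ht2 : (1 - t1) ^ 2 = (1 - t1) + 1 := by linear_combination ht1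
  have hne : t1 ≠ 1 - t1 := by
    intro h
    apply h5
    have h3 : 2 * t1 = 1 := by linear_combination h
    linear_combination (-4 : F) * ht1 + (2 * t1 + 1) * h3 - 2 * h3
  have e1 : {p : SL2 F × SL2 F // T5P p.1 p.2} ≃
      {p : SL2 F × SL2 F // (tr p.1 = 0 ∧ tr p.2 = -1 ∧ tr (p.1 * p.2) = t1) ∨
        (tr p.1 = 0 ∧ tr p.2 = -1 ∧ tr (p.1 * p.2) = 1 - t1)} := by
    apply Equiv.subtypeEquivRight
    rintro ⟨x, h⟩
    constructor
    · rintro ⟨a1, a2, a3⟩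
      have : (tr (x * h) - t1) * (tr (x * h) - (1 - t1)) = 0 := by linear_combination a3 - ht1
      rcases mul_eq_zero.mp this with h6 | h6
      · left; exact ⟨a1, a2, by linear_combination h6⟩
      · right; exact ⟨a1, a2, by linear_combination h6⟩
    · rintro (⟨a1, a2, a3⟩ | ⟨a1, a2, a3⟩)
      · exact ⟨a1, a2, by change tr (x * h) ^ 2 = tr (x * h) + 1; rw [a3, ht1]⟩
      · exact ⟨a1, a2, by change tr (x * h) ^ 2 = tr (x * h) + 1; rw [a3, ht2]⟩
  have e2 := subtypeOrEquiv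
    (fun p : SL2 F × SL2 F => tr p.1 = 0 ∧ tr p.2 = -1 ∧ tr (p.1 * p.2) = t1)
    (fun p : SL2 F × SL2 F => tr p.1 = 0 ∧ tr p.2 = -1 ∧ tr (p.1 * p.2) = 1 - t1) (by
      rw [Pi.disjoint_iff]
      intro p
      rw [Prop.disjoint_iff]
      rintro ⟨⟨-, -, a3⟩, ⟨-, -, b3⟩⟩
      exact hne (a3.symm.trans b3))
  rw [Nat.card_congr (e1.trans e2), Nat.card_sum, card_pairs h2 _ _ (N_ne ht1),
    card_pairs h2 _ _ (N_ne ht2)]
  ring

theorem cube_eq_one_of_tr {h : SL2 F} (ht : tr h = -1) : h ^ 3 = 1 := by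
  obtain ⟨e0, e1, e2, e3⟩ := pow_entries h 2
  rw [ht, cheb_three] at e0 e1 e2 e3
  rw [cheb_two] at e0 e3
  apply ext2
  · rw [e0, one_00]; ring
  · rw [e1, one_01]; ring
  · rw [e2, one_10]; ring
  · rw [e3, one_11]; ring

theorem tr_sq (w : SL2 F) : tr (w ^ 2) = tr w ^ 2 - 2 := by
  obtain ⟨e0, -, -, e3⟩ := pow_entries w 1
  rw [cheb_two] at e0 e3
  have c1 : cheb (tr w) 1 = 1 := rfl
  rw [c1] at e0 e3
  change (w ^ 2) 0 0 + (w ^ 2) 1 1 = _
  rw [e0, e3]
  simp only [tr]; ring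

theorem not_mem_center_of_tr_ne {w : SL2 F} (h1 : tr w ≠ 2) (h2 : tr w ≠ -2) :
    w ∉ Subgroup.center (SL2 F) := by
  intro h
  rcases mem_center_iff_eq.mp h with rfl | rfl
  · exact h1 tr_one
  · apply h2; rw [tr_neg, tr_one]

theorem proj_ne_one {w : SL2 F} (h : w ∉ Subgroup.center (SL2 F)) : proj F w ≠ 1 := fun h1 =>
  h ((QuotientGroup.eq_one_iff _).mp h1)

theorem T5P.proj (h2 : (2 : F) ≠ 0) (h3 : (3 : F) ≠ 0) (h5 : (5 : F) ≠ 0) {x h : SL2 F}
    (hp : T5P x h) : P235 (proj F x) (proj F h) := by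
  obtain ⟨a1, a2, a3⟩ := hp
  refine ⟨?_, ?_, ?_, ?_, ?_, ?_⟩
  · rw [← map_pow, sq, sq_eq_neg_one_iff.mpr a1]
    exact (QuotientGroup.eq_one_iff _).mpr (mem_center_iff_eq.mpr (Or.inr rfl))
  · apply proj_ne_one
    apply not_mem_center_of_tr_ne <;> rw [a1]
    · exact fun h => h2 h.symm
    · intro h; apply h2; linear_combination h
  · rw [← map_pow, cube_eq_one_of_tr a2, map_one]
  · apply proj_ne_one
    apply not_mem_center_of_tr_ne <;> rw [a2]
    · intro h; apply h3; linear_combination -h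
    · intro h; exact one_ne_zero (α := F) (by linear_combination h)
  · rw [← map_mul, ← map_pow]
    apply (QuotientGroup.eq_one_iff _).mpr
    obtain ⟨e0, e1, e2, e3⟩ := pow_entries (x * h) 4
    have c5 : cheb (tr (x * h)) (4 + 1) = 0 := by
      rw [cheb_five]
      linear_combination (tr (x * h) ^ 2 + tr (x * h) - 1) * a3
    rw [c5] at e0 e1 e2 e3
    rw [mem_center_iff]
    exact ⟨by rw [e1]; ring, by rw [e2]; ring, by rw [e0, e3]; ring⟩
  · rw [← map_mul]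
    apply proj_ne_one
    apply not_mem_center_of_tr_ne
    · intro h; rw [h] at a3; exact one_ne_zero (α := F) (by linear_combination a3)
    · intro h; rw [h] at a3; apply h5; linear_combination a3

theorem exists_T5P_lift {S : Subgroup (PSL2 F)} {a b : S} (hab : P235 a b) :
    ∃ x h : SL2 F, T5P x h ∧ proj F x = a ∧ proj F h = b := by
  obtain ⟨f1, f2, f3, f4, f5, f6⟩ := hab
  obtain ⟨x, h, -, -, hxa, hhb, t1, t2⟩ := exists_pair (F := F) (MulEquiv.refl S) f1 f2 f3 f4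
  have hxa' : proj F x = a := hxa
  have hhb' : proj F h = b := hhb
  have t3 : tr (x * h) ^ 4 - 3 * tr (x * h) ^ 2 + 1 = 0 := by
    have := cheb_of_lift (MulEquiv.refl S) (w := x * h) (c := a * b)
      (by rw [map_mul, hxa', hhb']; rfl) (n := 4) f5 f6
    rwa [cheb_five] at this
  have : (tr (x * h) ^ 2 - tr (x * h) - 1) * (tr (x * h) ^ 2 + tr (x * h) - 1) = 0 := by
    linear_combination t3
  rcases mul_eq_zero.mp this with h6 | h6
  · exact ⟨x, h, ⟨t1, t2, by linear_combination h6⟩, hxa', hhb'⟩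
  · refine ⟨-x, h, ⟨by rw [tr_neg, t1, neg_zero], t2, ?_⟩, ?_, hhb'⟩
    · rw [neg_mul, tr_neg]; linear_combination h6
    · rw [← hxa']; exact mk_neg x

theorem T5P_lift_unique (h2 : (2 : F) ≠ 0) {x h x' h' : SL2 F} (hp : T5P x h) (hp' : T5P x' h')
    (hx : proj F x = proj F x') (hh : proj F h = proj F h') : x = x' ∧ h = h' := by
  obtain ⟨a1, a2, a3⟩ := hp
  obtain ⟨b1, b2, b3⟩ := hp'
  have hh' : h' = h := by
    rcases (mk_eq_mk_iff h h').mp hh with h6 | h6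
    · exact h6
    · exfalso
      rw [h6, tr_neg, a2] at b2
      apply h2; linear_combination b2
  subst hh'
  refine ⟨?_, rfl⟩
  rcases (mk_eq_mk_iff x x').mp hx with h6 | h6
  · exact h6.symm
  · exfalso
    rw [h6, neg_mul, tr_neg] at b3
    have h7 : 2 * tr (x * h') = 0 := by linear_combination b3 - a3
    have h8 := (mul_eq_zero.mp h7).resolve_left h2
    rw [h8] at a3
    exact one_ne_zero (α := F) (by linear_combination -a3)

theorem P235_coe {G : Type*} [Group G] {L : Subgroup G} (a b : L) :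
    P235 a b ↔ P235 (a : G) (b : G) := by
  constructor
  · rintro ⟨f1, f2, f3, f4, f5, f6⟩
    exact ⟨congrArg Subtype.val f1, fun h => f2 (Subtype.ext h), congrArg Subtype.val f3,
      fun h => f4 (Subtype.ext h), congrArg Subtype.val f5, fun h => f6 (Subtype.ext h)⟩
  · rintro ⟨f1, f2, f3, f4, f5, f6⟩
    exact ⟨Subtype.ext f1, fun h => f2 (congrArg Subtype.val h), Subtype.ext f3,
      fun h => f4 (congrArg Subtype.val h), Subtype.ext f5, fun h => f6 (congrArg Subtype.val h)⟩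

theorem P235_equiv {G H : Type*} [Group G] [Group H] (e : G ≃* H) (a b : G) :
    P235 a b ↔ P235 (e a) (e b) := by
  unfold P235
  rw [← map_pow, ← map_pow, ← map_mul, ← map_pow, Ne, Ne, Ne, Ne, Ne, Ne,
    e.map_eq_one_iff, e.map_eq_one_iff, e.map_eq_one_iff, e.map_eq_one_iff, e.map_eq_one_iff,
    e.map_eq_one_iff]

set_option maxRecDepth 1000000 in
theorem card_235 : Fintype.card {ab : alternatingGroup (Fin 5) × alternatingGroup (Fin 5) //
    ab.1 ^ 2 = 1 ∧ ab.1 ≠ 1 ∧ ab.2 ^ 3 = 1 ∧ ab.2 ≠ 1 ∧ (ab.1 * ab.2) ^ 5 = 1 ∧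
      ab.1 * ab.2 ≠ 1} = 120 := by
  decide +kernel

theorem card_fiber [Fintype F] (h2 : (2 : F) ≠ 0) (h3 : (3 : F) ≠ 0) (h5 : (5 : F) ≠ 0)
    {L : Subgroup (PSL2 F)} (e : L ≃* alternatingGroup (Fin 5)) :
    Nat.card {p : SL2 F × SL2 F // T5P p.1 p.2 ∧ proj F p.1 ∈ L ∧ proj F p.2 ∈ L} = 120 := by
  let Ψ : {p : SL2 F × SL2 F // T5P p.1 p.2 ∧ proj F p.1 ∈ L ∧ proj F p.2 ∈ L} →
      {ab : L × L // P235 ab.1 ab.2} := fun p =>
    ⟨(⟨proj F p.1.1, p.2.2.1⟩, ⟨proj F p.1.2, p.2.2.2⟩), (P235_coe _ _).mpr (p.2.1.proj h2 h3 h5)⟩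
  have hΨ : Function.Bijective Ψ := by
    constructor
    · rintro ⟨⟨x, h⟩, hp, m1, m2⟩ ⟨⟨x', h'⟩, hp', m3, m4⟩ hEq
      have h6 := congrArg (fun ab : {ab : L × L // P235 ab.1 ab.2} => (ab.1.1 : PSL2 F)) hEq
      have h7 := congrArg (fun ab : {ab : L × L // P235 ab.1 ab.2} => (ab.1.2 : PSL2 F)) hEq
      obtain ⟨rfl, rfl⟩ := T5P_lift_unique h2 hp hp' h6 h7
      rfl
    · rintro ⟨⟨a, b⟩, hab⟩
      obtain ⟨x, h, hp, hx, hh⟩ := exists_T5P_lift hab
      refine ⟨⟨(x, h), hp, by rw [hx]; exact a.2, by rw [hh]; exact b.2⟩, ?_⟩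
      apply Subtype.ext
      apply Prod.ext
      · exact Subtype.ext hx
      · exact Subtype.ext hh
  have e2 : {ab : L × L // P235 ab.1 ab.2} ≃
      {ab : alternatingGroup (Fin 5) × alternatingGroup (Fin 5) //
        ab.1 ^ 2 = 1 ∧ ab.1 ≠ 1 ∧ ab.2 ^ 3 = 1 ∧ ab.2 ≠ 1 ∧ (ab.1 * ab.2) ^ 5 = 1 ∧
          ab.1 * ab.2 ≠ 1} :=
    Equiv.subtypeEquiv (Equiv.prodCongr e.toEquiv e.toEquiv) (fun ab => P235_equiv e ab.1 ab.2)
  rw [Nat.card_congr ((Equiv.ofBijective Ψ hΨ).trans e2), Nat.card_eq_fintype_card, card_235]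

end Cfsg.Agent.Lib.Helper41A5
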