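import Mathlib
import Cfsg.Agent.Lib.Helper41A5

/-!
# The subgroups `A₅` of `PSL₂(q)`: number and classes
-/

set_option autoImplicit false

namespace Cfsg.Agent.Lib.Helper41A5

open Matrix Cfsg.Agent.Lib.Helper46SL2 Cfsg.Agent.Lib.Helper41SL2 Cfsg.Agent.Lib.Helper41Dk
  Cfsg.Agent.Lib.Helper41Pair Cfsg.Agent.Lib.Helper41Gen Cfsg.Agent.Lib.Helper41Lift
  Cfsg.Agent.Lib.Helper41Klein

variable {F : Type*} [Field F]

local notation "SL2" => Matrix.SpecialLinearGroup (Fin 2)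
local notation "PSL2" => Matrix.ProjectiveSpecialLinearGroup (Fin 2)

/-- every `(2,3,5)`-pair generates `A₅` -/
theorem gen_235 {a b : alternatingGroup (Fin 5)} (h : P235 a b) :
    Subgroup.closure ({a, b} : Set (alternatingGroup (Fin 5))) = ⊤ := by
  obtain ⟨f1, f2, f3, f4, f5, f6⟩ := h
  set C := Subgroup.closure ({a, b} : Set (alternatingGroup (Fin 5))) with hC
  have ha : a ∈ C := Subgroup.subset_closure (by simp)
  have hb : b ∈ C := Subgroup.subset_closure (by simp)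
  have key : ∀ (g : alternatingGroup (Fin 5)) (r : ℕ), r.Prime → g ∈ C → g ^ r = 1 → g ≠ 1 →
      r ∣ Nat.card C := by
    intro g r hr hg h1 h2
    have : Fact r.Prime := ⟨hr⟩
    rw [← orderOf_eq_prime h1 h2]
    have := orderOf_dvd_natCard (⟨g, hg⟩ : C)
    rwa [Subgroup.orderOf_mk] at this
  have d2 := key a 2 Nat.prime_two ha f1 f2
  have d3 := key b 3 Nat.prime_three hb f3 f4
  have d5 := key (a * b) 5 Nat.prime_five (mul_mem ha hb) f5 f6
  have d30 : 30 ∣ Nat.card C := by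
    have d6 : 2 * 3 ∣ Nat.card C := Nat.Coprime.mul_dvd_of_dvd_of_dvd (by norm_num) d2 d3
    have : 2 * 3 * 5 ∣ Nat.card C := Nat.Coprime.mul_dvd_of_dvd_of_dvd (by norm_num) d6 d5
    exact this
  obtain ⟨k, hk⟩ := d30
  have hidx := C.card_mul_index
  rw [card_A5, hk] at hidx
  have hk0 : k ≠ 0 := by rintro rfl; omega
  have hi : C.index = 1 ∨ C.index = 2 := by
    have h1 : k * C.index = 2 := by nlinarith
    have h2 : C.index ∣ 2 := ⟨k, by rw [← h1, mul_comm]⟩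
    rcases (Nat.dvd_prime Nat.prime_two).mp h2 with h | h
    · exact Or.inl h
    · exact Or.inr h
  rcases hi with h | h
  · exact Subgroup.index_eq_one.mp h
  · have hn := Subgroup.normal_of_index_eq_two h
    have := alternatingGroup.isSimpleGroup_five
    rcases hn.eq_bot_or_eq_top with h1 | h1
    · exfalso
      rw [h1] at ha
      exact f2 (Subgroup.mem_bot.mp ha)
    · exact h1

def f5 : alternatingGroup (Fin 5) :=
  ⟨Equiv.swap 0 2 * Equiv.swap 2 4, Equiv.Perm.mem_alternatingGroup.mpr (by decide)⟩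

set_option maxRecDepth 100000 in
theorem e5_P235 : a5 ^ 2 = 1 ∧ a5 ≠ 1 ∧ e5 ^ 3 = 1 ∧ e5 ≠ 1 ∧ (a5 * e5) ^ 5 = 1 ∧ a5 * e5 ≠ 1 := by
  decide

set_option maxRecDepth 100000 in
theorem f5_P235 : a5 ^ 2 = 1 ∧ a5 ≠ 1 ∧ f5 ^ 3 = 1 ∧ f5 ≠ 1 ∧ (a5 * f5) ^ 5 = 1 ∧ a5 * f5 ≠ 1 := by
  decide

set_option maxRecDepth 100000 in
theorem f5_conj : ∃ g : alternatingGroup (Fin 5), a5 * f5 = g * (a5 * e5) ^ 2 * g⁻¹ := by
  decide

theorem A5_pair_data (h2 : (2 : F) ≠ 0) {L : Subgroup (PSL2 F)}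
    (e : L ≃* alternatingGroup (Fin 5)) :
    ∃ x1 h1 x2 k2 : SL2 F, T5P x1 h1 ∧ T5P x2 k2 ∧ tr (x2 * k2) = 1 - tr (x1 * h1) ∧
      pre L = Subgroup.closure ({x1, h1} : Set (SL2 F)) ∧
      pre L = Subgroup.closure ({x2, k2} : Set (SL2 F)) := by
  have p1 : P235 (e.symm a5) (e.symm e5) := (P235_equiv e.symm _ _).mp e5_P235
  have p2 : P235 (e.symm a5) (e.symm f5) := (P235_equiv e.symm _ _).mp f5_P235
  obtain ⟨x1, h1, q1, hx1, hh1⟩ := exists_T5P_lift p1
  obtain ⟨x2, k2, q2, hx2, hk2⟩ := exists_T5P_lift p2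
  refine ⟨x1, h1, x2, k2, q1, q2, ?_,
    pre_eq_closure e (gen_235 e5_P235) hx1 hh1 (neg_one_mem_closure q1.1),
    pre_eq_closure e (gen_235 f5_P235) hx2 hk2 (neg_one_mem_closure q2.1)⟩
  obtain ⟨g, hg⟩ := f5_conj
  obtain ⟨γ, -, hγ⟩ := exists_lift (F := F) e g
  have h6 : proj F (γ * (x1 * h1) ^ 2 * γ⁻¹) = proj F (x2 * k2) := by
    rw [map_mul, map_mul, map_inv, map_pow, map_mul, map_mul, hγ, hx1, hh1, hx2, hk2]
    have := congrArg (fun z => ((e.symm z : L) : PSL2 F)) hg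
    simp only [map_mul, map_pow, map_inv] at this
    exact this.symm
  have h7 : tr (γ * (x1 * h1) ^ 2 * γ⁻¹) = tr (x1 * h1) - 1 := by
    rw [tr_conj, tr_sq]; linear_combination q1.2.2
  rcases (mk_eq_mk_iff _ _).mp h6 with h8 | h8
  · exfalso
    have h9 := q2.2.2
    rw [h8, h7] at h9
    have h10 : 2 * tr (x1 * h1) = 2 := by linear_combination q1.2.2 - h9
    have h11 : tr (x1 * h1) = 1 := mul_left_cancel₀ h2 (by rw [h10, mul_one])
    have h12 := q1.2.2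
    rw [h11] at h12
    exact one_ne_zero (α := F) (by linear_combination -h12)
  · rw [h8, tr_neg, h7]; ring

theorem exists_pair_with_trace (h2 : (2 : F) ≠ 0) {L : Subgroup (PSL2 F)}
    (e : L ≃* alternatingGroup (Fin 5)) {t : F} (ht : t ^ 2 = t + 1) :
    ∃ x h : SL2 F, T5P x h ∧ tr (x * h) = t ∧ pre L = Subgroup.closure ({x, h} : Set (SL2 F)) := by
  obtain ⟨x1, h1, x2, k2, q1, q2, h12, g1, g2⟩ := A5_pair_data h2 e
  have : (t - tr (x1 * h1)) * (t - tr (x2 * k2)) = 0 := by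
    rw [h12]; linear_combination ht - q1.2.2
  rcases mul_eq_zero.mp this with h6 | h6
  · exact ⟨x1, h1, q1, by linear_combination -h6, g1⟩
  · exact ⟨x2, k2, q2, by linear_combination -h6, g2⟩

theorem map_closure_pair (ψ : SL2 F ≃* SL2 F) (x h : SL2 F) :
    (Subgroup.closure ({x, h} : Set (SL2 F))).map ψ.toMonoidHom =
      Subgroup.closure ({ψ x, ψ h} : Set (SL2 F)) := by
  rw [MonoidHom.map_closure, Set.image_pair]; rfl

theorem exists_A5_of_T5P [Finite F] (h2 : (2 : F) ≠ 0) {L0 : Subgroup (PSL2 F)}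
    (e0 : L0 ≃* alternatingGroup (Fin 5)) {x h : SL2 F} (hp : T5P x h) :
    ∃ L : Subgroup (PSL2 F), Nonempty (L ≃* alternatingGroup (Fin 5)) ∧
      pre L = Subgroup.closure ({x, h} : Set (SL2 F)) := by
  obtain ⟨x1, h1, q1, ht, hgen⟩ := exists_pair_with_trace h2 e0 hp.2.2
  obtain ⟨ψ, h5, h6⟩ := pair_conj h2 q1.1 hp.1 (q1.2.1.trans hp.2.1.symm) ht
    (by rw [q1.2.1]; exact N_ne q1.2.2)
  refine ⟨L0.map (barEquiv ψ).toMonoidHom,
    ⟨(L0.equivMapOfInjective _ (barEquiv ψ).injective).symm.trans e0⟩, ?_⟩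
  rw [pre_map_barEquiv, hgen, map_closure_pair, h5, h6]

theorem card_of_equiv_A5 {G : Type*} [Group G] {L : Subgroup G}
    (e : L ≃* alternatingGroup (Fin 5)) : Nat.card L = 60 := by
  rw [Nat.card_congr e.toEquiv, card_A5]

/-- the number of subgroups `A₅` -/
theorem card_A5_subgroups [Fintype F] (h2 : (2 : F) ≠ 0) (h3 : (3 : F) ≠ 0) (h5 : (5 : F) ≠ 0)
    {L0 : Subgroup (PSL2 F)} (e0 : L0 ≃* alternatingGroup (Fin 5)) :
    30 * Nat.card {L : Subgroup (PSL2 F) // Nonempty (L ≃* alternatingGroup (Fin 5))} =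
      Nat.card (PSL2 F) := by
  classical
  obtain ⟨x1, h1, -, -, q1, -, -, -, -⟩ := A5_pair_data h2 e0
  have hT := card_T5 h2 h5 q1.2.2
  have hex : ∀ p : {p : SL2 F × SL2 F // T5P p.1 p.2},
      ∃ L : {L : Subgroup (PSL2 F) // Nonempty (L ≃* alternatingGroup (Fin 5))},
        pre L.1 = Subgroup.closure ({p.1.1, p.1.2} : Set (SL2 F)) := by
    intro p
    obtain ⟨L, hL, hgen⟩ := exists_A5_of_T5P h2 e0 p.2
    exact ⟨⟨L, hL⟩, hgen⟩
  choose Φ hΦ using hex
  have e1 := Equiv.sigmaFiberEquiv Φ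
  have hmem : ∀ (L : {L : Subgroup (PSL2 F) // Nonempty (L ≃* alternatingGroup (Fin 5))})
      (p : {p : SL2 F × SL2 F // T5P p.1 p.2}), Φ p = L →
      proj F p.1.1 ∈ L.1 ∧ proj F p.1.2 ∈ L.1 := by
    rintro L p rfl
    have hx : p.1.1 ∈ pre (Φ p).1 := by rw [hΦ]; exact Subgroup.subset_closure (by simp)
    have hh : p.1.2 ∈ pre (Φ p).1 := by rw [hΦ]; exact Subgroup.subset_closure (by simp)
    exact ⟨hx, hh⟩
  have huniq : ∀ (L : {L : Subgroup (PSL2 F) // Nonempty (L ≃* alternatingGroup (Fin 5))})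
      (p : {p : SL2 F × SL2 F // T5P p.1 p.2}), proj F p.1.1 ∈ L.1 → proj F p.1.2 ∈ L.1 →
      Φ p = L := by
    intro L p hx hh
    apply Subtype.ext
    obtain ⟨eL⟩ := L.2
    obtain ⟨eΦ⟩ := (Φ p).2
    apply Subgroup.eq_of_le_of_card_ge
    · rw [← pre_mono, hΦ, Subgroup.closure_le]
      rintro y (rfl | rfl)
      · exact hx
      · exact hh
    · rw [card_of_equiv_A5 eL, card_of_equiv_A5 eΦ]
  have e2 : ∀ L : {L : Subgroup (PSL2 F) // Nonempty (L ≃* alternatingGroup (Fin 5))},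
      {p : {p : SL2 F × SL2 F // T5P p.1 p.2} // Φ p = L} ≃
        {p : SL2 F × SL2 F // T5P p.1 p.2 ∧ proj F p.1 ∈ L.1 ∧ proj F p.2 ∈ L.1} := by
    intro L
    exact
      { toFun := fun p => ⟨p.1.1, p.1.2, hmem L p.1 p.2⟩
        invFun := fun p => ⟨⟨p.1, p.2.1⟩, huniq L ⟨p.1, p.2.1⟩ p.2.2.1 p.2.2.2⟩
        left_inv := fun p => rfl
        right_inv := fun p => rfl }
  have h6 : Nat.card {p : SL2 F × SL2 F // T5P p.1 p.2} =
      120 * Nat.card {L : Subgroup (PSL2 F) // Nonempty (L ≃* alternatingGroup (Fin 5))} := by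
    have := Fintype.ofFinite {L : Subgroup (PSL2 F) // Nonempty (L ≃* alternatingGroup (Fin 5))}
    rw [← Nat.card_congr e1, Nat.card_sigma]
    have : ∀ L : {L : Subgroup (PSL2 F) // Nonempty (L ≃* alternatingGroup (Fin 5))},
        Nat.card {p : {p : SL2 F × SL2 F // T5P p.1 p.2} // Φ p = L} = 120 := fun L => by
      obtain ⟨eL⟩ := L.2
      rw [Nat.card_congr (e2 L), card_fiber h2 h3 h5 eL]
    simp only [this, Finset.sum_const, Finset.card_univ, smul_eq_mul, Nat.card_eq_fintype_card]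
    ring
  rw [hT, card_SL2_eq, ee_eq_two (odd_card_of_two_ne_zero h2)] at h6
  omega

theorem A5_conj_of {L L' : Subgroup (PSL2 F)} (e : L ≃* alternatingGroup (Fin 5))
    (e' : L' ≃* alternatingGroup (Fin 5)) {x h x' h' g : SL2 F}
    (hL : pre L = Subgroup.closure ({x, h} : Set (SL2 F)))
    (hL' : pre L' = Subgroup.closure ({x', h'} : Set (SL2 F)))
    (h5 : g * x * g⁻¹ = x') (h6 : g * h * g⁻¹ = h') :
    L' = L.map (MulAut.conj (proj F g)).toMonoidHom := by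
  have : Finite L' := Nat.finite_of_card_ne_zero (by rw [card_of_equiv_A5 e']; norm_num)
  symm
  apply Subgroup.eq_of_le_of_card_ge
  · rintro _ ⟨l, hl, rfl⟩
    obtain ⟨w, rfl⟩ := QuotientGroup.mk'_surjective _ l
    have hw : w ∈ pre L := hl
    rw [hL] at hw
    have h7 : MulAut.conj g w ∈ (Subgroup.closure ({x, h} : Set (SL2 F))).map
        (MulAut.conj g).toMonoidHom := ⟨w, hw, rfl⟩
    rw [map_closure_pair, MulAut.conj_apply, MulAut.conj_apply, MulAut.conj_apply, h5, h6,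
      ← hL'] at h7
    have h8 : proj F (g * w * g⁻¹) ∈ L' := h7
    rw [map_mul, map_mul, map_inv] at h8
    exact h8
  · have : Nat.card (L.map (MulAut.conj (proj F g)).toMonoidHom) = Nat.card L :=
      Subgroup.card_map_of_injective (MulAut.conj (proj F g)).injective
    rw [this, card_of_equiv_A5 e, card_of_equiv_A5 e']

/-- two classes of subgroups `A₅` -/
theorem A5_two_classes [Fintype F] (h2 : (2 : F) ≠ 0) (h3 : (3 : F) ≠ 0) (h5 : (5 : F) ≠ 0)
    {L0 : Subgroup (PSL2 F)} (e0 : L0 ≃* alternatingGroup (Fin 5)) :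
    ∃ K : Subgroup (PSL2 F), Nonempty (K ≃* alternatingGroup (Fin 5)) ∧
      (¬ ∃ g : PSL2 F, K = L0.map (MulAut.conj g).toMonoidHom) ∧
      ∀ W : Subgroup (PSL2 F), Nonempty (W ≃* alternatingGroup (Fin 5)) →
        (∃ g : PSL2 F, W = L0.map (MulAut.conj g).toMonoidHom) ∨
        (∃ g : PSL2 F, W = K.map (MulAut.conj g).toMonoidHom) := by
  have hnorm : ∀ s ∈ L0, L0.map (MulAut.conj s).toMonoidHom = L0 := by
    intro s hs
    apply Subgroup.eq_of_le_of_card_ge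
    · rintro _ ⟨v, hv, rfl⟩
      exact mul_mem (mul_mem hs hv) (inv_mem hs)
    · have : Nat.card (L0.map (MulAut.conj s).toMonoidHom) = Nat.card L0 :=
        Subgroup.card_map_of_injective (MulAut.conj s).injective
      rw [this]
  have hcount : L0.index <
      Nat.card {V : Subgroup (PSL2 F) // Nonempty (V ≃* alternatingGroup (Fin 5))} := by
    have h5 := card_A5_subgroups h2 h3 h5 e0
    have h6 := L0.card_mul_index
    rw [card_of_equiv_A5 e0] at h6
    have h8 : 0 < L0.index := Nat.pos_of_ne_zero L0.index_ne_zero_of_finite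
    omega
  obtain ⟨K, ⟨eK⟩, hnc⟩ := exists_not_conj hnorm
    (fun V => Nonempty (V ≃* alternatingGroup (Fin 5))) hcount
  refine ⟨K, ⟨eK⟩, hnc, ?_⟩
  obtain ⟨x1, y1, -, -, q1, -, -, g1, -⟩ := A5_pair_data h2 e0
  obtain ⟨x2, y2, q2, t2, g2⟩ := exists_pair_with_trace h2 eK q1.2.2
  have hN : tr y1 ^ 2 + tr (x1 * y1) ^ 2 - 4 ≠ 0 := by rw [q1.2.1]; exact N_ne q1.2.2
  obtain ⟨ψ21, C21, hC21, a5, a6⟩ := pair_conj' h2 q1.1 q2.1 (q1.2.1.trans q2.2.1.symm) t2.symm hN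
  have hns : ¬ IsSquare C21.det := by
    intro hsq
    obtain ⟨g, hg⟩ := hC21.exists_conj hsq
    exact hnc ⟨proj F g, A5_conj_of e0 eK g1 g2 (by rw [← hg, a5]) (by rw [← hg, a6])⟩
  rintro W ⟨eW⟩
  obtain ⟨x', y', q', t', g'⟩ := exists_pair_with_trace h2 eW q1.2.2
  obtain ⟨ψ, C, hC, b5, b6⟩ := pair_conj' h2 q1.1 q'.1 (q1.2.1.trans q'.2.1.symm) t'.symm hN
  by_cases hsq : IsSquare C.det
  · left
    obtain ⟨g, hg⟩ := hC.exists_conj hsq
    exact ⟨proj F g, A5_conj_of e0 eW g1 g' (by rw [← hg, b5]) (by rw [← hg, b6])⟩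
  · right
    have hCC := hC21.symm.trans hC
    obtain ⟨g, hg⟩ := hCC.exists_conj (by
      rw [det_mul, det_adjugate, Fintype.card_fin]
      simpa using isSquare_mul_of_not hsq hns)
    refine ⟨proj F g, A5_conj_of eK eW g2 g' ?_ ?_⟩
    · rw [← hg]
      change ψ (ψ21.symm x2) = x'
      rw [← a5, MulEquiv.symm_apply_apply, b5]
    · rw [← hg]
      change ψ (ψ21.symm y2) = y'
      rw [← a6, MulEquiv.symm_apply_apply, b6]

end Cfsg.Agent.Lib.Helper41A5
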