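import Mathlib
import Cfsg.Agent.Lib.Helper41Klein2
import Cfsg.Agent.Lib.Helper7SL

set_option autoImplicit false

namespace Cfsg.Agent.Lib.Helper41Central

open Matrix Cfsg.Agent.Lib.Helper46SL2 Cfsg.Agent.Lib.Helper41SL2 Cfsg.Agent.Lib.Helper41Klein
  Cfsg.Agent.Lib.Helper41Dk

local notation "SL2" => Matrix.SpecialLinearGroup (Fin 2)

variable {G : Type*} [Group G]

/-- the properties of `SL₂(q)`, `q` odd, with central involution `j`, that we need -/
structure Nice (j : G) (M : Subgroup G) : Prop where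
  hj : j ∈ M
  inv : ∀ m ∈ M, m * m = 1 → m = 1 ∨ m = j
  pair : ∃ x ∈ M, ∃ y ∈ M, x * x = j ∧ y * y = j ∧ x * y ≠ y * x ∧
    ∀ g ∈ M, g * x = x * g → g * y = y * g → g = 1 ∨ g = j

/-- a central product of two nice groups -/
structure Good (j : G) (M N : Subgroup G) : Prop where
  nM : Nice j M
  nN : Nice j N
  comm : ∀ x ∈ M, ∀ y ∈ N, x * y = y * x
  inter : ∀ g, g ∈ M → g ∈ N → g = 1 ∨ g = j
  hj1 : j ≠ 1
  hjj : j * j = 1

theorem Good.symm {j : G} {M N : Subgroup G} (h : Good j M N) : Good j N M :=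
  ⟨h.nN, h.nM, fun x hx y hy => (h.comm y hy x hx).symm, fun g h1 h2 => h.inter g h2 h1, h.hj1, h.hjj⟩

theorem exists_of_mem_sup {M N : Subgroup G} (comm : ∀ x ∈ M, ∀ y ∈ N, x * y = y * x) {g : G}
    (hg : g ∈ M ⊔ N) : ∃ m ∈ M, ∃ n ∈ N, g = m * n := by
  let P : Subgroup G :=
    { carrier := {g | ∃ m ∈ M, ∃ n ∈ N, g = m * n}
      one_mem' := ⟨1, M.one_mem, 1, N.one_mem, by simp⟩
      mul_mem' := by
        rintro _ _ ⟨m, hm, n, hn, rfl⟩ ⟨m', hm', n', hn', rfl⟩
        refine ⟨m * m', M.mul_mem hm hm', n * n', N.mul_mem hn hn', ?_⟩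
        have := comm m' hm' n hn
        calc m * n * (m' * n') = m * (n * m') * n' := by group
          _ = m * (m' * n) * n' := by rw [this]
          _ = m * m' * (n * n') := by group
      inv_mem' := by
        rintro _ ⟨m, hm, n, hn, rfl⟩
        refine ⟨m⁻¹, M.inv_mem hm, n⁻¹, N.inv_mem hn, ?_⟩
        rw [_root_.mul_inv_rev]
        exact (comm _ (M.inv_mem hm) _ (N.inv_mem hn)).symm }
  have h1 : M ≤ P := fun m hm => ⟨m, hm, 1, N.one_mem, by simp⟩
  have h2 : N ≤ P := fun n hn => ⟨1, M.one_mem, n, hn, by simp⟩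
  exact (sup_le h1 h2) hg

theorem Good.root_mem {j : G} {M N : Subgroup G} (h : Good j M N) {x : G} (hx : x ∈ M ⊔ N)
    (hxx : x * x = j) : x ∈ M ∨ x ∈ N := by
  obtain ⟨m, hm, n, hn, rfl⟩ := exists_of_mem_sup h.comm hx
  have h1 : m * n * (m * n) = (m * m) * (n * n) := by
    have := h.comm m hm n hn
    calc m * n * (m * n) = m * (n * m) * n := by group
      _ = m * (m * n) * n := by rw [this]
      _ = _ := by group
  rw [h1] at hxx
  have h2 : m * m = j * (n * n)⁻¹ := by rw [← hxx]; group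
  have h3 : m * m ∈ N := by
    rw [h2]
    exact N.mul_mem h.nN.hj (N.inv_mem (N.mul_mem hn hn))
  rcases h.inter _ (M.mul_mem hm hm) h3 with h4 | h4
  · right
    rcases h.nM.inv m hm h4 with rfl | rfl
    · simpa using hn
    · exact N.mul_mem h.nN.hj hn
  · left
    rw [h4] at hxx
    have h5 : n * n = 1 := by
      have : j * (n * n) = j * 1 := by rw [hxx, mul_one]
      exact mul_left_cancel this
    rcases h.nN.inv n hn h5 with rfl | rfl
    · simpa using hm
    · exact M.mul_mem hm h.nM.hj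

theorem Nice.root_comm {j : G} {M : Subgroup G} (h : Nice j M) {x y : G} (hx : x ∈ M) (hy : y ∈ M)
    (hxx : x * x = j) (hyy : y * y = j) (hc : x * y = y * x) : y = x ∨ y = x * j := by
  have h1 : (x⁻¹ * y) * (x⁻¹ * y) = 1 := by
    have h2 : y * x⁻¹ = x⁻¹ * y := by
      calc y * x⁻¹ = x⁻¹ * (x * y) * x⁻¹ := by group
        _ = x⁻¹ * (y * x) * x⁻¹ := by rw [hc]
        _ = _ := by group
    calc (x⁻¹ * y) * (x⁻¹ * y) = x⁻¹ * (y * x⁻¹) * y := by group
      _ = x⁻¹ * (x⁻¹ * y) * y := by rw [h2]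
      _ = (x * x)⁻¹ * (y * y) := by group
      _ = 1 := by rw [hxx, hyy, inv_mul_cancel]
  rcases h.inv _ (M.mul_mem (M.inv_mem hx) hy) h1 with h3 | h3
  · left
    exact (inv_mul_eq_one.mp h3).symm
  · right
    rw [← h3]; group

theorem Good.not_both {j : G} {M N : Subgroup G} (h : Good j M N) {x : G} (hx : x ∈ M) (hx' : x ∈ N)
    (hxx : x * x = j) : False := by
  rcases h.inter x hx hx' with rfl | rfl
  · rw [mul_one] at hxx
    exact h.hj1 hxx.symm
  · rw [h.hjj] at hxx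
    exact h.hj1 hxx.symm

theorem roots_le {j : G} {M N A B : Subgroup G} (h1 : Good j M N) (h2 : Good j A B)
    (hL : M ⊔ N = A ⊔ B) :
    (∀ x ∈ A, x * x = j → x ∈ M) ∨ (∀ x ∈ A, x * x = j → x ∈ N) := by
  have key : ∀ {M N : Subgroup G}, Good j M N → M ⊔ N = A ⊔ B → ∀ x0 ∈ A, x0 * x0 = j → x0 ∈ M →
      ∀ y ∈ A, y * y = j → y ∈ M := by
    intro M N h1 hL x0 hx0 hxx hM y hy hyy
    by_cases hcomm : x0 * y = y * x0
    · rcases h2.nM.root_comm hx0 hy hxx hyy hcomm with rfl | rfl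
      · exact hM
      · exact M.mul_mem hM h1.nM.hj
    · have hy' : y ∈ M ⊔ N := by rw [hL]; exact Subgroup.mem_sup_left hy
      rcases h1.root_mem hy' hyy with h | h
      · exact h
      · exact absurd (h1.comm x0 hM y h) hcomm
  obtain ⟨x0, hx0, -, -, hxx, -⟩ := h2.nM.pair
  have hx' : x0 ∈ M ⊔ N := by rw [hL]; exact Subgroup.mem_sup_left hx0
  rcases h1.root_mem hx' hxx with h | h
  · exact Or.inl (key h1 hL x0 hx0 hxx h)
  · exact Or.inr (key h1.symm (by rw [sup_comm, hL]) x0 hx0 hxx h)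

theorem le_of {j : G} {M N A B : Subgroup G} (h1 : Good j M N) (h2 : Good j A B)
    (hL : M ⊔ N = A ⊔ B) (hN : ∀ x ∈ N, x * x = j → x ∈ B) : A ≤ M := by
  intro a ha
  have ha' : a ∈ M ⊔ N := by rw [hL]; exact Subgroup.mem_sup_left ha
  obtain ⟨m, hm, n, hn, rfl⟩ := exists_of_mem_sup h1.comm ha'
  obtain ⟨x, hx, y, hy, hxx, hyy, -, hg⟩ := h1.nN.pair
  have key : ∀ x ∈ N, x * x = j → n * x = x * n := by
    intro x hx hxx
    have e1 := h2.comm _ ha x (hN x hx hxx)
    have e2 := h1.comm m hm x hx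
    have e3 : m * (n * x) = m * (x * n) := by
      calc m * (n * x) = m * n * x := by group
        _ = x * (m * n) := e1
        _ = (x * m) * n := by group
        _ = (m * x) * n := by rw [e2]
        _ = _ := by group
    exact mul_left_cancel e3
  rcases hg n hn (key x hx hxx) (key y hy hyy) with rfl | rfl
  · simpa using hm
  · exact M.mul_mem hm h1.nM.hj

theorem good_unique {j : G} {M N A B : Subgroup G} (h1 : Good j M N) (h2 : Good j A B)
    (hL : M ⊔ N = A ⊔ B) : (A = M ∧ B = N) ∨ (A = N ∧ B = M) := by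
  have main : ∀ {M N : Subgroup G}, Good j M N → M ⊔ N = A ⊔ B → (∀ x ∈ A, x * x = j → x ∈ M) →
      A = M ∧ B = N := by
    intro M N h1 hL hA
    have hB : ∀ x ∈ B, x * x = j → x ∈ N := by
      rcases roots_le h1 h2.symm (by rw [hL, sup_comm]) with h | h
      · exfalso
        obtain ⟨y0, hy0, -, -, hyy, -⟩ := h1.nN.pair
        have hy' : y0 ∈ A ⊔ B := by rw [← hL]; exact Subgroup.mem_sup_right hy0
        rcases h2.root_mem hy' hyy with h' | h'
        · exact h1.not_both (hA y0 h' hyy) hy0 hyy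
        · exact h1.not_both (h y0 h' hyy) hy0 hyy
      · exact h
    have hN : ∀ x ∈ N, x * x = j → x ∈ B := by
      intro x hx hxx
      have hx' : x ∈ A ⊔ B := by rw [← hL]; exact Subgroup.mem_sup_right hx
      rcases h2.root_mem hx' hxx with h' | h'
      · exact absurd hxx (fun _ => h1.not_both (hA x h' hxx) hx hxx)
      · exact h'
    have hM : ∀ x ∈ M, x * x = j → x ∈ A := by
      intro x hx hxx
      have hx' : x ∈ A ⊔ B := by rw [← hL]; exact Subgroup.mem_sup_left hx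
      rcases h2.root_mem hx' hxx with h' | h'
      · exact h'
      · exact absurd hxx (fun _ => h1.not_both hx (hB x h' hxx) hxx)
    refine ⟨le_antisymm (le_of h1 h2 hL hN) (le_of h2 h1 hL.symm hB),
      le_antisymm (le_of h1.symm h2.symm (by rw [sup_comm, hL, sup_comm]) hM)
        (le_of h2.symm h1.symm (by rw [sup_comm, ← hL, sup_comm]) hA)⟩
  rcases roots_le h1 h2 hL with h | h
  · exact Or.inl (main h1 hL h)
  · right
    exact main h1.symm (by rw [sup_comm, hL]) h

theorem nice_of_equiv {F : Type*} [Field F] [Fintype F] (h2 : (2 : F) ≠ 0) {M : Subgroup G}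
    (e : M ≃* SL2 F) {j : G} (hj : j ∈ M) (hj1 : j ≠ 1) (hjj : j * j = 1) : Nice j M := by
  have hinv : ∀ m : M, m * m = 1 → e m = 1 ∨ e m = -1 := by
    intro m hm
    apply (sq_eq_one_iff' h2).mp
    rw [← map_mul, hm, map_one]
  have hej : e ⟨j, hj⟩ = -1 := by
    rcases hinv ⟨j, hj⟩ (Subtype.ext hjj) with h | h
    · exfalso
      apply hj1
      have : (⟨j, hj⟩ : M) = 1 := e.injective (by rw [h, map_one])
      exact congrArg Subtype.val this
    · exact h
  refine ⟨hj, ?_, ?_⟩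
  · intro m hm hmm
    rcases hinv ⟨m, hm⟩ (Subtype.ext hmm) with h | h
    · left
      have : (⟨m, hm⟩ : M) = 1 := e.injective (by rw [h, map_one])
      exact congrArg Subtype.val this
    · right
      have : (⟨m, hm⟩ : M) = ⟨j, hj⟩ := e.injective (by rw [h, hej])
      exact congrArg Subtype.val this
  · have hne : Nonempty (TT F) := by
      have h1 := card_TT (F := F) h2
      have h3 : 0 < Nat.card (SL2 F) := Nat.card_pos
      rw [← h1] at h3
      exact (Nat.card_pos_iff.mp h3).1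
    obtain ⟨⟨⟨X, Y⟩, hQ⟩⟩ := hne
    have hQ' : QP X Y := hQ
    have hroot : ∀ W : SL2 F, W * W = -1 → ((e.symm W : M) : G) * (e.symm W : M) = j := by
      intro W hW
      have : e.symm W * e.symm W = ⟨j, hj⟩ := by
        apply e.injective
        rw [map_mul, e.apply_symm_apply, hW, hej]
      exact congrArg Subtype.val this
    refine ⟨e.symm X, (e.symm X).2, e.symm Y, (e.symm Y).2, hroot X hQ'.sq_x, hroot Y (hQ'.sq_y h2),
      ?_, ?_⟩
    · intro h
      apply hQ'.not_commute h2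
      have h5 : e.symm X * e.symm Y = e.symm Y * e.symm X := Subtype.ext h
      have h6 := congrArg e h5
      rw [map_mul, map_mul, e.apply_symm_apply, e.apply_symm_apply] at h6
      exact h6.symm
    · intro g hg hgx hgy
      have hx : e ⟨g, hg⟩ * X = X * e ⟨g, hg⟩ := by
        have h5 : (⟨g, hg⟩ : M) * e.symm X = e.symm X * ⟨g, hg⟩ := Subtype.ext hgx
        have h6 := congrArg e h5
        rwa [map_mul, map_mul, e.apply_symm_apply] at h6
      have hy : e ⟨g, hg⟩ * Y = Y * e ⟨g, hg⟩ := by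
        have h5 : (⟨g, hg⟩ : M) * e.symm Y = e.symm Y * ⟨g, hg⟩ := Subtype.ext hgy
        have h6 := congrArg e h5
        rwa [map_mul, map_mul, e.apply_symm_apply] at h6
      have hcen : e ⟨g, hg⟩ ∈ Subgroup.center (SL2 F) := by
        by_contra hcen
        exact hQ'.not_commute h2 (commute_of_mem_centralizer hcen hy.symm hx.symm)
      rcases mem_center_iff_eq.mp hcen with h | h
      · left
        have : (⟨g, hg⟩ : M) = 1 := e.injective (by rw [h, map_one])
        exact congrArg Subtype.val this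
      · right
        have : (⟨g, hg⟩ : M) = ⟨j, hj⟩ := e.injective (by rw [h, hej])
        exact congrArg Subtype.val this

theorem good_of_equiv {F₁ : Type*} [Field F₁] [Fintype F₁] {F₂ : Type*} [Field F₂] [Fintype F₂]
    (hF₁ : Odd (Fintype.card F₁)) (hF₂ : Odd (Fintype.card F₂)) {L₁ L₂ : Subgroup G}
    (e₁ : L₁ ≃* SL2 F₁) (e₂ : L₂ ≃* SL2 F₂)
    (hc : ∀ x ∈ L₁, ∀ y ∈ L₂, x * y = y * x) {j : G} (hj : orderOf j = 2)
    (hm : L₁ ⊓ L₂ = Subgroup.zpowers j) : Good j L₁ L₂ := by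
  have hj1 : j ≠ 1 := by
    rintro rfl
    rw [orderOf_one] at hj
    omega
  have hjj : j * j = 1 := by
    have := pow_orderOf_eq_one j
    rwa [hj, sq] at this
  have hjm : j ∈ L₁ ⊓ L₂ := by rw [hm]; exact Subgroup.mem_zpowers j
  refine ⟨nice_of_equiv (two_ne_zero_of_odd hF₁) e₁ hjm.1 hj1 hjj,
    nice_of_equiv (two_ne_zero_of_odd hF₂) e₂ hjm.2 hj1 hjj, hc, ?_, hj1, hjj⟩
  intro g h1 h2
  have hg : g ∈ Subgroup.zpowers j := by rw [← hm]; exact ⟨h1, h2⟩
  obtain ⟨k, rfl⟩ := Subgroup.mem_zpowers_iff.mp hg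
  rcases Int.even_or_odd' k with ⟨c, rfl | rfl⟩
  · left
    rw [_root_.zpow_mul, zpow_two, hjj, _root_.one_zpow]
  · right
    rw [_root_.zpow_add, _root_.zpow_mul, zpow_two, hjj, _root_.one_zpow, one_mul, zpow_one]

theorem card_inj {q₁ q₂ : ℕ} (h1 : 1 ≤ q₁) (h2 : 1 ≤ q₂)
    (h : q₁ * (q₁ ^ 2 - 1) = q₂ * (q₂ ^ 2 - 1)) : q₁ = q₂ := by
  have mono : ∀ a b : ℕ, 1 ≤ a → a < b → a * (a ^ 2 - 1) < b * (b ^ 2 - 1) := by
    intro a b ha hab
    have h5 : a ^ 2 < b ^ 2 := Nat.pow_lt_pow_left hab (by norm_num)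
    have h6 : a ^ 2 - 1 ≤ b ^ 2 - 1 := by omega
    have h7 : 0 < b ^ 2 - 1 := by
      have : 1 ≤ a ^ 2 := Nat.one_le_pow _ _ ha
      omega
    calc a * (a ^ 2 - 1) ≤ a * (b ^ 2 - 1) := Nat.mul_le_mul_left _ h6
      _ < b * (b ^ 2 - 1) := Nat.mul_lt_mul_of_pos_right hab h7
  rcases lt_trichotomy q₁ q₂ with h' | h' | h'
  · exact absurd h (mono _ _ h1 h').ne
  · exact h'
  · exact absurd h (mono _ _ h2 h').ne'

end Cfsg.Agent.Lib.Helper41Central
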