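import Mathlib
import Cfsg.Agent.Lib.Helper41Max
import Cfsg.Agent.Lib.Helper41SL2Q8
import Cfsg.Agent.Lib.Helper41Redundant

/-!
# Normalizers of subgroups of `SL₂(13)` and `PSL₂(13)` are maximal
-/

set_option autoImplicit false

namespace Cfsg.Agent.Lib.Helper41L13

open Matrix Cfsg.Agent.Lib.Helper46SL2 Cfsg.Agent.Lib.Helper41SL2 Cfsg.Agent.Lib.Helper41Dk
  Cfsg.Agent.Lib.Helper41Gen Cfsg.Agent.Lib.Helper41Redundant

variable {F : Type*} [Field F]

local notation "SL2" => Matrix.SpecialLinearGroup (Fin 2)
local notation "PSL2" => Matrix.ProjectiveSpecialLinearGroup (Fin 2)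

theorem le_normalizer_of_conj {G : Type*} [Group G] {X H : Subgroup G}
    (h : ∀ b ∈ X, ∀ a ∈ H, b * a * b⁻¹ ∈ H) : X ≤ Subgroup.normalizer (H : Set G) := by
  intro b hb
  rw [Subgroup.mem_normalizer_iff]
  intro a
  refine ⟨h b hb a, fun ha => ?_⟩
  have := h b⁻¹ (inv_mem hb) _ ha
  simpa [mul_assoc] using this

section
variable [Fintype F]

theorem card_SL (hF : Fintype.card F = 13) : Nat.card (SL2 F) = 2184 := by
  rw [Cfsg.Agent.Lib.Helper7SL.card_SL_two, hF]; rfl

omit [Field F] in
theorem odd13 (hF : Fintype.card F = 13) : Odd (Fintype.card F) := by rw [hF]; decide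

theorem subfield_top (hF : Fintype.card F = 13) (K : Subfield F) : K = ⊤ := by
  have h1 : Nat.card K.toAddSubgroup ∣ Nat.card F := AddSubgroup.card_addSubgroup_dvd_card _
  rw [Nat.card_eq_fintype_card (α := F), hF] at h1
  have h2 : Nat.card K.toAddSubgroup ≠ 1 := by
    intro h
    have := (AddSubgroup.card_eq_one.mp h)
    have h3 : (1 : F) ∈ K.toAddSubgroup := K.one_mem
    rw [this] at h3
    exact one_ne_zero (AddSubgroup.mem_bot.mp h3)
  have h3 : Nat.card K.toAddSubgroup = 13 :=
    ((Nat.dvd_prime (by norm_num)).mp h1).resolve_left h2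
  have h4 : K.toAddSubgroup = ⊤ := by
    apply AddSubgroup.eq_top_of_card_eq
    rw [h3, Nat.card_eq_fintype_card, hF]
  rw [eq_top_iff]
  intro x _
  have : x ∈ K.toAddSubgroup := by rw [h4]; trivial
  exact this

theorem center_le_of_coatom (hF : Fintype.card F = 13) {M : Subgroup (SL2 F)} (hM : IsCoatom M) :
    Subgroup.center (SL2 F) ≤ M := by
  by_contra hcon
  have h1 : M ⊔ Subgroup.center (SL2 F) = ⊤ := hM.2 _ (left_lt_sup.mpr hcon)
  exact hM.1 (eq_top_of_sup_center (two_ne_zero_of_odd (odd13 hF)) h1)

theorem coatom_card (hF : Fintype.card F = 13) {M : Subgroup (SL2 F)} (hM : IsCoatom M) :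
    Nat.card M = 156 ∨ Nat.card M = 24 ∨ Nat.card M = 28 := by
  obtain ⟨φ, -, hout⟩ := dickson_SL2' (center_le_of_coatom hF hM)
  have hc : Nat.card (M.map φ.toMonoidHom) = Nat.card M :=
    Subgroup.card_map_of_injective φ.injective
  have hdvd : Nat.card (M.map φ.toMonoidHom) ∣ 2184 := by
    rw [← card_SL hF]; exact Subgroup.card_subgroup_dvd_card _
  have he := ee_eq_two (odd13 hF)
  rw [← hc]
  rcases coatom_cases (by rw [hF]; norm_num) (isCoatom_map_equiv φ hM) hout with
    h | ⟨x, -, ht, -, -, h⟩ | ⟨-, h, -⟩ | ⟨-, -, h, -⟩ | ⟨-, -, h, -⟩ | ⟨K, -, hp, -⟩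
  · left; rw [h, card_Bor, hF]
  · rcases card_centralizer_cases ht with h1 | h1
    · right; left; rw [h, h1, hF]
    · right; right; rw [h, h1, hF]
  · right; left; rw [h, he]
  · exfalso; rw [h, he] at hdvd; revert hdvd; decide
  · exfalso; rw [h, he] at hdvd; revert hdvd; decide
  · exfalso
    rw [subfield_top hF K] at hp
    have : Module.finrank (⊤ : Subfield F) F = 1 := by
      have h1 := Module.natCard_eq_pow_finrank (K := (⊤ : Subfield F)) (V := F)
      have h2 : Nat.card (⊤ : Subfield F) = Nat.card F :=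
        Nat.card_congr Subfield.topEquiv.toEquiv
      rw [h2, Nat.card_eq_fintype_card, hF] at h1
      have h3 : (13 : ℕ) ^ 1 = 13 ^ Module.finrank (⊤ : Subfield F) F := by rw [pow_one]; exact h1
      exact (Nat.pow_right_injective (show 2 ≤ 13 by norm_num) h3).symm
    rw [this] at hp
    exact Nat.not_prime_one hp

theorem coatom_of_card (hF : Fintype.card F = 13) {X : Subgroup (SL2 F)}
    (hX : Nat.card X = 156 ∨ Nat.card X = 24 ∨ Nat.card X = 28) : IsCoatom X := by
  have hne : X ≠ ⊤ := by
    rintro rfl
    rw [Subgroup.card_top, card_SL hF] at hX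
    omega
  obtain ⟨M, hM, hXM⟩ := (eq_top_or_exists_le_coatom X).resolve_left hne
  have hd := Subgroup.card_dvd_of_le hXM
  have hc : Nat.card X = Nat.card M := by
    rcases coatom_card hF hM with h | h | h <;> rcases hX with h' | h' | h' <;> rw [h, h'] at hd <;>
      first | (exfalso; revert hd; decide) | (rw [h, h'])
  have : X = M := Subgroup.eq_of_le_of_card_ge hXM hc.ge
  rw [this]; exact hM

/-- subgroups of a torus -/
theorem torus_case (hF : Fintype.card F = 13) {H : Subgroup (SL2 F)} {x : SL2 F}
    (ht : tr x ^ 2 ≠ 4) (hH : H ≤ Subgroup.centralizer {x}) :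
    ∃ X : Subgroup (SL2 F), X ≤ Subgroup.normalizer (H : Set (SL2 F)) ∧
      (Nat.card X = 156 ∨ Nat.card X = 24 ∨ Nat.card X = 28) := by
  refine ⟨Subgroup.normalizer ((Subgroup.centralizer {x} : Subgroup (SL2 F)) : Set (SL2 F)), ?_, ?_⟩
  · apply le_normalizer_of_conj
    intro b hb a ha
    have hax : a * x = x * a := mem_centralizer_iff.mp (hH ha)
    rcases (mem_normalizer_centralizer_iff ht).mp hb with h | h
    · have hbx : b * x = x * b := mul_inv_eq_iff_eq_mul.mp h
      have hx := not_mem_center_of_tr ht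
      have : Commute b a := ct_SL2 _ _ _ hx (show Commute b x from hbx) (show Commute a x from hax)
      rw [this.eq, mul_inv_cancel_right]; exact ha
    · rw [inverts_centralizer (not_mem_center_of_tr ht) h hax]
      exact inv_mem ha
  · rw [card_normalizer_centralizer ht]
    rcases card_centralizer_cases ht with h1 | h1
    · right; left; rw [h1, hF]
    · right; right; rw [h1, hF]

omit [Fintype F] in
theorem comm_mem_UU {a b : SL2 F} (ha : a ∈ Bor F) (hb : b ∈ Bor F) : a * b * a⁻¹ * b⁻¹ ∈ UU F := by
  have ha' : a 1 0 = 0 := ha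
  have hb' : b 1 0 = 0 := hb
  have da := det2 a
  have db := det2 b
  rw [ha', mul_zero, sub_zero] at da
  rw [hb', mul_zero, sub_zero] at db
  refine ⟨?_, ?_, ?_⟩
  · simp only [mul_00, mul_01, mul_10, mul_11, inv_00, inv_01, inv_10, inv_11, ha', hb']
    linear_combination (a 0 0 * a 1 1) * db + da
  · simp only [mul_00, mul_01, mul_10, mul_11, inv_00, inv_01, inv_10, inv_11, ha', hb']
    ring
  · simp only [mul_00, mul_01, mul_10, mul_11, inv_00, inv_01, inv_10, inv_11, ha', hb']
    linear_combination (a 0 0 * a 1 1) * db + da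

theorem index_two_case {G : Type*} [Group G] [Finite G] {H N : Subgroup G} (hHN : H ≤ N)
    (h : Nat.card N = Nat.card H ∨ Nat.card N = 2 * Nat.card H) :
    N ≤ Subgroup.normalizer (H : Set G) := by
  rcases h with h | h
  · have : H = N := Subgroup.eq_of_le_of_card_ge hHN h.le
    rw [← this]; exact Subgroup.le_normalizer
  · rw [← Subgroup.normal_subgroupOf_iff_le_normalizer hHN]
    apply Subgroup.normal_of_index_eq_two
    have h1 := Subgroup.relIndex_mul_relIndex ⊥ H N bot_le hHN
    rw [Subgroup.relIndex_bot_left, Subgroup.relIndex_bot_left] at h1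
    have h2 : 0 < Nat.card H := Nat.card_pos
    change H.relIndex N = 2
    rw [h] at h1
    nlinarith

theorem main_out (hF : Fintype.card F = 13) {H : Subgroup (SL2 F)}
    (hZ : Subgroup.center (SL2 F) ≤ H) (hn : ¬ H.Normal) (hout : Out' H) :
    ∃ X : Subgroup (SL2 F), X ≤ Subgroup.normalizer (H : Set (SL2 F)) ∧
      (Nat.card X = 156 ∨ Nat.card X = 24 ∨ Nat.card X = 28) := by
  have he := ee_eq_two (odd13 hF)
  have hdvd : Nat.card H ∣ 2184 := by
    rw [← card_SL hF]; exact Subgroup.card_subgroup_dvd_card _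
  rcases hout with h | ⟨x, -, ht, h⟩ | ⟨x, hx, ht, h, hy⟩ | ⟨-, h, -⟩ | ⟨-, -, h, -⟩ | ⟨-, -, h, -⟩ |
    h | ⟨K, h, -⟩
  · exfalso; apply hn; rw [h]; infer_instance
  · exact torus_case hF ht (by rw [h]; exact inf_le_left)
  · -- dihedral type
    have hHN : H ≤ Subgroup.normalizer ((Subgroup.centralizer {x} : Subgroup (SL2 F)) : Set (SL2 F)) := by
      rw [h]; exact inf_le_left
    rcases card_NN_ss H ht with h1 | ⟨h1, -⟩
    · exact torus_case hF ht (by rw [h, h1]; exact inf_le_left)
    · rw [← h] at h1
      have h2 : 2 ∣ Nat.card (AA H x) := by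
        have := Subgroup.card_dvd_of_le (center_le_AA hZ x)
        have he' : Nat.card (Subgroup.center (SL2 F)) = 2 := he
        rwa [he'] at this
      have h3 : Nat.card (AA H x) ∣ Nat.card (Subgroup.centralizer {x} : Subgroup (SL2 F)) :=
        Subgroup.card_dvd_of_le inf_le_left
      have h4 : Nat.card (AA H x) ≠ 2 := by
        intro h4
        have h5 : Subgroup.center (SL2 F) = AA H x :=
          Subgroup.eq_of_le_of_card_ge (center_le_AA hZ x) (by rw [h4]; exact he.ge)
        apply not_mem_center_of_tr ht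
        rw [h5, mem_AA]
        exact ⟨Commute.refl x, hx⟩
      have hN := card_normalizer_centralizer ht
      have key : Nat.card H = 8 ∨
          (Nat.card (Subgroup.normalizer ((Subgroup.centralizer {x} : Subgroup (SL2 F)) : Set (SL2 F))) =
            Nat.card H ∨
          Nat.card (Subgroup.normalizer ((Subgroup.centralizer {x} : Subgroup (SL2 F)) : Set (SL2 F))) =
            2 * Nat.card H) := by
        rw [hN, h1]
        obtain ⟨k, hk⟩ := h2
        rcases card_centralizer_cases ht with h6 | h6 <;> rw [h6, hF] at h3 ⊢ <;> rw [hk] at h3 h4 ⊢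
        · have hk6 : k ∣ 6 := by
            obtain ⟨c, hc⟩ := h3
            exact ⟨c, by rw [mul_assoc] at hc; omega⟩
          have hk' : k ≤ 6 := Nat.le_of_dvd (by norm_num) hk6
          interval_cases k <;> first | omega | (exfalso; revert hk6; decide)
        · have hk7 : k ∣ 7 := by
            obtain ⟨c, hc⟩ := h3
            exact ⟨c, by rw [mul_assoc] at hc; omega⟩
          have hk' : k ≤ 7 := Nat.le_of_dvd (by norm_num) hk7
          interval_cases k <;> first | omega | (exfalso; revert hk7; decide)
      rcases key with h8 | h8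
      · have := Fact.mk Nat.prime_two
        have hS : Nat.card H = 2 ^ (Nat.card (SL2 F)).factorization 2 := by
          rw [h8, card_SL hF]
          have : (2184 : ℕ).factorization 2 = 3 := by
            rw [show (2184 : ℕ) = 2 ^ 3 * 273 by norm_num,
              Nat.factorization_mul (by norm_num) (by norm_num), Finsupp.add_apply,
              Nat.Prime.factorization_pow Nat.prime_two,
              Nat.factorization_eq_zero_of_not_dvd (show ¬ 2 ∣ 273 by decide)]
            simp
          rw [this]; rfl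
        have hc := card_normalizer_sylow_two_of_not_sixteen (odd13 hF) (by rw [hF]; decide)
          (Sylow.ofCard H hS)
        refine ⟨_, le_refl _, Or.inr (Or.inl ?_)⟩
        have e1 : ((Sylow.ofCard H hS : Sylow 2 (SL2 F)) : Subgroup (SL2 F)) = H := rfl
        rw [e1, h8] at hc
        exact hc
      · refine ⟨_, index_two_case hHN h8, ?_⟩
        rw [hN]
        rcases card_centralizer_cases ht with h6 | h6
        · right; left; rw [h6, hF]
        · right; right; rw [h6, hF]
  · exact ⟨H, Subgroup.le_normalizer, Or.inr (Or.inl (by rw [h, he]))⟩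
  · exfalso; rw [h, he] at hdvd; revert hdvd; decide
  · exfalso; rw [h, he] at hdvd; revert hdvd; decide
  · -- Borel
    have h1 : Nat.card (QQ H) ∣ 13 := by
      rw [← hF, ← card_UU]; exact Subgroup.card_dvd_of_le inf_le_left
    rcases (Nat.dvd_prime (by norm_num)).mp h1 with h2 | h2
    · have hbot : QQ H = ⊥ := Subgroup.card_eq_one.mp h2
      have hcomm : ∀ a ∈ H, ∀ b ∈ H, Commute a b := by
        intro a ha b hb
        have h3 : a * b * a⁻¹ * b⁻¹ ∈ QQ H :=
          Subgroup.mem_inf.mpr ⟨comm_mem_UU (h ha) (h hb),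
            H.mul_mem (H.mul_mem (H.mul_mem ha hb) (H.inv_mem ha)) (H.inv_mem hb)⟩
        rw [hbot, Subgroup.mem_bot] at h3
        exact mul_inv_eq_iff_eq_mul.mp (mul_inv_eq_one.mp h3)
      obtain ⟨x, hx, hxZ⟩ : ∃ x ∈ H, x ∉ Subgroup.center (SL2 F) := by
        by_contra hcon
        push Not at hcon
        apply hn
        have : H = Subgroup.center (SL2 F) := le_antisymm hcon hZ
        rw [this]; infer_instance
      have ht : tr x ^ 2 ≠ 4 := by
        intro ht
        have h5 : (tr x - 2) * (tr x + 2) = 0 := by linear_combination ht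
        rcases mul_eq_zero.mp h5 with h6 | h6
        · have h7 : x ∈ QQ H := ⟨mem_UU_of_Bor_of_tr (h hx) (by linear_combination h6), hx⟩
          rw [hbot, Subgroup.mem_bot] at h7
          exact hxZ (by rw [h7]; exact one_mem _)
        · have hneg : (-1 : SL2 F) ∈ Subgroup.center (SL2 F) := mem_center_iff_eq.mpr (Or.inr rfl)
          have e : -x = (-1 : SL2 F) * x := by simp
          have hnx : -x ∈ H := by rw [e]; exact mul_mem (hZ hneg) hx
          have h7 : -x ∈ QQ H :=
            ⟨mem_UU_of_Bor_of_tr (h hnx) (by rw [tr_neg]; linear_combination -h6), hnx⟩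
          rw [hbot, Subgroup.mem_bot] at h7
          apply hxZ
          have : x = -1 := by rw [← h7]; simp
          rw [this]; exact hneg
      apply torus_case hF ht
      intro a ha
      exact mem_centralizer_iff.mpr (hcomm a ha x hx).eq
    · have hUU : UU F ≤ H := by
        have : QQ H = UU F := Subgroup.eq_of_le_of_card_ge inf_le_left (by rw [h2, card_UU, hF])
        rw [← this]; exact inf_le_right
      refine ⟨Bor F, ?_, Or.inl (by rw [card_Bor, hF])⟩
      apply le_normalizer_of_conj
      intro b hb a ha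
      have : b * a * b⁻¹ = (b * a * b⁻¹ * a⁻¹) * a := by group
      rw [this]
      exact mul_mem (hUU (comm_mem_UU hb (h ha))) ha
  · exfalso
    apply hn
    rw [subfield_top hF K, SLK_top, top_le_iff] at h
    rw [h]; infer_instance

/-- the main theorem in `SL₂(13)` for subgroups containing the centre -/
theorem coatom_normalizer_of_center_le (hF : Fintype.card F = 13) {H : Subgroup (SL2 F)}
    (hZ : Subgroup.center (SL2 F) ≤ H) (hn : ¬ H.Normal) :
    IsCoatom (Subgroup.normalizer (H : Set (SL2 F))) := by
  obtain ⟨φ, -, hout⟩ := dickson_SL2' hZ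
  have hn' : ¬ (H.map φ.toMonoidHom).Normal := by
    intro h
    apply hn
    have h1 := h.comap φ.toMonoidHom
    rwa [Subgroup.comap_map_eq_self_of_injective φ.injective] at h1
  obtain ⟨X, hX, hc⟩ := main_out hF (center_le_map hZ φ) hn' hout
  have hXc := coatom_of_card hF hc
  have hne : Subgroup.normalizer ((H.map φ.toMonoidHom : Subgroup (SL2 F)) : Set (SL2 F)) ≠ ⊤ := by
    intro h
    exact hn' (Subgroup.normalizer_eq_top_iff.mp h)
  have h1 : X = Subgroup.normalizer ((H.map φ.toMonoidHom : Subgroup (SL2 F)) : Set (SL2 F)) := by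
    rcases hXc.le_iff.mp hX with h | h
    · exact absurd h hne
    · exact h.symm
  rw [h1] at hXc
  rw [← Subgroup.map_equiv_normalizer_eq H φ] at hXc
  exact (OrderIso.isCoatom_iff (MulEquiv.mapSubgroup φ) _).mp hXc

/-- the main theorem in `SL₂(13)` -/
theorem coatom_normalizer_SL (hF : Fintype.card F = 13) {H : Subgroup (SL2 F)} (hn : ¬ H.Normal) :
    IsCoatom (Subgroup.normalizer (H : Set (SL2 F))) := by
  have h2 : (2 : F) ≠ 0 := two_ne_zero_of_odd (odd13 hF)
  have hneg : (-1 : SL2 F) ∈ Subgroup.center (SL2 F) := mem_center_iff_eq.mpr (Or.inr rfl)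
  by_cases hm : (-1 : SL2 F) ∈ H
  · apply coatom_normalizer_of_center_le hF _ hn
    intro z hz
    rcases mem_center_iff_eq.mp hz with rfl | rfl
    · exact one_mem _
    · exact hm
  · have hodd : Odd (Nat.card H) := by
      rw [← Nat.not_even_iff_odd]
      intro heven
      have := Fact.mk Nat.prime_two
      obtain ⟨x, hx⟩ := exists_prime_orderOf_dvd_card' (G := H) 2 heven.two_dvd
      have h1 : (x : SL2 F) * x = 1 := by
        have : x ^ 2 = 1 := by
          have h0 := pow_orderOf_eq_one x
          generalize orderOf x = n at hx h0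
          subst hx
          exact h0
        rw [← pow_two, ← Subgroup.coe_pow, this]; rfl
      rcases (sq_eq_one_iff' h2).mp h1 with h3 | h3
      · have : x = 1 := Subtype.ext h3
        rw [this, orderOf_one] at hx
        omega
      · exact hm (h3 ▸ x.2)
    have hne1 : (-1 : SL2 F) ≠ 1 := by
      intro h
      have := congrArg (fun g : SL2 F => g 0 0) h
      simp only [Helper46SL2.neg_apply, one_00] at this
      exact h2 (by linear_combination -this)
    have hN : Subgroup.normalizer ((H ⊔ Subgroup.center (SL2 F) : Subgroup (SL2 F)) : Set (SL2 F)) =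
        Subgroup.normalizer (H : Set (SL2 F)) := by
      apply le_antisymm
      · apply le_normalizer_of_conj
        intro b hb a ha
        have h1 : b * a * b⁻¹ ∈ H ⊔ Subgroup.center (SL2 F) :=
          (Subgroup.mem_normalizer_iff.mp hb a).mp (Subgroup.mem_sup_left ha)
        obtain ⟨y, hy, z, hz, hyz⟩ := Subgroup.mem_sup_of_normal_right.mp h1
        rcases mem_center_iff_eq.mp hz with rfl | rfl
        · rw [← hyz, mul_one]; exact hy
        · exfalso
          have h3 : (b * a * b⁻¹) ^ Nat.card H = 1 := by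
            rw [conj_pow]
            have : (⟨a, ha⟩ : H) ^ Nat.card H = 1 := pow_card_eq_one'
            have h4 : a ^ Nat.card H = 1 := congrArg Subtype.val this
            rw [h4]; group
          have h5 : y ^ Nat.card H = 1 := by
            have : (⟨y, hy⟩ : H) ^ Nat.card H = 1 := pow_card_eq_one'
            exact congrArg Subtype.val this
          have hcomm : Commute y (-1 : SL2 F) := (Subgroup.mem_center_iff.mp hneg y)
          rw [← hyz, hcomm.mul_pow, h5, one_mul] at h3
          obtain ⟨k, hk⟩ := hodd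
          rw [hk, pow_succ, pow_mul] at h3
          have h6 : (-1 : SL2 F) ^ 2 = 1 := by simp
          rw [h6, one_pow, one_mul] at h3
          exact hne1 h3
      · apply le_normalizer_of_conj
        intro b hb a ha
        obtain ⟨y, hy, z, hz, rfl⟩ := Subgroup.mem_sup_of_normal_right.mp ha
        have h1 : b * (y * z) * b⁻¹ = (b * y * b⁻¹) * z := by
          have := Subgroup.mem_center_iff.mp hz b⁻¹
          calc b * (y * z) * b⁻¹ = b * y * (z * b⁻¹) := by group
            _ = b * y * (b⁻¹ * z) := by rw [this]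
            _ = _ := by group
        rw [h1]
        exact mul_mem (Subgroup.mem_sup_left ((Subgroup.mem_normalizer_iff.mp hb y).mp hy))
          (Subgroup.mem_sup_right hz)
    rw [← hN]
    apply coatom_normalizer_of_center_le hF le_sup_right
    intro h
    apply hn
    rw [← Subgroup.normalizer_eq_top_iff, ← hN, Subgroup.normalizer_eq_top_iff]
    exact h

omit [Fintype F] in
theorem isCoatom_of_pre {M : Subgroup (PSL2 F)} (hM : IsCoatom (pre M)) : IsCoatom M := by
  refine ⟨fun h => hM.1 (pre_eq_top_iff.mpr h), fun X hX => ?_⟩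
  apply pre_eq_top_iff.mp
  apply hM.2
  refine lt_of_le_of_ne (pre_mono.mpr hX.le) (fun h => hX.ne (pre_injective h))

/-- the main theorem in `PSL₂(13)` -/
theorem coatom_normalizer_PSL (hF : Fintype.card F = 13) {H : Subgroup (PSL2 F)} (hn : ¬ H.Normal) :
    IsCoatom (Subgroup.normalizer (H : Set (PSL2 F))) := by
  apply isCoatom_of_pre
  have h1 : pre (Subgroup.normalizer (H : Set (PSL2 F))) =
      Subgroup.normalizer ((pre H : Subgroup (SL2 F)) : Set (SL2 F)) :=
    Subgroup.comap_normalizer_eq_of_surjective H (QuotientGroup.mk'_surjective _)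
  rw [h1]
  apply coatom_normalizer_SL hF
  intro h
  apply hn
  rw [← Subgroup.normalizer_eq_top_iff, ← pre_eq_top_iff, h1, Subgroup.normalizer_eq_top_iff]
  exact h

end

section generic

/-- every non-normal subgroup has a maximal normalizer -/
def MaxNorm (K : Type*) [Group K] : Prop :=
  ∀ H : Subgroup K, ¬ H.Normal → IsCoatom (Subgroup.normalizer (H : Set K))

theorem MaxNorm.of_equiv {K K' : Type*} [Group K] [Group K'] (e : K ≃* K') (h : MaxNorm K') :
    MaxNorm K := by
  intro H hn
  have hn' : ¬ (H.map e.toMonoidHom).Normal := by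
    intro h
    apply hn
    have h1 := h.comap e.toMonoidHom
    rwa [Subgroup.comap_map_eq_self_of_injective e.injective] at h1
  have h1 := h _ hn'
  rw [← Subgroup.map_equiv_normalizer_eq H e] at h1
  exact (OrderIso.isCoatom_iff (MulEquiv.mapSubgroup e) _).mp h1

theorem isCoatom_prod_top {K S : Type*} [Group K] [Group S] {A : Subgroup K} (hA : IsCoatom A) :
    IsCoatom (A.prod (⊤ : Subgroup S)) := by
  refine ⟨fun h => hA.1 ?_, fun X hX => ?_⟩
  · rw [eq_top_iff]
    intro k _
    have : ((k, 1) : K × S) ∈ A.prod (⊤ : Subgroup S) := by rw [h]; trivial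
    exact (Subgroup.mem_prod.mp this).1
  · have hS : ∀ s : S, ((1, s) : K × S) ∈ X := fun s =>
      hX.le (Subgroup.mem_prod.mpr ⟨one_mem _, trivial⟩)
    have hiff : ∀ (k : K) (s : S), ((k, s) : K × S) ∈ X ↔ ((k, 1) : K × S) ∈ X := by
      intro k s
      constructor
      · intro h
        have := mul_mem h (hS s⁻¹)
        simpa using this
      · intro h
        have := mul_mem h (hS s)
        simpa using this
    have h1 : A ≤ X.comap (MonoidHom.inl K S) := by
      intro k hk
      exact hX.le (Subgroup.mem_prod.mpr ⟨hk, trivial⟩)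
    rcases hA.le_iff.mp h1 with h2 | h2
    · rw [eq_top_iff]
      rintro ⟨k, s⟩ -
      rw [hiff]
      have : k ∈ X.comap (MonoidHom.inl K S) := by rw [h2]; trivial
      exact this
    · exfalso
      apply hX.not_ge
      rintro ⟨k, s⟩ hks
      rw [hiff] at hks
      have : k ∈ X.comap (MonoidHom.inl K S) := hks
      rw [h2] at this
      exact Subgroup.mem_prod.mpr ⟨this, trivial⟩

theorem MaxNorm.prod {K S : Type*} [Group K] [CommGroup S] [Finite K] [Finite S]
    (hKS : (Nat.card K).Coprime (Nat.card S)) (h : MaxNorm K) : MaxNorm (K × S) := by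
  intro H hn
  -- splitting
  have hsplit : ∀ (k : K) (s : S), ((k, s) : K × S) ∈ H → ((k, 1) : K × S) ∈ H := by
    intro k s hks
    have hb := Int.gcd_eq_gcd_ab (Nat.card K) (Nat.card S)
    have hg : Int.gcd (Nat.card K) (Nat.card S) = 1 := hKS
    rw [hg] at hb
    have h1 := H.zpow_mem hks ((Nat.card S : ℤ) * Int.gcdB (Nat.card K) (Nat.card S))
    have h2 : ((k, s) : K × S) ^ ((Nat.card S : ℤ) * Int.gcdB (Nat.card K) (Nat.card S)) = (k, 1) := by
      apply Prod.ext
      · change k ^ ((Nat.card S : ℤ) * Int.gcdB (Nat.card K) (Nat.card S)) = k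
        have : (Nat.card S : ℤ) * Int.gcdB (Nat.card K) (Nat.card S) =
            1 - (Nat.card K : ℤ) * Int.gcdA (Nat.card K) (Nat.card S) := by
          push_cast at hb; linarith
        rw [this, _root_.zpow_sub, zpow_one, _root_.zpow_mul, zpow_natCast, pow_card_eq_one',
          _root_.one_zpow, inv_one, mul_one]
      · change s ^ ((Nat.card S : ℤ) * Int.gcdB (Nat.card K) (Nat.card S)) = 1
        rw [_root_.zpow_mul, zpow_natCast, pow_card_eq_one', _root_.one_zpow]
    rwa [h2] at h1
  have hsplit2 : ∀ (k : K) (s : S), ((k, s) : K × S) ∈ H → ((1, s) : K × S) ∈ H := by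
    intro k s hks
    have := mul_mem (inv_mem (hsplit k s hks)) hks
    simpa using this
  set H1 : Subgroup K := H.comap (MonoidHom.inl K S) with hH1
  have hmem : ∀ (k : K) (s : S), ((k, s) : K × S) ∈ H ↔ k ∈ H1 ∧ ((1, s) : K × S) ∈ H := by
    intro k s
    constructor
    · intro hks
      exact ⟨hsplit k s hks, hsplit2 k s hks⟩
    · rintro ⟨h1, h2⟩
      have h3 : ((k, 1) : K × S) ∈ H := h1
      have := mul_mem h3 h2
      simpa using this
  have hN : Subgroup.normalizer (H : Set (K × S)) =
      (Subgroup.normalizer (H1 : Set K)).prod (⊤ : Subgroup S) := by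
    ext ⟨g, t⟩
    rw [Subgroup.mem_prod, Subgroup.mem_normalizer_iff, Subgroup.mem_normalizer_iff]
    constructor
    · intro hg
      refine ⟨fun k => ?_, trivial⟩
      have := hg (k, 1)
      have e : ((g, t) : K × S) * (k, 1) * (g, t)⁻¹ = (g * k * g⁻¹, 1) := by
        apply Prod.ext <;> simp
      rw [e] at this
      exact this
    · rintro ⟨hg, -⟩ ⟨k, s⟩
      have e : ((g, t) : K × S) * (k, s) * (g, t)⁻¹ = (g * k * g⁻¹, s) := by
        apply Prod.ext <;> simp
      rw [e, hmem k s, hmem (g * k * g⁻¹) s, hg k]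
  have hn1 : ¬ H1.Normal := by
    intro h1
    apply hn
    rw [← Subgroup.normalizer_eq_top_iff, hN, Subgroup.normalizer_eq_top_iff.mpr h1]
    exact Subgroup.top_prod_top
  rw [hN]
  exact isCoatom_prod_top (h H1 hn1)

end generic

end Cfsg.Agent.Lib.Helper41L13
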