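import Mathlib
import Cfsg.Agent.Lib.Helper41Klein2
import Cfsg.Agent.Lib.Helper41SL2Even
import Cfsg.Agent.Lib.Helper41Redundant

set_option autoImplicit false

namespace Cfsg.Agent.Lib.Helper41OddGraph

open Matrix Cfsg.Agent.Lib.Helper46SL2 Cfsg.Agent.Lib.Helper41SL2 Cfsg.Agent.Lib.Helper41Klein
  Cfsg.Agent.Lib.Helper41Dk

variable {F : Type*} [Field F]

local notation "SL2" => Matrix.SpecialLinearGroup (Fin 2)
local notation "PSL2" => Matrix.ProjectiveSpecialLinearGroup (Fin 2)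

/-- a graph in which non-adjacent vertices have a common neighbour, and which is not complete,
is connected of diameter two -/
theorem diam_two_of {V : Type*} (G : SimpleGraph V)
    (h2 : ∀ u v, u ≠ v → ¬ G.Adj u v → ∃ w, G.Adj u w ∧ G.Adj w v)
    (hex : ∃ u v, u ≠ v ∧ ¬ G.Adj u v) : G.Connected ∧ G.diam = 2 := by
  obtain ⟨u0, v0, hne, hna⟩ := hex
  have : Nonempty V := ⟨u0⟩
  have : Nontrivial V := ⟨u0, v0, hne⟩
  have hle : G.ediam ≤ 2 := by
    apply SimpleGraph.ediam_le_of_edist_le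
    intro u v
    by_cases huv : u = v
    · subst huv
      simp
    by_cases ha : G.Adj u v
    · have := (SimpleGraph.Walk.cons ha SimpleGraph.Walk.nil).edist_le
      refine this.trans ?_
      simp only [SimpleGraph.Walk.length_cons, SimpleGraph.Walk.length_nil]
      norm_num
    · obtain ⟨w, h1, h3⟩ := h2 u v huv ha
      have := (SimpleGraph.Walk.cons h1 (SimpleGraph.Walk.cons h3 SimpleGraph.Walk.nil)).edist_le
      refine this.trans ?_
      simp only [SimpleGraph.Walk.length_cons, SimpleGraph.Walk.length_nil]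
      norm_num
  have hnt : G.ediam ≠ ⊤ := by
    intro h
    rw [h] at hle
    exact absurd hle (by simp)
  refine ⟨SimpleGraph.connected_of_ediam_ne_top hnt, ?_⟩
  have h0 : G.diam ≠ 0 := SimpleGraph.diam_ne_zero_of_ediam_ne_top hnt
  have h1 : G.diam ≠ 1 := by
    intro h
    rw [SimpleGraph.diam_eq_one] at h
    apply hna
    rw [h]
    exact hne
  have h3 : G.diam ≤ 2 := by
    have := ENat.toNat_le_toNat hle (by simp)
    simpa [SimpleGraph.diam] using this
  omega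

/-- the third involution -/
theorem exists_Z {X Y : SL2 F} (hX : tr X = 0) (hY : tr Y = 0) {s δ r : F} (hδ : δ ^ 2 = 1)
    (hΔ : tr (X * Y) ^ 2 ≠ 4)
    (hr : (2 + δ * tr (X * Y)) * (2 - δ * tr (X * Y) - s ^ 2) = r ^ 2) :
    ∃ Z : SL2 F, tr Z = 0 ∧ tr (X * Z) = s ∧ tr (Z * Y) = δ * s := by
  have hτ : tr (X * Y) = 2 * X 0 0 * Y 0 0 + X 0 1 * Y 1 0 + X 1 0 * Y 0 1 := by
    unfold tr at *
    rw [mul_00, mul_11]
    linear_combination (-Y 0 0) * hX + X 1 1 * hY
  set τ := tr (X * Y) with hτdef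
  have hX1 : X 1 1 = - X 0 0 := by unfold tr at hX; linear_combination hX
  have hY1 : Y 1 1 = - Y 0 0 := by unfold tr at hY; linear_combination hY
  have dX := det2 X
  have dY := det2 Y
  rw [hX1] at dX
  rw [hY1] at dY
  generalize ha : X 0 0 = a at *
  generalize hb : X 0 1 = b at *
  generalize hc : X 1 0 = c at *
  generalize hd : Y 0 0 = d at *
  generalize he : Y 0 1 = e at *
  generalize hf : Y 1 0 = f at *
  have huv : (2 - δ * τ) * (2 + δ * τ) ≠ 0 := by
    intro h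
    apply hΔ
    linear_combination -h - τ ^ 2 * hδ
  have hu : 2 - δ * τ ≠ 0 := left_ne_zero_of_mul huv
  have hv : 2 + δ * τ ≠ 0 := right_ne_zero_of_mul huv
  obtain ⟨α, hα⟩ : ∃ α : F, α = - s / (2 - δ * τ) := ⟨_, rfl⟩
  obtain ⟨γ, hγ⟩ : ∃ γ : F, γ = r / ((2 - δ * τ) * (2 + δ * τ)) := ⟨_, rfl⟩
  have hαu : α * (2 - δ * τ) = - s := by rw [hα]; field_simp
  have hγu : γ * ((2 - δ * τ) * (2 + δ * τ)) = r := by rw [hγ]; field_simp
  have hone : α ^ 2 * (2 - δ * τ) + γ ^ 2 * ((2 - δ * τ) * (2 + δ * τ)) = 1 := by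
    have h1 : (α ^ 2 * (2 - δ * τ) + γ ^ 2 * ((2 - δ * τ) * (2 + δ * τ))) *
        ((2 - δ * τ) * (2 + δ * τ)) = 1 * ((2 - δ * τ) * (2 + δ * τ)) := by
      have e1 : (α ^ 2 * (2 - δ * τ) + γ ^ 2 * ((2 - δ * τ) * (2 + δ * τ))) *
        ((2 - δ * τ) * (2 + δ * τ)) = (α * (2 - δ * τ)) ^ 2 * (2 + δ * τ) +
          (γ * ((2 - δ * τ) * (2 + δ * τ))) ^ 2 := by ring
      rw [e1, hαu, hγu, ← hr]
      ring
    exact mul_right_cancel₀ huv h1
  have hdet : (α * (a + δ * d) + γ * (b * f - c * e)) * (-(α * (a + δ * d) + γ * (b * f - c * e))) -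
      (α * (b + δ * e) + 2 * γ * (a * e - b * d)) * (α * (c + δ * f) + 2 * γ * (c * d - a * f)) = 1 := by
    have key : (α * (a + δ * d) + γ * (b * f - c * e)) * (-(α * (a + δ * d) + γ * (b * f - c * e))) -
      (α * (b + δ * e) + 2 * γ * (a * e - b * d)) * (α * (c + δ * f) + 2 * γ * (c * d - a * f)) =
      α ^ 2 * ((a * -a - b * c) - δ * (2 * a * d + b * f + c * e) + δ ^ 2 * (d * -d - e * f)) +
      γ ^ 2 * (4 * (a * -a - b * c) * (d * -d - e * f) - (2 * a * d + b * f + c * e) ^ 2) := by ring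
    rw [key, dX, dY, hδ, ← hτ]
    linear_combination hone + (γ ^ 2 * τ ^ 2) * hδ
  refine ⟨mk2 _ _ _ _ hdet, ?_, ?_, ?_⟩
  · unfold tr
    rw [mk2_00, mk2_11]
    ring
  · unfold tr
    rw [mul_00, mul_11, mk2_00, mk2_11, mk2_01, mk2_10, hX1, ha, hb, hc]
    linear_combination (-2 * α) * dX - hαu - α * δ * hτ
  · unfold tr
    rw [mul_00, mul_11, mk2_00, mk2_11, mk2_01, mk2_10, hY1, hd, he, hf]
    linear_combination (-2 * α * δ) * dY - δ * hαu - α * hτ - α * τ * hδ

theorem exists_m0 [Fintype F] (h2 : (2 : F) ≠ 0) (h5 : 5 ≤ Fintype.card F) (τ : F)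
    (hτ : τ ^ 2 ≠ 4) : ∃ m w : F, m ≠ 0 ∧ -(2 + τ) * (m ^ 2 + τ * m + 1) = w ^ 2 := by
  classical
  by_cases hsq : IsSquare (-(2 + τ))
  · obtain ⟨c, hc⟩ := hsq
    obtain ⟨k, hk⟩ : ∃ k : F, k ∉ ({1, -1, τ / 2} : Finset F) := by
      by_contra h
      push Not at h
      have h0 : (Finset.univ : Finset F) ⊆ {1, -1, τ / 2} := fun x _ => h x
      have h1 := Finset.card_le_card h0
      have h3 : ({1, -1, τ / 2} : Finset F).card ≤ 3 := Finset.card_le_three
      rw [Finset.card_univ] at h1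
      omega
    simp only [Finset.mem_insert, Finset.mem_singleton, not_or] at hk
    obtain ⟨k1, k2, k3⟩ := hk
    have hd : τ - 2 * k ≠ 0 := by
      intro h
      apply k3
      field_simp
      linear_combination -h
    have hk1 : k ^ 2 - 1 ≠ 0 := by
      intro h
      have : (k - 1) * (k + 1) = 0 := by linear_combination h
      rcases mul_eq_zero.mp this with h | h
      · exact k1 (by linear_combination h)
      · exact k2 (by linear_combination h)
    refine ⟨(k ^ 2 - 1) / (τ - 2 * k), c * ((k ^ 2 - 1) / (τ - 2 * k) + k), div_ne_zero hk1 hd, ?_⟩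
    have e1 : ((k ^ 2 - 1) / (τ - 2 * k)) ^ 2 + τ * ((k ^ 2 - 1) / (τ - 2 * k)) + 1 =
        ((k ^ 2 - 1) / (τ - 2 * k) + k) ^ 2 := by
      have hm : (k ^ 2 - 1) / (τ - 2 * k) * (τ - 2 * k) = k ^ 2 - 1 := div_mul_cancel₀ _ hd
      generalize (k ^ 2 - 1) / (τ - 2 * k) = m at hm ⊢
      linear_combination hm
    rw [e1, hc]
    ring
  · obtain ⟨x, y, hxy⟩ := universal_of_finite τ hτ (-(2 + τ))
    have hx : x ≠ 0 := by
      rintro rfl
      exact hsq ⟨y, by linear_combination -hxy⟩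
    have hy : y ≠ 0 := by
      rintro rfl
      exact hsq ⟨x, by linear_combination -hxy⟩
    refine ⟨x / y, (2 + τ) / y, div_ne_zero hx hy, ?_⟩
    have e1 : (x / y) ^ 2 + τ * (x / y) + 1 = (x ^ 2 + τ * x * y + y ^ 2) / y ^ 2 := by
      field_simp
    rw [e1, hxy]
    field_simp

theorem exists_param [Fintype F] (hm1 : ¬ IsSquare (-1 : F))
    (h5 : 5 ≤ Fintype.card F) (τ : F) (hτ : ¬ IsSquare (τ ^ 2 - 4)) :
    ∃ a δ r : F, a ≠ 0 ∧ a ^ 2 ≠ 1 ∧ δ ^ 2 = 1 ∧
      (2 + δ * τ) * (2 - δ * τ - (a + a⁻¹) ^ 2) = r ^ 2 := by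
  have hτ4 : τ ^ 2 ≠ 4 := by
    intro h
    exact hτ ⟨0, by rw [h]; ring⟩
  have h2 : (2 : F) ≠ 0 := by
    intro h
    exact hm1 ⟨1, by linear_combination -h⟩
  obtain ⟨m, w, hm, hw⟩ := exists_m0 h2 h5 τ hτ4
  obtain ⟨e, he⟩ := isSquare_mul_of_not hm1 hτ
  have hv : 2 + τ ≠ 0 := by
    intro h
    apply hτ4
    linear_combination (τ - 2) * h
  have he0 : e ≠ 0 := by
    rintro rfl
    apply hτ4
    linear_combination -he
  by_cases hsq : IsSquare m
  · obtain ⟨a, ha⟩ := hsq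
    have ha0 : a ≠ 0 := by
      rintro rfl
      exact hm (by rw [ha]; ring)
    refine ⟨a, 1, w / a, ha0, ?_, by ring, ?_⟩
    · intro h1
      apply hm1
      refine ⟨w / (2 + τ), ?_⟩
      have hm1' : m = 1 := by rw [ha, ← h1]; ring
      rw [hm1'] at hw
      field_simp
      linear_combination hw
    · rw [ha] at hw
      field_simp
      linear_combination hw
  · obtain ⟨a, ha⟩ := isSquare_mul_of_not hm1 hsq
    have ha0 : a ≠ 0 := by
      rintro rfl
      exact hm (by linear_combination -ha)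
    have hma : m = - (a * a) := by linear_combination -ha
    refine ⟨a, -1, w * e / ((2 + τ) * a), ha0, ?_, by ring, ?_⟩
    · intro h1
      apply hm1
      refine ⟨w / e, ?_⟩
      have hm1' : m = -1 := by rw [hma, ← h1]; ring
      rw [hm1'] at hw
      field_simp
      linear_combination hw + he
    · rw [hma] at hw
      field_simp
      linear_combination (e ^ 2) * hw + (-(2 + τ) * (a ^ 4 - τ * a ^ 2 + 1)) * he

theorem odd_of_unip [Fintype F] (h2 : (2 : F) ≠ 0) {g : SL2 F} (h : tr g ^ 2 = 4) :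
    Odd (orderOf (QuotientGroup.mk g : PSL2 F)) := by
  obtain ⟨p, hp⟩ := CharP.exists F
  have hpp : Fact p.Prime := ⟨CharP.char_is_prime F p⟩
  have h1 : orderOf (QuotientGroup.mk g : PSL2 F) ∣ p :=
    orderOf_dvd_of_pow_eq_one ((mk_pow_eq_one_iff g p).mpr (pow_char_mem_center p g h))
  have hp2 : p ≠ 2 := by
    rintro rfl
    apply h2
    have := CharP.cast_eq_zero F 2
    exact_mod_cast this
  exact (hpp.out.odd_of_ne_two hp2).of_dvd_nat h1

theorem odd_of_split [Fintype F] (hq : Fintype.card F % 4 = 3) {g : SL2 F} {a : F} (ha0 : a ≠ 0)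
    (ha : a ^ 2 ≠ 1) (htr : tr g = a + a⁻¹) : Odd (orderOf (QuotientGroup.mk g : PSL2 F)) := by
  rw [orderOf_mk_of_eigen (RingHom.id F) g a ha0 ha htr]
  have h1 : orderOf (a ^ 2) ∣ (Fintype.card F - 1) / 2 := by
    apply orderOf_dvd_of_pow_eq_one
    rw [← pow_mul, Nat.mul_div_cancel' (by omega), FiniteField.pow_card_sub_one_eq_one a ha0]
  exact Odd.of_dvd_nat (by rw [Nat.odd_iff]; omega) h1

theorem odd_of_tr_ne_zero [Fintype F] [CharP F 2] {g : SL2 F} (h : tr g ≠ 0) :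
    Odd (orderOf (QuotientGroup.mk g : PSL2 F)) := by
  have hq : 2 ∣ Fintype.card F := card_dvd_of_char 2
  have hq1 : 1 ≤ Fintype.card F := Fintype.card_pos
  have hodd : Odd (Fintype.card F - 1) := by rw [Nat.odd_iff]; omega
  have hd : Nat.gcd 2 (Fintype.card F - 1) = 1 := Nat.coprime_two_left.mpr hodd
  have : Fact (Nat.Prime 2) := ⟨Nat.prime_two⟩
  rcases orderOf_mk_dvd 2 (QuotientGroup.mk g : PSL2 F) with h1 | h1 | h1
  · exfalso
    apply h
    have h3 : (QuotientGroup.mk g : PSL2 F) ^ 2 = 1 := orderOf_dvd_iff_pow_eq_one.mp h1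
    rw [mk_pow_eq_one_iff, mem_center_iff_char_two, sq] at h3
    apply tr_eq_zero_of_sq_eq_neg_one
    rw [h3, neg_one_eq_one_of_char_two]
  · rw [hd, Nat.div_one] at h1
    exact hodd.of_dvd_nat h1
  · rw [hd, Nat.div_one] at h1
    exact Odd.of_dvd_nat (by rw [Nat.odd_iff]; omega) h1

theorem orderOf_mk_two {X : SL2 F} (hX : tr X = 0) (hc : X ∉ Subgroup.center (SL2 F)) :
    orderOf (QuotientGroup.mk X : PSL2 F) = 2 := by
  apply orderOf_eq_prime
  · rw [mk_pow_eq_one_iff, sq, sq_eq_neg_one_of_tr_eq_zero hX, mem_center_iff_eq]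
    exact Or.inr rfl
  · rw [Ne, mk_eq_one_iff]
    exact hc

theorem exists_lift_two {x : PSL2 F} (hx : orderOf x = 2) :
    ∃ X : SL2 F, tr X = 0 ∧ X ∉ Subgroup.center (SL2 F) ∧ (QuotientGroup.mk X : PSL2 F) = x := by
  by_cases h2 : (2 : F) = 0
  · have : CharP F 2 := CharTwo.of_one_ne_zero_of_two_eq_zero one_ne_zero h2
    obtain ⟨X, rfl⟩ := QuotientGroup.mk_surjective x
    have h1 : (QuotientGroup.mk X : PSL2 F) ^ 2 = 1 := by
      have := pow_orderOf_eq_one (QuotientGroup.mk X : PSL2 F)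
      rwa [hx] at this
    rw [mk_pow_eq_one_iff, mem_center_iff_char_two, sq] at h1
    refine ⟨X, ?_, ?_, rfl⟩
    · apply tr_eq_zero_of_sq_eq_neg_one
      rw [h1, neg_one_eq_one_of_char_two]
    · intro hc
      rw [← mk_eq_one_iff] at hc
      rw [hc, orderOf_one] at hx
      omega
  · obtain ⟨X, hX, rfl⟩ := exists_lift_of_orderOf_two h2 hx
    exact ⟨X, hX, not_mem_center_of_tr (by rw [hX]; exact zero_sq_ne_four h2), rfl⟩

theorem isConj_two [Finite F] {x y : PSL2 F} (hx : orderOf x = 2) (hy : orderOf y = 2) :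
    IsConj x y := by
  by_cases h2 : (2 : F) = 0
  · have : CharP F 2 := CharTwo.of_one_ne_zero_of_two_eq_zero one_ne_zero h2
    obtain ⟨X, hX, hXc, rfl⟩ := exists_lift_two hx
    obtain ⟨Y, hY, hYc, rfl⟩ := exists_lift_two hy
    rw [mem_center_iff_char_two] at hXc hYc
    exact (QuotientGroup.mk' (Subgroup.center (SL2 F))).map_isConj
      (isConj_of_tr_eq_char_two hXc hYc (hX.trans hY.symm))
  · exact isConj_of_orderOf_two h2 hx hy

/-- common neighbours, characteristic two -/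
theorem common_even [Fintype F] [CharP F 2] {X Y : SL2 F} (hX : tr X = 0) (hY : tr Y = 0)
    (hXc : X ≠ 1) (hYc : Y ≠ 1) :
    ∃ Z : SL2 F, tr Z = 0 ∧ tr (X * Z) ≠ 0 ∧ tr (Z * Y) ≠ 0 := by
  have h2 : (2 : F) = 0 := CharTwo.two_eq_zero
  have hX1 : X 1 1 = X 0 0 := by unfold tr at hX; linear_combination hX - X 0 0 * h2
  have hY1 : Y 1 1 = Y 0 0 := by unfold tr at hY; linear_combination hY - Y 0 0 * h2
  have key : ∀ A : SL2 F, A 1 1 = A 0 0 → A 0 1 = 0 → A 1 0 = 0 → A = 1 := by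
    intro A h11 h01 h10
    have d := det2 A
    rw [h11, h01, h10] at d
    have h5 : (A 0 0 - 1) ^ 2 = 0 := by linear_combination d - A 0 0 * h2 + h2
    have h6 : A 0 0 = 1 := by
      have := pow_eq_zero_iff (two_ne_zero) |>.mp h5
      linear_combination this
    apply ext2
    · rw [h6, one_00]
    · rw [h01, one_01]
    · rw [h10, one_10]
    · rw [h11, h6, one_11]
  have hXn : ¬ (X 0 1 = 0 ∧ X 1 0 = 0) := fun h => hXc (key X hX1 h.1 h.2)
  have hYn : ¬ (Y 0 1 = 0 ∧ Y 1 0 = 0) := fun h => hYc (key Y hY1 h.1 h.2)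
  have t1 : ∀ (A Z : SL2 F), A 1 1 = A 0 0 → Z 1 1 = Z 0 0 →
      tr (A * Z) = A 0 1 * Z 1 0 + A 1 0 * Z 0 1 := by
    intro A Z hA hZ
    unfold tr
    rw [mul_00, mul_11, hA, hZ]
    linear_combination (A 0 0 * Z 0 0) * h2
  by_cases c1 : X 1 0 ≠ 0 ∧ Y 1 0 ≠ 0
  · refine ⟨mk2 1 1 0 1 (by ring), ?_, ?_, ?_⟩
    · unfold tr; rw [mk2_00, mk2_11]; linear_combination h2
    · rw [t1 _ _ hX1 (by rw [mk2_00, mk2_11]), mk2_10, mk2_01]
      simpa using c1.1
    · rw [tr_mul_comm, t1 _ _ hY1 (by rw [mk2_00, mk2_11]), mk2_10, mk2_01]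
      simpa using c1.2
  by_cases c2 : X 0 1 ≠ 0 ∧ Y 0 1 ≠ 0
  · refine ⟨mk2 1 0 1 1 (by ring), ?_, ?_, ?_⟩
    · unfold tr; rw [mk2_00, mk2_11]; linear_combination h2
    · rw [t1 _ _ hX1 (by rw [mk2_00, mk2_11]), mk2_10, mk2_01]
      simpa using c2.1
    · rw [tr_mul_comm, t1 _ _ hY1 (by rw [mk2_00, mk2_11]), mk2_10, mk2_01]
      simpa using c2.2
  refine ⟨mk2 0 1 1 0 (by linear_combination -h2), ?_, ?_, ?_⟩
  · unfold tr; rw [mk2_00, mk2_11]; ring
  · rw [t1 _ _ hX1 (by rw [mk2_00, mk2_11]), mk2_10, mk2_01]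
    intro h
    by_cases e1 : X 1 0 = 0
    · rw [e1] at h
      exact hXn ⟨by linear_combination h, e1⟩
    · have e2 : Y 1 0 = 0 := by
        by_contra e2
        exact c1 ⟨e1, e2⟩
      have e3 : Y 0 1 ≠ 0 := fun e3 => hYn ⟨e3, e2⟩
      have e4 : X 0 1 = 0 := by
        by_contra e4
        exact c2 ⟨e4, e3⟩
      rw [e4] at h
      exact e1 (by linear_combination h)
  · rw [tr_mul_comm, t1 _ _ hY1 (by rw [mk2_00, mk2_11]), mk2_10, mk2_01]
    intro h
    by_cases e1 : Y 1 0 = 0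
    · rw [e1] at h
      exact hYn ⟨by linear_combination h, e1⟩
    · have e2 : X 1 0 = 0 := by
        by_contra e2
        exact c1 ⟨e2, e1⟩
      have e3 : X 0 1 ≠ 0 := fun e3 => hXn ⟨e3, e2⟩
      have e4 : Y 0 1 = 0 := by
        by_contra e4
        exact c2 ⟨e3, e4⟩
      rw [e4] at h
      exact e1 (by linear_combination h)

theorem tr_sq_of_eq {X Z : SL2 F} (hX : tr X = 0) (h : Z = X ∨ Z = -X) : tr (X * Z) ^ 2 = 4 := by
  have h1 : X * X = -1 := sq_eq_neg_one_of_tr_eq_zero hX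
  rcases h with rfl | rfl
  · rw [h1, tr_neg, tr_one]; ring
  · rw [mul_neg, h1, neg_neg, tr_one]; ring

theorem tr_sq_of_eq' {X Z : SL2 F} (W : SL2 F) (h : Z = X ∨ Z = -X) :
    tr (Z * W) ^ 2 = tr (X * W) ^ 2 := by
  rcases h with rfl | rfl
  · rfl
  · rw [neg_mul, tr_neg]; ring

theorem orderOf_of_isConj {G : Type*} [Group G] {a b : G} (h : IsConj a b) :
    orderOf b = orderOf a := by
  obtain ⟨c, rfl⟩ := isConj_iff.mp h
  exact orderOf_injective (MulAut.conj c).toMonoidHom (MulAut.conj c).injective a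

theorem common [Fintype F] (hF : 4 ≤ Fintype.card F) {x y : PSL2 F} (hx : orderOf x = 2)
    (hy : orderOf y = 2) (hna : ¬ Odd (orderOf (x * y))) :
    ∃ z : PSL2 F, orderOf z = 2 ∧ x ≠ z ∧ z ≠ y ∧ Odd (orderOf (x * z)) ∧
      Odd (orderOf (z * y)) := by
  obtain ⟨X, hX, hXc, rfl⟩ := exists_lift_two hx
  obtain ⟨Y, hY, hYc, rfl⟩ := exists_lift_two hy
  by_cases h2 : (2 : F) = 0
  · have : CharP F 2 := CharTwo.of_one_ne_zero_of_two_eq_zero one_ne_zero h2
    have h4 : (4 : F) = 0 := by linear_combination 2 * h2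
    rw [mem_center_iff_char_two] at hXc hYc
    obtain ⟨Z, hZ, h1, h3⟩ := common_even hX hY hXc hYc
    have hZc : Z ∉ Subgroup.center (SL2 F) := by
      rw [mem_center_iff_char_two]
      rintro rfl
      apply h1
      rw [mul_one, hX]
    refine ⟨QuotientGroup.mk Z, orderOf_mk_two hZ hZc, ?_, ?_, ?_, ?_⟩
    · intro h
      have := tr_sq_of_eq hX ((mk_eq_mk_iff X Z).mp h)
      rw [h4] at this
      exact h1 (pow_eq_zero_iff two_ne_zero |>.mp this)
    · intro h
      have := tr_sq_of_eq hZ ((mk_eq_mk_iff Z Y).mp h)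
      rw [h4] at this
      exact h3 (pow_eq_zero_iff two_ne_zero |>.mp this)
    · rw [← QuotientGroup.mk_mul]
      exact odd_of_tr_ne_zero h1
    · rw [← QuotientGroup.mk_mul]
      exact odd_of_tr_ne_zero h3
  rw [← QuotientGroup.mk_mul] at hna
  have hτ4 : tr (X * Y) ^ 2 ≠ 4 := fun h => hna (odd_of_unip h2 h)
  have hcen : ∀ Z : SL2 F, tr Z = 0 → Z ∉ Subgroup.center (SL2 F) := fun Z hZ =>
    not_mem_center_of_tr (by rw [hZ]; exact zero_sq_ne_four h2)
  by_cases hm1 : IsSquare (-1 : F)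
  · obtain ⟨i, hi⟩ := hm1
    obtain ⟨Z, hZ, h1, h3⟩ := exists_Z hX hY (s := 2) (δ := 1) (r := i * (2 + tr (X * Y))) (by ring)
      hτ4 (by linear_combination (2 + tr (X * Y)) ^ 2 * hi)
    refine ⟨QuotientGroup.mk Z, orderOf_mk_two hZ (hcen Z hZ), ?_, ?_, ?_, ?_⟩
    · intro h
      have := tr_sq_of_eq' Y ((mk_eq_mk_iff X Z).mp h)
      rw [h3] at this
      apply hτ4
      rw [← this]; ring
    · intro h
      have := tr_sq_of_eq' X ((mk_eq_mk_iff Z Y).mp h)
      rw [tr_mul_comm Y X, tr_mul_comm Z X, h1] at this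
      apply hτ4
      rw [this]; ring
    · rw [← QuotientGroup.mk_mul]
      exact odd_of_unip h2 (by rw [h1]; ring)
    · rw [← QuotientGroup.mk_mul]
      exact odd_of_unip h2 (by rw [h3]; ring)
  · have hq : Fintype.card F % 4 = 3 := by
      by_contra h
      exact hm1 (FiniteField.isSquare_neg_one_iff.mpr h)
    rcases split_or_nonSplit hτ4 with ⟨a, ha0, ha, hta⟩ | hns
    · exact absurd (odd_of_split hq ha0 ha hta) hna
    have hnsq : ¬ IsSquare (tr (X * Y) ^ 2 - 4) := by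
      rintro ⟨w, hw⟩
      apply hns ((tr (X * Y) + w) / 2)
      field_simp
      linear_combination -hw
    obtain ⟨a, δ, r, ha0, ha, hδ, hr⟩ := exists_param hm1 (by omega) _ hnsq
    obtain ⟨Z, hZ, h1, h3⟩ := exists_Z hX hY hδ hτ4 hr
    have hs := add_inv_sq_ne_four ha0 ha
    refine ⟨QuotientGroup.mk Z, orderOf_mk_two hZ (hcen Z hZ), ?_, ?_, ?_, ?_⟩
    · intro h
      have := tr_sq_of_eq hX ((mk_eq_mk_iff X Z).mp h)
      rw [h1] at this
      exact hs this
    · intro h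
      have := tr_sq_of_eq hZ ((mk_eq_mk_iff Z Y).mp h)
      rw [h3] at this
      apply hs
      linear_combination this - (a + a⁻¹) ^ 2 * hδ
    · rw [← QuotientGroup.mk_mul]
      exact odd_of_split hq ha0 ha h1
    · rw [← QuotientGroup.mk_mul]
      have hδ0 : δ ≠ 0 := by
        rintro rfl
        norm_num at hδ
      have hδi : δ⁻¹ = δ := by
        field_simp
        linear_combination -hδ
      refine odd_of_split hq (a := δ * a) (mul_ne_zero hδ0 ha0) ?_ ?_
      · rw [mul_pow, hδ, one_mul]; exact ha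
      · rw [h3, mul_inv, hδi]; ring

theorem exists_nonadj [Fintype F] (hF : 4 ≤ Fintype.card F) :
    ∃ x y : PSL2 F, orderOf x = 2 ∧ orderOf y = 2 ∧ x ≠ y ∧ ¬ Odd (orderOf (x * y)) ∧
      ¬ Odd (orderOf (y * x)) := by
  classical
  by_cases h2 : (2 : F) = 0
  · have : CharP F 2 := CharTwo.of_one_ne_zero_of_two_eq_zero one_ne_zero h2
    obtain ⟨c, hc⟩ : ∃ k : F, k ∉ ({0, 1} : Finset F) := by
      by_contra h
      push Not at h
      have h0 : (Finset.univ : Finset F) ⊆ {0, 1} := fun x _ => h x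
      have h1 := Finset.card_le_card h0
      have h3 : ({0, 1} : Finset F).card ≤ 2 := Finset.card_le_two
      rw [Finset.card_univ] at h1
      omega
    simp only [Finset.mem_insert, Finset.mem_singleton, not_or] at hc
    obtain ⟨c0, c1⟩ := hc
    have hu : ∀ b : F, b ≠ 0 → tr (mk2 1 b 0 1 (by ring)) = 0 ∧
        mk2 1 b 0 1 (by ring) ∉ Subgroup.center (SL2 F) := by
      intro b hb
      refine ⟨by unfold tr; rw [mk2_00, mk2_11]; linear_combination h2, ?_⟩
      rw [mem_center_iff_char_two]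
      intro h
      have := congrArg (fun A : SL2 F => A 0 1) h
      simp only [mk2_01, one_01] at this
      exact hb this
    have hmul : ∀ b b' : F, mk2 1 b 0 1 (by ring) * mk2 1 b' 0 1 (by ring) =
        mk2 1 (b + b') 0 1 (by ring) := by
      intro b b'
      apply ext2 <;> simp [mul_00, mul_01, mul_10, mul_11, add_comm]
    have hc1 : (1 : F) + c ≠ 0 := by
      intro h
      apply c1
      linear_combination h - h2
    refine ⟨QuotientGroup.mk (mk2 1 1 0 1 (by ring)), QuotientGroup.mk (mk2 1 c 0 1 (by ring)),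
      orderOf_mk_two (hu 1 one_ne_zero).1 (hu 1 one_ne_zero).2, orderOf_mk_two (hu c c0).1 (hu c c0).2,
      ?_, ?_, ?_⟩
    · intro h
      rcases (mk_eq_mk_iff _ _).mp h with h | h
      · have := congrArg (fun A : SL2 F => A 0 1) h
        simp only [mk2_01] at this
        exact c1 this
      · have := congrArg (fun A : SL2 F => A 0 1) h
        simp only [mk2_01, Helper46SL2.neg_apply] at this
        apply c1
        linear_combination this - h2
    · rw [← QuotientGroup.mk_mul, hmul, orderOf_mk_two (hu _ hc1).1 (hu _ hc1).2]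
      decide
    · have hc1' : c + 1 ≠ 0 := by rwa [add_comm]
      rw [← QuotientGroup.mk_mul, hmul, orderOf_mk_two (hu _ hc1').1 (hu _ hc1').2]
      decide
  · have hne : Nonempty (TT F) := by
      have h1 := card_TT (F := F) h2
      have h3 : 0 < Nat.card (SL2 F) := Nat.card_pos
      rw [← h1] at h3
      exact (Nat.card_pos_iff.mp h3).1
    obtain ⟨⟨⟨X, Y⟩, hQ⟩⟩ := hne
    have hQ' : QP X Y := hQ
    have hcen : ∀ Z : SL2 F, tr Z = 0 → Z ∉ Subgroup.center (SL2 F) := fun Z hZ =>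
      not_mem_center_of_tr (by rw [hZ]; exact zero_sq_ne_four h2)
    have hXY := QP.tr_mul h2 hQ'
    refine ⟨QuotientGroup.mk X, QuotientGroup.mk Y, orderOf_mk_two hQ'.1 (hcen _ hQ'.1),
      orderOf_mk_two (hQ'.tr_y h2) (hcen _ (hQ'.tr_y h2)), hQ'.proj_ne h2, ?_, ?_⟩
    · rw [← QuotientGroup.mk_mul, orderOf_mk_two hXY (hcen _ hXY)]
      decide
    · rw [← QuotientGroup.mk_mul, orderOf_mk_two (by rw [tr_mul_comm]; exact hXY)
        (hcen _ (by rw [tr_mul_comm]; exact hXY))]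
      decide

end Cfsg.Agent.Lib.Helper41OddGraph
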