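import Mathlib
import Cfsg.Agent.Lib.Helper41Redundant
import Cfsg.Agent.Lib.Helper41PSL2Syl

set_option autoImplicit false

namespace Cfsg.Agent.Lib.Helper41Redundant

open Cfsg.Agent.Lib.Helper41SL2

variable {G G' : Type*} [Group G] [Finite G] [Group G'] {p : ℕ} [Fact p.Prime]

theorem central_pelt_mem_sylow (P : Sylow p G) {z : G} (hz : z ∈ Subgroup.center G) (k : ℕ)
    (hk : z ^ p ^ k = 1) : z ∈ P := by
  apply mem_sylow_of_mem_normalizer P _ k hk
  rw [Subgroup.mem_normalizer_iff]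
  intro x
  have : z * x * z⁻¹ = x := by
    rw [← (Subgroup.mem_center_iff.mp hz x), mul_inv_cancel_right]
  rw [this]

theorem exists_orderOf_eq_pow_of_pow_eq_one {H : Type*} [Group H] {x : H} {n : ℕ}
    (h : x ^ p ^ n = 1) : ∃ k : ℕ, orderOf x = p ^ k := by
  obtain ⟨k, -, hk⟩ := (Nat.dvd_prime_pow Fact.out).mp (orderOf_dvd_of_pow_eq_one h)
  exact ⟨k, hk⟩

/-- Redundancy lifts along a central quotient. -/
theorem red_of_red_quot (f : G →* G') (hf : Function.Surjective f)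
    (hker : f.ker ≤ Subgroup.center G) (h : ∃ Q : Sylow p G', Red p Q) :
    ∃ Q : Sylow p G, Red p Q := by
  obtain ⟨Q, hQ⟩ := h
  obtain ⟨Q', rfl⟩ := Sylow.mapSurjective_surjective hf p Q
  refine ⟨Q', ?_⟩
  rintro x ⟨k, hk⟩
  have hxk : x ^ p ^ k = 1 := by rw [← hk, pow_orderOf_eq_one]
  have hfx : (f x) ^ p ^ k = 1 := by rw [← map_pow, hxk, map_one]
  obtain ⟨P, hPQ, hxP⟩ := hQ (f x) (exists_orderOf_eq_pow_of_pow_eq_one hfx)
  obtain ⟨P', rfl⟩ := Sylow.mapSurjective_surjective hf p P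
  refine ⟨P', fun h => hPQ (by rw [h]), ?_⟩
  obtain ⟨y, hy, hyx⟩ : ∃ y ∈ (P' : Subgroup G), f y = f x := hxP
  have hz : y⁻¹ * x ∈ Subgroup.center G := by
    apply hker
    rw [MonoidHom.mem_ker, map_mul, map_inv, hyx, inv_mul_cancel]
  obtain ⟨a, ha⟩ := P'.isPGroup' ⟨y, hy⟩
  have ha' : y ^ p ^ a = 1 := congrArg Subtype.val ha
  have hcomm : Commute y⁻¹ x := by
    have h1 := Subgroup.mem_center_iff.mp hz y
    -- y * (y⁻¹ * x) = (y⁻¹ * x) * y
    have h2 : x * y = y * x := by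
      have : y * (y⁻¹ * x * y) = y * (y * (y⁻¹ * x)) := by rw [h1]
      simpa [mul_assoc] using this
    exact (show Commute y x from h2.symm).inv_left
  have hzp : (y⁻¹ * x) ^ p ^ (a + k) = 1 := by
    rw [hcomm.mul_pow, inv_pow, pow_add, pow_mul, ha', one_pow, inv_one, one_mul, mul_comm (p ^ a),
      pow_mul, hxk, one_pow]
  have hzP := central_pelt_mem_sylow P' hz _ hzp
  have := P'.mul_mem hy hzP
  rwa [mul_inv_cancel_left] at this

/-- Redundancy descends along a central quotient with `p`-group kernel. -/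
theorem red_quot_of_red (f : G →* G') (hf : Function.Surjective f)
    (hker : f.ker ≤ Subgroup.center G) (hkp : IsPGroup p f.ker) (h : ∃ Q : Sylow p G, Red p Q) :
    ∃ Q : Sylow p G', Red p Q := by
  obtain ⟨Q, hQ⟩ := h
  refine ⟨Q.mapSurjective hf, ?_⟩
  rintro x ⟨k, hk⟩
  obtain ⟨x, rfl⟩ := hf x
  have hxk : x ^ p ^ k ∈ f.ker := by
    rw [MonoidHom.mem_ker, map_pow, ← hk, pow_orderOf_eq_one]
  obtain ⟨a, ha⟩ := hkp ⟨_, hxk⟩
  have ha' : (x ^ p ^ k) ^ p ^ a = 1 := congrArg Subtype.val ha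
  rw [← pow_mul, ← pow_add] at ha'
  obtain ⟨P, hPQ, hxP⟩ := hQ x (exists_orderOf_eq_pow_of_pow_eq_one ha')
  refine ⟨P.mapSurjective hf, ?_, ⟨x, hxP, rfl⟩⟩
  intro heq
  apply hPQ
  have hle : (P : Subgroup G) ≤ Q := by
    intro y hy
    have h1 : f y ∈ (P.mapSurjective hf : Sylow p G') := ⟨y, hy, rfl⟩
    rw [heq] at h1
    obtain ⟨y', hy', hyy⟩ : ∃ y' ∈ (Q : Subgroup G), f y' = f y := h1
    have hz : y'⁻¹ * y ∈ f.ker := by
      rw [MonoidHom.mem_ker, map_mul, map_inv, hyy, inv_mul_cancel]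
    obtain ⟨b, hb⟩ := hkp ⟨_, hz⟩
    have hzQ := central_pelt_mem_sylow Q (hker hz) b (congrArg Subtype.val hb)
    have := Q.mul_mem hy' hzQ
    rwa [mul_inv_cancel_left] at this
  exact (Sylow.ext (P.is_maximal' Q.isPGroup' hle)).symm

variable {F : Type*} [Field F] [Fintype F]

local notation "SL2" => Matrix.SpecialLinearGroup (Fin 2)
local notation "PSL2" => Matrix.ProjectiveSpecialLinearGroup (Fin 2)

theorem red_PSL2_iff (p : ℕ) [Fact p.Prime] :
    (∃ Q : Sylow p (PSL2 F), Red p Q) ↔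
      (p = 2 ∧ (¬ ∃ k : ℕ, Fintype.card F + 1 = 2 ^ k) ∧ (¬ ∃ k : ℕ, Fintype.card F = 2 ^ k) ∧
        ¬ ∃ k : ℕ, Fintype.card F = 2 ^ k + 1) := by
  have hker : (proj F).ker ≤ Subgroup.center (SL2 F) := by rw [QuotientGroup.ker_mk']
  constructor
  · intro h
    exact (red_SL2_iff p).mp (red_of_red_quot (proj F) (QuotientGroup.mk'_surjective _) hker h)
  · intro h
    have h' := (red_SL2_iff (F := F) p).mpr h
    obtain ⟨rfl, h1, h2, h3⟩ := h
    obtain ⟨r, hr⟩ := CharP.exists F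
    have hrp : Fact r.Prime := ⟨CharP.char_is_prime F r⟩
    have hr2 : r ≠ 2 := by
      rintro rfl
      obtain ⟨n, -, hn⟩ := FiniteField.card F 2
      exact h2 ⟨n, hn⟩
    have hodd : Odd (Fintype.card F) := odd_card_of_char_ne_two r hr2
    apply red_quot_of_red (proj F) (QuotientGroup.mk'_surjective _) hker _ h'
    rw [QuotientGroup.ker_mk']
    exact isPGroup_center hodd

end Cfsg.Agent.Lib.Helper41Redundant
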