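import Mathlib
import Cfsg.Agent.Lib.Helper41Central

set_option autoImplicit false

namespace Cfsg.Agent.Lib.Helper41Swap

open Matrix Cfsg.Agent.Lib.Helper46SL2 Cfsg.Agent.Lib.Helper41SL2

local notation "SL2" => Matrix.SpecialLinearGroup (Fin 2)

variable {G : Type*} [Group G]

/-- more properties of `SL₂(q)`, `q` odd, with central involution `j` -/
structure Fine (j : G) (M : Subgroup G) : Prop where
  inv : ∀ m ∈ M, m * m = 1 → m = 1 ∨ m = j
  conj : ∀ a ∈ M, ∀ b ∈ M, a * a = j → b * b = j → ∃ c ∈ M, c * a * c⁻¹ = b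
  root : ∃ x ∈ M, x * x = j
  invert : ∀ x ∈ M, ∀ a ∈ M, x * x = j → a * x * a⁻¹ = x⁻¹ → a * a = j
  torus : ∀ x ∈ M, x * x = j → ∃ u ∈ M, ∃ k : ℕ, u * x = x * u ∧ u ^ k = j ∧ u * u ≠ 1 ∧
    ∀ a ∈ M, a * x = x * a → a ^ k = 1 ∨ a ^ k = j

theorem isolated {j n : G} {L₁ L₂ : Subgroup G} (F1 : Fine j L₁) (F2 : Fine j L₂) (hj1 : j ≠ 1)
    (hjj : j * j = 1)
    (hc : ∀ x ∈ L₁, ∀ y ∈ L₂, x * y = y * x) (hint : ∀ g, g ∈ L₁ → g ∈ L₂ → g = 1 ∨ g = j)
    (hj₁ : j ∈ L₁) (hj₂ : j ∈ L₂)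
    (hC : ∀ c, c * j = j * c →
      (∃ a ∈ L₁, ∃ b ∈ L₂, c = a * b) ∨ (∃ a ∈ L₁, ∃ b ∈ L₂, c = a * b * n))
    (hnj : n * j = j * n) (hn2 : n * n = j) (h12 : ∀ x ∈ L₁, n * x * n⁻¹ ∈ L₂)
    (h21 : ∀ y ∈ L₂, n * y * n⁻¹ ∈ L₁) (g : G) (hg : Commute j (g * j * g⁻¹)) :
    g * j * g⁻¹ = j := by
  have mul4 : ∀ a ∈ L₁, ∀ b ∈ L₂, ∀ a' ∈ L₁, ∀ b' ∈ L₂,
      (a * b) * (a' * b') = (a * a') * (b * b') := by
    intro a ha b hb a' ha' b' hb'
    calc (a * b) * (a' * b') = a * (b * a') * b' := by group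
      _ = a * (a' * b) * b' := by rw [hc a' ha' b hb]
      _ = _ := by group
  have inv2 : ∀ a ∈ L₁, ∀ b ∈ L₂, (a * b)⁻¹ = a⁻¹ * b⁻¹ := by
    intro a ha b hb
    rw [_root_.mul_inv_rev, hc a⁻¹ (inv_mem ha) b⁻¹ (inv_mem hb)]
  have conj2 : ∀ c₁ ∈ L₁, ∀ c₂ ∈ L₂, ∀ a ∈ L₁, ∀ b ∈ L₂,
      (c₁ * c₂) * (a * b) * (c₁ * c₂)⁻¹ = (c₁ * a * c₁⁻¹) * (c₂ * b * c₂⁻¹) := by
    intro c₁ h1 c₂ h2 a ha b hb
    rw [inv2 c₁ h1 c₂ h2, mul4 c₁ h1 c₂ h2 a ha b hb,
      mul4 _ (mul_mem h1 ha) _ (mul_mem h2 hb) _ (inv_mem h1) _ (inv_mem h2)]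
  have eq2 : ∀ a ∈ L₁, ∀ b ∈ L₂, ∀ a' ∈ L₁, ∀ b' ∈ L₂, a * b = a' * b' →
      (a = a' ∧ b = b') ∨ (a = a' * j ∧ b = b' * j) := by
    intro a ha b hb a' ha' b' hb' h
    have hz : a'⁻¹ * a = b' * b⁻¹ := by
      calc a'⁻¹ * a = a'⁻¹ * (a * b) * b⁻¹ := by group
        _ = a'⁻¹ * (a' * b') * b⁻¹ := by rw [h]
        _ = _ := by group
    rcases hint (a'⁻¹ * a) (mul_mem (inv_mem ha') ha) (hz ▸ mul_mem hb' (inv_mem hb)) with h1 | h1
    · left
      constructor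
      · exact (inv_mul_eq_one.mp h1).symm
      · rw [hz] at h1
        exact (mul_inv_eq_one.mp h1).symm
    · right
      constructor
      · rw [← h1]; group
      · rw [hz] at h1
        have : b' = j * b := by rw [← h1]; group
        rw [this, hc j hj₁ b hb, mul_assoc, hjj, mul_one]
  have hjinv : j⁻¹ = j := inv_eq_of_mul_eq_one_right hjj
  have hnjn : n * j * n⁻¹ = j := by rw [hnj, mul_inv_cancel_right]
  -- elements of `Y` commute with `j`
  have hYj : ∀ a ∈ L₁, ∀ b ∈ L₂, (a * b) * j = j * (a * b) := by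
    intro a ha b hb
    calc (a * b) * j = a * (b * j) := by group
      _ = a * (j * b) := by rw [hc j hj₁ b hb]
      _ = (a * j) * b := by group
      _ = (j * a) * b := by rw [hc a ha j hj₂]
      _ = _ := by group
  -- Step I : no involution in the coset
  have stepI : ∀ a ∈ L₁, ∀ b ∈ L₂, (a * b * n) * (a * b * n) ≠ 1 := by
    intro a ha b hb h
    have ha' := h12 a ha
    have hb' := h21 b hb
    have e1 : (a * b * n) * (a * b * n) = (a * (n * b * n⁻¹)) * (b * (n * a * n⁻¹)) * j := by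
      calc (a * b * n) * (a * b * n) = a * b * ((n * a * n⁻¹) * (n * b * n⁻¹)) * (n * n) := by group
        _ = a * b * ((n * b * n⁻¹) * (n * a * n⁻¹)) * (n * n) := by rw [hc _ hb' _ ha']
        _ = a * (b * (n * b * n⁻¹)) * (n * a * n⁻¹) * (n * n) := by group
        _ = a * ((n * b * n⁻¹) * b) * (n * a * n⁻¹) * (n * n) := by rw [hc _ hb' b hb]
        _ = _ := by rw [hn2]; group
    have hd : a * (n * b * n⁻¹) ∈ L₁ := mul_mem ha hb'
    have hd' : b * (n * a * n⁻¹) ∈ L₂ := mul_mem hb ha'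
    have e2 : a * (n * b * n⁻¹) = (b * (n * a * n⁻¹) * j)⁻¹ := by
      rw [e1, mul_assoc] at h
      exact eq_inv_of_mul_eq_one_left h
    have hd2 : a * (n * b * n⁻¹) ∈ L₂ := by
      rw [e2]; exact inv_mem (mul_mem hd' hj₂)
    have e3 : n * (a * (n * b * n⁻¹)) * n⁻¹ = (n * a * n⁻¹) * b := by
      calc n * (a * (n * b * n⁻¹)) * n⁻¹ = (n * a * n⁻¹) * ((n * n) * b * (n * n)⁻¹) := by group
        _ = (n * a * n⁻¹) * (j * b * j⁻¹) := by rw [hn2]
        _ = _ := by rw [hc j hj₁ b hb, mul_inv_cancel_right]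
    have e4 : n * (a * (n * b * n⁻¹)) * n⁻¹ = a * (n * b * n⁻¹) := by
      rcases hint _ hd hd2 with h1 | h1
      · rw [h1]; group
      · rw [h1]; exact hnjn
    have e5 : b * (n * a * n⁻¹) = a * (n * b * n⁻¹) := by
      calc b * (n * a * n⁻¹) = b * ((n * a * n⁻¹) * b) * b⁻¹ := by group
        _ = b * (a * (n * b * n⁻¹)) * b⁻¹ := by rw [← e3, e4]
        _ = (a * (n * b * n⁻¹)) * b * b⁻¹ := by rw [hc _ hd b hb]
        _ = _ := by group
    rw [e1, e5] at h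
    rcases hint _ hd hd2 with h1 | h1
    · rw [h1] at h
      apply hj1
      simpa using h
    · rw [h1, hjj] at h
      apply hj1
      simpa using h
  -- every `s` in `C` with `s * s = 1` lies in `Y`
  have stepI' : ∀ s, s * j = j * s → s * s = 1 → ∃ a ∈ L₁, ∃ b ∈ L₂, s = a * b := by
    intro s hs hss
    rcases hC s hs with h | ⟨a, ha, b, hb, rfl⟩
    · exact h
    · exact absurd hss (stepI a ha b hb)
  -- Step II
  have stepII : ∀ a ∈ L₁, ∀ b ∈ L₂, (a * b) * (a * b) = 1 → a * b ≠ 1 → a * b ≠ j →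
      a * a = j ∧ b * b = j := by
    intro a ha b hb h h1 h2
    rw [mul4 a ha b hb a ha b hb] at h
    have e1 : a * a = (b * b)⁻¹ := eq_inv_of_mul_eq_one_left h
    rcases hint (a * a) (mul_mem ha ha) (e1 ▸ inv_mem (mul_mem hb hb)) with h3 | h3
    · exfalso
      have h4 : b * b = 1 := by rw [h3, one_mul] at h; exact h
      rcases F1.inv a ha h3 with rfl | rfl <;> rcases F2.inv b hb h4 with rfl | rfl
      · exact h1 (by simp)
      · exact h2 (by simp)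
      · exact h2 (by simp)
      · exact h1 hjj
    · refine ⟨h3, ?_⟩
      rw [h3] at h
      have : b * b = j⁻¹ := eq_inv_of_mul_eq_one_right h
      rw [this, hjinv]
  obtain ⟨x, hx, hxx⟩ := F1.root
  obtain ⟨y, hy⟩ : ∃ y, y = n * x * n⁻¹ := ⟨_, rfl⟩
  have hyL : y ∈ L₂ := hy ▸ h12 x hx
  have hyy : y * y = j := by
    rw [hy]
    calc n * x * n⁻¹ * (n * x * n⁻¹) = n * (x * x) * n⁻¹ := by group
      _ = _ := by rw [hxx, hnjn]
  -- Step III
  have stepIII : ∀ s, s * j = j * s → s * s = 1 → s ≠ 1 → s ≠ j →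
      ∃ c, c * j = j * c ∧ c * s * c⁻¹ = x * y := by
    intro s hs hss h1 h2
    obtain ⟨a, ha, b, hb, rfl⟩ := stepI' s hs hss
    obtain ⟨haa, hbb⟩ := stepII a ha b hb hss h1 h2
    obtain ⟨c₁, hc₁, e1⟩ := F1.conj a ha x hx haa hxx
    obtain ⟨c₂, hc₂, e2⟩ := F2.conj b hb y hyL hbb hyy
    exact ⟨c₁ * c₂, hYj c₁ hc₁ c₂ hc₂, by rw [conj2 c₁ hc₁ c₂ hc₂ a ha b hb, e1, e2]⟩
  have hx1 : x ≠ 1 := by
    rintro rfl
    apply hj1
    rw [← hxx, one_mul]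
  have hxj : x ≠ j := by
    rintro rfl
    apply hj1
    rw [← hxx, hjj]
  have ht1 : x * y ≠ 1 := by
    intro h
    have : x = y⁻¹ := eq_inv_of_mul_eq_one_left h
    rcases hint x hx (this ▸ inv_mem hyL) with h | h
    · exact hx1 h
    · exact hxj h
  have htj : x * y ≠ j := by
    intro h
    have : x = j * y⁻¹ := by rw [← h]; group
    rcases hint x hx (this ▸ mul_mem hj₂ (inv_mem hyL)) with h | h
    · exact hx1 h
    · exact hxj h
  have htC : (x * y) * j = j * (x * y) := hYj x hx y hyL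
  have htt : (x * y) * (x * y) = 1 := by
    rw [mul4 x hx y hyL x hx y hyL, hxx, hyy, hjj]
  by_contra hne
  -- first conjugating element
  obtain ⟨c, hcj, hcs⟩ := stepIII (g * j * g⁻¹) hg.symm.eq
    (by calc g * j * g⁻¹ * (g * j * g⁻¹) = g * (j * j) * g⁻¹ := by group
          _ = 1 := by rw [hjj]; group)
    (by
      intro h
      apply hj1
      calc j = g⁻¹ * (g * j * g⁻¹) * g := by group
        _ = 1 := by rw [h]; group) hne
  obtain ⟨g₀, hg₀⟩ : ∃ g₀, g₀ * j * g₀⁻¹ = x * y :=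
    ⟨c * g, by rw [← hcs]; group⟩
  have hg₀' : g₀⁻¹ * (x * y) * g₀ = j := by rw [← hg₀]; group
  obtain ⟨c', hcj', hcs'⟩ := stepIII (g₀⁻¹ * j * g₀)
    (by
      calc g₀⁻¹ * j * g₀ * j = g₀⁻¹ * j * g₀ * (g₀⁻¹ * (x * y) * g₀) := by rw [hg₀']
        _ = g₀⁻¹ * (j * (x * y)) * g₀ := by group
        _ = g₀⁻¹ * ((x * y) * j) * g₀ := by rw [htC]
        _ = (g₀⁻¹ * (x * y) * g₀) * (g₀⁻¹ * j * g₀) := by group
        _ = _ := by rw [hg₀'])
    (by calc g₀⁻¹ * j * g₀ * (g₀⁻¹ * j * g₀) = g₀⁻¹ * (j * j) * g₀ := by group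
          _ = 1 := by rw [hjj]; group)
    (by
      intro h
      apply hj1
      calc j = g₀ * (g₀⁻¹ * j * g₀) * g₀⁻¹ := by group
        _ = 1 := by rw [h]; group)
    (by
      intro h
      apply htj
      rw [← hg₀]
      calc g₀ * j * g₀⁻¹ = g₀ * (g₀⁻¹ * j * g₀) * g₀⁻¹ := by rw [h]
        _ = j := by group)
  obtain ⟨h, hhj, hht⟩ : ∃ h, h * j * h⁻¹ = x * y ∧ h * (x * y) * h⁻¹ = j := by
    refine ⟨c' * g₀⁻¹, by rw [← hcs']; group, ?_⟩
    calc c' * g₀⁻¹ * (x * y) * (c' * g₀⁻¹)⁻¹ = c' * (g₀⁻¹ * (x * y) * g₀) * c'⁻¹ := by group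
      _ = _ := by rw [hg₀', hcj', mul_inv_cancel_right]
  -- Step (i)
  have hxinv : x⁻¹ = x * j := by
    apply inv_eq_of_mul_eq_one_right
    rw [← mul_assoc, hxx, hjj]
  have hyinv : y⁻¹ = y * j := by
    apply inv_eq_of_mul_eq_one_right
    rw [← mul_assoc, hyy, hjj]
  have stepi : ∀ a ∈ L₁, ∀ b ∈ L₂, (a * b) * (x * y) = (x * y) * (a * b) →
      (a * x = x * a ∧ b * y = y * b) ∨ (a * x * a⁻¹ = x⁻¹ ∧ (a * b) * (a * b) = 1) := by
    intro a ha b hb hab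
    have e1 : (a * x * a⁻¹) * (b * y * b⁻¹) = x * y := by
      rw [← conj2 a ha b hb x hx y hyL, hab, mul_inv_cancel_right]
    rcases eq2 _ (mul_mem (mul_mem ha hx) (inv_mem ha)) _ (mul_mem (mul_mem hb hyL) (inv_mem hb))
      x hx y hyL e1 with ⟨h1, h2⟩ | ⟨h1, h2⟩
    · left
      exact ⟨mul_inv_eq_iff_eq_mul.mp h1, mul_inv_eq_iff_eq_mul.mp h2⟩
    · right
      rw [← hxinv] at h1
      rw [← hyinv] at h2
      refine ⟨h1, ?_⟩
      rw [mul4 a ha b hb a ha b hb, F1.invert x hx a ha hxx h1, F2.invert y hyL b hb hyy h2, hjj]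
  obtain ⟨u, hu, k, hux, huk, huu, hk⟩ := F1.torus x hx hxx
  have hxinvx : x⁻¹ * x⁻¹ = j := by
    rw [← _root_.mul_inv_rev, hxx, hjinv]
  obtain ⟨v, hv, hvx⟩ := F1.conj x hx x⁻¹ (inv_mem hx) hxx hxinvx
  obtain ⟨v', hv'⟩ : ∃ v', v' = n * v * n⁻¹ := ⟨_, rfl⟩
  have hv'L : v' ∈ L₂ := hv' ▸ h12 v hv
  have hv'y : v' * y * v'⁻¹ = y⁻¹ := by
    rw [hv', hy]
    calc n * v * n⁻¹ * (n * x * n⁻¹) * (n * v * n⁻¹)⁻¹ = n * (v * x * v⁻¹) * n⁻¹ := by group
      _ = _ := by rw [hvx]; group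
  have hxx1 : x ≠ x⁻¹ := by
    intro h
    apply hj1
    rw [← hxx]
    nth_rewrite 2 [h]
    rw [mul_inv_cancel]
  -- elements `a v * b v'` with `a`, `b` in the tori
  have key : ∀ a ∈ L₁, a * x = x * a →
      ((a * v) * v') * (x * y) = (x * y) * ((a * v) * v') ∧ ((a * v) * v') * ((a * v) * v') = 1 := by
    intro a ha hax
    have e0 : (a * v) * x * (a * v)⁻¹ = x⁻¹ := by
      calc (a * v) * x * (a * v)⁻¹ = a * (v * x * v⁻¹) * a⁻¹ := by group
        _ = a * x⁻¹ * a⁻¹ := by rw [hvx]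
        _ = (a * x * a⁻¹)⁻¹ := by group
        _ = _ := by rw [hax, mul_inv_cancel_right]
    have e1 : ((a * v) * v') * (x * y) * ((a * v) * v')⁻¹ = x * y := by
      rw [conj2 _ (mul_mem ha hv) _ hv'L x hx y hyL, e0, hv'y, hxinv, hyinv]
      calc x * j * (y * j) = x * (j * y) * j := by group
        _ = x * (y * j) * j := by rw [hc j hj₁ y hyL]
        _ = x * y * (j * j) := by group
        _ = _ := by rw [hjj, mul_one]
    have e2 : ((a * v) * v') * (x * y) = (x * y) * ((a * v) * v') := mul_inv_eq_iff_eq_mul.mp e1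
    refine ⟨e2, ?_⟩
    rcases stepi _ (mul_mem ha hv) _ hv'L e2 with ⟨h1, -⟩ | ⟨-, h1⟩
    · exfalso
      apply hxx1
      rw [← e0, h1, mul_inv_cancel_right]
    · exact h1
  obtain ⟨hp1, hp2⟩ := key u hu hux
  obtain ⟨hr1, hr2⟩ := key 1 L₁.one_mem (by simp)
  obtain ⟨p, hp⟩ : ∃ p, p = (u * v) * v' := ⟨_, rfl⟩
  obtain ⟨r, hr⟩ : ∃ r, r = (1 * v) * v' := ⟨_, rfl⟩
  rw [← hp] at hp1 hp2
  rw [← hr] at hr1 hr2
  have hpj : p * j = j * p := hp ▸ hYj _ (mul_mem hu hv) _ hv'L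
  have hrj : r * j = j * r := hr ▸ hYj _ (mul_mem L₁.one_mem hv) _ hv'L
  have hupr : u = p * r⁻¹ := by rw [hp, hr]; group
  -- transport by `h`
  have tr1 : ∀ s, s * (x * y) = (x * y) * s → (h * s * h⁻¹) * j = j * (h * s * h⁻¹) := by
    intro s hs
    calc (h * s * h⁻¹) * j = (h * s * h⁻¹) * (h * (x * y) * h⁻¹) := by rw [hht]
      _ = h * (s * (x * y)) * h⁻¹ := by group
      _ = h * ((x * y) * s) * h⁻¹ := by rw [hs]
      _ = (h * (x * y) * h⁻¹) * (h * s * h⁻¹) := by group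
      _ = _ := by rw [hht]
  have tr2 : ∀ s, s * j = j * s → (h * s * h⁻¹) * (x * y) = (x * y) * (h * s * h⁻¹) := by
    intro s hs
    calc (h * s * h⁻¹) * (x * y) = (h * s * h⁻¹) * (h * j * h⁻¹) := by rw [hhj]
      _ = h * (s * j) * h⁻¹ := by group
      _ = h * (j * s) * h⁻¹ := by rw [hs]
      _ = (h * j * h⁻¹) * (h * s * h⁻¹) := by group
      _ = _ := by rw [hhj]
  have tr3 : ∀ s, s * s = 1 → (h * s * h⁻¹) * (h * s * h⁻¹) = 1 := by
    intro s hs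
    calc (h * s * h⁻¹) * (h * s * h⁻¹) = h * (s * s) * h⁻¹ := by group
      _ = 1 := by rw [hs]; group
  obtain ⟨a₁, ha₁, b₁, hb₁, e₁⟩ := stepI' _ (tr1 p hp1) (tr3 p hp2)
  obtain ⟨a₂, ha₂, b₂, hb₂, e₂⟩ := stepI' _ (tr1 r hr1) (tr3 r hr2)
  have huY : h * u * h⁻¹ = (a₁ * a₂⁻¹) * (b₁ * b₂⁻¹) := by
    calc h * u * h⁻¹ = (h * p * h⁻¹) * (h * r * h⁻¹)⁻¹ := by rw [hupr]; group
      _ = _ := by rw [e₁, e₂, inv2 a₂ ha₂ b₂ hb₂, mul4 a₁ ha₁ b₁ hb₁ _ (inv_mem ha₂) _ (inv_mem hb₂)]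
  obtain ⟨a₃, ha₃⟩ : ∃ a₃, a₃ = a₁ * a₂⁻¹ := ⟨_, rfl⟩
  obtain ⟨b₃, hb₃⟩ : ∃ b₃, b₃ = b₁ * b₂⁻¹ := ⟨_, rfl⟩
  have ha₃L : a₃ ∈ L₁ := ha₃ ▸ mul_mem ha₁ (inv_mem ha₂)
  have hb₃L : b₃ ∈ L₂ := hb₃ ▸ mul_mem hb₁ (inv_mem hb₂)
  rw [← ha₃, ← hb₃] at huY
  have hut := tr2 u (hc u hu j hj₂)
  rw [huY] at hut
  rcases stepi a₃ ha₃L b₃ hb₃L hut with ⟨h1, h2⟩ | ⟨-, h1⟩
  · have e3 : x * y = a₃ ^ k * b₃ ^ k := by
      rw [← (show Commute a₃ b₃ from hc a₃ ha₃L b₃ hb₃L).mul_pow, ← huY, ← hhj, ← huk]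
      exact (map_pow (MulAut.conj h) u k)
    have hb'' : n * b₃ * n⁻¹ ∈ L₁ := h21 b₃ hb₃L
    have hnyn : n * y * n⁻¹ = x := by
      rw [hy]
      calc n * (n * x * n⁻¹) * n⁻¹ = (n * n) * x * (n * n)⁻¹ := by group
        _ = _ := by rw [hn2, ← hc x hx j hj₂, mul_inv_cancel_right]
    have hcomm : (n * b₃ * n⁻¹) * x = x * (n * b₃ * n⁻¹) := by
      rw [← hnyn]
      calc n * b₃ * n⁻¹ * (n * y * n⁻¹) = n * (b₃ * y) * n⁻¹ := by group
        _ = n * (y * b₃) * n⁻¹ := by rw [h2]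
        _ = _ := by group
    have hbk : b₃ ^ k = 1 ∨ b₃ ^ k = j := by
      have e4 : (n * b₃ * n⁻¹) ^ k = n * b₃ ^ k * n⁻¹ := (map_pow (MulAut.conj n) b₃ k).symm
      rcases hk _ hb'' hcomm with h3 | h3
      · left
        rw [e4] at h3
        calc b₃ ^ k = n⁻¹ * (n * b₃ ^ k * n⁻¹) * n := by group
          _ = 1 := by rw [h3]; group
      · right
        rw [e4] at h3
        calc b₃ ^ k = n⁻¹ * (n * b₃ ^ k * n⁻¹) * n := by group
          _ = n⁻¹ * (j * n) := by rw [h3]; group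
          _ = _ := by rw [← hnj]; group
    rcases hk a₃ ha₃L h1 with h3 | h3 <;> rcases hbk with h4 | h4 <;> rw [h3, h4] at e3
    · exact ht1 (by simpa using e3)
    · exact htj (by simpa using e3)
    · exact htj (by simpa using e3)
    · exact ht1 (by rw [e3, hjj])
  · apply huu
    rw [← huY] at h1
    calc u * u = h⁻¹ * ((h * u * h⁻¹) * (h * u * h⁻¹)) * h := by group
      _ = 1 := by rw [h1]; group

theorem torus_SL2 {F : Type*} [Field F] [Fintype F] (h2 : (2 : F) ≠ 0) (x : SL2 F)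
    (hx : x * x = -1) : ∃ u : SL2 F, ∃ k : ℕ, u * x = x * u ∧ u ^ k = -1 ∧ u * u ≠ 1 ∧
      ∀ a : SL2 F, a * x = x * a → a ^ k = 1 ∨ a ^ k = -1 := by
  have htr : tr x = 0 := sq_eq_neg_one_iff.mp hx
  have ht : tr x ^ 2 ≠ 4 := by rw [htr]; exact zero_sq_ne_four h2
  have hcyc := isCyclic_centralizer ht
  obtain ⟨⟨u, hu⟩, hgen⟩ := hcyc.exists_generator
  have hneg : (-1 : SL2 F) ≠ 1 := by
    intro h
    have := congrArg (fun B : SL2 F => B 0 0) h
    simp only [Matrix.SpecialLinearGroup.coe_neg, Matrix.SpecialLinearGroup.coe_one,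
      Matrix.neg_apply, Matrix.one_apply_eq] at this
    apply h2
    linear_combination -this
  have hpow : ∀ a : SL2 F, a * x = x * a → ∃ i : ℤ, u ^ i = a := by
    intro a ha
    obtain ⟨i, hi⟩ := Subgroup.mem_zpowers_iff.mp (hgen ⟨a, mem_centralizer_iff.mpr ha⟩)
    exact ⟨i, by simpa using congrArg Subtype.val hi⟩
  have hx4 : orderOf x = 4 := by
    have h4 : x ^ 4 = 1 := by
      calc x ^ 4 = (x * x) * (x * x) := by rw [show 4 = 2 + 2 from rfl, pow_add, sq]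
        _ = 1 := by rw [hx]; simp
    have h22 : x ^ 2 ≠ 1 := by rw [sq, hx]; exact hneg
    exact orderOf_eq_prime_pow (p := 2) (n := 1) (by simpa using h22) (by simpa using h4)
  obtain ⟨i, hi⟩ := hpow x rfl
  have hdvd : 4 ∣ orderOf u := by
    rw [← hx4, ← hi]
    exact orderOf_dvd_of_pow_eq_one (by
      rw [← zpow_natCast, ← _root_.zpow_mul, mul_comm, _root_.zpow_mul, zpow_natCast,
        pow_orderOf_eq_one, _root_.one_zpow])
  obtain ⟨m, hm⟩ := hdvd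
  have hm0 : 0 < m := by
    rcases Nat.eq_zero_or_pos m with h | h
    · exfalso
      rw [h, mul_zero] at hm
      exact (orderOf_pos u).ne' hm
    · exact h
  have hsq : ∀ a : SL2 F, a * x = x * a → (a ^ (2 * m)) * (a ^ (2 * m)) = 1 := by
    intro a ha
    obtain ⟨i, rfl⟩ := hpow a ha
    rw [← pow_add, ← zpow_natCast, ← _root_.zpow_mul, mul_comm, _root_.zpow_mul, zpow_natCast,
      show 2 * m + 2 * m = orderOf u by omega, pow_orderOf_eq_one, _root_.one_zpow]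
  have hux : u * x = x * u := mem_centralizer_iff.mp hu
  refine ⟨u, 2 * m, hux, ?_, ?_, ?_⟩
  · rcases (sq_eq_one_iff' h2).mp (hsq u hux) with h | h
    · exfalso
      have := orderOf_dvd_of_pow_eq_one h
      rw [hm] at this
      have := Nat.le_of_dvd (by omega) this
      omega
    · exact h
  · intro h
    have := orderOf_dvd_of_pow_eq_one (show u ^ 2 = 1 by rw [sq, h])
    rw [hm] at this
    have := Nat.le_of_dvd (by omega) this
    omega
  · intro a ha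
    exact (sq_eq_one_iff' h2).mp (hsq a ha)

theorem fine_of_equiv {F : Type*} [Field F] [Fintype F] (h2 : (2 : F) ≠ 0) {M : Subgroup G}
    (e : M ≃* SL2 F) {j : G} (hj : j ∈ M) (hj1 : j ≠ 1) (hjj : j * j = 1) : Fine j M := by
  have hinv : ∀ m : M, m * m = 1 → e m = 1 ∨ e m = -1 := by
    intro m hm
    apply (sq_eq_one_iff' h2).mp
    rw [← map_mul, hm, map_one]
  have hej : e ⟨j, hj⟩ = -1 := by
    rcases hinv ⟨j, hj⟩ (Subtype.ext hjj) with h | h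
    · exfalso
      apply hj1
      have : (⟨j, hj⟩ : M) = 1 := e.injective (by rw [h, map_one])
      exact congrArg Subtype.val this
    · exact h
  have hsymm : ((e.symm (-1) : M) : G) = j := by
    rw [← hej, e.symm_apply_apply]
  have toJ : ∀ m (hm : m ∈ M), m * m = j → e ⟨m, hm⟩ * e ⟨m, hm⟩ = -1 := by
    intro m hm h
    rw [← map_mul, ← hej]
    congr 1
    exact Subtype.ext h
  have ofJ : ∀ W : SL2 F, W * W = -1 → ((e.symm W : M) : G) * (e.symm W : M) = j := by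
    intro W hW
    have : e.symm W * e.symm W = ⟨j, hj⟩ := by
      apply e.injective
      rw [map_mul, e.apply_symm_apply, hW, hej]
    exact congrArg Subtype.val this
  have val : ∀ {a b : M}, e a = e b → (a : G) = b := fun h => congrArg Subtype.val (e.injective h)
  refine ⟨?_, ?_, ?_, ?_, ?_⟩
  · intro m hm hmm
    rcases hinv ⟨m, hm⟩ (Subtype.ext hmm) with h | h
    · left
      exact val (a := ⟨m, hm⟩) (b := 1) (by rw [h, map_one])
    · right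
      exact val (a := ⟨m, hm⟩) (b := ⟨j, hj⟩) (by rw [h, hej])
  · intro a ha b hb haa hbb
    obtain ⟨c, hc⟩ := isConj_iff.mp (isConj_of_tr_eq_zero h2 (sq_eq_neg_one_iff.mp (toJ a ha haa))
      (sq_eq_neg_one_iff.mp (toJ b hb hbb)))
    refine ⟨e.symm c, (e.symm c).2, ?_⟩
    exact val (a := e.symm c * ⟨a, ha⟩ * (e.symm c)⁻¹) (b := ⟨b, hb⟩)
      (by rw [map_mul, map_mul, map_inv, e.apply_symm_apply, hc])
  · exact ⟨e.symm Cfsg.Agent.Lib.Helper41Pair.x0, (e.symm _).2,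
      ofJ _ (sq_eq_neg_one_iff.mpr Cfsg.Agent.Lib.Helper41Pair.tr_x0)⟩
  · intro x hx a ha hxx hax
    have h1 := toJ x hx hxx
    have ht : tr (e ⟨x, hx⟩) ^ 2 ≠ 4 := by
      rw [sq_eq_neg_one_iff.mp h1]; exact zero_sq_ne_four h2
    have h3 : e ⟨a, ha⟩ * e ⟨x, hx⟩ * (e ⟨a, ha⟩)⁻¹ = (e ⟨x, hx⟩)⁻¹ := by
      rw [← map_inv, ← map_inv, ← map_mul, ← map_mul]
      congr 1
      exact Subtype.ext hax
    have h4 := sq_eq_neg_one_of_inverts ht h3
    exact val (a := ⟨a, ha⟩ * ⟨a, ha⟩) (b := ⟨j, hj⟩) (by rw [map_mul, h4, hej])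
  · intro x hx hxx
    obtain ⟨u, k, hux, huk, huu, hk⟩ := torus_SL2 h2 _ (toJ x hx hxx)
    refine ⟨e.symm u, (e.symm u).2, k, ?_, ?_, ?_, ?_⟩
    · exact val (a := e.symm u * ⟨x, hx⟩) (b := ⟨x, hx⟩ * e.symm u)
        (by rw [map_mul, map_mul, e.apply_symm_apply, hux])
    · exact val (a := (e.symm u) ^ k) (b := ⟨j, hj⟩) (by rw [map_pow, e.apply_symm_apply, huk, hej])
    · intro h
      apply huu
      have : e.symm u * e.symm u = 1 := Subtype.ext h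
      have := congrArg e this
      rwa [map_mul, e.apply_symm_apply, map_one] at this
    · intro a ha hax
      have h3 : e ⟨a, ha⟩ * e ⟨x, hx⟩ = e ⟨x, hx⟩ * e ⟨a, ha⟩ := by
        rw [← map_mul, ← map_mul]
        congr 1
        exact Subtype.ext hax
      rcases hk _ h3 with h | h
      · left
        exact val (a := (⟨a, ha⟩ : M) ^ k) (b := 1) (by rw [map_pow, h, map_one])
      · right
        exact val (a := (⟨a, ha⟩ : M) ^ k) (b := ⟨j, hj⟩) (by rw [map_pow, h, hej])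

end Cfsg.Agent.Lib.Helper41Swap
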