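import Mathlib
import Cfsg.Agent.S2622
import Cfsg.Agent.S0752
import Cfsg.Agent.S0749
import Cfsg.Agent.S0750
import Cfsg.Agent.Lib.Helper42Quad

set_option autoImplicit false

/-! Involutions `1 + N` of symplectic and orthogonal groups in characteristic two (helper42).
`N` is self-adjoint for the alternating form `f` and `N * N = 0`.  Normal form:
`N x = ∑ i, f x (r i) • r (σ i)` with `r i = N (u i)` a basis of the image of `N`,
`σ = id` (the form `f x (N y)` is not alternating) or `σ = Sum.swap` (it is alternating). -/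

namespace Cfsg.Agent.Lib.Helper42Inv

variable {F V : Type*} [Field F] [AddCommGroup V] [Module F V]

/-- Normal form data of a self-adjoint `N`. -/
structure Dat (f : LinearMap.BilinForm F V) (N : V →ₗ[F] V) {ι : Type*} [Fintype ι] [DecidableEq ι]
    (σ : ι → ι) (u : ι → V) : Prop where
  gram : ∀ i j, f (u i) (N (u j)) = if i = σ j then 1 else 0
  formula : ∀ x, N x = ∑ i, f x (N (u i)) • N (u (σ i))

theorem formula_of_span (f : LinearMap.BilinForm F V) (N : V →ₗ[F] V)
    (hsa : ∀ x y, f (N x) y = f x (N y)) {ι : Type*} [Fintype ι] [DecidableEq ι]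
    (σ : ι → ι) (hσ : ∀ i, σ (σ i) = i) (u : ι → V)
    (gram : ∀ i j, f (u i) (N (u j)) = if i = σ j then 1 else 0)
    (hspan : ∀ x, ∃ y ∈ Submodule.span F (Set.range u), ∃ k, N k = 0 ∧ x = y + k) :
    Dat f N σ u := by
  refine ⟨gram, ?_⟩
  intro x
  obtain ⟨y, hy, k, hk, rfl⟩ := hspan x
  have hk' : ∀ i, f k (N (u i)) = 0 := by
    intro i
    rw [← hsa, hk]; simp
  simp only [map_add, LinearMap.add_apply, hk, hk', add_zero]
  induction hy using Submodule.span_induction with
  | mem x hx =>
    obtain ⟨j, rfl⟩ := hx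
    simp only [gram]
    rw [Finset.sum_eq_single (σ j)]
    · simp [hσ]
    · intro b _ hb
      have : j ≠ σ b := by
        rintro rfl
        exact hb (hσ b).symm
      simp [this]
    · simp
  | zero => simp
  | add a b _ _ ha hb =>
    simp only [map_add, LinearMap.add_apply, add_smul, Finset.sum_add_distrib]
    rw [← ha, ← hb]
  | smul c a _ ha =>
    simp only [map_smul, LinearMap.smul_apply, smul_eq_mul, mul_smul]
    rw [← Finset.smul_sum, ← ha]

theorem exists_dat_O [Finite F] [CharP F 2] [FiniteDimensional F V] (f : LinearMap.BilinForm F V)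
    (hf : f.Nondegenerate) (halt : f.IsAlt) (N : V →ₗ[F] V)
    (hsa : ∀ x y, f (N x) y = f x (N y)) (hna : ∃ v, f v (N v) ≠ 0) :
    ∃ (l : ℕ) (u : Fin l → V), Dat f N id u := by
  classical
  have h11 : ∀ a : F, a + a = 0 := fun a => CharTwo.add_self_eq_zero a
  have hsym : ∀ x y, f x y = f y x := fun x y => by
    have h := halt.neg_eq x y
    have h2 : -f x y = f x y := by
      rw [neg_eq_iff_add_eq_zero]; exact h11 _
    rw [← h, h2]
  obtain ⟨U, hU⟩ := Submodule.exists_isCompl (LinearMap.ker N)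
  have hdec : ∀ x, ∃ y ∈ U, ∃ k, N k = 0 ∧ x = y + k := by
    intro x
    have hx : x ∈ LinearMap.ker N ⊔ U := by rw [hU.sup_eq_top]; trivial
    obtain ⟨k, hk, y, hy, rfl⟩ := Submodule.mem_sup.mp hx
    exact ⟨y, hy, k, hk, add_comm _ _⟩
  have hγsym : ∀ x y, f x (N y) = f y (N x) := by
    intro x y
    rw [← hsa y x, hsym]
  have hS : ((f.compRight N).restrict U).IsSymm := ⟨fun x y => hγsym _ _⟩
  have hsep : ∀ x : U, (∀ y : U, f (x : V) (N (y : V)) = 0) → x = 0 := by
    intro x hx
    have h1 : N (x : V) = 0 := by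
      apply hf.1
      intro v
      obtain ⟨y, hy, k, hk, rfl⟩ := hdec v
      rw [hsa, map_add, hk, add_zero]
      exact hx ⟨y, hy⟩
    have h2 : (x : V) ∈ LinearMap.ker N ⊓ U := ⟨h1, x.2⟩
    rw [hU.inf_eq_bot] at h2
    exact Subtype.ext (by simpa using h2)
  have hB : ((f.compRight N).restrict U).Nondegenerate := by
    refine ⟨fun x hx => hsep x hx, fun x hx => hsep x (fun y => ?_)⟩
    rw [hγsym]
    exact hx y
  have hna' : ∃ v : U, ((f.compRight N).restrict U) v v ≠ 0 := by
    obtain ⟨v, hv⟩ := hna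
    obtain ⟨y, hy, k, hk, rfl⟩ := hdec v
    refine ⟨⟨y, hy⟩, ?_⟩
    intro h0
    apply hv
    have h0' : f y (N y) = 0 := h0
    have e1 : N (y + k) = N y := by rw [map_add, hk, add_zero]
    have e2 : f k (N y) = 0 := by rw [← hsa, hk]; simp
    rw [e1, map_add, LinearMap.add_apply, h0', e2, add_zero]
  obtain ⟨b, hb⟩ := Cfsg.Agent.S2622.result rfl _ hS hB hna'
  refine ⟨_, fun i => (b i : V), ?_⟩
  apply formula_of_span f N hsa id (fun _ => rfl)
  · intro i j
    exact hb i j
  · intro x
    obtain ⟨y, hy, k, hk, rfl⟩ := hdec x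
    refine ⟨y, ?_, k, hk, rfl⟩
    have h1 := b.sum_repr ⟨y, hy⟩
    have h2 : y = ∑ i, (b.repr ⟨y, hy⟩ i) • (b i : V) := by
      have h3 : (U.subtype (∑ i, (b.repr ⟨y, hy⟩ i) • b i)) = y := by rw [h1]; rfl
      rw [map_sum] at h3
      exact h3.symm
    rw [h2]
    exact Submodule.sum_mem _ (fun i _ => Submodule.smul_mem _ _ (Submodule.subset_span ⟨i, rfl⟩))

theorem exists_dat_A [CharP F 2] [FiniteDimensional F V] (f : LinearMap.BilinForm F V)
    (hf : f.Nondegenerate) (N : V →ₗ[F] V)
    (hsa : ∀ x y, f (N x) y = f x (N y)) (ha : ∀ v, f v (N v) = 0) :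
    ∃ (k : ℕ) (u : Fin k ⊕ Fin k → V), Dat f N Sum.swap u := by
  classical
  have h11 : ∀ a : F, a + a = 0 := fun a => CharTwo.add_self_eq_zero a
  have hA : (f.compRight N).IsAlt := fun v => ha v
  have hγsym : ∀ x y, f x (N y) = f y (N x) := by
    intro x y
    have h := hA.neg_eq x y
    have h' : -f x (N y) = f y (N x) := h
    have h2 : -f x (N y) = f x (N y) := by
      rw [neg_eq_iff_add_eq_zero]; exact h11 _
    rw [← h', h2]
  obtain ⟨m, k, b, h1, h2, h3, h4⟩ := Cfsg.Agent.S0752.result (f.compRight N) hA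
  refine ⟨m, fun i => b (Sum.inl i), ?_⟩
  apply formula_of_span f N hsa Sum.swap (fun i => Sum.swap_swap i)
  · rintro (i | i) (j | j)
    · simpa using h2 i j
    · simpa using h1 i j
    · rw [hγsym]
      have := h1 j i
      simpa [eq_comm] using this
    · simpa using h3 i j
  · intro x
    have hx := b.sum_repr x
    rw [Fintype.sum_sum_type] at hx
    refine ⟨_, ?_, _, ?_, hx.symm⟩
    · exact Submodule.sum_mem _
        (fun i _ => Submodule.smul_mem _ _ (Submodule.subset_span ⟨i, rfl⟩))
    · rw [map_sum]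
      apply Finset.sum_eq_zero
      intro j _
      rw [map_smul]
      have : N (b (Sum.inr j)) = 0 := by
        apply hf.1
        intro v
        rw [hsa]
        exact h4 j v
      rw [this, smul_zero]

section dat

variable {f : LinearMap.BilinForm F V} {N : V →ₗ[F] V} {ι : Type*} [Fintype ι] [DecidableEq ι]
  {σ : ι → ι} {u : ι → V}

theorem Dat.li (h : Dat f N σ u) (hσ : ∀ i, σ (σ i) = i) :
    LinearIndependent F (fun i => N (u i)) := by
  rw [Fintype.linearIndependent_iff]
  intro g hg j
  have h1 := congrArg (f (u (σ j))) hg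
  simp only [map_sum, map_smul, map_zero, h.gram, smul_eq_mul] at h1
  rw [Finset.sum_eq_single j] at h1
  · simpa using h1
  · intro b _ hb
    have : σ j ≠ σ b := by
      intro hh
      apply hb
      rw [← hσ b, ← hh, hσ]
    simp [this]
  · simp

theorem Dat.range_eq (h : Dat f N σ u) :
    LinearMap.range N = Submodule.span F (Set.range (fun i => N (u i))) := by
  apply le_antisymm
  · rintro _ ⟨x, rfl⟩
    rw [h.formula x]
    exact Submodule.sum_mem _
      (fun i _ => Submodule.smul_mem _ _ (Submodule.subset_span ⟨σ i, rfl⟩))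
  · rw [Submodule.span_le]
    rintro _ ⟨i, rfl⟩
    exact ⟨u i, rfl⟩

theorem Dat.finrank_range (h : Dat f N σ u) (hσ : ∀ i, σ (σ i) = i) :
    Module.finrank F (LinearMap.range N) = Fintype.card ι := by
  rw [h.range_eq]
  exact finrank_span_eq_card (h.li hσ)

end dat

theorem conj_sp [FiniteDimensional F V] (f : LinearMap.BilinForm F V) (hf : f.Nondegenerate)
    (halt : f.IsAlt) (N N' : V →ₗ[F] V) (hsa : ∀ x y, f (N x) y = f x (N y))
    (hsa' : ∀ x y, f (N' x) y = f x (N' y)) (hN : ∀ x, N (N x) = 0) (hN' : ∀ x, N' (N' x) = 0)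
    {ι : Type*} [Fintype ι] [DecidableEq ι] (σ : ι → ι) (hσ : ∀ i, σ (σ i) = i) (u u' : ι → V)
    (h : Dat f N σ u) (h' : Dat f N' σ u') :
    ∃ g : V ≃ₗ[F] V, (∀ x y, f (g x) (g y) = f x y) ∧ ∀ x, g (N x) = N' (g x) := by
  have hli := h.li hσ
  have hli' := h'.li hσ
  have hX : ∀ x ∈ Submodule.span F (Set.range (fun i => N (u i))), ∃ a, x = N a := by
    intro x hx
    rw [← h.range_eq] at hx
    obtain ⟨a, rfl⟩ := hx
    exact ⟨a, rfl⟩
  have hX' : ∀ x ∈ Submodule.span F (Set.range (fun i => N' (u' i))), ∃ a, x = N' a := by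
    intro x hx
    rw [← h'.range_eq] at hx
    obtain ⟨a, rfl⟩ := hx
    exact ⟨a, rfl⟩
  obtain ⟨g, hg1, hg2⟩ := Cfsg.Agent.S0749.result f hf halt _ _
    ((Module.Basis.span hli).equiv (Module.Basis.span hli') (Equiv.refl ι)) (by
      intro x x'
      obtain ⟨a, ha⟩ := hX _ x.2
      obtain ⟨a', ha'⟩ := hX _ x'.2
      obtain ⟨c, hc⟩ := hX' _
        (((Module.Basis.span hli).equiv (Module.Basis.span hli') (Equiv.refl ι)) x).2
      obtain ⟨c', hc'⟩ := hX' _
        (((Module.Basis.span hli).equiv (Module.Basis.span hli') (Equiv.refl ι)) x').2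
      rw [ha, ha', hc, hc', hsa, hN, hsa', hN']
      simp)
  have hgr : ∀ i, g (N (u i)) = N' (u' i) := by
    intro i
    have h1 := hg2 (Module.Basis.span hli i)
    rw [Module.Basis.equiv_apply, Module.Basis.span_apply, Equiv.refl_apply,
      Module.Basis.span_apply] at h1
    exact h1
  refine ⟨g, hg1, fun x => ?_⟩
  rw [h.formula x, h'.formula (g x), map_sum]
  apply Finset.sum_congr rfl
  intro i _
  rw [map_smul, hgr, ← hgr i, hg1]

open QuadraticMap in
theorem conj_o [Finite F] [FiniteDimensional F V] (Q : QuadraticForm F V)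
    (hQ : (polarBilin Q).Nondegenerate)
    (N N' : V →ₗ[F] V) (hsa : ∀ x y, polarBilin Q (N x) y = polarBilin Q x (N y))
    (hsa' : ∀ x y, polarBilin Q (N' x) y = polarBilin Q x (N' y))
    (hN : ∀ x, N (N x) = 0) (hN' : ∀ x, N' (N' x) = 0)
    {ι : Type*} [Fintype ι] [DecidableEq ι] (σ : ι → ι) (hσ : ∀ i, σ (σ i) = i) (u u' : ι → V)
    (h : Dat (polarBilin Q) N σ u) (h' : Dat (polarBilin Q) N' σ u')
    (hval : ∀ i, Q (N (u i)) = Q (N' (u' i))) :
    ∃ g : V ≃ₗ[F] V, (∀ x, Q (g x) = Q x) ∧ ∀ x, g (N x) = N' (g x) := by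
  have hli := h.li hσ
  have hli' := h'.li hσ
  obtain ⟨φ, hφ⟩ : ∃ φ : Submodule.span F (Set.range (fun i => N (u i))) ≃ₗ[F]
      Submodule.span F (Set.range (fun i => N' (u' i))),
      ∀ i, φ (Module.Basis.span hli i) = Module.Basis.span hli' i :=
    ⟨(Module.Basis.span hli).equiv (Module.Basis.span hli') (Equiv.refl ι), fun i => by
      rw [Module.Basis.equiv_apply, Equiv.refl_apply]⟩
  have hiso : (Q.comp (Submodule.subtype _)).comp φ.toLinearMap = Q.comp (Submodule.subtype _) := by
    apply Cfsg.Agent.Lib.Helper42Quad.ext_of_basis (Module.Basis.span hli)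
    · intro i
      change Q (φ (Module.Basis.span hli i) : V) = Q (Module.Basis.span hli i : V)
      rw [hφ, Module.Basis.span_apply, Module.Basis.span_apply]
      exact (hval i).symm
    · intro i j
      have e1 : polar ((Q.comp (Submodule.subtype _)).comp φ.toLinearMap)
          (Module.Basis.span hli i) (Module.Basis.span hli j)
          = polarBilin Q (N' (u' i)) (N' (u' j)) := by
        change Q (φ (Module.Basis.span hli i + Module.Basis.span hli j) : V)
          - Q (φ (Module.Basis.span hli i) : V) - Q (φ (Module.Basis.span hli j) : V) = _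
        rw [map_add, hφ, hφ, Submodule.coe_add, Module.Basis.span_apply, Module.Basis.span_apply]
        rfl
      have e2 : polar (Q.comp (Submodule.subtype _))
          (Module.Basis.span hli i) (Module.Basis.span hli j)
          = polarBilin Q (N (u i)) (N (u j)) := by
        change Q ((Module.Basis.span hli i + Module.Basis.span hli j : _) : V)
          - Q (Module.Basis.span hli i : V) - Q (Module.Basis.span hli j : V) = _
        rw [Submodule.coe_add, Module.Basis.span_apply, Module.Basis.span_apply]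
        rfl
      rw [e1, e2, hsa, hN, hsa', hN']
      simp
  obtain ⟨g, hg1, hg2⟩ := Cfsg.Agent.S0750.result Q hQ _ _ φ (by
    intro x
    have := congrArg (fun q => q x) hiso
    simpa using this)
  have hgr : ∀ i, g (N (u i)) = N' (u' i) := by
    intro i
    have h1 := hg2 (Module.Basis.span hli i)
    rw [hφ, Module.Basis.span_apply, Module.Basis.span_apply] at h1
    exact h1
  have hgp : ∀ x y, polarBilin Q (g x) (g y) = polarBilin Q x y := by
    intro x y
    simp only [polarBilin_apply_apply, polar]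
    rw [← map_add, hg1, hg1, hg1]
  refine ⟨g, hg1, fun x => ?_⟩
  rw [h.formula x, h'.formula (g x), map_sum]
  apply Finset.sum_congr rfl
  intro i _
  rw [map_smul, hgr, ← hgr i, hgp]

theorem exists_sqrt [Finite F] [CharP F 2] (B : LinearMap.BilinForm F V)
    (hS : ∀ x y, B x y = B y x) : ∃ L : V →ₗ[F] F, ∀ v, L v ^ 2 = B v v := by
  have h11 : ∀ a : F, a + a = 0 := fun a => CharTwo.add_self_eq_zero a
  refine ⟨{ toFun := fun v => (frobeniusEquiv F 2).symm (B v v)
            map_add' := ?_
            map_smul' := ?_ }, fun v => frobeniusEquiv_symm_pow_p F 2 _⟩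
  · intro x y
    have h0 : B (x + y) (x + y) = B x x + B y y := by
      simp only [map_add, LinearMap.add_apply]
      rw [hS y x]
      have := h11 (B x y)
      linear_combination this
    rw [h0, RingEquiv.map_add]
  · intro c x
    have h0 : B (c • x) (c • x) = c ^ 2 * B x x := by
      simp only [map_smul, LinearMap.smul_apply, smul_eq_mul]
      ring
    rw [h0, RingEquiv.map_mul, frobeniusEquiv_symm_pow, RingHom.id_apply, smul_eq_mul]

end Cfsg.Agent.Lib.Helper42Inv
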