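import Mathlib
import Cfsg.Agent.Lib.Helper42Inv
import Cfsg.Agent.Lib.Helper49Rank
import Cfsg.Agent.Lib.Helper49Witt
import Cfsg.Agent.Lib.Helper49All

set_option autoImplicit false

/-! Involutions of orthogonal groups in characteristic two (helper42). -/

namespace Cfsg.Agent.Lib.Helper42OInv

open Cfsg.Agent.Lib.Helper42Inv Cfsg.Agent.Lib.Helper49Orth Cfsg.Agent.Lib.Helper49Witt
open QuadraticMap

variable {F : Type*} [Field F] {ι : Type} [Fintype ι] [DecidableEq ι]
variable (Q : QuadraticForm F (ι → F))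

/-- `t - 1` as a linear map. -/
noncomputable def NO (t : ↥(Cfsg.isometryGroup F ⇑Q)) : (ι → F) →ₗ[F] (ι → F) :=
  Matrix.toLin' (((t : Matrix.GeneralLinearGroup ι F) : Matrix ι ι F) - 1)

theorem NO_apply (t : ↥(Cfsg.isometryGroup F ⇑Q)) (v : ι → F) :
    NO Q t v = Matrix.mulVec ((t : Matrix.GeneralLinearGroup ι F) : Matrix ι ι F) v - v := by
  simp [NO, Matrix.toLin'_apply, Matrix.sub_mulVec]

theorem rank_eq (t : ↥(Cfsg.isometryGroup F ⇑Q)) :
    (((t : Matrix.GeneralLinearGroup ι F) : Matrix ι ι F) - 1).rank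
      = Module.finrank F (LinearMap.range (NO Q t)) := rfl

theorem tt (t : ↥(Cfsg.isometryGroup F ⇑Q)) (ht : t * t = 1) (v : ι → F) :
    Matrix.mulVec ((t : Matrix.GeneralLinearGroup ι F) : Matrix ι ι F)
      (Matrix.mulVec ((t : Matrix.GeneralLinearGroup ι F) : Matrix ι ι F) v) = v := by
  have h : ((t : Matrix.GeneralLinearGroup ι F) : Matrix ι ι F)
      * ((t : Matrix.GeneralLinearGroup ι F) : Matrix ι ι F) = 1 := by
    have := congrArg (fun x : ↥(Cfsg.isometryGroup F ⇑Q) =>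
      ((x : Matrix.GeneralLinearGroup ι F) : Matrix ι ι F)) ht
    simpa using this
  rw [Matrix.mulVec_mulVec, h, Matrix.one_mulVec]

theorem NO_sa (t : ↥(Cfsg.isometryGroup F ⇑Q)) (ht : t * t = 1) (x y : ι → F) :
    polarBilin Q (NO Q t x) y = polarBilin Q x (NO Q t y) := by
  have h := polar_iso Q t x (Matrix.mulVec ((t : Matrix.GeneralLinearGroup ι F) : Matrix ι ι F) y)
  rw [tt Q t ht] at h
  rw [NO_apply, NO_apply, map_sub, LinearMap.sub_apply, map_sub, polarBilin_apply_apply,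
    polarBilin_apply_apply, polarBilin_apply_apply, h]

theorem vadd_self [CharP F 2] (w : ι → F) : w + w = 0 := by
  funext i
  exact CharTwo.add_self_eq_zero _

theorem NO_sq [CharP F 2] (t : ↥(Cfsg.isometryGroup F ⇑Q)) (ht : t * t = 1) (x : ι → F) :
    NO Q t (NO Q t x) = 0 := by
  rw [NO_apply, NO_apply, Matrix.mulVec_sub, tt Q t ht]
  have h1 := vadd_self (x - Matrix.mulVec ((t : Matrix.GeneralLinearGroup ι F) : Matrix ι ι F) x)
  rw [← h1]
  abel

theorem Q_NO [CharP F 2] (t : ↥(Cfsg.isometryGroup F ⇑Q)) (v : ι → F) :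
    Q (NO Q t v) = polarBilin Q v (NO Q t v) := by
  rw [NO_apply, Q_sub, iso_apply (Q := ⇑Q), map_sub, polarBilin_apply_apply,
    polarBilin_apply_apply, polar_self, polar_comm]
  have h1 : Q v + Q v = 0 := CharTwo.add_self_eq_zero _
  have h2 := CharTwo.add_self_eq_zero
    (polar (⇑Q) v (Matrix.mulVec ((t : Matrix.GeneralLinearGroup ι F) : Matrix ι ι F) v))
  simp only [nsmul_eq_mul, Nat.cast_ofNat]
  linear_combination 2 * h1 - h2

theorem alt [CharP F 2] : (polarBilin Q).IsAlt := by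
  intro v
  rw [polarBilin_apply_apply, polar_self]
  have h1 : Q v + Q v = 0 := CharTwo.add_self_eq_zero _
  simp only [nsmul_eq_mul, Nat.cast_ofNat]
  linear_combination h1

theorem sq_of_order (a : ↥(Cfsg.isometryGroup F ⇑Q)) (ha : orderOf a = 2) : a * a = 1 := by
  rw [← pow_two, ← ha]; exact pow_orderOf_eq_one a

theorem conj_of_intertwine (t s : ↥(Cfsg.isometryGroup F ⇑Q)) (e : (ι → F) ≃ₗ[F] (ι → F))
    (he : ∀ v, Q (e v) = Q v) (heN : ∀ x, e (NO Q t x) = NO Q s (e x)) :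
    ofEquiv Q e he * t * (ofEquiv Q e he)⁻¹ = s := by
  rw [mul_inv_eq_iff_eq_mul]
  apply iso_ext
  apply Matrix.mulVec_injective
  funext x
  simp only [Subgroup.coe_mul, Units.val_mul]
  rw [← Matrix.mulVec_mulVec, ← Matrix.mulVec_mulVec, ofEquiv_mulVec, ofEquiv_mulVec]
  have h1 := heN x
  rw [NO_apply, NO_apply, map_sub] at h1
  exact sub_left_injective h1

/-- Two involutions of `O(Q)` with the same rank and the same type are conjugate in `O(Q)`. -/
theorem conjO [Finite F] [CharP F 2] (hQ : (polarBilin Q).Nondegenerate)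
    (t s : ↥(Cfsg.isometryGroup F ⇑Q)) (ht : t * t = 1) (hs : s * s = 1)
    (hrank : Module.finrank F (LinearMap.range (NO Q t))
      = Module.finrank F (LinearMap.range (NO Q s)))
    (htype : (∀ v, polarBilin Q v (NO Q t v) = 0) ↔ (∀ v, polarBilin Q v (NO Q s v) = 0)) :
    ∃ g : ↥(Cfsg.isometryGroup F ⇑Q), g * t * g⁻¹ = s := by
  classical
  by_cases hA : ∀ v, polarBilin Q v (NO Q t v) = 0
  · obtain ⟨k, u, h⟩ := exists_dat_A (polarBilin Q) hQ (NO Q t) (NO_sa Q t ht) hA
    obtain ⟨k', u', h'⟩ := exists_dat_A (polarBilin Q) hQ (NO Q s) (NO_sa Q s hs) (htype.mp hA)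
    have e1 := h.finrank_range (fun i => Sum.swap_swap i)
    have e2 := h'.finrank_range (fun i => Sum.swap_swap i)
    have hk : k = k' := by
      simp only [Fintype.card_sum, Fintype.card_fin] at e1 e2
      omega
    subst hk
    obtain ⟨g, hg1, hg2⟩ := conj_o Q hQ (NO Q t) (NO Q s) (NO_sa Q t ht) (NO_sa Q s hs)
      (NO_sq Q t ht) (NO_sq Q s hs) Sum.swap (fun i => Sum.swap_swap i) u u' h h'
      (fun i => by rw [Q_NO, Q_NO, h.gram, h'.gram])
    exact ⟨_, conj_of_intertwine Q t s g hg1 hg2⟩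
  · have hB : ¬ ∀ v, polarBilin Q v (NO Q s v) = 0 := fun hh => hA (htype.mpr hh)
    push Not at hA hB
    obtain ⟨k, u, h⟩ := exists_dat_O (polarBilin Q) hQ (alt Q) (NO Q t) (NO_sa Q t ht) hA
    obtain ⟨k', u', h'⟩ := exists_dat_O (polarBilin Q) hQ (alt Q) (NO Q s) (NO_sa Q s hs) hB
    have e1 := h.finrank_range (fun i => rfl)
    have e2 := h'.finrank_range (fun i => rfl)
    have hk : k = k' := by
      simp only [Fintype.card_fin] at e1 e2
      omega
    subst hk
    obtain ⟨g, hg1, hg2⟩ := conj_o Q hQ (NO Q t) (NO Q s) (NO_sa Q t ht) (NO_sa Q s hs)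
      (NO_sq Q t ht) (NO_sq Q s hs) id (fun i => rfl) u u' h h'
      (fun i => by rw [Q_NO, Q_NO, h.gram, h'.gram])
    exact ⟨_, conj_of_intertwine Q t s g hg1 hg2⟩

/-- Invariants are preserved by conjugation under the symplectic group of the polar form. -/
theorem invariants_of_sp_conj (t s : ↥(Cfsg.isometryGroup F ⇑Q)) (g : Matrix.GeneralLinearGroup ι F)
    (hg : ∀ u v, polar Q (Matrix.mulVec (g : Matrix ι ι F) u) (Matrix.mulVec (g : Matrix ι ι F) v)
      = polar Q u v)
    (h : g * (t : Matrix.GeneralLinearGroup ι F) * g⁻¹ = (s : Matrix.GeneralLinearGroup ι F)) :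
    Module.finrank F (LinearMap.range (NO Q t)) = Module.finrank F (LinearMap.range (NO Q s)) ∧
    ((∀ v, polarBilin Q v (NO Q t v) = 0) ↔ (∀ v, polarBilin Q v (NO Q s v) = 0)) := by
  have hgm : (g : Matrix ι ι F) * ((g⁻¹ : Matrix.GeneralLinearGroup ι F) : Matrix ι ι F) = 1 := by
    rw [← Units.val_mul, mul_inv_cancel]; rfl
  have hgm' : ((g⁻¹ : Matrix.GeneralLinearGroup ι F) : Matrix ι ι F) * (g : Matrix ι ι F) = 1 := by
    rw [← Units.val_mul, inv_mul_cancel]; rfl
  have hsm : ((s : Matrix.GeneralLinearGroup ι F) : Matrix ι ι F)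
      = (g : Matrix ι ι F) * ((t : Matrix.GeneralLinearGroup ι F) : Matrix ι ι F)
        * ((g⁻¹ : Matrix.GeneralLinearGroup ι F) : Matrix ι ι F) := by
    rw [← h]; rfl
  have hint : ∀ x, Matrix.mulVec (g : Matrix ι ι F) (NO Q t x)
      = NO Q s (Matrix.mulVec (g : Matrix ι ι F) x) := by
    intro x
    rw [NO_apply, NO_apply, hsm, Matrix.mulVec_sub, Matrix.mulVec_mulVec, Matrix.mulVec_mulVec,
      mul_assoc, mul_assoc, hgm', mul_one]
  constructor
  · rw [← rank_eq, ← rank_eq]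
    have h1 : ((s : Matrix.GeneralLinearGroup ι F) : Matrix ι ι F) - 1
        = (g : Matrix ι ι F) * (((t : Matrix.GeneralLinearGroup ι F) : Matrix ι ι F) - 1)
          * ((g⁻¹ : Matrix.GeneralLinearGroup ι F) : Matrix ι ι F) := by
      rw [hsm, mul_sub, sub_mul, mul_one, hgm]
    have hu1 : IsUnit (g : Matrix ι ι F).det := by
      apply IsUnit.of_mul_eq_one ((g⁻¹ : Matrix.GeneralLinearGroup ι F) : Matrix ι ι F).det
      rw [← Matrix.det_mul, hgm, Matrix.det_one]
    have hu2 : IsUnit ((g⁻¹ : Matrix.GeneralLinearGroup ι F) : Matrix ι ι F).det := by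
      apply IsUnit.of_mul_eq_one (g : Matrix ι ι F).det
      rw [← Matrix.det_mul, hgm', Matrix.det_one]
    rw [h1, Matrix.rank_mul_eq_left_of_isUnit_det _ _ hu2,
      Matrix.rank_mul_eq_right_of_isUnit_det _ _ hu1]
  · constructor
    · intro hA w
      have h1 := hA (Matrix.mulVec ((g⁻¹ : Matrix.GeneralLinearGroup ι F) : Matrix ι ι F) w)
      rw [polarBilin_apply_apply, ← hg, hint, Matrix.mulVec_mulVec, hgm, Matrix.one_mulVec] at h1
      exact h1
    · intro hB v
      have h1 := hB (Matrix.mulVec (g : Matrix ι ι F) v)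
      rw [polarBilin_apply_apply, ← hint, hg] at h1
      exact h1

/-- `O`-conjugacy is the same as conjugacy under the symplectic group of the polar form. -/
theorem isConj_iff_sp [Finite F] [CharP F 2] (hQ : (polarBilin Q).Nondegenerate)
    (t s : ↥(Cfsg.isometryGroup F ⇑Q)) (ht : orderOf t = 2) (hs : orderOf s = 2) :
    IsConj t s ↔ ∃ g ∈ Cfsg.preserving (Units.coeHom (Matrix ι ι F))
      (fun u v => Q (u + v) - Q u - Q v),
      g * (t : Matrix.GeneralLinearGroup ι F) * g⁻¹ = (s : Matrix.GeneralLinearGroup ι F) := by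
  constructor
  · intro h
    obtain ⟨c, hc⟩ := isConj_iff.mp h
    refine ⟨c.1, ?_, ?_⟩
    · intro u v
      exact polar_iso Q c u v
    · rw [← hc]; rfl
  · rintro ⟨g, hg, h⟩
    obtain ⟨h1, h2⟩ := invariants_of_sp_conj Q t s g (fun u v => hg u v) h
    obtain ⟨c, hc⟩ := conjO Q hQ t s (sq_of_order Q t ht) (sq_of_order Q s hs) h1 h2
    exact isConj_iff.mpr ⟨c, hc⟩

end Cfsg.Agent.Lib.Helper42OInv
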