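import Mathlib
import Cfsg.Agent.Lib.Helper42OInv
import Cfsg.Agent.Lib.Helper49Fam2
import Cfsg.Agent.S0760

set_option autoImplicit false

/-! Involution classes of `O` versus `Ω` in characteristic two (helper42). -/

namespace Cfsg.Agent.Lib.Helper42OInv2

open Cfsg.Agent.Lib.Helper42Inv Cfsg.Agent.Lib.Helper42OInv Cfsg.Agent.Lib.Helper49Orth
  Cfsg.Agent.Lib.Helper49Witt Cfsg.Agent.Lib.Helper49Forms Cfsg.Agent.Lib.Helper18Hyp
  Cfsg.Agent.Lib.Helper49Fam
open QuadraticMap

section general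

variable {F : Type*} [Field F] {ι : Type} [Fintype ι] [DecidableEq ι]
variable (Q : QuadraticForm F (ι → F))

theorem reflO_not_mem [Fintype F] [CharP F 2] (hQ : (polarBilin Q).Nondegenerate)
    (hq : Fintype.card F ≠ 2 ∨ Fintype.card ι ≠ 4) {v : ι → F} (hv : Q v ≠ 0) :
    reflO Q hv ∉ Cfsg.Omega F ⇑Q := by
  intro hmem
  have h := (Cfsg.Agent.Lib.Helper49Dickson.char_two_criterion Q hQ hq [v] (by simpa using hv)).mp
    (by simpa [reflO'_eq Q hv] using hmem)
  simp at h

theorem conj_in_Omega [Fintype F] [CharP F 2] (hQ : (polarBilin Q).Nondegenerate)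
    (hq : Fintype.card F ≠ 2 ∨ Fintype.card ι ≠ 4) (hcard : 1 ≤ Fintype.card ι)
    (t s g : ↥(Cfsg.isometryGroup F ⇑Q)) (hg : g * t * g⁻¹ = s) (v : ι → F) (hv : Q v ≠ 0)
    (htv : Matrix.mulVec ((t : Matrix.GeneralLinearGroup ι F) : Matrix ι ι F) v = v) :
    ∃ g' ∈ Cfsg.Omega F ⇑Q, g' * t * g'⁻¹ = s := by
  by_cases hgO : g ∈ Cfsg.Omega F ⇑Q
  · exact ⟨g, hgO, hg⟩
  have hidx := Cfsg.Agent.Lib.Helper49All.index_Omega_two Q hQ hq hcard
  have hcomm : t * reflO Q hv = reflO Q hv * t := by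
    apply iso_ext
    have := conj_refl Q t v
    rw [htv] at this
    exact this
  refine ⟨g * reflO Q hv, ?_, ?_⟩
  · rw [Subgroup.mul_mem_iff_of_index_two hidx]
    exact ⟨fun h => absurd h hgO, fun h => absurd h (reflO_not_mem Q hQ hq hv)⟩
  · rw [mul_inv_rev, reflO_inv, ← hg]
    have h1 : reflO Q hv * t * reflO Q hv = t := by
      rw [← hcomm, mul_assoc, reflO_mul_self, mul_one]
    calc g * reflO Q hv * t * (reflO Q hv * g⁻¹)
        = g * (reflO Q hv * t * reflO Q hv) * g⁻¹ := by group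
      _ = g * t * g⁻¹ := by rw [h1]

/-- If `t` fixes no non-singular vector, its fixed space is totally singular of half dimension. -/
theorem exceptional [CharP F 2] (hQ : (polarBilin Q).Nondegenerate) {m : ℕ}
    (hdim : Module.finrank F (ι → F) = 2 * m) (t : ↥(Cfsg.isometryGroup F ⇑Q)) (ht : t * t = 1)
    (h : ∀ v, Matrix.mulVec ((t : Matrix.GeneralLinearGroup ι F) : Matrix ι ι F) v = v → Q v = 0) :
    TS Q (LinearMap.ker (NO Q t)) ∧ Module.finrank F (LinearMap.ker (NO Q t)) = m ∧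
    Module.finrank F (LinearMap.range (NO Q t)) = m ∧ ∀ v, Q (NO Q t v) = 0 := by
  have hTS : TS Q (LinearMap.ker (NO Q t)) := by
    intro v hv
    apply h
    have : NO Q t v = 0 := hv
    rw [NO_apply] at this
    exact sub_eq_zero.mp this
  have h1 := LinearMap.finrank_range_add_finrank_ker (NO Q t)
  have h2 : LinearMap.range (NO Q t) ≤ LinearMap.ker (NO Q t) := by
    rintro _ ⟨x, rfl⟩
    exact NO_sq Q t ht x
  have h3 := Submodule.finrank_mono h2
  have h4 := TS.finrank_le hQ hdim hTS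
  refine ⟨hTS, by omega, by omega, fun v => hTS _ (h2 ⟨v, rfl⟩)⟩

theorem range_conj (t s g : ↥(Cfsg.isometryGroup F ⇑Q)) (hg : g * t * g⁻¹ = s) :
    LinearMap.range (NO Q s) = img Q g (LinearMap.range (NO Q t)) := by
  have hgt : g * t = s * g := by rw [← hg]; group
  have hint : ∀ x, Matrix.mulVec ((g : Matrix.GeneralLinearGroup ι F) : Matrix ι ι F) (NO Q t x)
      = NO Q s (Matrix.mulVec ((g : Matrix.GeneralLinearGroup ι F) : Matrix ι ι F) x) := by
    intro x
    have h1 := congrArg (fun y : ↥(Cfsg.isometryGroup F ⇑Q) =>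
      Matrix.mulVec ((y : Matrix.GeneralLinearGroup ι F) : Matrix ι ι F) x) hgt
    simp only [Subgroup.coe_mul, Units.val_mul, ← Matrix.mulVec_mulVec] at h1
    rw [NO_apply, NO_apply, Matrix.mulVec_sub, h1]
  ext y
  rw [mem_img]
  constructor
  · rintro ⟨x, rfl⟩
    refine ⟨NO Q t (Matrix.mulVec (((g⁻¹ : ↥(Cfsg.isometryGroup F ⇑Q)) :
      Matrix.GeneralLinearGroup ι F) : Matrix ι ι F) x), ⟨_, rfl⟩, ?_⟩
    rw [hint, Matrix.mulVec_mulVec]
    have : ((g : Matrix.GeneralLinearGroup ι F) : Matrix ι ι F)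
        * (((g⁻¹ : ↥(Cfsg.isometryGroup F ⇑Q)) : Matrix.GeneralLinearGroup ι F) : Matrix ι ι F)
        = 1 := by
      have := congrArg (fun y : ↥(Cfsg.isometryGroup F ⇑Q) =>
        ((y : Matrix.GeneralLinearGroup ι F) : Matrix ι ι F)) (mul_inv_cancel g)
      simpa using this
    rw [this, Matrix.one_mulVec]
  · rintro ⟨_, ⟨x, rfl⟩, rfl⟩
    exact ⟨_, (hint x).symm⟩

end general

section minus

variable {F : Type*} [Field F]

/-- The standard totally singular subspace of the elliptic form. -/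
def emap (k : ℕ) (F : Type*) [Field F] : (Fin k → F) →ₗ[F] ((Fin k ⊕ Fin k) ⊕ Fin 2 → F) where
  toFun t := Sum.elim (Sum.elim t (fun _ => 0)) (fun _ => 0)
  map_add' x y := by
    funext i
    rcases i with (i | i) | i <;> simp
  map_smul' c x := by
    funext i
    rcases i with (i | i) | i <;> simp

theorem finrank_minus (k : ℕ) :
    Module.finrank F ((Fin k ⊕ Fin k) ⊕ Fin 2 → F) = 2 * (k + 1) := by
  simp; ring

theorem TS_minus_le [Finite F] (k : ℕ) {a b : F}
    (hab : ∀ z₁ z₂ : F, z₁ ^ 2 + a * z₁ * z₂ + b * z₂ ^ 2 = 0 → z₁ = 0 ∧ z₂ = 0)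
    (W : Submodule F ((Fin k ⊕ Fin k) ⊕ Fin 2 → F)) (hW : TS (QMinus k F a b) W) :
    Module.finrank F W ≤ k := by
  classical
  have hQ := Cfsg.Agent.Lib.Helper49Rank.QMinus_nondegenerate k hab
  by_contra hcon
  have h1 := TS.finrank_le hQ (finrank_minus k) hW
  have hWk : Module.finrank F W = k + 1 := by omega
  have hinj : Function.Injective (emap k F) := by
    intro x y hxy
    funext i
    exact congrFun hxy (Sum.inl (Sum.inl i))
  have hE : TS (QMinus k F a b) (LinearMap.range (emap k F)) := by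
    rintro _ ⟨t, rfl⟩
    rw [coe_QMinus]
    simp [Cfsg.quadFormMinus, emap]
  have hEk : Module.finrank F (LinearMap.range (emap k F)) = k := by
    rw [LinearMap.finrank_range_of_inj hinj]; simp
  have hmaxW : ∀ W' : Submodule F ((Fin k ⊕ Fin k) ⊕ Fin 2 → F), W ≤ W' →
      (∀ w ∈ W', QMinus k F a b w = 0) → W' = W := by
    intro W' hle hW'
    have h2 := TS.finrank_le hQ (finrank_minus k) (W := W') hW'
    exact (Submodule.eq_of_le_of_finrank_le hle (by omega)).symm
  have hmaxE : ∀ W' : Submodule F ((Fin k ⊕ Fin k) ⊕ Fin 2 → F), LinearMap.range (emap k F) ≤ W' →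
      (∀ w ∈ W', QMinus k F a b w = 0) → W' = LinearMap.range (emap k F) := by
    intro W' hle hW'
    apply le_antisymm _ hle
    intro w hw
    have hz : ∀ i, w (Sum.inl (Sum.inr i)) = 0 := by
      intro i
      rw [← Cfsg.Agent.Lib.Helper49Disc.HypPair.polar_left (hypPair_QMinus k a b i) w]
      apply TS.polar_eq_zero (Q := QMinus k F a b) (W := W') hW' _ hw
      apply hle
      refine ⟨Pi.single i 1, ?_⟩
      funext j
      rcases j with (j | j) | j <;> simp [emap, Pi.single_apply]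
    have hq := hW' w hw
    rw [coe_QMinus] at hq
    simp only [Cfsg.quadFormMinus, hz, mul_zero, Finset.sum_const_zero, zero_add] at hq
    obtain ⟨h0, h1⟩ := hab _ _ hq
    refine ⟨fun i => w (Sum.inl (Sum.inl i)), ?_⟩
    funext j
    rcases j with (j | j) | j
    · rfl
    · exact (hz j).symm
    · fin_cases j
      · exact h0.symm
      · exact h1.symm
  have := (Cfsg.Agent.S0760.result (QMinus k F a b) hQ W _ hW hE hmaxW hmaxE).1
  omega

end minus

end Cfsg.Agent.Lib.Helper42OInv2
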