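import Mathlib
import Cfsg.Agent.Lib.Helper42Inv
import Cfsg.Agent.Lib.Helper17Symp

set_option autoImplicit false

/-! Involutions of `Sp_{2m}(F)`, `F` finite of characteristic two: concrete set-up (helper42). -/

namespace Cfsg.Agent.Lib.Helper42SpInv

open Cfsg.Agent.Lib.Helper17Symp Cfsg.Agent.Lib.Helper42Inv

variable {F : Type*} [Field F] {m : ℕ}

/-- `a - 1` as a linear map. -/
noncomputable def NN (a : Matrix.symplecticGroup (Fin m) F) :
    (Fin m ⊕ Fin m → F) →ₗ[F] (Fin m ⊕ Fin m → F) :=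
  Matrix.toLin' ((a : Matrix (Fin m ⊕ Fin m) (Fin m ⊕ Fin m) F) - 1)

theorem NN_apply (a : Matrix.symplecticGroup (Fin m) F) (v : Fin m ⊕ Fin m → F) :
    NN a v = Matrix.mulVec (a : Matrix (Fin m ⊕ Fin m) (Fin m ⊕ Fin m) F) v - v := by
  simp [NN, Matrix.toLin'_apply, Matrix.sub_mulVec]

theorem sB_alt : (sB (F := F) m).IsAlt := fun v => by rw [sB_apply]; exact sympForm_self m v

theorem sB_nondeg : (sB (F := F) m).Nondegenerate := by
  constructor
  · intro u h
    exact sympForm_nondeg m u (fun v => by rw [← sB_apply]; exact h v)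
  · intro u h
    apply sympForm_nondeg m u
    intro v
    rw [← sB_apply]
    exact (sB_alt (F := F) (m := m)).isRefl _ _ (h v)

theorem mulVec_mulVec_self (a : Matrix.symplecticGroup (Fin m) F) (ha : a * a = 1)
    (v : Fin m ⊕ Fin m → F) :
    Matrix.mulVec (a : Matrix (Fin m ⊕ Fin m) (Fin m ⊕ Fin m) F)
      (Matrix.mulVec (a : Matrix (Fin m ⊕ Fin m) (Fin m ⊕ Fin m) F) v) = v := by
  have h : (a : Matrix (Fin m ⊕ Fin m) (Fin m ⊕ Fin m) F) * a = 1 := congrArg Subtype.val ha
  rw [Matrix.mulVec_mulVec, h, Matrix.one_mulVec]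

theorem NN_sa (a : Matrix.symplecticGroup (Fin m) F) (ha : a * a = 1)
    (x y : Fin m ⊕ Fin m → F) : sB m (NN a x) y = sB m x (NN a y) := by
  have h := (mem_symplecticGroup_iff_preserves m a.1).mp a.2 x (Matrix.mulVec a.1 y)
  rw [mulVec_mulVec_self a ha] at h
  rw [NN_apply, NN_apply, map_sub, LinearMap.sub_apply, map_sub, sB_apply, sB_apply, sB_apply, h]

theorem NN_sq [CharP F 2] (a : Matrix.symplecticGroup (Fin m) F) (ha : a * a = 1)
    (x : Fin m ⊕ Fin m → F) : NN a (NN a x) = 0 := by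
  rw [NN_apply, NN_apply, Matrix.mulVec_sub, mulVec_mulVec_self a ha]
  have : ∀ w : Fin m ⊕ Fin m → F, w + w = 0 := fun w => by
    funext i
    exact CharTwo.add_self_eq_zero _
  have h1 := this (x - Matrix.mulVec a.1 x)
  rw [← h1]
  abel

theorem gamma_eq (a : Matrix.symplecticGroup (Fin m) F) (v : Fin m ⊕ Fin m → F) :
    sB m v (NN a v) = Cfsg.sympForm m F v (Matrix.mulVec a.1 v) := by
  rw [NN_apply, map_sub, sB_apply, sB_apply, sympForm_self, sub_zero]

theorem rank_eq (a : Matrix.symplecticGroup (Fin m) F) :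
    ((a : Matrix (Fin m ⊕ Fin m) (Fin m ⊕ Fin m) F) - 1).rank
      = Module.finrank F (LinearMap.range (NN a)) := rfl

theorem sq_of_order (a : Matrix.symplecticGroup (Fin m) F) (ha : orderOf a = 2) : a * a = 1 := by
  rw [← pow_two, ← ha]; exact pow_orderOf_eq_one a

theorem conj_of_intertwine (a b : Matrix.symplecticGroup (Fin m) F)
    (g : (Fin m ⊕ Fin m → F) ≃ₗ[F] (Fin m ⊕ Fin m → F))
    (hg : ∀ x y, sB m (g x) (g y) = sB m x y) (hgN : ∀ x, g (NN a x) = NN b (g x)) :
    IsConj a b := by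
  have hG : ∀ x, Matrix.mulVec (LinearMap.toMatrix' g.toLinearMap) x = g x := by
    intro x
    rw [← Matrix.toLin'_apply, Matrix.toLin'_toMatrix']
    rfl
  have hmem : LinearMap.toMatrix' g.toLinearMap ∈ Matrix.symplecticGroup (Fin m) F := by
    rw [mem_symplecticGroup_iff_preserves]
    intro u v
    rw [hG, hG, ← sB_apply, ← sB_apply, hg]
  rw [isConj_iff]
  refine ⟨⟨_, hmem⟩, ?_⟩
  rw [mul_inv_eq_iff_eq_mul]
  apply Subtype.ext
  change LinearMap.toMatrix' g.toLinearMap * a.1 = b.1 * LinearMap.toMatrix' g.toLinearMap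
  apply Matrix.toLin'.injective
  apply LinearMap.ext
  intro x
  rw [Matrix.toLin'_apply, Matrix.toLin'_apply, ← Matrix.mulVec_mulVec, ← Matrix.mulVec_mulVec,
    hG, hG]
  have h1 := hgN x
  rw [NN_apply, NN_apply, map_sub] at h1
  exact sub_left_injective h1

/-- Main conjugacy criterion. -/
theorem conj_iff_aux [Finite F] [CharP F 2] (a b : Matrix.symplecticGroup (Fin m) F)
    (ha : a * a = 1) (hb : b * b = 1)
    (hrank : Module.finrank F (LinearMap.range (NN a)) = Module.finrank F (LinearMap.range (NN b)))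
    (htype : (∀ v, sB m v (NN a v) = 0) ↔ (∀ v, sB m v (NN b v) = 0)) : IsConj a b := by
  classical
  by_cases hA : ∀ v, sB m v (NN a v) = 0
  · obtain ⟨k, u, h⟩ := exists_dat_A (sB m) sB_nondeg (NN a) (NN_sa a ha) hA
    obtain ⟨k', u', h'⟩ := exists_dat_A (sB m) sB_nondeg (NN b) (NN_sa b hb) (htype.mp hA)
    have e1 := h.finrank_range (fun i => Sum.swap_swap i)
    have e2 := h'.finrank_range (fun i => Sum.swap_swap i)
    have hk : k = k' := by
      simp only [Fintype.card_sum, Fintype.card_fin] at e1 e2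
      omega
    subst hk
    obtain ⟨g, hg1, hg2⟩ := conj_sp (sB m) sB_nondeg sB_alt (NN a) (NN b) (NN_sa a ha) (NN_sa b hb)
      (NN_sq a ha) (NN_sq b hb) Sum.swap (fun i => Sum.swap_swap i) u u' h h'
    exact conj_of_intertwine a b g hg1 hg2
  · have hB : ¬ ∀ v, sB m v (NN b v) = 0 := fun hh => hA (htype.mpr hh)
    push Not at hA hB
    obtain ⟨k, u, h⟩ := exists_dat_O (sB m) sB_nondeg sB_alt (NN a) (NN_sa a ha) hA
    obtain ⟨k', u', h'⟩ := exists_dat_O (sB m) sB_nondeg sB_alt (NN b) (NN_sa b hb) hB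
    have e1 := h.finrank_range (fun i => rfl)
    have e2 := h'.finrank_range (fun i => rfl)
    have hk : k = k' := by
      simp only [Fintype.card_fin] at e1 e2
      omega
    subst hk
    obtain ⟨g, hg1, hg2⟩ := conj_sp (sB m) sB_nondeg sB_alt (NN a) (NN b) (NN_sa a ha) (NN_sa b hb)
      (NN_sq a ha) (NN_sq b hb) id (fun i => rfl) u u' h h'
    exact conj_of_intertwine a b g hg1 hg2

theorem even_rank_of_alt [CharP F 2] (a : Matrix.symplecticGroup (Fin m) F) (ha : a * a = 1)
    (hA : ∀ v, sB m v (NN a v) = 0) : Even (Module.finrank F (LinearMap.range (NN a))) := by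
  classical
  obtain ⟨k, u, h⟩ := exists_dat_A (sB m) sB_nondeg (NN a) (NN_sa a ha) hA
  rw [h.finrank_range (fun i => Sum.swap_swap i)]
  simp

end Cfsg.Agent.Lib.Helper42SpInv
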