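import Cfsg.Agent.Lib.Helper43GlDefs
import Cfsg.Agent.Lib.Helper43StHubF
import Cfsg.Agent.Lib.Helper10BPExt2
import Cfsg.Agent.Lib.Helper10BPExt3
import Cfsg.Agent.Lib.Helper10BPExt4
import Cfsg.Agent.Lib.Helper10BPA12
import Cfsg.Agent.Lib.Helper30BPXwd
import Cfsg.Agent.Lib.Helper30BPGtri
import Cfsg.Agent.Lib.Helper15BPXcs
import Cfsg.Agent.Lib.Helper15BPGgen
import Cfsg.Agent.Lib.Helper15BPPm
import Cfsg.Agent.Lib.Helper10BPEmb
import Cfsg.Agent.Lib.Helper10BPSw3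
import Cfsg.Agent.Lib.Helper15BPL2
import Cfsg.Agent.Lib.Helper10BPSlgen
import Cfsg.Agent.Lib.Helper10BPRelTcard
import Cfsg.Agent.Lib.Helper11BPRelTker
import Cfsg.Agent.Lib.Helper11BPRelTgsys

set_option autoImplicit false

/-! Hub of project 43, wave 3: `SL_n(F) = (A_n * SL_3(F)) / <<19 relators>>`. -/

namespace Cfsg.Agent.Lib.Helper43GlHubG

open Matrix Cfsg.Agent.Lib.Helper43BP Cfsg.Agent.Lib.Helper43St Cfsg.Agent.Lib.Helper43Gl

section G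

variable {m : ℕ} {F : Type*} [Field F] {P : Type*} [Group P] (G : GSys m F P)

theorem ext2 (i j : Fin (m + 4)) (hij : i ≠ j) : ∃ σ : An m, σ.1 0 = i ∧ σ.1 1 = j :=
  Cfsg.Agent.Lib.Helper10BPExt2.ext2 i j hij

/-- assembly -/
noncomputable def toStSys : StSys (m + 4) F P where
  x := G.x
  tri := fun τ hτ => Cfsg.Agent.Lib.Helper30BPGtri.g_tri G τ hτ ext2
    Cfsg.Agent.Lib.Helper10BPExt3.ext3 (Cfsg.Agent.Lib.Helper15BPXcs.x_cs G)
  dis := fun i j k l hij hkl hik hil hjk hjl s t =>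
    Cfsg.Agent.Lib.Helper30BPGtri.g_dis G i j k l hij hkl hik hil hjk hjl s t ext2
      Cfsg.Agent.Lib.Helper10BPExt4.ext4 (Cfsg.Agent.Lib.Helper15BPXcs.x_cs G)
  π := G.π
  hπ := fun i j t hij => Cfsg.Agent.Lib.Helper30BPXwd.g_pi G i j t hij ext2
  gen := Cfsg.Agent.Lib.Helper15BPGgen.g_gen G

theorem GSys_injective : Function.Injective G.π :=
  Cfsg.Agent.Lib.Helper43StHubF.injective (toStSys G) (by omega)

end G

open Cfsg.Agent.Lib.Helper10BPA12 Cfsg.Agent.Lib.Helper15BPL2 Cfsg.Agent.Lib.Helper10BPSw3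
  Cfsg.Agent.Lib.Helper15BPPm Cfsg.Agent.Lib.Helper10BPEmb Cfsg.Agent.Lib.Helper11BPRelTker
  Cfsg.Agent.Lib.Helper11BPRelTgsys Cfsg.Agent.Lib.Helper10BPRelTcard
  Cfsg.Agent.Lib.Helper10BPSlgen

/-- assembly -/
theorem sl_glue (m : ℕ) (F : Type*) [Field F] [Finite F] :
    ∃ (T : Finset (Monoid.Coprod (An m) (SpecialLinearGroup (Fin 3) F)))
      (f : Monoid.Coprod (An m) (SpecialLinearGroup (Fin 3) F) →*
        SpecialLinearGroup (Fin (m + 4)) F),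
      T.card ≤ 19 ∧ Function.Surjective f ∧ f.ker = Subgroup.normalClosure (↑T : Set _) := by
  obtain ⟨a1, a2, h10, h11, h20, h21, ha⟩ := exists_a12 m
  obtain ⟨ζ, hζ0, hζ⟩ := exists_zeta F
  obtain ⟨sw, hsw⟩ := exists_sw F
  obtain ⟨pm, hpm, hpc⟩ := exists_pm m F
  obtain ⟨E, hE⟩ := exists_emb m F
  have hker := relT_ker m F a1 a2 ζ sw hζ0 hsw ⟨h10, h11⟩ ⟨h20, h21⟩ pm hpm hpc E hE
  obtain ⟨G, hG⟩ := relT_gsys m F a1 a2 ζ sw hζ hsw ha pm hpm E hE hker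
  refine ⟨relT m F a1 a2 ζ sw, Monoid.Coprod.lift pm E, relT_card m F a1 a2 ζ sw, ?_, ?_⟩
  · rw [← MonoidHom.range_eq_top, eq_top_iff, ← sl_gen (by omega) F, Subgroup.closure_le]
    rintro _ ⟨i, j, t, hij, rfl⟩
    obtain ⟨σ, h0, h1⟩ := ext2 i j hij
    refine ⟨Monoid.Coprod.inl σ * Monoid.Coprod.inr (tv 0 1 t) * (Monoid.Coprod.inl σ)⁻¹, ?_⟩
    rw [map_mul, map_mul, map_inv, Monoid.Coprod.lift_apply_inl, Monoid.Coprod.lift_apply_inr,
      hE 0 1 t (by decide)]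
    have := hpm σ 0 1 t (ne01 m)
    rw [h0, h1] at this
    simpa using this
  · apply le_antisymm
    · intro z hz
      rw [MonoidHom.mem_ker] at hz
      have h1 : G.π (QuotientGroup.mk z) = 1 := by rw [hG, hz]
      have h2 := GSys_injective G (h1.trans (map_one G.π).symm)
      exact (QuotientGroup.eq_one_iff z).1 h2
    · exact Subgroup.normalClosure_le_normal (fun z hz => hker z hz)

end Cfsg.Agent.Lib.Helper43GlHubG
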