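import Mathlib
import Cfsg.Agent.Lib.Helper6SL

set_option autoImplicit false

namespace Cfsg.Agent.Lib.Helper43Transv

open Matrix

variable {F : Type*} [Field F] {ι : Type*} [Fintype ι] [DecidableEq ι]

/-- `H` contains the transvection `1 + a φ` (column `a`, row `φ`). -/
def InH (H : Subgroup (SpecialLinearGroup ι F)) (a φ : ι → F) : Prop :=
  ∃ h ∈ H, (h : Matrix ι ι F) = 1 + vecMulVec a φ

theorem coe_mul_inv (g : SpecialLinearGroup ι F) :
    (g : Matrix ι ι F) * ((g⁻¹ : SpecialLinearGroup ι F) : Matrix ι ι F) = 1 := by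
  rw [← Matrix.SpecialLinearGroup.coe_mul, mul_inv_cancel, Matrix.SpecialLinearGroup.coe_one]

theorem coe_inv_mul (g : SpecialLinearGroup ι F) :
    ((g⁻¹ : SpecialLinearGroup ι F) : Matrix ι ι F) * (g : Matrix ι ι F) = 1 := by
  rw [← Matrix.SpecialLinearGroup.coe_mul, inv_mul_cancel, Matrix.SpecialLinearGroup.coe_one]

variable {H : Subgroup (SpecialLinearGroup ι F)}

theorem InH.zero (φ : ι → F) : InH H 0 φ := ⟨1, H.one_mem, by simp⟩

theorem InH.conj {a φ : ι → F} (h : InH H a φ) {g : SpecialLinearGroup ι F} (hg : g ∈ H) :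
    InH H ((g : Matrix ι ι F) *ᵥ a) (φ ᵥ* ((g⁻¹ : SpecialLinearGroup ι F) : Matrix ι ι F)) := by
  obtain ⟨x, hx, hxe⟩ := h
  refine ⟨g * x * g⁻¹, H.mul_mem (H.mul_mem hg hx) (H.inv_mem hg), ?_⟩
  rw [Matrix.SpecialLinearGroup.coe_mul, Matrix.SpecialLinearGroup.coe_mul, hxe, mul_add, add_mul, mul_one,
    coe_mul_inv, mul_vecMulVec, vecMulVec_mul]

theorem InH.conj_inv {a φ : ι → F} (h : InH H a φ) {g : SpecialLinearGroup ι F} (hg : g ∈ H) :
    InH H (((g⁻¹ : SpecialLinearGroup ι F) : Matrix ι ι F) *ᵥ a) (φ ᵥ* (g : Matrix ι ι F)) := by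
  have := h.conj (H.inv_mem hg)
  rwa [inv_inv] at this

theorem InH.add {a a' φ : ι → F} (h : InH H a φ) (h' : InH H a' φ) (h0 : φ ⬝ᵥ a' = 0) :
    InH H (a + a') φ := by
  obtain ⟨x, hx, hxe⟩ := h
  obtain ⟨y, hy, hye⟩ := h'
  refine ⟨x * y, H.mul_mem hx hy, ?_⟩
  rw [Matrix.SpecialLinearGroup.coe_mul, hxe, hye, mul_add, add_mul, add_mul, mul_one, one_mul, mul_one,
    vecMulVec_mul_vecMulVec, h0, zero_smul, vecMulVec_zero, add_zero, add_vecMulVec, add_assoc]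

theorem InH.neg {a φ : ι → F} (h : InH H a φ) (h0 : φ ⬝ᵥ a = 0) : InH H (-a) φ := by
  obtain ⟨x, hx, hxe⟩ := h
  refine ⟨x⁻¹, H.inv_mem hx, ?_⟩
  have h1 : (x : Matrix ι ι F) * (1 + vecMulVec (-a) φ) = 1 := by
    rw [hxe, mul_add, mul_one, add_mul, one_mul, vecMulVec_mul_vecMulVec, dotProduct_neg, h0,
      neg_zero, zero_smul, vecMulVec_zero, add_zero, neg_vecMulVec]
    abel
  calc ((x⁻¹ : SpecialLinearGroup ι F) : Matrix ι ι F)
      = ((x⁻¹ : SpecialLinearGroup ι F) : Matrix ι ι F) * ((x : Matrix ι ι F) * (1 + vecMulVec (-a) φ)) := by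
        rw [h1, mul_one]
    _ = 1 + vecMulVec (-a) φ := by rw [← mul_assoc, coe_inv_mul, one_mul]

theorem InH.smul_comm {a φ : ι → F} (c : F) : InH H (c • a) φ ↔ InH H a (c • φ) := by
  unfold InH
  rw [smul_vecMulVec, vecMulVec_smul]

/-- commutator formula -/
theorem InH.comm {a₁ φ₁ a₂ φ₂ : ι → F} (h₁ : InH H a₁ φ₁) (h₂ : InH H a₂ φ₂)
    (h11 : φ₁ ⬝ᵥ a₁ = 0) (h22 : φ₂ ⬝ᵥ a₂ = 0) (h12 : φ₁ ⬝ᵥ a₂ = 0) :
    InH H ((-(φ₂ ⬝ᵥ a₁)) • a₂) φ₁ := by
  obtain ⟨x, hx, hxe⟩ := h₁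
  obtain ⟨y, hy, hye⟩ := h₂
  obtain ⟨x', hx', hxe'⟩ := InH.neg ⟨x, hx, hxe⟩ h11
  obtain ⟨y', hy', hye'⟩ := InH.neg ⟨y, hy, hye⟩ h22
  refine ⟨x * y * (x' * y'), H.mul_mem (H.mul_mem hx hy) (H.mul_mem hx' hy'), ?_⟩
  rw [Matrix.SpecialLinearGroup.coe_mul, Matrix.SpecialLinearGroup.coe_mul, Matrix.SpecialLinearGroup.coe_mul,
    hxe, hye, hxe', hye']
  simp only [neg_vecMulVec, mul_add, add_mul, mul_one, one_mul, mul_neg, neg_mul,
    vecMulVec_mul_vecMulVec, h11, h22, h12, zero_smul, vecMulVec_zero, neg_zero, add_zero]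
  rw [smul_vecMulVec, vecMulVec_smul, neg_smul]
  abel

/-- `H` contains all transvections with row vector `ψ`. -/
def FullF (H : Subgroup (SpecialLinearGroup ι F)) (ψ : ι → F) : Prop :=
  ∀ a, ψ ⬝ᵥ a = 0 → InH H a ψ

theorem FullF.conj {ψ : ι → F} (h : FullF H ψ) {g : SpecialLinearGroup ι F} (hg : g ∈ H) :
    FullF H (ψ ᵥ* (g : Matrix ι ι F)) := by
  intro a ha
  have h1 : ψ ⬝ᵥ ((g : Matrix ι ι F) *ᵥ a) = 0 := by rw [dotProduct_mulVec]; exact ha
  have h2 := (h _ h1).conj_inv hg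
  rwa [mulVec_mulVec, coe_inv_mul, one_mulVec] at h2

theorem FullF.of_smul {ψ : ι → F} {c : F} (hc : c ≠ 0) (h : FullF H (c • ψ)) : FullF H ψ := by
  intro a ha
  have h1 : (c • ψ) ⬝ᵥ (c⁻¹ • a) = 0 := by
    rw [smul_dotProduct, dotProduct_smul, ha]; simp
  have h2 := (InH.smul_comm c).2 (h _ h1)
  rwa [smul_smul, mul_inv_cancel₀ hc, one_smul] at h2

theorem FullF.of_basis {k : ι}
    (h : ∀ j, j ≠ k → ∀ x : F, InH H (Pi.single j x) (Pi.single k 1)) :
    FullF H (Pi.single k 1) := by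
  intro a ha
  have hak : a k = 0 := by simpa using ha
  have key : ∀ s : Finset ι, (Pi.single k (1 : F)) ⬝ᵥ (∑ j ∈ s, Pi.single j (a j)) = 0 ∧
      InH H (∑ j ∈ s, Pi.single j (a j)) (Pi.single k 1) := by
    intro s
    induction s using Finset.induction_on with
    | empty => exact ⟨by simp, by simpa using InH.zero _⟩
    | insert j s hj ih =>
      rw [Finset.sum_insert hj]
      have hz : (Pi.single k (1 : F)) ⬝ᵥ (Pi.single j (a j)) = 0 := by
        by_cases hjk : j = k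
        · subst hjk; simp [hak]
        · simp [Ne.symm hjk]
      refine ⟨by rw [dotProduct_add, hz, ih.1, add_zero], ?_⟩
      refine InH.add ?_ ih.2 ih.1
      by_cases hjk : j = k
      · subst hjk; rw [hak, Pi.single_zero]; exact InH.zero _
      · exact h j hjk _
  have := (key Finset.univ).2
  rwa [Finset.univ_sum_single] at this

theorem eq_top_of_fullF [Nontrivial ι] (h : ∀ k, FullF H (Pi.single k 1)) : H = ⊤ := by
  refine le_antisymm le_top (fun A _ ↦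
    Cfsg.Agent.Lib.Helper6SL.transvection_induction (fun A => A ∈ H) ?_ (fun _ _ ↦ H.mul_mem) A)
  intro i j hij c
  obtain ⟨x, hx, hxe⟩ := h j (Pi.single i c) (by simp [hij.symm])
  have : x = Matrix.SpecialLinearGroup.transvection hij c := by
    apply Subtype.ext
    rw [hxe, Matrix.SpecialLinearGroup.transvection_coe]
    congr 1
    ext r s
    simp only [vecMulVec_apply, Pi.single_apply, single_apply]
    by_cases h1 : i = r <;> by_cases h2 : j = s <;> simp [h1, h2, eq_comm (a := r), eq_comm (a := s)]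
  rw [← this]; exact hx

end Cfsg.Agent.Lib.Helper43Transv
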