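import Mathlib
import Cfsg.Agent.Lib.Helper43Transv

set_option autoImplicit false

namespace Cfsg.Agent.Lib.Helper43RegUnip

open Matrix Cfsg.Agent.Lib.Helper43Transv

variable {F : Type*} [Field F] {m : ℕ}

/-- standard basis vector -/
abbrev e (j : Fin (m + 3)) : Fin (m + 3) → F := Pi.single j 1

section abstract

variable {H : Subgroup (SpecialLinearGroup (Fin (m + 3)) F)}
  {u v : SpecialLinearGroup (Fin (m + 3)) F} (hu : u ∈ H) (hv : v ∈ H)
  {c : Fin (m + 2) → F} (hc : ∀ j, c j ≠ 0)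
  (u0 : u.1 *ᵥ e 0 = e 0)
  (u1 : u.1 *ᵥ e 1 = e 1 + e 0)
  (ul : e (Fin.last (m + 2)) ᵥ* u.1 = e (Fin.last (m + 2)))
  (vcol : ∀ j : Fin (m + 2), v.1 *ᵥ e j.castSucc = e j.castSucc + c j • e j.succ)
  (vrow : ∀ j : Fin (m + 2), e j.succ ᵥ* v.1 = e j.succ + c j • e j.castSucc)

include hc vcol in
theorem c0_ne_zero : (v⁻¹).1 (Fin.last (m + 2)) 0 ≠ 0 := by
  intro h0
  set ψ : Fin (m + 3) → F := e (Fin.last (m + 2)) ᵥ* (v⁻¹).1 with hψ
  have hψv : ψ ᵥ* v.1 = e (Fin.last (m + 2)) := by
    rw [hψ, vecMul_vecMul, coe_inv_mul, vecMul_one]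
  have hψ0 : ψ 0 = 0 := by
    rw [hψ]; simpa using h0
  have hrec : ∀ j : Fin (m + 2), ψ j.castSucc + c j * ψ j.succ = 0 := by
    intro j
    have h1 : ψ ⬝ᵥ (v.1 *ᵥ e j.castSucc) = 0 := by
      rw [dotProduct_mulVec, hψv]
      simp [(Fin.castSucc_lt_last j).ne]
    rw [vcol j] at h1
    simpa [dotProduct_add, dotProduct_smul] using h1
  have hall : ∀ i : Fin (m + 3), ψ i = 0 := by
    intro i
    induction i using Fin.induction with
    | zero => exact hψ0
    | succ j ih =>
      have := hrec j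
      rw [ih, zero_add] at this
      exact (mul_eq_zero.1 this).resolve_left (hc j)
  have hz : ψ = 0 := funext hall
  rw [hz, zero_vecMul] at hψv
  have := congrFun hψv (Fin.last (m + 2))
  simp at this

include ul in
theorem last_vecMul_u_inv : e (Fin.last (m + 2)) ᵥ* (u⁻¹).1 = e (Fin.last (m + 2)) := by
  conv_lhs => rw [← ul]
  rw [vecMul_vecMul, coe_mul_inv, vecMul_one]

theorem psi_dot (a : Fin (m + 3) → F) :
    (e (Fin.last (m + 2)) ᵥ* (v⁻¹).1) ⬝ᵥ (v.1 *ᵥ a) = a (Fin.last (m + 2)) := by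
  rw [dotProduct_mulVec, vecMul_vecMul, coe_inv_mul, vecMul_one]
  simp

theorem psi_dot_e0 (y : F) :
    (e (Fin.last (m + 2)) ᵥ* (v⁻¹).1) ⬝ᵥ (y • e 0) = y * (v⁻¹).1 (Fin.last (m + 2)) 0 := by
  simp [dotProduct_smul]

include hu hv u0 u1 ul vcol in
theorem step1_mul {x y : F} (hx : InH H (x • e 0) (e (Fin.last (m + 2))))
    (hy : InH H (y • e 0) (e (Fin.last (m + 2)))) :
    InH H (((v⁻¹).1 (Fin.last (m + 2)) 0 * c 0 * x * y) • e 0) (e (Fin.last (m + 2))) := by
  set φ : Fin (m + 3) → F := e (Fin.last (m + 2)) with hφ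
  set c0 := (v⁻¹).1 (Fin.last (m + 2)) 0 with hc0
  have h0l : (0 : Fin (m + 3)) ≠ Fin.last (m + 2) := by
    intro h; have := congrArg Fin.val h; simp at this
  have h1l : (1 : Fin (m + 3)) ≠ Fin.last (m + 2) := by
    intro h; have := congrArg Fin.val h; simp at this
  have hve0 : v.1 *ᵥ e 0 = e 0 + c 0 • e 1 := by
    have := vcol 0
    simpa using this
  have h2 := hx.conj hv
  have d1 : φ ⬝ᵥ (y • e 0) = 0 := by simp [hφ, h0l.symm]
  have d2 : (φ ᵥ* (v⁻¹).1) ⬝ᵥ (v.1 *ᵥ (x • e 0)) = 0 := by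
    rw [hφ, psi_dot]; simp [h0l]
  have d3 : φ ⬝ᵥ (v.1 *ᵥ (x • e 0)) = 0 := by
    rw [mulVec_smul, hve0]; simp [hφ, h0l.symm, h1l.symm]
  have r := InH.comm hy h2 d1 d2 d3
  rw [hφ, psi_dot_e0, ← hφ, ← hc0, mulVec_smul, hve0] at r
  have dr : φ ⬝ᵥ ((-(y * c0)) • x • (e 0 + c 0 • e 1)) = 0 := by
    simp [hφ, h0l.symm, h1l.symm]
  have r' := r.conj hu
  rw [hφ, last_vecMul_u_inv ul, ← hφ, mulVec_smul, mulVec_smul, mulVec_add, mulVec_smul, u0, u1] at r'
  have rn := r.neg dr
  have dn : φ ⬝ᵥ (-((-(y * c0)) • x • (e 0 + c 0 • e 1))) = 0 := by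
    rw [dotProduct_neg, dr, neg_zero]
  have s := r'.add rn dn
  have hs : (-(y * c0)) • x • (e 0 + c 0 • (e 1 + e 0)) + -((-(y * c0)) • x • (e 0 + c 0 • e 1))
      = (-(c0 * c 0 * x * y)) • (e 0 : Fin (m + 3) → F) := by
    ext i
    simp only [Pi.add_apply, Pi.smul_apply, Pi.neg_apply, smul_eq_mul]
    ring
  rw [hs] at s
  have ds : φ ⬝ᵥ ((-(c0 * c 0 * x * y)) • (e 0 : Fin (m + 3) → F)) = 0 := by simp [hφ, h0l.symm]
  have := s.neg ds
  rwa [← neg_smul, neg_neg] at this

include hu hv hc u0 u1 ul vcol in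
theorem step1 {γ : F} (hγ : ∀ x : F, x ≠ 0 → ∃ k : ℕ, x = γ ^ (k + 1))
    (ht : InH H ((((v⁻¹).1 (Fin.last (m + 2)) 0 * c 0)⁻¹ * γ) • e 0) (e (Fin.last (m + 2)))) (x : F) :
    InH H (x • e 0) (e (Fin.last (m + 2))) := by
  set κ := (v⁻¹).1 (Fin.last (m + 2)) 0 * c 0 with hκ
  have hκ0 : κ ≠ 0 := mul_ne_zero (c0_ne_zero hc vcol) (hc 0)
  have hpow : ∀ k : ℕ, InH H ((κ⁻¹ * γ ^ (k + 1)) • e 0) (e (Fin.last (m + 2))) := by
    intro k
    induction k with
    | zero => simpa using ht
    | succ k ih =>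
      have := step1_mul hu hv u0 u1 ul vcol ih ht
      rw [← hκ] at this
      have e1 : κ * (κ⁻¹ * γ ^ (k + 1)) * (κ⁻¹ * γ) = κ⁻¹ * γ ^ (k + 1 + 1) := by
        field_simp
        ring
      rwa [e1] at this
  by_cases hx : x = 0
  · subst hx; rw [zero_smul]; exact InH.zero _
  · obtain ⟨k, hk⟩ := hγ (κ * x) (mul_ne_zero hκ0 hx)
    have := hpow k
    rw [← hk, inv_mul_cancel_left₀ hκ0] at this
    exact this

include hv hc vcol in
theorem step2 (h1 : ∀ x : F, InH H (x • e 0) (e (Fin.last (m + 2)))) (j : Fin (m + 2)) :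
    ∀ x : F, InH H (x • e j.castSucc) (e (Fin.last (m + 2))) := by
  set φ : Fin (m + 3) → F := e (Fin.last (m + 2)) with hφ
  set c0 := (v⁻¹).1 (Fin.last (m + 2)) 0 with hc0
  have hc00 : c0 ≠ 0 := c0_ne_zero hc vcol
  have h0l : (0 : Fin (m + 3)) ≠ Fin.last (m + 2) := by
    intro h; have := congrArg Fin.val h; simp at this
  induction j using Fin.induction with
  | zero => simpa using h1
  | succ j ih =>
    intro x
    set jj : Fin (m + 2) := j.castSucc with hjj
    have hne1 : jj.castSucc ≠ Fin.last (m + 2) := (Fin.castSucc_lt_last jj).ne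
    have hsucc : jj.succ = j.succ.castSucc := Fin.succ_castSucc j
    have hne2 : jj.succ ≠ Fin.last (m + 2) := by
      rw [hsucc]; exact (Fin.castSucc_lt_last _).ne
    have hx := ih ((c jj)⁻¹ * x)
    have h2 := hx.conj hv
    have hy := h1 (-c0⁻¹)
    have d1 : φ ⬝ᵥ ((-c0⁻¹) • e 0) = 0 := by simp [hφ, h0l.symm]
    have d2 : (φ ᵥ* (v⁻¹).1) ⬝ᵥ (v.1 *ᵥ (((c jj)⁻¹ * x) • e jj.castSucc)) = 0 := by
      rw [hφ, psi_dot]; simp [hne1]
    have d3 : φ ⬝ᵥ (v.1 *ᵥ (((c jj)⁻¹ * x) • e jj.castSucc)) = 0 := by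
      rw [mulVec_smul, vcol jj]; simp [hφ, hne1.symm, hne2.symm]
    have r := InH.comm hy h2 d1 d2 d3
    rw [hφ, psi_dot_e0, ← hφ, ← hc0, mulVec_smul, vcol jj] at r
    have dx : φ ⬝ᵥ (((c jj)⁻¹ * x) • e jj.castSucc) = 0 := by simp [hφ, hne1.symm]
    have rn := hx.neg dx
    have dn : φ ⬝ᵥ (-(((c jj)⁻¹ * x) • e jj.castSucc)) = 0 := by rw [dotProduct_neg, dx, neg_zero]
    have s := r.add rn dn
    have hs : (-(-c0⁻¹ * c0)) • ((c jj)⁻¹ * x) • (e jj.castSucc + c jj • e jj.succ)
        + -(((c jj)⁻¹ * x) • e jj.castSucc) = x • (e jj.succ : Fin (m + 3) → F) := by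
      have h3 : -(-c0⁻¹ * c0) = 1 := by field_simp
      rw [h3, one_smul]
      ext i
      simp only [Pi.add_apply, Pi.smul_apply, Pi.neg_apply, smul_eq_mul]
      have := hc jj
      field_simp
      ring
    rw [hs, hsucc] at s
    exact s

include hv hc vcol in
theorem full_last (h1 : ∀ x : F, InH H (x • e 0) (e (Fin.last (m + 2)))) :
    FullF H (e (Fin.last (m + 2))) := by
  apply FullF.of_basis
  intro j hj x
  obtain ⟨j', rfl⟩ := Fin.exists_castSucc_eq.2 hj
  have := step2 hv hc vcol h1 j' x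
  have h2 : x • (e j'.castSucc : Fin (m + 3) → F) = Pi.single j'.castSucc x := by
    ext i; simp [Pi.single_apply]
  rwa [h2] at this

include hv hc vrow in
theorem step3 (hl : FullF H (e (Fin.last (m + 2)))) (k : Fin (m + 3)) : FullF H (e k) := by
  induction k using Fin.reverseInduction with
  | last => exact hl
  | cast j ih =>
    have hne : j.castSucc ≠ j.succ := (Fin.castSucc_lt_succ).ne
    have h1 := ih.conj hv
    rw [vrow j] at h1
    obtain ⟨τ, hτ, hτe⟩ := ih ((-(c j)⁻¹) • e j.castSucc) (by simp [hne.symm])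
    have h2 := h1.conj hτ
    rw [hτe, vecMul_add, vecMul_one, vecMul_vecMulVec] at h2
    have h3 : (e j.succ : Fin (m + 3) → F) + c j • e j.castSucc +
        (((e j.succ : Fin (m + 3) → F) + c j • e j.castSucc) ⬝ᵥ ((-(c j)⁻¹) • e j.castSucc)) • e j.succ
        = c j • (e j.castSucc : Fin (m + 3) → F) := by
      have h4 : ((e j.succ + c j • e j.castSucc : Fin (m + 3) → F) ⬝ᵥ ((-(c j)⁻¹) • e j.castSucc)) = -1 := by
        simp [add_dotProduct, hne.symm, hne, hc j]
      rw [h4]
      ext i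
      simp
    rw [h3] at h2
    exact h2.of_smul (hc j)

include hu hv hc u0 u1 ul vcol vrow in
/-- Generation criterion. -/
theorem eq_top_of_facts {γ : F} (hγ : ∀ x : F, x ≠ 0 → ∃ k : ℕ, x = γ ^ (k + 1))
    (ht : InH H ((((v⁻¹).1 (Fin.last (m + 2)) 0 * c 0)⁻¹ * γ) • e 0) (e (Fin.last (m + 2)))) :
    H = ⊤ :=
  eq_top_of_fullF (step3 hv hc vrow (full_last hv hc vcol (step1 hu hv hc u0 u1 ul vcol hγ ht)))

end abstract

section concrete

/-- upper bidiagonal unipotent matrix -/
def upMat (F : Type*) [Field F] (m : ℕ) : Matrix (Fin (m + 3)) (Fin (m + 3)) F :=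
  fun i j => if i = j then 1 else if i.val + 1 = j.val then 1 else 0

/-- lower bidiagonal unipotent matrix with subdiagonal entries `c` -/
def loMat (m : ℕ) (c : ℕ → F) : Matrix (Fin (m + 3)) (Fin (m + 3)) F :=
  fun i j => if i = j then 1 else if j.val + 1 = i.val then c j.val else 0

theorem det_upMat : (upMat F m).det = 1 := by
  rw [det_of_isUpperTriangular]
  · simp [upMat]
  · intro i j hij
    have h1 : i ≠ j := (ne_of_gt hij)
    have h2 : ¬ (i.val + 1 = j.val) := by
      have : j.val < i.val := hij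
      omega
    simp [upMat, h1, h2]

theorem det_loMat (c : ℕ → F) : (loMat m c).det = 1 := by
  rw [det_of_isLowerTriangular]
  · simp [loMat]
  · intro i j hij
    have hij' : i.val < j.val := hij
    have h1 : i ≠ j := fun h => by rw [h] at hij'; omega
    have h2 : ¬ (j.val + 1 = i.val) := by omega
    simp [loMat, h1, h2]

/-- the regular unipotent element `u` -/
def uSL (F : Type*) [Field F] (m : ℕ) : SpecialLinearGroup (Fin (m + 3)) F := ⟨upMat F m, det_upMat⟩

/-- the opposite regular unipotent element -/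
def vSL (m : ℕ) (c : ℕ → F) : SpecialLinearGroup (Fin (m + 3)) F := ⟨loMat m c, det_loMat c⟩

theorem up_col0 : upMat F m *ᵥ e 0 = e 0 := by
  ext i
  rw [mulVec_single_one]
  simp only [col_apply, upMat, Pi.single_apply]
  by_cases h : i = 0
  · simp [h]
  · simp [h]

theorem up_col_succ (j : Fin (m + 2)) : upMat F m *ᵥ e j.succ = e j.succ + e j.castSucc := by
  ext i
  rw [mulVec_single_one]
  simp only [col_apply, upMat, Pi.single_apply, Pi.add_apply, Fin.ext_iff, Fin.val_succ,
    Fin.val_castSucc]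
  split_ifs <;> first | omega | simp

theorem up_row_last : e (Fin.last (m + 2)) ᵥ* upMat F m = e (Fin.last (m + 2)) := by
  ext i
  rw [single_one_vecMul]
  simp only [row_apply, upMat, Pi.single_apply, Fin.ext_iff, Fin.val_last]
  split_ifs <;> first | omega | simp

theorem up_row_castSucc (j : Fin (m + 2)) :
    e j.castSucc ᵥ* upMat F m = e j.castSucc + e j.succ := by
  ext i
  rw [single_one_vecMul]
  simp only [row_apply, upMat, Pi.single_apply, Pi.add_apply, Fin.ext_iff, Fin.val_succ,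
    Fin.val_castSucc]
  split_ifs <;> first | omega | simp

theorem lo_col (c : ℕ → F) (j : Fin (m + 2)) :
    loMat m c *ᵥ e j.castSucc = e j.castSucc + c j.val • e j.succ := by
  ext i
  rw [mulVec_single_one]
  simp only [col_apply, loMat, Pi.single_apply, Pi.add_apply, Pi.smul_apply, Fin.ext_iff,
    Fin.val_succ, Fin.val_castSucc, smul_eq_mul]
  split_ifs <;> first | omega | simp

theorem lo_row (c : ℕ → F) (j : Fin (m + 2)) :
    e j.succ ᵥ* loMat m c = e j.succ + c j.val • e j.castSucc := by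
  ext i
  rw [single_one_vecMul]
  simp only [row_apply, loMat, Pi.single_apply, Pi.add_apply, Pi.smul_apply, Fin.ext_iff,
    Fin.val_succ, Fin.val_castSucc, smul_eq_mul]
  split_ifs with h1 h2 h3 h4 <;> first | omega | simp [*]

/-- sign of the reversal permutation, in `F` -/
def eps (F : Type*) [Field F] (m : ℕ) : F :=
  ((Equiv.Perm.sign (Fin.revPerm : Equiv.Perm (Fin (m + 3))) : ℤˣ) : ℤ)

theorem eps_mul_self : eps F m * eps F m = 1 := by
  unfold eps
  rw [← Int.cast_mul, ← Units.val_mul, Int.units_mul_self]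
  simp

theorem eps_ne_zero : eps F m ≠ 0 := by
  intro h
  have := eps_mul_self (F := F) (m := m)
  rw [h] at this
  simp at this

/-- diagonal entries for the signed reversal matrix -/
def dvec (F : Type*) [Field F] (m : ℕ) : Fin (m + 3) → F := fun j => if j = 0 then eps F m else 1

/-- signed reversal matrix -/
def hMat (F : Type*) [Field F] (m : ℕ) : Matrix (Fin (m + 3)) (Fin (m + 3)) F :=
  fun i j => if i = j.rev then dvec F m j else 0

theorem hMat_eq : hMat F m = (Fin.revPerm : Equiv.Perm (Fin (m + 3))).permMatrix F * diagonal (dvec F m) := by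
  ext i j
  rw [mul_diagonal]
  simp only [hMat, Equiv.Perm.permMatrix, PEquiv.toMatrix_apply, Equiv.toPEquiv_apply,
    Fin.revPerm_apply, Option.mem_def, Option.some.injEq]
  by_cases h : i = j.rev
  · have : i.rev = j := by rw [h, Fin.rev_rev]
    simp [h]
  · have : ¬ i.rev = j := fun h' => h (by rw [← h', Fin.rev_rev])
    simp [h, this]

theorem det_hMat : (hMat F m).det = 1 := by
  rw [hMat_eq, det_mul, det_permutation, det_diagonal]
  have : ∏ i, dvec F m i = eps F m := by
    unfold dvec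
    rw [Finset.prod_ite_eq']
    simp
  rw [this]
  exact eps_mul_self

/-- the conjugating element `h` -/
def hSL (F : Type*) [Field F] (m : ℕ) : SpecialLinearGroup (Fin (m + 3)) F := ⟨hMat F m, det_hMat⟩

/-- subdiagonal entries of `h u h⁻¹` -/
def cvec (F : Type*) [Field F] (m : ℕ) : ℕ → F := fun k => if k = m + 1 then eps F m else 1

theorem cvec_ne_zero (k : ℕ) : cvec F m k ≠ 0 := by
  unfold cvec
  split_ifs
  · exact eps_ne_zero
  · exact one_ne_zero

theorem lo_mul_h : loMat m (cvec F m) * hMat F m = hMat F m * upMat F m := by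
  ext i j
  rw [mul_apply, mul_apply]
  have h1 : ∑ k, loMat m (cvec F m) i k * hMat F m k j = loMat m (cvec F m) i j.rev * dvec F m j := by
    simp only [hMat, mul_ite, mul_zero]
    rw [Finset.sum_ite_eq']
    simp
  have h2 : ∑ k, hMat F m i k * upMat F m k j = dvec F m i.rev * upMat F m i.rev j := by
    have : ∀ k, hMat F m i k = if k = i.rev then dvec F m k else 0 := by
      intro k
      simp only [hMat]
      by_cases h : i = k.rev
      · have : k = i.rev := by rw [h, Fin.rev_rev]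
        simp [h]
      · have : ¬ k = i.rev := fun h' => h (by rw [h', Fin.rev_rev])
        simp [h, this]
    simp only [this, ite_mul, zero_mul]
    rw [Finset.sum_ite_eq']
    simp
  rw [h1, h2]
  simp only [loMat, upMat, dvec, cvec, Fin.ext_iff, Fin.val_rev, Fin.val_zero]
  have hi := i.2
  have hj := j.2
  split_ifs <;> first | omega | simp [eps_mul_self]

theorem h_conj : hSL F m * uSL F m * (hSL F m)⁻¹ = vSL m (cvec F m) := by
  rw [mul_inv_eq_iff_eq_mul]
  apply Subtype.ext
  rw [Matrix.SpecialLinearGroup.coe_mul, Matrix.SpecialLinearGroup.coe_mul]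
  exact lo_mul_h.symm

theorem single_eq (i j : Fin (m + 3)) (a : F) : single i j a = vecMulVec (a • e i) (e j) := by
  ext r s
  simp only [vecMulVec_apply, Pi.single_apply, single_apply, Pi.smul_apply, smul_eq_mul]
  by_cases h1 : i = r <;> by_cases h2 : j = s <;> simp [h1, h2, eq_comm (a := r), eq_comm (a := s)]

theorem zero_ne_last : (0 : Fin (m + 3)) ≠ Fin.last (m + 2) := by
  intro h; have := congrArg Fin.val h; simp at this

theorem zero_ne_pen : (0 : Fin (m + 3)) ≠ (Fin.last (m + 1)).castSucc := by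
  intro h; have := congrArg Fin.val h; simp at this

theorem g_conj (a : F) :
    Matrix.SpecialLinearGroup.transvection zero_ne_pen a * uSL F m *
      (Matrix.SpecialLinearGroup.transvection zero_ne_pen a)⁻¹ =
    uSL F m * Matrix.SpecialLinearGroup.transvection zero_ne_last a := by
  rw [mul_inv_eq_iff_eq_mul]
  apply Subtype.ext
  rw [Matrix.SpecialLinearGroup.coe_mul, Matrix.SpecialLinearGroup.coe_mul,
    Matrix.SpecialLinearGroup.coe_mul, Matrix.SpecialLinearGroup.transvection_coe,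
    Matrix.SpecialLinearGroup.transvection_coe, single_eq, single_eq]
  show (1 + vecMulVec (a • e 0) (e (Fin.last (m + 1)).castSucc)) * upMat F m =
    upMat F m * (1 + vecMulVec (a • e 0) (e (Fin.last (m + 2)))) *
      (1 + vecMulVec (a • e 0) (e (Fin.last (m + 1)).castSucc))
  have h0 : (e (Fin.last (m + 2)) : Fin (m + 3) → F) ⬝ᵥ (a • e 0) = 0 := by
    simp [zero_ne_last.symm]
  have hAU : vecMulVec (a • e 0) (e (Fin.last (m + 1)).castSucc) * upMat F m =
      vecMulVec (a • e 0) (e (Fin.last (m + 1)).castSucc) + vecMulVec (a • e 0) (e (Fin.last (m + 2))) := by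
    rw [vecMulVec_mul, up_row_castSucc, vecMulVec_add, Fin.succ_last]
  have hUB : ∀ φ : Fin (m + 3) → F, upMat F m * vecMulVec (a • e 0) φ = vecMulVec (a • e 0) φ := by
    intro φ
    rw [mul_vecMulVec, mulVec_smul, up_col0]
  have hBA : vecMulVec (a • e 0 : Fin (m + 3) → F) (e (Fin.last (m + 2)) : Fin (m + 3) → F) *
      vecMulVec (a • e 0 : Fin (m + 3) → F) (e (Fin.last (m + 1)).castSucc : Fin (m + 3) → F) = 0 := by
    rw [vecMulVec_mul_vecMulVec, h0, zero_smul, vecMulVec_zero]
  have hU1 : upMat F m * (1 + vecMulVec (a • e 0) (e (Fin.last (m + 2)))) =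
      upMat F m + vecMulVec (a • e 0) (e (Fin.last (m + 2))) := by
    rw [mul_add, mul_one, hUB]
  rw [add_mul, one_mul, hAU, hU1, mul_add, mul_one, add_mul, hUB, hBA]
  abel

/-- powers of the nilpotent part -/
theorem up_sub_one_pow (k : ℕ) :
    (upMat F m - 1) ^ k = Matrix.of (fun i j => if i.val + k = j.val then 1 else 0) := by
  induction k with
  | zero =>
    ext i j
    simp [one_apply, Fin.ext_iff]
  | succ k ih =>
    rw [pow_succ, ih]
    ext i j
    rw [mul_apply]
    simp only [of_apply]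
    have hN : ∀ l : Fin (m + 3), (upMat F m - 1) l j = if l.val + 1 = j.val then 1 else 0 := by
      intro l
      simp only [Matrix.sub_apply, upMat, Matrix.one_apply, Fin.ext_iff]
      split_ifs <;> first | omega | simp
    simp only [hN]
    by_cases h : i.val + (k + 1) = j.val
    · rw [if_pos h, Finset.sum_eq_single (⟨i.val + k, by have := j.2; omega⟩ : Fin (m + 3))]
      · have : i.val + k + 1 = j.val := by omega
        simp [this]
      · intro l _ hl
        have : ¬ (i.val + k = l.val) := fun h' => hl (Fin.ext h'.symm)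
        simp [this]
      · intro h'; exact absurd (Finset.mem_univ _) h'
    · rw [if_neg h]
      apply Finset.sum_eq_zero
      intro l _
      by_cases h1 : i.val + k = l.val
      · have : ¬ (l.val + 1 = j.val) := by omega
        simp [this]
      · simp [h1]

theorem up_nilpotent : IsNilpotent (upMat F m - 1) := by
  refine ⟨m + 3, ?_⟩
  rw [up_sub_one_pow]
  ext i j
  have := j.2
  have h : ¬ (i.val + (m + 3) = j.val) := by omega
  simp [h]

theorem up_pow_ne_zero : (upMat F m - 1) ^ (m + 2) ≠ 0 := by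
  rw [up_sub_one_pow]
  intro h
  have := congrFun (congrFun h 0) (Fin.last (m + 2))
  simp at this

end concrete

end Cfsg.Agent.Lib.Helper43RegUnip
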