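import Mathlib
import Cfsg.Agent.Lib.Helper43RegUnip

set_option autoImplicit false

namespace Cfsg.Agent.Lib.Helper43SL3

open Matrix Cfsg.Agent.Lib.Helper43Transv

/-- A subset of a finite field closed under `+`, `*` and containing the cube of a multiplicative
generator `γ` with `γ ^ 3 ≠ 1` is everything. -/
theorem ring_gen {F : Type*} [Field F] [Fintype F] (A : F → Prop) (h0 : A 0)
    (hadd : ∀ x y, A x → A y → A (x + y)) (hmul : ∀ x y, A x → A y → A (x * y))
    {γ : F} (hγ : ∀ x : F, x ≠ 0 → ∃ k : ℕ, x = γ ^ (k + 1)) (h3 : γ ^ 3 ≠ 1) (hA : A (γ ^ 3)) :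
    ∀ x, A x := by
  have hpow1 : ∀ a, A a → ∀ k : ℕ, A (a ^ (k + 1)) := by
    intro a ha k
    induction k with
    | zero => simpa using ha
    | succ k ih => rw [pow_succ]; exact hmul _ _ ih ha
  have hcube : ∀ z, A (z ^ 3) := by
    intro z
    by_cases hz : z = 0
    · subst hz; simpa using h0
    · obtain ⟨k, hk⟩ := hγ z hz
      have : z ^ 3 = (γ ^ 3) ^ (k + 1) := by rw [hk, ← pow_mul, ← pow_mul, mul_comm]
      rw [this]; exact hpow1 _ hA k
  have h1 : A 1 := by simpa using hcube 1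
  have hpow : ∀ a, A a → ∀ k : ℕ, A (a ^ k) := by
    intro a ha k
    cases k with
    | zero => simpa using h1
    | succ k => exact hpow1 a ha k
  have hneg1 : A (-1) := by
    have := hcube (-1)
    have e : (-1 : F) ^ 3 = -1 := by ring
    rwa [e] at this
  have hneg : ∀ x, A x → A (-x) := by
    intro x hx
    have := hmul _ _ hneg1 hx
    simpa using this
  have hinv : ∀ a, A a → A a⁻¹ := by
    intro a ha
    by_cases ha0 : a = 0
    · subst ha0; simpa using h0
    · have h := FiniteField.pow_card_sub_one_eq_one a ha0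
      have hq : 2 ≤ Fintype.card F := Fintype.one_lt_card
      have e : a⁻¹ = a ^ (Fintype.card F - 2) := by
        have h2 : Fintype.card F - 1 = (Fintype.card F - 2) + 1 := by omega
        rw [h2, pow_succ] at h
        exact (eq_inv_of_mul_eq_one_left h).symm
      rw [e]; exact hpow a ha _
  have hg : A γ := by
    by_cases c2 : (2 : F) = 0
    · have ht : A (γ ^ 2 + γ) := by
        have e : (γ + 1) ^ 3 + γ ^ 3 + 1 = γ ^ 2 + γ := by
          linear_combination (γ ^ 3 + γ ^ 2 + γ + 1) * c2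
        rw [← e]
        exact hadd _ _ (hadd _ _ (hcube _) (hcube _)) h1
      by_cases ht1 : γ ^ 2 + γ + 1 = 0
      · exact absurd (by linear_combination (γ - 1) * ht1) h3
      · have e : γ = (γ ^ 2 + γ + 1)⁻¹ * (γ ^ 3 + (γ ^ 2 + γ)) := by
          rw [eq_inv_mul_iff_mul_eq₀ ht1]
          ring
        rw [e]
        exact hmul _ _ (hinv _ (hadd _ _ ht h1)) (hadd _ _ hA ht)
    · by_cases c3 : (3 : F) = 0
      · have inj : Function.Injective (fun z : F => z ^ 3) := by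
          intro z w h
          have h' : z ^ 3 = w ^ 3 := h
          have : (z - w) ^ 3 = 0 := by linear_combination h' - z * w * (z - w) * c3
          exact sub_eq_zero.1 (pow_eq_zero_iff (by norm_num) |>.1 this)
        obtain ⟨z, hz⟩ := (Finite.injective_iff_surjective.1 inj) γ
        have hz' : z ^ 3 = γ := hz
        rw [← hz']; exact hcube z
      · have h6 : A (6 * γ) := by
          have e : (γ + 1) ^ 3 + (γ - 1) ^ 3 + (-(γ ^ 3)) + (-(γ ^ 3)) = 6 * γ := by ring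
          rw [← e]
          exact hadd _ _ (hadd _ _ (hadd _ _ (hcube _) (hcube _)) (hneg _ hA)) (hneg _ hA)
        have hA2 : A 2 := by
          have := hadd _ _ h1 h1
          norm_num at this; exact this
        have hA3 : A 3 := by
          have := hadd _ _ hA2 h1
          norm_num at this; exact this
        have hA6 : A 6 := by
          have := hmul _ _ hA2 hA3
          norm_num at this; exact this
        have h60 : (6 : F) ≠ 0 := by
          have : (6 : F) = 2 * 3 := by norm_num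
          rw [this]; exact mul_ne_zero c2 c3
        have e : γ = 6⁻¹ * (6 * γ) := by field_simp
        rw [e]; exact hmul _ _ (hinv _ hA6) h6
  intro x
  by_cases hx : x = 0
  · subst hx; exact h0
  · obtain ⟨k, hk⟩ := hγ x hx
    rw [hk]; exact hpow _ hg _


section general

variable {F : Type*} [Field F] {ι : Type*} [Fintype ι] [DecidableEq ι]
  {H : Subgroup (SpecialLinearGroup ι F)}

theorem FullF.shift {ψ₁ ψ₂ : ι → F} (h1 : FullF H ψ₁) (h2 : FullF H ψ₂) (a : ι → F)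
    (ha : ψ₂ ⬝ᵥ a = 0) : FullF H (ψ₁ + (ψ₁ ⬝ᵥ a) • ψ₂) := by
  obtain ⟨τ, hτ, hτe⟩ := h2 a ha
  have h := h1.conj hτ
  rwa [hτe, vecMul_add, vecMul_one, vecMul_vecMulVec] at h

theorem vecMul_inv_of {g : SpecialLinearGroup ι F} {ψ φ : ι → F} (h : ψ ᵥ* g.1 = φ) :
    φ ᵥ* (g⁻¹).1 = ψ := by
  rw [← h, vecMul_vecMul, coe_mul_inv, vecMul_one]

theorem mulVec_inv_of {g : SpecialLinearGroup ι F} {a b : ι → F} (h : g.1 *ᵥ a = b) :
    (g⁻¹).1 *ᵥ b = a := by
  rw [← h, mulVec_mulVec, coe_inv_mul, one_mulVec]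

end general

section caseA

variable {F : Type*} [Field F]

/-- standard basis vector of `F³` -/
abbrev b3 (j : Fin 3) : Fin 3 → F := Pi.single j 1

def uM (F : Type*) [Field F] : Matrix (Fin 3) (Fin 3) F := !![1, 1, 0; 0, 1, 1; 0, 0, 1]

def gM (μ : F) : Matrix (Fin 3) (Fin 3) F :=
  !![-1, -1, 0; 1 - μ, 1, 0; -((μ - 1) ^ 2 / μ ^ 2), -((μ - 1) / μ), -(1 / μ)]

def sM (μ : F) : Matrix (Fin 3) (Fin 3) F :=
  !![μ, 0, 0; (μ - 1) ^ 2 * (μ + 2) / μ ^ 2, 1 / μ ^ 2, 0; -((μ - 1) ^ 3 / μ ^ 2), 0, μ]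

theorem det_uM : (uM F).det = 1 := by
  simp [uM, det_fin_three]

theorem det_gM {μ : F} (hμ : μ ≠ 0) : (gM μ).det = 1 := by
  simp [gM, det_fin_three]
  field_simp
  ring

theorem det_sM {μ : F} (hμ : μ ≠ 0) : (sM μ).det = 1 := by
  simp [sM, det_fin_three]
  field_simp

theorem key_identity {μ : F} (hμ : μ ≠ 0) : uM F * gM μ * uM F = sM μ * gM μ := by
  ext i j
  fin_cases i <;> fin_cases j <;>
    simp [uM, gM, sM, Matrix.mul_apply, Fin.sum_univ_three] <;> field_simp <;> ring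


theorem sM_pow {μ : F} (hμ : μ ≠ 0) (k : ℕ) :
    ∃ b c : F, sM μ ^ k = !![μ ^ k, 0, 0; b, (1 / μ ^ 2) ^ k, 0; c, 0, μ ^ k] ∧
      (μ - 1 / μ ^ 2) * b = (μ - 1) ^ 2 * (μ + 2) / μ ^ 2 * (μ ^ k - (1 / μ ^ 2) ^ k) ∧
      c * μ = k * μ ^ k * (-((μ - 1) ^ 3 / μ ^ 2)) := by
  induction k with
  | zero =>
    refine ⟨0, 0, ?_, by simp, by simp⟩
    ext i j
    fin_cases i <;> fin_cases j <;> simp
  | succ k ih =>
    obtain ⟨b, c, h1, h2, h3⟩ := ih
    refine ⟨b * μ + (1 / μ ^ 2) ^ k * ((μ - 1) ^ 2 * (μ + 2) / μ ^ 2),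
      c * μ + μ ^ k * (-((μ - 1) ^ 3 / μ ^ 2)), ?_, ?_, ?_⟩
    · rw [pow_succ, h1]
      ext i j
      fin_cases i <;> fin_cases j <;>
        simp [sM, Matrix.mul_apply, Fin.sum_univ_three, pow_succ]
    · rw [pow_succ, pow_succ]
      linear_combination μ * h2
    · push_cast
      rw [pow_succ]
      linear_combination μ * h3


def uS (F : Type*) [Field F] : SpecialLinearGroup (Fin 3) F := ⟨uM F, det_uM⟩
def gS {μ : F} (hμ : μ ≠ 0) : SpecialLinearGroup (Fin 3) F := ⟨gM μ, det_gM hμ⟩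
def sS {μ : F} (hμ : μ ≠ 0) : SpecialLinearGroup (Fin 3) F := ⟨sM μ, det_sM hμ⟩

theorem u_conj {μ : F} (hμ : μ ≠ 0) : uS F * (gS hμ * uS F * (gS hμ)⁻¹) = sS hμ := by
  have h : uS F * gS hμ * uS F = sS hμ * gS hμ := Subtype.ext (key_identity hμ)
  calc uS F * (gS hμ * uS F * (gS hμ)⁻¹) = (uS F * gS hμ * uS F) * (gS hμ)⁻¹ := by group
    _ = sS hμ := by rw [h]; group

theorem uM_mulVec_two : uM F *ᵥ b3 2 = b3 2 + b3 1 := by
  ext i; fin_cases i <;> simp [uM, mulVec, dotProduct, Fin.sum_univ_three, Pi.single_apply]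

theorem psi_vecMul_uM : (![1, -1, 1] : Fin 3 → F) ᵥ* uM F = b3 0 := by
  ext i; fin_cases i <;> simp [uM, vecMul, dotProduct, Fin.sum_univ_three, Pi.single_apply]

theorem b0_vecMul_uM : (b3 0 : Fin 3 → F) ᵥ* uM F = b3 0 + b3 1 := by
  ext i; fin_cases i <;> simp [uM, vecMul, dotProduct, Fin.sum_univ_three, Pi.single_apply]

theorem b1_vecMul_uM : (b3 1 : Fin 3 → F) ᵥ* uM F = b3 1 + b3 2 := by
  ext i; fin_cases i <;> simp [uM, vecMul, dotProduct, Fin.sum_univ_three, Pi.single_apply]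

theorem b0_vecMul_sM (μ : F) : (b3 0 : Fin 3 → F) ᵥ* sM μ = μ • b3 0 := by
  ext i; fin_cases i <;> simp [sM, vecMul, dotProduct, Fin.sum_univ_three, Pi.single_apply]

theorem sM_mulVec {μ : F} (hμ : μ ≠ 0) (x y : F) :
    sM μ *ᵥ ((μ ^ 2 * x) • b3 1 + (μ⁻¹ * y) • b3 2) = x • b3 1 + y • b3 2 := by
  ext i; fin_cases i <;> simp [sM, mulVec, dotProduct, Fin.sum_univ_three, Pi.single_apply] <;>
    field_simp

variable {H : Subgroup (SpecialLinearGroup (Fin 3) F)}

theorem scale {μ : F} (hμ : μ ≠ 0) (hs : sS hμ ∈ H) {x y : F}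
    (h : InH H (x • b3 1 + y • b3 2) (b3 0)) : InH H ((μ ^ 3 * x) • b3 1 + y • b3 2) (b3 0) := by
  have h1 := h.conj_inv hs
  have e1 : ((sS hμ)⁻¹).1 *ᵥ (x • b3 1 + y • b3 2) = (μ ^ 2 * x) • b3 1 + (μ⁻¹ * y) • b3 2 :=
    mulVec_inv_of (g := sS hμ) (sM_mulVec hμ x y)
  have e2 : (b3 0 : Fin 3 → F) ᵥ* (sS hμ).1 = μ • b3 0 := b0_vecMul_sM μ
  rw [e1, e2] at h1
  have h2 := (InH.smul_comm μ).2 h1
  have e3 : μ • ((μ ^ 2 * x) • b3 1 + (μ⁻¹ * y) • b3 2) = ((μ ^ 3 * x) • b3 1 + y • b3 2 : Fin 3 → F) := by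
    ext i; fin_cases i <;> simp [Pi.single_apply] <;> field_simp
  rwa [e3] at h2

theorem b0_dot (x y : F) : (b3 0 : Fin 3 → F) ⬝ᵥ (x • b3 1 + y • b3 2) = 0 := by
  simp [dotProduct, Fin.sum_univ_three, Pi.single_apply]


/-- From a full "column" of root elements and the Jordan block, everything. -/
theorem top_of_full0 (hu : uS F ∈ H) (h0 : FullF H (b3 0)) : H = ⊤ := by
  have h1 : FullF H (b3 1) := by
    have h := h0.conj hu
    have e : (b3 0 : Fin 3 → F) ᵥ* (uS F).1 = b3 0 + b3 1 := b0_vecMul_uM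
    rw [e] at h
    have h2 := FullF.shift h h0 (-(b3 1)) (by simp [dotProduct, Fin.sum_univ_three, Pi.single_apply])
    have e2 : (b3 0 + b3 1 : Fin 3 → F) + ((b3 0 + b3 1 : Fin 3 → F) ⬝ᵥ (-(b3 1))) • b3 0
        = b3 1 := by
      ext i; fin_cases i <;> simp [dotProduct, Fin.sum_univ_three, Pi.single_apply]
    rwa [e2] at h2
  have h2 : FullF H (b3 2) := by
    have h := h1.conj hu
    have e : (b3 1 : Fin 3 → F) ᵥ* (uS F).1 = b3 1 + b3 2 := b1_vecMul_uM
    rw [e] at h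
    have h2 := FullF.shift h h1 (-(b3 2)) (by simp [dotProduct, Fin.sum_univ_three, Pi.single_apply])
    have e2 : (b3 1 + b3 2 : Fin 3 → F) + ((b3 1 + b3 2 : Fin 3 → F) ⬝ᵥ (-(b3 2))) • b3 1
        = b3 2 := by
      ext i; fin_cases i <;> simp [dotProduct, Fin.sum_univ_three, Pi.single_apply]
    rwa [e2] at h2
  apply eq_top_of_fullF
  intro k
  fin_cases k
  · exact h0
  · exact h1
  · exact h2

theorem caseA_gen [Fintype F] {μ : F} (hμ : μ ≠ 0)
    (hgen : ∀ x : F, x ≠ 0 → ∃ k : ℕ, x = μ ^ (k + 1)) (h3 : μ ^ 3 ≠ 1)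
    (hu : uS F ∈ H) (hs : sS hμ ∈ H) : H = ⊤ := by
  have hμ1 : μ - 1 ≠ 0 := by
    intro h
    apply h3
    have : μ = 1 := sub_eq_zero.1 h
    rw [this]; simp
  -- the root element
  obtain ⟨c, hc0, ht⟩ : ∃ c : F, c ≠ 0 ∧ InH H ((0 : F) • b3 1 + c • b3 2) (b3 0) := by
    obtain ⟨b, c, h1, h2, h3'⟩ := sM_pow hμ (Fintype.card F - 1)
    have hν : (1 / μ ^ 2 : F) ≠ 0 := by
      apply div_ne_zero one_ne_zero (pow_ne_zero _ hμ)
    rw [FiniteField.pow_card_sub_one_eq_one μ hμ, FiniteField.pow_card_sub_one_eq_one _ hν] at h1 h2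
    rw [FiniteField.pow_card_sub_one_eq_one μ hμ] at h3'
    have hq : 1 ≤ Fintype.card F := Fintype.card_pos
    rw [Nat.cast_sub hq, FiniteField.cast_card_eq_zero, Nat.cast_one] at h3'
    have hd : μ - 1 / μ ^ 2 ≠ 0 := by
      intro h
      apply h3
      field_simp at h
      linear_combination h
    have hb : b = 0 := by
      have : (μ - 1 / μ ^ 2) * b = 0 := by rw [h2]; ring
      exact (mul_eq_zero.1 this).resolve_left hd
    subst hb
    refine ⟨c, ?_, (sS hμ) ^ (Fintype.card F - 1), H.pow_mem hs _, ?_⟩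
    · intro hc
      rw [hc] at h3'
      have : (μ - 1) ^ 3 / μ ^ 2 = 0 := by linear_combination -h3'
      have h4 := div_eq_zero_iff.1 this
      rcases h4 with h4 | h4
      · exact hμ1 (pow_eq_zero_iff (by norm_num) |>.1 h4)
      · exact hμ (pow_eq_zero_iff (by norm_num) |>.1 h4)
    · rw [Matrix.SpecialLinearGroup.coe_pow]
      show sM μ ^ (Fintype.card F - 1) = _
      rw [h1]
      ext i j
      fin_cases i <;> fin_cases j <;> simp [vecMulVec_apply, Pi.single_apply]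
  -- its conjugate under u
  have ht' : InH H (c • b3 1 + c • b3 2) ![1, -1, 1] := by
    have h := ht.conj hu
    have e1 : (b3 0 : Fin 3 → F) ᵥ* ((uS F)⁻¹).1 = ![1, -1, 1] :=
      vecMul_inv_of (g := uS F) psi_vecMul_uM
    have e2 : (uS F).1 *ᵥ ((0 : F) • b3 1 + c • b3 2) = (c • b3 1 + c • b3 2 : Fin 3 → F) := by
      rw [zero_smul, zero_add, mulVec_smul]
      show c • (uM F *ᵥ b3 2) = _
      rw [uM_mulVec_two, smul_add, add_comm]
    rwa [e1, e2] at h
  have d22 : (![1, -1, 1] : Fin 3 → F) ⬝ᵥ (c • b3 1 + c • b3 2) = 0 := by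
    simp [dotProduct, Fin.sum_univ_three, Pi.single_apply]
  -- general commutator with the conjugate
  have hcomm : ∀ x y : F, InH H (x • b3 1 + y • b3 2) (b3 0) →
      InH H (((x - y) * c) • b3 1 + ((x - y) * c) • b3 2) (b3 0) := by
    intro x y h
    have r := InH.comm h ht' (b0_dot x y) d22 (b0_dot c c)
    have e : (-((![1, -1, 1] : Fin 3 → F) ⬝ᵥ (x • b3 1 + y • b3 2))) • (c • b3 1 + c • b3 2)
        = (((x - y) * c) • b3 1 + ((x - y) * c) • b3 2 : Fin 3 → F) := by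
      have hd : (![1, -1, 1] : Fin 3 → F) ⬝ᵥ (x • b3 1 + y • b3 2) = y - x := by
        simp [dotProduct, Fin.sum_univ_three, Pi.single_apply]; ring
      rw [hd, smul_add, smul_smul, smul_smul, neg_sub]
    rwa [e] at r
  have hsub : ∀ x y x' y' : F, InH H (x • b3 1 + y • b3 2) (b3 0) →
      InH H (x' • b3 1 + y' • b3 2) (b3 0) → InH H ((x - x') • b3 1 + (y - y') • b3 2) (b3 0) := by
    intro x y x' y' h h'
    have hn := h'.neg (b0_dot x' y')
    have r := h.add hn (by rw [dotProduct_neg, b0_dot, neg_zero])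
    have e : (x • b3 1 + y • b3 2 : Fin 3 → F) + -(x' • b3 1 + y' • b3 2)
        = (x - x') • b3 1 + (y - y') • b3 2 := by
      ext i; fin_cases i <;> simp [Pi.single_apply] <;> ring
    rwa [e] at r
  have hadd : ∀ x y x' y' : F, InH H (x • b3 1 + y • b3 2) (b3 0) →
      InH H (x' • b3 1 + y' • b3 2) (b3 0) → InH H ((x + x') • b3 1 + (y + y') • b3 2) (b3 0) := by
    intro x y x' y' h h'
    have r := h.add h' (b0_dot x' y')
    have e : (x • b3 1 + y • b3 2 : Fin 3 → F) + (x' • b3 1 + y' • b3 2)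
        = (x + x') • b3 1 + (y + y') • b3 2 := by
      ext i; fin_cases i <;> simp [Pi.single_apply]
    rwa [e] at r
  -- a nonzero element of the second root group
  obtain ⟨x₀, hx₀, hP0⟩ : ∃ x₀ : F, x₀ ≠ 0 ∧ InH H (x₀ • b3 1 + (0 : F) • b3 2) (b3 0) := by
    have r := hcomm 0 c ht
    have r2 := scale hμ hs r
    have r3 := hsub _ _ _ _ r2 r
    refine ⟨μ ^ 3 * ((0 - c) * c) - (0 - c) * c, ?_, ?_⟩
    · have : μ ^ 3 * ((0 - c) * c) - (0 - c) * c = (μ ^ 3 - 1) * (-(c * c)) := by ring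
      rw [this]
      exact mul_ne_zero (sub_ne_zero.2 h3) (neg_ne_zero.2 (mul_ne_zero hc0 hc0))
    · rwa [sub_self] at r3
  -- the second root group is full
  have hP : ∀ x : F, InH H (x • b3 1 + (0 : F) • b3 2) (b3 0) := by
    have hA := ring_gen (fun r : F => ∀ x : F, InH H (x • b3 1 + (0 : F) • b3 2) (b3 0) →
      InH H ((r * x) • b3 1 + (0 : F) • b3 2) (b3 0)) (by
        intro x _
        have := InH.zero (H := H) (b3 0 : Fin 3 → F)
        simpa using this) (by
        intro r r' hr hr' x hx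
        have := hadd _ _ _ _ (hr x hx) (hr' x hx)
        rwa [← add_mul, add_zero] at this) (by
        intro r r' hr hr' x hx
        have := hr _ (hr' x hx)
        rwa [← mul_assoc] at this) hgen h3 (by
        intro x hx
        exact scale hμ hs hx)
    intro x
    have := hA (x / x₀) x₀ hP0
    rwa [div_mul_cancel₀ _ hx₀] at this
  -- the first root group is full
  have hQ : ∀ y : F, InH H ((0 : F) • b3 1 + y • b3 2) (b3 0) := by
    intro y
    have r := hcomm (y / c) 0 (hP _)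
    have r2 := hsub _ _ _ _ r (hP ((y / c - 0) * c))
    have e : (y / c - 0) * c = y := by rw [sub_zero, div_mul_cancel₀ _ hc0]
    rw [e, sub_self, sub_zero] at r2
    exact r2
  apply top_of_full0 hu
  apply FullF.of_basis
  intro j hj x
  fin_cases j
  · exact absurd rfl hj
  · have := hP x
    have e : (x • b3 1 + (0 : F) • b3 2 : Fin 3 → F) = Pi.single 1 x := by
      ext i; fin_cases i <;> simp [Pi.single_apply]
    rw [e] at this; exact this
  · have := hQ x
    have e : ((0 : F) • b3 1 + x • b3 2 : Fin 3 → F) = Pi.single 2 x := by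
      ext i; fin_cases i <;> simp [Pi.single_apply]
    rw [e] at this; exact this


theorem top_of_root (hu : uS F ∈ H) (hQ : ∀ y : F, InH H ((0 : F) • b3 1 + y • b3 2) (b3 0)) :
    H = ⊤ := by
  have ht' : InH H ((1 : F) • b3 1 + (1 : F) • b3 2) ![1, -1, 1] := by
    have h := (hQ 1).conj hu
    have e1 : (b3 0 : Fin 3 → F) ᵥ* ((uS F)⁻¹).1 = ![1, -1, 1] :=
      vecMul_inv_of (g := uS F) psi_vecMul_uM
    have e2 : (uS F).1 *ᵥ ((0 : F) • b3 1 + (1 : F) • b3 2)
        = ((1 : F) • b3 1 + (1 : F) • b3 2 : Fin 3 → F) := by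
      rw [zero_smul, zero_add, mulVec_smul]
      show (1 : F) • (uM F *ᵥ b3 2) = _
      rw [uM_mulVec_two, smul_add, add_comm]
    rwa [e1, e2] at h
  have d22 : (![1, -1, 1] : Fin 3 → F) ⬝ᵥ ((1 : F) • b3 1 + (1 : F) • b3 2) = 0 := by
    simp [dotProduct, Fin.sum_univ_three, Pi.single_apply]
  have hP : ∀ x : F, InH H (x • b3 1 + (0 : F) • b3 2) (b3 0) := by
    intro x
    have r := InH.comm (hQ (-x)) ht' (b0_dot 0 (-x)) d22 (b0_dot 1 1)
    have e : (-((![1, -1, 1] : Fin 3 → F) ⬝ᵥ ((0 : F) • b3 1 + (-x) • b3 2))) •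
        ((1 : F) • b3 1 + (1 : F) • b3 2) = (x • b3 1 + x • b3 2 : Fin 3 → F) := by
      have hd : (![1, -1, 1] : Fin 3 → F) ⬝ᵥ ((0 : F) • b3 1 + (-x) • b3 2) = -x := by
        simp [dotProduct, Fin.sum_univ_three, Pi.single_apply]
      rw [hd, smul_add, smul_smul, smul_smul, neg_neg, mul_one]
    rw [e] at r
    have r2 := r.add (hQ (-x)) (b0_dot 0 (-x))
    have e2 : (x • b3 1 + x • b3 2 : Fin 3 → F) + ((0 : F) • b3 1 + (-x) • b3 2)
        = x • b3 1 + (0 : F) • b3 2 := by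
      ext i; fin_cases i <;> simp [Pi.single_apply]
    rwa [e2] at r2
  apply top_of_full0 hu
  apply FullF.of_basis
  intro j hj x
  fin_cases j
  · exact absurd rfl hj
  · have := hP x
    have e : (x • b3 1 + (0 : F) • b3 2 : Fin 3 → F) = Pi.single 1 x := by
      ext i; fin_cases i <;> simp [Pi.single_apply]
    rw [e] at this; exact this
  · have := hQ x
    have e : ((0 : F) • b3 1 + x • b3 2 : Fin 3 → F) = Pi.single 2 x := by
      ext i; fin_cases i <;> simp [Pi.single_apply]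
    rw [e] at this; exact this

theorem uM_nilpotent : IsNilpotent (uM F - 1) := by
  refine ⟨3, ?_⟩
  ext i j
  fin_cases i <;> fin_cases j <;>
    simp [uM, pow_succ, Matrix.mul_apply, Fin.sum_univ_three, Matrix.one_apply]

theorem uM_sq_ne_zero : (uM F - 1) ^ (3 - 1) ≠ 0 := by
  intro h
  have := congrFun (congrFun h 0) 2
  simp [uM, pow_succ, Matrix.mul_apply, Fin.sum_univ_three, Matrix.one_apply] at this

end caseA

section char2

variable {F : Type*} [Field F]

def vC (a : F) : Matrix (Fin 3) (Fin 3) F := !![1, 0, 0; 1, 1, 0; a, 1, 1]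
def gC (a : F) : Matrix (Fin 3) (Fin 3) F := !![0, 0, 1; 0, 1, 0; 1, a, 0]

theorem det_vC (a : F) : (vC a).det = 1 := by
  simp [vC, det_fin_three]

theorem det_gC (h2 : (2 : F) = 0) (a : F) : (gC a).det = 1 := by
  simp [gC, det_fin_three]
  linear_combination -h2

theorem gC_mul (a : F) : gC a * uM F = vC a * gC a := by
  ext i j
  fin_cases i <;> fin_cases j <;>
    simp [uM, gC, vC, Matrix.mul_apply, Fin.sum_univ_three]

def vS (a : F) : SpecialLinearGroup (Fin 3) F := ⟨vC a, det_vC a⟩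
def gS2 (h2 : (2 : F) = 0) (a : F) : SpecialLinearGroup (Fin 3) F := ⟨gC a, det_gC h2 a⟩

theorem g_conj2 (h2 : (2 : F) = 0) (a : F) : gS2 h2 a * uS F * (gS2 h2 a)⁻¹ = vS a := by
  have h : gS2 h2 a * uS F = vS a * gS2 h2 a := Subtype.ext (gC_mul a)
  rw [h]; group

theorem vC_sq (h2 : (2 : F) = 0) (a : F) :
    vC a * vC a = 1 + vecMulVec ((0 : F) • b3 1 + (1 : F) • b3 2) (b3 0) := by
  ext i j
  fin_cases i <;> fin_cases j <;>
    simp [vC, Matrix.mul_apply, Fin.sum_univ_three, vecMulVec_apply, Pi.single_apply]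
  all_goals first | linear_combination h2 | linear_combination a * h2


theorem word (h2 : (2 : F) = 0) (a : F) :
    vC a * (uM F * uM F) * (vC a * vC a) * uM F * (vC a * vC a) * (uM F * uM F)
      = 1 + vecMulVec ((0 : F) • b3 1 + (a + 1) • b3 2) (b3 0) := by
  have hU : uM F * uM F = !![1, 0, 1; 0, 1, 0; 0, 0, 1] := by
    ext i j
    fin_cases i <;> fin_cases j <;> simp [uM, Matrix.mul_apply, Fin.sum_univ_three]
    all_goals first | linear_combination h2 | linear_combination a * h2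
  have hV : vC a * vC a = !![1, 0, 0; 0, 1, 0; 1, 0, 1] := by
    ext i j
    fin_cases i <;> fin_cases j <;> simp [vC, Matrix.mul_apply, Fin.sum_univ_three]
    all_goals first | linear_combination h2 | linear_combination a * h2
  have h1 : vC a * !![1, 0, 1; 0, 1, 0; 0, 0, 1] = !![1, 0, 1; 1, 1, 1; a, 1, a + 1] := by
    ext i j
    fin_cases i <;> fin_cases j <;> simp [vC, Matrix.mul_apply, Fin.sum_univ_three]
  have h3 : (!![1, 0, 1; 1, 1, 1; a, 1, a + 1] : Matrix (Fin 3) (Fin 3) F) * !![1, 0, 0; 0, 1, 0; 1, 0, 1]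
      = !![0, 0, 1; 0, 1, 1; 1, 1, a + 1] := by
    ext i j
    fin_cases i <;> fin_cases j <;> simp [Matrix.mul_apply, Fin.sum_univ_three]
    all_goals first | linear_combination h2 | linear_combination a * h2
  have h4 : (!![0, 0, 1; 0, 1, 1; 1, 1, a + 1] : Matrix (Fin 3) (Fin 3) F) * uM F
      = !![0, 0, 1; 0, 1, 0; 1, 0, a] := by
    ext i j
    fin_cases i <;> fin_cases j <;> simp [uM, Matrix.mul_apply, Fin.sum_univ_three]
    all_goals first | linear_combination h2 | linear_combination a * h2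
  have h5 : (!![0, 0, 1; 0, 1, 0; 1, 0, a] : Matrix (Fin 3) (Fin 3) F) * !![1, 0, 0; 0, 1, 0; 1, 0, 1]
      = !![1, 0, 1; 0, 1, 0; 1 + a, 0, a] := by
    ext i j
    fin_cases i <;> fin_cases j <;> simp [Matrix.mul_apply, Fin.sum_univ_three]
  have h6 : (!![1, 0, 1; 0, 1, 0; 1 + a, 0, a] : Matrix (Fin 3) (Fin 3) F) * !![1, 0, 1; 0, 1, 0; 0, 0, 1]
      = !![1, 0, 0; 0, 1, 0; 1 + a, 0, 1] := by
    ext i j
    fin_cases i <;> fin_cases j <;> simp [Matrix.mul_apply, Fin.sum_univ_three]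
    all_goals first | linear_combination h2 | linear_combination a * h2
  rw [hU, hV, h1, h3, h4, h5, h6]
  ext i j
  fin_cases i <;> fin_cases j <;> simp [vecMulVec_apply, Pi.single_apply, add_comm]

variable {H : Subgroup (SpecialLinearGroup (Fin 3) F)}

theorem root_one (h2 : (2 : F) = 0) (a : F) (hv : vS a ∈ H) :
    InH H ((0 : F) • b3 1 + (1 : F) • b3 2) (b3 0) :=
  ⟨vS a * vS a, H.mul_mem hv hv, vC_sq h2 a⟩

theorem root_a (h2 : (2 : F) = 0) (a : F) (hu : uS F ∈ H) (hv : vS a ∈ H) :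
    InH H ((0 : F) • b3 1 + (a + 1) • b3 2) (b3 0) :=
  ⟨vS a * (uS F * uS F) * (vS a * vS a) * uS F * (vS a * vS a) * (uS F * uS F),
    H.mul_mem (H.mul_mem (H.mul_mem (H.mul_mem (H.mul_mem hv (H.mul_mem hu hu)) (H.mul_mem hv hv)) hu)
      (H.mul_mem hv hv)) (H.mul_mem hu hu), word h2 a⟩

end char2

end Cfsg.Agent.Lib.Helper43SL3
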