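import Cfsg.Agent.Lib.Helper43SpDefs2
import Cfsg.Agent.Lib.Helper77SpPbasic
import Cfsg.Agent.Lib.Helper65Spcw

set_option autoImplicit false

/-! Project 243 (wave 3), piece `pwl` (copy of helper65's `cwL` for a `PSys`). -/

namespace Cfsg.Agent.Lib.Helper77SpPwl

open Matrix Cfsg.Agent.Lib.Helper43St Cfsg.Agent.Lib.Helper43Sp
open Cfsg.Agent.Lib.Helper65SpAPI Cfsg.Agent.Lib.Helper65Spcbasic
open Cfsg.Agent.Lib.Helper65Spcxw (exists_quad_at e2_l0' e2_r0' n00)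
open Cfsg.Agent.Lib.Helper65Spcw (e2_sw_long sw_long_fix)
open Cfsg.Agent.Lib.Helper28SpM2w Cfsg.Agent.Lib.Helper77SpPbasic

variable {m : ℕ} {F : Type*} [Field F] {P : Type*} [Group P]

theorem w_long (S : PSys m F P) (hm : 2 ≤ m) (i : Fin m) (c d : I m) (hcd : c ≠ d) (t : F) :
    (∃ t', S.w (Sum.inl i) (Sum.inr i) 1 * S.x c d t * (S.w (Sum.inl i) (Sum.inr i) 1)⁻¹ =
      S.x (sw (Sum.inl i) (Sum.inr i) c) (sw (Sum.inl i) (Sum.inr i) d) t') ∧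
    (∃ t', (S.w (Sum.inl i) (Sum.inr i) 1)⁻¹ * S.x c d t * S.w (Sum.inl i) (Sum.inr i) 1 =
      S.x (sw (Sum.inl i) (Sum.inr i) c) (sw (Sum.inl i) (Sum.inr i) d) t') := by
  by_cases h : ab c = i ∨ ab d = i
  · obtain ⟨k, hk, c', d', hcd', rfl, rfl⟩ := exists_quad_at hm i c d hcd h
    obtain ⟨f, hf⟩ := S.quad i k hk
    have hw : S.w (Sum.inl i) (Sum.inr i) 1 = f (wX (Sum.inl 0) (Sum.inr 0) 1) := by
      rw [map_wX S f hf _ _ n00, e2_l0', e2_r0']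
    have hne : sw (Sum.inl 0) (Sum.inr 0) c' ≠ sw (Sum.inl 0) (Sum.inr 0) d' :=
      (sw (Sum.inl 0 : I 2) (Sum.inr 0)).injective.ne hcd'
    obtain ⟨⟨t1, e1⟩, ⟨t2, e2'⟩⟩ := wX_long (F := F) c' d' hcd' t
    refine ⟨⟨t1, ?_⟩, ⟨t2, ?_⟩⟩
    · rw [hw, ← hf _ _ _ hcd', ← map_inv, ← map_mul, ← map_mul, e1, hf _ _ _ hne, e2_sw_long i k hk,
        e2_sw_long i k hk]
    · rw [hw, ← hf _ _ _ hcd', ← map_inv, ← map_mul, ← map_mul, e2', hf _ _ _ hne, e2_sw_long i k hk,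
        e2_sw_long i k hk]
  · rw [not_or] at h
    have e1 : ∀ s, Commute (S.x (Sum.inl i) (Sum.inr i) s) (S.x c d t) := fun s =>
      S.dis (Sum.inl i) (Sum.inr i) c d (by simp) hcd (Ne.symm h.1) (Ne.symm h.2) (Ne.symm h.1)
        (Ne.symm h.2) s t
    have e2 : ∀ s, Commute (S.x (Sum.inr i) (Sum.inl i) s) (S.x c d t) := fun s =>
      S.dis (Sum.inr i) (Sum.inl i) c d (by simp) hcd (Ne.symm h.1) (Ne.symm h.2) (Ne.symm h.1)
        (Ne.symm h.2) s t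
    have e3 : Commute (S.w (Sum.inl i) (Sum.inr i) 1) (S.x c d t) := by
      unfold PSys.w
      exact ((e1 _).mul_left (e2 _)).mul_left (e1 _)
    rw [sw_long_fix i c h.1, sw_long_fix i d h.2]
    refine ⟨⟨t, ?_⟩, ⟨t, ?_⟩⟩
    · rw [e3.eq, mul_inv_cancel_right]
    · rw [mul_assoc, ← e3.eq, inv_mul_cancel_left]

-- piece `pwl`
theorem y_w_long (Y : PSys (m + 3) F P) (i : Fin (m + 3)) (c d : I (m + 3)) (hcd : c ≠ d) (t : F) :
    ∃ t', Y.w (Sum.inl i) (Sum.inr i) 1 * Y.x c d t * (Y.w (Sum.inl i) (Sum.inr i) 1)⁻¹ =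
      Y.x (sw (Sum.inl i) (Sum.inr i) c) (sw (Sum.inl i) (Sum.inr i) d) t' :=
  (w_long Y (by omega) i c d hcd t).1

end Cfsg.Agent.Lib.Helper77SpPwl
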