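import Cfsg.Agent.Lib.Helper43SpDefs2
import Cfsg.Agent.Lib.Helper43R1Defs
import Cfsg.Agent.Lib.Helper77SpPbasic
import Cfsg.Agent.Lib.Helper77SpPwl
import Cfsg.Agent.Lib.Helper77SpPhs
import Cfsg.Agent.Lib.Helper54Spdext2
import Cfsg.Agent.Lib.Helper73SpPtrans
import Cfsg.Agent.Lib.Helper40SpPchain
import Cfsg.Agent.Lib.Helper73SpProw
import Cfsg.Agent.Lib.Helper77SpPstr
import Cfsg.Agent.Lib.Helper36SpCfinal
import Cfsg.Agent.Lib.Helper36SpTWire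
import Cfsg.Agent.Lib.Helper52SpDsp4gen
import Cfsg.Agent.Lib.Helper54SpdL1
import Cfsg.Agent.Lib.Helper73SpDquad
import Cfsg.Agent.Lib.Helper28SpDld
import Cfsg.Agent.Lib.Helper40SpDsd
import Cfsg.Agent.Lib.Helper28SpDdis
import Cfsg.Agent.Lib.Helper77SpDpi
import Cfsg.Agent.Lib.Helper54Spehat
import Cfsg.Agent.Lib.Helper1SpEhw
import Cfsg.Agent.Lib.Helper1SpEker
import Cfsg.Agent.Lib.Helper1SpEgc
import Cfsg.Agent.Lib.Helper77SpEmb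
import Cfsg.Agent.Lib.Helper36SpPmval
import Cfsg.Agent.Lib.Helper28SpEhatq
import Cfsg.Agent.Lib.Helper73SpEgens
import Cfsg.Agent.Lib.Helper77SpEl2
import Cfsg.Agent.Lib.Helper36StSWire
import Cfsg.Agent.Lib.Helper52SpDgen

set_option autoImplicit false

namespace Cfsg.Agent.Lib.Helper43SpWire

open Matrix Cfsg.Agent.Lib.Helper43BP Cfsg.Agent.Lib.Helper43St Cfsg.Agent.Lib.Helper43Sp
open Cfsg.Agent.Lib.Helper43R1 (StR)

section P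

variable {m : ℕ} {F : Type*} [Field F] {P : Type*} [Group P] (Y : PSys (m + 3) F P)

theorem y_add (a b : I (m + 3)) (hab : a ≠ b) (s t : F) : Y.x a b (s + t) = Y.x a b s * Y.x a b t :=
  Helper77SpPbasic.y_add Y a b hab s t
theorem y_zero (a b : I (m + 3)) (hab : a ≠ b) : Y.x a b 0 = 1 := Helper77SpPbasic.y_zero Y a b hab
theorem y_neg (a b : I (m + 3)) (hab : a ≠ b) (t : F) : (Y.x a b t)⁻¹ = Y.x a b (-t) :=
  Helper77SpPbasic.y_neg Y a b hab t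

theorem y_w_long (i : Fin (m + 3)) (c d : I (m + 3)) (hcd : c ≠ d) (t : F) :
    ∃ t', Y.w (Sum.inl i) (Sum.inr i) 1 * Y.x c d t * (Y.w (Sum.inl i) (Sum.inr i) 1)⁻¹ =
      Y.x (sw (Sum.inl i) (Sum.inr i) c) (sw (Sum.inl i) (Sum.inr i) d) t' :=
  Helper77SpPwl.y_w_long Y i c d hcd t

theorem y_scale (i : Fin (m + 3)) (u : Fˣ) (a b : I (m + 3)) (hab : a ≠ b) (t : F) :
    Y.hl i u * Y.x a b t * (Y.hl i u)⁻¹ =
      Y.x a b (((chi (Pi.mulSingle i u) a : Fˣ) : F) * ((chi (Pi.mulSingle i u) b : Fˣ) : F)⁻¹ * t) :=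
  Helper77SpPhs.y_scale Y i u a b hab t

theorem ext3p (i j k : Fin (m + 3)) (hij : i ≠ j) (hik : i ≠ k) (hjk : j ≠ k) :
    ∃ ρ : Equiv.Perm (Fin (m + 3)), ρ 0 = i ∧ ρ 1 = j ∧ ρ 2 = k :=
  Helper54Spdext2.ext3p i j k hij hik hjk

theorem trans3 (τ : Fin 3 → I (m + 3)) (hτ : Function.Injective (ab ∘ τ)) :
    ∃ n : P, ∀ p q : Fin 3, p ≠ q → ∀ t, ∃ t',
      n * Y.x (Sum.inl ((![0, 1, 2] : Fin 3 → Fin (m + 3)) p))
        (Sum.inl ((![0, 1, 2] : Fin 3 → Fin (m + 3)) q)) t * n⁻¹ = Y.x (τ p) (τ q) t' :=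
  Helper73SpPtrans.trans3 Y τ hτ (y_w_long Y) ext3p

theorem y_chain
    (h6 : Y.x (Sum.inl 0) (Sum.inl 1) 1 * Y.x (Sum.inl 1) (Sum.inl 2) 1 * (Y.x (Sum.inl 0) (Sum.inl 1) 1)⁻¹ *
      (Y.x (Sum.inl 1) (Sum.inl 2) 1)⁻¹ = Y.x (Sum.inl 0) (Sum.inl 2) 1)
    (a b c : I (m + 3)) (hab : ab a ≠ ab b) (hbc : ab b ≠ ab c) (hac : ab a ≠ ab c) (s t : F) :
    Y.x a b s * Y.x b c t * (Y.x a b s)⁻¹ * (Y.x b c t)⁻¹ = Y.x a c (s * t) :=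
  Helper40SpPchain.y_chain Y h6 a b c hab hbc hac s t (y_zero Y) (y_scale Y) (trans3 Y)

theorem y_row (h7 : Commute (Y.x (Sum.inl 0) (Sum.inl 1) 1) (Y.x (Sum.inl 0) (Sum.inl 2) 1))
    (a b c : I (m + 3)) (hab : ab a ≠ ab b) (hbc : ab b ≠ ab c) (hac : ab a ≠ ab c) (s t : F) :
    Commute (Y.x a b s) (Y.x a c t) :=
  Helper73SpProw.y_row Y h7 a b c hab hbc hac s t (y_zero Y) (y_scale Y) (trans3 Y)
theorem y_col (h7 : Commute (Y.x (Sum.inl 0) (Sum.inl 1) 1) (Y.x (Sum.inl 0) (Sum.inl 2) 1))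
    (a b c : I (m + 3)) (hab : ab a ≠ ab b) (hbc : ab b ≠ ab c) (hac : ab a ≠ ab c) (s t : F) :
    Commute (Y.x a c s) (Y.x b c t) :=
  Helper73SpProw.y_col Y h7 a b c hab hbc hac s t (y_zero Y) (y_scale Y) (trans3 Y)


theorem y_StR
    (h6 : Y.x (Sum.inl 0) (Sum.inl 1) 1 * Y.x (Sum.inl 1) (Sum.inl 2) 1 * (Y.x (Sum.inl 0) (Sum.inl 1) 1)⁻¹ *
      (Y.x (Sum.inl 1) (Sum.inl 2) 1)⁻¹ = Y.x (Sum.inl 0) (Sum.inl 2) 1)
    (h7 : Commute (Y.x (Sum.inl 0) (Sum.inl 1) 1) (Y.x (Sum.inl 0) (Sum.inl 2) 1))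
    (τ : Fin 3 → I (m + 3)) (hτ : Function.Injective (ab ∘ τ)) :
    ∃ T : StR 3 F P, ∀ p q t, T.x p q t = Y.x (τ p) (τ q) t :=
  Helper77SpPstr.y_StR Y h6 h7 τ hτ (y_chain Y h6) (y_row Y h7) (y_col Y h7)

-- piece `sthom3`
theorem st_hom3 {K : Type*} [Field K] [Finite K] {Γ : Type*} [Group Γ] (T : StR 3 K Γ) :
    ∃ f : SpecialLinearGroup (Fin 3) K →* Γ, ∀ p q t, p ≠ q → f (tv p q t) = T.x p q t := by
  obtain ⟨e, he⟩ := Helper36StSWire.st3_iso K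
  obtain ⟨f, hf⟩ := Helper7StStpres.st_lift T
  refine ⟨f.comp e.symm.toMonoidHom, fun p q t hpq => ?_⟩
  have h1 := he ⟨(p, q), hpq⟩ t
  have h2 : e.symm (tv p q t) = PresentedGroup.of ((⟨(p, q), hpq⟩ : Cfsg.Agent.Lib.Helper43R1.Ix 3), t) := by
    rw [← h1, MulEquiv.symm_apply_apply]
  simp only [MonoidHom.comp_apply, MulEquiv.coe_toMonoidHom]
  rw [h2, hf]

/-- assembly -/
noncomputable def toCSys [Finite F]
    (h6 : Y.x (Sum.inl 0) (Sum.inl 1) 1 * Y.x (Sum.inl 1) (Sum.inl 2) 1 * (Y.x (Sum.inl 0) (Sum.inl 1) 1)⁻¹ *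
      (Y.x (Sum.inl 1) (Sum.inl 2) 1)⁻¹ = Y.x (Sum.inl 0) (Sum.inl 2) 1)
    (h7 : Commute (Y.x (Sum.inl 0) (Sum.inl 1) 1) (Y.x (Sum.inl 0) (Sum.inl 2) 1)) :
    CSys (m + 3) F P where
  x := Y.x
  sym := Y.sym
  tri := fun τ hτ => by
    obtain ⟨T, hT⟩ := y_StR Y h6 h7 τ hτ
    obtain ⟨f, hf⟩ := st_hom3 T
    exact ⟨f, fun p q t hpq => by rw [hf p q t hpq, hT]⟩
  quad := Y.quad
  dis := Y.dis
  π := Y.π
  hπ := Y.hπ
  gen := Y.gen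

theorem PSys_injective [Finite F]
    (h6 : Y.x (Sum.inl 0) (Sum.inl 1) 1 * Y.x (Sum.inl 1) (Sum.inl 2) 1 * (Y.x (Sum.inl 0) (Sum.inl 1) 1)⁻¹ *
      (Y.x (Sum.inl 1) (Sum.inl 2) 1)⁻¹ = Y.x (Sum.inl 0) (Sum.inl 2) 1)
    (h7 : Commute (Y.x (Sum.inl 0) (Sum.inl 1) 1) (Y.x (Sum.inl 0) (Sum.inl 2) 1)) :
    Function.Injective Y.π :=
  Helper36SpCfinal.CSys_injective (toCSys Y h6 h7) (by omega)

end P

/-! ## D : from a `GC` to a `PSys` -/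

theorem sp4_gen' (F : Type*) [Field F] :
    Subgroup.closure ({g : Sp 2 F | ∃ (a : I 2) (t : F), ab a = 0 ∧ g = X a (ng a) t} ∪
      {PM F (Equiv.swap 0 1), vv F}) = ⊤ := Helper52SpDsp4gen.sp4_gen' F

section D

variable {m : ℕ} {F : Type*} [Field F] {P : Type*} [Group P] (G : GC m F P)

theorem L1 (σ : Equiv.Perm (Fin (m + 3))) (h0 : σ 0 = 0) (h1 : σ 1 = 1) (g : Sp 2 F) :
    Commute (G.θ σ) (G.ι g) := Helper54SpdL1.L1 G σ h0 h1 g (sp4_gen' F)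

theorem x_wd_short (σ : Equiv.Perm (Fin (m + 3))) (a b : I (m + 3)) (ha : σ 0 = ab a) (hb : σ 1 = ab b)
    (t : F) : G.θ σ * G.ι (X (lw 0 a) (lw 1 b) t) * (G.θ σ)⁻¹ = G.x a b t :=
  Helper54SpdL1.x_wd_short G σ a b ha hb t (sp4_gen' F)
theorem x_wd_long (σ : Equiv.Perm (Fin (m + 3))) (a : I (m + 3)) (ha : σ 0 = ab a) (t : F) :
    G.θ σ * G.ι (X (lw 0 a) (ng (lw 0 a)) t) * (G.θ σ)⁻¹ = G.x a (ng a) t :=
  Helper54SpdL1.x_wd_long G σ a ha t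

theorem x_equiv (ρ : Equiv.Perm (Fin (m + 3))) (a b : I (m + 3)) (hab : a ≠ b) (t : F) :
    G.θ ρ * G.x a b t * (G.θ ρ)⁻¹ = G.x (pmI ρ a) (pmI ρ b) t :=
  Helper54SpdL1.x_equiv G ρ a b hab t (sp4_gen' F)

theorem g_quad (σ : Equiv.Perm (Fin (m + 3))) (c d : I 2) (hcd : c ≠ d) (t : F) :
    G.θ σ * G.ι (X c d t) * (G.θ σ)⁻¹ = G.x (e2 (σ 0) (σ 1) c) (e2 (σ 0) (σ 1) d) t :=
  Helper73SpDquad.g_quad G σ c d hcd t (x_wd_short G) (x_wd_long G)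

theorem ext2p (i j : Fin (m + 3)) (hij : i ≠ j) : ∃ σ : Equiv.Perm (Fin (m + 3)), σ 0 = i ∧ σ 1 = j :=
  Helper54Spdext2.ext2p i j hij

-- piece `dsym`
theorem g_sym (a b : I (m + 3)) (t : F) (hab : ab a ≠ ab b) :
    G.x a b t = G.x (ng b) (ng a) (-(sg F a * sg F b * t)) := by
  obtain ⟨σ, h0, h1⟩ := ext2p (ab a) (ab b) hab
  rw [← x_wd_short G σ a b h0 h1 t]
  have hl : ab (lw 0 a : I 2) ≠ ab (lw 1 b : I 2) := by
    rcases a with a | a <;> rcases b with b | b <;> simp [lw, ab]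
  have hne : (ng (lw 1 b) : I 2) ≠ ng (lw 0 a) := by
    rcases a with a | a <;> rcases b with b | b <;> simp [lw, ng]
  rw [Helper65SpAPI.X_sym _ _ hl t, g_quad G σ _ _ hne, h0, h1]
  rcases a with a | a <;> rcases b with b | b <;> simp [lw, ng, e2, ab, sg]

theorem long_dis (a : I 2) (ha : ab a = 0) (t : F) (g : Sp 2 F) :
    Commute (G.θ (Equiv.swap 0 2) * G.ι (X a (ng a) t) * (G.θ (Equiv.swap 0 2))⁻¹) (G.ι g) :=
  Helper28SpDld.long_dis G a ha t g (sp4_gen' F) (g_quad G) (x_equiv G)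

theorem short_dis (σ : Equiv.Perm (Fin (m + 3))) (h1 : σ 0 ≠ 0) (h2 : σ 0 ≠ 1) (h3 : σ 1 ≠ 0)
    (h4 : σ 1 ≠ 1) (g g' : Sp 2 F) : Commute (G.ι g) (G.θ σ * G.ι g' * (G.θ σ)⁻¹) :=
  Helper40SpDsd.short_dis G σ h1 h2 h3 h4 g g' (sp4_gen' F) (L1 G) (long_dis G)

theorem g_dis (a b c d : I (m + 3)) (hab : a ≠ b) (hcd : c ≠ d) (h1 : ab a ≠ ab c) (h2 : ab a ≠ ab d)
    (h3 : ab b ≠ ab c) (h4 : ab b ≠ ab d) (s t : F) : Commute (G.x a b s) (G.x c d t) :=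
  Helper28SpDdis.g_dis G a b c d hab hcd h1 h2 h3 h4 s t ext2p ext3p (x_wd_short G) (x_wd_long G)
    (long_dis G) (short_dis G) (g_quad G)

-- piece `dgen`
theorem g_gen : Subgroup.closure {g | ∃ a b t, a ≠ b ∧ g = G.x a b t} = ⊤ := Helper52SpDgen.g_gen G

theorem g_pi (a b : I (m + 3)) (t : F) (hab : a ≠ b) : G.π (G.x a b t) = X a b t :=
  Helper77SpDpi.g_pi G a b t hab

theorem g_h6 : G.x (Sum.inl 0) (Sum.inl 1) 1 * G.x (Sum.inl 1) (Sum.inl 2) 1 *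
    (G.x (Sum.inl 0) (Sum.inl 1) 1)⁻¹ * (G.x (Sum.inl 1) (Sum.inl 2) 1)⁻¹ =
      G.x (Sum.inl 0) (Sum.inl 2) 1 := Helper54SpdL1.g_h6 G (sp4_gen' F)
theorem g_h7 : Commute (G.x (Sum.inl 0) (Sum.inl 1) 1) (G.x (Sum.inl 0) (Sum.inl 2) 1) :=
  Helper54SpdL1.g_h7 G (sp4_gen' F)

/-- assembly -/
noncomputable def toPSys : PSys (m + 3) F P where
  x := G.x
  sym := fun a b t h => g_sym G a b t h
  quad := fun i j hij => by
    obtain ⟨σ, h0, h1⟩ := ext2p i j hij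
    refine ⟨(MulAut.conj (G.θ σ)).toMonoidHom.comp G.ι, fun c d t hcd => ?_⟩
    have := g_quad G σ c d hcd t
    rw [h0, h1] at this
    simpa using this
  dis := g_dis G
  π := G.π
  hπ := fun a b t h => g_pi G a b t h
  gen := g_gen G
  θ := G.θ
  hθ := fun ρ a b t h => x_equiv G ρ a b h t

theorem GC_injective [Finite F] : Function.Injective G.π :=
  PSys_injective (toPSys G) (g_h6 G) (g_h7 G)

end D

/-! ## E : from the relators to a `GC` -/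

open Cfsg.Agent.Lib.Helper1SpEhw (fS)

-- piece `egens` (all three)
theorem exists_a (m : ℕ) : ∃ a1 a2 : Equiv.Perm (Fin (m + 3)),
    a1 ∈ alternatingGroup (Fin (m + 3)) ∧ a2 ∈ alternatingGroup (Fin (m + 3)) ∧
    alternatingGroup (Fin (m + 3)) ≤ Subgroup.closure ({a1, a2} : Set (Equiv.Perm (Fin (m + 3)))) :=
  Helper73SpEgens.exists_a m
theorem exists_b (m : ℕ) : ∃ b1 b2 : Equiv.Perm (Fin (m + 3)), b1 0 = 0 ∧ b2 0 = 0 ∧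
    ∀ σ : Equiv.Perm (Fin (m + 3)), σ 0 = 0 →
      σ ∈ Subgroup.closure ({b1, b2} : Set (Equiv.Perm (Fin (m + 3)))) := Helper73SpEgens.exists_b m
theorem exists_c (m : ℕ) : ∃ c1 c2 : Equiv.Perm (Fin (m + 3)),
    (c1 0 = 0 ∧ c1 1 = 1) ∧ (c2 0 = 0 ∧ c2 1 = 1) ∧
    ∀ σ : Equiv.Perm (Fin (m + 3)), σ 0 = 0 → σ 1 = 1 →
      σ ∈ Subgroup.closure ({c1, c2} : Set (Equiv.Perm (Fin (m + 3)))) := Helper73SpEgens.exists_c m

-- piece `el2`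
theorem exists_zeta (F : Type*) [Field F] [Finite F] :
    ∃ ζ : F, ζ ≠ 0 ∧ ∀ (a : I 2) (t : F), ab a = 0 →
      X a (ng a) t ∈ Subgroup.closure (↑(gl F ζ) : Set (Sp 2 F)) := Helper77SpEl2.exists_zeta F

section T

variable (m : ℕ) (F : Type*) [Field F] (a1 a2 b1 b2 c1 c2 : Equiv.Perm (Fin (m + 3))) (ζ : F)

-- piece `ehatq`
theorem relS_hat (ha1 : a1 ∈ alternatingGroup (Fin (m + 3)))
    (ha2 : a2 ∈ alternatingGroup (Fin (m + 3)))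
    (ha : alternatingGroup (Fin (m + 3)) ≤ Subgroup.closure ({a1, a2} : Set (Equiv.Perm (Fin (m + 3))))) :
    ∃ θ : Equiv.Perm (Fin (m + 3)) →*
        (CQ m F ⧸ Subgroup.normalClosure (↑(relS m F a1 a2 b1 b2 c1 c2 ζ) : Set (CQ m F))),
      ∀ σ, θ σ = QuotientGroup.mk (hw F σ) :=
  Helper28SpEhatq.relS_hat m F a1 a2 b1 b2 c1 c2 ζ ha1 ha2 ha
    (fun τ h1 h2 θ0 s hs h => Helper54Spehat.exists_hat τ h1 h2 θ0 s hs h)

end T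

theorem exists_pm (n : ℕ) (F : Type*) [Field F] :
    ∃ pm : Equiv.Perm (Fin n) →* Sp n F, ∀ σ, pm σ = PM F σ :=
  ⟨MonoidHom.mk' (PM F) (fun σ τ => Helper36SpPmval.PM_mul σ τ), fun _ => rfl⟩

/-- assembly (piece `eglue`) -/
theorem sp_glue (m : ℕ) (F : Type*) [Field F] [Finite F] :
    ∃ (T : Finset (CQ m F)) (f : CQ m F →* Sp (m + 3) F),
      T.card ≤ 16 ∧ Function.Surjective f ∧ f.ker = Subgroup.normalClosure (↑T : Set _) := by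
  obtain ⟨a1, a2, ha1, ha2, ha⟩ := exists_a m
  obtain ⟨b1, b2, hb1, hb2, hb⟩ := exists_b m
  obtain ⟨c1, c2, hc1, hc2, hc⟩ := exists_c m
  obtain ⟨ζ, hζ0, hζ⟩ := exists_zeta F
  obtain ⟨pm, hpm⟩ := exists_pm (m + 3) F
  obtain ⟨E, hE⟩ := Helper77SpEmb.exists_emb (F := F) (0 : Fin (m + 3)) 1 (by
    intro h; have := congrArg Fin.val h; simp at this)
  have hker := Helper1SpEker.relS_ker m F a1 a2 b1 b2 c1 c2 ζ hζ0 ha1 ha2 hb1 hb2 hc1 hc2 pm hpm E hE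
  obtain ⟨θ, hθ⟩ := relS_hat m F a1 a2 b1 b2 c1 c2 ζ ha1 ha2 ha
  obtain ⟨G, hG⟩ := Helper1SpEgc.relS_gc m F a1 a2 b1 b2 c1 c2 ζ hζ hb hc θ hθ pm hpm E hE hker
  refine ⟨relS m F a1 a2 b1 b2 c1 c2 ζ, fS m F pm E,
    Helper54Spdext2.relS_card m F a1 a2 b1 b2 c1 c2 ζ, ?_, ?_⟩
  · rw [← MonoidHom.range_eq_top, eq_top_iff, ← Helper36SpTWire.sp_gen (m + 3) F, Subgroup.closure_le]
    rintro _ ⟨a, b, t, hab, rfl⟩
    obtain ⟨z, hz⟩ := QuotientGroup.mk_surjective (G.x a b t)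
    refine ⟨z, ?_⟩
    rw [← hG, hz, g_pi G a b t hab]
  · apply le_antisymm
    · intro z hz
      rw [MonoidHom.mem_ker] at hz
      have h1 : G.π (QuotientGroup.mk z) = 1 := by rw [hG, hz]
      have h2 := GC_injective G (h1.trans (map_one G.π).symm)
      exact (QuotientGroup.eq_one_iff z).1 h2
    · exact Subgroup.normalClosure_le_normal (fun z hz => hker z hz)

end Cfsg.Agent.Lib.Helper43SpWire
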