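import Mathlib
import Cfsg.Agent.Lib.Helper43RegUnip

set_option autoImplicit false

namespace Cfsg.Agent.Lib.Helper43Two

open Matrix Cfsg.Agent.Lib.Helper43Transv Cfsg.Agent.Lib.Helper43RegUnip

variable {F : Type*} [Field F] {m : ℕ}

/-- vector given by a function on naturals -/
def vecN (X : ℕ → F) : Fin (m + 3) → F := fun i => X i.val

/-- basis vector with natural index (zero if out of range) -/
def E (k : ℕ) : Fin (m + 3) → F := fun i => if i.val = k then 1 else 0

theorem E_val (j : Fin (m + 3)) : (E j.val : Fin (m + 3) → F) = e j := by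
  ext i
  simp only [E, Pi.single_apply, Fin.ext_iff]

theorem E_zero : (E 0 : Fin (m + 3) → F) = e 0 := by
  rw [← E_val]; rfl

theorem E_last : (E (m + 2) : Fin (m + 3) → F) = e (Fin.last (m + 2)) := by
  rw [← E_val]; rfl

theorem E_apply (k : ℕ) (i : Fin (m + 3)) : (E k : Fin (m + 3) → F) i = if i.val = k then 1 else 0 := rfl

theorem E_dot (k : ℕ) (hk : k < m + 3) (x : Fin (m + 3) → F) : E k ⬝ᵥ x = x ⟨k, hk⟩ := by
  have : (E k : Fin (m + 3) → F) = e ⟨k, hk⟩ := by rw [← E_val]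
  rw [this]; simp

theorem dot_E (k : ℕ) (hk : k < m + 3) (x : Fin (m + 3) → F) : x ⬝ᵥ E k = x ⟨k, hk⟩ := by
  rw [dotProduct_comm, E_dot k hk]

theorem E_dot_vecN (k : ℕ) (hk : k < m + 3) (X : ℕ → F) : (E k : Fin (m + 3) → F) ⬝ᵥ vecN X = X k := by
  rw [E_dot k hk]; rfl

theorem E_dot_E (j k : ℕ) (hj : j < m + 3) : (E j : Fin (m + 3) → F) ⬝ᵥ E k = if j = k then 1 else 0 := by
  rw [E_dot j hj]; rfl

/-- the lower bidiagonal matrix with ones -/
abbrev vM (F : Type*) [Field F] (m : ℕ) : Matrix (Fin (m + 3)) (Fin (m + 3)) F := loMat m (fun _ => 1)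

/-- the standard lower regular unipotent element -/
abbrev vS (F : Type*) [Field F] (m : ℕ) : SpecialLinearGroup (Fin (m + 3)) F := vSL m (fun _ => 1)

theorem vecMul_v (x : Fin (m + 3) → F) (j : Fin (m + 3)) :
    (x ᵥ* vM F m) j = x j + (if h : j.val + 1 < m + 3 then x ⟨j.val + 1, h⟩ else 0) := by
  simp only [vecMul, dotProduct, loMat]
  have : ∀ i : Fin (m + 3), x i * (if i = j then (1 : F) else if j.val + 1 = i.val then 1 else 0)
      = (if i = j then x i else 0) + (if j.val + 1 = i.val then x i else 0) := by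
    intro i
    by_cases h1 : i = j
    · have : ¬ (j.val + 1 = i.val) := by rw [h1]; omega
      simp [h1]
    · by_cases h2 : j.val + 1 = i.val <;> simp [h1, h2]
  simp only [this]
  rw [Finset.sum_add_distrib, Finset.sum_ite_eq' Finset.univ j]
  simp only [Finset.mem_univ, if_true]
  congr 1
  split_ifs with h
  · rw [Finset.sum_eq_single (⟨j.val + 1, h⟩ : Fin (m + 3))]
    · simp
    · intro b _ hb
      have : ¬ (j.val + 1 = b.val) := fun h' => hb (Fin.ext h'.symm)
      simp [this]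
    · intro h'; exact absurd (Finset.mem_univ _) h'
  · apply Finset.sum_eq_zero
    intro b _
    have : ¬ (j.val + 1 = b.val) := by have := b.2; omega
    simp [this]

theorem mulVec_v (x : Fin (m + 3) → F) (i : Fin (m + 3)) :
    (vM F m *ᵥ x) i = x i + (if h : 0 < i.val then x ⟨i.val - 1, by have := i.2; omega⟩ else 0) := by
  simp only [mulVec, dotProduct, loMat]
  have : ∀ j : Fin (m + 3), (if i = j then (1 : F) else if j.val + 1 = i.val then 1 else 0) * x j
      = (if i = j then x j else 0) + (if j.val + 1 = i.val then x j else 0) := by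
    intro j
    by_cases h1 : i = j
    · have : ¬ (j.val + 1 = i.val) := by rw [h1]; omega
      simp [h1]
    · by_cases h2 : j.val + 1 = i.val <;> simp [h1, h2]
  simp only [this]
  rw [Finset.sum_add_distrib, Finset.sum_ite_eq Finset.univ i]
  simp only [Finset.mem_univ, if_true]
  congr 1
  split_ifs with h
  · rw [Finset.sum_eq_single (⟨i.val - 1, by have := i.2; omega⟩ : Fin (m + 3))]
    · have : i.val - 1 + 1 = i.val := by omega
      simp [this]
    · intro b _ hb
      have : ¬ (b.val + 1 = i.val) := fun h' => hb (Fin.ext (by simp; omega))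
      simp [this]
    · intro h'; exact absurd (Finset.mem_univ _) h'
  · apply Finset.sum_eq_zero
    intro b _
    have : ¬ (b.val + 1 = i.val) := by omega
    simp [this]

theorem vecN_vecMul_v (X : ℕ → F) :
    (vecN X : Fin (m + 3) → F) ᵥ* vM F m = vecN (fun j => X j + if j + 1 < m + 3 then X (j + 1) else 0) := by
  ext j
  rw [vecMul_v]
  simp only [vecN]
  split_ifs <;> rfl

theorem v_mulVec_vecN (X : ℕ → F) :
    vM F m *ᵥ (vecN X : Fin (m + 3) → F) = vecN (fun i => X i + if 0 < i then X (i - 1) else 0) := by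
  ext j
  rw [mulVec_v]
  simp only [vecN]
  split_ifs <;> rfl

theorem E_succ_v (k : ℕ) (hk : k + 1 < m + 3) :
    (E (k + 1) : Fin (m + 3) → F) ᵥ* vM F m = E (k + 1) + E k := by
  ext j
  rw [vecMul_v]
  simp only [E, Pi.add_apply]
  have := j.2
  split_ifs <;> first | omega | simp

theorem E_zero_v : (E 0 : Fin (m + 3) → F) ᵥ* vM F m = E 0 := by
  ext j
  rw [vecMul_v]
  simp only [E]
  split_ifs <;> first | omega | contradiction | simp

theorem v_E (k : ℕ) : vM F m *ᵥ (E k : Fin (m + 3) → F) = E k + E (k + 1) := by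
  ext j
  rw [mulVec_v]
  simp only [E, Pi.add_apply]
  have := j.2
  split_ifs <;> first | omega | simp

/-- matrix given by its rows, indexed by naturals -/
def ofRows (r : ℕ → Fin (m + 3) → F) : Matrix (Fin (m + 3)) (Fin (m + 3)) F := fun i => r i.val

theorem E_ofRows (r : ℕ → Fin (m + 3) → F) (k : ℕ) (hk : k < m + 3) : E k ᵥ* ofRows r = r k := by
  have : (E k : Fin (m + 3) → F) = e ⟨k, hk⟩ := by rw [← E_val]
  rw [this, single_one_vecMul]
  rfl

theorem ofRows_mulVec (r : ℕ → Fin (m + 3) → F) (x : Fin (m + 3) → F) (i : Fin (m + 3)) :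
    (ofRows r *ᵥ x) i = r i.val ⬝ᵥ x := rfl

theorem E_vecMul (M : Matrix (Fin (m + 3)) (Fin (m + 3)) F) (k : ℕ) (hk : k < m + 3) :
    E k ᵥ* M = M ⟨k, hk⟩ := by
  have : (E k : Fin (m + 3) → F) = e ⟨k, hk⟩ := by rw [← E_val]
  rw [this, single_one_vecMul]
  rfl

theorem mulVec_E (M : Matrix (Fin (m + 3)) (Fin (m + 3)) F) (k : ℕ) (hk : k < m + 3) (i : Fin (m + 3)) :
    (M *ᵥ E k) i = M i ⟨k, hk⟩ := by
  have : (E k : Fin (m + 3) → F) = e ⟨k, hk⟩ := by rw [← E_val]
  rw [this, mulVec_single_one]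
  rfl

/-- two matrices with the same rows are equal -/
theorem ext_rows {A B : Matrix (Fin (m + 3)) (Fin (m + 3)) F}
    (h : ∀ k, k < m + 3 → E k ᵥ* A = E k ᵥ* B) : A = B := by
  ext i j
  have := h i.val i.2
  rw [E_vecMul _ _ i.2, E_vecMul _ _ i.2] at this
  exact congrFun this j

theorem ext_cols {A B : Matrix (Fin (m + 3)) (Fin (m + 3)) F}
    (h : ∀ k, k < m + 3 → A *ᵥ E k = B *ᵥ E k) : A = B := by
  ext i j
  have := congrFun (h j.val j.2) i
  rwa [mulVec_E _ _ j.2, mulVec_E _ _ j.2] at this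

section transfer

variable {ι : Type*} [Fintype ι] [DecidableEq ι]

/-- the quotient `g v g⁻¹ v⁻¹` -/
def sS (g v : SpecialLinearGroup ι F) : SpecialLinearGroup ι F := g * v * g⁻¹ * v⁻¹

theorem sS_mem {H : Subgroup (SpecialLinearGroup ι F)} {g v : SpecialLinearGroup ι F}
    (hv : v ∈ H) (hu : g * v * g⁻¹ ∈ H) : sS g v ∈ H := H.mul_mem hu (H.inv_mem hv)

theorem row_transfer (g v : SpecialLinearGroup ι F) {x η : ι → F}
    (h : (η ᵥ* v.1) ᵥ* g.1 = (x ᵥ* g.1) ᵥ* v.1) : x ᵥ* (sS g v).1 = η := by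
  have h1 : (sS g v).1 = g.1 * v.1 * (g⁻¹).1 * (v⁻¹).1 := by
    simp only [sS]
    rfl
  rw [h1, ← vecMul_vecMul, ← vecMul_vecMul, ← vecMul_vecMul, ← h, vecMul_vecMul (η ᵥ* v.1),
    coe_mul_inv, vecMul_one, vecMul_vecMul, coe_mul_inv, vecMul_one]

theorem col_transfer (g v : SpecialLinearGroup ι F) (ζ : ι → F) :
    (sS g v).1 *ᵥ (v.1 *ᵥ (g.1 *ᵥ ζ)) = g.1 *ᵥ (v.1 *ᵥ ζ) := by
  have h1 : (sS g v).1 = g.1 * v.1 * (g⁻¹).1 * (v⁻¹).1 := by
    simp only [sS]
    rfl
  rw [h1, mulVec_mulVec, mul_assoc _ (v⁻¹).1, coe_inv_mul, mul_one, mulVec_mulVec,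
    mul_assoc _ (g⁻¹).1, coe_inv_mul, mul_one, ← mulVec_mulVec]

theorem coe_pow' (s : SpecialLinearGroup ι F) (N : ℕ) : (s ^ N).1 = s.1 ^ N :=
  Matrix.SpecialLinearGroup.coe_pow s N

end transfer

section regunip

/-- regular unipotent elements -/
def IsRU (u : SpecialLinearGroup (Fin (m + 3)) F) : Prop :=
  IsNilpotent (u.1 - 1) ∧ (u.1 - 1) ^ (m + 2) ≠ 0

theorem vM_eq_transpose : vM F m = (upMat F m)ᵀ := by
  ext i j
  simp only [loMat, upMat, transpose_apply, eq_comm (a := i)]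

theorem vM_sub_one_pow (k : ℕ) : (vM F m - 1) ^ k = ((upMat F m - 1) ^ k)ᵀ := by
  rw [transpose_pow, transpose_sub, transpose_one, vM_eq_transpose]

theorem vS_isRU : IsRU (vS F m) := by
  constructor
  · obtain ⟨k, hk⟩ := up_nilpotent (F := F) (m := m)
    refine ⟨k, ?_⟩
    show (vM F m - 1) ^ k = 0
    rw [vM_sub_one_pow, hk, transpose_zero]
  · show (vM F m - 1) ^ (m + 2) ≠ 0
    rw [vM_sub_one_pow]
    intro h
    apply up_pow_ne_zero (F := F) (m := m)
    rw [← transpose_transpose ((upMat F m - 1) ^ (m + 2)), h, transpose_zero]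

theorem conj_pow (g : SpecialLinearGroup (Fin (m + 3)) F) (N : Matrix (Fin (m + 3)) (Fin (m + 3)) F) (k : ℕ) :
    (g.1 * N * (g⁻¹).1) ^ k = g.1 * N ^ k * (g⁻¹).1 := by
  induction k with
  | zero => rw [pow_zero, pow_zero, mul_one, coe_mul_inv]
  | succ k ih =>
    rw [pow_succ, ih, pow_succ]
    calc g.1 * N ^ k * (g⁻¹).1 * (g.1 * N * (g⁻¹).1)
        = g.1 * N ^ k * ((g⁻¹).1 * g.1) * N * (g⁻¹).1 := by simp only [mul_assoc]
      _ = g.1 * (N ^ k * N) * (g⁻¹).1 := by rw [coe_inv_mul, mul_one, mul_assoc g.1]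

theorem conj_sub_one (g u : SpecialLinearGroup (Fin (m + 3)) F) :
    (g * u * g⁻¹).1 - 1 = g.1 * (u.1 - 1) * (g⁻¹).1 := by
  have : (g * u * g⁻¹).1 = g.1 * u.1 * (g⁻¹).1 := rfl
  rw [this, mul_sub, sub_mul, mul_one, coe_mul_inv]

theorem IsRU.conj {u : SpecialLinearGroup (Fin (m + 3)) F} (h : IsRU u)
    (g : SpecialLinearGroup (Fin (m + 3)) F) : IsRU (g * u * g⁻¹) := by
  constructor
  · obtain ⟨k, hk⟩ := h.1
    refine ⟨k, ?_⟩
    rw [conj_sub_one, conj_pow, hk, mul_zero, zero_mul]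
  · rw [conj_sub_one, conj_pow]
    intro h0
    apply h.2
    calc (u.1 - 1) ^ (m + 2) = ((g⁻¹).1 * g.1) * (u.1 - 1) ^ (m + 2) * ((g⁻¹).1 * g.1) := by
          rw [coe_inv_mul, one_mul, mul_one]
      _ = (g⁻¹).1 * (g.1 * (u.1 - 1) ^ (m + 2) * (g⁻¹).1) * g.1 := by simp only [mul_assoc]
      _ = 0 := by rw [h0, mul_zero, zero_mul]

end regunip

section generation

variable {H : Subgroup (SpecialLinearGroup (Fin (m + 3)) F)}

/-- the generation criterion -/
theorem eq_top_of_root (hv : vS F m ∈ H) (h1 : ∀ x : F, InH H (x • E 0) (E (m + 2))) : H = ⊤ := by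
  rw [E_zero, E_last] at h1
  exact eq_top_of_fullF (step3 (c := fun _ => 1) hv (fun _ => one_ne_zero)
    (fun j => lo_row (fun _ => (1 : F)) j)
    (full_last (c := fun _ => 1) hv (fun _ => one_ne_zero) (fun j => lo_col (fun _ => (1 : F)) j) h1))

end generation

section calculus

variable {ι : Type*} [Fintype ι] [DecidableEq ι] {H : Subgroup (SpecialLinearGroup ι F)}

/-- scalars `x` such that the transvection `(x a, φ)` lies in `H` -/
def dirSub (H : Subgroup (SpecialLinearGroup ι F)) (a φ : ι → F) (h0 : φ ⬝ᵥ a = 0) : AddSubgroup F where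
  carrier := {x | InH H (x • a) φ}
  zero_mem' := by
    show InH H ((0 : F) • a) φ
    rw [zero_smul]; exact InH.zero _
  add_mem' := by
    intro x y hx hy
    show InH H ((x + y) • a) φ
    rw [add_smul]
    exact InH.add hx hy (by rw [dotProduct_smul, h0, smul_zero])
  neg_mem' := by
    intro x hx
    show InH H ((-x) • a) φ
    rw [neg_smul]
    exact InH.neg hx (by rw [dotProduct_smul, h0, smul_zero])

theorem mem_dirSub {a φ : ι → F} {h0 : φ ⬝ᵥ a = 0} {x : F} : x ∈ dirSub H a φ h0 ↔ InH H (x • a) φ := Iff.rfl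

theorem addSubgroup_top_of_prime [Fintype F] (hp : (Fintype.card F).Prime) (A : AddSubgroup F) {C : F}
    (hC : C ≠ 0) (h : C ∈ A) (x : F) : x ∈ A := by
  have : Fact (Nat.card F).Prime := ⟨by rwa [Nat.card_eq_fintype_card]⟩
  rcases A.eq_bot_or_eq_top_of_prime_card with h1 | h1
  · rw [h1, AddSubgroup.mem_bot] at h
    exact absurd h hC
  · rw [h1]; trivial

/-- additivity in the row vector -/
theorem InH.addF {a φ φ' : ι → F} (h : InH H a φ) (h' : InH H a φ') (h0 : φ ⬝ᵥ a = 0) :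
    InH H a (φ + φ') := by
  obtain ⟨x, hx, hxe⟩ := h
  obtain ⟨y, hy, hye⟩ := h'
  refine ⟨x * y, H.mul_mem hx hy, ?_⟩
  rw [Matrix.SpecialLinearGroup.coe_mul, hxe, hye, mul_add, add_mul, add_mul, mul_one, one_mul, mul_one,
    vecMulVec_mul_vecMulVec, h0, zero_smul, vecMulVec_zero, add_zero, vecMulVec_add, add_assoc]

theorem InH.negF {a φ : ι → F} (h : InH H a φ) (h0 : φ ⬝ᵥ a = 0) : InH H a (-φ) := by
  have := h.neg h0
  unfold InH at this ⊢
  rwa [neg_vecMulVec, ← vecMulVec_neg] at this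

/-- powers of a matrix on a two-step flag -/
theorem pow_mulVec_aux (s : Matrix ι ι F) {a b : ι → F} {μ d ρ : F} (ha : s *ᵥ a = μ • a)
    (hb : s *ᵥ b = d • b + ρ • a) (N : ℕ) :
    ∃ c : F, (s ^ N) *ᵥ b = d ^ N • b + (ρ * c) • a ∧ c * (μ - d) = μ ^ N - d ^ N ∧
      (d = μ → c * μ = N * μ ^ N) := by
  induction N with
  | zero => exact ⟨0, by simp, by simp, by simp⟩
  | succ N ih =>
    obtain ⟨c, h1, h2, h3⟩ := ih
    refine ⟨d ^ N + μ * c, ?_, ?_, ?_⟩
    · rw [pow_succ', ← mulVec_mulVec, h1, mulVec_add, mulVec_smul, mulVec_smul, ha, hb]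
      ext i
      simp only [Pi.add_apply, Pi.smul_apply, smul_eq_mul]
      ring
    · linear_combination μ * h2
    · intro hd
      have := h3 hd
      subst hd
      push_cast
      linear_combination d * this

theorem pow_mulVec_eig (s : Matrix ι ι F) {a : ι → F} {μ : F} (ha : s *ᵥ a = μ • a) (N : ℕ) :
    (s ^ N) *ᵥ a = μ ^ N • a := by
  induction N with
  | zero => simp
  | succ N ih => rw [pow_succ', ← mulVec_mulVec, ih, mulVec_smul, ha, smul_smul, pow_succ]

theorem vecMul_pow_eig (s : Matrix ι ι F) {a : ι → F} {μ : F} (ha : a ᵥ* s = μ • a) (N : ℕ) :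
    a ᵥ* (s ^ N) = μ ^ N • a := by
  induction N with
  | zero => simp
  | succ N ih => rw [pow_succ, ← vecMul_vecMul, ih, smul_vecMul, ha, smul_smul, pow_succ]

end calculus

section alternating

/-- the alternating column vector `v⁻¹ e₀` -/
def alt (F : Type*) [Field F] (m : ℕ) : Fin (m + 3) → F := vecN (fun j => (-1) ^ j)

theorem v_alt : vM F m *ᵥ alt F m = E 0 := by
  rw [alt, v_mulVec_vecN]
  ext i
  simp only [vecN, E]
  by_cases h : i.val = 0
  · simp [h]
  · obtain ⟨k, hk⟩ : ∃ k, i.val = k + 1 := ⟨i.val - 1, by omega⟩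
    simp only [hk, Nat.succ_pos, if_true, Nat.add_sub_cancel, Nat.succ_ne_zero, if_false]
    ring

theorem vinv_E0 : ((vS F m)⁻¹).1 *ᵥ E 0 = alt F m := by
  rw [← v_alt, mulVec_mulVec]
  have : ((vS F m)⁻¹).1 * vM F m = 1 := coe_inv_mul (vS F m)
  rw [this, one_mulVec]

theorem vinv_E1 : ((vS F m)⁻¹).1 *ᵥ E 1 = E 0 - alt F m := by
  have h1 : vM F m *ᵥ (E 0 - alt F m) = E 1 := by
    rw [mulVec_sub, v_alt, v_E]; simp
  rw [← h1, mulVec_mulVec]
  have : ((vS F m)⁻¹).1 * vM F m = 1 := coe_inv_mul (vS F m)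
  rw [this, one_mulVec]

end alternating

section geometric

variable {ι : Type*} [Fintype ι] [DecidableEq ι]

/-- geometric sum of a matrix -/
def Geo (s : Matrix ι ι F) (N : ℕ) : Matrix ι ι F := ∑ i ∈ Finset.range N, s ^ i

theorem Geo_succ (s : Matrix ι ι F) (N : ℕ) : Geo s (N + 1) = Geo s N + s ^ N := by
  simp only [Geo, Finset.sum_range_succ]

theorem Geo_add (s : Matrix ι ι F) (L K : ℕ) : Geo s (L + K) = Geo s L + s ^ L * Geo s K := by
  simp only [Geo, Finset.sum_range_add, Finset.mul_sum, pow_add]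

theorem Geo_comm (s : Matrix ι ι F) (N t : ℕ) : s ^ t * Geo s N = Geo s N * s ^ t := by
  simp only [Geo, Finset.mul_sum, Finset.sum_mul, ← pow_add, add_comm]

theorem geo_double {s : Matrix ι ι F} {x : ι → F} {L : ℕ} (h : x ᵥ* s ^ L = -x) :
    x ᵥ* Geo s (2 * L) = 0 := by
  rw [two_mul, Geo_add, vecMul_add, ← vecMul_vecMul, h, neg_vecMul, add_neg_cancel]

theorem geo_shift {s : Matrix ι ι F} {x : ι → F} {N : ℕ} (h : x ᵥ* Geo s N = 0) (t : ℕ) :
    (x ᵥ* s ^ t) ᵥ* Geo s N = 0 := by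
  rw [vecMul_vecMul, Geo_comm, ← vecMul_vecMul, h, zero_vecMul]

theorem geo_fixed {s : Matrix ι ι F} {x : ι → F} (h : x ᵥ* s = x) (N : ℕ) :
    x ᵥ* Geo s N = (N : F) • x := by
  induction N with
  | zero => simp [Geo]
  | succ N ih =>
    have h1 : x ᵥ* s ^ N = x := by
      have := vecMul_pow_eig s (a := x) (μ := 1) (by rw [h, one_smul]) N
      rwa [one_pow, one_smul] at this
    rw [Geo_succ, vecMul_add, ih, h1]
    push_cast
    rw [add_smul, one_smul]

theorem pow_of_geom {s : Matrix (Fin (m + 3)) (Fin (m + 3)) F} {N : ℕ} {c : F}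
    (h0 : s *ᵥ E 0 = E 0) (hl : s *ᵥ E (m + 2) = E (m + 2) + c • E 0)
    (hrl : E (m + 2) ᵥ* s = E (m + 2))
    (hmid : ∀ k, 1 ≤ k → k ≤ m + 1 → E k ᵥ* Geo s N = 0) :
    s ^ N = 1 + vecMulVec (((N : F) * c) • E 0) (E (m + 2)) := by
  have key : (s - 1) * Geo s N = vecMulVec (((N : F) * c) • E 0) (E (m + 2)) := by
    apply ext_rows
    intro i hi
    rw [← vecMul_vecMul, vecMul_vecMulVec]
    set y := E i ᵥ* (s - 1) with hy
    have hy0 : y 0 = 0 := by
      have h1 : y 0 = ((s - 1) *ᵥ E 0) ⟨i, hi⟩ := by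
        rw [hy, E_vecMul _ _ hi, mulVec_E _ _ (by omega : 0 < m + 3)]; rfl
      rw [h1, sub_mulVec, h0, one_mulVec]; simp
    have hyl : y (Fin.last (m + 2)) = c * (E 0 : Fin (m + 3) → F) ⟨i, hi⟩ := by
      have h1 : y (Fin.last (m + 2)) = ((s - 1) *ᵥ E (m + 2)) ⟨i, hi⟩ := by
        rw [hy, E_vecMul _ _ hi, mulVec_E _ _ (by omega : m + 2 < m + 3)]; rfl
      rw [h1, sub_mulVec, hl, one_mulVec]; simp
    rw [vecMul_eq_sum, Finset.sum_eq_single (Fin.last (m + 2))]
    · have h2 : Geo s N (Fin.last (m + 2)) = (N : F) • E (m + 2) := by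
        rw [← geo_fixed hrl N, E_vecMul _ _ (by omega : m + 2 < m + 3)]; rfl
      rw [h2, hyl, dotProduct_smul, E_dot _ hi, smul_smul, smul_eq_mul]
      congr 1
      ring
    · intro k _ hk
      by_cases hk0 : k = 0
      · rw [hk0, hy0, zero_smul]
      · have h2 : Geo s N k = 0 := by
          have hk1 : 1 ≤ k.val := Nat.pos_of_ne_zero (fun h => hk0 (Fin.ext h))
          have hk2 : k.val ≤ m + 1 := by
            have h3 := k.2
            have h4 : k.val ≠ m + 2 := fun h => hk (Fin.ext h)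
            omega
          rw [← hmid k.val hk1 hk2, E_vecMul _ _ k.2]
        rw [h2, smul_zero]
    · intro h; exact absurd (Finset.mem_univ _) h
  have := mul_geom_sum s N
  rw [show (∑ i ∈ Finset.range N, s ^ i) = Geo s N from rfl, key] at this
  rw [this]; abel

/-- a row vector supported on vanishing rows is killed -/
theorem vecMul_eq_zero_of_support {M : Matrix ι ι F} {x : ι → F} (h : ∀ i, x i = 0 ∨ M i = 0) :
    x ᵥ* M = 0 := by
  rw [vecMul_eq_sum]
  apply Finset.sum_eq_zero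
  intro i _
  rcases h i with h | h <;> simp [h]

/-- alternating geometric sum -/
def Palt (s : Matrix ι ι F) (N : ℕ) : Matrix ι ι F := ∑ i ∈ Finset.range N, ((-1 : F) ^ i) • s ^ i

theorem Palt_succ (s : Matrix ι ι F) (N : ℕ) : Palt s (N + 1) = Palt s N + ((-1 : F) ^ N) • s ^ N := by
  simp only [Palt, Finset.sum_range_succ]

theorem Palt_mul (s : Matrix ι ι F) (N : ℕ) : Palt s N * (1 + s) = 1 - ((-1 : F) ^ N) • s ^ N := by
  induction N with
  | zero => simp [Palt]
  | succ N ih =>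
    rw [Palt_succ, add_mul, ih, mul_add, mul_one, smul_mul_assoc, ← pow_succ, pow_succ (-1 : F)]
    simp only [mul_neg, mul_one, neg_smul]
    abel

end geometric

end Cfsg.Agent.Lib.Helper43Two
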