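import Mathlib
import Cfsg.Agent.Lib.Helper43Two

set_option autoImplicit false

namespace Cfsg.Agent.Lib.Helper43TwoA

open Matrix Cfsg.Agent.Lib.Helper43Transv Cfsg.Agent.Lib.Helper43RegUnip Cfsg.Agent.Lib.Helper43Two

variable {F : Type*} [Field F] {m : ℕ}

/-- rows of the conjugating matrix (torus design) -/
def rowA (μ ν : F) (k : ℕ) : Fin (m + 3) → F :=
  if k = 0 then (μ⁻¹ * ν⁻¹ * ν⁻¹) • (E 0 + (-((μ - 1) + 2 * (ν - 1))) • E 1
      + (2 * (μ - 1) * (ν - 1) + (ν - 1) ^ 2) • E 2 + (-((μ - 1) * (ν - 1) ^ 2)) • E 3)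
  else if k = m + 2 then E (m + 2)
  else if k = m + 1 then μ⁻¹ • (E (m + 1) + (-(μ - 1)) • E (m + 2))
  else (μ⁻¹ * ν⁻¹) • (E k + (-((μ - 1) + (ν - 1))) • E (k + 1) + ((μ - 1) * (ν - 1)) • E (k + 2))

theorem rowA_zero (μ ν : F) : (rowA μ ν 0 : Fin (m + 3) → F) =
    (μ⁻¹ * ν⁻¹ * ν⁻¹) • (E 0 + (-((μ - 1) + 2 * (ν - 1))) • E 1
      + (2 * (μ - 1) * (ν - 1) + (ν - 1) ^ 2) • E 2 + (-((μ - 1) * (ν - 1) ^ 2)) • E 3) := by
  simp [rowA]

theorem rowA_last (μ ν : F) : (rowA μ ν (m + 2) : Fin (m + 3) → F) = E (m + 2) := by simp [rowA]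

theorem rowA_pen (μ ν : F) : (rowA μ ν (m + 1) : Fin (m + 3) → F) =
    μ⁻¹ • (E (m + 1) + (-(μ - 1)) • E (m + 2)) := by simp [rowA]

theorem rowA_mid (μ ν : F) {k : ℕ} (hk : 1 ≤ k) (hk' : k ≤ m) : (rowA μ ν k : Fin (m + 3) → F) =
    (μ⁻¹ * ν⁻¹) • (E k + (-((μ - 1) + (ν - 1))) • E (k + 1) + ((μ - 1) * (ν - 1)) • E (k + 2)) := by
  have h0 : k ≠ 0 := by omega
  have h1 : k ≠ m + 2 := by omega
  have h2 : k ≠ m + 1 := by omega
  simp [rowA, h0, h1, h2]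

/-- the diagonal of the torus part -/
def dN (m : ℕ) (μ ν : F) (k : ℕ) : F :=
  if k = 0 ∨ k = m + 2 then μ else if k = 1 ∨ k = m + 1 then ν else 1

theorem det_gA (μ ν : F) (hε : (μ * ν) ^ (m + 2) = 1) :
    (ofRows (rowA μ ν) : Matrix (Fin (m + 3)) (Fin (m + 3)) F).det = 1 := by
  rw [det_of_isUpperTriangular]
  · have hdiag : ∀ i : Fin (m + 3), (ofRows (rowA μ ν) : Matrix (Fin (m + 3)) (Fin (m + 3)) F) i i =
        (fun k : ℕ => if k = 0 then μ⁻¹ * ν⁻¹ * ν⁻¹ else if k = m + 2 then 1 else if k = m + 1 then μ⁻¹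
          else μ⁻¹ * ν⁻¹) i.val := by
      intro i
      simp only [ofRows, rowA]
      have hi := i.2
      split_ifs with h0 h1 h2
      · simp [E, h0]
      · simp [E, h1]
      · simp [E, h2]
      · simp [E]
    simp only [hdiag]
    rw [Fin.prod_univ_eq_prod_range (fun k : ℕ => if k = 0 then μ⁻¹ * ν⁻¹ * ν⁻¹ else if k = m + 2 then 1
      else if k = m + 1 then μ⁻¹ else μ⁻¹ * ν⁻¹) (m + 3), Finset.prod_range_succ, Finset.prod_range_succ,
      Finset.prod_range_succ']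
    have h1 : ∏ k ∈ Finset.range m, (if k + 1 = 0 then μ⁻¹ * ν⁻¹ * ν⁻¹ else if k + 1 = m + 2 then 1
      else if k + 1 = m + 1 then μ⁻¹ else μ⁻¹ * ν⁻¹) = (μ⁻¹ * ν⁻¹) ^ m := by
      rw [Finset.prod_congr rfl (g := fun _ => μ⁻¹ * ν⁻¹), Finset.prod_const, Finset.card_range]
      intro k hk
      have := Finset.mem_range.1 hk
      have a0 : ¬ (k + 1 = 0) := by omega
      have a1 : ¬ (k + 1 = m + 2) := by omega
      have a2 : ¬ (k + 1 = m + 1) := by omega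
      simp only [if_neg a0, if_neg a1, if_neg a2]
    rw [h1]
    simp only [if_true, Nat.succ_ne_zero, if_false]
    have a3 : ¬ (m + 1 = m + 2) := by omega
    simp only [a3, if_false, mul_one]
    calc (μ⁻¹ * ν⁻¹) ^ m * (μ⁻¹ * ν⁻¹ * ν⁻¹) * μ⁻¹ = ((μ * ν) ^ (m + 2))⁻¹ := by
          rw [← inv_pow, mul_inv, pow_add]; ring
      _ = 1 := by rw [hε, inv_one]
  · intro i j hij
    have hij' : j.val < i.val := hij
    have hi := i.2
    simp only [ofRows, rowA]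
    split_ifs with h0 h1 h2
    · omega
    · have a1 : ¬ (j.val = m + 2) := by omega
      simp [E, a1]
    · have a1 : ¬ (j.val = m + 2) := by omega
      have a2 : ¬ (j.val = m + 1) := by omega
      simp [E, a1, a2]
    · have a1 : ¬ (j.val = i.val) := by omega
      have a2 : ¬ (j.val = i.val + 1) := by omega
      have a3 : ¬ (j.val = i.val + 2) := by omega
      simp [E, a1, a2, a3]

section facts

variable (μ ν : F) (hε : (μ * ν) ^ (m + 2) = 1)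

/-- the conjugating element -/
def gA : SpecialLinearGroup (Fin (m + 3)) F := ⟨ofRows (rowA μ ν), det_gA μ ν hε⟩

/-- the quotient element -/
abbrev sA : SpecialLinearGroup (Fin (m + 3)) F := sS (gA μ ν hε) (vS F m)

variable (hμ : μ ≠ 0) (hν : ν ≠ 0) (hm1 : 1 ≤ m)

include hμ hν hm1 in
theorem sA_row {i : ℕ} (hi1 : 1 ≤ i) (hi : i ≤ m + 2) : E i ᵥ* (sA μ ν hε).1 = dN m μ ν i • E i := by
  apply row_transfer
  show ((dN m μ ν i • E i) ᵥ* vM F m) ᵥ* ofRows (rowA μ ν) = (E i ᵥ* ofRows (rowA μ ν)) ᵥ* vM F m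
  obtain ⟨k, rfl⟩ : ∃ k, i = k + 1 := ⟨i - 1, by omega⟩
  rw [smul_vecMul, E_succ_v k (by omega), smul_vecMul, add_vecMul, E_ofRows _ _ (by omega),
    E_ofRows _ _ (by omega)]
  by_cases h1 : k = m + 1
  · subst h1
    have hd : dN m μ ν (m + 1 + 1) = μ := by simp [dN]
    rw [hd, rowA_last, rowA_pen, E_succ_v (m + 1) (by omega)]
    ext j
    simp only [Pi.add_apply, Pi.smul_apply, smul_eq_mul]
    field_simp
    ring
  by_cases h2 : k = m
  · subst h2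
    have hd : dN k μ ν (k + 1) = ν := by
      have a1 : ¬ (k + 1 = 0 ∨ k + 1 = k + 2) := by omega
      simp [dN]
    rw [hd, rowA_pen, rowA_mid μ ν hm1 le_rfl]
    simp only [smul_vecMul, add_vecMul]
    rw [E_succ_v k (by omega), E_succ_v (k + 1) (by omega)]
    ext j
    simp only [Pi.add_apply, Pi.smul_apply, smul_eq_mul]
    field_simp
    ring
  by_cases h3 : k = 0
  · subst h3
    have hd : dN m μ ν (0 + 1) = ν := by
      have a1 : ¬ (0 + 1 = 0 ∨ 0 + 1 = m + 2) := by omega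
      simp [dN]
    rw [hd, rowA_zero, rowA_mid μ ν (k := 0 + 1) le_rfl hm1]
    simp only [smul_vecMul, add_vecMul]
    rw [E_succ_v 0 (by omega), E_succ_v (0 + 1) (by omega), E_succ_v (0 + 1 + 1) (by omega)]
    ext j
    simp only [Pi.add_apply, Pi.smul_apply, smul_eq_mul]
    field_simp
    ring
  · have hd : dN m μ ν (k + 1) = 1 := by
      have a1 : ¬ (k + 1 = 0 ∨ k + 1 = m + 2) := by omega
      have a2 : ¬ (k + 1 = 1 ∨ k + 1 = m + 1) := by omega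
      simp only [dN, if_neg a1, if_neg a2]
    rw [hd, rowA_mid μ ν (k := k + 1) (by omega) (by omega), rowA_mid μ ν (k := k) (by omega) (by omega)]
    simp only [smul_vecMul, add_vecMul]
    rw [E_succ_v k (by omega), E_succ_v (k + 1) (by omega), E_succ_v (k + 1 + 1) (by omega)]
    ext j
    simp only [Pi.add_apply, Pi.smul_apply, smul_eq_mul]
    ring

omit hε in
include hm1 in
theorem gA_mulVec_vecN (X : ℕ → F) :
    (ofRows (rowA μ ν) : Matrix (Fin (m + 3)) (Fin (m + 3)) F) *ᵥ vecN X =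
      vecN (fun i => if i = 0 then (μ⁻¹ * ν⁻¹ * ν⁻¹) * (X 0 + (-((μ - 1) + 2 * (ν - 1))) * X 1
          + (2 * (μ - 1) * (ν - 1) + (ν - 1) ^ 2) * X 2 + (-((μ - 1) * (ν - 1) ^ 2)) * X 3)
        else if i = m + 2 then X (m + 2)
        else if i = m + 1 then μ⁻¹ * (X (m + 1) + (-(μ - 1)) * X (m + 2))
        else (μ⁻¹ * ν⁻¹) * (X i + (-((μ - 1) + (ν - 1))) * X (i + 1) + ((μ - 1) * (ν - 1)) * X (i + 2))) := by
  ext i
  rw [ofRows_mulVec]
  have hi := i.2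
  simp only [rowA, vecN]
  split_ifs with h0 h1 h2
  · simp only [smul_dotProduct, add_dotProduct]
    rw [E_dot _ (by omega), E_dot _ (by omega), E_dot _ (by omega), E_dot _ (by omega)]; rfl
  · rw [E_dot _ (by omega)]; rfl
  · simp only [smul_dotProduct, add_dotProduct]
    rw [E_dot _ (by omega), E_dot _ (by omega)]; rfl
  · simp only [smul_dotProduct, add_dotProduct]
    rw [E_dot _ (by omega), E_dot _ (by omega), E_dot _ (by omega)]; rfl

omit hε in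
include hμ hν hm1 in
theorem gA_alt : (ofRows (rowA μ ν) : Matrix (Fin (m + 3)) (Fin (m + 3)) F) *ᵥ alt F m = alt F m := by
  rw [alt, gA_mulVec_vecN μ ν hm1]
  ext i
  simp only [vecN]
  split_ifs with h0 h1 h2
  · rw [h0]; field_simp; ring
  · rw [h1]
  · rw [h2]; field_simp; ring
  · field_simp; ring

omit hε in
include hm1 in
theorem gA_E0 : (ofRows (rowA μ ν) : Matrix (Fin (m + 3)) (Fin (m + 3)) F) *ᵥ E 0 =
    (μ⁻¹ * ν⁻¹ * ν⁻¹) • E 0 := by
  show (ofRows (rowA μ ν) : Matrix (Fin (m + 3)) (Fin (m + 3)) F) *ᵥ vecN (fun j => if j = 0 then 1 else 0) = _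
  rw [gA_mulVec_vecN μ ν hm1]
  ext i
  have hi := i.2
  simp only [vecN, E, Pi.smul_apply, smul_eq_mul]
  split_ifs <;> first | contradiction | omega | simp

omit hε in
include hm1 in
theorem gA_E1 : (ofRows (rowA μ ν) : Matrix (Fin (m + 3)) (Fin (m + 3)) F) *ᵥ E 1 =
    ((μ⁻¹ * ν⁻¹ * ν⁻¹) * (-((μ - 1) + 2 * (ν - 1)))) • E 0 + (μ⁻¹ * ν⁻¹) • E 1 := by
  show (ofRows (rowA μ ν) : Matrix (Fin (m + 3)) (Fin (m + 3)) F) *ᵥ vecN (fun j => if j = 1 then 1 else 0) = _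
  rw [gA_mulVec_vecN μ ν hm1]
  ext i
  have hi := i.2
  simp only [vecN, E, Pi.smul_apply, Pi.add_apply, smul_eq_mul]
  split_ifs <;> first | contradiction | omega | simp

include hμ hν hm1 in
theorem sA_col_zero : (sA μ ν hε).1 *ᵥ E 0 = (μ⁻¹ * ν⁻¹ * ν⁻¹) • E 0 := by
  have h := col_transfer (gA μ ν hε) (vS F m) (alt F m)
  have e1 : (gA μ ν hε).1 *ᵥ alt F m = alt F m := gA_alt μ ν hμ hν hm1
  have e2 : (vS F m).1 *ᵥ alt F m = E 0 := v_alt
  have e3 : (gA μ ν hε).1 *ᵥ E 0 = (μ⁻¹ * ν⁻¹ * ν⁻¹) • E 0 := gA_E0 μ ν hm1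
  rwa [e1, e2, e3] at h

include hμ hν hm1 in
theorem sA_col_one : (sA μ ν hε).1 *ᵥ E 1 =
    ν • E 1 + (1 - ((μ - 1) + 2 * (ν - 1)) - μ⁻¹ * ν⁻¹ * ν⁻¹) • E 0 := by
  have h := col_transfer (gA μ ν hε) (vS F m) (E 0)
  have e3 : (gA μ ν hε).1 *ᵥ E 0 = (μ⁻¹ * ν⁻¹ * ν⁻¹) • E 0 := gA_E0 μ ν hm1
  have e4 : (gA μ ν hε).1 *ᵥ E 1 = _ := gA_E1 μ ν hm1
  have e5 : (vS F m).1 *ᵥ (E 0 : Fin (m + 3) → F) = E 0 + E 1 := v_E 0
  rw [e3, mulVec_smul, e5, mulVec_smul, mulVec_add, mulVec_add, e3, e4, sA_col_zero μ ν hε hμ hν hm1] at h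
  have h2 : (μ⁻¹ * ν⁻¹ * ν⁻¹) • ((sA μ ν hε).1 *ᵥ E 1) =
      (μ⁻¹ * ν⁻¹ * ν⁻¹) • E 0 + ((μ⁻¹ * ν⁻¹ * ν⁻¹ * -(μ - 1 + 2 * (ν - 1))) • E 0 + (μ⁻¹ * ν⁻¹) • E 1)
        - (μ⁻¹ * ν⁻¹ * ν⁻¹) • ((μ⁻¹ * ν⁻¹ * ν⁻¹) • E 0) := by
    rw [← h, smul_add]; abel
  have h3 := congrArg (fun x => (μ * ν * ν) • x) h2
  simp only [smul_smul] at h3
  have h4 : μ * ν * ν * (μ⁻¹ * ν⁻¹ * ν⁻¹) = 1 := by field_simp
  rw [h4, one_smul] at h3
  rw [h3]
  ext j
  simp only [Pi.add_apply, Pi.sub_apply, Pi.smul_apply, smul_eq_mul]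
  field_simp
  ring

include hμ hν hm1 in
theorem sA_col {j : ℕ} (hj1 : 1 ≤ j) (hj : j ≤ m + 2) :
    (sA μ ν hε).1 *ᵥ E j = dN m μ ν j • E j + ((sA μ ν hε).1 0 ⟨j, by omega⟩) • E 0 := by
  ext i
  rw [mulVec_E _ _ (by omega : j < m + 3)]
  by_cases hi : i.val = 0
  · have : i = 0 := Fin.ext hi
    subst this
    have a1 : ¬ (0 = j) := by omega
    simp [E, a1]
  · have h1 := congrFun (sA_row μ ν hε hμ hν hm1 (i := i.val) (by omega) (by have := i.2; omega)) ⟨j, by omega⟩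
    rw [E_vecMul _ _ i.2] at h1
    have h2 : (sA μ ν hε).1 i ⟨j, by omega⟩ = (dN m μ ν i.val • (E i.val : Fin (m + 3) → F)) ⟨j, by omega⟩ := h1
    rw [h2]
    simp only [Pi.add_apply, Pi.smul_apply, E, smul_eq_mul, if_neg hi, mul_zero, add_zero]
    by_cases hij : j = i.val
    · subst hij; simp
    · have : ¬ (i.val = j) := fun h => hij h.symm
      simp [hij, this]

include hμ hν hm1 in
theorem sA_corner_ne_zero (h1 : μ ≠ 1) : (sA μ ν hε).1 0 ⟨m + 2, by omega⟩ ≠ 0 := by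
  intro h0
  have hc := sA_col μ ν hε hμ hν hm1 (j := m + 2) (by omega) le_rfl
  rw [h0, zero_smul, add_zero] at hc
  have hd : dN m μ ν (m + 2) = μ := by simp [dN]
  rw [hd] at hc
  -- the conjugate of `v` has the eigenvalue `μ`
  set u := gA μ ν hε * vS F m * (gA μ ν hε)⁻¹ with hu
  have hsu : (sA μ ν hε).1 * (vS F m).1 = u.1 := by
    have : sA μ ν hε * vS F m = u := by simp [sS, hu]
    rw [← this]; rfl
  have e2 : (vS F m).1 *ᵥ (E (m + 2) : Fin (m + 3) → F) = E (m + 2) := by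
    show vM F m *ᵥ _ = _
    rw [v_E]
    ext i
    have := i.2
    have h3 : ¬ (i.val = m + 2 + 1) := by omega
    simp [E, h3]
  have hue : (u.1 - 1) *ᵥ E (m + 2) = (μ - 1) • E (m + 2) := by
    rw [sub_mulVec, ← hsu, ← mulVec_mulVec, e2, hc, one_mulVec, sub_smul, one_smul]
  obtain ⟨k, hk⟩ := (vS_isRU.conj (gA μ ν hε)).1
  have := pow_mulVec_eig (u.1 - 1) hue k
  rw [hk, zero_mulVec] at this
  have h4 := congrFun this ⟨m + 2, by omega⟩
  simp only [Pi.zero_apply, Pi.smul_apply, E, if_true, smul_eq_mul, mul_one] at h4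
  exact pow_ne_zero k (sub_ne_zero.2 h1) h4.symm

include hμ hν hm1 in
/-- a power of the quotient element is a root element -/
theorem sA_pow (hrel : μ⁻¹ * ν⁻¹ * ν⁻¹ = μ) (h1 : μ ≠ 1) (hμν : μ ≠ ν) (N : ℕ) (hNμ : μ ^ N = 1)
    (hNν : ν ^ N = 1) (hN : (N : F) ≠ 0) :
    ∃ C : F, C ≠ 0 ∧ (sA μ ν hε).1 ^ N = 1 + vecMulVec (C • E 0) (E (m + 2)) := by
  have h0 : (sA μ ν hε).1 *ᵥ E 0 = μ • E 0 := by rw [sA_col_zero μ ν hε hμ hν hm1, hrel]
  obtain ⟨c, hc1, -, hc3⟩ := pow_mulVec_aux (sA μ ν hε).1 h0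
    (sA_col μ ν hε hμ hν hm1 (j := m + 2) (by omega) le_rfl) N
  have hd : dN m μ ν (m + 2) = μ := by simp [dN]
  have hc0 : c ≠ 0 := by
    intro hc
    have := hc3 hd
    rw [hc, zero_mul, hNμ, mul_one] at this
    exact hN this.symm
  refine ⟨_, mul_ne_zero (sA_corner_ne_zero μ ν hε hμ hν hm1 h1) hc0, ?_⟩
  apply ext_cols
  intro j hj
  rw [add_mulVec, one_mulVec, vecMulVec_mulVec, E_dot_E _ _ (by omega)]
  by_cases hj0 : j = 0
  · subst hj0
    have a1 : ¬ (m + 2 = 0) := by omega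
    rw [pow_mulVec_eig _ h0, hNμ, one_smul, if_neg a1]
    simp
  by_cases hjl : j = m + 2
  · subst hjl
    rw [hc1, hd, hNμ, one_smul, if_pos rfl]
    simp
  · obtain ⟨c', hc1', hc2', -⟩ := pow_mulVec_aux (sA μ ν hε).1 h0
      (sA_col μ ν hε hμ hν hm1 (j := j) (by omega) (by omega)) N
    have hdj : dN m μ ν j ^ N = 1 ∧ μ - dN m μ ν j ≠ 0 := by
      have a1 : ¬ (j = 0 ∨ j = m + 2) := by omega
      simp only [dN, if_neg a1]
      split_ifs
      · exact ⟨hNν, sub_ne_zero.2 hμν⟩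
      · exact ⟨one_pow _, sub_ne_zero.2 h1⟩
    rw [hNμ, hdj.1, sub_self] at hc2'
    have hc'0 : c' = 0 := (mul_eq_zero.1 hc2').resolve_right hdj.2
    have a2 : ¬ (m + 2 = j) := fun h => hjl h.symm
    rw [hc1', hdj.1, hc'0, one_smul, if_neg a2]
    simp

end facts

section inverse

variable {ι : Type*} [Fintype ι] [DecidableEq ι]

theorem inv_row {s : SpecialLinearGroup ι F} {x : ι → F} {d : F} (hd : d ≠ 0) (h : x ᵥ* s.1 = d • x) :
    x ᵥ* (s⁻¹).1 = d⁻¹ • x := by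
  have h1 : (d • x) ᵥ* (s⁻¹).1 = x := by rw [← h, vecMul_vecMul, coe_mul_inv, vecMul_one]
  rw [smul_vecMul] at h1
  calc x ᵥ* (s⁻¹).1 = d⁻¹ • (d • (x ᵥ* (s⁻¹).1)) := by rw [smul_smul, inv_mul_cancel₀ hd, one_smul]
    _ = d⁻¹ • x := by rw [h1]

theorem inv_col {s : SpecialLinearGroup ι F} {x : ι → F} {d : F} (hd : d ≠ 0) (h : s.1 *ᵥ x = d • x) :
    (s⁻¹).1 *ᵥ x = d⁻¹ • x := by
  have h1 : (s⁻¹).1 *ᵥ (d • x) = x := by rw [← h, mulVec_mulVec, coe_inv_mul, one_mulVec]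
  rw [mulVec_smul] at h1
  calc (s⁻¹).1 *ᵥ x = d⁻¹ • (d • ((s⁻¹).1 *ᵥ x)) := by rw [smul_smul, inv_mul_cancel₀ hd, one_smul]
    _ = d⁻¹ • x := by rw [h1]

end inverse

section generate

variable (μ ν : F) (hε : (μ * ν) ^ (m + 2) = 1) (hμ : μ ≠ 0) (hν : ν ≠ 0) (hm1 : 1 ≤ m)

include hμ hν hm1 in
theorem main_A_prime [Fintype F] (hp : (Fintype.card F).Prime)
    (hrel : μ⁻¹ * ν⁻¹ * ν⁻¹ = μ) (h1 : μ ≠ 1) (hμν : μ ≠ ν) (N : ℕ) (hNμ : μ ^ N = 1)
    (hNν : ν ^ N = 1) (hN : (N : F) ≠ 0) :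
    Subgroup.closure ({vS F m, gA μ ν hε * vS F m * (gA μ ν hε)⁻¹} :
      Set (SpecialLinearGroup (Fin (m + 3)) F)) = ⊤ := by
  set H := Subgroup.closure ({vS F m, gA μ ν hε * vS F m * (gA μ ν hε)⁻¹} :
      Set (SpecialLinearGroup (Fin (m + 3)) F)) with hH
  have hv : vS F m ∈ H := Subgroup.subset_closure (by simp)
  have hu : gA μ ν hε * vS F m * (gA μ ν hε)⁻¹ ∈ H := Subgroup.subset_closure (by simp)
  have hs : sA μ ν hε ∈ H := sS_mem hv hu
  have h0 : (E (m + 2) : Fin (m + 3) → F) ⬝ᵥ E 0 = 0 := by rw [E_dot_E _ _ (by omega)]; simp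
  obtain ⟨C, hC, hCe⟩ := sA_pow μ ν hε hμ hν hm1 hrel h1 hμν N hNμ hNν hN
  apply eq_top_of_root hv
  intro x
  have ht : C ∈ dirSub H (E 0) (E (m + 2)) h0 := by
    refine ⟨_, H.pow_mem hs N, ?_⟩
    rw [coe_pow']
    exact hCe
  exact addSubgroup_top_of_prime hp _ hC ht x

include hμ hν hm1 in
/-- generation over an arbitrary finite field, given that `μ / ν` generates the field additively -/
theorem main_A_field
    (hrel : μ⁻¹ * ν⁻¹ * ν⁻¹ = μ) (h1 : μ ≠ 1) (hμν : μ ≠ ν) (N : ℕ) (hNμ : μ ^ N = 1)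
    (hNν : ν ^ N = 1) (hN : (N : F) ≠ 0) (hρ : 4 - μ - 3 * ν ≠ 0)
    (hgen : ∀ A : AddSubgroup F, (∀ x ∈ A, μ * ν⁻¹ * x ∈ A) → (∃ x ∈ A, x ≠ 0) → ∀ x, x ∈ A) :
    Subgroup.closure ({vS F m, gA μ ν hε * vS F m * (gA μ ν hε)⁻¹} :
      Set (SpecialLinearGroup (Fin (m + 3)) F)) = ⊤ := by
  set H := Subgroup.closure ({vS F m, gA μ ν hε * vS F m * (gA μ ν hε)⁻¹} :
      Set (SpecialLinearGroup (Fin (m + 3)) F)) with hH
  have hv : vS F m ∈ H := Subgroup.subset_closure (by simp)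
  have hu : gA μ ν hε * vS F m * (gA μ ν hε)⁻¹ ∈ H := Subgroup.subset_closure (by simp)
  have hs : sA μ ν hε ∈ H := sS_mem hv hu
  set s := sA μ ν hε with hsdef
  obtain ⟨C, hC, hCe⟩ := sA_pow μ ν hε hμ hν hm1 hrel h1 hμν N hNμ hNν hN
  have t0 : InH H (C • E 0) (E (m + 2)) := ⟨_, H.pow_mem hs N, by rw [coe_pow']; exact hCe⟩
  -- basic dot products
  have d_l0 : (E (m + 2) : Fin (m + 3) → F) ⬝ᵥ E 0 = 0 := by rw [E_dot_E _ _ (by omega)]; simp
  have d_p0 : (E (m + 1) : Fin (m + 3) → F) ⬝ᵥ E 0 = 0 := by rw [E_dot_E _ _ (by omega)]; simp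
  have d_l1 : (E (m + 2) : Fin (m + 3) → F) ⬝ᵥ E 1 = 0 := by
    rw [E_dot_E _ _ (by omega)]; simp
  have d_la : (E (m + 2) : Fin (m + 3) → F) ⬝ᵥ alt F m = (-1) ^ (m + 2) := E_dot_vecN _ (by omega) _
  have d_pa : (E (m + 1) : Fin (m + 3) → F) ⬝ᵥ alt F m = (-1) ^ (m + 1) := E_dot_vecN _ (by omega) _
  have hsgn : ((-1 : F)) ^ (m + 2) ≠ 0 := pow_ne_zero _ (by simp)
  have hsgn' : ((-1 : F)) ^ (m + 1) ≠ 0 := pow_ne_zero _ (by simp)
  -- rows and columns of `s`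
  have row_l : E (m + 2) ᵥ* s.1 = μ • E (m + 2) := by
    have := sA_row μ ν hε hμ hν hm1 (i := m + 2) (by omega) le_rfl
    rwa [show dN m μ ν (m + 2) = μ by simp [dN]] at this
  have row_p : E (m + 1) ᵥ* s.1 = ν • E (m + 1) := by
    have := sA_row μ ν hε hμ hν hm1 (i := m + 1) (by omega) (by omega)
    rwa [show dN m μ ν (m + 1) = ν by simp [dN]] at this
  have col_0 : s.1 *ᵥ E 0 = μ • E 0 := by rw [hsdef, sA_col_zero μ ν hε hμ hν hm1, hrel]
  have hνμ : ν - μ ≠ 0 := sub_ne_zero.2 hμν.symm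
  set r : F := (4 - 2 * μ - 2 * ν) / (ν - μ) with hr
  set w : Fin (m + 3) → F := E 1 + r • E 0 with hw
  have col_w : s.1 *ᵥ w = ν • w := by
    rw [hw, mulVec_add, mulVec_smul, col_0, hsdef, sA_col_one μ ν hε hμ hν hm1, hrel]
    ext j
    simp only [Pi.add_apply, Pi.smul_apply, smul_eq_mul, hr]
    field_simp
    ring
  have d_lw : (E (m + 2) : Fin (m + 3) → F) ⬝ᵥ w = 0 := by
    rw [hw, dotProduct_add, dotProduct_smul, d_l1, d_l0]; simp
  have lv : (E (m + 2) : Fin (m + 3) → F) ᵥ* (vS F m).1 = E (m + 2) + E (m + 1) := E_succ_v (m + 1) (by omega)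
  set lam : F := -(C * (-1) ^ (m + 2)) * C with hlam
  have hlam0 : lam ≠ 0 := mul_ne_zero (neg_ne_zero.2 (mul_ne_zero hC hsgn)) hC
  -- first family
  have r1 : InH H (lam • E 0) (E (m + 2) + E (m + 1)) := by
    have t1 := t0.conj_inv hv
    rw [lv, mulVec_smul, vinv_E0] at t1
    have := InH.comm t1 t0 (by
        rw [dotProduct_smul, add_dotProduct, d_la, d_pa, pow_succ]; simp)
      (by rw [dotProduct_smul, d_l0, smul_zero])
      (by rw [dotProduct_smul, add_dotProduct, d_l0, d_p0]; simp)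
    rw [dotProduct_smul, d_la, smul_smul, smul_eq_mul] at this
    exact this
  have A1step : ∀ y : F, InH H (y • E 0) (E (m + 1)) → InH H ((μ * ν⁻¹ * y) • E 0) (E (m + 1)) := by
    intro y hy
    have := hy.conj hs
    rw [mulVec_smul, col_0, inv_row hν row_p, ← InH.smul_comm, smul_smul, smul_smul] at this
    rwa [show ν⁻¹ * y * μ = μ * ν⁻¹ * y by ring] at this
  have A1 : ∀ y : F, InH H (y • E 0) (E (m + 1)) := by
    intro y
    refine hgen (dirSub H (E 0) (E (m + 1)) d_p0) (fun x hx => A1step x hx) ⟨lam * (μ * ν⁻¹ - 1), ?_, ?_⟩ y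
    · have r2 := r1.conj hs
      rw [mulVec_smul, col_0, add_vecMul, inv_row hμ row_l, inv_row hν row_p, smul_smul, mul_comm lam μ,
        ← smul_smul, InH.smul_comm, smul_add, smul_smul, smul_smul, mul_inv_cancel₀ hμ, one_smul] at r2
      have r3 := InH.negF r1 (by rw [dotProduct_smul, add_dotProduct, d_l0, d_p0]; simp)
      have r4 := InH.addF r2 r3 (by
        rw [dotProduct_smul, add_dotProduct, smul_dotProduct, d_l0, d_p0]; simp)
      have e : (E (m + 2) + (μ * ν⁻¹) • E (m + 1) + -(E (m + 2) + E (m + 1)) : Fin (m + 3) → F)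
          = (μ * ν⁻¹ - 1) • E (m + 1) := by
        ext j
        simp only [Pi.add_apply, Pi.smul_apply, Pi.neg_apply, smul_eq_mul]
        ring
      rw [e, ← InH.smul_comm, smul_smul, mul_comm] at r4
      exact r4
    · refine mul_ne_zero hlam0 ?_
      intro h
      apply hμν
      field_simp at h
      linear_combination h
  -- second family
  have q1 : InH H (lam • (E 0 + E 1)) (E (m + 2)) := by
    have t2 := t0.conj hv
    have hve : (vS F m).1 *ᵥ (C • (E 0 : Fin (m + 3) → F)) = C • (E 0 + E 1) := by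
      rw [mulVec_smul]; congr 1; exact v_E 0
    have hψ : ∀ a : Fin (m + 3) → F, (E (m + 2) ᵥ* ((vS F m)⁻¹).1) ⬝ᵥ a = E (m + 2) ⬝ᵥ (((vS F m)⁻¹).1 *ᵥ a) := by
      intro a; rw [dotProduct_mulVec]
    have := InH.comm t0 t2 (by rw [dotProduct_smul, d_l0, smul_zero])
      (by rw [hψ, mulVec_mulVec, coe_inv_mul, one_mulVec, dotProduct_smul, d_l0, smul_zero])
      (by rw [hve, dotProduct_smul, dotProduct_add, d_l0, d_l1]; simp)
    rw [hψ, mulVec_smul, vinv_E0, dotProduct_smul, d_la, hve, smul_smul, smul_eq_mul] at this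
    exact this
  have A2step : ∀ y : F, InH H (y • w) (E (m + 2)) → InH H ((μ * ν⁻¹ * y) • w) (E (m + 2)) := by
    intro y hy
    have := hy.conj_inv hs
    rw [mulVec_smul, inv_col hν col_w, row_l, ← InH.smul_comm, smul_smul, smul_smul] at this
    rwa [show μ * y * ν⁻¹ = μ * ν⁻¹ * y by ring] at this
  have A2 : ∀ y : F, InH H (y • w) (E (m + 2)) := by
    intro y
    refine hgen (dirSub H w (E (m + 2)) d_lw) (fun x hx => A2step x hx) ⟨lam * (μ * ν⁻¹ - 1), ?_, ?_⟩ y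
    · have hdec : (E 0 + E 1 : Fin (m + 3) → F) = w + (1 - r) • E 0 := by
        rw [hw]
        ext j
        simp only [Pi.add_apply, Pi.smul_apply, smul_eq_mul]
        ring
      have q2 := q1.conj_inv hs
      rw [hdec, mulVec_smul, mulVec_add, mulVec_smul, inv_col hν col_w, inv_col hμ col_0, row_l,
        ← InH.smul_comm] at q2
      have hd0 : (E (m + 2) : Fin (m + 3) → F) ⬝ᵥ (lam • (w + (1 - r) • E 0)) = 0 := by
        rw [dotProduct_smul, dotProduct_add, dotProduct_smul, d_lw, d_l0]; simp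
      have q3 := (hdec ▸ q1).neg hd0
      have q4 := q2.add q3 (by rw [dotProduct_neg, hd0, neg_zero])
      have e : (μ • lam • (ν⁻¹ • w + (1 - r) • μ⁻¹ • E 0) + -(lam • (w + (1 - r) • E 0)) : Fin (m + 3) → F)
          = (lam * (μ * ν⁻¹ - 1)) • w := by
        ext j
        simp only [Pi.add_apply, Pi.smul_apply, Pi.neg_apply, smul_eq_mul]
        field_simp
        ring
      rw [e] at q4
      exact q4
    · refine mul_ne_zero hlam0 ?_
      intro h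
      apply hμν
      field_simp at h
      linear_combination h
  -- combine
  apply eq_top_of_root hv
  intro x
  have hκ : (E (m + 1) : Fin (m + 3) → F) ⬝ᵥ (((vS F m)⁻¹).1 *ᵥ w) = (-1) ^ (m + 1) * (r - 1) := by
    rw [hw, mulVec_add, mulVec_smul, vinv_E1, vinv_E0, dotProduct_add, dotProduct_sub, dotProduct_smul,
      d_p0, d_pa, smul_eq_mul]
    ring
  have hr1 : r - 1 ≠ 0 := by
    rw [hr]
    intro h
    apply hρ
    field_simp at h
    linear_combination h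
  set κ : F := (-1) ^ (m + 1) * (r - 1) with hκdef
  have hκ0 : κ ≠ 0 := mul_ne_zero hsgn' hr1
  have p1 := (A2 1).conj_inv hv
  rw [lv, one_smul] at p1
  have p2 := A1 (-(κ⁻¹ * x))
  have p3 := InH.comm p1 p2 (by
      rw [← lv, ← dotProduct_mulVec, mulVec_mulVec, coe_mul_inv, one_mulVec, d_lw])
    (by rw [dotProduct_smul, d_p0, smul_zero])
    (by rw [dotProduct_smul, add_dotProduct, d_l0, d_p0]; simp)
  rw [hκ, smul_smul, show -κ * -(κ⁻¹ * x) = x by field_simp] at p3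
  have p4 := InH.negF (A1 x) (by rw [dotProduct_smul, d_p0, smul_zero])
  have p5 := InH.addF p3 p4 (by rw [dotProduct_smul, add_dotProduct, d_l0, d_p0]; simp)
  rwa [add_neg_cancel_right] at p5

end generate

end Cfsg.Agent.Lib.Helper43TwoA
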