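import Mathlib
import Cfsg.Agent.Lib.Helper43Two

set_option autoImplicit false

namespace Cfsg.Agent.Lib.Helper43TwoB

open Matrix Cfsg.Agent.Lib.Helper43Transv Cfsg.Agent.Lib.Helper43RegUnip Cfsg.Agent.Lib.Helper43Two

variable {F : Type*} [Field F] {m : ℕ}

/-- rows of the conjugating matrix (even dimension, Coxeter type design) -/
def rowB (b c : F) (k : ℕ) : Fin (m + 3) → F :=
  if k = 0 then c • E 1
  else if k = 1 then (-(c * b)) • E (m + 2) + (c * (1 - b)) • E 2
  else if k = m + 2 then E 0 + (-c) • E 3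
  else (-c) • E (m + 3 - k)

theorem rowB_zero (b c : F) : (rowB b c 0 : Fin (m + 3) → F) = c • E 1 := by simp [rowB]

theorem rowB_one (b c : F) :
    (rowB b c 1 : Fin (m + 3) → F) = (-(c * b)) • E (m + 2) + (c * (1 - b)) • E 2 := by simp [rowB]

theorem rowB_last (b c : F) : (rowB b c (m + 2) : Fin (m + 3) → F) = E 0 + (-c) • E 3 := by simp [rowB]

theorem rowB_mid (b c : F) {k j : ℕ} (hk : 2 ≤ k) (hj : 2 ≤ j) (hkj : k + j = m + 3) :
    (rowB b c k : Fin (m + 3) → F) = (-c) • E j := by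
  have h0 : k ≠ 0 := by omega
  have h1 : k ≠ 1 := by omega
  have h2 : k ≠ m + 2 := by omega
  have h3 : m + 3 - k = j := by omega
  simp [rowB, h0, h1, h2, h3]

/-- the alternating row vector -/
def sig (F : Type*) [Field F] (m : ℕ) : Fin (m + 3) → F :=
  vecN (fun j => if 1 ≤ j ∧ j ≤ m + 1 then (-1) ^ j else 0)

theorem sig_v (hm : Odd m) : sig F m ᵥ* vM F m = E (m + 1) - E 0 := by
  rw [sig, vecN_vecMul_v]
  ext j
  simp only [vecN, E, Pi.sub_apply]
  have hj := j.2
  have hev : ((-1 : F)) ^ (m + 1) = 1 := Even.neg_one_pow (Odd.add_one hm)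
  by_cases h0 : j.val = 0
  · have : ¬ (j.val = m + 1) := by omega
    simp [h0]
  · by_cases h1 : j.val = m + 1
    · simp [h1, hev]
    · by_cases h2 : j.val = m + 2
      · simp [h2]
      · have a1 : 1 ≤ j.val ∧ j.val ≤ m + 1 := by omega
        have a2 : 1 ≤ j.val + 1 ∧ j.val + 1 ≤ m + 1 := by omega
        have a3 : j.val + 1 < m + 3 := by omega
        simp only [a1, a2, a3, h0, h1, if_true, if_false, and_self]
        ring

section facts

variable (b c : F) (hdet : (ofRows (rowB b c) : Matrix (Fin (m + 3)) (Fin (m + 3)) F).det = 1)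

/-- the conjugating element -/
def gB : SpecialLinearGroup (Fin (m + 3)) F := ⟨ofRows (rowB b c), hdet⟩

/-- the quotient element -/
abbrev sB : SpecialLinearGroup (Fin (m + 3)) F := sS (gB b c hdet) (vS F m)

variable (hm1 : 1 ≤ m)

include hm1 in
theorem sB_row_last : E (m + 2) ᵥ* (sB b c hdet).1 = E (m + 2) := by
  apply row_transfer
  show (E (m + 2) ᵥ* vM F m) ᵥ* ofRows (rowB b c) = (E (m + 2) ᵥ* ofRows (rowB b c)) ᵥ* vM F m
  rw [E_succ_v (m + 1) (by omega), add_vecMul, E_ofRows _ _ (by omega), E_ofRows _ _ (by omega),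
    rowB_last, rowB_mid b c (k := m + 1) (j := 2) (by omega) le_rfl (by omega), add_vecMul, smul_vecMul,
    E_zero_v, E_succ_v 2 (by omega)]
  ext j
  simp only [Pi.add_apply, Pi.smul_apply, smul_eq_mul]
  ring

include hm1 in
theorem sB_row_mid {i : ℕ} (hi : 2 ≤ i) (hi' : i ≤ m) : E i ᵥ* (sB b c hdet).1 = E (i + 1) := by
  apply row_transfer
  show (E (i + 1) ᵥ* vM F m) ᵥ* ofRows (rowB b c) = (E i ᵥ* ofRows (rowB b c)) ᵥ* vM F m
  obtain ⟨j, hj⟩ : ∃ j, i + j = m + 2 := ⟨m + 2 - i, by omega⟩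
  rw [E_succ_v i (by omega), add_vecMul, E_ofRows _ _ (by omega), E_ofRows _ _ (by omega),
    rowB_mid b c (k := i + 1) (j := j) (by omega) (by omega) (by omega),
    rowB_mid b c (k := i) (j := j + 1) (by omega) (by omega) (by omega), smul_vecMul,
    E_succ_v j (by omega)]
  ext j
  simp only [Pi.add_apply, Pi.smul_apply, smul_eq_mul]
  ring

include hm1 in
theorem sB_row_one : E 1 ᵥ* (sB b c hdet).1 = b • E 2 + (1 - b) • E 1 := by
  apply row_transfer
  show ((b • E 2 + (1 - b) • E 1) ᵥ* vM F m) ᵥ* ofRows (rowB b c) = (E 1 ᵥ* ofRows (rowB b c)) ᵥ* vM F m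
  simp only [add_vecMul, smul_vecMul]
  rw [E_succ_v 1 (by omega), E_succ_v 0 (by omega)]
  simp only [add_vecMul, smul_vecMul]
  rw [E_ofRows _ _ (by omega), E_ofRows _ _ (by omega), E_ofRows _ _ (by omega), rowB_zero, rowB_one,
    rowB_mid b c (k := 1 + 1) (j := m + 1) (by omega) (by omega) (by omega)]
  simp only [add_vecMul, smul_vecMul]
  rw [E_succ_v (m + 1) (by omega), E_succ_v 1 (by omega)]
  ext j
  simp only [Pi.add_apply, Pi.smul_apply, smul_eq_mul]
  ring

include hm1 in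
theorem sB_row_pen (hm : Odd m) : E (m + 1) ᵥ* (sB b c hdet).1 = sig F m := by
  apply row_transfer
  show (sig F m ᵥ* vM F m) ᵥ* ofRows (rowB b c) = (E (m + 1) ᵥ* ofRows (rowB b c)) ᵥ* vM F m
  rw [sig_v hm, sub_vecMul, E_ofRows _ _ (by omega), E_ofRows _ _ (by omega), rowB_zero,
    rowB_mid b c (k := m + 1) (j := 2) (by omega) le_rfl (by omega), smul_vecMul, E_succ_v 1 (by omega)]
  ext j
  simp only [Pi.add_apply, Pi.sub_apply, Pi.smul_apply, smul_eq_mul]
  ring

omit hdet in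
include hm1 in
theorem gB_mulVec_vecN (X : ℕ → F) :
    (ofRows (rowB b c) : Matrix (Fin (m + 3)) (Fin (m + 3)) F) *ᵥ vecN X =
      vecN (fun i => if i = 0 then c * X 1 else if i = 1 then (-(c * b)) * X (m + 2) + (c * (1 - b)) * X 2
        else if i = m + 2 then X 0 + (-c) * X 3 else (-c) * X (m + 3 - i)) := by
  ext i
  rw [ofRows_mulVec]
  have hi := i.2
  simp only [rowB, vecN]
  split_ifs with h0 h1 h2
  · rw [smul_dotProduct, E_dot _ (by omega)]; rfl
  · rw [add_dotProduct, smul_dotProduct, smul_dotProduct, E_dot _ (by omega), E_dot _ (by omega)]; rfl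
  · rw [add_dotProduct, smul_dotProduct, E_dot _ (by omega), E_dot _ (by omega)]; rfl
  · rw [smul_dotProduct, E_dot _ (by omega)]; rfl

omit hdet in
include hm1 in
theorem gB_E0 : (ofRows (rowB b c) : Matrix (Fin (m + 3)) (Fin (m + 3)) F) *ᵥ E 0 = E (m + 2) := by
  show (ofRows (rowB b c) : Matrix (Fin (m + 3)) (Fin (m + 3)) F) *ᵥ vecN (fun j => if j = 0 then 1 else 0) = _
  rw [gB_mulVec_vecN b c hm1]
  ext i
  have hi := i.2
  simp only [vecN, E]
  split_ifs <;> first | contradiction | omega | simp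

omit hdet in
include hm1 in
theorem gB_E1 : (ofRows (rowB b c) : Matrix (Fin (m + 3)) (Fin (m + 3)) F) *ᵥ E 1 = c • E 0 := by
  show (ofRows (rowB b c) : Matrix (Fin (m + 3)) (Fin (m + 3)) F) *ᵥ vecN (fun j => if j = 1 then 1 else 0) = _
  rw [gB_mulVec_vecN b c hm1]
  ext i
  have hi := i.2
  simp only [vecN, E, Pi.smul_apply, smul_eq_mul]
  split_ifs <;> first | contradiction | omega | simp

omit hdet in
include hm1 in
theorem gB_alt (hm : Odd m) :
    (ofRows (rowB b c) : Matrix (Fin (m + 3)) (Fin (m + 3)) F) *ᵥ alt F m = E (m + 2) - c • alt F m := by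
  rw [alt, gB_mulVec_vecN b c hm1]
  ext i
  have hi := i.2
  have hod : ((-1 : F)) ^ (m + 2) = -1 := Odd.neg_one_pow (by
    obtain ⟨k, hk⟩ := hm; exact ⟨k + 1, by omega⟩)
  simp only [vecN, E, Pi.sub_apply, Pi.smul_apply, smul_eq_mul]
  by_cases h0 : i.val = 0
  · have a1 : ¬ (i.val = m + 2) := by omega
    rw [if_pos h0, if_neg a1, h0]; ring
  by_cases h1 : i.val = 1
  · have a1 : ¬ (i.val = m + 2) := by omega
    rw [if_neg h0, if_pos h1, if_neg a1, h1, hod]; ring
  by_cases h2 : i.val = m + 2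
  · rw [if_neg h0, if_neg h1, if_pos h2, if_pos h2, h2, hod]; ring
  · rw [if_neg h0, if_neg h1, if_neg h2, if_neg h2]
    have h4 : ((-1 : F)) ^ (m + 3 - i.val) * (-1) ^ i.val = 1 := by
      rw [← pow_add, show m + 3 - i.val + i.val = m + 3 by omega]
      exact Even.neg_one_pow (by obtain ⟨k, hk⟩ := hm; exact ⟨k + 2, by omega⟩)
    have h5 : ((-1 : F)) ^ i.val * (-1) ^ i.val = 1 := by
      rw [← mul_pow]; simp
    have h6 : ((-1 : F)) ^ (m + 3 - i.val) = (-1) ^ i.val := by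
      calc ((-1 : F)) ^ (m + 3 - i.val) = (-1) ^ (m + 3 - i.val) * ((-1) ^ i.val * (-1) ^ i.val) := by
            rw [h5, mul_one]
        _ = (-1) ^ i.val := by rw [← mul_assoc, h4, one_mul]
    rw [h6]; ring

include hm1 in
theorem sB_col_last : (sB b c hdet).1 *ᵥ E (m + 2) = E (m + 2) + c • E 0 := by
  have h := col_transfer (gB b c hdet) (vS F m) (E 0)
  have e1 : (gB b c hdet).1 *ᵥ E 0 = E (m + 2) := gB_E0 b c hm1
  have e2 : (vS F m).1 *ᵥ (E (m + 2) : Fin (m + 3) → F) = E (m + 2) := by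
    show vM F m *ᵥ _ = _
    rw [v_E]
    ext i
    have := i.2
    have h3 : ¬ (i.val = m + 2 + 1) := by omega
    simp [E, h3]
  have e3 : (vS F m).1 *ᵥ (E 0 : Fin (m + 3) → F) = E 0 + E 1 := v_E 0
  have e4 : (gB b c hdet).1 *ᵥ E 1 = c • E 0 := gB_E1 b c hm1
  rw [e1, e2, e3, mulVec_add, e1, e4] at h
  exact h

include hm1 in
theorem sB_col_zero (hm : Odd m) (hc : c ≠ 0) : (sB b c hdet).1 *ᵥ E 0 = E 0 := by
  have h := col_transfer (gB b c hdet) (vS F m) (E 0 - alt F m)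
  have e1 : (gB b c hdet).1 *ᵥ (E 0 - alt F m) = c • alt F m := by
    show (ofRows (rowB b c) : Matrix (Fin (m + 3)) (Fin (m + 3)) F) *ᵥ _ = _
    rw [mulVec_sub, gB_E0 b c hm1, gB_alt b c hm1 hm]; abel
  have e2 : (vS F m).1 *ᵥ (c • alt F m) = c • E 0 := by
    show vM F m *ᵥ _ = _
    rw [mulVec_smul, v_alt]
  have e3 : (vS F m).1 *ᵥ (E 0 - alt F m) = E 1 := by
    show vM F m *ᵥ _ = _
    rw [mulVec_sub, v_alt, v_E]; simp
  have e4 : (gB b c hdet).1 *ᵥ E 1 = c • E 0 := gB_E1 b c hm1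
  rw [e1, e2, e3, e4, mulVec_smul] at h
  have := congrArg (fun x => c⁻¹ • x) h
  simpa [smul_smul, hc] using this

include hm1 in
theorem sB_orbit (t : ℕ) (ht : t + 1 ≤ m) : E 2 ᵥ* (sB b c hdet).1 ^ t = E (2 + t) := by
  induction t with
  | zero => simp
  | succ t ih =>
    rw [pow_succ, ← vecMul_vecMul, ih (by omega), sB_row_mid b c hdet hm1 (by omega) (by omega)]
    rfl

include hm1 in
theorem sB_orbit_sig (hm : Odd m) : E 2 ᵥ* (sB b c hdet).1 ^ m = sig F m := by
  obtain ⟨t, rfl⟩ : ∃ t, m = t + 1 := ⟨m - 1, by omega⟩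
  rw [pow_succ, ← vecMul_vecMul, sB_orbit b c hdet hm1 t le_rfl, show 2 + t = t + 1 + 1 by omega,
    sB_row_pen b c hdet hm1 hm]

include hm1 in
theorem sB_palt (t : ℕ) (ht : t ≤ m) : E 2 ᵥ* Palt (sB b c hdet).1 t =
    vecN (fun j => if 2 ≤ j ∧ j < 2 + t then (-1) ^ j else 0) := by
  induction t with
  | zero =>
    ext j
    have : ¬ (2 ≤ j.val ∧ j.val < 2 + 0) := by omega
    simp only [Palt, Finset.range_zero, Finset.sum_empty, vecMul_zero, vecN, if_neg this]
    rfl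
  | succ t ih =>
    rw [Palt_succ, vecMul_add, ih (by omega), vecMul_smul, sB_orbit b c hdet hm1 t ht]
    ext j
    simp only [vecN, E, Pi.add_apply, Pi.smul_apply, smul_eq_mul]
    by_cases h1 : j.val = 2 + t
    · have a1 : ¬ (2 ≤ j.val ∧ j.val < 2 + t) := by omega
      have a2 : 2 ≤ j.val ∧ j.val < 2 + (t + 1) := by omega
      rw [if_neg a1, if_pos a2, if_pos h1, h1, pow_add]
      simp
    · by_cases h2 : 2 ≤ j.val ∧ j.val < 2 + t
      · have a2 : 2 ≤ j.val ∧ j.val < 2 + (t + 1) := by omega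
        rw [if_pos h2, if_pos a2, if_neg h1]; simp
      · have a2 : ¬ (2 ≤ j.val ∧ j.val < 2 + (t + 1)) := by omega
        rw [if_neg h2, if_neg a2, if_neg h1]; simp

include hm1 in
theorem sB_palt_m : E 2 ᵥ* Palt (sB b c hdet).1 m = sig F m + E 1 := by
  rw [sB_palt b c hdet hm1 m le_rfl]
  ext j
  simp only [vecN, sig, E, Pi.add_apply]
  by_cases h1 : j.val = 1
  · simp [h1]
  · by_cases h2 : 2 ≤ j.val ∧ j.val < 2 + m
    · have a2 : 1 ≤ j.val ∧ j.val ≤ m + 1 := by omega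
      rw [if_pos h2, if_pos a2, if_neg h1, add_zero]
    · have a2 : ¬ (1 ≤ j.val ∧ j.val ≤ m + 1) := by omega
      rw [if_neg h2, if_neg a2, if_neg h1, add_zero]

include hm1 in
theorem sB_sig (hm : Odd m) : sig F m ᵥ* (sB b c hdet).1 = (1 - b) • E 2 - (2 - b) • E 1 := by
  set s := (sB b c hdet).1 with hs
  have h1 : (E 2 ᵥ* Palt s m) ᵥ* (1 + s) = E 2 + sig F m := by
    rw [vecMul_vecMul, Palt_mul, Odd.neg_one_pow hm, vecMul_sub, vecMul_one, vecMul_smul,
      sB_orbit_sig b c hdet hm1 hm]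
    simp
  rw [sB_palt_m b c hdet hm1, vecMul_add, vecMul_one, add_vecMul, sB_row_one b c hdet hm1] at h1
  have h2 : sig F m ᵥ* s = E 2 + sig F m - (sig F m + E 1) - (b • E 2 + (1 - b) • E 1) := by
    rw [← h1]; abel
  rw [h2]
  ext j
  simp only [Pi.add_apply, Pi.sub_apply, Pi.smul_apply, smul_eq_mul]
  ring

include hm1 in
/-- generation from the vanishing of the middle rows of a geometric sum -/
theorem main_B [Fintype F] (hp : (Fintype.card F).Prime) (hm : Odd m) (hc : c ≠ 0) (N : ℕ)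
    (hN : (N : F) ≠ 0) (hmid : ∀ k, 1 ≤ k → k ≤ m + 1 → E k ᵥ* Geo (sB b c hdet).1 N = 0) :
    Subgroup.closure ({vS F m, gB b c hdet * vS F m * (gB b c hdet)⁻¹} :
      Set (SpecialLinearGroup (Fin (m + 3)) F)) = ⊤ := by
  set H := Subgroup.closure ({vS F m, gB b c hdet * vS F m * (gB b c hdet)⁻¹} :
      Set (SpecialLinearGroup (Fin (m + 3)) F)) with hH
  have hv : vS F m ∈ H := Subgroup.subset_closure (by simp)
  have hu : gB b c hdet * vS F m * (gB b c hdet)⁻¹ ∈ H := Subgroup.subset_closure (by simp)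
  have hs : sB b c hdet ∈ H := sS_mem hv hu
  have h0 : (E (m + 2) : Fin (m + 3) → F) ⬝ᵥ E 0 = 0 := by rw [E_dot_E _ _ (by omega)]; simp
  apply eq_top_of_root hv
  intro x
  have ht : (N : F) * c ∈ dirSub H (E 0) (E (m + 2)) h0 := by
    refine ⟨_, H.pow_mem hs N, ?_⟩
    rw [coe_pow']
    exact pow_of_geom (sB_col_zero b c hdet hm1 hm hc) (sB_col_last b c hdet hm1)
      (sB_row_last b c hdet hm1) hmid
  exact addSubgroup_top_of_prime hp _ (mul_ne_zero hN hc) ht x

end facts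

section cases

variable (c : F) (hm1 : 1 ≤ m) (hm : Odd m)

section one

variable (hdet : (ofRows (rowB 1 c) : Matrix (Fin (m + 3)) (Fin (m + 3)) F).det = 1)

include hm1 in
theorem one_row : E 1 ᵥ* (sB 1 c hdet).1 = E 2 := by
  rw [sB_row_one 1 c hdet hm1]; simp

include hm1 in
theorem one_orbit {k : ℕ} (hk1 : 1 ≤ k) (hk : k ≤ m + 1) : E 1 ᵥ* (sB 1 c hdet).1 ^ (k - 1) = E k := by
  obtain ⟨t, rfl⟩ : ∃ t, k = t + 1 := ⟨k - 1, by omega⟩
  rw [Nat.add_sub_cancel]
  cases t with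
  | zero => simp
  | succ t =>
    rw [pow_succ', ← vecMul_vecMul, one_row c hm1 hdet, sB_orbit 1 c hdet hm1 t (by omega)]
    congr 1; omega

include hm1 hm in
theorem one_period : E 1 ᵥ* (sB 1 c hdet).1 ^ (m + 2) = -E 1 := by
  rw [pow_succ, pow_succ', ← vecMul_vecMul, ← vecMul_vecMul, one_row c hm1 hdet,
    sB_orbit_sig 1 c hdet hm1 hm, sB_sig 1 c hdet hm1 hm]
  ext j
  simp only [Pi.sub_apply, Pi.smul_apply, Pi.neg_apply, smul_eq_mul]
  ring

include hm1 hm in
theorem one_mid_odd (k : ℕ) (hk1 : 1 ≤ k) (hk : k ≤ m + 1) :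
    E k ᵥ* Geo (sB 1 c hdet).1 (2 * (m + 2)) = 0 := by
  rw [← one_orbit c hm1 hdet hk1 hk]
  exact geo_shift (geo_double (one_period c hm1 hm hdet)) _

include hm1 hm in
theorem one_mid_two (h2 : (2 : F) = 0) (k : ℕ) (hk1 : 1 ≤ k) (hk : k ≤ m + 1) :
    E k ᵥ* Geo (sB 1 c hdet).1 (m + 2) = 0 := by
  rw [← one_orbit c hm1 hdet hk1 hk]
  apply geo_shift
  have hneg : (-1 : F) = 1 := by linear_combination -h2
  have hP : Palt (sB 1 c hdet).1 m = Geo (sB 1 c hdet).1 m := by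
    simp [Palt, Geo, hneg]
  rw [show m + 2 = 1 + (m + 1) by omega, Geo_add, Geo_succ _ m, ← hP, vecMul_add, ← vecMul_vecMul, pow_one,
    one_row c hm1 hdet, vecMul_add, sB_palt_m 1 c hdet hm1, sB_orbit_sig 1 c hdet hm1 hm]
  have : Geo (sB 1 c hdet).1 1 = 1 := by simp [Geo]
  rw [this, vecMul_one]
  ext j
  simp only [Pi.add_apply, Pi.zero_apply]
  linear_combination ((E 1 : Fin (m + 3) → F) j + sig F m j) * h2

end one

section two

variable (hdet : (ofRows (rowB 2 c) : Matrix (Fin (m + 3)) (Fin (m + 3)) F).det = 1)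

include hm1 hm in
theorem two_period : E 2 ᵥ* (sB 2 c hdet).1 ^ (m + 1) = -E 2 := by
  rw [pow_succ, ← vecMul_vecMul, sB_orbit_sig 2 c hdet hm1 hm, sB_sig 2 c hdet hm1 hm]
  ext j
  simp only [Pi.sub_apply, Pi.smul_apply, Pi.neg_apply, smul_eq_mul]
  ring

include hm1 hm in
theorem two_mid_ge (k : ℕ) (hk1 : 2 ≤ k) (hk : k ≤ m + 1) :
    E k ᵥ* Geo (sB 2 c hdet).1 (2 * (m + 1)) = 0 := by
  obtain ⟨t, rfl⟩ : ∃ t, k = 2 + t := ⟨k - 2, by omega⟩
  rw [← sB_orbit 2 c hdet hm1 t (by omega)]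
  exact geo_shift (geo_double (two_period c hm1 hm hdet)) _

include hm1 hm in
theorem two_mid (k : ℕ) (hk1 : 1 ≤ k) (hk : k ≤ m + 1) :
    E k ᵥ* Geo (sB 2 c hdet).1 (2 * (m + 1)) = 0 := by
  by_cases h2 : 2 ≤ k
  · exact two_mid_ge c hm1 hm hdet k h2 hk
  · obtain rfl : k = 1 := by omega
    have h3 : sig F m ᵥ* Geo (sB 2 c hdet).1 (2 * (m + 1)) = 0 := by
      rw [← sB_orbit_sig 2 c hdet hm1 hm]
      exact geo_shift (geo_double (two_period c hm1 hm hdet)) _
    have h4 : (sig F m + E 1) ᵥ* Geo (sB 2 c hdet).1 (2 * (m + 1)) = 0 := by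
      apply vecMul_eq_zero_of_support
      intro i
      by_cases hi : 2 ≤ i.val ∧ i.val ≤ m + 1
      · right
        rw [← two_mid_ge c hm1 hm hdet i.val hi.1 hi.2, E_vecMul _ _ i.2]
      · left
        simp only [sig, vecN, E, Pi.add_apply]
        by_cases h1 : i.val = 1
        · simp [h1]
        · have a2 : ¬ (1 ≤ i.val ∧ i.val ≤ m + 1) := by omega
          rw [if_neg a2, if_neg h1, add_zero]
    rw [add_vecMul, h3, zero_add] at h4
    exact h4

end two

end cases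

section determinant

theorem det_rowB (b c : F) : (ofRows (rowB b c) : Matrix (Fin (m + 3)) (Fin (m + 3)) F).det =
    c ^ (m + 2) * (ofRows (rowB b 1) : Matrix (Fin (m + 3)) (Fin (m + 3)) F).det := by
  have h1 : (ofRows (rowB b c) : Matrix (Fin (m + 3)) (Fin (m + 3)) F) =
      of fun i j => (if j = 0 then 1 else c) * (ofRows (rowB b 1) : Matrix (Fin (m + 3)) (Fin (m + 3)) F) i j := by
    ext i j
    show rowB b c i.val j = (if j = 0 then 1 else c) * rowB b 1 i.val j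
    have hi := i.2
    have hj := j.2
    by_cases h0 : i.val = 0
    · rw [h0, rowB_zero, rowB_zero]
      simp only [Pi.smul_apply, E, smul_eq_mul, Fin.ext_iff, Fin.val_zero]
      split_ifs <;> first | omega | simp
    by_cases h1 : i.val = 1
    · rw [h1, rowB_one, rowB_one]
      simp only [Pi.smul_apply, Pi.add_apply, E, smul_eq_mul, Fin.ext_iff, Fin.val_zero]
      split_ifs <;> first | omega | ring
    by_cases h2 : i.val = m + 2
    · rw [h2, rowB_last, rowB_last]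
      simp only [Pi.smul_apply, Pi.add_apply, E, smul_eq_mul, Fin.ext_iff, Fin.val_zero]
      split_ifs <;> first | omega | ring
    · rw [rowB_mid b c (k := i.val) (j := m + 3 - i.val) (by omega) (by omega) (by omega),
        rowB_mid b 1 (k := i.val) (j := m + 3 - i.val) (by omega) (by omega) (by omega)]
      simp only [Pi.smul_apply, E, smul_eq_mul, Fin.ext_iff, Fin.val_zero]
      split_ifs <;> first | omega | ring
  rw [h1, det_mul_row]
  congr 1
  rw [Fin.prod_univ_succ]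
  simp [Fin.succ_ne_zero]

theorem det_rowB_ne_zero (hm1 : 1 ≤ m) (b : F) (hb : b ≠ 0) :
    (ofRows (rowB b 1) : Matrix (Fin (m + 3)) (Fin (m + 3)) F).det ≠ 0 := by
  intro hdet
  obtain ⟨x, hx0, hx⟩ := exists_mulVec_eq_zero_iff.2 hdet
  apply hx0
  have hrow : ∀ k (hk : k < m + 3), rowB b 1 k ⬝ᵥ x = 0 := by
    intro k hk
    have := congrFun hx ⟨k, hk⟩
    rwa [ofRows_mulVec] at this
  have x1 : x ⟨1, by omega⟩ = 0 := by
    have := hrow 0 (by omega)
    rw [rowB_zero, smul_dotProduct, E_dot _ (by omega)] at this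
    simpa using this
  have xmid : ∀ j (hj : j < m + 3), 2 ≤ j → j ≤ m + 1 → x ⟨j, hj⟩ = 0 := by
    intro j hj h2 h3
    have := hrow (m + 3 - j) (by omega)
    rw [rowB_mid b 1 (k := m + 3 - j) (j := j) (by omega) h2 (by omega), smul_dotProduct,
      E_dot _ hj] at this
    simpa using this
  have xl : x ⟨m + 2, by omega⟩ = 0 := by
    have := hrow 1 (by omega)
    rw [rowB_one, add_dotProduct, smul_dotProduct, smul_dotProduct, E_dot _ (by omega),
      E_dot _ (by omega), xmid 2 (by omega) le_rfl (by omega)] at this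
    simpa [hb] using this
  have x3 : x ⟨3, by omega⟩ = 0 := by
    by_cases h : 3 ≤ m + 1
    · exact xmid 3 (by omega) (by omega) h
    · have : m + 2 = 3 := by omega
      simpa [this] using xl
  have x0 : x ⟨0, by omega⟩ = 0 := by
    have := hrow (m + 2) (by omega)
    rw [rowB_last, add_dotProduct, smul_dotProduct, E_dot _ (by omega), E_dot _ (by omega), x3] at this
    simpa using this
  ext j
  have hj := j.2
  by_cases h0 : j.val = 0
  · have : j = ⟨0, by omega⟩ := Fin.ext h0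
    rw [this]; exact x0
  by_cases h1 : j.val = 1
  · have : j = ⟨1, by omega⟩ := Fin.ext h1
    rw [this]; exact x1
  by_cases h2 : j.val = m + 2
  · have : j = ⟨m + 2, by omega⟩ := Fin.ext h2
    rw [this]; exact xl
  · exact xmid j.val j.2 (by omega) (by omega)

theorem exists_c (hm1 : 1 ≤ m) (hm : Odd m) (b : F) (hb : b ≠ 0) (hsq : ∀ x : F, x ≠ 0 → x ^ 2 = 1) :
    ∃ c : F, c ≠ 0 ∧ (ofRows (rowB b c) : Matrix (Fin (m + 3)) (Fin (m + 3)) F).det = 1 := by
  set d := (ofRows (rowB b 1) : Matrix (Fin (m + 3)) (Fin (m + 3)) F).det with hd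
  have hd0 : d ≠ 0 := det_rowB_ne_zero hm1 b hb
  refine ⟨d, hd0, ?_⟩
  rw [det_rowB, ← hd, ← pow_succ]
  obtain ⟨k, hk⟩ := hm
  rw [show m + 2 + 1 = 2 * (k + 2) by omega, pow_mul, hsq d hd0, one_pow]

end determinant

end Cfsg.Agent.Lib.Helper43TwoB
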