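import Mathlib
import Cfsg.Agent.Lib.Helper43Two

set_option autoImplicit false

namespace Cfsg.Agent.Lib.Helper43TwoC

open Matrix Cfsg.Agent.Lib.Helper43Transv Cfsg.Agent.Lib.Helper43RegUnip Cfsg.Agent.Lib.Helper43Two

variable {F : Type*} [Field F] {m : ℕ}

/-- rows of the conjugating matrix (characteristic two, odd dimension) -/
def rowC (h k : ℕ) : Fin (m + 3) → F := if k < h then E k + E (k + h) + E (k + h + 1) else E k

theorem rowC_lt {h k : ℕ} (hk : k < h) : (rowC h k : Fin (m + 3) → F) = E k + E (k + h) + E (k + h + 1) := by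
  simp [rowC, hk]

theorem rowC_ge {h k : ℕ} (hk : h ≤ k) : (rowC h k : Fin (m + 3) → F) = E k := by
  simp [rowC, Nat.not_lt.2 hk]

theorem det_gC (h : ℕ) (h1 : 1 ≤ h) : (ofRows (rowC h) : Matrix (Fin (m + 3)) (Fin (m + 3)) F).det = 1 := by
  rw [det_of_isUpperTriangular]
  · apply Finset.prod_eq_one
    intro i _
    simp only [ofRows, rowC]
    split_ifs
    · have h2 : ¬ (i.val = i.val + h) := by omega
      have h3 : ¬ (i.val = i.val + h + 1) := by omega
      simp only [E, Pi.add_apply, if_true, if_neg h2, if_neg h3, add_zero]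
    · simp [E]
  · intro i j hij
    have hij' : j.val < i.val := hij
    simp only [ofRows, rowC]
    split_ifs
    · have h1 : ¬ (j.val = i.val) := by omega
      have h2 : ¬ (j.val = i.val + h) := by omega
      have h3 : ¬ (j.val = i.val + h + 1) := by omega
      simp [E, h1, h2, h3]
    · have h1 : ¬ (j.val = i.val) := by omega
      simp [E, h1]

/-- the conjugating element -/
def gC (F : Type*) [Field F] (m h : ℕ) (h1 : 1 ≤ h) : SpecialLinearGroup (Fin (m + 3)) F :=
  ⟨ofRows (rowC h), det_gC h h1⟩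

variable {h : ℕ} (h1 : 1 ≤ h) (hm : m + 2 = 2 * h) (h2 : (2 : F) = 0)

include hm in
theorem sC_row_gen {i : ℕ} (hi : i < m + 3) (hi0 : i ≠ 0) (hih : i ≠ h) :
    E i ᵥ* (sS (gC F m h h1) (vS F m)).1 = E i := by
  apply row_transfer
  show (E i ᵥ* vM F m) ᵥ* ofRows (rowC h) = (E i ᵥ* ofRows (rowC h)) ᵥ* vM F m
  obtain ⟨k, rfl⟩ : ∃ k, i = k + 1 := ⟨i - 1, by omega⟩
  rw [E_succ_v k hi, add_vecMul, E_ofRows _ _ hi, E_ofRows _ _ (by omega)]
  by_cases hk : k + 1 < h
  · rw [rowC_lt hk, rowC_lt (by omega : k < h)]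
    have e1 : k + 1 + h = k + h + 1 := by omega
    rw [e1, add_vecMul, add_vecMul, E_succ_v k hi, E_succ_v (k + h) (by omega), E_succ_v (k + h + 1) (by omega)]
    abel
  · rw [rowC_ge (by omega : h ≤ k + 1), rowC_ge (by omega : h ≤ k), E_succ_v k hi]

include hm h2 in
theorem sC_row_h : E h ᵥ* (sS (gC F m h h1) (vS F m)).1 = E h + E (m + 2) := by
  apply row_transfer
  show ((E h + E (m + 2)) ᵥ* vM F m) ᵥ* ofRows (rowC h) = (E h ᵥ* ofRows (rowC h)) ᵥ* vM F m
  obtain ⟨k, rfl⟩ : ∃ k, h = k + 1 := ⟨h - 1, by omega⟩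
  rw [add_vecMul, E_succ_v k (by omega), E_succ_v (m + 1) (by omega), add_vecMul, add_vecMul, add_vecMul,
    E_ofRows _ _ (by omega), E_ofRows _ _ (by omega), E_ofRows _ _ (by omega), E_ofRows _ _ (by omega),
    rowC_ge (k := k + 1) le_rfl, rowC_lt (by omega : k < k + 1), rowC_ge (k := m + 1 + 1) (by omega),
    rowC_ge (k := m + 1) (by omega), E_succ_v k (by omega)]
  have e1 : k + (k + 1) = m + 1 := by omega
  rw [e1]
  ext j
  simp only [Pi.add_apply]
  linear_combination ((E (m + 1) : Fin (m + 3) → F) j + (E (m + 1 + 1) : Fin (m + 3) → F) j) * h2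

include hm h2 in
theorem sC_row_zero : E 0 ᵥ* (sS (gC F m h h1) (vS F m)).1 = E 0 + E h + E (m + 2) := by
  apply row_transfer
  show ((E 0 + E h + E (m + 2)) ᵥ* vM F m) ᵥ* ofRows (rowC h) = (E 0 ᵥ* ofRows (rowC h)) ᵥ* vM F m
  obtain ⟨k, rfl⟩ : ∃ k, h = k + 1 := ⟨h - 1, by omega⟩
  simp only [add_vecMul]
  rw [E_zero_v, E_succ_v k (by omega), E_succ_v (m + 1) (by omega)]
  simp only [add_vecMul]
  rw [E_ofRows _ _ (by omega), E_ofRows _ _ (by omega), E_ofRows _ _ (by omega), E_ofRows _ _ (by omega),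
    E_ofRows _ _ (by omega),
    rowC_ge (k := k + 1) le_rfl, rowC_lt (by omega : k < k + 1), rowC_ge (k := m + 1 + 1) (by omega),
    rowC_ge (k := m + 1) (by omega), rowC_lt (by omega : 0 < k + 1)]
  simp only [add_vecMul]
  rw [E_zero_v, zero_add, E_succ_v k (by omega), E_succ_v (k + 1) (by omega)]
  have e1 : k + (k + 1) = m + 1 := by omega
  rw [e1]
  ext j
  simp only [Pi.add_apply]
  linear_combination ((E (m + 1) : Fin (m + 3) → F) j + (E (m + 1 + 1) : Fin (m + 3) → F) j) * h2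

include hm h2 in
theorem sC_sq : ((sS (gC F m h h1) (vS F m)) ^ 2).1 = 1 + vecMulVec ((1 : F) • E 0) (E (m + 2)) := by
  rw [coe_pow', one_smul]
  apply ext_rows
  intro k hk
  rw [pow_two, ← vecMul_vecMul, vecMul_add, vecMul_one, vecMul_vecMulVec, E_dot_E k 0 hk]
  have hl : E (m + 2) ᵥ* (sS (gC F m h h1) (vS F m)).1 = E (m + 2) :=
    sC_row_gen h1 hm (by omega) (by omega) (by omega)
  by_cases hk0 : k = 0
  · subst hk0
    rw [sC_row_zero h1 hm h2, add_vecMul, add_vecMul, sC_row_zero h1 hm h2, sC_row_h h1 hm h2, hl]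
    ext j
    simp only [Pi.add_apply, Pi.smul_apply, if_true, smul_eq_mul]
    linear_combination ((E h : Fin (m + 3) → F) j + (E (m + 2) : Fin (m + 3) → F) j) * h2
  · by_cases hkh : k = h
    · subst hkh
      rw [sC_row_h h1 hm h2, add_vecMul, sC_row_h h1 hm h2, hl, if_neg hk0, zero_smul, add_zero]
      ext j
      simp only [Pi.add_apply]
      linear_combination ((E (m + 2) : Fin (m + 3) → F) j) * h2
    · rw [sC_row_gen h1 hm hk hk0 hkh, sC_row_gen h1 hm hk hk0 hkh, if_neg hk0, zero_smul, add_zero]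

include hm h2 in
/-- generation in characteristic two, odd dimension, prime field -/
theorem main_C [Fintype F] (hp : (Fintype.card F).Prime) :
    Subgroup.closure ({vS F m, gC F m h h1 * vS F m * (gC F m h h1)⁻¹} :
      Set (SpecialLinearGroup (Fin (m + 3)) F)) = ⊤ := by
  set H := Subgroup.closure ({vS F m, gC F m h h1 * vS F m * (gC F m h h1)⁻¹} :
      Set (SpecialLinearGroup (Fin (m + 3)) F)) with hH
  have hv : vS F m ∈ H := Subgroup.subset_closure (by simp)
  have hu : gC F m h h1 * vS F m * (gC F m h h1)⁻¹ ∈ H := Subgroup.subset_closure (by simp)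
  have hs := sS_mem hv hu
  have h0 : (E (m + 2) : Fin (m + 3) → F) ⬝ᵥ E 0 = 0 := by rw [E_dot_E _ _ (by omega)]; simp
  apply eq_top_of_root hv
  intro x
  have ht : (1 : F) ∈ dirSub H (E 0) (E (m + 2)) h0 := ⟨_, H.pow_mem hs 2, sC_sq h1 hm h2⟩
  exact addSubgroup_top_of_prime hp _ one_ne_zero ht x

end Cfsg.Agent.Lib.Helper43TwoC
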