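import Mathlib
import Cfsg.Agent.Lib.Helper50Tv
import Cfsg.Agent.Lib.Helper43Transv

set_option autoImplicit false

/-! PROJECT 8 (minimal index of `PSL_n(q)`, S2140): vocabulary and API of general transvections. -/

namespace Cfsg.Agent.Lib.Helper98MinDefs

open Matrix Cfsg.Agent.Lib.Helper50Tv

variable {F : Type*} [Field F] {ι : Type*} [Fintype ι] [DecidableEq ι]
set_option linter.unusedSectionVars false

theorem sl_ext {A B : SpecialLinearGroup ι F} (h : (A : Matrix ι ι F) = (B : Matrix ι ι F)) :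
    A = B := Subtype.ext h

theorem coe_inv_mul (g : SpecialLinearGroup ι F) :
    ((g⁻¹ : SpecialLinearGroup ι F) : Matrix ι ι F) * (g : Matrix ι ι F) = 1 :=
  Cfsg.Agent.Lib.Helper43Transv.coe_inv_mul g

theorem coe_mul_inv (g : SpecialLinearGroup ι F) :
    (g : Matrix ι ι F) * ((g⁻¹ : SpecialLinearGroup ι F) : Matrix ι ι F) = 1 :=
  Cfsg.Agent.Lib.Helper43Transv.coe_mul_inv g

open Classical in
/-- total version of the transvection `1 + v φᵀ` (equal to `1` if `φ ⬝ᵥ v ≠ 0`). -/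
noncomputable def T (v φ : ι → F) : SpecialLinearGroup ι F :=
  if h : φ ⬝ᵥ v = 0 then tv v φ h else 1

theorem T_of_ne {v φ : ι → F} (h : φ ⬝ᵥ v ≠ 0) : T v φ = 1 := dif_neg h

theorem T_eq_tv {v φ : ι → F} (h : φ ⬝ᵥ v = 0) : T v φ = tv v φ h := dif_pos h

theorem T_coe {v φ : ι → F} (h : φ ⬝ᵥ v = 0) :
    (T v φ : Matrix ι ι F) = 1 + vecMulVec v φ := by
  rw [T_eq_tv h, tv_coe]

@[simp] theorem T_zero_left (φ : ι → F) : T (0 : ι → F) φ = 1 := by
  apply sl_ext
  rw [T_coe (by simp)]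
  simp

@[simp] theorem T_zero_right (v : ι → F) : T v (0 : ι → F) = 1 := by
  apply sl_ext
  rw [T_coe (by simp)]
  simp

theorem T_add_right {v φ φ' : ι → F} (h : φ ⬝ᵥ v = 0) (h' : φ' ⬝ᵥ v = 0) :
    T v (φ + φ') = T v φ * T v φ' := by
  apply sl_ext
  rw [Matrix.SpecialLinearGroup.coe_mul, T_coe h, T_coe h', T_coe (by rw [add_dotProduct, h, h', add_zero])]
  simp only [mul_add, add_mul, mul_one, one_mul, vecMulVec_mul_vecMulVec, h, zero_smul,
    vecMulVec_zero, add_zero, vecMulVec_add]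
  abel

theorem T_add_left {v v' φ : ι → F} (h : φ ⬝ᵥ v = 0) (h' : φ ⬝ᵥ v' = 0) :
    T (v + v') φ = T v φ * T v' φ := by
  apply sl_ext
  rw [Matrix.SpecialLinearGroup.coe_mul, T_coe h, T_coe h', T_coe (by rw [dotProduct_add, h, h', add_zero])]
  simp only [mul_add, add_mul, mul_one, one_mul, vecMulVec_mul_vecMulVec, h', zero_smul,
    vecMulVec_zero, add_zero, add_vecMulVec]
  abel

theorem T_smul (c : F) (v φ : ι → F) : T (c • v) φ = T v (c • φ) := by
  by_cases h : φ ⬝ᵥ v = 0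
  · apply sl_ext
    rw [T_coe (by rw [dotProduct_smul, h, smul_zero]), T_coe (by rw [smul_dotProduct, h, smul_zero]),
      smul_vecMulVec, vecMulVec_smul]
  · by_cases hc : c = 0
    · subst hc; simp
    · rw [T_of_ne, T_of_ne]
      · rw [smul_dotProduct]; exact smul_ne_zero hc h
      · rw [dotProduct_smul]; exact smul_ne_zero hc h

theorem T_inv {v φ : ι → F} (h : φ ⬝ᵥ v = 0) : (T v φ)⁻¹ = T v (-φ) := by
  rw [inv_eq_iff_mul_eq_one, ← T_add_right h (by rw [neg_dotProduct, h, neg_zero]), add_neg_cancel,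
    T_zero_right]

theorem T_neg_left (v φ : ι → F) : T (-v) φ = T v (-φ) := by
  have := T_smul (-1 : F) v φ
  simpa using this

theorem T_conj (g : SpecialLinearGroup ι F) (v φ : ι → F) :
    g * T v φ * g⁻¹ = T ((g : Matrix ι ι F) *ᵥ v)
      (φ ᵥ* ((g⁻¹ : SpecialLinearGroup ι F) : Matrix ι ι F)) := by
  have e2 := coe_inv_mul g
  have key : (φ ᵥ* ((g⁻¹ : SpecialLinearGroup ι F) : Matrix ι ι F)) ⬝ᵥ ((g : Matrix ι ι F) *ᵥ v)
      = φ ⬝ᵥ v := by
    rw [← dotProduct_mulVec, mulVec_mulVec, e2, one_mulVec]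
  by_cases h : φ ⬝ᵥ v = 0
  · obtain ⟨h', e⟩ := conj_tv g v φ h
    rw [T_eq_tv h, e, T_eq_tv h']
  · rw [T_of_ne h, T_of_ne (by rw [key]; exact h), mul_one, mul_inv_cancel]

theorem T_mulVec {v φ : ι → F} (h : φ ⬝ᵥ v = 0) (w : ι → F) :
    (T v φ : Matrix ι ι F) *ᵥ w = w + (φ ⬝ᵥ w) • v := by
  rw [T_coe h, add_mulVec, one_mulVec, vecMulVec_mulVec]
  simp

theorem vecMul_T {v φ : ι → F} (h : φ ⬝ᵥ v = 0) (w : ι → F) :
    w ᵥ* (T v φ : Matrix ι ι F) = w + (w ⬝ᵥ v) • φ := by
  rw [T_coe h, vecMul_add, vecMul_one, vecMul_vecMulVec]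

theorem T_conj_T {u ψ : ι → F} (h : ψ ⬝ᵥ u = 0) (v φ : ι → F) :
    T u ψ * T v φ * (T u ψ)⁻¹ = T (v + (ψ ⬝ᵥ v) • u) (φ - (φ ⬝ᵥ u) • ψ) := by
  rw [T_conj, T_mulVec h, T_inv h, vecMul_T (by rw [neg_dotProduct, h, neg_zero]), smul_neg,
    sub_eq_add_neg]

theorem T_eq_one_iff {v φ : ι → F} (h : φ ⬝ᵥ v = 0) : T v φ = 1 ↔ v = 0 ∨ φ = 0 := by
  constructor
  · intro e
    by_contra hc
    push Not at hc
    have e1 : (T v φ : Matrix ι ι F) = ((1 : SpecialLinearGroup ι F) : Matrix ι ι F) := by rw [e]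
    rw [T_coe h, Matrix.SpecialLinearGroup.coe_one, add_eq_left] at e1
    exact vecMulVec_ne_zero hc.1 hc.2 e1
  · rintro (rfl | rfl) <;> simp

/-- the inverse transpose automorphism. -/
def dualAut : SpecialLinearGroup ι F →* SpecialLinearGroup ι F where
  toFun g := ⟨((g⁻¹ : SpecialLinearGroup ι F) : Matrix ι ι F)ᵀ, by
    rw [det_transpose]; exact (g⁻¹).2⟩
  map_one' := by
    apply sl_ext
    change ((1⁻¹ : SpecialLinearGroup ι F) : Matrix ι ι F)ᵀ = ((1 : SpecialLinearGroup ι F) : Matrix ι ι F)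
    rw [inv_one, Matrix.SpecialLinearGroup.coe_one, transpose_one]
  map_mul' a b := by
    apply sl_ext
    change (((a * b)⁻¹ : SpecialLinearGroup ι F) : Matrix ι ι F)ᵀ
      = ((a⁻¹ : SpecialLinearGroup ι F) : Matrix ι ι F)ᵀ * ((b⁻¹ : SpecialLinearGroup ι F) : Matrix ι ι F)ᵀ
    rw [_root_.mul_inv_rev, Matrix.SpecialLinearGroup.coe_mul, transpose_mul]

theorem dualAut_coe (g : SpecialLinearGroup ι F) :
    (dualAut g : Matrix ι ι F) = ((g⁻¹ : SpecialLinearGroup ι F) : Matrix ι ι F)ᵀ := rfl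

theorem dualAut_T (v φ : ι → F) : dualAut (T v φ) = T (-φ) v := by
  by_cases h : φ ⬝ᵥ v = 0
  · apply sl_ext
    rw [dualAut_coe, T_inv h, T_coe (by rw [neg_dotProduct, h, neg_zero]),
      T_coe (by rw [dotProduct_neg, dotProduct_comm, h, neg_zero]), transpose_add, transpose_one]
    congr 1
    ext i j
    simp [vecMulVec_apply, mul_comm]
  · rw [T_of_ne h, T_of_ne (by rw [dotProduct_neg, dotProduct_comm]; exact neg_ne_zero.2 h), map_one]

theorem dualAut_dualAut (g : SpecialLinearGroup ι F) : dualAut (dualAut g) = g := by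
  let gt : SpecialLinearGroup ι F := ⟨(g : Matrix ι ι F)ᵀ, by rw [det_transpose]; exact g.2⟩
  have hgt : (gt : Matrix ι ι F) = (g : Matrix ι ι F)ᵀ := rfl
  have h : dualAut g * gt = 1 := by
    apply sl_ext
    rw [Matrix.SpecialLinearGroup.coe_mul, dualAut_coe, hgt, ← transpose_mul, coe_mul_inv,
      Matrix.SpecialLinearGroup.coe_one, transpose_one]
  have h2 : (dualAut g)⁻¹ = gt := inv_eq_of_mul_eq_one_right h
  apply sl_ext
  rw [dualAut_coe, h2, hgt, transpose_transpose]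

/-! ### generation and transitivity -/

theorem eq_top_of_T_mem [Nontrivial ι] (H : Subgroup (SpecialLinearGroup ι F))
    (h : ∀ v φ : ι → F, T v φ ∈ H) : H = ⊤ := by
  apply Cfsg.Agent.Lib.Helper43Transv.eq_top_of_fullF
  intro k a ha
  exact ⟨T a _, h _ _, T_coe ha⟩

/-! ### linear algebra for the dot product -/

theorem dual_eq_dot (f : Module.Dual F (ι → F)) : ∃ x : ι → F, ∀ w, f w = x ⬝ᵥ w := by
  refine ⟨fun i => f (Pi.single i 1), fun w => ?_⟩
  rw [LinearMap.pi_apply_eq_sum_univ f w]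
  simp only [dotProduct, smul_eq_mul, mul_comm]
  refine Finset.sum_congr rfl fun i _ => ?_
  congr 2
  funext j
  simp [Pi.single_apply, eq_comm]

theorem exists_dual_pair {a b : ι → F} (h : a ∉ Submodule.span F {b}) :
    ∃ x : ι → F, x ⬝ᵥ a = 1 ∧ x ⬝ᵥ b = 0 := by
  obtain ⟨f, hf, hf'⟩ := Submodule.exists_dual_map_eq_bot_of_notMem h inferInstance
  obtain ⟨x, hx⟩ := dual_eq_dot f
  refine ⟨(f a)⁻¹ • x, ?_, ?_⟩
  · rw [smul_dotProduct, ← hx, smul_eq_mul, inv_mul_cancel₀ hf]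
  · have : f b ∈ (Submodule.span F {b}).map f := ⟨b, Submodule.mem_span_singleton_self b, rfl⟩
    rw [hf', Submodule.mem_bot] at this
    rw [smul_dotProduct, ← hx, this, smul_zero]

/-- the orthogonal of a subspace for the dot product. -/
def perp (S : Submodule F (ι → F)) : Submodule F (ι → F) where
  carrier := {e | ∀ φ ∈ S, φ ⬝ᵥ e = 0}
  add_mem' := fun {a b} ha hb φ hφ => by rw [dotProduct_add, ha φ hφ, hb φ hφ, add_zero]
  zero_mem' := fun φ _ => dotProduct_zero φ
  smul_mem' := fun c a ha φ hφ => by rw [dotProduct_smul, ha φ hφ, smul_zero]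

theorem mem_perp {S : Submodule F (ι → F)} {e : ι → F} : e ∈ perp S ↔ ∀ φ ∈ S, φ ⬝ᵥ e = 0 :=
  Iff.rfl

theorem finrank_perp (S : Submodule F (ι → F)) :
    Module.finrank F (perp S) + Module.finrank F S = Fintype.card ι := by
  have hB : (Matrix.toBilin' (1 : Matrix ι ι F)).Nondegenerate :=
    Matrix.Nondegenerate.toBilin' (Matrix.nondegenerate_of_det_ne_zero (by simp))
  have h1 : (Matrix.toBilin' (1 : Matrix ι ι F)).orthogonal S = perp S := by
    ext e
    rw [LinearMap.BilinForm.mem_orthogonal_iff, mem_perp]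
    refine forall₂_congr fun φ _ => ?_
    rw [Matrix.toBilin'_apply', one_mulVec]
  have h2 := LinearMap.BilinForm.finrank_orthogonal hB S
  rw [h1, Module.finrank_fintype_fun_eq_card] at h2
  have h3 : Module.finrank F S ≤ Fintype.card ι := by
    have := Submodule.finrank_le S
    rwa [Module.finrank_fintype_fun_eq_card] at this
  omega

theorem mem_perp_span_pair {a b e : ι → F} :
    e ∈ perp (Submodule.span F {a, b}) ↔ a ⬝ᵥ e = 0 ∧ b ⬝ᵥ e = 0 := by
  rw [mem_perp]
  constructor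
  · intro h
    exact ⟨h a (Submodule.subset_span (by simp)), h b (Submodule.subset_span (by simp))⟩
  · rintro ⟨h1, h2⟩ φ hφ
    obtain ⟨c, d, rfl⟩ := Submodule.mem_span_pair.1 hφ
    rw [add_dotProduct, smul_dotProduct, smul_dotProduct, h1, h2]
    simp

theorem exists_perp2 (hn : 3 ≤ Fintype.card ι) (a b : ι → F) :
    ∃ c : ι → F, c ≠ 0 ∧ a ⬝ᵥ c = 0 ∧ b ⬝ᵥ c = 0 := by
  have h1 := finrank_perp (Submodule.span F {a, b})
  have h2 : Module.finrank F (Submodule.span F {a, b}) ≤ 2 := by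
    classical
    have := finrank_span_finset_le_card (R := F) ({a, b} : Finset (ι → F))
    rw [Finset.coe_insert, Finset.coe_singleton] at this
    exact this.trans Finset.card_le_two
  have h3 : 0 < Module.finrank F (perp (Submodule.span F {a, b})) := by omega
  obtain ⟨⟨c, hc⟩, hne⟩ := Module.finrank_pos_iff_exists_ne_zero.1 h3
  refine ⟨c, fun h => hne (Subtype.ext h), mem_perp_span_pair.1 hc⟩

theorem exists_perp1 (hn : 2 ≤ Fintype.card ι) (a : ι → F) :
    ∃ c : ι → F, c ≠ 0 ∧ a ⬝ᵥ c = 0 := by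
  have h1 := finrank_perp (Submodule.span F {a})
  have h2 : Module.finrank F (Submodule.span F {a}) ≤ 1 := by
    classical
    have := finrank_span_finset_le_card (R := F) ({a} : Finset (ι → F))
    rw [Finset.coe_singleton] at this
    exact this.trans (by simp)
  have h3 : 0 < Module.finrank F (perp (Submodule.span F {a})) := by omega
  obtain ⟨⟨c, hc⟩, hne⟩ := Module.finrank_pos_iff_exists_ne_zero.1 h3
  exact ⟨c, fun h => hne (Subtype.ext h), hc a (Submodule.mem_span_singleton_self a)⟩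

/-- `SL` is transitive on non zero vectors. -/
theorem exists_mulVec_eq (hn : 2 ≤ Fintype.card ι) {v w : ι → F} (hv : v ≠ 0) (hw : w ≠ 0) :
    ∃ g : SpecialLinearGroup ι F, (g : Matrix ι ι F) *ᵥ v = w := by
  have step : ∀ v w : ι → F, v ∉ Submodule.span F {w - v} →
      ∃ g : SpecialLinearGroup ι F, (g : Matrix ι ι F) *ᵥ v = w := by
    intro v w h
    obtain ⟨x, hx1, hx2⟩ := exists_dual_pair h
    refine ⟨T (w - v) x, ?_⟩
    rw [T_mulVec hx2, hx1, one_smul, add_sub_cancel]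
  have indep : ∀ v w : ι → F, v ≠ 0 → w ∉ Submodule.span F {v} →
      v ∉ Submodule.span F {w - v} := by
    intro v w hv h hm
    obtain ⟨c, hc⟩ := Submodule.mem_span_singleton.1 hm
    apply h
    have hc0 : c ≠ 0 := by
      rintro rfl
      rw [zero_smul] at hc
      exact hv hc.symm
    refine Submodule.mem_span_singleton.2 ⟨c⁻¹ * (1 + c), ?_⟩
    have h1 : c • w = (1 + c) • v := by
      rw [smul_sub] at hc
      rw [add_smul, one_smul]
      nth_rewrite 1 [← hc]
      abel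
    rw [mul_smul, ← h1, smul_smul, inv_mul_cancel₀ hc0, one_smul]
  by_cases hwv : w ∈ Submodule.span F {v}
  · -- go through a third vector
    obtain ⟨c, hc, hvc⟩ := exists_perp1 hn v
    -- `u` not in the span of `v`
    have hex : ∃ u : ι → F, u ∉ Submodule.span F {v} := by
      by_contra hcon
      push Not at hcon
      have htop : Submodule.span F {v} = ⊤ := by
        rw [eq_top_iff]; intro u _; exact hcon u
      have h1 : Module.finrank F (Submodule.span F {v}) = Fintype.card ι := by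
        rw [htop, finrank_top, Module.finrank_fintype_fun_eq_card]
      rw [finrank_span_singleton hv] at h1
      omega
    obtain ⟨u, hu⟩ := hex
    have hu0 : u ≠ 0 := by
      rintro rfl
      exact hu (Submodule.zero_mem _)
    obtain ⟨g1, hg1⟩ := step v u (indep v u hv hu)
    have hwu : w ∉ Submodule.span F {u} := by
      intro hm
      obtain ⟨a, ha⟩ := Submodule.mem_span_singleton.1 hm
      obtain ⟨b, hb⟩ := Submodule.mem_span_singleton.1 hwv
      have ha0 : a ≠ 0 := by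
        rintro rfl
        rw [zero_smul] at ha
        exact hw ha.symm
      apply hu
      refine Submodule.mem_span_singleton.2 ⟨a⁻¹ * b, ?_⟩
      rw [mul_smul, hb, ← ha, smul_smul, inv_mul_cancel₀ ha0, one_smul]
    obtain ⟨g2, hg2⟩ := step u w (indep u w hu0 hwu)
    refine ⟨g2 * g1, ?_⟩
    rw [Matrix.SpecialLinearGroup.coe_mul, ← mulVec_mulVec, hg1, hg2]
  · exact step v w (indep v w hv hwv)

/-! ### the two possible local structures -/

variable {Ω : Type*}

/-- the group `E_v` of transvections with centre `v` has a regular orbit and fixes all other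
points. -/
def TypeA (α : SpecialLinearGroup ι F →* Equiv.Perm Ω) (v : ι → F) : Prop :=
  ∃ ω₀ : Ω, (∀ φ, φ ⬝ᵥ v = 0 → α (T v φ) ω₀ = ω₀ → φ = 0) ∧
    ∀ ω, (∃ φ, φ ⬝ᵥ v = 0 ∧ α (T v φ) ω₀ = ω) ∨ (∀ φ, φ ⬝ᵥ v = 0 → α (T v φ) ω = ω)

/-- all point stabilisers in `E_v` are `F`-hyperplanes of `E_v`. -/
def TypeB (α : SpecialLinearGroup ι F →* Equiv.Perm Ω) (v : ι → F) : Prop :=
  ∀ ω : Ω, ∃ S : Submodule F (ι → F), (∀ φ ∈ S, φ ⬝ᵥ v = 0) ∧
    (∀ φ, φ ⬝ᵥ v = 0 → (α (T v φ) ω = ω ↔ φ ∈ S)) ∧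
    Module.finrank F S + 2 = Fintype.card ι

/-- stabiliser of a point in an additive group acting through `ρ`. -/
def St {W : Type*} [AddCommGroup W] (ρ : Multiplicative W →* Equiv.Perm Ω) (ω : Ω) :
    AddSubgroup W where
  carrier := {a | ρ (Multiplicative.ofAdd a) ω = ω}
  add_mem' := fun {a b} ha hb => by
    change ρ (Multiplicative.ofAdd (a + b)) ω = ω
    rw [ofAdd_add, map_mul, Equiv.Perm.mul_apply]
    rw [show ρ (Multiplicative.ofAdd b) ω = ω from hb]
    exact ha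
  zero_mem' := by
    change ρ (Multiplicative.ofAdd 0) ω = ω
    rw [ofAdd_zero, map_one]; rfl
  neg_mem' := fun {a} ha => by
    change ρ (Multiplicative.ofAdd (-a)) ω = ω
    rw [ofAdd_neg, map_inv, Equiv.Perm.inv_eq_iff_eq]
    exact (show ρ (Multiplicative.ofAdd a) ω = ω from ha).symm

theorem mem_St {W : Type*} [AddCommGroup W] {ρ : Multiplicative W →* Equiv.Perm Ω} {ω : Ω}
    {a : W} : a ∈ St ρ ω ↔ ρ (Multiplicative.ofAdd a) ω = ω := Iff.rfl

end Cfsg.Agent.Lib.Helper98MinDefs
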