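import Mathlib
import Cfsg.Agent.Lib.Helper98MinDefs

set_option autoImplicit false

/-! S2272: in `PSL_d(F)`, `d ≥ 3`, a product of two non-trivial classes is not a class.
Invariant: "trace zero".  For non scalar `A`, `B` there are conjugates `A'`, `B'` and a transvection
group `H_s = 1 + s u φᵀ` such that `tr (A' H_s B' H_s⁻¹)` is a non constant affine function of `s`. -/

namespace Cfsg.Agent.Lib.Helper44ClsProd

open Matrix Cfsg.Agent.Lib.Helper98MinDefs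

variable {F : Type*} [Field F] {ι : Type*} [Fintype ι] [DecidableEq ι]

theorem exists_not_eigen (A : Matrix ι ι F) (hA : ¬ ∃ c : F, A = Matrix.scalar ι c) :
    ∃ v : ι → F, A *ᵥ v ∉ Submodule.span F {v} := by
  by_contra hcon
  push Not at hcon
  apply hA
  have h1 : ∀ v : ι → F, ∃ c : F, c • v = A *ᵥ v := fun v =>
    Submodule.mem_span_singleton.1 (hcon v)
  choose c hc using fun i : ι => h1 (Pi.single i 1)
  have hcol : ∀ i k : ι, A k i = if k = i then c i else 0 := by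
    intro i k
    have := congrFun (hc i) k
    rw [Matrix.mulVec_single_one] at this
    simp only [Pi.smul_apply, smul_eq_mul, Pi.single_apply, Matrix.col_apply] at this
    rw [← this]
    split_ifs <;> simp
  have hcc : ∀ i j : ι, c i = c j := by
    intro i j
    by_cases hij : i = j
    · rw [hij]
    obtain ⟨e, he⟩ := h1 (Pi.single i 1 + Pi.single j 1)
    rw [Matrix.mulVec_add, ← hc i, ← hc j] at he
    have hi := congrFun he i
    have hj := congrFun he j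
    simp only [Pi.smul_apply, Pi.add_apply, smul_eq_mul, Pi.single_apply, if_true] at hi hj
    rw [if_neg hij] at hi
    rw [if_neg (Ne.symm hij)] at hj
    simp only [add_zero, zero_add, mul_one, mul_zero] at hi hj
    rw [← hi, ← hj]
  rcases isEmpty_or_nonempty ι with hι | ⟨⟨i0⟩⟩
  · exact ⟨0, by ext i; exact (hι.false i).elim⟩
  · refine ⟨c i0, ?_⟩
    ext k i
    rw [hcol i k, Matrix.scalar_apply, Matrix.diagonal_apply, hcc i i0]

theorem exists_dual_of_notMem (S : Submodule F (ι → F)) {a : ι → F} (h : a ∉ S) :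
    ∃ x : ι → F, x ⬝ᵥ a = 1 ∧ ∀ b ∈ S, x ⬝ᵥ b = 0 := by
  obtain ⟨f, hf, hf'⟩ := Submodule.exists_dual_map_eq_bot_of_notMem h inferInstance
  obtain ⟨x, hx⟩ := dual_eq_dot f
  refine ⟨(f a)⁻¹ • x, ?_, ?_⟩
  · rw [smul_dotProduct, ← hx, smul_eq_mul, inv_mul_cancel₀ hf]
  · intro b hb
    have : f b ∈ S.map f := ⟨b, hb, rfl⟩
    rw [hf', Submodule.mem_bot] at this
    rw [smul_dotProduct, ← hx, this, smul_zero]

theorem trace_T (A B : Matrix ι ι F) (u φ : ι → F) :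
    trace (A * ((1 + vecMulVec u φ) * B * (1 + vecMulVec u (-φ)))) =
      trace (A * B) + (φ ⬝ᵥ (B *ᵥ (A *ᵥ u)) - φ ⬝ᵥ (A *ᵥ (B *ᵥ u))) -
        (φ ⬝ᵥ (B *ᵥ u)) * (φ ⬝ᵥ (A *ᵥ u)) := by
  have e1 : A * ((1 + vecMulVec u φ) * B * (1 + vecMulVec u (-φ))) =
      A * B + A * vecMulVec u φ * B - A * B * vecMulVec u φ -
        A * vecMulVec u φ * B * vecMulVec u φ := by
    rw [Matrix.vecMulVec_neg]
    noncomm_ring
  have t1 : trace (A * vecMulVec u φ * B) = φ ⬝ᵥ (B *ᵥ (A *ᵥ u)) := by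
    rw [Matrix.mul_vecMulVec, Matrix.vecMulVec_mul, Matrix.trace_vecMulVec, dotProduct_comm,
      ← Matrix.dotProduct_mulVec]
  have t2 : trace (A * B * vecMulVec u φ) = φ ⬝ᵥ (A *ᵥ (B *ᵥ u)) := by
    rw [Matrix.mul_vecMulVec, Matrix.trace_vecMulVec, dotProduct_comm, Matrix.mulVec_mulVec]
  have t3 : trace (A * vecMulVec u φ * B * vecMulVec u φ) =
      (φ ⬝ᵥ (B *ᵥ u)) * (φ ⬝ᵥ (A *ᵥ u)) := by
    rw [Matrix.mul_vecMulVec, Matrix.trace_vecMulVec, ← Matrix.mulVec_mulVec,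
      ← Matrix.mulVec_mulVec, Matrix.vecMulVec_mulVec, Matrix.mulVec_smul, smul_dotProduct,
      dotProduct_comm (A *ᵥ u) φ]
    simp [mul_comm]
  rw [e1, Matrix.trace_sub, Matrix.trace_sub, Matrix.trace_add, t1, t2, t3]
  ring


abbrev SLn (ι : Type*) [Fintype ι] [DecidableEq ι] (F : Type*) [Field F] :=
  Matrix.SpecialLinearGroup ι F

theorem conj_mulVec (g A : SLn ι F) (v : ι → F) :
    ((g * A * g⁻¹ : SLn ι F) : Matrix ι ι F) *ᵥ ((g : Matrix ι ι F) *ᵥ v) =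
      (g : Matrix ι ι F) *ᵥ ((A : Matrix ι ι F) *ᵥ v) := by
  rw [Matrix.SpecialLinearGroup.coe_mul, Matrix.SpecialLinearGroup.coe_mul, Matrix.mulVec_mulVec,
    Matrix.mul_assoc, coe_inv_mul, Matrix.mul_one, Matrix.mulVec_mulVec]

theorem mulVec_inj (g : SLn ι F) {v w : ι → F}
    (h : (g : Matrix ι ι F) *ᵥ v = (g : Matrix ι ι F) *ᵥ w) : v = w := by
  have := congrArg (fun x => ((g⁻¹ : SLn ι F) : Matrix ι ι F) *ᵥ x) h
  simpa only [Matrix.mulVec_mulVec, coe_inv_mul, Matrix.one_mulVec] using this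

/-- a conjugate of `A` moving `u` outside the plane `⟨u, y⟩`. -/
theorem exists_conj_out (hn : 3 ≤ Fintype.card ι) (A : SLn ι F)
    (hA : ¬ ∃ c : F, (A : Matrix ι ι F) = Matrix.scalar ι c) (u y : ι → F) (hu : u ≠ 0) :
    ∃ G : SLn ι F, ((G * A * G⁻¹ : SLn ι F) : Matrix ι ι F) *ᵥ u ∉ Submodule.span F {u, y} := by
  obtain ⟨v, hv⟩ := exists_not_eigen (A : Matrix ι ι F) hA
  have hv0 : v ≠ 0 := by
    rintro rfl
    apply hv
    rw [Matrix.mulVec_zero]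
    exact Submodule.zero_mem _
  obtain ⟨g₁, hg₁⟩ := exists_mulVec_eq (by omega) hv0 hu
  set w₁ := ((g₁ * A * g₁⁻¹ : SLn ι F) : Matrix ι ι F) *ᵥ u with hw₁
  have hw₁' : w₁ = (g₁ : Matrix ι ι F) *ᵥ ((A : Matrix ι ι F) *ᵥ v) := by
    rw [hw₁, ← hg₁, conj_mulVec]
  have hw₁u : w₁ ∉ Submodule.span F {u} := by
    intro hm
    obtain ⟨c, hc⟩ := Submodule.mem_span_singleton.1 hm
    apply hv
    rw [Submodule.mem_span_singleton]
    refine ⟨c, mulVec_inj g₁ ?_⟩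
    rw [Matrix.mulVec_smul, hg₁, hc, hw₁']
  by_cases hin : w₁ ∈ Submodule.span F {u, y}
  · obtain ⟨α, β, hαβ⟩ := Submodule.mem_span_pair.1 hin
    obtain ⟨ψ, hψ1, hψ0⟩ := exists_dual_pair hw₁u
    have hu' : u ∉ Submodule.span F {(0 : ι → F)} := by
      intro hm
      obtain ⟨c, hc⟩ := Submodule.mem_span_singleton.1 hm
      apply hu
      rw [← hc, smul_zero]
    obtain ⟨θ, hθ1, -⟩ := exists_dual_pair hu'
    obtain ⟨c, hc0, hc1, hc2⟩ := exists_perp2 hn ψ θ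
    have hβy : β * (ψ ⬝ᵥ y) = 1 := by
      rw [← hψ1, ← hαβ, dotProduct_add, dotProduct_smul, dotProduct_smul, hψ0]
      simp
    refine ⟨T c ψ * g₁, ?_⟩
    have e1 : ((T c ψ * g₁ * A * (T c ψ * g₁)⁻¹ : SLn ι F) : Matrix ι ι F) *ᵥ u = w₁ + c := by
      have e2 : T c ψ * g₁ * A * (T c ψ * g₁)⁻¹ = T c ψ * (g₁ * A * g₁⁻¹) * (T c ψ)⁻¹ := by group
      have e3 : (T c ψ : Matrix ι ι F) *ᵥ u = u := by
        rw [T_mulVec hc1, hψ0, zero_smul, add_zero]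
      rw [e2]
      conv_lhs => rw [← e3]
      rw [conj_mulVec, ← hw₁, T_mulVec hc1, hψ1, one_smul]
    rw [e1]
    intro hm
    have hcm : c ∈ Submodule.span F {u, y} := by
      have := Submodule.sub_mem _ hm hin
      rwa [add_sub_cancel_left] at this
    obtain ⟨γ, δ, hγδ⟩ := Submodule.mem_span_pair.1 hcm
    have h1 : δ * (ψ ⬝ᵥ y) = 0 := by
      have : ψ ⬝ᵥ c = 0 := hc1
      rw [← hγδ, dotProduct_add, dotProduct_smul, dotProduct_smul, hψ0] at this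
      simpa using this
    have hy0 : ψ ⬝ᵥ y ≠ 0 := by
      intro h0
      rw [h0, mul_zero] at hβy
      exact zero_ne_one hβy
    have hδ : δ = 0 := by
      rcases mul_eq_zero.1 h1 with h | h
      · exact h
      · exact absurd h hy0
    have h2 : γ = 0 := by
      have : θ ⬝ᵥ c = 0 := hc2
      rw [← hγδ, hδ, zero_smul, add_zero, dotProduct_smul, hθ1] at this
      simpa using this
    apply hc0
    rw [← hγδ, hδ, h2]
    simp
  · exact ⟨g₁, hin⟩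

/-- the main construction -/
theorem exists_affine (hn : 3 ≤ Fintype.card ι) (A B : SLn ι F)
    (hA : ¬ ∃ c : F, (A : Matrix ι ι F) = Matrix.scalar ι c)
    (hB : ¬ ∃ c : F, (B : Matrix ι ι F) = Matrix.scalar ι c) :
    ∃ (G H : SLn ι F) (u φ : ι → F), φ ⬝ᵥ u = 0 ∧
      φ ⬝ᵥ (((G * A * G⁻¹ : SLn ι F) : Matrix ι ι F) *ᵥ u) = 0 ∧
      φ ⬝ᵥ (((H * B * H⁻¹ : SLn ι F) : Matrix ι ι F) *ᵥ
          (((G * A * G⁻¹ : SLn ι F) : Matrix ι ι F) *ᵥ u)) -
        φ ⬝ᵥ (((G * A * G⁻¹ : SLn ι F) : Matrix ι ι F) *ᵥ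
          (((H * B * H⁻¹ : SLn ι F) : Matrix ι ι F) *ᵥ u)) ≠ 0 := by
  obtain ⟨u, hu⟩ := exists_not_eigen (B : Matrix ι ι F) hB
  have hu0 : u ≠ 0 := by
    rintro rfl
    apply hu
    rw [Matrix.mulVec_zero]
    exact Submodule.zero_mem _
  set x := (B : Matrix ι ι F) *ᵥ u with hx
  obtain ⟨G, hG⟩ := exists_conj_out hn A hA u x hu0
  set A' := ((G * A * G⁻¹ : SLn ι F) : Matrix ι ι F) with hA'
  set w := A' *ᵥ u with hw
  -- `x ∉ ⟨u, w⟩`
  have hxw : x ∉ Submodule.span F {u, w} := by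
    intro hm
    obtain ⟨α, β, hαβ⟩ := Submodule.mem_span_pair.1 hm
    by_cases hβ : β = 0
    · apply hu
      rw [Submodule.mem_span_singleton]
      exact ⟨α, by rw [← hαβ, hβ]; simp⟩
    · apply hG
      rw [Submodule.mem_span_pair]
      refine ⟨-(β⁻¹ * α), β⁻¹, ?_⟩
      rw [← hαβ, smul_add, smul_smul, smul_smul, inv_mul_cancel₀ hβ, one_smul, neg_smul]
      abel
  obtain ⟨φ, hφx, hφ0⟩ := exists_dual_of_notMem _ hxw
  have hφu : φ ⬝ᵥ u = 0 := hφ0 u (Submodule.subset_span (by simp))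
  have hφw : φ ⬝ᵥ w = 0 := hφ0 w (Submodule.subset_span (by simp))
  obtain ⟨ψ, hψw, hψ0⟩ := exists_dual_of_notMem _ hG
  have hψu : ψ ⬝ᵥ u = 0 := hψ0 u (Submodule.subset_span (by simp))
  have hψx : ψ ⬝ᵥ x = 0 := hψ0 x (Submodule.subset_span (by simp))
  by_cases hρ : φ ⬝ᵥ ((B : Matrix ι ι F) *ᵥ w) - φ ⬝ᵥ (A' *ᵥ x) = 0
  · -- conjugate `B` by `K = 1 - u ψᵀ`
    have hnψ : (-ψ) ⬝ᵥ u = 0 := by rw [neg_dotProduct, hψu, neg_zero]
    refine ⟨G, T u (-ψ), u, φ, hφu, hφw, ?_⟩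
    have eK : (T u (-ψ))⁻¹ = T u ψ := by rw [T_inv hnψ, neg_neg]
    have e1 : ∀ z : ι → F, ((T u (-ψ) * B * (T u (-ψ))⁻¹ : SLn ι F) : Matrix ι ι F) *ᵥ z =
        (T u (-ψ) : Matrix ι ι F) *ᵥ ((B : Matrix ι ι F) *ᵥ ((T u ψ : Matrix ι ι F) *ᵥ z)) := by
      intro z
      rw [eK, Matrix.SpecialLinearGroup.coe_mul, Matrix.SpecialLinearGroup.coe_mul,
        Matrix.mulVec_mulVec, Matrix.mulVec_mulVec]
    have e2 : ((T u (-ψ) * B * (T u (-ψ))⁻¹ : SLn ι F) : Matrix ι ι F) *ᵥ u = x := by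
      rw [e1, T_mulVec hψu, hψu, zero_smul, add_zero, ← hx, T_mulVec hnψ, neg_dotProduct, hψx]
      simp
    have e3 : φ ⬝ᵥ (((T u (-ψ) * B * (T u (-ψ))⁻¹ : SLn ι F) : Matrix ι ι F) *ᵥ w) =
        φ ⬝ᵥ ((B : Matrix ι ι F) *ᵥ w) + 1 := by
      rw [e1, T_mulVec hψu, hψw, one_smul, Matrix.mulVec_add, ← hx, T_mulVec hnψ, dotProduct_add,
        dotProduct_add, dotProduct_smul, hφu, hφx]
      simp
    rw [e2, e3]
    intro h
    have : (1 : F) = 0 := by linear_combination h - hρ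
    exact one_ne_zero this
  · refine ⟨G, 1, u, φ, hφu, hφw, ?_⟩
    have e0 : ((1 * B * 1⁻¹ : SLn ι F) : Matrix ι ι F) = (B : Matrix ι ι F) := by simp
    rw [e0]
    exact hρ


theorem trace_family (A' B' : SLn ι F) (u φ : ι → F) (hφu : φ ⬝ᵥ u = 0)
    (hφA : φ ⬝ᵥ ((A' : Matrix ι ι F) *ᵥ u) = 0) (s : F) :
    trace ((A' * (T u (s • φ) * B' * (T u (s • φ))⁻¹) : SLn ι F) : Matrix ι ι F) =
      trace ((A' : Matrix ι ι F) * (B' : Matrix ι ι F)) +
        s * (φ ⬝ᵥ ((B' : Matrix ι ι F) *ᵥ ((A' : Matrix ι ι F) *ᵥ u)) -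
          φ ⬝ᵥ ((A' : Matrix ι ι F) *ᵥ ((B' : Matrix ι ι F) *ᵥ u))) := by
  have hs : (s • φ) ⬝ᵥ u = 0 := by rw [smul_dotProduct, hφu, smul_zero]
  have hs' : (-(s • φ)) ⬝ᵥ u = 0 := by rw [neg_dotProduct, hs, neg_zero]
  rw [T_inv hs, Matrix.SpecialLinearGroup.coe_mul, Matrix.SpecialLinearGroup.coe_mul,
    Matrix.SpecialLinearGroup.coe_mul, T_coe hs, T_coe hs', trace_T]
  simp only [smul_dotProduct, smul_eq_mul, hφA, mul_zero, sub_zero]
  ring

theorem exists_traces (hn : 3 ≤ Fintype.card ι) (A B : SLn ι F)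
    (hA : ¬ ∃ c : F, (A : Matrix ι ι F) = Matrix.scalar ι c)
    (hB : ¬ ∃ c : F, (B : Matrix ι ι F) = Matrix.scalar ι c) :
    ∃ G H₁ H₂ : SLn ι F,
      trace ((G * A * G⁻¹ * (H₁ * B * H₁⁻¹) : SLn ι F) : Matrix ι ι F) = 0 ∧
      trace ((G * A * G⁻¹ * (H₂ * B * H₂⁻¹) : SLn ι F) : Matrix ι ι F) ≠ 0 := by
  obtain ⟨G, H, u, φ, hφu, hφA, hc⟩ := exists_affine hn A B hA hB
  have key := trace_family (G * A * G⁻¹) (H * B * H⁻¹) u φ hφu hφA
  generalize φ ⬝ᵥ (((H * B * H⁻¹ : SLn ι F) : Matrix ι ι F) *ᵥ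
          (((G * A * G⁻¹ : SLn ι F) : Matrix ι ι F) *ᵥ u)) -
        φ ⬝ᵥ (((G * A * G⁻¹ : SLn ι F) : Matrix ι ι F) *ᵥ
          (((H * B * H⁻¹ : SLn ι F) : Matrix ι ι F) *ᵥ u)) = c₁ at hc key
  generalize trace (((G * A * G⁻¹ : SLn ι F) : Matrix ι ι F) *
    ((H * B * H⁻¹ : SLn ι F) : Matrix ι ι F)) = t₀ at key
  have e1 : ∀ s : F, T u (s • φ) * H * B * (T u (s • φ) * H)⁻¹ =
      T u (s • φ) * (H * B * H⁻¹) * (T u (s • φ))⁻¹ := by
    intro s
    group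
  refine ⟨G, T u ((-t₀ / c₁) • φ) * H, T u ((-t₀ / c₁ + 1) • φ) * H, ?_, ?_⟩
  · rw [e1, key]
    field_simp
    ring
  · rw [e1, key]
    intro h
    apply hc
    have : t₀ + (-t₀ / c₁ + 1) * c₁ = c₁ := by
      field_simp
      ring
    rw [this] at h
    exact h

theorem trace_zero_iff_of_isConj (X Y : SLn ι F)
    (h : IsConj (QuotientGroup.mk X : Matrix.ProjectiveSpecialLinearGroup ι F)
      (QuotientGroup.mk Y)) :
    trace (X : Matrix ι ι F) = 0 ↔ trace (Y : Matrix ι ι F) = 0 := by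
  rcases isEmpty_or_nonempty ι with hι | hι
  · simp [Matrix.trace]
  rw [isConj_iff] at h
  obtain ⟨c, hc⟩ := h
  obtain ⟨C, rfl⟩ := QuotientGroup.mk_surjective c
  have h1 : (QuotientGroup.mk (C * X * C⁻¹) : Matrix.ProjectiveSpecialLinearGroup ι F) =
      QuotientGroup.mk Y := by
    rw [← hc]
    rfl
  rw [QuotientGroup.eq, Matrix.SpecialLinearGroup.mem_center_iff] at h1
  obtain ⟨r, hr1, hr2⟩ := h1
  have hr0 : r ≠ 0 := by
    rintro rfl
    rw [zero_pow Fintype.card_ne_zero] at hr1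
    exact zero_ne_one hr1
  have e1 : (Y : Matrix ι ι F) = ((C * X * C⁻¹ : SLn ι F) : Matrix ι ι F) * Matrix.scalar ι r := by
    rw [hr2, ← Matrix.SpecialLinearGroup.coe_mul, mul_inv_cancel_left]
  have e2 : trace (Y : Matrix ι ι F) = r * trace (X : Matrix ι ι F) := by
    rw [e1, Matrix.SpecialLinearGroup.coe_mul, Matrix.SpecialLinearGroup.coe_mul,
      Matrix.scalar_apply, ← Matrix.smul_one_eq_diagonal, Matrix.mul_smul, Matrix.mul_one,
      Matrix.trace_smul, Matrix.trace_mul_comm, ← Matrix.mul_assoc, coe_inv_mul, Matrix.one_mul,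
      smul_eq_mul]
  rw [e2, mul_eq_zero]
  constructor
  · intro h; exact Or.inr h
  · rintro (h | h)
    · exact absurd h hr0
    · exact h

end Cfsg.Agent.Lib.Helper44ClsProd
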