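import Mathlib
import Cfsg.Agent.Lib.Helper45ProjOrder
import Cfsg.Agent.Lib.Helper45SpTri

set_option autoImplicit false

namespace Cfsg.Agent.Lib.Helper45PSL

open Module Polynomial Matrix Cfsg.Agent.Lib.Helper45ProjOrder Cfsg.Agent.Lib.Helper45Semisimple

universe u v w

section Alg

variable {F : Type u} [Field F] {n : ℕ}

/-- an element of norm one of a commutative algebra of dimension `n` gives an element of `PSL_n` -/
theorem exists_psl_of_algebra {A : Type v} [CommRing A] [Algebra F A] [Module.Finite F A]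
    (hdim : finrank F A = n) (w : A) (hw : Algebra.norm F w = 1) :
    ∃ y : Matrix.ProjectiveSpecialLinearGroup (Fin n) F,
      ∀ j : ℕ, y ^ j = 1 ↔ ∃ c : F, w ^ j = algebraMap F A c := by
  have hdet : LinearMap.det (LinearMap.mulLeft F w) = 1 := by
    rw [Algebra.norm_apply] at hw
    exact hw
  refine ⟨QuotientGroup.mk (slOf (finBasisOfFinrankEq F A hdim) (LinearMap.mulLeft F w) hdet), ?_⟩
  intro j
  rw [proj_slOf_pow_eq_one_iff, LinearMap.pow_mulLeft]
  apply exists_congr
  intro c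
  constructor
  · intro h
    have := LinearMap.congr_fun h 1
    simpa [Algebra.algebraMap_eq_smul_one] using this
  · intro h
    rw [h]
    apply LinearMap.ext
    intro x
    simp [Algebra.smul_def]

theorem orderOf_eq_of_pow_iff {G : Type u} [Monoid G] (y : G) (t : ℕ)
    (h1 : y ^ t = 1) (h2 : ∀ j, y ^ j = 1 → t ∣ j) : orderOf y = t :=
  Nat.dvd_antisymm (orderOf_dvd_of_pow_eq_one h1) (h2 _ (pow_orderOf_eq_one y))

theorem norm_prod_mk' {A : Type v} [CommRing A] [Algebra F A]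
    {A' : Type w} [CommRing A'] [Algebra F A'] [Module.Finite F A] [Module.Finite F A']
    (a : A) (b : A') : Algebra.norm F ((a, b) : A × A') = Algebra.norm F a * Algebra.norm F b := by
  rw [Algebra.norm_apply, Algebra.norm_apply, Algebra.norm_apply, ← LinearMap.det_prodMap]
  congr 1

/-- padding by a split torus part -/
theorem exists_psl_of_algebra_le {A : Type v} [CommRing A] [Algebra F A] [Module.Finite F A]
    {m : ℕ} (hdim : finrank F A = m) (hmn : m ≤ n) (w : A) (hw : Algebra.norm F w = 1) :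
    ∃ y : Matrix.ProjectiveSpecialLinearGroup (Fin n) F,
      ∀ j : ℕ, y ^ j = 1 ↔ ∃ c : F, w ^ j = algebraMap F A c ∧ (m < n → c = 1) := by
  obtain ⟨y, hy⟩ := exists_psl_of_algebra (F := F) (n := n) (A := A × (Fin (n - m) → F))
    (by rw [Module.finrank_prod, hdim, Module.finrank_fin_fun]; omega) (w, 1)
    (by rw [norm_prod_mk', hw, map_one, one_mul])
  refine ⟨y, fun j => ?_⟩
  rw [hy]
  apply exists_congr
  intro c
  constructor
  · intro h
    refine ⟨congrArg Prod.fst h, fun hlt => ?_⟩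
    have h2 := congrFun (congrArg Prod.snd h) ⟨0, by omega⟩
    simpa using h2.symm
  · rintro ⟨h1, h2⟩
    ext i
    · exact h1
    · have hlt : m < n := by have := i.2; omega
      rw [h2 hlt]
      simp

end Alg

section Poly

variable {F : Type u} [Field F]

theorem dvd_pow_of_forall_irreducible (μ P : F[X]) (hμ : μ ≠ 0)
    (h : ∀ f, Irreducible f → f ∣ μ → f ∣ P) : ∃ N : ℕ, μ ∣ P ^ N := by
  induction μ using WfDvdMonoid.induction_on_irreducible with
  | zero => exact absurd rfl hμ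
  | unit u hu => exact ⟨0, hu.dvd⟩
  | mul a i ha hi ih =>
    obtain ⟨N, hN⟩ := ih ha (fun f hf hfa => h f hf (hfa.mul_left _))
    exact ⟨N + 1, by rw [pow_succ']; exact mul_dvd_mul (h i hi (Dvd.intro _ rfl)) hN⟩

/-- if `P(x)` is not nilpotent, some irreducible factor of the minimal polynomial does not
divide `P`. -/
theorem exists_irreducible_not_dvd {V : Type v} [AddCommGroup V] [Module F V] [Module.Finite F V]
    (x : End F V) (P : F[X]) (hP : ¬ IsNilpotent (aeval x P)) :
    ∃ f : F[X], Irreducible f ∧ f ∣ minpoly F x ∧ ¬ f ∣ P := by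
  by_contra hcon
  push Not at hcon
  obtain ⟨N, hN⟩ := dvd_pow_of_forall_irreducible (minpoly F x) P
    (minpoly.ne_zero (Algebra.IsIntegral.isIntegral x)) hcon
  apply hP
  refine ⟨N, ?_⟩
  obtain ⟨R, hR⟩ := hN
  rw [← map_pow, hR, map_mul, minpoly.aeval, zero_mul]

theorem natDegree_minpoly_le {V : Type v} [AddCommGroup V] [Module F V] [Module.Finite F V]
    (x : End F V) : (minpoly F x).natDegree ≤ finrank F V := by
  have h1 := natDegree_le_of_dvd (LinearMap.minpoly_dvd_charpoly x) x.charpoly_monic.ne_zero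
  rwa [LinearMap.charpoly_natDegree] at h1

end Poly

section Ord

theorem orderOf_zmod_dvd_iff (r q d : ℕ) (hq : 1 ≤ q) :
    orderOf (q : ZMod r) ∣ d ↔ r ∣ q ^ d - 1 := by
  rw [orderOf_dvd_iff_pow_eq_one, ← Nat.cast_pow, ← Nat.cast_one (R := ZMod r),
    ZMod.natCast_eq_natCast_iff, Nat.ModEq.comm, Nat.modEq_iff_dvd' (Nat.one_le_pow _ _ hq)]

theorem prime_dvd_card_sub_one (K : Type u) [Field K] [Finite K] (r : ℕ) (hr : r.Prime) (β : K)
    (h1 : β ^ r = 1) (h2 : β ≠ 1) : r ∣ Nat.card K - 1 := by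
  have := Fintype.ofFinite K
  have : Fact r.Prime := ⟨hr⟩
  have h3 : orderOf β = r := orderOf_eq_prime h1 h2
  have h0 : β ≠ 0 := by
    rintro rfl
    rw [zero_pow hr.ne_zero] at h1
    exact zero_ne_one h1
  rw [← h3, Nat.card_eq_fintype_card]
  exact orderOf_dvd_of_pow_eq_one (FiniteField.pow_card_sub_one_eq_one β h0)

variable {F : Type u} [Field F]

theorem dvd_iff_root (f P : F[X]) : f ∣ P ↔ aeval (AdjoinRoot.root f) P = 0 := by
  rw [AdjoinRoot.aeval_eq, AdjoinRoot.mk_eq_zero]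

theorem dvd_card_pow_sub_one [Finite F] (f : F[X]) (hf : Irreducible f) (a r : ℕ) (hr : r.Prime)
    (h1 : f ∣ X ^ (a * r) - 1) (h2 : ¬ f ∣ X ^ a - 1) : r ∣ Nat.card F ^ f.natDegree - 1 := by
  have : Fact (Irreducible f) := ⟨hf⟩
  have := finite_adjoinRoot f hf
  have : Finite (AdjoinRoot f) := Module.finite_of_finite F
  rw [dvd_iff_root] at h1 h2
  simp only [map_sub, map_pow, aeval_X, map_one, sub_eq_zero] at h1 h2
  rw [← natCard_adjoinRoot f hf.ne_zero]
  exact prime_dvd_card_sub_one _ r hr (AdjoinRoot.root f ^ a) (by rw [← pow_mul, h1]) h2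

theorem not_nilpotent_pow_sub_one (p : ℕ) [Fact p.Prime] [CharP F p] {V : Type v}
    [AddCommGroup V] [Module F V] (h : End F V) (a b : ℕ) (hb : Nat.Coprime b p)
    (h1 : h ^ (a * b) = 1) (h2 : h ^ a ≠ 1) : ¬ IsNilpotent (aeval h (X ^ a - 1 : F[X])) := by
  have hp : p.Prime := Fact.out
  rintro ⟨N, hN⟩
  apply h2
  have h3 : aeval h ((X ^ a - 1 : F[X]) ^ p ^ N) = 0 := by
    rw [map_pow, ← Nat.sub_add_cancel (Nat.lt_pow_self hp.one_lt).le, pow_add, hN, mul_zero]
  rw [sub_pow_char_pow, one_pow, ← pow_mul, map_sub, map_pow, aeval_X, map_one, sub_eq_zero] at h3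
  have h4 := pow_gcd_eq_one.2 ⟨h3, h1⟩
  rwa [Nat.gcd_mul_left, Nat.Coprime.gcd_eq_one (Nat.Coprime.pow_left N hb.symm), mul_one] at h4

end Ord

section Adj

variable {F : Type u} [Field F] [Finite F]

/-- lower bound for the dimension when an element of order `r s` exists -/
theorem adj_lower (p : ℕ) [Fact p.Prime] [CharP F p] {V : Type v} [AddCommGroup V] [Module F V]
    [Module.Finite F V] (h : End F V) (r s : ℕ) (hr : r.Prime) (hs : s.Prime)
    (hrp : r ≠ p) (hsp : s ≠ p) (h1 : h ^ (r * s) = 1) (h2 : h ^ s ≠ 1) (h3 : h ^ r ≠ 1)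
    (k l : ℕ) (hk : ∀ d, r ∣ Nat.card F ^ d - 1 → k ∣ d) (hl : ∀ d, s ∣ Nat.card F ^ d - 1 → l ∣ d)
    (hkl : k ≤ l) : k + l ≤ finrank F V ∨ k ∣ l := by
  have hp : p.Prime := Fact.out
  have hμ : minpoly F h ∣ X ^ (r * s) - 1 := by
    apply minpoly.dvd
    rw [map_sub, map_pow, aeval_X, map_one, h1, sub_self]
  have hμ0 : minpoly F h ≠ 0 := minpoly.ne_zero (Algebra.IsIntegral.isIntegral h)
  obtain ⟨f1, hf1, hd1, hn1⟩ := exists_irreducible_not_dvd h (X ^ s - 1)
    (not_nilpotent_pow_sub_one p h s r ((Nat.coprime_primes hr hp).2 hrp)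
      (by rw [mul_comm]; exact h1) h2)
  obtain ⟨f2, hf2, hd2, hn2⟩ := exists_irreducible_not_dvd h (X ^ r - 1)
    (not_nilpotent_pow_sub_one p h r s ((Nat.coprime_primes hs hp).2 hsp) h1 h3)
  have hk1 : k ∣ f1.natDegree := hk _ (dvd_card_pow_sub_one f1 hf1 s r hr
    (by rw [mul_comm]; exact hd1.trans hμ) hn1)
  have hl2 : l ∣ f2.natDegree := hl _ (dvd_card_pow_sub_one f2 hf2 r s hs (hd2.trans hμ) hn2)
  have hp1 : 0 < f1.natDegree := hf1.natDegree_pos
  have hp2 : 0 < f2.natDegree := hf2.natDegree_pos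
  have hle := natDegree_minpoly_le h
  by_cases hass : f1 ∣ f2
  · -- same factor
    have hdeg : f1.natDegree = f2.natDegree := by
      rcases hf2.dvd_iff.1 hass with hu | ha
      · exact absurd hu hf1.not_isUnit
      · exact natDegree_eq_of_degree_eq (degree_eq_degree_of_associated ha.symm)
    by_cases hdvd : k ∣ l
    · exact Or.inr hdvd
    · left
      rw [hdeg] at hk1
      have h4 : f2.natDegree ≤ finrank F V := (natDegree_le_of_dvd hd2 hμ0).trans hle
      obtain ⟨t, ht⟩ := hl2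
      have ht2 : 2 ≤ t := by
        by_contra hlt
        have : t = 0 ∨ t = 1 := by omega
        rcases this with rfl | rfl
        · omega
        · rw [ht, mul_one] at hk1
          exact hdvd hk1
      calc k + l ≤ l * 2 := by omega
        _ ≤ l * t := Nat.mul_le_mul_left l ht2
        _ = f2.natDegree := ht.symm
        _ ≤ _ := h4
  · left
    have hco : IsCoprime f1 f2 := (hf1.coprime_iff_not_dvd).2 hass
    have h4 : f1 * f2 ∣ minpoly F h := hco.mul_dvd hd1 hd2
    have h5 := natDegree_le_of_dvd h4 hμ0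
    rw [natDegree_mul hf1.ne_zero hf2.ne_zero] at h5
    have := Nat.le_of_dvd hp1 hk1
    have := Nat.le_of_dvd hp2 hl2
    omega

end Adj

section Exist

variable {F : Type u} [Field F] [Finite F] {n : ℕ}

theorem eq_one_of_pow_coprime (c : F) (N : ℕ) (hN : Nat.Coprime N (Nat.card F - 1))
    (h : c ^ N = 1) (hN0 : N ≠ 0) : c = 1 := by
  have := Fintype.ofFinite F
  have hc0 : c ≠ 0 := by
    rintro rfl
    rw [zero_pow hN0] at h
    exact zero_ne_one h
  have h2 : c ^ (Nat.card F - 1) = 1 := by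
    rw [Nat.card_eq_fintype_card]
    exact FiniteField.pow_card_sub_one_eq_one c hc0
  have h3 := pow_gcd_eq_one.2 ⟨h, h2⟩
  rwa [Nat.Coprime.gcd_eq_one hN, pow_one] at h3

/-- elements of order prime to `q - 1` -/
theorem exists_orderOf_of_coprime {A : Type v} [CommRing A] [Algebra F A] [Module.Finite F A]
    [Nontrivial A] {m : ℕ} (hdim : finrank F A = m) (hmn : m ≤ n) (w : A) (N : ℕ)
    (hN : Nat.Coprime N (Nat.card F - 1)) (ho : orderOf w = N) (hN0 : N ≠ 0) :
    ∃ y : Matrix.ProjectiveSpecialLinearGroup (Fin n) F, orderOf y = N := by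
  have hwN : w ^ N = 1 := by rw [← ho]; exact pow_orderOf_eq_one w
  obtain ⟨y, hy⟩ := exists_psl_of_algebra_le (n := n) hdim hmn w
    (eq_one_of_pow_coprime _ N hN (by rw [← map_pow, hwN, map_one]) hN0)
  refine ⟨y, orderOf_eq_of_pow_iff y N ((hy N).2 ⟨1, by rw [hwN, map_one], fun _ => rfl⟩) ?_⟩
  intro j hj
  obtain ⟨c, hc, -⟩ := (hy j).1 hj
  have hc1 : c = 1 := by
    apply eq_one_of_pow_coprime c N hN _ hN0
    apply (algebraMap F A).injective
    rw [map_pow, ← hc, ← pow_mul, mul_comm, pow_mul, hwN, one_pow, map_one]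
  rw [← ho]
  apply orderOf_dvd_of_pow_eq_one
  rw [hc, hc1, map_one]

/-- an element of given order in the extension of degree `d`. -/
theorem exists_ext_element (p : ℕ) [Fact p.Prime] [CharP F p] (d : ℕ) [NeZero d] (N : ℕ)
    (hN : N ∣ Nat.card F ^ d - 1) :
    ∃ β : FiniteField.Extension F p d, orderOf β = N := by
  obtain ⟨a, ha⟩ := Cfsg.Agent.Lib.Helper45SpTri.exists_unit_orderOf
    (FiniteField.Extension F p d) N (by rw [FiniteField.natCard_extension]; exact hN)
  exact ⟨a, by rw [orderOf_units, ha]⟩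

end Exist

section Card

variable {F : Type u} [Field F] [Fintype F]

theorem exists_dvd_of_dvd_card_gl (p : ℕ) [Fact p.Prime] [CharP F p] (n s : ℕ) (hs : s.Prime)
    (hsp : s ≠ p) (h : s ∣ Nat.card (GL (Fin n) F)) :
    ∃ d, 1 ≤ d ∧ d ≤ n ∧ s ∣ Fintype.card F ^ d - 1 := by
  have hp : p.Prime := Fact.out
  rw [Matrix.card_GL_field] at h
  obtain ⟨i, -, hi⟩ := (Prime.dvd_finsetProd_iff hs.prime _).1 h
  have h1 : Fintype.card F ^ n - Fintype.card F ^ (i : ℕ)
      = Fintype.card F ^ (i : ℕ) * (Fintype.card F ^ (n - i) - 1) := by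
    rw [Nat.mul_sub, mul_one, ← pow_add, Nat.add_sub_cancel' i.2.le]
  rw [h1] at hi
  refine ⟨n - i, by have := i.2; omega, Nat.sub_le _ _, ?_⟩
  rcases (Nat.Prime.dvd_mul hs).1 hi with h2 | h2
  · exfalso
    have h3 := hs.dvd_of_dvd_pow h2
    obtain ⟨e, -, he⟩ := FiniteField.card F p
    rw [he] at h3
    exact hsp ((Nat.prime_dvd_prime_iff_eq hs hp).1 (hs.dvd_of_dvd_pow h3))
  · exact h2

theorem exists_dvd_of_dvd_card_psl (p : ℕ) [Fact p.Prime] [CharP F p] (n s : ℕ) (hs : s.Prime)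
    (hsp : s ≠ p) (h : s ∣ Nat.card (Matrix.ProjectiveSpecialLinearGroup (Fin n) F)) :
    ∃ d, 1 ≤ d ∧ d ≤ n ∧ s ∣ Fintype.card F ^ d - 1 := by
  apply exists_dvd_of_dvd_card_gl p n s hs hsp
  refine h.trans ((Subgroup.card_quotient_dvd_card _).trans ?_)
  exact Subgroup.card_dvd_of_injective (Matrix.SpecialLinearGroup.toGL)
    Matrix.SpecialLinearGroup.toGL_injective

end Card

section Lin

variable {F : Type u} [Field F] {n : ℕ}

theorem proj_pow_eq_one_iff_lin (g : Matrix.SpecialLinearGroup (Fin n) F) (j : ℕ) :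
    ((QuotientGroup.mk g : Matrix.ProjectiveSpecialLinearGroup (Fin n) F)) ^ j = 1 ↔
      ∃ μ : F, (Matrix.toLin' (g : Matrix (Fin n) (Fin n) F) : End F (Fin n → F)) ^ j = μ • 1 := by
  rw [proj_pow_eq_one_iff]
  apply exists_congr
  intro μ
  have h1 : (1 : End F (Fin n → F)) = Matrix.toLin' 1 := Matrix.toLin'_one.symm
  rw [← Matrix.toLin'_pow, h1, ← map_smul]
  exact Matrix.toLin'.injective.eq_iff.symm

theorem scalar_ne_zero {V : Type v} [AddCommGroup V] [Module F V] [Module.Finite F V]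
    [Nontrivial V] (G : End F V) (hdet : LinearMap.det G = 1) (j : ℕ) (c : F)
    (h : G ^ j = c • 1) : c ≠ 0 := by
  rintro rfl
  have h1 := congrArg LinearMap.det h
  have : Nonempty (Fin (finrank F V)) := ⟨⟨0, Module.finrank_pos⟩⟩
  rw [map_pow, hdet, one_pow, zero_smul, LinearMap.det_zero' (Module.finBasis F V)] at h1
  exact one_ne_zero h1

end Lin

end Cfsg.Agent.Lib.Helper45PSL
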