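import Mathlib
import Cfsg.Agent.Lib.Helper45Form
import Cfsg.Agent.Lib.Helper45PSL

set_option autoImplicit false

namespace Cfsg.Agent.Lib.Helper45Dual

open Module Polynomial Cfsg.Agent.Lib.Helper45Form Cfsg.Agent.Lib.Helper45Semisimple
  Cfsg.Agent.Lib.Helper45PSL

universe u v w

section Def

variable {F : Type u} [Field F] (σ : F →+* F)

/-- the dual polynomial of an irreducible polynomial -/
noncomputable def dual (f : F[X]) [Fact (Irreducible f)] : F[X] :=
  (minpoly F (AdjoinRoot.root f)⁻¹).map σ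

theorem map_map_self (hσ : ∀ c, σ (σ c) = c) (P : F[X]) : (P.map σ).map σ = P := by
  rw [Polynomial.map_map]
  have : σ.comp σ = RingHom.id F := RingHom.ext hσ
  rw [this, Polynomial.map_id]

theorem irreducible_map (hσ : ∀ c, σ (σ c) = c) (P : F[X]) (hP : Irreducible P) :
    Irreducible (P.map σ) := by
  let e : F ≃+* F := RingEquiv.ofRingHom σ σ (RingHom.ext hσ) (RingHom.ext hσ)
  have h1 : P.map σ = (Polynomial.mapEquiv e) P := rfl
  rw [h1]
  exact (MulEquiv.irreducible_iff (Polynomial.mapEquiv e).toMulEquiv).2 hP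

variable (f : F[X]) [Fact (Irreducible f)]

theorem isIntegral_inv : IsIntegral F (AdjoinRoot.root f)⁻¹ := by
  have := finite_adjoinRoot f Fact.out
  exact Algebra.IsIntegral.isIntegral _

theorem dual_monic : (dual σ f).Monic := (minpoly.monic (isIntegral_inv f)).map σ

theorem dual_irreducible (hσ : ∀ c, σ (σ c) = c) : Irreducible (dual σ f) :=
  irreducible_map σ hσ _ (minpoly.irreducible (isIntegral_inv f))

theorem dual_dvd_iff (hσ : ∀ c, σ (σ c) = c) (P : F[X]) :
    dual σ f ∣ P ↔ aeval (AdjoinRoot.root f)⁻¹ (P.map σ) = 0 := by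
  rw [← minpoly.dvd_iff, dual]
  constructor
  · intro h
    have := Polynomial.map_dvd σ h
    rwa [map_map_self σ hσ] at this
  · intro h
    have := Polynomial.map_dvd σ h
    rwa [map_map_self σ hσ] at this

theorem dual_dvd_pow_sub_C_iff (hσ : ∀ c, σ (σ c) = c) (a : ℕ) (c : F) :
    dual σ f ∣ X ^ a - C c ↔ ((AdjoinRoot.root f)⁻¹) ^ a = algebraMap F _ (σ c) := by
  rw [dual_dvd_iff σ f hσ]
  simp only [Polynomial.map_sub, Polynomial.map_pow, map_X, map_C, map_sub, map_pow, aeval_X,
    aeval_C, sub_eq_zero]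

theorem dual_dvd_pow_sub_one_iff (hσ : ∀ c, σ (σ c) = c) (a : ℕ) :
    dual σ f ∣ X ^ a - 1 ↔ f ∣ X ^ a - 1 := by
  have h := dual_dvd_pow_sub_C_iff σ f hσ a 1
  rw [C_1, map_one, map_one, inv_pow, inv_eq_one] at h
  rw [h, dvd_iff_root]
  simp only [map_sub, map_pow, aeval_X, map_one, sub_eq_zero]

theorem selfdual_of_dvd (hσ : ∀ c, σ (σ c) = c) (h : f ∣ dual σ f) :
    aeval (AdjoinRoot.root f)⁻¹ (f.map σ) = 0 := by
  rw [← dual_dvd_iff σ f hσ]
  exact (Fact.out : Irreducible f).dvd_symm (dual_irreducible σ f hσ) h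

end Def

section Isom

variable {F : Type u} [Field F] {σ : F →+* F} {V : Type v} [AddCommGroup V] [Module F V]
variable {B : V →ₛₗ[σ] V →ₗ[F] F} [Module.Finite F V]

theorem dual_dvd_minpoly (hrefl : ∀ u v, B u v = 0 → B v u = 0)
    (hnd : ∀ u, (∀ v, B u v = 0) → u = 0) (hσ : ∀ c, σ (σ c) = c)
    {g g' : End F V} (hg : Isom B g g') (f : F[X]) [Fact (Irreducible f)]
    (hdvd : f ∣ g.charpoly) : dual σ f ∣ minpoly F g := by
  have hf : Irreducible f := Fact.out
  obtain ⟨ι, hιinj, hι⟩ := exists_embedding g f hf hdvd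
  set l : AdjoinRoot f := AdjoinRoot.root f with hl
  have hl0 : l ≠ 0 := by
    intro h
    have h1 := hι 1
    rw [h, zero_mul, map_zero] at h1
    have h3 : ι 1 = 0 := by
      have h4 := congrArg g' h1
      rwa [← Module.End.mul_apply, hg.inv_mul, map_zero] at h4
    exact one_ne_zero (hιinj (h3.trans (map_zero ι).symm))
  have hι' : ∀ a, g' (ι a) = ι (l⁻¹ * a) := by
    intro a
    have h1 := hι (l⁻¹ * a)
    rw [mul_inv_cancel_left₀ hl0] at h1
    rw [← h1, ← Module.End.mul_apply, hg.inv_mul]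
    rfl
  rw [dual_dvd_iff σ f hσ]
  have h0 : aeval g' ((minpoly F g).map σ) = 0 := by
    apply LinearMap.ext
    intro v
    have h1 := hg.adj_aeval (minpoly F g)
    rw [minpoly.aeval] at h1
    apply hnd
    intro u
    apply hrefl
    rw [← h1 u v]
    simp
  have h1 := aeval_apply_of_intertwine ι g' l⁻¹ hι' ((minpoly F g).map σ) 1
  rw [h0, LinearMap.zero_apply, mul_one] at h1
  exact hιinj (by rw [← h1, map_zero])

omit [Module.Finite F V] in
theorem dvd_charpoly_of_ker (x : End F V) (f : F[X]) (hf : Irreducible f) (w : V) (hw : w ≠ 0)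
    (h : aeval x f w = 0) : f ∣ minpoly F x := by
  by_contra hnd
  obtain ⟨a, b, hab⟩ := (hf.coprime_iff_not_dvd).2 hnd
  apply hw
  have h1 := congrArg (fun P => aeval x P w) hab
  simp only [map_add, map_mul, map_one, LinearMap.add_apply, Module.End.mul_apply,
    Module.End.one_apply, h, minpoly.aeval, map_zero, LinearMap.zero_apply, add_zero] at h1
  exact h1.symm

end Isom

end Cfsg.Agent.Lib.Helper45Dual
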