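import Mathlib
import Cfsg.Agent.Lib.Helper45SU

set_option autoImplicit false

namespace Cfsg.Agent.Lib.Helper45SU3

open Module Polynomial Matrix Cfsg.Agent.Lib.Helper45Form Cfsg.Agent.Lib.Helper45ProjOrder
  Cfsg.Agent.Lib.Helper45Semisimple Cfsg.Agent.Lib.Helper45Sp Cfsg.Agent.Lib.Helper45SU

universe u v w


section Restrict

variable {F : Type u} [Field F] {σ : F →+* F} {V : Type v} [AddCommGroup V] [Module F V]
variable (B : V →ₛₗ[σ] V →ₗ[F] F)

/-- restriction of a sesquilinear form to a subspace -/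
noncomputable def resB (W : Submodule F V) : W →ₛₗ[σ] W →ₗ[F] F := B.domRestrict₁₂ W W

variable {B}

theorem resB_apply (W : Submodule F V) (u v : W) : resB B W u v = B u v := rfl

theorem resB_nd (hnd : ∀ u, (∀ v, B u v = 0) → u = 0) (W W' : Submodule F V) (hc : IsCompl W W')
    (ho : ∀ u ∈ W, ∀ v ∈ W', B u v = 0) (u : W) (h : ∀ v, resB B W u v = 0) : u = 0 := by
  apply Subtype.ext
  apply hnd
  intro v
  have hv : v ∈ W ⊔ W' := by rw [hc.sup_eq_top]; trivial
  obtain ⟨v1, hv1, v2, hv2, rfl⟩ := Submodule.mem_sup.1 hv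
  rw [map_add, ho _ u.2 _ hv2, add_zero]
  exact h ⟨v1, hv1⟩

theorem invt_inv [Module.Finite F V] {g g' : End F V} (hg : Isom B g g') (W : Submodule F V)
    (hW : W ∈ g.invtSubmodule) : W ∈ g'.invtSubmodule := by
  let gW : End F W := LinearMap.restrict g (p := W) (q := W) hW
  have hinj : Function.Injective gW := by
    intro x y hxy
    have h1 : g x = g y := congrArg Subtype.val hxy
    have h2 := congrArg g' h1
    rw [← Module.End.mul_apply, ← Module.End.mul_apply, hg.inv_mul] at h2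
    exact Subtype.ext h2
  have hsurj : Function.Surjective gW := LinearMap.injective_iff_surjective.1 hinj
  intro w hw
  obtain ⟨w0, hw0⟩ := hsurj ⟨w, hw⟩
  have h1 : g w0 = w := congrArg Subtype.val hw0
  show g' w ∈ W
  rw [← h1, ← Module.End.mul_apply, hg.inv_mul]
  exact w0.2

theorem isom_restrict {g g' : End F V} (hg : Isom B g g') (W : Submodule F V)
    (hW : W ∈ g.invtSubmodule) (hW' : W ∈ g'.invtSubmodule) :
    Isom (resB B W) (LinearMap.restrict g (p := W) (q := W) hW)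
      (LinearMap.restrict g' (p := W) (q := W) hW') := by
  apply Isom.of_preserves
  · apply LinearMap.ext
    intro w
    apply Subtype.ext
    show g (g' w) = w
    rw [← Module.End.mul_apply, hg.mul_inv]
    rfl
  · apply LinearMap.ext
    intro w
    apply Subtype.ext
    show g' (g w) = w
    rw [← Module.End.mul_apply, hg.inv_mul]
    rfl
  · intro u v
    exact hg.preserves u v

theorem restrict_pow_apply {g : End F V} (W : Submodule F V) (hW : W ∈ g.invtSubmodule) (j : ℕ)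
    (w : W) : (((LinearMap.restrict g (p := W) (q := W) hW) ^ j) w : V) = (g ^ j) w := by
  induction j generalizing w with
  | zero => rfl
  | succ j ih =>
    rw [pow_succ, pow_succ, Module.End.mul_apply, Module.End.mul_apply, ih]
    rfl

theorem det_eq_of_isCompl [Module.Finite F V] (g : End F V) (W W' : Submodule F V)
    (hc : IsCompl W W') (hWi : W ∈ g.invtSubmodule) (hW'i : W' ∈ g.invtSubmodule) :
    LinearMap.det g = LinearMap.det (LinearMap.restrict g (p := W) (q := W) hWi) *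
      LinearMap.det (LinearMap.restrict g (p := W') (q := W') hW'i) := by
  let gW : End F W := LinearMap.restrict g (p := W) (q := W) hWi
  let gW' : End F W' := LinearMap.restrict g (p := W') (q := W') hW'i
  let e := Submodule.prodEquivOfIsCompl W W' hc
  have he : ∀ (v1 : W) (v2 : W'), e (v1, v2) = (v1 : V) + v2 := fun v1 v2 =>
    Submodule.coe_prodEquivOfIsCompl' W W' hc (v1, v2)
  have hgc : g = e.conj (LinearMap.prodMap gW gW') := by
    apply LinearMap.ext
    intro v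
    obtain ⟨⟨v1, v2⟩, rfl⟩ := e.surjective v
    simp only [LinearEquiv.conj_apply, LinearMap.comp_apply, LinearEquiv.coe_coe,
      LinearEquiv.symm_apply_apply, LinearMap.prodMap_apply]
    rw [he, he, map_add]
    rfl
  conv_lhs => rw [hgc]
  rw [LinearEquiv.conj_apply, LinearMap.comp_assoc, LinearMap.det_conj, LinearMap.det_prodMap]

/-- an isometry acts on a nondegenerate invariant line as a scalar of norm one -/
theorem exists_scalar_of_line {g : End F V} (hg : ∀ u v, B (g u) (g v) = B u v)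
    (W : Submodule F V) (hW : W ∈ g.invtSubmodule) (hdim : finrank F W = 1)
    (hnd : ∀ u : W, (∀ v, resB B W u v = 0) → u = 0) :
    ∃ a : F, a * σ a = 1 ∧ (∀ w ∈ W, g w = a • w) ∧
      LinearMap.det (LinearMap.restrict g (p := W) (q := W) hW) = a := by
  obtain ⟨w0, hw0, hspan⟩ := finrank_eq_one_iff'.1 hdim
  obtain ⟨a, ha⟩ := hspan ⟨g w0, hW w0.2⟩
  have ha' : g w0 = a • (w0 : V) := (congrArg Subtype.val ha).symm
  have hall : ∀ w ∈ W, g w = a • w := by
    intro w hw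
    obtain ⟨c, hc⟩ := hspan ⟨w, hw⟩
    have hc' : w = c • (w0 : V) := (congrArg Subtype.val hc).symm
    rw [hc', map_smul, ha', smul_comm]
  refine ⟨a, ?_, hall, ?_⟩
  · have hne : B w0 w0 ≠ 0 := by
      intro h0
      apply hw0
      apply hnd
      intro v
      obtain ⟨c, hc⟩ := hspan v
      rw [← hc, map_smul, resB_apply, h0, smul_zero]
    have h1 := hg w0 w0
    simp only [ha', map_smulₛₗ, LinearMap.smul_apply, smul_eq_mul, RingHom.id_apply] at h1
    rw [← mul_assoc] at h1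
    exact mul_right_cancel₀ hne (h1.trans (one_mul _).symm)
  · have h1 : LinearMap.restrict g (p := W) (q := W) hW = a • LinearMap.id := by
      apply LinearMap.ext
      intro w
      apply Subtype.ext
      exact hall w w.2
    rw [h1, LinearMap.det_smul, hdim, pow_one, LinearMap.det_id, mul_one]

end Restrict


section Dim2

variable {F : Type u} [Field F]

theorem monic_deg_one (f : F[X]) (hfm : f.Monic) (h1 : f.natDegree = 1) :
    f = X - C (-f.coeff 0) := by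
  rw [C_neg, sub_neg_eq_add]
  exact hfm.eq_X_add_C h1

theorem pow_apply_of_scalar {V : Type v} [AddCommGroup V] [Module F V] {g : End F V}
    {W : Submodule F V} {a : F} (h : ∀ w ∈ W, g w = a • w) (j : ℕ) :
    ∀ w ∈ W, (g ^ j) w = a ^ j • w := by
  induction j with
  | zero => intro w _; simp
  | succ j ih =>
    intro w hw
    rw [pow_succ, Module.End.mul_apply, h w hw, map_smul, ih w hw, smul_smul, pow_succ, mul_comm]

variable [Fintype F] {q : ℕ} {σ : F →+* F}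

theorem alpha_facts (hF : Fintype.card F = q ^ 2) (hσ : ∀ x, σ x = x ^ q) (p : ℕ)
    [Fact p.Prime] [CharP F p] {V : Type v} [AddCommGroup V] [Module F V] [Module.Finite F V]
    {B : V →ₛₗ[σ] V →ₗ[F] F} {g g' : End F V} (hg : Isom B g g') (f : F[X]) (hf : Irreducible f)
    (hdvd : f ∣ g.charpoly) (hnil : IsNilpotent (aeval g' (f.map σ))) :
    Odd f.natDegree ∧ (AdjoinRoot.root f) ^ (q ^ f.natDegree + 1) = 1 := by
  have : Fact (Irreducible f) := ⟨hf⟩
  obtain ⟨ι, hιinj, hι⟩ := exists_embedding g f hf hdvd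
  set l : AdjoinRoot f := AdjoinRoot.root f with hl
  have hl0 : l ≠ 0 := by
    intro h
    have h1 := hι 1
    rw [h, zero_mul, map_zero] at h1
    have h3 : ι 1 = 0 := by
      have h4 := congrArg g' h1
      rwa [← Module.End.mul_apply, hg.inv_mul, map_zero] at h4
    exact one_ne_zero (hιinj (h3.trans (map_zero ι).symm))
  have hlinv : aeval l⁻¹ (f.map σ) = 0 := by
    have hι' : ∀ a, g' (ι a) = ι (l⁻¹ * a) := by
      intro a
      have h1 := hι (l⁻¹ * a)
      rw [mul_inv_cancel_left₀ hl0] at h1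
      rw [← h1, ← Module.End.mul_apply, hg.inv_mul]
      rfl
    obtain ⟨N', hN'⟩ := hnil
    have h1 := aeval_apply_of_intertwine ι g' l⁻¹ hι' ((f.map σ) ^ N') 1
    rw [map_pow, hN', LinearMap.zero_apply, mul_one, map_pow] at h1
    have h3 : (aeval l⁻¹ (f.map σ)) ^ N' = 0 := hιinj (by rw [← h1, map_zero])
    exact IsNilpotent.eq_zero ⟨N', h3⟩
  exact odd_of_selfdual hF hσ p f hf hl0 hlinv

omit [Fintype F] in
theorem root_eq_of_linear (lam : F) :
    AdjoinRoot.root (X - C lam) = algebraMap F (AdjoinRoot (X - C lam)) lam := by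
  have h1 : AdjoinRoot.mk (X - C lam) (X - C lam) = 0 := AdjoinRoot.mk_self
  rw [map_sub, AdjoinRoot.mk_X, AdjoinRoot.mk_C] at h1
  exact sub_eq_zero.1 h1

theorem dim2 (hF : Fintype.card F = q ^ 2) (hσ : ∀ x, σ x = x ^ q) (p : ℕ)
    [Fact p.Prime] [CharP F p] {V : Type v} [AddCommGroup V] [Module F V] [Module.Finite F V]
    (B : V →ₛₗ[σ] V →ₗ[F] F) (hS : ∀ x y, σ (B x y) = B y x)
    (hnd : ∀ u, (∀ v, B u v = 0) → u = 0) (hdim : finrank F V = 2) (g g' : End F V)
    (hg : Isom B g g') :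
    g ^ (q + 1) = 1 ∨
    (∃ lam : F, lam ^ (q + 1) = 1 ∧ LinearMap.det g = lam ^ 2 ∧ (g ^ 1 - lam • 1) ^ 2 = 0) ∨
    (∃ lam : F, lam ≠ 0 ∧ LinearMap.det g * σ lam = lam ∧
      ∀ (j : ℕ) (μ : F), μ * σ μ = 1 → lam ^ j = μ → g ^ j = μ • 1) := by
  have hσσ := sigma_sigma hF hσ
  by_cases hdec : Decomp B g
  · left
    obtain ⟨V1, V2, hc, h1, h2, hn1, hn2, ho1, ho2⟩ := hdec
    have hsum : finrank F V1 + finrank F V2 = 2 := by
      rw [Submodule.finrank_add_eq_of_isCompl hc, hdim]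
    have hp1 : 1 ≤ finrank F V1 := Submodule.one_le_finrank_iff.2 hn1
    have hp2 : 1 ≤ finrank F V2 := Submodule.one_le_finrank_iff.2 hn2
    obtain ⟨a, ha, hga, -⟩ := exists_scalar_of_line (B := B) hg.preserves V1 h1 (by omega)
      (resB_nd hnd V1 V2 hc ho1)
    obtain ⟨c, hc', hgc, -⟩ := exists_scalar_of_line (B := B) hg.preserves V2 h2 (by omega)
      (resB_nd hnd V2 V1 hc.symm ho2)
    apply LinearMap.ext
    intro v
    have hv : v ∈ V1 ⊔ V2 := by rw [hc.sup_eq_top]; trivial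
    obtain ⟨v1, hv1, v2, hv2, rfl⟩ := Submodule.mem_sup.1 hv
    rw [map_add, pow_apply_of_scalar hga _ v1 hv1, pow_apply_of_scalar hgc _ v2 hv2, pow_succ' a,
      pow_succ' c, ← hσ, ← hσ, ha, hc', one_smul, one_smul]
    rfl
  right
  have hrefl : ∀ u v, B u v = 0 → B v u = 0 := fun u v h => by rw [← hS, h, map_zero]
  obtain ⟨b, hb, -⟩ := exists_orthonormal_basis hF hσ B hS hnd hdim
  have hdeg : g.charpoly.natDegree = 2 := by rw [LinearMap.charpoly_natDegree, hdim]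
  have hnu : ¬ IsUnit g.charpoly := fun hu => by
    have := natDegree_eq_zero_of_isUnit hu
    omega
  obtain ⟨f, hfm, hf, hdvd⟩ := exists_monic_irreducible_factor g.charpoly hnu
  have hkpos : 0 < f.natDegree := hf.natDegree_pos
  rcases structure_of_indecomposable' b hb hrefl hnd hσσ hg hdec f hf hfm hdvd with
    ⟨e, hχ, hnil⟩ | ⟨e, hdim', hpow, hdetβ⟩
  · left
    have hke : 2 = e * f.natDegree := by rw [← hdeg, hχ, natDegree_pow]
    obtain ⟨hkodd, hlq⟩ := alpha_facts hF hσ p hg f hf hdvd hnil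
    have hk1 : f.natDegree = 1 := by
      have h1 : f.natDegree ∣ 2 := ⟨e, by rw [hke, mul_comm]⟩
      rcases (Nat.dvd_prime Nat.prime_two).1 h1 with h | h
      · exact h
      · rw [h] at hkodd
        exact absurd hkodd (by decide)
    have he2 : e = 2 := by rw [hk1, mul_one] at hke; exact hke.symm
    obtain ⟨lam, hlam⟩ : ∃ lam, f = X - C lam := ⟨_, monic_deg_one f hfm hk1⟩
    subst hlam
    refine ⟨lam, ?_, ?_, ?_⟩
    · have : Fact (Irreducible (X - C lam)) := ⟨hf⟩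
      rw [hk1, pow_one, root_eq_of_linear, ← map_pow] at hlq
      exact (algebraMap F (AdjoinRoot (X - C lam))).injective (hlq.trans (map_one _).symm)
    · rw [LinearMap.det_eq_sign_charpoly_coeff, hχ, he2, hdim, coeff_zero_eq_eval_zero]
      simp
    · have h1 := LinearMap.aeval_self_charpoly g
      rw [hχ, he2] at h1
      simpa [Algebra.algebraMap_eq_smul_one] using h1
  · right
    have hek : e * f.natDegree = 1 := by
      rw [hdim] at hdim'
      omega
    have he1 : e = 1 := Nat.eq_one_of_mul_eq_one_right hek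
    have hk1 : f.natDegree = 1 := Nat.eq_one_of_mul_eq_one_left hek
    obtain ⟨lam, hlam⟩ : ∃ lam, f = X - C lam := ⟨_, monic_deg_one f hfm hk1⟩
    subst hlam
    refine ⟨lam, ?_, ?_, ?_⟩
    · rintro rfl
      obtain ⟨v, hv0, hv⟩ := exists_ne_zero_aeval_eq_zero g _ hf hdvd
      simp only [map_zero, sub_zero, aeval_X] at hv
      apply hv0
      have h1 := congrArg g' hv
      rwa [← Module.End.mul_apply, hg.inv_mul, map_zero] at h1
    · rw [he1, hk1] at hdetβ
      simpa using hdetβ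
    · intro j μ hμ hj
      have h1 := hpow j μ hμ (by
        rw [dvd_iff_isRoot, IsRoot.def, eval_sub, eval_pow, eval_X, eval_C, hj, sub_self])
      rw [he1, pow_one] at h1
      exact sub_eq_zero.1 h1

end Dim2


section Arith

theorem three_mul_div (q : ℕ) :
    3 * ((q + 1) / Nat.gcd 3 (q + 1)) = (3 / Nat.gcd 3 (q + 1)) * (q + 1) := by
  obtain ⟨s, hs⟩ := Nat.gcd_dvd_left 3 (q + 1)
  obtain ⟨t, ht⟩ := Nat.gcd_dvd_right 3 (q + 1)
  have hpos : 0 < Nat.gcd 3 (q + 1) := Nat.gcd_pos_of_pos_left _ (by norm_num)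
  set d := Nat.gcd 3 (q + 1) with hd
  have h1 : (q + 1) / d = t := by rw [ht]; exact Nat.mul_div_cancel_left t hpos
  have h2 : 3 / d = s := by
    conv_lhs => rw [hs]
    exact Nat.mul_div_cancel_left s hpos
  rw [h1, h2]
  conv_lhs => rw [hs]
  rw [ht]
  ring

theorem gcd_dvd_sub_two (q : ℕ) (hq : 2 ≤ q) : Nat.gcd 3 (q + 1) ∣ q - 2 := by
  have h := Nat.dvd_sub (Nat.gcd_dvd_right 3 (q + 1)) (Nat.gcd_dvd_left 3 (q + 1))
  rwa [show q + 1 - 3 = q - 2 by omega] at h

theorem sq_sub_one (q : ℕ) : q ^ 2 - 1 = (q + 1) * (q - 1) := by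
  rw [← Nat.sq_sub_sq, one_pow]

theorem gcd_dvd_sq_sub_one (q : ℕ) : Nat.gcd 3 (q + 1) ∣ q ^ 2 - 1 := by
  rw [sq_sub_one]
  exact (Nat.gcd_dvd_right 3 (q + 1)).mul_right _

theorem phi6_eq (q : ℕ) (hq : 2 ≤ q) : q ^ 2 - q + 1 = (q + 1) * (q - 2) + 3 := by
  obtain ⟨m, rfl⟩ : ∃ m, q = m + 2 := ⟨q - 2, by omega⟩
  have h1 : (m + 2) ^ 2 = (m + 2 + 1) * m + 2 + (m + 2) := by ring
  rw [h1]
  simp

theorem gcd_dvd_phi6 (q : ℕ) (hq : 2 ≤ q) : Nat.gcd 3 (q + 1) ∣ q ^ 2 - q + 1 := by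
  rw [phi6_eq q hq]
  exact Nat.dvd_add ((Nat.gcd_dvd_right 3 (q + 1)).mul_right _) (Nat.gcd_dvd_left 3 (q + 1))

theorem phi6_mul (q : ℕ) (hq : 2 ≤ q) : (q ^ 2 - q + 1) * (q + 1) = q ^ 3 + 1 := by
  obtain ⟨m, rfl⟩ : ∃ m, q = m + 2 := ⟨q - 2, by omega⟩
  have h1 : (m + 2) ^ 2 - (m + 2) + 1 = m ^ 2 + 3 * m + 3 := by
    have : (m + 2) ^ 2 = m ^ 2 + 3 * m + 2 + (m + 2) := by ring
    omega
  rw [h1]
  ring

theorem phi6_mul' (q : ℕ) (hq : 2 ≤ q) : (q ^ 2 - q + 1) * (q ^ 2 + q + 1) = q ^ 4 + q ^ 2 + 1 := by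
  obtain ⟨m, rfl⟩ : ∃ m, q = m + 2 := ⟨q - 2, by omega⟩
  have h1 : (m + 2) ^ 2 - (m + 2) + 1 = m ^ 2 + 3 * m + 3 := by
    have : (m + 2) ^ 2 = m ^ 2 + 3 * m + 2 + (m + 2) := by ring
    omega
  rw [h1]
  ring

end Arith

section Dim3

variable {F : Type u} [Field F] [Fintype F] {q : ℕ} {σ : F →+* F}

omit [Fintype F] in
theorem pow_eq_smul_of_parts {V : Type v} [AddCommGroup V] [Module F V] (g : End F V)
    (V1 V2 : Submodule F V) (hc : IsCompl V1 V2) (h2 : V2 ∈ g.invtSubmodule) (j : ℕ) (μ : F)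
    (e1 : ∀ w ∈ V1, (g ^ j) w = μ • w)
    (e2 : (LinearMap.restrict g (p := V2) (q := V2) h2) ^ j = μ • 1) : g ^ j = μ • 1 := by
  apply LinearMap.ext
  intro v
  have hv : v ∈ V1 ⊔ V2 := by rw [hc.sup_eq_top]; trivial
  obtain ⟨v1, hv1, v2, hv2, rfl⟩ := Submodule.mem_sup.1 hv
  rw [map_add, e1 v1 hv1, ← restrict_pow_apply V2 h2 j ⟨v2, hv2⟩, e2]
  simp

theorem dim3_decomp (hF : Fintype.card F = q ^ 2) (hσ : ∀ x, σ x = x ^ q) (p : ℕ)
    [Fact p.Prime] [CharP F p] {V : Type v} [AddCommGroup V] [Module F V]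
    [Module.Finite F V] (B : V →ₛₗ[σ] V →ₗ[F] F) (hS : ∀ x y, σ (B x y) = B y x)
    (hnd : ∀ u, (∀ v, B u v = 0) → u = 0) (g g' : End F V)
    (hg : Isom B g g') (hdet : LinearMap.det g = 1) (V1 V2 : Submodule F V) (hc : IsCompl V1 V2)
    (h1 : V1 ∈ g.invtSubmodule) (h2 : V2 ∈ g.invtSubmodule)
    (ho1 : ∀ u ∈ V1, ∀ v ∈ V2, B u v = 0) (ho2 : ∀ u ∈ V2, ∀ v ∈ V1, B u v = 0)
    (hd1 : finrank F V1 = 1) (hd2 : finrank F V2 = 2) :
    (∃ μ : F, g ^ (q + 1) = μ • 1) ∨
    (∃ μ : F, g ^ (p * ((q + 1) / Nat.gcd 3 (q + 1))) = μ • 1) ∨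
    (∃ μ : F, g ^ ((q ^ 2 - 1) / Nat.gcd 3 (q + 1)) = μ • 1) := by
  have hp : p.Prime := Fact.out
  have hq2 := Cfsg.Agent.Lib.Helper7Herm.two_le_q hF
  obtain ⟨a, ha, hga, hdeta⟩ := exists_scalar_of_line (B := B) hg.preserves V1 h1 hd1
    (resB_nd hnd V1 V2 hc ho1)
  have h2' := invt_inv hg V2 h2
  have hg2 := isom_restrict hg V2 h2 h2'
  set g2 := LinearMap.restrict g (p := V2) (q := V2) h2 with hg2def
  have hdet2 : a * LinearMap.det g2 = 1 := by
    rw [← hdet, det_eq_of_isCompl g V1 V2 hc h1 h2, hdeta]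
  have haq : a ^ (q + 1) = 1 := by rw [pow_succ', ← hσ, ha]
  rcases dim2 hF hσ p (resB B V2) (fun x y => hS x y) (resB_nd hnd V2 V1 hc.symm ho2) hd2 g2 _ hg2
    with hD | ⟨lam, hlam, hdl, hnil⟩ | ⟨lam, hlam0, hdl, hpow⟩
  · left
    refine ⟨1, pow_eq_smul_of_parts g V1 V2 hc h2 _ 1 ?_ (by rw [hD, one_smul])⟩
    intro w hw
    rw [pow_apply_of_scalar hga _ w hw, haq]
  · right; left
    set t := (q + 1) / Nat.gcd 3 (q + 1) with ht
    have h3 : g2 ^ (1 * p ^ 1) = (lam ^ p ^ 1) • 1 :=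
      pow_eq_smul_of_sub_pow p g2 1 2 1 lam hnil (by rw [pow_one]; exact hp.two_le)
    rw [one_mul, pow_one] at h3
    have hl3 : lam ^ (3 * (p * t)) = 1 := by
      have h : 3 * (p * t) = (q + 1) * (p * (3 / Nat.gcd 3 (q + 1))) := by
        calc 3 * (p * t) = p * (3 * t) := by ring
          _ = p * ((3 / Nat.gcd 3 (q + 1)) * (q + 1)) := by rw [ht, three_mul_div]
          _ = _ := by ring
      rw [h, pow_mul, hlam, one_pow]
    have hal : a * lam ^ 2 = 1 := by rw [← hdl]; exact hdet2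
    refine ⟨lam ^ (p * t), pow_eq_smul_of_parts g V1 V2 hc h2 _ _ ?_ ?_⟩
    · intro w hw
      rw [pow_apply_of_scalar hga _ w hw]
      congr 1
      calc a ^ (p * t) = a ^ (p * t) * lam ^ (3 * (p * t)) := by rw [hl3, mul_one]
        _ = (a * lam ^ 2) ^ (p * t) * lam ^ (p * t) := by
          rw [mul_pow, ← pow_mul, mul_assoc, ← pow_add]
          congr 2
          ring
        _ = lam ^ (p * t) := by rw [hal, one_pow, one_mul]
    · rw [pow_mul, h3, _root_.smul_pow, one_pow, ← pow_mul]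
  · right; right
    set j := (q ^ 2 - 1) / Nat.gcd 3 (q + 1) with hj
    have hcard : lam ^ (q ^ 2 - 1) = 1 := by
      rw [← hF]; exact FiniteField.pow_card_sub_one_eq_one lam hlam0
    have hdj : Nat.gcd 3 (q + 1) * j = q ^ 2 - 1 := Nat.mul_div_cancel' (gcd_dvd_sq_sub_one q)
    have e1 : lam ^ (j * (q + 1)) = 1 := by
      obtain ⟨c, hc'⟩ := Nat.gcd_dvd_right 3 (q + 1)
      have h : j * (q + 1) = (q ^ 2 - 1) * c := by
        calc j * (q + 1) = j * (Nat.gcd 3 (q + 1) * c) := congrArg (j * ·) hc'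
          _ = (Nat.gcd 3 (q + 1) * j) * c := by ring
          _ = _ := by rw [hdj]
      rw [h, pow_mul, hcard, one_pow]
    have e2 : lam ^ ((q - 2) * j) = 1 := by
      obtain ⟨c, hc'⟩ := gcd_dvd_sub_two q hq2
      rw [hc', mul_right_comm, hdj, pow_mul, hcard, one_pow]
    have hμ : lam ^ j * σ (lam ^ j) = 1 := by
      rw [hσ, ← pow_succ', ← pow_mul, e1]
    refine ⟨lam ^ j, pow_eq_smul_of_parts g V1 V2 hc h2 _ _ ?_ (hpow j _ hμ rfl)⟩
    intro w hw
    rw [pow_apply_of_scalar hga _ w hw]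
    congr 1
    have hal : a * lam = lam ^ q := by
      calc a * lam = a * (LinearMap.det g2 * σ lam) := by rw [hdl]
        _ = (a * LinearMap.det g2) * σ lam := by ring
        _ = lam ^ q := by rw [hdet2, one_mul, hσ]
    have h5 : a ^ j * lam ^ j = lam ^ j * lam ^ j := by
      rw [← mul_pow, hal, ← pow_mul, ← pow_add]
      have h6 : q * j = (q - 2) * j + (j + j) := by
        obtain ⟨m, rfl⟩ : ∃ m, q = m + 2 := ⟨q - 2, by omega⟩
        simp only [Nat.add_sub_cancel]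
        ring
      rw [h6, pow_add, e2, one_mul]
    exact mul_right_cancel₀ (pow_ne_zero j hlam0) h5

end Dim3


section Dim3

variable {F : Type u} [Field F] [Fintype F] {q : ℕ} {σ : F →+* F}

theorem dim3 (hF : Fintype.card F = q ^ 2) (hσ : ∀ x, σ x = x ^ q) (p : ℕ)
    [Fact p.Prime] [CharP F p] (hp2 : p ≠ 2) {V : Type v} [AddCommGroup V] [Module F V]
    [Module.Finite F V] (B : V →ₛₗ[σ] V →ₗ[F] F) (hS : ∀ x y, σ (B x y) = B y x)
    (hnd : ∀ u, (∀ v, B u v = 0) → u = 0) (hdim : finrank F V = 3) (g g' : End F V)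
    (hg : Isom B g g') (hdet : LinearMap.det g = 1) :
    (∃ μ : F, g ^ (q + 1) = μ • 1) ∨
    (∃ μ : F, g ^ (p * ((q + 1) / Nat.gcd 3 (q + 1))) = μ • 1) ∨
    (∃ μ : F, g ^ ((q ^ 2 - 1) / Nat.gcd 3 (q + 1)) = μ • 1) ∨
    (∃ μ : F, g ^ ((q ^ 2 - q + 1) / Nat.gcd 3 (q + 1)) = μ • 1) := by
  have hp : p.Prime := Fact.out
  have hp3 : 3 ≤ p := by
    have := hp.two_le
    omega
  have hq2 := Cfsg.Agent.Lib.Helper7Herm.two_le_q hF
  have hσσ := sigma_sigma hF hσ
  by_cases hdec : Decomp B g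
  · obtain ⟨V1, V2, hc, h1, h2, hn1, hn2, ho1, ho2⟩ := hdec
    have hsum : finrank F V1 + finrank F V2 = 3 := by
      rw [Submodule.finrank_add_eq_of_isCompl hc, hdim]
    have hp1 : 1 ≤ finrank F V1 := Submodule.one_le_finrank_iff.2 hn1
    have hp2' : 1 ≤ finrank F V2 := Submodule.one_le_finrank_iff.2 hn2
    have key : finrank F V1 = 1 ∧ finrank F V2 = 2 ∨ finrank F V2 = 1 ∧ finrank F V1 = 2 := by
      omega
    rcases key with ⟨e1, e2⟩ | ⟨e1, e2⟩
    · rcases dim3_decomp hF hσ p B hS hnd g g' hg hdet V1 V2 hc h1 h2 ho1 ho2 e1 e2 with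
        h | h | h
      · exact Or.inl h
      · exact Or.inr (Or.inl h)
      · exact Or.inr (Or.inr (Or.inl h))
    · rcases dim3_decomp hF hσ p B hS hnd g g' hg hdet V2 V1 hc.symm h2 h1 ho2 ho1 e1 e2 with
        h | h | h
      · exact Or.inl h
      · exact Or.inr (Or.inl h)
      · exact Or.inr (Or.inr (Or.inl h))
  have hrefl : ∀ u v, B u v = 0 → B v u = 0 := fun u v h => by rw [← hS, h, map_zero]
  obtain ⟨b, hb, -⟩ := exists_orthonormal_basis hF hσ B hS hnd hdim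
  have hdeg : g.charpoly.natDegree = 3 := by rw [LinearMap.charpoly_natDegree, hdim]
  have hnu : ¬ IsUnit g.charpoly := fun hu => by
    have := natDegree_eq_zero_of_isUnit hu
    omega
  obtain ⟨f, hfm, hf, hdvd⟩ := exists_monic_irreducible_factor g.charpoly hnu
  have hkpos : 0 < f.natDegree := hf.natDegree_pos
  rcases structure_of_indecomposable' b hb hrefl hnd hσσ hg hdec f hf hfm hdvd with
    ⟨e, hχ, hnil⟩ | ⟨e, hdim', -, -⟩
  · have hke : 3 = e * f.natDegree := by rw [← hdeg, hχ, natDegree_pow]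
    obtain ⟨-, hlq⟩ := alpha_facts hF hσ p hg f hf hdvd hnil
    have h1 : f.natDegree ∣ 3 := ⟨e, by rw [hke, mul_comm]⟩
    rcases (Nat.dvd_prime Nat.prime_three).1 h1 with hk1 | hk3
    · right; left
      have he3 : e = 3 := by rw [hk1, mul_one] at hke; exact hke.symm
      obtain ⟨lam, hlam⟩ : ∃ lam, f = X - C lam := ⟨_, monic_deg_one f hfm hk1⟩
      subst hlam
      have hnil3 : (g ^ 1 - lam • 1) ^ 3 = 0 := by
        have h1 := LinearMap.aeval_self_charpoly g
        rw [hχ, he3] at h1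
        simpa [Algebra.algebraMap_eq_smul_one] using h1
      have h3 : g ^ (1 * p ^ 1) = (lam ^ p ^ 1) • 1 :=
        pow_eq_smul_of_sub_pow p g 1 3 1 lam hnil3 (by rw [pow_one]; exact hp3)
      rw [one_mul, pow_one] at h3
      exact ⟨_, by rw [pow_mul, h3, _root_.smul_pow, one_pow]⟩
    · right; right; right
      have he1 : e = 1 := by
        rw [hk3] at hke
        omega
      have : Fact (Irreducible f) := ⟨hf⟩
      have := finite_adjoinRoot f hf
      have : Finite (AdjoinRoot f) := Module.finite_of_finite F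
      set l : AdjoinRoot f := AdjoinRoot.root f with hl
      have hfinK : finrank F (AdjoinRoot f) = 3 := by
        rw [(AdjoinRoot.powerBasis hf.ne_zero).finrank]; exact hk3
      have hnorm : Algebra.norm F l = 1 := by
        have h1 : LinearMap.det g = (-1) ^ 3 * f.coeff 0 := by
          rw [LinearMap.det_eq_sign_charpoly_coeff, hχ, he1, pow_one, hdim]
        rw [norm_root_eq f hf hfm, hk3, ← h1, hdet]
      have hl2 : l ^ (q ^ 4 + q ^ 2 + 1) = 1 := by
        have h1 := FiniteField.algebraMap_norm_eq_pow_sum F (AdjoinRoot f) l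
        rw [hnorm, map_one, hfinK, Nat.card_eq_fintype_card, hF] at h1
        simp only [Finset.sum_range_succ, Finset.sum_range_zero, pow_zero, pow_one, zero_add,
          ← pow_mul] at h1
        rw [h1]
        congr 1
        ring
      rw [hk3] at hlq
      set y : AdjoinRoot f := l ^ (q ^ 2 - q + 1) with hy
      have hy1 : y ^ (q + 1) = 1 := by rw [hy, ← pow_mul, phi6_mul q hq2, hlq]
      have hy2 : y ^ (q ^ 2 + q + 1) = 1 := by rw [hy, ← pow_mul, phi6_mul' q hq2, hl2]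
      have hy3 : y = 1 := by
        have h1 : q ^ 2 + q + 1 = (q + 1) * q + 1 := by ring
        rw [h1, pow_succ, pow_mul, hy1, one_pow, one_mul] at hy2
        exact hy2
      set j := (q ^ 2 - q + 1) / Nat.gcd 3 (q + 1) with hj
      have hdj : j * Nat.gcd 3 (q + 1) = q ^ 2 - q + 1 := Nat.div_mul_cancel (gcd_dvd_phi6 q hq2)
      have hz : (l ^ j) ^ (q + 1) = 1 := by
        obtain ⟨c, hc'⟩ := Nat.gcd_dvd_right 3 (q + 1)
        have h : j * (q + 1) = (q ^ 2 - q + 1) * c := by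
          calc j * (q + 1) = j * (Nat.gcd 3 (q + 1) * c) := congrArg (j * ·) hc'
            _ = (j * Nat.gcd 3 (q + 1)) * c := by ring
            _ = _ := by rw [hdj]
        rw [← pow_mul, h, pow_mul, ← hy, hy3, one_pow]
      obtain ⟨μ, hμ, -⟩ := mem_range_of_pow_eq_one hF hσ (AdjoinRoot f) (l ^ j) hz
      refine ⟨μ, ?_⟩
      have hd : f ∣ X ^ j - C μ := by
        rw [← AdjoinRoot.mk_eq_zero, map_sub, map_pow, AdjoinRoot.mk_X, AdjoinRoot.mk_C]
        exact sub_eq_zero.2 hμ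
      obtain ⟨R, hR⟩ := hd
      have h3 := congrArg (aeval g) hR
      have h4 : aeval g f = 0 := by
        have := LinearMap.aeval_self_charpoly g
        rwa [hχ, he1, pow_one] at this
      rw [map_mul, h4, zero_mul] at h3
      simp only [map_sub, map_pow, aeval_X, aeval_C, Algebra.algebraMap_eq_smul_one] at h3
      exact sub_eq_zero.1 h3
  · exfalso
    rw [hdim] at hdim'
    omega

theorem orderOf_dvd (hF : Fintype.card F = q ^ 2) (p : ℕ) [Fact p.Prime] [CharP F p]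
    (hp2 : p ≠ 2) (x : Cfsg.PSU 3 F q) :
    orderOf x ∣ q + 1 ∨ orderOf x ∣ p * ((q + 1) / Nat.gcd 3 (q + 1)) ∨
      orderOf x ∣ (q ^ 2 - 1) / Nat.gcd 3 (q + 1) ∨
      orderOf x ∣ (q ^ 2 - q + 1) / Nat.gcd 3 (q + 1) := by
  obtain ⟨σ, hσ⟩ := Cfsg.Agent.Lib.Helper7Herm.exists_sigma hF
  obtain ⟨A, rfl⟩ := QuotientGroup.mk_surjective x
  let g : End F (Fin 3 → F) := Matrix.toLin' (A.1 : Matrix (Fin 3) (Fin 3) F)
  let g' : End F (Fin 3 → F) :=
    Matrix.toLin' ((A⁻¹ : Cfsg.SU 3 F q).1 : Matrix (Fin 3) (Fin 3) F)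
  have hgg' : g * g' = 1 := by
    show (Matrix.toLin' _).comp (Matrix.toLin' _) = 1
    rw [← Matrix.toLin'_mul, ← Matrix.SpecialLinearGroup.coe_mul, ← Subgroup.coe_mul,
      mul_inv_cancel]
    exact Matrix.toLin'_one
  have hg'g : g' * g = 1 := by
    show (Matrix.toLin' _).comp (Matrix.toLin' _) = 1
    rw [← Matrix.toLin'_mul, ← Matrix.SpecialLinearGroup.coe_mul, ← Subgroup.coe_mul,
      inv_mul_cancel]
    exact Matrix.toLin'_one
  have hg : Isom (stdB hF hσ 3) g g' := Isom.of_preserves hgg' hg'g (fun u v => by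
    rw [stdB_apply, stdB_apply]
    exact A.2 v u)
  have hdet : LinearMap.det g = 1 := by
    show LinearMap.det (Matrix.toLin' (A.1 : Matrix (Fin 3) (Fin 3) F)) = 1
    rw [LinearMap.det_toLin']
    exact A.1.2
  have hpow : ∀ j, (∃ μ : F, g ^ j = μ • 1) →
      orderOf (QuotientGroup.mk A : Cfsg.PSU 3 F q) ∣ j := by
    intro j hj
    apply orderOf_dvd_of_pow_eq_one
    rw [Helper45SU.proj_pow_eq_one_iff hF (by omega)]
    obtain ⟨μ, hμ⟩ := hj
    refine ⟨μ, ?_⟩
    have h1 : (1 : End F (Fin 3 → F)) = Matrix.toLin' 1 := Matrix.toLin'_one.symm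
    have h2 : Matrix.toLin' (A.1 : Matrix (Fin 3) (Fin 3) F) ^ j = μ • 1 := hμ
    rw [← Matrix.toLin'_pow, h1, ← map_smul] at h2
    exact Matrix.toLin'.injective h2
  rcases dim3 hF hσ p hp2 (stdB hF hσ 3) (stdB_symm hF hσ 3) (stdB_nd hF hσ 3)
    (by rw [Module.finrank_fin_fun]) g g' hg hdet with h | h | h | h
  · exact Or.inl (hpow _ h)
  · exact Or.inr (Or.inl (hpow _ h))
  · exact Or.inr (Or.inr (Or.inl (hpow _ h)))
  · exact Or.inr (Or.inr (Or.inr (hpow _ h)))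

end Dim3


section Exist

theorem div_gcd_dvd (a n j : ℕ) (h1 : n ∣ a * j) (b : ℕ) (h2 : n ∣ b * j) (ha : 0 < a)
    (hd : Nat.gcd a b ∣ n) : n / Nat.gcd a b ∣ j := by
  rw [Nat.div_dvd_iff_dvd_mul hd (Nat.gcd_pos_of_pos_left _ ha), ← Nat.gcd_mul_right]
  exact Nat.dvd_gcd h1 h2

variable {F : Type u} [Field F] [Fintype F] {q : ℕ} {σ : F →+* F}

/-- base datum -/
noncomputable def baseD (hσσ : ∀ x, σ (σ x) = x) : HData σ F where
  τ := σ
  τ_alg := fun c => rfl
  τ_τ := hσσ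
  ℓ := LinearMap.id
  ℓ_τ := fun a => rfl
  nd := fun x h => by simpa using h 1

theorem exists_of_data (hF : Fintype.card F = q ^ 2) (hσ : ∀ x, σ x = x ^ q)
    {A : Type v} [CommRing A] [Algebra F A] [Module.Finite F A] (D : HData σ A)
    (hdim : finrank F A = 3) (w : A) (h1 : w * D.τ w = 1) (h2 : Algebra.norm F w = 1) (t : ℕ)
    (ht : ∀ (j : ℕ) (c : F), w ^ j = algebraMap F A c → t ∣ j) :
    ∃ y : Cfsg.PSU 3 F q, t ∣ orderOf y := by
  obtain ⟨Θ, hΘ⟩ := D.exists_hom hF hσ (n := 3) (by omega) hdim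
  refine ⟨Θ (D.mkU w h1 h2), ?_⟩
  obtain ⟨c, hc⟩ := (hΘ _ _).1 (pow_orderOf_eq_one (Θ (D.mkU w h1 h2)))
  exact ht _ c hc

theorem exists_elt (hF : Fintype.card F = q ^ 2) (t : ℕ) (ht : t ∣ q ^ 2 - 1) :
    ∃ a : F, a ≠ 0 ∧ a ^ t = 1 ∧ ∀ j, a ^ j = 1 → t ∣ j := by
  obtain ⟨a, ha⟩ := Cfsg.Agent.Lib.Helper45SpTri.exists_unit_orderOf F t (by
    rw [Nat.card_eq_fintype_card, hF]; exact ht)
  refine ⟨a, a.ne_zero, ?_, ?_⟩
  · rw [← Units.val_pow_eq_pow_val, ← ha, pow_orderOf_eq_one, Units.val_one]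
  · intro j hj
    rw [← ha]
    apply orderOf_dvd_of_pow_eq_one
    ext
    rw [Units.val_pow_eq_pow_val, hj, Units.val_one]

theorem exists_R1 (hF : Fintype.card F = q ^ 2) (hσ : ∀ x, σ x = x ^ q) :
    ∃ y : Cfsg.PSU 3 F q, (q + 1) ∣ orderOf y := by
  have hσσ := sigma_sigma hF hσ
  obtain ⟨a, ha0, ha1, ha⟩ := exists_elt hF (q + 1) (by rw [sq_sub_one]; exact Dvd.intro _ rfl)
  let D : HData σ (F × (F × F)) := (baseD hσσ).prod ((baseD hσσ).prod (baseD hσσ))
  apply exists_of_data hF hσ D (by simp [Module.finrank_prod]) ((a, (a⁻¹, 1)) : F × (F × F))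
  · show ((a, (a⁻¹, 1)) : F × (F × F)) * (σ a, (σ a⁻¹, σ 1)) = 1
    have h1 : a * σ a = 1 := by rw [hσ, ← pow_succ', ha1]
    ext
    · exact h1
    · show a⁻¹ * σ a⁻¹ = 1
      rw [map_inv₀, ← mul_inv, h1, inv_one]
    · show (1 : F) * σ 1 = 1
      rw [map_one, one_mul]
  · rw [norm_prod_mk, norm_prod_mk, Algebra.norm_self, MonoidHom.id_apply, MonoidHom.id_apply,
      MonoidHom.id_apply, mul_one, mul_inv_cancel₀ ha0]
  · intro j c hj
    have e1 : a ^ j = c := congrArg Prod.fst hj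
    have e3 : (1 : F) ^ j = c := congrArg (fun x => x.2.2) hj
    apply ha
    rw [e1, ← e3, one_pow]

theorem exists_R3 (hF : Fintype.card F = q ^ 2) (hσ : ∀ x, σ x = x ^ q) (p : ℕ)
    [Fact p.Prime] [CharP F p] (a : ℕ) (hq : q = p ^ a) :
    ∃ y : Cfsg.PSU 3 F q, (q ^ 2 - 1) / Nat.gcd 3 (q + 1) ∣ orderOf y := by
  have hσσ := sigma_sigma hF hσ
  obtain ⟨l, hl0, hl1, hl⟩ := exists_elt hF (q ^ 2 - 1) dvd_rfl
  have hq2 := Cfsg.Agent.Lib.Helper7Herm.two_le_q hF
  have hlq : l ^ q ^ 2 = l := by rw [← hF]; exact FiniteField.pow_card l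
  let D : HData σ ((F × F) × F) := (HData.hyp hF hσ p a hq F).prod (baseD hσσ)
  have hlq0 : l ^ q ≠ 0 := pow_ne_zero _ hl0
  apply exists_of_data hF hσ D (by simp [Module.finrank_prod])
    ((((l ^ q)⁻¹, l), l ^ q * l⁻¹) : (F × F) × F)
  · show ((((l ^ q)⁻¹, l), l ^ q * l⁻¹) : (F × F) × F) *
      ((HData.hyp hF hσ p a hq F).τ ((l ^ q)⁻¹, l), σ (l ^ q * l⁻¹)) = 1
    rw [HData.hyp_τ, Module.finrank_self]
    ext
    · show (l ^ q)⁻¹ * l ^ q = 1
      exact inv_mul_cancel₀ hlq0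
    · show l * ((l ^ q)⁻¹) ^ q ^ (2 * 1 - 1) = 1
      rw [show 2 * 1 - 1 = 1 by norm_num, pow_one, inv_pow, ← pow_mul, ← sq, hlq,
        mul_inv_cancel₀ hl0]
    · show l ^ q * l⁻¹ * σ (l ^ q * l⁻¹) = 1
      rw [hσ, mul_pow, ← pow_mul, ← sq, hlq, inv_pow]
      field_simp
  · rw [norm_prod_mk, norm_prod_mk, Algebra.norm_self, MonoidHom.id_apply, MonoidHom.id_apply,
      MonoidHom.id_apply]
    field_simp
  · intro j c hj
    have e1 : ((l ^ q)⁻¹) ^ j = c := congrArg (fun x => x.1.1) hj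
    have e2 : l ^ j = c := congrArg (fun x => x.1.2) hj
    have e3 : (l ^ q * l⁻¹) ^ j = c := congrArg Prod.snd hj
    have hlj0 : l ^ j ≠ 0 := pow_ne_zero _ hl0
    have f1 : l ^ ((q + 1) * j) = 1 := by
      rw [add_mul, one_mul, pow_add, pow_mul, e2, ← e1, inv_pow]
      exact mul_inv_cancel₀ (pow_ne_zero _ hlq0)
    have f2 : (l ^ q) ^ j = l ^ j * l ^ j := by
      rw [mul_pow, inv_pow, ← e2] at e3
      field_simp at e3
      rw [e3, sq]
    have f3 : l ^ (3 * j) = 1 := by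
      rw [show 3 * j = j + j + j by ring, pow_add, pow_add, ← f2, ← pow_mul, ← pow_add, ← f1]
      congr 1
      ring
    exact div_gcd_dvd 3 _ j (hl _ f3) (q + 1) (hl _ f1) (by norm_num) (gcd_dvd_sq_sub_one q)

theorem exists_R2 (hF : Fintype.card F = q ^ 2) (hσ : ∀ x, σ x = x ^ q) (p : ℕ)
    [Fact p.Prime] [CharP F p] (a : ℕ) (hq : q = p ^ a) (ha : a ≠ 0) :
    ∃ y : Cfsg.PSU 3 F q, p * ((q + 1) / Nat.gcd 3 (q + 1)) ∣ orderOf y := by
  have hp : p.Prime := Fact.out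
  have hσσ := sigma_sigma hF hσ
  obtain ⟨l, hl0, hl1, hl⟩ := exists_elt hF (q + 1) (by rw [sq_sub_one]; exact Dvd.intro _ rfl)
  obtain ⟨u, hu1, hu2, hu⟩ := exists_hunip_element σ 2 hσσ (exists_sigma_ne hF hσ) (by norm_num)
    p 1 (by
      intro s hs
      by_contra h
      have : s = 0 := by omega
      rw [this] at hs
      norm_num at hs)
  let D : HData σ (F × AdjoinRoot (X ^ 2 : F[X])) :=
    (baseD hσσ).prod (HData.unip σ 2 hσσ (by norm_num))
  have hls : l * σ l = 1 := by rw [hσ, ← pow_succ', hl1]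
  have hl20 : l ^ 2 ≠ 0 := pow_ne_zero _ hl0
  apply exists_of_data hF hσ D (by rw [Module.finrank_prod, Module.finrank_self, finrank_unip])
    (((l ^ 2)⁻¹, algebraMap F _ l * u) : F × AdjoinRoot (X ^ 2 : F[X]))
  · show (((l ^ 2)⁻¹, algebraMap F _ l * u) : F × AdjoinRoot (X ^ 2 : F[X])) *
      (σ (l ^ 2)⁻¹, (HData.unip σ 2 hσσ (by norm_num)).τ (algebraMap F _ l * u)) = 1
    ext
    · show (l ^ 2)⁻¹ * σ (l ^ 2)⁻¹ = 1
      rw [map_inv₀, ← mul_inv, map_pow, ← mul_pow, hls, one_pow, inv_one]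
    · show algebraMap F _ l * u * (HData.unip σ 2 hσσ (by norm_num)).τ (algebraMap F _ l * u) = 1
      rw [map_mul (HData.unip σ 2 hσσ (by norm_num)).τ, (HData.unip σ 2 hσσ (by norm_num)).τ_alg]
      calc algebraMap F (AdjoinRoot (X ^ 2 : F[X])) l * u * (algebraMap F _ (σ l) *
            (HData.unip σ 2 hσσ (by norm_num)).τ u)
          = algebraMap F _ (l * σ l) * (u * (HData.unip σ 2 hσσ (by norm_num)).τ u) := by
            rw [map_mul]; ring
        _ = 1 := by rw [hls, hu1, map_one, one_mul]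
  · rw [norm_prod_mk, Algebra.norm_self, MonoidHom.id_apply, map_mul, hu2, mul_one,
      Algebra.norm_algebraMap, finrank_unip, inv_mul_cancel₀ hl20]
  · intro j c hj
    have e1 : ((l ^ 2)⁻¹) ^ j = c := congrArg Prod.fst hj
    have e2 : (algebraMap F (AdjoinRoot (X ^ 2 : F[X])) l * u) ^ j = algebraMap F _ c :=
      congrArg Prod.snd hj
    have hlj0 : l ^ j ≠ 0 := pow_ne_zero _ hl0
    have e3 : u ^ j = algebraMap F _ ((l ^ j)⁻¹ * c) := by
      rw [map_mul, ← e2, mul_pow, ← map_pow, ← mul_assoc, ← map_mul, inv_mul_cancel₀ hlj0,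
        map_one, one_mul]
    obtain ⟨h1, h2⟩ := hu j _ e3
    rw [pow_one] at h2
    have f3 : l ^ (3 * j) = 1 := by
      have h3 : c = l ^ j := by
        field_simp at h1
        exact h1
      rw [h3, inv_pow] at e1
      have h4 : (l ^ 2) ^ j ≠ 0 := pow_ne_zero _ hl20
      rw [show 3 * j = 2 * j + j by ring, pow_add, ← e1, pow_mul, mul_inv_cancel₀ h4]
    have f4 : (q + 1) / Nat.gcd 3 (q + 1) ∣ j :=
      div_gcd_dvd 3 _ j (hl _ f3) (q + 1) (Dvd.intro _ rfl) (by norm_num) (Nat.gcd_dvd_right _ _)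
    apply Nat.Coprime.mul_dvd_of_dvd_of_dvd _ h2 f4
    apply Nat.Coprime.coprime_dvd_right (Nat.div_dvd_of_dvd (Nat.gcd_dvd_right 3 (q + 1)))
    rw [Nat.Prime.coprime_iff_not_dvd hp]
    intro h
    have h5 : p ∣ q := by rw [hq]; exact dvd_pow_self p ha
    have h6 : p ∣ 1 := (Nat.dvd_add_right h5).1 h
    exact hp.one_lt.ne' (Nat.dvd_one.1 h6)

theorem exists_R4 (hF : Fintype.card F = q ^ 2) (hσ : ∀ x, σ x = x ^ q) (p : ℕ)
    [Fact p.Prime] [CharP F p] (a : ℕ) (hq : q = p ^ a) :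
    ∃ y : Cfsg.PSU 3 F q, (q ^ 2 - q + 1) / Nat.gcd 3 (q + 1) ∣ orderOf y := by
  have hq2 := Cfsg.Agent.Lib.Helper7Herm.two_le_q hF
  let K := FiniteField.Extension F p 3
  have hfin : finrank F K = 3 := FiniteField.finrank_extension F p 3
  have : CharP K p := charP_of_injective_algebraMap (algebraMap F K).injective p
  have hodd : Odd (finrank F K) := by rw [hfin]; decide
  have hcard : Nat.card K = q ^ 6 := by rw [natCard_eq hF, hfin]
  obtain ⟨ν', hν'⟩ := Cfsg.Agent.Lib.Helper45SpTri.exists_unit_orderOf K (q ^ 2 - q + 1) (by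
    rw [hcard]
    have h1 : q ^ 6 - 1 = (q ^ 3 + 1) * (q ^ 3 - 1) := by
      rw [← Nat.sq_sub_sq, one_pow, ← pow_mul]
    rw [h1, ← phi6_mul q hq2, mul_assoc]
    exact Dvd.intro _ rfl)
  set ν : K := (ν' : K) with hν
  have hν0 : ν ≠ 0 := ν'.ne_zero
  have hν1 : ν ^ (q ^ 2 - q + 1) = 1 := by
    rw [hν, ← Units.val_pow_eq_pow_val, ← hν', pow_orderOf_eq_one, Units.val_one]
  have hνj : ∀ j, ν ^ j = 1 → (q ^ 2 - q + 1) ∣ j := by
    intro j hj
    rw [← hν']
    apply orderOf_dvd_of_pow_eq_one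
    ext
    rw [Units.val_pow_eq_pow_val, Units.val_one]
    exact hj
  let D : HData σ K := HData.fld hF hσ p a hq K hodd
  have hτ : ∀ x : K, D.τ x = x ^ q ^ 3 := by
    intro x
    show (HData.fld hF hσ p a hq K hodd).τ x = _
    rw [HData.fld_τ, hfin]
  have hνq : ν ^ (q ^ 3 + 1) = 1 := by
    rw [← phi6_mul q hq2, pow_mul, hν1, one_pow]
  apply exists_of_data hF hσ D hfin ν
  · rw [hτ, ← pow_succ', hνq]
  · apply (algebraMap F K).injective
    rw [FiniteField.algebraMap_norm_eq_pow_sum, hfin, Nat.card_eq_fintype_card, hF, map_one,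
      Finset.sum_range_succ, Finset.sum_range_succ, Finset.sum_range_succ, Finset.sum_range_zero,
      show 0 + (q ^ 2) ^ 0 + (q ^ 2) ^ 1 + (q ^ 2) ^ 2 = q ^ 4 + q ^ 2 + 1 by ring,
      ← phi6_mul' q hq2, pow_mul, hν1, one_pow]
  · intro j c hj
    have hc0 : c ≠ 0 := by
      rintro rfl
      rw [map_zero] at hj
      exact pow_ne_zero j hν0 hj
    have g1 : c ^ (q + 1) = 1 := by
      apply (algebraMap F K).injective
      have h1 : (ν ^ j) * D.τ (ν ^ j) = 1 := by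
        rw [hτ, ← pow_succ', ← pow_mul, mul_comm, pow_mul, hνq, one_pow]
      rw [hj, D.τ_alg, hσ, ← map_mul, ← pow_succ'] at h1
      rw [h1, map_one]
    have g2 : c ^ (q ^ 2 - q + 1) = 1 := by
      apply (algebraMap F K).injective
      rw [map_pow, ← hj, ← pow_mul, mul_comm, pow_mul, hν1, one_pow, map_one]
    have g3 : c ^ 3 = 1 := by
      rw [phi6_eq q hq2, pow_add, pow_mul, g1, one_pow, one_mul] at g2
      exact g2
    have g4 : c ^ Nat.gcd 3 (q + 1) = 1 := pow_gcd_eq_one.2 ⟨g3, g1⟩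
    have g5 : ν ^ (Nat.gcd 3 (q + 1) * j) = 1 := by
      rw [mul_comm, pow_mul, hj, ← map_pow, g4, map_one]
    rw [Nat.div_dvd_iff_dvd_mul (gcd_dvd_phi6 q hq2) (Nat.gcd_pos_of_pos_left _ (by norm_num))]
    exact hνj _ g5

end Exist

end Cfsg.Agent.Lib.Helper45SU3
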