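import Mathlib
import Cfsg.Agent.Lib.Helper45Dual
import Cfsg.Agent.Lib.Helper45SU3

set_option autoImplicit false

namespace Cfsg.Agent.Lib.Helper45Dual2

open Module Polynomial Cfsg.Agent.Lib.Helper45Form Cfsg.Agent.Lib.Helper45Semisimple
  Cfsg.Agent.Lib.Helper45PSL Cfsg.Agent.Lib.Helper45Dual Cfsg.Agent.Lib.Helper45SU3

universe u v w

section Gen

variable {F : Type u} [Field F] {σ : F →+* F} {V : Type v} [AddCommGroup V] [Module F V]
variable {B : V →ₛₗ[σ] V →ₗ[F] F} [Module.Finite F V]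

theorem mul_dual_dvd (hrefl : ∀ u v, B u v = 0 → B v u = 0)
    (hnd : ∀ u, (∀ v, B u v = 0) → u = 0) (hσ : ∀ c, σ (σ c) = c)
    {g g' : End F V} (hg : Isom B g g') (f : F[X]) [Fact (Irreducible f)]
    (hdvd : f ∣ minpoly F g) (hns : ¬ f ∣ dual σ f) : f * dual σ f ∣ minpoly F g :=
  (((Fact.out : Irreducible f).coprime_iff_not_dvd).2 hns).mul_dvd hdvd
    (dual_dvd_minpoly hrefl hnd hσ hg f (hdvd.trans (LinearMap.minpoly_dvd_charpoly g)))

theorem natDegree_add_le (hrefl : ∀ u v, B u v = 0 → B v u = 0)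
    (hnd : ∀ u, (∀ v, B u v = 0) → u = 0) (hσ : ∀ c, σ (σ c) = c)
    {g g' : End F V} (hg : Isom B g g') (f : F[X]) [Fact (Irreducible f)]
    (hdvd : f ∣ minpoly F g) (hns : ¬ f ∣ dual σ f) :
    f.natDegree + (dual σ f).natDegree ≤ finrank F V := by
  have h1 := natDegree_le_of_dvd (mul_dual_dvd hrefl hnd hσ hg f hdvd hns)
    (minpoly.ne_zero (Algebra.IsIntegral.isIntegral g))
  rw [natDegree_mul (Fact.out : Irreducible f).ne_zero (dual_monic σ f).ne_zero] at h1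
  exact h1.trans (natDegree_minpoly_le g)

theorem aux_summand (hrefl : ∀ u v, B u v = 0 → B v u = 0)
    (hnd : ∀ u, (∀ v, B u v = 0) → u = 0) (hσ : ∀ c, σ (σ c) = c)
    {g g' : End F V} (hg : Isom B g g') (f : F[X]) [Fact (Irreducible f)]
    (hns : ¬ f ∣ dual σ f) (W W' : Submodule F V) (hc : IsCompl W W')
    (hW : W ∈ g.invtSubmodule) (ho : ∀ u ∈ W, ∀ v ∈ W', B u v = 0) (w : V) (hw : w ∈ W)
    (hw0 : w ≠ 0) (hfw : aeval g f w = 0) :
    f.natDegree + (dual σ f).natDegree ≤ finrank F W := by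
  have hW' := invt_inv hg W hW
  have hgW := isom_restrict hg W hW hW'
  apply natDegree_add_le (B := resB B W) (fun u v h => hrefl _ _ h) (resB_nd hnd W W' hc ho) hσ hgW
    f _ hns
  apply dvd_charpoly_of_ker _ f Fact.out ⟨w, hw⟩ (fun h => hw0 (congrArg Subtype.val h))
  apply Subtype.ext
  rw [aeval_restrict_apply]
  exact hfw

theorem not_decomp_of_dual (hrefl : ∀ u v, B u v = 0 → B v u = 0)
    (hnd : ∀ u, (∀ v, B u v = 0) → u = 0) (hσ : ∀ c, σ (σ c) = c)
    {g g' : End F V} (hg : Isom B g g') (f : F[X]) [Fact (Irreducible f)]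
    (hdvd : f ∣ g.charpoly) (hns : ¬ f ∣ dual σ f)
    (hdim : finrank F V ≤ f.natDegree + (dual σ f).natDegree) : ¬ Decomp B g := by
  rintro ⟨V1, V2, hc, h1, h2, hne1, hne2, ho1, ho2⟩
  obtain ⟨v, hv0, hv⟩ := exists_ne_zero_aeval_eq_zero g f Fact.out hdvd
  have hvm : v ∈ V1 ⊔ V2 := by rw [hc.sup_eq_top]; trivial
  obtain ⟨v1, hv1, v2, hv2, rfl⟩ := Submodule.mem_sup.1 hvm
  have hsum : finrank F V1 + finrank F V2 = finrank F V := Submodule.finrank_add_eq_of_isCompl hc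
  have hp1 : 0 < finrank F V1 := Nat.pos_of_ne_zero (fun h => hne1 (Submodule.finrank_eq_zero.1 h))
  have hp2 : 0 < finrank F V2 := Nat.pos_of_ne_zero (fun h => hne2 (Submodule.finrank_eq_zero.1 h))
  have m1 : aeval g f v1 ∈ V1 := aeval_mem_of_invt h1 f hv1
  have m2 : aeval g f v2 ∈ V2 := aeval_mem_of_invt h2 f hv2
  rw [map_add] at hv
  have e1 : aeval g f v1 = 0 := by
    have h3 : aeval g f v1 ∈ V2 := by
      rw [eq_neg_of_add_eq_zero_left hv]
      exact V2.neg_mem m2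
    exact (Submodule.mem_bot F).1 (hc.inf_eq_bot ▸ ⟨m1, h3⟩)
  have e2 : aeval g f v2 = 0 := by rwa [e1, zero_add] at hv
  by_cases hz : v1 = 0
  · have hz2 : v2 ≠ 0 := by
      rintro rfl
      exact hv0 (by rw [hz, add_zero])
    have := aux_summand hrefl hnd hσ hg f hns V2 V1 hc.symm h2 ho2 v2 hv2 hz2 e2
    omega
  · have := aux_summand hrefl hnd hσ hg f hns V1 V2 hc h1 ho1 v1 hv1 hz e1
    omega

end Gen

end Cfsg.Agent.Lib.Helper45Dual2
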