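import Mathlib
import Cfsg.Agent.Lib.Helper45PSL
import Cfsg.Agent.Lib.Helper45SU

set_option autoImplicit false

namespace Cfsg.Agent.Lib.Helper45PSL2

open Module Polynomial Matrix Cfsg.Agent.Lib.Helper45ProjOrder Cfsg.Agent.Lib.Helper45Semisimple
  Cfsg.Agent.Lib.Helper45PSL

universe u v w

section AdjP

variable {F : Type u} [Field F] [Fintype F]

/-- an irreducible factor of degree at least two of `X ^ r - c`. -/
theorem dvd_of_deg_two (f : F[X]) (hf : Irreducible f) (r : ℕ) (hr : r.Prime) (c : F) (hc : c ≠ 0)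
    (h1 : f ∣ X ^ r - C c) (h2 : 2 ≤ f.natDegree) : r ∣ Fintype.card F ^ f.natDegree - 1 := by
  have : Fact (Irreducible f) := ⟨hf⟩
  have := finite_adjoinRoot f hf
  have : Finite (AdjoinRoot f) := Module.finite_of_finite F
  rw [dvd_iff_root] at h1
  simp only [map_sub, map_pow, aeval_X, aeval_C, sub_eq_zero] at h1
  set α := AdjoinRoot.root f with hα
  have hq1 : 1 ≤ Fintype.card F := Fintype.card_pos
  rw [← Nat.card_eq_fintype_card, ← natCard_adjoinRoot f hf.ne_zero]
  apply prime_dvd_card_sub_one _ r hr (α ^ (Fintype.card F - 1))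
  · rw [← pow_mul, mul_comm, pow_mul, h1, ← map_pow, FiniteField.pow_card_sub_one_eq_one c hc,
      map_one]
  · intro h
    obtain ⟨a, ha⟩ := Cfsg.Agent.Lib.Helper45SU.mem_range_of_pow_card (F := F) (AdjoinRoot f) α (by
      conv_lhs => rw [← Nat.sub_add_cancel hq1]
      rw [pow_succ, h, one_mul])
    have h3 : f ∣ X - C a := by
      rw [dvd_iff_root]
      simp only [map_sub, aeval_X, aeval_C]
      rw [← hα, ha, sub_self]
    have h4 := natDegree_le_of_dvd h3 (X_sub_C_ne_zero a)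
    rw [natDegree_X_sub_C] at h4
    omega

omit [Fintype F] in
theorem exists_root_of_natDegree_le_one (f : F[X]) (hf : Irreducible f) (h : f.natDegree < 2) :
    ∃ a : F, X - C a ∣ f ∧ f ∣ X - C a := by
  have h1 : f.natDegree = 1 := by have := hf.natDegree_pos; omega
  obtain ⟨a, ha⟩ := exists_root_of_degree_eq_one ((degree_eq_iff_natDegree_eq hf.ne_zero).2 h1)
  have h2 : X - C a ∣ f := dvd_iff_isRoot.2 ha
  exact ⟨a, h2, (irreducible_X_sub_C a).dvd_symm hf h2⟩

theorem adjp_lower (p : ℕ) [Fact p.Prime] [CharP F p] {V : Type v} [AddCommGroup V] [Module F V]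
    [Module.Finite F V] (g : End F V) (hdet : LinearMap.det g = 1) (r : ℕ) (hr : r.Prime)
    (hrp : r ≠ p) (c : F) (hc0 : c ≠ 0) (h1 : g ^ (r * p) = c • 1) (h2 : ∀ a : F, g ^ r ≠ a • 1)
    (h3 : ∀ a : F, g ^ p ≠ a • 1) (k : ℕ) (hk : ∀ d, r ∣ Fintype.card F ^ d - 1 → k ∣ d) :
    k + 2 ≤ finrank F V ∧
      ¬ (finrank F V = 3 ∧ r = 3 ∧ 3 ∣ Fintype.card F - 1 ∧ ¬ 9 ∣ Fintype.card F - 1) := by
  have hp : p.Prime := Fact.out
  obtain ⟨c', hc'⟩ := surjective_frobenius F p c
  rw [frobenius_def] at hc'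
  have hc'0 : c' ≠ 0 := by
    rintro rfl
    rw [zero_pow hp.ne_zero] at hc'
    exact hc0 hc'.symm
  set P : F[X] := X ^ r - C c' with hP
  have hPp : P ^ p = X ^ (r * p) - C c := by
    rw [hP, sub_pow_char, ← pow_mul, ← C_pow, hc']
  have hrF : (r : F) ≠ 0 := by
    intro h
    rw [CharP.cast_eq_zero_iff F p] at h
    exact hrp ((Nat.prime_dvd_prime_iff_eq hp hr).1 h).symm
  have hPsq : Squarefree P := (separable_X_pow_sub_C c' hrF hc'0).squarefree
  set μ := minpoly F g with hμ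
  have hμ0 : μ ≠ 0 := minpoly.ne_zero (Algebra.IsIntegral.isIntegral g)
  have hμP : μ ∣ P ^ p := by
    apply minpoly.dvd
    rw [hPp, map_sub, map_pow, aeval_X, aeval_C, h1, Algebra.algebraMap_eq_smul_one, sub_self]
  have hle : μ.natDegree ≤ finrank F V := natDegree_minpoly_le g
  have hirrP : ∀ f, Irreducible f → f ∣ μ → f ∣ P := fun f hf hfμ =>
    hf.prime.dvd_of_dvd_pow (hfμ.trans hμP)
  have hnsq : ¬ Squarefree μ := by
    intro hsq
    have h4 : μ ∣ P := (hsq.dvd_pow_iff_dvd hp.ne_zero).1 hμP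
    obtain ⟨R, hR⟩ := h4
    have h5 := congrArg (aeval g) hR
    rw [map_mul, minpoly.aeval, zero_mul, hP, map_sub, map_pow, aeval_X, aeval_C, sub_eq_zero,
      Algebra.algebraMap_eq_smul_one] at h5
    exact h2 c' h5
  rw [squarefree_iff_irreducible_sq_not_dvd_of_ne_zero hμ0] at hnsq
  push Not at hnsq
  obtain ⟨f, hf, hff⟩ := hnsq
  have hfμ : f ∣ μ := (Dvd.intro _ rfl).trans hff
  have hfpos := hf.natDegree_pos
  have hkdeg : ∀ f0, Irreducible f0 → f0 ∣ μ → 2 ≤ f0.natDegree → k ≤ f0.natDegree :=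
    fun f0 hf0 hd h2' => Nat.le_of_dvd hf0.natDegree_pos
      (hk _ (dvd_of_deg_two f0 hf0 r hr c' hc'0 (hirrP f0 hf0 hd) h2'))
  have hff' := natDegree_le_of_dvd hff hμ0
  rw [natDegree_mul hf.ne_zero hf.ne_zero] at hff'
  by_cases hf2 : 2 ≤ f.natDegree
  · have := hkdeg f hf hfμ hf2
    exact ⟨by omega, fun h => by omega⟩
  by_cases H : ∃ f', Irreducible f' ∧ f' ∣ μ ∧ ¬ f ∣ f'
  · obtain ⟨f', hf', hf'μ, hnd⟩ := H
    have hco : IsCoprime (f * f) f' :=
      IsCoprime.mul_left ((hf.coprime_iff_not_dvd).2 hnd) ((hf.coprime_iff_not_dvd).2 hnd)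
    have h4 := natDegree_le_of_dvd (hco.mul_dvd hff hf'μ) hμ0
    rw [natDegree_mul (mul_ne_zero hf.ne_zero hf.ne_zero) hf'.ne_zero,
      natDegree_mul hf.ne_zero hf.ne_zero] at h4
    have hf'pos := hf'.natDegree_pos
    by_cases hf'2 : 2 ≤ f'.natDegree
    · have := hkdeg f' hf' hf'μ hf'2
      exact ⟨by omega, fun h => by omega⟩
    · obtain ⟨a, ha1, ha2⟩ := exists_root_of_natDegree_le_one f hf (by omega)
      obtain ⟨b, hb1, hb2⟩ := exists_root_of_natDegree_le_one f' hf' (by omega)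
      have hab : a ≠ b := by
        rintro rfl
        exact hnd (ha2.trans hb1)
      have har : a ^ r = c' := by
        have := dvd_iff_isRoot.1 (ha1.trans (hirrP f hf hfμ))
        rw [IsRoot, hP, eval_sub, eval_pow, eval_X, eval_C, sub_eq_zero] at this
        exact this
      have hbr : b ^ r = c' := by
        have := dvd_iff_isRoot.1 (hb1.trans (hirrP f' hf' hf'μ))
        rw [IsRoot, hP, eval_sub, eval_pow, eval_X, eval_C, sub_eq_zero] at this
        exact this
      have ha0 : a ≠ 0 := by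
        rintro rfl
        rw [zero_pow hr.ne_zero] at har
        exact hc'0 har.symm
      have hr1 : r ∣ Fintype.card F - 1 := by
        rw [← Nat.card_eq_fintype_card]
        apply prime_dvd_card_sub_one F r hr (b / a)
        · rw [div_pow, har, hbr, div_self hc'0]
        · intro h
          rw [div_eq_one_iff_eq ha0] at h
          exact hab h.symm
      have hk1 : k ≤ 1 := Nat.le_of_dvd one_pos (hk 1 (by rwa [pow_one]))
      refine ⟨by omega, ?_⟩
      rintro ⟨hn3, hr3, h3q, h9q⟩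
      subst hr3
      have hχ : g.charpoly = (X - C a) * (X - C a) * (X - C b) := by
        apply eq_of_monic_of_dvd_of_natDegree_le
          (((monic_X_sub_C a).mul (monic_X_sub_C a)).mul (monic_X_sub_C b)) g.charpoly_monic
        · refine (mul_dvd_mul (mul_dvd_mul ha1 ha1) hb1).trans ?_
          exact (hco.mul_dvd hff hf'μ).trans (LinearMap.minpoly_dvd_charpoly g)
        · rw [LinearMap.charpoly_natDegree, hn3, natDegree_mul (mul_ne_zero (X_sub_C_ne_zero a)
            (X_sub_C_ne_zero a)) (X_sub_C_ne_zero b), natDegree_mul (X_sub_C_ne_zero a)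
            (X_sub_C_ne_zero a), natDegree_X_sub_C, natDegree_X_sub_C]
      have hd : a * a * b = 1 := by
        rw [LinearMap.det_eq_sign_charpoly_coeff, hχ, hn3, coeff_zero_eq_eval_zero] at hdet
        simp only [eval_mul, eval_sub, eval_X, eval_C] at hdet
        rw [← hdet]
        ring
      have ha9 : a ^ 9 = 1 := by
        calc a ^ 9 = (a * a) ^ 3 * a ^ 3 := by ring
          _ = (a * a) ^ 3 * b ^ 3 := by rw [har, hbr]
          _ = (a * a * b) ^ 3 := by ring
          _ = 1 := by rw [hd, one_pow]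
      have haq : a ^ (Fintype.card F - 1) = 1 := FiniteField.pow_card_sub_one_eq_one a ha0
      have hg := pow_gcd_eq_one.2 ⟨ha9, haq⟩
      have hgcd : Nat.gcd 9 (Fintype.card F - 1) = 3 := by
        have h5 : Nat.gcd 9 (Fintype.card F - 1) ∣ 3 ^ 2 := Nat.gcd_dvd_left _ _
        obtain ⟨i, hi, hi'⟩ := (Nat.dvd_prime_pow Nat.prime_three).1 h5
        have h6 : 3 ∣ Nat.gcd 9 (Fintype.card F - 1) := Nat.dvd_gcd (by norm_num) h3q
        interval_cases i
        · rw [hi'] at h6; norm_num at h6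
        · rw [hi']; norm_num
        · exfalso
          apply h9q
          have := Nat.gcd_dvd_right 9 (Fintype.card F - 1)
          rwa [hi'] at this
      rw [hgcd] at hg
      apply hab
      have : a * a * b = a * a * a := by rw [hd, ← hg]; ring
      exact (mul_left_cancel₀ (mul_ne_zero ha0 ha0) this).symm
  · exfalso
    push Not at H
    obtain ⟨a, ha1, ha2⟩ := exists_root_of_natDegree_le_one f hf (by omega)
    obtain ⟨N, hN⟩ := dvd_pow_of_forall_irreducible μ (X - C a) hμ0 (fun f' hf' hd =>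
      (hf.dvd_symm hf' (H f' hf' hd)).trans ha2)
    set y := g ^ p with hy
    have hy1 : minpoly F y ∣ X ^ r - C c := by
      apply minpoly.dvd
      rw [map_sub, map_pow, aeval_X, aeval_C, hy, ← pow_mul, mul_comm, h1,
        Algebra.algebraMap_eq_smul_one, sub_self]
    have hysq : Squarefree (minpoly F y) :=
      (separable_X_pow_sub_C c hrF hc0).squarefree.squarefree_of_dvd hy1
    have hy2 : minpoly F y ∣ (X - C (a ^ p)) ^ (N + 1) := by
      apply minpoly.dvd
      have h5 : aeval g ((X - C a) ^ N) = 0 := by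
        obtain ⟨R, hR⟩ := hN
        rw [hR, map_mul, minpoly.aeval, zero_mul]
      have h6 : aeval y (X - C (a ^ p)) = aeval g ((X - C a) ^ p) := by
        rw [sub_pow_char, ← C_pow]
        simp only [map_sub, map_pow, aeval_X, aeval_C, hy]
      rw [map_pow, h6, ← map_pow, ← pow_mul, mul_comm, pow_mul, pow_succ, mul_pow, map_mul,
        map_pow (aeval g) ((X - C a) ^ N), h5, zero_pow hp.ne_zero, zero_mul]
    have hy3 : minpoly F y ∣ X - C (a ^ p) := (hysq.dvd_pow_iff_dvd (Nat.succ_ne_zero N)).1 hy2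
    obtain ⟨R, hR⟩ := hy3
    have h7 := congrArg (aeval y) hR
    rw [map_mul, minpoly.aeval, zero_mul, map_sub, aeval_X, aeval_C, sub_eq_zero,
      Algebra.algebraMap_eq_smul_one] at h7
    exact h3 _ h7

end AdjP

section Jordan

variable (F : Type u) [Field F] (M : ℕ)

/-- the Jordan block algebra -/
def JA : Type u := AdjoinRoot ((X - C (1 : F)) ^ M : F[X])

noncomputable instance : CommRing (JA F M) :=
  inferInstanceAs (CommRing (AdjoinRoot ((X - C (1 : F)) ^ M : F[X])))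

noncomputable instance : Algebra F (JA F M) :=
  inferInstanceAs (Algebra F (AdjoinRoot ((X - C (1 : F)) ^ M : F[X])))

theorem ja_monic : ((X - C (1 : F)) ^ M : F[X]).Monic := (monic_X_sub_C 1).pow M

theorem ja_natDegree : ((X - C (1 : F)) ^ M : F[X]).natDegree = M := by
  rw [natDegree_pow, natDegree_X_sub_C, mul_one]

instance ja_finite : Module.Finite F (JA F M) := (ja_monic F M).finite_adjoinRoot

theorem ja_finrank : finrank F (JA F M) = M := by
  show finrank F (AdjoinRoot ((X - C (1 : F)) ^ M : F[X])) = M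
  rw [(AdjoinRoot.powerBasis (ja_monic F M).ne_zero).finrank, AdjoinRoot.powerBasis_dim,
    ja_natDegree]

theorem ja_nontrivial (hM : 1 ≤ M) : Nontrivial (JA F M) :=
  AdjoinRoot.nontrivial ((X - C (1 : F)) ^ M : F[X]) (by
    rw [degree_eq_natDegree (ja_monic F M).ne_zero, ja_natDegree]
    exact_mod_cast (by omega : M ≠ 0))

/-- the unipotent generator -/
noncomputable def ju : JA F M := AdjoinRoot.root ((X - C (1 : F)) ^ M : F[X])

theorem ju_norm : Algebra.norm F (ju F M) = 1 := by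
  rw [Algebra.norm_apply]
  have := (ja_monic F M).finite_adjoinRoot
  exact det_mulLeft_jordan_root M

theorem ju_pow (p : ℕ) [Fact p.Prime] [CharP F p] (s : ℕ) (h : M ≤ p ^ s) :
    ju F M ^ p ^ s = 1 := by
  have h1 : ((X - C (1 : F)) ^ M : F[X]) ∣ X ^ p ^ s - 1 := by
    have : (X - C (1 : F)) ^ p ^ s = X ^ p ^ s - 1 := by
      rw [sub_pow_char_pow, ← C_pow, one_pow, C_1]
    rw [← this]
    exact pow_dvd_pow _ h
  rw [dvd_iff_root] at h1
  rw [map_sub, map_pow, aeval_X, sub_eq_zero] at h1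
  exact h1.trans (map_one (aeval (AdjoinRoot.root ((X - C (1 : F)) ^ M : F[X]))))

theorem ju_props (p : ℕ) [Fact p.Prime] [CharP F p] (T : ℕ) (hM1 : 1 ≤ M)
    (hMT : ∀ s, M ≤ p ^ s → T ≤ s) (j : ℕ) (μ : F)
    (h : ju F M ^ j = algebraMap F _ μ) : μ = 1 ∧ p ^ T ∣ j :=
  jordan_root_props p M T hM1 hMT j μ h

theorem ju_two_props (p : ℕ) [Fact p.Prime] [CharP F p] (j : ℕ) (μ : F)
    (h : ju F 2 ^ j = algebraMap F _ μ) : μ = 1 ∧ p ∣ j := by
  have := ju_props F 2 p 1 (by norm_num) (by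
    intro s hs
    by_contra hc
    have : s = 0 := by omega
    rw [this] at hs
    norm_num at hs) j μ h
  rwa [pow_one] at this

theorem ju_two_pow (p : ℕ) [Fact p.Prime] [CharP F p] : ju F 2 ^ p = 1 := by
  have := ju_pow F 2 p 1 (by rw [pow_one]; exact (Fact.out : p.Prime).two_le)
  rwa [pow_one] at this

theorem ju_two_orderOf (p : ℕ) [Fact p.Prime] [CharP F p] : orderOf (ju F 2) = p :=
  orderOf_eq_of_pow_iff _ p (ju_two_pow F p) (fun j hj =>
    (ju_two_props F p j 1 (by rw [hj, map_one])).2)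

end Jordan

section AdjPExist

variable {F : Type u} [Field F] [Fintype F]

theorem exists_elt (t : ℕ) (ht : t ∣ Fintype.card F - 1) :
    ∃ a : F, a ≠ 0 ∧ a ^ t = 1 ∧ ∀ j, a ^ j = 1 → t ∣ j := by
  obtain ⟨a, ha⟩ := Cfsg.Agent.Lib.Helper45SpTri.exists_unit_orderOf F t (by
    rw [Nat.card_eq_fintype_card]; exact ht)
  refine ⟨a, a.ne_zero, ?_, ?_⟩
  · rw [← Units.val_pow_eq_pow_val, ← ha, pow_orderOf_eq_one, Units.val_one]
  · intro j hj
    rw [← ha]
    apply orderOf_dvd_of_pow_eq_one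
    ext
    rw [Units.val_pow_eq_pow_val, hj, Units.val_one]

theorem coprime_p_card_sub_one (p : ℕ) [Fact p.Prime] [CharP F p] :
    Nat.Coprime p (Fintype.card F - 1) := by
  have hp : p.Prime := Fact.out
  rw [Nat.Prime.coprime_iff_not_dvd hp]
  intro h
  obtain ⟨e, -, he⟩ := FiniteField.card F p
  have h1 : p ∣ Fintype.card F := by rw [he]; exact dvd_pow_self p e.ne_zero
  have h2 : 1 ≤ Fintype.card F := Fintype.card_pos
  have h3 : p ∣ 1 := by
    have := (Nat.dvd_sub h1 h)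
    rwa [Nat.sub_sub_self h2] at this
  exact hp.one_lt.ne' (Nat.dvd_one.1 h3)

/-- `k ≥ 2` -/
theorem exists_rp_one (p : ℕ) [Fact p.Prime] [CharP F p] (n r k : ℕ) (hr : r.Prime) (hrp : r ≠ p)
    (hk0 : k ≠ 0) (hkr : r ∣ Fintype.card F ^ k - 1) (hr1 : ¬ r ∣ Fintype.card F - 1)
    (hkn : k + 2 ≤ n) :
    ∃ y : Matrix.ProjectiveSpecialLinearGroup (Fin n) F, orderOf y = r * p := by
  have hp : p.Prime := Fact.out
  have : NeZero k := ⟨hk0⟩
  obtain ⟨β, hβ⟩ := exists_ext_element (F := F) p k r (by rw [Nat.card_eq_fintype_card]; exact hkr)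
  have := ja_nontrivial F 2 (by norm_num)
  exact exists_orderOf_of_coprime (n := n) (A := FiniteField.Extension F p k × JA F 2)
    (by rw [Module.finrank_prod, FiniteField.finrank_extension, ja_finrank]) hkn (β, ju F 2) (r * p)
    (by
      rw [Nat.card_eq_fintype_card]
      exact Nat.Coprime.mul_left ((Nat.Prime.coprime_iff_not_dvd hr).2 hr1)
        (coprime_p_card_sub_one p))
    (by rw [Prod.orderOf_mk, hβ, ju_two_orderOf F p,
      Nat.Coprime.lcm_eq_mul ((Nat.coprime_primes hr hp).2 hrp)])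
    (mul_ne_zero hr.ne_zero hp.ne_zero)

/-- `k = 1`, `n ≥ 4` -/
theorem exists_rp_two (p : ℕ) [Fact p.Prime] [CharP F p] (n r : ℕ) (hr : r.Prime) (hrp : r ≠ p)
    (hr1 : r ∣ Fintype.card F - 1) (hn : 4 ≤ n) :
    ∃ y : Matrix.ProjectiveSpecialLinearGroup (Fin n) F, orderOf y = r * p := by
  have hp : p.Prime := Fact.out
  obtain ⟨a, ha0, ha1, ha⟩ := exists_elt (F := F) r hr1
  obtain ⟨y, hy⟩ := exists_psl_of_algebra_le (F := F) (n := n) (A := JA F 2 × (F × F)) (m := 4)
    (by rw [Module.finrank_prod, Module.finrank_prod, ja_finrank, Module.finrank_self]) hn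
    (ju F 2, (a, a⁻¹))
    (by rw [norm_prod_mk', norm_prod_mk', ju_norm, Algebra.norm_self, MonoidHom.id_apply,
      MonoidHom.id_apply, mul_inv_cancel₀ ha0, one_mul])
  refine ⟨y, orderOf_eq_of_pow_iff y _ ((hy _).2 ⟨1, ?_, fun _ => rfl⟩) ?_⟩
  · rw [map_one]
    ext
    · show ju F 2 ^ (r * p) = 1
      rw [mul_comm, pow_mul, ju_two_pow, one_pow]
    · show a ^ (r * p) = 1
      rw [pow_mul, ha1, one_pow]
    · show a⁻¹ ^ (r * p) = 1
      rw [inv_pow, pow_mul, ha1, one_pow, inv_one]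
  · intro j hj
    obtain ⟨c, hc, -⟩ := (hy j).1 hj
    have e1 : ju F 2 ^ j = algebraMap F _ c := congrArg Prod.fst hc
    have e2 : a ^ j = c := congrArg (fun x => x.2.1) hc
    obtain ⟨rfl, h2⟩ := ju_two_props F p j c e1
    exact Nat.Coprime.mul_dvd_of_dvd_of_dvd ((Nat.coprime_primes hr hp).2 hrp) (ha j e2) h2

/-- `k = 1`, `n = 3` -/
theorem exists_rp_three (p : ℕ) [Fact p.Prime] [CharP F p] (r : ℕ) (hr : r.Prime) (hrp : r ≠ p)
    (hr1 : r ∣ Fintype.card F - 1) (hex : r = 3 → 9 ∣ Fintype.card F - 1) :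
    ∃ y : Matrix.ProjectiveSpecialLinearGroup (Fin 3) F, orderOf y = r * p := by
  have hp : p.Prime := Fact.out
  obtain ⟨l, hl0, hl1, hl⟩ : ∃ l : F, l ≠ 0 ∧ l ^ (3 * r) = 1 ∧ ∀ j, l ^ (3 * j) = 1 → r ∣ j := by
    by_cases h3 : r = 3
    · obtain ⟨a, ha0, ha1, ha⟩ := exists_elt (F := F) 9 (hex h3)
      refine ⟨a, ha0, by rw [h3]; exact ha1, fun j hj => ?_⟩
      have := ha _ hj
      rw [h3]
      omega
    · obtain ⟨a, ha0, ha1, ha⟩ := exists_elt (F := F) r hr1
      refine ⟨a, ha0, by rw [mul_comm, pow_mul, ha1, one_pow], fun j hj => ?_⟩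
      exact (Nat.Coprime.dvd_mul_left ((Nat.coprime_primes hr Nat.prime_three).2 h3)).1 (ha _ hj)
  have hl20 : l ^ 2 ≠ 0 := pow_ne_zero _ hl0
  obtain ⟨y, hy⟩ := exists_psl_of_algebra (F := F) (n := 3) (A := JA F 2 × F)
    (by rw [Module.finrank_prod, ja_finrank, Module.finrank_self])
    (algebraMap F _ l * ju F 2, (l ^ 2)⁻¹)
    (by rw [norm_prod_mk', map_mul, ju_norm, Algebra.norm_algebraMap, ja_finrank, Algebra.norm_self,
      MonoidHom.id_apply, mul_one, mul_inv_cancel₀ hl20])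
  refine ⟨y, orderOf_eq_of_pow_iff y _ ((hy _).2 ⟨l ^ (r * p), ?_⟩) ?_⟩
  · ext
    · show (algebraMap F _ l * ju F 2) ^ (r * p) = algebraMap F _ (l ^ (r * p))
      rw [mul_pow, mul_comm r p, pow_mul (ju F 2), ju_two_pow, one_pow, mul_one, map_pow]
    · show ((l ^ 2)⁻¹) ^ (r * p) = l ^ (r * p)
      rw [inv_pow]
      apply inv_eq_of_mul_eq_one_left
      rw [← pow_mul, ← pow_add, show r * p + 2 * (r * p) = 3 * r * p by ring, pow_mul, hl1, one_pow]
  · intro j hj
    obtain ⟨c, hc⟩ := (hy j).1 hj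
    have e1 : (algebraMap F (JA F 2) l * ju F 2) ^ j = algebraMap F _ c := congrArg Prod.fst hc
    have e2 : ((l ^ 2)⁻¹) ^ j = c := congrArg Prod.snd hc
    have hlj0 : l ^ j ≠ 0 := pow_ne_zero _ hl0
    have e3 : ju F 2 ^ j = algebraMap F _ ((l ^ j)⁻¹ * c) := by
      rw [map_mul, ← e1, mul_pow, ← map_pow, ← mul_assoc, ← map_mul, inv_mul_cancel₀ hlj0,
        map_one, one_mul]
    obtain ⟨h1, h2⟩ := ju_two_props F p j _ e3
    have f3 : l ^ (3 * j) = 1 := by
      have h3 : c = l ^ j := by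
        field_simp at h1
        exact h1
      rw [h3, inv_pow] at e2
      have h4 : (l ^ 2) ^ j ≠ 0 := pow_ne_zero _ hl20
      rw [show 3 * j = 2 * j + j by ring, pow_add, ← e2, pow_mul, mul_inv_cancel₀ h4]
    exact Nat.Coprime.mul_dvd_of_dvd_of_dvd ((Nat.coprime_primes hr hp).2 hrp) (hl j f3) h2

end AdjPExist

end Cfsg.Agent.Lib.Helper45PSL2
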