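import Mathlib
import Cfsg.Agent.Lib.Helper45PSL2

set_option autoImplicit false

namespace Cfsg.Agent.Lib.Helper45PSL4

open Module Polynomial Matrix Cfsg.Agent.Lib.Helper45ProjOrder Cfsg.Agent.Lib.Helper45Semisimple
  Cfsg.Agent.Lib.Helper45PSL Cfsg.Agent.Lib.Helper45PSL2

universe u v w

section Arith

/-- geometric sum -/
def gs (q n : ℕ) : ℕ := ∑ i ∈ Finset.range n, q ^ i

theorem gs_mul (q n : ℕ) (hq : 1 ≤ q) : (q - 1) * gs q n = q ^ n - 1 := by
  obtain ⟨t, rfl⟩ : ∃ t, q = t + 1 := ⟨q - 1, by omega⟩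
  rw [Nat.add_sub_cancel]
  induction n with
  | zero => simp [gs]
  | succ n ih =>
    have h1 : 1 ≤ (t + 1) ^ n := Nat.one_le_pow _ _ (by omega)
    have h2 : gs (t + 1) (n + 1) = gs (t + 1) n + (t + 1) ^ n := Finset.sum_range_succ _ _
    rw [h2, mul_add, ih, pow_succ]
    have : (t + 1) ^ n * (t + 1) = t * (t + 1) ^ n + (t + 1) ^ n := by ring
    omega

theorem gs_two_mul (q m : ℕ) : gs q (2 * m) = (q ^ m + 1) * gs q m := by
  unfold gs
  rw [two_mul, Finset.sum_range_add, add_mul, one_mul, Finset.mul_sum, add_comm]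
  congr 1
  apply Finset.sum_congr rfl
  intro i _
  rw [pow_add]

theorem gs_modEq (q n : ℕ) (hq : 1 ≤ q) : gs q n ≡ n [MOD (q - 1)] := by
  have h1 : q ≡ 1 [MOD (q - 1)] := by
    rw [Nat.ModEq.comm, Nat.modEq_iff_dvd' hq]
  unfold gs
  induction n with
  | zero => simp; rfl
  | succ n ih =>
    rw [Finset.sum_range_succ]
    have h2 : q ^ n ≡ 1 [MOD (q - 1)] := by simpa using h1.pow n
    exact ih.add h2

theorem gcd_gs (q n : ℕ) (hq : 1 ≤ q) : Nat.gcd (gs q n) (q - 1) = Nat.gcd n (q - 1) :=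
  (gs_modEq q n hq).gcd_eq

theorem gs_pos (q n : ℕ) (hn : 1 ≤ n) : 0 < gs q n := by
  unfold gs
  obtain ⟨k, rfl⟩ : ∃ k, n = k + 1 := ⟨n - 1, by omega⟩
  rw [Finset.sum_range_succ']
  simp

theorem gcd_two_mul_dvd_iff (m t : ℕ) (hm : m ≠ 0) (ht : t ≠ 0) :
    Nat.gcd (2 * m) t ∣ m ↔ padicValNat 2 t ≤ padicValNat 2 m := by
  have : Fact (Nat.Prime 2) := ⟨Nat.prime_two⟩
  constructor
  · intro h
    by_contra hlt
    push Not at hlt
    have h1 : 2 ^ (padicValNat 2 m + 1) ∣ t := (padicValNat_dvd_iff_le ht).2 hlt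
    have h2 : 2 ^ (padicValNat 2 m + 1) ∣ 2 * m := by
      rw [pow_succ']
      exact Nat.mul_dvd_mul_left 2 ((padicValNat_dvd_iff_le hm).2 le_rfl)
    have h3 := (Nat.dvd_gcd h2 h1).trans h
    have := (padicValNat_dvd_iff_le hm).1 h3
    omega
  · intro h
    obtain ⟨a, t', ht', rfl⟩ := Nat.exists_eq_two_pow_mul_odd ht
    have ht'0 : t' ≠ 0 := by rintro rfl; simp at ht
    have hva : padicValNat 2 (2 ^ a * t') = a := by
      rw [padicValNat.mul (pow_ne_zero _ (by norm_num)) ht'0, padicValNat.prime_pow,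
        padicValNat.eq_zero_of_not_dvd ht'.not_two_dvd_nat, add_zero]
    rw [hva] at h
    have h2a : 2 ^ a ∣ m := (padicValNat_dvd_iff_le hm).2 h
    have hco : Nat.Coprime (2 ^ a) t' := Nat.Coprime.pow_left a (Nat.coprime_two_left.2 ht')
    refine (Nat.gcd_mul_right_dvd_mul_gcd (2 * m) (2 ^ a) t').trans ?_
    apply Nat.Coprime.mul_dvd_of_dvd_of_dvd
    · exact Nat.Coprime.coprime_dvd_left (Nat.gcd_dvd_right _ _)
        (Nat.Coprime.coprime_dvd_right (Nat.gcd_dvd_right _ _) hco)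
    · exact (Nat.gcd_dvd_right _ _).trans h2a
    · rw [Nat.Coprime.gcd_mul_left_cancel m (Nat.coprime_two_left.2 ht')]
      exact Nat.gcd_dvd_left _ _

/-- the arithmetic core -/
theorem core_iff (q m : ℕ) (hq : 2 ≤ q) (hm : 1 ≤ m) :
    (q ^ m + 1) ∣ gs q (2 * m) / Nat.gcd (2 * m) (q - 1) ↔
      padicValNat 2 (q - 1) < padicValNat 2 (2 * m) := by
  have : Fact (Nat.Prime 2) := ⟨Nat.prime_two⟩
  have hD : Nat.gcd (2 * m) (q - 1) ∣ gs q (2 * m) := by
    rw [← gcd_gs q (2 * m) (by omega)]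
    exact Nat.gcd_dvd_left _ _
  have hDpos : 0 < Nat.gcd (2 * m) (q - 1) := Nat.gcd_pos_of_pos_left _ (by omega)
  have hv : padicValNat 2 (2 * m) = padicValNat 2 m + 1 := by
    rw [padicValNat.mul (by norm_num) (by omega), padicValNat.self (by norm_num), add_comm]
  rw [hv, Nat.lt_succ_iff, ← gcd_two_mul_dvd_iff m (q - 1) (by omega) (by omega),
    Nat.dvd_div_iff_mul_dvd hD, gs_two_mul, mul_comm, Nat.mul_dvd_mul_iff_left (by positivity)]
  constructor
  · intro h
    have h1 : Nat.gcd (2 * m) (q - 1) ∣ Nat.gcd (gs q m) (q - 1) :=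
      Nat.dvd_gcd h (Nat.gcd_dvd_right _ _)
    rw [gcd_gs q m (by omega)] at h1
    exact h1.trans (Nat.gcd_dvd_left _ _)
  · intro h
    have h1 : Nat.gcd (2 * m) (q - 1) ∣ Nat.gcd m (q - 1) :=
      Nat.dvd_gcd h (Nat.gcd_dvd_right _ _)
    rw [← gcd_gs q m (by omega)] at h1
    exact h1.trans (Nat.gcd_dvd_left _ _)

end Arith

section Singer

variable {F : Type u} [Field F] [Fintype F]

local notation "q" => Fintype.card F

theorem irreducible_charpoly_of_ppd (p : ℕ) [Fact p.Prime] [CharP F p] {V : Type v}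
    [AddCommGroup V] [Module F V] [Module.Finite F V] (G : End F V) (r : ℕ) (hr : r.Prime)
    (hrp : r ≠ p) (hprim : ∀ k, 0 < k → k < finrank F V → ¬ r ∣ q ^ k - 1) (M : ℕ)
    (h1 : G ^ (M * r) = 1) (h2 : G ^ M ≠ 1) : Irreducible G.charpoly := by
  have hp : p.Prime := Fact.out
  obtain ⟨f, hf, hd, hn⟩ := exists_irreducible_not_dvd G (X ^ M - 1)
    (not_nilpotent_pow_sub_one p G M r ((Nat.coprime_primes hr hp).2 hrp) h1 h2)
  have hμ : minpoly F G ∣ X ^ (M * r) - 1 := by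
    apply minpoly.dvd
    rw [map_sub, map_pow, aeval_X, map_one, h1, sub_self]
  have h3 := dvd_card_pow_sub_one f hf M r hr (hd.trans hμ) hn
  rw [Nat.card_eq_fintype_card] at h3
  have h4 : finrank F V ≤ f.natDegree := by
    by_contra hlt
    push Not at hlt
    exact hprim _ hf.natDegree_pos hlt h3
  have h5 : f ∣ G.charpoly := hd.trans (LinearMap.minpoly_dvd_charpoly G)
  exact (associated_of_dvd_of_natDegree_le h5 G.charpoly_monic.ne_zero
    (by rw [LinearMap.charpoly_natDegree]; exact h4)).irreducible hf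

/-- for an irreducible element of determinant one, the projective order divides
`(q^n-1)/((q-1) gcd(n,q-1))`. -/
theorem pow_eq_smul_of_irreducible {V : Type v} [AddCommGroup V] [Module F V] [Module.Finite F V]
    (G : End F V) (hdet : LinearMap.det G = 1) (hirr : Irreducible G.charpoly) :
    ∃ μ : F, G ^ (gs q (finrank F V) / Nat.gcd (finrank F V) (q - 1)) = μ • 1 := by
  set χ := G.charpoly with hχ
  set n := finrank F V with hn
  have hq1 : 1 ≤ q := Fintype.card_pos
  have : Fact (Irreducible χ) := ⟨hirr⟩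
  have := finite_adjoinRoot χ hirr
  have : Finite (AdjoinRoot χ) := Module.finite_of_finite F
  have hdeg : χ.natDegree = n := LinearMap.charpoly_natDegree G
  set α := AdjoinRoot.root χ with hα
  have hfin : finrank F (AdjoinRoot χ) = n := by
    rw [(AdjoinRoot.powerBasis hirr.ne_zero).finrank, AdjoinRoot.powerBasis_dim, hdeg]
  have hnorm : Algebra.norm F α = 1 := by
    rw [hα, Cfsg.Agent.Lib.Helper45SU.norm_root_eq χ hirr G.charpoly_monic, hdeg]
    exact (LinearMap.det_eq_sign_charpoly_coeff G).symm.trans hdet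
  have h1 : α ^ gs q n = 1 := by
    have := FiniteField.algebraMap_norm_eq_pow_sum (K := F) (L := AdjoinRoot χ) (x := α)
    rw [hnorm, map_one, hfin, Nat.card_eq_fintype_card] at this
    exact this.symm
  have hD : Nat.gcd n (q - 1) ∣ gs q n := by
    rw [← gcd_gs q n hq1]
    exact Nat.gcd_dvd_left _ _
  set β := α ^ (gs q n / Nat.gcd n (q - 1)) with hβ
  have h3 : β ^ (q - 1) = 1 := by
    obtain ⟨e, he⟩ := Nat.gcd_dvd_right n (q - 1)
    have h6 : gs q n / Nat.gcd n (q - 1) * (q - 1) = gs q n * e := by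
      calc gs q n / Nat.gcd n (q - 1) * (q - 1)
          = gs q n / Nat.gcd n (q - 1) * (Nat.gcd n (q - 1) * e) := congrArg _ he
        _ = gs q n * e := by rw [← mul_assoc, Nat.div_mul_cancel hD]
    rw [hβ, ← pow_mul, h6, pow_mul, h1, one_pow]
  obtain ⟨μ, hμ⟩ := Cfsg.Agent.Lib.Helper45SU.mem_range_of_pow_card (F := F) (AdjoinRoot χ) β (by
    conv_lhs => rw [← Nat.sub_add_cancel hq1]
    rw [pow_succ, h3, one_mul])
  refine ⟨μ, ?_⟩
  have h4 : χ ∣ X ^ (gs q n / Nat.gcd n (q - 1)) - C μ := by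
    rw [dvd_iff_root]
    simp only [map_sub, map_pow, aeval_X, aeval_C]
    rw [← hα, ← hβ, hμ, sub_self]
  obtain ⟨R, hR⟩ := h4
  have h5 := congrArg (aeval G) hR
  rw [map_mul, hχ, LinearMap.aeval_self_charpoly, zero_mul, map_sub, map_pow, aeval_X, aeval_C,
    sub_eq_zero] at h5
  rw [h5, Algebra.algebraMap_eq_smul_one]

/-- the Singer element of `PSL_n(q)` -/
theorem exists_singer (p : ℕ) [Fact p.Prime] [CharP F p] (n : ℕ) (hn : 1 ≤ n) :
    ∃ y : Matrix.ProjectiveSpecialLinearGroup (Fin n) F,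
      gs q n / Nat.gcd n (q - 1) ∣ orderOf y := by
  have hq1 : 1 ≤ q := Fintype.card_pos
  have : NeZero n := ⟨by omega⟩
  let K := FiniteField.Extension F p n
  have hfin : finrank F K = n := FiniteField.finrank_extension F p n
  obtain ⟨ν, hν⟩ := exists_ext_element (F := F) p n (gs q n) (by
    rw [Nat.card_eq_fintype_card, ← gs_mul q n hq1]
    exact Dvd.intro_left _ rfl)
  have hν1 : ν ^ gs q n = 1 := by rw [← hν]; exact pow_orderOf_eq_one ν
  have hν0 : ν ≠ 0 := by
    rintro rfl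
    rw [orderOf_zero] at hν
    have := gs_pos q n hn
    omega
  obtain ⟨y, hy⟩ := exists_psl_of_algebra (F := F) (n := n) (A := K) hfin ν (by
    apply (algebraMap F K).injective
    rw [FiniteField.algebraMap_norm_eq_pow_sum, hfin, Nat.card_eq_fintype_card, map_one]
    exact hν1)
  refine ⟨y, ?_⟩
  obtain ⟨c, hc⟩ := (hy _).1 (pow_orderOf_eq_one y)
  set j := orderOf y with hj
  have hc0 : c ≠ 0 := by
    rintro rfl
    rw [map_zero] at hc
    exact pow_ne_zero j hν0 hc
  have f1 : ν ^ ((q - 1) * j) = 1 := by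
    rw [mul_comm, pow_mul, hc, ← map_pow, FiniteField.pow_card_sub_one_eq_one c hc0, map_one]
  have g1 : gs q n ∣ (q - 1) * j := by rw [← hν]; exact orderOf_dvd_of_pow_eq_one f1
  have hD : Nat.gcd n (q - 1) ∣ gs q n := by
    rw [← gcd_gs q n hq1]
    exact Nat.gcd_dvd_left _ _
  rw [Nat.div_dvd_iff_dvd_mul hD (Nat.gcd_pos_of_pos_left _ (by omega)), ← gcd_gs q n hq1,
    ← Nat.gcd_mul_right]
  exact Nat.dvd_gcd (Dvd.intro _ rfl) g1

end Singer

end Cfsg.Agent.Lib.Helper45PSL4
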