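import Mathlib

set_option autoImplicit false

namespace Cfsg.Agent.Lib.Helper77Cyclo

open Polynomial

/-- The value of the `e`-th cyclotomic polynomial at the natural number `q`, as a natural number. -/
noncomputable def Phi (e q : ℕ) : ℕ := ((cyclotomic e ℤ).eval (q : ℤ)).natAbs

theorem eval_pos (e q : ℕ) (hq : 2 ≤ q) : 0 < (cyclotomic e ℤ).eval (q : ℤ) :=
  cyclotomic_pos' e (by exact_mod_cast hq)

theorem Phi_cast (e q : ℕ) (hq : 2 ≤ q) : ((Phi e q : ℕ) : ℤ) = (cyclotomic e ℤ).eval (q : ℤ) := by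
  unfold Phi
  rw [Int.natCast_natAbs, abs_of_pos (eval_pos e q hq)]

theorem Phi_pos (e q : ℕ) (hq : 2 ≤ q) : 0 < Phi e q := by
  have := eval_pos e q hq
  rw [← Phi_cast e q hq] at this
  exact_mod_cast this

theorem Phi_cast_real (e q : ℕ) (hq : 2 ≤ q) : ((Phi e q : ℕ) : ℝ) = (cyclotomic e ℝ).eval (q : ℝ) := by
  have h := cyclotomic.eval_apply (q : ℤ) e (Int.castRingHom ℝ)
  simp only [eq_intCast, Int.cast_natCast] at h
  rw [h, ← Phi_cast e q hq]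
  simp

theorem cast_pow_sub_one (q i : ℕ) (hq : 2 ≤ q) : ((q ^ i - 1 : ℕ) : ℤ) = (q : ℤ) ^ i - 1 := by
  have : 1 ≤ q ^ i := Nat.one_le_pow _ _ (by omega)
  push_cast [Nat.cast_sub this]
  ring

/-- `(q^d - 1) * Φ_e(q)` divides `q^e - 1` for a proper divisor `d` of `e`. -/
theorem mul_Phi_dvd (e q d : ℕ) (hq : 2 ≤ q) (hd : d ∈ e.properDivisors) :
    (q ^ d - 1) * Phi e q ∣ q ^ e - 1 := by
  have h := X_pow_sub_one_mul_cyclotomic_dvd_X_pow_sub_one_of_dvd ℤ hd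
  have h2 := eval_dvd (x := (q : ℤ)) h
  simp only [eval_mul, eval_sub, eval_pow, eval_X, eval_one] at h2
  rw [← Phi_cast e q hq, ← cast_pow_sub_one q d hq, ← cast_pow_sub_one q e hq] at h2
  exact_mod_cast h2

theorem Phi_dvd (e q : ℕ) (hq : 2 ≤ q) : Phi e q ∣ q ^ e - 1 := by
  have h := cyclotomic.dvd_X_pow_sub_one e ℤ
  have h2 := eval_dvd (x := (q : ℤ)) h
  simp only [eval_sub, eval_pow, eval_X, eval_one] at h2
  rw [← Phi_cast e q hq, ← cast_pow_sub_one q e hq] at h2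
  exact_mod_cast h2

theorem dvd_pow_sub_one_iff (s q i : ℕ) (hq : 2 ≤ q) : s ∣ q ^ i - 1 ↔ (q : ZMod s) ^ i = 1 := by
  have : 1 ≤ q ^ i := Nat.one_le_pow _ _ (by omega)
  rw [← ZMod.natCast_eq_zero_iff, Nat.cast_sub this, sub_eq_zero]
  simp

theorem isRoot_of_dvd (e q s : ℕ) (hq : 2 ≤ q) (hs : s ∣ Phi e q) :
    IsRoot (cyclotomic e (ZMod s)) (q : ZMod s) := by
  have h := cyclotomic.eval_apply (q : ℤ) e (Int.castRingHom (ZMod s))
  simp only [eq_intCast, Int.cast_natCast] at h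
  rw [IsRoot.def, h, ← Phi_cast e q hq]
  simpa using (ZMod.natCast_eq_zero_iff _ _).mpr hs

/-- A prime dividing `Φ_e(q)` and some `q^i - 1` with `0 < i < e` divides `e`. -/
theorem prime_dvd_of_dvd_Phi (e q s i : ℕ) (hq : 2 ≤ q) (hs : s.Prime) (h1 : s ∣ Phi e q)
    (hi0 : 0 < i) (hie : i < e) (h2 : s ∣ q ^ i - 1) : s ∣ e := by
  by_contra hne
  have : Fact s.Prime := ⟨hs⟩
  have : NeZero (e : ZMod s) := NeZero.of_not_dvd (ZMod s) hne
  have hroot := isRoot_of_dvd e q s hq h1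
  have hprim : IsPrimitiveRoot (q : ZMod s) e := isRoot_cyclotomic_iff.mp hroot
  have := hprim.dvd_of_pow_eq_one i ((dvd_pow_sub_one_iff s q i hq).mp h2)
  exact absurd (Nat.le_of_dvd hi0 this) (by omega)


theorem not_sq_dvd_odd (e q s : ℕ) (hq : 2 ≤ q) (hs : s.Prime) (hodd : Odd s) (hse : s ∣ e) (he : 0 < e)
    (h1 : s ∣ Phi e q) : ¬ s ^ 2 ∣ Phi e q := by
  intro h2
  have : Fact s.Prime := ⟨hs⟩
  obtain ⟨d, rfl⟩ := hse
  have hd0 : 0 < d := Nat.pos_of_mul_pos_left he |> fun h => by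
    rcases Nat.eq_zero_or_pos d with h0 | h0
    · subst h0; simp at he
    · exact h0
  set x := q ^ d with hx
  have hx2 : 2 ≤ x := by
    calc 2 ≤ q := hq
      _ = q ^ 1 := (pow_one q).symm
      _ ≤ q ^ d := Nat.pow_le_pow_right (by omega) hd0
  have hxs : x ^ s = q ^ (s * d) := by rw [hx, ← pow_mul, mul_comm]
  have hdprop : d ∈ (s * d).properDivisors := by
    rw [Nat.mem_properDivisors]
    refine ⟨Dvd.intro_left s rfl, ?_⟩
    have := hs.two_le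
    nlinarith
  have hdvd := mul_Phi_dvd (s * d) q d hq hdprop
  rw [← hxs, ← hx] at hdvd
  -- s ∣ x - 1
  have hsx : s ∣ x - 1 := by
    have h3 : s ∣ q ^ (s * d) - 1 := h1.trans (Phi_dvd _ q hq)
    rw [dvd_pow_sub_one_iff s q _ hq] at h3
    have h4 : ((x : ℕ) : ZMod s) = 1 := by
      have : ((x : ℕ) : ZMod s) ^ s = 1 := by
        rw [← Nat.cast_pow, hxs]; simpa using h3
      rwa [ZMod.pow_card] at this
    have h5 : ((x - 1 : ℕ) : ZMod s) = 0 := by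
      rw [Nat.cast_sub (by omega), h4]; simp
    exact (ZMod.natCast_eq_zero_iff _ _).mp h5
  have hsx' : ¬ s ∣ x := by
    intro h
    have : s ∣ 1 := by
      have := (Nat.dvd_sub_iff_right (by omega : 1 ≤ x) h).mp hsx
      exact this
    exact hs.one_lt.ne' (Nat.dvd_one.mp this)
  have hlte := padicValNat.pow_sub_pow hodd (show 1 < x by omega) hsx hsx' (n := s) hs.ne_zero
  rw [one_pow, padicValNat_self] at hlte
  have hx10 : x - 1 ≠ 0 := by omega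
  have hv : s ^ padicValNat s (x - 1) ∣ x - 1 := (padicValNat_dvd_iff_le hx10).mpr le_rfl
  have hbig : s ^ (padicValNat s (x - 1) + 2) ∣ x ^ s - 1 := by
    rw [pow_add]
    exact (mul_dvd_mul hv h2).trans hdvd
  have hne : x ^ s - 1 ≠ 0 := by
    have : 2 ^ 1 ≤ x ^ s := by
      calc 2 ^ 1 ≤ x ^ 1 := by simpa using hx2
        _ ≤ x ^ s := Nat.pow_le_pow_right (by omega) hs.one_lt.le
    omega
  have := (padicValNat_dvd_iff_le hne).mp hbig
  omega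


theorem nat_geom_sum_mul (y d : ℕ) (hy : 1 ≤ y) : (∑ i ∈ Finset.range d, y ^ i) * (y - 1) = y ^ d - 1 := by
  have h := geom_sum_mul (y : ℤ) d
  have h2 : 1 ≤ y ^ d := Nat.one_le_pow _ _ hy
  zify [hy, h2]
  exact h

theorem not_four_dvd (e q : ℕ) (hq : 2 ≤ q) (he : 3 ≤ e) (h2e : 2 ∣ e) (h1 : 2 ∣ Phi e q) :
    ¬ 2 ^ 2 ∣ Phi e q := by
  intro h4
  have hqodd : Odd q := by
    have h3 : 2 ∣ q ^ e - 1 := h1.trans (Phi_dvd _ q hq)
    have h5 : 1 ≤ q ^ e := Nat.one_le_pow _ _ (by omega)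
    have : Odd (q ^ e) := by
      rw [Nat.odd_iff]; omega
    exact (Nat.odd_pow_iff (by omega : e ≠ 0)).mp this
  obtain ⟨d, rfl⟩ := h2e
  rcases Nat.even_or_odd d with hd | hd
  · -- 4 ∣ e
    obtain ⟨k, rfl⟩ := hd
    have hk : 0 < k := by omega
    set y := q ^ k with hy
    have hyodd : Odd y := hqodd.pow
    have hx : q ^ (k + k) = y ^ 2 := by rw [hy, ← pow_mul]; congr 1; omega
    have hxx : q ^ (2 * (k + k)) = (y ^ 2) ^ 2 := by rw [← hx, ← pow_mul]; congr 1; omega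
    have hprop : (k + k) ∈ (2 * (k + k)).properDivisors := by
      rw [Nat.mem_properDivisors]
      exact ⟨Dvd.intro_left 2 rfl, by omega⟩
    have hdvd := mul_Phi_dvd (2 * (k + k)) q (k + k) hq hprop
    rw [hx, hxx] at hdvd
    have hy2 : 2 ≤ y := by
      calc 2 ≤ q := hq
        _ = q ^ 1 := (pow_one q).symm
        _ ≤ q ^ k := Nat.pow_le_pow_right (by omega) hk
    have hy4 : 4 ≤ y ^ 2 := by nlinarith
    have hfac : (y ^ 2) ^ 2 - 1 = (y ^ 2 - 1) * (y ^ 2 + 1) := by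
      have : (y ^ 2) ^ 2 = (y ^ 2 - 1) * (y ^ 2 + 1) + 1 := by
        obtain ⟨z, hz⟩ : ∃ z, y ^ 2 = z + 1 := ⟨y ^ 2 - 1, by omega⟩
        rw [hz]; simp; ring
      omega
    rw [hfac] at hdvd
    have hdvd2 : Phi (2 * (k + k)) q ∣ y ^ 2 + 1 := Nat.dvd_of_mul_dvd_mul_left (by omega) hdvd
    have h8 := Nat.eight_dvd_sq_sub_one_of_odd hyodd
    have h4' : 4 ∣ y ^ 2 + 1 := (by simpa using h4 : 4 ∣ Phi (2 * (k + k)) q).trans hdvd2
    omega
  · -- e = 2 d with d odd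
    have hd3 : 3 ≤ d := by
      obtain ⟨j, rfl⟩ := hd
      omega
    have hprop : 2 ∈ (2 * d).properDivisors := by
      rw [Nat.mem_properDivisors]
      exact ⟨Dvd.intro d rfl, by omega⟩
    have hdvd := mul_Phi_dvd (2 * d) q 2 hq hprop
    have hq2 : 4 ≤ q ^ 2 := by nlinarith
    rw [pow_mul, ← nat_geom_sum_mul (q ^ 2) d (by omega), mul_comm] at hdvd
    have hdvd2 : Phi (2 * d) q ∣ ∑ i ∈ Finset.range d, (q ^ 2) ^ i :=
      Nat.dvd_of_mul_dvd_mul_right (by omega) hdvd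
    have hGodd : Odd (∑ i ∈ Finset.range d, (q ^ 2) ^ i) := by
      rw [Finset.odd_sum_iff_odd_card_odd]
      have : Finset.filter (fun x => Odd ((q ^ 2) ^ x)) (Finset.range d) = Finset.range d := by
        apply Finset.filter_true_of_mem
        intro i _
        exact (hqodd.pow).pow
      rw [this, Finset.card_range]
      exact hd
    have : 2 ∣ ∑ i ∈ Finset.range d, (q ^ 2) ^ i := h1.trans hdvd2
    rw [Nat.odd_iff] at hGodd
    omega

theorem not_sq_dvd (e q s : ℕ) (hq : 2 ≤ q) (he : 3 ≤ e) (hs : s.Prime) (hse : s ∣ e)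
    (h1 : s ∣ Phi e q) : ¬ s ^ 2 ∣ Phi e q := by
  rcases hs.eq_two_or_odd' with rfl | hodd
  · exact not_four_dvd e q hq he hse h1
  · exact not_sq_dvd_odd e q s hq hs hodd hse (by omega) h1

/-- The primitive part candidate. -/
noncomputable def prim (e q : ℕ) : ℕ := Phi e q / Nat.gcd (Phi e q) e

theorem prim_mul_gcd (e q : ℕ) : prim e q * Nat.gcd (Phi e q) e = Phi e q :=
  Nat.div_mul_cancel (Nat.gcd_dvd_left _ _)

theorem prim_dvd_Phi (e q : ℕ) : prim e q ∣ Phi e q := Dvd.intro _ (prim_mul_gcd e q)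

theorem prim_dvd (e q : ℕ) (hq : 2 ≤ q) : prim e q ∣ q ^ e - 1 :=
  (prim_dvd_Phi e q).trans (Phi_dvd e q hq)

theorem prim_coprime (e q : ℕ) (hq : 2 ≤ q) (he : 3 ≤ e) (i : ℕ) (hi : 1 ≤ i) (hie : i < e) :
    Nat.Coprime (prim e q) (q ^ i - 1) := by
  by_contra hnc
  obtain ⟨s, hs, hs1, hs2⟩ := Nat.Prime.not_coprime_iff_dvd.mp hnc
  have hsPhi : s ∣ Phi e q := hs1.trans (prim_dvd_Phi e q)
  have hse : s ∣ e := prime_dvd_of_dvd_Phi e q s i hq hs hsPhi hi hie hs2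
  have hsg : s ∣ Nat.gcd (Phi e q) e := Nat.dvd_gcd hsPhi hse
  apply not_sq_dvd e q s hq he hs hse hsPhi
  rw [← prim_mul_gcd e q, pow_two]
  exact mul_dvd_mul hs1 hsg

theorem Phi_le_prim_mul (e q : ℕ) (he : 0 < e) : Phi e q ≤ prim e q * e := by
  conv_lhs => rw [← prim_mul_gcd e q]
  exact Nat.mul_le_mul_left _ (Nat.gcd_le_right _ he)

/-- If `Φ_e(q) ≥ e (3e+1)` there is a primitive divisor `≥ 3e+1`. -/
theorem le_prim (e q : ℕ) (he : 0 < e) (c : ℕ) (h : c * e ≤ Phi e q) : c ≤ prim e q :=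
  Nat.le_of_mul_le_mul_right (h.trans (Phi_le_prim_mul e q he)) he


theorem two_case_dvd (n p : ℕ) (hp : p.Prime) (hpn : p ∣ n) :
    (2 : ℝ) ^ Nat.totient (n * p) ≤ ((cyclotomic (n * p) ℝ).eval 2) ^ 2 := by
  have h1 := cyclotomic_expand_eq_cyclotomic hp hpn ℝ
  have h2 : (cyclotomic (n * p) ℝ).eval 2 = (cyclotomic n ℝ).eval (2 ^ p) := by
    rw [← h1, expand_eval]
  have hu : (4 : ℝ) ≤ 2 ^ p := by
    calc (4 : ℝ) = 2 ^ 2 := by norm_num
      _ ≤ 2 ^ p := pow_le_pow_right₀ (by norm_num) hp.two_le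
  have h3 := sub_one_pow_totient_le_cyclotomic_eval (q := (2 : ℝ) ^ p) (by linarith) n
  rw [h2, mul_comm n p, Nat.totient_mul_of_prime_of_dvd hp hpn, pow_mul]
  have h4 : (2 : ℝ) ^ p ≤ ((2 : ℝ) ^ p - 1) ^ 2 := by nlinarith
  calc ((2 : ℝ) ^ p) ^ Nat.totient n ≤ (((2 : ℝ) ^ p - 1) ^ 2) ^ Nat.totient n :=
        pow_le_pow_left₀ (by positivity) h4 _
    _ = (((2 : ℝ) ^ p - 1) ^ Nat.totient n) ^ 2 := by rw [← pow_mul, ← pow_mul, mul_comm]
    _ ≤ _ := pow_le_pow_left₀ (pow_nonneg (by linarith) _) h3 2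

theorem two_case_not_dvd (n p : ℕ) (hp : p.Prime) (hp3 : 3 ≤ p) (hpn : ¬ p ∣ n) :
    (2 : ℝ) ^ Nat.totient (n * p) ≤ ((cyclotomic (n * p) ℝ).eval 2) ^ 2 := by
  have h1 := cyclotomic_expand_eq_cyclotomic_mul hp hpn ℝ
  have h2 : (cyclotomic (n * p) ℝ).eval 2 * (cyclotomic n ℝ).eval 2 = (cyclotomic n ℝ).eval (2 ^ p) := by
    rw [← eval_mul, ← h1, expand_eval]
  obtain ⟨k, rfl⟩ : ∃ k, p = k + 1 := ⟨p - 1, by omega⟩
  have hu : (4 : ℝ) ≤ 2 ^ k := by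
    calc (4 : ℝ) = 2 ^ 2 := by norm_num
      _ ≤ 2 ^ k := pow_le_pow_right₀ (by norm_num) (by omega)
  have h3 := sub_one_pow_totient_le_cyclotomic_eval (q := (2 : ℝ) ^ (k + 1)) (by rw [pow_succ]; linarith) n
  have h5 := cyclotomic_eval_le_add_one_pow_totient (q := (2 : ℝ)) (by norm_num) n
  have h6 : 0 < (cyclotomic n ℝ).eval 2 := cyclotomic_pos' n (by norm_num)
  have h7 : 0 < (cyclotomic (n * (k + 1)) ℝ).eval 2 := cyclotomic_pos' _ (by norm_num)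
  set Φ := (cyclotomic (n * (k + 1)) ℝ).eval 2 with hΦ
  set t := Nat.totient n with ht
  rw [mul_comm n (k + 1), Nat.totient_mul_of_prime_of_not_dvd hp hpn, Nat.add_sub_cancel, pow_mul]
  have h8 : ((2 : ℝ) ^ (k + 1) - 1) ^ t ≤ Φ * 3 ^ t := by
    calc ((2 : ℝ) ^ (k + 1) - 1) ^ t ≤ _ := h3
      _ = Φ * (cyclotomic n ℝ).eval 2 := h2.symm
      _ ≤ Φ * 3 ^ t := by
        apply mul_le_mul_of_nonneg_left _ h7.le
        have : (2 : ℝ) + 1 = 3 := by norm_num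
        rwa [this] at h5
  have h9 : 9 * (2 : ℝ) ^ k ≤ ((2 : ℝ) ^ (k + 1) - 1) ^ 2 := by
    have h2k : (2 : ℝ) ^ (k + 1) = 2 * 2 ^ k := by ring
    rw [h2k]; nlinarith
  have h10 : (9 : ℝ) ^ t * ((2 : ℝ) ^ k) ^ t ≤ 9 ^ t * Φ ^ 2 := by
    calc (9 : ℝ) ^ t * ((2 : ℝ) ^ k) ^ t = (9 * (2 : ℝ) ^ k) ^ t := by rw [mul_pow]
      _ ≤ (((2 : ℝ) ^ (k + 1) - 1) ^ 2) ^ t := pow_le_pow_left₀ (by positivity) h9 _
      _ = (((2 : ℝ) ^ (k + 1) - 1) ^ t) ^ 2 := by rw [← pow_mul, ← pow_mul, mul_comm]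
      _ ≤ (Φ * 3 ^ t) ^ 2 := pow_le_pow_left₀ (pow_nonneg (by rw [pow_succ]; linarith) _) h8 2
      _ = 9 ^ t * Φ ^ 2 := by
        rw [mul_pow, ← pow_mul, mul_comm t 2, pow_mul]; norm_num; ring
  exact le_of_mul_le_mul_left h10 (by positivity)

theorem two_pow_totient_le_sq (e q : ℕ) (hq : 2 ≤ q) (he : 3 ≤ e) : 2 ^ Nat.totient e ≤ (Phi e q) ^ 2 := by
  rcases Nat.lt_or_ge 2 q with hq3 | hq2
  · have h := sub_one_pow_totient_lt_natAbs_cyclotomic_eval (n := e) (q := q) (by omega) (by omega)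
    have h1 : 2 ^ Nat.totient e ≤ (q - 1) ^ Nat.totient e := Nat.pow_le_pow_left (by omega) _
    have h2 : (q - 1) ^ Nat.totient e < Phi e q := h
    have h3 : 0 < Phi e q := Phi_pos e q hq
    nlinarith
  · have hq' : q = 2 := by omega
    subst hq'
    have key : (2 : ℝ) ^ Nat.totient e ≤ ((cyclotomic e ℝ).eval 2) ^ 2 := by
      rcases Nat.eq_two_pow_or_exists_odd_prime_and_dvd e with ⟨k, rfl⟩ | ⟨p, hp, hpe, hodd⟩
      · obtain ⟨j, rfl⟩ : ∃ j, k = j + 2 := ⟨k - 2, by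
          rcases k with _ | _ | k
          · simp at he
          · simp at he
          · omega⟩
        have : 2 ^ (j + 2) = 2 ^ (j + 1) * 2 := by ring
        rw [this]
        exact two_case_dvd _ 2 Nat.prime_two (Dvd.intro_left (2 ^ j) rfl)
      · obtain ⟨n, rfl⟩ := hpe
        rw [mul_comm p n]
        by_cases hpn : p ∣ n
        · exact two_case_dvd n p hp hpn
        · refine two_case_not_dvd n p hp ?_ hpn
          have := hp.two_le
          rcases hodd with ⟨j, hj⟩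
          omega
    have h := Phi_cast_real e 2 le_rfl
    have h' : ((Phi e 2 : ℕ) : ℝ) = (cyclotomic e ℝ).eval 2 := by simpa using h
    rw [← h'] at key
    exact_mod_cast key


theorem totient_cube_coprime_six (m : ℕ) : Nat.Coprime m 6 → m ^ 2 ≤ (Nat.totient m) ^ 3 := by
  induction m using Nat.recOnPosPrimePosCoprime with
  | prime_pow p k hp hk =>
    intro hc
    have hp2 : p ≠ 2 := by
      rintro rfl
      have : Nat.Coprime 2 6 := Nat.Coprime.coprime_dvd_left (dvd_pow_self 2 hk.ne') hc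
      norm_num at this
    have hp3 : p ≠ 3 := by
      rintro rfl
      have : Nat.Coprime 3 6 := Nat.Coprime.coprime_dvd_left (dvd_pow_self 3 hk.ne') hc
      norm_num at this
    have hp4 : p ≠ 4 := by
      rintro rfl
      norm_num at hp
    have hp5 : 5 ≤ p := by
      have := hp.two_le
      omega
    obtain ⟨j, rfl⟩ : ∃ j, k = j + 1 := ⟨k - 1, by omega⟩
    rw [Nat.totient_prime_pow_succ hp]
    obtain ⟨r, rfl⟩ : ∃ r, p = r + 1 := ⟨p - 1, by omega⟩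
    have hr : 4 ≤ r := by omega
    have h1 : (r + 1) ^ 2 ≤ r ^ 3 := by nlinarith [mul_pos (show 0 < r by omega) (show 0 < r by omega)]
    have h2 : ((r + 1) ^ j) ^ 2 ≤ ((r + 1) ^ j) ^ 3 := Nat.pow_le_pow_right (Nat.pow_pos (by omega)) (by norm_num)
    calc ((r + 1) ^ (j + 1)) ^ 2 = ((r + 1) ^ j) ^ 2 * (r + 1) ^ 2 := by ring
      _ ≤ ((r + 1) ^ j) ^ 3 * r ^ 3 := Nat.mul_le_mul h2 h1
      _ = ((r + 1) ^ j * (r + 1 - 1)) ^ 3 := by rw [Nat.add_sub_cancel]; ring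
  | zero => intro h; norm_num at h
  | one => intro _; simp
  | coprime a b _ _ hab iha ihb =>
    intro hc
    rw [Nat.coprime_mul_iff_left] at hc
    rw [Nat.totient_mul hab, mul_pow, mul_pow]
    exact Nat.mul_le_mul (iha hc.1) (ihb hc.2)

theorem totient_cube_two (a : ℕ) : (2 ^ a) ^ 2 ≤ 4 * (Nat.totient (2 ^ a)) ^ 3 := by
  rcases a with _ | j
  · simp
  · rw [Nat.totient_prime_pow_succ Nat.prime_two]
    have h2 : (2 ^ j) ^ 2 ≤ (2 ^ j) ^ 3 := Nat.pow_le_pow_right (Nat.pow_pos (by omega)) (by norm_num)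
    calc (2 ^ (j + 1)) ^ 2 = 4 * (2 ^ j) ^ 2 := by ring
      _ ≤ 4 * (2 ^ j) ^ 3 := Nat.mul_le_mul_left _ h2
      _ = 4 * (2 ^ j * (2 - 1)) ^ 3 := by norm_num

theorem totient_cube_three (b : ℕ) : 8 * (3 ^ b) ^ 2 ≤ 9 * (Nat.totient (3 ^ b)) ^ 3 := by
  rcases b with _ | j
  · simp
  · rw [Nat.totient_prime_pow_succ Nat.prime_three]
    have h2 : (3 ^ j) ^ 2 ≤ (3 ^ j) ^ 3 := Nat.pow_le_pow_right (Nat.pow_pos (by omega)) (by norm_num)
    calc 8 * (3 ^ (j + 1)) ^ 2 = 72 * (3 ^ j) ^ 2 := by ring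
      _ ≤ 72 * (3 ^ j) ^ 3 := Nat.mul_le_mul_left _ h2
      _ = 9 * (3 ^ j * (3 - 1)) ^ 3 := by norm_num; ring

/-- A lower bound for Euler's totient function: `2 n² ≤ 9 φ(n)³`. -/
theorem totient_cube (n : ℕ) : 2 * n ^ 2 ≤ 9 * (Nat.totient n) ^ 3 := by
  rcases Nat.eq_zero_or_pos n with rfl | hn
  · simp
  obtain ⟨a, n1, hn1, rfl⟩ := Nat.exists_eq_two_pow_mul_odd hn.ne'
  have hn10 : n1 ≠ 0 := by rintro rfl; simp at hn
  obtain ⟨b, m, hm3, rfl⟩ := Nat.exists_eq_pow_mul_and_not_dvd hn10 3 (by norm_num)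
  have hmodd : Odd m := Nat.Odd.of_mul_right hn1
  have hm2 : Nat.Coprime m 2 := Nat.Coprime.symm (Nat.coprime_two_left.mpr hmodd)
  have hm3' : Nat.Coprime m 3 := Nat.Coprime.symm ((Nat.Prime.coprime_iff_not_dvd Nat.prime_three).mpr hm3)
  have hm6 : Nat.Coprime m 6 := by
    have : (6 : ℕ) = 2 * 3 := by norm_num
    rw [this]; exact Nat.Coprime.mul_right hm2 hm3'
  have hc1 : Nat.Coprime (2 ^ a) (3 ^ b * m) := by
    apply Nat.Coprime.pow_left
    exact Nat.coprime_two_left.mpr hn1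
  have hc2 : Nat.Coprime (3 ^ b) m := Nat.Coprime.pow_left _ hm3'.symm
  rw [Nat.totient_mul hc1, Nat.totient_mul hc2]
  have hA := totient_cube_coprime_six m hm6
  have hB := totient_cube_two a
  have hC := totient_cube_three b
  have h := Nat.mul_le_mul (Nat.mul_le_mul hB hC) hA
  have e1 : (2 ^ a) ^ 2 * (8 * (3 ^ b) ^ 2) * m ^ 2 = 4 * (2 * (2 ^ a * (3 ^ b * m)) ^ 2) := by ring
  have e2 : 4 * Nat.totient (2 ^ a) ^ 3 * (9 * Nat.totient (3 ^ b) ^ 3) * Nat.totient m ^ 3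
      = 4 * (9 * (Nat.totient (2 ^ a) * (Nat.totient (3 ^ b) * Nat.totient m)) ^ 3) := by ring
  rw [e1, e2] at h
  exact Nat.le_of_mul_le_mul_left h (by norm_num)

theorem pow_six_le (t : ℕ) (ht : 40 ≤ t) : 256 * t ^ 6 ≤ 2 ^ t := by
  induction t, ht using Nat.le_induction with
  | base => norm_num
  | succ t ht ih =>
    have h1 : 40 * (t + 1) ≤ 41 * t := by omega
    have h2 := Nat.pow_le_pow_left h1 6
    rw [mul_pow, mul_pow] at h2
    have h3 : (t + 1) ^ 6 ≤ 2 * t ^ 6 := by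
      have : (40 : ℕ) ^ 6 * (t + 1) ^ 6 ≤ 40 ^ 6 * (2 * t ^ 6) := by
        calc (40 : ℕ) ^ 6 * (t + 1) ^ 6 ≤ 41 ^ 6 * t ^ 6 := h2
          _ ≤ (40 ^ 6 * 2) * t ^ 6 := Nat.mul_le_mul_right _ (by norm_num)
          _ = 40 ^ 6 * (2 * t ^ 6) := by ring
      exact Nat.le_of_mul_le_mul_left this (by norm_num)
    calc 256 * (t + 1) ^ 6 ≤ 256 * (2 * t ^ 6) := Nat.mul_le_mul_left _ h3
      _ = 2 * (256 * t ^ 6) := by ring
      _ ≤ 2 * 2 ^ t := Nat.mul_le_mul_left _ ih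
      _ = 2 ^ (t + 1) := by ring


/-! ### Finite checks -/

/-- The exponents `e` for which `2 ^ φ(e) < (3e²+e)²`, each with a threshold `t` such that
`(t-1)^φ(e) ≥ 3e²+e`. -/
def badThr : List (ℕ × ℕ) := [(3, 7), (4, 9), (5, 4), (6, 12), (7, 4), (8, 5), (9, 4), (10, 6), (11, 3), (12, 6), (13, 3), (14, 4), (15, 4), (16, 4), (17, 3), (18, 5), (19, 3), (20, 4), (21, 3), (22, 4), (24, 4), (25, 3), (26, 3), (27, 3), (28, 3), (30, 4), (32, 3), (33, 3), (34, 3), (36, 3), (38, 3), (39, 3), (40, 3), (42, 4), (44, 3), (45, 3), (46, 3), (48, 3), (50, 3), (52, 3), (54, 3), (56, 3), (60, 3), (66, 3), (70, 3), (72, 3), (78, 3), (84, 3), (90, 3)]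

/-- The thirteen exceptional pairs `(q, e)`. -/
def exc : List (ℕ × ℕ) := [(2, 6), (2, 4), (2, 10), (2, 12), (2, 18), (3, 4), (3, 6), (5, 6), (2, 3), (2, 8), (2, 20), (4, 3), (4, 6)]

/-- Explicit primitive parts `(q, e, m)` for the small cases. -/
def table : List (ℕ × ℕ × ℕ) := [(3, 3, 13), (5, 3, 31), (6, 3, 43), (4, 4, 17), (5, 4, 13), (6, 4, 37), (7, 4, 25), (8, 4, 65), (2, 5, 31), (3, 5, 121), (6, 6, 31), (7, 6, 43), (8, 6, 19), (9, 6, 73), (10, 6, 91), (11, 6, 37), (2, 7, 127), (3, 7, 1093), (3, 8, 41), (4, 8, 257), (2, 9, 73), (3, 9, 757), (3, 10, 61), (4, 10, 41), (5, 10, 521), (2, 11, 2047), (3, 12, 73), (4, 12, 241), (5, 12, 601), (2, 13, 8191), (2, 14, 43), (3, 14, 547), (2, 15, 151), (3, 15, 4561), (2, 16, 257), (3, 16, 3281), (2, 17, 131071), (3, 18, 703), (4, 18, 4033), (2, 19, 524287), (3, 20, 1181), (2, 21, 337), (2, 22, 683), (3, 22, 44287), (2, 24, 241), (3, 24, 6481), (2,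 25, 1082401), (2, 26, 2731), (2, 27, 262657), (2, 28, 3277), (2, 30, 331), (3, 30, 8401), (2, 32, 65537), (2, 33, 599479), (2, 34, 43691), (2, 36, 4033), (2, 38, 174763), (2, 39, 9588151), (2, 40, 61681), (2, 42, 5419), (3, 42, 97567), (2, 44, 838861), (2, 45, 14709241), (2, 46, 2796203), (2, 48, 65281), (2, 50, 1016801), (2, 52, 13421773), (2, 54, 87211), (2, 56, 15790321), (2, 60, 80581), (2, 66, 1397419), (2, 70, 24214051), (2, 72, 16773121), (2, 78, 22366891), (2, 84, 20647621), (2, 90, 18837001)]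

/-- `m` is a divisor of `q^e - 1` coprime to all `q^i - 1`, `1 ≤ i < e`. -/
def IsPrimDiv (q e m : ℕ) : Prop := m ∣ q ^ e - 1 ∧ ∀ i < e, 1 ≤ i → Nat.Coprime m (q ^ i - 1)

instance (q e m : ℕ) : Decidable (IsPrimDiv q e m) := by unfold IsPrimDiv; infer_instance

theorem check1 : ∀ e < 517, 3 ≤ e → (3 * e ^ 2 + e) ^ 2 ≤ 2 ^ Nat.totient e ∨ ∃ p ∈ badThr, p.1 = e := by
  decide +kernel

theorem check2 : ∀ p ∈ badThr, 3 ≤ p.2 ∧ 3 * p.1 ^ 2 + p.1 ≤ (p.2 - 1) ^ Nat.totient p.1 := by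
  decide +kernel

theorem check3 : ∀ p ∈ badThr, ∀ q < p.2, 2 ≤ q → (q, p.1) ∈ exc ∨ ∃ t ∈ table, t.1 = q ∧ t.2.1 = p.1 := by
  decide +kernel

theorem check4 : ∀ t ∈ table, IsPrimDiv t.1 t.2.1 t.2.2 ∧ 3 * t.2.1 + 1 ≤ t.2.2 := by
  decide +kernel

theorem lt_of_not_good (e : ℕ) (he : 3 ≤ e) (h : ¬ (3 * e ^ 2 + e) ^ 2 ≤ 2 ^ Nat.totient e) : e < 517 := by
  by_contra hge
  have hge' : 517 ≤ e := by omega
  have hc := totient_cube e
  set t := Nat.totient e with ht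
  rcases Nat.lt_or_ge t 40 with hlt | hge40
  · have h1 : t ^ 3 ≤ 39 ^ 3 := Nat.pow_le_pow_left (by omega) 3
    have h2 : 517 ^ 2 ≤ e ^ 2 := Nat.pow_le_pow_left hge' 2
    omega
  · apply h
    have h1 : 3 * e ≤ e ^ 2 := by nlinarith
    have h2 : 3 * e ^ 2 + e ≤ 16 * t ^ 3 := by omega
    calc (3 * e ^ 2 + e) ^ 2 ≤ (16 * t ^ 3) ^ 2 := Nat.pow_le_pow_left h2 2
      _ = 256 * t ^ 6 := by ring
      _ ≤ 2 ^ t := pow_six_le t hge40

theorem isPrimDiv_prim (e q : ℕ) (hq : 2 ≤ q) (he : 3 ≤ e) : IsPrimDiv q e (prim e q) :=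
  ⟨prim_dvd e q hq, fun i hie hi => prim_coprime e q hq he i hi hie⟩

/-- For all `q ≥ 2`, `e ≥ 3` outside thirteen pairs, `q^e - 1` has a divisor `m ≥ 3e+1` coprime to
all `q^i - 1`, `1 ≤ i < e`. -/
theorem exists_large_primitive (q e : ℕ) (hq : 2 ≤ q) (he : 3 ≤ e) (hne : (q, e) ∉ exc) :
    ∃ m, IsPrimDiv q e m ∧ 3 * e + 1 ≤ m := by
  have fin : 3 * e ^ 2 + e ≤ Phi e q → ∃ m, IsPrimDiv q e m ∧ 3 * e + 1 ≤ m := by
    intro h
    refine ⟨prim e q, isPrimDiv_prim e q hq he, le_prim e q (by omega) _ ?_⟩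
    calc (3 * e + 1) * e = 3 * e ^ 2 + e := by ring
      _ ≤ _ := h
  by_cases hgood : (3 * e ^ 2 + e) ^ 2 ≤ 2 ^ Nat.totient e
  · apply fin
    have h := hgood.trans (two_pow_totient_le_sq e q hq he)
    exact (Nat.pow_le_pow_iff_left (by norm_num)).mp h
  · have hlt := lt_of_not_good e he hgood
    rcases check1 e hlt he with h | ⟨p, hp, rfl⟩
    · exact absurd h hgood
    · obtain ⟨h3, hthr⟩ := check2 p hp
      rcases Nat.lt_or_ge q p.2 with hq2 | hq2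
      · rcases check3 p hp q hq2 hq with h | ⟨t, ht, rfl, ht2⟩
        · exact absurd h hne
        · obtain ⟨h4, h5⟩ := check4 t ht
          rw [ht2] at h4 h5
          exact ⟨t.2.2, h4, h5⟩
      · apply fin
        have h := sub_one_pow_totient_lt_natAbs_cyclotomic_eval (n := p.1) (q := q) (by omega) (by omega)
        have h1 : (p.2 - 1) ^ Nat.totient p.1 ≤ (q - 1) ^ Nat.totient p.1 := Nat.pow_le_pow_left (by omega) _
        have h2 : (q - 1) ^ Nat.totient p.1 < Phi p.1 q := h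
        omega

end Cfsg.Agent.Lib.Helper77Cyclo
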