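import Mathlib
import Cfsg.Agent.Lib.Helper45PSL4
import Cfsg.Agent.Lib.Helper45Dual2
import Cfsg.Agent.S2904

set_option autoImplicit false

namespace Cfsg.Agent.Lib.Helper45PSUHalf

open Module Polynomial Cfsg.Agent.Lib.Helper45PSL4 Cfsg.Agent.Lib.Helper45Form

  Cfsg.Agent.Lib.Helper45Semisimple Cfsg.Agent.Lib.Helper45PSL Cfsg.Agent.Lib.Helper45Dual
  Cfsg.Agent.Lib.Helper45Dual2 Cfsg.Agent.Lib.Helper45SU Cfsg.Agent.Lib.Helper45ProjOrder

universe u v w

section Arith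

/-- `(q^(2m) - 1)/(q+1)` -/
def SS (q m : ℕ) : ℕ := gs (q ^ 2) m * (q - 1)

theorem sq_sub_one'' (q : ℕ) : q ^ 2 - 1 = (q + 1) * (q - 1) := by
  rw [← Nat.sq_sub_sq, one_pow]

theorem SS_mul (q m : ℕ) (hq : 1 ≤ q) : (q + 1) * SS q m = q ^ (2 * m) - 1 := by
  rw [SS, mul_comm (gs (q ^ 2) m), ← mul_assoc, ← sq_sub_one'', gs_mul (q ^ 2) m
    (Nat.one_le_pow _ _ hq), ← pow_mul]

theorem gs_sq_modEq (q m : ℕ) (hq : 1 ≤ q) : gs (q ^ 2) m ≡ m [MOD (q + 1)] :=
  (gs_modEq (q ^ 2) m (Nat.one_le_pow _ _ hq)).of_dvd (by rw [sq_sub_one'']; exact Dvd.intro _ rfl)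

theorem dvd_SS_add (q m : ℕ) (hq : 1 ≤ q) : q + 1 ∣ SS q m + 2 * m := by
  have h1 : SS q m + 2 * m ≡ m * (q - 1) + 2 * m [MOD (q + 1)] :=
    ((gs_sq_modEq q m hq).mul_right (q - 1)).add_right _
  have h2 : m * (q - 1) + 2 * m = (q + 1) * m := by
    obtain ⟨t, rfl⟩ : ∃ t, q = t + 1 := ⟨q - 1, by omega⟩
    rw [Nat.add_sub_cancel]
    ring
  rw [h2] at h1
  exact (Nat.modEq_zero_iff_dvd.1 (h1.trans (Nat.modEq_zero_iff_dvd.2 (Dvd.intro _ rfl))))

theorem gcd_eq_of_dvd_add (a b t : ℕ) (h : t ∣ a + b) : Nat.gcd a t = Nat.gcd b t := by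
  apply Nat.dvd_antisymm
  · apply Nat.dvd_gcd _ (Nat.gcd_dvd_right _ _)
    exact (Nat.dvd_add_right (Nat.gcd_dvd_left a t)).1 ((Nat.gcd_dvd_right a t).trans h)
  · apply Nat.dvd_gcd _ (Nat.gcd_dvd_right _ _)
    exact (Nat.dvd_add_left (Nat.gcd_dvd_left b t)).1 ((Nat.gcd_dvd_right b t).trans h)

theorem gcd_SS (q m : ℕ) (hq : 1 ≤ q) : Nat.gcd (SS q m) (q + 1) = Nat.gcd (2 * m) (q + 1) :=
  gcd_eq_of_dvd_add _ _ _ (dvd_SS_add q m hq)

/-- the number `q^m + (-1)^m` -/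
def NN (q m : ℕ) : ℕ := if Even m then q ^ m + 1 else q ^ m - 1

theorem exists_cofactor (q m : ℕ) (hq : 2 ≤ q) :
    ∃ T, SS q m = NN q m * T ∧ Nat.gcd T (q + 1) = Nat.gcd m (q + 1) := by
  rcases Nat.even_or_odd' m with ⟨k, rfl | rfl⟩
  · refine ⟨SS q k, ?_, gcd_SS q k (by omega)⟩
    rw [NN, if_pos (even_two_mul k), SS, SS, gs_two_mul, ← pow_mul, mul_assoc]
  · have hodd : ¬ Even (2 * k + 1) := by simp
    refine ⟨1 + (q - 1) * q * gs (q ^ 2) k, ?_, ?_⟩
    · rw [NN, if_neg hodd]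
      have hA : (q + 1) * (1 + (q - 1) * q * gs (q ^ 2) k) = q ^ (2 * k + 1) + 1 := by
        have h1 : (q + 1) * ((q - 1) * q * gs (q ^ 2) k) = q * ((q ^ 2 - 1) * gs (q ^ 2) k) := by
          rw [sq_sub_one'']; ring
        rw [mul_add, h1, gs_mul (q ^ 2) k (Nat.one_le_pow _ _ (by omega)), ← pow_mul, Nat.mul_sub,
          mul_one, mul_one, pow_succ]
        have h2 : q ≤ q * q ^ (2 * k) := Nat.le_mul_of_pos_right _ (by positivity)
        have h3 : q * q ^ (2 * k) = q ^ (2 * k) * q := mul_comm _ _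
        omega
      apply Nat.eq_of_mul_eq_mul_left (show 0 < q + 1 by omega)
      rw [SS_mul q _ (by omega), mul_left_comm, hA, mul_comm (q ^ (2 * k + 1) - 1),
        ← Nat.sq_sub_sq, one_pow, ← pow_mul, mul_comm (2 * k + 1) 2]
    · apply Nat.ModEq.gcd_eq
      have h1 : (q - 1) * q ≡ 2 [MOD (q + 1)] := by
        obtain ⟨t, rfl⟩ : ∃ t, q = t + 2 := ⟨q - 2, by omega⟩
        have : (t + 2 - 1) * (t + 2) = 2 + (t + 2 + 1) * t := by
          rw [show t + 2 - 1 = t + 1 by omega]; ring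
        rw [this]
        show (2 + (t + 2 + 1) * t) % (t + 2 + 1) = 2 % (t + 2 + 1)
        rw [Nat.add_mul_mod_self_left]
      have h2 := (h1.mul (gs_sq_modEq q k (by omega))).add_left 1
      rw [show 1 + 2 * k = 2 * k + 1 by ring] at h2
      exact h2

theorem core_iff' (q m : ℕ) (hq : 2 ≤ q) (hm : 1 ≤ m) :
    NN q m ∣ SS q m / Nat.gcd (2 * m) (q + 1) ↔
      padicValNat 2 (q + 1) < padicValNat 2 (2 * m) := by
  have : Fact (Nat.Prime 2) := ⟨Nat.prime_two⟩
  have hD : Nat.gcd (2 * m) (q + 1) ∣ SS q m := by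
    rw [← gcd_SS q m (by omega)]
    exact Nat.gcd_dvd_left _ _
  have hv : padicValNat 2 (2 * m) = padicValNat 2 m + 1 := by
    rw [padicValNat.mul (by norm_num) (by omega), padicValNat.self (by norm_num), add_comm]
  obtain ⟨T, hT, hgT⟩ := exists_cofactor q m hq
  have hN : 0 < NN q m := by
    unfold NN
    split_ifs
    · positivity
    · have : 1 < q ^ m := Nat.one_lt_pow (by omega) (by omega)
      omega
  rw [hv, Nat.lt_succ_iff, ← gcd_two_mul_dvd_iff m (q + 1) (by omega) (by omega),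
    Nat.dvd_div_iff_mul_dvd hD, hT, mul_comm, Nat.mul_dvd_mul_iff_left hN]
  constructor
  · intro h
    have h1 : Nat.gcd (2 * m) (q + 1) ∣ Nat.gcd T (q + 1) :=
      Nat.dvd_gcd h (Nat.gcd_dvd_right _ _)
    rw [hgT] at h1
    exact h1.trans (Nat.gcd_dvd_left _ _)
  · intro h
    have h1 : Nat.gcd (2 * m) (q + 1) ∣ Nat.gcd m (q + 1) :=
      Nat.dvd_gcd h (Nat.gcd_dvd_right _ _)
    rw [← hgT] at h1
    exact h1.trans (Nat.gcd_dvd_left _ _)

end Arith

section Struct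

variable {F : Type u} [Field F]

theorem exists_monic_irreducible_not_dvd {V : Type v} [AddCommGroup V] [Module F V]
    [Module.Finite F V] (x : End F V) (P : F[X]) (hP : ¬ IsNilpotent (aeval x P)) :
    ∃ f : F[X], f.Monic ∧ Irreducible f ∧ f ∣ minpoly F x ∧ ¬ f ∣ P := by
  classical
  obtain ⟨f, hf, h1, h2⟩ := exists_irreducible_not_dvd x P hP
  refine ⟨normalize f, monic_normalize hf.ne_zero, (associated_normalize f).irreducible hf,
    normalize_dvd_iff.2 h1, fun h => h2 (normalize_dvd_iff.1 h)⟩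

variable [Fintype F] {q : ℕ} {σ : F →+* F}

theorem structure_half (hF : Fintype.card F = q ^ 2) (hσ : ∀ x, σ x = x ^ q)
    {V : Type v} [AddCommGroup V] [Module F V] [Module.Finite F V]
    (B : V →ₛₗ[σ] V →ₗ[F] F) (hS : ∀ x y, σ (B x y) = B y x)
    (hnd : ∀ u, (∀ v, B u v = 0) → u = 0) (m : ℕ) (hm : 1 ≤ m) (hdim : finrank F V = 2 * m)
    (g g' : End F V) (hg : Isom B g g') (hdet : LinearMap.det g = 1)
    (f : F[X]) [Fact (Irreducible f)] (hfm : f.Monic) (hdvd : f ∣ minpoly F g)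
    (hns : ¬ f ∣ dual σ f) (h1 : m ≤ f.natDegree) (h2 : m ≤ (dual σ f).natDegree) :
    f.natDegree = m ∧ σ (Algebra.norm F (AdjoinRoot.root f)) = Algebra.norm F (AdjoinRoot.root f) ∧
      ∀ (j : ℕ) (μ : F), μ * σ μ = 1 → f ∣ X ^ j - C μ → g ^ j = μ • 1 := by
  have hf : Irreducible f := Fact.out
  have hσσ := sigma_sigma hF hσ
  have hrefl : ∀ u v, B u v = 0 → B v u = 0 := fun u v h => by rw [← hS, h, map_zero]
  have h3 := natDegree_add_le hrefl hnd hσσ hg f hdvd hns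
  have hdeg : f.natDegree = m := by omega
  have hdvd' : f ∣ g.charpoly := hdvd.trans (LinearMap.minpoly_dvd_charpoly g)
  have hdec : ¬ Decomp B g := not_decomp_of_dual hrefl hnd hσσ hg f hdvd' hns (by omega)
  obtain ⟨b, hb, -⟩ := exists_orthonormal_basis hF hσ B hS hnd hdim
  rcases structure_of_indecomposable' b hb hrefl hnd hσσ hg hdec f hf hfm hdvd' with
    ⟨e, hχ, -⟩ | ⟨e, hdim', hpow, hdetβ⟩
  · exfalso
    have h4 : dual σ f ∣ f ^ e := by
      rw [← hχ]
      exact (dual_dvd_minpoly hrefl hnd hσσ hg f hdvd').trans (LinearMap.minpoly_dvd_charpoly g)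
    have h5 := (dual_irreducible σ f hσσ).prime.dvd_of_dvd_pow h4
    exact hns ((dual_irreducible σ f hσσ).dvd_symm hf h5)
  · have he1 : e = 1 := by
      rw [hdim, hdeg] at hdim'
      have h6 : m * 1 = m * e := by rw [mul_one, mul_comm]; omega
      exact (Nat.eq_of_mul_eq_mul_left (by omega) h6).symm
    refine ⟨hdeg, ?_, ?_⟩
    · rw [norm_root_eq f hf hfm]
      rw [hdet, one_mul, he1, one_mul, pow_one] at hdetβ
      exact hdetβ
    · intro j μ hμ hd
      have := hpow j μ hμ hd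
      rw [he1, pow_one] at this
      exact sub_eq_zero.1 this

/-- consequence: the projective order divides `SS q m / gcd (2m) (q+1)`. -/
theorem pow_eq_smul_half (hF : Fintype.card F = q ^ 2) (hσ : ∀ x, σ x = x ^ q)
    {V : Type v} [AddCommGroup V] [Module F V] [Module.Finite F V]
    (B : V →ₛₗ[σ] V →ₗ[F] F) (hS : ∀ x y, σ (B x y) = B y x)
    (hnd : ∀ u, (∀ v, B u v = 0) → u = 0) (m : ℕ) (hm : 1 ≤ m) (hdim : finrank F V = 2 * m)
    (g g' : End F V) (hg : Isom B g g') (hdet : LinearMap.det g = 1)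
    (f : F[X]) [Fact (Irreducible f)] (hfm : f.Monic) (hdvd : f ∣ minpoly F g)
    (hns : ¬ f ∣ dual σ f) (h1 : m ≤ f.natDegree) (h2 : m ≤ (dual σ f).natDegree) :
    ∃ μ : F, g ^ (SS q m / Nat.gcd (2 * m) (q + 1)) = μ • 1 := by
  have hf : Irreducible f := Fact.out
  have hq2 := Cfsg.Agent.Lib.Helper7Herm.two_le_q hF
  obtain ⟨hdeg, hnorm, hpow⟩ := structure_half hF hσ B hS hnd m hm hdim g g' hg hdet f hfm hdvd hns
    h1 h2
  have := finite_adjoinRoot f hf
  have : Finite (AdjoinRoot f) := Module.finite_of_finite F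
  set l := AdjoinRoot.root f with hl
  have hfin : finrank F (AdjoinRoot f) = m := by
    rw [(AdjoinRoot.powerBasis hf.ne_zero).finrank, AdjoinRoot.powerBasis_dim, hdeg]
  have hl0 : l ≠ 0 := by
    intro h0
    have h3 : f ∣ X := by
      rw [dvd_iff_root, aeval_X]
      exact h0
    obtain ⟨v, hv0, hv⟩ := exists_ne_zero_aeval_eq_zero g f hf
      (hdvd.trans (LinearMap.minpoly_dvd_charpoly g))
    obtain ⟨R, hR⟩ := h3
    have h4 : g v = 0 := by
      have := congrArg (fun P => aeval g P v) hR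
      simp only [aeval_X, map_mul, Module.End.mul_apply] at this
      rw [this, ← Module.End.mul_apply, ← map_mul, mul_comm, map_mul, Module.End.mul_apply, hv,
        map_zero]
    apply hv0
    have := congrArg g' h4
    rwa [← Module.End.mul_apply, hg.inv_mul, map_zero] at this
  have hN0 : Algebra.norm F l ≠ 0 := Algebra.norm_ne_zero_iff.2 hl0
  have hN1 : Algebra.norm F l ^ (q - 1) = 1 := by
    rw [hσ] at hnorm
    have h3 : Algebra.norm F l ^ (q - 1) * Algebra.norm F l = 1 * Algebra.norm F l := by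
      rw [← pow_succ, Nat.sub_add_cancel (by omega), hnorm, one_mul]
    exact mul_right_cancel₀ hN0 h3
  have hlS : l ^ SS q m = 1 := by
    have := FiniteField.algebraMap_norm_eq_pow_sum (K := F) (L := AdjoinRoot f) (x := l)
    rw [hfin, Nat.card_eq_fintype_card, hF] at this
    rw [SS, pow_mul]
    show (l ^ ∑ i ∈ Finset.range m, (q ^ 2) ^ i) ^ (q - 1) = 1
    rw [← this, ← map_pow, hN1, map_one]
  have hD : Nat.gcd (2 * m) (q + 1) ∣ SS q m := by
    rw [← gcd_SS q m (by omega)]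
    exact Nat.gcd_dvd_left _ _
  set j0 := SS q m / Nat.gcd (2 * m) (q + 1) with hj0
  obtain ⟨μ, hμ, hμσ⟩ := mem_range_of_pow_eq_one hF hσ (AdjoinRoot f) (l ^ j0) (by
    obtain ⟨e, he⟩ := Nat.gcd_dvd_right (2 * m) (q + 1)
    have h6 : j0 * (q + 1) = SS q m * e := by
      calc j0 * (q + 1) = j0 * (Nat.gcd (2 * m) (q + 1) * e) := congrArg _ he
        _ = SS q m * e := by rw [← mul_assoc, hj0, Nat.div_mul_cancel hD]
    rw [← pow_mul, h6, pow_mul, hlS, one_pow])
  refine ⟨μ, hpow j0 μ hμσ ?_⟩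
  rw [dvd_iff_root]
  simp only [map_sub, map_pow, aeval_X, aeval_C]
  rw [← hl, hμ, sub_self]

end Struct

section Main

variable {F : Type u} [Field F] [Fintype F] {q : ℕ} {σ : F →+* F}

theorem ppd_iff (q E r : ℕ) (hq : 1 ≤ q) (hE : 1 ≤ E) (hrd : r ∣ q ^ E - 1)
    (hprim : ∀ k : ℕ, 0 < k → k < E → ¬ r ∣ q ^ k - 1) (d : ℕ) : r ∣ q ^ d - 1 ↔ E ∣ d := by
  rw [← orderOf_zmod_dvd_iff r q d hq]
  have h1 : orderOf (q : ZMod r) ∣ E := (orderOf_zmod_dvd_iff r q E hq).2 hrd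
  have h2 : orderOf (q : ZMod r) = E := by
    have h3 : 0 < orderOf (q : ZMod r) := Nat.pos_of_dvd_of_pos h1 hE
    have h4 := Nat.le_of_dvd hE h1
    by_contra hne
    exact hprim _ h3 (by omega) ((orderOf_zmod_dvd_iff r q _ hq).1 dvd_rfl)
  rw [h2]

theorem dvd_of_orderOf (hF : Fintype.card F = q ^ 2) (hσ : ∀ x, σ x = x ^ q) (p : ℕ)
    [Fact p.Prime] [CharP F p] (hodd : Odd q)
    {V : Type v} [AddCommGroup V] [Module F V] [Module.Finite F V]
    (B : V →ₛₗ[σ] V →ₗ[F] F) (hS : ∀ x y, σ (B x y) = B y x)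
    (hnd : ∀ u, (∀ v, B u v = 0) → u = 0) (m : ℕ) (hm : 2 ≤ m) (hdim : finrank F V = 2 * m)
    (g g' : End F V) (hg : Isom B g g') (hdet : LinearMap.det g = 1)
    (c : F) (hc : g ^ NN q m = c • 1) (hmin : ∀ j, (∃ μ : F, g ^ j = μ • 1) → NN q m ∣ j) :
    NN q m ∣ SS q m / Nat.gcd (2 * m) (q + 1) := by
  have hp : p.Prime := Fact.out
  have hq2 := Cfsg.Agent.Lib.Helper7Herm.two_le_q hF
  have hσσ := sigma_sigma hF hσ
  have : Nontrivial V := Module.nontrivial_of_finrank_pos (R := F) (by omega)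
  obtain ⟨E, hE⟩ : ∃ E, E = if Even m then 2 * m else m := ⟨_, rfl⟩
  have hE3 : 3 ≤ E := by
    rw [hE]
    split_ifs with h
    · omega
    · by_contra hlt
      have : m = 2 := by omega
      exact h (this ▸ even_two)
  obtain ⟨r, hr, hrd, hprim⟩ := Cfsg.Agent.S2904.result q E (by omega) (by omega) (by
      rintro ⟨h2, -⟩
      rw [h2] at hodd
      exact absurd hodd (by decide)) (by
      rintro ⟨h2, -⟩
      omega)
  have hiff := ppd_iff q E r (by omega) (by omega) hrd hprim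
  have hmD : ∀ D, r ∣ (q ^ 2) ^ D - 1 → m ∣ D := by
    intro D hD
    rw [← pow_mul, hiff, hE] at hD
    split_ifs at hD with h
    · exact Nat.dvd_of_mul_dvd_mul_left (by norm_num) hD
    · exact (Nat.Coprime.dvd_mul_left (Nat.coprime_two_right.2 (Nat.not_even_iff_odd.1 h))).1 hD
  have hrp : r ≠ p := by
    rintro rfl
    obtain ⟨e, -, he⟩ := FiniteField.card F r
    have h0 : r ∣ q := by
      have : r ∣ q ^ 2 := by rw [← hF, he]; exact dvd_pow_self r e.ne_zero
      exact hr.dvd_of_dvd_pow this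
    have h1 : r ∣ q ^ E := dvd_pow h0 (by omega)
    have h2 : 1 ≤ q ^ E := Nat.one_le_pow _ _ (by omega)
    have h3 : r ∣ 1 := by
      have := Nat.dvd_sub h1 hrd
      rwa [Nat.sub_sub_self h2] at this
    exact hr.one_lt.ne' (Nat.dvd_one.1 h3)
  have hrN : r ∣ NN q m := by
    unfold NN
    split_ifs with h
    · rw [hE, if_pos h] at hrd hprim
      have h1 : q ^ (2 * m) - 1 = (q ^ m + 1) * (q ^ m - 1) := by
        rw [← Nat.sq_sub_sq, one_pow, ← pow_mul, mul_comm m 2]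
      rw [h1] at hrd
      rcases (Nat.Prime.dvd_mul hr).1 hrd with h' | h'
      · exact h'
      · exact absurd h' (hprim m (by omega) (by omega))
    · rw [hE, if_neg h] at hrd
      exact hrd
  obtain ⟨N', hN'⟩ := hrN
  have hNpos : 0 < NN q m := by
    unfold NN
    split_ifs
    · positivity
    · have : 1 < q ^ m := Nat.one_lt_pow (by omega) (by omega)
      omega
  have hN'0 : 0 < N' := by
    rcases Nat.eq_zero_or_pos N' with h0 | h0
    · rw [h0, mul_zero] at hN'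
      omega
    · exact h0
  have hc0 : c ≠ 0 := scalar_ne_zero g hdet _ c hc
  have hcq : c ^ (q ^ 2 - 1) = 1 := by
    rw [← hF]; exact FiniteField.pow_card_sub_one_eq_one c hc0
  set M := N' * (q ^ 2 - 1) with hM
  have hg1 : g ^ (M * r) = 1 := by
    rw [hM, show N' * (q ^ 2 - 1) * r = (r * N') * (q ^ 2 - 1) by ring, ← hN', pow_mul, hc,
      _root_.smul_pow, one_pow, hcq, one_smul]
  have hg2 : g ^ M ≠ 1 := by
    intro h
    have h1 : NN q m ∣ M := hmin M ⟨1, by rw [h, one_smul]⟩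
    rw [hN', hM, mul_comm r N'] at h1
    have h2 := Nat.dvd_of_mul_dvd_mul_left hN'0 h1
    have h3 := Nat.le_of_dvd (by norm_num) ((hiff 2).1 h2)
    omega
  obtain ⟨f, hfm, hf, hdvd, hnd'⟩ := exists_monic_irreducible_not_dvd g (X ^ M - 1)
    (not_nilpotent_pow_sub_one p g M r ((Nat.coprime_primes hr hp).2 hrp) hg1 hg2)
  have : Fact (Irreducible f) := ⟨hf⟩
  have hμ : minpoly F g ∣ X ^ (M * r) - 1 := by
    apply minpoly.dvd
    rw [map_sub, map_pow, aeval_X, map_one, hg1, sub_self]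
  have hfX : f ∣ X ^ (M * r) - 1 := hdvd.trans hμ
  have hcard : Nat.card F = q ^ 2 := by rw [Nat.card_eq_fintype_card, hF]
  have h1 : m ≤ f.natDegree := by
    have h3 := dvd_card_pow_sub_one f hf M r hr hfX hnd'
    rw [hcard] at h3
    exact Nat.le_of_dvd hf.natDegree_pos (hmD _ h3)
  have h2 : m ≤ (dual σ f).natDegree := by
    have h3 := dvd_card_pow_sub_one (dual σ f) (dual_irreducible σ f hσσ) M r hr
      ((dual_dvd_pow_sub_one_iff σ f hσσ _).2 hfX)
      (fun h => hnd' ((dual_dvd_pow_sub_one_iff σ f hσσ _).1 h))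
    rw [hcard] at h3
    exact Nat.le_of_dvd (dual_irreducible σ f hσσ).natDegree_pos (hmD _ h3)
  have hns : ¬ f ∣ dual σ f := by
    intro hsd
    have hlinv := selfdual_of_dvd σ f hσσ hsd
    set l := AdjoinRoot.root f with hl
    have hl1 : l ^ (M * r) = 1 := by
      rw [dvd_iff_root] at hfX
      simpa [sub_eq_zero] using hfX
    have hl2 : l ^ M ≠ 1 := by
      intro h
      apply hnd'
      rw [dvd_iff_root]
      simpa [sub_eq_zero] using h
    have hl0 : l ≠ 0 := by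
      intro h0
      have hM0 : M ≠ 0 := by
        intro h00
        rw [h00, pow_zero] at hg2
        exact hg2 rfl
      rw [h0, zero_pow (mul_ne_zero hM0 hr.ne_zero)] at hl1
      exact zero_ne_one hl1
    obtain ⟨hDodd, hlq⟩ := odd_of_selfdual hF hσ p f hf hl0 hlinv
    set D := f.natDegree with hD
    have : Fact r.Prime := ⟨hr⟩
    have ho : orderOf (l ^ M) = r := orderOf_eq_prime (by rw [← pow_mul, hl1]) hl2
    have hr1 : r ∣ q ^ D + 1 := by
      rw [← ho]
      apply orderOf_dvd_of_pow_eq_one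
      rw [← pow_mul, mul_comm, pow_mul, hlq, one_pow]
    have hr2 : r ∣ (q ^ 2) ^ D - 1 := by
      have : (q ^ 2) ^ D - 1 = (q ^ D + 1) * (q ^ D - 1) := by
        rw [← Nat.sq_sub_sq, one_pow, ← pow_mul, ← pow_mul, mul_comm]
      rw [this]
      exact hr1.mul_right _
    have hmDd := hmD D hr2
    by_cases hme : Even m
    · exact (Nat.not_even_iff_odd.2 hDodd) (hme.trans_dvd hmDd)
    · have h5 : r ∣ q ^ D - 1 := by
        rw [hiff, hE, if_neg hme]
        exact hmDd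
      have h6 : r ∣ 2 := by
        have := Nat.dvd_sub hr1 h5
        have h7 : 1 ≤ q ^ D := Nat.one_le_pow _ _ (by omega)
        rwa [show q ^ D + 1 - (q ^ D - 1) = 2 by omega] at this
      have h7 : r = 2 := (Nat.prime_dvd_prime_iff_eq hr Nat.prime_two).1 h6
      have h8 : r ∣ q ^ 1 - 1 := by
        rw [h7, pow_one]
        obtain ⟨t, ht⟩ := hodd
        exact ⟨t, by omega⟩
      have := Nat.le_of_dvd one_pos ((hiff 1).1 h8)
      omega
  exact hmin _ (pow_eq_smul_half hF hσ B hS hnd m (by omega) hdim g g' hg hdet f hfm hdvd hns h1 h2)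

end Main

section Exist

variable {F : Type u} [Field F] [Fintype F] {q : ℕ} {σ : F →+* F}

theorem exists_half (hF : Fintype.card F = q ^ 2) (hσ : ∀ x, σ x = x ^ q) (p : ℕ)
    [Fact p.Prime] [CharP F p] (a : ℕ) (hq : q = p ^ a) (m : ℕ) (hm : 1 ≤ m) :
    ∃ y : Cfsg.PSU (2 * m) F q, SS q m / Nat.gcd (2 * m) (q + 1) ∣ orderOf y := by
  have hq2 := Cfsg.Agent.Lib.Helper7Herm.two_le_q hF
  have : NeZero m := ⟨by omega⟩
  let K0 := FiniteField.Extension F p m
  have hfin : finrank F K0 = m := FiniteField.finrank_extension F p m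
  have : CharP K0 p := charP_of_injective_algebraMap (algebraMap F K0).injective p
  let D : HData σ (K0 × K0) := HData.hyp hF hσ p a hq K0
  obtain ⟨l, hl⟩ := exists_ext_element (F := F) p m (SS q m) (by
    rw [Nat.card_eq_fintype_card, hF, ← pow_mul, ← SS_mul q m (by omega)]
    exact Dvd.intro_left _ rfl)
  have hSpos : 0 < SS q m := Nat.mul_pos (gs_pos _ _ hm) (by omega)
  have hl1 : l ^ SS q m = 1 := by rw [← hl]; exact pow_orderOf_eq_one l
  have hl0 : l ≠ 0 := by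
    rintro rfl
    rw [orderOf_zero] at hl
    omega
  have hlq0 : l ^ q ≠ 0 := pow_ne_zero _ hl0
  have hN0 : Algebra.norm F l ≠ 0 := Algebra.norm_ne_zero_iff.2 hl0
  have hN1 : Algebra.norm F l ^ (q - 1) = 1 := by
    apply (algebraMap F K0).injective
    have := FiniteField.algebraMap_norm_eq_pow_sum (K := F) (L := K0) (x := l)
    rw [hfin, Nat.card_eq_fintype_card, hF] at this
    rw [map_pow, this, ← pow_mul, map_one]
    exact hl1
  have hcard : ∀ x : K0, x ^ q ^ (2 * m) = x := by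
    intro x
    have hc : Nat.card K0 = q ^ (2 * m) := by rw [natCard_eq hF, hfin]
    rw [← hc, pow_natCard]
  have h1 : (((l ^ q)⁻¹, l) : K0 × K0) * D.τ ((l ^ q)⁻¹, l) = 1 := by
    show (((l ^ q)⁻¹, l) : K0 × K0) * (HData.hyp hF hσ p a hq K0).τ ((l ^ q)⁻¹, l) = 1
    rw [HData.hyp_τ, hfin]
    ext
    · show (l ^ q)⁻¹ * l ^ q = 1
      exact inv_mul_cancel₀ hlq0
    · show l * ((l ^ q)⁻¹) ^ q ^ (2 * m - 1) = 1
      rw [inv_pow, ← pow_mul, ← pow_succ', show 2 * m - 1 + 1 = 2 * m by omega, hcard,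
        mul_inv_cancel₀ hl0]
  have h2 : Algebra.norm F (((l ^ q)⁻¹, l) : K0 × K0) = 1 := by
    have h3 : Algebra.norm F l = Algebra.norm F (l ^ q) := by
      rw [map_pow]
      conv_rhs => rw [← Nat.sub_add_cancel (show 1 ≤ q by omega)]
      rw [pow_succ, hN1, one_mul]
    rw [norm_prod_mk, h3, ← map_mul, inv_mul_cancel₀ hlq0, map_one]
  obtain ⟨Θ, hΘ⟩ := D.exists_hom hF hσ (n := 2 * m) (by omega)
    (by rw [Module.finrank_prod, hfin]; omega)
  refine ⟨Θ (D.mkU _ h1 h2), ?_⟩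
  obtain ⟨c, hc⟩ := (hΘ _ _).1 (pow_orderOf_eq_one (Θ (D.mkU _ h1 h2)))
  set j := orderOf (Θ (D.mkU _ h1 h2)) with hj
  rw [HData.coe_mkU] at hc
  have e1 : ((l ^ q)⁻¹) ^ j = algebraMap F K0 c := congrArg Prod.fst hc
  have e2 : l ^ j = algebraMap F K0 c := congrArg Prod.snd hc
  have f1 : l ^ ((q + 1) * j) = 1 := by
    rw [add_mul, one_mul, pow_add, pow_mul, e2, ← e1, inv_pow]
    exact mul_inv_cancel₀ (pow_ne_zero _ hlq0)
  have g1 : SS q m ∣ (q + 1) * j := by rw [← hl]; exact orderOf_dvd_of_pow_eq_one f1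
  have hD : Nat.gcd (2 * m) (q + 1) ∣ SS q m := by
    rw [← gcd_SS q m (by omega)]
    exact Nat.gcd_dvd_left _ _
  rw [Nat.div_dvd_iff_dvd_mul hD (Nat.gcd_pos_of_pos_left _ (by omega)), ← gcd_SS q m (by omega),
    ← Nat.gcd_mul_right]
  exact Nat.dvd_gcd (Dvd.intro _ rfl) g1

end Exist

end Cfsg.Agent.Lib.Helper45PSUHalf
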