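import Mathlib
import Cfsg.Agent.Lib.Helper45PSUHalf

set_option autoImplicit false

namespace Cfsg.Agent.Lib.Helper45OrthA

open Module Polynomial Cfsg.Agent.Lib.Helper45Form Cfsg.Agent.Lib.Helper45Semisimple
  Cfsg.Agent.Lib.Helper45PSL Cfsg.Agent.Lib.Helper45SU3

universe u v w

section FixDecomp

variable {F : Type u} [Field F] {σ : F →+* F} {V : Type v} [AddCommGroup V] [Module F V]
variable {B : V →ₛₗ[σ] V →ₗ[F] F}

theorem ortho_ker_range {e e' : End F V} (he : Isom B e e') :
    (∀ u ∈ LinearMap.ker (e - 1), ∀ v ∈ LinearMap.range (e - 1), B u v = 0) ∧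
    (∀ u ∈ LinearMap.range (e - 1), ∀ v ∈ LinearMap.ker (e - 1), B u v = 0) := by
  constructor
  · rintro u hu _ ⟨w, rfl⟩
    have hu' : e u = u := by
      have := LinearMap.mem_ker.1 hu
      simpa [sub_eq_zero] using this
    have h1 := he.preserves u w
    rw [hu'] at h1
    simp [h1]
  · rintro _ ⟨w, rfl⟩ u hu
    have hu' : e u = u := by
      have := LinearMap.mem_ker.1 hu
      simpa [sub_eq_zero] using this
    have h1 := he.preserves w u
    rw [hu'] at h1
    simp [h1]

theorem isCompl_ker_range [Module.Finite F V] (e : End F V) (M : ℕ) (hM : (M : F) ≠ 0)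
    (heM : e ^ M = 1) : IsCompl (LinearMap.ker (e - 1)) (LinearMap.range (e - 1)) := by
  have hdisj : Disjoint (LinearMap.ker (e - 1)) (LinearMap.range (e - 1)) := by
    rw [Submodule.disjoint_def]
    rintro x hx ⟨y, rfl⟩
    have hx' : e ((e - 1) y) = (e - 1) y := by
      have := LinearMap.mem_ker.1 hx
      simpa [sub_eq_zero] using this
    have h1 : ∀ i : ℕ, (e ^ i) ((e - 1) y) = (e - 1) y := by
      intro i
      induction i with
      | zero => simp
      | succ i ih => rw [pow_succ, Module.End.mul_apply, hx', ih]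
    have h2 : (∑ i ∈ Finset.range M, e ^ i) * (e - 1) = e ^ M - 1 := geom_sum_mul e M
    have h3 : (∑ i ∈ Finset.range M, e ^ i) ((e - 1) y) = 0 := by
      rw [← Module.End.mul_apply, h2, heM, sub_self, LinearMap.zero_apply]
    rw [LinearMap.sum_apply, Finset.sum_congr rfl (fun i _ => h1 i), Finset.sum_const,
      Finset.card_range, ← Nat.cast_smul_eq_nsmul F] at h3
    exact (smul_eq_zero.1 h3).resolve_left hM
  refine ⟨hdisj, ?_⟩
  rw [codisjoint_iff]
  apply Submodule.eq_top_of_disjoint _ _ _ hdisj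
  rw [add_comm, LinearMap.finrank_range_add_finrank_ker]

end FixDecomp

section PPD

variable {F : Type u} [Field F] [Finite F]

/-- an element of prime order `r ≠ p` needs dimension at least the order of `q` mod `r`. -/
theorem exists_factor (p : ℕ) [Fact p.Prime] [CharP F p] {V : Type v} [AddCommGroup V]
    [Module F V] [Module.Finite F V] (e : End F V) (r : ℕ) (hr : r.Prime) (hrp : r ≠ p)
    (he : e ^ r = 1) (hne : e ≠ 1) (D : ℕ) (hD : ∀ d, r ∣ Nat.card F ^ d - 1 → D ∣ d) :
    ∃ f : F[X], Irreducible f ∧ f ∣ minpoly F e ∧ ¬ f ∣ X - 1 ∧ D ∣ f.natDegree := by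
  have hp : p.Prime := Fact.out
  have hcop : Nat.Coprime r p := (Nat.coprime_primes hr hp).2 hrp
  have h1 : ¬ IsNilpotent (aeval e (X ^ 1 - 1 : F[X])) :=
    not_nilpotent_pow_sub_one p e 1 r hcop (by rw [one_mul]; exact he) (by rw [pow_one]; exact hne)
  obtain ⟨f, hf, hfd, hfn⟩ := exists_irreducible_not_dvd e _ h1
  have h2 : f ∣ X ^ (1 * r) - 1 := by
    apply hfd.trans
    apply minpoly.dvd
    simp [he]
  refine ⟨f, hf, hfd, by simpa using hfn, hD _ (dvd_card_pow_sub_one f hf 1 r hr h2 hfn)⟩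

theorem le_finrank_of_order (p : ℕ) [Fact p.Prime] [CharP F p] {V : Type v} [AddCommGroup V]
    [Module F V] [Module.Finite F V] (e : End F V) (r : ℕ) (hr : r.Prime) (hrp : r ≠ p)
    (he : e ^ r = 1) (hne : e ≠ 1) (D : ℕ) (hD : ∀ d, r ∣ Nat.card F ^ d - 1 → D ∣ d) :
    D ≤ finrank F V := by
  obtain ⟨f, hf, hfd, -, hDf⟩ := exists_factor p e r hr hrp he hne D hD
  have h1 : f.natDegree ≤ finrank F V :=
    (natDegree_le_of_dvd hfd (minpoly.ne_zero (Algebra.IsIntegral.isIntegral e))).trans
      (natDegree_minpoly_le e)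
  exact (Nat.le_of_dvd hf.natDegree_pos hDf).trans h1

theorem ppd_structure (p : ℕ) [Fact p.Prime] [CharP F p] {V : Type v} [AddCommGroup V]
    [Module F V] [Module.Finite F V] (e : End F V) (r : ℕ) (hr : r.Prime) (hrp : r ≠ p)
    (he : e ^ r = 1) (hne : e ≠ 1) (D : ℕ) (hD : ∀ d, r ∣ Nat.card F ^ d - 1 → D ∣ d)
    (hdim : finrank F V < 2 * D) :
    ∃ (f : F[X]) (_ : Irreducible f) (ι : AdjoinRoot f →ₗ[F] V), Function.Injective ι ∧
      (∀ a, e (ι a) = ι (AdjoinRoot.root f * a)) ∧
      LinearMap.range ι = LinearMap.range (e - 1) ∧ f.natDegree = D ∧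
      finrank F (LinearMap.ker (e - 1)) + D = finrank F V := by
  have hp : p.Prime := Fact.out
  have hcop : Nat.Coprime r p := (Nat.coprime_primes hr hp).2 hrp
  obtain ⟨f, hf, hfd, hfn, hDf⟩ := exists_factor p e r hr hrp he hne D hD
  have h1 : f.natDegree ≤ finrank F V :=
    (natDegree_le_of_dvd hfd (minpoly.ne_zero (Algebra.IsIntegral.isIntegral e))).trans
      (natDegree_minpoly_le e)
  have hdeg : f.natDegree = D := by
    obtain ⟨c, hc⟩ := hDf
    have hpos := hf.natDegree_pos
    have hc1 : c = 1 := by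
      rcases Nat.lt_or_ge c 2 with h | h
      · interval_cases c
        · omega
        · rfl
      · exfalso
        have : D * 2 ≤ D * c := Nat.mul_le_mul_left _ h
        omega
    rw [hc, hc1, mul_one]
  have hss : e.IsSemisimple := isSemisimple_of_pow_eq_one p e r hcop he
  obtain ⟨C, hC, ψ, hψ⟩ := exists_decomp e hss f hf (hfd.trans (LinearMap.minpoly_dvd_charpoly e))
  have := finite_adjoinRoot f hf
  have hfinK : finrank F (AdjoinRoot f) = D := by
    rw [(AdjoinRoot.powerBasis hf.ne_zero).finrank, AdjoinRoot.powerBasis_dim, hdeg]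
  have hfinC : finrank F C + D = finrank F V := by
    rw [← ψ.finrank_eq, Module.finrank_prod, hfinK, add_comm]
  have heC : e.restrict hC = 1 := by
    by_contra hcon
    have h2 : (e.restrict hC) ^ r = 1 := by
      apply LinearMap.ext
      intro c
      apply Subtype.ext
      rw [restrict_pow_apply C hC r c, he]
      rfl
    have := le_finrank_of_order p (e.restrict hC) r hr hrp h2 hcon D hD
    omega
  have : Fact (Irreducible f) := ⟨hf⟩
  have hroot : AdjoinRoot.root f - 1 ≠ 0 := by
    intro h0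
    apply hfn
    rw [dvd_iff_root]
    simpa using h0
  let ι : AdjoinRoot f →ₗ[F] V := ψ.toLinearMap.comp (LinearMap.inl F (AdjoinRoot f) C)
  have hι : ∀ a, ι a = ψ (a, 0) := fun a => rfl
  have hrange : LinearMap.range ι = LinearMap.range (e - 1) := by
    apply le_antisymm
    · rintro _ ⟨a, rfl⟩
      refine ⟨ψ ((AdjoinRoot.root f - 1)⁻¹ * a, 0), ?_⟩
      rw [LinearMap.sub_apply, ← hψ, Module.End.one_apply, ← map_sub, hι, map_zero]
      congr 1
      ext
      · show AdjoinRoot.root f * ((AdjoinRoot.root f - 1)⁻¹ * a) - (AdjoinRoot.root f - 1)⁻¹ * a = a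
        field_simp
      · simp
    · rintro _ ⟨x, rfl⟩
      obtain ⟨⟨a, c⟩, rfl⟩ := ψ.surjective x
      refine ⟨(AdjoinRoot.root f - 1) * a, ?_⟩
      rw [LinearMap.sub_apply, ← hψ, Module.End.one_apply, ← map_sub, hι, heC]
      congr 1
      ext
      · show (AdjoinRoot.root f - 1) * a = AdjoinRoot.root f * a - a
        ring
      · simp
  have hinj : Function.Injective ι := by
    intro a b hab
    have := ψ.injective hab
    exact congrArg Prod.fst this
  refine ⟨f, hf, ι, hinj, ?_, hrange, hdeg, ?_⟩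
  · intro a
    rw [hι, hι, ← hψ, map_zero]
  · have h3 := LinearMap.finrank_range_add_finrank_ker (e - 1)
    rw [← hrange, LinearMap.finrank_range_of_inj hinj, hfinK] at h3
    omega

end PPD

section Commutant

variable {F : Type u} [Field F] {V : Type v} [AddCommGroup V] [Module F V]

theorem commutant (e g : End F V) (f : F[X]) (ι : AdjoinRoot f →ₗ[F] V)
    (hι : ∀ a, e (ι a) = ι (AdjoinRoot.root f * a))
    (hrange : LinearMap.range ι = LinearMap.range (e - 1)) (hcomm : Commute g e) :
    ∃ β : AdjoinRoot f, ∀ a, g (ι a) = ι (β * a) := by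
  have h1 : g (ι 1) ∈ LinearMap.range ι := by
    have h2 : ι 1 ∈ LinearMap.range (e - 1) := hrange ▸ ⟨1, rfl⟩
    obtain ⟨y, hy⟩ := h2
    rw [hrange, ← hy]
    refine ⟨g y, ?_⟩
    have h3 : g * (e - 1) = (e - 1) * g := by
      rw [mul_sub, sub_mul, hcomm.eq, mul_one, one_mul]
    rw [← Module.End.mul_apply, ← Module.End.mul_apply, h3]
  obtain ⟨β, hβ⟩ := h1
  refine ⟨β, fun a => ?_⟩
  obtain ⟨P, rfl⟩ := AdjoinRoot.mk_surjective a
  have h4 : ∀ b, aeval e P (ι b) = ι (AdjoinRoot.mk f P * b) := by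
    intro b
    rw [aeval_apply_of_intertwine ι e (AdjoinRoot.root f) hι P b, AdjoinRoot.aeval_eq]
  have h5 : Commute g (aeval e P) := by
    simpa using commute_aeval_aeval hcomm (X : F[X]) P
  have h6 := h4 1
  rw [mul_one] at h6
  rw [← h6, ← Module.End.mul_apply, h5.eq, Module.End.mul_apply, ← hβ, h4, mul_comm]

theorem commutant_pow {A : Type w} [CommRing A] [Algebra F A] (g : End F V) (ι : A →ₗ[F] V) (β : A)
    (h : ∀ a, g (ι a) = ι (β * a)) (j : ℕ) (a : A) : (g ^ j) (ι a) = ι (β ^ j * a) := by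
  induction j generalizing a with
  | zero => simp
  | succ j ih => rw [pow_succ, Module.End.mul_apply, h, ih, pow_succ, mul_assoc]

theorem det_restrict_eq_norm {A : Type w} [CommRing A] [Algebra F A] (g : End F V)
    (ι : A →ₗ[F] V) (hinj : Function.Injective ι) (W : Submodule F V)
    (hW : W ∈ g.invtSubmodule) (hrange : LinearMap.range ι = W) (β : A)
    (h : ∀ a, g (ι a) = ι (β * a)) :
    LinearMap.det (LinearMap.restrict g (p := W) (q := W) hW) = Algebra.norm F β := by
  subst hrange
  let φ : A ≃ₗ[F] LinearMap.range ι := LinearEquiv.ofInjective ι hinj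
  have h1 : LinearMap.restrict g (p := LinearMap.range ι) (q := LinearMap.range ι) hW
      = (φ : A →ₗ[F] LinearMap.range ι) ∘ₗ (Algebra.lmul F A β) ∘ₗ
      (φ.symm : LinearMap.range ι →ₗ[F] A) := by
    apply LinearMap.ext
    intro x
    obtain ⟨a, rfl⟩ := φ.surjective x
    apply Subtype.ext
    simp only [LinearMap.comp_apply, LinearEquiv.coe_coe, LinearEquiv.symm_apply_apply]
    show g (ι a) = ι (β * a)
    exact h a
  rw [h1, LinearMap.det_conj]
  rfl

end Commutant

end Cfsg.Agent.Lib.Helper45OrthA
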