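import Mathlib
import Cfsg.Agent.Lib.Helper45Dual2
import Cfsg.Agent.Lib.Helper45OrthA
import Cfsg.Agent.Lib.Helper45SpTri

set_option autoImplicit false

namespace Cfsg.Agent.Lib.Helper45GkA

open Module Polynomial Cfsg.Agent.Lib.Helper45Form Cfsg.Agent.Lib.Helper45Semisimple
  Cfsg.Agent.Lib.Helper45PSL Cfsg.Agent.Lib.Helper45Dual Cfsg.Agent.Lib.Helper45Dual2
  Cfsg.Agent.Lib.Helper45SU3 Cfsg.Agent.Lib.Helper45ProjOrder Cfsg.Agent.Lib.Helper45SpTri

universe u v w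

theorem nt_plus (q t i : ℕ) (hq : 1 ≤ q) (ht : t.Prime) (ht2 : t ≠ 2) (h : t ∣ q ^ i + 1) :
    ∃ c, Odd c ∧ 2 * i = orderOf (q : ZMod t) * c := by
  have h1 : t ∣ q ^ (2 * i) - 1 := by
    have : q ^ (2 * i) - 1 = (q ^ i + 1) * (q ^ i - 1) := by
      rw [← Nat.sq_sub_sq, one_pow, ← pow_mul, mul_comm i 2]
    rw [this]
    exact h.mul_right _
  obtain ⟨c, hc⟩ := (orderOf_zmod_dvd_iff t q (2 * i) hq).2 h1
  refine ⟨c, ?_, hc⟩
  by_contra hodd
  rw [Nat.not_odd_iff_even] at hodd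
  obtain ⟨c', rfl⟩ := hodd
  have h3 : orderOf (q : ZMod t) ∣ i := ⟨c', by
    have : 2 * i = 2 * (orderOf (q : ZMod t) * c') := by rw [hc]; ring
    omega⟩
  have h4 := (orderOf_zmod_dvd_iff t q i hq).1 h3
  have h5 : t ∣ 2 := by
    have h6 : q ^ i + 1 = (q ^ i - 1) + 2 := by
      have : 1 ≤ q ^ i := Nat.one_le_pow _ _ hq
      omega
    rw [h6] at h
    exact (Nat.dvd_add_right h4).1 h
  exact ht2 ((Nat.prime_dvd_prime_iff_eq ht Nat.prime_two).1 h5)

section Poly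

variable {F : Type u} [Field F] [Fintype F]

omit [Fintype F] in
theorem root_ne_zero (f : F[X]) (N : ℕ) (hN : 0 < N) (hfN : f ∣ X ^ N - 1)
    (hf1 : ¬ IsUnit f) : AdjoinRoot.root f ≠ 0 := by
  intro h
  rw [dvd_iff_root] at hfN
  simp only [map_sub, map_pow, aeval_X, map_one, h, zero_pow hN.ne', zero_sub, neg_eq_zero] at hfN
  have : Nontrivial (AdjoinRoot f) := by
    rw [AdjoinRoot]
    apply Ideal.Quotient.nontrivial_iff.2
    intro h1
    rw [Ideal.span_singleton_eq_top] at h1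
    exact hf1 h1
  exact one_ne_zero hfN

theorem order_dvd_natDegree (f : F[X]) [Fact (Irreducible f)] (N : ℕ) (hN : 0 < N)
    (hfN : f ∣ X ^ N - 1) (t : ℕ) (hord : ∀ j, f ∣ X ^ j - 1 → t ∣ j) :
    orderOf ((Fintype.card F : ℕ) : ZMod t) ∣ f.natDegree := by
  have hf : Irreducible f := Fact.out
  have := finite_adjoinRoot f hf
  have : Finite (AdjoinRoot f) := Module.finite_of_finite F
  have hl0 := root_ne_zero f N hN hfN hf.not_isUnit
  have hcard : Nat.card (AdjoinRoot f) = Fintype.card F ^ f.natDegree := by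
    rw [natCard_adjoinRoot f hf.ne_zero, Nat.card_eq_fintype_card]
  have hlq : AdjoinRoot.root f ^ (Fintype.card F ^ f.natDegree - 1) = 1 := by
    have := Fintype.ofFinite (AdjoinRoot f)
    rw [← hcard, Nat.card_eq_fintype_card]
    exact FiniteField.pow_card_sub_one_eq_one _ hl0
  rw [orderOf_zmod_dvd_iff _ _ _ Fintype.card_pos]
  apply hord
  rw [dvd_iff_root]
  simp only [map_sub, map_pow, aeval_X, map_one, hlq, sub_self]

theorem selfdual_structure (f : F[X]) [Fact (Irreducible f)] (N : ℕ) (hN : 0 < N)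
    (hfN : f ∣ X ^ N - 1) (h2 : ¬ f ∣ X ^ 2 - 1) (hsd : f ∣ dual (RingHom.id F) f) :
    ∃ i, f.natDegree = 2 * i ∧ f ∣ X ^ (Fintype.card F ^ i + 1) - 1 := by
  have hf : Irreducible f := Fact.out
  have := finite_adjoinRoot f hf
  have : Finite (AdjoinRoot f) := Module.finite_of_finite F
  set l : AdjoinRoot f := AdjoinRoot.root f with hl
  have hl0 : l ≠ 0 := root_ne_zero f N hN hfN hf.not_isUnit
  have hfinK : finrank F (AdjoinRoot f) = f.natDegree := by
    rw [(AdjoinRoot.powerBasis hf.ne_zero).finrank]; rfl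
  have hlinv : aeval l⁻¹ f = 0 := by
    have := selfdual_of_dvd (RingHom.id F) f (fun c => rfl) hsd
    rwa [Polynomial.map_id] at this
  let τ : AdjoinRoot f →ₐ[F] AdjoinRoot f :=
    AdjoinRoot.liftAlgHom f (Algebra.ofId F (AdjoinRoot f)) l⁻¹ hlinv
  have hτl : τ l = l⁻¹ := AdjoinRoot.liftAlgHom_root _ _ _ _
  have hττ : ∀ a, τ (τ a) = a := by
    have h1 : τ.comp τ = AlgHom.id F (AdjoinRoot f) := by
      apply AdjoinRoot.algHom_ext
      show τ (τ l) = l
      rw [hτl, map_inv₀, hτl, inv_inv]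
    intro a
    exact AlgHom.congr_fun h1 a
  have hlτ : l * τ l = 1 := by rw [hτl, mul_inv_cancel₀ hl0]
  have hne : τ l ≠ l := by
    intro h
    rw [hτl] at h
    have h3 : l ^ 2 = 1 := by
      rw [pow_two]
      nth_rewrite 1 [← h]
      exact inv_mul_cancel₀ hl0
    apply h2
    rw [dvd_iff_root]
    simp only [map_sub, map_pow, aeval_X, map_one, ← hl, h3, sub_self]
  obtain ⟨i, hi, hfrob⟩ := invol_eq_frob (AdjoinRoot f) τ hττ ⟨l, hne⟩
  rw [hfinK] at hi
  refine ⟨i, hi, ?_⟩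
  rw [dvd_iff_root]
  simp only [map_sub, map_pow, aeval_X, map_one, ← hl]
  rw [pow_succ, ← hfrob, mul_comm, hlτ, sub_self]

end Poly

section Core

variable {F : Type u} [Field F] [Fintype F] {V : Type v} [AddCommGroup V] [Module F V]
  [Module.Finite F V]

theorem core (B : V →ₗ[F] V →ₗ[F] F) (hrefl : ∀ u v, B u v = 0 → B v u = 0)
    (hnd : ∀ u, (∀ v, B u v = 0) → u = 0) {g g' : End F V} (hg : Isom B g g')
    (f : F[X]) [Fact (Irreducible f)] (hdvd : f ∣ minpoly F g) (N : ℕ) (hN : 0 < N)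
    (hfN : f ∣ X ^ N - 1) (t : ℕ) (ht : t.Prime) (ht2 : t ≠ 2)
    (hord : ∀ j, f ∣ X ^ j - 1 → t ∣ j) (k η : ℕ)
    (hk : k = orderOf ((Fintype.card F : ℕ) : ZMod t))
    (hη : (Odd k ∧ η = k) ∨ (Even k ∧ 2 * η = k)) : 1 ≤ η ∧ 2 * η ≤ finrank F V := by
  have hf : Irreducible f := Fact.out
  have hkf : k ∣ f.natDegree := hk ▸ order_dvd_natDegree f N hN hfN t hord
  have hkle : k ≤ f.natDegree := Nat.le_of_dvd hf.natDegree_pos hkf
  have hk0 : 1 ≤ k := Nat.pos_of_dvd_of_pos hkf hf.natDegree_pos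
  have hηk : η ≤ k := by
    rcases hη with ⟨-, h⟩ | ⟨-, h⟩ <;> omega
  refine ⟨by rcases hη with ⟨-, h⟩ | ⟨-, h⟩ <;> omega, ?_⟩
  by_cases hsd : f ∣ dual (RingHom.id F) f
  · have h2 : ¬ f ∣ X ^ 2 - 1 := fun h =>
      ht2 ((Nat.prime_dvd_prime_iff_eq ht Nat.prime_two).1 (hord 2 h))
    obtain ⟨i, hi, hfi⟩ := selfdual_structure f N hN hfN h2 hsd
    obtain ⟨c, hc, hic⟩ := nt_plus (Fintype.card F) t i Fintype.card_pos ht ht2 (hord _ hfi)
    rw [← hk] at hic
    have hkeven : Even k := by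
      by_contra hodd
      rw [Nat.not_even_iff_odd] at hodd
      have := hodd.mul hc
      rw [← hic] at this
      exact (Nat.not_odd_iff_even.2 (even_two_mul i)) this
    have h3 : 2 * η = k := by
      rcases hη with ⟨h, -⟩ | ⟨-, h⟩
      · exact absurd hkeven (Nat.not_even_iff_odd.2 h)
      · exact h
    have h4 : f.natDegree ≤ finrank F V :=
      (natDegree_le_of_dvd hdvd (minpoly.ne_zero (Algebra.IsIntegral.isIntegral g))).trans
        (natDegree_minpoly_le g)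
    omega
  · have h1 := natDegree_add_le (B := B) hrefl hnd (fun c => rfl) hg f hdvd hsd
    have hdi := dual_irreducible (RingHom.id F) f (fun c => rfl)
    have : Fact (Irreducible (dual (RingHom.id F) f)) := ⟨hdi⟩
    have h3 : k ∣ (dual (RingHom.id F) f).natDegree := by
      rw [hk]
      apply order_dvd_natDegree _ N hN
      · rw [dual_dvd_pow_sub_one_iff _ _ (fun c => rfl)]
        exact hfN
      · intro j hj
        rw [dual_dvd_pow_sub_one_iff _ _ (fun c => rfl)] at hj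
        exact hord j hj
    have h4 := Nat.le_of_dvd hdi.natDegree_pos h3
    omega

theorem two_eta_le (p : ℕ) [Fact p.Prime] [CharP F p] (B : V →ₗ[F] V →ₗ[F] F)
    (hrefl : ∀ u v, B u v = 0 → B v u = 0)
    (hnd : ∀ u, (∀ v, B u v = 0) → u = 0) {y y' : End F V} (hy : Isom B y y')
    (r : ℕ) (hr : r.Prime) (hr2 : r ≠ 2) (hrp : r ≠ p) (hyr : y ^ r = 1) (hne : y ≠ 1) (k η : ℕ)
    (hk : k = orderOf ((Fintype.card F : ℕ) : ZMod r))
    (hη : (Odd k ∧ η = k) ∨ (Even k ∧ 2 * η = k)) : 1 ≤ η ∧ 2 * η ≤ finrank F V := by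
  have hp : p.Prime := Fact.out
  have hcop : Nat.Coprime r p := (Nat.coprime_primes hr hp).2 hrp
  have h1 : ¬ IsNilpotent (aeval y (X ^ 1 - 1 : F[X])) :=
    not_nilpotent_pow_sub_one p y 1 r hcop (by rw [one_mul]; exact hyr) (by rw [pow_one]; exact hne)
  obtain ⟨f, hf, hfd, hfn⟩ := exists_irreducible_not_dvd y _ h1
  have : Fact (Irreducible f) := ⟨hf⟩
  have h2 : f ∣ X ^ r - 1 := by
    apply hfd.trans
    apply minpoly.dvd
    simp [hyr]
  apply core B hrefl hnd hy f hfd r hr.pos h2 r hr hr2 _ k η hk hη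
  intro j hj
  by_contra hnd'
  apply hfn
  have hc : Nat.Coprime r j := (Nat.Prime.coprime_iff_not_dvd hr).2 hnd'
  rw [dvd_iff_root] at h2 hj ⊢
  simp only [map_sub, map_pow, aeval_X, map_one, sub_eq_zero] at h2 hj ⊢
  have := pow_gcd_eq_one.2 ⟨h2, hj⟩
  rwa [hc.gcd_eq_one] at this

end Core

end Cfsg.Agent.Lib.Helper45GkA
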