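import Mathlib

set_option autoImplicit false

namespace Cfsg.Agent.Lib.Helper45OrthB

open Module Polynomial

universe u v w

section Dim3

variable {F : Type u} [Field F] {C : Type v} [AddCommGroup C] [Module F C]

theorem preserves_pow {B : C →ₗ[F] C →ₗ[F] F} {y : End F C}
    (hy : ∀ a b, B (y a) (y b) = B a b) (j : ℕ) (a b : C) : B ((y ^ j) a) ((y ^ j) b) = B a b := by
  induction j with
  | zero => simp
  | succ j ih => rw [pow_succ', Module.End.mul_apply, Module.End.mul_apply, hy, ih]

/-- a unipotent isometry `≠ 1` of a 3-dimensional nondegenerate symmetric space is regular -/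
theorem sq_ne_zero_of_unip [Module.Finite F C] (h2 : (2 : F) ≠ 0) (B : C →ₗ[F] C →ₗ[F] F)
    (hS : ∀ x y, B x y = B y x) (hnd : ∀ u, (∀ v, B u v = 0) → u = 0) (hdim : finrank F C = 3)
    (u : End F C) (hu : ∀ a b, B (u a) (u b) = B a b) (hne : u ≠ 1) : (u - 1) * (u - 1) ≠ 0 := by
  intro hsq
  set ν := u - 1 with hν
  have hux : ∀ x, u x = x + ν x := fun x => by simp [hν]
  have hνν : ∀ x, ν (ν x) = 0 := fun x => by
    rw [← Module.End.mul_apply, hsq, LinearMap.zero_apply]
  have h1 : ∀ x, B (ν x) (ν x) = 0 := by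
    intro x
    have h3 := hu x (ν x)
    rw [hux (ν x), hνν, add_zero, hux x, map_add, LinearMap.add_apply] at h3
    linear_combination h3
  have h3 : ∀ x, B x (ν x) = 0 := by
    intro x
    have h4 := hu x x
    rw [hux x] at h4
    simp only [map_add, LinearMap.add_apply] at h4
    rw [h1, hS (ν x) x] at h4
    have h5 : (2 : F) * B x (ν x) = 0 := by linear_combination h4
    exact (mul_eq_zero.1 h5).resolve_left h2
  have h4 : ∀ x z, B x (ν z) = - B z (ν x) := by
    intro x z
    have h5 := h3 (x + z)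
    simp only [map_add, LinearMap.add_apply] at h5
    rw [h3, h3] at h5
    linear_combination h5
  have hle : LinearMap.range ν ≤ LinearMap.ker ν := by
    rintro _ ⟨x, rfl⟩
    exact hνν x
  have hr1 : finrank F (LinearMap.range ν) ≤ 1 := by
    have h5 := LinearMap.finrank_range_add_finrank_ker ν
    have h6 := Submodule.finrank_mono hle
    omega
  have hν0 : ν ≠ 0 := fun h => hne (sub_eq_zero.1 h)
  obtain ⟨x0, hx0⟩ : ∃ x0, ν x0 ≠ 0 := by
    by_contra hcon
    push Not at hcon
    exact hν0 (LinearMap.ext hcon)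
  obtain ⟨⟨w, hw⟩, hspan⟩ := finrank_le_one_iff.1 hr1
  apply hx0
  apply hnd
  intro z
  obtain ⟨c0, hc0⟩ := hspan ⟨ν x0, ⟨x0, rfl⟩⟩
  obtain ⟨c, hc⟩ := hspan ⟨ν z, ⟨z, rfl⟩⟩
  have hc0' : c0 • w = ν x0 := congrArg Subtype.val hc0
  have hc' : c • w = ν z := congrArg Subtype.val hc
  have hc00 : c0 ≠ 0 := by
    rintro rfl
    rw [zero_smul] at hc0'
    exact hx0 hc0'.symm
  have hw' : w = c0⁻¹ • ν x0 := by rw [← hc0', smul_smul, inv_mul_cancel₀ hc00, one_smul]
  rw [hS, h4, ← hc', hw', map_smul, map_smul, h3]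
  simp

theorem dim3_unip [Module.Finite F C] (p : ℕ) [Fact p.Prime] [CharP F p] (hp2 : p ≠ 2)
    (B : C →ₗ[F] C →ₗ[F] F)
    (hS : ∀ x y, B x y = B y x) (hnd : ∀ u, (∀ v, B u v = 0) → u = 0) (hdim : finrank F C = 3)
    (y : End F C) (hy : ∀ a b, B (y a) (y b) = B a b) (hdet : LinearMap.det y = 1) (N : ℕ)
    (h1 : (y ^ N) ^ p = 1) (hne : y ^ N ≠ 1) : y ^ p = 1 := by
  have hp : p.Prime := Fact.out
  have hp3 : 3 ≤ p := by
    have := hp.two_le
    omega
  have h2 : (2 : F) ≠ 0 := by
    intro h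
    have h3 : ((2 : ℕ) : F) = 0 := by exact_mod_cast h
    rw [CharP.cast_eq_zero_iff F p] at h3
    exact hp2 ((Nat.prime_dvd_prime_iff_eq hp Nat.prime_two).1 h3)
  set u := y ^ N with hu
  have hupres : ∀ a b, B (u a) (u b) = B a b := preserves_pow hy N
  set ν := u - 1 with hν
  have hsq : ν * ν ≠ 0 := sq_ne_zero_of_unip h2 B hS hnd hdim u hupres hne
  have hνp : ν ^ p = 0 := by
    have hpoly : ((X : F[X]) - 1) ^ p = X ^ p - 1 := by rw [sub_pow_char, one_pow]
    have h3 := congrArg (aeval u) hpoly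
    simp only [map_pow, map_sub, aeval_X, map_one] at h3
    rw [hν, h3, h1, sub_self]
  have hν3 : ν ^ 3 = 0 := by
    have h3 := Module.End.ker_pow_eq_ker_pow_finrank_of_le (f := ν) (m := p) (by rw [hdim]; exact hp3)
    rw [hνp, hdim, LinearMap.ker_zero] at h3
    exact LinearMap.ker_eq_top.1 h3.symm
  have hν3' : ∀ x, ν (ν (ν x)) = 0 := fun x => by
    have := LinearMap.congr_fun hν3 x
    simpa [pow_succ, Module.End.mul_apply] using this
  obtain ⟨x1, hx1⟩ : ∃ x1, ν (ν x1) ≠ 0 := by
    by_contra hcon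
    push Not at hcon
    exact hsq (LinearMap.ext hcon)
  set e0 := ν (ν x1) with he0
  have hk1 : finrank F (LinearMap.ker ν) = 1 := by
    have l1 : (⊥ : Submodule F C) < LinearMap.ker ν := by
      rw [bot_lt_iff_ne_bot]
      intro h
      have : e0 ∈ LinearMap.ker ν := hν3' x1
      rw [h, Submodule.mem_bot] at this
      exact hx1 this
    have l2 : LinearMap.ker ν < LinearMap.ker (ν * ν) := by
      refine lt_of_le_of_ne (fun z hz => ?_) (fun h => ?_)
      · rw [LinearMap.mem_ker, Module.End.mul_apply, LinearMap.mem_ker.1 hz, map_zero]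
      · have : ν x1 ∈ LinearMap.ker (ν * ν) := hν3' x1
        rw [← h] at this
        exact hx1 this
    have l3 : LinearMap.ker (ν * ν) < ⊤ := by
      rw [lt_top_iff_ne_top]
      intro h
      exact hsq (LinearMap.ker_eq_top.1 h)
    have m1 := Submodule.finrank_lt_finrank_of_lt l1
    have m2 := Submodule.finrank_lt_finrank_of_lt l2
    have m3 := Submodule.finrank_lt_finrank_of_lt l3
    rw [finrank_top, hdim] at m3
    rw [finrank_bot] at m1
    omega
  have hspan : ∀ z, ν z = 0 → ∃ c : F, c • e0 = z := by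
    intro z hz
    have h3 := (finrank_eq_one_iff_of_nonzero' (⟨e0, hν3' x1⟩ : LinearMap.ker ν)
      (fun h => hx1 (congrArg Subtype.val h))).1 hk1 ⟨z, hz⟩
    obtain ⟨c, hc⟩ := h3
    exact ⟨c, congrArg Subtype.val hc⟩
  have hcomm : Commute y ν := by
    have : Commute y u := (Commute.refl y).pow_right N
    exact this.sub_right (Commute.one_right y)
  have hcomm' : ∀ z, ν (y z) = y (ν z) := fun z => by
    rw [← Module.End.mul_apply, ← Module.End.mul_apply, hcomm.eq]
  obtain ⟨a, ha⟩ := hspan (y e0) (by rw [hcomm', hν3' x1, map_zero])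
  set n := y - a • (1 : End F C) with hn
  have hn_apply : ∀ z, n z = y z - a • z := fun z => by simp [hn]
  have hnker : ∀ z, ν z = 0 → n z = 0 := by
    intro z hz
    obtain ⟨c, rfl⟩ := hspan z hz
    rw [hn_apply, map_smul, ← ha, smul_comm, sub_self]
  have hnν : ∀ z, ν (n z) = n (ν z) := fun z => by
    rw [hn_apply, hn_apply, map_sub, map_smul, hcomm']
  have hn3 : n ^ 3 = 0 := by
    apply LinearMap.ext
    intro z
    have e1 : ν (ν (n z)) = 0 := by rw [hnν, hnν]; exact hnker _ (hν3' z)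
    have e2 : ν (n (n z)) = 0 := by rw [hnν]; exact hnker _ e1
    have e3 : n (n (n z)) = 0 := hnker _ e2
    simpa [pow_succ, Module.End.mul_apply] using e3
  have hyp : y ^ p = (a ^ p) • (1 : End F C) := by
    have hpoly : ((X : F[X]) - Polynomial.C a) ^ p = X ^ p - Polynomial.C (a ^ p) := by
      rw [sub_pow_char, Polynomial.C_pow]
    have h3 := congrArg (aeval y) hpoly
    simp only [map_pow, map_sub, aeval_X, aeval_C] at h3
    have h4 : y - algebraMap F (End F C) a = n := by
      rw [hn, Algebra.algebraMap_eq_smul_one]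
    rw [h4, pow_eq_zero_of_le hp3 hn3] at h3
    rw [← sub_eq_zero, Algebra.smul_def, mul_one, map_pow]
    exact h3.symm
  set b := a ^ p with hb
  have hb3 : b ^ 3 = 1 := by
    have h3 : LinearMap.det (y ^ p) = 1 := by rw [map_pow, hdet, one_pow]
    rw [hyp, LinearMap.det_smul, hdim, map_one, mul_one] at h3
    exact h3
  have hb2 : b ^ 2 = 1 := by
    obtain ⟨z, hz⟩ : ∃ z, B e0 z ≠ 0 := by
      by_contra hcon
      push Not at hcon
      exact hx1 (hnd e0 hcon)
    have h3 := preserves_pow hy p e0 z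
    rw [hyp] at h3
    simp only [LinearMap.smul_apply, Module.End.one_apply, map_smul, smul_eq_mul] at h3
    have h4 : (b ^ 2 - 1) * B e0 z = 0 := by linear_combination h3
    exact sub_eq_zero.1 ((mul_eq_zero.1 h4).resolve_right hz)
  have hb1 : b = 1 := by
    have : b ^ 3 = b ^ 2 * b := pow_succ b 2
    rw [hb3, hb2, one_mul] at this
    exact this.symm
  rw [hyp, hb1, one_smul]

end Dim3

end Cfsg.Agent.Lib.Helper45OrthB
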