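import Mathlib
import Cfsg.Agent.Lib.Helper7QFrame
import Cfsg.Agent.Lib.Helper7QForms
import Cfsg.Agent.Lib.Helper42Quad

set_option autoImplicit false

namespace Cfsg.Agent.Lib.Helper45OrthC

universe u v w

theorem sign_of_free {α : Type u} [Fintype α] [DecidableEq α] (σ : Equiv.Perm α) (N : ℕ)
    (hN : Even N) (hσ : σ ^ N = 1) (hfree : ∀ x j, (σ ^ j) x = x → σ x = x ∨ N ∣ j) :
    ∃ m, σ.support.card = N * m ∧ Equiv.Perm.sign σ = (-1) ^ m := by
  have hall : ∀ n ∈ σ.cycleType, n = N := by
    intro n hn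
    have h2 := (Equiv.Perm.dvd_of_mem_cycleType hn).trans (orderOf_dvd_of_pow_eq_one hσ)
    apply Nat.dvd_antisymm h2
    rw [Equiv.Perm.cycleType_def, Multiset.mem_map] at hn
    obtain ⟨c, hc, rfl⟩ := hn
    have hc' : c ∈ σ.cycleFactorsFinset := hc
    have hcyc := (Equiv.Perm.mem_cycleFactorsFinset_iff.1 hc').1
    obtain ⟨x, hx⟩ := hcyc.nonempty_support
    have hcx := Equiv.Perm.cycle_is_cycleOf hx hc'
    have h3 : (σ ^ (c.support.card)) x = x := by
      rw [← Equiv.Perm.cycleOf_pow_apply_self, ← hcx, ← hcyc.orderOf, pow_orderOf_eq_one]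
      rfl
    rcases hfree x _ h3 with h | h
    · exfalso
      have h4 := (Equiv.Perm.mem_cycleFactorsFinset_iff.1 hc').2 x hx
      rw [Equiv.Perm.mem_support, h4] at hx
      exact hx h
    · exact h
  have hrep := Multiset.eq_replicate_card.2 hall
  have hsum : σ.cycleType.sum = N * Multiset.card σ.cycleType := by
    conv_lhs => rw [hrep]
    simp [mul_comm]
  refine ⟨Multiset.card σ.cycleType, ?_, ?_⟩
  · rw [← Equiv.Perm.sum_cycleType, hsum]
  · rw [Equiv.Perm.sign_of_cycleType, hsum, pow_add, pow_mul, hN.neg_one_pow, one_pow, one_mul]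

section Count

open Cfsg.Agent.Lib.Helper7QCount Cfsg.Agent.Lib.Helper7QForms Cfsg.Agent.Lib.Helper7QFrame
  QuadraticMap Module

variable {F : Type u} [Field F] [Fintype F]

theorem cntQ_odd (m : ℕ) (c : F) :
    cntQ (nuOdd F) m c + Fintype.card F ^ m
      = Fintype.card F ^ (2 * m) + Nat.card {x : F // x ^ 2 = c} * Fintype.card F ^ m := by
  have hq : 1 ≤ Fintype.card F := Fintype.card_pos
  induction m with
  | zero =>
    rw [cntQ_zero]
    simp only [nuOdd, pow_zero, mul_zero, mul_one]
    ring
  | succ m ih =>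
    rw [cntQ_succ]
    obtain ⟨t, ht⟩ : ∃ t, Fintype.card F = t + 1 := ⟨Fintype.card F - 1, by omega⟩
    have h1 : Fintype.card F - 1 = t := by omega
    rw [h1]
    have h2 : Fintype.card F * (cntQ (nuOdd F) m c + Fintype.card F ^ m)
      = Fintype.card F * (Fintype.card F ^ (2 * m) +
          Nat.card {x : F // x ^ 2 = c} * Fintype.card F ^ m) := by rw [ih]
    have h3 : Fintype.card F ^ (2 * (m + 1)) = (t + 1) * (Fintype.card F ^ (2 * m) * Fintype.card F) := by
      rw [← ht]; ring
    rw [h3]
    have h4 : Fintype.card F ^ (m + 1) = Fintype.card F * Fintype.card F ^ m := by ring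
    rw [h4]
    nlinarith [h2]

theorem card_level_three {Z : Type v} [AddCommGroup Z] [Module F Z] [Module.Finite F Z]
    (Q : QuadraticForm F Z) (hQ : (polarBilin Q).Nondegenerate) (hdim : finrank F Z = 3) (c : F) :
    ∃ e', e' ≤ Fintype.card F ∧
      Nat.card {z : Z // Q z = c} = Fintype.card F * e' + (Fintype.card F - 1) * Fintype.card F := by
  classical
  obtain ⟨e, he0, he⟩ := Cfsg.Agent.Lib.Helper42Quad.exists_singular Q (by omega)
  obtain ⟨f, hf, hef⟩ := Cfsg.Agent.Lib.Helper42Quad.exists_partner Q hQ e he0 he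
  have hp : IsHyp Q (e, f) := ⟨he, hf, hef⟩
  have : Finite Z := Module.finite_of_finite F
  have : Fintype Z := Fintype.ofFinite Z
  let X := {w : Z // PerpPair Q (e, f) w}
  let Φ : Z ≃ (F × F) × X :=
    { toFun := fun w => ((polar Q w f, polar Q w e),
        ⟨w - polar Q w f • e - polar Q w e • f, perpPair_proj hp w⟩)
      invFun := fun t => t.1.1 • e + t.1.2 • f + t.2.1
      left_inv := fun w => by
        simp only
        abel
      right_inv := fun t => by
        have h1 := polar_split_snd hp t.2.2 t.1.1 t.1.2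
        have h2 := polar_split_fst hp t.2.2 t.1.1 t.1.2
        apply Prod.ext
        · exact Prod.ext h1 h2
        · apply Subtype.ext
          simp only at h1 h2
          simp only [h1, h2]
          abel }
  have hq : 1 ≤ Fintype.card F := Fintype.card_pos
  have hX : Fintype.card X = Fintype.card F := by
    have h1 := Fintype.card_congr Φ
    rw [Fintype.card_prod, Fintype.card_prod, Module.card_eq_pow_finrank (K := F) (V := Z), hdim] at h1
    have h2 : Fintype.card F * Fintype.card F * Fintype.card F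
        = Fintype.card F * Fintype.card F * Fintype.card X := by rw [← h1]; ring
    exact (Nat.eq_of_mul_eq_mul_left (by positivity) h2).symm
  refine ⟨Nat.card {x : X // Q x.1 = c}, ?_, ?_⟩
  · rw [← hX, ← Nat.card_eq_fintype_card]
    exact Finite.card_subtype_le _
  · have h1 := card_step_hyp (fun w : X => Q w.1) c
    rw [hX] at h1
    rw [← h1]
    apply Nat.card_congr
    exact Φ.subtypeEquiv (fun w => by
      have hw : w = Φ.symm (Φ w) := (Φ.symm_apply_apply w).symm
      conv_lhs => rw [hw]
      show Q ((Φ w).1.1 • e + (Φ w).1.2 • f + (Φ w).2.1) = c ↔ _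
      rw [norm_split hp (Φ w).2.2])

end Count

end Cfsg.Agent.Lib.Helper45OrthC
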