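import Mathlib
import Cfsg.Agent.Lib.Helper45OrthA
import Cfsg.Agent.Lib.Helper45OrthB
import Cfsg.Agent.Lib.Helper45OrthC
import Cfsg.Agent.Lib.Helper49CD

set_option autoImplicit false

namespace Cfsg.Agent.Lib.Helper45OrthD

open Module Polynomial Cfsg.Agent.Lib.Helper45Form Cfsg.Agent.Lib.Helper45Semisimple
  Cfsg.Agent.Lib.Helper45PSL Cfsg.Agent.Lib.Helper45SU3 Cfsg.Agent.Lib.Helper45OrthA
  Cfsg.Agent.Lib.Helper45OrthB Cfsg.Agent.Lib.Helper45OrthC Cfsg.Agent.Lib.Helper45PSL4
  Cfsg.Agent.Lib.Helper45PSUHalf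

universe u v w

theorem isom_pow {F : Type u} [Field F] {σ : F →+* F} {V : Type v} [AddCommGroup V] [Module F V]
    {B : V →ₛₗ[σ] V →ₗ[F] F} {g g' : End F V} (h : Isom B g g') (j : ℕ) :
    Isom B (g ^ j) (g' ^ j) where
  mul_inv := by rw [← h.commute.mul_pow, h.mul_inv, one_pow]
  inv_mul := by rw [← h.commute.symm.mul_pow, h.inv_mul, one_pow]
  adj := h.adj.pow j
  adj' := h.adj'.pow j

section Core

variable {F : Type u} [Field F] [Fintype F]

local notation "qF" => Fintype.card F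

theorem core_structure (p : ℕ) [Fact p.Prime] [CharP F p] (hp2 : p ≠ 2)
    {V : Type v} [AddCommGroup V] [Module F V] [Module.Finite F V]
    (B : V →ₗ[F] V →ₗ[F] F) (hS : ∀ x y, B x y = B y x)
    (hnd : ∀ u, (∀ v, B u v = 0) → u = 0) (k : ℕ) (hk : 2 ≤ k) (hdim : finrank F V = 2 * k + 3)
    (G G' : End F V) (hG : Isom B G G') (hdet : LinearMap.det G = 1)
    (h1 : G ^ (p * (qF ^ k + 1)) = 1) (hmin : ∀ j, G ^ j = 1 → p * (qF ^ k + 1) ∣ j) :
    ∃ Z : Submodule F V, finrank F Z = 3 ∧ (∀ u : Z, (∀ v : Z, B u v = 0) → u = 0) ∧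
      (∀ v, (G ^ p) v = v ↔ v ∈ Z) ∧ (∀ v j, ((G ^ p) ^ j) v = v → v ∈ Z ∨ (qF ^ k + 1) ∣ j) := by
  have hp : p.Prime := Fact.out
  have hq2 : 2 ≤ qF := Fintype.one_lt_card
  have hqodd : Odd qF := by
    obtain ⟨e, -, he⟩ := FiniteField.card F p
    rw [he]
    exact (hp.odd_of_ne_two hp2).pow
  set N := qF ^ k + 1 with hN
  obtain ⟨r, hr, hrd, hprim⟩ := Cfsg.Agent.S2904.result qF (2 * k) (by omega) (by omega) (by
      rintro ⟨h2, -⟩
      rw [h2] at hqodd
      exact absurd hqodd (by decide)) (by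
      rintro ⟨h2, -⟩
      omega)
  have hrp : r ≠ p := by
    rintro rfl
    obtain ⟨e, -, he⟩ := FiniteField.card F r
    have h3 : r ∣ qF ^ (2 * k) := dvd_pow (by rw [he]; exact dvd_pow_self r e.ne_zero) (by omega)
    have h4 : 1 ≤ qF ^ (2 * k) := Nat.one_le_pow _ _ (by omega)
    have h5 : r ∣ 1 := by
      have := Nat.dvd_sub h3 hrd
      rwa [Nat.sub_sub_self h4] at this
    exact hr.one_lt.ne' (Nat.dvd_one.1 h5)
  have hrN : r ∣ N := by
    have h3 : qF ^ (2 * k) - 1 = (qF ^ k + 1) * (qF ^ k - 1) := by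
      rw [← Nat.sq_sub_sq, one_pow, ← pow_mul, mul_comm k 2]
    rw [h3] at hrd
    rcases (Nat.Prime.dvd_mul hr).1 hrd with h | h
    · exact h
    · exact absurd h (hprim k (by omega) (by omega))
  have hD : ∀ d, r ∣ Nat.card F ^ d - 1 → 2 * k ∣ d := by
    intro d hd
    rw [Nat.card_eq_fintype_card] at hd
    exact (ppd_iff qF (2 * k) r (by omega) (by omega) hrd hprim d).1 hd
  obtain ⟨N', hN'⟩ := hrN
  have hN'0 : 0 < N' := by
    rcases Nat.eq_zero_or_pos N' with h | h
    · rw [h, mul_zero] at hN'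
      omega
    · exact h
  set e := G ^ (p * N') with he
  have her : e ^ r = 1 := by
    rw [he, ← pow_mul, mul_assoc, mul_comm N' r, ← hN', h1]
  have hne : e ≠ 1 := by
    intro h
    have h3 := hmin _ h
    rw [hN'] at h3
    have h4 := Nat.dvd_of_mul_dvd_mul_left hp.pos h3
    have h5 := Nat.le_of_dvd hN'0 h4
    have := hr.two_le
    nlinarith
  obtain ⟨f, hf, ι, hinj, hι, hrange, hdeg, hker⟩ := ppd_structure p e r hr hrp her hne (2 * k) hD
    (by omega)
  have hcomm : Commute G e := (Commute.refl G).pow_right _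
  obtain ⟨β, hβ⟩ := commutant e G f ι hι hrange hcomm
  have : Fact (Irreducible f) := ⟨hf⟩
  have := finite_adjoinRoot f hf
  have : Finite (AdjoinRoot f) := Module.finite_of_finite F
  have : CharP (AdjoinRoot f) p :=
    charP_of_injective_algebraMap (algebraMap F (AdjoinRoot f)).injective p
  have hβpow := commutant_pow G ι β hβ
  have hpow_one : ∀ j, G ^ j = 1 → β ^ j = 1 := by
    intro j hj
    have h3 := hβpow j 1
    rw [hj, Module.End.one_apply, mul_one] at h3
    exact (hinj h3).symm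
  have hβN : β ^ N = 1 := by
    have h3 := hpow_one _ h1
    rw [mul_comm, pow_mul] at h3
    apply frobenius_inj (AdjoinRoot f) p
    rw [frobenius_def, frobenius_def, h3, one_pow]
  set Z := LinearMap.ker (e - 1) with hZ
  set W := LinearMap.range (e - 1) with hW
  have hZ3 : finrank F Z = 3 := by omega
  have hcompl : IsCompl Z W := isCompl_ker_range e r (by
    intro h
    rw [CharP.cast_eq_zero_iff F p] at h
    exact hrp ((Nat.prime_dvd_prime_iff_eq hp hr).1 h).symm) her
  have hcomm' : Commute (e - 1) G := (hcomm.symm).sub_left (Commute.one_left G)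
  have hZi : Z ∈ G.invtSubmodule := ker_mem_invt hcomm'
  have hWi : W ∈ G.invtSubmodule := range_mem_invt hcomm'
  have he_isom : Isom B e (G' ^ (p * N')) := isom_pow hG _
  obtain ⟨ho1, ho2⟩ := ortho_ker_range he_isom
  have hZnd : ∀ u : Z, (∀ v : Z, B u v = 0) → u = 0 := fun u h =>
    resB_nd hnd Z W hcompl ho1 u h
  have hnorm : Algebra.norm F β = 1 := by
    have h3 := FiniteField.algebraMap_norm_eq_pow_sum (K := F) (L := AdjoinRoot f) (x := β)
    have hfin : finrank F (AdjoinRoot f) = 2 * k := by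
      rw [(AdjoinRoot.powerBasis hf.ne_zero).finrank, AdjoinRoot.powerBasis_dim, hdeg]
    rw [hfin, Nat.card_eq_fintype_card] at h3
    have h4 : ∑ i ∈ Finset.range (2 * k), qF ^ i = N * gs qF k := gs_two_mul qF k
    rw [h4, pow_mul, hβN, one_pow] at h3
    apply (algebraMap F (AdjoinRoot f)).injective
    rw [h3, map_one]
  set y : End F Z := LinearMap.restrict G (p := Z) (q := Z) hZi with hy
  have hdety : LinearMap.det y = 1 := by
    have h3 := det_eq_of_isCompl G Z W hcompl hZi hWi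
    rw [det_restrict_eq_norm G ι hinj W hWi hrange β hβ, hnorm, mul_one, hdet] at h3
    exact h3.symm
  have hsplit : ∀ v : V, ∃ z ∈ Z, ∃ a, v = z + ι a := by
    intro v
    have h3 : v ∈ Z ⊔ W := by rw [hcompl.sup_eq_top]; trivial
    obtain ⟨z, hz, w, hw, rfl⟩ := Submodule.mem_sup.1 h3
    rw [← hrange] at hw
    obtain ⟨a, rfl⟩ := hw
    exact ⟨z, hz, a, rfl⟩
  have hyp : y ^ p = 1 := by
    apply dim3_unip p hp2 (resB B Z) (fun a b => hS _ _) hZnd hZ3 y
      (fun a b => hG.preserves _ _) hdety N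
    · apply LinearMap.ext
      intro z
      apply Subtype.ext
      rw [← pow_mul, restrict_pow_apply Z hZi, mul_comm, h1]
      rfl
    · intro h
      have h3 : G ^ N = 1 := by
        apply LinearMap.ext
        intro v
        obtain ⟨z, hz, a, rfl⟩ := hsplit v
        have h4 := restrict_pow_apply Z hZi N ⟨z, hz⟩
        rw [← hy, h] at h4
        rw [map_add, hβpow, hβN, one_mul, ← h4]
        rfl
      have h4 := hmin _ h3
      have h5 := Nat.le_of_dvd (by omega) h4
      have := hp.two_le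
      have hN1 : 1 ≤ N := by omega
      nlinarith
  have hK1 : ∀ z ∈ Z, ∀ j, ((G ^ p) ^ j) z = z := by
    intro z hz j
    have h4 := restrict_pow_apply Z hZi (p * j) ⟨z, hz⟩
    rw [← hy, pow_mul, hyp, one_pow] at h4
    rw [← pow_mul, ← h4]
    rfl
  have hfree : ∀ v j, ((G ^ p) ^ j) v = v → v ∈ Z ∨ N ∣ j := by
    intro v j hv
    obtain ⟨z, hz, a, rfl⟩ := hsplit v
    rw [map_add, hK1 z hz, ← pow_mul, hβpow] at hv
    have h3 : β ^ (p * j) * a = a := hinj (add_left_cancel hv)
    have h4 : (β ^ (p * j) - 1) * a = 0 := by rw [sub_mul, h3, one_mul, sub_self]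
    rcases mul_eq_zero.1 h4 with h5 | h5
    · right
      have h6 : G ^ (p * j) = 1 := by
        apply LinearMap.ext
        intro v
        obtain ⟨z', hz', a', rfl⟩ := hsplit v
        rw [map_add, hβpow, sub_eq_zero.1 h5, one_mul, pow_mul, hK1 z' hz']
        rfl
      exact Nat.dvd_of_mul_dvd_mul_left hp.pos (hmin _ h6)
    · left
      rw [h5, map_zero, add_zero]
      exact hz
  refine ⟨Z, hZ3, hZnd, ?_, hfree⟩
  intro v
  constructor
  · intro hv
    rcases hfree v 1 (by rw [pow_one]; exact hv) with h | h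
    · exact h
    · exfalso
      have := Nat.le_of_dvd one_pos h
      have : 1 ≤ qF ^ k := Nat.one_le_pow _ _ (by omega)
      omega
  · intro hv
    have := hK1 v hv 1
    rwa [pow_one] at this

end Core


theorem arith (q k m e' : ℕ) (hq : Odd q) (hq2 : 2 ≤ q) (hk : 1 ≤ k) (he : e' ≤ q)
    (h : (q ^ k + 1) * m + (q * e' + (q - 1) * q) = q ^ (2 * (k + 1)) + q ^ (k + 1)) : Odd m := by
  obtain ⟨k', rfl⟩ : ∃ k', k = k' + 1 := ⟨k - 1, by omega⟩
  have hcop : Nat.Coprime (q ^ (k' + 1) + 1) q := by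
    rw [Nat.coprime_comm, pow_succ, Nat.coprime_mul_right_add_right]
    exact Nat.coprime_one_right q
  have ht1 : q ≤ q ^ (k' + 1) := by
    calc q = q ^ 1 := (pow_one q).symm
      _ ≤ q ^ (k' + 1) := Nat.pow_le_pow_right (by omega) (by omega)
  obtain ⟨t', ht'⟩ : ∃ t', q ^ (k' + 1) = t' + 1 := ⟨q ^ (k' + 1) - 1, by omega⟩
  obtain ⟨q', hq'⟩ : ∃ q', q = q' + 1 := ⟨q - 1, by omega⟩
  have h1 : q - 1 = q' := by omega
  have e1 : q ^ (2 * (k' + 1 + 1)) = q ^ 2 * (t' + 1) ^ 2 := by
    rw [← ht']; ring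
  have e2 : q ^ (k' + 1 + 1) = q * (t' + 1) := by
    rw [← ht']; ring
  rw [e1, e2, h1, ht'] at h
  have h2 : (t' + 1 + 1) * m + q * e' = (t' + 1 + 1) * (q ^ 2 * t' + q) := by
    have : q' * q + q = q ^ 2 := by rw [hq']; ring
    nlinarith
  have h3 : (t' + 1 + 1) ∣ q * e' := by
    have h4 : (t' + 1 + 1) ∣ (t' + 1 + 1) * m + q * e' := by rw [h2]; exact Dvd.intro _ rfl
    exact (Nat.dvd_add_right (Dvd.intro _ rfl)).1 h4
  rw [ht'] at hcop
  have h4 : (t' + 1 + 1) ∣ e' := hcop.dvd_of_dvd_mul_left h3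
  have h5 : e' = 0 := by
    rcases Nat.eq_zero_or_pos e' with h | h
    · exact h
    · have := Nat.le_of_dvd h h4
      omega
  rw [h5, mul_zero, add_zero] at h2
  have h6 : m = q ^ 2 * t' + q := Nat.eq_of_mul_eq_mul_left (by omega) h2
  have h7 : Even t' := by
    have : Odd (t' + 1) := by rw [← ht']; exact hq.pow
    rcases Nat.even_or_odd t' with h | h
    · exact h
    · exact absurd (h.add_one) (Nat.not_even_iff_odd.2 this)
  rw [h6]
  exact (h7.mul_left _).add_odd hq

section Concrete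

open Cfsg.Agent.Lib.Helper49Orth QuadraticMap

variable {F : Type u} [Field F] {ι : Type} [Fintype ι] [DecidableEq ι]

/-- the endomorphism of an isometry -/
noncomputable def linOf {Q : (ι → F) → F} (g : ↥(Cfsg.isometryGroup F Q)) : End F (ι → F) :=
  Matrix.toLin' ((g : Matrix.GeneralLinearGroup ι F) : Matrix ι ι F)

theorem linOf_apply {Q : (ι → F) → F} (g : ↥(Cfsg.isometryGroup F Q)) (v : ι → F) :
    linOf g v = ((g : Matrix.GeneralLinearGroup ι F) : Matrix ι ι F).mulVec v := rfl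

theorem linOf_mul {Q : (ι → F) → F} (g h : ↥(Cfsg.isometryGroup F Q)) :
    linOf (g * h) = linOf g * linOf h := by
  unfold linOf
  rw [Subgroup.coe_mul, Units.val_mul, Matrix.toLin'_mul]
  rfl

theorem linOf_one {Q : (ι → F) → F} : linOf (1 : ↥(Cfsg.isometryGroup F Q)) = 1 := by
  unfold linOf
  rw [Subgroup.coe_one, Units.val_one, Matrix.toLin'_one]
  rfl

theorem linOf_pow {Q : (ι → F) → F} (g : ↥(Cfsg.isometryGroup F Q)) (j : ℕ) :
    linOf (g ^ j) = linOf g ^ j := by
  induction j with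
  | zero => rw [pow_zero, pow_zero, linOf_one]
  | succ j ih => rw [pow_succ, pow_succ, linOf_mul, ih]

theorem linOf_injective {Q : (ι → F) → F} :
    Function.Injective (linOf : ↥(Cfsg.isometryGroup F Q) → End F (ι → F)) := by
  intro g h hgh
  apply Subtype.ext
  apply Units.ext
  exact Matrix.toLin'.injective hgh

theorem linOf_eq_one_iff {Q : (ι → F) → F} (g : ↥(Cfsg.isometryGroup F Q)) :
    linOf g = 1 ↔ g = 1 := by
  rw [← linOf_one (Q := Q)]
  exact linOf_injective.eq_iff

theorem linOf_isom (Q : QuadraticForm F (ι → F)) (g : ↥(Cfsg.isometryGroup F ⇑Q)) :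
    Isom (polarBilin Q) (linOf g) (linOf g⁻¹) := by
  refine Isom.of_preserves ?_ ?_ ?_
  · rw [← linOf_mul, mul_inv_cancel, linOf_one]
  · rw [← linOf_mul, inv_mul_cancel, linOf_one]
  · intro u v
    exact polar_iso Q g u v

theorem det_linOf (Q : QuadraticForm F (ι → F)) (g : ↥(Cfsg.isometryGroup F ⇑Q)) :
    LinearMap.det (linOf g) = ((detO Q g : Fˣ) : F) := by
  unfold linOf
  rw [LinearMap.det_toLin', detO_apply]

variable [Fintype F]

local notation "qF" => Fintype.card F

theorem no_order (p : ℕ) [Fact p.Prime] [CharP F p] (hp2 : p ≠ 2) (Q : QuadraticForm F (ι → F))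
    (hQ : (polarBilin Q).Nondegenerate) (k : ℕ) (hk : 2 ≤ k) (hcard : Fintype.card ι = 2 * k + 3)
    (hcnt : Nat.card {v : ι → F // Q v = 1} = qF ^ (2 * (k + 1)) + qF ^ (k + 1))
    (g : ↥(Cfsg.isometryGroup F ⇑Q)) (hdet : detO Q g = 1) (hchi : chi Q 1 g = 1) :
    orderOf g ≠ p * (qF ^ k + 1) := by
  classical
  intro ho
  have hp : p.Prime := Fact.out
  have hq2 : 2 ≤ qF := Fintype.one_lt_card
  have hqodd : Odd qF := by
    obtain ⟨e, -, he⟩ := FiniteField.card F p
    rw [he]
    exact (hp.odd_of_ne_two hp2).pow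
  have hnd : ∀ u, (∀ v, polarBilin Q u v = 0) → u = 0 :=
    (Cfsg.Agent.Lib.Helper42Quad.nondeg_iff Q).1 hQ
  obtain ⟨Z, hZ3, hZnd, hZfix, hfree⟩ := core_structure p hp2 (polarBilin Q)
    (fun x y => polar_comm Q x y) hnd k hk (by rw [Module.finrank_fintype_fun_eq_card, hcard])
    (linOf g) (linOf g⁻¹) (linOf_isom Q g) (by rw [det_linOf, hdet, Units.val_one])
    (by rw [← linOf_pow, ← ho, pow_orderOf_eq_one, linOf_one])
    (fun j hj => by
      rw [← ho]
      apply orderOf_dvd_of_pow_eq_one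
      rwa [← linOf_pow, linOf_eq_one_iff] at hj)
  set N := qF ^ k + 1 with hN
  have hNeven : Even N := hqodd.pow.add_one
  set σ := levPerm Q 1 (g ^ p) with hσ
  have hσpow : ∀ (j : ℕ) (x : {x : ι → F // Q x = 1}), (((σ ^ j) x : {x : ι → F // Q x = 1}) : ι → F)
      = ((linOf g ^ p) ^ j) x.1 := by
    intro j x
    rw [hσ, ← map_pow, levPerm_apply, ← linOf_apply, linOf_pow, linOf_pow]
  obtain ⟨m, hm, hsign⟩ := sign_of_free σ N hNeven (by
      rw [hσ, ← map_pow, ← pow_mul, ← ho, pow_orderOf_eq_one, map_one]) (by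
      intro x j hx
      have h1 := congrArg Subtype.val hx
      rw [hσpow] at h1
      rcases hfree _ _ h1 with h | h
      · left
        apply Subtype.ext
        have h2 := hσpow 1 x
        rw [pow_one, pow_one] at h2
        rw [h2]
        exact (hZfix _).2 h
      · exact Or.inr h)
  have hchi' : Equiv.Perm.sign σ = 1 := by
    have h1 : chi Q 1 (g ^ p) = Equiv.Perm.sign σ := rfl
    rw [← h1, map_pow, hchi, one_pow]
  have hmeven : Even m := by
    rw [hsign] at hchi'
    by_contra hodd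
    rw [Nat.not_even_iff_odd] at hodd
    rw [hodd.neg_one_pow] at hchi'
    exact absurd hchi' (by decide)
  have hQZ : (polarBilin (Q.comp Z.subtype)).Nondegenerate := by
    rw [Cfsg.Agent.Lib.Helper42Quad.nondeg_iff]
    intro x hx
    apply hZnd
    intro v
    have := hx v
    rwa [Cfsg.Agent.Lib.Helper42Quad.polar_comp_subtype] at this
  obtain ⟨e', he', hcZ⟩ := card_level_three (Q.comp Z.subtype) hQZ hZ3 1
  have hfix : Nat.card {z : Z // (Q.comp Z.subtype) z = 1} = (σ.supportᶜ).card := by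
    rw [← Fintype.card_coe, ← Nat.card_eq_fintype_card]
    apply Nat.card_congr
    refine ⟨fun z => ⟨⟨z.1.1, z.2⟩, ?_⟩, fun x => ⟨⟨x.1.1, ?_⟩, x.1.2⟩, fun z => rfl, fun x => rfl⟩
    · rw [Finset.mem_compl, Equiv.Perm.mem_support, not_not]
      apply Subtype.ext
      have h2 := hσpow 1 ⟨z.1.1, z.2⟩
      rw [pow_one, pow_one] at h2
      rw [h2]
      exact (hZfix _).2 z.1.2
    · have h1 := x.2
      rw [Finset.mem_compl, Equiv.Perm.mem_support, not_not] at h1
      have h2 := hσpow 1 x.1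
      rw [pow_one, pow_one, h1] at h2
      exact (hZfix _).1 h2.symm
  have htot : σ.support.card + (σ.supportᶜ).card = Nat.card {v : ι → F // Q v = 1} := by
    rw [Finset.card_add_card_compl, Nat.card_eq_fintype_card]
  rw [hm, ← hfix, hcZ, hcnt] at htot
  exact (Nat.not_even_iff_odd.2 (arith qF k m e' hqodd hq2 (by omega) he' htot)) hmeven

end Concrete

end Cfsg.Agent.Lib.Helper45OrthD
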