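import Mathlib

set_option autoImplicit false

namespace Cfsg.Agent.Lib.Helper45TrA

open Module

universe u v w

section Prod

variable {F : Type u} [Field F] {V₁ : Type v} [AddCommGroup V₁] [Module F V₁]
  {V₂ : Type w} [AddCommGroup V₂] [Module F V₂]

/-- orthogonal direct sum of two bilinear forms -/
noncomputable def prodB (β₁ : V₁ →ₗ[F] V₁ →ₗ[F] F) (β₂ : V₂ →ₗ[F] V₂ →ₗ[F] F) :
    (V₁ × V₂) →ₗ[F] (V₁ × V₂) →ₗ[F] F :=
  β₁.compl₁₂ (LinearMap.fst F V₁ V₂) (LinearMap.fst F V₁ V₂) +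
    β₂.compl₁₂ (LinearMap.snd F V₁ V₂) (LinearMap.snd F V₁ V₂)

theorem prodB_apply (β₁ : V₁ →ₗ[F] V₁ →ₗ[F] F) (β₂ : V₂ →ₗ[F] V₂ →ₗ[F] F) (x y : V₁ × V₂) :
    prodB β₁ β₂ x y = β₁ x.1 y.1 + β₂ x.2 y.2 := rfl

theorem prodB_nd {β₁ : V₁ →ₗ[F] V₁ →ₗ[F] F} {β₂ : V₂ →ₗ[F] V₂ →ₗ[F] F}
    (h₁ : ∀ u, (∀ v, β₁ u v = 0) → u = 0) (h₂ : ∀ u, (∀ v, β₂ u v = 0) → u = 0)
    (u : V₁ × V₂) (h : ∀ v, prodB β₁ β₂ u v = 0) : u = 0 := by
  apply Prod.ext
  · apply h₁
    intro v
    simpa [prodB_apply] using h (v, 0)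
  · apply h₂
    intro v
    simpa [prodB_apply] using h (0, v)

theorem prodMap_pow (f : End F V₁) (g : End F V₂) (j : ℕ) :
    (LinearMap.prodMap f g : End F (V₁ × V₂)) ^ j = LinearMap.prodMap (f ^ j) (g ^ j) := by
  induction j with
  | zero => simp only [pow_zero]; exact LinearMap.prodMap_one.symm
  | succ j ih => rw [pow_succ, pow_succ, pow_succ, ih, LinearMap.prodMap_mul]

theorem prodMap_eq_one_iff (f : End F V₁) (g : End F V₂) :
    (LinearMap.prodMap f g : End F (V₁ × V₂)) = 1 ↔ f = 1 ∧ g = 1 := by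
  constructor
  · intro h
    constructor
    · apply LinearMap.ext
      intro x
      exact congrArg Prod.fst (LinearMap.congr_fun h (x, 0))
    · apply LinearMap.ext
      intro x
      exact congrArg Prod.snd (LinearMap.congr_fun h (0, x))
  · rintro ⟨rfl, rfl⟩
    exact LinearMap.prodMap_one

theorem prodMap_eq_neg_one_iff (f : End F V₁) (g : End F V₂) :
    (LinearMap.prodMap f g : End F (V₁ × V₂)) = -1 ↔ f = -1 ∧ g = -1 := by
  constructor
  · intro h
    constructor
    · apply LinearMap.ext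
      intro x
      exact congrArg Prod.fst (LinearMap.congr_fun h (x, 0))
    · apply LinearMap.ext
      intro x
      exact congrArg Prod.snd (LinearMap.congr_fun h (0, x))
  · rintro ⟨rfl, rfl⟩
    apply LinearMap.ext
    intro x
    rfl

theorem prodMap_pres {β₁ : V₁ →ₗ[F] V₁ →ₗ[F] F} {β₂ : V₂ →ₗ[F] V₂ →ₗ[F] F} {f : End F V₁}
    {g : End F V₂} (hf : ∀ x y, β₁ (f x) (f y) = β₁ x y) (hg : ∀ x y, β₂ (g x) (g y) = β₂ x y)
    (x y : V₁ × V₂) :
    prodB β₁ β₂ ((LinearMap.prodMap f g : End F (V₁ × V₂)) x)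
      ((LinearMap.prodMap f g : End F (V₁ × V₂)) y) = prodB β₁ β₂ x y := by
  simp only [prodB_apply, LinearMap.prodMap_apply, hf, hg]

end Prod

section Models

variable (F : Type u) [Field F]

/-- dot product form -/
noncomputable def dotB (d : ℕ) : (Fin d → F) →ₗ[F] (Fin d → F) →ₗ[F] F :=
  LinearMap.mk₂ F (fun x y => x ⬝ᵥ y) (fun x y z => add_dotProduct x y z)
    (fun c x y => smul_dotProduct c x y) (fun x y z => dotProduct_add x y z)
    (fun c x y => dotProduct_smul c x y)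

theorem dotB_apply (d : ℕ) (x y : Fin d → F) : dotB F d x y = x ⬝ᵥ y := rfl

theorem dotB_symm (d : ℕ) (x y : Fin d → F) : dotB F d x y = dotB F d y x := dotProduct_comm x y

theorem dotB_nd (d : ℕ) (u : Fin d → F) (h : ∀ v, dotB F d u v = 0) : u = 0 :=
  dotProduct_eq_zero u h

/-- the standard alternating form on `X × X` -/
noncomputable def altB (d : ℕ) :
    ((Fin d → F) × (Fin d → F)) →ₗ[F] ((Fin d → F) × (Fin d → F)) →ₗ[F] F :=
  (dotB F d).compl₁₂ (LinearMap.fst F _ _) (LinearMap.snd F _ _) -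
    (dotB F d).compl₁₂ (LinearMap.snd F _ _) (LinearMap.fst F _ _)

theorem altB_apply (d : ℕ) (x y : (Fin d → F) × (Fin d → F)) :
    altB F d x y = x.1 ⬝ᵥ y.2 - x.2 ⬝ᵥ y.1 := rfl

theorem altB_self (d : ℕ) (x : (Fin d → F) × (Fin d → F)) : altB F d x x = 0 := by
  rw [altB_apply, dotProduct_comm, sub_self]

theorem altB_nd (d : ℕ) (u : (Fin d → F) × (Fin d → F)) (h : ∀ v, altB F d u v = 0) : u = 0 := by
  apply Prod.ext
  · apply dotProduct_eq_zero
    intro w
    simpa [altB_apply] using h (0, w)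
  · apply dotProduct_eq_zero
    intro w
    simpa [altB_apply] using h (w, 0)

/-- the shear `(a, b) ↦ (a + b, b)` -/
noncomputable def shear (d : ℕ) : End F ((Fin d → F) × (Fin d → F)) :=
  LinearMap.prod (LinearMap.fst F _ _ + LinearMap.snd F _ _) (LinearMap.snd F _ _)

theorem shear_apply (d : ℕ) (x : (Fin d → F) × (Fin d → F)) :
    shear F d x = (x.1 + x.2, x.2) := rfl

theorem shear_pres (d : ℕ) (x y : (Fin d → F) × (Fin d → F)) :
    altB F d (shear F d x) (shear F d y) = altB F d x y := by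
  simp only [altB_apply, shear_apply, add_dotProduct, dotProduct_add]
  ring

theorem shear_sub_one_sq (d : ℕ) : (shear F d ^ 1 - 1) ^ 2 = 0 := by
  have h1 : ∀ x, (shear F d - 1) x = (x.2, 0) := by
    intro x
    rw [LinearMap.sub_apply, shear_apply, Module.End.one_apply]
    ext <;> simp
  apply LinearMap.ext
  intro x
  rw [pow_one, pow_two, Module.End.mul_apply, h1, h1]
  rfl

theorem shear_ne_one (d : ℕ) (hd : 1 ≤ d) : shear F d ≠ 1 := by
  intro h
  have h1 := congrArg Prod.fst (LinearMap.congr_fun h (0, fun _ => 1))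
  have h2 := congrFun h1 ⟨0, hd⟩
  simp [shear_apply] at h2

/-- sum of two squares -/
noncomputable def rotB : (F × F) →ₗ[F] (F × F) →ₗ[F] F :=
  prodB (LinearMap.mul F F) (LinearMap.mul F F)

theorem rotB_apply (x y : F × F) : rotB F x y = x.1 * y.1 + x.2 * y.2 := rfl

theorem rotB_symm (x y : F × F) : rotB F x y = rotB F y x := by
  rw [rotB_apply, rotB_apply]; ring

theorem rotB_nd (u : F × F) (h : ∀ v, rotB F u v = 0) : u = 0 := by
  apply Prod.ext
  · simpa [rotB_apply] using h (1, 0)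
  · simpa [rotB_apply] using h (0, 1)

noncomputable def rot : End F (F × F) :=
  LinearMap.prod (-LinearMap.snd F F F) (LinearMap.fst F F F)

theorem rot_apply (x : F × F) : rot F x = (-x.2, x.1) := rfl

theorem rot_pres (x y : F × F) : rotB F (rot F x) (rot F y) = rotB F x y := by
  simp only [rotB_apply, rot_apply]; ring

theorem rot_sq : rot F ^ 2 = -1 := by
  apply LinearMap.ext
  intro x
  rw [pow_two, Module.End.mul_apply, rot_apply, rot_apply]
  rfl

/-- the form `a b' + b a' + 2 c c'` -/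
noncomputable def uniB : (F × F × F) →ₗ[F] (F × F × F) →ₗ[F] F :=
  LinearMap.mk₂ F (fun x y => x.1 * y.2.1 + x.2.1 * y.1 + 2 * x.2.2 * y.2.2)
    (fun x y z => by simp only [Prod.fst_add, Prod.snd_add]; ring)
    (fun c x y => by simp only [Prod.smul_fst, Prod.smul_snd, smul_eq_mul]; ring)
    (fun x y z => by simp only [Prod.fst_add, Prod.snd_add]; ring)
    (fun c x y => by simp only [Prod.smul_fst, Prod.smul_snd, smul_eq_mul]; ring)

theorem uniB_apply (x y : F × F × F) :
    uniB F x y = x.1 * y.2.1 + x.2.1 * y.1 + 2 * x.2.2 * y.2.2 := rfl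

theorem uniB_symm (x y : F × F × F) : uniB F x y = uniB F y x := by
  rw [uniB_apply, uniB_apply]; ring

theorem uniB_nd (h2 : (2 : F) ≠ 0) (u : F × F × F) (h : ∀ v, uniB F u v = 0) : u = 0 := by
  have h1 := h (0, 1, 0)
  have h3 := h (1, 0, 0)
  have h4 := h (0, 0, 1)
  simp only [uniB_apply, mul_one, mul_zero, add_zero, zero_add] at h1 h3 h4
  have h5 : u.2.2 = 0 := (mul_eq_zero.1 h4).resolve_left h2
  exact Prod.ext h1 (Prod.ext h3 h5)

noncomputable def uni : End F (F × F × F) :=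
  LinearMap.prod (LinearMap.fst F F (F × F) - (2 : F) • (LinearMap.snd F F F ∘ₗ LinearMap.snd F F (F × F))
      - LinearMap.fst F F F ∘ₗ LinearMap.snd F F (F × F))
    (LinearMap.prod (LinearMap.fst F F F ∘ₗ LinearMap.snd F F (F × F))
      (LinearMap.snd F F F ∘ₗ LinearMap.snd F F (F × F) + LinearMap.fst F F F ∘ₗ LinearMap.snd F F (F × F)))

theorem uni_apply (x : F × F × F) :
    uni F x = (x.1 - 2 * x.2.2 - x.2.1, x.2.1, x.2.2 + x.2.1) := rfl

theorem uni_pres (x y : F × F × F) : uniB F (uni F x) (uni F y) = uniB F x y := by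
  simp only [uniB_apply, uni_apply]; ring

theorem uni_sub_one_cube : (uni F ^ 1 - 1) ^ 3 = 0 := by
  have h1 : ∀ x, (uni F - 1) x = (- 2 * x.2.2 - x.2.1, 0, x.2.1) := by
    intro x
    rw [LinearMap.sub_apply, uni_apply, Module.End.one_apply]
    ext <;> simp <;> ring
  apply LinearMap.ext
  intro x
  rw [pow_one, pow_succ, pow_two, Module.End.mul_apply, Module.End.mul_apply, h1, h1, h1]
  ext <;> simp

theorem uni_ne_one : uni F ≠ 1 := by
  intro h
  have h1 := congrArg (fun z => z.2.2) (LinearMap.congr_fun h (0, 1, 0))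
  simp [uni_apply] at h1

end Models

end Cfsg.Agent.Lib.Helper45TrA
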