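import Mathlib
import Cfsg.Agent.Lib.Helper45TrA
import Cfsg.Agent.Lib.Helper45OrthD
import Cfsg.Agent.Lib.Helper45SpTri

set_option autoImplicit false

namespace Cfsg.Agent.Lib.Helper45TrB

open Module Cfsg.Agent.Lib.Helper45Form Cfsg.Agent.Lib.Helper45SU3 Cfsg.Agent.Lib.Helper45TrA
  Cfsg.Agent.Lib.Helper45Sp Cfsg.Agent.Lib.Helper45SpTri

universe u v w

section Unip

variable {F : Type u} [Field F] {V : Type v} [AddCommGroup V] [Module F V]

theorem pow_eq_one_iff_of_unip (p : ℕ) [Fact p.Prime] [CharP F p] (x : End F V) (e : ℕ)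
    (he : e ≤ p) (h : (x ^ 1 - 1) ^ e = 0) (hne : x ≠ 1) (j : ℕ) : x ^ j = 1 ↔ p ∣ j := by
  have h1 : x ^ p = 1 := by
    have := pow_eq_one_of_sub_one_pow p x 1 e 1 h (by rwa [pow_one])
    rwa [one_mul, pow_one] at this
  rw [← orderOf_eq_prime h1 hne, orderOf_dvd_iff_pow_eq_one]

theorem pow_eq_one_iff_of_prime (p : ℕ) [Fact p.Prime] (x : End F V) (h1 : x ^ p = 1)
    (hne : x ≠ 1) (j : ℕ) : x ^ j = 1 ↔ p ∣ j := by
  rw [← orderOf_eq_prime h1 hne, orderOf_dvd_iff_pow_eq_one]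

end Unip

section Transfer

variable {F : Type u} [Field F] {V : Type v} [AddCommGroup V] [Module F V]

/-- the transferred form on an invariant subspace -/
noncomputable def trB (β : V →ₗ[F] V →ₗ[F] F) (y y' : End F V) (A : Submodule F V) :
    A →ₗ[F] A →ₗ[F] F := resB (β ∘ₗ (y - y')) A

theorem trB_apply (β : V →ₗ[F] V →ₗ[F] F) (y y' : End F V) (A : Submodule F V) (a b : A) :
    trB β y y' A a b = β (y a - y' a) b := rfl

theorem trB_swap {β : V →ₗ[F] V →ₗ[F] F} {y y' : End F V} (hy : Isom β y y') (ε : F)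
    (hε : ∀ x z, β z x = ε * β x z) (A : Submodule F V) (a b : A) :
    trB β y y' A b a = - ε * trB β y y' A a b := by
  rw [trB_apply, trB_apply, map_sub, LinearMap.sub_apply, hy.adj, hy.adj', hε (y' a) b, hε (y a) b,
    map_sub, LinearMap.sub_apply]
  ring

theorem fix_of_sq_fix {y : End F V} (M : ℕ) (hM : Odd M) (hyM : y ^ M = 1) (a : V)
    (h : y (y a) = a) : y a = a := by
  obtain ⟨t, ht⟩ := hM
  have h1 : ∀ i : ℕ, ((y ^ 2) ^ i) a = a := by
    intro i
    induction i with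
    | zero => simp
    | succ i ih =>
      have h0 : (y ^ 2) a = a := by rw [pow_two, Module.End.mul_apply, h]
      rw [pow_succ, Module.End.mul_apply, h0, ih]
  have h2 : y = (y ^ 2) ^ (t + 1) := by
    rw [← pow_mul, show 2 * (t + 1) = M + 1 by omega, pow_succ, hyM, one_mul]
  calc y a = ((y ^ 2) ^ (t + 1)) a := by rw [← h2]
    _ = a := h1 _

theorem trB_nd {β : V →ₗ[F] V →ₗ[F] F} {y y' : End F V} (hy : Isom β y y') (M : ℕ) (hM : Odd M)
    (hyM : y ^ M = 1) (A : Submodule F V) (hA : A ∈ y.invtSubmodule) (hA' : A ∈ y'.invtSubmodule)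
    (hnd : ∀ u : A, (∀ v : A, β u v = 0) → u = 0) (hfix : ∀ a ∈ A, y a = a → a = 0)
    (u : A) (h : ∀ v, trB β y y' A u v = 0) : u = 0 := by
  have h1 : y u - y' u ∈ A := A.sub_mem (hA u.2) (hA' u.2)
  have h2 : (⟨y u - y' u, h1⟩ : A) = 0 := hnd _ (fun v => h v)
  have h3 : y u - y' u = 0 := congrArg Subtype.val h2
  have h4 : y (y u) = u := by
    rw [sub_eq_zero.1 h3, ← Module.End.mul_apply, hy.mul_inv]
    rfl
  exact Subtype.ext (hfix u u.2 (fix_of_sq_fix M hM hyM u h4))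

theorem trB_pres {β : V →ₗ[F] V →ₗ[F] F} {y y' h : End F V}
    (hh : ∀ x z, β (h x) (h z) = β x z) (hc : Commute h y) (hc' : Commute h y')
    (A : Submodule F V) (hA : A ∈ h.invtSubmodule) (a b : A) :
    trB β y y' A (LinearMap.restrict h (p := A) (q := A) hA a)
      (LinearMap.restrict h (p := A) (q := A) hA b) = trB β y y' A a b := by
  rw [trB_apply, trB_apply]
  show β (y (h a) - y' (h a)) (h b) = _
  have e1 : y (h a) = h (y a) := by
    rw [← Module.End.mul_apply, ← Module.End.mul_apply, hc.eq]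
  have e2 : y' (h a) = h (y' a) := by
    rw [← Module.End.mul_apply, ← Module.End.mul_apply, hc'.eq]
  rw [e1, e2, ← map_sub, hh]

end Transfer

section Real

variable {F : Type u} [Field F] {V : Type v} [AddCommGroup V] [Module F V] [Module.Finite F V]

theorem even_finrank_of_alt (β : V →ₗ[F] V →ₗ[F] F) (hA : ∀ x, β x x = 0)
    (hnd : ∀ u, (∀ v, β u v = 0) → u = 0) : ∃ m, finrank F V = 2 * m := by
  obtain ⟨m, k, b0, h1, h2, h3, h4⟩ := Cfsg.Agent.S0752.result β hA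
  have hk : k = 0 := by
    by_contra hk
    have hpos : 0 < k := Nat.pos_of_ne_zero hk
    exact b0.ne_zero (Sum.inr ⟨0, hpos⟩) (hnd _ (h4 ⟨0, hpos⟩))
  subst hk
  refine ⟨m, ?_⟩
  have := Module.finrank_eq_card_basis b0
  simp only [Fintype.card_sum, Fintype.card_fin] at this
  omega

theorem real_sp (β : V →ₗ[F] V →ₗ[F] F) (hA : ∀ x, β x x = 0)
    (hnd : ∀ u, (∀ v, β u v = 0) → u = 0) {n : ℕ} (hn : 1 ≤ n) (hdim : finrank F V = 2 * n)
    (h : End F V) (hh : ∀ x z, β (h x) (h z) = β x z) (M : ℕ)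
    (hM : ∀ j, (h ^ j = 1 ∨ h ^ j = -1) ↔ M ∣ j) :
    M ∈ Set.range (orderOf : Cfsg.PSp n F → ℕ) := by
  obtain ⟨b, hb⟩ := exists_symplectic_basis β hA hnd hdim
  refine ⟨QuotientGroup.mk (spOf b hb h hh), ?_⟩
  apply Cfsg.Agent.Lib.Helper45PSL.orderOf_eq_of_pow_iff
  · rw [proj_spOf_pow_eq_one_iff hn, hM]
  · intro j hj
    rwa [proj_spOf_pow_eq_one_iff hn, hM] at hj

end Real

end Cfsg.Agent.Lib.Helper45TrB
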