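import Mathlib
import Cfsg.Agent.Lib.Helper45TrB
import Cfsg.Agent.Lib.Helper18Quad
import Cfsg.Agent.Lib.Helper49All
import Cfsg.Agent.Lib.Helper49OddForm

set_option autoImplicit false

namespace Cfsg.Agent.Lib.Helper45TrC

open Module QuadraticMap QuadraticForm

universe u v w

section Similar

variable {F : Type u} [Field F]

theorem wss_units {d : ℕ} (w : Fin d → Fˣ) :
    weightedSumSquares F w = weightedSumSquares F (fun i => (w i : F)) := by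
  ext v
  simp [weightedSumSquares_apply, Units.smul_def]

variable [Fintype F]

theorem exists_similar (h2 : (2 : F) ≠ 0) {V₁ : Type v} [AddCommGroup V₁] [Module F V₁]
    [Module.Finite F V₁] {V₂ : Type w} [AddCommGroup V₂] [Module F V₂] [Module.Finite F V₂]
    (Q₁ : QuadraticForm F V₁) (Q₂ : QuadraticForm F V₂) [Invertible (2 : F)]
    (h₁ : (associated (R := F) Q₁).SeparatingLeft) (h₂ : (associated (R := F) Q₂).SeparatingLeft)
    (n : ℕ) (hd₁ : finrank F V₁ = 2 * n + 1) (hd₂ : finrank F V₂ = 2 * n + 1) :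
    ∃ (l : F) (φ : V₁ ≃ₗ[F] V₂), l ≠ 0 ∧ ∀ v, Q₂ (φ v) = l * Q₁ v := by
  obtain ⟨w₁, ⟨e₁⟩⟩ := equivalent_weightedSumSquares_units_of_nondegenerate' Q₁ h₁
  obtain ⟨w₂, ⟨e₂⟩⟩ := equivalent_weightedSumSquares_units_of_nondegenerate' Q₂ h₂
  generalize finrank F V₁ = d₁ at w₁ e₁ hd₁
  generalize finrank F V₂ = d₂ at w₂ e₂ hd₂
  subst hd₁ hd₂
  rw [wss_units] at e₁ e₂
  set a : Fin (2 * n + 1) → F := fun i => (w₁ i : F) with ha
  set b : Fin (2 * n + 1) → F := fun i => (w₂ i : F) with hb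
  have ha0 : ∀ i, a i ≠ 0 := fun i => (w₁ i).ne_zero
  have hb0 : ∀ i, b i ≠ 0 := fun i => (w₂ i).ne_zero
  have hpa : ∏ i, a i ≠ 0 := Finset.prod_ne_zero_iff.2 (fun i _ => ha0 i)
  have hpb : ∏ i, b i ≠ 0 := Finset.prod_ne_zero_iff.2 (fun i _ => hb0 i)
  set l := (∏ i, b i) * (∏ i, a i) with hl
  have hl0 : l ≠ 0 := mul_ne_zero hpb hpa
  obtain ⟨e₃⟩ := Cfsg.Agent.Lib.Helper18Quad.equiv_of_prod h2 (fun i => l * a i) b
    (fun i => mul_ne_zero hl0 (ha0 i)) hb0 ⟨0, by omega⟩ ((∏ i, b i) ^ n * (∏ i, a i) ^ (n + 1))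
    (mul_ne_zero (pow_ne_zero _ hpb) (pow_ne_zero _ hpa)) (by
      rw [Finset.prod_mul_distrib, Finset.prod_const, Finset.card_univ, Fintype.card_fin, hl]
      ring)
  refine ⟨l, e₁.toLinearEquiv ≪≫ₗ e₃.toLinearEquiv ≪≫ₗ e₂.symm.toLinearEquiv, hl0, ?_⟩
  intro v
  have h3 : Q₂ (e₂.symm (e₃ (e₁ v))) = weightedSumSquares F b (e₃ (e₁ v)) := by
    rw [← e₂.map_app, e₂.apply_symm_apply]
  show Q₂ (e₂.symm (e₃ (e₁ v))) = _
  rw [h3, e₃.map_app, ← e₁.map_app]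
  simp only [weightedSumSquares_apply, smul_eq_mul, Finset.mul_sum]
  apply Finset.sum_congr rfl
  intro i _
  ring

end Similar

section RealO

open Cfsg.Agent.Lib.Helper49Orth Cfsg.Agent.Lib.Helper49Forms Cfsg.Agent.Lib.Helper45OrthD

variable {F : Type u} [Field F] [Fintype F]

theorem real_iso (h2 : (2 : F) ≠ 0) (n : ℕ) {V : Type v} [AddCommGroup V] [Module F V]
    [Module.Finite F V] (β : V →ₗ[F] V →ₗ[F] F) (hS : ∀ x y, β x y = β y x)
    (hnd : ∀ u, (∀ v, β u v = 0) → u = 0) (hdim : finrank F V = 2 * n + 1)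
    (H : End F V) (hH : ∀ x z, β (H x) (H z) = β x z) (K : ℕ) (hK : 0 < K) (hHK : H ^ K = 1) :
    ∃ g : ↥(Cfsg.isometryGroup F ⇑(QOdd n F)), ∀ j, g ^ j = 1 ↔ H ^ j = 1 := by
  have : Invertible (2 : F) := invertibleOfNonzero h2
  have hQ := Cfsg.Agent.Lib.Helper49OddForm.QOdd_nondegenerate h2 n
  have hnd2 := (Cfsg.Agent.Lib.Helper42Quad.nondeg_iff (QOdd n F)).1 hQ
  obtain ⟨l, φ, hl, hφ⟩ := exists_similar h2 (LinearMap.BilinMap.toQuadraticMap β) (QOdd n F)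
    (by
      rw [associated_left_inverse F hS]
      exact hnd)
    (by
      intro x hx
      apply hnd2
      intro y
      have h3 := hx y
      have h4 := LinearMap.congr_fun (LinearMap.congr_fun (two_nsmul_associated F (QOdd n F)) x) y
      rw [← polarBilin_apply_apply, ← h4]
      simp only [LinearMap.smul_apply, h3, smul_zero])
    n hdim (by
      rw [Module.finrank_fintype_fun_eq_card]
      simp only [Fintype.card_sum, Fintype.card_unit, Fintype.card_fin]; omega)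
  let Ψ : End F V ≃ₐ[F] Matrix (Unit ⊕ (Fin n ⊕ Fin n)) (Unit ⊕ (Fin n ⊕ Fin n)) F :=
    (φ.conjAlgEquiv F).trans LinearMap.toMatrixAlgEquiv'
  have hΨ : ∀ (X : End F V) v, (Ψ X).mulVec v = φ (X (φ.symm v)) := by
    intro X v
    show (LinearMap.toMatrix' (φ.conjAlgEquiv F X)).mulVec v = _
    rw [LinearMap.toMatrix'_mulVec]
    rfl
  obtain ⟨K', rfl⟩ : ∃ K', K = K' + 1 := ⟨K - 1, by omega⟩
  let Hu : (End F V)ˣ := ⟨H, H ^ K', by rw [← pow_succ', hHK], by rw [← pow_succ, hHK]⟩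
  let G : Matrix.GeneralLinearGroup (Unit ⊕ (Fin n ⊕ Fin n)) F :=
    Units.map (Ψ : End F V →* Matrix (Unit ⊕ (Fin n ⊕ Fin n)) (Unit ⊕ (Fin n ⊕ Fin n)) F) Hu
  have hG : (G : Matrix (Unit ⊕ (Fin n ⊕ Fin n)) (Unit ⊕ (Fin n ⊕ Fin n)) F) = Ψ H := rfl
  have hmem : G ∈ Cfsg.isometryGroup F ⇑(QOdd n F) := by
    rw [mem_iso]
    intro v
    rw [hG, hΨ, hφ]
    conv_rhs => rw [← φ.apply_symm_apply v, hφ]
    rw [LinearMap.BilinMap.toQuadraticMap_apply, LinearMap.BilinMap.toQuadraticMap_apply, hH]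
  refine ⟨⟨G, hmem⟩, fun j => ?_⟩
  rw [← Subtype.coe_inj, Subgroup.coe_pow, Subgroup.coe_one, ← Units.val_inj, Units.val_pow_eq_pow_val,
    Units.val_one]
  show (Ψ H) ^ j = 1 ↔ _
  rw [← map_pow, ← map_one Ψ]
  exact Ψ.injective.eq_iff

theorem real_omega (h2 : (2 : F) ≠ 0) (n : ℕ) {V : Type v} [AddCommGroup V] [Module F V]
    [Module.Finite F V] (β : V →ₗ[F] V →ₗ[F] F) (hS : ∀ x y, β x y = β y x)
    (hnd : ∀ u, (∀ v, β u v = 0) → u = 0) (hdim : finrank F V = 2 * n + 1)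
    (H : End F V) (hH : ∀ x z, β (H x) (H z) = β x z) (M : ℕ) (hM0 : 0 < M)
    (hM : ∀ j, (H ^ 2) ^ j = 1 ↔ M ∣ j) :
    ∃ g : ↥(Cfsg.Omega F ⇑(QOdd n F)), orderOf g = M := by
  have hQ := Cfsg.Agent.Lib.Helper49OddForm.QOdd_nondegenerate h2 n
  obtain ⟨g, hg⟩ := real_iso h2 n β hS hnd hdim H hH (2 * M) (by omega) (by
    rw [pow_mul, hM])
  have hq2 : Fintype.card F ≠ 2 := by
    intro h
    apply h2
    have h3 : ((Fintype.card F : ℕ) : F) = 0 := Nat.cast_card_eq_zero F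
    rw [h] at h3
    exact_mod_cast h3
  have hmem := Cfsg.Agent.Lib.Helper49All.sq_mem_Omega (QOdd n F) hQ (Or.inl hq2) g
  refine ⟨⟨g * g, hmem⟩, ?_⟩
  have key : ∀ j, (⟨g * g, hmem⟩ : ↥(Cfsg.Omega F ⇑(QOdd n F))) ^ j = 1 ↔ M ∣ j := by
    intro j
    rw [← Subtype.coe_inj, Subgroup.coe_pow, Subgroup.coe_one]
    show (g * g) ^ j = 1 ↔ _
    rw [← pow_two, ← pow_mul, hg, pow_mul, hM]
  apply Cfsg.Agent.Lib.Helper45PSL.orderOf_eq_of_pow_iff
  · rw [key]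
  · intro j hj
    exact (key j).1 hj

end RealO

end Cfsg.Agent.Lib.Helper45TrC
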