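import Mathlib
import Cfsg.Agent.Lib.Helper45TrC

set_option autoImplicit false

namespace Cfsg.Agent.Lib.Helper45TrD

open Module Cfsg.Agent.Lib.Helper45Form Cfsg.Agent.Lib.Helper45SU3 Cfsg.Agent.Lib.Helper45TrA
  Cfsg.Agent.Lib.Helper45TrB Cfsg.Agent.Lib.Helper45TrC Cfsg.Agent.Lib.Helper45OrthA
  Cfsg.Agent.Lib.Helper45OrthD

universe u v w

section Aux

variable {F : Type u} [Field F] {V : Type v} [AddCommGroup V] [Module F V]

theorem pow_eq_smul_iff_restrict (g : End F V) (Z W : Submodule F V) (hc : IsCompl Z W)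
    (hZ : Z ∈ g.invtSubmodule) (hW : W ∈ g.invtSubmodule) (j : ℕ) (c : F) :
    g ^ j = c • 1 ↔ (LinearMap.restrict g (p := Z) (q := Z) hZ) ^ j = c • 1 ∧
      (LinearMap.restrict g (p := W) (q := W) hW) ^ j = c • 1 := by
  constructor
  · intro h
    constructor
    · apply LinearMap.ext
      intro z
      apply Subtype.ext
      rw [restrict_pow_apply Z hZ, h]
      rfl
    · apply LinearMap.ext
      intro z
      apply Subtype.ext
      rw [restrict_pow_apply W hW, h]
      rfl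
  · rintro ⟨h1, h2⟩
    apply LinearMap.ext
    intro v
    have h3 : v ∈ Z ⊔ W := by rw [hc.sup_eq_top]; trivial
    obtain ⟨z, hz, w, hw, rfl⟩ := Submodule.mem_sup.1 h3
    have e1 := restrict_pow_apply Z hZ j ⟨z, hz⟩
    have e2 := restrict_pow_apply W hW j ⟨w, hw⟩
    rw [h1] at e1
    rw [h2] at e2
    rw [map_add, ← e1, ← e2]
    simp

theorem pow_eq_one_iff_restrict (g : End F V) (Z W : Submodule F V) (hc : IsCompl Z W)
    (hZ : Z ∈ g.invtSubmodule) (hW : W ∈ g.invtSubmodule) (j : ℕ) :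
    g ^ j = 1 ↔ (LinearMap.restrict g (p := Z) (q := Z) hZ) ^ j = 1 ∧
      (LinearMap.restrict g (p := W) (q := W) hW) ^ j = 1 := by
  have := pow_eq_smul_iff_restrict g Z W hc hZ hW j 1
  simpa only [one_smul] using this

theorem one_ne_neg_one [Nontrivial V] (h2 : (2 : F) ≠ 0) : (1 : End F V) ≠ -1 := by
  intro h
  obtain ⟨v, hv⟩ := exists_ne (0 : V)
  have h1 := LinearMap.congr_fun h v
  simp only [Module.End.one_apply, LinearMap.neg_apply] at h1
  have h3 : (2 : F) • v = 0 := by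
    rw [two_smul]
    nth_rewrite 1 [h1]
    simp
  exact hv ((smul_eq_zero.1 h3).resolve_left h2)

theorem odd_proj [Nontrivial V] (h2 : (2 : F) ≠ 0) (h : End F V) (M : ℕ) (hM : Odd M)
    (hh : ∀ j, h ^ j = 1 ↔ M ∣ j) (j : ℕ) : (h ^ j = 1 ∨ h ^ j = -1) ↔ M ∣ j := by
  constructor
  · rintro (h1 | h1)
    · exact (hh j).1 h1
    · exfalso
      have h3 : h ^ (2 * j) = 1 := by rw [mul_comm, pow_mul, h1]; simp
      have h4 : M ∣ j := (Nat.Coprime.dvd_mul_left (Nat.coprime_two_right.2 hM)).1 ((hh _).1 h3)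
      rw [(hh j).2 h4] at h1
      exact one_ne_neg_one h2 h1
  · intro h1
    exact Or.inl ((hh j).2 h1)

end Aux

section Pkg

variable {F : Type u} [Field F] {V : Type v} [AddCommGroup V] [Module F V] [Module.Finite F V]

theorem decomp_pkg (β : V →ₗ[F] V →ₗ[F] F) (hnd : ∀ u, (∀ v, β u v = 0) → u = 0)
    {g g' : End F V} (hg : Isom β g g') (a M' : ℕ) (hM' : (M' : F) ≠ 0) (hy : (g ^ a) ^ M' = 1) :
    ∃ Z W : Submodule F V, IsCompl Z W ∧ Z ∈ g.invtSubmodule ∧ W ∈ g.invtSubmodule ∧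
      W ∈ (g ^ a).invtSubmodule ∧ W ∈ (g' ^ a).invtSubmodule ∧
      (∀ u : Z, (∀ v : Z, β u v = 0) → u = 0) ∧ (∀ u : W, (∀ v : W, β u v = 0) → u = 0) ∧
      (∀ z, z ∈ Z ↔ (g ^ a) z = z) ∧ (∀ w ∈ W, (g ^ a) w = w → w = 0) := by
  set y := g ^ a with hyd
  have hyi : Isom β y (g' ^ a) := isom_pow hg a
  have hc := isCompl_ker_range y M' hM' hy
  obtain ⟨ho1, ho2⟩ := ortho_ker_range hyi
  have c1 : Commute (y - 1) g :=
    (((Commute.refl g).pow_right a).symm).sub_left (Commute.one_left g)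
  have c2 : Commute (y - 1) y := (Commute.refl y).sub_left (Commute.one_left y)
  have c3 : Commute (y - 1) (g' ^ a) := hyi.commute.sub_left (Commute.one_left _)
  have hmem : ∀ z, z ∈ LinearMap.ker (y - 1) ↔ y z = z := by
    intro z
    rw [LinearMap.mem_ker, LinearMap.sub_apply, Module.End.one_apply, sub_eq_zero]
  refine ⟨LinearMap.ker (y - 1), LinearMap.range (y - 1), hc, ker_mem_invt c1, range_mem_invt c1,
    range_mem_invt c2, range_mem_invt c3, fun u h => resB_nd hnd _ _ hc ho1 u h,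
    fun u h => resB_nd hnd _ _ hc.symm ho2 u h, hmem, ?_⟩
  intro w hw hyw
  have h1 : w ∈ LinearMap.ker (y - 1) ⊓ LinearMap.range (y - 1) := ⟨(hmem w).2 hyw, hw⟩
  rw [hc.inf_eq_bot] at h1
  exact h1

end Pkg

section OddCase

variable {F : Type u} [Field F] {V : Type v} [AddCommGroup V] [Module F V] [Module.Finite F V]

theorem odd_O_to_Sp (p : ℕ) [Fact p.Prime] [CharP F p] (h2 : (2 : F) ≠ 0) {n : ℕ} (hn : 1 ≤ n)
    (β : V →ₗ[F] V →ₗ[F] F) (hS : ∀ x y, β x y = β y x) (hnd : ∀ u, (∀ v, β u v = 0) → u = 0)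
    (hdim : finrank F V = 2 * n + 1) {g g' : End F V} (hg : Isom β g g') (M a M' : ℕ)
    (hMa : M = a * M') (hodd : Odd M) (hM' : (M' : F) ≠ 0) (ha : a = 1 ∨ a = p)
    (hgM : ∀ j, g ^ j = 1 ↔ M ∣ j) : M ∈ Set.range (orderOf : Cfsg.PSp n F → ℕ) := by
  have hp : p.Prime := Fact.out
  have hy : (g ^ a) ^ M' = 1 := by rw [← pow_mul, ← hMa, hgM]
  obtain ⟨Z, W, hc, hZg, hWg, hWy, hWy', ndZ, ndW, hZmem, fixW⟩ := decomp_pkg β hnd hg a M' hM' hy
  have hyi : Isom β (g ^ a) (g' ^ a) := isom_pow hg a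
  have hoddM' : Odd M' := by
    rw [hMa] at hodd
    exact (Nat.odd_mul.1 hodd).2
  set β' := trB β (g ^ a) (g' ^ a) W with hβ'
  have halt : ∀ x, β' x x = 0 := by
    intro x
    have h1 := trB_swap hyi 1 (fun x z => by rw [one_mul]; exact hS z x) W x x
    have h3 : (2 : F) * β' x x = 0 := by linear_combination h1
    exact (mul_eq_zero.1 h3).resolve_left h2
  have hnd' : ∀ u, (∀ v, β' u v = 0) → u = 0 := trB_nd hyi M' hoddM' hy W hWy hWy' ndW fixW
  obtain ⟨m, hm⟩ := even_finrank_of_alt β' halt hnd'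
  have hsum : finrank F Z + finrank F W = 2 * n + 1 := by
    rw [Submodule.finrank_add_eq_of_isCompl hc, hdim]
  set gZ := LinearMap.restrict g (p := Z) (q := Z) hZg with hgZd
  set gW := LinearMap.restrict g (p := W) (q := W) hWg with hgWd
  have hpres : ∀ x z, β' (gW x) (gW z) = β' x z :=
    trB_pres hg.preserves ((Commute.refl g).pow_right a) (hg.commute.pow_right a) W hWg
  have hsplit := pow_eq_one_iff_restrict g Z W hc hZg hWg
  obtain ⟨t, ht⟩ : ∃ t, n = m + t := ⟨n - m, by omega⟩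
  have hfin : finrank F (W × ((Fin t → F) × (Fin t → F))) = 2 * n := by
    rw [Module.finrank_prod, Module.finrank_prod, Module.finrank_fin_fun, hm]
    omega
  have : Nontrivial (W × ((Fin t → F) × (Fin t → F))) :=
    Module.nontrivial_of_finrank_pos (R := F) (by omega)
  have halt2 : ∀ x, prodB β' (altB F t) x x = 0 := fun x => by
    rw [prodB_apply, halt, altB_self, add_zero]
  by_cases hgZ : gZ = 1
  · apply real_sp (prodB β' (altB F t)) halt2 (prodB_nd hnd' (altB_nd F t)) hn hfin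
      (LinearMap.prodMap gW 1) (prodMap_pres hpres (fun _ _ => rfl)) M
    apply odd_proj h2 _ M hodd
    intro j
    rw [prodMap_pow, prodMap_eq_one_iff, one_pow, ← hgM, hsplit, ← hgZd, ← hgWd, hgZ, one_pow]
    tauto
  · have hgZa : gZ ^ a = 1 := by
      apply LinearMap.ext
      intro z
      apply Subtype.ext
      rw [restrict_pow_apply Z hZg, (hZmem z).1 z.2]
      rfl
    have hap : a = p := by
      rcases ha with h | h
      · rw [h, pow_one] at hgZa
        exact absurd hgZa hgZ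
      · exact h
    rw [hap] at hgZa
    have hZord := pow_eq_one_iff_of_prime p gZ hgZa hgZ
    have hp2 : p ≠ 2 := by
      rintro rfl
      apply h2
      exact_mod_cast CharP.cast_eq_zero F 2
    have hZ1 : finrank F Z ≠ 1 := by
      intro h1
      obtain ⟨c, hc1, hc2, -⟩ := exists_scalar_of_line hg.preserves Z hZg h1 ndZ
      apply hgZ
      have hc3 : c ^ p = 1 := by
        have : Nontrivial Z := Module.nontrivial_of_finrank_pos (R := F) (by omega)
        obtain ⟨z, hz⟩ := exists_ne (0 : Z)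
        have h3 := restrict_pow_apply Z hZg p z
        rw [← hgZd, hgZa, pow_apply_of_scalar hc2 p z z.2] at h3
        have h4 : (c ^ p - 1) • (z : V) = 0 := by
          rw [sub_smul, one_smul, ← h3]
          simp
        rcases smul_eq_zero.1 h4 with h5 | h5
        · exact sub_eq_zero.1 h5
        · exact absurd (Subtype.ext h5) hz
      obtain ⟨k, hk⟩ := hp.odd_of_ne_two hp2
      have hc4 : c = 1 := by
        have hc5 : c ^ 2 = 1 := by rw [pow_two]; exact hc1
        rw [hk, pow_succ, pow_mul, hc5, one_pow, one_mul] at hc3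
        exact hc3
      apply LinearMap.ext
      intro z
      apply Subtype.ext
      show g z = z
      rw [hc2 z z.2, hc4, one_smul]
    have ht1 : 1 ≤ t := by omega
    have hsh := pow_eq_one_iff_of_unip p (shear F t) 2 hp.two_le (shear_sub_one_sq F t)
      (shear_ne_one F t ht1)
    apply real_sp (prodB β' (altB F t)) halt2 (prodB_nd hnd' (altB_nd F t)) hn hfin
      (LinearMap.prodMap gW (shear F t)) (prodMap_pres hpres (shear_pres F t)) M
    apply odd_proj h2 _ M hodd
    intro j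
    rw [prodMap_pow, prodMap_eq_one_iff, hsh, ← hgM, hsplit, ← hgZd, ← hgWd, hZord]
    tauto

theorem odd_Sp_to_O [Fintype F] (p : ℕ) [Fact p.Prime] [CharP F p] (h2 : (2 : F) ≠ 0) {n : ℕ}
    (ω : V →ₗ[F] V →ₗ[F] F) (hA : ∀ x, ω x x = 0) (hnd : ∀ u, (∀ v, ω u v = 0) → u = 0)
    (hdim : finrank F V = 2 * n) {g g' : End F V} (hg : Isom ω g g') (M a M' : ℕ)
    (hMa : M = a * M') (hodd : Odd M) (hM' : (M' : F) ≠ 0) (ha : a = 1 ∨ a = p)
    (hgM : ∀ j, g ^ j = 1 ↔ M ∣ j) :
    ∃ x : ↥(Cfsg.Omega F ⇑(Cfsg.Agent.Lib.Helper49Forms.QOdd n F)), orderOf x = M := by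
  have hp : p.Prime := Fact.out
  have hp2 : p ≠ 2 := by
    rintro rfl
    apply h2
    exact_mod_cast CharP.cast_eq_zero F 2
  have hy : (g ^ a) ^ M' = 1 := by rw [← pow_mul, ← hMa, hgM]
  obtain ⟨Z, W, hc, hZg, hWg, hWy, hWy', ndZ, ndW, hZmem, fixW⟩ := decomp_pkg ω hnd hg a M' hM' hy
  have hyi : Isom ω (g ^ a) (g' ^ a) := isom_pow hg a
  have hoddM' : Odd M' := by
    rw [hMa] at hodd
    exact (Nat.odd_mul.1 hodd).2
  have hskew : ∀ x z, ω z x = -1 * ω x z := by
    intro x z
    have h1 := hA (x + z)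
    simp only [map_add, LinearMap.add_apply, hA] at h1
    linear_combination h1
  set β' := trB ω (g ^ a) (g' ^ a) W with hβ'
  have hsymm : ∀ x z, β' x z = β' z x := by
    intro x z
    have h1 := trB_swap hyi (-1) hskew W z x
    rw [← hβ'] at h1
    rw [h1]; ring
  have hnd' : ∀ u, (∀ v, β' u v = 0) → u = 0 := trB_nd hyi M' hoddM' hy W hWy hWy' ndW fixW
  obtain ⟨m, hm⟩ := even_finrank_of_alt (resB ω W) (fun x => hA x) ndW
  have hsum : finrank F Z + finrank F W = 2 * n := by
    rw [Submodule.finrank_add_eq_of_isCompl hc, hdim]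
  set gZ := LinearMap.restrict g (p := Z) (q := Z) hZg with hgZd
  set gW := LinearMap.restrict g (p := W) (q := W) hWg with hgWd
  have hpres : ∀ x z, β' (gW x) (gW z) = β' x z :=
    trB_pres hg.preserves ((Commute.refl g).pow_right a) (hg.commute.pow_right a) W hWg
  have hsplit := pow_eq_one_iff_restrict g Z W hc hZg hWg
  obtain ⟨t, ht⟩ : ∃ t, n = m + t := ⟨n - m, by omega⟩
  obtain ⟨k, hk⟩ := hodd
  have hM0 : 0 < M := by omega
  have hgWM : gW ^ M = 1 := ((hsplit M).1 ((hgM M).2 dvd_rfl)).2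
  have hHW : (gW ^ (k + 1)) ^ 2 = gW := by
    rw [← pow_mul, show (k + 1) * 2 = M + 1 by omega, pow_succ, hgWM, one_mul]
  have hHpres : ∀ x z, β' ((gW ^ (k + 1)) x) ((gW ^ (k + 1)) z) = β' x z :=
    Cfsg.Agent.Lib.Helper45OrthB.preserves_pow hpres (k + 1)
  by_cases hgZ : gZ = 1
  · apply real_omega h2 n (prodB β' (dotB F (2 * t + 1)))
      (fun x z => by rw [prodB_apply, prodB_apply, hsymm, dotB_symm])
      (prodB_nd hnd' (dotB_nd F _))
      (by rw [Module.finrank_prod, Module.finrank_fin_fun, hm]; omega)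
      (LinearMap.prodMap (gW ^ (k + 1)) 1) (prodMap_pres hHpres (fun _ _ => rfl)) M hM0
    intro j
    rw [prodMap_pow, prodMap_pow, prodMap_eq_one_iff, hHW, one_pow, one_pow, ← hgM, hsplit, ← hgZd,
      ← hgWd, hgZ, one_pow]
    tauto
  · have hgZa : gZ ^ a = 1 := by
      apply LinearMap.ext
      intro z
      apply Subtype.ext
      rw [restrict_pow_apply Z hZg, (hZmem z).1 z.2]
      rfl
    have hap : a = p := by
      rcases ha with h | h
      · rw [h, pow_one] at hgZa
        exact absurd hgZa hgZ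
      · exact h
    rw [hap] at hgZa
    have hZord := pow_eq_one_iff_of_prime p gZ hgZa hgZ
    have ht1 : 1 ≤ t := by
      by_contra hlt
      have h0 : finrank F Z = 0 := by omega
      have : Subsingleton Z := Module.finrank_zero_iff.1 h0
      exact hgZ (LinearMap.ext fun z => Subsingleton.elim _ _)
    obtain ⟨t', rfl⟩ : ∃ t', t = t' + 1 := ⟨t - 1, by omega⟩
    have hp3 : 3 ≤ p := by
      have := hp.two_le
      omega
    have hun := pow_eq_one_iff_of_unip p (uni F) 3 hp3 (uni_sub_one_cube F) (uni_ne_one F)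
    apply real_omega h2 n (prodB β' (prodB (uniB F) (dotB F (2 * t'))))
      (fun x z => by
        rw [prodB_apply, prodB_apply, prodB_apply, prodB_apply, hsymm, dotB_symm, uniB_symm])
      (prodB_nd hnd' (prodB_nd (uniB_nd F h2) (dotB_nd F _)))
      (by
        rw [Module.finrank_prod, Module.finrank_prod, Module.finrank_fin_fun, hm,
          Module.finrank_prod, Module.finrank_prod, Module.finrank_self]
        omega)
      (LinearMap.prodMap (gW ^ (k + 1)) (LinearMap.prodMap (uni F) 1))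
      (prodMap_pres hHpres (prodMap_pres (uni_pres F) (fun _ _ => rfl))) M hM0
    intro j
    rw [prodMap_pow, prodMap_pow, prodMap_pow, prodMap_pow, prodMap_eq_one_iff, prodMap_eq_one_iff,
      hHW, one_pow, one_pow, ← pow_mul, hun, ← hgM, hsplit, ← hgZd, ← hgWd, hZord,
      Nat.Coprime.dvd_mul_left ((Nat.coprime_primes hp Nat.prime_two).2 hp2)]
    tauto

end OddCase

end Cfsg.Agent.Lib.Helper45TrD
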