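import Mathlib
import Cfsg.Agent.Lib.Helper45GkA
import Cfsg.Agent.Lib.Helper45TrD

set_option autoImplicit false

namespace Cfsg.Agent.Lib.Helper45GkB

open Module Polynomial Cfsg.Agent.Lib.Helper45Form Cfsg.Agent.Lib.Helper45Semisimple
  Cfsg.Agent.Lib.Helper45PSL Cfsg.Agent.Lib.Helper45SU3 Cfsg.Agent.Lib.Helper45GkA
  Cfsg.Agent.Lib.Helper45TrB Cfsg.Agent.Lib.Helper45TrD Cfsg.Agent.Lib.Helper45OrthD

universe u v w

section Nil

variable {F : Type u} [Field F] {V : Type v} [AddCommGroup V] [Module F V]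

theorem exists_sq_zero (p : ℕ) [Fact p.Prime] [CharP F p] (β : V →ₗ[F] V →ₗ[F] F)
    (hskew : ∀ x z, β z x = - β x z) {u u' : End F V} (hu : Isom β u u') (hup : u ^ p = 1)
    (hne : u ≠ 1) :
    ∃ j : ℕ, (u - 1) ^ j ≠ 0 ∧ (u - 1) ^ j * (u - 1) ^ j = 0 ∧
      (∀ a b, β (((u - 1) ^ j) a) b = 0 → β (((u - 1) ^ j) b) a = 0) := by
  have hnil : (u - 1) ^ p = 0 := by
    have hpoly : ((X : F[X]) - 1) ^ p = X ^ p - 1 := by
      rw [sub_pow_char, one_pow]
    have h1 := congrArg (aeval u) hpoly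
    simp only [map_pow, map_sub, aeval_X, map_one] at h1
    rw [h1, hup, sub_self]
  classical
  have hex : ∃ e, (u - 1) ^ e = 0 := ⟨p, hnil⟩
  set e := Nat.find hex with he
  have hspec : (u - 1) ^ e = 0 := Nat.find_spec hex
  have hmin : ∀ m, m < e → (u - 1) ^ m ≠ 0 := fun m hm => Nat.find_min hex hm
  have hu1 : u - 1 ≠ 0 := sub_ne_zero.2 hne
  have he0 : e ≠ 0 := by
    intro h0
    rw [h0, pow_zero] at hspec
    apply hu1
    rw [← mul_one (u - 1), hspec, mul_zero]
  have he1 : e ≠ 1 := by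
    intro h0
    rw [h0, pow_one] at hspec
    exact hu1 hspec
  obtain ⟨j, hj⟩ : ∃ j, e = j + 2 := ⟨e - 2, by omega⟩
  refine ⟨j + 1, hmin _ (by omega), ?_, ?_⟩
  · rw [← pow_add, show j + 1 + (j + 1) = e + j by omega, pow_add, hspec, zero_mul]
  · set N := (u - 1) ^ (j + 1) with hN
    have hadj : Adj β N ((u' - 1) ^ (j + 1)) := (hu.adj.sub Adj.one).pow (j + 1)
    have huN : ∀ b, u (N b) = N b := by
      intro b
      have h1 : (u - 1) * N = 0 := by rw [hN, ← pow_succ', ← hj, hspec]
      have h2 := LinearMap.congr_fun h1 b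
      simp only [Module.End.mul_apply, LinearMap.sub_apply, Module.End.one_apply,
        LinearMap.zero_apply, sub_eq_zero] at h2
      exact h2
    have hu'N : ∀ b, u' (N b) = N b := by
      intro b
      have h1 := congrArg u' (huN b)
      rw [← Module.End.mul_apply, hu.inv_mul] at h1
      exact h1.symm
    have hfac : u' - 1 = -(u' * (u - 1)) := by
      rw [mul_sub, hu.inv_mul, mul_one]; abel
    have hcomm : Commute u' (u - 1) := (hu.commute.symm).sub_right (Commute.one_right _)
    have hpow : ∀ i b, (u' ^ i) (N b) = N b := by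
      intro i b
      induction i with
      | zero => rfl
      | succ i ih => rw [pow_succ, Module.End.mul_apply, hu'N, ih]
    have hN' : ∀ b, ((u' - 1) ^ (j + 1)) b = (-1 : F) ^ (j + 1) • N b := by
      intro b
      rw [hfac, neg_pow, hcomm.mul_pow, Module.End.mul_apply, Module.End.mul_apply, ← hN, hpow]
      have : ((-1 : End F V) ^ (j + 1)) = ((-1 : F) ^ (j + 1)) • 1 := by
        have h0 : (-1 : End F V) = (-1 : F) • 1 := by rw [neg_smul, one_smul]
        rw [h0, _root_.smul_pow, one_pow]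
      rw [this]
      rfl
    intro a b hab
    rw [hadj, hN', map_smul, smul_eq_mul, hskew] at hab
    have h1 : (-1 : F) ^ (j + 1) ≠ 0 := pow_ne_zero _ (by simp)
    have h2 := (mul_eq_zero.1 hab).resolve_left h1
    exact neg_eq_zero.1 h2

end Nil

section Bound

variable {F : Type u} [Field F] [Fintype F] {V : Type v} [AddCommGroup V] [Module F V]
  [Module.Finite F V]

theorem fixfree_bound (p : ℕ) [Fact p.Prime] [CharP F p] {n : ℕ} (β : V →ₗ[F] V →ₗ[F] F)
    (hA : ∀ x, β x x = 0) (hnd : ∀ u, (∀ v, β u v = 0) → u = 0) (hdim : finrank F V = 2 * n)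
    {y y' u u' : End F V} (hy : Isom β y y') (hu : Isom β u u') (hc : Commute u y)
    (r : ℕ) (hr : r.Prime) (hr2 : r ≠ 2) (hrp : r ≠ p) (hyr : y ^ r = 1)
    (hfix : ∀ v, y v = v → v = 0) (hup : u ^ p = 1) (hne : u ≠ 1) (k η : ℕ)
    (hk : k = orderOf ((Fintype.card F : ℕ) : ZMod r))
    (hη : (Odd k ∧ η = k) ∨ (Even k ∧ 2 * η = k)) : 1 ≤ η ∧ 2 * η ≤ n := by
  have hp : p.Prime := Fact.out
  have hcop : Nat.Coprime r p := (Nat.coprime_primes hr hp).2 hrp
  have hskew : ∀ x z, β z x = - β x z := by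
    intro x z
    have h1 := hA (x + z)
    simp only [map_add, LinearMap.add_apply, hA] at h1
    linear_combination h1
  obtain ⟨j, hN0, hNN, hNrefl⟩ := exists_sq_zero p β hskew hu hup hne
  set N := (u - 1) ^ j with hN
  have hcN : Commute N y := (hc.sub_left (Commute.one_left y)).pow_left j
  set γ : V →ₗ[F] V →ₗ[F] F := β.comp N with hγ
  have hγa : ∀ a b, γ a b = β (N a) b := fun a b => rfl
  have hγi : Isom γ y y' := Isom.of_preserves hy.mul_inv hy.inv_mul (fun a b => by
    rw [hγa, hγa, ← Module.End.mul_apply, hcN.eq, Module.End.mul_apply, hy.preserves])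
  have hss := isSemisimple_of_pow_eq_one p y r hcop hyr
  obtain ⟨C, hCy, hCc⟩ := Module.End.isSemisimple_iff.1 hss (LinearMap.ker N) (ker_mem_invt hcN)
  have hCy' := invt_inv hγi C hCy
  have ndC : ∀ c : C, (∀ c' : C, resB γ C c c' = 0) → c = 0 := by
    intro c hc0
    have h1 : N c = 0 := by
      apply hnd
      intro v
      have hv : v ∈ LinearMap.ker N ⊔ C := by rw [hCc.sup_eq_top]; trivial
      obtain ⟨v1, hv1, v2, hv2, rfl⟩ := Submodule.mem_sup.1 hv
      rw [map_add]
      have e1 : β (N c) v1 = 0 := by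
        apply hNrefl
        rw [LinearMap.mem_ker.1 hv1]
        simp
      have e2 : β (N c) v2 = 0 := hc0 ⟨v2, hv2⟩
      rw [e1, e2, add_zero]
    have h2 : (c : V) ∈ LinearMap.ker N ⊓ C := ⟨h1, c.2⟩
    rw [hCc.inf_eq_bot] at h2
    exact Subtype.ext h2
  have hC0 : C ≠ ⊥ := by
    intro h0
    apply hN0
    have h1 := hCc.sup_eq_top
    rw [h0, sup_bot_eq] at h1
    apply LinearMap.ext
    intro v
    have : v ∈ LinearMap.ker N := h1 ▸ Submodule.mem_top
    exact this
  have hres := isom_restrict hγi C hCy hCy'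
  obtain ⟨h1, h2⟩ := two_eta_le p (resB γ C) (fun a b h => hNrefl _ _ h) ndC hres r hr hr2 hrp
    (by
      apply LinearMap.ext
      intro z
      apply Subtype.ext
      rw [restrict_pow_apply C hCy, hyr]
      rfl)
    (by
      intro h
      obtain ⟨c, hcC, hc0⟩ := (Submodule.ne_bot_iff _).1 hC0
      apply hc0
      apply hfix
      exact congrArg Subtype.val (LinearMap.congr_fun h ⟨c, hcC⟩)) k η hk hη
  refine ⟨h1, ?_⟩
  have h3 : finrank F (LinearMap.ker N) + finrank F C = 2 * n := by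
    rw [Submodule.finrank_add_eq_of_isCompl hCc, hdim]
  have h4 := LinearMap.finrank_range_add_finrank_ker N
  rw [hdim] at h4
  have h5 : LinearMap.range N ≤ LinearMap.ker N := by
    rintro _ ⟨v, rfl⟩
    rw [LinearMap.mem_ker, ← Module.End.mul_apply, hNN]
    rfl
  have h6 := Submodule.finrank_mono h5
  omega

theorem unip_bound (p : ℕ) [Fact p.Prime] [CharP F p] {n : ℕ} (β : V →ₗ[F] V →ₗ[F] F)
    (hA : ∀ x, β x x = 0) (hnd : ∀ u, (∀ v, β u v = 0) → u = 0) (hdim : finrank F V = 2 * n)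
    {h h' : End F V} (hh : Isom β h h') (r : ℕ) (hr : r.Prime) (hr2 : r ≠ 2) (hrp : r ≠ p)
    (hord : ∀ j, h ^ j = 1 ↔ r * p ∣ j) (k η : ℕ)
    (hk : k = orderOf ((Fintype.card F : ℕ) : ZMod r))
    (hη : (Odd k ∧ η = k) ∨ (Even k ∧ 2 * η = k)) : η + 1 ≤ n := by
  have hp : p.Prime := Fact.out
  have hrF : (r : F) ≠ 0 := by
    intro h0
    rw [CharP.cast_eq_zero_iff F p r] at h0
    exact hrp ((Nat.prime_dvd_prime_iff_eq hp hr).1 h0).symm
  have hy : (h ^ p) ^ r = 1 := by rw [← pow_mul, hord, mul_comm]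
  have hyi : Isom β (h ^ p) (h' ^ p) := isom_pow hh p
  have hui : Isom β (h ^ r) (h' ^ r) := isom_pow hh r
  have hrefl : ∀ a b, β a b = 0 → β b a = 0 := by
    intro x z h0
    have h1 := hA (x + z)
    simp only [map_add, LinearMap.add_apply, hA] at h1
    linear_combination h1 - h0
  obtain ⟨Z, W, hc, hZg, hWg, hWy, hWy', ndZ, ndW, hZmem, fixW⟩ := decomp_pkg β hnd hh p r hrF hy
  have hsum : finrank F Z + finrank F W = 2 * n := by
    rw [Submodule.finrank_add_eq_of_isCompl hc, hdim]
  by_cases hZ0 : Z = ⊥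
  · have hfix : ∀ v, (h ^ p) v = v → v = 0 := by
      intro v hv
      have := (hZmem v).2 hv
      rwa [hZ0, Submodule.mem_bot] at this
    obtain ⟨h1, h2⟩ := fixfree_bound p β hA hnd hdim hyi hui ((Commute.refl h).pow_pow r p) r hr hr2
      hrp hy hfix (by rw [← pow_mul, hord]) (by
        intro h0
        have h3 := (hord r).1 h0
        have h4 := Nat.le_of_dvd hr.pos h3
        have := hp.two_le
        have := hr.pos
        nlinarith) k η hk hη
    omega
  · have hW0 : W ≠ ⊥ := by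
      intro hW
      have hZtop : Z = ⊤ := by
        have := hc.sup_eq_top
        rwa [hW, sup_bot_eq] at this
      have h4 : h ^ p = 1 := by
        apply LinearMap.ext
        intro v
        exact (hZmem v).1 (hZtop ▸ Submodule.mem_top)
      have h5 := (hord p).1 h4
      have h6 := Nat.le_of_dvd hp.pos h5
      have := hr.two_le
      have := hp.pos
      nlinarith
    obtain ⟨h1, h2⟩ := two_eta_le p (resB β W) (fun a b h0 => hrefl _ _ h0) ndW
      (isom_restrict hyi W hWy hWy') r hr hr2 hrp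
      (by
        apply LinearMap.ext
        intro z
        apply Subtype.ext
        rw [restrict_pow_apply W hWy, hy]
        rfl)
      (by
        intro h0
        obtain ⟨c, hcW, hc0⟩ := (Submodule.ne_bot_iff _).1 hW0
        apply hc0
        apply fixW c hcW
        exact congrArg Subtype.val (LinearMap.congr_fun h0 ⟨c, hcW⟩)) k η hk hη
    obtain ⟨m, hm⟩ := even_finrank_of_alt (resB β Z) (fun x => hA x) ndZ
    have hZpos : 0 < finrank F Z := by
      rw [Module.finrank_pos_iff]
      exact Submodule.nontrivial_iff_ne_bot.2 hZ0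
    omega

end Bound

end Cfsg.Agent.Lib.Helper45GkB
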