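import Mathlib
import Cfsg.Agent.Lib.Helper45SpTri

set_option autoImplicit false

namespace Cfsg.Agent.Lib.Helper45GkC

open Module Polynomial Cfsg.Agent.Lib.Helper45Form Cfsg.Agent.Lib.Helper45Sp
  Cfsg.Agent.Lib.Helper45SpTri Cfsg.Agent.Lib.Helper45ProjOrder

universe u v w

section Aux

variable {F : Type u} [Field F]

theorem mulLeft_pow_eq_one_iff {A : Type v} [CommRing A] [Algebra F A] (μ : A) (j : ℕ) :
    (LinearMap.mulLeft F μ : End F A) ^ j = 1 ↔ μ ^ j = 1 := by
  rw [LinearMap.pow_mulLeft]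
  constructor
  · intro h
    have := LinearMap.congr_fun h 1
    simpa using this
  · intro h
    rw [h, LinearMap.mulLeft_one]
    rfl

theorem hyp_alt (K : Type v) [Field K] [Algebra F K]
    (htr : ∀ a : K, (∀ y, Algebra.trace F K (a * y) = 0) → a = 0) (a : K × K) :
    (AData.hyp K htr).form a a = 0 := by
  rw [AData.form_apply, AData.hyp_τ]
  show Algebra.trace F K (a.1 * a.2) + (-(Algebra.trace F K)) (a.2 * a.1) = 0
  rw [LinearMap.neg_apply, mul_comm a.2 a.1, add_neg_cancel]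

theorem fld_alt (K : Type v) [Field K] [Algebra F K]
    (htr : ∀ a : K, (∀ y, Algebra.trace F K (a * y) = 0) → a = 0) (τ : K →ₐ[F] K)
    (hτ : ∀ a, τ (τ a) = a) (x : K) (h1 : τ (x - τ x) = -(x - τ x)) (h2 : x - τ x ≠ 0) (a : K) :
    (AData.fld K htr τ hτ (x - τ x) h1 h2).form a a = 0 := by
  rw [AData.form_apply]
  show Algebra.trace F K ((x - τ x) * (a * τ a)) = 0
  let e : K ≃ₐ[F] K := AlgEquiv.ofAlgHom τ τ (AlgHom.ext hτ) (AlgHom.ext hτ)
  have h3 : (x - τ x) * (a * τ a) = x * (a * τ a) - e (x * (a * τ a)) := by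
    show _ = x * (a * τ a) - τ (x * (a * τ a))
    rw [map_mul, map_mul, hτ]; ring
  rw [h3, map_sub, Algebra.trace_eq_of_algEquiv, sub_self]

end Aux

section Model

variable {F : Type u} [Field F] [Fintype F]

theorem model_hyp (p : ℕ) [Fact p.Prime] [CharP F p] (M l : ℕ) (hl : 1 ≤ l)
    (hM : M ∣ Fintype.card F ^ l - 1) :
    ∃ (W : Type) (_ : AddCommGroup W) (_ : Module F W) (_ : Module.Finite F W)
      (β : W →ₗ[F] W →ₗ[F] F) (y : End F W),
      (∀ x, β x x = 0) ∧ (∀ u, (∀ v, β u v = 0) → u = 0) ∧ finrank F W = 2 * l ∧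
        (∀ a b, β (y a) (y b) = β a b) ∧ ∀ j, y ^ j = 1 ↔ M ∣ j := by
  have : NeZero l := ⟨by omega⟩
  let K := FiniteField.Extension F p l
  have hfin : finrank F K = l := FiniteField.finrank_extension F p l
  have hcard : Nat.card K = Fintype.card F ^ l := by
    rw [FiniteField.natCard_extension, Nat.card_eq_fintype_card]
  obtain ⟨a, ha⟩ := exists_unit_orderOf K M (by rw [hcard]; exact hM)
  let D := AData.hyp (F := F) K (trace_nd K)
  have ha0 : (a : K) ≠ 0 := a.ne_zero
  refine ⟨K × K, inferInstance, inferInstance, inferInstance, D.form,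
    LinearMap.mulLeft F ((a : K), (a : K)⁻¹), hyp_alt K _, D.form_nd, ?_, ?_, ?_⟩
  · rw [Module.finrank_prod, hfin]; ring
  · apply D.form_isometry
    rw [AData.hyp_τ]
    ext
    · show (a : K) * (a : K)⁻¹ = 1
      exact mul_inv_cancel₀ ha0
    · show (a : K)⁻¹ * (a : K) = 1
      exact inv_mul_cancel₀ ha0
  · intro j
    rw [mulLeft_pow_eq_one_iff, ← ha, orderOf_dvd_iff_pow_eq_one, Prod.pow_mk, Prod.mk_eq_one,
      inv_pow, inv_eq_one, and_self, ← Units.val_pow_eq_pow_val, Units.val_eq_one]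

theorem model_fld (p : ℕ) [Fact p.Prime] [CharP F p] (M n : ℕ) (hn : 1 ≤ n)
    (hM : M ∣ Fintype.card F ^ n + 1) :
    ∃ (W : Type) (_ : AddCommGroup W) (_ : Module F W) (_ : Module.Finite F W)
      (β : W →ₗ[F] W →ₗ[F] F) (y : End F W),
      (∀ x, β x x = 0) ∧ (∀ u, (∀ v, β u v = 0) → u = 0) ∧ finrank F W = 2 * n ∧
        (∀ a b, β (y a) (y b) = β a b) ∧ ∀ j, y ^ j = 1 ↔ M ∣ j := by
  have hne0 : NeZero (2 * n) := ⟨by omega⟩
  let K := FiniteField.Extension F p (2 * n)
  have hfin : finrank F K = 2 * n := FiniteField.finrank_extension F p (2 * n)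
  have hcard : Nat.card K = Fintype.card F ^ (2 * n) := by
    rw [FiniteField.natCard_extension, Nat.card_eq_fintype_card]
  let τ : K →ₐ[F] K := FiniteField.frobeniusAlgHom F K ^ n
  have hτa : ∀ a, τ a = a ^ (Fintype.card F ^ n) := by
    intro a
    show (FiniteField.frobeniusAlgHom F K ^ n) a = _
    rw [AlgHom.coe_pow, FiniteField.coe_frobeniusAlgHom, pow_iterate]
  have hτ : ∀ a, τ (τ a) = a := by
    intro a
    have := Fintype.ofFinite K
    rw [hτa, hτa, ← pow_mul, ← pow_add, ← two_mul, ← hcard, Nat.card_eq_fintype_card,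
      FiniteField.pow_card]
  have hne : ∃ x, τ x ≠ x := by
    by_contra hcon
    push Not at hcon
    have h1 : FiniteField.frobeniusAlgHom F K ^ n = 1 := AlgHom.ext hcon
    have h3 := orderOf_dvd_of_pow_eq_one h1
    rw [FiniteField.orderOf_frobeniusAlgHom, hfin] at h3
    have := Nat.le_of_dvd (by omega) h3
    omega
  obtain ⟨x, hx⟩ := hne
  obtain ⟨a, ha⟩ := exists_unit_orderOf K M (by
    rw [hcard]
    have h1 : Fintype.card F ^ (2 * n) - 1 = (Fintype.card F ^ n + 1) * (Fintype.card F ^ n - 1) := by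
      rw [← Nat.sq_sub_sq, one_pow, ← pow_mul, mul_comm n 2]
    rw [h1]
    exact hM.mul_right _)
  have h1 : τ (x - τ x) = -(x - τ x) := by rw [map_sub, hτ]; ring
  have h2 : x - τ x ≠ 0 := fun h => hx (sub_eq_zero.1 h).symm
  let D := AData.fld (F := F) K (trace_nd K) τ hτ (x - τ x) h1 h2
  refine ⟨K, inferInstance, inferInstance, inferInstance, D.form,
    LinearMap.mulLeft F (a : K), fld_alt K _ τ hτ x h1 h2, D.form_nd, hfin, ?_, ?_⟩
  · apply D.form_isometry
    show (a : K) * τ a = 1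
    rw [hτa, mul_comm, ← pow_succ, ← Units.val_pow_eq_pow_val, Units.val_eq_one]
    exact orderOf_dvd_iff_pow_eq_one.1 (ha ▸ hM)
  · intro j
    rw [mulLeft_pow_eq_one_iff, ← ha, orderOf_dvd_iff_pow_eq_one, ← Units.val_pow_eq_pow_val,
      Units.val_eq_one]

end Model

end Cfsg.Agent.Lib.Helper45GkC
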