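import Mathlib
import Cfsg.Agent.Lib.Helper45TrD

set_option autoImplicit false

namespace Cfsg.Agent.Lib.Helper45TrE

open Module Cfsg.Agent.Lib.Helper45Form Cfsg.Agent.Lib.Helper45SU3 Cfsg.Agent.Lib.Helper45TrA
  Cfsg.Agent.Lib.Helper45TrB Cfsg.Agent.Lib.Helper45TrC Cfsg.Agent.Lib.Helper45TrD
  Cfsg.Agent.Lib.Helper45OrthA Cfsg.Agent.Lib.Helper45OrthD

universe u v w

section Aux

variable {F : Type u} [Field F] {V : Type v} [AddCommGroup V] [Module F V]

theorem neg_one_pow_eq_one_iff' [Nontrivial V] (h2 : (2 : F) ≠ 0) (j : ℕ) :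
    (-1 : End F V) ^ j = 1 ↔ 2 ∣ j := by
  rw [neg_one_pow_eq_one_iff_even (fun h => one_ne_neg_one (V := V) h2 h.symm), even_iff_two_dvd]

theorem two_mul_dvd_iff (r j : ℕ) (hr : Odd r) : 2 * r ∣ j ↔ r ∣ j ∧ 2 ∣ j := by
  constructor
  · intro h
    exact ⟨(Dvd.intro_left _ rfl).trans h, (Dvd.intro _ rfl).trans h⟩
  · rintro ⟨h1, h2⟩
    exact (Nat.coprime_two_left.2 hr).mul_dvd_of_dvd_of_dvd h2 h1

theorem invt_pow {g : End F V} {W : Submodule F V} (hW : W ∈ g.invtSubmodule) (j : ℕ) :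
    W ∈ (g ^ j).invtSubmodule := by
  intro w hw
  induction j generalizing w with
  | zero => simpa using hw
  | succ j ih =>
    rw [Submodule.mem_comap, pow_succ, Module.End.mul_apply]
    exact ih (hW hw)

end Aux

section Core4

variable {F : Type u} [Field F] [Fintype F] {V : Type v} [AddCommGroup V] [Module F V]
  [Module.Finite F V]

theorem two_core (h2 : (2 : F) ≠ 0) {n : ℕ}
    (ω : V →ₗ[F] V →ₗ[F] F) (hA : ∀ x, ω x x = 0)
    {y y' : End F V} (hy : Isom ω y y') (r : ℕ) (hr : r.Prime) (hr2 : r ≠ 2) (hyr : y ^ r = 1)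
    (A : Submodule F V) (hAy : A ∈ y.invtSubmodule) (hAy' : A ∈ y'.invtSubmodule)
    (ndA : ∀ u : A, (∀ v : A, ω u v = 0) → u = 0) (fixA : ∀ a ∈ A, y a = a → a = 0)
    (hA0 : A ≠ ⊥) (hlt : finrank F A < 2 * n) :
    ∃ x : ↥(Cfsg.Omega F ⇑(Cfsg.Agent.Lib.Helper49Forms.QOdd n F)), orderOf x = 2 * r := by
  have : Fact r.Prime := ⟨hr⟩
  have hodd : Odd r := hr.odd_of_ne_two hr2
  have hskew : ∀ x z, ω z x = -1 * ω x z := by
    intro x z
    have h1 := hA (x + z)
    simp only [map_add, LinearMap.add_apply, hA] at h1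
    linear_combination h1
  set β' := trB ω y y' A with hβ'
  have hsymm : ∀ x z, β' x z = β' z x := by
    intro x z
    have h1 := trB_swap hy (-1) hskew A z x
    rw [← hβ'] at h1
    rw [h1]; ring
  have hnd' : ∀ u, (∀ v, β' u v = 0) → u = 0 := trB_nd hy r hodd hyr A hAy hAy' ndA fixA
  obtain ⟨m, hm⟩ := even_finrank_of_alt (resB ω A) (fun x => hA x) ndA
  set Y := LinearMap.restrict y (p := A) (q := A) hAy with hY
  have hpres : ∀ x z, β' (Y x) (Y z) = β' x z :=
    trB_pres hy.preserves (Commute.refl y) hy.commute A hAy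
  have hYr : Y ^ r = 1 := by
    apply LinearMap.ext
    intro z
    apply Subtype.ext
    rw [restrict_pow_apply A hAy, hyr]
    rfl
  have hY1 : Y ≠ 1 := by
    intro h
    apply hA0
    rw [Submodule.eq_bot_iff]
    intro a ha
    apply fixA a ha
    exact congrArg Subtype.val (LinearMap.congr_fun h ⟨a, ha⟩)
  have hYord := pow_eq_one_iff_of_prime r Y hYr hY1
  obtain ⟨k, hk⟩ := hodd
  have hHY : (Y ^ (k + 1)) ^ 2 = Y := by
    rw [← pow_mul, show (k + 1) * 2 = r + 1 by omega, pow_succ, hYr, one_mul]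
  have hHpres : ∀ x z, β' ((Y ^ (k + 1)) x) ((Y ^ (k + 1)) z) = β' x z :=
    Cfsg.Agent.Lib.Helper45OrthB.preserves_pow hpres (k + 1)
  obtain ⟨t, ht⟩ : ∃ t, n = m + t + 1 := ⟨n - m - 1, by omega⟩
  apply real_omega h2 n (prodB β' (prodB (rotB F) (dotB F (2 * t + 1))))
    (fun x z => by
      rw [prodB_apply, prodB_apply, prodB_apply, prodB_apply, hsymm, dotB_symm, rotB_symm])
    (prodB_nd hnd' (prodB_nd (rotB_nd F) (dotB_nd F _)))
    (by
      rw [Module.finrank_prod, Module.finrank_prod, Module.finrank_fin_fun, hm,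
        Module.finrank_prod, Module.finrank_self]
      omega)
    (LinearMap.prodMap (Y ^ (k + 1)) (LinearMap.prodMap (rot F) 1))
    (prodMap_pres hHpres (prodMap_pres (rot_pres F) (fun _ _ => rfl))) (2 * r)
    (by have := hr.pos; omega)
  intro j
  rw [prodMap_pow, prodMap_pow, prodMap_pow, prodMap_pow, prodMap_eq_one_iff, prodMap_eq_one_iff,
    hHY, one_pow, one_pow, rot_sq, neg_one_pow_eq_one_iff' h2, hYord,
    two_mul_dvd_iff r j (hr.odd_of_ne_two hr2)]
  tauto

theorem two_Sp_to_O (h2 : (2 : F) ≠ 0) {n : ℕ} (hn : 1 ≤ n)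
    (ω : V →ₗ[F] V →ₗ[F] F) (hA : ∀ x, ω x x = 0) (hnd : ∀ u, (∀ v, ω u v = 0) → u = 0)
    (hdim : finrank F V = 2 * n) {h h' : End F V} (hh : Isom ω h h') (r : ℕ) (hr : r.Prime)
    (hr2 : r ≠ 2) (hrF : (r : F) ≠ 0) (hproj : ∀ j, (h ^ j = 1 ∨ h ^ j = -1) ↔ 2 * r ∣ j) :
    ∃ x : ↥(Cfsg.Omega F ⇑(Cfsg.Agent.Lib.Helper49Forms.QOdd n F)), orderOf x = 2 * r := by
  have hodd : Odd r := hr.odd_of_ne_two hr2
  have : Nontrivial V := Module.nontrivial_of_finrank_pos (R := F) (by omega)
  have h2r := (hproj (2 * r)).2 dvd_rfl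
  have hnr : ¬ 2 * r ∣ r := by
    intro hd
    have := Nat.le_of_dvd hr.pos hd
    have := hr.pos
    omega
  have hy : (h ^ 4) ^ r = 1 := by
    rw [← pow_mul, show 4 * r = (2 * r) * 2 by ring, pow_mul]
    rcases h2r with e | e <;> rw [e] <;> simp
  obtain ⟨Z, W, hc, hZg, hWg, hWy, hWy', ndZ, ndW, hZmem, fixW⟩ := decomp_pkg ω hnd hh 4 r hrF hy
  have hyi : Isom ω (h ^ 4) (h' ^ 4) := isom_pow hh 4
  have hW0 : W ≠ ⊥ := by
    intro hW
    have hZtop : Z = ⊤ := by
      have := hc.sup_eq_top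
      rwa [hW, sup_bot_eq] at this
    have h4 : h ^ 4 = 1 := by
      apply LinearMap.ext
      intro v
      exact (hZmem v).1 (hZtop ▸ Submodule.mem_top)
    have h5 := (hproj 4).1 (Or.inl h4)
    have h6 : r ∣ 2 := by
      apply Nat.dvd_of_mul_dvd_mul_left (k := 2) (by norm_num)
      exact h5
    exact hr2 ((Nat.prime_dvd_prime_iff_eq hr Nat.prime_two).1 h6)
  by_cases hlt : finrank F W < 2 * n
  · exact two_core h2 ω hA hyi r hr hr2 hy W hWy hWy' ndW fixW hW0 hlt
  have hsum : finrank F Z + finrank F W = 2 * n := by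
    rw [Submodule.finrank_add_eq_of_isCompl hc, hdim]
  have hZ0 : finrank F Z = 0 := by omega
  have hWn : finrank F W = 2 * n := by omega
  have hZbot : Z = ⊥ := Submodule.finrank_eq_zero.1 hZ0
  rcases h2r with e | e
  · -- involution case
    set z := h ^ r with hz
    have hzi : Isom ω z (h' ^ r) := isom_pow hh r
    have hz2 : z ^ 2 = 1 := by rw [hz, ← pow_mul, mul_comm, e]
    have hcz := isCompl_ker_range z 2 (by exact_mod_cast h2) hz2
    obtain ⟨ho1, -⟩ := ortho_ker_range hzi
    have c2 : Commute (z - 1) (h ^ 4) :=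
      ((Commute.refl h).pow_pow r 4).sub_left (Commute.one_left _)
    have c3 : Commute (z - 1) (h' ^ 4) :=
      (hh.commute.pow_pow r 4).sub_left (Commute.one_left _)
    have hmem : ∀ v, v ∈ LinearMap.ker (z - 1) ↔ z v = v := by
      intro v
      rw [LinearMap.mem_ker, LinearMap.sub_apply, Module.End.one_apply, sub_eq_zero]
    apply two_core h2 ω hA hyi r hr hr2 hy (LinearMap.ker (z - 1)) (ker_mem_invt c2)
      (ker_mem_invt c3) (fun u hu => resB_nd hnd _ _ hcz ho1 u hu)
    · intro a _ hya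
      have : a ∈ Z := (hZmem a).2 hya
      rwa [hZbot, Submodule.mem_bot] at this
    · intro hbot
      apply hnr
      apply (hproj r).1
      right
      have htop : LinearMap.range (z - 1) = ⊤ := by
        have := hcz.sup_eq_top
        rwa [hbot, bot_sup_eq] at this
      apply LinearMap.ext
      intro v
      have hv : v ∈ LinearMap.range (z - 1) := htop ▸ Submodule.mem_top
      obtain ⟨w, rfl⟩ := hv
      have h3 : z (z w) = w := by
        rw [← Module.End.mul_apply, ← pow_two, hz2]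
        rfl
      show z ((z - 1) w) = -((z - 1) w)
      rw [LinearMap.sub_apply, Module.End.one_apply, map_sub, h3]
      abel
    · by_contra hge
      apply hnr
      apply (hproj r).1
      left
      have hle := Submodule.finrank_le (LinearMap.ker (z - 1))
      have htop : LinearMap.ker (z - 1) = ⊤ := Submodule.eq_top_of_finrank_eq (by omega)
      apply LinearMap.ext
      intro v
      exact (hmem v).1 (htop ▸ Submodule.mem_top)
  · -- order four case
    have hskew : ∀ x z, ω z x = -1 * ω x z := by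
      intro x z
      have h1 := hA (x + z)
      simp only [map_add, LinearMap.add_apply, hA] at h1
      linear_combination h1
    set β' := trB ω (h ^ 4) (h' ^ 4) W with hβ'
    have hsymm : ∀ x z, β' x z = β' z x := by
      intro x z
      have h1 := trB_swap hyi (-1) hskew W z x
      rw [← hβ'] at h1
      rw [h1]; ring
    have hnd' : ∀ u, (∀ v, β' u v = 0) → u = 0 := trB_nd hyi r hodd hy W hWy hWy' ndW fixW
    set gW := LinearMap.restrict h (p := W) (q := W) hWg with hgWd
    have hpres : ∀ x z, β' (gW x) (gW z) = β' x z :=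
      trB_pres hh.preserves ((Commute.refl h).pow_right 4) (hh.commute.pow_right 4) W hWg
    have hsplit := pow_eq_one_iff_restrict h Z W hc hZg hWg
    have : Subsingleton Z := Module.finrank_zero_iff.1 hZ0
    apply real_omega h2 n (prodB β' (dotB F 1))
      (fun x z => by rw [prodB_apply, prodB_apply, hsymm, dotB_symm])
      (prodB_nd hnd' (dotB_nd F _))
      (by rw [Module.finrank_prod, Module.finrank_fin_fun, hWn])
      (LinearMap.prodMap gW 1) (prodMap_pres hpres (fun _ _ => rfl)) (2 * r)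
      (by have := hr.pos; omega)
    intro j
    rw [prodMap_pow, prodMap_pow, prodMap_eq_one_iff, one_pow, one_pow, ← pow_mul]
    have h3 : gW ^ (2 * j) = 1 ↔ h ^ (2 * j) = 1 := by
      rw [hsplit]
      constructor
      · intro h4
        exact ⟨LinearMap.ext fun z => Subsingleton.elim _ _, h4⟩
      · intro h4
        exact h4.2
    rw [h3]
    constructor
    · rintro ⟨h4, -⟩
      have h5 := (hproj _).1 (Or.inl h4)
      have h6 : r ∣ j := Nat.dvd_of_mul_dvd_mul_left (by norm_num) h5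
      obtain ⟨c, rfl⟩ := h6
      rw [← mul_assoc, pow_mul, e, neg_one_pow_eq_one_iff' h2] at h4
      obtain ⟨d, rfl⟩ := h4
      exact ⟨d, by ring⟩
    · rintro ⟨c, rfl⟩
      refine ⟨?_, rfl⟩
      rw [show 2 * (2 * r * c) = (2 * r) * (2 * c) by ring, pow_mul, e, pow_mul]
      simp

end Core4

end Cfsg.Agent.Lib.Helper45TrE
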