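import Mathlib
import Cfsg.Agent.Lib.Helper45TrE

set_option autoImplicit false

namespace Cfsg.Agent.Lib.Helper45TrF

open Module Cfsg.Agent.Lib.Helper45Form Cfsg.Agent.Lib.Helper45SU3 Cfsg.Agent.Lib.Helper45TrA
  Cfsg.Agent.Lib.Helper45TrB Cfsg.Agent.Lib.Helper45TrC Cfsg.Agent.Lib.Helper45TrD
  Cfsg.Agent.Lib.Helper45TrE
  Cfsg.Agent.Lib.Helper45OrthA Cfsg.Agent.Lib.Helper45OrthD

universe u v w

section Core5

variable {F : Type u} [Field F] {V : Type v} [AddCommGroup V] [Module F V]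
  [Module.Finite F V]

theorem two_O_to_Sp (h2 : (2 : F) ≠ 0) {n : ℕ} (hn : 1 ≤ n)
    (β : V →ₗ[F] V →ₗ[F] F) (hS : ∀ x y, β x y = β y x) (hnd : ∀ u, (∀ v, β u v = 0) → u = 0)
    (hdim : finrank F V = 2 * n + 1) {g g' : End F V} (hg : Isom β g g')
    (hdet : LinearMap.det g = 1) (r : ℕ) (hr : r.Prime) (hr2 : r ≠ 2) (hrF : (r : F) ≠ 0)
    (hgM : ∀ j, g ^ j = 1 ↔ 2 * r ∣ j) :
    2 * r ∈ Set.range (orderOf : Cfsg.PSp n F → ℕ) ∨
    ∃ Z : Submodule F V, finrank F Z = 1 ∧ (∀ u : Z, (∀ v : Z, β u v = 0) → u = 0) ∧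
      (∀ z, z ∈ Z ↔ (g ^ 2) z = z) ∧ (∀ z, z ∈ Z ↔ (g ^ r) z = z) := by
  have : Fact r.Prime := ⟨hr⟩
  have hodd : Odd r := hr.odd_of_ne_two hr2
  have hy : (g ^ 2) ^ r = 1 := by rw [← pow_mul, hgM]
  obtain ⟨Z, W, hc, hZg, hWg, hWy, hWy', ndZ, ndW, hZmem, fixW⟩ := decomp_pkg β hnd hg 2 r hrF hy
  have hyi : Isom β (g ^ 2) (g' ^ 2) := isom_pow hg 2
  set β' := trB β (g ^ 2) (g' ^ 2) W with hβ'
  have halt : ∀ x, β' x x = 0 := by
    intro x
    have h1 := trB_swap hyi 1 (fun x z => by rw [one_mul]; exact hS z x) W x x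
    have h3 : (2 : F) * β' x x = 0 := by linear_combination h1
    exact (mul_eq_zero.1 h3).resolve_left h2
  have hnd' : ∀ u, (∀ v, β' u v = 0) → u = 0 := trB_nd hyi r hodd hy W hWy hWy' ndW fixW
  obtain ⟨m, hm⟩ := even_finrank_of_alt β' halt hnd'
  have hsum : finrank F Z + finrank F W = 2 * n + 1 := by
    rw [Submodule.finrank_add_eq_of_isCompl hc, hdim]
  set gZ : End F Z := LinearMap.restrict g (p := Z) (q := Z) hZg with hgZd
  set gW : End F W := LinearMap.restrict g (p := W) (q := W) hWg with hgWd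
  have hpres : ∀ x z, β' (gW x) (gW z) = β' x z :=
    trB_pres hg.preserves ((Commute.refl g).pow_right 2) (hg.commute.pow_right 2) W hWg
  have hsplit := pow_eq_one_iff_restrict g Z W hc hZg hWg
  have hnr : ¬ 2 * r ∣ r := by
    intro hd
    have := Nat.le_of_dvd hr.pos hd
    have := hr.pos
    omega
  have hW0 : W ≠ ⊥ := by
    intro hW
    have hZtop : Z = ⊤ := by
      have := hc.sup_eq_top
      rwa [hW, sup_bot_eq] at this
    have h4 : g ^ 2 = 1 := by
      apply LinearMap.ext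
      intro v
      exact (hZmem v).1 (hZtop ▸ Submodule.mem_top)
    have h5 := (hgM 2).1 h4
    have h6 := Nat.le_of_dvd (by norm_num) h5
    have := hr.two_le
    omega
  have hWnt : Nontrivial W := Submodule.nontrivial_iff_ne_bot.2 hW0
  have hgW2r : gW ^ (2 * r) = 1 := ((hsplit _).1 ((hgM _).2 dvd_rfl)).2
  have hgW2 : ∀ j, (gW ^ 2) ^ j = 1 ↔ r ∣ j := by
    apply pow_eq_one_iff_of_prime r (gW ^ 2) (by rw [← pow_mul, hgW2r])
    intro h
    obtain ⟨w, hw⟩ := exists_ne (0 : W)
    apply hw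
    apply Subtype.ext
    apply fixW w w.2
    rw [← restrict_pow_apply W hWg, ← hgWd, h]
    rfl
  by_cases hZ1 : finrank F Z = 1
  · obtain ⟨c, hc1, hc2, hc3⟩ := exists_scalar_of_line hg.preserves Z hZg hZ1 ndZ
    have hdet2 : c ^ r * LinearMap.det (gW ^ r) = 1 := by
      have h1 := det_eq_of_isCompl g Z W hc hZg hWg
      rw [hdet, hc3, ← hgWd] at h1
      rw [map_pow, ← mul_pow, ← h1, one_pow]
    have hWn : finrank F W = 2 * n := by omega
    by_cases hA : gW ^ r = 1
    · exfalso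
      rw [hA, map_one, mul_one] at hdet2
      apply hnr
      rw [← hgM, hsplit]
      refine ⟨?_, hA⟩
      apply LinearMap.ext
      intro z
      apply Subtype.ext
      rw [restrict_pow_apply Z hZg, pow_apply_of_scalar hc2 r z z.2, hdet2, one_smul]
      rfl
    by_cases hB : gW ^ r = -1
    · right
      have h3 : LinearMap.det (-1 : End F W) = 1 := by
        rw [show (-1 : End F W) = (-1 : F) • 1 by ext x; simp, LinearMap.det_smul, hWn,
          map_one, mul_one, pow_mul]
        norm_num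
      rw [hB, h3, mul_one] at hdet2
      refine ⟨Z, hZ1, ndZ, hZmem, ?_⟩
      intro v
      constructor
      · intro hv
        rw [pow_apply_of_scalar hc2 r v hv, hdet2, one_smul]
      · intro hv
        have h4 : v ∈ Z ⊔ W := by rw [hc.sup_eq_top]; trivial
        obtain ⟨z, hz, w, hw, rfl⟩ := Submodule.mem_sup.1 h4
        have e2 := restrict_pow_apply W hWg r ⟨w, hw⟩
        rw [← hgWd, hB] at e2
        have e3 : (g ^ r) w = -w := e2.symm
        rw [map_add, pow_apply_of_scalar hc2 r z hz, hdet2, one_smul, e3] at hv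
        have h5 : (2 : F) • w = 0 := by
          rw [two_smul]
          have := add_left_cancel hv
          nth_rewrite 1 [← this]
          simp
        rw [(smul_eq_zero.1 h5).resolve_left h2, add_zero]
        exact hz
    · left
      apply real_sp β' halt hnd' hn hWn gW hpres (2 * r)
      intro j
      constructor
      · intro hj
        have h3 : (gW ^ 2) ^ j = 1 := by
          rw [← pow_mul, mul_comm, pow_mul]
          rcases hj with e | e
          · rw [e, one_pow]
          · rw [e, neg_one_sq (R := End F W)]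
        obtain ⟨c', rfl⟩ := (hgW2 j).1 h3
        rcases Nat.even_or_odd' c' with ⟨d, rfl | rfl⟩
        · exact ⟨d, by ring⟩
        · exfalso
          have h4 : gW ^ (r * (2 * d + 1)) = gW ^ r := by
            rw [show r * (2 * d + 1) = (2 * r) * d + r by ring, pow_add, pow_mul, hgW2r, one_pow,
              one_mul]
          rw [h4] at hj
          exact hj.elim hA hB
      · intro hj
        exact Or.inl ((hsplit j).1 ((hgM j).2 hj)).2
  · left
    obtain ⟨t, ht⟩ : ∃ t, n = m + t + 1 := ⟨n - m - 1, by omega⟩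
    have hfin : finrank F (W × ((Fin (t + 1) → F) × (Fin (t + 1) → F))) = 2 * n := by
      rw [Module.finrank_prod, Module.finrank_prod, Module.finrank_fin_fun, hm]
      omega
    apply real_sp (prodB β' (altB F (t + 1)))
      (fun x => by rw [prodB_apply, halt, altB_self, add_zero])
      (prodB_nd hnd' (altB_nd F (t + 1))) hn hfin
      (LinearMap.prodMap (gW ^ 2) (-1))
      (prodMap_pres (Cfsg.Agent.Lib.Helper45OrthB.preserves_pow hpres 2) (fun x z => by simp))
      (2 * r)
    intro j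
    rw [prodMap_pow, prodMap_eq_one_iff, prodMap_eq_neg_one_iff, hgW2,
      neg_one_pow_eq_one_iff' h2, two_mul_dvd_iff r j hodd]
    constructor
    · rintro (h | ⟨h, -⟩)
      · exact h
      · exfalso
        have h3 : (gW ^ 2) ^ (2 * j) = 1 := by
          rw [mul_comm, pow_mul, h, neg_one_sq (R := End F W)]
        have h4 : r ∣ j :=
          (Nat.Coprime.dvd_mul_left (Nat.coprime_two_right.2 hodd)).1 ((hgW2 _).1 h3)
        rw [(hgW2 j).2 h4] at h
        exact one_ne_neg_one h2 h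
    · intro h
      exact Or.inl h

end Core5

section TwoP

variable (F : Type u) [Field F]

theorem two_p_Sp (p : ℕ) [Fact p.Prime] [CharP F p] (h2 : (2 : F) ≠ 0) (n : ℕ) (hn : 3 ≤ n) :
    2 * p ∈ Set.range (orderOf : Cfsg.PSp n F → ℕ) := by
  have hp : p.Prime := Fact.out
  have hp2 : p ≠ 2 := by
    rintro rfl
    apply h2
    exact_mod_cast CharP.cast_eq_zero F 2
  obtain ⟨t, rfl⟩ : ∃ t, n = t + 3 := ⟨n - 3, by omega⟩
  have hsh := pow_eq_one_iff_of_unip p (shear F 1) 2 hp.two_le (shear_sub_one_sq F 1)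
    (shear_ne_one F 1 le_rfl)
  apply real_sp (prodB (altB F 1) (prodB (altB F 1) (altB F (t + 1))))
    (fun x => by rw [prodB_apply, prodB_apply, altB_self, altB_self, altB_self]; simp)
    (prodB_nd (altB_nd F 1) (prodB_nd (altB_nd F 1) (altB_nd F (t + 1)))) (by omega)
    (by
      simp only [Module.finrank_prod, Module.finrank_fin_fun]
      omega)
    (LinearMap.prodMap (shear F 1) (LinearMap.prodMap (-1) 1))
    (prodMap_pres (shear_pres F 1) (prodMap_pres (fun x z => by simp) (fun _ _ => rfl)))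
    (2 * p)
  intro j
  rw [prodMap_pow, prodMap_pow, prodMap_eq_one_iff, prodMap_eq_one_iff, prodMap_eq_neg_one_iff,
    prodMap_eq_neg_one_iff, hsh, one_pow, neg_one_pow_eq_one_iff' h2,
    two_mul_dvd_iff p j (hp.odd_of_ne_two hp2)]
  constructor
  · rintro (⟨h1, h3, -⟩ | ⟨-, -, h⟩)
    · exact ⟨h1, h3⟩
    · exact absurd h (one_ne_neg_one h2)
  · rintro ⟨h1, h3⟩
    exact Or.inl ⟨h1, h3, rfl⟩

theorem two_p_O [Fintype F] (p : ℕ) [Fact p.Prime] [CharP F p] (h2 : (2 : F) ≠ 0) (n : ℕ)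
    (hn : 2 ≤ n) :
    ∃ x : ↥(Cfsg.Omega F ⇑(Cfsg.Agent.Lib.Helper49Forms.QOdd n F)), orderOf x = 2 * p := by
  have hp : p.Prime := Fact.out
  have hp2 : p ≠ 2 := by
    rintro rfl
    apply h2
    exact_mod_cast CharP.cast_eq_zero F 2
  have hp3 : 3 ≤ p := by
    have := hp.two_le
    omega
  obtain ⟨t, rfl⟩ : ∃ t, n = t + 2 := ⟨n - 2, by omega⟩
  have hun := pow_eq_one_iff_of_unip p (uni F) 3 hp3 (uni_sub_one_cube F) (uni_ne_one F)
  apply real_omega h2 (t + 2) (prodB (uniB F) (prodB (rotB F) (dotB F (2 * t))))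
    (fun x z => by
      rw [prodB_apply, prodB_apply, prodB_apply, prodB_apply, uniB_symm, dotB_symm, rotB_symm])
    (prodB_nd (uniB_nd F h2) (prodB_nd (rotB_nd F) (dotB_nd F _)))
    (by
      simp only [Module.finrank_prod, Module.finrank_fin_fun, Module.finrank_self]
      omega)
    (LinearMap.prodMap (uni F) (LinearMap.prodMap (rot F) 1))
    (prodMap_pres (uni_pres F) (prodMap_pres (rot_pres F) (fun _ _ => rfl))) (2 * p)
    (by omega)
  intro j
  rw [prodMap_pow, prodMap_pow, prodMap_pow, prodMap_pow, prodMap_eq_one_iff, prodMap_eq_one_iff,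
    one_pow, one_pow, rot_sq, neg_one_pow_eq_one_iff' h2, ← pow_mul, hun,
    Nat.Coprime.dvd_mul_left ((Nat.coprime_primes hp Nat.prime_two).2 hp2),
    two_mul_dvd_iff p j (hp.odd_of_ne_two hp2)]
  tauto

end TwoP

end Cfsg.Agent.Lib.Helper45TrF
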