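import Mathlib
import Cfsg.Agent.Lib.Helper45TrE
import Cfsg.Agent.Lib.Helper45SpTri
import Cfsg.Agent.Lib.Helper45OrthC
import Cfsg.Agent.Lib.Helper49OddForm

set_option autoImplicit false

namespace Cfsg.Agent.Lib.Helper45TrG

open Module Cfsg.Agent.Lib.Helper45Form Cfsg.Agent.Lib.Helper45SU3 Cfsg.Agent.Lib.Helper45TrA
  Cfsg.Agent.Lib.Helper45TrB Cfsg.Agent.Lib.Helper45TrC Cfsg.Agent.Lib.Helper45TrD
  Cfsg.Agent.Lib.Helper45TrE
  Cfsg.Agent.Lib.Helper45OrthA Cfsg.Agent.Lib.Helper45OrthD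
  Cfsg.Agent.Lib.Helper49Orth QuadraticMap

universe u v w

section Line

variable {F : Type u} [Field F] {V : Type v} [AddCommGroup V] [Module F V]

theorem line_zero (Q : QuadraticForm F V) (Z : Submodule F V) (hZ1 : finrank F Z = 1)
    (ndZ : ∀ u : Z, (∀ v : Z, polarBilin Q u v = 0) → u = 0) :
    Nat.card {z : Z // Q z = 0} = 1 := by
  rw [Nat.card_eq_one_iff_unique]
  refine ⟨⟨?_⟩, ⟨⟨0, by simp⟩⟩⟩
  have key : ∀ z : {z : Z // Q z = 0}, z.1 = 0 := by
    intro z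
    by_contra hz
    apply hz
    apply ndZ
    intro v
    obtain ⟨a, rfl⟩ := (finrank_eq_one_iff_of_nonzero' z.1 hz).1 hZ1 v
    rw [Submodule.coe_smul, map_smul, polarBilin_apply_apply, polar_self, z.2]
    simp
  intro a b
  apply Subtype.ext
  rw [key a, key b]

theorem line_one (h2 : (2 : F) ≠ 0) (Q : QuadraticForm F V) (Z : Submodule F V)
    (hZ1 : finrank F Z = 1) :
    Nat.card {z : Z // Q z = 1} = 0 ∨ Nat.card {z : Z // Q z = 1} = 2 := by
  by_cases hne : Nonempty {z : Z // Q z = 1}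
  · right
    obtain ⟨z1⟩ := hne
    have hz1 : z1.1 ≠ 0 := by
      intro h
      have := z1.2
      rw [h] at this
      simp at this
    rw [Nat.card_eq_two_iff]
    refine ⟨z1, ⟨-z1.1, by rw [Submodule.coe_neg, QuadraticMap.map_neg]; exact z1.2⟩, ?_, ?_⟩
    · intro h
      have h3 : z1.1 = -z1.1 := congrArg Subtype.val h
      have h4 : (2 : F) • z1.1 = 0 := by
        rw [two_smul]
        nth_rewrite 1 [h3]
        simp
      exact hz1 ((smul_eq_zero.1 h4).resolve_left h2)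
    · ext x
      simp only [Set.mem_insert_iff, Set.mem_singleton_iff, Set.mem_univ, iff_true]
      obtain ⟨a, ha⟩ := (finrank_eq_one_iff_of_nonzero' z1.1 hz1).1 hZ1 x.1
      have h3 := x.2
      rw [← ha, Submodule.coe_smul, QuadraticMap.map_smul, z1.2, smul_eq_mul, mul_one,
        ← pow_two] at h3
      rcases sq_eq_one_iff.1 h3 with h | h
      · left
        apply Subtype.ext
        rw [← ha, h, one_smul]
      · right
        apply Subtype.ext
        rw [← ha, h, neg_smul, one_smul]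
  · left
    rw [not_nonempty_iff] at hne
    exact Nat.card_of_isEmpty

end Line

theorem arith2 (A r k e' : ℕ) (hA : Odd A) (he : e' = 0 ∨ e' = 2)
    (h0 : 1 ≡ A ^ 2 [MOD r]) (h1 : e' ≡ A ^ 2 + A [MOD r]) (h3 : 4 * k + e' = A ^ 2 + A) :
    (4 ∣ A + 1 ∧ r ∣ A + 1) ∨ (4 ∣ A - 1 ∧ r ∣ A - 1) := by
  have hA1 : 1 ≤ A := hA.pos
  have i0 := (Nat.modEq_iff_dvd.1 h0)
  have i1 := (Nat.modEq_iff_dvd.1 h1)
  push_cast at i0 i1
  have i2 := dvd_sub i1 i0
  obtain ⟨a, ha⟩ := hA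
  rcases he with rfl | rfl
  · left
    constructor
    · rcases Nat.even_or_odd' a with ⟨b, rfl | rfl⟩
      · exfalso
        have : A ^ 2 = 16 * (b * b) + 8 * b + 1 := by rw [ha]; ring
        omega
      · exact ⟨b + 1, by rw [ha]; ring⟩
    · rw [← Int.natCast_dvd_natCast]
      have e : ((A + 1 : ℕ) : ℤ) = (A : ℤ) ^ 2 + A - ((0 : ℕ) : ℤ) - ((A : ℤ) ^ 2 - 1) := by
        push_cast; ring
      rw [e]
      exact i2
  · right
    constructor
    · rcases Nat.even_or_odd' a with ⟨b, rfl | rfl⟩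
      · exact ⟨b, by omega⟩
      · exfalso
        have : A ^ 2 = 16 * (b * b) + 24 * b + 9 := by rw [ha]; ring
        omega
    · rw [← Int.natCast_dvd_natCast]
      have e : ((A - 1 : ℕ) : ℤ) = (A : ℤ) ^ 2 + A - ((2 : ℕ) : ℤ) - ((A : ℤ) ^ 2 - 1) := by
        rw [Nat.cast_sub hA1]
        push_cast; ring
      rw [e]
      exact i2

section Concrete

variable {F : Type u} [Field F] {ι : Type} [Fintype ι] [DecidableEq ι]

theorem card_fix (Q : QuadraticForm F (ι → F)) (c : F) [DecidableEq {x : ι → F // Q x = c}]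
    [Fintype {x : ι → F // Q x = c}] (g : ↥(Cfsg.isometryGroup F ⇑Q))
    (Z : Submodule F (ι → F)) (hZ : ∀ z, z ∈ Z ↔ linOf g z = z) :
    Nat.card {z : Z // Q z = c} = ((levPerm Q c g).supportᶜ).card := by
  rw [← Fintype.card_coe, ← Nat.card_eq_fintype_card]
  apply Nat.card_congr
  refine ⟨fun z => ⟨⟨z.1.1, z.2⟩, ?_⟩, fun x => ⟨⟨x.1.1, ?_⟩, x.1.2⟩, fun z => rfl, fun x => rfl⟩
  · rw [Finset.mem_compl, Equiv.Perm.mem_support, not_not]
    apply Subtype.ext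
    rw [levPerm_apply, ← linOf_apply]
    exact (hZ _).1 z.1.2
  · have h1 := x.2
    rw [Finset.mem_compl, Equiv.Perm.mem_support, not_not] at h1
    have h2 := congrArg Subtype.val h1
    rw [levPerm_apply, ← linOf_apply] at h2
    exact (hZ _).2 h2

theorem card_sq_one (h2 : (2 : F) ≠ 0) : Nat.card {x : F // x ^ 2 = 1} = 2 := by
  rw [Nat.card_eq_two_iff]
  refine ⟨⟨1, one_pow 2⟩, ⟨-1, by ring⟩, ?_, ?_⟩
  · intro h
    have h3 : (1 : F) = -1 := congrArg Subtype.val h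
    apply h2
    linear_combination h3
  · ext x
    simp only [Set.mem_insert_iff, Set.mem_singleton_iff, Set.mem_univ, iff_true]
    rcases sq_eq_one_iff.1 x.2 with h | h
    · exact Or.inl (Subtype.ext h)
    · exact Or.inr (Subtype.ext h)

theorem line_case_gen [Fintype F] (p : ℕ) [Fact p.Prime] [CharP F p] (h2 : (2 : F) ≠ 0) (n : ℕ)
    (hn : 1 ≤ n) (Q : QuadraticForm F (ι → F))
    (hcnt1 : Nat.card {v : ι → F // Q v = 1} = (Fintype.card F ^ n) ^ 2 + Fintype.card F ^ n)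
    (hcnt0 : Nat.card {v : ι → F // Q v = 0} = (Fintype.card F ^ n) ^ 2)
    (g : ↥(Cfsg.isometryGroup F ⇑Q)) (hchi : chi Q 1 g = 1)
    (r : ℕ) (hr : r.Prime) (hr2 : r ≠ 2) (hord : g ^ (2 * r) = 1)
    (Z : Submodule F (ι → F)) (hZ1 : finrank F Z = 1)
    (ndZ : ∀ u : Z, (∀ v : Z, polarBilin Q u v = 0) → u = 0)
    (hZ2 : ∀ z, z ∈ Z ↔ (linOf g ^ 2) z = z) (hZr : ∀ z, z ∈ Z ↔ (linOf g ^ r) z = z) :
    2 * r ∈ Set.range (orderOf : Cfsg.PSp n F → ℕ) := by
  classical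
  have hp : p.Prime := Fact.out
  have : Fact r.Prime := ⟨hr⟩
  have hodd : Odd r := hr.odd_of_ne_two hr2
  have hp2 : p ≠ 2 := by
    rintro rfl
    apply h2
    exact_mod_cast CharP.cast_eq_zero F 2
  have hqodd : Odd (Fintype.card F) := by
    obtain ⟨e, -, he⟩ := FiniteField.card F p
    rw [he]
    exact (hp.odd_of_ne_two hp2).pow
  have hZ2' : ∀ z, z ∈ Z ↔ linOf (g ^ 2) z = z := by
    intro z
    rw [linOf_pow]
    exact hZ2 z
  have hZr' : ∀ z, z ∈ Z ↔ linOf (g ^ r) z = z := by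
    intro z
    rw [linOf_pow]
    exact hZr z
  have m0 := Equiv.Perm.card_compl_support_modEq (σ := levPerm Q 0 (g ^ 2)) (p := r) (n := 1)
    (by rw [pow_one, ← map_pow, ← pow_mul, hord, map_one])
  rw [← card_fix Q 0 (g ^ 2) Z hZ2', line_zero Q Z hZ1 ndZ, ← Nat.card_eq_fintype_card,
    hcnt0] at m0
  have m1 := Equiv.Perm.card_compl_support_modEq (σ := levPerm Q 1 (g ^ 2)) (p := r) (n := 1)
    (by rw [pow_one, ← map_pow, ← pow_mul, hord, map_one])
  rw [← card_fix Q 1 (g ^ 2) Z hZ2', ← Nat.card_eq_fintype_card, hcnt1] at m1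
  obtain ⟨k, hk, hsign⟩ := sign_invol (levPerm Q 1 (g ^ r))
    (by rw [← map_mul, ← pow_add, ← two_mul, hord, map_one])
  have hchi' : Equiv.Perm.sign (levPerm Q 1 (g ^ r)) = 1 := by
    have h1 : chi Q 1 (g ^ r) = Equiv.Perm.sign (levPerm Q 1 (g ^ r)) := rfl
    rw [← h1, map_pow, hchi, one_pow]
  have hkeven : Even k := by
    rw [hsign] at hchi'
    by_contra hodd
    rw [Nat.not_even_iff_odd] at hodd
    rw [hodd.neg_one_pow] at hchi'
    exact absurd hchi' (by decide)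
  obtain ⟨k', hk'⟩ := hkeven
  have htot : (levPerm Q 1 (g ^ r)).support.card + ((levPerm Q 1 (g ^ r)).supportᶜ).card
      = Nat.card {v : ι → F // Q v = 1} := by
    rw [Finset.card_add_card_compl, Nat.card_eq_fintype_card]
  rw [hk, ← card_fix Q 1 (g ^ r) Z hZr', hcnt1] at htot
  have hfin : Finite (Cfsg.PSp n F) := by
    unfold Cfsg.PSp
    infer_instance
  rcases arith2 (Fintype.card F ^ n) r k' _ hqodd.pow (line_one h2 Q Z hZ1) m0 m1 (by omega)
    with ⟨h4, hr4⟩ | ⟨h4, hr4⟩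
  · obtain ⟨y, hy1, hy2⟩ := (Cfsg.Agent.Lib.Helper45SpTri.singer_plus (F := F) p h2 n hn).2 h4 r
      hodd hr4
    exact Cfsg.Agent.Lib.Helper45ProjOrder.exists_orderOf_eq_of_dvd y _
      ((Nat.coprime_two_left.2 hodd).mul_dvd_of_dvd_of_dvd hy1 hy2)
  · obtain ⟨y, hy1, hy2⟩ := (Cfsg.Agent.Lib.Helper45SpTri.singer_minus (F := F) p h2 n hn).2 h4 r
      hodd hr4
    exact Cfsg.Agent.Lib.Helper45ProjOrder.exists_orderOf_eq_of_dvd y _
      ((Nat.coprime_two_left.2 hodd).mul_dvd_of_dvd_of_dvd hy1 hy2)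

open Cfsg.Agent.Lib.Helper49Forms in
theorem line_case [Fintype F] (p : ℕ) [Fact p.Prime] [CharP F p] (h2 : (2 : F) ≠ 0) (n : ℕ)
    (hn : 1 ≤ n) (g : ↥(Cfsg.isometryGroup F ⇑(QOdd n F))) (hchi : chi (QOdd n F) 1 g = 1)
    (r : ℕ) (hr : r.Prime) (hr2 : r ≠ 2) (hord : g ^ (2 * r) = 1)
    (Z : Submodule F (Unit ⊕ (Fin n ⊕ Fin n) → F)) (hZ1 : finrank F Z = 1)
    (ndZ : ∀ u : Z, (∀ v : Z, polarBilin (QOdd n F) u v = 0) → u = 0)
    (hZ2 : ∀ z, z ∈ Z ↔ (linOf g ^ 2) z = z) (hZr : ∀ z, z ∈ Z ↔ (linOf g ^ r) z = z) :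
    2 * r ∈ Set.range (orderOf : Cfsg.PSp n F → ℕ) := by
  apply line_case_gen p h2 n hn (QOdd n F) _ _ g hchi r hr hr2 hord Z hZ1 ndZ hZ2 hZr
  · rw [coe_QOdd, Cfsg.Agent.Lib.Helper7QForms.card_odd, ← pow_mul, mul_comm n 2]
    have := Cfsg.Agent.Lib.Helper45OrthC.cntQ_odd (F := F) n 1
    rw [card_sq_one h2] at this
    omega
  · rw [coe_QOdd, Cfsg.Agent.Lib.Helper7QForms.card_odd,
      Cfsg.Agent.Lib.Helper7QForms.cntQ_odd_zero, ← pow_mul, mul_comm n 2]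

end Concrete

end Cfsg.Agent.Lib.Helper45TrG
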