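import Mathlib
import Cfsg.Agent.Lib.Helper45GkB
import Cfsg.Agent.Lib.Helper45GkC
import Cfsg.Agent.S2474

set_option autoImplicit false

namespace Cfsg.Agent.Lib.Helper45GkD

open Module Polynomial Cfsg.Agent.Lib.Helper45Form Cfsg.Agent.Lib.Helper45Sp
  Cfsg.Agent.Lib.Helper45PSL Cfsg.Agent.Lib.Helper17Symp
  Cfsg.Agent.Lib.Helper45TrA Cfsg.Agent.Lib.Helper45TrB Cfsg.Agent.Lib.Helper45TrD
  Cfsg.Agent.Lib.Helper45GkA Cfsg.Agent.Lib.Helper45GkB Cfsg.Agent.Lib.Helper45GkC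

universe u v w

section Aux

variable {F : Type u} [Field F] {V : Type v} [AddCommGroup V] [Module F V]

theorem neg_one_eq_one_of_two (h2 : (2 : F) = 0) : (-1 : End F V) = 1 := by
  apply LinearMap.ext
  intro v
  have h3 : (2 : F) • v = 0 := by rw [h2, zero_smul]
  rw [two_smul] at h3
  simp only [LinearMap.neg_apply, Module.End.one_apply]
  exact neg_eq_of_add_eq_zero_left h3

theorem proj_of_exact [Nontrivial V] (h : End F V) (M : ℕ) (hM : (2 : F) = 0 ∨ Odd M)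
    (hh : ∀ j, h ^ j = 1 ↔ M ∣ j) (j : ℕ) : (h ^ j = 1 ∨ h ^ j = -1) ↔ M ∣ j := by
  by_cases h2 : (2 : F) = 0
  · rw [neg_one_eq_one_of_two h2, or_self, hh]
  · exact odd_proj h2 h M (hM.resolve_left h2) hh j

end Aux

theorem orderOf_zmod_pos (q r : ℕ) (hr : r.Prime) (hq : ¬ r ∣ q) : 0 < orderOf (q : ZMod r) := by
  have : Fact r.Prime := ⟨hr⟩
  have h0 : (q : ZMod r) ≠ 0 := by
    rw [Ne, ZMod.natCast_eq_zero_iff]
    exact hq
  have h1 : orderOf (Units.mk0 (q : ZMod r) h0) = orderOf (q : ZMod r) := by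
    rw [← orderOf_units]
    rfl
  rw [← h1]
  exact orderOf_pos _

section Main

variable {F : Type u} [Field F] [Fintype F]

theorem not_dvd_card (p : ℕ) [Fact p.Prime] [CharP F p] (r : ℕ) (hr : r.Prime) (hrp : r ≠ p) :
    ¬ r ∣ Fintype.card F := by
  obtain ⟨e, -, he⟩ := FiniteField.card F p
  rw [he]
  intro h
  exact hrp ((Nat.prime_dvd_prime_iff_eq hr Fact.out).1 (hr.dvd_of_dvd_pow h))

omit [Fintype F] in
/-- the exact lift of an element of `PSp` of odd order (or in characteristic two). -/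
theorem sp_exact (n : ℕ) (hn : 1 ≤ n) (x : Cfsg.PSp n F) (hM : (2 : F) = 0 ∨ Odd (orderOf x)) :
    ∃ h h' : End F (Fin n ⊕ Fin n → F), Isom (sB n) h h' ∧ ∀ j, h ^ j = 1 ↔ orderOf x ∣ j := by
  by_cases h2 : (2 : F) = 0
  · obtain ⟨h, h', hh, hj⟩ := Cfsg.Agent.S2474.sp_data n hn x
    refine ⟨h, h', hh, fun j => ?_⟩
    rw [← hj, neg_one_eq_one_of_two h2, or_self]
  · exact Cfsg.Agent.S2474.sp_data_odd n hn x (hM.resolve_left h2)

/-- the model for a torus element. -/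
theorem model (p : ℕ) [Fact p.Prime] [CharP F p] (M l η : ℕ) (hη1 : 1 ≤ η)
    (h : (Odd l ∧ η = l ∧ M ∣ Fintype.card F ^ l - 1) ∨
      (Even l ∧ 2 * η = l ∧ M ∣ Fintype.card F ^ η + 1)) :
    ∃ (W : Type) (_ : AddCommGroup W) (_ : Module F W) (_ : Module.Finite F W)
      (β : W →ₗ[F] W →ₗ[F] F) (y : End F W),
      (∀ x, β x x = 0) ∧ (∀ u, (∀ v, β u v = 0) → u = 0) ∧ finrank F W = 2 * η ∧
        (∀ a b, β (y a) (y b) = β a b) ∧ ∀ j, y ^ j = 1 ↔ M ∣ j := by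
  rcases h with ⟨-, rfl, h⟩ | ⟨-, -, h⟩
  · exact model_hyp p M η hη1 h
  · exact model_fld p M η hη1 h

theorem prime_cond (r : ℕ) (hr : r.Prime) (hrq : ¬ r ∣ Fintype.card F) (k η : ℕ)
    (hk : k = orderOf ((Fintype.card F : ℕ) : ZMod r))
    (hη : (Odd k ∧ η = k) ∨ (Even k ∧ 2 * η = k)) :
    1 ≤ η ∧ ((Odd k ∧ η = k ∧ r ∣ Fintype.card F ^ k - 1) ∨
      (Even k ∧ 2 * η = k ∧ r ∣ Fintype.card F ^ η + 1)) := by
  have hk0 : 0 < k := hk ▸ orderOf_zmod_pos _ r hr hrq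
  have hq : 1 ≤ Fintype.card F := Fintype.card_pos
  have h1 : r ∣ Fintype.card F ^ k - 1 := (orderOf_zmod_dvd_iff r _ k hq).1 (hk ▸ dvd_rfl)
  rcases hη with ⟨h2, h3⟩ | ⟨h2, h3⟩
  · exact ⟨by omega, Or.inl ⟨h2, h3, h1⟩⟩
  · refine ⟨by omega, Or.inr ⟨h2, h3, ?_⟩⟩
    have h4 : Fintype.card F ^ k - 1 = (Fintype.card F ^ η + 1) * (Fintype.card F ^ η - 1) := by
      rw [← Nat.sq_sub_sq, one_pow, ← pow_mul, mul_comm η 2, h3]
    rw [h4] at h1
    rcases (Nat.Prime.dvd_mul hr).1 h1 with h5 | h5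
    · exact h5
    · exfalso
      have h6 := (orderOf_zmod_dvd_iff r _ η hq).2 h5
      rw [← hk] at h6
      have := Nat.le_of_dvd (by omega) h6
      omega

theorem exists_rp (p : ℕ) [Fact p.Prime] [CharP F p] (n : ℕ) (hn : 1 ≤ n)
    (r : ℕ) (hr : r.Prime) (hr2 : r ≠ 2) (hrp : r ≠ p) (k η : ℕ)
    (hk : k = orderOf ((Fintype.card F : ℕ) : ZMod r))
    (hη : (Odd k ∧ η = k) ∨ (Even k ∧ 2 * η = k)) (hle : η + 1 ≤ n) :
    r * p ∈ Set.range (orderOf : Cfsg.PSp n F → ℕ) := by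
  have hp : p.Prime := Fact.out
  obtain ⟨hη1, hcond⟩ := prime_cond r hr (not_dvd_card p r hr hrp) k η hk hη
  obtain ⟨W, _, _, _, β, y, hA, hnd, hdim, hpres, hord⟩ := model p r k η hη1 hcond
  obtain ⟨t, rfl⟩ : ∃ t, n = η + (t + 1) := ⟨n - η - 1, by omega⟩
  have hsh := pow_eq_one_iff_of_unip p (shear F (t + 1)) 2 hp.two_le (shear_sub_one_sq F (t + 1))
    (shear_ne_one F (t + 1) (by omega))
  have hfin : finrank F (W × ((Fin (t + 1) → F) × (Fin (t + 1) → F))) = 2 * (η + (t + 1)) := by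
    rw [Module.finrank_prod, Module.finrank_prod, Module.finrank_fin_fun, hdim]
    ring
  have : Nontrivial (W × ((Fin (t + 1) → F) × (Fin (t + 1) → F))) :=
    Module.nontrivial_of_finrank_pos (R := F) (by omega)
  apply real_sp (prodB β (altB F (t + 1)))
    (fun x => by rw [prodB_apply, hA, altB_self, add_zero])
    (prodB_nd hnd (altB_nd F (t + 1))) hn hfin
    (LinearMap.prodMap y (shear F (t + 1))) (prodMap_pres hpres (shear_pres F (t + 1))) (r * p)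
  apply proj_of_exact
  · by_cases h2 : (2 : F) = 0
    · exact Or.inl h2
    · right
      have hp2 : p ≠ 2 := by
        rintro rfl
        apply h2
        exact_mod_cast CharP.cast_eq_zero F 2
      exact (hr.odd_of_ne_two hr2).mul (hp.odd_of_ne_two hp2)
  · intro j
    rw [prodMap_pow, prodMap_eq_one_iff, hord, hsh]
    constructor
    · rintro ⟨h1, h2⟩
      exact ((Nat.coprime_primes hr hp).2 hrp).mul_dvd_of_dvd_of_dvd h1 h2
    · intro h
      exact ⟨(Dvd.intro _ rfl).trans h, (Dvd.intro_left _ rfl).trans h⟩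

theorem not_exists_rp (p : ℕ) [Fact p.Prime] [CharP F p] (n : ℕ) (hn : 1 ≤ n)
    (r : ℕ) (hr : r.Prime) (hr2 : r ≠ 2) (hrp : r ≠ p) (k η : ℕ)
    (hk : k = orderOf ((Fintype.card F : ℕ) : ZMod r))
    (hη : (Odd k ∧ η = k) ∨ (Even k ∧ 2 * η = k))
    (hx : r * p ∈ Set.range (orderOf : Cfsg.PSp n F → ℕ)) : η + 1 ≤ n := by
  have hp : p.Prime := Fact.out
  obtain ⟨x, hx⟩ := hx
  obtain ⟨h, h', hh, hj⟩ := sp_exact n hn x (by
    by_cases h2 : (2 : F) = 0
    · exact Or.inl h2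
    · right
      have hp2 : p ≠ 2 := by
        rintro rfl
        apply h2
        exact_mod_cast CharP.cast_eq_zero F 2
      rw [hx]
      exact (hr.odd_of_ne_two hr2).mul (hp.odd_of_ne_two hp2))
  rw [hx] at hj
  exact unip_bound p (sB n) (fun v => by rw [sB_apply, sympForm_self])
    (fun u hu => sympForm_nondeg n u (fun v => by rw [← sB_apply]; exact hu v))
    (by rw [Module.finrank_fintype_fun_eq_card, Fintype.card_sum, Fintype.card_fin]; omega)
    hh r hr hr2 hrp hj k η hk hη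

end Main

end Cfsg.Agent.Lib.Helper45GkD
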