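import Mathlib
import Cfsg.Agent.Lib.Helper45GkD

set_option autoImplicit false

namespace Cfsg.Agent.Lib.Helper45GkE

open Module Polynomial Cfsg.Agent.Lib.Helper45Form Cfsg.Agent.Lib.Helper45Sp
  Cfsg.Agent.Lib.Helper45Semisimple
  Cfsg.Agent.Lib.Helper45PSL Cfsg.Agent.Lib.Helper17Symp Cfsg.Agent.Lib.Helper45SU3
  Cfsg.Agent.Lib.Helper45Dual Cfsg.Agent.Lib.Helper45Dual2 Cfsg.Agent.Lib.Helper45OrthD
  Cfsg.Agent.Lib.Helper45TrA Cfsg.Agent.Lib.Helper45TrB Cfsg.Agent.Lib.Helper45TrD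
  Cfsg.Agent.Lib.Helper45GkA Cfsg.Agent.Lib.Helper45GkB Cfsg.Agent.Lib.Helper45GkC
  Cfsg.Agent.Lib.Helper45GkD

universe u v w

theorem ord_lemma {F : Type u} [Field F] (f : F[X]) (r s : ℕ) (hr : r.Prime)
    (h1 : f ∣ X ^ (r * s) - 1) (h2 : ¬ f ∣ X ^ s - 1) (j : ℕ) (hj : f ∣ X ^ j - 1) : r ∣ j := by
  by_contra hnd
  apply h2
  have hc : Nat.Coprime r j := (Nat.Prime.coprime_iff_not_dvd hr).2 hnd
  rw [dvd_iff_root] at h1 hj ⊢
  simp only [map_sub, map_pow, aeval_X, map_one, sub_eq_zero] at h1 hj ⊢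
  have h3 := pow_gcd_eq_one.2 ⟨hj, h1⟩
  rw [Nat.Coprime.gcd_mul_left_cancel_right s hc] at h3
  obtain ⟨c, hc'⟩ := Nat.gcd_dvd_right j s
  rw [hc', pow_mul, h3, one_pow]

theorem arith_sd (k l ηk ηl i c1 c2 : ℕ) (hk : 2 * i = k * c1) (hl : 2 * i = l * c2) (h1 : Odd c1)
    (h2 : Odd c2) (hηk : (Odd k ∧ ηk = k) ∨ (Even k ∧ 2 * ηk = k))
    (hηl : (Odd l ∧ ηl = l) ∨ (Even l ∧ 2 * ηl = l)) (hkl : ηk ≤ ηl) (hl0 : 0 < l) :
    2 * ηk + 2 * ηl ≤ 2 * i ∨ ∃ t, Odd t ∧ l = k * t := by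
  have ek : 2 * ηk = k := by
    rcases hηk with ⟨h, -⟩ | ⟨-, h⟩
    · exfalso
      have := h.mul h1
      rw [← hk] at this
      exact (Nat.not_odd_iff_even.2 (even_two_mul i)) this
    · exact h
  have el : 2 * ηl = l := by
    rcases hηl with ⟨h, -⟩ | ⟨-, h⟩
    · exfalso
      have := h.mul h2
      rw [← hl] at this
      exact (Nat.not_odd_iff_even.2 (even_two_mul i)) this
    · exact h
  obtain ⟨d, rfl⟩ := h2
  rcases Nat.eq_zero_or_pos d with rfl | hd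
  · right
    exact ⟨c1, h1, by rw [← hk, hl]; ring⟩
  · left
    have : l * 3 ≤ l * (2 * d + 1) := Nat.mul_le_mul_left _ (by omega)
    omega

theorem arith_nsd (k l ηk ηl d d' : ℕ) (hkd : k ∣ d) (hld : l ∣ d) (hkd' : k ∣ d') (hld' : l ∣ d')
    (hd : 0 < d) (hd' : 0 < d') (hηk : (Odd k ∧ ηk = k) ∨ (Even k ∧ 2 * ηk = k))
    (hηl : (Odd l ∧ ηl = l) ∨ (Even l ∧ 2 * ηl = l)) (hkl : ηk ≤ ηl) :
    2 * ηk + 2 * ηl ≤ d + d' ∨ ∃ t, Odd t ∧ l = k * t := by
  have hle : l ≤ d := Nat.le_of_dvd hd hld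
  have hle' : l ≤ d' := Nat.le_of_dvd hd' hld'
  by_cases hkl' : k ∣ l
  · obtain ⟨t, ht⟩ := hkl'
    rcases Nat.even_or_odd t with he | ho
    · left
      have hl2 : 2 * ηl = l := by
        rcases hηl with ⟨h, -⟩ | ⟨-, h⟩
        · exfalso
          rw [ht] at h
          exact (Nat.not_odd_iff_even.2 (he.mul_left k)) h
        · exact h
      omega
    · exact Or.inr ⟨t, ho, ht⟩
  · left
    have key : ∀ e, k ∣ e → l ∣ e → 0 < e → 2 * l ≤ e := by
      intro e h1 h2 h3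
      obtain ⟨c, rfl⟩ := h2
      rcases Nat.lt_or_ge c 2 with hc | hc
      · interval_cases c
        · omega
        · rw [mul_one] at h1
          exact absurd h1 hkl'
      · calc 2 * l = l * 2 := by ring
          _ ≤ l * c := Nat.mul_le_mul_left _ hc
    have h1 := key d hkd hld hd
    have h2 := key d' hkd' hld' hd'
    have h3 : ηl ≤ l := by
      rcases hηl with ⟨-, h⟩ | ⟨-, h⟩ <;> omega
    omega

section Bound

variable {F : Type u} [Field F] [Fintype F] {V : Type v} [AddCommGroup V] [Module F V]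
  [Module.Finite F V]

theorem mixed_bound (B : V →ₗ[F] V →ₗ[F] F) (hrefl : ∀ u v, B u v = 0 → B v u = 0)
    (hnd : ∀ u, (∀ v, B u v = 0) → u = 0) {g g' : End F V} (hg : Isom B g g')
    (f : F[X]) [Fact (Irreducible f)] (hdvd : f ∣ minpoly F g) (r s : ℕ) (hr : r.Prime)
    (hs : s.Prime) (hr2 : r ≠ 2) (hs2 : s ≠ 2)
    (h1 : f ∣ X ^ (r * s) - 1) (h2 : ¬ f ∣ X ^ s - 1) (h3 : ¬ f ∣ X ^ r - 1) (k l ηk ηl : ℕ)
    (hk : k = orderOf ((Fintype.card F : ℕ) : ZMod r))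
    (hl : l = orderOf ((Fintype.card F : ℕ) : ZMod s))
    (hηk : (Odd k ∧ ηk = k) ∨ (Even k ∧ 2 * ηk = k))
    (hηl : (Odd l ∧ ηl = l) ∨ (Even l ∧ 2 * ηl = l)) (hkl : ηk ≤ ηl) :
    2 * ηk + 2 * ηl ≤ finrank F V ∨ ∃ t, Odd t ∧ l = k * t := by
  have hf : Irreducible f := Fact.out
  have hN : 0 < r * s := Nat.mul_pos hr.pos hs.pos
  have hordr := ord_lemma f r s hr h1 h2
  have hords := ord_lemma f s r hs (by rw [mul_comm]; exact h1) h3
  have hkf : k ∣ f.natDegree := hk ▸ order_dvd_natDegree f _ hN h1 r hordr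
  have hlf : l ∣ f.natDegree := hl ▸ order_dvd_natDegree f _ hN h1 s hords
  have hl0 : 0 < l := Nat.pos_of_dvd_of_pos hlf hf.natDegree_pos
  by_cases hsd : f ∣ dual (RingHom.id F) f
  · have h22 : ¬ f ∣ X ^ 2 - 1 := fun h =>
      hr2 ((Nat.prime_dvd_prime_iff_eq hr Nat.prime_two).1 (hordr 2 h))
    obtain ⟨i, hi, hfi⟩ := selfdual_structure f _ hN h1 h22 hsd
    obtain ⟨c1, hc1, hic1⟩ := nt_plus (Fintype.card F) r i Fintype.card_pos hr hr2 (hordr _ hfi)
    obtain ⟨c2, hc2, hic2⟩ := nt_plus (Fintype.card F) s i Fintype.card_pos hs hs2 (hords _ hfi)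
    rw [← hk] at hic1
    rw [← hl] at hic2
    have h4 : f.natDegree ≤ finrank F V :=
      (natDegree_le_of_dvd hdvd (minpoly.ne_zero (Algebra.IsIntegral.isIntegral g))).trans
        (natDegree_minpoly_le g)
    rcases arith_sd k l ηk ηl i c1 c2 hic1 hic2 hc1 hc2 hηk hηl hkl hl0 with h | h
    · left; omega
    · exact Or.inr h
  · have h5 := natDegree_add_le (B := B) hrefl hnd (fun c => rfl) hg f hdvd hsd
    have hdi := dual_irreducible (RingHom.id F) f (fun c => rfl)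
    have : Fact (Irreducible (dual (RingHom.id F) f)) := ⟨hdi⟩
    have hiff := fun j => dual_dvd_pow_sub_one_iff (RingHom.id F) f (fun c => rfl) j
    have hkf' : k ∣ (dual (RingHom.id F) f).natDegree := by
      rw [hk]
      exact order_dvd_natDegree _ _ hN ((hiff _).2 h1) r (fun j hj => hordr j ((hiff j).1 hj))
    have hlf' : l ∣ (dual (RingHom.id F) f).natDegree := by
      rw [hl]
      exact order_dvd_natDegree _ _ hN ((hiff _).2 h1) s (fun j hj => hords j ((hiff j).1 hj))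
    rcases arith_nsd k l ηk ηl _ _ hkf hlf hkf' hlf' hf.natDegree_pos hdi.natDegree_pos hηk hηl hkl
      with h | h
    · left; omega
    · exact Or.inr h

theorem rs_bound (p : ℕ) [Fact p.Prime] [CharP F p] {n : ℕ} (β : V →ₗ[F] V →ₗ[F] F)
    (hA : ∀ x, β x x = 0) (hnd : ∀ u, (∀ v, β u v = 0) → u = 0) (hdim : finrank F V = 2 * n)
    {h h' : End F V} (hh : Isom β h h') (r s : ℕ) (hr : r.Prime) (hs : s.Prime) (hr2 : r ≠ 2)
    (hs2 : s ≠ 2) (hrp : r ≠ p) (hsp : s ≠ p) (hrs : r ≠ s)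
    (hord : ∀ j, h ^ j = 1 ↔ r * s ∣ j) (k l ηk ηl : ℕ)
    (hk : k = orderOf ((Fintype.card F : ℕ) : ZMod r))
    (hl : l = orderOf ((Fintype.card F : ℕ) : ZMod s))
    (hηk : (Odd k ∧ ηk = k) ∨ (Even k ∧ 2 * ηk = k))
    (hηl : (Odd l ∧ ηl = l) ∨ (Even l ∧ 2 * ηl = l)) (hkl : ηk ≤ ηl) :
    ηk + ηl ≤ n ∨ ∃ t, Odd t ∧ l = k * t := by
  have hp : p.Prime := Fact.out
  have cast_ne : ∀ t : ℕ, t.Prime → t ≠ p → (t : F) ≠ 0 := by
    intro t ht htp h0
    rw [CharP.cast_eq_zero_iff F p t] at h0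
    exact htp ((Nat.prime_dvd_prime_iff_eq hp ht).1 h0).symm
  have hrefl : ∀ a b, β a b = 0 → β b a = 0 := by
    intro x z h0
    have h1 := hA (x + z)
    simp only [map_add, LinearMap.add_apply, hA] at h1
    linear_combination h1 - h0
  have hy1 : (h ^ s) ^ r = 1 := by rw [← pow_mul, hord, mul_comm]
  have hy2 : (h ^ r) ^ s = 1 := by rw [← pow_mul, hord]
  have hnr : ¬ r * s ∣ r := by
    intro hd
    have := Nat.le_of_dvd hr.pos hd
    have := hs.two_le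
    have := hr.pos
    nlinarith
  have hns : ¬ r * s ∣ s := by
    intro hd
    have := Nat.le_of_dvd hs.pos hd
    have := hr.two_le
    have := hs.pos
    nlinarith
  obtain ⟨Z1, W1, hc1, hZ1g, hW1g, hW1y, hW1y', ndZ1, ndW1, hZ1mem, fixW1⟩ :=
    decomp_pkg β hnd hh s r (cast_ne r hr hrp) hy1
  obtain ⟨Z2, W2, hc2, hZ2g, hW2g, hW2y, hW2y', ndZ2, ndW2, hZ2mem, fixW2⟩ :=
    decomp_pkg β hnd hh r s (cast_ne s hs hsp) hy2
  have hW1g' := invt_inv hh W1 hW1g
  have hres := isom_restrict hh W1 hW1g hW1g'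
  set h1 : End F W1 := LinearMap.restrict h (p := W1) (q := W1) hW1g with hh1
  have hW1le : finrank F W1 ≤ 2 * n := hdim ▸ Submodule.finrank_le W1
  have bot_of : ∀ (a : ℕ) (Z W : Submodule F V), IsCompl Z W → (∀ z, z ∈ Z ↔ (h ^ a) z = z) →
      ¬ r * s ∣ a → W ≠ ⊥ := by
    intro a Z W hc hmem hna hW
    have hZtop : Z = ⊤ := by
      have := hc.sup_eq_top
      rwa [hW, sup_bot_eq] at this
    apply hna
    rw [← hord]
    apply LinearMap.ext
    intro v
    exact (hmem v).1 (hZtop ▸ Submodule.mem_top)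
  have lb : ∀ (a t : ℕ) (W : Submodule F V) (hWy : W ∈ (h ^ a).invtSubmodule)
      (hWy' : W ∈ (h' ^ a).invtSubmodule), t.Prime → t ≠ 2 → t ≠ p → (h ^ a) ^ t = 1 → W ≠ ⊥ →
      (∀ u : W, (∀ v : W, β u v = 0) → u = 0) → (∀ w ∈ W, (h ^ a) w = w → w = 0) →
      ∀ k η : ℕ, k = orderOf ((Fintype.card F : ℕ) : ZMod t) →
      ((Odd k ∧ η = k) ∨ (Even k ∧ 2 * η = k)) → 2 * η ≤ finrank F W := by
    intro a t W hWy hWy' ht ht2 htp hyt hW0 ndW fixW k η hk hη
    exact (two_eta_le p (resB β W) (fun a b h0 => hrefl _ _ h0) ndW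
      (isom_restrict (isom_pow hh a) W hWy hWy') t ht ht2 htp
      (by
        apply LinearMap.ext
        intro z
        apply Subtype.ext
        rw [restrict_pow_apply W hWy, hyt]
        rfl)
      (by
        intro h0
        obtain ⟨c, hcW, hc0⟩ := (Submodule.ne_bot_iff _).1 hW0
        apply hc0
        apply fixW c hcW
        exact congrArg Subtype.val (LinearMap.congr_fun h0 ⟨c, hcW⟩)) k η hk hη).2
  by_cases hcase : h1 ^ r = 1
  · left
    have hle : W1 ≤ Z2 := by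
      intro w hw
      rw [hZ2mem]
      have := restrict_pow_apply W1 hW1g r ⟨w, hw⟩
      rw [← hh1, hcase] at this
      exact this.symm
    have e1 := Submodule.finrank_mono hle
    have e2 : finrank F Z2 + finrank F W2 = 2 * n := by
      rw [Submodule.finrank_add_eq_of_isCompl hc2, hdim]
    have e3 := lb s r W1 hW1y hW1y' hr hr2 hrp hy1 (bot_of s Z1 W1 hc1 hZ1mem hns) ndW1 fixW1 k ηk
      hk hηk
    have e4 := lb r s W2 hW2y hW2y' hs hs2 hsp hy2 (bot_of r Z2 W2 hc2 hZ2mem hnr) ndW2 fixW2 l ηl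
      hl hηl
    omega
  · have hrs1 : h1 ^ (r * s) = 1 := by
      apply LinearMap.ext
      intro z
      apply Subtype.ext
      rw [hh1, restrict_pow_apply W1 hW1g, (hord _).2 dvd_rfl]
      rfl
    have hnil : ¬ IsNilpotent (aeval h1 (X ^ r - 1 : F[X])) :=
      not_nilpotent_pow_sub_one p h1 r s ((Nat.coprime_primes hs hp).2 hsp) hrs1 hcase
    obtain ⟨f, hf, hfd, hfn⟩ := exists_irreducible_not_dvd h1 _ hnil
    have : Fact (Irreducible f) := ⟨hf⟩
    have hf1 : f ∣ X ^ (r * s) - 1 := by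
      apply hfd.trans
      apply minpoly.dvd
      simp [hrs1]
    have hf2 : ¬ f ∣ X ^ s - 1 := by
      rintro ⟨R, hR⟩
      obtain ⟨w, hw0, hw⟩ := exists_ne_zero_aeval_eq_zero h1 f hf
        (hfd.trans (LinearMap.minpoly_dvd_charpoly h1))
      apply hw0
      rw [mul_comm] at hR
      have e1 := congrArg (fun P => aeval h1 P w) hR
      simp only [map_mul, map_sub, map_pow, aeval_X, map_one] at e1
      rw [Module.End.mul_apply, hw, map_zero, LinearMap.sub_apply, Module.End.one_apply,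
        sub_eq_zero] at e1
      apply Subtype.ext
      apply fixW1 w w.2
      rw [← restrict_pow_apply W1 hW1g, ← hh1, e1]
    rcases mixed_bound (resB β W1) (fun a b h0 => hrefl _ _ h0) ndW1 hres f hfd r s hr hs hr2 hs2
      hf1 hf2 hfn k l ηk ηl hk hl hηk hηl hkl with h0 | h0
    · left; omega
    · exact Or.inr h0

end Bound

end Cfsg.Agent.Lib.Helper45GkE
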