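import Mathlib

set_option autoImplicit false

namespace Cfsg.Agent.Lib.Helper45OspArith

/-- piece `Arith` -/
theorem id2 (q : ℕ) (hq : 1 ≤ q) : (q - 1) * (q + 1) = q ^ 2 - 1 := by
  obtain ⟨k, rfl⟩ : ∃ k, q = k + 1 := ⟨q - 1, by omega⟩
  rw [Nat.add_sub_cancel]
  apply Nat.eq_sub_of_add_eq
  ring

theorem id3m (q : ℕ) (hq : 1 ≤ q) : (q - 1) * (q ^ 2 + q + 1) = q ^ 3 - 1 := by
  obtain ⟨k, rfl⟩ : ∃ k, q = k + 1 := ⟨q - 1, by omega⟩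
  rw [Nat.add_sub_cancel]
  apply Nat.eq_sub_of_add_eq
  ring

theorem sq_sub (q : ℕ) (hq : 1 ≤ q) : q ^ 2 - q + 1 + q = q ^ 2 + 1 := by
  have : q ≤ q ^ 2 := by nlinarith
  omega

theorem id3p (q : ℕ) (hq : 1 ≤ q) : (q + 1) * (q ^ 2 - q + 1) = q ^ 3 + 1 := by
  have h := sq_sub q hq
  have h1 : (q + 1) * (q ^ 2 - q + 1) + (q + 1) * q = (q + 1) * (q ^ 2 + 1) := by
    rw [← mul_add, h]
  have h2 : (q + 1) * (q ^ 2 + 1) = q ^ 3 + 1 + (q + 1) * q := by ring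
  omega

theorem id4 (q : ℕ) (hq : 1 ≤ q) : (q - 1) * (q + 1) * (q ^ 2 + 1) = q ^ 4 - 1 := by
  obtain ⟨k, rfl⟩ : ∃ k, q = k + 1 := ⟨q - 1, by omega⟩
  rw [Nat.add_sub_cancel]
  apply Nat.eq_sub_of_add_eq
  ring

/-- two odd numbers whose difference (in a suitable multiple) is `2` are coprime -/
theorem cop_of (a b c : ℕ) (ha : Odd a) (h : b = c * a + 2 ∨ b + 2 = c * a) : Nat.Coprime b a := by
  apply Nat.coprime_of_dvd
  intro p hp hpb hpa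
  have h2 : p ∣ 2 := by
    rcases h with h | h
    · have : p ∣ c * a + 2 := h ▸ hpb
      exact (Nat.dvd_add_right (Dvd.dvd.mul_left hpa c)).1 this
    · have : p ∣ b + 2 := h ▸ (Dvd.dvd.mul_left hpa c)
      exact (Nat.dvd_add_right hpb).1 this
  have h3 : p = 2 := (Nat.prime_dvd_prime_iff_eq hp Nat.prime_two).1 h2
  subst h3
  exact (Nat.not_even_iff_odd.2 ha) (even_iff_two_dvd.2 hpa)

theorem odd_sub_one (q : ℕ) (hq : Even q) (hq2 : 2 ≤ q) : Odd (q - 1) := by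
  obtain ⟨k, rfl⟩ := hq
  exact ⟨k - 1, by omega⟩

theorem odd_add_one (q : ℕ) (hq : Even q) : Odd (q + 1) := hq.add_one

theorem cop_a_b (q : ℕ) (hq : Even q) (hq2 : 2 ≤ q) : Nat.Coprime (q - 1) (q + 1) :=
  cop_of (q + 1) (q - 1) 1 (odd_add_one q hq) (Or.inr (by omega))

theorem cop_c_a (q : ℕ) (hq : Even q) (hq2 : 2 ≤ q) : Nat.Coprime (q ^ 2 + 1) (q - 1) :=
  cop_of (q - 1) (q ^ 2 + 1) (q + 1) (odd_sub_one q hq hq2) (Or.inl (by
    have := id2 q (by omega)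
    have h1 : 1 ≤ q ^ 2 := Nat.one_le_pow _ _ (by omega)
    rw [mul_comm, this]; omega))

theorem cop_c_b (q : ℕ) (hq : Even q) (hq2 : 2 ≤ q) : Nat.Coprime (q ^ 2 + 1) (q + 1) :=
  cop_of (q + 1) (q ^ 2 + 1) (q - 1) (odd_add_one q hq) (Or.inl (by
    have := id2 q (by omega)
    have h1 : 1 ≤ q ^ 2 := Nat.one_le_pow _ _ (by omega)
    rw [this]; omega))

theorem cop_3p (q : ℕ) (hq : Even q) (hq2 : 2 ≤ q) : Nat.Coprime (q ^ 3 + 1) (q - 1) :=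
  cop_of (q - 1) (q ^ 3 + 1) (q ^ 2 + q + 1) (odd_sub_one q hq hq2) (Or.inl (by
    have := id3m q (by omega)
    have h1 : 1 ≤ q ^ 3 := Nat.one_le_pow _ _ (by omega)
    rw [mul_comm, this]; omega))

theorem cop_3m (q : ℕ) (hq : Even q) (hq2 : 2 ≤ q) : Nat.Coprime (q ^ 3 - 1) (q + 1) :=
  cop_of (q + 1) (q ^ 3 - 1) (q ^ 2 - q + 1) (odd_add_one q hq) (Or.inr (by
    have := id3p q (by omega)
    have h1 : 1 ≤ q ^ 3 := Nat.one_le_pow _ _ (by omega)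
    rw [mul_comm, this]; omega))

end Cfsg.Agent.Lib.Helper45OspArith
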