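import Mathlib
import Cfsg.Agent.S0750
import Cfsg.Agent.Lib.Helper42Quad
import Cfsg.Agent.Lib.Helper49Orth
import Cfsg.Agent.Lib.Helper7OPlus
import Cfsg.Agent.Lib.Helper7OMinus
import Cfsg.Agent.S0289
import Cfsg.Agent.S0290
import Cfsg.Agent.S2616

set_option autoImplicit false

namespace Cfsg.Agent.Lib.Helper48QuadType

open QuadraticMap Cfsg.Agent.Lib.Helper42Quad

section general
variable {F : Type*} [Field F] {V W U : Type*} [AddCommGroup V] [Module F V] [AddCommGroup W]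
  [Module F W] [AddCommGroup U] [Module F U]

/-- isometry of quadratic spaces -/
def Isom (Q : QuadraticForm F V) (Q' : QuadraticForm F W) : Prop :=
  ∃ T : V ≃ₗ[F] W, ∀ v, Q' (T v) = Q v

theorem Isom.refl (Q : QuadraticForm F V) : Isom Q Q := ⟨LinearEquiv.refl F V, fun _ => rfl⟩

theorem Isom.symm {Q : QuadraticForm F V} {Q' : QuadraticForm F W} (h : Isom Q Q') : Isom Q' Q := by
  obtain ⟨T, hT⟩ := h
  exact ⟨T.symm, fun v => by rw [← hT, LinearEquiv.apply_symm_apply]⟩

theorem Isom.trans {Q : QuadraticForm F V} {Q' : QuadraticForm F W} {Q'' : QuadraticForm F U}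
    (h : Isom Q Q') (h' : Isom Q' Q'') : Isom Q Q'' := by
  obtain ⟨T, hT⟩ := h
  obtain ⟨T', hT'⟩ := h'
  exact ⟨T.trans T', fun v => by rw [LinearEquiv.trans_apply, hT', hT]⟩

theorem Isom.card_zeros {Q : QuadraticForm F V} {Q' : QuadraticForm F W} (h : Isom Q Q') :
    Nat.card {v // Q v = 0} = Nat.card {w // Q' w = 0} := by
  obtain ⟨T, hT⟩ := h
  exact Nat.card_congr (T.toEquiv.subtypeEquiv fun v => by
    change Q v = 0 ↔ Q' (T v) = 0
    rw [hT])

theorem polar_map {Q : QuadraticForm F V} {Q' : QuadraticForm F W} (T : V →ₗ[F] W)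
    (hT : ∀ v, Q' (T v) = Q v) (x y : V) : polar Q' (T x) (T y) = polar Q x y := by
  unfold polar
  rw [← map_add, hT, hT, hT]

theorem Isom.nondeg {Q : QuadraticForm F V} {Q' : QuadraticForm F W} (h : Isom Q Q')
    (hQ : (polarBilin Q).Nondegenerate) : (polarBilin Q').Nondegenerate := by
  obtain ⟨T, hT⟩ := h
  rw [nondeg_iff] at hQ ⊢
  intro x hx
  have h1 : T.symm x = 0 := by
    apply hQ
    intro y
    rw [← polar_map T.toLinearMap hT]
    simpa using hx (T y)
  simpa using h1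

theorem polar_prod_apply (Q₀ : QuadraticForm F V) (Q₁ : QuadraticForm F W) (x y : V × W) :
    polar (Q₀.prod Q₁) x y = polar Q₀ x.1 y.1 + polar Q₁ x.2 y.2 := by
  unfold polar
  simp only [QuadraticMap.prod_apply, Prod.fst_add, Prod.snd_add]
  ring

theorem nondeg_prod (Q₀ : QuadraticForm F V) (Q₁ : QuadraticForm F W)
    (h₀ : (polarBilin Q₀).Nondegenerate) (h₁ : (polarBilin Q₁).Nondegenerate) :
    (polarBilin (Q₀.prod Q₁)).Nondegenerate := by
  rw [nondeg_iff] at h₀ h₁ ⊢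
  rintro ⟨x₀, x₁⟩ hx
  have e0 : x₀ = 0 := h₀ x₀ fun y => by simpa [polar_prod_apply] using hx (y, 0)
  have e1 : x₁ = 0 := h₁ x₁ fun y => by simpa [polar_prod_apply] using hx (0, y)
  rw [e0, e1]
  rfl

theorem Isom.prod {Q₀ : QuadraticForm F V} {Q₀' : QuadraticForm F W} (h : Isom Q₀ Q₀')
    (Q₁ : QuadraticForm F U) : Isom (Q₀.prod Q₁) (Q₀'.prod Q₁) := by
  obtain ⟨T, hT⟩ := h
  exact ⟨T.prodCongr (LinearEquiv.refl F U), fun v => by simp [QuadraticMap.prod_apply, hT]⟩

/-- Witt cancellation -/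
theorem cancel [Finite F] [FiniteDimensional F W] [FiniteDimensional F U]
    (Q₀ : QuadraticForm F V) (Q₀' : QuadraticForm F W) (Q₁ : QuadraticForm F U)
    (h₀' : (polarBilin Q₀').Nondegenerate) (h₁ : (polarBilin Q₁).Nondegenerate)
    (h : Isom (Q₀.prod Q₁) (Q₀'.prod Q₁)) : Isom Q₀ Q₀' := by
  obtain ⟨Φ, hΦ⟩ := h
  set j₁ : U →ₗ[F] W × U := Φ.toLinearMap ∘ₗ LinearMap.inr F V U with hj₁
  set j₂ : U →ₗ[F] W × U := LinearMap.inr F W U with hj₂
  have hi₁ : Function.Injective j₁ := Φ.injective.comp LinearMap.inr_injective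
  have hi₂ : Function.Injective j₂ := LinearMap.inr_injective
  let φ : LinearMap.range j₁ ≃ₗ[F] LinearMap.range j₂ :=
    (LinearEquiv.ofInjective j₁ hi₁).symm.trans (LinearEquiv.ofInjective j₂ hi₂)
  have hφ : ∀ w : U, (φ ⟨j₁ w, w, rfl⟩ : W × U) = j₂ w := by
    intro w
    have h1 : (⟨j₁ w, w, rfl⟩ : LinearMap.range j₁) = LinearEquiv.ofInjective j₁ hi₁ w := rfl
    change ((LinearEquiv.ofInjective j₂ hi₂) ((LinearEquiv.ofInjective j₁ hi₁).symm _) : W × U) = _
    rw [h1, LinearEquiv.symm_apply_apply]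
    rfl
  obtain ⟨g, hg, hgx⟩ := Cfsg.Agent.S0750.result (Q₀'.prod Q₁) (nondeg_prod Q₀' Q₁ h₀' h₁) _ _ φ (by
    rintro ⟨_, w, rfl⟩
    rw [hφ]
    change (Q₀'.prod Q₁) (0, w) = (Q₀'.prod Q₁) (Φ (0, w))
    rw [hΦ]
    simp [QuadraticMap.prod_apply])
  set Ψ : (V × U) ≃ₗ[F] (W × U) := Φ.trans g with hΨ
  have hΨQ : ∀ v, (Q₀'.prod Q₁) (Ψ v) = (Q₀.prod Q₁) v := fun v => by
    rw [hΨ, LinearEquiv.trans_apply, hg, hΦ]
  have hΨ0 : ∀ w : U, Ψ (0, w) = (0, w) := by
    intro w
    have h1 := hgx ⟨j₁ w, w, rfl⟩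
    rw [hφ] at h1
    exact h1
  have hχ : ∀ v : V, (Ψ (v, 0)).2 = 0 := by
    intro v
    rw [nondeg_iff] at h₁
    apply h₁
    intro w
    have h2 := polar_map Ψ.toLinearMap hΨQ (v, 0) (0, w)
    change polar (Q₀'.prod Q₁) (Ψ (v, 0)) (Ψ (0, w)) = _ at h2
    rw [hΨ0, polar_prod_apply, polar_prod_apply] at h2
    simpa using h2
  have hΨv : ∀ v : V, Ψ (v, 0) = ((Ψ (v, 0)).1, 0) := fun v => Prod.ext rfl (hχ v)
  let ψ : V →ₗ[F] W := LinearMap.fst F W U ∘ₗ Ψ.toLinearMap ∘ₗ LinearMap.inl F V U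
  have hψ : ∀ v, ψ v = (Ψ (v, 0)).1 := fun v => rfl
  have hinj : Function.Injective ψ := by
    rw [← LinearMap.ker_eq_bot, LinearMap.ker_eq_bot']
    intro v hv
    have h1 : Ψ (v, 0) = 0 := by rw [hΨv, ← hψ, hv]; rfl
    have h2 : ((v, 0) : V × U) = 0 := by simpa using h1
    exact congrArg Prod.fst h2
  have hsurj : Function.Surjective ψ := by
    intro v'
    obtain ⟨⟨v, w⟩, hvw⟩ := Ψ.surjective (v', 0)
    have h1 : ((v, w) : V × U) = (v, 0) + (0, w) := by simp
    rw [h1, map_add, hΨ0, hΨv] at hvw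
    refine ⟨v, ?_⟩
    rw [hψ]
    simpa using congrArg Prod.fst hvw
  refine ⟨LinearEquiv.ofBijective ψ ⟨hinj, hsurj⟩, fun v => ?_⟩
  have h1 := hΨQ (v, 0)
  rw [hΨv] at h1
  change Q₀' (Ψ (v, 0)).1 = Q₀ v
  simpa [QuadraticMap.prod_apply] using h1

end general

section param
variable {F : Type*} [Field F] [Finite F]

theorem artin_schreier (h2 : (2 : F) = 0) (ζ ζ' : F) (h : ∀ t : F, t ^ 2 + t + ζ ≠ 0)
    (h' : ∀ t : F, t ^ 2 + t + ζ' ≠ 0) : ∃ s : F, s ^ 2 + s + ζ' = ζ := by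
  have hneg : ∀ x : F, -x = x := by
    intro x
    have : x + x = 0 := by linear_combination x * h2
    exact neg_eq_of_add_eq_zero_left this
  let ℘ : F →+ F :=
    { toFun := fun s => s ^ 2 + s
      map_zero' := by simp
      map_add' := fun x y => by
        show (x + y) ^ 2 + (x + y) = x ^ 2 + x + (y ^ 2 + y)
        linear_combination x * y * h2 }
  have hker : Nat.card ℘.ker = 2 := by
    have h1 : (℘.ker : Set F) = {0, 1} := by
      ext x
      simp only [SetLike.mem_coe, AddMonoidHom.mem_ker, Set.mem_insert_iff, Set.mem_singleton_iff]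
      change x ^ 2 + x = 0 ↔ _
      constructor
      · intro hx
        have h3 : x * (x + 1) = 0 := by linear_combination hx
        rcases mul_eq_zero.1 h3 with h4 | h4
        · exact Or.inl h4
        · right
          rw [← hneg 1]
          exact eq_neg_of_add_eq_zero_left h4
      · rintro (rfl | rfl)
        · simp
        · linear_combination h2
    have h3 : Nat.card ℘.ker = Nat.card ((℘.ker : Set F)) := rfl
    rw [h3, h1, Nat.card_coe_set_eq, Set.ncard_pair zero_ne_one]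
  have hidx : ℘.range.index = 2 := by
    have e1 := AddSubgroup.card_mul_index ℘.ker
    have e2 := AddSubgroup.card_mul_index ℘.range
    rw [AddSubgroup.index_ker, hker] at e1
    rw [← e1, mul_comm] at e2
    have h0 : 0 < Nat.card ℘.range := Nat.card_pos
    exact Nat.eq_of_mul_eq_mul_right h0 e2
  have hz : ζ ∉ ℘.range := by
    rintro ⟨t, ht⟩
    apply h t
    change t ^ 2 + t = ζ at ht
    rw [ht]
    linear_combination ζ * h2
  have hz' : ζ' ∉ ℘.range := by
    rintro ⟨t, ht⟩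
    apply h' t
    change t ^ 2 + t = ζ' at ht
    rw [ht]
    linear_combination ζ' * h2
  have h3 : ζ + ζ' ∈ ℘.range := (AddSubgroup.add_mem_iff_of_index_two hidx).2 (by tauto)
  obtain ⟨s, hs⟩ := h3
  change s ^ 2 + s = ζ + ζ' at hs
  exact ⟨s, by linear_combination hs + ζ' * h2⟩

theorem exists_param (ζ ζ' : F) (h : ∀ t : F, t ^ 2 + t + ζ ≠ 0)
    (h' : ∀ t : F, t ^ 2 + t + ζ' ≠ 0) :
    ∃ s ν : F, 2 * s + ν = 1 ∧ s ^ 2 + s * ν + ζ' * ν ^ 2 = ζ := by
  by_cases h2 : (2 : F) = 0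
  · obtain ⟨s, hs⟩ := artin_schreier h2 ζ ζ' h h'
    exact ⟨s, 1, by linear_combination s * h2, by linear_combination hs⟩
  · have _ : Fintype F := Fintype.ofFinite F
    have hns : ∀ z : F, (∀ t : F, t ^ 2 + t + z ≠ 0) → ¬ IsSquare (1 - 4 * z) := by
      rintro z hz ⟨ρ, hρ⟩
      apply hz ((-1 + ρ) / 2)
      field_simp
      linear_combination -hρ
    obtain ⟨ρ, hρ⟩ := Cfsg.Agent.Lib.Helper49Orth.isSquare_mul_of_not (hns ζ h) (hns ζ' h')
    have hD' : 1 - 4 * ζ' ≠ 0 := by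
      intro h0
      exact hns ζ' h' ⟨0, by rw [h0, mul_zero]⟩
    refine ⟨(1 - ρ / (1 - 4 * ζ')) / 2, ρ / (1 - 4 * ζ'), by field_simp; ring, ?_⟩
    field_simp
    linear_combination (1 - 4 * ζ') * hρ
end param

section std
open Cfsg.Agent.Lib.Helper7OPlus Cfsg.Agent.Lib.Helper7OMinus Cfsg.Agent.Lib.Helper7Norm2
variable {F : Type*} [Field F]

theorem isom_of_basis {V : Type*} [AddCommGroup V] [Module F V] {ι : Type*} [Fintype ι]
    [DecidableEq ι] (Q : QuadraticForm F V) (Q' : QuadraticForm F (ι → F)) (b : Module.Basis ι F V)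
    (h1 : ∀ i, Q (b i) = Q' (Pi.single i 1))
    (h2 : ∀ i j, polar Q (b i) (b j) = polar Q' (Pi.single i 1) (Pi.single j 1)) : Isom Q Q' := by
  refine ⟨b.equivFun, fun v => ?_⟩
  have he : ∀ i, b.equivFun.toLinearMap (b i) = Pi.single i 1 := fun i => by
    funext j
    change b.equivFun (b i) j = _
    rw [b.equivFun_self, Pi.single_apply]
    simp only [eq_comm]
  have h3 : Q = Q'.comp b.equivFun.toLinearMap := by
    apply ext_of_basis b
    · intro i
      rw [h1, QuadraticMap.comp_apply, he]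
    · intro i j
      rw [h2, ← polar_map (Q := Q'.comp b.equivFun.toLinearMap) (Q' := Q') b.equivFun.toLinearMap
        (fun v => rfl), he, he]
  rw [h3]
  rfl

theorem isom_of_linear {V W : Type*} [AddCommGroup V] [Module F V] [AddCommGroup W] [Module F W]
    [FiniteDimensional F V] [FiniteDimensional F W] (Q : QuadraticForm F V) (Q' : QuadraticForm F W)
    (hQ : (polarBilin Q).Nondegenerate) (T : V →ₗ[F] W) (hT : ∀ v, Q' (T v) = Q v)
    (hdim : Module.finrank F V = Module.finrank F W) : Isom Q Q' := by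
  have hinj : Function.Injective T := by
    rw [← LinearMap.ker_eq_bot, LinearMap.ker_eq_bot']
    intro v hv
    rw [nondeg_iff] at hQ
    apply hQ
    intro y
    rw [← polar_map T hT, hv]
    simp [polar]
  exact ⟨LinearEquiv.ofInjectiveOfFinrankEq T hinj hdim, fun v => hT v⟩

theorem QP_single (m : ℕ) (x : Fin m ⊕ Fin m) : QP F m (Pi.single x 1) = 0 := by
  rw [QP_apply, Cfsg.quadFormPlus]
  apply Finset.sum_eq_zero
  intro i _
  rcases x with x | x <;> simp

theorem nondeg_QP (m : ℕ) : (polarBilin (QP F m)).Nondegenerate := by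
  rw [nondeg_iff]
  intro x hx
  by_contra hne
  obtain ⟨w, hw⟩ := Cfsg.Agent.Lib.Helper7OPlus.nondeg m x hne
  exact hw (hx w)

theorem nondeg_QM [Finite F] (m : ℕ) (a c : F) (hac : Aniso a c) :
    (polarBilin (QM F m a c)).Nondegenerate := by
  rw [nondeg_iff]
  intro x hx
  by_contra hne
  obtain ⟨w, hw⟩ := Cfsg.Agent.Lib.Helper7OMinus.nondeg m a c (disc_ne_zero hac) x hne
  exact hw (hx w)

theorem not_isom [Fintype F] (d : ℕ) (hd : 1 ≤ d) (a c : F) (hac : Aniso a c) :
    ¬ Isom (QP F d) (QM F (d - 1) a c) := by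
  intro h
  have h1 := h.card_zeros
  simp only [QP_apply, QM_apply] at h1
  rw [Cfsg.Agent.S0289.result rfl d hd, Cfsg.Agent.S0290.result rfl d hd a c hac] at h1
  have h2 : Fintype.card F ^ (d - 1) < Fintype.card F ^ d :=
    Nat.pow_lt_pow_right Fintype.one_lt_card (by omega)
  omega


theorem isom_std [Finite F] {V : Type*} [AddCommGroup V] [Module F V] [FiniteDimensional F V]
    {m : ℕ} (hm : 1 ≤ m) (hV : Module.finrank F V = 2 * m) (Q : QuadraticForm F V)
    (hQ : (polarBilin Q).Nondegenerate) :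
    Isom Q (QP F m) ∨ ∃ ζ : F, (∀ t : F, t ^ 2 + t + ζ ≠ 0) ∧ Isom Q (QM F (m - 1) 1 ζ) := by
  rcases Cfsg.Agent.S2616.result hm hV Q hQ with ⟨b, h1, h2, h3⟩ |
    ⟨b, ζ, hζ, h1, h2, h3, h4, h5, h6, h7⟩
  · left
    apply isom_of_basis Q (QP F m) b
    · intro i
      rw [QP_single]
      rcases i with i | i
      · exact (h1 i).1
      · exact (h1 i).2
    · intro i j
      rw [polar_QP]
      rcases i with i | i <;> rcases j with j | j
      · rw [(h3 i j).1]; simp
      · rw [h2 i j]; simp [Pi.single_apply, eq_comm]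
      · rw [polar_comm, h2 j i]; simp [Pi.single_apply, eq_comm]
      · rw [(h3 i j).2]; simp
  · right
    refine ⟨ζ, hζ, ?_⟩
    apply isom_of_basis Q (QM F (m - 1) 1 ζ) b
    · intro i
      rw [QM_apply, Cfsg.quadFormMinus]
      rcases i with (i | i) | i
      · rw [(h1 i).1]; simp
      · rw [(h1 i).2]; simp
      · fin_cases i
        · simp [h5]
        · simp [h7]
    · intro i j
      rw [polar_QM]
      rcases i with (i | i) | i <;> rcases j with (j | j) | j
      · rw [(h3 i j).1]; simp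
      · rw [h2 i j]; simp [Pi.single_apply, eq_comm]
      · rw [(h4 i j).1]; simp
      · rw [polar_comm, h2 j i]; simp [Pi.single_apply, eq_comm]
      · rw [(h3 i j).2]; simp
      · rw [(h4 i j).2]; simp
      · rw [polar_comm, (h4 j i).1]; simp
      · rw [polar_comm, (h4 j i).2]; simp
      · fin_cases i <;> fin_cases j
        · simp [polar_self, h5]
        · simp [h6]
        · simp [polar_comm Q (b (Sum.inr 1)), h6]
        · simp [polar_self, h7]

theorem aniso_of_rootless (ζ : F) (h : ∀ t : F, t ^ 2 + t + ζ ≠ 0) : Aniso 1 ζ := by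
  intro z₁ z₂ hz
  by_cases h2 : z₂ = 0
  · subst h2
    refine ⟨?_, rfl⟩
    have : z₁ ^ 2 = 0 := by linear_combination hz
    simpa using this
  · exfalso
    apply h (z₁ / z₂)
    field_simp
    linear_combination hz

theorem isom_QM_param [Finite F] (k : ℕ) (ζ ζ' : F) (h : ∀ t : F, t ^ 2 + t + ζ ≠ 0)
    (h' : ∀ t : F, t ^ 2 + t + ζ' ≠ 0) : Isom (QM F k 1 ζ) (QM F k 1 ζ') := by
  obtain ⟨s, ν, e1, e2⟩ := exists_param ζ ζ' h h'
  let T : ((Fin k ⊕ Fin k) ⊕ Fin 2 → F) →ₗ[F] ((Fin k ⊕ Fin k) ⊕ Fin 2 → F) :=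
    { toFun := fun v x => Sum.elim (fun y => v (Sum.inl y))
        (fun j => if j = 0 then v (Sum.inr 0) + s * v (Sum.inr 1) else ν * v (Sum.inr 1)) x
      map_add' := fun v w => by
        funext x
        rcases x with y | j
        · simp
        · simp only [Sum.elim_inr, Pi.add_apply]
          split_ifs <;> ring
      map_smul' := fun c v => by
        funext x
        rcases x with y | j
        · simp
        · simp only [Sum.elim_inr, Pi.smul_apply, smul_eq_mul, RingHom.id_apply]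
          split_ifs <;> ring }
  refine isom_of_linear _ _ (nondeg_QM k 1 ζ (aniso_of_rootless ζ h)) T (fun v => ?_) rfl
  rw [QM_apply, QM_apply, Cfsg.quadFormMinus, Cfsg.quadFormMinus]
  have t1 : ∀ y, T v (Sum.inl y) = v (Sum.inl y) := fun y => rfl
  have t2 : T v (Sum.inr 0) = v (Sum.inr 0) + s * v (Sum.inr 1) := rfl
  have t3 : T v (Sum.inr 1) = ν * v (Sum.inr 1) := rfl
  simp only [t1, t2, t3]
  linear_combination (v (Sum.inr 0) * v (Sum.inr 1)) * e1 + (v (Sum.inr 1)) ^ 2 * e2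

theorem classify [Fintype F] {V : Type*} [AddCommGroup V] [Module F V] [FiniteDimensional F V]
    {m : ℕ} (hm : 1 ≤ m) (hV : Module.finrank F V = 2 * m) (Q : QuadraticForm F V)
    (hQ : (polarBilin Q).Nondegenerate) (a c : F) (hac : Aniso a c) :
    Isom Q (QP F m) ∨ Isom Q (QM F (m - 1) a c) := by
  rcases isom_std hm hV Q hQ with h | ⟨ζ, hζ, h⟩
  · exact Or.inl h
  · right
    rcases isom_std hm (by
      rw [Module.finrank_fintype_fun_eq_card]
      simp
      omega) (QM F (m - 1) a c) (nondeg_QM _ a c hac) with h' | ⟨ζ', hζ', h'⟩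
    · exact absurd h'.symm (not_isom m hm a c hac)
    · exact (h.trans (isom_QM_param _ ζ ζ' hζ hζ')).trans h'.symm
end std

end Cfsg.Agent.Lib.Helper48QuadType
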