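import Mathlib
import Cfsg.Agent.Lib.Helper45Form
import Cfsg.Agent.Lib.Helper48QuadType

/-!
PROJECT 45 (OSP): `Sp_8(q)` and `GO_8^-(q)`, `q` even, have the same element orders (S3589);
groups of unbounded order isospectral to `Sp_8(q)` (S3590).  Vocabulary.
-/

set_option autoImplicit false

namespace Cfsg.Agent.Lib.Helper45OspDefs

open Module Cfsg.Agent.Lib.Helper45Form

universe u w

/-- `Q` is a quadratic form with nondegenerate polar form on a space of dimension `2m ≥ 2` over the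
finite field `F`; its type `ε = 1` (plus) or `ε = -1` (minus) is read off from the number of zeros
`q^(2m-1) + ε (q^m - q^(m-1))`. -/
def Typ {F : Type u} [Field F] [Fintype F] {W : Type w} [AddCommGroup W] [Module F W]
    (ε : ℤ) (m : ℕ) (Q : QuadraticForm F W) : Prop :=
  1 ≤ m ∧ (QuadraticMap.polarBilin Q).Nondegenerate ∧ finrank F W = 2 * m ∧
    (Nat.card {x : W // Q x = 0} : ℤ) = (Fintype.card F : ℤ) ^ (2 * m - 1)
      + ε * ((Fintype.card F : ℤ) ^ m - (Fintype.card F : ℤ) ^ (m - 1))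

/-- There is a quadratic space of dimension `2m` and type `ε` over `F` with an isometry of order
exactly `M`. -/
def Model (F : Type u) [Field F] [Fintype F] (M : ℕ) (ε : ℤ) (m : ℕ) : Prop :=
  ∃ (W : Type w) (_ : AddCommGroup W) (_ : Module F W) (_ : Module.Finite F W)
    (Q : QuadraticForm F W) (h : End F W),
    Typ ε m Q ∧ (∀ x, Q (h x) = Q x) ∧ ∀ j : ℕ, h ^ j = 1 ↔ M ∣ j

/-- Every isometry of a nondegenerate alternating space of dimension `2x` over `F` is killed by
one of the exponents of the list `L`. -/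
def Bd (F : Type u) [Field F] (x : ℕ) (L : List ℕ) : Prop :=
  ∀ (V : Type w) [AddCommGroup V] [Module F V] [Module.Finite F V] (β : V →ₗ[F] V →ₗ[F] F),
    (∀ v, β v v = 0) → (∀ u, (∀ v, β u v = 0) → u = 0) → finrank F V = 2 * x →
    ∀ g g' : End F V, Isom β g g' → ∃ E ∈ L, g ^ E = 1

/-- exponent lists; `a = q-1, b = q+1, c = q^2+1, d = q^2+q+1, e = q^2-q+1, f = q^4+1`. -/
def T1 (a b : ℕ) : List ℕ := [2, a, b]

def T2 (a b c : ℕ) : List ℕ := [4, 2 * a, 2 * b, a * b, c]

def T3 (a b c d e : ℕ) : List ℕ :=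
  [8, 4 * a, 4 * b, 2 * (a * b), 2 * c, c * a, c * b, a * d, b * e]

def T4 (a b c d e f : ℕ) : List ℕ :=
  [f, a * b * c, b * e * a, a * d * b, 2 * (b * e), 2 * (a * d), 2 * (c * a), 2 * (c * b), 4 * c,
    4 * (a * b), 8 * a, 8 * b]

/-- the lists as a function of the half-dimension -/
def TT (a b c d e f : ℕ) : ℕ → List ℕ
  | 1 => T1 a b
  | 2 => T2 a b c
  | 3 => T3 a b c d e
  | 4 => T4 a b c d e f
  | _ => []

end Cfsg.Agent.Lib.Helper45OspDefs
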