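import Mathlib
import Cfsg.Agent.Lib.Helper45OspDefs

set_option autoImplicit false

namespace Cfsg.Agent.Lib.Helper45OspCl

open Cfsg.Agent.Lib.Helper45OspDefs

/-- piece `Cl` : the lists are closed under "common multiple" (pure monomial divisibility) -/
theorem cl (a b c d e f : ℕ) (x y z : ℕ) (hx : x ≤ 4) (hy : 1 ≤ y) (hz : 1 ≤ z) (hyz : y + z = x) :
    ∀ E₁ ∈ TT a b c d e f y, ∀ E₂ ∈ TT a b c d e f z,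
      ∃ E ∈ TT a b c d e f x, E₁ ∣ E ∧ E₂ ∣ E := by
  have hcases : (y = 1 ∧ z = 1 ∧ x = 2) ∨ (y = 1 ∧ z = 2 ∧ x = 3) ∨ (y = 2 ∧ z = 1 ∧ x = 3) ∨
      (y = 1 ∧ z = 3 ∧ x = 4) ∨ (y = 3 ∧ z = 1 ∧ x = 4) ∨ (y = 2 ∧ z = 2 ∧ x = 4) := by omega
  rcases hcases with ⟨rfl, rfl, rfl⟩ | ⟨rfl, rfl, rfl⟩ | ⟨rfl, rfl, rfl⟩ | ⟨rfl, rfl, rfl⟩ |
    ⟨rfl, rfl, rfl⟩ | ⟨rfl, rfl, rfl⟩
  · intro E₁ h₁ E₂ h₂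
    simp only [TT, T1, T2, T3, List.mem_cons, List.not_mem_nil, or_false] at h₁ h₂
    rcases h₁ with h₁ | h₁ | h₁ <;> rcases h₂ with h₂ | h₂ | h₂
    · rw [h₁, h₂]; exact ⟨4, by simp [TT, T2], ⟨2, by ring⟩, ⟨2, by ring⟩⟩
    · rw [h₁, h₂]; exact ⟨2 * a, by simp [TT, T2], ⟨1 * a, by ring⟩, ⟨2, by ring⟩⟩
    · rw [h₁, h₂]; exact ⟨2 * b, by simp [TT, T2], ⟨1 * b, by ring⟩, ⟨2, by ring⟩⟩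
    · rw [h₁, h₂]; exact ⟨2 * a, by simp [TT, T2], ⟨2, by ring⟩, ⟨1 * a, by ring⟩⟩
    · rw [h₁, h₂]; exact ⟨2 * a, by simp [TT, T2], ⟨2, by ring⟩, ⟨2, by ring⟩⟩
    · rw [h₁, h₂]; exact ⟨a * b, by simp [TT, T2], ⟨1 * b, by ring⟩, ⟨1 * a, by ring⟩⟩
    · rw [h₁, h₂]; exact ⟨2 * b, by simp [TT, T2], ⟨2, by ring⟩, ⟨1 * b, by ring⟩⟩
    · rw [h₁, h₂]; exact ⟨a * b, by simp [TT, T2], ⟨1 * a, by ring⟩, ⟨1 * b, by ring⟩⟩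
    · rw [h₁, h₂]; exact ⟨2 * b, by simp [TT, T2], ⟨2, by ring⟩, ⟨2, by ring⟩⟩
  · intro E₁ h₁ E₂ h₂
    simp only [TT, T1, T2, T3, List.mem_cons, List.not_mem_nil, or_false] at h₁ h₂
    rcases h₁ with h₁ | h₁ | h₁ <;> rcases h₂ with h₂ | h₂ | h₂ | h₂ | h₂
    · rw [h₁, h₂]; exact ⟨8, by simp [TT, T3], ⟨4, by ring⟩, ⟨2, by ring⟩⟩
    · rw [h₁, h₂]; exact ⟨4 * a, by simp [TT, T3], ⟨2 * a, by ring⟩, ⟨2, by ring⟩⟩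
    · rw [h₁, h₂]; exact ⟨4 * b, by simp [TT, T3], ⟨2 * b, by ring⟩, ⟨2, by ring⟩⟩
    · rw [h₁, h₂]; exact ⟨2 * (a * b), by simp [TT, T3], ⟨1 * a * b, by ring⟩, ⟨2, by ring⟩⟩
    · rw [h₁, h₂]; exact ⟨2 * c, by simp [TT, T3], ⟨1 * c, by ring⟩, ⟨2, by ring⟩⟩
    · rw [h₁, h₂]; exact ⟨4 * a, by simp [TT, T3], ⟨4, by ring⟩, ⟨1 * a, by ring⟩⟩
    · rw [h₁, h₂]; exact ⟨4 * a, by simp [TT, T3], ⟨4, by ring⟩, ⟨2, by ring⟩⟩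
    · rw [h₁, h₂]; exact ⟨2 * (a * b), by simp [TT, T3], ⟨2 * b, by ring⟩, ⟨1 * a, by ring⟩⟩
    · rw [h₁, h₂]; exact ⟨2 * (a * b), by simp [TT, T3], ⟨2 * b, by ring⟩, ⟨2, by ring⟩⟩
    · rw [h₁, h₂]; exact ⟨c * a, by simp [TT, T3], ⟨1 * c, by ring⟩, ⟨1 * a, by ring⟩⟩
    · rw [h₁, h₂]; exact ⟨4 * b, by simp [TT, T3], ⟨4, by ring⟩, ⟨1 * b, by ring⟩⟩
    · rw [h₁, h₂]; exact ⟨2 * (a * b), by simp [TT, T3], ⟨2 * a, by ring⟩, ⟨1 * b, by ring⟩⟩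
    · rw [h₁, h₂]; exact ⟨4 * b, by simp [TT, T3], ⟨4, by ring⟩, ⟨2, by ring⟩⟩
    · rw [h₁, h₂]; exact ⟨2 * (a * b), by simp [TT, T3], ⟨2 * a, by ring⟩, ⟨2, by ring⟩⟩
    · rw [h₁, h₂]; exact ⟨c * b, by simp [TT, T3], ⟨1 * c, by ring⟩, ⟨1 * b, by ring⟩⟩
  · intro E₁ h₁ E₂ h₂
    simp only [TT, T1, T2, T3, List.mem_cons, List.not_mem_nil, or_false] at h₁ h₂
    rcases h₁ with h₁ | h₁ | h₁ | h₁ | h₁ <;> rcases h₂ with h₂ | h₂ | h₂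
    · rw [h₁, h₂]; exact ⟨8, by simp [TT, T3], ⟨2, by ring⟩, ⟨4, by ring⟩⟩
    · rw [h₁, h₂]; exact ⟨4 * a, by simp [TT, T3], ⟨1 * a, by ring⟩, ⟨4, by ring⟩⟩
    · rw [h₁, h₂]; exact ⟨4 * b, by simp [TT, T3], ⟨1 * b, by ring⟩, ⟨4, by ring⟩⟩
    · rw [h₁, h₂]; exact ⟨4 * a, by simp [TT, T3], ⟨2, by ring⟩, ⟨2 * a, by ring⟩⟩
    · rw [h₁, h₂]; exact ⟨4 * a, by simp [TT, T3], ⟨2, by ring⟩, ⟨4, by ring⟩⟩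
    · rw [h₁, h₂]; exact ⟨2 * (a * b), by simp [TT, T3], ⟨1 * b, by ring⟩, ⟨2 * a, by ring⟩⟩
    · rw [h₁, h₂]; exact ⟨4 * b, by simp [TT, T3], ⟨2, by ring⟩, ⟨2 * b, by ring⟩⟩
    · rw [h₁, h₂]; exact ⟨2 * (a * b), by simp [TT, T3], ⟨1 * a, by ring⟩, ⟨2 * b, by ring⟩⟩
    · rw [h₁, h₂]; exact ⟨4 * b, by simp [TT, T3], ⟨2, by ring⟩, ⟨4, by ring⟩⟩
    · rw [h₁, h₂]; exact ⟨2 * (a * b), by simp [TT, T3], ⟨2, by ring⟩, ⟨1 * a * b, by ring⟩⟩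
    · rw [h₁, h₂]; exact ⟨2 * (a * b), by simp [TT, T3], ⟨2, by ring⟩, ⟨2 * b, by ring⟩⟩
    · rw [h₁, h₂]; exact ⟨2 * (a * b), by simp [TT, T3], ⟨2, by ring⟩, ⟨2 * a, by ring⟩⟩
    · rw [h₁, h₂]; exact ⟨2 * c, by simp [TT, T3], ⟨2, by ring⟩, ⟨1 * c, by ring⟩⟩
    · rw [h₁, h₂]; exact ⟨c * a, by simp [TT, T3], ⟨1 * a, by ring⟩, ⟨1 * c, by ring⟩⟩
    · rw [h₁, h₂]; exact ⟨c * b, by simp [TT, T3], ⟨1 * b, by ring⟩, ⟨1 * c, by ring⟩⟩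
  · intro E₁ h₁ E₂ h₂
    simp only [TT, T1, T2, T3, List.mem_cons, List.not_mem_nil, or_false] at h₁ h₂
    rcases h₁ with h₁ | h₁ | h₁ <;> rcases h₂ with h₂ | h₂ | h₂ | h₂ | h₂ | h₂ | h₂ | h₂ | h₂
    · rw [h₁, h₂]; exact ⟨8 * a, by simp [TT, T4], ⟨4 * a, by ring⟩, ⟨1 * a, by ring⟩⟩
    · rw [h₁, h₂]; exact ⟨4 * (a * b), by simp [TT, T4], ⟨2 * a * b, by ring⟩, ⟨1 * b, by ring⟩⟩
    · rw [h₁, h₂]; exact ⟨4 * (a * b), by simp [TT, T4], ⟨2 * a * b, by ring⟩, ⟨1 * a, by ring⟩⟩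
    · rw [h₁, h₂]; exact ⟨4 * (a * b), by simp [TT, T4], ⟨2 * a * b, by ring⟩, ⟨2, by ring⟩⟩
    · rw [h₁, h₂]; exact ⟨2 * (c * a), by simp [TT, T4], ⟨1 * c * a, by ring⟩, ⟨1 * a, by ring⟩⟩
    · rw [h₁, h₂]; exact ⟨2 * (c * a), by simp [TT, T4], ⟨1 * c * a, by ring⟩, ⟨2, by ring⟩⟩
    · rw [h₁, h₂]; exact ⟨2 * (c * b), by simp [TT, T4], ⟨1 * c * b, by ring⟩, ⟨2, by ring⟩⟩
    · rw [h₁, h₂]; exact ⟨2 * (a * d), by simp [TT, T4], ⟨1 * a * d, by ring⟩, ⟨2, by ring⟩⟩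
    · rw [h₁, h₂]; exact ⟨2 * (b * e), by simp [TT, T4], ⟨1 * b * e, by ring⟩, ⟨2, by ring⟩⟩
    · rw [h₁, h₂]; exact ⟨8 * a, by simp [TT, T4], ⟨8, by ring⟩, ⟨1 * a, by ring⟩⟩
    · rw [h₁, h₂]; exact ⟨4 * (a * b), by simp [TT, T4], ⟨4 * b, by ring⟩, ⟨1 * b, by ring⟩⟩
    · rw [h₁, h₂]; exact ⟨4 * (a * b), by simp [TT, T4], ⟨4 * b, by ring⟩, ⟨1 * a, by ring⟩⟩
    · rw [h₁, h₂]; exact ⟨4 * (a * b), by simp [TT, T4], ⟨4 * b, by ring⟩, ⟨2, by ring⟩⟩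
    · rw [h₁, h₂]; exact ⟨2 * (c * a), by simp [TT, T4], ⟨2 * c, by ring⟩, ⟨1 * a, by ring⟩⟩
    · rw [h₁, h₂]; exact ⟨a * b * c, by simp [TT, T4], ⟨1 * b * c, by ring⟩, ⟨1 * b, by ring⟩⟩
    · rw [h₁, h₂]; exact ⟨a * b * c, by simp [TT, T4], ⟨1 * b * c, by ring⟩, ⟨1 * a, by ring⟩⟩
    · rw [h₁, h₂]; exact ⟨a * d * b, by simp [TT, T4], ⟨1 * d * b, by ring⟩, ⟨1 * b, by ring⟩⟩
    · rw [h₁, h₂]; exact ⟨b * e * a, by simp [TT, T4], ⟨1 * b * e, by ring⟩, ⟨1 * a, by ring⟩⟩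
    · rw [h₁, h₂]; exact ⟨8 * b, by simp [TT, T4], ⟨8, by ring⟩, ⟨1 * b, by ring⟩⟩
    · rw [h₁, h₂]; exact ⟨4 * (a * b), by simp [TT, T4], ⟨4 * a, by ring⟩, ⟨1 * b, by ring⟩⟩
    · rw [h₁, h₂]; exact ⟨4 * (a * b), by simp [TT, T4], ⟨4 * a, by ring⟩, ⟨1 * a, by ring⟩⟩
    · rw [h₁, h₂]; exact ⟨4 * (a * b), by simp [TT, T4], ⟨4 * a, by ring⟩, ⟨2, by ring⟩⟩
    · rw [h₁, h₂]; exact ⟨2 * (c * b), by simp [TT, T4], ⟨2 * c, by ring⟩, ⟨1 * b, by ring⟩⟩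
    · rw [h₁, h₂]; exact ⟨a * b * c, by simp [TT, T4], ⟨1 * a * c, by ring⟩, ⟨1 * b, by ring⟩⟩
    · rw [h₁, h₂]; exact ⟨a * b * c, by simp [TT, T4], ⟨1 * a * c, by ring⟩, ⟨1 * a, by ring⟩⟩
    · rw [h₁, h₂]; exact ⟨a * d * b, by simp [TT, T4], ⟨1 * a * d, by ring⟩, ⟨1 * b, by ring⟩⟩
    · rw [h₁, h₂]; exact ⟨b * e * a, by simp [TT, T4], ⟨1 * e * a, by ring⟩, ⟨1 * a, by ring⟩⟩
  · intro E₁ h₁ E₂ h₂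
    simp only [TT, T1, T2, T3, List.mem_cons, List.not_mem_nil, or_false] at h₁ h₂
    rcases h₁ with h₁ | h₁ | h₁ | h₁ | h₁ | h₁ | h₁ | h₁ | h₁ <;> rcases h₂ with h₂ | h₂ | h₂
    · rw [h₁, h₂]; exact ⟨8 * a, by simp [TT, T4], ⟨1 * a, by ring⟩, ⟨4 * a, by ring⟩⟩
    · rw [h₁, h₂]; exact ⟨8 * a, by simp [TT, T4], ⟨1 * a, by ring⟩, ⟨8, by ring⟩⟩
    · rw [h₁, h₂]; exact ⟨8 * b, by simp [TT, T4], ⟨1 * b, by ring⟩, ⟨8, by ring⟩⟩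
    · rw [h₁, h₂]; exact ⟨4 * (a * b), by simp [TT, T4], ⟨1 * b, by ring⟩, ⟨2 * a * b, by ring⟩⟩
    · rw [h₁, h₂]; exact ⟨4 * (a * b), by simp [TT, T4], ⟨1 * b, by ring⟩, ⟨4 * b, by ring⟩⟩
    · rw [h₁, h₂]; exact ⟨4 * (a * b), by simp [TT, T4], ⟨1 * b, by ring⟩, ⟨4 * a, by ring⟩⟩
    · rw [h₁, h₂]; exact ⟨4 * (a * b), by simp [TT, T4], ⟨1 * a, by ring⟩, ⟨2 * a * b, by ring⟩⟩
    · rw [h₁, h₂]; exact ⟨4 * (a * b), by simp [TT, T4], ⟨1 * a, by ring⟩, ⟨4 * b, by ring⟩⟩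
    · rw [h₁, h₂]; exact ⟨4 * (a * b), by simp [TT, T4], ⟨1 * a, by ring⟩, ⟨4 * a, by ring⟩⟩
    · rw [h₁, h₂]; exact ⟨4 * (a * b), by simp [TT, T4], ⟨2, by ring⟩, ⟨2 * a * b, by ring⟩⟩
    · rw [h₁, h₂]; exact ⟨4 * (a * b), by simp [TT, T4], ⟨2, by ring⟩, ⟨4 * b, by ring⟩⟩
    · rw [h₁, h₂]; exact ⟨4 * (a * b), by simp [TT, T4], ⟨2, by ring⟩, ⟨4 * a, by ring⟩⟩
    · rw [h₁, h₂]; exact ⟨2 * (c * a), by simp [TT, T4], ⟨1 * a, by ring⟩, ⟨1 * c * a, by ring⟩⟩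
    · rw [h₁, h₂]; exact ⟨2 * (c * a), by simp [TT, T4], ⟨1 * a, by ring⟩, ⟨2 * c, by ring⟩⟩
    · rw [h₁, h₂]; exact ⟨2 * (c * b), by simp [TT, T4], ⟨1 * b, by ring⟩, ⟨2 * c, by ring⟩⟩
    · rw [h₁, h₂]; exact ⟨2 * (c * a), by simp [TT, T4], ⟨2, by ring⟩, ⟨1 * c * a, by ring⟩⟩
    · rw [h₁, h₂]; exact ⟨a * b * c, by simp [TT, T4], ⟨1 * b, by ring⟩, ⟨1 * b * c, by ring⟩⟩
    · rw [h₁, h₂]; exact ⟨a * b * c, by simp [TT, T4], ⟨1 * b, by ring⟩, ⟨1 * a * c, by ring⟩⟩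
    · rw [h₁, h₂]; exact ⟨2 * (c * b), by simp [TT, T4], ⟨2, by ring⟩, ⟨1 * c * b, by ring⟩⟩
    · rw [h₁, h₂]; exact ⟨a * b * c, by simp [TT, T4], ⟨1 * a, by ring⟩, ⟨1 * b * c, by ring⟩⟩
    · rw [h₁, h₂]; exact ⟨a * b * c, by simp [TT, T4], ⟨1 * a, by ring⟩, ⟨1 * a * c, by ring⟩⟩
    · rw [h₁, h₂]; exact ⟨2 * (a * d), by simp [TT, T4], ⟨2, by ring⟩, ⟨1 * a * d, by ring⟩⟩
    · rw [h₁, h₂]; exact ⟨a * d * b, by simp [TT, T4], ⟨1 * b, by ring⟩, ⟨1 * d * b, by ring⟩⟩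
    · rw [h₁, h₂]; exact ⟨a * d * b, by simp [TT, T4], ⟨1 * b, by ring⟩, ⟨1 * a * d, by ring⟩⟩
    · rw [h₁, h₂]; exact ⟨2 * (b * e), by simp [TT, T4], ⟨2, by ring⟩, ⟨1 * b * e, by ring⟩⟩
    · rw [h₁, h₂]; exact ⟨b * e * a, by simp [TT, T4], ⟨1 * a, by ring⟩, ⟨1 * b * e, by ring⟩⟩
    · rw [h₁, h₂]; exact ⟨b * e * a, by simp [TT, T4], ⟨1 * a, by ring⟩, ⟨1 * e * a, by ring⟩⟩
  · intro E₁ h₁ E₂ h₂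
    simp only [TT, T1, T2, T3, List.mem_cons, List.not_mem_nil, or_false] at h₁ h₂
    rcases h₁ with h₁ | h₁ | h₁ | h₁ | h₁ <;> rcases h₂ with h₂ | h₂ | h₂ | h₂ | h₂
    · rw [h₁, h₂]; exact ⟨4 * c, by simp [TT, T4], ⟨1 * c, by ring⟩, ⟨1 * c, by ring⟩⟩
    · rw [h₁, h₂]; exact ⟨4 * (a * b), by simp [TT, T4], ⟨1 * a * b, by ring⟩, ⟨2 * b, by ring⟩⟩
    · rw [h₁, h₂]; exact ⟨4 * (a * b), by simp [TT, T4], ⟨1 * a * b, by ring⟩, ⟨2 * a, by ring⟩⟩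
    · rw [h₁, h₂]; exact ⟨4 * (a * b), by simp [TT, T4], ⟨1 * a * b, by ring⟩, ⟨4, by ring⟩⟩
    · rw [h₁, h₂]; exact ⟨4 * c, by simp [TT, T4], ⟨1 * c, by ring⟩, ⟨4, by ring⟩⟩
    · rw [h₁, h₂]; exact ⟨4 * (a * b), by simp [TT, T4], ⟨2 * b, by ring⟩, ⟨1 * a * b, by ring⟩⟩
    · rw [h₁, h₂]; exact ⟨2 * (a * d), by simp [TT, T4], ⟨1 * d, by ring⟩, ⟨1 * d, by ring⟩⟩
    · rw [h₁, h₂]; exact ⟨4 * (a * b), by simp [TT, T4], ⟨2 * b, by ring⟩, ⟨2 * a, by ring⟩⟩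
    · rw [h₁, h₂]; exact ⟨4 * (a * b), by simp [TT, T4], ⟨2 * b, by ring⟩, ⟨4, by ring⟩⟩
    · rw [h₁, h₂]; exact ⟨2 * (c * a), by simp [TT, T4], ⟨1 * c, by ring⟩, ⟨2 * a, by ring⟩⟩
    · rw [h₁, h₂]; exact ⟨4 * (a * b), by simp [TT, T4], ⟨2 * a, by ring⟩, ⟨1 * a * b, by ring⟩⟩
    · rw [h₁, h₂]; exact ⟨4 * (a * b), by simp [TT, T4], ⟨2 * a, by ring⟩, ⟨2 * b, by ring⟩⟩
    · rw [h₁, h₂]; exact ⟨2 * (b * e), by simp [TT, T4], ⟨1 * e, by ring⟩, ⟨1 * e, by ring⟩⟩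
    · rw [h₁, h₂]; exact ⟨4 * (a * b), by simp [TT, T4], ⟨2 * a, by ring⟩, ⟨4, by ring⟩⟩
    · rw [h₁, h₂]; exact ⟨2 * (c * b), by simp [TT, T4], ⟨1 * c, by ring⟩, ⟨2 * b, by ring⟩⟩
    · rw [h₁, h₂]; exact ⟨4 * (a * b), by simp [TT, T4], ⟨4, by ring⟩, ⟨1 * a * b, by ring⟩⟩
    · rw [h₁, h₂]; exact ⟨4 * (a * b), by simp [TT, T4], ⟨4, by ring⟩, ⟨2 * b, by ring⟩⟩
    · rw [h₁, h₂]; exact ⟨4 * (a * b), by simp [TT, T4], ⟨4, by ring⟩, ⟨2 * a, by ring⟩⟩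
    · rw [h₁, h₂]; exact ⟨a * b * c, by simp [TT, T4], ⟨1 * c, by ring⟩, ⟨1 * c, by ring⟩⟩
    · rw [h₁, h₂]; exact ⟨a * b * c, by simp [TT, T4], ⟨1 * c, by ring⟩, ⟨1 * a * b, by ring⟩⟩
    · rw [h₁, h₂]; exact ⟨4 * c, by simp [TT, T4], ⟨4, by ring⟩, ⟨1 * c, by ring⟩⟩
    · rw [h₁, h₂]; exact ⟨2 * (c * a), by simp [TT, T4], ⟨2 * a, by ring⟩, ⟨1 * c, by ring⟩⟩
    · rw [h₁, h₂]; exact ⟨2 * (c * b), by simp [TT, T4], ⟨2 * b, by ring⟩, ⟨1 * c, by ring⟩⟩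
    · rw [h₁, h₂]; exact ⟨a * b * c, by simp [TT, T4], ⟨1 * a * b, by ring⟩, ⟨1 * c, by ring⟩⟩
    · rw [h₁, h₂]; exact ⟨a * b * c, by simp [TT, T4], ⟨1 * a * b, by ring⟩, ⟨1 * a * b, by ring⟩⟩

end Cfsg.Agent.Lib.Helper45OspCl
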