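import Mathlib
import Cfsg.Agent.Lib.Helper45OspDefs
import Cfsg.Agent.Lib.Helper45GkA

set_option autoImplicit false

namespace Cfsg.Agent.Lib.Helper45OspIndec

open Module Polynomial Cfsg.Agent.Lib.Helper45Form Cfsg.Agent.Lib.Helper45OspDefs
  Cfsg.Agent.Lib.Helper45Dual Cfsg.Agent.Lib.Helper45PSL Cfsg.Agent.Lib.Helper45ProjOrder
  Cfsg.Agent.Lib.Helper45Semisimple Cfsg.Agent.Lib.Helper45GkA

universe u w

/-- piece `Indec` -/
theorem indec {F : Type u} [Field F] [Fintype F] [CharP F 2] {V : Type w} [AddCommGroup V]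
    [Module F V] [Module.Finite F V] [Nontrivial V] (β : V →ₗ[F] V →ₗ[F] F)
    (hA : ∀ v, β v v = 0) (hnd : ∀ u, (∀ v, β u v = 0) → u = 0) {g g' : End F V}
    (hg : Isom β g g') (hind : ¬ Decomp β g) :
    (g - 1) ^ finrank F V = 0 ∨
      ∃ d e : ℕ, 1 ≤ d ∧ 1 ≤ e ∧ finrank F V = 2 * (d * e) ∧
        ((g ^ (Fintype.card F ^ d - 1) - 1) ^ e = 0 ∨ (g ^ (Fintype.card F ^ d + 1) - 1) ^ e = 0) := by
  classical
  have hpos : 0 < finrank F V := Module.finrank_pos
  have hskew : ∀ u v, β u v = - β v u := by
    intro u v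
    have h := hA (u + v)
    simp only [map_add, LinearMap.add_apply, hA, zero_add, add_zero] at h
    exact eq_neg_of_add_eq_zero_right h
  have hrefl : ∀ u v, β u v = 0 → β v u = 0 := by
    intro u v h
    rw [hskew, h, neg_zero]
  have hdeg : g.charpoly.natDegree = finrank F V := LinearMap.charpoly_natDegree g
  have hnu : ¬ IsUnit g.charpoly := by
    intro h
    have := natDegree_eq_zero_of_isUnit h
    omega
  obtain ⟨f0, hf0, hf0d⟩ := WfDvdMonoid.exists_irreducible_factor hnu (LinearMap.charpoly_monic g).ne_zero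
  obtain ⟨f, hf, hfm, hdvd⟩ : ∃ f : F[X], Irreducible f ∧ f.Monic ∧ f ∣ g.charpoly := by
    refine ⟨normalize f0, ?_, monic_normalize hf0.ne_zero, ?_⟩
    · exact (Associated.irreducible_iff (normalize_associated f0)).2 hf0
    · exact (normalize_associated f0).dvd.trans hf0d
  have : Fact (Irreducible f) := ⟨hf⟩
  have hdf : 1 ≤ f.natDegree := hf.natDegree_pos
  have := finite_adjoinRoot f hf
  have : Finite (AdjoinRoot f) := Module.finite_of_finite F
  set l : AdjoinRoot f := AdjoinRoot.root f with hl
  obtain ⟨ι, hιinj, hι⟩ := exists_embedding g f hf hdvd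
  have hl0 : l ≠ 0 := by
    intro h
    have h1 := hι 1
    rw [← hl, h, zero_mul, map_zero] at h1
    have h3 : ι 1 = 0 := by
      have h4 := congrArg g' h1
      rwa [← Module.End.mul_apply, hg.inv_mul, map_zero] at h4
    exact one_ne_zero (hιinj (h3.trans (map_zero ι).symm))
  have hcard : Nat.card (AdjoinRoot f) = Fintype.card F ^ f.natDegree := by
    rw [natCard_adjoinRoot f hf.ne_zero, Nat.card_eq_fintype_card]
  have hlq : l ^ (Fintype.card F ^ f.natDegree - 1) = 1 := by
    have := Fintype.ofFinite (AdjoinRoot f)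
    rw [← hcard, Nat.card_eq_fintype_card]
    exact FiniteField.pow_card_sub_one_eq_one _ hl0
  have hfN : f ∣ X ^ (Fintype.card F ^ f.natDegree - 1) - 1 := by
    rw [dvd_iff_root]
    simp only [map_sub, map_pow, aeval_X, map_one, ← hl, hlq, sub_self]
  have hN : 0 < Fintype.card F ^ f.natDegree - 1 := by
    have h1 : 2 ≤ Fintype.card F := Fintype.one_lt_card
    have h2 : Fintype.card F ^ 1 ≤ Fintype.card F ^ f.natDegree :=
      Nat.pow_le_pow_right (by omega) hdf
    rw [pow_one] at h2
    omega
  rcases structure_of_indecomposable (σ := RingHom.id F) (B := β) hrefl hnd (fun c => rfl) hg hind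
    f hf hfm hdvd with ⟨e, he, -⟩ | ⟨e, he, hj⟩
  · have hfe : finrank F V = e * f.natDegree := by
      rw [← hdeg, he, natDegree_pow]
    have he1 : 1 ≤ e := by
      rcases Nat.eq_zero_or_pos e with rfl | h
      · simp at hfe; omega
      · exact h
    have hsd : f ∣ dual (RingHom.id F) f := by
      have h1 : dual (RingHom.id F) f ∣ f ^ e := by
        rw [← he]
        exact (dual_dvd_minpoly (B := β) hrefl hnd (fun c => rfl) hg f hdvd).trans
          (LinearMap.minpoly_dvd_charpoly g)
      have h2 := (dual_irreducible (RingHom.id F) f (fun c => rfl)).prime.dvd_of_dvd_pow h1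
      exact (dual_irreducible (RingHom.id F) f (fun c => rfl)).dvd_symm hf h2
    by_cases h2 : f ∣ X ^ 2 - 1
    · left
      have h3 : (X ^ 2 - 1 : F[X]) = (X - 1) ^ 2 := by
        have h4 : (2 : F[X]) = 0 := by
          have : (2 : F) = 0 := by exact_mod_cast CharP.cast_eq_zero F 2
          rw [← C_ofNat, this, C_0]
        linear_combination (X - 1) * h4
      rw [h3] at h2
      have h4 := hf.prime.dvd_of_dvd_pow h2
      have h5 : f = X - 1 := by
        have h6 : Irreducible (X - 1 : F[X]) := by
          have := irreducible_X_sub_C (1 : F)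
          rwa [C_1] at this
        have h7 : (X - 1 : F[X]).Monic := by
          have := monic_X_sub_C (1 : F)
          rwa [C_1] at this
        exact eq_of_monic_of_associated hfm h7 (hf.associated_of_dvd h6 h4)
      have h8 : f.natDegree = 1 := by
        rw [h5]
        have := natDegree_X_sub_C (1 : F)
        rwa [C_1] at this
      have h9 := LinearMap.aeval_self_charpoly g
      rw [he, h5] at h9
      simp only [map_pow, map_sub, aeval_X, map_one] at h9
      rw [hfe, h8, mul_one]
      exact h9
    · right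
      obtain ⟨i, hi, hfi⟩ := selfdual_structure f _ hN hfN h2 hsd
      refine ⟨i, e, by omega, he1, by rw [hfe, hi]; ring, Or.inr ?_⟩
      obtain ⟨P, hP⟩ := pow_dvd_pow_of_dvd hfi e
      have h9 := LinearMap.aeval_self_charpoly g
      have h10 := congrArg (aeval g) hP
      rw [map_mul, ← he, h9, zero_mul] at h10
      simpa only [map_pow, map_sub, aeval_X, map_one] using h10
  · right
    have he1 : 1 ≤ e := by
      rcases Nat.eq_zero_or_pos e with rfl | h
      · simp at he; omega
      · exact h
    refine ⟨f.natDegree, e, hdf, he1, by rw [he]; ring, Or.inl ?_⟩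
    have := hj _ 1 (by simp) (by rw [C_1]; exact hfN)
    rwa [one_smul] at this

end Cfsg.Agent.Lib.Helper45OspIndec
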