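import Mathlib

set_option autoImplicit false

namespace Cfsg.Agent.Lib.Helper45OspPowTwo

open Module

theorem sub_one_sq {F : Type*} [Field F] [CharP F 2] {V : Type*} [AddCommGroup V] [Module F V]
    (z : End F V) : (z - 1) ^ 2 = z ^ 2 - 1 := by
  have h2 : (2 : F) = 0 := CharTwo.two_eq_zero
  have h3 : z + z = 0 := by
    ext v
    have : z v + z v = (2 : F) • z v := (two_smul F (z v)).symm
    rw [LinearMap.add_apply, this, h2, zero_smul]; rfl
  have h5 : (1 : End F V) + 1 = 0 := by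
    ext v
    have : v + v = (2 : F) • v := (two_smul F v).symm
    rw [LinearMap.add_apply, Module.End.one_apply, this, h2, zero_smul]; rfl
  have h4 : (z - 1) ^ 2 = z ^ 2 - 1 - (z + z) + (1 + 1) := by
    rw [sq, sq, sub_mul, mul_sub, mul_sub]
    simp only [mul_one, one_mul]
    abel
  rw [h4, h3, h5]
  simp

theorem pow_sub_one {F : Type*} [Field F] [CharP F 2] {V : Type*} [AddCommGroup V] [Module F V]
    (y : End F V) (j : ℕ) : (y - 1) ^ 2 ^ j = y ^ 2 ^ j - 1 := by
  induction j with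
  | zero => simp
  | succ k ih => rw [pow_succ 2 k, pow_mul, ih, sub_one_sq, ← pow_mul]

/-- piece `PowTwo` -/
theorem pow_two {F : Type*} [Field F] [CharP F 2] {V : Type*} [AddCommGroup V] [Module F V]
    (y : End F V) (e j : ℕ) (he : e ≤ 2 ^ j) (h : (y - 1) ^ e = 0) : y ^ 2 ^ j = 1 := by
  have h1 : (y - 1) ^ 2 ^ j = 0 := pow_eq_zero_of_le he h
  rw [pow_sub_one] at h1
  exact sub_eq_zero.1 h1

end Cfsg.Agent.Lib.Helper45OspPowTwo
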