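import Mathlib
import Cfsg.Agent.Lib.Helper45OspDefs
import Cfsg.Agent.Lib.Helper45SU3
import Cfsg.Agent.Lib.Helper45TrB
import Cfsg.Agent.Lib.Helper45TrD

set_option autoImplicit false

namespace Cfsg.Agent.Lib.Helper45OspStep

open Module Cfsg.Agent.Lib.Helper45Form Cfsg.Agent.Lib.Helper45OspDefs

universe u w

/-- piece `Step` -/
theorem step {F : Type u} [Field F] {V : Type w} [AddCommGroup V] [Module F V] [Module.Finite F V]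
    (β : V →ₗ[F] V →ₗ[F] F) (hA : ∀ v, β v v = 0) (hnd : ∀ u, (∀ v, β u v = 0) → u = 0)
    {x : ℕ} (hdim : finrank F V = 2 * x) {g g' : End F V} (hg : Isom β g g')
    (hdec : Decomp β g) (Ls : ℕ → List ℕ)
    (hB : ∀ y, 1 ≤ y → y < x → Bd.{u, w} F y (Ls y))
    (hcl : ∀ y z, 1 ≤ y → 1 ≤ z → y + z = x → ∀ E₁ ∈ Ls y, ∀ E₂ ∈ Ls z,
      ∃ E ∈ Ls x, E₁ ∣ E ∧ E₂ ∣ E) :
    ∃ E ∈ Ls x, g ^ E = 1 := by
  obtain ⟨V1, V2, hc, h1, h2, hn1, hn2, ho1, ho2⟩ := hdec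
  have h1' := Cfsg.Agent.Lib.Helper45SU3.invt_inv hg V1 h1
  have h2' := Cfsg.Agent.Lib.Helper45SU3.invt_inv hg V2 h2
  have nd1 : ∀ u, (∀ v, Cfsg.Agent.Lib.Helper45SU3.resB β V1 u v = 0) → u = 0 :=
    fun u hu => Cfsg.Agent.Lib.Helper45SU3.resB_nd hnd V1 V2 hc ho1 u hu
  have nd2 : ∀ u, (∀ v, Cfsg.Agent.Lib.Helper45SU3.resB β V2 u v = 0) → u = 0 :=
    fun u hu => Cfsg.Agent.Lib.Helper45SU3.resB_nd hnd V2 V1 hc.symm ho2 u hu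
  have a1 : ∀ v, Cfsg.Agent.Lib.Helper45SU3.resB β V1 v v = 0 := fun v => hA v
  have a2 : ∀ v, Cfsg.Agent.Lib.Helper45SU3.resB β V2 v v = 0 := fun v => hA v
  obtain ⟨y, hy⟩ := Cfsg.Agent.Lib.Helper45TrB.even_finrank_of_alt
    (Cfsg.Agent.Lib.Helper45SU3.resB β V1) a1 nd1
  obtain ⟨z, hz⟩ := Cfsg.Agent.Lib.Helper45TrB.even_finrank_of_alt
    (Cfsg.Agent.Lib.Helper45SU3.resB β V2) a2 nd2
  have hsum := Submodule.finrank_add_eq_of_isCompl hc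
  have hy1 : 1 ≤ y := by
    rcases Nat.eq_zero_or_pos y with rfl | h
    · exact absurd (Submodule.finrank_eq_zero.1 (by rw [hy])) hn1
    · exact h
  have hz1 : 1 ≤ z := by
    rcases Nat.eq_zero_or_pos z with rfl | h
    · exact absurd (Submodule.finrank_eq_zero.1 (by rw [hz])) hn2
    · exact h
  have hyz : y + z = x := by omega
  obtain ⟨E₁, hE₁, e1⟩ := hB y hy1 (by omega) V1 (Cfsg.Agent.Lib.Helper45SU3.resB β V1) a1 nd1 hy _ _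
    (Cfsg.Agent.Lib.Helper45SU3.isom_restrict hg V1 h1 h1')
  obtain ⟨E₂, hE₂, e2⟩ := hB z hz1 (by omega) V2 (Cfsg.Agent.Lib.Helper45SU3.resB β V2) a2 nd2 hz _ _
    (Cfsg.Agent.Lib.Helper45SU3.isom_restrict hg V2 h2 h2')
  obtain ⟨E, hE, ⟨k1, hk1⟩, ⟨k2, hk2⟩⟩ := hcl y z hy1 hz1 hyz E₁ hE₁ E₂ hE₂
  refine ⟨E, hE, ?_⟩
  rw [Cfsg.Agent.Lib.Helper45TrD.pow_eq_one_iff_restrict g V1 V2 hc h1 h2]
  constructor
  · rw [hk1, pow_mul, e1, one_pow]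
  · rw [hk2, pow_mul, e2, one_pow]

end Cfsg.Agent.Lib.Helper45OspStep
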