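import Mathlib
import Cfsg.Agent.Lib.Helper45OspDefs
import Cfsg.Agent.Lib.Helper45OspPowTwo
import Cfsg.Agent.Lib.Helper45OspIndec
import Cfsg.Agent.Lib.Helper45OspStep
import Cfsg.Agent.Lib.Helper45OspCl
import Cfsg.Agent.Lib.Helper45OspArith

set_option autoImplicit false

namespace Cfsg.Agent.Lib.Helper45OspBd

open Module Cfsg.Agent.Lib.Helper45Form Cfsg.Agent.Lib.Helper45OspDefs
  Cfsg.Agent.Lib.Helper45OspPowTwo Cfsg.Agent.Lib.Helper45OspIndec Cfsg.Agent.Lib.Helper45OspStep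
  Cfsg.Agent.Lib.Helper45OspCl Cfsg.Agent.Lib.Helper45OspArith

universe u w

theorem pow_of_nil {F : Type u} [Field F] [CharP F 2] {V : Type w} [AddCommGroup V]
    [Module F V] (g : End F V) (n e j E : ℕ) (he : e ≤ 2 ^ j) (h : (g ^ n - 1) ^ e = 0)
    (hE : n * 2 ^ j ∣ E) : g ^ E = 1 := by
  have h1 := pow_two (g ^ n) e j he h
  rw [← pow_mul] at h1
  obtain ⟨c, rfl⟩ := hE
  rw [pow_mul, h1, one_pow]

/-- piece `BdI` : the indecomposable case -/
theorem bd_indec {F : Type u} [Field F] [Fintype F] [CharP F 2] {V : Type w} [AddCommGroup V]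
    [Module F V] [Module.Finite F V] (β : V →ₗ[F] V →ₗ[F] F)
    (hA : ∀ v, β v v = 0) (hnd : ∀ u, (∀ v, β u v = 0) → u = 0) {g g' : End F V}
    (hg : Isom β g g') (hind : ¬ Decomp β g) (x q : ℕ) (hq : q = Fintype.card F) (hx1 : 1 ≤ x)
    (hx : x ≤ 4) (hdim : finrank F V = 2 * x) :
    ∃ E ∈ TT (q - 1) (q + 1) (q ^ 2 + 1) (q ^ 2 + q + 1) (q ^ 2 - q + 1) (q ^ 4 + 1) x,
      g ^ E = 1 := by
  have : Nontrivial V := Module.nontrivial_of_finrank_pos (R := F) (by omega)
  have hq1 : 1 ≤ q := by rw [hq]; exact Fintype.card_pos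
  rcases indec β hA hnd hg hind with h | ⟨d, e, hd, he, hde, h⟩
  · rw [hdim] at h
    have h' : (g ^ 1 - 1) ^ (2 * x) = 0 := by rwa [pow_one]
    interval_cases x
    · exact ⟨2, by simp [TT, T1], pow_of_nil g 1 _ 1 _ (by norm_num) h' (by norm_num)⟩
    · exact ⟨4, by simp [TT, T2], pow_of_nil g 1 _ 2 _ (by norm_num) h' (by norm_num)⟩
    · exact ⟨8, by simp [TT, T3], pow_of_nil g 1 _ 3 _ (by norm_num) h' (by norm_num)⟩
    · exact ⟨8 * (q - 1), by simp [TT, T4], pow_of_nil g 1 _ 3 _ (by norm_num) h'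
        (by norm_num)⟩
  · rw [← hq] at h
    have hx' : d * e = x := by omega
    have hd4 : d ≤ 4 := (Nat.le_mul_of_pos_right d he).trans (by omega)
    have he4 : e ≤ 4 := (Nat.le_mul_of_pos_left e hd).trans (by omega)
    have i2 := id2 q hq1
    have i3m := id3m q hq1
    have i3p := id3p q hq1
    have i4 := id4 q hq1
    interval_cases d <;> interval_cases e <;> simp only [Nat.reduceMul] at hx' <;> subst hx' <;>
      first
      | omega
      | skip
    · -- (1,1)
      rw [pow_one q] at h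
      rcases h with h | h
      · exact ⟨q - 1, by simp [TT, T1], pow_of_nil g _ _ 0 _ (by norm_num) h (by simp)⟩
      · exact ⟨q + 1, by simp [TT, T1], pow_of_nil g _ _ 0 _ (by norm_num) h (by simp)⟩
    · -- (1,2)
      rw [pow_one q] at h
      rcases h with h | h
      · exact ⟨2 * (q - 1), by simp [TT, T2], pow_of_nil g _ _ 1 _ (by norm_num) h
          ⟨1, by ring⟩⟩
      · exact ⟨2 * (q + 1), by simp [TT, T2], pow_of_nil g _ _ 1 _ (by norm_num) h
          ⟨1, by ring⟩⟩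
    · -- (1,3)
      rw [pow_one q] at h
      rcases h with h | h
      · exact ⟨4 * (q - 1), by simp [TT, T3], pow_of_nil g _ _ 2 _ (by norm_num) h
          ⟨1, by ring⟩⟩
      · exact ⟨4 * (q + 1), by simp [TT, T3], pow_of_nil g _ _ 2 _ (by norm_num) h
          ⟨1, by ring⟩⟩
    · -- (1,4)
      rw [pow_one q] at h
      rcases h with h | h
      · exact ⟨4 * ((q - 1) * (q + 1)), by simp [TT, T4], pow_of_nil g _ _ 2 _ (by norm_num) h
          ⟨q + 1, by ring⟩⟩
      · exact ⟨4 * ((q - 1) * (q + 1)), by simp [TT, T4], pow_of_nil g _ _ 2 _ (by norm_num) h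
          ⟨q - 1, by ring⟩⟩
    · -- (2,1)
      rcases h with h | h
      · exact ⟨(q - 1) * (q + 1), by simp [TT, T2], pow_of_nil g _ _ 0 _ (by norm_num) h
          (by rw [i2]; simp)⟩
      · exact ⟨q ^ 2 + 1, by simp [TT, T2], pow_of_nil g _ _ 0 _ (by norm_num) h (by simp)⟩
    · -- (2,2)
      rcases h with h | h
      · exact ⟨4 * ((q - 1) * (q + 1)), by simp [TT, T4], pow_of_nil g _ _ 1 _ (by norm_num) h
          (by rw [i2]; exact ⟨2, by ring⟩)⟩
      · exact ⟨4 * (q ^ 2 + 1), by simp [TT, T4], pow_of_nil g _ _ 1 _ (by norm_num) h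
          ⟨2, by ring⟩⟩
    · -- (3,1)
      rcases h with h | h
      · exact ⟨(q - 1) * (q ^ 2 + q + 1), by simp [TT, T3], pow_of_nil g _ _ 0 _ (by norm_num) h
          (by rw [i3m]; simp)⟩
      · exact ⟨(q + 1) * (q ^ 2 - q + 1), by simp [TT, T3], pow_of_nil g _ _ 0 _ (by norm_num) h
          (by rw [i3p]; simp)⟩
    · -- (4,1)
      rcases h with h | h
      · exact ⟨(q - 1) * (q + 1) * (q ^ 2 + 1), by simp [TT, T4],
          pow_of_nil g _ _ 0 _ (by norm_num) h (by rw [i4]; simp)⟩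
      · exact ⟨q ^ 4 + 1, by simp [TT, T4], pow_of_nil g _ _ 0 _ (by norm_num) h (by simp)⟩

end Cfsg.Agent.Lib.Helper45OspBd
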