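import Mathlib
import Cfsg.Agent.Lib.Helper45OspBd

set_option autoImplicit false

namespace Cfsg.Agent.Lib.Helper45OspBdMain

open Module Cfsg.Agent.Lib.Helper45Form Cfsg.Agent.Lib.Helper45OspDefs
  Cfsg.Agent.Lib.Helper45OspStep Cfsg.Agent.Lib.Helper45OspCl Cfsg.Agent.Lib.Helper45OspBd

universe u w

/-- assembly: the list of exponents of `Sp_{2x}(q)`, `q` even, `x ≤ 4`. -/
theorem bd {F : Type u} [Field F] [Fintype F] [CharP F 2] (q : ℕ) (hq : q = Fintype.card F)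
    (x : ℕ) (hx1 : 1 ≤ x) (hx : x ≤ 4) :
    Bd.{u, w} F x
      (TT (q - 1) (q + 1) (q ^ 2 + 1) (q ^ 2 + q + 1) (q ^ 2 - q + 1) (q ^ 4 + 1) x) := by
  induction x using Nat.strong_induction_on with
  | _ x ih =>
    intro V _ _ _ β hA hnd hdim g g' hg
    by_cases hdec : Decomp β g
    · exact step β hA hnd hdim hg hdec
        (TT (q - 1) (q + 1) (q ^ 2 + 1) (q ^ 2 + q + 1) (q ^ 2 - q + 1) (q ^ 4 + 1))
        (fun y hy1 hyx => ih y hyx hy1 (by omega))
        (fun y z hy hz hyz => cl _ _ _ _ _ _ x y z hx hy hz hyz)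
    · exact bd_indec β hA hnd hg hdec x q hq hx1 hx hdim

end Cfsg.Agent.Lib.Helper45OspBdMain
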