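import Mathlib
import Cfsg.Agent.Lib.Helper45OspDefs2
import Cfsg.Agent.Lib.Helper45SU3
import Cfsg.Agent.Lib.Helper45TrA
import Cfsg.Agent.Lib.Helper45TrD

set_option autoImplicit false

namespace Cfsg.Agent.Lib.Helper45OspGlue

open Module Cfsg.Agent.Lib.Helper45Form Cfsg.Agent.Lib.Helper45OspDefs
  Cfsg.Agent.Lib.Helper45OspDefs2
  Cfsg.Agent.Lib.Helper45SU3
  Cfsg.Agent.Lib.Helper45TrA
  Cfsg.Agent.Lib.Helper45TrD

universe u

/-- piece `Glue` : replace `g` on `V1` by a model of order `2^(k+1)` -/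
theorem glue {F : Type u} [Field F] {V : Type u} [AddCommGroup V] [Module F V]
    [Module.Finite F V] (β : V →ₗ[F] V →ₗ[F] F) (hA : ∀ v, β v v = 0)
    (hnd : ∀ u, (∀ v, β u v = 0) → u = 0) (x : ℕ) (hdim : finrank F V = 2 * x)
    {g g' : End F V} (hg : Isom β g g') (V1 V2 : Submodule F V) (h1 : V1 ∈ g.invtSubmodule)
    (h2 : V2 ∈ g.invtSubmodule) (hc : IsCompl V1 V2) (ho : ∀ u ∈ V2, ∀ v ∈ V1, β u v = 0)
    (k n' m₁ : ℕ) (hn' : Odd n') (hn : ∀ j : ℕ, g ^ j = 1 ↔ 2 ^ k * n' ∣ j)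
    (hu : (LinearMap.restrict g (p := V1) (q := V1) h1) ^ 2 ^ k = 1)
    (hm₁ : finrank F V1 = 2 * m₁) (hmod : SpModel.{u, u} F (2 ^ (k + 1)) m₁) :
    SpModel.{u, u} F (2 * (2 ^ k * n')) x := by
  obtain ⟨W', i1, i2, i3, β', w', hA', hnd', hdim', hpres', hord'⟩ := hmod
  refine ⟨W' × V2, inferInstance, inferInstance, inferInstance, prodB β' (resB β V2),
    LinearMap.prodMap w' (LinearMap.restrict g (p := V2) (q := V2) h2), ?_, ?_, ?_, ?_, ?_⟩
  · intro v
    rw [prodB_apply, hA', resB_apply, hA, add_zero]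
  · exact prodB_nd hnd' (resB_nd hnd V2 V1 hc.symm ho)
  · rw [Module.finrank_prod, hdim']
    have := Submodule.finrank_add_eq_of_isCompl hc
    omega
  · exact prodMap_pres hpres' (fun a b => hg.preserves a b)
  · intro j
    rw [prodMap_pow, prodMap_eq_one_iff, hord']
    have he : 2 * (2 ^ k * n') = 2 ^ (k + 1) * n' := by ring
    constructor
    · rintro ⟨hj, hg2⟩
      have hk : 2 ^ k ∣ j := dvd_trans (pow_dvd_pow 2 (Nat.le_succ k)) hj
      have hg1 : (LinearMap.restrict g (p := V1) (q := V1) h1) ^ j = 1 := by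
        obtain ⟨c, rfl⟩ := hk
        rw [pow_mul, hu, one_pow]
      have hgj : g ^ j = 1 := (pow_eq_one_iff_restrict g V1 V2 hc h1 h2 j).2 ⟨hg1, hg2⟩
      have hn'j : n' ∣ j := dvd_trans (dvd_mul_left _ _) ((hn j).1 hgj)
      rw [he]
      exact Nat.Coprime.mul_dvd_of_dvd_of_dvd
        (Nat.Coprime.pow_left (k + 1) (Nat.coprime_two_left.2 hn')) hj hn'j
    · intro hj
      refine ⟨dvd_trans (by rw [he]; exact dvd_mul_right _ _) hj, ?_⟩
      have hgj : g ^ j = 1 := (hn j).2 (dvd_trans (dvd_mul_left _ _) hj)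
      exact ((pow_eq_one_iff_restrict g V1 V2 hc h1 h2 j).1 hgj).2

end Cfsg.Agent.Lib.Helper45OspGlue
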