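import Mathlib
import Cfsg.Agent.Lib.Helper45OspDefs

set_option autoImplicit false

namespace Cfsg.Agent.Lib.Helper45OspStd

open Module Cfsg.Agent.Lib.Helper45OspDefs Cfsg.Agent.Lib.Helper48QuadType
  Cfsg.Agent.Lib.Helper7OPlus Cfsg.Agent.Lib.Helper7OMinus Cfsg.Agent.Lib.Helper7Norm2

universe u w w'

variable {F : Type u} [Field F] [Fintype F]

/-- piece `Std` -/
theorem typ_QP (m : ℕ) (hm : 1 ≤ m) : Typ 1 m (QP F m) := by
  refine ⟨hm, nondeg_QP m, ?_, ?_⟩
  · rw [Module.finrank_fintype_fun_eq_card, Fintype.card_sum, Fintype.card_fin]; ring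
  · simp only [QP_apply]
    rw [Cfsg.Agent.S0289.result rfl m hm]
    have h2 : Fintype.card F ^ (m - 1) ≤ Fintype.card F ^ m :=
      Nat.pow_le_pow_right Fintype.card_pos (by omega)
    rw [Nat.cast_sub (by omega)]
    push_cast
    ring

/-- piece `Std` -/
theorem typ_QM (m : ℕ) (hm : 1 ≤ m) (a c : F) (hac : Aniso a c) :
    Typ (-1) m (QM F (m - 1) a c) := by
  refine ⟨hm, nondeg_QM (m - 1) a c hac, ?_, ?_⟩
  · rw [Module.finrank_fintype_fun_eq_card, Fintype.card_sum, Fintype.card_sum, Fintype.card_fin,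
      Fintype.card_fin]
    omega
  · simp only [QM_apply]
    rw [Cfsg.Agent.S0290.result rfl m hm a c hac]
    have h2 : Fintype.card F ^ m ≤ Fintype.card F ^ (2 * m - 1) :=
      Nat.pow_le_pow_right Fintype.card_pos (by omega)
    rw [Nat.cast_sub (by omega)]
    push_cast
    ring

/-- piece `Std` -/
theorem typ_of_isom {W : Type w} [AddCommGroup W] [Module F W] {W' : Type w'} [AddCommGroup W']
    [Module F W'] (Q : QuadraticForm F W) (Q' : QuadraticForm F W')
    (h : Cfsg.Agent.Lib.Helper48QuadType.Isom Q Q') (ε : ℤ) (m : ℕ) (hQ : Typ ε m Q) :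
    Typ ε m Q' := by
  obtain ⟨h1, h2, h3, h4⟩ := hQ
  refine ⟨h1, h.nondeg h2, ?_, ?_⟩
  · obtain ⟨T, -⟩ := h
    rw [← T.finrank_eq, h3]
  · rw [← h.card_zeros, h4]

/-- piece `Std` -/
theorem isom_QM_of_typ {W : Type w} [AddCommGroup W] [Module F W] [Module.Finite F W]
    (Q : QuadraticForm F W) (m : ℕ) (hQ : Typ (-1) m Q) (a c : F) (hac : Aniso a c) :
    Cfsg.Agent.Lib.Helper48QuadType.Isom Q (QM F (m - 1) a c) := by
  rcases classify hQ.1 hQ.2.2.1 Q hQ.2.1 a c hac with h | h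
  · exfalso
    have h1 := (typ_of_isom Q _ h (-1) m hQ).2.2.2
    have h2 := (typ_QP (F := F) m hQ.1).2.2.2
    rw [h1] at h2
    have h3 : (Fintype.card F : ℤ) ^ (m - 1) < (Fintype.card F : ℤ) ^ m := by
      have : Fintype.card F ^ (m - 1) < Fintype.card F ^ m :=
        Nat.pow_lt_pow_right Fintype.one_lt_card (by have := hQ.1; omega)
      exact_mod_cast this
    linarith
  · exact h

end Cfsg.Agent.Lib.Helper45OspStd
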