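import Mathlib
import Cfsg.Agent.Lib.Helper45OspDefs
import Cfsg.Agent.Lib.Helper45OspStd

set_option autoImplicit false

namespace Cfsg.Agent.Lib.Helper45OspP4

open Module Cfsg.Agent.Lib.Helper45OspDefs Cfsg.Agent.Lib.Helper45OspStd

universe u

/-- the 4-cycle on the coordinates. -/
def sig : Fin 2 ⊕ Fin 2 → Fin 2 ⊕ Fin 2
  | Sum.inl i => if i = 0 then Sum.inl 1 else Sum.inr 0
  | Sum.inr i => if i = 0 then Sum.inr 1 else Sum.inl 0

theorem sig4 (k : Fin 2 ⊕ Fin 2) : sig (sig (sig (sig k))) = k := by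
  rcases k with i | i <;> fin_cases i <;> rfl

/-- piece `P4` : the coordinate 4-cycle `x₁ → x₂ → y₁ → y₂ → x₁` on `x₁ y₁ + x₂ y₂` -/
theorem p4 (F : Type u) [Field F] [Fintype F] : Model.{u, u} F 4 1 2 := by
  let h : End F (Fin 2 ⊕ Fin 2 → F) := LinearMap.funLeft F F sig
  have happ : ∀ (x : Fin 2 ⊕ Fin 2 → F) (k : Fin 2 ⊕ Fin 2), h x k = x (sig k) := fun x k => rfl
  refine ⟨Fin 2 ⊕ Fin 2 → F, inferInstance, inferInstance, inferInstance,
    Cfsg.Agent.Lib.Helper7OPlus.QP F 2, h, typ_QP 2 (by norm_num), ?_, ?_⟩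
  · intro x
    rw [Cfsg.Agent.Lib.Helper7OPlus.QP_apply, Cfsg.Agent.Lib.Helper7OPlus.QP_apply]
    simp only [Cfsg.quadFormPlus, Fin.sum_univ_two, happ, sig]
    simp
    ring
  · intro j
    have h2 : ¬ h ^ 2 ^ 1 = 1 := by
      intro hc
      have h3 := congrArg (fun f : End F (Fin 2 ⊕ Fin 2 → F) =>
        f (Pi.single (Sum.inr 0) 1) (Sum.inl 0)) hc
      simp only [pow_one, pow_two, Module.End.mul_apply, happ, Module.End.one_apply, sig] at h3
      simp at h3
    have h4 : h ^ 2 ^ (1 + 1) = 1 := by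
      apply LinearMap.ext
      intro x
      funext k
      have : (2 : ℕ) ^ (1 + 1) = 1 + 1 + 1 + 1 := by norm_num
      rw [this]
      simp only [pow_succ, pow_zero, one_mul, Module.End.mul_apply, happ, Module.End.one_apply, sig4]
    have ho : orderOf h = 2 ^ (1 + 1) := orderOf_eq_prime_pow h2 h4
    rw [← orderOf_dvd_iff_pow_eq_one, ho]
    norm_num

end Cfsg.Agent.Lib.Helper45OspP4
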