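import Mathlib
import Cfsg.Agent.Lib.Helper45OspDefs
import Cfsg.Agent.Lib.Helper45OspStd

set_option autoImplicit false
set_option linter.unusedSectionVars false
set_option linter.unusedSimpArgs false
set_option linter.unnecessarySeqFocus false

namespace Cfsg.Agent.Lib.Helper45OspP6

open Module Cfsg.Agent.Lib.Helper45OspDefs Cfsg.Agent.Lib.Helper45OspStd

universe u

variable (F : Type u) [Field F] [Fintype F] [CharP F 2]

/-- the underlying space of `QM F 2 a b`. -/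
abbrev W6 (F : Type u) : Type u := (Fin 2 ⊕ Fin 2) ⊕ Fin 2 → F

/-- a vector given by its six coordinates `x₁ x₂ y₁ y₂ z₁ z₂`. -/
def mk6 {F : Type u} (x1 x2 y1 y2 z1 z2 : F) : W6 F :=
  Sum.elim (Sum.elim ![x1, x2] ![y1, y2]) ![z1, z2]

/-- a linear map given by six linear forms. -/
def lin6 {F : Type u} [Field F] (f : W6 F → W6 F)
    (hadd : ∀ a b, f (a + b) = f a + f b) (hsmul : ∀ (c : F) a, f (c • a) = c • f a) :
    End F (W6 F) :=
  { toFun := f, map_add' := hadd, map_smul' := hsmul }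

/-- `1 + a N + b N² + c N⁴`-type maps: the general shape we need. -/
def uFun {F : Type u} [Field F] (ζ : F) (v : W6 F) : W6 F :=
  mk6 (v (.inl (.inl 0)) + ζ * v (.inl (.inl 1)) + v (.inl (.inr 1)) + v (.inr 0) + v (.inr 1))
    (v (.inl (.inl 1)) + v (.inl (.inr 0)))
    (v (.inl (.inr 0)))
    (v (.inl (.inr 1)) + ζ * v (.inl (.inl 1)) + v (.inr 0) + v (.inr 1))
    (v (.inr 0) + v (.inr 1))
    (v (.inr 1) + v (.inl (.inl 1)))

def u2Fun {F : Type u} [Field F] (ζ : F) (v : W6 F) : W6 F :=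
  mk6 (v (.inl (.inl 0)) + ζ * v (.inl (.inr 0)) + (ζ + 1) * v (.inl (.inl 1)) + v (.inr 0))
    (v (.inl (.inl 1)))
    (v (.inl (.inr 0)))
    (v (.inl (.inr 1)) + ζ * v (.inl (.inr 0)) + v (.inr 1) + v (.inl (.inl 1)))
    (v (.inr 0) + v (.inl (.inl 1)))
    (v (.inr 1) + v (.inl (.inr 0)))

def u4Fun {F : Type u} [Field F] (v : W6 F) : W6 F :=
  mk6 (v (.inl (.inl 0)) + v (.inl (.inl 1)))
    (v (.inl (.inl 1)))
    (v (.inl (.inr 0)))
    (v (.inl (.inr 1)) + v (.inl (.inr 0)))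
    (v (.inr 0))
    (v (.inr 1))

theorem ext6 {F : Type u} {a b : W6 F} (h1 : a (.inl (.inl 0)) = b (.inl (.inl 0)))
    (h2 : a (.inl (.inl 1)) = b (.inl (.inl 1))) (h3 : a (.inl (.inr 0)) = b (.inl (.inr 0)))
    (h4 : a (.inl (.inr 1)) = b (.inl (.inr 1))) (h5 : a (.inr 0) = b (.inr 0))
    (h6 : a (.inr 1) = b (.inr 1)) : a = b := by
  funext i
  rcases i with (i | i) | i <;> fin_cases i <;> assumption

section mk
variable {F : Type u} (x1 x2 y1 y2 z1 z2 : F)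
@[simp] theorem mk6_x1 : mk6 x1 x2 y1 y2 z1 z2 (.inl (.inl 0)) = x1 := rfl
@[simp] theorem mk6_x2 : mk6 x1 x2 y1 y2 z1 z2 (.inl (.inl 1)) = x2 := rfl
@[simp] theorem mk6_y1 : mk6 x1 x2 y1 y2 z1 z2 (.inl (.inr 0)) = y1 := rfl
@[simp] theorem mk6_y2 : mk6 x1 x2 y1 y2 z1 z2 (.inl (.inr 1)) = y2 := rfl
@[simp] theorem mk6_z1 : mk6 x1 x2 y1 y2 z1 z2 (.inr 0) = z1 := rfl
@[simp] theorem mk6_z2 : mk6 x1 x2 y1 y2 z1 z2 (.inr 1) = z2 := rfl
end mk

/-- the unipotent isometry. -/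
def uMap {F : Type u} [Field F] (ζ : F) : End F (W6 F) :=
  lin6 (uFun ζ)
    (by intro a b; apply ext6 <;> simp only [uFun, mk6_x1, mk6_x2, mk6_y1, mk6_y2, mk6_z1, mk6_z2,
          Pi.add_apply] <;> ring)
    (by intro c a; apply ext6 <;> simp only [uFun, mk6_x1, mk6_x2, mk6_y1, mk6_y2, mk6_z1, mk6_z2,
          Pi.smul_apply, smul_eq_mul] <;> ring)

theorem uMap_apply {F : Type u} [Field F] (ζ : F) (v : W6 F) : uMap ζ v = uFun ζ v := rfl

variable {F}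

theorem u_sq (ζ : F) (v : W6 F) : uFun ζ (uFun ζ v) = u2Fun ζ v := by
  have h2 : (2:F) = 0 := CharTwo.two_eq_zero
  have h3 : (3:F) = 1 := by linear_combination h2
  have h4 : (4:F) = 0 := by linear_combination 2 * h2
  apply ext6 <;> simp only [uFun, u2Fun, mk6_x1, mk6_x2, mk6_y1, mk6_y2, mk6_z1, mk6_z2] <;>
    ring_nf <;> simp only [h2, h3, h4, mul_zero, mul_one, add_zero]

theorem u2_sq (ζ : F) (v : W6 F) : u2Fun ζ (u2Fun ζ v) = u4Fun v := by
  have h2 : (2:F) = 0 := CharTwo.two_eq_zero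
  have h3 : (3:F) = 1 := by linear_combination h2
  have h4 : (4:F) = 0 := by linear_combination 2 * h2
  apply ext6 <;> simp only [u4Fun, u2Fun, mk6_x1, mk6_x2, mk6_y1, mk6_y2, mk6_z1, mk6_z2] <;>
    ring_nf <;> simp only [h2, h3, h4, mul_zero, mul_one, add_zero]

theorem u4_sq (v : W6 F) : u4Fun (u4Fun v) = v := by
  have h2 : (2:F) = 0 := CharTwo.two_eq_zero
  apply ext6 <;> simp only [u4Fun, mk6_x1, mk6_x2, mk6_y1, mk6_y2, mk6_z1, mk6_z2] <;>
    ring_nf <;> simp only [h2, mul_zero, mul_one, add_zero]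

theorem uMap_pow_four (ζ : F) (v : W6 F) : (uMap ζ ^ 4) v = u4Fun v := by
  have e : uMap ζ ^ 4 = uMap ζ * uMap ζ * (uMap ζ * uMap ζ) := by
    rw [← pow_two, ← pow_two, ← pow_mul]
  rw [e]
  simp only [Module.End.mul_apply, uMap_apply, u_sq, u2_sq]

theorem uMap_pow_eight (ζ : F) : uMap ζ ^ 2 ^ (2 + 1) = 1 := by
  have e : uMap ζ ^ 2 ^ (2 + 1) = uMap ζ ^ 4 * uMap ζ ^ 4 := by
    rw [← pow_add]
    norm_num
  rw [e]
  apply LinearMap.ext
  intro v
  rw [Module.End.mul_apply, uMap_pow_four, uMap_pow_four, u4_sq]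
  rfl

theorem uMap_pow_four_ne (ζ : F) : ¬ uMap ζ ^ 2 ^ 2 = 1 := by
  intro h
  have h1 := congrArg (fun f : End F (W6 F) => f (mk6 0 1 0 0 0 0) (.inl (.inl 0))) h
  have e : (2 : ℕ) ^ 2 = 4 := by norm_num
  simp only [e, uMap_pow_four, u4Fun, mk6_x1, mk6_x2, Module.End.one_apply] at h1
  simp at h1

theorem uMap_pow_iff (ζ : F) (j : ℕ) : uMap ζ ^ j = 1 ↔ 8 ∣ j := by
  have h := orderOf_eq_prime_pow (p := 2) (uMap_pow_four_ne ζ) (uMap_pow_eight ζ)
  rw [← orderOf_dvd_iff_pow_eq_one, h]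
  norm_num

theorem uMap_isom (ζ : F) (v : W6 F) :
    Cfsg.Agent.Lib.Helper7OMinus.QM F 2 1 ζ (uMap ζ v) = Cfsg.Agent.Lib.Helper7OMinus.QM F 2 1 ζ v := by
  have h2 : (2:F) = 0 := CharTwo.two_eq_zero
  have h3 : (3:F) = 1 := by linear_combination h2
  have h4 : (4:F) = 0 := by linear_combination 2 * h2
  rw [Cfsg.Agent.Lib.Helper7OMinus.QM_apply, Cfsg.Agent.Lib.Helper7OMinus.QM_apply,
    Cfsg.quadFormMinus, Cfsg.quadFormMinus, Fin.sum_univ_two, Fin.sum_univ_two, uMap_apply]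
  simp only [uFun, mk6_x1, mk6_x2, mk6_y1, mk6_y2, mk6_z1, mk6_z2]
  ring_nf
  simp only [h2, h3, h4, mul_zero, mul_one, add_zero]

variable (F)

/-- piece `P6` -/
theorem p6M (ζ : F) (hζ : ∀ t : F, t ^ 2 + t + ζ ≠ 0) : Model.{u, u} F 8 (-1) 3 := by
  refine ⟨W6 F, inferInstance, inferInstance, inferInstance,
    Cfsg.Agent.Lib.Helper7OMinus.QM F 2 1 ζ, uMap ζ, ?_, uMap_isom ζ, uMap_pow_iff ζ⟩
  exact typ_QM 3 (by norm_num) 1 ζ (Cfsg.Agent.Lib.Helper48QuadType.aniso_of_rootless ζ hζ)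

/-- the isometry from the hyperbolic space of dimension 6. -/
def tMap (F : Type u) [Field F] : (Fin 3 ⊕ Fin 3 → F) →ₗ[F] W6 F :=
  { toFun := fun a => mk6 (a (.inl 0)) (a (.inl 1)) (a (.inr 0)) (a (.inr 1)) (a (.inl 2))
      (a (.inl 2) + a (.inr 2))
    map_add' := by
      intro a b
      apply ext6 <;> simp only [mk6_x1, mk6_x2, mk6_y1, mk6_y2, mk6_z1, mk6_z2, Pi.add_apply] <;>
        ring
    map_smul' := by
      intro c a
      apply ext6 <;> simp only [mk6_x1, mk6_x2, mk6_y1, mk6_y2, mk6_z1, mk6_z2, Pi.smul_apply,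
        smul_eq_mul, RingHom.id_apply] <;> ring }

/-- piece `P6` -/
theorem p6P : Model.{u, u} F 8 1 3 := by
  refine ⟨W6 F, inferInstance, inferInstance, inferInstance,
    Cfsg.Agent.Lib.Helper7OMinus.QM F 2 1 0, uMap 0, ?_, uMap_isom 0, uMap_pow_iff 0⟩
  have hP := typ_QP (F := F) 3 (by norm_num)
  refine typ_of_isom _ _ ?_ 1 3 hP
  refine Cfsg.Agent.Lib.Helper48QuadType.isom_of_linear _ _ hP.2.1 (tMap F) (fun a => ?_) ?_
  · have h2 : (2:F) = 0 := CharTwo.two_eq_zero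
    rw [Cfsg.Agent.Lib.Helper7OMinus.QM_apply, Cfsg.Agent.Lib.Helper7OPlus.QP_apply,
      Cfsg.quadFormMinus, Cfsg.quadFormPlus, Fin.sum_univ_two, Fin.sum_univ_three]
    have e : tMap F a = mk6 (a (.inl 0)) (a (.inl 1)) (a (.inr 0)) (a (.inr 1)) (a (.inl 2))
      (a (.inl 2) + a (.inr 2)) := rfl
    rw [e]
    simp only [mk6_x1, mk6_x2, mk6_y1, mk6_y2, mk6_z1, mk6_z2]
    ring_nf
    simp only [h2, mul_zero, mul_one, add_zero]
  · simp

end Cfsg.Agent.Lib.Helper45OspP6
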