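import Mathlib
import Cfsg.Agent.Lib.Helper45OspDefs2
import Cfsg.Agent.Lib.Helper45OspUnit
import Cfsg.Agent.Lib.Helper45GkD

set_option autoImplicit false

namespace Cfsg.Agent.Lib.Helper45OspPol

open Module Cfsg.Agent.Lib.Helper45Form Cfsg.Agent.Lib.Helper45OspDefs
  Cfsg.Agent.Lib.Helper45OspDefs2
  Cfsg.Agent.Lib.Helper45OspUnit
  Cfsg.Agent.Lib.Helper45GkD

universe u w

variable {F : Type u} [Field F] [Fintype F] [CharP F 2]

/-- piece `Pol` : the polar form -/
theorem polar_pkg {W : Type w} [AddCommGroup W] [Module F W] [Module.Finite F W]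
    (Q : QuadraticForm F W) (ε : ℤ) (m : ℕ) (hQ : Typ ε m Q) :
    (∀ v, QuadraticMap.polarBilin Q v v = 0) ∧
      (∀ u, (∀ v, QuadraticMap.polarBilin Q u v = 0) → u = 0) := by
  have h2 : (2 : F) = 0 := CharP.cast_eq_zero F 2
  constructor
  · intro x
    rw [QuadraticMap.polarBilin_apply_apply, QuadraticMap.polar_self]
    rw [two_smul]
    linear_combination (Q x) * h2
  · intro u hu
    exact hQ.2.1.1 u hu

theorem polar_pres {W : Type w} [AddCommGroup W] [Module F W]
    (Q : QuadraticForm F W) (h : End F W)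
    (i : ∀ x, Q (h x) = Q x) (x y : W) :
    QuadraticMap.polarBilin Q (h x) (h y) = QuadraticMap.polarBilin Q x y := by
  rw [QuadraticMap.polarBilin_apply_apply, QuadraticMap.polarBilin_apply_apply]
  unfold QuadraticMap.polar
  rw [← map_add, i, i, i]

theorem polar_isom {W : Type w} [AddCommGroup W] [Module F W] [Module.Finite F W]
    (Q : QuadraticForm F W) (ε : ℤ) (m : ℕ) (hQ : Typ ε m Q) (h : End F W)
    (i : ∀ x, Q (h x) = Q x) : ∃ h' : End F W, Isom (QuadraticMap.polarBilin Q) h h' := by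
  obtain ⟨g, rfl⟩ := exists_unit Q ε m hQ h i
  exact ⟨(g⁻¹ : (End F W)ˣ).val, Isom.of_preserves (Units.mul_inv g) (Units.inv_mul g)
    (polar_pres Q _ i)⟩

theorem sp_of_model (M : ℕ) (ε : ℤ) (m : ℕ) (h : Model.{u, w} F M ε m) : SpModel.{u, w} F M m := by
  obtain ⟨W, _, _, _, Q, g, hQ, hi, hM⟩ := h
  obtain ⟨hA, hnd⟩ := polar_pkg Q ε m hQ
  exact ⟨W, inferInstance, inferInstance, inferInstance, QuadraticMap.polarBilin Q, g, hA, hnd,
    hQ.2.2.1, polar_pres Q g hi, hM⟩

omit [Fintype F] in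
theorem model_sp (M m : ℕ) (hm : 1 ≤ m) (h : SpModel.{u, w} F M m) :
    M ∈ Set.range (orderOf : Cfsg.PSp m F → ℕ) := by
  have h2 : (2 : F) = 0 := CharP.cast_eq_zero F 2
  obtain ⟨W, _, _, _, β, g, hA, hnd, hdim, hp, hM⟩ := h
  have : Nontrivial W := Module.nontrivial_of_finrank_pos (R := F) (by omega)
  exact Cfsg.Agent.Lib.Helper45TrB.real_sp β hA hnd hm hdim g hp M
    (proj_of_exact g M (Or.inl h2) hM)

end Cfsg.Agent.Lib.Helper45OspPol
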