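import Mathlib
import Cfsg.Agent.Lib.Helper45OspDefs

set_option autoImplicit false

namespace Cfsg.Agent.Lib.Helper45OspLevel

open Module Cfsg.Agent.Lib.Helper45OspDefs

universe u w

/-- piece `Level` : in characteristic 2 all non-zero values are taken equally often -/
theorem level {F : Type u} [Field F] [Fintype F] [CharP F 2] {W : Type w} [AddCommGroup W]
    [Module F W] [Module.Finite F W] (ε : ℤ) (m : ℕ) (Q : QuadraticForm F W) (h : Typ ε m Q)
    (c : F) (hc : c ≠ 0) :
    (Nat.card {x : W // Q x = c} : ℤ)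
      = (Fintype.card F : ℤ) ^ (2 * m - 1) - ε * (Fintype.card F : ℤ) ^ (m - 1) := by
  classical
  obtain ⟨hm, -, hfin, hz⟩ := h
  haveI : Finite W := Module.finite_of_finite F
  haveI : Fintype W := Fintype.ofFinite W
  have hN : ∀ c' : F, c' ≠ 0 → Nat.card {x : W // Q x = c'} = Nat.card {x : W // Q x = c} := by
    intro c' hc'
    obtain ⟨s, hs⟩ : IsSquare (c / c') := FiniteField.isSquare_of_char_two (CharP.ringChar_of_prime_eq_zero Nat.prime_two (CharP.cast_eq_zero F 2)) _
    have hs0 : s ≠ 0 := by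
      rintro rfl
      rw [mul_zero] at hs
      exact (div_ne_zero hc hc') hs
    refine Nat.card_congr ⟨fun x => ⟨s • x.1, ?_⟩, fun x => ⟨s⁻¹ • x.1, ?_⟩, ?_, ?_⟩
    · rw [QuadraticMap.map_smul, x.2, ← hs, smul_eq_mul, div_mul_cancel₀ _ hc']
    · rw [QuadraticMap.map_smul, x.2, ← mul_inv, ← hs, smul_eq_mul, inv_div, div_mul_cancel₀ _ hc]
    · intro x
      apply Subtype.ext
      simp [smul_smul, hs0]
    · intro x
      apply Subtype.ext
      simp [smul_smul, hs0]
  have hcard : ∀ c' : F, Nat.card {x : W // Q x = c'} =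
      (Finset.univ.filter (fun x : W => Q x = c')).card := by
    intro c'
    rw [Nat.card_eq_fintype_card, Fintype.card_subtype]
  have hsum : Fintype.card W = ∑ c' : F, Nat.card {x : W // Q x = c'} := by
    rw [← Finset.card_univ, Finset.card_eq_sum_card_fiberwise (f := fun x : W => Q x)
      (s := Finset.univ) (t := Finset.univ) (fun _ _ => Finset.mem_coe.2 (Finset.mem_univ _))]
    exact Finset.sum_congr rfl (fun c' _ => (hcard c').symm)
  rw [← Finset.add_sum_erase _ _ (Finset.mem_univ (0 : F)),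
    Finset.sum_congr rfl (fun c' hc' => hN c' (Finset.ne_of_mem_erase hc')), Finset.sum_const,
    Finset.card_erase_of_mem (Finset.mem_univ _), Finset.card_univ, Module.card_eq_pow_finrank (K := F),
    hfin, smul_eq_mul] at hsum
  have hq1 : 1 < Fintype.card F := Fintype.one_lt_card
  obtain ⟨k, rfl⟩ : ∃ k, m = k + 1 := ⟨m - 1, by omega⟩
  have hsum' : ((Fintype.card F : ℤ)) ^ (2 * (k + 1)) = (Nat.card {x : W // Q x = 0} : ℤ) +
      ((Fintype.card F : ℤ) - 1) * (Nat.card {x : W // Q x = c} : ℤ) := by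
    have := congrArg (fun n : ℕ => (n : ℤ)) hsum
    push_cast [Nat.cast_sub hq1.le] at this
    exact this
  rw [hz] at hsum'
  have e1 : 2 * (k + 1) - 1 = 2 * k + 1 := by omega
  have e2 : k + 1 - 1 = k := by omega
  rw [e1, e2] at hsum' ⊢
  have hq0 : ((Fintype.card F : ℤ) - 1) ≠ 0 := by
    have : (1 : ℤ) < (Fintype.card F : ℤ) := by exact_mod_cast hq1
    omega
  apply mul_left_cancel₀ hq0
  linear_combination -hsum'

end Cfsg.Agent.Lib.Helper45OspLevel
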