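import Mathlib
import Cfsg.Agent.Lib.Helper45OspDefs
import Cfsg.Agent.Lib.Helper45OspLevel

set_option autoImplicit false

namespace Cfsg.Agent.Lib.Helper45OspSum

open Module Cfsg.Agent.Lib.Helper45OspDefs Cfsg.Agent.Lib.Helper45OspLevel

universe u w₁ w₂

/-- the zeros of an orthogonal sum, fibred over the common value. -/
def zerosEquiv {F : Type u} [Field F] [CharP F 2] {W₁ : Type w₁} [AddCommGroup W₁]
    [Module F W₁] {W₂ : Type w₂} [AddCommGroup W₂] [Module F W₂] (Q₁ : QuadraticForm F W₁)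
    (Q₂ : QuadraticForm F W₂) :
    {z : W₁ × W₂ // (Q₁.prod Q₂) z = 0} ≃ Σ c : F, {x : W₁ // Q₁ x = c} × {y : W₂ // Q₂ y = c} where
  toFun z := ⟨Q₁ z.1.1, ⟨z.1.1, rfl⟩, ⟨z.1.2, by
    have h := z.2
    rw [QuadraticMap.prod_apply] at h
    have h2 : Q₂ z.1.2 = - Q₁ z.1.1 := by linear_combination h
    rw [h2, CharTwo.neg_eq]⟩⟩
  invFun s := ⟨(s.2.1.1, s.2.2.1), by
    rw [QuadraticMap.prod_apply]
    show Q₁ s.2.1.1 + Q₂ s.2.2.1 = 0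
    rw [s.2.1.2, s.2.2.2, CharTwo.add_self_eq_zero]⟩
  left_inv z := rfl
  right_inv s := by
    obtain ⟨c, ⟨x, hx⟩, ⟨y, hy⟩⟩ := s
    subst hx
    rfl

/-- piece `Sum` : the type is multiplicative on orthogonal sums -/
theorem typ_prod {F : Type u} [Field F] [Fintype F] [CharP F 2] {W₁ : Type w₁} [AddCommGroup W₁]
    [Module F W₁] [Module.Finite F W₁] {W₂ : Type w₂} [AddCommGroup W₂] [Module F W₂]
    [Module.Finite F W₂] (ε₁ ε₂ : ℤ) (m₁ m₂ : ℕ) (Q₁ : QuadraticForm F W₁)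
    (Q₂ : QuadraticForm F W₂) (h₁ : Typ ε₁ m₁ Q₁) (h₂ : Typ ε₂ m₂ Q₂) :
    Typ (ε₁ * ε₂) (m₁ + m₂) (Q₁.prod Q₂) := by
  classical
  have : Finite W₁ := Module.finite_of_finite F
  have : Finite W₂ := Module.finite_of_finite F
  have hl₁ := level ε₁ m₁ Q₁ h₁
  have hl₂ := level ε₂ m₂ Q₂ h₂
  obtain ⟨hm₁, hn₁, hf₁, hz₁⟩ := h₁
  obtain ⟨hm₂, hn₂, hf₂, hz₂⟩ := h₂
  refine ⟨by omega, Cfsg.Agent.Lib.Helper48QuadType.nondeg_prod Q₁ Q₂ hn₁ hn₂, ?_, ?_⟩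
  · rw [Module.finrank_prod, hf₁, hf₂]
    ring
  · rw [Nat.card_congr (zerosEquiv Q₁ Q₂), Nat.card_sigma]
    simp only [Nat.card_prod]
    push_cast
    rw [← Finset.add_sum_erase Finset.univ _ (Finset.mem_univ (0 : F)), hz₁, hz₂]
    have hc : ∀ c ∈ Finset.univ.erase (0 : F),
        (Nat.card {x : W₁ // Q₁ x = c} : ℤ) * (Nat.card {y : W₂ // Q₂ y = c} : ℤ)
        = ((Fintype.card F : ℤ) ^ (2 * m₁ - 1) - ε₁ * (Fintype.card F : ℤ) ^ (m₁ - 1))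
          * ((Fintype.card F : ℤ) ^ (2 * m₂ - 1) - ε₂ * (Fintype.card F : ℤ) ^ (m₂ - 1)) := by
      intro c hc
      rw [hl₁ c (Finset.ne_of_mem_erase hc), hl₂ c (Finset.ne_of_mem_erase hc)]
    rw [Finset.sum_congr rfl hc, Finset.sum_const, Finset.card_erase_of_mem (Finset.mem_univ _),
      Finset.card_univ, nsmul_eq_mul, Nat.cast_sub Fintype.card_pos]
    obtain ⟨k₁, rfl⟩ : ∃ k, m₁ = k + 1 := ⟨m₁ - 1, by omega⟩
    obtain ⟨k₂, rfl⟩ : ∃ k, m₂ = k + 1 := ⟨m₂ - 1, by omega⟩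
    have e1 : 2 * (k₁ + 1) - 1 = 2 * k₁ + 1 := by omega
    have e2 : 2 * (k₂ + 1) - 1 = 2 * k₂ + 1 := by omega
    have e3 : 2 * (k₁ + 1 + (k₂ + 1)) - 1 = 2 * k₁ + 2 * k₂ + 3 := by omega
    have e4 : k₁ + 1 + (k₂ + 1) - 1 = k₁ + k₂ + 1 := by omega
    rw [e1, e2, e3, e4]
    simp only [Nat.add_sub_cancel]
    push_cast
    ring

end Cfsg.Agent.Lib.Helper45OspSum
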