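import Mathlib
import Cfsg.Agent.Lib.Helper45OspDefs
import Cfsg.Agent.Lib.Helper45OspSum
import Cfsg.Agent.Lib.Helper45TrA

set_option autoImplicit false

namespace Cfsg.Agent.Lib.Helper45OspProd

open Module Cfsg.Agent.Lib.Helper45OspDefs Cfsg.Agent.Lib.Helper45OspSum

universe u w₁ w₂

/-- piece `Prod` : orthogonal sum of two models -/
theorem model_prod {F : Type u} [Field F] [Fintype F] [CharP F 2] (M₁ M₂ : ℕ) (ε₁ ε₂ : ℤ)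
    (m₁ m₂ : ℕ) (h₁ : Model.{u, w₁} F M₁ ε₁ m₁) (h₂ : Model.{u, w₂} F M₂ ε₂ m₂) :
    Model.{u, max w₁ w₂} F (Nat.lcm M₁ M₂) (ε₁ * ε₂) (m₁ + m₂) := by
  obtain ⟨W₁, _, _, _, Q₁, g₁, ht₁, hq₁, ho₁⟩ := h₁
  obtain ⟨W₂, _, _, _, Q₂, g₂, ht₂, hq₂, ho₂⟩ := h₂
  refine ⟨W₁ × W₂, inferInstance, inferInstance, inferInstance, Q₁.prod Q₂,
    LinearMap.prodMap g₁ g₂, typ_prod ε₁ ε₂ m₁ m₂ Q₁ Q₂ ht₁ ht₂, ?_, ?_⟩
  · rintro ⟨x, y⟩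
    simp only [LinearMap.prodMap_apply, QuadraticMap.prod_apply, hq₁, hq₂]
  · intro j
    rw [Cfsg.Agent.Lib.Helper45TrA.prodMap_pow, Cfsg.Agent.Lib.Helper45TrA.prodMap_eq_one_iff,
      ho₁, ho₂, Nat.lcm_dvd_iff]

end Cfsg.Agent.Lib.Helper45OspProd
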