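import Mathlib
import Cfsg.Agent.Lib.Helper45OspDefs
import Cfsg.Agent.Lib.Helper45OspStd

set_option autoImplicit false

namespace Cfsg.Agent.Lib.Helper45OspRefl

open Module Cfsg.Agent.Lib.Helper45OspDefs Cfsg.Agent.Lib.Helper45OspStd
  Cfsg.Agent.Lib.Helper7Norm2

universe u

theorem pow_eq_one_iff_two_dvd {M : Type*} [Monoid M] {h : M} (h2 : h ^ 2 = 1) (h1 : h ≠ 1)
    (j : ℕ) : h ^ j = 1 ↔ 2 ∣ j := by
  haveI : Fact (Nat.Prime 2) := ⟨Nat.prime_two⟩
  rw [← orderOf_dvd_iff_pow_eq_one, orderOf_eq_prime h2 h1]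

variable (F : Type u) [Field F] [Fintype F] [CharP F 2]

/-- piece `Refl` -/
theorem reflP : Model.{u, u} F 2 1 1 := by
  refine ⟨(Fin 1 ⊕ Fin 1 → F), inferInstance, inferInstance, inferInstance,
    Cfsg.Agent.Lib.Helper7OPlus.QP F 1, LinearMap.funLeft F F Sum.swap, typ_QP 1 le_rfl, ?_, ?_⟩
  · intro x
    rw [Cfsg.Agent.Lib.Helper7OPlus.QP_apply, Cfsg.Agent.Lib.Helper7OPlus.QP_apply]
    simp [Cfsg.quadFormPlus, LinearMap.funLeft_apply, mul_comm]
  · apply pow_eq_one_iff_two_dvd
    · apply LinearMap.ext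
      intro x
      ext i
      rw [sq, Module.End.mul_apply, LinearMap.funLeft_apply, LinearMap.funLeft_apply]
      simp
    · intro h
      have h1 := congrFun (LinearMap.congr_fun h (Pi.single (Sum.inl 0) 1)) (Sum.inl 0)
      rw [LinearMap.funLeft_apply] at h1
      simp at h1

/-- piece `Refl` -/
theorem reflM (a b : F) (hab : Aniso a b) : Model.{u, u} F 2 (-1) 1 := by
  have h2 : (2 : F) = 0 := CharP.cast_eq_zero F 2
  have ha : a ≠ 0 := by
    intro h0
    have := disc_ne_zero hab
    apply this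
    rw [h0]
    linear_combination (-2 * b) * h2
  let h : End F ((Fin (1 - 1) ⊕ Fin (1 - 1)) ⊕ Fin 2 → F) :=
    { toFun := fun v x => Sum.elim (fun y => v (Sum.inl y))
        (fun j => if j = 0 then v (Sum.inr 0) + a * v (Sum.inr 1) else v (Sum.inr 1)) x
      map_add' := by
        intro v w
        ext x
        rcases x with x | x
        · simp
        · by_cases hx : x = 0
          · simp [hx]; ring
          · simp [hx]
      map_smul' := by
        intro c v
        ext x
        rcases x with x | x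
        · simp
        · by_cases hx : x = 0
          · simp [hx]; ring
          · simp [hx] }
  have hl : ∀ v y, h v (Sum.inl y) = v (Sum.inl y) := fun v y => rfl
  have h0 : ∀ v, h v (Sum.inr 0) = v (Sum.inr 0) + a * v (Sum.inr 1) := fun v => rfl
  have h1 : ∀ v, h v (Sum.inr 1) = v (Sum.inr 1) := fun v => rfl
  refine ⟨((Fin (1 - 1) ⊕ Fin (1 - 1)) ⊕ Fin 2 → F), inferInstance, inferInstance, inferInstance,
    Cfsg.Agent.Lib.Helper7OMinus.QM F (1 - 1) a b, h, typ_QM 1 le_rfl a b hab, ?_, ?_⟩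
  · intro x
    rw [Cfsg.Agent.Lib.Helper7OMinus.QM_apply, Cfsg.Agent.Lib.Helper7OMinus.QM_apply]
    unfold Cfsg.quadFormMinus
    simp only [hl, h0, h1]
    linear_combination (a * x (Sum.inr 0) * x (Sum.inr 1) + a ^ 2 * x (Sum.inr 1) ^ 2) * h2
  · apply pow_eq_one_iff_two_dvd
    · apply LinearMap.ext
      intro x
      ext i
      rw [sq, Module.End.mul_apply, Module.End.one_apply]
      rcases i with i | i
      · rw [hl, hl]
      · fin_cases i
        · show h (h x) (Sum.inr 0) = x (Sum.inr 0)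
          rw [h0, h0, h1]
          linear_combination (a * x (Sum.inr 1)) * h2
        · show h (h x) (Sum.inr 1) = x (Sum.inr 1)
          rw [h1, h1]
    · intro hh
      have h3 := congrFun (LinearMap.congr_fun hh (Pi.single (Sum.inr 1) 1)) (Sum.inr 0)
      rw [h0] at h3
      simp at h3
      exact ha h3

end Cfsg.Agent.Lib.Helper45OspRefl
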