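import Mathlib
import Cfsg.Agent.Lib.Helper45OspDefs2
import Cfsg.Agent.Lib.Helper45OspPol
import Cfsg.Agent.Lib.Helper45OspProd
import Cfsg.Agent.Lib.Helper45OspRefl
import Cfsg.Agent.Lib.Helper45OspP4
import Cfsg.Agent.Lib.Helper45OspP6
import Cfsg.Agent.Lib.Helper45OspStd

set_option autoImplicit false

namespace Cfsg.Agent.Lib.Helper45OspUni

open Module Cfsg.Agent.Lib.Helper45Form Cfsg.Agent.Lib.Helper45OspDefs
  Cfsg.Agent.Lib.Helper45OspDefs2
  Cfsg.Agent.Lib.Helper45OspPol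
  Cfsg.Agent.Lib.Helper45OspProd
  Cfsg.Agent.Lib.Helper45OspRefl
  Cfsg.Agent.Lib.Helper45OspP4
  Cfsg.Agent.Lib.Helper45OspP6
  Cfsg.Agent.Lib.Helper45OspStd

universe u

/-- piece `Uni` : identity model -/
theorem idP (F : Type u) [Field F] [Fintype F] (m : ℕ) (hm : 1 ≤ m) : Model.{u, u} F 1 1 m := by
  refine ⟨(Fin m ⊕ Fin m → F), inferInstance, inferInstance, inferInstance,
    Cfsg.Agent.Lib.Helper7OPlus.QP F m, 1, typ_QP m hm, fun x => rfl, fun j => ?_⟩
  simp

/-- padding a plus type model by an identity -/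
theorem pad (F : Type u) [Field F] [Fintype F] [CharP F 2] (M m₀ m : ℕ) (h : Model.{u, u} F M 1 m₀)
    (hle : m₀ ≤ m) : Model.{u, u} F M 1 m := by
  rcases Nat.eq_or_lt_of_le hle with rfl | hlt
  · exact h
  · have := model_prod M 1 1 1 m₀ (m - m₀) h (idP F (m - m₀) (by omega))
    rw [Nat.lcm_one_right, mul_one, Nat.add_sub_cancel' hle] at this
    exact this

/-- piece `Uni` : unipotent symplectic isometries of order `2^(k+1)` in dimension `2m > 2^k` -/
theorem uni (F : Type u) [Field F] [Fintype F] [CharP F 2] (k m : ℕ) (h : 2 ^ k + 1 ≤ 2 * m)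
    (hm : m ≤ 4) : SpModel.{u, u} F (2 ^ (k + 1)) m := by
  apply sp_of_model _ 1
  rcases k with _ | _ | _ | k
  · exact pad F _ 1 m (reflP F) (by omega)
  · exact pad F _ 2 m (p4 F) (by norm_num at h; omega)
  · exact pad F _ 3 m (p6P F) (by norm_num at h; omega)
  · exfalso
    have : 2 ^ 3 ≤ 2 ^ (k + 1 + 1 + 1) := Nat.pow_le_pow_right (by norm_num) (by omega)
    omega

end Cfsg.Agent.Lib.Helper45OspUni
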