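import Mathlib
import Cfsg.Agent.Lib.Helper45OspDefs2
import Cfsg.Agent.Lib.Helper45OspReduce
import Cfsg.Agent.Lib.Helper45OspUnip
import Cfsg.Agent.Lib.Helper45OspGlue
import Cfsg.Agent.Lib.Helper45OspUni
import Cfsg.Agent.Lib.Helper45TrB

set_option autoImplicit false

namespace Cfsg.Agent.Lib.Helper45OspDbl

open Module Cfsg.Agent.Lib.Helper45Form Cfsg.Agent.Lib.Helper45OspDefs
  Cfsg.Agent.Lib.Helper45OspDefs2 Cfsg.Agent.Lib.Helper45OspReduce Cfsg.Agent.Lib.Helper45OspUnip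
  Cfsg.Agent.Lib.Helper45OspGlue Cfsg.Agent.Lib.Helper45OspUni Cfsg.Agent.Lib.Helper45SU3
  Cfsg.Agent.Lib.Helper45TrB Cfsg.Agent.Lib.Helper45TrD

universe u

/-- assembly: an isometry `g` of order `n` of an 8-dimensional symplectic space with even dimensional
fixed space and non-zero norm: `Sp_8(q)` has an element of order `2n`. -/
theorem dbl {F : Type u} [Field F] [Fintype F] [CharP F 2] {V : Type u} [AddCommGroup V]
    [Module F V] [Module.Finite F V] (β : V →ₗ[F] V →ₗ[F] F) (hA : ∀ v, β v v = 0)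
    (hnd : ∀ u, (∀ v, β u v = 0) → u = 0) (hdim : finrank F V = 2 * 4) {g g' : End F V}
    (hg : Isom β g g') (n : ℕ) (hn0 : 0 < n) (hn : ∀ j : ℕ, g ^ j = 1 ↔ n ∣ j)
    (hev : Even (fx g)) (hN : Nm g n ≠ 0) : SpModel.{u, u} F (2 * n) 4 := by
  obtain ⟨k, n', hn'odd, rfl⟩ := Nat.exists_eq_two_pow_mul_odd hn0.ne'
  obtain ⟨V1, V2, h1, h2, hc, ho12, ho21, ⟨r, hr⟩, hN1, hfx⟩ :=
    reduce β hg _ ((hn _).2 dvd_rfl) hN
  have hyn : (LinearMap.restrict g (p := V1) (q := V1) h1) ^ (2 ^ k * n') = 1 :=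
    ((pow_eq_one_iff_restrict g V1 V2 hc h1 h2 _).1 ((hn _).2 dvd_rfl)).1
  obtain ⟨hu, hbd⟩ := unip_bound (LinearMap.restrict g (p := V1) (q := V1) h1) r hr k n' hn'odd
    hyn hN1 (hfx ▸ hev)
  obtain ⟨m₁, hm₁⟩ := even_finrank_of_alt (resB β V1) (fun x => hA x) (resB_nd hnd V1 V2 hc ho12)
  have hle : finrank F V1 ≤ finrank F V := Submodule.finrank_le V1
  exact glue β hA hnd 4 hdim hg V1 V2 h1 h2 hc ho21 k n' m₁ hn'odd hn hu hm₁
    (uni F k m₁ (by omega) (by omega))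

end Cfsg.Agent.Lib.Helper45OspDbl
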