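import Mathlib

set_option autoImplicit false

namespace Cfsg.Agent.Lib.Helper45OspRootless

/-- piece `Rootless` -/
theorem exists_rootless (F : Type*) [Field F] [Fintype F] [CharP F 2] :
    ∃ ζ : F, ∀ t : F, t ^ 2 + t + ζ ≠ 0 := by
  have hni : ¬ Function.Injective (fun t : F => t ^ 2 + t) := by
    intro h
    have h1 : (fun t : F => t ^ 2 + t) 0 = (fun t : F => t ^ 2 + t) 1 := by
      have h2 : (1 : F) + 1 = 0 := CharTwo.add_self_eq_zero 1
      simp [h2]
    exact zero_ne_one (h h1)
  have hns : ¬ Function.Surjective (fun t : F => t ^ 2 + t) := fun h =>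
    hni (Finite.injective_iff_surjective.2 h)
  rw [Function.Surjective] at hns
  push Not at hns
  obtain ⟨ζ, hζ⟩ := hns
  refine ⟨ζ, fun t ht => hζ t ?_⟩
  have h3 : ζ + ζ = 0 := CharTwo.add_self_eq_zero ζ
  show t ^ 2 + t = ζ
  linear_combination ht - h3

end Cfsg.Agent.Lib.Helper45OspRootless
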