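import Mathlib
import Cfsg.Agent.Lib.Helper45OspDefs
import Cfsg.Agent.Lib.Helper45OspRootless
import Cfsg.Agent.Lib.Helper7Norm2

set_option autoImplicit false

namespace Cfsg.Agent.Lib.Helper45OspPlaneM

open Module Cfsg.Agent.Lib.Helper45OspDefs

universe v

/-- real part as a linear map -/
def reL {K : Type v} [Field K] (a b : K) : QuadraticAlgebra K a b →ₗ[K] K where
  toFun z := z.re
  map_add' _ _ := rfl
  map_smul' _ _ := rfl

/-- imaginary part as a linear map -/
def imL {K : Type v} [Field K] (a b : K) : QuadraticAlgebra K a b →ₗ[K] K where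
  toFun z := z.im
  map_add' _ _ := rfl
  map_smul' _ _ := rfl

/-- the norm form -/
def nrm {K : Type v} [Field K] (ζ : K) : QuadraticForm K (QuadraticAlgebra K (-ζ) 1) :=
  QuadraticMap.linMulLin (reL _ _) (reL _ _) + QuadraticMap.linMulLin (reL _ _) (imL _ _)
    + ζ • QuadraticMap.linMulLin (imL _ _) (imL _ _)

theorem nrm_apply {K : Type v} [Field K] (ζ : K) (z : QuadraticAlgebra K (-ζ) 1) :
    nrm ζ z = z.re ^ 2 + 1 * z.re * z.im + ζ * z.im ^ 2 := by
  simp only [nrm, add_apply, smul_apply, QuadraticMap.linMulLin_apply,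
    reL, imL, LinearMap.coe_mk, AddHom.coe_mk, smul_eq_mul]
  ring

theorem nrm_eq_norm {K : Type v} [Field K] (ζ : K) (z : QuadraticAlgebra K (-ζ) 1) :
    nrm ζ z = QuadraticAlgebra.norm z := by
  rw [nrm_apply, Cfsg.Agent.Lib.Helper7Norm2.norm_eq]

/-- piece `PlaneM` : the anisotropic plane (norm form of the quadratic extension) with a generator
of the norm one group -/
theorem planeM (K : Type v) [Field K] [Fintype K] [CharP K 2] :
    Model.{v, v} K (Fintype.card K + 1) (-1) 1 := by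
  classical
  obtain ⟨ζ, hζ⟩ := Cfsg.Agent.Lib.Helper45OspRootless.exists_rootless K
  have han : Cfsg.Agent.Lib.Helper7Norm2.Aniso 1 ζ :=
    Cfsg.Agent.Lib.Helper48QuadType.aniso_of_rootless ζ hζ
  haveI := Cfsg.Agent.Lib.Helper7Norm2.fact_of_aniso han
  have hD := Cfsg.Agent.Lib.Helper7Norm2.disc_ne_zero han
  have h2 : (2 : K) = 0 := CharTwo.two_eq_zero
  have hcyc : IsCyclic (Cfsg.Agent.Lib.Helper7Norm2.UU 1 ζ) := inferInstance
  obtain ⟨u, hu⟩ := hcyc.exists_generator
  have hord : orderOf u = Fintype.card K + 1 := by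
    rw [orderOf_eq_card_of_forall_mem_zpowers hu, Cfsg.Agent.Lib.Helper7Norm2.card_UU hD]
  have hnu : QuadraticAlgebra.norm ((u : (QuadraticAlgebra K (-ζ) 1)ˣ) : QuadraticAlgebra K (-ζ) 1)
      = 1 := (Cfsg.Agent.Lib.Helper7Norm2.mem_UU _).1 u.2
  have hzero : ∀ z : QuadraticAlgebra K (-ζ) 1, nrm ζ z = 0 ↔ z = 0 := by
    intro z
    constructor
    · intro hz
      rw [nrm_apply] at hz
      obtain ⟨h1, h2⟩ := han _ _ hz
      ext <;> simp [h1, h2]
    · rintro rfl
      simp
  refine ⟨QuadraticAlgebra K (-ζ) 1, inferInstance, inferInstance, inferInstance, nrm ζ,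
    LinearMap.mulLeft K ((u : (QuadraticAlgebra K (-ζ) 1)ˣ) : QuadraticAlgebra K (-ζ) 1),
    ⟨le_refl 1, ?_, ?_, ?_⟩, ?_, ?_⟩
  · rw [Cfsg.Agent.Lib.Helper42Quad.nondeg_iff]
    intro z hz
    have h1 := hz ⟨0, 1⟩
    have h3 := hz ⟨1, 0⟩
    simp only [QuadraticMap.polar, nrm_apply, QuadraticAlgebra.re_add, QuadraticAlgebra.im_add] at h1 h3
    have e1 : z.re = 0 := by linear_combination h1 - ζ * z.im * h2
    have e2 : z.im = 0 := by linear_combination h3 - z.re * h2
    ext <;> simp [e1, e2]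
  · rw [QuadraticAlgebra.finrank_eq_two]
  · have : Nat.card {x : QuadraticAlgebra K (-ζ) 1 // nrm ζ x = 0} = 1 := by
      rw [Nat.card_eq_one_iff_unique]
      refine ⟨⟨fun a b => Subtype.ext ?_⟩, ⟨⟨0, (hzero 0).2 rfl⟩⟩⟩
      rw [(hzero _).1 a.2, (hzero _).1 b.2]
    rw [this]
    simp
  · intro x
    rw [LinearMap.mulLeft_apply, nrm_eq_norm, nrm_eq_norm, map_mul, hnu, one_mul]
  · intro j
    rw [LinearMap.pow_mulLeft, ← hord, orderOf_dvd_iff_pow_eq_one]
    constructor
    · intro e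
      have := LinearMap.congr_fun e 1
      rw [LinearMap.mulLeft_apply, mul_one] at this
      apply Subtype.ext
      apply Units.ext
      simpa using this
    · intro e
      have e' : (((u : (QuadraticAlgebra K (-ζ) 1)ˣ) : QuadraticAlgebra K (-ζ) 1)) ^ j = 1 := by
        have := congrArg (fun w : Cfsg.Agent.Lib.Helper7Norm2.UU 1 ζ =>
          ((w : (QuadraticAlgebra K (-ζ) 1)ˣ) : QuadraticAlgebra K (-ζ) 1)) e
        simpa using this
      rw [e', LinearMap.mulLeft_one]
      rfl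

end Cfsg.Agent.Lib.Helper45OspPlaneM
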