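import Mathlib
import Cfsg.Agent.Lib.Helper45OspDefs
import Cfsg.Agent.Lib.Helper45OspStd

set_option autoImplicit false

namespace Cfsg.Agent.Lib.Helper45OspPlaneP

open Module Cfsg.Agent.Lib.Helper45OspDefs

universe v

/-- piece `PlaneP` : the hyperbolic plane `x y` with the isometry `(μ x, μ⁻¹ y)` -/
theorem planeP (K : Type v) [Field K] [Fintype K] : Model.{v, v} K (Fintype.card K - 1) 1 1 := by
  classical
  obtain ⟨μ, hμ⟩ := IsCyclic.exists_generator (α := Kˣ)
  have hord : orderOf μ = Fintype.card K - 1 := by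
    rw [orderOf_eq_card_of_forall_mem_zpowers hμ, Nat.card_eq_fintype_card, Fintype.card_units]
  let d : Fin 1 ⊕ Fin 1 → K := Sum.elim (fun _ => (μ : K)) (fun _ => ((μ⁻¹ : Kˣ) : K))
  let h : End K (Fin 1 ⊕ Fin 1 → K) :=
    { toFun := fun v x => d x * v x
      map_add' := by
        intro v w
        ext x
        simp [mul_add]
      map_smul' := by
        intro c v
        ext x
        simp
        ring }
  have hh : ∀ v x, h v x = d x * v x := fun v x => rfl
  have hpow : ∀ (j : ℕ) v x, (h ^ j) v x = d x ^ j * v x := by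
    intro j
    induction j with
    | zero => intro v x; simp
    | succ j ih =>
      intro v x
      rw [pow_succ, Module.End.mul_apply, ih, hh, pow_succ]
      ring
  refine ⟨(Fin 1 ⊕ Fin 1 → K), inferInstance, inferInstance, inferInstance,
    Cfsg.Agent.Lib.Helper7OPlus.QP K 1, h, Cfsg.Agent.Lib.Helper45OspStd.typ_QP 1 le_rfl, ?_, ?_⟩
  · intro x
    rw [Cfsg.Agent.Lib.Helper7OPlus.QP_apply, Cfsg.Agent.Lib.Helper7OPlus.QP_apply]
    unfold Cfsg.quadFormPlus
    apply Finset.sum_congr rfl
    intro i _
    rw [hh, hh]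
    have h1 : d (Sum.inl i) * d (Sum.inr i) = 1 := by
      show (μ : K) * ((μ⁻¹ : Kˣ) : K) = 1
      rw [← Units.val_mul, mul_inv_cancel, Units.val_one]
    linear_combination (x (Sum.inl i) * x (Sum.inr i)) * h1
  · intro j
    rw [← hord, orderOf_dvd_iff_pow_eq_one]
    constructor
    · intro hj
      have h1 := congrFun (LinearMap.congr_fun hj (Pi.single (Sum.inl 0) 1)) (Sum.inl 0)
      rw [hpow] at h1
      simp only [Pi.single_eq_same, mul_one, Module.End.one_apply] at h1
      apply Units.ext
      rw [Units.val_pow_eq_pow_val, Units.val_one]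
      exact h1
    · intro hj
      apply LinearMap.ext
      intro v
      ext x
      rw [hpow, Module.End.one_apply]
      have h1 : d x ^ j = 1 := by
        rcases x with x | x
        · show (μ : K) ^ j = 1
          rw [← Units.val_pow_eq_pow_val, hj, Units.val_one]
        · show ((μ⁻¹ : Kˣ) : K) ^ j = 1
          rw [← Units.val_pow_eq_pow_val, inv_pow, hj, inv_one, Units.val_one]
      rw [h1, one_mul]

end Cfsg.Agent.Lib.Helper45OspPlaneP
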