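import Mathlib
import Cfsg.Agent.Lib.Helper45OspDefs
import Cfsg.Agent.Lib.Helper45GkD

set_option autoImplicit false

namespace Cfsg.Agent.Lib.Helper45OspSub

open Module Cfsg.Agent.Lib.Helper45OspDefs Cfsg.Agent.Lib.Helper7OMinus
  Cfsg.Agent.Lib.Helper7Norm2

universe u

/-- piece `Sub` : the orthogonal group lies in the symplectic group of the polar form -/
theorem sub {F : Type u} [Field F] [Fintype F] [CharP F 2] (m : ℕ) (a b : F) (hab : Aniso a b)
    (y : ↥(Cfsg.isometryGroup F (Cfsg.quadFormMinus m F a b))) :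
    orderOf y ∈ Set.range (orderOf : Cfsg.PSp (m + 1) F → ℕ) := by
  have h2 : (2 : F) = 0 := CharP.cast_eq_zero F 2
  set Y : Matrix ((Fin m ⊕ Fin m) ⊕ Fin 2) ((Fin m ⊕ Fin m) ⊕ Fin 2) F :=
    ((y : Matrix.GeneralLinearGroup ((Fin m ⊕ Fin m) ⊕ Fin 2) F) :
      Matrix ((Fin m ⊕ Fin m) ⊕ Fin 2) ((Fin m ⊕ Fin m) ⊕ Fin 2) F) with hY
  set h : End F ((Fin m ⊕ Fin m) ⊕ Fin 2 → F) := Matrix.toLin' Y with hh
  have hQ : ∀ v, QM F m a b (h v) = QM F m a b v := by
    intro v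
    rw [QM_apply, QM_apply, hh, Matrix.toLin'_apply]
    exact y.2 v v
  have hpow : ∀ j : ℕ, h ^ j = 1 ↔ orderOf y ∣ j := by
    intro j
    have h1 : (1 : End F ((Fin m ⊕ Fin m) ⊕ Fin 2 → F)) = Matrix.toLin' 1 := by
      rw [Matrix.toLin'_one]; rfl
    rw [orderOf_dvd_iff_pow_eq_one, hh, ← Matrix.toLin'_pow, h1,
      (Matrix.toLin' (R := F) (n := (Fin m ⊕ Fin m) ⊕ Fin 2)).injective.eq_iff]
    constructor
    · intro hj
      apply Subtype.ext
      apply Units.ext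
      rw [Subgroup.coe_pow, Units.val_pow_eq_pow_val]
      exact hj
    · intro hj
      have := congrArg (fun z : ↥(Cfsg.isometryGroup F (Cfsg.quadFormMinus m F a b)) =>
        ((z : Matrix.GeneralLinearGroup ((Fin m ⊕ Fin m) ⊕ Fin 2) F) :
          Matrix ((Fin m ⊕ Fin m) ⊕ Fin 2) ((Fin m ⊕ Fin m) ⊕ Fin 2) F)) hj
      simpa using this
  have hnd := (Cfsg.Agent.Lib.Helper42Quad.nondeg_iff _).mp
    (Cfsg.Agent.Lib.Helper48QuadType.nondeg_QM m a b hab)
  refine Cfsg.Agent.Lib.Helper45TrB.real_sp (QuadraticMap.polarBilin (QM F m a b)) ?_ ?_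
    (n := m + 1) (by omega) ?_ h ?_ (orderOf y)
    (Cfsg.Agent.Lib.Helper45GkD.proj_of_exact h (orderOf y) (Or.inl h2) hpow)
  · intro x
    rw [QuadraticMap.polarBilin_apply_apply, QuadraticMap.polar_self]
    rw [two_smul]
    linear_combination (QM F m a b x) * h2
  · intro u hu
    exact hnd u hu
  · rw [Module.finrank_fintype_fun_eq_card, Fintype.card_sum, Fintype.card_sum, Fintype.card_fin,
      Fintype.card_fin]
    omega
  · intro x z
    rw [QuadraticMap.polarBilin_apply_apply, QuadraticMap.polarBilin_apply_apply]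
    exact Cfsg.Agent.Lib.Helper48QuadType.polar_map h hQ x z

end Cfsg.Agent.Lib.Helper45OspSub
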