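import Mathlib
import Cfsg.Agent.Lib.Helper45OspDefs
import Cfsg.Agent.Lib.Helper45OspLevel

set_option autoImplicit false

namespace Cfsg.Agent.Lib.Helper45OspTrans

open Module Cfsg.Agent.Lib.Helper45OspDefs Cfsg.Agent.Lib.Helper45OspLevel

universe u v w

theorem card_fiber_sum {K W : Type*} [DecidableEq K] [Finite W] (f : W → K) (S : Finset K) :
    Nat.card {x : W // f x ∈ S} = ∑ c ∈ S, Nat.card {x : W // f x = c} := by
  classical
  haveI := Fintype.ofFinite W
  simp only [Nat.card_eq_fintype_card, Fintype.card_subtype]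
  rw [Finset.card_eq_sum_card_fiberwise (f := f) (t := S) (fun x hx => by simpa using hx)]
  refine Finset.sum_congr rfl fun c hc => ?_
  congr 1
  ext x
  simp only [Finset.mem_filter, Finset.mem_univ, true_and]
  constructor
  · rintro ⟨_, h⟩; exact h
  · intro h; exact ⟨h ▸ hc, h⟩

theorem card_fiber_split {K W : Type*} [DecidableEq K] [Zero K] [Finite W] (f : W → K)
    (S : Finset K) (h0 : (0 : K) ∈ S) (N0 N1 : ℤ)
    (hN0 : (Nat.card {x : W // f x = 0} : ℤ) = N0)
    (hN1 : ∀ c : K, c ≠ 0 → (Nat.card {x : W // f x = c} : ℤ) = N1) :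
    (Nat.card {x : W // f x ∈ S} : ℤ) = N0 + ((S.card : ℤ) - 1) * N1 := by
  rw [card_fiber_sum, ← Finset.add_sum_erase S _ h0]
  push_cast
  rw [hN0, Finset.sum_congr rfl (fun c hc => hN1 c (Finset.ne_of_mem_erase hc)), Finset.sum_const,
    Finset.card_erase_of_mem h0, nsmul_eq_mul]
  have : 1 ≤ S.card := Finset.card_pos.2 ⟨0, h0⟩
  push_cast [this]
  ring

theorem card_ker_trace {F : Type u} [Field F] [Fintype F] {K : Type v} [Field K] [Fintype K]
    [Algebra F K] [DecidableEq F] (d : ℕ) (hd : finrank F K = d) :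
    (Finset.univ.filter (fun c : K => Algebra.trace F K c = 0)).card = Fintype.card F ^ (d - 1) := by
  classical
  have hs : Function.Surjective (Algebra.trace F K) := Algebra.trace_surjective F K
  have h1 := LinearMap.finrank_range_add_finrank_ker (Algebra.trace F K)
  rw [LinearMap.range_eq_top.2 hs, finrank_top, finrank_self, hd] at h1
  have h2 : finrank F (LinearMap.ker (Algebra.trace F K)) = d - 1 := by omega
  have h3 : Fintype.card (LinearMap.ker (Algebra.trace F K)) = Fintype.card F ^ (d - 1) := by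
    rw [Module.card_eq_pow_finrank (K := F), h2]
  rw [← h3, Fintype.card_subtype]
  congr 1
  ext c
  simp [LinearMap.mem_ker]

theorem arith (q ε : ℤ) (m d : ℕ) (hm : 1 ≤ m) (hd : 1 ≤ d) :
    ((q ^ d) ^ (2 * m - 1) + ε * ((q ^ d) ^ m - (q ^ d) ^ (m - 1)))
      + (q ^ (d - 1) - 1) * ((q ^ d) ^ (2 * m - 1) - ε * (q ^ d) ^ (m - 1))
    = q ^ (2 * (m * d) - 1) + ε * (q ^ (m * d) - q ^ (m * d - 1)) := by
  obtain ⟨m, rfl⟩ : ∃ k, m = k + 1 := ⟨m - 1, by omega⟩
  obtain ⟨d, rfl⟩ : ∃ k, d = k + 1 := ⟨d - 1, by omega⟩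
  have e1 : 2 * (m + 1) - 1 = 2 * m + 1 := by omega
  have e2 : 2 * ((m + 1) * (d + 1)) - 1 = 2 * m * d + 2 * m + 2 * d + 1 := by
    have : 2 * ((m + 1) * (d + 1)) = 2 * m * d + 2 * m + 2 * d + 1 + 1 := by ring
    omega
  have e3 : (m + 1) * (d + 1) - 1 = m * d + m + d := by
    have : (m + 1) * (d + 1) = m * d + m + d + 1 := by ring
    omega
  rw [e1, e2, e3]
  simp only [Nat.add_sub_cancel]
  ring

/-- piece `Trans` : trace transfer of a model from an extension field -/
theorem trans {F : Type u} [Field F] [Fintype F] [CharP F 2] {K : Type v} [Field K] [Fintype K]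
    [Algebra F K] (d : ℕ) (hd : finrank F K = d) (M : ℕ) (ε : ℤ) (m : ℕ)
    (h : Model.{v, w} K M ε m) : Model.{u, w} F M ε (m * d) := by
  classical
  obtain ⟨W, iA, iM, iFin, Q, h, hT, hiso, hord⟩ := h
  have hT' := hT
  obtain ⟨hm, hnd, hfr, hz⟩ := hT
  letI : Module F W := Module.compHom W (algebraMap F K)
  haveI : IsScalarTower F K W := ⟨fun a b x => by
    show (a • b) • x = (algebraMap F K a) • (b • x)
    rw [Algebra.smul_def, mul_smul]⟩
  haveI : Module.Finite F W := Module.Finite.trans K W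
  haveI : CharP K 2 := charP_of_injective_algebraMap (algebraMap F K).injective 2
  haveI : Finite W := Module.finite_of_finite K
  have hd1 : 1 ≤ d := by rw [← hd]; exact Module.finrank_pos
  have hs : Function.Surjective (Algebra.trace F K) := Algebra.trace_surjective F K
  refine ⟨W, iA, inferInstance, inferInstance, (Algebra.trace F K).compQuadraticMap' Q,
    h.restrictScalars F, ⟨?_, ?_, ?_, ?_⟩, ?_, ?_⟩
  · exact Nat.mul_pos hm hd1
  · rw [Cfsg.Agent.Lib.Helper42Quad.nondeg_iff] at hnd ⊢
    intro u hu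
    by_contra hu0
    obtain ⟨v, hv⟩ : ∃ v, QuadraticMap.polar Q u v ≠ 0 := by
      by_contra hcon
      push Not at hcon
      exact hu0 (hnd u hcon)
    obtain ⟨l, hl⟩ := hs 1
    have h1 := hu ((l * (QuadraticMap.polar Q u v)⁻¹) • v)
    rw [LinearMap.compQuadraticMap_polar, QuadraticMap.polar_smul_right, smul_eq_mul, mul_assoc,
      inv_mul_cancel₀ hv, mul_one, hl] at h1
    exact one_ne_zero h1
  · rw [← Module.finrank_mul_finrank F K W, hd, hfr]; ring
  · have hcK : (Fintype.card K : ℤ) = (Fintype.card F : ℤ) ^ d := by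
      rw [Module.card_eq_pow_finrank (K := F) (V := K), hd]; push_cast; rfl
    have key := card_fiber_split (fun x : W => Q x)
      (Finset.univ.filter (fun c : K => Algebra.trace F K c = 0)) (by simp) _ _ hz
      (fun c hc => level ε m Q hT' c hc)
    rw [card_ker_trace d hd, hcK] at key
    push_cast at key
    rw [arith _ _ _ _ hm hd1] at key
    rw [← key]
    congr 2
    simp
  · intro x
    simp [hiso x]
  · intro j
    rw [← hord j]
    have hp : ∀ x, ((h.restrictScalars F) ^ j) x = (h ^ j) x := by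
      intro x
      rw [Module.End.pow_apply, Module.End.pow_apply]
      rfl
    constructor
    · intro e
      ext x
      rw [← hp, e]; rfl
    · intro e
      ext x
      rw [hp, e]; rfl

end Cfsg.Agent.Lib.Helper45OspTrans
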