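import Mathlib
import Cfsg.Agent.Lib.Helper45OspTrans
import Cfsg.Agent.Lib.Helper45OspPlaneP
import Cfsg.Agent.Lib.Helper45OspPlaneM

set_option autoImplicit false

namespace Cfsg.Agent.Lib.Helper45OspTori

open Module Cfsg.Agent.Lib.Helper45OspDefs Cfsg.Agent.Lib.Helper45OspTrans
  Cfsg.Agent.Lib.Helper45OspPlaneP Cfsg.Agent.Lib.Helper45OspPlaneM

universe u

variable (F : Type u) [Field F] [Fintype F] [CharP F 2]

/-- assembly: split torus `q^d - 1` in `O^+_{2d}(q)` -/
theorem hyp (d : ℕ) (hd : 1 ≤ d) : Model.{u, 0} F (Fintype.card F ^ d - 1) 1 d := by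
  have : NeZero d := ⟨by omega⟩
  have : Fact (Nat.Prime 2) := ⟨Nat.prime_two⟩
  let K := FiniteField.Extension F 2 d
  have hfin : finrank F K = d := FiniteField.finrank_extension F 2 d
  have : Finite K := Module.finite_of_finite F
  have := Fintype.ofFinite K
  have hcard : Fintype.card K = Fintype.card F ^ d := by
    rw [← Nat.card_eq_fintype_card, FiniteField.natCard_extension, Nat.card_eq_fintype_card]
  have h := trans (F := F) (K := K) d hfin _ _ _ (planeP K)
  rwa [hcard, one_mul] at h

/-- assembly: nonsplit torus `q^d + 1` in `O^-_{2d}(q)` -/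
theorem fld (d : ℕ) (hd : 1 ≤ d) : Model.{u, 0} F (Fintype.card F ^ d + 1) (-1) d := by
  have : NeZero d := ⟨by omega⟩
  have : Fact (Nat.Prime 2) := ⟨Nat.prime_two⟩
  let K := FiniteField.Extension F 2 d
  have hfin : finrank F K = d := FiniteField.finrank_extension F 2 d
  have : Finite K := Module.finite_of_finite F
  have := Fintype.ofFinite K
  have : CharP K 2 := charP_of_injective_algebraMap (algebraMap F K).injective 2
  have hcard : Fintype.card K = Fintype.card F ^ d := by
    rw [← Nat.card_eq_fintype_card, FiniteField.natCard_extension, Nat.card_eq_fintype_card]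
  have h := trans (F := F) (K := K) d hfin _ _ _ (planeM K)
  rwa [hcard, one_mul] at h

end Cfsg.Agent.Lib.Helper45OspTori
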