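import Mathlib
import Cfsg.Agent.Lib.Helper58SylDefs
import Cfsg.Agent.Lib.Helper49Gram
import Cfsg.Agent.Lib.Helper49Transp

set_option autoImplicit false

namespace Cfsg.Agent.Lib.Helper45SylAddline

open Cfsg.Agent.Lib.Helper49Orth Cfsg.Agent.Lib.Helper49Gram Cfsg.Agent.Lib.Helper58SylDefs
  Cfsg.Agent.Lib.Helper49Transp
open scoped Matrix

theorem mem_or_of_mem_sup {G : Type*} [Group G] (S : Subgroup G) (r : G) (hr : r * r = 1)
    (hc : ∀ s ∈ S, r * s = s * r) (b : G) (hb : b ∈ S ⊔ Subgroup.zpowers r) :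
    b ∈ S ∨ b * r ∈ S := by
  rw [Subgroup.zpowers_eq_closure, ← Subgroup.closure_eq S, ← Subgroup.closure_union] at hb
  induction hb using Subgroup.closure_induction with
  | mem x hx =>
    rcases hx with hx | hx
    · exact Or.inl hx
    · right
      rw [Set.mem_singleton_iff.1 hx, hr]
      exact S.one_mem
  | one => exact Or.inl S.one_mem
  | mul x y _ _ hx hy =>
    rcases hx with hx | hx <;> rcases hy with hy | hy
    · exact Or.inl (S.mul_mem hx hy)
    · right
      rw [mul_assoc]
      exact S.mul_mem hx hy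
    · right
      rw [mul_assoc, ← hc y hy, ← mul_assoc]
      exact S.mul_mem hx hy
    · left
      have : x * y = (x * r) * (y * r) := by
        rw [mul_assoc x r, hc _ hy, mul_assoc y r, hr, mul_one]
      rw [this]
      exact S.mul_mem hx hy
  | inv x _ hx =>
    rcases hx with hx | hx
    · exact Or.inl (S.inv_mem hx)
    · right
      have h1 := hc _ hx
      have : x⁻¹ * r = (x * r)⁻¹ := by
        rw [eq_inv_iff_mul_eq_one, mul_assoc, h1, mul_assoc x r, hr, mul_one, inv_mul_cancel]
      rw [this]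
      exact S.inv_mem hx

theorem card_sup_zpowers {G : Type*} [Group G] (S : Subgroup G) (r : G) (hr : r * r = 1)
    (hc : ∀ s ∈ S, r * s = s * r) (hrS : r ∉ S) :
    Nat.card ↥(S ⊔ Subgroup.zpowers r) = 2 * Nat.card S := by
  have hle : S ≤ S ⊔ Subgroup.zpowers r := le_sup_left
  have hrT : r ∈ S ⊔ Subgroup.zpowers r :=
    (le_sup_right : Subgroup.zpowers r ≤ _) (Subgroup.mem_zpowers r)
  have h1 := Subgroup.card_mul_index (S.subgroupOf (S ⊔ Subgroup.zpowers r))
  have h2 : Nat.card (S.subgroupOf (S ⊔ Subgroup.zpowers r)) = Nat.card S :=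
    Nat.card_congr (Subgroup.subgroupOfEquivOfLe hle).toEquiv
  have h3 : (S.subgroupOf (S ⊔ Subgroup.zpowers r)).index = 2 := by
    rw [Subgroup.index_eq_two_iff]
    refine ⟨⟨r, hrT⟩, fun b => ?_⟩
    simp only [Subgroup.mem_subgroupOf, Subgroup.coe_mul]
    rcases mem_or_of_mem_sup S r hr hc b b.2 with hb | hb
    · refine Or.inr ⟨hb, fun h => hrS ?_⟩
      have := S.mul_mem (S.inv_mem hb) h
      rwa [inv_mul_cancel_left] at this
    · refine Or.inl ⟨hb, fun h => hrS ?_⟩
      have := S.mul_mem (S.inv_mem h) hb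
      rwa [inv_mul_cancel_left] at this
  rw [← h1, h2, h3, mul_comm]

variable {F : Type*} [Field F] [Fintype F]

/-- piece `addline` -/
theorem add_line (h2 : (2 : F) ≠ 0) {ι : Type} [Fintype ι] [DecidableEq ι]
    (Q : QuadraticForm F (ι → F)) (S : Subgroup (OG Q)) (Z : Set (ι → F)) (h : Good Q S Z)
    (u : ι → F) (hu : u ∈ Z) (hQu : Q u ≠ 0) :
    Good Q (S ⊔ Subgroup.zpowers (reflO' Q u)) {z | z ∈ Z ∧ QuadraticMap.polar ⇑Q u z = 0} ∧
      Nat.card ↥(S ⊔ Subgroup.zpowers (reflO' Q u)) = 2 * Nat.card S := by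
  obtain ⟨V, Y, hV, hY, hS, ⟨a₁, ha₁, b₁, hb₁, a₂, ha₂, b₂, hb₂, c1, c2, c3, c4, c5, c6, c7, c8,
    c9⟩, hZV, hZY⟩ := h
  constructor
  · refine ⟨insert u V, Y, ?_, hY, ?_, ⟨a₁, Set.mem_insert_of_mem _ ha₁, b₁,
      Set.mem_insert_of_mem _ hb₁, a₂, Set.mem_insert_of_mem _ ha₂, b₂,
      Set.mem_insert_of_mem _ hb₂, c1, c2, c3, c4, c5, c6, c7, c8, ?_⟩, ?_, ?_⟩
    · intro v hv
      rcases Set.mem_insert_iff.1 hv with rfl | hv
      · exact hQu
      · exact hV v hv
    · rw [hS, Subgroup.zpowers_eq_closure, ← Subgroup.closure_union]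
      congr 1
      rw [Set.image_insert_eq]
      ext x
      simp only [Set.mem_union, Set.mem_insert_iff, Set.mem_singleton_iff]
      tauto
    · intro v hv
      rcases Set.mem_insert_iff.1 hv with rfl | hv
      · left
        exact ⟨by rw [QuadraticMap.polar_comm]; exact hZV _ hu a₁ ha₁,
          by rw [QuadraticMap.polar_comm]; exact hZV _ hu b₁ hb₁⟩
      · exact c9 v hv
    · intro z hz v hv
      rcases Set.mem_insert_iff.1 hv with rfl | hv
      · exact hz.2
      · exact hZV z hz.1 v hv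
    · intro z hz y hy
      exact hZY z hz.1 y hy
  · have hfix : ∀ s ∈ S, mat s *ᵥ u = u := by
      intro s hs
      rw [hS] at hs
      induction hs using Subgroup.closure_induction with
      | mem x hx =>
        rcases hx with ⟨v, hv, rfl⟩ | hx
        · rw [reflO'_eq Q (hV v hv)]
          exact refl_of_polar_eq_zero Q (hZV u hu v hv)
        · exact hZY u hu x hx
      | one => simp [mat]
      | mul x y _ _ hx hy =>
        have : mat (x * y) = mat x * mat y := rfl
        rw [this, ← Matrix.mulVec_mulVec, hy, hx]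
      | inv x _ hx =>
        have h1 : mat x⁻¹ * mat x = 1 := by
          have : mat (x⁻¹ * x) = mat x⁻¹ * mat x := rfl
          rw [← this, inv_mul_cancel]
          rfl
        calc mat x⁻¹ *ᵥ u = mat x⁻¹ *ᵥ (mat x *ᵥ u) := by rw [hx]
          _ = u := by rw [Matrix.mulVec_mulVec, h1, Matrix.one_mulVec]
    rw [reflO'_eq Q hQu]
    apply card_sup_zpowers _ _ (reflO_mul_self Q hQu)
    · intro s hs
      have h1 := conj_reflO Q s hQu
      have h3 : reflO Q (Q_iso_ne Q s hQu) = reflO Q hQu := by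
        apply reflO_congr
        rw [hfix s hs]
      rw [h3, mul_inv_eq_iff_eq_mul] at h1
      exact h1.symm
    · intro hmem
      have h1 := hfix _ hmem
      have h3 : mat (reflO Q hQu) *ᵥ u = -u := refl_self Q hQu
      rw [h3] at h1
      have hu0 : u ≠ 0 := by
        rintro rfl
        exact hQu (map_zero Q)
      apply hu0
      have h4 : (2 : F) • u = 0 := by
        rw [two_smul]
        nth_rewrite 1 [← h1]
        exact neg_add_cancel u
      exact (smul_eq_zero.1 h4).resolve_left h2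

end Cfsg.Agent.Lib.Helper45SylAddline
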