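import Mathlib
import Cfsg.Agent.Lib.Helper58SylDefs
import Cfsg.Agent.Lib.Helper49Gram

set_option autoImplicit false

namespace Cfsg.Agent.Lib.Helper45SylPmomega

open Cfsg.Agent.Lib.Helper49Orth Cfsg.Agent.Lib.Helper49Gram Cfsg.Agent.Lib.Helper58SylDefs
open scoped Matrix commutatorElement

section Perm

variable {F : Type*} [Field F] {ι : Type} [Fintype ι] [DecidableEq ι]

/-- the isometry given by a permutation of the coordinates -/
noncomputable def permO (Q : QuadraticForm F (ι → F)) (σ : Equiv.Perm ι)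
    (h : ∀ v, Q (v ∘ σ) = Q v) : OG Q :=
  ⟨⟨σ.permMatrix F, (σ⁻¹).permMatrix F,
    by rw [← Matrix.permMatrix_mul, inv_mul_cancel, Matrix.permMatrix_one],
    by rw [← Matrix.permMatrix_mul, mul_inv_cancel, Matrix.permMatrix_one]⟩,
    mem_iso.2 (fun v => by
      show Q (σ.permMatrix F *ᵥ v) = Q v
      rw [Matrix.permMatrix_mulVec]
      exact h v)⟩

theorem permO_mulVec (Q : QuadraticForm F (ι → F)) (σ : Equiv.Perm ι)
    (h : ∀ v, Q (v ∘ σ) = Q v) (v : ι → F) : mat (permO Q σ h) *ᵥ v = v ∘ σ :=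
  Matrix.permMatrix_mulVec σ

theorem og_ext {Q : QuadraticForm F (ι → F)} {g h : OG Q}
    (H : ∀ v, mat g *ᵥ v = mat h *ᵥ v) : g = h := by
  apply iso_ext
  apply Matrix.mulVec_injective
  funext v
  exact H v

theorem mat_mul_mulVec {Q : QuadraticForm F (ι → F)} (g h : OG Q) (v : ι → F) :
    mat (g * h) *ᵥ v = mat g *ᵥ (mat h *ᵥ v) := by
  have : mat (g * h) = mat g * mat h := rfl
  rw [this, Matrix.mulVec_mulVec]

theorem mat_one_mulVec {Q : QuadraticForm F (ι → F)} (v : ι → F) :
    mat (1 : OG Q) *ᵥ v = v := by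
  have : mat (1 : OG Q) = 1 := rfl
  rw [this, Matrix.one_mulVec]

end Perm

variable {F : Type*} [Field F] [Fintype F]

/-- piece `pmomega` -/
theorem Pm_mem_Omega (k : ℕ) (W : WD (OG (Qpow (sq2 F) k)) (OG (sq2 F)) k) (hW : ActsStd W)
    (π : Equiv.Perm (Fin k)) (hπ : π * π = 1) :
    W.Pm π ∈ Cfsg.Omega F ⇑(Qpow (sq2 F) k) := by
  have hπi : π⁻¹ = π := inv_eq_of_mul_eq_one_left hπ
  have hππ : ∀ i, π (π i) = i := fun i => by
    have := congrArg (fun τ : Equiv.Perm (Fin k) => τ i) hπ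
    simpa using this
  -- the half permutation
  let f : Fin 2 × Fin k → Fin 2 × Fin k := fun x => if x.1 = 0 then (x.1, π x.2) else x
  have hf : Function.Involutive f := by
    rintro ⟨a, i⟩
    by_cases ha : a = 0
    · simp [f, ha, hππ]
    · simp [f, ha]
  have hQf : ∀ v, Qpow (sq2 F) k (v ∘ hf.toPerm) = Qpow (sq2 F) k v := by
    intro v
    rw [Qpow_apply, Qpow_apply]
    simp only [QuadraticMap.weightedSumSquares_apply, Fin.sum_univ_two, Function.comp_apply,
      Function.Involutive.coe_toPerm, f, one_smul, Finset.sum_add_distrib]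
    simp only [if_true, one_ne_zero, if_false]
    congr 1
    exact Equiv.sum_comp π (fun i => v (0, i) * v (0, i))
  set x : OG (Qpow (sq2 F) k) := permO _ hf.toPerm hQf with hxdef
  have hx : ∀ v a i, (mat x *ᵥ v) (a, i) = if a = 0 then v (a, π i) else v (a, i) := by
    intro v a i
    rw [hxdef, permO_mulVec]
    by_cases ha : a = 0
    · simp [f, ha]
    · simp [f, ha]
  have hQs : ∀ w, sq2 F (w ∘ (Equiv.swap (0 : Fin 2) 1)) = sq2 F w := by
    intro w
    simp only [QuadraticMap.weightedSumSquares_apply, Fin.sum_univ_two, Function.comp_apply,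
      Equiv.swap_apply_left, Equiv.swap_apply_right, one_smul]
    ring
  set sw : OG (sq2 F) := permO _ (Equiv.swap (0 : Fin 2) 1) hQs with hswdef
  set s : OG (Qpow (sq2 F) k) := W.B (fun _ => sw) with hsdef
  have hs : ∀ v a i, (mat s *ᵥ v) (a, i) = v (Equiv.swap (0 : Fin 2) 1 a, i) := by
    intro v a i
    rw [hsdef, hW.1, hswdef, permO_mulVec]
    rfl
  have hxx : x * x = 1 := by
    apply og_ext
    intro v
    rw [mat_mul_mulVec, mat_one_mulVec]
    funext ⟨a, i⟩
    rw [hx]
    by_cases ha : a = 0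
    · rw [if_pos ha, hx, if_pos ha, hππ]
    · rw [if_neg ha, hx, if_neg ha]
  have hss : s * s = 1 := by
    apply og_ext
    intro v
    rw [mat_mul_mulVec, mat_one_mulVec]
    funext ⟨a, i⟩
    rw [hs, hs, Equiv.swap_apply_self]
  have hxi : x⁻¹ = x := inv_eq_of_mul_eq_one_left hxx
  have hsi : s⁻¹ = s := inv_eq_of_mul_eq_one_left hss
  have key : W.Pm π = ⁅x, s⁆ := by
    rw [commutatorElement_def, hxi, hsi]
    apply og_ext
    intro v
    rw [mat_mul_mulVec, mat_mul_mulVec, mat_mul_mulVec]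
    funext ⟨a, i⟩
    rw [hW.2, hπi, hx]
    by_cases ha : a = 0
    · subst ha
      rw [if_pos rfl, hs, hx]
      simp [hs]
    · have ha1 : a = 1 := by omega
      subst ha1
      rw [if_neg ha, hs, hx]
      simp [hs]
  rw [key]
  show _ ∈ commutator _
  rw [commutator_def]
  exact Subgroup.commutator_mem_commutator (Subgroup.mem_top _) (Subgroup.mem_top _)

end Cfsg.Agent.Lib.Helper45SylPmomega
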