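import Mathlib

/-! Abstract length systems (groups generated by involutions with a length function satisfying the
folding condition): parabolic cosets, distinguished coset and double coset representatives,
the longest element. -/

namespace Cfsg.Agent.Lib.Helper46Len

structure LenSys (W : Type*) [Group W] where
  S : Set W
  l : W → ℕ
  l_eq_zero : ∀ w, l w = 0 ↔ w = 1
  sq : ∀ s ∈ S, s * s = 1
  step : ∀ s ∈ S, ∀ w, l (s * w) = l w + 1 ∨ l (s * w) + 1 = l w
  l_inv : ∀ w, l w⁻¹ = l w
  desc : ∀ w, w ≠ 1 → ∃ s ∈ S, l (s * w) + 1 = l w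
  fold : ∀ s ∈ S, ∀ t ∈ S, ∀ w, l (s * w) = l w + 1 → l (w * t) = l w + 1 →
    l (s * w * t) = l w + 2 ∨ s * w = w * t

variable {W : Type*} [Group W] (L : LenSys W)

namespace LenSys

theorem inv_eq {s : W} (hs : s ∈ L.S) : s⁻¹ = s := inv_eq_of_mul_eq_one_left (L.sq s hs)

theorem l_one : L.l 1 = 0 := (L.l_eq_zero 1).2 rfl

theorem step_right {s : W} (hs : s ∈ L.S) (w : W) :
    L.l (w * s) = L.l w + 1 ∨ L.l (w * s) + 1 = L.l w := by
  have h := L.step s hs w⁻¹
  have e : L.l (s * w⁻¹) = L.l (w * s) := by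
    rw [← L.l_inv (w * s), mul_inv_rev, L.inv_eq hs]
  rwa [e, L.l_inv] at h

theorem desc_right (w : W) (hw : w ≠ 1) : ∃ s ∈ L.S, L.l (w * s) + 1 = L.l w := by
  obtain ⟨s, hs, h⟩ := L.desc w⁻¹ (inv_ne_one.2 hw)
  refine ⟨s, hs, ?_⟩
  have e : L.l (s * w⁻¹) = L.l (w * s) := by
    rw [← L.l_inv (w * s), mul_inv_rev, L.inv_eq hs]
  rwa [e, L.l_inv] at h

theorem mul_mul_cancel {s : W} (hs : s ∈ L.S) (w : W) : s * (s * w) = w := by
  rw [← mul_assoc, L.sq s hs, one_mul]

theorem mul_mul_cancel_right {s : W} (hs : s ∈ L.S) (w : W) : w * s * s = w := by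
  rw [mul_assoc, L.sq s hs, mul_one]

theorem l_S {s : W} (hs : s ∈ L.S) : L.l s = 1 := by
  have h := L.step s hs 1
  rw [mul_one, L.l_one] at h
  omega

theorem l_prod_le (Ls : List W) (h : ∀ x ∈ Ls, x ∈ L.S) : L.l Ls.prod ≤ Ls.length := by
  induction Ls with
  | nil => simp [L.l_one]
  | cons s M ih =>
    have h1 := ih (fun x hx => h x (List.mem_cons_of_mem _ hx))
    have h2 := L.step s (h s List.mem_cons_self) M.prod
    rw [List.prod_cons, List.length_cons]
    omega

theorem word_desc {J : Set W} (hJ : J ⊆ L.S) {s : W} (hs : s ∈ L.S) (Ls : List W) :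
    (∀ x ∈ Ls, x ∈ J) → L.l (s * Ls.prod) + 1 = L.l Ls.prod →
    ∃ Ls' : List W, (∀ x ∈ Ls', x ∈ J) ∧ Ls'.length + 1 = Ls.length ∧ Ls'.prod = s * Ls.prod := by
  induction Ls using List.reverseRecOn with
  | nil =>
    intro _ h
    rw [List.prod_nil, L.l_one] at h
    omega
  | append_singleton M t ih =>
    intro hM h
    have hMJ : ∀ x ∈ M, x ∈ J := fun x hx => hM x (List.mem_append_left _ hx)
    have htJ : t ∈ J := hM t (by simp)
    have ht : t ∈ L.S := hJ htJ
    rw [List.prod_append, List.prod_singleton] at h ⊢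
    set u := M.prod with hu
    rcases L.step s hs u with h1 | h1
    · rcases L.step_right ht u with h2 | h2
      · rcases L.fold s hs t ht u h1 h2 with h3 | h3
        · rw [mul_assoc] at h3
          omega
        · refine ⟨M, hMJ, by simp, ?_⟩
          rw [← h3, L.mul_mul_cancel hs]
      · exfalso
        have h3 := L.step_right ht (s * (u * t))
        rw [mul_assoc, L.mul_mul_cancel_right ht] at h3
        omega
    · obtain ⟨M', hM', hl, hp⟩ := ih hMJ h1
      refine ⟨M' ++ [t], ?_, by simp [hl], ?_⟩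
      · intro x hx
        rcases List.mem_append.1 hx with hx | hx
        · exact hM' x hx
        · rw [List.mem_singleton] at hx
          exact hx ▸ htJ
      · rw [List.prod_append, List.prod_singleton, hp, mul_assoc]

theorem word_reduce {J : Set W} (hJ : J ⊆ L.S) (Ls : List W) (h : ∀ x ∈ Ls, x ∈ J) :
    ∃ Ls' : List W, (∀ x ∈ Ls', x ∈ J) ∧ Ls'.prod = Ls.prod ∧ Ls'.length = L.l Ls.prod := by
  induction Ls with
  | nil => exact ⟨[], by simp, rfl, by simp [L.l_one]⟩
  | cons s M ih =>
    obtain ⟨M', hM', hp, hl⟩ := ih (fun x hx => h x (List.mem_cons_of_mem _ hx))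
    have hsJ : s ∈ J := h s List.mem_cons_self
    rw [List.prod_cons]
    rcases L.step s (hJ hsJ) M.prod with h1 | h1
    · refine ⟨s :: M', ?_, by rw [List.prod_cons, hp], by rw [List.length_cons, hl, h1]⟩
      intro x hx
      rcases List.mem_cons.1 hx with hx | hx
      · exact hx ▸ hsJ
      · exact hM' x hx
    · rw [← hp] at h1
      obtain ⟨M'', hM'', hl', hp'⟩ := L.word_desc hJ (hJ hsJ) M' hM' h1
      refine ⟨M'', hM'', by rw [hp', hp], ?_⟩
      rw [hp] at h1
      omega

theorem exists_word {J : Set W} (hJ : J ⊆ L.S) {v : W} (hv : v ∈ Subgroup.closure J) :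
    ∃ Ls : List W, (∀ x ∈ Ls, x ∈ J) ∧ Ls.prod = v ∧ Ls.length = L.l v := by
  have hv' : v ∈ Submonoid.closure (J ∪ J⁻¹) := by
    rw [← Subgroup.closure_toSubmonoid]; exact hv
  obtain ⟨Ls, h1, h2⟩ := Submonoid.exists_list_of_mem_closure hv'
  have h3 : ∀ x ∈ Ls, x ∈ J := by
    intro x hx
    rcases h1 x hx with h | h
    · exact h
    · have h' : x⁻¹ ∈ J := h
      have := L.inv_eq (hJ h')
      rw [inv_inv] at this
      rw [this]; exact h'
  obtain ⟨Ls', a, b, c⟩ := L.word_reduce hJ Ls h3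
  exact ⟨Ls', a, b.trans h2, by rw [c, h2]⟩

/-- a nontrivial element of a parabolic subgroup has a left descent in `J`. -/
theorem par_desc {J : Set W} (hJ : J ⊆ L.S) {v : W} (hv : v ∈ Subgroup.closure J) (h1 : v ≠ 1) :
    ∃ s ∈ J, L.l (s * v) + 1 = L.l v := by
  obtain ⟨Ls, a, b, c⟩ := L.exists_word hJ hv
  cases Ls with
  | nil => exact absurd b.symm h1
  | cons s M =>
    refine ⟨s, a s List.mem_cons_self, ?_⟩
    have hs : s ∈ L.S := hJ (a s List.mem_cons_self)
    have h2 := L.l_prod_le M (fun x hx => hJ (a x (List.mem_cons_of_mem _ hx)))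
    rw [List.prod_cons] at b
    rw [List.length_cons] at c
    have h3 : s * v = M.prod := by rw [← b, L.mul_mul_cancel hs]
    have h4 := L.step s hs v
    rw [h3] at h4 ⊢
    omega

theorem par_desc_right {J : Set W} (hJ : J ⊆ L.S) {v : W} (hv : v ∈ Subgroup.closure J) (h1 : v ≠ 1) :
    ∃ s ∈ J, L.l (v * s) + 1 = L.l v := by
  obtain ⟨s, hs, h⟩ := L.par_desc hJ (inv_mem hv) (inv_ne_one.2 h1)
  refine ⟨s, hs, ?_⟩
  have e : L.l (s * v⁻¹) = L.l (v * s) := by
    rw [← L.l_inv (v * s), mul_inv_rev, L.inv_eq (hJ hs)]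
  rwa [e, L.l_inv] at h

theorem mem_of_l_eq_one {J : Set W} (hJ : J ⊆ L.S) {v : W} (hv : v ∈ Subgroup.closure J)
    (h1 : L.l v = 1) : v ∈ J := by
  have hne : v ≠ 1 := by
    rintro rfl
    rw [L.l_one] at h1
    omega
  obtain ⟨s, hs, h⟩ := L.par_desc hJ hv hne
  have h2 : s * v = 1 := (L.l_eq_zero _).1 (by omega)
  have h3 : v = s := by
    have := L.mul_mul_cancel (hJ hs) v
    rw [h2, mul_one] at this
    exact this.symm
  exact h3 ▸ hs

/-- right `J`-reduced elements. -/
def RR (J : Set W) (d : W) : Prop := ∀ s ∈ J, L.l (d * s) = L.l d + 1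

/-- left `K`-reduced elements. -/
def LR (K : Set W) (d : W) : Prop := ∀ s ∈ K, L.l (s * d) = L.l d + 1

theorem LR_iff_inv {K : Set W} (hK : K ⊆ L.S) (d : W) : L.LR K d ↔ L.RR K d⁻¹ := by
  unfold LR RR
  refine forall₂_congr fun s hs => ?_
  have e : L.l (d⁻¹ * s) = L.l (s * d) := by
    rw [← L.l_inv (s * d), mul_inv_rev, L.inv_eq (hK hs)]
  rw [e, L.l_inv]

theorem l_mul_le (a b : W) : L.l (a * b) ≤ L.l a + L.l b := by
  induction h : L.l a using Nat.strong_induction_on generalizing a with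
  | _ n ih =>
    by_cases ha : a = 1
    · subst ha; simp
    · obtain ⟨s, hs, h1⟩ := L.desc a ha
      have h2 := ih (L.l (s * a)) (by omega) (s * a) rfl
      have h3 := L.step s hs (s * a * b)
      rw [mul_assoc, L.mul_mul_cancel hs] at h3
      rw [mul_assoc] at h2
      omega

/-- lengths add for a right reduced element times an element of the parabolic subgroup. -/
theorem l_add {J : Set W} (hJ : J ⊆ L.S) : ∀ (n : ℕ) (d : W), L.l d = n → L.RR J d →
    ∀ v ∈ Subgroup.closure J, L.l (d * v) = L.l d + L.l v := by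
  intro n
  induction n with
  | zero =>
    intro d hd _ v _
    rw [(L.l_eq_zero d).1 hd, one_mul, L.l_one, zero_add]
  | succ n ih =>
    intro d hd hR
    have hd1 : d ≠ 1 := by
      rintro rfl
      rw [L.l_one] at hd
      omega
    obtain ⟨t, ht, h1⟩ := L.desc d hd1
    set d' := t * d with hd'
    have hdd : d = t * d' := by rw [hd', L.mul_mul_cancel ht]
    have hR' : L.RR J d' := by
      intro s hs
      rcases L.step_right (hJ hs) d' with h | h
      · exact h
      · exfalso
        have h2 := hR s hs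
        have h3 := L.step t ht (d' * s)
        rw [← mul_assoc, ← hdd] at h3
        omega
    have IH := ih d' (by omega) hR'
    have inner : ∀ (m : ℕ) (v : W), L.l v = m → v ∈ Subgroup.closure J →
        L.l (t * (d' * v)) = L.l (d' * v) + 1 := by
      intro m
      induction m with
      | zero =>
        intro v hv _
        rw [(L.l_eq_zero v).1 hv, mul_one, ← hdd]
        omega
      | succ m ihm =>
        intro v hv hvJ
        have hv1 : v ≠ 1 := by
          rintro rfl
          rw [L.l_one] at hv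
          omega
        obtain ⟨s, hs, h2⟩ := L.par_desc_right hJ hvJ hv1
        set v' := v * s with hv'
        have hvv : v = v' * s := by rw [hv', L.mul_mul_cancel_right (hJ hs)]
        have hv'J : v' ∈ Subgroup.closure J := mul_mem hvJ (Subgroup.subset_closure hs)
        have a1 := ihm v' (by omega) hv'J
        have a2 := IH v hvJ
        have a3 := IH v' hv'J
        have a4 : L.l (d' * v' * s) = L.l (d' * v') + 1 := by
          rw [mul_assoc, ← hvv]; omega
        rcases L.fold t ht s (hJ hs) (d' * v') a1 a4 with h3 | h3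
        · rw [mul_assoc, mul_assoc, ← hvv] at h3
          rw [mul_assoc, ← hvv] at a4
          omega
        · exfalso
          -- d * v' = d' * v
          have e1 : d * v' = d' * v := by
            rw [hdd, mul_assoc, h3, mul_assoc, ← hvv]
          set u := v * v'⁻¹ with hu
          have huJ : u ∈ Subgroup.closure J := mul_mem hvJ (inv_mem hv'J)
          have e2 : d = d' * u := by
            rw [hu, ← mul_assoc, ← e1, mul_assoc, mul_inv_cancel, mul_one]
          have a5 := IH u huJ
          rw [← e2] at a5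
          have hu1 : u ∈ J := L.mem_of_l_eq_one hJ huJ (by omega)
          have a6 := hR u hu1
          rw [e2, L.mul_mul_cancel_right (hJ hu1), ← e2] at a6
          omega
    intro v hv
    have b1 := inner (L.l v) v rfl hv
    have b2 := IH v hv
    rw [← mul_assoc, ← hdd] at b1
    omega

theorem l_add' {J : Set W} (hJ : J ⊆ L.S) {d : W} (hR : L.RR J d) {v : W}
    (hv : v ∈ Subgroup.closure J) : L.l (d * v) = L.l d + L.l v :=
  L.l_add hJ _ d rfl hR v hv

theorem l_add_left {K : Set W} (hK : K ⊆ L.S) {d : W} (hR : L.LR K d) {v : W}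
    (hv : v ∈ Subgroup.closure K) : L.l (v * d) = L.l v + L.l d := by
  have h := L.l_add' hK ((L.LR_iff_inv hK d).1 hR) (inv_mem hv)
  rw [← mul_inv_rev, L.l_inv, L.l_inv, L.l_inv] at h
  omega

/-- existence of the decomposition `w = d v`. -/
theorem exists_decomp {J : Set W} (hJ : J ⊆ L.S) (w : W) :
    ∃ d v, w = d * v ∧ L.RR J d ∧ v ∈ Subgroup.closure J := by
  induction h : L.l w using Nat.strong_induction_on generalizing w with
  | _ n ih =>
    by_cases hR : L.RR J w
    · exact ⟨w, 1, by simp, hR, one_mem _⟩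
    · unfold RR at hR
      push Not at hR
      obtain ⟨s, hs, h1⟩ := hR
      have h2 := L.step_right (hJ hs) w
      obtain ⟨d, v, e, hd, hv⟩ := ih (L.l (w * s)) (by omega) (w * s) rfl
      refine ⟨d, v * s, ?_, hd, mul_mem hv (Subgroup.subset_closure hs)⟩
      rw [← mul_assoc, ← e, L.mul_mul_cancel_right (hJ hs)]

theorem decomp_unique {J : Set W} (hJ : J ⊆ L.S) {d d' v : W} (hd : L.RR J d) (hd' : L.RR J d')
    (hv : v ∈ Subgroup.closure J) (e : d' = d * v) : v = 1 := by
  have h1 := L.l_add' hJ hd hv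
  have h2 := L.l_add' hJ hd' (inv_mem hv)
  rw [← e] at h1
  rw [e, mul_assoc, mul_inv_cancel, mul_one, ← e] at h2
  exact (L.l_eq_zero v).1 (by omega)

/-- Deodhar's lemma. -/
theorem deodhar {K : Set W} (hK : K ⊆ L.S) {e s : W} (he : L.LR K e) (hs : s ∈ L.S) :
    L.LR K (e * s) ∨ ∃ t ∈ K, e * s = t * e := by
  by_cases h : L.LR K (e * s)
  · exact Or.inl h
  · right
    unfold LR at h
    push Not at h
    obtain ⟨t, ht, h1⟩ := h
    have h2 := L.step t (hK ht) (e * s)
    have h3 := he t ht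
    refine ⟨t, ht, ?_⟩
    rcases L.step_right hs e with h4 | h4
    · rcases L.fold t (hK ht) s hs e h3 h4 with h5 | h5
      · rw [mul_assoc] at h5; omega
      · exact h5.symm
    · exfalso
      have h5 := L.step_right hs (t * (e * s))
      rw [mul_assoc, L.mul_mul_cancel_right hs] at h5
      omega

theorem dc_aux {K J : Set W} (hK : K ⊆ L.S) (hJ : J ⊆ L.S) {x : W} (hx : L.LR K x) :
    ∀ (n : ℕ) (b : W), L.l b = n → b ∈ Subgroup.closure J →
    ∃ a ∈ Subgroup.closure K, ∃ b' ∈ Subgroup.closure J, x * b = a * (x * b') ∧ L.LR K (x * b') := by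
  intro n
  induction n with
  | zero =>
    intro b hb _
    rw [(L.l_eq_zero b).1 hb]
    exact ⟨1, one_mem _, 1, one_mem _, by simp, by simpa using hx⟩
  | succ n ih =>
    intro b hb hbJ
    have hb1 : b ≠ 1 := by
      rintro rfl
      rw [L.l_one] at hb
      omega
    obtain ⟨s, hs, h1⟩ := L.par_desc_right hJ hbJ hb1
    obtain ⟨a1, ha1, b1', hb1', e1, hL⟩ := ih (b * s) (by omega) (mul_mem hbJ (Subgroup.subset_closure hs))
    have e2 : x * b = a1 * (x * b1' * s) := by
      rw [← mul_assoc a1, ← e1, ← mul_assoc, mul_assoc (x * b), L.sq s (hJ hs), mul_one]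
    rcases L.deodhar hK hL (hJ hs) with h | ⟨t, ht, h⟩
    · refine ⟨a1, ha1, b1' * s, mul_mem hb1' (Subgroup.subset_closure hs), ?_, ?_⟩
      · rw [e2, mul_assoc x]
      · rwa [← mul_assoc]
    · refine ⟨a1 * t, mul_mem ha1 (Subgroup.subset_closure ht), b1', hb1', ?_, hL⟩
      rw [e2, h, mul_assoc]

theorem dc_min {K J : Set W} (hK : K ⊆ L.S) (hJ : J ⊆ L.S) {x : W} (hx : L.LR K x) (hx' : L.RR J x)
    {a b : W} (ha : a ∈ Subgroup.closure K) (hb : b ∈ Subgroup.closure J) :
    L.l x ≤ L.l (a * x * b) ∧ (L.l (a * x * b) = L.l x → a * x * b = x) := by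
  obtain ⟨a', ha', b', hb', e, hL⟩ := L.dc_aux hK hJ hx _ b rfl hb
  have e1 : a * x * b = (a * a') * (x * b') := by
    rw [mul_assoc a x b, e, mul_assoc]
  have h1 := L.l_add_left hK hL (mul_mem ha ha')
  have h2 := L.l_add' hJ hx' hb'
  rw [e1]
  refine ⟨by omega, fun h => ?_⟩
  have h3 : a * a' = 1 := (L.l_eq_zero _).1 (by omega)
  have h4 : b' = 1 := (L.l_eq_zero _).1 (by omega)
  rw [h3, h4, one_mul, mul_one]

theorem dc_unique {K J : Set W} (hK : K ⊆ L.S) (hJ : J ⊆ L.S) {x y : W} (hx : L.LR K x)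
    (hx' : L.RR J x) (hy : L.LR K y) (hy' : L.RR J y)
    {a b : W} (ha : a ∈ Subgroup.closure K) (hb : b ∈ Subgroup.closure J) (e : y = a * x * b) :
    y = x := by
  have h1 := L.dc_min hK hJ hx hx' ha hb
  have h2 := L.dc_min hK hJ hy hy' (inv_mem ha) (inv_mem hb)
  have e2 : a⁻¹ * y * b⁻¹ = x := by rw [e]; group
  rw [e2] at h2
  rw [← e] at h1
  exact h1.2 (by omega)

theorem dc_exists {K J : Set W} (hK : K ⊆ L.S) (hJ : J ⊆ L.S) (w : W) :
    ∃ a ∈ Subgroup.closure K, ∃ b ∈ Subgroup.closure J, ∃ x, w = a * x * b ∧ L.LR K x ∧ L.RR J x := by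
  induction h : L.l w using Nat.strong_induction_on generalizing w with
  | _ n ih =>
    by_cases hL : L.LR K w
    · by_cases hR : L.RR J w
      · exact ⟨1, one_mem _, 1, one_mem _, w, by simp, hL, hR⟩
      · unfold RR at hR
        push Not at hR
        obtain ⟨s, hs, h1⟩ := hR
        have h2 := L.step_right (hJ hs) w
        obtain ⟨a, ha, b, hb, x, e, h3, h4⟩ := ih (L.l (w * s)) (by omega) (w * s) rfl
        refine ⟨a, ha, b * s, mul_mem hb (Subgroup.subset_closure hs), x, ?_, h3, h4⟩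
        rw [← mul_assoc, ← e, L.mul_mul_cancel_right (hJ hs)]
    · unfold LR at hL
      push Not at hL
      obtain ⟨s, hs, h1⟩ := hL
      have h2 := L.step s (hK hs) w
      obtain ⟨a, ha, b, hb, x, e, h3, h4⟩ := ih (L.l (s * w)) (by omega) (s * w) rfl
      refine ⟨s * a, mul_mem (Subgroup.subset_closure hs) ha, b, hb, x, ?_, h3, h4⟩
      rw [mul_assoc s, mul_assoc s, ← e, L.mul_mul_cancel (hK hs)]

/-- exchange lemma for reduced products. -/
theorem exch {s a : W} (hs : s ∈ L.S) (h1 : L.l (s * a) = L.l a + 1) :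
    ∀ (n : ℕ) (b : W), L.l b = n → L.l (a * b) = L.l a + L.l b → L.l (s * (a * b)) + 1 = L.l (a * b) →
    ∃ b', s * (a * b) = a * b' ∧ L.l b' < L.l b := by
  intro n
  induction n with
  | zero =>
    intro b hb _ h3
    rw [(L.l_eq_zero b).1 hb, mul_one] at h3
    omega
  | succ n ih =>
    intro b hb h2 h3
    have hb1 : b ≠ 1 := by
      rintro rfl
      rw [L.l_one] at hb
      omega
    obtain ⟨t, ht, h4⟩ := L.desc_right b hb1
    set b1 := b * t with hb1'
    have hbb : b = b1 * t := by rw [hb1', L.mul_mul_cancel_right ht]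
    have h5 : L.l (a * b1) = L.l a + L.l b1 := by
      have c1 := L.l_mul_le a b1
      have c2 := L.step_right ht (a * b1)
      rw [mul_assoc, ← hbb] at c2
      omega
    rcases L.step s hs (a * b1) with h6 | h6
    · have h7 : L.l (a * b1 * t) = L.l (a * b1) + 1 := by
        rw [mul_assoc, ← hbb]; omega
      rcases L.fold s hs t ht (a * b1) h6 h7 with h8 | h8
      · rw [mul_assoc, mul_assoc a, ← hbb] at h8
        omega
      · refine ⟨b1, ?_, by omega⟩
        rw [mul_assoc a, ← hbb] at h8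
        rw [← h8, L.mul_mul_cancel hs]
    · obtain ⟨b1', e, hl⟩ := ih b1 (by omega) h5 h6
      refine ⟨b1' * t, ?_, ?_⟩
      · rw [hbb, ← mul_assoc a, ← mul_assoc s, e, mul_assoc]
      · have := L.step_right ht b1'
        omega

def IsTopL (w : W) : Prop := ∀ s ∈ L.S, L.l (s * w) + 1 = L.l w

def IsTopR (w : W) : Prop := ∀ s ∈ L.S, L.l (w * s) + 1 = L.l w

theorem top_add {w : W} (hw : L.IsTopL w) : ∀ (n : ℕ) (v : W), L.l v = n →
    L.l w = L.l v + L.l (v⁻¹ * w) := by
  intro n
  induction n with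
  | zero =>
    intro v hv
    rw [(L.l_eq_zero v).1 hv, L.l_one, inv_one, one_mul, zero_add]
  | succ n ih =>
    intro v hv
    have hv1 : v ≠ 1 := by
      rintro rfl
      rw [L.l_one] at hv
      omega
    obtain ⟨s, hs, h1⟩ := L.desc v hv1
    set a := s * v with ha
    have hva : v = s * a := by rw [ha, L.mul_mul_cancel hs]
    have h2 := ih a (by omega)
    have e1 : a * (a⁻¹ * w) = w := by group
    obtain ⟨b', e, hl⟩ := L.exch hs (by rw [← hva]; omega) _ (a⁻¹ * w) rfl (by rw [e1]; exact h2)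
      (by rw [e1]; exact hw s hs)
    rw [e1] at e
    have e2 : v⁻¹ * w = b' := by
      rw [hva, mul_inv_rev, L.inv_eq hs, mul_assoc, e, inv_mul_cancel_left]
    have e3 : w = v * b' := by rw [← e2]; group
    have h3 := L.l_mul_le v b'
    rw [← e3] at h3
    rw [e2]
    omega

theorem topL_unique {w w' : W} (hw : L.IsTopL w) (hw' : L.IsTopL w') : w = w' := by
  have h1 := L.top_add hw _ w' rfl
  have h2 := L.top_add hw' _ w rfl
  have h3 : w'⁻¹ * w = 1 := (L.l_eq_zero _).1 (by omega)
  exact (inv_mul_eq_one.1 h3).symm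

theorem topR_inv {w : W} (hw : L.IsTopR w) : L.IsTopL w⁻¹ := by
  intro s hs
  have h := hw s hs
  have e : L.l (s * w⁻¹) = L.l (w * s) := by
    rw [← L.l_inv (w * s), mul_inv_rev, L.inv_eq hs]
  rw [e, L.l_inv]
  exact h

theorem exists_top [Finite W] : ∃ w0, L.IsTopL w0 ∧ L.IsTopR w0 ∧ (∀ w, L.IsTopL w → w = w0) ∧
    (∀ w, L.IsTopR w → w = w0) := by
  obtain ⟨w0, h0⟩ := Finite.exists_max L.l
  have hL : L.IsTopL w0 := by
    intro s hs
    have h1 := L.step s hs w0
    have h2 := h0 (s * w0)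
    omega
  have hR : L.IsTopR w0 := by
    intro s hs
    have h1 := L.step_right hs w0
    have h2 := h0 (w0 * s)
    omega
  refine ⟨w0, hL, hR, fun w hw => L.topL_unique hw hL, fun w hw => ?_⟩
  have h1 : w⁻¹ = w0 := L.topL_unique (L.topR_inv hw) hL
  have h2 : w0⁻¹ = w0 := L.topL_unique (L.topR_inv hR) hL
  rw [← inv_inv w, h1, h2]

theorem sum_pow_aux {α R : Type*} [DecidableEq α] [CommRing R] (Sf A : Finset α) (hA : A ⊆ Sf) :
    ∑ J ∈ Sf.powerset, (if J ⊆ A then (-1 : R) ^ J.card else 0) = if A = ∅ then 1 else 0 := by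
  rw [← Finset.sum_filter]
  have e : Sf.powerset.filter (fun J => J ⊆ A) = A.powerset := by
    ext J
    simp only [Finset.mem_filter, Finset.mem_powerset]
    exact ⟨fun h => h.2, fun h => ⟨h.trans hA, h⟩⟩
  rw [e]
  have := congrArg (Int.cast : ℤ → R) (Finset.sum_powerset_neg_one_pow_card (x := A))
  push_cast at this
  rw [this]

open Classical in
theorem alt_sum_R [Fintype W] {R : Type*} [CommRing R] (Sf : Finset W) (hSf : (Sf : Set W) = L.S)
    (f : W → R) {w0 : W} (h0 : L.IsTopR w0) (hu : ∀ w, L.IsTopR w → w = w0) :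
    ∑ J ∈ Sf.powerset, (-1 : R) ^ J.card * ∑ w : W, (if L.RR (J : Set W) w then f w else 0) = f w0 := by
  have e1 : ∀ J ∈ Sf.powerset, (-1 : R) ^ J.card * ∑ w : W, (if L.RR (J : Set W) w then f w else 0) =
      ∑ w : W, f w * (if J ⊆ Sf.filter (fun s => L.l (w * s) = L.l w + 1) then (-1 : R) ^ J.card else 0) := by
    intro J hJ
    rw [Finset.mem_powerset] at hJ
    rw [Finset.mul_sum]
    apply Finset.sum_congr rfl
    intro w _
    have : L.RR (J : Set W) w ↔ J ⊆ Sf.filter (fun s => L.l (w * s) = L.l w + 1) := by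
      constructor
      · intro h s hs
        exact Finset.mem_filter.2 ⟨hJ hs, h s hs⟩
      · intro h s hs
        exact (Finset.mem_filter.1 (h hs)).2
    by_cases h : L.RR (J : Set W) w
    · rw [if_pos h, if_pos (this.1 h), mul_comm]
    · rw [if_neg h, if_neg (fun h' => h (this.2 h')), mul_zero, mul_zero]
  rw [Finset.sum_congr rfl e1, Finset.sum_comm]
  have e2 : ∀ w : W, ∑ J ∈ Sf.powerset, f w *
      (if J ⊆ Sf.filter (fun s => L.l (w * s) = L.l w + 1) then (-1 : R) ^ J.card else 0) =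
      if w = w0 then f w else 0 := by
    intro w
    rw [← Finset.mul_sum, sum_pow_aux Sf _ (Finset.filter_subset _ _)]
    have : Sf.filter (fun s => L.l (w * s) = L.l w + 1) = ∅ ↔ w = w0 := by
      constructor
      · intro h
        apply hu
        intro s hs
        have hs' : s ∈ Sf := by
          have : s ∈ (Sf : Set W) := hSf ▸ hs
          exact this
        have h1 : s ∉ Sf.filter (fun s => L.l (w * s) = L.l w + 1) := by rw [h]; simp
        have h2 : ¬ L.l (w * s) = L.l w + 1 := fun h3 => h1 (Finset.mem_filter.2 ⟨hs', h3⟩)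
        exact (L.step_right hs w).resolve_left h2
      · rintro rfl
        rw [Finset.filter_eq_empty_iff]
        intro s hs
        have hs' : s ∈ L.S := hSf ▸ (show s ∈ (Sf : Set W) from hs)
        have := h0 s hs'
        omega
    by_cases h : w = w0
    · rw [if_pos h, if_pos (this.2 h), mul_one]
    · rw [if_neg h, if_neg (fun h' => h (this.1 h')), mul_zero]
  rw [Finset.sum_congr rfl (fun w _ => e2 w)]
  simp

open Classical in
theorem alt_sum_LR [Fintype W] {R : Type*} [CommRing R] (Sf : Finset W) (hSf : (Sf : Set W) = L.S) :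
    ∑ K ∈ Sf.powerset, ∑ J ∈ Sf.powerset, (-1 : R) ^ K.card * ((-1 : R) ^ J.card *
      (Nat.card {w : W // L.LR (K : Set W) w ∧ L.RR (J : Set W) w} : R)) = 1 := by
  obtain ⟨w0, hL, hR, _, huR⟩ := L.exists_top
  have e1 : ∀ K J : Finset W, (Nat.card {w : W // L.LR (K : Set W) w ∧ L.RR (J : Set W) w} : R) =
      ∑ w : W, (if L.RR (J : Set W) w then (if L.LR (K : Set W) w then (1 : R) else 0) else 0) := by
    intro K J
    rw [Nat.card_eq_fintype_card, Fintype.card_subtype, Finset.card_filter]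
    push_cast
    apply Finset.sum_congr rfl
    intro w _
    by_cases h1 : L.RR (J : Set W) w <;> by_cases h2 : L.LR (K : Set W) w <;> simp [h1, h2]
  have e2 : ∀ K : Finset W, ∑ J ∈ Sf.powerset, (-1 : R) ^ K.card * ((-1 : R) ^ J.card *
      (Nat.card {w : W // L.LR (K : Set W) w ∧ L.RR (J : Set W) w} : R)) =
      (-1 : R) ^ K.card * (if L.LR (K : Set W) w0 then (1 : R) else 0) := by
    intro K
    rw [← Finset.mul_sum]
    congr 1
    rw [← L.alt_sum_R Sf hSf (fun w => if L.LR (K : Set W) w then (1 : R) else 0) hR huR]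
    apply Finset.sum_congr rfl
    intro J _
    rw [e1]
  rw [Finset.sum_congr rfl (fun K _ => e2 K)]
  have e3 : ∀ K ∈ Sf.powerset, (-1 : R) ^ K.card * (if L.LR (K : Set W) w0 then (1 : R) else 0) =
      if K ⊆ (∅ : Finset W) then (-1 : R) ^ K.card else 0 := by
    intro K hK
    rw [Finset.mem_powerset] at hK
    have : L.LR (K : Set W) w0 ↔ K ⊆ (∅ : Finset W) := by
      constructor
      · intro h s hs
        exfalso
        have h1 := h s hs
        have hs' : s ∈ L.S := hSf ▸ (show s ∈ (Sf : Set W) from hK hs)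
        have h2 := hL s hs'
        omega
      · intro h s hs
        exact absurd (h hs) (by simp)
    by_cases h : L.LR (K : Set W) w0
    · rw [if_pos h, if_pos (this.1 h), mul_one]
    · rw [if_neg h, if_neg (fun h' => h (this.2 h')), mul_zero]
  rw [Finset.sum_congr rfl e3, sum_pow_aux Sf ∅ (Finset.empty_subset _), if_pos rfl]

end LenSys

end Cfsg.Agent.Lib.Helper46Len
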