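import Cfsg.Agent.Lib.Helper8BN
import Cfsg.Agent.Lib.Helper46Len

/-! The Weyl group `W = N / (B ⊓ N)` of a BN-pair as a length system, and the map `δ : G → W`
recording the Bruhat cell. -/

namespace Cfsg.Agent.Lib.Helper46BN

open Cfsg Cfsg.Agent.Lib.Helper8BN Cfsg.Agent.Lib.Helper46Len

variable {G : Type*} [Group G] (P : Cfsg.BNPair G)

/-- `B ⊓ N` as a subgroup of `N`. -/
def TN : Subgroup P.N := (P.B ⊓ P.N).subgroupOf P.N

theorem mem_TN {n : P.N} : n ∈ TN P ↔ n.1 ∈ P.B := by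
  unfold TN
  rw [Subgroup.mem_subgroupOf, Subgroup.mem_inf]
  exact ⟨fun h => h.1, fun h => ⟨h, n.2⟩⟩

instance instNormalTN : (TN P).Normal := ⟨fun t ht n => by
  rw [mem_TN] at ht ⊢
  exact P.conj_mem n.1 n.2 t.1 ⟨ht, t.2⟩⟩

/-- the Weyl group. -/
abbrev Wg := P.N ⧸ TN P

/-- class of an element of `N`. -/
def mkW (n : G) (hn : n ∈ P.N) : Wg P := QuotientGroup.mk ⟨n, hn⟩

theorem mkW_eq_iff {n n' : G} (hn : n ∈ P.N) (hn' : n' ∈ P.N) :
    mkW P n hn = mkW P n' hn' ↔ n⁻¹ * n' ∈ P.B := by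
  unfold mkW
  rw [QuotientGroup.eq, mem_TN]
  rfl

theorem mkW_mul {n n' : G} (hn : n ∈ P.N) (hn' : n' ∈ P.N) :
    mkW P n hn * mkW P n' hn' = mkW P (n * n') (P.N.mul_mem hn hn') := rfl

theorem mkW_inv {n : G} (hn : n ∈ P.N) : (mkW P n hn)⁻¹ = mkW P n⁻¹ (P.N.inv_mem hn) := rfl

theorem mkW_one : mkW P 1 P.N.one_mem = 1 := rfl

theorem mkW_eq_one_iff {n : G} (hn : n ∈ P.N) : mkW P n hn = 1 ↔ n ∈ P.B := by
  rw [← mkW_one, mkW_eq_iff, mul_one, inv_mem_iff]

theorem mkW_surj (w : Wg P) : ∃ n, ∃ hn : n ∈ P.N, mkW P n hn = w := by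
  obtain ⟨⟨n, hn⟩, rfl⟩ := QuotientGroup.mk_surjective w
  exact ⟨n, hn, rfl⟩

/-- a representative. -/
noncomputable def rep (w : Wg P) : G := (mkW_surj P w).choose

theorem rep_mem (w : Wg P) : rep P w ∈ P.N := (mkW_surj P w).choose_spec.choose

theorem mkW_rep (w : Wg P) : mkW P (rep P w) (rep_mem P w) = w :=
  (mkW_surj P w).choose_spec.choose_spec

/-- length on `W`. -/
noncomputable def lenW (w : Wg P) : ℕ := len P (rep P w)

theorem lenW_mkW {n : G} (hn : n ∈ P.N) : lenW P (mkW P n hn) = len P n := by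
  unfold lenW
  apply len_eq_of_mem (rep_mem P _) hn
  rw [← mkW_eq_iff P (rep_mem P _) hn, mkW_rep]

/-- the distinguished generators of `W`. -/
def SW : Set (Wg P) := {w | ∃ s, ∃ hs : s ∈ P.S, w = mkW P s (P.subset hs)}

/-- image of a set of generators. -/
def imgJ (J : Set G) : Set (Wg P) := {w | ∃ s, ∃ hs : s ∈ P.S, s ∈ J ∧ w = mkW P s (P.subset hs)}

theorem imgJ_subset (J : Set G) : imgJ P J ⊆ SW P := fun _ ⟨s, hs, _, e⟩ => ⟨s, hs, e⟩

variable {P}

theorem Lv_inv : ∀ (k : ℕ) {n : G}, n ∈ Lv P P.S k → n⁻¹ ∈ Lv P P.S k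
  | 0, _, hn => (P.B ⊓ P.N).inv_mem hn
  | k + 1, _, ⟨s, hs, u, hu, e⟩ => by
    have h1 := Lv_mul_S (subset_refl _) k (Lv_inv k hu) hs
    have h2 := Lv_mul_T (k + 1) h1 ((P.B ⊓ P.N).inv_mem (sq_mem_T hs))
    have e2 : (s * u)⁻¹ = u⁻¹ * s * (s * s)⁻¹ := by group
    rw [e, e2]
    exact h2

theorem len_inv {n : G} (hn : n ∈ P.N) : len P n⁻¹ = len P n := by
  apply le_antisymm
  · exact len_le (Lv_inv _ (mem_Lv_len hn))
  · have := len_le (Lv_inv _ (mem_Lv_len (P.N.inv_mem hn)))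
    rwa [inv_inv] at this

theorem Up_iff {s n : G} (hs : s ∈ P.S) (hn : n ∈ P.N) : Up P s n ↔ len P (s * n) = len P n + 1 := by
  constructor
  · exact len_of_Up hs hn
  · intro h
    by_contra h'
    have := len_of_not_Up hs hn h'
    omega

variable (P)

/-- the length system of a BN-pair. -/
noncomputable def lenSys : LenSys (Wg P) where
  S := SW P
  l := lenW P
  l_eq_zero := by
    intro w
    obtain ⟨n, hn, rfl⟩ := mkW_surj P w
    rw [lenW_mkW, len_zero_iff hn, mkW_eq_one_iff]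
  sq := by
    rintro _ ⟨s, hs, rfl⟩
    rw [mkW_mul, mkW_eq_one_iff]
    exact P.sq_mem s hs
  step := by
    rintro _ ⟨s, hs, rfl⟩ w
    obtain ⟨n, hn, rfl⟩ := mkW_surj P w
    rw [mkW_mul, lenW_mkW, lenW_mkW]
    by_cases h : Up P s n
    · exact Or.inl (len_of_Up hs hn h)
    · exact Or.inr (len_of_not_Up hs hn h)
  l_inv := by
    intro w
    obtain ⟨n, hn, rfl⟩ := mkW_surj P w
    rw [mkW_inv, lenW_mkW, lenW_mkW, len_inv hn]
  desc := by
    intro w hw
    obtain ⟨n, hn, rfl⟩ := mkW_surj P w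
    rw [Ne, mkW_eq_one_iff] at hw
    have h1 := mem_Lv_len hn
    have h2 : len P n ≠ 0 := fun h => hw ((len_zero_iff hn).1 h)
    obtain ⟨k, hk⟩ := Nat.exists_eq_succ_of_ne_zero h2
    rw [hk] at h1
    obtain ⟨s, hs, u, hu, e⟩ := h1
    refine ⟨mkW P s (P.subset hs), ⟨s, hs, rfl⟩, ?_⟩
    rw [mkW_mul, lenW_mkW, lenW_mkW]
    have h3 : s * n ∈ Lv P P.S k := by
      rw [e, ← mul_assoc]
      exact T_mul_Lv (subset_refl _) k hu (sq_mem_T hs)
    have h4 := len_le h3
    have h5 := len_le_S_mul hn hs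
    omega
  fold := by
    rintro _ ⟨s, hs, rfl⟩ _ ⟨t, ht, rfl⟩ w
    obtain ⟨n, hn, rfl⟩ := mkW_surj P w
    simp only [mkW_mul, lenW_mkW]
    intro h1 h2
    have hU : Up P s n := (Up_iff hs hn).2 h1
    by_cases h : Up P s (n * t)
    · left
      have := len_of_Up hs (P.N.mul_mem hn (P.subset ht)) h
      rw [mul_assoc]
      omega
    · right
      rw [mkW_eq_iff]
      exact Up_exchange hs ht hn hU h

@[simp] theorem lenSys_S : (lenSys P).S = SW P := rfl
@[simp] theorem lenSys_l : (lenSys P).l = lenW P := rfl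

/-! ### the map `δ` -/

/-- the Bruhat cell of `g`. -/
noncomputable def delta (g : G) : Wg P :=
  mkW P (bruhat_exists (P := P) g).choose (bruhat_exists (P := P) g).choose_spec.1

theorem delta_eq {n g : G} (hn : n ∈ P.N) (h : R P n g) : delta P g = mkW P n hn := by
  unfold delta
  rw [mkW_eq_iff]
  exact bruhat_unique (bruhat_exists (P := P) g).choose_spec.1 hn
    ((bruhat_exists (P := P) g).choose_spec.2.trans h.symm)

theorem R_of_delta_eq {n g : G} (hn : n ∈ P.N) (h : delta P g = mkW P n hn) : R P n g := by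
  unfold delta at h
  rw [mkW_eq_iff] at h
  exact (R_of_inv_mul_mem h).symm.trans (bruhat_exists (P := P) g).choose_spec.2

theorem delta_iff {n g : G} (hn : n ∈ P.N) : delta P g = mkW P n hn ↔ R P n g :=
  ⟨R_of_delta_eq P hn, delta_eq P hn⟩

theorem R_rep (g : G) : R P (rep P (delta P g)) g :=
  R_of_delta_eq P (rep_mem P _) (mkW_rep P _).symm

theorem delta_of_mem_N {n : G} (hn : n ∈ P.N) : delta P n = mkW P n hn := delta_eq P hn (R.refl n)

theorem delta_rep (w : Wg P) : delta P (rep P w) = w := by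
  rw [delta_of_mem_N P (rep_mem P w), mkW_rep]

theorem delta_eq_one_iff {g : G} : delta P g = 1 ↔ g ∈ P.B := by
  rw [← mkW_one, delta_iff]
  constructor
  · intro h
    exact R_of_mem P.B.one_mem h
  · intro h
    exact ⟨g, h, 1, P.B.one_mem, by simp⟩

theorem delta_B_mul {b g : G} (hb : b ∈ P.B) : delta P (b * g) = delta P g := by
  obtain ⟨n, hn, e⟩ := mkW_surj P (delta P g)
  rw [← e, delta_iff]
  exact R.mul_left hb (R_of_delta_eq P hn e.symm)

theorem delta_mul_B {b g : G} (hb : b ∈ P.B) : delta P (g * b) = delta P g := by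
  obtain ⟨n, hn, e⟩ := mkW_surj P (delta P g)
  rw [← e, delta_iff]
  exact R.mul_right hb (R_of_delta_eq P hn e.symm)

theorem delta_inv (g : G) : delta P g⁻¹ = (delta P g)⁻¹ := by
  obtain ⟨n, hn, e⟩ := mkW_surj P (delta P g)
  rw [← e, mkW_inv, delta_iff]
  exact (R_of_delta_eq P hn e.symm).inv

theorem delta_eq_delta_iff {g g' : G} :
    delta P g = delta P g' ↔ ∃ x ∈ P.B, ∃ y ∈ P.B, g' = x * g * y := by
  obtain ⟨n, hn, e⟩ := mkW_surj P (delta P g)
  have h1 := R_of_delta_eq P hn e.symm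
  constructor
  · intro h
    have h2 : R P n g' := R_of_delta_eq P hn (by rw [← h, e])
    exact h1.symm.trans h2
  · intro h
    rw [← e, eq_comm, delta_iff]
    exact h1.trans h

/-- `C(s) C(w) ⊆ C(sw) ∪ C(w)`. -/
theorem delta_S_mul {x g : G} (hx : delta P x ∈ SW P) :
    delta P (x * g) = delta P x * delta P g ∨ delta P (x * g) = delta P g := by
  obtain ⟨s, hs, e⟩ := hx
  obtain ⟨n, hn, e'⟩ := mkW_surj P (delta P g)
  obtain ⟨b1, hb1, b2, hb2, rfl⟩ := R_of_delta_eq P _ e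
  obtain ⟨b3, hb3, b4, hb4, rfl⟩ := R_of_delta_eq P hn e'.symm
  have e1 : b1 * s * b2 * (b3 * n * b4) = b1 * (s * (b2 * b3) * n) * b4 := by group
  rw [e, ← e', mkW_mul, e1, delta_mul_B P hb4, delta_B_mul P hb1, delta_iff, delta_iff]
  exact T3 hs hn (P.B.mul_mem hb2 hb3)

/-- `C(s) C(w) = C(sw)` if `l(sw) > l(w)`. -/
theorem delta_S_mul_up {x g : G} (hx : delta P x ∈ SW P)
    (h : lenW P (delta P x * delta P g) = lenW P (delta P g) + 1) :
    delta P (x * g) = delta P x * delta P g := by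
  obtain ⟨s, hs, e⟩ := hx
  obtain ⟨n, hn, e'⟩ := mkW_surj P (delta P g)
  obtain ⟨b1, hb1, b2, hb2, rfl⟩ := R_of_delta_eq P _ e
  obtain ⟨b3, hb3, b4, hb4, rfl⟩ := R_of_delta_eq P hn e'.symm
  have e1 : b1 * s * b2 * (b3 * n * b4) = b1 * (s * (b2 * b3) * n) * b4 := by group
  rw [e, ← e', mkW_mul, lenW_mkW, lenW_mkW] at h
  rw [e, ← e', mkW_mul, e1, delta_mul_B P hb4, delta_B_mul P hb1, delta_iff]
  exact (Up_iff hs hn).2 h _ (P.B.mul_mem hb2 hb3)

/-- split off a generator on the left. -/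
theorem exists_split {x : G} {σ : Wg P} (hσ : σ ∈ SW P) :
    ∃ y x', x = y * x' ∧ delta P y = σ ∧ delta P x' = σ * delta P x := by
  obtain ⟨s, hs, rfl⟩ := hσ
  obtain ⟨n, hn, e⟩ := mkW_surj P (delta P x)
  obtain ⟨b1, hb1, b2, hb2, rfl⟩ := R_of_delta_eq P hn e.symm
  refine ⟨b1 * s, s⁻¹ * n * b2, by group, ?_, ?_⟩
  · rw [delta_B_mul P hb1, delta_of_mem_N P (P.subset hs)]
  · rw [← e, delta_mul_B P hb2, delta_of_mem_N P (P.N.mul_mem (P.N.inv_mem (P.subset hs)) hn), mkW_mul,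
      mkW_eq_iff]
    have e2 : (s⁻¹ * n)⁻¹ * (s * n) = n⁻¹ * (s * s) * n := by group
    rw [e2]
    exact (conj_mem_T' hn (sq_mem_T hs)).1

/-- `C(w) C(w') = C(w w')` if lengths add. -/
theorem delta_mul_of_add : ∀ (k : ℕ) (x g : G), lenW P (delta P x) = k →
    lenW P (delta P x * delta P g) = lenW P (delta P x) + lenW P (delta P g) →
    delta P (x * g) = delta P x * delta P g := by
  intro k
  induction k with
  | zero =>
    intro x g hk _
    have h1 : delta P x = 1 := ((lenSys P).l_eq_zero _).1 hk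
    rw [h1, one_mul, delta_B_mul P ((delta_eq_one_iff P).1 h1)]
  | succ k ih =>
    intro x g hk h
    have h1 : delta P x ≠ 1 := by
      intro h1
      rw [h1] at hk
      have := (lenSys P).l_one
      simp only [lenSys_l] at this
      omega
    obtain ⟨σ, hσ, h2⟩ := (lenSys P).desc _ h1
    simp only [lenSys_l, lenSys_S] at h2 hσ
    obtain ⟨y, x', rfl, hy, hx'⟩ := exists_split P (x := x) hσ
    set w := delta P (y * x') with hw
    have c1 := (lenSys P).l_mul_le (σ * w) (delta P g)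
    have c2 := (lenSys P).step σ hσ (σ * w * delta P g)
    simp only [lenSys_l] at c1 c2
    have e1 : σ * (σ * w * delta P g) = w * delta P g := by
      rw [mul_assoc, (lenSys P).mul_mul_cancel hσ]
    rw [e1] at c2
    have h3 := ih x' g (by rw [hx']; omega) (by rw [hx']; omega)
    rw [mul_assoc, delta_S_mul_up P (by rw [hy]; exact hσ) (by rw [hy, h3, hx', e1]; omega), hy, h3, hx', e1]

theorem delta_mul_of_add' {x g : G}
    (h : lenW P (delta P x * delta P g) = lenW P (delta P x) + lenW P (delta P g)) :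
    delta P (x * g) = delta P x * delta P g := delta_mul_of_add P _ x g rfl h

/-- `P_K g ⊆ B W_K δ(g) B`. -/
theorem delta_mul_mem {K : Set (Wg P)} (hK : K ⊆ SW P) : ∀ (k : ℕ) (x g : G), lenW P (delta P x) = k →
    delta P x ∈ Subgroup.closure K → ∃ a ∈ Subgroup.closure K, delta P (x * g) = a * delta P g := by
  intro k
  induction k with
  | zero =>
    intro x g hk _
    have h1 : delta P x = 1 := ((lenSys P).l_eq_zero _).1 hk
    exact ⟨1, one_mem _, by rw [one_mul, delta_B_mul P ((delta_eq_one_iff P).1 h1)]⟩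
  | succ k ih =>
    intro x g hk hx
    have h1 : delta P x ≠ 1 := by
      intro h1
      rw [h1] at hk
      have := (lenSys P).l_one
      simp only [lenSys_l] at this
      omega
    obtain ⟨σ, hσ, h2⟩ := (lenSys P).par_desc hK hx h1
    simp only [lenSys_l] at h2
    obtain ⟨y, x', rfl, hy, hx'⟩ := exists_split P (x := x) (hK hσ)
    obtain ⟨a, ha, e⟩ := ih x' g (by rw [hx']; omega)
      (by rw [hx']; exact mul_mem (Subgroup.subset_closure hσ) hx)
    rw [mul_assoc]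
    rcases delta_S_mul P (x := y) (g := x' * g) (by rw [hy]; exact hK hσ) with h | h
    · exact ⟨σ * a, mul_mem (Subgroup.subset_closure hσ) ha, by rw [h, hy, e, mul_assoc]⟩
    · exact ⟨a, ha, by rw [h, e]⟩

theorem delta_mul_mem_right {K : Set (Wg P)} (hK : K ⊆ SW P) {x g : G}
    (hx : delta P x ∈ Subgroup.closure K) : ∃ a ∈ Subgroup.closure K, delta P (g * x) = delta P g * a := by
  obtain ⟨a, ha, e⟩ := delta_mul_mem P hK _ x⁻¹ g⁻¹ rfl (by rw [delta_inv]; exact inv_mem hx)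
  refine ⟨a⁻¹, inv_mem ha, ?_⟩
  rw [← mul_inv_rev, delta_inv, delta_inv] at e
  rw [← inv_inj, e, mul_inv_rev, inv_inv]

/-- membership in parabolic subgroups. -/
theorem mem_parabolic_iff_delta {J : Set G} (hJ : J ⊆ P.S) {g : G} :
    g ∈ P.parabolic J ↔ delta P g ∈ Subgroup.closure (imgJ P J) := by
  rw [mem_parabolic_iff hJ]
  constructor
  · rintro ⟨n, hn, hR⟩
    have key : ∀ n ∈ Subgroup.closure J, ∃ hn : n ∈ P.N, mkW P n hn ∈ Subgroup.closure (imgJ P J) := by
      intro n hn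
      induction hn using Subgroup.closure_induction with
      | mem x hx => exact ⟨P.subset (hJ hx), Subgroup.subset_closure ⟨x, hJ hx, hx, rfl⟩⟩
      | one => exact ⟨P.N.one_mem, one_mem _⟩
      | mul x y _ _ hx hy =>
        obtain ⟨h1, h2⟩ := hx
        obtain ⟨h3, h4⟩ := hy
        exact ⟨P.N.mul_mem h1 h3, mul_mem h2 h4⟩
      | inv x _ hx =>
        obtain ⟨h1, h2⟩ := hx
        exact ⟨P.N.inv_mem h1, inv_mem h2⟩
    obtain ⟨hn', h⟩ := key n hn
    rw [delta_eq P hn' hR]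
    exact h
  · intro h
    have key : ∀ w ∈ Subgroup.closure (imgJ P J), ∃ n ∈ Subgroup.closure J, ∃ hn : n ∈ P.N, mkW P n hn = w := by
      intro w hw
      induction hw using Subgroup.closure_induction with
      | mem x hx =>
        obtain ⟨s, hs, hsJ, rfl⟩ := hx
        exact ⟨s, Subgroup.subset_closure hsJ, _, rfl⟩
      | one => exact ⟨1, one_mem _, P.N.one_mem, rfl⟩
      | mul x y _ _ hx hy =>
        obtain ⟨n, h1, h2, rfl⟩ := hx
        obtain ⟨n', h3, h4, rfl⟩ := hy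
        exact ⟨n * n', mul_mem h1 h3, _, rfl⟩
      | inv x _ hx =>
        obtain ⟨n, h1, h2, rfl⟩ := hx
        exact ⟨n⁻¹, inv_mem h1, _, rfl⟩
    obtain ⟨n, hn, hn', e⟩ := key _ h
    exact ⟨n, hn, R_of_delta_eq P hn' e.symm⟩

end Cfsg.Agent.Lib.Helper46BN
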