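import Cfsg.Agent.Lib.Helper46BNSt
import Cfsg.Agent.Lib.Helper32Virt
import Cfsg.Agent.Lib.Helper44P1
import Cfsg.Agent.S0148

set_option autoImplicit false

namespace Cfsg.Agent.Lib.Helper46BNIrr

open Cfsg Cfsg.Agent.Lib.Helper8BN Cfsg.Agent.Lib.Helper46Len Cfsg.Agent.Lib.Helper46BN
open Cfsg.Agent.Lib.Helper46BNSt
open Cfsg.Agent.Lib.Helper4Char Cfsg.Agent.Lib.Helper4Char2 Cfsg.Agent.Lib.Helper4Char4
open Cfsg.Agent.Lib.Helper32Virt

theorem fix_isCharacter' {G : Type*} [Group G] [Fintype G] (H : Subgroup G) :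
    Cfsg.IsCharacter G (Cfsg.fixedPointCharacter H) := by
  have : Cfsg.fixedPointCharacter H = Cfsg.indFun H (fun _ => 1) := by
    funext g
    exact Cfsg.Agent.Lib.Helper44P1.fixedPointCharacter_eq_indFun H g
  rw [this]
  exact Cfsg.Agent.S0148.result H _ (IsCharacter.one (G := H))

variable {G : Type*} [Group G] (P : Cfsg.BNPair G)

theorem St_conj (Sf : Finset (Wg P)) (g : G) : (starRingEnd ℂ) (St P Sf g) = St P Sf g := by
  unfold St Cfsg.fixedPointCharacter
  rw [map_sum]
  apply Finset.sum_congr rfl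
  intro J _
  simp

theorem St_gen [Fintype G] (Sf : Finset (Wg P)) : Cfsg.IsGeneralizedCharacter G (St P Sf) := by
  have : St P Sf = ∑ J ∈ Sf.powerset,
      (((-1 : ℤ) ^ J.card : ℤ) : ℂ) • Cfsg.fixedPointCharacter (P.parabolic (pre P (J : Set (Wg P)))) := by
    funext g
    rw [Finset.sum_apply]
    unfold St
    apply Finset.sum_congr rfl
    intro J _
    simp
  rw [this]
  apply gen_sum
  intro J _
  exact gen_intCast_smul _ (gen_of_char (fix_isCharacter' _))

/-- **The Steinberg character of a finite group with a BN-pair is irreducible.** -/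
theorem St_irr [Fintype G] (Sf : Finset (Wg P)) (hSf : (Sf : Set (Wg P)) = SW P) :
    Cfsg.IsIrrCharacter G (St P Sf) := by
  have hnorm : Cfsg.classInner (St P Sf) (St P Sf) = 1 := by
    unfold Cfsg.classInner
    simp only [St_conj]
    exact St_norm P Sf hSf
  rcases gen_norm_one (St_gen P Sf) hnorm with h | h
  · exact h
  · exfalso
    obtain ⟨d, hd0, hd⟩ := IsIrrCharacter.exists_degree h
    obtain ⟨w0, hL, hR, _, huR⟩ := (lenSys P).exists_top
    have h1 := St_eq_big_cell P Sf hSf hR huR P.B.one_mem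
    have h2 : ((d + Nat.card {y : G ⧸ P.B // dbar P y = w0 ∧ (1 : G) • y = y} : ℕ) : ℂ) = 0 := by
      push_cast
      rw [← h1, ← hd]
      simp
    have h3 : d + Nat.card {y : G ⧸ P.B // dbar P y = w0 ∧ (1 : G) • y = y} = 0 := by exact_mod_cast h2
    omega

end Cfsg.Agent.Lib.Helper46BNIrr
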