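import Mathlib
import Cfsg.Prelude.Def_ParabolicCharacters

/-!
# Inner products of permutation characters through double cosets
-/

set_option autoImplicit false
set_option linter.unusedSectionVars false
set_option linter.unusedSimpArgs false
set_option linter.unusedVariables false

namespace Cfsg.Agent.Lib.Helper46DC

variable {G : Type*} [Group G]

/-- A complete invariant of the `(H, K)`-double cosets gives a complete invariant of the orbits on pairs. -/
theorem card_orbits_pairs [Finite G] (H K : Subgroup G) {T : Type*} (Φ : G → T)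
    (hsurj : Function.Surjective Φ)
    (hΦ : ∀ g g', Φ g = Φ g' ↔ ∃ h ∈ H, ∃ k ∈ K, g' = h * g * k) :
    Nat.card (Quotient (MulAction.orbitRel G ((G ⧸ H) × (G ⧸ K)))) = Nat.card T := by
  let Ψ : (G ⧸ H) × (G ⧸ K) → T := fun p => Φ (p.1.out⁻¹ * p.2.out)
  have hΨ : ∀ x y : G, Ψ ((x : G ⧸ H), (y : G ⧸ K)) = Φ (x⁻¹ * y) := by
    intro x y
    obtain ⟨h, hh⟩ := QuotientGroup.mk_out_eq_mul H x
    obtain ⟨k, hk⟩ := QuotientGroup.mk_out_eq_mul K y
    change Φ ((Quotient.out (x : G ⧸ H))⁻¹ * Quotient.out (y : G ⧸ K)) = _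
    rw [hh, hk]
    symm
    rw [hΦ]
    exact ⟨h⁻¹, H.inv_mem h.2, k, k.2, by group⟩
  have hinv : ∀ p p' : (G ⧸ H) × (G ⧸ K), (MulAction.orbitRel G _) p p' ↔ Ψ p = Ψ p' := by
    rintro ⟨a, b⟩ ⟨a', b'⟩
    obtain ⟨x, rfl⟩ := QuotientGroup.mk_surjective a
    obtain ⟨y, rfl⟩ := QuotientGroup.mk_surjective b
    obtain ⟨x', rfl⟩ := QuotientGroup.mk_surjective a'
    obtain ⟨y', rfl⟩ := QuotientGroup.mk_surjective b'
    rw [hΨ, hΨ, MulAction.orbitRel_apply, MulAction.mem_orbit_iff]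
    constructor
    · rintro ⟨g, hg⟩
      have h1 : ((g * x' : G) : G ⧸ H) = (x : G ⧸ H) := congrArg Prod.fst hg
      have h2 : ((g * y' : G) : G ⧸ K) = (y : G ⧸ K) := congrArg Prod.snd hg
      rw [QuotientGroup.eq] at h1 h2
      symm
      rw [hΦ]
      refine ⟨x⁻¹ * (g * x'), ?_, (g * y')⁻¹ * y, h2, by group⟩
      have := H.inv_mem h1
      simpa [mul_assoc] using this
    · intro h
      rw [hΦ] at h
      obtain ⟨h, hh, k, hk, e⟩ := h
      refine ⟨x * h⁻¹ * x'⁻¹, ?_⟩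
      apply Prod.ext
      · change (((x * h⁻¹ * x'⁻¹) * x' : G) : G ⧸ H) = (x : G ⧸ H)
        rw [QuotientGroup.eq]
        have : (x * h⁻¹ * x'⁻¹ * x')⁻¹ * x = h := by group
        rw [this]
        exact hh
      · change (((x * h⁻¹ * x'⁻¹) * y' : G) : G ⧸ K) = (y : G ⧸ K)
        rw [QuotientGroup.eq]
        have e2 : y' = x' * (h * (x⁻¹ * y) * k) := by rw [← e]; group
        have : (x * h⁻¹ * x'⁻¹ * y')⁻¹ * y = k⁻¹ := by rw [e2]; group
        rw [this]
        exact K.inv_mem hk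
  apply Nat.card_congr
  refine Equiv.ofBijective (Quotient.lift Ψ (fun p p' h => (hinv p p').mp h)) ⟨?_, ?_⟩
  · intro a b
    induction a using Quotient.inductionOn with | _ a => ?_
    induction b using Quotient.inductionOn with | _ b => ?_
    intro h
    exact Quotient.sound ((hinv a b).mpr h)
  · intro t
    obtain ⟨g, rfl⟩ := hsurj t
    refine ⟨Quotient.mk _ (((1 : G) : G ⧸ H), (g : G ⧸ K)), ?_⟩
    change Ψ _ = _
    rw [hΨ]
    simp

/-- The inner product of two permutation characters. -/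
theorem inner_fixedPoint [Fintype G] (H K : Subgroup G) {T : Type*} (Φ : G → T)
    (hsurj : Function.Surjective Φ)
    (hΦ : ∀ g g', Φ g = Φ g' ↔ ∃ h ∈ H, ∃ k ∈ K, g' = h * g * k) :
    (Nat.card G : ℂ)⁻¹ * ∑ g : G, Cfsg.fixedPointCharacter H g * Cfsg.fixedPointCharacter K g =
      (Nat.card T : ℂ) := by
  classical
  rw [← card_orbits_pairs H K Φ hsurj hΦ]
  have hG : (Nat.card G : ℂ) ≠ 0 := by exact_mod_cast Nat.card_pos.ne'
  let _ : Fintype (Quotient (MulAction.orbitRel G ((G ⧸ H) × (G ⧸ K)))) := Fintype.ofFinite _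
  let _ : ∀ g : G, Fintype (MulAction.fixedBy ((G ⧸ H) × (G ⧸ K)) g) := fun g => Fintype.ofFinite _
  have hB := MulAction.sum_card_fixedBy_eq_card_orbits_mul_card_group G ((G ⧸ H) × (G ⧸ K))
  have hfix : ∀ g : G, Cfsg.fixedPointCharacter H g * Cfsg.fixedPointCharacter K g =
      (Fintype.card (MulAction.fixedBy ((G ⧸ H) × (G ⧸ K)) g) : ℂ) := by
    intro g
    unfold Cfsg.fixedPointCharacter
    rw [← Nat.cast_mul, ← Nat.card_prod, ← Nat.card_eq_fintype_card]
    congr 1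
    apply Nat.card_congr
    exact
      { toFun := fun p => ⟨(p.1.1, p.2.1), by
          rw [MulAction.mem_fixedBy]
          exact Prod.ext p.1.2 p.2.2⟩
        invFun := fun p => (⟨p.1.1, congrArg Prod.fst p.2⟩, ⟨p.1.2, congrArg Prod.snd p.2⟩)
        left_inv := fun p => rfl
        right_inv := fun p => rfl }
  simp only [hfix]
  rw [← Nat.cast_sum, hB, Nat.card_eq_fintype_card, Nat.card_eq_fintype_card]
  push_cast
  rw [Nat.card_eq_fintype_card] at hG
  field_simp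

/-- Transfer of a complete invariant of double cosets along a homomorphism `W → G` whose image meets every
double coset. -/
theorem transfer {W T : Type*} [Group W] (P : W →* G) (H K : Subgroup G) (Y Y' : Subgroup W) (Φ : W → T)
    (hY : ∀ y ∈ Y, P y ∈ H) (hY' : ∀ y ∈ Y', P y ∈ K)
    (hΦ : ∀ w w', Φ w = Φ w' → ∃ y ∈ Y, ∃ y' ∈ Y', w' = y * w * y')
    (hsurj : Function.Surjective Φ)
    (hcover : ∀ g : G, ∃ w : W, ∃ h ∈ H, ∃ k ∈ K, g = h * P w * k)
    (hsep : ∀ w w', (∃ h ∈ H, ∃ k ∈ K, P w' = h * P w * k) → Φ w = Φ w') :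
    ∃ Ψ : G → T, Function.Surjective Ψ ∧ ∀ g g', Ψ g = Ψ g' ↔ ∃ h ∈ H, ∃ k ∈ K, g' = h * g * k := by
  choose w h hh k hk e using hcover
  have e3 : ∀ g, P (w g) = (h g)⁻¹ * g * (k g)⁻¹ := by
    intro g
    rw [eq_mul_inv_iff_mul_eq, eq_inv_mul_iff_mul_eq, ← mul_assoc]
    exact (e g).symm
  refine ⟨fun g => Φ (w g), ?_, ?_⟩
  · intro t
    obtain ⟨v, rfl⟩ := hsurj t
    refine ⟨P v, ?_⟩
    apply hsep
    refine ⟨h (P v), hh _, k (P v), hk _, e (P v)⟩
  · intro g g'
    constructor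
    · intro heq
      obtain ⟨y, hy, y', hy', e2⟩ := hΦ _ _ heq
      refine ⟨h g' * P y * (h g)⁻¹, H.mul_mem (H.mul_mem (hh _) (hY y hy)) (H.inv_mem (hh _)),
        (k g)⁻¹ * P y' * k g', K.mul_mem (K.mul_mem (K.inv_mem (hk _)) (hY' y' hy')) (hk _), ?_⟩
      calc g' = h g' * P (w g') * k g' := e g'
        _ = h g' * (P y * P (w g) * P y') * k g' := by rw [e2, map_mul, map_mul]
        _ = _ := by rw [e3 g]; group
    · rintro ⟨a, ha, b, hb, e2⟩
      apply hsep
      refine ⟨(h g')⁻¹ * a * h g, H.mul_mem (H.mul_mem (H.inv_mem (hh _)) ha) (hh _),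
        k g * b * (k g')⁻¹, K.mul_mem (K.mul_mem (hk _) hb) (K.inv_mem (hk _)), ?_⟩
      rw [e3 g', e3 g]
      generalize h g' = x1
      generalize k g' = x2
      rw [e2]
      group

end Cfsg.Agent.Lib.Helper46DC
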