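import Cfsg.Agent.Lib.Helper46BN
import Cfsg.Agent.Lib.Helper46DC

/-! The Steinberg character of a finite group with a BN-pair: norm one, restriction to `B`. -/

namespace Cfsg.Agent.Lib.Helper46BNSt

open Cfsg Cfsg.Agent.Lib.Helper8BN Cfsg.Agent.Lib.Helper46Len Cfsg.Agent.Lib.Helper46BN

variable {G : Type*} [Group G] (P : Cfsg.BNPair G)

theorem rep_mem_parabolic {J : Set G} (hJ : J ⊆ P.S) {a : Wg P} (ha : a ∈ Subgroup.closure (imgJ P J)) :
    rep P a ∈ P.parabolic J := by
  rw [mem_parabolic_iff_delta P hJ, delta_rep]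
  exact ha

/-- parametrisation of the `(P_K, P_J)` double cosets. -/
theorem exists_dc_param {K J : Set G} (hK : K ⊆ P.S) (hJ : J ⊆ P.S) :
    ∃ Φ : G → {w : Wg P // (lenSys P).LR (imgJ P K) w ∧ (lenSys P).RR (imgJ P J) w},
      Function.Surjective Φ ∧ ∀ g g', Φ g = Φ g' ↔
        ∃ h ∈ P.parabolic K, ∃ k ∈ P.parabolic J, g' = h * g * k := by
  have hK' := imgJ_subset P K
  have hJ' := imgJ_subset P J
  have hex := fun g : G => (lenSys P).dc_exists hK' hJ' (delta P g)
  choose a ha b hb x e hL hR using hex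
  refine ⟨fun g => ⟨x g, hL g, hR g⟩, ?_, ?_⟩
  · rintro ⟨y, hy1, hy2⟩
    refine ⟨rep P y, ?_⟩
    apply Subtype.ext
    have h1 := e (rep P y)
    rw [delta_rep] at h1
    exact ((lenSys P).dc_unique hK' hJ' (hL _) (hR _) hy1 hy2 (ha _) (hb _) h1).symm
  · intro g g'
    constructor
    · intro h
      have hx : x g = x g' := congrArg Subtype.val h
      set α := a g' * (a g)⁻¹ with hα
      set β := (b g)⁻¹ * b g' with hβ
      have hαK : α ∈ Subgroup.closure (imgJ P K) := mul_mem (ha _) (inv_mem (ha _))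
      have hβJ : β ∈ Subgroup.closure (imgJ P J) := mul_mem (inv_mem (hb _)) (hb _)
      have e1 : delta P g' = α * delta P g * β := by
        rw [e g', e g, hα, hβ, hx]; group
      have e2 : delta P g' = mkW P (rep P α * rep P (delta P g) * rep P β)
          (P.N.mul_mem (P.N.mul_mem (rep_mem P _) (rep_mem P _)) (rep_mem P _)) := by
        rw [← mkW_mul P (P.N.mul_mem (rep_mem P _) (rep_mem P _)) (rep_mem P _),
          ← mkW_mul P (rep_mem P _) (rep_mem P _), mkW_rep, mkW_rep, mkW_rep, e1]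
      obtain ⟨b1, hb1, b2, hb2, e3⟩ := R_of_delta_eq P _ e2
      obtain ⟨b3, hb3, b4, hb4, e4⟩ := R_rep P g
      refine ⟨b1 * rep P α * b3⁻¹, ?_, b4⁻¹ * rep P β * b2, ?_, ?_⟩
      · exact mul_mem (mul_mem (B_le_parabolic K hb1) (rep_mem_parabolic P hK hαK))
          (inv_mem (B_le_parabolic K hb3))
      · exact mul_mem (mul_mem (inv_mem (B_le_parabolic J hb4)) (rep_mem_parabolic P hJ hβJ))
          (B_le_parabolic J hb2)
      · rw [e3]
        conv_rhs => rw [e4]
        group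
    · rintro ⟨h, hh, k, hk, rfl⟩
      apply Subtype.ext
      change x g = x (h * g * k)
      obtain ⟨b1, hb1, e1⟩ := delta_mul_mem_right P hJ' (g := h * g) ((mem_parabolic_iff_delta P hJ).1 hk)
      obtain ⟨a1, ha1, e2⟩ := delta_mul_mem P hK' _ h g rfl ((mem_parabolic_iff_delta P hK).1 hh)
      have e3 := e (h * g * k)
      rw [e1, e2, e g] at e3
      have e4 : x g = ((a1 * a g)⁻¹ * a (h * g * k)) * x (h * g * k) * (b (h * g * k) * (b g * b1)⁻¹) := by
        have : a (h * g * k) * x (h * g * k) * b (h * g * k) = (a1 * a g) * x g * (b g * b1) := by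
          rw [← e3]; group
        calc x g = (a1 * a g)⁻¹ * ((a1 * a g) * x g * (b g * b1)) * (b g * b1)⁻¹ := by group
          _ = _ := by rw [← this]; group
      exact (lenSys P).dc_unique hK' hJ' (hL _) (hR _) (hL _) (hR _)
        (mul_mem (inv_mem (mul_mem ha1 (ha _))) (ha _)) (mul_mem (hb _) (inv_mem (mul_mem (hb _) hb1))) e4

theorem inner_parabolic [Fintype G] {K J : Set G} (hK : K ⊆ P.S) (hJ : J ⊆ P.S) :
    (Nat.card G : ℂ)⁻¹ * ∑ g : G, Cfsg.fixedPointCharacter (P.parabolic K) g *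
      Cfsg.fixedPointCharacter (P.parabolic J) g =
      (Nat.card {w : Wg P // (lenSys P).LR (imgJ P K) w ∧ (lenSys P).RR (imgJ P J) w} : ℂ) := by
  obtain ⟨Φ, h1, h2⟩ := exists_dc_param P hK hJ
  exact Cfsg.Agent.Lib.Helper46DC.inner_fixedPoint _ _ Φ h1 h2

/-- preimage in `S` of a set of generators of `W`. -/
def pre (J : Set (Wg P)) : Set G := {s | ∃ hs : s ∈ P.S, mkW P s (P.subset hs) ∈ J}

theorem pre_subset (J : Set (Wg P)) : pre P J ⊆ P.S := fun _ ⟨hs, _⟩ => hs

theorem imgJ_pre {J : Set (Wg P)} (hJ : J ⊆ SW P) : imgJ P (pre P J) = J := by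
  ext w
  constructor
  · rintro ⟨s, hs, ⟨_, h⟩, rfl⟩
    exact h
  · intro hw
    obtain ⟨s, hs, rfl⟩ := hJ hw
    exact ⟨s, hs, ⟨hs, hw⟩, rfl⟩

/-- the Steinberg class function, indexed by subsets of the generators of `W`. -/
noncomputable def St (Sf : Finset (Wg P)) : G → ℂ := fun g =>
  ∑ J ∈ Sf.powerset, (-1 : ℂ) ^ J.card * Cfsg.fixedPointCharacter (P.parabolic (pre P (J : Set (Wg P)))) g

theorem St_norm [Fintype G] (Sf : Finset (Wg P)) (hSf : (Sf : Set (Wg P)) = SW P) :
    (Nat.card G : ℂ)⁻¹ * ∑ g : G, St P Sf g * St P Sf g = 1 := by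
  classical
  have : Fintype (Wg P) := Fintype.ofFinite _
  have h := (lenSys P).alt_sum_LR (R := ℂ) Sf hSf
  rw [← h]
  unfold St
  simp only [Finset.sum_mul_sum]
  rw [Finset.sum_comm, Finset.mul_sum]
  apply Finset.sum_congr rfl
  intro K hK
  rw [Finset.sum_comm, Finset.mul_sum]
  apply Finset.sum_congr rfl
  intro J hJ
  rw [Finset.mem_powerset] at hK hJ
  have hK' : (K : Set (Wg P)) ⊆ SW P := by rw [← hSf]; exact_mod_cast hK
  have hJ' : (J : Set (Wg P)) ⊆ SW P := by rw [← hSf]; exact_mod_cast hJ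
  have := inner_parabolic P (pre_subset P (K : Set (Wg P))) (pre_subset P (J : Set (Wg P)))
  rw [imgJ_pre P hK', imgJ_pre P hJ'] at this
  rw [← this, Finset.mul_sum, Finset.mul_sum, Finset.mul_sum, Finset.mul_sum]
  apply Finset.sum_congr rfl
  intro g _
  ring

/-! ### restriction to `B` -/

/-- the Bruhat cell of a coset `gB`. -/
noncomputable def dbar (y : G ⧸ P.B) : Wg P := Quotient.liftOn' y (delta P) (by
  intro a b h
  rw [QuotientGroup.leftRel_apply] at h
  have e : b = a * (a⁻¹ * b) := by group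
  rw [e, delta_mul_B P h])

theorem dbar_mk (g : G) : dbar P (g : G ⧸ P.B) = delta P g := rfl

theorem dbar_smul {b : G} (hb : b ∈ P.B) (y : G ⧸ P.B) : dbar P (b • y) = dbar P y := by
  induction y using QuotientGroup.induction_on with
  | H g =>
    change dbar P ((b * g : G) : G ⧸ P.B) = _
    rw [dbar_mk, dbar_mk, delta_B_mul P hb]

/-- the projection `G/B → G/P_J`. -/
def proj (J : Set G) : G ⧸ P.B → G ⧸ P.parabolic J := Subgroup.quotientMapOfLE (B_le_parabolic J)

theorem proj_mk (J : Set G) (g : G) : proj P J (g : G ⧸ P.B) = (g : G ⧸ P.parabolic J) := rfl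

theorem proj_smul (J : Set G) (b : G) (y : G ⧸ P.B) : proj P J (b • y) = b • proj P J y := by
  induction y using QuotientGroup.induction_on with
  | H g => rfl

theorem proj_inj {J : Set G} (hJ : J ⊆ P.S) {y y' : G ⧸ P.B} (hy : (lenSys P).RR (imgJ P J) (dbar P y))
    (hy' : (lenSys P).RR (imgJ P J) (dbar P y')) (h : proj P J y = proj P J y') : y = y' := by
  induction y using QuotientGroup.induction_on with
  | H g =>
  induction y' using QuotientGroup.induction_on with
  | H g' =>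
    rw [proj_mk, proj_mk, QuotientGroup.eq] at h
    rw [dbar_mk] at hy hy'
    have hv := (mem_parabolic_iff_delta P hJ).1 h
    have h1 := (lenSys P).l_add' (imgJ_subset P J) hy hv
    have h2 := delta_mul_of_add' P h1
    rw [mul_inv_cancel_left] at h2
    have h3 := (lenSys P).decomp_unique (imgJ_subset P J) hy hy' hv h2
    rw [QuotientGroup.eq]
    exact (delta_eq_one_iff P).1 h3

theorem proj_surj {J : Set G} (hJ : J ⊆ P.S) (z : G ⧸ P.parabolic J) :
    ∃ y : G ⧸ P.B, (lenSys P).RR (imgJ P J) (dbar P y) ∧ proj P J y = z := by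
  induction z using QuotientGroup.induction_on with
  | H g =>
    obtain ⟨d, v, e, hd, hv⟩ := (lenSys P).exists_decomp (imgJ_subset P J) (delta P g)
    have e2 : delta P g = mkW P (rep P d * rep P v) (P.N.mul_mem (rep_mem P _) (rep_mem P _)) := by
      rw [← mkW_mul P (rep_mem P _) (rep_mem P _), mkW_rep, mkW_rep, e]
    obtain ⟨b1, hb1, b2, hb2, e3⟩ := R_of_delta_eq P _ e2
    refine ⟨((b1 * rep P d : G) : G ⧸ P.B), ?_, ?_⟩
    · rw [dbar_mk, delta_B_mul P hb1, delta_rep]
      exact hd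
    · rw [proj_mk, QuotientGroup.eq]
      have e4 : (b1 * rep P d)⁻¹ * g = rep P v * b2 := by rw [e3]; group
      rw [e4]
      exact mul_mem (rep_mem_parabolic P hJ hv) (B_le_parabolic J hb2)

theorem card_fixed {J : Set G} (hJ : J ⊆ P.S) {b : G} (hb : b ∈ P.B) :
    Nat.card (MulAction.fixedBy (G ⧸ P.parabolic J) b) =
      Nat.card {y : G ⧸ P.B // (lenSys P).RR (imgJ P J) (dbar P y) ∧ b • y = y} := by
  symm
  apply Nat.card_congr
  refine Equiv.ofBijective (fun y => ⟨proj P J y.1, ?_⟩) ⟨?_, ?_⟩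
  · rw [MulAction.mem_fixedBy, ← proj_smul, y.2.2]
  · intro y y' h
    apply Subtype.ext
    exact proj_inj P hJ y.2.1 y'.2.1 (congrArg Subtype.val h)
  · rintro ⟨z, hz⟩
    obtain ⟨y, hy, rfl⟩ := proj_surj P hJ z
    rw [MulAction.mem_fixedBy, ← proj_smul] at hz
    refine ⟨⟨y, hy, ?_⟩, rfl⟩
    exact proj_inj P hJ (by rw [dbar_smul P hb]; exact hy) hy hz

open Classical in
theorem card_fiberwise {α β : Type*} [Fintype α] [Fintype β] (d : α → β) (p : β → Prop) (q : α → Prop) :
    Nat.card {a : α // p (d a) ∧ q a} = ∑ b : β, if p b then Nat.card {a : α // d a = b ∧ q a} else 0 := by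
  rw [Nat.card_eq_fintype_card, Fintype.card_subtype,
    Finset.card_eq_sum_card_fiberwise (f := d) (t := Finset.univ) (fun _ _ => Finset.mem_coe.2 (Finset.mem_univ _))]
  apply Finset.sum_congr rfl
  intro b _
  split_ifs with h
  · rw [Nat.card_eq_fintype_card, Fintype.card_subtype]
    congr 1
    ext a
    simp only [Finset.mem_filter, Finset.mem_univ, true_and]
    constructor
    · rintro ⟨⟨_, h2⟩, h3⟩
      exact ⟨h3, h2⟩
    · rintro ⟨h1, h2⟩
      exact ⟨⟨h1 ▸ h, h2⟩, h1⟩
  · rw [Finset.card_eq_zero, Finset.filter_eq_empty_iff]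
    intro a ha h1
    rw [Finset.mem_filter] at ha
    exact h (h1 ▸ ha.2.1)

/-- the alternating sum collapses to the big cell. -/
theorem St_eq_big_cell [Finite G] (Sf : Finset (Wg P)) (hSf : (Sf : Set (Wg P)) = SW P) {w0 : Wg P}
    (h0 : (lenSys P).IsTopR w0) (hu : ∀ w, (lenSys P).IsTopR w → w = w0) {b : G} (hb : b ∈ P.B) :
    St P Sf b = (Nat.card {y : G ⧸ P.B // dbar P y = w0 ∧ b • y = y} : ℂ) := by
  classical
  have : Fintype (Wg P) := Fintype.ofFinite _
  have : Fintype (G ⧸ P.B) := Fintype.ofFinite _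
  rw [← (lenSys P).alt_sum_R (R := ℂ) Sf hSf
    (fun w => (Nat.card {y : G ⧸ P.B // dbar P y = w ∧ b • y = y} : ℂ)) h0 hu]
  unfold St
  apply Finset.sum_congr rfl
  intro J hJ
  rw [Finset.mem_powerset] at hJ
  have hJ' : (J : Set (Wg P)) ⊆ SW P := by rw [← hSf]; exact_mod_cast hJ
  congr 1
  unfold Cfsg.fixedPointCharacter
  rw [card_fixed P (pre_subset P _) hb, imgJ_pre P hJ', card_fiberwise]
  push_cast
  rfl

theorem prefix_mem : ∀ (k : ℕ) (x y β : G), lenW P (delta P x) = k →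
    lenW P (delta P x * delta P y) = lenW P (delta P x) + lenW P (delta P y) → β ∈ P.B →
    (x * y)⁻¹ * β * (x * y) ∈ P.B → x⁻¹ * β * x ∈ P.B := by
  intro k
  induction k with
  | zero =>
    intro x y β hk _ hβ _
    have h1 : delta P x = 1 := ((lenSys P).l_eq_zero _).1 hk
    have hx := (delta_eq_one_iff P).1 h1
    exact mul_mem (mul_mem (inv_mem hx) hβ) hx
  | succ k ih =>
    intro x y β hk h hβ hc
    have h1 : delta P x ≠ 1 := by
      intro h1
      rw [h1] at hk
      have := (lenSys P).l_one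
      simp only [lenSys_l] at this
      omega
    obtain ⟨σ, hσ, h2⟩ := (lenSys P).desc _ h1
    simp only [lenSys_l, lenSys_S] at h2 hσ
    obtain ⟨y1, x', rfl, hy1, hx'⟩ := exists_split P (x := x) hσ
    set w := delta P (y1 * x') with hw
    have c1 := (lenSys P).l_mul_le (σ * w) (delta P y)
    have c2 := (lenSys P).step σ hσ (σ * w * delta P y)
    simp only [lenSys_l] at c1 c2
    have e1 : σ * (σ * w * delta P y) = w * delta P y := by
      rw [mul_assoc, (lenSys P).mul_mul_cancel hσ]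
    rw [e1] at c2
    have hadd : lenW P (delta P x' * delta P y) = lenW P (delta P x') + lenW P (delta P y) := by
      rw [hx']; omega
    have hg' : delta P (x' * y) = σ * w * delta P y := by
      rw [delta_mul_of_add' P hadd, hx']
    set γ := y1⁻¹ * β * y1 with hγ
    have hσinv : σ⁻¹ = σ := (lenSys P).inv_eq hσ
    have hγB : γ ∈ P.B := by
      rw [← delta_eq_one_iff P]
      have hy1' : delta P y1⁻¹ ∈ SW P := by rw [delta_inv, hy1, hσinv]; exact hσ
      have d1 : delta P γ = 1 ∨ delta P γ = σ := by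
        rw [hγ, mul_assoc]
        rcases delta_S_mul P (x := y1⁻¹) (g := β * y1) hy1' with h3 | h3
        · left
          rw [h3, delta_inv, delta_B_mul P hβ, inv_mul_cancel]
        · right
          rw [h3, delta_B_mul P hβ, hy1]
      rcases d1 with d1 | d1
      · exact d1
      · exfalso
        have d2 : delta P (γ * (x' * y)) = σ * (σ * w * delta P y) := by
          rw [delta_S_mul_up P (by rw [d1]; exact hσ) (by rw [d1, hg', e1]; omega), d1, hg']
        have d3 : γ * (x' * y) = (x' * y) * ((y1 * x' * y)⁻¹ * β * (y1 * x' * y)) := by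
          rw [hγ]; group
        rw [d3, delta_mul_B P hc, hg'] at d2
        have d4 : σ = 1 := by
          have := mul_right_cancel (a := 1) (b := σ * w * delta P y) (c := σ) (by rw [one_mul]; exact d2)
          exact this.symm
        have d5 := (lenSys P).l_S hσ
        rw [d4, (lenSys P).l_one] at d5
        omega
    have hc' : (x' * y)⁻¹ * γ * (x' * y) ∈ P.B := by
      have : (x' * y)⁻¹ * γ * (x' * y) = (y1 * x' * y)⁻¹ * β * (y1 * x' * y) := by
        rw [hγ]; group
      rw [this]; exact hc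
    have := ih x' y γ (by rw [hx']; omega) hadd hγB hc'
    have e5 : (y1 * x')⁻¹ * β * (y1 * x') = x'⁻¹ * γ * x' := by rw [hγ]; group
    rw [e5]; exact this

/-- the big cell as a coset space of `B`. -/
theorem card_big_cell {n0 : G} (hn0 : n0 ∈ P.N) (Q : Subgroup P.B)
    (hQ : ∀ β : P.B, β ∈ Q ↔ n0⁻¹ * β.1 * n0 ∈ P.B) (b : P.B) :
    Nat.card {y : G ⧸ P.B // dbar P y = mkW P n0 hn0 ∧ b.1 • y = y} =
      Nat.card (MulAction.fixedBy (P.B ⧸ Q) b) := by
  symm
  let ψ : P.B ⧸ Q → G ⧸ P.B := fun z => Quotient.liftOn' z (fun β => ((β.1 * n0 : G) : G ⧸ P.B)) (by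
    intro β β' h
    rw [QuotientGroup.leftRel_apply, hQ] at h
    rw [QuotientGroup.eq]
    have e : (β.1 * n0)⁻¹ * (β'.1 * n0) = n0⁻¹ * (β⁻¹ * β' : P.B).1 * n0 := by
      simp only [Subgroup.coe_mul, Subgroup.coe_inv]; group
    rw [e]; exact h)
  have hψ : ∀ β : P.B, ψ (β : P.B ⧸ Q) = ((β.1 * n0 : G) : G ⧸ P.B) := fun _ => rfl
  have hinj : Function.Injective ψ := by
    intro z z' h
    induction z using QuotientGroup.induction_on with
    | H β =>
    induction z' using QuotientGroup.induction_on with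
    | H β' =>
      rw [hψ, hψ, QuotientGroup.eq] at h
      rw [QuotientGroup.eq, hQ]
      have e : (β.1 * n0)⁻¹ * (β'.1 * n0) = n0⁻¹ * (β⁻¹ * β' : P.B).1 * n0 := by
        simp only [Subgroup.coe_mul, Subgroup.coe_inv]; group
      rw [← e]; exact h
  have hsm : ∀ z, ψ (b • z) = b.1 • ψ z := by
    intro z
    induction z using QuotientGroup.induction_on with
    | H β =>
      change ψ ((b * β : P.B) : P.B ⧸ Q) = _
      rw [hψ, hψ]
      change _ = ((b.1 * (β.1 * n0) : G) : G ⧸ P.B)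
      rw [Subgroup.coe_mul, mul_assoc]
  apply Nat.card_congr
  refine Equiv.ofBijective (fun z => ⟨ψ z.1, ?_, ?_⟩) ⟨?_, ?_⟩
  · obtain ⟨z, hz⟩ := z
    induction z using QuotientGroup.induction_on with
    | H β =>
      rw [hψ, dbar_mk, delta_B_mul P β.2, delta_of_mem_N P hn0]
  · rw [← hsm, z.2]
  · intro z z' h
    apply Subtype.ext
    exact hinj (congrArg Subtype.val h)
  · rintro ⟨y, hy1, hy2⟩
    induction y using QuotientGroup.induction_on with
    | H g =>
      rw [dbar_mk] at hy1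
      obtain ⟨b1, hb1, b2, hb2, e⟩ := R_of_delta_eq P hn0 hy1
      have e1 : ((g : G) : G ⧸ P.B) = ψ ((⟨b1, hb1⟩ : P.B) : P.B ⧸ Q) := by
        rw [hψ, QuotientGroup.eq, e]
        have : (b1 * n0 * b2)⁻¹ * (b1 * n0) = b2⁻¹ := by group
        rw [this]; exact inv_mem hb2
      refine ⟨⟨((⟨b1, hb1⟩ : P.B) : P.B ⧸ Q), ?_⟩, ?_⟩
      · rw [MulAction.mem_fixedBy]
        apply hinj
        rw [hsm, ← e1]
        exact hy2
      · apply Subtype.ext
        exact e1.symm

/-- **Restriction of the Steinberg character to `B`.** -/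
theorem St_restrict [Finite G] (Sf : Finset (Wg P)) (hSf : (Sf : Set (Wg P)) = SW P) (Q : Subgroup P.B)
    {m0 : G} (hm0 : m0 ∈ P.N) (hQ : ∀ β : P.B, β ∈ Q ↔ m0⁻¹ * β.1 * m0 ∈ P.B)
    (hQT : ∀ β ∈ Q, β.1 ∈ P.N) (b : P.B) :
    St P Sf b.1 = Cfsg.fixedPointCharacter Q b := by
  obtain ⟨w0, hL, hR, _, huR⟩ := (lenSys P).exists_top
  rw [St_eq_big_cell P Sf hSf hR huR b.2]
  unfold Cfsg.fixedPointCharacter
  congr 1
  have e0 : w0 = mkW P (rep P w0) (rep_mem P w0) := (mkW_rep P w0).symm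
  rw [e0]
  apply card_big_cell P (rep_mem P w0) Q
  intro β
  constructor
  · intro h
    exact (conj_mem_T' (rep_mem P w0) ⟨β.2, hQT β h⟩).1
  · intro h
    rw [hQ]
    have h1 := (lenSys P).top_add hL _ (mkW P m0 hm0) rfl
    simp only [lenSys_l] at h1
    have hy : m0⁻¹ * rep P w0 ∈ P.N := mul_mem (inv_mem hm0) (rep_mem P w0)
    have e1 : delta P m0 = mkW P m0 hm0 := delta_of_mem_N P hm0
    have e2 : delta P (m0⁻¹ * rep P w0) = (mkW P m0 hm0)⁻¹ * w0 := by
      rw [delta_of_mem_N P hy, mkW_inv, ← mkW_mul P (inv_mem hm0) (rep_mem P w0), mkW_rep]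
    apply prefix_mem P _ m0 (m0⁻¹ * rep P w0) β.1 rfl _ β.2
    · rw [mul_inv_cancel_left]; exact h
    · rw [e1, e2, mul_inv_cancel_left]; exact h1

end Cfsg.Agent.Lib.Helper46BNSt
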