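import Cfsg.Agent.Lib.Helper46SL2
import Cfsg.Prelude.Def_Characters
import Cfsg.Prelude.Def_ParabolicCharacters

set_option autoImplicit false
set_option linter.unusedSimpArgs false

namespace Cfsg.Agent.Lib.Helper46Borel

open Cfsg.Agent.Lib.Helper46SL2

variable {F : Type*} [Field F]

local notation "SL2" => Matrix.SpecialLinearGroup (Fin 2)

/-- The Borel subgroup, exactly in the form used by the statements. -/
abbrev B (F : Type*) [Field F] : Subgroup (SL2 F) :=
  (Cfsg.upperTriangularGL 2 F).comap Matrix.SpecialLinearGroup.toGL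

theorem mem_B {g : SL2 F} : g ∈ B F ↔ g 1 0 = 0 := by
  change (g : Matrix (Fin 2) (Fin 2) F).BlockTriangular id ↔ _
  constructor
  · intro h
    exact h (by decide : (id (0 : Fin 2)) < id 1)
  · intro h i j hij
    fin_cases i <;> fin_cases j
    · exact absurd hij (by decide)
    · exact absurd hij (by decide)
    · exact h
    · exact absurd hij (by decide)

theorem extendByZero_apply_mem {G : Type*} [Group G] (H : Subgroup G) (θ : H → ℂ) (y : G) (hy : y ∈ H) :
    Cfsg.extendByZero H θ y = θ ⟨y, hy⟩ :=
  Subtype.val_injective.extend_apply θ 0 ⟨y, hy⟩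

theorem extendByZero_apply_not_mem {G : Type*} [Group G] (H : Subgroup G) (θ : H → ℂ) (y : G) (hy : y ∉ H) :
    Cfsg.extendByZero H θ y = 0 := by
  apply Function.extend_apply'
  rintro ⟨a, rfl⟩
  exact hy a.2

/-- Lower unitriangular elements. -/
def L (c : F) : SL2 F := mk2 1 0 c 1 (by ring)

/-- The Weyl element. -/
def w : SL2 F := mk2 0 (-1) 1 0 (by ring)

/-- Coset representatives of the Borel subgroup. -/
def rep : Option F → SL2 F
  | some c => L c
  | none => w

theorem rep_bijective : Function.Bijective (fun p : Option F × B F => rep p.1 * (p.2 : SL2 F)) := by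
  have hb00 : ∀ b : B F, (b : SL2 F) 0 0 ≠ 0 := by
    intro b h
    have := det2 (b : SL2 F)
    rw [h, mem_B.mp b.2] at this
    simp at this
  constructor
  · rintro ⟨r, b⟩ ⟨r', b'⟩ h
    simp only at h
    have h00 := congrArg (fun A : SL2 F => A 0 0) h
    have h10 := congrArg (fun A : SL2 F => A 1 0) h
    simp only [mul_00, mul_10, mem_B.mp b.2, mem_B.mp b'.2] at h00 h10
    have hr : r = r' := by
      cases r with
      | none =>
        cases r' with
        | none => rfl
        | some c' =>
          simp only [rep, w, L, mk2_00, mk2_01] at h00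
          exact absurd (by linear_combination (-1 : F) * h00) (hb00 b')
      | some c =>
        cases r' with
        | none =>
          simp only [rep, w, L, mk2_00, mk2_01] at h00
          exact absurd (by linear_combination h00) (hb00 b)
        | some c' =>
          simp only [rep, L, mk2_00, mk2_01, mk2_10, mk2_11] at h00 h10
          have e : (b : SL2 F) 0 0 = (b' : SL2 F) 0 0 := by linear_combination h00
          rw [← e] at h10
          have : c = c' := by
            apply mul_right_cancel₀ (hb00 b)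
            linear_combination h10
          rw [this]
    subst hr
    have := mul_left_cancel h
    rw [Subtype.ext this]
  · intro x
    by_cases h0 : x 0 0 = 0
    · refine ⟨(none, ⟨w⁻¹ * x, ?_⟩), ?_⟩
      · rw [mem_B, mul_10, inv_10, inv_11]
        simp [w, h0]
      · simp [rep]
    · refine ⟨(some (x 1 0 / x 0 0), ⟨(L (x 1 0 / x 0 0))⁻¹ * x, ?_⟩), ?_⟩
      · rw [mem_B, mul_10, inv_10, inv_11]
        simp only [L, mk2_10, mk2_00]
        field_simp
        ring
      · simp [rep]

theorem sum_eq_sum_rep [Fintype F] [DecidableEq F] [Fintype (B F)] (f : SL2 F → ℂ) :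
    ∑ x : SL2 F, f x = ∑ r : Option F, ∑ b : B F, f (rep r * (b : SL2 F)) := by
  rw [← Fintype.sum_prod_type']
  exact (Fintype.sum_bijective _ rep_bijective _ _ (fun _ => rfl)).symm

/-- The extension by zero of `b ↦ α (b 0 0)`. -/
theorem ext_conj (α : F → ℂ) (y : SL2 F) (b : B F) :
    Cfsg.extendByZero (B F) (fun b => α ((b : SL2 F) 0 0)) ((b : SL2 F)⁻¹ * y * (b : SL2 F)) =
      Cfsg.extendByZero (B F) (fun b => α ((b : SL2 F) 0 0)) y := by
  have hb := mem_B.mp b.2
  have hdet := det2 (b : SL2 F)
  rw [hb] at hdet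
  by_cases hy : y ∈ B F
  · have hy' : (b : SL2 F)⁻¹ * y * (b : SL2 F) ∈ B F := mul_mem (mul_mem (inv_mem b.2) hy) b.2
    rw [extendByZero_apply_mem _ _ _ hy, extendByZero_apply_mem _ _ _ hy']
    congr 1
    simp only [mul_00, mul_01, inv_00, inv_01, hb, mem_B.mp hy]
    linear_combination y 0 0 * hdet
  · have hy' : (b : SL2 F)⁻¹ * y * (b : SL2 F) ∉ B F := by
      intro h
      apply hy
      have := mul_mem (mul_mem b.2 h) (inv_mem b.2)
      have e : (b : SL2 F) * ((b : SL2 F)⁻¹ * y * (b : SL2 F)) * (b : SL2 F)⁻¹ = y := by group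
      rwa [e] at this
    rw [extendByZero_apply_not_mem _ _ _ hy, extendByZero_apply_not_mem _ _ _ hy']

theorem indFun_eq_sum_rep [Fintype F] [DecidableEq F] (α : F → ℂ) (g : SL2 F) :
    Cfsg.indFun (B F) (fun b => α ((b : SL2 F) 0 0)) g =
      ∑ r : Option F, Cfsg.extendByZero (B F) (fun b => α ((b : SL2 F) 0 0)) ((rep r)⁻¹ * g * rep r) := by
  let _ : Fintype (B F) := Fintype.ofFinite _
  rw [Cfsg.indFun, sum_eq_sum_rep]
  have h1 : ∀ (r : Option F) (b : B F),
      Cfsg.extendByZero (B F) (fun b => α ((b : SL2 F) 0 0)) ((rep r * (b : SL2 F))⁻¹ * g * (rep r * (b : SL2 F))) =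
        Cfsg.extendByZero (B F) (fun b => α ((b : SL2 F) 0 0)) ((rep r)⁻¹ * g * rep r) := by
    intro r b
    rw [← ext_conj α ((rep r)⁻¹ * g * rep r) b]
    congr 1
    group
  simp_rw [h1]
  simp only [Finset.sum_const, Finset.card_univ, nsmul_eq_mul]
  rw [← Finset.mul_sum, ← mul_assoc, Nat.card_eq_fintype_card, inv_mul_cancel₀, one_mul]
  exact_mod_cast Fintype.card_ne_zero

/-- Explicit formula for the induced function. -/
theorem indFun_formula [Fintype F] [DecidableEq F] (α : F → ℂ) (g : SL2 F) :
    Cfsg.indFun (B F) (fun b => α ((b : SL2 F) 0 0)) g =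
      (∑ c : F, if g 1 0 + (g 1 1 - g 0 0) * c - g 0 1 * c ^ 2 = 0 then α (g 0 0 + g 0 1 * c) else 0) +
        (if g 0 1 = 0 then α (g 1 1) else 0) := by
  rw [indFun_eq_sum_rep, Fintype.sum_option, add_comm]
  congr 1
  · apply Finset.sum_congr rfl
    intro c _
    have h10 : ((rep (some c))⁻¹ * g * rep (some c)) 1 0 = g 1 0 + (g 1 1 - g 0 0) * c - g 0 1 * c ^ 2 := by
      simp only [rep, L, mul_00, mul_01, mul_10, mul_11, inv_00, inv_01, inv_10, inv_11, mk2_00, mk2_01,
        mk2_10, mk2_11]
      ring
    have h00 : ((rep (some c))⁻¹ * g * rep (some c)) 0 0 = g 0 0 + g 0 1 * c := by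
      simp only [rep, L, mul_00, mul_01, mul_10, mul_11, inv_00, inv_01, inv_10, inv_11, mk2_00, mk2_01,
        mk2_10, mk2_11]
      ring
    split_ifs with h
    · rw [extendByZero_apply_mem _ _ _ (mem_B.mpr (h10.trans h))]
      simp only [h00]
    · rw [extendByZero_apply_not_mem]
      rw [mem_B, h10]
      exact h
  · have h10 : ((rep (none : Option F))⁻¹ * g * rep none : SL2 F) 1 0 = - g 0 1 := by
      simp only [rep, w, mul_00, mul_01, mul_10, mul_11, inv_00, inv_01, inv_10, inv_11, mk2_00, mk2_01,
        mk2_10, mk2_11]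
      ring
    have h00 : ((rep (none : Option F))⁻¹ * g * rep none : SL2 F) 0 0 = g 1 1 := by
      simp only [rep, w, mul_00, mul_01, mul_10, mul_11, inv_00, inv_01, inv_10, inv_11, mk2_00, mk2_01,
        mk2_10, mk2_11]
      ring
    split_ifs with h
    · rw [extendByZero_apply_mem _ _ _ (mem_B.mpr (by rw [h10, h, neg_zero]))]
      simp only [h00]
    · rw [extendByZero_apply_not_mem]
      rw [mem_B, h10, neg_eq_zero]
      exact h

end Cfsg.Agent.Lib.Helper46Borel
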