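import Cfsg.Agent.Lib.Helper46BNApp
import Cfsg.Prelude.Def_ParabolicCharacters
import Cfsg.Agent.Lib.Helper23Grp
import Cfsg.Agent.S0165

set_option autoImplicit false

/-! The Steinberg character of a Chevalley group, from the BN-pair theory.  All facts on the Chevalley group
that are used are collected in the structure `Facts`. -/

namespace Cfsg.Agent.Lib.Helper46ChevSt

open Cfsg Cfsg.Lie Cfsg.Lie.ChevalleyDatum
open Cfsg.Agent.Lib.Helper8BN Cfsg.Agent.Lib.Helper46Len Cfsg.Agent.Lib.Helper46BN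
open Cfsg.Agent.Lib.Helper46BNSt Cfsg.Agent.Lib.Helper46BNIrr Cfsg.Agent.Lib.Helper46BNApp
open scoped MatrixGroups

/-- a BN-pair with prescribed (definitional) `B`, `N`, `S`. -/
def copyBN {G : Type*} [Group G] (P : BNPair G) (B N : Subgroup G) (S : Set G) (hB : B = P.B) (hN : N = P.N)
    (hS : S = P.S) : BNPair G where
  B := B
  N := N
  S := S
  sup_eq_top := by subst hB hN hS; exact P.sup_eq_top
  conj_mem := by subst hB hN hS; exact P.conj_mem
  subset := by subst hB hN hS; exact P.subset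
  sq_mem := by subst hB hN hS; exact P.sq_mem
  inj := by subst hB hN hS; exact P.inj
  closure_sup := by subst hB hN hS; exact P.closure_sup
  mul_mem_union := by subst hB hN hS; exact P.mul_mem_union
  conj_ne := by subst hB hN hS; exact P.conj_ne

/-- the facts on Chevalley groups that we use. -/
structure Facts (D : ChevalleyDatum) (F : Type*) [Field F] : Prop where
  bn : ∃ P : Cfsg.BNPair ↥(D.group F),
      P.B = (D.borelSubgroup F).subgroupOf (D.group F) ∧ P.N = (D.monomialSubgroup F).subgroupOf (D.group F) ∧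
      P.S = {n : ↥(D.group F) | ∃ i < D.rank, ((n : GL D.Idx F) : Matrix D.Idx D.Idx F) = D.nMat F (D.simple i) 1}
  BG : D.borelSubgroup F ≤ D.group F
  NG : D.monomialSubgroup F ≤ D.group F
  nex : ∀ i < D.rank, ∃ n ∈ D.monomialSubgroup F, (n : Matrix D.Idx D.Idx F) = D.nMat F (D.simple i) 1
  ninj : ∀ i < D.rank, ∀ j < D.rank, D.nMat F (D.simple i) 1 = D.nMat F (D.simple j) 1 → i = j
  n0 : ∃ n ∈ D.monomialSubgroup F, (D.posUnipotent F).map (MulAut.conj n).toMonoidHom = D.negUnipotent F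
  BVH : D.borelSubgroup F ⊓ (D.negUnipotent F ⊔ D.diagonalSubgroup F) = D.diagonalSubgroup F
  HN : ((D.diagonalSubgroup F).subgroupOf (D.monomialSubgroup F)).Normal
  HU : D.diagonalSubgroup F ≤ Subgroup.normalizer (D.posUnipotent F : Set (GL D.Idx F))
  UH : D.posUnipotent F ⊓ D.diagonalSubgroup F = ⊥

variable {D : ChevalleyDatum} {F : Type*} [Field F] (hF : Facts D F)

/-- the BN-pair of the Chevalley group. -/
noncomputable def bnp : BNPair ↥(D.group F) :=
  copyBN hF.bn.choose ((D.borelSubgroup F).subgroupOf (D.group F)) ((D.monomialSubgroup F).subgroupOf (D.group F))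
    {n : ↥(D.group F) | ∃ i < D.rank, ((n : GL D.Idx F) : Matrix D.Idx D.Idx F) = D.nMat F (D.simple i) 1}
    hF.bn.choose_spec.1.symm hF.bn.choose_spec.2.1.symm hF.bn.choose_spec.2.2.symm

theorem bnp_B : (bnp hF).B = (D.borelSubgroup F).subgroupOf (D.group F) := rfl
theorem bnp_N : (bnp hF).N = (D.monomialSubgroup F).subgroupOf (D.group F) := rfl
theorem bnp_S : (bnp hF).S =
    {n : ↥(D.group F) | ∃ i < D.rank, ((n : GL D.Idx F) : Matrix D.Idx D.Idx F) = D.nMat F (D.simple i) 1} := rfl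

open Classical in
/-- the fundamental reflections representatives. -/
noncomputable def nu (i : ℕ) : ↥(D.group F) :=
  if h : i < D.rank then ⟨(hF.nex i h).choose, hF.NG (hF.nex i h).choose_spec.1⟩ else 1

theorem coe_nu {i : ℕ} (h : i < D.rank) :
    ((nu hF i : GL D.Idx F) : Matrix D.Idx D.Idx F) = D.nMat F (D.simple i) 1 := by
  unfold nu
  rw [dif_pos h]
  exact (hF.nex i h).choose_spec.2

theorem parabolic_eq {J : Finset ℕ} (hJ : J ⊆ Finset.range D.rank) :
    (bnp hF).parabolic {s | ∃ j ∈ J, s = nu hF j} = D.parabolicIn F J := by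
  have hcl : Subgroup.closure {g : GL D.Idx F | ∃ j ∈ (↑J : Set ℕ), j < D.rank ∧
      (g : Matrix D.Idx D.Idx F) = D.nMat F (D.simple j) 1} ≤ D.group F := by
    rw [Subgroup.closure_le]
    rintro g ⟨j, _, hj, e⟩
    have : g = (nu hF j : GL D.Idx F) := Units.ext (by rw [e, coe_nu hF hj])
    rw [this]
    exact (nu hF j).2
  apply Subgroup.map_injective (D.group F).subtype_injective
  unfold BNPair.parabolic ChevalleyDatum.parabolicIn ChevalleyDatum.parabolicSubgroup
  rw [Subgroup.map_subgroupOf_eq_of_le (sup_le hF.BG hcl), Subgroup.map_sup, bnp_B,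
    Subgroup.map_subgroupOf_eq_of_le hF.BG, MonoidHom.map_closure]
  congr 2
  ext g
  constructor
  · rintro ⟨s, ⟨j, hj, rfl⟩, rfl⟩
    exact ⟨j, hj, Finset.mem_range.1 (hJ hj), coe_nu hF (Finset.mem_range.1 (hJ hj))⟩
  · rintro ⟨j, hj, hjr, e⟩
    exact ⟨nu hF j, ⟨j, hj, rfl⟩, Units.ext (by rw [e]; exact coe_nu hF hjr)⟩

theorem steinberg_eq : ∃ Sf : Finset (Wg (bnp hF)), (Sf : Set (Wg (bnp hF))) = SW (bnp hF) ∧
    D.steinbergCharacter F = St (bnp hF) Sf := by
  obtain ⟨Sf, h1, h2⟩ := St_reindex (bnp hF) D.rank (nu hF)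
    (fun i hi => ⟨i, hi, coe_nu hF hi⟩)
    (by
      rintro s ⟨i, hi, e⟩
      exact ⟨i, hi, Subtype.ext (Units.ext (by rw [e, coe_nu hF hi]))⟩)
    (by
      intro i hi j hj h
      apply hF.ninj i hi j hj
      rw [← coe_nu hF hi, ← coe_nu hF hj, h])
  refine ⟨Sf, h1, ?_⟩
  funext g
  rw [h2]
  unfold ChevalleyDatum.steinbergCharacter
  apply Finset.sum_congr rfl
  intro J hJ
  rw [parabolic_eq hF (Finset.mem_powerset.1 hJ)]

include hF in
theorem irr [Fintype F] : Cfsg.IsIrrCharacter ↥(D.group F) (D.steinbergCharacter F) := by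
  have : Fintype ↥(D.group F) := Fintype.ofFinite _
  obtain ⟨Sf, h1, h2⟩ := steinberg_eq hF
  rw [h2]
  exact St_irr _ Sf h1

include hF in
theorem conj_H {n : GL D.Idx F} (hn : n ∈ D.monomialSubgroup F) {h : GL D.Idx F}
    (hh : h ∈ D.diagonalSubgroup F) : n * h * n⁻¹ ∈ D.diagonalSubgroup F := by
  have hHN : D.diagonalSubgroup F ≤ D.monomialSubgroup F := le_sup_left
  have := hF.HN.conj_mem ⟨h, hHN hh⟩ (by rw [Subgroup.mem_subgroupOf]; exact hh) ⟨n, hn⟩
  rw [Subgroup.mem_subgroupOf] at this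
  exact this

include hF in
theorem restrict [Fintype F] (b : ↥((D.borelSubgroup F).subgroupOf (D.group F))) :
    D.steinbergCharacter F ((((D.borelSubgroup F).subgroupOf (D.group F)).subtype) b) =
      Cfsg.fixedPointCharacter (((D.diagonalSubgroup F).subgroupOf (D.group F)).subgroupOf
        ((D.borelSubgroup F).subgroupOf (D.group F))) b := by
  obtain ⟨Sf, h1, h2⟩ := steinberg_eq hF
  obtain ⟨n, hn, hUV⟩ := hF.n0
  rw [h2]
  have hHN : D.diagonalSubgroup F ≤ D.monomialSubgroup F := le_sup_left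
  have hHB : D.diagonalSubgroup F ≤ D.borelSubgroup F := le_sup_right
  refine St_restrict (bnp hF) Sf h1 (((D.diagonalSubgroup F).subgroupOf (D.group F)).subgroupOf
        ((D.borelSubgroup F).subgroupOf (D.group F))) (m0 := ⟨n, hF.NG hn⟩) ?_ ?_ ?_ b
  · change _ ∈ (D.monomialSubgroup F).subgroupOf (D.group F)
    rw [Subgroup.mem_subgroupOf]; exact hn
  · intro β
    have hβ : (β.1.1 : GL D.Idx F) ∈ D.borelSubgroup F := β.2
    change (β.1.1 : GL D.Idx F) ∈ D.diagonalSubgroup F ↔ n⁻¹ * β.1.1 * n ∈ D.borelSubgroup F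
    constructor
    · intro h
      have := conj_H hF (inv_mem hn) h
      rw [inv_inv] at this
      exact hHB this
    · intro h
      rw [← hF.BVH]
      refine ⟨hβ, ?_⟩
      have h3 : (β.1.1 : GL D.Idx F) ∈ (D.borelSubgroup F).map (MulAut.conj n).toMonoidHom := by
        refine ⟨_, h, ?_⟩
        simp only [MulEquiv.coe_toMonoidHom, MulAut.conj_apply]
        group
      unfold ChevalleyDatum.borelSubgroup at h3
      rw [Subgroup.map_sup, hUV] at h3
      have h4 : (D.diagonalSubgroup F).map (MulAut.conj n).toMonoidHom ≤ D.diagonalSubgroup F := by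
        rintro _ ⟨x, hx, rfl⟩
        simp only [MulEquiv.coe_toMonoidHom, MulAut.conj_apply]
        exact conj_H hF hn hx
      exact (sup_le_sup_left h4 (D.negUnipotent F)) h3
  · intro β hβ
    exact hHN hβ

include hF in
theorem mem_borel_iff {g : GL D.Idx F} : g ∈ D.borelSubgroup F ↔
    ∃ u ∈ D.posUnipotent F, ∃ h ∈ D.diagonalSubgroup F, g = u * h :=
  Cfsg.Agent.Lib.Helper23Grp.mem_sup_of_normalizes hF.HU

include hF in
/-- `|B : H| = |U|`. -/
theorem card_quot : Nat.card (↥((D.borelSubgroup F).subgroupOf (D.group F)) ⧸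
      (((D.diagonalSubgroup F).subgroupOf (D.group F)).subgroupOf ((D.borelSubgroup F).subgroupOf (D.group F)))) =
    Nat.card (D.posUnipotent F) := by
  have hUB : D.posUnipotent F ≤ D.borelSubgroup F := le_sup_left
  symm
  apply Nat.card_congr
  refine Equiv.ofBijective (fun u => QuotientGroup.mk ⟨⟨u.1, hF.BG (hUB u.2)⟩, hUB u.2⟩) ⟨?_, ?_⟩
  · intro u u' h
    rw [QuotientGroup.eq] at h
    have h1 : u.1⁻¹ * u'.1 ∈ D.diagonalSubgroup F := h
    have h2 : u.1⁻¹ * u'.1 ∈ D.posUnipotent F ⊓ D.diagonalSubgroup F := ⟨(D.posUnipotent F).mul_mem ((D.posUnipotent F).inv_mem u.2) u'.2, h1⟩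
    rw [hF.UH, Subgroup.mem_bot, inv_mul_eq_one] at h2
    exact Subtype.ext h2
  · intro z
    induction z using QuotientGroup.induction_on with
    | H β =>
      obtain ⟨u, hu, h, hh, e⟩ := (mem_borel_iff hF).1 (show (β.1.1 : GL D.Idx F) ∈ D.borelSubgroup F from β.2)
      refine ⟨⟨u, hu⟩, ?_⟩
      rw [QuotientGroup.eq]
      change u⁻¹ * β.1.1 ∈ D.diagonalSubgroup F
      rw [e, inv_mul_cancel_left]
      exact hh

include hF in
theorem degree [Fintype F] : D.steinbergCharacter F 1 = (Nat.card (D.posUnipotent F) : ℂ) := by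
  have h := restrict hF (1 : ↥((D.borelSubgroup F).subgroupOf (D.group F)))
  rw [map_one] at h
  rw [h, ← card_quot hF]
  unfold Cfsg.fixedPointCharacter
  rw [MulAction.fixedBy_one_eq_univ]
  congr 1
  exact Nat.card_congr (Equiv.Set.univ _)

include hF in
theorem card_borel [Fintype F] : Nat.card ↥((D.borelSubgroup F).subgroupOf (D.group F)) =
    Nat.card (D.posUnipotent F) * Nat.card (D.diagonalSubgroup F) := by
  have hHB : D.diagonalSubgroup F ≤ D.borelSubgroup F := le_sup_right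
  rw [Subgroup.card_eq_card_quotient_mul_card_subgroup
    (((D.diagonalSubgroup F).subgroupOf (D.group F)).subgroupOf ((D.borelSubgroup F).subgroupOf (D.group F))),
    card_quot hF]
  congr 1
  have h1 : (D.diagonalSubgroup F).subgroupOf (D.group F) ≤ (D.borelSubgroup F).subgroupOf (D.group F) :=
    fun x hx => hHB hx
  rw [Nat.card_congr (Subgroup.subgroupOfEquivOfLe h1).toEquiv,
    Nat.card_congr (Subgroup.subgroupOfEquivOfLe (hHB.trans hF.BG)).toEquiv]

include hF in
theorem index_modEq [Fintype F] (p : ℕ) [Fact p.Prime] (hU : IsPGroup p (D.posUnipotent F)) :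
    Nat.card (↥(D.group F) ⧸ (D.borelSubgroup F).subgroupOf (D.group F)) ≡ 1 [MOD p] := by
  have hUB : D.posUnipotent F ≤ D.borelSubgroup F := le_sup_left
  have hHB : D.diagonalSubgroup F ≤ D.borelSubgroup F := le_sup_right
  have hHN : D.diagonalSubgroup F ≤ D.monomialSubgroup F := le_sup_left
  have hBn : D.borelSubgroup F ≤ Subgroup.normalizer (D.posUnipotent F : Set (GL D.Idx F)) :=
    sup_le Subgroup.le_normalizer hF.HU
  apply card_quot_modEq (bnp hF) p ((D.posUnipotent F).subgroupOf (D.group F))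
  · exact hU.of_equiv (Subgroup.subgroupOfEquivOfLe (hUB.trans hF.BG)).symm
  · intro x hx
    exact hUB hx
  · intro b hb u hu
    exact (Subgroup.mem_normalizer_iff.1 (hBn hb) u.1).1 hu
  · intro b hb
    obtain ⟨u, hu, h, hh, e⟩ := (mem_borel_iff hF).1 hb
    exact ⟨⟨u, hF.BG (hUB hu)⟩, hu, ⟨h, hF.BG (hHB hh)⟩, ⟨hHB hh, hHN hh⟩, Subtype.ext e⟩

include hF in
/-- the index of `U` is prime to `p`. -/
theorem not_dvd_index [Fintype F] (p : ℕ) [Fact p.Prime] (hU : IsPGroup p (D.posUnipotent F))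
    (hH : ¬ p ∣ Nat.card (D.diagonalSubgroup F)) :
    ¬ p ∣ ((D.posUnipotent F).subgroupOf (D.group F)).index := by
  have hUB : D.posUnipotent F ≤ D.borelSubgroup F := le_sup_left
  have hp := (Fact.out : p.Prime)
  have h1 := Subgroup.card_mul_index ((D.posUnipotent F).subgroupOf (D.group F))
  have h2 := Subgroup.card_eq_card_quotient_mul_card_subgroup ((D.borelSubgroup F).subgroupOf (D.group F))
  rw [card_borel hF] at h2
  rw [Nat.card_congr (Subgroup.subgroupOfEquivOfLe (hUB.trans hF.BG)).toEquiv, h2] at h1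
  have hpos : 0 < Nat.card (D.posUnipotent F) := Nat.card_pos
  have h3 : ((D.posUnipotent F).subgroupOf (D.group F)).index =
      Nat.card (↥(D.group F) ⧸ (D.borelSubgroup F).subgroupOf (D.group F)) * Nat.card (D.diagonalSubgroup F) := by
    apply Nat.eq_of_mul_eq_mul_left hpos
    rw [h1]; ring
  rw [h3, hp.dvd_mul]
  rintro (h | h)
  · have h4 := index_modEq hF p hU
    have h5 : Nat.card (↥(D.group F) ⧸ (D.borelSubgroup F).subgroupOf (D.group F)) ≡ 0 [MOD p] :=
      (Nat.modEq_zero_iff_dvd).2 h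
    have h6 : 1 ≡ 0 [MOD p] := h4.symm.trans h5
    have h7 := (Nat.modEq_zero_iff_dvd).1 h6
    exact hp.one_lt.ne' (Nat.dvd_one.1 h7)
  · exact hH h

include hF in
theorem vanish [Fintype F] (p : ℕ) [Fact p.Prime] (k : ℕ) (hk : Nat.card (D.posUnipotent F) = p ^ k)
    (hH : ¬ p ∣ Nat.card (D.diagonalSubgroup F)) (g : ↥(D.group F)) (hg : p ∣ orderOf g) :
    D.steinbergCharacter F g = 0 := by
  have hUB : D.posUnipotent F ≤ D.borelSubgroup F := le_sup_left
  have hp := (Fact.out : p.Prime)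
  have hU : IsPGroup p (D.posUnipotent F) := IsPGroup.of_card hk
  have hidx := not_dvd_index hF p hU hH
  have h1 := Subgroup.card_mul_index ((D.posUnipotent F).subgroupOf (D.group F))
  rw [Nat.card_congr (Subgroup.subgroupOfEquivOfLe (hUB.trans hF.BG)).toEquiv, hk] at h1
  obtain ⟨n, ρ, hρ, hχ⟩ := irr hF
  have hdeg := degree hF
  rw [← hχ, hk] at hdeg
  have hn : n = p ^ k := by
    have : (ρ.character 1 : ℂ) = (n : ℂ) := by simp
    rw [this] at hdeg
    exact_mod_cast hdeg
  rw [← hχ]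
  have := hρ
  apply Cfsg.Agent.S0165.result ρ p k hp
  · rw [← h1]; exact dvd_mul_right _ _
  · rw [← h1, pow_succ]
    intro h
    exact hidx (Nat.dvd_of_mul_dvd_mul_left (pow_pos hp.pos k) h)
  · simp [hn]
  · exact hg

end Cfsg.Agent.Lib.Helper46ChevSt
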