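import Mathlib

set_option autoImplicit false

namespace Cfsg.Agent.Lib.Helper46Dicyclic

/-- Class number of a group with an abelian subgroup `T` of index two that is inverted by every element
outside of it, and which has exactly two elements of square one. -/
theorem card_conjClasses {N : Type*} [Group N] [Finite N] (T : Subgroup N)
    (hcomm : ∀ a ∈ T, ∀ b ∈ T, a * b = b * a)
    (hinv : ∀ g, g ∉ T → ∀ t ∈ T, g * t * g⁻¹ = t⁻¹)
    (hidx : T.index = 2)
    (z : N) (hz : z ∈ T) (hz1 : z ≠ 1) (hsq : ∀ t ∈ T, t * t = 1 ↔ t = 1 ∨ t = z) :
    2 * Nat.card (ConjClasses N) = Nat.card T + 6 := by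
  classical
  have := Fintype.ofFinite N
  set τ := Nat.card T with hτ
  have hτpos : 0 < τ := Nat.card_pos
  have hN : Nat.card N = 2 * τ := by
    rw [← T.card_mul_index, hidx, mul_comm]
  have hzz : z * z = 1 := (hsq z hz).mpr (Or.inr rfl)
  have hcardT : (Finset.univ.filter (fun x : N => x ∈ T)).card = τ := by
    rw [hτ, Nat.card_eq_fintype_card, Fintype.card_subtype]
  have key : ∀ x : N, Fintype.card {y : N // Commute x y} =
      (if x ∈ T then τ else 0) + (if x = 1 ∨ x = z then τ else 0) + (if x ∈ T then 0 else 4) := by
    intro x
    by_cases hxT : x ∈ T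
    · by_cases hx : x = 1 ∨ x = z
      · have hxx : x * x = 1 := (hsq x hxT).mpr hx
        have hall : ∀ y : N, Commute x y := by
          intro y
          by_cases hy : y ∈ T
          · exact hcomm x hxT y hy
          · have h1 := hinv y hy x hxT
            have h2 : x⁻¹ = x := inv_eq_of_mul_eq_one_left hxx
            rw [h2, mul_inv_eq_iff_eq_mul] at h1
            exact h1.symm
        have : Fintype.card {y : N // Commute x y} = Fintype.card N :=
          Fintype.card_congr (Equiv.subtypeUnivEquiv hall)
        rw [this, ← Nat.card_eq_fintype_card, hN]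
        simp only [hxT, hx, if_true]
        omega
      · have hiff : ∀ y : N, Commute x y ↔ y ∈ T := by
          intro y
          constructor
          · intro hc
            by_contra hy
            have h1 := hinv y hy x hxT
            have h2 : y * x * y⁻¹ = x := by
              rw [mul_inv_eq_iff_eq_mul]; exact hc.eq.symm
            rw [h2] at h1
            apply hx
            apply (hsq x hxT).mp
            calc x * x = x * x⁻¹ := by rw [← h1]
              _ = 1 := mul_inv_cancel x
          · intro hy
            exact hcomm x hxT y hy
        have : Fintype.card {y : N // Commute x y} = Fintype.card T :=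
          Fintype.card_congr (Equiv.subtypeEquivRight hiff)
        rw [this, ← Nat.card_eq_fintype_card]
        simp only [hxT, hx, if_true, if_false]
        omega
    · have hx1 : x ≠ 1 := fun h => hxT (h ▸ T.one_mem)
      have hxz : x ≠ z := fun h => hxT (h ▸ hz)
      have hxzT : x * z ∉ T := fun h => hxT ((T.mul_mem_cancel_right hz).mp h)
      have hcz : Commute x z := by
        have h1 := hinv x hxT z hz
        have h2 : z⁻¹ = z := inv_eq_of_mul_eq_one_left hzz
        rw [h2, mul_inv_eq_iff_eq_mul] at h1
        exact h1
      have hT2 : ∀ t ∈ T, Commute x t → t = 1 ∨ t = z := by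
        intro t ht hc
        apply (hsq t ht).mp
        have h1 := hinv x hxT t ht
        have h2 : x * t * x⁻¹ = t := by
          rw [mul_inv_eq_iff_eq_mul]; exact hc.eq
        rw [h2] at h1
        calc t * t = t * t⁻¹ := by rw [← h1]
          _ = 1 := mul_inv_cancel t
      have hset : (Finset.univ.filter (fun y : N => Commute x y)) = {1, z, x, x * z} := by
        ext y
        simp only [Finset.mem_filter, Finset.mem_univ, true_and, Finset.mem_insert, Finset.mem_singleton]
        constructor
        · intro hc
          by_cases hy : y ∈ T
          · rcases hT2 y hy hc with h | h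
            · exact Or.inl h
            · exact Or.inr (Or.inl h)
          · have hmem : x⁻¹ * y ∈ T := by
              rw [Subgroup.mul_mem_iff_of_index_two hidx, inv_mem_iff]
              exact ⟨fun h => absurd h hxT, fun h => absurd h hy⟩
            have hc' : Commute x (x⁻¹ * y) := (Commute.inv_right (Commute.refl x)).mul_right hc
            rcases hT2 _ hmem hc' with h | h
            · right; right; left
              rw [inv_mul_eq_one] at h
              exact h.symm
            · right; right; right
              rw [inv_mul_eq_iff_eq_mul] at h
              exact h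
        · rintro (rfl | rfl | rfl | rfl)
          · exact Commute.one_right x
          · exact hcz
          · exact Commute.refl _
          · exact (Commute.refl x).mul_right hcz
      have hcard4 : ({1, z, x, x * z} : Finset N).card = 4 := by
        rw [Finset.card_insert_of_notMem, Finset.card_insert_of_notMem, Finset.card_insert_of_notMem,
          Finset.card_singleton]
        · simp only [Finset.mem_singleton]
          intro h
          apply hz1
          have := mul_left_cancel (a := x) (b := 1) (c := z) (by rw [mul_one]; exact h)
          exact this.symm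
        · simp only [Finset.mem_insert, Finset.mem_singleton]
          rintro (h | h)
          · exact hxz h.symm
          · exact hxzT (h ▸ hz)
        · simp only [Finset.mem_insert, Finset.mem_singleton]
          rintro (h | h | h)
          · exact hz1 h.symm
          · exact hx1 h.symm
          · exact hxzT (h ▸ T.one_mem)
      rw [Fintype.card_subtype, hset, hcard4]
      have hx' : ¬ (x = 1 ∨ x = z) := by
        rintro (h | h)
        · exact hx1 h
        · exact hxz h
      simp only [hxT, hx', if_false]
  have hsum : Nat.card { p : N × N // Commute p.1 p.2 } = τ * τ + 2 * τ + 4 * τ := by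
    rw [Nat.card_eq_fintype_card,
      Fintype.card_congr (Equiv.subtypeProdEquivSigmaSubtype (fun a b : N => Commute a b)), Fintype.card_sigma]
    simp_rw [key]
    rw [Finset.sum_add_distrib, Finset.sum_add_distrib]
    congr 1
    · congr 1
      · rw [← Finset.sum_filter, Finset.sum_const, hcardT, smul_eq_mul]
      · rw [← Finset.sum_filter, Finset.sum_const, smul_eq_mul]
        congr 1
        have : (Finset.univ.filter (fun x : N => x = 1 ∨ x = z)) = {1, z} := by
          ext y; simp
        rw [this, Finset.card_insert_of_notMem (by simpa using hz1.symm), Finset.card_singleton]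
    · have h1 : ∀ x : N, (if x ∈ T then 0 else 4) = (if ¬ x ∈ T then 4 else 0) := by
        intro x; by_cases h : x ∈ T <;> simp [h]
      simp_rw [h1]
      rw [← Finset.sum_filter, Finset.sum_const, smul_eq_mul, mul_comm]
      congr 1
      have h2 := Finset.card_filter_add_card_filter_not (s := (Finset.univ : Finset N)) (fun x : N => x ∈ T)
      rw [hcardT, Finset.card_univ, ← Nat.card_eq_fintype_card, hN] at h2
      omega
  rw [card_comm_eq_card_conjClasses_mul_card, hN] at hsum
  have : (2 * Nat.card (ConjClasses N)) * τ = (τ + 6) * τ := by
    calc (2 * Nat.card (ConjClasses N)) * τ = Nat.card (ConjClasses N) * (2 * τ) := by ring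
      _ = τ * τ + 2 * τ + 4 * τ := hsum
      _ = (τ + 6) * τ := by ring
  exact Nat.eq_of_mul_eq_mul_right hτpos this

theorem card_conjClasses_subgroup {G : Type*} [Group G] (N T : Subgroup G) [Finite N] (hTN : T ≤ N)
    (hcomm : ∀ a ∈ T, ∀ b ∈ T, a * b = b * a)
    (hinv : ∀ g ∈ N, g ∉ T → ∀ t ∈ T, g * t * g⁻¹ = t⁻¹)
    (hidx : T.relIndex N = 2)
    (z : G) (hz : z ∈ T) (hz1 : z ≠ 1) (hsq : ∀ t ∈ T, t * t = 1 ↔ t = 1 ∨ t = z) :
    2 * Nat.card (ConjClasses N) = Nat.card T + 6 := by
  have h := card_conjClasses (T.subgroupOf N)
    (by
      rintro ⟨a, haN⟩ ha ⟨b, hbN⟩ hb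
      exact Subtype.ext (hcomm a ha b hb))
    (by
      rintro ⟨g, hgN⟩ hg ⟨t, htN⟩ ht
      exact Subtype.ext (hinv g hgN hg t ht))
    hidx ⟨z, hTN hz⟩ hz (by
      intro h
      exact hz1 (congrArg Subtype.val h))
    (by
      rintro ⟨t, htN⟩ ht
      have := hsq t ht
      constructor
      · intro h1
        rcases this.mp (congrArg Subtype.val h1) with h2 | h2
        · left; exact Subtype.ext h2
        · right; exact Subtype.ext h2
      · rintro (h1 | h1)
        · exact Subtype.ext (this.mpr (Or.inl (congrArg Subtype.val h1)))
        · exact Subtype.ext (this.mpr (Or.inr (congrArg Subtype.val h1))))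
  rw [h, Nat.card_congr (Subgroup.subgroupOfEquivOfLe hTN).toEquiv]

end Cfsg.Agent.Lib.Helper46Dicyclic
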