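import Cfsg.Agent.Lib.Helper46SL2CharL
import Cfsg.Agent.Lib.Helper82Quot
import Cfsg.Agent.Lib.Helper83Char
import Cfsg.Prelude.Def_DegreeGraph

/-!
# Character degrees of `SL₂(q)` and `PSL₂(q)`
-/

set_option autoImplicit false
set_option linter.unusedSectionVars false
set_option linter.unusedSimpArgs false
set_option linter.unusedVariables false

namespace Cfsg.Agent.Lib.Helper46PSL2Char

open Cfsg.Agent.Lib.Helper46SL2 Cfsg.Agent.Lib.Helper46Borel Cfsg.Agent.S2432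
open Cfsg.Agent.Lib.Helper4Char Cfsg.Agent.Lib.Helper4Char2 Cfsg.Agent.Lib.Helper4Char4
open Cfsg.Agent.Lib.Helper46SL2CharA Cfsg.Agent.Lib.Helper32Virt Cfsg.Agent.Lib.Helper46SL2CharD
open Cfsg.Agent.Lib.Helper46SL2CharB Cfsg.Agent.Lib.Helper46SL2CharC Cfsg.Agent.Lib.Helper46Fourier
open Cfsg.Agent.Lib.Helper46SL2CharE Cfsg.Agent.Lib.Helper46SL2CharF Cfsg.Agent.Lib.Helper46SL2CharG
open Cfsg.Agent.Lib.Helper46SL2CharH Cfsg.Agent.Lib.Helper46SL2CharJ Cfsg.Agent.Lib.Helper46SL2CharL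
open Cfsg.Agent.Lib.Helper82Quot

local notation "SL2" => Matrix.SpecialLinearGroup (Fin 2)
local notation "PSL2" => Matrix.ProjectiveSpecialLinearGroup (Fin 2)

theorem mem_charDegrees_iff {G : Type*} [Group G] {d : ℕ} :
    d ∈ Cfsg.charDegrees G ↔ ∃ χ : G → ℂ, Cfsg.IsIrrCharacter G χ ∧ χ 1 = (d : ℂ) := by
  constructor
  · rintro ⟨χ, rfl⟩
    exact ⟨χ.1, χ.2, (Cfsg.Agent.Lib.Helper83Char.charDegree_cast χ.2).symm⟩
  · rintro ⟨χ, hχ, h⟩
    refine ⟨⟨χ, hχ⟩, ?_⟩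
    have := Cfsg.Agent.Lib.Helper83Char.charDegree_cast hχ
    rw [h] at this
    exact_mod_cast this

theorem charDegrees_subset_of_equiv {S G : Type*} [Group S] [Group G] (e : S ≃* G) :
    Cfsg.charDegrees G ⊆ Cfsg.charDegrees S := by
  intro d hd
  rw [mem_charDegrees_iff] at hd ⊢
  obtain ⟨χ, hχ, h⟩ := hd
  exact ⟨χ ∘ e, Cfsg.Agent.Lib.Helper83Char.irr_comp_mulEquiv e hχ, by simp [h]⟩

theorem charDegrees_congr {S G : Type*} [Group S] [Group G] (e : S ≃* G) :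
    Cfsg.charDegrees S = Cfsg.charDegrees G :=
  Set.Subset.antisymm (charDegrees_subset_of_equiv e.symm) (charDegrees_subset_of_equiv e)

variable {F : Type*} [Field F] [Fintype F] [DecidableEq F] {C : Subgroup (SL2 F)}

local notation "q" => (Fintype.card F : ℂ)

theorem charDegrees_SL2 {d : ℕ} (hd : d ∈ Cfsg.charDegrees (SL2 F)) :
    d = 1 ∨ d = Fintype.card F ∨ d = Fintype.card F + 1 ∨ d = Fintype.card F - 1 ∨
      (Odd (Fintype.card F) ∧ d = (Fintype.card F + 1) / 2) ∨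
      (Odd (Fintype.card F) ∧ d = (Fintype.card F - 1) / 2) := by
  rw [mem_charDegrees_iff] at hd
  obtain ⟨χ, hχ, h⟩ := hd
  obtain ⟨C, hC⟩ := exists_isNS (F := F)
  obtain ⟨n, hn, hcases⟩ := classify_deg hC hχ
  have e : d = n := by
    rw [hn] at h
    exact_mod_cast h.symm
  rw [e]
  rcases hcases with ⟨h1, -⟩ | ⟨h1, -⟩ | ⟨h1, -⟩ | ⟨h1, -⟩ | ⟨h0, h1, -⟩ | ⟨h0, h1, -⟩
  · exact Or.inl h1
  · exact Or.inr (Or.inl h1)
  · exact Or.inr (Or.inr (Or.inl h1))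
  · exact Or.inr (Or.inr (Or.inr (Or.inl h1)))
  · exact Or.inr (Or.inr (Or.inr (Or.inr (Or.inl ⟨h0, h1⟩))))
  · exact Or.inr (Or.inr (Or.inr (Or.inr (Or.inr ⟨h0, h1⟩))))

theorem charDegrees_PSL2_subset : Cfsg.charDegrees (PSL2 F) ⊆ Cfsg.charDegrees (SL2 F) := by
  intro d hd
  rw [mem_charDegrees_iff] at hd ⊢
  obtain ⟨χ, hχ, h⟩ := hd
  exact ⟨_, inflate_isIrr (Subgroup.center (SL2 F)) hχ, h⟩

/-- Deflation to `PSL₂`. -/
theorem exists_deflate_PSL2 {χ : SL2 F → ℂ} (hχ : Cfsg.IsIrrCharacter (SL2 F) χ) (h : χ (-1) = χ 1) :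
    ∃ ψ : Cfsg.IrrCharacter (PSL2 F), ∀ g : SL2 F, (ψ : PSL2 F → ℂ) (QuotientGroup.mk g) = χ g := by
  obtain ⟨ψ, hψ⟩ := exists_deflate (Subgroup.center (SL2 F)) ⟨χ, hχ⟩ (by
    intro n hn
    rcases mem_center_iff_eq.mp hn with rfl | rfl
    · rfl
    · exact h)
  refine ⟨ψ, fun g => ?_⟩
  have := congrFun (congrArg Subtype.val hψ) g
  exact this

theorem mem_charDegrees_PSL2 {χ : SL2 F → ℂ} (hχ : Cfsg.IsIrrCharacter (SL2 F) χ) (h : χ (-1) = χ 1)
    {d : ℕ} (hd : χ 1 = (d : ℂ)) : d ∈ Cfsg.charDegrees (PSL2 F) := by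
  obtain ⟨ψ, hψ⟩ := exists_deflate_PSL2 hχ h
  rw [mem_charDegrees_iff]
  exact ⟨ψ.1, ψ.2, by rw [← hd, ← hψ 1]; rfl⟩

theorem St_neg_one : (St : SL2 F → ℂ) (-1) = (St : SL2 F → ℂ) 1 := St_neg 1

theorem card_mem_charDegrees_PSL2 : Fintype.card F ∈ Cfsg.charDegrees (PSL2 F) :=
  mem_charDegrees_PSL2 St_irr St_neg_one St_one

/-- An even multiplicative character which is not self-inverse. -/
theorem exists_alpha_even (hq : 4 ≤ Fintype.card F) (hq5 : Fintype.card F ≠ 5) :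
    ∃ α : MulChar F ℂ, α ≠ α⁻¹ ∧ α (-1 : F) = 1 := by
  obtain ⟨β, hβ⟩ := MulChar.exists_mulChar_orderOf F (dvd_refl (Fintype.card F - 1))
    (Complex.isPrimitiveRoot_exp (Fintype.card F - 1) (by omega))
  refine ⟨β ^ 2, ?_, ?_⟩
  · intro h
    have h4 : β ^ 4 = 1 := by
      rw [eq_inv_iff_mul_eq_one] at h
      rw [← h, ← pow_add]
    have := orderOf_dvd_of_pow_eq_one h4
    rw [hβ] at this
    have h5 := Nat.le_of_dvd (by norm_num) this
    have h6 : Fintype.card F - 1 = 3 := by omega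
    rw [h6] at this
    omega
  · rw [MulChar.pow_apply' _ (by norm_num), ← map_pow]
    simp

theorem add_one_mem_charDegrees_PSL2 (hq : 4 ≤ Fintype.card F) (hq5 : Fintype.card F ≠ 5) :
    Fintype.card F + 1 ∈ Cfsg.charDegrees (PSL2 F) := by
  obtain ⟨α, h1, h2⟩ := exists_alpha_even hq hq5
  apply mem_charDegrees_PSL2 (RR_irr h1)
  · have := RR_neg α 1
    rw [h2, one_mul] at this
    exact this
  · rw [RR_one]; simp

/-- An even character of the nonsplit torus which is not self-inverse. -/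
theorem exists_theta_even (hC : IsNS C) (hq : 4 ≤ Fintype.card F) :
    ∃ θ : C →* ℂˣ, θ⁻¹ ≠ θ ∧ θ (zm hC) = 1 := by
  let _ : CommGroup C := { (inferInstance : Group C) with
    mul_comm := fun a b => Subtype.ext (hC.comm a a.2 b b.2) }
  obtain ⟨e⟩ := CommGroup.monoidHom_mulEquiv_of_hasEnoughRootsOfUnity C ℂ
  have := hC.cyclic
  obtain ⟨g, hg⟩ := IsCyclic.exists_generator (α := C)
  have hord : orderOf (e.symm g) = Fintype.card F + 1 := by
    rw [MulEquiv.orderOf_eq, orderOf_eq_card_of_forall_mem_zpowers hg, hC.card]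
  set η : C →* ℂˣ := e.symm g with hη
  refine ⟨η * η, ?_, ?_⟩
  · intro h
    have h4 : η ^ 4 = 1 := by
      ext x
      have h1 := congrArg (fun ψ : C →* ℂˣ => ψ x) h
      simp only [MonoidHom.inv_apply, MonoidHom.mul_apply] at h1
      have h2 : η x ^ 4 = 1 := by
        rw [inv_eq_iff_mul_eq_one] at h1
        rw [← h1]
        simp only [pow_succ, pow_zero, one_mul, mul_assoc]
      simpa using congrArg Units.val h2
    have := orderOf_dvd_of_pow_eq_one h4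
    rw [hord] at this
    have h5 := Nat.le_of_dvd (by norm_num) this
    omega
  · rw [MonoidHom.mul_apply, ← map_mul, ← sq, zm_sq, map_one]

theorem sub_one_mem_charDegrees_PSL2 (hq : 4 ≤ Fintype.card F) :
    Fintype.card F - 1 ∈ Cfsg.charDegrees (PSL2 F) := by
  obtain ⟨C, hC⟩ := exists_isNS (F := F)
  obtain ⟨θ, h1, h2⟩ := exists_theta_even hC hq
  have hc : Compat θ (1 : MulChar F ℂ) := by
    rw [compat_iff hC, h2, MulChar.one_apply (IsUnit.neg isUnit_one)]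
    simp
  apply mem_charDegrees_PSL2 (cusp_irr hC hc h1)
  · have := cusp_neg hC hc 1
    rw [MulChar.one_apply (IsUnit.neg isUnit_one), one_mul] at this
    exact this
  · exact cusp_one hC hc

/-- Number theory behind the degree graphs. -/
theorem graph_aux (D : Set ℕ) (Q t k : ℕ) (ht : t.Prime) (hQ : Q = t ^ k) (h4 : 4 ≤ Q)
    (hsub : ∀ d ∈ D, d = 1 ∨ d = Q ∨ d ∣ Q + 1 ∨ d ∣ Q - 1) (h1 : Q ∈ D) (h2 : Q + 1 ∈ D) (h3 : Q - 1 ∈ D) :
    (∀ r : ℕ, r.Prime → ((∃ d ∈ D, r ∣ d) ↔ r ∣ Q * (Q ^ 2 - 1))) ∧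
    ∀ r s : ℕ, r ≠ s → r.Prime → s.Prime →
      ((∃ d ∈ D, r * s ∣ d) ↔ (r ∣ Q + 1 ∧ s ∣ Q + 1) ∨ (r ∣ Q - 1 ∧ s ∣ Q - 1)) := by
  have hfac : Q ^ 2 - 1 = (Q + 1) * (Q - 1) := by
    obtain ⟨m, rfl⟩ : ∃ m, Q = m + 1 := ⟨Q - 1, by omega⟩
    simp only [Nat.add_sub_cancel]
    have : (m + 1) ^ 2 = (m + 1 + 1) * m + 1 := by ring
    omega
  constructor
  · intro r hr
    constructor
    · rintro ⟨d, hd, hrd⟩
      rcases hsub d hd with rfl | rfl | h | h
      · exact absurd (Nat.dvd_one.mp hrd) hr.one_lt.ne'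
      · exact Dvd.dvd.mul_right hrd _
      · rw [hfac]
        exact Dvd.dvd.mul_left (Dvd.dvd.mul_right (hrd.trans h) _) _
      · rw [hfac]
        exact Dvd.dvd.mul_left (Dvd.dvd.mul_left (hrd.trans h) _) _
    · intro h
      rw [hfac] at h
      rcases (Nat.Prime.dvd_mul hr).mp h with h | h
      · exact ⟨Q, h1, h⟩
      · rcases (Nat.Prime.dvd_mul hr).mp h with h | h
        · exact ⟨Q + 1, h2, h⟩
        · exact ⟨Q - 1, h3, h⟩
  · intro r s hrs hr hs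
    constructor
    · rintro ⟨d, hd, hrd⟩
      rcases hsub d hd with rfl | rfl | h | h
      · have := Nat.dvd_one.mp hrd
        have := Nat.eq_one_of_mul_eq_one_right this
        exact absurd this hr.one_lt.ne'
      · exfalso
        apply hrs
        have e1 : r ∣ t ^ k := hQ ▸ (Dvd.intro _ rfl).trans hrd
        have e2 : s ∣ t ^ k := hQ ▸ (Dvd.intro_left _ rfl).trans hrd
        rw [(Nat.prime_dvd_prime_iff_eq hr ht).mp (hr.dvd_of_dvd_pow e1),
          (Nat.prime_dvd_prime_iff_eq hs ht).mp (hs.dvd_of_dvd_pow e2)]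
      · exact Or.inl ⟨((Dvd.intro _ rfl).trans hrd).trans h, ((Dvd.intro_left _ rfl).trans hrd).trans h⟩
      · exact Or.inr ⟨((Dvd.intro _ rfl).trans hrd).trans h, ((Dvd.intro_left _ rfl).trans hrd).trans h⟩
    · have hco : Nat.Coprime r s := (Nat.coprime_primes hr hs).mpr hrs
      rintro (⟨a, b⟩ | ⟨a, b⟩)
      · exact ⟨Q + 1, h2, hco.mul_dvd_of_dvd_of_dvd a b⟩
      · exact ⟨Q - 1, h3, hco.mul_dvd_of_dvd_of_dvd a b⟩

/-- The facts on the degree set used for the degree graphs. -/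
theorem degrees_facts (hq : 4 ≤ Fintype.card F) (hq5 : Fintype.card F ≠ 5) {S : Type*} [Group S]
    (hS : Nonempty (S ≃* PSL2 F) ∨ Nonempty (S ≃* SL2 F)) :
    (∀ d ∈ Cfsg.charDegrees S, d = 1 ∨ d = Fintype.card F ∨ d ∣ Fintype.card F + 1 ∨ d ∣ Fintype.card F - 1) ∧
      Fintype.card F ∈ Cfsg.charDegrees S ∧ Fintype.card F + 1 ∈ Cfsg.charDegrees S ∧
      Fintype.card F - 1 ∈ Cfsg.charDegrees S := by
  have key : ∀ d ∈ Cfsg.charDegrees (SL2 F),
      d = 1 ∨ d = Fintype.card F ∨ d ∣ Fintype.card F + 1 ∨ d ∣ Fintype.card F - 1 := by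
    intro d hd
    rcases charDegrees_SL2 hd with h | h | h | h | ⟨⟨k, hk⟩, h⟩ | ⟨⟨k, hk⟩, h⟩
    · exact Or.inl h
    · exact Or.inr (Or.inl h)
    · exact Or.inr (Or.inr (Or.inl (h ▸ dvd_refl _)))
    · exact Or.inr (Or.inr (Or.inr (h ▸ dvd_refl _)))
    · exact Or.inr (Or.inr (Or.inl ⟨2, by omega⟩))
    · exact Or.inr (Or.inr (Or.inr ⟨2, by omega⟩))
  rcases hS with ⟨⟨e⟩⟩ | ⟨⟨e⟩⟩
  · rw [charDegrees_congr e]
    exact ⟨fun d hd => key d (charDegrees_PSL2_subset hd), card_mem_charDegrees_PSL2,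
      add_one_mem_charDegrees_PSL2 hq hq5, sub_one_mem_charDegrees_PSL2 hq⟩
  · rw [charDegrees_congr e]
    exact ⟨key, charDegrees_PSL2_subset card_mem_charDegrees_PSL2,
      charDegrees_PSL2_subset (add_one_mem_charDegrees_PSL2 hq hq5),
      charDegrees_PSL2_subset (sub_one_mem_charDegrees_PSL2 hq)⟩

end Cfsg.Agent.Lib.Helper46PSL2Char
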