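import Cfsg.Agent.S2432
import Cfsg.Agent.S0148
import Cfsg.Agent.Lib.Helper32Virt
import Cfsg.Agent.Lib.Helper82Linear

/-!
# Characters of `SL₂(q)`, part A: the Borel subgroup and the principal series (all `q`)
-/

set_option autoImplicit false
set_option linter.unusedSectionVars false
set_option linter.unusedSimpArgs false
set_option linter.unusedVariables false

namespace Cfsg.Agent.Lib.Helper46SL2CharA

open Cfsg.Agent.Lib.Helper46SL2 Cfsg.Agent.Lib.Helper46Borel Cfsg.Agent.S2432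
open Cfsg.Agent.Lib.Helper4Char Cfsg.Agent.Lib.Helper4Char4
open scoped ComplexConjugate

local notation "SL2" => Matrix.SpecialLinearGroup (Fin 2)

section NoFin

variable {F : Type*} [Field F]

/-- `g` has no eigenvector over `F`. -/
def NoEig (g : SL2 F) : Prop :=
  ∀ (c : F) (v : Fin 2 → F), v ≠ 0 → (g : Matrix (Fin 2) (Fin 2) F).mulVec v ≠ c • v

theorem mulVec_eq (g : SL2 F) (v : Fin 2 → F) :
    (g : Matrix (Fin 2) (Fin 2) F).mulVec v = ![g 0 0 * v 0 + g 0 1 * v 1, g 1 0 * v 0 + g 1 1 * v 1] := by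
  funext i
  fin_cases i <;> simp [Matrix.mulVec, dotProduct, Fin.sum_univ_two]

theorem NoEig.ne_zero_01 {g : SL2 F} (h : NoEig g) : g 0 1 ≠ 0 := by
  intro h0
  apply h (g 1 1) ![0, 1] (by intro hv; simpa using congrFun hv 1)
  rw [mulVec_eq]
  funext i
  fin_cases i <;> simp [h0]

theorem NoEig.quad_ne_zero {g : SL2 F} (h : NoEig g) (c : F) :
    g 1 0 + (g 1 1 - g 0 0) * c - g 0 1 * c ^ 2 ≠ 0 := by
  intro h0
  apply h (g 0 0 + g 0 1 * c) ![1, c] (by intro hv; simpa using congrFun hv 0)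
  rw [mulVec_eq]
  funext i
  fin_cases i
  · simp
  · simp
    linear_combination h0

/-- An element with an eigenvector is conjugate into the Borel subgroup. -/
theorem exists_conj_10_eq_zero {g : SL2 F} (h : ¬ NoEig g) : ∃ x : SL2 F, (x⁻¹ * g * x) 1 0 = 0 := by
  unfold NoEig at h
  push Not at h
  obtain ⟨c, v, hv, hgv⟩ := h
  rw [mulVec_eq] at hgv
  have h0 : g 0 0 * v 0 + g 0 1 * v 1 = c * v 0 := by simpa using congrFun hgv 0
  have h1 : g 1 0 * v 0 + g 1 1 * v 1 = c * v 1 := by simpa using congrFun hgv 1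
  by_cases hv0 : v 0 = 0
  · have hv1 : v 1 ≠ 0 := by
      intro hv1
      apply hv
      funext i
      fin_cases i
      · exact hv0
      · exact hv1
    refine ⟨mk2 0 (-(v 1)⁻¹) (v 1) 0 (by field_simp; ring), ?_⟩
    simp only [mul_10, mul_11, mul_00, mul_01, inv_10, inv_11, mk2_00, mk2_01, mk2_10, mk2_11]
    rw [hv0] at h0
    linear_combination (-(v 1)) * h0
  · refine ⟨mk2 (v 0) 0 (v 1) (v 0)⁻¹ (by field_simp; ring), ?_⟩
    simp only [mul_10, mul_11, mul_00, mul_01, inv_10, inv_11, mk2_00, mk2_01, mk2_10, mk2_11]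
    linear_combination (-(v 1)) * h0 + (v 0) * h1

theorem NoEig.conj {g : SL2 F} (h : NoEig g) (x : SL2 F) : NoEig (x * g * x⁻¹) := by
  intro c v hv hgv
  apply h c (((x⁻¹ : SL2 F) : Matrix (Fin 2) (Fin 2) F).mulVec v)
  · intro h0
    apply hv
    have := congrArg (fun w => (x : Matrix (Fin 2) (Fin 2) F).mulVec w) h0
    simp only [Matrix.mulVec_mulVec, Matrix.mulVec_zero] at this
    rw [← Matrix.SpecialLinearGroup.coe_mul, mul_inv_cancel] at this
    simpa using this
  · have := congrArg (fun w => ((x⁻¹ : SL2 F) : Matrix (Fin 2) (Fin 2) F).mulVec w) hgv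
    simp only [Matrix.mulVec_mulVec, Matrix.mulVec_smul] at this
    have e : x⁻¹ * (x * g * x⁻¹) = g * x⁻¹ := by group
    rw [← this, Matrix.mulVec_mulVec, ← Matrix.SpecialLinearGroup.coe_mul, ← Matrix.SpecialLinearGroup.coe_mul, e]

theorem not_noEig_of_10 {g : SL2 F} (h : g 1 0 = 0) : ¬ NoEig g := by
  intro hn
  apply hn (g 0 0) ![1, 0] (by intro hv; simpa using congrFun hv 0)
  rw [mulVec_eq]
  funext i
  fin_cases i <;> simp [h]

theorem mB_00 (a : Fˣ) (e : F) : (mB (a, e) : SL2 F) 0 0 = a := rfl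
theorem mB_01 (a : Fˣ) (e : F) : (mB (a, e) : SL2 F) 0 1 = e := rfl
theorem mB_10 (a : Fˣ) (e : F) : (mB (a, e) : SL2 F) 1 0 = 0 := rfl
theorem mB_11 (a : Fˣ) (e : F) : (mB (a, e) : SL2 F) 1 1 = (a : F)⁻¹ := rfl

theorem exists_eq_mB {g : SL2 F} (h : g 1 0 = 0) : ∃ (a : Fˣ) (e : F), g = (mB (a, e) : SL2 F) := by
  obtain ⟨⟨a, e⟩, hae⟩ := mB_bijective.2 (⟨g, mem_B.mpr h⟩ : B F)
  exact ⟨a, e, (congrArg Subtype.val hae).symm⟩

/-- Every element is conjugate into the Borel subgroup or has no eigenvector. -/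
theorem exists_conj_mB_or_noEig (g : SL2 F) :
    (∃ (x : SL2 F) (a : Fˣ) (e : F), x⁻¹ * g * x = (mB (a, e) : SL2 F)) ∨ NoEig g := by
  by_cases h : NoEig g
  · exact Or.inr h
  · obtain ⟨x, hx⟩ := exists_conj_10_eq_zero h
    obtain ⟨a, e, hae⟩ := exists_eq_mB hx
    exact Or.inl ⟨x, a, e, hae⟩

theorem mB_mem_center_iff (a : Fˣ) (e : F) :
    (mB (a, e) : SL2 F) ∈ Subgroup.center (SL2 F) ↔ (a : F) ^ 2 = 1 ∧ e = 0 := by
  rw [mem_center_iff, mB_00, mB_01, mB_10, mB_11]
  have ha := a.ne_zero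
  constructor
  · rintro ⟨h1, -, h3⟩
    refine ⟨?_, h1⟩
    field_simp at h3
    linear_combination h3
  · rintro ⟨h1, h2⟩
    refine ⟨h2, rfl, ?_⟩
    field_simp
    linear_combination h1

/-- For `a² ≠ 1` the element `mB (a, e)` is conjugate to the diagonal element. -/
theorem conj_mB_of_sq_ne (a : Fˣ) (e : F) (ha : (a : F) ^ 2 ≠ 1) :
    ∃ x : SL2 F, x * (mB (a, 0) : SL2 F) * x⁻¹ = (mB (a, e) : SL2 F) := by
  have ha0 := a.ne_zero
  have hd : (a : F)⁻¹ - a ≠ 0 := by
    intro h
    apply ha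
    field_simp at h
    linear_combination -h
  refine ⟨mk2 1 (e / ((a : F)⁻¹ - a)) 0 1 (by ring), ?_⟩
  apply ext2
  · simp only [mul_00, mul_01, mul_10, mul_11, inv_00, inv_01, inv_10, inv_11, mk2_00, mk2_01, mk2_10, mk2_11,
      mB_00, mB_01, mB_10, mB_11]
    ring
  · simp only [mul_00, mul_01, mul_10, mul_11, inv_00, inv_01, inv_10, inv_11, mk2_00, mk2_01, mk2_10, mk2_11,
      mB_00, mB_01, mB_10, mB_11]
    field_simp
    ring
  · simp only [mul_00, mul_01, mul_10, mul_11, inv_00, inv_01, inv_10, inv_11, mk2_00, mk2_01, mk2_10, mk2_11,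
      mB_00, mB_01, mB_10, mB_11]
    ring
  · simp only [mul_00, mul_01, mul_10, mul_11, inv_00, inv_01, inv_10, inv_11, mk2_00, mk2_01, mk2_10, mk2_11,
      mB_00, mB_01, mB_10, mB_11]
    ring

end NoFin

section Fin

variable {F : Type*} [Field F] [Fintype F] [DecidableEq F]

local notation "q" => (Fintype.card F : ℂ)

theorem q_ne_zero : q ≠ 0 := by exact_mod_cast Fintype.card_ne_zero

theorem q_sub_one_ne_zero : q - 1 ≠ 0 := by
  have : 1 < Fintype.card F := Fintype.one_lt_card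
  intro h
  have h2 : (Fintype.card F : ℂ) = ((1 : ℕ) : ℂ) := by
    rw [Nat.cast_one]
    linear_combination h
  have := Nat.cast_injective h2
  omega

theorem q_add_one_ne_zero : q + 1 ≠ 0 := by
  have : ((Fintype.card F + 1 : ℕ) : ℂ) ≠ 0 := Nat.cast_ne_zero.mpr (Nat.succ_ne_zero _)
  simpa using this

theorem card_B : (Nat.card (B F) : ℂ) = (q - 1) * q := by
  rw [← Nat.card_congr (Equiv.ofBijective _ (mB_bijective (F := F))), Nat.card_prod,
    Nat.card_eq_fintype_card, Nat.card_eq_fintype_card, Fintype.card_units, Nat.cast_mul,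
    Nat.cast_sub Fintype.card_pos]
  simp

theorem card_G : (Nat.card (SL2 F) : ℂ) = (q + 1) * ((q - 1) * q) := by
  rw [← Nat.card_congr (Equiv.ofBijective _ (rep_bijective (F := F))), Nat.card_prod, Nat.cast_mul, card_B,
    Nat.card_eq_fintype_card, Fintype.card_option]
  simp

/-- The principal series function. -/
noncomputable def RR (α : MulChar F ℂ) : SL2 F → ℂ :=
  Cfsg.indFun (B F) (fun b => α ((b : SL2 F) 0 0))

theorem RR_formula (α : MulChar F ℂ) (g : SL2 F) :
    RR α g =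
      (∑ c : F, if g 1 0 + (g 1 1 - g 0 0) * c - g 0 1 * c ^ 2 = 0 then α (g 0 0 + g 0 1 * c) else 0) +
        (if g 0 1 = 0 then α (g 1 1) else 0) :=
  indFun_formula (fun x => α x) g

theorem RR_noEig (α : MulChar F ℂ) {g : SL2 F} (h : NoEig g) : RR α g = 0 := by
  rw [RR_formula, if_neg h.ne_zero_01, add_zero]
  apply Finset.sum_eq_zero
  intro c _
  rw [if_neg (h.quad_ne_zero c)]

theorem RR_mB (α : MulChar F ℂ) (a : Fˣ) (e : F) :
    RR α (mB (a, e) : SL2 F) =
      (∑ c : F, if 0 + ((a : F)⁻¹ - (a : F)) * c - e * c ^ 2 = 0 then α ((a : F) + e * c) else 0) +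
        (if e = 0 then α (a : F)⁻¹ else 0) :=
  RR_formula α _

theorem inv_sub_ne_zero {a : Fˣ} (ha : (a : F) ^ 2 ≠ 1) : (a : F)⁻¹ - a ≠ 0 := by
  have ha0 := a.ne_zero
  intro h
  apply ha
  field_simp at h
  linear_combination -h

theorem inv_sub_eq_zero {a : Fˣ} (ha : (a : F) ^ 2 = 1) : (a : F)⁻¹ - a = 0 := by
  have ha0 := a.ne_zero
  field_simp
  linear_combination -ha

theorem RR_mB_of_sq_ne (α : MulChar F ℂ) (a : Fˣ) (e : F) (ha : (a : F) ^ 2 ≠ 1) :
    RR α (mB (a, e) : SL2 F) = α (a : F) + α (a : F)⁻¹ := by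
  have hd := inv_sub_ne_zero ha
  rw [RR_mB]
  by_cases he : e = 0
  · subst he
    rw [if_pos rfl, Finset.sum_eq_single (0 : F)]
    · simp
    · intro c _ hc
      rw [if_neg]
      intro h
      have : ((a : F)⁻¹ - a) * c = 0 := by linear_combination h
      rcases mul_eq_zero.mp this with h1 | h1
      · exact hd h1
      · exact hc h1
    · intro h0
      exact absurd (Finset.mem_univ _) h0
  · rw [if_neg he, add_zero, ← Finset.sum_filter]
    have hne : (0 : F) ≠ ((a : F)⁻¹ - a) / e := by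
      intro h
      exact (div_ne_zero hd he) h.symm
    have : Finset.filter (fun c : F => 0 + ((a : F)⁻¹ - (a : F)) * c - e * c ^ 2 = 0) Finset.univ =
        {0, ((a : F)⁻¹ - a) / e} := by
      ext c
      simp only [Finset.mem_filter, Finset.mem_univ, true_and, Finset.mem_insert, Finset.mem_singleton]
      constructor
      · intro h
        have h2 : c * (((a : F)⁻¹ - a) - e * c) = 0 := by linear_combination h
        rcases mul_eq_zero.mp h2 with h1 | h1
        · exact Or.inl h1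
        · right
          rw [eq_div_iff he]
          linear_combination -h1
      · rintro (rfl | rfl)
        · ring
        · field_simp
          ring
    rw [this, Finset.sum_pair hne]
    congr 2
    · ring
    · field_simp
      ring

theorem RR_mB_central (α : MulChar F ℂ) (a : Fˣ) (ha : (a : F) ^ 2 = 1) :
    RR α (mB (a, 0) : SL2 F) = (q + 1) * α (a : F) := by
  have hinv : (a : F)⁻¹ = a := by linear_combination inv_sub_eq_zero ha
  rw [RR_mB, if_pos rfl, hinv]
  simp
  ring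

theorem RR_mB_unip (α : MulChar F ℂ) (a : Fˣ) (e : F) (ha : (a : F) ^ 2 = 1) (he : e ≠ 0) :
    RR α (mB (a, e) : SL2 F) = α (a : F) := by
  rw [RR_mB, if_neg he, add_zero, inv_sub_eq_zero ha, Finset.sum_eq_single (0 : F)]
  · simp
  · intro c _ hc
    rw [if_neg]
    intro h
    have : e * c ^ 2 = 0 := by linear_combination -h
    rcases mul_eq_zero.mp this with h1 | h1
    · exact he h1
    · exact hc (pow_eq_zero_iff (two_ne_zero) |>.mp h1)
  · intro h0
    exact absurd (Finset.mem_univ _) h0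

/-- The diagonal homomorphism of the Borel subgroup. -/
noncomputable def diagHom : B F →* Fˣ where
  toFun b := Units.mk0 ((b : SL2 F) 0 0) (by
    intro h
    have := det2 (b : SL2 F)
    rw [h, mem_B.mp b.2] at this
    simp at this)
  map_one' := by
    apply Units.ext
    simp
  map_mul' b b' := by
    apply Units.ext
    simp only [Units.val_mk0, Units.val_mul, Subgroup.coe_mul, mul_00, mem_B.mp b'.2]
    ring

theorem isCharacter_lin (α : MulChar F ℂ) :
    Cfsg.IsCharacter (B F) (fun b => α ((b : SL2 F) 0 0)) := by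
  have := IsIrrCharacter.isCharacter
    (Cfsg.Agent.Lib.Helper82Linear.isIrrCharacter_of_hom ((MulChar.toUnitHom α).comp (diagHom (F := F))))
  convert this using 2 with b
  simp [diagHom, MulChar.coe_toUnitHom]

theorem RR_isCharacter (α : MulChar F ℂ) : Cfsg.IsCharacter (SL2 F) (RR α) :=
  Cfsg.Agent.S0148.result (B F) _ (isCharacter_lin α)

theorem RR_isClassFunction (α : MulChar F ℂ) : Cfsg.IsClassFunction (SL2 F) (RR α) :=
  IsCharacter.isClassFunction (RR_isCharacter α)

/-- Frobenius reciprocity for the Borel subgroup. -/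
theorem frobB (f : SL2 F → ℂ) (hf : Cfsg.IsClassFunction (SL2 F) f) (α : MulChar F ℂ) :
    Cfsg.classInner f (RR α) =
      ((q - 1) * q)⁻¹ * ∑ a : Fˣ, (∑ e : F, f (mB (a, e) : SL2 F)) * conj (α (a : F)) := by
  let _ : Fintype (B F) := Fintype.ofFinite _
  have hG : (Nat.card (SL2 F) : ℂ) ≠ 0 := by exact_mod_cast Nat.card_pos.ne'
  rw [Cfsg.classInner, RR, frob _ _ _ (fun x h => hf h x), sum_ext,
    ← Fintype.sum_bijective _ (mB_bijective (F := F)) _ _ (fun _ => rfl), Fintype.sum_prod_type, card_B]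
  simp_rw [Finset.sum_mul]
  have : ∀ (a : Fˣ) (e : F), α (((mB (a, e) : B F) : SL2 F) 0 0) = α (a : F) := fun a e => rfl
  simp_rw [this]
  field_simp

theorem inner_RR (α β : MulChar F ℂ) [Decidable (α = β)] [Decidable (α = β⁻¹)] :
    Cfsg.classInner (RR α) (RR β) = (if α = β then 1 else 0) + (if α = β⁻¹ then 1 else 0) := by
  rw [frobB _ (RR_isClassFunction α)]
  have h1 : ∀ a : Fˣ, (∑ e : F, RR α (mB (a, e) : SL2 F)) * conj (β (a : F)) =
      q * (α (a : F) * conj (β (a : F)) + α⁻¹ (a : F) * conj (β (a : F))) := by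
    intro a
    have := inner_sum α a
    rw [show (∑ e : F, RR α (mB (a, e) : SL2 F)) = q * (α (a : F) + α (a : F)⁻¹) from this,
      MulChar.inv_apply']
    ring
  rw [Finset.sum_congr rfl (fun a _ => h1 a), ← Finset.mul_sum, Finset.sum_add_distrib]
  have d2 : Decidable (α⁻¹ = β) := Classical.dec _
  rw [orth α β, orth α⁻¹ β]
  have hiff : α⁻¹ = β ↔ α = β⁻¹ := inv_eq_iff_eq_inv
  have hq := q_ne_zero (F := F)
  have hq1 := q_sub_one_ne_zero (F := F)
  by_cases h1 : α = β <;> by_cases h2 : α = β⁻¹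
  · rw [if_pos h1, if_pos h2, if_pos h1, if_pos (hiff.mpr h2)]
    field_simp
  · rw [if_pos h1, if_neg h2, if_pos h1, if_neg (fun h => h2 (hiff.mp h))]
    field_simp
    ring
  · rw [if_neg h1, if_pos h2, if_neg h1, if_pos (hiff.mpr h2)]
    field_simp
    ring
  · rw [if_neg h1, if_neg h2, if_neg h1, if_neg (fun h => h2 (hiff.mp h))]
    simp

end Fin

end Cfsg.Agent.Lib.Helper46SL2CharA
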