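import Cfsg.Agent.Lib.Helper46SL2CharA
import Cfsg.Agent.Lib.Helper46Fourier
import Cfsg.Agent.Lib.Helper46Tori2

/-!
# Characters of `SL₂(q)`, part B: the non-split torus (all `q`)
-/

set_option autoImplicit false
set_option linter.unusedSectionVars false
set_option linter.unusedSimpArgs false
set_option linter.unusedVariables false

namespace Cfsg.Agent.Lib.Helper46SL2CharB

open Cfsg.Agent.Lib.Helper46SL2 Cfsg.Agent.Lib.Helper46Borel Cfsg.Agent.S2432
open Cfsg.Agent.Lib.Helper4Char Cfsg.Agent.Lib.Helper4Char4 Cfsg.Agent.Lib.Helper46SL2CharA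
open Cfsg.Agent.Lib.Helper46ToriNS Cfsg.Agent.Lib.Helper46Fourier
open scoped ComplexConjugate

local notation "SL2" => Matrix.SpecialLinearGroup (Fin 2)

variable {F : Type*} [Field F] [Fintype F]

/-- The properties of a non-split torus used in the character theory. -/
structure IsNS (C : Subgroup (SL2 F)) : Prop where
  comm : ∀ a ∈ C, ∀ b ∈ C, a * b = b * a
  cyclic : IsCyclic C
  card : Nat.card C = Fintype.card F + 1
  center_le : Subgroup.center (SL2 F) ≤ C
  noEig : ∀ c ∈ C, c ∉ Subgroup.center (SL2 F) → NoEig c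
  cent : ∀ c ∈ C, c ∉ Subgroup.center (SL2 F) → Subgroup.centralizer {c} = C
  card_normalizer : Nat.card (Subgroup.normalizer (C : Set (SL2 F))) = 2 * (Fintype.card F + 1)
  inverted : ∀ n ∈ Subgroup.normalizer (C : Set (SL2 F)), n ∉ C → ∀ c ∈ C, n * c * n⁻¹ = c⁻¹
  exists_conj : ∀ g : SL2 F, NoEig g → ∃ h : SL2 F, h * g * h⁻¹ ∈ C

local notation "φ" => algebraMap F (AlgebraicClosure F)

theorem noEig_of_inC {t0 : F} {z : AlgebraicClosure F} (hord : orderOf z = Fintype.card F + 1) (hz0 : z ≠ 0)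
    (hsum : z + z⁻¹ = φ t0) {c : SL2 F} (hc : inC t0 c) (hcz : c ∉ Subgroup.center (SL2 F)) : NoEig c := by
  have h10 : c 1 0 ≠ 0 := by
    intro h0
    apply hcz
    rw [mem_center_iff, hc.1, hc.2, h0]
    simp
  intro l v hv hcv
  rw [mulVec_eq] at hcv
  have e0 : c 0 0 * v 0 + c 0 1 * v 1 = l * v 0 := by simpa using congrFun hcv 0
  have e1 : c 1 0 * v 0 + c 1 1 * v 1 = l * v 1 := by simpa using congrFun hcv 1
  rw [hc.1] at e0
  rw [hc.2] at e1
  set μ := (l - c 0 0) / c 1 0 with hμ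
  have hl : l = c 0 0 + c 1 0 * μ := by
    rw [hμ]; field_simp; ring
  have f0 : - v 1 = μ * v 0 := by
    apply mul_left_cancel₀ h10
    rw [hl] at e0
    linear_combination e0
  have f1 : v 0 + t0 * v 1 = μ * v 1 := by
    apply mul_left_cancel₀ h10
    rw [hl] at e1
    linear_combination e1
  have hv0 : v 0 ≠ 0 := by
    intro h0
    apply hv
    funext i
    fin_cases i
    · exact h0
    · rw [h0] at f0
      simpa using f0
  have hquad : μ ^ 2 - t0 * μ + 1 = 0 := by
    apply mul_left_cancel₀ hv0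
    have : v 1 = - (μ * v 0) := by linear_combination -f0
    rw [this] at f1
    linear_combination f1
  have hzz : z * z⁻¹ = 1 := mul_inv_cancel₀ hz0
  have hq2 : (φ μ - z) * (φ μ - z⁻¹) = 0 := by
    have := congrArg φ hquad
    simp only [map_add, map_sub, map_mul, map_pow, map_one, map_zero] at this
    linear_combination this - φ μ * hsum + hzz
  rcases mul_eq_zero.mp hq2 with h | h
  · exact z_not_range hord hz0 μ (by linear_combination h)
  · apply z_not_range hord hz0 μ⁻¹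
    rw [map_inv₀, show φ μ = z⁻¹ by linear_combination h, inv_inv]

theorem isNS_T {t0 : F} {z : AlgebraicClosure F} (hord : orderOf z = Fintype.card F + 1) (hz0 : z ≠ 0)
    (hsum : z + z⁻¹ = φ t0) : IsNS (Subgroup.centralizer {stdA t0} : Subgroup (SL2 F)) where
  comm := T_comm
  cyclic := isCyclic_T hord hz0 hsum
  card := card_T hord hz0 hsum
  center_le := Subgroup.center_le_centralizer _
  noEig := fun c hc hcz => noEig_of_inC hord hz0 hsum (mem_centralizer_stdA.mp hc) hcz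
  cent := fun c hc hcz => centralizer_eq_of_inC (mem_centralizer_stdA.mp hc) hcz
  card_normalizer := card_normalizer_T hord hz0 hsum
  inverted := T_inverted hord hz0 hsum
  exists_conj := exists_conj_mem_T hord hz0 hsum

theorem exists_isNS : ∃ C : Subgroup (SL2 F), IsNS C := by
  obtain ⟨t0, z, hord, hz0, hsum⟩ := exists_nonsplit (F := F)
  exact ⟨_, isNS_T hord hz0 hsum⟩

section IC

variable [DecidableEq F] {C : Subgroup (SL2 F)}

local notation "q" => (Fintype.card F : ℂ)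

/-- The function induced from a character of the torus. -/
noncomputable def IC (C : Subgroup (SL2 F)) (θ : C →* ℂˣ) : SL2 F → ℂ :=
  Cfsg.indFun C (fun c => ((θ c : ℂˣ) : ℂ))

theorem IC_isCharacter (θ : C →* ℂˣ) : Cfsg.IsCharacter (SL2 F) (IC C θ) :=
  Cfsg.Agent.S0148.result C _
    (IsIrrCharacter.isCharacter (Cfsg.Agent.Lib.Helper82Linear.isIrrCharacter_of_hom θ))

theorem IC_isClassFunction (θ : C →* ℂˣ) : Cfsg.IsClassFunction (SL2 F) (IC C θ) :=
  IsCharacter.isClassFunction (IC_isCharacter θ)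

theorem IC_eq_zero (θ : C →* ℂˣ) {g : SL2 F} (h : ∀ x : SL2 F, x⁻¹ * g * x ∉ C) : IC C θ g = 0 := by
  unfold IC Cfsg.indFun
  rw [Finset.sum_eq_zero, mul_zero]
  intro x _
  exact extendByZero_apply_not_mem _ _ _ (h x)

theorem conj_mem_center_iff (g x : SL2 F) :
    x⁻¹ * g * x ∈ Subgroup.center (SL2 F) ↔ g ∈ Subgroup.center (SL2 F) := by
  constructor
  · intro h
    have := (Subgroup.center (SL2 F)).normal_of_characteristic.conj_mem _ h x
    have e : x * (x⁻¹ * g * x) * x⁻¹ = g := by group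
    rwa [e] at this
  · intro h
    have := (Subgroup.center (SL2 F)).normal_of_characteristic.conj_mem _ h x⁻¹
    rwa [inv_inv] at this

theorem IC_of_not_noEig (hC : IsNS C) (θ : C →* ℂˣ) {g : SL2 F} (hg : g ∉ Subgroup.center (SL2 F))
    (hne : ¬ NoEig g) : IC C θ g = 0 := by
  apply IC_eq_zero
  intro x hx
  apply hne
  have h1 := hC.noEig _ hx (fun h => hg ((conj_mem_center_iff g x).mp h))
  have h2 := h1.conj x
  have e : x * (x⁻¹ * g * x) * x⁻¹ = g := by group
  rwa [e] at h2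

theorem IC_mB (hC : IsNS C) (θ : C →* ℂˣ) (a : Fˣ) (e : F)
    (h : (mB (a, e) : SL2 F) ∉ Subgroup.center (SL2 F)) : IC C θ (mB (a, e) : SL2 F) = 0 :=
  IC_of_not_noEig hC θ h (not_noEig_of_10 rfl)

theorem card_C (hC : IsNS C) : (Nat.card C : ℂ) = q + 1 := by
  rw [hC.card]
  simp

theorem IC_central (hC : IsNS C) (θ : C →* ℂˣ) (z : SL2 F) (hz : z ∈ Subgroup.center (SL2 F)) :
    IC C θ z = (q - 1) * q * ((θ ⟨z, hC.center_le hz⟩ : ℂˣ) : ℂ) := by
  unfold IC Cfsg.indFun
  have h1 : ∀ x : SL2 F, Cfsg.extendByZero C (fun c => ((θ c : ℂˣ) : ℂ)) (x⁻¹ * z * x) =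
      ((θ ⟨z, hC.center_le hz⟩ : ℂˣ) : ℂ) := by
    intro x
    have e : x⁻¹ * z * x = z := by
      rw [mul_assoc, ← Subgroup.mem_center_iff.mp hz x, inv_mul_cancel_left]
    rw [e, extendByZero_apply_mem _ _ _ (hC.center_le hz)]
  simp_rw [h1]
  rw [Finset.sum_const, Finset.card_univ, nsmul_eq_mul, ← Nat.card_eq_fintype_card, card_G, card_C hC]
  have := q_add_one_ne_zero (F := F)
  field_simp

theorem sum_mem_eq_card {G : Type*} [Group G] [Fintype G] (H : Subgroup G) [DecidablePred (· ∈ H)] :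
    ∑ x : G, (if x ∈ H then (1 : ℂ) else 0) = (Nat.card H : ℂ) := by
  rw [Finset.sum_boole, Nat.card_eq_fintype_card, Fintype.card_subtype]

theorem mem_normalizer_of_conj_mem (hC : IsNS C) {c : SL2 F} (hc : c ∈ C)
    (hcz : c ∉ Subgroup.center (SL2 F)) {x : SL2 F} (hx : x⁻¹ * c * x ∈ C) :
    x ∈ Subgroup.normalizer (C : Set (SL2 F)) := by
  have hyz : x⁻¹ * c * x ∉ Subgroup.center (SL2 F) := fun h => hcz ((conj_mem_center_iff c x).mp h)
  rw [Subgroup.mem_normalizer_iff]
  intro h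
  have h1 := Cfsg.Agent.Lib.Helper46Tori2.mem_centralizer_conj_iff x (x⁻¹ * c * x) h
  have e : x * (x⁻¹ * c * x) * x⁻¹ = c := by group
  rw [e, hC.cent _ hx hyz, hC.cent _ hc hcz] at h1
  exact h1

theorem IC_mem (hC : IsNS C) (θ : C →* ℂˣ) (c : C) (hcz : (c : SL2 F) ∉ Subgroup.center (SL2 F)) :
    IC C θ c = ((θ c : ℂˣ) : ℂ) + ((θ c⁻¹ : ℂˣ) : ℂ) := by
  classical
  unfold IC Cfsg.indFun
  have h1 : ∀ x : SL2 F, Cfsg.extendByZero C (fun c => ((θ c : ℂˣ) : ℂ)) (x⁻¹ * (c : SL2 F) * x) =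
      (if x ∈ C then (1 : ℂ) else 0) * (((θ c : ℂˣ) : ℂ) - ((θ c⁻¹ : ℂˣ) : ℂ)) +
        (if x ∈ Subgroup.normalizer (C : Set (SL2 F)) then (1 : ℂ) else 0) * ((θ c⁻¹ : ℂˣ) : ℂ) := by
    intro x
    by_cases hxC : x ∈ C
    · have hxN : x ∈ Subgroup.normalizer (C : Set (SL2 F)) := Subgroup.le_normalizer hxC
      have e : x⁻¹ * (c : SL2 F) * x = c := by
        rw [mul_assoc, hC.comm _ c.2 _ hxC, inv_mul_cancel_left]
      rw [if_pos hxC, if_pos hxN, e, extendByZero_apply_mem _ _ _ c.2]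
      ring
    · by_cases hxN : x ∈ Subgroup.normalizer (C : Set (SL2 F))
      · have e : x⁻¹ * (c : SL2 F) * x = ((c⁻¹ : C) : SL2 F) := by
          have := hC.inverted x⁻¹ (inv_mem hxN) (fun h => hxC (by simpa using inv_mem h)) c c.2
          rw [inv_inv] at this
          rw [this]
          rfl
        rw [if_neg hxC, if_pos hxN, e, extendByZero_apply_mem _ _ _ (c⁻¹).2]
        ring
      · rw [if_neg hxC, if_neg hxN, extendByZero_apply_not_mem]
        · ring
        · intro h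
          exact hxN (mem_normalizer_of_conj_mem hC c.2 hcz h)
  simp_rw [h1]
  rw [Finset.sum_add_distrib, ← Finset.sum_mul, ← Finset.sum_mul, sum_mem_eq_card, sum_mem_eq_card,
    hC.card_normalizer, card_C hC]
  have := q_add_one_ne_zero (F := F)
  push_cast
  field_simp
  ring

/-- Frobenius reciprocity for the torus. -/
theorem frobC (hC : IsNS C) [Fintype C] (f : SL2 F → ℂ) (hf : Cfsg.IsClassFunction (SL2 F) f) (θ : C →* ℂˣ) :
    Cfsg.classInner f (IC C θ) = (q + 1)⁻¹ * ∑ c : C, f c * conj ((θ c : ℂˣ) : ℂ) := by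
  have hG : (Nat.card (SL2 F) : ℂ) ≠ 0 := by exact_mod_cast Nat.card_pos.ne'
  rw [Cfsg.classInner, IC, frob _ _ _ (fun x h => hf h x), sum_ext, card_C hC]
  field_simp

end IC

end Cfsg.Agent.Lib.Helper46SL2CharB
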