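import Cfsg.Agent.Lib.Helper46SL2CharB

/-!
# Characters of `SL₂(q)`, part C: Steinberg and cuspidal functions (all `q`)
-/

set_option autoImplicit false
set_option linter.unusedSectionVars false
set_option linter.unusedSimpArgs false
set_option linter.unusedVariables false

namespace Cfsg.Agent.Lib.Helper46SL2CharC

open Cfsg.Agent.Lib.Helper46SL2 Cfsg.Agent.Lib.Helper46Borel Cfsg.Agent.S2432
open Cfsg.Agent.Lib.Helper4Char Cfsg.Agent.Lib.Helper4Char4 Cfsg.Agent.Lib.Helper46SL2CharA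
open Cfsg.Agent.Lib.Helper46SL2CharB Cfsg.Agent.Lib.Helper46Fourier
open scoped ComplexConjugate

local notation "SL2" => Matrix.SpecialLinearGroup (Fin 2)

variable {F : Type*} [Field F] [Fintype F] [DecidableEq F]

local notation "q" => (Fintype.card F : ℂ)

/-- The Steinberg function. -/
noncomputable def St : SL2 F → ℂ := RR 1 - 1

theorem St_apply (g : SL2 F) : St g = RR 1 g - 1 := rfl

theorem one_apply_unit (a : Fˣ) : (1 : MulChar F ℂ) (a : F) = 1 := MulChar.one_apply_coe a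

theorem one_apply_inv (a : Fˣ) : (1 : MulChar F ℂ) (a : F)⁻¹ = 1 := by
  rw [← Units.val_inv_eq_inv_val]
  exact MulChar.one_apply_coe _

theorem St_mB_of_sq_ne (a : Fˣ) (e : F) (ha : (a : F) ^ 2 ≠ 1) : St (mB (a, e) : SL2 F) = 1 := by
  rw [St_apply, RR_mB_of_sq_ne _ _ _ ha, one_apply_unit, one_apply_inv]
  ring

theorem St_mB_central (a : Fˣ) (ha : (a : F) ^ 2 = 1) : St (mB (a, 0) : SL2 F) = q := by
  rw [St_apply, RR_mB_central _ _ ha, one_apply_unit]
  ring

theorem St_mB_unip (a : Fˣ) (e : F) (ha : (a : F) ^ 2 = 1) (he : e ≠ 0) : St (mB (a, e) : SL2 F) = 0 := by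
  rw [St_apply, RR_mB_unip _ _ _ ha he, one_apply_unit]
  ring

theorem St_noEig {g : SL2 F} (h : NoEig g) : St g = -1 := by
  rw [St_apply, RR_noEig _ h]
  ring

theorem St_isClassFunction : Cfsg.IsClassFunction (SL2 F) (St (F := F)) :=
  IsClassFunction.sub (RR_isClassFunction 1) (fun _ _ => rfl)

/-- Two class functions agreeing on the Borel subgroup and on the elements without eigenvector agree. -/
theorem class_ext {f f' : SL2 F → ℂ} (hf : Cfsg.IsClassFunction (SL2 F) f)
    (hf' : Cfsg.IsClassFunction (SL2 F) f') (h1 : ∀ (a : Fˣ) (e : F), f (mB (a, e) : SL2 F) = f' (mB (a, e) : SL2 F))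
    (h2 : ∀ g, NoEig g → f g = f' g) : f = f' := by
  funext g
  rcases exists_conj_mB_or_noEig g with ⟨x, a, e, hx⟩ | h
  · have e1 := hf g x⁻¹
    have e2 := hf' g x⁻¹
    rw [inv_inv] at e1 e2
    rw [← e1, ← e2, hx, h1]
  · exact h2 g h

theorem St_real (g : SL2 F) : conj (St g) = St g := by
  rcases exists_conj_mB_or_noEig g with ⟨x, a, e, hx⟩ | h
  · have e1 := St_isClassFunction g x⁻¹
    rw [inv_inv] at e1
    rw [← e1, hx]
    by_cases ha : (a : F) ^ 2 = 1
    · by_cases he : e = 0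
      · subst he
        rw [St_mB_central a ha]
        simp
      · rw [St_mB_unip a e ha he]
        simp
    · rw [St_mB_of_sq_ne a e ha]
      simp
  · rw [St_noEig h]
    simp

variable {C : Subgroup (SL2 F)}

/-- Extension by zero of a character of the torus. -/
noncomputable def ez (θ : C →* ℂˣ) : SL2 F → ℂ := Cfsg.extendByZero C (fun c => ((θ c : ℂˣ) : ℂ))

theorem ez_mem (θ : C →* ℂˣ) (c : C) : ez θ c = ((θ c : ℂˣ) : ℂ) :=
  extendByZero_apply_mem _ _ _ c.2

/-- Compatibility of a character of the split torus with a character of the non-split torus on the centre. -/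
def Compat (θ : C →* ℂˣ) (α : MulChar F ℂ) : Prop :=
  ∀ a : Fˣ, (a : F) ^ 2 = 1 → α (a : F) = ez θ (mB (a, 0) : SL2 F)

/-- The cuspidal function. -/
noncomputable def cusp (θ : C →* ℂˣ) (α : MulChar F ℂ) : SL2 F → ℂ := St * RR α - RR α - IC C θ

theorem cusp_apply (θ : C →* ℂˣ) (α : MulChar F ℂ) (g : SL2 F) :
    cusp θ α g = St g * RR α g - RR α g - IC C θ g := rfl

theorem cusp_isClassFunction (θ : C →* ℂˣ) (α : MulChar F ℂ) :
    Cfsg.IsClassFunction (SL2 F) (cusp θ α) :=
  IsClassFunction.sub (IsClassFunction.sub (IsClassFunction.mul St_isClassFunction (RR_isClassFunction α))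
    (RR_isClassFunction α)) (IC_isClassFunction θ)

theorem mB_central {a : Fˣ} (ha : (a : F) ^ 2 = 1) : (mB (a, 0) : SL2 F) ∈ Subgroup.center (SL2 F) :=
  (mB_mem_center_iff a 0).mpr ⟨ha, rfl⟩

theorem cusp_mB_of_sq_ne (hC : IsNS C) (θ : C →* ℂˣ) (α : MulChar F ℂ) (a : Fˣ) (e : F)
    (ha : (a : F) ^ 2 ≠ 1) : cusp θ α (mB (a, e) : SL2 F) = 0 := by
  rw [cusp_apply, St_mB_of_sq_ne a e ha, IC_mB hC θ a e (fun h => ha ((mB_mem_center_iff a e).mp h).1)]
  ring

theorem cusp_mB_central (hC : IsNS C) {θ : C →* ℂˣ} {α : MulChar F ℂ} (hθα : Compat θ α) (a : Fˣ)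
    (ha : (a : F) ^ 2 = 1) : cusp θ α (mB (a, 0) : SL2 F) = (q - 1) * α (a : F) := by
  rw [cusp_apply, St_mB_central a ha, RR_mB_central α a ha, IC_central hC θ _ (mB_central ha), hθα a ha]
  have : ez θ (mB (a, 0) : SL2 F) = ((θ ⟨(mB (a, 0) : SL2 F), hC.center_le (mB_central ha)⟩ : ℂˣ) : ℂ) :=
    ez_mem θ ⟨(mB (a, 0) : SL2 F), hC.center_le (mB_central ha)⟩
  rw [this]
  ring

theorem cusp_mB_unip (hC : IsNS C) (θ : C →* ℂˣ) (α : MulChar F ℂ) (a : Fˣ) (e : F)
    (ha : (a : F) ^ 2 = 1) (he : e ≠ 0) : cusp θ α (mB (a, e) : SL2 F) = - α (a : F) := by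
  rw [cusp_apply, St_mB_unip a e ha he, RR_mB_unip α a e ha he,
    IC_mB hC θ a e (fun h => he ((mB_mem_center_iff a e).mp h).2)]
  ring

theorem cusp_mem (hC : IsNS C) (θ : C →* ℂˣ) (α : MulChar F ℂ) (c : C)
    (hcz : (c : SL2 F) ∉ Subgroup.center (SL2 F)) :
    cusp θ α c = -(((θ c : ℂˣ) : ℂ) + ((θ c⁻¹ : ℂˣ) : ℂ)) := by
  rw [cusp_apply, RR_noEig α (hC.noEig _ c.2 hcz), IC_mem hC θ c hcz]
  ring

/-- Reindexing of sums over the centre. -/
theorem sum_center (hC : IsNS C) [Fintype C] (Ψ : SL2 F → ℂ) :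
    ∑ a : Fˣ, (if (a : F) ^ 2 = 1 then Ψ (mB (a, 0) : SL2 F) else 0) =
      ∑ c : C, (if (c : SL2 F) ∈ Subgroup.center (SL2 F) then Ψ c else 0) := by
  classical
  have h1 : ∑ a : Fˣ, (if (a : F) ^ 2 = 1 then Ψ (mB (a, 0) : SL2 F) else 0) =
      ∑ g : SL2 F, (if g ∈ Subgroup.center (SL2 F) then Ψ g else 0) := by
    apply Finset.sum_of_injOn (fun a : Fˣ => (mB (a, 0) : SL2 F))
    · intro a _ b _ h
      have := congrArg (fun A : SL2 F => A 0 0) h
      exact Units.ext this
    · intro a _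
      exact Finset.mem_coe.mpr (Finset.mem_univ _)
    · intro g _ hg
      rw [if_neg]
      intro hz
      apply hg
      have hz' := mem_center_iff.mp hz
      obtain ⟨a, e, hae⟩ := exists_eq_mB hz'.2.1
      have he : e = 0 := by
        have := hz'.1
        rw [hae] at this
        exact this
      subst he
      exact ⟨a, Finset.mem_coe.mpr (Finset.mem_univ _), hae.symm⟩
    · intro a _
      by_cases ha : (a : F) ^ 2 = 1
      · rw [if_pos ha, if_pos (mB_central ha)]
      · rw [if_neg ha, if_neg (fun h => ha ((mB_mem_center_iff a 0).mp h).1)]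
  have h2 : ∑ c : C, (if (c : SL2 F) ∈ Subgroup.center (SL2 F) then Ψ c else 0) =
      ∑ g : SL2 F, (if g ∈ Subgroup.center (SL2 F) then Ψ g else 0) := by
    apply Finset.sum_of_injOn (fun c : C => (c : SL2 F))
    · intro a _ b _ h
      exact Subtype.ext h
    · intro a _
      exact Finset.mem_coe.mpr (Finset.mem_univ _)
    · intro g _ hg
      rw [if_neg]
      intro hz
      exact hg ⟨⟨g, hC.center_le hz⟩, Finset.mem_coe.mpr (Finset.mem_univ _), rfl⟩
    · intro c _
      rfl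
  rw [h1, h2]

theorem inv_eq_self_of_mem_center {z : SL2 F} (hz : z ∈ Subgroup.center (SL2 F)) : z⁻¹ = z := by
  rcases mem_center_iff_eq.mp hz with rfl | rfl
  · simp
  · simp

/-- The values of the cuspidal function on the torus. -/
theorem cusp_C (hC : IsNS C) {θ : C →* ℂˣ} {α : MulChar F ℂ} (hθα : Compat θ α) (c : C)
    [Decidable ((c : SL2 F) ∈ Subgroup.center (SL2 F))] :
    cusp θ α c = -(((θ c : ℂˣ) : ℂ) + ((θ c⁻¹ : ℂˣ) : ℂ)) +
      (if (c : SL2 F) ∈ Subgroup.center (SL2 F) then (q + 1) * ((θ c : ℂˣ) : ℂ) else 0) := by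
  split_ifs with hz
  · have hz' := mem_center_iff.mp hz
    obtain ⟨a, e, hae⟩ := exists_eq_mB hz'.2.1
    have hz2 := hz
    rw [hae, mB_mem_center_iff] at hz2
    obtain ⟨ha, he⟩ := hz2
    subst he
    have hinv : c⁻¹ = c := Subtype.ext (inv_eq_self_of_mem_center hz)
    rw [hinv, hae, cusp_mB_central hC hθα a ha, hθα a ha, ← hae, ez_mem]
    ring
  · rw [cusp_mem hC θ α c hz, add_zero]

theorem classInner_mul_right (f s r : SL2 F → ℂ) :
    Cfsg.classInner f (s * r) = Cfsg.classInner (f * fun g => conj (s g)) r := by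
  unfold Cfsg.classInner
  congr 1
  apply Finset.sum_congr rfl
  intro g _
  simp only [Pi.mul_apply, map_mul]
  ring

theorem sum_ite_zero' (X Y : F → ℂ) :
    ∑ e : F, (if e = 0 then X e else Y e) = X 0 + ∑ e : F, (if e = 0 then 0 else Y e) := by
  have h : ∀ e : F, (if e = 0 then X e else Y e) = (if e = 0 then X e else 0) + (if e = 0 then 0 else Y e) := by
    intro e
    split_ifs <;> ring
  simp_rw [h]
  rw [Finset.sum_add_distrib, Finset.sum_ite_eq' Finset.univ (0 : F)]
  simp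

/-- The basic formula for inner products with a cuspidal function. -/
theorem inner_cusp_right (hC : IsNS C) [Fintype C] (f : SL2 F → ℂ) (hf : Cfsg.IsClassFunction (SL2 F) f)
    (θ : C →* ℂˣ) (α : MulChar F ℂ) :
    Cfsg.classInner f (cusp θ α) =
      ((q - 1) * q)⁻¹ * ∑ a : Fˣ, (if (a : F) ^ 2 = 1 then
          (q * f (mB (a, 0) : SL2 F) - ∑ e : F, f (mB (a, e) : SL2 F)) * conj (α (a : F)) else 0) -
        (q + 1)⁻¹ * ∑ c : C, f c * conj ((θ c : ℂˣ) : ℂ) := by
  unfold cusp
  rw [classInner_sub_right, classInner_sub_right, classInner_mul_right, frobC hC f hf,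
    frobB f hf, frobB _ (IsClassFunction.mul hf (IsClassFunction.conj St_isClassFunction)), ← mul_sub,
    ← Finset.sum_sub_distrib]
  congr 2
  apply Finset.sum_congr rfl
  intro a _
  rw [← sub_mul]
  split_ifs with ha
  · congr 1
    congr 1
    rw [Finset.sum_eq_single (0 : F)]
    · simp only [Pi.mul_apply, St_real, St_mB_central a ha]
      ring
    · intro e _ he
      simp only [Pi.mul_apply, St_real, St_mB_unip a e ha he, mul_zero]
    · intro h0
      exact absurd (Finset.mem_univ _) h0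
  · have : ∀ e : F, (f * fun g => conj (St g) : SL2 F → ℂ) (mB (a, e) : SL2 F) = f (mB (a, e) : SL2 F) := by
      intro e
      simp only [Pi.mul_apply, St_real, St_mB_of_sq_ne a e ha, mul_one]
    simp_rw [this]
    ring

theorem sum_cusp_mB (hC : IsNS C) {θ : C →* ℂˣ} {α : MulChar F ℂ} (hθα : Compat θ α) (a : Fˣ) :
    ∑ e : F, cusp θ α (mB (a, e) : SL2 F) = 0 := by
  by_cases ha : (a : F) ^ 2 = 1
  · have h1 : ∀ e : F, cusp θ α (mB (a, e) : SL2 F) =
        if e = 0 then (q - 1) * α (a : F) else - α (a : F) := by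
      intro e
      split_ifs with he
      · subst he
        exact cusp_mB_central hC hθα a ha
      · exact cusp_mB_unip hC θ α a e ha he
    simp_rw [h1]
    rw [sum_ite_zero]
    ring
  · apply Finset.sum_eq_zero
    intro e _
    exact cusp_mB_of_sq_ne hC θ α a e ha

theorem inner_cusp_RR (hC : IsNS C) {θ : C →* ℂˣ} {α : MulChar F ℂ} (hθα : Compat θ α) (β : MulChar F ℂ) :
    Cfsg.classInner (cusp θ α) (RR β) = 0 := by
  rw [frobB _ (cusp_isClassFunction θ α)]
  simp_rw [sum_cusp_mB hC hθα]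
  simp

/-- Auxiliary product. -/
noncomputable def ezz (θ θ' : C →* ℂˣ) (g : SL2 F) : ℂ := ez θ g * conj (ez θ' g)

theorem inner_cusp_cusp (hC : IsNS C) {θ θ' : C →* ℂˣ} {α α' : MulChar F ℂ} (hθα : Compat θ α)
    (hθα' : Compat θ' α') [Decidable (θ = θ')] [Decidable (θ⁻¹ = θ')] :
    Cfsg.classInner (cusp θ α) (cusp θ' α') = (if θ = θ' then 1 else 0) + (if θ⁻¹ = θ' then 1 else 0) := by
  classical
  let _ : Fintype C := Fintype.ofFinite _
  rw [inner_cusp_right hC _ (cusp_isClassFunction θ α)]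
  have hq := q_ne_zero (F := F)
  have hq1 := q_sub_one_ne_zero (F := F)
  have hq2 := q_add_one_ne_zero (F := F)
  have h1 : ∀ a : Fˣ, (if (a : F) ^ 2 = 1 then
      (q * cusp θ α (mB (a, 0) : SL2 F) - ∑ e : F, cusp θ α (mB (a, e) : SL2 F)) * conj (α' (a : F)) else 0) =
      ((q - 1) * q) * (if (a : F) ^ 2 = 1 then
        ezz θ θ' (mB (a, 0) : SL2 F) else 0) := by
    intro a
    split_ifs with ha
    · rw [sum_cusp_mB hC hθα, cusp_mB_central hC hθα a ha, hθα a ha, hθα' a ha, ezz]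
      ring
    · ring
  simp_rw [h1]
  rw [← Finset.mul_sum, sum_center hC]
  have h2 : ∀ c : C, cusp θ α c * conj ((θ' c : ℂˣ) : ℂ) =
      -(((θ c : ℂˣ) : ℂ) * conj ((θ' c : ℂˣ) : ℂ)) - (((θ⁻¹ c : ℂˣ) : ℂ) * conj ((θ' c : ℂˣ) : ℂ)) +
        (q + 1) * (if (c : SL2 F) ∈ Subgroup.center (SL2 F) then
          ezz θ θ' (c : SL2 F) else 0) := by
    intro c
    rw [cusp_C hC hθα c, MonoidHom.inv_apply, map_inv]
    split_ifs with hz
    · simp only [ezz, ez_mem]
      ring
    · ring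
  simp_rw [h2]
  rw [Finset.sum_add_distrib, Finset.sum_sub_distrib, Finset.sum_neg_distrib, ← Finset.mul_sum,
    orth_hom θ θ', orth_hom θ⁻¹ θ']
  have hcC : (Fintype.card C : ℂ) = q + 1 := by rw [← Nat.card_eq_fintype_card, card_C hC]
  rw [hcC]
  by_cases e1 : θ = θ' <;> by_cases e2 : θ⁻¹ = θ'
  · rw [if_pos e1, if_pos e2, if_pos e1, if_pos e2]
    field_simp
    ring
  · rw [if_pos e1, if_neg e2, if_pos e1, if_neg e2]
    field_simp
    ring
  · rw [if_neg e1, if_pos e2, if_neg e1, if_pos e2]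
    field_simp
    ring
  · rw [if_neg e1, if_neg e2, if_neg e1, if_neg e2]
    field_simp
    ring

theorem mB_one : (mB ((1 : Fˣ), (0 : F)) : SL2 F) = 1 := by
  apply ext2 <;> simp [mB_00, mB_01, mB_10, mB_11]

theorem mB_neg_one : (mB ((-1 : Fˣ), (0 : F)) : SL2 F) = -1 := by
  apply ext2 <;> simp [mB_00, mB_01, mB_10, mB_11, Helper46SL2.neg_apply, inv_neg]

theorem unit_sq_eq_one {a : Fˣ} (ha : (a : F) ^ 2 = 1) : a = 1 ∨ a = -1 := by
  have h2 : ((a : F) - 1) * ((a : F) + 1) = 0 := by linear_combination ha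
  rcases mul_eq_zero.mp h2 with h3 | h3
  · left
    apply Units.ext
    rw [Units.val_one]
    linear_combination h3
  · right
    apply Units.ext
    rw [Units.val_neg, Units.val_one]
    linear_combination h3

theorem neg_one_mem_center : (-1 : SL2 F) ∈ Subgroup.center (SL2 F) := mem_center_iff_eq.mpr (Or.inr rfl)

/-- The element `-1` of the torus. -/
def zm (hC : IsNS C) : C := ⟨-1, hC.center_le neg_one_mem_center⟩

theorem zm_sq (hC : IsNS C) : zm hC ^ 2 = 1 := by
  apply Subtype.ext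
  simp [zm]

theorem compat_iff (hC : IsNS C) (θ : C →* ℂˣ) (α : MulChar F ℂ) :
    Compat θ α ↔ α (-1 : F) = ((θ (zm hC) : ℂˣ) : ℂ) := by
  constructor
  · intro h
    have := h (-1) (by simp)
    rw [mB_neg_one] at this
    rw [← ez_mem θ (zm hC)]
    change α (-1 : F) = ez θ (-1 : SL2 F)
    simpa using this
  · intro h a ha
    rcases unit_sq_eq_one ha with rfl | rfl
    · rw [mB_one, show (1 : SL2 F) = ((1 : C) : SL2 F) from rfl, ez_mem]
      simp
    · rw [mB_neg_one, show (-1 : SL2 F) = ((zm hC : C) : SL2 F) from rfl, ez_mem, ← h]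
      simp

theorem exists_compat (hC : IsNS C) (θ : C →* ℂˣ) : ∃ α : MulChar F ℂ, Compat θ α := by
  have hsq : θ (zm hC) ^ 2 = 1 := by rw [← map_pow, zm_sq, map_one]
  rcases units_sq_eq_one hsq with h | h
  · refine ⟨1, (compat_iff hC θ 1).mpr ?_⟩
    rw [h, MulChar.one_apply (IsUnit.neg isUnit_one)]
    simp
  · have hne : (-1 : F) ≠ 1 := by
      intro h1
      have : zm hC = 1 := by
        apply Subtype.ext
        change (-1 : SL2 F) = 1
        apply ext2 <;> simp [Helper46SL2.neg_apply, h1]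
      rw [this, map_one] at h
      exact neg_one_ne_one_units h.symm
    obtain ⟨α, hα⟩ := MulChar.exists_apply_ne_one_of_hasEnoughRootsOfUnity F ℂ hne
    refine ⟨α, (compat_iff hC θ α).mpr ?_⟩
    rw [h]
    have h2 : α (-1 : F) ^ 2 = 1 := by
      rw [← map_pow]
      simp
    have h3 : (α (-1 : F) - 1) * (α (-1 : F) + 1) = 0 := by linear_combination h2
    rcases mul_eq_zero.mp h3 with h4 | h4
    · exact absurd (by linear_combination h4) hα
    · simp only [Units.val_neg, Units.val_one]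
      linear_combination h4

/-- Auxiliary product. -/
noncomputable def fz (f : SL2 F → ℂ) (θ : C →* ℂˣ) (g : SL2 F) : ℂ := f g * conj (ez θ g)

/-- The vanishing lemma: a class function orthogonal to all principal series and cuspidal functions. -/
theorem vanishing (hC : IsNS C) (f : SL2 F → ℂ) (hf : Cfsg.IsClassFunction (SL2 F) f)
    (h1 : ∀ α : MulChar F ℂ, Cfsg.classInner f (RR α) = 0)
    (h2 : ∀ (θ : C →* ℂˣ) (α : MulChar F ℂ), Compat θ α → Cfsg.classInner f (cusp θ α) = 0) :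
    (∀ a : Fˣ, ∑ e : F, f (mB (a, e) : SL2 F) = 0) ∧
    (∀ (a : Fˣ) (e : F), (a : F) ^ 2 ≠ 1 → f (mB (a, e) : SL2 F) = 0) ∧
    (∀ c : C, f c = 0) := by
  classical
  let _ : Fintype C := Fintype.ofFinite _
  have hq := q_ne_zero (F := F)
  have hq1 := q_sub_one_ne_zero (F := F)
  have hq2 := q_add_one_ne_zero (F := F)
  have s1 : ∀ a : Fˣ, ∑ e : F, f (mB (a, e) : SL2 F) = 0 := by
    have := fourier (H := Fˣ) (fun a => ∑ e : F, f (mB (a, e) : SL2 F)) (by
      intro θ
      have h3 := h1 (MulChar.ofUnitHom θ)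
      rw [frobB f hf] at h3
      simp only [MulChar.ofUnitHom_coe] at h3
      rcases mul_eq_zero.mp h3 with h4 | h4
      · exact absurd h4 (inv_ne_zero (mul_ne_zero hq1 hq))
      · exact h4)
    intro a
    exact congrFun this a
  have s2 : ∀ (a : Fˣ) (e : F), (a : F) ^ 2 ≠ 1 → f (mB (a, e) : SL2 F) = 0 := by
    intro a e ha
    have h3 : ∀ e' : F, f (mB (a, e') : SL2 F) = f (mB (a, 0) : SL2 F) := by
      intro e'
      obtain ⟨x, hx⟩ := conj_mB_of_sq_ne a e' ha
      rw [← hx, hf]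
    have h4 := s1 a
    simp_rw [h3] at h4
    rw [Finset.sum_const, Finset.card_univ, nsmul_eq_mul] at h4
    rw [h3]
    exact (mul_eq_zero.mp h4).resolve_left hq
  refine ⟨s1, s2, ?_⟩
  have h5 := fourier' (H := C) (fun a b => Subtype.ext (hC.comm _ a.2 _ b.2))
    (fun c => (q - 1)⁻¹ * (if (c : SL2 F) ∈ Subgroup.center (SL2 F) then f c else 0) - (q + 1)⁻¹ * f c) (by
      intro θ
      obtain ⟨α, hα⟩ := exists_compat hC θ
      have h6 := h2 θ α hα
      rw [inner_cusp_right hC f hf] at h6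
      have h7 : ∀ a : Fˣ, (if (a : F) ^ 2 = 1 then
          (q * f (mB (a, 0) : SL2 F) - ∑ e : F, f (mB (a, e) : SL2 F)) * conj (α (a : F)) else 0) =
          q * (if (a : F) ^ 2 = 1 then fz f θ (mB (a, 0) : SL2 F) else 0) := by
        intro a
        split_ifs with ha
        · rw [s1, hα a ha, fz]
          ring
        · ring
      simp_rw [h7] at h6
      rw [← Finset.mul_sum, sum_center hC] at h6
      have h8 : ∀ c : C, ((q - 1)⁻¹ * (if (c : SL2 F) ∈ Subgroup.center (SL2 F) then f c else 0) -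
          (q + 1)⁻¹ * f c) * conj ((θ c : ℂˣ) : ℂ) =
          (q - 1)⁻¹ * (if (c : SL2 F) ∈ Subgroup.center (SL2 F) then fz f θ (c : SL2 F) else 0) -
            (q + 1)⁻¹ * (f c * conj ((θ c : ℂˣ) : ℂ)) := by
        intro c
        split_ifs with hz
        · rw [fz, ez_mem]
          ring
        · ring
      simp_rw [h8]
      rw [Finset.sum_sub_distrib, ← Finset.mul_sum, ← Finset.mul_sum]
      rw [show ∀ S : ℂ, ((q - 1) * q)⁻¹ * (q * S) = (q - 1)⁻¹ * S from fun S => by field_simp] at h6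
      exact h6)
  intro c
  have h9 := congrFun h5 c
  simp only [Pi.zero_apply] at h9
  by_cases hz : (c : SL2 F) ∈ Subgroup.center (SL2 F)
  · rw [if_pos hz] at h9
    have h10 : ((q - 1)⁻¹ - (q + 1)⁻¹) * f c = 0 := by linear_combination h9
    rcases mul_eq_zero.mp h10 with h11 | h11
    · exfalso
      field_simp at h11
      norm_num at h11
    · exact h11
  · rw [if_neg hz] at h9
    have h10 : (q + 1)⁻¹ * f c = 0 := by linear_combination -h9
    exact (mul_eq_zero.mp h10).resolve_left (inv_ne_zero hq2)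

end Cfsg.Agent.Lib.Helper46SL2CharC
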