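import Cfsg.Agent.Lib.Helper46SL2CharD

/-!
# Characters of `SL₂(q)`, part E: central signs and the characters of half degree (`q` odd)
-/

set_option autoImplicit false
set_option linter.unusedSectionVars false
set_option linter.unusedSimpArgs false
set_option linter.unusedVariables false

namespace Cfsg.Agent.Lib.Helper46SL2CharE

open Cfsg.Agent.Lib.Helper46SL2 Cfsg.Agent.Lib.Helper46Borel Cfsg.Agent.S2432
open Cfsg.Agent.Lib.Helper4Char Cfsg.Agent.Lib.Helper4Char2 Cfsg.Agent.Lib.Helper4Char4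
open Cfsg.Agent.Lib.Helper46SL2CharA Cfsg.Agent.Lib.Helper32Virt Cfsg.Agent.Lib.Helper46SL2CharD
open Cfsg.Agent.Lib.Helper46SL2CharB Cfsg.Agent.Lib.Helper46SL2CharC Cfsg.Agent.Lib.Helper46Fourier
open scoped ComplexConjugate

local notation "SL2" => Matrix.SpecialLinearGroup (Fin 2)

variable {F : Type*} [Field F] [Fintype F] [DecidableEq F]

local notation "q" => (Fintype.card F : ℂ)

/-! ### Central signs -/

theorem RR_neg (α : MulChar F ℂ) (g : SL2 F) : RR α (-g) = α (-1 : F) * RR α g := by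
  rw [RR_formula, RR_formula, mul_add, Finset.mul_sum]
  congr 1
  · apply Finset.sum_congr rfl
    intro c _
    simp only [Helper46SL2.neg_apply]
    by_cases h : g 1 0 + (g 1 1 - g 0 0) * c - g 0 1 * c ^ 2 = 0
    · rw [if_pos h, if_pos (by linear_combination -h), ← map_mul]
      congr 1
      ring
    · rw [if_neg h, if_neg (fun h' => h (by linear_combination -h')), mul_zero]
  · simp only [Helper46SL2.neg_apply]
    by_cases h : g 0 1 = 0
    · rw [if_pos h, if_pos (by rw [h]; ring), ← map_mul]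
      congr 1
      ring
    · rw [if_neg h, if_neg (fun h' => h (by linear_combination -h')), mul_zero]

theorem St_neg (g : SL2 F) : St (-g) = St g := by
  rw [St_apply, St_apply, RR_neg, MulChar.one_apply (IsUnit.neg isUnit_one), one_mul]

variable {C : Subgroup (SL2 F)}

theorem IC_neg (hC : IsNS C) (θ : C →* ℂˣ) (g : SL2 F) :
    IC C θ (-g) = ((θ (zm hC) : ℂˣ) : ℂ) * IC C θ g := by
  unfold IC Cfsg.indFun
  rw [mul_left_comm]
  congr 1
  rw [Finset.mul_sum]
  apply Finset.sum_congr rfl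
  intro x _
  have e : x⁻¹ * (-g) * x = -(x⁻¹ * g * x) := by
    rw [mul_neg, neg_mul]
  rw [e]
  by_cases h : x⁻¹ * g * x ∈ C
  · have h' : -(x⁻¹ * g * x) ∈ C := by
      have := mul_mem (zm hC).2 h
      rwa [show ((zm hC : C) : SL2 F) = -1 from rfl, neg_one_mul] at this
    rw [extendByZero_apply_mem _ _ _ h, extendByZero_apply_mem _ _ _ h', ← Units.val_mul, ← map_mul]
    have e2 : (⟨-(x⁻¹ * g * x), h'⟩ : C) = zm hC * ⟨x⁻¹ * g * x, h⟩ := by
      apply Subtype.ext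
      change -(x⁻¹ * g * x) = (-1 : SL2 F) * (x⁻¹ * g * x)
      rw [neg_one_mul]
    rw [e2]
  · have h' : -(x⁻¹ * g * x) ∉ C := by
      intro h'
      apply h
      have := mul_mem (zm hC).2 h'
      rwa [show ((zm hC : C) : SL2 F) = -1 from rfl, neg_one_mul, neg_neg] at this
    rw [extendByZero_apply_not_mem _ _ _ h, extendByZero_apply_not_mem _ _ _ h', mul_zero]

theorem cusp_neg (hC : IsNS C) {θ : C →* ℂˣ} {α : MulChar F ℂ} (hθα : Compat θ α) (g : SL2 F) :
    cusp θ α (-g) = α (-1 : F) * cusp θ α g := by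
  rw [cusp_apply, cusp_apply, St_neg, RR_neg, IC_neg hC, ← (compat_iff hC θ α).mp hθα]
  ring

theorem irr_neg {χ : SL2 F → ℂ} (hχ : Cfsg.IsIrrCharacter (SL2 F) χ) (g : SL2 F) :
    χ (-g) = χ (-1) / χ 1 * χ g := by
  rw [← Cfsg.Agent.Lib.Helper79Central.irr_central_mul hχ neg_one_mem_center g, neg_one_mul]

theorem SIrr_neg {a : SL2 F → ℂ} (ha : SIrr (SL2 F) a) : ∃ ω : ℂ, ∀ g, a (-g) = ω * a g := by
  rcases ha with h | h
  · exact ⟨_, irr_neg h⟩
  · refine ⟨-a (-1) / -a 1, fun g => ?_⟩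
    have := irr_neg h g
    simp only [Pi.neg_apply] at this
    linear_combination -this

theorem inner_eq_zero_of_cen {f f' : SL2 F → ℂ} {ε ε' : ℂ} (hf : ∀ g, f (-g) = ε * f g)
    (hf' : ∀ g, f' (-g) = ε' * f' g) (h : ε * conj ε' ≠ 1) : Cfsg.classInner f f' = 0 := by
  have h1 : Cfsg.classInner f f' = ε * conj ε' * Cfsg.classInner f f' := by
    unfold Cfsg.classInner
    rw [mul_left_comm]
    congr 1
    rw [Finset.mul_sum]
    refine (Fintype.sum_equiv (Equiv.neg (SL2 F)) (fun g => ε * conj ε' * (f g * conj (f' g)))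
      (fun g => f g * conj (f' g)) (fun g => ?_)).symm
    rw [Equiv.neg_apply, hf, hf', map_mul]
    ring
  have h2 : (1 - ε * conj ε') * Cfsg.classInner f f' = 0 := by linear_combination h1
  rcases mul_eq_zero.mp h2 with h3 | h3
  · exact absurd (by linear_combination -h3) h
  · exact h3

/-- A signed irreducible constituent of a function with central sign `ε` is orthogonal to functions of sign `-ε`. -/
theorem inner_eq_zero_of_sign {Θ Θ' a : SL2 F → ℂ} {ε : ℂ} (hε : ε = 1 ∨ ε = -1) (ha : SIrr (SL2 F) a)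
    (hΘ : ∀ g, Θ (-g) = ε * Θ g) (hΘ' : ∀ g, Θ' (-g) = -ε * Θ' g) (hne : Cfsg.classInner Θ a ≠ 0) :
    Cfsg.classInner a Θ' = 0 := by
  obtain ⟨ω, hω⟩ := SIrr_neg ha
  have h1 : ε * conj ω = 1 := by
    by_contra h
    exact hne (inner_eq_zero_of_cen hΘ hω h)
  apply inner_eq_zero_of_cen hω hΘ'
  have h2 : ω = ε := by
    have h3 := congrArg conj h1
    rw [map_mul, Complex.conj_conj, map_one] at h3
    rcases hε with rfl | rfl
    · simpa using h3
    · simp only [map_neg, map_one] at h3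
      linear_combination -h3
  rw [h2]
  rcases hε with rfl | rfl <;> simp <;> norm_num

/-! ### Characters of order two -/

theorem neg_one_ne_one_of_odd (hodd : Odd (Fintype.card F)) : (-1 : F) ≠ 1 := by
  have hchar : ringChar F ≠ 2 := by
    intro h2'
    have := FiniteField.even_card_iff_char_two.mp h2'
    exact (Nat.not_even_iff_odd.mpr hodd) (Nat.even_iff.mpr this)
  exact Ring.neg_one_ne_one_of_char_ne_two hchar

theorem toUnitHom_sq {α : MulChar F ℂ} (h : α = α⁻¹) (a : Fˣ) : (MulChar.toUnitHom α a) ^ 2 = 1 := by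
  apply Units.ext
  rw [Units.val_pow_eq_pow_val, MulChar.coe_toUnitHom, Units.val_one]
  have h1 : α (a : F) = (α (a : F))⁻¹ := by
    conv_lhs => rw [h]
    exact MulChar.inv_apply_eq_inv' α a
  have h0 : α (a : F) ≠ 0 := (IsUnit.map α a.isUnit).ne_zero
  field_simp at h1
  exact h1

theorem toUnitHom_ne_one {α : MulChar F ℂ} (h : α ≠ 1) : MulChar.toUnitHom α ≠ 1 := by
  intro h1
  apply h
  ext a
  rw [← MulChar.coe_toUnitHom, h1, MulChar.one_apply_coe]
  simp

theorem mulChar_order_two_unique {α α' : MulChar F ℂ} (h1 : α = α⁻¹) (h2 : α ≠ 1) (h1' : α' = α'⁻¹)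
    (h2' : α' ≠ 1) : α = α' := by
  have := hom_order_two_unique (toUnitHom_sq h1) (toUnitHom_ne_one h2) (toUnitHom_sq h1') (toUnitHom_ne_one h2')
  ext a
  rw [← MulChar.coe_toUnitHom, this, MulChar.coe_toUnitHom]

theorem sign_alpha (hodd : Odd (Fintype.card F)) {α : MulChar F ℂ} (h1 : α = α⁻¹) (h2 : α ≠ 1) :
    α (-1 : F) = (-1) ^ ((Fintype.card F - 1) / 2) := by
  have hcard : Nat.card Fˣ = 2 * ((Fintype.card F - 1) / 2) := by
    rw [Nat.card_eq_fintype_card, Fintype.card_units]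
    obtain ⟨k, hk⟩ := hodd
    omega
  have hz1 : (-1 : Fˣ) ≠ 1 := by
    intro h
    apply neg_one_ne_one_of_odd hodd
    have := congrArg Units.val h
    simpa using this
  have := hom_order_two_apply (toUnitHom_sq h1) (toUnitHom_ne_one h2) hcard hz1 (by simp)
  have h3 := congrArg Units.val this
  rw [MulChar.coe_toUnitHom] at h3
  simpa using h3

theorem hom_sq {θ : C →* ℂˣ} (h : θ⁻¹ = θ) (c : C) : θ c ^ 2 = 1 := by
  have h1 : (θ c)⁻¹ = θ c := by
    conv_rhs => rw [← h]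
    rfl
  rw [sq]
  nth_rewrite 1 [← h1]
  exact inv_mul_cancel _

theorem hom_order_two_unique' (hC : IsNS C) {θ θ' : C →* ℂˣ} (h1 : θ⁻¹ = θ) (h2 : θ ≠ 1) (h1' : θ'⁻¹ = θ')
    (h2' : θ' ≠ 1) : θ = θ' := by
  have := hC.cyclic
  exact hom_order_two_unique (hom_sq h1) h2 (hom_sq h1') h2'

theorem card_C_even (hodd : Odd (Fintype.card F)) (hC : IsNS C) :
    Nat.card C = 2 * ((Fintype.card F + 1) / 2) := by
  rw [hC.card]
  obtain ⟨k, hk⟩ := hodd
  omega

theorem zm_ne_one (hodd : Odd (Fintype.card F)) (hC : IsNS C) : zm hC ≠ 1 := by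
  intro h
  apply neg_one_ne_one_of_odd hodd
  have h1 := congrArg (fun c : C => (c : SL2 F) 0 0) h
  simpa [zm, Helper46SL2.neg_apply] using h1

theorem sign_theta (hodd : Odd (Fintype.card F)) (hC : IsNS C) {θ : C →* ℂˣ} (h1 : θ⁻¹ = θ) (h2 : θ ≠ 1) :
    ((θ (zm hC) : ℂˣ) : ℂ) = (-1) ^ ((Fintype.card F + 1) / 2) := by
  have := hC.cyclic
  have h3 := hom_order_two_apply (hom_sq h1) h2 (card_C_even hodd hC) (zm_ne_one hodd hC) (zm_sq hC)
  rw [h3]
  simp

theorem sign_opposite (hodd : Odd (Fintype.card F)) :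
    ((-1 : ℂ)) ^ ((Fintype.card F + 1) / 2) = - (-1) ^ ((Fintype.card F - 1) / 2) := by
  obtain ⟨k, hk⟩ := hodd
  rw [show (Fintype.card F + 1) / 2 = (Fintype.card F - 1) / 2 + 1 by omega, pow_succ]
  ring

theorem neg_one_pow_cases (n : ℕ) : ((-1 : ℂ)) ^ n = 1 ∨ ((-1 : ℂ)) ^ n = -1 := neg_one_pow_eq_or ℂ n

/-! ### The difference of two halves -/

theorem inner_sub_add {a b : SL2 F → ℂ} (ha : SIrr (SL2 F) a) (hb : SIrr (SL2 F) b)
    (hab : Cfsg.classInner a b = 0) : Cfsg.classInner (a - b) (a + b) = 0 := by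
  have hba : Cfsg.classInner b a = 0 := by
    rw [← classInner_conj_symm, hab, map_zero]
  rw [classInner_sub_left, classInner_add_right, classInner_add_right, ha.inner_self, hb.inner_self, hab, hba]
  ring

theorem delta_orth (hC : IsNS C) {a b : SL2 F → ℂ} (ha : SIrr (SL2 F) a) (hb : SIrr (SL2 F) b)
    (hab : Cfsg.classInner a b = 0)
    (h1 : Cfsg.classInner (a + b) (1 : SL2 F → ℂ) = 0) (hSt : Cfsg.classInner (a + b) (St (F := F)) = 0)
    (hR : ∀ α : MulChar F ℂ, α ≠ α⁻¹ → Cfsg.classInner (a + b) (RR α) = 0)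
    (hc : ∀ (θ : C →* ℂˣ) (α : MulChar F ℂ), Compat θ α → θ⁻¹ ≠ θ → Cfsg.classInner (a + b) (cusp θ α) = 0)
    (hR0 : ∀ α : MulChar F ℂ, α = α⁻¹ → α ≠ 1 → Cfsg.classInner (a - b) (RR α) = 0)
    (hc0 : ∀ (θ : C →* ℂˣ) (α : MulChar F ℂ), Compat θ α → θ⁻¹ = θ → θ ≠ 1 →
      Cfsg.classInner (a - b) (cusp θ α) = 0) :
    (∀ α : MulChar F ℂ, Cfsg.classInner (a - b) (RR α) = 0) ∧
    (∀ (θ : C →* ℂˣ) (α : MulChar F ℂ), Compat θ α → Cfsg.classInner (a - b) (cusp θ α) = 0) := by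
  have k1 := orth_split ha hb hab (Or.inl one_irr) h1
  have kSt := orth_split ha hb hab (Or.inl St_irr) hSt
  constructor
  · intro α
    by_cases e1 : α = α⁻¹
    · by_cases e2 : α = 1
      · subst e2
        rw [RR_one_eq, classInner_sub_left, classInner_add_right, classInner_add_right, k1.1, k1.2, kSt.1, kSt.2]
        ring
      · exact hR0 α e1 e2
    · have := orth_split ha hb hab (Or.inl (RR_irr e1)) (hR α e1)
      rw [classInner_sub_left, this.1, this.2, sub_zero]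
  · intro θ α hθα
    by_cases e1 : θ⁻¹ = θ
    · by_cases e2 : θ = 1
      · subst e2
        rw [cusp_triv hC hθα, classInner_sub_left, classInner_sub_right, classInner_sub_right, k1.1, k1.2,
          kSt.1, kSt.2]
        ring
      · exact hc0 θ α hθα e1 e2
    · have := orth_split ha hb hab (Or.inl (cusp_irr hC hθα e1)) (hc θ α hθα e1)
      rw [classInner_sub_left, this.1, this.2, sub_zero]

/-- The decomposition of a function into two irreducible halves agreeing on all semisimple elements. -/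
structure Halves (C : Subgroup (SL2 F)) (Θ ξ₁ ξ₂ : SL2 F → ℂ) : Prop where
  irr1 : Cfsg.IsIrrCharacter (SL2 F) ξ₁
  irr2 : Cfsg.IsIrrCharacter (SL2 F) ξ₂
  ne : ξ₁ ≠ ξ₂
  sum : Θ = ξ₁ + ξ₂
  onC : ∀ c : C, ξ₁ c = ξ₂ c
  onD : ∀ (a : Fˣ) (e : F), (a : F) ^ 2 ≠ 1 → ξ₁ (mB (a, e) : SL2 F) = ξ₂ (mB (a, e) : SL2 F)
  onU : ∀ a : Fˣ, ∑ e : F, ξ₁ (mB (a, e) : SL2 F) = ∑ e : F, ξ₂ (mB (a, e) : SL2 F)

theorem Halves.symm {Θ ξ₁ ξ₂ : SL2 F → ℂ} (h : Halves C Θ ξ₁ ξ₂) : Halves C Θ ξ₂ ξ₁ :=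
  ⟨h.irr2, h.irr1, h.ne.symm, by rw [h.sum, add_comm], fun c => (h.onC c).symm,
    fun a e ha => (h.onD a e ha).symm, fun a => (h.onU a).symm⟩

theorem halves_of_delta (hC : IsNS C) {Θ a b : SL2 F → ℂ} (ha : SIrr (SL2 F) a) (hb : SIrr (SL2 F) b)
    (hab : Cfsg.classInner a b = 0) (hsum : Θ = a + b) (d : ℕ) (hd : Θ 1 = 2 * (d : ℂ))
    (h1 : ∀ α : MulChar F ℂ, Cfsg.classInner (a - b) (RR α) = 0)
    (h2 : ∀ (θ : C →* ℂˣ) (α : MulChar F ℂ), Compat θ α → Cfsg.classInner (a - b) (cusp θ α) = 0) :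
    Halves C Θ a b := by
  obtain ⟨v1, v2, v3⟩ := vanishing hC (a - b)
    (IsClassFunction.sub (gen_isClassFunction ha.gen) (gen_isClassFunction hb.gen)) h1 h2
  have e1 : a 1 = b 1 := by
    have := v3 1
    simp only [Pi.sub_apply, OneMemClass.coe_one] at this
    linear_combination this
  have e2 : a 1 + b 1 = 2 * (d : ℂ) := by
    rw [← hd, hsum]
    rfl
  have ia : Cfsg.IsIrrCharacter (SL2 F) a := irr_of_SIrr_of_pos ha d (by linear_combination (1 / 2 : ℂ) * e2 + (1 / 2 : ℂ) * e1)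
  have ib : Cfsg.IsIrrCharacter (SL2 F) b := irr_of_SIrr_of_pos hb d (by linear_combination (1 / 2 : ℂ) * e2 - (1 / 2 : ℂ) * e1)
  refine ⟨ia, ib, ?_, hsum, ?_, ?_, ?_⟩
  · intro h
    rw [h, classInner_irr_self ib] at hab
    exact one_ne_zero hab
  · intro c
    have := v3 c
    simp only [Pi.sub_apply] at this
    linear_combination this
  · intro x e hx
    have := v2 x e hx
    simp only [Pi.sub_apply] at this
    linear_combination this
  · intro x
    have := v1 x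
    simp only [Pi.sub_apply, Finset.sum_sub_distrib] at this
    linear_combination this

theorem inner_sum_left_ne_zero {a b : SL2 F → ℂ} (ha : SIrr (SL2 F) a) (hb : SIrr (SL2 F) b)
    (hab : Cfsg.classInner a b = 0) :
    Cfsg.classInner (a + b) a ≠ 0 ∧ Cfsg.classInner (a + b) b ≠ 0 := by
  have hba : Cfsg.classInner b a = 0 := by
    rw [← classInner_conj_symm, hab, map_zero]
  rw [classInner_add_left, classInner_add_left, ha.inner_self, hb.inner_self, hab, hba]
  simp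

theorem halves_RR (hodd : Odd (Fintype.card F)) (hC : IsNS C) {α₀ : MulChar F ℂ} (h1 : α₀ = α₀⁻¹)
    (h2 : α₀ ≠ 1) : ∃ ξ₁ ξ₂ : SL2 F → ℂ, Halves C (RR α₀) ξ₁ ξ₂ := by
  classical
  obtain ⟨a, b, ha, hb, hab, hsum⟩ := gen_norm_two (gen_of_char (RR_isCharacter α₀))
    (by rw [inner_RR, if_pos rfl, if_pos h1]; norm_num)
  refine ⟨a, b, ?_⟩
  have hne := inner_sum_left_ne_zero ha hb hab
  have hε := neg_one_pow_cases ((Fintype.card F - 1) / 2)
  obtain ⟨d1, d2⟩ := delta_orth hC ha hb hab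
    (by rw [← hsum, inner_RR_one, if_neg h2])
    (by
      rw [← hsum]
      unfold St
      rw [classInner_sub_right, inner_RR, inner_RR_one, if_neg h2, if_neg (by rwa [inv_one])]
      ring)
    (by
      intro α hα
      rw [← hsum, inner_RR, if_neg, if_neg, add_zero]
      · intro h
        apply hα
        have h3 : α = α₀ := by rw [h1, h, inv_inv]
        rw [h3]
        exact h1
      · intro h
        apply hα
        rw [← h]
        exact h1)
    (by
      intro θ α hθα _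
      rw [← hsum, ← classInner_conj_symm, inner_cusp_RR hC hθα, map_zero])
    (by
      intro α e1 e2
      rw [mulChar_order_two_unique e1 e2 h1 h2, hsum]
      exact inner_sub_add ha hb hab)
    (by
      intro θ α hθα e1 e2
      have hs : ∀ g, cusp θ α (-g) = -(-1) ^ ((Fintype.card F - 1) / 2) * cusp θ α g := by
        intro g
        rw [cusp_neg hC hθα, (compat_iff hC θ α).mp hθα, sign_theta hodd hC e1 e2, sign_opposite hodd]
      have hr : ∀ g, (a + b) (-g) = (-1) ^ ((Fintype.card F - 1) / 2) * (a + b) g := by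
        intro g
        rw [← hsum, RR_neg, sign_alpha hodd h1 h2]
      rw [classInner_sub_left, inner_eq_zero_of_sign hε ha hr hs hne.1,
        inner_eq_zero_of_sign hε hb hr hs hne.2, sub_zero])
  apply halves_of_delta hC ha hb hab hsum ((Fintype.card F + 1) / 2) _ d1 d2
  rw [RR_one]
  obtain ⟨k, hk⟩ := hodd
  rw [show (Fintype.card F + 1) / 2 = k + 1 by omega, hk]
  push_cast
  ring

theorem compat_one_one (hC : IsNS C) : Compat (1 : C →* ℂˣ) (1 : MulChar F ℂ) := by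
  rw [compat_iff hC, MulChar.one_apply (IsUnit.neg isUnit_one)]
  simp

theorem halves_cusp (hodd : Odd (Fintype.card F)) (hC : IsNS C) {θ₀ : C →* ℂˣ} {β₀ : MulChar F ℂ}
    (hcomp : Compat θ₀ β₀) (h1 : θ₀⁻¹ = θ₀) (h2 : θ₀ ≠ 1) :
    ∃ η₁ η₂ : SL2 F → ℂ, Halves C (cusp θ₀ β₀) η₁ η₂ := by
  classical
  obtain ⟨a, b, ha, hb, hab, hsum⟩ := gen_norm_two (cusp_gen θ₀ β₀)
    (by rw [inner_cusp_cusp hC hcomp hcomp, if_pos rfl, if_pos h1]; norm_num)
  refine ⟨a, b, ?_⟩
  have hne := inner_sum_left_ne_zero ha hb hab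
  have hε := neg_one_pow_cases ((Fintype.card F + 1) / 2)
  have k1 : Cfsg.classInner (cusp θ₀ β₀) (1 + St) = 0 := by
    rw [← RR_one_eq]
    exact inner_cusp_RR hC hcomp 1
  have k2 : Cfsg.classInner (cusp θ₀ β₀) (St - 1) = 0 := by
    rw [← cusp_triv hC (compat_one_one hC), inner_cusp_cusp hC hcomp (compat_one_one hC), if_neg h2,
      if_neg (by rw [h1]; exact h2), add_zero]
  rw [classInner_add_right] at k1
  rw [classInner_sub_right] at k2
  obtain ⟨d1, d2⟩ := delta_orth hC ha hb hab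
    (by rw [← hsum]; linear_combination (1 / 2 : ℂ) * k1 - (1 / 2 : ℂ) * k2)
    (by rw [← hsum]; linear_combination (1 / 2 : ℂ) * k1 + (1 / 2 : ℂ) * k2)
    (by
      intro α _
      rw [← hsum]
      exact inner_cusp_RR hC hcomp α)
    (by
      intro θ α hθα hθ
      rw [← hsum, inner_cusp_cusp hC hcomp hθα, if_neg, if_neg, add_zero]
      · intro h
        apply hθ
        rw [← h, h1, h1]
      · intro h
        apply hθ
        rw [← h, h1])
    (by
      intro α e1 e2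
      have hs : ∀ g, RR α (-g) = -(-1) ^ ((Fintype.card F + 1) / 2) * RR α g := by
        intro g
        rw [RR_neg, sign_alpha hodd e1 e2, sign_opposite hodd, neg_neg]
      have hr : ∀ g, (a + b) (-g) = (-1) ^ ((Fintype.card F + 1) / 2) * (a + b) g := by
        intro g
        rw [← hsum, cusp_neg hC hcomp, (compat_iff hC θ₀ β₀).mp hcomp, sign_theta hodd hC h1 h2]
      rw [classInner_sub_left, inner_eq_zero_of_sign hε ha hr hs hne.1,
        inner_eq_zero_of_sign hε hb hr hs hne.2, sub_zero])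
    (by
      intro θ α hθα e1 e2
      have e3 := hom_order_two_unique' hC e1 e2 h1 h2
      subst e3
      rw [cusp_congr hC hθα hcomp, hsum]
      exact inner_sub_add ha hb hab)
  apply halves_of_delta hC ha hb hab hsum ((Fintype.card F - 1) / 2) _ d1 d2
  rw [cusp_one hC hcomp]
  obtain ⟨k, hk⟩ := hodd
  rw [show (Fintype.card F - 1) / 2 = k by omega, show Fintype.card F - 1 = 2 * k by omega]
  push_cast
  ring

theorem Halves.eq_or_eq {Θ ξ₁ ξ₂ χ : SL2 F → ℂ} (h : Halves C Θ ξ₁ ξ₂) (hχ : Cfsg.IsIrrCharacter (SL2 F) χ)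
    (hne : Cfsg.classInner χ Θ ≠ 0) : χ = ξ₁ ∨ χ = ξ₂ := by
  rw [h.sum, classInner_add_right] at hne
  by_cases h1 : Cfsg.classInner χ ξ₁ = 0
  · right
    apply irr_eq_of_inner_ne_zero hχ h.irr2
    intro h2
    rw [h1, h2] at hne
    simp at hne
  · left
    exact irr_eq_of_inner_ne_zero hχ h.irr1 h1

theorem Halves.exists_of_inner {Θ ξ₁ ξ₂ χ : SL2 F → ℂ} (h : Halves C Θ ξ₁ ξ₂)
    (hχ : Cfsg.IsIrrCharacter (SL2 F) χ) (hne : Cfsg.classInner χ Θ ≠ 0) : ∃ χ', Halves C Θ χ χ' := by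
  rcases h.eq_or_eq hχ hne with rfl | rfl
  · exact ⟨_, h⟩
  · exact ⟨_, h.symm⟩

theorem Halves.two_mul_C {Θ ξ₁ ξ₂ : SL2 F → ℂ} (h : Halves C Θ ξ₁ ξ₂) (c : C) : 2 * ξ₁ c = Θ c := by
  rw [h.sum, Pi.add_apply, ← h.onC c]
  ring

theorem Halves.two_mul_D {Θ ξ₁ ξ₂ : SL2 F → ℂ} (h : Halves C Θ ξ₁ ξ₂) (a : Fˣ) (e : F) (ha : (a : F) ^ 2 ≠ 1) :
    2 * ξ₁ (mB (a, e) : SL2 F) = Θ (mB (a, e) : SL2 F) := by
  rw [h.sum, Pi.add_apply, ← h.onD a e ha]
  ring

theorem Halves.two_mul_U {Θ ξ₁ ξ₂ : SL2 F → ℂ} (h : Halves C Θ ξ₁ ξ₂) (a : Fˣ) :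
    2 * ∑ e : F, ξ₁ (mB (a, e) : SL2 F) = ∑ e : F, Θ (mB (a, e) : SL2 F) := by
  rw [h.sum]
  simp only [Pi.add_apply, Finset.sum_add_distrib]
  rw [← h.onU a]
  ring

theorem Halves.two_mul_one {Θ ξ₁ ξ₂ : SL2 F → ℂ} (h : Halves C Θ ξ₁ ξ₂) : 2 * ξ₁ 1 = Θ 1 :=
  h.two_mul_C 1

theorem Halves.two_mul_noEig (hC : IsNS C) {Θ ξ₁ ξ₂ : SL2 F → ℂ} (h : Halves C Θ ξ₁ ξ₂) {g : SL2 F}
    (hg : NoEig g) : 2 * ξ₁ g = Θ g := by
  obtain ⟨c, x, hc, -⟩ := exists_conj_C hC hg
  have hΘ : Cfsg.IsClassFunction (SL2 F) Θ := by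
    rw [h.sum]
    exact IsClassFunction.add (IsIrrCharacter.isClassFunction h.irr1) (IsIrrCharacter.isClassFunction h.irr2)
  rw [← IsIrrCharacter.isClassFunction h.irr1 g x, ← hΘ g x, hc]
  exact h.two_mul_C c

end Cfsg.Agent.Lib.Helper46SL2CharE
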