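import Cfsg.Agent.Lib.Helper46SL2CharF

/-!
# Characters of `SL₂(q)`, part G: values of the characters of half degree on semisimple elements
-/

set_option autoImplicit false
set_option linter.unusedSectionVars false
set_option linter.unusedSimpArgs false
set_option linter.unusedVariables false

namespace Cfsg.Agent.Lib.Helper46SL2CharG

open Cfsg.Agent.Lib.Helper46SL2 Cfsg.Agent.Lib.Helper46Borel Cfsg.Agent.S2432
open Cfsg.Agent.Lib.Helper4Char Cfsg.Agent.Lib.Helper4Char2 Cfsg.Agent.Lib.Helper4Char4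
open Cfsg.Agent.Lib.Helper46SL2CharA Cfsg.Agent.Lib.Helper32Virt Cfsg.Agent.Lib.Helper46SL2CharD
open Cfsg.Agent.Lib.Helper46SL2CharB Cfsg.Agent.Lib.Helper46SL2CharC Cfsg.Agent.Lib.Helper46Fourier
open Cfsg.Agent.Lib.Helper46SL2CharE Cfsg.Agent.Lib.Helper46SL2CharF
open scoped ComplexConjugate

local notation "SL2" => Matrix.SpecialLinearGroup (Fin 2)

variable {F : Type*} [Field F] [Fintype F] [DecidableEq F]

local notation "q" => (Fintype.card F : ℂ)

theorem ringChar_ne_two (hodd : Odd (Fintype.card F)) : ringChar F ≠ 2 := by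
  intro h2'
  have := FiniteField.even_card_iff_char_two.mp h2'
  exact (Nat.not_even_iff_odd.mpr hodd) (Nat.even_iff.mpr this)

theorem alpha_eq_one_iff (hodd : Odd (Fintype.card F)) {α : MulChar F ℂ} (h1 : α = α⁻¹) (h2 : α ≠ 1) (a : Fˣ) :
    α (a : F) = 1 ↔ IsSquare (a : F) := by
  have hcard : Nat.card Fˣ = 2 * ((Fintype.card F - 1) / 2) := by
    rw [Nat.card_eq_fintype_card, Fintype.card_units]
    obtain ⟨k, hk⟩ := hodd
    omega
  have h3 := hom_order_two_eq_one_iff (toUnitHom_sq h1) (toUnitHom_ne_one h2) hcard a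
  rw [FiniteField.isSquare_iff (ringChar_ne_two hodd) a.ne_zero]
  have e : Fintype.card F / 2 = (Fintype.card F - 1) / 2 := by
    obtain ⟨k, hk⟩ := hodd
    omega
  rw [e, ← MulChar.coe_toUnitHom, ← Units.val_pow_eq_pow_val, Units.val_eq_one, Units.val_eq_one]
  exact h3

theorem alpha_eq_neg_one (hodd : Odd (Fintype.card F)) {α : MulChar F ℂ} (h1 : α = α⁻¹) (h2 : α ≠ 1) (a : Fˣ)
    (ha : ¬ IsSquare (a : F)) : α (a : F) = -1 := by
  rcases units_sq_eq_one (toUnitHom_sq h1 a) with h | h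
  · exfalso
    apply ha
    rw [← alpha_eq_one_iff hodd h1 h2, ← MulChar.coe_toUnitHom, h]
    simp
  · rw [← MulChar.coe_toUnitHom, h]
    simp

theorem alpha_inv {α : MulChar F ℂ} (h1 : α = α⁻¹) (a : F) : α a⁻¹ = α a := by
  rw [← MulChar.inv_apply', ← h1]

variable {C : Subgroup (SL2 F)}

theorem halfP_D {α : MulChar F ℂ} {χ χ' : SL2 F → ℂ} (h1 : α = α⁻¹) (hh : Halves C (RR α) χ χ') (a : Fˣ) (e : F)
    (ha : (a : F) ^ 2 ≠ 1) : χ (mB (a, e) : SL2 F) = α (a : F) := by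
  have := hh.two_mul_D a e ha
  rw [RR_mB_of_sq_ne α a e ha, alpha_inv h1] at this
  linear_combination (1 / 2 : ℂ) * this

theorem halfP_noEig (hC : IsNS C) {α : MulChar F ℂ} {χ χ' : SL2 F → ℂ} (hh : Halves C (RR α) χ χ') {g : SL2 F}
    (hg : NoEig g) : χ g = 0 := by
  have := hh.two_mul_noEig hC hg
  rw [RR_noEig α hg] at this
  linear_combination (1 / 2 : ℂ) * this

theorem halfC_D (hC : IsNS C) {θ : C →* ℂˣ} {α : MulChar F ℂ} {χ χ' : SL2 F → ℂ}
    (hh : Halves C (cusp θ α) χ χ') (a : Fˣ) (e : F) (ha : (a : F) ^ 2 ≠ 1) : χ (mB (a, e) : SL2 F) = 0 := by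
  have := hh.two_mul_D a e ha
  rw [cusp_mB_of_sq_ne hC θ α a e ha] at this
  linear_combination (1 / 2 : ℂ) * this

theorem theta_inv {θ : C →* ℂˣ} (h1 : θ⁻¹ = θ) (c : C) : θ c⁻¹ = θ c := by
  rw [map_inv]
  conv_rhs => rw [← h1]
  rfl

theorem halfC_C (hC : IsNS C) {θ : C →* ℂˣ} {α : MulChar F ℂ} {χ χ' : SL2 F → ℂ} (h1 : θ⁻¹ = θ)
    (hh : Halves C (cusp θ α) χ χ') (c : C) (hcz : (c : SL2 F) ∉ Subgroup.center (SL2 F)) :
    χ c = -((θ c : ℂˣ) : ℂ) := by
  have := hh.two_mul_C c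
  rw [cusp_mem hC θ α c hcz, theta_inv h1] at this
  linear_combination (1 / 2 : ℂ) * this

theorem theta_eq_one_iff (hodd : Odd (Fintype.card F)) (hC : IsNS C) {θ : C →* ℂˣ} (h1 : θ⁻¹ = θ) (h2 : θ ≠ 1)
    (c : C) : θ c = 1 ↔ c ^ ((Fintype.card F + 1) / 2) = 1 := by
  have := hC.cyclic
  exact hom_order_two_eq_one_iff (hom_sq h1) h2 (card_C_even hodd hC) c

theorem theta_eq_neg_one (hodd : Odd (Fintype.card F)) (hC : IsNS C) {θ : C →* ℂˣ} (h1 : θ⁻¹ = θ) (h2 : θ ≠ 1)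
    (c : C) (hc : c ^ ((Fintype.card F + 1) / 2) ≠ 1) : θ c = -1 := by
  rcases units_sq_eq_one (hom_sq h1 c) with h | h
  · exact absurd ((theta_eq_one_iff hodd hC h1 h2 c).mp h) hc
  · exact h

end Cfsg.Agent.Lib.Helper46SL2CharG
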