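import Cfsg.Agent.Lib.Helper46SL2CharG

/-!
# Characters of `SL₂(q)`, part H: the special case `q = 3`, existence of characters of the tori
-/

set_option autoImplicit false
set_option linter.unusedSectionVars false
set_option linter.unusedSimpArgs false
set_option linter.unusedVariables false

namespace Cfsg.Agent.Lib.Helper46SL2CharH

open Cfsg.Agent.Lib.Helper46SL2 Cfsg.Agent.Lib.Helper46Borel Cfsg.Agent.S2432
open Cfsg.Agent.Lib.Helper4Char Cfsg.Agent.Lib.Helper4Char2 Cfsg.Agent.Lib.Helper4Char4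
open Cfsg.Agent.Lib.Helper46SL2CharA Cfsg.Agent.Lib.Helper32Virt Cfsg.Agent.Lib.Helper46SL2CharD
open Cfsg.Agent.Lib.Helper46SL2CharB Cfsg.Agent.Lib.Helper46SL2CharC Cfsg.Agent.Lib.Helper46Fourier
open Cfsg.Agent.Lib.Helper46SL2CharE Cfsg.Agent.Lib.Helper46SL2CharF Cfsg.Agent.Lib.Helper46SL2CharG
open scoped ComplexConjugate

local notation "SL2" => Matrix.SpecialLinearGroup (Fin 2)

variable {F : Type*} [Field F] [Fintype F] [DecidableEq F]

local notation "q" => (Fintype.card F : ℂ)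

theorem two_ne_zero_of_odd (hodd : Odd (Fintype.card F)) : (2 : F) ≠ 0 := by
  intro h
  apply neg_one_ne_one_of_odd hodd
  linear_combination -h

theorem unit_sq_of_card_three (hq : Fintype.card F = 3) (a : Fˣ) : (a : F) ^ 2 = 1 := by
  have := pow_card_eq_one (x := a)
  rw [Fintype.card_units, hq] at this
  have h2 := congrArg Units.val this
  simpa using h2

variable {C : Subgroup (SL2 F)}

theorem theta_add_inv_of_card_three (hq : Fintype.card F = 3) (hC : IsNS C) {θ : C →* ℂˣ} (hθ : θ⁻¹ ≠ θ)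
    (c : C) (hcz : (c : SL2 F) ∉ Subgroup.center (SL2 F)) :
    ((θ c : ℂˣ) : ℂ) + ((θ c⁻¹ : ℂˣ) : ℂ) = 0 := by
  have hodd : Odd (Fintype.card F) := by rw [hq]; decide
  have hcard : Nat.card C = 4 := by rw [hC.card, hq]
  have hc2 : ¬ c ^ 2 ^ 1 = 1 := by
    intro h
    apply hcz
    rw [mem_center_iff_eq, ← Cfsg.Agent.Lib.Helper46Tori.mul_self_eq_one_iff (two_ne_zero_of_odd hodd)]
    have := congrArg Subtype.val h
    simpa [sq] using this
  have hc4 : c ^ 2 ^ (1 + 1) = 1 := by
    have := pow_card_eq_one' (x := c)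
    rwa [hcard] at this
  have hord : orderOf c = 2 ^ (1 + 1) := orderOf_eq_prime_pow hc2 hc4
  have htop : Subgroup.zpowers c = ⊤ := by
    apply Subgroup.eq_top_of_card_eq
    rw [Nat.card_zpowers, hord, hcard]
    norm_num
  have hu4 : (θ c) ^ 4 = 1 := by
    rw [← map_pow]
    have : c ^ 4 = 1 := by simpa using hc4
    rw [this, map_one]
  have hu2 : (θ c) ^ 2 ≠ 1 := by
    intro h
    apply hθ
    ext x
    have hx : x ∈ Subgroup.zpowers c := by rw [htop]; trivial
    obtain ⟨k, rfl⟩ := Subgroup.mem_zpowers_iff.mp hx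
    have h3 : (θ c)⁻¹ = θ c := by
      rw [inv_eq_iff_mul_eq_one, ← sq, h]
    rw [MonoidHom.inv_apply, map_zpow, ← inv_zpow, h3]
  have hu : (θ c) ^ 2 = -1 := by
    rcases units_sq_eq_one (u := (θ c) ^ 2) (by rw [← pow_mul]; exact hu4) with h | h
    · exact absurd h hu2
    · exact h
  have hu' : ((θ c : ℂˣ) : ℂ) ^ 2 = -1 := by
    have := congrArg Units.val hu
    simpa using this
  rw [map_inv, Units.val_inv_eq_inv_val]
  have hne : ((θ c : ℂˣ) : ℂ) ≠ 0 := Units.ne_zero _
  field_simp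
  linear_combination hu'

end Cfsg.Agent.Lib.Helper46SL2CharH
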