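import Cfsg.Agent.Lib.Helper46SL2CharH

/-!
# Characters of `SL₂(q)`, part I: every cyclic subgroup of order `q + 1` is a non-split torus
-/

set_option autoImplicit false
set_option linter.unusedSectionVars false
set_option linter.unusedSimpArgs false
set_option linter.unusedVariables false

namespace Cfsg.Agent.Lib.Helper46SL2CharI

open Cfsg.Agent.Lib.Helper46SL2 Cfsg.Agent.Lib.Helper46Borel Cfsg.Agent.S2432
open Cfsg.Agent.Lib.Helper46SL2CharA Cfsg.Agent.Lib.Helper46SL2CharB Cfsg.Agent.Lib.Helper46ToriNS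
open Cfsg.Agent.Lib.Helper46Tori2

local notation "SL2" => Matrix.SpecialLinearGroup (Fin 2)

variable {F : Type*} [Field F] [Fintype F]

theorem conj_mem_center_iff' (g x : SL2 F) :
    x * g * x⁻¹ ∈ Subgroup.center (SL2 F) ↔ g ∈ Subgroup.center (SL2 F) := by
  constructor
  · intro h
    have := (Subgroup.center (SL2 F)).normal_of_characteristic.conj_mem _ h x⁻¹
    have e : x⁻¹ * (x * g * x⁻¹) * x⁻¹⁻¹ = g := by group
    rwa [e] at this
  · intro h
    exact (Subgroup.center (SL2 F)).normal_of_characteristic.conj_mem _ h x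

/-- Conjugates of non-split tori (written as centralisers) are non-split tori. -/
theorem IsNS.conj {A : SL2 F} (h : IsNS (Subgroup.centralizer {A} : Subgroup (SL2 F))) (x : SL2 F) :
    IsNS (Subgroup.centralizer {x * A * x⁻¹} : Subgroup (SL2 F)) := by
  have htor : IsTorus (Subgroup.centralizer {A} : Subgroup (SL2 F)) (Fintype.card F + 1) :=
    ⟨h.comm, h.cyclic, h.card, h.card_normalizer⟩
  obtain ⟨t1, t2, t3, t4⟩ := htor.conj x
  have hback : ∀ c : SL2 F, c ∈ Subgroup.centralizer {x * A * x⁻¹} ↔ x⁻¹ * c * x ∈ Subgroup.centralizer {A} := by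
    intro c
    rw [mem_centralizer_conj_iff x A (x⁻¹ * c * x)]
    have : x * (x⁻¹ * c * x) * x⁻¹ = c := by group
    rw [this]
  have hz : ∀ c : SL2 F, x⁻¹ * c * x ∈ Subgroup.center (SL2 F) ↔ c ∈ Subgroup.center (SL2 F) := by
    intro c
    have := conj_mem_center_iff' c x⁻¹
    rwa [inv_inv] at this
  refine ⟨t1, t2, t3, Subgroup.center_le_centralizer _, ?_, ?_, t4, ?_, ?_⟩
  · intro c hc hcz
    have h1 := h.noEig _ ((hback c).mp hc) (fun hh => hcz ((hz c).mp hh))
    have h2 := h1.conj x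
    have e : x * (x⁻¹ * c * x) * x⁻¹ = c := by group
    rwa [e] at h2
  · intro c hc hcz
    have h1 := h.cent _ ((hback c).mp hc) (fun hh => hcz ((hz c).mp hh))
    ext y
    rw [hback y, ← h1, mem_centralizer_conj_iff x (x⁻¹ * c * x) (x⁻¹ * y * x)]
    have e1 : x * (x⁻¹ * c * x) * x⁻¹ = c := by group
    have e2 : x * (x⁻¹ * y * x) * x⁻¹ = y := by group
    rw [e1, e2]
  · intro n hn hnC c hc
    have hn' : x⁻¹ * n * x ∈ Subgroup.normalizer ((Subgroup.centralizer {A} : Subgroup (SL2 F)) : Set (SL2 F)) := by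
      rw [mem_normalizer_centralizer_conj_iff x A]
      have e2 : x * (x⁻¹ * n * x) * x⁻¹ = n := by group
      rwa [e2]
    have h1 := h.inverted _ hn' (fun hh => hnC ((hback n).mpr hh)) _ ((hback c).mp hc)
    calc n * c * n⁻¹ = x * ((x⁻¹ * n * x) * (x⁻¹ * c * x) * (x⁻¹ * n * x)⁻¹) * x⁻¹ := by group
      _ = x * (x⁻¹ * c * x)⁻¹ * x⁻¹ := by rw [h1]
      _ = c⁻¹ := by group
  · intro g hg
    obtain ⟨y, hy⟩ := h.exists_conj g hg
    refine ⟨x * y, ?_⟩
    rw [hback]
    have e : x⁻¹ * (x * y * g * (x * y)⁻¹) * x = y * g * y⁻¹ := by group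
    rwa [e]

local notation "φ" => algebraMap F (AlgebraicClosure F)

/-- Every cyclic subgroup of order `q + 1` is a non-split torus. -/
theorem isNS_of_cyclic (C : Subgroup (SL2 F)) (hC : IsCyclic C) (hcard : Nat.card C = Fintype.card F + 1) :
    IsNS C := by
  have h2 : 2 ≤ Fintype.card F := Fintype.one_lt_card
  obtain ⟨c0, hc0⟩ := hC.exists_generator
  have hord : orderOf (c0 : SL2 F) = Fintype.card F + 1 := by
    rw [Subgroup.orderOf_coe, orderOf_eq_card_of_forall_mem_zpowers hc0, hcard]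
  obtain ⟨t0, z, hzord, hz0, hsum⟩ := exists_nonsplit (F := F)
  have hT := isNS_T hzord hz0 hsum
  -- the generator is conjugate to an element of the standard torus
  have hconj : ∃ (i : ℕ) (x : SL2 F), x * (stdA t0 ^ i) * x⁻¹ = (c0 : SL2 F) ∧
      stdA t0 ^ i ∉ Subgroup.center (SL2 F) := by
    rcases eigen_cases (tr (c0 : SL2 F)) with ⟨a, ha0, ha⟩ | ⟨l, hl0, hl, hlq, hl2, -⟩
    · exfalso
      by_cases ha2 : a ^ 2 = 1
      · have htr : tr (c0 : SL2 F) ^ 2 = 4 := by
          rw [← ha]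
          field_simp
          rw [show a ^ 2 = 1 from ha2]
          norm_num
        have := orderOf_dvd_of_pow_eq_one (pow_two_card_eq_one (c0 : SL2 F) htr)
        rw [hord] at this
        have h3 : Fintype.card F + 1 ∣ 2 := by
          have h4 : Fintype.card F + 1 ∣ 2 * (Fintype.card F + 1) := Dvd.intro_left 2 rfl
          have := (Nat.dvd_sub h4 this)
          rwa [show 2 * (Fintype.card F + 1) - 2 * Fintype.card F = 2 by omega] at this
        have := Nat.le_of_dvd (by norm_num) h3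
        omega
      · obtain ⟨y, hy⟩ := isConj_iff.mp (isConj_dg a ha0 ha2 ha.symm)
        have hpow : (c0 : SL2 F) ^ (Fintype.card F - 1) = 1 := by
          have e : (c0 : SL2 F) = y⁻¹ * dg a ha0 * y⁻¹⁻¹ := by rw [← hy]; group
          rw [e, conj_pow, dg_pow]
          have : a ^ (Fintype.card F - 1) = 1 := FiniteField.pow_card_sub_one_eq_one a ha0
          rw [dg_congr _ one_ne_zero this, dg_one]
          group
        have := orderOf_dvd_of_pow_eq_one hpow
        rw [hord] at this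
        have := Nat.le_of_dvd (by omega) this
        omega
    · obtain ⟨i, hi⟩ := exists_pow_tr_eq hzord hz0 hsum (tr (c0 : SL2 F)) l hl0 hl hlq
      have h4 : tr (c0 : SL2 F) ^ 2 ≠ 4 := by
        intro h
        apply add_inv_sq_ne_four hl0 hl2
        rw [hl, ← map_pow, h]
        exact map_ofNat φ 4
      obtain ⟨y, hy⟩ := isConj_iff.mp (isConj_of_tr_eq hi (hi ▸ h4))
      exact ⟨i, y, hy, not_mem_center_of_tr (hi ▸ h4)⟩
  obtain ⟨i, x, hx, hiz⟩ := hconj
  have hcent : Subgroup.centralizer {stdA t0 ^ i} = (Subgroup.centralizer {stdA t0} : Subgroup (SL2 F)) :=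
    centralizer_eq_of_inC (inC_pow (inC_stdA t0) i) hiz
  have hNS : IsNS (Subgroup.centralizer {stdA t0 ^ i} : Subgroup (SL2 F)) := by rw [hcent]; exact hT
  have hNS' := IsNS.conj hNS x
  rw [hx] at hNS'
  have hle : C ≤ Subgroup.centralizer {(c0 : SL2 F)} := by
    intro c hc
    rw [Subgroup.mem_centralizer_singleton_iff]
    obtain ⟨k, hk⟩ := Subgroup.mem_zpowers_iff.mp (hc0 ⟨c, hc⟩)
    have : c = (c0 : SL2 F) ^ k := by
      have := congrArg Subtype.val hk
      simpa using this.symm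
    rw [this]
    exact (Commute.zpow_self (c0 : SL2 F) k).eq
  have heq : C = Subgroup.centralizer {(c0 : SL2 F)} := by
    apply Subgroup.eq_of_le_of_card_ge hle
    rw [hNS'.card, hcard]
  rw [heq]
  exact hNS'

end Cfsg.Agent.Lib.Helper46SL2CharI
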