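import Cfsg.Agent.Lib.Helper46SL2CharJ

/-!
# Characters of `SL₂(q)`, part K: the diagonal automorphism swaps the characters of half degree
-/

set_option autoImplicit false
set_option linter.unusedSectionVars false
set_option linter.unusedSimpArgs false
set_option linter.unusedVariables false

namespace Cfsg.Agent.Lib.Helper46SL2CharK

open Cfsg.Agent.Lib.Helper46SL2 Cfsg.Agent.Lib.Helper46Borel Cfsg.Agent.S2432
open Cfsg.Agent.Lib.Helper4Char Cfsg.Agent.Lib.Helper4Char2 Cfsg.Agent.Lib.Helper4Char4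
open Cfsg.Agent.Lib.Helper46SL2CharA Cfsg.Agent.Lib.Helper32Virt Cfsg.Agent.Lib.Helper46SL2CharD
open Cfsg.Agent.Lib.Helper46SL2CharB Cfsg.Agent.Lib.Helper46SL2CharC Cfsg.Agent.Lib.Helper46Fourier
open Cfsg.Agent.Lib.Helper46SL2CharE Cfsg.Agent.Lib.Helper46SL2CharF Cfsg.Agent.Lib.Helper46SL2CharG
open Cfsg.Agent.Lib.Helper46SL2CharH Cfsg.Agent.Lib.Helper46SL2CharJ
open scoped ComplexConjugate

local notation "SL2" => Matrix.SpecialLinearGroup (Fin 2)

variable {F : Type*} [Field F]

/-- Conjugation by `diag(ν, 1)`. -/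
def sg (ν : Fˣ) (g : SL2 F) : SL2 F :=
  mk2 (g 0 0) (ν * g 0 1) ((ν : F)⁻¹ * g 1 0) (g 1 1) (by
    have := det2 g
    have hν := ν.ne_zero
    field_simp
    linear_combination this)

theorem sg_00 (ν : Fˣ) (g : SL2 F) : sg ν g 0 0 = g 0 0 := rfl
theorem sg_01 (ν : Fˣ) (g : SL2 F) : sg ν g 0 1 = ν * g 0 1 := rfl
theorem sg_10 (ν : Fˣ) (g : SL2 F) : sg ν g 1 0 = (ν : F)⁻¹ * g 1 0 := rfl
theorem sg_11 (ν : Fˣ) (g : SL2 F) : sg ν g 1 1 = g 1 1 := rfl

theorem sg_mul (ν : Fˣ) (g h : SL2 F) : sg ν (g * h) = sg ν g * sg ν h := by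
  have hν := ν.ne_zero
  apply ext2 <;> simp only [sg_00, sg_01, sg_10, sg_11, mul_00, mul_01, mul_10, mul_11] <;> field_simp

theorem sg_inv (ν : Fˣ) (g : SL2 F) : sg ν g⁻¹ = (sg ν g)⁻¹ := by
  apply ext2 <;> simp only [sg_00, sg_01, sg_10, sg_11, inv_00, inv_01, inv_10, inv_11] <;> ring

theorem sg_mB (ν : Fˣ) (a : Fˣ) (e : F) : sg ν (mB (a, e) : SL2 F) = (mB (a, (ν : F) * e) : SL2 F) := by
  apply ext2 <;> simp only [sg_00, sg_01, sg_10, sg_11, mB_00, mB_01, mB_10, mB_11] <;> ring

theorem noEig_sg {g : SL2 F} (h : NoEig g) (ν : Fˣ) : NoEig (sg ν g) := by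
  have hν := ν.ne_zero
  intro c v hv hgv
  apply h c ![(ν : F)⁻¹ * v 0, v 1]
  · intro h0
    apply hv
    funext i
    fin_cases i
    · have := congrFun h0 0
      simpa [hν] using this
    · have := congrFun h0 1
      simpa using this
  · rw [mulVec_eq] at hgv ⊢
    have e0 := congrFun hgv 0
    have e1 := congrFun hgv 1
    simp only [sg_00, sg_01, sg_10, sg_11, Matrix.cons_val_zero, Matrix.cons_val_one, Pi.smul_apply,
      smul_eq_mul] at e0 e1
    funext i
    fin_cases i
    · simp only [Fin.zero_eta, Fin.isValue, Matrix.cons_val_zero, Matrix.cons_val_one, Pi.smul_apply, smul_eq_mul]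
      field_simp
      linear_combination e0
    · simp only [Fin.mk_one, Fin.isValue, Matrix.cons_val_zero, Matrix.cons_val_one, Pi.smul_apply, smul_eq_mul]
      linear_combination e1

theorem isClassFunction_sg {f : SL2 F → ℂ} (hf : Cfsg.IsClassFunction (SL2 F) f) (ν : Fˣ) :
    Cfsg.IsClassFunction (SL2 F) (fun g => f (sg ν g)) := by
  intro g x
  simp only [sg_mul, sg_inv]
  exact hf _ _

/-- `diag(ν, 1)` in `GL₂`. -/
noncomputable def dGL (ν : Fˣ) : Matrix.GeneralLinearGroup (Fin 2) F :=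
  Matrix.GeneralLinearGroup.mkOfDetNeZero !![(ν : F), 0; 0, 1] (by simp)

theorem eq_sg_of_conj (ν : Fˣ) {g h : SL2 F}
    (H : Matrix.SpecialLinearGroup.toGL h = dGL ν * Matrix.SpecialLinearGroup.toGL g * (dGL ν)⁻¹) :
    h = sg ν g := by
  have hν := ν.ne_zero
  have H2 : Matrix.SpecialLinearGroup.toGL h * dGL ν = dGL ν * Matrix.SpecialLinearGroup.toGL g := by
    rw [H]; group
  have H3 : (h : Matrix (Fin 2) (Fin 2) F) * !![(ν : F), 0; 0, 1] = !![(ν : F), 0; 0, 1] * (g : Matrix (Fin 2) (Fin 2) F) := by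
    have := congrArg (fun z : Matrix.GeneralLinearGroup (Fin 2) F => (z : Matrix (Fin 2) (Fin 2) F)) H2
    simpa [dGL] using this
  have e00 := congrFun (congrFun H3 0) 0
  have e01 := congrFun (congrFun H3 0) 1
  have e10 := congrFun (congrFun H3 1) 0
  have e11 := congrFun (congrFun H3 1) 1
  simp [Matrix.mul_apply, Fin.sum_univ_two] at e00 e01 e10 e11
  apply ext2
  · rw [sg_00]
    apply mul_right_cancel₀ hν
    rw [e00]; ring
  · rw [sg_01]; exact e01
  · rw [sg_10, ← e10]; field_simp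
  · rw [sg_11]; exact e11

variable [Fintype F] [DecidableEq F] {C : Subgroup (SL2 F)}

local notation "q" => (Fintype.card F : ℂ)

/-- The diagonal automorphism given by a nonsquare swaps the two halves of `RR α`. -/
theorem halves_RR_swap (hodd : Odd (Fintype.card F)) (hC : IsNS C) {α : MulChar F ℂ} (h1 : α = α⁻¹) (h2 : α ≠ 1)
    {χ χ' : SL2 F → ℂ} (hh : Halves C (RR α) χ χ') {ν : Fˣ} (hν : α (ν : F) = -1) (g : SL2 F) :
    χ' (sg ν g) = χ g := by
  have c1 := IsIrrCharacter.isClassFunction hh.irr1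
  have c2 := IsIrrCharacter.isClassFunction hh.irr2
  have key : (fun g => χ' (sg ν g)) = χ := by
    apply class_ext (isClassFunction_sg c2 ν) c1
    · intro a e
      simp only [sg_mB]
      by_cases ha : (a : F) ^ 2 = 1
      · by_cases he : e = 0
        · subst he
          rw [mul_zero]
          exact (hh.onC ⟨_, hC.center_le (mB_central ha)⟩).symm
        · have hcl : Cfsg.IsClassFunction (SL2 F) (χ - χ') := IsClassFunction.sub c1 c2
          have h0 : (χ - χ') (mB (a, 0) : SL2 F) = 0 := by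
            rw [Pi.sub_apply, sub_eq_zero]
            exact hh.onC ⟨_, hC.center_le (mB_central ha)⟩
          have hs : ∑ e : F, (χ - χ') (mB (a, e) : SL2 F) = 0 := by
            simp only [Pi.sub_apply, Finset.sum_sub_distrib, hh.onU a, sub_self]
          have v1 := unip_values hodd h1 h2 hcl a h0 hs (Units.mk0 e he)
          have v2 := unip_values hodd h1 h2 hcl a h0 hs (ν * Units.mk0 e he)
          rw [Units.val_mul, map_mul, hν] at v2
          simp only [Units.val_mk0, Pi.sub_apply] at v1 v2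
          have s1 := congrFun hh.sum (mB (a, e) : SL2 F)
          have s2 := congrFun hh.sum (mB (a, (ν : F) * e) : SL2 F)
          rw [RR_mB_unip α a _ ha he, Pi.add_apply] at s1
          rw [RR_mB_unip α a _ ha (mul_ne_zero ν.ne_zero he), Pi.add_apply] at s2
          linear_combination (1 / 2 : ℂ) * s1 - (1 / 2 : ℂ) * s2 - (1 / 2 : ℂ) * v2 - (1 / 2 : ℂ) * v1
      · have t1 := hh.two_mul_D a e ha
        have t2 := hh.symm.two_mul_D a ((ν : F) * e) ha
        rw [RR_mB_of_sq_ne α a _ ha] at t1 t2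
        linear_combination (1 / 2 : ℂ) * t2 - (1 / 2 : ℂ) * t1
    · intro g hg
      have t1 := hh.two_mul_noEig hC hg
      have t2 := hh.symm.two_mul_noEig hC (noEig_sg hg ν)
      rw [RR_noEig α hg] at t1
      rw [RR_noEig α (noEig_sg hg ν)] at t2
      simp only [mul_eq_zero, OfNat.ofNat_ne_zero, false_or] at t1 t2
      rw [t1, t2]
  exact congrFun key g

end Cfsg.Agent.Lib.Helper46SL2CharK
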