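import Cfsg.Agent.Lib.Helper46SL2CharK

/-!
# Characters of `SL₂(q)`, part L: the number of irreducible characters of each degree
-/

set_option autoImplicit false
set_option linter.unusedSectionVars false
set_option linter.unusedSimpArgs false
set_option linter.unusedVariables false

namespace Cfsg.Agent.Lib.Helper46SL2CharL

open Cfsg.Agent.Lib.Helper46SL2 Cfsg.Agent.Lib.Helper46Borel Cfsg.Agent.S2432
open Cfsg.Agent.Lib.Helper4Char Cfsg.Agent.Lib.Helper4Char2 Cfsg.Agent.Lib.Helper4Char4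
open Cfsg.Agent.Lib.Helper46SL2CharA Cfsg.Agent.Lib.Helper32Virt Cfsg.Agent.Lib.Helper46SL2CharD
open Cfsg.Agent.Lib.Helper46SL2CharB Cfsg.Agent.Lib.Helper46SL2CharC Cfsg.Agent.Lib.Helper46Fourier
open Cfsg.Agent.Lib.Helper46SL2CharE Cfsg.Agent.Lib.Helper46SL2CharF Cfsg.Agent.Lib.Helper46SL2CharG
open Cfsg.Agent.Lib.Helper46SL2CharH Cfsg.Agent.Lib.Helper46SL2CharJ
open scoped ComplexConjugate

local notation "SL2" => Matrix.SpecialLinearGroup (Fin 2)

/-- Counting through a two-to-one surjection. -/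
theorem card_two_to_one {S T : Type*} [Finite S] (ι : S → S) (hι : ∀ s, ι s ≠ s) (f : S → T)
    (hsurj : Function.Surjective f) (hf : ∀ a b, f a = f b ↔ a = b ∨ b = ι a) :
    Nat.card S = 2 * Nat.card T := by
  classical
  have : Finite T := Finite.of_surjective f hsurj
  let _ : Fintype S := Fintype.ofFinite S
  let _ : Fintype T := Fintype.ofFinite T
  rw [Nat.card_eq_fintype_card, Nat.card_eq_fintype_card,
    Fintype.card_congr (Equiv.sigmaFiberEquiv f).symm, Fintype.card_sigma]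
  have : ∀ t : T, Fintype.card {s // f s = t} = 2 := by
    intro t
    obtain ⟨a, rfl⟩ := hsurj t
    rw [← Nat.card_eq_fintype_card, Nat.card_eq_two_iff]
    refine ⟨⟨a, rfl⟩, ⟨ι a, ((hf a (ι a)).mpr (Or.inr rfl)).symm⟩, ?_, ?_⟩
    · intro h
      exact hι a (congrArg Subtype.val h).symm
    · ext ⟨b, hb⟩
      simp only [Set.mem_insert_iff, Set.mem_singleton_iff, Set.mem_univ, iff_true, Subtype.mk.injEq]
      rcases (hf a b).mp hb.symm with h | h
      · exact Or.inl h.symm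
      · exact Or.inr h
  simp [this, mul_comm]

theorem card_ne_inv {A : Type*} [Finite A] (p : A → Prop) :
    Nat.card {a : A // ¬ p a} = Nat.card A - Nat.card {a : A // p a} := by
  classical
  let _ : Fintype A := Fintype.ofFinite A
  simp only [Nat.card_eq_fintype_card]
  exact Fintype.card_subtype_compl p

variable {F : Type*} [Field F] [Fintype F] [DecidableEq F] {C : Subgroup (SL2 F)}

local notation "q" => (Fintype.card F : ℂ)

theorem card_mulChar : Nat.card (MulChar F ℂ) = Fintype.card F - 1 := by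
  rw [MulChar.card_eq_card_units_of_hasEnoughRootsOfUnity F ℂ, Nat.card_eq_fintype_card, Fintype.card_units]

theorem card_hom (hC : IsNS C) : Nat.card (C →* ℂˣ) = Fintype.card F + 1 := by
  let _ : CommGroup C := { (inferInstance : Group C) with
    mul_comm := fun a b => Subtype.ext (hC.comm a a.2 b b.2) }
  rw [← hC.card]
  exact CommGroup.card_monoidHom_of_hasEnoughRootsOfUnity C ℂ

instance : Finite (MulChar F ℂ) := by
  apply Nat.finite_of_card_ne_zero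
  rw [card_mulChar]
  have := two_le_card (F := F)
  omega

theorem finite_hom (hC : IsNS C) : Finite (C →* ℂˣ) := by
  apply Nat.finite_of_card_ne_zero
  rw [card_hom hC]
  omega

theorem card_mulChar_self_inv_odd (hodd : Odd (Fintype.card F)) :
    Nat.card {α : MulChar F ℂ // α = α⁻¹} = 2 := by
  obtain ⟨α, h1, h2⟩ := exists_quad (F := F) hodd
  rw [Nat.card_eq_two_iff]
  refine ⟨⟨1, by simp⟩, ⟨α, h1⟩, ?_, ?_⟩
  · intro h
    exact h2 (congrArg Subtype.val h).symm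
  · ext ⟨β, hβ⟩
    simp only [Set.mem_insert_iff, Set.mem_singleton_iff, Set.mem_univ, iff_true, Subtype.mk.injEq]
    by_cases hb : β = 1
    · exact Or.inl hb
    · exact Or.inr (mulChar_order_two_unique hβ hb h1 h2)

theorem card_mulChar_self_inv_even (heven : ¬ Odd (Fintype.card F)) :
    Nat.card {α : MulChar F ℂ // α = α⁻¹} = 1 := by
  rw [Nat.card_eq_one_iff_unique]
  refine ⟨⟨?_⟩, ⟨⟨1, by simp⟩⟩⟩
  rintro ⟨a, ha⟩ ⟨b, hb⟩
  rw [Subtype.mk.injEq, mulChar_eq_one_of_even heven ha, mulChar_eq_one_of_even heven hb]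

theorem hom_inv_one : (1 : C →* ℂˣ)⁻¹ = 1 := by
  ext x
  simp

theorem hom_inv_inv (θ : C →* ℂˣ) : θ⁻¹⁻¹ = θ := by
  ext x
  simp

theorem card_hom_self_inv_even (heven : ¬ Odd (Fintype.card F)) (hC : IsNS C) :
    Nat.card {θ : C →* ℂˣ // θ⁻¹ = θ} = 1 := by
  rw [Nat.card_eq_one_iff_unique]
  refine ⟨⟨?_⟩, ⟨⟨1, hom_inv_one⟩⟩⟩
  rintro ⟨a, ha⟩ ⟨b, hb⟩
  rw [Subtype.mk.injEq, hom_eq_one_of_even heven hC ha, hom_eq_one_of_even heven hC hb]

theorem exists_theta (hodd : Odd (Fintype.card F)) (hC : IsNS C) : ∃ θ : C →* ℂˣ, θ⁻¹ = θ ∧ θ ≠ 1 := by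
  have := finite_hom hC
  have hdvd : 2 ∣ Nat.card (C →* ℂˣ) := by
    rw [card_hom hC]
    obtain ⟨k, hk⟩ := hodd
    exact ⟨k + 1, by omega⟩
  obtain ⟨θ, hθ⟩ := exists_prime_orderOf_dvd_card' 2 hdvd
  refine ⟨θ, ?_, ?_⟩
  · have h2 : θ ^ 2 = 1 := by
      have := pow_orderOf_eq_one θ
      rwa [hθ] at this
    ext x
    have h3 : θ x ^ 2 = 1 := by
      have := congrArg (fun ψ : C →* ℂˣ => ψ x) h2
      simpa using this
    rw [MonoidHom.inv_apply, inv_eq_iff_mul_eq_one.mpr (by rw [← sq]; exact h3)]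
  · rintro rfl
    rw [orderOf_one] at hθ
    omega

theorem card_hom_self_inv_odd (hodd : Odd (Fintype.card F)) (hC : IsNS C) :
    Nat.card {θ : C →* ℂˣ // θ⁻¹ = θ} = 2 := by
  obtain ⟨θ, h1, h2⟩ := exists_theta hodd hC
  rw [Nat.card_eq_two_iff]
  refine ⟨⟨1, hom_inv_one⟩, ⟨θ, h1⟩, ?_, ?_⟩
  · intro h
    exact h2 (congrArg Subtype.val h).symm
  · ext ⟨β, hβ⟩
    simp only [Set.mem_insert_iff, Set.mem_singleton_iff, Set.mem_univ, iff_true, Subtype.mk.injEq]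
    by_cases hb : β = 1
    · exact Or.inl hb
    · exact Or.inr (hom_order_two_unique' hC hβ hb h1 h2)

/-- The number of irreducible characters of degree `q + 1`. -/
theorem card_deg_add_one :
    Nat.card {α : MulChar F ℂ // ¬ α = α⁻¹} =
      2 * Nat.card {χ : Cfsg.IrrCharacter (SL2 F) // (χ : SL2 F → ℂ) 1 = q + 1} := by
  classical
  apply card_two_to_one (fun α => ⟨α.1⁻¹, fun h => α.2 (by rw [inv_inv] at h; exact h.symm)⟩)
    (fun α h => α.2 (congrArg Subtype.val h).symm)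
    (fun α => ⟨⟨RR α.1, RR_irr α.2⟩, RR_one α.1⟩)
  · rintro ⟨⟨χ, hχ⟩, h⟩
    obtain ⟨α, h1, rfl⟩ := of_deg_add_one hχ h
    exact ⟨⟨α, h1⟩, rfl⟩
  · rintro ⟨α, hα⟩ ⟨β, hβ⟩
    simp only [Subtype.mk.injEq]
    constructor
    · intro h
      have h1 := inner_RR α β
      rw [h, classInner_irr_self (RR_irr hβ)] at h1
      by_cases e1 : α = β
      · exact Or.inl e1
      · right
        by_contra e2
        rw [if_neg e1, if_neg (fun e => e2 (by rw [e, inv_inv]))] at h1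
        norm_num at h1
    · rintro (rfl | rfl)
      · rfl
      · apply irr_eq_of_inner_ne_zero (RR_irr hα) (RR_irr hβ)
        rw [inner_RR, if_neg hα, if_pos (inv_inv α).symm]
        norm_num

/-- The number of irreducible characters of degree `q - 1`. -/
theorem card_deg_sub_one (hC : IsNS C) (hq : 4 ≤ Fintype.card F) :
    Nat.card {θ : C →* ℂˣ // ¬ θ⁻¹ = θ} =
      2 * Nat.card {χ : Cfsg.IrrCharacter (SL2 F) // (χ : SL2 F → ℂ) 1 = q - 1} := by
  classical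
  have := finite_hom hC
  choose β hβ using exists_compat (F := F) hC
  apply card_two_to_one (fun θ => ⟨θ.1⁻¹, fun h => θ.2 (by rw [hom_inv_inv] at h; exact h.symm)⟩)
    (fun θ h => θ.2 (congrArg Subtype.val h))
    (fun θ => ⟨⟨cusp θ.1 (β θ.1), cusp_irr hC (hβ θ.1) θ.2⟩, by rw [cast_sub_one]; exact cusp_one hC (hβ θ.1)⟩)
  · rintro ⟨⟨χ, hχ⟩, h⟩
    obtain ⟨θ, α, h0, h1, rfl⟩ := of_deg_sub_one hC hq hχ h
    refine ⟨⟨θ, h1⟩, ?_⟩
    simp only [Subtype.mk.injEq]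
    exact cusp_congr hC (hβ θ) h0
  · rintro ⟨θ, hθ⟩ ⟨θ', hθ'⟩
    simp only [Subtype.mk.injEq]
    constructor
    · intro h
      have h1 := inner_cusp_cusp hC (hβ θ) (hβ θ')
      rw [h, classInner_irr_self (cusp_irr hC (hβ θ') hθ')] at h1
      by_cases e1 : θ = θ'
      · exact Or.inl e1
      · right
        by_contra e2
        rw [if_neg e1, if_neg (fun e => e2 e.symm)] at h1
        norm_num at h1
    · rintro (rfl | rfl)
      · rfl
      · apply irr_eq_of_inner_ne_zero (cusp_irr hC (hβ θ) hθ) (cusp_irr hC (hβ _) hθ')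
        rw [inner_cusp_cusp hC (hβ θ) (hβ _), if_neg (fun e => hθ e.symm), if_pos rfl]
        norm_num

theorem card_deg_one (hq : 4 ≤ Fintype.card F) :
    Nat.card {χ : Cfsg.IrrCharacter (SL2 F) // (χ : SL2 F → ℂ) 1 = 1} = 1 := by
  obtain ⟨C, hC⟩ := exists_isNS (F := F)
  have key : ∀ χ : SL2 F → ℂ, Cfsg.IsIrrCharacter (SL2 F) χ → χ 1 = 1 → χ = 1 := by
    intro χ hχ h
    obtain ⟨n, hn, hcases⟩ := classify_deg hC hχ
    have e : n = 1 := by
      rw [hn] at h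
      exact_mod_cast h
    rcases hcases with ⟨-, h1⟩ | ⟨h1, -⟩ | ⟨h1, -⟩ | ⟨h1, -⟩ | ⟨-, h1, -⟩ | ⟨⟨k, hk⟩, h1, -⟩
    · exact h1
    all_goals omega
  rw [Nat.card_eq_one_iff_unique]
  refine ⟨⟨?_⟩, ⟨⟨⟨1, one_irr⟩, rfl⟩⟩⟩
  rintro ⟨⟨a, ha⟩, ha'⟩ ⟨⟨b, hb⟩, hb'⟩
  simp only [Subtype.mk.injEq]
  rw [key a ha ha', key b hb hb']

theorem card_deg_q :
    Nat.card {χ : Cfsg.IrrCharacter (SL2 F) // (χ : SL2 F → ℂ) 1 = q} = 1 := by
  rw [Nat.card_eq_one_iff_unique]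
  refine ⟨⟨?_⟩, ⟨⟨⟨St, St_irr⟩, St_one⟩⟩⟩
  rintro ⟨⟨a, ha⟩, ha'⟩ ⟨⟨b, hb⟩, hb'⟩
  simp only [Subtype.mk.injEq]
  rw [eq_St_of_deg ha ha', eq_St_of_deg hb hb']

theorem halves_other {Θ χ₁ χ₁' χ₂ χ₂' : SL2 F → ℂ} (h1 : Halves C Θ χ₁ χ₁')
    (h2 : Halves C Θ χ₂ χ₂') (hne : χ₁ ≠ χ₂) : χ₂ = χ₁' := by
  have : Cfsg.classInner χ₂ Θ ≠ 0 := by
    rw [h2.sum, classInner_add_right, classInner_irr_self h2.irr1, classInner_irr_ne h2.irr1 h2.irr2 h2.ne]
    simp
  rcases h1.eq_or_eq h2.irr1 this with h | h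
  · exact absurd h.symm hne
  · exact h

theorem halves_RR_deg (hodd : Odd (Fintype.card F)) {α : MulChar F ℂ} {χ χ' : SL2 F → ℂ}
    (hh : Halves C (RR α) χ χ') : χ 1 = (((Fintype.card F + 1) / 2 : ℕ) : ℂ) := by
  have := hh.two_mul_one
  rw [RR_one] at this
  obtain ⟨k, hk⟩ := hodd
  have e : (Fintype.card F + 1) / 2 = k + 1 := by omega
  rw [e]
  rw [hk] at this
  push_cast at this ⊢
  linear_combination (1 / 2 : ℂ) * this

theorem halves_cusp_deg (hodd : Odd (Fintype.card F)) (hC : IsNS C) {θ : C →* ℂˣ} {α : MulChar F ℂ}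
    (hc : Compat θ α) {χ χ' : SL2 F → ℂ}
    (hh : Halves C (cusp θ α) χ χ') : χ 1 = (((Fintype.card F - 1) / 2 : ℕ) : ℂ) := by
  have := hh.two_mul_one
  rw [cusp_one hC hc] at this
  obtain ⟨k, hk⟩ := hodd
  rw [show (Fintype.card F - 1) / 2 = k by omega]
  rw [show Fintype.card F - 1 = 2 * k by omega] at this
  push_cast at this
  linear_combination (1 / 2 : ℂ) * this

theorem card_deg_half_add (hodd : Odd (Fintype.card F)) (hq : 5 ≤ Fintype.card F) :
    Nat.card {χ : Cfsg.IrrCharacter (SL2 F) // (χ : SL2 F → ℂ) 1 = (((Fintype.card F + 1) / 2 : ℕ) : ℂ)} = 2 := by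
  obtain ⟨C, hC⟩ := exists_isNS (F := F)
  obtain ⟨α, h1, h2⟩ := exists_quad (F := F) hodd
  obtain ⟨χ₁, χ₂, hh⟩ := halves_RR hodd hC h1 h2
  rw [Nat.card_eq_two_iff]
  refine ⟨⟨⟨χ₁, hh.irr1⟩, halves_RR_deg hodd hh⟩, ⟨⟨χ₂, hh.irr2⟩, halves_RR_deg hodd hh.symm⟩, ?_, ?_⟩
  · intro h
    simp only [Subtype.mk.injEq] at h
    exact hh.ne h
  · ext ⟨⟨χ, hχ⟩, h⟩
    simp only [Set.mem_insert_iff, Set.mem_singleton_iff, Set.mem_univ, iff_true, Subtype.mk.injEq]
    obtain ⟨α', χ', a1', a2', hh'⟩ := of_deg_half_add hC hq hχ h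
    obtain rfl := mulChar_order_two_unique h1 h2 a1' a2'
    by_cases e : χ₁ = χ
    · exact Or.inl e.symm
    · exact Or.inr (halves_other hh hh' e)

theorem card_deg_half_sub (hodd : Odd (Fintype.card F)) (hq : 5 ≤ Fintype.card F) :
    Nat.card {χ : Cfsg.IrrCharacter (SL2 F) // (χ : SL2 F → ℂ) 1 = (((Fintype.card F - 1) / 2 : ℕ) : ℂ)} = 2 := by
  obtain ⟨C, hC⟩ := exists_isNS (F := F)
  obtain ⟨θ, h1, h2⟩ := exists_theta hodd hC
  obtain ⟨α, hc⟩ := exists_compat (F := F) hC θ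
  obtain ⟨χ₁, χ₂, hh⟩ := halves_cusp hodd hC hc h1 h2
  rw [Nat.card_eq_two_iff]
  refine ⟨⟨⟨χ₁, hh.irr1⟩, halves_cusp_deg hodd hC hc hh⟩, ⟨⟨χ₂, hh.irr2⟩, halves_cusp_deg hodd hC hc hh.symm⟩, ?_, ?_⟩
  · intro h
    simp only [Subtype.mk.injEq] at h
    exact hh.ne h
  · ext ⟨⟨χ, hχ⟩, h⟩
    simp only [Set.mem_insert_iff, Set.mem_singleton_iff, Set.mem_univ, iff_true, Subtype.mk.injEq]
    obtain ⟨θ', α', χ', c', a1', a2', hh'⟩ := of_deg_half_sub hC hq hχ h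
    obtain rfl := hom_order_two_unique' hC h1 h2 a1' a2'
    rw [cusp_congr hC c' hc] at hh'
    by_cases e : χ₁ = χ
    · exact Or.inl e.symm
    · exact Or.inr (halves_other hh hh' e)

end Cfsg.Agent.Lib.Helper46SL2CharL
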