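import Cfsg.Agent.Lib.Helper46SL2
import Cfsg.Agent.Lib.Helper46Dicyclic

set_option autoImplicit false

namespace Cfsg.Agent.Lib.Helper46Tori

open Cfsg.Agent.Lib.Helper46SL2

variable {F : Type*} [Field F]

local notation "SL2" => Matrix.SpecialLinearGroup (Fin 2)

theorem card_of_relIndex_two {G : Type*} [Group G] {T N : Subgroup G} (hTN : T ≤ N)
    (h : T.relIndex N = 2) : Nat.card N = 2 * Nat.card T := by
  have := Subgroup.relIndex_mul_relIndex ⊥ T N bot_le hTN
  rw [Subgroup.relIndex_bot_left, Subgroup.relIndex_bot_left, h] at this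
  omega

theorem mul_self_eq_one_iff (h2 : (2 : F) ≠ 0) (t : SL2 F) : t * t = 1 ↔ t = 1 ∨ t = -1 := by
  constructor
  · intro h
    rw [← mem_center_iff_eq, mem_center_iff]
    have h00 := sq_eq t 0 0
    have h01 := sq_eq t 0 1
    have h10 := sq_eq t 1 0
    have h11 := sq_eq t 1 1
    rw [h] at h00 h01 h10 h11
    simp only [one_00, one_01, one_10, one_11] at h00 h01 h10 h11
    have htr : tr t ≠ 0 := by
      intro h0
      rw [h0] at h00
      apply h2
      linear_combination h00
    refine ⟨?_, ?_, ?_⟩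
    · have : tr t * t 0 1 = 0 := by linear_combination (-1 : F) * h01
      exact (mul_eq_zero.mp this).resolve_left htr
    · have : tr t * t 1 0 = 0 := by linear_combination (-1 : F) * h10
      exact (mul_eq_zero.mp this).resolve_left htr
    · apply mul_left_cancel₀ htr
      linear_combination h11 - h00
  · rintro (rfl | rfl)
    · simp
    · simp

theorem neg_one_ne_one (h2 : (2 : F) ≠ 0) : (-1 : SL2 F) ≠ 1 := by
  intro h
  have := congrArg (fun A : SL2 F => A 0 0) h
  simp only [Helper46SL2.neg_apply, one_00] at this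
  apply h2
  linear_combination (-1 : F) * this

/-! ### The split torus -/

/-- The diagonal subgroup. -/
def D (F : Type*) [Field F] : Subgroup (SL2 F) where
  carrier := {g | g 0 1 = 0 ∧ g 1 0 = 0}
  mul_mem' := by
    rintro a b ⟨ha1, ha2⟩ ⟨hb1, hb2⟩
    exact ⟨by rw [mul_01, ha1, hb1]; ring, by rw [mul_10, ha2, hb2]; ring⟩
  one_mem' := ⟨one_01, one_10⟩
  inv_mem' := by
    rintro a ⟨h1, h2⟩
    exact ⟨by rw [inv_01, h1, neg_zero], by rw [inv_10, h2, neg_zero]⟩

theorem mem_D {g : SL2 F} : g ∈ D F ↔ g 0 1 = 0 ∧ g 1 0 = 0 := Iff.rfl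

theorem diag_ne {d : SL2 F} (hd : d ∈ D F) (ha : d 0 0 ^ 2 ≠ 1) : d 0 0 - d 1 1 ≠ 0 := by
  intro h
  apply ha
  have hdet := det2 d
  rw [hd.1] at hdet
  have : d 1 1 = d 0 0 := by linear_combination (-1 : F) * h
  rw [this] at hdet
  linear_combination hdet

theorem centralizer_eq_D {d : SL2 F} (hd : d ∈ D F) (ha : d 0 0 ^ 2 ≠ 1) :
    Subgroup.centralizer {d} = D F := by
  have hne := diag_ne hd ha
  ext g
  rw [Subgroup.mem_centralizer_singleton_iff, mem_D]
  constructor
  · intro h
    have h01 := congrArg (fun A : SL2 F => A 0 1) h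
    have h10 := congrArg (fun A : SL2 F => A 1 0) h
    simp only [mul_01, mul_10, hd.1, hd.2] at h01 h10
    constructor
    · have : (d 0 0 - d 1 1) * g 0 1 = 0 := by linear_combination (-1 : F) * h01
      exact (mul_eq_zero.mp this).resolve_left hne
    · have : (d 0 0 - d 1 1) * g 1 0 = 0 := by linear_combination h10
      exact (mul_eq_zero.mp this).resolve_left hne
  · rintro ⟨h1, h2⟩
    apply ext2 <;> simp only [mul_00, mul_01, mul_10, mul_11, hd.1, hd.2, h1, h2] <;> ring

theorem D_comm (a : SL2 F) (ha : a ∈ D F) (b : SL2 F) (hb : b ∈ D F) : a * b = b * a := by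
  apply ext2 <;> simp only [mul_00, mul_01, mul_10, mul_11, ha.1, ha.2, hb.1, hb.2] <;> ring

/-- The diagonal subgroup is isomorphic to the multiplicative group. -/
noncomputable def DEquiv (F : Type*) [Field F] : D F ≃* Fˣ where
  toFun g := Units.mk0 ((g : SL2 F) 0 0) (by
    intro h
    have := det2 (g : SL2 F)
    rw [h, g.2.1] at this
    simp at this)
  invFun u := ⟨dg (u : F) u.ne_zero, rfl, rfl⟩
  left_inv g := by
    apply Subtype.ext
    have hdet := det2 (g : SL2 F)
    rw [g.2.1] at hdet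
    apply ext2
    · rfl
    · exact g.2.1.symm
    · exact g.2.2.symm
    · change ((g : SL2 F) 0 0)⁻¹ = _
      apply inv_eq_of_mul_eq_one_right
      linear_combination hdet
  right_inv u := by
    apply Units.ext
    rfl
  map_mul' g h := by
    apply Units.ext
    change ((g : SL2 F) * (h : SL2 F)) 0 0 = (g : SL2 F) 0 0 * (h : SL2 F) 0 0
    rw [mul_00, g.2.1]; ring

theorem card_D [Fintype F] : Nat.card (D F) = Fintype.card F - 1 := by
  classical
  rw [Nat.card_congr (DEquiv F).toEquiv, Nat.card_eq_fintype_card, Fintype.card_units]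

theorem isCyclic_D [Finite F] : IsCyclic (D F) :=
  (DEquiv F).isCyclic.mpr inferInstance

theorem mem_normalizer_D (hex : ∃ d ∈ D F, d 0 0 ^ 2 ≠ 1) {g : SL2 F} :
    g ∈ Subgroup.normalizer (D F : Set (SL2 F)) ↔ (g 0 1 = 0 ∧ g 1 0 = 0) ∨ (g 0 0 = 0 ∧ g 1 1 = 0) := by
  constructor
  · intro hg
    obtain ⟨d, hd, ha⟩ := hex
    have hne := diag_ne hd ha
    have hmem : g * d * g⁻¹ ∈ D F := (Subgroup.mem_normalizer_iff.mp hg d).mp hd
    have h01 := hmem.1
    have h10 := hmem.2
    simp only [mul_00, mul_01, mul_10, mul_11, inv_00, inv_01, inv_10, inv_11, hd.1, hd.2] at h01 h10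
    have e1 : g 0 0 * g 0 1 = 0 := by
      have : (d 0 0 - d 1 1) * (g 0 0 * g 0 1) = 0 := by linear_combination (-1 : F) * h01
      exact (mul_eq_zero.mp this).resolve_left hne
    have e2 : g 1 0 * g 1 1 = 0 := by
      have : (d 0 0 - d 1 1) * (g 1 0 * g 1 1) = 0 := by linear_combination h10
      exact (mul_eq_zero.mp this).resolve_left hne
    have hdet := det2 g
    rcases mul_eq_zero.mp e1 with h | h
    · right
      refine ⟨h, ?_⟩
      rcases mul_eq_zero.mp e2 with h' | h'
      · rw [h, h'] at hdet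
        simp at hdet
      · exact h'
    · left
      refine ⟨h, ?_⟩
      rcases mul_eq_zero.mp e2 with h' | h'
      · exact h'
      · rw [h, h'] at hdet
        simp at hdet
  · rintro (hg | hg)
    · exact Subgroup.le_normalizer (H := D F) hg
    · rw [Subgroup.mem_normalizer_iff]
      intro h
      have hdet := det2 g
      rw [hg.1, hg.2] at hdet
      have h01 : g 0 1 ≠ 0 := by
        intro h0; rw [h0] at hdet; simp at hdet
      have h10 : g 1 0 ≠ 0 := by
        intro h0; rw [h0] at hdet; simp at hdet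
      simp only [mem_D, mul_00, mul_01, mul_10, mul_11, inv_00, inv_01, inv_10, inv_11, hg.1, hg.2]
      constructor
      · rintro ⟨a1, a2⟩
        rw [a1, a2]
        constructor <;> ring
      · rintro ⟨a1, a2⟩
        constructor
        · have : g 1 0 * g 1 0 * h 0 1 = 0 := by linear_combination (-1 : F) * a2
          exact (mul_eq_zero.mp this).resolve_left (mul_ne_zero h10 h10)
        · have : g 0 1 * g 0 1 * h 1 0 = 0 := by linear_combination (-1 : F) * a1
          exact (mul_eq_zero.mp this).resolve_left (mul_ne_zero h01 h01)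

theorem relIndex_D (hex : ∃ d ∈ D F, d 0 0 ^ 2 ≠ 1) :
    (D F).relIndex (Subgroup.normalizer (D F : Set (SL2 F))) = 2 := by
  rw [Subgroup.relIndex_eq_two_iff]
  refine ⟨comp 1 0 one_ne_zero, ?_, ?_⟩
  · rw [mem_normalizer_D hex]
    right
    exact ⟨rfl, rfl⟩
  · intro b hb
    rw [mem_normalizer_D hex] at hb
    have hdet := det2 b
    simp only [mem_D, mul_01, mul_10, comp, mk2_00, mk2_01, mk2_10, mk2_11]
    rcases hb with hb | hb
    · right
      refine ⟨hb, ?_⟩
      rintro ⟨h1, -⟩
      rw [hb.1] at hdet h1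
      have : b 0 0 = 0 := by
        simpa using h1
      rw [this] at hdet
      simp at hdet
    · left
      refine ⟨?_, ?_⟩
      · rw [hb.1, hb.2]; simp
      · rintro ⟨h1, -⟩
        rw [hb.1, h1] at hdet
        simp at hdet

theorem D_inverted (hex : ∃ d ∈ D F, d 0 0 ^ 2 ≠ 1) (g : SL2 F)
    (hg : g ∈ Subgroup.normalizer (D F : Set (SL2 F))) (hgD : g ∉ D F) (t : SL2 F) (ht : t ∈ D F) :
    g * t * g⁻¹ = t⁻¹ := by
  rw [mem_normalizer_D hex] at hg
  have hg' := hg.resolve_left hgD
  have hdet := det2 g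
  rw [hg'.1, hg'.2] at hdet
  apply ext2 <;>
    simp only [mul_00, mul_01, mul_10, mul_11, inv_00, inv_01, inv_10, inv_11, hg'.1, hg'.2, ht.1, ht.2]
  · linear_combination t 1 1 * hdet
  · ring
  · ring
  · linear_combination t 0 0 * hdet

theorem sq_of_normalizer_D (hex : ∃ d ∈ D F, d 0 0 ^ 2 ≠ 1) (g : SL2 F)
    (hg : g ∈ Subgroup.normalizer (D F : Set (SL2 F))) (hgD : g ∉ D F) : g * g = -1 := by
  rw [mem_normalizer_D hex] at hg
  have hg' := hg.resolve_left hgD
  apply sq_eq_neg_one_of_tr_eq_zero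
  rw [tr, hg'.1, hg'.2, add_zero]

theorem card_normalizer_D [Fintype F] (hex : ∃ d ∈ D F, d 0 0 ^ 2 ≠ 1) :
    Nat.card (Subgroup.normalizer (D F : Set (SL2 F))) = 2 * (Fintype.card F - 1) := by
  rw [card_of_relIndex_two Subgroup.le_normalizer (relIndex_D hex), card_D]

theorem card_conjClasses_normalizer_D [Fintype F] (h2 : (2 : F) ≠ 0) (hex : ∃ d ∈ D F, d 0 0 ^ 2 ≠ 1) :
    2 * Nat.card (ConjClasses (Subgroup.normalizer (D F : Set (SL2 F)))) = Fintype.card F - 1 + 6 := by
  rw [← card_D]
  apply Helper46Dicyclic.card_conjClasses_subgroup _ _ Subgroup.le_normalizer D_comm (D_inverted hex)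
    (relIndex_D hex) (-1) ?_ (neg_one_ne_one h2) (fun t _ => mul_self_eq_one_iff h2 t)
  rw [mem_D]
  simp [Helper46SL2.neg_apply]

end Cfsg.Agent.Lib.Helper46Tori
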