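import Cfsg.Agent.Lib.Helper46Tori

set_option autoImplicit false

namespace Cfsg.Agent.Lib.Helper46ToriNS

open Cfsg.Agent.Lib.Helper46SL2 Cfsg.Agent.Lib.Helper46Tori

variable {F : Type*} [Field F]

local notation "SL2" => Matrix.SpecialLinearGroup (Fin 2)

/-- Membership in the commutative algebra generated by the companion matrix of `X² - t X + 1`. -/
def inC (t0 : F) (h : SL2 F) : Prop := h 0 1 = - h 1 0 ∧ h 1 1 = h 0 0 + t0 * h 1 0

/-- The standard element of trace `t0`. -/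
def stdA (t0 : F) : SL2 F := mk2 0 (-1) 1 t0 (by ring)

theorem tr_stdA (t0 : F) : tr (stdA t0) = t0 := by simp [tr, stdA]

theorem inC_stdA (t0 : F) : inC t0 (stdA t0) := by
  constructor <;> simp [stdA]

theorem commute_iff_inC {t0 : F} {g : SL2 F} (hg : inC t0 g) (hg10 : g 1 0 ≠ 0) (h : SL2 F) :
    h * g = g * h ↔ inC t0 h := by
  constructor
  · intro hc
    have h00 := congrArg (fun A : SL2 F => A 0 0) hc
    have h10 := congrArg (fun A : SL2 F => A 1 0) hc
    simp only [mul_00, mul_10, hg.1, hg.2] at h00 h10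
    constructor
    · have : g 1 0 * (h 0 1 + h 1 0) = 0 := by linear_combination h00
      have := (mul_eq_zero.mp this).resolve_left hg10
      linear_combination this
    · have : g 1 0 * (h 1 1 - h 0 0 - t0 * h 1 0) = 0 := by linear_combination h10
      have := (mul_eq_zero.mp this).resolve_left hg10
      linear_combination this
  · intro hh
    apply ext2 <;> simp only [mul_00, mul_01, mul_10, mul_11, hg.1, hg.2, hh.1, hh.2] <;> ring

theorem mem_centralizer_stdA {t0 : F} {h : SL2 F} :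
    h ∈ Subgroup.centralizer {stdA t0} ↔ inC t0 h := by
  rw [Subgroup.mem_centralizer_singleton_iff]
  exact commute_iff_inC (inC_stdA t0) (by simp [stdA]) h

theorem centralizer_eq_of_inC {t0 : F} {g : SL2 F} (hg : inC t0 g) (hgc : g ∉ Subgroup.center (SL2 F)) :
    Subgroup.centralizer {g} = Subgroup.centralizer {stdA t0} := by
  have hg10 : g 1 0 ≠ 0 := by
    intro h0
    apply hgc
    rw [mem_center_iff]
    refine ⟨by rw [hg.1, h0, neg_zero], h0, by rw [hg.2, h0]; ring⟩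
  ext h
  rw [mem_centralizer_stdA, Subgroup.mem_centralizer_singleton_iff, commute_iff_inC hg hg10]

section psi

variable {K : Type*} [Field K] (φ : F →+* K) (t0 : F) (z : K)

/-- The eigenvalue map. -/
def psi (h : SL2 F) : K := φ (h 0 0) + φ (h 1 0) * z

theorem psi_mul (hz : z ^ 2 = φ t0 * z - 1) {h h' : SL2 F} (hh : inC t0 h) :
    psi φ z (h * h') = psi φ z h * psi φ z h' := by
  simp only [psi, mul_00, mul_10, hh.1, hh.2, map_add, map_mul, map_neg]
  linear_combination (-(φ (h 1 0) * φ (h' 1 0))) * hz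

theorem psi_one : psi φ z (1 : SL2 F) = 1 := by
  simp [psi]

theorem psi_stdA : psi φ z (stdA t0) = z := by
  simp [psi, stdA]

theorem psi_inj (hz : ∀ a : F, φ a ≠ z) {h h' : SL2 F} (hh : inC t0 h) (hh' : inC t0 h')
    (he : psi φ z h = psi φ z h') : h = h' := by
  simp only [psi] at he
  have hy : h 1 0 = h' 1 0 := by
    by_contra hne
    have hne' : φ (h' 1 0 - h 1 0) ≠ 0 := by
      rw [Ne, map_eq_zero, sub_eq_zero]
      exact fun h => hne h.symm
    apply hz ((h 0 0 - h' 0 0) / (h' 1 0 - h 1 0))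
    rw [map_div₀, div_eq_iff hne', map_sub, map_sub]
    linear_combination he
  have hx : h 0 0 = h' 0 0 := by
    apply φ.injective
    rw [hy] at he
    linear_combination he
  apply ext2
  · exact hx
  · rw [hh.1, hh'.1, hy]
  · exact hy
  · rw [hh.2, hh'.2, hx, hy]

theorem psi_norm (hz0 : z ≠ 0) (hsum : z + z⁻¹ = φ t0) {h : SL2 F} (hh : inC t0 h) :
    psi φ z h * (φ (h 0 0) + φ (h 1 0) * z⁻¹) = 1 := by
  have hdet := congrArg φ (det2 h)
  rw [hh.1, hh.2] at hdet
  simp only [map_sub, map_mul, map_add, map_neg, map_one] at hdet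
  simp only [psi]
  have hzz : z * z⁻¹ = 1 := mul_inv_cancel₀ hz0
  linear_combination hdet + φ (h 1 0) ^ 2 * hzz + φ (h 0 0) * φ (h 1 0) * hsum

theorem phi_tr (hsum : z + z⁻¹ = φ t0) {h : SL2 F} (hh : inC t0 h) :
    φ (tr h) = psi φ z h + (φ (h 0 0) + φ (h 1 0) * z⁻¹) := by
  simp only [tr, psi, hh.2, map_add, map_mul]
  linear_combination (-φ (h 1 0)) * hsum

end psi

theorem inC_mul {t0 : F} {h h' : SL2 F} (hh : inC t0 h) (hh' : inC t0 h') : inC t0 (h * h') := by
  rw [← mem_centralizer_stdA] at *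
  exact mul_mem hh hh'

theorem inC_pow {t0 : F} {h : SL2 F} (hh : inC t0 h) (k : ℕ) : inC t0 (h ^ k) := by
  rw [← mem_centralizer_stdA] at *
  exact pow_mem hh k

theorem inC_inv {t0 : F} {h : SL2 F} (hh : inC t0 h) : inC t0 h⁻¹ := by
  rw [← mem_centralizer_stdA] at *
  exact inv_mem hh

theorem psi_pow {K : Type*} [Field K] (φ : F →+* K) (t0 : F) (z : K) (hz : z ^ 2 = φ t0 * z - 1) (k : ℕ) :
    psi φ z (stdA t0 ^ k) = z ^ k := by
  induction k with
  | zero => simp [psi_one]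
  | succ n ih => rw [pow_succ, psi_mul φ t0 z hz (inC_pow (inC_stdA t0) n), ih, psi_stdA, pow_succ]

section finite

variable [Fintype F] {t0 : F} {z : AlgebraicClosure F}

local notation "φ" => algebraMap F (AlgebraicClosure F)

omit [Fintype F] in
theorem z_sq (hz0 : z ≠ 0) (hsum : z + z⁻¹ = φ t0) : z ^ 2 = φ t0 * z - 1 := by
  have hzz : z * z⁻¹ = 1 := mul_inv_cancel₀ hz0
  linear_combination z * hsum - hzz

theorem z_sq_ne_one (hord : orderOf z = Fintype.card F + 1) : z ^ 2 ≠ 1 := by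
  intro h
  have h1 := orderOf_dvd_of_pow_eq_one h
  rw [hord] at h1
  have h2 := Nat.le_of_dvd (by norm_num) h1
  have h3 : 1 < Fintype.card F := Fintype.one_lt_card
  omega

theorem z_not_range (hord : orderOf z = Fintype.card F + 1) (hz0 : z ≠ 0) (a : F) : φ a ≠ z := by
  intro h
  have ha0 : a ≠ 0 := by
    rintro rfl
    exact hz0 (by rw [← h, map_zero])
  have h1 : z ^ (Fintype.card F - 1) = 1 := by
    rw [← h, ← map_pow, FiniteField.pow_card_sub_one_eq_one a ha0, map_one]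
  have h2 := orderOf_dvd_of_pow_eq_one h1
  rw [hord] at h2
  have h3 : 1 < Fintype.card F := Fintype.one_lt_card
  have h4 := Nat.le_of_dvd (by omega) h2
  omega

theorem z_pow_card (hord : orderOf z = Fintype.card F + 1) : z ^ Fintype.card F = z⁻¹ := by
  apply eq_inv_of_mul_eq_one_left
  rw [← pow_succ, ← hord]
  exact pow_orderOf_eq_one z

theorem t0_sq_ne_four (hord : orderOf z = Fintype.card F + 1) (hz0 : z ≠ 0) (hsum : z + z⁻¹ = φ t0) :
    t0 ^ 2 ≠ 4 := by
  intro h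
  apply add_inv_sq_ne_four hz0 (z_sq_ne_one hord)
  rw [hsum, ← map_pow, h]
  exact map_ofNat φ 4

theorem orderOf_stdA (hord : orderOf z = Fintype.card F + 1) (hz0 : z ≠ 0) (hsum : z + z⁻¹ = φ t0) :
    orderOf (stdA t0) = Fintype.card F + 1 := by
  rw [orderOf_of_eigen φ (stdA t0) z hz0 (z_sq_ne_one hord) (by rw [tr_stdA, hsum]), hord]

theorem exists_pow_of_inC (hord : orderOf z = Fintype.card F + 1) (hz0 : z ≠ 0) (hsum : z + z⁻¹ = φ t0)
    {h : SL2 F} (hh : inC t0 h) : ∃ k : ℕ, h = stdA t0 ^ k := by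
  have hσ : ∀ x : AlgebraicClosure F,
      FiniteField.frobeniusAlgHom F (AlgebraicClosure F) x = x ^ Fintype.card F := fun x => rfl
  have h1 : psi φ z h ^ Fintype.card F = φ (h 0 0) + φ (h 1 0) * z⁻¹ := by
    rw [← hσ, psi, map_add, map_mul, AlgHom.commutes, AlgHom.commutes, hσ, z_pow_card hord]
  have h2 : psi φ z h ^ (Fintype.card F + 1) = 1 := by
    rw [pow_succ, h1, mul_comm]
    exact psi_norm φ t0 z hz0 hsum hh
  have hprim : IsPrimitiveRoot z (Fintype.card F + 1) := hord ▸ IsPrimitiveRoot.orderOf z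
  obtain ⟨i, -, hi⟩ := hprim.eq_pow_of_pow_eq_one h2
  refine ⟨i, ?_⟩
  apply psi_inj φ t0 z (z_not_range hord hz0) hh (inC_pow (inC_stdA t0) i)
  rw [psi_pow φ t0 z (z_sq hz0 hsum), hi]

theorem centralizer_stdA_eq_zpowers (hord : orderOf z = Fintype.card F + 1) (hz0 : z ≠ 0)
    (hsum : z + z⁻¹ = φ t0) :
    Subgroup.centralizer {stdA t0} = Subgroup.zpowers (stdA t0) := by
  ext h
  rw [mem_centralizer_stdA]
  constructor
  · intro hh
    obtain ⟨k, rfl⟩ := exists_pow_of_inC hord hz0 hsum hh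
    exact Subgroup.npow_mem_zpowers _ _
  · intro hh
    rw [← mem_centralizer_stdA]
    have : Subgroup.zpowers (stdA t0) ≤ Subgroup.centralizer {stdA t0} := by
      rw [Subgroup.zpowers_le, mem_centralizer_stdA]
      exact inC_stdA t0
    exact this hh

theorem eq_or_eq_inv_of_add_inv {K : Type*} [Field K] {u v : K} (hu : u ≠ 0) (hv : v ≠ 0)
    (h : u + u⁻¹ = v + v⁻¹) : u = v ∨ u = v⁻¹ := by
  have h1 : (u - v) * (u - v⁻¹) = 0 := by
    have huu : u * u⁻¹ = 1 := mul_inv_cancel₀ hu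
    have hvv : v * v⁻¹ = 1 := mul_inv_cancel₀ hv
    linear_combination u * h - huu + hvv
  rcases mul_eq_zero.mp h1 with h2 | h2
  · left; exact sub_eq_zero.mp h2
  · right; exact sub_eq_zero.mp h2

theorem eq_or_inv_of_inC_of_tr (hord : orderOf z = Fintype.card F + 1) (hz0 : z ≠ 0)
    (hsum : z + z⁻¹ = φ t0) {g : SL2 F} (hg : inC t0 g) (htr : tr g = t0) :
    g = stdA t0 ∨ g = (stdA t0)⁻¹ := by
  have h1 := psi_norm φ t0 z hz0 hsum hg
  have h2 := phi_tr φ t0 z hsum hg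
  have hu0 : psi φ z g ≠ 0 := left_ne_zero_of_mul_eq_one h1
  have h3 : φ (g 0 0) + φ (g 1 0) * z⁻¹ = (psi φ z g)⁻¹ := (inv_eq_of_mul_eq_one_right h1).symm
  rw [h3, htr, ← hsum] at h2
  rcases eq_or_eq_inv_of_add_inv hu0 hz0 h2.symm with h4 | h4
  · left
    apply psi_inj φ t0 z (z_not_range hord hz0) hg (inC_stdA t0)
    rw [h4, psi_stdA]
  · right
    apply psi_inj φ t0 z (z_not_range hord hz0) hg (inC_inv (inC_stdA t0))
    rw [h4]
    simp only [psi, inv_00, inv_10, stdA, mk2_11, mk2_10, map_neg, map_one]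
    linear_combination hsum

theorem stdA_ne_inv (hord : orderOf z = Fintype.card F + 1) (hz0 : z ≠ 0) (hsum : z + z⁻¹ = φ t0) :
    stdA t0 ≠ (stdA t0)⁻¹ := by
  intro h
  have h1 : stdA t0 ^ 2 = 1 := by
    rw [sq]
    nth_rewrite 1 [h]
    exact inv_mul_cancel _
  have h2 := orderOf_dvd_of_pow_eq_one h1
  rw [orderOf_stdA hord hz0 hsum] at h2
  have h3 := Nat.le_of_dvd (by norm_num) h2
  have h4 : 1 < Fintype.card F := Fintype.one_lt_card
  omega

/-- Membership in the normaliser of the nonsplit torus. -/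
theorem mem_normalizer_iff (hord : orderOf z = Fintype.card F + 1) (hz0 : z ≠ 0) (hsum : z + z⁻¹ = φ t0)
    {n : SL2 F} :
    n ∈ Subgroup.normalizer ((Subgroup.centralizer {stdA t0} : Subgroup (SL2 F)) : Set (SL2 F)) ↔
      n * stdA t0 * n⁻¹ = stdA t0 ∨ n * stdA t0 * n⁻¹ = (stdA t0)⁻¹ := by
  constructor
  · intro hn
    have h1 : n * stdA t0 * n⁻¹ ∈ Subgroup.centralizer {stdA t0} :=
      (Subgroup.mem_normalizer_iff.mp hn _).mp (mem_centralizer_stdA.mpr (inC_stdA t0))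
    exact eq_or_inv_of_inC_of_tr hord hz0 hsum (mem_centralizer_stdA.mp h1) (by rw [tr_conj, tr_stdA])
  · intro hn
    rw [Subgroup.mem_normalizer_iff]
    intro h
    rw [Subgroup.mem_centralizer_singleton_iff, Subgroup.mem_centralizer_singleton_iff]
    rcases hn with hn | hn
    · have e : stdA t0 = n⁻¹ * stdA t0 * n := by
        conv_rhs => rw [← hn]
        group
      constructor
      · intro hc
        calc n * h * n⁻¹ * stdA t0 = n * h * n⁻¹ * (n * stdA t0 * n⁻¹) := by rw [hn]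
          _ = n * (h * stdA t0) * n⁻¹ := by group
          _ = n * (stdA t0 * h) * n⁻¹ := by rw [hc]
          _ = (n * stdA t0 * n⁻¹) * (n * h * n⁻¹) := by group
          _ = stdA t0 * (n * h * n⁻¹) := by rw [hn]
      · intro hc
        calc h * stdA t0 = n⁻¹ * ((n * h * n⁻¹) * (n * stdA t0 * n⁻¹)) * n := by group
          _ = n⁻¹ * ((n * h * n⁻¹) * stdA t0) * n := by rw [hn]
          _ = n⁻¹ * (stdA t0 * (n * h * n⁻¹)) * n := by rw [hc]
          _ = n⁻¹ * ((n * stdA t0 * n⁻¹) * (n * h * n⁻¹)) * n := by rw [hn]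
          _ = stdA t0 * h := by group
    · have hinv : ∀ x : SL2 F, x * stdA t0 = stdA t0 * x ↔ x * (stdA t0)⁻¹ = (stdA t0)⁻¹ * x := by
        intro x
        constructor
        · intro hx
          rw [mul_inv_eq_iff_eq_mul, mul_assoc, hx, ← mul_assoc, inv_mul_cancel, one_mul]
        · intro hx
          rw [mul_inv_eq_iff_eq_mul, mul_assoc, eq_inv_mul_iff_mul_eq] at hx
          exact hx.symm
      rw [hinv (n * h * n⁻¹)]
      constructor
      · intro hc
        calc n * h * n⁻¹ * (stdA t0)⁻¹ = n * h * n⁻¹ * (n * stdA t0 * n⁻¹) := by rw [hn]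
          _ = n * (h * stdA t0) * n⁻¹ := by group
          _ = n * (stdA t0 * h) * n⁻¹ := by rw [hc]
          _ = (n * stdA t0 * n⁻¹) * (n * h * n⁻¹) := by group
          _ = (stdA t0)⁻¹ * (n * h * n⁻¹) := by rw [hn]
      · intro hc
        calc h * stdA t0 = n⁻¹ * ((n * h * n⁻¹) * (n * stdA t0 * n⁻¹)) * n := by group
          _ = n⁻¹ * ((n * h * n⁻¹) * (stdA t0)⁻¹) * n := by rw [hn]
          _ = n⁻¹ * ((stdA t0)⁻¹ * (n * h * n⁻¹)) * n := by rw [hc]
          _ = n⁻¹ * ((n * stdA t0 * n⁻¹) * (n * h * n⁻¹)) * n := by rw [hn]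
          _ = stdA t0 * h := by group

end finite

section finite2

variable [Fintype F] {t0 : F} {z : AlgebraicClosure F}

local notation "φ" => algebraMap F (AlgebraicClosure F)

theorem mem_T_iff {t0 : F} {b : SL2 F} :
    b ∈ Subgroup.centralizer {stdA t0} ↔ b * stdA t0 * b⁻¹ = stdA t0 := by
  rw [Subgroup.mem_centralizer_singleton_iff, mul_inv_eq_iff_eq_mul]

theorem exists_w (hord : orderOf z = Fintype.card F + 1) (hz0 : z ≠ 0) (hsum : z + z⁻¹ = φ t0) :
    ∃ w : SL2 F, w * stdA t0 * w⁻¹ = (stdA t0)⁻¹ := by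
  have := isConj_of_tr_eq (A := stdA t0) (B := (stdA t0)⁻¹) (by rw [tr_inv])
    (by rw [tr_stdA]; exact t0_sq_ne_four hord hz0 hsum)
  exact isConj_iff.mp this

theorem relIndex_T (hord : orderOf z = Fintype.card F + 1) (hz0 : z ≠ 0) (hsum : z + z⁻¹ = φ t0) :
    (Subgroup.centralizer {stdA t0}).relIndex
      (Subgroup.normalizer ((Subgroup.centralizer {stdA t0} : Subgroup (SL2 F)) : Set (SL2 F))) = 2 := by
  obtain ⟨w, hw⟩ := exists_w hord hz0 hsum
  have hne := stdA_ne_inv hord hz0 hsum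
  rw [Subgroup.relIndex_eq_two_iff]
  refine ⟨w, (mem_normalizer_iff hord hz0 hsum).mpr (Or.inr hw), ?_⟩
  intro b hb
  have hbw : b * w * stdA t0 * (b * w)⁻¹ = (b * stdA t0 * b⁻¹)⁻¹ := by
    calc b * w * stdA t0 * (b * w)⁻¹ = b * (w * stdA t0 * w⁻¹) * b⁻¹ := by group
      _ = b * (stdA t0)⁻¹ * b⁻¹ := by rw [hw]
      _ = (b * stdA t0 * b⁻¹)⁻¹ := by group
  rw [mem_T_iff, mem_T_iff, hbw]
  rcases (mem_normalizer_iff hord hz0 hsum).mp hb with h | h
  · right
    rw [h]
    exact ⟨rfl, fun h' => hne h'.symm⟩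
  · left
    rw [h, inv_inv]
    exact ⟨rfl, fun h' => hne h'.symm⟩

theorem conj_eq_inv_of_not_mem (hord : orderOf z = Fintype.card F + 1) (hz0 : z ≠ 0) (hsum : z + z⁻¹ = φ t0)
    {g : SL2 F}
    (hg : g ∈ Subgroup.normalizer ((Subgroup.centralizer {stdA t0} : Subgroup (SL2 F)) : Set (SL2 F)))
    (hgT : g ∉ Subgroup.centralizer {stdA t0}) : g * stdA t0 * g⁻¹ = (stdA t0)⁻¹ := by
  rcases (mem_normalizer_iff hord hz0 hsum).mp hg with h | h
  · exact absurd (mem_T_iff.mpr h) hgT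
  · exact h

theorem T_inverted (hord : orderOf z = Fintype.card F + 1) (hz0 : z ≠ 0) (hsum : z + z⁻¹ = φ t0)
    (g : SL2 F)
    (hg : g ∈ Subgroup.normalizer ((Subgroup.centralizer {stdA t0} : Subgroup (SL2 F)) : Set (SL2 F)))
    (hgT : g ∉ Subgroup.centralizer {stdA t0}) (t : SL2 F) (ht : t ∈ Subgroup.centralizer {stdA t0}) :
    g * t * g⁻¹ = t⁻¹ := by
  obtain ⟨k, rfl⟩ := exists_pow_of_inC hord hz0 hsum (mem_centralizer_stdA.mp ht)
  rw [← conj_pow, conj_eq_inv_of_not_mem hord hz0 hsum hg hgT, inv_pow]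

theorem sq_of_normalizer_T (hord : orderOf z = Fintype.card F + 1) (hz0 : z ≠ 0) (hsum : z + z⁻¹ = φ t0)
    (g : SL2 F)
    (hg : g ∈ Subgroup.normalizer ((Subgroup.centralizer {stdA t0} : Subgroup (SL2 F)) : Set (SL2 F)))
    (hgT : g ∉ Subgroup.centralizer {stdA t0}) : g * g = -1 := by
  have h := conj_eq_inv_of_not_mem hord hz0 hsum hg hgT
  rw [mul_inv_eq_iff_eq_mul] at h
  have h10 := congrArg (fun A : SL2 F => A 1 0) h
  simp only [mul_10, inv_10, inv_11, stdA, mk2_00, mk2_10] at h10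
  apply sq_eq_neg_one_of_tr_eq_zero
  rw [tr]
  linear_combination h10

theorem T_comm (a : SL2 F) (ha : a ∈ Subgroup.centralizer {stdA t0}) (b : SL2 F)
    (hb : b ∈ Subgroup.centralizer {stdA t0}) : a * b = b * a := by
  rw [mem_centralizer_stdA] at ha hb
  apply ext2 <;> simp only [mul_00, mul_01, mul_10, mul_11, ha.1, ha.2, hb.1, hb.2] <;> ring

theorem card_T (hord : orderOf z = Fintype.card F + 1) (hz0 : z ≠ 0) (hsum : z + z⁻¹ = φ t0) :
    Nat.card (Subgroup.centralizer {stdA t0} : Subgroup (SL2 F)) = Fintype.card F + 1 := by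
  rw [centralizer_stdA_eq_zpowers hord hz0 hsum, Nat.card_zpowers, orderOf_stdA hord hz0 hsum]

theorem isCyclic_T (hord : orderOf z = Fintype.card F + 1) (hz0 : z ≠ 0) (hsum : z + z⁻¹ = φ t0) :
    IsCyclic (Subgroup.centralizer {stdA t0} : Subgroup (SL2 F)) := by
  rw [centralizer_stdA_eq_zpowers hord hz0 hsum]
  infer_instance

theorem card_normalizer_T (hord : orderOf z = Fintype.card F + 1) (hz0 : z ≠ 0) (hsum : z + z⁻¹ = φ t0) :
    Nat.card (Subgroup.normalizer ((Subgroup.centralizer {stdA t0} : Subgroup (SL2 F)) : Set (SL2 F))) =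
      2 * (Fintype.card F + 1) := by
  rw [card_of_relIndex_two Subgroup.le_normalizer (relIndex_T hord hz0 hsum), card_T hord hz0 hsum]

theorem card_conjClasses_normalizer_T (h2 : (2 : F) ≠ 0) (hord : orderOf z = Fintype.card F + 1)
    (hz0 : z ≠ 0) (hsum : z + z⁻¹ = φ t0) :
    2 * Nat.card (ConjClasses
      (Subgroup.normalizer ((Subgroup.centralizer {stdA t0} : Subgroup (SL2 F)) : Set (SL2 F)))) =
      Fintype.card F + 1 + 6 := by
  rw [← card_T hord hz0 hsum]
  apply Helper46Dicyclic.card_conjClasses_subgroup _ _ Subgroup.le_normalizer T_comm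
    (T_inverted hord hz0 hsum) (relIndex_T hord hz0 hsum) (-1) ?_ (neg_one_ne_one h2)
    (fun t _ => mul_self_eq_one_iff h2 t)
  rw [mem_centralizer_stdA]
  constructor <;> simp [Helper46SL2.neg_apply]

/-- An element with an eigenvalue in the field has an eigenvector. -/
theorem exists_eigenvector (g : SL2 F) (a : F) (ha0 : a ≠ 0) (ha : a + a⁻¹ = tr g) :
    ∃ v : Fin 2 → F, v ≠ 0 ∧ (g : Matrix (Fin 2) (Fin 2) F).mulVec v = a • v := by
  have hdet : ((g : Matrix (Fin 2) (Fin 2) F) - a • (1 : Matrix (Fin 2) (Fin 2) F)).det = 0 := by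
    rw [Matrix.det_fin_two]
    simp only [Matrix.sub_apply, Matrix.smul_apply, Matrix.one_apply_eq, smul_eq_mul, mul_one, ne_eq,
      zero_ne_one, one_ne_zero, not_false_eq_true, Matrix.one_apply_ne, mul_zero, sub_zero]
    have h1 := det2 g
    have h2 : a * a⁻¹ = 1 := mul_inv_cancel₀ ha0
    rw [tr] at ha
    linear_combination h1 + a * ha - h2
  obtain ⟨v, hv0, hv⟩ := Matrix.exists_mulVec_eq_zero_iff.mpr hdet
  refine ⟨v, hv0, ?_⟩
  rw [Matrix.sub_mulVec, Matrix.smul_mulVec, Matrix.one_mulVec, sub_eq_zero] at hv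
  exact hv

theorem exists_pow_tr_eq (hord : orderOf z = Fintype.card F + 1) (hz0 : z ≠ 0) (hsum : z + z⁻¹ = φ t0)
    (s : F) (l : AlgebraicClosure F) (hl0 : l ≠ 0) (hl : l + l⁻¹ = φ s) (hlq : l ^ (Fintype.card F + 1) = 1) :
    ∃ i : ℕ, tr (stdA t0 ^ i) = s := by
  have hprim : IsPrimitiveRoot z (Fintype.card F + 1) := hord ▸ IsPrimitiveRoot.orderOf z
  obtain ⟨i, -, hi⟩ := hprim.eq_pow_of_pow_eq_one hlq
  refine ⟨i, ?_⟩
  have hB := inC_pow (inC_stdA t0) i
  have h1 := psi_norm φ t0 z hz0 hsum hB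
  have h2 := phi_tr φ t0 z hsum hB
  rw [psi_pow φ t0 z (z_sq hz0 hsum), hi] at h1 h2
  have h3 : φ ((stdA t0 ^ i) 0 0) + φ ((stdA t0 ^ i) 1 0) * z⁻¹ = l⁻¹ := (inv_eq_of_mul_eq_one_right h1).symm
  rw [h3, hl] at h2
  exact (algebraMap F (AlgebraicClosure F)).injective h2

theorem exists_conj_mem_T (hord : orderOf z = Fintype.card F + 1) (hz0 : z ≠ 0) (hsum : z + z⁻¹ = φ t0)
    (g : SL2 F)
    (hno : ∀ (c : F) (v : Fin 2 → F), v ≠ 0 → (g : Matrix (Fin 2) (Fin 2) F).mulVec v ≠ c • v) :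
    ∃ h : SL2 F, h * g * h⁻¹ ∈ Subgroup.centralizer {stdA t0} := by
  rcases eigen_cases (tr g) with ⟨a, ha0, ha⟩ | ⟨l, hl0, hl, hlq, hl2, -⟩
  · obtain ⟨v, hv0, hv⟩ := exists_eigenvector g a ha0 ha
    exact absurd hv (hno a v hv0)
  · obtain ⟨i, hi⟩ := exists_pow_tr_eq hord hz0 hsum (tr g) l hl0 hl hlq
    have h4 : tr g ^ 2 ≠ 4 := by
      intro h
      apply add_inv_sq_ne_four hl0 hl2
      rw [hl, ← map_pow, h]
      exact map_ofNat φ 4
    obtain ⟨h, hh⟩ := isConj_iff.mp (isConj_of_tr_eq hi.symm h4)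
    refine ⟨h, ?_⟩
    rw [hh, mem_centralizer_stdA]
    exact inC_pow (inC_stdA t0) i

end finite2

end Cfsg.Agent.Lib.Helper46ToriNS
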