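import Cfsg.Agent.Lib.Helper47F4Mat
import Cfsg.Prelude.Def_Spor_Fi22

set_option autoImplicit false
set_option maxRecDepth 100000

/-! The nine generators of `3.Fi₂₂` as 27 × 27 matrices over the field with four elements. -/

namespace Cfsg.Agent.Lib.Helper47Fi22M27

open Cfsg.Agent.Lib.Helper18F4 Cfsg.Agent.Lib.Helper47F4Mat

abbrev Gen := Cfsg.Spor.Fi22.Gen

abbrev lbl (x y : Gen) : ℕ := Cfsg.Spor.coxLabel Cfsg.Spor.Fi22.edges x y

def R : Gen → List Row
  | .a => [(1, 1404926), (19455, 2789377), (75519, 12750849), (273855, 21532673), (1060703, 27299841), (345583, 38408193), (1132407, 44175361), (354991, 71991297), (1330555, 52957185), (1141463, 77758465), (1385853, 62918657), (1338267, 86540289), (65705342, 1406), (1388189, 96501761), (1395683, 103415809), (99269278, 10910), (1402597, 113377281), (116118246, 82662), (1404329, 122159105), (124705194, 281002), (1404753, 127926273), (129686354, 1067858), (131052716, 337068), (133412436, 1123924), (134003992, 1322264), (134174048, 1394016), (134212224, 1403520)]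
  | .b => [(2, 0), (1, 0), (4, 0), (8, 0), (16, 0), (32, 0), (64, 0), (128, 0), (256, 0), (512, 0), (4096, 0), (2048, 0), (1024, 0), (32768, 0), (16384, 0), (8192, 0), (131072, 0), (65536, 0), (524288, 0), (262144, 0), (2097152, 0), (1048576, 0), (4194304, 0), (8388608, 0), (16777216, 0), (33554432, 0), (67108864, 0)]
  | .c => [(1, 0), (4, 0), (2, 0), (8, 0), (16, 0), (32, 0), (64, 0), (128, 0), (1024, 0), (512, 0), (256, 0), (8192, 0), (4096, 0), (2048, 0), (65536, 0), (32768, 0), (16384, 0), (131072, 0), (262144, 0), (4194304, 0), (1048576, 0), (8388608, 0), (524288, 0), (2097152, 0), (16777216, 0), (33554432, 0), (67108864, 0)]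
  | .d => [(1, 0), (2, 0), (8, 0), (4, 0), (16, 0), (32, 0), (256, 0), (128, 0), (64, 0), (2048, 0), (1024, 0), (512, 0), (4096, 0), (8192, 0), (16384, 0), (32768, 0), (262144, 0), (524288, 0), (65536, 0), (131072, 0), (1048576, 0), (2097152, 0), (4194304, 0), (16777216, 0), (8388608, 0), (33554432, 0), (67108864, 0)]
  | .e => [(1, 0), (2, 0), (4, 0), (32, 0), (64, 0), (8, 0), (16, 0), (128, 0), (256, 0), (512, 0), (1024, 0), (16384, 0), (4096, 0), (65536, 0), (2048, 0), (131072, 0), (8192, 0), (32768, 0), (262144, 0), (524288, 0), (1048576, 0), (2097152, 0), (4194304, 0), (8388608, 0), (33554432, 0), (16777216, 0), (67108864, 0)]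
  | .f => [(1, 0), (2, 0), (4, 0), (8, 0), (16, 0), (128, 0), (512, 0), (32, 0), (2048, 0), (64, 0), (8192, 0), (256, 0), (32768, 0), (1024, 0), (16384, 0), (4096, 0), (65536, 0), (131072, 0), (262144, 0), (524288, 0), (1048576, 0), (2097152, 0), (4194304, 0), (8388608, 0), (16777216, 0), (67108864, 0), (33554432, 0)]
  | .g => [(1407, 1403520), (4479, 2804352), (5247, 12821120), (5439, 21801088), (5471, 28355072), (5487, 38748288), (5495, 45302272), (5237423, 67108911), (5499, 54282240), (11791063, 67108951), (5501, 64299008), (20769691, 67109147), (5502, 65699840), (30781085, 67109917), (37702627, 67109219), (32160414, 67112990), (47671013, 67109989), (49009382, 67113062), (56454569, 67110185), (57596330, 67113258), (62222161, 67110225), (62577490, 67113298), (63943852, 67114028), (66303572, 67114068), (66895128, 67114264), (67065184, 67114336), (134212224, 67103360)]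
  | .h => [(1, 0), (2, 0), (4, 0), (16, 0), (8, 0), (64, 0), (32, 0), (512, 0), (256, 0), (128, 0), (1024, 0), (2048, 0), (4096, 0), (8192, 0), (16384, 0), (32768, 0), (65536, 0), (131072, 0), (1048576, 0), (2097152, 0), (262144, 0), (524288, 0), (8388608, 0), (4194304, 0), (16777216, 0), (33554432, 0), (67108864, 0)]
  | .i => [(0, 1048576), (0, 2097152), (0, 8388608), (0, 16777216), (16, 0), (0, 33554432), (64, 0), (0, 67108864), (256, 0), (512, 0), (1024, 0), (2048, 0), (4096, 0), (8192, 0), (16384, 0), (32768, 0), (65536, 0), (131072, 0), (262144, 0), (524288, 0), (1, 1), (2, 2), (4194304, 0), (4, 4), (8, 8), (32, 32), (128, 128)]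

theorem hR (s : Gen) : (R s).length = 27 := by cases s <;> rfl

def allGen : List Gen := [.a, .b, .c, .d, .e, .f, .g, .h, .i]

theorem mem_allGen (x : Gen) : x ∈ allGen := by cases x <;> simp [allGen]

theorem chkCoxAll : (allGen.all fun x => allGen.all fun y =>
    chkW 27 R (List.replicate (lbl x y) [x, y]).flatten 1) = true := by decide +kernel

theorem chkCox (x y : Gen) : chkW 27 R (List.replicate (lbl x y) [x, y]).flatten 1 = true :=
  List.all_eq_true.mp (List.all_eq_true.mp chkCoxAll x (mem_allGen x)) y (mem_allGen y)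

theorem chkS : chkW 27 R (List.replicate 10 [Cfsg.Spor.Fi22.Gen.d, .c, .b, .d, .e, .f, .d, .h, .i]).flatten
    ⟨false, true⟩ = true := by decide +kernel

theorem chkE1 : chkW 27 R (List.replicate 9 [Cfsg.Spor.Fi22.Gen.a, .b, .c, .d, .e, .f, .h]).flatten 1 = true := by
  decide +kernel

theorem chkE2 : chkW 27 R (List.replicate 9 [Cfsg.Spor.Fi22.Gen.b, .c, .d, .e, .f, .g, .h]).flatten 1 = true := by
  decide +kernel

end Cfsg.Agent.Lib.Helper47Fi22M27
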