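import Cfsg.Agent.Lib.Helper47Fi22OutB
import Cfsg.Agent.Lib.Helper47StemA

set_option autoImplicit false
set_option maxRecDepth 100000

/-! Data for the Schur multiplier of `Fi₂₂`: reductions of words in the 3-transpositions. -/

namespace Cfsg.Agent.Lib.Helper47Fi22MultD

open Cfsg.Agent.Lib.Helper35TC Cfsg.Agent.Lib.Helper35Fi22a Cfsg.Agent.Lib.Helper47Fi22Out
  Cfsg.Agent.Lib.Helper47StemA

def l9 : List ℕ := [6, 4, 2, 6, 38, 87, 6, 19, 64]

def l7 : List ℕ := [0, 2, 4, 6, 38, 87, 19]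

def l7' : List ℕ := [2, 4, 6, 38, 87, 140, 19]

def cE1 : List (ℕ × ℕ) := [(0, 62), (34, 31), (6, 31), (33, 29), (58, 16), (68, 10), (12, 23), (32, 21), (18, 14), (45, 17), (61, 9), (29, 21), (30, 21), (44, 21), (53, 15), (29, 16), (24, 8), (42, 8), (28, 13), (35, 10), (33, 12), (43, 10), (37, 9), (44, 10), (51, 7), (56, 6), (61, 5), (6, 29), (33, 18), (27, 20), (16, 15), (11, 8), (18, 13), (15, 15), (25, 12), (18, 11), (26, 8), (31, 6), (30, 7), (24, 6), (27, 8), (31, 7), (21, 11), (29, 8), (23, 8), (11, 11), (5, 7), (1, 6), (6, 6), (5, 6), (10, 4), (7, 3), (4, 3), (6, 3), (6, 4), (3, 2), (3, 4), (1, 3), (2, 2), (3, 1), (0, 2), (0, 1), (0, 0)]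

def cE2 : List (ℕ × ℕ) := [(0, 62), (32, 33), (27, 31), (54, 28), (39, 16), (51, 21), (36, 16), (11, 28), (6, 23), (15, 23), (34, 16), (43, 10), (22, 22), (11, 24), (19, 22), (35, 11), (16, 19), (32, 2), (30, 15), (42, 9), (46, 8), (41, 14), (25, 16), (40, 2), (33, 10), (41, 12), (34, 6), (24, 12), (33, 9), (38, 5), (37, 9), (44, 6), (49, 5), (30, 16), (28, 20), (16, 15), (10, 13), (22, 14), (14, 9), (25, 10), (16, 12), (10, 8), (16, 7), (20, 5), (7, 9), (2, 8), (6, 6), (10, 3), (9, 8), (14, 6), (15, 6), (12, 3), (11, 3), (8, 2), (5, 5), (7, 4), (4, 3), (1, 3), (1, 3), (2, 2), (0, 2), (0, 1), (0, 0)]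

def cS3 : List (ℕ × ℕ) := [(1, 44), (0, 1), (42, 1), (35, 6), (35, 6), (32, 11), (29, 12), (29, 16), (28, 16), (27, 17), (20, 22), (20, 22), (17, 27), (14, 28), (14, 32), (13, 32), (12, 33), (5, 38), (5, 38), (2, 43), (0, 43), (43, 44), (86, 1), (79, 6), (79, 6), (40, 7), (46, 1), (37, 8), (70, 11), (67, 12), (36, 13), (65, 16), (64, 16), (63, 17), (27, 21), (41, 13), (39, 13), (24, 18), (47, 29), (44, 30), (39, 39), (73, 43), (115, 1), (68, 4), (70, 4), (104, 6), (104, 6), (66, 7), (64, 8), (67, 9), (95, 11), (92, 12), (92, 16), (91, 16), (90, 17), (56, 19), (68, 13), (39, 20), (56, 21), (52, 15), (33, 19), (70, 29), (67, 30), (27, 38), (64, 35), (26, 39), (41, 35), (16, 36), (6, 43), (41, 8), (48, 7), (47, 7), (5, 9), (43, 9), (38, 9), (44, 8), (3, 10), (2, 10), (1, 11), (25, 11), (28, 9), (7, 20), (25, 19), (24, 19), (22, 20), (31, 12), (34, 11), (6, 15), (11, 20), (36, 21), (28, 15), (26, 25), (40, 18), (3, 22), (15, 35), (14, 1), (47,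 1), (46, 3), (42, 3), (42, 2), (43, 2), (40, 3), (40, 2), (8, 5), (7, 5), (31, 5), (35, 4), (30, 5), (33, 3), (11, 6), (9, 7), (25, 7), (22, 8), (8, 9), (3, 4), (13, 9), (16, 7), (20, 5), (18, 2), (19, 3), (13, 5), (10, 3), (12, 3), (5, 6), (10, 3), (5, 5), (4, 5), (6, 4), (9, 1), (2, 4), (0, 1), (3, 1), (2, 1), (0, 1), (0, 0)]

theorem chkE1 : chk circN cE1 (List.replicate 18 l7).flatten = true := by decide +kernel

theorem chkE2 : chk circN cE2 (List.replicate 18 l7').flatten = true := by decide +kernel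

theorem chkS3 : chk circN cS3 (List.replicate 30 l9).flatten = true := by decide +kernel

/-- the last generator of the centraliser -/
def uE : WExp Gen :=
  .pow (.mul (.mul (.mul (.mul (.mul (.of .a) (.of .b)) (.of .c)) (.of .d)) (.of .e)) (.of .h)) 5

def e7E : WExp Gen :=
  .pow (.mul (.mul (.mul (.mul (.mul (.mul (.of .c) (.of .d)) (.of .e)) (.of .f)) (.of .g)) (.of .h))
    (.of .i)) 9

theorem chkU2 : BD.fixChk K.P ((WExp.mul uE uE).app K.code K.P.iv) = true := by decide +kernel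

theorem chkUF : BD.fixChk K.P ((WExp.pow (.mul uE (.of .f)) 3).app K.code K.P.iv) = true := by
  decide +kernel

theorem chkE7 : BD.fixChk K.P (e7E.app K.code K.P.iv) = true := by decide +kernel

end Cfsg.Agent.Lib.Helper47Fi22MultD
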