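import Mathlib

set_option autoImplicit false

/-! Generic tools for identifying an index-two subgroup of a finite group with a matrix group
through a common permutation action:
* `exists_index_two` : the abstract counting lemma;
* `card_step`, `level` : lower bounds for orders of permutation groups along a stabiliser chain;
* `ProjLab` : permutation action of a matrix group on labelled projective points. -/

namespace Cfsg.Agent.Lib.Helper47Idx2

theorem exists_index_two {H S T : Type*} [Group H] [Group S] [Group T] [Finite H] [Finite S]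
    (m : ℕ) (hm : 0 < m) (hH : Nat.card H = 2 * m) (hS : Nat.card S = m)
    (ρ : H →* T) (α : S →* T) (hα : Function.Injective α) (σ : T)
    (h1 : ∀ h, (∃ s, ρ h = α s) ∨ ∃ s, ρ h = α s * σ)
    (h2 : 2 * m ≤ Nat.card ρ.range) :
    ∃ N : Subgroup H, N.Normal ∧ N.index = 2 ∧ Nonempty (N ≃* S) := by
  classical
  have hρ : Function.Injective ρ := by
    have hb : Function.Bijective ρ.rangeRestrict :=
      Function.Surjective.bijective_of_nat_card_le ρ.rangeRestrict_surjective (by rw [hH]; exact h2)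
    intro a b hab
    apply hb.1
    exact Subtype.ext hab
  set N : Subgroup H := α.range.comap ρ with hN
  -- the homomorphism N → S
  let e : α.range ≃* S := (MonoidHom.ofInjective hα).symm
  let f0 : N →* α.range :=
    { toFun := fun x => ⟨ρ x.1, x.2⟩
      map_one' := Subtype.ext (map_one ρ)
      map_mul' := fun x y => Subtype.ext (map_mul ρ x.1 y.1) }
  let f : N →* S := e.toMonoidHom.comp f0
  have hf : Function.Injective f := by
    intro x y hxy
    have h3 : f0 x = f0 y := e.injective hxy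
    exact Subtype.ext (hρ (congrArg Subtype.val h3))
  have hNle : Nat.card N ≤ m := hS ▸ Nat.card_le_card_of_injective f hf
  -- the complement injects into S
  have hB : Nat.card {h : H // h ∉ N} ≤ m := by
    have hex : ∀ h : {h : H // h ∉ N}, ∃ s, ρ h.1 = α s * σ := by
      intro h
      rcases h1 h.1 with ⟨s, hs⟩ | hs
      · exact absurd (show h.1 ∈ N from ⟨s, hs.symm⟩) h.2
      · exact hs
    choose g hg using hex
    rw [← hS]
    apply Nat.card_le_card_of_injective g
    intro x y hxy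
    apply Subtype.ext
    apply hρ
    rw [hg x, hg y, hxy]
  have hsum : Nat.card H = Nat.card N + Nat.card {h : H // h ∉ N} := by
    have := Fintype.ofFinite H
    rw [Nat.card_eq_fintype_card, Nat.card_eq_fintype_card, Nat.card_eq_fintype_card]
    exact (Fintype.card_subtype_compl (fun h => h ∈ N) ▸
      (Nat.add_sub_cancel' (Fintype.card_subtype_le (fun h => h ∈ N))).symm)
  have hNcard : Nat.card N = m := by omega
  have hidx : N.index = 2 := by
    have h3 := N.card_mul_index
    rw [hNcard, hH] at h3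
    have : m * N.index = m * 2 := by rw [h3]; ring
    exact Nat.eq_of_mul_eq_mul_left hm this
  refine ⟨N, Subgroup.normal_of_index_eq_two hidx, hidx, ?_⟩
  have hbij : Function.Bijective f :=
    (Nat.bijective_iff_injective_and_card f).mpr ⟨hf, by rw [hNcard, hS]⟩
  exact ⟨MulEquiv.ofBijective f hbij⟩

/-- closure of a set inside `S ∪ Sσ` -/
theorem closure_sub_union {S T : Type*} [Group S] [Group T] (α : S →* T) (σ : T) (Y : Set T)
    (hY : ∀ y ∈ Y, ((∃ s, y = α s) ∨ ∃ s, y = α s * σ) ∧ ((∃ s, σ * y = α s) ∨ ∃ s, σ * y = α s * σ))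
    (hY' : ∀ y ∈ Y, ((∃ s, y⁻¹ = α s) ∨ ∃ s, y⁻¹ = α s * σ) ∧
      ((∃ s, σ * y⁻¹ = α s) ∨ ∃ s, σ * y⁻¹ = α s * σ)) :
    ∀ x ∈ Subgroup.closure Y, (∃ s, x = α s) ∨ ∃ s, x = α s * σ := by
  have key : ∀ y : T, (((∃ s, y = α s) ∨ ∃ s, y = α s * σ) ∧
      ((∃ s, σ * y = α s) ∨ ∃ s, σ * y = α s * σ)) → ∀ x : T,
      ((∃ s, x = α s) ∨ ∃ s, x = α s * σ) → ((∃ s, x * y = α s) ∨ ∃ s, x * y = α s * σ) := by
    rintro y ⟨h1, h2⟩ x (⟨s, rfl⟩ | ⟨s, rfl⟩)
    · rcases h1 with ⟨t, rfl⟩ | ⟨t, rfl⟩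
      · exact Or.inl ⟨s * t, by rw [map_mul]⟩
      · exact Or.inr ⟨s * t, by rw [map_mul, mul_assoc]⟩
    · rcases h2 with ⟨t, ht⟩ | ⟨t, ht⟩
      · exact Or.inl ⟨s * t, by rw [map_mul, mul_assoc, ht]⟩
      · exact Or.inr ⟨s * t, by rw [map_mul, mul_assoc, ht, mul_assoc]⟩
  intro x hx
  induction hx using Subgroup.closure_induction_right with
  | one => exact Or.inl ⟨1, by rw [map_one]⟩
  | mul_right x _ y hy ih => exact key y (hY y hy) x ih
  | mul_inv_cancel x _ y hy ih => exact key y⁻¹ (hY' y hy) x ih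

/-! ### stabiliser chains -/

theorem card_step {n : ℕ} (G : Subgroup (Equiv.Perm (Fin n))) (b : Fin n) (O : Finset (Fin n))
    (hO : ∀ x ∈ O, ∃ g ∈ G, g b = x) :
    O.card * Nat.card (G ⊓ MulAction.stabilizer (Equiv.Perm (Fin n)) b : Subgroup _) ≤ Nat.card G := by
  classical
  have hex : ∀ x : O, ∃ g ∈ G, g b = x.1 := fun x => hO x.1 x.2
  choose t ht1 ht2 using hex
  let F : O × (G ⊓ MulAction.stabilizer (Equiv.Perm (Fin n)) b : Subgroup _) → G :=
    fun p => ⟨t p.1 * p.2.1, G.mul_mem (ht1 p.1) p.2.2.1⟩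
  have hF : Function.Injective F := by
    rintro ⟨x, s⟩ ⟨x', s'⟩ h
    have h1 : t x * s.1 = t x' * s'.1 := congrArg Subtype.val h
    have hs : s.1 b = b := s.2.2
    have hs' : s'.1 b = b := s'.2.2
    have h2 : x = x' := by
      apply Subtype.ext
      have := congrArg (fun g : Equiv.Perm (Fin n) => g b) h1
      simp only [Equiv.Perm.mul_apply, hs, hs', ht2] at this
      exact this
    subst h2
    have h3 : s = s' := Subtype.ext (mul_left_cancel h1)
    rw [h3]
  have := Nat.card_le_card_of_injective F hF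
  rwa [Nat.card_prod, Nat.card_eq_fintype_card, Fintype.card_coe] at this

def look (tab j : ℕ) : ℕ := Nat.land (Nat.shiftRight tab (7 * j)) 127

def wev (tabs : ℕ → ℕ) (w : List ℕ) (j : ℕ) : ℕ :=
  w.foldr (fun k x => look (tabs k) x) j

def permOf (n tab itab : ℕ) (h : ∀ j < n, look tab j < n ∧ look itab j < n ∧
    look itab (look tab j) = j ∧ look tab (look itab j) = j) : Equiv.Perm (Fin n) where
  toFun j := ⟨look tab j, (h j j.2).1⟩
  invFun j := ⟨look itab j, (h j j.2).2.1⟩
  left_inv j := Fin.ext (h j j.2).2.2.1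
  right_inv j := Fin.ext (h j j.2).2.2.2

theorem permOf_apply (n tab itab : ℕ) (h) (j : Fin n) :
    ((permOf n tab itab h j : Fin n) : ℕ) = look tab j := rfl

theorem permOf_inv_apply (n tab itab : ℕ) (h) (j : Fin n) :
    (((permOf n tab itab h)⁻¹ j : Fin n) : ℕ) = look itab j := rfl

theorem prod_apply {n : ℕ} (gens : ℕ → Equiv.Perm (Fin n)) (tabs : ℕ → ℕ)
    (hg : ∀ k (j : Fin n), ((gens k j : Fin n) : ℕ) = look (tabs k) j) (w : List ℕ) (j : Fin n) :
    ((((w.map gens).prod) j : Fin n) : ℕ) = wev tabs w j := by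
  induction w with
  | nil => rfl
  | cons k w ih =>
    rw [List.map_cons, List.prod_cons, Equiv.Perm.mul_apply, hg, ih]
    rfl

def grow (f : ℕ → ℕ → ℕ) (b : ℕ) : List ℕ → List (ℕ × ℕ) → List ℕ
  | seen, [] => seen
  | seen, p :: r => grow f b ((if seen.contains p.1 then f p.2 p.1 else b) :: seen) r

theorem grow_spec (f : ℕ → ℕ → ℕ) (b : ℕ) (P : ℕ → Prop) (hb : P b)
    (hf : ∀ k y, P y → P (f k y)) : ∀ (tree : List (ℕ × ℕ)) (seen : List ℕ), (∀ x ∈ seen, P x) →
    ∀ x ∈ grow f b seen tree, P x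
  | [], seen, h => h
  | p :: r, seen, h => by
    apply grow_spec f b P hb hf r
    intro x hx
    rcases List.mem_cons.mp hx with rfl | hx
    · split
      · rename_i hc
        exact hf _ _ (h _ (by simpa using hc))
      · exact hb
    · exact h x hx

theorem level {n : ℕ} (gens : ℕ → Equiv.Perm (Fin n)) (tabs : ℕ → ℕ)
    (hg : ∀ k (j : Fin n), ((gens k j : Fin n) : ℕ) = look (tabs k) j)
    (G : Subgroup (Equiv.Perm (Fin n))) (ws : List (List ℕ))
    (hws : ∀ w ∈ ws, (w.map gens).prod ∈ G) (b : Fin n) (tree : List (ℕ × ℕ)) (L : ℕ)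
    (hnd : (grow (fun k y => wev tabs (ws.getD k []) y) b [(b : ℕ)] tree).Nodup)
    (hlen : (grow (fun k y => wev tabs (ws.getD k []) y) b [(b : ℕ)] tree).length = L) :
    L * Nat.card (G ⊓ MulAction.stabilizer (Equiv.Perm (Fin n)) b : Subgroup _) ≤ Nat.card G := by
  classical
  set l := grow (fun k y => wev tabs (ws.getD k []) y) b [(b : ℕ)] tree with hl
  have hP : ∀ x ∈ l, ∃ g ∈ G, ((g b : Fin n) : ℕ) = x := by
    apply grow_spec _ _ (fun x => ∃ g ∈ G, ((g b : Fin n) : ℕ) = x)
    · exact ⟨1, G.one_mem, rfl⟩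
    · rintro k y ⟨g, hgG, rfl⟩
      have hmem : ((ws.getD k []).map gens).prod ∈ G := by
        by_cases hk : k < ws.length
        · rw [List.getD_eq_getElem _ _ hk]
          exact hws _ (List.getElem_mem hk)
        · rw [List.getD_eq_default _ _ (by omega)]
          simp
      refine ⟨((ws.getD k []).map gens).prod * g, G.mul_mem hmem hgG, ?_⟩
      rw [Equiv.Perm.mul_apply, prod_apply gens tabs hg]
    · intro x hx
      rw [List.mem_singleton] at hx
      exact ⟨1, G.one_mem, hx.symm⟩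
  set O : Finset (Fin n) := Finset.univ.filter (fun x : Fin n => (x : ℕ) ∈ l) with hO
  have hcard : O.card = L := by
    have h1 : O.map Fin.valEmbedding = l.toFinset := by
      ext x
      simp only [hO, Finset.mem_map, Finset.mem_filter, Finset.mem_univ, true_and,
        Fin.valEmbedding_apply, List.mem_toFinset]
      constructor
      · rintro ⟨a, ha, rfl⟩
        exact ha
      · intro hx
        obtain ⟨g, _, hgx⟩ := hP x hx
        exact ⟨g b, by rw [hgx]; exact hx, hgx⟩
    rw [← Finset.card_map Fin.valEmbedding, h1, List.toFinset_card_of_nodup hnd, hlen]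
  rw [← hcard]
  apply card_step
  intro x hx
  rw [hO, Finset.mem_filter] at hx
  obtain ⟨g, hgG, hgx⟩ := hP _ hx.2
  exact ⟨g, hgG, Fin.ext hgx⟩

theorem level' {n : ℕ} (gens : ℕ → Equiv.Perm (Fin n)) (tabs : ℕ → ℕ)
    (hg : ∀ k (j : Fin n), ((gens k j : Fin n) : ℕ) = look (tabs k) j)
    (G : Subgroup (Equiv.Perm (Fin n))) (ws : List (List ℕ))
    (hws : ∀ w ∈ ws, (w.map gens).prod ∈ G) (b : Fin n) (bn : ℕ) (hb : (b : ℕ) = bn)
    (tree : List (ℕ × ℕ)) (L : ℕ)
    (hnd : (grow (fun k y => wev tabs (ws.getD k []) y) bn [bn] tree).Nodup)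
    (hlen : (grow (fun k y => wev tabs (ws.getD k []) y) bn [bn] tree).length = L) :
    L * Nat.card (G ⊓ MulAction.stabilizer (Equiv.Perm (Fin n)) b : Subgroup _) ≤ Nat.card G := by
  subst hb
  exact level gens tabs hg G ws hws b tree L hnd hlen

/-! ### projective labellings -/

structure ProjLab (K : Type*) [Field K] (ι : Type*) (n : ℕ) where
  pt : Fin n → (ι → K)
  lab : (ι → K) → Fin n
  lab_pt : ∀ j, lab (pt j) = j
  pt_ne : ∀ j, pt j ≠ 0
  pt_lab : ∀ v, v ≠ 0 → ∃ c : K, c ≠ 0 ∧ pt (lab v) = c • v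
  lab_smul : ∀ (v : ι → K) (c : K), c ≠ 0 → lab (c • v) = lab v

namespace ProjLab

variable {K : Type*} [Field K] {ι : Type*} [Fintype ι] [DecidableEq ι] {n : ℕ} (L : ProjLab K ι n)
  {M : Type*} [Group M] (f : M →* Matrix ι ι K)

theorem mulVec_ne (A : M) {v : ι → K} (hv : v ≠ 0) : (f A).mulVec v ≠ 0 := by
  intro h
  apply hv
  have : (f A⁻¹).mulVec ((f A).mulVec v) = v := by
    rw [Matrix.mulVec_mulVec, ← map_mul, inv_mul_cancel, map_one, Matrix.one_mulVec]
  rw [← this, h, Matrix.mulVec_zero]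

/-- the action on labels -/
@[reducible] def mulAction : MulAction M (Fin n) where
  smul A j := L.lab ((f A).mulVec (L.pt j))
  one_smul j := by
    show L.lab ((f 1).mulVec (L.pt j)) = j
    rw [map_one, Matrix.one_mulVec, L.lab_pt]
  mul_smul A B j := by
    show L.lab ((f (A * B)).mulVec (L.pt j)) =
      L.lab ((f A).mulVec (L.pt (L.lab ((f B).mulVec (L.pt j)))))
    obtain ⟨c, hc, h⟩ := L.pt_lab _ (mulVec_ne f B (L.pt_ne j))
    rw [h, Matrix.mulVec_smul, L.lab_smul _ _ hc, map_mul, Matrix.mulVec_mulVec]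

def toPerm : M →* Equiv.Perm (Fin n) :=
  @MulAction.toPermHom M (Fin n) _ (L.mulAction f)

theorem toPerm_apply (A : M) (j : Fin n) : L.toPerm f A j = L.lab ((f A).mulVec (L.pt j)) := rfl

theorem fix_of_toPerm_eq_one (A : M) (h : L.toPerm f A = 1) (v : ι → K) (hv : v ≠ 0) :
    ∃ a : K, (f A).mulVec v = a • v := by
  obtain ⟨c, hc, h1⟩ := L.pt_lab v hv
  have h2 : L.lab ((f A).mulVec (L.pt (L.lab v))) = L.lab v := by
    rw [← L.toPerm_apply f, h]; rfl
  obtain ⟨d, hd, h3⟩ := L.pt_lab _ (mulVec_ne f A (L.pt_ne (L.lab v)))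
  rw [h2, h1, Matrix.mulVec_smul] at h3
  -- c • v = d • c • (A v)
  refine ⟨d⁻¹, ?_⟩
  have h4 : (f A).mulVec v = c⁻¹ • d⁻¹ • (d • c • (f A).mulVec v) := by
    rw [smul_smul, smul_smul, smul_smul]
    have : c⁻¹ * d⁻¹ * d * c = 1 := by field_simp
    rw [this, one_smul]
  rw [h4, ← h3, smul_smul, smul_smul]
  congr 1
  field_simp

end ProjLab

end Cfsg.Agent.Lib.Helper47Idx2
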