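import Mathlib
import Cfsg.Agent.Lib.Helper47Idx2

set_option autoImplicit false

/-! Variants of the tools of `Helper47Idx2` with an arbitrary bit width for the packed tables,
projective labellings of a subset of the vectors, and the homomorphism induced on labelled blocks. -/

namespace Cfsg.Agent.Lib.Helper47IdxB

open Cfsg.Agent.Lib.Helper47Idx2

def lookB (B M tab j : ℕ) : ℕ := Nat.land (Nat.shiftRight tab (B * j)) M

def wevB (B M : ℕ) (tabs : ℕ → ℕ) (w : List ℕ) (j : ℕ) : ℕ :=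
  w.foldr (fun k x => lookB B M (tabs k) x) j

def permOfB (B M n tab itab : ℕ) (h : ∀ j < n, lookB B M tab j < n ∧ lookB B M itab j < n ∧
    lookB B M itab (lookB B M tab j) = j ∧ lookB B M tab (lookB B M itab j) = j) :
    Equiv.Perm (Fin n) where
  toFun j := ⟨lookB B M tab j, (h j j.2).1⟩
  invFun j := ⟨lookB B M itab j, (h j j.2).2.1⟩
  left_inv j := Fin.ext (h j j.2).2.2.1
  right_inv j := Fin.ext (h j j.2).2.2.2

theorem prod_applyB {B M n : ℕ} (gens : ℕ → Equiv.Perm (Fin n)) (tabs : ℕ → ℕ)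
    (hg : ∀ k (j : Fin n), ((gens k j : Fin n) : ℕ) = lookB B M (tabs k) j) (w : List ℕ) (j : Fin n) :
    ((((w.map gens).prod) j : Fin n) : ℕ) = wevB B M tabs w j := by
  induction w with
  | nil => rfl
  | cons k w ih =>
    rw [List.map_cons, List.prod_cons, Equiv.Perm.mul_apply, hg, ih]
    rfl

/-- every point of the grown list is reached by an element of `G` -/
theorem reachB {B M n : ℕ} (gens : ℕ → Equiv.Perm (Fin n)) (tabs : ℕ → ℕ)
    (hg : ∀ k (j : Fin n), ((gens k j : Fin n) : ℕ) = lookB B M (tabs k) j)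
    (G : Subgroup (Equiv.Perm (Fin n))) (ws : List (List ℕ))
    (hws : ∀ w ∈ ws, (w.map gens).prod ∈ G) (b : Fin n) (bn : ℕ) (hb : (b : ℕ) = bn)
    (tree : List (ℕ × ℕ)) :
    ∀ x ∈ grow (fun k y => wevB B M tabs (ws.getD k []) y) bn [bn] tree,
      ∃ g ∈ G, ((g b : Fin n) : ℕ) = x := by
  subst hb
  apply grow_spec _ _ (fun x => ∃ g ∈ G, ((g b : Fin n) : ℕ) = x)
  · exact ⟨1, G.one_mem, rfl⟩
  · rintro k y ⟨g, hgG, rfl⟩
    have hmem : ((ws.getD k []).map gens).prod ∈ G := by
      by_cases hk : k < ws.length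
      · rw [List.getD_eq_getElem _ _ hk]
        exact hws _ (List.getElem_mem hk)
      · rw [List.getD_eq_default _ _ (by omega)]
        simp
    refine ⟨((ws.getD k []).map gens).prod * g, G.mul_mem hmem hgG, ?_⟩
    rw [Equiv.Perm.mul_apply, prod_applyB gens tabs hg]
  · intro x hx
    rw [List.mem_singleton] at hx
    exact ⟨1, G.one_mem, hx.symm⟩

theorem levelB {B M n : ℕ} (gens : ℕ → Equiv.Perm (Fin n)) (tabs : ℕ → ℕ)
    (hg : ∀ k (j : Fin n), ((gens k j : Fin n) : ℕ) = lookB B M (tabs k) j)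
    (G : Subgroup (Equiv.Perm (Fin n))) (ws : List (List ℕ))
    (hws : ∀ w ∈ ws, (w.map gens).prod ∈ G) (b : Fin n) (bn : ℕ) (hb : (b : ℕ) = bn)
    (tree : List (ℕ × ℕ)) (L : ℕ)
    (hnd : (grow (fun k y => wevB B M tabs (ws.getD k []) y) bn [bn] tree).Nodup)
    (hlen : (grow (fun k y => wevB B M tabs (ws.getD k []) y) bn [bn] tree).length = L) :
    L * Nat.card (G ⊓ MulAction.stabilizer (Equiv.Perm (Fin n)) b : Subgroup _) ≤ Nat.card G := by
  classical
  set l := grow (fun k y => wevB B M tabs (ws.getD k []) y) bn [bn] tree with hl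
  have hP : ∀ x ∈ l, ∃ g ∈ G, ((g b : Fin n) : ℕ) = x := reachB gens tabs hg G ws hws b bn hb tree
  set O : Finset (Fin n) := Finset.univ.filter (fun x : Fin n => (x : ℕ) ∈ l) with hO
  have hcard : O.card = L := by
    have h1 : O.map Fin.valEmbedding = l.toFinset := by
      ext x
      simp only [hO, Finset.mem_map, Finset.mem_filter, Finset.mem_univ, true_and,
        Fin.valEmbedding_apply, List.mem_toFinset]
      constructor
      · rintro ⟨a, ha, rfl⟩
        exact ha
      · intro hx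
        obtain ⟨g, _, hgx⟩ := hP x hx
        exact ⟨g b, by rw [hgx]; exact hx, hgx⟩
    rw [← Finset.card_map Fin.valEmbedding, h1, List.toFinset_card_of_nodup hnd, hlen]
  rw [← hcard]
  apply card_step
  intro x hx
  rw [hO, Finset.mem_filter] at hx
  obtain ⟨g, hgG, hgx⟩ := hP _ hx.2
  exact ⟨g, hgG, Fin.ext hgx⟩

/-! ### projective labellings of a set of good vectors -/

structure ProjLabI (K : Type*) [Field K] (ι : Type*) (n : ℕ) where
  good : (ι → K) → Prop
  pt : Fin n → (ι → K)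
  lab : (ι → K) → Fin n
  lab_pt : ∀ j, lab (pt j) = j
  pt_good : ∀ j, good (pt j)
  pt_lab : ∀ v, good v → ∃ c : K, c ≠ 0 ∧ pt (lab v) = c • v
  lab_smul : ∀ (v : ι → K) (c : K), c ≠ 0 → lab (c • v) = lab v

namespace ProjLabI

variable {K : Type*} [Field K] {ι : Type*} [Fintype ι] [DecidableEq ι] {n : ℕ} (L : ProjLabI K ι n)
  {M : Type*} [Group M] (f : M →* Matrix ι ι K) (hf : ∀ A v, L.good v → L.good ((f A).mulVec v))

/-- the action on labels -/
@[reducible] def mulAction : MulAction M (Fin n) where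
  smul A j := L.lab ((f A).mulVec (L.pt j))
  one_smul j := by
    show L.lab ((f 1).mulVec (L.pt j)) = j
    rw [map_one, Matrix.one_mulVec, L.lab_pt]
  mul_smul A B j := by
    show L.lab ((f (A * B)).mulVec (L.pt j)) =
      L.lab ((f A).mulVec (L.pt (L.lab ((f B).mulVec (L.pt j)))))
    obtain ⟨c, hc, h⟩ := L.pt_lab _ (hf B _ (L.pt_good j))
    rw [h, Matrix.mulVec_smul, L.lab_smul _ _ hc, map_mul, Matrix.mulVec_mulVec]

def toPerm : M →* Equiv.Perm (Fin n) :=
  @MulAction.toPermHom M (Fin n) _ (L.mulAction f hf)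

theorem toPerm_apply (A : M) (j : Fin n) :
    L.toPerm f hf A j = L.lab ((f A).mulVec (L.pt j)) := rfl

theorem fix_of_toPerm_eq_one (A : M) (h : L.toPerm f hf A = 1) (v : ι → K) (hv : L.good v) :
    ∃ a : K, (f A).mulVec v = a • v := by
  obtain ⟨c, hc, h1⟩ := L.pt_lab v hv
  have h2 : L.lab ((f A).mulVec (L.pt (L.lab v))) = L.lab v := by
    rw [← L.toPerm_apply f hf, h]; rfl
  obtain ⟨d, hd, h3⟩ := L.pt_lab _ (hf A _ (L.pt_good (L.lab v)))
  rw [h2, h1, Matrix.mulVec_smul] at h3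
  refine ⟨d⁻¹, ?_⟩
  have h4 : (f A).mulVec v = c⁻¹ • d⁻¹ • (d • c • (f A).mulVec v) := by
    rw [smul_smul, smul_smul, smul_smul]
    have : c⁻¹ * d⁻¹ * d * c = 1 := by field_simp
    rw [this, one_smul]
  rw [h4, ← h3, smul_smul, smul_smul]
  congr 1
  field_simp

end ProjLabI

/-! ### the homomorphism induced on labels -/

section blocks

variable {n m : ℕ} (bl : Fin n → Option (Fin m))

def RR : Subgroup (Equiv.Perm (Fin n) × Equiv.Perm (Fin m)) where
  carrier := {p | ∀ j, bl (p.1 j) = (bl j).map p.2}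
  one_mem' := by
    intro j
    show bl j = (bl j).map (fun x => x)
    simp
  mul_mem' := by
    intro p q hp hq j
    show bl (p.1 (q.1 j)) = (bl j).map (fun x => p.2 (q.2 x))
    rw [hp, hq, Option.map_map]
    rfl
  inv_mem' := by
    intro p hp j
    show bl (p.1⁻¹ j) = (bl j).map (fun x => p.2⁻¹ x)
    have := hp (p.1⁻¹ j)
    rw [show p.1 (p.1⁻¹ j) = j from Equiv.apply_symm_apply p.1 j] at this
    rw [this, Option.map_map]
    have h2 : ((fun x => p.2⁻¹ x) ∘ (p.2 : Fin m → Fin m)) = id := by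
      funext x
      simp
    rw [h2, Option.map_id]
    rfl

variable {bl}

theorem RR_uniq (hs : ∀ i, ∃ j, bl j = some i) {g : Equiv.Perm (Fin n)} {π π' : Equiv.Perm (Fin m)}
    (h : (g, π) ∈ RR bl) (h' : (g, π') ∈ RR bl) : π = π' := by
  ext i
  obtain ⟨j, hj⟩ := hs i
  have h1 : bl (g j) = (bl j).map π := h j
  have h2 : bl (g j) = (bl j).map π' := h' j
  rw [hj] at h1 h2
  rw [h1] at h2
  exact congrArg Fin.val (Option.some.inj h2)

theorem exists_rho (hs : ∀ i, ∃ j, bl j = some i) {G : Type*} [Group G]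
    (φ : G →* Equiv.Perm (Fin n)) (H : Subgroup G)
    (hex : ∀ g ∈ H, ∃ π, (φ g, π) ∈ RR bl) :
    ∃ ρ : H →* Equiv.Perm (Fin m), ∀ h : H, (φ h.1, ρ h) ∈ RR bl := by
  have hex' : ∀ h : H, ∃ π, (φ h.1, π) ∈ RR bl := fun h => hex h.1 h.2
  choose r hr using hex'
  refine ⟨MonoidHom.mk' r (fun a b => RR_uniq hs (hr (a * b)) ?_), hr⟩
  have h := (RR bl).mul_mem (hr a) (hr b)
  have h2 : φ (a * b : H).1 = φ a.1 * φ b.1 := map_mul φ a.1 b.1
  rw [h2]
  exact h

end blocks

/-- a normal subgroup of order two is central -/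
theorem le_center_of_card_two {G : Type*} [Group G] (N : Subgroup G) [N.Normal]
    (h : Nat.card N = 2) : N ≤ Subgroup.center G := by
  intro z hz
  rw [Subgroup.mem_center_iff]
  intro g
  by_cases hz1 : z = 1
  · rw [hz1, mul_one, one_mul]
  obtain ⟨x, y, hxy, huniv⟩ := Nat.card_eq_two_iff.mp h
  have hmem : ∀ t : N, t = x ∨ t = y := by
    intro t
    have : t ∈ ({x, y} : Set N) := by rw [huniv]; trivial
    simpa using this
  have hc : g * z * g⁻¹ ∈ N := Subgroup.Normal.conj_mem inferInstance z hz g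
  have hc1 : g * z * g⁻¹ ≠ 1 := by
    intro h1
    apply hz1
    have : z = g⁻¹ * (g * z * g⁻¹) * g := by group
    rw [this, h1]; group
  -- three elements 1, z, gzg⁻¹ of a set with two elements
  have key : g * z * g⁻¹ = z := by
    have a1 := hmem ⟨1, N.one_mem⟩
    have a2 := hmem ⟨z, hz⟩
    have a3 := hmem ⟨g * z * g⁻¹, hc⟩
    have b12 : (⟨1, N.one_mem⟩ : N) ≠ ⟨z, hz⟩ := fun h => hz1 (congrArg Subtype.val h).symm
    have b13 : (⟨1, N.one_mem⟩ : N) ≠ ⟨g * z * g⁻¹, hc⟩ :=
      fun h => hc1 (congrArg Subtype.val h).symm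
    have : (⟨g * z * g⁻¹, hc⟩ : N) = ⟨z, hz⟩ := by
      rcases a1 with a1 | a1 <;> rcases a2 with a2 | a2 <;> rcases a3 with a3 | a3
      all_goals first
        | exact absurd (a1.trans a2.symm) b12
        | exact absurd (a1.trans a3.symm) b13
        | exact a3.trans a2.symm
    exact congrArg Subtype.val this
  calc g * z = (g * z * g⁻¹) * g := by group
    _ = z * g := by rw [key]

/-- a central subgroup of order two containing a nontrivial square has no complement -/
theorem no_complement {G : Type*} [Group G] (hZ : Nat.card (Subgroup.center G) = 2) (h : G)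
    (h1 : h * h ∈ Subgroup.center G) (h2 : h * h ≠ 1) (L : Subgroup G) :
    ¬ (Subgroup.center G).IsComplement' L := by
  intro hc
  obtain ⟨⟨⟨ζ, hζ⟩, ⟨l, hl⟩⟩, hzl⟩ := hc.2 h
  have hzl' : ζ * l = h := hzl
  have hζ2 : ζ * ζ = 1 := by
    have : (⟨ζ, hζ⟩ : Subgroup.center G) ^ 2 = 1 := by
      rw [← hZ]; exact pow_card_eq_one'
    have h3 := congrArg Subtype.val this
    simpa [sq] using h3
  have hcomm : l * ζ = ζ * l := (Subgroup.mem_center_iff.mp hζ l)
  have hsq : h * h = l * l := by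
    rw [← hzl']
    calc ζ * l * (ζ * l) = ζ * (l * ζ) * l := by group
      _ = ζ * (ζ * l) * l := by rw [hcomm]
      _ = (ζ * ζ) * (l * l) := by group
      _ = l * l := by rw [hζ2, one_mul]
  have hmemL : h * h ∈ L := by rw [hsq]; exact L.mul_mem hl hl
  have hdisj := hc.disjoint
  have := Subgroup.disjoint_def.mp hdisj h1 hmemL
  exact h2 this

end Cfsg.Agent.Lib.Helper47IdxB
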