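import Mathlib
import Cfsg.Prelude.Def_KGroupFacts

set_option autoImplicit false

/-! Abstract lemmas: automorphisms of a finite group and an element of prime order generating a
Sylow subgroup (Sylow counting determines `N(P)/C(P)`). -/

namespace Cfsg.Agent.Lib.Helper47OutA

open Subgroup

variable {G : Type*} [Group G]

theorem centralizer_zpowers_eq (x : G) :
    centralizer ((zpowers x : Subgroup G) : Set G) = centralizer ({x} : Set G) := by
  rw [zpowers_eq_closure, centralizer_closure]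

/-- the order of `N(P)/C(P)` from Sylow's congruence -/
theorem card_range [Finite G] (p : ℕ) [Fact p.Prime] (x : G) (hx : orderOf x = p)
    (hidx : ¬ p ∣ (zpowers x).index) (c m0 : ℕ)
    (hC : Nat.card (centralizer ({x} : Set G)) = c)
    (hm : ∀ m k, m ∣ p - 1 → k * (c * m) = Nat.card G → k % p = 1 → m = m0) :
    Nat.card (zpowers x).normalizerMonoidHom.range = m0 := by
  set P := zpowers x with hP
  have hcardP : Nat.card P = p := by rw [hP, Nat.card_zpowers, hx]
  have hpg : IsPGroup p P := IsPGroup.of_card (n := 1) (by rw [hcardP, pow_one])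
  let S : Sylow p G := hpg.toSylow hidx
  have hS : (S : Subgroup G) = P := rfl
  have h1 : Nat.card (Sylow p G) = (normalizer (P : Set G)).index := by
    rw [S.card_eq_index_normalizer]
    rfl
  have h2 := card_sylow_modEq_one p G
  rw [h1] at h2
  set f := P.normalizerMonoidHom with hf
  have hker : Nat.card f.ker = c := by
    rw [hf, normalizerMonoidHom_ker, ← hC, ← centralizer_zpowers_eq]
    exact Nat.card_congr (subgroupOfEquivOfLe (centralizer_le_normalizer _)).toEquiv
  have h3 : Nat.card (normalizer (P : Set G)) = c * Nat.card f.range := by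
    rw [← hker, ← index_ker, mul_comm]
    exact (f.ker.index_mul_card).symm
  have : IsCyclic P := by rw [hP]; infer_instance
  have h4 : Nat.card f.range ∣ p - 1 := by
    have := card_subgroup_dvd_card f.range
    rwa [IsCyclic.card_mulAut, hcardP, Nat.totient_prime Fact.out] at this
  apply hm _ (normalizer (P : Set G)).index h4
  · rw [← h3]; exact index_mul_card _
  · have hp : 1 < p := (Fact.out : p.Prime).one_lt
    have := h2
    unfold Nat.ModEq at this
    rwa [Nat.mod_eq_of_lt hp] at this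

/-- restriction of an automorphism stabilising `⟨x⟩` -/
noncomputable def res [Finite G] (x : G) (φ : MulAut G) (h : φ x ∈ zpowers x) : MulAut (zpowers x) :=
  MulEquiv.ofBijective
    ({ toFun := fun u => ⟨φ u.1, by
        obtain ⟨n, hn⟩ := mem_zpowers_iff.mp u.2
        rw [← hn, map_zpow]
        exact zpow_mem h n⟩
       map_one' := Subtype.ext (map_one φ)
       map_mul' := fun u v => Subtype.ext (map_mul φ u.1 v.1) } : zpowers x →* zpowers x)
    (by
      rw [← Finite.injective_iff_bijective]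
      intro u v huv
      exact Subtype.ext (φ.injective (congrArg Subtype.val huv)))

theorem res_apply [Finite G] (x : G) (φ : MulAut G) (h : φ x ∈ zpowers x) (u : zpowers x) :
    ((res x φ h u : zpowers x) : G) = φ u.1 := rfl

theorem exists_conj_mem [Finite G] (p : ℕ) [Fact p.Prime] (x : G) (hx : orderOf x = p)
    (hidx : ¬ p ∣ (zpowers x).index) (u : G) (hu : orderOf u = p) :
    ∃ g : G, g * u * g⁻¹ ∈ zpowers x := by
  have hpg : IsPGroup p (zpowers x) :=
    IsPGroup.of_card (n := 1) (by rw [Nat.card_zpowers, hx, pow_one])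
  let S : Sylow p G := hpg.toSylow hidx
  have hz : IsPGroup p (zpowers u) :=
    IsPGroup.of_card (n := 1) (by rw [Nat.card_zpowers, hu, pow_one])
  obtain ⟨R, hR⟩ := hz.exists_le_sylow
  obtain ⟨g, hg⟩ := MulAction.exists_smul_eq G R S
  refine ⟨g, ?_⟩
  have h1 : u ∈ (R : Subgroup G) := hR (mem_zpowers u)
  have h2 : g * u * g⁻¹ ∈ ((g • R : Sylow p G) : Subgroup G) := by
    rw [Sylow.coe_subgroup_smul]
    exact ⟨u, h1, rfl⟩
  rw [hg] at h2
  exact h2

/-- full case: `N(P)/C(P)` is all of `Aut(P)` -/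
theorem conj_full [Finite G] (p : ℕ) [Fact p.Prime] (x : G) (hx : orderOf x = p)
    (hidx : ¬ p ∣ (zpowers x).index)
    (hr : Nat.card (zpowers x).normalizerMonoidHom.range = p - 1) (φ : MulAut G) :
    ∃ g : G, g * φ x * g⁻¹ = x := by
  obtain ⟨g, hg⟩ := exists_conj_mem p x hx hidx (φ x) (by rw [MulEquiv.orderOf_eq, hx])
  have hcard : Nat.card (MulAut (zpowers x)) = p - 1 := by
    rw [IsCyclic.card_mulAut, Nat.card_zpowers, hx, Nat.totient_prime Fact.out]
  have htop : (zpowers x).normalizerMonoidHom.range = ⊤ :=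
    eq_top_of_card_eq _ (by rw [hr, hcard])
  let φ1 : MulAut G := MulAut.conj g * φ
  have h1 : φ1 x ∈ zpowers x := hg
  have h2 : res x φ1 h1 ∈ (zpowers x).normalizerMonoidHom.range := by rw [htop]; trivial
  obtain ⟨y, hy⟩ := h2
  have h3 := congrArg (fun ψ : MulAut (zpowers x) => ((ψ ⟨x, mem_zpowers x⟩ : zpowers x) : G)) hy
  have h4 : (y : G) * x * (y : G)⁻¹ = g * φ x * g⁻¹ := h3
  refine ⟨(y : G)⁻¹ * g, ?_⟩
  calc (y : G)⁻¹ * g * φ x * ((y : G)⁻¹ * g)⁻¹ = (y : G)⁻¹ * (g * φ x * g⁻¹) * (y : G) := by group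
    _ = x := by rw [← h4]; group

/-- half case: `N(P)/C(P)` has odd order `(p-1)/2` -/
theorem conj_half [Finite G] (p : ℕ) [Fact p.Prime] (x : G) (hx : orderOf x = p)
    (hidx : ¬ p ∣ (zpowers x).index) (m : ℕ) (hm : Odd m) (hpm : p - 1 = 2 * m)
    (hr : Nat.card (zpowers x).normalizerMonoidHom.range = m) (φ : MulAut G) :
    ∃ g : G, g * φ x * g⁻¹ = x ∨ g * φ x * g⁻¹ = x⁻¹ := by
  obtain ⟨g, hg⟩ := exists_conj_mem p x hx hidx (φ x) (by rw [MulEquiv.orderOf_eq, hx])
  have hcard : Nat.card (MulAut (zpowers x)) = p - 1 := by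
    rw [IsCyclic.card_mulAut, Nat.card_zpowers, hx, Nat.totient_prime Fact.out]
  set R := (zpowers x).normalizerMonoidHom.range with hR
  have hm0 : 0 < m := hm.pos
  have hidx2 : R.index = 2 := by
    have := R.index_mul_card
    rw [hr, hcard, hpm] at this
    exact Nat.eq_of_mul_eq_mul_right hm0 this
  have hcomm : ∀ u v : zpowers x, u * v = v * u := fun u v => (zpowers_isMulCommutative x).is_comm.comm u v
  let ι : MulAut (zpowers x) :=
    { toFun := fun u => u⁻¹
      invFun := fun u => u⁻¹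
      left_inv := fun u => inv_inv u
      right_inv := fun u => inv_inv u
      map_mul' := fun u v => by rw [mul_inv_rev, hcomm] }
  have hι2 : ι ^ 2 = 1 := by
    ext u
    show ((u⁻¹)⁻¹ : zpowers x).1 = u.1
    rw [inv_inv]
  have hι1 : ι ≠ 1 := by
    intro h
    have h1 := congrArg (fun ψ : MulAut (zpowers x) => ((ψ ⟨x, mem_zpowers x⟩ : zpowers x) : G)) h
    have h2 : x⁻¹ = x := h1
    have h3 : x ^ 2 = 1 := by rw [pow_two]; nth_rewrite 1 [← h2]; exact inv_mul_cancel x
    have h4 := orderOf_dvd_of_pow_eq_one h3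
    rw [hx] at h4
    have h5 := Nat.le_of_dvd (by norm_num) h4
    have h6 : 2 ≤ p := (Fact.out : p.Prime).two_le
    have h7 : p = 2 := le_antisymm h5 h6
    rw [h7] at hpm
    omega
  have hιR : ι ∉ R := by
    intro h
    have h1 : orderOf ι = 2 := orderOf_eq_prime hι2 hι1
    have h2 : orderOf (⟨ι, h⟩ : R) = 2 := by rw [← h1]; exact Subgroup.orderOf_mk ι h
    have h3 := orderOf_dvd_natCard (⟨ι, h⟩ : R)
    rw [h2, hr] at h3
    exact (Nat.not_even_iff_odd.mpr hm) (even_iff_two_dvd.mpr h3)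
  let φ1 : MulAut G := MulAut.conj g * φ
  have h1 : φ1 x ∈ zpowers x := hg
  by_cases h2 : res x φ1 h1 ∈ R
  · obtain ⟨y, hy⟩ := h2
    have h3 := congrArg (fun ψ : MulAut (zpowers x) => ((ψ ⟨x, mem_zpowers x⟩ : zpowers x) : G)) hy
    have h4 : (y : G) * x * (y : G)⁻¹ = g * φ x * g⁻¹ := h3
    refine ⟨(y : G)⁻¹ * g, Or.inl ?_⟩
    calc (y : G)⁻¹ * g * φ x * ((y : G)⁻¹ * g)⁻¹ = (y : G)⁻¹ * (g * φ x * g⁻¹) * (y : G) := by group
      _ = x := by rw [← h4]; group
  · have h5 : ι * res x φ1 h1 ∈ R := by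
      rw [mul_mem_iff_of_index_two hidx2]
      exact ⟨fun h => absurd h hιR, fun h => absurd h h2⟩
    obtain ⟨y, hy⟩ := h5
    have h3 := congrArg (fun ψ : MulAut (zpowers x) => ((ψ ⟨x, mem_zpowers x⟩ : zpowers x) : G)) hy
    have h4 : (y : G) * x * (y : G)⁻¹ = (g * φ x * g⁻¹)⁻¹ := h3
    refine ⟨(y : G)⁻¹ * g, Or.inr ?_⟩
    calc (y : G)⁻¹ * g * φ x * ((y : G)⁻¹ * g)⁻¹
        = ((y : G)⁻¹ * (g * φ x * g⁻¹)⁻¹ * (y : G))⁻¹ := by group
      _ = x⁻¹ := by rw [← h4]; group

end Cfsg.Agent.Lib.Helper47OutA
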