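import Mathlib
import Cfsg.Prelude.Def_KGroupFacts
import Cfsg.Agent.Lib.Helper64J3OutA

set_option autoImplicit false

/-! Abstract lemmas for outer automorphism groups of groups generated by a class of involutions
whose centraliser is a point stabiliser of a permutation representation. -/

namespace Cfsg.Agent.Lib.Helper47OutB

open Subgroup

section act
variable {G : Type*} [Group G] {n : ℕ} (φ : G →* Equiv.Perm (Fin n)) (o : Fin n) (z : G)

theorem tr_eq (hst : ∀ g, φ g o = o ↔ g * z = z * g) {g g' : G} (h : φ g o = φ g' o) :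
    g * z * g⁻¹ = g' * z * g'⁻¹ := by
  have h1 : φ (g⁻¹ * g') o = o := by
    rw [map_mul, Equiv.Perm.mul_apply, ← h, ← Equiv.Perm.mul_apply, ← map_mul, inv_mul_cancel,
      map_one, Equiv.Perm.one_apply]
  have h2 := (hst _).mp h1
  calc g * z * g⁻¹ = g * (z * (g⁻¹ * g')) * g'⁻¹ := by group
    _ = g * (g⁻¹ * g' * z) * g'⁻¹ := by rw [h2]
    _ = g' * z * g'⁻¹ := by group

theorem fix_iff (hst : ∀ g, φ g o = o ↔ g * z = z * g) (t g' : G) :
    φ t (φ g' o) = φ g' o ↔ Commute t (g' * z * g'⁻¹) := by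
  have h1 : φ t (φ g' o) = φ g' o ↔ φ (g'⁻¹ * t * g') o = o := by
    rw [map_mul, map_mul, Equiv.Perm.mul_apply, Equiv.Perm.mul_apply, map_inv,
      Equiv.Perm.inv_eq_iff_eq]
  rw [h1, hst]
  constructor
  · intro h
    show t * (g' * z * g'⁻¹) = g' * z * g'⁻¹ * t
    calc t * (g' * z * g'⁻¹) = g' * (g'⁻¹ * t * g' * z) * g'⁻¹ := by group
      _ = g' * (z * (g'⁻¹ * t * g')) * g'⁻¹ := by rw [h]
      _ = g' * z * g'⁻¹ * t := by group
  · intro h
    have h' : t * (g' * z * g'⁻¹) = g' * z * g'⁻¹ * t := h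
    calc g'⁻¹ * t * g' * z = g'⁻¹ * (t * (g' * z * g'⁻¹)) * g' := by group
      _ = g'⁻¹ * (g' * z * g'⁻¹ * t) * g' := by rw [h']
      _ = z * (g'⁻¹ * t * g') := by group

end act

section aut
variable {G : Type*} [Group G]

theorem commute_map_iff (α : MulAut G) (a b : G) : Commute (α a) (α b) ↔ Commute a b := by
  constructor
  · intro h
    apply α.injective
    rw [map_mul, map_mul]
    exact h
  · intro h
    exact h.map α

theorem eq_one_of_closure (S : Set G) (hgen : closure S = ⊤) (β : MulAut G)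
    (h : ∀ s ∈ S, β s = s) : β = 1 := by
  have h1 : β.toMonoidHom = MonoidHom.id G := by
    apply MonoidHom.eq_of_eqOn_dense hgen
    intro y hy
    exact h y hy
  ext y
  exact DFunLike.congr_fun h1 y

theorem inn_conj (g : G) : MulAut.conj g ∈ Cfsg.Inn G := ⟨g, rfl⟩

theorem out_one (x : G) (h1 : ∀ φ : MulAut G, ∃ g : G, g * φ x * g⁻¹ = x)
    (h2 : ∀ α : MulAut G, α x = x → α ∈ Cfsg.Inn G) : Nat.card (Cfsg.Out G) = 1 := by
  show (Cfsg.Inn G).index = 1
  rw [index_eq_one, eq_top_iff]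
  intro φ _
  obtain ⟨g, hg⟩ := h1 φ
  have h3 : MulAut.conj g * φ ∈ Cfsg.Inn G := h2 _ hg
  have h4 := (Cfsg.Inn G).mul_mem ((Cfsg.Inn G).inv_mem (inn_conj g)) h3
  rwa [inv_mul_cancel_left] at h4

theorem out_two (σ : MulAut G) (hσ : σ ∉ Cfsg.Inn G) (x : G)
    (h1 : ∀ φ : MulAut G, ∃ g : G, g * φ x * g⁻¹ = x ∨ g * φ x * g⁻¹ = x⁻¹)
    (h2 : ∀ α : MulAut G, α x = x → α ∈ Cfsg.Inn G) : Nat.card (Cfsg.Out G) = 2 := by
  apply Cfsg.Agent.Helper64J3.card_out_eq_two σ hσ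
  have hA : ∀ (φ : MulAut G) (g : G), g * φ x * g⁻¹ = x → φ ∈ Cfsg.Inn G := by
    intro φ g hg
    have h3 : MulAut.conj g * φ ∈ Cfsg.Inn G := h2 _ hg
    have h4 := (Cfsg.Inn G).mul_mem ((Cfsg.Inn G).inv_mem (inn_conj g)) h3
    rwa [inv_mul_cancel_left] at h4
  intro φ
  obtain ⟨g, hg | hg⟩ := h1 φ
  · exact Or.inl (hA φ g hg)
  · right
    obtain ⟨s, hs | hs⟩ := h1 σ
    · exact absurd (hA σ s hs) hσ
    · let τ : MulAut G := MulAut.conj s * σ
      have hτ : τ x = x⁻¹ := hs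
      have hτ' : τ⁻¹ x⁻¹ = x := by
        rw [← hτ]
        exact τ.symm_apply_apply x
      have h3 : τ⁻¹ * (MulAut.conj g * φ) ∈ Cfsg.Inn G := by
        apply h2
        show τ⁻¹ (g * φ x * g⁻¹) = x
        rw [hg, hτ']
      have h4 : τ⁻¹ * (MulAut.conj g * φ) =
          (σ⁻¹ * ((MulAut.conj s)⁻¹ * MulAut.conj g) * σ⁻¹⁻¹) * (σ⁻¹ * φ) := by
        show (MulAut.conj s * σ)⁻¹ * (MulAut.conj g * φ) = _
        group
      rw [h4] at h3
      have h5 : σ⁻¹ * ((MulAut.conj s)⁻¹ * MulAut.conj g) * σ⁻¹⁻¹ ∈ Cfsg.Inn G :=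
        (Cfsg.innNormal G).conj_mem _
          ((Cfsg.Inn G).mul_mem ((Cfsg.Inn G).inv_mem (inn_conj s)) (inn_conj g)) _
      exact ((Cfsg.Inn G).mul_mem_cancel_left h5).mp h3

end aut

section sign

theorem sign_invol {n : ℕ} (ψ : Equiv.Perm (Fin n)) (h2 : ∀ j, ψ (ψ j) = j) (k : ℕ)
    (hs : ψ.support.card = 2 * k) (hk : Odd k) : Equiv.Perm.sign ψ = -1 := by
  have hne : ψ ≠ 1 := by
    intro h
    rw [h, Equiv.Perm.support_one, Finset.card_empty] at hs
    have : k = 0 := by omega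
    rw [this] at hk
    exact absurd hk (by decide)
  have ho : orderOf ψ = 2 := by
    apply orderOf_eq_prime
    · ext j
      rw [pow_two, Equiv.Perm.mul_apply, h2, Equiv.Perm.one_apply]
    · exact hne
  obtain ⟨m, hm⟩ := Equiv.Perm.cycleType_prime_order (σ := ψ) (by rw [ho]; exact Nat.prime_two)
  rw [ho] at hm
  have h3 := Equiv.Perm.sum_cycleType ψ
  rw [hm, Multiset.sum_replicate, hs, smul_eq_mul] at h3
  have h4 : m + 1 = k := by omega
  rw [Equiv.Perm.sign_of_cycleType, hm, Multiset.sum_replicate, Multiset.card_replicate, h4,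
    smul_eq_mul]
  have h5 : Odd (k * 2 + k) := by
    obtain ⟨r, hr⟩ := hk
    exact ⟨3 * r + 1, by omega⟩
  exact h5.neg_one_pow

theorem sign_eq_one {G : Type*} [Group G] [IsSimpleGroup G] (hG : 2 < Nat.card G) {n : ℕ}
    (φ : G →* Equiv.Perm (Fin n)) (g : G) : Equiv.Perm.sign (φ g) = 1 := by
  let f : G →* ℤˣ := Equiv.Perm.sign.comp φ
  rcases IsSimpleGroup.eq_bot_or_eq_top_of_normal f.ker inferInstance with h | h
  · exfalso
    have hinj : Function.Injective f := (MonoidHom.ker_eq_bot_iff f).mp h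
    have h1 := Nat.card_le_card_of_injective f hinj
    have h2 : Nat.card ℤˣ = 2 := by simp
    omega
  · have : g ∈ f.ker := by rw [h]; trivial
    exact this

end sign

end Cfsg.Agent.Lib.Helper47OutB
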