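import Cfsg.Agent.Lib.Helper35Fi22Fin
import Cfsg.Agent.Lib.Helper33TT
import Cfsg.Agent.Lib.Helper47IdxB
import Cfsg.Agent.Lib.Helper47OutA
import Cfsg.Agent.Lib.Helper47OutB

set_option autoImplicit false
set_option maxRecDepth 100000

/-! The outer automorphism group of the presented Fischer group `Fi₂₂` has order two. -/

namespace Cfsg.Agent.Lib.Helper47Fi22Out

open Cfsg.Agent.Lib.Helper35TC Cfsg.Agent.Lib.Helper35Fi22a Cfsg.Agent.Lib.Helper33TT
  Cfsg.Agent.Lib.Helper47IdxB Cfsg.Agent.Lib.Helper47OutA Cfsg.Agent.Lib.Helper47OutB

abbrev Gen := Cfsg.Spor.Fi22.Gen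

noncomputable def phi : K.Grp →* Equiv.Perm (Fin 3510) := ok.phi

theorem phi_apply (e : WExp Gen) (j : Fin 3510) :
    ((phi (PresentedGroup.mk K.rels e.eval)) j).val = P.walkA (e.app K.code K.P.iv) j :=
  ok.phi_mk_apply e j

def o : Fin 3510 := ⟨0, by norm_num⟩

theorem weo (e : WExp Gen) (he : BD.fixChk K.P (e.app K.code K.P.iv) = true) :
    PresentedGroup.mk K.rels e.eval = 1 := Cfsg.Agent.Lib.Helper35Fi22Fin.word_eq_one e he

instance : IsSimpleGroup K.Grp := Cfsg.Agent.Lib.Helper35Fi22Fin.simple
instance : Finite K.Grp := Cfsg.Agent.Lib.Helper35Fi22Fin.hub.1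

def zE : WExp Gen := .of .a

noncomputable def z : K.Grp := PresentedGroup.mk K.rels zE.eval

theorem z_mem : z ∈ K.H := ok.mem_H_of_sub (e := zE) (by show zE ∈ subExps; simp [subExps, zE])

theorem z_ne : z ≠ 1 := by
  intro h
  have h1 : phi z = 1 := by rw [h]; exact map_one phi
  have h2 := phi_apply zE ⟨1, by norm_num⟩
  rw [show PresentedGroup.mk K.rels zE.eval = z from rfl, h1] at h2
  revert h2
  decide +kernel

theorem z_sq : z * z = 1 := by
  have := weo (.mul zE zE) (by decide +kernel)
  simp only [WExp.eval, map_mul] at this
  exact this

theorem comm_of (e : WExp Gen)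
    (h : BD.fixChk K.P ((WExp.mul (.mul e zE) (.inv (.mul zE e))).app K.code K.P.iv) = true) :
    PresentedGroup.mk K.rels e.eval * z = z * PresentedGroup.mk K.rels e.eval := by
  have := weo _ h
  simp only [WExp.eval, map_mul, map_inv] at this
  exact mul_inv_eq_one.mp this

theorem z_comm : ∀ g ∈ K.H, g * z = z * g := by
  have hle : K.H ≤ Subgroup.centralizer ({z} : Set K.Grp) := by
    apply ok.H_le
    intro e he
    have he' : e ∈ subExps := he
    rw [Subgroup.mem_centralizer_singleton_iff]
    simp only [subExps, List.mem_cons, List.not_mem_nil, or_false] at he'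
    rcases he' with rfl | rfl | rfl | rfl | rfl | rfl | rfl | rfl | rfl <;>
      exact comm_of _ (by decide +kernel)
  intro g hg
  exact Subgroup.mem_centralizer_singleton_iff.mp (hle hg)

theorem H_ne_top : K.H ≠ ⊤ := by
  intro h
  have h1 := ok.index_eq
  rw [h, Subgroup.index_top] at h1
  revert h1
  show (1 : ℕ) = 3510 → False
  decide

theorem cent_eq : Subgroup.centralizer ({z} : Set K.Grp) = K.H :=
  centralizer_eq K.H z
    (ok.maximal horb Cfsg.Agent.Lib.Helper35Fi22Fin.sz Cfsg.Agent.Lib.Helper35Fi22Fin.hsz
      Cfsg.Agent.Lib.Helper35Fi22Fin.har) H_ne_top z_mem z_ne z_comm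

theorem hst (g : K.Grp) : phi g o = o ↔ g * z = z * g := by
  rw [← Subgroup.mem_centralizer_singleton_iff, cent_eq, ok.mem_H_iff]
  rfl

theorem center_bot : Subgroup.center K.Grp = ⊥ := by
  rcases IsSimpleGroup.eq_bot_or_eq_top_of_normal (Subgroup.center K.Grp) inferInstance with h | h
  · exact h
  · exfalso
    apply H_ne_top
    rw [← cent_eq, eq_top_iff]
    intro g _
    rw [Subgroup.mem_centralizer_singleton_iff]
    have hz : z ∈ Subgroup.center K.Grp := by rw [h]; trivial
    exact Subgroup.mem_center_iff.mp hz g

/-! ### the spanning tree and the conjugation action -/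

def ltrTab : ℕ := 0x5422424342122215433234333333124333233333333334212237372373237233733233351232374377373733737777377742337774233332333737773743737737373777733731223723737878737873782373778777723377377343723737837878787873377877878887788833778788437377237737773373778777787887743737837878877878377787887877377877372373783787867858786787863787787857878887377878778837777737877378786780784785818777878588838428377884283777884842378787837878778778837787787787858787878584078778777737878786785840788478177878848283828787877818878787378786786785840785847857785788484848283837878785847884837878787878780787878677858188384283788787858428378377884883778788428378078178178678587858842877878578787808878785840785785841878178848887878078886785841828382788288842837838378077818828383781888807878678578584184838487884842838388377786785848378483877858837807818478188378678588428378378287785848837576828377678278483778182827858488384838385878785847858781808108888685785841848428182888842838383780778182886858842837838283784883757877818828388377828308808181887867858484283783828784838377877637858483788837874848377818283828377858483837576883758483776383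76488388373828388384838778377558458088885785841848182830182180818685848428383828883828848383778877818882837858483837576883758837763874828388378776388370118781828828377858483837576883788377638764884837387837475838718283788375848377638776837647583878374883787783787647515544835473018818685848428382888370128328182885848383757883787764888837883776387874582837883758483776387768376475883787768764877612273338283788375848377638776837647588783748747518772883758776837648764751878747587768764756752548543374337645640128182885848383788378776123738288837584837763877687645883787768376487475188375877683764876475187768764758764233537644488375877683764876475187874757528723877687647567528747528764675253543743773764583764764751645012382888378483776877687642373776448837587768376487647518776876475752877687647567528764675267537587647645455877687647567528747525373487646752537553675534543763773764576475528776876475675264652123768837877683764876475376747476764558776876475675287646752538764675253675536538776876475675245253876467525375534340675534534653407645644873766548776764756528764675253876467525365536237676487768764756752767647567527646752538764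675253675534675534653454884875223876467525355340675534534041653405415416775764537646752656387767565264546558764675253675534675534653453676764675876467525367276275237646752536755346755346534065340541427848752533406755345340165340541425414242766576465536755346755365357268766752536465253655346755346534065340541476667576467553675534667525367553467553465340653405415414238755343401653405412541423423367665534565567553465340653454487236656755346626534655346534065340541541423764667553675534653406755346534065340541541424237853404125414234237377366567553465534653406534054154142377346565465340655346534065340541541424237866756755346534054165340541541424233785414234237837878873465654653406465340653405415414242378173434065465405416534054154142423378266756536534054142541424233778342378537847838733406546540541653405415414242337823400416654054142541424233778367565354541423423377887378478387404166540541425414242337783041014265541423423377887653544242373778874783875014265541423423377887014212365442373778874544233787887587212365442373778874123237543378788754237785873223754337878875237378437785873378843378437785873378577853788437814778537884377856788478248178847824788464878348218678348287834876566878832857883287838785385587738477387387834743234777772312010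

def gen : ℕ → Gen
  | 0 => .a
  | 1 => .b
  | 2 => .c
  | 3 => .d
  | 4 => .e
  | 5 => .f
  | 6 => .g
  | 7 => .h
  | _ => .i

def oneE : WExp Gen := .pow (.of .a) 0

noncomputable def wdF : ℕ → ℕ → WExp Gen
  | 0, _ => oneE
  | f + 1, u => bif Nat.beq u 0 then oneE else
      .mul (wdF f (P.A u (lookB 4 15 ltrTab u))) (.of (gen (lookB 4 15 ltrTab u)))

noncomputable def wdE (u : ℕ) : WExp Gen := wdF 35 u

theorem chkTree : allD (fun u => Nat.ble 3510 u ||
    Nat.beq (P.walkA ((wdE u).app K.code K.P.iv) u) 0) 12 0 = true := by
  decide +kernel

noncomputable def cE (u : ℕ) : WExp Gen := .mul (.mul (.inv (wdE u)) zE) (wdE u)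

noncomputable def circN (u v : ℕ) : ℕ := P.walkA ((cE u).app K.code K.P.iv) v

noncomputable def gam (u : ℕ) : K.Grp := PresentedGroup.mk K.rels (wdE u).eval

theorem gam_apply (u : Fin 3510) : phi (gam u) u = o := by
  apply Fin.ext
  rw [gam, phi_apply]
  have h := all_of_allD _ 12 3510 (by norm_num) chkTree u u.2
  rw [Bool.or_eq_true, Nat.ble_eq, Nat.beq_eq] at h
  rcases h with h | h
  · exact absurd u.2 (by omega)
  · exact h

theorem gam_inv_apply (u : Fin 3510) : phi (gam u)⁻¹ o = u := by
  rw [map_inv, Equiv.Perm.inv_eq_iff_eq, gam_apply]

theorem cE_eval (u : ℕ) : PresentedGroup.mk K.rels (cE u).eval = (gam u)⁻¹ * z * (gam u) := by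
  simp only [cE, WExp.eval, map_mul, map_inv]
  rfl

theorem tr_gam (g : K.Grp) : g * z * g⁻¹ = (gam (phi g o))⁻¹ * z * (gam (phi g o)) := by
  have h := tr_eq phi o z hst (g := g) (g' := (gam (phi g o))⁻¹) (gam_inv_apply _).symm
  rw [h, inv_inv]

theorem conj_apply (g : K.Grp) (v : Fin 3510) :
    (phi (g * z * g⁻¹) v).val = circN (phi g o).val v.val := by
  rw [tr_gam, ← cE_eval, phi_apply]
  rfl

noncomputable def adjB (u v : ℕ) : Bool := Nat.beq (circN u v) v

theorem adj_iff (g g2 : K.Grp) : adjB (phi g o).val (phi g2 o).val = true ↔
    Commute (g * z * g⁻¹) (g2 * z * g2⁻¹) := by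
  rw [← fix_iff phi o z hst, adjB, Nat.beq_eq, ← conj_apply, Fin.val_inj]

/-! ### the element of order 11 -/

def xE : WExp Gen :=
  .mul (.mul (.mul (.mul (.mul (.mul (.mul (.mul
    (.pow (.mul (.mul (.mul (.mul (.mul (.of .a) (.of .b)) (.of .c)) (.of .d)) (.of .e)) (.of .h)) 5)
    (.of .d)) (.of .i)) (.of .f)) (.of .h)) (.of .c)) (.of .e)) (.of .i)) (.of .g)

noncomputable def x : K.Grp := PresentedGroup.mk K.rels xE.eval

noncomputable def xN (k j : ℕ) : ℕ := P.walkA ((WExp.pow xE k).app K.code K.P.iv) j

theorem xN_apply (k : ℕ) (j : Fin 3510) : (phi (x ^ k) j).val = xN k j.val := by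
  have h := phi_apply (.pow xE k) j
  have e : PresentedGroup.mk K.rels (WExp.pow xE k).eval = x ^ k := map_pow _ _ _
  rw [e] at h
  exact h

theorem x_pow : x ^ 11 = 1 := by
  have := weo (.pow xE 11) (by decide +kernel)
  simp only [WExp.eval, map_pow] at this
  exact this

theorem chkFix : allD (fun j => Nat.ble 3510 j || Nat.beq j 0 || !(Nat.beq (xN 1 j) j)) 12 0 = true := by
  decide +kernel

theorem x_fix (j : Fin 3510) (h : phi x j = j) : j = o := by
  have h1 := all_of_allD _ 12 3510 (by norm_num) chkFix j j.2
  have h2 := xN_apply 1 j
  rw [pow_one, h] at h2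
  rw [Bool.or_eq_true, Bool.or_eq_true, Nat.ble_eq, Nat.beq_eq, Bool.not_eq_true'] at h1
  rcases h1 with (h1 | h1) | h1
  · exact absurd j.2 (by omega)
  · exact Fin.ext h1
  · rw [← h2] at h1
    simp at h1

theorem x_o : phi x o = o := by
  apply Fin.ext
  have h := xN_apply 1 o
  rw [pow_one] at h
  rw [h]
  decide +kernel

theorem x_z : x * z = z * x := (hst x).mp x_o

theorem x_ne : x ≠ 1 := by
  intro h
  have h1 := x_fix ⟨1, by norm_num⟩ (by rw [h, map_one]; rfl)
  exact absurd (congrArg Fin.val h1) (by decide)

theorem x_order : orderOf x = 11 := by
  have : Fact (Nat.Prime 11) := ⟨by norm_num⟩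
  exact orderOf_eq_prime x_pow x_ne

/-! ### the signature test -/

noncomputable def sigL (q : ℕ) : List Bool :=
  [adjB 0 q, adjB q (xN 1 q), adjB q (xN 2 q), adjB q (xN 3 q), adjB q (xN 4 q), adjB q (xN 5 q)]

noncomputable def gpE : WExp Gen := .inv (wdE 620)

noncomputable def gp : K.Grp := PresentedGroup.mk K.rels gpE.eval

noncomputable def dp : K.Grp := gp * z * gp⁻¹

noncomputable def vE (i j : ℕ) : WExp Gen := .mul (.mul (.pow xE i) (.pow zE j)) gpE

noncomputable def vN (i j : ℕ) : ℕ := P.walkA ((vE i j).app K.code K.P.iv) 0

noncomputable def validB (q : ℕ) : Bool :=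
  anyB (fun i => Nat.beq q (vN i 0) || Nat.beq q (vN i 1)) 11

theorem chkSig : allD (fun q => Nat.ble 3510 q || !(sigL q == [false, true, false, false, true, true]) || validB q) 12 0 = true := by
  decide +kernel

theorem sig_p : sigL (vN 0 0) = [false, true, false, false, true, true] := by
  decide +kernel

theorem vN_apply (i j : ℕ) : (phi (x ^ i * z ^ j * gp) o).val = vN i j := by
  have h := phi_apply (vE i j) o
  have e : PresentedGroup.mk K.rels (vE i j).eval = x ^ i * z ^ j * gp := by
    simp only [vE, WExp.eval, map_pow, map_mul]
    rfl
  rw [e] at h
  exact h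

/-! ### further kernel checks -/

noncomputable def run : List ℕ → List (ℕ × ℕ) → List ℕ
  | kn, [] => kn
  | kn, s :: r => bif kn.contains s.1 && kn.contains s.2 then run (circN s.1 s.2 :: kn) r
      else run kn r

def steps : List (ℕ × ℕ) := [(2828, 3315), (2763, 1654), (620, 492), (0, 3492), (3486, 3430), (3486, 3315), (3430, 3317), (620, 3315), (2828, 3492), (223, 3130), (3486, 3441), (0, 620), (620, 3487), (2947, 3317), (763, 623), (3492, 223), (2828, 2987), (3487, 2828), (1795, 3492), (2533, 2343), (1795, 1592), (3487, 3430)]

noncomputable def base : List ℕ :=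
  [0, vN 0 0, vN 1 0, vN 2 0, vN 3 0, vN 4 0, vN 5 0, vN 6 0, vN 7 0, vN 8 0, vN 9 0, vN 10 0]

def ptOf : Gen → ℕ
  | .a => 0
  | .b => 2
  | .c => 4
  | .d => 6
  | .e => 38
  | .f => 87
  | .g => 140
  | .h => 19
  | .i => 64

theorem chkRun : ∀ s : Gen, (run base steps).contains (ptOf s) = true := by
  intro s; cases s <;> decide +kernel

theorem chkGen : ∀ s : Gen,
    BD.fixChk K.P ((WExp.mul (.of s) (.inv (cE (ptOf s)))).app K.code K.P.iv) = true := by
  intro s; cases s <;> decide +kernel

def flip : Gen → Gen
  | .a => .g
  | .b => .f
  | .c => .e
  | .d => .d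
  | .e => .c
  | .f => .b
  | .g => .a
  | .h => .h
  | .i => .i

theorem chkRel : ∀ e ∈ K.relExps, BD.fixChk K.P ((e.map flip).app K.code K.P.iv) = true := by
  decide +kernel

noncomputable def piN (u : ℕ) : ℕ := P.walkA (((WExp.inv (wdE u)).map flip).app K.code K.P.iv) 140

theorem chkInv : allD (fun j => Nat.ble 3510 j || Nat.beq (piN (piN j)) j) 12 0 = true := by
  decide +kernel

theorem cntMoved : cntD (fun j => Nat.ble (j + 1) 3510 && !(Nat.beq (piN j) j)) 12 0 = 3150 := by
  decide +kernel


end Cfsg.Agent.Lib.Helper47Fi22Out
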