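import Cfsg.Agent.Lib.Helper47Fi22Out

set_option autoImplicit false
set_option maxRecDepth 100000

namespace Cfsg.Agent.Lib.Helper47Fi22OutB

open Cfsg.Agent.Lib.Helper35TC Cfsg.Agent.Lib.Helper35Fi22a Cfsg.Agent.Lib.Helper33TT
  Cfsg.Agent.Lib.Helper47IdxB Cfsg.Agent.Lib.Helper47OutA Cfsg.Agent.Lib.Helper47OutB
  Cfsg.Agent.Lib.Helper47Fi22Out

/-! ### generation -/

noncomputable def M : Subgroup K.Grp := Subgroup.closure {x, z, dp}

theorem hxM : x ∈ M := Subgroup.subset_closure (by simp)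
theorem hzM : z ∈ M := Subgroup.subset_closure (by simp)
theorem hdM : dp ∈ M := Subgroup.subset_closure (by simp)

def Good (u : ℕ) : Prop := u < 3510 ∧ ∀ g : K.Grp, (phi g o).val = u → g * z * g⁻¹ ∈ M

theorem good_zero : Good 0 := by
  refine ⟨by norm_num, fun g hg => ?_⟩
  have h : phi g o = o := Fin.ext hg
  rw [(hst g).mp h, mul_inv_cancel_right]
  exact hzM

theorem good_base (i : ℕ) : Good (vN i 0) := by
  refine ⟨by rw [← vN_apply]; exact Fin.is_lt _, fun g hg => ?_⟩
  have h : phi g o = phi (x ^ i * z ^ 0 * gp) o := Fin.ext (by rw [hg, vN_apply])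
  rw [tr_eq phi o z hst h]
  have e : x ^ i * z ^ 0 * gp * z * (x ^ i * z ^ 0 * gp)⁻¹ = x ^ i * dp * (x ^ i)⁻¹ := by
    rw [dp]; group
  rw [e]
  exact M.mul_mem (M.mul_mem (M.pow_mem hxM i) hdM) (M.inv_mem (M.pow_mem hxM i))

theorem good_circ {u v : ℕ} (hu : Good u) (hv : Good v) : Good (circN u v) := by
  have hgu := gam_inv_apply ⟨u, hu.1⟩
  have hgv := gam_inv_apply ⟨v, hv.1⟩
  set gu := (gam u)⁻¹ with hgu'
  set gv := (gam v)⁻¹ with hgv'
  have key : circN u v = (phi (gu * z * gu⁻¹ * gv) o).val := by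
    rw [map_mul, Equiv.Perm.mul_apply, conj_apply, hgu, hgv]
  refine ⟨by rw [key]; exact Fin.is_lt _, fun g hg => ?_⟩
  have h : phi g o = phi (gu * z * gu⁻¹ * gv) o := Fin.ext (by rw [hg, key])
  rw [tr_eq phi o z hst h]
  have e : gu * z * gu⁻¹ * gv * z * (gu * z * gu⁻¹ * gv)⁻¹ =
      (gu * z * gu⁻¹) * (gv * z * gv⁻¹) * (gu * z * gu⁻¹)⁻¹ := by group
  rw [e]
  have h1 : gu * z * gu⁻¹ ∈ M := hu.2 gu (by rw [hgu])
  have h2 : gv * z * gv⁻¹ ∈ M := hv.2 gv (by rw [hgv])
  exact M.mul_mem (M.mul_mem h1 h2) (M.inv_mem h1)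

theorem run_good : ∀ (st : List (ℕ × ℕ)) (kn : List ℕ), (∀ u ∈ kn, Good u) →
    ∀ u ∈ run kn st, Good u
  | [], kn, h => h
  | s :: r, kn, h => by
    rw [run]
    cases hc : (kn.contains s.1 && kn.contains s.2)
    · simp only [cond_false]
      exact run_good r kn h
    · simp only [cond_true]
      rw [Bool.and_eq_true, List.contains_iff_mem, List.contains_iff_mem] at hc
      apply run_good r
      intro u hu
      rcases List.mem_cons.mp hu with rfl | hu
      · exact good_circ (h _ hc.1) (h _ hc.2)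
      · exact h u hu

theorem base_good : ∀ u ∈ base, Good u := by
  intro u hu
  simp only [base, List.mem_cons, List.not_mem_nil, or_false] at hu
  rcases hu with rfl | rfl | rfl | rfl | rfl | rfl | rfl | rfl | rfl | rfl | rfl | rfl
  · exact good_zero
  all_goals exact good_base _

theorem gen_eq (s : Gen) : (PresentedGroup.of s : K.Grp) =
    (gam (ptOf s))⁻¹ * z * (gam (ptOf s)) := by
  have h := weo _ (chkGen s)
  rw [← cE_eval]
  simp only [WExp.eval, map_mul, map_inv] at h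
  exact mul_inv_eq_one.mp h

theorem pt_good (s : Gen) : Good (ptOf s) :=
  run_good steps base base_good _ (List.contains_iff_mem.mp (chkRun s))

theorem hgen : Subgroup.closure {x, z, dp} = (⊤ : Subgroup K.Grp) := by
  apply Pkg.top_of_gens
  intro s
  rw [gen_eq]
  have h := pt_good s
  have h1 := h.2 (gam (ptOf s))⁻¹ (by rw [gam_inv_apply ⟨ptOf s, h.1⟩])
  rwa [inv_inv] at h1

/-! ### the key lemma -/

theorem Sg_iff (g : K.Grp) (k : ℕ) : adjB (phi g o).val (xN k (phi g o).val) = true ↔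
    Commute (g * z * g⁻¹) (x ^ k * (g * z * g⁻¹) * (x ^ k)⁻¹) := by
  have h := adj_iff g (x ^ k * g)
  rw [map_mul, Equiv.Perm.mul_apply, xN_apply] at h
  rw [h]
  have e : x ^ k * g * z * (x ^ k * g)⁻¹ = x ^ k * (g * z * g⁻¹) * (x ^ k)⁻¹ := by group
  rw [e]

theorem S0_iff (g : K.Grp) : adjB 0 (phi g o).val = true ↔ Commute z (g * z * g⁻¹) := by
  have h := adj_iff 1 g
  rw [map_one, Equiv.Perm.one_apply, one_mul, inv_one, mul_one] at h
  exact h

theorem sig_alpha (α : MulAut K.Grp) (hx : α x = x) (hz : α z = z) (g : K.Grp) :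
    sigL (phi (α g) o).val = sigL (phi g o).val := by
  have hk : ∀ k, adjB (phi (α g) o).val (xN k (phi (α g) o).val) =
      adjB (phi g o).val (xN k (phi g o).val) := by
    intro k
    rw [Bool.eq_iff_iff, Sg_iff, Sg_iff, ← commute_map_iff α (g * z * g⁻¹)]
    simp only [map_mul, map_inv, map_pow, hx, hz]
  have h0 : adjB 0 (phi (α g) o).val = adjB 0 (phi g o).val := by
    rw [Bool.eq_iff_iff, S0_iff, S0_iff, ← commute_map_iff α z (g * z * g⁻¹)]
    simp only [map_mul, map_inv, hz]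
  unfold sigL
  rw [h0, hk 1, hk 2, hk 3, hk 4, hk 5]

theorem x_zpow (i j : ℕ) : Commute (x ^ i * z ^ j) x :=
  ((Commute.refl x).pow_left i).mul_left ((show Commute z x from x_z.symm).pow_left j)

theorem z_zpow (i j : ℕ) : Commute (x ^ i * z ^ j) z :=
  ((show Commute x z from x_z).pow_left i).mul_left ((Commute.refl z).pow_left j)

theorem key (α : MulAut K.Grp) (hx : α x = x) (hz : α z = z) :
    ∃ i j : ℕ, α = MulAut.conj (x ^ i * z ^ j) := by
  have h1 := sig_alpha α hx hz gp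
  have hgp : (phi gp o).val = vN 0 0 := by
    rw [← vN_apply, pow_zero, pow_zero, one_mul, one_mul]
  rw [hgp, sig_p] at h1
  have h2 := all_of_allD _ 12 3510 (by norm_num) chkSig (phi (α gp) o).val (Fin.is_lt _)
  rw [h1] at h2
  have h3 : validB (phi (α gp) o).val = true := by
    rw [Bool.or_eq_true, Bool.or_eq_true, Nat.ble_eq] at h2
    rcases h2 with (h2 | h2) | h2
    · exact absurd (Fin.is_lt (phi (α gp) o)) (by omega)
    · simp at h2
    · exact h2
  obtain ⟨i, -, hi⟩ := anyB_spec _ _ h3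
  rw [Bool.or_eq_true, Nat.beq_eq, Nat.beq_eq] at hi
  obtain ⟨j, hj⟩ : ∃ j, (phi (α gp) o).val = vN i j := by
    rcases hi with hi | hi
    · exact ⟨0, hi⟩
    · exact ⟨1, hi⟩
  refine ⟨i, j, ?_⟩
  set c := x ^ i * z ^ j with hc
  have h4 : phi (α gp) o = phi (c * gp) o := Fin.ext (by rw [hj, ← vN_apply])
  have h5 := tr_eq phi o z hst h4
  have h6 : (MulAut.conj c)⁻¹ * α = 1 := by
    apply eq_one_of_closure _ hgen
    intro s hs
    simp only [Set.mem_insert_iff, Set.mem_singleton_iff] at hs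
    have hconj : ∀ y, ((MulAut.conj c)⁻¹ * α) y = c⁻¹ * α y * c := by
      intro y
      rw [MulAut.mul_apply, ← map_inv, MulAut.conj_apply, inv_inv]
    rw [hconj]
    rcases hs with rfl | rfl | rfl
    · rw [hx, mul_assoc, ← (x_zpow i j).eq, inv_mul_cancel_left]
    · rw [hz, mul_assoc, ← (z_zpow i j).eq, inv_mul_cancel_left]
    · have e : α dp = α gp * z * (α gp)⁻¹ := by
        rw [dp, map_mul, map_mul, map_inv, hz]
      rw [e, h5, dp]
      group
  exact (inv_mul_eq_one.mp h6).symm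

/-! ### the centraliser of `x` -/

theorem cent_x (t : K.Grp) (ht : t * x = x * t) : ∃ i j : ℕ, t = x ^ i * z ^ j := by
  have h1 : phi t o = o := by
    apply x_fix
    rw [← Equiv.Perm.mul_apply, ← map_mul, ← ht, map_mul, Equiv.Perm.mul_apply, x_o]
  have h2 := (hst t).mp h1
  obtain ⟨i, j, hij⟩ := key (MulAut.conj t)
    (by rw [MulAut.conj_apply, ht, mul_inv_cancel_right])
    (by rw [MulAut.conj_apply, h2, mul_inv_cancel_right])
  refine ⟨i, j, ?_⟩
  set c := x ^ i * z ^ j with hc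
  have h3 : c⁻¹ * t ∈ Subgroup.center K.Grp := by
    rw [Subgroup.mem_center_iff]
    intro y
    have h4 := DFunLike.congr_fun hij y
    rw [MulAut.conj_apply, MulAut.conj_apply] at h4
    calc y * (c⁻¹ * t) = c⁻¹ * (c * y * c⁻¹) * t := by group
      _ = c⁻¹ * (t * y * t⁻¹) * t := by rw [h4]
      _ = c⁻¹ * t * y := by group
  rw [center_bot, Subgroup.mem_bot] at h3
  exact (inv_mul_eq_one.mp h3).symm

theorem z_order : orderOf z = 2 := by
  have : Fact (Nat.Prime 2) := ⟨Nat.prime_two⟩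
  exact orderOf_eq_prime (by rw [pow_two]; exact z_sq) z_ne

theorem card_cent : Nat.card (Subgroup.centralizer ({x} : Set K.Grp)) = 22 := by
  have hcomm : Commute x z := x_z
  have ho : orderOf (x * z) = 22 := by
    rw [hcomm.orderOf_mul_eq_mul_orderOf_of_coprime (by rw [x_order, z_order]; norm_num),
      x_order, z_order]
  have hx1 : x ∈ Subgroup.zpowers (x * z) := by
    refine ⟨12, ?_⟩
    show (x * z) ^ (12 : ℤ) = x
    have : (x * z) ^ (12 : ℤ) = (x * z) ^ (12 : ℕ) := by norm_cast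
    rw [this, hcomm.mul_pow]
    have e1 : x ^ 12 = x := by rw [pow_succ, x_pow, one_mul]
    have e2 : z ^ 12 = 1 := by
      rw [show 12 = 2 * 6 from rfl, pow_mul, pow_two, z_sq, one_pow]
    rw [e1, e2, mul_one]
  have hz1 : z ∈ Subgroup.zpowers (x * z) := by
    refine ⟨11, ?_⟩
    show (x * z) ^ (11 : ℤ) = z
    have : (x * z) ^ (11 : ℤ) = (x * z) ^ (11 : ℕ) := by norm_cast
    rw [this, hcomm.mul_pow, x_pow, one_mul]
    rw [show 11 = 2 * 5 + 1 from rfl, pow_succ, pow_mul, pow_two, z_sq, one_pow, one_mul]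
  have heq : Subgroup.centralizer ({x} : Set K.Grp) = Subgroup.zpowers (x * z) := by
    apply le_antisymm
    · intro t ht
      obtain ⟨i, j, rfl⟩ := cent_x t (Subgroup.mem_centralizer_singleton_iff.mp ht)
      exact Subgroup.mul_mem _ (Subgroup.pow_mem _ hx1 i) (Subgroup.pow_mem _ hz1 j)
    · rw [Subgroup.zpowers_le, Subgroup.mem_centralizer_singleton_iff]
      calc x * z * x = x * (x * z) := by rw [mul_assoc, ← x_z]
        _ = x * (x * z) := rfl
  rw [heq, Nat.card_zpowers, ho]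

theorem alpha_z (α : MulAut K.Grp) (hx : α x = x) : α z = z := by
  have h1 : α z * x = x * α z := by
    have := congrArg α x_z
    rw [map_mul, map_mul, hx] at this
    exact this.symm
  obtain ⟨i, j, hij⟩ := cent_x _ h1
  have h2 : α z * α z = 1 := by rw [← map_mul, z_sq, map_one]
  have hcomm : Commute x z := x_z
  have hz2 : ∀ m, z ^ (2 * m) = 1 := fun m => by rw [pow_mul, pow_two, z_sq, one_pow]
  have h3 : x ^ (2 * i) = 1 := by
    have : (x ^ i * z ^ j) ^ 2 = 1 := by rw [pow_two, ← hij, h2]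
    rw [(hcomm.pow_pow i j).mul_pow, ← pow_mul, ← pow_mul, mul_comm j 2, hz2, mul_one,
      mul_comm i 2] at this
    exact this
  have h4 : 11 ∣ 2 * i := by rw [← x_order]; exact orderOf_dvd_of_pow_eq_one h3
  have h5 : 11 ∣ i := (Nat.Coprime.dvd_of_dvd_mul_left (by norm_num) h4)
  have h6 : x ^ i = 1 := by
    obtain ⟨r, rfl⟩ := h5
    rw [pow_mul, x_pow, one_pow]
  rw [h6, one_mul] at hij
  rcases Nat.even_or_odd' j with ⟨m, rfl | rfl⟩
  · exfalso
    rw [hz2] at hij
    exact z_ne (α.injective (by rw [hij, map_one]))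
  · rw [hij, pow_succ, hz2, one_mul]

theorem inner_of_fix (α : MulAut K.Grp) (hx : α x = x) : α ∈ Cfsg.Inn K.Grp := by
  obtain ⟨i, j, h⟩ := key α hx (alpha_z α hx)
  rw [h]
  exact inn_conj _

theorem conj_pm (φ : MulAut K.Grp) : ∃ g : K.Grp, g * φ x * g⁻¹ = x ∨ g * φ x * g⁻¹ = x⁻¹ := by
  have : Fact (Nat.Prime 11) := ⟨by norm_num⟩
  have hcard := Cfsg.Agent.Lib.Helper35Fi22Fin.card_eq
  have hidx : ¬ 11 ∣ (Subgroup.zpowers x).index := by
    have h1 := (Subgroup.zpowers x).index_mul_card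
    rw [Nat.card_zpowers, x_order, hcard] at h1
    have h2 : (Subgroup.zpowers x).index = 5869250150400 := by omega
    rw [h2]
    norm_num
  apply conj_half 11 x x_order hidx 5 (by decide) (by norm_num)
  apply card_range 11 x x_order hidx 22 5 card_cent
  intro m k hm hk hk1
  rw [hcard] at hk
  have hm10 : m ≤ 10 := Nat.le_of_dvd (by norm_num) hm
  interval_cases m <;> omega

end Cfsg.Agent.Lib.Helper47Fi22OutB
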