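import Cfsg.Agent.Lib.Helper47Fi22OutB

set_option autoImplicit false
set_option maxRecDepth 100000

namespace Cfsg.Agent.Lib.Helper47Fi22OutC

open Cfsg.Agent.Lib.Helper35TC Cfsg.Agent.Lib.Helper35Fi22a Cfsg.Agent.Lib.Helper33TT
  Cfsg.Agent.Lib.Helper47IdxB Cfsg.Agent.Lib.Helper47OutA Cfsg.Agent.Lib.Helper47OutB
  Cfsg.Agent.Lib.Helper47Fi22Out Cfsg.Agent.Lib.Helper47Fi22OutB

theorem tr_inj {G : Type*} [Group G] {n : ℕ} (φ : G →* Equiv.Perm (Fin n)) (o : Fin n) (z : G)
    (hst : ∀ g, φ g o = o ↔ g * z = z * g) {g g' : G} (h : g * z * g⁻¹ = g' * z * g'⁻¹) :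
    φ g o = φ g' o := by
  have h1 : g'⁻¹ * g * z = z * (g'⁻¹ * g) := by
    calc g'⁻¹ * g * z = g'⁻¹ * (g * z * g⁻¹) * g := by group
      _ = g'⁻¹ * (g' * z * g'⁻¹) * g := by rw [h]
      _ = z * (g'⁻¹ * g) := by group
  have h2 := (hst _).mpr h1
  rw [map_mul, Equiv.Perm.mul_apply, map_inv, Equiv.Perm.inv_eq_iff_eq] at h2
  exact h2

theorem hrel : ∀ e ∈ K.relExps, PresentedGroup.mk K.rels (e.map flip).eval = 1 :=
  fun e he => weo _ (chkRel e he)

noncomputable def sigH : K.Grp →* K.Grp := ok.homOf K flip hrel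

theorem sigH_of (s : Gen) : sigH (PresentedGroup.of s) = PresentedGroup.of (flip s) :=
  ok.homOf_of K flip hrel s

theorem sigH_sq : sigH.comp sigH = MonoidHom.id _ := by
  apply PresentedGroup.ext
  intro s
  show sigH (sigH (PresentedGroup.of s)) = PresentedGroup.of s
  rw [sigH_of, sigH_of]
  cases s <;> rfl

noncomputable def sig : MulAut K.Grp := MonoidHom.toMulEquiv sigH sigH sigH_sq sigH_sq

theorem sig_mk (e : WExp Gen) : sig (PresentedGroup.mk K.rels e.eval) =
    PresentedGroup.mk K.rels (e.map flip).eval := ok.homOf_mk K flip hrel e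

theorem sig_not_inner : sig ∉ Cfsg.Inn K.Grp := by
  rintro ⟨h, hh⟩
  have hconj : ∀ w, h * w * h⁻¹ = sig w := fun w => by rw [← hh]; rfl
  have h0 : phi h o = ⟨140, by norm_num⟩ := by
    have e1 : h * z * h⁻¹ = (gam 140)⁻¹ * z * ((gam 140)⁻¹)⁻¹ := by
      rw [hconj, inv_inv]
      exact (sig_mk zE).trans (gen_eq .g)
    have e2 := tr_inj phi o z hst e1
    rw [e2]
    exact gam_inv_apply ⟨140, by norm_num⟩
  have hψ : ∀ u : Fin 3510, (phi h u).val = piN u.val := by
    intro u
    have e1 : phi h u = phi (sig (gam u)⁻¹) (phi h o) := by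
      conv_lhs => rw [← gam_inv_apply u]
      rw [← hconj, map_mul, map_mul, Equiv.Perm.mul_apply, Equiv.Perm.mul_apply, map_inv phi h]
      simp
    have e2 : sig (gam u)⁻¹ = PresentedGroup.mk K.rels ((WExp.inv (wdE u)).map flip).eval := by
      rw [← sig_mk]
      congr 1
    rw [e1, h0, e2, phi_apply]
    rfl
  have hinv : ∀ j, phi h (phi h j) = j := by
    intro j
    apply Fin.ext
    rw [hψ, hψ]
    have h1 := all_of_allD _ 12 3510 (by norm_num) chkInv j j.2
    rw [Bool.or_eq_true, Nat.ble_eq, Nat.beq_eq] at h1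
    rcases h1 with h1 | h1
    · exact absurd j.2 (by omega)
    · exact h1
  have hsupp : (phi h).support.card = 2 * 1575 := by
    have h1 := card_filter_range (fun j => Nat.ble (j + 1) 3510 && !(Nat.beq (piN j) j)) 12 3510
      (by norm_num) (by
        intro u hu
        rw [Bool.and_eq_true, Nat.ble_eq] at hu
        omega)
    rw [cntMoved] at h1
    rw [show 2 * 1575 = 3150 from rfl, ← h1]
    apply Finset.card_bij (fun j _ => j.val)
    · intro j hj
      rw [Equiv.Perm.mem_support] at hj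
      rw [Finset.mem_filter, Finset.mem_range, Bool.and_eq_true, Nat.ble_eq, Bool.not_eq_true',
        ← hψ]
      refine ⟨j.2, j.2, ?_⟩
      cases hb : Nat.beq (phi h j).val j.val
      · rfl
      · exact absurd (Fin.ext (Nat.beq_eq ▸ hb)) hj
    · intro a _ b _ hab
      exact Fin.ext hab
    · intro b hb
      rw [Finset.mem_filter, Finset.mem_range, Bool.and_eq_true, Nat.ble_eq, Bool.not_eq_true'] at hb
      refine ⟨⟨b, hb.1⟩, ?_, rfl⟩
      rw [Equiv.Perm.mem_support]
      intro hfix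
      have h2 := hψ ⟨b, hb.1⟩
      rw [hfix] at h2
      have h3 := hb.2.2
      rw [← h2] at h3
      simp at h3
  have h1 := sign_invol (phi h) hinv 1575 hsupp (by decide)
  have h2 := sign_eq_one (G := K.Grp)
    (by rw [Cfsg.Agent.Lib.Helper35Fi22Fin.card_eq]; norm_num) phi h
  rw [h1] at h2
  exact absurd h2 (by decide)

theorem main : Nat.card (Cfsg.Out K.Grp) = 2 :=
  out_two sig sig_not_inner x conj_pm inner_of_fix

end Cfsg.Agent.Lib.Helper47Fi22OutC
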