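import Cfsg.Agent.Lib.Helper47Fi23OutG

set_option autoImplicit false
set_option maxRecDepth 100000

/-! Every automorphism of the presented Fischer group `Fi₂₃` is inner. -/

namespace Cfsg.Agent.Lib.Helper47Fi23OutB

open Cfsg.Agent.Lib.Helper35TC Cfsg.Agent.Lib.Helper35Fi23a
  Cfsg.Agent.Lib.Helper47IdxB Cfsg.Agent.Lib.Helper47OutA Cfsg.Agent.Lib.Helper47OutB
  Cfsg.Agent.Lib.Helper47Fi23Out

theorem hst_conj {G : Type*} [Group G] {n : ℕ} (φ : G →* Equiv.Perm (Fin n)) (o o' : Fin n)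
    (z z' g0 : G) (hst : ∀ g, φ g o = o ↔ g * z = z * g) (h1 : φ g0 o = o')
    (h2 : z' = g0 * z * g0⁻¹) (g : G) : φ g o' = o' ↔ g * z' = z' * g := by
  have e1 : φ g o' = o' ↔ φ (g0⁻¹ * g * g0) o = o := by
    rw [map_mul, map_mul, Equiv.Perm.mul_apply, Equiv.Perm.mul_apply, map_inv,
      Equiv.Perm.inv_eq_iff_eq, h1]
  rw [e1, hst, h2]
  constructor
  · intro h
    calc g * (g0 * z * g0⁻¹) = g0 * (g0⁻¹ * g * g0 * z) * g0⁻¹ := by group
      _ = g0 * (z * (g0⁻¹ * g * g0)) * g0⁻¹ := by rw [h]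
      _ = g0 * z * g0⁻¹ * g := by group
  · intro h
    calc g0⁻¹ * g * g0 * z = g0⁻¹ * (g * (g0 * z * g0⁻¹)) * g0 := by group
      _ = g0⁻¹ * (g0 * z * g0⁻¹ * g) * g0 := by rw [h]
      _ = z * (g0⁻¹ * g * g0) := by group

theorem tr_inj {G : Type*} [Group G] {n : ℕ} (φ : G →* Equiv.Perm (Fin n)) (o : Fin n) (z : G)
    (hst : ∀ g, φ g o = o ↔ g * z = z * g) {g g' : G} (h : g * z * g⁻¹ = g' * z * g'⁻¹) :
    φ g o = φ g' o := by
  have h1 : g'⁻¹ * g * z = z * (g'⁻¹ * g) := by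
    calc g'⁻¹ * g * z = g'⁻¹ * (g * z * g⁻¹) * g := by group
      _ = g'⁻¹ * (g' * z * g'⁻¹) * g := by rw [h]
      _ = z * (g'⁻¹ * g) := by group
  have h2 := (hst _).mpr h1
  rw [map_mul, Equiv.Perm.mul_apply, map_inv, Equiv.Perm.inv_eq_iff_eq] at h2
  exact h2

/-! ### basic facts -/

noncomputable def gam (u : ℕ) : K.Grp := PresentedGroup.mk K.rels (wdE u).eval

theorem gam_val (u : ℕ) (v : Fin 31671) : (phi (gam u) v).val = wk u v.val := by
  rw [gam, phi_apply, wk_eq]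

theorem gam_apply (u : Fin 31671) : phi (gam u) u = o := by
  apply Fin.ext
  rw [gam_val]
  have h := all_of_allD _ 15 31671 (by norm_num) chkTree u u.2
  rw [Bool.or_eq_true, Nat.ble_eq, Nat.beq_eq] at h
  rcases h with h | h
  · exact absurd u.2 (by omega)
  · exact h

theorem gam_inv_apply (u : Fin 31671) : phi (gam u)⁻¹ o = u := by
  rw [map_inv, Equiv.Perm.inv_eq_iff_eq, gam_apply]

theorem gam0_inv : phi (gam 0)⁻¹ o = o1 := gam_inv_apply o1

theorem cE_eval (u : ℕ) : PresentedGroup.mk K.rels (cE u).eval = (gam u)⁻¹ * z * (gam u) := by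
  simp only [cE, WExp.eval, map_mul, map_inv]
  rfl

theorem z1_eq : z1 = (gam 0)⁻¹ * z * gam 0 := by
  have h := weo _ chkZ1
  rw [← cE_eval]
  simp only [WExp.eval, map_mul, map_inv] at h
  exact mul_inv_eq_one.mp h

theorem hst1 (g : K.Grp) : phi g o1 = o1 ↔ g * z1 = z1 * g := by
  have h : g * z1 = z1 * g ↔ g ∈ Subgroup.centralizer ({z1} : Set K.Grp) :=
    Subgroup.mem_centralizer_singleton_iff.symm
  rw [h]
  have h2 : Subgroup.centralizer ({z1} : Set K.Grp) = K.H := Cfsg.Agent.Lib.Helper33Fi23T.cent_eq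
  rw [h2, ok.mem_H_iff]
  rfl

theorem hst (g : K.Grp) : phi g o = o ↔ g * z = z * g := by
  apply hst_conj phi o1 o z1 z (gam 0) hst1 (gam_apply o1)
  rw [z1_eq]
  group

theorem z1_sq : z1 * z1 = 1 := Cfsg.Agent.Lib.Helper35Fi23Dc.z_sq

theorem z1_ne : z1 ≠ 1 := Cfsg.Agent.Lib.Helper35Fi23Dc.z_ne

theorem z_sq : z * z = 1 := by
  have := weo (.mul zE zE) (by decide +kernel)
  simp only [WExp.eval, map_mul] at this
  exact this

theorem z_ne : z ≠ 1 := by
  intro h
  apply z1_ne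
  rw [z1_eq, h]
  group

theorem tr_gam (g : K.Grp) : g * z * g⁻¹ = (gam (phi g o))⁻¹ * z * (gam (phi g o)) := by
  have h := tr_eq phi o z hst (g := g) (g' := (gam (phi g o))⁻¹) (gam_inv_apply _).symm
  rw [h, inv_inv]

theorem conj_apply (g : K.Grp) (v : Fin 31671) :
    (phi (g * z * g⁻¹) v).val = circN (phi g o).val v.val := by
  rw [tr_gam, ← cE_eval, phi_apply]
  rfl

theorem z_val (t : Fin 31671) : (phi z t).val = P.A t.val 0 := by
  rw [z, phi_apply]
  rfl

theorem adj_iff (g g2 : K.Grp) : adjB (phi g o).val (phi g2 o).val = true ↔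
    Commute (g * z * g⁻¹) (g2 * z * g2⁻¹) := by
  rw [← fix_iff phi o z hst, tr_gam g, map_mul, map_mul, Equiv.Perm.mul_apply,
    Equiv.Perm.mul_apply, map_inv, Equiv.Perm.inv_eq_iff_eq, adjB, strict_eq, Nat.beq_eq,
    ← gam_val, ← z_val, Fin.val_inj]

theorem center_bot : Subgroup.center K.Grp = ⊥ := by
  rcases IsSimpleGroup.eq_bot_or_eq_top_of_normal (Subgroup.center K.Grp) inferInstance with h | h
  · exact h
  · exfalso
    apply Cfsg.Agent.Lib.Helper33Fi23T.H_ne_top
    rw [← Cfsg.Agent.Lib.Helper33Fi23T.cent_eq, eq_top_iff]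
    intro g _
    rw [Subgroup.mem_centralizer_singleton_iff]
    have hz : Cfsg.Agent.Lib.Helper35Fi23Dc.z ∈ Subgroup.center K.Grp := by rw [h]; trivial
    exact Subgroup.mem_center_iff.mp hz g

/-! ### the element `x` -/

theorem xT_apply (j : Fin 31671) : (phi x j).val = xT j.val := by
  rw [x, phi_apply]
  have h := all_of_allD _ 15 31671 (by norm_num) chkX j j.2
  rw [Bool.or_eq_true, Nat.ble_eq, Nat.beq_eq] at h
  rcases h with h | h
  · exact absurd j.2 (by omega)
  · exact h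

theorem xI_apply : ∀ (k : ℕ) (j : Fin 31671), (phi (x ^ k) j).val = xI k j.val
  | 0, j => by rw [pow_zero, map_one]; rfl
  | k + 1, j => by
    rw [pow_succ', map_mul, Equiv.Perm.mul_apply, xT_apply, xI_apply k j]
    rfl

theorem x_pow : x ^ 11 = 1 := by
  have := weo (.pow xE 11) (by decide +kernel)
  simp only [WExp.eval, map_pow] at this
  exact this

theorem x_fix (j : Fin 31671) (h : phi x j = j) : j = o ∨ j = o1 := by
  have h1 := all_of_allD _ 15 31671 (by norm_num) chkFix j j.2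
  have h2 := xT_apply j
  rw [h] at h2
  rw [Bool.or_eq_true, Bool.or_eq_true, Bool.or_eq_true, Nat.ble_eq, Nat.beq_eq, Nat.beq_eq,
    Bool.not_eq_true'] at h1
  rcases h1 with ((h1 | h1) | h1) | h1
  · exact absurd j.2 (by omega)
  · exact Or.inl (Fin.ext h1)
  · exact Or.inr (Fin.ext h1)
  · rw [← h2] at h1
    simp at h1

theorem x_o : phi x o = o := by
  apply Fin.ext
  rw [xT_apply]
  decide +kernel

theorem x_o1 : phi x o1 = o1 := by
  apply Fin.ext
  rw [xT_apply]
  decide +kernel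

theorem x_z : x * z = z * x := (hst x).mp x_o

theorem x_z1 : x * z1 = z1 * x := (hst1 x).mp x_o1

theorem z1_z : z1 * z = z * z1 := by
  apply (hst z1).mp
  apply Fin.ext
  rw [z1, phi_apply]
  decide +kernel

theorem z_ne_z1 : z ≠ z1 := by
  intro h
  have h1 : phi (gam 0)⁻¹ o = phi 1 o := by
    apply tr_inj phi o z hst
    rw [inv_inv, ← z1_eq, ← h]
    group
  rw [gam0_inv, map_one] at h1
  exact absurd (congrArg Fin.val h1) (by decide)

theorem x_ne : x ≠ 1 := by
  intro h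
  have h1 := x_fix ⟨1, by norm_num⟩ (by rw [h, map_one]; rfl)
  rcases h1 with h1 | h1 <;> exact absurd (congrArg Fin.val h1) (by decide)

theorem x_order : orderOf x = 11 := by
  have : Fact (Nat.Prime 11) := ⟨by norm_num⟩
  exact orderOf_eq_prime x_pow x_ne

/-- a transposition commuting with `x` is `z` or `z1` -/
theorem trans_fix (g : K.Grp) (h : Commute x (g * z * g⁻¹)) :
    g * z * g⁻¹ = z ∨ g * z * g⁻¹ = z1 := by
  have h1 := (fix_iff phi o z hst x g).mpr h
  rcases x_fix _ h1 with h2 | h2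
  · left
    have h3 : phi g o = phi 1 o := by rw [h2, map_one]; rfl
    rw [tr_eq phi o z hst h3]
    group
  · right
    have h3 : phi g o = phi (gam 0)⁻¹ o := by rw [h2, gam0_inv]
    rw [tr_eq phi o z hst h3, inv_inv, ← z1_eq]

/-! ### generation -/

noncomputable def gp : K.Grp := PresentedGroup.mk K.rels gpE.eval

noncomputable def dp : K.Grp := gp * z * gp⁻¹

theorem vN_apply (i j l : ℕ) : (phi (x ^ i * z ^ j * z1 ^ l * gp) o).val = vN i j l := by
  have h := phi_apply (vE i j l) o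
  have e : PresentedGroup.mk K.rels (vE i j l).eval = x ^ i * z ^ j * z1 ^ l * gp := by
    simp only [vE, WExp.eval, map_pow, map_mul]
    rfl
  rw [e] at h
  exact h

noncomputable def M : Subgroup K.Grp := Subgroup.closure {x, z, z1, dp}

theorem hxM : x ∈ M := Subgroup.subset_closure (by simp)
theorem hzM : z ∈ M := Subgroup.subset_closure (by simp)
theorem hz1M : z1 ∈ M := Subgroup.subset_closure (by simp)
theorem hdM : dp ∈ M := Subgroup.subset_closure (by simp)

def Good (u : ℕ) : Prop := u < 31671 ∧ ∀ g : K.Grp, (phi g o).val = u → g * z * g⁻¹ ∈ M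

theorem good_o : Good 11589 := by
  refine ⟨by norm_num, fun g hg => ?_⟩
  have h : phi g o = o := Fin.ext hg
  rw [(hst g).mp h, mul_inv_cancel_right]
  exact hzM

theorem good_o1 : Good 0 := by
  refine ⟨by norm_num, fun g hg => ?_⟩
  have h : phi g o = phi (gam 0)⁻¹ o := by rw [gam0_inv]; exact Fin.ext hg
  rw [tr_eq phi o z hst h, inv_inv, ← z1_eq]
  exact hz1M

theorem good_base (i : ℕ) : Good (vN i 0 0) := by
  refine ⟨by rw [← vN_apply]; exact Fin.is_lt _, fun g hg => ?_⟩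
  have h : phi g o = phi (x ^ i * z ^ 0 * z1 ^ 0 * gp) o := Fin.ext (by rw [hg, vN_apply])
  rw [tr_eq phi o z hst h]
  have e : x ^ i * z ^ 0 * z1 ^ 0 * gp * z * (x ^ i * z ^ 0 * z1 ^ 0 * gp)⁻¹ =
      x ^ i * dp * (x ^ i)⁻¹ := by
    rw [dp]; group
  rw [e]
  exact M.mul_mem (M.mul_mem (M.pow_mem hxM i) hdM) (M.inv_mem (M.pow_mem hxM i))

theorem good_circ {u v : ℕ} (hu : Good u) (hv : Good v) : Good (circN u v) := by
  have hgu := gam_inv_apply ⟨u, hu.1⟩
  have hgv := gam_inv_apply ⟨v, hv.1⟩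
  set gu := (gam u)⁻¹ with hgu'
  set gv := (gam v)⁻¹ with hgv'
  have key : circN u v = (phi (gu * z * gu⁻¹ * gv) o).val := by
    rw [map_mul, Equiv.Perm.mul_apply, conj_apply, hgu, hgv]
  refine ⟨by rw [key]; exact Fin.is_lt _, fun g hg => ?_⟩
  have h : phi g o = phi (gu * z * gu⁻¹ * gv) o := Fin.ext (by rw [hg, key])
  rw [tr_eq phi o z hst h]
  have e : gu * z * gu⁻¹ * gv * z * (gu * z * gu⁻¹ * gv)⁻¹ =
      (gu * z * gu⁻¹) * (gv * z * gv⁻¹) * (gu * z * gu⁻¹)⁻¹ := by group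
  rw [e]
  have h1 : gu * z * gu⁻¹ ∈ M := hu.2 gu (by rw [hgu])
  have h2 : gv * z * gv⁻¹ ∈ M := hv.2 gv (by rw [hgv])
  exact M.mul_mem (M.mul_mem h1 h2) (M.inv_mem h1)

theorem run_good : ∀ (st : List (ℕ × ℕ)) (kn : List ℕ), (∀ u ∈ kn, Good u) →
    ∀ u ∈ run kn st, Good u
  | [], kn, h => h
  | s :: r, kn, h => by
    rw [run]
    cases hc : (kn.contains s.1 && kn.contains s.2)
    · simp only [cond_false]
      exact run_good r kn h
    · simp only [cond_true, strict_eq]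
      rw [Bool.and_eq_true, List.contains_iff_mem, List.contains_iff_mem] at hc
      apply run_good r
      intro u hu
      rcases List.mem_cons.mp hu with rfl | hu
      · exact good_circ (h _ hc.1) (h _ hc.2)
      · exact h u hu

theorem base_good : ∀ u ∈ base, Good u := by
  intro u hu
  simp only [base, List.mem_cons, List.not_mem_nil, or_false] at hu
  rcases hu with rfl | rfl | rfl | rfl | rfl | rfl | rfl | rfl | rfl | rfl | rfl | rfl | rfl
  · exact good_o
  · exact good_o1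
  all_goals exact good_base _

theorem gen_eq (s : Gen) : (PresentedGroup.of s : K.Grp) =
    (gam (ptOf s))⁻¹ * z * (gam (ptOf s)) := by
  have h := weo _ (chkGen s)
  rw [← cE_eval]
  simp only [WExp.eval, map_mul, map_inv] at h
  exact mul_inv_eq_one.mp h

theorem pt_good (s : Gen) : Good (ptOf s) :=
  run_good steps base base_good _ (List.contains_iff_mem.mp (chkRun s))

theorem hgen : Subgroup.closure {x, z, z1, dp} = (⊤ : Subgroup K.Grp) := by
  apply Pkg.top_of_gens
  intro s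
  rw [gen_eq]
  have h := pt_good s
  have h1 := h.2 (gam (ptOf s))⁻¹ (by rw [gam_inv_apply ⟨ptOf s, h.1⟩])
  rwa [inv_inv] at h1

/-! ### the signature -/

theorem Sg_iff (g : K.Grp) (k : ℕ) : adjB (phi g o).val (xI k (phi g o).val) = true ↔
    Commute (g * z * g⁻¹) (x ^ k * (g * z * g⁻¹) * (x ^ k)⁻¹) := by
  have h := adj_iff g (x ^ k * g)
  rw [map_mul, Equiv.Perm.mul_apply, xI_apply] at h
  rw [h]
  have e : x ^ k * g * z * (x ^ k * g)⁻¹ = x ^ k * (g * z * g⁻¹) * (x ^ k)⁻¹ := by group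
  rw [e]

theorem S0_iff (g : K.Grp) : adjB 11589 (phi g o).val = true ↔ Commute z (g * z * g⁻¹) := by
  have h := adj_iff 1 g
  rw [map_one, Equiv.Perm.one_apply, one_mul, inv_one, mul_one] at h
  exact h

theorem S1_iff (g : K.Grp) : adjB 0 (phi g o).val = true ↔ Commute z1 (g * z * g⁻¹) := by
  have h := adj_iff (gam 0)⁻¹ g
  rw [gam0_inv, inv_inv, ← z1_eq] at h
  exact h

theorem gp_val : (phi gp o).val = vN 0 0 0 := by
  rw [← vN_apply, pow_zero, pow_zero, pow_zero, one_mul, one_mul, one_mul]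

theorem sig_gp : adjB (phi gp o).val (xI 1 (phi gp o).val) = true ∧
    adjB (phi gp o).val (xI 3 (phi gp o).val) = true ∧
    adjB (phi gp o).val (xI 4 (phi gp o).val) = true ∧
    adjB (phi gp o).val (xI 5 (phi gp o).val) = true ∧
    adjB (phi gp o).val (xI 2 (phi gp o).val) = false ∧
    adjB 11589 (phi gp o).val = false ∧ adjB 0 (phi gp o).val = false := by
  have h := sig_p
  rw [← gp_val] at h
  unfold sigL at h
  simp only [List.cons.injEq, and_true] at h
  exact h

theorem cpow (i j l : ℕ) : Commute (x ^ i * z ^ j * z1 ^ l) x :=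
  (((Commute.refl x).pow_left i).mul_left ((show Commute z x from x_z.symm).pow_left j)).mul_left
    ((show Commute z1 x from x_z1.symm).pow_left l)

theorem cpow_z (i j l : ℕ) : Commute (x ^ i * z ^ j * z1 ^ l) z :=
  (((show Commute x z from x_z).pow_left i).mul_left ((Commute.refl z).pow_left j)).mul_left
    ((show Commute z1 z from z1_z).pow_left l)

theorem cpow_z1 (i j l : ℕ) : Commute (x ^ i * z ^ j * z1 ^ l) z1 :=
  (((show Commute x z1 from x_z1).pow_left i).mul_left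
    ((show Commute z z1 from z1_z.symm).pow_left j)).mul_left ((Commute.refl z1).pow_left l)

theorem valid_of (g' : K.Grp)
    (hk : ∀ k, Commute (g' * z * g'⁻¹) (x ^ k * (g' * z * g'⁻¹) * (x ^ k)⁻¹) ↔
      Commute dp (x ^ k * dp * (x ^ k)⁻¹))
    (h0 : ¬ Commute z (g' * z * g'⁻¹)) (h1 : ¬ Commute z1 (g' * z * g'⁻¹)) :
    ∃ i j l : ℕ, g' * z * g'⁻¹ =
      (x ^ i * z ^ j * z1 ^ l) * dp * (x ^ i * z ^ j * z1 ^ l)⁻¹ := by
  obtain ⟨a1, a3, a4, a5, a2, a6, a7⟩ := sig_gp
  have hk' : ∀ k, adjB (phi g' o).val (xI k (phi g' o).val) =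
      adjB (phi gp o).val (xI k (phi gp o).val) := by
    intro k
    rw [Bool.eq_iff_iff, Sg_iff, Sg_iff]
    exact hk k
  have e6 : adjB 11589 (phi g' o).val = false := by
    rw [← Bool.not_eq_true, S0_iff]; exact h0
  have e7 : adjB 0 (phi g' o).val = false := by
    rw [← Bool.not_eq_true, S1_iff]; exact h1
  have hs : sigL (phi g' o).val = [true, true, true, true, false, false, false] := by
    unfold sigL
    rw [hk' 1, hk' 3, hk' 4, hk' 5, hk' 2, a1, a3, a4, a5, a2, e6, e7]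
  have h2 := all_of_allD _ 15 31671 (by norm_num) chkSig (phi g' o).val (Fin.is_lt _)
  rw [hs] at h2
  have h3 : validB (phi g' o).val = true := by
    rw [Bool.or_eq_true, Bool.or_eq_true, Nat.ble_eq] at h2
    rcases h2 with (h2 | h2) | h2
    · exact absurd (Fin.is_lt (phi g' o)) (by omega)
    · simp at h2
    · exact h2
  obtain ⟨i, -, hi⟩ := anyB_spec _ _ h3
  rw [Bool.or_eq_true, Bool.or_eq_true, Bool.or_eq_true, Nat.beq_eq, Nat.beq_eq, Nat.beq_eq,
    Nat.beq_eq] at hi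
  obtain ⟨j, l, hj⟩ : ∃ j l, (phi g' o).val = vN i j l := by
    rcases hi with ((hi | hi) | hi) | hi
    · exact ⟨0, 0, hi⟩
    · exact ⟨0, 1, hi⟩
    · exact ⟨1, 0, hi⟩
    · exact ⟨1, 1, hi⟩
  refine ⟨i, j, l, ?_⟩
  have h4 : phi g' o = phi (x ^ i * z ^ j * z1 ^ l * gp) o := Fin.ext (by rw [hj, ← vN_apply])
  rw [tr_eq phi o z hst h4, dp]
  group

theorem nz : ¬ Commute z dp := by
  rw [dp, ← S0_iff, sig_gp.2.2.2.2.2.1]; simp

theorem nz1 : ¬ Commute z1 dp := by
  rw [dp, ← S1_iff, sig_gp.2.2.2.2.2.2]; simp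

theorem hk_alpha (α : MulAut K.Grp) (hx : α x = x) (k : ℕ) :
    Commute (α dp) (x ^ k * α dp * (x ^ k)⁻¹) ↔ Commute dp (x ^ k * dp * (x ^ k)⁻¹) := by
  rw [← Helper47OutB.commute_map_iff α dp]
  simp only [map_mul, map_inv, map_pow, hx]

theorem conj_inv_apply (c : K.Grp) (α : MulAut K.Grp) (y : K.Grp) :
    ((MulAut.conj c)⁻¹ * α) y = c⁻¹ * α y * c := by
  rw [MulAut.mul_apply, ← map_inv, MulAut.conj_apply, inv_inv]

/-- images of `z1` -/
theorem alpha_z1 (α : MulAut K.Grp) (hx : α x = x) (g : K.Grp) (hg : α z = g * z * g⁻¹) :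
    α z1 = z ∨ α z1 = z1 := by
  have e : α z1 = (α (gam 0)⁻¹ * g) * z * (α (gam 0)⁻¹ * g)⁻¹ := by
    rw [z1_eq, map_mul, map_mul, hg, map_inv]
    group
  rw [e]
  apply trans_fix
  rw [← e, ← hx, Helper47OutB.commute_map_iff]
  exact x_z1

theorem keyA (α : MulAut K.Grp) (hx : α x = x) (hz : α z = z) :
    ∃ i j l : ℕ, α = MulAut.conj (x ^ i * z ^ j * z1 ^ l) := by
  have hz1 : α z1 = z1 := by
    rcases alpha_z1 α hx 1 (by rw [hz]; group) with h | h
    · exfalso
      apply z_ne_z1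
      apply α.injective
      rw [hz, h]
    · exact h
  have e : α dp = α gp * z * (α gp)⁻¹ := by rw [dp, map_mul, map_mul, map_inv, hz]
  obtain ⟨i, j, l, h5⟩ := valid_of (α gp) (by rw [← e]; exact hk_alpha α hx)
    (by rw [← e, ← hz, Helper47OutB.commute_map_iff]; exact nz)
    (by rw [← e, ← hz1, Helper47OutB.commute_map_iff]; exact nz1)
  refine ⟨i, j, l, ?_⟩
  set c := x ^ i * z ^ j * z1 ^ l with hc
  have h6 : (MulAut.conj c)⁻¹ * α = 1 := by
    apply eq_one_of_closure _ hgen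
    intro s hs
    simp only [Set.mem_insert_iff, Set.mem_singleton_iff] at hs
    rw [conj_inv_apply]
    rcases hs with rfl | rfl | rfl | rfl
    · rw [hx, mul_assoc, ← (cpow i j l).eq, inv_mul_cancel_left]
    · rw [hz, mul_assoc, ← (cpow_z i j l).eq, inv_mul_cancel_left]
    · rw [hz1, mul_assoc, ← (cpow_z1 i j l).eq, inv_mul_cancel_left]
    · rw [e, h5]
      group
  exact (inv_mul_eq_one.mp h6).symm

/-! ### the swap is impossible -/

noncomputable def ee (u v : K.Grp) : K.Grp :=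
  (u * (x * dp * x⁻¹) * u⁻¹) * (v * ((x ^ 2)⁻¹ * dp * ((x ^ 2)⁻¹)⁻¹) * v⁻¹) *
    (u * (x * dp * x⁻¹) * u⁻¹)⁻¹

theorem dpE_eval : PresentedGroup.mk K.rels dpE.eval = dp := by
  simp only [dpE, cj, WExp.eval, map_mul, map_inv]
  rfl

theorem eE_eval (u v : WExp Gen) : PresentedGroup.mk K.rels (eE u v).eval =
    ee (PresentedGroup.mk K.rels u.eval) (PresentedGroup.mk K.rels v.eval) := by
  have h := dpE_eval
  simp only [eE, cj, WExp.eval, map_mul, map_inv, map_pow, ee] at h ⊢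
  rw [h]
  rfl

theorem as1 : Commute dp (ee z z1) := by
  have h := weo _ chkAs1
  simp only [WExp.eval, map_mul, map_inv] at h
  rw [dpE_eval, eE_eval] at h
  exact mul_inv_eq_one.mp h

theorem as2 : ¬ Commute dp (ee z1 z) := by
  intro h
  apply chkAs2
  have h1 := phi_apply (.mul dpE (eE z1E zE)) ⟨17381, by norm_num⟩
  have h2 := phi_apply (.mul (eE z1E zE) dpE) ⟨17381, by norm_num⟩
  simp only [WExp.eval, map_mul (PresentedGroup.mk K.rels)] at h1 h2
  rw [dpE_eval, eE_eval] at h1 h2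
  rw [← h1, ← h2]
  have h3 : dp * ee z1 z = ee z1 z * dp := h
  show ((phi (dp * ee z1 z)) _).val = ((phi (ee z1 z * dp)) _).val
  rw [h3]

theorem keyB (α : MulAut K.Grp) (hx : α x = x) (hz : α z = z1) : False := by
  have hz' : α z = (gam 0)⁻¹ * z * ((gam 0)⁻¹)⁻¹ := by rw [hz, inv_inv, ← z1_eq]
  have hz1 : α z1 = z := by
    rcases alpha_z1 α hx _ hz' with h | h
    · exact h
    · exfalso
      apply z_ne_z1
      apply α.injective
      rw [hz, h]
  have e : α dp = (α gp * (gam 0)⁻¹) * z * (α gp * (gam 0)⁻¹)⁻¹ := by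
    rw [dp, map_mul, map_mul, map_inv, hz']
    group
  obtain ⟨i, j, l, h5⟩ := valid_of (α gp * (gam 0)⁻¹) (by rw [← e]; exact hk_alpha α hx)
    (by rw [← e, ← hz1, Helper47OutB.commute_map_iff]; exact nz1)
    (by rw [← e, ← hz, Helper47OutB.commute_map_iff]; exact nz)
  set c := x ^ i * z ^ j * z1 ^ l with hc
  let β : MulAut K.Grp := (MulAut.conj c)⁻¹ * α
  have bx : β x = x := by
    rw [conj_inv_apply, hx, mul_assoc, ← (cpow i j l).eq, inv_mul_cancel_left]
  have bz : β z = z1 := by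
    rw [conj_inv_apply, hz, mul_assoc, ← (cpow_z1 i j l).eq, inv_mul_cancel_left]
  have bz1 : β z1 = z := by
    rw [conj_inv_apply, hz1, mul_assoc, ← (cpow_z i j l).eq, inv_mul_cancel_left]
  have bd : β dp = dp := by
    rw [conj_inv_apply, e, h5]
    group
  have be : β (ee z z1) = ee z1 z := by
    simp only [ee, map_mul, map_inv, map_pow, bx, bz, bz1, bd]
  apply as2
  rw [← bd, ← be, Helper47OutB.commute_map_iff]
  exact as1

end Cfsg.Agent.Lib.Helper47Fi23OutB
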