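import Cfsg.Agent.Lib.Helper47Fi23OutB

set_option autoImplicit false
set_option maxRecDepth 100000

namespace Cfsg.Agent.Lib.Helper47Fi23OutC

open Cfsg.Agent.Lib.Helper35TC Cfsg.Agent.Lib.Helper35Fi23a
  Cfsg.Agent.Lib.Helper47IdxB Cfsg.Agent.Lib.Helper47OutA Cfsg.Agent.Lib.Helper47OutB
  Cfsg.Agent.Lib.Helper47Fi23Out Cfsg.Agent.Lib.Helper47Fi23OutB

theorem cent_x (t : K.Grp) (ht : t * x = x * t) : ∃ i j l : ℕ, t = x ^ i * z ^ j * z1 ^ l := by
  have hcx : (MulAut.conj t) x = x := by rw [MulAut.conj_apply, ht, mul_inv_cancel_right]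
  have h1 : Commute x (t * z * t⁻¹) := by
    have h2 : Commute ((MulAut.conj t) x) ((MulAut.conj t) z) :=
      (Helper47OutB.commute_map_iff (MulAut.conj t) x z).mpr x_z
    rw [hcx] at h2
    exact h2
  rcases trans_fix t h1 with h2 | h2
  · obtain ⟨i, j, l, hij⟩ := keyA (MulAut.conj t) hcx h2
    refine ⟨i, j, l, ?_⟩
    set c := x ^ i * z ^ j * z1 ^ l with hc
    have h3 : c⁻¹ * t ∈ Subgroup.center K.Grp := by
      rw [Subgroup.mem_center_iff]
      intro y
      have h4 := DFunLike.congr_fun hij y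
      rw [MulAut.conj_apply, MulAut.conj_apply] at h4
      calc y * (c⁻¹ * t) = c⁻¹ * (c * y * c⁻¹) * t := by group
        _ = c⁻¹ * (t * y * t⁻¹) * t := by rw [h4]
        _ = c⁻¹ * t * y := by group
    rw [center_bot, Subgroup.mem_bot] at h3
    exact (inv_mul_eq_one.mp h3).symm
  · exact (keyB (MulAut.conj t) hcx h2).elim

theorem z_pow_mod (j : ℕ) : z ^ j = z ^ (j % 2) := by
  conv_lhs => rw [← Nat.div_add_mod j 2, pow_add, pow_mul, pow_two, z_sq, one_pow, one_mul]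

theorem z1_pow_mod (j : ℕ) : z1 ^ j = z1 ^ (j % 2) := by
  conv_lhs => rw [← Nat.div_add_mod j 2, pow_add, pow_mul, pow_two, z1_sq, one_pow, one_mul]

theorem x_pow_mod (i : ℕ) : x ^ i = x ^ (i % 11) := by
  conv_lhs => rw [← Nat.div_add_mod i 11, pow_add, pow_mul, x_pow, one_pow, one_mul]

theorem card_cent : Nat.card (Subgroup.centralizer ({x} : Set K.Grp)) = 44 := by
  let f : Fin 11 × Fin 2 × Fin 2 → Subgroup.centralizer ({x} : Set K.Grp) := fun a =>
    ⟨x ^ a.1.val * z ^ a.2.1.val * z1 ^ a.2.2.val,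
      Subgroup.mem_centralizer_singleton_iff.mpr (cpow _ _ _).eq⟩
  have hf : Function.Bijective f := by
    constructor
    · intro a b hab
      apply chkInj
      rw [← vN_apply, ← vN_apply]
      have h1 : x ^ a.1.val * z ^ a.2.1.val * z1 ^ a.2.2.val =
          x ^ b.1.val * z ^ b.2.1.val * z1 ^ b.2.2.val := congrArg Subtype.val hab
      rw [h1]
    · rintro ⟨t, ht⟩
      obtain ⟨i, j, l, rfl⟩ := cent_x t (Subgroup.mem_centralizer_singleton_iff.mp ht)
      refine ⟨(⟨i % 11, Nat.mod_lt _ (by norm_num)⟩, ⟨j % 2, Nat.mod_lt _ (by norm_num)⟩,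
        ⟨l % 2, Nat.mod_lt _ (by norm_num)⟩), ?_⟩
      apply Subtype.ext
      show x ^ (i % 11) * z ^ (j % 2) * z1 ^ (l % 2) = _
      rw [← x_pow_mod, ← z_pow_mod, ← z1_pow_mod]
  rw [← Nat.card_congr (Equiv.ofBijective f hf)]
  simp

theorem conj_x (φ : MulAut K.Grp) : ∃ g : K.Grp, g * φ x * g⁻¹ = x := by
  have : Fact (Nat.Prime 11) := ⟨by norm_num⟩
  have hcard := Cfsg.Agent.Lib.Helper35Fi23Fin.card_eq
  have hidx : ¬ 11 ∣ (Subgroup.zpowers x).index := by
    have h1 := (Subgroup.zpowers x).index_mul_card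
    rw [Nat.card_zpowers, x_order, hcard] at h1
    have h2 : (Subgroup.zpowers x).index = 371770043026636800 := by omega
    rw [h2]
    norm_num
  apply conj_full 11 x x_order hidx
  apply card_range 11 x x_order hidx 44 (11 - 1) card_cent
  intro m k hm hk hk1
  rw [hcard] at hk
  have hm10 : m ≤ 10 := Nat.le_of_dvd (by norm_num) hm
  interval_cases m <;> omega

/-! `z * z1` is not the image of `z` -/

noncomputable def gw : K.Grp := PresentedGroup.mk K.rels gW.eval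

theorem prE_eval : PresentedGroup.mk K.rels prE.eval = (z * z1) * (gw * (z * z1) * gw⁻¹) := by
  simp only [prE, cj, WExp.eval, map_mul, map_inv]
  rfl

theorem pr2 : ((z * z1) * (gw * (z * z1) * gw⁻¹)) ^ 2 ≠ 1 := by
  intro h
  apply chkPr2
  have h1 := phi_apply (.pow prE 2) ⟨0, by norm_num⟩
  have e : PresentedGroup.mk K.rels (WExp.pow prE 2).eval =
      ((z * z1) * (gw * (z * z1) * gw⁻¹)) ^ 2 := by
    rw [← prE_eval]; exact map_pow _ _ _
  rw [e, h, map_one] at h1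
  exact h1.symm

theorem pr3 : ((z * z1) * (gw * (z * z1) * gw⁻¹)) ^ 3 ≠ 1 := by
  intro h
  apply chkPr3
  have h1 := phi_apply (.pow prE 3) ⟨4, by norm_num⟩
  have e : PresentedGroup.mk K.rels (WExp.pow prE 3).eval =
      ((z * z1) * (gw * (z * z1) * gw⁻¹)) ^ 3 := by
    rw [← prE_eval]; exact map_pow _ _ _
  rw [e, h, map_one] at h1
  exact h1.symm

theorem keyC (α : MulAut K.Grp) (hz : α z = z * z1) : False := by
  have htt := Cfsg.Agent.Lib.Helper33Fi23T.tt
  have hmem : ∀ g : K.Grp, g * z * g⁻¹ ∈ conjugatesOf Cfsg.Agent.Lib.Helper35Fi23Dc.z := by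
    intro g
    rw [Cfsg.Agent.Lib.Helper33TT.mem_conj_iff]
    refine ⟨g * gam 0, ?_⟩
    have h1 : Cfsg.Agent.Lib.Helper35Fi23Dc.z = (gam 0)⁻¹ * z * gam 0 := z1_eq
    rw [h1]
    group
  have h1 := htt.1.2 (1 * z * 1⁻¹) (hmem 1) (α⁻¹ gw * z * (α⁻¹ gw)⁻¹) (hmem _)
  have e : α (1 * z * 1⁻¹ * (α⁻¹ gw * z * (α⁻¹ gw)⁻¹)) = (z * z1) * (gw * (z * z1) * gw⁻¹) := by
    simp only [map_mul, map_inv, map_one, hz, one_mul, inv_one, mul_one]
    have h2 : α (α⁻¹ gw) = gw := α.apply_symm_apply gw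
    rw [h2]
  rcases h1 with h1 | h1
  · apply pr2
    rw [← e, ← map_pow, h1, map_one]
  · apply pr3
    rw [← e, ← map_pow, h1, map_one]

theorem inner_of_fix (α : MulAut K.Grp) (hx : α x = x) : α ∈ Cfsg.Inn K.Grp := by
  have h1 : α z * x = x * α z := by
    have := congrArg α x_z
    rw [map_mul, map_mul, hx] at this
    exact this.symm
  obtain ⟨i, j, l, hij⟩ := cent_x _ h1
  have h2 : α z * α z = 1 := by rw [← map_mul, z_sq, map_one]
  have hz2 : ∀ m, z ^ (2 * m) = 1 := fun m => by rw [pow_mul, pow_two, z_sq, one_pow]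
  have hz12 : ∀ m, z1 ^ (2 * m) = 1 := fun m => by rw [pow_mul, pow_two, z1_sq, one_pow]
  have cxz : Commute x z := x_z
  have cxz1 : Commute x z1 := x_z1
  have czz1 : Commute z z1 := z1_z.symm
  have h3 : x ^ (2 * i) = 1 := by
    have h4 : (x ^ i * z ^ j * z1 ^ l) ^ 2 = 1 := by rw [pow_two, ← hij, h2]
    have c1 : Commute (x ^ i * z ^ j) (z1 ^ l) :=
      (cxz1.pow_pow i l).mul_left (czz1.pow_pow j l)
    rw [c1.mul_pow, (cxz.pow_pow i j).mul_pow, ← pow_mul, ← pow_mul, ← pow_mul, mul_comm j 2,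
      mul_comm l 2, hz2, hz12, mul_one, mul_one, mul_comm i 2] at h4
    exact h4
  have h4 : 11 ∣ 2 * i := by rw [← x_order]; exact orderOf_dvd_of_pow_eq_one h3
  have h5 : 11 ∣ i := (Nat.Coprime.dvd_of_dvd_mul_left (by norm_num) h4)
  have h6 : x ^ i = 1 := by
    obtain ⟨r, rfl⟩ := h5
    rw [pow_mul, x_pow, one_pow]
  rw [h6, one_mul] at hij
  rcases Nat.even_or_odd' j with ⟨m, rfl | rfl⟩ <;> rcases Nat.even_or_odd' l with ⟨m', rfl | rfl⟩
  · exfalso
    rw [hz2, hz12, one_mul] at hij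
    exact z_ne (α.injective (by rw [hij, map_one]))
  · exfalso
    rw [hz2, pow_succ, hz12, one_mul, one_mul] at hij
    exact keyB α hx hij
  · rw [pow_succ, hz2, hz12, one_mul, mul_one] at hij
    obtain ⟨i', j', l', h⟩ := keyA α hx hij
    rw [h]
    exact inn_conj _
  · exfalso
    rw [pow_succ, hz2, pow_succ, hz12, one_mul, one_mul] at hij
    exact keyC α hij

theorem main : Nat.card (Cfsg.Out K.Grp) = 1 := out_one x conj_x inner_of_fix

end Cfsg.Agent.Lib.Helper47Fi23OutC
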