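import Cfsg.Agent.Lib.Helper47Fi23OutS

set_option autoImplicit false
set_option maxRecDepth 100000

/-! Further kernel checks for `Fi₂₃`. -/

namespace Cfsg.Agent.Lib.Helper47Fi23Out

open Cfsg.Agent.Lib.Helper35TC Cfsg.Agent.Lib.Helper35Fi23a
  Cfsg.Agent.Lib.Helper47IdxB Cfsg.Agent.Lib.Helper47OutA Cfsg.Agent.Lib.Helper47OutB

noncomputable def cE (u : ℕ) : WExp Gen := .mul (.mul (.inv (wdE u)) zE) (wdE u)

noncomputable def circN (u v : ℕ) : ℕ := P.walkA ((cE u).app K.code K.P.iv) v

noncomputable def run : List ℕ → List (ℕ × ℕ) → List ℕ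
  | kn, [] => kn
  | kn, s :: r => bif kn.contains s.1 && kn.contains s.2 then
      strict (circN s.1 s.2) fun w => run (w :: kn) r
      else run kn r

def steps : List (ℕ × ℕ) := [(0, 14031), (10455, 11370), (12358, 13256), (0, 13444), (13349, 10455), (18991, 21801), (7162, 5762), (11589, 13786), (2948, 14728), (11589, 13444), (14031, 15635), (4961, 3835), (11589, 14031), (13710, 13256), (11589, 10455), (29587, 5939), (12528, 22108), (31424, 31211), (11589, 5939), (13444, 7397), (4961, 6128), (0, 13786), (2948, 11051), (0, 29587), (10455, 30104), (13591, 11425), (0, 8909), (10455, 10986), (0, 5939), (11370, 4646), (15358, 13114), (11589, 11370), (12707, 18991), (0, 13349), (14031, 13557), (14971, 30896), (4863, 6134), (0, 10455), (14031, 7397), (16073, 9789), (2948, 2435), (13557, 13786), (12707, 7524), (15635, 22108), (9946, 11912)]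

noncomputable def base : List ℕ :=
  [11589, 0, vN 0 0 0, vN 1 0 0, vN 2 0 0, vN 3 0 0, vN 4 0 0, vN 5 0 0, vN 6 0 0, vN 7 0 0,
    vN 8 0 0, vN 9 0 0, vN 10 0 0]

def ptOf : Gen → ℕ
  | .a => 11589
  | .b => 8004
  | .c => 8003
  | .d => 8000
  | .e => 8001
  | .f => 8002
  | .g => 8005
  | .j => 8006
  | .h => 7999
  | .i => 8007

theorem chkRun : ∀ s : Gen, (run base steps).contains (ptOf s) = true := by
  intro s; cases s <;> decide +kernel

theorem chkGen : ∀ s : Gen,
    BD.fixChk K.P ((WExp.mul (.of s) (.inv (cE (ptOf s)))).app K.code K.P.iv) = true := by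
  intro s; cases s <;> decide +kernel

theorem chkZ1 : BD.fixChk K.P ((WExp.mul z1E (.inv (cE 0))).app K.code K.P.iv) = true := by
  decide +kernel

theorem chkInj : ∀ a b : Fin 11 × Fin 2 × Fin 2,
    vN a.1 a.2.1 a.2.2 = vN b.1 b.2.1 b.2.2 → a = b := by
  decide +kernel

/-! the asymmetry between `z` and `z1` -/

def cj (a b : WExp Gen) : WExp Gen := .mul (.mul a b) (.inv a)

noncomputable def dpE : WExp Gen := cj gpE zE

noncomputable def eE (u v : WExp Gen) : WExp Gen :=
  cj (cj u (cj xE dpE)) (cj v (cj (.inv (.pow xE 2)) dpE))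

theorem chkAs1 : BD.fixChk K.P ((WExp.mul (.mul dpE (eE zE z1E))
    (.inv (.mul (eE zE z1E) dpE))).app K.code K.P.iv) = true := by
  decide +kernel

theorem chkAs2 : P.walkA ((WExp.mul dpE (eE z1E zE)).app K.code K.P.iv) 17381 ≠
    P.walkA ((WExp.mul (eE z1E zE) dpE).app K.code K.P.iv) 17381 := by
  decide +kernel

/-! `z * z1` is not a 3-transposition -/

def gW : WExp Gen := (.mul (.mul (.mul (.mul (.mul (.mul (.mul (.mul (.mul (.mul (.mul (.mul (.mul (.mul (.of .h) (.of .d)) (.of .f)) (.of .b)) (.of .c)) (.of .g)) (.of .i)) (.of .f)) (.of .j)) (.of .a)) (.of .h)) (.of .e)) (.of .b)) (.of .c)) (.of .e))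

def prE : WExp Gen := .mul (.mul zE z1E) (cj gW (.mul zE z1E))

theorem chkPr2 : P.walkA ((WExp.pow prE 2).app K.code K.P.iv) 0 ≠ 0 := by
  decide +kernel

theorem chkPr3 : P.walkA ((WExp.pow prE 3).app K.code K.P.iv) 4 ≠ 4 := by
  decide +kernel

end Cfsg.Agent.Lib.Helper47Fi23Out
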