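import Cfsg.Agent.Lib.Helper47Fi23Out

set_option autoImplicit false
set_option maxRecDepth 100000

/-! The signature test for `Fi₂₃`. -/

namespace Cfsg.Agent.Lib.Helper47Fi23Out

open Cfsg.Agent.Lib.Helper35TC Cfsg.Agent.Lib.Helper35Fi23a
  Cfsg.Agent.Lib.Helper47IdxB Cfsg.Agent.Lib.Helper47OutA Cfsg.Agent.Lib.Helper47OutB

noncomputable def adjB (u v : ℕ) : Bool := strict (wk u v) fun t => Nat.beq (P.A t 0) t

def xI : ℕ → ℕ → ℕ
  | 0, j => j
  | k + 1, j => xT (xI k j)

noncomputable def sigL (q : ℕ) : List Bool :=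
  [adjB q (xI 1 q), adjB q (xI 3 q), adjB q (xI 4 q), adjB q (xI 5 q), adjB q (xI 2 q),
    adjB 11589 q, adjB 0 q]

noncomputable def gpE : WExp Gen := .inv (wdE 2948)

noncomputable def vE (i j l : ℕ) : WExp Gen :=
  .mul (.mul (.mul (.pow xE i) (.pow zE j)) (.pow z1E l)) gpE

noncomputable def vN (i j l : ℕ) : ℕ := P.walkA ((vE i j l).app K.code K.P.iv) 11589

noncomputable def validB (q : ℕ) : Bool :=
  anyB (fun i => Nat.beq q (vN i 0 0) || Nat.beq q (vN i 0 1) || Nat.beq q (vN i 1 0) ||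
    Nat.beq q (vN i 1 1)) 11

theorem chkSig : allD (fun q => Nat.ble 31671 q ||
    !(sigL q == [true, true, true, true, false, false, false]) || validB q) 15 0 = true := by
  decide +kernel

theorem sig_p : sigL (vN 0 0 0) = [true, true, true, true, false, false, false] := by
  decide +kernel

end Cfsg.Agent.Lib.Helper47Fi23Out
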