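import Cfsg.Agent.Lib.Helper35Fi22Fin
import Cfsg.Agent.Lib.Helper47FiSU
import Cfsg.Agent.Lib.Helper47Dc
import Cfsg.Prelude.Def_SporadicB

set_option autoImplicit false
set_option maxRecDepth 100000

/-! The subgroup `H` of index 3510 of the presented Fischer group `Fi₂₂` acts on its orbit of length
693 as `PSU₆(2)` on isotropic points; `H` is a non-split double cover of `PSU₆(2)`. -/

namespace Cfsg.Agent.Lib.Helper47FiMain

open Cfsg.Agent.Lib.Helper35TC Cfsg.Agent.Lib.Helper35Fi22a Cfsg.Agent.Lib.Helper47Idx2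
  Cfsg.Agent.Lib.Helper47IdxB Cfsg.Agent.Lib.Helper47FiSU Cfsg.Agent.Lib.Helper47Dc
  Cfsg.Agent.Lib.Helper18F4

def blkTab : ℕ := 0xffffffffffffffffffffffffffffffffffffffffffffffffffffffffffffffffffffffffffffffffffffffffffffffffffffffffffffffffffffffffffffffffffffffffffffffffffffffffffffffffffffffffffffffffffffffffffffffffffffffffffffffffffffffffffffffffffffffffffffffffffffffffffffffffffffffffffffffffd48513fffffffffffffffffffffffffffffffffffffffffffffffffffffffffffffffffffffffffffffffffffffffffffffffffffffffffffffffffffffffffffffffffffffffffffffffffffffffffffffffffffffffffffffffffffffffffffffffffffffffffffffffffffffffffffffffffffffffffffffffffffffffffffffffffffffffffffffffffffffffffffffff7ebffffdf6ffffffffffffffffffff74e6affffffffffffffffffffffffffffffffffffffffffffffffffffffffffffffffffffffffffffffffffffffffffffffffffffffffffffffffffffffffffffffffffab3fffffffffffffffffffffffffffffffffffffffffffffffffffffffffffffffffffffffffffffffffffffffffffffffffffffffffffffffffffffffff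fffffffffff757ffffcecffffffffffffffffffffffffffffffffffffffffffffffffffffffffffffffffffffffffffffffffffffffffffffffffffffffffffffffffffffffffffffffffffffffffffffad3ffffe8dffffffffffffffffffffffffffffff999eda7bffffffffffffffffffffffffffffffffffffffffffffffffffffffffffffffffffffffffffffffffffffffffffffffffffffffffffffffffffffffffffffffffffffffffffffffffffffffffffffffffffffffffffffffffffffffffffffffffffe1fffce8ffffffffffffffffffffffffffffffffffffffffffffffffffffffffffffffffffffffffffffffffffffffffffffffffffffffffffffffffffffffffffffffffffffffffffffffffffffffffdeffffff6dbff25cbcfffffffffffffffffffffffffffffffffffffffffffffffffffffffffffffffffffffffffffffffffffffffffffffffffffffffffffffffffffffffffffffffffffffffffffffffff40fffffe8fa9ffffffffffffffffffffffffffffffffffffffa694350bffffffffffffffffffffffffffffffffffffffffffffffffffffffffffffffffffffffffffffffffffffffffffffffffffffffffffffffffffffffffffffffffffffffffffffffffffffffffffffffffffffffffffffffffffffffffffffffffffffffffffff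e48fffff253ffffffffffffffffffffffffe21817ff2e3ffffffffffffffffffffffffffffffffffffffffffffffffffffffffffffffffffffffffffffffffffffffffffffffffffffffffffffffffffffffffffffffffffffffffffffffffffffffffffd6d50479fffff6e5e6ffc6b7e3ffffffffffffffffffffffffffffffffffffffffffffffffffffffffffffffffffffffffffffffffffffffffffffffffffffffffffffffff027fffffffffffffffffffd05307ffaa5fdfffffffffffffffffffffffffffffffffff66d46ffffffffffffffffffffffffffffffffffffffffffffffffffffffffffffffffffffffffffffffffffffffffffffffffffffffffffffffffffffffffffffffffffffffffffff49fffffc0cfffffffffffffffffffffffffffffffffffffffffffffffffffffffffffffffffffffffffffffffffffff91696ffc68ffffffffffffffffffffffe07acda57f3fffffffffd7dfffffffffffffffffffffffffffffffffffffffffffffffffffffffffffffffffffffffffffffffffffffffffffffffffffffffffffffffffffffffffffffffffffffffffffffffff7687c18fff7a4a906c5dffffffffffffffffffffffffffffffffffffffffffffffffffffffffffffffffffffffffffffffffffffffffff00ffffffffffffffffff30eaf88dfb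ffffffffffffffffffffffffffffffffe68ffffffffffffffffffffffffffffffffffffffffffffffffffffffffffffffffffffffffffffffffffffffffffffffffffffffffffffffffffffffffffffffffffffffffffffffffffffffffffffffffffffffffff4a939ffc0665ffffffffffffffffffffffffffffffffffffffffffffffffffffffffffffffffffffffffffffffffe9329c8b183ffffffffffffffffffffffa0a7dac4eaffffffffffffc2affd7f90c1dffffffffffffffffffffffffffffffffffffffffffffffffffffffffffffffffffffffffffffffffffffffffffffffffffffffffffffffffffffffffffffffffff7d06617e752987bffffffffffffffffffffffffffffffffffffffffffffffffffffffffffff1105efffffffffffffff8ca2dab688ffffffffffffffffffffffffffffffa73fffffffffffffffffffffffffffffffffffffffffffffffffffffffffffffffffffffffffffffffffffffffffffffffff96ffffffffffffffffffffffffffffffffffffffffffffffffffffffffffffd99237ffffffffffffffffffffffffffffffffffffffffff4f0a81245b6e3fffffffffffffffffffffffffffffffffffffffffffffffffffffffffffcf1858aa02bfffffffffffffffffffdae88a1a2ebffa47ffffffffffff098959de461e3fffff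ffffffffffffffffffffffffffffffffffffffffffffffffffffffc40ffffffffffffffffffffffffffffffffffffffff6c8741712c197fffffffffffffffffffffffffffffffffffffffce31dfffffffffffff8b10242aa2fffffffffffffffffffffffffffffffffffffffffffffffffffffffffffffffffffffffffff713ffffffffffffffffffffffffffffffffffffffffffffffffffffffffffffffffe5d6dc4bfffffffffffffffffffffffffffffffffffffffffffffffffffffff3d2126d40dfffffffffffffffffffffffffffffffffffffcdb788a5259e8ffffffffffffffffffffffffffffffffffffffff8dd894a004fffffffffffffff5b8e6822001a694ffffffffffffffffffff6bc702612918bfffffffffffffffffffffffffffffffffffffffce01ebfffffffffffffffffffd22fffffffd0f6340e4fbffffffffffffffffffffffffdc0a2861fffffffd9ca30c0323ffffffffffffffffffffffffffffffffffffffffffffffffffffffffffffffffffffffffffffffffffffffffffff70509723fffffffffffffffffffffffffffffffffffffffffffffff79ffffffffffffffffffffcde779ba24de5ffffffffffffffffffffffffffffffffffffffff8e98b4ac07ffffffffffffffffffffffe49876471abffffffffffffffffffffffffe6e5a5554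ebfffffffffcf3758b61b2141cbfffffffffffffffffffffffffff4318f02d3bfffffffffffffffffffffffff6f68e193ffffffffffff34bffffe0e5a959023ffffffffffffffe67a93ffffdb09b2a6fffffffffffffffffffffffffffffffffffffffffffffffffffffffffffffffffffffffffffffffffffffffffffffffffffffffffffcc7fffffffe50961075a3fffffffffffffffffffffffffffffffffffff7abffffffffffffffe7c10bffffffffffff9321b91067fffffffffffffffffffffffff9c56b55d3dfffffffffffffff8f8ed80e95fffffffffffffff374d053fffffcf08f1f09e08a249e0fffffffffffffffffffffffff0a3fffffffffe0b5995b017ffffffffffffffe65aa3fffffff2d3ffffdc232d50fffffffe27a6fff6cd0da83ffffffffffffffffffffffffffffffffffffffffffffffffffffffffffffffffffffffffffffffffffffffffffffffffffffffffffffffffffffffffffffffffffffffe30317ffffffffffff731906214efffffffffffffffffffffffff5e022ffffffffffffffffffffffc6e97a62fffffffffffffff904eb80692fffffffffffffff95ccc547fffffffa01d42f7fffffff36a4e2cbff8e6705f3fffffffffffffffffffc1e86048143ffffffffffffffd77ffffffffff94ccd533fffffff43a99fffff6ffff714e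12b7ffffe2568fff44209ffffffffffffffffffffffffffffffffffffffffffffffffffffffffffffffffffffffffffffffffffffffffffffffffffffffffffffffffffffffffffffffffffffffffffffffffffffffffffffffff8d3ff6d0e2fffffffffffffff4996457154fffffffffffffffffffffffff093ffffffffffff08d9164bffffffffffffffcd57703efffffffcef760bbfffffffe55728aefffffa11a97bbffffe4b903ff9b4850b19666bffffffffffffffffffffff0c446793fffffff9d889fffffffe5173caffffff42e0dffdbc44ce46efff684118309dfffffffffffffffffffffffffffffffffffffffffffffffffffffffffffffffffffffffffffffffffffffffffffffffffffffffffffffffffffffffffffffffffffffffffffffffffffffffffffffffffffffffffffffff6c4dfffffffffff1d65c71bffffffffffff364ce52bfffffff11fffffffffffffffc9f13180fffffffe1396419fffffffcd80be10fffff3ca387cbffffdce487ff69d75ffe3d26c8846a5a06bfffffff83ffffffff0b8d71dbffffe7a073ff609cd483ff828fd459be21c1326bfffffffffffffffffffffffffffffffffffffffffffffffffffffffffffffffffffffffffffffffffffffffffffffffffffffffffffffffffffffffffffffffffffffffffffffffffffff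fffffffffffffffffffffffffffffffffffc73981c30afffffffffffff77de3117fffffff3724a2c3ffffc410f5dbfffffffca23d48efffff844919cfffffc32463ff8ee6fffd1f5d1730589e1691720274fffff657ff4b4d4293ff081346152467500a608415056ffffffffffffffffffffffffffffffffffffffffffffffffffffffffffffffffffffffffffffffffffffffffffffffffffffffffffffffffffffffffffffffffffffffffffffffffffffffffffffffffffffffffffffffffffffffffffffff0a4d6784431c44a5effffffff7744f85fffffe4d8ffff0fe611b7ffffcf81fbff23d7affd1b6ae7245570048580f07d3ebff64d5d4c0a18a937aa90167df1990530d838fffffffffffffffffffffffffffffffffffffffffffffffffffffffffffffffffffffffffffffffffffffffffffffff04033fffffffffffffffffffffffffffffffffffffffffffffffffffffffffffffffffffffffffffffffffffffffcbf28c4e5e4d30c2151be7b233ffffc4d653ff908ff97c27ffc819fd7e611ad449f31543a050f78cd6031287682262de908da9f75da40d486063ffffffffffffffffffffffffffffffffffffffffffffffffffffffffffffffffffffffffffffffffff147fffffffffffffffffffffffffffffffffffffffffffffffffffffffffffffffffff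ffe3198ea1280f92402d47279087ff661363f0254ca81604b9a75d90dc838d60641a24a94e78a26b4449cfffffffffffffffffffffffffffffffffffffffffffffffffffffffffffffffffffc17fffffffffffffffffffffffffffffffffffffffffffffffffffffff8be2ba5cf620919a0c1f589337b12f80aa33a6694509930a208ba8b60cfbfffffffffffffffffffffffffffffffffffffffffffffffffffffffffc1548fffffffffffffffffffffffffffffffffffffffffff8a59e1fdaca155f2f9d231a1ca25863f9044b935fffffffffffffffffffffffffffffffffffffffffffff72525fffffffffffffffffffffffffffffffffff6896f6a1ff810ee5c9084c53857bffffffffffffffffffffffffffffffffffe5672cabffffffffffffffffffffffffffffff5c4b58661e69961ffffffffffffffffffffffffffffff949493253ffffffffffffffffffffffffff7ace59fa86fffffffffffffffffffffffff5615358d1e7d7fffffffffffffffffffdd16abfffffffffffffffffffd5263187742b0aaffffffffffffffffff5dbfffffffffffffffffffeb22b16c93e54ab852639fe62bffffffffffffffffffffffffffffffffffdf7558ca71df9568345954000967fffffffffffffffffffffffff5154d4754752c0103ccf15cd1fffffffffffffff2ccb11643b0e400ffffffffff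
def bN (j : ℕ) : ℕ := lookB 10 1023 blkTab j
def bl (j : Fin 3510) : Option (Fin 693) := if h : bN j < 693 then some ⟨bN j, h⟩ else none
def ex (tab v : ℕ) : ℕ := if v < 693 then lookB 10 1023 tab v else v
def rep : List ℕ := [4, 20, 37, 2389, 1786, 1379, 2292, 1614, 1537, 2637, 2009, 1563, 2548, 1826, 1728, 19, 545, 1016, 603, 858, 479, 270, 737, 340, 463, 908, 883, 2427, 869, 2232, 1220, 310, 723, 391, 1276, 1089, 1095, 386, 1989, 490, 1387, 637, 2236, 779, 1053, 394, 875, 903, 503, 1041, 746, 544, 40, 465, 585, 379, 584, 5, 480, 6, 601, 761, 1078, 619, 1960, 762, 1449, 634, 2149, 771, 1040, 923, 1218, 2039, 632, 1852, 915, 496, 506, 626, 1217, 429, 64, 586, 715, 481, 714, 17, 602, 7, 735, 2038, 1941, 2426, 2148, 2177, 2255, 1714, 1761, 2431, 1549, 1939, 2178, 1440, 2510, 1775, 1601, 2684, 1579, 617, 1266, 501, 1764, 633, 1577, 782, 1942, 937, 873, 1921, 1985, 2690, 1743, 2174, 2432, 600, 613, 249, 733, 488, 313, 378, 716, 1054, 464, 859, 886, 1034, 1400, 2256, 499, 2059,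 754, 611, 395, 750, 1399, 1635, 2769, 1988, 1807, 2937, 1763, 300, 857, 887, 368, 1014, 736, 916, 397, 594, 756, 507, 725, 1808, 2175, 2257, 2040, 2428, 2010, 174, 69, 1191, 1066, 1028, 765, 8, 1233, 9, 1367, 160, 1580, 471, 2755, 382, 1997, 1072, 2936, 1239, 245, 508, 1708, 2627, 299, 2381, 475, 1297, 243, 1480, 1707, 141, 44, 1363, 1246, 1204, 928, 18, 1408, 16, 1543, 504, 726, 1080, 636, 874, 904, 929, 1235, 1810, 767, 1409, 1638, 942, 1744, 1192, 1116, 1922, 1020, 128, 1778, 372, 3004, 303, 2242, 1256, 3160, 1418, 196, 1074, 1404, 2012, 899, 1582, 1829, 755, 314, 478, 614, 396, 599, 294, 387, 862, 239, 492, 718, 590, 1914, 2877, 238, 2628, 375, 1474, 194, 1668, 1913, 1025, 1565, 1354, 1199, 1730, 1185, 369, 483, 1021, 301, 605, 861, 734, 745, 312, 885, 608, 393, 23, 112, 740, 865, 893, 1734, 269, 720, 216, 1109, 2551, 1787, 1762, 2295, 1615, 1940, 727, 237, 306, 595, 193, 385, 308, 722, 236, 388, 592, 192, 2294, 1587, 1562, 2041, 1426, 1727, 140, 38, 2691, 2855, 2856, 3399,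 25, 2608, 22, 3400, 142, 927, 21, 1203, 24, 1288, 1407, 1362, 1245, 92, 114, 1106, 1588, 45, 1427, 115, 1538, 41, 1380, 1107, 596, 191, 246, 476, 156, 309, 113, 1108, 39, 1381, 36, 1473, 1589, 1539, 1428, 68, 2692, 1779, 200, 604, 161, 195, 738, 739, 890, 79, 1210, 1277, 505, 610, 631, 1229, 2492, 486, 2234, 914, 383, 867, 295, 485, 721, 240, 90, 1289, 1788, 61, 1616, 91, 1729, 63, 1564, 1290, 1088, 1087, 597, 495, 729, 1052, 2291, 389, 2060, 1051, 2609, 1710, 719, 250, 589, 473, 1017, 201, 1187, 466, 2498, 157, 891, 199, 1062, 101, 607, 248, 484, 2000, 1765, 1526, 943, 1943, 1355, 1117, 1827, 2939, 1853, 2037, 2687, 1636, 1019, 1022, 1551, 860, 1195, 1716, 1669, 1364, 780, 1881, 1193, 935, 43, 1667, 217, 1067, 175, 1291, 866, 894, 1029, 89, 102, 244, 3271, 1240, 3163, 1581, 467, 1073, 380, 2433, 760, 1079, 627, 1637, 773, 1398, 635, 1809, 772, 1039, 1634, 2686, 1647, 1806, 2429, 1457, 129, 307, 3086, 1061, 2942, 1402, 588, 897, 482, 2179, 111, 3280, 46, 2683, 42, 3283, 2378,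 2497, 2624, 62, 198, 1776, 1255, 305, 1417, 197, 2757, 376, 2500, 1777, 1184, 863, 1382, 1015, 1024, 1540, 879, 902, 751, 1828, 910, 1578, 502, 2011, 625, 1219, 159, 1998, 1442, 242, 1603, 158, 3006, 298, 2758, 1999, 2379, 374, 1188, 472, 1358, 371, 251, 593, 316, 1915, 2140, 297, 317, 1298, 400, 2141, 477, 1119, 377, 469, 1789, 898, 1231, 1617, 743, 1403, 888, 1419, 621, 1057, 1257, 493, 2233, 1441, 2513, 1986, 1602, 2772, 1604, 766, 1058, 1443, 622, 1234, 67, 1476, 1030, 143, 1205, 66, 1068, 176, 1247, 1475, 909, 884, 2085, 936, 1854, 1265, 491, 781, 618, 1264, 399, 587, 1372, 3087, 1530, 2364, 302, 3270, 370, 1525, 1055, 1590, 742, 1230, 1429, 606, 749, 732, 2176, 1035, 1987, 1401, 392, 870, 500, 1450, 2244, 127, 487, 1241, 384, 2245, 311, 1063, 247, 126, 474, 2138, 241, 1715, 296, 1709, 3100, 1550, 2874, 470, 1995, 1254, 2258, 1774, 1416, 2512, 315, 717, 1198, 2857, 1357, 2125, 381, 3085, 468, 1353, 398, 1912, 304, 1529, 373, 1524, 2873, 1371, 2625, 591, 87, 3217, 2139,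 65, 2380, 88, 2243, 70, 2499, 3103]

theorem rep_spec : ∀ i : Fin 693, rep.getD i 0 < 3510 ∧ bN (rep.getD i 0) = i := by decide +kernel

theorem bl_surj (i : Fin 693) : ∃ j : Fin 3510, bl j = some i := by
  obtain ⟨h1, h2⟩ := rep_spec i
  refine ⟨⟨rep.getD i 0, h1⟩, ?_⟩
  unfold bl
  rw [dif_pos (by show bN (rep.getD i 0) < 693; rw [h2]; exact i.2)]
  exact congrArg some (Fin.ext h2)

theorem mem_R_of (g : Equiv.Perm (Fin 3510)) (k : ℕ)
    (h : ∀ j : Fin 3510, bN (g j) = ex (tabs k) (bN j)) : (g, gens k) ∈ RR bl := by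
  intro j
  show bl (g j) = (bl j).map (gens k)
  have hj := h j
  unfold ex at hj
  unfold bl
  by_cases h1 : bN j < 693
  · rw [if_pos h1] at hj
    have h2 : bN (g j) = ((gens k ⟨bN j, h1⟩ : Fin 693) : ℕ) := by rw [hj, hg]
    rw [dif_pos h1, dif_pos (by rw [h2]; exact (gens k ⟨bN j, h1⟩).2)]
    exact congrArg some (Fin.ext h2)
  · rw [if_neg h1] at hj
    rw [dif_neg h1, dif_neg (by rw [hj]; exact h1)]
    rfl

noncomputable def phi : K.Grp →* Equiv.Perm (Fin 3510) := ok.phi

theorem phi_apply (e : WExp Cfsg.Spor.Fi22.Gen) (j : Fin 3510) :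
    ((phi (PresentedGroup.mk K.rels e.eval)) j).val = P.walkA (e.app K.code K.P.iv) j :=
  ok.phi_mk_apply e j

def e0 : WExp Cfsg.Spor.Fi22.Gen := (.of .a)
theorem chk0 : allD (fun j => Nat.ble 3510 j || Nat.beq (bN (P.walkA [0] j)) (ex (tabs 8) (bN j))) 12 0 = true := by
  decide +kernel
theorem memR0 : (phi (PresentedGroup.mk K.rels e0.eval), gens 8) ∈ RR bl := by
  apply mem_R_of
  intro j
  rw [phi_apply]
  have h := all_of_allD _ 12 3510 (by norm_num) chk0 j j.2
  rw [Bool.or_eq_true, Nat.ble_eq, Nat.beq_eq] at h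
  rcases h with h | h
  · exact absurd j.2 (by omega)
  · exact h
theorem memS0 : e0 ∈ K.subExps := by
  show e0 ∈ subExps
  simp [subExps, e0]
noncomputable def ha : K.H := ⟨PresentedGroup.mk K.rels e0.eval, ok.mem_H_of_sub memS0⟩
def e1 : WExp Cfsg.Spor.Fi22.Gen := (.of .c)
theorem chk1 : allD (fun j => Nat.ble 3510 j || Nat.beq (bN (P.walkA [2] j)) (ex (tabs 0) (bN j))) 12 0 = true := by
  decide +kernel
theorem memR1 : (phi (PresentedGroup.mk K.rels e1.eval), gens 0) ∈ RR bl := by
  apply mem_R_of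
  intro j
  rw [phi_apply]
  have h := all_of_allD _ 12 3510 (by norm_num) chk1 j j.2
  rw [Bool.or_eq_true, Nat.ble_eq, Nat.beq_eq] at h
  rcases h with h | h
  · exact absurd j.2 (by omega)
  · exact h
theorem memS1 : e1 ∈ K.subExps := by
  show e1 ∈ subExps
  simp [subExps, e1]
noncomputable def hc : K.H := ⟨PresentedGroup.mk K.rels e1.eval, ok.mem_H_of_sub memS1⟩
def e2 : WExp Cfsg.Spor.Fi22.Gen := (.of .d)
theorem chk2 : allD (fun j => Nat.ble 3510 j || Nat.beq (bN (P.walkA [3] j)) (ex (tabs 1) (bN j))) 12 0 = true := by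
  decide +kernel
theorem memR2 : (phi (PresentedGroup.mk K.rels e2.eval), gens 1) ∈ RR bl := by
  apply mem_R_of
  intro j
  rw [phi_apply]
  have h := all_of_allD _ 12 3510 (by norm_num) chk2 j j.2
  rw [Bool.or_eq_true, Nat.ble_eq, Nat.beq_eq] at h
  rcases h with h | h
  · exact absurd j.2 (by omega)
  · exact h
theorem memS2 : e2 ∈ K.subExps := by
  show e2 ∈ subExps
  simp [subExps, e2]
noncomputable def hd : K.H := ⟨PresentedGroup.mk K.rels e2.eval, ok.mem_H_of_sub memS2⟩
def e3 : WExp Cfsg.Spor.Fi22.Gen := (.of .e)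
theorem chk3 : allD (fun j => Nat.ble 3510 j || Nat.beq (bN (P.walkA [4] j)) (ex (tabs 2) (bN j))) 12 0 = true := by
  decide +kernel
theorem memR3 : (phi (PresentedGroup.mk K.rels e3.eval), gens 2) ∈ RR bl := by
  apply mem_R_of
  intro j
  rw [phi_apply]
  have h := all_of_allD _ 12 3510 (by norm_num) chk3 j j.2
  rw [Bool.or_eq_true, Nat.ble_eq, Nat.beq_eq] at h
  rcases h with h | h
  · exact absurd j.2 (by omega)
  · exact h
theorem memS3 : e3 ∈ K.subExps := by
  show e3 ∈ subExps
  simp [subExps, e3]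
noncomputable def he : K.H := ⟨PresentedGroup.mk K.rels e3.eval, ok.mem_H_of_sub memS3⟩
def e4 : WExp Cfsg.Spor.Fi22.Gen := (.of .f)
theorem chk4 : allD (fun j => Nat.ble 3510 j || Nat.beq (bN (P.walkA [5] j)) (ex (tabs 3) (bN j))) 12 0 = true := by
  decide +kernel
theorem memR4 : (phi (PresentedGroup.mk K.rels e4.eval), gens 3) ∈ RR bl := by
  apply mem_R_of
  intro j
  rw [phi_apply]
  have h := all_of_allD _ 12 3510 (by norm_num) chk4 j j.2
  rw [Bool.or_eq_true, Nat.ble_eq, Nat.beq_eq] at h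
  rcases h with h | h
  · exact absurd j.2 (by omega)
  · exact h
theorem memS4 : e4 ∈ K.subExps := by
  show e4 ∈ subExps
  simp [subExps, e4]
noncomputable def hf : K.H := ⟨PresentedGroup.mk K.rels e4.eval, ok.mem_H_of_sub memS4⟩
def e5 : WExp Cfsg.Spor.Fi22.Gen := (.of .g)
theorem chk5 : allD (fun j => Nat.ble 3510 j || Nat.beq (bN (P.walkA [6] j)) (ex (tabs 4) (bN j))) 12 0 = true := by
  decide +kernel
theorem memR5 : (phi (PresentedGroup.mk K.rels e5.eval), gens 4) ∈ RR bl := by
  apply mem_R_of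
  intro j
  rw [phi_apply]
  have h := all_of_allD _ 12 3510 (by norm_num) chk5 j j.2
  rw [Bool.or_eq_true, Nat.ble_eq, Nat.beq_eq] at h
  rcases h with h | h
  · exact absurd j.2 (by omega)
  · exact h
theorem memS5 : e5 ∈ K.subExps := by
  show e5 ∈ subExps
  simp [subExps, e5]
noncomputable def hg : K.H := ⟨PresentedGroup.mk K.rels e5.eval, ok.mem_H_of_sub memS5⟩
def e6 : WExp Cfsg.Spor.Fi22.Gen := (.of .h)
theorem chk6 : allD (fun j => Nat.ble 3510 j || Nat.beq (bN (P.walkA [7] j)) (ex (tabs 5) (bN j))) 12 0 = true := by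
  decide +kernel
theorem memR6 : (phi (PresentedGroup.mk K.rels e6.eval), gens 5) ∈ RR bl := by
  apply mem_R_of
  intro j
  rw [phi_apply]
  have h := all_of_allD _ 12 3510 (by norm_num) chk6 j j.2
  rw [Bool.or_eq_true, Nat.ble_eq, Nat.beq_eq] at h
  rcases h with h | h
  · exact absurd j.2 (by omega)
  · exact h
theorem memS6 : e6 ∈ K.subExps := by
  show e6 ∈ subExps
  simp [subExps, e6]
noncomputable def hh : K.H := ⟨PresentedGroup.mk K.rels e6.eval, ok.mem_H_of_sub memS6⟩
def e7 : WExp Cfsg.Spor.Fi22.Gen := (.of .i)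
theorem chk7 : allD (fun j => Nat.ble 3510 j || Nat.beq (bN (P.walkA [8] j)) (ex (tabs 6) (bN j))) 12 0 = true := by
  decide +kernel
theorem memR7 : (phi (PresentedGroup.mk K.rels e7.eval), gens 6) ∈ RR bl := by
  apply mem_R_of
  intro j
  rw [phi_apply]
  have h := all_of_allD _ 12 3510 (by norm_num) chk7 j j.2
  rw [Bool.or_eq_true, Nat.ble_eq, Nat.beq_eq] at h
  rcases h with h | h
  · exact absurd j.2 (by omega)
  · exact h
theorem memS7 : e7 ∈ K.subExps := by
  show e7 ∈ subExps
  simp [subExps, e7]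
noncomputable def hi : K.H := ⟨PresentedGroup.mk K.rels e7.eval, ok.mem_H_of_sub memS7⟩
def e8 : WExp Cfsg.Spor.Fi22.Gen := (.pow (.mul (.mul (.mul (.mul (.mul (.of .a) (.of .b)) (.of .c)) (.of .d)) (.of .e)) (.of .h)) 5)
theorem chk8 : allD (fun j => Nat.ble 3510 j || Nat.beq (bN (P.walkA [7, 4, 3, 2, 1, 0, 7, 4, 3, 2, 1, 0, 7, 4, 3, 2, 1, 0, 7, 4, 3, 2, 1, 0, 7, 4, 3, 2, 1, 0] j)) (ex (tabs 7) (bN j))) 12 0 = true := by
  decide +kernel
theorem memR8 : (phi (PresentedGroup.mk K.rels e8.eval), gens 7) ∈ RR bl := by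
  apply mem_R_of
  intro j
  rw [phi_apply]
  have h := all_of_allD _ 12 3510 (by norm_num) chk8 j j.2
  rw [Bool.or_eq_true, Nat.ble_eq, Nat.beq_eq] at h
  rcases h with h | h
  · exact absurd j.2 (by omega)
  · exact h
theorem memS8 : e8 ∈ K.subExps := by
  show e8 ∈ subExps
  simp [subExps, e8]
noncomputable def hx : K.H := ⟨PresentedGroup.mk K.rels e8.eval, ok.mem_H_of_sub memS8⟩

theorem ex_pi : ∀ g ∈ K.H, ∃ π, (phi g, π) ∈ RR bl := by
  let M : Subgroup K.Grp := ((RR bl).map (MonoidHom.fst _ _)).comap phi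
  have hle : K.H ≤ M := by
    apply ok.H_le M
    intro e he
    have he' : e ∈ subExps := he
    simp only [subExps, List.mem_cons, List.not_mem_nil, or_false] at he'
    rcases he' with rfl | rfl | rfl | rfl | rfl | rfl | rfl | rfl | rfl
    · exact ⟨(phi (PresentedGroup.mk K.rels e0.eval), gens 8), memR0, rfl⟩
    · exact ⟨(phi (PresentedGroup.mk K.rels e1.eval), gens 0), memR1, rfl⟩
    · exact ⟨(phi (PresentedGroup.mk K.rels e2.eval), gens 1), memR2, rfl⟩
    · exact ⟨(phi (PresentedGroup.mk K.rels e3.eval), gens 2), memR3, rfl⟩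
    · exact ⟨(phi (PresentedGroup.mk K.rels e4.eval), gens 3), memR4, rfl⟩
    · exact ⟨(phi (PresentedGroup.mk K.rels e5.eval), gens 4), memR5, rfl⟩
    · exact ⟨(phi (PresentedGroup.mk K.rels e6.eval), gens 5), memR6, rfl⟩
    · exact ⟨(phi (PresentedGroup.mk K.rels e7.eval), gens 6), memR7, rfl⟩
    · exact ⟨(phi (PresentedGroup.mk K.rels e8.eval), gens 7), memR8, rfl⟩
  intro g hgH
  obtain ⟨⟨x, π⟩, h1, h3⟩ := hle hgH
  have h3' : x = phi g := h3
  subst h3'
  exact ⟨π, h1⟩

theorem rel_cd : (hc * hd) ^ 3 = 1 := by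
  apply Subtype.ext
  have h := Cfsg.Agent.Lib.Helper35Fi22Fin.word_eq_one (.pow (.mul e1 e2) 3) (by decide +kernel)
  simp only [WExp.eval, map_pow, map_mul] at h
  exact h
theorem rel_de : (hd * he) ^ 3 = 1 := by
  apply Subtype.ext
  have h := Cfsg.Agent.Lib.Helper35Fi22Fin.word_eq_one (.pow (.mul e2 e3) 3) (by decide +kernel)
  simp only [WExp.eval, map_pow, map_mul] at h
  exact h
theorem rel_ef : (he * hf) ^ 3 = 1 := by
  apply Subtype.ext
  have h := Cfsg.Agent.Lib.Helper35Fi22Fin.word_eq_one (.pow (.mul e3 e4) 3) (by decide +kernel)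
  simp only [WExp.eval, map_pow, map_mul] at h
  exact h
theorem rel_dh : (hd * hh) ^ 3 = 1 := by
  apply Subtype.ext
  have h := Cfsg.Agent.Lib.Helper35Fi22Fin.word_eq_one (.pow (.mul e2 e6) 3) (by decide +kernel)
  simp only [WExp.eval, map_pow, map_mul] at h
  exact h
theorem rel_xf : (hx * hf) ^ 3 = 1 := by
  apply Subtype.ext
  have h := Cfsg.Agent.Lib.Helper35Fi22Fin.word_eq_one (.pow (.mul e8 e4) 3) (by decide +kernel)
  simp only [WExp.eval, map_pow, map_mul] at h
  exact h

theorem rel_a : (hh * hx * hd * hc * he * hf) ^ 5 * ha = 1 := by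
  apply Subtype.ext
  have h := Cfsg.Agent.Lib.Helper35Fi22Fin.word_eq_one
    (.mul (.pow (.mul (.mul (.mul (.mul (.mul e6 e8) e2) e1) e3) e4) 5) e0) (by decide +kernel)
  simp only [WExp.eval, map_pow, map_mul] at h
  exact h

theorem ha_ne : ha ≠ 1 := by
  intro h
  have h1 : phi ha.1 = 1 := by rw [h]; exact map_one phi
  have h2 := phi_apply e0 ⟨1, by norm_num⟩
  rw [show PresentedGroup.mk K.rels e0.eval = ha.1 from rfl, h1] at h2
  revert h2
  decide +kernel

theorem main : Cfsg.IsNonsplitDoubleCover K.H (Cfsg.PSU 6 F4c 2) := by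
  obtain ⟨ρ, hρ⟩ := exists_rho bl_surj phi K.H ex_pi
  have hH := Cfsg.Agent.Lib.Helper35Fi22Fin.card_H
  have : Finite K.H := Nat.finite_of_card_ne_zero (by rw [hH]; norm_num)
  have hle : Hb ≤ ρ.range := by
    rw [Hb, Subgroup.closure_le]
    rintro _ ⟨k, rfl⟩
    match k with
    | 0 => exact ⟨hc, RR_uniq bl_surj (hρ _) memR1⟩
    | 1 => exact ⟨hd, RR_uniq bl_surj (hρ _) memR2⟩
    | 2 => exact ⟨he, RR_uniq bl_surj (hρ _) memR3⟩
    | 3 => exact ⟨hf, RR_uniq bl_surj (hρ _) memR4⟩
    | 4 => exact ⟨hg, RR_uniq bl_surj (hρ _) memR5⟩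
    | 5 => exact ⟨hh, RR_uniq bl_surj (hρ _) memR6⟩
    | 6 => exact ⟨hi, RR_uniq bl_surj (hρ _) memR7⟩
    | 7 => exact ⟨hx, RR_uniq bl_surj (hρ _) memR8⟩
    | _ + 8 => exact ρ.range.one_mem
  have hge : ρ.range ≤ Hb := by
    rintro _ ⟨⟨g, hgH⟩, rfl⟩
    let M : Subgroup K.Grp :=
      ((RR bl ⊓ (⊤ : Subgroup (Equiv.Perm (Fin 3510))).prod Hb).map (MonoidHom.fst _ _)).comap phi
    have hM : K.H ≤ M := by
      apply ok.H_le M
      intro e he
      have he' : e ∈ subExps := he
      simp only [subExps, List.mem_cons, List.not_mem_nil, or_false] at he'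
      rcases he' with rfl | rfl | rfl | rfl | rfl | rfl | rfl | rfl | rfl
      · exact ⟨(phi (PresentedGroup.mk K.rels e0.eval), gens 8), ⟨memR0, ⟨Subgroup.mem_top _, Subgroup.subset_closure ⟨8, rfl⟩⟩⟩, rfl⟩
      · exact ⟨(phi (PresentedGroup.mk K.rels e1.eval), gens 0), ⟨memR1, ⟨Subgroup.mem_top _, Subgroup.subset_closure ⟨0, rfl⟩⟩⟩, rfl⟩
      · exact ⟨(phi (PresentedGroup.mk K.rels e2.eval), gens 1), ⟨memR2, ⟨Subgroup.mem_top _, Subgroup.subset_closure ⟨1, rfl⟩⟩⟩, rfl⟩
      · exact ⟨(phi (PresentedGroup.mk K.rels e3.eval), gens 2), ⟨memR3, ⟨Subgroup.mem_top _, Subgroup.subset_closure ⟨2, rfl⟩⟩⟩, rfl⟩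
      · exact ⟨(phi (PresentedGroup.mk K.rels e4.eval), gens 3), ⟨memR4, ⟨Subgroup.mem_top _, Subgroup.subset_closure ⟨3, rfl⟩⟩⟩, rfl⟩
      · exact ⟨(phi (PresentedGroup.mk K.rels e5.eval), gens 4), ⟨memR5, ⟨Subgroup.mem_top _, Subgroup.subset_closure ⟨4, rfl⟩⟩⟩, rfl⟩
      · exact ⟨(phi (PresentedGroup.mk K.rels e6.eval), gens 5), ⟨memR6, ⟨Subgroup.mem_top _, Subgroup.subset_closure ⟨5, rfl⟩⟩⟩, rfl⟩
      · exact ⟨(phi (PresentedGroup.mk K.rels e7.eval), gens 6), ⟨memR7, ⟨Subgroup.mem_top _, Subgroup.subset_closure ⟨6, rfl⟩⟩⟩, rfl⟩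
      · exact ⟨(phi (PresentedGroup.mk K.rels e8.eval), gens 7), ⟨memR8, ⟨Subgroup.mem_top _, Subgroup.subset_closure ⟨7, rfl⟩⟩⟩, rfl⟩
    obtain ⟨⟨x, π⟩, ⟨h1, h2⟩, h3⟩ := hM hgH
    have h3' : x = phi g := h3
    subst h3'
    rw [RR_uniq bl_surj (hρ ⟨g, hgH⟩) h1]
    exact h2.2
  have hrange : ρ.range = Hb := le_antisymm hge hle
  obtain ⟨c1, c2, c3⟩ := double_cover 9196830720 (by norm_num) hH card_PSU ρ al al_injective
    (hrange ▸ Hb_le) (hrange ▸ card_Hb)
    (fun c _ hc => cent_trivial c (fun g hg => hc g (hrange ▸ hg)))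
  refine ⟨c1, c2, ?_⟩
  intro L hL
  have hidx : L.index = 2 := index_of_complement c1 hL
  have haZ : ha ∈ Subgroup.center K.H := by
    rw [c3, MonoidHom.mem_ker]
    exact RR_uniq bl_surj (hρ _) memR0
  have haL : ha ∉ L := by
    intro h
    exact ha_ne (Subgroup.disjoint_def.mp hL.disjoint haZ h)
  have p1 := mem_iff_of_pow3 hidx _ _ rel_cd
  have p2 := mem_iff_of_pow3 hidx _ _ rel_de
  have p3 := mem_iff_of_pow3 hidx _ _ rel_ef
  have p4 := mem_iff_of_pow3 hidx _ _ rel_dh
  have p5 := mem_iff_of_pow3 hidx _ _ rel_xf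
  have p6 : (hh * hx * hd * hc * he * hf) ^ 5 * ha ∈ L := by rw [rel_a]; exact L.one_mem
  rw [Subgroup.mul_mem_iff_of_index_two hidx, pow5_mem_iff hidx,
    Subgroup.mul_mem_iff_of_index_two hidx, Subgroup.mul_mem_iff_of_index_two hidx,
    Subgroup.mul_mem_iff_of_index_two hidx, Subgroup.mul_mem_iff_of_index_two hidx,
    Subgroup.mul_mem_iff_of_index_two hidx] at p6
  tauto

end Cfsg.Agent.Lib.Helper47FiMain
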