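import Cfsg.Agent.Lib.Helper17PCTab

set_option autoImplicit false
set_option maxRecDepth 1000000
set_option maxHeartbeats 0

namespace Cfsg.Agent.Lib.Helper47G23P3C

open Cfsg Cfsg.Agent.Lib.Helper63PCDefs Cfsg.Agent.Lib.Helper63PCTabDefs 

def sp0 : List (ℕ × List ℕ × List ℕ) := [(0, [1, 1], [1, 0]),
    (0, [1], [0, 0, 0]),
    (0, [2], [1, 0]),
    (0, [3], [1, 0]),
    (0, [4], [1, 0]),
    (0, [5], [1, 0]),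
    (0, [2, 2], [2, 0]),
    (0, [3], [2, 0])]

def rv0 : List (List ℤ) := [[.ofNat 0, .negSucc 2, .ofNat 0, .ofNat 0, .ofNat 0, .ofNat 0, .ofNat 0, .ofNat 0, .negSucc 2, .ofNat 0, .negSucc 2, .negSucc 1, .ofNat 0, .ofNat 0, .negSucc 0, .ofNat 0, .negSucc 2, .negSucc 3, .ofNat 0, .ofNat 0, .ofNat 0, .ofNat 0, .ofNat 0, .ofNat 0, .ofNat 0, .ofNat 0, .ofNat 0, .ofNat 0, .negSucc 1, .negSucc 8, .ofNat 0, .ofNat 0, .ofNat 0, .ofNat 0, .ofNat 0, .negSucc 2, .ofNat 0, .ofNat 0, .ofNat 0, .ofNat 0, .ofNat 0, .ofNat 0, .ofNat 0, .ofNat 0, .ofNat 0, .ofNat 0, .ofNat 0, .ofNat 0],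
    [.ofNat 0, .ofNat 3, .ofNat 3, .ofNat 0, .ofNat 2, .ofNat 2, .ofNat 0, .ofNat 0, .ofNat 0, .ofNat 0, .ofNat 0, .ofNat 0, .ofNat 0, .ofNat 0, .ofNat 1, .ofNat 0, .ofNat 5, .ofNat 2, .ofNat 0, .ofNat 0, .ofNat 0, .ofNat 0, .ofNat 0, .ofNat 0, .ofNat 0, .ofNat 0, .ofNat 0, .ofNat 0, .ofNat 4, .ofNat 4, .ofNat 0, .ofNat 0, .ofNat 0, .ofNat 0, .ofNat 0, .ofNat 3, .ofNat 0, .ofNat 0, .ofNat 0, .ofNat 0, .ofNat 0, .ofNat 0, .ofNat 0, .ofNat 0, .ofNat 0, .ofNat 0, .ofNat 0, .ofNat 0],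
    [.ofNat 0, .ofNat 0, .ofNat 0, .ofNat 0, .ofNat 0, .ofNat 2, .ofNat 0, .ofNat 0, .ofNat 0, .ofNat 0, .negSucc 1, .negSucc 1, .ofNat 0, .ofNat 0, .ofNat 0, .ofNat 0, .ofNat 0, .ofNat 0, .ofNat 0, .ofNat 0, .ofNat 0, .ofNat 0, .ofNat 0, .ofNat 0, .ofNat 0, .ofNat 0, .ofNat 0, .ofNat 0, .ofNat 0, .negSucc 3, .ofNat 0, .ofNat 0, .ofNat 0, .ofNat 0, .ofNat 0, .ofNat 0, .ofNat 0, .ofNat 0, .ofNat 0, .ofNat 0, .ofNat 0, .ofNat 0, .ofNat 0, .ofNat 0, .ofNat 0, .ofNat 0, .ofNat 0, .ofNat 0],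
    [.ofNat 0, .ofNat 0, .ofNat 0, .ofNat 0, .ofNat 0, .ofNat 1, .ofNat 0, .ofNat 0, .ofNat 0, .ofNat 0, .ofNat 0, .ofNat 0, .ofNat 0, .ofNat 0, .ofNat 0, .negSucc 0, .ofNat 0, .negSucc 0, .ofNat 0, .ofNat 0, .ofNat 0, .ofNat 0, .ofNat 2, .ofNat 1, .ofNat 0, .ofNat 0, .ofNat 0, .ofNat 0, .ofNat 0, .negSucc 1, .ofNat 0, .ofNat 0, .ofNat 0, .ofNat 0, .ofNat 0, .ofNat 0, .ofNat 0, .ofNat 0, .ofNat 0, .ofNat 0, .ofNat 0, .ofNat 0, .ofNat 0, .ofNat 0, .ofNat 0, .ofNat 0, .ofNat 0, .ofNat 0],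
    [.ofNat 0, .ofNat 0, .ofNat 0, .ofNat 0, .ofNat 0, .ofNat 0, .ofNat 0, .ofNat 0, .ofNat 0, .ofNat 0, .ofNat 0, .ofNat 0, .ofNat 0, .ofNat 0, .ofNat 0, .ofNat 0, .negSucc 0, .ofNat 0, .ofNat 0, .ofNat 0, .ofNat 0, .ofNat 0, .ofNat 0, .ofNat 0, .ofNat 0, .ofNat 0, .ofNat 0, .ofNat 0, .ofNat 0, .ofNat 1, .ofNat 0, .ofNat 0, .ofNat 0, .ofNat 0, .ofNat 0, .ofNat 0, .ofNat 0, .ofNat 0, .ofNat 0, .ofNat 0, .ofNat 0, .ofNat 0, .ofNat 0, .ofNat 0, .ofNat 0, .ofNat 0, .ofNat 0, .ofNat 0],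
    [.ofNat 0, .ofNat 0, .ofNat 0, .ofNat 0, .ofNat 0, .ofNat 0, .ofNat 0, .ofNat 0, .ofNat 0, .ofNat 0, .ofNat 0, .ofNat 0, .ofNat 0, .ofNat 0, .ofNat 0, .ofNat 0, .ofNat 0, .negSucc 0, .ofNat 0, .ofNat 0, .ofNat 0, .ofNat 0, .ofNat 0, .ofNat 0, .ofNat 0, .ofNat 0, .ofNat 0, .ofNat 0, .ofNat 0, .negSucc 1, .ofNat 0, .ofNat 0, .ofNat 0, .ofNat 0, .ofNat 0, .ofNat 0, .ofNat 0, .ofNat 0, .ofNat 0, .ofNat 0, .ofNat 0, .ofNat 0, .ofNat 0, .ofNat 0, .ofNat 0, .ofNat 0, .ofNat 0, .ofNat 0],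
    [.ofNat 0, .ofNat 0, .negSucc 2, .ofNat 0, .ofNat 0, .ofNat 0, .ofNat 0, .ofNat 0, .ofNat 0, .ofNat 0, .ofNat 0, .ofNat 0, .ofNat 0, .ofNat 0, .ofNat 0, .ofNat 0, .negSucc 2, .negSucc 2, .ofNat 0, .ofNat 0, .ofNat 0, .ofNat 0, .ofNat 0, .ofNat 0, .ofNat 0, .ofNat 0, .ofNat 0, .ofNat 0, .negSucc 1, .negSucc 5, .ofNat 0, .ofNat 0, .ofNat 0, .ofNat 0, .ofNat 0, .negSucc 1, .ofNat 0, .ofNat 0, .ofNat 0, .ofNat 0, .ofNat 0, .ofNat 0, .ofNat 0, .ofNat 0, .ofNat 0, .ofNat 0, .ofNat 0, .ofNat 0],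
    [.ofNat 0, .ofNat 0, .ofNat 0, .ofNat 0, .ofNat 0, .ofNat 0, .ofNat 0, .ofNat 0, .ofNat 0, .ofNat 0, .ofNat 0, .ofNat 0, .ofNat 0, .ofNat 0, .ofNat 0, .ofNat 0, .ofNat 0, .ofNat 0, .ofNat 0, .ofNat 0, .ofNat 0, .ofNat 0, .ofNat 2, .ofNat 2, .ofNat 0, .ofNat 0, .ofNat 0, .ofNat 0, .ofNat 0, .ofNat 0, .ofNat 0, .ofNat 0, .ofNat 0, .ofNat 0, .ofNat 0, .ofNat 0, .ofNat 0, .ofNat 0, .ofNat 0, .ofNat 0, .ofNat 0, .ofNat 0, .ofNat 0, .ofNat 0, .ofNat 0, .ofNat 0, .ofNat 0, .ofNat 0]]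

def sp1 : List (ℕ × List ℕ × List ℕ) := [(0, [4], [2, 0]),
    (0, [4, 4], [4, 0]),
    (0, [2, 2], [2, 1]),
    (0, [3], [2, 1]),
    (1, [1, 1, 1], []),
    (1, [0, 0, 0], []),
    (1, [1, 0, 5, 5, 4, 4, 4, 4, 2, 2, 1, 1, 0, 0], []),
    (1, [2, 0, 5, 5, 5, 5, 4, 4, 4, 4, 2, 2, 0, 0], [])]

def rv1 : List (List ℤ) := [[.ofNat 0, .ofNat 0, .ofNat 0, .ofNat 0, .ofNat 0, .ofNat 0, .ofNat 0, .ofNat 0, .ofNat 0, .ofNat 0, .ofNat 0, .ofNat 0, .ofNat 0, .ofNat 0, .ofNat 0, .ofNat 0, .ofNat 0, .ofNat 0, .ofNat 0, .ofNat 0, .ofNat 0, .ofNat 0, .ofNat 0, .ofNat 0, .ofNat 0, .ofNat 0, .ofNat 0, .ofNat 0, .ofNat 0, .ofNat 2, .ofNat 0, .ofNat 0, .ofNat 0, .ofNat 0, .ofNat 0, .ofNat 0, .ofNat 0, .ofNat 0, .ofNat 0, .ofNat 0, .ofNat 0, .ofNat 0, .ofNat 0, .ofNat 0, .ofNat 0, .ofNat 0, .ofNat 0, .ofNat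 0],
    [.ofNat 0, .ofNat 0, .ofNat 0, .ofNat 0, .negSucc 2, .ofNat 0, .ofNat 0, .ofNat 0, .ofNat 0, .ofNat 0, .ofNat 0, .ofNat 0, .ofNat 0, .ofNat 0, .ofNat 0, .ofNat 0, .ofNat 0, .ofNat 0, .ofNat 0, .ofNat 0, .ofNat 0, .ofNat 0, .ofNat 0, .ofNat 0, .ofNat 0, .ofNat 0, .ofNat 0, .ofNat 0, .ofNat 0, .ofNat 0, .ofNat 0, .ofNat 0, .ofNat 0, .ofNat 0, .ofNat 0, .ofNat 0, .ofNat 0, .ofNat 0, .ofNat 0, .ofNat 0, .ofNat 0, .ofNat 0, .ofNat 0, .ofNat 0, .ofNat 0, .ofNat 0, .ofNat 0, .ofNat 0],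
    [.ofNat 0, .ofNat 0, .ofNat 0, .ofNat 0, .ofNat 0, .ofNat 0, .ofNat 0, .ofNat 0, .negSucc 2, .ofNat 0, .ofNat 0, .ofNat 0, .ofNat 0, .ofNat 0, .ofNat 0, .ofNat 0, .ofNat 0, .negSucc 2, .ofNat 0, .ofNat 0, .ofNat 0, .ofNat 0, .ofNat 0, .ofNat 0, .ofNat 0, .ofNat 0, .ofNat 0, .ofNat 0, .ofNat 0, .ofNat 0, .ofNat 0, .ofNat 0, .ofNat 0, .ofNat 0, .ofNat 0, .negSucc 1, .ofNat 0, .ofNat 0, .ofNat 0, .ofNat 0, .ofNat 0, .ofNat 0, .ofNat 0, .ofNat 0, .ofNat 0, .ofNat 0, .ofNat 0, .ofNat 0],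
    [.ofNat 0, .ofNat 0, .ofNat 0, .ofNat 0, .ofNat 0, .ofNat 0, .ofNat 0, .ofNat 0, .ofNat 0, .ofNat 0, .ofNat 0, .ofNat 0, .ofNat 0, .ofNat 0, .ofNat 0, .ofNat 0, .ofNat 0, .negSucc 0, .ofNat 0, .ofNat 0, .ofNat 0, .ofNat 0, .ofNat 0, .ofNat 2, .ofNat 0, .ofNat 0, .ofNat 0, .ofNat 0, .ofNat 0, .ofNat 0, .ofNat 0, .ofNat 0, .ofNat 0, .ofNat 0, .ofNat 0, .ofNat 0, .ofNat 0, .ofNat 0, .ofNat 0, .ofNat 0, .ofNat 0, .ofNat 0, .ofNat 0, .ofNat 0, .ofNat 0, .ofNat 0, .ofNat 0, .ofNat 0],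
    [.ofNat 0, .ofNat 0, .ofNat 0, .ofNat 0, .ofNat 0, .ofNat 0, .ofNat 0, .negSucc 0, .ofNat 0, .ofNat 0, .ofNat 0, .negSucc 5, .ofNat 0, .ofNat 0, .ofNat 0, .ofNat 0, .ofNat 0, .ofNat 0, .ofNat 0, .ofNat 0, .ofNat 0, .ofNat 0, .ofNat 0, .ofNat 0, .ofNat 0, .ofNat 0, .ofNat 0, .ofNat 0, .ofNat 0, .ofNat 0, .ofNat 0, .ofNat 0, .ofNat 0, .ofNat 0, .ofNat 0, .negSucc 1, .ofNat 0, .negSucc 2, .ofNat 0, .ofNat 0, .ofNat 0, .ofNat 0, .ofNat 0, .ofNat 0, .ofNat 0, .ofNat 0, .ofNat 0, .ofNat 0],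
    [.negSucc 0, .ofNat 0, .ofNat 0, .ofNat 0, .negSucc 5, .negSucc 5, .ofNat 0, .ofNat 0, .ofNat 0, .ofNat 0, .ofNat 0, .ofNat 0, .ofNat 0, .ofNat 0, .ofNat 0, .ofNat 0, .ofNat 0, .ofNat 0, .ofNat 0, .ofNat 0, .ofNat 0, .ofNat 0, .ofNat 0, .ofNat 0, .ofNat 0, .ofNat 0, .ofNat 0, .ofNat 0, .negSucc 0, .negSucc 2, .ofNat 0, .ofNat 0, .ofNat 0, .ofNat 0, .ofNat 0, .negSucc 0, .negSucc 2, .ofNat 0, .ofNat 0, .ofNat 0, .ofNat 0, .ofNat 0, .ofNat 0, .ofNat 0, .ofNat 0, .ofNat 0, .ofNat 0, .ofNat 0],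
    [.negSucc 0, .negSucc 2, .negSucc 1, .ofNat 0, .negSucc 6, .negSucc 7, .ofNat 0, .negSucc 0, .negSucc 1, .ofNat 0, .negSucc 7, .negSucc 5, .ofNat 0, .ofNat 0, .negSucc 0, .ofNat 0, .negSucc 6, .negSucc 3, .ofNat 0, .ofNat 0, .ofNat 0, .ofNat 0, .ofNat 0, .ofNat 0, .ofNat 0, .ofNat 0, .ofNat 0, .ofNat 0, .negSucc 6, .negSucc 30, .ofNat 0, .ofNat 0, .ofNat 0, .ofNat 0, .ofNat 0, .negSucc 7, .negSucc 2, .negSucc 2, .negSucc 1, .ofNat 0, .negSucc 3, .negSucc 1, .ofNat 0, .ofNat 0, .ofNat 0, .ofNat 0, .ofNat 0, .ofNat 0],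
    [.negSucc 0, .ofNat 0, .negSucc 0, .ofNat 0, .negSucc 8, .negSucc 6, .ofNat 0, .ofNat 0, .ofNat 0, .ofNat 0, .ofNat 0, .ofNat 0, .ofNat 0, .ofNat 0, .ofNat 0, .ofNat 0, .negSucc 1, .negSucc 1, .ofNat 0, .ofNat 0, .ofNat 0, .ofNat 0, .ofNat 0, .ofNat 0, .ofNat 0, .ofNat 0, .ofNat 0, .ofNat 0, .negSucc 4, .negSucc 30, .ofNat 0, .ofNat 0, .ofNat 0, .ofNat 0, .ofNat 0, .negSucc 3, .negSucc 2, .ofNat 0, .negSucc 2, .ofNat 0, .negSucc 3, .negSucc 3, .ofNat 0, .ofNat 0, .ofNat 0, .ofNat 0, .ofNat 0, .ofNat 0]]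

def sp2 : List (ℕ × List ℕ × List ℕ) := [(1, [3, 0, 3, 3, 0, 0], []),
    (1, [2, 1, 5, 5, 5, 5, 2, 2, 1, 1], []),
    (1, [3, 1, 5, 5, 3, 3, 1, 1], []),
    (2, [3, 3, 3], []),
    (2, [2, 2, 2], []),
    (2, [1, 0, 5, 5, 4, 4, 4, 4, 2, 2, 1, 1, 0, 0], []),
    (2, [2, 0, 5, 5, 5, 5, 4, 4, 4, 4, 2, 2, 0, 0], []),
    (2, [2, 1, 5, 5, 5, 5, 2, 2, 1, 1], [])]

def rv2 : List (List ℤ) := [[.negSucc 0, .ofNat 0, .ofNat 0, .negSucc 0, .negSucc 5, .negSucc 5, .ofNat 0, .ofNat 0, .ofNat 0, .ofNat 0, .ofNat 0, .ofNat 0, .ofNat 0, .ofNat 0, .ofNat 0, .ofNat 0, .ofNat 0, .ofNat 0, .ofNat 0, .ofNat 0, .ofNat 0, .ofNat 0, .negSucc 1, .negSucc 1, .ofNat 0, .ofNat 0, .ofNat 0, .ofNat 0, .negSucc 0, .negSucc 2, .ofNat 0, .ofNat 0, .ofNat 0, .ofNat 0, .ofNat 0, .negSucc 0, .negSucc 2, .ofNat 0, .ofNat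 0, .negSucc 2, .ofNat 0, .ofNat 0, .ofNat 0, .ofNat 0, .ofNat 0, .ofNat 0, .ofNat 0, .ofNat 0],
    [.ofNat 0, .ofNat 0, .ofNat 0, .ofNat 0, .ofNat 0, .ofNat 0, .ofNat 0, .negSucc 0, .negSucc 0, .ofNat 0, .negSucc 3, .negSucc 6, .ofNat 0, .ofNat 0, .ofNat 0, .ofNat 0, .negSucc 2, .negSucc 0, .ofNat 0, .ofNat 0, .ofNat 0, .ofNat 0, .ofNat 0, .ofNat 0, .ofNat 0, .ofNat 0, .ofNat 0, .ofNat 0, .negSucc 1, .negSucc 9, .ofNat 0, .ofNat 0, .ofNat 0, .ofNat 0, .ofNat 0, .negSucc 4, .ofNat 0, .negSucc 2, .negSucc 2, .ofNat 0, .ofNat 0, .negSucc 3, .ofNat 0, .ofNat 0, .ofNat 0, .ofNat 0, .ofNat 0, .ofNat 0],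
    [.ofNat 0, .ofNat 0, .ofNat 0, .ofNat 0, .ofNat 0, .ofNat 0, .ofNat 0, .negSucc 0, .ofNat 0, .negSucc 0, .ofNat 0, .negSucc 6, .ofNat 0, .ofNat 0, .ofNat 0, .ofNat 0, .ofNat 0, .ofNat 0, .ofNat 0, .ofNat 0, .ofNat 0, .ofNat 0, .ofNat 0, .negSucc 3, .ofNat 0, .ofNat 0, .ofNat 0, .ofNat 0, .ofNat 0, .ofNat 0, .ofNat 0, .ofNat 0, .ofNat 0, .ofNat 0, .ofNat 0, .negSucc 2, .ofNat 0, .negSucc 2, .ofNat 0, .negSucc 2, .ofNat 0, .negSucc 1, .ofNat 0, .ofNat 0, .ofNat 0, .ofNat 0, .ofNat 0, .ofNat 0],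
    [.ofNat 0, .ofNat 0, .ofNat 0, .ofNat 0, .ofNat 0, .ofNat 0, .ofNat 0, .ofNat 0, .ofNat 0, .ofNat 0, .ofNat 0, .ofNat 0, .ofNat 0, .ofNat 0, .ofNat 0, .ofNat 0, .ofNat 0, .ofNat 0, .ofNat 0, .ofNat 0, .ofNat 0, .negSucc 0, .ofNat 0, .negSucc 5, .ofNat 0, .ofNat 0, .ofNat 0, .ofNat 0, .ofNat 0, .ofNat 0, .ofNat 0, .ofNat 0, .ofNat 0, .ofNat 0, .ofNat 0, .negSucc 1, .ofNat 0, .ofNat 0, .ofNat 0, .ofNat 0, .ofNat 0, .ofNat 0, .ofNat 0, .ofNat 0, .ofNat 0, .negSucc 2, .ofNat 0, .ofNat 0],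
    [.ofNat 0, .ofNat 0, .ofNat 0, .ofNat 0, .ofNat 0, .ofNat 0, .ofNat 0, .ofNat 0, .ofNat 0, .ofNat 0, .ofNat 0, .ofNat 0, .ofNat 0, .ofNat 0, .negSucc 0, .ofNat 0, .negSucc 5, .negSucc 5, .ofNat 0, .ofNat 0, .ofNat 0, .ofNat 0, .ofNat 0, .ofNat 0, .ofNat 0, .ofNat 0, .ofNat 0, .ofNat 0, .negSucc 0, .negSucc 2, .ofNat 0, .ofNat 0, .ofNat 0, .ofNat 0, .ofNat 0, .negSucc 1, .ofNat 0, .ofNat 0, .ofNat 0, .ofNat 0, .ofNat 0, .ofNat 0, .ofNat 0, .ofNat 0, .negSucc 2, .ofNat 0, .ofNat 0, .ofNat 0],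
    [.negSucc 0, .negSucc 0, .negSucc 6, .ofNat 0, .negSucc 6, .negSucc 7, .ofNat 0, .ofNat 0, .negSucc 1, .ofNat 0, .ofNat 0, .negSucc 3, .ofNat 0, .ofNat 0, .negSucc 1, .ofNat 0, .negSucc 12, .negSucc 9, .ofNat 0, .ofNat 0, .ofNat 0, .ofNat 0, .ofNat 0, .ofNat 0, .ofNat 0, .ofNat 0, .ofNat 0, .ofNat 0, .negSucc 5, .negSucc 22, .ofNat 0, .ofNat 0, .ofNat 0, .ofNat 0, .ofNat 0, .negSucc 13, .ofNat 0, .ofNat 0, .ofNat 0, .ofNat 0, .ofNat 0, .ofNat 0, .negSucc 2, .negSucc 2, .negSucc 1, .ofNat 0, .negSucc 3, .negSucc 1],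
    [.negSucc 0, .ofNat 0, .negSucc 8, .ofNat 0, .negSucc 7, .negSucc 6, .ofNat 0, .ofNat 0, .ofNat 0, .ofNat 0, .ofNat 0, .ofNat 0, .ofNat 0, .ofNat 0, .negSucc 1, .ofNat 0, .negSucc 14, .negSucc 11, .ofNat 0, .ofNat 0, .ofNat 0, .ofNat 0, .ofNat 0, .ofNat 0, .ofNat 0, .ofNat 0, .ofNat 0, .ofNat 0, .negSucc 6, .negSucc 31, .ofNat 0, .ofNat 0, .ofNat 0, .ofNat 0, .ofNat 0, .negSucc 13, .ofNat 0, .ofNat 0, .ofNat 0, .ofNat 0, .ofNat 0, .ofNat 0, .negSucc 2, .ofNat 0, .negSucc 2, .ofNat 0, .negSucc 3, .negSucc 3],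
    [.ofNat 0, .ofNat 0, .ofNat 0, .ofNat 0, .ofNat 0, .ofNat 0, .ofNat 0, .ofNat 0, .negSucc 0, .ofNat 0, .negSucc 0, .negSucc 4, .ofNat 0, .ofNat 0, .negSucc 0, .ofNat 0, .negSucc 5, .negSucc 5, .ofNat 0, .ofNat 0, .ofNat 0, .ofNat 0, .ofNat 0, .ofNat 0, .ofNat 0, .ofNat 0, .ofNat 0, .ofNat 0, .negSucc 0, .negSucc 2, .ofNat 0, .ofNat 0, .ofNat 0, .ofNat 0, .ofNat 0, .negSucc 4, .ofNat 0, .ofNat 0, .ofNat 0, .ofNat 0, .ofNat 0, .ofNat 0, .ofNat 0, .negSucc 2, .negSucc 2, .ofNat 0, .ofNat 0, .negSucc 3]]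

def C : Cert where
  D := { p := 3, n := 6, pwL := [[], [], [], [], [], []], cmL := [[], [2, 4, 4, 5], [4, 4, 5, 5], [], [], [], [], [], [5, 5], [5], [], [], [], [], [], [], [], [], [], [], [], [], [], [], [], [], [], [], [], [], [], [], [], [], [], []] }
  k := 1
  f := 115
  R := 6
  fus := [([[0], [1], [2], [3], [4], [5]], [[0, 0, 4, 5], [1, 1, 5, 5], [2, 4, 4, 5], [3], [4, 4], [5, 5]]), ([[0], [1], [2], [3], [4], [5]], [[0, 0, 2, 5, 5], [1, 5], [2, 2, 4, 5, 5], [3, 3, 5, 5], [4, 5, 5], [5, 5]])]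
  specs := sp0 ++ sp1 ++ sp2
  relV := rv0 ++ rv1 ++ rv2
  lam := [[.ofNat 0, .ofNat 0, .ofNat 0, .ofNat 0, .ofNat 0, .ofNat 0, .ofNat 0, .ofNat 0, .ofNat 0, .ofNat 0, .ofNat 0, .ofNat 0, .ofNat 0, .ofNat 0, .ofNat 0, .ofNat 0, .ofNat 0, .ofNat 0, .ofNat 0, .ofNat 0, .ofNat 0, .ofNat 0, .ofNat 0, .ofNat 0, .ofNat 0, .ofNat 0, .ofNat 0, .ofNat 0, .ofNat 0, .ofNat 0, .ofNat 0, .ofNat 0, .ofNat 0, .ofNat 0, .ofNat 0, .ofNat 0, .ofNat 0, .ofNat 0, .ofNat 0, .ofNat 0, .ofNat 0, .ofNat 0, .ofNat 0, .ofNat 0, .ofNat 0, .ofNat 0, .ofNat 0, .ofNat 0],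
    [.ofNat 0, .ofNat 0, .ofNat 0, .ofNat 0, .ofNat 0, .ofNat 0, .ofNat 0, .ofNat 0, .ofNat 0, .ofNat 0, .ofNat 0, .ofNat 0, .ofNat 0, .ofNat 0, .ofNat 0, .ofNat 0, .ofNat 0, .ofNat 0, .ofNat 0, .ofNat 0, .ofNat 0, .ofNat 0, .ofNat 0, .ofNat 0, .ofNat 0, .ofNat 0, .ofNat 0, .ofNat 0, .ofNat 0, .ofNat 0, .ofNat 0, .ofNat 0, .ofNat 0, .ofNat 0, .ofNat 0, .ofNat 0, .ofNat 0, .ofNat 0, .ofNat 0, .ofNat 0, .ofNat 0, .ofNat 0, .ofNat 0, .ofNat 0, .ofNat 0, .ofNat 0, .ofNat 0, .ofNat 0],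
    [.ofNat 0, .ofNat 0, .ofNat 0, .ofNat 0, .ofNat 0, .ofNat 0, .ofNat 0, .ofNat 0, .ofNat 0, .ofNat 0, .ofNat 0, .ofNat 0, .ofNat 0, .ofNat 0, .ofNat 0, .ofNat 0, .ofNat 0, .ofNat 0, .ofNat 0, .ofNat 0, .ofNat 0, .ofNat 0, .ofNat 0, .ofNat 0, .ofNat 0, .ofNat 0, .ofNat 0, .ofNat 0, .ofNat 0, .ofNat 0, .ofNat 0, .ofNat 0, .ofNat 0, .ofNat 0, .ofNat 0, .ofNat 0, .ofNat 0, .ofNat 0, .ofNat 0, .ofNat 0, .ofNat 2, .ofNat 0, .ofNat 0, .ofNat 0, .ofNat 1, .ofNat 0, .ofNat 0, .ofNat 1],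
    [.ofNat 0, .ofNat 0, .ofNat 0, .ofNat 0, .ofNat 0, .ofNat 0, .ofNat 0, .ofNat 0, .ofNat 0, .ofNat 0, .ofNat 0, .ofNat 0, .ofNat 0, .ofNat 0, .ofNat 0, .ofNat 0, .ofNat 0, .ofNat 0, .ofNat 0, .ofNat 0, .ofNat 0, .ofNat 0, .ofNat 0, .ofNat 0, .ofNat 0, .ofNat 0, .ofNat 0, .ofNat 0, .ofNat 0, .ofNat 0, .ofNat 0, .ofNat 0, .ofNat 0, .ofNat 0, .ofNat 0, .ofNat 0, .ofNat 0, .ofNat 0, .ofNat 0, .ofNat 0, .ofNat 0, .ofNat 0, .ofNat 0, .ofNat 0, .ofNat 0, .ofNat 0, .ofNat 0, .ofNat 0],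
    [.ofNat 0, .ofNat 0, .ofNat 0, .ofNat 0, .ofNat 0, .ofNat 0, .ofNat 0, .ofNat 0, .ofNat 0, .ofNat 0, .ofNat 0, .ofNat 0, .ofNat 0, .ofNat 0, .ofNat 0, .ofNat 0, .ofNat 0, .ofNat 0, .ofNat 0, .ofNat 0, .ofNat 0, .ofNat 0, .ofNat 0, .ofNat 0, .ofNat 0, .ofNat 0, .ofNat 0, .ofNat 0, .ofNat 0, .ofNat 0, .ofNat 0, .ofNat 0, .ofNat 0, .ofNat 0, .ofNat 0, .ofNat 0, .ofNat 0, .ofNat 0, .ofNat 0, .ofNat 0, .ofNat 1, .ofNat 0, .ofNat 0, .ofNat 0, .ofNat 0, .ofNat 0, .ofNat 0, .ofNat 0],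
    [.ofNat 0, .ofNat 0, .ofNat 0, .ofNat 0, .ofNat 0, .ofNat 0, .ofNat 0, .ofNat 0, .ofNat 0, .ofNat 0, .ofNat 0, .ofNat 0, .ofNat 0, .ofNat 0, .ofNat 0, .ofNat 0, .ofNat 0, .ofNat 0, .ofNat 0, .ofNat 0, .ofNat 0, .ofNat 0, .ofNat 0, .ofNat 0, .ofNat 0, .ofNat 0, .ofNat 0, .ofNat 0, .ofNat 0, .ofNat 0, .ofNat 0, .ofNat 0, .ofNat 0, .ofNat 0, .ofNat 0, .ofNat 0, .ofNat 0, .ofNat 0, .ofNat 0, .ofNat 0, .ofNat 0, .ofNat 0, .ofNat 0, .ofNat 0, .ofNat 0, .ofNat 0, .ofNat 0, .ofNat 1]]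
  j0 := 1
  mu := [.ofNat 0, .ofNat 1, .ofNat 2, .ofNat 0, .ofNat 2, .ofNat 1, .ofNat 0, .ofNat 0, .ofNat 2, .ofNat 0, .ofNat 1, .ofNat 0, .ofNat 0, .ofNat 0, .ofNat 0, .ofNat 1, .ofNat 0, .ofNat 0, .ofNat 0, .ofNat 0, .ofNat 0, .ofNat 0, .ofNat 0, .ofNat 0, .ofNat 0, .ofNat 0, .ofNat 0, .ofNat 0, .ofNat 0, .ofNat 0, .ofNat 0, .ofNat 0, .ofNat 0, .ofNat 0, .ofNat 0, .ofNat 0]
  y1 := [[(1, .ofNat 6), (4, .ofNat 6), (5, .ofNat 6), (6, .ofNat 8), (10, .ofNat 6), (13, .ofNat 8)],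
    [],
    [(0, .ofNat 4), (1, .ofNat 5), (2, .ofNat 5), (3, .ofNat 3), (4, .ofNat 8), (5, .ofNat 4), (6, .ofNat 2), (7, .ofNat 6), (8, .ofNat 3), (11, .ofNat 6), (12, .ofNat 3), (14, .ofNat 3), (15, .ofNat 6), (17, .ofNat 3), (20, .ofNat 2), (21, .ofNat 2), (22, .ofNat 7), (23, .ofNat 5)],
    [(7, .ofNat 8), (13, .ofNat 1), (16, .ofNat 8)],
    [(0, .ofNat 2), (1, .ofNat 1), (2, .ofNat 8), (3, .ofNat 3), (4, .ofNat 7), (5, .ofNat 6), (6, .ofNat 8), (7, .ofNat 3), (8, .ofNat 3), (10, .ofNat 2), (12, .ofNat 1), (13, .ofNat 5), (14, .ofNat 6), (15, .ofNat 7), (17, .ofNat 2), (20, .ofNat 5), (21, .ofNat 8), (22, .ofNat 1)],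
    [(0, .ofNat 4), (1, .ofNat 4), (2, .ofNat 1), (3, .ofNat 6), (4, .ofNat 6), (5, .ofNat 1), (6, .ofNat 1), (7, .ofNat 6), (8, .ofNat 4), (10, .ofNat 8), (12, .ofNat 8), (13, .ofNat 4), (14, .ofNat 3), (15, .ofNat 8), (17, .ofNat 7), (21, .ofNat 7), (22, .ofNat 5)],
    [],
    [(0, .ofNat 3), (5, .ofNat 3), (6, .ofNat 6), (8, .ofNat 3), (10, .ofNat 4), (12, .ofNat 8)],
    [(0, .ofNat 1), (1, .ofNat 8), (2, .ofNat 1), (4, .ofNat 3), (6, .ofNat 1), (8, .ofNat 7), (10, .ofNat 7), (12, .ofNat 4), (13, .ofNat 8), (14, .ofNat 6), (15, .ofNat 4), (17, .ofNat 8), (20, .ofNat 2), (21, .ofNat 2), (22, .ofNat 7), (23, .ofNat 5)],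
    [(0, .ofNat 3), (1, .ofNat 3), (5, .ofNat 3), (6, .ofNat 4), (8, .ofNat 7), (10, .ofNat 4), (11, .ofNat 7), (12, .ofNat 8), (13, .ofNat 3), (14, .ofNat 3), (15, .ofNat 3), (17, .ofNat 8), (18, .ofNat 8), (20, .ofNat 5), (21, .ofNat 6), (22, .ofNat 3), (23, .ofNat 7)],
    [(0, .ofNat 3), (1, .ofNat 1), (2, .ofNat 2), (3, .ofNat 6), (4, .ofNat 3), (5, .ofNat 5), (6, .ofNat 6), (7, .ofNat 6), (8, .ofNat 7), (10, .ofNat 5), (12, .ofNat 5), (13, .ofNat 1), (14, .ofNat 6), (15, .ofNat 8), (17, .ofNat 7), (20, .ofNat 7), (21, .ofNat 7), (22, .ofNat 5)],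
    [(0, .ofNat 1), (1, .ofNat 3), (2, .ofNat 3), (4, .ofNat 3), (5, .ofNat 5), (6, .ofNat 4), (8, .ofNat 2), (10, .ofNat 3), (12, .ofNat 3), (13, .ofNat 3), (14, .ofNat 6), (20, .ofNat 8)],
    [],
    [],
    [(0, .ofNat 6), (1, .ofNat 3), (2, .ofNat 3), (5, .ofNat 6), (6, .ofNat 5), (10, .ofNat 8), (12, .ofNat 3), (13, .ofNat 3), (14, .ofNat 6), (20, .ofNat 8)],
    [(0, .ofNat 1), (1, .ofNat 4), (2, .ofNat 4), (3, .ofNat 8), (4, .ofNat 6), (5, .ofNat 7), (6, .ofNat 1), (7, .ofNat 1), (10, .ofNat 8), (11, .ofNat 4), (12, .ofNat 8), (13, .ofNat 4), (14, .ofNat 3), (15, .ofNat 8), (17, .ofNat 7), (21, .ofNat 7), (22, .ofNat 5)],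
    [(4, .ofNat 8), (8, .ofNat 5)],
    [(5, .ofNat 8), (8, .ofNat 5)],
    [],
    [],
    [],
    [(0, .ofNat 6), (1, .ofNat 3), (2, .ofNat 6), (4, .ofNat 6), (5, .ofNat 6), (6, .ofNat 3), (8, .ofNat 3), (10, .ofNat 1), (11, .ofNat 6), (13, .ofNat 6), (14, .ofNat 6), (15, .ofNat 6), (17, .ofNat 3), (19, .ofNat 8)],
    [(5, .ofNat 8), (7, .ofNat 5), (8, .ofNat 8), (11, .ofNat 1)],
    [(5, .ofNat 4), (8, .ofNat 4), (11, .ofNat 5)],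
    [],
    [],
    [],
    [],
    [(4, .ofNat 6), (6, .ofNat 4), (8, .ofNat 3), (10, .ofNat 8)],
    [(8, .ofNat 5)],
    [],
    [],
    [],
    [],
    [],
    [(5, .ofNat 6), (8, .ofNat 6), (10, .ofNat 4)]]
  y2 := [[(6, .ofNat 6), (13, .ofNat 6)],
    [(0, .ofNat 6), (1, .ofNat 3), (2, .ofNat 6), (4, .ofNat 3), (6, .ofNat 6), (9, .ofNat 1), (10, .ofNat 6), (12, .ofNat 3), (13, .ofNat 6), (15, .ofNat 3), (17, .ofNat 6), (20, .ofNat 6), (21, .ofNat 6), (22, .ofNat 3)],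
    [(0, .ofNat 6), (1, .ofNat 3), (4, .ofNat 3), (5, .ofNat 3), (9, .ofNat 2), (10, .ofNat 3), (12, .ofNat 6), (13, .ofNat 3), (15, .ofNat 6), (17, .ofNat 3), (23, .ofNat 6)],
    [(7, .ofNat 6), (13, .ofNat 3), (16, .ofNat 6)],
    [(9, .ofNat 2)],
    [(1, .ofNat 6), (4, .ofNat 3), (5, .ofNat 3), (8, .ofNat 3), (9, .ofNat 1), (10, .ofNat 3), (20, .ofNat 6)],
    [],
    [(10, .ofNat 3), (12, .ofNat 6)],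
    [(0, .ofNat 6), (1, .ofNat 3), (2, .ofNat 6), (4, .ofNat 6), (6, .ofNat 6), (8, .ofNat 3), (9, .ofNat 2), (10, .ofNat 6), (23, .ofNat 6)],
    [(6, .ofNat 3), (8, .ofNat 3), (10, .ofNat 3), (11, .ofNat 3), (12, .ofNat 6), (17, .ofNat 6), (18, .ofNat 6), (20, .ofNat 6), (23, .ofNat 3)],
    [(0, .ofNat 6), (1, .ofNat 6), (2, .ofNat 3), (4, .ofNat 3), (5, .ofNat 6), (6, .ofNat 6), (8, .ofNat 3), (9, .ofNat 1), (10, .ofNat 3)],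
    [(0, .ofNat 3), (5, .ofNat 6), (6, .ofNat 3), (8, .ofNat 6), (20, .ofNat 6)],
    [],
    [],
    [(6, .ofNat 6), (10, .ofNat 6), (20, .ofNat 6)],
    [(1, .ofNat 6), (3, .ofNat 6), (4, .ofNat 3), (5, .ofNat 3), (7, .ofNat 3), (9, .ofNat 1), (10, .ofNat 3), (11, .ofNat 3), (20, .ofNat 6)],
    [(4, .ofNat 6), (8, .ofNat 6)],
    [(5, .ofNat 6), (8, .ofNat 6)],
    [],
    [],
    [],
    [(10, .ofNat 3), (19, .ofNat 6)],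
    [(5, .ofNat 6), (7, .ofNat 6), (8, .ofNat 6), (11, .ofNat 3)],
    [(5, .ofNat 3), (8, .ofNat 3), (11, .ofNat 6)],
    [],
    [],
    [],
    [],
    [(6, .ofNat 3), (10, .ofNat 6)],
    [(8, .ofNat 6)],
    [],
    [],
    [],
    [],
    [],
    [(10, .ofNat 3)]]

def ix0 : List ℕ := [0, 1, 2, 3, 4, 5]

def ix1 : List ℕ := [7, 8, 9, 10, 11, 14]

def ix2 : List ℕ := [15, 16, 17, 21, 22, 23]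

def ix3 : List ℕ := [28, 29, 35]

end Cfsg.Agent.Lib.Helper47G23P3C
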