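import Cfsg.Agent.Lib.Helper47G24PM
import Cfsg.Agent.Lib.Helper35Iso
import Cfsg.Agent.Lib.Helper35Cnt
import Cfsg.Agent.Lib.Helper10Spin

set_option autoImplicit false
set_option maxRecDepth 100000

/-! A stem extension with kernel of order two of the Steinberg group of type `G₂` over the field
with four elements (pull-back of the double cover of the alternating group of degree 1365). -/

namespace Cfsg.Agent.Lib.Helper47G24M2

open Cfsg.Lie Cfsg.Agent.Lib.Helper35TC Cfsg.Agent.Lib.Helper47StemC Cfsg.Agent.Lib.Helper47StG4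
  Cfsg.Agent.Lib.Helper47G24PM Cfsg.Agent.Lib.Helper47G24Ta Cfsg.Agent.Lib.Helper18F4

noncomputable def dd : St4 := PresentedGroup.of ((⟨2, by decide⟩ : Fin chevG2.nroots), (1 : F4c))

def dN (j : ℕ) : ℕ := act4 11 tab (2, 1) j

theorem cntMoved : cntD (fun j => Nat.ble (j + 1) 1365 && !(Nat.beq (dN j) j)) 11 0 = 1340 := by
  decide +kernel

theorem hψ : ∀ j : Fin 1365, (phi dd j).val = dN j.val := fun j => phi_of _ j

theorem hsupp : (phi dd).support.card = 1340 := by
  have h1 := card_filter_range (fun j => Nat.ble (j + 1) 1365 && !(Nat.beq (dN j) j)) 11 1365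
    (by norm_num) (by
      intro u hu
      rw [Bool.and_eq_true, Nat.ble_eq] at hu
      omega)
  rw [cntMoved] at h1
  rw [← h1]
  apply Finset.card_bij (fun j _ => j.val)
  · intro j hj
    rw [Equiv.Perm.mem_support] at hj
    rw [Finset.mem_filter, Finset.mem_range, Bool.and_eq_true, Nat.ble_eq, Bool.not_eq_true',
      ← hψ]
    refine ⟨j.2, j.2, ?_⟩
    cases hb : Nat.beq (phi dd j).val j.val
    · rfl
    · exact absurd (Fin.ext (Nat.beq_eq ▸ hb)) hj
  · intro a _ b _ hab
    exact Fin.ext hab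
  · intro b hb
    rw [Finset.mem_filter, Finset.mem_range, Bool.and_eq_true, Nat.ble_eq, Bool.not_eq_true'] at hb
    refine ⟨⟨b, hb.1⟩, ?_, rfl⟩
    rw [Equiv.Perm.mem_support]
    intro hfix
    have h2 := hψ ⟨b, hb.1⟩
    rw [hfix] at h2
    have h3 := hb.2.2
    rw [← h2] at h3
    simp at h3

theorem phi_dd_ne : phi dd ≠ 1 := by
  intro h
  have h1 := hsupp
  rw [h, Equiv.Perm.support_one, Finset.card_empty] at h1
  exact absurd h1 (by norm_num)

theorem phi_dd_sq : phi dd * phi dd = 1 := by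
  ext j
  rw [Equiv.Perm.mul_apply, hψ, hψ]
  exact (act_valid Cfsg.Agent.Lib.Helper47G24T.ok (2, 1) j.1 j.2).2

theorem order_dd : orderOf (phi dd) = 2 := by
  have : Fact (Nat.Prime 2) := ⟨Nat.prime_two⟩
  apply orderOf_eq_prime _ phi_dd_ne
  rw [pow_two, phi_dd_sq]

theorem cyc_dd : (phi dd).cycleType = Multiset.replicate 670 2 := by
  obtain ⟨n, hn⟩ := Equiv.Perm.cycleType_prime_order (σ := phi dd) (by rw [order_dd]; exact Nat.prime_two)
  rw [order_dd] at hn
  have h := Equiv.Perm.sum_cycleType (phi dd)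
  rw [hn, Multiset.sum_replicate, smul_eq_mul, hsupp] at h
  have : n + 1 = 670 := by omega
  rw [hn, this]

theorem perfect_range : commutator phi.range = ⊤ := by
  let e : St4 ≃* phi.range := MonoidHom.ofInjective phi_inj
  have := simpleSt
  have : Nontrivial phi.range := e.symm.toEquiv.nontrivial
  have : IsSimpleGroup phi.range :=
    IsSimpleGroup.isSimpleGroup_of_surjective e.toMonoidHom e.surjective
  apply Cfsg.Agent.Lib.Helper35Mat.commutator_eq_top_of_simple
  rw [← Nat.card_congr e.toEquiv, cardSt]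
  norm_num

theorem exists_cover : ∃ (Γ : Type) (_ : Group Γ) (_ : Finite Γ) (σ : Γ →* St4),
    Cfsg.IsStemExtension σ ∧ Nat.card σ.ker = 2 := by
  obtain ⟨Γ, i1, i2, σ, hσ, hc⟩ := Cfsg.Agent.Lib.Helper10Spin.stem_of_perm 1364 phi.range
    perfect_range (phi dd) ⟨dd, rfl⟩ 670 cyc_dd (by decide)
  let e : St4 ≃* phi.range := MonoidHom.ofInjective phi_inj
  obtain ⟨h1, h2⟩ := stem_transport σ hσ e.symm
  exact ⟨Γ, i1, i2, _, h1, by rw [h2]; exact hc⟩

end Cfsg.Agent.Lib.Helper47G24M2
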