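import Cfsg.Agent.Lib.Helper17PCTab

set_option autoImplicit false
set_option maxRecDepth 1000000
set_option maxHeartbeats 0

namespace Cfsg.Agent.Lib.Helper47G24P2C

open Cfsg Cfsg.Agent.Lib.Helper63PCDefs Cfsg.Agent.Lib.Helper63PCTabDefs 

def sp0 : List (ℕ × List ℕ × List ℕ) := [(0, [0], [0, 0]),
    (0, [1], [1, 0]),
    (0, [1], [0, 0]),
    (0, [2], [1, 0]),
    (0, [3], [1, 0]),
    (0, [4], [1, 0]),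
    (0, [5], [1, 0]),
    (0, [6], [1, 0])]

def rv0 : List (List ℤ) := [[.ofNat 0, .ofNat 0, .ofNat 1, .ofNat 0, .ofNat 1, .ofNat 1, .ofNat 0, .ofNat 0, .ofNat 0, .ofNat 1, .ofNat 1, .ofNat 0, .ofNat 0, .ofNat 0, .ofNat 0, .ofNat 0, .ofNat 0, .ofNat 0, .ofNat 0, .ofNat 0, .ofNat 0, .ofNat 0, .ofNat 0, .ofNat 0, .ofNat 0, .ofNat 0, .ofNat 0, .ofNat 0, .ofNat 0, .ofNat 0, .ofNat 0, .ofNat 0, .ofNat 0, .ofNat 0, .ofNat 0, .ofNat 0, .ofNat 0, .ofNat 0, .ofNat 0, .ofNat 0, .ofNat 0, .ofNat 0, .ofNat 0, .ofNat 0, .ofNat 0, .ofNat 0, .ofNat 0, .ofNat 0, .ofNat 0, .ofNat 0, .ofNat 0, .ofNat 0, .ofNat 0, .ofNat 0, .ofNat 1, .ofNat 0, .ofNat 0, .ofNat 1, .ofNat 0, .ofNat 0, .ofNat 0, .ofNat 0, .ofNat 0, .ofNat 0, .ofNat 0, .ofNat 0, .ofNat 1, .ofNat 0, .ofNat 0, .ofNat 0, .ofNat 0, .ofNat 0, .ofNat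 0, .ofNat 0, .ofNat 0, .ofNat 0, .ofNat 0, .ofNat 0, .ofNat 1, .ofNat 0, .ofNat 0, .ofNat 0, .ofNat 1, .ofNat 1, .ofNat 0, .ofNat 0, .ofNat 0, .ofNat 0, .ofNat 0, .ofNat 0, .ofNat 0, .ofNat 0, .ofNat 0, .ofNat 0, .ofNat 0, .ofNat 0, .ofNat 0, .ofNat 0, .ofNat 0, .ofNat 0, .ofNat 0, .ofNat 0, .ofNat 0, .ofNat 0, .ofNat 0, .ofNat 0, .ofNat 0, .ofNat 0, .ofNat 0, .ofNat 0, .ofNat 0, .ofNat 0, .ofNat 0, .ofNat 0, .ofNat 0, .ofNat 0, .ofNat 0, .ofNat 1, .ofNat 1, .ofNat 3, .ofNat 0, .ofNat 0, .ofNat 0, .ofNat 0, .ofNat 0, .ofNat 0, .ofNat 0, .ofNat 0, .ofNat 0, .ofNat 0, .ofNat 2, .ofNat 2, .ofNat 0, .ofNat 0, .ofNat 0, .ofNat 0, .ofNat 0, .ofNat 0, .ofNat 0, .ofNat 0, .ofNat 0, .ofNat 0, .ofNat 0, .ofNat 3, .ofNat 0, .ofNat 0, .ofNat 0, .ofNat 0, .ofNat 0, .ofNat 0, .ofNat 0, .ofNat 0, .ofNat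 0, .ofNat 0, .ofNat 0, .ofNat 0, .ofNat 0, .ofNat 0, .ofNat 0, .ofNat 0, .ofNat 0, .ofNat 0, .ofNat 0, .ofNat 0],
    [.ofNat 0, .negSucc 1, .ofNat 0, .ofNat 0, .ofNat 0, .ofNat 0, .ofNat 0, .ofNat 0, .ofNat 1, .ofNat 1, .ofNat 0, .ofNat 0, .ofNat 0, .ofNat 0, .negSucc 0, .ofNat 0, .negSucc 0, .negSucc 0, .ofNat 0, .ofNat 0, .negSucc 0, .ofNat 0, .negSucc 0, .ofNat 0, .ofNat 0, .ofNat 0, .negSucc 0, .ofNat 0, .negSucc 0, .negSucc 0, .ofNat 0, .ofNat 0, .negSucc 0, .negSucc 1, .ofNat 0, .negSucc 0, .ofNat 0, .ofNat 0, .ofNat 0, .ofNat 0, .ofNat 0, .ofNat 0, .ofNat 0, .ofNat 0, .ofNat 0, .ofNat 0, .ofNat 0, .ofNat 0, .ofNat 0, .ofNat 0, .ofNat 0, .ofNat 0, .negSucc 0, .negSucc 0, .negSucc 0, .ofNat 0, .negSucc 0, .negSucc 0, .negSucc 1, .ofNat 0, .ofNat 0, .ofNat 0, .ofNat 0, .ofNat 0, .ofNat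 0, .negSucc 0, .negSucc 0, .ofNat 0, .negSucc 0, .negSucc 1, .negSucc 1, .negSucc 1, .ofNat 0, .ofNat 0, .ofNat 0, .ofNat 0, .ofNat 0, .ofNat 0, .negSucc 0, .ofNat 0, .negSucc 1, .negSucc 1, .negSucc 0, .negSucc 1, .ofNat 0, .ofNat 0, .ofNat 0, .ofNat 0, .ofNat 0, .ofNat 0, .ofNat 0, .ofNat 0, .ofNat 0, .ofNat 0, .ofNat 0, .ofNat 0, .ofNat 0, .ofNat 0, .ofNat 0, .ofNat 0, .ofNat 0, .ofNat 0, .ofNat 0, .ofNat 0, .negSucc 0, .negSucc 1, .negSucc 2, .negSucc 3, .ofNat 0, .ofNat 0, .ofNat 0, .ofNat 0, .ofNat 0, .ofNat 0, .ofNat 0, .ofNat 0, .ofNat 0, .negSucc 0, .negSucc 5, .negSucc 3, .ofNat 0, .ofNat 0, .ofNat 0, .ofNat 0, .ofNat 0, .ofNat 0, .ofNat 0, .ofNat 0, .ofNat 0, .ofNat 0, .negSucc 4, .negSucc 3, .ofNat 0, .ofNat 0, .ofNat 0, .ofNat 0, .ofNat 0, .ofNat 0, .ofNat 0, .ofNat 0, .ofNat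 0, .ofNat 0, .ofNat 0, .negSucc 3, .ofNat 0, .ofNat 0, .ofNat 0, .ofNat 0, .ofNat 0, .ofNat 0, .ofNat 0, .ofNat 0, .ofNat 0, .ofNat 0, .ofNat 0, .ofNat 0, .ofNat 0, .ofNat 0, .ofNat 0, .ofNat 0, .ofNat 0, .ofNat 0, .ofNat 0, .ofNat 0],
    [.ofNat 0, .ofNat 2, .ofNat 1, .ofNat 0, .ofNat 1, .ofNat 1, .ofNat 0, .ofNat 0, .ofNat 1, .ofNat 0, .ofNat 1, .ofNat 0, .ofNat 0, .ofNat 0, .ofNat 1, .ofNat 0, .ofNat 1, .ofNat 1, .ofNat 0, .ofNat 0, .ofNat 0, .ofNat 1, .ofNat 1, .ofNat 0, .ofNat 0, .ofNat 0, .ofNat 1, .ofNat 0, .ofNat 1, .ofNat 1, .ofNat 0, .ofNat 0, .ofNat 1, .ofNat 2, .ofNat 1, .ofNat 1, .ofNat 0, .ofNat 0, .ofNat 0, .ofNat 0, .ofNat 0, .ofNat 0, .ofNat 0, .ofNat 0, .ofNat 0, .ofNat 0, .ofNat 0, .ofNat 0, .ofNat 0, .ofNat 0, .ofNat 0, .ofNat 0, .ofNat 1, .ofNat 1, .ofNat 2, .ofNat 0,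 .ofNat 1, .ofNat 2, .ofNat 1, .ofNat 2, .ofNat 0, .ofNat 0, .ofNat 0, .ofNat 0, .ofNat 0, .ofNat 1, .ofNat 2, .ofNat 0, .ofNat 1, .ofNat 2, .ofNat 3, .ofNat 2, .ofNat 0, .ofNat 0, .ofNat 0, .ofNat 0, .ofNat 0, .ofNat 0, .ofNat 2, .ofNat 0, .ofNat 2, .ofNat 2, .ofNat 0, .ofNat 3, .ofNat 0, .ofNat 0, .ofNat 0, .ofNat 0, .ofNat 0, .ofNat 0, .ofNat 0, .ofNat 0, .ofNat 0, .ofNat 0, .ofNat 0, .ofNat 0, .ofNat 0, .ofNat 0, .ofNat 0, .ofNat 0, .ofNat 0, .ofNat 0, .ofNat 0, .ofNat 0, .ofNat 1, .ofNat 2, .ofNat 2, .ofNat 4, .ofNat 0, .ofNat 0, .ofNat 0, .ofNat 0, .ofNat 0, .ofNat 0, .ofNat 0, .ofNat 0, .ofNat 0, .ofNat 2, .ofNat 5, .ofNat 6, .ofNat 0, .ofNat 0, .ofNat 0, .ofNat 0, .ofNat 0, .ofNat 0, .ofNat 0, .ofNat 0, .ofNat 0, .ofNat 0, .ofNat 7, .ofNat 5, .ofNat 0, .ofNat 0, .ofNat 0, .ofNat 0,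 .ofNat 0, .ofNat 0, .ofNat 0, .ofNat 0, .ofNat 0, .ofNat 0, .ofNat 0, .ofNat 8, .ofNat 0, .ofNat 0, .ofNat 0, .ofNat 0, .ofNat 0, .ofNat 0, .ofNat 0, .ofNat 0, .ofNat 0, .ofNat 0, .ofNat 0, .ofNat 0, .ofNat 0, .ofNat 0, .ofNat 0, .ofNat 0, .ofNat 0, .ofNat 0, .ofNat 0, .ofNat 0],
    [.ofNat 0, .ofNat 0, .ofNat 0, .ofNat 0, .ofNat 0, .ofNat 0, .ofNat 1, .ofNat 0, .ofNat 0, .ofNat 1, .ofNat 0, .ofNat 1, .ofNat 0, .ofNat 0, .ofNat 0, .ofNat 0, .ofNat 0, .ofNat 0, .negSucc 0, .ofNat 0, .ofNat 0, .negSucc 0, .ofNat 0, .ofNat 0, .ofNat 0, .ofNat 0, .ofNat 0, .ofNat 0, .ofNat 1, .ofNat 1, .ofNat 0, .ofNat 0, .ofNat 1, .ofNat 0, .ofNat 0, .ofNat 0, .ofNat 0, .ofNat 0, .ofNat 0, .ofNat 0, .ofNat 0, .ofNat 0, .ofNat 0, .ofNat 0, .ofNat 0, .ofNat 0, .ofNat 0, .ofNat 0, .ofNat 0, .ofNat 0, .ofNat 0,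 .ofNat 0, .ofNat 0, .ofNat 0, .ofNat 0, .ofNat 0, .ofNat 0, .ofNat 0, .ofNat 1, .ofNat 0, .ofNat 0, .ofNat 0, .ofNat 0, .ofNat 0, .ofNat 0, .ofNat 0, .ofNat 0, .ofNat 0, .ofNat 0, .ofNat 0, .ofNat 0, .ofNat 0, .ofNat 0, .ofNat 0, .ofNat 0, .ofNat 0, .ofNat 0, .ofNat 0, .ofNat 0, .ofNat 0, .ofNat 2, .ofNat 0, .ofNat 0, .negSucc 0, .ofNat 0, .ofNat 0, .ofNat 0, .ofNat 0, .ofNat 0, .ofNat 0, .ofNat 0, .ofNat 0, .ofNat 0, .ofNat 0, .ofNat 0, .ofNat 0, .ofNat 0, .ofNat 0, .ofNat 0, .ofNat 0, .ofNat 0, .ofNat 0, .ofNat 0, .ofNat 0, .ofNat 0, .ofNat 0, .ofNat 1, .ofNat 1, .ofNat 0, .ofNat 0, .ofNat 0, .ofNat 0, .ofNat 0, .ofNat 0, .ofNat 0, .ofNat 0, .ofNat 0, .ofNat 0, .negSucc 0, .ofNat 0, .ofNat 0, .ofNat 0, .ofNat 0, .ofNat 0, .ofNat 0, .ofNat 0, .ofNat 0, .ofNat 0, .ofNat 0, .ofNat 0, .ofNat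 2, .ofNat 1, .ofNat 0, .ofNat 0, .ofNat 0, .ofNat 0, .ofNat 0, .ofNat 0, .ofNat 0, .ofNat 0, .ofNat 0, .ofNat 0, .ofNat 0, .ofNat 1, .ofNat 0, .ofNat 0, .ofNat 0, .ofNat 0, .ofNat 0, .ofNat 0, .ofNat 0, .ofNat 0, .ofNat 0, .ofNat 0, .ofNat 0, .ofNat 0, .ofNat 0, .ofNat 0, .ofNat 0, .ofNat 0, .ofNat 0, .ofNat 0, .ofNat 0, .ofNat 0],
    [.ofNat 0, .ofNat 0, .ofNat 0, .ofNat 0, .ofNat 0, .ofNat 0, .ofNat 0, .ofNat 0, .ofNat 0, .ofNat 1, .ofNat 0, .ofNat 1, .ofNat 0, .ofNat 0, .ofNat 0, .ofNat 0, .negSucc 0, .ofNat 0, .ofNat 0, .negSucc 0, .ofNat 0, .negSucc 0, .negSucc 0, .ofNat 0, .ofNat 0, .ofNat 0, .ofNat 0, .negSucc 0, .negSucc 0, .ofNat 0, .ofNat 0, .negSucc 0, .negSucc 0, .ofNat 0, .negSucc 0, .ofNat 0, .ofNat 0, .ofNat 0, .ofNat 0, .ofNat 0, .ofNat 1, .ofNat 1, .ofNat 0, .ofNat 0, .ofNat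 1, .ofNat 0, .ofNat 1, .ofNat 0, .ofNat 0, .ofNat 0, .ofNat 0, .ofNat 0, .ofNat 0, .ofNat 1, .ofNat 0, .ofNat 0, .negSucc 0, .negSucc 0, .negSucc 0, .negSucc 0, .ofNat 0, .ofNat 0, .ofNat 0, .ofNat 0, .ofNat 0, .ofNat 0, .ofNat 0, .ofNat 0, .negSucc 0, .ofNat 0, .ofNat 2, .ofNat 1, .ofNat 0, .ofNat 0, .ofNat 0, .ofNat 0, .ofNat 0, .ofNat 0, .ofNat 0, .ofNat 0, .ofNat 0, .ofNat 0, .ofNat 0, .ofNat 0, .ofNat 0, .ofNat 0, .ofNat 0, .ofNat 0, .ofNat 0, .ofNat 0, .ofNat 0, .ofNat 0, .ofNat 0, .ofNat 0, .ofNat 1, .ofNat 2, .ofNat 0, .ofNat 0, .ofNat 0, .ofNat 0, .ofNat 0, .ofNat 0, .ofNat 0, .ofNat 0, .ofNat 0, .ofNat 0, .negSucc 1, .ofNat 0, .ofNat 0, .ofNat 0, .ofNat 0, .ofNat 0, .ofNat 0, .ofNat 0, .ofNat 0, .ofNat 0, .ofNat 0, .negSucc 0, .ofNat 0, .negSucc 1, .ofNat 0, .ofNat 0, .ofNat 0, .ofNat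 0, .ofNat 0, .ofNat 0, .ofNat 0, .ofNat 0, .ofNat 0, .ofNat 0, .negSucc 1, .negSucc 2, .ofNat 0, .ofNat 0, .ofNat 0, .ofNat 0, .ofNat 0, .ofNat 0, .ofNat 0, .ofNat 0, .ofNat 0, .ofNat 0, .ofNat 0, .ofNat 1, .ofNat 0, .ofNat 0, .ofNat 0, .ofNat 0, .ofNat 0, .ofNat 0, .ofNat 0, .ofNat 0, .ofNat 0, .ofNat 0, .ofNat 0, .ofNat 0, .ofNat 0, .ofNat 0, .ofNat 0, .ofNat 0, .ofNat 0, .ofNat 0, .ofNat 0, .ofNat 0],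
    [.ofNat 0, .ofNat 0, .ofNat 0, .ofNat 0, .ofNat 0, .ofNat 0, .ofNat 0, .ofNat 0, .ofNat 0, .ofNat 1, .ofNat 1, .ofNat 0, .ofNat 0, .ofNat 0, .ofNat 0, .ofNat 0, .ofNat 0, .ofNat 0, .ofNat 0, .ofNat 0, .ofNat 0, .negSucc 0, .ofNat 0, .negSucc 0, .ofNat 0, .ofNat 0, .ofNat 0, .ofNat 0, .negSucc 0, .ofNat 0, .ofNat 0, .ofNat 0, .ofNat 0, .ofNat 0, .negSucc 0, .negSucc 0, .ofNat 0, .ofNat 0, .ofNat 0, .ofNat 0, .ofNat 0, .ofNat 0, .ofNat 0, .ofNat 0, .ofNat 0, .ofNat 0, .ofNat 0, .ofNat 0, .ofNat 0, .ofNat 0, .ofNat 0, .ofNat 0, .ofNat 0, .ofNat 1, .ofNat 0, .ofNat 0, .ofNat 1, .ofNat 0, .ofNat 1, .negSucc 0, .ofNat 0, .ofNat 0, .ofNat 0, .ofNat 0, .ofNat 0, .ofNat 0, .ofNat 0, .ofNat 0, .ofNat 0, .ofNat 0, .ofNat 0, .negSucc 0, .ofNat 0, .ofNat 0, .ofNat 0, .ofNat 0, .ofNat 0, .ofNat 0, .ofNat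 0, .ofNat 0, .ofNat 0, .ofNat 0, .ofNat 0, .ofNat 0, .ofNat 0, .ofNat 0, .ofNat 0, .ofNat 0, .ofNat 0, .ofNat 0, .ofNat 0, .ofNat 0, .ofNat 0, .ofNat 0, .ofNat 0, .ofNat 0, .ofNat 0, .ofNat 0, .ofNat 0, .ofNat 0, .ofNat 0, .ofNat 0, .ofNat 0, .ofNat 0, .ofNat 0, .ofNat 0, .ofNat 0, .ofNat 0, .ofNat 0, .ofNat 0, .ofNat 0, .ofNat 0, .ofNat 0, .ofNat 0, .ofNat 0, .ofNat 0, .ofNat 0, .ofNat 0, .negSucc 0, .ofNat 1, .ofNat 0, .ofNat 0, .ofNat 0, .ofNat 0, .ofNat 0, .ofNat 0, .ofNat 0, .ofNat 0, .ofNat 0, .ofNat 0, .ofNat 0, .ofNat 1, .ofNat 0, .ofNat 0, .ofNat 0, .ofNat 0, .ofNat 0, .ofNat 0, .ofNat 0, .ofNat 0, .ofNat 0, .ofNat 0, .ofNat 0, .ofNat 1, .ofNat 0, .ofNat 0, .ofNat 0, .ofNat 0, .ofNat 0, .ofNat 0, .ofNat 0, .ofNat 0, .ofNat 0, .ofNat 0, .ofNat 0, .ofNat 0, .ofNat 0, .ofNat 0, .ofNat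 0, .ofNat 0, .ofNat 0, .ofNat 0, .ofNat 0, .ofNat 0],
    [.ofNat 0, .ofNat 0, .ofNat 0, .ofNat 0, .ofNat 0, .ofNat 0, .ofNat 1, .ofNat 0, .ofNat 0, .ofNat 0, .ofNat 0, .ofNat 1, .ofNat 0, .ofNat 0, .ofNat 0, .ofNat 0, .ofNat 0, .ofNat 0, .negSucc 0, .ofNat 0, .ofNat 0, .ofNat 0, .negSucc 0, .negSucc 0, .ofNat 0, .ofNat 0, .ofNat 0, .ofNat 0, .ofNat 0, .negSucc 0, .ofNat 0, .ofNat 0, .ofNat 0, .ofNat 0, .ofNat 0, .negSucc 0, .ofNat 0, .ofNat 0, .ofNat 0, .ofNat 0, .ofNat 0, .ofNat 0, .ofNat 0, .ofNat 0, .ofNat 0, .ofNat 0, .ofNat 0, .ofNat 0, .ofNat 0, .ofNat 0, .ofNat 0, .ofNat 0, .ofNat 0, .negSucc 0, .ofNat 0, .ofNat 0, .ofNat 0, .ofNat 0, .ofNat 0, .negSucc 0, .ofNat 0, .ofNat 0, .ofNat 0, .ofNat 0, .ofNat 0, .ofNat 0, .ofNat 0, .ofNat 0, .ofNat 1, .ofNat 0, .ofNat 1, .ofNat 0, .ofNat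 0, .ofNat 0, .ofNat 0, .ofNat 0, .ofNat 0, .ofNat 0, .ofNat 0, .ofNat 0, .ofNat 2, .ofNat 0, .ofNat 1, .ofNat 0, .ofNat 0, .ofNat 0, .ofNat 0, .ofNat 0, .ofNat 0, .ofNat 0, .ofNat 0, .ofNat 0, .ofNat 0, .ofNat 0, .ofNat 0, .ofNat 0, .ofNat 0, .ofNat 0, .ofNat 0, .ofNat 0, .ofNat 0, .ofNat 0, .ofNat 0, .ofNat 0, .ofNat 0, .ofNat 0, .ofNat 1, .ofNat 1, .ofNat 0, .ofNat 0, .ofNat 0, .ofNat 0, .ofNat 0, .ofNat 0, .ofNat 0, .ofNat 0, .ofNat 0, .ofNat 0, .ofNat 0, .ofNat 0, .ofNat 0, .ofNat 0, .ofNat 0, .ofNat 0, .ofNat 0, .ofNat 0, .ofNat 0, .ofNat 0, .ofNat 0, .ofNat 0, .ofNat 1, .ofNat 0, .ofNat 0, .ofNat 0, .ofNat 0, .ofNat 0, .ofNat 0, .ofNat 0, .ofNat 0, .ofNat 0, .ofNat 0, .ofNat 0, .ofNat 0, .ofNat 0, .ofNat 0, .ofNat 0, .ofNat 0, .ofNat 0, .ofNat 0, .ofNat 0, .ofNat 0, .ofNat 0, .ofNat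 0, .ofNat 0, .ofNat 0, .ofNat 0, .ofNat 0, .ofNat 0, .ofNat 0, .ofNat 0, .ofNat 0, .ofNat 0, .ofNat 0, .ofNat 0],
    [.ofNat 0, .ofNat 0, .ofNat 0, .ofNat 0, .ofNat 0, .ofNat 0, .ofNat 0, .ofNat 0, .ofNat 0, .ofNat 0, .ofNat 0, .ofNat 0, .ofNat 0, .ofNat 0, .ofNat 0, .ofNat 0, .ofNat 0, .ofNat 0, .ofNat 0, .ofNat 0, .ofNat 0, .ofNat 0, .negSucc 0, .negSucc 0, .ofNat 0, .ofNat 0, .ofNat 0, .ofNat 0, .ofNat 0, .ofNat 0, .negSucc 0, .ofNat 0, .ofNat 0, .ofNat 0, .negSucc 0, .negSucc 0, .ofNat 0, .ofNat 0, .ofNat 0, .ofNat 0, .ofNat 0, .ofNat 0, .ofNat 0, .ofNat 0, .ofNat 0, .ofNat 0, .ofNat 0, .ofNat 0, .ofNat 0, .ofNat 0, .ofNat 0, .ofNat 0, .ofNat 0, .ofNat 0, .negSucc 0, .ofNat 0, .ofNat 0, .ofNat 0, .ofNat 0, .negSucc 0, .ofNat 0, .ofNat 0, .ofNat 0, .ofNat 0, .ofNat 0, .ofNat 0, .negSucc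 0, .ofNat 0, .ofNat 0, .ofNat 0, .ofNat 0, .ofNat 0, .ofNat 0, .ofNat 0, .ofNat 0, .ofNat 0, .ofNat 0, .ofNat 0, .ofNat 0, .ofNat 0, .ofNat 1, .ofNat 0, .ofNat 1, .ofNat 0, .ofNat 0, .ofNat 0, .ofNat 0, .ofNat 0, .ofNat 0, .ofNat 0, .ofNat 0, .ofNat 0, .ofNat 0, .ofNat 0, .ofNat 0, .ofNat 0, .ofNat 0, .ofNat 0, .ofNat 0, .ofNat 0, .ofNat 0, .ofNat 0, .ofNat 0, .ofNat 0, .ofNat 0, .ofNat 0, .negSucc 0, .negSucc 0, .ofNat 0, .ofNat 0, .ofNat 0, .ofNat 0, .ofNat 0, .ofNat 0, .ofNat 0, .ofNat 0, .ofNat 0, .ofNat 0, .ofNat 0, .ofNat 0, .ofNat 0, .ofNat 0, .ofNat 0, .ofNat 0, .ofNat 0, .ofNat 0, .ofNat 0, .ofNat 0, .ofNat 0, .ofNat 0, .negSucc 0, .negSucc 0, .ofNat 0, .ofNat 0, .ofNat 0, .ofNat 0, .ofNat 0, .ofNat 0, .ofNat 0, .ofNat 0, .ofNat 0, .ofNat 0, .ofNat 0, .negSucc 0, .ofNat 0, .ofNat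 0, .ofNat 0, .ofNat 0, .ofNat 0, .ofNat 0, .ofNat 0, .ofNat 0, .ofNat 0, .ofNat 0, .ofNat 0, .ofNat 0, .ofNat 0, .ofNat 0, .ofNat 0, .ofNat 0, .ofNat 0, .ofNat 0, .ofNat 0, .ofNat 0]]

def sp1 : List (ℕ × List ℕ × List ℕ) := [(0, [7], [1, 0]),
    (0, [8], [1, 0]),
    (0, [9], [1, 0]),
    (0, [10], [1, 0]),
    (0, [11], [1, 0]),
    (0, [2], [2, 0]),
    (0, [2], [0, 0]),
    (0, [3], [2, 0])]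

def rv1 : List (List ℤ) := [[.ofNat 0, .ofNat 0, .ofNat 0, .ofNat 0, .ofNat 0, .ofNat 0, .ofNat 0, .ofNat 0, .ofNat 1, .ofNat 1, .ofNat 1, .ofNat 1, .ofNat 0, .ofNat 0, .ofNat 0, .ofNat 0, .ofNat 0, .ofNat 0, .ofNat 0, .ofNat 0, .negSucc 0, .negSucc 0, .ofNat 0, .ofNat 0, .ofNat 0, .ofNat 0, .ofNat 0, .ofNat 0, .ofNat 0, .ofNat 0, .ofNat 0, .negSucc 0, .ofNat 0, .ofNat 0, .negSucc 0, .negSucc 0, .ofNat 0, .ofNat 0, .ofNat 0, .ofNat 0, .ofNat 0, .ofNat 0, .ofNat 0, .ofNat 0, .ofNat 0, .ofNat 0, .ofNat 0, .ofNat 0, .ofNat 0, .ofNat 0, .ofNat 0, .ofNat 0, .ofNat 0, .ofNat 0, .ofNat 0, .negSucc 0, .ofNat 0, .ofNat 0, .ofNat 0, .ofNat 0, .ofNat 0, .ofNat 0, .ofNat 0, .ofNat 0, .ofNat 0, .ofNat 0, .ofNat 0, .negSucc 0, .ofNat 0, .ofNat 0, .ofNat 0, .ofNat 0, .ofNat 0, .ofNat 0, .ofNat 0, .ofNat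 0, .ofNat 0, .ofNat 0, .ofNat 0, .ofNat 0, .ofNat 0, .ofNat 0, .ofNat 0, .ofNat 0, .ofNat 0, .ofNat 0, .ofNat 0, .ofNat 0, .ofNat 0, .ofNat 0, .ofNat 0, .ofNat 0, .ofNat 1, .ofNat 0, .ofNat 1, .ofNat 0, .ofNat 0, .ofNat 0, .ofNat 0, .ofNat 0, .ofNat 0, .ofNat 0, .ofNat 0, .ofNat 0, .ofNat 0, .ofNat 0, .ofNat 1, .negSucc 1, .ofNat 0, .ofNat 0, .ofNat 0, .ofNat 0, .ofNat 0, .ofNat 0, .ofNat 0, .ofNat 0, .ofNat 0, .ofNat 0, .ofNat 1, .ofNat 0, .ofNat 0, .ofNat 0, .ofNat 0, .ofNat 0, .ofNat 0, .ofNat 0, .ofNat 0, .ofNat 0, .ofNat 0, .ofNat 0, .ofNat 0, .negSucc 0, .ofNat 0, .ofNat 0, .ofNat 0, .ofNat 0, .ofNat 0, .ofNat 0, .ofNat 0, .ofNat 0, .ofNat 0, .ofNat 0, .ofNat 0, .ofNat 0, .ofNat 0, .ofNat 0, .ofNat 0, .ofNat 0, .ofNat 0, .ofNat 0, .ofNat 0, .ofNat 0, .ofNat 0, .ofNat 0, .ofNat 0, .ofNat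 0, .ofNat 0, .ofNat 0, .ofNat 0, .ofNat 0, .ofNat 0, .ofNat 0, .ofNat 0, .ofNat 0],
    [.ofNat 0, .ofNat 0, .ofNat 0, .ofNat 0, .ofNat 0, .ofNat 0, .ofNat 0, .ofNat 0, .ofNat 0, .ofNat 0, .ofNat 0, .ofNat 0, .ofNat 0, .ofNat 0, .ofNat 0, .ofNat 0, .ofNat 0, .ofNat 0, .ofNat 0, .ofNat 0, .ofNat 0, .ofNat 0, .ofNat 0, .negSucc 0, .ofNat 0, .ofNat 0, .ofNat 0, .ofNat 0, .ofNat 0, .ofNat 0, .ofNat 0, .ofNat 0, .negSucc 0, .ofNat 0, .ofNat 0, .negSucc 0, .ofNat 0, .ofNat 0, .ofNat 0, .ofNat 0, .ofNat 0, .ofNat 0, .ofNat 0, .ofNat 0, .ofNat 0, .ofNat 0, .ofNat 0, .ofNat 0, .ofNat 0, .ofNat 0, .ofNat 0, .ofNat 0, .ofNat 0, .ofNat 0, .ofNat 0, .ofNat 0, .negSucc 0, .ofNat 0, .negSucc 0, .negSucc 0, .ofNat 0, .ofNat 0, .ofNat 0, .ofNat 0, .ofNat 0, .ofNat 0, .ofNat 0, .ofNat 0, .negSucc 0, .ofNat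 0, .negSucc 0, .negSucc 0, .ofNat 0, .ofNat 0, .ofNat 0, .ofNat 0, .ofNat 0, .ofNat 0, .ofNat 0, .ofNat 0, .ofNat 0, .ofNat 0, .ofNat 0, .ofNat 0, .ofNat 0, .ofNat 0, .ofNat 0, .ofNat 0, .ofNat 0, .ofNat 0, .ofNat 0, .ofNat 0, .ofNat 0, .ofNat 0, .ofNat 0, .ofNat 0, .ofNat 0, .ofNat 0, .ofNat 0, .ofNat 0, .ofNat 0, .ofNat 0, .ofNat 0, .ofNat 0, .ofNat 0, .ofNat 0, .ofNat 1, .negSucc 0, .ofNat 0, .ofNat 0, .ofNat 0, .ofNat 0, .ofNat 0, .ofNat 0, .ofNat 0, .ofNat 0, .ofNat 0, .ofNat 0, .ofNat 0, .ofNat 0, .ofNat 0, .ofNat 0, .ofNat 0, .ofNat 0, .ofNat 0, .ofNat 0, .ofNat 0, .ofNat 0, .ofNat 0, .ofNat 0, .negSucc 0, .negSucc 0, .ofNat 0, .ofNat 0, .ofNat 0, .ofNat 0, .ofNat 0, .ofNat 0, .ofNat 0, .ofNat 0, .ofNat 0, .ofNat 0, .ofNat 0, .ofNat 0, .ofNat 0, .ofNat 0, .ofNat 0, .ofNat 0, .ofNat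 0, .ofNat 0, .ofNat 0, .ofNat 0, .ofNat 0, .ofNat 0, .ofNat 0, .ofNat 0, .ofNat 0, .ofNat 0, .ofNat 0, .ofNat 0, .ofNat 0, .ofNat 0, .ofNat 0, .ofNat 0],
    [.ofNat 0, .ofNat 0, .ofNat 0, .ofNat 0, .ofNat 0, .ofNat 0, .ofNat 0, .ofNat 0, .ofNat 0, .ofNat 0, .ofNat 0, .ofNat 0, .ofNat 0, .ofNat 0, .ofNat 0, .ofNat 0, .ofNat 0, .ofNat 0, .ofNat 0, .ofNat 0, .ofNat 0, .ofNat 0, .negSucc 0, .negSucc 0, .ofNat 0, .ofNat 0, .ofNat 0, .ofNat 0, .ofNat 0, .ofNat 0, .ofNat 0, .ofNat 0, .ofNat 0, .negSucc 0, .negSucc 0, .negSucc 0, .ofNat 0, .ofNat 0, .ofNat 0, .ofNat 0, .ofNat 0, .ofNat 0, .ofNat 0, .ofNat 0, .ofNat 0, .ofNat 0, .ofNat 0, .ofNat 0, .ofNat 0, .ofNat 0, .ofNat 0, .ofNat 0, .ofNat 0, .ofNat 0, .ofNat 0, .ofNat 0, .ofNat 0, .negSucc 0, .negSucc 0, .ofNat 0, .ofNat 0, .ofNat 0, .ofNat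 0, .ofNat 0, .ofNat 0, .ofNat 0, .ofNat 0, .ofNat 0, .ofNat 0, .negSucc 0, .negSucc 0, .ofNat 0, .ofNat 0, .ofNat 0, .ofNat 0, .ofNat 0, .ofNat 0, .ofNat 0, .ofNat 0, .ofNat 0, .ofNat 0, .ofNat 0, .ofNat 0, .ofNat 0, .ofNat 0, .ofNat 0, .ofNat 0, .ofNat 0, .ofNat 0, .ofNat 0, .ofNat 0, .ofNat 0, .ofNat 0, .ofNat 0, .ofNat 0, .ofNat 0, .ofNat 0, .ofNat 0, .ofNat 0, .ofNat 0, .ofNat 0, .ofNat 0, .ofNat 0, .ofNat 0, .ofNat 0, .negSucc 0, .negSucc 0, .negSucc 0, .ofNat 0, .ofNat 0, .ofNat 0, .ofNat 0, .ofNat 0, .ofNat 0, .ofNat 0, .ofNat 0, .ofNat 0, .ofNat 0, .ofNat 1, .ofNat 0, .ofNat 0, .ofNat 0, .ofNat 0, .ofNat 0, .ofNat 0, .ofNat 0, .ofNat 0, .ofNat 0, .ofNat 0, .ofNat 0, .ofNat 0, .negSucc 2, .ofNat 0, .ofNat 0, .ofNat 0, .ofNat 0, .ofNat 0, .ofNat 0, .ofNat 0, .ofNat 0, .ofNat 0, .ofNat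 0, .ofNat 0, .negSucc 0, .ofNat 0, .ofNat 0, .ofNat 0, .ofNat 0, .ofNat 0, .ofNat 0, .ofNat 0, .ofNat 0, .ofNat 0, .ofNat 0, .ofNat 0, .ofNat 0, .ofNat 0, .ofNat 0, .ofNat 0, .ofNat 0, .ofNat 0, .ofNat 0, .ofNat 0, .ofNat 0],
    [.ofNat 0, .ofNat 0, .ofNat 0, .ofNat 0, .ofNat 0, .ofNat 0, .ofNat 0, .ofNat 0, .ofNat 0, .ofNat 0, .ofNat 0, .ofNat 0, .ofNat 0, .ofNat 0, .ofNat 0, .ofNat 0, .ofNat 0, .ofNat 0, .ofNat 0, .ofNat 0, .ofNat 0, .ofNat 0, .ofNat 0, .ofNat 0, .ofNat 0, .ofNat 0, .ofNat 0, .ofNat 0, .ofNat 0, .ofNat 0, .ofNat 0, .ofNat 0, .ofNat 0, .ofNat 0, .negSucc 0, .ofNat 0, .ofNat 0, .ofNat 0, .ofNat 0, .ofNat 0, .ofNat 0, .ofNat 0, .ofNat 0, .ofNat 0, .ofNat 0, .ofNat 0, .ofNat 0, .ofNat 0, .ofNat 0, .ofNat 0, .ofNat 0, .ofNat 0, .ofNat 0, .ofNat 0, .ofNat 0, .ofNat 0, .ofNat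 0, .ofNat 0, .negSucc 0, .ofNat 0, .ofNat 0, .ofNat 0, .ofNat 0, .ofNat 0, .ofNat 0, .ofNat 0, .ofNat 0, .ofNat 0, .ofNat 0, .ofNat 0, .negSucc 0, .ofNat 0, .ofNat 0, .ofNat 0, .ofNat 0, .ofNat 0, .ofNat 0, .ofNat 0, .ofNat 0, .ofNat 0, .ofNat 0, .ofNat 0, .ofNat 0, .ofNat 0, .ofNat 0, .ofNat 0, .ofNat 0, .ofNat 0, .ofNat 0, .ofNat 0, .ofNat 0, .ofNat 0, .ofNat 0, .ofNat 0, .ofNat 0, .ofNat 0, .ofNat 0, .ofNat 0, .ofNat 0, .ofNat 0, .ofNat 0, .ofNat 0, .ofNat 0, .ofNat 0, .ofNat 0, .ofNat 0, .negSucc 0, .ofNat 0, .ofNat 0, .ofNat 0, .ofNat 0, .ofNat 0, .ofNat 0, .ofNat 0, .ofNat 0, .ofNat 0, .ofNat 0, .ofNat 0, .ofNat 0, .ofNat 0, .ofNat 0, .ofNat 0, .ofNat 0, .ofNat 0, .ofNat 0, .ofNat 0, .ofNat 0, .ofNat 0, .ofNat 0, .ofNat 0, .ofNat 0, .ofNat 0, .ofNat 0, .ofNat 0, .ofNat 0, .ofNat 0, .ofNat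 0, .ofNat 0, .ofNat 0, .ofNat 0, .ofNat 0, .ofNat 0, .ofNat 0, .ofNat 0, .ofNat 0, .ofNat 0, .ofNat 0, .ofNat 0, .ofNat 0, .ofNat 0, .ofNat 0, .ofNat 0, .ofNat 0, .ofNat 0, .ofNat 0, .ofNat 0, .ofNat 0, .ofNat 0, .ofNat 0, .ofNat 0, .ofNat 0, .ofNat 0, .ofNat 0, .ofNat 0],
    [.ofNat 0, .ofNat 0, .ofNat 0, .ofNat 0, .ofNat 0, .ofNat 0, .ofNat 0, .ofNat 0, .ofNat 0, .ofNat 0, .ofNat 0, .ofNat 0, .ofNat 0, .ofNat 0, .ofNat 0, .ofNat 0, .ofNat 0, .ofNat 0, .ofNat 0, .ofNat 0, .ofNat 0, .ofNat 0, .ofNat 0, .ofNat 0, .ofNat 0, .ofNat 0, .ofNat 0, .ofNat 0, .ofNat 0, .ofNat 0, .ofNat 0, .ofNat 0, .ofNat 0, .ofNat 0, .ofNat 0, .negSucc 0, .ofNat 0, .ofNat 0, .ofNat 0, .ofNat 0, .ofNat 0, .ofNat 0, .ofNat 0, .ofNat 0, .ofNat 0, .ofNat 0, .ofNat 0, .ofNat 0, .ofNat 0, .ofNat 0, .ofNat 0, .ofNat 0,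 .ofNat 0, .ofNat 0, .ofNat 0, .ofNat 0, .ofNat 0, .ofNat 0, .ofNat 0, .negSucc 0, .ofNat 0, .ofNat 0, .ofNat 0, .ofNat 0, .ofNat 0, .ofNat 0, .ofNat 0, .ofNat 0, .ofNat 0, .ofNat 0, .ofNat 0, .negSucc 0, .ofNat 0, .ofNat 0, .ofNat 0, .ofNat 0, .ofNat 0, .ofNat 0, .ofNat 0, .ofNat 0, .ofNat 0, .ofNat 0, .ofNat 0, .ofNat 0, .ofNat 0, .ofNat 0, .ofNat 0, .ofNat 0, .ofNat 0, .ofNat 0, .ofNat 0, .ofNat 0, .ofNat 0, .ofNat 0, .ofNat 0, .ofNat 0, .ofNat 0, .ofNat 0, .ofNat 0, .ofNat 0, .ofNat 0, .ofNat 0, .ofNat 0, .ofNat 0, .ofNat 0, .ofNat 0, .ofNat 0, .negSucc 0, .ofNat 0, .ofNat 0, .ofNat 0, .ofNat 0, .ofNat 0, .ofNat 0, .ofNat 0, .ofNat 0, .ofNat 0, .ofNat 0, .ofNat 0, .ofNat 0, .ofNat 0, .ofNat 0, .ofNat 0, .ofNat 0, .ofNat 0, .ofNat 0, .ofNat 0, .ofNat 0, .ofNat 0, .ofNat 0, .ofNat 0, .negSucc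 0, .ofNat 0, .ofNat 0, .ofNat 0, .ofNat 0, .ofNat 0, .ofNat 0, .ofNat 0, .ofNat 0, .ofNat 0, .ofNat 0, .ofNat 0, .ofNat 0, .ofNat 0, .ofNat 0, .ofNat 0, .ofNat 0, .ofNat 0, .ofNat 0, .ofNat 0, .ofNat 0, .ofNat 0, .ofNat 0, .ofNat 0, .ofNat 0, .ofNat 0, .ofNat 0, .ofNat 0, .ofNat 0, .ofNat 0, .ofNat 0, .ofNat 0, .ofNat 0],
    [.ofNat 0, .ofNat 0, .negSucc 1, .ofNat 0, .ofNat 0, .ofNat 0, .ofNat 0, .ofNat 0, .ofNat 0, .ofNat 0, .ofNat 1, .ofNat 0, .ofNat 0, .ofNat 0, .ofNat 0, .ofNat 0, .ofNat 0, .ofNat 0, .ofNat 0, .ofNat 0, .ofNat 0, .ofNat 0, .ofNat 0, .ofNat 0, .ofNat 0, .ofNat 0, .ofNat 0, .ofNat 0, .ofNat 0, .ofNat 0, .negSucc 0, .ofNat 0, .ofNat 0, .negSucc 0, .ofNat 0, .ofNat 0, .ofNat 0, .ofNat 0, .ofNat 0, .ofNat 0, .ofNat 0, .ofNat 0, .ofNat 0, .ofNat 0, .ofNat 0, .ofNat 0, .ofNat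 0, .ofNat 0, .ofNat 0, .ofNat 0, .ofNat 0, .ofNat 0, .ofNat 0, .ofNat 0, .ofNat 0, .ofNat 0, .ofNat 0, .ofNat 0, .ofNat 0, .ofNat 0, .ofNat 0, .ofNat 0, .ofNat 0, .ofNat 0, .ofNat 0, .ofNat 0, .ofNat 0, .ofNat 0, .ofNat 0, .ofNat 0, .ofNat 0, .ofNat 0, .ofNat 0, .ofNat 0, .ofNat 0, .ofNat 0, .ofNat 0, .ofNat 0, .negSucc 0, .ofNat 0, .ofNat 0, .negSucc 0, .negSucc 0, .negSucc 0, .ofNat 0, .ofNat 0, .ofNat 0, .ofNat 0, .ofNat 0, .ofNat 0, .ofNat 0, .ofNat 0, .ofNat 0, .ofNat 0, .ofNat 0, .ofNat 0, .ofNat 0, .ofNat 0, .ofNat 0, .ofNat 0, .ofNat 0, .ofNat 0, .ofNat 0, .ofNat 0, .ofNat 0, .ofNat 0, .ofNat 0, .ofNat 0, .ofNat 0, .ofNat 0, .ofNat 0, .ofNat 0, .ofNat 0, .ofNat 0, .ofNat 0, .ofNat 0, .ofNat 0, .negSucc 0, .negSucc 1, .negSucc 0, .ofNat 0, .ofNat 0, .ofNat 0, .ofNat 0, .ofNat 0, .ofNat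 0, .ofNat 0, .ofNat 0, .ofNat 0, .ofNat 0, .negSucc 0, .ofNat 0, .ofNat 0, .ofNat 0, .ofNat 0, .ofNat 0, .ofNat 0, .ofNat 0, .ofNat 0, .ofNat 0, .ofNat 0, .ofNat 0, .ofNat 0, .negSucc 0, .ofNat 0, .ofNat 0, .ofNat 0, .ofNat 0, .ofNat 0, .ofNat 0, .ofNat 0, .ofNat 0, .ofNat 0, .ofNat 0, .ofNat 0, .ofNat 0, .ofNat 0, .ofNat 0, .ofNat 0, .ofNat 0, .ofNat 0, .ofNat 0, .ofNat 0, .ofNat 0],
    [.ofNat 0, .ofNat 0, .ofNat 2, .ofNat 0, .ofNat 0, .ofNat 0, .ofNat 1, .ofNat 0, .ofNat 0, .ofNat 1, .ofNat 0, .ofNat 0, .ofNat 0, .ofNat 0, .ofNat 0, .ofNat 0, .ofNat 0, .ofNat 0, .ofNat 0, .ofNat 0, .ofNat 0, .ofNat 0, .ofNat 0, .ofNat 0, .ofNat 0, .ofNat 0, .ofNat 0, .ofNat 0, .ofNat 1, .ofNat 1, .ofNat 0, .ofNat 0, .ofNat 0, .ofNat 1, .ofNat 1, .ofNat 0, .ofNat 0, .ofNat 0, .ofNat 0, .ofNat 0, .ofNat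 0, .ofNat 0, .ofNat 0, .ofNat 0, .ofNat 0, .ofNat 0, .ofNat 0, .ofNat 0, .ofNat 0, .ofNat 0, .ofNat 0, .ofNat 0, .ofNat 0, .ofNat 0, .ofNat 0, .ofNat 0, .ofNat 0, .ofNat 0, .ofNat 0, .ofNat 0, .ofNat 0, .ofNat 0, .ofNat 0, .ofNat 0, .ofNat 0, .ofNat 0, .ofNat 0, .ofNat 0, .ofNat 0, .ofNat 0, .negSucc 0, .ofNat 0, .ofNat 0, .ofNat 0, .ofNat 0, .ofNat 0, .ofNat 0, .ofNat 0, .ofNat 1, .ofNat 0, .ofNat 0, .ofNat 1, .ofNat 2, .ofNat 2, .ofNat 0, .ofNat 0, .ofNat 0, .ofNat 0, .ofNat 0, .ofNat 0, .ofNat 0, .ofNat 0, .ofNat 0, .ofNat 0, .ofNat 0, .ofNat 0, .ofNat 0, .ofNat 0, .ofNat 0, .ofNat 0, .ofNat 0, .ofNat 0, .ofNat 0, .ofNat 0, .ofNat 0, .ofNat 0, .ofNat 0, .ofNat 0, .ofNat 0, .ofNat 0, .ofNat 0, .ofNat 0, .ofNat 0, .ofNat 0, .ofNat 0, .ofNat 0, .ofNat 0, .ofNat 1, .ofNat 1, .ofNat 2, .ofNat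 0, .ofNat 0, .ofNat 0, .ofNat 0, .ofNat 0, .ofNat 0, .ofNat 0, .ofNat 0, .ofNat 0, .ofNat 0, .ofNat 2, .ofNat 3, .ofNat 0, .ofNat 0, .ofNat 0, .ofNat 0, .ofNat 0, .ofNat 0, .ofNat 0, .ofNat 0, .ofNat 0, .ofNat 0, .ofNat 0, .ofNat 2, .ofNat 0, .ofNat 0, .ofNat 0, .ofNat 0, .ofNat 0, .ofNat 0, .ofNat 0, .ofNat 0, .ofNat 0, .ofNat 0, .ofNat 0, .ofNat 0, .ofNat 0, .ofNat 0, .ofNat 0, .ofNat 0, .ofNat 0, .ofNat 0, .ofNat 0, .ofNat 0],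
    [.ofNat 0, .ofNat 0, .ofNat 0, .ofNat 0, .ofNat 0, .ofNat 0, .ofNat 0, .ofNat 1, .ofNat 0, .ofNat 0, .ofNat 0, .ofNat 0, .ofNat 0, .ofNat 0, .ofNat 0, .ofNat 0, .ofNat 0, .ofNat 0, .ofNat 0, .ofNat 0, .ofNat 0, .ofNat 0, .ofNat 0, .ofNat 0, .ofNat 0, .ofNat 0, .ofNat 0, .ofNat 0, .negSucc 0, .ofNat 0, .ofNat 0, .negSucc 0, .ofNat 0, .negSucc 0, .negSucc 0, .ofNat 0, .ofNat 0, .ofNat 0, .ofNat 0, .ofNat 0, .ofNat 0, .ofNat 0, .ofNat 1, .ofNat 0, .ofNat 0, .ofNat 1, .ofNat 0, .ofNat 0, .ofNat 0, .ofNat 0, .ofNat 0, .ofNat 0, .ofNat 0, .ofNat 0, .ofNat 1, .negSucc 0, .ofNat 1, .ofNat 0, .ofNat 0, .ofNat 1, .ofNat 0, .ofNat 0, .ofNat 0, .ofNat 0, .ofNat 0, .ofNat 0, .ofNat 0, .ofNat 0, .ofNat 0, .ofNat 0, .ofNat 0, .ofNat 0, .ofNat 0, .ofNat 0, .ofNat 0, .ofNat 0, .ofNat 0, .ofNat 0, .ofNat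 0, .ofNat 0, .ofNat 0, .negSucc 0, .ofNat 0, .negSucc 0, .ofNat 0, .ofNat 0, .ofNat 0, .ofNat 0, .ofNat 0, .ofNat 0, .ofNat 0, .ofNat 0, .ofNat 2, .ofNat 1, .ofNat 0, .ofNat 0, .ofNat 0, .ofNat 0, .ofNat 0, .ofNat 0, .ofNat 0, .ofNat 0, .ofNat 0, .ofNat 0, .ofNat 1, .ofNat 1, .ofNat 1, .ofNat 3, .ofNat 0, .ofNat 0, .ofNat 0, .ofNat 0, .ofNat 0, .ofNat 0, .ofNat 0, .ofNat 0, .ofNat 0, .ofNat 1, .ofNat 0, .ofNat 2, .ofNat 0, .ofNat 0, .ofNat 0, .ofNat 0, .ofNat 0, .ofNat 0, .ofNat 0, .ofNat 0, .ofNat 0, .ofNat 0, .negSucc 0, .negSucc 1, .ofNat 0, .ofNat 0, .ofNat 0, .ofNat 0, .ofNat 0, .ofNat 0, .ofNat 0, .ofNat 0, .ofNat 0, .ofNat 0, .ofNat 0, .ofNat 0, .ofNat 0, .ofNat 0, .ofNat 0, .ofNat 0, .ofNat 0, .ofNat 0, .ofNat 0, .ofNat 0, .ofNat 0, .ofNat 0, .ofNat 0, .ofNat 0, .ofNat 0, .ofNat 0,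 .ofNat 0, .ofNat 0, .ofNat 0, .ofNat 0, .ofNat 0, .ofNat 0]]

def sp2 : List (ℕ × List ℕ × List ℕ) := [(0, [4], [2, 0]),
    (0, [5], [2, 0]),
    (0, [6], [2, 0]),
    (0, [7], [2, 0]),
    (0, [8], [2, 0]),
    (0, [9], [2, 0]),
    (0, [10], [2, 0]),
    (0, [11], [2, 0])]

def rv2 : List (List ℤ) := [[.ofNat 0, .ofNat 0, .ofNat 0, .ofNat 0, .ofNat 0, .ofNat 0, .ofNat 0, .ofNat 0, .ofNat 0, .ofNat 0, .ofNat 1, .ofNat 0, .ofNat 0, .ofNat 0, .ofNat 0, .ofNat 0, .ofNat 0, .ofNat 0, .ofNat 0, .ofNat 0, .ofNat 0, .ofNat 0, .ofNat 0, .ofNat 0, .ofNat 0, .ofNat 0, .ofNat 0, .ofNat 0, .ofNat 0, .ofNat 0, .ofNat 0, .ofNat 0, .ofNat 0, .negSucc 0, .ofNat 0, .negSucc 0, .ofNat 0, .ofNat 0, .ofNat 0, .ofNat 0, .ofNat 0, .ofNat 0, .ofNat 0, .ofNat 0, .ofNat 0, .ofNat 0, .ofNat 0, .ofNat 0, .ofNat 0,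 .ofNat 0, .ofNat 0, .ofNat 0, .ofNat 0, .ofNat 0, .ofNat 1, .ofNat 0, .ofNat 0, .ofNat 1, .ofNat 0, .ofNat 0, .ofNat 0, .ofNat 0, .ofNat 0, .ofNat 0, .ofNat 0, .ofNat 0, .ofNat 0, .ofNat 0, .ofNat 0, .ofNat 0, .ofNat 0, .ofNat 0, .ofNat 0, .ofNat 0, .ofNat 0, .ofNat 0, .ofNat 0, .ofNat 0, .ofNat 0, .ofNat 0, .ofNat 0, .negSucc 0, .negSucc 0, .ofNat 0, .ofNat 0, .ofNat 0, .ofNat 0, .ofNat 0, .ofNat 0, .ofNat 0, .ofNat 0, .ofNat 0, .ofNat 0, .ofNat 0, .ofNat 0, .ofNat 0, .ofNat 0, .ofNat 0, .ofNat 0, .ofNat 0, .ofNat 0, .ofNat 0, .ofNat 0, .ofNat 0, .ofNat 0, .ofNat 0, .ofNat 0, .ofNat 0, .ofNat 0, .ofNat 0, .ofNat 0, .ofNat 0, .ofNat 0, .ofNat 0, .ofNat 0, .ofNat 0, .ofNat 0, .ofNat 0, .negSucc 1, .ofNat 2, .ofNat 0, .ofNat 0, .ofNat 0, .ofNat 0, .ofNat 0, .ofNat 0, .ofNat 0, .ofNat 0, .ofNat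 0, .ofNat 0, .ofNat 0, .ofNat 0, .ofNat 0, .ofNat 0, .ofNat 0, .ofNat 0, .ofNat 0, .ofNat 0, .ofNat 0, .ofNat 0, .ofNat 0, .ofNat 0, .ofNat 0, .ofNat 0, .ofNat 0, .ofNat 0, .ofNat 0, .ofNat 0, .ofNat 0, .ofNat 0, .ofNat 0, .ofNat 0, .ofNat 0, .ofNat 0, .ofNat 0, .ofNat 0, .ofNat 0, .ofNat 0, .ofNat 0, .ofNat 0, .ofNat 0, .ofNat 0, .ofNat 0, .ofNat 0],
    [.ofNat 0, .ofNat 0, .ofNat 0, .ofNat 0, .ofNat 0, .ofNat 0, .ofNat 0, .ofNat 0, .ofNat 0, .ofNat 0, .ofNat 0, .ofNat 0, .ofNat 0, .ofNat 0, .ofNat 0, .ofNat 0, .ofNat 0, .ofNat 0, .ofNat 0, .ofNat 0, .ofNat 0, .ofNat 0, .ofNat 0, .ofNat 0, .ofNat 0, .ofNat 0, .ofNat 0, .ofNat 0, .ofNat 0, .ofNat 0, .negSucc 0, .ofNat 0, .ofNat 0, .ofNat 0, .negSucc 0, .negSucc 0, .ofNat 0, .ofNat 0, .ofNat 0, .ofNat 0, .ofNat 0, .ofNat 0, .ofNat 0, .ofNat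 0, .ofNat 0, .ofNat 0, .ofNat 0, .ofNat 0, .ofNat 0, .ofNat 0, .ofNat 0, .ofNat 0, .ofNat 0, .ofNat 0, .ofNat 0, .ofNat 0, .ofNat 0, .ofNat 0, .ofNat 0, .ofNat 0, .ofNat 0, .ofNat 0, .ofNat 0, .ofNat 0, .ofNat 0, .ofNat 0, .ofNat 1, .ofNat 0, .ofNat 0, .ofNat 1, .ofNat 0, .ofNat 0, .ofNat 0, .ofNat 0, .ofNat 0, .ofNat 0, .ofNat 0, .ofNat 0, .ofNat 0, .ofNat 0, .ofNat 0, .ofNat 1, .ofNat 1, .negSucc 0, .ofNat 0, .ofNat 0, .ofNat 0, .ofNat 0, .ofNat 0, .ofNat 0, .ofNat 0, .ofNat 0, .ofNat 0, .ofNat 0, .ofNat 0, .ofNat 0, .ofNat 0, .ofNat 0, .ofNat 0, .ofNat 0, .ofNat 0, .ofNat 0, .ofNat 0, .ofNat 0, .ofNat 0, .ofNat 0, .ofNat 0, .ofNat 0, .ofNat 0, .ofNat 0, .ofNat 0, .ofNat 0, .ofNat 0, .ofNat 0, .ofNat 0, .ofNat 0, .ofNat 0, .ofNat 0, .ofNat 1, .ofNat 2, .ofNat 0, .ofNat 0, .ofNat 0, .ofNat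 0, .ofNat 0, .ofNat 0, .ofNat 0, .ofNat 0, .ofNat 0, .ofNat 0, .ofNat 0, .ofNat 2, .ofNat 0, .ofNat 0, .ofNat 0, .ofNat 0, .ofNat 0, .ofNat 0, .ofNat 0, .ofNat 0, .ofNat 0, .ofNat 0, .ofNat 0, .ofNat 1, .ofNat 0, .ofNat 0, .ofNat 0, .ofNat 0, .ofNat 0, .ofNat 0, .ofNat 0, .ofNat 0, .ofNat 0, .ofNat 0, .ofNat 0, .ofNat 0, .ofNat 0, .ofNat 0, .ofNat 0, .ofNat 0, .ofNat 0, .ofNat 0, .ofNat 0, .ofNat 0],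
    [.ofNat 0, .ofNat 0, .ofNat 0, .ofNat 0, .ofNat 0, .ofNat 0, .ofNat 0, .ofNat 0, .ofNat 0, .ofNat 0, .ofNat 1, .ofNat 0, .ofNat 0, .ofNat 0, .ofNat 0, .ofNat 0, .ofNat 0, .ofNat 0, .ofNat 0, .ofNat 0, .ofNat 0, .ofNat 0, .ofNat 0, .ofNat 0, .ofNat 0, .ofNat 0, .ofNat 0, .ofNat 0, .ofNat 0, .ofNat 0, .ofNat 0, .ofNat 0, .ofNat 0, .ofNat 0, .negSucc 0, .negSucc 0, .ofNat 0, .ofNat 0, .ofNat 0, .ofNat 0, .ofNat 0, .ofNat 0, .ofNat 0, .ofNat 0, .ofNat 0, .ofNat 0, .ofNat 0, .ofNat 0, .ofNat 0, .ofNat 0, .ofNat 0, .ofNat 0, .ofNat 0, .ofNat 0, .ofNat 0, .ofNat 0, .ofNat 0, .ofNat 0, .ofNat 0, .ofNat 0, .ofNat 0, .ofNat 0, .ofNat 0, .ofNat 0, .ofNat 0, .ofNat 0, .ofNat 0, .ofNat 0, .ofNat 0, .ofNat 0, .ofNat 0, .ofNat 0, .ofNat 0, .ofNat 0, .ofNat 0, .ofNat 0, .ofNat 0, .ofNat 0, .ofNat 0, .ofNat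 0, .ofNat 0, .ofNat 1, .ofNat 0, .negSucc 0, .ofNat 0, .ofNat 0, .ofNat 0, .ofNat 0, .ofNat 0, .ofNat 0, .ofNat 0, .ofNat 0, .ofNat 0, .ofNat 0, .ofNat 0, .ofNat 0, .ofNat 0, .ofNat 0, .ofNat 0, .ofNat 0, .ofNat 0, .ofNat 0, .ofNat 0, .ofNat 0, .ofNat 0, .ofNat 0, .ofNat 0, .ofNat 0, .ofNat 0, .ofNat 0, .ofNat 0, .ofNat 0, .ofNat 0, .ofNat 0, .ofNat 0, .ofNat 0, .ofNat 0, .ofNat 0, .ofNat 0, .ofNat 1, .ofNat 0, .ofNat 0, .ofNat 0, .ofNat 0, .ofNat 0, .ofNat 0, .ofNat 0, .ofNat 0, .ofNat 0, .ofNat 0, .ofNat 0, .ofNat 1, .ofNat 0, .ofNat 0, .ofNat 0, .ofNat 0, .ofNat 0, .ofNat 0, .ofNat 0, .ofNat 0, .ofNat 0, .ofNat 0, .ofNat 0, .ofNat 0, .ofNat 0, .ofNat 0, .ofNat 0, .ofNat 0, .ofNat 0, .ofNat 0, .ofNat 0, .ofNat 0, .ofNat 0, .ofNat 0, .ofNat 0, .ofNat 0, .ofNat 0, .ofNat 0, .ofNat 0, .ofNat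 0, .ofNat 0, .ofNat 0, .ofNat 0, .ofNat 0],
    [.ofNat 0, .ofNat 0, .ofNat 0, .ofNat 0, .ofNat 0, .ofNat 0, .ofNat 0, .ofNat 0, .ofNat 0, .ofNat 0, .ofNat 1, .ofNat 1, .ofNat 0, .ofNat 0, .ofNat 0, .ofNat 0, .ofNat 0, .ofNat 0, .ofNat 0, .ofNat 0, .ofNat 0, .ofNat 0, .ofNat 0, .ofNat 0, .ofNat 0, .ofNat 0, .ofNat 0, .ofNat 0, .ofNat 0, .ofNat 0, .ofNat 0, .ofNat 0, .negSucc 0, .negSucc 0, .ofNat 0, .ofNat 0, .ofNat 0, .ofNat 0, .ofNat 0, .ofNat 0, .ofNat 0, .ofNat 0, .ofNat 0, .ofNat 0, .ofNat 0, .ofNat 0, .ofNat 0, .ofNat 0, .ofNat 0, .ofNat 0, .ofNat 0, .ofNat 0, .ofNat 0, .ofNat 0, .ofNat 0, .ofNat 0, .ofNat 0, .ofNat 0, .ofNat 0, .ofNat 0, .ofNat 0, .ofNat 0, .ofNat 0, .ofNat 0, .ofNat 0, .ofNat 0, .ofNat 0, .ofNat 0, .ofNat 0, .ofNat 0, .ofNat 0, .ofNat 0, .ofNat 0, .ofNat 0, .ofNat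 0, .ofNat 0, .ofNat 0, .ofNat 0, .ofNat 0, .negSucc 0, .negSucc 0, .negSucc 0, .ofNat 0, .ofNat 0, .ofNat 0, .ofNat 0, .ofNat 0, .ofNat 0, .ofNat 0, .ofNat 0, .ofNat 0, .ofNat 0, .ofNat 0, .ofNat 1, .ofNat 0, .ofNat 0, .ofNat 0, .ofNat 0, .ofNat 0, .ofNat 0, .ofNat 0, .ofNat 0, .ofNat 0, .ofNat 0, .ofNat 0, .ofNat 1, .negSucc 1, .negSucc 1, .ofNat 0, .ofNat 0, .ofNat 0, .ofNat 0, .ofNat 0, .ofNat 0, .ofNat 0, .ofNat 0, .ofNat 0, .ofNat 0, .negSucc 1, .negSucc 2, .ofNat 0, .ofNat 0, .ofNat 0, .ofNat 0, .ofNat 0, .ofNat 0, .ofNat 0, .ofNat 0, .ofNat 0, .ofNat 0, .negSucc 0, .negSucc 0, .ofNat 0, .ofNat 0, .ofNat 0, .ofNat 0, .ofNat 0, .ofNat 0, .ofNat 0, .ofNat 0, .ofNat 0, .ofNat 0, .ofNat 0, .negSucc 0, .ofNat 0, .ofNat 0, .ofNat 0, .ofNat 0, .ofNat 0, .ofNat 0, .ofNat 0, .ofNat 0, .ofNat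 0, .ofNat 0, .ofNat 0, .ofNat 0, .ofNat 0, .ofNat 0, .ofNat 0, .ofNat 0, .ofNat 0, .ofNat 0, .ofNat 0, .ofNat 0],
    [.ofNat 0, .ofNat 0, .ofNat 0, .ofNat 0, .ofNat 0, .ofNat 0, .ofNat 0, .ofNat 0, .ofNat 0, .ofNat 0, .ofNat 1, .ofNat 0, .ofNat 0, .ofNat 0, .ofNat 0, .ofNat 0, .ofNat 0, .ofNat 0, .ofNat 0, .ofNat 0, .ofNat 0, .ofNat 0, .ofNat 0, .ofNat 0, .ofNat 0, .ofNat 0, .ofNat 0, .ofNat 0, .ofNat 0, .ofNat 0, .ofNat 0, .ofNat 0, .ofNat 0, .ofNat 0, .ofNat 0, .negSucc 0, .ofNat 0, .ofNat 0, .ofNat 0, .ofNat 0, .ofNat 0, .ofNat 0, .ofNat 0, .ofNat 0, .ofNat 0, .ofNat 0, .ofNat 0, .ofNat 0, .ofNat 0, .ofNat 0, .ofNat 0, .ofNat 0, .ofNat 0, .ofNat 0, .ofNat 0, .ofNat 0, .ofNat 0, .ofNat 0, .ofNat 0, .ofNat 0, .ofNat 0, .ofNat 0, .ofNat 0, .ofNat 0, .ofNat 0, .ofNat 0, .ofNat 0, .ofNat 0,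 .ofNat 0, .ofNat 0, .ofNat 0, .ofNat 0, .ofNat 0, .ofNat 0, .ofNat 0, .ofNat 0, .ofNat 0, .ofNat 0, .ofNat 0, .ofNat 0, .negSucc 0, .ofNat 0, .negSucc 0, .negSucc 0, .ofNat 0, .ofNat 0, .ofNat 0, .ofNat 0, .ofNat 0, .ofNat 0, .ofNat 0, .ofNat 0, .ofNat 0, .ofNat 0, .ofNat 0, .ofNat 0, .ofNat 0, .ofNat 0, .ofNat 0, .ofNat 0, .ofNat 0, .ofNat 0, .ofNat 0, .ofNat 0, .ofNat 0, .ofNat 1, .ofNat 0, .ofNat 0, .ofNat 0, .ofNat 0, .ofNat 0, .ofNat 0, .ofNat 0, .ofNat 0, .ofNat 0, .ofNat 0, .ofNat 0, .ofNat 0, .negSucc 0, .negSucc 0, .ofNat 0, .ofNat 0, .ofNat 0, .ofNat 0, .ofNat 0, .ofNat 0, .ofNat 0, .ofNat 0, .ofNat 0, .ofNat 0, .ofNat 0, .ofNat 1, .ofNat 0, .ofNat 0, .ofNat 0, .ofNat 0, .ofNat 0, .ofNat 0, .ofNat 0, .ofNat 0, .ofNat 0, .ofNat 0, .ofNat 0, .ofNat 0, .ofNat 0, .ofNat 0, .ofNat 0,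 .ofNat 0, .ofNat 0, .ofNat 0, .ofNat 0, .ofNat 0, .ofNat 0, .ofNat 0, .ofNat 0, .ofNat 0, .ofNat 0, .ofNat 0, .ofNat 0, .ofNat 0, .ofNat 0, .ofNat 0, .ofNat 0, .ofNat 0],
    [.ofNat 0, .ofNat 0, .ofNat 0, .ofNat 0, .ofNat 0, .ofNat 0, .ofNat 0, .ofNat 0, .ofNat 0, .ofNat 0, .ofNat 0, .ofNat 1, .ofNat 0, .ofNat 0, .ofNat 0, .ofNat 0, .ofNat 0, .ofNat 0, .ofNat 0, .ofNat 0, .ofNat 0, .ofNat 0, .ofNat 0, .ofNat 0, .ofNat 0, .ofNat 0, .ofNat 0, .ofNat 0, .ofNat 0, .ofNat 0, .ofNat 0, .ofNat 0, .ofNat 0, .ofNat 0, .negSucc 0, .negSucc 0, .ofNat 0, .ofNat 0, .ofNat 0, .ofNat 0, .ofNat 0, .ofNat 0, .ofNat 0, .ofNat 0, .ofNat 0, .ofNat 0, .ofNat 0, .ofNat 0, .ofNat 0, .ofNat 0, .ofNat 0, .ofNat 0, .ofNat 0, .ofNat 0, .ofNat 0, .ofNat 0, .ofNat 0, .ofNat 0, .ofNat 0, .ofNat 0, .ofNat 0, .ofNat 0,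 .ofNat 0, .ofNat 0, .ofNat 0, .ofNat 0, .ofNat 0, .ofNat 0, .ofNat 0, .ofNat 0, .ofNat 0, .ofNat 0, .ofNat 0, .ofNat 0, .ofNat 0, .ofNat 0, .ofNat 0, .ofNat 0, .ofNat 0, .ofNat 0, .ofNat 0, .negSucc 0, .negSucc 0, .ofNat 0, .ofNat 0, .ofNat 0, .ofNat 0, .ofNat 0, .ofNat 0, .ofNat 0, .ofNat 0, .ofNat 0, .ofNat 0, .ofNat 0, .ofNat 0, .ofNat 0, .ofNat 0, .ofNat 0, .ofNat 0, .ofNat 0, .ofNat 0, .ofNat 0, .ofNat 0, .ofNat 0, .ofNat 0, .ofNat 0, .ofNat 0, .ofNat 0, .ofNat 0, .ofNat 0, .ofNat 0, .ofNat 0, .ofNat 0, .ofNat 0, .ofNat 0, .ofNat 0, .ofNat 0, .ofNat 0, .negSucc 0, .ofNat 0, .ofNat 0, .ofNat 0, .ofNat 0, .ofNat 0, .ofNat 0, .ofNat 0, .ofNat 0, .ofNat 0, .ofNat 0, .ofNat 0, .ofNat 0, .negSucc 0, .ofNat 0, .ofNat 0, .ofNat 0, .ofNat 0, .ofNat 0, .ofNat 0, .ofNat 0, .ofNat 0, .ofNat 0, .ofNat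 0, .ofNat 0, .ofNat 0, .ofNat 0, .ofNat 0, .ofNat 0, .ofNat 0, .ofNat 0, .ofNat 0, .ofNat 0, .ofNat 0, .ofNat 0, .ofNat 0, .ofNat 0, .ofNat 0, .ofNat 0, .ofNat 0, .ofNat 0, .ofNat 0, .ofNat 0, .ofNat 0, .ofNat 0, .ofNat 0],
    [.ofNat 0, .ofNat 0, .ofNat 0, .ofNat 0, .ofNat 0, .ofNat 0, .ofNat 0, .ofNat 0, .ofNat 0, .ofNat 0, .ofNat 0, .ofNat 0, .ofNat 0, .ofNat 0, .ofNat 0, .ofNat 0, .ofNat 0, .ofNat 0, .ofNat 0, .ofNat 0, .ofNat 0, .ofNat 0, .ofNat 0, .ofNat 0, .ofNat 0, .ofNat 0, .ofNat 0, .ofNat 0, .ofNat 0, .ofNat 0, .ofNat 0, .ofNat 0, .ofNat 0, .ofNat 0, .ofNat 0, .ofNat 0, .ofNat 0, .ofNat 0, .ofNat 0, .ofNat 0, .ofNat 0, .ofNat 0, .ofNat 0, .ofNat 0, .ofNat 0, .ofNat 0, .ofNat 0, .ofNat 0, .ofNat 0, .ofNat 0, .ofNat 0, .ofNat 0, .ofNat 0, .ofNat 0, .ofNat 0, .ofNat 0, .ofNat 0, .ofNat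 0, .ofNat 0, .ofNat 0, .ofNat 0, .ofNat 0, .ofNat 0, .ofNat 0, .ofNat 0, .ofNat 0, .ofNat 0, .ofNat 0, .ofNat 0, .ofNat 0, .ofNat 0, .ofNat 0, .ofNat 0, .ofNat 0, .ofNat 0, .ofNat 0, .ofNat 0, .ofNat 0, .ofNat 0, .ofNat 0, .ofNat 0, .ofNat 0, .negSucc 0, .ofNat 0, .ofNat 0, .ofNat 0, .ofNat 0, .ofNat 0, .ofNat 0, .ofNat 0, .ofNat 0, .ofNat 0, .ofNat 0, .ofNat 0, .ofNat 0, .ofNat 0, .ofNat 0, .ofNat 0, .ofNat 0, .ofNat 0, .ofNat 0, .ofNat 0, .ofNat 0, .ofNat 0, .ofNat 0, .ofNat 0, .ofNat 0, .ofNat 0, .ofNat 0, .ofNat 0, .ofNat 0, .ofNat 0, .ofNat 0, .ofNat 0, .ofNat 0, .ofNat 0, .ofNat 0, .ofNat 0, .negSucc 0, .ofNat 0, .ofNat 0, .ofNat 0, .ofNat 0, .ofNat 0, .ofNat 0, .ofNat 0, .ofNat 0, .ofNat 0, .ofNat 0, .ofNat 0, .ofNat 0, .ofNat 0, .ofNat 0, .ofNat 0, .ofNat 0, .ofNat 0, .ofNat 0, .ofNat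 0, .ofNat 0, .ofNat 0, .ofNat 0, .ofNat 0, .ofNat 0, .ofNat 0, .ofNat 0, .ofNat 0, .ofNat 0, .ofNat 0, .ofNat 0, .ofNat 0, .ofNat 0, .ofNat 0, .ofNat 0, .ofNat 0, .ofNat 0, .ofNat 0, .ofNat 0, .ofNat 0, .ofNat 0, .ofNat 0, .ofNat 0, .ofNat 0, .ofNat 0, .ofNat 0],
    [.ofNat 0, .ofNat 0, .ofNat 0, .ofNat 0, .ofNat 0, .ofNat 0, .ofNat 0, .ofNat 0, .ofNat 0, .ofNat 0, .ofNat 0, .ofNat 0, .ofNat 0, .ofNat 0, .ofNat 0, .ofNat 0, .ofNat 0, .ofNat 0, .ofNat 0, .ofNat 0, .ofNat 0, .ofNat 0, .ofNat 0, .ofNat 0, .ofNat 0, .ofNat 0, .ofNat 0, .ofNat 0, .ofNat 0, .ofNat 0, .ofNat 0, .ofNat 0, .ofNat 0, .ofNat 0, .ofNat 0, .ofNat 0, .ofNat 0, .ofNat 0, .ofNat 0, .ofNat 0, .ofNat 0, .ofNat 0, .ofNat 0, .ofNat 0, .ofNat 0, .ofNat 0, .ofNat 0, .ofNat 0, .ofNat 0, .ofNat 0, .ofNat 0, .ofNat 0, .ofNat 0, .ofNat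 0, .ofNat 0, .ofNat 0, .ofNat 0, .ofNat 0, .ofNat 0, .ofNat 0, .ofNat 0, .ofNat 0, .ofNat 0, .ofNat 0, .ofNat 0, .ofNat 0, .ofNat 0, .ofNat 0, .ofNat 0, .ofNat 0, .ofNat 0, .ofNat 0, .ofNat 0, .ofNat 0, .ofNat 0, .ofNat 0, .ofNat 0, .ofNat 0, .ofNat 0, .ofNat 0, .ofNat 0, .ofNat 0, .ofNat 0, .negSucc 0, .ofNat 0, .ofNat 0, .ofNat 0, .ofNat 0, .ofNat 0, .ofNat 0, .ofNat 0, .ofNat 0, .ofNat 0, .ofNat 0, .ofNat 0, .ofNat 0, .ofNat 0, .ofNat 0, .ofNat 0, .ofNat 0, .ofNat 0, .ofNat 0, .ofNat 0, .ofNat 0, .ofNat 0, .ofNat 0, .ofNat 0, .ofNat 0, .ofNat 0, .ofNat 0, .ofNat 0, .ofNat 0, .ofNat 0, .ofNat 0, .ofNat 0, .ofNat 0, .ofNat 0, .ofNat 0, .ofNat 0, .negSucc 0, .ofNat 0, .ofNat 0, .ofNat 0, .ofNat 0, .ofNat 0, .ofNat 0, .ofNat 0, .ofNat 0, .ofNat 0, .ofNat 0, .ofNat 0, .ofNat 0, .ofNat 0, .ofNat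 0, .ofNat 0, .ofNat 0, .ofNat 0, .ofNat 0, .ofNat 0, .ofNat 0, .ofNat 0, .ofNat 0, .ofNat 0, .ofNat 0, .ofNat 0, .ofNat 0, .ofNat 0, .ofNat 0, .ofNat 0, .ofNat 0, .ofNat 0, .ofNat 0, .ofNat 0, .ofNat 0, .ofNat 0, .ofNat 0, .ofNat 0, .ofNat 0, .ofNat 0, .ofNat 0, .ofNat 0, .ofNat 0, .ofNat 0, .ofNat 0]]

def sp3 : List (ℕ × List ℕ × List ℕ) := [(0, [3], [3, 0]),
    (0, [3], [0, 0]),
    (0, [4], [3, 0]),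
    (0, [5], [3, 0]),
    (0, [6], [3, 0]),
    (0, [7], [3, 0]),
    (0, [8], [3, 0]),
    (0, [9], [3, 0])]

def rv3 : List (List ℤ) := [[.ofNat 0, .ofNat 0, .ofNat 0, .negSucc 1, .ofNat 0, .ofNat 0, .ofNat 0, .ofNat 0, .ofNat 1, .ofNat 1, .ofNat 1, .ofNat 0, .ofNat 0, .ofNat 0, .ofNat 0, .ofNat 0, .ofNat 0, .ofNat 0, .ofNat 0, .ofNat 0, .ofNat 0, .ofNat 0, .ofNat 0, .ofNat 0, .ofNat 0, .ofNat 0, .ofNat 0, .ofNat 0, .ofNat 0, .ofNat 0, .ofNat 0, .ofNat 0, .ofNat 0, .ofNat 0, .ofNat 0, .ofNat 0, .ofNat 0, .ofNat 0, .ofNat 0, .ofNat 0, .negSucc 0, .ofNat 0, .ofNat 0, .negSucc 0, .ofNat 0, .negSucc 0, .negSucc 0, .ofNat 0, .ofNat 0, .ofNat 0, .ofNat 0, .ofNat 0, .negSucc 0, .ofNat 0, .ofNat 0, .negSucc 0, .negSucc 1, .negSucc 0, .negSucc 1, .negSucc 0, .ofNat 0, .ofNat 0, .ofNat 0, .ofNat 0,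 .ofNat 0, .ofNat 0, .ofNat 0, .ofNat 0, .ofNat 0, .ofNat 0, .ofNat 0, .ofNat 0, .ofNat 0, .ofNat 0, .ofNat 0, .ofNat 0, .ofNat 0, .ofNat 0, .ofNat 0, .ofNat 0, .ofNat 0, .ofNat 0, .ofNat 0, .ofNat 0, .ofNat 0, .ofNat 0, .ofNat 0, .ofNat 0, .ofNat 0, .ofNat 0, .ofNat 0, .negSucc 0, .negSucc 1, .negSucc 0, .negSucc 0, .negSucc 1, .ofNat 0, .ofNat 0, .ofNat 0, .ofNat 0, .ofNat 0, .ofNat 0, .ofNat 0, .ofNat 0, .ofNat 0, .ofNat 0, .negSucc 1, .negSucc 0, .ofNat 0, .ofNat 0, .ofNat 0, .ofNat 0, .ofNat 0, .ofNat 0, .ofNat 0, .ofNat 0, .ofNat 0, .negSucc 0, .negSucc 0, .ofNat 0, .ofNat 0, .ofNat 0, .ofNat 0, .ofNat 0, .ofNat 0, .ofNat 0, .ofNat 0, .ofNat 0, .ofNat 0, .ofNat 0, .negSucc 1, .ofNat 0, .ofNat 0, .ofNat 0, .ofNat 0, .ofNat 0, .ofNat 0, .ofNat 0, .ofNat 0, .ofNat 0, .ofNat 0, .ofNat 0,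 .ofNat 0, .ofNat 0, .ofNat 0, .ofNat 0, .ofNat 0, .ofNat 0, .ofNat 0, .ofNat 0, .ofNat 0, .ofNat 0, .ofNat 0, .ofNat 0, .ofNat 0, .ofNat 0, .ofNat 0, .ofNat 0, .ofNat 0, .ofNat 0, .ofNat 0, .ofNat 0, .ofNat 0, .ofNat 0],
    [.ofNat 0, .ofNat 0, .ofNat 0, .ofNat 2, .ofNat 1, .ofNat 0, .ofNat 0, .ofNat 1, .ofNat 0, .ofNat 1, .ofNat 1, .ofNat 0, .ofNat 0, .ofNat 0, .ofNat 0, .ofNat 0, .ofNat 0, .ofNat 0, .ofNat 0, .ofNat 0, .ofNat 0, .ofNat 0, .ofNat 0, .ofNat 0, .ofNat 0, .ofNat 0, .ofNat 0, .negSucc 0, .ofNat 0, .ofNat 0, .ofNat 0, .ofNat 0, .ofNat 0, .ofNat 0, .ofNat 0, .ofNat 0, .ofNat 0, .ofNat 0, .ofNat 0, .ofNat 0, .ofNat 1, .ofNat 1, .ofNat 0, .ofNat 0, .ofNat 0, .ofNat 1, .ofNat 1, .ofNat 0, .ofNat 0, .ofNat 0, .ofNat 0, .ofNat 0, .ofNat 1, .ofNat 2, .ofNat 0, .ofNat 0, .ofNat 2, .ofNat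 1, .ofNat 1, .ofNat 0, .ofNat 0, .ofNat 0, .ofNat 0, .ofNat 0, .ofNat 0, .ofNat 0, .ofNat 0, .negSucc 0, .ofNat 0, .ofNat 0, .ofNat 2, .ofNat 1, .ofNat 0, .ofNat 0, .ofNat 0, .ofNat 0, .ofNat 0, .ofNat 0, .ofNat 0, .ofNat 0, .ofNat 0, .ofNat 0, .ofNat 0, .ofNat 0, .ofNat 0, .ofNat 0, .ofNat 0, .ofNat 0, .ofNat 0, .ofNat 0, .ofNat 0, .ofNat 1, .ofNat 2, .ofNat 2, .ofNat 4, .ofNat 3, .ofNat 0, .ofNat 0, .ofNat 0, .ofNat 0, .ofNat 0, .ofNat 0, .ofNat 0, .ofNat 0, .ofNat 1, .ofNat 1, .ofNat 4, .ofNat 4, .ofNat 0, .ofNat 0, .ofNat 0, .ofNat 0, .ofNat 0, .ofNat 0, .ofNat 0, .ofNat 0, .ofNat 0, .ofNat 2, .ofNat 6, .ofNat 2, .ofNat 0, .ofNat 0, .ofNat 0, .ofNat 0, .ofNat 0, .ofNat 0, .ofNat 0, .ofNat 0, .ofNat 0, .ofNat 0, .ofNat 3, .ofNat 2, .ofNat 0, .ofNat 0, .ofNat 0, .ofNat 0, .ofNat 0, .ofNat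 0, .ofNat 0, .ofNat 0, .ofNat 0, .ofNat 0, .ofNat 0, .ofNat 3, .ofNat 0, .ofNat 0, .ofNat 0, .ofNat 0, .ofNat 0, .ofNat 0, .ofNat 0, .ofNat 0, .ofNat 0, .ofNat 0, .ofNat 0, .ofNat 0, .ofNat 0, .ofNat 0, .ofNat 0, .ofNat 0, .ofNat 0, .ofNat 0, .ofNat 0, .ofNat 0],
    [.ofNat 0, .ofNat 0, .ofNat 0, .ofNat 0, .ofNat 0, .ofNat 0, .ofNat 0, .ofNat 0, .ofNat 0, .ofNat 0, .ofNat 1, .ofNat 1, .ofNat 0, .ofNat 0, .ofNat 0, .ofNat 0, .ofNat 0, .ofNat 0, .ofNat 0, .ofNat 0, .ofNat 0, .ofNat 0, .ofNat 0, .ofNat 0, .ofNat 0, .ofNat 0, .ofNat 0, .ofNat 0, .ofNat 0, .ofNat 0, .ofNat 0, .ofNat 0, .ofNat 0, .ofNat 0, .ofNat 0, .ofNat 0, .ofNat 0, .ofNat 0, .ofNat 0, .ofNat 0, .ofNat 0, .ofNat 0, .ofNat 0, .ofNat 0, .ofNat 0, .negSucc 0, .ofNat 0, .negSucc 0, .ofNat 0, .ofNat 0, .ofNat 0, .ofNat 0, .ofNat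 0, .ofNat 0, .ofNat 0, .ofNat 1, .ofNat 0, .ofNat 0, .ofNat 0, .ofNat 0, .ofNat 0, .ofNat 0, .ofNat 0, .ofNat 0, .ofNat 0, .ofNat 0, .ofNat 0, .ofNat 0, .ofNat 0, .ofNat 0, .ofNat 0, .ofNat 0, .ofNat 0, .ofNat 0, .ofNat 0, .ofNat 0, .ofNat 0, .ofNat 0, .ofNat 0, .ofNat 0, .ofNat 0, .ofNat 0, .ofNat 0, .ofNat 0, .ofNat 0, .ofNat 0, .ofNat 0, .ofNat 0, .ofNat 0, .ofNat 0, .ofNat 0, .ofNat 0, .ofNat 0, .negSucc 0, .ofNat 1, .ofNat 0, .ofNat 0, .ofNat 0, .ofNat 0, .ofNat 0, .ofNat 0, .ofNat 0, .ofNat 0, .ofNat 0, .ofNat 0, .ofNat 0, .ofNat 0, .ofNat 0, .ofNat 0, .ofNat 0, .ofNat 0, .ofNat 0, .ofNat 0, .ofNat 0, .ofNat 0, .ofNat 0, .ofNat 0, .ofNat 0, .negSucc 0, .negSucc 0, .ofNat 0, .ofNat 0, .ofNat 0, .ofNat 0, .ofNat 0, .ofNat 0, .ofNat 0, .ofNat 0, .ofNat 0, .ofNat 0, .ofNat 0, .ofNat 1, .ofNat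 0, .ofNat 0, .ofNat 0, .ofNat 0, .ofNat 0, .ofNat 0, .ofNat 0, .ofNat 0, .ofNat 0, .ofNat 0, .ofNat 0, .ofNat 0, .ofNat 0, .ofNat 0, .ofNat 0, .ofNat 0, .ofNat 0, .ofNat 0, .ofNat 0, .ofNat 0, .ofNat 0, .ofNat 0, .ofNat 0, .ofNat 0, .ofNat 0, .ofNat 0, .ofNat 0, .ofNat 0, .ofNat 0, .ofNat 0, .ofNat 0, .ofNat 0],
    [.ofNat 0, .ofNat 0, .ofNat 0, .ofNat 0, .ofNat 0, .ofNat 0, .ofNat 0, .ofNat 1, .ofNat 1, .ofNat 0, .ofNat 0, .ofNat 1, .ofNat 0, .ofNat 0, .ofNat 0, .ofNat 0, .ofNat 0, .ofNat 0, .ofNat 0, .ofNat 0, .ofNat 0, .ofNat 0, .ofNat 0, .ofNat 0, .ofNat 0, .ofNat 0, .ofNat 0, .ofNat 0, .ofNat 0, .ofNat 0, .ofNat 0, .ofNat 0, .ofNat 0, .ofNat 0, .ofNat 0, .ofNat 0, .ofNat 0, .ofNat 0, .ofNat 0, .ofNat 0, .ofNat 0, .ofNat 0, .negSucc 0, .ofNat 0, .ofNat 0, .ofNat 0, .negSucc 0, .negSucc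 0, .ofNat 0, .ofNat 0, .ofNat 0, .ofNat 0, .ofNat 0, .negSucc 0, .negSucc 0, .negSucc 0, .ofNat 0, .negSucc 0, .ofNat 0, .ofNat 0, .ofNat 0, .ofNat 0, .ofNat 0, .ofNat 0, .ofNat 0, .ofNat 0, .ofNat 0, .ofNat 1, .ofNat 0, .ofNat 1, .ofNat 1, .ofNat 0, .ofNat 0, .ofNat 0, .ofNat 0, .ofNat 0, .ofNat 0, .ofNat 0, .ofNat 0, .ofNat 0, .negSucc 0, .ofNat 1, .ofNat 1, .negSucc 1, .ofNat 0, .ofNat 0, .ofNat 0, .ofNat 0, .ofNat 0, .ofNat 0, .ofNat 0, .ofNat 0, .ofNat 0, .ofNat 0, .ofNat 1, .ofNat 0, .ofNat 0, .ofNat 0, .ofNat 0, .ofNat 0, .ofNat 0, .ofNat 0, .ofNat 0, .ofNat 0, .ofNat 0, .ofNat 1, .negSucc 1, .ofNat 1, .ofNat 0, .ofNat 0, .ofNat 0, .ofNat 0, .ofNat 0, .ofNat 0, .ofNat 0, .ofNat 0, .ofNat 0, .ofNat 0, .negSucc 0, .ofNat 2, .ofNat 0, .ofNat 0, .ofNat 0, .ofNat 0, .ofNat 0, .ofNat 0, .ofNat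 0, .ofNat 0, .ofNat 0, .ofNat 0, .ofNat 0, .ofNat 1, .ofNat 0, .ofNat 0, .ofNat 0, .ofNat 0, .ofNat 0, .ofNat 0, .ofNat 0, .ofNat 0, .ofNat 0, .ofNat 0, .ofNat 0, .ofNat 0, .ofNat 0, .ofNat 0, .ofNat 0, .ofNat 0, .ofNat 0, .ofNat 0, .ofNat 0, .ofNat 0, .ofNat 0, .ofNat 0, .ofNat 0, .ofNat 0, .ofNat 0, .ofNat 0, .ofNat 0, .ofNat 0, .ofNat 0, .ofNat 0, .ofNat 0, .ofNat 0],
    [.ofNat 0, .ofNat 0, .ofNat 0, .ofNat 0, .ofNat 0, .ofNat 0, .ofNat 0, .ofNat 0, .ofNat 1, .ofNat 1, .ofNat 0, .ofNat 1, .ofNat 0, .ofNat 0, .ofNat 0, .ofNat 0, .ofNat 0, .ofNat 0, .ofNat 0, .ofNat 0, .ofNat 0, .ofNat 0, .ofNat 0, .ofNat 0, .ofNat 0, .ofNat 0, .ofNat 0, .ofNat 0, .ofNat 0, .ofNat 0, .ofNat 0, .ofNat 0, .ofNat 0, .ofNat 0, .ofNat 0, .ofNat 0, .ofNat 0, .ofNat 0, .ofNat 0, .ofNat 0, .ofNat 0, .ofNat 0, .ofNat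 0, .ofNat 0, .ofNat 0, .ofNat 0, .negSucc 0, .negSucc 0, .ofNat 0, .ofNat 0, .ofNat 0, .ofNat 0, .ofNat 0, .ofNat 0, .negSucc 0, .ofNat 0, .negSucc 0, .negSucc 0, .negSucc 0, .ofNat 0, .ofNat 0, .ofNat 0, .ofNat 0, .ofNat 0, .ofNat 0, .ofNat 0, .ofNat 0, .ofNat 0, .ofNat 0, .ofNat 0, .ofNat 0, .ofNat 0, .ofNat 0, .ofNat 0, .ofNat 0, .ofNat 0, .ofNat 0, .ofNat 0, .ofNat 0, .ofNat 1, .ofNat 0, .ofNat 1, .ofNat 1, .ofNat 0, .ofNat 0, .ofNat 0, .ofNat 0, .ofNat 0, .ofNat 0, .ofNat 0, .ofNat 0, .ofNat 0, .negSucc 0, .negSucc 0, .negSucc 0, .negSucc 0, .ofNat 0, .ofNat 0, .ofNat 0, .ofNat 0, .ofNat 0, .ofNat 0, .ofNat 0, .ofNat 0, .ofNat 0, .ofNat 1, .ofNat 1, .negSucc 0, .ofNat 0, .ofNat 0, .ofNat 0, .ofNat 0, .ofNat 0, .ofNat 0, .ofNat 0, .ofNat 0, .ofNat 0, .ofNat 0, .ofNat 1, .ofNat 0, .ofNat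 0, .ofNat 0, .ofNat 0, .ofNat 0, .ofNat 0, .ofNat 0, .ofNat 0, .ofNat 0, .ofNat 0, .ofNat 0, .ofNat 1, .ofNat 0, .ofNat 0, .ofNat 0, .ofNat 0, .ofNat 0, .ofNat 0, .ofNat 0, .ofNat 0, .ofNat 0, .ofNat 0, .ofNat 0, .ofNat 0, .ofNat 1, .ofNat 0, .ofNat 0, .ofNat 0, .ofNat 0, .ofNat 0, .ofNat 0, .ofNat 0, .ofNat 0, .ofNat 0, .ofNat 0, .ofNat 0, .ofNat 0, .ofNat 0, .ofNat 0, .ofNat 0, .ofNat 0, .ofNat 0, .ofNat 0, .ofNat 0, .ofNat 0],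
    [.ofNat 0, .ofNat 0, .ofNat 0, .ofNat 0, .ofNat 0, .ofNat 0, .ofNat 0, .ofNat 0, .ofNat 0, .ofNat 0, .ofNat 0, .ofNat 0, .ofNat 0, .ofNat 0, .ofNat 0, .ofNat 0, .ofNat 0, .ofNat 0, .ofNat 0, .ofNat 0, .ofNat 0, .ofNat 0, .ofNat 0, .ofNat 0, .ofNat 0, .ofNat 0, .ofNat 0, .ofNat 0, .ofNat 0, .ofNat 0, .ofNat 0, .ofNat 0, .ofNat 0, .ofNat 0, .ofNat 0, .ofNat 0, .ofNat 0, .ofNat 0, .ofNat 0, .ofNat 0, .ofNat 0, .ofNat 0, .ofNat 0, .ofNat 0, .negSucc 0, .negSucc 0, .ofNat 0, .ofNat 0, .ofNat 0, .ofNat 0, .ofNat 0, .ofNat 0, .ofNat 0, .ofNat 0, .ofNat 0, .negSucc 0, .negSucc 0, .negSucc 0, .ofNat 0, .ofNat 0, .ofNat 0, .ofNat 0, .ofNat 0, .ofNat 0, .ofNat 0, .ofNat 0, .ofNat 0, .ofNat 0, .ofNat 0, .ofNat 0, .ofNat 0, .ofNat 0, .ofNat 0, .ofNat 0, .ofNat 0, .ofNat 0, .ofNat 0, .ofNat 0, .ofNat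 0, .ofNat 0, .ofNat 0, .ofNat 0, .ofNat 0, .ofNat 0, .ofNat 0, .ofNat 0, .ofNat 0, .ofNat 0, .ofNat 0, .ofNat 0, .ofNat 0, .ofNat 0, .negSucc 0, .ofNat 0, .ofNat 1, .ofNat 0, .ofNat 0, .ofNat 0, .ofNat 0, .ofNat 0, .ofNat 0, .ofNat 0, .ofNat 0, .ofNat 0, .ofNat 0, .ofNat 1, .negSucc 0, .ofNat 0, .ofNat 0, .ofNat 0, .ofNat 0, .ofNat 0, .ofNat 0, .ofNat 0, .ofNat 0, .ofNat 0, .ofNat 0, .ofNat 0, .negSucc 0, .ofNat 0, .ofNat 0, .ofNat 0, .ofNat 0, .ofNat 0, .ofNat 0, .ofNat 0, .ofNat 0, .ofNat 0, .ofNat 0, .ofNat 0, .ofNat 0, .ofNat 0, .ofNat 0, .ofNat 0, .ofNat 0, .ofNat 0, .ofNat 0, .ofNat 0, .ofNat 0, .ofNat 0, .ofNat 0, .ofNat 0, .ofNat 0, .ofNat 0, .ofNat 0, .ofNat 0, .ofNat 0, .ofNat 0, .ofNat 0, .ofNat 0, .ofNat 0, .ofNat 0, .ofNat 0, .ofNat 0, .ofNat 0, .ofNat 0, .ofNat 0, .ofNat 0, .ofNat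 0, .ofNat 0, .ofNat 0, .ofNat 0, .ofNat 0, .ofNat 0],
    [.ofNat 0, .ofNat 0, .ofNat 0, .ofNat 0, .ofNat 0, .ofNat 0, .ofNat 0, .ofNat 0, .ofNat 0, .ofNat 0, .ofNat 0, .ofNat 0, .ofNat 0, .ofNat 0, .ofNat 0, .ofNat 0, .ofNat 0, .ofNat 0, .ofNat 0, .ofNat 0, .ofNat 0, .ofNat 0, .ofNat 0, .ofNat 0, .ofNat 0, .ofNat 0, .ofNat 0, .ofNat 0, .ofNat 0, .ofNat 0, .ofNat 0, .ofNat 0, .ofNat 0, .ofNat 0, .ofNat 0, .ofNat 0, .ofNat 0, .ofNat 0, .ofNat 0, .ofNat 0, .ofNat 0, .ofNat 0, .ofNat 0, .ofNat 0, .ofNat 0, .ofNat 0, .ofNat 0, .negSucc 0, .ofNat 0, .ofNat 0, .ofNat 0, .ofNat 0, .ofNat 0, .ofNat 0, .ofNat 0, .ofNat 0, .negSucc 0, .ofNat 0, .ofNat 0, .negSucc 0, .ofNat 0, .ofNat 0, .ofNat 0, .ofNat 0, .ofNat 0, .ofNat 0, .ofNat 0, .ofNat 0, .ofNat 0, .ofNat 0, .ofNat 0, .ofNat 0, .ofNat 0, .ofNat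 0, .ofNat 0, .ofNat 0, .ofNat 0, .ofNat 0, .ofNat 0, .ofNat 0, .ofNat 0, .ofNat 0, .ofNat 0, .ofNat 0, .ofNat 0, .ofNat 0, .ofNat 0, .ofNat 0, .ofNat 0, .ofNat 0, .ofNat 0, .ofNat 0, .negSucc 0, .ofNat 0, .ofNat 0, .negSucc 0, .ofNat 0, .ofNat 0, .ofNat 0, .ofNat 0, .ofNat 0, .ofNat 0, .ofNat 0, .ofNat 0, .ofNat 0, .ofNat 1, .ofNat 1, .ofNat 0, .ofNat 0, .ofNat 0, .ofNat 0, .ofNat 0, .ofNat 0, .ofNat 0, .ofNat 0, .ofNat 0, .ofNat 0, .ofNat 0, .ofNat 0, .negSucc 0, .ofNat 0, .ofNat 0, .ofNat 0, .ofNat 0, .ofNat 0, .ofNat 0, .ofNat 0, .ofNat 0, .ofNat 0, .ofNat 0, .ofNat 0, .negSucc 0, .ofNat 0, .ofNat 0, .ofNat 0, .ofNat 0, .ofNat 0, .ofNat 0, .ofNat 0, .ofNat 0, .ofNat 0, .ofNat 0, .ofNat 0, .ofNat 0, .ofNat 0, .ofNat 0, .ofNat 0, .ofNat 0, .ofNat 0, .ofNat 0, .ofNat 0, .ofNat 0, .ofNat 0,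 .ofNat 0, .ofNat 0, .ofNat 0, .ofNat 0, .ofNat 0, .ofNat 0, .ofNat 0, .ofNat 0, .ofNat 0, .ofNat 0, .ofNat 0],
    [.ofNat 0, .ofNat 0, .ofNat 0, .ofNat 0, .ofNat 0, .ofNat 0, .ofNat 0, .ofNat 0, .ofNat 0, .ofNat 0, .ofNat 0, .ofNat 0, .ofNat 0, .ofNat 0, .ofNat 0, .ofNat 0, .ofNat 0, .ofNat 0, .ofNat 0, .ofNat 0, .ofNat 0, .ofNat 0, .ofNat 0, .ofNat 0, .ofNat 0, .ofNat 0, .ofNat 0, .ofNat 0, .ofNat 0, .ofNat 0, .ofNat 0, .ofNat 0, .ofNat 0, .ofNat 0, .ofNat 0, .ofNat 0, .ofNat 0, .ofNat 0, .ofNat 0, .ofNat 0, .ofNat 0, .ofNat 0, .ofNat 0, .ofNat 0, .ofNat 0, .ofNat 0, .negSucc 0, .negSucc 0, .ofNat 0, .ofNat 0, .ofNat 0, .ofNat 0, .ofNat 0, .ofNat 0, .ofNat 0, .ofNat 0, .ofNat 0, .negSucc 0, .negSucc 0, .negSucc 0, .ofNat 0, .ofNat 0, .ofNat 0, .ofNat 0, .ofNat 0, .ofNat 0, .ofNat 0, .ofNat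 0, .ofNat 0, .ofNat 0, .ofNat 0, .ofNat 0, .ofNat 0, .ofNat 0, .ofNat 0, .ofNat 0, .ofNat 0, .ofNat 0, .ofNat 0, .ofNat 0, .ofNat 0, .ofNat 0, .ofNat 0, .ofNat 0, .ofNat 0, .ofNat 0, .ofNat 0, .ofNat 0, .ofNat 0, .ofNat 0, .ofNat 0, .ofNat 0, .ofNat 0, .negSucc 0, .negSucc 0, .negSucc 0, .ofNat 0, .ofNat 0, .ofNat 0, .ofNat 0, .ofNat 0, .ofNat 0, .ofNat 0, .ofNat 0, .ofNat 0, .ofNat 0, .ofNat 0, .ofNat 0, .ofNat 0, .ofNat 0, .ofNat 0, .ofNat 0, .ofNat 0, .ofNat 0, .ofNat 0, .ofNat 0, .ofNat 0, .ofNat 0, .ofNat 0, .negSucc 0, .ofNat 0, .ofNat 0, .ofNat 0, .ofNat 0, .ofNat 0, .ofNat 0, .ofNat 0, .ofNat 0, .ofNat 0, .ofNat 0, .ofNat 0, .negSucc 0, .ofNat 0, .ofNat 0, .ofNat 0, .ofNat 0, .ofNat 0, .ofNat 0, .ofNat 0, .ofNat 0, .ofNat 0, .ofNat 0, .ofNat 0, .ofNat 0, .ofNat 0, .ofNat 0, .ofNat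 0, .ofNat 0, .ofNat 0, .ofNat 0, .ofNat 0, .ofNat 0, .ofNat 0, .ofNat 0, .ofNat 0, .ofNat 0, .ofNat 0, .ofNat 0, .ofNat 0, .ofNat 0, .ofNat 0, .ofNat 0, .ofNat 0, .ofNat 0]]

def sp4 : List (ℕ × List ℕ × List ℕ) := [(0, [10], [3, 0]),
    (0, [11], [3, 0]),
    (0, [4], [4, 0]),
    (0, [4], [0, 0]),
    (0, [5], [4, 0]),
    (0, [6], [4, 0]),
    (0, [7], [4, 0]),
    (0, [8], [4, 0])]

def rv4 : List (List ℤ) := [[.ofNat 0, .ofNat 0, .ofNat 0, .ofNat 0, .ofNat 0, .ofNat 0, .ofNat 0, .ofNat 0, .ofNat 0, .ofNat 0, .ofNat 0, .ofNat 0, .ofNat 0, .ofNat 0, .ofNat 0, .ofNat 0, .ofNat 0, .ofNat 0, .ofNat 0, .ofNat 0, .ofNat 0, .ofNat 0, .ofNat 0, .ofNat 0, .ofNat 0, .ofNat 0, .ofNat 0, .ofNat 0, .ofNat 0, .ofNat 0, .ofNat 0, .ofNat 0, .ofNat 0, .ofNat 0, .ofNat 0, .ofNat 0, .ofNat 0, .ofNat 0,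 .ofNat 0, .ofNat 0, .ofNat 0, .ofNat 0, .ofNat 0, .ofNat 0, .ofNat 0, .ofNat 0, .ofNat 0, .ofNat 0, .ofNat 0, .ofNat 0, .ofNat 0, .ofNat 0, .ofNat 0, .ofNat 0, .ofNat 0, .ofNat 0, .ofNat 0, .ofNat 0, .negSucc 0, .ofNat 0, .ofNat 0, .ofNat 0, .ofNat 0, .ofNat 0, .ofNat 0, .ofNat 0, .ofNat 0, .ofNat 0, .ofNat 0, .ofNat 0, .ofNat 0, .ofNat 0, .ofNat 0, .ofNat 0, .ofNat 0, .ofNat 0, .ofNat 0, .ofNat 0, .ofNat 0, .ofNat 0, .ofNat 0, .ofNat 0, .ofNat 0, .ofNat 0, .ofNat 0, .ofNat 0, .ofNat 0, .ofNat 0, .ofNat 0, .ofNat 0, .ofNat 0, .ofNat 0, .ofNat 0, .ofNat 0, .negSucc 0, .ofNat 0, .ofNat 0, .ofNat 0, .ofNat 0, .ofNat 0, .ofNat 0, .ofNat 0, .ofNat 0, .ofNat 0, .ofNat 0, .ofNat 0, .ofNat 0, .ofNat 0, .ofNat 0, .ofNat 0, .ofNat 0, .ofNat 0, .ofNat 0, .ofNat 0, .ofNat 0, .ofNat 0, .ofNat 0, .ofNat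 0, .negSucc 0, .ofNat 0, .ofNat 0, .ofNat 0, .ofNat 0, .ofNat 0, .ofNat 0, .ofNat 0, .ofNat 0, .ofNat 0, .ofNat 0, .ofNat 0, .ofNat 0, .ofNat 0, .ofNat 0, .ofNat 0, .ofNat 0, .ofNat 0, .ofNat 0, .ofNat 0, .ofNat 0, .ofNat 0, .ofNat 0, .ofNat 0, .ofNat 0, .ofNat 0, .ofNat 0, .ofNat 0, .ofNat 0, .ofNat 0, .ofNat 0, .ofNat 0, .ofNat 0, .ofNat 0, .ofNat 0, .ofNat 0, .ofNat 0, .ofNat 0, .ofNat 0, .ofNat 0, .ofNat 0, .ofNat 0, .ofNat 0, .ofNat 0, .ofNat 0, .ofNat 0],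
    [.ofNat 0, .ofNat 0, .ofNat 0, .ofNat 0, .ofNat 0, .ofNat 0, .ofNat 0, .ofNat 0, .ofNat 0, .ofNat 0, .ofNat 0, .ofNat 0, .ofNat 0, .ofNat 0, .ofNat 0, .ofNat 0, .ofNat 0, .ofNat 0, .ofNat 0, .ofNat 0, .ofNat 0, .ofNat 0, .ofNat 0, .ofNat 0, .ofNat 0, .ofNat 0, .ofNat 0, .ofNat 0, .ofNat 0, .ofNat 0, .ofNat 0, .ofNat 0, .ofNat 0, .ofNat 0, .ofNat 0, .ofNat 0, .ofNat 0, .ofNat 0, .ofNat 0, .ofNat 0, .ofNat 0, .ofNat 0, .ofNat 0, .ofNat 0, .ofNat 0, .ofNat 0, .ofNat 0, .ofNat 0, .ofNat 0, .ofNat 0, .ofNat 0, .ofNat 0, .ofNat 0, .ofNat 0, .ofNat 0, .ofNat 0, .ofNat 0, .ofNat 0, .ofNat 0, .negSucc 0, .ofNat 0, .ofNat 0, .ofNat 0, .ofNat 0, .ofNat 0, .ofNat 0, .ofNat 0, .ofNat 0, .ofNat 0, .ofNat 0, .ofNat 0, .ofNat 0, .ofNat 0, .ofNat 0, .ofNat 0, .ofNat 0, .ofNat 0, .ofNat 0, .ofNat 0, .ofNat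 0, .ofNat 0, .ofNat 0, .ofNat 0, .ofNat 0, .ofNat 0, .ofNat 0, .ofNat 0, .ofNat 0, .ofNat 0, .ofNat 0, .ofNat 0, .ofNat 0, .ofNat 0, .ofNat 0, .ofNat 0, .negSucc 0, .ofNat 0, .ofNat 0, .ofNat 0, .ofNat 0, .ofNat 0, .ofNat 0, .ofNat 0, .ofNat 0, .ofNat 0, .ofNat 0, .ofNat 0, .ofNat 0, .ofNat 0, .ofNat 0, .ofNat 0, .ofNat 0, .ofNat 0, .ofNat 0, .ofNat 0, .ofNat 0, .ofNat 0, .ofNat 0, .ofNat 0, .negSucc 0, .ofNat 0, .ofNat 0, .ofNat 0, .ofNat 0, .ofNat 0, .ofNat 0, .ofNat 0, .ofNat 0, .ofNat 0, .ofNat 0, .ofNat 0, .negSucc 0, .ofNat 0, .ofNat 0, .ofNat 0, .ofNat 0, .ofNat 0, .ofNat 0, .ofNat 0, .ofNat 0, .ofNat 0, .ofNat 0, .ofNat 0, .ofNat 0, .ofNat 0, .ofNat 0, .ofNat 0, .ofNat 0, .ofNat 0, .ofNat 0, .ofNat 0, .ofNat 0, .ofNat 0, .ofNat 0, .ofNat 0, .ofNat 0, .ofNat 0, .ofNat 0, .ofNat 0, .ofNat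 0, .ofNat 0, .ofNat 0, .ofNat 0, .ofNat 0],
    [.ofNat 0, .ofNat 0, .ofNat 0, .ofNat 0, .negSucc 1, .ofNat 0, .ofNat 0, .ofNat 0, .ofNat 0, .ofNat 0, .ofNat 1, .ofNat 0, .ofNat 0, .ofNat 0, .ofNat 0, .ofNat 0, .ofNat 0, .ofNat 0, .ofNat 0, .ofNat 0, .ofNat 0, .ofNat 0, .ofNat 0, .ofNat 0, .ofNat 0, .ofNat 0, .ofNat 0, .ofNat 0, .ofNat 0, .ofNat 0, .ofNat 0, .ofNat 0, .ofNat 0, .ofNat 0, .ofNat 0, .ofNat 0, .ofNat 0, .ofNat 0, .ofNat 0, .ofNat 0, .ofNat 0, .ofNat 0, .ofNat 0, .ofNat 0, .ofNat 0, .ofNat 0, .ofNat 0, .ofNat 0, .ofNat 0, .ofNat 0, .ofNat 0, .ofNat 0, .ofNat 0, .ofNat 0, .ofNat 0, .ofNat 0, .ofNat 0, .negSucc 0, .ofNat 0, .negSucc 0, .ofNat 0, .ofNat 0, .ofNat 0, .ofNat 0, .ofNat 0, .ofNat 0, .ofNat 0, .ofNat 0, .ofNat 0, .ofNat 0, .ofNat 0, .ofNat 0, .ofNat 0, .ofNat 0, .ofNat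 0, .ofNat 0, .ofNat 0, .ofNat 0, .ofNat 0, .ofNat 0, .ofNat 0, .ofNat 0, .ofNat 0, .ofNat 0, .ofNat 0, .ofNat 0, .ofNat 0, .ofNat 0, .ofNat 0, .ofNat 0, .ofNat 0, .ofNat 0, .ofNat 0, .ofNat 0, .ofNat 0, .ofNat 0, .ofNat 0, .ofNat 0, .ofNat 0, .ofNat 0, .ofNat 0, .ofNat 0, .ofNat 0, .ofNat 0, .ofNat 0, .ofNat 0, .ofNat 0, .ofNat 0, .ofNat 0, .ofNat 0, .ofNat 0, .ofNat 0, .ofNat 0, .ofNat 0, .ofNat 0, .ofNat 0, .ofNat 0, .negSucc 0, .negSucc 1, .negSucc 0, .ofNat 0, .ofNat 0, .ofNat 0, .ofNat 0, .ofNat 0, .ofNat 0, .ofNat 0, .ofNat 0, .ofNat 0, .ofNat 0, .ofNat 0, .ofNat 0, .ofNat 0, .ofNat 0, .ofNat 0, .ofNat 0, .ofNat 0, .ofNat 0, .ofNat 0, .ofNat 0, .ofNat 0, .ofNat 0, .ofNat 0, .negSucc 0, .ofNat 0, .ofNat 0, .ofNat 0, .ofNat 0, .ofNat 0, .ofNat 0, .ofNat 0, .ofNat 0, .ofNat 0, .ofNat 0,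 .ofNat 0, .ofNat 0, .ofNat 0, .ofNat 0, .ofNat 0, .ofNat 0, .ofNat 0, .ofNat 0, .ofNat 0, .ofNat 0],
    [.ofNat 0, .ofNat 0, .ofNat 0, .ofNat 0, .ofNat 2, .ofNat 0, .ofNat 0, .ofNat 0, .ofNat 0, .ofNat 1, .ofNat 0, .ofNat 1, .ofNat 0, .ofNat 0, .ofNat 0, .ofNat 0, .ofNat 0, .ofNat 0, .ofNat 0, .ofNat 0, .ofNat 0, .ofNat 0, .ofNat 0, .ofNat 0, .ofNat 0, .ofNat 0, .ofNat 0, .ofNat 0, .negSucc 0, .ofNat 0, .ofNat 0, .ofNat 0, .ofNat 0, .ofNat 0, .ofNat 0, .ofNat 0, .ofNat 0, .ofNat 0, .ofNat 0, .ofNat 0, .ofNat 0, .ofNat 0, .ofNat 0, .ofNat 0, .ofNat 0, .ofNat 0, .ofNat 0, .ofNat 0, .ofNat 0, .ofNat 0, .ofNat 0, .ofNat 0, .ofNat 0, .ofNat 1, .ofNat 0, .ofNat 0, .ofNat 0, .ofNat 1, .ofNat 0, .ofNat 0, .ofNat 0, .ofNat 0, .ofNat 0, .ofNat 0, .ofNat 0, .ofNat 0, .ofNat 0, .ofNat 0, .ofNat 0, .ofNat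 0, .ofNat 1, .ofNat 0, .ofNat 0, .ofNat 0, .ofNat 0, .ofNat 0, .ofNat 0, .ofNat 0, .ofNat 0, .ofNat 0, .ofNat 0, .ofNat 0, .ofNat 0, .ofNat 0, .ofNat 0, .ofNat 0, .ofNat 0, .ofNat 0, .ofNat 0, .ofNat 0, .ofNat 0, .ofNat 0, .ofNat 0, .ofNat 0, .ofNat 0, .ofNat 0, .ofNat 0, .ofNat 0, .ofNat 0, .ofNat 0, .ofNat 0, .ofNat 0, .ofNat 0, .ofNat 0, .ofNat 0, .ofNat 0, .ofNat 0, .ofNat 0, .ofNat 0, .ofNat 0, .ofNat 0, .ofNat 0, .ofNat 0, .ofNat 0, .ofNat 0, .ofNat 0, .ofNat 0, .ofNat 1, .ofNat 1, .ofNat 2, .ofNat 0, .ofNat 0, .ofNat 0, .ofNat 0, .ofNat 0, .ofNat 0, .ofNat 0, .ofNat 0, .ofNat 0, .ofNat 0, .ofNat 0, .ofNat 1, .ofNat 0, .ofNat 0, .ofNat 0, .ofNat 0, .ofNat 0, .ofNat 0, .ofNat 0, .ofNat 0, .ofNat 0, .ofNat 0, .ofNat 0, .ofNat 2, .ofNat 0, .ofNat 0, .ofNat 0, .ofNat 0, .ofNat 0, .ofNat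 0, .ofNat 0, .ofNat 0, .ofNat 0, .ofNat 0, .ofNat 0, .ofNat 0, .ofNat 0, .ofNat 0, .ofNat 0, .ofNat 0, .ofNat 0, .ofNat 0, .ofNat 0, .ofNat 0],
    [.ofNat 0, .ofNat 0, .ofNat 0, .ofNat 0, .ofNat 0, .ofNat 0, .ofNat 0, .ofNat 0, .ofNat 0, .ofNat 0, .ofNat 0, .ofNat 1, .ofNat 0, .ofNat 0, .ofNat 0, .ofNat 0, .ofNat 0, .ofNat 0, .ofNat 0, .ofNat 0, .ofNat 0, .ofNat 0, .ofNat 0, .ofNat 0, .ofNat 0, .ofNat 0, .ofNat 0, .ofNat 0, .ofNat 0, .ofNat 0, .ofNat 0, .ofNat 0, .ofNat 0, .ofNat 0, .ofNat 0, .ofNat 0, .ofNat 0, .ofNat 0, .ofNat 0, .ofNat 0, .ofNat 0, .ofNat 0, .ofNat 0, .ofNat 0, .ofNat 0, .ofNat 0, .ofNat 0, .ofNat 0, .ofNat 0, .ofNat 0, .ofNat 0, .ofNat 0, .ofNat 0, .ofNat 0, .negSucc 0, .ofNat 0, .ofNat 0, .ofNat 0, .negSucc 0, .negSucc 0, .ofNat 0, .ofNat 0, .ofNat 0, .ofNat 0, .ofNat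 0, .ofNat 0, .ofNat 0, .ofNat 0, .ofNat 0, .ofNat 1, .ofNat 0, .ofNat 1, .ofNat 0, .ofNat 0, .ofNat 0, .ofNat 0, .ofNat 0, .ofNat 0, .ofNat 0, .ofNat 0, .ofNat 0, .ofNat 1, .ofNat 0, .negSucc 0, .ofNat 0, .ofNat 0, .ofNat 0, .ofNat 0, .ofNat 0, .ofNat 0, .ofNat 0, .ofNat 0, .ofNat 0, .ofNat 0, .ofNat 0, .ofNat 0, .ofNat 0, .ofNat 0, .ofNat 0, .ofNat 0, .ofNat 0, .ofNat 0, .ofNat 0, .ofNat 0, .ofNat 0, .ofNat 0, .ofNat 0, .ofNat 0, .ofNat 0, .ofNat 0, .ofNat 0, .ofNat 0, .ofNat 0, .ofNat 0, .ofNat 0, .ofNat 0, .ofNat 0, .ofNat 0, .negSucc 0, .negSucc 0, .ofNat 0, .ofNat 0, .ofNat 0, .ofNat 0, .ofNat 0, .ofNat 0, .ofNat 0, .ofNat 0, .ofNat 0, .ofNat 0, .ofNat 0, .ofNat 0, .ofNat 0, .ofNat 0, .ofNat 0, .ofNat 0, .ofNat 0, .ofNat 0, .ofNat 0, .ofNat 0, .ofNat 0, .ofNat 0, .ofNat 0, .ofNat 0, .ofNat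 0, .ofNat 0, .ofNat 0, .ofNat 0, .ofNat 0, .ofNat 0, .ofNat 0, .ofNat 0, .ofNat 0, .ofNat 0, .ofNat 0, .ofNat 0, .ofNat 0, .ofNat 0, .ofNat 0, .ofNat 0, .ofNat 0, .ofNat 0, .ofNat 0, .ofNat 0],
    [.ofNat 0, .ofNat 0, .ofNat 0, .ofNat 0, .ofNat 0, .ofNat 0, .ofNat 0, .ofNat 0, .ofNat 0, .ofNat 0, .ofNat 0, .ofNat 1, .ofNat 0, .ofNat 0, .ofNat 0, .ofNat 0, .ofNat 0, .ofNat 0, .ofNat 0, .ofNat 0, .ofNat 0, .ofNat 0, .ofNat 0, .ofNat 0, .ofNat 0, .ofNat 0, .ofNat 0, .ofNat 0, .ofNat 0, .ofNat 0, .ofNat 0, .ofNat 0, .ofNat 0, .ofNat 0, .ofNat 0, .ofNat 0, .ofNat 0, .ofNat 0, .ofNat 0, .ofNat 0, .ofNat 0, .ofNat 0, .ofNat 0, .ofNat 0, .ofNat 0, .ofNat 0, .ofNat 0, .ofNat 0, .ofNat 0, .ofNat 0, .ofNat 0, .ofNat 0, .ofNat 0, .ofNat 0, .ofNat 0, .ofNat 0, .ofNat 0, .ofNat 0, .negSucc 0, .negSucc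 0, .ofNat 0, .ofNat 0, .ofNat 0, .ofNat 0, .ofNat 0, .ofNat 0, .ofNat 0, .ofNat 0, .ofNat 0, .ofNat 0, .ofNat 0, .ofNat 0, .ofNat 0, .ofNat 0, .ofNat 0, .ofNat 0, .ofNat 0, .ofNat 0, .ofNat 0, .ofNat 0, .ofNat 0, .ofNat 1, .ofNat 0, .ofNat 1, .ofNat 0, .ofNat 0, .ofNat 0, .ofNat 0, .ofNat 0, .ofNat 0, .ofNat 0, .ofNat 0, .ofNat 0, .ofNat 0, .ofNat 0, .ofNat 0, .ofNat 0, .ofNat 0, .ofNat 0, .ofNat 0, .ofNat 0, .ofNat 0, .ofNat 0, .ofNat 0, .ofNat 0, .ofNat 0, .ofNat 0, .ofNat 0, .ofNat 0, .ofNat 0, .ofNat 0, .ofNat 0, .ofNat 0, .ofNat 0, .ofNat 0, .ofNat 0, .ofNat 0, .ofNat 0, .negSucc 0, .ofNat 0, .ofNat 0, .ofNat 0, .ofNat 0, .ofNat 0, .ofNat 0, .ofNat 0, .ofNat 0, .ofNat 0, .ofNat 0, .ofNat 0, .ofNat 0, .ofNat 0, .ofNat 0, .ofNat 0, .ofNat 0, .ofNat 0, .ofNat 0, .ofNat 0, .ofNat 0, .ofNat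 0, .ofNat 0, .ofNat 0, .ofNat 0, .ofNat 0, .ofNat 0, .ofNat 0, .ofNat 0, .ofNat 0, .ofNat 0, .ofNat 0, .ofNat 0, .ofNat 0, .ofNat 0, .ofNat 0, .ofNat 0, .ofNat 0, .ofNat 0, .ofNat 0, .ofNat 0, .ofNat 0, .ofNat 0, .ofNat 0, .ofNat 0, .ofNat 0],
    [.ofNat 0, .ofNat 0, .ofNat 0, .ofNat 0, .ofNat 0, .ofNat 0, .ofNat 0, .ofNat 0, .ofNat 0, .ofNat 0, .ofNat 0, .ofNat 0, .ofNat 0, .ofNat 0, .ofNat 0, .ofNat 0, .ofNat 0, .ofNat 0, .ofNat 0, .ofNat 0, .ofNat 0, .ofNat 0, .ofNat 0, .ofNat 0, .ofNat 0, .ofNat 0, .ofNat 0, .ofNat 0, .ofNat 0, .ofNat 0, .ofNat 0, .ofNat 0, .ofNat 0, .ofNat 0, .ofNat 0, .ofNat 0, .ofNat 0, .ofNat 0, .ofNat 0, .ofNat 0, .ofNat 0, .ofNat 0, .ofNat 0, .ofNat 0, .ofNat 0, .ofNat 0, .ofNat 0, .ofNat 0, .ofNat 0, .ofNat 0, .ofNat 0, .ofNat 0, .ofNat 0, .ofNat 0, .ofNat 0, .ofNat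 0, .negSucc 0, .negSucc 0, .ofNat 0, .ofNat 0, .ofNat 0, .ofNat 0, .ofNat 0, .ofNat 0, .ofNat 0, .ofNat 0, .ofNat 0, .ofNat 0, .ofNat 0, .ofNat 0, .ofNat 0, .ofNat 0, .ofNat 0, .ofNat 0, .ofNat 0, .ofNat 0, .ofNat 0, .ofNat 0, .ofNat 0, .ofNat 0, .ofNat 0, .ofNat 0, .ofNat 0, .ofNat 0, .ofNat 0, .ofNat 0, .ofNat 0, .ofNat 0, .ofNat 0, .ofNat 0, .ofNat 0, .ofNat 0, .ofNat 0, .ofNat 1, .ofNat 0, .ofNat 1, .ofNat 0, .ofNat 0, .ofNat 0, .ofNat 0, .ofNat 0, .ofNat 0, .ofNat 0, .ofNat 0, .ofNat 0, .ofNat 1, .ofNat 0, .ofNat 1, .ofNat 0, .ofNat 0, .ofNat 0, .ofNat 0, .ofNat 0, .ofNat 0, .ofNat 0, .ofNat 0, .ofNat 0, .ofNat 0, .ofNat 0, .ofNat 1, .ofNat 0, .ofNat 0, .ofNat 0, .ofNat 0, .ofNat 0, .ofNat 0, .ofNat 0, .ofNat 0, .ofNat 0, .ofNat 0, .ofNat 0, .ofNat 0, .ofNat 0, .ofNat 0, .ofNat 0, .ofNat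 0, .ofNat 0, .ofNat 0, .ofNat 0, .ofNat 0, .ofNat 0, .ofNat 0, .ofNat 0, .ofNat 0, .ofNat 0, .ofNat 0, .ofNat 0, .ofNat 0, .ofNat 0, .ofNat 0, .ofNat 0, .ofNat 0, .ofNat 0, .ofNat 0, .ofNat 0, .ofNat 0, .ofNat 0, .ofNat 0, .ofNat 0, .ofNat 0, .ofNat 0, .ofNat 0, .ofNat 0, .ofNat 0],
    [.ofNat 0, .ofNat 0, .ofNat 0, .ofNat 0, .ofNat 0, .ofNat 0, .ofNat 0, .ofNat 0, .ofNat 0, .ofNat 0, .ofNat 0, .ofNat 0, .ofNat 0, .ofNat 0, .ofNat 0, .ofNat 0, .ofNat 0, .ofNat 0, .ofNat 0, .ofNat 0, .ofNat 0, .ofNat 0, .ofNat 0, .ofNat 0, .ofNat 0, .ofNat 0, .ofNat 0, .ofNat 0, .ofNat 0, .ofNat 0, .ofNat 0, .ofNat 0, .ofNat 0, .ofNat 0, .ofNat 0, .ofNat 0, .ofNat 0, .ofNat 0, .ofNat 0, .ofNat 0, .ofNat 0, .ofNat 0, .ofNat 0, .ofNat 0, .ofNat 0, .ofNat 0, .ofNat 0, .ofNat 0, .ofNat 0, .ofNat 0, .ofNat 0, .ofNat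 0, .ofNat 0, .ofNat 0, .ofNat 0, .ofNat 0, .ofNat 0, .ofNat 0, .ofNat 0, .negSucc 0, .ofNat 0, .ofNat 0, .ofNat 0, .ofNat 0, .ofNat 0, .ofNat 0, .ofNat 0, .ofNat 0, .ofNat 0, .ofNat 0, .ofNat 0, .ofNat 0, .ofNat 0, .ofNat 0, .ofNat 0, .ofNat 0, .ofNat 0, .ofNat 0, .ofNat 0, .ofNat 0, .ofNat 0, .ofNat 0, .ofNat 0, .ofNat 0, .ofNat 0, .ofNat 0, .ofNat 0, .ofNat 0, .ofNat 0, .ofNat 0, .ofNat 0, .ofNat 0, .ofNat 0, .ofNat 0, .ofNat 0, .ofNat 0, .ofNat 0, .ofNat 0, .ofNat 0, .ofNat 0, .ofNat 0, .ofNat 0, .ofNat 0, .ofNat 0, .ofNat 0, .ofNat 1, .ofNat 0, .ofNat 1, .ofNat 0, .ofNat 0, .ofNat 0, .ofNat 0, .ofNat 0, .ofNat 0, .ofNat 0, .ofNat 0, .ofNat 0, .ofNat 0, .ofNat 0, .negSucc 0, .ofNat 0, .ofNat 0, .ofNat 0, .ofNat 0, .ofNat 0, .ofNat 0, .ofNat 0, .ofNat 0, .ofNat 0, .ofNat 0, .ofNat 0, .ofNat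 0, .ofNat 0, .ofNat 0, .ofNat 0, .ofNat 0, .ofNat 0, .ofNat 0, .ofNat 0, .ofNat 0, .ofNat 0, .ofNat 0, .ofNat 0, .ofNat 0, .ofNat 0, .ofNat 0, .ofNat 0, .ofNat 0, .ofNat 0, .ofNat 0, .ofNat 0, .ofNat 0, .ofNat 0, .ofNat 0, .ofNat 0, .ofNat 0, .ofNat 0, .ofNat 0, .ofNat 0, .ofNat 0, .ofNat 0, .ofNat 0, .ofNat 0, .ofNat 0]]

def sp5 : List (ℕ × List ℕ × List ℕ) := [(0, [9], [4, 0]),
    (0, [10], [4, 0]),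
    (0, [11], [4, 0]),
    (0, [5], [5, 0]),
    (0, [5], [0, 0]),
    (0, [6], [5, 0]),
    (0, [7], [5, 0]),
    (0, [11], [5, 0])]

def rv5 : List (List ℤ) := [[.ofNat 0, .ofNat 0, .ofNat 0, .ofNat 0, .ofNat 0, .ofNat 0, .ofNat 0, .ofNat 0, .ofNat 0, .ofNat 0, .ofNat 0, .ofNat 0, .ofNat 0, .ofNat 0, .ofNat 0, .ofNat 0, .ofNat 0, .ofNat 0, .ofNat 0, .ofNat 0, .ofNat 0, .ofNat 0, .ofNat 0, .ofNat 0, .ofNat 0, .ofNat 0, .ofNat 0, .ofNat 0, .ofNat 0, .ofNat 0, .ofNat 0, .ofNat 0, .ofNat 0, .ofNat 0, .ofNat 0, .ofNat 0, .ofNat 0, .ofNat 0, .ofNat 0, .ofNat 0, .ofNat 0, .ofNat 0, .ofNat 0, .ofNat 0, .ofNat 0, .ofNat 0, .ofNat 0, .ofNat 0, .ofNat 0, .ofNat 0, .ofNat 0, .ofNat 0, .ofNat 0, .ofNat 0, .ofNat 0, .ofNat 0, .ofNat 0, .ofNat 0, .negSucc 0, .negSucc 0, .ofNat 0, .ofNat 0, .ofNat 0, .ofNat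 0, .ofNat 0, .ofNat 0, .ofNat 0, .ofNat 0, .ofNat 0, .ofNat 0, .ofNat 0, .ofNat 0, .ofNat 0, .ofNat 0, .ofNat 0, .ofNat 0, .ofNat 0, .ofNat 0, .ofNat 0, .ofNat 0, .ofNat 0, .ofNat 0, .ofNat 0, .ofNat 0, .ofNat 0, .ofNat 0, .ofNat 0, .ofNat 0, .ofNat 0, .ofNat 0, .ofNat 0, .ofNat 0, .ofNat 0, .ofNat 0, .ofNat 0, .ofNat 0, .ofNat 0, .ofNat 0, .ofNat 0, .ofNat 0, .ofNat 0, .ofNat 0, .ofNat 0, .ofNat 0, .ofNat 0, .ofNat 0, .ofNat 0, .ofNat 0, .ofNat 0, .ofNat 0, .ofNat 0, .ofNat 0, .ofNat 0, .ofNat 0, .ofNat 0, .ofNat 0, .ofNat 0, .ofNat 0, .negSucc 0, .ofNat 0, .ofNat 0, .ofNat 0, .ofNat 0, .ofNat 0, .ofNat 0, .ofNat 0, .ofNat 0, .ofNat 0, .ofNat 0, .ofNat 0, .ofNat 0, .ofNat 1, .ofNat 0, .ofNat 0, .ofNat 0, .ofNat 0, .ofNat 0, .ofNat 0, .ofNat 0, .ofNat 0, .ofNat 0, .ofNat 0, .ofNat 0, .ofNat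 0, .ofNat 0, .ofNat 0, .ofNat 0, .ofNat 0, .ofNat 0, .ofNat 0, .ofNat 0, .ofNat 0, .ofNat 0, .ofNat 0, .ofNat 0, .ofNat 0, .ofNat 0, .ofNat 0, .ofNat 0, .ofNat 0, .ofNat 0, .ofNat 0, .ofNat 0, .ofNat 0],
    [.ofNat 0, .ofNat 0, .ofNat 0, .ofNat 0, .ofNat 0, .ofNat 0, .ofNat 0, .ofNat 0, .ofNat 0, .ofNat 0, .ofNat 0, .ofNat 0, .ofNat 0, .ofNat 0, .ofNat 0, .ofNat 0, .ofNat 0, .ofNat 0, .ofNat 0, .ofNat 0, .ofNat 0, .ofNat 0, .ofNat 0, .ofNat 0, .ofNat 0, .ofNat 0, .ofNat 0, .ofNat 0, .ofNat 0, .ofNat 0, .ofNat 0, .ofNat 0, .ofNat 0, .ofNat 0, .ofNat 0, .ofNat 0, .ofNat 0, .ofNat 0, .ofNat 0, .ofNat 0, .ofNat 0, .ofNat 0, .ofNat 0, .ofNat 0, .ofNat 0, .ofNat 0, .ofNat 0, .ofNat 0, .ofNat 0, .ofNat 0, .ofNat 0, .ofNat 0, .ofNat 0, .ofNat 0, .ofNat 0, .ofNat 0, .ofNat 0, .ofNat 0, .ofNat 0, .ofNat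 0, .ofNat 0, .ofNat 0, .ofNat 0, .ofNat 0, .ofNat 0, .ofNat 0, .ofNat 0, .ofNat 0, .ofNat 0, .ofNat 0, .ofNat 0, .ofNat 0, .ofNat 0, .ofNat 0, .ofNat 0, .ofNat 0, .ofNat 0, .ofNat 0, .ofNat 0, .ofNat 0, .ofNat 0, .ofNat 0, .ofNat 0, .ofNat 0, .ofNat 0, .ofNat 0, .ofNat 0, .ofNat 0, .ofNat 0, .ofNat 0, .ofNat 0, .ofNat 0, .ofNat 0, .ofNat 0, .ofNat 0, .ofNat 0, .ofNat 0, .ofNat 0, .ofNat 0, .ofNat 0, .ofNat 0, .ofNat 0, .ofNat 0, .ofNat 0, .ofNat 0, .ofNat 0, .ofNat 0, .ofNat 0, .ofNat 0, .ofNat 0, .ofNat 0, .ofNat 0, .ofNat 0, .ofNat 0, .ofNat 0, .ofNat 0, .ofNat 0, .ofNat 0, .negSucc 0, .ofNat 0, .ofNat 0, .ofNat 0, .ofNat 0, .ofNat 0, .ofNat 0, .ofNat 0, .ofNat 0, .ofNat 0, .ofNat 0, .ofNat 0, .ofNat 0, .ofNat 1, .ofNat 0, .ofNat 0, .ofNat 0, .ofNat 0, .ofNat 0, .ofNat 0, .ofNat 0, .ofNat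 0, .ofNat 0, .ofNat 0, .ofNat 0, .ofNat 0, .ofNat 0, .ofNat 0, .ofNat 0, .ofNat 0, .ofNat 0, .ofNat 0, .ofNat 0, .ofNat 0, .ofNat 0, .ofNat 0, .ofNat 0, .ofNat 0, .ofNat 0, .ofNat 0, .ofNat 0, .ofNat 0, .ofNat 0, .ofNat 0, .ofNat 0, .ofNat 0],
    [.ofNat 0, .ofNat 0, .ofNat 0, .ofNat 0, .ofNat 0, .ofNat 0, .ofNat 0, .ofNat 0, .ofNat 0, .ofNat 0, .ofNat 0, .ofNat 0, .ofNat 0, .ofNat 0, .ofNat 0, .ofNat 0, .ofNat 0, .ofNat 0, .ofNat 0, .ofNat 0, .ofNat 0, .ofNat 0, .ofNat 0, .ofNat 0, .ofNat 0, .ofNat 0, .ofNat 0, .ofNat 0, .ofNat 0, .ofNat 0, .ofNat 0, .ofNat 0, .ofNat 0, .ofNat 0, .ofNat 0, .ofNat 0, .ofNat 0, .ofNat 0, .ofNat 0, .ofNat 0, .ofNat 0, .ofNat 0, .ofNat 0, .ofNat 0, .ofNat 0, .ofNat 0, .ofNat 0, .ofNat 0, .ofNat 0, .ofNat 0, .ofNat 0, .ofNat 0, .ofNat 0, .ofNat 0, .ofNat 0, .ofNat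 0, .ofNat 0, .ofNat 0, .ofNat 0, .ofNat 0, .ofNat 0, .ofNat 0, .ofNat 0, .ofNat 0, .ofNat 0, .ofNat 0, .ofNat 0, .ofNat 0, .ofNat 0, .ofNat 0, .ofNat 0, .ofNat 0, .ofNat 0, .ofNat 0, .ofNat 0, .ofNat 0, .ofNat 0, .ofNat 0, .ofNat 0, .ofNat 0, .ofNat 0, .ofNat 0, .ofNat 0, .ofNat 0, .ofNat 0, .ofNat 0, .ofNat 0, .ofNat 0, .ofNat 0, .ofNat 0, .ofNat 0, .ofNat 0, .ofNat 0, .ofNat 0, .ofNat 0, .ofNat 0, .ofNat 0, .ofNat 0, .ofNat 0, .ofNat 0, .ofNat 0, .ofNat 0, .ofNat 0, .ofNat 0, .ofNat 0, .ofNat 0, .ofNat 0, .ofNat 0, .ofNat 0, .ofNat 0, .ofNat 0, .ofNat 0, .ofNat 0, .ofNat 0, .ofNat 0, .ofNat 0, .ofNat 0, .ofNat 0, .ofNat 0, .negSucc 0, .ofNat 0, .ofNat 0, .ofNat 0, .ofNat 0, .ofNat 0, .ofNat 0, .ofNat 0, .ofNat 0, .ofNat 0, .ofNat 0, .ofNat 0, .ofNat 0, .ofNat 0, .ofNat 0, .ofNat 0, .ofNat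 0, .ofNat 0, .ofNat 0, .ofNat 0, .ofNat 0, .ofNat 0, .ofNat 0, .ofNat 0, .ofNat 0, .ofNat 0, .ofNat 0, .ofNat 0, .ofNat 0, .ofNat 0, .ofNat 0, .ofNat 0, .ofNat 0, .ofNat 0, .ofNat 0, .ofNat 0, .ofNat 0, .ofNat 0, .ofNat 0, .ofNat 0, .ofNat 0, .ofNat 0, .ofNat 0, .ofNat 0, .ofNat 0],
    [.ofNat 0, .ofNat 0, .ofNat 0, .ofNat 0, .ofNat 0, .negSucc 1, .ofNat 0, .ofNat 0, .ofNat 0, .ofNat 0, .ofNat 1, .ofNat 0, .ofNat 0, .ofNat 0, .ofNat 0, .ofNat 0, .ofNat 0, .ofNat 0, .ofNat 0, .ofNat 0, .ofNat 0, .ofNat 0, .ofNat 0, .ofNat 0, .ofNat 0, .ofNat 0, .ofNat 0, .ofNat 0, .ofNat 0, .ofNat 0, .ofNat 0, .ofNat 0, .ofNat 0, .ofNat 0, .ofNat 0, .ofNat 0, .ofNat 0, .ofNat 0, .ofNat 0, .ofNat 0, .ofNat 0, .ofNat 0, .ofNat 0, .ofNat 0, .ofNat 0, .ofNat 0, .ofNat 0, .ofNat 0, .ofNat 0, .ofNat 0, .ofNat 0,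 .ofNat 0, .ofNat 0, .ofNat 0, .ofNat 0, .ofNat 0, .ofNat 0, .ofNat 0, .ofNat 0, .ofNat 0, .ofNat 0, .ofNat 0, .ofNat 0, .ofNat 0, .ofNat 0, .ofNat 0, .negSucc 0, .ofNat 0, .ofNat 0, .ofNat 0, .negSucc 0, .negSucc 0, .ofNat 0, .ofNat 0, .ofNat 0, .ofNat 0, .ofNat 0, .ofNat 0, .negSucc 0, .ofNat 0, .ofNat 0, .ofNat 0, .negSucc 1, .ofNat 0, .ofNat 0, .ofNat 0, .ofNat 0, .ofNat 0, .ofNat 0, .ofNat 0, .ofNat 0, .ofNat 0, .ofNat 0, .ofNat 0, .ofNat 0, .ofNat 0, .ofNat 0, .ofNat 0, .ofNat 0, .ofNat 0, .ofNat 0, .ofNat 0, .ofNat 0, .ofNat 0, .ofNat 0, .ofNat 0, .ofNat 0, .ofNat 0, .ofNat 0, .ofNat 0, .ofNat 0, .ofNat 0, .ofNat 0, .ofNat 0, .ofNat 0, .ofNat 0, .ofNat 0, .ofNat 0, .ofNat 0, .ofNat 0, .ofNat 0, .ofNat 0, .ofNat 0, .ofNat 0, .ofNat 0, .ofNat 0, .ofNat 0, .ofNat 0, .ofNat 0, .ofNat 0,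 .negSucc 1, .negSucc 2, .ofNat 0, .ofNat 0, .ofNat 0, .ofNat 0, .ofNat 0, .ofNat 0, .ofNat 0, .ofNat 0, .ofNat 0, .ofNat 0, .ofNat 0, .negSucc 1, .ofNat 0, .ofNat 0, .ofNat 0, .ofNat 0, .ofNat 0, .ofNat 0, .ofNat 0, .ofNat 0, .ofNat 0, .ofNat 0, .ofNat 0, .ofNat 0, .ofNat 0, .ofNat 0, .ofNat 0, .ofNat 0, .ofNat 0, .ofNat 0, .ofNat 0, .ofNat 0],
    [.ofNat 0, .ofNat 0, .ofNat 0, .ofNat 0, .ofNat 0, .ofNat 2, .ofNat 1, .ofNat 0, .ofNat 0, .ofNat 0, .ofNat 1, .ofNat 1, .ofNat 0, .ofNat 0, .ofNat 0, .ofNat 0, .ofNat 0, .ofNat 0, .ofNat 0, .ofNat 0, .ofNat 0, .ofNat 0, .ofNat 0, .ofNat 0, .ofNat 0, .ofNat 0, .ofNat 0, .ofNat 0, .ofNat 0, .negSucc 0, .ofNat 0, .ofNat 0, .ofNat 0, .ofNat 0, .ofNat 0, .ofNat 0, .ofNat 0, .ofNat 0, .ofNat 0, .ofNat 0, .ofNat 0, .ofNat 0, .ofNat 0, .ofNat 0, .ofNat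 0, .ofNat 0, .ofNat 0, .ofNat 0, .ofNat 0, .ofNat 0, .ofNat 0, .ofNat 0, .ofNat 0, .negSucc 0, .ofNat 0, .ofNat 0, .ofNat 0, .ofNat 0, .ofNat 0, .ofNat 0, .ofNat 0, .ofNat 0, .ofNat 0, .ofNat 0, .ofNat 0, .ofNat 0, .ofNat 0, .ofNat 0, .ofNat 0, .ofNat 1, .ofNat 1, .negSucc 0, .ofNat 0, .ofNat 0, .ofNat 0, .ofNat 0, .ofNat 0, .ofNat 0, .ofNat 1, .ofNat 0, .ofNat 0, .ofNat 2, .ofNat 1, .ofNat 1, .ofNat 0, .ofNat 0, .ofNat 0, .ofNat 0, .ofNat 0, .ofNat 0, .ofNat 0, .ofNat 0, .ofNat 0, .ofNat 0, .ofNat 0, .ofNat 0, .ofNat 0, .ofNat 0, .ofNat 0, .ofNat 0, .ofNat 0, .ofNat 0, .ofNat 0, .ofNat 0, .ofNat 0, .ofNat 0, .ofNat 0, .ofNat 0, .ofNat 0, .ofNat 0, .ofNat 0, .ofNat 0, .ofNat 0, .ofNat 0, .ofNat 0, .ofNat 0, .ofNat 0, .ofNat 0, .ofNat 1, .ofNat 0, .ofNat 0, .ofNat 0, .ofNat 0, .ofNat 0, .ofNat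 0, .ofNat 0, .ofNat 0, .ofNat 0, .ofNat 0, .ofNat 0, .ofNat 2, .ofNat 3, .ofNat 0, .ofNat 0, .ofNat 0, .ofNat 0, .ofNat 0, .ofNat 0, .ofNat 0, .ofNat 0, .ofNat 0, .ofNat 0, .ofNat 0, .ofNat 2, .ofNat 0, .ofNat 0, .ofNat 0, .ofNat 0, .ofNat 0, .ofNat 0, .ofNat 0, .ofNat 0, .ofNat 0, .ofNat 0, .ofNat 0, .ofNat 0, .ofNat 0, .ofNat 0, .ofNat 0, .ofNat 0, .ofNat 0, .ofNat 0, .ofNat 0, .ofNat 0],
    [.ofNat 0, .ofNat 0, .ofNat 0, .ofNat 0, .ofNat 0, .ofNat 0, .ofNat 0, .ofNat 0, .ofNat 0, .ofNat 0, .ofNat 1, .ofNat 1, .ofNat 0, .ofNat 0, .ofNat 0, .ofNat 0, .ofNat 0, .ofNat 0, .ofNat 0, .ofNat 0, .ofNat 0, .ofNat 0, .ofNat 0, .ofNat 0, .ofNat 0, .ofNat 0, .ofNat 0, .ofNat 0, .ofNat 0, .ofNat 0, .ofNat 0, .ofNat 0, .ofNat 0, .ofNat 0, .ofNat 0, .ofNat 0, .ofNat 0, .ofNat 0, .ofNat 0, .ofNat 0, .ofNat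 0, .ofNat 0, .ofNat 0, .ofNat 0, .ofNat 0, .ofNat 0, .ofNat 0, .ofNat 0, .ofNat 0, .ofNat 0, .ofNat 0, .ofNat 0, .ofNat 0, .ofNat 0, .ofNat 0, .ofNat 0, .ofNat 0, .ofNat 0, .ofNat 0, .ofNat 0, .ofNat 0, .ofNat 0, .ofNat 0, .ofNat 0, .ofNat 0, .ofNat 0, .ofNat 0, .ofNat 0, .ofNat 0, .ofNat 0, .negSucc 0, .negSucc 0, .ofNat 0, .ofNat 0, .ofNat 0, .ofNat 0, .ofNat 0, .ofNat 0, .ofNat 0, .ofNat 0, .ofNat 0, .ofNat 0, .ofNat 1, .ofNat 1, .ofNat 0, .ofNat 0, .ofNat 0, .ofNat 0, .ofNat 0, .ofNat 0, .ofNat 0, .ofNat 0, .ofNat 0, .ofNat 0, .ofNat 0, .ofNat 0, .ofNat 0, .ofNat 0, .ofNat 0, .ofNat 0, .ofNat 0, .ofNat 0, .ofNat 0, .ofNat 0, .ofNat 0, .ofNat 0, .ofNat 0, .ofNat 0, .ofNat 0, .ofNat 0, .ofNat 0, .ofNat 0, .ofNat 0, .ofNat 0, .ofNat 0, .ofNat 0, .ofNat 0, .ofNat 0, .ofNat 0, .ofNat 0, .ofNat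 0, .ofNat 0, .ofNat 0, .ofNat 0, .ofNat 0, .ofNat 0, .ofNat 0, .ofNat 0, .ofNat 0, .ofNat 0, .ofNat 0, .ofNat 0, .ofNat 0, .ofNat 0, .ofNat 0, .ofNat 0, .ofNat 0, .ofNat 0, .ofNat 0, .ofNat 0, .ofNat 0, .ofNat 0, .ofNat 0, .ofNat 0, .ofNat 0, .ofNat 0, .ofNat 0, .ofNat 0, .ofNat 0, .ofNat 0, .ofNat 0, .ofNat 0, .ofNat 0, .ofNat 0, .ofNat 0, .ofNat 0, .ofNat 0, .ofNat 0, .ofNat 0, .ofNat 0, .ofNat 0, .ofNat 0, .ofNat 0, .ofNat 0],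
    [.ofNat 0, .ofNat 0, .ofNat 0, .ofNat 0, .ofNat 0, .ofNat 0, .ofNat 0, .ofNat 0, .ofNat 0, .ofNat 0, .ofNat 0, .ofNat 1, .ofNat 0, .ofNat 0, .ofNat 0, .ofNat 0, .ofNat 0, .ofNat 0, .ofNat 0, .ofNat 0, .ofNat 0, .ofNat 0, .ofNat 0, .ofNat 0, .ofNat 0, .ofNat 0, .ofNat 0, .ofNat 0, .ofNat 0, .ofNat 0, .ofNat 0, .ofNat 0, .ofNat 0, .ofNat 0, .ofNat 0, .ofNat 0, .ofNat 0, .ofNat 0, .ofNat 0, .ofNat 0, .ofNat 0, .ofNat 0, .ofNat 0, .ofNat 0, .ofNat 0, .ofNat 0, .ofNat 0, .ofNat 0, .ofNat 0, .ofNat 0, .ofNat 0, .ofNat 0, .ofNat 0, .ofNat 0, .ofNat 0, .ofNat 0, .ofNat 0, .ofNat 0, .ofNat 0, .ofNat 0, .ofNat 0, .ofNat 0, .ofNat 0, .ofNat 0, .ofNat 0, .ofNat 0, .ofNat 0, .ofNat 0, .negSucc 0, .negSucc 0, .ofNat 0, .ofNat 0, .ofNat 0, .ofNat 0, .ofNat 0, .ofNat 0, .ofNat 0, .ofNat 0, .ofNat 0, .negSucc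 0, .negSucc 0, .negSucc 0, .negSucc 0, .ofNat 0, .ofNat 0, .ofNat 0, .ofNat 0, .ofNat 0, .ofNat 0, .ofNat 0, .ofNat 0, .ofNat 0, .ofNat 0, .ofNat 0, .ofNat 1, .ofNat 1, .ofNat 0, .ofNat 0, .ofNat 0, .ofNat 0, .ofNat 0, .ofNat 0, .ofNat 0, .ofNat 0, .ofNat 0, .ofNat 0, .ofNat 0, .negSucc 0, .ofNat 0, .ofNat 0, .ofNat 0, .ofNat 0, .ofNat 0, .ofNat 0, .ofNat 0, .ofNat 0, .ofNat 0, .ofNat 0, .negSucc 0, .negSucc 0, .ofNat 0, .ofNat 0, .ofNat 0, .ofNat 0, .ofNat 0, .ofNat 0, .ofNat 0, .ofNat 0, .ofNat 0, .ofNat 0, .negSucc 0, .negSucc 2, .ofNat 0, .ofNat 0, .ofNat 0, .ofNat 0, .ofNat 0, .ofNat 0, .ofNat 0, .ofNat 0, .ofNat 0, .ofNat 0, .ofNat 0, .negSucc 0, .ofNat 0, .ofNat 0, .ofNat 0, .ofNat 0, .ofNat 0, .ofNat 0, .ofNat 0, .ofNat 0, .ofNat 0, .ofNat 0, .ofNat 0, .ofNat 0, .ofNat 0, .ofNat 0,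 .ofNat 0, .ofNat 0, .ofNat 0, .ofNat 0, .ofNat 0, .ofNat 0],
    [.ofNat 0, .ofNat 0, .ofNat 0, .ofNat 0, .ofNat 0, .ofNat 0, .ofNat 0, .ofNat 0, .ofNat 0, .ofNat 0, .ofNat 0, .ofNat 0, .ofNat 0, .ofNat 0, .ofNat 0, .ofNat 0, .ofNat 0, .ofNat 0, .ofNat 0, .ofNat 0, .ofNat 0, .ofNat 0, .ofNat 0, .ofNat 0, .ofNat 0, .ofNat 0, .ofNat 0, .ofNat 0, .ofNat 0, .ofNat 0, .ofNat 0, .ofNat 0, .ofNat 0, .ofNat 0, .ofNat 0, .ofNat 0, .ofNat 0, .ofNat 0, .ofNat 0, .ofNat 0, .ofNat 0, .ofNat 0, .ofNat 0, .ofNat 0, .ofNat 0, .ofNat 0, .ofNat 0, .ofNat 0, .ofNat 0, .ofNat 0, .ofNat 0, .ofNat 0, .ofNat 0, .ofNat 0, .ofNat 0, .ofNat 0, .ofNat 0, .ofNat 0, .ofNat 0, .ofNat 0, .ofNat 0, .ofNat 0, .ofNat 0, .ofNat 0, .ofNat 0, .ofNat 0, .ofNat 0, .ofNat 0, .ofNat 0, .ofNat 0, .ofNat 0, .ofNat 0, .ofNat 0, .ofNat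 0, .ofNat 0, .ofNat 0, .ofNat 0, .ofNat 0, .ofNat 0, .ofNat 0, .ofNat 0, .ofNat 0, .ofNat 0, .negSucc 0, .ofNat 0, .ofNat 0, .ofNat 0, .ofNat 0, .ofNat 0, .ofNat 0, .ofNat 0, .ofNat 0, .ofNat 0, .ofNat 0, .ofNat 0, .ofNat 0, .ofNat 0, .ofNat 0, .ofNat 0, .ofNat 0, .ofNat 0, .ofNat 0, .ofNat 0, .ofNat 0, .ofNat 0, .ofNat 0, .ofNat 0, .ofNat 0, .ofNat 0, .ofNat 0, .ofNat 0, .ofNat 0, .ofNat 0, .ofNat 0, .ofNat 0, .ofNat 0, .ofNat 0, .ofNat 0, .ofNat 0, .ofNat 0, .ofNat 0, .ofNat 0, .ofNat 0, .ofNat 0, .ofNat 0, .ofNat 0, .ofNat 0, .ofNat 0, .ofNat 0, .ofNat 0, .ofNat 0, .negSucc 0, .ofNat 0, .ofNat 0, .ofNat 0, .ofNat 0, .ofNat 0, .ofNat 0, .ofNat 0, .ofNat 0, .ofNat 0, .ofNat 0, .ofNat 0, .ofNat 0, .ofNat 0, .ofNat 0, .ofNat 0, .ofNat 0, .ofNat 0, .ofNat 0, .ofNat 0, .ofNat 0, .ofNat 0, .ofNat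 0, .ofNat 0, .ofNat 0, .ofNat 0, .ofNat 0, .ofNat 0, .ofNat 0, .ofNat 0, .ofNat 0, .ofNat 0, .ofNat 0]]

def sp6 : List (ℕ × List ℕ × List ℕ) := [(0, [6], [0, 0]),
    (0, [7], [6, 0]),
    (0, [7], [7, 0]),
    (0, [7], [0, 0]),
    (0, [3], [2, 1]),
    (0, [3], [3, 1]),
    (0, [3], [1, 1]),
    (0, [4], [3, 1])]

def rv6 : List (List ℤ) := [[.ofNat 0, .ofNat 0, .ofNat 0, .ofNat 0, .ofNat 0, .ofNat 0, .ofNat 2, .ofNat 0, .ofNat 0, .ofNat 0, .ofNat 1, .ofNat 1, .ofNat 0, .ofNat 0, .ofNat 0, .ofNat 0, .ofNat 0, .ofNat 0, .ofNat 0, .ofNat 0, .ofNat 0, .ofNat 0, .ofNat 0, .ofNat 0, .ofNat 0, .ofNat 0, .ofNat 0, .ofNat 0, .ofNat 0, .ofNat 0, .negSucc 0, .ofNat 0, .ofNat 0, .ofNat 0, .ofNat 0, .ofNat 0, .ofNat 0, .ofNat 0, .ofNat 0, .ofNat 0, .ofNat 0, .ofNat 0, .ofNat 0, .ofNat 0, .ofNat 0,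 .ofNat 0, .ofNat 0, .ofNat 0, .ofNat 0, .ofNat 0, .ofNat 0, .ofNat 0, .ofNat 0, .ofNat 0, .negSucc 0, .ofNat 0, .ofNat 0, .ofNat 0, .negSucc 0, .ofNat 0, .ofNat 0, .ofNat 0, .ofNat 0, .ofNat 0, .ofNat 0, .ofNat 0, .negSucc 0, .ofNat 0, .ofNat 0, .ofNat 0, .negSucc 0, .negSucc 0, .ofNat 0, .ofNat 0, .ofNat 0, .ofNat 0, .ofNat 0, .ofNat 0, .ofNat 0, .ofNat 0, .ofNat 0, .ofNat 1, .ofNat 1, .ofNat 0, .ofNat 0, .ofNat 0, .ofNat 0, .ofNat 0, .ofNat 0, .ofNat 0, .ofNat 0, .ofNat 0, .ofNat 0, .ofNat 0, .ofNat 0, .ofNat 0, .ofNat 0, .ofNat 0, .ofNat 0, .ofNat 0, .ofNat 0, .ofNat 0, .ofNat 0, .ofNat 0, .ofNat 0, .ofNat 0, .ofNat 0, .ofNat 0, .ofNat 0, .ofNat 0, .ofNat 0, .ofNat 0, .ofNat 0, .ofNat 0, .ofNat 0, .ofNat 0, .ofNat 0, .ofNat 0, .ofNat 0, .ofNat 0, .ofNat 0, .ofNat 0, .ofNat 0, .ofNat 0,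 .ofNat 0, .ofNat 0, .ofNat 0, .ofNat 0, .ofNat 0, .ofNat 0, .ofNat 0, .negSucc 0, .ofNat 0, .ofNat 0, .ofNat 0, .ofNat 0, .ofNat 0, .ofNat 0, .ofNat 0, .ofNat 0, .ofNat 0, .ofNat 0, .ofNat 0, .ofNat 0, .ofNat 0, .ofNat 0, .ofNat 0, .ofNat 0, .ofNat 0, .ofNat 0, .ofNat 0, .ofNat 0, .ofNat 0, .ofNat 0, .ofNat 0, .ofNat 0, .ofNat 0, .ofNat 0, .ofNat 0, .ofNat 0, .ofNat 0, .ofNat 0, .ofNat 0, .ofNat 0],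
    [.ofNat 0, .ofNat 0, .ofNat 0, .ofNat 0, .ofNat 0, .ofNat 0, .ofNat 0, .ofNat 0, .ofNat 0, .ofNat 0, .ofNat 1, .ofNat 1, .ofNat 0, .ofNat 0, .ofNat 0, .ofNat 0, .ofNat 0, .ofNat 0, .ofNat 0, .ofNat 0, .ofNat 0, .ofNat 0, .ofNat 0, .ofNat 0, .ofNat 0, .ofNat 0, .ofNat 0, .ofNat 0, .ofNat 0, .ofNat 0, .ofNat 0, .ofNat 0, .ofNat 0, .ofNat 0, .ofNat 0, .ofNat 0, .ofNat 0, .ofNat 0, .ofNat 0, .ofNat 0, .ofNat 0, .ofNat 0, .ofNat 0, .ofNat 0, .ofNat 0, .ofNat 0, .ofNat 0, .ofNat 0, .ofNat 0, .ofNat 0, .ofNat 0, .ofNat 0, .ofNat 0, .ofNat 0, .ofNat 0, .ofNat 0, .ofNat 0, .ofNat 0, .ofNat 0, .ofNat 0, .ofNat 0, .ofNat 0, .ofNat 0, .ofNat 0, .ofNat 0, .ofNat 0, .ofNat 0, .ofNat 0, .ofNat 0, .ofNat 0, .ofNat 0, .ofNat 0, .ofNat 0, .ofNat 0, .ofNat 0, .ofNat 0, .ofNat 0, .ofNat 0, .ofNat 0, .ofNat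 0, .negSucc 0, .negSucc 0, .ofNat 0, .ofNat 0, .ofNat 0, .ofNat 0, .ofNat 0, .ofNat 0, .ofNat 0, .ofNat 0, .ofNat 0, .ofNat 0, .ofNat 0, .ofNat 0, .ofNat 1, .ofNat 1, .ofNat 0, .ofNat 0, .ofNat 0, .ofNat 0, .ofNat 0, .ofNat 0, .ofNat 0, .ofNat 0, .ofNat 0, .ofNat 0, .ofNat 0, .ofNat 0, .ofNat 0, .ofNat 0, .ofNat 0, .ofNat 0, .ofNat 0, .ofNat 0, .ofNat 0, .ofNat 0, .ofNat 0, .ofNat 0, .ofNat 0, .ofNat 0, .ofNat 0, .ofNat 0, .ofNat 0, .ofNat 0, .ofNat 0, .ofNat 0, .ofNat 0, .ofNat 0, .ofNat 0, .ofNat 0, .ofNat 0, .ofNat 0, .ofNat 0, .ofNat 0, .ofNat 0, .ofNat 0, .ofNat 0, .ofNat 0, .ofNat 0, .ofNat 0, .ofNat 0, .ofNat 0, .ofNat 0, .ofNat 0, .ofNat 0, .ofNat 0, .ofNat 0, .ofNat 0, .ofNat 0, .ofNat 0, .ofNat 0, .ofNat 0, .ofNat 0, .ofNat 0, .ofNat 0, .ofNat 0, .ofNat 0, .ofNat 0, .ofNat 0, .ofNat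 0, .ofNat 0, .ofNat 0, .ofNat 0, .ofNat 0],
    [.ofNat 0, .ofNat 0, .ofNat 0, .ofNat 0, .ofNat 0, .ofNat 0, .ofNat 0, .negSucc 1, .ofNat 0, .ofNat 0, .ofNat 1, .ofNat 1, .ofNat 0, .ofNat 0, .ofNat 0, .ofNat 0, .ofNat 0, .ofNat 0, .ofNat 0, .ofNat 0, .ofNat 0, .ofNat 0, .ofNat 0, .ofNat 0, .ofNat 0, .ofNat 0, .ofNat 0, .ofNat 0, .ofNat 0, .ofNat 0, .ofNat 0, .ofNat 0, .ofNat 0, .ofNat 0, .ofNat 0, .ofNat 0, .ofNat 0, .ofNat 0, .ofNat 0, .ofNat 0, .ofNat 0, .ofNat 0, .ofNat 0, .ofNat 0, .ofNat 0, .ofNat 0, .ofNat 0, .ofNat 0, .ofNat 0, .ofNat 0, .ofNat 0, .ofNat 0, .ofNat 0, .ofNat 0, .ofNat 0, .ofNat 0, .ofNat 0, .ofNat 0, .ofNat 0, .ofNat 0, .ofNat 0, .ofNat 0, .ofNat 0, .ofNat 0, .ofNat 0, .ofNat 0, .ofNat 0, .ofNat 0, .ofNat 0, .ofNat 0, .ofNat 0, .ofNat 0, .ofNat 0, .ofNat 0, .ofNat 0,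 .ofNat 0, .ofNat 0, .ofNat 0, .ofNat 0, .ofNat 0, .ofNat 0, .ofNat 0, .ofNat 0, .ofNat 0, .ofNat 0, .ofNat 0, .ofNat 0, .ofNat 0, .ofNat 0, .ofNat 0, .ofNat 0, .ofNat 0, .negSucc 0, .negSucc 0, .ofNat 0, .ofNat 0, .ofNat 0, .ofNat 0, .ofNat 0, .ofNat 0, .ofNat 0, .ofNat 0, .ofNat 0, .ofNat 0, .negSucc 0, .negSucc 0, .negSucc 1, .negSucc 1, .ofNat 0, .ofNat 0, .ofNat 0, .ofNat 0, .ofNat 0, .ofNat 0, .ofNat 0, .ofNat 0, .ofNat 0, .negSucc 0, .negSucc 1, .negSucc 1, .ofNat 0, .ofNat 0, .ofNat 0, .ofNat 0, .ofNat 0, .ofNat 0, .ofNat 0, .ofNat 0, .ofNat 0, .ofNat 0, .ofNat 0, .ofNat 0, .ofNat 0, .ofNat 0, .ofNat 0, .ofNat 0, .ofNat 0, .ofNat 0, .ofNat 0, .ofNat 0, .ofNat 0, .ofNat 0, .ofNat 0, .ofNat 0, .ofNat 0, .ofNat 0, .ofNat 0, .ofNat 0, .ofNat 0, .ofNat 0, .ofNat 0, .ofNat 0, .ofNat 0, .ofNat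 0, .ofNat 0, .ofNat 0, .ofNat 0, .ofNat 0, .ofNat 0, .ofNat 0, .ofNat 0, .ofNat 0, .ofNat 0, .ofNat 0],
    [.ofNat 0, .ofNat 0, .ofNat 0, .ofNat 0, .ofNat 0, .ofNat 0, .ofNat 0, .ofNat 2, .ofNat 1, .ofNat 1, .ofNat 0, .ofNat 0, .ofNat 0, .ofNat 0, .ofNat 0, .ofNat 0, .ofNat 0, .ofNat 0, .ofNat 0, .ofNat 0, .ofNat 0, .ofNat 0, .ofNat 0, .ofNat 0, .ofNat 0, .ofNat 0, .ofNat 0, .ofNat 0, .ofNat 0, .ofNat 0, .ofNat 0, .negSucc 0, .ofNat 0, .ofNat 0, .ofNat 0, .ofNat 0, .ofNat 0, .ofNat 0, .ofNat 0, .ofNat 0, .ofNat 0, .ofNat 0, .ofNat 0, .ofNat 0, .ofNat 0, .ofNat 0, .ofNat 0, .ofNat 0, .ofNat 0, .ofNat 0, .ofNat 0, .ofNat 0, .ofNat 0, .ofNat 0, .ofNat 0, .negSucc 0, .ofNat 0, .ofNat 0, .negSucc 0, .negSucc 0, .ofNat 0, .ofNat 0, .ofNat 0, .ofNat 0, .ofNat 0, .ofNat 0, .ofNat 0, .negSucc 0, .ofNat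 0, .ofNat 0, .negSucc 0, .negSucc 0, .ofNat 0, .ofNat 0, .ofNat 0, .ofNat 0, .ofNat 0, .ofNat 0, .ofNat 0, .ofNat 0, .ofNat 0, .ofNat 0, .ofNat 0, .ofNat 0, .ofNat 0, .ofNat 0, .ofNat 0, .ofNat 0, .ofNat 0, .ofNat 0, .ofNat 0, .ofNat 0, .ofNat 0, .ofNat 1, .ofNat 1, .ofNat 0, .ofNat 0, .ofNat 0, .ofNat 0, .ofNat 0, .ofNat 0, .ofNat 0, .ofNat 0, .ofNat 0, .ofNat 1, .ofNat 1, .ofNat 2, .ofNat 0, .ofNat 0, .ofNat 0, .ofNat 0, .ofNat 0, .ofNat 0, .ofNat 0, .ofNat 0, .ofNat 0, .ofNat 0, .ofNat 1, .ofNat 1, .ofNat 1, .ofNat 0, .ofNat 0, .ofNat 0, .ofNat 0, .ofNat 0, .ofNat 0, .ofNat 0, .ofNat 0, .ofNat 0, .ofNat 0, .ofNat 0, .ofNat 0, .ofNat 0, .ofNat 0, .ofNat 0, .ofNat 0, .ofNat 0, .ofNat 0, .ofNat 0, .ofNat 0, .ofNat 0, .ofNat 0, .ofNat 0, .ofNat 0, .ofNat 0, .ofNat 0, .ofNat 0, .ofNat 0, .ofNat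 0, .ofNat 0, .ofNat 0, .ofNat 0, .ofNat 0, .ofNat 0, .ofNat 0, .ofNat 0, .ofNat 0, .ofNat 0, .ofNat 0, .ofNat 0, .ofNat 0, .ofNat 0, .ofNat 0, .ofNat 0],
    [.ofNat 0, .ofNat 0, .ofNat 0, .ofNat 0, .ofNat 0, .ofNat 0, .ofNat 0, .ofNat 0, .ofNat 0, .ofNat 0, .ofNat 0, .ofNat 0, .ofNat 0, .ofNat 0, .ofNat 0, .ofNat 0, .ofNat 0, .ofNat 0, .ofNat 0, .ofNat 1, .ofNat 0, .ofNat 0, .ofNat 0, .ofNat 0, .ofNat 0, .ofNat 0, .ofNat 0, .ofNat 0, .ofNat 0, .ofNat 0, .ofNat 0, .ofNat 0, .ofNat 0, .negSucc 0, .ofNat 0, .negSucc 0, .ofNat 0, .ofNat 0, .ofNat 0, .ofNat 0, .ofNat 0, .ofNat 0, .ofNat 1, .ofNat 0, .ofNat 0, .ofNat 1, .ofNat 0, .ofNat 1, .ofNat 0, .ofNat 0, .ofNat 0, .ofNat 0, .ofNat 0, .ofNat 0, .ofNat 0, .ofNat 0, .ofNat 0, .ofNat 0, .ofNat 0, .ofNat 0, .ofNat 0, .ofNat 0, .ofNat 0, .ofNat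 0, .ofNat 0, .ofNat 0, .ofNat 0, .ofNat 0, .ofNat 0, .ofNat 0, .ofNat 0, .ofNat 0, .ofNat 0, .ofNat 0, .ofNat 0, .ofNat 0, .ofNat 0, .ofNat 0, .ofNat 0, .negSucc 0, .ofNat 0, .negSucc 0, .ofNat 0, .ofNat 0, .ofNat 0, .ofNat 0, .ofNat 0, .ofNat 0, .ofNat 0, .ofNat 0, .ofNat 0, .ofNat 0, .ofNat 1, .ofNat 1, .ofNat 0, .ofNat 1, .ofNat 0, .ofNat 0, .ofNat 0, .ofNat 0, .ofNat 0, .ofNat 0, .ofNat 0, .ofNat 0, .ofNat 1, .ofNat 1, .ofNat 0, .ofNat 1, .ofNat 0, .ofNat 0, .ofNat 0, .ofNat 0, .ofNat 0, .ofNat 0, .ofNat 0, .ofNat 0, .ofNat 0, .ofNat 1, .negSucc 1, .ofNat 0, .ofNat 0, .ofNat 0, .ofNat 0, .ofNat 0, .ofNat 0, .ofNat 0, .ofNat 0, .ofNat 0, .ofNat 0, .ofNat 0, .ofNat 0, .ofNat 1, .ofNat 0, .ofNat 0, .ofNat 0, .ofNat 0, .ofNat 0, .ofNat 0, .ofNat 0, .ofNat 0, .ofNat 0, .ofNat 0, .ofNat 0, .ofNat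 0, .ofNat 0, .ofNat 0, .ofNat 0, .ofNat 0, .ofNat 0, .ofNat 0, .ofNat 0, .ofNat 0, .ofNat 0, .ofNat 0, .ofNat 0, .ofNat 0, .ofNat 0, .ofNat 0, .ofNat 0, .ofNat 0, .ofNat 0, .ofNat 0, .ofNat 0, .ofNat 0],
    [.ofNat 0, .ofNat 0, .ofNat 0, .ofNat 0, .ofNat 0, .ofNat 0, .ofNat 0, .ofNat 0, .ofNat 0, .ofNat 0, .ofNat 0, .ofNat 0, .ofNat 0, .ofNat 0, .ofNat 0, .negSucc 1, .ofNat 0, .ofNat 0, .ofNat 0, .ofNat 0, .ofNat 1, .ofNat 1, .ofNat 1, .ofNat 0, .ofNat 0, .ofNat 0, .ofNat 0, .ofNat 0, .ofNat 0, .ofNat 0, .ofNat 0, .ofNat 0, .ofNat 0, .ofNat 0, .ofNat 0, .ofNat 0, .ofNat 0, .ofNat 0, .ofNat 0, .ofNat 0, .ofNat 0, .ofNat 0, .ofNat 0, .ofNat 0, .ofNat 0, .negSucc 0, .ofNat 0, .negSucc 0, .ofNat 0, .ofNat 0, .ofNat 0, .ofNat 0, .ofNat 0, .ofNat 0, .ofNat 0, .ofNat 0, .ofNat 0, .ofNat 0, .ofNat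 0, .ofNat 0, .ofNat 0, .ofNat 0, .ofNat 0, .ofNat 0, .ofNat 0, .ofNat 0, .ofNat 0, .ofNat 0, .ofNat 0, .ofNat 0, .ofNat 0, .ofNat 0, .ofNat 0, .ofNat 0, .ofNat 0, .ofNat 0, .ofNat 0, .ofNat 0, .ofNat 0, .ofNat 0, .ofNat 0, .ofNat 0, .ofNat 0, .ofNat 0, .ofNat 0, .ofNat 0, .ofNat 0, .ofNat 0, .ofNat 0, .ofNat 0, .ofNat 0, .ofNat 0, .ofNat 0, .ofNat 0, .ofNat 0, .ofNat 0, .ofNat 0, .ofNat 0, .ofNat 0, .ofNat 0, .ofNat 0, .ofNat 0, .ofNat 0, .ofNat 0, .ofNat 0, .ofNat 0, .ofNat 0, .ofNat 0, .ofNat 0, .ofNat 0, .ofNat 0, .ofNat 0, .ofNat 0, .ofNat 0, .ofNat 0, .ofNat 0, .ofNat 0, .negSucc 0, .negSucc 1, .negSucc 0, .ofNat 0, .ofNat 0, .ofNat 0, .ofNat 0, .ofNat 0, .ofNat 0, .ofNat 0, .ofNat 0, .ofNat 0, .ofNat 0, .ofNat 0, .ofNat 0, .ofNat 0, .ofNat 0, .ofNat 0, .ofNat 0, .ofNat 0, .ofNat 0, .ofNat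 0, .ofNat 0, .ofNat 0, .ofNat 0, .ofNat 0, .negSucc 0, .ofNat 0, .ofNat 0, .ofNat 0, .ofNat 0, .ofNat 0, .ofNat 0, .ofNat 0, .ofNat 0, .ofNat 0, .ofNat 0, .ofNat 0, .ofNat 0, .ofNat 0, .ofNat 0, .ofNat 0, .ofNat 0, .ofNat 0, .ofNat 0, .ofNat 0, .ofNat 0],
    [.ofNat 0, .ofNat 0, .ofNat 0, .ofNat 0, .ofNat 0, .ofNat 0, .ofNat 0, .ofNat 0, .ofNat 0, .ofNat 0, .ofNat 0, .ofNat 0, .ofNat 0, .ofNat 0, .ofNat 0, .ofNat 2, .ofNat 0, .ofNat 0, .ofNat 0, .ofNat 0, .ofNat 0, .ofNat 1, .ofNat 0, .ofNat 1, .ofNat 0, .ofNat 0, .ofNat 0, .ofNat 0, .ofNat 0, .ofNat 0, .ofNat 0, .ofNat 0, .ofNat 0, .ofNat 0, .ofNat 0, .ofNat 0, .ofNat 0, .ofNat 0, .ofNat 0, .ofNat 0, .ofNat 0, .ofNat 0, .ofNat 0, .ofNat 0, .ofNat 1, .ofNat 1, .ofNat 0, .ofNat 0, .ofNat 0, .ofNat 0, .ofNat 0, .ofNat 0, .ofNat 0, .ofNat 0,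 .ofNat 0, .ofNat 0, .ofNat 0, .ofNat 0, .ofNat 0, .ofNat 0, .ofNat 0, .ofNat 0, .ofNat 0, .ofNat 0, .ofNat 0, .ofNat 0, .ofNat 0, .ofNat 0, .ofNat 0, .ofNat 0, .ofNat 0, .ofNat 0, .ofNat 0, .ofNat 0, .ofNat 0, .ofNat 0, .ofNat 0, .ofNat 0, .ofNat 0, .ofNat 0, .ofNat 0, .ofNat 0, .ofNat 0, .ofNat 0, .ofNat 0, .ofNat 0, .ofNat 0, .ofNat 0, .ofNat 0, .ofNat 0, .ofNat 0, .ofNat 0, .ofNat 0, .ofNat 0, .ofNat 0, .ofNat 0, .ofNat 0, .ofNat 0, .ofNat 0, .ofNat 0, .ofNat 0, .ofNat 0, .ofNat 0, .ofNat 0, .ofNat 0, .ofNat 0, .ofNat 0, .ofNat 0, .ofNat 0, .ofNat 0, .ofNat 0, .ofNat 0, .ofNat 0, .ofNat 0, .ofNat 0, .ofNat 0, .ofNat 0, .ofNat 1, .ofNat 0, .ofNat 1, .ofNat 0, .ofNat 0, .ofNat 0, .ofNat 0, .ofNat 0, .ofNat 0, .ofNat 0, .ofNat 0, .ofNat 0, .ofNat 0, .ofNat 0, .ofNat 0, .ofNat 0, .ofNat 0,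 .ofNat 0, .ofNat 0, .ofNat 0, .ofNat 0, .ofNat 0, .ofNat 0, .ofNat 0, .ofNat 0, .ofNat 0, .ofNat 1, .ofNat 0, .ofNat 0, .ofNat 0, .ofNat 0, .ofNat 0, .ofNat 0, .ofNat 0, .ofNat 0, .ofNat 0, .ofNat 0, .ofNat 0, .ofNat 0, .ofNat 0, .ofNat 0, .ofNat 0, .ofNat 0, .ofNat 0, .ofNat 0, .ofNat 0, .ofNat 0],
    [.ofNat 0, .ofNat 0, .ofNat 0, .ofNat 0, .ofNat 0, .ofNat 0, .ofNat 0, .ofNat 0, .ofNat 0, .ofNat 0, .ofNat 0, .ofNat 0, .ofNat 0, .ofNat 0, .ofNat 0, .ofNat 0, .ofNat 0, .ofNat 0, .ofNat 0, .ofNat 0, .ofNat 0, .ofNat 0, .ofNat 1, .ofNat 1, .ofNat 0, .ofNat 0, .ofNat 0, .ofNat 0, .ofNat 0, .ofNat 0, .ofNat 0, .ofNat 0, .ofNat 0, .ofNat 0, .ofNat 0, .ofNat 0, .ofNat 0, .ofNat 0, .ofNat 0, .ofNat 0, .ofNat 0, .ofNat 0, .ofNat 0, .ofNat 0, .ofNat 0, .negSucc 0, .negSucc 0, .ofNat 0, .ofNat 0,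 .ofNat 0, .ofNat 0, .ofNat 0, .ofNat 0, .ofNat 0, .ofNat 0, .ofNat 0, .ofNat 0, .ofNat 1, .ofNat 0, .ofNat 1, .ofNat 0, .ofNat 0, .ofNat 0, .ofNat 0, .ofNat 0, .ofNat 0, .ofNat 0, .ofNat 0, .ofNat 0, .ofNat 0, .ofNat 0, .ofNat 0, .ofNat 0, .ofNat 0, .ofNat 0, .ofNat 0, .ofNat 0, .ofNat 0, .ofNat 0, .ofNat 0, .ofNat 0, .ofNat 0, .ofNat 0, .ofNat 0, .ofNat 0, .ofNat 0, .ofNat 0, .ofNat 0, .ofNat 0, .ofNat 0, .ofNat 0, .ofNat 0, .ofNat 0, .ofNat 0, .ofNat 0, .ofNat 0, .ofNat 0, .ofNat 0, .ofNat 0, .ofNat 0, .ofNat 0, .ofNat 0, .ofNat 0, .ofNat 0, .ofNat 0, .ofNat 0, .ofNat 0, .ofNat 0, .ofNat 0, .ofNat 0, .ofNat 0, .ofNat 0, .ofNat 0, .ofNat 0, .ofNat 0, .ofNat 0, .ofNat 0, .ofNat 0, .negSucc 0, .negSucc 0, .ofNat 0, .ofNat 0, .ofNat 0, .ofNat 0, .ofNat 0, .ofNat 0, .ofNat 0, .ofNat 0, .ofNat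 0, .ofNat 0, .ofNat 0, .ofNat 1, .ofNat 0, .ofNat 0, .ofNat 0, .ofNat 0, .ofNat 0, .ofNat 0, .ofNat 0, .ofNat 0, .ofNat 0, .ofNat 0, .ofNat 0, .ofNat 0, .ofNat 0, .ofNat 0, .ofNat 0, .ofNat 0, .ofNat 0, .ofNat 0, .ofNat 0, .ofNat 0, .ofNat 0, .ofNat 0, .ofNat 0, .ofNat 0, .ofNat 0, .ofNat 0, .ofNat 0, .ofNat 0, .ofNat 0, .ofNat 0, .ofNat 0, .ofNat 0]]

def sp7 : List (ℕ × List ℕ × List ℕ) := [(0, [3], [3, 2]),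
    (0, [3], [2, 2]),
    (1, [7, 7], []),
    (1, [6, 6], []),
    (1, [5, 5, 9, 8], []),
    (1, [4, 4, 9, 8], []),
    (1, [3, 3, 8], []),
    (1, [2, 2, 8], [])]

def rv7 : List (List ℤ) := [[.ofNat 0, .ofNat 0, .ofNat 0, .ofNat 0, .ofNat 0, .ofNat 0, .ofNat 0, .ofNat 0, .ofNat 0, .ofNat 0, .ofNat 0, .ofNat 0, .ofNat 0, .ofNat 0, .ofNat 0, .ofNat 0, .ofNat 0, .ofNat 0, .ofNat 0, .ofNat 0, .ofNat 0, .ofNat 0, .ofNat 0, .ofNat 0, .ofNat 0, .ofNat 0, .ofNat 0, .negSucc 1, .ofNat 0, .ofNat 0, .ofNat 0, .ofNat 0, .ofNat 1, .ofNat 1, .ofNat 1, .ofNat 0, .ofNat 0, .ofNat 0, .ofNat 0, .ofNat 0, .ofNat 0, .ofNat 0, .ofNat 0, .negSucc 0, .ofNat 0, .ofNat 0, .ofNat 0, .ofNat 0, .ofNat 0, .ofNat 0, .ofNat 0, .ofNat 0, .ofNat 0, .ofNat 0, .ofNat 0, .ofNat 0, .ofNat 0, .ofNat 0, .ofNat 0, .ofNat 0,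 .ofNat 0, .ofNat 0, .ofNat 0, .ofNat 0, .ofNat 0, .ofNat 0, .ofNat 0, .ofNat 0, .ofNat 0, .ofNat 0, .ofNat 0, .ofNat 0, .ofNat 0, .ofNat 0, .ofNat 0, .ofNat 0, .ofNat 0, .ofNat 0, .ofNat 0, .ofNat 0, .ofNat 0, .ofNat 0, .ofNat 0, .ofNat 0, .ofNat 0, .ofNat 0, .ofNat 0, .ofNat 0, .ofNat 0, .ofNat 0, .ofNat 0, .negSucc 0, .negSucc 1, .negSucc 1, .negSucc 1, .ofNat 0, .ofNat 0, .ofNat 0, .ofNat 0, .ofNat 0, .ofNat 0, .ofNat 0, .ofNat 0, .ofNat 0, .ofNat 0, .ofNat 0, .negSucc 0, .negSucc 0, .ofNat 0, .ofNat 0, .ofNat 0, .ofNat 0, .ofNat 0, .ofNat 0, .ofNat 0, .ofNat 0, .ofNat 0, .ofNat 0, .ofNat 0, .negSucc 0, .ofNat 0, .ofNat 0, .ofNat 0, .ofNat 0, .ofNat 0, .ofNat 0, .ofNat 0, .ofNat 0, .ofNat 0, .ofNat 0, .ofNat 0, .ofNat 0, .ofNat 0, .ofNat 0, .ofNat 0, .ofNat 0, .ofNat 0, .ofNat 0, .ofNat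 0, .ofNat 0, .ofNat 0, .ofNat 0, .ofNat 0, .ofNat 0, .ofNat 0, .ofNat 0, .ofNat 0, .ofNat 0, .ofNat 0, .ofNat 0, .ofNat 0, .ofNat 0, .ofNat 0, .ofNat 0, .ofNat 0, .ofNat 0, .ofNat 0, .ofNat 0, .ofNat 0, .ofNat 0, .ofNat 0, .ofNat 0, .ofNat 0, .ofNat 0],
    [.ofNat 0, .ofNat 0, .ofNat 0, .ofNat 0, .ofNat 0, .ofNat 0, .ofNat 0, .ofNat 0, .ofNat 0, .ofNat 0, .ofNat 0, .ofNat 0, .ofNat 0, .ofNat 0, .ofNat 0, .ofNat 0, .ofNat 0, .ofNat 0, .ofNat 0, .ofNat 0, .ofNat 0, .ofNat 0, .ofNat 0, .ofNat 0, .ofNat 0, .ofNat 0, .ofNat 0, .ofNat 2, .ofNat 0, .ofNat 0, .ofNat 0, .ofNat 1, .ofNat 0, .ofNat 0, .ofNat 0, .ofNat 0, .ofNat 0, .ofNat 0, .ofNat 0, .ofNat 0, .ofNat 0, .ofNat 0, .ofNat 0, .ofNat 0, .ofNat 0, .ofNat 0, .ofNat 1, .ofNat 0, .ofNat 0, .ofNat 0, .ofNat 0, .ofNat 0, .ofNat 0, .ofNat 0, .ofNat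 0, .ofNat 0, .ofNat 0, .ofNat 0, .ofNat 0, .ofNat 0, .ofNat 0, .ofNat 0, .ofNat 0, .ofNat 0, .ofNat 0, .ofNat 0, .ofNat 0, .ofNat 0, .ofNat 0, .ofNat 0, .ofNat 0, .ofNat 0, .ofNat 0, .ofNat 0, .ofNat 0, .ofNat 0, .ofNat 0, .ofNat 0, .ofNat 0, .ofNat 0, .ofNat 0, .ofNat 0, .ofNat 0, .ofNat 0, .ofNat 0, .ofNat 0, .ofNat 0, .ofNat 0, .ofNat 0, .ofNat 0, .ofNat 0, .ofNat 1, .ofNat 0, .ofNat 0, .ofNat 2, .ofNat 0, .ofNat 0, .ofNat 0, .ofNat 0, .ofNat 0, .ofNat 0, .ofNat 0, .ofNat 0, .ofNat 0, .ofNat 0, .ofNat 0, .ofNat 0, .ofNat 0, .ofNat 0, .ofNat 0, .ofNat 0, .ofNat 0, .ofNat 0, .ofNat 0, .ofNat 0, .ofNat 0, .ofNat 0, .ofNat 0, .ofNat 0, .ofNat 0, .ofNat 0, .ofNat 0, .ofNat 0, .ofNat 0, .ofNat 0, .ofNat 0, .ofNat 0, .ofNat 0, .ofNat 0, .ofNat 0, .ofNat 1, .ofNat 2, .ofNat 0, .ofNat 0, .ofNat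 0, .ofNat 0, .ofNat 0, .ofNat 0, .ofNat 0, .ofNat 0, .ofNat 0, .ofNat 0, .ofNat 0, .ofNat 1, .ofNat 0, .ofNat 0, .ofNat 0, .ofNat 0, .ofNat 0, .ofNat 0, .ofNat 0, .ofNat 0, .ofNat 0, .ofNat 0, .ofNat 0, .ofNat 0, .ofNat 0, .ofNat 0, .ofNat 0, .ofNat 0, .ofNat 0, .ofNat 0, .ofNat 0, .ofNat 0],
    [.negSucc 0, .negSucc 0, .ofNat 0, .ofNat 0, .ofNat 0, .ofNat 0, .negSucc 0, .ofNat 0, .negSucc 0, .negSucc 0, .negSucc 0, .negSucc 0, .ofNat 0, .negSucc 0, .negSucc 0, .ofNat 0, .negSucc 0, .negSucc 0, .negSucc 0, .ofNat 0, .ofNat 0, .negSucc 0, .negSucc 0, .ofNat 0, .ofNat 0, .ofNat 0, .negSucc 0, .ofNat 0, .negSucc 0, .negSucc 0, .ofNat 0, .ofNat 0, .ofNat 0, .negSucc 0, .ofNat 0, .negSucc 0, .ofNat 0, .ofNat 0, .ofNat 0, .ofNat 0, .ofNat 0, .ofNat 0, .ofNat 0, .ofNat 0, .ofNat 0, .ofNat 0, .ofNat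 0, .ofNat 0, .ofNat 0, .ofNat 0, .ofNat 0, .ofNat 0, .negSucc 0, .negSucc 0, .negSucc 0, .ofNat 0, .ofNat 0, .negSucc 1, .negSucc 0, .negSucc 0, .ofNat 0, .ofNat 0, .ofNat 0, .ofNat 0, .ofNat 0, .negSucc 0, .negSucc 0, .ofNat 0, .ofNat 0, .negSucc 0, .negSucc 2, .negSucc 0, .ofNat 0, .ofNat 0, .ofNat 0, .ofNat 0, .ofNat 0, .ofNat 0, .negSucc 1, .ofNat 0, .negSucc 2, .negSucc 2, .negSucc 0, .negSucc 0, .ofNat 0, .ofNat 0, .ofNat 0, .ofNat 0, .ofNat 0, .ofNat 0, .ofNat 0, .ofNat 0, .ofNat 0, .ofNat 0, .ofNat 0, .ofNat 0, .ofNat 0, .ofNat 0, .ofNat 0, .ofNat 0, .ofNat 0, .ofNat 0, .ofNat 0, .ofNat 0, .negSucc 1, .negSucc 2, .negSucc 1, .negSucc 2, .ofNat 0, .ofNat 0, .ofNat 0, .ofNat 0, .ofNat 0, .ofNat 0, .ofNat 0, .ofNat 0, .ofNat 0, .negSucc 1, .negSucc 4, .negSucc 4, .ofNat 0, .ofNat 0, .ofNat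 0, .ofNat 0, .ofNat 0, .ofNat 0, .ofNat 0, .ofNat 0, .ofNat 0, .ofNat 0, .negSucc 6, .negSucc 4, .ofNat 0, .ofNat 0, .ofNat 0, .ofNat 0, .ofNat 0, .ofNat 0, .ofNat 0, .ofNat 0, .ofNat 0, .ofNat 0, .ofNat 0, .negSucc 6, .ofNat 0, .ofNat 0, .ofNat 0, .ofNat 0, .ofNat 0, .ofNat 0, .ofNat 0, .negSucc 1, .ofNat 0, .ofNat 0, .ofNat 0, .ofNat 0, .ofNat 0, .ofNat 0, .ofNat 0, .ofNat 0, .ofNat 0, .ofNat 0, .ofNat 0, .ofNat 0],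
    [.ofNat 0, .ofNat 0, .ofNat 0, .ofNat 0, .ofNat 0, .ofNat 0, .ofNat 0, .ofNat 0, .ofNat 0, .ofNat 0, .ofNat 0, .ofNat 0, .ofNat 0, .ofNat 0, .ofNat 0, .ofNat 0, .ofNat 0, .ofNat 0, .ofNat 0, .ofNat 0, .ofNat 0, .ofNat 0, .ofNat 0, .ofNat 0, .ofNat 0, .ofNat 0, .negSucc 0, .ofNat 0, .ofNat 0, .ofNat 0, .negSucc 0, .negSucc 0, .ofNat 0, .ofNat 0, .negSucc 0, .ofNat 0, .ofNat 0, .ofNat 0, .ofNat 0, .ofNat 0, .ofNat 0, .ofNat 0, .ofNat 0, .ofNat 0, .ofNat 0, .ofNat 0, .ofNat 0, .ofNat 0, .ofNat 0, .ofNat 0, .ofNat 0, .ofNat 0, .ofNat 0, .ofNat 0, .ofNat 0, .ofNat 0, .ofNat 0, .ofNat 0, .ofNat 0, .ofNat 0, .ofNat 0, .ofNat 0, .ofNat 0, .ofNat 0, .ofNat 0, .ofNat 0, .ofNat 0, .ofNat 0, .ofNat 0, .ofNat 0, .ofNat 0, .ofNat 0, .ofNat 0, .ofNat 0, .ofNat 0, .ofNat 0, .ofNat 0, .ofNat 0, .negSucc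 0, .negSucc 0, .ofNat 0, .ofNat 0, .negSucc 0, .negSucc 0, .ofNat 0, .ofNat 0, .ofNat 0, .ofNat 0, .ofNat 0, .ofNat 0, .ofNat 0, .negSucc 0, .ofNat 0, .ofNat 0, .negSucc 0, .negSucc 1, .ofNat 0, .ofNat 0, .ofNat 0, .ofNat 0, .ofNat 0, .ofNat 0, .ofNat 0, .ofNat 0, .ofNat 1, .ofNat 0, .ofNat 0, .ofNat 0, .ofNat 0, .ofNat 0, .ofNat 0, .ofNat 0, .ofNat 0, .ofNat 0, .ofNat 0, .ofNat 0, .ofNat 0, .ofNat 0, .ofNat 0, .ofNat 0, .ofNat 0, .ofNat 0, .ofNat 0, .ofNat 0, .ofNat 0, .ofNat 0, .ofNat 0, .ofNat 0, .ofNat 0, .ofNat 0, .negSucc 3, .negSucc 1, .ofNat 0, .ofNat 0, .ofNat 0, .ofNat 0, .ofNat 0, .ofNat 0, .ofNat 0, .ofNat 0, .ofNat 0, .ofNat 0, .ofNat 0, .negSucc 1, .ofNat 0, .ofNat 0, .ofNat 0, .ofNat 0, .ofNat 0, .ofNat 0, .negSucc 1, .ofNat 0, .ofNat 0, .ofNat 0, .ofNat 0, .ofNat 0, .ofNat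 0, .ofNat 0, .ofNat 0, .ofNat 0, .ofNat 0, .ofNat 0, .ofNat 0, .ofNat 0],
    [.negSucc 0, .negSucc 0, .ofNat 0, .ofNat 0, .ofNat 0, .negSucc 0, .negSucc 0, .negSucc 0, .ofNat 0, .negSucc 0, .ofNat 0, .negSucc 0, .ofNat 0, .negSucc 0, .negSucc 0, .ofNat 0, .negSucc 0, .negSucc 1, .ofNat 0, .negSucc 0, .ofNat 0, .negSucc 1, .negSucc 0, .ofNat 0, .ofNat 0, .ofNat 0, .negSucc 0, .ofNat 0, .negSucc 0, .negSucc 0, .ofNat 0, .ofNat 0, .ofNat 0, .negSucc 0, .ofNat 0, .negSucc 0, .ofNat 0, .ofNat 0, .ofNat 0, .ofNat 0, .ofNat 0, .ofNat 0, .ofNat 0, .ofNat 0, .ofNat 0, .ofNat 0, .ofNat 0, .ofNat 0, .ofNat 0, .ofNat 0, .ofNat 0, .ofNat 0, .negSucc 0, .negSucc 0, .negSucc 0, .ofNat 0, .ofNat 0, .negSucc 1, .negSucc 0, .negSucc 0, .ofNat 0, .ofNat 0, .ofNat 0, .ofNat 0, .ofNat 0, .negSucc 1, .negSucc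 1, .negSucc 0, .negSucc 1, .negSucc 3, .negSucc 3, .negSucc 1, .ofNat 0, .ofNat 0, .ofNat 0, .ofNat 0, .ofNat 0, .ofNat 0, .negSucc 2, .negSucc 0, .negSucc 2, .negSucc 3, .negSucc 2, .negSucc 2, .ofNat 0, .ofNat 0, .ofNat 0, .ofNat 0, .ofNat 0, .ofNat 0, .ofNat 0, .ofNat 0, .negSucc 1, .negSucc 2, .negSucc 2, .negSucc 1, .ofNat 0, .ofNat 0, .ofNat 0, .ofNat 0, .ofNat 0, .ofNat 0, .ofNat 0, .ofNat 0, .negSucc 1, .negSucc 2, .negSucc 2, .negSucc 0, .ofNat 0, .ofNat 0, .ofNat 0, .ofNat 0, .ofNat 0, .ofNat 0, .ofNat 0, .ofNat 0, .ofNat 0, .negSucc 3, .negSucc 10, .negSucc 6, .ofNat 0, .ofNat 0, .ofNat 0, .ofNat 0, .ofNat 0, .ofNat 0, .ofNat 0, .ofNat 0, .ofNat 0, .ofNat 0, .negSucc 9, .negSucc 7, .ofNat 0, .ofNat 0, .ofNat 0, .ofNat 0, .ofNat 0, .ofNat 0, .ofNat 0, .ofNat 0, .ofNat 0, .ofNat 0,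 .ofNat 0, .negSucc 11, .ofNat 0, .ofNat 0, .ofNat 0, .ofNat 0, .ofNat 0, .negSucc 1, .ofNat 0, .ofNat 0, .negSucc 0, .negSucc 0, .ofNat 0, .ofNat 0, .ofNat 0, .ofNat 0, .ofNat 0, .ofNat 0, .ofNat 0, .ofNat 0, .ofNat 0, .ofNat 0],
    [.ofNat 0, .ofNat 0, .ofNat 0, .ofNat 0, .ofNat 0, .ofNat 0, .ofNat 0, .ofNat 0, .ofNat 0, .ofNat 0, .ofNat 0, .ofNat 0, .ofNat 0, .ofNat 0, .ofNat 0, .ofNat 0, .ofNat 0, .ofNat 0, .ofNat 0, .ofNat 0, .ofNat 0, .ofNat 0, .ofNat 0, .ofNat 0, .ofNat 0, .ofNat 0, .ofNat 0, .ofNat 0, .ofNat 0, .ofNat 0, .ofNat 0, .ofNat 0, .ofNat 0, .ofNat 0, .ofNat 0, .ofNat 0, .ofNat 0, .ofNat 0, .ofNat 0, .ofNat 0, .ofNat 0, .ofNat 0, .ofNat 0, .ofNat 0, .ofNat 0, .ofNat 0, .ofNat 0, .ofNat 0, .ofNat 0, .ofNat 0, .ofNat 0, .ofNat 0, .negSucc 0, .negSucc 0, .ofNat 0, .negSucc 0,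 .ofNat 0, .negSucc 0, .negSucc 0, .ofNat 0, .ofNat 0, .ofNat 0, .ofNat 0, .ofNat 0, .ofNat 0, .negSucc 0, .ofNat 0, .negSucc 0, .ofNat 0, .negSucc 0, .negSucc 0, .negSucc 0, .ofNat 0, .ofNat 0, .ofNat 0, .ofNat 0, .ofNat 0, .ofNat 0, .ofNat 1, .ofNat 0, .ofNat 0, .ofNat 0, .ofNat 0, .ofNat 0, .ofNat 0, .ofNat 0, .ofNat 0, .ofNat 0, .ofNat 0, .ofNat 0, .ofNat 0, .negSucc 0, .ofNat 0, .negSucc 0, .negSucc 2, .negSucc 1, .ofNat 0, .ofNat 0, .ofNat 0, .ofNat 0, .ofNat 0, .ofNat 0, .ofNat 0, .ofNat 0, .ofNat 0, .ofNat 0, .ofNat 0, .ofNat 0, .ofNat 0, .ofNat 0, .ofNat 0, .ofNat 0, .ofNat 0, .ofNat 0, .ofNat 0, .ofNat 0, .ofNat 0, .negSucc 0, .negSucc 2, .negSucc 2, .ofNat 0, .ofNat 0, .ofNat 0, .ofNat 0, .ofNat 0, .ofNat 0, .ofNat 0, .ofNat 0, .ofNat 0, .ofNat 0, .negSucc 1, .negSucc 1, .ofNat 0,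 .ofNat 0, .ofNat 0, .ofNat 0, .ofNat 0, .ofNat 0, .ofNat 0, .ofNat 0, .ofNat 0, .ofNat 0, .ofNat 0, .negSucc 1, .ofNat 0, .ofNat 0, .ofNat 0, .ofNat 0, .negSucc 1, .ofNat 0, .ofNat 0, .ofNat 0, .negSucc 0, .negSucc 0, .ofNat 0, .ofNat 0, .ofNat 0, .ofNat 0, .ofNat 0, .ofNat 0, .ofNat 0, .ofNat 0, .ofNat 0, .ofNat 0],
    [.ofNat 0, .ofNat 0, .ofNat 0, .ofNat 0, .ofNat 0, .ofNat 0, .ofNat 0, .ofNat 0, .ofNat 0, .ofNat 0, .ofNat 0, .ofNat 0, .ofNat 0, .ofNat 0, .ofNat 0, .ofNat 0, .ofNat 0, .ofNat 0, .ofNat 0, .ofNat 0, .ofNat 0, .ofNat 0, .ofNat 0, .ofNat 0, .ofNat 0, .ofNat 0, .ofNat 0, .ofNat 0, .ofNat 0, .ofNat 0, .ofNat 0, .ofNat 0, .ofNat 0, .ofNat 0, .ofNat 0, .ofNat 0, .ofNat 0, .ofNat 0, .ofNat 0, .ofNat 0, .ofNat 0, .ofNat 0, .ofNat 0, .ofNat 0, .ofNat 0, .ofNat 0, .ofNat 0, .ofNat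 0, .ofNat 0, .ofNat 0, .ofNat 0, .ofNat 0, .ofNat 0, .ofNat 0, .ofNat 0, .ofNat 0, .ofNat 0, .ofNat 0, .ofNat 0, .ofNat 0, .ofNat 0, .ofNat 0, .ofNat 0, .ofNat 0, .ofNat 0, .ofNat 0, .ofNat 0, .ofNat 0, .negSucc 0, .negSucc 0, .ofNat 0, .negSucc 0, .ofNat 0, .ofNat 0, .ofNat 0, .ofNat 0, .ofNat 0, .ofNat 0, .ofNat 0, .ofNat 0, .ofNat 0, .ofNat 0, .ofNat 0, .ofNat 0, .ofNat 0, .ofNat 0, .ofNat 0, .ofNat 0, .ofNat 0, .ofNat 0, .ofNat 0, .ofNat 0, .ofNat 0, .ofNat 0, .ofNat 0, .ofNat 0, .ofNat 0, .ofNat 0, .ofNat 0, .ofNat 0, .ofNat 0, .ofNat 0, .ofNat 0, .ofNat 0, .negSucc 0, .negSucc 0, .negSucc 0, .ofNat 0, .ofNat 0, .ofNat 0, .ofNat 0, .ofNat 0, .ofNat 0, .ofNat 0, .ofNat 0, .ofNat 0, .ofNat 0, .negSucc 0, .ofNat 0, .ofNat 0, .ofNat 0, .ofNat 0, .ofNat 0, .ofNat 0, .ofNat 0, .ofNat 0, .ofNat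 0, .ofNat 0, .ofNat 0, .ofNat 0, .ofNat 0, .ofNat 0, .ofNat 0, .ofNat 0, .ofNat 0, .ofNat 0, .ofNat 0, .ofNat 0, .ofNat 0, .ofNat 0, .ofNat 0, .ofNat 0, .ofNat 0, .negSucc 1, .ofNat 0, .ofNat 0, .ofNat 0, .negSucc 1, .ofNat 0, .ofNat 0, .ofNat 0, .ofNat 0, .negSucc 0, .ofNat 0, .ofNat 0, .ofNat 0, .ofNat 0, .ofNat 0, .ofNat 0, .ofNat 0, .ofNat 0, .ofNat 0, .ofNat 0, .ofNat 0],
    [.ofNat 0, .ofNat 0, .ofNat 0, .ofNat 0, .ofNat 0, .ofNat 0, .ofNat 0, .ofNat 0, .ofNat 0, .ofNat 0, .ofNat 0, .ofNat 0, .ofNat 0, .ofNat 0, .ofNat 0, .ofNat 0, .ofNat 0, .ofNat 0, .ofNat 0, .ofNat 0, .ofNat 0, .ofNat 0, .ofNat 0, .ofNat 0, .ofNat 0, .ofNat 0, .ofNat 0, .ofNat 0, .ofNat 0, .ofNat 0, .ofNat 0, .ofNat 0, .ofNat 0, .ofNat 0, .ofNat 0, .ofNat 0, .ofNat 0, .ofNat 0, .ofNat 0, .ofNat 0, .ofNat 0, .ofNat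 0, .ofNat 0, .ofNat 0, .ofNat 0, .ofNat 0, .ofNat 0, .ofNat 0, .ofNat 0, .ofNat 0, .ofNat 0, .ofNat 0, .ofNat 1, .ofNat 0, .ofNat 0, .ofNat 0, .ofNat 0, .ofNat 0, .ofNat 0, .ofNat 0, .ofNat 0, .ofNat 0, .ofNat 0, .ofNat 0, .ofNat 0, .negSucc 0, .negSucc 0, .ofNat 0, .negSucc 0, .negSucc 0, .negSucc 0, .ofNat 0, .ofNat 0, .ofNat 0, .ofNat 0, .ofNat 0, .ofNat 0, .ofNat 0, .negSucc 0, .ofNat 0, .negSucc 0, .negSucc 0, .negSucc 0, .ofNat 0, .ofNat 0, .ofNat 0, .ofNat 0, .ofNat 0, .ofNat 0, .ofNat 0, .ofNat 0, .ofNat 0, .ofNat 0, .ofNat 0, .ofNat 0, .ofNat 0, .ofNat 0, .ofNat 0, .ofNat 0, .ofNat 0, .ofNat 0, .ofNat 0, .ofNat 0, .ofNat 0, .negSucc 0, .negSucc 0, .negSucc 1, .negSucc 2, .ofNat 0, .ofNat 0, .ofNat 0, .ofNat 0, .ofNat 0, .ofNat 0, .ofNat 0, .ofNat 0, .ofNat 0, .negSucc 0, .negSucc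 2, .negSucc 2, .ofNat 0, .ofNat 0, .ofNat 0, .ofNat 0, .ofNat 0, .ofNat 0, .ofNat 0, .ofNat 0, .ofNat 0, .ofNat 0, .negSucc 1, .negSucc 1, .ofNat 0, .ofNat 0, .ofNat 0, .ofNat 0, .ofNat 0, .ofNat 0, .ofNat 0, .ofNat 0, .ofNat 0, .ofNat 0, .ofNat 0, .negSucc 1, .ofNat 0, .ofNat 0, .negSucc 1, .ofNat 0, .ofNat 0, .ofNat 0, .ofNat 0, .ofNat 0, .negSucc 0, .ofNat 0, .ofNat 0, .ofNat 0, .ofNat 0, .ofNat 0, .ofNat 0, .ofNat 0, .ofNat 0, .ofNat 0, .ofNat 0, .ofNat 0]]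

def sp8 : List (ℕ × List ℕ × List ℕ) := [(1, [0, 0, 8], []),
    (1, [1, 0, 8, 1, 8, 0, 8], []),
    (1, [2, 0, 9, 8, 2, 8, 0, 8], []),
    (1, [5, 0, 9, 8, 5, 9, 8, 0, 8], []),
    (1, [2, 1, 8, 2, 8, 1, 8], []),
    (2, [5, 5, 9, 8], []),
    (2, [4, 4, 9, 8], []),
    (2, [3, 3, 8], [])]

def rv8 : List (List ℤ) := [[.ofNat 0, .ofNat 0, .ofNat 0, .ofNat 0, .negSucc 0, .negSucc 0, .negSucc 0, .ofNat 0, .ofNat 0, .negSucc 0, .negSucc 0, .negSucc 0, .ofNat 0, .ofNat 0, .ofNat 0, .ofNat 0, .negSucc 0, .negSucc 0, .ofNat 0, .ofNat 0, .ofNat 0, .ofNat 0, .ofNat 0, .ofNat 0, .ofNat 0, .ofNat 0, .ofNat 0, .ofNat 0, .ofNat 0, .ofNat 0, .ofNat 0, .ofNat 0, .ofNat 0, .ofNat 0, .ofNat 0, .ofNat 0, .ofNat 0, .ofNat 0, .ofNat 0, .ofNat 0, .ofNat 0, .ofNat 0, .ofNat 0, .ofNat 0, .ofNat 0, .ofNat 0, .ofNat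 0, .ofNat 0, .ofNat 0, .ofNat 0, .ofNat 0, .ofNat 0, .negSucc 0, .negSucc 0, .negSucc 0, .ofNat 0, .negSucc 1, .negSucc 2, .negSucc 1, .negSucc 0, .ofNat 0, .ofNat 0, .ofNat 0, .ofNat 0, .ofNat 0, .negSucc 0, .negSucc 0, .ofNat 0, .negSucc 1, .negSucc 0, .negSucc 2, .negSucc 1, .ofNat 0, .ofNat 0, .ofNat 0, .ofNat 0, .ofNat 0, .ofNat 0, .negSucc 1, .ofNat 0, .negSucc 2, .negSucc 0, .negSucc 2, .negSucc 2, .ofNat 0, .ofNat 0, .ofNat 0, .ofNat 0, .ofNat 0, .ofNat 0, .ofNat 0, .ofNat 0, .ofNat 0, .ofNat 0, .ofNat 0, .ofNat 0, .ofNat 0, .ofNat 0, .ofNat 0, .ofNat 0, .ofNat 0, .ofNat 0, .ofNat 0, .ofNat 0, .ofNat 0, .ofNat 1, .negSucc 0, .negSucc 1, .ofNat 0, .ofNat 0, .ofNat 0, .ofNat 0, .ofNat 0, .ofNat 0, .ofNat 0, .ofNat 0, .ofNat 0, .negSucc 1, .negSucc 4, .negSucc 2, .ofNat 0, .ofNat 0, .ofNat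 0, .ofNat 0, .ofNat 0, .ofNat 0, .ofNat 0, .ofNat 0, .ofNat 0, .ofNat 0, .negSucc 5, .negSucc 4, .ofNat 0, .ofNat 0, .ofNat 0, .ofNat 0, .ofNat 0, .ofNat 0, .ofNat 0, .ofNat 0, .ofNat 0, .ofNat 0, .ofNat 0, .negSucc 6, .negSucc 1, .ofNat 0, .ofNat 0, .ofNat 0, .ofNat 0, .ofNat 0, .ofNat 0, .ofNat 0, .negSucc 0, .ofNat 0, .ofNat 0, .ofNat 0, .ofNat 0, .ofNat 0, .ofNat 0, .ofNat 0, .ofNat 0, .ofNat 0, .ofNat 0, .ofNat 0],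
    [.ofNat 0, .ofNat 0, .ofNat 0, .ofNat 0, .negSucc 0, .negSucc 0, .negSucc 1, .negSucc 0, .ofNat 0, .negSucc 1, .negSucc 1, .negSucc 0, .ofNat 0, .ofNat 0, .ofNat 0, .ofNat 0, .negSucc 0, .negSucc 0, .ofNat 1, .negSucc 0, .negSucc 0, .ofNat 0, .ofNat 0, .negSucc 0, .ofNat 0, .ofNat 0, .ofNat 0, .ofNat 0, .negSucc 0, .negSucc 0, .ofNat 0, .negSucc 0, .ofNat 0, .ofNat 0, .negSucc 0, .negSucc 0, .ofNat 0, .ofNat 0, .ofNat 0, .ofNat 0, .ofNat 0, .ofNat 0, .ofNat 0, .ofNat 0, .ofNat 0, .ofNat 0, .ofNat 0, .ofNat 0, .ofNat 0, .ofNat 0, .ofNat 0, .ofNat 0, .negSucc 0, .negSucc 0, .negSucc 1, .negSucc 0, .negSucc 1, .negSucc 3, .negSucc 3, .negSucc 1, .ofNat 0, .ofNat 0, .ofNat 0, .ofNat 0, .ofNat 0, .negSucc 0, .negSucc 1, .negSucc 0, .negSucc 1, .negSucc 1, .negSucc 3, .negSucc 1, .ofNat 0, .ofNat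 0, .ofNat 0, .ofNat 0, .ofNat 0, .ofNat 0, .negSucc 2, .negSucc 1, .negSucc 2, .negSucc 1, .negSucc 2, .negSucc 2, .ofNat 0, .ofNat 0, .ofNat 0, .ofNat 0, .ofNat 0, .ofNat 0, .ofNat 0, .negSucc 0, .ofNat 0, .negSucc 1, .negSucc 2, .negSucc 4, .ofNat 0, .ofNat 0, .ofNat 0, .ofNat 0, .ofNat 0, .ofNat 0, .ofNat 0, .ofNat 0, .negSucc 0, .negSucc 0, .negSucc 1, .negSucc 2, .ofNat 0, .ofNat 0, .ofNat 0, .ofNat 0, .ofNat 0, .ofNat 0, .ofNat 0, .ofNat 0, .ofNat 0, .negSucc 3, .negSucc 5, .negSucc 5, .ofNat 0, .ofNat 0, .ofNat 0, .ofNat 0, .ofNat 0, .ofNat 0, .ofNat 0, .ofNat 0, .ofNat 0, .ofNat 0, .negSucc 10, .negSucc 13, .ofNat 0, .ofNat 0, .ofNat 0, .ofNat 0, .ofNat 0, .ofNat 0, .ofNat 0, .ofNat 0, .ofNat 0, .ofNat 0, .ofNat 0, .negSucc 13, .negSucc 1, .negSucc 1, .ofNat 0, .ofNat 0, .ofNat 0,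 .ofNat 0, .ofNat 0, .ofNat 0, .negSucc 2, .ofNat 0, .ofNat 0, .ofNat 0, .ofNat 0, .ofNat 0, .ofNat 0, .ofNat 0, .ofNat 0, .ofNat 0, .ofNat 0, .ofNat 0],
    [.ofNat 0, .ofNat 0, .ofNat 0, .ofNat 0, .ofNat 0, .negSucc 1, .negSucc 1, .ofNat 0, .negSucc 0, .negSucc 1, .negSucc 1, .negSucc 0, .ofNat 0, .ofNat 0, .ofNat 0, .ofNat 0, .ofNat 0, .negSucc 1, .ofNat 0, .ofNat 0, .negSucc 0, .ofNat 0, .negSucc 0, .ofNat 0, .ofNat 0, .ofNat 0, .ofNat 0, .ofNat 0, .ofNat 0, .ofNat 0, .ofNat 0, .ofNat 0, .ofNat 0, .ofNat 0, .ofNat 0, .ofNat 0, .ofNat 0, .ofNat 0, .ofNat 0, .ofNat 0, .ofNat 0, .ofNat 0, .ofNat 0, .ofNat 0, .ofNat 0, .ofNat 0, .ofNat 0, .ofNat 0, .ofNat 0, .ofNat 0, .ofNat 0, .ofNat 0, .ofNat 0, .negSucc 1, .negSucc 1, .ofNat 0, .negSucc 2, .negSucc 3, .negSucc 2, .negSucc 0, .ofNat 0, .ofNat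 0, .ofNat 0, .ofNat 0, .ofNat 0, .negSucc 1, .negSucc 1, .ofNat 0, .negSucc 3, .negSucc 1, .negSucc 4, .negSucc 1, .ofNat 0, .ofNat 0, .ofNat 0, .ofNat 0, .ofNat 0, .ofNat 0, .negSucc 3, .ofNat 0, .negSucc 4, .negSucc 1, .negSucc 4, .negSucc 4, .ofNat 0, .ofNat 0, .ofNat 0, .ofNat 0, .ofNat 0, .ofNat 0, .ofNat 0, .ofNat 0, .ofNat 0, .ofNat 0, .ofNat 0, .ofNat 0, .ofNat 0, .ofNat 0, .ofNat 0, .ofNat 0, .ofNat 0, .ofNat 0, .ofNat 0, .ofNat 0, .negSucc 0, .ofNat 1, .negSucc 2, .negSucc 5, .ofNat 0, .ofNat 0, .ofNat 0, .ofNat 0, .ofNat 0, .ofNat 0, .ofNat 0, .ofNat 0, .ofNat 0, .negSucc 1, .negSucc 7, .negSucc 6, .ofNat 0, .ofNat 0, .ofNat 0, .ofNat 0, .ofNat 0, .ofNat 0, .ofNat 0, .ofNat 0, .ofNat 0, .ofNat 0, .negSucc 9, .negSucc 9, .ofNat 0, .ofNat 0, .ofNat 0, .ofNat 0, .ofNat 0, .ofNat 0,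 .ofNat 0, .ofNat 0, .ofNat 0, .ofNat 0, .ofNat 0, .negSucc 12, .negSucc 1, .ofNat 0, .negSucc 1, .ofNat 0, .ofNat 0, .ofNat 0, .ofNat 0, .ofNat 0, .negSucc 2, .negSucc 0, .ofNat 0, .ofNat 0, .ofNat 0, .ofNat 0, .ofNat 0, .ofNat 0, .ofNat 0, .ofNat 0, .ofNat 0, .ofNat 0],
    [.negSucc 0, .negSucc 0, .ofNat 0, .ofNat 0, .negSucc 1, .negSucc 1, .negSucc 1, .negSucc 0, .ofNat 0, .negSucc 1, .negSucc 0, .negSucc 2, .ofNat 0, .negSucc 0, .negSucc 0, .ofNat 0, .negSucc 2, .negSucc 2, .ofNat 0, .negSucc 0, .ofNat 0, .negSucc 0, .negSucc 0, .ofNat 0, .ofNat 0, .ofNat 0, .negSucc 0, .ofNat 0, .negSucc 0, .negSucc 0, .ofNat 0, .ofNat 0, .ofNat 0, .negSucc 0, .ofNat 0, .negSucc 0, .ofNat 0, .ofNat 0, .ofNat 0, .ofNat 0, .ofNat 0, .ofNat 0, .ofNat 0, .ofNat 0, .ofNat 0, .ofNat 0, .ofNat 0, .ofNat 0, .ofNat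 0, .ofNat 0, .ofNat 0, .ofNat 0, .negSucc 1, .negSucc 2, .negSucc 2, .negSucc 0, .negSucc 1, .negSucc 5, .negSucc 2, .negSucc 2, .ofNat 0, .ofNat 0, .ofNat 0, .ofNat 0, .ofNat 0, .negSucc 2, .negSucc 2, .negSucc 1, .negSucc 3, .negSucc 4, .negSucc 6, .negSucc 4, .ofNat 0, .ofNat 0, .ofNat 0, .ofNat 0, .ofNat 0, .ofNat 0, .negSucc 4, .negSucc 1, .negSucc 5, .negSucc 4, .negSucc 5, .negSucc 6, .ofNat 0, .ofNat 0, .ofNat 0, .ofNat 0, .ofNat 0, .ofNat 0, .ofNat 0, .ofNat 0, .negSucc 1, .negSucc 3, .negSucc 4, .negSucc 3, .ofNat 0, .ofNat 0, .ofNat 0, .ofNat 0, .ofNat 0, .ofNat 0, .ofNat 0, .ofNat 0, .negSucc 1, .negSucc 2, .negSucc 3, .negSucc 3, .ofNat 0, .ofNat 0, .ofNat 0, .ofNat 0, .ofNat 0, .ofNat 0, .ofNat 0, .ofNat 0, .ofNat 0, .negSucc 6, .negSucc 13, .negSucc 7, .ofNat 0, .ofNat 0, .ofNat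 0, .ofNat 0, .ofNat 0, .ofNat 0, .ofNat 0, .ofNat 0, .ofNat 0, .ofNat 0, .negSucc 16, .negSucc 15, .ofNat 0, .ofNat 0, .ofNat 0, .ofNat 0, .ofNat 0, .ofNat 0, .ofNat 0, .ofNat 0, .ofNat 0, .ofNat 0, .ofNat 0, .negSucc 21, .negSucc 1, .ofNat 0, .ofNat 0, .ofNat 0, .ofNat 0, .negSucc 1, .ofNat 0, .ofNat 0, .negSucc 2, .negSucc 1, .ofNat 0, .ofNat 0, .ofNat 0, .ofNat 0, .ofNat 0, .ofNat 0, .ofNat 0, .ofNat 0, .ofNat 0, .ofNat 0],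
    [.ofNat 0, .ofNat 0, .ofNat 0, .ofNat 0, .ofNat 0, .ofNat 0, .ofNat 0, .ofNat 0, .ofNat 0, .ofNat 0, .ofNat 0, .ofNat 0, .ofNat 0, .ofNat 0, .ofNat 0, .ofNat 0, .ofNat 0, .ofNat 0, .ofNat 0, .ofNat 0, .ofNat 0, .ofNat 0, .ofNat 0, .ofNat 0, .ofNat 0, .ofNat 0, .ofNat 0, .ofNat 0, .ofNat 1, .negSucc 0, .negSucc 1, .negSucc 0, .negSucc 0, .negSucc 1, .negSucc 1, .ofNat 0, .ofNat 0, .ofNat 0, .ofNat 0, .ofNat 0, .ofNat 0, .ofNat 0, .ofNat 0, .ofNat 0, .ofNat 0, .ofNat 0, .ofNat 0, .ofNat 0, .ofNat 0, .ofNat 0, .ofNat 0, .ofNat 0, .ofNat 1, .ofNat 0, .ofNat 0, .ofNat 0, .ofNat 0, .ofNat 0, .ofNat 0, .ofNat 0, .ofNat 0, .ofNat 0, .ofNat 0, .ofNat 0, .ofNat 0, .negSucc 0, .ofNat 0, .negSucc 0, .negSucc 0, .ofNat 0, .negSucc 0, .negSucc 0, .ofNat 0, .ofNat 0, .ofNat 0, .ofNat 0, .ofNat 0, .ofNat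 0, .negSucc 1, .negSucc 1, .negSucc 1, .negSucc 1, .negSucc 2, .negSucc 0, .ofNat 0, .ofNat 0, .ofNat 0, .ofNat 0, .ofNat 0, .ofNat 0, .ofNat 0, .negSucc 0, .negSucc 0, .negSucc 1, .negSucc 1, .negSucc 0, .ofNat 0, .ofNat 0, .ofNat 0, .ofNat 0, .ofNat 0, .ofNat 0, .ofNat 0, .ofNat 0, .negSucc 0, .ofNat 0, .negSucc 3, .negSucc 3, .ofNat 0, .ofNat 0, .ofNat 0, .ofNat 0, .ofNat 0, .ofNat 0, .ofNat 0, .ofNat 0, .ofNat 0, .negSucc 1, .negSucc 3, .negSucc 4, .ofNat 0, .ofNat 0, .ofNat 0, .ofNat 0, .ofNat 0, .ofNat 0, .ofNat 0, .ofNat 0, .ofNat 0, .ofNat 0, .negSucc 4, .negSucc 7, .ofNat 0, .ofNat 0, .ofNat 0, .ofNat 0, .ofNat 0, .ofNat 0, .ofNat 0, .ofNat 0, .ofNat 0, .ofNat 0, .ofNat 0, .negSucc 5, .ofNat 0, .negSucc 1, .negSucc 1, .ofNat 0, .ofNat 0, .ofNat 0, .ofNat 0, .ofNat 0, .negSucc 2, .ofNat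 0, .ofNat 0, .ofNat 0, .ofNat 0, .ofNat 0, .ofNat 0, .ofNat 0, .ofNat 0, .ofNat 0, .ofNat 0, .ofNat 0],
    [.ofNat 0, .ofNat 0, .ofNat 0, .ofNat 0, .ofNat 0, .ofNat 0, .ofNat 0, .ofNat 0, .ofNat 0, .ofNat 0, .ofNat 0, .ofNat 0, .ofNat 0, .negSucc 0, .negSucc 0, .negSucc 0, .ofNat 0, .negSucc 0, .negSucc 0, .negSucc 0, .ofNat 0, .ofNat 0, .ofNat 0, .ofNat 0, .ofNat 0, .ofNat 0, .negSucc 0, .negSucc 0, .ofNat 0, .negSucc 0, .negSucc 0, .negSucc 0, .negSucc 1, .negSucc 1, .ofNat 0, .ofNat 0, .ofNat 0, .ofNat 0, .ofNat 0, .negSucc 0, .ofNat 0, .negSucc 0, .negSucc 1, .ofNat 0, .negSucc 1, .negSucc 0, .negSucc 1, .negSucc 0, .ofNat 0, .ofNat 0, .ofNat 0, .ofNat 0, .ofNat 0, .ofNat 0, .ofNat 0, .ofNat 0, .ofNat 0, .ofNat 0, .ofNat 0, .ofNat 0, .ofNat 0, .ofNat 0, .ofNat 0, .ofNat 0, .ofNat 0, .negSucc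 0, .negSucc 1, .negSucc 1, .negSucc 0, .negSucc 1, .negSucc 3, .negSucc 0, .ofNat 0, .ofNat 0, .ofNat 0, .ofNat 0, .ofNat 0, .ofNat 0, .negSucc 1, .negSucc 2, .negSucc 0, .negSucc 2, .negSucc 4, .negSucc 3, .ofNat 0, .ofNat 0, .ofNat 0, .ofNat 0, .ofNat 0, .ofNat 0, .ofNat 0, .negSucc 0, .negSucc 0, .negSucc 1, .negSucc 4, .negSucc 3, .ofNat 0, .ofNat 0, .ofNat 0, .ofNat 0, .ofNat 0, .ofNat 0, .ofNat 0, .ofNat 0, .negSucc 3, .negSucc 4, .negSucc 4, .negSucc 4, .ofNat 0, .ofNat 0, .ofNat 0, .ofNat 0, .ofNat 0, .ofNat 0, .ofNat 0, .ofNat 0, .ofNat 0, .negSucc 3, .negSucc 9, .negSucc 5, .ofNat 0, .ofNat 0, .ofNat 0, .ofNat 0, .ofNat 0, .ofNat 0, .ofNat 0, .ofNat 0, .ofNat 0, .ofNat 0, .negSucc 8, .negSucc 11, .ofNat 0, .ofNat 0, .ofNat 0, .ofNat 0, .ofNat 0, .ofNat 0, .ofNat 0, .ofNat 0, .ofNat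 0, .ofNat 0, .ofNat 0, .negSucc 10, .ofNat 0, .ofNat 0, .ofNat 0, .ofNat 0, .ofNat 0, .ofNat 0, .ofNat 0, .ofNat 0, .ofNat 0, .ofNat 0, .ofNat 0, .ofNat 0, .ofNat 0, .ofNat 0, .ofNat 0, .negSucc 1, .ofNat 0, .ofNat 0, .negSucc 0, .negSucc 0],
    [.ofNat 0, .ofNat 0, .ofNat 0, .ofNat 0, .ofNat 0, .ofNat 0, .ofNat 0, .ofNat 0, .ofNat 0, .ofNat 0, .ofNat 0, .ofNat 0, .ofNat 0, .ofNat 0, .ofNat 0, .ofNat 0, .ofNat 0, .ofNat 0, .ofNat 0, .ofNat 0, .ofNat 0, .ofNat 0, .ofNat 0, .ofNat 0, .ofNat 0, .ofNat 0, .negSucc 0, .negSucc 0, .negSucc 0, .negSucc 0, .ofNat 0, .ofNat 0, .ofNat 0, .ofNat 0, .negSucc 0, .negSucc 0, .ofNat 0, .ofNat 0, .ofNat 0, .negSucc 0, .negSucc 0, .negSucc 0, .ofNat 0, .negSucc 0, .ofNat 0, .ofNat 0, .negSucc 1, .ofNat 0, .ofNat 0, .ofNat 0, .ofNat 0, .ofNat 0, .negSucc 0,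 .negSucc 0, .ofNat 0, .negSucc 0, .negSucc 0, .negSucc 1, .negSucc 2, .ofNat 0, .ofNat 0, .ofNat 0, .ofNat 0, .ofNat 0, .ofNat 0, .negSucc 0, .ofNat 0, .negSucc 0, .negSucc 0, .negSucc 1, .negSucc 0, .negSucc 1, .ofNat 0, .ofNat 0, .ofNat 0, .ofNat 0, .ofNat 0, .ofNat 0, .ofNat 1, .ofNat 0, .ofNat 0, .ofNat 0, .ofNat 0, .ofNat 0, .ofNat 0, .ofNat 0, .ofNat 0, .ofNat 0, .ofNat 0, .ofNat 0, .ofNat 0, .negSucc 0, .negSucc 0, .negSucc 1, .negSucc 2, .negSucc 0, .ofNat 0, .ofNat 0, .ofNat 0, .ofNat 0, .ofNat 0, .ofNat 0, .ofNat 0, .ofNat 0, .negSucc 1, .negSucc 2, .negSucc 1, .negSucc 0, .ofNat 0, .ofNat 0, .ofNat 0, .ofNat 0, .ofNat 0, .ofNat 0, .ofNat 0, .ofNat 0, .ofNat 0, .negSucc 0, .negSucc 4, .negSucc 1, .ofNat 0, .ofNat 0, .ofNat 0, .ofNat 0, .ofNat 0, .ofNat 0, .ofNat 0, .ofNat 0, .ofNat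 0, .ofNat 0, .negSucc 4, .negSucc 3, .ofNat 0, .ofNat 0, .ofNat 0, .ofNat 0, .ofNat 0, .ofNat 0, .ofNat 0, .ofNat 0, .ofNat 0, .ofNat 0, .ofNat 0, .negSucc 3, .ofNat 0, .ofNat 0, .ofNat 0, .ofNat 0, .ofNat 0, .ofNat 0, .ofNat 0, .ofNat 0, .ofNat 0, .ofNat 0, .ofNat 0, .ofNat 0, .ofNat 0, .ofNat 0, .negSucc 1, .ofNat 0, .ofNat 0, .ofNat 0, .negSucc 0, .negSucc 0],
    [.ofNat 0, .ofNat 0, .ofNat 0, .ofNat 0, .ofNat 0, .ofNat 0, .ofNat 0, .ofNat 0, .ofNat 0, .ofNat 0, .ofNat 0, .ofNat 0, .ofNat 0, .ofNat 0, .ofNat 0, .ofNat 0, .ofNat 0, .ofNat 0, .ofNat 0, .ofNat 0, .ofNat 0, .ofNat 0, .ofNat 0, .ofNat 0, .ofNat 0, .ofNat 0, .ofNat 0, .ofNat 0, .ofNat 0, .ofNat 0, .ofNat 0, .ofNat 0, .ofNat 0, .ofNat 0, .ofNat 0, .ofNat 0, .ofNat 0, .ofNat 0, .ofNat 0, .negSucc 0, .ofNat 0, .ofNat 0, .ofNat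 0, .ofNat 0, .negSucc 0, .ofNat 0, .ofNat 0, .negSucc 0, .ofNat 0, .ofNat 0, .ofNat 0, .ofNat 0, .ofNat 1, .ofNat 0, .ofNat 0, .ofNat 0, .ofNat 0, .ofNat 0, .ofNat 0, .ofNat 0, .ofNat 0, .ofNat 0, .ofNat 0, .ofNat 0, .ofNat 0, .ofNat 0, .ofNat 0, .ofNat 0, .ofNat 0, .ofNat 0, .ofNat 0, .ofNat 0, .ofNat 0, .ofNat 0, .ofNat 0, .ofNat 0, .ofNat 0, .ofNat 0, .ofNat 0, .ofNat 0, .ofNat 0, .ofNat 0, .ofNat 0, .ofNat 0, .ofNat 0, .ofNat 0, .ofNat 0, .ofNat 0, .ofNat 0, .ofNat 0, .ofNat 0, .ofNat 0, .ofNat 0, .ofNat 0, .ofNat 0, .ofNat 0, .ofNat 0, .ofNat 0, .ofNat 0, .ofNat 0, .ofNat 0, .ofNat 0, .ofNat 0, .ofNat 0, .negSucc 1, .negSucc 2, .negSucc 2, .negSucc 0, .ofNat 0, .ofNat 0, .ofNat 0, .ofNat 0, .ofNat 0, .ofNat 0, .ofNat 0, .ofNat 0, .ofNat 0, .negSucc 0, .negSucc 0, .ofNat 0, .ofNat 0, .ofNat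 0, .ofNat 0, .ofNat 0, .ofNat 0, .ofNat 0, .ofNat 0, .ofNat 0, .ofNat 0, .ofNat 0, .ofNat 0, .ofNat 0, .ofNat 0, .ofNat 0, .ofNat 0, .ofNat 0, .ofNat 0, .ofNat 0, .ofNat 0, .ofNat 0, .ofNat 0, .ofNat 0, .ofNat 0, .negSucc 0, .ofNat 0, .ofNat 0, .ofNat 0, .ofNat 0, .ofNat 0, .ofNat 0, .ofNat 0, .ofNat 0, .ofNat 0, .ofNat 0, .ofNat 0, .ofNat 0, .ofNat 0, .negSucc 1, .ofNat 0, .ofNat 0, .ofNat 0, .ofNat 0, .negSucc 0, .ofNat 0]]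

def sp9 : List (ℕ × List ℕ × List ℕ) := [(2, [2, 2, 8, 7, 6], []),
    (2, [1, 1], []),
    (2, [1, 0, 9, 7, 1, 0, 7, 6], []),
    (2, [3, 0, 8, 7, 3, 8, 0, 7, 6], [])]

def rv9 : List (List ℤ) := [[.ofNat 0, .ofNat 0, .ofNat 0, .ofNat 0, .ofNat 0, .ofNat 0, .ofNat 0, .ofNat 0, .ofNat 0, .ofNat 0, .ofNat 0, .ofNat 0, .ofNat 0, .negSucc 0, .ofNat 0, .ofNat 0, .ofNat 0, .ofNat 0, .ofNat 0, .ofNat 0, .ofNat 0, .negSucc 0, .negSucc 0, .ofNat 0, .ofNat 0, .ofNat 0, .ofNat 0, .ofNat 0, .ofNat 0, .ofNat 0, .ofNat 0, .ofNat 0, .ofNat 0, .ofNat 0, .ofNat 0, .ofNat 0, .ofNat 0, .ofNat 0, .ofNat 0, .ofNat 1, .ofNat 0, .ofNat 0, .ofNat 0, .ofNat 0, .ofNat 0, .ofNat 0, .ofNat 0, .ofNat 0, .ofNat 0, .ofNat 0, .ofNat 0, .ofNat 0, .ofNat 0, .ofNat 0, .ofNat 0, .ofNat 0, .ofNat 0, .ofNat 0, .ofNat 0, .ofNat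 0, .ofNat 0, .ofNat 0, .ofNat 0, .ofNat 0, .ofNat 0, .ofNat 0, .ofNat 0, .ofNat 0, .ofNat 0, .ofNat 0, .ofNat 0, .ofNat 0, .ofNat 0, .ofNat 0, .ofNat 0, .ofNat 0, .ofNat 0, .ofNat 0, .ofNat 0, .ofNat 0, .ofNat 0, .ofNat 0, .ofNat 0, .ofNat 0, .ofNat 0, .ofNat 0, .ofNat 0, .ofNat 0, .ofNat 0, .ofNat 0, .ofNat 0, .ofNat 0, .ofNat 0, .ofNat 0, .ofNat 0, .ofNat 0, .ofNat 0, .ofNat 0, .ofNat 0, .ofNat 0, .ofNat 0, .ofNat 0, .ofNat 0, .ofNat 0, .negSucc 0, .negSucc 1, .negSucc 1, .negSucc 0, .ofNat 0, .ofNat 0, .ofNat 0, .ofNat 0, .ofNat 0, .ofNat 0, .ofNat 0, .ofNat 0, .ofNat 0, .negSucc 1, .negSucc 2, .negSucc 0, .ofNat 0, .ofNat 0, .ofNat 0, .ofNat 0, .ofNat 0, .ofNat 0, .ofNat 0, .ofNat 0, .ofNat 0, .ofNat 0, .negSucc 0, .negSucc 0, .ofNat 0, .ofNat 0, .ofNat 0, .ofNat 0, .ofNat 0, .ofNat 0,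 .ofNat 0, .ofNat 0, .ofNat 0, .ofNat 0, .ofNat 0, .negSucc 0, .ofNat 0, .ofNat 0, .ofNat 0, .ofNat 0, .ofNat 0, .ofNat 0, .ofNat 0, .ofNat 0, .ofNat 0, .ofNat 0, .ofNat 0, .ofNat 0, .negSucc 1, .ofNat 0, .ofNat 0, .ofNat 0, .negSucc 0, .negSucc 0, .negSucc 0, .ofNat 0],
    [.ofNat 0, .ofNat 0, .ofNat 0, .ofNat 0, .ofNat 0, .ofNat 0, .ofNat 0, .ofNat 0, .ofNat 0, .ofNat 0, .ofNat 0, .ofNat 0, .ofNat 0, .negSucc 0, .ofNat 0, .ofNat 0, .ofNat 0, .ofNat 0, .ofNat 0, .negSucc 0, .ofNat 0, .negSucc 0, .ofNat 0, .negSucc 0, .ofNat 0, .ofNat 0, .ofNat 1, .ofNat 0, .ofNat 0, .ofNat 1, .ofNat 0, .ofNat 0, .ofNat 0, .ofNat 0, .ofNat 0, .ofNat 0, .ofNat 0, .ofNat 0, .ofNat 0, .ofNat 0, .ofNat 0, .ofNat 0, .ofNat 0, .ofNat 0, .ofNat 0, .ofNat 0, .ofNat 0, .ofNat 0, .ofNat 0, .ofNat 0, .ofNat 0, .ofNat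 0, .ofNat 0, .ofNat 0, .ofNat 0, .ofNat 0, .ofNat 0, .ofNat 0, .ofNat 0, .ofNat 0, .ofNat 0, .ofNat 0, .ofNat 0, .ofNat 0, .ofNat 0, .ofNat 1, .ofNat 0, .ofNat 0, .ofNat 0, .ofNat 0, .ofNat 2, .ofNat 0, .ofNat 0, .ofNat 0, .ofNat 0, .ofNat 0, .ofNat 0, .ofNat 0, .ofNat 0, .ofNat 0, .ofNat 0, .ofNat 0, .ofNat 0, .ofNat 0, .ofNat 0, .ofNat 0, .ofNat 0, .ofNat 0, .ofNat 0, .ofNat 0, .ofNat 0, .negSucc 0, .negSucc 0, .negSucc 1, .negSucc 0, .ofNat 0, .ofNat 0, .ofNat 0, .ofNat 0, .ofNat 0, .ofNat 0, .ofNat 0, .ofNat 0, .ofNat 0, .negSucc 0, .negSucc 0, .ofNat 0, .ofNat 0, .ofNat 0, .ofNat 0, .ofNat 0, .ofNat 0, .ofNat 0, .ofNat 0, .ofNat 0, .ofNat 0, .ofNat 0, .negSucc 1, .negSucc 1, .negSucc 2, .ofNat 0, .ofNat 0, .ofNat 0, .ofNat 0, .ofNat 0, .ofNat 0, .ofNat 0, .ofNat 0, .ofNat 0, .ofNat 0,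 .ofNat 0, .negSucc 0, .ofNat 0, .ofNat 0, .ofNat 0, .ofNat 0, .ofNat 0, .ofNat 0, .ofNat 0, .ofNat 0, .ofNat 0, .ofNat 0, .ofNat 0, .negSucc 1, .ofNat 0, .ofNat 0, .ofNat 0, .ofNat 0, .ofNat 0, .ofNat 0, .ofNat 0, .ofNat 0, .ofNat 0, .ofNat 0, .ofNat 0, .negSucc 1, .ofNat 0, .ofNat 0, .ofNat 0, .ofNat 0, .ofNat 0, .ofNat 0, .ofNat 0, .ofNat 0],
    [.ofNat 0, .ofNat 0, .ofNat 0, .ofNat 0, .ofNat 0, .ofNat 0, .ofNat 0, .ofNat 0, .ofNat 0, .ofNat 0, .ofNat 0, .ofNat 0, .ofNat 0, .ofNat 0, .ofNat 1, .ofNat 0, .negSucc 0, .ofNat 1, .ofNat 0, .negSucc 0, .negSucc 0, .negSucc 0, .negSucc 0, .negSucc 0, .ofNat 0, .ofNat 0, .ofNat 1, .ofNat 0, .ofNat 0, .ofNat 1, .ofNat 0, .ofNat 0, .ofNat 0, .ofNat 0, .ofNat 0, .ofNat 0, .ofNat 0, .ofNat 0, .ofNat 0, .ofNat 0, .ofNat 0, .ofNat 0, .ofNat 0, .ofNat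 0, .ofNat 0, .ofNat 0, .ofNat 0, .ofNat 0, .ofNat 0, .ofNat 0, .ofNat 0, .ofNat 0, .negSucc 0, .ofNat 0, .ofNat 0, .negSucc 0, .negSucc 1, .negSucc 2, .ofNat 0, .negSucc 0, .ofNat 0, .ofNat 0, .ofNat 0, .ofNat 0, .ofNat 0, .ofNat 1, .ofNat 1, .ofNat 0, .ofNat 0, .ofNat 1, .ofNat 2, .ofNat 1, .ofNat 0, .ofNat 0, .ofNat 0, .ofNat 0, .ofNat 0, .ofNat 0, .ofNat 1, .ofNat 0, .ofNat 0, .ofNat 1, .ofNat 1, .ofNat 1, .ofNat 0, .ofNat 0, .ofNat 0, .ofNat 0, .ofNat 0, .ofNat 0, .ofNat 0, .negSucc 0, .negSucc 1, .ofNat 0, .negSucc 1, .ofNat 0, .ofNat 0, .ofNat 0, .ofNat 0, .ofNat 0, .ofNat 0, .ofNat 0, .ofNat 0, .ofNat 0, .negSucc 2, .negSucc 3, .negSucc 6, .negSucc 4, .ofNat 0, .ofNat 0, .ofNat 0, .ofNat 0, .ofNat 0, .ofNat 0, .ofNat 0, .ofNat 0, .ofNat 0, .negSucc 2, .negSucc 3, .negSucc 1, .ofNat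 0, .ofNat 0, .ofNat 0, .ofNat 0, .ofNat 0, .ofNat 0, .ofNat 0, .ofNat 0, .ofNat 0, .ofNat 0, .negSucc 0, .negSucc 2, .ofNat 0, .ofNat 0, .ofNat 0, .ofNat 0, .ofNat 0, .ofNat 0, .ofNat 0, .ofNat 0, .ofNat 0, .ofNat 0, .ofNat 0, .negSucc 0, .ofNat 0, .ofNat 0, .ofNat 0, .ofNat 0, .ofNat 0, .ofNat 0, .ofNat 0, .ofNat 0, .ofNat 0, .ofNat 0, .negSucc 1, .negSucc 1, .ofNat 0, .ofNat 0, .ofNat 0, .ofNat 0, .negSucc 0, .negSucc 1, .ofNat 0, .negSucc 0],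
    [.ofNat 0, .ofNat 0, .ofNat 0, .ofNat 0, .ofNat 0, .ofNat 0, .ofNat 0, .ofNat 0, .ofNat 0, .ofNat 0, .ofNat 0, .ofNat 0, .ofNat 0, .ofNat 1, .ofNat 0, .ofNat 0, .ofNat 1, .ofNat 0, .ofNat 0, .ofNat 0, .ofNat 0, .ofNat 0, .ofNat 0, .ofNat 0, .ofNat 0, .ofNat 0, .ofNat 0, .ofNat 0, .ofNat 0, .ofNat 0, .ofNat 0, .ofNat 0, .ofNat 0, .ofNat 0, .ofNat 0, .ofNat 0, .ofNat 0, .ofNat 0, .ofNat 0, .negSucc 0, .negSucc 0, .ofNat 0, .ofNat 0, .ofNat 0, .ofNat 0, .negSucc 0, .negSucc 0, .ofNat 0, .ofNat 0, .ofNat 0, .ofNat 0, .ofNat 0, .ofNat 0, .ofNat 0, .ofNat 0, .ofNat 0, .negSucc 2, .negSucc 1, .negSucc 0, .negSucc 0, .ofNat 0, .ofNat 0, .ofNat 0, .ofNat 0, .ofNat 0, .ofNat 0, .ofNat 0, .ofNat 0, .ofNat 0, .ofNat 0, .ofNat 0, .ofNat 0, .ofNat 0, .ofNat 0, .ofNat 0, .ofNat 0, .ofNat 0, .ofNat 0,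 .ofNat 0, .ofNat 0, .ofNat 0, .ofNat 0, .ofNat 0, .ofNat 0, .ofNat 0, .ofNat 0, .ofNat 0, .ofNat 0, .ofNat 0, .ofNat 0, .ofNat 0, .ofNat 0, .ofNat 0, .ofNat 0, .ofNat 0, .ofNat 0, .ofNat 0, .ofNat 0, .ofNat 0, .ofNat 0, .ofNat 0, .ofNat 0, .ofNat 0, .ofNat 0, .negSucc 3, .negSucc 2, .negSucc 6, .negSucc 4, .ofNat 0, .ofNat 0, .ofNat 0, .ofNat 0, .ofNat 0, .ofNat 0, .ofNat 0, .ofNat 0, .ofNat 0, .negSucc 1, .negSucc 5, .negSucc 4, .ofNat 0, .ofNat 0, .ofNat 0, .ofNat 0, .ofNat 0, .ofNat 0, .ofNat 0, .ofNat 0, .ofNat 0, .ofNat 0, .negSucc 0, .negSucc 2, .ofNat 0, .ofNat 0, .ofNat 0, .ofNat 0, .ofNat 0, .ofNat 0, .ofNat 0, .ofNat 0, .ofNat 0, .ofNat 0, .ofNat 0, .negSucc 2, .ofNat 0, .ofNat 0, .ofNat 0, .ofNat 0, .ofNat 0, .ofNat 0, .ofNat 0, .ofNat 0, .ofNat 0, .ofNat 0, .negSucc 1, .ofNat 0,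 .ofNat 0, .negSucc 1, .ofNat 0, .ofNat 0, .negSucc 0, .negSucc 1, .negSucc 1, .ofNat 0]]

def C : Cert where
  D := { p := 2, n := 12, pwL := [[2, 4, 5, 9, 10], [8, 9], [10], [8, 9, 10], [10], [10], [10, 11], [10, 11], [], [], [], []], cmL := [[], [2, 4, 5, 8, 10], [6, 9], [4, 7, 9, 10], [9, 11], [6, 10, 11], [10, 11], [8, 9], [11], [10, 11], [], [], [], [], [6, 9, 11], [9, 11], [9, 10], [6, 11], [], [8, 9, 10, 11], [], [], [], [], [], [], [], [7], [10], [], [10], [10, 11], [10], [11], [], [], [], [], [], [], [10, 11], [7, 8, 11], [8, 9, 11], [], [], [], [], [], [], [], [], [], [], [11], [11], [], [], [], [], [], [], [], [], [], [], [], [10, 11], [11], [10], [11], [], [], [], [], [], [], [], [], [], [10, 11], [], [], [], [], [], [], [], [], [], [], [], [], [], [], [], [], [], [], [], [], [],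 [], [], [], [], [], [], [], [], [], [], [], [], [], [], [], [], [], [], [], [], [], [], [], [], [], [], [], [], [], [], [], [], [], [], [], [], [], [], [], [], [], [], []] }
  k := 1
  f := 298
  R := 10
  fus := [([[0, 1], [2], [4], [5], [6], [7], [8], [9], [10], [11]], [[0, 1, 4, 5, 6, 9, 10, 11], [2, 6, 7, 9, 10], [5, 6, 8, 9, 10], [5, 8, 9, 11], [4, 5, 7, 9, 10], [0, 1, 5, 6, 7, 9, 11], [2, 6, 7, 10], [0, 1, 6, 8, 9, 10, 11], [11], [10, 11]]), ([[1], [2, 5], [3], [4], [6], [7], [8], [9], [10], [11]], [[4, 8, 9], [1, 7, 9, 11], [1, 9, 10], [3, 8, 11], [2, 3, 4, 5, 10, 11], [1, 2, 3, 5, 6, 7], [8, 9, 10, 11], [8, 9, 11], [8, 9, 10], [8, 10, 11]])]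
  specs := sp0 ++ sp1 ++ sp2 ++ sp3 ++ sp4 ++ sp5 ++ sp6 ++ sp7 ++ sp8 ++ sp9
  relV := rv0 ++ rv1 ++ rv2 ++ rv3 ++ rv4 ++ rv5 ++ rv6 ++ rv7 ++ rv8 ++ rv9
  lam := [[.ofNat 0, .ofNat 0, .ofNat 0, .ofNat 0, .ofNat 0, .ofNat 0, .ofNat 0, .ofNat 0, .ofNat 0, .ofNat 0, .ofNat 0, .ofNat 0, .ofNat 0, .ofNat 0, .ofNat 0, .ofNat 0, .ofNat 0, .ofNat 0, .ofNat 0, .ofNat 0, .ofNat 0, .ofNat 0, .ofNat 0, .ofNat 0, .ofNat 0, .ofNat 0, .ofNat 0, .ofNat 0, .ofNat 0, .ofNat 0, .ofNat 0, .ofNat 0, .ofNat 0, .ofNat 0, .ofNat 0, .ofNat 0, .ofNat 0, .ofNat 0, .ofNat 0, .ofNat 0, .ofNat 0, .ofNat 0, .ofNat 0, .ofNat 0, .ofNat 0, .ofNat 0, .ofNat 0, .ofNat 0, .ofNat 0, .ofNat 0, .ofNat 0, .ofNat 0, .ofNat 0, .ofNat 0, .ofNat 0, .ofNat 0, .ofNat 0, .ofNat 0, .ofNat 0, .ofNat 0, .ofNat 0, .ofNat 0, .ofNat 0, .ofNat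 0, .ofNat 0, .ofNat 0, .ofNat 0, .ofNat 0, .ofNat 0, .ofNat 0, .ofNat 0, .ofNat 0, .ofNat 0, .ofNat 0, .ofNat 0, .ofNat 0, .ofNat 0, .ofNat 0, .ofNat 0, .ofNat 0, .ofNat 0, .ofNat 0, .ofNat 0, .ofNat 0, .ofNat 0, .ofNat 0, .ofNat 0, .ofNat 0, .ofNat 0, .ofNat 0, .ofNat 0, .ofNat 0, .ofNat 0, .ofNat 0, .ofNat 0, .ofNat 0, .ofNat 0, .ofNat 0, .ofNat 0, .ofNat 0, .ofNat 0, .ofNat 0, .ofNat 0, .ofNat 0, .ofNat 0, .ofNat 0, .ofNat 0, .ofNat 0, .ofNat 0, .ofNat 0, .ofNat 0, .ofNat 0, .ofNat 0, .ofNat 0, .ofNat 0, .ofNat 0, .ofNat 0, .ofNat 0, .ofNat 0, .ofNat 0, .ofNat 0, .ofNat 0, .ofNat 0, .ofNat 0, .ofNat 0, .ofNat 0, .ofNat 0, .ofNat 0, .ofNat 0, .ofNat 0, .ofNat 0, .ofNat 0, .ofNat 0, .ofNat 0, .ofNat 0, .ofNat 0, .ofNat 0, .ofNat 0, .ofNat 0, .ofNat 0, .ofNat 0, .ofNat 0, .ofNat 0, .ofNat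 0, .ofNat 0, .ofNat 0, .ofNat 0, .ofNat 0, .ofNat 0, .ofNat 0, .ofNat 0, .ofNat 0, .ofNat 0, .ofNat 0, .ofNat 0, .ofNat 0, .ofNat 0, .ofNat 0, .ofNat 0, .ofNat 0, .ofNat 0, .ofNat 0, .ofNat 0, .ofNat 0],
    [.ofNat 0, .ofNat 0, .ofNat 0, .ofNat 0, .ofNat 0, .ofNat 0, .ofNat 0, .ofNat 0, .ofNat 0, .ofNat 0, .ofNat 0, .ofNat 0, .ofNat 0, .ofNat 0, .ofNat 0, .ofNat 0, .ofNat 0, .ofNat 0, .ofNat 0, .ofNat 0, .ofNat 0, .ofNat 0, .ofNat 0, .ofNat 0, .ofNat 0, .ofNat 0, .ofNat 0, .ofNat 0, .ofNat 0, .ofNat 0, .ofNat 0, .ofNat 0, .ofNat 0, .ofNat 0, .ofNat 0, .ofNat 0, .ofNat 0, .ofNat 0, .ofNat 0, .ofNat 0, .ofNat 0, .ofNat 0, .ofNat 0, .ofNat 0, .ofNat 0, .ofNat 0, .ofNat 0, .ofNat 0, .ofNat 0, .ofNat 0, .ofNat 0, .ofNat 0, .ofNat 0, .ofNat 0, .ofNat 0, .ofNat 0, .ofNat 0, .ofNat 0, .ofNat 0, .ofNat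 0, .ofNat 0, .ofNat 0, .ofNat 0, .ofNat 0, .ofNat 0, .ofNat 0, .ofNat 0, .ofNat 0, .ofNat 0, .ofNat 0, .ofNat 0, .ofNat 0, .ofNat 0, .ofNat 0, .ofNat 0, .ofNat 0, .ofNat 0, .ofNat 0, .ofNat 0, .ofNat 0, .ofNat 0, .ofNat 0, .ofNat 0, .ofNat 0, .ofNat 0, .ofNat 0, .ofNat 0, .ofNat 0, .ofNat 0, .ofNat 0, .ofNat 0, .ofNat 0, .ofNat 0, .ofNat 0, .ofNat 0, .ofNat 0, .ofNat 0, .ofNat 0, .ofNat 0, .ofNat 0, .ofNat 0, .ofNat 0, .ofNat 0, .ofNat 0, .ofNat 0, .ofNat 0, .ofNat 0, .ofNat 0, .ofNat 0, .ofNat 0, .ofNat 0, .ofNat 0, .ofNat 0, .ofNat 0, .ofNat 0, .ofNat 0, .ofNat 0, .ofNat 0, .ofNat 0, .ofNat 0, .ofNat 0, .ofNat 0, .ofNat 0, .ofNat 0, .ofNat 0, .ofNat 0, .ofNat 0, .ofNat 0, .ofNat 0, .ofNat 0, .ofNat 0, .ofNat 0, .ofNat 0, .ofNat 0, .ofNat 0, .ofNat 0, .ofNat 0, .ofNat 0, .ofNat 0, .ofNat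 0, .ofNat 0, .ofNat 0, .ofNat 0, .ofNat 0, .ofNat 0, .ofNat 0, .ofNat 0, .ofNat 0, .ofNat 0, .ofNat 0, .ofNat 0, .ofNat 0, .ofNat 0, .ofNat 0, .ofNat 0, .ofNat 0, .ofNat 0, .ofNat 0, .ofNat 0, .ofNat 0, .ofNat 0, .ofNat 0, .ofNat 0, .ofNat 0],
    [.ofNat 0, .ofNat 1, .ofNat 0, .ofNat 1, .ofNat 0, .ofNat 0, .ofNat 0, .ofNat 0, .ofNat 0, .ofNat 0, .ofNat 0, .ofNat 0, .ofNat 0, .ofNat 0, .ofNat 0, .ofNat 0, .ofNat 0, .ofNat 0, .ofNat 0, .ofNat 0, .ofNat 0, .ofNat 0, .ofNat 0, .ofNat 0, .ofNat 0, .ofNat 0, .ofNat 0, .ofNat 0, .ofNat 0, .ofNat 0, .ofNat 0, .ofNat 0, .ofNat 0, .ofNat 0, .ofNat 0, .ofNat 0, .ofNat 0, .ofNat 0, .ofNat 0, .ofNat 0, .ofNat 0, .ofNat 1, .ofNat 0, .ofNat 0, .ofNat 0, .ofNat 0, .ofNat 0, .ofNat 0, .ofNat 0, .ofNat 0, .ofNat 0, .ofNat 0, .ofNat 0, .ofNat 0, .ofNat 0, .ofNat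 0, .ofNat 0, .ofNat 0, .ofNat 0, .ofNat 0, .ofNat 0, .ofNat 0, .ofNat 0, .ofNat 0, .ofNat 0, .ofNat 0, .ofNat 0, .ofNat 0, .ofNat 0, .ofNat 0, .ofNat 0, .ofNat 0, .ofNat 0, .ofNat 0, .ofNat 0, .ofNat 0, .ofNat 0, .ofNat 0, .ofNat 0, .ofNat 0, .ofNat 0, .ofNat 0, .ofNat 0, .ofNat 0, .ofNat 0, .ofNat 0, .ofNat 0, .ofNat 0, .ofNat 0, .ofNat 0, .ofNat 0, .ofNat 0, .ofNat 0, .ofNat 0, .ofNat 0, .ofNat 0, .ofNat 0, .ofNat 0, .ofNat 0, .ofNat 0, .ofNat 0, .ofNat 0, .ofNat 0, .ofNat 0, .ofNat 0, .ofNat 0, .ofNat 0, .ofNat 0, .ofNat 0, .ofNat 0, .ofNat 0, .ofNat 0, .ofNat 0, .ofNat 0, .ofNat 0, .ofNat 0, .ofNat 0, .ofNat 0, .ofNat 0, .ofNat 0, .ofNat 0, .ofNat 0, .ofNat 0, .ofNat 0, .ofNat 0, .ofNat 0, .ofNat 0, .ofNat 0, .ofNat 0, .ofNat 0, .ofNat 0, .ofNat 0, .ofNat 0, .ofNat 0, .ofNat 0, .ofNat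 0, .ofNat 0, .ofNat 0, .ofNat 0, .ofNat 0, .ofNat 0, .ofNat 0, .ofNat 0, .ofNat 0, .ofNat 0, .ofNat 0, .ofNat 0, .ofNat 0, .ofNat 0, .ofNat 0, .ofNat 0, .ofNat 0, .ofNat 0, .ofNat 0, .ofNat 0, .ofNat 0, .ofNat 0, .ofNat 0, .ofNat 0, .ofNat 0, .ofNat 0, .ofNat 1, .ofNat 1, .ofNat 0],
    [.ofNat 0, .ofNat 0, .ofNat 0, .ofNat 0, .ofNat 0, .ofNat 0, .ofNat 0, .ofNat 0, .ofNat 0, .ofNat 0, .ofNat 0, .ofNat 0, .ofNat 0, .ofNat 0, .ofNat 0, .ofNat 0, .ofNat 0, .ofNat 0, .ofNat 0, .ofNat 0, .ofNat 0, .ofNat 0, .ofNat 0, .ofNat 0, .ofNat 0, .ofNat 0, .ofNat 0, .ofNat 0, .ofNat 0, .ofNat 0, .ofNat 0, .ofNat 0, .ofNat 0, .ofNat 0, .ofNat 0, .ofNat 0, .ofNat 0, .ofNat 0, .ofNat 0, .ofNat 0, .ofNat 0, .ofNat 0, .ofNat 0, .ofNat 0, .ofNat 0, .ofNat 0, .ofNat 0, .ofNat 0, .ofNat 0, .ofNat 0, .ofNat 0, .ofNat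 0, .ofNat 0, .ofNat 0, .ofNat 0, .ofNat 0, .ofNat 0, .ofNat 0, .ofNat 0, .ofNat 0, .ofNat 0, .ofNat 0, .ofNat 0, .ofNat 0, .ofNat 0, .ofNat 0, .ofNat 0, .ofNat 0, .ofNat 0, .ofNat 0, .ofNat 0, .ofNat 0, .ofNat 0, .ofNat 0, .ofNat 0, .ofNat 0, .ofNat 0, .ofNat 0, .ofNat 0, .ofNat 0, .ofNat 0, .ofNat 0, .ofNat 0, .ofNat 0, .ofNat 0, .ofNat 0, .ofNat 0, .ofNat 0, .ofNat 0, .ofNat 0, .ofNat 0, .ofNat 0, .ofNat 0, .ofNat 0, .ofNat 0, .ofNat 0, .ofNat 0, .ofNat 0, .ofNat 0, .ofNat 0, .ofNat 0, .ofNat 0, .ofNat 0, .ofNat 0, .ofNat 0, .ofNat 0, .ofNat 0, .ofNat 0, .ofNat 0, .ofNat 0, .ofNat 0, .ofNat 0, .ofNat 0, .ofNat 0, .ofNat 0, .ofNat 0, .ofNat 0, .ofNat 0, .ofNat 0, .ofNat 0, .ofNat 0, .ofNat 0, .ofNat 0, .ofNat 0, .ofNat 0, .ofNat 0, .ofNat 0, .ofNat 0, .ofNat 0, .ofNat 0, .ofNat 0, .ofNat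 0, .ofNat 0, .ofNat 0, .ofNat 0, .ofNat 0, .ofNat 0, .ofNat 0, .ofNat 0, .ofNat 0, .ofNat 0, .ofNat 0, .ofNat 0, .ofNat 0, .ofNat 0, .ofNat 0, .ofNat 0, .ofNat 0, .ofNat 0, .ofNat 0, .ofNat 0, .ofNat 0, .ofNat 0, .ofNat 0, .ofNat 0, .ofNat 0, .ofNat 0, .ofNat 0, .ofNat 0, .ofNat 0, .ofNat 0, .ofNat 0, .ofNat 0, .ofNat 0],
    [.ofNat 0, .ofNat 0, .ofNat 0, .ofNat 1, .ofNat 0, .ofNat 0, .ofNat 0, .ofNat 0, .ofNat 0, .ofNat 0, .ofNat 0, .ofNat 0, .ofNat 0, .ofNat 0, .ofNat 0, .ofNat 0, .ofNat 0, .ofNat 0, .ofNat 0, .ofNat 0, .ofNat 0, .ofNat 0, .ofNat 0, .ofNat 0, .ofNat 0, .ofNat 0, .ofNat 0, .ofNat 0, .ofNat 0, .ofNat 0, .ofNat 0, .ofNat 0, .ofNat 0, .ofNat 0, .ofNat 0, .ofNat 0, .ofNat 0, .ofNat 0, .ofNat 0, .ofNat 0, .ofNat 0, .ofNat 1, .ofNat 0, .ofNat 0, .ofNat 0, .ofNat 0, .ofNat 0, .ofNat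 0, .ofNat 0, .ofNat 0, .ofNat 0, .ofNat 0, .ofNat 0, .ofNat 0, .ofNat 0, .ofNat 0, .ofNat 0, .ofNat 0, .ofNat 0, .ofNat 0, .ofNat 0, .ofNat 0, .ofNat 0, .ofNat 0, .ofNat 0, .ofNat 0, .ofNat 0, .ofNat 0, .ofNat 0, .ofNat 0, .ofNat 0, .ofNat 0, .ofNat 0, .ofNat 0, .ofNat 0, .ofNat 0, .ofNat 0, .ofNat 0, .ofNat 0, .ofNat 0, .ofNat 0, .ofNat 0, .ofNat 0, .ofNat 0, .ofNat 0, .ofNat 0, .ofNat 0, .ofNat 0, .ofNat 0, .ofNat 0, .ofNat 0, .ofNat 0, .ofNat 0, .ofNat 0, .ofNat 0, .ofNat 0, .ofNat 0, .ofNat 0, .ofNat 0, .ofNat 0, .ofNat 0, .ofNat 0, .ofNat 0, .ofNat 0, .ofNat 0, .ofNat 0, .ofNat 0, .ofNat 0, .ofNat 0, .ofNat 0, .ofNat 0, .ofNat 0, .ofNat 0, .ofNat 0, .ofNat 0, .ofNat 0, .ofNat 0, .ofNat 0, .ofNat 0, .ofNat 0, .ofNat 0, .ofNat 0, .ofNat 0, .ofNat 0, .ofNat 0, .ofNat 0, .ofNat 0, .ofNat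 0, .ofNat 0, .ofNat 0, .ofNat 0, .ofNat 0, .ofNat 0, .ofNat 0, .ofNat 0, .ofNat 0, .ofNat 0, .ofNat 0, .ofNat 0, .ofNat 0, .ofNat 0, .ofNat 0, .ofNat 0, .ofNat 0, .ofNat 0, .ofNat 0, .ofNat 0, .ofNat 0, .ofNat 0, .ofNat 0, .ofNat 0, .ofNat 0, .ofNat 0, .ofNat 0, .ofNat 0, .ofNat 0, .ofNat 0, .ofNat 0, .ofNat 0, .ofNat 0, .ofNat 0, .ofNat 1, .ofNat 1, .ofNat 1],
    [.ofNat 0, .ofNat 0, .ofNat 0, .ofNat 0, .ofNat 0, .ofNat 0, .ofNat 0, .ofNat 0, .ofNat 0, .ofNat 0, .ofNat 0, .ofNat 0, .ofNat 0, .ofNat 0, .ofNat 0, .ofNat 0, .ofNat 0, .ofNat 0, .ofNat 0, .ofNat 0, .ofNat 0, .ofNat 0, .ofNat 0, .ofNat 0, .ofNat 0, .ofNat 0, .ofNat 0, .ofNat 0, .ofNat 0, .ofNat 0, .ofNat 0, .ofNat 0, .ofNat 0, .ofNat 0, .ofNat 0, .ofNat 0, .ofNat 0, .ofNat 0, .ofNat 0, .ofNat 0, .ofNat 0, .ofNat 0, .ofNat 0, .ofNat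 0, .ofNat 0, .ofNat 0, .ofNat 0, .ofNat 0, .ofNat 0, .ofNat 0, .ofNat 0, .ofNat 0, .ofNat 0, .ofNat 0, .ofNat 0, .ofNat 0, .ofNat 0, .ofNat 0, .ofNat 0, .ofNat 0, .ofNat 0, .ofNat 0, .ofNat 0, .ofNat 0, .ofNat 0, .ofNat 0, .ofNat 0, .ofNat 0, .ofNat 0, .ofNat 0, .ofNat 0, .ofNat 0, .ofNat 0, .ofNat 0, .ofNat 0, .ofNat 0, .ofNat 0, .ofNat 0, .ofNat 0, .ofNat 0, .ofNat 0, .ofNat 0, .ofNat 0, .ofNat 0, .ofNat 0, .ofNat 0, .ofNat 0, .ofNat 0, .ofNat 0, .ofNat 0, .ofNat 0, .ofNat 0, .ofNat 0, .ofNat 0, .ofNat 0, .ofNat 0, .ofNat 0, .ofNat 0, .ofNat 0, .ofNat 0, .ofNat 0, .ofNat 0, .ofNat 0, .ofNat 0, .ofNat 0, .ofNat 0, .ofNat 0, .ofNat 0, .ofNat 0, .ofNat 0, .ofNat 0, .ofNat 0, .ofNat 0, .ofNat 0, .ofNat 0, .ofNat 0, .ofNat 0, .ofNat 0, .ofNat 0, .ofNat 0, .ofNat 0, .ofNat 0, .ofNat 0, .ofNat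 0, .ofNat 0, .ofNat 0, .ofNat 0, .ofNat 0, .ofNat 0, .ofNat 0, .ofNat 0, .ofNat 0, .ofNat 0, .ofNat 0, .ofNat 0, .ofNat 0, .ofNat 0, .ofNat 0, .ofNat 0, .ofNat 0, .ofNat 0, .ofNat 0, .ofNat 0, .ofNat 0, .ofNat 0, .ofNat 0, .ofNat 0, .ofNat 0, .ofNat 0, .ofNat 0, .ofNat 0, .ofNat 0, .ofNat 0, .ofNat 0, .ofNat 0, .ofNat 0, .ofNat 0, .ofNat 0, .ofNat 0, .ofNat 0, .ofNat 0, .ofNat 0, .ofNat 0, .ofNat 0],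
    [.ofNat 0, .ofNat 0, .ofNat 0, .ofNat 0, .ofNat 0, .ofNat 0, .ofNat 0, .ofNat 0, .ofNat 0, .ofNat 0, .ofNat 0, .ofNat 0, .ofNat 0, .ofNat 0, .ofNat 0, .ofNat 0, .ofNat 0, .ofNat 1, .ofNat 0, .ofNat 0, .ofNat 0, .ofNat 0, .ofNat 0, .ofNat 0, .ofNat 0, .ofNat 0, .ofNat 0, .ofNat 0, .ofNat 0, .ofNat 0, .ofNat 0, .ofNat 0, .ofNat 0, .ofNat 0, .ofNat 0, .ofNat 0, .ofNat 0, .ofNat 0, .ofNat 0, .ofNat 0, .ofNat 0, .ofNat 0, .ofNat 0, .ofNat 0, .ofNat 0, .ofNat 0, .ofNat 0, .ofNat 0, .ofNat 0, .ofNat 0, .ofNat 0, .ofNat 0, .ofNat 0, .ofNat 0, .ofNat 0, .ofNat 0, .ofNat 0, .ofNat 0, .ofNat 0, .ofNat 0, .ofNat 0, .ofNat 0, .ofNat 0, .ofNat 0, .ofNat 0, .ofNat 0, .ofNat 0, .ofNat 0, .ofNat 0, .ofNat 0, .ofNat 0, .ofNat 0, .ofNat 0, .ofNat 0, .ofNat 0, .ofNat 0, .ofNat 0, .ofNat 0, .ofNat 0, .ofNat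 0, .ofNat 0, .ofNat 0, .ofNat 0, .ofNat 0, .ofNat 0, .ofNat 0, .ofNat 0, .ofNat 0, .ofNat 0, .ofNat 0, .ofNat 0, .ofNat 0, .ofNat 0, .ofNat 0, .ofNat 0, .ofNat 0, .ofNat 0, .ofNat 0, .ofNat 0, .ofNat 0, .ofNat 0, .ofNat 0, .ofNat 0, .ofNat 0, .ofNat 0, .ofNat 0, .ofNat 0, .ofNat 0, .ofNat 0, .ofNat 0, .ofNat 0, .ofNat 0, .ofNat 0, .ofNat 0, .ofNat 0, .ofNat 0, .ofNat 0, .ofNat 0, .ofNat 0, .ofNat 0, .ofNat 0, .ofNat 0, .ofNat 0, .ofNat 0, .ofNat 0, .ofNat 0, .ofNat 0, .ofNat 0, .ofNat 0, .ofNat 0, .ofNat 0, .ofNat 0, .ofNat 0, .ofNat 0, .ofNat 0, .ofNat 0, .ofNat 0, .ofNat 0, .ofNat 0, .ofNat 0, .ofNat 0, .ofNat 0, .ofNat 0, .ofNat 0, .ofNat 0, .ofNat 0, .ofNat 0, .ofNat 0, .ofNat 0, .ofNat 0, .ofNat 0, .ofNat 0, .ofNat 0, .ofNat 0, .ofNat 0, .ofNat 0, .ofNat 0, .ofNat 0, .ofNat 0, .ofNat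 0, .ofNat 1, .ofNat 0, .ofNat 1, .ofNat 1],
    [.ofNat 0, .ofNat 0, .ofNat 0, .ofNat 0, .ofNat 0, .ofNat 0, .ofNat 0, .ofNat 0, .ofNat 0, .ofNat 0, .ofNat 0, .ofNat 0, .ofNat 0, .ofNat 0, .ofNat 0, .ofNat 0, .ofNat 0, .ofNat 0, .ofNat 0, .ofNat 0, .ofNat 0, .ofNat 0, .ofNat 0, .ofNat 0, .ofNat 0, .ofNat 0, .ofNat 0, .ofNat 0, .ofNat 0, .ofNat 0, .ofNat 0, .ofNat 0, .ofNat 0, .ofNat 0, .ofNat 0, .ofNat 0, .ofNat 0, .ofNat 0, .ofNat 0, .ofNat 0, .ofNat 0, .ofNat 1, .ofNat 0, .ofNat 0, .ofNat 0, .ofNat 0, .ofNat 0, .ofNat 0, .ofNat 0, .ofNat 0, .ofNat 0, .ofNat 0, .ofNat 0, .ofNat 0, .ofNat 0, .ofNat 0, .ofNat 0, .ofNat 0, .ofNat 0, .ofNat 0, .ofNat 0, .ofNat 0, .ofNat 0, .ofNat 0, .ofNat 0, .ofNat 0, .ofNat 0, .ofNat 0, .ofNat 0, .ofNat 0, .ofNat 0, .ofNat 0, .ofNat 0, .ofNat 0, .ofNat 0, .ofNat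 0, .ofNat 0, .ofNat 0, .ofNat 0, .ofNat 0, .ofNat 0, .ofNat 0, .ofNat 0, .ofNat 0, .ofNat 0, .ofNat 0, .ofNat 0, .ofNat 0, .ofNat 0, .ofNat 0, .ofNat 0, .ofNat 0, .ofNat 0, .ofNat 0, .ofNat 0, .ofNat 0, .ofNat 0, .ofNat 0, .ofNat 0, .ofNat 0, .ofNat 0, .ofNat 0, .ofNat 0, .ofNat 0, .ofNat 0, .ofNat 0, .ofNat 0, .ofNat 0, .ofNat 0, .ofNat 0, .ofNat 0, .ofNat 0, .ofNat 0, .ofNat 0, .ofNat 0, .ofNat 0, .ofNat 0, .ofNat 0, .ofNat 0, .ofNat 0, .ofNat 0, .ofNat 0, .ofNat 0, .ofNat 0, .ofNat 0, .ofNat 0, .ofNat 0, .ofNat 0, .ofNat 0, .ofNat 0, .ofNat 0, .ofNat 0, .ofNat 0, .ofNat 0, .ofNat 0, .ofNat 0, .ofNat 0, .ofNat 0, .ofNat 0, .ofNat 0, .ofNat 0, .ofNat 0, .ofNat 0, .ofNat 0, .ofNat 0, .ofNat 0, .ofNat 0, .ofNat 0, .ofNat 0, .ofNat 0, .ofNat 0, .ofNat 0, .ofNat 0, .ofNat 0, .ofNat 0, .ofNat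 0, .ofNat 0, .ofNat 0, .ofNat 0, .ofNat 0, .ofNat 0, .ofNat 1, .ofNat 0, .ofNat 0],
    [.ofNat 0, .ofNat 0, .ofNat 0, .ofNat 0, .ofNat 0, .ofNat 0, .ofNat 0, .ofNat 0, .ofNat 0, .ofNat 0, .ofNat 0, .ofNat 0, .ofNat 0, .ofNat 0, .ofNat 0, .ofNat 0, .ofNat 0, .ofNat 0, .ofNat 0, .ofNat 0, .ofNat 0, .ofNat 0, .ofNat 0, .ofNat 0, .ofNat 0, .ofNat 0, .ofNat 0, .ofNat 0, .ofNat 0, .ofNat 0, .ofNat 0, .ofNat 0, .ofNat 0, .ofNat 0, .ofNat 0, .ofNat 0, .ofNat 0, .ofNat 0, .ofNat 0, .ofNat 0, .ofNat 0, .ofNat 0, .ofNat 0, .ofNat 0, .ofNat 0, .ofNat 0, .ofNat 0, .ofNat 0, .ofNat 0, .ofNat 0, .ofNat 0, .ofNat 0, .ofNat 0, .ofNat 0, .ofNat 0, .ofNat 0, .ofNat 0, .ofNat 0, .ofNat 0, .ofNat 0, .ofNat 0, .ofNat 0, .ofNat 0, .ofNat 0, .ofNat 0, .ofNat 0, .ofNat 0, .ofNat 0, .ofNat 0, .ofNat 0, .ofNat 0, .ofNat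 0, .ofNat 0, .ofNat 0, .ofNat 0, .ofNat 0, .ofNat 0, .ofNat 0, .ofNat 0, .ofNat 0, .ofNat 0, .ofNat 0, .ofNat 0, .ofNat 0, .ofNat 0, .ofNat 0, .ofNat 0, .ofNat 0, .ofNat 0, .ofNat 0, .ofNat 0, .ofNat 0, .ofNat 0, .ofNat 0, .ofNat 0, .ofNat 0, .ofNat 0, .ofNat 0, .ofNat 0, .ofNat 0, .ofNat 0, .ofNat 0, .ofNat 0, .ofNat 0, .ofNat 0, .ofNat 0, .ofNat 0, .ofNat 0, .ofNat 0, .ofNat 0, .ofNat 0, .ofNat 0, .ofNat 0, .ofNat 0, .ofNat 0, .ofNat 0, .ofNat 0, .ofNat 0, .ofNat 0, .ofNat 0, .ofNat 0, .ofNat 0, .ofNat 0, .ofNat 0, .ofNat 0, .ofNat 0, .ofNat 0, .ofNat 0, .ofNat 0, .ofNat 0, .ofNat 0, .ofNat 0, .ofNat 0, .ofNat 0, .ofNat 0, .ofNat 0, .ofNat 0, .ofNat 0, .ofNat 0, .ofNat 0, .ofNat 0, .ofNat 0, .ofNat 0, .ofNat 0, .ofNat 0, .ofNat 0, .ofNat 0, .ofNat 0, .ofNat 0, .ofNat 0, .ofNat 0, .ofNat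 0, .ofNat 0, .ofNat 0, .ofNat 0, .ofNat 0, .ofNat 0, .ofNat 0, .ofNat 0, .ofNat 0, .ofNat 1, .ofNat 1, .ofNat 1, .ofNat 1],
    [.ofNat 0, .ofNat 0, .ofNat 0, .ofNat 0, .ofNat 0, .ofNat 0, .ofNat 0, .ofNat 0, .ofNat 0, .ofNat 0, .ofNat 0, .ofNat 0, .ofNat 0, .ofNat 0, .ofNat 0, .ofNat 0, .ofNat 0, .ofNat 0, .ofNat 0, .ofNat 0, .ofNat 0, .ofNat 0, .ofNat 0, .ofNat 0, .ofNat 0, .ofNat 0, .ofNat 0, .ofNat 0, .ofNat 0, .ofNat 0, .ofNat 0, .ofNat 0, .ofNat 0, .ofNat 0, .ofNat 0, .ofNat 0, .ofNat 0, .ofNat 0, .ofNat 0, .ofNat 0, .ofNat 0, .ofNat 0, .ofNat 0, .ofNat 0, .ofNat 0, .ofNat 0, .ofNat 0, .ofNat 0, .ofNat 0, .ofNat 0, .ofNat 0, .ofNat 0, .ofNat 0, .ofNat 0, .ofNat 0, .ofNat 0, .ofNat 0, .ofNat 0, .ofNat 0, .ofNat 0, .ofNat 0, .ofNat 0, .ofNat 0, .ofNat 0, .ofNat 0, .ofNat 0, .ofNat 0, .ofNat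 0, .ofNat 0, .ofNat 0, .ofNat 0, .ofNat 0, .ofNat 0, .ofNat 0, .ofNat 0, .ofNat 0, .ofNat 0, .ofNat 0, .ofNat 0, .ofNat 0, .ofNat 0, .ofNat 0, .ofNat 0, .ofNat 0, .ofNat 0, .ofNat 0, .ofNat 0, .ofNat 0, .ofNat 0, .ofNat 0, .ofNat 0, .ofNat 0, .ofNat 0, .ofNat 0, .ofNat 0, .ofNat 0, .ofNat 0, .ofNat 0, .ofNat 0, .ofNat 0, .ofNat 0, .ofNat 0, .ofNat 0, .ofNat 0, .ofNat 0, .ofNat 0, .ofNat 0, .ofNat 0, .ofNat 0, .ofNat 0, .ofNat 0, .ofNat 0, .ofNat 0, .ofNat 0, .ofNat 0, .ofNat 0, .ofNat 0, .ofNat 0, .ofNat 0, .ofNat 0, .ofNat 0, .ofNat 0, .ofNat 0, .ofNat 0, .ofNat 0, .ofNat 0, .ofNat 0, .ofNat 0, .ofNat 0, .ofNat 0, .ofNat 0, .ofNat 0, .ofNat 0, .ofNat 0, .ofNat 0, .ofNat 0, .ofNat 0, .ofNat 0, .ofNat 0, .ofNat 0, .ofNat 0, .ofNat 0, .ofNat 0, .ofNat 0, .ofNat 0, .ofNat 0, .ofNat 0, .ofNat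 0, .ofNat 0, .ofNat 0, .ofNat 0, .ofNat 0, .ofNat 0, .ofNat 0, .ofNat 0, .ofNat 0, .ofNat 0, .ofNat 0, .ofNat 0, .ofNat 0, .ofNat 1, .ofNat 1, .ofNat 0, .ofNat 1],
    [.ofNat 0, .ofNat 0, .ofNat 0, .ofNat 0, .ofNat 0, .ofNat 0, .ofNat 0, .ofNat 0, .ofNat 0, .ofNat 0, .ofNat 0, .ofNat 0, .ofNat 0, .ofNat 0, .ofNat 0, .ofNat 0, .ofNat 0, .ofNat 0, .ofNat 0, .ofNat 0, .ofNat 0, .ofNat 0, .ofNat 0, .ofNat 0, .ofNat 0, .ofNat 0, .ofNat 0, .ofNat 0, .ofNat 0, .ofNat 0, .ofNat 0, .ofNat 0, .ofNat 0, .ofNat 0, .ofNat 0, .ofNat 0, .ofNat 0, .ofNat 0, .ofNat 0, .ofNat 0, .ofNat 0, .ofNat 0, .ofNat 0, .ofNat 0, .ofNat 0, .ofNat 0, .ofNat 0, .ofNat 0, .ofNat 0, .ofNat 0, .ofNat 0, .ofNat 0, .ofNat 0, .ofNat 0, .ofNat 0, .ofNat 0, .ofNat 0, .ofNat 0, .ofNat 0, .ofNat 0, .ofNat 0, .ofNat 0, .ofNat 0, .ofNat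 0, .ofNat 0, .ofNat 0, .ofNat 0, .ofNat 0, .ofNat 0, .ofNat 0, .ofNat 0, .ofNat 0, .ofNat 0, .ofNat 0, .ofNat 0, .ofNat 0, .ofNat 0, .ofNat 0, .ofNat 0, .ofNat 0, .ofNat 0, .ofNat 0, .ofNat 0, .ofNat 0, .ofNat 0, .ofNat 0, .ofNat 0, .ofNat 0, .ofNat 0, .ofNat 0, .ofNat 0, .ofNat 0, .ofNat 0, .ofNat 0, .ofNat 0, .ofNat 0, .ofNat 0, .ofNat 0, .ofNat 0, .ofNat 0, .ofNat 0, .ofNat 0, .ofNat 0, .ofNat 0, .ofNat 0, .ofNat 0, .ofNat 0, .ofNat 0, .ofNat 0, .ofNat 0, .ofNat 0, .ofNat 0, .ofNat 0, .ofNat 0, .ofNat 0, .ofNat 0, .ofNat 0, .ofNat 0, .ofNat 0, .ofNat 0, .ofNat 0, .ofNat 0, .ofNat 0, .ofNat 0, .ofNat 0, .ofNat 0, .ofNat 0, .ofNat 0, .ofNat 0, .ofNat 0, .ofNat 0, .ofNat 0, .ofNat 0, .ofNat 0, .ofNat 0, .ofNat 0, .ofNat 0, .ofNat 0, .ofNat 0, .ofNat 0, .ofNat 0, .ofNat 0, .ofNat 0, .ofNat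 0, .ofNat 0, .ofNat 0, .ofNat 0, .ofNat 0, .ofNat 0, .ofNat 0, .ofNat 0, .ofNat 0, .ofNat 0, .ofNat 0, .ofNat 0, .ofNat 0, .ofNat 0, .ofNat 0, .ofNat 0, .ofNat 0, .ofNat 1, .ofNat 1, .ofNat 1, .ofNat 0],
    [.ofNat 0, .ofNat 0, .ofNat 0, .ofNat 0, .ofNat 0, .ofNat 0, .ofNat 0, .ofNat 0, .ofNat 0, .ofNat 0, .ofNat 0, .ofNat 0, .ofNat 0, .ofNat 0, .ofNat 0, .ofNat 0, .ofNat 0, .ofNat 0, .ofNat 0, .ofNat 0, .ofNat 0, .ofNat 0, .ofNat 0, .ofNat 0, .ofNat 0, .ofNat 0, .ofNat 0, .ofNat 0, .ofNat 0, .ofNat 0, .ofNat 0, .ofNat 0, .ofNat 0, .ofNat 0, .ofNat 0, .ofNat 0, .ofNat 0, .ofNat 0, .ofNat 0, .ofNat 0, .ofNat 0, .ofNat 0, .ofNat 0, .ofNat 0, .ofNat 0, .ofNat 0, .ofNat 0, .ofNat 0, .ofNat 0, .ofNat 0, .ofNat 0, .ofNat 0, .ofNat 0, .ofNat 0, .ofNat 0, .ofNat 0, .ofNat 0, .ofNat 0, .ofNat 0, .ofNat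 0, .ofNat 0, .ofNat 0, .ofNat 0, .ofNat 0, .ofNat 0, .ofNat 0, .ofNat 0, .ofNat 0, .ofNat 0, .ofNat 0, .ofNat 0, .ofNat 0, .ofNat 0, .ofNat 0, .ofNat 0, .ofNat 0, .ofNat 0, .ofNat 0, .ofNat 0, .ofNat 0, .ofNat 0, .ofNat 0, .ofNat 0, .ofNat 0, .ofNat 0, .ofNat 0, .ofNat 0, .ofNat 0, .ofNat 0, .ofNat 0, .ofNat 0, .ofNat 0, .ofNat 0, .ofNat 0, .ofNat 0, .ofNat 0, .ofNat 0, .ofNat 0, .ofNat 0, .ofNat 0, .ofNat 0, .ofNat 0, .ofNat 0, .ofNat 0, .ofNat 0, .ofNat 0, .ofNat 0, .ofNat 0, .ofNat 0, .ofNat 0, .ofNat 0, .ofNat 0, .ofNat 0, .ofNat 0, .ofNat 0, .ofNat 0, .ofNat 0, .ofNat 0, .ofNat 0, .ofNat 0, .ofNat 0, .ofNat 0, .ofNat 0, .ofNat 0, .ofNat 0, .ofNat 0, .ofNat 0, .ofNat 0, .ofNat 0, .ofNat 0, .ofNat 0, .ofNat 0, .ofNat 0, .ofNat 0, .ofNat 0, .ofNat 0, .ofNat 0, .ofNat 0, .ofNat 0, .ofNat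 0, .ofNat 0, .ofNat 0, .ofNat 0, .ofNat 0, .ofNat 0, .ofNat 0, .ofNat 0, .ofNat 0, .ofNat 0, .ofNat 0, .ofNat 0, .ofNat 0, .ofNat 0, .ofNat 0, .ofNat 0, .ofNat 0, .ofNat 0, .ofNat 0, .ofNat 0, .ofNat 0, .ofNat 1, .ofNat 0, .ofNat 1, .ofNat 1]]
  j0 := 2
  mu := [.ofNat 0, .ofNat 0, .ofNat 1, .ofNat 0, .ofNat 1, .ofNat 1, .ofNat 0, .ofNat 0, .ofNat 0, .ofNat 0, .ofNat 0, .ofNat 0, .ofNat 0, .ofNat 1, .ofNat 1, .ofNat 0, .ofNat 0, .ofNat 0, .ofNat 0, .ofNat 1, .ofNat 0, .ofNat 0, .ofNat 0, .ofNat 0, .ofNat 0, .ofNat 0, .ofNat 0, .ofNat 0, .ofNat 0, .ofNat 0, .ofNat 0, .ofNat 1, .ofNat 0, .ofNat 1, .ofNat 0, .ofNat 0, .ofNat 0, .ofNat 0, .ofNat 0, .ofNat 1, .ofNat 0, .ofNat 0, .ofNat 1, .ofNat 0, .ofNat 0, .ofNat 0, .ofNat 0, .ofNat 0, .ofNat 0, .ofNat 0, .ofNat 0, .ofNat 0, .ofNat 1, .ofNat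 0, .ofNat 1, .ofNat 0, .ofNat 0, .ofNat 0, .ofNat 0, .ofNat 0, .ofNat 0, .ofNat 0, .ofNat 0, .ofNat 0, .ofNat 0, .ofNat 1, .ofNat 1, .ofNat 1, .ofNat 0, .ofNat 1, .ofNat 0, .ofNat 0, .ofNat 0, .ofNat 0, .ofNat 0, .ofNat 0, .ofNat 0, .ofNat 0, .ofNat 1, .ofNat 1, .ofNat 0, .ofNat 0, .ofNat 0, .ofNat 0, .ofNat 0, .ofNat 0, .ofNat 0, .ofNat 0, .ofNat 0, .ofNat 0, .ofNat 0, .ofNat 1, .ofNat 0, .ofNat 0, .ofNat 0, .ofNat 0, .ofNat 0, .ofNat 0, .ofNat 0, .ofNat 0, .ofNat 0, .ofNat 0, .ofNat 0, .ofNat 0, .ofNat 0, .ofNat 0, .ofNat 0, .ofNat 0, .ofNat 0, .ofNat 0, .ofNat 0, .ofNat 0, .ofNat 0, .ofNat 0, .ofNat 0, .ofNat 0, .ofNat 0, .ofNat 0, .ofNat 0, .ofNat 0, .ofNat 0, .ofNat 0, .ofNat 0, .ofNat 0, .ofNat 0, .ofNat 0, .ofNat 0, .ofNat 0, .ofNat 0, .ofNat 0, .ofNat 0, .ofNat 0, .ofNat 0, .ofNat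 0, .ofNat 0, .ofNat 0, .ofNat 0, .ofNat 0, .ofNat 0, .ofNat 0, .ofNat 0, .ofNat 0, .ofNat 0, .ofNat 0]
  y1 := [[(3, .ofNat 2), (7, .ofNat 3), (8, .ofNat 2), (9, .ofNat 2), (11, .ofNat 1), (12, .ofNat 3), (13, .ofNat 1), (14, .ofNat 3), (15, .ofNat 3), (16, .ofNat 2), (17, .ofNat 1), (18, .ofNat 1), (21, .ofNat 3), (22, .ofNat 2), (24, .ofNat 3), (25, .ofNat 3), (27, .ofNat 1), (28, .ofNat 1), (30, .ofNat 1), (32, .ofNat 2), (33, .ofNat 2), (34, .ofNat 1), (35, .ofNat 3), (36, .ofNat 1), (39, .ofNat 2), (40, .ofNat 1), (41, .ofNat 3), (44, .ofNat 3), (45, .ofNat 1), (46, .ofNat 1), (47, .ofNat 2), (48, .ofNat 2), (50, .ofNat 3), (51, .ofNat 3), (52, .ofNat 2), (53, .ofNat 1), (55, .ofNat 3), (57, .ofNat 2), (58, .ofNat 1), (59, .ofNat 3), (60, .ofNat 1), (62, .ofNat 3), (63, .ofNat 3), (65,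 .ofNat 1), (66, .ofNat 1), (67, .ofNat 1), (69, .ofNat 2), (70, .ofNat 1), (74, .ofNat 1), (75, .ofNat 3)],
    [],
    [],
    [],
    [(0, .ofNat 2), (1, .ofNat 1), (2, .ofNat 1), (5, .ofNat 3), (7, .ofNat 1), (9, .ofNat 1), (12, .ofNat 1), (13, .ofNat 2), (14, .ofNat 1), (16, .ofNat 1), (17, .ofNat 1), (18, .ofNat 3), (20, .ofNat 1), (21, .ofNat 2), (23, .ofNat 1), (24, .ofNat 2), (25, .ofNat 2), (27, .ofNat 2), (28, .ofNat 1), (29, .ofNat 1), (30, .ofNat 1), (32, .ofNat 2), (33, .ofNat 1), (34, .ofNat 1), (35, .ofNat 3), (37, .ofNat 2), (39, .ofNat 1), (40, .ofNat 1), (41, .ofNat 2), (42, .ofNat 2), (43, .ofNat 2), (44, .ofNat 2), (45, .ofNat 1), (46, .ofNat 2), (48, .ofNat 2), (50, .ofNat 2), (51, .ofNat 2), (53, .ofNat 2), (54, .ofNat 1), (55, .ofNat 2), (57, .ofNat 3), (58, .ofNat 2),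 (60, .ofNat 1), (61, .ofNat 2), (62, .ofNat 2), (63, .ofNat 2), (65, .ofNat 2), (66, .ofNat 3), (67, .ofNat 1), (68, .ofNat 3)],
    [(0, .ofNat 3), (1, .ofNat 3), (3, .ofNat 1), (4, .ofNat 2), (5, .ofNat 1), (7, .ofNat 2), (8, .ofNat 3), (10, .ofNat 2), (11, .ofNat 1), (12, .ofNat 2), (13, .ofNat 3), (14, .ofNat 2), (15, .ofNat 2), (16, .ofNat 2), (17, .ofNat 2), (20, .ofNat 2), (21, .ofNat 3), (22, .ofNat 2), (25, .ofNat 1), (26, .ofNat 1), (28, .ofNat 3), (29, .ofNat 2), (30, .ofNat 2), (32, .ofNat 3), (33, .ofNat 2), (35, .ofNat 2), (36, .ofNat 2), (37, .ofNat 2), (38, .ofNat 1), (39, .ofNat 3), (40, .ofNat 1), (41, .ofNat 2), (42, .ofNat 2), (43, .ofNat 3), (44, .ofNat 2), (46, .ofNat 2), (47, .ofNat 1), (48, .ofNat 2), (50, .ofNat 2), (51, .ofNat 2), (52, .ofNat 2), (53, .ofNat 1), (54,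 .ofNat 3), (55, .ofNat 2), (56, .ofNat 1), (58, .ofNat 2), (59, .ofNat 3), (60, .ofNat 2), (61, .ofNat 3), (62, .ofNat 2), (63, .ofNat 3), (64, .ofNat 1), (65, .ofNat 1), (66, .ofNat 1), (68, .ofNat 1), (69, .ofNat 2), (70, .ofNat 3), (71, .ofNat 3), (73, .ofNat 2), (74, .ofNat 1)],
    [(0, .ofNat 2), (1, .ofNat 1), (2, .ofNat 2), (3, .ofNat 2), (4, .ofNat 2), (6, .ofNat 2), (7, .ofNat 3), (9, .ofNat 1), (10, .ofNat 2), (12, .ofNat 3), (15, .ofNat 2), (16, .ofNat 2), (17, .ofNat 3), (19, .ofNat 2), (21, .ofNat 1), (22, .ofNat 2), (23, .ofNat 1), (24, .ofNat 2), (25, .ofNat 2), (28, .ofNat 3), (29, .ofNat 3), (30, .ofNat 2), (31, .ofNat 1), (32, .ofNat 1), (33, .ofNat 3), (35, .ofNat 1), (36, .ofNat 2), (37, .ofNat 3), (38, .ofNat 3), (40, .ofNat 3), (41, .ofNat 1), (42, .ofNat 2), (43, .ofNat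 3), (44, .ofNat 1), (47, .ofNat 3), (48, .ofNat 1), (50, .ofNat 1), (51, .ofNat 1), (53, .ofNat 3), (55, .ofNat 2), (56, .ofNat 2), (57, .ofNat 2), (59, .ofNat 1), (60, .ofNat 2), (61, .ofNat 3), (62, .ofNat 2), (64, .ofNat 2), (66, .ofNat 1), (67, .ofNat 2), (68, .ofNat 2), (69, .ofNat 2), (70, .ofNat 2), (71, .ofNat 3), (72, .ofNat 3), (73, .ofNat 3), (74, .ofNat 1)],
    [(0, .ofNat 2), (1, .ofNat 1), (3, .ofNat 2), (4, .ofNat 2), (5, .ofNat 1), (6, .ofNat 3), (8, .ofNat 1), (9, .ofNat 3), (11, .ofNat 3), (13, .ofNat 2), (14, .ofNat 1), (15, .ofNat 1), (18, .ofNat 1), (19, .ofNat 3), (20, .ofNat 3), (21, .ofNat 1), (23, .ofNat 1), (24, .ofNat 1), (25, .ofNat 1), (26, .ofNat 3), (29, .ofNat 1), (30, .ofNat 1), (31, .ofNat 1), (36, .ofNat 1), (38, .ofNat 3), (39, .ofNat 1), (41, .ofNat 3),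 (42, .ofNat 2), (43, .ofNat 1), (44, .ofNat 3), (45, .ofNat 3), (46, .ofNat 3), (47, .ofNat 3), (48, .ofNat 2), (50, .ofNat 3), (51, .ofNat 1), (52, .ofNat 3), (54, .ofNat 3), (55, .ofNat 2), (58, .ofNat 1), (59, .ofNat 2), (60, .ofNat 1), (61, .ofNat 2), (62, .ofNat 1), (63, .ofNat 1), (64, .ofNat 1), (65, .ofNat 2), (66, .ofNat 3), (67, .ofNat 2), (68, .ofNat 3), (70, .ofNat 1), (73, .ofNat 3), (74, .ofNat 1), (75, .ofNat 3)],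
    [(0, .ofNat 2), (1, .ofNat 2), (2, .ofNat 2), (4, .ofNat 2), (5, .ofNat 1), (6, .ofNat 2), (7, .ofNat 3), (9, .ofNat 3), (10, .ofNat 1), (11, .ofNat 3), (12, .ofNat 1), (13, .ofNat 2), (16, .ofNat 2), (17, .ofNat 2), (18, .ofNat 2), (19, .ofNat 2), (22, .ofNat 3), (23, .ofNat 1), (24, .ofNat 1), (25, .ofNat 3), (26, .ofNat 3), (27, .ofNat 1), (28, .ofNat 3), (29, .ofNat 1), (30, .ofNat 2), (31, .ofNat 2), (34, .ofNat 2), (36, .ofNat 2), (37, .ofNat 3), (38, .ofNat 3), (39, .ofNat 2), (40, .ofNat 1), (44, .ofNat 2), (46, .ofNat 1), (47, .ofNat 3), (48, .ofNat 3), (50, .ofNat 2), (52, .ofNat 1), (53, .ofNat 2), (54, .ofNat 3), (55, .ofNat 1), (56, .ofNat 2), (57, .ofNat 2), (58, .ofNat 3), (59, .ofNat 2), (60, .ofNat 3), (62, .ofNat 3), (63, .ofNat 1), (65, .ofNat 3), (66, .ofNat 1), (67,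 .ofNat 2), (68, .ofNat 1), (69, .ofNat 2), (70, .ofNat 3), (73, .ofNat 1), (75, .ofNat 3)],
    [(0, .ofNat 3), (2, .ofNat 1), (4, .ofNat 1), (5, .ofNat 1), (7, .ofNat 2), (8, .ofNat 3), (9, .ofNat 2), (10, .ofNat 2), (11, .ofNat 2), (12, .ofNat 2), (13, .ofNat 2), (15, .ofNat 1), (17, .ofNat 2), (18, .ofNat 2), (19, .ofNat 2), (20, .ofNat 2), (21, .ofNat 1), (22, .ofNat 3), (25, .ofNat 3), (26, .ofNat 3), (27, .ofNat 2), (28, .ofNat 2), (29, .ofNat 3), (30, .ofNat 1), (31, .ofNat 3), (32, .ofNat 2), (34, .ofNat 3), (35, .ofNat 1), (36, .ofNat 3), (37, .ofNat 2), (39, .ofNat 1), (40, .ofNat 1), (41, .ofNat 3), (43, .ofNat 2), (44, .ofNat 2), (45, .ofNat 2), (46, .ofNat 3), (47, .ofNat 3), (48, .ofNat 1), (50, .ofNat 3), (51, .ofNat 3), (52, .ofNat 3), (53, .ofNat 1), (54, .ofNat 3), (55, .ofNat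 1), (58, .ofNat 3), (59, .ofNat 1), (60, .ofNat 3), (61, .ofNat 1), (62, .ofNat 3), (63, .ofNat 2), (65, .ofNat 1), (67, .ofNat 2), (68, .ofNat 2), (69, .ofNat 2), (70, .ofNat 2), (71, .ofNat 3), (72, .ofNat 3), (73, .ofNat 3), (74, .ofNat 1)],
    [(3, .ofNat 3), (5, .ofNat 1), (6, .ofNat 1), (9, .ofNat 3), (10, .ofNat 3), (12, .ofNat 1), (13, .ofNat 2), (14, .ofNat 2), (16, .ofNat 1), (17, .ofNat 3), (18, .ofNat 2), (21, .ofNat 1), (22, .ofNat 1), (23, .ofNat 3), (33, .ofNat 2), (35, .ofNat 2), (36, .ofNat 2), (37, .ofNat 2), (39, .ofNat 1), (40, .ofNat 1), (41, .ofNat 1), (42, .ofNat 3), (45, .ofNat 2), (46, .ofNat 2), (47, .ofNat 1), (48, .ofNat 1)],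
    [(3, .ofNat 3), (5, .ofNat 1), (6, .ofNat 1), (7, .ofNat 2), (9, .ofNat 1), (10, .ofNat 3), (11, .ofNat 2), (12, .ofNat 1), (14, .ofNat 2), (16, .ofNat 1), (17, .ofNat 1), (18, .ofNat 1), (19, .ofNat 2), (22, .ofNat 2), (33, .ofNat 2), (35, .ofNat 2), (36, .ofNat 2), (37, .ofNat 2), (39, .ofNat 1), (40, .ofNat 1), (41, .ofNat 1), (42, .ofNat 3), (45, .ofNat 2), (46, .ofNat 2), (47, .ofNat 1), (48, .ofNat 1)],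
    [],
    [(0, .ofNat 1), (1, .ofNat 3), (2, .ofNat 2), (5, .ofNat 3), (6, .ofNat 2), (7, .ofNat 3), (8, .ofNat 3), (9, .ofNat 2), (10, .ofNat 1), (11, .ofNat 2), (12, .ofNat 2), (13, .ofNat 1), (15, .ofNat 2), (16, .ofNat 3), (17, .ofNat 1), (19, .ofNat 3), (20, .ofNat 1), (21, .ofNat 1), (22, .ofNat 2), (23, .ofNat 1), (24, .ofNat 2), (25, .ofNat 1), (27, .ofNat 3), (30, .ofNat 3), (32, .ofNat 1), (33, .ofNat 1), (34, .ofNat 1), (35, .ofNat 1), (37, .ofNat 3), (38, .ofNat 3), (39, .ofNat 3), (42, .ofNat 2), (43, .ofNat 2), (44, .ofNat 3), (45, .ofNat 1), (46, .ofNat 2), (48, .ofNat 2), (50, .ofNat 1), (51, .ofNat 1), (52, .ofNat 1), (53, .ofNat 3), (54, .ofNat 2), (55, .ofNat 1), (56, .ofNat 3), (57, .ofNat 3), (58, .ofNat 3), (59, .ofNat 3), (60, .ofNat 1), (63, .ofNat 1), (64, .ofNat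 1), (65, .ofNat 1), (66, .ofNat 3), (68, .ofNat 1), (70, .ofNat 3), (71, .ofNat 2), (72, .ofNat 1), (73, .ofNat 2), (74, .ofNat 1)],
    [(0, .ofNat 2), (1, .ofNat 2), (2, .ofNat 1), (3, .ofNat 3), (5, .ofNat 3), (6, .ofNat 1), (7, .ofNat 2), (8, .ofNat 2), (11, .ofNat 1), (12, .ofNat 1), (13, .ofNat 2), (14, .ofNat 1), (16, .ofNat 3), (17, .ofNat 2), (18, .ofNat 3), (19, .ofNat 3), (20, .ofNat 3), (23, .ofNat 2), (24, .ofNat 1), (25, .ofNat 3), (26, .ofNat 3), (27, .ofNat 1), (28, .ofNat 1), (29, .ofNat 3), (30, .ofNat 1), (31, .ofNat 1), (33, .ofNat 1), (35, .ofNat 1), (36, .ofNat 1), (37, .ofNat 1), (40, .ofNat 1), (41, .ofNat 1), (42, .ofNat 2), (45, .ofNat 3), (46, .ofNat 3), (47, .ofNat 2), (48, .ofNat 1), (50, .ofNat 1), (51, .ofNat 2), (52, .ofNat 3), (54, .ofNat 3), (55, .ofNat 1),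 (57, .ofNat 3), (58, .ofNat 1), (59, .ofNat 1), (60, .ofNat 1), (63, .ofNat 1), (64, .ofNat 1), (65, .ofNat 3), (66, .ofNat 1), (67, .ofNat 2), (68, .ofNat 1), (69, .ofNat 2), (70, .ofNat 3), (73, .ofNat 1), (75, .ofNat 3)],
    [(0, .ofNat 3), (2, .ofNat 1), (3, .ofNat 2), (4, .ofNat 2), (5, .ofNat 3), (6, .ofNat 2), (7, .ofNat 3), (8, .ofNat 1), (9, .ofNat 1), (10, .ofNat 3), (11, .ofNat 1), (13, .ofNat 1), (14, .ofNat 3), (15, .ofNat 3), (16, .ofNat 1), (19, .ofNat 3), (20, .ofNat 3), (21, .ofNat 1), (22, .ofNat 1), (23, .ofNat 3), (26, .ofNat 3), (28, .ofNat 3), (30, .ofNat 3), (34, .ofNat 1), (36, .ofNat 3), (37, .ofNat 1), (38, .ofNat 3), (40, .ofNat 1), (41, .ofNat 3), (43, .ofNat 1), (44, .ofNat 2), (45, .ofNat 2), (46, .ofNat 2), (47, .ofNat 1), (48, .ofNat 1), (50, .ofNat 3), (51,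 .ofNat 2), (52, .ofNat 1), (53, .ofNat 1), (54, .ofNat 2), (55, .ofNat 2), (56, .ofNat 1), (57, .ofNat 2), (58, .ofNat 2), (59, .ofNat 2), (60, .ofNat 2), (61, .ofNat 3), (62, .ofNat 1), (63, .ofNat 1), (64, .ofNat 3), (65, .ofNat 3), (66, .ofNat 1), (69, .ofNat 1), (70, .ofNat 3), (71, .ofNat 2), (72, .ofNat 1), (73, .ofNat 1), (75, .ofNat 3)],
    [(1, .ofNat 1), (3, .ofNat 1), (4, .ofNat 3), (5, .ofNat 1), (6, .ofNat 2), (8, .ofNat 3), (9, .ofNat 1), (10, .ofNat 3), (11, .ofNat 1), (13, .ofNat 2), (14, .ofNat 2), (16, .ofNat 2), (17, .ofNat 1), (18, .ofNat 3), (19, .ofNat 2), (21, .ofNat 2), (22, .ofNat 1), (23, .ofNat 2), (24, .ofNat 3), (25, .ofNat 1), (28, .ofNat 1), (30, .ofNat 2), (31, .ofNat 1), (32, .ofNat 2), (33, .ofNat 3), (34, .ofNat 3), (37, .ofNat 2), (38, .ofNat 3), (39, .ofNat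 3), (41, .ofNat 2), (44, .ofNat 2), (45, .ofNat 1), (46, .ofNat 1), (47, .ofNat 1), (48, .ofNat 2), (50, .ofNat 2), (51, .ofNat 3), (53, .ofNat 3), (55, .ofNat 2), (56, .ofNat 3), (57, .ofNat 2), (59, .ofNat 1), (60, .ofNat 1), (62, .ofNat 1), (65, .ofNat 3), (66, .ofNat 3), (67, .ofNat 3), (68, .ofNat 3), (70, .ofNat 2), (71, .ofNat 3), (73, .ofNat 3), (74, .ofNat 1), (75, .ofNat 3)],
    [],
    [(0, .ofNat 3), (1, .ofNat 3), (2, .ofNat 3), (3, .ofNat 3), (6, .ofNat 3), (9, .ofNat 2), (11, .ofNat 2), (12, .ofNat 3), (14, .ofNat 1), (15, .ofNat 1), (17, .ofNat 3), (18, .ofNat 1), (19, .ofNat 3), (20, .ofNat 2), (21, .ofNat 2), (22, .ofNat 1), (23, .ofNat 1), (26, .ofNat 2), (27, .ofNat 2), (28, .ofNat 1), (29, .ofNat 3), (30, .ofNat 3), (31, .ofNat 2), (32, .ofNat 1), (33, .ofNat 2), (37,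 .ofNat 1), (38, .ofNat 1), (41, .ofNat 3), (42, .ofNat 2), (44, .ofNat 2), (45, .ofNat 2), (46, .ofNat 3), (47, .ofNat 1), (48, .ofNat 1), (50, .ofNat 2), (52, .ofNat 3), (53, .ofNat 3), (54, .ofNat 3), (55, .ofNat 3), (56, .ofNat 2), (57, .ofNat 2), (58, .ofNat 2), (60, .ofNat 2), (61, .ofNat 3), (62, .ofNat 1), (63, .ofNat 3), (64, .ofNat 3), (65, .ofNat 1), (66, .ofNat 3)],
    [(0, .ofNat 1), (1, .ofNat 2), (2, .ofNat 2), (3, .ofNat 2), (4, .ofNat 3), (5, .ofNat 3), (6, .ofNat 2), (7, .ofNat 3), (8, .ofNat 1), (9, .ofNat 2), (10, .ofNat 1), (11, .ofNat 3), (12, .ofNat 2), (13, .ofNat 3), (14, .ofNat 2), (15, .ofNat 1), (16, .ofNat 1), (17, .ofNat 3), (18, .ofNat 1), (19, .ofNat 1), (20, .ofNat 2), (21, .ofNat 1), (22, .ofNat 3), (24, .ofNat 2), (26, .ofNat 2), (27, .ofNat 1), (28, .ofNat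 2), (29, .ofNat 3), (31, .ofNat 2), (32, .ofNat 3), (36, .ofNat 1), (38, .ofNat 1), (39, .ofNat 3), (41, .ofNat 2), (42, .ofNat 3), (43, .ofNat 2), (44, .ofNat 1), (45, .ofNat 2), (48, .ofNat 2), (51, .ofNat 3), (54, .ofNat 3), (55, .ofNat 1), (56, .ofNat 3), (57, .ofNat 3), (58, .ofNat 1), (59, .ofNat 3), (62, .ofNat 2), (63, .ofNat 3), (64, .ofNat 2), (65, .ofNat 1), (67, .ofNat 3), (68, .ofNat 3), (70, .ofNat 1), (71, .ofNat 3)],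
    [(0, .ofNat 1), (1, .ofNat 3), (2, .ofNat 1), (3, .ofNat 3), (6, .ofNat 1), (7, .ofNat 1), (8, .ofNat 1), (9, .ofNat 3), (11, .ofNat 2), (12, .ofNat 3), (13, .ofNat 1), (15, .ofNat 2), (16, .ofNat 1), (18, .ofNat 3), (20, .ofNat 1), (21, .ofNat 2), (22, .ofNat 3), (24, .ofNat 2), (25, .ofNat 2), (31, .ofNat 1), (32, .ofNat 3), (33, .ofNat 2), (34, .ofNat 3), (35, .ofNat 1), (36, .ofNat 2), (37, .ofNat 1), (38, .ofNat 1), (39, .ofNat 2), (40, .ofNat 1), (42, .ofNat 2), (43, .ofNat 3), (47, .ofNat 3), (48, .ofNat 2), (50, .ofNat 3), (51, .ofNat 1), (53, .ofNat 1), (55, .ofNat 1)],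
    [(0, .ofNat 3), (1, .ofNat 3), (2, .ofNat 3), (5, .ofNat 1), (8, .ofNat 2), (9, .ofNat 2), (10, .ofNat 2), (11, .ofNat 1), (12, .ofNat 2), (14, .ofNat 1), (16, .ofNat 1), (17, .ofNat 1), (18, .ofNat 1), (19, .ofNat 2), (22, .ofNat 1), (23, .ofNat 1), (24, .ofNat 2), (25, .ofNat 2), (26, .ofNat 2), (27, .ofNat 2), (28, .ofNat 2), (30, .ofNat 2), (31, .ofNat 1), (32, .ofNat 3), (33, .ofNat 2), (34, .ofNat 2), (35, .ofNat 2), (37, .ofNat 1), (38, .ofNat 1), (39, .ofNat 3), (40, .ofNat 3), (41, .ofNat 1), (42, .ofNat 3), (44, .ofNat 1), (45, .ofNat 3), (47, .ofNat 2), (48, .ofNat 3), (51, .ofNat 2), (53, .ofNat 1), (55, .ofNat 1)],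
    [(1, .ofNat 2), (2, .ofNat 2), (3, .ofNat 3), (5, .ofNat 3), (6, .ofNat 1), (7, .ofNat 1), (8, .ofNat 2), (10, .ofNat 1), (14, .ofNat 3), (15, .ofNat 2), (16, .ofNat 3), (19, .ofNat 1), (20, .ofNat 1), (21, .ofNat 2), (22, .ofNat 3), (24, .ofNat 2), (25, .ofNat 2), (26, .ofNat 2), (30, .ofNat 2), (32, .ofNat 1), (33, .ofNat 2), (35, .ofNat 3), (36, .ofNat 3), (38, .ofNat 3), (40, .ofNat 2), (41, .ofNat 3), (44, .ofNat 3), (45, .ofNat 2), (46, .ofNat 1), (48, .ofNat 1)],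
    [(1, .ofNat 2), (2, .ofNat 2), (3, .ofNat 1), (5, .ofNat 1), (6, .ofNat 3), (7, .ofNat 1), (8, .ofNat 2), (9, .ofNat 2), (11, .ofNat 1), (13, .ofNat 2), (14, .ofNat 3), (15, .ofNat 2), (16, .ofNat 2), (17, .ofNat 1), (18, .ofNat 3), (19, .ofNat 1), (20, .ofNat 1), (21, .ofNat 2), (22, .ofNat 3), (23, .ofNat 2), (24, .ofNat 2), (25, .ofNat 2), (26, .ofNat 2), (30, .ofNat 2), (32, .ofNat 1), (33, .ofNat 2), (35, .ofNat 3), (36, .ofNat 1), (37, .ofNat 2), (38, .ofNat 3), (39, .ofNat 3), (40, .ofNat 1), (41, .ofNat 2), (44, .ofNat 1), (45, .ofNat 3), (46, .ofNat 3), (47, .ofNat 3)],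
    [],
    [],
    [(1, .ofNat 3), (2, .ofNat 2), (3, .ofNat 1), (4, .ofNat 1), (6, .ofNat 1), (7, .ofNat 3), (10, .ofNat 1), (11, .ofNat 3), (12, .ofNat 1), (13, .ofNat 2), (14, .ofNat 1), (15, .ofNat 1), (16, .ofNat 1), (17, .ofNat 2), (18, .ofNat 1), (19, .ofNat 2), (22, .ofNat 1), (23, .ofNat 2), (24, .ofNat 1), (26, .ofNat 1), (27, .ofNat 3), (29, .ofNat 1), (30, .ofNat 2), (32, .ofNat 1), (33, .ofNat 1), (35, .ofNat 3), (36, .ofNat 2), (38, .ofNat 1), (39, .ofNat 3), (40, .ofNat 2), (41, .ofNat 3), (42, .ofNat 2), (43, .ofNat 1), (44, .ofNat 1), (47, .ofNat 3), (48, .ofNat 1), (50, .ofNat 3), (53, .ofNat 3), (54, .ofNat 3), (55, .ofNat 3), (56, .ofNat 2), (57, .ofNat 3), (58, .ofNat 2), (59, .ofNat 2), (60, .ofNat 2), (61, .ofNat 1), (63, .ofNat 3), (66, .ofNat 3), (68, .ofNat 3), (70,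 .ofNat 1), (71, .ofNat 3), (72, .ofNat 3), (74, .ofNat 1), (75, .ofNat 3)],
    [(0, .ofNat 1), (1, .ofNat 2), (2, .ofNat 3), (3, .ofNat 2), (4, .ofNat 1), (7, .ofNat 2), (8, .ofNat 3), (9, .ofNat 3), (10, .ofNat 2), (11, .ofNat 2), (12, .ofNat 1), (13, .ofNat 3), (14, .ofNat 1), (15, .ofNat 1), (16, .ofNat 2), (17, .ofNat 1), (18, .ofNat 1), (19, .ofNat 2), (20, .ofNat 2), (21, .ofNat 3), (22, .ofNat 3), (23, .ofNat 3), (24, .ofNat 1), (25, .ofNat 3), (28, .ofNat 1), (29, .ofNat 2), (30, .ofNat 2), (31, .ofNat 2), (32, .ofNat 1), (34, .ofNat 3), (35, .ofNat 1), (36, .ofNat 3), (37, .ofNat 3), (38, .ofNat 3), (39, .ofNat 1), (40, .ofNat 2), (41, .ofNat 3), (42, .ofNat 2), (43, .ofNat 3), (44, .ofNat 3), (45, .ofNat 3), (46, .ofNat 3), (47, .ofNat 1), (48, .ofNat 2), (50, .ofNat 2), (51, .ofNat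 2), (52, .ofNat 3), (53, .ofNat 2), (54, .ofNat 3), (55, .ofNat 3), (57, .ofNat 1), (58, .ofNat 3), (60, .ofNat 3), (61, .ofNat 2), (62, .ofNat 3), (63, .ofNat 1), (65, .ofNat 3), (66, .ofNat 1), (67, .ofNat 2), (68, .ofNat 1), (69, .ofNat 2), (70, .ofNat 3), (71, .ofNat 2), (72, .ofNat 3), (73, .ofNat 3), (74, .ofNat 1)],
    [(0, .ofNat 2), (1, .ofNat 3), (2, .ofNat 2), (3, .ofNat 1), (4, .ofNat 3), (5, .ofNat 2), (7, .ofNat 3), (8, .ofNat 3), (10, .ofNat 2), (11, .ofNat 3), (14, .ofNat 2), (15, .ofNat 3), (16, .ofNat 2), (18, .ofNat 1), (19, .ofNat 2), (20, .ofNat 2), (21, .ofNat 3), (22, .ofNat 3), (23, .ofNat 2), (24, .ofNat 3), (26, .ofNat 2), (27, .ofNat 2), (28, .ofNat 3), (31, .ofNat 2), (33, .ofNat 3), (34, .ofNat 1), (36, .ofNat 1), (38, .ofNat 3), (39, .ofNat 3), (42, .ofNat 1),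 (43, .ofNat 1), (45, .ofNat 3), (46, .ofNat 3), (47, .ofNat 1), (50, .ofNat 3), (51, .ofNat 1), (52, .ofNat 1), (53, .ofNat 1), (55, .ofNat 3), (57, .ofNat 3), (58, .ofNat 2), (59, .ofNat 3), (60, .ofNat 2), (61, .ofNat 1), (62, .ofNat 2), (63, .ofNat 3), (64, .ofNat 3), (65, .ofNat 3), (66, .ofNat 3), (68, .ofNat 3), (70, .ofNat 1), (71, .ofNat 3), (72, .ofNat 3), (74, .ofNat 1), (75, .ofNat 3)],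
    [(1, .ofNat 2), (2, .ofNat 2), (3, .ofNat 1), (4, .ofNat 1), (5, .ofNat 1), (6, .ofNat 3), (7, .ofNat 2), (8, .ofNat 3), (9, .ofNat 2), (10, .ofNat 1), (11, .ofNat 1), (12, .ofNat 1), (13, .ofNat 1), (16, .ofNat 3), (17, .ofNat 1), (18, .ofNat 3), (22, .ofNat 3), (23, .ofNat 1), (24, .ofNat 2), (25, .ofNat 1), (27, .ofNat 3), (28, .ofNat 1), (29, .ofNat 2), (30, .ofNat 3), (31, .ofNat 2), (32, .ofNat 2), (33, .ofNat 2), (36, .ofNat 1), (37, .ofNat 1), (40, .ofNat 2), (42, .ofNat 3), (43, .ofNat 1), (44, .ofNat 2), (46, .ofNat 1), (50, .ofNat 2), (51, .ofNat 2), (52, .ofNat 1), (54, .ofNat 1), (55, .ofNat 3), (56, .ofNat 2), (57, .ofNat 1), (58, .ofNat 3), (60, .ofNat 1), (61, .ofNat 1), (62, .ofNat 2), (63, .ofNat 1), (65, .ofNat 3)],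
    [(0, .ofNat 2), (1, .ofNat 1), (3, .ofNat 3), (4, .ofNat 1), (5, .ofNat 3), (6, .ofNat 2), (7, .ofNat 3), (8, .ofNat 2), (9, .ofNat 2), (10, .ofNat 3), (12, .ofNat 1), (13, .ofNat 2), (14, .ofNat 1), (15, .ofNat 2), (16, .ofNat 3), (17, .ofNat 1), (20, .ofNat 3), (21, .ofNat 3), (22, .ofNat 1), (23, .ofNat 3), (24, .ofNat 3), (25, .ofNat 2), (26, .ofNat 3), (27, .ofNat 1), (28, .ofNat 3), (31, .ofNat 2), (32, .ofNat 1), (33, .ofNat 2), (34, .ofNat 2), (36, .ofNat 2), (37, .ofNat 2), (39, .ofNat 3), (40, .ofNat 2), (43, .ofNat 1), (44, .ofNat 3), (45, .ofNat 2), (46, .ofNat 1), (47, .ofNat 2), (50, .ofNat 2), (52, .ofNat 3), (53, .ofNat 3), (54, .ofNat 2), (55, .ofNat 1), (59, .ofNat 3), (62, .ofNat 3), (63, .ofNat 2), (64, .ofNat 3), (65, .ofNat 1), (66, .ofNat 2), (68, .ofNat 3), (70,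 .ofNat 1), (71, .ofNat 3), (72, .ofNat 3), (74, .ofNat 1), (75, .ofNat 3)],
    [(1, .ofNat 2), (2, .ofNat 1), (3, .ofNat 2), (4, .ofNat 3), (7, .ofNat 1), (8, .ofNat 3), (10, .ofNat 1), (11, .ofNat 2), (12, .ofNat 1), (13, .ofNat 2), (14, .ofNat 2), (15, .ofNat 3), (16, .ofNat 1), (17, .ofNat 3), (18, .ofNat 1), (19, .ofNat 1), (20, .ofNat 1), (22, .ofNat 3), (23, .ofNat 1), (24, .ofNat 3), (25, .ofNat 3), (26, .ofNat 3), (27, .ofNat 2), (28, .ofNat 1), (29, .ofNat 1), (30, .ofNat 1), (33, .ofNat 1), (35, .ofNat 1), (36, .ofNat 1), (38, .ofNat 2), (39, .ofNat 3), (41, .ofNat 2), (42, .ofNat 3), (43, .ofNat 1), (44, .ofNat 1), (45, .ofNat 1), (46, .ofNat 1), (48, .ofNat 1), (51, .ofNat 1), (52, .ofNat 1), (53, .ofNat 1), (54, .ofNat 1), (55, .ofNat 1), (56, .ofNat 1), (57, .ofNat 2), (58,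 .ofNat 2), (59, .ofNat 1), (60, .ofNat 1), (61, .ofNat 2), (62, .ofNat 3), (66, .ofNat 3), (67, .ofNat 1), (68, .ofNat 2), (70, .ofNat 2), (71, .ofNat 3), (73, .ofNat 3), (74, .ofNat 1), (75, .ofNat 3)],
    [(0, .ofNat 3), (1, .ofNat 2), (2, .ofNat 1), (3, .ofNat 3), (4, .ofNat 1), (5, .ofNat 2), (6, .ofNat 3), (7, .ofNat 2), (8, .ofNat 1), (9, .ofNat 2), (10, .ofNat 2), (12, .ofNat 1), (13, .ofNat 1), (14, .ofNat 1), (15, .ofNat 3), (18, .ofNat 1), (19, .ofNat 1), (20, .ofNat 2), (21, .ofNat 2), (22, .ofNat 3), (23, .ofNat 3), (24, .ofNat 1), (26, .ofNat 1), (27, .ofNat 3), (28, .ofNat 2), (29, .ofNat 1), (30, .ofNat 1), (31, .ofNat 3), (32, .ofNat 3), (33, .ofNat 2), (34, .ofNat 2), (35, .ofNat 3), (36, .ofNat 1), (37, .ofNat 3), (41, .ofNat 2), (42, .ofNat 1), (43, .ofNat 1), (44, .ofNat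 3), (45, .ofNat 3), (47, .ofNat 3), (50, .ofNat 1), (51, .ofNat 3), (53, .ofNat 3), (54, .ofNat 3), (55, .ofNat 1), (56, .ofNat 2), (57, .ofNat 2), (58, .ofNat 2), (59, .ofNat 3), (60, .ofNat 2), (61, .ofNat 1), (63, .ofNat 3), (66, .ofNat 3), (68, .ofNat 3), (70, .ofNat 1), (71, .ofNat 3), (72, .ofNat 3), (74, .ofNat 1), (75, .ofNat 3)],
    [(0, .ofNat 2), (1, .ofNat 1), (2, .ofNat 1), (3, .ofNat 2), (4, .ofNat 1), (5, .ofNat 1), (6, .ofNat 1), (7, .ofNat 2), (8, .ofNat 1), (10, .ofNat 1), (11, .ofNat 3), (12, .ofNat 2), (13, .ofNat 1), (15, .ofNat 2), (16, .ofNat 1), (17, .ofNat 1), (18, .ofNat 1), (20, .ofNat 3), (22, .ofNat 1), (24, .ofNat 2), (25, .ofNat 2), (26, .ofNat 2), (27, .ofNat 1), (29, .ofNat 1), (30, .ofNat 1), (31, .ofNat 1), (34, .ofNat 2), (35, .ofNat 3), (37, .ofNat 3),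 (38, .ofNat 1), (39, .ofNat 3), (40, .ofNat 1), (41, .ofNat 2), (42, .ofNat 2), (43, .ofNat 2), (44, .ofNat 3), (45, .ofNat 1), (46, .ofNat 3), (47, .ofNat 3), (48, .ofNat 2), (51, .ofNat 1), (52, .ofNat 3), (55, .ofNat 2), (56, .ofNat 1), (57, .ofNat 1), (58, .ofNat 3), (59, .ofNat 2), (60, .ofNat 2), (62, .ofNat 1), (63, .ofNat 1), (64, .ofNat 3), (65, .ofNat 2), (67, .ofNat 3), (70, .ofNat 1), (72, .ofNat 1), (73, .ofNat 3)],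
    [(0, .ofNat 1), (1, .ofNat 3), (2, .ofNat 3), (3, .ofNat 2), (6, .ofNat 2), (8, .ofNat 1), (10, .ofNat 2), (11, .ofNat 2), (12, .ofNat 2), (17, .ofNat 1), (18, .ofNat 2), (19, .ofNat 2), (21, .ofNat 2), (22, .ofNat 1), (23, .ofNat 3), (28, .ofNat 2), (31, .ofNat 2), (32, .ofNat 2), (33, .ofNat 2), (36, .ofNat 3), (37, .ofNat 1), (38, .ofNat 2), (39, .ofNat 2), (40, .ofNat 1), (41, .ofNat 3), (42, .ofNat 2), (43, .ofNat 2), (44, .ofNat 2), (45, .ofNat 1), (47, .ofNat 1), (48, .ofNat 3), (50, .ofNat 3), (51, .ofNat 3)],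
    [(0, .ofNat 1), (1, .ofNat 3), (2, .ofNat 3), (3, .ofNat 2), (6, .ofNat 2), (8, .ofNat 1), (10, .ofNat 2), (11, .ofNat 2), (12, .ofNat 2), (17, .ofNat 1), (19, .ofNat 2), (20, .ofNat 2), (21, .ofNat 1), (22, .ofNat 2), (28, .ofNat 2), (31, .ofNat 2), (36, .ofNat 3), (37, .ofNat 2), (38, .ofNat 2), (41, .ofNat 3), (42, .ofNat 3), (43, .ofNat 2), (44, .ofNat 2), (45, .ofNat 1), (47, .ofNat 1), (48, .ofNat 3), (50, .ofNat 3), (51, .ofNat 3)],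
    [],
    [],
    [],
    [(0, .ofNat 1), (1, .ofNat 1), (2, .ofNat 2), (3, .ofNat 2), (5, .ofNat 1), (6, .ofNat 2), (8, .ofNat 1), (9, .ofNat 2), (10, .ofNat 2), (11, .ofNat 1), (12, .ofNat 3), (13, .ofNat 3), (14, .ofNat 2), (17, .ofNat 3), (19, .ofNat 3), (23, .ofNat 3), (25, .ofNat 3), (26, .ofNat 3), (27, .ofNat 1), (28, .ofNat 2), (29, .ofNat 3), (30, .ofNat 3), (31, .ofNat 1), (32, .ofNat 2), (33, .ofNat 3), (34, .ofNat 3), (35, .ofNat 1), (36, .ofNat 1), (37, .ofNat 1), (38, .ofNat 2), (40, .ofNat 2), (41, .ofNat 3), (42, .ofNat 3), (44, .ofNat 1), (45, .ofNat 2), (46, .ofNat 2), (47, .ofNat 1), (48, .ofNat 3), (51, .ofNat 1), (52, .ofNat 3), (53, .ofNat 1), (54, .ofNat 3), (56, .ofNat 1), (57, .ofNat 3), (58, .ofNat 3), (59, .ofNat 3), (60, .ofNat 3), (61, .ofNat 2), (62, .ofNat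 2), (63, .ofNat 1), (64, .ofNat 3), (65, .ofNat 1), (66, .ofNat 1), (67, .ofNat 2), (68, .ofNat 3), (69, .ofNat 2), (70, .ofNat 3), (73, .ofNat 2), (74, .ofNat 1)],
    [(0, .ofNat 1), (1, .ofNat 2), (2, .ofNat 3), (3, .ofNat 2), (4, .ofNat 3), (5, .ofNat 3), (6, .ofNat 3), (7, .ofNat 3), (8, .ofNat 3), (9, .ofNat 1), (10, .ofNat 1), (11, .ofNat 2), (12, .ofNat 3), (13, .ofNat 3), (14, .ofNat 1), (15, .ofNat 1), (16, .ofNat 2), (17, .ofNat 1), (18, .ofNat 3), (19, .ofNat 3), (21, .ofNat 1), (22, .ofNat 1), (23, .ofNat 2), (24, .ofNat 3), (25, .ofNat 3), (26, .ofNat 1), (27, .ofNat 1), (28, .ofNat 1), (29, .ofNat 2), (30, .ofNat 1), (31, .ofNat 3), (33, .ofNat 2), (35, .ofNat 1), (36, .ofNat 1), (37, .ofNat 2), (38, .ofNat 2), (39, .ofNat 1), (41, .ofNat 3), (43, .ofNat 1), (44, .ofNat 1),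 (45, .ofNat 2), (46, .ofNat 2), (47, .ofNat 3), (50, .ofNat 3), (53, .ofNat 2), (54, .ofNat 2), (56, .ofNat 1), (57, .ofNat 2), (59, .ofNat 1), (60, .ofNat 1), (62, .ofNat 3), (63, .ofNat 2), (65, .ofNat 3), (66, .ofNat 1), (67, .ofNat 3), (68, .ofNat 1), (69, .ofNat 2), (70, .ofNat 2), (71, .ofNat 3), (72, .ofNat 3), (73, .ofNat 3), (74, .ofNat 1)],
    [],
    [(1, .ofNat 2), (2, .ofNat 1), (3, .ofNat 3), (5, .ofNat 1), (6, .ofNat 3), (7, .ofNat 3), (13, .ofNat 1), (14, .ofNat 1), (16, .ofNat 3), (17, .ofNat 3), (18, .ofNat 3), (19, .ofNat 1), (20, .ofNat 1), (22, .ofNat 2), (24, .ofNat 1), (25, .ofNat 2), (26, .ofNat 1), (28, .ofNat 2), (30, .ofNat 3), (31, .ofNat 2), (32, .ofNat 1), (34, .ofNat 1), (35, .ofNat 3), (36, .ofNat 1), (38, .ofNat 3), (40, .ofNat 3), (41, .ofNat 2), (45, .ofNat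 3), (47, .ofNat 1), (48, .ofNat 3), (52, .ofNat 3), (53, .ofNat 3), (54, .ofNat 2), (55, .ofNat 3), (56, .ofNat 1), (57, .ofNat 1), (58, .ofNat 3), (59, .ofNat 2), (60, .ofNat 2), (61, .ofNat 1), (63, .ofNat 2), (64, .ofNat 2), (65, .ofNat 1), (66, .ofNat 3), (67, .ofNat 3), (68, .ofNat 2), (70, .ofNat 2), (71, .ofNat 2), (72, .ofNat 3), (74, .ofNat 1), (75, .ofNat 3)],
    [(0, .ofNat 3), (1, .ofNat 3), (2, .ofNat 3), (3, .ofNat 2), (4, .ofNat 1), (5, .ofNat 1), (6, .ofNat 3), (7, .ofNat 1), (8, .ofNat 1), (9, .ofNat 1), (11, .ofNat 3), (12, .ofNat 2), (13, .ofNat 1), (15, .ofNat 2), (17, .ofNat 3), (18, .ofNat 1), (19, .ofNat 2), (21, .ofNat 3), (22, .ofNat 1), (23, .ofNat 2), (24, .ofNat 2), (25, .ofNat 1), (26, .ofNat 1), (27, .ofNat 2), (28, .ofNat 3), (29, .ofNat 2), (30, .ofNat 2),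 (32, .ofNat 1), (33, .ofNat 1), (34, .ofNat 1), (35, .ofNat 3), (37, .ofNat 2), (38, .ofNat 2), (39, .ofNat 3), (40, .ofNat 3), (42, .ofNat 3), (43, .ofNat 1), (45, .ofNat 2), (46, .ofNat 2), (47, .ofNat 1), (48, .ofNat 1), (50, .ofNat 3), (51, .ofNat 3), (52, .ofNat 2), (53, .ofNat 2), (54, .ofNat 1), (55, .ofNat 3), (56, .ofNat 1), (58, .ofNat 1), (60, .ofNat 1), (61, .ofNat 1), (64, .ofNat 1), (65, .ofNat 2), (67, .ofNat 2), (68, .ofNat 3)],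
    [(0, .ofNat 2), (3, .ofNat 1), (5, .ofNat 3), (6, .ofNat 3), (8, .ofNat 1), (10, .ofNat 3), (11, .ofNat 2), (12, .ofNat 2), (13, .ofNat 1), (15, .ofNat 2), (16, .ofNat 1), (17, .ofNat 1), (18, .ofNat 2), (19, .ofNat 1), (20, .ofNat 2), (21, .ofNat 2), (22, .ofNat 3), (23, .ofNat 1), (24, .ofNat 2), (25, .ofNat 2), (26, .ofNat 1), (29, .ofNat 3), (30, .ofNat 1), (31, .ofNat 3), (36, .ofNat 3), (37, .ofNat 2), (38, .ofNat 3), (39, .ofNat 3), (40, .ofNat 2), (42, .ofNat 2), (43, .ofNat 1), (46, .ofNat 1), (47, .ofNat 3), (48, .ofNat 2), (50, .ofNat 3), (51, .ofNat 1), (53, .ofNat 1), (55, .ofNat 1)],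
    [(0, .ofNat 1), (1, .ofNat 3), (2, .ofNat 3), (3, .ofNat 3), (5, .ofNat 3), (6, .ofNat 1), (7, .ofNat 2), (8, .ofNat 3), (9, .ofNat 3), (12, .ofNat 1), (13, .ofNat 3), (14, .ofNat 3), (15, .ofNat 1), (16, .ofNat 3), (17, .ofNat 2), (18, .ofNat 2), (20, .ofNat 3), (21, .ofNat 1), (26, .ofNat 1), (27, .ofNat 1), (28, .ofNat 2), (32, .ofNat 1), (33, .ofNat 3), (34, .ofNat 2), (35, .ofNat 2), (36, .ofNat 2), (37, .ofNat 3), (38, .ofNat 1), (39, .ofNat 1), (40, .ofNat 3), (41, .ofNat 1), (42, .ofNat 1), (43, .ofNat 3), (44, .ofNat 3), (47, .ofNat 2), (48, .ofNat 1), (50, .ofNat 1), (53, .ofNat 2), (55, .ofNat 1)],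
    [(0, .ofNat 3), (1, .ofNat 3), (2, .ofNat 3), (3, .ofNat 1), (5, .ofNat 2), (6, .ofNat 3), (7, .ofNat 3), (8, .ofNat 3), (9, .ofNat 1), (10, .ofNat 1), (11, .ofNat 1), (12, .ofNat 3), (13, .ofNat 3), (14, .ofNat 2), (15, .ofNat 2), (17, .ofNat 1), (18, .ofNat 3), (20, .ofNat 3), (21, .ofNat 1), (23, .ofNat 3), (24, .ofNat 2), (25, .ofNat 2), (26, .ofNat 3), (28, .ofNat 2), (29, .ofNat 1), (30, .ofNat 1), (33, .ofNat 2), (34, .ofNat 3), (35, .ofNat 1), (36, .ofNat 2), (37, .ofNat 1), (38, .ofNat 1), (39, .ofNat 1), (40, .ofNat 2), (41, .ofNat 2), (42, .ofNat 1), (43, .ofNat 3), (45, .ofNat 3), (48, .ofNat 1), (50, .ofNat 3), (51, .ofNat 3), (53, .ofNat 2), (54, .ofNat 1), (55, .ofNat 1)],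
    [(0, .ofNat 3), (1, .ofNat 1), (2, .ofNat 1), (5, .ofNat 1), (7, .ofNat 3), (8, .ofNat 2), (9, .ofNat 3), (11, .ofNat 1), (12, .ofNat 1), (16, .ofNat 3), (17, .ofNat 2), (19, .ofNat 1), (20, .ofNat 1), (23, .ofNat 1), (26, .ofNat 1), (28, .ofNat 2), (29, .ofNat 3), (30, .ofNat 3), (31, .ofNat 2), (32, .ofNat 3), (34, .ofNat 1), (35, .ofNat 1), (36, .ofNat 3), (37, .ofNat 3), (40, .ofNat 2), (41, .ofNat 3), (44, .ofNat 2), (45, .ofNat 3), (46, .ofNat 1), (47, .ofNat 1), (48, .ofNat 3), (50, .ofNat 2), (51, .ofNat 2), (53, .ofNat 3), (54, .ofNat 3)],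
    [],
    [],
    [],
    [],
    [(0, .ofNat 3), (1, .ofNat 1), (2, .ofNat 2), (4, .ofNat 2), (5, .ofNat 1), (7, .ofNat 2), (8, .ofNat 3), (10, .ofNat 2), (11, .ofNat 3), (12, .ofNat 1), (14, .ofNat 2), (15, .ofNat 1), (17, .ofNat 2), (18, .ofNat 2), (19, .ofNat 1), (20, .ofNat 3), (22, .ofNat 2), (23, .ofNat 3), (24, .ofNat 2), (25, .ofNat 3), (26, .ofNat 3), (27, .ofNat 2), (28, .ofNat 2), (30, .ofNat 2), (31, .ofNat 2), (32, .ofNat 2), (33, .ofNat 2), (34, .ofNat 2), (36, .ofNat 1), (37, .ofNat 3), (38, .ofNat 3), (40, .ofNat 2), (42, .ofNat 3), (43, .ofNat 3), (44, .ofNat 1), (47, .ofNat 1), (48, .ofNat 1), (52, .ofNat 1), (53, .ofNat 3), (54, .ofNat 1), (56, .ofNat 3), (57, .ofNat 1), (58, .ofNat 3), (59, .ofNat 3), (60, .ofNat 1), (61, .ofNat 2), (62, .ofNat 2), (63, .ofNat 3), (64,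 .ofNat 1), (65, .ofNat 1), (66, .ofNat 1), (68, .ofNat 1), (69, .ofNat 2), (70, .ofNat 3), (71, .ofNat 3), (73, .ofNat 2), (74, .ofNat 1)],
    [(0, .ofNat 1), (1, .ofNat 1), (2, .ofNat 3), (3, .ofNat 1), (5, .ofNat 3), (6, .ofNat 2), (7, .ofNat 3), (10, .ofNat 2), (11, .ofNat 3), (15, .ofNat 2), (17, .ofNat 1), (18, .ofNat 3), (19, .ofNat 2), (20, .ofNat 2), (21, .ofNat 3), (22, .ofNat 1), (23, .ofNat 2), (24, .ofNat 1), (25, .ofNat 3), (26, .ofNat 1), (28, .ofNat 1), (29, .ofNat 3), (30, .ofNat 1), (31, .ofNat 1), (33, .ofNat 1), (34, .ofNat 1), (36, .ofNat 3), (37, .ofNat 2), (38, .ofNat 1), (39, .ofNat 2), (40, .ofNat 1), (42, .ofNat 3), (43, .ofNat 3), (44, .ofNat 2), (45, .ofNat 3), (46, .ofNat 2), (48, .ofNat 2), (50, .ofNat 2), (51, .ofNat 2), (53, .ofNat 2), (54, .ofNat 3), (57, .ofNat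 1), (58, .ofNat 3), (59, .ofNat 2), (60, .ofNat 3), (62, .ofNat 3), (63, .ofNat 1), (64, .ofNat 1), (66, .ofNat 1), (67, .ofNat 2), (68, .ofNat 1), (69, .ofNat 2), (70, .ofNat 3), (73, .ofNat 1), (75, .ofNat 3)],
    [(1, .ofNat 3), (2, .ofNat 3), (3, .ofNat 3), (4, .ofNat 1), (5, .ofNat 3), (8, .ofNat 1), (9, .ofNat 1), (10, .ofNat 3), (11, .ofNat 1), (12, .ofNat 3), (14, .ofNat 3), (15, .ofNat 1), (16, .ofNat 3), (18, .ofNat 3), (19, .ofNat 2), (21, .ofNat 1), (24, .ofNat 2), (25, .ofNat 2), (26, .ofNat 2), (29, .ofNat 2), (31, .ofNat 1), (32, .ofNat 1), (33, .ofNat 3), (34, .ofNat 2), (36, .ofNat 3), (38, .ofNat 3), (39, .ofNat 3), (40, .ofNat 3), (41, .ofNat 1), (42, .ofNat 2), (43, .ofNat 1), (45, .ofNat 3), (46, .ofNat 3), (47, .ofNat 3), (48, .ofNat 2), (50, .ofNat 2), (51, .ofNat 2),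 (52, .ofNat 3), (53, .ofNat 2), (54, .ofNat 1), (55, .ofNat 3), (56, .ofNat 1), (57, .ofNat 1), (58, .ofNat 3), (59, .ofNat 2), (60, .ofNat 2), (62, .ofNat 1), (63, .ofNat 1), (64, .ofNat 3), (65, .ofNat 2), (67, .ofNat 3), (70, .ofNat 1), (72, .ofNat 1), (73, .ofNat 3)],
    [(0, .ofNat 2), (1, .ofNat 2), (2, .ofNat 2), (3, .ofNat 2), (5, .ofNat 2), (6, .ofNat 2), (10, .ofNat 1), (11, .ofNat 3), (13, .ofNat 2), (14, .ofNat 2), (16, .ofNat 1), (17, .ofNat 3), (18, .ofNat 2), (19, .ofNat 2), (21, .ofNat 1), (22, .ofNat 3), (23, .ofNat 3), (26, .ofNat 1), (30, .ofNat 2), (31, .ofNat 3), (33, .ofNat 1), (35, .ofNat 2), (36, .ofNat 2), (39, .ofNat 3), (40, .ofNat 2), (41, .ofNat 2), (42, .ofNat 2), (45, .ofNat 1), (46, .ofNat 2), (47, .ofNat 3), (48, .ofNat 3), (50, .ofNat 2), (53, .ofNat 2),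 (55, .ofNat 1)],
    [(0, .ofNat 2), (3, .ofNat 1), (5, .ofNat 3), (6, .ofNat 3), (7, .ofNat 2), (8, .ofNat 1), (10, .ofNat 1), (11, .ofNat 2), (12, .ofNat 2), (13, .ofNat 1), (15, .ofNat 2), (16, .ofNat 3), (17, .ofNat 3), (18, .ofNat 1), (19, .ofNat 1), (21, .ofNat 1), (24, .ofNat 2), (25, .ofNat 2), (31, .ofNat 3), (34, .ofNat 2), (36, .ofNat 3), (40, .ofNat 2), (42, .ofNat 2), (43, .ofNat 1), (46, .ofNat 1), (47, .ofNat 3), (48, .ofNat 2), (50, .ofNat 3), (51, .ofNat 1), (53, .ofNat 1), (55, .ofNat 1)],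
    [(0, .ofNat 3), (1, .ofNat 1), (2, .ofNat 1), (3, .ofNat 1), (6, .ofNat 3), (7, .ofNat 2), (8, .ofNat 1), (9, .ofNat 3), (10, .ofNat 2), (12, .ofNat 1), (13, .ofNat 1), (14, .ofNat 3), (15, .ofNat 3), (16, .ofNat 1), (17, .ofNat 2), (18, .ofNat 3), (20, .ofNat 3), (21, .ofNat 3), (22, .ofNat 1), (23, .ofNat 2), (27, .ofNat 3), (28, .ofNat 2), (29, .ofNat 1), (30, .ofNat 3), (31, .ofNat 2), (32, .ofNat 3), (33, .ofNat 1), (35, .ofNat 1), (36, .ofNat 2), (37, .ofNat 2), (39, .ofNat 2), (40, .ofNat 3), (41, .ofNat 1), (43, .ofNat 1), (44, .ofNat 3), (45, .ofNat 3), (47, .ofNat 1), (48, .ofNat 3), (50, .ofNat 1), (53, .ofNat 2), (54, .ofNat 1), (55, .ofNat 1)],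
    [(0, .ofNat 1), (1, .ofNat 1), (2, .ofNat 1), (3, .ofNat 1), (5, .ofNat 1), (6, .ofNat 3), (7, .ofNat 1), (8, .ofNat 3), (9, .ofNat 3), (12, .ofNat 3), (13, .ofNat 1), (15, .ofNat 2), (16, .ofNat 3), (17, .ofNat 2), (18, .ofNat 3), (19, .ofNat 2), (20, .ofNat 1), (21, .ofNat 1), (22, .ofNat 1), (23, .ofNat 1), (26, .ofNat 2), (27, .ofNat 2), (28, .ofNat 2), (30, .ofNat 2), (32, .ofNat 2), (33, .ofNat 2), (34, .ofNat 1), (36, .ofNat 2), (37, .ofNat 2), (39, .ofNat 3), (40, .ofNat 2), (41, .ofNat 3), (42, .ofNat 1), (43, .ofNat 3), (45, .ofNat 3), (46, .ofNat 2), (47, .ofNat 2), (50, .ofNat 3), (51, .ofNat 3)],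
    [(0, .ofNat 1), (1, .ofNat 1), (2, .ofNat 1), (3, .ofNat 1), (5, .ofNat 1), (6, .ofNat 3), (7, .ofNat 3), (8, .ofNat 3), (9, .ofNat 3), (10, .ofNat 2), (12, .ofNat 1), (13, .ofNat 1), (15, .ofNat 2), (16, .ofNat 1), (18, .ofNat 1), (19, .ofNat 2), (20, .ofNat 1), (21, .ofNat 1), (22, .ofNat 1), (23, .ofNat 1), (26, .ofNat 2), (27, .ofNat 2), (28, .ofNat 2), (30, .ofNat 2), (32, .ofNat 2), (34, .ofNat 1), (36, .ofNat 2), (37, .ofNat 2), (39, .ofNat 1), (40, .ofNat 1), (42, .ofNat 1), (43, .ofNat 3), (45, .ofNat 3), (46, .ofNat 2), (47, .ofNat 2), (50, .ofNat 3), (51, .ofNat 3)],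
    [],
    [],
    [],
    [],
    [],
    [(0, .ofNat 3), (1, .ofNat 3), (3, .ofNat 3), (4, .ofNat 2), (5, .ofNat 2), (6, .ofNat 3), (8, .ofNat 1), (9, .ofNat 1), (10, .ofNat 3), (12, .ofNat 2), (14, .ofNat 1), (15, .ofNat 3), (17, .ofNat 1), (18, .ofNat 3), (19, .ofNat 3), (20, .ofNat 2), (23, .ofNat 1), (24, .ofNat 2), (25, .ofNat 3), (26, .ofNat 1), (27, .ofNat 2), (29, .ofNat 2), (30, .ofNat 2), (32, .ofNat 2), (33, .ofNat 2), (35, .ofNat 1), (36, .ofNat 2), (37, .ofNat 1), (38, .ofNat 1), (39, .ofNat 2), (40, .ofNat 3), (41, .ofNat 1), (42, .ofNat 2), (44, .ofNat 2), (45, .ofNat 2), (47, .ofNat 3), (51, .ofNat 2), (52, .ofNat 3), (53, .ofNat 3), (54, .ofNat 3), (55, .ofNat 2), (56, .ofNat 3), (57, .ofNat 3), (58, .ofNat 1), (59, .ofNat 3), (60, .ofNat 3), (62, .ofNat 3), (64, .ofNat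 1), (65, .ofNat 1), (66, .ofNat 1), (68, .ofNat 1), (69, .ofNat 2), (70, .ofNat 3), (71, .ofNat 3), (73, .ofNat 2), (74, .ofNat 1)],
    [(0, .ofNat 1), (1, .ofNat 3), (2, .ofNat 2), (4, .ofNat 2), (5, .ofNat 2), (7, .ofNat 2), (9, .ofNat 3), (10, .ofNat 1), (11, .ofNat 3), (13, .ofNat 3), (14, .ofNat 2), (15, .ofNat 1), (17, .ofNat 2), (18, .ofNat 3), (20, .ofNat 2), (21, .ofNat 1), (23, .ofNat 2), (24, .ofNat 1), (26, .ofNat 3), (27, .ofNat 3), (28, .ofNat 1), (29, .ofNat 2), (30, .ofNat 2), (31, .ofNat 3), (32, .ofNat 2), (33, .ofNat 1), (34, .ofNat 3), (35, .ofNat 2), (36, .ofNat 3), (37, .ofNat 1), (38, .ofNat 3), (39, .ofNat 2), (40, .ofNat 3), (41, .ofNat 3), (42, .ofNat 2), (43, .ofNat 1), (44, .ofNat 1), (45, .ofNat 3), (46, .ofNat 2), (48, .ofNat 2), (50, .ofNat 1), (51, .ofNat 3),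 (52, .ofNat 2), (53, .ofNat 1), (54, .ofNat 3), (56, .ofNat 1), (57, .ofNat 1), (58, .ofNat 3), (59, .ofNat 1), (60, .ofNat 2), (63, .ofNat 3), (64, .ofNat 2), (65, .ofNat 3), (66, .ofNat 2), (67, .ofNat 3), (68, .ofNat 3), (70, .ofNat 2), (71, .ofNat 3), (73, .ofNat 3), (74, .ofNat 1), (75, .ofNat 3)],
    [(1, .ofNat 3), (2, .ofNat 3), (3, .ofNat 1), (4, .ofNat 2), (5, .ofNat 2), (6, .ofNat 3), (7, .ofNat 1), (8, .ofNat 1), (12, .ofNat 2), (13, .ofNat 1), (14, .ofNat 2), (16, .ofNat 2), (17, .ofNat 3), (18, .ofNat 1), (19, .ofNat 3), (20, .ofNat 2), (21, .ofNat 1), (22, .ofNat 2), (23, .ofNat 1), (25, .ofNat 3), (26, .ofNat 3), (27, .ofNat 3), (28, .ofNat 2), (31, .ofNat 3), (33, .ofNat 1), (34, .ofNat 2), (35, .ofNat 3), (37, .ofNat 3), (38, .ofNat 1), (39, .ofNat 2), (41, .ofNat 1), (42,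 .ofNat 1), (43, .ofNat 2), (44, .ofNat 1), (45, .ofNat 3), (46, .ofNat 3), (48, .ofNat 3), (50, .ofNat 3), (52, .ofNat 1), (54, .ofNat 2), (55, .ofNat 3), (56, .ofNat 3), (59, .ofNat 2), (60, .ofNat 3), (61, .ofNat 1), (62, .ofNat 1), (63, .ofNat 1), (67, .ofNat 1), (68, .ofNat 3), (70, .ofNat 1), (72, .ofNat 1), (73, .ofNat 3)],
    [(0, .ofNat 1), (1, .ofNat 2), (2, .ofNat 1), (4, .ofNat 1), (5, .ofNat 3), (6, .ofNat 2), (7, .ofNat 1), (9, .ofNat 2), (10, .ofNat 2), (12, .ofNat 1), (13, .ofNat 3), (15, .ofNat 1), (16, .ofNat 1), (17, .ofNat 1), (18, .ofNat 1), (19, .ofNat 3), (20, .ofNat 1), (21, .ofNat 3), (22, .ofNat 1), (23, .ofNat 1), (24, .ofNat 1), (26, .ofNat 1), (27, .ofNat 1), (28, .ofNat 2), (29, .ofNat 1), (30, .ofNat 1), (31, .ofNat 2), (33, .ofNat 2), (34, .ofNat 1), (35, .ofNat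 2), (36, .ofNat 3), (37, .ofNat 1), (38, .ofNat 1), (40, .ofNat 1), (41, .ofNat 1), (42, .ofNat 1), (43, .ofNat 1), (45, .ofNat 2), (46, .ofNat 2), (47, .ofNat 2), (48, .ofNat 2), (50, .ofNat 2), (51, .ofNat 2), (53, .ofNat 2), (54, .ofNat 3), (56, .ofNat 2), (57, .ofNat 2), (58, .ofNat 2), (59, .ofNat 3), (60, .ofNat 2), (61, .ofNat 1), (63, .ofNat 3), (66, .ofNat 3), (68, .ofNat 3), (70, .ofNat 1), (71, .ofNat 3), (72, .ofNat 3), (74, .ofNat 1), (75, .ofNat 3)],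
    [(1, .ofNat 1), (2, .ofNat 1), (3, .ofNat 3), (4, .ofNat 1), (5, .ofNat 3), (7, .ofNat 2), (8, .ofNat 3), (9, .ofNat 1), (10, .ofNat 1), (11, .ofNat 3), (12, .ofNat 1), (13, .ofNat 2), (14, .ofNat 2), (15, .ofNat 3), (19, .ofNat 2), (21, .ofNat 3), (22, .ofNat 1), (23, .ofNat 3), (24, .ofNat 2), (25, .ofNat 2), (27, .ofNat 2), (29, .ofNat 2), (30, .ofNat 2), (31, .ofNat 3), (32, .ofNat 3), (33, .ofNat 1), (35, .ofNat 1), (36, .ofNat 3), (37, .ofNat 1), (38, .ofNat 3), (39, .ofNat 3), (41, .ofNat 3), (42, .ofNat 2), (43, .ofNat 3), (44, .ofNat 1), (46, .ofNat 3), (48, .ofNat 2), (50, .ofNat 2), (51, .ofNat 2), (52, .ofNat 3), (53, .ofNat 2), (54, .ofNat 1), (55, .ofNat 3), (56, .ofNat 1), (57, .ofNat 1), (58, .ofNat 3), (59, .ofNat 2), (60, .ofNat 2), (62, .ofNat 1), (63, .ofNat 1), (64,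 .ofNat 3), (65, .ofNat 2), (67, .ofNat 3), (70, .ofNat 1), (72, .ofNat 1), (73, .ofNat 3)],
    [(0, .ofNat 2), (7, .ofNat 2), (10, .ofNat 2), (12, .ofNat 2), (13, .ofNat 2), (14, .ofNat 1), (16, .ofNat 1), (18, .ofNat 2), (21, .ofNat 3), (22, .ofNat 3), (23, .ofNat 2), (34, .ofNat 2), (35, .ofNat 1), (36, .ofNat 1), (40, .ofNat 1), (41, .ofNat 1), (42, .ofNat 3), (44, .ofNat 3)],
    [(0, .ofNat 2), (7, .ofNat 2), (10, .ofNat 2), (12, .ofNat 2), (14, .ofNat 3), (16, .ofNat 1), (17, .ofNat 2), (18, .ofNat 1), (20, .ofNat 2), (22, .ofNat 1), (23, .ofNat 3), (35, .ofNat 3), (36, .ofNat 1), (40, .ofNat 1), (41, .ofNat 2), (42, .ofNat 1), (43, .ofNat 2), (44, .ofNat 1), (45, .ofNat 3), (47, .ofNat 3)],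
    [],
    [],
    [],
    [],
    [],
    [],
    [(0, .ofNat 3), (1, .ofNat 1), (3, .ofNat 3), (4, .ofNat 2), (5, .ofNat 3), (6, .ofNat 1), (8, .ofNat 2), (9, .ofNat 2), (10, .ofNat 2), (11, .ofNat 1), (12, .ofNat 3), (13, .ofNat 1), (14, .ofNat 2), (15, .ofNat 3), (16, .ofNat 3), (17, .ofNat 1), (18, .ofNat 2), (20, .ofNat 2), (21, .ofNat 3), (22, .ofNat 3), (23, .ofNat 3), (24, .ofNat 1), (26, .ofNat 1), (27, .ofNat 1), (28, .ofNat 1), (29, .ofNat 2), (31, .ofNat 1), (32, .ofNat 2), (33, .ofNat 1), (34, .ofNat 1), (36, .ofNat 3), (37, .ofNat 3), (38, .ofNat 1), (39, .ofNat 3), (40, .ofNat 2), (41, .ofNat 3), (42, .ofNat 2), (44, .ofNat 3), (45, .ofNat 2), (47, .ofNat 1), (48, .ofNat 3), (50, .ofNat 1), (51, .ofNat 3), (52, .ofNat 2), (53, .ofNat 1), (54, .ofNat 3), (56, .ofNat 1), (57,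 .ofNat 1), (58, .ofNat 3), (59, .ofNat 1), (60, .ofNat 2), (63, .ofNat 3), (64, .ofNat 2), (65, .ofNat 3), (66, .ofNat 2), (67, .ofNat 3), (68, .ofNat 3), (70, .ofNat 2), (71, .ofNat 3), (73, .ofNat 3), (74, .ofNat 1), (75, .ofNat 3)],
    [(0, .ofNat 1), (1, .ofNat 3), (2, .ofNat 2), (3, .ofNat 3), (4, .ofNat 2), (5, .ofNat 2), (6, .ofNat 2), (7, .ofNat 1), (8, .ofNat 3), (9, .ofNat 3), (10, .ofNat 1), (11, .ofNat 3), (14, .ofNat 1), (16, .ofNat 3), (19, .ofNat 1), (20, .ofNat 2), (21, .ofNat 3), (24, .ofNat 3), (25, .ofNat 2), (26, .ofNat 1), (27, .ofNat 3), (28, .ofNat 2), (29, .ofNat 3), (30, .ofNat 3), (31, .ofNat 1), (34, .ofNat 2), (36, .ofNat 2), (37, .ofNat 2), (40, .ofNat 2), (41, .ofNat 3), (43, .ofNat 1), (44, .ofNat 2), (45, .ofNat 2), (46, .ofNat 2), (47, .ofNat 3), (52, .ofNat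 3), (55, .ofNat 3), (56, .ofNat 3), (57, .ofNat 3), (58, .ofNat 1), (59, .ofNat 1), (61, .ofNat 1), (62, .ofNat 1), (64, .ofNat 3), (65, .ofNat 2), (66, .ofNat 3), (67, .ofNat 3), (68, .ofNat 3), (70, .ofNat 2), (71, .ofNat 3), (73, .ofNat 3), (74, .ofNat 1), (75, .ofNat 3)],
    [(0, .ofNat 2), (3, .ofNat 1), (5, .ofNat 3), (6, .ofNat 3), (7, .ofNat 2), (9, .ofNat 1), (10, .ofNat 3), (13, .ofNat 2), (14, .ofNat 3), (16, .ofNat 2), (17, .ofNat 3), (18, .ofNat 3), (20, .ofNat 3), (21, .ofNat 1), (22, .ofNat 1), (23, .ofNat 3), (35, .ofNat 3), (36, .ofNat 1), (37, .ofNat 2), (41, .ofNat 3), (42, .ofNat 3), (43, .ofNat 2), (44, .ofNat 3), (45, .ofNat 3), (46, .ofNat 2), (48, .ofNat 1)],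
    [(3, .ofNat 1), (5, .ofNat 3), (6, .ofNat 3), (9, .ofNat 1), (10, .ofNat 1), (11, .ofNat 2), (12, .ofNat 3), (13, .ofNat 2), (14, .ofNat 2), (16, .ofNat 3), (17, .ofNat 1), (18, .ofNat 3), (20, .ofNat 2), (22, .ofNat 2), (23, .ofNat 2), (32, .ofNat 2), (35, .ofNat 2), (36, .ofNat 2), (37, .ofNat 3), (39, .ofNat 1), (41, .ofNat 1), (42, .ofNat 1), (45, .ofNat 2), (46, .ofNat 2), (48, .ofNat 1)],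
    [(22, .ofNat 3), (23, .ofNat 1), (41, .ofNat 3), (42, .ofNat 3), (47, .ofNat 3)],
    [(23, .ofNat 3), (42, .ofNat 3)],
    [],
    [],
    [],
    [],
    [],
    [],
    [],
    [(0, .ofNat 1), (1, .ofNat 1), (3, .ofNat 3), (4, .ofNat 3), (6, .ofNat 3), (7, .ofNat 3), (9, .ofNat 1), (10, .ofNat 1), (11, .ofNat 1), (12, .ofNat 2), (13, .ofNat 1), (14, .ofNat 1), (15, .ofNat 3), (16, .ofNat 1), (17, .ofNat 1), (19, .ofNat 1), (20, .ofNat 1), (21, .ofNat 3), (22, .ofNat 1), (23, .ofNat 3), (24, .ofNat 1), (25, .ofNat 3), (27, .ofNat 2), (28, .ofNat 3), (29, .ofNat 2), (31, .ofNat 2), (32, .ofNat 2), (33, .ofNat 1), (34, .ofNat 1), (35, .ofNat 3), (37, .ofNat 2), (38, .ofNat 1), (40, .ofNat 1), (41, .ofNat 1), (42, .ofNat 3), (43, .ofNat 2), (46, .ofNat 3), (48, .ofNat 2), (50, .ofNat 1),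 (51, .ofNat 2), (52, .ofNat 1), (53, .ofNat 1), (54, .ofNat 2), (55, .ofNat 2), (56, .ofNat 1), (57, .ofNat 3), (58, .ofNat 2), (59, .ofNat 1), (60, .ofNat 1), (61, .ofNat 2), (62, .ofNat 3), (66, .ofNat 3), (67, .ofNat 1), (68, .ofNat 2), (70, .ofNat 2), (71, .ofNat 3), (73, .ofNat 3), (74, .ofNat 1), (75, .ofNat 3)],
    [(5, .ofNat 1), (7, .ofNat 2), (8, .ofNat 2), (9, .ofNat 2), (10, .ofNat 1), (11, .ofNat 2), (12, .ofNat 1), (15, .ofNat 2), (16, .ofNat 3), (17, .ofNat 1), (18, .ofNat 3), (19, .ofNat 2), (20, .ofNat 2), (21, .ofNat 2), (23, .ofNat 1), (24, .ofNat 2), (25, .ofNat 2), (26, .ofNat 3), (29, .ofNat 1), (31, .ofNat 3), (32, .ofNat 3), (33, .ofNat 1), (35, .ofNat 1), (36, .ofNat 2), (40, .ofNat 1), (41, .ofNat 1), (43, .ofNat 2), (44, .ofNat 2), (45, .ofNat 3), (46, .ofNat 2),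 (47, .ofNat 2), (48, .ofNat 1), (53, .ofNat 2), (54, .ofNat 1), (55, .ofNat 1)],
    [(0, .ofNat 3), (1, .ofNat 3), (2, .ofNat 3), (3, .ofNat 2), (5, .ofNat 3), (6, .ofNat 2), (9, .ofNat 1), (10, .ofNat 1), (11, .ofNat 2), (12, .ofNat 3), (14, .ofNat 1), (15, .ofNat 3), (17, .ofNat 1), (19, .ofNat 1), (20, .ofNat 3), (21, .ofNat 2), (22, .ofNat 1), (23, .ofNat 3), (27, .ofNat 3), (28, .ofNat 2), (29, .ofNat 3), (30, .ofNat 1), (31, .ofNat 3), (32, .ofNat 1), (35, .ofNat 1), (36, .ofNat 1), (37, .ofNat 2), (38, .ofNat 3), (39, .ofNat 3), (40, .ofNat 1), (41, .ofNat 3), (42, .ofNat 2), (44, .ofNat 1), (45, .ofNat 1), (46, .ofNat 1), (47, .ofNat 1), (48, .ofNat 3), (50, .ofNat 2), (51, .ofNat 1), (53, .ofNat 3), (54, .ofNat 3)],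
    [(0, .ofNat 1), (1, .ofNat 1), (2, .ofNat 1), (3, .ofNat 1), (5, .ofNat 1), (6, .ofNat 3), (7, .ofNat 3), (8, .ofNat 3), (9, .ofNat 3), (10, .ofNat 2), (12, .ofNat 1), (13, .ofNat 1), (15, .ofNat 2), (16, .ofNat 1), (18, .ofNat 1), (19, .ofNat 2), (20, .ofNat 1), (21, .ofNat 1), (22, .ofNat 1), (26, .ofNat 2), (27, .ofNat 2), (28, .ofNat 2), (30, .ofNat 2), (32, .ofNat 1), (33, .ofNat 2), (34, .ofNat 1), (36, .ofNat 2), (37, .ofNat 2), (39, .ofNat 3), (40, .ofNat 2), (42, .ofNat 2), (43, .ofNat 3), (45, .ofNat 3), (46, .ofNat 2), (47, .ofNat 3), (50, .ofNat 3), (51, .ofNat 3)],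
    [(0, .ofNat 1), (1, .ofNat 1), (2, .ofNat 1), (3, .ofNat 1), (5, .ofNat 1), (6, .ofNat 3), (7, .ofNat 3), (8, .ofNat 3), (9, .ofNat 3), (10, .ofNat 2), (12, .ofNat 1), (13, .ofNat 1), (15, .ofNat 2), (16, .ofNat 1), (18, .ofNat 1), (19, .ofNat 2), (20, .ofNat 1), (21, .ofNat 1), (22, .ofNat 1), (26, .ofNat 2), (27, .ofNat 2), (28, .ofNat 2), (30, .ofNat 2), (32, .ofNat 2), (33, .ofNat 1), (34, .ofNat 1), (36, .ofNat 2), (37, .ofNat 2), (39, .ofNat 1), (40, .ofNat 1), (42, .ofNat 3), (43, .ofNat 3), (45, .ofNat 3), (46, .ofNat 2), (47, .ofNat 3), (50, .ofNat 3), (51, .ofNat 3)],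
    [],
    [],
    [],
    [],
    [],
    [],
    [],
    [],
    [(0, .ofNat 1), (1, .ofNat 1), (2, .ofNat 1), (5, .ofNat 1), (8, .ofNat 2), (9, .ofNat 3), (10, .ofNat 3), (11, .ofNat 2), (12, .ofNat 3), (13, .ofNat 3), (16, .ofNat 1), (17, .ofNat 1), (18, .ofNat 1), (19, .ofNat 1), (20, .ofNat 2), (21, .ofNat 3), (22, .ofNat 2), (23, .ofNat 1), (24, .ofNat 2), (25, .ofNat 2), (26, .ofNat 1), (29, .ofNat 3), (32, .ofNat 3), (33, .ofNat 2), (34, .ofNat 3), (35, .ofNat 1), (36, .ofNat 3), (38, .ofNat 3), (39, .ofNat 1), (40, .ofNat 2), (41, .ofNat 2), (43, .ofNat 3), (45, .ofNat 1), (46, .ofNat 1), (50, .ofNat 3), (51, .ofNat 2), (53, .ofNat 3), (54, .ofNat 3)],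
    [(0, .ofNat 3), (1, .ofNat 3), (2, .ofNat 3), (3, .ofNat 2), (6, .ofNat 2), (7, .ofNat 2), (8, .ofNat 1), (12, .ofNat 3), (14, .ofNat 1), (16, .ofNat 3), (17, .ofNat 3), (18, .ofNat 1), (19, .ofNat 2), (21, .ofNat 1), (22, .ofNat 3), (28, .ofNat 2), (31, .ofNat 2), (33, .ofNat 2), (35, .ofNat 1), (36, .ofNat 2), (38, .ofNat 2), (39, .ofNat 3), (40, .ofNat 3), (41, .ofNat 1), (44, .ofNat 1), (47, .ofNat 1), (48, .ofNat 3), (50, .ofNat 3), (51, .ofNat 3)],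
    [(0, .ofNat 2), (1, .ofNat 2), (2, .ofNat 2), (3, .ofNat 3), (5, .ofNat 1), (6, .ofNat 1), (7, .ofNat 3), (8, .ofNat 2), (9, .ofNat 3), (11, .ofNat 3), (12, .ofNat 3), (13, .ofNat 3), (14, .ofNat 1), (15, .ofNat 2), (17, .ofNat 1), (18, .ofNat 1), (20, .ofNat 3), (21, .ofNat 2), (22, .ofNat 1), (26, .ofNat 2), (27, .ofNat 2), (30, .ofNat 2), (31, .ofNat 2), (32, .ofNat 2), (34, .ofNat 3), (35, .ofNat 1), (37, .ofNat 1), (38, .ofNat 2), (39, .ofNat 1), (40, .ofNat 2), (41, .ofNat 1), (42, .ofNat 2), (43, .ofNat 1), (44, .ofNat 1), (45, .ofNat 2), (46, .ofNat 2), (47, .ofNat 1), (48, .ofNat 1)],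
    [(0, .ofNat 2), (1, .ofNat 2), (2, .ofNat 2), (3, .ofNat 3), (5, .ofNat 1), (6, .ofNat 1), (7, .ofNat 1), (8, .ofNat 2), (9, .ofNat 3), (10, .ofNat 2), (12, .ofNat 2), (13, .ofNat 1), (14, .ofNat 3), (15, .ofNat 2), (16, .ofNat 2), (17, .ofNat 1), (20, .ofNat 1), (22, .ofNat 2), (23, .ofNat 1), (26, .ofNat 2), (27, .ofNat 2), (30, .ofNat 2), (31, .ofNat 2), (32, .ofNat 2), (34, .ofNat 1), (35, .ofNat 3), (37, .ofNat 2), (38, .ofNat 2), (39, .ofNat 1), (40, .ofNat 2), (41, .ofNat 3), (42, .ofNat 2), (43, .ofNat 3), (44, .ofNat 3), (45, .ofNat 3), (46, .ofNat 2), (47, .ofNat 1), (48, .ofNat 1)],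
    [],
    [],
    [],
    [],
    [],
    [],
    [],
    [],
    [],
    [(0, .ofNat 3), (1, .ofNat 3), (2, .ofNat 3), (5, .ofNat 3), (8, .ofNat 3), (10, .ofNat 3), (12, .ofNat 2), (13, .ofNat 3), (14, .ofNat 2), (15, .ofNat 1), (16, .ofNat 3), (17, .ofNat 2), (18, .ofNat 2), (20, .ofNat 3), (21, .ofNat 3), (22, .ofNat 1), (26, .ofNat 2), (27, .ofNat 1), (28, .ofNat 2), (29, .ofNat 1), (30, .ofNat 1), (32, .ofNat 1), (33, .ofNat 1), (34, .ofNat 3), (37, .ofNat 2), (39, .ofNat 3), (40, .ofNat 1), (41, .ofNat 1), (42, .ofNat 2), (43, .ofNat 1), (45, .ofNat 3), (47, .ofNat 2), (48, .ofNat 3), (50, .ofNat 1), (53, .ofNat 2), (54, .ofNat 1), (55, .ofNat 1)],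
    [(23, .ofNat 1), (41, .ofNat 3), (42, .ofNat 3), (47, .ofNat 3)],
    [(42, .ofNat 3)],
    [],
    [],
    [],
    [],
    [],
    [],
    [],
    [],
    [],
    [],
    [(0, .ofNat 1), (1, .ofNat 1), (2, .ofNat 1), (3, .ofNat 1), (5, .ofNat 1), (6, .ofNat 3), (8, .ofNat 3), (9, .ofNat 3), (10, .ofNat 1), (11, .ofNat 2), (12, .ofNat 3), (13, .ofNat 1), (15, .ofNat 2), (16, .ofNat 2), (19, .ofNat 2), (23, .ofNat 1), (26, .ofNat 2), (27, .ofNat 2), (28, .ofNat 2), (30, .ofNat 2), (34, .ofNat 3), (36, .ofNat 3), (37, .ofNat 1), (39, .ofNat 3), (40, .ofNat 3), (42, .ofNat 2), (43, .ofNat 3), (44, .ofNat 2), (45, .ofNat 1), (47, .ofNat 2), (48, .ofNat 3), (50, .ofNat 3), (51, .ofNat 3)],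
    [(23, .ofNat 1), (42, .ofNat 3), (47, .ofNat 3)],
    [],
    [],
    [],
    [],
    [],
    [],
    [],
    [],
    [],
    [],
    [],
    [(0, .ofNat 3), (1, .ofNat 1), (2, .ofNat 1), (3, .ofNat 3), (5, .ofNat 3), (6, .ofNat 1), (7, .ofNat 1), (8, .ofNat 3), (9, .ofNat 1), (10, .ofNat 2), (11, .ofNat 2), (12, .ofNat 1), (13, .ofNat 1), (14, .ofNat 3), (15, .ofNat 2), (17, .ofNat 3), (18, .ofNat 2), (19, .ofNat 2), (20, .ofNat 1), (21, .ofNat 2), (22, .ofNat 2), (23, .ofNat 2), (26, .ofNat 2), (27, .ofNat 2), (28, .ofNat 2), (30, .ofNat 2), (34, .ofNat 1), (35, .ofNat 3), (36, .ofNat 2), (39, .ofNat 3), (40, .ofNat 2), (41, .ofNat 3), (42, .ofNat 3), (43, .ofNat 3), (44, .ofNat 3), (45, .ofNat 1), (47, .ofNat 2), (48, .ofNat 3), (50, .ofNat 3), (51, .ofNat 3)]]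
  y2 := [[(7, .ofNat 2), (11, .ofNat 2), (12, .ofNat 2), (13, .ofNat 2), (14, .ofNat 2), (15, .ofNat 2), (17, .ofNat 2), (18, .ofNat 2), (21, .ofNat 2), (24, .ofNat 2), (25, .ofNat 2), (27, .ofNat 2), (28, .ofNat 2), (30, .ofNat 2), (34, .ofNat 2), (35, .ofNat 2), (36, .ofNat 2), (40, .ofNat 2), (41, .ofNat 2), (44, .ofNat 2), (45, .ofNat 2), (46, .ofNat 2), (50, .ofNat 2), (51, .ofNat 2), (53, .ofNat 2), (55, .ofNat 2), (58, .ofNat 2), (59, .ofNat 2), (60, .ofNat 2), (62, .ofNat 2), (63, .ofNat 2), (65, .ofNat 2), (66, .ofNat 2), (67, .ofNat 2), (70, .ofNat 2), (74, .ofNat 2), (75, .ofNat 2)],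
    [],
    [(3, .ofNat 2), (5, .ofNat 2), (6, .ofNat 2), (9, .ofNat 2), (10, .ofNat 2), (11, .ofNat 2), (12, .ofNat 1), (14, .ofNat 1), (15, .ofNat 2), (16, .ofNat 3), (18, .ofNat 3), (20, .ofNat 1), (21, .ofNat 2), (22, .ofNat 2), (24, .ofNat 2), (26, .ofNat 2), (27, .ofNat 2), (29, .ofNat 2), (32, .ofNat 3), (33, .ofNat 1), (35, .ofNat 3), (36, .ofNat 3), (37, .ofNat 3), (39, .ofNat 3), (40, .ofNat 3), (42, .ofNat 3), (43, .ofNat 2), (44, .ofNat 1), (45, .ofNat 3), (49, .ofNat 1), (54, .ofNat 2), (56, .ofNat 2), (57, .ofNat 2), (58, .ofNat 2), (61, .ofNat 2), (63, .ofNat 2), (65, .ofNat 2), (66, .ofNat 2), (67, .ofNat 2), (68, .ofNat 2), (72, .ofNat 2), (75, .ofNat 2)],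
    [],
    [(1, .ofNat 2), (2, .ofNat 2), (3, .ofNat 2), (6, .ofNat 2), (7, .ofNat 2), (10, .ofNat 2), (11, .ofNat 2), (12, .ofNat 3), (14, .ofNat 3), (15, .ofNat 2), (16, .ofNat 1), (17, .ofNat 2), (18, .ofNat 1), (20, .ofNat 3), (21, .ofNat 2), (22, .ofNat 2), (23, .ofNat 2), (24, .ofNat 2), (26, .ofNat 2), (27, .ofNat 2), (28, .ofNat 2), (30, .ofNat 2), (32, .ofNat 3), (33, .ofNat 3), (34, .ofNat 2), (35, .ofNat 1), (36, .ofNat 3), (37, .ofNat 3), (39, .ofNat 1), (40, .ofNat 1), (42, .ofNat 3), (43, .ofNat 2), (44, .ofNat 1), (45, .ofNat 1), (49, .ofNat 1), (56, .ofNat 2), (58, .ofNat 2), (60, .ofNat 2), (61, .ofNat 2), (63, .ofNat 2), (65, .ofNat 2), (72, .ofNat 2), (75, .ofNat 2)],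
    [(0, .ofNat 2), (1, .ofNat 2), (6, .ofNat 2), (8, .ofNat 2), (9, .ofNat 2), (10, .ofNat 2), (12, .ofNat 1), (13, .ofNat 2), (14, .ofNat 1), (15, .ofNat 2), (16, .ofNat 3), (18, .ofNat 3), (20, .ofNat 1), (22, .ofNat 2), (24, .ofNat 2), (25, .ofNat 2), (27, .ofNat 2), (28, .ofNat 2), (29, .ofNat 2), (32, .ofNat 1), (33, .ofNat 1), (35, .ofNat 3), (36, .ofNat 3), (37, .ofNat 3), (38, .ofNat 2), (39, .ofNat 1), (40, .ofNat 1), (42, .ofNat 3), (44, .ofNat 1), (45, .ofNat 3), (47, .ofNat 2), (49, .ofNat 1), (53, .ofNat 2), (57, .ofNat 2), (58, .ofNat 2), (59, .ofNat 2), (64, .ofNat 2), (67, .ofNat 2), (70, .ofNat 2), (71, .ofNat 2), (72, .ofNat 2), (74, .ofNat 2), (75, .ofNat 2)],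
    [(1, .ofNat 2), (7, .ofNat 2), (9, .ofNat 2), (12, .ofNat 2), (17, .ofNat 2), (21, .ofNat 2), (23, .ofNat 2), (28, .ofNat 2), (29, .ofNat 2), (31, .ofNat 2), (32, .ofNat 2), (33, .ofNat 2), (35, .ofNat 2), (37, .ofNat 2), (38, .ofNat 2), (40, .ofNat 2), (41, .ofNat 2), (43, .ofNat 2), (44, .ofNat 2), (47, .ofNat 2), (48, .ofNat 2), (50, .ofNat 2), (51, .ofNat 2), (53, .ofNat 2), (59, .ofNat 2), (61, .ofNat 2), (66, .ofNat 2), (71, .ofNat 2), (72, .ofNat 2), (73, .ofNat 2), (74, .ofNat 2)],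
    [(1, .ofNat 2), (5, .ofNat 2), (6, .ofNat 2), (8, .ofNat 2), (9, .ofNat 2), (11, .ofNat 2), (14, .ofNat 2), (15, .ofNat 2), (18, .ofNat 2), (19, .ofNat 2), (20, .ofNat 2), (21, .ofNat 2), (23, .ofNat 2), (24, .ofNat 2), (25, .ofNat 2), (26, .ofNat 2), (29, .ofNat 2), (30, .ofNat 2), (31, .ofNat 2), (36, .ofNat 2), (38, .ofNat 2), (39, .ofNat 2), (41, .ofNat 2), (43, .ofNat 2), (44, .ofNat 2), (45, .ofNat 2), (46, .ofNat 2), (47, .ofNat 2), (50, .ofNat 2), (51, .ofNat 2), (52, .ofNat 2), (54, .ofNat 2), (58, .ofNat 2), (60, .ofNat 2), (62, .ofNat 2), (63, .ofNat 2), (64, .ofNat 2), (66, .ofNat 2), (68, .ofNat 2), (70, .ofNat 2), (73, .ofNat 2), (74, .ofNat 2), (75, .ofNat 2)],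
    [(5, .ofNat 2), (7, .ofNat 2), (9, .ofNat 2), (10, .ofNat 2), (11, .ofNat 2), (12, .ofNat 2), (22, .ofNat 2), (23, .ofNat 2), (24, .ofNat 2), (25, .ofNat 2), (26, .ofNat 2), (27, .ofNat 2), (28, .ofNat 2), (29, .ofNat 2), (37, .ofNat 2), (38, .ofNat 2), (40, .ofNat 2), (46, .ofNat 2), (47, .ofNat 2), (48, .ofNat 2), (52, .ofNat 2), (54, .ofNat 2), (55, .ofNat 2), (58, .ofNat 2), (60, .ofNat 2), (62, .ofNat 2), (63, .ofNat 2), (65, .ofNat 2), (66, .ofNat 2), (68, .ofNat 2), (70, .ofNat 2), (73, .ofNat 2), (75, .ofNat 2)],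
    [(0, .ofNat 2), (2, .ofNat 2), (4, .ofNat 2), (5, .ofNat 2), (8, .ofNat 2), (15, .ofNat 2), (21, .ofNat 2), (22, .ofNat 2), (25, .ofNat 2), (26, .ofNat 2), (29, .ofNat 2), (30, .ofNat 2), (31, .ofNat 2), (34, .ofNat 2), (35, .ofNat 2), (36, .ofNat 2), (39, .ofNat 2), (40, .ofNat 2), (41, .ofNat 2), (46, .ofNat 2), (47, .ofNat 2), (48, .ofNat 2), (50, .ofNat 2), (51, .ofNat 2), (52, .ofNat 2), (53, .ofNat 2), (54, .ofNat 2), (55, .ofNat 2), (58, .ofNat 2), (59, .ofNat 2), (60, .ofNat 2), (61, .ofNat 2), (62, .ofNat 2), (65, .ofNat 2), (71, .ofNat 2), (72, .ofNat 2), (73, .ofNat 2), (74, .ofNat 2)],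
    [(3, .ofNat 2), (5, .ofNat 2), (6, .ofNat 2), (9, .ofNat 2), (10, .ofNat 2), (12, .ofNat 2), (16, .ofNat 2), (17, .ofNat 2), (21, .ofNat 2), (22, .ofNat 2), (23, .ofNat 2), (39, .ofNat 2), (40, .ofNat 2), (41, .ofNat 2), (42, .ofNat 2), (47, .ofNat 2), (48, .ofNat 2)],
    [(3, .ofNat 2), (5, .ofNat 2), (6, .ofNat 2), (9, .ofNat 2), (10, .ofNat 2), (12, .ofNat 2), (16, .ofNat 2), (17, .ofNat 2), (18, .ofNat 2), (39, .ofNat 2), (40, .ofNat 2), (41, .ofNat 2), (42, .ofNat 2), (47, .ofNat 2), (48, .ofNat 2)],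
    [],
    [(0, .ofNat 2), (1, .ofNat 2), (3, .ofNat 2), (6, .ofNat 2), (7, .ofNat 2), (8, .ofNat 2), (9, .ofNat 2), (11, .ofNat 2), (12, .ofNat 1), (13, .ofNat 2), (14, .ofNat 1), (15, .ofNat 2), (16, .ofNat 1), (17, .ofNat 2), (18, .ofNat 3), (19, .ofNat 2), (20, .ofNat 3), (22, .ofNat 2), (23, .ofNat 2), (24, .ofNat 2), (25, .ofNat 2), (26, .ofNat 2), (29, .ofNat 2), (30, .ofNat 2), (32, .ofNat 1), (33, .ofNat 3), (34, .ofNat 2), (35, .ofNat 1), (36, .ofNat 3), (37, .ofNat 1), (38, .ofNat 2), (39, .ofNat 1), (40, .ofNat 3), (42, .ofNat 3), (43, .ofNat 2), (44, .ofNat 3), (45, .ofNat 1), (49, .ofNat 1), (50, .ofNat 2), (51, .ofNat 2), (52, .ofNat 2), (53, .ofNat 2), (54, .ofNat 2), (55, .ofNat 2), (59, .ofNat 2), (60, .ofNat 2), (61, .ofNat 2), (64, .ofNat 2), (67, .ofNat 2), (70, .ofNat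 2), (74, .ofNat 2), (75, .ofNat 2)],
    [(2, .ofNat 2), (9, .ofNat 2), (10, .ofNat 2), (12, .ofNat 3), (14, .ofNat 3), (15, .ofNat 2), (16, .ofNat 1), (18, .ofNat 1), (19, .ofNat 2), (20, .ofNat 3), (21, .ofNat 2), (22, .ofNat 2), (25, .ofNat 2), (28, .ofNat 2), (30, .ofNat 2), (31, .ofNat 2), (32, .ofNat 3), (33, .ofNat 3), (35, .ofNat 1), (36, .ofNat 1), (37, .ofNat 1), (39, .ofNat 3), (40, .ofNat 1), (41, .ofNat 2), (42, .ofNat 3), (43, .ofNat 2), (44, .ofNat 1), (45, .ofNat 1), (46, .ofNat 2), (48, .ofNat 2), (49, .ofNat 1), (50, .ofNat 2), (52, .ofNat 2), (55, .ofNat 2), (56, .ofNat 2), (59, .ofNat 2), (60, .ofNat 2), (61, .ofNat 2), (64, .ofNat 2), (67, .ofNat 2), (70, .ofNat 2), (72, .ofNat 2), (73, .ofNat 2)],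
    [(0, .ofNat 2), (2, .ofNat 2), (5, .ofNat 2), (7, .ofNat 2), (8, .ofNat 2), (9, .ofNat 2), (10, .ofNat 2), (11, .ofNat 2), (13, .ofNat 2), (14, .ofNat 2), (15, .ofNat 2), (16, .ofNat 2), (19, .ofNat 2), (20, .ofNat 2), (21, .ofNat 2), (22, .ofNat 2), (23, .ofNat 2), (26, .ofNat 2), (28, .ofNat 2), (30, .ofNat 2), (34, .ofNat 2), (36, .ofNat 2), (37, .ofNat 2), (38, .ofNat 2), (40, .ofNat 2), (41, .ofNat 2), (43, .ofNat 2), (47, .ofNat 2), (48, .ofNat 2), (50, .ofNat 2), (52, .ofNat 2), (53, .ofNat 2), (56, .ofNat 2), (61, .ofNat 2), (62, .ofNat 2), (63, .ofNat 2), (64, .ofNat 2), (65, .ofNat 2), (66, .ofNat 2), (69, .ofNat 2), (70, .ofNat 2), (72, .ofNat 2), (73, .ofNat 2), (75, .ofNat 2)],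
    [(1, .ofNat 2), (3, .ofNat 2), (4, .ofNat 2), (5, .ofNat 2), (8, .ofNat 2), (9, .ofNat 2), (10, .ofNat 2), (11, .ofNat 2), (17, .ofNat 2), (18, .ofNat 2), (22, .ofNat 2), (24, .ofNat 2), (25, .ofNat 2), (28, .ofNat 2), (31, .ofNat 2), (33, .ofNat 2), (34, .ofNat 2), (38, .ofNat 2), (39, .ofNat 2), (45, .ofNat 2), (46, .ofNat 2), (47, .ofNat 2), (51, .ofNat 2), (53, .ofNat 2), (56, .ofNat 2), (59, .ofNat 2), (60, .ofNat 2), (62, .ofNat 2), (65, .ofNat 2), (66, .ofNat 2), (67, .ofNat 2), (68, .ofNat 2), (71, .ofNat 2), (73, .ofNat 2), (74, .ofNat 2), (75, .ofNat 2)],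
    [],
    [(0, .ofNat 2), (1, .ofNat 2), (2, .ofNat 2), (3, .ofNat 2), (6, .ofNat 2), (12, .ofNat 2), (14, .ofNat 2), (15, .ofNat 2), (17, .ofNat 2), (18, .ofNat 2), (19, .ofNat 2), (22, .ofNat 2), (23, .ofNat 2), (28, .ofNat 2), (29, .ofNat 2), (30, .ofNat 2), (32, .ofNat 2), (37, .ofNat 2), (38, .ofNat 2), (41, .ofNat 2), (46, .ofNat 2), (47, .ofNat 2), (48, .ofNat 2), (52, .ofNat 2), (53, .ofNat 2), (54, .ofNat 2), (55, .ofNat 2), (61, .ofNat 2), (62, .ofNat 2), (63, .ofNat 2), (64, .ofNat 2), (65, .ofNat 2), (66, .ofNat 2)],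
    [(0, .ofNat 2), (3, .ofNat 2), (4, .ofNat 2), (6, .ofNat 2), (7, .ofNat 2), (8, .ofNat 2), (9, .ofNat 2), (12, .ofNat 1), (13, .ofNat 2), (14, .ofNat 1), (16, .ofNat 1), (17, .ofNat 2), (18, .ofNat 1), (19, .ofNat 2), (20, .ofNat 1), (24, .ofNat 2), (26, .ofNat 2), (32, .ofNat 1), (33, .ofNat 1), (35, .ofNat 3), (36, .ofNat 1), (37, .ofNat 3), (38, .ofNat 2), (39, .ofNat 1), (40, .ofNat 3), (42, .ofNat 1), (43, .ofNat 2), (44, .ofNat 3), (45, .ofNat 3), (49, .ofNat 1), (51, .ofNat 2), (55, .ofNat 2), (59, .ofNat 2), (61, .ofNat 2), (66, .ofNat 2), (70, .ofNat 2), (71, .ofNat 2), (72, .ofNat 2), (75, .ofNat 2)],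
    [(0, .ofNat 2), (1, .ofNat 2), (2, .ofNat 2), (3, .ofNat 2), (6, .ofNat 2), (7, .ofNat 2), (8, .ofNat 2), (9, .ofNat 2), (12, .ofNat 2), (13, .ofNat 2), (16, .ofNat 2), (18, .ofNat 2), (20, .ofNat 2), (22, .ofNat 2), (31, .ofNat 2), (32, .ofNat 2), (34, .ofNat 2), (35, .ofNat 2), (37, .ofNat 2), (38, .ofNat 2), (40, .ofNat 2), (43, .ofNat 2), (47, .ofNat 2), (50, .ofNat 2), (51, .ofNat 2), (53, .ofNat 2), (55, .ofNat 2)],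
    [(0, .ofNat 2), (1, .ofNat 2), (2, .ofNat 2), (5, .ofNat 2), (11, .ofNat 2), (14, .ofNat 2), (16, .ofNat 2), (17, .ofNat 2), (18, .ofNat 2), (22, .ofNat 2), (23, .ofNat 2), (31, .ofNat 2), (32, .ofNat 2), (37, .ofNat 2), (38, .ofNat 2), (39, .ofNat 2), (40, .ofNat 2), (41, .ofNat 2), (42, .ofNat 2), (44, .ofNat 2), (45, .ofNat 2), (48, .ofNat 2), (53, .ofNat 2), (55, .ofNat 2)],
    [(3, .ofNat 2), (5, .ofNat 2), (6, .ofNat 2), (7, .ofNat 2), (10, .ofNat 2), (14, .ofNat 2), (16, .ofNat 2), (19, .ofNat 2), (20, .ofNat 2), (22, .ofNat 2), (32, .ofNat 2), (35, .ofNat 2), (36, .ofNat 2), (38, .ofNat 2), (41, .ofNat 2), (44, .ofNat 2), (46, .ofNat 2), (48, .ofNat 2)],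
    [(3, .ofNat 2), (5, .ofNat 2), (6, .ofNat 2), (7, .ofNat 2), (11, .ofNat 2), (14, .ofNat 2), (17, .ofNat 2), (18, .ofNat 2), (19, .ofNat 2), (20, .ofNat 2), (22, .ofNat 2), (32, .ofNat 2), (35, .ofNat 2), (36, .ofNat 2), (38, .ofNat 2), (39, .ofNat 2), (40, .ofNat 2), (44, .ofNat 2), (45, .ofNat 2), (46, .ofNat 2), (47, .ofNat 2)],
    [],
    [],
    [(1, .ofNat 2), (3, .ofNat 2), (4, .ofNat 2), (6, .ofNat 2), (7, .ofNat 2), (10, .ofNat 2), (11, .ofNat 2), (12, .ofNat 2), (14, .ofNat 2), (15, .ofNat 2), (16, .ofNat 2), (18, .ofNat 2), (22, .ofNat 2), (24, .ofNat 2), (26, .ofNat 2), (27, .ofNat 2), (29, .ofNat 2), (32, .ofNat 2), (33, .ofNat 2), (35, .ofNat 2), (38, .ofNat 2), (39, .ofNat 2), (41, .ofNat 2), (43, .ofNat 2), (44, .ofNat 2), (47, .ofNat 2), (48, .ofNat 2), (50, .ofNat 2),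 (53, .ofNat 2), (54, .ofNat 2), (55, .ofNat 2), (57, .ofNat 2), (61, .ofNat 2), (63, .ofNat 2), (66, .ofNat 2), (68, .ofNat 2), (70, .ofNat 2), (71, .ofNat 2), (72, .ofNat 2), (74, .ofNat 2), (75, .ofNat 2)],
    [(0, .ofNat 2), (2, .ofNat 2), (4, .ofNat 2), (8, .ofNat 2), (9, .ofNat 2), (12, .ofNat 2), (13, .ofNat 2), (14, .ofNat 2), (15, .ofNat 2), (17, .ofNat 2), (18, .ofNat 2), (21, .ofNat 2), (22, .ofNat 2), (23, .ofNat 2), (24, .ofNat 2), (25, .ofNat 2), (28, .ofNat 2), (32, .ofNat 2), (34, .ofNat 2), (35, .ofNat 2), (36, .ofNat 2), (37, .ofNat 2), (38, .ofNat 2), (39, .ofNat 2), (41, .ofNat 2), (43, .ofNat 2), (44, .ofNat 2), (45, .ofNat 2), (46, .ofNat 2), (47, .ofNat 2), (52, .ofNat 2), (54, .ofNat 2), (55, .ofNat 2), (57, .ofNat 2), (58, .ofNat 2), (60, .ofNat 2), (62, .ofNat 2),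 (63, .ofNat 2), (65, .ofNat 2), (66, .ofNat 2), (68, .ofNat 2), (70, .ofNat 2), (72, .ofNat 2), (73, .ofNat 2), (74, .ofNat 2)],
    [(1, .ofNat 2), (3, .ofNat 2), (4, .ofNat 2), (7, .ofNat 2), (8, .ofNat 2), (11, .ofNat 2), (15, .ofNat 2), (18, .ofNat 2), (21, .ofNat 2), (22, .ofNat 2), (24, .ofNat 2), (28, .ofNat 2), (33, .ofNat 2), (34, .ofNat 2), (36, .ofNat 2), (38, .ofNat 2), (39, .ofNat 2), (42, .ofNat 2), (43, .ofNat 2), (45, .ofNat 2), (46, .ofNat 2), (47, .ofNat 2), (50, .ofNat 2), (51, .ofNat 2), (52, .ofNat 2), (53, .ofNat 2), (55, .ofNat 2), (57, .ofNat 2), (59, .ofNat 2), (61, .ofNat 2), (63, .ofNat 2), (64, .ofNat 2), (65, .ofNat 2), (66, .ofNat 2), (68, .ofNat 2), (70, .ofNat 2), (71, .ofNat 2), (72, .ofNat 2), (74, .ofNat 2), (75, .ofNat 2)],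
    [(3, .ofNat 2), (4, .ofNat 2), (5, .ofNat 2), (6, .ofNat 2), (8, .ofNat 2), (10, .ofNat 2), (11, .ofNat 2), (12, .ofNat 2), (13, .ofNat 2), (16, .ofNat 2), (17, .ofNat 2), (18, .ofNat 2), (22, .ofNat 2), (23, .ofNat 2), (25, .ofNat 2), (27, .ofNat 2), (28, .ofNat 2), (30, .ofNat 2), (36, .ofNat 2), (37, .ofNat 2), (42, .ofNat 2), (43, .ofNat 2), (46, .ofNat 2), (52, .ofNat 2), (54, .ofNat 2), (55, .ofNat 2), (57, .ofNat 2), (58, .ofNat 2), (60, .ofNat 2), (61, .ofNat 2), (63, .ofNat 2), (65, .ofNat 2)],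
    [(1, .ofNat 2), (3, .ofNat 2), (4, .ofNat 2), (5, .ofNat 2), (7, .ofNat 2), (10, .ofNat 2), (12, .ofNat 2), (14, .ofNat 2), (16, .ofNat 2), (17, .ofNat 2), (20, .ofNat 2), (21, .ofNat 2), (22, .ofNat 2), (23, .ofNat 2), (24, .ofNat 2), (26, .ofNat 2), (27, .ofNat 2), (28, .ofNat 2), (32, .ofNat 2), (39, .ofNat 2), (43, .ofNat 2), (44, .ofNat 2), (46, .ofNat 2), (52, .ofNat 2), (53, .ofNat 2), (55, .ofNat 2), (59, .ofNat 2), (62, .ofNat 2), (64, .ofNat 2), (65, .ofNat 2), (68, .ofNat 2), (70, .ofNat 2), (71, .ofNat 2), (72, .ofNat 2), (74, .ofNat 2), (75, .ofNat 2)],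
    [(2, .ofNat 2), (3, .ofNat 2), (4, .ofNat 2), (5, .ofNat 2), (6, .ofNat 2), (7, .ofNat 2), (8, .ofNat 2), (9, .ofNat 2), (11, .ofNat 2), (12, .ofNat 3), (14, .ofNat 1), (16, .ofNat 1), (17, .ofNat 2), (18, .ofNat 1), (19, .ofNat 2), (20, .ofNat 3), (21, .ofNat 2), (23, .ofNat 2), (25, .ofNat 2), (27, .ofNat 2), (28, .ofNat 2), (30, .ofNat 2), (32, .ofNat 3), (33, .ofNat 3), (35, .ofNat 1), (36, .ofNat 1), (37, .ofNat 3), (39, .ofNat 1), (40, .ofNat 3), (42, .ofNat 1), (44, .ofNat 3), (45, .ofNat 1), (46, .ofNat 2), (48, .ofNat 2), (49, .ofNat 1), (51, .ofNat 2), (52, .ofNat 2), (53, .ofNat 2), (55, .ofNat 2), (57, .ofNat 2), (58, .ofNat 2), (59, .ofNat 2), (60, .ofNat 2), (61, .ofNat 2), (62, .ofNat 2), (63, .ofNat 2), (65, .ofNat 2), (68, .ofNat 2), (71, .ofNat 2), (72, .ofNat 2), (73,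 .ofNat 2), (74, .ofNat 2)],
    [(0, .ofNat 2), (2, .ofNat 2), (3, .ofNat 2), (4, .ofNat 2), (6, .ofNat 2), (8, .ofNat 2), (12, .ofNat 2), (13, .ofNat 2), (14, .ofNat 2), (15, .ofNat 2), (18, .ofNat 2), (19, .ofNat 2), (22, .ofNat 2), (23, .ofNat 2), (24, .ofNat 2), (26, .ofNat 2), (27, .ofNat 2), (29, .ofNat 2), (30, .ofNat 2), (31, .ofNat 2), (32, .ofNat 2), (35, .ofNat 2), (36, .ofNat 2), (37, .ofNat 2), (42, .ofNat 2), (43, .ofNat 2), (44, .ofNat 2), (45, .ofNat 2), (47, .ofNat 2), (50, .ofNat 2), (51, .ofNat 2), (53, .ofNat 2), (54, .ofNat 2), (55, .ofNat 2), (59, .ofNat 2), (61, .ofNat 2), (63, .ofNat 2), (66, .ofNat 2), (68, .ofNat 2), (70, .ofNat 2), (71, .ofNat 2), (72, .ofNat 2), (74, .ofNat 2), (75, .ofNat 2)],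
    [(1, .ofNat 2), (2, .ofNat 2), (3, .ofNat 2), (4, .ofNat 2), (8, .ofNat 2), (9, .ofNat 2), (12, .ofNat 1), (13, .ofNat 2), (14, .ofNat 1), (15, .ofNat 2), (16, .ofNat 1), (17, .ofNat 2), (18, .ofNat 1), (20, .ofNat 3), (21, .ofNat 2), (24, .ofNat 2), (26, .ofNat 2), (30, .ofNat 2), (31, .ofNat 2), (32, .ofNat 3), (33, .ofNat 1), (35, .ofNat 1), (36, .ofNat 3), (37, .ofNat 1), (38, .ofNat 2), (39, .ofNat 1), (40, .ofNat 1), (42, .ofNat 3), (43, .ofNat 2), (44, .ofNat 3), (45, .ofNat 1), (46, .ofNat 2), (47, .ofNat 2), (49, .ofNat 1), (51, .ofNat 2), (52, .ofNat 2), (54, .ofNat 2), (61, .ofNat 2), (62, .ofNat 2), (64, .ofNat 2), (65, .ofNat 2), (66, .ofNat 2), (68, .ofNat 2), (70, .ofNat 2), (73, .ofNat 2), (75, .ofNat 2)],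
    [(0, .ofNat 2), (1, .ofNat 2), (2, .ofNat 2), (8, .ofNat 2), (17, .ofNat 2), (22, .ofNat 2), (23, .ofNat 2), (36, .ofNat 2), (37, .ofNat 2), (40, .ofNat 2), (41, .ofNat 2), (45, .ofNat 2), (47, .ofNat 2), (48, .ofNat 2), (50, .ofNat 2), (51, .ofNat 2)],
    [(0, .ofNat 2), (1, .ofNat 2), (2, .ofNat 2), (8, .ofNat 2), (17, .ofNat 2), (21, .ofNat 2), (36, .ofNat 2), (41, .ofNat 2), (42, .ofNat 2), (45, .ofNat 2), (47, .ofNat 2), (48, .ofNat 2), (50, .ofNat 2), (51, .ofNat 2)],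
    [],
    [],
    [],
    [(0, .ofNat 2), (1, .ofNat 2), (3, .ofNat 2), (6, .ofNat 2), (8, .ofNat 2), (9, .ofNat 2), (10, .ofNat 2), (12, .ofNat 3), (13, .ofNat 2), (14, .ofNat 1), (15, .ofNat 2), (16, .ofNat 3), (17, .ofNat 2), (18, .ofNat 3), (19, .ofNat 2), (20, .ofNat 1), (21, .ofNat 2), (22, .ofNat 2), (23, .ofNat 2), (24, .ofNat 2), (25, .ofNat 2), (30, .ofNat 2), (31, .ofNat 2), (32, .ofNat 3), (33, .ofNat 3), (34, .ofNat 2), (35, .ofNat 1), (36, .ofNat 1), (37, .ofNat 1), (39, .ofNat 3), (40, .ofNat 3), (41, .ofNat 2), (42, .ofNat 1), (43, .ofNat 2), (44, .ofNat 3), (45, .ofNat 3), (47, .ofNat 2), (48, .ofNat 2), (49, .ofNat 1), (51, .ofNat 2), (52, .ofNat 2), (53, .ofNat 2), (59, .ofNat 2), (60, .ofNat 2), (61, .ofNat 2), (64, .ofNat 2), (67, .ofNat 2), (70, .ofNat 2), (72, .ofNat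 2), (74, .ofNat 2), (75, .ofNat 2)],
    [(0, .ofNat 2), (2, .ofNat 2), (4, .ofNat 2), (5, .ofNat 2), (6, .ofNat 2), (7, .ofNat 2), (8, .ofNat 2), (9, .ofNat 2), (10, .ofNat 2), (12, .ofNat 2), (13, .ofNat 2), (14, .ofNat 2), (15, .ofNat 2), (17, .ofNat 2), (18, .ofNat 2), (19, .ofNat 2), (21, .ofNat 2), (22, .ofNat 2), (24, .ofNat 2), (25, .ofNat 2), (26, .ofNat 2), (27, .ofNat 2), (28, .ofNat 2), (30, .ofNat 2), (31, .ofNat 2), (35, .ofNat 2), (36, .ofNat 2), (39, .ofNat 2), (41, .ofNat 2), (43, .ofNat 2), (44, .ofNat 2), (47, .ofNat 2), (50, .ofNat 2), (56, .ofNat 2), (59, .ofNat 2), (60, .ofNat 2), (62, .ofNat 2), (65, .ofNat 2), (66, .ofNat 2), (67, .ofNat 2), (68, .ofNat 2), (71, .ofNat 2), (72, .ofNat 2), (73, .ofNat 2), (74, .ofNat 2)],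
    [],
    [(2, .ofNat 2), (7, .ofNat 2), (9, .ofNat 2), (10, .ofNat 2), (11, .ofNat 2), (12, .ofNat 1), (13, .ofNat 2), (14, .ofNat 3), (15, .ofNat 2), (16, .ofNat 1), (17, .ofNat 2), (18, .ofNat 1), (19, .ofNat 2), (20, .ofNat 3), (21, .ofNat 2), (22, .ofNat 2), (27, .ofNat 2), (29, .ofNat 2), (30, .ofNat 2), (32, .ofNat 1), (33, .ofNat 1), (34, .ofNat 2), (35, .ofNat 1), (36, .ofNat 1), (37, .ofNat 3), (38, .ofNat 2), (39, .ofNat 3), (40, .ofNat 1), (42, .ofNat 3), (43, .ofNat 2), (44, .ofNat 1), (45, .ofNat 1), (47, .ofNat 2), (48, .ofNat 2), (49, .ofNat 1), (52, .ofNat 2), (53, .ofNat 2), (54, .ofNat 2), (55, .ofNat 2), (63, .ofNat 2), (68, .ofNat 2), (74, .ofNat 2)],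
    [(0, .ofNat 2), (1, .ofNat 2), (2, .ofNat 2), (4, .ofNat 2), (5, .ofNat 2), (6, .ofNat 2), (7, .ofNat 2), (8, .ofNat 2), (9, .ofNat 2), (11, .ofNat 2), (13, .ofNat 2), (17, .ofNat 2), (18, .ofNat 2), (21, .ofNat 2), (22, .ofNat 2), (25, .ofNat 2), (26, .ofNat 2), (28, .ofNat 2), (32, .ofNat 2), (33, .ofNat 2), (34, .ofNat 2), (35, .ofNat 2), (39, .ofNat 2), (40, .ofNat 2), (42, .ofNat 2), (43, .ofNat 2), (47, .ofNat 2), (48, .ofNat 2), (50, .ofNat 2), (51, .ofNat 2), (54, .ofNat 2), (55, .ofNat 2), (56, .ofNat 2), (58, .ofNat 2), (60, .ofNat 2), (61, .ofNat 2), (64, .ofNat 2), (68, .ofNat 2)],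
    [(3, .ofNat 2), (5, .ofNat 2), (6, .ofNat 2), (8, .ofNat 2), (10, .ofNat 2), (13, .ofNat 2), (16, .ofNat 2), (17, .ofNat 2), (19, .ofNat 2), (22, .ofNat 2), (23, .ofNat 2), (26, .ofNat 2), (29, .ofNat 2), (30, .ofNat 2), (31, .ofNat 2), (36, .ofNat 2), (38, .ofNat 2), (39, .ofNat 2), (43, .ofNat 2), (46, .ofNat 2), (47, .ofNat 2), (50, .ofNat 2), (51, .ofNat 2), (53, .ofNat 2), (55, .ofNat 2)],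
    [(0, .ofNat 2), (1, .ofNat 2), (2, .ofNat 2), (3, .ofNat 2), (5, .ofNat 2), (6, .ofNat 2), (8, .ofNat 2), (9, .ofNat 2), (12, .ofNat 2), (13, .ofNat 2), (14, .ofNat 2), (15, .ofNat 2), (16, .ofNat 2), (20, .ofNat 2), (21, .ofNat 2), (26, .ofNat 2), (27, .ofNat 2), (32, .ofNat 2), (33, .ofNat 2), (37, .ofNat 2), (38, .ofNat 2), (39, .ofNat 2), (40, .ofNat 2), (41, .ofNat 2), (42, .ofNat 2), (43, .ofNat 2), (44, .ofNat 2), (48, .ofNat 2), (50, .ofNat 2), (55, .ofNat 2)],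
    [(0, .ofNat 2), (1, .ofNat 2), (2, .ofNat 2), (3, .ofNat 2), (6, .ofNat 2), (7, .ofNat 2), (8, .ofNat 2), (9, .ofNat 2), (10, .ofNat 2), (11, .ofNat 2), (12, .ofNat 2), (13, .ofNat 2), (17, .ofNat 2), (18, .ofNat 2), (20, .ofNat 2), (21, .ofNat 2), (23, .ofNat 2), (26, .ofNat 2), (29, .ofNat 2), (30, .ofNat 2), (34, .ofNat 2), (35, .ofNat 2), (37, .ofNat 2), (38, .ofNat 2), (39, .ofNat 2), (42, .ofNat 2), (43, .ofNat 2), (45, .ofNat 2), (48, .ofNat 2), (50, .ofNat 2), (51, .ofNat 2), (54, .ofNat 2), (55, .ofNat 2)],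
    [(0, .ofNat 2), (1, .ofNat 2), (2, .ofNat 2), (5, .ofNat 2), (7, .ofNat 2), (9, .ofNat 2), (11, .ofNat 2), (12, .ofNat 2), (16, .ofNat 2), (19, .ofNat 2), (20, .ofNat 2), (23, .ofNat 2), (26, .ofNat 2), (29, .ofNat 2), (30, .ofNat 2), (32, .ofNat 2), (34, .ofNat 2), (35, .ofNat 2), (36, .ofNat 2), (37, .ofNat 2), (41, .ofNat 2), (45, .ofNat 2), (46, .ofNat 2), (47, .ofNat 2), (48, .ofNat 2), (53, .ofNat 2), (54, .ofNat 2)],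
    [],
    [],
    [],
    [],
    [(0, .ofNat 2), (1, .ofNat 2), (3, .ofNat 2), (6, .ofNat 2), (8, .ofNat 2), (9, .ofNat 2), (10, .ofNat 2), (12, .ofNat 3), (14, .ofNat 1), (16, .ofNat 3), (18, .ofNat 3), (19, .ofNat 2), (20, .ofNat 3), (21, .ofNat 2), (22, .ofNat 2), (23, .ofNat 2), (24, .ofNat 2), (25, .ofNat 2), (27, .ofNat 2), (29, .ofNat 2), (32, .ofNat 3), (33, .ofNat 1), (35, .ofNat 3), (36, .ofNat 1), (37, .ofNat 1), (38, .ofNat 2), (39, .ofNat 3), (40, .ofNat 3), (42, .ofNat 1), (44, .ofNat 3), (45, .ofNat 3), (47, .ofNat 2), (48, .ofNat 2), (49, .ofNat 1), (52, .ofNat 2), (53, .ofNat 2), (59, .ofNat 2), (60, .ofNat 2), (61, .ofNat 2), (64, .ofNat 2), (67, .ofNat 2), (70, .ofNat 2), (71, .ofNat 2), (72, .ofNat 2), (74, .ofNat 2), (75, .ofNat 2)],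
    [(0, .ofNat 2), (1, .ofNat 2), (2, .ofNat 2), (3, .ofNat 2), (5, .ofNat 2), (7, .ofNat 2), (11, .ofNat 2), (17, .ofNat 2), (18, .ofNat 2), (21, .ofNat 2), (22, .ofNat 2), (24, .ofNat 2), (25, .ofNat 2), (26, .ofNat 2), (28, .ofNat 2), (29, .ofNat 2), (30, .ofNat 2), (31, .ofNat 2), (33, .ofNat 2), (34, .ofNat 2), (36, .ofNat 2), (38, .ofNat 2), (40, .ofNat 2), (42, .ofNat 2), (43, .ofNat 2), (45, .ofNat 2), (54, .ofNat 2), (57, .ofNat 2), (58, .ofNat 2), (60, .ofNat 2), (62, .ofNat 2), (63, .ofNat 2), (64, .ofNat 2), (66, .ofNat 2), (68, .ofNat 2), (70, .ofNat 2), (73, .ofNat 2), (75, .ofNat 2)],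
    [(1, .ofNat 2), (2, .ofNat 2), (4, .ofNat 2), (6, .ofNat 2), (8, .ofNat 2), (12, .ofNat 3), (14, .ofNat 3), (16, .ofNat 1), (18, .ofNat 1), (20, .ofNat 1), (22, .ofNat 2), (24, .ofNat 2), (26, .ofNat 2), (27, .ofNat 2), (29, .ofNat 2), (31, .ofNat 2), (32, .ofNat 1), (33, .ofNat 3), (35, .ofNat 3), (36, .ofNat 1), (37, .ofNat 3), (38, .ofNat 2), (39, .ofNat 1), (40, .ofNat 1), (41, .ofNat 2), (42, .ofNat 3), (44, .ofNat 1), (45, .ofNat 1), (46, .ofNat 2), (47, .ofNat 2), (49, .ofNat 1), (52, .ofNat 2), (55, .ofNat 2), (61, .ofNat 2), (62, .ofNat 2), (64, .ofNat 2), (65, .ofNat 2), (66, .ofNat 2), (68, .ofNat 2), (70, .ofNat 2), (73, .ofNat 2), (75, .ofNat 2)],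
    [(10, .ofNat 2), (11, .ofNat 2), (16, .ofNat 2), (17, .ofNat 2), (21, .ofNat 2), (22, .ofNat 2), (23, .ofNat 2), (26, .ofNat 2), (31, .ofNat 2), (33, .ofNat 2), (39, .ofNat 2), (45, .ofNat 2), (47, .ofNat 2), (48, .ofNat 2), (55, .ofNat 2)],
    [(3, .ofNat 2), (5, .ofNat 2), (6, .ofNat 2), (8, .ofNat 2), (10, .ofNat 2), (13, .ofNat 2), (16, .ofNat 2), (17, .ofNat 2), (18, .ofNat 2), (19, .ofNat 2), (21, .ofNat 2), (31, .ofNat 2), (36, .ofNat 2), (43, .ofNat 2), (46, .ofNat 2), (47, .ofNat 2), (50, .ofNat 2), (51, .ofNat 2), (53, .ofNat 2), (55, .ofNat 2)],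
    [(0, .ofNat 2), (1, .ofNat 2), (2, .ofNat 2), (3, .ofNat 2), (6, .ofNat 2), (8, .ofNat 2), (9, .ofNat 2), (12, .ofNat 2), (13, .ofNat 2), (14, .ofNat 2), (15, .ofNat 2), (16, .ofNat 2), (18, .ofNat 2), (20, .ofNat 2), (21, .ofNat 2), (22, .ofNat 2), (27, .ofNat 2), (29, .ofNat 2), (30, .ofNat 2), (32, .ofNat 2), (33, .ofNat 2), (35, .ofNat 2), (40, .ofNat 2), (41, .ofNat 2), (43, .ofNat 2), (44, .ofNat 2), (45, .ofNat 2), (47, .ofNat 2), (48, .ofNat 2), (50, .ofNat 2), (54, .ofNat 2), (55, .ofNat 2)],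
    [(0, .ofNat 2), (1, .ofNat 2), (2, .ofNat 2), (3, .ofNat 2), (5, .ofNat 2), (6, .ofNat 2), (7, .ofNat 2), (8, .ofNat 2), (9, .ofNat 2), (12, .ofNat 2), (13, .ofNat 2), (16, .ofNat 2), (18, .ofNat 2), (20, .ofNat 2), (21, .ofNat 2), (22, .ofNat 2), (23, .ofNat 2), (34, .ofNat 2), (39, .ofNat 2), (41, .ofNat 2), (42, .ofNat 2), (43, .ofNat 2), (45, .ofNat 2), (50, .ofNat 2), (51, .ofNat 2)],
    [(0, .ofNat 2), (1, .ofNat 2), (2, .ofNat 2), (3, .ofNat 2), (5, .ofNat 2), (6, .ofNat 2), (7, .ofNat 2), (8, .ofNat 2), (9, .ofNat 2), (12, .ofNat 2), (13, .ofNat 2), (16, .ofNat 2), (18, .ofNat 2), (20, .ofNat 2), (21, .ofNat 2), (22, .ofNat 2), (23, .ofNat 2), (34, .ofNat 2), (39, .ofNat 2), (40, .ofNat 2), (42, .ofNat 2), (43, .ofNat 2), (45, .ofNat 2), (50, .ofNat 2), (51, .ofNat 2)],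
    [],
    [],
    [],
    [],
    [],
    [(0, .ofNat 2), (1, .ofNat 2), (5, .ofNat 2), (8, .ofNat 2), (11, .ofNat 2), (12, .ofNat 1), (14, .ofNat 3), (16, .ofNat 3), (17, .ofNat 2), (18, .ofNat 1), (19, .ofNat 2), (20, .ofNat 1), (21, .ofNat 2), (22, .ofNat 2), (23, .ofNat 2), (24, .ofNat 2), (25, .ofNat 2), (27, .ofNat 2), (29, .ofNat 2), (32, .ofNat 3), (33, .ofNat 1), (35, .ofNat 1), (36, .ofNat 3), (37, .ofNat 1), (38, .ofNat 2), (39, .ofNat 3), (40, .ofNat 1), (41, .ofNat 2), (42, .ofNat 3), (43, .ofNat 2), (44, .ofNat 1), (45, .ofNat 3), (47, .ofNat 2), (49, .ofNat 1), (52, .ofNat 2), (53, .ofNat 2), (59, .ofNat 2), (60, .ofNat 2), (61, .ofNat 2), (62, .ofNat 2), (63, .ofNat 2), (64, .ofNat 2), (67, .ofNat 2), (70, .ofNat 2), (71, .ofNat 2), (72, .ofNat 2), (74, .ofNat 2), (75, .ofNat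 2)],
    [(0, .ofNat 2), (1, .ofNat 2), (3, .ofNat 2), (5, .ofNat 2), (6, .ofNat 2), (12, .ofNat 1), (13, .ofNat 2), (14, .ofNat 1), (16, .ofNat 3), (18, .ofNat 1), (20, .ofNat 1), (22, .ofNat 2), (28, .ofNat 2), (29, .ofNat 2), (31, .ofNat 2), (32, .ofNat 3), (33, .ofNat 3), (34, .ofNat 2), (35, .ofNat 3), (36, .ofNat 1), (37, .ofNat 1), (38, .ofNat 2), (39, .ofNat 3), (40, .ofNat 1), (41, .ofNat 2), (42, .ofNat 3), (44, .ofNat 3), (45, .ofNat 1), (49, .ofNat 1), (50, .ofNat 2), (51, .ofNat 2), (53, .ofNat 2), (59, .ofNat 2), (61, .ofNat 2), (66, .ofNat 2), (71, .ofNat 2), (72, .ofNat 2), (73, .ofNat 2), (74, .ofNat 2)],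
    [(1, .ofNat 2), (2, .ofNat 2), (5, .ofNat 2), (7, .ofNat 2), (8, .ofNat 2), (9, .ofNat 2), (10, .ofNat 2), (11, .ofNat 2), (12, .ofNat 1), (13, .ofNat 2), (14, .ofNat 1), (15, .ofNat 2), (16, .ofNat 3), (17, .ofNat 2), (18, .ofNat 1), (19, .ofNat 2), (20, .ofNat 1), (22, .ofNat 2), (23, .ofNat 2), (24, .ofNat 2), (25, .ofNat 2), (29, .ofNat 2), (31, .ofNat 2), (32, .ofNat 3), (33, .ofNat 3), (35, .ofNat 1), (36, .ofNat 3), (37, .ofNat 1), (38, .ofNat 2), (39, .ofNat 3), (40, .ofNat 3), (41, .ofNat 2), (42, .ofNat 1), (43, .ofNat 2), (44, .ofNat 3), (45, .ofNat 1), (46, .ofNat 2), (48, .ofNat 2), (49, .ofNat 1), (50, .ofNat 2), (52, .ofNat 2), (54, .ofNat 2), (55, .ofNat 2), (57, .ofNat 2), (58, .ofNat 2), (60, .ofNat 2), (62, .ofNat 2), (65, .ofNat 2), (66, .ofNat 2), (70, .ofNat 2), (73,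 .ofNat 2), (75, .ofNat 2)],
    [(0, .ofNat 2), (2, .ofNat 2), (4, .ofNat 2), (5, .ofNat 2), (7, .ofNat 2), (12, .ofNat 2), (13, .ofNat 2), (15, .ofNat 2), (16, .ofNat 2), (17, .ofNat 2), (18, .ofNat 2), (19, .ofNat 2), (20, .ofNat 2), (21, .ofNat 2), (22, .ofNat 2), (23, .ofNat 2), (24, .ofNat 2), (26, .ofNat 2), (27, .ofNat 2), (29, .ofNat 2), (30, .ofNat 2), (34, .ofNat 2), (36, .ofNat 2), (37, .ofNat 2), (38, .ofNat 2), (40, .ofNat 2), (41, .ofNat 2), (42, .ofNat 2), (43, .ofNat 2), (54, .ofNat 2), (59, .ofNat 2), (61, .ofNat 2), (63, .ofNat 2), (66, .ofNat 2), (68, .ofNat 2), (70, .ofNat 2), (71, .ofNat 2), (72, .ofNat 2), (74, .ofNat 2), (75, .ofNat 2)],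
    [(1, .ofNat 2), (2, .ofNat 2), (4, .ofNat 2), (6, .ofNat 2), (8, .ofNat 2), (12, .ofNat 3), (14, .ofNat 1), (16, .ofNat 3), (18, .ofNat 3), (20, .ofNat 1), (23, .ofNat 2), (24, .ofNat 2), (26, .ofNat 2), (27, .ofNat 2), (29, .ofNat 2), (31, .ofNat 2), (32, .ofNat 1), (33, .ofNat 3), (35, .ofNat 1), (36, .ofNat 1), (37, .ofNat 1), (38, .ofNat 2), (39, .ofNat 1), (40, .ofNat 3), (41, .ofNat 2), (42, .ofNat 3), (44, .ofNat 3), (45, .ofNat 3), (46, .ofNat 2), (49, .ofNat 1), (52, .ofNat 2), (55, .ofNat 2), (61, .ofNat 2), (62, .ofNat 2), (64, .ofNat 2), (65, .ofNat 2), (66, .ofNat 2), (68, .ofNat 2), (70, .ofNat 2), (73, .ofNat 2), (75, .ofNat 2)],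
    [(14, .ofNat 2), (16, .ofNat 2), (21, .ofNat 2), (22, .ofNat 2), (35, .ofNat 2), (36, .ofNat 2), (40, .ofNat 2), (41, .ofNat 2), (42, .ofNat 2), (44, .ofNat 2)],
    [(14, .ofNat 2), (16, .ofNat 2), (18, .ofNat 2), (22, .ofNat 2), (23, .ofNat 2), (35, .ofNat 2), (36, .ofNat 2), (40, .ofNat 2), (42, .ofNat 2), (44, .ofNat 2), (45, .ofNat 2), (47, .ofNat 2)],
    [],
    [],
    [],
    [],
    [],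
    [],
    [(0, .ofNat 2), (1, .ofNat 2), (9, .ofNat 2), (10, .ofNat 2), (12, .ofNat 3), (13, .ofNat 2), (14, .ofNat 1), (16, .ofNat 1), (17, .ofNat 2), (18, .ofNat 3), (20, .ofNat 1), (23, .ofNat 2), (28, .ofNat 2), (29, .ofNat 2), (31, .ofNat 2), (32, .ofNat 3), (33, .ofNat 3), (34, .ofNat 2), (35, .ofNat 3), (36, .ofNat 1), (37, .ofNat 1), (38, .ofNat 2), (39, .ofNat 1), (40, .ofNat 3), (41, .ofNat 2), (42, .ofNat 3), (43, .ofNat 2), (44, .ofNat 3), (45, .ofNat 3), (47, .ofNat 2), (48, .ofNat 2), (49, .ofNat 1), (50, .ofNat 2), (51, .ofNat 2), (53, .ofNat 2), (59, .ofNat 2), (61, .ofNat 2), (66, .ofNat 2), (71, .ofNat 2), (72, .ofNat 2), (73, .ofNat 2), (74, .ofNat 2)],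
    [(0, .ofNat 2), (1, .ofNat 2), (5, .ofNat 2), (6, .ofNat 2), (7, .ofNat 2), (8, .ofNat 2), (12, .ofNat 1), (14, .ofNat 3), (15, .ofNat 2), (16, .ofNat 1), (18, .ofNat 3), (19, .ofNat 2), (20, .ofNat 1), (22, .ofNat 2), (30, .ofNat 2), (31, .ofNat 2), (32, .ofNat 3), (33, .ofNat 1), (35, .ofNat 3), (36, .ofNat 3), (37, .ofNat 3), (39, .ofNat 3), (40, .ofNat 3), (41, .ofNat 2), (42, .ofNat 3), (44, .ofNat 1), (45, .ofNat 3), (47, .ofNat 2), (49, .ofNat 1), (52, .ofNat 2), (54, .ofNat 2), (55, .ofNat 2), (59, .ofNat 2), (62, .ofNat 2), (63, .ofNat 2), (64, .ofNat 2), (65, .ofNat 2), (71, .ofNat 2), (72, .ofNat 2), (73, .ofNat 2), (74, .ofNat 2)],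
    [(3, .ofNat 2), (5, .ofNat 2), (6, .ofNat 2), (9, .ofNat 2), (10, .ofNat 2), (14, .ofNat 2), (17, .ofNat 2), (18, .ofNat 2), (20, .ofNat 2), (21, .ofNat 2), (22, .ofNat 2), (23, .ofNat 2), (35, .ofNat 2), (36, .ofNat 2), (41, .ofNat 2), (42, .ofNat 2), (44, .ofNat 2), (45, .ofNat 2), (48, .ofNat 2)],
    [(3, .ofNat 2), (5, .ofNat 2), (6, .ofNat 2), (9, .ofNat 2), (10, .ofNat 2), (12, .ofNat 2), (16, .ofNat 2), (17, .ofNat 2), (18, .ofNat 2), (37, .ofNat 2), (39, .ofNat 2), (41, .ofNat 2), (42, .ofNat 2), (48, .ofNat 2)],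
    [(22, .ofNat 2), (23, .ofNat 2), (41, .ofNat 2), (42, .ofNat 2), (47, .ofNat 2)],
    [(23, .ofNat 2), (42, .ofNat 2)],
    [],
    [],
    [],
    [],
    [],
    [],
    [],
    [(0, .ofNat 2), (1, .ofNat 2), (4, .ofNat 2), (5, .ofNat 2), (7, .ofNat 2), (12, .ofNat 1), (13, .ofNat 2), (14, .ofNat 3), (16, .ofNat 1), (17, .ofNat 2), (18, .ofNat 3), (19, .ofNat 2), (20, .ofNat 3), (23, .ofNat 2), (25, .ofNat 2), (26, .ofNat 2), (27, .ofNat 2), (28, .ofNat 2), (29, .ofNat 2), (32, .ofNat 3), (33, .ofNat 3), (34, .ofNat 2), (35, .ofNat 1), (36, .ofNat 3), (37, .ofNat 3), (38, .ofNat 2), (39, .ofNat 3), (40, .ofNat 1), (41, .ofNat 2), (42, .ofNat 1), (43, .ofNat 2), (44, .ofNat 1), (45, .ofNat 3), (46, .ofNat 2), (49, .ofNat 1), (50, .ofNat 2), (52, .ofNat 2), (53, .ofNat 2), (54, .ofNat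 2), (58, .ofNat 2), (59, .ofNat 2), (60, .ofNat 2), (61, .ofNat 2), (62, .ofNat 2), (63, .ofNat 2), (65, .ofNat 2), (68, .ofNat 2), (71, .ofNat 2), (72, .ofNat 2), (73, .ofNat 2), (74, .ofNat 2)],
    [(5, .ofNat 2), (10, .ofNat 2), (12, .ofNat 2), (16, .ofNat 2), (17, .ofNat 2), (18, .ofNat 2), (23, .ofNat 2), (26, .ofNat 2), (29, .ofNat 2), (31, .ofNat 2), (32, .ofNat 2), (33, .ofNat 2), (35, .ofNat 2), (40, .ofNat 2), (41, .ofNat 2), (45, .ofNat 2), (48, .ofNat 2), (54, .ofNat 2), (55, .ofNat 2)],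
    [(0, .ofNat 2), (1, .ofNat 2), (2, .ofNat 2), (5, .ofNat 2), (9, .ofNat 2), (10, .ofNat 2), (12, .ofNat 2), (14, .ofNat 2), (15, .ofNat 2), (17, .ofNat 2), (19, .ofNat 2), (20, .ofNat 2), (22, .ofNat 2), (23, .ofNat 2), (27, .ofNat 2), (29, .ofNat 2), (30, .ofNat 2), (31, .ofNat 2), (32, .ofNat 2), (35, .ofNat 2), (36, .ofNat 2), (38, .ofNat 2), (39, .ofNat 2), (40, .ofNat 2), (41, .ofNat 2), (44, .ofNat 2), (45, .ofNat 2), (46, .ofNat 2), (47, .ofNat 2), (48, .ofNat 2), (51, .ofNat 2), (53, .ofNat 2), (54, .ofNat 2)],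
    [(0, .ofNat 2), (1, .ofNat 2), (2, .ofNat 2), (3, .ofNat 2), (5, .ofNat 2), (6, .ofNat 2), (7, .ofNat 2), (8, .ofNat 2), (9, .ofNat 2), (12, .ofNat 2), (13, .ofNat 2), (16, .ofNat 2), (18, .ofNat 2), (20, .ofNat 2), (21, .ofNat 2), (22, .ofNat 2), (32, .ofNat 2), (34, .ofNat 2), (39, .ofNat 2), (43, .ofNat 2), (45, .ofNat 2), (47, .ofNat 2), (50, .ofNat 2), (51, .ofNat 2)],
    [(0, .ofNat 2), (1, .ofNat 2), (2, .ofNat 2), (3, .ofNat 2), (5, .ofNat 2), (6, .ofNat 2), (7, .ofNat 2), (8, .ofNat 2), (9, .ofNat 2), (12, .ofNat 2), (13, .ofNat 2), (16, .ofNat 2), (18, .ofNat 2), (20, .ofNat 2), (21, .ofNat 2), (22, .ofNat 2), (33, .ofNat 2), (34, .ofNat 2), (39, .ofNat 2), (40, .ofNat 2), (42, .ofNat 2), (43, .ofNat 2), (45, .ofNat 2), (47, .ofNat 2), (50, .ofNat 2), (51, .ofNat 2)],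
    [],
    [],
    [],
    [],
    [],
    [],
    [],
    [],
    [(0, .ofNat 2), (1, .ofNat 2), (2, .ofNat 2), (5, .ofNat 2), (9, .ofNat 2), (10, .ofNat 2), (12, .ofNat 2), (13, .ofNat 2), (16, .ofNat 2), (17, .ofNat 2), (18, .ofNat 2), (19, .ofNat 2), (21, .ofNat 2), (23, .ofNat 2), (26, .ofNat 2), (29, .ofNat 2), (32, .ofNat 2), (34, .ofNat 2), (35, .ofNat 2), (36, .ofNat 2), (38, .ofNat 2), (39, .ofNat 2), (43, .ofNat 2), (45, .ofNat 2), (46, .ofNat 2), (50, .ofNat 2), (53, .ofNat 2), (54, .ofNat 2)],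
    [(0, .ofNat 2), (1, .ofNat 2), (2, .ofNat 2), (8, .ofNat 2), (12, .ofNat 2), (14, .ofNat 2), (16, .ofNat 2), (17, .ofNat 2), (18, .ofNat 2), (21, .ofNat 2), (22, .ofNat 2), (35, .ofNat 2), (39, .ofNat 2), (40, .ofNat 2), (41, .ofNat 2), (44, .ofNat 2), (47, .ofNat 2), (48, .ofNat 2), (50, .ofNat 2), (51, .ofNat 2)],
    [(3, .ofNat 2), (5, .ofNat 2), (6, .ofNat 2), (7, .ofNat 2), (9, .ofNat 2), (11, .ofNat 2), (12, .ofNat 2), (13, .ofNat 2), (14, .ofNat 2), (17, .ofNat 2), (18, .ofNat 2), (20, .ofNat 2), (22, .ofNat 2), (34, .ofNat 2), (35, .ofNat 2), (37, .ofNat 2), (39, .ofNat 2), (41, .ofNat 2), (43, .ofNat 2), (44, .ofNat 2), (47, .ofNat 2), (48, .ofNat 2)],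
    [(3, .ofNat 2), (5, .ofNat 2), (6, .ofNat 2), (7, .ofNat 2), (9, .ofNat 2), (13, .ofNat 2), (14, .ofNat 2), (17, .ofNat 2), (20, .ofNat 2), (23, .ofNat 2), (34, .ofNat 2), (35, .ofNat 2), (39, .ofNat 2), (41, .ofNat 2), (43, .ofNat 2), (44, .ofNat 2), (45, .ofNat 2), (47, .ofNat 2), (48, .ofNat 2)],
    [],
    [],
    [],
    [],
    [],
    [],
    [],
    [],
    [],
    [(0, .ofNat 2), (1, .ofNat 2), (2, .ofNat 2), (5, .ofNat 2), (8, .ofNat 2), (10, .ofNat 2), (13, .ofNat 2), (15, .ofNat 2), (16, .ofNat 2), (20, .ofNat 2), (21, .ofNat 2), (22, .ofNat 2), (27, .ofNat 2), (29, .ofNat 2), (30, .ofNat 2), (32, .ofNat 2), (33, .ofNat 2), (34, .ofNat 2), (39, .ofNat 2), (40, .ofNat 2), (41, .ofNat 2), (43, .ofNat 2), (45, .ofNat 2), (48, .ofNat 2), (50, .ofNat 2), (54, .ofNat 2), (55, .ofNat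 2)],
    [(23, .ofNat 2), (41, .ofNat 2), (42, .ofNat 2), (47, .ofNat 2)],
    [(42, .ofNat 2)],
    [],
    [],
    [],
    [],
    [],
    [],
    [],
    [],
    [],
    [],
    [(0, .ofNat 2), (1, .ofNat 2), (2, .ofNat 2), (3, .ofNat 2), (5, .ofNat 2), (6, .ofNat 2), (8, .ofNat 2), (9, .ofNat 2), (10, .ofNat 2), (12, .ofNat 2), (13, .ofNat 2), (23, .ofNat 2), (34, .ofNat 2), (36, .ofNat 2), (37, .ofNat 2), (39, .ofNat 2), (40, .ofNat 2), (43, .ofNat 2), (45, .ofNat 2), (48, .ofNat 2), (50, .ofNat 2), (51, .ofNat 2)],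
    [(23, .ofNat 2), (42, .ofNat 2), (47, .ofNat 2)],
    [],
    [],
    [],
    [],
    [],
    [],
    [],
    [],
    [],
    [],
    [],
    [(0, .ofNat 2), (1, .ofNat 2), (2, .ofNat 2), (3, .ofNat 2), (5, .ofNat 2), (6, .ofNat 2), (7, .ofNat 2), (8, .ofNat 2), (9, .ofNat 2), (12, .ofNat 2), (13, .ofNat 2), (14, .ofNat 2), (17, .ofNat 2), (20, .ofNat 2), (34, .ofNat 2), (35, .ofNat 2), (39, .ofNat 2), (41, .ofNat 2), (42, .ofNat 2), (43, .ofNat 2), (44, .ofNat 2), (45, .ofNat 2), (48, .ofNat 2), (50, .ofNat 2), (51, .ofNat 2)]]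

def ix0 : List ℕ := [0, 1, 2, 3, 4, 5]

def ix1 : List ℕ := [6, 7, 8, 9, 10, 11]

def ix2 : List ℕ := [13, 14, 15, 16, 17, 18]

def ix3 : List ℕ := [19, 20, 21, 22, 23, 26]

def ix4 : List ℕ := [27, 28, 29, 30, 31, 32]

def ix5 : List ℕ := [33, 34, 35, 39, 40, 41]

def ix6 : List ℕ := [42, 43, 44, 45, 46, 47]

def ix7 : List ℕ := [52, 53, 54, 55, 56, 57]

def ix8 : List ℕ := [58, 59, 65, 66, 67, 68]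

def ix9 : List ℕ := [69, 70, 71, 78, 79, 80]

def ix10 : List ℕ := [81, 82, 83, 91, 92, 93]

def ix11 : List ℕ := [94, 95, 104, 105, 106, 107]

def ix12 : List ℕ := [117, 118, 119, 130, 131, 143]

end Cfsg.Agent.Lib.Helper47G24P2C
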