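import Cfsg.Agent.Lib.Helper17PCTab

set_option autoImplicit false
set_option maxRecDepth 1000000
set_option maxHeartbeats 0

namespace Cfsg.Agent.Lib.Helper47G24P3C

open Cfsg Cfsg.Agent.Lib.Helper63PCDefs Cfsg.Agent.Lib.Helper63PCTabDefs 

def sp0 : List (ℕ × List ℕ × List ℕ) := [(0, [1, 1], [1, 0]),
    (1, [0, 0, 0], []),
    (1, [2, 1, 2, 2, 1, 1], []),
    (2, [1, 1, 1], []),
    (2, [1, 0, 2, 2, 1, 1, 0, 0], []),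
    (2, [2, 0, 2, 2, 0, 0], [])]

def rv0 : List (List ℤ) := [[.ofNat 0, .negSucc 2, .ofNat 0, .ofNat 0, .ofNat 0, .negSucc 2, .ofNat 0, .ofNat 0, .negSucc 0, .ofNat 0, .ofNat 0, .ofNat 0, .ofNat 0, .ofNat 0, .ofNat 0],
    [.negSucc 0, .ofNat 0, .negSucc 5, .ofNat 0, .ofNat 0, .ofNat 0, .ofNat 0, .ofNat 0, .negSucc 0, .negSucc 2, .ofNat 0, .ofNat 0, .ofNat 0, .ofNat 0, .ofNat 0],
    [.ofNat 0, .ofNat 0, .ofNat 0, .ofNat 0, .ofNat 0, .negSucc 0, .ofNat 0, .ofNat 0, .negSucc 0, .ofNat 0, .negSucc 2, .negSucc 2, .ofNat 0, .ofNat 0, .ofNat 0],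
    [.ofNat 0, .ofNat 0, .ofNat 0, .ofNat 0, .negSucc 0, .ofNat 0, .ofNat 0, .ofNat 0, .ofNat 0, .ofNat 0, .ofNat 0, .ofNat 0, .ofNat 0, .negSucc 2, .ofNat 0],
    [.ofNat 0, .negSucc 0, .ofNat 0, .ofNat 0, .negSucc 0, .negSucc 0, .ofNat 0, .ofNat 0, .negSucc 0, .ofNat 0, .ofNat 0, .ofNat 0, .negSucc 2, .negSucc 2, .negSucc 1],
    [.ofNat 0, .ofNat 0, .negSucc 0, .ofNat 0, .ofNat 0, .ofNat 0, .ofNat 0, .ofNat 0, .negSucc 0, .ofNat 0, .ofNat 0, .ofNat 0, .negSucc 2, .ofNat 0, .negSucc 2]]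

def C : Cert where
  D := { p := 3, n := 3, pwL := [[], [], []], cmL := [[], [2], [], [], [], [], [], [], []] }
  k := 0
  f := 18
  R := 3
  fus := [([[0], [1], [2]], [[0, 0, 2], [1], [2, 2]]), ([[0], [1], [2]], [[0], [1, 1], [2, 2]])]
  specs := sp0
  relV := rv0
  lam := [[.ofNat 0, .ofNat 0, .ofNat 0, .ofNat 0, .ofNat 0, .ofNat 0, .ofNat 0, .ofNat 0, .ofNat 0, .ofNat 0, .ofNat 0, .ofNat 0, .ofNat 0, .ofNat 0, .ofNat 0],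
    [.ofNat 0, .ofNat 0, .ofNat 0, .ofNat 0, .ofNat 0, .ofNat 0, .ofNat 0, .ofNat 0, .ofNat 0, .ofNat 0, .ofNat 0, .ofNat 0, .ofNat 0, .ofNat 0, .ofNat 0],
    [.ofNat 0, .ofNat 0, .ofNat 0, .ofNat 0, .ofNat 0, .ofNat 0, .ofNat 0, .ofNat 0, .ofNat 0, .ofNat 0, .ofNat 0, .ofNat 0, .ofNat 0, .ofNat 0, .ofNat 1]]
  j0 := 0
  mu := [.ofNat 0, .ofNat 0, .ofNat 0, .ofNat 0, .ofNat 0, .ofNat 0, .ofNat 0, .ofNat 0, .ofNat 0]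
  y1 := [[(0, .ofNat 1), (1, .ofNat 2)],
    [(2, .ofNat 1), (3, .ofNat 1), (4, .ofNat 2)],
    [(0, .ofNat 1), (5, .ofNat 2)],
    [],
    [(3, .ofNat 2)],
    [(0, .ofNat 1), (2, .ofNat 2)],
    [],
    [],
    [(0, .ofNat 2)]]
  y2 := [[(0, .ofNat 1), (1, .ofNat 2)],
    [(2, .ofNat 1), (3, .ofNat 1), (4, .ofNat 2)],
    [(0, .ofNat 1), (5, .ofNat 2)],
    [],
    [(3, .ofNat 2)],
    [(0, .ofNat 1), (2, .ofNat 2)],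
    [],
    [],
    [(0, .ofNat 2)]]

def ix0 : List ℕ := [0, 1, 2, 4, 5, 8]

end Cfsg.Agent.Lib.Helper47G24P3C
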