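import Mathlib
import Cfsg.Agent.Lib.Helper18F4
import Cfsg.Agent.Lib.Helper7SpFrame
import Cfsg.Agent.Lib.Helper7SpCenter
import Cfsg.Agent.Lib.Helper47Idx2

set_option autoImplicit false
set_option maxRecDepth 100000

/-! The symplectic group `Sp₄(𝔽₄)` acting on the 85 points of the projective space. -/

namespace Cfsg.Agent.Lib.Helper47HeSp

open Cfsg.Agent.Lib.Helper18F4 Cfsg.Agent.Lib.Helper47Idx2

abbrev V : Type := Fin 2 ⊕ Fin 2 → F4c

def cd (x : F4c) : ℕ := (if x.a then 1 else 0) + (if x.b then 2 else 0)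
def dc (v : ℕ) : F4c := ⟨v % 2 == 1, v / 2 % 2 == 1⟩
def ix : Fin 2 ⊕ Fin 2 → ℕ
  | .inl a => a
  | .inr a => 2 + a
def code (v : V) : ℕ :=
  cd (v (.inl 0)) + 4 * cd (v (.inl 1)) + 16 * cd (v (.inr 0)) + 64 * cd (v (.inr 1))
def ptTab : ℕ := 0xfdbd7d3dedad6d2ddd9d5d1dcd8d4d0df9b97939e9a96929d9995919c9894909f5b57535e5a56525d5955515c5854505f1b17131e1a16121d1915111c1814101f4b47434e4a46424d4945414c4844404d090501040
def labTab : ℕ := 0x54fea0a94be20f753da14347d20264ee812a4ae00b852d810446d0035d0e60e9ccde137d4d60c3c8ce044cde4068c9dc076d1d4082c5cc0058fa98c98ba18e7939993387918468ea794a8a9f8a892978f4868f82610a590a0c9d92814958b4088d8350da3889099b8671193873058b80570290b96c21107741912368110366f2713a6b1f0c873170e4670f045f1250f9ed1d147f5150a3e90d024ee23078ea1b086f213062e60b0052f688992b608d7335891327508162e6691a2a5e89832568d4264e815b0648d9ac5c917b454893a84c814ad62858a95a856b152852a54a80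
def pt (j : Fin 85) : V := fun i => dc (Nat.land (Nat.shiftRight ptTab (8 * j + 2 * ix i)) 3)
def lab (v : V) : Fin 85 := ⟨look labTab (code v) % 85, Nat.mod_lt _ (by norm_num)⟩

def PL : ProjLab F4c (Fin 2 ⊕ Fin 2) 85 where
  pt := pt
  lab := lab
  lab_pt := by decide +kernel
  pt_ne := by decide +kernel
  pt_lab := by decide +kernel
  lab_smul := by decide +kernel


abbrev Sp : Type := Matrix.symplecticGroup (Fin 2) F4c

def al : Sp →* Equiv.Perm (Fin 85) := PL.toPerm (Matrix.symplecticGroup (Fin 2) F4c).subtype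

theorem al_apply (A : Sp) (j : Fin 85) : al A j = lab (A.1.mulVec (pt j)) := rfl

theorem al_injective : Function.Injective al := by
  rw [injective_iff_map_eq_one]
  intro A hA
  have h1 := PL.fix_of_toPerm_eq_one (Matrix.symplecticGroup (Fin 2) F4c).subtype A hA
  have h2 := Cfsg.Agent.Lib.Helper7SpCenter.eq_scalar_of_fix A.1 h1 (Sum.inl 0)
  have h3 : (A.1 (Sum.inl 0) (Sum.inl 0)) ^ 2 = 1 := by
    rw [← Cfsg.Agent.Lib.Helper7SpCenter.scalar_mem_iff (m := 2) (by norm_num), ← h2]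
    exact A.2
  have h4 : ∀ x : F4c, x ^ 2 = 1 → x = 1 := by decide
  apply Subtype.ext
  rw [h2, h4 _ h3]
  simp

theorem card_Sp : Nat.card Sp = 979200 := by
  rw [Cfsg.Agent.Lib.Helper7SpFrame.card_symplecticGroup, F4c.card]
  decide

instance : Finite Sp := Nat.finite_of_card_ne_zero (by rw [card_Sp]; norm_num)

def w : F4c := ⟨false, true⟩

def tb0 : ℕ := 0x1d72368c33938612968a0480ed8b9ba1085c94245ebc1c7a9886f18c0466b963006c95b15a054a750980242929f8f3eeaa4f88685358a14aa32731f1040ee94d82644b88e18b345e09525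
def ti0 : ℕ := 0x1d72368c33938612968a0480ed8b9ba1085c94245ebc1c7a9886f18c0466b963006c95b15a054a750980242929f8f3eeaa4f88685358a14aa32731f1040ee94d82644b88e18b345e09525
def g0 : Equiv.Perm (Fin 85) := permOf 85 tb0 ti0 (by decide +kernel)
def tb1 : ℕ := 0x458d1e449952e64d9d3e851a54ea3f80f5f43890613770d5b3b78e5d3466c98b05eb96ac56a94a84e9929a3270d962a60ba2429119e3a80f8a12305860a20392225098e1a407840608080
def ti1 : ℕ := 0x458d1e449952e64d9d3e851a54ea3f80f5f43890613770d5b3b78e5d3466c98b05eb96ac56a94a84e9929a3270d962a60ba2429119e3a80f8a12305860a20392225098e1a407840608080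
def g1 : Equiv.Perm (Fin 85) := permOf 85 tb1 ti1 (by decide +kernel)
def tb2 : ℕ := 0x2398f89c33938653787873358b821ba1085bb414884b808892b60c819790d83b731184477058327509801fa8e87bf4928a4f886852f68a811da2e46bd43248cd82644ad62a40c56a542a5
def ti2 : ℕ := 0x2398f89c33938653787873358b821ba1085bb414884b808892b60c819790d83b731184477058327509801fa8e87bf4928a4f886852f68a811da2e46bd43248cd82644ad62a40c56a542a5
def g2 : Equiv.Perm (Fin 85) := permOf 85 tb2 ti2 (by decide +kernel)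
def tb3 : ℕ := 0x22804a5b62f2038da275cce190ce188cdc4533c39e3d228648b8540d8466b963006c95b15a054a7509801f1f51d1448fe5456a542c49e28d202149d9346fa64770583419a24cb45e09525
def ti3 : ℕ := 0x22804a5b62f2038da275cce190ce188cdc4533c39e3d228648b8540d8466b963006c95b15a054a7509801f1f51d1448fe5456a542c49e28d202149d9346fa64770583419a24cb45e09525
def g3 : Equiv.Perm (Fin 85) := permOf 85 tb3 ti3 (by decide +kernel)
def tb4 : ℕ := 0x4172d5ec376ddfc478e204274d9f4ca122a499b168cb9f1e9ca9d1a92f669d5b068a162d62954ae6499510282060f261c58e241850d22144a33e6cba44070c213a64aa23c68b030808001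
def ti4 : ℕ := 0x4172d5ec376ddfc478e204274d9f4ca122a499b168cb9f1e9ca9d1a92f669d5b068a162d62954ae6499510282060f261c58e241850d22144a33e6cba44070c213a64aa23c68b030808001
def g4 : Equiv.Perm (Fin 85) := permOf 85 tb4 ti4 (by decide +kernel)
def tb5 : ℕ := 0x219245ed0370858e787a9b71118c1c87386393a368cb248a00790d8b8360c95b308b962d62054a84e9801f1eeaa144929fc49e685456a14aa020ee9134731f419a644c77018b2f6809525
def ti5 : ℕ := 0x219245ed0370858e787a9b71118c1c87386393a368cb248a00790d8b8360c95b308b962d62054a84e9801f1eeaa144929fc49e685456a14aa020ee9134731f419a644c77018b2f6809525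
def g5 : Equiv.Perm (Fin 85) := permOf 85 tb5 ti5 (by decide +kernel)
def tb6 : ℕ := 0x3a72f1dc3890613d7cfe0386ed9a8a1230593284490d1c3c8080e182af5ab982c54a55b166d1926509d2a4428d11e3e750193868d972c60aca93325d3a94694d9d3e8488f1a2810808180
def ti6 : ℕ := 0xf2034709142c61222509880e182cfa136749952e652a3529c88f1a2aa56a563168c99b05abd7274ca12a4448519d3e80f1b3268e16305cabf80f5f3974ede4283121b86ed9a830208200
def g6 : Equiv.Perm (Fin 85) := permOf 85 tb6 ti6 (by decide +kernel)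
def tbs : ℕ := 0x3f80f9ec3890a0bb78e9cb770d9acfa13a6d3a94a8cb992a4c7911a2af60b96b368c98ab58a94a7509929f4078ea3488909b3868c973058a8f2038693284888b182848710182830808080
def sg : Equiv.Perm (Fin 85) := permOf 85 tbs tbs (by decide +kernel)
def tid : ℕ := 0x54a74a8d09f3a6cc972a4c88f1a2c4870a0c07ef9ebc76e9cb86ed9ab466c98b05eb96ac56a94a84e992a446890a03e78e9c3668c982e58a9426488901e3868c16284880e182840608080
def tabs : ℕ → ℕ
  | 0 => tb0 | 1 => tb1 | 2 => tb2 | 3 => tb3 | 4 => tb4 | 5 => tb5 | 6 => tb6 | _ => tid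
def gens : ℕ → Equiv.Perm (Fin 85)
  | 0 => g0 | 1 => g1 | 2 => g2 | 3 => g3 | 4 => g4 | 5 => g5 | 6 => g6 | _ => 1

theorem hg : ∀ k (j : Fin 85), ((gens k j : Fin 85) : ℕ) = look (tabs k) j := by
  intro k j
  match k with
  | 0 => rfl
  | 1 => rfl
  | 2 => rfl
  | 3 => rfl
  | 4 => rfl
  | 5 => rfl
  | 6 => rfl
  | _ + 7 =>
    show (j : ℕ) = look tid j
    revert j
    decide +kernel

/-- the group generated by the seven permutations -/
def Hb : Subgroup (Equiv.Perm (Fin 85)) := Subgroup.closure (Set.range gens)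

def PP (x : Equiv.Perm (Fin 85)) : Prop := (∃ s, x = al s) ∨ ∃ s, x = al s * sg

theorem PP_of (z : Equiv.Perm (Fin 85)) (M : Matrix (Fin 2 ⊕ Fin 2) (Fin 2 ⊕ Fin 2) F4c)
    (hM : M * Matrix.J (Fin 2) F4c * M.transpose = Matrix.J (Fin 2) F4c) (e : Bool)
    (h : ∀ j : Fin 85, z j = lab (M.mulVec (pt (if e then sg j else j)))) : PP z := by
  cases e with
  | false => exact Or.inl ⟨⟨M, SymplecticGroup.mem_iff.2 hM⟩, Equiv.ext h⟩
  | true => exact Or.inr ⟨⟨M, SymplecticGroup.mem_iff.2 hM⟩, Equiv.ext h⟩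

theorem pp0_0 : PP (g0) :=
  PP_of _ (Matrix.fromBlocks !![1, 1; 0, 0] !![1, 1; 1, 1] !![0, 0; 0, 1] !![1, 0; 1, 0]) (by decide +kernel) false (by decide +kernel)
theorem pp0_1 : PP (sg * g0) :=
  PP_of _ (Matrix.fromBlocks !![1, 1; 0, 0] !![1, 1; 1, 1] !![0, 0; 0, 1] !![1, 0; 1, 0]) (by decide +kernel) true (by decide +kernel)
theorem pp0_2 : PP (g0⁻¹) :=
  PP_of _ (Matrix.fromBlocks !![1, 1; 0, 0] !![1, 1; 1, 1] !![0, 0; 0, 1] !![1, 0; 1, 0]) (by decide +kernel) false (by decide +kernel)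
theorem pp0_3 : PP (sg * g0⁻¹) :=
  PP_of _ (Matrix.fromBlocks !![1, 1; 0, 0] !![1, 1; 1, 1] !![0, 0; 0, 1] !![1, 0; 1, 0]) (by decide +kernel) true (by decide +kernel)
theorem pp1_0 : PP (g1) :=
  PP_of _ (Matrix.fromBlocks !![1, 0; 0, 1] !![0, 0; 0, 0] !![w, w; w, w] !![1, 0; 0, 1]) (by decide +kernel) false (by decide +kernel)
theorem pp1_1 : PP (sg * g1) :=
  PP_of _ (Matrix.fromBlocks !![1, 0; 0, 1] !![0, 0; 0, 0] !![(w+1), (w+1); (w+1), (w+1)] !![1, 0; 0, 1]) (by decide +kernel) true (by decide +kernel)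
theorem pp1_2 : PP (g1⁻¹) :=
  PP_of _ (Matrix.fromBlocks !![1, 0; 0, 1] !![0, 0; 0, 0] !![w, w; w, w] !![1, 0; 0, 1]) (by decide +kernel) false (by decide +kernel)
theorem pp1_3 : PP (sg * g1⁻¹) :=
  PP_of _ (Matrix.fromBlocks !![1, 0; 0, 1] !![0, 0; 0, 0] !![(w+1), (w+1); (w+1), (w+1)] !![1, 0; 0, 1]) (by decide +kernel) true (by decide +kernel)
theorem pp2_0 : PP (g2) :=
  PP_of _ (Matrix.fromBlocks !![0, 0; 0, 0] !![0, 1; 1, 1] !![1, 1; 1, 0] !![0, 0; 0, 0]) (by decide +kernel) false (by decide +kernel)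
theorem pp2_1 : PP (sg * g2) :=
  PP_of _ (Matrix.fromBlocks !![0, 0; 0, 0] !![0, 1; 1, 1] !![1, 1; 1, 0] !![0, 0; 0, 0]) (by decide +kernel) true (by decide +kernel)
theorem pp2_2 : PP (g2⁻¹) :=
  PP_of _ (Matrix.fromBlocks !![0, 0; 0, 0] !![0, 1; 1, 1] !![1, 1; 1, 0] !![0, 0; 0, 0]) (by decide +kernel) false (by decide +kernel)
theorem pp2_3 : PP (sg * g2⁻¹) :=
  PP_of _ (Matrix.fromBlocks !![0, 0; 0, 0] !![0, 1; 1, 1] !![1, 1; 1, 0] !![0, 0; 0, 0]) (by decide +kernel) true (by decide +kernel)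
theorem pp3_0 : PP (g3) :=
  PP_of _ (Matrix.fromBlocks !![1, 1; 0, 0] !![1, 1; 1, 1] !![1, 1; 1, 0] !![1, 0; 1, 0]) (by decide +kernel) false (by decide +kernel)
theorem pp3_1 : PP (sg * g3) :=
  PP_of _ (Matrix.fromBlocks !![1, 1; 0, 0] !![1, 1; 1, 1] !![1, 1; 1, 0] !![1, 0; 1, 0]) (by decide +kernel) true (by decide +kernel)
theorem pp3_2 : PP (g3⁻¹) :=
  PP_of _ (Matrix.fromBlocks !![1, 1; 0, 0] !![1, 1; 1, 1] !![1, 1; 1, 0] !![1, 0; 1, 0]) (by decide +kernel) false (by decide +kernel)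
theorem pp3_3 : PP (sg * g3⁻¹) :=
  PP_of _ (Matrix.fromBlocks !![1, 1; 0, 0] !![1, 1; 1, 1] !![1, 1; 1, 0] !![1, 0; 1, 0]) (by decide +kernel) true (by decide +kernel)
theorem pp4_0 : PP (g4) :=
  PP_of _ (Matrix.fromBlocks !![0, 1; 1, 0] !![0, 0; 0, 0] !![1, 0; 0, 1] !![0, 1; 1, 0]) (by decide +kernel) false (by decide +kernel)
theorem pp4_1 : PP (sg * g4) :=
  PP_of _ (Matrix.fromBlocks !![0, 1; 1, 0] !![0, 0; 0, 0] !![1, 0; 0, 1] !![0, 1; 1, 0]) (by decide +kernel) true (by decide +kernel)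
theorem pp4_2 : PP (g4⁻¹) :=
  PP_of _ (Matrix.fromBlocks !![0, 1; 1, 0] !![0, 0; 0, 0] !![1, 0; 0, 1] !![0, 1; 1, 0]) (by decide +kernel) false (by decide +kernel)
theorem pp4_3 : PP (sg * g4⁻¹) :=
  PP_of _ (Matrix.fromBlocks !![0, 1; 1, 0] !![0, 0; 0, 0] !![1, 0; 0, 1] !![0, 1; 1, 0]) (by decide +kernel) true (by decide +kernel)
theorem pp5_0 : PP (g5) :=
  PP_of _ (Matrix.fromBlocks !![1, 1; 0, 0] !![1, 1; 1, 1] !![0, 0; 0, 1] !![1, 0; 1, 0]) (by decide +kernel) true (by decide +kernel)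
theorem pp5_1 : PP (sg * g5) :=
  PP_of _ (Matrix.fromBlocks !![1, 1; 0, 0] !![1, 1; 1, 1] !![0, 0; 0, 1] !![1, 0; 1, 0]) (by decide +kernel) false (by decide +kernel)
theorem pp5_2 : PP (g5⁻¹) :=
  PP_of _ (Matrix.fromBlocks !![1, 1; 0, 0] !![1, 1; 1, 1] !![0, 0; 0, 1] !![1, 0; 1, 0]) (by decide +kernel) true (by decide +kernel)
theorem pp5_3 : PP (sg * g5⁻¹) :=
  PP_of _ (Matrix.fromBlocks !![1, 1; 0, 0] !![1, 1; 1, 1] !![0, 0; 0, 1] !![1, 0; 1, 0]) (by decide +kernel) false (by decide +kernel)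
theorem pp6_0 : PP (g6) :=
  PP_of _ (Matrix.fromBlocks !![1, (w+1); 0, w] !![0, 0; 0, 0] !![0, 0; 0, 0] !![1, 0; w, (w+1)]) (by decide +kernel) false (by decide +kernel)
theorem pp6_1 : PP (sg * g6) :=
  PP_of _ (Matrix.fromBlocks !![1, w; 0, (w+1)] !![0, 0; 0, 0] !![0, 0; 0, 0] !![1, 0; (w+1), w]) (by decide +kernel) true (by decide +kernel)
theorem pp6_2 : PP (g6⁻¹) :=
  PP_of _ (Matrix.fromBlocks !![1, w; 0, (w+1)] !![0, 0; 0, 0] !![0, 0; 0, 0] !![1, 0; (w+1), w]) (by decide +kernel) false (by decide +kernel)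
theorem pp6_3 : PP (sg * g6⁻¹) :=
  PP_of _ (Matrix.fromBlocks !![1, (w+1); 0, w] !![0, 0; 0, 0] !![0, 0; 0, 0] !![1, 0; w, (w+1)]) (by decide +kernel) true (by decide +kernel)

theorem pp_one : PP 1 := Or.inl ⟨1, by rw [map_one]⟩
theorem pp_sg : PP sg := Or.inr ⟨1, by rw [map_one, one_mul]⟩

theorem Hb_sub : ∀ x ∈ Hb, PP x := by
  apply closure_sub_union al sg
  · rintro _ ⟨k, rfl⟩
    match k with
    | 0 => exact ⟨pp0_0, pp0_1⟩
    | 1 => exact ⟨pp1_0, pp1_1⟩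
    | 2 => exact ⟨pp2_0, pp2_1⟩
    | 3 => exact ⟨pp3_0, pp3_1⟩
    | 4 => exact ⟨pp4_0, pp4_1⟩
    | 5 => exact ⟨pp5_0, pp5_1⟩
    | 6 => exact ⟨pp6_0, pp6_1⟩
    | _ + 7 => exact ⟨pp_one, by rw [show gens (_ + 7) = 1 from rfl, mul_one]; exact pp_sg⟩
  · rintro _ ⟨k, rfl⟩
    match k with
    | 0 => exact ⟨pp0_2, pp0_3⟩
    | 1 => exact ⟨pp1_2, pp1_3⟩
    | 2 => exact ⟨pp2_2, pp2_3⟩
    | 3 => exact ⟨pp3_2, pp3_3⟩
    | 4 => exact ⟨pp4_2, pp4_3⟩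
    | 5 => exact ⟨pp5_2, pp5_3⟩
    | 6 => exact ⟨pp6_2, pp6_3⟩
    | _ + 7 =>
      rw [show gens (_ + 7) = 1 from rfl, inv_one, mul_one]
      exact ⟨pp_one, pp_sg⟩

theorem mem_Hb (w : List ℕ) : (w.map gens).prod ∈ Hb := by
  apply Subgroup.list_prod_mem
  intro x hx
  rw [List.mem_map] at hx
  obtain ⟨k, _, rfl⟩ := hx
  exact Subgroup.subset_closure ⟨k, rfl⟩

theorem fix_of (w : List ℕ) (b : Fin 85) (h : wev tabs w b = b) :
    (w.map gens).prod ∈ MulAction.stabilizer (Equiv.Perm (Fin 85)) b := by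
  rw [MulAction.mem_stabilizer_iff, Equiv.Perm.smul_def]
  exact Fin.ext (by rw [prod_apply gens tabs hg]; exact h)

def ws0 : List (List ℕ) := [[0], [1], [2], [3], [4], [5], [6]]
def tree0 : List (ℕ × ℕ) := [(0, 0), (0, 4), (37, 4), (1, 2), (1, 6), (42, 2), (42, 6), (5, 1), (5, 3), (5, 6), (3, 0), (3, 2), (3, 4), (22, 1), (22, 3), (22, 6), (52, 2), (15, 2), (15, 3), (15, 6), (25, 6), (69, 3), (69, 4), (53, 1), (53, 4), (32, 2), (32, 3), (32, 6), (10, 6), (24, 3), (24, 4), (23, 1), (23, 4), (33, 4), (33, 6), (84, 4), (27, 4), (28, 4), (58, 4), (82, 6), (63, 4), (20, 6), (30, 4), (79, 4), (68, 4), (29, 4), (17, 6), (34, 4), (18, 2), (14, 2), (14, 6), (71, 2), (71, 6), (60, 3), (77, 6), (74, 4), (7, 2), (59, 2), (76, 2), (11, 6), (8, 2), (8, 6), (57, 1), (57, 6), (73, 1), (81, 2), (55, 2), (56, 2), (64, 1), (83, 1), (72, 2), (54, 2), (54, 6), (16, 4), (19, 1), (19, 4), (70, 2), (50, 4), (6,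 2), (6, 4), (9, 4), (46, 4), (21, 2), (40, 6)]
def G0 : Subgroup (Equiv.Perm (Fin 85)) := Hb
theorem nd0 : (grow (fun k y => wev tabs (ws0.getD k []) y) 0 [0] tree0).Nodup := by decide +kernel
theorem ln0 : (grow (fun k y => wev tabs (ws0.getD k []) y) 0 [0] tree0).length = 85 := by decide +kernel
theorem lv0 : 85 * Nat.card (G0 ⊓ MulAction.stabilizer (Equiv.Perm (Fin 85)) (0 : Fin 85) : Subgroup _) ≤ Nat.card G0 :=
  level' gens tabs hg G0 ws0 (fun w _ => mem_Hb w) (0 : Fin 85) 0 rfl tree0 85 nd0 ln0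
def ws1 : List (List ℕ) := [[0, 2], [0, 3], [0, 5], [4, 2, 1, 2, 6, 3, 1, 2, 4]]
def tree1 : List (ℕ × ℕ) := [(5, 0), (5, 1), (5, 3), (10, 3), (8, 0), (8, 1), (8, 2), (14, 0), (14, 1), (14, 2), (43, 2), (43, 3), (11, 2), (11, 3), (64, 1), (64, 2), (64, 3), (17, 0), (41, 0), (12, 3), (13, 0), (13, 3), (57, 0), (57, 2), (57, 3), (83, 3), (53, 0), (53, 1), (53, 2), (53, 3), (82, 3), (6, 1), (15, 0), (62, 1), (62, 3), (20, 0), (73, 3), (58, 0), (58, 3), (78, 1), (47, 2), (47, 3), (68, 2), (68, 3), (66, 1), (77, 1), (77, 2), (9, 3), (56, 0), (84, 3), (75, 1), (72, 0), (79, 3), (61, 3), (55, 0), (55, 3), (71, 0), (16, 1), (45, 3), (70, 0), (54, 0), (48, 3), (46, 3)]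
theorem fx1 : ∀ w ∈ ws1, wev tabs w 0 = 0 := by decide +kernel
def G1 : Subgroup (Equiv.Perm (Fin 85)) := G0 ⊓ MulAction.stabilizer (Equiv.Perm (Fin 85)) (0 : Fin 85)
theorem nd1 : (grow (fun k y => wev tabs (ws1.getD k []) y) 5 [5] tree1).Nodup := by decide +kernel
theorem ln1 : (grow (fun k y => wev tabs (ws1.getD k []) y) 5 [5] tree1).length = 64 := by decide +kernel
theorem lv1 : 64 * Nat.card (G1 ⊓ MulAction.stabilizer (Equiv.Perm (Fin 85)) (5 : Fin 85) : Subgroup _) ≤ Nat.card G1 :=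
  level' gens tabs hg G1 ws1 (fun w hw => Subgroup.mem_inf.2 ⟨mem_Hb w, fix_of w (0 : Fin 85) (fx1 w hw)⟩) (5 : Fin 85) 5 rfl tree1 64 nd1 ln1
def ws2 : List (List ℕ) := [[0, 5], [2, 0, 4, 2, 1, 2, 6, 3, 1, 2, 4, 0, 2], [4, 2, 1, 3, 6, 6, 2, 1, 2, 4, 2, 0, 0, 3, 0, 2, 4, 2, 1, 2, 6, 3, 1, 2, 4]]
def tree2 : List (ℕ × ℕ) := [(10, 1), (10, 2), (64, 0), (76, 0), (76, 1), (83, 2), (59, 1), (59, 2), (74, 0), (74, 1), (74, 2), (40, 0), (40, 1), (60, 2), (14, 0), (14, 1), (58, 2), (75, 2), (11, 1), (39, 1), (39, 2), (72, 0), (72, 1), (72, 2), (15, 0), (15, 1), (18, 1), (18, 2), (47, 0), (47, 1), (16, 0), (16, 1), (12, 1), (62, 1), (55, 2), (56, 2), (67, 0), (20, 2), (42, 1), (52, 2), (19, 1), (46, 1), (84, 2), (54, 0)]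
theorem fx2 : ∀ w ∈ ws2, wev tabs w 0 = 0 ∧ wev tabs w 5 = 5 := by decide +kernel
def G2 : Subgroup (Equiv.Perm (Fin 85)) := G1 ⊓ MulAction.stabilizer (Equiv.Perm (Fin 85)) (5 : Fin 85)
theorem nd2 : (grow (fun k y => wev tabs (ws2.getD k []) y) 10 [10] tree2).Nodup := by decide +kernel
theorem ln2 : (grow (fun k y => wev tabs (ws2.getD k []) y) 10 [10] tree2).length = 45 := by decide +kernel
theorem lv2 : 45 * Nat.card (G2 ⊓ MulAction.stabilizer (Equiv.Perm (Fin 85)) (10 : Fin 85) : Subgroup _) ≤ Nat.card G2 :=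
  level' gens tabs hg G2 ws2 (fun w hw => Subgroup.mem_inf.2 ⟨Subgroup.mem_inf.2 ⟨mem_Hb w, fix_of w (0 : Fin 85) (fx2 w hw).1⟩, fix_of w (5 : Fin 85) (fx2 w hw).2⟩) (10 : Fin 85) 10 rfl tree2 45 nd2 ln2
def ws3 : List (List ℕ) := [[0, 5], [2, 0, 4, 2, 1, 3, 6, 6, 2, 1, 2, 4, 0, 2, 4, 2, 1, 3, 6, 6, 2, 1, 2, 4, 2, 0, 0, 3, 0, 2, 4, 2, 1, 2, 6, 3, 1, 2, 4, 2, 0, 4, 2, 1, 2, 6, 3, 1, 2, 4, 0, 2]]
def tree3 : List (ℕ × ℕ) := [(23, 0), (23, 1), (24, 1), (31, 0), (32, 0), (36, 1), (35, 1)]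
theorem fx3 : ∀ w ∈ ws3, wev tabs w 0 = 0 ∧ wev tabs w 5 = 5 ∧ wev tabs w 10 = 10 := by decide +kernel
def G3 : Subgroup (Equiv.Perm (Fin 85)) := G2 ⊓ MulAction.stabilizer (Equiv.Perm (Fin 85)) (10 : Fin 85)
theorem nd3 : (grow (fun k y => wev tabs (ws3.getD k []) y) 23 [23] tree3).Nodup := by decide +kernel
theorem ln3 : (grow (fun k y => wev tabs (ws3.getD k []) y) 23 [23] tree3).length = 8 := by decide +kernel
theorem lv3 : 8 * Nat.card (G3 ⊓ MulAction.stabilizer (Equiv.Perm (Fin 85)) (23 : Fin 85) : Subgroup _) ≤ Nat.card G3 :=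
  level' gens tabs hg G3 ws3 (fun w hw => Subgroup.mem_inf.2 ⟨Subgroup.mem_inf.2 ⟨Subgroup.mem_inf.2 ⟨mem_Hb w, fix_of w (0 : Fin 85) (fx3 w hw).1⟩, fix_of w (5 : Fin 85) (fx3 w hw).2.1⟩, fix_of w (10 : Fin 85) (fx3 w hw).2.2⟩) (23 : Fin 85) 23 rfl tree3 8 nd3 ln3

theorem card_Hb : 1958400 ≤ Nat.card Hb := by
  have h0 := lv0
  have h1 := lv1
  have h2 := lv2
  have h3 := lv3
  have h4 : 1 ≤ Nat.card (G3 ⊓ MulAction.stabilizer (Equiv.Perm (Fin 85)) (23 : Fin 85) : Subgroup _) := Nat.card_pos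
  change _ ≤ Nat.card Hb at h0
  change 64 * _ ≤ Nat.card (G0 ⊓ MulAction.stabilizer (Equiv.Perm (Fin 85)) (0 : Fin 85) : Subgroup _) at h1
  change 45 * _ ≤ Nat.card (G1 ⊓ MulAction.stabilizer (Equiv.Perm (Fin 85)) (5 : Fin 85) : Subgroup _) at h2
  change 8 * _ ≤ Nat.card (G2 ⊓ MulAction.stabilizer (Equiv.Perm (Fin 85)) (10 : Fin 85) : Subgroup _) at h3
  omega

end Cfsg.Agent.Lib.Helper47HeSp
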