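import Cfsg.Agent.Lib.Helper35HeFin
import Cfsg.Agent.Lib.Helper47HeSp

set_option autoImplicit false
set_option maxRecDepth 100000

/-! The subgroup `H` of index 2058 of the presented Held group acts on 85 blocks of imprimitivity
of its orbit of length 425; this identifies an index two subgroup with `Sp₄(𝔽₄)`. -/

namespace Cfsg.Agent.Lib.Helper47HeBlk

open Cfsg.Agent.Lib.Helper35TC Cfsg.Agent.Lib.Helper35HeA Cfsg.Agent.Lib.Helper47Idx2
  Cfsg.Agent.Lib.Helper47HeSp

def blkTab : ℕ := 0x3ffffffffffffffffffffffffffffffffffffffffffffffffffffffffffffffffffffffffffffffffffffffffffffffffffffffffffffffffffffffffffffffffffffffff67fffffffffffffffffffffffffffffd9fffec3fffffffffffffffffffffffffffffffffffffffffd87ffffffffffffffffffffffffffffffffffffffffffffef3fffffffffffffffffff43ffffffffffffffffffffe82efffffff05fffff3fffffffffffffffffffffffe5d1fffdbffffffffffffffffffffffffffffffffffffffffffffffffffffffffff1dfffff87fffffffffffffffffffffffffffffffffffffffffec1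9fffede44bfffffffff225ff93fffffffffffffffffffffffffffffffffff0bfc2feeffffffffffffffffcefffffffffffffffffe1ffffffffffecffc8ffffffffffffffffffffffffffffffffffffffffffffffffffffffffffffffffffffffffffffffffd87ffedfffffffffffffffffffffffffffffffffffffffffffffffffffffffffffffffffffffffffffffffff3f47ffffffffffffffffffef1eb686cbffffffc17ffffcfffa2f217fffffffffffddc98dffffffffffffffffffffffffffffffffffffffffffffffffffffb651fffff2bfd2137bfc41cffffffffffffffffffffffffffffffffffffffffffffffffffef3fffffffffffffe87ffffe07ffee7fd2fffffffffffffffffffffffffffffffffff73ffffffffffffffffffffffffff7dfffffffffffffffffffff03ffffffffffffffffffffffffffffffffffffffffffffffffffffffffffffffffffffffffffffffffffffffffffdbc8ff2ffff9dfffff57fffff9dffffffffe97ffffd68e07ffffffffffffffffffffffffffffffffffffffffffffffffffffffff0bffffffffa7fe45a7ffee27ffffffffffffffffffffffffffff84feb3fffffffffffffffb1ff0237ffffffffffffffffffffffffffffffffffffffffffffffffab76b7ffffeaffffffffffffffffffff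ffffffffffc959fffffffffffffffffffffffffffffffffffffffffffffffffffffffffffffffffffffffffffffffffffffffff49ffffffe7e8fffffca93ffffffffffffffffffffffef7f8221fc1464fffffffffcaff484deffffffffffffffff23fd8ff713ffffa7fc6affffffffffffffffffffffffffffffffffffffffffffffd927fffcd0921fe0c5fffe3a2fffffffffffffffffffffffffffffffffffffffffffffffffffffffffffffb6fffffb1fffffd31abff926bfffffffffffffffffffffffffffffd42efffffff8e49afffffffffffffffffffffffffffffffffffff07ffffffffffff1dfffffffffffffffffffffffffffffffffffffffffffffffffffffffffc2345ffffffffffffffffe77ffffd6fffec56ff51fffff7c13fab59fc41c680fffffffffffffffffffffffff5fffffffffffffffffffffffffffffffffffffff919eb7fd265fc59782883caffffffffffffffffffffffffffff08b3fc531fffffffffffffec7fffff4ff8d5fffffffffffffffffffffffffb8233da7ffffc27fffffffffffd67f1073fb9ff481ffffffffffffffffffffffffffffffffffffffffffa6fe1fffffe93fff35ffffffffff9527fff89fffd9b0ffffffffffffff4c43ffffffc37ffffffae51ffffffffcd0921ffffffffc597fffffff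0f2bfcc31fffffffffffffffffa8fffc37fa9fc63affffffffffffffffffffffffffffffffffffe9d97ffffff87ff30c1bfffffffffffffffffffff5dfc63a37fffffffffffffffc1fffffffff7dfffffffffffffffffffffffffffffffff69fffffffffffffffdf0839285abfe3577f83145b8951d1176bffffffffff8dfffffff31fffffffffffffffffffffffffffeece3e104a1b63b5269effffffffffffa6fffe0c58e8a27fffffffffffffff0ffe618ffffffffe2e517ff062fffffffc745fc935fffffffffffffffffceff9a7a27ffffff9afffffffffffffffe27ffffffe74b90dfffffffffff4dfff86ffffffffffffa9fffffa7fffff86fffff9dff34f44ffffffffea7fa343fffffffffffffffd97f9a7a27ffffffffff191a1ff4bffffffdaffffffffffffffffffffffffe5fffffffff8e9e45c4ca11aa1d18e8dfffffffccfffffffffffffffffffff8039cd028ffffffffea7f18e8dfffffffcd3d13f9da9fc63a37ffffffffca3ffffffffffffffffffffffffffffffffff823f45e42fffffff4dffffffffd4fffffffffffffffffffffff53fffff28ffffffe647fffffffb628ffffffffe9991e4bffffffffffffffffffffe4bba70d1a1ffffffffffe48a41fffa343fdfff288d0fffe2907ffffffffffffffffffff95484deffffffffffffffffffffffffe2907f0bfffff722907f0bffffffffe0191ffffff2dfcc8f4028c8ffffcb7fffffffffffffff342487ffffffffffffffffe5bf81fe5bf81fffff85feabfff0a582ff55ffffffe1bfffffffffffffd500fea807f0297f8154052fffffffff53ffffffe95280009407ffffffff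
def bN (j : ℕ) : ℕ := look blkTab j
def bl (j : Fin 2058) : Option (Fin 85) := if h : bN j < 85 then some ⟨bN j, h⟩ else none
def ex (tab v : ℕ) : ℕ := if v < 85 then look tab v else v
def rep : List ℕ := [5, 22, 248, 605, 793, 49, 42, 487, 519, 78, 94, 478, 277, 544, 302, 92, 77, 330, 194, 138, 159, 140, 50, 338, 484, 93, 79, 275, 521, 280, 283, 247, 95, 157, 467, 158, 139, 6, 239, 404, 672, 15, 23, 564, 785, 862, 561, 815, 728, 822, 373, 729, 579, 353, 204, 426, 329, 115, 276, 180, 245, 137, 520, 161, 105, 474, 244, 178, 282, 473, 326, 468, 427, 169, 477, 428, 316, 284, 429, 331, 300, 246, 358, 179, 279]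

theorem rep_spec : ∀ i : Fin 85, rep.getD i 0 < 2058 ∧ bN (rep.getD i 0) = i := by decide +kernel

theorem bl_surj (i : Fin 85) : ∃ j : Fin 2058, bl j = some i := by
  obtain ⟨h1, h2⟩ := rep_spec i
  refine ⟨⟨rep.getD i 0, h1⟩, ?_⟩
  unfold bl
  rw [dif_pos (by show bN (rep.getD i 0) < 85; rw [h2]; exact i.2)]
  exact congrArg some (Fin.ext h2)

def R : Subgroup (Equiv.Perm (Fin 2058) × Equiv.Perm (Fin 85)) where
  carrier := {p | ∀ j, bl (p.1 j) = (bl j).map p.2}
  one_mem' := by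
    intro j
    show bl j = (bl j).map (fun x => x)
    simp
  mul_mem' := by
    intro p q hp hq j
    show bl (p.1 (q.1 j)) = (bl j).map (fun x => p.2 (q.2 x))
    rw [hp, hq, Option.map_map]
    rfl
  inv_mem' := by
    intro p hp j
    show bl (p.1⁻¹ j) = (bl j).map (fun x => p.2⁻¹ x)
    have := hp (p.1⁻¹ j)
    rw [show p.1 (p.1⁻¹ j) = j from Equiv.apply_symm_apply p.1 j] at this
    rw [this, Option.map_map]
    have h2 : ((fun x => p.2⁻¹ x) ∘ (p.2 : Fin 85 → Fin 85)) = id := by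
      funext x
      simp
    rw [h2, Option.map_id]
    rfl

theorem R_uniq {g : Equiv.Perm (Fin 2058)} {π π' : Equiv.Perm (Fin 85)} (h : (g, π) ∈ R)
    (h' : (g, π') ∈ R) : π = π' := by
  ext i
  obtain ⟨j, hj⟩ := bl_surj i
  have h1 : bl (g j) = (bl j).map π := h j
  have h2 : bl (g j) = (bl j).map π' := h' j
  rw [hj] at h1 h2
  rw [h1] at h2
  exact congrArg Fin.val (Option.some.inj h2)

theorem mem_R_of (g : Equiv.Perm (Fin 2058)) (k : ℕ)
    (h : ∀ j : Fin 2058, bN (g j) = ex (tabs k) (bN j)) : (g, gens k) ∈ R := by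
  intro j
  show bl (g j) = (bl j).map (gens k)
  have hj := h j
  unfold ex at hj
  unfold bl
  by_cases h1 : bN j < 85
  · rw [if_pos h1] at hj
    have h2 : bN (g j) = ((gens k ⟨bN j, h1⟩ : Fin 85) : ℕ) := by rw [hj, hg]
    rw [dif_pos h1, dif_pos (by rw [h2]; exact (gens k ⟨bN j, h1⟩).2)]
    exact congrArg some (Fin.ext h2)
  · rw [if_neg h1] at hj
    rw [dif_neg h1, dif_neg (by rw [hj]; exact h1)]
    rfl

noncomputable def phi : K.Grp →* Equiv.Perm (Fin 2058) := ok.phi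

theorem phi_apply (e : WExp Cfsg.Spor.He.Gen) (j : Fin 2058) :
    ((phi (PresentedGroup.mk K.rels e.eval)) j).val = P.walkA (e.app K.code K.P.iv) j :=
  ok.phi_mk_apply e j

def e0 : WExp Cfsg.Spor.He.Gen := (.of .a)
theorem chk0 : allD (fun j => Nat.ble 2058 j || Nat.beq (bN (P.walkA [0] j)) (ex (tabs 0) (bN j))) 12 0 = true := by
  decide +kernel
theorem memR0 : (phi (PresentedGroup.mk K.rels e0.eval), gens 0) ∈ R := by
  apply mem_R_of
  intro j
  rw [phi_apply]
  have h := all_of_allD _ 12 2058 (by norm_num) chk0 j j.2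
  rw [Bool.or_eq_true, Nat.ble_eq, Nat.beq_eq] at h
  rcases h with h | h
  · exact absurd j.2 (by omega)
  · exact h
theorem memS0 : e0 ∈ K.subExps := by
  show e0 ∈ subExps
  simp [subExps, e0]
def e1 : WExp Cfsg.Spor.He.Gen := (.of .c)
theorem chk1 : allD (fun j => Nat.ble 2058 j || Nat.beq (bN (P.walkA [2] j)) (ex (tabs 1) (bN j))) 12 0 = true := by
  decide +kernel
theorem memR1 : (phi (PresentedGroup.mk K.rels e1.eval), gens 1) ∈ R := by
  apply mem_R_of
  intro j
  rw [phi_apply]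
  have h := all_of_allD _ 12 2058 (by norm_num) chk1 j j.2
  rw [Bool.or_eq_true, Nat.ble_eq, Nat.beq_eq] at h
  rcases h with h | h
  · exact absurd j.2 (by omega)
  · exact h
theorem memS1 : e1 ∈ K.subExps := by
  show e1 ∈ subExps
  simp [subExps, e1]
def e2 : WExp Cfsg.Spor.He.Gen := (.of .d)
theorem chk2 : allD (fun j => Nat.ble 2058 j || Nat.beq (bN (P.walkA [3] j)) (ex (tabs 2) (bN j))) 12 0 = true := by
  decide +kernel
theorem memR2 : (phi (PresentedGroup.mk K.rels e2.eval), gens 2) ∈ R := by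
  apply mem_R_of
  intro j
  rw [phi_apply]
  have h := all_of_allD _ 12 2058 (by norm_num) chk2 j j.2
  rw [Bool.or_eq_true, Nat.ble_eq, Nat.beq_eq] at h
  rcases h with h | h
  · exact absurd j.2 (by omega)
  · exact h
theorem memS2 : e2 ∈ K.subExps := by
  show e2 ∈ subExps
  simp [subExps, e2]
def e3 : WExp Cfsg.Spor.He.Gen := (.of .e)
theorem chk3 : allD (fun j => Nat.ble 2058 j || Nat.beq (bN (P.walkA [4] j)) (ex (tabs 3) (bN j))) 12 0 = true := by
  decide +kernel
theorem memR3 : (phi (PresentedGroup.mk K.rels e3.eval), gens 3) ∈ R := by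
  apply mem_R_of
  intro j
  rw [phi_apply]
  have h := all_of_allD _ 12 2058 (by norm_num) chk3 j j.2
  rw [Bool.or_eq_true, Nat.ble_eq, Nat.beq_eq] at h
  rcases h with h | h
  · exact absurd j.2 (by omega)
  · exact h
theorem memS3 : e3 ∈ K.subExps := by
  show e3 ∈ subExps
  simp [subExps, e3]
def e4 : WExp Cfsg.Spor.He.Gen := (.of .f)
theorem chk4 : allD (fun j => Nat.ble 2058 j || Nat.beq (bN (P.walkA [5] j)) (ex (tabs 4) (bN j))) 12 0 = true := by
  decide +kernel
theorem memR4 : (phi (PresentedGroup.mk K.rels e4.eval), gens 4) ∈ R := by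
  apply mem_R_of
  intro j
  rw [phi_apply]
  have h := all_of_allD _ 12 2058 (by norm_num) chk4 j j.2
  rw [Bool.or_eq_true, Nat.ble_eq, Nat.beq_eq] at h
  rcases h with h | h
  · exact absurd j.2 (by omega)
  · exact h
theorem memS4 : e4 ∈ K.subExps := by
  show e4 ∈ subExps
  simp [subExps, e4]
def e5 : WExp Cfsg.Spor.He.Gen := (.pow (.mul (.of .a) (.of .b)) 2)
theorem chk5 : allD (fun j => Nat.ble 2058 j || Nat.beq (bN (P.walkA [1, 0, 1, 0] j)) (ex (tabs 5) (bN j))) 12 0 = true := by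
  decide +kernel
theorem memR5 : (phi (PresentedGroup.mk K.rels e5.eval), gens 5) ∈ R := by
  apply mem_R_of
  intro j
  rw [phi_apply]
  have h := all_of_allD _ 12 2058 (by norm_num) chk5 j j.2
  rw [Bool.or_eq_true, Nat.ble_eq, Nat.beq_eq] at h
  rcases h with h | h
  · exact absurd j.2 (by omega)
  · exact h
theorem memS5 : e5 ∈ K.subExps := by
  show e5 ∈ subExps
  simp [subExps, e5]
def e6 : WExp Cfsg.Spor.He.Gen := (.pow (.mul (.mul (.mul (.of .b) (.of .c)) (.of .d)) (.of .e)) 7)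
theorem chk6 : allD (fun j => Nat.ble 2058 j || Nat.beq (bN (P.walkA [4, 3, 2, 1, 4, 3, 2, 1, 4, 3, 2, 1, 4, 3, 2, 1, 4, 3, 2, 1, 4, 3, 2, 1, 4, 3, 2, 1] j)) (ex (tabs 6) (bN j))) 12 0 = true := by
  decide +kernel
theorem memR6 : (phi (PresentedGroup.mk K.rels e6.eval), gens 6) ∈ R := by
  apply mem_R_of
  intro j
  rw [phi_apply]
  have h := all_of_allD _ 12 2058 (by norm_num) chk6 j j.2
  rw [Bool.or_eq_true, Nat.ble_eq, Nat.beq_eq] at h
  rcases h with h | h
  · exact absurd j.2 (by omega)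
  · exact h
theorem memS6 : e6 ∈ K.subExps := by
  show e6 ∈ subExps
  simp [subExps, e6]

theorem ex_pi : ∀ g ∈ K.H, ∃ π ∈ Hb, (phi g, π) ∈ R := by
  let M : Subgroup K.Grp :=
    ((R ⊓ (⊤ : Subgroup (Equiv.Perm (Fin 2058))).prod Hb).map (MonoidHom.fst _ _)).comap phi
  have hle : K.H ≤ M := by
    apply ok.H_le M
    intro e he
    have he' : e ∈ subExps := he
    simp only [subExps, List.mem_cons, List.not_mem_nil, or_false] at he'
    rcases he' with rfl | rfl | rfl | rfl | rfl | rfl | rfl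
    · exact ⟨(phi (PresentedGroup.mk K.rels e0.eval), gens 0),
        ⟨memR0, ⟨Subgroup.mem_top _, Subgroup.subset_closure ⟨0, rfl⟩⟩⟩, rfl⟩
    · exact ⟨(phi (PresentedGroup.mk K.rels e1.eval), gens 1),
        ⟨memR1, ⟨Subgroup.mem_top _, Subgroup.subset_closure ⟨1, rfl⟩⟩⟩, rfl⟩
    · exact ⟨(phi (PresentedGroup.mk K.rels e2.eval), gens 2),
        ⟨memR2, ⟨Subgroup.mem_top _, Subgroup.subset_closure ⟨2, rfl⟩⟩⟩, rfl⟩
    · exact ⟨(phi (PresentedGroup.mk K.rels e3.eval), gens 3),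
        ⟨memR3, ⟨Subgroup.mem_top _, Subgroup.subset_closure ⟨3, rfl⟩⟩⟩, rfl⟩
    · exact ⟨(phi (PresentedGroup.mk K.rels e4.eval), gens 4),
        ⟨memR4, ⟨Subgroup.mem_top _, Subgroup.subset_closure ⟨4, rfl⟩⟩⟩, rfl⟩
    · exact ⟨(phi (PresentedGroup.mk K.rels e5.eval), gens 5),
        ⟨memR5, ⟨Subgroup.mem_top _, Subgroup.subset_closure ⟨5, rfl⟩⟩⟩, rfl⟩
    · exact ⟨(phi (PresentedGroup.mk K.rels e6.eval), gens 6),
        ⟨memR6, ⟨Subgroup.mem_top _, Subgroup.subset_closure ⟨6, rfl⟩⟩⟩, rfl⟩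
  intro g hgH
  obtain ⟨⟨x, π⟩, ⟨h1, h2⟩, h3⟩ := hle hgH
  have h3' : x = phi g := h3
  subst h3'
  exact ⟨π, h2.2, h1⟩

theorem main : ∃ N : Subgroup K.H, N.Normal ∧ N.index = 2 ∧ Nonempty (N ≃* Sp) := by
  have hex : ∀ h : K.H, ∃ π, π ∈ Hb ∧ (phi h.1, π) ∈ R := fun h => ex_pi h.1 h.2
  choose r hr1 hr2 using hex
  let ρ : K.H →* Equiv.Perm (Fin 85) := MonoidHom.mk' r (fun a b => R_uniq (hr2 (a * b)) (by
    have h := R.mul_mem (hr2 a) (hr2 b)
    have h2 : phi (a * b : K.H).1 = phi a.1 * phi b.1 := map_mul phi a.1 b.1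
    rw [h2]
    exact h))
  have : Finite K.H := Nat.finite_of_card_ne_zero (by rw [Cfsg.Agent.Lib.Helper35HeFin.card_H]; norm_num)
  apply exists_index_two 979200 (by norm_num) Cfsg.Agent.Lib.Helper35HeFin.card_H card_Sp ρ al
    al_injective sg
  · intro h
    exact Hb_sub _ (hr1 h)
  · have hle : Hb ≤ ρ.range := by
      rw [Hb, Subgroup.closure_le]
      rintro _ ⟨k, rfl⟩
      match k with
      | 0 => exact ⟨⟨_, ok.mem_H_of_sub memS0⟩, R_uniq (hr2 _) memR0⟩
      | 1 => exact ⟨⟨_, ok.mem_H_of_sub memS1⟩, R_uniq (hr2 _) memR1⟩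
      | 2 => exact ⟨⟨_, ok.mem_H_of_sub memS2⟩, R_uniq (hr2 _) memR2⟩
      | 3 => exact ⟨⟨_, ok.mem_H_of_sub memS3⟩, R_uniq (hr2 _) memR3⟩
      | 4 => exact ⟨⟨_, ok.mem_H_of_sub memS4⟩, R_uniq (hr2 _) memR4⟩
      | 5 => exact ⟨⟨_, ok.mem_H_of_sub memS5⟩, R_uniq (hr2 _) memR5⟩
      | 6 => exact ⟨⟨_, ok.mem_H_of_sub memS6⟩, R_uniq (hr2 _) memR6⟩
      | _ + 7 => exact ρ.range.one_mem
    exact card_Hb.trans (Subgroup.card_le_of_le hle)

end Cfsg.Agent.Lib.Helper47HeBlk
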