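import Cfsg.Agent.Lib.Helper17PCTab

set_option autoImplicit false
set_option maxRecDepth 1000000
set_option maxHeartbeats 0

namespace Cfsg.Agent.Lib.Helper47O73P3C

open Cfsg Cfsg.Agent.Lib.Helper63PCDefs Cfsg.Agent.Lib.Helper63PCTabDefs 

def sp0 : List (ℕ × List ℕ × List ℕ) := [(0, [1, 1], [1, 0]),
    (0, [1], [0, 0, 0]),
    (0, [2], [1, 0]),
    (0, [3], [1, 0]),
    (0, [4], [1, 0]),
    (0, [5], [1, 0]),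
    (0, [6], [1, 0]),
    (0, [7], [1, 0])]

def rv0 : List (List ℤ) := [[.ofNat 0, .negSucc 2, .ofNat 0, .ofNat 0, .ofNat 0, .ofNat 0, .ofNat 0, .ofNat 0, .ofNat 0, .ofNat 0, .ofNat 0, .negSucc 2, .ofNat 0, .negSucc 2, .ofNat 0, .negSucc 2, .negSucc 2, .ofNat 0, .ofNat 0, .ofNat 0, .negSucc 1, .ofNat 0, .negSucc 5, .ofNat 0, .negSucc 5, .negSucc 5, .negSucc 2, .ofNat 0, .ofNat 0, .ofNat 0, .ofNat 0, .ofNat 0, .ofNat 0, .ofNat 0, .ofNat 0, .ofNat 0, .ofNat 0, .ofNat 0, .ofNat 0, .ofNat 0, .negSucc 0, .ofNat 0, .negSucc 2, .negSucc 2, .negSucc 4, .ofNat 0, .ofNat 0, .ofNat 0, .ofNat 0, .ofNat 0, .ofNat 0, .ofNat 0, .ofNat 0, .ofNat 0, .ofNat 0, .ofNat 0, .ofNat 0, .ofNat 0, .ofNat 0, .ofNat 0, .negSucc 1, .negSucc 5, .negSucc 8, .ofNat 0, .ofNat 0, .ofNat 0, .ofNat 0, .ofNat 0, .ofNat 0, .ofNat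 0, .negSucc 0, .negSucc 15, .ofNat 0, .ofNat 0, .ofNat 0, .ofNat 0, .ofNat 0, .ofNat 0, .ofNat 0, .ofNat 0, .negSucc 10, .ofNat 0, .ofNat 0, .ofNat 0, .ofNat 0, .ofNat 0, .ofNat 0, .ofNat 0, .ofNat 0, .ofNat 0, .ofNat 0, .ofNat 0, .ofNat 0, .ofNat 0, .ofNat 0, .ofNat 0, .ofNat 0, .ofNat 0, .ofNat 0],
    [.ofNat 0, .ofNat 3, .ofNat 3, .ofNat 0, .ofNat 3, .ofNat 1, .ofNat 3, .ofNat 3, .ofNat 2, .ofNat 0, .ofNat 0, .ofNat 0, .ofNat 0, .ofNat 0, .ofNat 0, .ofNat 0, .ofNat 0, .ofNat 0, .ofNat 0, .ofNat 0, .ofNat 2, .ofNat 0, .ofNat 3, .ofNat 2, .ofNat 4, .ofNat 2, .ofNat 1, .ofNat 0, .ofNat 0, .ofNat 0, .ofNat 0, .ofNat 0, .ofNat 0, .ofNat 0, .ofNat 0, .ofNat 0, .ofNat 0, .ofNat 0, .ofNat 0, .ofNat 0, .ofNat 1, .ofNat 5, .ofNat 2, .ofNat 3, .ofNat 5, .ofNat 0, .ofNat 0, .ofNat 0, .ofNat 0, .ofNat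 0, .ofNat 2, .ofNat 10, .ofNat 6, .ofNat 14, .ofNat 0, .ofNat 0, .ofNat 0, .ofNat 0, .ofNat 0, .ofNat 0, .ofNat 4, .ofNat 9, .ofNat 19, .ofNat 0, .ofNat 0, .ofNat 0, .ofNat 0, .ofNat 0, .ofNat 0, .ofNat 0, .ofNat 6, .ofNat 33, .ofNat 0, .ofNat 0, .ofNat 0, .ofNat 0, .ofNat 0, .ofNat 0, .ofNat 0, .ofNat 0, .ofNat 11, .ofNat 0, .ofNat 0, .ofNat 0, .ofNat 0, .ofNat 0, .ofNat 0, .ofNat 0, .ofNat 0, .ofNat 0, .ofNat 0, .ofNat 0, .ofNat 0, .ofNat 0, .ofNat 0, .ofNat 0, .ofNat 0, .ofNat 0, .ofNat 0],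
    [.ofNat 0, .ofNat 0, .ofNat 0, .ofNat 0, .ofNat 0, .ofNat 0, .ofNat 0, .ofNat 0, .ofNat 0, .ofNat 0, .ofNat 0, .ofNat 0, .ofNat 0, .ofNat 0, .negSucc 1, .negSucc 0, .negSucc 1, .negSucc 1, .ofNat 0, .ofNat 0, .ofNat 0, .ofNat 0, .ofNat 1, .negSucc 3, .ofNat 0, .negSucc 2, .negSucc 3, .ofNat 0, .ofNat 0, .ofNat 0, .ofNat 0, .ofNat 0, .ofNat 0, .ofNat 0, .ofNat 0, .ofNat 0, .ofNat 0, .ofNat 0, .ofNat 0, .ofNat 0, .ofNat 0, .negSucc 1, .negSucc 0, .negSucc 1, .negSucc 1, .ofNat 0, .ofNat 0, .ofNat 0, .ofNat 0, .ofNat 0, .ofNat 0, .ofNat 4, .ofNat 2, .negSucc 1, .ofNat 0, .ofNat 0, .ofNat 0, .ofNat 0, .ofNat 0, .ofNat 0, .ofNat 0, .negSucc 2, .negSucc 1, .ofNat 0, .ofNat 0, .ofNat 0, .ofNat 0, .ofNat 0, .ofNat 0, .ofNat 0, .ofNat 0, .negSucc 1, .ofNat 0, .ofNat 0, .ofNat 0, .ofNat 0, .ofNat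 0, .ofNat 0, .ofNat 0, .ofNat 0, .negSucc 5, .ofNat 0, .ofNat 0, .ofNat 0, .ofNat 0, .ofNat 0, .ofNat 0, .ofNat 0, .ofNat 0, .ofNat 0, .ofNat 0, .ofNat 0, .ofNat 0, .ofNat 0, .ofNat 0, .ofNat 0, .ofNat 0, .ofNat 0, .ofNat 0],
    [.ofNat 0, .ofNat 0, .ofNat 0, .ofNat 0, .ofNat 2, .ofNat 0, .ofNat 1, .ofNat 2, .ofNat 2, .ofNat 0, .ofNat 0, .ofNat 0, .ofNat 0, .ofNat 0, .ofNat 0, .negSucc 0, .ofNat 0, .ofNat 0, .ofNat 0, .ofNat 0, .ofNat 0, .negSucc 1, .negSucc 3, .negSucc 0, .negSucc 2, .negSucc 1, .negSucc 0, .ofNat 0, .ofNat 0, .ofNat 0, .ofNat 0, .ofNat 1, .ofNat 0, .ofNat 2, .ofNat 1, .ofNat 0, .ofNat 0, .ofNat 0, .ofNat 0, .ofNat 0, .ofNat 0, .negSucc 1, .negSucc 5, .negSucc 2, .negSucc 5, .ofNat 0, .ofNat 0, .ofNat 0, .ofNat 0, .ofNat 0, .ofNat 0, .negSucc 1, .negSucc 0, .ofNat 1, .ofNat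 0, .ofNat 0, .ofNat 0, .ofNat 0, .ofNat 0, .ofNat 0, .ofNat 0, .ofNat 0, .negSucc 2, .ofNat 0, .ofNat 0, .ofNat 0, .ofNat 0, .ofNat 0, .ofNat 0, .ofNat 0, .ofNat 2, .negSucc 0, .ofNat 0, .ofNat 0, .ofNat 0, .ofNat 0, .ofNat 0, .ofNat 0, .ofNat 0, .ofNat 0, .negSucc 6, .ofNat 0, .ofNat 0, .ofNat 0, .ofNat 0, .ofNat 0, .ofNat 0, .ofNat 0, .ofNat 0, .ofNat 0, .ofNat 0, .ofNat 0, .ofNat 0, .ofNat 0, .ofNat 0, .ofNat 0, .ofNat 0, .ofNat 0, .ofNat 0],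
    [.ofNat 0, .ofNat 0, .ofNat 0, .ofNat 0, .ofNat 0, .ofNat 0, .ofNat 0, .ofNat 0, .ofNat 0, .ofNat 0, .ofNat 0, .ofNat 0, .ofNat 0, .ofNat 0, .ofNat 0, .negSucc 0, .negSucc 0, .ofNat 0, .ofNat 0, .ofNat 0, .ofNat 0, .ofNat 0, .negSucc 1, .ofNat 0, .negSucc 1, .negSucc 1, .negSucc 1, .ofNat 0, .ofNat 0, .ofNat 0, .ofNat 0, .ofNat 0, .ofNat 0, .ofNat 0, .ofNat 0, .ofNat 0, .ofNat 0, .ofNat 0, .ofNat 0, .ofNat 0, .ofNat 0, .ofNat 0, .ofNat 1, .ofNat 0, .negSucc 0, .ofNat 0, .ofNat 0, .ofNat 0, .ofNat 0, .ofNat 0, .ofNat 0, .ofNat 0, .ofNat 0, .ofNat 0, .ofNat 0, .ofNat 0, .ofNat 0, .ofNat 0, .ofNat 0, .ofNat 0, .ofNat 0, .negSucc 0, .negSucc 2, .ofNat 0, .ofNat 0, .ofNat 0, .ofNat 0, .ofNat 0, .ofNat 0, .ofNat 0, .ofNat 0, .negSucc 0, .ofNat 0, .ofNat 0, .ofNat 0, .ofNat 0, .ofNat 0, .ofNat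 0, .ofNat 0, .ofNat 0, .negSucc 2, .ofNat 0, .ofNat 0, .ofNat 0, .ofNat 0, .ofNat 0, .ofNat 0, .ofNat 0, .ofNat 0, .ofNat 0, .ofNat 0, .ofNat 0, .ofNat 0, .ofNat 0, .ofNat 0, .ofNat 0, .ofNat 0, .ofNat 0, .ofNat 0],
    [.ofNat 0, .ofNat 0, .ofNat 0, .ofNat 0, .ofNat 0, .ofNat 0, .ofNat 0, .ofNat 0, .ofNat 0, .ofNat 0, .ofNat 0, .ofNat 0, .ofNat 0, .ofNat 0, .ofNat 0, .ofNat 0, .ofNat 0, .ofNat 0, .ofNat 0, .ofNat 0, .ofNat 0, .ofNat 0, .ofNat 0, .negSucc 1, .ofNat 0, .ofNat 0, .negSucc 1, .ofNat 0, .ofNat 0, .ofNat 0, .ofNat 0, .ofNat 0, .ofNat 0, .ofNat 0, .ofNat 0, .ofNat 0, .ofNat 0, .ofNat 0, .ofNat 0, .ofNat 0, .ofNat 0, .negSucc 0, .ofNat 0, .ofNat 0, .negSucc 0, .ofNat 0, .ofNat 0, .ofNat 0, .ofNat 0, .ofNat 0, .ofNat 0, .ofNat 2, .ofNat 1, .ofNat 0, .ofNat 0, .ofNat 0, .ofNat 0, .ofNat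 0, .ofNat 0, .ofNat 0, .ofNat 0, .ofNat 0, .ofNat 0, .ofNat 0, .ofNat 0, .ofNat 0, .ofNat 0, .ofNat 0, .ofNat 0, .ofNat 0, .ofNat 0, .ofNat 0, .ofNat 0, .ofNat 0, .ofNat 0, .ofNat 0, .ofNat 0, .ofNat 0, .ofNat 0, .ofNat 0, .negSucc 1, .ofNat 0, .ofNat 0, .ofNat 0, .ofNat 0, .ofNat 0, .ofNat 0, .ofNat 0, .ofNat 0, .ofNat 0, .ofNat 0, .ofNat 0, .ofNat 0, .ofNat 0, .ofNat 0, .ofNat 0, .ofNat 0, .ofNat 0, .ofNat 0],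
    [.ofNat 0, .ofNat 0, .ofNat 0, .ofNat 0, .ofNat 0, .ofNat 0, .ofNat 0, .ofNat 0, .ofNat 2, .ofNat 0, .ofNat 0, .ofNat 0, .ofNat 0, .ofNat 0, .ofNat 0, .ofNat 0, .negSucc 1, .ofNat 0, .ofNat 0, .ofNat 0, .ofNat 0, .ofNat 0, .ofNat 0, .ofNat 0, .negSucc 1, .negSucc 3, .negSucc 1, .ofNat 0, .ofNat 0, .ofNat 0, .ofNat 0, .ofNat 0, .ofNat 0, .ofNat 0, .ofNat 0, .ofNat 0, .ofNat 0, .ofNat 0, .ofNat 0, .ofNat 0, .ofNat 0, .ofNat 0, .negSucc 0, .negSucc 1, .negSucc 0, .ofNat 0, .ofNat 0, .ofNat 0, .ofNat 0, .ofNat 0, .ofNat 0, .ofNat 0, .ofNat 0, .ofNat 0, .ofNat 0, .ofNat 0, .ofNat 0, .ofNat 0, .ofNat 0, .ofNat 0, .ofNat 0, .negSucc 2, .negSucc 3, .ofNat 0, .ofNat 0, .ofNat 0, .ofNat 0, .ofNat 0, .ofNat 0, .ofNat 0, .ofNat 0, .negSucc 14, .ofNat 0, .ofNat 0, .ofNat 0, .ofNat 0, .ofNat 0, .ofNat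 0, .ofNat 0, .ofNat 0, .negSucc 2, .ofNat 0, .ofNat 0, .ofNat 0, .ofNat 0, .ofNat 0, .ofNat 0, .ofNat 0, .ofNat 0, .ofNat 0, .ofNat 0, .ofNat 0, .ofNat 0, .ofNat 0, .ofNat 0, .ofNat 0, .ofNat 0, .ofNat 0, .ofNat 0],
    [.ofNat 0, .ofNat 0, .ofNat 0, .ofNat 0, .ofNat 0, .ofNat 0, .ofNat 0, .ofNat 0, .ofNat 2, .ofNat 0, .ofNat 0, .ofNat 0, .ofNat 0, .ofNat 0, .ofNat 0, .ofNat 0, .ofNat 0, .ofNat 0, .ofNat 0, .ofNat 0, .ofNat 0, .ofNat 0, .ofNat 0, .ofNat 0, .ofNat 0, .negSucc 1, .negSucc 3, .ofNat 0, .ofNat 0, .ofNat 0, .ofNat 0, .ofNat 0, .ofNat 0, .ofNat 0, .ofNat 0, .ofNat 0, .ofNat 0, .ofNat 0, .ofNat 0, .ofNat 0, .ofNat 0, .ofNat 0, .ofNat 0, .negSucc 0, .negSucc 1, .ofNat 0, .ofNat 0, .ofNat 0, .ofNat 0, .ofNat 0, .ofNat 0, .ofNat 0, .ofNat 0, .ofNat 0, .ofNat 0, .ofNat 0, .ofNat 0, .ofNat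 0, .ofNat 0, .ofNat 0, .ofNat 0, .negSucc 1, .negSucc 3, .ofNat 0, .ofNat 0, .ofNat 0, .ofNat 0, .ofNat 0, .ofNat 0, .ofNat 0, .ofNat 0, .negSucc 1, .ofNat 0, .ofNat 0, .ofNat 0, .ofNat 0, .ofNat 0, .ofNat 0, .ofNat 0, .ofNat 0, .ofNat 0, .ofNat 0, .ofNat 0, .ofNat 0, .ofNat 0, .ofNat 0, .ofNat 0, .ofNat 0, .ofNat 0, .ofNat 0, .ofNat 0, .ofNat 0, .ofNat 0, .ofNat 0, .ofNat 0, .ofNat 0, .ofNat 0, .ofNat 0, .ofNat 0]]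

def sp1 : List (ℕ × List ℕ × List ℕ) := [(0, [8], [1, 0]),
    (0, [2, 2], [2, 0]),
    (0, [2], [0, 0, 0]),
    (0, [3], [2, 0]),
    (0, [4], [2, 0]),
    (0, [5], [2, 0]),
    (0, [6], [2, 0]),
    (0, [7], [2, 0])]

def rv1 : List (List ℤ) := [[.ofNat 0, .ofNat 0, .ofNat 0, .ofNat 0, .ofNat 0, .ofNat 0, .ofNat 0, .ofNat 0, .ofNat 0, .ofNat 0, .ofNat 0, .ofNat 0, .ofNat 0, .ofNat 0, .ofNat 0, .ofNat 0, .ofNat 0, .ofNat 0, .ofNat 0, .ofNat 0, .ofNat 0, .ofNat 0, .ofNat 0, .ofNat 0, .ofNat 0, .ofNat 0, .negSucc 1, .ofNat 0, .ofNat 0, .ofNat 0, .ofNat 0, .ofNat 0, .ofNat 0, .ofNat 0, .ofNat 0, .ofNat 0, .ofNat 0, .ofNat 0, .ofNat 0, .ofNat 0, .ofNat 0, .ofNat 0, .ofNat 0, .ofNat 0, .negSucc 0, .ofNat 0, .ofNat 0, .ofNat 0, .ofNat 0, .ofNat 0, .ofNat 0, .ofNat 0, .ofNat 0, .ofNat 0, .ofNat 0,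 .ofNat 0, .ofNat 0, .ofNat 0, .ofNat 0, .ofNat 0, .ofNat 0, .ofNat 0, .negSucc 1, .ofNat 0, .ofNat 0, .ofNat 0, .ofNat 0, .ofNat 0, .ofNat 0, .ofNat 0, .ofNat 0, .negSucc 0, .ofNat 0, .ofNat 0, .ofNat 0, .ofNat 0, .ofNat 0, .ofNat 0, .ofNat 0, .ofNat 0, .ofNat 0, .ofNat 0, .ofNat 0, .ofNat 0, .ofNat 0, .ofNat 0, .ofNat 0, .ofNat 0, .ofNat 0, .ofNat 0, .ofNat 0, .ofNat 0, .ofNat 0, .ofNat 0, .ofNat 0, .ofNat 0, .ofNat 0, .ofNat 0, .ofNat 0],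
    [.ofNat 0, .ofNat 0, .negSucc 2, .ofNat 0, .ofNat 0, .ofNat 0, .ofNat 0, .ofNat 0, .ofNat 0, .ofNat 0, .ofNat 0, .ofNat 0, .ofNat 0, .ofNat 0, .ofNat 0, .ofNat 0, .ofNat 0, .ofNat 0, .ofNat 0, .ofNat 0, .ofNat 0, .ofNat 0, .ofNat 0, .negSucc 2, .negSucc 2, .negSucc 2, .negSucc 2, .ofNat 0, .ofNat 0, .ofNat 0, .ofNat 0, .ofNat 0, .ofNat 0, .ofNat 0, .ofNat 0, .ofNat 0, .ofNat 0, .ofNat 0, .ofNat 0, .ofNat 0, .ofNat 0, .ofNat 0, .ofNat 0, .ofNat 0, .ofNat 0, .ofNat 0, .ofNat 0, .ofNat 0, .ofNat 0, .ofNat 0, .negSucc 1, .negSucc 5, .negSucc 5, .negSucc 7, .ofNat 0, .ofNat 0, .ofNat 0, .ofNat 0, .ofNat 0, .ofNat 0, .negSucc 0, .negSucc 2, .negSucc 6, .ofNat 0, .ofNat 0, .ofNat 0, .ofNat 0, .ofNat 0, .ofNat 0, .ofNat 0, .negSucc 1, .negSucc 5, .ofNat 0, .ofNat 0, .ofNat 0, .ofNat 0, .ofNat 0,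 .ofNat 0, .ofNat 0, .ofNat 0, .negSucc 5, .ofNat 0, .ofNat 0, .ofNat 0, .ofNat 0, .ofNat 0, .ofNat 0, .ofNat 0, .ofNat 0, .ofNat 0, .ofNat 0, .ofNat 0, .ofNat 0, .ofNat 0, .ofNat 0, .ofNat 0, .ofNat 0, .ofNat 0, .ofNat 0],
    [.ofNat 0, .ofNat 0, .ofNat 3, .ofNat 0, .ofNat 0, .ofNat 3, .ofNat 3, .ofNat 2, .ofNat 3, .ofNat 0, .ofNat 0, .ofNat 0, .ofNat 0, .ofNat 0, .ofNat 0, .ofNat 0, .ofNat 0, .ofNat 0, .ofNat 0, .ofNat 0, .ofNat 0, .ofNat 0, .ofNat 0, .ofNat 0, .ofNat 0, .ofNat 0, .ofNat 0, .ofNat 0, .ofNat 0, .ofNat 0, .ofNat 0, .ofNat 0, .ofNat 0, .ofNat 0, .ofNat 0, .ofNat 0, .ofNat 0, .ofNat 0, .ofNat 0, .ofNat 0, .ofNat 0, .ofNat 0, .ofNat 0, .ofNat 0, .ofNat 0, .ofNat 0, .ofNat 0, .ofNat 0, .ofNat 0, .ofNat 0, .ofNat 2, .ofNat 3, .ofNat 6, .ofNat 6, .ofNat 0, .ofNat 0, .ofNat 0, .ofNat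 0, .ofNat 0, .ofNat 0, .ofNat 1, .ofNat 5, .ofNat 6, .ofNat 0, .ofNat 0, .ofNat 0, .ofNat 0, .ofNat 0, .ofNat 0, .ofNat 0, .ofNat 4, .ofNat 16, .ofNat 0, .ofNat 0, .ofNat 0, .ofNat 0, .ofNat 0, .ofNat 0, .ofNat 0, .ofNat 0, .ofNat 2, .ofNat 0, .ofNat 0, .ofNat 0, .ofNat 0, .ofNat 0, .ofNat 0, .ofNat 0, .ofNat 0, .ofNat 0, .ofNat 0, .ofNat 0, .ofNat 0, .ofNat 0, .ofNat 0, .ofNat 0, .ofNat 0, .ofNat 0, .ofNat 0],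
    [.ofNat 0, .ofNat 0, .ofNat 0, .ofNat 0, .ofNat 0, .ofNat 1, .ofNat 2, .ofNat 1, .ofNat 0, .ofNat 0, .ofNat 0, .ofNat 0, .ofNat 0, .ofNat 0, .ofNat 0, .ofNat 0, .ofNat 0, .ofNat 0, .ofNat 0, .ofNat 0, .ofNat 0, .ofNat 0, .ofNat 0, .ofNat 0, .negSucc 0, .ofNat 0, .ofNat 0, .ofNat 0, .ofNat 0, .ofNat 0, .ofNat 0, .ofNat 0, .ofNat 2, .ofNat 1, .ofNat 2, .ofNat 2, .ofNat 0, .ofNat 0, .ofNat 0, .ofNat 0, .ofNat 0, .ofNat 0, .ofNat 0, .ofNat 0, .ofNat 0, .ofNat 0, .ofNat 0, .ofNat 0, .ofNat 0, .ofNat 0, .ofNat 0, .ofNat 2, .ofNat 1, .negSucc 0, .ofNat 0, .ofNat 0, .ofNat 0, .ofNat 0, .ofNat 0, .ofNat 0, .ofNat 0, .ofNat 1, .ofNat 2, .ofNat 0, .ofNat 0, .ofNat 0, .ofNat 0, .ofNat 0, .ofNat 0, .ofNat 0, .ofNat 3, .ofNat 10, .ofNat 0, .ofNat 0, .ofNat 0, .ofNat 0, .ofNat 0, .ofNat 0, .ofNat 0, .ofNat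 0, .ofNat 1, .ofNat 0, .ofNat 0, .ofNat 0, .ofNat 0, .ofNat 0, .ofNat 0, .ofNat 0, .ofNat 0, .ofNat 0, .ofNat 0, .ofNat 0, .ofNat 0, .ofNat 0, .ofNat 0, .ofNat 0, .ofNat 0, .ofNat 0, .ofNat 0],
    [.ofNat 0, .ofNat 0, .ofNat 0, .ofNat 0, .ofNat 0, .ofNat 0, .ofNat 0, .ofNat 0, .ofNat 1, .ofNat 0, .ofNat 0, .ofNat 0, .ofNat 0, .ofNat 0, .ofNat 0, .ofNat 0, .ofNat 0, .ofNat 0, .ofNat 0, .ofNat 0, .ofNat 0, .ofNat 0, .ofNat 0, .ofNat 0, .negSucc 0, .negSucc 0, .ofNat 0, .ofNat 0, .ofNat 0, .ofNat 0, .ofNat 0, .ofNat 0, .ofNat 0, .ofNat 0, .ofNat 0, .ofNat 0, .ofNat 0, .ofNat 0, .ofNat 0, .ofNat 0, .ofNat 0, .ofNat 2, .ofNat 1, .ofNat 2, .ofNat 2, .ofNat 0, .ofNat 0, .ofNat 0, .ofNat 0, .ofNat 0, .ofNat 0, .negSucc 1, .negSucc 1, .ofNat 2, .ofNat 0, .ofNat 0, .ofNat 0, .ofNat 0, .ofNat 0, .ofNat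 0, .ofNat 0, .ofNat 1, .ofNat 1, .ofNat 0, .ofNat 0, .ofNat 0, .ofNat 0, .ofNat 0, .ofNat 0, .ofNat 0, .ofNat 0, .ofNat 5, .ofNat 0, .ofNat 0, .ofNat 0, .ofNat 0, .ofNat 0, .ofNat 0, .ofNat 0, .ofNat 0, .ofNat 1, .ofNat 0, .ofNat 0, .ofNat 0, .ofNat 0, .ofNat 0, .ofNat 0, .ofNat 0, .ofNat 0, .ofNat 0, .ofNat 0, .ofNat 0, .ofNat 0, .ofNat 0, .ofNat 0, .ofNat 0, .ofNat 0, .ofNat 0, .ofNat 0],
    [.ofNat 0, .ofNat 0, .ofNat 0, .ofNat 0, .ofNat 0, .ofNat 0, .ofNat 0, .ofNat 0, .ofNat 2, .ofNat 0, .ofNat 0, .ofNat 0, .ofNat 0, .ofNat 0, .ofNat 0, .ofNat 0, .ofNat 0, .ofNat 0, .ofNat 0, .ofNat 0, .ofNat 0, .ofNat 0, .ofNat 0, .ofNat 0, .ofNat 0, .ofNat 0, .ofNat 0, .ofNat 0, .ofNat 0, .ofNat 0, .ofNat 0, .ofNat 0, .ofNat 0, .ofNat 0, .ofNat 0, .ofNat 0, .ofNat 0, .ofNat 0, .ofNat 0, .ofNat 0, .ofNat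 0, .ofNat 0, .ofNat 0, .ofNat 0, .ofNat 0, .ofNat 0, .ofNat 0, .ofNat 0, .ofNat 0, .ofNat 0, .ofNat 0, .ofNat 1, .ofNat 2, .negSucc 1, .ofNat 0, .ofNat 0, .ofNat 0, .ofNat 0, .ofNat 0, .ofNat 0, .ofNat 0, .ofNat 0, .negSucc 1, .ofNat 0, .ofNat 0, .ofNat 0, .ofNat 0, .ofNat 0, .ofNat 0, .ofNat 0, .ofNat 0, .negSucc 3, .ofNat 0, .ofNat 0, .ofNat 0, .ofNat 0, .ofNat 0, .ofNat 0, .ofNat 0, .ofNat 0, .ofNat 0, .ofNat 0, .ofNat 0, .ofNat 0, .ofNat 0, .ofNat 0, .ofNat 0, .ofNat 0, .ofNat 0, .ofNat 0, .ofNat 0, .ofNat 0, .ofNat 0, .ofNat 0, .ofNat 0, .ofNat 0, .ofNat 0, .ofNat 0, .ofNat 0],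
    [.ofNat 0, .ofNat 0, .ofNat 0, .ofNat 0, .ofNat 0, .ofNat 0, .ofNat 0, .ofNat 0, .ofNat 2, .ofNat 0, .ofNat 0, .ofNat 0, .ofNat 0, .ofNat 0, .ofNat 0, .ofNat 0, .ofNat 0, .ofNat 0, .ofNat 0, .ofNat 0, .ofNat 0, .ofNat 0, .ofNat 0, .ofNat 0, .ofNat 0, .negSucc 1, .ofNat 0, .ofNat 0, .ofNat 0, .ofNat 0, .ofNat 0, .ofNat 0, .ofNat 0, .ofNat 0, .ofNat 0, .ofNat 0, .ofNat 0, .ofNat 0, .ofNat 0, .ofNat 0, .ofNat 0, .ofNat 0, .ofNat 0, .ofNat 0, .ofNat 0, .ofNat 0, .ofNat 0, .ofNat 0, .ofNat 0, .ofNat 0, .ofNat 0, .negSucc 1, .negSucc 3, .negSucc 3, .ofNat 0, .ofNat 0, .ofNat 0, .ofNat 0, .ofNat 0, .ofNat 0, .ofNat 0, .ofNat 0, .ofNat 0, .ofNat 0, .ofNat 0, .ofNat 0, .ofNat 0, .ofNat 0, .ofNat 0, .ofNat 0, .ofNat 0, .negSucc 3, .ofNat 0, .ofNat 0, .ofNat 0, .ofNat 0, .ofNat 0, .ofNat 0, .ofNat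 0, .ofNat 0, .ofNat 0, .ofNat 0, .ofNat 0, .ofNat 0, .ofNat 0, .ofNat 0, .ofNat 0, .ofNat 0, .ofNat 0, .ofNat 0, .ofNat 0, .ofNat 0, .ofNat 0, .ofNat 0, .ofNat 0, .ofNat 0, .ofNat 0, .ofNat 0, .ofNat 0],
    [.ofNat 0, .ofNat 0, .ofNat 0, .ofNat 0, .ofNat 0, .ofNat 0, .ofNat 0, .ofNat 0, .ofNat 0, .ofNat 0, .ofNat 0, .ofNat 0, .ofNat 0, .ofNat 0, .ofNat 0, .ofNat 0, .ofNat 0, .ofNat 0, .ofNat 0, .ofNat 0, .ofNat 0, .ofNat 0, .ofNat 0, .ofNat 0, .ofNat 0, .ofNat 0, .ofNat 0, .ofNat 0, .ofNat 0, .ofNat 0, .ofNat 0, .ofNat 0, .ofNat 0, .ofNat 0, .ofNat 0, .ofNat 0, .ofNat 0, .ofNat 0, .ofNat 0, .ofNat 0, .ofNat 0, .ofNat 0, .ofNat 0, .ofNat 0, .ofNat 0, .ofNat 0, .ofNat 0, .ofNat 0, .ofNat 0, .ofNat 0, .ofNat 0, .ofNat 0, .negSucc 1, .ofNat 0, .ofNat 0, .ofNat 0, .ofNat 0, .ofNat 0, .ofNat 0, .ofNat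 0, .ofNat 0, .negSucc 0, .ofNat 0, .ofNat 0, .ofNat 0, .ofNat 0, .ofNat 0, .ofNat 0, .ofNat 0, .ofNat 0, .ofNat 0, .ofNat 2, .ofNat 0, .ofNat 0, .ofNat 0, .ofNat 0, .ofNat 0, .ofNat 0, .ofNat 0, .ofNat 0, .ofNat 0, .ofNat 0, .ofNat 0, .ofNat 0, .ofNat 0, .ofNat 0, .ofNat 0, .ofNat 0, .ofNat 0, .ofNat 0, .ofNat 0, .ofNat 0, .ofNat 0, .ofNat 0, .ofNat 0, .ofNat 0, .ofNat 0, .ofNat 0, .ofNat 0]]

def sp2 : List (ℕ × List ℕ × List ℕ) := [(0, [8], [2, 0]),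
    (0, [3, 3], [3, 0]),
    (0, [3], [0, 0, 0]),
    (0, [4], [3, 0]),
    (0, [5], [3, 0]),
    (0, [6], [3, 0]),
    (0, [7], [3, 0]),
    (0, [8], [3, 0])]

def rv2 : List (List ℤ) := [[.ofNat 0, .ofNat 0, .ofNat 0, .ofNat 0, .ofNat 0, .ofNat 0, .ofNat 0, .ofNat 0, .ofNat 0, .ofNat 0, .ofNat 0, .ofNat 0, .ofNat 0, .ofNat 0, .ofNat 0, .ofNat 0, .ofNat 0, .ofNat 0, .ofNat 0, .ofNat 0, .ofNat 0, .ofNat 0, .ofNat 0, .ofNat 0, .ofNat 0, .ofNat 0, .ofNat 0, .ofNat 0, .ofNat 0, .ofNat 0, .ofNat 0, .ofNat 0, .ofNat 0, .ofNat 0, .ofNat 0, .ofNat 0, .ofNat 0, .ofNat 0, .ofNat 0, .ofNat 0, .ofNat 0, .ofNat 0, .ofNat 0, .ofNat 0, .ofNat 0, .ofNat 0, .ofNat 0, .ofNat 0, .ofNat 0, .ofNat 0, .ofNat 0, .ofNat 0, .ofNat 0, .negSucc 1, .ofNat 0, .ofNat 0, .ofNat 0, .ofNat 0, .ofNat 0, .ofNat 0, .ofNat 0,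 .ofNat 0, .negSucc 0, .ofNat 0, .ofNat 0, .ofNat 0, .ofNat 0, .ofNat 0, .ofNat 0, .ofNat 0, .ofNat 0, .negSucc 1, .ofNat 0, .ofNat 0, .ofNat 0, .ofNat 0, .ofNat 0, .ofNat 0, .ofNat 0, .ofNat 0, .ofNat 0, .ofNat 0, .ofNat 0, .ofNat 0, .ofNat 0, .ofNat 0, .ofNat 0, .ofNat 0, .ofNat 0, .ofNat 0, .ofNat 0, .ofNat 0, .ofNat 0, .ofNat 0, .ofNat 0, .ofNat 0, .ofNat 0, .ofNat 0, .ofNat 0],
    [.ofNat 0, .ofNat 0, .ofNat 0, .negSucc 2, .ofNat 0, .ofNat 0, .ofNat 0, .ofNat 0, .ofNat 0, .ofNat 0, .ofNat 0, .ofNat 0, .ofNat 0, .ofNat 0, .ofNat 0, .ofNat 0, .ofNat 0, .ofNat 0, .ofNat 0, .ofNat 0, .ofNat 0, .ofNat 0, .ofNat 0, .ofNat 0, .ofNat 0, .ofNat 0, .ofNat 0, .ofNat 0, .ofNat 0, .ofNat 0, .ofNat 0, .ofNat 0, .ofNat 0, .negSucc 2, .negSucc 0, .negSucc 0, .ofNat 0, .ofNat 0, .ofNat 0, .ofNat 0, .ofNat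 0, .ofNat 0, .ofNat 0, .ofNat 0, .ofNat 0, .ofNat 0, .ofNat 0, .ofNat 0, .ofNat 0, .ofNat 0, .ofNat 0, .ofNat 0, .ofNat 0, .ofNat 0, .ofNat 0, .ofNat 0, .ofNat 0, .ofNat 0, .ofNat 0, .ofNat 0, .negSucc 0, .negSucc 1, .negSucc 1, .ofNat 0, .ofNat 0, .ofNat 0, .ofNat 0, .ofNat 0, .ofNat 0, .ofNat 0, .negSucc 0, .negSucc 2, .ofNat 0, .ofNat 0, .ofNat 0, .ofNat 0, .ofNat 0, .ofNat 0, .ofNat 0, .ofNat 0, .negSucc 0, .ofNat 0, .ofNat 0, .ofNat 0, .ofNat 0, .ofNat 0, .ofNat 0, .ofNat 0, .ofNat 0, .ofNat 0, .ofNat 0, .ofNat 0, .ofNat 0, .ofNat 0, .ofNat 0, .ofNat 0, .ofNat 0, .ofNat 0, .ofNat 0],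
    [.ofNat 0, .ofNat 0, .ofNat 0, .ofNat 3, .ofNat 0, .ofNat 0, .ofNat 3, .ofNat 2, .ofNat 0, .ofNat 0, .ofNat 0, .ofNat 0, .ofNat 0, .ofNat 0, .ofNat 0, .ofNat 0, .ofNat 0, .ofNat 0, .ofNat 0, .ofNat 0, .ofNat 0, .ofNat 0, .ofNat 0, .ofNat 0, .ofNat 0, .ofNat 0, .ofNat 0, .ofNat 0, .ofNat 0, .ofNat 0, .ofNat 0, .ofNat 0, .ofNat 0, .ofNat 0, .ofNat 0, .ofNat 0, .ofNat 0, .ofNat 0, .ofNat 0, .ofNat 0, .ofNat 0, .ofNat 0, .ofNat 0, .ofNat 0, .ofNat 0, .ofNat 0, .ofNat 0, .ofNat 0, .ofNat 0, .ofNat 0, .ofNat 0, .ofNat 0, .ofNat 0, .ofNat 0, .ofNat 0, .ofNat 0, .ofNat 0, .ofNat 0, .ofNat 0, .ofNat 0, .ofNat 1, .ofNat 2, .ofNat 0, .ofNat 0, .ofNat 0, .ofNat 0, .ofNat 0, .ofNat 0, .ofNat 0, .ofNat 0, .ofNat 2, .ofNat 0, .ofNat 0, .ofNat 0, .ofNat 0, .ofNat 0, .ofNat 0, .ofNat 0, .ofNat 0, .ofNat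 0, .ofNat 0, .ofNat 0, .ofNat 0, .ofNat 0, .ofNat 0, .ofNat 0, .ofNat 0, .ofNat 0, .ofNat 0, .ofNat 0, .ofNat 0, .ofNat 0, .ofNat 0, .ofNat 0, .ofNat 0, .ofNat 0, .ofNat 0, .ofNat 0, .ofNat 0],
    [.ofNat 0, .ofNat 0, .ofNat 0, .ofNat 0, .ofNat 0, .ofNat 2, .ofNat 2, .ofNat 2, .ofNat 1, .ofNat 0, .ofNat 0, .ofNat 0, .ofNat 0, .ofNat 0, .ofNat 0, .ofNat 0, .ofNat 0, .ofNat 0, .ofNat 0, .ofNat 0, .ofNat 0, .ofNat 0, .ofNat 0, .ofNat 0, .ofNat 0, .ofNat 0, .ofNat 0, .ofNat 0, .ofNat 0, .ofNat 0, .ofNat 0, .ofNat 0, .ofNat 0, .negSucc 0, .negSucc 0, .ofNat 0, .ofNat 0, .ofNat 0, .ofNat 0, .ofNat 0, .ofNat 0, .ofNat 0, .ofNat 1, .ofNat 0, .ofNat 0, .ofNat 0, .ofNat 0, .ofNat 0, .ofNat 0, .ofNat 0, .ofNat 0, .ofNat 4, .ofNat 2, .ofNat 2, .ofNat 0, .ofNat 0, .ofNat 0, .ofNat 0, .ofNat 0, .ofNat 0,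 .ofNat 0, .negSucc 1, .ofNat 0, .ofNat 0, .ofNat 0, .ofNat 0, .ofNat 0, .ofNat 0, .ofNat 0, .ofNat 0, .ofNat 1, .ofNat 4, .ofNat 0, .ofNat 0, .ofNat 0, .ofNat 0, .ofNat 0, .ofNat 0, .ofNat 0, .ofNat 0, .ofNat 0, .ofNat 0, .ofNat 0, .ofNat 0, .ofNat 0, .ofNat 0, .ofNat 0, .ofNat 0, .ofNat 0, .ofNat 0, .ofNat 0, .ofNat 0, .ofNat 0, .ofNat 0, .ofNat 0, .ofNat 0, .ofNat 0, .ofNat 0, .ofNat 0],
    [.ofNat 0, .ofNat 0, .ofNat 0, .ofNat 0, .ofNat 0, .ofNat 0, .ofNat 0, .ofNat 2, .ofNat 2, .ofNat 0, .ofNat 0, .ofNat 0, .ofNat 0, .ofNat 0, .ofNat 0, .ofNat 0, .ofNat 0, .ofNat 0, .ofNat 0, .ofNat 0, .ofNat 0, .ofNat 0, .ofNat 0, .ofNat 0, .ofNat 0, .ofNat 0, .ofNat 0, .ofNat 0, .ofNat 0, .ofNat 0, .ofNat 0, .ofNat 0, .ofNat 0, .ofNat 0, .ofNat 0, .ofNat 0, .ofNat 0, .ofNat 0, .ofNat 0, .ofNat 0, .ofNat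 0, .ofNat 0, .ofNat 0, .ofNat 0, .ofNat 0, .ofNat 0, .ofNat 0, .ofNat 0, .ofNat 0, .ofNat 0, .ofNat 0, .ofNat 1, .ofNat 0, .ofNat 0, .ofNat 0, .ofNat 0, .ofNat 0, .ofNat 0, .ofNat 0, .ofNat 0, .ofNat 0, .negSucc 1, .negSucc 1, .ofNat 0, .ofNat 0, .ofNat 0, .ofNat 0, .ofNat 0, .ofNat 0, .ofNat 0, .ofNat 0, .ofNat 0, .ofNat 0, .ofNat 0, .ofNat 0, .ofNat 0, .ofNat 0, .ofNat 0, .ofNat 0, .ofNat 0, .ofNat 0, .ofNat 0, .ofNat 0, .ofNat 0, .ofNat 0, .ofNat 0, .ofNat 0, .ofNat 0, .ofNat 0, .ofNat 0, .ofNat 0, .ofNat 0, .ofNat 0, .ofNat 0, .ofNat 0, .ofNat 0, .ofNat 0, .ofNat 0, .ofNat 0],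
    [.ofNat 0, .ofNat 0, .ofNat 0, .ofNat 0, .ofNat 0, .ofNat 0, .ofNat 0, .ofNat 1, .ofNat 1, .ofNat 0, .ofNat 0, .ofNat 0, .ofNat 0, .ofNat 0, .ofNat 0, .ofNat 0, .ofNat 0, .ofNat 0, .ofNat 0, .ofNat 0, .ofNat 0, .ofNat 0, .ofNat 0, .ofNat 0, .ofNat 0, .ofNat 0, .ofNat 0, .ofNat 0, .ofNat 0, .ofNat 0, .ofNat 0, .ofNat 0, .ofNat 0, .ofNat 0, .negSucc 1, .ofNat 0, .ofNat 0, .ofNat 0, .ofNat 0, .ofNat 0, .ofNat 0, .ofNat 0, .ofNat 0, .ofNat 0, .ofNat 0, .ofNat 0, .ofNat 0, .ofNat 0, .ofNat 0, .ofNat 0, .ofNat 0, .ofNat 0, .ofNat 0, .ofNat 0, .ofNat 0, .ofNat 0, .ofNat 0, .ofNat 0, .ofNat 0, .ofNat 0, .ofNat 0, .ofNat 0, .negSucc 0, .ofNat 0, .ofNat 0, .ofNat 0, .ofNat 0, .ofNat 0, .ofNat 0, .ofNat 0, .ofNat 0, .negSucc 1, .ofNat 0, .ofNat 0, .ofNat 0, .ofNat 0, .ofNat 0, .ofNat 0, .ofNat 0, .ofNat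 0, .ofNat 0, .ofNat 0, .ofNat 0, .ofNat 0, .ofNat 0, .ofNat 0, .ofNat 0, .ofNat 0, .ofNat 0, .ofNat 0, .ofNat 0, .ofNat 0, .ofNat 0, .ofNat 0, .ofNat 0, .ofNat 0, .ofNat 0, .ofNat 0, .ofNat 0],
    [.ofNat 0, .ofNat 0, .ofNat 0, .ofNat 0, .ofNat 0, .ofNat 0, .ofNat 0, .ofNat 0, .ofNat 0, .ofNat 0, .ofNat 0, .ofNat 0, .ofNat 0, .ofNat 0, .ofNat 0, .ofNat 0, .ofNat 0, .ofNat 0, .ofNat 0, .ofNat 0, .ofNat 0, .ofNat 0, .ofNat 0, .ofNat 0, .ofNat 0, .ofNat 0, .ofNat 0, .ofNat 0, .ofNat 0, .ofNat 0, .ofNat 0, .ofNat 0, .ofNat 0, .ofNat 0, .ofNat 0, .ofNat 0, .ofNat 0, .ofNat 0, .ofNat 0, .ofNat 0, .ofNat 0, .ofNat 0, .ofNat 0, .ofNat 0, .ofNat 0, .ofNat 0, .ofNat 0, .ofNat 0, .ofNat 0, .ofNat 0, .ofNat 0, .ofNat 0, .ofNat 0, .ofNat 0, .ofNat 0, .ofNat 0, .ofNat 0, .ofNat 0, .ofNat 0, .ofNat 0, .ofNat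 0, .negSucc 0, .ofNat 0, .ofNat 0, .ofNat 0, .ofNat 0, .ofNat 0, .ofNat 0, .ofNat 0, .ofNat 0, .ofNat 0, .ofNat 0, .ofNat 0, .ofNat 0, .ofNat 0, .ofNat 0, .ofNat 0, .ofNat 0, .ofNat 0, .ofNat 0, .ofNat 0, .ofNat 0, .ofNat 0, .ofNat 0, .ofNat 0, .ofNat 0, .ofNat 0, .ofNat 0, .ofNat 0, .ofNat 0, .ofNat 0, .ofNat 0, .ofNat 0, .ofNat 0, .ofNat 0, .ofNat 0, .ofNat 0, .ofNat 0, .ofNat 0],
    [.ofNat 0, .ofNat 0, .ofNat 0, .ofNat 0, .ofNat 0, .ofNat 0, .ofNat 0, .ofNat 0, .ofNat 0, .ofNat 0, .ofNat 0, .ofNat 0, .ofNat 0, .ofNat 0, .ofNat 0, .ofNat 0, .ofNat 0, .ofNat 0, .ofNat 0, .ofNat 0, .ofNat 0, .ofNat 0, .ofNat 0, .ofNat 0, .ofNat 0, .ofNat 0, .ofNat 0, .ofNat 0, .ofNat 0, .ofNat 0, .ofNat 0, .ofNat 0, .ofNat 0, .ofNat 0, .ofNat 0, .ofNat 0, .ofNat 0, .ofNat 0, .ofNat 0, .ofNat 0, .ofNat 0, .ofNat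 0, .ofNat 0, .ofNat 0, .ofNat 0, .ofNat 0, .ofNat 0, .ofNat 0, .ofNat 0, .ofNat 0, .ofNat 0, .ofNat 0, .ofNat 0, .ofNat 0, .ofNat 0, .ofNat 0, .ofNat 0, .ofNat 0, .ofNat 0, .ofNat 0, .ofNat 0, .ofNat 0, .negSucc 0, .ofNat 0, .ofNat 0, .ofNat 0, .ofNat 0, .ofNat 0, .ofNat 0, .ofNat 0, .ofNat 0, .ofNat 0, .ofNat 0, .ofNat 0, .ofNat 0, .ofNat 0, .ofNat 0, .ofNat 0, .ofNat 0, .ofNat 0, .ofNat 0, .ofNat 0, .ofNat 0, .ofNat 0, .ofNat 0, .ofNat 0, .ofNat 0, .ofNat 0, .ofNat 0, .ofNat 0, .ofNat 0, .ofNat 0, .ofNat 0, .ofNat 0, .ofNat 0, .ofNat 0, .ofNat 0, .ofNat 0, .ofNat 0]]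

def sp3 : List (ℕ × List ℕ × List ℕ) := [(0, [4, 4], [4, 0]),
    (0, [4], [0, 0, 0]),
    (0, [5], [4, 0]),
    (0, [5, 5], [5, 0]),
    (0, [3], [2, 1]),
    (0, [4], [2, 1]),
    (0, [3, 3], [3, 1]),
    (0, [4], [3, 1])]

def rv3 : List (List ℤ) := [[.ofNat 0, .ofNat 0, .ofNat 0, .ofNat 0, .negSucc 2, .ofNat 0, .ofNat 0, .ofNat 0, .ofNat 0, .ofNat 0, .ofNat 0, .ofNat 0, .ofNat 0, .ofNat 0, .ofNat 0, .ofNat 0, .ofNat 0, .ofNat 0, .ofNat 0, .ofNat 0, .ofNat 0, .ofNat 0, .ofNat 0, .ofNat 0, .ofNat 0, .ofNat 0, .ofNat 0, .ofNat 0, .ofNat 0, .ofNat 0, .ofNat 0, .ofNat 0, .ofNat 0, .ofNat 0, .ofNat 0, .ofNat 0, .ofNat 0, .ofNat 0, .ofNat 0, .ofNat 0, .ofNat 0, .ofNat 0, .negSucc 2, .negSucc 2, .negSucc 0, .ofNat 0, .ofNat 0, .ofNat 0, .ofNat 0, .ofNat 0, .ofNat 0, .ofNat 0, .ofNat 0, .ofNat 0,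 .ofNat 0, .ofNat 0, .ofNat 0, .ofNat 0, .ofNat 0, .ofNat 0, .negSucc 0, .negSucc 2, .negSucc 1, .ofNat 0, .ofNat 0, .ofNat 0, .ofNat 0, .ofNat 0, .ofNat 0, .ofNat 0, .negSucc 0, .negSucc 5, .ofNat 0, .ofNat 0, .ofNat 0, .ofNat 0, .ofNat 0, .ofNat 0, .ofNat 0, .ofNat 0, .negSucc 0, .ofNat 0, .ofNat 0, .ofNat 0, .ofNat 0, .ofNat 0, .ofNat 0, .ofNat 0, .ofNat 0, .ofNat 0, .ofNat 0, .ofNat 0, .ofNat 0, .ofNat 0, .ofNat 0, .ofNat 0, .ofNat 0, .ofNat 0, .ofNat 0],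
    [.ofNat 0, .ofNat 0, .ofNat 0, .ofNat 0, .ofNat 3, .ofNat 0, .ofNat 3, .ofNat 2, .ofNat 0, .ofNat 0, .ofNat 0, .ofNat 0, .ofNat 0, .ofNat 0, .ofNat 0, .ofNat 0, .ofNat 0, .ofNat 0, .ofNat 0, .ofNat 0, .ofNat 0, .ofNat 0, .ofNat 0, .ofNat 0, .ofNat 0, .ofNat 0, .ofNat 0, .ofNat 0, .ofNat 0, .ofNat 0, .ofNat 0, .ofNat 0, .ofNat 0, .ofNat 0, .ofNat 0, .ofNat 0, .ofNat 0, .ofNat 0, .ofNat 0, .ofNat 0, .ofNat 0, .ofNat 0, .ofNat 0, .ofNat 0, .ofNat 0, .ofNat 0, .ofNat 0, .ofNat 0, .ofNat 0, .ofNat 0, .ofNat 0, .ofNat 0, .ofNat 0, .ofNat 0, .ofNat 0, .ofNat 0, .ofNat 0, .ofNat 0, .ofNat 0, .ofNat 0, .ofNat 1, .ofNat 2, .ofNat 0, .ofNat 0, .ofNat 0, .ofNat 0, .ofNat 0, .ofNat 0, .ofNat 0, .ofNat 0, .ofNat 3, .ofNat 0, .ofNat 0, .ofNat 0, .ofNat 0, .ofNat 0, .ofNat 0, .ofNat 0, .ofNat 0, .ofNat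 0, .ofNat 0, .ofNat 0, .ofNat 0, .ofNat 0, .ofNat 0, .ofNat 0, .ofNat 0, .ofNat 0, .ofNat 0, .ofNat 0, .ofNat 0, .ofNat 0, .ofNat 0, .ofNat 0, .ofNat 0, .ofNat 0, .ofNat 0, .ofNat 0, .ofNat 0],
    [.ofNat 0, .ofNat 0, .ofNat 0, .ofNat 0, .ofNat 0, .ofNat 0, .ofNat 0, .ofNat 0, .ofNat 2, .ofNat 0, .ofNat 0, .ofNat 0, .ofNat 0, .ofNat 0, .ofNat 0, .ofNat 0, .ofNat 0, .ofNat 0, .ofNat 0, .ofNat 0, .ofNat 0, .ofNat 0, .ofNat 0, .ofNat 0, .ofNat 0, .ofNat 0, .ofNat 0, .ofNat 0, .ofNat 0, .ofNat 0, .ofNat 0, .ofNat 0, .ofNat 0, .ofNat 0, .ofNat 0, .ofNat 0, .ofNat 0, .ofNat 0, .ofNat 0, .ofNat 0, .ofNat 0, .ofNat 0, .ofNat 0, .ofNat 0, .ofNat 0, .ofNat 0, .ofNat 0, .ofNat 0, .ofNat 0, .ofNat 0, .ofNat 0, .ofNat 1, .ofNat 1, .ofNat 0, .ofNat 0, .ofNat 0, .ofNat 0, .ofNat 0, .ofNat 0, .ofNat 0, .ofNat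 0, .ofNat 0, .negSucc 1, .ofNat 0, .ofNat 0, .ofNat 0, .ofNat 0, .ofNat 0, .ofNat 0, .ofNat 0, .ofNat 0, .negSucc 1, .ofNat 0, .ofNat 0, .ofNat 0, .ofNat 0, .ofNat 0, .ofNat 0, .ofNat 0, .ofNat 0, .ofNat 0, .ofNat 0, .ofNat 0, .ofNat 0, .ofNat 0, .ofNat 0, .ofNat 0, .ofNat 0, .ofNat 0, .ofNat 0, .ofNat 0, .ofNat 0, .ofNat 0, .ofNat 0, .ofNat 0, .ofNat 0, .ofNat 0, .ofNat 0, .ofNat 0],
    [.ofNat 0, .ofNat 0, .ofNat 0, .ofNat 0, .ofNat 0, .negSucc 2, .ofNat 0, .ofNat 0, .ofNat 0, .ofNat 0, .ofNat 0, .ofNat 0, .ofNat 0, .ofNat 0, .ofNat 0, .ofNat 0, .ofNat 0, .ofNat 0, .ofNat 0, .ofNat 0, .ofNat 0, .ofNat 0, .ofNat 0, .ofNat 0, .ofNat 0, .ofNat 0, .ofNat 0, .ofNat 0, .ofNat 0, .ofNat 0, .ofNat 0, .ofNat 0, .ofNat 0, .ofNat 0, .ofNat 0, .ofNat 0, .ofNat 0, .ofNat 0, .ofNat 0, .ofNat 0, .ofNat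 0, .ofNat 0, .ofNat 0, .ofNat 0, .ofNat 0, .ofNat 0, .ofNat 0, .ofNat 0, .ofNat 0, .ofNat 0, .ofNat 0, .ofNat 0, .ofNat 0, .ofNat 0, .ofNat 0, .ofNat 0, .ofNat 0, .ofNat 0, .ofNat 0, .ofNat 0, .ofNat 0, .ofNat 0, .ofNat 0, .ofNat 0, .ofNat 0, .ofNat 0, .ofNat 0, .ofNat 0, .ofNat 0, .ofNat 0, .ofNat 0, .ofNat 0, .ofNat 0, .ofNat 0, .ofNat 0, .ofNat 0, .ofNat 0, .ofNat 0, .ofNat 0, .ofNat 0, .ofNat 0, .ofNat 0, .ofNat 0, .ofNat 0, .ofNat 0, .ofNat 0, .ofNat 0, .ofNat 0, .ofNat 0, .ofNat 0, .ofNat 0, .ofNat 0, .ofNat 0, .ofNat 0, .ofNat 0, .ofNat 0, .ofNat 0, .ofNat 0, .ofNat 0],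
    [.ofNat 0, .ofNat 0, .ofNat 0, .ofNat 0, .ofNat 0, .ofNat 0, .ofNat 0, .ofNat 0, .ofNat 0, .ofNat 0, .ofNat 0, .ofNat 0, .ofNat 0, .ofNat 0, .ofNat 1, .ofNat 2, .ofNat 1, .ofNat 0, .ofNat 0, .ofNat 0, .ofNat 0, .ofNat 0, .negSucc 1, .ofNat 0, .negSucc 0, .negSucc 1, .negSucc 1, .ofNat 0, .ofNat 0, .ofNat 0, .ofNat 0, .ofNat 0, .ofNat 0, .ofNat 0, .ofNat 0, .ofNat 0, .ofNat 0, .ofNat 0, .ofNat 0, .ofNat 0, .ofNat 0, .negSucc 1, .negSucc 3, .negSucc 1, .negSucc 1, .ofNat 0, .ofNat 0, .ofNat 0, .ofNat 0, .ofNat 0, .ofNat 0, .ofNat 1, .ofNat 2, .ofNat 2, .ofNat 0, .ofNat 0, .ofNat 0, .ofNat 0, .ofNat 0, .ofNat 0, .ofNat 0, .ofNat 3, .negSucc 1, .ofNat 0, .ofNat 0, .ofNat 0, .ofNat 0, .ofNat 0, .ofNat 0, .ofNat 0, .ofNat 0, .negSucc 1, .ofNat 0, .ofNat 0, .ofNat 0, .ofNat 0, .ofNat 0, .ofNat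 0, .ofNat 0, .ofNat 0, .negSucc 1, .ofNat 0, .ofNat 0, .ofNat 0, .ofNat 0, .ofNat 0, .ofNat 0, .ofNat 0, .ofNat 0, .ofNat 0, .ofNat 0, .ofNat 0, .ofNat 0, .ofNat 0, .ofNat 0, .ofNat 0, .ofNat 0, .ofNat 0, .ofNat 0],
    [.ofNat 0, .ofNat 0, .ofNat 0, .ofNat 0, .ofNat 0, .ofNat 0, .ofNat 0, .ofNat 0, .ofNat 0, .ofNat 0, .ofNat 0, .ofNat 0, .ofNat 0, .ofNat 0, .ofNat 0, .ofNat 0, .ofNat 0, .ofNat 1, .ofNat 0, .ofNat 0, .ofNat 0, .ofNat 0, .ofNat 0, .ofNat 0, .ofNat 0, .ofNat 0, .ofNat 0, .ofNat 0, .ofNat 0, .ofNat 0, .ofNat 0, .ofNat 0, .ofNat 0, .ofNat 0, .ofNat 0, .ofNat 0, .ofNat 0, .ofNat 0, .ofNat 0, .ofNat 0, .ofNat 0, .ofNat 0, .ofNat 0, .ofNat 0, .ofNat 0, .ofNat 0, .ofNat 0, .ofNat 0, .ofNat 0, .ofNat 0, .ofNat 0, .ofNat 0, .ofNat 0, .ofNat 0, .ofNat 0, .ofNat 0, .ofNat 0, .ofNat 0, .ofNat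 0, .ofNat 0, .ofNat 0, .ofNat 0, .ofNat 0, .ofNat 0, .ofNat 0, .ofNat 0, .ofNat 0, .ofNat 0, .ofNat 0, .ofNat 0, .ofNat 0, .ofNat 0, .ofNat 0, .ofNat 0, .ofNat 0, .ofNat 0, .ofNat 0, .ofNat 0, .ofNat 0, .ofNat 0, .ofNat 0, .ofNat 0, .ofNat 0, .ofNat 0, .ofNat 0, .ofNat 0, .ofNat 0, .ofNat 0, .ofNat 0, .ofNat 0, .ofNat 0, .ofNat 0, .ofNat 0, .ofNat 0, .ofNat 0, .ofNat 0, .ofNat 0, .ofNat 0, .ofNat 0],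
    [.ofNat 0, .ofNat 0, .ofNat 0, .ofNat 0, .ofNat 0, .ofNat 0, .ofNat 0, .ofNat 0, .ofNat 0, .ofNat 0, .ofNat 0, .ofNat 0, .negSucc 2, .ofNat 0, .ofNat 0, .ofNat 0, .ofNat 0, .ofNat 0, .ofNat 0, .ofNat 0, .ofNat 0, .ofNat 0, .ofNat 0, .ofNat 0, .ofNat 0, .ofNat 0, .ofNat 0, .ofNat 0, .ofNat 0, .ofNat 0, .ofNat 0, .negSucc 2, .negSucc 0, .negSucc 0, .negSucc 1, .negSucc 1, .ofNat 0, .ofNat 0, .ofNat 0, .ofNat 0, .negSucc 1, .negSucc 3, .negSucc 9, .negSucc 5, .negSucc 4, .ofNat 0, .ofNat 0, .ofNat 0, .ofNat 0, .ofNat 0, .negSucc 1, .negSucc 5, .negSucc 5, .negSucc 4, .ofNat 0, .ofNat 0, .ofNat 0, .ofNat 0, .ofNat 0, .ofNat 0, .negSucc 2, .negSucc 6, .negSucc 14, .ofNat 0, .ofNat 0, .ofNat 0, .ofNat 0, .ofNat 0, .ofNat 0, .ofNat 0, .negSucc 4, .negSucc 15, .ofNat 0, .ofNat 0, .ofNat 0, .ofNat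 0, .ofNat 0, .ofNat 0, .ofNat 0, .ofNat 0, .negSucc 9, .ofNat 0, .ofNat 0, .ofNat 0, .ofNat 0, .ofNat 0, .ofNat 0, .ofNat 0, .ofNat 0, .ofNat 0, .ofNat 0, .ofNat 0, .ofNat 0, .ofNat 0, .ofNat 0, .ofNat 0, .ofNat 0, .ofNat 0, .ofNat 0],
    [.ofNat 0, .ofNat 0, .ofNat 0, .ofNat 0, .ofNat 0, .ofNat 0, .ofNat 0, .ofNat 0, .ofNat 0, .ofNat 0, .ofNat 0, .ofNat 0, .ofNat 0, .ofNat 0, .ofNat 2, .ofNat 2, .ofNat 2, .ofNat 1, .ofNat 0, .ofNat 0, .ofNat 0, .ofNat 0, .ofNat 0, .ofNat 0, .ofNat 0, .ofNat 0, .ofNat 0, .ofNat 0, .ofNat 0, .ofNat 0, .ofNat 0, .ofNat 0, .ofNat 0, .ofNat 0, .ofNat 0, .ofNat 0, .ofNat 0, .ofNat 0, .ofNat 0, .ofNat 0, .ofNat 0, .negSucc 3, .negSucc 2, .negSucc 1, .ofNat 0, .ofNat 0, .ofNat 0, .ofNat 0, .ofNat 0, .ofNat 0, .ofNat 0, .ofNat 2, .ofNat 4, .negSucc 3, .ofNat 0, .ofNat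 0, .ofNat 0, .ofNat 0, .ofNat 0, .ofNat 0, .ofNat 0, .ofNat 2, .negSucc 4, .ofNat 0, .ofNat 0, .ofNat 0, .ofNat 0, .ofNat 0, .ofNat 0, .ofNat 0, .ofNat 0, .ofNat 1, .ofNat 0, .ofNat 0, .ofNat 0, .ofNat 0, .ofNat 0, .ofNat 0, .ofNat 0, .ofNat 0, .negSucc 0, .ofNat 0, .ofNat 0, .ofNat 0, .ofNat 0, .ofNat 0, .ofNat 0, .ofNat 0, .ofNat 0, .ofNat 0, .ofNat 0, .ofNat 0, .ofNat 0, .ofNat 0, .ofNat 0, .ofNat 0, .ofNat 0, .ofNat 0, .ofNat 0]]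

def sp4 : List (ℕ × List ℕ × List ℕ) := [(1, [3, 3, 3], []),
    (1, [1, 1, 1], []),
    (1, [0, 0, 0], []),
    (1, [1, 0, 7, 7, 6, 6, 6, 6, 4, 4, 2, 2, 2, 2, 1, 1, 0, 0], []),
    (1, [2, 0, 8, 8, 8, 8, 7, 7, 7, 7, 6, 6, 5, 5, 5, 5, 2, 2, 0, 0], []),
    (1, [3, 0, 6, 6, 3, 3, 0, 0], []),
    (1, [4, 0, 7, 7, 6, 6, 4, 4, 0, 0], []),
    (1, [2, 1, 2, 2, 1, 1], [])]

def rv4 : List (List ℤ) := [[.ofNat 0, .ofNat 0, .ofNat 0, .ofNat 0, .ofNat 0, .ofNat 0, .ofNat 0, .ofNat 0, .ofNat 0, .ofNat 0, .ofNat 0, .ofNat 0, .ofNat 0, .ofNat 0, .ofNat 0, .ofNat 0, .ofNat 0, .ofNat 0, .ofNat 0, .ofNat 0, .ofNat 0, .ofNat 0, .ofNat 0, .ofNat 0, .ofNat 0, .ofNat 0, .ofNat 0, .ofNat 0, .ofNat 0, .ofNat 0, .negSucc 0, .negSucc 5, .negSucc 1, .negSucc 4, .negSucc 3, .negSucc 3, .ofNat 0, .ofNat 0, .ofNat 0,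 .ofNat 0, .negSucc 0, .negSucc 7, .negSucc 4, .negSucc 5, .negSucc 3, .ofNat 0, .ofNat 0, .ofNat 0, .ofNat 0, .ofNat 0, .negSucc 4, .negSucc 11, .negSucc 12, .negSucc 16, .ofNat 0, .ofNat 0, .ofNat 0, .ofNat 0, .ofNat 0, .ofNat 0, .negSucc 3, .negSucc 11, .negSucc 18, .ofNat 0, .ofNat 0, .ofNat 0, .ofNat 0, .ofNat 0, .ofNat 0, .ofNat 0, .negSucc 6, .negSucc 21, .ofNat 0, .ofNat 0, .ofNat 0, .ofNat 0, .ofNat 0, .ofNat 0, .ofNat 0, .ofNat 0, .negSucc 11, .ofNat 0, .ofNat 0, .ofNat 0, .negSucc 2, .ofNat 0, .ofNat 0, .ofNat 0, .ofNat 0, .ofNat 0, .ofNat 0, .ofNat 0, .ofNat 0, .ofNat 0, .ofNat 0, .ofNat 0, .ofNat 0, .ofNat 0, .ofNat 0],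
    [.ofNat 0, .ofNat 0, .ofNat 0, .ofNat 0, .ofNat 0, .ofNat 0, .ofNat 0, .ofNat 0, .ofNat 0, .ofNat 0, .negSucc 0, .negSucc 5, .ofNat 0, .ofNat 0, .negSucc 5, .negSucc 5, .ofNat 0, .negSucc 3, .ofNat 0, .ofNat 0, .negSucc 0, .ofNat 0, .ofNat 0, .negSucc 2, .negSucc 2, .ofNat 0, .negSucc 1, .ofNat 0, .ofNat 0, .ofNat 0, .ofNat 0, .ofNat 0, .ofNat 0, .ofNat 0, .ofNat 0, .ofNat 0, .ofNat 0, .ofNat 0, .ofNat 0, .ofNat 0, .ofNat 0, .ofNat 0, .ofNat 0, .ofNat 0, .ofNat 0, .ofNat 0, .ofNat 0, .ofNat 0, .ofNat 0, .ofNat 0, .negSucc 0, .negSucc 2, .ofNat 0, .negSucc 3, .ofNat 0, .ofNat 0, .ofNat 0, .ofNat 0, .ofNat 0, .ofNat 0, .negSucc 1, .ofNat 0, .negSucc 11, .ofNat 0, .ofNat 0, .ofNat 0, .ofNat 0, .ofNat 0, .ofNat 0, .ofNat 0, .ofNat 0, .ofNat 0, .ofNat 0, .ofNat 0, .ofNat 0, .ofNat 0, .ofNat 0,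 .ofNat 0, .ofNat 0, .ofNat 0, .negSucc 9, .ofNat 0, .negSucc 2, .ofNat 0, .ofNat 0, .ofNat 0, .ofNat 0, .ofNat 0, .ofNat 0, .ofNat 0, .ofNat 0, .ofNat 0, .ofNat 0, .ofNat 0, .ofNat 0, .ofNat 0, .ofNat 0, .ofNat 0, .ofNat 0],
    [.negSucc 0, .ofNat 0, .negSucc 5, .ofNat 0, .negSucc 5, .negSucc 4, .negSucc 5, .negSucc 4, .negSucc 2, .ofNat 0, .ofNat 0, .ofNat 0, .ofNat 0, .ofNat 0, .ofNat 0, .ofNat 0, .ofNat 0, .ofNat 0, .ofNat 0, .ofNat 0, .negSucc 0, .ofNat 0, .negSucc 2, .negSucc 4, .negSucc 4, .negSucc 4, .negSucc 6, .ofNat 0, .ofNat 0, .ofNat 0, .ofNat 0, .ofNat 0, .ofNat 0, .ofNat 0, .ofNat 0, .ofNat 0, .ofNat 0, .ofNat 0, .ofNat 0, .ofNat 0, .negSucc 1, .negSucc 11, .negSucc 15, .negSucc 7, .negSucc 14, .ofNat 0, .ofNat 0, .ofNat 0, .ofNat 0, .ofNat 0, .negSucc 3, .negSucc 3, .negSucc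 15, .negSucc 29, .ofNat 0, .ofNat 0, .ofNat 0, .ofNat 0, .ofNat 0, .ofNat 0, .negSucc 5, .negSucc 17, .negSucc 39, .ofNat 0, .ofNat 0, .ofNat 0, .ofNat 0, .ofNat 0, .ofNat 0, .ofNat 0, .negSucc 9, .negSucc 53, .ofNat 0, .ofNat 0, .ofNat 0, .ofNat 0, .ofNat 0, .ofNat 0, .ofNat 0, .ofNat 0, .negSucc 24, .negSucc 2, .ofNat 0, .ofNat 0, .ofNat 0, .ofNat 0, .ofNat 0, .ofNat 0, .ofNat 0, .ofNat 0, .ofNat 0, .ofNat 0, .ofNat 0, .ofNat 0, .ofNat 0, .ofNat 0, .ofNat 0, .ofNat 0, .ofNat 0],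
    [.negSucc 0, .negSucc 2, .negSucc 8, .ofNat 0, .negSucc 7, .negSucc 5, .negSucc 8, .negSucc 6, .negSucc 6, .ofNat 0, .negSucc 0, .negSucc 7, .ofNat 0, .negSucc 9, .negSucc 5, .negSucc 5, .negSucc 1, .negSucc 2, .ofNat 0, .ofNat 0, .negSucc 3, .ofNat 0, .negSucc 25, .negSucc 15, .negSucc 20, .negSucc 17, .negSucc 19, .ofNat 0, .ofNat 0, .ofNat 0, .ofNat 0, .ofNat 0, .ofNat 0, .ofNat 0, .ofNat 0, .ofNat 0, .ofNat 0, .ofNat 0, .ofNat 0, .ofNat 0, .negSucc 2, .negSucc 16, .negSucc 23, .negSucc 12, .negSucc 31, .ofNat 0, .ofNat 0, .ofNat 0, .ofNat 0, .ofNat 0, .negSucc 10, .negSucc 26, .negSucc 38, .negSucc 69, .ofNat 0, .ofNat 0, .ofNat 0, .ofNat 0, .ofNat 0, .ofNat 0, .negSucc 14, .negSucc 46, .negSucc 99, .ofNat 0, .ofNat 0, .ofNat 0, .ofNat 0, .ofNat 0, .ofNat 0, .ofNat 0, .negSucc 20, .negSucc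 114, .ofNat 0, .ofNat 0, .ofNat 0, .ofNat 0, .ofNat 0, .ofNat 0, .ofNat 0, .ofNat 0, .negSucc 71, .negSucc 2, .negSucc 2, .negSucc 3, .ofNat 0, .negSucc 1, .ofNat 0, .negSucc 3, .negSucc 1, .ofNat 0, .ofNat 0, .ofNat 0, .ofNat 0, .ofNat 0, .ofNat 0, .ofNat 0, .ofNat 0, .ofNat 0, .ofNat 0],
    [.negSucc 0, .ofNat 0, .negSucc 6, .ofNat 0, .negSucc 5, .negSucc 7, .negSucc 8, .negSucc 6, .negSucc 5, .ofNat 0, .ofNat 0, .ofNat 0, .ofNat 0, .ofNat 0, .ofNat 0, .ofNat 0, .ofNat 0, .ofNat 0, .ofNat 0, .ofNat 0, .negSucc 0, .ofNat 0, .negSucc 6, .negSucc 7, .negSucc 5, .negSucc 7, .negSucc 9, .ofNat 0, .ofNat 0, .ofNat 0, .ofNat 0, .ofNat 0, .ofNat 0, .ofNat 0, .ofNat 0, .ofNat 0, .ofNat 0, .ofNat 0, .ofNat 0, .ofNat 0, .negSucc 1, .negSucc 11, .negSucc 15, .negSucc 7, .negSucc 16, .ofNat 0, .ofNat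 0, .ofNat 0, .ofNat 0, .ofNat 0, .negSucc 7, .negSucc 8, .negSucc 33, .negSucc 62, .ofNat 0, .ofNat 0, .ofNat 0, .ofNat 0, .ofNat 0, .ofNat 0, .negSucc 7, .negSucc 31, .negSucc 51, .ofNat 0, .ofNat 0, .ofNat 0, .ofNat 0, .ofNat 0, .ofNat 0, .ofNat 0, .negSucc 17, .negSucc 97, .ofNat 0, .ofNat 0, .ofNat 0, .ofNat 0, .ofNat 0, .ofNat 0, .ofNat 0, .ofNat 0, .negSucc 34, .negSucc 2, .ofNat 0, .negSucc 2, .ofNat 0, .ofNat 0, .negSucc 3, .negSucc 1, .negSucc 3, .negSucc 3, .ofNat 0, .ofNat 0, .ofNat 0, .ofNat 0, .ofNat 0, .ofNat 0, .ofNat 0, .ofNat 0, .ofNat 0],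
    [.negSucc 0, .ofNat 0, .negSucc 5, .negSucc 2, .negSucc 7, .negSucc 6, .negSucc 5, .negSucc 6, .negSucc 2, .ofNat 0, .ofNat 0, .ofNat 0, .ofNat 0, .ofNat 0, .ofNat 0, .ofNat 0, .ofNat 0, .ofNat 0, .ofNat 0, .ofNat 0, .negSucc 0, .negSucc 1, .negSucc 3, .negSucc 5, .negSucc 4, .negSucc 5, .negSucc 6, .ofNat 0, .ofNat 0, .ofNat 0, .negSucc 0, .negSucc 1, .negSucc 1, .negSucc 6, .negSucc 4, .negSucc 5, .ofNat 0, .ofNat 0, .ofNat 0, .ofNat 0, .negSucc 2, .negSucc 15, .negSucc 25, .negSucc 13, .negSucc 18, .ofNat 0, .ofNat 0, .ofNat 0, .ofNat 0, .ofNat 0, .negSucc 6, .negSucc 11, .negSucc 25, .negSucc 37, .ofNat 0, .ofNat 0, .ofNat 0, .ofNat 0, .ofNat 0, .ofNat 0, .negSucc 10, .negSucc 36, .negSucc 59, .ofNat 0, .ofNat 0, .ofNat 0, .ofNat 0, .ofNat 0, .ofNat 0, .ofNat 0, .negSucc 16, .negSucc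 73, .ofNat 0, .ofNat 0, .ofNat 0, .ofNat 0, .ofNat 0, .ofNat 0, .ofNat 0, .ofNat 0, .negSucc 36, .negSucc 2, .ofNat 0, .ofNat 0, .negSucc 2, .ofNat 0, .ofNat 0, .negSucc 1, .ofNat 0, .ofNat 0, .ofNat 0, .ofNat 0, .ofNat 0, .ofNat 0, .ofNat 0, .ofNat 0, .ofNat 0, .ofNat 0, .ofNat 0],
    [.negSucc 0, .ofNat 0, .negSucc 5, .ofNat 0, .negSucc 6, .negSucc 8, .negSucc 8, .negSucc 8, .negSucc 6, .ofNat 0, .ofNat 0, .ofNat 0, .ofNat 0, .ofNat 0, .ofNat 0, .ofNat 0, .ofNat 0, .ofNat 0, .ofNat 0, .ofNat 0, .negSucc 0, .ofNat 0, .negSucc 3, .negSucc 6, .negSucc 4, .negSucc 5, .negSucc 8, .ofNat 0, .ofNat 0, .ofNat 0, .ofNat 0, .ofNat 0, .ofNat 0, .ofNat 0, .ofNat 0, .ofNat 0, .ofNat 0, .ofNat 0, .ofNat 0, .ofNat 0, .negSucc 1, .negSucc 18, .negSucc 16, .negSucc 12, .negSucc 19, .ofNat 0, .ofNat 0, .ofNat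 0, .ofNat 0, .ofNat 0, .negSucc 5, .negSucc 9, .negSucc 25, .negSucc 42, .ofNat 0, .ofNat 0, .ofNat 0, .ofNat 0, .ofNat 0, .ofNat 0, .negSucc 7, .negSucc 26, .negSucc 48, .ofNat 0, .ofNat 0, .ofNat 0, .ofNat 0, .ofNat 0, .ofNat 0, .ofNat 0, .negSucc 14, .negSucc 68, .ofNat 0, .ofNat 0, .ofNat 0, .ofNat 0, .ofNat 0, .ofNat 0, .ofNat 0, .ofNat 0, .negSucc 34, .negSucc 2, .ofNat 0, .ofNat 0, .ofNat 0, .negSucc 2, .ofNat 0, .negSucc 1, .negSucc 1, .ofNat 0, .ofNat 0, .ofNat 0, .ofNat 0, .ofNat 0, .ofNat 0, .ofNat 0, .ofNat 0, .ofNat 0, .ofNat 0],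
    [.ofNat 0, .ofNat 0, .ofNat 0, .ofNat 0, .ofNat 0, .ofNat 0, .ofNat 0, .ofNat 0, .ofNat 0, .ofNat 0, .negSucc 0, .negSucc 6, .ofNat 0, .ofNat 0, .negSucc 9, .negSucc 7, .negSucc 3, .negSucc 7, .ofNat 0, .ofNat 0, .negSucc 0, .ofNat 0, .ofNat 0, .negSucc 6, .negSucc 4, .negSucc 4, .negSucc 4, .ofNat 0, .ofNat 0, .ofNat 0, .ofNat 0, .ofNat 0, .ofNat 0, .ofNat 0, .ofNat 0, .ofNat 0, .ofNat 0, .ofNat 0, .ofNat 0, .ofNat 0, .ofNat 0, .ofNat 0, .ofNat 0, .ofNat 0, .ofNat 0, .ofNat 0, .ofNat 0, .ofNat 0, .ofNat 0, .ofNat 0, .negSucc 2, .negSucc 5, .negSucc 7, .negSucc 11, .ofNat 0, .ofNat 0, .ofNat 0, .ofNat 0, .ofNat 0, .ofNat 0, .negSucc 2, .negSucc 6, .negSucc 18, .ofNat 0, .ofNat 0, .ofNat 0, .ofNat 0, .ofNat 0, .ofNat 0, .ofNat 0, .negSucc 1, .negSucc 7, .ofNat 0, .ofNat 0, .ofNat 0, .ofNat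 0, .ofNat 0, .ofNat 0, .ofNat 0, .ofNat 0, .negSucc 19, .ofNat 0, .negSucc 2, .negSucc 2, .ofNat 0, .ofNat 0, .ofNat 0, .ofNat 0, .ofNat 0, .ofNat 0, .ofNat 0, .ofNat 0, .ofNat 0, .ofNat 0, .ofNat 0, .ofNat 0, .ofNat 0, .ofNat 0, .ofNat 0]]

def sp5 : List (ℕ × List ℕ × List ℕ) := [(1, [3, 1, 8, 8, 8, 8, 7, 7, 7, 7, 6, 6, 4, 4, 4, 4, 3, 3, 1, 1], []),
    (1, [4, 1, 4, 4, 1, 1], []),
    (1, [6, 1, 8, 8, 8, 8, 6, 6, 1, 1], []),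
    (1, [3, 2, 7, 7, 6, 6, 6, 6, 5, 5, 3, 3, 2, 2], []),
    (2, [0, 0, 0, 5, 5, 5, 5, 4, 4, 4, 4], []),
    (2, [4, 0, 4, 4, 0, 0, 5, 5, 5, 5, 4, 4, 4, 4], [])]

def rv5 : List (List ℤ) := [[.ofNat 0, .ofNat 0, .ofNat 0, .ofNat 0, .ofNat 0, .ofNat 0, .ofNat 0, .ofNat 0, .ofNat 0, .ofNat 0, .negSucc 0, .negSucc 5, .negSucc 2, .negSucc 2, .negSucc 8, .negSucc 5, .ofNat 0, .negSucc 5, .ofNat 0, .ofNat 0, .negSucc 0, .negSucc 1, .ofNat 0, .negSucc 2, .negSucc 2, .ofNat 0, .negSucc 1, .ofNat 0, .ofNat 0, .ofNat 0, .negSucc 0, .negSucc 9, .negSucc 6, .negSucc 7, .negSucc 7, .negSucc 8, .ofNat 0, .ofNat 0, .ofNat 0, .ofNat 0, .negSucc 2, .negSucc 17, .negSucc 21, .negSucc 14, .negSucc 17, .ofNat 0, .ofNat 0, .ofNat 0, .ofNat 0, .ofNat 0, .negSucc 11, .negSucc 40, .negSucc 30, .negSucc 41, .ofNat 0,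 .ofNat 0, .ofNat 0, .ofNat 0, .ofNat 0, .ofNat 0, .negSucc 12, .negSucc 38, .negSucc 61, .ofNat 0, .ofNat 0, .ofNat 0, .ofNat 0, .ofNat 0, .ofNat 0, .ofNat 0, .negSucc 19, .negSucc 54, .ofNat 0, .ofNat 0, .ofNat 0, .ofNat 0, .ofNat 0, .ofNat 0, .ofNat 0, .ofNat 0, .negSucc 47, .ofNat 0, .negSucc 2, .ofNat 0, .negSucc 2, .negSucc 3, .ofNat 0, .negSucc 1, .negSucc 3, .negSucc 3, .ofNat 0, .ofNat 0, .ofNat 0, .ofNat 0, .ofNat 0, .ofNat 0, .ofNat 0, .ofNat 0, .ofNat 0],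
    [.ofNat 0, .ofNat 0, .ofNat 0, .ofNat 0, .ofNat 0, .ofNat 0, .ofNat 0, .ofNat 0, .ofNat 0, .ofNat 0, .negSucc 0, .negSucc 5, .ofNat 0, .negSucc 0, .negSucc 9, .negSucc 7, .negSucc 3, .negSucc 7, .ofNat 0, .ofNat 0, .negSucc 0, .ofNat 0, .negSucc 0, .negSucc 4, .negSucc 3, .negSucc 1, .negSucc 3, .ofNat 0, .ofNat 0, .ofNat 0, .ofNat 0, .ofNat 0, .ofNat 0, .ofNat 0, .ofNat 0, .ofNat 0, .ofNat 0, .ofNat 0, .ofNat 0, .ofNat 0, .ofNat 0, .negSucc 1, .negSucc 0, .negSucc 2, .negSucc 2, .ofNat 0, .ofNat 0, .ofNat 0, .ofNat 0, .ofNat 0, .negSucc 2, .negSucc 5, .negSucc 7, .negSucc 10, .ofNat 0, .ofNat 0, .ofNat 0, .ofNat 0, .ofNat 0, .ofNat 0, .negSucc 2, .negSucc 6, .negSucc 16, .ofNat 0, .ofNat 0, .ofNat 0, .ofNat 0, .ofNat 0, .ofNat 0, .ofNat 0, .negSucc 1, .negSucc 13, .ofNat 0, .ofNat 0, .ofNat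 0, .ofNat 0, .ofNat 0, .ofNat 0, .ofNat 0, .ofNat 0, .negSucc 19, .ofNat 0, .negSucc 2, .ofNat 0, .ofNat 0, .negSucc 2, .ofNat 0, .ofNat 0, .ofNat 0, .ofNat 0, .ofNat 0, .ofNat 0, .ofNat 0, .ofNat 0, .ofNat 0, .ofNat 0, .ofNat 0, .ofNat 0, .ofNat 0],
    [.ofNat 0, .ofNat 0, .ofNat 0, .ofNat 0, .ofNat 0, .ofNat 0, .ofNat 0, .ofNat 0, .ofNat 0, .ofNat 0, .negSucc 0, .negSucc 5, .ofNat 0, .ofNat 0, .negSucc 5, .negSucc 8, .negSucc 1, .negSucc 5, .ofNat 0, .ofNat 0, .negSucc 0, .ofNat 0, .ofNat 0, .negSucc 2, .negSucc 4, .negSucc 0, .negSucc 2, .ofNat 0, .ofNat 0, .ofNat 0, .ofNat 0, .ofNat 0, .ofNat 0, .ofNat 0, .ofNat 0, .ofNat 0, .ofNat 0, .ofNat 0, .ofNat 0, .ofNat 0, .ofNat 0, .ofNat 0, .ofNat 0, .ofNat 0, .ofNat 0, .ofNat 0, .ofNat 0, .ofNat 0, .ofNat 0, .ofNat 0, .negSucc 0, .negSucc 4,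 .negSucc 0, .negSucc 5, .ofNat 0, .ofNat 0, .ofNat 0, .ofNat 0, .ofNat 0, .ofNat 0, .negSucc 2, .negSucc 7, .negSucc 23, .ofNat 0, .ofNat 0, .ofNat 0, .ofNat 0, .ofNat 0, .ofNat 0, .ofNat 0, .negSucc 0, .negSucc 3, .ofNat 0, .ofNat 0, .ofNat 0, .ofNat 0, .ofNat 0, .ofNat 0, .ofNat 0, .ofNat 0, .negSucc 16, .ofNat 0, .negSucc 2, .ofNat 0, .ofNat 0, .ofNat 0, .ofNat 0, .negSucc 2, .ofNat 0, .negSucc 3, .ofNat 0, .ofNat 0, .ofNat 0, .ofNat 0, .ofNat 0, .ofNat 0, .ofNat 0, .ofNat 0, .ofNat 0],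
    [.ofNat 0, .ofNat 0, .ofNat 0, .ofNat 0, .ofNat 0, .ofNat 0, .ofNat 0, .ofNat 0, .ofNat 0, .ofNat 0, .ofNat 0, .ofNat 0, .ofNat 0, .ofNat 0, .ofNat 0, .ofNat 0, .ofNat 0, .ofNat 0, .ofNat 0, .ofNat 0, .ofNat 0, .negSucc 0, .negSucc 0, .negSucc 3, .negSucc 2, .negSucc 2, .negSucc 2, .ofNat 0, .ofNat 0, .ofNat 0, .negSucc 0, .negSucc 5, .negSucc 4, .negSucc 4, .negSucc 1, .negSucc 3, .ofNat 0, .ofNat 0, .ofNat 0, .ofNat 0, .negSucc 0, .negSucc 7, .negSucc 7, .negSucc 5, .negSucc 4, .ofNat 0, .ofNat 0, .ofNat 0, .ofNat 0, .ofNat 0, .negSucc 7, .negSucc 31, .negSucc 27, .negSucc 34, .ofNat 0, .ofNat 0, .ofNat 0, .ofNat 0, .ofNat 0, .ofNat 0, .negSucc 6, .negSucc 28, .negSucc 35, .ofNat 0, .ofNat 0, .ofNat 0, .ofNat 0, .ofNat 0, .ofNat 0, .ofNat 0, .negSucc 13, .negSucc 39, .ofNat 0, .ofNat 0,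 .ofNat 0, .ofNat 0, .ofNat 0, .ofNat 0, .ofNat 0, .ofNat 0, .negSucc 23, .ofNat 0, .ofNat 0, .negSucc 2, .negSucc 2, .ofNat 0, .negSucc 1, .negSucc 3, .negSucc 1, .ofNat 0, .ofNat 0, .ofNat 0, .ofNat 0, .ofNat 0, .ofNat 0, .ofNat 0, .ofNat 0, .ofNat 0, .ofNat 0],
    [.negSucc 3, .ofNat 0, .negSucc 9, .negSucc 9, .negSucc 10, .negSucc 2, .negSucc 5, .negSucc 20, .negSucc 12, .ofNat 0, .ofNat 0, .ofNat 0, .ofNat 0, .ofNat 0, .ofNat 0, .ofNat 0, .ofNat 0, .ofNat 0, .ofNat 0, .ofNat 0, .negSucc 3, .negSucc 10, .negSucc 12, .negSucc 13, .negSucc 9, .negSucc 16, .negSucc 18, .ofNat 0, .ofNat 0, .ofNat 0, .negSucc 3, .negSucc 12, .negSucc 28, .negSucc 23, .negSucc 29, .negSucc 28, .ofNat 0, .ofNat 0, .ofNat 0, .ofNat 0, .negSucc 3, .negSucc 44, .negSucc 50, .negSucc 55, .negSucc 43, .ofNat 0, .ofNat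 0, .ofNat 0, .ofNat 0, .ofNat 0, .negSucc 18, .negSucc 64, .negSucc 64, .negSucc 96, .ofNat 0, .ofNat 0, .ofNat 0, .ofNat 0, .ofNat 0, .ofNat 0, .negSucc 28, .negSucc 111, .negSucc 159, .ofNat 0, .ofNat 0, .ofNat 0, .ofNat 0, .ofNat 0, .ofNat 0, .ofNat 0, .negSucc 53, .negSucc 231, .ofNat 0, .ofNat 0, .ofNat 0, .ofNat 0, .ofNat 0, .ofNat 0, .ofNat 0, .ofNat 0, .negSucc 106, .ofNat 0, .ofNat 0, .ofNat 0, .ofNat 0, .ofNat 0, .ofNat 0, .ofNat 0, .ofNat 0, .ofNat 0, .negSucc 2, .ofNat 0, .ofNat 0, .ofNat 0, .negSucc 3, .negSucc 3, .ofNat 0, .ofNat 0, .ofNat 0],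
    [.negSucc 4, .ofNat 0, .negSucc 14, .negSucc 14, .negSucc 13, .negSucc 5, .negSucc 7, .negSucc 23, .negSucc 16, .ofNat 0, .ofNat 0, .ofNat 0, .ofNat 0, .ofNat 0, .ofNat 0, .ofNat 0, .ofNat 0, .ofNat 0, .ofNat 0, .ofNat 0, .negSucc 5, .negSucc 16, .negSucc 16, .negSucc 23, .negSucc 15, .negSucc 23, .negSucc 27, .ofNat 0, .ofNat 0, .ofNat 0, .negSucc 5, .negSucc 16, .negSucc 37, .negSucc 34, .negSucc 45, .negSucc 42, .ofNat 0, .ofNat 0, .ofNat 0, .ofNat 0, .negSucc 4, .negSucc 62, .negSucc 64, .negSucc 66, .negSucc 57, .ofNat 0, .ofNat 0, .ofNat 0, .ofNat 0, .ofNat 0, .negSucc 26, .negSucc 94, .negSucc 92, .negSucc 140, .ofNat 0, .ofNat 0, .ofNat 0, .ofNat 0, .ofNat 0, .ofNat 0, .negSucc 41, .negSucc 166, .negSucc 228, .ofNat 0, .ofNat 0, .ofNat 0, .ofNat 0, .ofNat 0, .ofNat 0, .ofNat 0, .negSucc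 73, .negSucc 305, .ofNat 0, .ofNat 0, .ofNat 0, .ofNat 0, .ofNat 0, .ofNat 0, .ofNat 0, .ofNat 0, .negSucc 150, .ofNat 0, .ofNat 0, .ofNat 0, .ofNat 0, .ofNat 0, .ofNat 0, .ofNat 0, .ofNat 0, .ofNat 0, .negSucc 2, .ofNat 0, .ofNat 0, .ofNat 0, .negSucc 6, .negSucc 3, .ofNat 0, .ofNat 0, .ofNat 0]]

def C : Cert where
  D := { p := 3, n := 9, pwL := [[], [], [], [], [], [], [], [], []], cmL := [[], [2, 2, 4, 6, 6, 7], [5, 5, 6, 7, 7, 8, 8], [6], [6, 7], [], [7, 7], [], [], [], [], [], [4, 4, 6, 7, 7, 8, 8], [], [], [8, 8], [8, 8], [], [], [], [], [5, 6, 6, 7], [8], [8, 8], [8, 8], [], [], [], [], [], [], [5, 5, 6, 6, 7, 7, 8], [7, 7, 8, 8], [7, 8], [], [], [], [], [], [], [], [8, 8], [8], [], [], [], [], [], [], [], [], [], [], [], [], [], [], [], [], [], [], [], [], [], [], [], [], [], [], [],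 [], [], [], [], [], [], [], [], [], [], []] }
  k := 1
  f := 2902
  R := 9
  fus := [([[0], [1], [2], [3], [4], [5], [6], [7], [8]], [[0, 0, 2, 4, 4, 6, 6], [1, 1, 2, 5, 6, 6, 8, 8], [2, 5, 5, 6, 7, 7, 8, 8], [3, 3, 4, 5], [4, 5, 5, 6, 7, 7, 8, 8], [5, 5, 7, 7], [6, 6, 7, 8], [7, 8], [8, 8]]), ([[0, 4, 6, 6], [2], [3, 6, 6], [5, 6, 6], [7], [8]], [[0, 4, 6, 6], [2], [3, 6, 6], [5, 6, 6], [0, 2, 2, 3, 3, 4, 6, 6, 7, 8], [0, 0, 2, 3, 4, 4, 8]])]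
  specs := sp0 ++ sp1 ++ sp2 ++ sp3 ++ sp4 ++ sp5
  relV := rv0 ++ rv1 ++ rv2 ++ rv3 ++ rv4 ++ rv5
  lam := [[.ofNat 0, .ofNat 0, .ofNat 0, .ofNat 0, .ofNat 0, .ofNat 0, .ofNat 0, .ofNat 0, .ofNat 0, .ofNat 0, .ofNat 0, .ofNat 0, .ofNat 0, .ofNat 0, .ofNat 0, .ofNat 0, .ofNat 0, .ofNat 0, .ofNat 0, .ofNat 0, .ofNat 0, .ofNat 0, .ofNat 0, .ofNat 0, .ofNat 0, .ofNat 0, .ofNat 0, .ofNat 0, .ofNat 0, .ofNat 0, .ofNat 0, .ofNat 0, .ofNat 0, .ofNat 0, .ofNat 0, .ofNat 0, .ofNat 0, .ofNat 0, .ofNat 0, .ofNat 0, .ofNat 0, .ofNat 0, .ofNat 0, .ofNat 0, .ofNat 0, .ofNat 0, .ofNat 0, .ofNat 0, .ofNat 0, .ofNat 0, .ofNat 0, .ofNat 0, .ofNat 0, .ofNat 0, .ofNat 0, .ofNat 0, .ofNat 0, .ofNat 0, .ofNat 0, .ofNat 0, .ofNat 0, .ofNat 0, .ofNat 0, .ofNat 0, .ofNat 0, .ofNat 0, .ofNat 0, .ofNat 0, .ofNat 0, .ofNat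 0, .ofNat 0, .ofNat 0, .ofNat 0, .ofNat 0, .ofNat 0, .ofNat 0, .ofNat 0, .ofNat 0, .ofNat 0, .ofNat 0, .ofNat 0, .ofNat 0, .ofNat 0, .ofNat 0, .ofNat 0, .ofNat 0, .ofNat 0, .ofNat 0, .ofNat 0, .ofNat 0, .ofNat 0, .ofNat 0, .ofNat 0, .ofNat 0, .ofNat 0, .ofNat 0, .ofNat 0, .ofNat 0, .ofNat 0],
    [.ofNat 0, .ofNat 0, .ofNat 0, .ofNat 0, .ofNat 0, .ofNat 0, .ofNat 0, .ofNat 0, .ofNat 0, .ofNat 0, .ofNat 0, .ofNat 0, .ofNat 0, .ofNat 0, .ofNat 0, .ofNat 0, .ofNat 0, .ofNat 0, .ofNat 0, .ofNat 0, .ofNat 0, .ofNat 0, .ofNat 0, .ofNat 0, .ofNat 0, .ofNat 0, .ofNat 0, .ofNat 0, .ofNat 0, .ofNat 0, .ofNat 0, .ofNat 0, .ofNat 0, .ofNat 0, .ofNat 0, .ofNat 0, .ofNat 0, .ofNat 0, .ofNat 0, .ofNat 0, .ofNat 0, .ofNat 0, .ofNat 0, .ofNat 0, .ofNat 0, .ofNat 0, .ofNat 0, .ofNat 0, .ofNat 0, .ofNat 0, .ofNat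 0, .ofNat 0, .ofNat 0, .ofNat 0, .ofNat 0, .ofNat 0, .ofNat 0, .ofNat 0, .ofNat 0, .ofNat 0, .ofNat 0, .ofNat 0, .ofNat 0, .ofNat 0, .ofNat 0, .ofNat 0, .ofNat 0, .ofNat 0, .ofNat 0, .ofNat 0, .ofNat 0, .ofNat 0, .ofNat 0, .ofNat 0, .ofNat 0, .ofNat 0, .ofNat 0, .ofNat 0, .ofNat 0, .ofNat 0, .ofNat 0, .ofNat 0, .ofNat 0, .ofNat 0, .ofNat 0, .ofNat 0, .ofNat 0, .ofNat 0, .ofNat 0, .ofNat 0, .ofNat 0, .ofNat 0, .ofNat 0, .ofNat 0, .ofNat 0, .ofNat 0, .ofNat 0, .ofNat 0, .ofNat 0],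
    [.ofNat 0, .ofNat 2, .ofNat 0, .ofNat 0, .ofNat 0, .ofNat 0, .ofNat 0, .ofNat 0, .ofNat 0, .ofNat 0, .ofNat 0, .ofNat 0, .ofNat 2, .ofNat 0, .ofNat 0, .ofNat 0, .ofNat 0, .ofNat 0, .ofNat 0, .ofNat 0, .ofNat 0, .ofNat 0, .ofNat 0, .ofNat 0, .ofNat 0, .ofNat 0, .ofNat 0, .ofNat 0, .ofNat 0, .ofNat 0, .ofNat 0, .ofNat 0, .ofNat 0, .ofNat 0, .ofNat 0, .ofNat 0, .ofNat 0, .ofNat 0, .ofNat 0, .ofNat 0, .ofNat 0, .ofNat 0, .ofNat 0, .ofNat 0, .ofNat 0, .ofNat 0, .ofNat 0, .ofNat 0, .ofNat 0, .ofNat 0, .ofNat 0, .ofNat 0, .ofNat 0, .ofNat 0, .ofNat 0, .ofNat 0, .ofNat 0, .ofNat 0, .ofNat 0, .ofNat 0, .ofNat 0, .ofNat 0, .ofNat 0, .ofNat 0, .ofNat 0, .ofNat 0, .ofNat 0, .ofNat 0, .ofNat 0, .ofNat 0, .ofNat 0, .ofNat 0, .ofNat 0, .ofNat 0, .ofNat 0, .ofNat 0, .ofNat 0, .ofNat 0, .ofNat 0, .ofNat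 0, .ofNat 0, .ofNat 0, .ofNat 0, .ofNat 0, .ofNat 0, .ofNat 0, .ofNat 0, .ofNat 0, .ofNat 0, .ofNat 2, .ofNat 0, .ofNat 0, .ofNat 0, .ofNat 0, .ofNat 0, .ofNat 0, .ofNat 0, .ofNat 0, .ofNat 0],
    [.ofNat 0, .ofNat 0, .ofNat 0, .ofNat 0, .ofNat 0, .ofNat 0, .ofNat 0, .ofNat 0, .ofNat 0, .ofNat 0, .ofNat 0, .ofNat 0, .ofNat 0, .ofNat 0, .ofNat 0, .ofNat 0, .ofNat 0, .ofNat 0, .ofNat 0, .ofNat 0, .ofNat 0, .ofNat 0, .ofNat 0, .ofNat 0, .ofNat 0, .ofNat 0, .ofNat 0, .ofNat 0, .ofNat 0, .ofNat 0, .ofNat 0, .ofNat 0, .ofNat 0, .ofNat 0, .ofNat 0, .ofNat 0, .ofNat 0, .ofNat 0, .ofNat 0, .ofNat 0, .ofNat 0, .ofNat 0, .ofNat 0, .ofNat 0, .ofNat 0, .ofNat 0, .ofNat 0, .ofNat 0, .ofNat 0, .ofNat 0, .ofNat 0, .ofNat 0, .ofNat 0, .ofNat 0, .ofNat 0, .ofNat 0, .ofNat 0, .ofNat 0, .ofNat 0, .ofNat 0, .ofNat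 0, .ofNat 0, .ofNat 0, .ofNat 0, .ofNat 0, .ofNat 0, .ofNat 0, .ofNat 0, .ofNat 0, .ofNat 0, .ofNat 0, .ofNat 0, .ofNat 0, .ofNat 0, .ofNat 0, .ofNat 0, .ofNat 0, .ofNat 0, .ofNat 0, .ofNat 0, .ofNat 0, .ofNat 0, .ofNat 0, .ofNat 0, .ofNat 0, .ofNat 0, .ofNat 0, .ofNat 0, .ofNat 0, .ofNat 0, .ofNat 0, .ofNat 0, .ofNat 0, .ofNat 0, .ofNat 0, .ofNat 0, .ofNat 0, .ofNat 0, .ofNat 0],
    [.ofNat 0, .ofNat 0, .ofNat 0, .ofNat 0, .ofNat 0, .ofNat 0, .ofNat 0, .ofNat 0, .ofNat 0, .ofNat 0, .ofNat 0, .ofNat 0, .ofNat 2, .ofNat 0, .ofNat 0, .ofNat 0, .ofNat 0, .ofNat 0, .ofNat 0, .ofNat 0, .ofNat 0, .ofNat 0, .ofNat 0, .ofNat 0, .ofNat 0, .ofNat 0, .ofNat 0, .ofNat 0, .ofNat 0, .ofNat 0, .ofNat 0, .ofNat 0, .ofNat 0, .ofNat 0, .ofNat 0, .ofNat 0, .ofNat 0, .ofNat 0, .ofNat 0, .ofNat 0, .ofNat 0, .ofNat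 0, .ofNat 0, .ofNat 0, .ofNat 0, .ofNat 0, .ofNat 0, .ofNat 0, .ofNat 0, .ofNat 0, .ofNat 0, .ofNat 0, .ofNat 0, .ofNat 0, .ofNat 0, .ofNat 0, .ofNat 0, .ofNat 0, .ofNat 0, .ofNat 0, .ofNat 0, .ofNat 0, .ofNat 0, .ofNat 0, .ofNat 0, .ofNat 0, .ofNat 0, .ofNat 0, .ofNat 0, .ofNat 0, .ofNat 0, .ofNat 0, .ofNat 0, .ofNat 0, .ofNat 0, .ofNat 0, .ofNat 0, .ofNat 0, .ofNat 0, .ofNat 0, .ofNat 0, .ofNat 0, .ofNat 0, .ofNat 0, .ofNat 0, .ofNat 0, .ofNat 0, .ofNat 2, .ofNat 0, .ofNat 2, .ofNat 0, .ofNat 0, .ofNat 0, .ofNat 0, .ofNat 1, .ofNat 1, .ofNat 0, .ofNat 0, .ofNat 0],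
    [.ofNat 0, .ofNat 0, .ofNat 0, .ofNat 0, .ofNat 0, .ofNat 0, .ofNat 0, .ofNat 0, .ofNat 0, .ofNat 0, .ofNat 0, .ofNat 0, .ofNat 0, .ofNat 0, .ofNat 0, .ofNat 0, .ofNat 0, .ofNat 0, .ofNat 0, .ofNat 0, .ofNat 0, .ofNat 0, .ofNat 0, .ofNat 0, .ofNat 0, .ofNat 0, .ofNat 0, .ofNat 0, .ofNat 0, .ofNat 0, .ofNat 0, .ofNat 0, .ofNat 0, .ofNat 0, .ofNat 0, .ofNat 0, .ofNat 0, .ofNat 0, .ofNat 0, .ofNat 0, .ofNat 0, .ofNat 0, .ofNat 0, .ofNat 0, .ofNat 0, .ofNat 0, .ofNat 0, .ofNat 0, .ofNat 0, .ofNat 0, .ofNat 0, .ofNat 0, .ofNat 0, .ofNat 0, .ofNat 0, .ofNat 0, .ofNat 0, .ofNat 0, .ofNat 0, .ofNat 0, .ofNat 0, .ofNat 0, .ofNat 0, .ofNat 0, .ofNat 0, .ofNat 0, .ofNat 0, .ofNat 0, .ofNat 0, .ofNat 0, .ofNat 0, .ofNat 0, .ofNat 0, .ofNat 0, .ofNat 0, .ofNat 0, .ofNat 0, .ofNat 0, .ofNat 0, .ofNat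 0, .ofNat 0, .ofNat 0, .ofNat 0, .ofNat 0, .ofNat 0, .ofNat 0, .ofNat 1, .ofNat 1, .ofNat 0, .ofNat 1, .ofNat 0, .ofNat 0, .ofNat 0, .ofNat 0, .ofNat 1, .ofNat 1, .ofNat 0, .ofNat 0, .ofNat 0],
    [.ofNat 0, .ofNat 0, .ofNat 0, .ofNat 0, .ofNat 0, .ofNat 0, .ofNat 0, .ofNat 0, .ofNat 0, .ofNat 0, .ofNat 0, .ofNat 0, .ofNat 0, .ofNat 0, .ofNat 0, .ofNat 0, .ofNat 0, .ofNat 0, .ofNat 0, .ofNat 0, .ofNat 0, .ofNat 0, .ofNat 0, .ofNat 0, .ofNat 0, .ofNat 0, .ofNat 0, .ofNat 0, .ofNat 0, .ofNat 0, .ofNat 0, .ofNat 0, .ofNat 0, .ofNat 0, .ofNat 0, .ofNat 0, .ofNat 0, .ofNat 0, .ofNat 0, .ofNat 0, .ofNat 0, .ofNat 0, .ofNat 0, .ofNat 0, .ofNat 0, .ofNat 0, .ofNat 0, .ofNat 0, .ofNat 0, .ofNat 0, .ofNat 0, .ofNat 0, .ofNat 0, .ofNat 0, .ofNat 0, .ofNat 0, .ofNat 0, .ofNat 0, .ofNat 0, .ofNat 0, .ofNat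 0, .ofNat 0, .ofNat 0, .ofNat 0, .ofNat 0, .ofNat 0, .ofNat 0, .ofNat 0, .ofNat 0, .ofNat 0, .ofNat 0, .ofNat 0, .ofNat 0, .ofNat 0, .ofNat 0, .ofNat 0, .ofNat 0, .ofNat 0, .ofNat 0, .ofNat 0, .ofNat 0, .ofNat 0, .ofNat 0, .ofNat 0, .ofNat 0, .ofNat 0, .ofNat 0, .ofNat 0, .ofNat 0, .ofNat 1, .ofNat 0, .ofNat 0, .ofNat 0, .ofNat 0, .ofNat 2, .ofNat 2, .ofNat 0, .ofNat 0, .ofNat 0],
    [.ofNat 0, .ofNat 0, .ofNat 0, .ofNat 0, .ofNat 0, .ofNat 0, .ofNat 0, .ofNat 0, .ofNat 0, .ofNat 0, .ofNat 0, .ofNat 0, .ofNat 0, .ofNat 0, .ofNat 0, .ofNat 0, .ofNat 0, .ofNat 0, .ofNat 0, .ofNat 0, .ofNat 0, .ofNat 0, .ofNat 0, .ofNat 0, .ofNat 0, .ofNat 0, .ofNat 0, .ofNat 0, .ofNat 0, .ofNat 0, .ofNat 0, .ofNat 0, .ofNat 0, .ofNat 0, .ofNat 0, .ofNat 0, .ofNat 0, .ofNat 0, .ofNat 0, .ofNat 0, .ofNat 0, .ofNat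 0, .ofNat 0, .ofNat 0, .ofNat 0, .ofNat 0, .ofNat 0, .ofNat 0, .ofNat 0, .ofNat 0, .ofNat 0, .ofNat 0, .ofNat 0, .ofNat 0, .ofNat 0, .ofNat 0, .ofNat 0, .ofNat 0, .ofNat 0, .ofNat 0, .ofNat 0, .ofNat 0, .ofNat 0, .ofNat 0, .ofNat 0, .ofNat 0, .ofNat 0, .ofNat 0, .ofNat 0, .ofNat 0, .ofNat 0, .ofNat 0, .ofNat 0, .ofNat 0, .ofNat 0, .ofNat 0, .ofNat 0, .ofNat 0, .ofNat 0, .ofNat 0, .ofNat 0, .ofNat 0, .ofNat 0, .ofNat 0, .ofNat 0, .ofNat 0, .ofNat 0, .ofNat 1, .ofNat 0, .ofNat 1, .ofNat 0, .ofNat 0, .ofNat 0, .ofNat 0, .ofNat 1, .ofNat 1, .ofNat 0, .ofNat 0, .ofNat 0],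
    [.ofNat 0, .ofNat 0, .ofNat 0, .ofNat 0, .ofNat 0, .ofNat 0, .ofNat 0, .ofNat 0, .ofNat 0, .ofNat 0, .ofNat 0, .ofNat 0, .ofNat 0, .ofNat 0, .ofNat 0, .ofNat 0, .ofNat 0, .ofNat 0, .ofNat 0, .ofNat 0, .ofNat 0, .ofNat 0, .ofNat 0, .ofNat 0, .ofNat 0, .ofNat 0, .ofNat 0, .ofNat 0, .ofNat 0, .ofNat 0, .ofNat 0, .ofNat 0, .ofNat 0, .ofNat 0, .ofNat 0, .ofNat 0, .ofNat 0, .ofNat 0, .ofNat 0, .ofNat 0, .ofNat 0, .ofNat 0, .ofNat 0, .ofNat 0, .ofNat 0, .ofNat 0, .ofNat 0, .ofNat 0, .ofNat 0, .ofNat 0, .ofNat 0, .ofNat 0, .ofNat 0, .ofNat 0, .ofNat 0, .ofNat 0, .ofNat 0, .ofNat 0, .ofNat 0, .ofNat 0, .ofNat 0, .ofNat 0, .ofNat 0, .ofNat 0, .ofNat 0, .ofNat 0, .ofNat 0, .ofNat 0, .ofNat 0, .ofNat 0, .ofNat 0, .ofNat 0, .ofNat 0, .ofNat 0, .ofNat 0, .ofNat 0, .ofNat 0, .ofNat 0, .ofNat 0, .ofNat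 0, .ofNat 0, .ofNat 0, .ofNat 0, .ofNat 0, .ofNat 0, .ofNat 0, .ofNat 0, .ofNat 0, .ofNat 0, .ofNat 1, .ofNat 0, .ofNat 0, .ofNat 0, .ofNat 0, .ofNat 0, .ofNat 0, .ofNat 0, .ofNat 0, .ofNat 0]]
  j0 := 2
  mu := [.ofNat 0, .ofNat 0, .ofNat 1, .ofNat 0, .ofNat 0, .ofNat 1, .ofNat 0, .ofNat 0, .ofNat 1, .ofNat 0, .ofNat 0, .ofNat 0, .ofNat 0, .ofNat 0, .ofNat 0, .ofNat 0, .ofNat 0, .ofNat 0, .ofNat 0, .ofNat 0, .ofNat 0, .ofNat 2, .ofNat 1, .ofNat 2, .ofNat 2, .ofNat 0, .ofNat 0, .ofNat 0, .ofNat 0, .ofNat 0, .ofNat 0, .ofNat 0, .ofNat 0, .ofNat 2, .ofNat 2, .ofNat 1, .ofNat 0, .ofNat 0, .ofNat 0, .ofNat 0, .ofNat 0, .ofNat 1, .ofNat 0, .ofNat 2, .ofNat 0, .ofNat 0, .ofNat 0, .ofNat 0, .ofNat 0, .ofNat 0, .ofNat 0, .ofNat 1, .ofNat 0, .ofNat 0, .ofNat 0, .ofNat 0, .ofNat 0, .ofNat 0, .ofNat 0,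 .ofNat 0, .ofNat 0, .ofNat 0, .ofNat 0, .ofNat 0, .ofNat 0, .ofNat 0, .ofNat 0, .ofNat 0, .ofNat 0, .ofNat 0, .ofNat 0, .ofNat 0, .ofNat 0, .ofNat 0, .ofNat 0, .ofNat 0, .ofNat 0, .ofNat 0, .ofNat 0, .ofNat 0, .ofNat 0]
  y1 := [[(0, .ofNat 6), (1, .ofNat 1), (2, .ofNat 3), (4, .ofNat 6), (5, .ofNat 5), (6, .ofNat 6), (7, .ofNat 8), (8, .ofNat 1), (9, .ofNat 4), (10, .ofNat 4), (11, .ofNat 6), (13, .ofNat 6), (15, .ofNat 1), (17, .ofNat 6), (18, .ofNat 2), (19, .ofNat 6), (20, .ofNat 7), (21, .ofNat 6), (22, .ofNat 4), (23, .ofNat 4), (24, .ofNat 1), (25, .ofNat 7), (26, .ofNat 8), (28, .ofNat 3), (30, .ofNat 3), (31, .ofNat 6), (34, .ofNat 8)],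
    [],
    [],
    [(0, .ofNat 5), (1, .ofNat 8), (2, .ofNat 2), (3, .ofNat 8), (4, .ofNat 5), (5, .ofNat 4), (6, .ofNat 2), (7, .ofNat 3), (8, .ofNat 4), (9, .ofNat 7), (10, .ofNat 4), (11, .ofNat 7), (12, .ofNat 1), (13, .ofNat 6), (14, .ofNat 2), (15, .ofNat 4), (16, .ofNat 4), (17, .ofNat 8), (19, .ofNat 1), (20, .ofNat 8), (21, .ofNat 5), (22, .ofNat 7), (23, .ofNat 4), (25, .ofNat 5), (26, .ofNat 4), (28, .ofNat 5), (30, .ofNat 2), (31, .ofNat 7), (34, .ofNat 6), (35, .ofNat 3), (36, .ofNat 7), (38, .ofNat 3), (39, .ofNat 6), (40, .ofNat 6), (42, .ofNat 3), (43, .ofNat 4), (44, .ofNat 2)],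
    [(0, .ofNat 5), (1, .ofNat 5), (3, .ofNat 1), (4, .ofNat 4), (5, .ofNat 5), (6, .ofNat 2), (7, .ofNat 7), (8, .ofNat 4), (9, .ofNat 8), (10, .ofNat 7), (11, .ofNat 3), (12, .ofNat 5), (13, .ofNat 4), (14, .ofNat 2), (15, .ofNat 1), (16, .ofNat 8), (17, .ofNat 8), (18, .ofNat 2), (19, .ofNat 4), (20, .ofNat 8), (21, .ofNat 1), (22, .ofNat 2), (23, .ofNat 1), (24, .ofNat 4), (25, .ofNat 5), (26, .ofNat 5), (28, .ofNat 5), (29, .ofNat 5), (30, .ofNat 3), (31, .ofNat 2), (32, .ofNat 1), (33, .ofNat 1), (34, .ofNat 7), (36, .ofNat 3), (37, .ofNat 2), (38, .ofNat 6), (40, .ofNat 6), (42, .ofNat 2)],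
    [(0, .ofNat 1), (1, .ofNat 1), (2, .ofNat 3), (3, .ofNat 1), (4, .ofNat 2), (5, .ofNat 3), (6, .ofNat 7), (7, .ofNat 7), (8, .ofNat 4), (9, .ofNat 3), (10, .ofNat 6), (11, .ofNat 6), (12, .ofNat 4), (13, .ofNat 5), (14, .ofNat 6), (15, .ofNat 8), (17, .ofNat 2), (19, .ofNat 7), (20, .ofNat 8), (21, .ofNat 1), (22, .ofNat 4), (23, .ofNat 8), (24, .ofNat 4), (25, .ofNat 2), (26, .ofNat 6), (28, .ofNat 3), (29, .ofNat 8), (30, .ofNat 6), (31, .ofNat 6), (32, .ofNat 1), (33, .ofNat 5), (34, .ofNat 8), (36, .ofNat 1), (37, .ofNat 5), (38, .ofNat 4), (40, .ofNat 3), (42, .ofNat 1)],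
    [(0, .ofNat 7), (1, .ofNat 2), (2, .ofNat 8), (3, .ofNat 3), (4, .ofNat 7), (6, .ofNat 8), (7, .ofNat 3), (8, .ofNat 4), (9, .ofNat 6), (10, .ofNat 2), (11, .ofNat 1), (12, .ofNat 1), (13, .ofNat 1), (14, .ofNat 3), (15, .ofNat 1), (16, .ofNat 7), (17, .ofNat 5), (18, .ofNat 7), (19, .ofNat 3), (20, .ofNat 4), (21, .ofNat 2), (22, .ofNat 8), (23, .ofNat 1), (24, .ofNat 3), (25, .ofNat 2), (26, .ofNat 5), (28, .ofNat 8), (29, .ofNat 4), (30, .ofNat 4), (31, .ofNat 7), (32, .ofNat 8), (33, .ofNat 4), (34, .ofNat 7), (37, .ofNat 7), (38, .ofNat 3), (39, .ofNat 3), (40, .ofNat 3), (41, .ofNat 3), (42, .ofNat 5), (44, .ofNat 6), (45, .ofNat 8)],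
    [(0, .ofNat 3), (1, .ofNat 3), (5, .ofNat 3), (7, .ofNat 6), (9, .ofNat 3), (12, .ofNat 6), (13, .ofNat 1), (14, .ofNat 6), (15, .ofNat 1), (16, .ofNat 5), (19, .ofNat 3), (20, .ofNat 5), (21, .ofNat 3), (22, .ofNat 7), (23, .ofNat 4)],
    [(2, .ofNat 3), (3, .ofNat 7), (4, .ofNat 5), (5, .ofNat 5), (6, .ofNat 1), (7, .ofNat 2), (8, .ofNat 7), (9, .ofNat 3), (10, .ofNat 1), (11, .ofNat 6), (13, .ofNat 2), (14, .ofNat 6), (15, .ofNat 7), (16, .ofNat 7), (17, .ofNat 5), (18, .ofNat 5), (19, .ofNat 1), (20, .ofNat 6), (21, .ofNat 1), (22, .ofNat 4), (23, .ofNat 5), (24, .ofNat 1), (25, .ofNat 4), (26, .ofNat 6), (28, .ofNat 3), (29, .ofNat 8), (30, .ofNat 6), (31, .ofNat 6), (32, .ofNat 1), (33, .ofNat 5), (34, .ofNat 8), (36, .ofNat 1), (37, .ofNat 5), (38, .ofNat 4), (40, .ofNat 3), (42,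 .ofNat 1)],
    [],
    [(0, .ofNat 6), (1, .ofNat 1), (2, .ofNat 4), (3, .ofNat 6), (4, .ofNat 6), (5, .ofNat 5), (6, .ofNat 3), (7, .ofNat 5), (8, .ofNat 8), (9, .ofNat 6), (10, .ofNat 2), (11, .ofNat 1), (12, .ofNat 7), (13, .ofNat 3), (14, .ofNat 1), (15, .ofNat 6), (16, .ofNat 1), (17, .ofNat 7), (18, .ofNat 4), (19, .ofNat 5), (20, .ofNat 5), (21, .ofNat 5), (22, .ofNat 5), (23, .ofNat 4), (24, .ofNat 4), (25, .ofNat 5), (26, .ofNat 5), (28, .ofNat 8), (29, .ofNat 7), (30, .ofNat 2), (31, .ofNat 6), (33, .ofNat 8)],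
    [(2, .ofNat 2), (4, .ofNat 5), (5, .ofNat 1), (6, .ofNat 2), (7, .ofNat 1), (8, .ofNat 8), (9, .ofNat 1), (12, .ofNat 7), (13, .ofNat 7), (14, .ofNat 2), (15, .ofNat 3), (16, .ofNat 4), (22, .ofNat 8), (23, .ofNat 7), (26, .ofNat 7), (28, .ofNat 5), (29, .ofNat 7), (31, .ofNat 2), (33, .ofNat 1), (39, .ofNat 8)],
    [],
    [(1, .ofNat 3), (2, .ofNat 8), (5, .ofNat 6), (6, .ofNat 6), (7, .ofNat 4), (8, .ofNat 4), (9, .ofNat 8), (10, .ofNat 4), (11, .ofNat 6), (12, .ofNat 1), (13, .ofNat 7), (14, .ofNat 7), (15, .ofNat 1), (16, .ofNat 2), (18, .ofNat 7), (20, .ofNat 4), (22, .ofNat 4), (23, .ofNat 4), (24, .ofNat 7), (26, .ofNat 3), (28, .ofNat 3), (29, .ofNat 6), (30, .ofNat 6), (33, .ofNat 4), (34, .ofNat 6), (35, .ofNat 3), (36, .ofNat 6), (37, .ofNat 6), (38, .ofNat 6), (39, .ofNat 3),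 (40, .ofNat 3), (41, .ofNat 5)],
    [(0, .ofNat 3), (1, .ofNat 3), (2, .ofNat 4), (3, .ofNat 3), (4, .ofNat 5), (5, .ofNat 4), (6, .ofNat 1), (7, .ofNat 8), (8, .ofNat 2), (9, .ofNat 4), (10, .ofNat 1), (12, .ofNat 3), (14, .ofNat 3), (15, .ofNat 8), (16, .ofNat 7), (17, .ofNat 3), (18, .ofNat 5), (19, .ofNat 6), (20, .ofNat 2), (21, .ofNat 6), (22, .ofNat 8), (23, .ofNat 4), (24, .ofNat 3), (25, .ofNat 7), (26, .ofNat 7), (29, .ofNat 2)],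
    [(0, .ofNat 3), (1, .ofNat 3), (2, .ofNat 6), (3, .ofNat 6), (4, .ofNat 7), (5, .ofNat 3), (6, .ofNat 2), (9, .ofNat 5), (10, .ofNat 5), (11, .ofNat 3), (12, .ofNat 6), (13, .ofNat 3), (14, .ofNat 1), (15, .ofNat 6), (16, .ofNat 4), (18, .ofNat 6), (19, .ofNat 3), (22, .ofNat 5), (23, .ofNat 1), (24, .ofNat 5), (25, .ofNat 1), (26, .ofNat 3), (28, .ofNat 5), (29, .ofNat 2), (30, .ofNat 3), (31, .ofNat 8), (32, .ofNat 6), (33, .ofNat 1), (34, .ofNat 6), (37, .ofNat 6), (38, .ofNat 6), (40, .ofNat 6), (42, .ofNat 2)],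
    [(0, .ofNat 3), (1, .ofNat 3), (2, .ofNat 7), (3, .ofNat 3), (5, .ofNat 1), (6, .ofNat 2), (7, .ofNat 6), (8, .ofNat 7), (9, .ofNat 3), (10, .ofNat 3), (11, .ofNat 3), (12, .ofNat 5), (13, .ofNat 2), (14, .ofNat 7), (15, .ofNat 3), (16, .ofNat 3), (17, .ofNat 6), (18, .ofNat 7), (19, .ofNat 6), (20, .ofNat 7), (21, .ofNat 3), (22, .ofNat 3), (24, .ofNat 6), (25, .ofNat 7), (26, .ofNat 2), (28, .ofNat 2), (29, .ofNat 6), (30, .ofNat 3), (31, .ofNat 6), (32, .ofNat 6), (33, .ofNat 1), (34, .ofNat 6), (37, .ofNat 6), (38, .ofNat 6), (40, .ofNat 6), (42, .ofNat 2)],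
    [(2, .ofNat 6), (5, .ofNat 6), (7, .ofNat 3), (9, .ofNat 6), (10, .ofNat 6), (12, .ofNat 6), (13, .ofNat 6), (18, .ofNat 3), (20, .ofNat 3), (22, .ofNat 6), (25, .ofNat 6), (26, .ofNat 3), (28, .ofNat 3), (29, .ofNat 4)],
    [],
    [],
    [(1, .ofNat 5), (2, .ofNat 5), (5, .ofNat 7), (6, .ofNat 6), (7, .ofNat 1), (8, .ofNat 8), (9, .ofNat 7), (10, .ofNat 6), (11, .ofNat 2), (12, .ofNat 8), (13, .ofNat 8), (14, .ofNat 8), (15, .ofNat 3), (16, .ofNat 4), (17, .ofNat 5), (19, .ofNat 1), (21, .ofNat 4), (22, .ofNat 2), (23, .ofNat 2), (24, .ofNat 4), (25, .ofNat 5), (26, .ofNat 6), (28, .ofNat 1), (29, .ofNat 1), (30, .ofNat 4)],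
    [(0, .ofNat 6), (2, .ofNat 2), (4, .ofNat 5), (5, .ofNat 7), (6, .ofNat 5), (7, .ofNat 7), (8, .ofNat 7), (10, .ofNat 7), (12, .ofNat 2), (13, .ofNat 4), (14, .ofNat 7), (15, .ofNat 2), (16, .ofNat 8), (17, .ofNat 3), (20, .ofNat 8), (21, .ofNat 5), (22, .ofNat 1), (24, .ofNat 1), (25, .ofNat 7), (26, .ofNat 3), (28, .ofNat 3), (29, .ofNat 8), (30, .ofNat 6), (31, .ofNat 5), (32, .ofNat 1), (34, .ofNat 4), (35, .ofNat 3), (36, .ofNat 2), (37, .ofNat 3), (38, .ofNat 6), (39, .ofNat 3), (40, .ofNat 3), (41, .ofNat 6), (42, .ofNat 3), (43, .ofNat 2)],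
    [(2, .ofNat 5), (3, .ofNat 4), (4, .ofNat 1), (5, .ofNat 4), (6, .ofNat 2), (7, .ofNat 3), (8, .ofNat 6), (9, .ofNat 2), (10, .ofNat 6), (11, .ofNat 3), (12, .ofNat 7), (13, .ofNat 5), (14, .ofNat 3), (15, .ofNat 1), (16, .ofNat 8), (17, .ofNat 8), (18, .ofNat 7), (19, .ofNat 4), (20, .ofNat 2), (21, .ofNat 7), (22, .ofNat 7), (23, .ofNat 8), (24, .ofNat 2), (25, .ofNat 4), (26, .ofNat 1), (28, .ofNat 6), (29, .ofNat 6), (30, .ofNat 3), (31, .ofNat 2), (32, .ofNat 4), (33, .ofNat 1), (34, .ofNat 2), (36, .ofNat 1), (37, .ofNat 8), (38, .ofNat 7), (40, .ofNat 6), (42, .ofNat 2)],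
    [(0, .ofNat 6), (1, .ofNat 6), (2, .ofNat 1), (3, .ofNat 5), (4, .ofNat 7), (5, .ofNat 6), (7, .ofNat 7), (8, .ofNat 6), (9, .ofNat 8), (10, .ofNat 1), (11, .ofNat 6), (12, .ofNat 7), (13, .ofNat 5), (14, .ofNat 5), (16, .ofNat 4), (17, .ofNat 7), (18, .ofNat 5), (19, .ofNat 5), (20, .ofNat 4), (21, .ofNat 8), (23, .ofNat 5), (24, .ofNat 3), (25, .ofNat 1), (26, .ofNat 4), (28, .ofNat 5), (29, .ofNat 7), (30, .ofNat 6), (31, .ofNat 3), (32, .ofNat 5), (33, .ofNat 5), (34, .ofNat 1), (36, .ofNat 5), (37, .ofNat 1), (38, .ofNat 2), (40, .ofNat 3), (42, .ofNat 1)],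
    [(0, .ofNat 6), (1, .ofNat 6), (2, .ofNat 2), (3, .ofNat 2), (4, .ofNat 4), (6, .ofNat 6), (7, .ofNat 4), (8, .ofNat 8), (9, .ofNat 6), (10, .ofNat 8), (11, .ofNat 6), (12, .ofNat 4), (13, .ofNat 5), (14, .ofNat 3), (15, .ofNat 3), (16, .ofNat 8), (17, .ofNat 7), (19, .ofNat 8), (20, .ofNat 2), (21, .ofNat 5), (22, .ofNat 8), (23, .ofNat 5), (24, .ofNat 4), (25, .ofNat 7), (26, .ofNat 8), (28, .ofNat 7), (30, .ofNat 6), (31, .ofNat 3), (32, .ofNat 5), (33, .ofNat 5), (34, .ofNat 1), (36, .ofNat 5), (37, .ofNat 1), (38, .ofNat 2), (40, .ofNat 3), (42, .ofNat 1)],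
    [(7, .ofNat 3), (8, .ofNat 3), (13, .ofNat 6), (14, .ofNat 1), (15, .ofNat 5), (16, .ofNat 7), (22, .ofNat 4), (23, .ofNat 1), (26, .ofNat 8)],
    [(0, .ofNat 6), (1, .ofNat 6), (8, .ofNat 1), (9, .ofNat 4), (10, .ofNat 7), (12, .ofNat 3), (13, .ofNat 1), (14, .ofNat 3), (15, .ofNat 5), (16, .ofNat 7), (17, .ofNat 3), (18, .ofNat 6), (21, .ofNat 3), (22, .ofNat 4), (23, .ofNat 4), (24, .ofNat 8), (25, .ofNat 8), (26, .ofNat 8)],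
    [],
    [],
    [],
    [(2, .ofNat 6), (5, .ofNat 6), (7, .ofNat 3), (10, .ofNat 7), (11, .ofNat 6), (13, .ofNat 8), (14, .ofNat 3), (15, .ofNat 4), (16, .ofNat 6), (17, .ofNat 6), (18, .ofNat 4), (20, .ofNat 4), (22, .ofNat 5), (23, .ofNat 4), (24, .ofNat 3), (26, .ofNat 3), (28, .ofNat 3), (29, .ofNat 3), (30, .ofNat 5), (32, .ofNat 8)],
    [(0, .ofNat 8), (2, .ofNat 5), (3, .ofNat 4), (4, .ofNat 1), (5, .ofNat 7), (7, .ofNat 5), (8, .ofNat 3), (9, .ofNat 1), (10, .ofNat 7), (11, .ofNat 1), (12, .ofNat 4), (13, .ofNat 5), (14, .ofNat 8), (15, .ofNat 2), (16, .ofNat 5), (17, .ofNat 2), (18, .ofNat 6), (19, .ofNat 5), (20, .ofNat 2), (21, .ofNat 7), (22, .ofNat 6), (23, .ofNat 4), (24, .ofNat 6), (25, .ofNat 6), (26, .ofNat 4), (28, .ofNat 6), (29, .ofNat 4), (30, .ofNat 7), (31, .ofNat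 5), (32, .ofNat 7), (33, .ofNat 2), (34, .ofNat 5), (35, .ofNat 6), (36, .ofNat 6), (37, .ofNat 4), (38, .ofNat 5), (41, .ofNat 6), (42, .ofNat 4), (43, .ofNat 7), (44, .ofNat 6), (45, .ofNat 8)],
    [(0, .ofNat 4), (1, .ofNat 8), (2, .ofNat 6), (4, .ofNat 4), (5, .ofNat 1), (6, .ofNat 6), (7, .ofNat 8), (8, .ofNat 2), (9, .ofNat 4), (10, .ofNat 6), (14, .ofNat 4), (15, .ofNat 7), (16, .ofNat 7), (17, .ofNat 6), (18, .ofNat 5), (19, .ofNat 8), (20, .ofNat 2), (21, .ofNat 7), (22, .ofNat 4), (23, .ofNat 5), (24, .ofNat 6), (25, .ofNat 7), (26, .ofNat 7), (28, .ofNat 1), (29, .ofNat 4), (30, .ofNat 7), (31, .ofNat 4), (32, .ofNat 5), (33, .ofNat 8), (34, .ofNat 4), (37, .ofNat 4), (39, .ofNat 3), (41, .ofNat 3), (42, .ofNat 4), (44, .ofNat 6), (45, .ofNat 8)],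
    [(0, .ofNat 1), (1, .ofNat 3), (2, .ofNat 7), (3, .ofNat 2), (6, .ofNat 8), (7, .ofNat 4), (8, .ofNat 5), (9, .ofNat 6), (10, .ofNat 1), (11, .ofNat 5), (12, .ofNat 1), (13, .ofNat 1), (14, .ofNat 1), (15, .ofNat 7), (17, .ofNat 8), (18, .ofNat 1), (19, .ofNat 7), (21, .ofNat 8), (22, .ofNat 4), (23, .ofNat 4), (24, .ofNat 1), (25, .ofNat 6), (26, .ofNat 5), (28, .ofNat 4), (29, .ofNat 8), (30, .ofNat 2), (31, .ofNat 2), (33, .ofNat 5), (34, .ofNat 6), (36, .ofNat 5), (37, .ofNat 3), (38, .ofNat 8), (39, .ofNat 6), (40, .ofNat 6), (41, .ofNat 6), (42, .ofNat 4), (44, .ofNat 3), (45, .ofNat 4)],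
    [(3, .ofNat 5), (4, .ofNat 7), (5, .ofNat 4), (6, .ofNat 8), (7, .ofNat 7), (8, .ofNat 2), (9, .ofNat 6), (10, .ofNat 8), (11, .ofNat 3), (12, .ofNat 6), (13, .ofNat 8), (14, .ofNat 3), (15, .ofNat 2), (16, .ofNat 4), (17, .ofNat 7), (18, .ofNat 4), (19, .ofNat 2), (20, .ofNat 1), (21, .ofNat 3), (23, .ofNat 4), (24, .ofNat 5), (25, .ofNat 8), (26, .ofNat 1), (29, .ofNat 7), (30, .ofNat 3), (32, .ofNat 2), (33, .ofNat 1), (34, .ofNat 4), (36, .ofNat 5), (37, .ofNat 1), (38, .ofNat 8), (40, .ofNat 6), (42, .ofNat 2)],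
    [(0, .ofNat 3), (1, .ofNat 3), (2, .ofNat 3), (3, .ofNat 4), (4, .ofNat 8), (5, .ofNat 8), (6, .ofNat 4), (7, .ofNat 8), (8, .ofNat 1), (9, .ofNat 4), (10, .ofNat 8), (11, .ofNat 6), (12, .ofNat 6), (13, .ofNat 4), (14, .ofNat 6), (15, .ofNat 4), (16, .ofNat 4), (17, .ofNat 1), (18, .ofNat 5), (19, .ofNat 7), (20, .ofNat 5), (21, .ofNat 3), (22, .ofNat 8), (23, .ofNat 1), (24, .ofNat 7), (25, .ofNat 3), (26, .ofNat 5), (28, .ofNat 3), (29, .ofNat 8), (30, .ofNat 6), (31, .ofNat 6), (32, .ofNat 1), (33, .ofNat 5), (34, .ofNat 8), (36, .ofNat 1), (37, .ofNat 5), (38, .ofNat 4), (40, .ofNat 3), (42, .ofNat 1)],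
    [],
    [],
    [],
    [],
    [(0, .ofNat 2), (1, .ofNat 2), (2, .ofNat 5), (3, .ofNat 6), (4, .ofNat 3), (5, .ofNat 1), (7, .ofNat 4), (8, .ofNat 2), (9, .ofNat 7), (11, .ofNat 2), (12, .ofNat 2), (13, .ofNat 4), (14, .ofNat 8), (15, .ofNat 1), (16, .ofNat 8), (17, .ofNat 5), (18, .ofNat 8), (19, .ofNat 7), (20, .ofNat 3), (21, .ofNat 4), (22, .ofNat 7), (24, .ofNat 3), (25, .ofNat 6), (26, .ofNat 7), (28, .ofNat 1), (29, .ofNat 1), (30, .ofNat 4)],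
    [(0, .ofNat 3), (1, .ofNat 3), (2, .ofNat 4), (3, .ofNat 4), (4, .ofNat 8), (5, .ofNat 3), (6, .ofNat 5), (7, .ofNat 8), (9, .ofNat 7), (10, .ofNat 8), (12, .ofNat 7), (13, .ofNat 3), (14, .ofNat 5), (15, .ofNat 2), (16, .ofNat 7), (17, .ofNat 8), (18, .ofNat 1), (19, .ofNat 7), (20, .ofNat 5), (21, .ofNat 1), (22, .ofNat 1), (23, .ofNat 3), (24, .ofNat 5), (25, .ofNat 8), (26, .ofNat 8), (28, .ofNat 8), (29, .ofNat 8), (32, .ofNat 4), (34, .ofNat 5), (36, .ofNat 1), (37, .ofNat 5), (38, .ofNat 7)],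
    [(2, .ofNat 3), (3, .ofNat 3), (4, .ofNat 6), (5, .ofNat 6), (6, .ofNat 5), (7, .ofNat 5), (8, .ofNat 7), (9, .ofNat 6), (10, .ofNat 3), (11, .ofNat 6), (12, .ofNat 6), (13, .ofNat 4), (14, .ofNat 1), (15, .ofNat 6), (16, .ofNat 8), (17, .ofNat 6), (19, .ofNat 6), (20, .ofNat 3), (21, .ofNat 6), (23, .ofNat 4), (24, .ofNat 2), (25, .ofNat 6), (26, .ofNat 3), (29, .ofNat 2), (30, .ofNat 6), (31, .ofNat 3), (32, .ofNat 3), (33, .ofNat 5), (34, .ofNat 3), (37, .ofNat 3), (38, .ofNat 3), (40, .ofNat 3), (42, .ofNat 1)],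
    [(3, .ofNat 5), (4, .ofNat 7), (5, .ofNat 4), (6, .ofNat 8), (7, .ofNat 6), (8, .ofNat 4), (10, .ofNat 2), (11, .ofNat 3), (12, .ofNat 6), (13, .ofNat 1), (14, .ofNat 4), (15, .ofNat 4), (16, .ofNat 3), (17, .ofNat 1), (18, .ofNat 4), (19, .ofNat 2), (20, .ofNat 3), (21, .ofNat 2), (22, .ofNat 5), (23, .ofNat 5), (24, .ofNat 5), (25, .ofNat 8), (26, .ofNat 2), (29, .ofNat 7), (30, .ofNat 3), (32, .ofNat 2), (33, .ofNat 1), (34, .ofNat 4), (36, .ofNat 5), (37, .ofNat 1), (38, .ofNat 8), (40, .ofNat 6), (42, .ofNat 2)],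
    [(0, .ofNat 6), (1, .ofNat 6), (8, .ofNat 6), (9, .ofNat 4), (10, .ofNat 7), (12, .ofNat 3), (13, .ofNat 6), (14, .ofNat 3), (15, .ofNat 6), (16, .ofNat 2), (18, .ofNat 3), (23, .ofNat 8), (24, .ofNat 8), (25, .ofNat 8)],
    [],
    [],
    [],
    [],
    [],
    [(0, .ofNat 3), (1, .ofNat 3), (5, .ofNat 6), (7, .ofNat 6), (9, .ofNat 4), (10, .ofNat 6), (12, .ofNat 3), (13, .ofNat 5), (15, .ofNat 6), (16, .ofNat 3), (18, .ofNat 7), (19, .ofNat 3), (20, .ofNat 5), (21, .ofNat 3), (22, .ofNat 4), (23, .ofNat 5), (26, .ofNat 8)],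
    [(2, .ofNat 3), (3, .ofNat 7), (4, .ofNat 5), (5, .ofNat 5), (6, .ofNat 1), (7, .ofNat 2), (8, .ofNat 7), (9, .ofNat 3), (10, .ofNat 1), (11, .ofNat 6), (13, .ofNat 3), (14, .ofNat 6), (15, .ofNat 5), (16, .ofNat 6), (17, .ofNat 2), (18, .ofNat 2), (19, .ofNat 1), (20, .ofNat 6), (21, .ofNat 7), (22, .ofNat 6), (23, .ofNat 1), (24, .ofNat 1), (25, .ofNat 4), (26, .ofNat 6), (28, .ofNat 3), (29, .ofNat 8), (30, .ofNat 6), (31, .ofNat 6), (32, .ofNat 1), (33, .ofNat 5), (34, .ofNat 8), (36, .ofNat 1), (37, .ofNat 5), (38, .ofNat 4), (40, .ofNat 3), (42, .ofNat 1)],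
    [(13, .ofNat 1), (16, .ofNat 8), (22, .ofNat 3), (23, .ofNat 1), (26, .ofNat 8)],
    [(13, .ofNat 8), (15, .ofNat 7), (16, .ofNat 5), (17, .ofNat 6), (18, .ofNat 6), (21, .ofNat 6), (22, .ofNat 8), (23, .ofNat 4), (26, .ofNat 7)],
    [],
    [],
    [],
    [],
    [],
    [],
    [(0, .ofNat 6), (1, .ofNat 6), (3, .ofNat 3), (4, .ofNat 6), (6, .ofNat 6), (7, .ofNat 6), (10, .ofNat 3), (13, .ofNat 7), (14, .ofNat 6), (15, .ofNat 4), (16, .ofNat 8), (19, .ofNat 6), (20, .ofNat 2), (21, .ofNat 3), (23, .ofNat 7), (24, .ofNat 3), (25, .ofNat 7)],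
    [(22, .ofNat 8)],
    [(13, .ofNat 6), (15, .ofNat 6), (16, .ofNat 3), (17, .ofNat 6), (18, .ofNat 6), (21, .ofNat 6), (23, .ofNat 2)],
    [],
    [],
    [],
    [],
    [],
    [],
    [],
    [(0, .ofNat 3), (1, .ofNat 3), (3, .ofNat 3), (4, .ofNat 6), (5, .ofNat 6), (6, .ofNat 6), (9, .ofNat 6), (10, .ofNat 3), (12, .ofNat 6), (14, .ofNat 6), (18, .ofNat 2), (19, .ofNat 3), (24, .ofNat 3), (25, .ofNat 7)],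
    [(13, .ofNat 1), (15, .ofNat 5), (16, .ofNat 8), (22, .ofNat 4), (23, .ofNat 1), (26, .ofNat 8)],
    [],
    [],
    [],
    [],
    [],
    [],
    [],
    [],
    [(0, .ofNat 6), (1, .ofNat 6), (3, .ofNat 6), (4, .ofNat 3), (6, .ofNat 3), (7, .ofNat 6), (8, .ofNat 6), (9, .ofNat 2), (10, .ofNat 5), (12, .ofNat 6), (13, .ofNat 2), (14, .ofNat 6), (15, .ofNat 2), (16, .ofNat 2), (18, .ofNat 1), (19, .ofNat 3), (20, .ofNat 1), (21, .ofNat 6), (23, .ofNat 8), (24, .ofNat 6), (25, .ofNat 8)]]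
  y2 := [[(1, .ofNat 3), (5, .ofNat 6), (7, .ofNat 6), (8, .ofNat 3), (9, .ofNat 3), (10, .ofNat 3), (15, .ofNat 3), (18, .ofNat 6), (20, .ofNat 3), (22, .ofNat 3), (23, .ofNat 3), (24, .ofNat 3), (25, .ofNat 3), (26, .ofNat 6), (34, .ofNat 6)],
    [],
    [(0, .ofNat 6), (1, .ofNat 6), (3, .ofNat 6), (4, .ofNat 3), (6, .ofNat 6), (7, .ofNat 6), (8, .ofNat 6), (12, .ofNat 6), (13, .ofNat 3), (15, .ofNat 3), (17, .ofNat 3), (19, .ofNat 6), (20, .ofNat 3), (21, .ofNat 6), (22, .ofNat 6), (23, .ofNat 3), (24, .ofNat 6), (25, .ofNat 3), (27, .ofNat 5), (29, .ofNat 3), (32, .ofNat 6), (33, .ofNat 3), (34, .ofNat 3), (36, .ofNat 6), (37, .ofNat 3), (38, .ofNat 6), (42, .ofNat 6)],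
    [(0, .ofNat 6), (1, .ofNat 6), (2, .ofNat 6), (3, .ofNat 6), (4, .ofNat 6), (5, .ofNat 3), (6, .ofNat 6), (8, .ofNat 3), (9, .ofNat 3), (10, .ofNat 3), (11, .ofNat 3), (12, .ofNat 3), (14, .ofNat 6), (15, .ofNat 3), (16, .ofNat 3), (17, .ofNat 6), (19, .ofNat 3), (20, .ofNat 6), (21, .ofNat 6), (22, .ofNat 3), (23, .ofNat 3), (25, .ofNat 6), (26, .ofNat 3), (28, .ofNat 6), (30, .ofNat 6), (31, .ofNat 3), (36, .ofNat 3), (43, .ofNat 3), (44, .ofNat 6)],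
    [(0, .ofNat 6), (1, .ofNat 6), (3, .ofNat 3), (4, .ofNat 3), (5, .ofNat 6), (6, .ofNat 6), (7, .ofNat 3), (8, .ofNat 3), (9, .ofNat 6), (10, .ofNat 3), (12, .ofNat 6), (13, .ofNat 3), (14, .ofNat 6), (15, .ofNat 3), (16, .ofNat 6), (17, .ofNat 6), (18, .ofNat 6), (19, .ofNat 3), (20, .ofNat 6), (21, .ofNat 3), (22, .ofNat 6), (23, .ofNat 3), (24, .ofNat 3), (25, .ofNat 6), (26, .ofNat 6), (28, .ofNat 6), (29, .ofNat 6), (31, .ofNat 6), (32, .ofNat 3), (33, .ofNat 3), (34, .ofNat 3), (37, .ofNat 6), (42, .ofNat 6)],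
    [(27, .ofNat 5)],
    [(0, .ofNat 3), (1, .ofNat 6), (2, .ofNat 6), (4, .ofNat 3), (6, .ofNat 6), (8, .ofNat 3), (10, .ofNat 6), (11, .ofNat 3), (12, .ofNat 3), (13, .ofNat 3), (15, .ofNat 3), (16, .ofNat 3), (17, .ofNat 6), (18, .ofNat 3), (20, .ofNat 3), (21, .ofNat 6), (22, .ofNat 6), (23, .ofNat 3), (25, .ofNat 6), (26, .ofNat 6), (28, .ofNat 6), (29, .ofNat 3), (30, .ofNat 3), (31, .ofNat 3), (32, .ofNat 6), (33, .ofNat 3), (34, .ofNat 3), (37, .ofNat 3), (42, .ofNat 6), (45, .ofNat 6)],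
    [(13, .ofNat 3), (15, .ofNat 3), (16, .ofNat 6), (20, .ofNat 6), (22, .ofNat 3), (23, .ofNat 3)],
    [(0, .ofNat 6), (1, .ofNat 6), (5, .ofNat 6), (7, .ofNat 3), (10, .ofNat 3), (12, .ofNat 6), (15, .ofNat 6), (16, .ofNat 3), (18, .ofNat 6), (20, .ofNat 3), (25, .ofNat 6), (27, .ofNat 5)],
    [],
    [(1, .ofNat 3), (2, .ofNat 3), (5, .ofNat 6), (7, .ofNat 6), (8, .ofNat 6), (10, .ofNat 6), (11, .ofNat 3), (12, .ofNat 3), (14, .ofNat 3), (16, .ofNat 3), (17, .ofNat 3), (18, .ofNat 3), (19, .ofNat 6), (20, .ofNat 6), (21, .ofNat 6), (22, .ofNat 6), (23, .ofNat 3), (24, .ofNat 3), (25, .ofNat 6), (26, .ofNat 6), (28, .ofNat 6), (29, .ofNat 3), (30, .ofNat 6), (33, .ofNat 6)],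
    [(2, .ofNat 6), (4, .ofNat 6), (5, .ofNat 3), (6, .ofNat 6), (7, .ofNat 3), (8, .ofNat 6), (9, .ofNat 3), (12, .ofNat 3), (13, .ofNat 3), (14, .ofNat 6), (16, .ofNat 3), (22, .ofNat 6), (23, .ofNat 3), (26, .ofNat 3), (28, .ofNat 6), (29, .ofNat 3), (31, .ofNat 6), (33, .ofNat 3), (39, .ofNat 6)],
    [],
    [(2, .ofNat 6), (7, .ofNat 3), (8, .ofNat 3), (9, .ofNat 6), (10, .ofNat 3), (12, .ofNat 3), (13, .ofNat 3), (14, .ofNat 3), (15, .ofNat 3), (16, .ofNat 6), (18, .ofNat 3), (20, .ofNat 3), (22, .ofNat 3), (23, .ofNat 3), (24, .ofNat 3), (33, .ofNat 3), (41, .ofNat 6)],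
    [(2, .ofNat 3), (4, .ofNat 6), (5, .ofNat 3), (6, .ofNat 3), (7, .ofNat 6), (8, .ofNat 6), (9, .ofNat 3), (10, .ofNat 3), (15, .ofNat 6), (16, .ofNat 3), (18, .ofNat 6), (20, .ofNat 6), (22, .ofNat 6), (23, .ofNat 3), (25, .ofNat 3), (26, .ofNat 3), (29, .ofNat 6)],
    [(4, .ofNat 3), (6, .ofNat 6), (9, .ofNat 6), (10, .ofNat 6), (14, .ofNat 3), (16, .ofNat 3), (22, .ofNat 6), (23, .ofNat 3), (24, .ofNat 6), (25, .ofNat 3), (28, .ofNat 6), (29, .ofNat 6), (31, .ofNat 6), (33, .ofNat 3), (42, .ofNat 6)],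
    [(2, .ofNat 3), (5, .ofNat 3), (6, .ofNat 6), (8, .ofNat 3), (12, .ofNat 6), (13, .ofNat 6), (14, .ofNat 3), (18, .ofNat 3), (20, .ofNat 3), (25, .ofNat 3), (26, .ofNat 6), (28, .ofNat 6), (33, .ofNat 3), (42, .ofNat 6)],
    [(29, .ofNat 3)],
    [],
    [],
    [(1, .ofNat 6), (2, .ofNat 6), (5, .ofNat 3), (7, .ofNat 3), (8, .ofNat 6), (9, .ofNat 3), (11, .ofNat 6), (12, .ofNat 6), (13, .ofNat 6), (14, .ofNat 6), (16, .ofNat 3), (17, .ofNat 6), (19, .ofNat 3), (21, .ofNat 3), (22, .ofNat 6), (23, .ofNat 6), (24, .ofNat 3), (25, .ofNat 6), (28, .ofNat 3), (29, .ofNat 3), (30, .ofNat 3)],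
    [(0, .ofNat 3), (1, .ofNat 3), (2, .ofNat 6), (3, .ofNat 3), (4, .ofNat 3), (5, .ofNat 3), (7, .ofNat 6), (8, .ofNat 6), (10, .ofNat 3), (14, .ofNat 3), (15, .ofNat 3), (16, .ofNat 6), (17, .ofNat 6), (19, .ofNat 3), (20, .ofNat 3), (22, .ofNat 6), (23, .ofNat 6), (24, .ofNat 6), (27, .ofNat 1), (29, .ofNat 3), (31, .ofNat 6), (32, .ofNat 6), (33, .ofNat 6), (37, .ofNat 6), (38, .ofNat 3), (42, .ofNat 3), (43, .ofNat 6)],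
    [(0, .ofNat 6), (1, .ofNat 6), (2, .ofNat 6), (4, .ofNat 6), (5, .ofNat 3), (6, .ofNat 3), (7, .ofNat 6), (8, .ofNat 6), (9, .ofNat 6), (15, .ofNat 6), (16, .ofNat 6), (18, .ofNat 3), (24, .ofNat 3), (25, .ofNat 6), (26, .ofNat 3), (27, .ofNat 5), (29, .ofNat 3), (31, .ofNat 6), (33, .ofNat 6), (42, .ofNat 3)],
    [(0, .ofNat 3), (1, .ofNat 3), (2, .ofNat 3), (6, .ofNat 3), (7, .ofNat 6), (8, .ofNat 3), (9, .ofNat 6), (10, .ofNat 3), (12, .ofNat 6), (13, .ofNat 3), (14, .ofNat 6), (15, .ofNat 6), (16, .ofNat 3), (18, .ofNat 6), (22, .ofNat 3), (23, .ofNat 3), (24, .ofNat 3), (26, .ofNat 3), (27, .ofNat 1), (28, .ofNat 6), (33, .ofNat 3), (42, .ofNat 6)],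
    [(0, .ofNat 3), (1, .ofNat 3), (2, .ofNat 6), (6, .ofNat 3), (7, .ofNat 6), (10, .ofNat 6), (12, .ofNat 6), (13, .ofNat 3), (15, .ofNat 6), (16, .ofNat 6), (20, .ofNat 3), (23, .ofNat 3), (24, .ofNat 6), (26, .ofNat 6), (27, .ofNat 1), (28, .ofNat 3), (29, .ofNat 6), (33, .ofNat 3), (42, .ofNat 6)],
    [(14, .ofNat 3), (15, .ofNat 6), (16, .ofNat 3), (22, .ofNat 3), (23, .ofNat 3), (26, .ofNat 6)],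
    [(8, .ofNat 3), (9, .ofNat 3), (10, .ofNat 3), (13, .ofNat 3), (15, .ofNat 6), (16, .ofNat 3), (22, .ofNat 3), (23, .ofNat 3), (24, .ofNat 6), (25, .ofNat 6), (26, .ofNat 6)],
    [],
    [],
    [],
    [(10, .ofNat 3), (13, .ofNat 6), (15, .ofNat 3), (18, .ofNat 3), (20, .ofNat 3), (22, .ofNat 6), (23, .ofNat 3), (30, .ofNat 6), (32, .ofNat 6)],
    [(0, .ofNat 6), (2, .ofNat 6), (3, .ofNat 3), (4, .ofNat 3), (5, .ofNat 3), (7, .ofNat 6), (9, .ofNat 3), (10, .ofNat 3), (11, .ofNat 3), (12, .ofNat 3), (13, .ofNat 6), (14, .ofNat 6), (15, .ofNat 6), (16, .ofNat 6), (17, .ofNat 6), (19, .ofNat 6), (20, .ofNat 6), (21, .ofNat 3), (23, .ofNat 3), (26, .ofNat 3), (29, .ofNat 3), (30, .ofNat 3), (31, .ofNat 6), (32, .ofNat 3), (33, .ofNat 6), (34, .ofNat 6), (37, .ofNat 3), (38, .ofNat 6), (42,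 .ofNat 3), (43, .ofNat 3), (45, .ofNat 6)],
    [(0, .ofNat 3), (1, .ofNat 6), (4, .ofNat 3), (5, .ofNat 3), (7, .ofNat 6), (8, .ofNat 6), (9, .ofNat 3), (14, .ofNat 3), (15, .ofNat 3), (16, .ofNat 3), (18, .ofNat 6), (19, .ofNat 6), (20, .ofNat 6), (21, .ofNat 3), (22, .ofNat 3), (23, .ofNat 6), (25, .ofNat 3), (26, .ofNat 3), (28, .ofNat 3), (29, .ofNat 3), (30, .ofNat 3), (31, .ofNat 3), (32, .ofNat 6), (33, .ofNat 6), (34, .ofNat 3), (37, .ofNat 3), (42, .ofNat 3), (45, .ofNat 6)],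
    [(0, .ofNat 6), (1, .ofNat 3), (2, .ofNat 3), (4, .ofNat 6), (7, .ofNat 6), (10, .ofNat 3), (11, .ofNat 6), (12, .ofNat 6), (14, .ofNat 3), (17, .ofNat 3), (18, .ofNat 3), (19, .ofNat 6), (20, .ofNat 6), (22, .ofNat 6), (24, .ofNat 6), (25, .ofNat 6), (26, .ofNat 6), (27, .ofNat 1), (28, .ofNat 3), (29, .ofNat 3), (30, .ofNat 6), (31, .ofNat 6), (32, .ofNat 3), (33, .ofNat 3), (34, .ofNat 6), (37, .ofNat 6), (42, .ofNat 6), (45, .ofNat 3)],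
    [(0, .ofNat 3), (1, .ofNat 3), (5, .ofNat 3), (7, .ofNat 6), (10, .ofNat 6), (12, .ofNat 3), (13, .ofNat 3), (15, .ofNat 3), (16, .ofNat 3), (18, .ofNat 3), (21, .ofNat 3), (22, .ofNat 3), (25, .ofNat 3), (26, .ofNat 3), (27, .ofNat 1)],
    [(0, .ofNat 6), (1, .ofNat 6), (5, .ofNat 6), (7, .ofNat 3), (9, .ofNat 3), (10, .ofNat 6), (12, .ofNat 6), (13, .ofNat 6), (15, .ofNat 6), (16, .ofNat 3), (17, .ofNat 6), (18, .ofNat 6), (21, .ofNat 6), (22, .ofNat 3), (23, .ofNat 6), (25, .ofNat 3), (26, .ofNat 6), (27, .ofNat 5)],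
    [],
    [],
    [],
    [],
    [(0, .ofNat 6), (1, .ofNat 6), (2, .ofNat 6), (5, .ofNat 3), (7, .ofNat 3), (8, .ofNat 6), (9, .ofNat 3), (11, .ofNat 6), (12, .ofNat 6), (13, .ofNat 3), (14, .ofNat 6), (15, .ofNat 3), (16, .ofNat 6), (17, .ofNat 6), (18, .ofNat 6), (19, .ofNat 3), (21, .ofNat 3), (22, .ofNat 3), (26, .ofNat 3), (28, .ofNat 3), (29, .ofNat 3), (30, .ofNat 3)],
    [(0, .ofNat 6), (1, .ofNat 6), (2, .ofNat 3), (6, .ofNat 3), (7, .ofNat 3), (8, .ofNat 6), (9, .ofNat 3), (10, .ofNat 6), (13, .ofNat 3), (14, .ofNat 6), (16, .ofNat 3), (18, .ofNat 3), (23, .ofNat 3), (24, .ofNat 3), (26, .ofNat 6), (27, .ofNat 5), (28, .ofNat 6), (33, .ofNat 3), (42, .ofNat 6)],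
    [(6, .ofNat 6), (7, .ofNat 6), (8, .ofNat 3), (13, .ofNat 3), (14, .ofNat 3), (16, .ofNat 6), (23, .ofNat 3), (24, .ofNat 6), (29, .ofNat 6), (33, .ofNat 6), (42, .ofNat 3)],
    [(0, .ofNat 3), (1, .ofNat 3), (5, .ofNat 3), (7, .ofNat 3), (8, .ofNat 6), (10, .ofNat 6), (12, .ofNat 3), (14, .ofNat 3), (18, .ofNat 3), (20, .ofNat 6), (23, .ofNat 3), (25, .ofNat 3), (26, .ofNat 6), (27, .ofNat 1)],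
    [(9, .ofNat 3), (10, .ofNat 3), (16, .ofNat 6), (23, .ofNat 6), (24, .ofNat 6), (25, .ofNat 6)],
    [],
    [],
    [],
    [],
    [],
    [(9, .ofNat 3), (13, .ofNat 6), (18, .ofNat 3), (20, .ofNat 6), (22, .ofNat 3), (23, .ofNat 6), (26, .ofNat 6)],
    [(0, .ofNat 6), (1, .ofNat 6), (5, .ofNat 6), (7, .ofNat 3), (10, .ofNat 3), (12, .ofNat 6), (13, .ofNat 3), (18, .ofNat 6), (20, .ofNat 3), (22, .ofNat 6), (23, .ofNat 6), (25, .ofNat 6), (27, .ofNat 5)],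
    [(13, .ofNat 3), (16, .ofNat 6), (23, .ofNat 3), (26, .ofNat 6)],
    [(13, .ofNat 6), (15, .ofNat 3), (16, .ofNat 6), (22, .ofNat 6), (23, .ofNat 3), (26, .ofNat 3)],
    [],
    [],
    [],
    [],
    [],
    [],
    [(13, .ofNat 3), (15, .ofNat 3), (16, .ofNat 6), (20, .ofNat 6), (23, .ofNat 3), (25, .ofNat 3)],
    [(22, .ofNat 6)],
    [(23, .ofNat 6)],
    [],
    [],
    [],
    [],
    [],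
    [],
    [],
    [(18, .ofNat 6), (25, .ofNat 3)],
    [(13, .ofNat 3), (15, .ofNat 6), (16, .ofNat 6), (22, .ofNat 3), (23, .ofNat 3), (26, .ofNat 6)],
    [],
    [],
    [],
    [],
    [],
    [],
    [],
    [],
    [(9, .ofNat 6), (10, .ofNat 6), (13, .ofNat 6), (15, .ofNat 6), (16, .ofNat 6), (18, .ofNat 3), (20, .ofNat 3), (23, .ofNat 6), (25, .ofNat 6)]]

def ix0 : List ℕ := [0, 1, 2, 3, 4, 5]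

def ix1 : List ℕ := [6, 7, 8, 10, 11, 12]

def ix2 : List ℕ := [13, 14, 15, 16, 17, 20]

def ix3 : List ℕ := [21, 22, 23, 24, 25, 26]

def ix4 : List ℕ := [30, 31, 32, 33, 34, 35]

def ix5 : List ℕ := [40, 41, 42, 43, 44, 50]

def ix6 : List ℕ := [51, 52, 53, 60, 61, 62]

def ix7 : List ℕ := [70, 71, 80]

end Cfsg.Agent.Lib.Helper47O73P3C
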