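import Mathlib
import Cfsg.Agent.Lib.Helper7SpCenter
import Cfsg.Agent.Lib.Helper47Idx2
import Cfsg.Agent.Lib.Helper47Dbl
import Cfsg.Agent.S0243

set_option autoImplicit false
set_option maxRecDepth 100000

/-! `PSL₃(7)` acting on the 57 points and 57 lines of the projective plane of order 7. -/

namespace Cfsg.Agent.Lib.Helper47ONSl

open Cfsg.Agent.Lib.Helper47Idx2 Cfsg.Agent.Lib.Helper47Dbl

instance fact7 : Fact (Nat.Prime 7) := ⟨by norm_num⟩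

abbrev V : Type := Fin 3 → ZMod 7

def code (v : V) : ℕ := (v 0).val + 7 * (v 1).val + 49 * (v 2).val
def dc (k : ℕ) : ZMod 7 := (⟨k % 7, Nat.mod_lt _ (by norm_num)⟩ : Fin 7)
def ptTab : ℕ := 0x1b1b8cc5e2b1388c7536994ba5526914e86c32170a84c221ccd6632d94c9643391a8c45a29128847134984b25124904e06830160a048201c452210c8441201040
def labTab : ℕ := 0x414303081c022e4d1266ac429e5e51a19541929a6e4572306b1b293e48e046684dad4e54389183450b1c008a55c691b7066082050e18023eb093638a42262ed49b144156b34e84a9b0ed0f195ea8a06142458c1c3401252b0e1f6c10c943ca9a2f0c8181070614024e6d9955a843ae6e95191340daa22ec53130a2c6891c28600269989744d429a228d2b75c0d0ad2accda70ea0c3820c10025ed151e28643363e71629241060a1c2468b005152f3279a0636550a766b43a2624da974c1549c6c4961f08c1c284040c026e8cd2e4a4418d1c305891400aa75a6d0b30e7091f52d960446b88b734941aa32d0a2f3c198b54c889970ae101860a08021c2c50d182400f48acb1d6404b0f3a9192b027558f6459201485990f56740ab6490e8f2c0591d2cad20f02204081020400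
def pt (j : Fin 57) : V := fun i => dc (Nat.land (Nat.shiftRight ptTab (9 * j + 3 * i)) 7)
def lab (v : V) : Fin 57 := ⟨look labTab (code v) % 57, Nat.mod_lt _ (by norm_num)⟩

def PL : ProjLab (ZMod 7) (Fin 3) 57 where
  pt := pt
  lab := lab
  lab_pt := by decide +kernel
  pt_ne := by decide +kernel
  pt_lab := by decide +kernel
  lab_smul := by decide +kernel

abbrev SL : Type := Matrix.SpecialLinearGroup (Fin 3) (ZMod 7)
abbrev PSL : Type := Matrix.ProjectiveSpecialLinearGroup (Fin 3) (ZMod 7)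

def f1 : SL →* Matrix (Fin 3) (Fin 3) (ZMod 7) where
  toFun A := A.1
  map_one' := rfl
  map_mul' _ _ := rfl

def f2 : SL →* Matrix (Fin 3) (Fin 3) (ZMod 7) where
  toFun A := (A⁻¹).1.transpose
  map_one' := by simp
  map_mul' A B := by
    rw [mul_inv_rev, Matrix.SpecialLinearGroup.coe_mul, Matrix.transpose_mul]

def al0 : SL →* Equiv.Perm (Fin 114) := dbl (PL.toPerm f1) (PL.toPerm f2)

theorem toPerm_scalar (f : SL →* Matrix (Fin 3) (Fin 3) (ZMod 7)) (A : SL) (r : ZMod 7) (hr : r ≠ 0)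
    (h : f A = Matrix.scalar (Fin 3) r) : PL.toPerm f A = 1 := by
  ext j
  rw [PL.toPerm_apply, h]
  have : (Matrix.scalar (Fin 3) r).mulVec (PL.pt j) = r • PL.pt j := by
    rw [Matrix.scalar_apply, ← Matrix.smul_one_eq_diagonal, Matrix.smul_mulVec, Matrix.one_mulVec]
  rw [this, PL.lab_smul _ _ hr, PL.lab_pt]
  rfl

theorem center_le : ∀ A ∈ Subgroup.center SL, al0 A = 1 := by
  intro A hA
  have key : ∀ B ∈ Subgroup.center SL, ∃ r : ZMod 7, r ≠ 0 ∧ B.1 = Matrix.scalar (Fin 3) r := by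
    intro B hB
    obtain ⟨r, hr, hB'⟩ := Matrix.SpecialLinearGroup.mem_center_iff.1 hB
    refine ⟨r, ?_, hB'.symm⟩
    rintro rfl
    simp at hr
  rw [al0, dbl_eq_one_iff]
  constructor
  · obtain ⟨r, hr, h⟩ := key A hA
    exact toPerm_scalar f1 A r hr h
  · obtain ⟨r, hr, h⟩ := key A⁻¹ (inv_mem hA)
    apply toPerm_scalar f2 A r hr
    show (A⁻¹).1.transpose = _
    rw [h]
    simp

theorem ker_le (A : SL) (h : al0 A = 1) : A ∈ Subgroup.center SL := by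
  rw [al0, dbl_eq_one_iff] at h
  have h1 := PL.fix_of_toPerm_eq_one f1 A h.1
  have h2 : A.1 = Matrix.scalar (Fin 3) (A.1 0 0) :=
    Cfsg.Agent.Lib.Helper7SpCenter.eq_scalar_of_fix A.1 h1 0
  rw [Matrix.SpecialLinearGroup.mem_center_iff]
  refine ⟨A.1 0 0, ?_, h2.symm⟩
  have h3 := A.2
  rw [h2] at h3
  simpa using h3

def al : PSL →* Equiv.Perm (Fin 114) := QuotientGroup.lift (Subgroup.center SL) al0 center_le

theorem al_mk (A : SL) : al (QuotientGroup.mk A) = al0 A := rfl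

theorem al_injective : Function.Injective al := by
  rw [injective_iff_map_eq_one]
  intro x hx
  induction x using QuotientGroup.induction_on with
  | H A =>
    rw [al_mk] at hx
    exact (QuotientGroup.eq_one_iff A).2 (ker_le A hx)

theorem card_PSL : Nat.card PSL = 1876896 := by
  have h := Cfsg.Agent.S0243.result (F := ZMod 7) (q := 7) (ZMod.card 7) 3 (by norm_num)
  have h2 : ∏ i : Fin 3, (7 ^ 3 - 7 ^ (i : ℕ)) = 33784128 := by decide
  rw [h2] at h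
  have h3 : Nat.gcd 3 (7 - 1) = 3 := by decide
  rw [h3] at h
  change 3 * ((7 - 1) * Nat.card PSL) = 33784128 at h
  omega

instance : Finite PSL := Nat.finite_of_card_ne_zero (by rw [card_PSL]; norm_num)

def tb0 : ℕ := 0x1c376cd5a3364c582f5cb562b54a54274c95223448501f3c74e1b3464c172c54a13244480f1c3460b14244070c142030404071e1bf76dd9af569d19f365c98f161c17ef5db96ed59b15eb55a94e951a13e74d992e549911e345890e14180fdf3d78edd39
def g0 : Equiv.Perm (Fin 114) := permOf 114 tb0 tb0 (by decide +kernel)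
def tb1 : ℕ := 0x11203c8d09f3addab370d9a323664b9c3460b305cb18af5aaca1220549911ea53a554a13241a2c48e18284040e0c3020a04067d59b4e5d192cdcb16ebdaad2e74a9b26648ddc76f0d9bf5e0c77f15ec376955a3528539f123c38d0a2c17ef5dc07cf1d39
def g1 : Equiv.Perm (Fin 114) := permOf 114 tb1 tb1 (by decide +kernel)
def tb2 : ℕ := 0x1c3300c9a376a541265c78b0d026940c5e4d08e44908195a0ce12527c40458c4525361900f46ad3852824c07222cb9d60a9b71d8e75ede1ba73bbf9ebcf8cea9e18ba265a8f6eec9a599e55978ac417b97543bd51fd991732607d36151812a250ada71ef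
def g2 : Equiv.Perm (Fin 114) := permOf 114 tb2 tb2 (by decide +kernel)
def tb3 : ℕ := 0xaa75a6d0b30e7091f52d960446b88b734941aa32d0a2f3c198b54c889970ae101860a08021c2c50d18240323a595a41e0444ec19aa5ad902acbb18b7e57b733cae14ef3cc74b6cdd15dfeadd7edcca0fb8d9a3a70c9771e2438d16139d75a7e4bb21d41
def g3 : Equiv.Perm (Fin 114) := permOf 114 tb3 tb3 (by decide +kernel)
def tb4 : ℕ := 0x1c376cd5a33648119f447909d3068e17326cb305cb18af5aad425529952748408922650a8f040c2050c1c089142c60d1c20071e1bf76dd9aecdcb16ebdaad469d5a14aa4fd39f2ead19b261bd8afe3c1764ca97326ce90ede3d7cfe03a850e2458d1e0b9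
def g4 : Equiv.Perm (Fin 114) := permOf 114 tb4 tb4 (by decide +kernel)
def tb5 : ℕ := 0x1c2030c141004c5aa6444cb855465a145e783235c45b9a4a0ce123ea5b2c08553ad36859871c2c50d182400f48acb1d6404471b3474e192ef56ebf6e6507d8e96d9ba2bbfb99e570a779e55976316fcaf6760cd52d6c811e2438d16139917724fadadd41
def g5 : Equiv.Perm (Fin 114) := permOf 114 tb5 tb5 (by decide +kernel)
def tbs : ℕ := 0x1c376cd5a3364c582f5cb562b54a54274c95223448501f3c74e1b3464c172c54a13244480f1c3460b14244070c142030404071e1bf76dd9af569d19f365c98f161c17ef5db96ed59b15eb55a94e951a13e74d992e549911e345890e14180fdf3d78edd39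
def sg : Equiv.Perm (Fin 114) := permOf 114 tbs tbs (by decide +kernel)
def tid : ℕ := 0x38f0dfbb6ecd7ab4e8cf9b2e4c78b0e0bf7aedcb76acd8af5aad4a74a8d09f3a6cc972a4c88f1a2c4870a0c07ef9ebc76e9cb86ed9ab466c98b05eb96ac56a94a84e992a446890a03e78e9c3668c982e58a9426488901e3868c16284880e182840608080
def tabs : ℕ → ℕ
  | 0 => tb0 | 1 => tb1 | 2 => tb2 | 3 => tb3 | 4 => tb4 | 5 => tb5 | _ => tid
def gens : ℕ → Equiv.Perm (Fin 114)
  | 0 => g0 | 1 => g1 | 2 => g2 | 3 => g3 | 4 => g4 | 5 => g5 | _ => 1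

theorem hg : ∀ k (j : Fin 114), ((gens k j : Fin 114) : ℕ) = look (tabs k) j := by
  intro k j
  match k with
  | 0 => rfl
  | 1 => rfl
  | 2 => rfl
  | 3 => rfl
  | 4 => rfl
  | 5 => rfl
  | _ + 6 =>
    show (j : ℕ) = look tid j
    revert j
    decide +kernel

theorem gens_inv (k : ℕ) : (gens k)⁻¹ = gens k := by
  match k with
  | 0 => rfl
  | 1 => rfl
  | 2 => rfl
  | 3 => rfl
  | 4 => rfl
  | 5 => rfl
  | _ + 6 => exact inv_one

theorem sg_inv : sg⁻¹ = sg := rfl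

/-- the group generated by the six permutations -/
def Hb : Subgroup (Equiv.Perm (Fin 114)) := Subgroup.closure (Set.range gens)

def PP (x : Equiv.Perm (Fin 114)) : Prop := (∃ s, x = al s) ∨ ∃ s, x = al s * sg

theorem PP_of (z : Equiv.Perm (Fin 114)) (M M' : Matrix (Fin 3) (Fin 3) (ZMod 7))
    (hdet : M.det = 1) (hinv : M'.transpose * M = 1) (e : Bool)
    (h1 : ∀ j : Fin 57, ((z (if e then sg (Fin.castAdd 57 j) else Fin.castAdd 57 j) : Fin 114) : ℕ)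
      = (lab (M.mulVec (pt j)) : ℕ))
    (h2 : ∀ j : Fin 57, ((z (if e then sg (Fin.natAdd 57 j) else Fin.natAdd 57 j) : Fin 114) : ℕ)
      = 57 + (lab (M'.mulVec (pt j)) : ℕ)) : PP z := by
  have hdet' : M'.transpose.det = 1 := by
    have := congrArg Matrix.det hinv
    rwa [Matrix.det_mul, hdet, mul_one, Matrix.det_one] at this
  let s : SL := ⟨M, hdet⟩
  let t : SL := ⟨M'.transpose, hdet'⟩
  have hts : t * s = 1 := Subtype.ext hinv
  have hsi : s⁻¹ = t := (eq_inv_of_mul_eq_one_left hts).symm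
  have hf2 : f2 s = M' := by
    show (s⁻¹).1.transpose = M'
    rw [hsi]
    exact Matrix.transpose_transpose M'
  cases e with
  | false =>
    refine Or.inl ⟨QuotientGroup.mk s, ?_⟩
    rw [al_mk]
    refine eq_dbl (n := 57) (PL.toPerm f1) (PL.toPerm f2) s z h1 ?_
    intro j
    rw [PL.toPerm_apply, hf2]
    exact h2 j
  | true =>
    refine Or.inr ⟨QuotientGroup.mk s, ?_⟩
    rw [al_mk, ← sg_inv, eq_mul_inv_iff_mul_eq]
    refine eq_dbl (n := 57) (PL.toPerm f1) (PL.toPerm f2) s (z * sg) h1 ?_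
    intro j
    rw [PL.toPerm_apply, hf2]
    exact h2 j

theorem pp0_0 : PP g0 :=
  PP_of _ !![1, 0, 0; 0, 1, 0; 0, 0, 1] !![1, 0, 0; 0, 1, 0; 0, 0, 1] (by decide +kernel) (by decide +kernel) true (by decide +kernel) (by decide +kernel)
theorem pp0_1 : PP (sg * g0) :=
  PP_of _ !![1, 0, 0; 0, 1, 0; 0, 0, 1] !![1, 0, 0; 0, 1, 0; 0, 0, 1] (by decide +kernel) (by decide +kernel) false (by decide +kernel) (by decide +kernel)
theorem pp1_0 : PP g1 :=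
  PP_of _ !![1, 0, 0; 0, 4, 0; 0, 0, 2] !![1, 0, 0; 0, 2, 0; 0, 0, 4] (by decide +kernel) (by decide +kernel) true (by decide +kernel) (by decide +kernel)
theorem pp1_1 : PP (sg * g1) :=
  PP_of _ !![1, 0, 0; 0, 2, 0; 0, 0, 4] !![1, 0, 0; 0, 4, 0; 0, 0, 2] (by decide +kernel) (by decide +kernel) false (by decide +kernel) (by decide +kernel)
theorem pp2_0 : PP g2 :=
  PP_of _ !![4, 1, 1; 1, 4, 6; 1, 6, 4] !![1, 2, 2; 2, 1, 5; 2, 5, 1] (by decide +kernel) (by decide +kernel) true (by decide +kernel) (by decide +kernel)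
theorem pp2_1 : PP (sg * g2) :=
  PP_of _ !![1, 2, 2; 2, 1, 5; 2, 5, 1] !![4, 1, 1; 1, 4, 6; 1, 6, 4] (by decide +kernel) (by decide +kernel) false (by decide +kernel) (by decide +kernel)
theorem pp3_0 : PP g3 :=
  PP_of _ !![0, 0, 3; 0, 3, 0; 3, 0, 0] !![0, 0, 5; 0, 5, 0; 5, 0, 0] (by decide +kernel) (by decide +kernel) true (by decide +kernel) (by decide +kernel)
theorem pp3_1 : PP (sg * g3) :=
  PP_of _ !![0, 0, 3; 0, 3, 0; 3, 0, 0] !![0, 0, 5; 0, 5, 0; 5, 0, 0] (by decide +kernel) (by decide +kernel) false (by decide +kernel) (by decide +kernel)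
theorem pp4_0 : PP g4 :=
  PP_of _ !![0, 1, 0; 1, 0, 0; 0, 0, 6] !![0, 1, 0; 1, 0, 0; 0, 0, 6] (by decide +kernel) (by decide +kernel) true (by decide +kernel) (by decide +kernel)
theorem pp4_1 : PP (sg * g4) :=
  PP_of _ !![0, 1, 0; 1, 0, 0; 0, 0, 6] !![0, 1, 0; 1, 0, 0; 0, 0, 6] (by decide +kernel) (by decide +kernel) false (by decide +kernel) (by decide +kernel)
theorem pp5_0 : PP g5 :=
  PP_of _ !![0, 0, 1; 0, 6, 0; 1, 0, 0] !![0, 0, 1; 0, 6, 0; 1, 0, 0] (by decide +kernel) (by decide +kernel) true (by decide +kernel) (by decide +kernel)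
theorem pp5_1 : PP (sg * g5) :=
  PP_of _ !![0, 0, 1; 0, 6, 0; 1, 0, 0] !![0, 0, 1; 0, 6, 0; 1, 0, 0] (by decide +kernel) (by decide +kernel) false (by decide +kernel) (by decide +kernel)

theorem pp_one : PP 1 := Or.inl ⟨1, by rw [map_one]⟩
theorem pp_sg : PP sg := Or.inr ⟨1, by rw [map_one, one_mul]⟩

theorem pp_gens (k : ℕ) : PP (gens k) ∧ PP (sg * gens k) := by
  match k with
  | 0 => exact ⟨pp0_0, pp0_1⟩
  | 1 => exact ⟨pp1_0, pp1_1⟩
  | 2 => exact ⟨pp2_0, pp2_1⟩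
  | 3 => exact ⟨pp3_0, pp3_1⟩
  | 4 => exact ⟨pp4_0, pp4_1⟩
  | 5 => exact ⟨pp5_0, pp5_1⟩
  | _ + 6 => exact ⟨pp_one, by rw [show gens (_ + 6) = 1 from rfl, mul_one]; exact pp_sg⟩

theorem Hb_sub : ∀ x ∈ Hb, PP x := by
  apply closure_sub_union al sg
  · rintro _ ⟨k, rfl⟩
    exact pp_gens k
  · rintro _ ⟨k, rfl⟩
    rw [gens_inv]
    exact pp_gens k

theorem mem_Hb (w : List ℕ) : (w.map gens).prod ∈ Hb := by
  apply Subgroup.list_prod_mem
  intro x hx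
  rw [List.mem_map] at hx
  obtain ⟨k, _, rfl⟩ := hx
  exact Subgroup.subset_closure ⟨k, rfl⟩

theorem fix_of (w : List ℕ) (b : Fin 114) (h : wev tabs w b = b) :
    (w.map gens).prod ∈ MulAction.stabilizer (Equiv.Perm (Fin 114)) b := by
  rw [MulAction.mem_stabilizer_iff, Equiv.Perm.smul_def]
  exact Fin.ext (by rw [prod_apply gens tabs hg]; exact h)

def ws0 : List (List ℕ) := [[0], [1], [2], [3], [4], [5]]
def tree0 : List (ℕ × ℕ) := [(0, 0), (0, 2), (0, 3), (57, 2), (57, 3), (111, 1), (111, 3), (111, 5), (65, 4), (54, 1), (54, 5), (8, 4), (30, 0), (30, 5), (45, 5), (24, 4), (102, 5), (81, 4), (87, 5), (94, 4), (76, 4), (99, 3), (19, 4), (42, 3), (37, 4), (27, 3), (18, 3), (35, 2), (75, 3), (92, 2), (84, 3), (110, 2), (105, 2), (71, 1), (48, 2), (14, 1), (53, 2), (50, 1), (50, 3), (2, 1), (2, 3), (13, 0), (59, 1), (59, 3), (68, 0), (107, 1), (107, 3), (100, 0), (100, 3), (64, 4), (60,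 0), (60, 3), (5, 0), (5, 3), (29, 0), (29, 3), (7, 4), (43, 3), (4, 2), (4, 4), (3, 3), (36, 2), (62, 3), (79, 2), (86, 3), (63, 2), (63, 4), (61, 2), (61, 4), (80, 4), (93, 2), (90, 3), (22, 2), (6, 2), (6, 4), (17, 3), (17, 4), (23, 4), (39, 3), (33, 1), (74, 1), (74, 4), (97, 4), (77, 3), (96, 3), (112, 2), (40, 4), (20, 3), (28, 3), (32, 2), (55, 2), (51, 1), (85, 3), (89, 2), (106, 2), (73, 1), (108, 1), (104, 0), (49, 2), (16, 1), (21, 1), (21, 3), (38, 0), (31, 0), (78, 1), (78, 3), (83, 0), (82, 0), (82, 3), (41, 0), (41, 3), (25, 3), (98, 3)]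
def G0 : Subgroup (Equiv.Perm (Fin 114)) := Hb
theorem nd0 : (grow (fun k y => wev tabs (ws0.getD k []) y) 0 [0] tree0).Nodup := by decide +kernel
theorem ln0 : (grow (fun k y => wev tabs (ws0.getD k []) y) 0 [0] tree0).length = 114 := by decide +kernel
theorem lv0 : 114 * Nat.card (G0 ⊓ MulAction.stabilizer (Equiv.Perm (Fin 114)) (0 : Fin 114) : Subgroup _) ≤ Nat.card G0 :=
  level' gens tabs hg G0 ws0 (fun w _ => mem_Hb w) (0 : Fin 114) 0 rfl tree0 114 nd0 ln0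
def ws1 : List (List ℕ) := [[0, 4], [3, 5], [0, 2, 1, 3, 2, 0]]
def tree1 : List (ℕ × ℕ) := [(1, 0), (1, 2), (8, 2), (2, 0), (2, 1), (19, 0), (19, 1), (7, 0), (7, 2), (18, 1), (54, 2), (9, 2), (3, 0), (3, 1), (53, 2), (24, 0), (24, 1), (20, 0), (20, 1), (6, 0), (6, 2), (23, 0), (23, 1), (42, 1), (45, 0), (17, 1), (55, 2), (10, 2), (4, 0), (4, 1), (39, 1), (44, 0), (44, 2), (35, 0), (35, 2), (30, 1), (52, 2), (25, 0), (25, 1), (21, 0), (21, 1), (5, 0), (32, 0), (32, 2), (33, 1), (29, 1), (48, 1), (38, 1), (46, 0), (16, 1), (56, 2), (11, 2), (49, 1), (27, 2), (34, 1)]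
theorem fx1 : ∀ w ∈ ws1, wev tabs w 0 = 0 := by decide +kernel
def G1 : Subgroup (Equiv.Perm (Fin 114)) := G0 ⊓ MulAction.stabilizer (Equiv.Perm (Fin 114)) (0 : Fin 114)
theorem nd1 : (grow (fun k y => wev tabs (ws1.getD k []) y) 1 [1] tree1).Nodup := by decide +kernel
theorem ln1 : (grow (fun k y => wev tabs (ws1.getD k []) y) 1 [1] tree1).length = 56 := by decide +kernel
theorem lv1 : 56 * Nat.card (G1 ⊓ MulAction.stabilizer (Equiv.Perm (Fin 114)) (1 : Fin 114) : Subgroup _) ≤ Nat.card G1 :=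
  level' gens tabs hg G1 ws1 (fun w hw => Subgroup.mem_inf.2 ⟨mem_Hb w, fix_of w (0 : Fin 114) (fx1 w hw)⟩) (1 : Fin 114) 1 rfl tree1 56 nd1 ln1
def ws2 : List (List ℕ) := [[3, 5], [0, 2, 3, 1, 2, 0, 4, 0, 3, 5, 0, 4, 0, 2, 1, 3, 2, 0], [4, 0, 0, 2, 3, 1, 2, 0, 5, 3, 0, 2, 3, 1, 2, 0, 5, 3, 4, 0, 0, 2, 1, 3, 2, 0, 3, 5, 0, 2, 1, 3, 2, 0, 3, 5, 0, 2, 1, 3, 2, 0, 0, 4]]
def tree2 : List (ℕ × ℕ) := [(8, 1), (8, 2), (23, 0), (23, 2), (40, 0), (40, 1), (40, 2), (44, 1), (44, 2), (16, 0), (16, 1), (33, 1), (33, 2), (47, 0), (47, 2), (49, 0), (49, 1), (36, 0), (9, 1), (9, 2), (15, 0), (54, 0), (35, 0), (35, 1), (26, 1), (26, 2), (14, 1), (28, 1), (38, 0), (38, 2), (22, 0), (37, 0), (19, 2), (42, 1), (52, 0), (52, 2), (24, 2), (10, 2), (31, 2), (48, 1), (48, 2), (45, 2), (17, 2), (27, 2), (20, 2), (41, 1), (34, 2), (13, 1)]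
theorem fx2 : ∀ w ∈ ws2, wev tabs w 0 = 0 ∧ wev tabs w 1 = 1 := by decide +kernel
def G2 : Subgroup (Equiv.Perm (Fin 114)) := G1 ⊓ MulAction.stabilizer (Equiv.Perm (Fin 114)) (1 : Fin 114)
theorem nd2 : (grow (fun k y => wev tabs (ws2.getD k []) y) 8 [8] tree2).Nodup := by decide +kernel
theorem ln2 : (grow (fun k y => wev tabs (ws2.getD k []) y) 8 [8] tree2).length = 49 := by decide +kernel
theorem lv2 : 49 * Nat.card (G2 ⊓ MulAction.stabilizer (Equiv.Perm (Fin 114)) (8 : Fin 114) : Subgroup _) ≤ Nat.card G2 :=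
  level' gens tabs hg G2 ws2 (fun w hw => Subgroup.mem_inf.2 ⟨Subgroup.mem_inf.2 ⟨mem_Hb w, fix_of w (0 : Fin 114) (fx2 w hw).1⟩, fix_of w (1 : Fin 114) (fx2 w hw).2⟩) (8 : Fin 114) 8 rfl tree2 49 nd2 ln2
def ws3 : List (List ℕ) := [[0, 2, 3, 1, 2, 0, 4, 0, 5, 3, 0, 4, 0, 2, 1, 3, 2, 0, 5, 3, 0, 2, 3, 1, 2, 0, 4, 0, 5, 3, 0, 4, 0, 2, 1, 3, 2, 0, 5, 3, 0, 2, 3, 1, 2, 0, 4, 0, 3, 5, 0, 4, 0, 2, 1, 3, 2, 0, 3, 5, 4, 0, 0, 2, 3, 1, 2, 0, 5, 3, 0, 2, 3, 1, 2, 0, 5, 3, 4, 0, 0, 2, 1, 3, 2, 0, 3, 5, 0, 2, 1, 3, 2, 0, 3, 5, 0, 2, 1, 3, 2, 0, 0, 4, 0, 2, 3, 1, 2, 0, 4, 0, 3, 5, 0, 4, 0, 2, 1, 3, 2, 0], [4, 0, 0, 2, 3, 1, 2, 0, 5, 3, 0, 2, 3, 1, 2, 0, 5, 3, 0, 2, 3, 1, 2, 0, 0, 4, 3, 5, 0, 2, 1, 3, 2, 0, 3, 5, 0, 2, 1, 3, 2, 0, 0, 4, 0, 2, 3, 1, 2, 0, 4, 0, 5, 3, 0, 4, 0, 2, 1, 3, 2, 0, 4, 0, 0, 2, 3, 1, 2, 0, 5, 3, 0, 2, 3, 1, 2, 0, 5, 3, 4, 0, 0, 2, 1, 3, 2, 0, 3, 5, 0, 2, 1, 3, 2, 0, 3, 5, 0,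 2, 1, 3, 2, 0, 0, 4, 0, 2, 3, 1, 2, 0, 4, 0, 3, 5, 0, 4, 0, 2, 1, 3, 2, 0, 3, 5, 0, 2, 3, 1, 2, 0, 4, 0, 3, 5, 0, 4, 0, 2, 1, 3, 2, 0]]
def tree3 : List (ℕ × ℕ) := [(16, 0), (16, 1), (47, 0), (47, 1), (38, 0), (38, 1), (51, 0), (51, 1), (26, 0), (26, 1), (31, 1)]
theorem fx3 : ∀ w ∈ ws3, wev tabs w 0 = 0 ∧ wev tabs w 1 = 1 ∧ wev tabs w 8 = 8 := by decide +kernel
def G3 : Subgroup (Equiv.Perm (Fin 114)) := G2 ⊓ MulAction.stabilizer (Equiv.Perm (Fin 114)) (8 : Fin 114)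
theorem nd3 : (grow (fun k y => wev tabs (ws3.getD k []) y) 16 [16] tree3).Nodup := by decide +kernel
theorem ln3 : (grow (fun k y => wev tabs (ws3.getD k []) y) 16 [16] tree3).length = 12 := by decide +kernel
theorem lv3 : 12 * Nat.card (G3 ⊓ MulAction.stabilizer (Equiv.Perm (Fin 114)) (16 : Fin 114) : Subgroup _) ≤ Nat.card G3 :=
  level' gens tabs hg G3 ws3 (fun w hw => Subgroup.mem_inf.2 ⟨Subgroup.mem_inf.2 ⟨Subgroup.mem_inf.2 ⟨mem_Hb w, fix_of w (0 : Fin 114) (fx3 w hw).1⟩, fix_of w (1 : Fin 114) (fx3 w hw).2.1⟩, fix_of w (8 : Fin 114) (fx3 w hw).2.2⟩) (16 : Fin 114) 16 rfl tree3 12 nd3 ln3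

theorem card_Hb : 3753792 ≤ Nat.card Hb := by
  have h0 := lv0
  have h1 := lv1
  have h2 := lv2
  have h3 := lv3
  have h4 : 1 ≤ Nat.card (G3 ⊓ MulAction.stabilizer (Equiv.Perm (Fin 114)) (16 : Fin 114) : Subgroup _) := Nat.card_pos
  change _ ≤ Nat.card Hb at h0
  change 56 * _ ≤ Nat.card (G0 ⊓ MulAction.stabilizer (Equiv.Perm (Fin 114)) (0 : Fin 114) : Subgroup _) at h1
  change 49 * _ ≤ Nat.card (G1 ⊓ MulAction.stabilizer (Equiv.Perm (Fin 114)) (1 : Fin 114) : Subgroup _) at h2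
  change 12 * _ ≤ Nat.card (G2 ⊓ MulAction.stabilizer (Equiv.Perm (Fin 114)) (8 : Fin 114) : Subgroup _) at h3
  omega

end Cfsg.Agent.Lib.Helper47ONSl
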