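import Cfsg.Agent.Lib.Helper35SuzFin
import Cfsg.Agent.Lib.Helper35Iso
import Cfsg.Agent.Lib.Helper35Cnt
import Cfsg.Agent.Lib.Helper10Spin
import Cfsg.Agent.Lib.Helper47SuzM3B

set_option autoImplicit false
set_option maxRecDepth 100000

/-! A stem extension of the sporadic Suzuki group with cyclic kernel of order six. -/

namespace Cfsg.Agent.Lib.Helper47SuzM2

open Cfsg.Agent.Lib.Helper35TC Cfsg.Agent.Lib.Helper35SuzA Cfsg.Agent.Lib.Helper47StemC

abbrev Gen := Cfsg.Spor.Suz.Gen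

instance : IsSimpleGroup K.Grp := Cfsg.Agent.Lib.Helper35SuzFin.simple
instance : Finite K.Grp := Cfsg.Agent.Lib.Helper35SuzFin.hub.1

noncomputable def phi : K.Grp →* Equiv.Perm (Fin 1782) := ok.phi

theorem phi_apply (e : WExp Gen) (j : Fin 1782) :
    ((phi (PresentedGroup.mk K.rels e.eval)) j).val = P.walkA (e.app K.code K.P.iv) j :=
  ok.phi_mk_apply e j

def dE : WExp Gen := .of .d

noncomputable def dd : K.Grp := PresentedGroup.mk K.rels dE.eval

noncomputable def dN (j : ℕ) : ℕ := P.walkA (dE.app K.code K.P.iv) j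

theorem cntMoved : cntD (fun j => Nat.ble (j + 1) 1782 && !(Nat.beq (dN j) j)) 11 0 = 1740 := by
  decide +kernel

theorem dd_sq : dd * dd = 1 := by
  have := Cfsg.Agent.Lib.Helper35SuzFin.word_eq_one (.mul dE dE) (by decide +kernel)
  simp only [WExp.eval, map_mul] at this
  exact this

theorem hsupp : (phi dd).support.card = 1740 := by
  have hψ : ∀ j : Fin 1782, (phi dd j).val = dN j.val := fun j => phi_apply dE j
  have h1 := card_filter_range (fun j => Nat.ble (j + 1) 1782 && !(Nat.beq (dN j) j)) 11 1782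
    (by norm_num) (by
      intro u hu
      rw [Bool.and_eq_true, Nat.ble_eq] at hu
      omega)
  rw [cntMoved] at h1
  rw [← h1]
  apply Finset.card_bij (fun j _ => j.val)
  · intro j hj
    rw [Equiv.Perm.mem_support] at hj
    rw [Finset.mem_filter, Finset.mem_range, Bool.and_eq_true, Nat.ble_eq, Bool.not_eq_true',
      ← hψ]
    refine ⟨j.2, j.2, ?_⟩
    cases hb : Nat.beq (phi dd j).val j.val
    · rfl
    · exact absurd (Fin.ext (Nat.beq_eq ▸ hb)) hj
  · intro a _ b _ hab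
    exact Fin.ext hab
  · intro b hb
    rw [Finset.mem_filter, Finset.mem_range, Bool.and_eq_true, Nat.ble_eq, Bool.not_eq_true'] at hb
    refine ⟨⟨b, hb.1⟩, ?_, rfl⟩
    rw [Equiv.Perm.mem_support]
    intro hfix
    have h2 := hψ ⟨b, hb.1⟩
    rw [hfix] at h2
    have h3 := hb.2.2
    rw [← h2] at h3
    simp at h3

theorem phi_dd_ne : phi dd ≠ 1 := by
  intro h
  have h1 := hsupp
  rw [h, Equiv.Perm.support_one, Finset.card_empty] at h1
  exact absurd h1 (by norm_num)

theorem phi_inj : Function.Injective phi :=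
  Cfsg.Agent.Lib.Helper35TC.injective_of_simple phi ⟨dd, phi_dd_ne⟩

theorem order_dd : orderOf (phi dd) = 2 := by
  have : Fact (Nat.Prime 2) := ⟨Nat.prime_two⟩
  apply orderOf_eq_prime _ phi_dd_ne
  rw [pow_two, ← map_mul, dd_sq, map_one]

theorem cyc_dd : (phi dd).cycleType = Multiset.replicate 870 2 := by
  obtain ⟨n, hn⟩ := Equiv.Perm.cycleType_prime_order (σ := phi dd) (by rw [order_dd]; exact Nat.prime_two)
  rw [order_dd] at hn
  have h := Equiv.Perm.sum_cycleType (phi dd)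
  rw [hn, Multiset.sum_replicate, smul_eq_mul, hsupp] at h
  have : n + 1 = 870 := by omega
  rw [hn, this]

theorem perfect_range : commutator phi.range = ⊤ := by
  let e : K.Grp ≃* phi.range := MonoidHom.ofInjective phi_inj
  have : Nontrivial phi.range := e.symm.toEquiv.nontrivial
  have : IsSimpleGroup phi.range :=
    IsSimpleGroup.isSimpleGroup_of_surjective e.toMonoidHom e.surjective
  apply Cfsg.Agent.Lib.Helper35Mat.commutator_eq_top_of_simple
  rw [← Nat.card_congr e.toEquiv, Cfsg.Agent.Lib.Helper35SuzFin.card_eq]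
  norm_num

theorem exists_cover2 : ∃ (Γ : Type) (_ : Group Γ) (_ : Finite Γ) (σ : Γ →* K.Grp),
    Cfsg.IsStemExtension σ ∧ Nat.card σ.ker = 2 := by
  obtain ⟨Γ, i1, i2, σ, hσ, hc⟩ := Cfsg.Agent.Lib.Helper10Spin.stem_of_perm 1781 phi.range
    perfect_range (phi dd) ⟨dd, rfl⟩ 870 cyc_dd (by decide)
  let e : K.Grp ≃* phi.range := MonoidHom.ofInjective phi_inj
  obtain ⟨h1, h2⟩ := stem_transport σ hσ e.symm
  exact ⟨Γ, i1, i2, _, h1, by rw [h2]; exact hc⟩

theorem exists_cover : ∃ (Γ : Type) (_ : Group Γ) (_ : Finite Γ) (σ : Γ →* K.Grp),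
    Cfsg.IsStemExtension σ ∧ Nonempty (σ.ker ≃* Multiplicative (ZMod 6)) := by
  obtain ⟨Γ₁, i1, i2, σ₁, h₁, c₁⟩ := exists_cover2
  obtain ⟨σ₂, h₂, c₂⟩ := Cfsg.Agent.Lib.Helper47SuzM3B.exists_cover
  obtain ⟨h, e⟩ := stem_fibre h₁ h₂ c₁ c₂
  exact ⟨Fib σ₁ σ₂, inferInstance, inferInstance, fibHom σ₁ σ₂, h, e⟩

end Cfsg.Agent.Lib.Helper47SuzM2
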