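import Mathlib

set_option autoImplicit false

namespace Cfsg.Agent.Lib.Helper48F2Sum

/-- the sign character of `ZMod 2` -/
def chi (a : ZMod 2) : ℤ := if a = 0 then 1 else -1

theorem chi_add : ∀ a b : ZMod 2, chi (a + b) = chi a * chi b := by decide

theorem chi_zero : chi 0 = 1 := by decide

theorem chi_one : chi 1 = -1 := by decide

theorem chi_eq_one_iff : ∀ a : ZMod 2, chi a = 1 ↔ a = 0 := by decide

theorem chi_eq_neg_one_iff : ∀ a : ZMod 2, chi a = -1 ↔ a = 1 := by decide

theorem zmod2_cases : ∀ a : ZMod 2, a = 0 ∨ a = 1 := by decide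

theorem zmod2_mul_self : ∀ a : ZMod 2, a * a = a := by decide

theorem zmod2_add_self : ∀ a : ZMod 2, a + a = 0 := by decide

theorem zmod2_ne_zero : ∀ a : ZMod 2, a ≠ 0 ↔ a = 1 := by decide

variable {V : Type*} [AddCommGroup V] [Fintype V]

theorem chi_sum_zero (φ : V → ZMod 2) (hadd : ∀ u u', φ (u + u') = φ u + φ u') (u0 : V)
    (h : φ u0 = 1) : ∑ u, chi (φ u) = 0 := by
  have h1 : ∑ u, chi (φ u) = ∑ u, chi (φ (u + u0)) :=
    (Fintype.sum_equiv (Equiv.addRight u0) _ _ (fun u => rfl)).symm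
  have h2 : ∑ u, chi (φ (u + u0)) = - ∑ u, chi (φ u) := by
    rw [← Finset.sum_neg_distrib]
    apply Finset.sum_congr rfl
    intro u _
    rw [hadd, h, chi_add, chi_one]; ring
  omega

/-- the exponential sum of a function -/
def S (q : V → ZMod 2) : ℤ := ∑ v, chi (q v)

omit [AddCommGroup V] in
theorem S_comp_equiv {W : Type*} [Fintype W] (q : V → ZMod 2) (g : W ≃ V) :
    ∑ w, chi (q (g w)) = S q :=
  Fintype.sum_equiv g _ _ (fun _ => rfl)

omit [Fintype V] in
theorem q_zero (B : V → V → ZMod 2) (hB0 : B 0 0 = 0) (q : V → ZMod 2)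
    (hq : ∀ u v, q (u + v) = q u + q v + B u v) : q 0 = 0 := by
  have := hq 0 0
  rw [add_zero, hB0, add_zero] at this
  have h2 := zmod2_add_self (q 0)
  rw [← this] at h2
  exact h2

theorem S_sq (B : V → V → ZMod 2) (hBl : ∀ u u' v, B (u + u') v = B u v + B u' v)
    (hB0 : ∀ u, B u 0 = 0)
    (hnd : ∀ z, z ≠ 0 → ∃ u, B u z = 1) (q : V → ZMod 2)
    (hq : ∀ u v, q (u + v) = q u + q v + B u v) : S q ^ 2 = Fintype.card V := by
  classical
  have hq0 : q 0 = 0 := q_zero B (hB0 0) q hq
  unfold S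
  rw [sq, Finset.sum_mul_sum]
  have h1 : ∀ u, ∑ v, chi (q u) * chi (q v) = ∑ z, chi (q z) * chi (B u z) := by
    intro u
    rw [← Fintype.sum_equiv (Equiv.addLeft u) (fun z => chi (q u) * chi (q (u + z))) _ (fun z => rfl)]
    apply Finset.sum_congr rfl
    intro z _
    rw [hq, ← chi_add, ← chi_add]
    congr 1
    have := zmod2_add_self (q u)
    calc q u + (q u + q z + B u z) = (q u + q u) + (q z + B u z) := by ring
      _ = q z + B u z := by rw [this, zero_add]
  rw [Finset.sum_congr rfl (fun u _ => h1 u), Finset.sum_comm]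
  have h2 : ∀ z, ∑ u, chi (q z) * chi (B u z) = if z = 0 then (Fintype.card V : ℤ) else 0 := by
    intro z
    rw [← Finset.mul_sum]
    split_ifs with hz
    · subst hz
      simp [hq0, hB0, chi_zero]
    · obtain ⟨u0, hu0⟩ := hnd z hz
      rw [chi_sum_zero (fun u => B u z) (fun u u' => hBl u u' z) u0 hu0, mul_zero]
  rw [Finset.sum_congr rfl (fun z _ => h2 z)]
  simp

theorem S_shift (B : V → V → ZMod 2) (q : V → ZMod 2)
    (hq : ∀ u v, q (u + v) = q u + q v + B u v) (w : V) :
    S (fun v => q v + B v w) = chi (q w) * S q := by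
  unfold S
  have h1 : ∑ v, chi (q w) * chi (q v) = ∑ v, chi (q w) * chi (q (v + w)) :=
    (Fintype.sum_equiv (Equiv.addRight w) _ _ (fun _ => rfl)).symm
  rw [Finset.mul_sum, h1]
  apply Finset.sum_congr rfl
  intro v _
  rw [hq, ← chi_add]
  congr 1
  have := zmod2_add_self (q w)
  calc q v + B v w = (q w + q w) + (q v + B v w) := by rw [this, zero_add]
    _ = _ := by ring

omit [AddCommGroup V] in
/-- number of zeros in terms of `S` -/
theorem card_zeros (q : V → ZMod 2) :
    2 * (Nat.card {v // q v = 0} : ℤ) = Fintype.card V + S q := by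
  classical
  rw [Nat.card_eq_fintype_card, Fintype.card_subtype]
  unfold S
  have h1 : ∀ v, chi (q v) = 2 * (if q v = 0 then 1 else 0) - 1 := by
    intro v
    rcases zmod2_cases (q v) with h | h <;> simp [h, chi]
  rw [Finset.sum_congr rfl (fun v _ => h1 v), Finset.sum_sub_distrib, ← Finset.mul_sum]
  simp [Finset.sum_boole]

omit [AddCommGroup V] in
theorem card_ones (q : V → ZMod 2) :
    2 * (Nat.card {v // q v = 1} : ℤ) = Fintype.card V - S q := by
  classical
  rw [Nat.card_eq_fintype_card, Fintype.card_subtype]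
  unfold S
  have h1 : ∀ v, chi (q v) = 1 - 2 * (if q v = 1 then 1 else 0) := by
    intro v
    rcases zmod2_cases (q v) with h | h <;> simp [h, chi]
  rw [Finset.sum_congr rfl (fun v _ => h1 v), Finset.sum_sub_distrib, ← Finset.mul_sum]
  simp [Finset.sum_boole]

end Cfsg.Agent.Lib.Helper48F2Sum
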