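import Mathlib
import Cfsg.Prelude.Def_Classical
import Cfsg.Agent.Lib.Helper48F2Sum

set_option autoImplicit false

namespace Cfsg.Agent.Lib.Helper48F2Quad

open Cfsg.Agent.Lib.Helper48F2Sum

abbrev VV (m : ℕ) := Fin m ⊕ Fin m → ZMod 2

abbrev Q0 (m : ℕ) : VV m → ZMod 2 := Cfsg.quadFormPlus m (ZMod 2)

def pol (m : ℕ) (u v : VV m) : ZMod 2 := Q0 m (u + v) - Q0 m u - Q0 m v

variable {m : ℕ}

theorem pol_eq (u v : VV m) :
    pol m u v = ∑ i, (u (.inl i) * v (.inr i) + u (.inr i) * v (.inl i)) := by
  unfold pol Q0 Cfsg.quadFormPlus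
  rw [← Finset.sum_sub_distrib, ← Finset.sum_sub_distrib]
  apply Finset.sum_congr rfl
  intro i _
  simp only [Pi.add_apply]
  ring

theorem pol_add_left (u u' v : VV m) : pol m (u + u') v = pol m u v + pol m u' v := by
  rw [pol_eq, pol_eq, pol_eq, ← Finset.sum_add_distrib]
  apply Finset.sum_congr rfl
  intro i _
  simp only [Pi.add_apply]
  ring

theorem pol_comm (u v : VV m) : pol m u v = pol m v u := by
  rw [pol_eq, pol_eq]
  apply Finset.sum_congr rfl
  intro i _
  ring

theorem pol_add_right (u v v' : VV m) : pol m u (v + v') = pol m u v + pol m u v' := by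
  rw [pol_comm, pol_add_left, pol_comm v, pol_comm v']

theorem pol_smul_left (c : ZMod 2) (u v : VV m) : pol m (c • u) v = c * pol m u v := by
  rw [pol_eq, pol_eq, Finset.mul_sum]
  apply Finset.sum_congr rfl
  intro i _
  simp only [Pi.smul_apply, smul_eq_mul]
  ring

theorem pol_smul_right (c : ZMod 2) (u v : VV m) : pol m u (c • v) = c * pol m u v := by
  rw [pol_comm, pol_smul_left, pol_comm]

theorem pol_self (u : VV m) : pol m u u = 0 := by
  rw [pol_eq]
  apply Finset.sum_eq_zero
  intro i _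
  rw [mul_comm (u (.inr i))]
  exact zmod2_add_self _

theorem pol_zero_right (u : VV m) : pol m u 0 = 0 := by
  rw [pol_eq]; simp

theorem pol_zero_left (u : VV m) : pol m 0 u = 0 := by
  rw [pol_eq]; simp

theorem pol_single_inl (i : Fin m) (z : VV m) : pol m (Pi.single (.inl i) 1) z = z (.inr i) := by
  rw [pol_eq, Finset.sum_eq_single i]
  · simp
  · intro j _ hj
    simp [hj]
  · intro h; exact absurd (Finset.mem_univ i) h

theorem pol_single_inr (i : Fin m) (z : VV m) : pol m (Pi.single (.inr i) 1) z = z (.inl i) := by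
  rw [pol_eq, Finset.sum_eq_single i]
  · simp
  · intro j _ hj
    simp [hj]
  · intro h; exact absurd (Finset.mem_univ i) h

theorem pol_nondeg (z : VV m) (hz : z ≠ 0) : ∃ u, pol m u z = 1 := by
  obtain ⟨j, hj⟩ : ∃ j, z j ≠ 0 := by
    by_contra h
    push Not at h
    exact hz (funext h)
  rw [zmod2_ne_zero] at hj
  rcases j with i | i
  · exact ⟨Pi.single (.inr i) 1, by rw [pol_single_inr, hj]⟩
  · exact ⟨Pi.single (.inl i) 1, by rw [pol_single_inl, hj]⟩

/-- `q` polarizes to `pol` -/
def IsQ (m : ℕ) (q : VV m → ZMod 2) : Prop := ∀ u v, q (u + v) = q u + q v + pol m u v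

theorem isQ_Q0 : IsQ m (Q0 m) := by
  intro u v
  unfold pol
  ring

theorem IsQ.zero {q : VV m → ZMod 2} (hq : IsQ m q) : q 0 = 0 :=
  q_zero (pol m) (pol_zero_left 0) q hq

theorem IsQ.shift {q : VV m → ZMod 2} (hq : IsQ m q) (w : VV m) : IsQ m (fun v => q v + pol m v w) := by
  intro u v
  simp only
  rw [hq, pol_add_left]
  ring

theorem IsQ.S_sq {q : VV m → ZMod 2} (hq : IsQ m q) : S q ^ 2 = 2 ^ (2 * m) := by
  rw [Helper48F2Sum.S_sq (pol m) pol_add_left pol_zero_right pol_nondeg q hq]
  simp [two_mul]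

theorem IsQ.S_shift {q : VV m → ZMod 2} (hq : IsQ m q) (w : VV m) :
    S (fun v => q v + pol m v w) = chi (q w) * S q :=
  Helper48F2Sum.S_shift (pol m) q hq w

/-- `pol` as a bilinear form -/
def polB (m : ℕ) : LinearMap.BilinForm (ZMod 2) (VV m) :=
  LinearMap.mk₂ (ZMod 2) (pol m) pol_add_left (fun c u v => by rw [pol_smul_left, smul_eq_mul])
    pol_add_right (fun c u v => by rw [pol_smul_right, smul_eq_mul])

theorem polB_apply (u v : VV m) : polB m u v = pol m u v := rfl

/-- the transvection `v ↦ v + pol v w • w` as a linear map -/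
def transvL (w : VV m) : VV m →ₗ[ZMod 2] VV m where
  toFun := fun v => v + pol m v w • w
  map_add' := fun u v => by
    rw [pol_add_left, add_smul]; abel
  map_smul' := fun c v => by
    rw [pol_smul_left, RingHom.id_apply, smul_add, mul_smul]

theorem transvL_apply (w v : VV m) : transvL w v = v + pol m v w • w := rfl

/-- the transvection `v ↦ v + pol v w • w` -/
def transv (w : VV m) : VV m ≃ₗ[ZMod 2] VV m :=
  LinearEquiv.ofInvolutive (transvL w) (by
    intro v
    rw [transvL_apply, transvL_apply, pol_add_left, pol_smul_left, pol_self, mul_zero, add_zero,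
      add_assoc, ← add_smul, zmod2_add_self, zero_smul, add_zero])

theorem transv_apply (w v : VV m) : transv w v = v + pol m v w • w := rfl

theorem IsQ.transv {q : VV m → ZMod 2} (hq : IsQ m q) (w : VV m) (hw : q w = 0) (v : VV m) :
    q v + pol m v w = q (transv w v) := by
  rw [transv_apply]
  rcases zmod2_cases (pol m v w) with h | h
  · rw [h]; simp
  · rw [h, one_smul, hq, hw, h]; ring

end Cfsg.Agent.Lib.Helper48F2Quad
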