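import Mathlib
import Cfsg.Prelude.Def_Classical
import Cfsg.Agent.Lib.Helper48F2Quad

set_option autoImplicit false

namespace Cfsg.Agent.Lib.Helper48F2Type

open Cfsg.Agent.Lib.Helper48F2Sum Cfsg.Agent.Lib.Helper48F2Quad

variable {m : ℕ}

theorem S_Q0 (m : ℕ) : S (Q0 m) = 2 ^ m := by
  classical
  unfold S
  rw [← Fintype.sum_equiv (Equiv.sumArrowEquivProdArrow (Fin m) (Fin m) (ZMod 2)).symm
    (fun p => chi (∑ i, p.1 i * p.2 i)) (fun v => chi (Q0 m v)) (fun p => rfl), Fintype.sum_prod_type]
  have h : ∀ x : Fin m → ZMod 2, ∑ y : Fin m → ZMod 2, chi (∑ i, x i * y i) =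
      if x = 0 then (2 : ℤ) ^ m else 0 := by
    intro x
    split_ifs with hx
    · subst hx
      simp [chi_zero]
    · obtain ⟨j, hj⟩ : ∃ j, x j ≠ 0 := by
        by_contra h
        push Not at h
        exact hx (funext h)
      rw [zmod2_ne_zero] at hj
      apply chi_sum_zero (fun y : Fin m → ZMod 2 => ∑ i, x i * y i) _ (Pi.single j 1)
      · simp [Pi.single_apply, hj]
      · intro u u'
        rw [← Finset.sum_add_distrib]
        apply Finset.sum_congr rfl
        intro i _
        simp only [Pi.add_apply]; ring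
  simp only [h]
  simp

/-- the form `Q0 + pol · w` -/
def qw (w : VV m) : VV m → ZMod 2 := fun v => Q0 m v + pol m v w

theorem isQ_qw (w : VV m) : IsQ m (qw w) := isQ_Q0.shift w

theorem S_qw (w : VV m) : S (qw w) = chi (Q0 m w) * 2 ^ m := by
  unfold qw
  rw [isQ_Q0.S_shift, S_Q0]

theorem qw_injective : Function.Injective (qw (m := m)) := by
  intro w w' h
  by_contra hne
  obtain ⟨u, hu⟩ := pol_nondeg (w - w') (sub_ne_zero.mpr hne)
  have h1 := congrFun h u
  unfold qw at h1
  have h2 : pol m u w = pol m u w' := add_left_cancel h1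
  have h3 : pol m u w = pol m u (w - w') + pol m u w' := by
    rw [← pol_add_right, sub_add_cancel]
  rw [hu, h2] at h3
  have : (1 : ZMod 2) = 0 := by
    have h4 : pol m u w' + 0 = 1 + pol m u w' := by rw [add_zero]; exact h3
    rw [add_comm 1] at h4
    exact (add_left_cancel h4).symm
  exact absurd this (by decide)

theorem additive_repr (l : VV m → ZMod 2) (hl : ∀ u v, l (u + v) = l u + l v) :
    ∃ w : VV m, ∀ v, l v = pol m v w := by
  classical
  have hl0 : l 0 = 0 := by
    have := hl 0 0
    rw [add_zero] at this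
    exact left_eq_add.mp this
  let w : VV m := fun j => match j with
    | .inl i => l (Pi.single (.inr i) 1)
    | .inr i => l (Pi.single (.inl i) 1)
  refine ⟨w, ?_⟩
  let L : VV m →+ ZMod 2 := { toFun := l, map_zero' := hl0, map_add' := hl }
  let P : VV m →+ ZMod 2 :=
    { toFun := fun v => pol m v w, map_zero' := pol_zero_left w, map_add' := fun u v => pol_add_left u v w }
  have : L = P := by
    apply AddMonoidHom.functions_ext
    intro j x
    rcases zmod2_cases x with rfl | rfl
    · simp
    · change l (Pi.single j 1) = pol m (Pi.single j 1) w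
      rcases j with i | i
      · rw [pol_single_inl]
      · rw [pol_single_inr]
  intro v
  exact congrArg (fun f : VV m →+ ZMod 2 => f v) this

theorem exists_qw (q : VV m → ZMod 2) (hq : IsQ m q) : ∃ w, q = qw w := by
  obtain ⟨w, hw⟩ := additive_repr (fun v => q v - Q0 m v) (by
    intro u v
    rw [hq, isQ_Q0 u v]; ring)
  refine ⟨w, ?_⟩
  funext v
  unfold qw
  rw [← hw v]; ring

theorem card_param (P : (VV m → ZMod 2) → Prop) (R : VV m → Prop) (h : ∀ w, P (qw w) ↔ R w) :
    Nat.card {q // IsQ m q ∧ P q} = Nat.card {w // R w} := by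
  symm
  apply Nat.card_congr
  refine Equiv.ofBijective (fun w => ⟨qw w.1, isQ_qw w.1, (h w.1).mpr w.2⟩) ⟨?_, ?_⟩
  · intro w w' hww
    exact Subtype.ext (qw_injective (congrArg Subtype.val hww))
  · rintro ⟨q, hq, hP⟩
    obtain ⟨w, rfl⟩ := exists_qw q hq
    exact ⟨⟨w, (h w).mp hP⟩, rfl⟩

end Cfsg.Agent.Lib.Helper48F2Type
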