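import Mathlib
import Cfsg.Prelude.Def_Classical
import Cfsg.Agent.Lib.Helper48F2Type

set_option autoImplicit false

namespace Cfsg.Agent.Lib.Helper48F2Minus

open Cfsg.Agent.Lib.Helper48F2Sum Cfsg.Agent.Lib.Helper48F2Quad Cfsg.Agent.Lib.Helper48F2Type

abbrev VM (k : ℕ) := (Fin k ⊕ Fin k) ⊕ Fin 2 → ZMod 2

abbrev Qm (k : ℕ) : VM k → ZMod 2 := Cfsg.quadFormMinus k (ZMod 2) 1 1

def idx (k : ℕ) : (Fin k ⊕ Fin k) ⊕ Fin 2 ≃ Fin (k + 1) ⊕ Fin (k + 1) where
  toFun := Sum.elim (Sum.elim (fun i => .inl i.succ) (fun i => .inr i.succ))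
    (fun b : Fin 2 => if b = 0 then .inl 0 else .inr 0)
  invFun := Sum.elim (fun i => Fin.cases (.inr 0) (fun i' => .inl (.inl i')) i)
    (fun i => Fin.cases (.inr 1) (fun i' => .inl (.inr i')) i)
  left_inv := by
    rintro ((i | i) | b)
    · simp
    · simp
    · fin_cases b <;> simp
  right_inv := by
    rintro (i | i)
    · refine Fin.cases ?_ (fun i' => ?_) i <;> simp
    · refine Fin.cases ?_ (fun i' => ?_) i <;> simp

def hEq (k : ℕ) : VV (k + 1) ≃ₗ[ZMod 2] VM k := LinearEquiv.funCongrLeft (ZMod 2) (ZMod 2) (idx k)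

theorem hEq_apply (k : ℕ) (v : VV (k + 1)) (j : (Fin k ⊕ Fin k) ⊕ Fin 2) : hEq k v j = v (idx k j) := rfl

def w1 (k : ℕ) : VV (k + 1) := Pi.single (.inl 0) 1 + Pi.single (.inr 0) 1

theorem Q0_w1 (k : ℕ) : Q0 (k + 1) (w1 k) = 1 := by
  unfold Q0 Cfsg.quadFormPlus w1
  rw [Finset.sum_eq_single 0]
  · simp
  · intro i _ hi
    simp [hi]
  · intro h; exact absurd (Finset.mem_univ _) h

theorem pol_w1 (k : ℕ) (v : VV (k + 1)) : pol (k + 1) v (w1 k) = v (.inr 0) + v (.inl 0) := by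
  rw [pol_comm]
  unfold w1
  rw [pol_add_left, pol_single_inl, pol_single_inr]

theorem qw_w1 (k : ℕ) (v : VV (k + 1)) : qw (w1 k) v = Qm k (hEq k v) := by
  unfold qw Qm Cfsg.quadFormMinus Q0 Cfsg.quadFormPlus
  rw [pol_w1, Fin.sum_univ_succ]
  simp only [hEq_apply]
  have e1 : ∀ i : Fin k, idx k (.inl (.inl i)) = .inl i.succ := fun i => rfl
  have e2 : ∀ i : Fin k, idx k (.inl (.inr i)) = .inr i.succ := fun i => rfl
  have e3 : idx k (.inr 0) = .inl 0 := rfl
  have e4 : idx k (.inr 1) = .inr 0 := rfl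
  simp only [e1, e2, e3, e4]
  have a1 := zmod2_mul_self (v (.inl 0))
  have a2 := zmod2_mul_self (v (.inr 0))
  rw [sq, sq, a1, a2]
  ring

theorem S_Qm (k : ℕ) : S (Qm k) = - 2 ^ (k + 1) := by
  have h1 : S (qw (w1 k)) = S (Qm k) := by
    have : qw (w1 k) = fun v => Qm k (hEq k v) := funext (qw_w1 k)
    rw [this]
    exact S_comp_equiv (Qm k) (hEq k).toEquiv
  rw [← h1, S_qw, Q0_w1, chi_one]; ring

def IsPlus (m : ℕ) (q : VV m → ZMod 2) : Prop := ∃ g : VV m ≃ₗ[ZMod 2] VV m, ∀ v, q v = Q0 m (g v)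

def IsMinus (k : ℕ) (q : VV (k + 1) → ZMod 2) : Prop :=
  ∃ g : VV (k + 1) ≃ₗ[ZMod 2] VM k, ∀ v, q v = Qm k (g v)

theorem two_pow_ne (m : ℕ) : (2 : ℤ) ^ m ≠ 0 := pow_ne_zero _ (by norm_num)

theorem isPlus_iff {m : ℕ} (w : VV m) : IsPlus m (qw w) ↔ Q0 m w = 0 := by
  constructor
  · rintro ⟨g, hg⟩
    have h1 : S (qw w) = S (Q0 m) := by
      have : qw w = fun v => Q0 m (g v) := funext hg
      rw [this]
      exact S_comp_equiv (Q0 m) g.toEquiv
    rw [S_qw, S_Q0] at h1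
    have h2 : chi (Q0 m w) = 1 := by
      have : (chi (Q0 m w) - 1) * 2 ^ m = 0 := by rw [sub_mul, h1]; ring
      rcases mul_eq_zero.mp this with h | h
      · omega
      · exact absurd h (two_pow_ne m)
    exact (chi_eq_one_iff _).mp h2
  · intro hw
    exact ⟨transv w, isQ_Q0.transv w hw⟩

theorem isMinus_iff {k : ℕ} (w : VV (k + 1)) : IsMinus k (qw w) ↔ Q0 (k + 1) w = 1 := by
  constructor
  · rintro ⟨g, hg⟩
    have h1 : S (qw w) = S (Qm k) := by
      have : qw w = fun v => Qm k (g v) := funext hg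
      rw [this]
      exact S_comp_equiv (Qm k) g.toEquiv
    rw [S_qw, S_Qm] at h1
    have h2 : chi (Q0 (k + 1) w) = -1 := by
      have : (chi (Q0 (k + 1) w) + 1) * 2 ^ (k + 1) = 0 := by rw [add_mul, h1]; ring
      rcases mul_eq_zero.mp this with h | h
      · omega
      · exact absurd h (two_pow_ne _)
    exact (chi_eq_neg_one_iff _).mp h2
  · intro hw
    have hQ1 : IsQ (k + 1) (qw (w1 k)) := isQ_qw _
    have h0 : qw (w1 k) (w + w1 k) = 0 := by
      unfold qw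
      rw [isQ_Q0 w (w1 k), hw, Q0_w1, pol_add_left, pol_self, add_zero]
      have := zmod2_add_self (pol (k + 1) w (w1 k))
      calc (1 : ZMod 2) + 1 + pol (k + 1) w (w1 k) + pol (k + 1) w (w1 k)
          = (1 + 1) + (pol (k + 1) w (w1 k) + pol (k + 1) w (w1 k)) := by ring
        _ = 0 := by rw [this]; decide
    refine ⟨(transv (w + w1 k)).trans (hEq k), ?_⟩
    intro v
    rw [LinearEquiv.trans_apply, ← qw_w1, ← hQ1.transv _ h0]
    unfold qw
    rw [pol_add_right]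
    have := zmod2_add_self (pol (k + 1) v (w1 k))
    calc Q0 (k + 1) v + pol (k + 1) v w
        = Q0 (k + 1) v + pol (k + 1) v w + (pol (k + 1) v (w1 k) + pol (k + 1) v (w1 k)) := by
          rw [this, add_zero]
      _ = _ := by ring

end Cfsg.Agent.Lib.Helper48F2Minus
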