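import Mathlib
import Cfsg.Prelude.Def_Classical
import Cfsg.Prelude.Def_ClassicalGeometry
import Cfsg.Prelude.Def_GeometricClasses
import Cfsg.Agent.Lib.Helper49Orth
import Cfsg.Agent.Lib.Helper49Fam
import Cfsg.Agent.Lib.Helper49Trans
import Cfsg.Agent.Lib.Helper49Eich

/-!
# Bridge between the `Cfsg.Geo` vocabulary and the `Helper49` orthogonal library
-/

set_option autoImplicit false
set_option linter.unusedSectionVars false

namespace Cfsg.Agent.Lib.Helper49Bridge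

open scoped Matrix
open Module
open Cfsg.Agent.Lib.Helper49Orth Cfsg.Agent.Lib.Helper18Hyp
  Cfsg.Agent.Lib.Helper49Eich Cfsg.Agent.Lib.Helper49Fam Cfsg.Agent.Lib.Helper49Trans

variable {F : Type*} [Field F]
variable {ι : Type} [Fintype ι] [DecidableEq ι]

/-- The Mathlib quadratic form attached to a `Geo.IsNondegenerateQuadraticForm`. -/
noncomputable def toQF {Q : (ι → F) → F} (hQ : Cfsg.Geo.IsNondegenerateQuadraticForm Q) :
    QuadraticForm F (ι → F) where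
  toFun := Q
  toFun_smul c v := by rw [hQ.smul, smul_eq_mul, pow_two]
  exists_companion' := ⟨LinearMap.mk₂ F (QuadraticMap.polar Q) hQ.polar_bilinear.add_left
    hQ.polar_bilinear.smul_left hQ.polar_bilinear.add_right hQ.polar_bilinear.smul_right,
    fun x y => by
      rw [LinearMap.mk₂_apply, QuadraticMap.polar]
      ring⟩

theorem coe_toQF {Q : (ι → F) → F} (hQ : Cfsg.Geo.IsNondegenerateQuadraticForm Q) :
    ⇑(toQF hQ) = Q := rfl

theorem toQF_nondegenerate {Q : (ι → F) → F} (hQ : Cfsg.Geo.IsNondegenerateQuadraticForm Q) :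
    (QuadraticMap.polarBilin (toQF hQ)).Nondegenerate := by
  constructor
  · intro x hx
    by_contra h0
    obtain ⟨-, y, hy⟩ := hQ.nondegenerate x h0
    exact hy (hx y)
  · intro x hx
    by_contra h0
    obtain ⟨⟨y, hy⟩, -⟩ := hQ.nondegenerate x h0
    exact hy (hx y)

variable (Q : QuadraticForm F (ι → F))

theorem coe_mem_subspaceStabilizer_iff (W : Submodule F (ι → F))
    (g : ↥(Cfsg.isometryGroup F ⇑Q)) :
    (g : Matrix.GeneralLinearGroup ι F) ∈ Cfsg.Geo.subspaceStabilizer W ↔ g ∈ stab Q W := by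
  constructor
  · intro h
    exact mem_stab_of_le Q fun x hx => (h x).1 hx
  · intro h v
    rw [mem_stab] at h
    constructor
    · intro hv
      change _ ∈ W
      rw [← h]
      exact (mem_img Q).2 ⟨v, hv, rfl⟩
    · intro hv
      change _ ∈ W at hv
      rw [← h] at hv
      obtain ⟨x, hx, hxv⟩ := (mem_img Q).1 hv
      have : x = v := by
        have h1 := inv_mulVec_mulVec Q g x
        have h2 := inv_mulVec_mulVec Q g v
        change ((g : Matrix.GeneralLinearGroup ι F) : Matrix ι ι F) *ᵥ x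
          = ((g : Matrix.GeneralLinearGroup ι F) : Matrix ι ι F) *ᵥ v at hxv
        rw [hxv] at h1
        exact h1.symm.trans h2
      rw [← this]
      exact hx

theorem coe_mem_omegaGL_iff (g : ↥(Cfsg.isometryGroup F ⇑Q)) :
    (g : Matrix.GeneralLinearGroup ι F) ∈ Cfsg.Geo.omegaGL ⇑Q ↔ g ∈ Cfsg.Omega F ⇑Q := by
  unfold Cfsg.Geo.omegaGL
  rw [Subgroup.mem_map]
  constructor
  · rintro ⟨x, hx, hxg⟩
    have : x = g := Subtype.ext hxg
    rwa [← this]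
  · intro h
    exact ⟨g, h, rfl⟩

theorem exists_of_mem_omegaGL {x : Matrix.GeneralLinearGroup ι F}
    (hx : x ∈ Cfsg.Geo.omegaGL ⇑Q) :
    ∃ g : ↥(Cfsg.isometryGroup F ⇑Q), g ∈ Cfsg.Omega F ⇑Q ∧
      (g : Matrix.GeneralLinearGroup ι F) = x := by
  unfold Cfsg.Geo.omegaGL at hx
  rw [Subgroup.mem_map] at hx
  obtain ⟨g, hg, hgx⟩ := hx
  exact ⟨g, hg, hgx⟩

/-- Transfer of maximality to the `Geo` vocabulary. -/
theorem isMaximalIn_omegaGL (S : Subgroup (Matrix.GeneralLinearGroup ι F))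
    (S' : Subgroup ↥(Cfsg.isometryGroup F ⇑Q))
    (hS : ∀ g : ↥(Cfsg.isometryGroup F ⇑Q), (g : Matrix.GeneralLinearGroup ι F) ∈ S ↔ g ∈ S')
    (h1 : ¬ Cfsg.Omega F ⇑Q ≤ S')
    (h2 : ∀ M : Subgroup ↥(Cfsg.isometryGroup F ⇑Q), S' ⊓ Cfsg.Omega F ⇑Q ≤ M → ¬ M ≤ S' →
      Cfsg.Omega F ⇑Q ≤ M) :
    Cfsg.Geo.IsMaximalIn (Cfsg.Geo.omegaGL ⇑Q) (S ⊓ Cfsg.Geo.omegaGL ⇑Q) := by
  refine ⟨lt_of_le_not_ge inf_le_right ?_, ?_⟩
  · intro hle
    apply h1
    intro g hg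
    exact (hS g).1 (hle ((coe_mem_omegaGL_iff Q g).2 hg)).1
  · intro M hHM hMK
    set M' : Subgroup ↥(Cfsg.isometryGroup F ⇑Q) :=
      M.comap (Cfsg.isometryGroup F ⇑Q).subtype with hM'
    have h3 : S' ⊓ Cfsg.Omega F ⇑Q ≤ M' := by
      intro g hg
      rw [hM', Subgroup.mem_comap]
      exact hHM ⟨(hS g).2 hg.1, (coe_mem_omegaGL_iff Q g).2 hg.2⟩
    by_cases h4 : M' ≤ S'
    · left
      apply le_antisymm _ hHM
      intro x hx
      obtain ⟨g, hg, rfl⟩ := exists_of_mem_omegaGL Q (hMK hx)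
      exact ⟨(hS g).2 (h4 hx), hMK hx⟩
    · right
      apply le_antisymm hMK
      intro x hx
      obtain ⟨g, hg, rfl⟩ := exists_of_mem_omegaGL Q hx
      exact h2 M' h3 h4 hg

/-- Transfer of non-maximality to the `Geo` vocabulary. -/
theorem exists_between_omegaGL (S : Subgroup (Matrix.GeneralLinearGroup ι F))
    (S' T' : Subgroup ↥(Cfsg.isometryGroup F ⇑Q))
    (hS : ∀ g : ↥(Cfsg.isometryGroup F ⇑Q), g ∈ Cfsg.Omega F ⇑Q →
      ((g : Matrix.GeneralLinearGroup ι F) ∈ S ↔ g ∈ S'))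
    (h1 : S' ⊓ Cfsg.Omega F ⇑Q ≤ T')
    (h2 : ∃ g ∈ Cfsg.Omega F ⇑Q, g ∈ T' ∧ g ∉ S')
    (h3 : ∃ g ∈ Cfsg.Omega F ⇑Q, g ∉ T') :
    ∃ K : Subgroup (Matrix.GeneralLinearGroup ι F),
      S ⊓ Cfsg.Geo.omegaGL ⇑Q < K ∧ K < Cfsg.Geo.omegaGL ⇑Q := by
  refine ⟨(T' ⊓ Cfsg.Omega F ⇑Q).map (Cfsg.isometryGroup F ⇑Q).subtype, ?_, ?_⟩
  · apply lt_of_le_not_ge
    · rintro x ⟨hxS, hx⟩
      obtain ⟨g, hg, rfl⟩ := exists_of_mem_omegaGL Q hx
      exact Subgroup.mem_map.2 ⟨g, ⟨h1 ⟨(hS g hg).1 hxS, hg⟩, hg⟩, rfl⟩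
    · intro hle
      obtain ⟨g, hg, hgT, hgS⟩ := h2
      apply hgS
      exact (hS g hg).1 (hle (Subgroup.mem_map.2 ⟨g, ⟨hgT, hg⟩, rfl⟩)).1
  · apply lt_of_le_not_ge
    · exact Subgroup.map_mono inf_le_right
    · intro hle
      obtain ⟨g, hg, hgT⟩ := h3
      apply hgT
      obtain ⟨x, hx, hxg⟩ := Subgroup.mem_map.1 (hle ((coe_mem_omegaGL_iff Q g).2 hg))
      have : x = g := Subtype.ext hxg
      rw [← this]
      exact hx.1

end Cfsg.Agent.Lib.Helper49Bridge
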