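import Mathlib
import Cfsg.Prelude.Def_Classical
import Cfsg.Prelude.Def_ClassicalGeometry
import Cfsg.Agent.Lib.Helper49Orth
import Cfsg.Agent.Lib.Helper49Hyp
import Cfsg.Agent.Lib.Helper49Eich
import Cfsg.Agent.Lib.Helper49Geo
import Cfsg.Agent.Lib.Helper49EichGen

set_option autoImplicit false
set_option linter.unusedSectionVars false

namespace Cfsg.Agent.Lib.Helper49Perfect

open scoped Matrix commutatorElement
open Module
open Cfsg.Agent.Lib.Helper49Orth Cfsg.Agent.Lib.Helper49Hyp Cfsg.Agent.Lib.Helper18Hyp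
  Cfsg.Agent.Lib.Helper49Eich Cfsg.Agent.Lib.Helper49Geo Cfsg.Agent.Lib.Helper49EichGen

variable {F : Type*} [Field F]
variable {ι : Type} [Fintype ι] [DecidableEq ι] (Q : QuadraticForm F (ι → F))

local notation "𝐁" => QuadraticMap.polar (DFunLike.coe Q)
local notation:max W "ᗮ" => LinearMap.BilinForm.orthogonal (QuadraticMap.polarBilin Q) W

theorem E_zero_left (w : ι → F) : E Q 0 w = 1 := by
  apply ext_mulVec
  intro x
  rw [E_apply Q (map_zero Q) (by simp), one_mulVec']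
  simp

/-- Commutator of two Eichler transformations. -/
theorem comm_E_E {e a z w : ι → F} (he : Q e = 0) (ha : Q a = 0) (hea : 𝐁 e a = 0)
    (haz : 𝐁 a z = 0) (hez : 𝐁 e z = 0) (hew : 𝐁 e w = 0) (haw : 𝐁 a w = 0) :
    ⁅E Q a z, E Q e w⁆ = E Q e (𝐁 w z • a) := by
  have h1 : (((E Q a z : ↥(Cfsg.isometryGroup F ⇑Q)) : Matrix.GeneralLinearGroup ι F) :
      Matrix ι ι F) *ᵥ e = e := by
    rw [E_apply Q ha haz, hez, hea]
    simp
  have h2 : (((E Q a z : ↥(Cfsg.isometryGroup F ⇑Q)) : Matrix.GeneralLinearGroup ι F) :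
      Matrix ι ι F) *ᵥ w = w + 𝐁 w z • a := by
    rw [E_apply Q ha haz, QuadraticMap.polar_comm ⇑Q w a, haw]
    simp
  have h3 : 𝐁 e (w + 𝐁 w z • a) = 0 := by
    rw [QuadraticMap.polar_add_right, QuadraticMap.polar_smul_right, hew, hea]
    simp
  rw [commutatorElement_def, E_conj Q _ he hew, h1, h2, E_inv Q he hew,
    E_mul Q he h3 (by rw [QuadraticMap.polar_neg_right, hew, neg_zero])]
  congr 1
  abel

variable [Fintype F]

theorem E_mem_comm (hQ : (QuadraticMap.polarBilin Q).Nondegenerate)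
    (hn : 5 ≤ Fintype.card ι) {e w : ι → F} (he : Q e = 0) (hw : 𝐁 e w = 0) :
    E Q e w ∈ ⁅Cfsg.Omega F ⇑Q, Cfsg.Omega F ⇑Q⁆ := by
  -- singular case
  have hsing : ∀ a, Q a = 0 → 𝐁 e a = 0 → E Q e a ∈ ⁅Cfsg.Omega F ⇑Q, Cfsg.Omega F ⇑Q⁆ := by
    intro a ha hea
    obtain ⟨w, hwS, z, hzS, hwz⟩ := exists_polar_ne_zero_orth Q hQ (S := Submodule.span F {e, a})
      (by have := finrank_span_pair_le e a; omega)
    rw [mem_orth_span_pair] at hwS hzS
    have h1 := comm_E_E Q (w := (𝐁 w z)⁻¹ • w) he ha hea hzS.2 hzS.1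
      (by rw [QuadraticMap.polar_smul_right, hwS.1, smul_zero])
      (by rw [QuadraticMap.polar_smul_right, hwS.2, smul_zero])
    rw [QuadraticMap.polar_smul_left, smul_eq_mul, inv_mul_cancel₀ hwz, one_smul] at h1
    rw [← h1]
    exact Subgroup.commutator_mem_commutator (E_mem_Omega Q hQ hn ha hzS.2)
      (E_mem_Omega Q hQ hn he (by rw [QuadraticMap.polar_smul_right, hwS.1, smul_zero]))
  by_cases hQw : Q w = 0
  · exact hsing w hQw hw
  · by_cases he0 : e = 0
    · subst he0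
      rw [E_zero_left]
      exact one_mem _
    · obtain ⟨a, b, ha, hb, hea, heb, rfl⟩ := exists_singular_add Q hQ hn he0 he hw hQw
      rw [← E_mul Q he hea heb]
      exact Subgroup.mul_mem _ (hsing a ha hea) (hsing b hb heb)

theorem Omega_comm_eq (hQ : (QuadraticMap.polarBilin Q).Nondegenerate)
    (hn : 5 ≤ Fintype.card ι) :
    ⁅Cfsg.Omega F ⇑Q, Cfsg.Omega F ⇑Q⁆ = Cfsg.Omega F ⇑Q := by
  apply le_antisymm
  · exact Subgroup.commutator_le_left _ _
  · conv_lhs => rw [Omega_eq_TT Q hQ hn]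
    unfold TT
    rw [Subgroup.closure_le]
    rintro _ ⟨e, w, he, hw, rfl⟩
    exact E_mem_comm Q hQ hn he hw

/-- `Ω` is perfect. -/
theorem Omega_perfect (hQ : (QuadraticMap.polarBilin Q).Nondegenerate)
    (hn : 5 ≤ Fintype.card ι) : commutator ↥(Cfsg.Omega F ⇑Q) = ⊤ := by
  apply Subgroup.map_injective (Subgroup.subtype_injective (Cfsg.Omega F ⇑Q))
  rw [Subgroup.map_subtype_commutator, Omega_comm_eq Q hQ hn, ← MonoidHom.range_eq_map,
    Subgroup.range_subtype]

end Cfsg.Agent.Lib.Helper49Perfect
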