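import Mathlib
import Cfsg.Prelude.Def_Classical
import Cfsg.Prelude.Def_ClassicalGeometry
import Cfsg.Agent.Lib.Helper49Orth
import Cfsg.Agent.Lib.Helper49Hyp
import Cfsg.Agent.Lib.Helper49Fam
import Cfsg.Agent.Lib.Helper49Trans
import Cfsg.Agent.Lib.Helper49Eich
import Cfsg.Agent.Lib.Helper49Geo
import Cfsg.Agent.Lib.Helper49EichGen

set_option autoImplicit false
set_option linter.unusedSectionVars false

namespace Cfsg.Agent.Lib.Helper49Prim

open scoped Matrix Pointwise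
open Module MulAction
open Cfsg.Agent.Lib.Helper49Orth Cfsg.Agent.Lib.Helper49Hyp Cfsg.Agent.Lib.Helper18Hyp
  Cfsg.Agent.Lib.Helper49Eich Cfsg.Agent.Lib.Helper49Geo Cfsg.Agent.Lib.Helper49EichGen
  Cfsg.Agent.Lib.Helper49Fam Cfsg.Agent.Lib.Helper49Trans Cfsg.Agent.Lib.Helper49CharTwoA

variable {F : Type*} [Field F]
variable {ι : Type} [Fintype ι] [DecidableEq ι] (Q : QuadraticForm F (ι → F))

local notation "𝐁" => QuadraticMap.polar (DFunLike.coe Q)
local notation:max W "ᗮ" => LinearMap.BilinForm.orthogonal (QuadraticMap.polarBilin Q) W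

/-- The singular points. -/
def SPt : Type _ := {P : Submodule F (ι → F) // finrank F P = 1 ∧ TS Q P}

noncomputable instance : MulAction ↥(Cfsg.isometryGroup F ⇑Q) (SPt Q) where
  smul g P := ⟨img Q g P.1, by rw [finrank_img]; exact P.2.1, TS_img Q g P.2.2⟩
  one_smul P := Subtype.ext (img_one Q P.1)
  mul_smul g h P := Subtype.ext (img_mul Q g h P.1)

theorem smul_val (g : ↥(Cfsg.isometryGroup F ⇑Q)) (P : SPt Q) : (g • P).1 = img Q g P.1 := rfl

/-- The point spanned by a nonzero singular vector. -/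
def mkPt {e : ι → F} (he0 : e ≠ 0) (he : Q e = 0) : SPt Q :=
  ⟨Submodule.span F {e}, finrank_span_singleton he0, ts_span he⟩

theorem exists_rep (P : SPt Q) : ∃ (e : ι → F) (he0 : e ≠ 0) (he : Q e = 0), P = mkPt Q he0 he := by
  obtain ⟨v, hv0, hv⟩ := finrank_eq_one_iff'.1 P.2.1
  refine ⟨v, fun h => hv0 (Subtype.ext h), P.2.2 v v.2, ?_⟩
  apply Subtype.ext
  change P.1 = Submodule.span F {(v : ι → F)}
  apply le_antisymm
  · intro x hx
    obtain ⟨c, hc⟩ := hv ⟨x, hx⟩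
    rw [Submodule.mem_span_singleton]
    exact ⟨c, congrArg Subtype.val hc⟩
  · rw [Submodule.span_singleton_le_iff_mem]
    exact v.2

theorem img_span_singleton (g : ↥(Cfsg.isometryGroup F ⇑Q)) (e : ι → F) :
    img Q g (Submodule.span F {e})
      = Submodule.span F {((g : Matrix.GeneralLinearGroup ι F) : Matrix ι ι F) *ᵥ e} := by
  unfold img
  rw [Submodule.map_span, Set.image_singleton]
  rfl

theorem mkPt_eq_iff {e e' : ι → F} (he0 : e ≠ 0) (he : Q e = 0) (he'0 : e' ≠ 0) (he' : Q e' = 0) :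
    mkPt Q he0 he = mkPt Q he'0 he' ↔ e' ∈ Submodule.span F {e} := by
  constructor
  · intro h
    have h1 : Submodule.span F {e} = Submodule.span F {e'} := congrArg Subtype.val h
    rw [h1]
    exact Submodule.mem_span_singleton_self e'
  · intro h
    apply Subtype.ext
    change Submodule.span F {e} = Submodule.span F {e'}
    symm
    apply Submodule.eq_of_le_of_finrank_eq
    · rw [Submodule.span_singleton_le_iff_mem]; exact h
    · rw [finrank_span_singleton he0, finrank_span_singleton he'0]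

theorem smul_mkPt_eq (g : ↥(Cfsg.isometryGroup F ⇑Q)) {e e' : ι → F} (he0 : e ≠ 0) (he : Q e = 0)
    (he'0 : e' ≠ 0) (he' : Q e' = 0)
    (h : ((g : Matrix.GeneralLinearGroup ι F) : Matrix ι ι F) *ᵥ e = e') :
    g • mkPt Q he0 he = mkPt Q he'0 he' := by
  apply Subtype.ext
  change img Q g (Submodule.span F {e}) = Submodule.span F {e'}
  rw [img_span_singleton, h]

variable [Fintype F]

section Block

variable (hQ : (QuadraticMap.polarBilin Q).Nondegenerate) (hn : 5 ≤ Fintype.card ι)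
  {B : Set (SPt Q)} (hB : IsBlock ↥(Cfsg.Omega F ⇑Q) B)
include hQ hn hB

theorem block_step {g : ↥(Cfsg.isometryGroup F ⇑Q)} (hg : g ∈ Cfsg.Omega F ⇑Q) {P P' : SPt Q}
    (hP : P ∈ B) (hgP : g • P = P) (hP' : P' ∈ B) : g • P' ∈ B := by
  have h1 : (⟨g, hg⟩ : ↥(Cfsg.Omega F ⇑Q)) • B = B :=
    hB.smul_eq_of_mem hP (by
      change g • P ∈ B
      rw [hgP]; exact hP)
  rw [← h1]
  exact Set.smul_mem_smul_set (a := (⟨g, hg⟩ : ↥(Cfsg.Omega F ⇑Q))) hP'

theorem block_P1 {e f f' : ι → F} (he0 : e ≠ 0) (he : Q e = 0) (hf0 : f ≠ 0) (hf : Q f = 0)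
    (hf'0 : f' ≠ 0) (hf' : Q f' = 0) (hef : 𝐁 e f ≠ 0) (hef' : 𝐁 e f' ≠ 0)
    (h1 : mkPt Q he0 he ∈ B) (h2 : mkPt Q hf0 hf ∈ B) : mkPt Q hf'0 hf' ∈ B := by
  set c := 𝐁 e f / 𝐁 e f' with hc
  have hc0 : c ≠ 0 := div_ne_zero hef hef'
  have hcf'0 : c • f' ≠ 0 := smul_ne_zero hc0 hf'0
  have hcf' : Q (c • f') = 0 := by rw [QuadraticMap.map_smul, hf', smul_zero]
  have heq : mkPt Q hf'0 hf' = mkPt Q hcf'0 hcf' := by
    rw [mkPt_eq_iff]
    exact Submodule.smul_mem _ _ (Submodule.mem_span_singleton_self f')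
  rw [heq]
  have hd : 𝐁 e (c • f' - f) = 0 := by
    rw [QuadraticMap.polar_sub_right, QuadraticMap.polar_smul_right, hc, smul_eq_mul,
      div_mul_cancel₀ _ hef', sub_self]
  have hfe : 𝐁 f e ≠ 0 := by rw [QuadraticMap.polar_comm]; exact hef
  have hmove := E_move Q he (hf.trans hcf'.symm) hd hfe
  have hw : 𝐁 e (-(𝐁 f e)⁻¹ • (c • f' - f)) = 0 := by
    rw [QuadraticMap.polar_smul_right, hd, smul_zero]
  have h3 := block_step Q hQ hn hB (E_mem_Omega Q hQ hn he hw) h1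
    (smul_mkPt_eq Q _ he0 he he0 he (by
      rw [E_apply Q he hw, hw, polar_self_of_singular Q he]; simp)) h2
  rwa [smul_mkPt_eq Q _ hf0 hf hcf'0 hcf' hmove] at h3

theorem block_P2 {e f : ι → F} (he0 : e ≠ 0) (he : Q e = 0) (hf0 : f ≠ 0) (hf : Q f = 0)
    (hef : 𝐁 e f ≠ 0) (h1 : mkPt Q he0 he ∈ B) (h2 : mkPt Q hf0 hf ∈ B) : B = Set.univ := by
  rw [Set.eq_univ_iff_forall]
  intro P
  obtain ⟨p, hp0, hp, rfl⟩ := exists_rep Q P
  by_cases hep : 𝐁 e p = 0
  · obtain ⟨y, hey, hpy⟩ := exists_polar_ne_zero_two Q hQ he0 hp0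
    have hye : 𝐁 y e ≠ 0 := by rw [QuadraticMap.polar_comm]; exact hey
    set y' := y + (- Q y / 𝐁 y e) • e with hy'
    have hQy' : Q y' = 0 := by
      rw [hy', Q_add_smul', he]
      field_simp
      ring
    have hey' : 𝐁 e y' ≠ 0 := by
      rw [hy', QuadraticMap.polar_add_right, QuadraticMap.polar_smul_right,
        polar_self_of_singular Q he]
      simpa using hey
    have hpy' : 𝐁 p y' ≠ 0 := by
      rw [hy', QuadraticMap.polar_add_right, QuadraticMap.polar_smul_right,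
        QuadraticMap.polar_comm ⇑Q p e, hep]
      simpa using hpy
    have hy'0 : y' ≠ 0 := by
      intro h
      rw [h] at hey'
      simp at hey'
    have h3 := block_P1 Q hQ hn hB he0 he hf0 hf hy'0 hQy' hef hey' h1 h2
    exact block_P1 Q hQ hn hB hy'0 hQy' he0 he hp0 hp
      (by rw [QuadraticMap.polar_comm]; exact hey') (by rw [QuadraticMap.polar_comm]; exact hpy')
      h3 h1
  · exact block_P1 Q hQ hn hB he0 he hf0 hf hp0 hp hef hep h1 h2

theorem block_P3 {e e' : ι → F} (he0 : e ≠ 0) (he : Q e = 0) (he'0 : e' ≠ 0) (he' : Q e' = 0)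
    (hne : mkPt Q he0 he ≠ mkPt Q he'0 he') (h1 : mkPt Q he0 he ∈ B) (h2 : mkPt Q he'0 he' ∈ B) :
    B = Set.univ := by
  by_cases hee' : 𝐁 e e' = 0
  · have hex : ∃ x, 𝐁 e x = 0 ∧ 𝐁 e' x ≠ 0 := by
      by_contra hcon
      apply hne
      rw [mkPt_eq_iff]
      apply mem_span_of_orth Q hQ
      intro y hy
      by_contra hne'
      exact hcon ⟨y, hy, hne'⟩
    obtain ⟨a, ha, hea, he'a⟩ := exists_singular_perp Q hQ hn he0 hex
    obtain ⟨w, hwS, hw⟩ := exists_nonsingular_orth Q hQ (S := Submodule.span F {a, e})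
      (by have := finrank_span_pair_le a e; omega)
    rw [mem_orth_span_pair] at hwS
    set g := E Q a w with hg
    have hge : ((g : Matrix.GeneralLinearGroup ι F) : Matrix ι ι F) *ᵥ e = e := by
      rw [hg, E_apply Q ha hwS.1, hwS.2, hea]
      simp
    set e'' := ((g : Matrix.GeneralLinearGroup ι F) : Matrix ι ι F) *ᵥ e' with he''
    have hQe'' : Q e'' = 0 := by rw [he'', iso_apply (Q := ⇑Q)]; exact he'
    have hpol : 𝐁 e' e'' ≠ 0 := by
      rw [he'', hg, E_apply Q ha hwS.1, QuadraticMap.polar_sub_right, QuadraticMap.polar_add_right,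
        QuadraticMap.polar_smul_right, QuadraticMap.polar_smul_right,
        polar_self_of_singular Q he']
      have : (0 + (𝐁 e' w - Q w * 𝐁 e' a) • 𝐁 e' a - 𝐁 e' a • 𝐁 e' w)
          = - (Q w * (𝐁 e' a * 𝐁 e' a)) := by
        simp only [smul_eq_mul]; ring
      rw [this]
      exact neg_ne_zero.2 (mul_ne_zero hw (mul_ne_zero he'a he'a))
    have he''0 : e'' ≠ 0 := by
      intro h
      rw [h] at hpol
      simp at hpol
    have h3 := block_step Q hQ hn hB (E_mem_Omega Q hQ hn ha hwS.1) h1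
      (smul_mkPt_eq Q _ he0 he he0 he hge) h2
    rw [smul_mkPt_eq Q _ he'0 he' he''0 hQe'' rfl] at h3
    exact block_P2 Q hQ hn hB he'0 he' he''0 hQe'' hpol h2 h3
  · exact block_P2 Q hQ hn hB he0 he he'0 he' hee' h1 h2

end Block

theorem pretransitive (hQ : (QuadraticMap.polarBilin Q).Nondegenerate)
    (hn : 5 ≤ Fintype.card ι) : IsPretransitive ↥(Cfsg.Omega F ⇑Q) (SPt Q) := by
  constructor
  intro P P'
  obtain ⟨g, hg, hgP⟩ := Omega_transitive_TS Q hQ (Or.inr (by omega)) P.2.2 P'.2.2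
    (by rw [P.2.1, P'.2.1]) (by rw [P.2.1]; omega)
  exact ⟨⟨g, hg⟩, Subtype.ext hgP⟩

/-- `Ω` acts primitively on the singular points. -/
theorem preprimitive (hQ : (QuadraticMap.polarBilin Q).Nondegenerate)
    (hn : 5 ≤ Fintype.card ι) : IsPreprimitive ↥(Cfsg.Omega F ⇑Q) (SPt Q) := by
  have := pretransitive Q hQ hn
  constructor
  intro B hB
  by_cases hs : B.Subsingleton
  · exact Or.inl hs
  · right
    rw [Set.not_subsingleton_iff] at hs
    obtain ⟨P, hP, P', hP', hne⟩ := hs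
    obtain ⟨e, he0, he, rfl⟩ := exists_rep Q P
    obtain ⟨e', he'0, he', rfl⟩ := exists_rep Q P'
    exact block_P3 Q hQ hn hB he0 he he'0 he' hne hP hP'

end Cfsg.Agent.Lib.Helper49Prim
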