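import Mathlib
import Cfsg.Prelude.Def_Classical
import Cfsg.Prelude.Def_ClassicalGeometry
import Cfsg.Agent.Lib.Helper49Orth
import Cfsg.Agent.Lib.Helper49Hyp
import Cfsg.Agent.Lib.Helper49Fam
import Cfsg.Agent.Lib.Helper49Trans
import Cfsg.Agent.Lib.Helper49Eich
import Cfsg.Agent.Lib.Helper49Geo
import Cfsg.Agent.Lib.Helper49EichGen
import Cfsg.Agent.Lib.Helper49Perfect
import Cfsg.Agent.Lib.Helper49Center
import Cfsg.Agent.Lib.Helper49Prim

set_option autoImplicit false
set_option linter.unusedSectionVars false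

namespace Cfsg.Agent.Lib.Helper49Simple

open scoped Matrix Pointwise
open Module MulAction
open Cfsg.Agent.Lib.Helper49Orth Cfsg.Agent.Lib.Helper49Hyp Cfsg.Agent.Lib.Helper18Hyp
  Cfsg.Agent.Lib.Helper49Eich Cfsg.Agent.Lib.Helper49Geo Cfsg.Agent.Lib.Helper49EichGen
  Cfsg.Agent.Lib.Helper49Fam Cfsg.Agent.Lib.Helper49Trans Cfsg.Agent.Lib.Helper49CharTwoA
  Cfsg.Agent.Lib.Helper49Perfect Cfsg.Agent.Lib.Helper49Center Cfsg.Agent.Lib.Helper49Prim

/-- Iwasawa's criterion for the quotient by the centre. -/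
theorem simple_quotient_center {G α : Type*} [Group G] [MulAction G α] [IsQuasiPreprimitive G α]
    [Nontrivial α] (Iw : IwasawaStructure G α) (hperf : commutator G = ⊤)
    (hker : ∀ g : G, (∀ x : α, g • x = x) → g ∈ Subgroup.center G)
    (hcen : ∀ g ∈ Subgroup.center G, ∀ x : α, g • x = x) :
    IsSimpleGroup (G ⧸ Subgroup.center G) := by
  have hnt : Nontrivial (G ⧸ Subgroup.center G) := by
    obtain ⟨x, y, hxy⟩ := exists_pair_ne α
    obtain ⟨g, hg⟩ := MulAction.exists_smul_eq G x y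
    refine ⟨⟨(g : G ⧸ Subgroup.center G), 1, ?_⟩⟩
    intro h
    rw [QuotientGroup.eq_one_iff] at h
    exact hxy ((hcen g h x).symm.trans hg)
  refine ⟨?_⟩
  intro H hH
  set N : Subgroup G := H.comap (QuotientGroup.mk' (Subgroup.center G)) with hN
  have hNn : N.Normal := hH.comap _
  by_cases hfix : MulAction.fixedPoints N α = Set.univ
  · left
    rw [Subgroup.eq_bot_iff_forall]
    intro h hh
    induction h using QuotientGroup.induction_on with
    | H g =>
      rw [QuotientGroup.eq_one_iff]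
      apply hker
      intro x
      have hx : x ∈ MulAction.fixedPoints N α := hfix ▸ Set.mem_univ x
      exact hx ⟨g, hh⟩
  · right
    have h1 := Iw.commutator_le N hfix
    rw [hperf, top_le_iff] at h1
    rw [eq_top_iff]
    intro h _
    induction h using QuotientGroup.induction_on with
    | H g =>
      have : g ∈ N := h1 ▸ Subgroup.mem_top g
      exact this

variable {F : Type*} [Field F]
variable {ι : Type} [Fintype ι] [DecidableEq ι] (Q : QuadraticForm F (ι → F))

local notation "𝐁" => QuadraticMap.polar (DFunLike.coe Q)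
local notation:max W "ᗮ" => LinearMap.BilinForm.orthogonal (QuadraticMap.polarBilin Q) W

/-- Elements of a singular point are proportional. -/
theorem exists_smul_of_mem (P : SPt Q) {e e' : ι → F} (he : e ∈ P.1) (he0 : e ≠ 0)
    (he' : e' ∈ P.1) : ∃ t : F, e' = t • e := by
  have h1 : Submodule.span F {e} = P.1 := by
    apply Submodule.eq_of_le_of_finrank_eq
    · rw [Submodule.span_singleton_le_iff_mem]; exact he
    · rw [finrank_span_singleton he0, P.2.1]
  rw [← h1] at he'
  obtain ⟨t, ht⟩ := Submodule.mem_span_singleton.1 he'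
  exact ⟨t, ht.symm⟩

/-- The root subgroup attached to a singular point. -/
noncomputable def rootSub (P : SPt Q) : Subgroup ↥(Cfsg.Omega F ⇑Q) where
  carrier := {g | ∃ e ∈ P.1, ∃ w, 𝐁 e w = 0 ∧ (g : ↥(Cfsg.isometryGroup F ⇑Q)) = E Q e w}
  one_mem' := ⟨0, P.1.zero_mem, 0, by simp, by rw [E_zero]; rfl⟩
  mul_mem' := by
    rintro a b ⟨e, he, w, hw, ha⟩ ⟨e', he', w', hw', hb⟩
    by_cases he0 : e = 0
    · subst he0
      refine ⟨e', he', w', hw', ?_⟩
      rw [Subgroup.coe_mul, ha, hb, E_zero_left, one_mul]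
    · obtain ⟨t, rfl⟩ := exists_smul_of_mem Q P he he0 he'
      have hQe := P.2.2 e he
      by_cases ht : t = 0
      · subst ht
        refine ⟨e, he, w, hw, ?_⟩
        rw [Subgroup.coe_mul, ha, hb, zero_smul, E_zero_left, mul_one]
      · have hw'' : 𝐁 e w' = 0 := by
          rw [QuadraticMap.polar_smul_left, smul_eq_mul] at hw'
          exact (mul_eq_zero.1 hw').resolve_left ht
        refine ⟨e, he, w + t • w', ?_, ?_⟩
        · rw [QuadraticMap.polar_add_right, QuadraticMap.polar_smul_right, hw, hw'']; simp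
        · rw [Subgroup.coe_mul, ha, hb, E_smul Q hQe hw'',
            E_mul Q hQe hw (by rw [QuadraticMap.polar_smul_right, hw'', smul_zero])]
  inv_mem' := by
    rintro a ⟨e, he, w, hw, ha⟩
    refine ⟨e, he, -w, by rw [QuadraticMap.polar_neg_right, hw, neg_zero], ?_⟩
    rw [Subgroup.coe_inv, ha, E_inv Q (P.2.2 e he) hw]

theorem mem_rootSub {P : SPt Q} {g : ↥(Cfsg.Omega F ⇑Q)} :
    g ∈ rootSub Q P ↔ ∃ e ∈ P.1, ∃ w, 𝐁 e w = 0 ∧ (g : ↥(Cfsg.isometryGroup F ⇑Q)) = E Q e w :=
  Iff.rfl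

theorem rootSub_comm (P : SPt Q) : IsMulCommutative (rootSub Q P) := by
  refine ⟨⟨?_⟩⟩
  rintro ⟨a, e, he, w, hw, ha⟩ ⟨b, e', he', w', hw', hb⟩
  apply Subtype.ext
  apply Subtype.ext
  change (a : ↥(Cfsg.isometryGroup F ⇑Q)) * b = b * a
  rw [ha, hb]
  by_cases he0 : e = 0
  · subst he0
    rw [E_zero_left, one_mul, mul_one]
  · obtain ⟨t, rfl⟩ := exists_smul_of_mem Q P he he0 he'
    have hQe := P.2.2 e he
    by_cases ht : t = 0
    · subst ht
      rw [zero_smul, E_zero_left, one_mul, mul_one]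
    · have hw'' : 𝐁 e w' = 0 := by
        rw [QuadraticMap.polar_smul_left, smul_eq_mul] at hw'
        exact (mul_eq_zero.1 hw').resolve_left ht
      rw [E_smul Q hQe hw'']
      exact E_comm Q hQe hw (by rw [QuadraticMap.polar_smul_right, hw'', smul_zero])

theorem rootSub_conj_le (g : ↥(Cfsg.Omega F ⇑Q)) (P : SPt Q) :
    MulAut.conj g • rootSub Q P ≤ rootSub Q (g • P) := by
  intro x hx
  obtain ⟨s, ⟨e, he, w, hw, hs⟩, rfl⟩ := (Subgroup.mem_smul_pointwise_iff_exists _ _ _).1 hx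
  refine ⟨(((g : ↥(Cfsg.isometryGroup F ⇑Q)) : Matrix.GeneralLinearGroup ι F) : Matrix ι ι F) *ᵥ e,
    (mem_img Q).2 ⟨e, he, rfl⟩,
    (((g : ↥(Cfsg.isometryGroup F ⇑Q)) : Matrix.GeneralLinearGroup ι F) : Matrix ι ι F) *ᵥ w,
    by rw [polar_iso]; exact hw, ?_⟩
  rw [MulAut.smul_def, MulAut.conj_apply]
  change (g : ↥(Cfsg.isometryGroup F ⇑Q)) * s * (g : ↥(Cfsg.isometryGroup F ⇑Q))⁻¹ = _
  rw [hs, E_conj Q _ (P.2.2 e he) hw]

theorem rootSub_conj (g : ↥(Cfsg.Omega F ⇑Q)) (P : SPt Q) :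
    rootSub Q (g • P) = MulAut.conj g • rootSub Q P := by
  apply le_antisymm
  · have h := rootSub_conj_le Q g⁻¹ (g • P)
    rw [inv_smul_smul] at h
    intro x hx
    rw [Subgroup.mem_pointwise_smul_iff_inv_smul_mem, ← map_inv]
    exact h (Subgroup.smul_mem_pointwise_smul _ _ _ hx)
  · exact rootSub_conj_le Q g P

variable [Fintype F]

theorem iSup_rootSub (hQ : (QuadraticMap.polarBilin Q).Nondegenerate)
    (hn : 5 ≤ Fintype.card ι) : iSup (rootSub Q) = ⊤ := by
  rw [eq_top_iff]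
  intro x _
  have hle : TT Q ≤ (iSup (rootSub Q)).map (Cfsg.Omega F ⇑Q).subtype := by
    unfold TT
    rw [Subgroup.closure_le]
    rintro _ ⟨e, w, he, hw, rfl⟩
    by_cases he0 : e = 0
    · subst he0
      rw [E_zero_left]
      exact one_mem _
    · refine ⟨⟨E Q e w, E_mem_Omega Q hQ hn he hw⟩, ?_, rfl⟩
      apply Subgroup.mem_iSup_of_mem (mkPt Q he0 he)
      exact ⟨e, Submodule.mem_span_singleton_self e, w, hw, rfl⟩
  have hx : (x : ↥(Cfsg.isometryGroup F ⇑Q)) ∈ TT Q := by
    rw [← Omega_eq_TT Q hQ hn]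
    exact x.2
  obtain ⟨y, hy, hyx⟩ := hle hx
  have : y = x := Subtype.ext hyx
  rw [← this]
  exact hy

/-- The Iwasawa structure on `Ω`. -/
noncomputable def iwasawa (hQ : (QuadraticMap.polarBilin Q).Nondegenerate)
    (hn : 5 ≤ Fintype.card ι) : IwasawaStructure ↥(Cfsg.Omega F ⇑Q) (SPt Q) where
  T := rootSub Q
  is_comm := rootSub_comm Q
  is_conj := rootSub_conj Q
  is_generator := iSup_rootSub Q hQ hn

theorem nontrivial_SPt (hQ : (QuadraticMap.polarBilin Q).Nondegenerate)
    (hn : 5 ≤ Fintype.card ι) : Nontrivial (SPt Q) := by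
  obtain ⟨e, -, he0, he⟩ := exists_singular_orth Q hQ (S := ⊥) (by simp; omega)
  obtain ⟨f, hf, hef⟩ := exists_hyp_partner Q hQ he0 he
  have hf0 : f ≠ 0 := by
    rintro rfl
    simp at hef
  refine ⟨⟨mkPt Q he0 he, mkPt Q hf0 hf, ?_⟩⟩
  rw [Ne, mkPt_eq_iff]
  intro h
  obtain ⟨t, rfl⟩ := Submodule.mem_span_singleton.1 h
  rw [QuadraticMap.polar_smul_right, polar_self_of_singular Q he] at hef
  simp at hef

/-- `PΩ` is simple in dimension at least five. -/
theorem POmega_simple (hQ : (QuadraticMap.polarBilin Q).Nondegenerate)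
    (hn : 5 ≤ Fintype.card ι) : IsSimpleGroup (Cfsg.POmega F ⇑Q) := by
  have h1 := preprimitive Q hQ hn
  have h2 := nontrivial_SPt Q hQ hn
  apply simple_quotient_center (iwasawa Q hQ hn) (Omega_perfect Q hQ hn)
  · intro g hg
    obtain ⟨l, hl⟩ := scalar_of_singular Q hQ hn
      (((g : ↥(Cfsg.isometryGroup F ⇑Q)) : Matrix.GeneralLinearGroup ι F) : Matrix ι ι F) (by
      intro e he
      by_cases he0 : e = 0
      · subst he0
        exact ⟨0, by simp⟩
      · have h3 := congrArg Subtype.val (hg (mkPt Q he0 he))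
        change img Q g (Submodule.span F {e}) = Submodule.span F {e} at h3
        rw [img_span_singleton] at h3
        have h4 : (((g : ↥(Cfsg.isometryGroup F ⇑Q)) : Matrix.GeneralLinearGroup ι F) :
            Matrix ι ι F) *ᵥ e ∈ Submodule.span F {e} := by
          rw [← h3]
          exact Submodule.mem_span_singleton_self _
        obtain ⟨l, hl⟩ := Submodule.mem_span_singleton.1 h4
        exact ⟨l, hl.symm⟩)
    rw [Subgroup.mem_center_iff]
    intro h
    apply Subtype.ext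
    apply iso_ext
    simp only [Subgroup.coe_mul, Units.val_mul]
    rw [hl]
    simp
  · intro g hg P
    apply Subtype.ext
    change img Q g P.1 = P.1
    apply (mem_stab Q).1
    apply mem_stab_of_le
    intro x hx
    rcases coe_eq_of_mem_center Q hQ hn hg with h | h
    · rw [h, Matrix.one_mulVec]; exact hx
    · rw [h, Matrix.neg_mulVec, Matrix.one_mulVec]; exact P.1.neg_mem hx

end Cfsg.Agent.Lib.Helper49Simple
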