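import Mathlib
import Cfsg.Prelude.Def_Classical
import Cfsg.Prelude.Def_ClassicalGeometry
import Cfsg.Prelude.Def_GeometricClasses
import Cfsg.Agent.Lib.Helper49Orth
import Cfsg.Agent.Lib.Helper49Hyp
import Cfsg.Agent.Lib.Helper49Fam
import Cfsg.Agent.Lib.Helper49Trans
import Cfsg.Agent.Lib.Helper49Eich
import Cfsg.Agent.Lib.Helper49Geo
import Cfsg.Agent.Lib.Helper49Witt
import Cfsg.Agent.Lib.Helper49Bridge

/-!
# Witt's lemma inside `Ω`, pointwise fixers
-/

set_option autoImplicit false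
set_option linter.unusedSectionVars false

namespace Cfsg.Agent.Lib.Helper49Witt2

open scoped Matrix
open Module
open Cfsg.Agent.Lib.Helper49Orth Cfsg.Agent.Lib.Helper49Hyp Cfsg.Agent.Lib.Helper18Hyp
  Cfsg.Agent.Lib.Helper49Eich Cfsg.Agent.Lib.Helper49Geo
  Cfsg.Agent.Lib.Helper49Fam Cfsg.Agent.Lib.Helper49Trans Cfsg.Agent.Lib.Helper49CharTwoA
  Cfsg.Agent.Lib.Helper49Witt Cfsg.Agent.Lib.Helper49Idx Cfsg.Agent.Lib.Helper49Bridge

variable {F : Type*} [Field F]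
variable {ι : Type} [Fintype ι] [DecidableEq ι] (Q : QuadraticForm F (ι → F))

local notation "𝐁" => QuadraticMap.polar (DFunLike.coe Q)
local notation:max W "ᗮ" => LinearMap.BilinForm.orthogonal (QuadraticMap.polarBilin Q) W

/-- The pointwise fixer of a subspace. -/
def fixer (S : Submodule F (ι → F)) : Subgroup ↥(Cfsg.isometryGroup F ⇑Q) where
  carrier := {g | ∀ x ∈ S, ((g : Matrix.GeneralLinearGroup ι F) : Matrix ι ι F) *ᵥ x = x}
  one_mem' := fun x _ => one_mulVec' Q x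
  mul_mem' := by
    intro a b ha hb x hx
    rw [mul_mulVec, hb x hx, ha x hx]
  inv_mem' := by
    intro a ha x hx
    have := inv_mulVec_mulVec Q a x
    rwa [ha x hx] at this

theorem mem_fixer {S : Submodule F (ι → F)} {g : ↥(Cfsg.isometryGroup F ⇑Q)} :
    g ∈ fixer Q S ↔ ∀ x ∈ S, ((g : Matrix.GeneralLinearGroup ι F) : Matrix ι ι F) *ᵥ x = x :=
  Iff.rfl

theorem reflO'_mem_fixer {S : Submodule F (ι → F)} {z : ι → F} (hz : z ∈ Sᗮ) :
    reflO' Q z ∈ fixer Q S := by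
  by_cases hQz : Q z = 0
  · have : reflO' Q z = 1 := by
      unfold reflO'
      rw [dif_neg (not_not.2 hQz)]
    rw [this]
    exact one_mem _
  · rw [reflO'_eq Q hQz, mem_fixer]
    intro x hx
    rw [coe_reflO, refl_mulVec, QuadraticMap.polar_comm, mem_orth.1 hz x hx]
    simp

/-- One step of Witt's lemma, in the isometry group. -/
theorem witt_core (hQ : (QuadraticMap.polarBilin Q).Nondegenerate) (H : Submodule F (ι → F))
    {x y : ι → F} (hx : x ∉ H) (hy : y ∉ H) (hQxy : Q y = Q x) (hB : ∀ h ∈ H, 𝐁 h y = 𝐁 h x) :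
    ∃ g : ↥(Cfsg.isometryGroup F ⇑Q), g ∈ fixer Q H ∧
      ((g : Matrix.GeneralLinearGroup ι F) : Matrix ι ι F) *ᵥ x = y := by
  obtain ⟨e, he, heH, hex⟩ := Cfsg.Agent.S0750.core (Q := Q) hQ H x y hx hy hQxy hB
  refine ⟨ofEquiv Q e he, ?_, by rw [ofEquiv_mulVec, hex]⟩
  intro h hh
  rw [ofEquiv_mulVec, heH h hh]

theorem exists_nonsingular_orth_finset (hQ : (QuadraticMap.polarBilin Q).Nondegenerate)
    (U : Finset (ι → F)) (hU : 2 * U.card < Fintype.card ι) :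
    ∃ z, (∀ u ∈ U, 𝐁 u z = 0) ∧ Q z ≠ 0 := by
  have h1 : finrank F (Submodule.span F (U : Set (ι → F))) ≤ U.card := finrank_span_finset_le_card U
  obtain ⟨z, hz, hQz⟩ := exists_nonsingular_orth Q hQ
    (S := Submodule.span F (U : Set (ι → F))) (by omega)
  exact ⟨z, fun u hu => mem_orth.1 hz u (Submodule.subset_span hu), hQz⟩

variable [Fintype F]

/-- `O = Ω · (pointwise fixer of S)` for small `S`. -/
theorem exists_mul_mem_Omega_fixer (hQ : (QuadraticMap.polarBilin Q).Nondegenerate)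
    (hq : Fintype.card F ≠ 2 ∨ Fintype.card ι ≠ 4) {S : Submodule F (ι → F)}
    (hS : 2 * (finrank F S + 1) < Fintype.card ι) (g : ↥(Cfsg.isometryGroup F ⇑Q)) :
    ∃ s ∈ fixer Q S, g * s ∈ Cfsg.Omega F ⇑Q := by
  obtain ⟨z₁, hz₁S, hz₁⟩ := exists_nonsingular_orth Q hQ (S := S) (by omega)
  apply exists_mul_mem_Omega Q hQ hq (fixer Q S)
  · exact ⟨[z₁], by simpa using hz₁, by simp, by simpa using reflO'_mem_fixer Q hz₁S⟩
  · intro h2
    have hle : finrank F (S ⊔ Submodule.span F {z₁} : Submodule F (ι → F)) ≤ finrank F S + 1 := by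
      refine (Submodule.finrank_add_le_finrank_add_finrank _ _).trans ?_
      have := finrank_span_le_card (R := F) ({z₁} : Set (ι → F))
      simp only [Set.toFinset_singleton, Finset.card_singleton] at this
      omega
    obtain ⟨z₂, hz₂S, hz₂⟩ := exists_nonsingular_orth Q hQ (S := S ⊔ Submodule.span F {z₁})
      (by omega)
    rw [orth_sup, Submodule.mem_inf, mem_orth_span_singleton] at hz₂S
    obtain ⟨hz₂S, hz₁₂⟩ := hz₂S
    obtain ⟨c, hc⟩ := FiniteField.exists_nonsquare (ringChar_ne_two h2)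
    have hc0 : c ≠ 0 := by
      rintro rfl
      exact hc IsSquare.zero
    -- solve `Q (s z₁ + t z₂) = c * Q z₁`
    obtain ⟨s, t, hst⟩ := Cfsg.Agent.Lib.Helper17SymmForm.exists_sol h2 (Q z₁) (Q z₂) (c * Q z₁)
      hz₁ hz₂
    set b := s • z₁ + t • z₂ with hb
    have hQb : Q b = c * Q z₁ := by
      rw [hb, Q_add, QuadraticMap.map_smul, QuadraticMap.map_smul, QuadraticMap.polar_smul_left,
        QuadraticMap.polar_smul_right, hz₁₂]
      simp only [smul_eq_mul, mul_zero, add_zero]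
      linear_combination hst
    have hbS : b ∈ Sᗮ := Submodule.add_mem _ (Submodule.smul_mem _ _ hz₁S)
      (Submodule.smul_mem _ _ hz₂S)
    refine ⟨[z₁, b], ?_, ⟨1, rfl⟩, ?_, ?_⟩
    · intro v hv
      simp only [List.mem_cons, List.not_mem_nil, or_false] at hv
      rcases hv with rfl | rfl
      · exact hz₁
      · rw [hQb]; exact mul_ne_zero hc0 hz₁
    · simp only [List.map_cons, List.map_nil, List.prod_cons, List.prod_nil, mul_one, hQb]
      intro hsq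
      apply hc
      have h3 : c = (Q z₁ * (c * Q z₁)) * ((Q z₁)⁻¹ * (Q z₁)⁻¹) := by
        field_simp
      rw [h3]
      exact hsq.mul ⟨(Q z₁)⁻¹, rfl⟩
    · simp only [List.map_cons, List.map_nil, List.prod_cons, List.prod_nil, mul_one]
      exact Subgroup.mul_mem _ (reflO'_mem_fixer Q hz₁S) (reflO'_mem_fixer Q hbS)

/-- One step of Witt's lemma inside `Ω`. -/
theorem witt_core_Omega (hQ : (QuadraticMap.polarBilin Q).Nondegenerate)
    (hq : Fintype.card F ≠ 2 ∨ Fintype.card ι ≠ 4) (H : Submodule F (ι → F))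
    (hH : 2 * (finrank F H + 2) < Fintype.card ι)
    {x y : ι → F} (hx : x ∉ H) (hy : y ∉ H) (hQxy : Q y = Q x) (hB : ∀ h ∈ H, 𝐁 h y = 𝐁 h x) :
    ∃ g ∈ Cfsg.Omega F ⇑Q, g ∈ fixer Q H ∧
      ((g : Matrix.GeneralLinearGroup ι F) : Matrix ι ι F) *ᵥ x = y := by
  obtain ⟨g, hgH, hgx⟩ := witt_core Q hQ H hx hy hQxy hB
  have hle : finrank F (H ⊔ Submodule.span F {x} : Submodule F (ι → F)) = finrank F H + 1 :=
    Submodule.finrank_sup_span_singleton hx
  obtain ⟨s, hs, hgs⟩ := exists_mul_mem_Omega_fixer Q hQ hq (S := H ⊔ Submodule.span F {x})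
    (by omega) g
  refine ⟨g * s, hgs, ?_, ?_⟩
  · intro h hh
    rw [mul_mulVec, hs h (Submodule.mem_sup_left hh), hgH h hh]
  · rw [mul_mulVec, hs x (Submodule.mem_sup_right (Submodule.mem_span_singleton_self x)), hgx]

/-- Transfer of maximality to the `Geo` vocabulary (overgroups inside `Ω`). -/
theorem isMaximalIn_omegaGL' (S : Subgroup (Matrix.GeneralLinearGroup ι F))
    (S' : Subgroup ↥(Cfsg.isometryGroup F ⇑Q))
    (hS : ∀ g : ↥(Cfsg.isometryGroup F ⇑Q), g ∈ Cfsg.Omega F ⇑Q →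
      ((g : Matrix.GeneralLinearGroup ι F) ∈ S ↔ g ∈ S'))
    (h1 : ¬ Cfsg.Omega F ⇑Q ≤ S')
    (h2 : ∀ M : Subgroup ↥(Cfsg.isometryGroup F ⇑Q), S' ⊓ Cfsg.Omega F ⇑Q ≤ M →
      M ≤ Cfsg.Omega F ⇑Q → ¬ M ≤ S' → Cfsg.Omega F ⇑Q ≤ M) :
    Cfsg.Geo.IsMaximalIn (Cfsg.Geo.omegaGL ⇑Q) (S ⊓ Cfsg.Geo.omegaGL ⇑Q) := by
  refine ⟨lt_of_le_not_ge inf_le_right ?_, ?_⟩
  · intro hle
    apply h1
    intro g hg
    exact (hS g hg).1 (hle ((coe_mem_omegaGL_iff Q g).2 hg)).1
  · intro M hHM hMK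
    set M' : Subgroup ↥(Cfsg.isometryGroup F ⇑Q) :=
      M.comap (Cfsg.isometryGroup F ⇑Q).subtype with hM'
    have h3 : S' ⊓ Cfsg.Omega F ⇑Q ≤ M' := by
      intro g hg
      rw [hM', Subgroup.mem_comap]
      exact hHM ⟨(hS g hg.2).2 hg.1, (coe_mem_omegaGL_iff Q g).2 hg.2⟩
    have h5 : M' ≤ Cfsg.Omega F ⇑Q := by
      intro g hg
      exact (coe_mem_omegaGL_iff Q g).1 (hMK hg)
    by_cases h4 : M' ≤ S'
    · left
      apply le_antisymm _ hHM
      intro x hx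
      obtain ⟨g, hg, rfl⟩ := exists_of_mem_omegaGL Q (hMK hx)
      exact ⟨(hS g hg).2 (h4 hx), hMK hx⟩
    · right
      apply le_antisymm hMK
      intro x hx
      obtain ⟨g, hg, rfl⟩ := exists_of_mem_omegaGL Q hx
      exact h2 M' h3 h5 h4 hg

end Cfsg.Agent.Lib.Helper49Witt2
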