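import Mathlib
import Cfsg.Prelude.Def_Characters
import Cfsg.Agent.Lib.Helper4Perm
import Cfsg.Agent.Lib.Helper4Burnside
import Cfsg.Agent.Lib.Helper32Ind

set_option autoImplicit false

namespace Cfsg.Agent.Lib.Helper4Frob

open Module Representation
open scoped ComplexConjugate
open Cfsg.Agent.Lib.Helper4Eigen Cfsg.Agent.Lib.Helper4Char Cfsg.Agent.Lib.Helper4Char2
  Cfsg.Agent.Lib.Helper4Char3 Cfsg.Agent.Lib.Helper4Char4 Cfsg.Agent.Lib.Helper4Perm
  Cfsg.Agent.Lib.Helper4Burnside Cfsg.Agent.Lib.Helper19Ind Cfsg.Agent.Lib.Helper32Ind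

section Group

variable {G : Type*} [Group G] [Finite G] (K H : Subgroup G) [K.Normal]

include K H in
/-- In a Frobenius group `G = K H`, every element outside `K` is a `K`-conjugate of an element
of `H`. -/
theorem exists_conj_of_not_mem (hKH' : K ⊔ H = ⊤)
    (hfpf : ∀ h ∈ H, h ≠ 1 → ∀ k ∈ K, h * k = k * h → k = 1) (y : G) (hy : y ∉ K) :
    ∃ u ∈ K, ∃ h ∈ H, h ≠ 1 ∧ y = u * h * u⁻¹ := by
  have hy' : y ∈ K ⊔ H := by rw [hKH']; exact Subgroup.mem_top y
  obtain ⟨k, hk, h, hh, rfl⟩ := Subgroup.mem_sup_of_normal_left.mp hy'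
  have hne : h ≠ 1 := by
    rintro rfl
    exact hy (by simpa using hk)
  let f : K → K := fun u => ⟨u * (h * (u : G)⁻¹ * h⁻¹),
    K.mul_mem u.2 (‹K.Normal›.conj_mem _ (K.inv_mem u.2) h)⟩
  have hinj : Function.Injective f := by
    intro u v huv
    have h1 : (u : G) * (h * (u : G)⁻¹ * h⁻¹) = v * (h * (v : G)⁻¹ * h⁻¹) :=
      congrArg Subtype.val huv
    have h2 : h * ((v : G)⁻¹ * u) = ((v : G)⁻¹ * u) * h := by
      have h3 : (v : G)⁻¹ * u * h * (u : G)⁻¹ = h * (v : G)⁻¹ := by
        have := congrArg (fun z => (v : G)⁻¹ * z * h) h1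
        simp only [mul_assoc, inv_mul_cancel_left, inv_mul_cancel, mul_one] at this
        simpa [mul_assoc] using this
      calc h * ((v : G)⁻¹ * u) = (h * (v : G)⁻¹) * u := by rw [mul_assoc]
        _ = ((v : G)⁻¹ * u * h * (u : G)⁻¹) * u := by rw [h3]
        _ = (v : G)⁻¹ * u * h := by rw [inv_mul_cancel_right]
    have h4 := hfpf h hh hne ((v : G)⁻¹ * u) (K.mul_mem (K.inv_mem v.2) u.2) h2
    apply Subtype.ext
    exact (inv_mul_eq_one.mp h4).symm
  obtain ⟨u, hu⟩ := (Finite.injective_iff_surjective.mp hinj) ⟨k, hk⟩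
  refine ⟨u, u.2, h, hh, hne, ?_⟩
  have h1 : (u : G) * (h * (u : G)⁻¹ * h⁻¹) = k := congrArg Subtype.val hu
  rw [← h1]
  group

include K H in
theorem eq_one_of_commute_of_not_mem (hKH' : K ⊔ H = ⊤)
    (hfpf : ∀ h ∈ H, h ≠ 1 → ∀ k ∈ K, h * k = k * h → k = 1) (y : G) (hy : y ∉ K)
    (c : G) (hc : c ∈ K) (hyc : y * c = c * y) : c = 1 := by
  obtain ⟨u, hu, h, hh, hne, rfl⟩ := exists_conj_of_not_mem K H hKH' hfpf y hy
  have h1 : h * (u⁻¹ * c * u) = (u⁻¹ * c * u) * h := by
    have := congrArg (fun z => u⁻¹ * z * u) hyc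
    simp only [mul_assoc, inv_mul_cancel_left, inv_mul_cancel, mul_one] at this
    simpa [mul_assoc] using this
  have h2 := hfpf h hh hne (u⁻¹ * c * u) (by
    have := ‹K.Normal›.conj_mem c hc u⁻¹
    simpa using this) h1
  have h3 : c = u * (u⁻¹ * c * u) * u⁻¹ := by group
  rw [h3, h2]
  group

end Group


section Ind

variable {G : Type*} [Group G] [Fintype G] (K : Subgroup G) [K.Normal]

theorem indFun_normal_apply (τ : K → ℂ) (k : K) :
    Cfsg.indFun K τ k = (Nat.card K : ℂ)⁻¹ * ∑ x : G, τ (MulAut.conjNormal x⁻¹ k) := by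
  rw [indFun_apply]
  congr 1
  apply Finset.sum_congr rfl
  intro x _
  have h1 : x⁻¹ * (k : G) * x = ((MulAut.conjNormal x⁻¹ k : K) : G) := by
    rw [MulAut.conjNormal_apply, inv_inv]
  rw [h1, extendByZero_coe]

theorem indFun_normal_restrict (τ : K → ℂ) :
    (fun k : K => Cfsg.indFun K τ k)
      = (Nat.card K : ℂ)⁻¹ • ∑ x : G, (τ ∘ (MulAut.conjNormal x⁻¹ : K ≃* K)) := by
  ext k
  rw [indFun_normal_apply]
  simp [Finset.sum_apply]

open scoped Classical in
/-- The norm of a character induced from a normal subgroup counts the inertia group. -/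
theorem classInner_indFun_normal [Fintype K] {τ : K → ℂ} (hτ : Cfsg.IsIrrCharacter K τ) :
    Cfsg.classInner (Cfsg.indFun K τ) (Cfsg.indFun K τ)
      = (Nat.card K : ℂ)⁻¹ *
        (Nat.card {x : G // τ ∘ (MulAut.conjNormal x : K ≃* K) = τ} : ℂ) := by
  rw [frobenius K τ _ (indFun_isClassFunction K τ), indFun_normal_restrict,
    classInner_smul_right, classInner_sum_right, map_inv₀, Complex.conj_natCast]
  congr 1
  have h1 : ∀ x : G, Cfsg.classInner τ (τ ∘ (MulAut.conjNormal x⁻¹ : K ≃* K))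
      = if τ ∘ (MulAut.conjNormal x⁻¹ : K ≃* K) = τ then 1 else 0 := by
    intro x
    rw [classInner_irr hτ (IsIrrCharacter.comp_mulEquiv _ hτ)]
    exact if_congr eq_comm rfl rfl
  simp only [h1]
  rw [Finset.sum_boole, Nat.card_eq_fintype_card, Fintype.card_subtype]
  congr 1
  apply Finset.card_bij (fun x _ => x⁻¹)
  · intro x hx
    simpa using hx
  · intro x _ y _ hxy
    exact inv_injective hxy
  · intro y hy
    exact ⟨y⁻¹, by simpa using hy, inv_inv y⟩

omit [Fintype G] in
theorem comp_conjNormal_of_mem {τ : K → ℂ} (hτ : Cfsg.IsClassFunction K τ) (x : G) (hx : x ∈ K) :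
    τ ∘ (MulAut.conjNormal x : K ≃* K) = τ := by
  ext k
  have h1 : (MulAut.conjNormal x : K ≃* K) k = (⟨x, hx⟩ : K) * k * (⟨x, hx⟩ : K)⁻¹ := by
    apply Subtype.ext
    rw [MulAut.conjNormal_apply]
    rfl
  rw [Function.comp_apply, h1, hτ]

/-- If the inertia group of an irreducible character of a normal subgroup is the subgroup itself,
the induced character is irreducible. -/
theorem isIrrCharacter_indFun_of_inertia {τ : K → ℂ} (hτ : Cfsg.IsIrrCharacter K τ)
    (h : ∀ x : G, τ ∘ (MulAut.conjNormal x : K ≃* K) = τ → x ∈ K) :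
    Cfsg.IsIrrCharacter G (Cfsg.indFun K τ) := by
  classical
  rw [isIrrCharacter_iff]
  constructor
  · apply isCharacter_of_classInner_nat (indFun_isClassFunction K τ)
    intro χ
    rw [frobenius K τ χ (IsIrrCharacter.isClassFunction χ.2)]
    exact IsCharacter.classInner_nat (IsIrrCharacter.isCharacter hτ)
      (IsCharacter.restrict K (IsIrrCharacter.isCharacter χ.2))
  · rw [classInner_indFun_normal K hτ]
    have h1 : Nat.card {x : G // τ ∘ (MulAut.conjNormal x : K ≃* K) = τ} = Nat.card K := by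
      apply Nat.card_congr
      apply Equiv.subtypeEquivRight
      intro x
      exact ⟨h x, comp_conjNormal_of_mem K (IsIrrCharacter.isClassFunction hτ) x⟩
    rw [h1]
    exact inv_mul_cancel₀ (Nat.cast_ne_zero.mpr Nat.card_pos.ne')

/-- Frobenius groups: nonprincipal irreducible characters of the kernel induce irreducibly. -/
theorem frobenius_indFun_irr (H : Subgroup G) (hKH' : K ⊔ H = ⊤)
    (hfpf : ∀ h ∈ H, h ≠ 1 → ∀ k ∈ K, h * k = k * h → k = 1) (τ : K → ℂ)
    (hτ : Cfsg.IsIrrCharacter K τ) (hτ1 : τ ≠ fun _ => 1) :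
    Cfsg.IsIrrCharacter G (Cfsg.indFun K τ) := by
  classical
  apply isIrrCharacter_indFun_of_inertia K hτ
  intro x hx
  by_contra hxK
  apply hτ1
  set α : K ≃* K := MulAut.conjNormal x with hα
  have h1 := card_fixed_classes_eq_card_fixed_irr α
  have h2 : Subsingleton {C : ConjClasses K // ConjClasses.map α.toMonoidHom C = C} := by
    have hone : ∀ C : ConjClasses K, ConjClasses.map α.toMonoidHom C = C → C = ConjClasses.mk 1 := by
      intro C hC
      have h3 : ConjClasses.mk (α (rep C)) = C := by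
        conv_rhs => rw [← hC, ← mk_rep C]
        rfl
      have h4 : IsConj (rep C) (α (rep C)) := (mk_eq_iff_isConj_rep C _).mp h3
      obtain ⟨k, hk⟩ := isConj_iff.mp h4
      have h5 : (k : G) * ((rep C : K) : G) * (k : G)⁻¹ = x * ((rep C : K) : G) * x⁻¹ := by
        have := congrArg Subtype.val hk
        rw [hα, MulAut.conjNormal_apply] at this
        simpa using this
      have h6 : ((k : G)⁻¹ * x) * ((rep C : K) : G) = ((rep C : K) : G) * ((k : G)⁻¹ * x) := by
        have := congrArg (fun z => (k : G)⁻¹ * z * x) h5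
        simp only [mul_assoc, inv_mul_cancel_left, inv_mul_cancel, mul_one] at this
        simpa [mul_assoc] using this.symm
      have h7 : (k : G)⁻¹ * x ∉ K := by
        intro hmem
        apply hxK
        have := K.mul_mem k.2 hmem
        simpa using this
      have h8 := eq_one_of_commute_of_not_mem K H hKH' hfpf _ h7 _ (rep C).2 h6
      rw [← mk_rep C]
      congr 1
      exact Subtype.ext h8
    constructor
    rintro ⟨C, hC⟩ ⟨D, hD⟩
    apply Subtype.ext
    change C = D
    rw [hone C hC, hone D hD]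
  have h3 : Nat.card {χ : Cfsg.IrrCharacter K // (χ : K → ℂ) ∘ α = (χ : K → ℂ)} ≤ 1 := by
    rw [← h1]
    exact Finite.card_le_one_iff_subsingleton.mpr h2
  have h4 := Finite.card_le_one_iff_subsingleton.mp h3
  let one : Cfsg.IrrCharacter K := ⟨fun _ => 1, isIrrCharacter_one⟩
  have h5 := @Subsingleton.elim _ h4 ⟨⟨τ, hτ⟩, hx⟩ ⟨one, rfl⟩
  exact congrArg (fun z => (z.1 : K → ℂ)) h5

end Ind

end Cfsg.Agent.Lib.Helper4Frob
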