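import Mathlib
import Cfsg.Prelude.Def_Characters
import Cfsg.Agent.Lib.Helper4Char4

set_option autoImplicit false

namespace Cfsg.Agent.Lib.Helper4Ito

open Module Representation
open scoped ComplexConjugate
open Cfsg.Agent.Lib.Helper4Eigen Cfsg.Agent.Lib.Helper4Char Cfsg.Agent.Lib.Helper4Char2
  Cfsg.Agent.Lib.Helper4Char3 Cfsg.Agent.Lib.Helper4Char4

section Integrality

variable {G : Type*} [Group G] [Finite G] {V : Type*} [AddCommGroup V] [Module ℂ V]
  (ρ : Representation ℂ G V)

/-- Any combination of the `ρ g` with algebraic integer coefficients which is a scalar is an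
integral scalar. -/
theorem isIntegral_of_integral_comb [Nontrivial V] {ι : Type*} [Fintype ι] (a : ι → ℂ)
    (g : ι → G) (ha : ∀ i, IsIntegral ℤ (a i)) (ω : ℂ)
    (h : ∑ i, a i • ρ (g i) = ω • LinearMap.id) : IsIntegral ℤ ω := by
  let O := integralClosure ℤ ℂ
  let K : MonoidAlgebra O G := ∑ i, MonoidAlgebra.single (g i) (⟨a i, ha i⟩ : O)
  have hK : IsIntegral O K := IsIntegral.of_finite O K
  let φ : MonoidAlgebra O G →ₐ[O] Module.End ℂ V := MonoidAlgebra.lift O (Module.End ℂ V) G ρ
  have h1 : IsIntegral O (φ K) := hK.map φ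
  have h2 : φ K = algebraMap ℂ (Module.End ℂ V) ω := by
    simp only [K, φ, map_sum, MonoidAlgebra.lift_single]
    rw [Algebra.algebraMap_eq_smul_one]
    have : (1 : Module.End ℂ V) = LinearMap.id := rfl
    rw [this, ← h]
    rfl
  rw [h2] at h1
  have h3 : IsIntegral O ω :=
    (isIntegral_algebraMap_iff (algebraMap ℂ (Module.End ℂ V)).injective).mp h1
  exact isIntegral_trans ω h3

end Integrality


section Transversal

variable {G : Type*} [Group G]

theorem out_mul_bijective (A : Subgroup G) :
    Function.Bijective (fun p : (G ⧸ A) × A => (Quotient.out p.1 : G) * (p.2 : G)) := by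
  constructor
  · rintro ⟨q, a⟩ ⟨q', a'⟩ h
    simp only at h
    have h1 : q = q' := by
      have e1 : ((Quotient.out q * (a : G) : G) : G ⧸ A) = q := by
        rw [QuotientGroup.mk_mul_of_mem _ a.2]; exact Quotient.out_eq' q
      have e2 : ((Quotient.out q' * (a' : G) : G) : G ⧸ A) = q' := by
        rw [QuotientGroup.mk_mul_of_mem _ a'.2]; exact Quotient.out_eq' q'
      rw [← e1, ← e2, h]
    subst h1
    have h2 : (a : G) = a' := mul_left_cancel h
    rw [Subtype.ext h2]
  · intro g
    refine ⟨((g : G ⧸ A), ⟨(Quotient.out (g : G ⧸ A))⁻¹ * g, ?_⟩), ?_⟩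
    · rw [← QuotientGroup.eq]
      exact Quotient.out_eq' _
    · simp

theorem sum_eq_sum_out_mul [Fintype G] {M : Type*} [AddCommMonoid M] (A : Subgroup G)
    [Fintype (G ⧸ A)] [Fintype A] (F : G → M) :
    ∑ g, F g = ∑ q : G ⧸ A, ∑ a : A, F (Quotient.out q * (a : G)) := by
  rw [← Fintype.sum_prod_type']
  exact (Fintype.sum_bijective _ (out_mul_bijective A) _ _ (fun _ => rfl)).symm

end Transversal

section CenterDegree

variable {G : Type*} [Group G] [Finite G] {V : Type*} [AddCommGroup V] [Module ℂ V]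
  [FiniteDimensional ℂ V] (ρ : Representation ℂ G V)

/-- If a subgroup `A` acts by scalars in an irreducible representation, the degree divides the
index of `A`. -/
theorem finrank_dvd_index_of_scalar [ρ.IsIrreducible] (A : Subgroup G)
    (hA : ∀ a ∈ A, ∃ ω : ℂ, ρ a = ω • LinearMap.id) : finrank ℂ V ∣ A.index := by
  classical
  cases nonempty_fintype G
  have hnt := nontrivial_of_irreducible ρ
  have hpos := finrank_pos_of_irreducible ρ
  have hd : (finrank ℂ V : ℂ) ≠ 0 := Nat.cast_ne_zero.mpr hpos.ne'
  apply dvd_of_isIntegral_div _ _ hpos.ne'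
  let F : G → (V →ₗ[ℂ] V) := fun g => conj (ρ.character g) • ρ g
  have hcl := IsCharacter.isClassFunction (isCharacter_of_rep ρ)
  have h1 : ∑ g, F g = ((Nat.card G : ℂ) / (finrank ℂ V : ℂ)) • LinearMap.id := by
    have h2 := classOp_irr ρ (fun g => conj (ρ.character g)) (IsClassFunction.conj hcl)
    have h3 : ∑ g, conj (ρ.character g) * ρ.character g = (Nat.card G : ℂ) := by
      have h4 := classInner_irr_self (isIrrCharacter_of_rep ρ)
      rw [Cfsg.classInner, inv_mul_eq_one₀ card_ne_zero] at h4
      rw [h4]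
      exact Finset.sum_congr rfl (fun g _ => mul_comm _ _)
    rw [h3] at h2
    exact h2
  have h2 : ∀ (t : G) (a : A), F (t * (a : G)) = F t := by
    intro t a
    obtain ⟨ω, hω⟩ := hA a a.2
    have hn : ‖ω‖ = 1 := by
      obtain ⟨v, hv⟩ := exists_ne (0 : V)
      have e1 : ρ (a : G) v = ω • v := by rw [hω]; simp
      have e2 := rep_pow_apply_eigen ρ (a : G) v ω e1 (orderOf (a : G))
      rw [pow_orderOf_eq_one, map_one, Module.End.one_apply] at e2
      have e3 : (ω ^ orderOf (a : G) - 1) • v = 0 := by rw [sub_smul, one_smul, ← e2, sub_self]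
      have e4 : ω ^ orderOf (a : G) = 1 := by
        rcases smul_eq_zero.mp e3 with e5 | e5
        · exact sub_eq_zero.mp e5
        · exact absurd e5 hv
      exact Complex.norm_eq_one_of_pow_eq_one e4 (orderOf_pos _).ne'
    have e6 : ρ (t * (a : G)) = ω • ρ t := by
      rw [map_mul, hω]
      ext v
      simp
    have e7 : ρ.character (t * (a : G)) = ω * ρ.character t := by
      simp only [Representation.character, e6, map_smul, smul_eq_mul]
    simp only [F, e6, e7, map_mul, smul_smul]
    congr 1
    have e8 : conj ω * ω = 1 := by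
      rw [mul_comm, Complex.mul_conj, Complex.normSq_eq_norm_sq, hn]; simp
    calc conj ω * conj (ρ.character t) * ω = (conj ω * ω) * conj (ρ.character t) := by ring
      _ = conj (ρ.character t) := by rw [e8, one_mul]
  have h3 : ∑ q : G ⧸ A, F (Quotient.out q)
      = ((A.index : ℂ) / (finrank ℂ V : ℂ)) • LinearMap.id := by
    rw [sum_eq_sum_out_mul A F] at h1
    simp only [h2, Finset.sum_const, Finset.card_univ] at h1
    rw [← Finset.smul_sum, ← Nat.card_eq_fintype_card, ← Nat.cast_smul_eq_nsmul ℂ] at h1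
    have hA0 : (Nat.card A : ℂ) ≠ 0 := Nat.cast_ne_zero.mpr Nat.card_pos.ne'
    have h4 : (Nat.card G : ℂ) = (Nat.card A : ℂ) * (A.index : ℂ) := by
      exact_mod_cast (Subgroup.card_mul_index A).symm
    have h5 := congrArg (fun T => (Nat.card A : ℂ)⁻¹ • T) h1
    simp only [smul_smul, inv_mul_cancel₀ hA0, one_smul] at h5
    rw [h5, h4]
    congr 1
    field_simp
  exact isIntegral_of_integral_comb ρ (fun q : G ⧸ A => conj (ρ.character (Quotient.out q)))
    (fun q => Quotient.out q) (fun q => by
      rw [← char_inv]; exact char_isIntegral ρ _) _ h3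

end CenterDegree

end Cfsg.Agent.Lib.Helper4Ito
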