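import Mathlib
import Cfsg.Prelude
import Cfsg.Agent.Lib.Helper6SL
import Cfsg.Agent.Lib.Helper50Tv

set_option autoImplicit false

namespace Cfsg.Agent.Lib.Helper50Aut

open Matrix Cfsg.Agent.Lib.Helper50Tv

variable {F : Type*} [Field F] {n : ℕ}

local notation "SLn" => Matrix.SpecialLinearGroup (Fin n) F
local notation "Mn" => Matrix (Fin n) (Fin n) F
local notation "tr" => Matrix.SpecialLinearGroup.transvection
local notation "π" => (QuotientGroup.mk : Matrix.SpecialLinearGroup (Fin n) F →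
  Matrix.SpecialLinearGroup (Fin n) F ⧸ Subgroup.center (Matrix.SpecialLinearGroup (Fin n) F))

/-- lift an automorphism of `SL` to `PSL` -/
noncomputable def liftAut (θ : SLn ≃* SLn) : MulAut (Matrix.ProjectiveSpecialLinearGroup (Fin n) F) :=
  QuotientGroup.congr (Subgroup.center SLn) (Subgroup.center SLn) θ
    (Subgroup.characteristic_iff_map_eq.1 inferInstance θ)

theorem liftAut_mk (θ : SLn ≃* SLn) (s : SLn) : liftAut θ (π s) = π (θ s) := rfl

theorem gl_mul_inv (g : GL (Fin n) F) : (g : Mn) * ((g⁻¹ : GL (Fin n) F) : Mn) = 1 := by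
  rw [← Units.val_mul, mul_inv_cancel, Units.val_one]

theorem gl_inv_mul (g : GL (Fin n) F) : ((g⁻¹ : GL (Fin n) F) : Mn) * (g : Mn) = 1 := by
  rw [← Units.val_mul, inv_mul_cancel, Units.val_one]

theorem det_conj (g : GL (Fin n) F) (s : SLn) :
    ((g : Mn) * (s : Mn) * ((g⁻¹ : GL (Fin n) F) : Mn)).det = 1 := by
  rw [Matrix.det_mul, Matrix.det_mul, s.2, mul_one, ← Matrix.det_mul, gl_mul_inv, Matrix.det_one]

/-- conjugation by an invertible matrix -/
def conjGL (g : GL (Fin n) F) : SLn ≃* SLn where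
  toFun s := ⟨(g : Mn) * (s : Mn) * ((g⁻¹ : GL (Fin n) F) : Mn), det_conj g s⟩
  invFun s := ⟨((g⁻¹ : GL (Fin n) F) : Mn) * (s : Mn) * (((g⁻¹)⁻¹ : GL (Fin n) F) : Mn), det_conj g⁻¹ s⟩
  left_inv s := by
    apply Subtype.ext
    simp only [inv_inv]
    calc ((g⁻¹ : GL (Fin n) F) : Mn) * ((g : Mn) * (s : Mn) * ((g⁻¹ : GL (Fin n) F) : Mn)) * (g : Mn)
        = (((g⁻¹ : GL (Fin n) F) : Mn) * (g : Mn)) * (s : Mn) * (((g⁻¹ : GL (Fin n) F) : Mn) * (g : Mn)) := by
          simp only [mul_assoc]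
      _ = s := by rw [gl_inv_mul, one_mul, mul_one]
  right_inv s := by
    apply Subtype.ext
    simp only [inv_inv]
    calc (g : Mn) * (((g⁻¹ : GL (Fin n) F) : Mn) * (s : Mn) * (g : Mn)) * ((g⁻¹ : GL (Fin n) F) : Mn)
        = ((g : Mn) * ((g⁻¹ : GL (Fin n) F) : Mn)) * (s : Mn) * ((g : Mn) * ((g⁻¹ : GL (Fin n) F) : Mn)) := by
          simp only [mul_assoc]
      _ = s := by rw [gl_mul_inv, one_mul, mul_one]
  map_mul' s t := by
    apply Subtype.ext
    show (g : Mn) * ((s * t : SLn) : Mn) * ((g⁻¹ : GL (Fin n) F) : Mn)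
      = ((g : Mn) * (s : Mn) * ((g⁻¹ : GL (Fin n) F) : Mn)) * ((g : Mn) * (t : Mn) * ((g⁻¹ : GL (Fin n) F) : Mn))
    rw [Matrix.SpecialLinearGroup.coe_mul]
    calc (g : Mn) * ((s : Mn) * (t : Mn)) * ((g⁻¹ : GL (Fin n) F) : Mn)
        = (g : Mn) * (s : Mn) * 1 * (t : Mn) * ((g⁻¹ : GL (Fin n) F) : Mn) := by
          simp only [mul_assoc, one_mul]
      _ = _ := by rw [← gl_inv_mul g]; simp only [mul_assoc]

theorem conjGL_coe (g : GL (Fin n) F) (s : SLn) :
    (conjGL g s : Mn) = (g : Mn) * (s : Mn) * ((g⁻¹ : GL (Fin n) F) : Mn) := rfl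

/-- entrywise field automorphism -/
def mapEquiv (σ : F ≃+* F) : SLn ≃* SLn where
  toFun := Matrix.SpecialLinearGroup.map (σ : F →+* F)
  invFun := Matrix.SpecialLinearGroup.map (σ.symm : F →+* F)
  left_inv s := by
    apply Matrix.SpecialLinearGroup.ext
    intro i j
    exact σ.symm_apply_apply _
  right_inv s := by
    apply Matrix.SpecialLinearGroup.ext
    intro i j
    exact σ.apply_symm_apply _
  map_mul' := map_mul _

theorem mapEquiv_coe (σ : F ≃+* F) (s : SLn) : (mapEquiv σ s : Mn) = (s : Mn).map σ := rfl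

theorem sl_transpose_mul (s t : SLn) : (s * t).transpose = t.transpose * s.transpose := by
  apply Subtype.ext
  simp [Matrix.SpecialLinearGroup.coe_transpose, Matrix.transpose_mul]

theorem sl_transpose_one : (1 : SLn).transpose = 1 := by
  apply Subtype.ext
  simp [Matrix.SpecialLinearGroup.coe_transpose]

theorem sl_transpose_transpose (s : SLn) : s.transpose.transpose = s := by
  apply Subtype.ext
  simp [Matrix.SpecialLinearGroup.coe_transpose]

theorem sl_transpose_inv (s : SLn) : (s⁻¹).transpose = (s.transpose)⁻¹ := by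
  apply eq_inv_of_mul_eq_one_left
  rw [← sl_transpose_mul, mul_inv_cancel, sl_transpose_one]

/-- inverse transpose -/
def invT : SLn ≃* SLn where
  toFun s := (s⁻¹).transpose
  invFun s := (s⁻¹).transpose
  left_inv s := by
    show (((s⁻¹).transpose)⁻¹).transpose = s
    rw [sl_transpose_inv, sl_transpose_transpose, inv_inv]
  right_inv s := by
    show (((s⁻¹).transpose)⁻¹).transpose = s
    rw [sl_transpose_inv, sl_transpose_transpose, inv_inv]
  map_mul' s t := by
    rw [_root_.mul_inv_rev, sl_transpose_mul]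

theorem invT_coe (s : SLn) : (invT s : Mn) = ((s⁻¹ : SLn) : Mn).transpose := rfl

theorem isInnerDiagonal_lift (g : GL (Fin n) F) : Cfsg.IsInnerDiagonalAutPSL (liftAut (conjGL g)) := by
  refine ⟨g, fun s s' h => ?_⟩
  rw [liftAut_mk]
  congr 1
  exact Subtype.ext h.symm

theorem isStdField_lift (σ : F ≃+* F) : Cfsg.IsStdFieldAutPSL σ (liftAut (n := n) (mapEquiv σ)) := by
  intro s s' h
  rw [liftAut_mk]
  congr 1
  exact Subtype.ext h.symm

theorem isInvT_lift : Cfsg.IsInverseTransposeAutPSL (liftAut (n := n) (F := F) invT) := by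
  intro s s' h
  rw [liftAut_mk]
  congr 1
  exact Subtype.ext h.symm

theorem isInduced_lift (g : GL (Fin n) F) (σ : F ≃+* F) :
    Cfsg.IsInducedBySemilinearPSL g σ (liftAut (conjGL g) * liftAut (mapEquiv σ)) := by
  intro s s' h
  rw [MulAut.mul_apply, liftAut_mk, liftAut_mk]
  congr 1
  exact Subtype.ext h.symm

theorem liftAut_mul (θ θ' : SLn ≃* SLn) : liftAut θ * liftAut θ' = liftAut (θ'.trans θ) := by
  ext x
  obtain ⟨s, rfl⟩ := QuotientGroup.mk_surjective x
  rfl

theorem conjGL_mul (g h : GL (Fin n) F) : (conjGL h).trans (conjGL g) = conjGL (g * h) := by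
  ext s : 1
  apply Subtype.ext
  show (g : Mn) * ((h : Mn) * (s : Mn) * ((h⁻¹ : GL (Fin n) F) : Mn)) * ((g⁻¹ : GL (Fin n) F) : Mn)
    = ((g * h : GL (Fin n) F) : Mn) * (s : Mn) * (((g * h)⁻¹ : GL (Fin n) F) : Mn)
  rw [_root_.mul_inv_rev, Units.val_mul, Units.val_mul]
  simp only [mul_assoc]

theorem lift_conjGL_mul (g h : GL (Fin n) F) :
    liftAut (conjGL g) * liftAut (conjGL h) = liftAut (conjGL (g * h)) := by
  rw [liftAut_mul, conjGL_mul]

theorem lift_conjGL_inv (g : GL (Fin n) F) : (liftAut (conjGL g))⁻¹ = liftAut (conjGL g⁻¹) := by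
  apply inv_eq_of_mul_eq_one_left
  rw [lift_conjGL_mul, inv_mul_cancel]
  ext x
  obtain ⟨s, rfl⟩ := QuotientGroup.mk_surjective x
  rw [liftAut_mk]
  congr 1
  apply Subtype.ext
  simp [conjGL_coe]

theorem invT_transvection {i j : Fin n} (hij : i ≠ j) (a : F) :
    invT (tr hij a) = tr hij.symm (-a) := by
  apply Subtype.ext
  rw [invT_coe, Matrix.SpecialLinearGroup.transvection_inv, Matrix.SpecialLinearGroup.transvection_coe,
    Matrix.SpecialLinearGroup.transvection_coe]
  simp

theorem mapEquiv_transvection (σ : F ≃+* F) {i j : Fin n} (hij : i ≠ j) (a : F) :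
    mapEquiv σ (tr hij a) = tr hij (σ a) := by
  apply Subtype.ext
  rw [mapEquiv_coe, Matrix.SpecialLinearGroup.transvection_coe,
    Matrix.SpecialLinearGroup.transvection_coe]
  ext x y
  simp only [Matrix.map_apply, Matrix.add_apply, Matrix.one_apply, Matrix.single_apply, map_add]
  split_ifs <;> simp

theorem lift_invT_mul_self : liftAut (n := n) (F := F) invT * liftAut invT = 1 := by
  ext x
  obtain ⟨s, rfl⟩ := QuotientGroup.mk_surjective x
  rw [MulAut.mul_apply, liftAut_mk, liftAut_mk]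
  congr 1
  exact invT.left_inv s

/-- automorphisms agreeing on transvections are equal -/
theorem ext_transvection (hn : 2 ≤ n) (β β' : MulAut (Matrix.ProjectiveSpecialLinearGroup (Fin n) F))
    (h : ∀ (i j : Fin n) (hij : i ≠ j) (a : F), β (π (tr hij a)) = β' (π (tr hij a))) : β = β' := by
  have : Nontrivial (Fin n) := Fin.nontrivial_iff_two_le.2 hn
  ext x
  obtain ⟨s, rfl⟩ := QuotientGroup.mk_surjective x
  induction s using Cfsg.Agent.Lib.Helper6SL.transvection_induction with
  | htransvec i j hij c => exact h i j hij c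
  | hmul A B hA hB => rw [QuotientGroup.mk_mul, map_mul, map_mul, hA, hB]

end Cfsg.Agent.Lib.Helper50Aut
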