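import Mathlib
import Cfsg.Agent.Lib.Helper50Tv

set_option autoImplicit false

namespace Cfsg.Agent.Lib.Helper50Comb

open Matrix Cfsg.Agent.Lib.Helper50Tv

variable {F : Type*} [Field F] {n : ℕ}

/-- the combinatorial hypotheses on centres `u i j` and axes `φ i j` of the images of root groups -/
structure Hyp (u φ : Fin n → Fin n → (Fin n → F)) : Prop where
  unz : ∀ i j, i ≠ j → u i j ≠ 0
  pnz : ∀ i j, i ≠ j → φ i j ≠ 0
  cm : ∀ i j k l, i ≠ j → k ≠ l → j ≠ k → i ≠ l → φ i j ⬝ᵥ u k l = 0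
  nc : ∀ i j k, i ≠ j → j ≠ k → ¬ (φ i j ⬝ᵥ u j k = 0 ∧ φ j k ⬝ᵥ u i j = 0)
  h1 : ∀ i j k, i ≠ j → i ≠ k → j ≠ k → Par (u i j) (u i k) ∨ Par (φ i j) (φ i k)
  h2 : ∀ i j k, i ≠ k → j ≠ k → i ≠ j → Par (u i k) (u j k) ∨ Par (φ i k) (φ j k)

variable {u φ : Fin n → Fin n → (Fin n → F)}

theorem Hyp.r3 (H : Hyp u φ) {i j k : Fin n} (hij : i ≠ j) (hik : i ≠ k) (hjk : j ≠ k) :
    ¬ (Par (u i j) (u i k) ∧ Par (φ i j) (φ i k)) := by
  rintro ⟨hu, hp⟩
  apply H.nc i k j hik hjk.symm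
  constructor
  · exact hp.dot_left (H.pnz i j hij) (H.cm i j k j hij hjk.symm hjk hij)
  · exact hu.dot_right (H.unz i j hij) (H.cm k j i j hjk.symm hij hij.symm hjk.symm)

theorem Hyp.m2 (H : Hyp u φ) {i j k : Fin n} (hij : i ≠ j) (hik : i ≠ k) (hjk : j ≠ k)
    (h : Par (u i j) (u i k)) : Par (φ i k) (φ j k) := by
  rcases H.h2 i j k hik hjk hij with h' | h'
  · exfalso
    have hp : Par (u i j) (u j k) := h.trans h' (H.unz i k hik)
    apply H.nc i j k hij hjk
    constructor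
    · exact hp.dot_right (H.unz i j hij) (H.cm i j i j hij hij hij.symm hij)
    · exact hp.symm.dot_right (H.unz j k hjk) (H.cm j k j k hjk hjk hjk.symm hjk)
  · exact h'

theorem Hyp.m3 (H : Hyp u φ) {i j k : Fin n} (hij : i ≠ j) (hik : i ≠ k) (hjk : j ≠ k)
    (h : Par (φ i k) (φ j k)) : Par (u j i) (u j k) := by
  rcases H.h1 j i k hij.symm hjk hik with h' | h'
  · exact h'
  · exfalso
    have hp : Par (φ i k) (φ j i) := h.trans h'.symm (H.pnz j k hjk)
    apply H.nc j i k hij.symm hik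
    constructor
    · exact hp.dot_left (H.pnz i k hik) (H.cm i k i k hik hik hik.symm hik)
    · exact hp.symm.dot_left (H.pnz j i hij.symm) (H.cm j i j i hij.symm hij.symm hij hij.symm)

theorem Hyp.m4 (H : Hyp u φ) {i j k l : Fin n} (hij : i ≠ j) (hik : i ≠ k) (hjk : j ≠ k)
    (hil : i ≠ l) (hjl : j ≠ l) (hkl : k ≠ l)
    (h : Par (u i j) (u i k)) : Par (u i j) (u i l) := by
  rcases H.h1 i j l hij hil hjl with h' | h'
  · exact h'
  · rcases H.h1 i k l hik hil hkl with h'' | h''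
    · exact h.trans h'' (H.unz i k hik)
    · exfalso
      exact H.r3 hij hik hjk ⟨h, h'.trans h''.symm (H.pnz i l hil)⟩

theorem Hyp.row (H : Hyp u φ) {i j k : Fin n} (hij : i ≠ j) (hik : i ≠ k) (hjk : j ≠ k)
    (h : Par (u i j) (u i k)) : ∀ a b, i ≠ a → i ≠ b → Par (u i a) (u i b) := by
  have key : ∀ a, i ≠ a → Par (u i j) (u i a) := by
    intro a hia
    by_cases h1 : j = a
    · subst h1; exact Par.refl _
    · by_cases h2 : k = a
      · subst h2; exact h
      · exact H.m4 hij hik hjk hia h1 h2 h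
  intro a b hia hib
  exact (key a hia).symm.trans (key b hib) (H.unz i j hij)

theorem Hyp.all (H : Hyp u φ) {i j k : Fin n} (hij : i ≠ j) (hik : i ≠ k) (hjk : j ≠ k)
    (h : Par (u i j) (u i k)) :
    (∀ a b c, a ≠ b → a ≠ c → Par (u a b) (u a c)) ∧
    (∀ a b c, a ≠ c → b ≠ c → Par (φ a c) (φ b c)) := by
  have hrow := H.row hij hik hjk h
  have hu : ∀ a b c, a ≠ b → a ≠ c → Par (u a b) (u a c) := by
    intro a b c hab hac
    by_cases hia : i = a
    · subst hia; exact hrow b c hab hac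
    · obtain ⟨m, him, ham⟩ : ∃ m, i ≠ m ∧ a ≠ m := by
        by_cases haj : a = j
        · exact ⟨k, hik, by rw [haj]; exact hjk⟩
        · exact ⟨j, hij, haj⟩
      have h1 : Par (u i a) (u i m) := hrow a m hia him
      have h2 : Par (φ i m) (φ a m) := H.m2 hia him ham h1
      have h3 : Par (u a i) (u a m) := H.m3 hia him ham h2
      exact H.row (Ne.symm hia) ham him h3 b c hab hac
  refine ⟨hu, ?_⟩
  intro a b c hac hbc
  by_cases hab : a = b
  · subst hab; exact Par.refl _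
  · exact H.m2 hab hac hbc (hu a b c hab hac)

/-- the transposed data -/
theorem Hyp.swap (H : Hyp u φ) : Hyp (fun i j => u j i) (fun i j => φ j i) where
  unz i j hij := H.unz j i hij.symm
  pnz i j hij := H.pnz j i hij.symm
  cm i j k l hij hkl hjk hil := H.cm j i l k hij.symm hkl.symm hil hjk
  nc i j k hij hjk := by
    rintro ⟨h1, h2⟩
    exact H.nc k j i hjk.symm hij.symm ⟨h2, h1⟩
  h1 i j k hij hik hjk := H.h2 j k i hij.symm hik.symm hjk
  h2 i j k hik hjk hij := H.h1 k i j hik.symm hjk.symm hij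

/-- dichotomy -/
theorem Hyp.dichotomy (H : Hyp u φ) (hn : 3 ≤ n) :
    ((∀ a b c, a ≠ b → a ≠ c → Par (u a b) (u a c)) ∧
      (∀ a b c, a ≠ c → b ≠ c → Par (φ a c) (φ b c))) ∨
    ((∀ a b c, a ≠ b → a ≠ c → Par (u b a) (u c a)) ∧
      (∀ a b c, a ≠ c → b ≠ c → Par (φ c a) (φ c b))) := by
  let i0 : Fin n := ⟨0, by omega⟩
  let i1 : Fin n := ⟨1, by omega⟩
  let i2 : Fin n := ⟨2, by omega⟩
  have h01 : i0 ≠ i1 := by simp [i0, i1]
  have h02 : i0 ≠ i2 := by simp [i0, i2]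
  have h12 : i1 ≠ i2 := by simp [i1, i2]
  rcases H.h1 i0 i1 i2 h01 h02 h12 with h | h
  · exact Or.inl (H.all h01 h02 h12 h)
  · right
    have h3 := H.swap.m3 (i := i1) (j := i2) (k := i0) h12 h01.symm h02.symm h
    exact H.swap.all h12.symm h02.symm h01.symm h3

end Cfsg.Agent.Lib.Helper50Comb
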