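import Mathlib
import Cfsg.Agent.Lib.Helper6SL
import Cfsg.Agent.Lib.Helper50Tv
import Cfsg.Agent.Lib.Helper50Root
import Cfsg.Agent.Lib.Helper50Comb
import Cfsg.Agent.Lib.Helper50Aut

set_option autoImplicit false

namespace Cfsg.Agent.Lib.Helper50Data

open Matrix Cfsg.Agent.Lib.Helper50Tv Cfsg.Agent.Lib.Helper50Root Cfsg.Agent.Lib.Helper50Comb
  Cfsg.Agent.Lib.Helper50Aut

variable {F : Type*} [Field F] {n : ℕ}

local notation "SLn" => Matrix.SpecialLinearGroup (Fin n) F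
local notation "Mn" => Matrix (Fin n) (Fin n) F
local notation "tr" => Matrix.SpecialLinearGroup.transvection
local notation "π" => (QuotientGroup.mk : Matrix.SpecialLinearGroup (Fin n) F →
  Matrix.SpecialLinearGroup (Fin n) F ⧸ Subgroup.center (Matrix.SpecialLinearGroup (Fin n) F))

/-- `β` maps the root group `X_ij` to transvections with centre `u i j` and axis `φ i j`. -/
def Data (β : MulAut (Matrix.ProjectiveSpecialLinearGroup (Fin n) F))
    (u φ : Fin n → Fin n → (Fin n → F)) (f : Fin n → Fin n → F → F) : Prop :=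
  ∀ i j (hij : i ≠ j), u i j ≠ 0 ∧ φ i j ≠ 0 ∧ φ i j ⬝ᵥ u i j = 0 ∧
    ∀ a, ∃ h, β (π (tr hij a)) = π (tv (f i j a • u i j) (φ i j) h)

theorem exists_data [Fintype F] (p : ℕ) [Fact p.Prime] [CharP F p]
    (β : MulAut (Matrix.ProjectiveSpecialLinearGroup (Fin n) F)) : ∃ u φ f, Data β u φ f := by
  have h1 : ∀ i j : Fin n, ∃ g : SLn, ∀ (hij : i ≠ j) (a : F), ∃ b,
      β (π (tr hij a)) = π (g * tr hij b * g⁻¹) := by
    intro i j
    by_cases hij : i = j
    · exact ⟨1, fun h => absurd hij h⟩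
    · obtain ⟨g, hg⟩ := root_lemma p β hij
      exact ⟨g, fun _ => hg⟩
  choose g hg using h1
  have h2 : ∀ (i j : Fin n) (a : F), ∃ b, ∀ (hij : i ≠ j),
      β (π (tr hij a)) = π (g i j * tr hij b * (g i j)⁻¹) := by
    intro i j a
    by_cases hij : i = j
    · exact ⟨0, fun h => absurd hij h⟩
    · obtain ⟨b, hb⟩ := hg i j hij a
      exact ⟨b, fun _ => hb⟩
  choose f hf using h2
  refine ⟨fun i j => (g i j : Mn) *ᵥ Pi.single i 1,
    fun i j => Pi.single j 1 ᵥ* (((g i j)⁻¹ : SLn) : Mn), f, ?_⟩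
  intro i j hij
  have e2 : (((g i j)⁻¹ : SLn) : Mn) * (g i j : Mn) = 1 := by
    rw [← Matrix.SpecialLinearGroup.coe_mul, inv_mul_cancel, Matrix.SpecialLinearGroup.coe_one]
  have e3 : (g i j : Mn) * (((g i j)⁻¹ : SLn) : Mn) = 1 := by
    rw [← Matrix.SpecialLinearGroup.coe_mul, mul_inv_cancel, Matrix.SpecialLinearGroup.coe_one]
  refine ⟨?_, ?_, ?_, ?_⟩
  · intro h0
    have := congrArg (fun v => (((g i j)⁻¹ : SLn) : Mn) *ᵥ v) h0
    simp only [mulVec_mulVec, e2, one_mulVec, mulVec_zero] at this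
    have h3 := congrFun this i
    simp at h3
  · intro h0
    have := congrArg (fun v => v ᵥ* (g i j : Mn)) h0
    simp only [vecMul_vecMul, e2, vecMul_one, zero_vecMul] at this
    have h3 := congrFun this j
    simp at h3
  · rw [← dotProduct_mulVec, mulVec_mulVec, e2, one_mulVec]
    simp [hij.symm]
  · intro a
    obtain ⟨h, hh⟩ := transvection_eq_tv hij (f i j a)
    obtain ⟨h', hh'⟩ := conj_tv (g i j) _ _ h
    rw [mulVec_smul] at h'
    refine ⟨h', ?_⟩
    rw [hf i j a hij, hh, hh']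
    congr 2
    rw [mulVec_smul]

variable {β : MulAut (Matrix.ProjectiveSpecialLinearGroup (Fin n) F)}
  {u φ : Fin n → Fin n → (Fin n → F)} {f : Fin n → Fin n → F → F}

theorem transvection_ne_one {i j : Fin n} (hij : i ≠ j) {a : F} (ha : a ≠ 0) : tr hij a ≠ 1 := by
  intro h
  have := congrArg (fun s : SLn => (s : Mn) i j) h
  simp [Matrix.SpecialLinearGroup.transvection_coe, hij] at this
  exact ha this

theorem Data.f_ne_zero (D : Data β u φ f) {i j : Fin n} (hij : i ≠ j) {a : F} (ha : a ≠ 0) :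
    f i j a ≠ 0 := by
  have : Nonempty (Fin n) := ⟨i⟩
  intro h0
  obtain ⟨-, -, -, h⟩ := D i j hij
  obtain ⟨h, hh⟩ := h a
  have h1 : tv (f i j a • u i j) (φ i j) h = 1 := by
    apply Subtype.ext
    rw [tv_coe, h0]
    simp
  rw [h1] at hh
  have h2 : β (π (tr hij a)) = β (π 1) := by
    rw [hh, QuotientGroup.mk_one, map_one]
  have h3 := eq_of_mk_eq _ _ (isU2_transvection hij a) isU2_one (β.injective h2)
  exact transvection_ne_one hij ha h3

theorem transvection_commute {i j k l : Fin n} (hij : i ≠ j) (hkl : k ≠ l) (hjk : j ≠ k)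
    (hil : i ≠ l) (a b : F) : tr hij a * tr hkl b = tr hkl b * tr hij a := by
  obtain ⟨h, hh⟩ := transvection_eq_tv hij a
  obtain ⟨h', hh'⟩ := transvection_eq_tv hkl b
  rw [hh, hh']
  apply commute_of_dot_zero
  · simp [hjk]
  · simp [hil.symm]

theorem transvection_not_commute {i j k : Fin n} (hij : i ≠ j) (hjk : j ≠ k) :
    tr hij (1 : F) * tr hjk 1 ≠ tr hjk 1 * tr hij 1 := by
  obtain ⟨h, hh⟩ := transvection_eq_tv hij (1 : F)
  obtain ⟨h', hh'⟩ := transvection_eq_tv hjk (1 : F)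
  rw [hh, hh']
  intro hc
  have hs : ∀ m : Fin n, (Pi.single m (1 : F) : Fin n → F) ≠ 0 := by
    intro m h0
    have := congrFun h0 m
    simp at this
  have := (dot_zero_of_commute (by rw [one_smul]; exact hs i) (hs j) (by rw [one_smul]; exact hs j)
    (hs k) hc).1
  simp at this

theorem Data.cm (D : Data β u φ f) {i j k l : Fin n} (hij : i ≠ j) (hkl : k ≠ l) (hjk : j ≠ k)
    (hil : i ≠ l) : φ i j ⬝ᵥ u k l = 0 := by
  have : Nonempty (Fin n) := ⟨i⟩
  obtain ⟨hu, hp, -, h⟩ := D i j hij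
  obtain ⟨h, hh⟩ := h 1
  obtain ⟨hu', hp', -, h'⟩ := D k l hkl
  obtain ⟨h', hh'⟩ := h' 1
  have hc : π (tv (f i j 1 • u i j) (φ i j) h) * π (tv (f k l 1 • u k l) (φ k l) h')
      = π (tv (f k l 1 • u k l) (φ k l) h') * π (tv (f i j 1 • u i j) (φ i j) h) := by
    rw [← hh, ← hh', ← map_mul, ← map_mul, ← QuotientGroup.mk_mul, ← QuotientGroup.mk_mul,
      transvection_commute hij hkl hjk hil]
  have hc2 := commute_of_mk_commute _ _ (isU2_tv _ _ _) hc
  have h1 := (dot_zero_of_commute (smul_ne_zero (D.f_ne_zero hij one_ne_zero) hu) hp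
    (smul_ne_zero (D.f_ne_zero hkl one_ne_zero) hu') hp' hc2).1
  rw [dotProduct_smul, smul_eq_mul] at h1
  exact (mul_eq_zero.1 h1).resolve_left (D.f_ne_zero hkl one_ne_zero)

theorem Data.nc (D : Data β u φ f) {i j k : Fin n} (hij : i ≠ j) (hjk : j ≠ k) :
    ¬ (φ i j ⬝ᵥ u j k = 0 ∧ φ j k ⬝ᵥ u i j = 0) := by
  have : Nonempty (Fin n) := ⟨i⟩
  rintro ⟨h1, h2⟩
  obtain ⟨hu, hp, -, h⟩ := D i j hij
  obtain ⟨h, hh⟩ := h 1
  obtain ⟨hu', hp', -, h'⟩ := D j k hjk
  obtain ⟨h', hh'⟩ := h' 1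
  have hc : tv (f i j 1 • u i j) (φ i j) h * tv (f j k 1 • u j k) (φ j k) h'
      = tv (f j k 1 • u j k) (φ j k) h' * tv (f i j 1 • u i j) (φ i j) h := by
    apply commute_of_dot_zero
    · rw [dotProduct_smul, h1, smul_zero]
    · rw [dotProduct_smul, h2, smul_zero]
  have hc2 : β (π (tr hij 1) * π (tr hjk 1)) = β (π (tr hjk 1) * π (tr hij 1)) := by
    rw [map_mul, map_mul, hh, hh', ← QuotientGroup.mk_mul, ← QuotientGroup.mk_mul, hc]
  exact transvection_not_commute hij hjk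
    (commute_of_mk_commute _ _ (isU2_transvection hjk 1) (β.injective hc2))

theorem Data.par_of_conj (D : Data β u φ f) {i j k l r s : Fin n} (hij : i ≠ j) (hkl : k ≠ l)
    (hjk : j ≠ k) (hil : i ≠ l) (hrs : r ≠ s) (c : F) (g : SLn)
    (hg : g * tr hrs c * g⁻¹ = tr hij 1 * tr hkl 1) :
    Par (u i j) (u k l) ∨ Par (φ i j) (φ k l) := by
  have : Nonempty (Fin n) := ⟨i⟩
  obtain ⟨hu, hp, -, h⟩ := D i j hij
  obtain ⟨h, hh⟩ := h 1
  obtain ⟨hu', hp', -, h'⟩ := D k l hkl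
  obtain ⟨h', hh'⟩ := h' 1
  obtain ⟨-, -, -, h''⟩ := D r s hrs
  obtain ⟨h'', hh''⟩ := h'' c
  obtain ⟨g', hg'⟩ := QuotientGroup.mk_surjective (β (π g))
  obtain ⟨h3, hh3⟩ := conj_tv g' _ _ h''
  have e : π (tv (f i j 1 • u i j) (φ i j) h) * π (tv (f k l 1 • u k l) (φ k l) h')
      = π (tv _ _ h3) := by
    rw [← hh3, ← hh, ← hh', ← map_mul, ← QuotientGroup.mk_mul, ← hg, QuotientGroup.mk_mul,
      QuotientGroup.mk_mul, map_mul, map_mul, QuotientGroup.mk_inv, map_inv, hh'', ← hg']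
    rfl
  have h1 : φ i j ⬝ᵥ (f k l 1 • u k l) = 0 := by
    rw [dotProduct_smul, D.cm hij hkl hjk hil, smul_zero]
  have h2 : φ k l ⬝ᵥ (f i j 1 • u i j) = 0 := by
    rw [dotProduct_smul, D.cm hkl hij hil.symm hjk.symm, smul_zero]
  rcases par_of_mul_eq h1 h2 e with hpar | hpar
  · left
    exact Par.of_smul_left (D.f_ne_zero hij one_ne_zero)
      (Par.of_smul_right (D.f_ne_zero hkl one_ne_zero) hpar)
  · exact Or.inr hpar

open scoped commutatorElement in
theorem conj_row {i j k : Fin n} (hij : i ≠ j) (hik : i ≠ k) (hjk : j ≠ k) :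
    tr hjk (-1 : F) * tr hij 1 * (tr hjk (-1))⁻¹ = tr hij 1 * tr hik 1 := by
  have h := Cfsg.Agent.Lib.Helper6SL.commutator_transvection hik hij hjk (-1 : F) (-1)
  have e : tr hij (1 : F) = (tr hij (-1))⁻¹ := by
    rw [Matrix.SpecialLinearGroup.transvection_inv, neg_neg]
  rw [commutatorElement_def, neg_mul_neg, mul_one] at h
  rw [← h, e]
  group

open scoped commutatorElement in
theorem conj_col {i j k : Fin n} (hij : i ≠ j) (hik : i ≠ k) (hjk : j ≠ k) :
    tr hij (1 : F) * tr hjk 1 * (tr hij 1)⁻¹ = tr hik 1 * tr hjk 1 := by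
  have h := Cfsg.Agent.Lib.Helper6SL.commutator_transvection hik hij hjk (1 : F) 1
  rw [commutatorElement_def, mul_one] at h
  rw [← h]
  group

theorem Data.hyp (D : Data β u φ f) : Hyp u φ where
  unz i j hij := (D i j hij).1
  pnz i j hij := (D i j hij).2.1
  cm _ _ _ _ hij hkl hjk hil := D.cm hij hkl hjk hil
  nc _ _ _ hij hjk := D.nc hij hjk
  h1 _ _ _ hij hik hjk := D.par_of_conj hij hik hij.symm hik hij 1 _ (conj_row hij hik hjk)
  h2 _ _ _ hik hjk hij := D.par_of_conj hik hjk hjk.symm hik hjk 1 _ (conj_col hij hik hjk)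

theorem Data.swap (D : Data β u φ f) :
    Data (β * liftAut invT) (fun i j => u j i) (fun i j => φ j i) (fun i j a => f j i (-a)) := by
  intro i j hij
  obtain ⟨hu, hp, h0, h⟩ := D j i hij.symm
  refine ⟨hu, hp, h0, fun a => ?_⟩
  obtain ⟨h, hh⟩ := h (-a)
  refine ⟨h, ?_⟩
  rw [MulAut.mul_apply, liftAut_mk, invT_transvection, hh]

end Cfsg.Agent.Lib.Helper50Data
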