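import Mathlib
import Cfsg.Agent.Lib.Helper6SL
import Cfsg.Agent.Lib.Helper50Tv
import Cfsg.Agent.Lib.Helper50Aut

set_option autoImplicit false

namespace Cfsg.Agent.Lib.Helper50Std

open Matrix Cfsg.Agent.Lib.Helper50Tv Cfsg.Agent.Lib.Helper50Aut

variable {F : Type*} [Field F] {n : ℕ}

local notation "SLn" => Matrix.SpecialLinearGroup (Fin n) F
local notation "Mn" => Matrix (Fin n) (Fin n) F
local notation "tr" => Matrix.SpecialLinearGroup.transvection
local notation "π" => (QuotientGroup.mk : Matrix.SpecialLinearGroup (Fin n) F →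
  Matrix.SpecialLinearGroup (Fin n) F ⧸ Subgroup.center (Matrix.SpecialLinearGroup (Fin n) F))

/-- `β` stabilises every root subgroup -/
def Std (β : MulAut (Matrix.ProjectiveSpecialLinearGroup (Fin n) F))
    (f : Fin n → Fin n → F → F) : Prop :=
  ∀ i j (hij : i ≠ j) (a : F), β (π (tr hij a)) = π (tr hij (f i j a))

theorem tr_inj {i j : Fin n} (hij : i ≠ j) {a b : F} (h : π (tr hij a) = π (tr hij b)) : a = b := by
  have : Nonempty (Fin n) := ⟨i⟩
  have h1 := eq_of_mk_eq _ _ (isU2_transvection hij a) (isU2_transvection hij b) h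
  have := congrArg (fun s : SLn => (s : Mn) i j) h1
  simpa [Matrix.SpecialLinearGroup.transvection_coe, hij] using this

variable {β : MulAut (Matrix.ProjectiveSpecialLinearGroup (Fin n) F)} {f : Fin n → Fin n → F → F}

theorem Std.add (S : Std β f) {i j : Fin n} (hij : i ≠ j) (a b : F) :
    f i j (a + b) = f i j a + f i j b := by
  apply tr_inj hij
  rw [← S i j hij, Matrix.SpecialLinearGroup.transvection_add, Matrix.SpecialLinearGroup.transvection_add,
    QuotientGroup.mk_mul, QuotientGroup.mk_mul, map_mul, S i j hij, S i j hij]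

theorem Std.inj (S : Std β f) {i j : Fin n} (hij : i ≠ j) {a b : F} (h : f i j a = f i j b) :
    a = b := by
  apply tr_inj hij
  apply β.injective
  rw [S i j hij, S i j hij, h]

theorem Std.zero (S : Std β f) {i j : Fin n} (hij : i ≠ j) : f i j 0 = 0 := by
  have := S.add hij 0 0
  rw [add_zero] at this
  exact left_eq_add.1 this

theorem Std.neg (S : Std β f) {i j : Fin n} (hij : i ≠ j) (a : F) : f i j (-a) = - f i j a := by
  have := S.add hij a (-a)
  rw [add_neg_cancel, S.zero hij] at this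
  exact eq_neg_of_add_eq_zero_right this.symm

theorem Std.ne_zero (S : Std β f) {i j : Fin n} (hij : i ≠ j) {a : F} (ha : a ≠ 0) :
    f i j a ≠ 0 := by
  intro h
  rw [← S.zero hij] at h
  exact ha (S.inj hij h)

open scoped commutatorElement in
theorem Std.mul (S : Std β f) {i j k : Fin n} (hij : i ≠ j) (hik : i ≠ k) (hjk : j ≠ k) (a b : F) :
    f i k (a * b) = f i j a * f j k b := by
  apply tr_inj hik
  rw [← S i k hik, ← Cfsg.Agent.Lib.Helper6SL.commutator_transvection hik hij hjk,
    ← Cfsg.Agent.Lib.Helper6SL.commutator_transvection hik hij hjk]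
  simp only [commutatorElement_def, QuotientGroup.mk_mul, QuotientGroup.mk_inv, map_mul, map_inv,
    S i j hij, S j k hjk]

theorem all_eq {α : Type*} (hn : 3 ≤ n) (P : Fin n → Fin n → α)
    (h1 : ∀ i j k, i ≠ j → i ≠ k → j ≠ k → P i j = P i k)
    (h2 : ∀ i j k, i ≠ j → i ≠ k → j ≠ k → P i k = P j k) :
    ∀ i j k l, i ≠ j → k ≠ l → P i j = P k l := by
  intro i j k l hij hkl
  by_cases hil : i = l
  · subst hil
    by_cases hkj : k = j
    · subst hkj
      obtain ⟨m, hm1, hm2⟩ : ∃ m : Fin n, i ≠ m ∧ k ≠ m := by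
        by_contra hcon
        push Not at hcon
        have hsub : (Finset.univ : Finset (Fin n)) ⊆ {i, k} := by
          intro m _
          by_cases hm : i = m
          · simp [hm]
          · simp [hcon m hm]
        have h3 := Finset.card_le_card hsub
        have h4 : ({i, k} : Finset (Fin n)).card ≤ 2 := Finset.card_le_two
        simp at h3
        omega
      rw [h1 i k m hij hm1 hm2, h2 i k m hij hm1 hm2, h1 k m i hm2 hkl (Ne.symm hm1)]
    · rw [h2 i k j (Ne.symm hkl) hij hkj, h1 k j i hkj hkl (Ne.symm hij)]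
  · have e1 : P i j = P i l := by
      by_cases hjl : j = l
      · rw [hjl]
      · exact h1 i j l hij hil hjl
    have e2 : P i l = P k l := by
      by_cases hik : i = k
      · rw [hik]
      · exact h2 i k l hik hil hkl
    rw [e1, e2]

/-- the shape of the maps `f i j` for `n ≥ 3` -/
theorem Std.shape_three [Finite F] (S : Std β f) (hn : 3 ≤ n) :
    ∃ (lam : Fin n → F) (σ : F ≃+* F), (∀ i, lam i ≠ 0) ∧
      ∀ i j, i ≠ j → ∀ a, f i j a = lam i * σ a * (lam j)⁻¹ := by
  let i0 : Fin n := ⟨0, by omega⟩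
  let i1 : Fin n := ⟨1, by omega⟩
  let i2 : Fin n := ⟨2, by omega⟩
  have h01 : i0 ≠ i1 := by simp [i0, i1]
  have h02 : i0 ≠ i2 := by simp [i0, i2]
  have h12 : i1 ≠ i2 := by simp [i1, i2]
  set d : Fin n → Fin n → F := fun i j => f i j 1 with hd
  have dnz : ∀ i j, i ≠ j → d i j ≠ 0 := fun i j hij => S.ne_zero hij one_ne_zero
  have m1 : ∀ i j k, i ≠ j → i ≠ k → j ≠ k → ∀ a, f i k a = f i j a * d j k := by
    intro i j k hij hik hjk a
    have := S.mul hij hik hjk a 1
    rwa [mul_one] at this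
  have m2 : ∀ i j k, i ≠ j → i ≠ k → j ≠ k → ∀ a, f i k a = d i j * f j k a := by
    intro i j k hij hik hjk a
    have := S.mul hij hik hjk 1 a
    rwa [one_mul] at this
  have dd : ∀ i j k, i ≠ j → i ≠ k → j ≠ k → d i k = d i j * d j k :=
    fun i j k hij hik hjk => m1 i j k hij hik hjk 1
  have hP := all_eq hn (fun i j => fun a => f i j a / d i j)
    (by
      intro i j k hij hik hjk
      funext a
      rw [m1 i j k hij hik hjk a, dd i j k hij hik hjk]
      have := dnz i j hij
      have := dnz j k hjk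
      field_simp)
    (by
      intro i j k hij hik hjk
      funext a
      rw [m2 i j k hij hik hjk a, dd i j k hij hik hjk]
      have := dnz i j hij
      have := dnz j k hjk
      field_simp)
  set σ0 : F → F := fun a => f i0 i1 a / d i0 i1 with hσ0
  have hf : ∀ i j, i ≠ j → ∀ a, f i j a = d i j * σ0 a := by
    intro i j hij a
    have := congrFun (hP i j i0 i1 hij h01) a
    rw [hσ0]
    simp only
    rw [← this]
    have := dnz i j hij
    field_simp
  have hmul : ∀ a b, σ0 (a * b) = σ0 a * σ0 b := by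
    intro a b
    have e := S.mul h02 h01 h12.symm a b
    rw [hf _ _ h01, hf _ _ h02, hf _ _ h12.symm, dd i0 i2 i1 h02 h01 h12.symm] at e
    have h1 := dnz _ _ h02
    have h2 := dnz _ _ h12.symm
    have : d i0 i2 * d i2 i1 * σ0 (a * b) = d i0 i2 * d i2 i1 * (σ0 a * σ0 b) := by
      rw [e]; ring
    exact mul_left_cancel₀ (mul_ne_zero h1 h2) this
  have hadd : ∀ a b, σ0 (a + b) = σ0 a + σ0 b := by
    intro a b
    simp only [hσ0]
    rw [S.add h01, add_div]
  have hone : σ0 1 = 1 := div_self (dnz _ _ h01)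
  have hzero : σ0 0 = 0 := by
    simp only [hσ0]
    rw [S.zero h01, zero_div]
  let σ1 : F →+* F :=
    { toFun := σ0, map_one' := hone, map_mul' := hmul, map_zero' := hzero, map_add' := hadd }
  have hbij : Function.Bijective σ1 := Finite.injective_iff_bijective.1 σ1.injective
  have dinv : ∀ i j, i ≠ j → d i j * d j i = 1 := by
    intro i j hij
    obtain ⟨k, hik, hjk⟩ : ∃ m : Fin n, i ≠ m ∧ j ≠ m := by
      by_contra hcon
      push Not at hcon
      have hsub : (Finset.univ : Finset (Fin n)) ⊆ {i, j} := by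
        intro m _
        by_cases hm : i = m
        · simp [hm]
        · simp [hcon m hm]
      have h3 := Finset.card_le_card hsub
      have h4 : ({i, j} : Finset (Fin n)).card ≤ 2 := Finset.card_le_two
      simp at h3
      omega
    have e1 := dd i j k hij hik hjk
    have e2 := dd j i k hij.symm hjk hik
    rw [e2, ← mul_assoc] at e1
    exact (mul_eq_right₀ (dnz i k hik)).1 e1.symm
  refine ⟨fun i => if i = i0 then 1 else d i i0, RingEquiv.ofBijective σ1 hbij, ?_, ?_⟩
  · intro i
    by_cases hi : i = i0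
    · simp [hi]
    · simp only [if_neg hi]; exact dnz _ _ hi
  · intro i j hij a
    show f i j a = _ * σ0 a * _
    rw [hf i j hij]
    by_cases hi : i = i0
    · have hj : j ≠ i0 := fun h => hij (hi.trans h.symm)
      simp only [if_pos hi, if_neg hj]
      have := dinv i0 j (Ne.symm hj)
      have h1 := dnz j i0 hj
      rw [hi]
      field_simp
      linear_combination σ0 a * this
    · by_cases hj : j = i0
      · simp only [if_neg hi, if_pos hj]
        rw [hj]; simp
      · simp only [if_neg hi, if_neg hj]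
        have := dd i j i0 hij hi hj
        have h1 := dnz j i0 hj
        rw [this]
        field_simp

theorem mul_of_sq [Finite F] (σ : F → F) (hadd : ∀ a b, σ (a + b) = σ a + σ b) (h1 : σ 1 = 1)
    (hsq : ∀ a s, σ (a ^ 2 * s) = σ a ^ 2 * σ s) : ∀ a b, σ (a * b) = σ a * σ b := by
  intro a b
  by_cases h2 : (2 : F) = 0
  · have hc : ringChar F = 2 :=
      CharP.ringChar_of_prime_eq_zero Nat.prime_two (by exact_mod_cast h2)
    obtain ⟨c, rfl⟩ := FiniteField.isSquare_of_char_two hc a
    have e1 := hsq c b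
    have e2 := hsq c 1
    rw [mul_one, h1, mul_one] at e2
    rw [← pow_two, e1, e2]
  · have e1 := hsq (a + 1) b
    have e2 := hsq a b
    have : (a + 1) ^ 2 * b = a ^ 2 * b + (a * b + a * b) + b := by ring
    rw [this, hadd, hadd, hadd, hadd, h1, e2] at e1
    have : 2 * σ (a * b) = 2 * (σ a * σ b) := by linear_combination e1
    exact mul_left_cancel₀ h2 this

theorem X_coe (h : (0 : Fin 2) ≠ 1) (a : F) :
    (Matrix.SpecialLinearGroup.transvection h a : Matrix (Fin 2) (Fin 2) F) = !![1, a; 0, 1] := by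
  rw [Matrix.SpecialLinearGroup.transvection_coe]
  ext i j
  fin_cases i <;> fin_cases j <;> simp

theorem Y_coe (h : (1 : Fin 2) ≠ 0) (a : F) :
    (Matrix.SpecialLinearGroup.transvection h a : Matrix (Fin 2) (Fin 2) F) = !![1, 0; a, 1] := by
  rw [Matrix.SpecialLinearGroup.transvection_coe]
  ext i j
  fin_cases i <;> fin_cases j <;> simp

theorem w_rel (h : (0 : Fin 2) ≠ 1) (h' : (1 : Fin 2) ≠ 0) {a : F} (ha : a ≠ 0) (t : F) :
    (Matrix.SpecialLinearGroup.transvection h a * Matrix.SpecialLinearGroup.transvection h' (-a⁻¹)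
      * Matrix.SpecialLinearGroup.transvection h a) * Matrix.SpecialLinearGroup.transvection h t
    = Matrix.SpecialLinearGroup.transvection h' (-((a⁻¹) ^ 2 * t)) *
      (Matrix.SpecialLinearGroup.transvection h a * Matrix.SpecialLinearGroup.transvection h' (-a⁻¹)
      * Matrix.SpecialLinearGroup.transvection h a) := by
  apply Subtype.ext
  simp only [Matrix.SpecialLinearGroup.coe_mul, X_coe, Y_coe, Matrix.mul_fin_two]
  have e : a * a⁻¹ = 1 := mul_inv_cancel₀ ha
  have e0 : 1 + a * -a⁻¹ = 0 := by rw [mul_neg, e]; ring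
  simp only [mul_one, mul_zero, add_zero, zero_add, one_mul, zero_mul, e0]
  have e1 : -a⁻¹ * t = -(a⁻¹ ^ 2 * t) * a := by linear_combination (a⁻¹ * t) * e
  rw [e1]

theorem Std.two_rel {β : MulAut (Matrix.ProjectiveSpecialLinearGroup (Fin 2) F)}
    {f : Fin 2 → Fin 2 → F → F} (S : Std β f) {a : F} (ha : a ≠ 0) (t : F) :
    (1 + f 0 1 a * f 1 0 (-a⁻¹)) * f 0 1 t = 0 ∧
    f 1 0 (-a⁻¹) * f 0 1 t = f 1 0 (-((a⁻¹) ^ 2 * t)) *
      ((1 + f 0 1 a * f 1 0 (-a⁻¹)) * f 0 1 a + f 0 1 a) := by
  have h : (0 : Fin 2) ≠ 1 := by decide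
  have h' : (1 : Fin 2) ≠ 0 := by decide
  have e := congrArg (fun s : Matrix.SpecialLinearGroup (Fin 2) F => β (QuotientGroup.mk s))
    (w_rel h h' ha t)
  simp only [QuotientGroup.mk_mul, map_mul, S 0 1 h, S 1 0 h'] at e
  simp only [← QuotientGroup.mk_mul] at e
  set M := Matrix.SpecialLinearGroup.transvection h (f 0 1 a) *
    Matrix.SpecialLinearGroup.transvection h' (f 1 0 (-a⁻¹)) *
    Matrix.SpecialLinearGroup.transvection h (f 0 1 a) with hM
  have e2 : (QuotientGroup.mk (M * Matrix.SpecialLinearGroup.transvection h (f 0 1 t) * M⁻¹) :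
      Matrix.SpecialLinearGroup (Fin 2) F ⧸ Subgroup.center (Matrix.SpecialLinearGroup (Fin 2) F))
      = QuotientGroup.mk (Matrix.SpecialLinearGroup.transvection h' (f 1 0 (-((a⁻¹) ^ 2 * t)))) := by
    rw [QuotientGroup.mk_mul, e, QuotientGroup.mk_mul, QuotientGroup.mk_inv, mul_inv_cancel_right]
  have e3 := eq_of_mk_eq _ _ (isU2_conj _ _ (isU2_transvection h _)) (isU2_transvection h' _) e2
  have e4 : M * Matrix.SpecialLinearGroup.transvection h (f 0 1 t)
      = Matrix.SpecialLinearGroup.transvection h' (f 1 0 (-((a⁻¹) ^ 2 * t))) * M := by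
    rw [← e3]; group
  have e5 := congrArg (fun s : Matrix.SpecialLinearGroup (Fin 2) F => (s : Matrix (Fin 2) (Fin 2) F)) e4
  simp only [hM, Matrix.SpecialLinearGroup.coe_mul, X_coe, Y_coe, Matrix.mul_fin_two] at e5
  have e01 := congrFun (congrFun e5 0) 1
  have e11 := congrFun (congrFun e5 1) 1
  simp at e01 e11
  constructor
  · exact mul_eq_zero.2 e01
  · rw [inv_pow]; exact e11

/-- the shape of the maps `f i j` for `n = 2` -/
theorem Std.shape_two [Finite F] {β : MulAut (Matrix.ProjectiveSpecialLinearGroup (Fin 2) F)}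
    {f : Fin 2 → Fin 2 → F → F} (S : Std β f) :
    ∃ (lam : Fin 2 → F) (σ : F ≃+* F), (∀ i, lam i ≠ 0) ∧
      ∀ i j, i ≠ j → ∀ a, f i j a = lam i * σ a * (lam j)⁻¹ := by
  have h : (0 : Fin 2) ≠ 1 := by decide
  have h' : (1 : Fin 2) ≠ 0 := by decide
  set d : F := f 0 1 1 with hd
  have dnz : d ≠ 0 := S.ne_zero h one_ne_zero
  -- relations
  have r1 : ∀ a, a ≠ 0 → 1 + f 0 1 a * f 1 0 (-a⁻¹) = 0 := by
    intro a ha
    exact (mul_eq_zero.1 (S.two_rel ha 1).1).resolve_right dnz
  have r2 : ∀ a, a ≠ 0 → ∀ t, f 1 0 ((a⁻¹) ^ 2 * t) * f 0 1 a ^ 2 = f 0 1 t := by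
    intro a ha t
    have e := (S.two_rel ha t).2
    have e1 := r1 a ha
    rw [e1, zero_mul, zero_add, S.neg h' (a⁻¹ ^ 2 * t)] at e
    linear_combination f 0 1 a * e - f 0 1 t * e1
  have r3 : ∀ t, f 1 0 t = f 0 1 t / d ^ 2 := by
    intro t
    have := r2 1 one_ne_zero t
    rw [inv_one, one_pow, one_mul, ← hd] at this
    rw [← this]
    field_simp
  set σ0 : F → F := fun a => f 0 1 a / d with hσ0
  have hadd : ∀ a b, σ0 (a + b) = σ0 a + σ0 b := by
    intro a b
    simp only [hσ0]
    rw [S.add h, add_div]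
  have hone : σ0 1 = 1 := div_self dnz
  have hzero : σ0 0 = 0 := by
    simp only [hσ0]
    rw [S.zero h, zero_div]
  have hsq : ∀ a s, σ0 (a ^ 2 * s) = σ0 a ^ 2 * σ0 s := by
    intro a s
    by_cases ha : a = 0
    · subst ha
      simp [hzero]
    · have e := r2 a ha (a ^ 2 * s)
      have e1 : a⁻¹ ^ 2 * (a ^ 2 * s) = s := by field_simp
      rw [e1, r3] at e
      simp only [hσ0]
      rw [← e]
      field_simp
  have hmul := mul_of_sq σ0 hadd hone hsq
  let σ1 : F →+* F :=
    { toFun := σ0, map_one' := hone, map_mul' := hmul, map_zero' := hzero, map_add' := hadd }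
  have hbij : Function.Bijective σ1 := Finite.injective_iff_bijective.1 σ1.injective
  refine ⟨![d, 1], RingEquiv.ofBijective σ1 hbij, ?_, ?_⟩
  · intro i
    fin_cases i
    · exact dnz
    · exact one_ne_zero
  · intro i j hij a
    show f i j a = _ * σ0 a * _
    fin_cases i <;> fin_cases j
    · exact absurd rfl hij
    · simp [hσ0]
      field_simp
    · simp [hσ0]
      rw [r3]
      field_simp
    · exact absurd rfl hij

/-- diagonal element of `GL` -/
def diagGL (lam : Fin n → F) (h : ∀ i, lam i ≠ 0) : GL (Fin n) F :=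
  ⟨Matrix.diagonal lam, Matrix.diagonal (fun i => (lam i)⁻¹),
    by rw [Matrix.diagonal_mul_diagonal]; simp [h],
    by rw [Matrix.diagonal_mul_diagonal]; simp [h]⟩

theorem conjGL_diag_transvection (lam : Fin n → F) (h : ∀ i, lam i ≠ 0) {i j : Fin n} (hij : i ≠ j)
    (b : F) : conjGL (diagGL lam h) (tr hij b) = tr hij (lam i * b * (lam j)⁻¹) := by
  apply Subtype.ext
  rw [conjGL_coe, Matrix.SpecialLinearGroup.transvection_coe, Matrix.SpecialLinearGroup.transvection_coe]
  show Matrix.diagonal lam * (1 + Matrix.single i j b) * Matrix.diagonal (fun i => (lam i)⁻¹) = _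
  ext x y
  rw [Matrix.mul_diagonal, Matrix.diagonal_mul]
  simp only [Matrix.add_apply, Matrix.one_apply, Matrix.single_apply]
  by_cases hxy : x = y
  · subst hxy
    have : ¬ (i = x ∧ j = x) := by rintro ⟨rfl, h⟩; exact hij h.symm
    simp [this, h x]
  · by_cases h2 : i = x ∧ j = y
    · obtain ⟨rfl, rfl⟩ := h2
      simp [hxy]
    · simp [hxy, h2]

theorem Std.eq_of_shape (hn : 2 ≤ n) (S : Std β f) (lam : Fin n → F) (σ : F ≃+* F)
    (h : ∀ i, lam i ≠ 0) (hf : ∀ i j, i ≠ j → ∀ a, f i j a = lam i * σ a * (lam j)⁻¹) :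
    β = liftAut (conjGL (diagGL lam h)) * liftAut (mapEquiv σ) := by
  apply ext_transvection hn
  intro i j hij a
  rw [S i j hij, MulAut.mul_apply, liftAut_mk, liftAut_mk, mapEquiv_transvection,
    conjGL_diag_transvection, hf i j hij]

theorem Std.exists_eq [Finite F] (hn : 2 ≤ n) (S : Std β f) :
    ∃ (g : GL (Fin n) F) (σ : F ≃+* F), β = liftAut (conjGL g) * liftAut (mapEquiv σ) := by
  rcases Nat.lt_or_ge 2 n with h3 | h2
  · obtain ⟨lam, σ, h, hf⟩ := S.shape_three h3
    exact ⟨_, σ, S.eq_of_shape hn lam σ h hf⟩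
  · have hn2 : n = 2 := le_antisymm h2 hn
    subst hn2
    obtain ⟨lam, σ, h, hf⟩ := S.shape_two
    exact ⟨_, σ, S.eq_of_shape hn lam σ h hf⟩

end Cfsg.Agent.Lib.Helper50Std
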