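import Mathlib
import Cfsg.Agent.Lib.Helper50Tv
import Cfsg.Agent.Lib.Helper50Comb
import Cfsg.Agent.Lib.Helper50Aut
import Cfsg.Agent.Lib.Helper50Data

set_option autoImplicit false

namespace Cfsg.Agent.Lib.Helper50Str

open Matrix Cfsg.Agent.Lib.Helper50Tv Cfsg.Agent.Lib.Helper50Comb
  Cfsg.Agent.Lib.Helper50Aut Cfsg.Agent.Lib.Helper50Data

variable {F : Type*} [Field F] {n : ℕ}

local notation "SLn" => Matrix.SpecialLinearGroup (Fin n) F
local notation "Mn" => Matrix (Fin n) (Fin n) F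
local notation "tr" => Matrix.SpecialLinearGroup.transvection
local notation "π" => (QuotientGroup.mk : Matrix.SpecialLinearGroup (Fin n) F →
  Matrix.SpecialLinearGroup (Fin n) F ⧸ Subgroup.center (Matrix.SpecialLinearGroup (Fin n) F))

theorem conjGL_tv (g : GL (Fin n) F) (u φ : Fin n → F) (h : φ ⬝ᵥ u = 0) :
    ∃ h', conjGL g (tv u φ h) = tv ((g : Mn) *ᵥ u) (φ ᵥ* ((g⁻¹ : GL (Fin n) F) : Mn)) h' := by
  have h' : (φ ᵥ* ((g⁻¹ : GL (Fin n) F) : Mn)) ⬝ᵥ ((g : Mn) *ᵥ u) = 0 := by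
    rw [← dotProduct_mulVec, mulVec_mulVec, gl_inv_mul, one_mulVec, h]
  refine ⟨h', Subtype.ext ?_⟩
  rw [conjGL_coe]
  simp only [tv_coe, mul_add, add_mul, mul_one, gl_mul_inv, mul_vecMulVec, vecMulVec_mul]

theorem par_of_dim_two (ψ v w : Fin 2 → F) (hψ : ψ ≠ 0) (h1 : ψ ⬝ᵥ v = 0) (h2 : ψ ⬝ᵥ w = 0) :
    Par v w := by
  simp only [dotProduct, Fin.sum_univ_two] at h1 h2
  have key : v 0 * w 1 = w 0 * v 1 := by
    by_contra hne
    apply hψ
    have hd : v 0 * w 1 - w 0 * v 1 ≠ 0 := sub_ne_zero.2 hne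
    have e0 : ψ 0 * (v 0 * w 1 - w 0 * v 1) = 0 := by linear_combination w 1 * h1 - v 1 * h2
    have e1 : ψ 1 * (v 0 * w 1 - w 0 * v 1) = 0 := by linear_combination v 0 * h2 - w 0 * h1
    funext a
    fin_cases a
    · exact (mul_eq_zero.1 e0).resolve_right hd
    · exact (mul_eq_zero.1 e1).resolve_right hd
  intro a b
  fin_cases a <;> fin_cases b
  · exact mul_comm _ _
  · exact key
  · show v 1 * w 0 = w 1 * v 0
    linear_combination -key
  · exact mul_comm _ _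

/-- the first alternative of the dichotomy -/
def Case1 (u φ : Fin n → Fin n → (Fin n → F)) : Prop :=
  (∀ a b c, a ≠ b → a ≠ c → Par (u a b) (u a c)) ∧
      (∀ a b c, a ≠ c → b ≠ c → Par (φ a c) (φ b c))

theorem case1_of_two (u φ : Fin 2 → Fin 2 → (Fin 2 → F)) : Case1 u φ := by
  constructor
  · intro a b c hab hac
    have : b = c := by omega
    rw [this]; exact Par.refl _
  · intro a b c hac hbc
    have : a = b := by omega
    rw [this]; exact Par.refl _

variable {β : MulAut (Matrix.ProjectiveSpecialLinearGroup (Fin n) F)}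
  {u φ : Fin n → Fin n → (Fin n → F)} {f : Fin n → Fin n → F → F}

theorem straighten (hn : 2 ≤ n) (D : Data β u φ f) (hC : Case1 u φ) :
    ∃ g : GL (Fin n) F, ∀ i j (hij : i ≠ j) (a : F), ∃ b,
      β (π (tr hij a)) = liftAut (conjGL g) (π (tr hij b)) := by
  have H := D.hyp
  obtain ⟨s, hs⟩ : ∃ s : Fin n → Fin n, ∀ i, s i ≠ i := by
    refine ⟨fun i => if i = ⟨0, by omega⟩ then ⟨1, by omega⟩ else ⟨0, by omega⟩, fun i => ?_⟩
    by_cases h : i = ⟨0, by omega⟩
    · dsimp only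
      rw [if_pos h, h]; simp
    · dsimp only
      rw [if_neg h]; exact Ne.symm h
  set U : Fin n → (Fin n → F) := fun i => u i (s i) with hU
  set Φ : Fin n → (Fin n → F) := fun j => φ (s j) j with hΦ
  have hUnz : ∀ i, U i ≠ 0 := fun i => H.unz _ _ (hs i).symm
  have hΦnz : ∀ i, Φ i ≠ 0 := fun i => H.pnz _ _ (hs i)
  have pU : ∀ i j, i ≠ j → Par (U i) (u i j) := fun i j hij => hC.1 i (s i) j (hs i).symm hij
  have pΦ : ∀ i j, i ≠ j → Par (Φ j) (φ i j) := fun i j hij => hC.2 (s j) i j (hs j) hij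
  have hb : ∀ i j, i ≠ j → Φ j ⬝ᵥ U i = 0 := by
    intro i j hij
    have h0 : φ i j ⬝ᵥ u i j = 0 := (D i j hij).2.2.1
    exact (pΦ i j hij).symm.dot_left (H.pnz i j hij)
      ((pU i j hij).symm.dot_right (H.unz i j hij) h0)
  have hc : ∀ j, Φ j ⬝ᵥ U j ≠ 0 := by
    intro j h0
    rcases Nat.lt_or_ge 2 n with h3 | h2
    · obtain ⟨i, k, hij, hjk, hik⟩ : ∃ i k : Fin n, i ≠ j ∧ j ≠ k ∧ i ≠ k := by
        have hcard : 2 < (Finset.univ : Finset (Fin n)).card := by simpa using h3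
        obtain ⟨i, hi⟩ : ∃ i, i ∈ (Finset.univ : Finset (Fin n)) \ {j} := by
          apply Finset.card_pos.1
          have := Finset.le_card_sdiff ({j} : Finset (Fin n)) Finset.univ
          simp only [Finset.card_singleton] at this
          omega
        obtain ⟨k, hk⟩ : ∃ k, k ∈ (Finset.univ : Finset (Fin n)) \ {j, i} := by
          apply Finset.card_pos.1
          have := Finset.le_card_sdiff ({j, i} : Finset (Fin n)) Finset.univ
          have h2 : ({j, i} : Finset (Fin n)).card ≤ 2 := Finset.card_le_two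
          omega
        simp only [Finset.mem_sdiff, Finset.mem_univ, true_and, Finset.mem_singleton,
          Finset.mem_insert, not_or] at hi hk
        exact ⟨i, k, hi, Ne.symm hk.1, Ne.symm hk.2⟩
      apply H.nc i j k hij hjk
      constructor
      · exact (pΦ i j hij).dot_left (hΦnz j) ((pU j k hjk).dot_right (hUnz j) h0)
      · exact (pΦ j k hjk).dot_left (hΦnz k) ((pU i j hij).dot_right (hUnz i) (hb i k hik))
    · have hn2 : n = 2 := le_antisymm h2 hn
      subst hn2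
      have hsj := hs j
      have hpar : Par (U (s j)) (U j) := par_of_dim_two (Φ j) _ _ (hΦnz j) (hb _ _ hsj) h0
      have h1 : Φ (s j) ⬝ᵥ U (s j) = 0 := hpar.symm.dot_right (hUnz j) (hb _ _ hsj.symm)
      apply H.nc (s j) j (s j) hsj hsj.symm
      constructor
      · exact (pΦ _ j hsj).dot_left (hΦnz j) ((pU j _ hsj.symm).dot_right (hUnz j) h0)
      · exact (pΦ j _ hsj.symm).dot_left (hΦnz _) ((pU _ j hsj).dot_right (hUnz _) h1)
  let g0 : Mn := Matrix.of fun a b => U b a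
  let h0 : Mn := Matrix.of fun a b => (Φ a ⬝ᵥ U a)⁻¹ * Φ a b
  have hg : h0 * g0 = 1 := by
    ext a b
    rw [Matrix.mul_apply]
    simp only [g0, h0, Matrix.of_apply, mul_assoc]
    rw [← Finset.mul_sum]
    have : ∑ c, Φ a c * U b c = Φ a ⬝ᵥ U b := rfl
    rw [this]
    by_cases hab : a = b
    · subst hab
      rw [Matrix.one_apply_eq, inv_mul_cancel₀ (hc a)]
    · rw [Matrix.one_apply_ne hab, hb b a (Ne.symm hab), mul_zero]
  let g : GL (Fin n) F := ⟨g0, h0, _root_.mul_eq_one_comm.1 hg, hg⟩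
  refine ⟨g, fun i j hij a => ?_⟩
  obtain ⟨c, hc1⟩ := (pU i j hij).exists_smul (hUnz i)
  obtain ⟨d, hd1⟩ := (pΦ i j hij).exists_smul (hΦnz j)
  obtain ⟨h, hh⟩ := (D i j hij).2.2.2 a
  refine ⟨f i j a * c * d * (Φ j ⬝ᵥ U j), ?_⟩
  obtain ⟨h1, hh1⟩ := transvection_eq_tv hij (f i j a * c * d * (Φ j ⬝ᵥ U j))
  obtain ⟨h2, hh2⟩ := conjGL_tv g _ _ h1
  rw [hh, liftAut_mk, hh1, hh2]
  congr 1
  apply Subtype.ext
  rw [tv_coe, tv_coe]
  congr 1
  have e1 : (g : Mn) *ᵥ Pi.single i 1 = U i := by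
    rw [Matrix.mulVec_single_one]
    rfl
  have e2 : Pi.single j 1 ᵥ* ((g⁻¹ : GL (Fin n) F) : Mn) = (Φ j ⬝ᵥ U j)⁻¹ • Φ j := by
    rw [Matrix.single_one_vecMul]
    rfl
  rw [mulVec_smul, e1, e2, hc1, hd1]
  simp only [smul_vecMulVec, vecMulVec_smul, smul_smul]
  congr 1
  field_simp [hc j]

end Cfsg.Agent.Lib.Helper50Str
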