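import Mathlib
import Cfsg.Agent.Lib.Helper50Tv
import Cfsg.Agent.Lib.Helper50Comb
import Cfsg.Agent.Lib.Helper50Aut
import Cfsg.Agent.Lib.Helper50Data
import Cfsg.Agent.Lib.Helper50Str
import Cfsg.Agent.Lib.Helper50Std

set_option autoImplicit false

namespace Cfsg.Agent.Lib.Helper50Main

open Matrix Cfsg.Agent.Lib.Helper50Tv Cfsg.Agent.Lib.Helper50Comb
  Cfsg.Agent.Lib.Helper50Aut Cfsg.Agent.Lib.Helper50Data Cfsg.Agent.Lib.Helper50Str
  Cfsg.Agent.Lib.Helper50Std

variable {F : Type*} [Field F] {n : ℕ}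

local notation "SLn" => Matrix.SpecialLinearGroup (Fin n) F
local notation "Mn" => Matrix (Fin n) (Fin n) F
local notation "tr" => Matrix.SpecialLinearGroup.transvection
local notation "π" => (QuotientGroup.mk : Matrix.SpecialLinearGroup (Fin n) F →
  Matrix.SpecialLinearGroup (Fin n) F ⧸ Subgroup.center (Matrix.SpecialLinearGroup (Fin n) F))

theorem of_case1 [Finite F] (hn : 2 ≤ n) {β : MulAut (Matrix.ProjectiveSpecialLinearGroup (Fin n) F)}
    {u φ : Fin n → Fin n → (Fin n → F)} {f : Fin n → Fin n → F → F}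
    (D : Data β u φ f) (hC : Case1 u φ) :
    ∃ (g : GL (Fin n) F) (σ : F ≃+* F), β = liftAut (conjGL g) * liftAut (mapEquiv σ) := by
  obtain ⟨g, hg⟩ := straighten hn D hC
  have h2 : ∀ (i j : Fin n) (a : F), ∃ b, ∀ (hij : i ≠ j),
      β (π (tr hij a)) = liftAut (conjGL g) (π (tr hij b)) := by
    intro i j a
    by_cases hij : i = j
    · exact ⟨0, fun h => absurd hij h⟩
    · obtain ⟨b, hb⟩ := hg i j hij a
      exact ⟨b, fun _ => hb⟩
  choose f' hf' using h2
  have S : Std ((liftAut (conjGL g))⁻¹ * β) f' := by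
    intro i j hij a
    rw [MulAut.mul_apply, hf' i j a hij, MulAut.inv_apply_self]
  obtain ⟨g', σ, h⟩ := S.exists_eq hn
  refine ⟨g * g', σ, ?_⟩
  rw [← lift_conjGL_mul, mul_assoc, ← h, mul_inv_cancel_left]

/-- **The automorphisms of `PSL_n(F)`**, `F` a finite field, `n ≥ 2`. -/
theorem aut_psl [Fintype F] (hn : 2 ≤ n)
    (β : MulAut (Matrix.ProjectiveSpecialLinearGroup (Fin n) F)) :
    ∃ (g : GL (Fin n) F) (σ : F ≃+* F), β = liftAut (conjGL g) * liftAut (mapEquiv σ) ∨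
      β = liftAut (conjGL g) * liftAut (mapEquiv σ) * liftAut invT := by
  have hp : Fact (ringChar F).Prime := ⟨CharP.char_is_prime F (ringChar F)⟩
  obtain ⟨u, φ, f, D⟩ := exists_data (ringChar F) β
  rcases Nat.lt_or_ge 2 n with h3 | h2
  · rcases D.hyp.dichotomy h3 with hC | hC
    · obtain ⟨g, σ, h⟩ := of_case1 hn D hC
      exact ⟨g, σ, Or.inl h⟩
    · obtain ⟨g, σ, h⟩ := of_case1 hn D.swap hC
      refine ⟨g, σ, Or.inr ?_⟩
      rw [← h, mul_assoc, lift_invT_mul_self, mul_one]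
  · have hn2 : n = 2 := le_antisymm h2 hn
    subst hn2
    obtain ⟨g, σ, h⟩ := of_case1 hn D (case1_of_two u φ)
    exact ⟨g, σ, Or.inl h⟩

end Cfsg.Agent.Lib.Helper50Main
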