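import Mathlib
import Cfsg.Prelude
import Cfsg.Agent.Lib.Helper50Tv
import Cfsg.Agent.Lib.Helper50Aut
import Cfsg.Agent.Lib.Helper50Str
import Cfsg.Agent.Lib.Helper50Main

set_option autoImplicit false

namespace Cfsg.Agent.Lib.Helper50AutStr

open Matrix Cfsg.Agent.Lib.Helper50Tv Cfsg.Agent.Lib.Helper50Aut Cfsg.Agent.Lib.Helper50Str
  Cfsg.Agent.Lib.Helper50Main

variable {F : Type*} [Field F] {n : ℕ}

local notation "SLn" => Matrix.SpecialLinearGroup (Fin n) F
local notation "Mn" => Matrix (Fin n) (Fin n) F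
local notation "tr" => Matrix.SpecialLinearGroup.transvection
local notation "π" => (QuotientGroup.mk : Matrix.SpecialLinearGroup (Fin n) F →
  Matrix.SpecialLinearGroup (Fin n) F ⧸ Subgroup.center (Matrix.SpecialLinearGroup (Fin n) F))
local notation "AutP" => MulAut (Matrix.ProjectiveSpecialLinearGroup (Fin n) F)

/-- `GL → Aut(PSL)` -/
noncomputable def cHom : GL (Fin n) F →* AutP :=
  MonoidHom.mk' (fun g => liftAut (conjGL g)) (fun g h => (lift_conjGL_mul g h).symm)

theorem cHom_apply (g : GL (Fin n) F) : cHom g = liftAut (conjGL g) := rfl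

/-- `Aut(F) → Aut(PSL)` -/
noncomputable def fHom : (F ≃+* F) →* AutP :=
  MonoidHom.mk' (fun σ => liftAut (mapEquiv σ)) (fun σ τ => by
    rw [liftAut_mul]
    rfl)

theorem fHom_apply (σ : F ≃+* F) : fHom (n := n) σ = liftAut (mapEquiv σ) := rfl

/-- the inverse transpose automorphism -/
noncomputable def iota : AutP := liftAut invT

theorem iota_mul_self : (iota : AutP) * iota = 1 := lift_invT_mul_self

theorem iota_inv : (iota : AutP)⁻¹ = iota := inv_eq_of_mul_eq_one_left iota_mul_self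

theorem fHom_mul_cHom (σ : F ≃+* F) (g : GL (Fin n) F) :
    fHom σ * cHom g = cHom (Matrix.GeneralLinearGroup.map (σ : F →+* F) g) * fHom σ := by
  ext x
  obtain ⟨s, rfl⟩ := QuotientGroup.mk_surjective x
  simp only [MulAut.mul_apply, fHom_apply, cHom_apply, liftAut_mk]
  congr 1
  apply Subtype.ext
  rw [mapEquiv_coe, conjGL_coe, conjGL_coe, mapEquiv_coe, ← Matrix.GeneralLinearGroup.map_inv]
  show ((g : Mn) * (s : Mn) * ((g⁻¹ : GL (Fin n) F) : Mn)).map (σ : F →+* F) =
    (g : Mn).map (σ : F →+* F) * (s : Mn).map (σ : F →+* F) * ((g⁻¹ : GL (Fin n) F) : Mn).map (σ : F →+* F)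
  rw [Matrix.map_mul, Matrix.map_mul]

/-- inverse transpose in `GL` -/
def invTGL (g : GL (Fin n) F) : GL (Fin n) F :=
  ⟨((g⁻¹ : GL (Fin n) F) : Mn).transpose, (g : Mn).transpose,
    by rw [← Matrix.transpose_mul, gl_mul_inv, Matrix.transpose_one],
    by rw [← Matrix.transpose_mul, gl_inv_mul, Matrix.transpose_one]⟩

theorem iota_mul_cHom (g : GL (Fin n) F) : iota * cHom g = cHom (invTGL g) * iota := by
  ext x
  obtain ⟨s, rfl⟩ := QuotientGroup.mk_surjective x
  simp only [MulAut.mul_apply, iota, cHom_apply, liftAut_mk]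
  congr 1
  apply Subtype.ext
  rw [invT_coe, ← map_inv, conjGL_coe, conjGL_coe, invT_coe]
  show _ = ((g⁻¹ : GL (Fin n) F) : Mn).transpose * _ * (g : Mn).transpose
  rw [Matrix.transpose_mul, Matrix.transpose_mul, mul_assoc]

theorem iota_mul_fHom (σ : F ≃+* F) : (iota : AutP) * fHom σ = fHom σ * iota := by
  ext x
  obtain ⟨s, rfl⟩ := QuotientGroup.mk_surjective x
  simp only [MulAut.mul_apply, iota, fHom_apply, liftAut_mk]
  congr 1
  apply Subtype.ext
  rw [invT_coe, ← map_inv, mapEquiv_coe, mapEquiv_coe, invT_coe]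
  rfl

theorem isU2_conjGL (g : GL (Fin n) F) {i j : Fin n} (hij : i ≠ j) (a : F) :
    IsU2 (conjGL g (tr hij a)) := by
  obtain ⟨h, hh⟩ := transvection_eq_tv hij a
  obtain ⟨h', hh'⟩ := conjGL_tv g _ _ h
  rw [hh, hh']
  exact isU2_tv _ _ _

/-- matrix form of `c(h)(x_ij(b)) = x_kl(a)` in `PSL` -/
theorem single_eq_of_mk_eq (h : GL (Fin n) F) {i j k l : Fin n} (hij : i ≠ j) (hkl : k ≠ l) (a b : F)
    (e : π (conjGL h (tr hij b)) = π (tr hkl a)) :
    (h : Mn) * Matrix.single i j b = Matrix.single k l a * (h : Mn) := by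
  have : Nonempty (Fin n) := ⟨i⟩
  have e1 := eq_of_mk_eq _ _ (isU2_conjGL h hij b) (isU2_transvection hkl a) e
  have e2 := congrArg (fun s : SLn => (s : Mn) * (h : Mn)) e1
  simp only [conjGL_coe, Matrix.SpecialLinearGroup.transvection_coe] at e2
  rw [mul_assoc, gl_inv_mul, mul_one, mul_add, add_mul, mul_one, one_mul] at e2
  exact add_left_cancel e2

theorem cHom_mul_fHom_eq_one (hn : 2 ≤ n) (h : GL (Fin n) F) (τ : F ≃+* F)
    (e : cHom h * fHom τ = (1 : AutP)) : τ = 1 ∧ h ∈ Subgroup.center (GL (Fin n) F) := by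
  have key : ∀ (i j : Fin n) (hij : i ≠ j) (a : F),
      (h : Mn) * Matrix.single i j (τ a) = Matrix.single i j a * (h : Mn) := by
    intro i j hij a
    apply single_eq_of_mk_eq h hij hij
    have := congrArg (fun β : AutP => β (π (tr hij a))) e
    simp only [MulAut.mul_apply, fHom_apply, cHom_apply, liftAut_mk, MulAut.one_apply,
      mapEquiv_transvection] at this
    exact this
  have hsc : (h : Mn) ∈ Set.range (Matrix.scalar (Fin n)) := by
    apply Matrix.mem_range_scalar_of_commute_single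
    intro i j hij
    have := key i j hij 1
    rw [map_one] at this
    exact this.symm
  refine ⟨?_, Matrix.GeneralLinearGroup.mem_center_iff_val_mem_range_scalar.2 hsc⟩
  obtain ⟨z, hz⟩ := hsc
  have hz0 : z ≠ 0 := by
    rintro rfl
    have h1 := gl_mul_inv h
    rw [← hz, map_zero, zero_mul] at h1
    have : Nontrivial (Fin n) := Fin.nontrivial_iff_two_le.2 hn
    have : Nonempty (Fin n) := inferInstance
    exact zero_ne_one h1
  ext a
  let i0 : Fin n := ⟨0, by omega⟩
  let i1 : Fin n := ⟨1, by omega⟩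
  have h01 : i0 ≠ i1 := by simp [i0, i1]
  have := congrFun (congrFun (key i0 i1 h01 a) i0) i1
  rw [← hz] at this
  simp only [Matrix.scalar_apply, Matrix.diagonal_mul, Matrix.mul_diagonal, Matrix.single_apply_same] at this
  have h2 : z * τ a = z * a := by rw [this, mul_comm]
  exact mul_left_cancel₀ hz0 h2

theorem cHom_eq_one_of_mem_center (h : GL (Fin n) F) (hh : h ∈ Subgroup.center (GL (Fin n) F)) :
    cHom h = (1 : AutP) := by
  ext x
  obtain ⟨s, rfl⟩ := QuotientGroup.mk_surjective x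
  rw [cHom_apply, liftAut_mk, MulAut.one_apply]
  congr 1
  apply Subtype.ext
  rw [conjGL_coe]
  have h1 := Subgroup.mem_center_iff.1 hh (Matrix.SpecialLinearGroup.toGL s)
  have h2 : (s : Mn) * (h : Mn) = (h : Mn) * (s : Mn) := congrArg Units.val h1
  rw [← h2, mul_assoc, gl_mul_inv, mul_one]

theorem ker_cHom (hn : 2 ≤ n) : (cHom : GL (Fin n) F →* AutP).ker = Subgroup.center (GL (Fin n) F) := by
  ext h
  rw [MonoidHom.mem_ker]
  constructor
  · intro e
    refine (cHom_mul_fHom_eq_one hn h 1 ?_).2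
    rw [map_one, mul_one, e]
  · exact cHom_eq_one_of_mem_center h

theorem cHom_mul_fHom_ne_iota (hn : 3 ≤ n) (h : GL (Fin n) F) (τ : F ≃+* F) :
    cHom h * fHom τ ≠ (iota : AutP) := by
  intro e
  let i0 : Fin n := ⟨0, by omega⟩
  let i1 : Fin n := ⟨1, by omega⟩
  let i2 : Fin n := ⟨2, by omega⟩
  have h01 : i0 ≠ i1 := by simp [i0, i1]
  have h02 : i0 ≠ i2 := by simp [i0, i2]
  have h12 : i1 ≠ i2 := by simp [i1, i2]
  have key : ∀ (j : Fin n) (hj : i0 ≠ j),
      (h : Mn) * Matrix.single i0 j 1 = Matrix.single j i0 (-1) * (h : Mn) := by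
    intro j hj
    apply single_eq_of_mk_eq h hj hj.symm
    have := congrArg (fun β : AutP => β (π (tr hj 1))) e
    simp only [MulAut.mul_apply, fHom_apply, cHom_apply, liftAut_mk, iota,
      mapEquiv_transvection, invT_transvection, map_one] at this
    exact this
  have c0 : ∀ (j : Fin n) (hj : i0 ≠ j) (k : Fin n), k ≠ j → (h : Mn) k i0 = 0 := by
    intro j hj k hk
    have := congrFun (congrFun (key j hj) k) j
    rw [Matrix.mul_single_apply_same, Matrix.single_mul_apply_of_ne _ _ _ _ _ hk, mul_one] at this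
    exact this
  have col : ∀ k, (h : Mn) k i0 = 0 := by
    intro k
    by_cases hk : k = i1
    · exact c0 i2 h02 k (by rw [hk]; exact h12)
    · exact c0 i1 h01 k hk
  have h1 := congrFun (congrFun (gl_inv_mul h) i0) i0
  rw [Matrix.mul_apply, Matrix.one_apply_eq] at h1
  simp only [col, mul_zero, Finset.sum_const_zero] at h1
  exact zero_ne_one h1

theorem exists_retraction {A Q : Type*} [Group A] [Group Q] (N : Subgroup A) [N.Normal] (s : Q →* A)
    (h1 : ∀ a, ∃ x ∈ N, ∃ q, a = x * s q) (h2 : ∀ q, s q ∈ N → q = 1) :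
    ∃ r : A →* Q, r.ker = N ∧ (∀ q, r (s q) = q) := by
  let t : Q →* A ⧸ N := (QuotientGroup.mk' N).comp s
  have ht : Function.Bijective t := by
    constructor
    · rw [injective_iff_map_eq_one]
      intro q hq
      exact h2 q ((QuotientGroup.eq_one_iff _).1 hq)
    · intro y
      obtain ⟨a, rfl⟩ := QuotientGroup.mk_surjective y
      obtain ⟨x, hx, q, rfl⟩ := h1 a
      refine ⟨q, ?_⟩
      show (QuotientGroup.mk (s q) : A ⧸ N) = QuotientGroup.mk (x * s q)
      rw [QuotientGroup.mk_mul, (QuotientGroup.eq_one_iff x).2 hx, one_mul]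
  let e := MulEquiv.ofBijective t ht
  refine ⟨e.symm.toMonoidHom.comp (QuotientGroup.mk' N), ?_, ?_⟩
  · ext a
    rw [MonoidHom.mem_ker]
    show e.symm (QuotientGroup.mk a) = 1 ↔ _
    rw [MulEquiv.map_eq_one_iff, QuotientGroup.eq_one_iff]
  · intro q
    show e.symm (t q) = q
    exact e.symm_apply_apply q

theorem aut_psl' [Fintype F] (hn : 2 ≤ n) (β : AutP) :
    ∃ (g : GL (Fin n) F) (σ : F ≃+* F), β = cHom g * fHom σ ∨ β = cHom g * fHom σ * iota :=
  aut_psl hn β

theorem aut_psl_two [Fintype F] (β : MulAut (Matrix.ProjectiveSpecialLinearGroup (Fin 2) F)) :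
    ∃ (g : GL (Fin 2) F) (σ : F ≃+* F), β = cHom g * fHom σ := by
  have hp : Fact (ringChar F).Prime := ⟨CharP.char_is_prime F (ringChar F)⟩
  obtain ⟨u, φ, f, D⟩ := Cfsg.Agent.Lib.Helper50Data.exists_data (ringChar F) β
  exact of_case1 le_rfl D (case1_of_two u φ)

theorem normal_range_cHom [Fintype F] (hn : 2 ≤ n) : (cHom : GL (Fin n) F →* AutP).range.Normal := by
  have hc : ∀ h g : GL (Fin n) F, ∃ g', cHom h * cHom g * (cHom h : AutP)⁻¹ = cHom g' :=
    fun h g => ⟨h * g * h⁻¹, by rw [map_mul, map_mul, map_inv]⟩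
  have hf : ∀ (σ : F ≃+* F) (g : GL (Fin n) F), ∃ g', fHom σ * cHom g * (fHom σ : AutP)⁻¹ = cHom g' :=
    fun σ g => ⟨_, by rw [fHom_mul_cHom, mul_inv_cancel_right]⟩
  have hi : ∀ (g : GL (Fin n) F), ∃ g', iota * cHom g * (iota : AutP)⁻¹ = cHom g' :=
    fun g => ⟨_, by rw [iota_mul_cHom, mul_inv_cancel_right]⟩
  constructor
  rintro _ ⟨g, rfl⟩ β
  obtain ⟨h, σ, e | e⟩ := aut_psl' hn β
  · obtain ⟨g1, e1⟩ := hf σ g
    obtain ⟨g2, e2⟩ := hc h g1
    refine ⟨g2, ?_⟩
    rw [← e2, ← e1, e]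
    group
  · obtain ⟨g0, e0⟩ := hi g
    obtain ⟨g1, e1⟩ := hf σ g0
    obtain ⟨g2, e2⟩ := hc h g1
    refine ⟨g2, ?_⟩
    rw [← e2, ← e1, ← e0, e]
    group

theorem exists_hom_two [Fintype F] :
    ∃ r : MulAut (Matrix.ProjectiveSpecialLinearGroup (Fin 2) F) →* (F ≃+* F),
      r.ker = (cHom : GL (Fin 2) F →* _).range ∧ Function.Surjective r := by
  have := normal_range_cHom (F := F) (n := 2) le_rfl
  obtain ⟨r, hr1, hr2⟩ := exists_retraction (cHom : GL (Fin 2) F →* _).range fHom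
    (fun β => by
      obtain ⟨g, σ, e⟩ := aut_psl_two β
      exact ⟨_, ⟨g, rfl⟩, σ, e⟩)
    (fun σ => by
      rintro ⟨g, hg⟩
      refine (cHom_mul_fHom_eq_one le_rfl g⁻¹ σ ?_).1
      rw [map_inv, hg, inv_mul_cancel])
  exact ⟨r, hr1, fun σ => ⟨_, hr2 σ⟩⟩

theorem mem_zpowers_iota (z : AutP) (hz : z ∈ Subgroup.zpowers (iota : AutP)) : z = 1 ∨ z = iota := by
  obtain ⟨k, rfl⟩ := hz
  have h2 : (iota : AutP) ^ (2 : ℤ) = 1 := by
    rw [zpow_two]; exact iota_mul_self
  rcases Int.even_or_odd' k with ⟨m, rfl | rfl⟩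
  · left; show iota ^ (2 * m) = 1; rw [_root_.zpow_mul, h2, _root_.one_zpow]
  · right; show iota ^ (2 * m + 1) = iota; rw [_root_.zpow_add, _root_.zpow_mul, h2, _root_.one_zpow, one_mul, zpow_one]

theorem iota_ne_one (hn : 3 ≤ n) : (iota : AutP) ≠ 1 := by
  intro h
  apply cHom_mul_fHom_ne_iota (F := F) hn 1 1
  rw [map_one, map_one, one_mul, h]

theorem exists_hom_three [Fintype F] (hn : 3 ≤ n) :
    ∃ r : AutP →* (F ≃+* F) × Subgroup.zpowers (iota : AutP),
      r.ker = (cHom : GL (Fin n) F →* _).range ∧ Function.Surjective r := by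
  have hn2 : 2 ≤ n := by omega
  have := normal_range_cHom (F := F) (n := n) hn2
  have hcomm : ∀ (σ : F ≃+* F) (z : Subgroup.zpowers (iota : AutP)),
      Commute (fHom σ) ((Subgroup.zpowers (iota : AutP)).subtype z) := by
    rintro σ ⟨z, hz⟩
    rcases mem_zpowers_iota z hz with rfl | rfl
    · exact Commute.one_right _
    · exact (iota_mul_fHom σ).symm
  obtain ⟨r, hr1, hr2⟩ := exists_retraction (cHom : GL (Fin n) F →* _).range
    (MonoidHom.noncommCoprod fHom (Subgroup.zpowers (iota : AutP)).subtype hcomm)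
    (fun β => by
      obtain ⟨g, σ, e | e⟩ := aut_psl' hn2 β
      · refine ⟨_, ⟨g, rfl⟩, (σ, 1), ?_⟩
        rw [MonoidHom.noncommCoprod_apply, map_one, mul_one, e]
      · refine ⟨_, ⟨g, rfl⟩, (σ, ⟨iota, Subgroup.mem_zpowers _⟩), ?_⟩
        rw [MonoidHom.noncommCoprod_apply, e, mul_assoc]
        rfl)
    (by
      rintro ⟨σ, ⟨z, hz⟩⟩ ⟨g, hg⟩
      rw [MonoidHom.noncommCoprod_apply] at hg
      simp only [Subgroup.subtype_apply] at hg
      rcases mem_zpowers_iota z hz with rfl | rfl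
      · have := (cHom_mul_fHom_eq_one hn2 g⁻¹ σ (by rw [map_inv, hg, mul_one, inv_mul_cancel])).1
        rw [this]; rfl
      · exfalso
        apply cHom_mul_fHom_ne_iota hn (Matrix.GeneralLinearGroup.map ((σ⁻¹ : F ≃+* F) : F →+* F) g) σ⁻¹
        rw [← fHom_mul_cHom, hg, map_inv, inv_mul_cancel_left])
  exact ⟨r, hr1, fun q => ⟨_, hr2 q⟩⟩

end Cfsg.Agent.Lib.Helper50AutStr
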