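import Mathlib
import Cfsg.Prelude
import Cfsg.Agent.Lib.Helper50Aut
import Cfsg.Agent.Lib.Helper50AutStr

set_option autoImplicit false

namespace Cfsg.Agent.Lib.Helper50Out

open Matrix Cfsg.Agent.Lib.Helper50Aut Cfsg.Agent.Lib.Helper50AutStr

variable {F : Type*} [Field F] {n : ℕ}

local notation "SLn" => Matrix.SpecialLinearGroup (Fin n) F
local notation "Mn" => Matrix (Fin n) (Fin n) F
local notation "π" => (QuotientGroup.mk : Matrix.SpecialLinearGroup (Fin n) F →
  Matrix.SpecialLinearGroup (Fin n) F ⧸ Subgroup.center (Matrix.SpecialLinearGroup (Fin n) F))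
local notation "AutP" => MulAut (Matrix.ProjectiveSpecialLinearGroup (Fin n) F)

theorem cHom_toGL (s : SLn) : cHom (Matrix.SpecialLinearGroup.toGL s) = MulAut.conj (π s) := by
  ext x
  obtain ⟨t, rfl⟩ := QuotientGroup.mk_surjective x
  rw [cHom_apply, liftAut_mk, MulAut.conj_apply, ← QuotientGroup.mk_inv, ← QuotientGroup.mk_mul,
    ← QuotientGroup.mk_mul]
  congr 1

theorem cHom_mem_inn_iff (hn : 2 ≤ n) (g : GL (Fin n) F) :
    cHom g ∈ Cfsg.Inn (Matrix.ProjectiveSpecialLinearGroup (Fin n) F) ↔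
      Matrix.GeneralLinearGroup.det g ∈ (powMonoidHom n : Fˣ →* Fˣ).range := by
  constructor
  · rintro ⟨x, hx⟩
    obtain ⟨s, rfl⟩ := QuotientGroup.mk_surjective x
    rw [← cHom_toGL] at hx
    have h1 : (Matrix.SpecialLinearGroup.toGL s)⁻¹ * g ∈ (cHom : GL (Fin n) F →* AutP).ker := by
      rw [MonoidHom.mem_ker, map_mul, map_inv, hx, inv_mul_cancel]
    rw [ker_cHom hn, Matrix.GeneralLinearGroup.center_eq_range_scalar] at h1
    obtain ⟨z, hz⟩ := h1
    refine ⟨z, ?_⟩
    have h2 := congrArg Matrix.GeneralLinearGroup.det hz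
    rw [Matrix.GeneralLinearGroup.det_scalar, map_mul, map_inv, Fintype.card_fin] at h2
    have h3 : Matrix.GeneralLinearGroup.det (Matrix.SpecialLinearGroup.toGL s) = 1 := by
      ext
      simp
    rw [h3, inv_one, one_mul] at h2
    exact h2
  · rintro ⟨z, hz⟩
    rw [powMonoidHom_apply] at hz
    have h1 : Matrix.GeneralLinearGroup.det (g * (Matrix.GeneralLinearGroup.scalar (Fin n) z)⁻¹) = 1 := by
      rw [map_mul, map_inv, Matrix.GeneralLinearGroup.det_scalar, Fintype.card_fin, hz, mul_inv_cancel]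
    have h2 : ((g * (Matrix.GeneralLinearGroup.scalar (Fin n) z)⁻¹ : GL (Fin n) F) : Mn).det = 1 := by
      have := congrArg Units.val h1
      simpa using this
    let s0 : SLn := ⟨_, h2⟩
    refine ⟨π s0, ?_⟩
    rw [← cHom_toGL]
    have h3 : Matrix.SpecialLinearGroup.toGL s0 = g * (Matrix.GeneralLinearGroup.scalar (Fin n) z)⁻¹ := by
      ext; rfl
    rw [h3, map_mul, map_inv, cHom_eq_one_of_mem_center (Matrix.GeneralLinearGroup.scalar (Fin n) z),
      inv_one, mul_one]
    rw [Matrix.GeneralLinearGroup.center_eq_range_scalar]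
    exact ⟨z, rfl⟩

theorem out_hom [Fintype F] (hn : 2 ≤ n) {Q : Type*} [Group Q] (r : AutP →* Q)
    (hr : r.ker = (cHom : GL (Fin n) F →* AutP).range) (hs : Function.Surjective r) :
    ∃ φ : Cfsg.Out (Matrix.ProjectiveSpecialLinearGroup (Fin n) F) →* Q,
      Function.Surjective φ ∧ IsCyclic φ.ker ∧ Nat.card φ.ker = Nat.gcd n (Fintype.card F - 1) := by
  have : Nonempty (Fin n) := ⟨⟨0, by omega⟩⟩
  have hInn : Cfsg.Inn (Matrix.ProjectiveSpecialLinearGroup (Fin n) F) ≤ r.ker := by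
    rintro _ ⟨x, rfl⟩
    obtain ⟨s, rfl⟩ := QuotientGroup.mk_surjective x
    rw [hr]
    exact ⟨_, cHom_toGL s⟩
  let φ : Cfsg.Out (Matrix.ProjectiveSpecialLinearGroup (Fin n) F) →* Q :=
    QuotientGroup.lift (Cfsg.Inn (Matrix.ProjectiveSpecialLinearGroup (Fin n) F)) r hInn
  let ψ : GL (Fin n) F →* Cfsg.Out (Matrix.ProjectiveSpecialLinearGroup (Fin n) F) :=
    (QuotientGroup.mk' (Cfsg.Inn (Matrix.ProjectiveSpecialLinearGroup (Fin n) F))).comp cHom
  have hψker : ψ.ker = (powMonoidHom n : Fˣ →* Fˣ).range.comap Matrix.GeneralLinearGroup.det := by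
    ext g
    rw [MonoidHom.mem_ker, Subgroup.mem_comap, ← cHom_mem_inn_iff hn]
    exact QuotientGroup.eq_one_iff _
  have hφker : φ.ker = ψ.range := by
    ext x
    obtain ⟨β, rfl⟩ := QuotientGroup.mk_surjective x
    rw [MonoidHom.mem_ker]
    show r β = 1 ↔ _
    rw [← MonoidHom.mem_ker, hr]
    constructor
    · rintro ⟨g, rfl⟩
      exact ⟨g, rfl⟩
    · rintro ⟨g, hg⟩
      have h1 : (cHom g)⁻¹ * β ∈ Cfsg.Inn (Matrix.ProjectiveSpecialLinearGroup (Fin n) F) :=
        QuotientGroup.eq.1 hg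
      have h2 := hInn h1
      rw [hr] at h2
      have h3 := mul_mem (⟨g, rfl⟩ : cHom g ∈ (cHom : GL (Fin n) F →* AutP).range) h2
      rwa [mul_inv_cancel_left] at h3
  have hdet : Function.Surjective (Matrix.GeneralLinearGroup.det : GL (Fin n) F →* Fˣ) :=
    Matrix.GeneralLinearGroup.det_surjective
  refine ⟨φ, ?_, ?_, ?_⟩
  · intro q
    obtain ⟨β, rfl⟩ := hs q
    exact ⟨QuotientGroup.mk β, rfl⟩
  · rw [hφker]
    have hle : (Matrix.GeneralLinearGroup.det : GL (Fin n) F →* Fˣ).ker ≤ ψ.ker := by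
      intro g hg
      rw [hψker, Subgroup.mem_comap, MonoidHom.mem_ker.1 hg]
      exact one_mem _
    let Θ : Fˣ →* Cfsg.Out (Matrix.ProjectiveSpecialLinearGroup (Fin n) F) :=
      MonoidHom.liftOfSurjective _ hdet ⟨ψ, hle⟩
    have hΘ : ∀ g, Θ (Matrix.GeneralLinearGroup.det g) = ψ g := fun g =>
      MonoidHom.liftOfRightInverse_comp_apply _ _ _ ⟨ψ, hle⟩ g
    have hrange : ψ.range = Θ.range := by
      ext x
      constructor
      · rintro ⟨g, rfl⟩
        exact ⟨_, hΘ g⟩
      · rintro ⟨z, rfl⟩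
        obtain ⟨g, rfl⟩ := hdet z
        exact ⟨g, (hΘ g).symm⟩
    rw [hrange]
    exact isCyclic_of_surjective Θ.rangeRestrict Θ.rangeRestrict_surjective
  · rw [hφker, ← Subgroup.index_ker, hψker, Subgroup.index_comap_of_surjective _ hdet,
      IsCyclic.index_powMonoidHom_range, Nat.card_units, Nat.card_eq_fintype_card, Nat.gcd_comm]

theorem card_aut (hn : 2 ≤ n) {Q : Type*} [Group Q] (r : AutP →* Q)
    (hr : r.ker = (cHom : GL (Fin n) F →* AutP).range) (hs : Function.Surjective r) :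
    Nat.card AutP = Nat.card Q * Nat.card (Matrix.ProjGenLinGroup (Fin n) F) := by
  rw [← Subgroup.card_mul_index r.ker, Subgroup.index_ker, MonoidHom.range_eq_top.2 hs,
    Subgroup.card_top, hr, ← Subgroup.index_ker, ker_cHom hn, mul_comm]
  rfl

theorem ringAut_cyclic_card [Fintype F] {p f : ℕ} [Fact p.Prime] (hF : Fintype.card F = p ^ f) :
    IsCyclic (F ≃+* F) ∧ Nat.card (F ≃+* F) = f := by
  have hchar : CharP F p := charP_of_card_eq_prime_pow hF
  let _ : Algebra (ZMod p) F := ZMod.algebra F p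
  let e : (F ≃ₐ[ZMod p] F) ≃* (F ≃+* F) :=
    { toFun := fun σ => σ.toRingEquiv
      invFun := fun σ => AlgEquiv.ofRingEquiv (f := σ) (fun r => by
        have := RingHom.ext_zmod ((σ : F →+* F).comp (algebraMap (ZMod p) F)) (algebraMap (ZMod p) F)
        exact congrFun (congrArg DFunLike.coe this) r)
      left_inv := fun σ => by ext; rfl
      right_inv := fun σ => by ext; rfl
      map_mul' := fun σ τ => by ext; rfl }
  have hfin : Module.finrank (ZMod p) F = f := by
    have h1 := Module.card_eq_pow_finrank (K := ZMod p) (V := F)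
    rw [ZMod.card, hF] at h1
    exact (Nat.pow_right_injective (Fact.out : p.Prime).two_le h1).symm
  constructor
  · exact isCyclic_of_surjective e e.surjective
  · rw [← Nat.card_congr e.toEquiv, IsGalois.card_aut_eq_finrank, hfin]

theorem card_zpowers_iota (hn : 3 ≤ n) : Nat.card (Subgroup.zpowers (iota : AutP)) = 2 := by
  rw [Nat.card_zpowers]
  apply orderOf_eq_prime
  · rw [pow_two]; exact iota_mul_self
  · exact iota_ne_one hn

end Cfsg.Agent.Lib.Helper50Out
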