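import Mathlib

set_option autoImplicit false

/-!
Artin-Schreier equations over the fixed field of an involution of a finite field of
characteristic two.
-/

namespace Cfsg.Agent.Lib.Helper50SzAS

variable {L : Type*} [Field L] [CharP L 2]

lemma add_self'' (x : L) : x + x = 0 := CharTwo.add_self_eq_zero x

/-- the fixed points, as an additive subgroup -/
def fixA (φ : L →+* L) : AddSubgroup L where
  carrier := {x | φ x = x}
  add_mem' {a b} ha hb := by
    show φ (a + b) = a + b
    rw [map_add, ha, hb]
  zero_mem' := map_zero φ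
  neg_mem' {a} ha := by
    show φ (-a) = -a
    rw [map_neg, ha]

omit [CharP L 2] in
lemma mem_fixA (φ : L →+* L) (x : L) : x ∈ fixA φ ↔ φ x = x := Iff.rfl

/-- the Artin-Schreier map on the fixed points -/
def wp (φ : L →+* L) : fixA φ →+ fixA φ where
  toFun x := ⟨x.1 ^ 2 + x.1, by
    show φ (x.1 ^ 2 + x.1) = x.1 ^ 2 + x.1
    rw [map_add, map_pow, x.2]⟩
  map_zero' := by
    apply Subtype.ext
    simp
  map_add' x y := by
    apply Subtype.ext
    show (x.1 + y.1) ^ 2 + (x.1 + y.1) = (x.1 ^ 2 + x.1) + (y.1 ^ 2 + y.1)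
    have := add_self'' (x.1 * y.1)
    linear_combination this

lemma wp_apply (φ : L →+* L) (x : fixA φ) : ((wp φ x : fixA φ) : L) = x.1 ^ 2 + x.1 := rfl

lemma root_cases {x : L} (h : x ^ 2 + x = 0) : x = 0 ∨ x = 1 := by
  have : x * (x + 1) = 0 := by linear_combination h
  rcases mul_eq_zero.1 this with h1 | h1
  · exact Or.inl h1
  · right
    have := add_self'' (1 : L)
    linear_combination h1 - this

lemma card_ker (φ : L →+* L) : Nat.card (wp φ).ker = 2 := by
  rw [Nat.card_eq_two_iff]
  refine ⟨⟨0, (wp φ).ker.zero_mem⟩, ⟨⟨1, map_one φ⟩, ?_⟩, ?_, ?_⟩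
  · rw [AddMonoidHom.mem_ker]
    apply Subtype.ext
    rw [wp_apply]
    show (1 : L) ^ 2 + 1 = 0
    rw [one_pow]; exact add_self'' 1
  · intro h
    have := congrArg (fun z : (wp φ).ker => (z.1.1 : L)) h
    exact zero_ne_one this
  · ext x
    simp only [Set.mem_insert_iff, Set.mem_singleton_iff, Set.mem_univ, iff_true]
    have h1 : x.1.1 ^ 2 + x.1.1 = 0 := by
      have := AddMonoidHom.mem_ker.1 x.2
      exact congrArg Subtype.val this
    rcases root_cases h1 with h2 | h2
    · left
      apply Subtype.ext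
      apply Subtype.ext
      exact h2
    · right
      apply Subtype.ext
      apply Subtype.ext
      exact h2

lemma index_range [Finite L] (φ : L →+* L) : (wp φ).range.index = 2 := by
  have h1 := (wp φ).ker.card_mul_index
  rw [AddSubgroup.index_ker, card_ker] at h1
  have h2 := (wp φ).range.card_mul_index
  have h3 : 0 < Nat.card (wp φ).range := Nat.card_pos
  have h4 : Nat.card (wp φ).range * (wp φ).range.index = Nat.card (wp φ).range * 2 := by
    rw [h2, ← h1, mul_comm]
  exact Nat.eq_of_mul_eq_mul_left h3 h4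

theorem exists_root [Finite L] (φ : L →+* L) (hφ : ∀ x, φ (φ x) = x) (θ : L) (hθ : φ θ ≠ θ)
    (δ : L) (hδ : φ δ = δ) : ∃ Y : L, Y ^ 2 + Y = δ := by
  have hs : θ + φ θ ≠ 0 := by
    intro h
    apply hθ
    have := add_self'' θ
    linear_combination h - this
  set y := θ / (θ + φ θ) with hy
  have hy1 : y + φ y = 1 := by
    rw [hy, map_div₀, map_add, hφ, add_comm (φ θ) θ, ← add_div, div_self hs]
  have hφy : φ y = y + 1 := by
    have := add_self'' y
    linear_combination hy1 - this
  have hη : φ (y ^ 2 + y) = y ^ 2 + y := by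
    rw [map_add, map_pow, hφy]
    have := add_self'' (1 : L)
    have h2 := add_self'' y
    linear_combination this + h2
  have hnot : (⟨y ^ 2 + y, hη⟩ : fixA φ) ∉ (wp φ).range := by
    rintro ⟨y0, h0⟩
    have h1 : y0.1 ^ 2 + y0.1 = y ^ 2 + y := congrArg Subtype.val h0
    have h2 : (y + y0.1) ^ 2 + (y + y0.1) = 0 := by
      have e1 := add_self'' (y * y0.1)
      have e2 := add_self'' (y ^ 2 + y)
      linear_combination h1 + e1 + e2
    have h3 : φ y = y := by
      rcases root_cases h2 with h4 | h4
      · have e : y = y0.1 := by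
          have := add_self'' y0.1
          linear_combination h4 - this
        rw [e]; exact y0.2
      · have e : y = y0.1 + 1 := by
          have := add_self'' y0.1
          linear_combination h4 - this
        rw [e, map_add, map_one, y0.2]
    rw [h3] at hφy
    have : (1 : L) = 0 := by linear_combination -hφy
    exact one_ne_zero this
  by_cases hd : (⟨δ, hδ⟩ : fixA φ) ∈ (wp φ).range
  · obtain ⟨y0, h0⟩ := hd
    exact ⟨y0.1, congrArg Subtype.val h0⟩
  · have h5 := (AddSubgroup.add_mem_iff_of_index_two (index_range φ)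
      (a := (⟨δ, hδ⟩ : fixA φ)) (b := ⟨y ^ 2 + y, hη⟩)).2 (iff_of_false hd hnot)
    obtain ⟨y0, h0⟩ := h5
    have h1 : y0.1 ^ 2 + y0.1 = δ + (y ^ 2 + y) := congrArg Subtype.val h0
    refine ⟨y0.1 + y, ?_⟩
    have e1 := add_self'' (y0.1 * y)
    have e2 := add_self'' (y ^ 2 + y)
    linear_combination h1 + e1 + e2

end Cfsg.Agent.Lib.Helper50SzAS
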