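import Cfsg.Agent.Lib.Helper50SzKL

set_option autoImplicit false

/-!
Automorphisms of the model group `M`.
-/

namespace Cfsg.Agent.Lib.Helper50SzAut

open Cfsg.Agent.Lib.Helper50SzM Cfsg.Agent.Lib.Helper50SzKL

variable {K : Type*} [Field K] [CharP K 2] {σ : K →+* K} {hσ : ∀ x, σ (σ x) = x}

lemma aut_a_zero (β : M σ hσ ≃* M σ hσ) {z : M σ hσ} (hz : z.a = 0) : (β z).a = 0 := by
  rw [← Helper50SzM.sq_eq_one_iff, ← map_mul, (Helper50SzM.sq_eq_one_iff z).2 hz, map_one]

lemma aut_a_congr (β : M σ hσ ≃* M σ hσ) {x y : M σ hσ} (h : x.a = y.a) :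
    (β x).a = (β y).a := by
  have e : y = x * (x⁻¹ * y) := by group
  have h0 : (x⁻¹ * y).a = 0 := by rw [mul_a, inv_a, h]; ring
  rw [e, map_mul, mul_a, aut_a_zero β h0, add_zero]

/-- central elements, as a total function -/
noncomputable def zz' (σ : K →+* K) (hσ : ∀ x, σ (σ x) = x) (d : K) : M σ hσ := by
  classical
  exact if h : σ d = d then zz d h else 1

lemma zz'_eq (d : K) (hd : σ d = d) : zz' σ hσ d = zz d hd := by
  unfold zz'
  rw [dif_pos hd]

variable (htr : ∀ d, σ d = d → ∃ c, c + σ c = d)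

/-- a section of the projection onto the first coordinate -/
noncomputable def sec (a : K) : M σ hσ := Classical.choose (exists_a (hσ := hσ) htr a)

omit [CharP K 2] in
lemma sec_a (a : K) : (sec (hσ := hσ) htr a).a = a := Classical.choose_spec (exists_a htr a)

/-- the action on `M / Z` -/
noncomputable def actA (β : M σ hσ ≃* M σ hσ) (a : K) : K := (β (sec htr a)).a

/-- the action on `Z` -/
noncomputable def actB (β : M σ hσ ≃* M σ hσ) (d : K) : K := (β (zz' σ hσ d)).c

lemma actA_eq (β : M σ hσ ≃* M σ hσ) (x : M σ hσ) : actA htr β x.a = (β x).a :=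
  aut_a_congr β (sec_a htr x.a)

lemma actA_add (β : M σ hσ ≃* M σ hσ) (a a' : K) :
    actA htr β (a + a') = actA htr β a + actA htr β a' := by
  have : a + a' = (sec (hσ := hσ) htr a * sec htr a').a := by rw [mul_a, sec_a, sec_a]
  rw [this, actA_eq, map_mul, mul_a]
  rfl

lemma actB_eq (β : M σ hσ ≃* M σ hσ) (z : M σ hσ) (hz : z.a = 0) : actB β z.c = (β z).c := by
  unfold actB
  rw [zz'_eq z.c (fix_of_a z hz), ← eq_zz z hz]

lemma actB_add (β : M σ hσ ≃* M σ hσ) (d d' : K) (hd : σ d = d) (hd' : σ d' = d') :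
    actB β (d + d') = actB β d + actB β d' := by
  have e : zz' σ hσ (d + d') = zz' σ hσ d * zz' σ hσ d' := by
    rw [zz'_eq d hd, zz'_eq d' hd', zz'_eq (d + d') (by rw [map_add, hd, hd'])]
    ext
    · simp
    · simp
  unfold actB
  rw [e, map_mul, mul_c, aut_a_zero β (z := zz' σ hσ d') (by rw [zz'_eq d' hd']; rfl)]
  ring

lemma act_norm (β : M σ hσ ≃* M σ hσ) (a : K) :
    actA htr β a * σ (actA htr β a) = actB β (a * σ a) := by
  have e1 := sq_eq (sec (hσ := hσ) htr a)
  have e2 := sq_eq (β (sec (hσ := hσ) htr a))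
  rw [← map_mul] at e2
  have e3 := congrArg M.c e2
  have h0 : (sec (hσ := hσ) htr a * sec htr a).a = 0 := by rw [e1]
  rw [← actB_eq β _ h0, e1] at e3
  simp only [sec_a] at e3
  exact e3.symm

include htr in
/-- an automorphism whose square is trivial modulo the centre centralises the centre -/
theorem aut_center [Finite K] (β : M σ hσ ≃* M σ hσ) (hβ : ∀ x, (β (β x)).a = x.a)
    (z : M σ hσ) (hz : z.a = 0) : β z = z := by
  have key := KL hσ htr (actA htr β) (actB β) (actA_add htr β) (by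
    intro a
    have : actA htr β a = (β (sec htr a)).a := rfl
    rw [this, actA_eq, hβ, sec_a]) (actB_add β) (act_norm htr β)
  ext
  · rw [aut_a_zero β hz, hz]
  · rw [← actB_eq β z hz, key _ (fix_of_a z hz)]

end Cfsg.Agent.Lib.Helper50SzAut
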