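import Mathlib
import Cfsg.Prelude.Def_LieRecognition

set_option autoImplicit false

/-!
Transfer of some group-theoretic properties along an isomorphism.
-/

namespace Cfsg.Agent.Lib.Helper50SzTr

variable {P M : Type*} [Group P] [Group M]

theorem suzuki_of_equiv (E : P ≃* M) (h : Cfsg.IsSuzukiTwoGroup M) : Cfsg.IsSuzukiTwoGroup P := by
  obtain ⟨h1, h2, ⟨x, y, hxy⟩, ⟨a, b, hab, ha, ha2, hb, hb2⟩, K, hK, hreg⟩ := h
  refine ⟨Finite.of_equiv M E.symm.toEquiv, h2.of_equiv E.symm, ⟨E.symm x, E.symm y, ?_⟩,
    ⟨E.symm a, E.symm b, ?_, ?_, ?_, ?_, ?_⟩, K.map (MulAut.congr E.symm).toMonoidHom, ?_, ?_⟩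
  · rw [← map_mul, ← map_mul]
    exact fun e => hxy (E.symm.injective e)
  · exact fun e => hab (E.symm.injective e)
  · exact fun e => ha (E.symm.injective (e.trans (map_one _).symm))
  · rw [← map_mul, ha2, map_one]
  · exact fun e => hb (E.symm.injective (e.trans (map_one _).symm))
  · rw [← map_mul, hb2, map_one]
  · exact isCyclic_of_surjective _ ((MulAut.congr E.symm).toMonoidHom.subgroupMap_surjective K)
  · intro x y hx hx2 hy hy2
    obtain ⟨k, hk, huniq⟩ := hreg (E x) (E y)
      (fun e => hx (E.injective (e.trans (map_one _).symm))) (by rw [← map_mul, hx2, map_one])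
      (fun e => hy (E.injective (e.trans (map_one _).symm))) (by rw [← map_mul, hy2, map_one])
    refine ⟨⟨MulAut.congr E.symm k.1, Subgroup.mem_map_of_mem _ k.2⟩, ?_, ?_⟩
    · show E.symm (k.1 (E x)) = y
      rw [hk, E.symm_apply_apply]
    · rintro ⟨_, ⟨k0, hk0, rfl⟩⟩ hk'
      apply Subtype.ext
      show MulAut.congr E.symm k0 = MulAut.congr E.symm k.1
      have e1 : E.symm (k0 (E x)) = y := hk'
      have e2 : (⟨k0, hk0⟩ : K) = k := huniq ⟨k0, hk0⟩ (by
        show k0 (E x) = E y
        rw [← e1, E.apply_symm_apply])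
      rw [← e2]

lemma mem_center_iff (E : P ≃* M) (x : P) :
    x ∈ Subgroup.center P ↔ E x ∈ Subgroup.center M := by
  rw [Subgroup.mem_center_iff, Subgroup.mem_center_iff]
  constructor
  · intro h g
    obtain ⟨g', rfl⟩ := E.surjective g
    rw [← map_mul, ← map_mul, h]
  · intro h g
    apply E.injective
    rw [map_mul, map_mul, h]

lemma map_center (E : P ≃* M) : (Subgroup.center P).map E.toMonoidHom = Subgroup.center M := by
  ext y
  constructor
  · rintro ⟨x, hx, rfl⟩
    exact (mem_center_iff E x).1 hx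
  · intro hy
    refine ⟨E.symm y, (mem_center_iff E _).2 ?_, ?_⟩
    · rw [E.apply_symm_apply]; exact hy
    · exact E.apply_symm_apply y

lemma card_center (E : P ≃* M) :
    Nat.card (Subgroup.center P) = Nat.card (Subgroup.center M) :=
  Nat.card_congr (Subgroup.centerCongr E).toEquiv

lemma map_closure_two (E : P ≃* M) :
    (Subgroup.closure {x : P | orderOf x = 2}).map E.toMonoidHom =
      Subgroup.closure {x : M | orderOf x = 2} := by
  rw [MonoidHom.map_closure]
  congr 1
  ext y
  constructor
  · rintro ⟨x, hx, rfl⟩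
    show orderOf (E x) = 2
    rw [MulEquiv.orderOf_eq]
    exact hx
  · intro hy
    refine ⟨E.symm y, ?_, E.apply_symm_apply y⟩
    show orderOf (E.symm y) = 2
    rw [MulEquiv.orderOf_eq]
    exact hy

lemma map_commutator (E : P ≃* M) : (commutator P).map E.toMonoidHom = commutator M := by
  rw [commutator_def, Subgroup.map_commutator, Subgroup.map_top_of_surjective _ E.surjective,
    commutator_def]

/-- the properties of a Sylow `2`-subgroup of `U₃(4)` -/
theorem props_of_equiv (E : P ≃* M) (hcard : Nat.card M = 64)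
    (hZ : Nat.card (Subgroup.center M) = 4)
    (h1 : Subgroup.center M = Subgroup.closure {x : M | orderOf x = 2})
    (h2 : Subgroup.center M = commutator M) (h3 : ∀ x : M, x ^ 2 ∈ Subgroup.center M)
    (h4 : ∀ x ∈ Subgroup.center M, x ^ 2 = 1) :
    Nat.card P = 64 ∧ IsKleinFour (Subgroup.center P) ∧
      Subgroup.center P = Subgroup.closure {x : P | orderOf x = 2} ∧
      Subgroup.center P = commutator P ∧ Nat.card (P ⧸ Subgroup.center P) = 16 ∧
      ∀ x : P ⧸ Subgroup.center P, x ^ 2 = 1 := by
  have hP : Nat.card P = 64 := by rw [Nat.card_congr E.toEquiv, hcard]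
  have hZP : Nat.card (Subgroup.center P) = 4 := by rw [card_center E, hZ]
  refine ⟨hP, ⟨hZP, ?_⟩, ?_, ?_, ?_, ?_⟩
  · have hd : Monoid.exponent (Subgroup.center P) ∣ 2 := by
      apply Monoid.exponent_dvd_of_forall_pow_eq_one
      intro x
      apply Subtype.ext
      apply E.injective
      show E ((x.1) ^ 2) = E 1
      rw [map_pow, map_one]
      exact h4 _ ((mem_center_iff E x.1).1 x.2)
    rcases (Nat.dvd_prime Nat.prime_two).1 hd with h5 | h5
    · rw [Monoid.exp_eq_one_iff] at h5
      have := Nat.card_eq_one_iff_unique.2 ⟨h5, ⟨1⟩⟩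
      omega
    · exact h5
  · apply Subgroup.map_injective (f := E.toMonoidHom) E.injective
    rw [map_center, map_closure_two, h1]
  · apply Subgroup.map_injective (f := E.toMonoidHom) E.injective
    rw [map_center, map_commutator, h2]
  · have := Subgroup.card_eq_card_quotient_mul_card_subgroup (Subgroup.center P)
    rw [hP, hZP] at this
    omega
  · intro x
    induction x using QuotientGroup.induction_on with
    | H g =>
      rw [← QuotientGroup.mk_pow, QuotientGroup.eq_one_iff, mem_center_iff E, map_pow]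
      exact h3 _

end Cfsg.Agent.Lib.Helper50SzTr
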