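import Cfsg.Agent.Lib.Helper50SzSyl
import Cfsg.Agent.Lib.Helper50SzTr

set_option autoImplicit false

/-!
The Sylow `p`-subgroups of `PSU₃(q)` are isomorphic to the model group.
-/

namespace Cfsg.Agent.Lib.Helper50SzFin

open Module Cfsg.Agent.Lib.Helper95Herm Cfsg.Agent.Lib.Helper95SU Cfsg.Agent.Lib.Helper95CU
  Cfsg.Agent.Lib.Helper50UGeom Cfsg.Agent.Lib.Helper50UGrp Cfsg.Agent.Lib.Helper50UPar
  Cfsg.Agent.Lib.Helper50UFx Cfsg.Agent.Lib.Helper50UTriv Cfsg.Agent.Lib.Helper50SzM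
  Cfsg.Agent.Lib.Helper50SzSyl Cfsg.Agent.Lib.Helper50UStd Cfsg.Agent.Lib.Helper95SUStd
  Cfsg.Agent.Lib.Helper50URoot

variable {F : Type*} [Field F] [Fintype F] {q : ℕ} (hF : Fintype.card F = q ^ 2)

theorem exists_equiv (p : ℕ) [Fact p.Prime] [CharP F p] (S : Sylow p (Cfsg.PSU 3 F q)) :
    Nonempty (↥(S : Subgroup (Cfsg.PSU 3 F q)) ≃* M (sig hF) (herm_std hF 3).invol) := by
  have h := herm_std hF 3
  have hdim : finrank F (Fin 3 → F) = 3 := by rw [Module.finrank_fin_fun]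
  let π : SUg (Cfsg.hermForm 3 F q) →* Cfsg.PSU 3 F q :=
    (psi (n := 3) (F := F) (q := q)).symm.toMonoidHom.comp
      (QuotientGroup.mk' (Subgroup.center (SUg (Cfsg.hermForm 3 F q))))
  have hπ : Function.Surjective π :=
    (psi (n := 3) (F := F) (q := q)).symm.surjective.comp (QuotientGroup.mk'_surjective _)
  obtain ⟨P, hP⟩ := Sylow.mapSurjective_surjective hπ p S
  obtain ⟨u, v, w₀, Fr, h0u, h0v, h00, hPQ⟩ := sylow_eq h p hdim P
  have hS : (S : Subgroup (Cfsg.PSU 3 F q)) = (π.comp (phi h Fr.uu h0u h00)).range := by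
    rw [← hP, Sylow.coe_mapSurjective, hPQ, ← phi_range h hdim Fr h0u h0v h00, MonoidHom.range_eq_map,
      MonoidHom.range_eq_map, Subgroup.map_map]
  have hinj : Function.Injective (π.comp (phi h Fr.uu h0u h00)) := by
    intro x y e
    apply phi_injective h Fr h0u h0v h00
    have e1 : (QuotientGroup.mk (phi h Fr.uu h0u h00 x) :
        SUg (Cfsg.hermForm 3 F q) ⧸ Subgroup.center (SUg (Cfsg.hermForm 3 F q))) =
        QuotientGroup.mk (phi h Fr.uu h0u h00 y) :=
      (psi (n := 3) (F := F) (q := q)).symm.injective e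
    apply eq_of_mk_eq_of_fix h Fr e1 (Fr.u_ne h)
    rw [(phi_mem h Fr.uu h0u h00 x).1, (phi_mem h Fr.uu h0u h00 y).1]
  exact ⟨((MonoidHom.ofInjective hinj).trans (MulEquiv.subgroupCongr hS.symm)).symm⟩

omit [Fintype F] in
lemma charP_two [Fintype F] {m : ℕ} (hm : m ≠ 0) (hc : Fintype.card F = 2 ^ m) : CharP F 2 := by
  have h1 : ((Fintype.card F : ℕ) : F) = 0 := FiniteField.cast_card_eq_zero F
  rw [hc] at h1
  push_cast at h1
  exact CharTwo.of_one_ne_zero_of_two_eq_zero one_ne_zero ((pow_eq_zero_iff hm).1 h1)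

include hF in
lemma card_fixed [CharP F 2] : Nat.card {x : F // sig hF x = x} = q := by
  have h := herm_std hF 3
  have := card_fix (hσ := h.invol) h.trace_surj
  rw [Nat.card_eq_fintype_card (α := F), hF] at this
  exact (Nat.pow_left_inj (by norm_num)).1 this

lemma card_model [CharP F 2] : Nat.card (M (sig hF) (herm_std hF 3).invol) = q ^ 3 := by
  rw [card_M (herm_std hF 3).trace_surj, card_fixed hF, Nat.card_eq_fintype_card, hF]
  ring

lemma card_model_center [CharP F 2] :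
    Nat.card (Subgroup.center (M (sig hF) (herm_std hF 3).invol)) = q := by
  obtain ⟨t, ht⟩ := Cfsg.Agent.Lib.Helper17Herm.exists_ne_fix _ (herm_std hF 3).ne_id
  rw [card_center (herm_std hF 3).trace_surj t ht, card_fixed hF]

end Cfsg.Agent.Lib.Helper50SzFin
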