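import Mathlib
import Cfsg.Prelude.Def_LieRecognition

set_option autoImplicit false

/-!
The model of a Sylow `2`-subgroup of `SU₃(q)`: pairs `(a, c)` with `c + σ c = - a σ a`.
-/

namespace Cfsg.Agent.Lib.Helper50SzM

open scoped commutatorElement

variable {K : Type*} [Field K]

/-- pairs `(a, c)` with `c + σ c = - a σ a` -/
@[ext] structure M (σ : K →+* K) (hσ : ∀ x, σ (σ x) = x) where
  a : K
  c : K
  h : c + σ c = - (a * σ a)

variable {σ : K →+* K} {hσ : ∀ x, σ (σ x) = x}

instance : Mul (M σ hσ) := ⟨fun x y => ⟨x.a + y.a, x.c + y.c - y.a * σ x.a, by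
  simp only [map_add, map_sub, map_mul, hσ]; linear_combination x.h + y.h⟩⟩

instance : One (M σ hσ) := ⟨⟨0, 0, by simp⟩⟩

instance : Inv (M σ hσ) := ⟨fun x => ⟨-x.a, σ x.c, by
  simp only [map_neg, hσ]; linear_combination x.h⟩⟩

@[simp] lemma mul_a (x y : M σ hσ) : (x * y).a = x.a + y.a := rfl
@[simp] lemma mul_c (x y : M σ hσ) : (x * y).c = x.c + y.c - y.a * σ x.a := rfl
@[simp] lemma one_a : (1 : M σ hσ).a = 0 := rfl
@[simp] lemma one_c : (1 : M σ hσ).c = 0 := rfl
@[simp] lemma inv_a (x : M σ hσ) : (x⁻¹).a = - x.a := rfl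
@[simp] lemma inv_c (x : M σ hσ) : (x⁻¹).c = σ x.c := rfl

instance : Group (M σ hσ) := Group.ofLeftAxioms
  (by
    intro x y z
    ext
    · simp only [mul_a]; ring
    · simp only [mul_a, mul_c, map_add]; ring)
  (by
    intro x
    ext
    · simp
    · simp)
  (by
    intro x
    ext
    · simp
    · simp only [mul_c, inv_c, inv_a, map_neg, one_c]; linear_combination x.h)

lemma eq_one_iff (x : M σ hσ) : x = 1 ↔ x.a = 0 ∧ x.c = 0 := by
  constructor
  · rintro rfl; exact ⟨rfl, rfl⟩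
  · rintro ⟨h1, h2⟩; ext <;> assumption

section props

variable (htr : ∀ d, σ d = d → ∃ c, c + σ c = d)

include htr in
lemma exists_a (a : K) : ∃ x : M σ hσ, x.a = a := by
  obtain ⟨c, hc⟩ := htr (- (a * σ a)) (by rw [map_neg, map_mul, hσ]; ring)
  exact ⟨⟨a, c, hc⟩, rfl⟩

include htr in
lemma mem_center_iff (t : K) (ht : σ t ≠ t) (x : M σ hσ) :
    x ∈ Subgroup.center (M σ hσ) ↔ x.a = 0 := by
  rw [Subgroup.mem_center_iff]
  constructor
  · intro hx
    obtain ⟨y, hy⟩ := exists_a (hσ := hσ) htr 1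
    obtain ⟨z, hz⟩ := exists_a (hσ := hσ) htr t
    have e1 := congrArg M.c (hx y)
    have e2 := congrArg M.c (hx z)
    simp only [mul_c, hy, hz, map_one] at e1 e2
    have e3 : σ x.a = x.a := by linear_combination e1
    rw [e3] at e2
    have e4 : x.a * (σ t - t) = 0 := by linear_combination -e2
    rcases mul_eq_zero.1 e4 with h5 | h5
    · exact h5
    · exact absurd (sub_eq_zero.1 h5) ht
  · intro hx g
    ext
    · simp only [mul_a]; ring
    · simp only [mul_c, hx, map_zero]; ring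

end props

section char2

variable [CharP K 2]

lemma add_self' (x : K) : x + x = 0 := CharTwo.add_self_eq_zero x

lemma neg' (x : K) : -x = x := CharTwo.neg_eq x

lemma sq_eq (x : M σ hσ) : x * x = ⟨0, x.a * σ x.a, by
    simp only [map_mul, hσ, map_zero, mul_zero, neg_zero]
    rw [mul_comm (σ x.a)]; exact add_self' _⟩ := by
  ext
  · simp only [mul_a]; exact add_self' _
  · simp only [mul_c]; rw [add_self', zero_sub, neg']

lemma sq_eq_one_iff (x : M σ hσ) : x * x = 1 ↔ x.a = 0 := by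
  rw [sq_eq, eq_one_iff]
  constructor
  · rintro ⟨-, h2⟩
    rcases mul_eq_zero.1 h2 with h3 | h3
    · exact h3
    · have := congrArg σ h3
      rwa [hσ, map_zero] at this
  · intro h; simp [h]

lemma fix_of_a (x : M σ hσ) (hx : x.a = 0) : σ x.c = x.c := by
  have := x.h
  rw [hx, zero_mul, neg_zero] at this
  have e : σ x.c = - x.c := by linear_combination this
  rw [e, neg']

lemma isPGroup : IsPGroup 2 (M σ hσ) := by
  intro x
  refine ⟨2, ?_⟩
  have : x ^ 2 ^ 2 = (x * x) * (x * x) := by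
    norm_num
    rw [show (4 : ℕ) = 2 + 2 from rfl, pow_add, pow_two]
  rw [this, sq_eq_one_iff, mul_a]
  exact add_self' _

/-- central elements -/
def zz (d : K) (hd : σ d = d) : M σ hσ := ⟨0, d, by rw [hd, add_self']; simp⟩

@[simp] lemma zz_a (d : K) (hd : σ d = d) : (zz d hd : M σ hσ).a = 0 := rfl
@[simp] lemma zz_c (d : K) (hd : σ d = d) : (zz d hd : M σ hσ).c = d := rfl

lemma eq_zz (x : M σ hσ) (hx : x.a = 0) : x = zz x.c (fix_of_a x hx) := by
  ext
  · exact hx
  · rfl

/-- the additive trace map -/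
def T (σ : K →+* K) : K →+ K := AddMonoidHom.id K + σ.toAddMonoidHom

lemma T_apply (x : K) : T σ x = x + σ x := rfl

lemma mem_ker_T (x : K) : x ∈ (T σ).ker ↔ σ x = x := by
  rw [AddMonoidHom.mem_ker, T_apply]
  constructor
  · intro h
    have e : σ x = - x := by linear_combination h
    rw [e, neg']
  · intro h
    rw [h, add_self']

variable (htr : ∀ d, σ d = d → ∃ c, c + σ c = d)

include hσ htr in
lemma mem_range_T (x : K) : x ∈ (T σ).range ↔ σ x = x := by
  rw [AddMonoidHom.mem_range]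
  constructor
  · rintro ⟨y, rfl⟩
    rw [T_apply, map_add, hσ, add_comm]
  · intro h
    exact htr x h

include hσ htr in
lemma card_fix [Finite K] : Nat.card {x : K // σ x = x} ^ 2 = Nat.card K := by
  have h1 := (T σ).ker.card_mul_index
  rw [AddSubgroup.index_ker] at h1
  have h2 : Nat.card (T σ).ker = Nat.card {x : K // σ x = x} :=
    Nat.card_congr (Equiv.subtypeEquivRight (fun x => mem_ker_T x))
  have h3 : Nat.card (T σ).range = Nat.card {x : K // σ x = x} :=
    Nat.card_congr (Equiv.subtypeEquivRight (fun x => mem_range_T (hσ := hσ) htr x))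
  rw [h2, h3] at h1
  rw [pow_two, h1]

include htr in
lemma card_M : Nat.card (M σ hσ) = Nat.card K * Nat.card {x : K // σ x = x} := by
  choose c0 hc0 using fun a : K => htr (- (a * σ a)) (by rw [map_neg, map_mul, hσ]; ring)
  rw [← Nat.card_prod]
  apply Nat.card_congr
  refine ⟨fun x => (x.a, ⟨x.c - c0 x.a, ?_⟩), fun y => ⟨y.1, y.2.1 + c0 y.1, ?_⟩, ?_, ?_⟩
  · have e : σ (x.c - c0 x.a) = - (x.c - c0 x.a) := by
      rw [map_sub]; linear_combination x.h - hc0 x.a
    rw [e, neg']
  · rw [map_add, y.2.2]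
    have := add_self' y.2.1
    linear_combination this + hc0 y.1
  · intro x
    ext <;> simp
  · rintro ⟨a, d, hd⟩
    simp

include htr in
lemma card_center (t : K) (ht : σ t ≠ t) :
    Nat.card (Subgroup.center (M σ hσ)) = Nat.card {x : K // σ x = x} := by
  apply Nat.card_congr
  refine ⟨fun x => ⟨x.1.c, fix_of_a x.1 ((mem_center_iff htr t ht x.1).1 x.2)⟩,
    fun d => ⟨zz d.1 d.2, (mem_center_iff htr t ht _).2 rfl⟩, ?_, ?_⟩
  · intro x
    apply Subtype.ext
    exact (eq_zz x.1 ((mem_center_iff htr t ht x.1).1 x.2)).symm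
  · intro d
    rfl

include htr in
lemma noncomm (t : K) (ht : σ t ≠ t) : ∃ x y : M σ hσ, x * y ≠ y * x := by
  obtain ⟨y, hy⟩ := exists_a (hσ := hσ) htr 1
  obtain ⟨z, hz⟩ := exists_a (hσ := hσ) htr t
  refine ⟨y, z, fun e => ht ?_⟩
  have e1 := congrArg M.c e
  simp only [mul_c, hy, hz, map_one] at e1
  linear_combination e1

lemma two_invol (r : K) (hr : σ r = r) (hr0 : r ≠ 0) (hr1 : r ≠ 1) :
    ∃ x y : M σ hσ, x ≠ y ∧ x ≠ 1 ∧ x * x = 1 ∧ y ≠ 1 ∧ y * y = 1 := by
  refine ⟨zz r hr, zz 1 (map_one σ), ?_, ?_, (sq_eq_one_iff _).2 rfl, ?_, (sq_eq_one_iff _).2 rfl⟩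
  · intro e
    exact hr1 (congrArg M.c e)
  · intro e
    exact hr0 (congrArg M.c e)
  · intro e
    exact one_ne_zero (congrArg M.c e)

omit [CharP K 2] in
/-- the diagonal automorphisms -/
def alphaHom (l : K) (hl : σ l = l) : M σ hσ →* M σ hσ where
  toFun x := ⟨l * x.a, l ^ 2 * x.c, by
    simp only [map_mul, map_pow, hl]; linear_combination l ^ 2 * x.h⟩
  map_one' := by ext <;> simp
  map_mul' x y := by
    ext
    · simp only [mul_a]; ring
    · simp only [mul_c, map_mul, hl]; ring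

/-- the subgroup of fixed units -/
def L (σ : K →+* K) : Subgroup Kˣ where
  carrier := {l | σ l.1 = l.1}
  mul_mem' {a b} ha hb := by
    show σ (a.1 * b.1) = a.1 * b.1
    rw [map_mul, ha, hb]
  one_mem' := map_one σ
  inv_mem' {a} ha := by
    show σ (a⁻¹ : Kˣ).1 = (a⁻¹ : Kˣ).1
    rw [Units.val_inv_eq_inv_val, map_inv₀, ha]

omit [CharP K 2] in
lemma mem_L (l : Kˣ) : l ∈ L σ ↔ σ l.1 = l.1 := Iff.rfl

omit [CharP K 2] in
/-- the diagonal automorphisms -/
def alpha (l : L σ) : MulAut (M σ hσ) :=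
  MonoidHom.toMulEquiv (alphaHom l.1.1 l.2) (alphaHom (l⁻¹).1.1 (l⁻¹).2)
    (by
      ext x
      · show (l⁻¹).1.1 * (l.1.1 * x.a) = x.a
        rw [← mul_assoc]
        have : (l⁻¹).1.1 * l.1.1 = 1 := by
          rw [Subgroup.coe_inv, Units.inv_mul]
        rw [this, one_mul]
      · show (l⁻¹).1.1 ^ 2 * (l.1.1 ^ 2 * x.c) = x.c
        rw [← mul_assoc, ← mul_pow]
        have : (l⁻¹).1.1 * l.1.1 = 1 := by
          rw [Subgroup.coe_inv, Units.inv_mul]
        rw [this, one_pow, one_mul])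
    (by
      ext x
      · show l.1.1 * ((l⁻¹).1.1 * x.a) = x.a
        rw [← mul_assoc]
        have : l.1.1 * (l⁻¹).1.1 = 1 := by
          rw [Subgroup.coe_inv, Units.mul_inv]
        rw [this, one_mul]
      · show l.1.1 ^ 2 * ((l⁻¹).1.1 ^ 2 * x.c) = x.c
        rw [← mul_assoc, ← mul_pow]
        have : l.1.1 * (l⁻¹).1.1 = 1 := by
          rw [Subgroup.coe_inv, Units.mul_inv]
        rw [this, one_pow, one_mul])

omit [CharP K 2] in
lemma alpha_a (l : L σ) (x : M σ hσ) : (alpha l x).a = l.1.1 * x.a := rfl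

omit [CharP K 2] in
lemma alpha_c (l : L σ) (x : M σ hσ) : (alpha l x).c = l.1.1 ^ 2 * x.c := rfl

omit [CharP K 2] in
/-- the diagonal automorphisms, as a homomorphism -/
def Alpha : L σ →* MulAut (M σ hσ) where
  toFun := alpha
  map_one' := by
    ext x
    · rw [alpha_a]; simp
    · rw [alpha_c]; simp
  map_mul' l l' := by
    ext x
    · rw [MulAut.mul_apply, alpha_a, alpha_a, alpha_a]
      simp [mul_assoc]
    · rw [MulAut.mul_apply, alpha_c, alpha_c, alpha_c]
      simp [mul_pow, mul_assoc]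

lemma sq_inj {x y : K} (h : x ^ 2 = y ^ 2) : x = y := by
  have : (x - y) ^ 2 = 0 := by
    have e : (x - y) ^ 2 = x ^ 2 + y ^ 2 - (x * y + x * y) := by ring
    rw [e, add_self', h, add_self', sub_zero]
  exact sub_eq_zero.1 (pow_eq_zero_iff (two_ne_zero) |>.1 this)

lemma exists_sqrt [Finite K] (d : K) : ∃ l : K, l ^ 2 = d := by
  have : Function.Injective (fun x : K => x ^ 2) := fun x y h => sq_inj h
  exact (Finite.injective_iff_surjective.1 this) d

theorem regular [Finite K] (x y : M σ hσ) (hx : x ≠ 1) (hx2 : x * x = 1) (hy : y ≠ 1)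
    (hy2 : y * y = 1) :
    ∃! k : (Alpha (σ := σ) (hσ := hσ)).range, (k : MulAut (M σ hσ)) x = y := by
  rw [sq_eq_one_iff] at hx2 hy2
  have hxc : x.c ≠ 0 := fun h0 => hx ((eq_one_iff x).2 ⟨hx2, h0⟩)
  have hyc : y.c ≠ 0 := fun h0 => hy ((eq_one_iff y).2 ⟨hy2, h0⟩)
  obtain ⟨l, hl⟩ := exists_sqrt (y.c / x.c)
  have hl0 : l ≠ 0 := by
    rintro rfl
    rw [zero_pow two_ne_zero] at hl
    exact div_ne_zero hyc hxc hl.symm
  have hlσ : σ l = l := by
    apply sq_inj
    rw [← map_pow, hl, map_div₀, fix_of_a x hx2, fix_of_a y hy2]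
  refine ⟨⟨Alpha ⟨Units.mk0 l hl0, hlσ⟩, ⟨_, rfl⟩⟩, ?_, ?_⟩
  · ext
    · show l * x.a = y.a
      rw [hx2, hy2, mul_zero]
    · show l ^ 2 * x.c = y.c
      rw [hl]; field_simp
  · rintro ⟨_, ⟨l', rfl⟩⟩ hk
    apply Subtype.ext
    show Alpha l' = Alpha _
    congr 1
    apply Subtype.ext
    apply Units.ext
    show l'.1.1 = l
    apply sq_inj
    have e : l'.1.1 ^ 2 * x.c = y.c := congrArg M.c hk
    rw [hl, ← e]; field_simp

include htr in
theorem isSuzuki [Finite K] (t : K) (ht : σ t ≠ t) (r : K) (hr : σ r = r) (hr0 : r ≠ 0)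
    (hr1 : r ≠ 1) : Cfsg.IsSuzukiTwoGroup (M σ hσ) := by
  have hfin : Finite (M σ hσ) :=
    Finite.of_injective (fun x : M σ hσ => (x.a, x.c)) (by
      intro x y h
      ext
      · exact congrArg Prod.fst h
      · exact congrArg Prod.snd h)
  refine ⟨hfin, isPGroup, noncomm htr t ht, two_invol r hr hr0 hr1,
    (Alpha (σ := σ) (hσ := hσ)).range, ?_, regular⟩
  exact isCyclic_of_surjective _ (Alpha (σ := σ) (hσ := hσ)).rangeRestrict_surjective

include htr in
lemma center_eq_closure (t : K) (ht : σ t ≠ t) :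
    Subgroup.center (M σ hσ) = Subgroup.closure {x : M σ hσ | orderOf x = 2} := by
  apply le_antisymm
  · intro x hx
    by_cases h1 : x = 1
    · rw [h1]; exact Subgroup.one_mem _
    · apply Subgroup.subset_closure
      apply orderOf_eq_prime _ h1
      rw [pow_two, sq_eq_one_iff]
      exact (mem_center_iff htr t ht x).1 hx
  · rw [Subgroup.closure_le]
    intro x hx
    rw [SetLike.mem_coe, mem_center_iff htr t ht, ← sq_eq_one_iff, ← pow_two]
    have : orderOf x = 2 := hx
    rw [← this]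
    exact pow_orderOf_eq_one x

include htr in
lemma center_eq_commutator (t : K) (ht : σ t ≠ t) :
    Subgroup.center (M σ hσ) = commutator (M σ hσ) := by
  apply le_antisymm
  · intro x hx
    have hx0 := (mem_center_iff htr t ht x).1 hx
    obtain ⟨a, ha⟩ := htr x.c (fix_of_a x hx0)
    obtain ⟨y, hy⟩ := exists_a (hσ := hσ) htr a
    obtain ⟨z, hz⟩ := exists_a (hσ := hσ) htr 1
    have : x = ⁅y, z⁆ := by
      rw [commutatorElement_def]
      ext
      · simp only [mul_a, inv_a, hx0]; ring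
      · simp only [mul_a, mul_c, inv_a, inv_c, hy, hz, map_add, map_neg, map_one]
        have e1 := y.h
        have e2 := z.h
        rw [hy] at e1
        rw [hz, map_one] at e2
        have e3 := add_self' (σ a)
        linear_combination -ha - e1 - e2 + e3
    rw [this, commutator_eq_closure]
    exact Subgroup.subset_closure ⟨y, z, rfl⟩
  · rw [commutator_eq_closure, Subgroup.closure_le]
    rintro _ ⟨y, z, rfl⟩
    rw [SetLike.mem_coe, mem_center_iff htr t ht, commutatorElement_def]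
    simp only [mul_a, inv_a]; ring

include htr in
lemma sq_mem_center (t : K) (ht : σ t ≠ t) (x : M σ hσ) : x ^ 2 ∈ Subgroup.center (M σ hσ) := by
  rw [mem_center_iff htr t ht, pow_two, mul_a]
  exact add_self' _

end char2

end Cfsg.Agent.Lib.Helper50SzM
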