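import Cfsg.Agent.Lib.Helper50SzAS
import Cfsg.Agent.Lib.Helper50SzM

set_option autoImplicit false

/-!
Key lemma: an additive involution of `K` which is a semi-similarity of the norm form
induces the identity on the fixed field.
-/

namespace Cfsg.Agent.Lib.Helper50SzKL

open Cfsg.Agent.Lib.Helper50SzM Cfsg.Agent.Lib.Helper50SzAS

variable {K : Type*} [Field K] {σ : K →+* K}

section basic

variable (hσ : ∀ x, σ (σ x) = x)

include hσ in
lemma norm_fix (a : K) : σ (a * σ a) = a * σ a := by rw [map_mul, hσ, mul_comm]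

include hσ in
lemma tr_fix (x : K) : σ (x + σ x) = x + σ x := by rw [map_add, hσ, add_comm]

include hσ in
lemma norm_zero {a : K} (h : a * σ a = 0) : a = 0 := by
  rcases mul_eq_zero.1 h with h1 | h1
  · exact h1
  · have := congrArg σ h1
    rwa [hσ, map_zero] at this

lemma tr_zero_iff [CharP K 2] (x : K) : x + σ x = 0 ↔ σ x = x := by
  constructor
  · intro h
    have := add_self' x
    linear_combination h - this
  · intro h
    rw [h]; exact add_self' x

end basic

/-- the fixed field -/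
def kk (σ : K →+* K) : Subfield K := RingHom.eqLocusField σ (RingHom.id K)

lemma mem_kk (x : K) : x ∈ kk σ ↔ σ x = x := Iff.rfl

instance [CharP K 2] : CharP (kk σ) 2 :=
  (RingHom.charP_iff (kk σ).subtype (kk σ).subtype.injective 2).2 inferInstance

variable [CharP K 2]

/-- solvability of quadratic equations with coefficients fixed by an involution of `k` -/
lemma exists_root_k [Finite K] (φ : K → K) (h1 : ∀ c, σ c = c → σ (φ c) = φ c)
    (hadd : ∀ c c', φ (c + c') = φ c + φ c') (hmul : ∀ c c', σ c = c → σ c' = c' →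
      φ (c * c') = φ c * φ c') (hone : φ 1 = 1) (hinv : ∀ c, σ c = c → φ (φ c) = c)
    (θ : K) (hθ : σ θ = θ) (hθ' : φ θ ≠ θ) (δ : K) (hδ : σ δ = δ) (hδ' : φ δ = δ) :
    ∃ Y : K, σ Y = Y ∧ Y ^ 2 + Y = δ := by
  have hzero : φ 0 = 0 := by
    have := hadd 0 0
    rw [add_zero] at this
    linear_combination -this
  let Φ : kk σ →+* kk σ :=
    { toFun := fun c => ⟨φ c.1, h1 c.1 c.2⟩
      map_one' := Subtype.ext hone
      map_mul' := fun c c' => Subtype.ext (hmul c.1 c'.1 c.2 c'.2)
      map_zero' := Subtype.ext hzero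
      map_add' := fun c c' => Subtype.ext (hadd c.1 c'.1) }
  obtain ⟨Y, hY⟩ := exists_root Φ (fun x => Subtype.ext (hinv x.1 x.2)) ⟨θ, hθ⟩
    (fun e => hθ' (congrArg Subtype.val e)) ⟨δ, hδ⟩ (Subtype.ext hδ')
  exact ⟨Y.1, Y.2, congrArg Subtype.val hY⟩

theorem KL [Finite K] (hσ : ∀ x, σ (σ x) = x) (htr : ∀ d, σ d = d → ∃ c, c + σ c = d)
    (A B : K → K) (hA : ∀ a a', A (a + a') = A a + A a') (hA2 : ∀ a, A (A a) = a)
    (hB : ∀ d d', σ d = d → σ d' = d' → B (d + d') = B d + B d')
    (hN : ∀ a, A a * σ (A a) = B (a * σ a)) : ∀ d, σ d = d → B d = d := by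
  have hB0 : B 0 = 0 := by
    have := hB 0 0 (map_zero σ) (map_zero σ)
    rw [add_zero] at this
    linear_combination -this
  have hpol : ∀ a a', A a * σ (A a') + σ (A a * σ (A a')) = B (a * σ a' + σ (a * σ a')) := by
    intro a a'
    have h1 := hN (a + a')
    have e1 : (a + a') * σ (a + a') = (a * σ a + a' * σ a') + (a * σ a' + σ (a * σ a')) := by
      rw [map_add, map_mul, hσ]; ring
    rw [e1, hB _ _ (by rw [map_add, norm_fix hσ, norm_fix hσ]) (tr_fix hσ _),
      hB _ _ (norm_fix hσ _) (norm_fix hσ _), ← hN a, ← hN a', hA, map_add] at h1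
    rw [map_mul, hσ]
    linear_combination h1
  -- a nonzero fixed vector
  obtain ⟨a, ha0, haA⟩ : ∃ a, a ≠ 0 ∧ A a = a := by
    by_cases h1 : A 1 = 1
    · exact ⟨1, one_ne_zero, h1⟩
    · refine ⟨1 + A 1, ?_, ?_⟩
      · intro h
        apply h1
        have := add_self' (1 : K)
        linear_combination h - this
      · rw [hA, hA2, add_comm]
  have hσa : σ a ≠ 0 := fun h => ha0 (by have := congrArg σ h; rwa [hσ, map_zero] at this)
  by_cases hU : ∀ x, A x = x → σ (x * σ a) = x * σ a
  · intro d hd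
    obtain ⟨c, hc⟩ := htr d hd
    have e1 : (c / σ a) * σ a = c := by field_simp
    have e2 := hU (c / σ a + A (c / σ a)) (by rw [hA, hA2, add_comm])
    have e3 := hpol (c / σ a) a
    rw [haA, e1, hc] at e3
    rw [← e3]
    rw [add_mul, e1, map_add] at e2
    have e4 := add_self' (σ c)
    have e5 := add_self' (A (c / σ a) * σ a)
    linear_combination e2 + hc - e4 + e5
  push Not at hU
  obtain ⟨a', ha'A, hne⟩ := hU
  have ha'0 : a' ≠ 0 := by
    rintro rfl
    apply hne
    simp
  set e := a * σ a with he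
  set e' := a' * σ a' with he'
  set t := a * σ a' + σ (a * σ a') with ht
  have he0 : e ≠ 0 := fun h => ha0 (norm_zero hσ h)
  have he'0 : e' ≠ 0 := fun h => ha'0 (norm_zero hσ h)
  have hef : σ e = e := norm_fix hσ a
  have he'f : σ e' = e' := norm_fix hσ a'
  have htf : σ t = t := tr_fix hσ _
  have ht0 : t ≠ 0 := by
    intro h
    apply hne
    have h1 := (tr_zero_iff _).1 h
    rw [map_mul, hσ] at h1 ⊢
    rw [mul_comm (σ a') a, ← h1, mul_comm]
  have hBe : B e = e := by rw [he, ← hN a, haA]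
  have hBe' : B e' = e' := by rw [he', ← hN a', ha'A]
  have hBt : B t = t := by rw [ht, ← hpol a a', haA, ha'A]
  -- lines
  have line : ∀ (b : K), b ≠ 0 → A b = b → ∀ c, σ c = c →
      σ (A (c * b) * σ b / (b * σ b)) = A (c * b) * σ b / (b * σ b) ∧
      A (c * b) = (A (c * b) * σ b / (b * σ b)) * b := by
    intro b hb0 hbA c hc
    have hσb : σ b ≠ 0 := fun h => hb0 (by have := congrArg σ h; rwa [hσ, map_zero] at this)
    constructor
    · have h1 := hpol (c * b) b
      rw [hbA] at h1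
      have h2 : c * b * σ b + σ (c * b * σ b) = 0 := by
        rw [tr_zero_iff, mul_assoc, map_mul, hc, norm_fix hσ]
      rw [h2, hB0, tr_zero_iff] at h1
      rw [map_div₀, h1, norm_fix hσ]
    · field_simp
  set φ : K → K := fun c => A (c * a) * σ a / e with hφ
  set φ' : K → K := fun c => A (c * a') * σ a' / e' with hφ'
  have P1 : ∀ c, σ c = c → σ (φ c) = φ c := fun c hc => (line a ha0 haA c hc).1
  have P2 : ∀ c, σ c = c → A (c * a) = φ c * a := fun c hc => (line a ha0 haA c hc).2
  have P1' : ∀ c, σ c = c → σ (φ' c) = φ' c := fun c hc => (line a' ha'0 ha'A c hc).1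
  have P2' : ∀ c, σ c = c → A (c * a') = φ' c * a' := fun c hc => (line a' ha'0 ha'A c hc).2
  have P3 : ∀ c c', σ c = c → σ c' = c' → B (c * c' * t) = φ c * φ' c' * t := by
    intro c c' hc hc'
    have h1 := hpol (c * a) (c' * a')
    rw [P2 c hc, P2' c' hc'] at h1
    have e1 : c * a * σ (c' * a') + σ (c * a * σ (c' * a')) = c * c' * t := by
      rw [ht]
      simp only [map_mul, hσ, hc, hc']
      ring
    have e2 : φ c * a * σ (φ' c' * a') + σ (φ c * a * σ (φ' c' * a')) = φ c * φ' c' * t := by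
      rw [ht]
      simp only [map_mul, hσ, P1 c hc, P1' c' hc']
      ring
    rw [e1, e2] at h1
    exact h1.symm
  have P4 : φ 1 = 1 := by
    show A (1 * a) * σ a / e = 1
    rw [one_mul, haA, ← he, div_self he0]
  have P4' : φ' 1 = 1 := by
    show A (1 * a') * σ a' / e' = 1
    rw [one_mul, ha'A, ← he', div_self he'0]
  have P5 : ∀ c, σ c = c → B (c * t) = φ c * t := by
    intro c hc
    have := P3 c 1 hc (map_one σ)
    rwa [mul_one, P4', mul_one] at this
  have P5' : ∀ c, σ c = c → φ' c = φ c := by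
    intro c hc
    have h1 := P3 1 c (map_one σ) hc
    rw [one_mul, P4, one_mul, P5 c hc] at h1
    exact (mul_right_cancel₀ ht0 h1).symm
  have P6 : ∀ c c', σ c = c → σ c' = c' → φ (c * c') = φ c * φ c' := by
    intro c c' hc hc'
    have h1 := P3 c c' hc hc'
    rw [P5 (c * c') (by rw [map_mul, hc, hc']), P5' c' hc'] at h1
    exact mul_right_cancel₀ ht0 h1
  have P7 : ∀ c c', φ (c + c') = φ c + φ c' := by
    intro c c'
    show A ((c + c') * a) * σ a / e = A (c * a) * σ a / e + A (c' * a) * σ a / e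
    rw [add_mul, hA]; ring
  have P8 : ∀ c, σ c = c → φ (φ c) = c := by
    intro c hc
    have h1 := hA2 (c * a)
    rw [P2 c hc, P2 (φ c) (P1 c hc)] at h1
    exact mul_right_cancel₀ ha0 h1
  have P9 : ∀ x, σ x = x → B (x * e) = φ x * e := by
    intro x hx
    obtain ⟨c, hc⟩ := exists_sqrt x
    have hcf : σ c = c := by
      apply sq_inj
      rw [← map_pow, hc, hx]
    have h1 := hN (c * a)
    rw [P2 c hcf] at h1
    have e1 : c * a * σ (c * a) = x * e := by
      rw [map_mul, hcf, ← hc, he]; ring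
    have e2 : φ c * a * σ (φ c * a) = φ x * e := by
      rw [map_mul, P1 c hcf, ← hc, pow_two, P6 c c hcf hcf, he]; ring
    rw [e1, e2] at h1
    exact h1.symm
  by_cases hid : ∀ c, σ c = c → φ c = c
  · intro d hd
    have h1 := P9 (d / e) (by rw [map_div₀, hd, hef])
    rw [hid _ (by rw [map_div₀, hd, hef]), div_mul_cancel₀ _ he0] at h1
    exact h1
  push Not at hid
  obtain ⟨θ, hθ, hθ'⟩ := hid
  exfalso
  have hβf : σ (t / e) = t / e := by rw [map_div₀, htf, hef]
  have hγf : σ (e' / e) = e' / e := by rw [map_div₀, he'f, hef]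
  have hβ : φ (t / e) = t / e := by
    have h1 := P9 (t / e) hβf
    rw [div_mul_cancel₀ _ he0, hBt] at h1
    rw [eq_div_iff he0]; exact h1.symm
  have hγ : φ (e' / e) = e' / e := by
    have h1 := P9 (e' / e) hγf
    rw [div_mul_cancel₀ _ he0, hBe'] at h1
    rw [eq_div_iff he0]; exact h1.symm
  have hβ0 : t / e ≠ 0 := div_ne_zero ht0 he0
  -- `δ = γ / β ^ 2`
  have hδf : σ ((e' / e) / (t / e) ^ 2) = (e' / e) / (t / e) ^ 2 := by
    rw [map_div₀, map_pow, hβf, hγf]
  have hδ : φ ((e' / e) / (t / e) ^ 2) = (e' / e) / (t / e) ^ 2 := by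
    have h1 := P6 ((e' / e) / (t / e) ^ 2) ((t / e) ^ 2) hδf (by rw [map_pow, hβf])
    rw [div_mul_cancel₀ _ (pow_ne_zero 2 hβ0), hγ, pow_two, P6 _ _ hβf hβf, hβ, ← pow_two] at h1
    rw [eq_div_iff (pow_ne_zero 2 hβ0)]; exact h1.symm
  obtain ⟨Y, hYf, hY⟩ := exists_root_k φ P1 P7 P6 P4 P8 θ hθ hθ' _ hδf hδ
  set c := (t / e) * Y with hc
  have hcf : σ c = c := by rw [hc, map_mul, hβf, hYf]
  have hq : c ^ 2 * e + c * t + e' = 0 := by
    have h1 : c ^ 2 * e + c * t + e' = e * ((t / e) ^ 2 * (Y ^ 2 + Y) + e' / e) := by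
      rw [hc]; field_simp
    rw [h1, hY, mul_div_cancel₀ _ (pow_ne_zero 2 hβ0), add_self', mul_zero]
  have hz : (c * a + a') * σ (c * a + a') = 0 := by
    have : (c * a + a') * σ (c * a + a') = c ^ 2 * e + c * t + e' := by
      rw [he, he', ht]
      simp only [map_add, map_mul, hσ, hcf]
      ring
    rw [this, hq]
  have hz' := norm_zero hσ hz
  apply hne
  have e3 : a' = c * a := by
    have := add_self' a'
    linear_combination -hz' + this
  rw [e3, mul_assoc, map_mul, hcf, norm_fix hσ]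

end Cfsg.Agent.Lib.Helper50SzKL
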