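import Cfsg.Agent.Lib.Helper50SzAut
import Cfsg.Agent.Lib.Helper50SzFin

set_option autoImplicit false

/-!
Overgroups of index two of the model group; Sylow subgroups of `SU₃(q)`.
-/

namespace Cfsg.Agent.Lib.Helper50SzOver

open Module Cfsg.Agent.Lib.Helper95Herm Cfsg.Agent.Lib.Helper50UGeom Cfsg.Agent.Lib.Helper50UGrp
  Cfsg.Agent.Lib.Helper50UPar Cfsg.Agent.Lib.Helper50SzM Cfsg.Agent.Lib.Helper50SzAut
  Cfsg.Agent.Lib.Helper50SzSyl Cfsg.Agent.Lib.Helper50UStd Cfsg.Agent.Lib.Helper95SUStd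
  Cfsg.Agent.Lib.Helper50URoot

section abs

variable {K : Type*} [Field K] [CharP K 2] [Finite K] {σ : K →+* K} {hσ : ∀ x, σ (σ x) = x}

theorem center_le (htr : ∀ d, σ d = d → ∃ c, c + σ c = d) (t : K) (ht : σ t ≠ t)
    {R : Type*} [Group R] (S' : Subgroup R) (hidx : S'.index = 2) (E : S' ≃* M σ hσ) :
    (Subgroup.center ↥S').map S'.subtype ≤ Subgroup.center R := by
  haveI : S'.Normal := Subgroup.normal_of_index_eq_two hidx
  rintro _ ⟨z, hz, rfl⟩
  rw [Subgroup.mem_center_iff]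
  intro r
  have hz' : z ∈ Subgroup.center ↥S' := hz
  have hEz : (E z).a = 0 := by
    rw [← Helper50SzM.mem_center_iff htr t ht]
    exact (Cfsg.Agent.Lib.Helper50SzTr.mem_center_iff E z).1 hz'
  let β : M σ hσ ≃* M σ hσ := E.symm.trans ((MulAut.conjNormal r : MulAut S').trans E)
  have hβ : ∀ x, β x = E (MulAut.conjNormal r (E.symm x)) := fun x => rfl
  have h2 : ∀ x, (β (β x)).a = x.a := by
    intro x
    have e1 : β (β x) = E ⟨r * r, Subgroup.mul_self_mem_of_index_two hidx r⟩ * x *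
        (E ⟨r * r, Subgroup.mul_self_mem_of_index_two hidx r⟩)⁻¹ := by
      rw [hβ, hβ, E.symm_apply_apply]
      conv_rhs => rw [← E.apply_symm_apply x]
      rw [← map_inv, ← map_mul, ← map_mul]
      congr 1
      apply Subtype.ext
      rw [MulAut.conjNormal_apply, MulAut.conjNormal_apply]
      simp only [Subgroup.coe_mul, Subgroup.coe_inv]
      group
    rw [e1]
    simp only [mul_a, inv_a]
    ring
  have h3 := aut_center htr β h2 (E z) hEz
  rw [hβ, E.symm_apply_apply] at h3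
  have h4 := congrArg Subtype.val (E.injective h3)
  rw [MulAut.conjNormal_apply] at h4
  show r * z.1 = z.1 * r
  calc r * z.1 = (r * z.1 * r⁻¹) * r := by group
    _ = z.1 * r := by rw [h4]

end abs

variable {F : Type*} [Field F] [Fintype F] {q : ℕ} (hF : Fintype.card F = q ^ 2)

theorem exists_equiv_SU (p : ℕ) [Fact p.Prime] [CharP F p] (P : Sylow p ↥(Cfsg.SU 3 F q)) :
    Nonempty (↥(P : Subgroup ↥(Cfsg.SU 3 F q)) ≃* M (sig hF) (herm_std hF 3).invol) := by
  have h := herm_std hF 3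
  have hdim : finrank F (Fin 3 → F) = 3 := by rw [Module.finrank_fin_fun]
  haveI : Finite ↥(Cfsg.SU 3 F q) :=
    Finite.of_equiv _ (iota (n := 3) (F := F) (q := q)).symm.toEquiv
  have hsurj : Function.Surjective (iota (n := 3) (F := F) (q := q)).toMonoidHom :=
    (iota (n := 3) (F := F) (q := q)).surjective
  obtain ⟨u, v, w₀, Fr, h0u, h0v, h00, hPQ⟩ := sylow_eq h p hdim (P.mapSurjective hsurj)
  rw [Sylow.coe_mapSurjective, ← phi_range h hdim Fr h0u h0v h00] at hPQ
  exact ⟨((Subgroup.equivMapOfInjective _ _ (iota (n := 3) (F := F) (q := q)).injective).trans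
    (MulEquiv.subgroupCongr hPQ)).trans
    (MonoidHom.ofInjective (phi_injective h Fr h0u h0v h00)).symm⟩

end Cfsg.Agent.Lib.Helper50SzOver
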