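import Cfsg.Agent.Lib.Helper95Herm

set_option autoImplicit false

namespace Cfsg.Agent.Lib.Helper95SU

open Module Cfsg.Agent.Lib.Helper95Sp Cfsg.Agent.Lib.Helper95SpSL Cfsg.Agent.Lib.Helper95Herm

variable {K V : Type*} [Field K] [AddCommGroup V] [Module K V]
variable {σ : K →+* K} {f : V → V → K}

/-- the quasi-reflection `x ↦ x + (l - 1) * f x a / f a a • a` -/
noncomputable def qr (h : Herm σ f) (a : V) (l : K) (ha : f a a ≠ 0) (hl : l ≠ 0) : V ≃ₗ[K] V :=
  LinearEquiv.ofLinearMap (LinearMap.transvection (((l - 1) / f a a) • h.fl a) a)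
    (LinearMap.transvection (((l⁻¹ - 1) / f a a) • h.fl a) a)
    (by
      ext x
      simp only [LinearMap.comp_apply, LinearMap.transvection.apply, LinearMap.smul_apply,
        Herm.fl_apply, smul_eq_mul, LinearMap.id_apply, h.add_left, h.smul_left]
      have : (l - 1) / f a a * (f x a + (l⁻¹ - 1) / f a a * f x a * f a a) =
          - ((l⁻¹ - 1) / f a a * f x a) := by
        field_simp
        ring
      rw [this]
      module)
    (by
      ext x
      simp only [LinearMap.comp_apply, LinearMap.transvection.apply, LinearMap.smul_apply,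
        Herm.fl_apply, smul_eq_mul, LinearMap.id_apply, h.add_left, h.smul_left]
      have : (l⁻¹ - 1) / f a a * (f x a + (l - 1) / f a a * f x a * f a a) =
          - ((l - 1) / f a a * f x a) := by
        field_simp
        ring
      rw [this]
      module)

lemma qr_apply (h : Herm σ f) (a : V) (l : K) (ha : f a a ≠ 0) (hl : l ≠ 0) (x : V) :
    qr h a l ha hl x = x + ((l - 1) / f a a * f x a) • a := by
  simp [qr, LinearMap.transvection.apply]

lemma qr_isometry (h : Herm σ f) (a : V) (l : K) (ha : f a a ≠ 0) (hl : l ≠ 0)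
    (hN : l * σ l = 1) (x y : V) : f (qr h a l ha hl x) (qr h a l ha hl y) = f x y := by
  rw [qr_apply, qr_apply, h.add_left, h.add_right, h.add_right, h.smul_left, h.smul_left,
    h.smul_right, h.smul_right, map_mul, map_div₀, map_sub, map_one, h.self_fix, ← h.herm a y]
  field_simp
  linear_combination (f x a * f a y) * hN

lemma qr_det [FiniteDimensional K V] (h : Herm σ f) (a : V) (l : K) (ha : f a a ≠ 0) (hl : l ≠ 0) :
    LinearMap.det ((qr h a l ha hl : V ≃ₗ[K] V) : V →ₗ[K] V) = l := by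
  have : ((qr h a l ha hl : V ≃ₗ[K] V) : V →ₗ[K] V) =
      LinearMap.transvection (((l - 1) / f a a) • h.fl a) a := by
    ext x
    rfl
  rw [this, LinearMap.transvection.det]
  simp only [LinearMap.smul_apply, Herm.fl_apply, smul_eq_mul]
  field_simp
  ring

lemma qr_fix (h : Herm σ f) (a : V) (l : K) (ha : f a a ≠ 0) (hl : l ≠ 0) (x : V)
    (hx : f x a = 0) : qr h a l ha hl x = x := by
  rw [qr_apply, hx]; simp

lemma qr_self (h : Herm σ f) (a : V) (l : K) (ha : f a a ≠ 0) (hl : l ≠ 0) :
    qr h a l ha hl a = l • a := by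
  rw [qr_apply]
  have : (l - 1) / f a a * f a a = l - 1 := by field_simp
  rw [this]
  module

lemma qr_one (h : Herm σ f) (a : V) (ha : f a a ≠ 0) : qr h a 1 ha one_ne_zero = 1 := by
  ext x
  rw [qr_apply]
  simp

lemma qr_mul (h : Herm σ f) (a : V) (l m : K) (ha : f a a ≠ 0) (hl : l ≠ 0) (hm : m ≠ 0) :
    qr h a l ha hl * qr h a m ha hm = qr h a (l * m) ha (mul_ne_zero hl hm) := by
  ext x
  rw [LinearEquiv.mul_apply, qr_apply, qr_apply, qr_apply, h.add_left, h.smul_left]
  have : (l - 1) / f a a * (f x a + (m - 1) / f a a * f x a * f a a) + (m - 1) / f a a * f x a =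
      (l * m - 1) / f a a * f x a := by
    field_simp
    ring
  rw [← this]
  module

lemma qr_smul (h : Herm σ f) (a : V) (c l : K) (ha : f a a ≠ 0) (hc : f (c • a) (c • a) ≠ 0)
    (hl : l ≠ 0) : qr h (c • a) l hc hl = qr h a l ha hl := by
  have hc0 : c ≠ 0 := by
    rintro rfl
    apply hc
    rw [zero_smul, h.zero_left]
  have hσc : σ c ≠ 0 := by
    intro h0
    apply hc0
    have := congrArg σ h0
    rwa [h.invol, map_zero] at this
  ext x
  rw [qr_apply, qr_apply, h.smul_left, h.smul_right, h.smul_right, smul_smul]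
  congr 1
  field_simp

lemma qr_conj (h : Herm σ f) (g : V ≃ₗ[K] V) (hg : ∀ x y, f (g x) (g y) = f x y) (a : V) (l : K)
    (ha : f a a ≠ 0) (hl : l ≠ 0) :
    g * qr h a l ha hl * g⁻¹ = qr h (g a) l (by rw [hg]; exact ha) hl := by
  ext x
  have h4 : g (g⁻¹ x) = x := g.apply_symm_apply x
  rw [LinearEquiv.mul_apply, LinearEquiv.mul_apply, qr_apply, qr_apply, map_add, map_smul, h4, hg]
  have : f (g⁻¹ x) a = f x (g a) := by rw [← hg (g⁻¹ x) a, h4]
  rw [this]

lemma utv_conj (h : Herm σ f) (g : V ≃ₗ[K] V) (hg : ∀ x y, f (g x) (g y) = f x y) (v : V) (z : K)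
    (hv : f v v = 0) :
    g * h.utv v z hv * g⁻¹ = h.utv (g v) z (by rw [hg]; exact hv) := by
  ext x
  have h4 : g (g⁻¹ x) = x := g.apply_symm_apply x
  rw [LinearEquiv.mul_apply, LinearEquiv.mul_apply, h.utv_apply, h.utv_apply, map_add, map_smul, h4]
  have : f (g⁻¹ x) v = f x (g v) := by rw [← hg (g⁻¹ x) v, h4]
  rw [this]

/-- the group generated by the unitary transvections -/
def TT (h : Herm σ f) : Subgroup (V ≃ₗ[K] V) :=
  Subgroup.closure {e | ∃ (v : V) (z : K) (hv : f v v = 0), z + σ z = 0 ∧ e = h.utv v z hv}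

lemma utv_mem_TT (h : Herm σ f) (v : V) (z : K) (hv : f v v = 0) (hz : z + σ z = 0) :
    h.utv v z hv ∈ TT h := Subgroup.subset_closure ⟨v, z, hv, hz, rfl⟩

lemma TT_isometry (h : Herm σ f) (t : V ≃ₗ[K] V) (ht : t ∈ TT h) :
    ∀ x y, f (t x) (t y) = f x y := by
  induction ht using Subgroup.closure_induction with
  | mem e he =>
    obtain ⟨v, z, hv, hz, rfl⟩ := he
    exact h.utv_isometry v z hv hz
  | one => intro x y; rfl
  | mul a b _ _ ha hb => intro x y; rw [LinearEquiv.mul_apply, LinearEquiv.mul_apply, ha, hb]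
  | inv a _ ha =>
    intro x y
    have h1 : a (a⁻¹ x) = x := a.apply_symm_apply x
    have h2 : a (a⁻¹ y) = y := a.apply_symm_apply y
    rw [← ha (a⁻¹ x) (a⁻¹ y), h1, h2]

lemma TT_det [FiniteDimensional K V] (h : Herm σ f) (t : V ≃ₗ[K] V) (ht : t ∈ TT h) :
    LinearMap.det (t : V →ₗ[K] V) = 1 := by
  have key : TT h ≤ (LinearEquiv.det : (V ≃ₗ[K] V) →* Kˣ).ker := by
    rw [TT, Subgroup.closure_le]
    rintro e ⟨v, z, hv, hz, rfl⟩
    rw [SetLike.mem_coe, MonoidHom.mem_ker]
    apply Units.ext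
    rw [LinearEquiv.coe_det, h.utv_det, Units.val_one]
  have := key ht
  rw [MonoidHom.mem_ker] at this
  have h2 := congrArg Units.val this
  rwa [LinearEquiv.coe_det, Units.val_one] at h2

lemma TT_conj (h : Herm σ f) (g : V ≃ₗ[K] V) (hg : ∀ x y, f (g x) (g y) = f x y)
    (t : V ≃ₗ[K] V) (ht : t ∈ TT h) : g * t * g⁻¹ ∈ TT h := by
  induction ht using Subgroup.closure_induction with
  | mem e he =>
    obtain ⟨v, z, hv, hz, rfl⟩ := he
    rw [utv_conj h g hg]
    exact utv_mem_TT h _ _ _ hz
  | one => simp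
  | mul a b _ _ ha hb =>
    have : g * (a * b) * g⁻¹ = (g * a * g⁻¹) * (g * b * g⁻¹) := by group
    rw [this]
    exact Subgroup.mul_mem _ ha hb
  | inv a _ ha =>
    have : g * a⁻¹ * g⁻¹ = (g * a * g⁻¹)⁻¹ := by group
    rw [this]
    exact Subgroup.inv_mem _ ha

/-- a single transvection moving `x` to `w` -/
lemma single_move (h : Herm σ f) (x w : V) (hn : f w w = f x x) (hz : f (w - x) (w - x) = 0)
    (hne : f x (w - x) ≠ 0) :
    ∃ t ∈ TT h, t x = w ∧ ∀ y, f y (w - x) = 0 → t y = y := by
  have htr : f x (w - x) + σ (f x (w - x)) = 0 := by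
    have e : w = x + (w - x) := by abel
    have h1 : f w w = f x x + f x (w - x) + f (w - x) x + f (w - x) (w - x) := by
      conv_lhs => rw [e]
      rw [h.add_left, h.add_right, h.add_right]
      ring
    rw [hn, hz, h.herm (w - x) x] at h1
    linear_combination -h1
  have hσne : σ (f x (w - x)) ≠ 0 := by
    intro h0
    apply hne
    have := congrArg σ h0
    rwa [h.invol, map_zero] at this
  refine ⟨h.utv (w - x) (f x (w - x))⁻¹ hz, utv_mem_TT h _ _ _ ?_, ?_, ?_⟩
  · rw [map_inv₀]
    field_simp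
    linear_combination htr
  · rw [h.utv_apply, inv_mul_cancel₀ hne, one_smul]
    abel
  · intro y hy
    rw [h.utv_apply, hy]
    simp

/-- the transvection group is transitive on vectors of a given non-zero norm -/
lemma TT_move [Finite K] [FiniteDimensional K V] (h : Herm σ f) (hdim : 7 ≤ finrank K V)
    (x y : V) (hxy : f y y = f x x) (hx : f x x ≠ 0) : ∃ t ∈ TT h, t x = y := by
  classical
  obtain ⟨z0, hz0, hz0'⟩ := h.exists_z
  have hσz0 : σ z0 = - z0 := by linear_combination hz0'
  -- orthogonal case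
  have key : ∀ x y : V, f y y = f x x → f x x ≠ 0 → f x y = 0 → ∃ t ∈ TT h, t x = y := by
    intro x y hxy hx hperp
    set ν := f x x with hν
    have hνfix : σ ν = ν := h.self_fix x
    have hyx : f y x = 0 := h.swap_zero hperp
    set α := (ν + z0) / ν with hα
    have hσα : σ α = (ν - z0) / ν := by
      rw [hα, map_div₀, map_add, hνfix, hσz0]; ring
    obtain ⟨s, hs, hss⟩ := h.exists_perp {x, y} (by
      have := Finset.card_le_two (a := x) (b := y)
      omega) (ν - 2 * (α * σ α) * ν) (by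
        rw [map_sub, map_mul, map_mul, map_mul, h.invol, hνfix, map_ofNat]
        ring)
    have hsx : f s x = 0 := hs x (by simp)
    have hsy : f s y = 0 := hs y (by simp)
    have hxs : f x s = 0 := h.swap_zero hsx
    have hys : f y s = 0 := h.swap_zero hsy
    set w := α • x + α • y + s with hw
    have hwx : f w x = ν + z0 := by
      rw [hw, h.add_left, h.add_left, h.smul_left, h.smul_left, hyx, hsx, ← hν, hα]
      field_simp
      ring
    have hwy : f w y = ν + z0 := by
      rw [hw, h.add_left, h.add_left, h.smul_left, h.smul_left, hperp, hsy, hxy, hα]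
      field_simp
      ring
    have hxw : f x w = ν - z0 := by rw [h.herm, hwx, map_add, hνfix, hσz0]; ring
    have hyw : f y w = ν - z0 := by rw [h.herm, hwy, map_add, hνfix, hσz0]; ring
    have hsw : f s w = ν - 2 * (α * σ α) * ν := by
      rw [hw, h.add_right, h.add_right, h.smul_right, h.smul_right, hsx, hsy, hss]; ring
    have hww : f w w = ν := by
      conv_lhs => rw [hw]
      rw [h.add_left, h.add_left, h.smul_left, h.smul_left, hxw, hyw, hsw, hσα, hα]
      field_simp
      ring
    obtain ⟨t1, ht1, hm1, -⟩ := single_move h x w hww (by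
      rw [h.sub_left, h.sub_right, h.sub_right, hww, hwx, hxw, ← hν]; ring) (by
      rw [h.sub_right, hxw, ← hν]
      simpa using hz0)
    obtain ⟨t2, ht2, hm2, -⟩ := single_move h w y (by rw [hxy, hww]) (by
      rw [h.sub_left, h.sub_right, h.sub_right, hww, hwy, hyw, hxy]; ring) (by
      rw [h.sub_right, hwy, hww]
      simpa using hz0)
    exact ⟨t2 * t1, Subgroup.mul_mem _ ht2 ht1, by rw [LinearEquiv.mul_apply, hm1, hm2]⟩
  obtain ⟨y', hy', hy'n⟩ := h.exists_perp {x, y} (by
    have := Finset.card_le_two (a := x) (b := y)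
    omega) (f x x) (h.self_fix x)
  obtain ⟨t1, ht1, ht1x⟩ := key x y' hy'n hx (h.swap_zero (hy' x (by simp)))
  obtain ⟨t2, ht2, ht2x⟩ := key y' y (by rw [hxy, hy'n]) (by rw [hy'n]; exact hx) (hy' y (by simp))
  exact ⟨t2 * t1, Subgroup.mul_mem _ ht2 ht1, by rw [LinearEquiv.mul_apply, ht1x, ht2x]⟩

/-- `V = Y ⊕ Y^⊥` -/
def Good (h : Herm σ f) (Y : Submodule K V) : Prop :=
  ∀ w, ∃ y ∈ Y, ∃ x ∈ h.perp (Y : Set V), w = y + x

lemma good_bot (h : Herm σ f) : Good h ⊥ := fun w =>
  ⟨0, Submodule.zero_mem _, w, fun u hu => by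
    have : u = 0 := by simpa using hu
    rw [this, h.zero_right], by simp⟩

lemma good_sup (h : Herm σ f) {Y : Submodule K V} (hY : Good h Y) (e : V)
    (he : e ∈ h.perp (Y : Set V)) (hee : f e e ≠ 0) : Good h (Y ⊔ Submodule.span K {e}) := by
  intro w
  obtain ⟨y, hy, x, hx, rfl⟩ := hY w
  refine ⟨y + (f x e / f e e) • e, Submodule.add_mem_sup hy
    (Submodule.smul_mem _ _ (Submodule.mem_span_singleton_self e)), x - (f x e / f e e) • e, ?_,
    by abel⟩
  intro u hu
  obtain ⟨y', hy', z, hz, rfl⟩ := Submodule.mem_sup.1 hu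
  obtain ⟨c, rfl⟩ := Submodule.mem_span_singleton.1 hz
  rw [h.add_right, h.sub_left, h.sub_left, h.smul_left, h.smul_left, h.smul_right, h.smul_right,
    hx y' hy', he y' hy']
  field_simp
  ring

lemma exists_ns_perp (h : Herm σ f) {Y : Submodule K V} (hY : Good h Y)
    (hne : h.perp (Y : Set V) ≠ ⊥) : ∃ e ∈ h.perp (Y : Set V), f e e ≠ 0 := by
  by_contra hcon
  push Not at hcon
  obtain ⟨x, hx, hx0⟩ := Submodule.exists_mem_ne_zero_of_ne_bot hne
  obtain ⟨w, hw⟩ := h.nondeg x hx0
  obtain ⟨y, hy, x', hx', rfl⟩ := hY w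
  apply hw
  rw [h.add_left, h.swap_zero (hx y hy), zero_add]
  exact h.polar _ hcon x' hx' x hx

/-- `g ∈ T · ⟨quasi-reflections in e⟩` -/
def Phi (h : Herm σ f) (e : V) (he : f e e ≠ 0) (g : V ≃ₗ[K] V) : Prop :=
  ∃ t ∈ TT h, ∃ (l : K) (hl : l ≠ 0), l * σ l = 1 ∧ g = t * qr h e l he hl

lemma Phi_TT (h : Herm σ f) (e : V) (he : f e e ≠ 0) (t' g : V ≃ₗ[K] V) (ht' : t' ∈ TT h)
    (hg : Phi h e he g) : Phi h e he (t' * g) := by
  obtain ⟨t, ht, l, hl, hN, rfl⟩ := hg
  exact ⟨t' * t, Subgroup.mul_mem _ ht' ht, l, hl, hN, by rw [mul_assoc]⟩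

lemma Phi_qr [Finite K] [FiniteDimensional K V] (h : Herm σ f) (hdim : 7 ≤ finrank K V)
    (e : V) (he : f e e ≠ 0) (a : V) (m : K) (ha : f a a ≠ 0) (hm : m ≠ 0) (hNm : m * σ m = 1)
    (g : V ≃ₗ[K] V) (hg : Phi h e he g) : Phi h e he (qr h a m ha hm * g) := by
  obtain ⟨t, ht, l, hl, hN, rfl⟩ := hg
  obtain ⟨c, hc⟩ := h.norm_surj (f a a / f e e) (by rw [map_div₀, h.self_fix, h.self_fix])
  have hce : f (c • e) (c • e) = f a a := by
    rw [h.smul_left, h.smul_right, ← mul_assoc, hc]
    field_simp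
  have hce0 : f (c • e) (c • e) ≠ 0 := by rw [hce]; exact ha
  obtain ⟨t0, ht0, ht0e⟩ := TT_move h hdim (c • e) a hce.symm hce0
  have h1 : qr h a m ha hm = t0 * qr h e m he hm * t0⁻¹ := by
    rw [← qr_smul h e c m he hce0 hm, qr_conj h t0 (TT_isometry h t0 ht0)]
    simp only [ht0e]
  refine ⟨t0 * (qr h e m he hm * (t0⁻¹ * t) * (qr h e m he hm)⁻¹), ?_, m * l, mul_ne_zero hm hl, ?_,
    ?_⟩
  · exact Subgroup.mul_mem _ ht0 (TT_conj h _ (qr_isometry h e m he hm hNm) _
      (Subgroup.mul_mem _ (Subgroup.inv_mem _ ht0) ht))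
  · rw [map_mul]
    linear_combination (l * σ l) * hNm + hN
  · rw [h1, ← qr_mul h e m l he hm hl]
    group

/-- moving `y` to `x` by transvections and quasi-reflections -/
lemma step [Finite K] [FiniteDimensional K V] (h : Herm σ f) (hdim : 7 ≤ finrank K V)
    (e : V) (he : f e e ≠ 0) (x y : V) (hxy : f x x = f y y) (hy : f y y ≠ 0) :
    ∃ s : V ≃ₗ[K] V, (∀ a b, f (s a) (s b) = f a b) ∧ s y = x ∧
      (∀ w, f w x = 0 → f w y = 0 → s w = w) ∧ (∀ g, Phi h e he g → Phi h e he (s * g)) := by
  -- non-isotropic difference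
  have caseii : ∀ x y : V, f x x = f y y → f (x - y) (x - y) ≠ 0 →
      ∃ s : V ≃ₗ[K] V, (∀ a b, f (s a) (s b) = f a b) ∧ s y = x ∧
      (∀ w, f w x = 0 → f w y = 0 → s w = w) ∧ (∀ g, Phi h e he g → Phi h e he (s * g)) := by
    intro x y hxy hz
    set a := f y (x - y) with ha
    have hzz : f (x - y) (x - y) = - (a + σ a) := by
      have h1 : σ a = f x y - f y y := by rw [ha, ← h.herm, h.sub_left]
      rw [h1, ha, h.sub_left, h.sub_right, h.sub_right, hxy]
      ring
    have ha0 : a ≠ 0 := by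
      intro h0
      apply hz
      rw [hzz, h0, map_zero]
      ring
    have hσa0 : σ a ≠ 0 := by
      intro h0
      apply ha0
      have := congrArg σ h0
      rwa [h.invol, map_zero] at this
    have hl0 : - σ a / a ≠ 0 := div_ne_zero (neg_ne_zero.2 hσa0) ha0
    have hN : (- σ a / a) * σ (- σ a / a) = 1 := by
      rw [map_div₀, map_neg, h.invol]
      field_simp
    refine ⟨qr h (x - y) (- σ a / a) hz hl0, qr_isometry h _ _ hz hl0 hN, ?_, ?_,
      fun g hg => Phi_qr h hdim e he _ _ hz hl0 hN g hg⟩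
    · rw [qr_apply, ← ha, hzz]
      have h3 : a + σ a ≠ 0 := by
        intro h0
        apply hz
        rw [hzz, h0, neg_zero]
      have : (-σ a / a - 1) / -(a + σ a) * a = 1 := by
        field_simp
        ring
      rw [this]
      module
    · intro w hwx hwy
      exact qr_fix h _ _ hz hl0 w (by rw [h.sub_right, hwx, hwy, sub_zero])
  by_cases hz : f (x - y) (x - y) = 0
  · by_cases ha : f y (x - y) = 0
    · -- two quasi-reflections
      obtain ⟨b, hb⟩ := Cfsg.Agent.Lib.Helper17Herm.exists_ne_fix σ h.ne_id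
      have hb0 : b ≠ 0 := by
        rintro rfl
        exact hb (map_zero σ)
      have hσb0 : σ b ≠ 0 := by
        intro h0
        apply hb0
        have := congrArg σ h0
        rwa [h.invol, map_zero] at this
      set l := σ b / b with hl
      have hl0 : l ≠ 0 := div_ne_zero hσb0 hb0
      have hσl : σ l = b / σ b := by rw [hl, map_div₀, h.invol]
      have hN : l * σ l = 1 := by
        rw [hσl, hl]
        field_simp
      have hl1 : l ≠ 1 := by
        intro h1
        apply hb
        rw [hl, div_eq_one_iff_eq hb0] at h1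
        exact h1
      have hyx : f y x = f y y := by
        rw [h.sub_right] at ha
        linear_combination ha
      have hxy' : f x y = f y y := by rw [h.herm, hyx, h.self_fix]
      obtain ⟨s2, hs2i, hs2, hs2f, hs2P⟩ := caseii x (l • y) (by
        rw [h.smul_left, h.smul_right, ← mul_assoc, hN, one_mul, hxy]) (by
        rw [h.sub_left, h.sub_right, h.sub_right, h.smul_left, h.smul_left, h.smul_right,
          h.smul_right, hxy, hxy', hyx]
        have : f y y - σ l * f y y - (l * f y y - l * (σ l * f y y)) =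
            ((1 - l) * (1 - σ l)) * f y y := by ring
        rw [this]
        refine mul_ne_zero (mul_ne_zero (sub_ne_zero.2 (Ne.symm hl1)) ?_) hy
        intro h0
        apply hl1
        have h1 : σ l = 1 := by linear_combination -h0
        have := congrArg σ h1
        rwa [h.invol, map_one] at this)
      refine ⟨s2 * qr h y l hy hl0, ?_, ?_, ?_, ?_⟩
      · intro a b
        rw [LinearEquiv.mul_apply, LinearEquiv.mul_apply, hs2i, qr_isometry h y l hy hl0 hN]
      · rw [LinearEquiv.mul_apply, qr_self, hs2]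
      · intro w hwx hwy
        rw [LinearEquiv.mul_apply, qr_fix h y l hy hl0 w hwy]
        exact hs2f w hwx (by rw [h.smul_right, hwy, mul_zero])
      · intro g hg
        rw [mul_assoc]
        exact hs2P _ (Phi_qr h hdim e he y l hy hl0 hN g hg)
    · obtain ⟨t, ht, htx, htf⟩ := single_move h y x hxy hz ha
      exact ⟨t, TT_isometry h t ht, htx, fun w hwx hwy => htf w (by
        rw [h.sub_right, hwx, hwy, sub_zero]), fun g hg => Phi_TT h e he t g ht hg⟩
  · exact caseii x y hxy hz

theorem Phi_all [Finite K] [FiniteDimensional K V] (h : Herm σ f) (hdim : 7 ≤ finrank K V)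
    (e : V) (he : f e e ≠ 0) : ∀ (d : ℕ) (Y : Submodule K V), Good h Y →
    finrank K (h.perp (Y : Set V)) ≤ d → ∀ g : V ≃ₗ[K] V, (∀ a b, f (g a) (g b) = f a b) →
    (∀ y ∈ Y, g y = y) → Phi h e he g := by
  intro d
  induction d with
  | zero =>
    intro Y hY hd g _ hgY
    have hbot : h.perp (Y : Set V) = ⊥ := Submodule.finrank_eq_zero.1 (by omega)
    have hg1 : g = 1 := by
      ext w
      obtain ⟨y, hy, x, hx, rfl⟩ := hY w
      rw [hbot, Submodule.mem_bot] at hx
      rw [hx, add_zero, hgY y hy]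
      rfl
    exact ⟨1, Subgroup.one_mem _, 1, one_ne_zero, by simp, by rw [qr_one, hg1, mul_one]⟩
  | succ d ih =>
    intro Y hY hd g hg hgY
    by_cases hbot : h.perp (Y : Set V) = ⊥
    · exact ih Y hY (by rw [hbot]; simp) g hg hgY
    · obtain ⟨e', he', hee'⟩ := exists_ns_perp h hY hbot
      have hge' : g e' ∈ h.perp (Y : Set V) := by
        intro y hy
        rw [← hgY y hy, hg]
        exact he' y hy
      obtain ⟨s, hsi, hse, hsf, hsP⟩ := step h hdim e he (g e') e' (hg e' e') hee'
      have hsY : ∀ y ∈ Y, s y = y := fun y hy =>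
        hsf y (h.swap_zero (hge' y hy)) (h.swap_zero (he' y hy))
      have hsinv : ∀ w, s⁻¹ (s w) = w := fun w => s.symm_apply_apply w
      have hsinv' : ∀ w, s (s⁻¹ w) = w := fun w => s.apply_symm_apply w
      have key := ih (Y ⊔ Submodule.span K {e'}) (good_sup h hY e' he' hee') (by
        have hlt : h.perp ((Y ⊔ Submodule.span K {e'} : Submodule K V) : Set V) <
            h.perp (Y : Set V) := by
          refine lt_of_le_of_ne ?_ ?_
          · intro x hx y hy
            exact hx y (Submodule.mem_sup_left hy)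
          · intro heq
            rw [← heq] at he'
            exact hee' (he' e' (Submodule.mem_sup_right (Submodule.mem_span_singleton_self e')))
        have := Submodule.finrank_lt_finrank_of_lt hlt
        omega) (s⁻¹ * g) (by
          intro a b
          rw [LinearEquiv.mul_apply, LinearEquiv.mul_apply, ← hsi, hsinv', hsinv', hg]) (by
          intro y hy
          obtain ⟨y', hy', z, hz, rfl⟩ := Submodule.mem_sup.1 hy
          obtain ⟨c, rfl⟩ := Submodule.mem_span_singleton.1 hz
          rw [LinearEquiv.mul_apply, map_add, map_add, map_smul, map_smul, hgY y' hy', ← hse, hsinv]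
          conv_lhs => rw [← hsY y' hy', hsinv])
      have := hsP _ key
      rwa [← mul_assoc, mul_inv_cancel, one_mul] at this

/-- the special unitary group is generated by transvections -/
theorem mem_TT_of_det_one [Finite K] [FiniteDimensional K V] (h : Herm σ f)
    (hdim : 7 ≤ finrank K V) (g : V ≃ₗ[K] V) (hg : ∀ a b, f (g a) (g b) = f a b)
    (hdet : LinearMap.det (g : V →ₗ[K] V) = 1) : g ∈ TT h := by
  obtain ⟨e, -, he⟩ := h.exists_perp ∅ (by simp; omega) 1 (map_one σ)
  have he0 : f e e ≠ 0 := by rw [he]; exact one_ne_zero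
  obtain ⟨t, ht, l, hl, hN, rfl⟩ := Phi_all h hdim e he0 _ ⊥ (good_bot h) le_rfl g hg (by
    intro y hy
    rw [Submodule.mem_bot] at hy
    rw [hy, map_zero])
  have h1 : ((t * qr h e l he0 hl : V ≃ₗ[K] V) : V →ₗ[K] V) =
      (t : V →ₗ[K] V) * ((qr h e l he0 hl : V ≃ₗ[K] V) : V →ₗ[K] V) := rfl
  rw [h1, map_mul, TT_det h t ht, qr_det, one_mul] at hdet
  subst hdet
  rw [qr_one, mul_one]
  exact ht

end Cfsg.Agent.Lib.Helper95SU
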