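import Cfsg.Agent.Lib.Helper7GU
import Cfsg.Agent.Lib.Helper95SU
import Cfsg.Agent.Lib.Helper95Form

set_option autoImplicit false

namespace Cfsg.Agent.Lib.Helper95SUStd

open Matrix Module Cfsg.Agent.Lib.Helper95Basic Cfsg.Agent.Lib.Helper95Form
  Cfsg.Agent.Lib.Helper95Herm Cfsg.Agent.Lib.Helper95SU Cfsg.Agent.Lib.Helper7Herm
  Cfsg.Agent.Lib.Helper7GU

variable {F : Type*} [Field F] [Fintype F] {q : ℕ} (hF : Fintype.card F = q ^ 2)

/-- The involution `x ↦ x ^ q`. -/
noncomputable def sig : F →+* F := Classical.choose (exists_sigma hF)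

theorem sig_apply (x : F) : sig hF x = x ^ q := Classical.choose_spec (exists_sigma hF) x

theorem sig_sig (x : F) : sig hF (sig hF x) = x := by
  rw [sig_apply, sig_apply, ← pow_mul, ← sq, pow_q_sq hF]

theorem sig_ne_id : sig hF ≠ RingHom.id F := by
  classical
  intro h
  have hq := two_le_q hF
  have h1 : ∀ x : F, x ^ q = x := fun x => by rw [← sig_apply hF, h]; rfl
  have h2 : (Polynomial.X ^ q - Polynomial.X : Polynomial F) ≠ 0 :=
    FiniteField.X_pow_card_sub_X_ne_zero F (by omega)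
  have h3 : (Finset.univ : Finset F) ⊆
      (Polynomial.X ^ q - Polynomial.X : Polynomial F).roots.toFinset := by
    intro x _
    rw [Multiset.mem_toFinset, Polynomial.mem_roots h2]
    simp [h1 x]
  have h4 := Finset.card_le_card h3
  have h5 := (Multiset.toFinset_card_le _).trans
    (Polynomial.card_roots' (Polynomial.X ^ q - Polynomial.X : Polynomial F))
  rw [FiniteField.X_pow_card_sub_X_natDegree_eq F (by omega)] at h5
  rw [Finset.card_univ, hF] at h4
  nlinarith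

variable (n : ℕ)

theorem herm_std : Herm (sig hF) (Cfsg.hermForm n F q) where
  ne_id := sig_ne_id hF
  invol := sig_sig hF
  add_left := h_add_left
  smul_left := h_smul_left
  herm v w := by rw [sig_apply]; exact h_symm hF w v
  nondeg v hv := by
    have hq := two_le_q hF
    obtain ⟨i, hi⟩ : ∃ i, v i ≠ 0 := by
      by_contra hcon
      push Not at hcon
      exact hv (funext hcon)
    refine ⟨Pi.single i 1, ?_⟩
    unfold Cfsg.hermForm
    rw [Finset.sum_eq_single i]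
    · rw [Pi.single_eq_same, one_mul]
      exact pow_ne_zero _ hi
    · intro j _ hj
      rw [Pi.single_eq_of_ne hj, zero_mul]
    · intro h; exact absurd (Finset.mem_univ i) h

omit [Fintype F] in
lemma mem_GU_iff' (g : GL (Fin n) F) : g ∈ Cfsg.GU n F q ↔
    ∀ u v, Cfsg.hermForm n F q ((g : Matrix _ _ F) *ᵥ u) ((g : Matrix _ _ F) *ᵥ v) =
      Cfsg.hermForm n F q u v := Iff.rfl

omit [Fintype F] in
lemma mkGL_mem_SU_iff (e : (Fin n → F) ≃ₗ[F] (Fin n → F)) :
    mkGL e ∈ Cfsg.GU n F q ⊓ Cfsg.Geo.specialLinear (Fin n) F ↔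
      (∀ u v, Cfsg.hermForm n F q (e u) (e v) = Cfsg.hermForm n F q u v) ∧
      LinearMap.det (e : (Fin n → F) →ₗ[F] (Fin n → F)) = 1 := by
  rw [Subgroup.mem_inf, mem_GU_iff', mem_specialLinear_iff, det_mkGL]
  simp only [mkGL_mulVec]

/-- General wrapper: maximality in `SU` from the transvection closure argument. -/
theorem su_maximal (hn : 7 ≤ n) (X : Subgroup (GL (Fin n) F))
    (h1 : ∃ e : (Fin n → F) ≃ₗ[F] (Fin n → F),
      (∀ u v, Cfsg.hermForm n F q (e u) (e v) = Cfsg.hermForm n F q u v) ∧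
      LinearMap.det (e : (Fin n → F) →ₗ[F] (Fin n → F)) = 1 ∧ mkGL e ∉ X)
    (h2 : ∀ M : Subgroup ((Fin n → F) ≃ₗ[F] (Fin n → F)),
      (∀ e : (Fin n → F) ≃ₗ[F] (Fin n → F),
        (∀ u v, Cfsg.hermForm n F q (e u) (e v) = Cfsg.hermForm n F q u v) →
        LinearMap.det (e : (Fin n → F) →ₗ[F] (Fin n → F)) = 1 → mkGL e ∈ X → e ∈ M) →
      (∀ e ∈ M, ∀ u v, Cfsg.hermForm n F q (e u) (e v) = Cfsg.hermForm n F q u v) →
      ∀ g ∈ M, mkGL g ∉ X → ∀ (v : Fin n → F) (z : F) (hv : Cfsg.hermForm n F q v v = 0),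
        z + sig hF z = 0 → (herm_std hF n).utv v z hv ∈ M) :
    Cfsg.Geo.IsMaximalIn (Cfsg.GU n F q ⊓ Cfsg.Geo.specialLinear (Fin n) F)
      (X ⊓ (Cfsg.GU n F q ⊓ Cfsg.Geo.specialLinear (Fin n) F)) := by
  constructor
  · refine lt_of_le_of_ne inf_le_right ?_
    intro heq
    obtain ⟨e, he, hd, heX⟩ := h1
    have : mkGL e ∈ Cfsg.GU n F q ⊓ Cfsg.Geo.specialLinear (Fin n) F :=
      (mkGL_mem_SU_iff n e).2 ⟨he, hd⟩
    rw [← heq] at this
    exact heX this.1
  · intro M hHM hMS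
    by_cases hMH : M ≤ X ⊓ (Cfsg.GU n F q ⊓ Cfsg.Geo.specialLinear (Fin n) F)
    · exact Or.inl (le_antisymm hMH hHM)
    · right
      refine le_antisymm hMS ?_
      obtain ⟨g, hgM, hgH⟩ := SetLike.not_le_iff_exists.1 hMH
      have hgX : g ∉ X := fun h => hgH ⟨h, hMS hgM⟩
      have hall := h2 (pull M)
        (fun e he hd heX => (mem_pull M e).2 (hHM ⟨heX, (mkGL_mem_SU_iff n e).2 ⟨he, hd⟩⟩))
        (fun e he => ((mkGL_mem_SU_iff n e).1 (hMS ((mem_pull M e).1 he))).1)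
        (glEquiv _ F g) ((glEquiv_mem_pull M g).2 hgM) (by rwa [mkGL_glEquiv])
      intro k hk
      have hk' := (mkGL_mem_SU_iff n (glEquiv _ F k)).1 (by rw [mkGL_glEquiv]; exact hk)
      have h3 := mem_TT_of_det_one (herm_std hF n) (by rw [Module.finrank_fin_fun]; exact hn)
        (glEquiv _ F k) hk'.1 hk'.2
      have h4 : TT (herm_std hF n) ≤ pull M := by
        rw [TT, Subgroup.closure_le]
        rintro e ⟨v, z, hv, hz, rfl⟩
        exact hall v z hv hz
      exact (glEquiv_mem_pull M k).1 (h4 h3)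

end Cfsg.Agent.Lib.Helper95SUStd
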