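import Cfsg.Agent.Lib.Helper50UMain
import Cfsg.Agent.Lib.Helper95SUStd
import Cfsg.Agent.Lib.Helper17UWitt

set_option autoImplicit false

namespace Cfsg.Agent.Lib.Helper50UStd

open Matrix Module Cfsg.Agent.Lib.Helper95Herm Cfsg.Agent.Lib.Helper95Basic
  Cfsg.Agent.Lib.Helper95SUStd Cfsg.Agent.Lib.Helper7Herm Cfsg.Agent.Lib.Helper7GU
  Cfsg.Agent.Lib.Helper50UGeom Cfsg.Agent.Lib.Helper50UGrp Cfsg.Agent.Lib.Helper50USim
  Cfsg.Agent.Lib.Helper50UMain

variable {F : Type*} [Field F] {q : ℕ} {n : ℕ}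

/-- the linear equivalence of a special unitary matrix -/
noncomputable def iotaFun (s : Cfsg.SU n F q) : SUg (Cfsg.hermForm n F q) :=
  ⟨glEquiv (Fin n) F (SpecialLinearGroup.toGL s.1), (mem_SUg _).2 ⟨fun x y => s.2 x y, by
    rw [← det_mkGL, mkGL_glEquiv]
    exact s.1.2⟩⟩

lemma iotaFun_apply (s : Cfsg.SU n F q) (x : Fin n → F) : (iotaFun s).1 x = s.1.1 *ᵥ x := rfl

/-- `SU n F q` as a group of linear equivalences -/
noncomputable def iotaHom : Cfsg.SU n F q →* SUg (Cfsg.hermForm n F q) where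
  toFun := iotaFun
  map_one' := by
    apply G_ext
    intro x
    rw [iotaFun_apply]
    simp
  map_mul' := by
    intro a b
    apply G_ext
    intro x
    rw [mul_app, iotaFun_apply, iotaFun_apply, iotaFun_apply]
    simp [Matrix.mulVec_mulVec]

/-- `SU n F q` as a group of linear equivalences -/
noncomputable def iota : Cfsg.SU n F q ≃* SUg (Cfsg.hermForm n F q) :=
  MulEquiv.ofBijective iotaHom
    ⟨by
      intro a b hab
      apply Subtype.ext
      apply Subtype.ext
      apply Matrix.toLin'.injective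
      apply LinearMap.ext
      intro x
      have := congrArg (fun e : SUg (Cfsg.hermForm n F q) => e.1 x) hab
      exact this, by
      intro e
      refine ⟨⟨⟨(mkGL e.1 : GL (Fin n) F).1, by rw [det_mkGL]; exact G_det e⟩, ?_⟩, ?_⟩
      · intro x y
        show Cfsg.hermForm n F q ((mkGL e.1 : GL (Fin n) F).1 *ᵥ x) ((mkGL e.1 : GL (Fin n) F).1 *ᵥ y) = _
        rw [mkGL_mulVec, mkGL_mulVec]
        exact G_iso e x y
      · apply G_ext
        intro x
        show (mkGL e.1 : GL (Fin n) F).1 *ᵥ x = _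
        rw [mkGL_mulVec]⟩

lemma iota_apply (s : Cfsg.SU n F q) (x : Fin n → F) : (iota s).1 x = s.1.1 *ᵥ x := rfl

lemma map_center_equiv {G H : Type*} [Group G] [Group H] (e : G ≃* H) :
    (Subgroup.center G).map e.toMonoidHom = Subgroup.center H := by
  ext y
  constructor
  · rintro ⟨x, hx, rfl⟩
    rw [Subgroup.mem_center_iff]
    intro g
    obtain ⟨g', rfl⟩ := e.surjective g
    have := Subgroup.mem_center_iff.1 hx g'
    show e g' * e x = e x * e g'
    rw [← map_mul, ← map_mul, this]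
  · intro hy
    refine ⟨e.symm y, ?_, by simp⟩
    show e.symm y ∈ Subgroup.center G
    rw [Subgroup.mem_center_iff]
    intro g
    apply e.injective
    rw [map_mul, map_mul, e.apply_symm_apply]
    exact Subgroup.mem_center_iff.1 hy (e g)

/-- `PSU` as the abstract central quotient -/
noncomputable def psi : Cfsg.PSU n F q ≃*
    (SUg (Cfsg.hermForm n F q) ⧸ Subgroup.center (SUg (Cfsg.hermForm n F q))) :=
  QuotientGroup.congr _ _ iota (map_center_equiv iota)

lemma psi_mk (s : Cfsg.SU n F q) : psi (QuotientGroup.mk s) = QuotientGroup.mk (iota s) := rfl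

variable [Fintype F] (hF : Fintype.card F = q ^ 2)

include hF in
lemma exists_fixed_ne (hq : q ≠ 2) : ∃ r : F, sig hF r = r ∧ r ≠ 0 ∧ r ≠ 1 := by
  classical
  have hq2 := two_le_q hF
  by_contra hcon
  push Not at hcon
  have h1 : ∀ x : F, x ≠ 0 → x ^ (q + 1) = 1 := by
    intro x hx
    apply hcon (x ^ (q + 1))
    · rw [sig_apply, ← pow_mul]
      have : (q + 1) * q = q ^ 2 + q := by ring
      rw [this, pow_add, pow_q_sq hF, pow_succ, mul_comm]
    · exact pow_ne_zero _ hx
  have h2 : (Polynomial.X ^ (q + 1) - 1 : Polynomial F) ≠ 0 :=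
    Polynomial.X_pow_sub_C_ne_zero (by omega) 1
  have h3 : (Finset.univ.erase (0 : F)) ⊆
      (Polynomial.X ^ (q + 1) - 1 : Polynomial F).roots.toFinset := by
    intro x hx
    rw [Multiset.mem_toFinset, Polynomial.mem_roots h2]
    simp [h1 x (Finset.ne_of_mem_erase hx)]
  have h4 := Finset.card_le_card h3
  have h5 := (Multiset.toFinset_card_le _).trans
    (Polynomial.card_roots' (Polynomial.X ^ (q + 1) - 1 : Polynomial F))
  have h6 : (Polynomial.X ^ (q + 1) - 1 : Polynomial F).natDegree = q + 1 :=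
    Polynomial.natDegree_X_pow_sub_C
  rw [h6] at h5
  rw [Finset.card_erase_of_mem (Finset.mem_univ _), Finset.card_univ, hF] at h4
  have h7 : 3 ≤ q := by omega
  have : q ^ 2 - 1 ≤ q + 1 := h4.trans h5
  have h8 : 3 * q ≤ q ^ 2 := by nlinarith
  omega

include hF in
lemma witt_frames (u v u' v' : Fin n → F) (Fr : Frame (Cfsg.hermForm n F q) u v)
    (Fr' : Frame (Cfsg.hermForm n F q) u' v') :
    ∃ g : (Fin n → F) ≃ₗ[F] (Fin n → F),
      (∀ x y, Cfsg.hermForm n F q (g x) (g y) = Cfsg.hermForm n F q x y) ∧ g u = u' ∧ g v = v' := by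
  have h := herm_std hF n
  have hli : ∀ a b : Fin n → F, Frame (Cfsg.hermForm n F q) a b → LinearIndependent F ![a, b] := by
    intro a b Fab
    rw [LinearIndependent.pair_iff]
    intro s t e
    have e1 := congrArg (fun x => Cfsg.hermForm n F q x b) e
    have e2 := congrArg (fun x => Cfsg.hermForm n F q x a) e
    simp only [h.add_left, h.smul_left, Fab.uu, Fab.vv, Fab.uv, Fab.vu h, h.zero_left] at e1 e2
    exact ⟨by linear_combination e1, by linear_combination e2⟩
  obtain ⟨g, hg, hgx⟩ := Cfsg.Agent.Lib.Helper17UWitt.witt_fam_U hF n ![u, v] ![u', v'] (hli u v Fr)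
    (hli u' v' Fr') (by
      intro i j
      fin_cases i <;> fin_cases j <;>
        simp [Fr.uu, Fr.vv, Fr.uv, Fr.vu h, Fr'.uu, Fr'.vv, Fr'.uv, Fr'.vu h])
  refine ⟨glEquiv (Fin n) F g, fun x y => hg x y, hgx 0, hgx 1⟩

/-- automorphisms of `PSU` are induced by semilinear similitudes -/
theorem aut_semilinear (hn : 3 ≤ n) (hs : ¬ (n = 3 ∧ q = 2)) (β : MulAut (Cfsg.PSU n F q)) :
    ∃ (τ : F ≃+* F) (γ : F) (Θ : (Fin n → F) ≃+ (Fin n → F)),
      SemiSim (Cfsg.hermForm n F q) τ γ Θ ∧ sig hF γ = γ ∧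
      ∀ s s' : Cfsg.SU n F q, (∀ x, s'.1.1 *ᵥ Θ x = Θ (s.1.1 *ᵥ x)) →
        β (QuotientGroup.mk s) = QuotientGroup.mk s' := by
  have hp : Fact (ringChar F).Prime := ⟨CharP.char_is_prime F (ringChar F)⟩
  obtain ⟨τ, γ, Θ, hS, hγ, e⟩ := main_abs (herm_std hF n) (ringChar F)
    (by rw [Module.finrank_fin_fun]; exact hn)
    (by
      rw [Module.finrank_fin_fun]
      intro h3
      exact exists_fixed_ne hF (fun h2 => hs ⟨h3, h2⟩))
    (witt_frames hF) ((psi.symm.trans β).trans psi)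
  refine ⟨τ, γ, Θ, hS, hγ, fun s s' hss => ?_⟩
  apply psi.injective
  have e1 : psi (β (QuotientGroup.mk s)) =
      ((psi.symm.trans β).trans psi) (psi (QuotientGroup.mk s)) := by
    simp
  rw [e1, e, psi_mk, psi_mk, liftG_mk]
  congr 1
  exact conjS_eq hS hss

end Cfsg.Agent.Lib.Helper50UStd
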