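import Cfsg.Agent.Lib.Helper50UFx
import Cfsg.Agent.Lib.Helper50UStd
import Cfsg.Agent.Lib.Helper50SzM

set_option autoImplicit false

/-!
The Sylow `p`-subgroups of the three-dimensional special unitary group.
-/

namespace Cfsg.Agent.Lib.Helper50SzSyl

open Module Cfsg.Agent.Lib.Helper95Herm Cfsg.Agent.Lib.Helper95SU Cfsg.Agent.Lib.Helper95CU
  Cfsg.Agent.Lib.Helper50UGeom Cfsg.Agent.Lib.Helper50UGrp Cfsg.Agent.Lib.Helper50UPar
  Cfsg.Agent.Lib.Helper50UFx Cfsg.Agent.Lib.Helper50UTriv Cfsg.Agent.Lib.Helper50SzM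

variable {K V : Type*} [Field K] [AddCommGroup V] [Module K V] {σ : K →+* K} {f : V → V → K}
variable [FiniteDimensional K V] (h : Herm σ f)

include h in
/-- the complement of a hyperbolic pair is a line -/
lemma W_line (hdim : finrank K V = 3) {u v w₀ : V} (F : Frame f u v) (h0u : f w₀ u = 0)
    (h0v : f w₀ v = 0) (h00 : f w₀ w₀ = 1) (w : V) (hwu : f w u = 0) (hwv : f w v = 0) :
    w = f w w₀ • w₀ := by
  by_contra hne
  have hw' : w - f w w₀ • w₀ ≠ 0 := sub_ne_zero.2 hne
  have hli : LinearIndependent K ![u, v, w₀, w - f w w₀ • w₀] := by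
    rw [Fintype.linearIndependent_iff]
    intro g hg
    simp only [Fin.sum_univ_four, Matrix.cons_val_zero, Matrix.cons_val_one, Matrix.cons_val] at hg
    have e1 := congrArg (fun x => f x v) hg
    have e2 := congrArg (fun x => f x u) hg
    have e3 := congrArg (fun x => f x w₀) hg
    simp only [h.add_left, h.sub_left, h.smul_left, F.uu, F.vv, F.uv, F.vu h, h0u, h0v, h00, hwu,
      hwv, h.swap_zero h0u, h.swap_zero h0v, h.zero_left] at e1 e2 e3
    have g0 : g 0 = 0 := by linear_combination e1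
    have g1 : g 1 = 0 := by linear_combination e2
    have g2 : g 2 = 0 := by linear_combination e3
    rw [g0, g1, g2] at hg
    have g3 : g 3 = 0 := by
      have : g 3 • (w - f w w₀ • w₀) = 0 := by simpa using hg
      exact (smul_eq_zero.1 this).resolve_right hw'
    intro i
    fin_cases i
    · exact g0
    · exact g1
    · exact g2
    · exact g3
  have := hli.fintype_card_le_finrank
  rw [hdim] at this
  simp at this

/-- the parametrisation of `Q u` -/
noncomputable def phi {u w₀ : V} (huu : f u u = 0) (h0u : f w₀ u = 0) (h00 : f w₀ w₀ = 1) :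
    M σ h.invol →* SUg f where
  toFun m := sg h u (m.a • w₀) m.c
  map_one' := by
    show sg h u ((0 : K) • w₀) 0 = 1
    rw [zero_smul, sg_zero h huu (by simp), tv_zero]
  map_mul' x y := by
    have hv : ∀ m : M σ h.invol, m.c + σ m.c = - f (m.a • w₀) (m.a • w₀) := by
      intro m
      rw [h.smul_left, h.smul_right, h00, mul_one]
      exact m.h
    have hu : ∀ m : M σ h.invol, f (m.a • w₀) u = 0 := by
      intro m
      rw [h.smul_left, h0u, mul_zero]
    rw [sg_mul h huu (hu x) (hv x) (hu y) (hv y)]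
    show sg h u ((x.a + y.a) • w₀) (x.c + y.c - y.a * σ x.a) = _
    rw [add_smul, h.smul_left, h.smul_right, h00, mul_one]

lemma phi_apply {u w₀ : V} (huu : f u u = 0) (h0u : f w₀ u = 0) (h00 : f w₀ w₀ = 1)
    (m : M σ h.invol) : phi h huu h0u h00 m = sg h u (m.a • w₀) m.c := rfl

lemma phi_valid {w₀ : V} (h00 : f w₀ w₀ = 1) (m : M σ h.invol) :
    m.c + σ m.c = - f (m.a • w₀) (m.a • w₀) := by
  rw [h.smul_left, h.smul_right, h00, mul_one]
  exact m.h

lemma phi_mem {u w₀ : V} (huu : f u u = 0) (h0u : f w₀ u = 0) (h00 : f w₀ w₀ = 1)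
    (m : M σ h.invol) : phi h huu h0u h00 m ∈ Q f u :=
  sg_mem_Q h huu (by rw [h.smul_left, h0u, mul_zero]) (phi_valid h h00 m)

lemma phi_injective {u v w₀ : V} (F : Frame f u v) (h0u : f w₀ u = 0) (h0v : f w₀ v = 0)
    (h00 : f w₀ w₀ = 1) : Function.Injective (phi h F.uu h0u h00) := by
  intro x y e
  obtain ⟨e1, e2⟩ := sg_inj h F (by rw [h.smul_left, h0u, mul_zero])
    (by rw [h.smul_left, h0v, mul_zero]) (phi_valid h h00 x) (by rw [h.smul_left, h0u, mul_zero])
    (by rw [h.smul_left, h0v, mul_zero]) (phi_valid h h00 y) e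
  have hw0 : w₀ ≠ 0 := by
    rintro rfl
    rw [h.zero_left] at h00
    exact zero_ne_one h00
  ext
  · exact smul_left_injective K hw0 e1
  · exact e2

lemma phi_range (hdim : finrank K V = 3) {u v w₀ : V} (F : Frame f u v) (h0u : f w₀ u = 0)
    (h0v : f w₀ v = 0) (h00 : f w₀ w₀ = 1) : (phi h F.uu h0u h00).range = Q f u := by
  apply le_antisymm
  · rintro _ ⟨m, rfl⟩
    exact phi_mem h F.uu h0u h00 m
  · intro e he
    obtain ⟨w, c, hwu, hwv, hc, rfl⟩ := Q_exists h F e he
    have hw := W_line h hdim F h0u h0v h00 w hwu hwv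
    refine ⟨⟨f w w₀, c, ?_⟩, ?_⟩
    · rw [hc]
      conv_lhs => rw [hw]
      rw [h.smul_left, h.smul_right, h00, mul_one]
    · rw [phi_apply]
      show sg h u (f w w₀ • w₀) c = _
      rw [← hw]

section sylow

variable [Finite K] (p : ℕ) [Fact p.Prime] [CharP K p]

include h in
/-- Sylow `p`-subgroups of the three-dimensional special unitary group -/
theorem sylow_eq (hdim : finrank K V = 3) (P : Sylow p (SUg f)) :
    ∃ u v w₀ : V, Frame f u v ∧ f w₀ u = 0 ∧ f w₀ v = 0 ∧ f w₀ w₀ = 1 ∧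
      (P : Subgroup (SUg f)) = Q f u := by
  obtain ⟨u, hu0, huu, hfix⟩ := exists_fixed_iso h p (by omega) (P : Subgroup (SUg f)) P.isPGroup'
  obtain ⟨v, F⟩ := exists_frame h u hu0 huu
  obtain ⟨w₀, hw₀, h00⟩ := exists_norm_W h (by omega) F 1 (map_one σ)
  obtain ⟨h0u, h0v⟩ := (mem_Wsp h u v w₀).1 hw₀
  refine ⟨u, v, w₀, F, h0u, h0v, h00, ?_⟩
  have hle : Q f u ≤ (P : Subgroup (SUg f)) := by
    have := QFx_le h p (maxP_sylow p P) F hfix
    rwa [Fx_bot, inf_top_eq] at this
  have hbot : ∀ x : V, x ∈ h.perp ((⊥ : Submodule K V) : Set V) := by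
    intro x y hy
    have : y = 0 := by simpa using hy
    rw [this, h.zero_right]
  apply le_antisymm _ hle
  intro e he
  obtain ⟨e₁, he₁, he₂⟩ := step_factor h p (maxP_sylow p P) F (hbot u) (hbot v) hfix e he
  obtain ⟨-, hgu, hgv⟩ := (mem_Fx_ext _ u v _).1 he₂.2
  set g := e₁⁻¹ * e with hg
  have hgw : ∃ l : K, g.1 w₀ = l • w₀ := by
    refine ⟨f (g.1 w₀) w₀, W_line h hdim F h0u h0v h00 _ ?_ ?_⟩
    · have := G_iso g w₀ u
      rwa [hgu, h0u] at this
    · have := G_iso g w₀ v
      rwa [hgv, h0v] at this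
  obtain ⟨l, hl⟩ := hgw
  obtain ⟨k, hk⟩ := P.isPGroup' ⟨g, he₂.1⟩
  have hk' : g ^ p ^ k = 1 := congrArg Subtype.val hk
  have hpow : ∀ j : ℕ, (g ^ j).1 w₀ = l ^ j • w₀ := by
    intro j
    induction j with
    | zero => simp
    | succ j ih => rw [pow_succ, mul_app, hl, map_smul, ih, smul_smul, pow_succ, mul_comm]
  have hw0 : w₀ ≠ 0 := by
    rintro rfl
    rw [h.zero_left] at h00
    exact zero_ne_one h00
  have hl1 : l = 1 := by
    have e1 := hpow (p ^ k)
    rw [hk', one_app] at e1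
    have e2 : l ^ p ^ k = 1 := by
      have : (1 : K) • w₀ = l ^ p ^ k • w₀ := by rw [one_smul]; exact e1
      exact (smul_left_injective K hw0 this).symm
    have e3 : (l - 1) ^ p ^ k = 0 := by rw [sub_pow_char_pow, e2, one_pow, sub_self]
    exact sub_eq_zero.1 (pow_eq_zero_iff (pow_ne_zero _ (Fact.out : p.Prime).ne_zero) |>.1 e3)
  have hg1 : g = 1 := by
    apply G_ext
    intro x
    rw [one_app]
    have hx := W_line h hdim F h0u h0v h00 (pr f u v x) (pr_u h F x) (pr_v h F x)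
    conv_lhs => rw [decomp (f := f) u v x, hx]
    rw [map_add, map_add, map_smul, map_smul, map_smul, hgu, hgv, hl, hl1, one_smul, ← hx]
    exact (decomp (f := f) u v x).symm
  have : e = e₁ := by
    have e5 : e = e₁ * g := by rw [hg]; group
    rw [e5, hg1, mul_one]
  rw [this]
  exact he₁.1

end sylow

end Cfsg.Agent.Lib.Helper50SzSyl
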