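import Cfsg.Agent.Lib.Helper50UTheta

set_option autoImplicit false

namespace Cfsg.Agent.Lib.Helper50UFin

open Module Cfsg.Agent.Lib.Helper95Herm Cfsg.Agent.Lib.Helper95SU Cfsg.Agent.Lib.Helper95CU
  Cfsg.Agent.Lib.Helper50UGeom Cfsg.Agent.Lib.Helper50UGrp Cfsg.Agent.Lib.Helper50UPar
  Cfsg.Agent.Lib.Helper50URoot Cfsg.Agent.Lib.Helper50UStab Cfsg.Agent.Lib.Helper50USim
  Cfsg.Agent.Lib.Helper50UT Cfsg.Agent.Lib.Helper50UTau Cfsg.Agent.Lib.Helper50UTheta

variable {K V : Type*} [Field K] [AddCommGroup V] [Module K V] {σ : K →+* K} {f : V → V → K}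
variable [FiniteDimensional K V] (h : Herm σ f)

local notation "mk" => (QuotientGroup.mk : SUg f → SUg f ⧸ Subgroup.center (SUg f))
local notation "Gb" => (SUg f ⧸ Subgroup.center (SUg f))

include h in
/-- `Q u` is transitive on isotropic vectors `y` with `f y u = 1` -/
lemma exists_move {u v y : V} (F : Frame f u v) (hy : f y y = 0) (hyu : f y u = 1) :
    ∃ E ∈ Q f u, E.1 v = y := by
  have hdec : y = f y v • u + v + pr f u v y := by
    have := decomp (f := f) u v y
    rw [hyu, one_smul] at this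
    exact this
  have hwu := pr_u h F y
  have hwv := pr_v h F y
  have hval : f y v + σ (f y v) = - f (pr f u v y) (pr f u v y) := by
    have e1 := form_decomp h F y y
    rw [hy, hyu, map_one] at e1
    linear_combination -e1
  refine ⟨sg h u (pr f u v y) (f y v), sg_mem_Q h F.uu hwu hval, ?_⟩
  rw [sg_v h F hwu hwv hval]
  conv_rhs => rw [hdec]
  abel

/-- the subgroup generated by the stabiliser of `u` and one root element at `v` is everything -/
theorem generation {u v : V} (F : Frame f u v) (S : Subgroup (SUg f)) (hQ : Q f u ≤ S)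
    (hL : ∀ (l : SUg f) (a b : K), IsL u v l a b → l ∈ S)
    (hv : ∀ b, b + σ b = 0 → tv h v b ∈ S) : S = ⊤ := by
  obtain ⟨b0, hb0, hb0'⟩ := h.exists_z
  have stepA : ∀ e : SUg f, (∃ c : K, e.1 u = c • u) → e ∈ S := by
    rintro e ⟨c, hc⟩
    have hc0 : c ≠ 0 := by
      rintro rfl
      rw [zero_smul] at hc
      have := inv_app_app e u
      rw [hc, map_zero] at this
      exact F.u_ne h this.symm
    have hσc := sig_ne h hc0
    have h1 : f (e.1 v) u = (σ c)⁻¹ := by
      have := G_iso e v u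
      rw [hc, h.smul_right, F.vu h] at this
      field_simp
      linear_combination this
    obtain ⟨E, hE, hEv⟩ := exists_move h (y := σ c • e.1 v) F (by
      rw [h.smul_left, h.smul_right, G_iso e, F.vv]; ring) (by
      rw [h.smul_left, h1, mul_inv_cancel₀ hσc])
    have hl : IsL u v (E⁻¹ * e) c (σ c)⁻¹ := by
      constructor
      · rw [mul_app, hc, map_smul, inv_app_eq hE.1]
      · rw [mul_app]
        apply inv_app_eq
        rw [map_smul, hEv, smul_smul, inv_mul_cancel₀ hσc, one_smul]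
    have := S.mul_mem (hQ hE) (hL _ _ _ hl)
    rwa [mul_inv_cancel_left] at this
  have stepB : ∀ e : SUg f, f (e.1 u) u ≠ 0 → e ∈ S := by
    intro e he
    obtain ⟨E, hE, hEv⟩ := exists_move h (y := (f (e.1 u) u)⁻¹ • e.1 u) F (by
      rw [h.smul_left, h.smul_right, G_iso e, F.uu]; ring) (by
      rw [h.smul_left, inv_mul_cancel₀ he])
    have ha : (-b0⁻¹) + σ (-b0⁻¹) = 0 := by
      have hσ := sig_ne h hb0
      rw [map_neg, map_inv₀]
      field_simp
      linear_combination -hb0'
    have h1 : (E⁻¹ * e).1 u = f (e.1 u) u • v := by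
      rw [mul_app]
      apply inv_app_eq
      rw [map_smul, hEv, smul_smul, mul_inv_cancel₀ he, one_smul]
    have h2 : (tv h v b0 * tv h u (-b0⁻¹)).1 v = (-b0⁻¹) • u := by
      rw [mul_app, tv_apply h F.uu ha, tv_apply h F.vv hb0', F.vu h]
      simp only [h.add_left, h.smul_left, F.vv, F.uv]
      have : b0 * (0 + -b0⁻¹ * 1 * 1) = -1 := by field_simp; ring
      rw [this]
      module
    have h3 := stepA (tv h v b0 * tv h u (-b0⁻¹) * (E⁻¹ * e)) ⟨f (e.1 u) u * (-b0⁻¹), by
      rw [mul_app, h1, map_smul, h2, smul_smul]⟩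
    have h4 : tv h v b0 * tv h u (-b0⁻¹) ∈ S := S.mul_mem (hv _ hb0') (hQ (tv_mem_Q h F.uu ha))
    have h5 := S.mul_mem (S.inv_mem h4) h3
    rw [inv_mul_cancel_left] at h5
    have h6 := S.mul_mem (hQ hE) h5
    rwa [mul_inv_cancel_left] at h6
  have stepC : ∀ e : SUg f, f (e.1 u) u = 0 → f (e.1 u) v ≠ 0 → e ∈ S := by
    intro e he he2
    have h3 := stepB (tv h v b0 * e) (by
      rw [mul_app, tv_apply h F.vv hb0', h.add_left, h.smul_left, he, F.vu h]
      simpa using mul_ne_zero hb0 he2)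
    have h5 := S.mul_mem (S.inv_mem (hv _ hb0')) h3
    rwa [inv_mul_cancel_left] at h5
  rw [eq_top_iff]
  intro e _
  by_cases h1 : f (e.1 u) u = 0
  · by_cases h2 : f (e.1 u) v = 0
    · have hne : e.1 u ≠ 0 := by
        intro h0
        have := inv_app_app e u
        rw [h0, map_zero] at this
        exact F.u_ne h this.symm
      have hW : e.1 u ∈ Wsp h u v := (mem_Wsp h u v _).2 ⟨h1, h2⟩
      obtain ⟨w, hw⟩ := (herm_W h F).nondeg ⟨e.1 u, hW⟩ (fun h0 => hne (congrArg Subtype.val h0))
      have hw' : f w.1 (e.1 u) ≠ 0 := hw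
      have hwW := (mem_Wsp h u v _).1 w.2
      obtain ⟨c, hc⟩ := exists_c h w.1
      have e1 : (sg h u w.1 c * e).1 u = e.1 u - f (e.1 u) w.1 • u := by
        rw [mul_app, sg_apply h F.uu hwW.1 hc, h1]; module
      have h3 := stepC (sg h u w.1 c * e) (by
        rw [e1, h.sub_left, h.smul_left, h1, F.uu]; ring) (by
        rw [e1, h.sub_left, h.smul_left, h2, F.uv]
        simpa using h.swap_ne hw')
      have h5 := S.mul_mem (S.inv_mem (hQ (sg_mem_Q h F.uu hwW.1 hc))) h3
      rwa [inv_mul_cancel_left] at h5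
    · exact stepC e h1 h2
  · exact stepB e h1


include h in
lemma exists_pair (hdim : 3 ≤ finrank K V) {u v : V} (F : Frame f u v) :
    ∃ w1 ∈ Wsp h u v, ∃ w0 ∈ Wsp h u v, f w1 w0 = 1 := by
  obtain ⟨w0, hw0, h1, h2⟩ := exists_perp_two h hdim u v
  have hw0W : w0 ∈ Wsp h u v := (mem_Wsp h u v w0).2 ⟨h1, h2⟩
  obtain ⟨x, hx⟩ := (herm_W h F).nondeg ⟨w0, hw0W⟩ (fun h0 => hw0 (congrArg Subtype.val h0))
  have hx' : f x.1 w0 ≠ 0 := hx
  exact ⟨(f x.1 w0)⁻¹ • x.1, (Wsp h u v).smul_mem _ x.2, w0, hw0W, by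
    rw [h.smul_left, inv_mul_cancel₀ hx']⟩

/-- an automorphism acting trivially on `Q u / X u` and fixing the root group of `v` is trivial -/
theorem final [Finite K] (hdim : 3 ≤ finrank K V)
    (hex : finrank K V = 3 → ∃ r, σ r = r ∧ r ≠ 0 ∧ r ≠ 1) {u v : V} (F : Frame f u v)
    (β : MulAut Gb)
    (hQ : ∀ w ∈ Wsp h u v, ∀ c, c + σ c = - f w w →
      ∃ c', c' + σ c' = - f w w ∧ β (mk (sg h u w c)) = mk (sg h u w c'))
    (hv : Maps h β v v) : β = 1 := by
  obtain ⟨a0, ha0, ha0'⟩ := h.exists_z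
  have hT : TRel h β u v id := ⟨fun w hw => hw, hQ⟩
  have hmu : Maps h β u u := by
    intro a ha
    obtain ⟨c', hc', e⟩ := hQ 0 (Wsp h u v).zero_mem a (by rw [h.zero_left]; linear_combination ha)
    rw [h.zero_left, neg_zero] at hc'
    rw [sg_zero h F.uu ha, sg_zero h F.uu hc'] at e
    exact ⟨c', hc', e⟩
  -- trivial on the root group of `u`
  have hX : ∀ a, a + σ a = 0 → β (mk (tv h u a)) = mk (tv h u a) := by
    intro a ha
    obtain ⟨w1, hw1, w0, hw0, h11⟩ := exists_pair h hdim F
    obtain ⟨s, hs⟩ := h.trace_surj 1 (map_one σ)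
    have e1 := om_rel h hT F ((Wsp h u v).smul_mem (a * s) hw1) hw0
    simp only [id] at e1
    have e2 : f ((a * s) • w1) w0 - f w0 ((a * s) • w1) = a := by
      rw [h.smul_left, h.smul_right, h11, h.herm w0 w1, h11, map_one, map_mul]
      linear_combination a * hs - σ s * ha
    rwa [e2] at e1
  -- the cocycle `ζ`
  have key : ∀ w : V, ∃ z : K, w ∈ Wsp h u v → (z + σ z = 0 ∧ ∀ c, c + σ c = - f w w →
      β (mk (sg h u w c)) = mk (sg h u w (c + z))) := by
    intro w
    by_cases hw : w ∈ Wsp h u v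
    · obtain ⟨c0, hc0⟩ := exists_c h w
      obtain ⟨c0', hc0', e⟩ := hQ w hw c0 hc0
      have hw' := (mem_Wsp h u v w).1 hw
      refine ⟨c0' - c0, fun _ => ⟨by rw [map_sub]; linear_combination hc0' - hc0, fun c hc => ?_⟩⟩
      have ha : (c - c0) + σ (c - c0) = 0 := by rw [map_sub]; linear_combination hc - hc0
      have e3 : sg h u w c = sg h u w c0 * tv h u (c - c0) := by
        rw [sg_mul_tv h F.uu hw'.1 hc0 ha]; congr 1; ring
      rw [e3, QuotientGroup.mk_mul, map_mul, e, hX _ ha, ← QuotientGroup.mk_mul,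
        sg_mul_tv h F.uu hw'.1 hc0' ha]
      congr 2
      ring
    · exact ⟨0, fun h0 => absurd h0 hw⟩
  choose ζ hζ using key
  have hval : ∀ w ∈ Wsp h u v, ∀ c, c + σ c = - f w w → (c + ζ w) + σ (c + ζ w) = - f w w := by
    intro w hw c hc
    rw [map_add]; linear_combination hc + (hζ w hw).1
  have hζadd : ∀ w ∈ Wsp h u v, ∀ w' ∈ Wsp h u v, ζ (w + w') = ζ w + ζ w' := by
    intro w hw w' hw'
    obtain ⟨c, hc⟩ := exists_c h w
    obtain ⟨c', hc'⟩ := exists_c h w'
    have h1 := (mem_Wsp h u v _).1 hw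
    have h2 := (mem_Wsp h u v _).1 hw'
    have hs := (Wsp h u v).add_mem hw hw'
    have e2 := (hζ _ hs).2 _ (sg_valid_mul h hc hc')
    rw [← sg_mul h F.uu h1.1 hc h2.1 hc', QuotientGroup.mk_mul, map_mul, (hζ w hw).2 c hc,
      (hζ w' hw').2 c' hc', ← QuotientGroup.mk_mul,
      sg_mul h F.uu h1.1 (hval w hw c hc) h2.1 (hval w' hw' c' hc')] at e2
    have e3 := (mk_sg_inj h F hs (sg_valid_mul h (hval w hw c hc) (hval w' hw' c' hc')) hs
      (hval _ hs _ (sg_valid_mul h hc hc')) e2).2
    linear_combination -e3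
  -- Levi elements
  have hL : ∀ (l : SUg f) (a b : K), IsL u v l a b → β (mk l) = mk l ∧
      ∀ w ∈ Wsp h u v, ζ (σ a • l.1 w) = a * σ a * ζ w := by
    intro l a b hl
    obtain ⟨l', hl'⟩ := QuotientGroup.mk_surjective (β (mk l))
    obtain ⟨a', b', hL', e1⟩ := hT.equiv h hdim F hmu hv hl hl'.symm
    simp only [id] at e1
    have ha := hl.a_ne (h := h) F
    have ha' := hL'.a_ne (h := h) F
    have hσa := sig_ne h ha
    have hσa' := sig_ne h ha'
    have hN : a * σ a = a' * σ a' := by
      have e2 := conj_tv h l F.uu ha0'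
      rw [hl.hu, tv_smul h a F.uu ha0'] at e2
      have e3 := conj_tv h l' F.uu ha0'
      rw [hL'.hu, tv_smul h a' F.uu ha0'] at e3
      have hv1 : a0 * (a * σ a) + σ (a0 * (a * σ a)) = 0 := by
        rw [map_mul, map_mul, h.invol]; linear_combination (a * σ a) * ha0'
      have hv2 : a0 * (a' * σ a') + σ (a0 * (a' * σ a')) = 0 := by
        rw [map_mul, map_mul, h.invol]; linear_combination (a' * σ a') * ha0'
      have e4 : mk (tv h u (a0 * (a * σ a))) = mk (tv h u (a0 * (a' * σ a'))) := by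
        rw [← hX _ hv1, ← e2, QuotientGroup.mk_mul, QuotientGroup.mk_mul, map_mul, map_mul,
          QuotientGroup.mk_inv, map_inv, ← hl', hX _ ha0', ← QuotientGroup.mk_inv,
          ← QuotientGroup.mk_mul, ← QuotientGroup.mk_mul, e3]
      exact mul_left_cancel₀ ha0 (mk_tv_inj h F hv1 hv2 e4)
    have hmk : mk l = mk l' := by
      apply mk_eq_of_scalar (a' / a)
      intro x
      have r1 := hl.rel (h := h) F
      have r2 := hL'.rel (h := h) F
      have hb : b = (σ a)⁻¹ := by
        have : σ (a * σ b) = 1 := by rw [r1, map_one]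
        rw [map_mul, h.invol] at this
        field_simp
        linear_combination this
      have hb' : b' = (σ a')⁻¹ := by
        have : σ (a' * σ b') = 1 := by rw [r2, map_one]
        rw [map_mul, h.invol] at this
        field_simp
        linear_combination this
      have e5 : l'.1 (pr f u v x) = (a' / a) • l.1 (pr f u v x) := by
        have := e1 _ (pr_mem h F x)
        have e6 := congrArg (fun y => (σ a')⁻¹ • y) this
        simp only [smul_smul] at e6
        rw [inv_mul_cancel₀ hσa', one_smul] at e6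
        rw [← e6]
        congr 1
        field_simp
        linear_combination hN
      conv_lhs => rw [decomp (f := f) u v x]
      conv_rhs => rw [decomp (f := f) u v x]
      simp only [map_add, map_smul, hl.hu, hl.hv, hL'.hu, hL'.hv, e5, hb, hb', smul_add, smul_smul]
      congr 1
      congr 1
      · congr 1
        field_simp
      · congr 1
        field_simp
        linear_combination (f x u) * hN
    refine ⟨by rw [← hl', hmk], fun w hw => ?_⟩
    obtain ⟨c, hc⟩ := exists_c h w
    have hw1 := (mem_Wsp h u v _).1 hw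
    have hm : σ a • l.1 w ∈ Wsp h u v := (Wsp h u v).smul_mem _ (hl.mem F hw)
    have hv1 : c * (a * σ a) + σ (c * (a * σ a)) = - f (σ a • l.1 w) (σ a • l.1 w) :=
      valid_smul h a (by rw [G_iso l]; exact hc)
    have hv2 : (c + ζ w) * (a * σ a) + σ ((c + ζ w) * (a * σ a)) =
        - f (σ a • l.1 w) (σ a • l.1 w) :=
      valid_smul h a (by rw [G_iso l]; exact hval w hw c hc)
    have e2 := (hζ _ hm).2 _ hv1
    rw [← conj_L h hl F hw1.1 hc, QuotientGroup.mk_mul, QuotientGroup.mk_mul, map_mul, map_mul,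
      QuotientGroup.mk_inv, map_inv, ← hl', ← hmk, (hζ w hw).2 c hc, ← QuotientGroup.mk_inv,
      ← QuotientGroup.mk_mul, ← QuotientGroup.mk_mul, conj_L h hl F hw1.1 (hval w hw c hc)] at e2
    have e3 := (mk_sg_inj h F hm hv2 hm (hval _ hm _ hv1) e2).2
    linear_combination -e3
  -- `ζ = 0`
  have hζ0 : ∀ w ∈ Wsp h u v, ζ w = 0 := by
    have hz : ∀ x : Wsp h u v, ζ x.1 = 0 := by
      by_cases han : ∀ x : Wsp h u v, f x.1 x.1 = 0 → x = 0
      · obtain ⟨r, hr, hr0, hr1⟩ := hex (finrank_eq_three_of_aniso h hdim F han)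
        refine zeta_line (herm_W h F) r hr hr0 hr1 (fun x : Wsp h u v => ζ x.1)
          (fun a b => hζadd _ a.2 _ b.2) ?_
        intro l x hl
        have hl0 : l ≠ 0 := by
          rintro rfl
          simp at hl
        by_cases hx : x = 0
        · subst hx
          simp
        have hxx : f x.1 x.1 ≠ 0 := fun h0 => hx (han x h0)
        have e1 := (hL _ _ _ (isL_tor1 h F hxx hl0 x.2)).2 x.1 x.2
        have e2 := tor1_d h F hxx hl0 x.2 1
        rw [one_smul] at e2
        rw [e2, hl, one_mul] at e1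
        exact e1
      · push Not at han
        obtain ⟨y, hy, hy0⟩ := han
        obtain ⟨z, Fyz⟩ := exists_frame (herm_W h F) y hy0 hy
        refine zeta_iso (herm_W h F) Fyz (fun x : Wsp h u v => ζ x.1)
          (fun a b => hζadd _ a.2 _ b.2) ?_
        intro y' a x hy' ha
        have e1 := (hL _ _ _ (isL_tv h y'.2 hy' ha)).2 x.1 x.2
        rw [map_one, one_smul, tv_apply h hy' ha, one_mul, one_mul] at e1
        exact e1
    exact fun w hw => hz ⟨w, hw⟩
  -- the fixed subgroup
  let S : Subgroup (SUg f) :=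
    { carrier := {e | β (mk e) = mk e}
      mul_mem' := by
        intro a b ha hb
        show β (mk (a * b)) = mk (a * b)
        rw [QuotientGroup.mk_mul, map_mul, ha, hb]
      one_mem' := by
        show β (mk 1) = mk 1
        rw [QuotientGroup.mk_one, map_one]
      inv_mem' := by
        intro a ha
        show β (mk a⁻¹) = mk a⁻¹
        rw [QuotientGroup.mk_inv, map_inv, ha] }
  have hS : S = ⊤ := by
    refine generation h F S ?_ (fun l a b hl => (hL l a b hl).1) ?_
    · intro e he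
      obtain ⟨w, c, h1, h2, h3, rfl⟩ := Q_exists h F e he
      have hw : w ∈ Wsp h u v := (mem_Wsp h u v w).2 ⟨h1, h2⟩
      show β (mk (sg h u w c)) = mk (sg h u w c)
      rw [(hζ w hw).2 c h3, hζ0 w hw, add_zero]
    · intro b hb
      show β (mk (tv h v b)) = mk (tv h v b)
      by_cases hb0 : b = 0
      · subst hb0
        rw [tv_zero, QuotientGroup.mk_one, map_one]
      obtain ⟨b', hb', e1⟩ := hv b hb
      obtain ⟨a1, ha1, e2⟩ := hv a0 ha0'
      have ha10 : a1 ≠ 0 := by
        rintro rfl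
        rw [tv_zero] at e2
        have : β (mk (tv h v a0)) = β 1 := by rw [e2, map_one]; rfl
        exact mk_tv_ne_one h hdim (F.symm h) ha0' ha0 (β.injective this)
      have hσb := sig_ne h hb0
      have ha : (-b⁻¹) + σ (-b⁻¹) = 0 := by
        rw [map_neg, map_inv₀]
        field_simp
        linear_combination -hb
      have hgv : ∀ b2, b2 + σ b2 = 0 →
          (tv h v b2 * tv h u (-b⁻¹)).1 v = (1 + b2 * (-b⁻¹)) • v + (-b⁻¹) • u := by
        intro b2 hb2
        rw [mul_app, tv_apply h F.uu ha, tv_apply h F.vv hb2, F.vu h]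
        simp only [h.add_left, h.smul_left, F.vv, F.uv]
        module
      have e3 := conj_tv h (tv h v b * tv h u (-b⁻¹)) F.vv ha0'
      have hz1 : 1 + b * (-b⁻¹) = 0 := by field_simp; ring
      rw [hgv b hb, hz1, zero_smul, zero_add, tv_smul h _ F.uu ha0'] at e3
      have hv1 : a0 * (-b⁻¹ * σ (-b⁻¹)) + σ (a0 * (-b⁻¹ * σ (-b⁻¹))) = 0 := by
        rw [map_mul, map_mul, h.invol]; linear_combination (-b⁻¹ * σ (-b⁻¹)) * ha0'
      have e4 : mk (tv h ((tv h v b' * tv h u (-b⁻¹)).1 v) a1) =
          mk (tv h u (a0 * (-b⁻¹ * σ (-b⁻¹)))) := by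
        rw [← hX _ hv1, ← e3, QuotientGroup.mk_mul, QuotientGroup.mk_mul, QuotientGroup.mk_mul,
          map_mul, map_mul, map_mul, QuotientGroup.mk_inv, QuotientGroup.mk_mul, map_inv, map_mul,
          e1, hX _ ha, e2, ← QuotientGroup.mk_mul, ← QuotientGroup.mk_inv, ← QuotientGroup.mk_mul,
          ← QuotientGroup.mk_mul, conj_tv h _ F.vv ha1]
      obtain ⟨-, c, -, e5⟩ := X1 h hdim (frame_map (F.symm h) (tv h v b' * tv h u (-b⁻¹))) F.uu ha1
        hv1 ha10 e4
      rw [hgv b' hb'] at e5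
      have e6 := congrArg (fun x => f x u) e5
      simp only [h.add_left, h.smul_left, F.uu, F.vu h] at e6
      have e7 : b' = b := by
        have : 1 + b' * (-b⁻¹) = 0 := by linear_combination e6
        field_simp at this
        linear_combination -this
      rw [e1, e7]
  ext x
  obtain ⟨e, rfl⟩ := QuotientGroup.mk_surjective x
  have : e ∈ S := by rw [hS]; trivial
  exact this

end Cfsg.Agent.Lib.Helper50UFin
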