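import Cfsg.Agent.Lib.Helper50UTriv

set_option autoImplicit false

/-!
Pointwise stabilisers of non-degenerate subspaces in the special unitary group, maximal
`p`-subgroups of them, and generation of Sylow `p`-subgroups by their intersections with the
unipotent radicals `Q y`.
-/

namespace Cfsg.Agent.Lib.Helper50UFx

open Module Cfsg.Agent.Lib.Helper95Herm Cfsg.Agent.Lib.Helper95SU Cfsg.Agent.Lib.Helper95CU
  Cfsg.Agent.Lib.Helper50UGeom Cfsg.Agent.Lib.Helper50UGrp Cfsg.Agent.Lib.Helper50UPar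
  Cfsg.Agent.Lib.Helper50URoot Cfsg.Agent.Lib.Helper50UStab Cfsg.Agent.Lib.Helper50USim
  Cfsg.Agent.Lib.Helper50UT Cfsg.Agent.Lib.Helper50UTau Cfsg.Agent.Lib.Helper50UTheta
  Cfsg.Agent.Lib.Helper50UFin Cfsg.Agent.Lib.Helper50UMain

variable {K V : Type*} [Field K] [AddCommGroup V] [Module K V] {σ : K →+* K} {f : V → V → K}

/-- pointwise stabiliser of a subspace -/
def Fx (f : V → V → K) (Y : Submodule K V) : Subgroup (SUg f) where
  carrier := {e | ∀ x ∈ Y, e.1 x = x}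
  mul_mem' {a b} ha hb x hx := by rw [mul_app, hb x hx, ha x hx]
  one_mem' x _ := rfl
  inv_mem' {a} ha x hx := inv_app_eq (ha x hx)

lemma mem_Fx (Y : Submodule K V) (e : SUg f) : e ∈ Fx f Y ↔ ∀ x ∈ Y, e.1 x = x := Iff.rfl

/-- extension of a subspace by a pair of vectors -/
def ext (Y : Submodule K V) (u v : V) : Submodule K V := Y ⊔ Submodule.span K {u, v}

lemma le_ext (Y : Submodule K V) (u v : V) : Y ≤ ext Y u v := le_sup_left

lemma u_mem_ext (Y : Submodule K V) (u v : V) : u ∈ ext Y u v :=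
  Submodule.mem_sup_right (Submodule.subset_span (by simp))

lemma v_mem_ext (Y : Submodule K V) (u v : V) : v ∈ ext Y u v :=
  Submodule.mem_sup_right (Submodule.subset_span (by simp))

lemma mem_ext (Y : Submodule K V) (u v x : V) :
    x ∈ ext Y u v ↔ ∃ y ∈ Y, ∃ a b : K, x = y + (a • u + b • v) := by
  rw [ext, Submodule.mem_sup]
  constructor
  · rintro ⟨y, hy, z, hz, rfl⟩
    obtain ⟨a, b, rfl⟩ := Submodule.mem_span_pair.1 hz
    exact ⟨y, hy, a, b, rfl⟩
  · rintro ⟨y, hy, a, b, rfl⟩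
    exact ⟨y, hy, _, Submodule.mem_span_pair.2 ⟨a, b, rfl⟩, rfl⟩

lemma mem_Fx_ext (Y : Submodule K V) (u v : V) (e : SUg f) :
    e ∈ Fx f (ext Y u v) ↔ e ∈ Fx f Y ∧ e.1 u = u ∧ e.1 v = v := by
  constructor
  · intro he
    exact ⟨fun x hx => he x (le_ext Y u v hx), he u (u_mem_ext Y u v), he v (v_mem_ext Y u v)⟩
  · rintro ⟨h1, h2, h3⟩ x hx
    obtain ⟨y, hy, a, b, rfl⟩ := (mem_ext Y u v x).1 hx
    rw [map_add, map_add, map_smul, map_smul, h1 y hy, h2, h3]

lemma Fx_ext_le (Y : Submodule K V) (u v : V) : Fx f (ext Y u v) ≤ Fx f Y :=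
  fun e he => ((mem_Fx_ext Y u v e).1 he).1

lemma Fx_bot : Fx f (⊥ : Submodule K V) = ⊤ := by
  rw [eq_top_iff]
  intro e _ x hx
  rw [(Submodule.mem_bot K).1 hx, map_zero]

section basic

variable (h : Herm σ f)

lemma mem_perp_ext (Y : Submodule K V) (u v x : V) :
    x ∈ h.perp (ext Y u v : Set V) ↔ x ∈ h.perp (Y : Set V) ∧ f x u = 0 ∧ f x v = 0 := by
  constructor
  · intro hx
    exact ⟨fun y hy => hx y (le_ext Y u v hy), hx u (u_mem_ext Y u v), hx v (v_mem_ext Y u v)⟩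
  · rintro ⟨h1, h2, h3⟩ z hz
    obtain ⟨y, hy, a, b, rfl⟩ := (mem_ext Y u v z).1 hz
    rw [h.add_right, h.add_right, h.smul_right, h.smul_right, h1 y hy, h2, h3]
    ring

lemma pr_mem_perp {Y : Submodule K V} {u v y : V} (hu : u ∈ h.perp (Y : Set V))
    (hv : v ∈ h.perp (Y : Set V)) (hy : y ∈ h.perp (Y : Set V)) :
    pr f u v y ∈ h.perp (Y : Set V) :=
  Submodule.sub_mem _ (Submodule.sub_mem _ hy (Submodule.smul_mem _ _ hu))
    (Submodule.smul_mem _ _ hv)

lemma pr_mem_perp_ext {Y : Submodule K V} {u v y : V} (F : Frame f u v)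
    (hu : u ∈ h.perp (Y : Set V)) (hv : v ∈ h.perp (Y : Set V)) (hy : y ∈ h.perp (Y : Set V)) :
    pr f u v y ∈ h.perp (ext Y u v : Set V) :=
  (mem_perp_ext h Y u v _).2 ⟨pr_mem_perp h hu hv hy, pr_u h F y, pr_v h F y⟩

lemma good_ext {Y : Submodule K V} (hY : Good h Y) {u v : V} (F : Frame f u v)
    (hu : u ∈ h.perp (Y : Set V)) (hv : v ∈ h.perp (Y : Set V)) : Good h (ext Y u v) := by
  intro w
  obtain ⟨y, hy, b, hb, rfl⟩ := hY w
  refine ⟨y + (f b v • u + f b u • v), (mem_ext Y u v _).2 ⟨y, hy, _, _, rfl⟩, pr f u v b,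
    pr_mem_perp_ext h F hu hv hb, ?_⟩
  conv_lhs => rw [decomp (f := f) u v b]
  abel

lemma Fx_perp {Y : Submodule K V} {e : SUg f} (he : e ∈ Fx f Y) {x : V}
    (hx : x ∈ h.perp (Y : Set V)) : e.1 x ∈ h.perp (Y : Set V) := by
  intro y hy
  have := G_iso e x y
  rw [he y hy] at this
  rw [this]
  exact hx y hy

lemma exists_frame_in {Y : Submodule K V} (hY : Good h Y) {u : V} (hu : u ∈ h.perp (Y : Set V))
    (hu0 : u ≠ 0) (huu : f u u = 0) : ∃ v ∈ h.perp (Y : Set V), Frame f u v := by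
  obtain ⟨v0, F0⟩ := exists_frame h u hu0 huu
  obtain ⟨y, hy, b, hb, e⟩ := hY v0
  have h1 : f u b = 1 := by
    have := F0.uv
    rw [e, h.add_right, hu y hy, zero_add] at this
    exact this
  have h2 : f b u = 1 := by rw [h.herm, h1, map_one]
  obtain ⟨c, hc⟩ := exists_c h b
  refine ⟨b + c • u, Submodule.add_mem _ hb (Submodule.smul_mem _ _ hu), huu, ?_, ?_⟩
  · simp only [h.add_left, h.add_right, h.smul_left, h.smul_right, huu, h1, h2]
    linear_combination hc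
  · simp only [h.add_right, h.smul_right, huu, h1]
    ring

include h in
/-- induction over sums of isotropic vectors inside a subspace -/
lemma iso_ind_in (M : Submodule K V) {y z : V} (F : Frame f y z) (hy : y ∈ M) (hz : z ∈ M)
    (P : V → Prop) (hadd : ∀ a b, a ∈ M → b ∈ M → P a → P b → P (a + b))
    (hiso : ∀ a ∈ M, f a a = 0 → P a) : ∀ x ∈ M, P x := by
  intro x hx
  have hs : ∀ (c : K) (a : V), a ∈ M → f a a = 0 → P (c • a) := by
    intro c a haM ha
    apply hiso _ (M.smul_mem _ haM)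
    rw [h.smul_left, h.smul_right, ha]; ring
  have hpr : pr f y z x ∈ M :=
    M.sub_mem (M.sub_mem hx (M.smul_mem _ hy)) (M.smul_mem _ hz)
  obtain ⟨c, hc⟩ := exists_c h (pr f y z x)
  have F2 := frame_shift h F (pr f y z x) c (pr_u h F x) (pr_v h F x) hc
  have e : x = (f x z • y + f x y • z) + ((z + pr f y z x + c • y) + ((-1 : K) • z + (-c) • y)) := by
    conv_lhs => rw [decomp (f := f) y z x]
    module
  rw [e]
  have m1 : z + pr f y z x + c • y ∈ M := M.add_mem (M.add_mem hz hpr) (M.smul_mem _ hy)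
  exact hadd _ _ (M.add_mem (M.smul_mem _ hy) (M.smul_mem _ hz))
    (M.add_mem m1 (M.add_mem (M.smul_mem _ hz) (M.smul_mem _ hy)))
    (hadd _ _ (M.smul_mem _ hy) (M.smul_mem _ hz) (hs _ _ hy F.uu) (hs _ _ hz F.vv))
    (hadd _ _ m1 (M.add_mem (M.smul_mem _ hz) (M.smul_mem _ hy)) (hiso _ m1 F2.uu)
      (hadd _ _ (M.smul_mem _ hz) (M.smul_mem _ hy) (hs _ _ hz F.vv) (hs _ _ hy F.uu)))

lemma exists_norm_in [Finite K] {Y : Submodule K V} (hY : Good h Y)
    (hne : h.perp (Y : Set V) ≠ ⊥) (d : K) (hd : σ d = d) :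
    ∃ w ∈ h.perp (Y : Set V), f w w = d := by
  obtain ⟨e, he, hee⟩ := exists_ns_perp h hY hne
  obtain ⟨c, hc⟩ := h.norm_surj (d / f e e) (by rw [map_div₀, hd, h.self_fix])
  refine ⟨c • e, Submodule.smul_mem _ _ he, ?_⟩
  rw [h.smul_left, h.smul_right, ← mul_assoc, hc]
  field_simp

end basic

variable [FiniteDimensional K V] (h : Herm σ f)

lemma finrank_perp_ext_lt (Y : Submodule K V) {u v : V} (F : Frame f u v)
    (hu : u ∈ h.perp (Y : Set V)) :
    finrank K (h.perp (ext Y u v : Set V)) < finrank K (h.perp (Y : Set V)) := by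
  apply Submodule.finrank_lt_finrank_of_lt
  refine lt_of_le_of_ne (fun x hx => ((mem_perp_ext h Y u v x).1 hx).1) ?_
  intro e
  have : u ∈ h.perp (ext Y u v : Set V) := by rw [e]; exact hu
  have h1 := ((mem_perp_ext h Y u v u).1 this).2.2
  rw [F.uv] at h1
  exact one_ne_zero h1

lemma sg_mem_Fx {Y : Submodule K V} {u w : V} {c : K} (hu : u ∈ h.perp (Y : Set V))
    (hw : w ∈ h.perp (Y : Set V)) (huu : f u u = 0) (hwu : f w u = 0) (hc : c + σ c = - f w w) :
    sg h u w c ∈ Fx f Y := by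
  intro x hx
  rw [sg_apply h huu hwu hc, h.swap_zero (hu x hx), h.swap_zero (hw x hx)]
  simp

lemma tv_mem_Fx {Y : Submodule K V} {u : V} {a : K} (hu : u ∈ h.perp (Y : Set V))
    (huu : f u u = 0) (ha : a + σ a = 0) : tv h u a ∈ Fx f Y := by
  intro x hx
  rw [tv_apply h huu ha, h.swap_zero (hu x hx)]
  simp

/-- relative version of `exists_move` -/
lemma move_in {Y : Submodule K V} {u v y : V} (F : Frame f u v) (hu : u ∈ h.perp (Y : Set V))
    (hv : v ∈ h.perp (Y : Set V)) (hyY : y ∈ h.perp (Y : Set V)) (hy : f y y = 0)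
    (hyu : f y u = 1) : ∃ E ∈ Q f u ⊓ Fx f Y, E.1 v = y := by
  have hdec : y = f y v • u + v + pr f u v y := by
    have := decomp (f := f) u v y
    rw [hyu, one_smul] at this
    exact this
  have hwu := pr_u h F y
  have hwv := pr_v h F y
  have hval : f y v + σ (f y v) = - f (pr f u v y) (pr f u v y) := by
    have e1 := form_decomp h F y y
    rw [hy, hyu, map_one] at e1
    linear_combination -e1
  refine ⟨sg h u (pr f u v y) (f y v), ⟨sg_mem_Q h F.uu hwu hval,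
    sg_mem_Fx h hu (pr_mem_perp h hu hv hyY) F.uu hwu hval⟩, ?_⟩
  rw [sg_v h F hwu hwv hval]
  conv_rhs => rw [hdec]
  abel

include h in
lemma eq_one_of_perp_fix {Y : Submodule K V} (hY : Good h Y) {e : SUg f} (he : e ∈ Fx f Y)
    (hp : ∀ x ∈ h.perp (Y : Set V), e.1 x = x) : e = 1 := by
  apply G_ext
  intro x
  obtain ⟨y, hy, b, hb, rfl⟩ := hY x
  rw [map_add, he y hy, hp b hb, one_app]

section pgroup

variable [Finite K] (p : ℕ) [Fact p.Prime] [CharP K p]

include h in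
/-- a `p`-subgroup of `Fx Y` fixes a nonzero isotropic vector of `Y^⊥`, or is trivial -/
theorem fixed_cases {Y : Submodule K V} (hY : Good h Y) (R : Subgroup (SUg f)) (hRY : R ≤ Fx f Y)
    (hR : IsPGroup p R) :
    (∃ y ∈ h.perp (Y : Set V), y ≠ 0 ∧ f y y = 0 ∧ ∀ r ∈ R, r.1 y = y) ∨ R = ⊥ := by
  classical
  by_cases hM : h.perp (Y : Set V) = ⊥
  · right
    rw [eq_bot_iff]
    intro e he
    rw [Subgroup.mem_bot]
    apply eq_one_of_perp_fix h hY (hRY he)
    intro x hx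
    rw [hM, Submodule.mem_bot] at hx
    rw [hx, map_zero]
  obtain ⟨d, hdM, hd, hdf⟩ := exists_fixed_in p R hR (h.perp (Y : Set V))
    (fun r hr x hx => Fx_perp h (hRY hr) hx) hM
  by_cases hdd : f d d = 0
  · exact Or.inl ⟨d, hdM, hd, hdd, hdf⟩
  by_cases hM2 : h.perp (Y : Set V) ⊓ h.perp {d} = ⊥
  · right
    rw [eq_bot_iff]
    intro e he
    rw [Subgroup.mem_bot]
    apply eq_one_of_perp_fix h hY (hRY he)
    intro x hx
    have h1 : x - (f x d / f d d) • d ∈ h.perp (Y : Set V) ⊓ h.perp {d} := by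
      refine ⟨Submodule.sub_mem _ hx (Submodule.smul_mem _ _ hdM), ?_⟩
      intro y hy
      rw [Set.mem_singleton_iff] at hy
      subst hy
      rw [h.sub_left, h.smul_left]
      field_simp
      ring
    rw [hM2, Submodule.mem_bot, sub_eq_zero] at h1
    rw [h1, map_smul, hdf e he]
  obtain ⟨d', hd'M, hd', hdf'⟩ := exists_fixed_in p R hR (h.perp (Y : Set V) ⊓ h.perp {d}) (by
    intro r hr x hx
    refine ⟨Fx_perp h (hRY hr) hx.1, ?_⟩
    intro y hy
    rw [Set.mem_singleton_iff] at hy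
    subst hy
    have := G_iso r x y
    rw [hdf r hr] at this
    rw [this]
    exact hx.2 y rfl) hM2
  have hperp : f d' d = 0 := hd'M.2 d rfl
  by_cases hdd' : f d' d' = 0
  · exact Or.inl ⟨d', hd'M.1, hd', hdd', hdf'⟩
  obtain ⟨c, hc⟩ := h.norm_surj (- f d d / f d' d') (by
    rw [map_div₀, map_neg, h.self_fix, h.self_fix])
  refine Or.inl ⟨d + c • d', Submodule.add_mem _ hdM (Submodule.smul_mem _ _ hd'M.1), ?_, ?_, ?_⟩
  · intro h0
    have h6 : f (d + c • d') d = f d d := by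
      rw [h.add_left, h.smul_left, hperp]; ring
    rw [h0, h.zero_left] at h6
    exact hdd h6.symm
  · simp only [h.add_left, h.add_right, h.smul_left, h.smul_right, hperp, h.swap_zero hperp]
    have : c * (σ c * f d' d') = - f d d := by
      rw [← mul_assoc, hc]; field_simp
    rw [this]; ring
  · intro r hr
    rw [map_add, map_smul, hdf r hr, hdf' r hr]

/-- maximal `p`-subgroups of `Fx Y` -/
def MaxP (p : ℕ) (Y : Submodule K V) (R : Subgroup (SUg f)) : Prop :=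
  R ≤ Fx f Y ∧ IsPGroup p R ∧
    ∀ R' : Subgroup (SUg f), IsPGroup p R' → R' ≤ Fx f Y → R ≤ R' → R' ≤ R

omit [FiniteDimensional K V] [Finite K] [Fact p.Prime] [CharP K p] in
lemma maxP_sylow (P : Sylow p (SUg f)) : MaxP p (⊥ : Submodule K V) (P : Subgroup (SUg f)) :=
  ⟨by rw [Fx_bot]; exact le_top, P.isPGroup', fun R' hR' _ hle => (P.is_maximal' hR' hle).le⟩

include h in
omit [Finite K] [Fact p.Prime] in
lemma norm_QFx {Y : Submodule K V} {u v : V} (F : Frame f u v) (R : Subgroup (SUg f))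
    (hRY : R ≤ Fx f Y) (hfix : ∀ r ∈ R, r.1 u = u) :
    R ≤ Subgroup.normalizer ((Q f u ⊓ Fx f Y : Subgroup (SUg f)) : Set (SUg f)) := by
  have key : ∀ r ∈ R, ∀ a ∈ Q f u ⊓ Fx f Y, r * a * r⁻¹ ∈ Q f u ⊓ Fx f Y := by
    intro r hr a ha
    exact ⟨Q_conj h F (c := 1) (by rw [hfix r hr, one_smul]) a ha.1,
      (Fx f Y).mul_mem ((Fx f Y).mul_mem (hRY hr) ha.2) ((Fx f Y).inv_mem (hRY hr))⟩
  intro r hr
  rw [Subgroup.mem_normalizer_iff]
  intro a
  refine ⟨key r hr a, fun ha => ?_⟩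
  have := key r⁻¹ (R.inv_mem hr) _ ha
  have e : r⁻¹ * (r * a * r⁻¹) * r⁻¹⁻¹ = a := by group
  rwa [e] at this

include h in
omit [Finite K] [Fact p.Prime] in
lemma QFx_le {Y : Submodule K V} {R : Subgroup (SUg f)} (hR : MaxP p Y R) {u v : V}
    (F : Frame f u v) (hfix : ∀ r ∈ R, r.1 u = u) : Q f u ⊓ Fx f Y ≤ R := by
  have h1 : IsPGroup p (R ⊔ (Q f u ⊓ Fx f Y) : Subgroup (SUg f)) :=
    IsPGroup.to_sup_of_normal_right' hR.2.1 ((Q_isPGroup h p F).to_le inf_le_left)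
      (norm_QFx h F R hR.1 hfix)
  exact le_trans le_sup_right (hR.2.2 _ h1 (sup_le hR.1 inf_le_right) le_sup_left)

include h in
omit [Finite K] [Fact p.Prime] in
lemma step_factor {Y : Submodule K V} {R : Subgroup (SUg f)} (hR : MaxP p Y R) {u v : V}
    (F : Frame f u v) (hu : u ∈ h.perp (Y : Set V)) (hv : v ∈ h.perp (Y : Set V))
    (hfix : ∀ r ∈ R, r.1 u = u) (e : SUg f) (he : e ∈ R) :
    ∃ e₁ ∈ Q f u ⊓ Fx f Y, e₁⁻¹ * e ∈ R ⊓ Fx f (ext Y u v) := by
  obtain ⟨E, hE, hEv⟩ := move_in h (y := e.1 v) F hu hv (Fx_perp h (hR.1 he) hv)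
    (by rw [G_iso e, F.vv]) (by
      have := G_iso e v u
      rw [hfix e he, F.vu h] at this
      exact this)
  refine ⟨E, hE, R.mul_mem (R.inv_mem (QFx_le h p hR F hfix hE)) he, ?_⟩
  show _ ∈ Fx f (ext Y u v)
  rw [mem_Fx_ext]
  refine ⟨(Fx f Y).mul_mem ((Fx f Y).inv_mem hE.2) (hR.1 he), ?_, ?_⟩
  · rw [mul_app, hfix e he]
    exact inv_app_eq hE.1.1
  · rw [mul_app]
    exact inv_app_eq hEv

include h in
omit [Finite K] [Fact p.Prime] in
lemma step_max {Y : Submodule K V} {R : Subgroup (SUg f)} (hR : MaxP p Y R) {u v : V}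
    (F : Frame f u v) (hu : u ∈ h.perp (Y : Set V)) (hv : v ∈ h.perp (Y : Set V))
    (hfix : ∀ r ∈ R, r.1 u = u) : MaxP p (ext Y u v) (R ⊓ Fx f (ext Y u v)) := by
  refine ⟨inf_le_right, hR.2.1.to_le inf_le_left, fun R' hR' hR'Y hle => ?_⟩
  have hfix' : ∀ r ∈ R', r.1 u = u := fun r hr => ((mem_Fx_ext Y u v r).1 (hR'Y hr)).2.1
  have hR'Y' : R' ≤ Fx f Y := le_trans hR'Y (Fx_ext_le Y u v)
  have h1 : IsPGroup p (R' ⊔ (Q f u ⊓ Fx f Y) : Subgroup (SUg f)) :=
    IsPGroup.to_sup_of_normal_right' hR' ((Q_isPGroup h p F).to_le inf_le_left)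
      (norm_QFx h F R' hR'Y' hfix')
  have h2 : R ≤ R' ⊔ (Q f u ⊓ Fx f Y) := by
    intro e he
    obtain ⟨e₁, he₁, he₂⟩ := step_factor h p hR F hu hv hfix e he
    have : e = e₁ * (e₁⁻¹ * e) := by group
    rw [this]
    exact Subgroup.mul_mem _ (Subgroup.mem_sup_right he₁) (Subgroup.mem_sup_left (hle he₂))
  have h3 := hR.2.2 _ h1 (sup_le hR'Y' inf_le_right) h2
  exact le_inf (le_trans le_sup_left h3) hR'Y

include h in
/-- a maximal `p`-subgroup of `Fx Y` is generated by its intersections with the radicals `Q y` -/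
theorem gen_aux : ∀ (d : ℕ) (Y : Submodule K V), Good h Y → finrank K (h.perp (Y : Set V)) = d →
    ∀ R : Subgroup (SUg f), MaxP p Y R →
      R ≤ Subgroup.closure {x | x ∈ R ∧ ∃ y, y ≠ 0 ∧ f y y = 0 ∧ x ∈ Q f y} := by
  intro d
  induction d using Nat.strong_induction_on with
  | _ d ih =>
    intro Y hY hd R hR
    rcases fixed_cases h p hY R hR.1 hR.2.1 with ⟨u, hu, hu0, huu, hfix⟩ | hbot
    · obtain ⟨v, hv, F⟩ := exists_frame_in h hY hu hu0 huu
      intro e he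
      obtain ⟨e₁, he₁, he₂⟩ := step_factor h p hR F hu hv hfix e he
      have e0 : e = e₁ * (e₁⁻¹ * e) := by group
      rw [e0]
      apply Subgroup.mul_mem
      · exact Subgroup.subset_closure ⟨QFx_le h p hR F hfix he₁, u, hu0, huu, he₁.1⟩
      · have h1 := ih _ (by rw [← hd]; exact finrank_perp_ext_lt h Y F hu) (ext Y u v)
          (good_ext h hY F hu hv) rfl _ (step_max h p hR F hu hv hfix) he₂
        refine Subgroup.closure_mono ?_ h1
        rintro x ⟨hx1, hx2⟩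
        exact ⟨hx1.1, hx2⟩
    · rw [hbot]
      exact bot_le

include h in
theorem gen_sylow (P : Sylow p (SUg f)) :
    (P : Subgroup (SUg f)) ≤
      Subgroup.closure {x | x ∈ P ∧ ∃ y, y ≠ 0 ∧ f y y = 0 ∧ x ∈ Q f y} :=
  gen_aux h p _ ⊥ (good_bot h) rfl _ (maxP_sylow p P)

end pgroup

end Cfsg.Agent.Lib.Helper50UFx
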