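import Cfsg.Agent.Lib.Helper95CU

set_option autoImplicit false

namespace Cfsg.Agent.Lib.Helper50UGeom

open Module Cfsg.Agent.Lib.Helper95Herm Cfsg.Agent.Lib.Helper95SU Cfsg.Agent.Lib.Helper95CU

variable {K V : Type*} [Field K] [AddCommGroup V] [Module K V] {σ : K →+* K} {f : V → V → K}

/-! ### field lemmas -/

/-- additive maps commuting with multiplication by squares are linear -/
theorem lin_of_sq [Finite K] (g : K → K) (hadd : ∀ a b, g (a + b) = g a + g b)
    (hsq : ∀ a s, a ≠ 0 → g (a ^ 2 * s) = a ^ 2 * g s) : ∀ a s, g (a * s) = a * g s := by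
  have h0 : g 0 = 0 := by
    have := hadd 0 0
    simpa using this
  have hsq' : ∀ a s, g (a ^ 2 * s) = a ^ 2 * g s := by
    intro a s
    by_cases ha : a = 0
    · subst ha; simp [h0]
    · exact hsq a s ha
  intro a b
  by_cases h2 : (2 : K) = 0
  · have hc : ringChar K = 2 :=
      CharP.ringChar_of_prime_eq_zero Nat.prime_two (by exact_mod_cast h2)
    obtain ⟨c, rfl⟩ := FiniteField.isSquare_of_char_two hc a
    rw [← pow_two, hsq']
  · have e1 := hsq' (a + 1) b
    have e2 := hsq' a b
    have : (a + 1) ^ 2 * b = a ^ 2 * b + (a * b + a * b) + b := by ring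
    rw [this, hadd, hadd, hadd, e2] at e1
    have : 2 * g (a * b) = 2 * (a * g b) := by linear_combination e1
    exact mul_left_cancel₀ h2 this

/-- there is `μ` with `σ μ ^ 3 ≠ μ ^ 3` if the fixed field has more than two elements -/
theorem exists_cube_ne (hne : σ ≠ RingHom.id K) (r : K) (hr : σ r = r) (hr0 : r ≠ 0) (hr1 : r ≠ 1) :
    ∃ μ : K, μ ≠ 0 ∧ σ μ ^ 3 ≠ μ ^ 3 := by
  by_contra hcon
  push Not at hcon
  have hall : ∀ μ : K, σ μ ^ 3 = μ ^ 3 := by
    intro μ
    by_cases hμ : μ = 0
    · subst hμ; simp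
    · exact hcon μ hμ
  obtain ⟨a, ha⟩ := Cfsg.Agent.Lib.Helper17Herm.exists_ne_fix σ hne
  by_cases h3 : (3 : K) = 0
  · have : (σ a - a) ^ 3 = 0 := by
      have e := hall a
      have : (σ a - a) ^ 3 = σ a ^ 3 - a ^ 3 - 3 * (σ a * a * (σ a - a)) := by ring
      rw [this, e, h3]; ring
    have h4 := pow_eq_zero_iff (n := 3) (by norm_num) |>.1 this
    exact ha (sub_eq_zero.1 h4)
  · have key : ∀ s : K, σ s = s → s ≠ 0 → σ a + a + s = 0 := by
      intro s hs hs0
      have e := hall (a + s)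
      rw [map_add, hs] at e
      have e0 := hall a
      have : 3 * s * ((σ a - a) * (σ a + a + s)) = 0 := by linear_combination e - e0
      rcases mul_eq_zero.1 this with h5 | h5
      · exact absurd h5 (mul_ne_zero h3 hs0)
      · rcases mul_eq_zero.1 h5 with h6 | h6
        · exact absurd (sub_eq_zero.1 h6) ha
        · exact h6
    have e1 := key 1 (map_one σ) one_ne_zero
    have e2 := key r hr hr0
    apply hr1
    linear_combination e2 - e1

/-- a subset closed under `+`, `*` containing the fixed field and one more element is everything -/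
theorem eq_univ_of_fix (hinv : ∀ a, σ (σ a) = a) (S : K → Prop)
    (hadd : ∀ a b, S a → S b → S (a + b)) (hmul : ∀ a b, S a → S b → S (a * b))
    (hfix : ∀ a, σ a = a → S a) (z : K) (hz : S z) (hz' : σ z ≠ z) : ∀ a, S a := by
  intro x
  have hd : z - σ z ≠ 0 := sub_ne_zero.2 (Ne.symm hz')
  set r2 := (x - σ x) / (z - σ z) with hr2
  have h2 : σ r2 = r2 := by
    rw [hr2, map_div₀, map_sub, map_sub, hinv, hinv]
    have hd' : σ z - z ≠ 0 := sub_ne_zero.2 hz'
    field_simp
    ring
  have h1 : σ (x - r2 * z) = x - r2 * z := by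
    rw [map_sub, map_mul, h2]
    have : r2 * (z - σ z) = x - σ x := by rw [hr2]; field_simp
    linear_combination this
  have : x = (x - r2 * z) + r2 * z := by ring
  rw [this]
  exact hadd _ _ (hfix _ h1) (hmul _ _ (hfix _ h2) hz)

/-! ### frames -/

/-- hyperbolic pair -/
structure Frame (f : V → V → K) (u v : V) : Prop where
  uu : f u u = 0
  vv : f v v = 0
  uv : f u v = 1

namespace Frame

variable {u v : V}

lemma vu (h : Herm σ f) (F : Frame f u v) : f v u = 1 := by
  rw [h.herm, F.uv, map_one]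

lemma symm (h : Herm σ f) (F : Frame f u v) : Frame f v u := ⟨F.vv, F.uu, F.vu h⟩

lemma u_ne (h : Herm σ f) (F : Frame f u v) : u ≠ 0 := by
  rintro rfl
  have := F.uv
  rw [h.zero_left] at this
  exact zero_ne_one this

lemma v_ne (h : Herm σ f) (F : Frame f u v) : v ≠ 0 := (F.symm h).u_ne h

end Frame

/-- projection to the orthogonal complement of a frame -/
def pr (f : V → V → K) (u v x : V) : V := x - f x v • u - f x u • v

lemma pr_u (h : Herm σ f) {u v : V} (F : Frame f u v) (x : V) : f (pr f u v x) u = 0 := by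
  simp only [pr, h.sub_left, h.smul_left, F.uu, F.vu h]; ring

lemma pr_v (h : Herm σ f) {u v : V} (F : Frame f u v) (x : V) : f (pr f u v x) v = 0 := by
  simp only [pr, h.sub_left, h.smul_left, F.vv, F.uv]; ring

lemma decomp (u v x : V) : x = f x v • u + f x u • v + pr f u v x := by
  simp only [pr]; abel

lemma pr_of_perp {u v x : V} (hu : f x u = 0) (hv : f x v = 0) : pr f u v x = x := by
  simp [pr, hu, hv]

lemma f_pr_left (h : Herm σ f) {u v : V} (x w : V) (hu : f u w = 0) (hv : f v w = 0) :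
    f (pr f u v x) w = f x w := by
  simp only [pr, h.sub_left, h.smul_left, hu, hv]; ring

/-- the isotropic vector `v + w + c u` -/
lemma frame_shift (h : Herm σ f) {u v : V} (F : Frame f u v) (w : V) (c : K) (hu : f w u = 0)
    (hv : f w v = 0) (hc : c + σ c = - f w w) : Frame f (v + w + c • u) u := by
  have hu' := h.swap_zero hu
  have hv' := h.swap_zero hv
  refine ⟨?_, F.uu, ?_⟩
  · simp only [h.add_left, h.add_right, h.smul_left, h.smul_right, F.uu, F.vv, F.uv, F.vu h, hu, hv,
      hu', hv']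
    linear_combination hc
  · simp only [h.add_left, h.smul_left, F.uu, F.vu h, hu]; ring

lemma exists_c (h : Herm σ f) (w : V) : ∃ c, c + σ c = - f w w :=
  h.trace_surj _ (by rw [map_neg, h.self_fix])

/-- every nonzero isotropic vector is in a frame -/
lemma exists_frame (h : Herm σ f) (u : V) (hu : u ≠ 0) (huu : f u u = 0) : ∃ v, Frame f u v := by
  obtain ⟨x, hx⟩ := h.nondeg u hu
  set y := (f x u)⁻¹ • x with hy
  have hyu : f y u = 1 := by rw [hy, h.smul_left, inv_mul_cancel₀ hx]
  have huy : f u y = 1 := by rw [h.herm, hyu, map_one]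
  obtain ⟨c, hc⟩ := exists_c h y
  refine ⟨y + c • u, huu, ?_, ?_⟩
  · simp only [h.add_left, h.add_right, h.smul_left, h.smul_right, huu, hyu, huy]
    linear_combination hc
  · simp only [h.add_right, h.smul_right, huu, huy]; ring

/-- induction over sums of isotropic vectors -/
lemma iso_induction (h : Herm σ f) {y z : V} (F : Frame f y z) (P : V → Prop)
    (hadd : ∀ a b, P a → P b → P (a + b)) (hiso : ∀ a, f a a = 0 → P a) : ∀ x, P x := by
  intro x
  have hs : ∀ (c : K) (a : V), f a a = 0 → P (c • a) := by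
    intro c a ha
    apply hiso
    rw [h.smul_left, h.smul_right, ha]; ring
  obtain ⟨c, hc⟩ := exists_c h (pr f y z x)
  have F2 := frame_shift h F (pr f y z x) c (pr_u h F x) (pr_v h F x) hc
  have e : x = (f x z • y + f x y • z) + ((z + pr f y z x + c • y) + ((-1 : K) • z + (-c) • y)) := by
    conv_lhs => rw [decomp (f := f) y z x]
    module
  rw [e]
  exact hadd _ _ (hadd _ _ (hs _ _ F.uu) (hs _ _ F.vv))
    (hadd _ _ (hiso _ F2.uu) (hadd _ _ (hs _ _ F.vv) (hs _ _ F.uu)))

/-- irreducibility under unitary transvections -/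
lemma irred (h : Herm σ f) {y z : V} (F : Frame f y z) (M : Submodule K V)
    (hM : ∀ (y' : V) (a : K) (x : V), f y' y' = 0 → a + σ a = 0 → x ∈ M → x + (a * f x y') • y' ∈ M)
    (x0 : V) (hx0 : x0 ∈ M) (hne : x0 ≠ 0) : M = ⊤ := by
  obtain ⟨a0, ha0, ha0'⟩ := h.exists_z
  have key : ∀ x y' : V, x ∈ M → f y' y' = 0 → f x y' ≠ 0 → y' ∈ M := by
    intro x y' hx hy' hxy
    have h1 := M.sub_mem (hM y' a0 x hy' ha0' hx) hx
    rw [add_sub_cancel_left] at h1
    have h2 := M.smul_mem (a0 * f x y')⁻¹ h1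
    rwa [smul_smul, inv_mul_cancel₀ (mul_ne_zero ha0 hxy), one_smul] at h2
  have hyz : y ∈ M ∧ z ∈ M := by
    have hy_to : y ∈ M → z ∈ M := fun hy => key y z hy F.vv (by rw [F.uv]; exact one_ne_zero)
    have hz_to : z ∈ M → y ∈ M := fun hz => key z y hz F.uu (by rw [F.vu h]; exact one_ne_zero)
    by_cases h1 : f x0 y = 0
    · by_cases h2 : f x0 z = 0
      · obtain ⟨x1, hx1⟩ := h.nondeg x0 hne
        obtain ⟨c, hc⟩ := exists_c h (pr f y z x1)
        have F2 := frame_shift h F (pr f y z x1) c (pr_u h F x1) (pr_v h F x1) hc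
        have h3 : f (pr f y z x1) x0 = f x1 x0 :=
          f_pr_left h x1 x0 (h.swap_zero h1) (h.swap_zero h2)
        have h4 : f x0 (z + pr f y z x1 + c • y) ≠ 0 := by
          rw [h.add_right, h.add_right, h.smul_right, h1, h2]
          simp only [zero_add, mul_zero, add_zero]
          apply h.swap_ne
          rw [h3]; exact hx1
        have h5 := key x0 _ hx0 F2.uu h4
        have h6 := key _ y h5 F.uu (by rw [F2.uv]; exact one_ne_zero)
        exact ⟨h6, hy_to h6⟩
      · have := key x0 z hx0 F.vv h2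
        exact ⟨hz_to this, this⟩
    · have := key x0 y hx0 F.uu h1
      exact ⟨this, hy_to this⟩
  rw [eq_top_iff]
  intro x _
  obtain ⟨c, hc⟩ := exists_c h (pr f y z x)
  have F2 := frame_shift h F (pr f y z x) c (pr_u h F x) (pr_v h F x) hc
  have h5 := key y _ hyz.1 F2.uu (by rw [(F2.symm h).uv]; exact one_ne_zero)
  have e : x = (f x z • y + f x y • z) + ((z + pr f y z x + c • y) + ((-1 : K) • z + (-c) • y)) := by
    conv_lhs => rw [decomp (f := f) y z x]
    module
  rw [e]
  exact M.add_mem (M.add_mem (M.smul_mem _ hyz.1) (M.smul_mem _ hyz.2))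
    (M.add_mem h5 (M.add_mem (M.smul_mem _ hyz.2) (M.smul_mem _ hyz.1)))

/-- an anisotropic space over a finite field is at most one-dimensional -/
lemma aniso_line [Finite K] (h : Herm σ f) (han : ∀ x, f x x = 0 → x = 0) (d : V) (hd : d ≠ 0)
    (x : V) : ∃ c : K, x = c • d := by
  have hdd : f d d ≠ 0 := fun h0 => hd (han d h0)
  set x' := x - (f x d / f d d) • d with hx'
  have h1 : f x' d = 0 := by
    rw [hx', h.sub_left, h.smul_left]; field_simp; ring
  by_cases h2 : x' = 0
  · exact ⟨f x d / f d d, by rw [hx'] at h2; exact sub_eq_zero.1 h2⟩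
  · exfalso
    have h3 : f x' x' ≠ 0 := fun h0 => h2 (han x' h0)
    obtain ⟨c, hc⟩ := h.norm_surj (- f d d / f x' x') (by
      rw [map_div₀, map_neg, h.self_fix, h.self_fix])
    have h4 : f (d + c • x') (d + c • x') = 0 := by
      simp only [h.add_left, h.add_right, h.smul_left, h.smul_right, h1, h.swap_zero h1]
      have : c * (σ c * f x' x') = - f d d := by
        rw [← mul_assoc, hc]; field_simp
      rw [this]; ring
    have h5 := han _ h4
    have h6 : f (d + c • x') d = f d d := by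
      rw [h.add_left, h.smul_left, h1]; ring
    rw [h5, h.zero_left] at h6
    exact hdd h6.symm

/-- isotropic vectors exist in dimension at least two -/
lemma exists_iso_of_indep [Finite K] (h : Herm σ f) (d x : V) (hd : d ≠ 0) (hx : ∀ c : K, x ≠ c • d) :
    ∃ y, y ≠ 0 ∧ f y y = 0 := by
  by_contra hcon
  push Not at hcon
  obtain ⟨c, hc⟩ := aniso_line h (fun y hy => by
    by_contra hy0
    exact hcon y hy0 hy) d hd x
  exact hx c hc


/-! ### commutant lemmas -/

/-- the map induced on the complement by a torus element -/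
def Dmap (σ : K →+* K) (f : V → V → K) (y z : V) (l : K) (x : V) : V :=
  σ l • x + ((σ l / l - σ l) * f x z) • y + ((σ l ^ 2 - σ l) * f x y) • z

lemma Dmap_right (h : Herm σ f) {y z : V} (F : Frame f y z) (l s : K) :
    Dmap σ f y z l (s • z) = (σ l ^ 2 * s) • z := by
  simp only [Dmap, h.smul_left, F.vv, F.vu h]
  module

lemma Dmap_left (h : Herm σ f) {y z : V} (F : Frame f y z) (l s : K) :
    Dmap σ f y z l (s • y) = (σ l / l * s) • y := by
  simp only [Dmap, h.smul_left, F.uu, F.uv]
  module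

lemma Dmap_perp {y z x : V} (l : K) (hy : f x y = 0) (hz : f x z = 0) :
    Dmap σ f y z l x = σ l • x := by
  simp [Dmap, hy, hz]

section commutant

variable [Finite K] (h : Herm σ f) (φ : V → V) (hadd : ∀ a b, φ (a + b) = φ a + φ b)
  (h1 : ∀ (y' : V) (a : K) (x : V), f y' y' = 0 → a + σ a = 0 →
    φ (x + (a * f x y') • y') = φ x + (a * f (φ x) y') • y')
  (h2 : ∀ (y' z' : V) (l : K) (x : V), Frame f y' z' → l ≠ 0 →
    φ (Dmap σ f y' z' l x) = Dmap σ f y' z' l (φ x))

include h hadd h1 h2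

lemma commutant_aux {y z : V} (F : Frame f y z) : ∃ c : K, ∀ s : K, φ (s • y) = (s * c) • y := by
  obtain ⟨a0, ha0, ha0'⟩ := h.exists_z
  have hA : ∀ s : K, φ (s • y) = f (φ (s • y)) z • y := by
    intro s
    have e := h1 y a0 ((s / a0) • z) F.uu ha0'
    rw [hadd, h.smul_left, F.vu h] at e
    have e2 : a0 * (s / a0 * 1) = s := by field_simp
    rw [e2] at e
    have e3 := add_left_cancel e
    rw [e3, h.smul_left, F.uv, mul_one]
  have hg := lin_of_sq (fun s => f (φ (s • y)) z) (by
    intro a b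
    simp only [add_smul, hadd, h.add_left]) (by
    intro a s ha
    have hl : σ a ≠ 0 := by
      intro h0
      apply ha
      rw [← h.invol a, h0, map_zero]
    have e := h2 z y (σ a) (s • y) (F.symm h) hl
    rw [Dmap_right h (F.symm h), h.invol, hA s, Dmap_right h (F.symm h), h.invol] at e
    rw [e, h.smul_left, F.uv, mul_one])
  refine ⟨f (φ ((1 : K) • y)) z, fun s => ?_⟩
  have := hg s 1
  simp only [mul_one] at this
  rw [hA s, this]

lemma commutant_frame {y z : V} (F : Frame f y z) :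
    ∃ c : K, (∀ s : K, φ (s • y) = (s * c) • y) ∧ ∀ s : K, φ (s • z) = (s * c) • z := by
  obtain ⟨a0, ha0, ha0'⟩ := h.exists_z
  obtain ⟨c, hc⟩ := commutant_aux h φ hadd h1 h2 F
  obtain ⟨c', hc'⟩ := commutant_aux h φ hadd h1 h2 (F.symm h)
  have e := h1 y a0 z F.uu ha0'
  have ez : φ z = c' • z := by
    have := hc' 1
    rwa [one_smul, one_mul] at this
  rw [hadd, F.vu h, mul_one, hc a0, ez, h.smul_left, F.vu h, mul_one] at e
  have e3 := add_left_cancel e
  have e4 := congrArg (fun x => f x z) e3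
  simp only [h.smul_left, F.uv, mul_one] at e4
  have : c = c' := mul_left_cancel₀ ha0 e4
  subst this
  exact ⟨c, hc, hc'⟩

theorem commutant {y z : V} (F : Frame f y z) : ∃ c : K, ∀ x, φ x = c • x := by
  obtain ⟨c, hc, hc'⟩ := commutant_frame h φ hadd h1 h2 F
  refine ⟨c, fun x => ?_⟩
  obtain ⟨d, hd⟩ := exists_c h (pr f y z x)
  have F2 := frame_shift h F (pr f y z x) d (pr_u h F x) (pr_v h F x) hd
  obtain ⟨c2, hc2, hc2'⟩ := commutant_frame h φ hadd h1 h2 F2
  have e1 : c2 = c := by
    have e := (hc2' 1).symm.trans (hc 1)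
    have e4 := congrArg (fun x => f x z) e
    simpa [h.smul_left, F.uv] using e4
  subst e1
  have e2 := hc2 1
  rw [one_smul, one_mul, hadd, hadd, hc d] at e2
  have e3 := hc' 1
  rw [one_smul, one_mul] at e3
  rw [e3] at e2
  have e5 : φ (pr f y z x) = c2 • pr f y z x := by
    have : c2 • z + φ (pr f y z x) + (d * c2) • y = c2 • z + c2 • pr f y z x + (d * c2) • y := by
      rw [e2]; module
    exact add_left_cancel (add_right_cancel this)
  conv_lhs => rw [decomp (f := f) y z x]
  rw [hadd, hadd, hc, hc', e5]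
  conv_rhs => rw [decomp (f := f) y z x]
  module

end commutant

theorem commutant_line [Finite K] (h : Herm σ f) (han : ∀ x, f x x = 0 → x = 0) (r : K)
    (hr : σ r = r) (hr0 : r ≠ 0) (hr1 : r ≠ 1) (φ : V → V)
    (hadd : ∀ a b, φ (a + b) = φ a + φ b)
    (h2 : ∀ (l : K) (x : V), l ≠ 0 → φ ((σ l ^ 2 / l) • x) = (σ l ^ 2 / l) • φ x) :
    ∃ c : K, ∀ x, φ x = c • x := by
  have h0 : φ 0 = 0 := by
    have := hadd 0 0
    simpa using this
  obtain ⟨μ, hμ0, hμ⟩ := exists_cube_ne h.ne_id r hr hr0 hr1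
  have hσμ : σ μ ≠ 0 := by
    intro h0
    apply hμ0
    rw [← h.invol μ, h0, map_zero]
  have hS : ∀ t : K, ∀ x, φ (t • x) = t • φ x := by
    apply eq_univ_of_fix h.invol (fun t => ∀ x, φ (t • x) = t • φ x)
    · intro a b ha hb x
      rw [add_smul, hadd, ha, hb, add_smul]
    · intro a b ha hb x
      rw [mul_smul, ha, hb, mul_smul]
    · intro a ha x
      by_cases ha0 : a = 0
      · subst ha0; simp [h0]
      · have := h2 a x ha0
        rw [ha] at this
        have e : a ^ 2 / a = a := by field_simp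
        rwa [e] at this
    · exact fun x => h2 μ x hμ0
    · rw [map_div₀, map_pow, h.invol]
      intro e
      apply hμ
      field_simp at e
      linear_combination -e
  by_cases hV : ∀ x : V, x = 0
  · exact ⟨0, fun x => by rw [hV x, h0, smul_zero]⟩
  · push Not at hV
    obtain ⟨d, hd⟩ := hV
    obtain ⟨c, hc⟩ := aniso_line h han d hd (φ d)
    refine ⟨c, fun x => ?_⟩
    obtain ⟨t, rfl⟩ := aniso_line h han d hd x
    rw [hS, hc, smul_smul, smul_smul, mul_comm]

theorem zeta_iso (h : Herm σ f) {y z : V} (F : Frame f y z) {A : Type*} [AddCommGroup A]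
    (ζ : V → A) (hadd : ∀ a b, ζ (a + b) = ζ a + ζ b)
    (h1 : ∀ (y' : V) (a : K) (x : V), f y' y' = 0 → a + σ a = 0 → ζ (x + (a * f x y') • y') = ζ x) :
    ∀ x, ζ x = 0 := by
  have h0 : ζ 0 = 0 := by
    have := hadd 0 0
    simpa using this
  obtain ⟨a0, ha0, ha0'⟩ := h.exists_z
  apply iso_induction h F
  · intro a b ha hb
    rw [hadd, ha, hb, add_zero]
  · intro a ha
    by_cases ha1 : a = 0
    · rw [ha1, h0]
    · obtain ⟨b, Fb⟩ := exists_frame h a ha1 ha
      have e := h1 a a0 (a0⁻¹ • b) ha ha0'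
      rw [hadd, h.smul_left, Fb.vu h, mul_one, mul_inv_cancel₀ ha0, one_smul] at e
      simpa using e

theorem zeta_line (h : Herm σ f) (r : K) (hr : σ r = r) (hr0 : r ≠ 0) (hr1 : r ≠ 1)
    {A : Type*} [AddCommGroup A] (ζ : V → A) (hadd : ∀ a b, ζ (a + b) = ζ a + ζ b)
    (h2 : ∀ (l : K) (x : V), l * σ l = 1 → ζ ((σ l ^ 2 / l) • x) = ζ x) : ∀ x, ζ x = 0 := by
  have h0 : ζ 0 = 0 := by
    have := hadd 0 0
    simpa using this
  have hneg : ∀ a, ζ (-a) = - ζ a := by
    intro a
    have := hadd a (-a)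
    rw [add_neg_cancel, h0] at this
    exact (neg_eq_of_add_eq_zero_right this.symm).symm
  obtain ⟨μ, hμ0, hμ⟩ := exists_cube_ne h.ne_id r hr hr0 hr1
  have hσμ : σ μ ≠ 0 := by
    intro h0
    apply hμ0
    rw [← h.invol μ, h0, map_zero]
  set l := σ μ / μ with hl
  have hσl : σ l = μ / σ μ := by rw [hl, map_div₀, h.invol]
  have hN : l * σ l = 1 := by rw [hσl, hl]; field_simp
  set t := σ l ^ 2 / l with ht
  have ht1 : t - 1 ≠ 0 := by
    intro e
    apply hμ
    rw [ht, hσl, hl] at e
    field_simp at e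
    linear_combination -e
  intro x
  have e := h2 l ((t - 1)⁻¹ • x) hN
  have e2 : x = t • ((t - 1)⁻¹ • x) + - ((t - 1)⁻¹ • x) := by
    have e3 : x = (t - 1) • ((t - 1)⁻¹ • x) := by
      rw [smul_smul, mul_inv_cancel₀ ht1, one_smul]
    conv_lhs => rw [e3]
    module
  rw [e2, hadd, hneg, e, add_neg_cancel]

/-! ### the complement of a frame -/

/-- the orthogonal complement of `u, v` -/
def Wsp (h : Herm σ f) (u v : V) : Submodule K V := h.perp {u, v}

lemma mem_Wsp (h : Herm σ f) (u v x : V) : x ∈ Wsp h u v ↔ f x u = 0 ∧ f x v = 0 := by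
  simp [Wsp, Herm.mem_perp]

lemma pr_mem (h : Herm σ f) {u v : V} (F : Frame f u v) (x : V) : pr f u v x ∈ Wsp h u v :=
  (mem_Wsp h u v _).2 ⟨pr_u h F x, pr_v h F x⟩

theorem herm_W (h : Herm σ f) {u v : V} (F : Frame f u v) :
    Herm σ (fun x y : Wsp h u v => f x.1 y.1) where
  ne_id := h.ne_id
  invol := h.invol
  add_left x y v := h.add_left _ _ _
  smul_left c x v := h.smul_left _ _ _
  herm v w := h.herm _ _
  nondeg w hw := by
    obtain ⟨x, hx⟩ := h.nondeg w.1 (fun h0 => hw (Subtype.ext h0))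
    have hw' := (mem_Wsp h u v _).1 w.2
    refine ⟨⟨pr f u v x, pr_mem h F x⟩, ?_⟩
    show f (pr f u v x) w.1 ≠ 0
    rw [f_pr_left h x w.1 (h.swap_zero hw'.1) (h.swap_zero hw'.2)]
    exact hx

end Cfsg.Agent.Lib.Helper50UGeom
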