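import Cfsg.Agent.Lib.Helper50UGeom

set_option autoImplicit false

namespace Cfsg.Agent.Lib.Helper50UGrp

open Module Cfsg.Agent.Lib.Helper95Herm Cfsg.Agent.Lib.Helper95SU Cfsg.Agent.Lib.Helper95CU
  Cfsg.Agent.Lib.Helper50UGeom

variable {K V : Type*} [Field K] [AddCommGroup V] [Module K V] {σ : K →+* K} {f : V → V → K}

/-- isometries -/
def Ug (f : V → V → K) : Subgroup (V ≃ₗ[K] V) where
  carrier := {e | ∀ x y, f (e x) (e y) = f x y}
  mul_mem' {a b} ha hb x y := by
    rw [LinearEquiv.mul_apply, LinearEquiv.mul_apply, ha, hb]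
  one_mem' x y := rfl
  inv_mem' {a} ha x y := by
    have := ha (a⁻¹ x) (a⁻¹ y)
    have e1 : ∀ z, a (a⁻¹ z) = z := fun z => a.apply_symm_apply z
    rw [e1, e1] at this
    exact this.symm

/-- the special unitary group, as a group of linear equivalences -/
noncomputable def SUg (f : V → V → K) : Subgroup (V ≃ₗ[K] V) :=
  Ug f ⊓ (LinearEquiv.det : (V ≃ₗ[K] V) →* Kˣ).ker

lemma mem_SUg (e : V ≃ₗ[K] V) : e ∈ SUg f ↔
    (∀ x y, f (e x) (e y) = f x y) ∧ LinearMap.det (e : V →ₗ[K] V) = 1 := by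
  rw [SUg, Subgroup.mem_inf, MonoidHom.mem_ker, Units.ext_iff, LinearEquiv.coe_det]
  rfl

lemma G_ext {e e' : SUg f} (h : ∀ x, e.1 x = e'.1 x) : e = e' :=
  Subtype.ext (LinearEquiv.ext h)

lemma G_iso (e : SUg f) (x y : V) : f (e.1 x) (e.1 y) = f x y := ((mem_SUg e.1).1 e.2).1 x y

lemma G_det (e : SUg f) : LinearMap.det (e.1 : V →ₗ[K] V) = 1 := ((mem_SUg e.1).1 e.2).2

@[simp] lemma mul_app (e e' : SUg f) (x : V) : (e * e').1 x = e.1 (e'.1 x) := rfl

@[simp] lemma one_app (x : V) : (1 : SUg f).1 x = x := rfl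

@[simp] lemma inv_app_app (e : SUg f) (x : V) : (e⁻¹).1 (e.1 x) = x := e.1.symm_apply_apply x

@[simp] lemma app_inv_app (e : SUg f) (x : V) : e.1 ((e⁻¹).1 x) = x := e.1.apply_symm_apply x

lemma G_iso_inv (e : SUg f) (x y : V) : f ((e⁻¹).1 x) y = f x (e.1 y) := by
  rw [← G_iso e, app_inv_app]

lemma G_iso_inv' (e : SUg f) (x y : V) : f x ((e⁻¹).1 y) = f (e.1 x) y := by
  rw [← G_iso e, app_inv_app]

lemma inv_app_eq {e : SUg f} {x y : V} (h : e.1 y = x) : (e⁻¹).1 x = y := by
  rw [← h, inv_app_app]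

/-! ### transvections -/

open Classical in
/-- unitary transvection as an element of `SUg` (trivial for bad parameters) -/
noncomputable def tv [FiniteDimensional K V] (h : Herm σ f) (y : V) (a : K) : SUg f :=
  if hy : f y y = 0 ∧ a + σ a = 0 then
    ⟨h.utv y a hy.1, (mem_SUg _).2 ⟨h.utv_isometry y a hy.1 hy.2, h.utv_det y a hy.1⟩⟩
  else 1

open Classical in
/-- Siegel element -/
noncomputable def sg [FiniteDimensional K V] (h : Herm σ f) (u w : V) (c : K) : SUg f :=
  if hy : f u u = 0 ∧ f w u = 0 ∧ c + σ c = - f w w then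
    ⟨sieg h u w c hy.1 hy.2.1,
      (mem_SUg _).2 ⟨sieg_isometry h u w c hy.1 hy.2.1 hy.2.2, sieg_det h u w c hy.1 hy.2.1⟩⟩
  else 1

variable [FiniteDimensional K V] (h : Herm σ f)

lemma tv_apply {y : V} {a : K} (hy : f y y = 0) (ha : a + σ a = 0) (x : V) :
    (tv h y a).1 x = x + (a * f x y) • y := by
  rw [tv, dif_pos ⟨hy, ha⟩]
  exact h.utv_apply y a hy x

lemma sg_apply {u w : V} {c : K} (hu : f u u = 0) (hw : f w u = 0) (hc : c + σ c = - f w w)
    (x : V) : (sg h u w c).1 x = x + f x u • w - f x w • u + (c * f x u) • u := by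
  rw [sg, dif_pos ⟨hu, hw, hc⟩]
  exact sieg_apply h u w c hu hw x

lemma conj_tv (g : SUg f) {y : V} {a : K} (hy : f y y = 0) (ha : a + σ a = 0) :
    g * tv h y a * g⁻¹ = tv h (g.1 y) a := by
  apply G_ext
  intro x
  rw [mul_app, mul_app, tv_apply h hy ha, tv_apply h (by rw [G_iso g]; exact hy) ha, map_add,
    map_smul, app_inv_app, G_iso_inv g]

lemma conj_sg (g : SUg f) {u w : V} {c : K} (hu : f u u = 0) (hw : f w u = 0)
    (hc : c + σ c = - f w w) : g * sg h u w c * g⁻¹ = sg h (g.1 u) (g.1 w) c := by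
  apply G_ext
  intro x
  rw [mul_app, mul_app, sg_apply h hu hw hc, sg_apply h (by rw [G_iso g]; exact hu)
    (by rw [G_iso g]; exact hw) (by rw [G_iso g]; exact hc)]
  simp only [map_add, map_sub, map_smul, app_inv_app, G_iso_inv g]

lemma tv_mul {y : V} {a b : K} (hy : f y y = 0) (ha : a + σ a = 0) (hb : b + σ b = 0) :
    tv h y a * tv h y b = tv h y (a + b) := by
  apply G_ext
  intro x
  rw [mul_app, tv_apply h hy hb, tv_apply h hy ha, tv_apply h hy (by
    rw [map_add]; linear_combination ha + hb), h.add_left, h.smul_left, hy]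
  module

lemma tv_zero (y : V) : tv h y 0 = 1 := by
  by_cases hy : f y y = 0
  · apply G_ext
    intro x
    rw [tv_apply h hy (by simp)]
    simp
  · rw [tv, dif_neg (fun hh => hy hh.1)]

lemma tv_inv {y : V} {a : K} (hy : f y y = 0) (ha : a + σ a = 0) :
    (tv h y a)⁻¹ = tv h y (-a) := by
  rw [inv_eq_iff_mul_eq_one, tv_mul h hy ha (by rw [map_neg]; linear_combination -ha),
    add_neg_cancel, tv_zero]

lemma tv_smul {y : V} {a : K} (c : K) (hy : f y y = 0) (ha : a + σ a = 0) :
    tv h (c • y) a = tv h y (a * (c * σ c)) := by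
  apply G_ext
  intro x
  rw [tv_apply h (by rw [h.smul_left, h.smul_right, hy]; ring) ha, tv_apply h hy (by
    rw [map_mul, map_mul, h.invol]; linear_combination (c * σ c) * ha), h.smul_right, smul_smul]
  congr 1
  ring

lemma tv_pow {y : V} {a : K} (hy : f y y = 0) (ha : a + σ a = 0) (k : ℕ) :
    (tv h y a) ^ k = tv h y (k * a) := by
  induction k with
  | zero => simp [tv_zero]
  | succ k ih =>
    rw [pow_succ, ih, tv_mul h hy (by rw [map_mul, map_natCast]; linear_combination (k : K) * ha) ha]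
    congr 1
    push_cast
    ring

lemma sg_zero {u : V} {a : K} (hu : f u u = 0) (ha : a + σ a = 0) : sg h u 0 a = tv h u a := by
  apply G_ext
  intro x
  rw [sg_apply h hu (h.zero_left u) (by rw [h.zero_left]; linear_combination ha), tv_apply h hu ha,
    h.zero_right]
  simp

lemma sg_mul {u w w' : V} {c c' : K} (hu : f u u = 0) (hw : f w u = 0) (hc : c + σ c = - f w w)
    (hw' : f w' u = 0) (hc' : c' + σ c' = - f w' w') :
    sg h u w c * sg h u w' c' = sg h u (w + w') (c + c' - f w' w) := by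
  apply G_ext
  intro x
  rw [mul_app, sg_apply h hu hw' hc', sg_apply h hu hw hc, sg_apply h hu
    (by rw [h.add_left, hw, hw', add_zero]) (by
      rw [map_sub, map_add, ← h.herm w w', h.add_left, h.add_right, h.add_right]
      linear_combination hc + hc')]
  simp only [h.add_left, h.sub_left, h.smul_left, h.add_right, hu, hw', h.swap_zero hw]
  module

omit [FiniteDimensional K V] in
include h in
lemma sg_valid_mul {w w' : V} {c c' : K} (hc : c + σ c = - f w w)
    (hc' : c' + σ c' = - f w' w') :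
    (c + c' - f w' w) + σ (c + c' - f w' w) = - f (w + w') (w + w') := by
  rw [map_sub, map_add, ← h.herm w w', h.add_left, h.add_right, h.add_right]
  linear_combination hc + hc'


/-! ### general constructor, torus elements, scalars -/

omit h in
/-- element of `SUg` from a linear map -/
noncomputable def mkE (A : V →ₗ[K] V) (hiso : ∀ x y, f (A x) (A y) = f x y)
    (hdet : LinearMap.det A = 1) : SUg f :=
  ⟨LinearMap.equivOfDetNeZero A (by rw [hdet]; exact one_ne_zero), (mem_SUg _).2 ⟨hiso, hdet⟩⟩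

omit h in
@[simp] lemma mkE_apply (A : V →ₗ[K] V) (hiso : ∀ x y, f (A x) (A y) = f x y)
    (hdet : LinearMap.det A = 1) (x : V) : (mkE A hiso hdet).1 x = A x := rfl

omit [FiniteDimensional K V] in
/-- hyperbolic rotation -/
noncomputable def dd (u v : V) (l : K) : V →ₗ[K] V :=
  LinearMap.transvection ((l - 1) • h.fl v) u ∘ₗ LinearMap.transvection (((σ l)⁻¹ - 1) • h.fl u) v

omit [FiniteDimensional K V] in
lemma dd_apply {u v : V} (F : Frame f u v) (l : K) (x : V) :
    dd h u v l x = x + (((σ l)⁻¹ - 1) * f x u) • v + ((l - 1) * f x v) • u := by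
  simp only [dd, LinearMap.comp_apply, LinearMap.transvection.apply, LinearMap.smul_apply,
    Herm.fl_apply, smul_eq_mul, h.add_left, h.smul_left, F.vv, mul_zero, add_zero]

omit [FiniteDimensional K V] in
lemma dd_iso {u v : V} (F : Frame f u v) {l : K} (hl : l ≠ 0) (x y : V) :
    f (dd h u v l x) (dd h u v l y) = f x y := by
  have hl' : σ l ≠ 0 := by
    intro h0
    apply hl
    rw [← h.invol l, h0, map_zero]
  simp only [dd_apply h F, h.add_left, h.add_right, h.smul_left, h.smul_right, F.uu, F.vv, F.uv,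
    F.vu h, map_mul, map_sub, map_inv₀, map_one, h.invol, ← h.herm u y, ← h.herm v y]
  field_simp
  ring

lemma dd_det {u v : V} (F : Frame f u v) (l : K) :
    LinearMap.det (dd h u v l) = l * (σ l)⁻¹ := by
  rw [dd, LinearMap.det_comp, LinearMap.transvection.det, LinearMap.transvection.det]
  simp [F.uv, F.vu h]

omit [FiniteDimensional K V] in
lemma dd_u {u v : V} (F : Frame f u v) (l : K) : dd h u v l u = l • u := by
  rw [dd_apply h F, F.uu, F.uv]; module

omit [FiniteDimensional K V] in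
lemma dd_v {u v : V} (F : Frame f u v) (l : K) : dd h u v l v = (σ l)⁻¹ • v := by
  rw [dd_apply h F, F.vv, F.vu h]; module

omit [FiniteDimensional K V] in
lemma dd_perp {u v : V} (F : Frame f u v) (l : K) {x : V} (hu : f x u = 0) (hv : f x v = 0) :
    dd h u v l x = x := by
  rw [dd_apply h F, hu, hv]; simp

/-- Levi element: rotation on the frame, `B` on the complement -/
noncomputable def tor {u v : V} (F : Frame f u v) {l : K} (hl : l ≠ 0) (B : V →ₗ[K] V)
    (hB : ∀ x y, f (B x) (B y) = f x y) (hdet : LinearMap.det B = σ l / l) : SUg f :=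
  mkE (dd h u v l ∘ₗ B) (fun x y => by
    rw [LinearMap.comp_apply, LinearMap.comp_apply, dd_iso h F hl, hB]) (by
    have hl' : σ l ≠ 0 := by
      intro h0
      apply hl
      rw [← h.invol l, h0, map_zero]
    rw [LinearMap.det_comp, dd_det h F, hdet]
    field_simp)

lemma tor_apply {u v : V} (F : Frame f u v) {l : K} (hl : l ≠ 0) (B : V →ₗ[K] V)
    (hB : ∀ x y, f (B x) (B y) = f x y) (hdet : LinearMap.det B = σ l / l) (x : V) :
    (tor h F hl B hB hdet).1 x = dd h u v l (B x) := rfl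

include h in
/-- scalar element -/
lemma exists_scalar (ξ : K) (hN : ξ * σ ξ = 1) (hn : ξ ^ finrank K V = 1) :
    ∃ z : SUg f, ∀ x, z.1 x = ξ • x := by
  refine ⟨mkE (ξ • LinearMap.id) (fun x y => ?_) ?_, fun x => rfl⟩
  · simp only [LinearMap.smul_apply, LinearMap.id_apply, h.smul_left, h.smul_right]
    rw [← mul_assoc, hN, one_mul]
  · rw [LinearMap.det_smul, hn, LinearMap.det_id, one_mul]

/-! ### the centre -/

omit [FiniteDimensional K V] h in
lemma mem_center_of_scalar (z : SUg f) (ξ : K) (hz : ∀ x, z.1 x = ξ • x) :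
    z ∈ Subgroup.center (SUg f) := by
  rw [Subgroup.mem_center_iff]
  intro g
  apply G_ext
  intro x
  rw [mul_app, mul_app, hz, hz, map_smul]

include h in
lemma center_line (z : SUg f) (hz : z ∈ Subgroup.center (SUg f)) {y b : V} (F : Frame f y b) :
    ∃ c : K, z.1 y = c • y := by
  obtain ⟨a0, ha0, ha0'⟩ := h.exists_z
  have e1 := conj_tv h z F.uu ha0'
  have e2 : z * tv h y a0 * z⁻¹ = tv h y a0 := by
    rw [← Subgroup.mem_center_iff.1 hz, mul_assoc, mul_inv_cancel, mul_one]
  rw [e2] at e1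
  have e3 := congrArg (fun e : SUg f => e.1 b) e1
  rw [tv_apply h F.uu ha0', tv_apply h (by rw [G_iso z]; exact F.uu) ha0', F.vu h, mul_one] at e3
  have e4 := add_left_cancel e3
  have hne : f b (z.1 y) ≠ 0 := by
    intro h0
    rw [h0, mul_zero, zero_smul] at e4
    exact (smul_ne_zero ha0 (F.u_ne h)) e4
  have e5 := congrArg (fun x => (a0 * f b (z.1 y))⁻¹ • x) e4
  simp only [smul_smul] at e5
  rw [inv_mul_cancel₀ (mul_ne_zero ha0 hne), one_smul] at e5
  exact ⟨_, e5.symm⟩

include h in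
lemma center_frame (z : SUg f) (hz : z ∈ Subgroup.center (SUg f)) {y b : V} (F : Frame f y b) :
    ∃ c : K, z.1 y = c • y ∧ z.1 b = c • b := by
  obtain ⟨a0, ha0, ha0'⟩ := h.exists_z
  obtain ⟨c, hc⟩ := center_line h z hz F
  obtain ⟨c', hc'⟩ := center_line h z hz (F.symm h)
  have F2 := frame_shift h F 0 a0 (h.zero_left _) (h.zero_left _) (by
    rw [h.zero_left]; linear_combination ha0')
  obtain ⟨c2, hc2⟩ := center_line h z hz F2
  rw [add_zero, map_add, map_smul, hc, hc'] at hc2
  have e1 := congrArg (fun x => f x y) hc2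
  have e2 := congrArg (fun x => f x b) hc2
  simp only [h.add_left, h.smul_left, F.uu, F.vv, F.uv, F.vu h] at e1 e2
  have e3 : c' = c2 := by linear_combination e1
  have e4 : a0 * c = a0 * c2 := by linear_combination e2
  have e5 := mul_left_cancel₀ ha0 e4
  exact ⟨c, hc, by rw [hc', e3, e5]⟩

include h in
theorem center_scalar {u v : V} (F : Frame f u v) (z : SUg f)
    (hz : z ∈ Subgroup.center (SUg f)) : ∃ ξ : K, ∀ x, z.1 x = ξ • x := by
  obtain ⟨ξ, h1, h2⟩ := center_frame h z hz F
  refine ⟨ξ, fun x => ?_⟩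
  obtain ⟨c, hc⟩ := exists_c h (pr f u v x)
  have F2 := frame_shift h F (pr f u v x) c (pr_u h F x) (pr_v h F x) hc
  obtain ⟨ξ', h3, h4⟩ := center_frame h z hz F2
  have e : ξ' = ξ := by
    have e1 := h4.symm.trans h1
    have e2 := congrArg (fun x => f x v) e1
    simpa [h.smul_left, F.uv] using e2
  subst e
  rw [map_add, map_add, map_smul, h1, h2] at h3
  have e5 : z.1 (pr f u v x) = ξ' • pr f u v x := by
    have : ξ' • v + z.1 (pr f u v x) + c • ξ' • u = ξ' • v + ξ' • pr f u v x + c • ξ' • u := by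
      rw [h3]; module
    exact add_left_cancel (add_right_cancel this)
  conv_lhs => rw [decomp (f := f) u v x]
  rw [map_add, map_add, map_smul, map_smul, h1, h2, e5]
  conv_rhs => rw [decomp (f := f) u v x]
  module

local notation "mk" => (QuotientGroup.mk : SUg f → SUg f ⧸ Subgroup.center (SUg f))

include h in
theorem scalar_of_mk_eq {u v : V} (F : Frame f u v) {e e' : SUg f} (hmk : mk e = mk e') :
    ∃ ξ : K, ∀ x, e'.1 x = ξ • e.1 x := by
  obtain ⟨ξ, hξ⟩ := center_scalar h F _ (QuotientGroup.eq.1 hmk)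
  refine ⟨ξ, fun x => ?_⟩
  have := hξ x
  rw [mul_app] at this
  have e2 := congrArg (fun y => e.1 y) this
  simpa using e2

omit [FiniteDimensional K V] h in
theorem mk_eq_of_scalar {e e' : SUg f} (ξ : K) (hs : ∀ x, e'.1 x = ξ • e.1 x) : mk e = mk e' := by
  apply QuotientGroup.eq.2
  apply mem_center_of_scalar _ ξ
  intro x
  rw [mul_app, hs, map_smul, inv_app_app]

include h in
/-- lifts agreeing at a nonzero common fixed vector are equal -/
theorem eq_of_mk_eq_of_fix {u v : V} (F : Frame f u v) {e e' : SUg f} (hmk : mk e = mk e')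
    {x0 : V} (hx0 : x0 ≠ 0) (h1 : e'.1 x0 = e.1 x0) : e = e' := by
  obtain ⟨ξ, hξ⟩ := scalar_of_mk_eq h F hmk
  have e1 := hξ x0
  rw [h1] at e1
  have hne : e.1 x0 ≠ 0 := by
    intro h0
    apply hx0
    have := inv_app_app e x0
    rw [h0, map_zero] at this
    exact this.symm
  have : ξ = 1 := by
    by_contra hne1
    have e2 : (ξ - 1) • e.1 x0 = 0 := by rw [sub_smul, one_smul, ← e1, sub_self]
    rcases smul_eq_zero.1 e2 with h3 | h3
    · exact hne1 (sub_eq_zero.1 h3)
    · exact hne h3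
  subst this
  apply G_ext
  intro x
  rw [hξ, one_smul]

end Cfsg.Agent.Lib.Helper50UGrp
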