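import Cfsg.Agent.Lib.Helper50UFin

set_option autoImplicit false

namespace Cfsg.Agent.Lib.Helper50UMain

open Module Cfsg.Agent.Lib.Helper95Herm Cfsg.Agent.Lib.Helper95SU Cfsg.Agent.Lib.Helper95CU
  Cfsg.Agent.Lib.Helper50UGeom Cfsg.Agent.Lib.Helper50UGrp Cfsg.Agent.Lib.Helper50UPar
  Cfsg.Agent.Lib.Helper50URoot Cfsg.Agent.Lib.Helper50UStab Cfsg.Agent.Lib.Helper50USim
  Cfsg.Agent.Lib.Helper50UT Cfsg.Agent.Lib.Helper50UTau Cfsg.Agent.Lib.Helper50UTheta
  Cfsg.Agent.Lib.Helper50UFin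

variable {K V : Type*} [Field K] [AddCommGroup V] [Module K V] {σ : K →+* K} {f : V → V → K}
variable [FiniteDimensional K V] (h : Herm σ f)

local notation "mk" => (QuotientGroup.mk : SUg f → SUg f ⧸ Subgroup.center (SUg f))
local notation "Gb" => (SUg f ⧸ Subgroup.center (SUg f))

lemma conjS_tv {τ : K ≃+* K} {γ : K} {Θ : V ≃+ V} (hS : SemiSim f τ γ Θ) (hγ : σ γ = γ)
    (hcomm : ∀ c, τ (σ c) = σ (τ c)) {y : V} {a : K} (hy : f y y = 0) (ha : a + σ a = 0) :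
    (τ a / γ) + σ (τ a / γ) = 0 ∧ conjS hS (tv h y a) = tv h (Θ y) (τ a / γ) := by
  have hv : (τ a / γ) + σ (τ a / γ) = 0 := by
    rw [map_div₀, hγ, ← hcomm, ← add_div, ← map_add, ha, map_zero, zero_div]
  refine ⟨hv, conjS_eq hS fun x => ?_⟩
  rw [tv_apply h (by rw [hS.form, hy, map_zero, mul_zero]) hv, tv_apply h hy ha, hS.form, map_add,
    hS.smul, map_mul]
  congr 2
  have := hS.ne
  field_simp

lemma conjS_sg {τ : K ≃+* K} {γ : K} {Θ : V ≃+ V} (hS : SemiSim f τ γ Θ) (hγ : σ γ = γ)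
    (hcomm : ∀ c, τ (σ c) = σ (τ c)) {u w : V} {c : K} (hΘu : Θ u = γ • u) (hu : f u u = 0)
    (hw : f w u = 0) (hc : c + σ c = - f w w) :
    (γ * τ c) + σ (γ * τ c) = - f (Θ w) (Θ w) ∧
      conjS hS (sg h u w c) = sg h u (Θ w) (γ * τ c) := by
  have hγ0 := hS.ne
  have hfu : ∀ x, f (Θ x) u = τ (f x u) := by
    intro x
    have e1 := hS.form x u
    rw [hΘu, h.smul_right, hγ] at e1
    exact mul_left_cancel₀ hγ0 e1
  have hv : (γ * τ c) + σ (γ * τ c) = - f (Θ w) (Θ w) := by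
    rw [map_mul, hγ, ← hcomm, hS.form, ← mul_add, ← map_add, hc, map_neg]; ring
  refine ⟨hv, conjS_eq hS fun x => ?_⟩
  rw [sg_apply h hu (by rw [hfu, hw, map_zero]) hv, sg_apply h hu hw hc, hfu, hS.form]
  simp only [map_add, map_sub, hS.smul, hΘu, map_mul]
  module

lemma Maps.smul_left {β : MulAut Gb} {u u' : V} (hu : f u u = 0) (c : K) (hm : Maps h β u u') :
    Maps h β (c • u) u' := by
  intro a ha
  rw [tv_smul h c hu ha]
  exact hm _ (by rw [map_mul, map_mul, h.invol]; linear_combination (c * σ c) * ha)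

/-- an isometry as a semilinear similitude -/
lemma semiSim_of_iso (g : V ≃ₗ[K] V) (hg : ∀ x y, f (g x) (g y) = f x y) :
    SemiSim f (RingEquiv.refl K) 1 g.toAddEquiv :=
  ⟨one_ne_zero, fun c x => map_smul g c x, fun x y => by
    simpa using hg x y⟩

theorem liftG_trans {τ τ' : K ≃+* K} {γ γ' : K} {Θ Θ' : V ≃+ V} (hS : SemiSim f τ γ Θ)
    (hS' : SemiSim f τ' γ' Θ') :
    liftG (conjS hS) * liftG (conjS hS') = liftG (conjS (hS.trans hS')) := by
  ext x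
  obtain ⟨e, rfl⟩ := QuotientGroup.mk_surjective x
  rw [MulAut.mul_apply, liftG_mk, liftG_mk, liftG_mk]
  congr 1

include h in
/-- **Automorphisms of `PSU`** (abstract form) -/
theorem main_abs [Finite K] (p : ℕ) [Fact p.Prime] [CharP K p] (hdim : 3 ≤ finrank K V)
    (hex : finrank K V = 3 → ∃ r, σ r = r ∧ r ≠ 0 ∧ r ≠ 1)
    (hWitt : ∀ u v u' v', Frame f u v → Frame f u' v' →
      ∃ g : V ≃ₗ[K] V, (∀ x y, f (g x) (g y) = f x y) ∧ g u = u' ∧ g v = v')
    (β : MulAut Gb) :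
    ∃ (τ : K ≃+* K) (γ : K) (Θ : V ≃+ V) (hS : SemiSim f τ γ Θ), σ γ = γ ∧
      β = liftG (conjS hS) := by
  -- a frame
  obtain ⟨u, hu0, huu, -⟩ := exists_fixed_iso h p (by omega) (⊥ : Subgroup (SUg f))
    (IsPGroup.of_bot)
  obtain ⟨v, F⟩ := exists_frame h u hu0 huu
  -- images of the root groups
  obtain ⟨u', hu'0, hu'u', hm1, hm1'⟩ := root_lemma' h p hdim β F
  obtain ⟨v', hv'0, hv'v', hm2, hm2'⟩ := root_lemma' h p hdim β (F.symm h)
  have hne := X2 h hdim F hu'u' hv'v' β hm1 hm2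
  set c := σ (f u' v') with hc
  have hc0 : c ≠ 0 := sig_ne h hne
  set v2 := c⁻¹ • v' with hv2
  have hv2v2 : f v2 v2 = 0 := by rw [hv2, h.smul_left, h.smul_right, hv'v']; ring
  have F' : Frame f u' v2 := ⟨hu'u', hv2v2, by
    rw [hv2, h.smul_right, map_inv₀, hc, h.invol, inv_mul_cancel₀ hne]⟩
  have hv' : v' = c • v2 := by rw [hv2, smul_smul, mul_inv_cancel₀ hc0, one_smul]
  have hm3 : Maps h β v v2 := by
    rw [hv'] at hm2
    exact hm2.smul h hv2v2 c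
  have hm3' : Maps h β⁻¹ v2 v := Maps.smul_left h hv'v' c⁻¹ hm2'
  obtain ⟨g, hg, hgu, hgv⟩ := hWitt u v u' v2 F F'
  have hSg := semiSim_of_iso g hg
  have hid : ∀ c : K, (RingEquiv.refl K) (σ c) = σ ((RingEquiv.refl K) c) := fun c => rfl
  have hctv : ∀ (y : V) (a : K), f y y = 0 → a + σ a = 0 →
      conjS hSg (tv h y a) = tv h (g y) a := by
    intro y a hy ha
    have := (conjS_tv h hSg (map_one σ) hid hy ha).2
    simpa using this
  set β1 := (liftG (conjS hSg))⁻¹ * β with hβ1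
  have Fr : Framed h β1 u v := by
    refine ⟨?_, ?_, ?_, ?_⟩
    · intro a ha
      obtain ⟨b, hb, e⟩ := hm1 a ha
      refine ⟨b, hb, ?_⟩
      rw [hβ1, MulAut.mul_apply, e, ← hgu, ← hctv u b F.uu hb, liftG_inv_mk]
    · intro a ha
      obtain ⟨b, hb, e⟩ := hm1' a ha
      refine ⟨b, hb, ?_⟩
      rw [hβ1, mul_inv_rev, inv_inv, MulAut.mul_apply, liftG_mk, hctv u a F.uu ha, hgu, e]
    · intro a ha
      obtain ⟨b, hb, e⟩ := hm3 a ha
      refine ⟨b, hb, ?_⟩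
      rw [hβ1, MulAut.mul_apply, e, ← hgv, ← hctv v b F.vv hb, liftG_inv_mk]
    · intro a ha
      obtain ⟨b, hb, e⟩ := hm3' a ha
      refine ⟨b, hb, ?_⟩
      rw [hβ1, mul_inv_rev, inv_inv, MulAut.mul_apply, liftG_mk, hctv v a F.vv ha, hgv, e]
  obtain ⟨T, hT⟩ := exists_T h p hdim F β1 Fr
  obtain ⟨T', hT'⟩ := exists_T h p hdim F β1⁻¹ (Fr.inv h)
  obtain ⟨τ, hτ⟩ := exists_tau h hdim hex hT hT' F Fr
  obtain ⟨γ, hγ0, hγ, hcomm, hform⟩ := exists_gamma h hdim hT hT' F τ hτ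
  obtain ⟨Θ, hS, hΘu, hΘv, hΘW⟩ := exists_theta h hT hT' F τ hτ γ hγ0 hγ hcomm hform
  have hfin : (liftG (conjS hS))⁻¹ * β1 = 1 := by
    refine final h hdim hex F _ ?_ ?_
    · intro w hw c hc
      obtain ⟨c', hc', e⟩ := hT.rel w hw c hc
      have hw' := (mem_Wsp h u v w).1 hw
      have hc2 : τ.symm (c' / γ) + σ (τ.symm (c' / γ)) = - f w w := by
        apply τ.injective
        rw [map_add, hcomm, RingEquiv.apply_symm_apply, map_div₀, hγ, ← add_div, hc',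
          hform w hw w hw, map_neg]
        field_simp
      refine ⟨τ.symm (c' / γ), hc2, ?_⟩
      have e2 := (conjS_sg h hS hγ hcomm hΘu F.uu hw'.1 hc2).2
      rw [RingEquiv.apply_symm_apply, hΘW w hw, mul_div_cancel₀ _ hγ0] at e2
      rw [MulAut.mul_apply, e, ← e2, liftG_inv_mk]
    · intro a ha
      obtain ⟨b, hb, e⟩ := Fr.vv a ha
      have hb2 : τ.symm (γ * b) + σ (τ.symm (γ * b)) = 0 := by
        apply τ.injective
        rw [map_add, hcomm, RingEquiv.apply_symm_apply, map_mul, hγ, map_zero]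
        linear_combination γ * hb
      refine ⟨τ.symm (γ * b), hb2, ?_⟩
      have e2 := (conjS_tv h hS hγ hcomm F.vv hb2).2
      rw [RingEquiv.apply_symm_apply, hΘv, mul_div_cancel_left₀ _ hγ0] at e2
      rw [MulAut.mul_apply, e, ← e2, liftG_inv_mk]
  have e1 : β1 = liftG (conjS hS) := by
    rw [inv_mul_eq_one] at hfin
    exact hfin.symm
  have e2 : β = liftG (conjS hSg) * liftG (conjS hS) := by
    rw [← e1, hβ1, mul_inv_cancel_left]
  refine ⟨_, _, _, hSg.trans hS, ?_, ?_⟩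
  · simpa using hγ
  · rw [e2, liftG_trans]

end Cfsg.Agent.Lib.Helper50UMain
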