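import Cfsg.Agent.Lib.Helper50UGrp

set_option autoImplicit false

namespace Cfsg.Agent.Lib.Helper50UPar

open Module Cfsg.Agent.Lib.Helper95Herm Cfsg.Agent.Lib.Helper95SU Cfsg.Agent.Lib.Helper95CU
  Cfsg.Agent.Lib.Helper50UGeom Cfsg.Agent.Lib.Helper50UGrp

variable {K V : Type*} [Field K] [AddCommGroup V] [Module K V] {σ : K →+* K} {f : V → V → K}

/-- unipotent radical of the stabiliser of the isotropic point `u` -/
def Q (f : V → V → K) (u : V) : Subgroup (SUg f) where
  carrier := {e | e.1 u = u ∧ ∀ x, f x u = 0 → ∃ c : K, e.1 x = x + c • u}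
  mul_mem' {a b} ha hb := by
    refine ⟨by rw [mul_app, hb.1, ha.1], fun x hx => ?_⟩
    obtain ⟨c, hc⟩ := hb.2 x hx
    obtain ⟨c', hc'⟩ := ha.2 x hx
    refine ⟨c' + c, ?_⟩
    rw [mul_app, hc, map_add, map_smul, ha.1, hc']
    module
  one_mem' := ⟨rfl, fun x _ => ⟨0, by simp⟩⟩
  inv_mem' {a} ha := by
    refine ⟨inv_app_eq ha.1, fun x hx => ?_⟩
    obtain ⟨c, hc⟩ := ha.2 x hx
    refine ⟨-c, ?_⟩
    apply inv_app_eq
    rw [map_add, map_smul, ha.1, hc]
    module

lemma mem_Q (u : V) (e : SUg f) :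
    e ∈ Q f u ↔ e.1 u = u ∧ ∀ x, f x u = 0 → ∃ c : K, e.1 x = x + c • u := Iff.rfl

variable [FiniteDimensional K V] (h : Herm σ f)

lemma sg_mem_Q {u w : V} {c : K} (hu : f u u = 0) (hw : f w u = 0) (hc : c + σ c = - f w w) :
    sg h u w c ∈ Q f u := by
  refine ⟨?_, fun x hx => ⟨- f x w, ?_⟩⟩
  · rw [sg_apply h hu hw hc, hu, h.swap_zero hw]; simp
  · rw [sg_apply h hu hw hc, hx]; module

lemma tv_mem_Q {u : V} {a : K} (hu : f u u = 0) (ha : a + σ a = 0) : tv h u a ∈ Q f u := by
  rw [← sg_zero h hu ha]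
  exact sg_mem_Q h hu (h.zero_left u) (by rw [h.zero_left]; linear_combination ha)

lemma sg_v {u v w : V} {c : K} (F : Frame f u v) (hw : f w u = 0) (hwv : f w v = 0)
    (hc : c + σ c = - f w w) : (sg h u w c).1 v = v + w + c • u := by
  rw [sg_apply h F.uu hw hc, F.vu h, h.swap_zero hwv]; module

/-- parametrisation of `Q u` -/
theorem Q_param {u v : V} (F : Frame f u v) (e : SUg f) (he : e ∈ Q f u) :
    f (pr f u v (e.1 v)) u = 0 ∧ f (pr f u v (e.1 v)) v = 0 ∧
      f (e.1 v) v + σ (f (e.1 v) v) = - f (pr f u v (e.1 v)) (pr f u v (e.1 v)) ∧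
      e = sg h u (pr f u v (e.1 v)) (f (e.1 v) v) := by
  set y := e.1 v with hy
  set w := pr f u v y with hw
  set c := f y v with hc
  have hyu : f y u = 1 := by
    have := G_iso e v u
    rw [he.1, F.vu h] at this
    exact this
  have hyy : f y y = 0 := by rw [hy, G_iso e, F.vv]
  have hwu : f w u = 0 := pr_u h F y
  have hwv : f w v = 0 := pr_v h F y
  have hdec : y = c • u + v + w := by
    have := decomp (f := f) u v y
    rw [hyu, one_smul] at this
    exact this
  have hval : c + σ c = - f w w := by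
    have e1 := hyy
    rw [hdec] at e1
    simp only [h.add_left, h.add_right, h.smul_left, h.smul_right, F.uu, F.vv, F.uv, F.vu h, hwu,
      hwv, h.swap_zero hwu, h.swap_zero hwv] at e1
    linear_combination e1
  refine ⟨hwu, hwv, hval, ?_⟩
  apply G_ext
  intro x
  obtain ⟨κ, hκ⟩ := he.2 (pr f u v x) (pr_u h F x)
  have h1 : f (pr f u v x) w = f x w := f_pr_left h x w (h.swap_zero hwu) (h.swap_zero hwv)
  have h2 : κ = - f x w := by
    have e1 := G_iso e (pr f u v x) v
    rw [hκ, pr_v h F, ← hy, hdec] at e1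
    simp only [h.add_left, h.add_right, h.smul_left, h.smul_right, F.uu, F.uv, pr_u h F, pr_v h F,
      h.swap_zero hwu, h1] at e1
    linear_combination e1
  rw [sg_apply h F.uu hwu hval]
  conv_lhs => rw [decomp (f := f) u v x]
  rw [map_add, map_add, map_smul, map_smul, he.1, hκ, h2, ← hy, hdec]
  conv_rhs => rw [decomp (f := f) u v x]
  simp only [h.add_left, h.smul_left, F.uu, F.vu h, pr_u h F, h.swap_zero hwu, h.swap_zero hwv, h1]
  module

theorem Q_exists {u v : V} (F : Frame f u v) (e : SUg f) (he : e ∈ Q f u) :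
    ∃ (w : V) (c : K), f w u = 0 ∧ f w v = 0 ∧ c + σ c = - f w w ∧ e = sg h u w c := by
  obtain ⟨h1, h2, h3, h4⟩ := Q_param h F e he
  exact ⟨_, _, h1, h2, h3, h4⟩

lemma sg_inj {u v w w' : V} {c c' : K} (F : Frame f u v) (hw : f w u = 0) (hwv : f w v = 0)
    (hc : c + σ c = - f w w) (hw' : f w' u = 0) (hwv' : f w' v = 0)
    (hc' : c' + σ c' = - f w' w') (e : sg h u w c = sg h u w' c') : w = w' ∧ c = c' := by
  have e1 := congrArg (fun g : SUg f => g.1 v) e
  simp only [sg_v h F hw hwv hc, sg_v h F hw' hwv' hc'] at e1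
  have e2 := congrArg (fun x => f x v) e1
  simp only [h.add_left, h.smul_left, F.vv, F.uv, hwv, hwv'] at e2
  have e3 : c = c' := by linear_combination e2
  subst e3
  exact ⟨add_left_cancel (add_right_cancel e1), rfl⟩

lemma sg_pow {u w : V} {c : K} (hu : f u u = 0) (hw : f w u = 0) (hc : c + σ c = - f w w) (k : ℕ) :
    ∃ c' : K, c' + σ c' = - f ((k : K) • w) ((k : K) • w) ∧
      (sg h u w c) ^ k = sg h u ((k : K) • w) c' := by
  induction k with
  | zero =>
    refine ⟨0, by simp [h.zero_left], ?_⟩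
    rw [pow_zero, Nat.cast_zero, zero_smul, sg_zero h hu (by simp), tv_zero]
  | succ k ih =>
    obtain ⟨c', hc', e⟩ := ih
    have hkw : f ((k : K) • w) u = 0 := by rw [h.smul_left, hw, mul_zero]
    have e2 : ((k + 1 : ℕ) : K) • w = (k : K) • w + w := by push_cast; module
    refine ⟨c' + c - f w ((k : K) • w), ?_, ?_⟩
    · rw [e2]; exact sg_valid_mul h hc' hc
    · rw [pow_succ, e, sg_mul h hu hkw hc' hw hc, e2]

include h in
theorem Q_pow (p : ℕ) [CharP K p] {u v : V} (F : Frame f u v) (e : SUg f) (he : e ∈ Q f u) :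
    e ^ (p ^ 2) = 1 := by
  obtain ⟨w, c, hw, -, hc, rfl⟩ := Q_exists h F e he
  obtain ⟨c', hc', e1⟩ := sg_pow h F.uu hw hc p
  rw [CharP.cast_eq_zero, zero_smul] at e1 hc'
  rw [h.zero_left, neg_zero] at hc'
  rw [pow_two, pow_mul, e1, sg_zero h F.uu hc', tv_pow h F.uu hc', CharP.cast_eq_zero, zero_mul,
    tv_zero]

include h in
theorem Q_isPGroup (p : ℕ) [CharP K p] {u v : V} (F : Frame f u v) : IsPGroup p (Q f u) := by
  intro e
  refine ⟨2, ?_⟩
  apply Subtype.ext
  have := Q_pow h p F e.1 e.2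
  simpa using this

include h in
/-- the vectors fixed by `Q u` -/
theorem fix_Q {u v : V} (F : Frame f u v) (x : V) (hx : ∀ e ∈ Q f u, e.1 x = x) :
    x = f x v • u := by
  obtain ⟨a0, ha0, ha0'⟩ := h.exists_z
  have h1 : f x u = 0 := by
    have e := hx _ (tv_mem_Q h F.uu ha0')
    rw [tv_apply h F.uu ha0'] at e
    have e2 : (a0 * f x u) • u = 0 := by simpa using e
    rcases smul_eq_zero.1 e2 with h3 | h3
    · exact (mul_eq_zero.1 h3).resolve_left ha0
    · exact absurd h3 (F.u_ne h)
  have h2 : pr f u v x = 0 := by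
    by_contra hne
    obtain ⟨w, hw⟩ := (herm_W h F).nondeg ⟨pr f u v x, pr_mem h F x⟩ (fun h0 => hne (congrArg Subtype.val h0))
    have hw' := (mem_Wsp h u v _).1 w.2
    obtain ⟨c, hc⟩ := exists_c h w.1
    have e := hx _ (sg_mem_Q h F.uu hw'.1 hc)
    rw [sg_apply h F.uu hw'.1 hc, h1] at e
    have e2 : f x w.1 • u = 0 := by
      have : x + (0 : K) • w.1 - f x w.1 • u + (c * 0) • u = x - f x w.1 • u := by module
      rw [this] at e
      exact sub_eq_self.1 e
    have e3 : f x w.1 = 0 := (smul_eq_zero.1 e2).resolve_right (F.u_ne h)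
    apply hw
    show f w.1 (pr f u v x) = 0
    apply h.swap_zero
    rw [f_pr_left h x w.1 (h.swap_zero hw'.1) (h.swap_zero hw'.2), e3]
  have := decomp (f := f) u v x
  rw [h1, h2] at this
  simpa using this

/-- elements fixing `u` and centralising `Q u` are transvections -/
theorem mem_X_of_centralizes {u v : V} (F : Frame f u v) (s : SUg f) (hs : s.1 u = u)
    (hcomm : ∀ e ∈ Q f u, s * e = e * s) : ∃ a, a + σ a = 0 ∧ s = tv h u a := by
  obtain ⟨t, ht⟩ := Cfsg.Agent.Lib.Helper17Herm.exists_ne_fix σ h.ne_id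
  have key : ∀ w, f w u = 0 → f w v = 0 → s.1 w = w + f v (s.1 w) • u ∧
      σ (f v (s.1 w)) = f v (s.1 w) := by
    intro w hw hwv
    obtain ⟨c, hc⟩ := exists_c h w
    have e1 := conj_sg h s F.uu hw hc
    rw [hcomm _ (sg_mem_Q h F.uu hw hc), mul_assoc, mul_inv_cancel, mul_one, hs] at e1
    have hsw : f (s.1 w) u = 0 := by
      have := G_iso s w u
      rw [hs, hw] at this
      exact this
    have e2 := congrArg (fun g : SUg f => g.1 v) e1
    rw [sg_v h F hw hwv hc, sg_apply h F.uu hsw (by rw [G_iso s]; exact hc), F.vu h] at e2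
    have e3 : s.1 w = w + f v (s.1 w) • u := by
      have : v + w + c • u + f v (s.1 w) • u = v + s.1 w + c • u := by
        rw [e2]; module
      have e4 : v + (w + f v (s.1 w) • u) + c • u = v + s.1 w + c • u := by
        rw [← this]; module
      exact (add_left_cancel (add_right_cancel e4)).symm
    refine ⟨e3, ?_⟩
    have e5 : f v (s.1 w) = f v (w + f v (s.1 w) • u) := by rw [← e3]
    rw [h.add_right, h.smul_right, h.swap_zero hwv, F.vu h] at e5
    simpa using e5.symm
  have hW : ∀ w, f w u = 0 → f w v = 0 → s.1 w = w := by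
    intro w hw hwv
    obtain ⟨k1, k2⟩ := key w hw hwv
    obtain ⟨k3, k4⟩ := key (t • w) (by rw [h.smul_left, hw, mul_zero])
      (by rw [h.smul_left, hwv, mul_zero])
    rw [map_smul, h.smul_right, map_mul, h.invol, k2] at k4
    have : (t - σ t) * f v (s.1 w) = 0 := by linear_combination k4
    rcases mul_eq_zero.1 this with h5 | h5
    · exact absurd (sub_eq_zero.1 h5).symm ht
    · rw [h5, zero_smul, add_zero] at k1
      exact k1
  have hQ : s ∈ Q f u := by
    refine ⟨hs, fun x hx => ⟨0, ?_⟩⟩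
    have := decomp (f := f) u v x
    rw [hx, zero_smul, add_zero] at this
    rw [this, map_add, map_smul, hs, hW _ (pr_u h F x) (pr_v h F x)]
    simp
  obtain ⟨h1, h2, h3, h4⟩ := Q_param h F s hQ
  have h5 : pr f u v (s.1 v) = 0 := by
    by_contra hne
    obtain ⟨w, hw⟩ := (herm_W h F).nondeg ⟨pr f u v (s.1 v), pr_mem h F _⟩
      (fun h0 => hne (congrArg Subtype.val h0))
    have hw' := (mem_Wsp h u v _).1 w.2
    apply hw
    show f w.1 (pr f u v (s.1 v)) = 0
    apply h.swap_zero
    rw [f_pr_left h _ w.1 (h.swap_zero hw'.1) (h.swap_zero hw'.2)]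
    have := G_iso s v w.1
    rw [hW w.1 hw'.1 hw'.2, h.swap_zero hw'.2] at this
    exact this
  rw [h5, h.zero_left, neg_zero] at h3
  rw [h5, sg_zero h F.uu h3] at h4
  exact ⟨_, h3, h4⟩


/-! ### `p`-subgroups -/

section pgroup

variable [Finite K] (p : ℕ) [Fact p.Prime] [CharP K p]

omit [Fact p.Prime] in
lemma p_dvd_card_submodule (M : Submodule K V) (hM : M ≠ ⊥) :
    p ∣ Nat.card M := by
  rw [Module.natCard_eq_pow_finrank (K := K) (V := M)]
  have h1 : 0 < finrank K M := by
    rw [Module.finrank_pos_iff]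
    exact Submodule.nontrivial_iff_ne_bot.2 hM
  have h2 : p ∣ Nat.card K := by
    haveI := Fintype.ofFinite K
    rw [Nat.card_eq_fintype_card, ← CharP.cast_eq_zero_iff K p]
    exact FiniteField.cast_card_eq_zero K
  exact dvd_pow h2 h1.ne'

theorem exists_fixed_in (R : Subgroup (SUg f)) (hR : IsPGroup p R) (M : Submodule K V)
    (hinv : ∀ r ∈ R, ∀ x ∈ M, r.1 x ∈ M) (hM : M ≠ ⊥) :
    ∃ x ∈ M, x ≠ 0 ∧ ∀ r ∈ R, r.1 x = x := by
  haveI : Finite V := Module.finite_of_finite K
  letI : MulAction R M :=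
    { smul := fun r x => ⟨r.1.1 x.1, hinv r.1 r.2 x.1 x.2⟩
      one_smul := fun x => rfl
      mul_smul := fun r s x => rfl }
  obtain ⟨b, hb, hne⟩ := hR.exists_fixed_point_of_prime_dvd_card_of_fixed_point M
    (p_dvd_card_submodule p M hM) (a := 0) (by
      intro r
      apply Subtype.ext
      show r.1.1 (0 : V) = 0
      exact map_zero _)
  refine ⟨b.1, b.2, fun h0 => hne (Subtype.ext h0.symm), fun r hr => ?_⟩
  exact congrArg Subtype.val (hb ⟨r, hr⟩)

include h in
/-- a `p`-subgroup fixes a nonzero isotropic vector -/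
theorem exists_fixed_iso (hdim : 2 ≤ finrank K V) (R : Subgroup (SUg f)) (hR : IsPGroup p R) :
    ∃ y, y ≠ 0 ∧ f y y = 0 ∧ ∀ r ∈ R, r.1 y = y := by
  classical
  obtain ⟨d, -, hd, hdf⟩ := exists_fixed_in p R hR ⊤ (fun _ _ _ _ => Submodule.mem_top) (by
    intro h0
    have : finrank K (⊤ : Submodule K V) = 0 := by rw [h0]; simp
    rw [finrank_top] at this
    omega)
  by_cases hdd : f d d = 0
  · exact ⟨d, hd, hdd, hdf⟩
  obtain ⟨d', hd'M, hd', hdf'⟩ := exists_fixed_in p R hR (h.perp {d}) (by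
    intro r hr x hx y hy
    rw [Set.mem_singleton_iff] at hy
    subst hy
    have := G_iso r x y
    rw [hdf r hr] at this
    rw [this]
    exact hx y rfl) (by
    intro h0
    have h1 := h.finrank_perp_ge {d}
    rw [Finset.coe_singleton, h0] at h1
    simp at h1
    omega)
  have hperp : f d' d = 0 := hd'M d rfl
  by_cases hdd' : f d' d' = 0
  · exact ⟨d', hd', hdd', hdf'⟩
  obtain ⟨c, hc⟩ := h.norm_surj (- f d d / f d' d') (by
    rw [map_div₀, map_neg, h.self_fix, h.self_fix])
  refine ⟨d + c • d', ?_, ?_, ?_⟩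
  · intro h0
    have h6 : f (d + c • d') d = f d d := by
      rw [h.add_left, h.smul_left, hperp]; ring
    rw [h0, h.zero_left] at h6
    exact hdd h6.symm
  · simp only [h.add_left, h.add_right, h.smul_left, h.smul_right, hperp, h.swap_zero hperp]
    have : c * (σ c * f d' d') = - f d d := by
      rw [← mul_assoc, hc]; field_simp
    rw [this]; ring
  · intro r hr
    rw [map_add, map_smul, hdf r hr, hdf' r hr]

omit [FiniteDimensional K V] [Finite K] in
include h in
lemma pr_smul_u_add {u v : V} (F : Frame f u v) (a : K) (x : V) :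
    pr f u v (a • u + x) = pr f u v x := by
  simp only [pr, h.add_left, h.smul_left, F.uu, F.uv]
  module

include h in
/-- a normal `p`-subgroup of the stabiliser of `u` lies in `Q u` -/
theorem le_Q_of_normal {u v : V} (F : Frame f u v) (R : Subgroup (SUg f)) (hR : IsPGroup p R)
    (hfix : ∀ r ∈ R, r.1 u = u)
    (hnorm : ∀ g : SUg f, g.1 u = u → ∀ r ∈ R, g * r * g⁻¹ ∈ R) : R ≤ Q f u := by
  haveI : Finite V := Module.finite_of_finite K
  have hWu : ∀ r ∈ R, ∀ w, f w u = 0 → f (r.1 w) u = 0 := by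
    intro r hr w hw
    have := G_iso r w u
    rw [hfix r hr, hw] at this
    exact this
  -- the submodule of `W` on which `R` acts trivially modulo `u`
  let M0 : Submodule K (Wsp h u v) :=
    { carrier := {w | ∀ r ∈ R, ∃ c : K, r.1 w.1 = w.1 + c • u}
      add_mem' := by
        intro a b ha hb r hr
        obtain ⟨c, hc⟩ := ha r hr
        obtain ⟨c', hc'⟩ := hb r hr
        refine ⟨c + c', ?_⟩
        rw [Submodule.coe_add, map_add, hc, hc']
        module
      zero_mem' := fun r _ => ⟨0, by simp⟩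
      smul_mem' := by
        intro t a ha r hr
        obtain ⟨c, hc⟩ := ha r hr
        refine ⟨t * c, ?_⟩
        rw [Submodule.coe_smul, map_smul, hc]
        module }
  have hM0 : M0 = ⊤ := by
    by_cases hW : Wsp h u v = ⊥
    · rw [eq_top_iff]
      intro w _
      have : w = 0 := by
        apply Subtype.ext
        have h1 : w.1 ∈ Wsp h u v := w.2
        have h2 : w.1 ∈ (⊥ : Submodule K V) := hW ▸ h1
        simpa using h2
      rw [this]
      exact M0.zero_mem
    letI : MulAction R (Wsp h u v) :=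
      { smul := fun r w => ⟨pr f u v (r.1.1 w.1), pr_mem h F _⟩
        one_smul := fun w => by
          apply Subtype.ext
          have hw := (mem_Wsp h u v _).1 w.2
          exact pr_of_perp hw.1 hw.2
        mul_smul := fun r s w => by
          apply Subtype.ext
          show pr f u v (r.1.1 (s.1.1 w.1)) = pr f u v (r.1.1 (pr f u v (s.1.1 w.1)))
          have hw := (mem_Wsp h u v _).1 w.2
          have e := decomp (f := f) u v (s.1.1 w.1)
          rw [hWu s.1 s.2 _ hw.1, zero_smul, add_zero] at e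
          conv_lhs => rw [e]
          rw [map_add, map_smul, hfix r.1 r.2, pr_smul_u_add h F] }
    obtain ⟨b, hb, hne⟩ := hR.exists_fixed_point_of_prime_dvd_card_of_fixed_point (Wsp h u v)
      (p_dvd_card_submodule p _ hW) (a := 0) (by
        intro r
        apply Subtype.ext
        show pr f u v (r.1.1 (0 : V)) = 0
        rw [map_zero]
        simp [pr, h.zero_left])
    have hbM : b ∈ M0 := by
      intro r hr
      have e1 : pr f u v (r.1 b.1) = b.1 := congrArg Subtype.val (hb ⟨r, hr⟩)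
      have hw := (mem_Wsp h u v _).1 b.2
      have e := decomp (f := f) u v (r.1 b.1)
      rw [hWu r hr _ hw.1, zero_smul, add_zero, e1] at e
      exact ⟨f (r.1 b.1) v, e.trans (add_comm _ _)⟩
    have hb0 : b ≠ 0 := fun h0 => hne h0.symm
    by_cases han : ∀ x : Wsp h u v, f x.1 x.1 = 0 → x = 0
    · rw [eq_top_iff]
      intro w _
      obtain ⟨c, rfl⟩ := aniso_line (herm_W h F) han b hb0 w
      exact M0.smul_mem c hbM
    · push Not at han
      obtain ⟨y, hy, hy0⟩ := han
      obtain ⟨z, Fyz⟩ := exists_frame (herm_W h F) y hy0 hy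
      refine irred (herm_W h F) Fyz M0 ?_ b hbM hb0
      intro y' a x hy' ha hx r hr
      have hyw := (mem_Wsp h u v _).1 y'.2
      have htu : (tv h y'.1 a).1 u = u := by
        rw [tv_apply h hy' ha, h.swap_zero hyw.1]; simp
      have e1 : ((x + (a * f x.1 y'.1) • y' : Wsp h u v) : V) = (tv h y'.1 a).1 x.1 := by
        rw [tv_apply h hy' ha]; rfl
      have h2 := hnorm (tv h y'.1 a)⁻¹ (inv_app_eq htu) r hr
      rw [inv_inv] at h2
      obtain ⟨c, hc⟩ := hx _ h2
      refine ⟨c, ?_⟩
      rw [e1]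
      rw [mul_app, mul_app] at hc
      have e2 := congrArg (fun z => (tv h y'.1 a).1 z) hc
      simp only [app_inv_app, map_add, map_smul, htu] at e2
      exact e2
  intro r hr
  refine ⟨hfix r hr, fun x hx => ?_⟩
  have hmem : (⟨pr f u v x, pr_mem h F x⟩ : Wsp h u v) ∈ M0 := by rw [hM0]; trivial
  obtain ⟨c, hc⟩ := hmem r hr
  refine ⟨c, ?_⟩
  have e := decomp (f := f) u v x
  rw [hx, zero_smul, add_zero] at e
  conv_lhs => rw [e]
  rw [map_add, map_smul, hfix r hr, hc]
  conv_rhs => rw [e]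
  abel

end pgroup

end Cfsg.Agent.Lib.Helper50UPar
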