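import Cfsg.Agent.Lib.Helper50UPar

set_option autoImplicit false

namespace Cfsg.Agent.Lib.Helper50URoot

open Module Cfsg.Agent.Lib.Helper95Herm Cfsg.Agent.Lib.Helper95SU Cfsg.Agent.Lib.Helper95CU
  Cfsg.Agent.Lib.Helper50UGeom Cfsg.Agent.Lib.Helper50UGrp Cfsg.Agent.Lib.Helper50UPar

open scoped Pointwise in
/-- an automorphism of a quotient maps the image of a Sylow subgroup to a conjugate of it -/
theorem exists_conj_sylow {G : Type*} [Group G] [Finite G] (N : Subgroup G) [N.Normal] (p : ℕ)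
    [Fact p.Prime] (P : Sylow p G) (β : MulAut (G ⧸ N)) :
    ∃ g : G, (∀ t ∈ P, ∃ t' ∈ P, β (QuotientGroup.mk t) = QuotientGroup.mk (g * t' * g⁻¹)) ∧
      ∀ t' ∈ P, ∃ t ∈ P, β (QuotientGroup.mk t) = QuotientGroup.mk (g * t' * g⁻¹) := by
  let Pb : Sylow p (G ⧸ N) :=
    P.mapSurjective (f := QuotientGroup.mk' N) (QuotientGroup.mk'_surjective _)
  have hPb : ∀ x, x ∈ (Pb : Subgroup _) ↔ ∃ t ∈ P, (QuotientGroup.mk t : G ⧸ N) = x := by
    intro x
    rw [Sylow.coe_mapSurjective, Subgroup.mem_map]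
    rfl
  obtain ⟨gb, hgb⟩ := MulAction.exists_smul_eq (G ⧸ N) Pb (β • Pb)
  obtain ⟨g, rfl⟩ := QuotientGroup.mk_surjective gb
  have hS : (MulAut.conj (QuotientGroup.mk g : G ⧸ N) • (Pb : Subgroup (G ⧸ N)) : Subgroup (G ⧸ N))
      = β • (Pb : Subgroup (G ⧸ N)) := by
    rw [← Sylow.coe_subgroup_smul, ← Sylow.pointwise_smul_def, hgb]
  refine ⟨g, fun t ht => ?_, fun t' ht' => ?_⟩
  · have h1 : β (QuotientGroup.mk t) ∈ (β • (Pb : Subgroup _) : Subgroup _) := by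
      rw [Subgroup.mem_smul_pointwise_iff_exists]
      exact ⟨QuotientGroup.mk t, (hPb _).2 ⟨t, ht, rfl⟩, rfl⟩
    rw [← hS, Subgroup.mem_smul_pointwise_iff_exists] at h1
    obtain ⟨x, hx, hx2⟩ := h1
    obtain ⟨t', ht', rfl⟩ := (hPb _).1 hx
    refine ⟨t', ht', ?_⟩
    rw [← hx2]
    rfl
  · have h1 : (QuotientGroup.mk (g * t' * g⁻¹) : G ⧸ N) ∈
        (MulAut.conj (QuotientGroup.mk g : G ⧸ N) • (Pb : Subgroup _) : Subgroup _) := by
      rw [Subgroup.mem_smul_pointwise_iff_exists]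
      exact ⟨QuotientGroup.mk t', (hPb _).2 ⟨t', ht', rfl⟩, rfl⟩
    rw [hS, Subgroup.mem_smul_pointwise_iff_exists] at h1
    obtain ⟨x, hx, hx2⟩ := h1
    obtain ⟨t, ht, rfl⟩ := (hPb _).1 hx
    exact ⟨t, ht, hx2⟩

variable {K V : Type*} [Field K] [AddCommGroup V] [Module K V] {σ : K →+* K} {f : V → V → K}

lemma pow_p_eq_one (p : ℕ) [Fact p.Prime] [CharP K p] (k : ℕ) (x : K) (hx : x ^ p ^ k = 1) :
    x = 1 := by
  have : (x - 1) ^ p ^ k = 0 := by rw [sub_pow_char_pow, hx, one_pow, sub_self]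
  exact sub_eq_zero.1 (pow_eq_zero_iff (pow_ne_zero _ (Fact.out : p.Prime).ne_zero) |>.1 this)

variable [FiniteDimensional K V] (h : Herm σ f)

local notation "mk" => (QuotientGroup.mk : SUg f → SUg f ⧸ Subgroup.center (SUg f))

instance [Finite K] : Finite (SUg f) := by
  haveI : Finite V := Module.finite_of_finite K
  haveI : Finite (V ≃ₗ[K] V) :=
    Finite.of_injective (fun e : V ≃ₗ[K] V => (e : V → V)) DFunLike.coe_injective
  infer_instance

include h in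
lemma exists_perp_two (hdim : 3 ≤ finrank K V) (y y' : V) :
    ∃ x0, x0 ≠ 0 ∧ f x0 y = 0 ∧ f x0 y' = 0 := by
  classical
  have h1 := h.finrank_perp_ge {y, y'}
  have h2 : ({y, y'} : Finset V).card ≤ 2 := Finset.card_le_two
  have h3 : 0 < finrank K (h.perp (({y, y'} : Finset V) : Set V)) := by omega
  rw [Module.finrank_pos_iff] at h3
  obtain ⟨x, hx⟩ := exists_ne (0 : h.perp (({y, y'} : Finset V) : Set V))
  refine ⟨x.1, fun h0 => hx (Subtype.ext h0), x.2 y (by simp), x.2 y' (by simp)⟩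

/-- `β` maps the root group of `u` into that of `u'` -/
def Maps (β : MulAut (SUg f ⧸ Subgroup.center (SUg f))) (u u' : V) : Prop :=
  ∀ a, a + σ a = 0 → ∃ b, b + σ b = 0 ∧ β (mk (tv h u a)) = mk (tv h u' b)

lemma tv_fix {y x : V} {a : K} (hy : f y y = 0) (ha : a + σ a = 0) (hx : f x y = 0) :
    (tv h y a).1 x = x := by
  rw [tv_apply h hy ha, hx]; simp

/-- root groups determine their points -/
theorem X1 (hdim : 3 ≤ finrank K V) {y z y' : V} (F : Frame f y z) (hy' : f y' y' = 0) {a a' : K}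
    (ha : a + σ a = 0) (ha' : a' + σ a' = 0) (ha0 : a ≠ 0)
    (e : mk (tv h y a) = mk (tv h y' a')) : tv h y a = tv h y' a' ∧ ∃ c : K, c ≠ 0 ∧ y = c • y' := by
  obtain ⟨x0, hx0, h1, h2⟩ := exists_perp_two h hdim y y'
  have e1 := eq_of_mk_eq_of_fix h F e hx0 (by rw [tv_fix h F.uu ha h1, tv_fix h hy' ha' h2])
  refine ⟨e1, ?_⟩
  have e2 := congrArg (fun g : SUg f => g.1 z) e1
  simp only [tv_apply h F.uu ha, tv_apply h hy' ha', F.vu h, mul_one] at e2
  have e3 := add_left_cancel e2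
  refine ⟨a⁻¹ * (a' * f z y'), ?_, ?_⟩
  · intro h0
    have h3 : a' * f z y' = 0 := (mul_eq_zero.1 h0).resolve_left (inv_ne_zero ha0)
    rw [h3, zero_smul] at e3
    exact (smul_ne_zero ha0 (F.u_ne h)) e3
  · rw [mul_smul, ← e3, smul_smul, inv_mul_cancel₀ ha0, one_smul]

theorem mk_tv_ne_one (hdim : 3 ≤ finrank K V) {y z : V} (F : Frame f y z) {a : K}
    (ha : a + σ a = 0) (ha0 : a ≠ 0) : mk (tv h y a) ≠ 1 := by
  intro e
  have e' : mk (tv h y a) = mk (tv h y 0) := by rw [tv_zero]; exact e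
  obtain ⟨e1, -⟩ := X1 h hdim F F.uu ha (by simp) ha0 e'
  rw [tv_zero] at e1
  have e2 := congrArg (fun g : SUg f => g.1 z) e1
  simp only [tv_apply h F.uu ha, F.vu h, mul_one, one_app] at e2
  have e3 : a • y = 0 := by simpa using e2
  exact (smul_ne_zero ha0 (F.u_ne h)) e3

lemma Maps.smul {β : MulAut (SUg f ⧸ Subgroup.center (SUg f))} {u u' : V} (hu' : f u' u' = 0)
    (c : K) (hm : Maps h β u (c • u')) : Maps h β u u' := by
  intro a ha
  obtain ⟨b, hb, e⟩ := hm a ha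
  refine ⟨b * (c * σ c), ?_, ?_⟩
  · rw [map_mul, map_mul, h.invol]; linear_combination (c * σ c) * hb
  · rw [e, tv_smul h c hu' hb]

section main

variable [Finite K] (p : ℕ) [Fact p.Prime] [CharP K p]

include p in
/-- **Root lemma** -/
theorem root_lemma (hdim : 3 ≤ finrank K V) (β : MulAut (SUg f ⧸ Subgroup.center (SUg f)))
    {u v : V} (F : Frame f u v) : ∃ g : SUg f, Maps h β u (g.1 u) := by
  obtain ⟨P, hP⟩ := (Q_isPGroup h p F).exists_le_sylow
  obtain ⟨y0, hy0, -, hfix0⟩ := exists_fixed_iso h p (by omega) (P : Subgroup (SUg f)) P.isPGroup'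
  have e0 := fix_Q h F y0 (fun e he => hfix0 e (hP he))
  have hc : f y0 v ≠ 0 := by
    intro h0
    rw [h0, zero_smul] at e0
    exact hy0 e0
  have hfix : ∀ r ∈ P, r.1 u = u := by
    intro r hr
    have := hfix0 r hr
    rw [e0, map_smul] at this
    exact smul_right_injective V hc this
  obtain ⟨g, hg1, hg2⟩ := exists_conj_sylow (Subgroup.center (SUg f)) p P β
  refine ⟨g, fun a ha => ?_⟩
  obtain ⟨s, hs, hs2⟩ := hg1 _ (hP (tv_mem_Q h F.uu ha))
  have hcomm : ∀ t' ∈ P, s * t' = t' * s := by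
    intro t' ht'
    obtain ⟨t, ht, ht2⟩ := hg2 t' ht'
    have h1 : tv h u a * t = t * tv h u a := by
      have := conj_tv h t F.uu ha
      rw [hfix t ht] at this
      conv_lhs => rw [← this]
      group
    have h2 : β (mk (tv h u a)) * β (mk t) = β (mk t) * β (mk (tv h u a)) := by
      rw [← map_mul, ← map_mul, ← QuotientGroup.mk_mul, ← QuotientGroup.mk_mul, h1]
    rw [hs2, ht2, ← QuotientGroup.mk_mul, ← QuotientGroup.mk_mul] at h2
    have h3 : mk g⁻¹ * mk (g * s * g⁻¹ * (g * t' * g⁻¹)) * mk g =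
        mk g⁻¹ * mk (g * t' * g⁻¹ * (g * s * g⁻¹)) * mk g := by rw [h2]
    rw [← QuotientGroup.mk_mul, ← QuotientGroup.mk_mul, ← QuotientGroup.mk_mul,
      ← QuotientGroup.mk_mul] at h3
    have h4 : mk (s * t') = mk (t' * s) := by
      convert h3 using 2 <;> group
    exact eq_of_mk_eq_of_fix h F h4 (F.u_ne h) (by
      rw [mul_app, mul_app, hfix s hs, hfix t' ht', hfix s hs])
  obtain ⟨b, hb, rfl⟩ := mem_X_of_centralizes h F s (hfix s hs) (fun e he => hcomm e (hP he))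
  exact ⟨b, hb, by rw [hs2, conj_tv h g F.uu hb]⟩

include p in
/-- root lemma with inverse -/
theorem root_lemma' (hdim : 3 ≤ finrank K V) (β : MulAut (SUg f ⧸ Subgroup.center (SUg f)))
    {u v : V} (F : Frame f u v) :
    ∃ u', u' ≠ 0 ∧ f u' u' = 0 ∧ Maps h β u u' ∧ Maps h β⁻¹ u' u := by
  obtain ⟨a0, ha0, ha0'⟩ := h.exists_z
  obtain ⟨g, hg⟩ := root_lemma h p hdim β F
  have Fg : Frame f (g.1 u) (g.1 v) := ⟨by rw [G_iso g, F.uu], by rw [G_iso g, F.vv],
    by rw [G_iso g, F.uv]⟩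
  obtain ⟨g2, hg2⟩ := root_lemma h p hdim β⁻¹ Fg
  refine ⟨g.1 u, Fg.u_ne h, Fg.uu, hg, ?_⟩
  obtain ⟨b, hb, e⟩ := hg a0 ha0'
  obtain ⟨b2, hb2, e2⟩ := hg2 b hb
  rw [← e] at e2
  have e3 : mk (tv h u a0) = mk (tv h (g2.1 (g.1 u)) b2) := by
    rw [← e2]; simp
  obtain ⟨-, c, hc, e4⟩ := X1 h hdim F (by rw [G_iso g2, Fg.uu]) ha0' hb2 ha0 e3
  have e5 : g2.1 (g.1 u) = c⁻¹ • u := by
    conv_rhs => rw [e4]
    rw [smul_smul, inv_mul_cancel₀ hc, one_smul]
  rw [e5] at hg2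
  exact hg2.smul h F.uu _

end main

end Cfsg.Agent.Lib.Helper50URoot
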