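import Cfsg.Agent.Lib.Helper50UGrp

set_option autoImplicit false

namespace Cfsg.Agent.Lib.Helper50USim

open Module Cfsg.Agent.Lib.Helper95Herm Cfsg.Agent.Lib.Helper50UGeom Cfsg.Agent.Lib.Helper50UGrp

variable {K V : Type*} [Field K] [AddCommGroup V] [Module K V] {σ : K →+* K} {f : V → V → K}

/-- conjugate of a linear equivalence by a semilinear bijection -/
def conjL {τ : K ≃+* K} {Θ : V ≃+ V} (hΘ : ∀ (c : K) (x : V), Θ (c • x) = τ c • Θ x)
    (e : V ≃ₗ[K] V) : V ≃ₗ[K] V where
  toFun x := Θ (e (Θ.symm x))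
  map_add' x y := by simp only [map_add]
  map_smul' c x := by
    have h1 : Θ.symm (c • x) = τ.symm c • Θ.symm x := by
      apply Θ.injective
      rw [hΘ]; simp
    simp only [h1, map_smul, hΘ, RingEquiv.apply_symm_apply, RingHom.id_apply]
  invFun x := Θ (e.symm (Θ.symm x))
  left_inv x := by simp
  right_inv x := by simp

lemma conjL_apply {τ : K ≃+* K} {Θ : V ≃+ V} (hΘ : ∀ (c : K) (x : V), Θ (c • x) = τ c • Θ x)
    (e : V ≃ₗ[K] V) (x : V) : conjL hΘ e x = Θ (e (Θ.symm x)) := rfl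

theorem det_conjL [FiniteDimensional K V] {τ : K ≃+* K} {Θ : V ≃+ V}
    (hΘ : ∀ (c : K) (x : V), Θ (c • x) = τ c • Θ x) (e : V ≃ₗ[K] V) :
    LinearMap.det (conjL hΘ e : V →ₗ[K] V) = τ (LinearMap.det (e : V →ₗ[K] V)) := by
  classical
  set b := Module.finBasis K V with hb
  have hsum : ∀ c : Fin (finrank K V) → K, Θ (∑ i, c i • b i) = ∑ i, τ (c i) • Θ (b i) := by
    intro c
    rw [map_sum]
    exact Finset.sum_congr rfl fun i _ => hΘ _ _
  have hli : LinearIndependent K (fun i => Θ (b i)) := by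
    rw [Fintype.linearIndependent_iff]
    intro c hc i
    have h1 : Θ (∑ i, τ.symm (c i) • b i) = 0 := by
      rw [hsum]
      simpa using hc
    have h2 : ∑ i, τ.symm (c i) • b i = 0 := by
      apply Θ.injective
      rw [h1, map_zero]
    have h3 := Fintype.linearIndependent_iff.1 b.linearIndependent _ h2 i
    simpa using h3
  set b' := basisOfLinearIndependentOfCardEqFinrank' _ hli (by simp) with hb'
  have hb'i : ∀ i, b' i = Θ (b i) := by
    intro i
    rw [hb', coe_basisOfLinearIndependentOfCardEqFinrank']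
  rw [← LinearMap.det_toMatrix b', ← LinearMap.det_toMatrix b]
  have hM : LinearMap.toMatrix b' b' (conjL hΘ e : V →ₗ[K] V) =
      (τ : K →+* K).mapMatrix (LinearMap.toMatrix b b (e : V →ₗ[K] V)) := by
    ext i j
    rw [LinearMap.toMatrix_apply, RingHom.mapMatrix_apply, Matrix.map_apply,
      LinearMap.toMatrix_apply]
    have h1 : (conjL hΘ e : V →ₗ[K] V) (b' j) = ∑ i, τ (b.repr (e (b j)) i) • b' i := by
      show Θ (e (Θ.symm (b' j))) = _
      rw [hb'i, AddEquiv.symm_apply_apply]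
      conv_lhs => rw [← b.sum_repr (e (b j))]
      rw [hsum]
      exact Finset.sum_congr rfl fun i _ => by rw [hb'i]
    rw [h1, Basis.repr_sum_self]
    rfl
  rw [hM, ← RingHom.map_det]
  rfl

/-- semilinear similitudes -/
structure SemiSim (f : V → V → K) (τ : K ≃+* K) (γ : K) (Θ : V ≃+ V) : Prop where
  ne : γ ≠ 0
  smul : ∀ (c : K) (x : V), Θ (c • x) = τ c • Θ x
  form : ∀ x y, f (Θ x) (Θ y) = γ * τ (f x y)

namespace SemiSim

variable {τ : K ≃+* K} {γ : K} {Θ : V ≃+ V}

lemma symm (hS : SemiSim f τ γ Θ) : SemiSim f τ.symm (τ.symm γ⁻¹) Θ.symm where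
  ne := by
    intro h0
    have : τ (τ.symm γ⁻¹) = 0 := by rw [h0, map_zero]
    rw [RingEquiv.apply_symm_apply] at this
    exact inv_ne_zero hS.ne this
  smul c x := by
    apply Θ.injective
    rw [hS.smul]; simp
  form x y := by
    have := hS.form (Θ.symm x) (Θ.symm y)
    rw [AddEquiv.apply_symm_apply, AddEquiv.apply_symm_apply] at this
    rw [this, ← map_mul, ← mul_assoc, inv_mul_cancel₀ hS.ne, one_mul, RingEquiv.symm_apply_apply]

lemma trans {τ' : K ≃+* K} {γ' : K} {Θ' : V ≃+ V} (hS : SemiSim f τ γ Θ)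
    (hS' : SemiSim f τ' γ' Θ') : SemiSim f (τ'.trans τ) (γ * τ γ') (Θ'.trans Θ) where
  ne := mul_ne_zero hS.ne (by
    intro h0
    exact hS'.ne ((map_eq_zero_iff τ τ.injective).1 h0))
  smul c x := by
    simp only [AddEquiv.trans_apply, RingEquiv.trans_apply, hS'.smul, hS.smul]
  form x y := by
    simp only [AddEquiv.trans_apply, RingEquiv.trans_apply, hS'.form, hS.form, map_mul]
    ring

end SemiSim

variable [FiniteDimensional K V] {τ : K ≃+* K} {γ : K} {Θ : V ≃+ V}

lemma conjL_mem (hS : SemiSim f τ γ Θ) (e : SUg f) : conjL hS.smul e.1 ∈ SUg f := by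
  rw [mem_SUg]
  refine ⟨fun x y => ?_, ?_⟩
  · rw [conjL_apply, conjL_apply, hS.form, G_iso e, ← hS.form, AddEquiv.apply_symm_apply,
      AddEquiv.apply_symm_apply]
  · rw [det_conjL, G_det, map_one]

/-- conjugation by a semilinear similitude, as an automorphism of `SUg` -/
def conjS (hS : SemiSim f τ γ Θ) : SUg f ≃* SUg f where
  toFun e := ⟨conjL hS.smul e.1, conjL_mem hS e⟩
  invFun e := ⟨conjL hS.symm.smul e.1, conjL_mem hS.symm e⟩
  left_inv e := by
    apply G_ext
    intro x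
    simp [conjL_apply]
  right_inv e := by
    apply G_ext
    intro x
    simp [conjL_apply]
  map_mul' a b := by
    apply G_ext
    intro x
    simp [conjL_apply]

lemma conjS_apply (hS : SemiSim f τ γ Θ) (e : SUg f) (x : V) :
    (conjS hS e).1 (Θ x) = Θ (e.1 x) := by
  show Θ (e.1 (Θ.symm (Θ x))) = _
  rw [AddEquiv.symm_apply_apply]

lemma conjS_eq (hS : SemiSim f τ γ Θ) {e e' : SUg f} (he : ∀ x, e'.1 (Θ x) = Θ (e.1 x)) :
    conjS hS e = e' := by
  apply G_ext
  intro x
  obtain ⟨y, rfl⟩ := Θ.surjective x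
  rw [conjS_apply, he]

/-- lift an automorphism to the central quotient -/
noncomputable def liftG {G : Type*} [Group G] (θ : G ≃* G) : MulAut (G ⧸ Subgroup.center G) :=
  QuotientGroup.congr (Subgroup.center G) (Subgroup.center G) θ
    (Subgroup.characteristic_iff_map_eq.1 inferInstance θ)

theorem liftG_mk {G : Type*} [Group G] (θ : G ≃* G) (s : G) :
    liftG θ (QuotientGroup.mk s) = QuotientGroup.mk (θ s) := rfl

theorem liftG_inv_mk {G : Type*} [Group G] (θ : G ≃* G) (s : G) :
    (liftG θ)⁻¹ (QuotientGroup.mk (θ s)) = QuotientGroup.mk s := by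
  rw [← liftG_mk]; simp

end Cfsg.Agent.Lib.Helper50USim
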