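import Cfsg.Agent.Lib.Helper50URoot

set_option autoImplicit false

namespace Cfsg.Agent.Lib.Helper50UStab

open Module Cfsg.Agent.Lib.Helper95Herm Cfsg.Agent.Lib.Helper95SU Cfsg.Agent.Lib.Helper95CU
  Cfsg.Agent.Lib.Helper50UGeom Cfsg.Agent.Lib.Helper50UGrp Cfsg.Agent.Lib.Helper50UPar
  Cfsg.Agent.Lib.Helper50URoot

variable {K V : Type*} [Field K] [AddCommGroup V] [Module K V] {σ : K →+* K} {f : V → V → K}
variable [FiniteDimensional K V] (h : Herm σ f)

local notation "mk" => (QuotientGroup.mk : SUg f → SUg f ⧸ Subgroup.center (SUg f))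
local notation "Gb" => (SUg f ⧸ Subgroup.center (SUg f))

lemma frame_map {u v : V} (F : Frame f u v) (g : SUg f) : Frame f (g.1 u) (g.1 v) :=
  ⟨by rw [G_iso g, F.uu], by rw [G_iso g, F.vv], by rw [G_iso g, F.uv]⟩

/-- non-orthogonality is preserved -/
theorem X2 (hdim : 3 ≤ finrank K V) {u v u' v' : V} (F : Frame f u v) (hu' : f u' u' = 0)
    (hv' : f v' v' = 0) (β : MulAut Gb) (h1 : Maps h β u u') (h2 : Maps h β v v') :
    f u' v' ≠ 0 := by
  intro h0
  obtain ⟨a0, ha0, ha0'⟩ := h.exists_z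
  obtain ⟨b, hb, e1⟩ := h1 a0 ha0'
  obtain ⟨b', hb', e2⟩ := h2 a0 ha0'
  have hc : tv h u' b * tv h v' b' = tv h v' b' * tv h u' b := by
    have := conj_tv h (tv h u' b) hv' hb'
    rw [tv_fix h hu' hb (h.swap_zero h0)] at this
    conv_rhs => rw [← this]
    group
  have e3 : β (mk (tv h u a0 * tv h v a0)) = β (mk (tv h v a0 * tv h u a0)) := by
    rw [QuotientGroup.mk_mul, QuotientGroup.mk_mul, map_mul, map_mul, e1, e2,
      ← QuotientGroup.mk_mul, ← QuotientGroup.mk_mul, hc]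
  have e4 := β.injective e3
  obtain ⟨x0, hx0, hx1, hx2⟩ := exists_perp_two h hdim u v
  have e5 := eq_of_mk_eq_of_fix h F e4 hx0 (by
    simp only [mul_app, tv_fix h F.uu ha0' hx1, tv_fix h F.vv ha0' hx2])
  have e6 := congrArg (fun g : SUg f => f (g.1 u) v) e5
  simp only [mul_app, tv_apply h F.uu ha0', tv_apply h F.vv ha0', h.add_left, h.smul_left, F.uu,
    F.vv, F.uv, F.vu h] at e6
  have : a0 * a0 = 0 := by linear_combination e6
  exact ha0 (mul_self_eq_zero.1 this)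

/-- stabilisers of points are preserved -/
theorem X3 (hdim : 3 ≤ finrank K V) {u v u' v' : V} (F : Frame f u v) (F' : Frame f u' v')
    (β : MulAut Gb) (hm : Maps h β u u') {g g' : SUg f} {c : K} (hg : g.1 u = c • u)
    (e : β (mk g) = mk g') : ∃ c' : K, g'.1 u' = c' • u' := by
  obtain ⟨a0, ha0, ha0'⟩ := h.exists_z
  obtain ⟨b, hb, e1⟩ := hm a0 ha0'
  have hb0 : b ≠ 0 := by
    rintro rfl
    rw [tv_zero] at e1
    have : β (mk (tv h u a0)) = β 1 := by rw [e1, map_one]; rfl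
    exact mk_tv_ne_one h hdim F ha0' ha0 (β.injective this)
  have e2 := conj_tv h g F.uu ha0'
  rw [hg, tv_smul h c F.uu ha0'] at e2
  obtain ⟨b2, hb2, e3⟩ := hm (a0 * (c * σ c)) (by
    rw [map_mul, map_mul, h.invol]; linear_combination (c * σ c) * ha0')
  rw [← e2, QuotientGroup.mk_mul, QuotientGroup.mk_mul, map_mul, map_mul, QuotientGroup.mk_inv,
    map_inv, e, e1, ← QuotientGroup.mk_inv, ← QuotientGroup.mk_mul, ← QuotientGroup.mk_mul,
    conj_tv h g' F'.uu hb] at e3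
  obtain ⟨-, c', -, e4⟩ := X1 h hdim (frame_map F' g') F'.uu hb hb2 hb0 e3
  exact ⟨c', e4⟩

include h in
lemma Q_conj {u v : V} (F : Frame f u v) {g : SUg f} {c : K} (hg : g.1 u = c • u) (e : SUg f)
    (he : e ∈ Q f u) : g * e * g⁻¹ ∈ Q f u := by
  have hc : c ≠ 0 := by
    rintro rfl
    rw [zero_smul] at hg
    have := inv_app_app g u
    rw [hg, map_zero] at this
    exact F.u_ne h this.symm
  have hgi : (g⁻¹).1 u = c⁻¹ • u := by
    apply inv_app_eq
    rw [map_smul, hg, smul_smul, inv_mul_cancel₀ hc, one_smul]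
  refine ⟨?_, fun x hx => ?_⟩
  · rw [mul_app, mul_app, hgi, map_smul, he.1, map_smul, hg, smul_smul, inv_mul_cancel₀ hc,
      one_smul]
  · obtain ⟨κ, hκ⟩ := he.2 ((g⁻¹).1 x) (by rw [G_iso_inv g, hg, h.smul_right, hx, mul_zero])
    refine ⟨κ * c, ?_⟩
    rw [mul_app, mul_app, hκ, map_add, app_inv_app, map_smul, hg, smul_smul]

section main

variable [Finite K] (p : ℕ) [Fact p.Prime] [CharP K p]

include p in
/-- `β` preserves the unipotent radical -/
theorem Q_maps (hdim : 3 ≤ finrank K V) {u v : V} (F : Frame f u v) (β : MulAut Gb)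
    (hm : Maps h β u u) (hm' : Maps h β⁻¹ u u) (e : SUg f) (he : e ∈ Q f u) :
    ∃ e' ∈ Q f u, β (mk e) = mk e' := by
  let R : Subgroup (SUg f) :=
    { carrier := {r | r.1 u = u ∧ ∃ e ∈ Q f u, mk r = β (mk e)}
      mul_mem' := by
        rintro a b ⟨ha, e1, he1, h1⟩ ⟨hb, e2, he2, h2⟩
        exact ⟨by rw [mul_app, hb, ha], e1 * e2, (Q f u).mul_mem he1 he2, by
          rw [QuotientGroup.mk_mul, QuotientGroup.mk_mul, map_mul, h1, h2]⟩
      one_mem' := ⟨rfl, 1, (Q f u).one_mem, by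
        rw [QuotientGroup.mk_one, map_one]⟩
      inv_mem' := by
        rintro a ⟨ha, e1, he1, h1⟩
        exact ⟨inv_app_eq ha, e1⁻¹, (Q f u).inv_mem he1, by
          rw [QuotientGroup.mk_inv, QuotientGroup.mk_inv, map_inv, h1]⟩ }
  have hpow : ∀ (r : SUg f) (e : SUg f), e ∈ Q f u → mk r = β (mk e) → mk (r ^ p ^ 2) = mk 1 := by
    intro r e he h1
    rw [QuotientGroup.mk_pow, h1, ← map_pow, ← QuotientGroup.mk_pow, Q_pow h p F e he,
      QuotientGroup.mk_one, map_one]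
  have hfixpow : ∀ (r : SUg f) (c : K) (k : ℕ), r.1 u = c • u → (r ^ k).1 u = c ^ k • u := by
    intro r c k hr
    induction k with
    | zero => simp
    | succ k ih => rw [pow_succ, mul_app, hr, map_smul, ih, smul_smul, pow_succ, mul_comm]
  have hR : IsPGroup p R := by
    rintro ⟨r, hr, e1, he1, h1⟩
    refine ⟨2, Subtype.ext ?_⟩
    show r ^ p ^ 2 = 1
    refine eq_of_mk_eq_of_fix h F (hpow r e1 he1 h1) (F.u_ne h) ?_
    have := hfixpow r 1 (p ^ 2) (by rw [hr, one_smul])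
    rw [this]; simp
  have hle : R ≤ Q f u := by
    refine le_Q_of_normal h p F R hR (fun r hr => hr.1) ?_
    rintro g hg r ⟨hr, e1, he1, h1⟩
    refine ⟨by rw [mul_app, mul_app, inv_app_eq hg, hr, hg], ?_⟩
    obtain ⟨g1, hg1⟩ := QuotientGroup.mk_surjective (β⁻¹ (mk g))
    obtain ⟨c1, hc1⟩ := X3 h hdim F F β⁻¹ hm' (g := g) (c := 1) (by rw [hg, one_smul]) hg1.symm
    refine ⟨g1 * e1 * g1⁻¹, Q_conj h F hc1 e1 he1, ?_⟩
    rw [QuotientGroup.mk_mul, QuotientGroup.mk_mul, QuotientGroup.mk_mul, QuotientGroup.mk_mul,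
      map_mul, map_mul, QuotientGroup.mk_inv, QuotientGroup.mk_inv, map_inv, hg1, h1]
    simp
  obtain ⟨r0, hr0⟩ := QuotientGroup.mk_surjective (β (mk e))
  obtain ⟨l, hl⟩ := X3 h hdim F F β hm (g := e) (c := 1) (by rw [he.1, one_smul]) hr0.symm
  obtain ⟨ξ, hξ⟩ := scalar_of_mk_eq h F (hpow r0 e he hr0).symm
  simp only [one_app] at hξ
  have h1 : l ^ p ^ 2 = ξ := by
    have e1 := hfixpow r0 l (p ^ 2) hl
    rw [hξ] at e1
    have e2 := congrArg (fun x => f x v) e1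
    simp only [h.smul_left, F.uv, mul_one] at e2
    exact e2.symm
  have h2 : ξ * σ ξ = 1 := by
    have e1 := G_iso (r0 ^ p ^ 2) u v
    rw [hξ, hξ, h.smul_left, h.smul_right, F.uv] at e1
    linear_combination e1
  have h3 : ξ ^ finrank K V = 1 := by
    have e1 := G_det (r0 ^ p ^ 2)
    have e2 : ((r0 ^ p ^ 2).1 : V →ₗ[K] V) = ξ • LinearMap.id := by
      ext x
      exact hξ x
    rw [e2, LinearMap.det_smul, LinearMap.det_id, mul_one] at e1
    exact e1
  have h4 : l * σ l = 1 := by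
    apply pow_p_eq_one p 2
    rw [mul_pow, ← map_pow, h1, h2]
  have h5 : l ^ finrank K V = 1 := by
    apply pow_p_eq_one p 2
    rw [← pow_mul, mul_comm, pow_mul, h1, h3]
  have hl0 : l ≠ 0 := by
    rintro rfl
    simp at h4
  obtain ⟨z, hz⟩ := exists_scalar h l⁻¹ (by
    rw [map_inv₀, ← mul_inv, h4, inv_one]) (by rw [inv_pow, h5, inv_one])
  have hmk : mk (z * r0) = mk r0 := by
    symm
    apply mk_eq_of_scalar l⁻¹
    intro x
    rw [mul_app, hz]
  refine ⟨z * r0, hle ⟨?_, e, he, ?_⟩, ?_⟩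
  · rw [mul_app, hl, hz, smul_smul, inv_mul_cancel₀ hl0, one_smul]
  · rw [hmk, hr0]
  · rw [hmk, hr0]

end main

end Cfsg.Agent.Lib.Helper50UStab
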