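import Cfsg.Agent.Lib.Helper50UStab
import Cfsg.Agent.Lib.Helper50USim

set_option autoImplicit false

namespace Cfsg.Agent.Lib.Helper50UT

open Module Cfsg.Agent.Lib.Helper95Herm Cfsg.Agent.Lib.Helper95SU Cfsg.Agent.Lib.Helper95CU
  Cfsg.Agent.Lib.Helper50UGeom Cfsg.Agent.Lib.Helper50UGrp Cfsg.Agent.Lib.Helper50UPar
  Cfsg.Agent.Lib.Helper50URoot Cfsg.Agent.Lib.Helper50UStab Cfsg.Agent.Lib.Helper50USim

variable {K V : Type*} [Field K] [AddCommGroup V] [Module K V] {σ : K →+* K} {f : V → V → K}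
variable [FiniteDimensional K V] (h : Herm σ f)

local notation "mk" => (QuotientGroup.mk : SUg f → SUg f ⧸ Subgroup.center (SUg f))
local notation "Gb" => (SUg f ⧸ Subgroup.center (SUg f))

/-- `β` fixes the root groups of `u` and `v` -/
structure Framed (β : MulAut Gb) (u v : V) : Prop where
  uu : Maps h β u u
  uu' : Maps h β⁻¹ u u
  vv : Maps h β v v
  vv' : Maps h β⁻¹ v v

lemma Framed.inv {β : MulAut Gb} {u v : V} (Fr : Framed h β u v) : Framed h β⁻¹ u v :=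
  ⟨Fr.uu', by rw [inv_inv]; exact Fr.uu, Fr.vv', by rw [inv_inv]; exact Fr.vv⟩

/-- the action of `β` on `Q u / X u` -/
structure TRel (β : MulAut Gb) (u v : V) (T : V → V) : Prop where
  mem : ∀ w ∈ Wsp h u v, T w ∈ Wsp h u v
  rel : ∀ w ∈ Wsp h u v, ∀ c, c + σ c = - f w w →
    ∃ c', c' + σ c' = - f (T w) (T w) ∧ β (mk (sg h u w c)) = mk (sg h u (T w) c')

lemma sg_mul_tv {u w : V} {c a : K} (hu : f u u = 0) (hw : f w u = 0) (hc : c + σ c = - f w w)
    (ha : a + σ a = 0) : sg h u w c * tv h u a = sg h u w (c + a) := by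
  rw [← sg_zero h hu ha, sg_mul h hu hw hc (h.zero_left u) (by rw [h.zero_left]; linear_combination ha),
    add_zero, h.zero_left, sub_zero]

lemma mk_sg_inj {u v w w' : V} {c c' : K} (F : Frame f u v) (hw : w ∈ Wsp h u v)
    (hc : c + σ c = - f w w) (hw' : w' ∈ Wsp h u v) (hc' : c' + σ c' = - f w' w')
    (e : mk (sg h u w c) = mk (sg h u w' c')) : w = w' ∧ c = c' := by
  rw [mem_Wsp] at hw hw'
  have e1 := eq_of_mk_eq_of_fix h F e (F.u_ne h) (by
    rw [(sg_mem_Q h F.uu hw.1 hc).1, (sg_mem_Q h F.uu hw'.1 hc').1])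
  exact sg_inj h F hw.1 hw.2 hc hw'.1 hw'.2 hc' e1

section main

variable [Finite K] (p : ℕ) [Fact p.Prime] [CharP K p]

include p in
theorem exists_T (hdim : 3 ≤ finrank K V) {u v : V} (F : Frame f u v) (β : MulAut Gb)
    (Fr : Framed h β u v) : ∃ T : V → V, TRel h β u v T := by
  have key : ∀ w : V, ∃ w' : V, w ∈ Wsp h u v → (w' ∈ Wsp h u v ∧ ∃ c c', c + σ c = - f w w ∧
      c' + σ c' = - f w' w' ∧ β (mk (sg h u w c)) = mk (sg h u w' c')) := by
    intro w
    by_cases hw : w ∈ Wsp h u v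
    · obtain ⟨c, hc⟩ := exists_c h w
      have hw' := (mem_Wsp h u v w).1 hw
      obtain ⟨e', he', e1⟩ := Q_maps h p hdim F β Fr.uu Fr.uu' _ (sg_mem_Q h F.uu hw'.1 hc)
      obtain ⟨w', c', h1, h2, h3, rfl⟩ := Q_exists h F e' he'
      exact ⟨w', fun _ => ⟨(mem_Wsp h u v w').2 ⟨h1, h2⟩, c, c', hc, h3, e1⟩⟩
    · exact ⟨0, fun h0 => absurd h0 hw⟩
  choose T hT using key
  refine ⟨T, fun w hw => (hT w hw).1, fun w hw c hc => ?_⟩
  obtain ⟨hTw, c0, c0', hc0, hc0', e⟩ := hT w hw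
  have hw' := (mem_Wsp h u v w).1 hw
  have hTw' := (mem_Wsp h u v _).1 hTw
  have ha : (c - c0) + σ (c - c0) = 0 := by rw [map_sub]; linear_combination hc - hc0
  obtain ⟨b, hb, e2⟩ := Fr.uu _ ha
  refine ⟨c0' + b, by rw [map_add]; linear_combination hc0' + hb, ?_⟩
  have e3 : sg h u w c = sg h u w c0 * tv h u (c - c0) := by
    rw [sg_mul_tv h F.uu hw'.1 hc0 ha]; congr 1; ring
  rw [e3, QuotientGroup.mk_mul, map_mul, e, e2, ← QuotientGroup.mk_mul,
    sg_mul_tv h F.uu hTw'.1 hc0' hb]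

end main

section trel

theorem TRel.add {β : MulAut Gb} {u v : V} {T : V → V} (hT : TRel h β u v T) (F : Frame f u v) {w w' : V} (hw : w ∈ Wsp h u v)
    (hw' : w' ∈ Wsp h u v) : T (w + w') = T w + T w' := by
  obtain ⟨c, hc⟩ := exists_c h w
  obtain ⟨c', hc'⟩ := exists_c h w'
  obtain ⟨d, hd, e⟩ := hT.rel w hw c hc
  obtain ⟨d', hd', e'⟩ := hT.rel w' hw' c' hc'
  obtain ⟨d2, hd2, e2⟩ := hT.rel (w + w') ((Wsp h u v).add_mem hw hw') _ (sg_valid_mul h hc hc')
  have h1 := (mem_Wsp h u v _).1 hw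
  have h2 := (mem_Wsp h u v _).1 hw'
  have h3 := (mem_Wsp h u v _).1 (hT.mem w hw)
  have h4 := (mem_Wsp h u v _).1 (hT.mem w' hw')
  rw [← sg_mul h F.uu h1.1 hc h2.1 hc', QuotientGroup.mk_mul, map_mul, e, e',
    ← QuotientGroup.mk_mul, sg_mul h F.uu h3.1 hd h4.1 hd'] at e2
  exact (mk_sg_inj h F ((Wsp h u v).add_mem (hT.mem w hw) (hT.mem w' hw')) (sg_valid_mul h hd hd')
    (hT.mem _ ((Wsp h u v).add_mem hw hw')) hd2 e2).1.symm

theorem TRel.inv_apply {β : MulAut Gb} {u v : V} {T T' : V → V} (hT : TRel h β u v T) (hT' : TRel h β⁻¹ u v T') (F : Frame f u v) {w : V}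
    (hw : w ∈ Wsp h u v) : T' (T w) = w := by
  obtain ⟨c, hc⟩ := exists_c h w
  obtain ⟨d, hd, e⟩ := hT.rel w hw c hc
  obtain ⟨d', hd', e'⟩ := hT'.rel _ (hT.mem w hw) d hd
  rw [← e] at e'
  have e2 : mk (sg h u w c) = mk (sg h u (T' (T w)) d') := by rw [← e']; simp
  exact (mk_sg_inj h F hw hc (hT'.mem _ (hT.mem w hw)) hd' e2).1.symm

theorem TRel.apply_inv {β : MulAut Gb} {u v : V} {T T' : V → V} (hT : TRel h β u v T) (hT' : TRel h β⁻¹ u v T') (F : Frame f u v) {w : V}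
    (hw : w ∈ Wsp h u v) : T (T' w) = w := by
  have hT2 : TRel h (β⁻¹)⁻¹ u v T := by rw [inv_inv]; exact hT
  exact hT'.inv_apply h hT2 F hw

end trel

/-- Levi elements -/
structure IsL (u v : V) (l : SUg f) (a b : K) : Prop where
  hu : l.1 u = a • u
  hv : l.1 v = b • v

namespace IsL

variable {h} {u v : V} {l : SUg f} {a b : K}

include h in
lemma rel (hl : IsL u v l a b) (F : Frame f u v) : a * σ b = 1 := by
  have := G_iso l u v
  rw [hl.hu, hl.hv, h.smul_left, h.smul_right, F.uv] at this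
  linear_combination this

include h in
lemma a_ne (hl : IsL u v l a b) (F : Frame f u v) : a ≠ 0 := by
  rintro rfl
  have := hl.rel (h := h) F
  simp at this

include h in
lemma b_ne (hl : IsL u v l a b) (F : Frame f u v) : b ≠ 0 := by
  rintro rfl
  have := hl.rel (h := h) F
  simp at this

lemma mem (hl : IsL u v l a b) (F : Frame f u v) {w : V} (hw : w ∈ Wsp h u v) :
    l.1 w ∈ Wsp h u v := by
  rw [mem_Wsp] at hw ⊢
  have ha := hl.a_ne (h := h) F
  have hb := hl.b_ne (h := h) F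
  have hσ : ∀ c : K, c ≠ 0 → σ c ≠ 0 := by
    intro c hc h0
    apply hc
    rw [← h.invol c, h0, map_zero]
  constructor
  · have := G_iso l w u
    rw [hl.hu, h.smul_right, hw.1] at this
    exact (mul_eq_zero.1 this).resolve_left (hσ a ha)
  · have := G_iso l w v
    rw [hl.hv, h.smul_right, hw.2] at this
    exact (mul_eq_zero.1 this).resolve_left (hσ b hb)

end IsL

lemma sg_smul {u w : V} {c : K} (a : K) (hu : f u u = 0) (hw : f w u = 0)
    (hc : c + σ c = - f w w) : sg h (a • u) w c = sg h u (σ a • w) (c * (a * σ a)) := by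
  apply G_ext
  intro x
  rw [sg_apply h (by rw [h.smul_left, h.smul_right, hu]; ring) (by rw [h.smul_right, hw, mul_zero]) hc,
    sg_apply h hu (by rw [h.smul_left, hw, mul_zero]) (by
      rw [map_mul, map_mul, h.invol, h.smul_left, h.smul_right, h.invol]
      linear_combination (a * σ a) * hc)]
  simp only [h.smul_right, h.invol]
  module

omit [FiniteDimensional K V] in
include h in
lemma valid_smul {w : V} {c : K} (a : K) (hc : c + σ c = - f w w) :
    c * (a * σ a) + σ (c * (a * σ a)) = - f (σ a • w) (σ a • w) := by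
  rw [map_mul, map_mul, h.invol, h.smul_left, h.smul_right, h.invol]
  linear_combination (a * σ a) * hc

lemma conj_L {u v w : V} {l : SUg f} {a b c : K} (hl : IsL u v l a b) (F : Frame f u v)
    (hw : f w u = 0) (hc : c + σ c = - f w w) :
    l * sg h u w c * l⁻¹ = sg h u (σ a • l.1 w) (c * (a * σ a)) := by
  rw [conj_sg h l F.uu hw hc, hl.hu]
  have h1 : f (l.1 w) u = 0 := by
    have ha := hl.a_ne (h := h) F
    have hσ : σ a ≠ 0 := by
      intro h0
      apply ha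
      rw [← h.invol a, h0, map_zero]
    have := G_iso l w u
    rw [hl.hu, h.smul_right, hw] at this
    exact (mul_eq_zero.1 this).resolve_left hσ
  exact sg_smul h a F.uu h1 (by rw [G_iso l]; exact hc)

theorem TRel.equiv (hdim : 3 ≤ finrank K V) {β : MulAut Gb} {u v : V} {T : V → V}
    (hT : TRel h β u v T) (F : Frame f u v) (hmu : Maps h β u u) (hmv : Maps h β v v)
    {l l' : SUg f} {a b : K} (hl : IsL u v l a b) (e : β (mk l) = mk l') :
    ∃ a' b', IsL u v l' a' b' ∧ ∀ w ∈ Wsp h u v, T (σ a • l.1 w) = σ a' • l'.1 (T w) := by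
  obtain ⟨a', ha'⟩ := X3 h hdim F F β hmu hl.hu e
  obtain ⟨b', hb'⟩ := X3 h hdim (F.symm h) (F.symm h) β hmv hl.hv e
  have hl' : IsL u v l' a' b' := ⟨ha', hb'⟩
  refine ⟨a', b', hl', fun w hw => ?_⟩
  obtain ⟨c, hc⟩ := exists_c h w
  obtain ⟨d, hd, e1⟩ := hT.rel w hw c hc
  have hw1 := (mem_Wsp h u v _).1 hw
  have hw2 := (mem_Wsp h u v _).1 (hT.mem w hw)
  have hm : σ a • l.1 w ∈ Wsp h u v := (Wsp h u v).smul_mem _ (hl.mem F hw)
  have hm' : σ a' • l'.1 (T w) ∈ Wsp h u v := (Wsp h u v).smul_mem _ (hl'.mem F (hT.mem w hw))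
  have hv1 : c * (a * σ a) + σ (c * (a * σ a)) = - f (σ a • l.1 w) (σ a • l.1 w) :=
    valid_smul h a (by rw [G_iso l]; exact hc)
  have hv2 : d * (a' * σ a') + σ (d * (a' * σ a')) = - f (σ a' • l'.1 (T w)) (σ a' • l'.1 (T w)) :=
    valid_smul h a' (by rw [G_iso l']; exact hd)
  obtain ⟨d2, hd2, e2⟩ := hT.rel _ hm _ hv1
  rw [← conj_L h hl F hw1.1 hc, QuotientGroup.mk_mul, QuotientGroup.mk_mul, map_mul, map_mul,
    QuotientGroup.mk_inv, map_inv, e, e1, ← QuotientGroup.mk_inv, ← QuotientGroup.mk_mul,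
    ← QuotientGroup.mk_mul, conj_L h hl' F hw2.1 hd] at e2
  exact (mk_sg_inj h F hm' hv2 (hT.mem _ hm) hd2 e2).1.symm

/-- commutation of `T c T⁻¹` with the Levi action -/
theorem comm_L (hdim : 3 ≤ finrank K V) {β : MulAut Gb} {u v : V} {T T' : V → V}
    (hT : TRel h β u v T) (hT' : TRel h β⁻¹ u v T') (F : Frame f u v) (Fr : Framed h β u v)
    {l1 : SUg f} {a1 b1 : K} (hl1 : IsL u v l1 a1 b1) (c : K) {w : V} (hw : w ∈ Wsp h u v) :
    T (c • T' (σ a1 • l1.1 w)) = σ a1 • l1.1 (T (c • T' w)) := by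
  obtain ⟨l, hl⟩ := QuotientGroup.mk_surjective (β⁻¹ (mk l1))
  obtain ⟨a, b, hL, e1⟩ := hT'.equiv h hdim F Fr.uu' Fr.vv' hl1 hl.symm
  have e2 : β (mk l) = mk l1 := by rw [hl]; simp
  obtain ⟨a2, b2, hL2, e3⟩ := hT.equiv h hdim F Fr.uu Fr.vv hL e2
  have ha : a2 = a1 := by
    have := hL2.hu.symm.trans hl1.hu
    have e4 := congrArg (fun x => f x v) this
    simpa [h.smul_left, F.uv] using e4
  subst ha
  rw [e1 w hw, smul_comm, ← map_smul, e3 _ ((Wsp h u v).smul_mem _ (hT'.mem w hw))]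

end Cfsg.Agent.Lib.Helper50UT
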