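import Cfsg.Agent.Lib.Helper50UT

set_option autoImplicit false

namespace Cfsg.Agent.Lib.Helper50UTau

open Module Cfsg.Agent.Lib.Helper95Herm Cfsg.Agent.Lib.Helper95SU Cfsg.Agent.Lib.Helper95CU
  Cfsg.Agent.Lib.Helper50UGeom Cfsg.Agent.Lib.Helper50UGrp Cfsg.Agent.Lib.Helper50UPar
  Cfsg.Agent.Lib.Helper50URoot Cfsg.Agent.Lib.Helper50UStab Cfsg.Agent.Lib.Helper50USim
  Cfsg.Agent.Lib.Helper50UT

variable {K V : Type*} [Field K] [AddCommGroup V] [Module K V] {σ : K →+* K} {f : V → V → K}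
variable [FiniteDimensional K V] (h : Herm σ f)

local notation "mk" => (QuotientGroup.mk : SUg f → SUg f ⧸ Subgroup.center (SUg f))
local notation "Gb" => (SUg f ⧸ Subgroup.center (SUg f))

include h in
lemma sig_ne {c : K} (hc : c ≠ 0) : σ c ≠ 0 := by
  intro h0
  apply hc
  rw [← h.invol c, h0, map_zero]

/-- transvections of the complement are Levi elements -/
lemma isL_tv {u v y : V} {a : K} (hy : y ∈ Wsp h u v) (hyy : f y y = 0) (ha : a + σ a = 0) :
    IsL u v (tv h y a) 1 1 := by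
  rw [mem_Wsp] at hy
  exact ⟨by rw [tv_fix h hyy ha (h.swap_zero hy.1), one_smul],
    by rw [tv_fix h hyy ha (h.swap_zero hy.2), one_smul]⟩

/-- torus element attached to a second frame -/
noncomputable def tor2 {u v y z : V} (F : Frame f u v) (F2 : Frame f y z) {l : K} (hl : l ≠ 0) :
    SUg f :=
  tor h F hl (dd h y z l⁻¹) (dd_iso h F2 (inv_ne_zero hl)) (by
    rw [dd_det h F2, map_inv₀, inv_inv]
    field_simp)

lemma tor2_W {u v y z : V} (F : Frame f u v) (F2 : Frame f y z) {l : K} (hl : l ≠ 0)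
    (hy : y ∈ Wsp h u v) (hz : z ∈ Wsp h u v) {w : V} (hw : w ∈ Wsp h u v) :
    σ l • (tor2 h F F2 hl).1 w = Dmap σ f y z l w := by
  rw [mem_Wsp] at hy hz hw
  have e1 : dd h y z l⁻¹ w = w + ((σ l - 1) * f w y) • z + ((l⁻¹ - 1) * f w z) • y := by
    rw [dd_apply h F2, map_inv₀, inv_inv]
  rw [tor2, tor_apply, e1, dd_perp h F _ (by
    simp only [h.add_left, h.smul_left, hw.1, hy.1, hz.1]; ring) (by
    simp only [h.add_left, h.smul_left, hw.2, hy.2, hz.2]; ring), Dmap]
  have hl' := sig_ne h hl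
  have e2 : σ l / l - σ l = σ l * (l⁻¹ - 1) := by field_simp
  rw [e2]
  module

lemma isL_tor2 {u v y z : V} (F : Frame f u v) (F2 : Frame f y z) {l : K} (hl : l ≠ 0)
    (hy : y ∈ Wsp h u v) (hz : z ∈ Wsp h u v) : IsL u v (tor2 h F F2 hl) l (σ l)⁻¹ := by
  rw [mem_Wsp] at hy hz
  constructor
  · rw [tor2, tor_apply, dd_perp h F2 _ (h.swap_zero hy.1) (h.swap_zero hz.1), dd_u h F]
  · rw [tor2, tor_apply, dd_perp h F2 _ (h.swap_zero hy.2) (h.swap_zero hz.2), dd_v h F]

/-- torus element in the anisotropic case -/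
noncomputable def tor1 {u v d : V} (F : Frame f u v) (hd : f d d ≠ 0) {l : K} (hl : l ≠ 0) :
    SUg f :=
  tor h F hl (qr h d (σ l / l) hd (div_ne_zero (sig_ne h hl) hl) : V →ₗ[K] V)
    (qr_isometry h d _ hd _ (by
      have hl' := sig_ne h hl
      rw [map_div₀, h.invol]; field_simp)) (qr_det h d _ hd _)

lemma tor1_d {u v d : V} (F : Frame f u v) (hd : f d d ≠ 0) {l : K} (hl : l ≠ 0)
    (hdW : d ∈ Wsp h u v) (t : K) :
    σ l • (tor1 h F hd hl).1 (t • d) = (σ l ^ 2 / l) • (t • d) := by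
  rw [mem_Wsp] at hdW
  rw [tor1, tor_apply]
  have e1 : (qr h d (σ l / l) hd (div_ne_zero (sig_ne h hl) hl) : V →ₗ[K] V) (t • d) =
      (t * (σ l / l)) • d := by
    rw [map_smul]
    show t • (qr h d (σ l / l) hd _) d = _
    rw [qr_self, smul_smul]
  rw [e1, dd_perp h F _ (by rw [h.smul_left, hdW.1, mul_zero]) (by rw [h.smul_left, hdW.2, mul_zero]),
    smul_smul, smul_smul]
  congr 1
  field_simp

lemma isL_tor1 {u v d : V} (F : Frame f u v) (hd : f d d ≠ 0) {l : K} (hl : l ≠ 0)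
    (hdW : d ∈ Wsp h u v) : IsL u v (tor1 h F hd hl) l (σ l)⁻¹ := by
  rw [mem_Wsp] at hdW
  constructor
  · rw [tor1, tor_apply]
    have : (qr h d (σ l / l) hd (div_ne_zero (sig_ne h hl) hl) : V →ₗ[K] V) u = u :=
      qr_fix h d _ hd _ u (h.swap_zero hdW.1)
    rw [this, dd_u h F]
  · rw [tor1, tor_apply]
    have : (qr h d (σ l / l) hd (div_ne_zero (sig_ne h hl) hl) : V →ₗ[K] V) v = v :=
      qr_fix h d _ hd _ v (h.swap_zero hdW.2)
    rw [this, dd_v h F]

include h in
lemma finrank_eq_three_of_aniso [Finite K] (hdim : 3 ≤ finrank K V) {u v : V} (F : Frame f u v)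
    (han : ∀ x : Wsp h u v, f x.1 x.1 = 0 → x = 0) : finrank K V = 3 := by
  classical
  have h1 := h.finrank_perp_ge {u, v}
  have h2 : ({u, v} : Finset V).card ≤ 2 := Finset.card_le_two
  have h3 : h.perp (({u, v} : Finset V) : Set V) = Wsp h u v := by
    rw [Wsp]; congr 1; simp
  rw [h3] at h1
  have h4 : finrank K (Wsp h u v) ≤ 1 := by
    by_cases hW : ∀ x : Wsp h u v, x = 0
    · have : Subsingleton (Wsp h u v) := ⟨fun a b => by rw [hW a, hW b]⟩
      rw [finrank_zero_of_subsingleton]; omega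
    · push Not at hW
      obtain ⟨d, hd⟩ := hW
      apply finrank_le_one d
      intro w
      obtain ⟨c, hc⟩ := aniso_line (herm_W h F) han d hd w
      exact ⟨c, hc.symm⟩
  omega

theorem exists_tau_fun [Finite K] (hdim : 3 ≤ finrank K V)
    (hex : finrank K V = 3 → ∃ r, σ r = r ∧ r ≠ 0 ∧ r ≠ 1) {β : MulAut Gb} {u v : V}
    {T T' : V → V} (hT : TRel h β u v T) (hT' : TRel h β⁻¹ u v T') (F : Frame f u v)
    (Fr : Framed h β u v) (c : K) : ∃ t : K, ∀ w ∈ Wsp h u v, T (c • w) = t • T w := by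
  have hmem : ∀ w ∈ Wsp h u v, T (c • T' w) ∈ Wsp h u v := fun w hw =>
    hT.mem _ ((Wsp h u v).smul_mem _ (hT'.mem w hw))
  let φ : Wsp h u v → Wsp h u v := fun w => ⟨T (c • T' w.1), hmem w.1 w.2⟩
  have hadd : ∀ a b, φ (a + b) = φ a + φ b := by
    intro a b
    apply Subtype.ext
    show T (c • T' (a.1 + b.1)) = T (c • T' a.1) + T (c • T' b.1)
    rw [hT'.add h F a.2 b.2, smul_add, hT.add h F ((Wsp h u v).smul_mem _ (hT'.mem _ a.2))
      ((Wsp h u v).smul_mem _ (hT'.mem _ b.2))]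
  have key : ∃ t : K, ∀ x, φ x = t • x := by
    by_cases han : ∀ x : Wsp h u v, f x.1 x.1 = 0 → x = 0
    · obtain ⟨r, hr, hr0, hr1⟩ := hex (finrank_eq_three_of_aniso h hdim F han)
      refine commutant_line (herm_W h F) han r hr hr0 hr1 φ hadd ?_
      intro l x hl
      by_cases hx : x = 0
      · subst hx
        have h0 : φ 0 = 0 := by
          have := hadd 0 0
          simpa using this
        simp [h0]
      have hxx : f x.1 x.1 ≠ 0 := fun h0 => hx (han x h0)
      apply Subtype.ext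
      show T (c • T' ((σ l ^ 2 / l) • x.1)) = (σ l ^ 2 / l) • T (c • T' x.1)
      have e1 := comm_L h hdim hT hT' F Fr (isL_tor1 h F hxx hl x.2) c x.2
      have e2 := tor1_d h F hxx hl x.2 1
      rw [one_smul] at e2
      rw [e2] at e1
      obtain ⟨t, ht⟩ := aniso_line (herm_W h F) han x hx (φ x)
      have ht' : T (c • T' x.1) = t • x.1 := congrArg Subtype.val ht
      rw [e1, ht', tor1_d h F hxx hl x.2 t]
    · push Not at han
      obtain ⟨y, hy, hy0⟩ := han
      obtain ⟨z, Fyz⟩ := exists_frame (herm_W h F) y hy0 hy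
      refine commutant (herm_W h F) φ hadd ?_ ?_ Fyz
      · intro y' a x hy' ha
        apply Subtype.ext
        show T (c • T' (x.1 + (a * f x.1 y'.1) • y'.1)) =
          T (c • T' x.1) + (a * f (T (c • T' x.1)) y'.1) • y'.1
        have e1 := comm_L h hdim hT hT' F Fr (isL_tv h y'.2 hy' ha) c x.2
        rw [map_one, one_smul, one_smul, tv_apply h hy' ha, tv_apply h hy' ha] at e1
        exact e1
      · intro y' z' l x F2 hl
        have F2' : Frame f y'.1 z'.1 := ⟨F2.uu, F2.vv, F2.uv⟩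
        apply Subtype.ext
        show T (c • T' (Dmap σ f y'.1 z'.1 l x.1)) = Dmap σ f y'.1 z'.1 l (T (c • T' x.1))
        have e1 := comm_L h hdim hT hT' F Fr (isL_tor2 h F F2' hl y'.2 z'.2) c x.2
        rw [tor2_W h F F2' hl y'.2 z'.2 x.2, tor2_W h F F2' hl y'.2 z'.2 (hmem x.1 x.2)] at e1
        exact e1
  obtain ⟨t, ht⟩ := key
  refine ⟨t, fun w hw => ?_⟩
  have := congrArg Subtype.val (ht ⟨T w, hT.mem w hw⟩)
  have e2 : T (c • T' (T w)) = t • T w := this
  rwa [hT.inv_apply h hT' F hw] at e2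

theorem exists_tau [Finite K] (hdim : 3 ≤ finrank K V)
    (hex : finrank K V = 3 → ∃ r, σ r = r ∧ r ≠ 0 ∧ r ≠ 1) {β : MulAut Gb} {u v : V}
    {T T' : V → V} (hT : TRel h β u v T) (hT' : TRel h β⁻¹ u v T') (F : Frame f u v)
    (Fr : Framed h β u v) : ∃ τ : K ≃+* K, ∀ c, ∀ w ∈ Wsp h u v, T (c • w) = τ c • T w := by
  choose τ hτ using exists_tau_fun h hdim hex hT hT' F Fr
  obtain ⟨w0, hw0, h1, h2⟩ := exists_perp_two h hdim u v
  have hw0W : w0 ∈ Wsp h u v := (mem_Wsp h u v w0).2 ⟨h1, h2⟩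
  have hT'0 : T' 0 = 0 := by
    have := hT'.add h F (Wsp h u v).zero_mem (Wsp h u v).zero_mem
    simpa using this
  have hTw0 : T w0 ≠ 0 := by
    intro h0
    have := hT.inv_apply h hT' F hw0W
    rw [h0, hT'0] at this
    exact hw0 this.symm
  have hinj : ∀ a b : K, a • T w0 = b • T w0 → a = b := fun a b e =>
    smul_left_injective K hTw0 e
  let τ1 : K →+* K :=
    { toFun := τ
      map_one' := by
        apply hinj
        rw [← hτ 1 w0 hw0W, one_smul, one_smul]
      map_mul' := by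
        intro a b
        apply hinj
        rw [← hτ _ w0 hw0W, mul_smul, hτ a _ ((Wsp h u v).smul_mem _ hw0W), hτ b w0 hw0W, mul_smul]
      map_zero' := by
        apply hinj
        rw [← hτ 0 w0 hw0W, zero_smul, zero_smul]
        have := hT.add h F (Wsp h u v).zero_mem (Wsp h u v).zero_mem
        simpa using this
      map_add' := by
        intro a b
        apply hinj
        rw [← hτ _ w0 hw0W, add_smul, hT.add h F ((Wsp h u v).smul_mem _ hw0W)
          ((Wsp h u v).smul_mem _ hw0W), hτ a w0 hw0W, hτ b w0 hw0W, add_smul] }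
  have hbij : Function.Bijective τ1 := Finite.injective_iff_bijective.1 τ1.injective
  exact ⟨RingEquiv.ofBijective τ1 hbij, fun c w hw => hτ c w hw⟩

end Cfsg.Agent.Lib.Helper50UTau
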