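import Cfsg.Agent.Lib.Helper50UTau

set_option autoImplicit false

namespace Cfsg.Agent.Lib.Helper50UTheta

open Module Cfsg.Agent.Lib.Helper95Herm Cfsg.Agent.Lib.Helper95SU Cfsg.Agent.Lib.Helper95CU
  Cfsg.Agent.Lib.Helper50UGeom Cfsg.Agent.Lib.Helper50UGrp Cfsg.Agent.Lib.Helper50UPar
  Cfsg.Agent.Lib.Helper50URoot Cfsg.Agent.Lib.Helper50UStab Cfsg.Agent.Lib.Helper50USim
  Cfsg.Agent.Lib.Helper50UT Cfsg.Agent.Lib.Helper50UTau

variable {K V : Type*} [Field K] [AddCommGroup V] [Module K V] {σ : K →+* K} {f : V → V → K}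
variable [FiniteDimensional K V] (h : Herm σ f)

local notation "mk" => (QuotientGroup.mk : SUg f → SUg f ⧸ Subgroup.center (SUg f))
local notation "Gb" => (SUg f ⧸ Subgroup.center (SUg f))

omit [FiniteDimensional K V] in
include h in
lemma om_valid (w w' : V) : (f w w' - f w' w) + σ (f w w' - f w' w) = 0 := by
  rw [map_sub, ← h.herm w' w, ← h.herm w w']; ring

lemma sg_comm {u w w' : V} {c c' : K} (hu : f u u = 0) (hw : f w u = 0) (hc : c + σ c = - f w w)
    (hw' : f w' u = 0) (hc' : c' + σ c' = - f w' w') :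
    sg h u w c * sg h u w' c' = sg h u w' c' * sg h u w c * tv h u (f w w' - f w' w) := by
  rw [sg_mul h hu hw hc hw' hc', sg_mul h hu hw' hc' hw hc,
    sg_mul_tv h hu (by rw [h.add_left, hw, hw', add_zero]) (sg_valid_mul h hc' hc) (om_valid h w w'),
    add_comm w w']
  congr 1
  ring

lemma mk_tv_inj {u v : V} {a a' : K} (F : Frame f u v) (ha : a + σ a = 0) (ha' : a' + σ a' = 0)
    (e : mk (tv h u a) = mk (tv h u a')) : a = a' := by
  rw [← sg_zero h F.uu ha, ← sg_zero h F.uu ha'] at e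
  exact (mk_sg_inj h F (Wsp h u v).zero_mem (by rw [h.zero_left]; linear_combination ha)
    (Wsp h u v).zero_mem (by rw [h.zero_left]; linear_combination ha') e).2

theorem om_rel {β : MulAut Gb} {u v : V} {T : V → V} (hT : TRel h β u v T) (F : Frame f u v)
    {w w' : V} (hw : w ∈ Wsp h u v) (hw' : w' ∈ Wsp h u v) :
    β (mk (tv h u (f w w' - f w' w))) = mk (tv h u (f (T w) (T w') - f (T w') (T w))) := by
  obtain ⟨c, hc⟩ := exists_c h w
  obtain ⟨c', hc'⟩ := exists_c h w'
  obtain ⟨d, hd, e⟩ := hT.rel w hw c hc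
  obtain ⟨d', hd', e'⟩ := hT.rel w' hw' c' hc'
  have h1 := (mem_Wsp h u v _).1 hw
  have h2 := (mem_Wsp h u v _).1 hw'
  have h3 := (mem_Wsp h u v _).1 (hT.mem w hw)
  have h4 := (mem_Wsp h u v _).1 (hT.mem w' hw')
  have e1 := congrArg (fun g => β (mk g)) (sg_comm h F.uu h1.1 hc h2.1 hc')
  simp only [QuotientGroup.mk_mul, map_mul, e, e'] at e1
  have e2 := congrArg (fun g => mk g) (sg_comm h F.uu h3.1 hd h4.1 hd')
  simp only [QuotientGroup.mk_mul] at e2
  rw [e2] at e1
  exact (mul_left_cancel e1).symm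

theorem exists_gamma (hdim : 3 ≤ finrank K V) {β : MulAut Gb} {u v : V} {T T' : V → V}
    (hT : TRel h β u v T) (hT' : TRel h β⁻¹ u v T') (F : Frame f u v) (τ : K ≃+* K)
    (hτ : ∀ c, ∀ w ∈ Wsp h u v, T (c • w) = τ c • T w) :
    ∃ γ : K, γ ≠ 0 ∧ σ γ = γ ∧ (∀ c, τ (σ c) = σ (τ c)) ∧
      ∀ w ∈ Wsp h u v, ∀ w' ∈ Wsp h u v, f (T w) (T w') = γ * τ (f w w') := by
  obtain ⟨t, ht⟩ := Cfsg.Agent.Lib.Helper17Herm.exists_ne_fix σ h.ne_id
  obtain ⟨w0, hw0, h1, h2⟩ := exists_perp_two h hdim u v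
  have hw0W : w0 ∈ Wsp h u v := (mem_Wsp h u v w0).2 ⟨h1, h2⟩
  obtain ⟨x, hx⟩ := (herm_W h F).nondeg ⟨w0, hw0W⟩ (fun h0 => hw0 (congrArg Subtype.val h0))
  have hx' : f x.1 w0 ≠ 0 := hx
  set w1 := (f x.1 w0)⁻¹ • x.1 with hw1
  have hw1W : w1 ∈ Wsp h u v := (Wsp h u v).smul_mem _ x.2
  have h11 : f w1 w0 = 1 := by rw [hw1, h.smul_left, inv_mul_cancel₀ hx']
  set γ := f (T w1) (T w0) with hγ
  have main : ∀ w ∈ Wsp h u v, ∀ w' ∈ Wsp h u v, f (T w) (T w') = γ * τ (f w w') := by
    intro w hw w' hw'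
    have key : ∀ c : K, τ c * (f (T w) (T w') - γ * τ (f w w')) =
        σ (τ c * (f (T w) (T w') - γ * τ (f w w'))) := by
      intro c
      have e1 := om_rel h hT F ((Wsp h u v).smul_mem c hw) hw'
      have e2 := om_rel h hT F ((Wsp h u v).smul_mem (c * f w w') hw1W) hw0W
      have e3 : f (c • w) w' - f w' (c • w) = f ((c * f w w') • w1) w0 - f w0 ((c * f w w') • w1) := by
        rw [h.smul_left, h.smul_right, h.smul_left, h.smul_right, h11, h.herm w0 w1, h11,
          h.herm w' w, map_mul, map_one]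
        ring
      rw [e3, e2] at e1
      have e4 := mk_tv_inj h F (om_valid h _ _) (om_valid h _ _) e1
      rw [hτ _ _ hw, hτ _ _ hw1W, h.smul_left, h.smul_right, h.smul_left, h.smul_right,
        h.herm (T w0) (T w1), h.herm (T w') (T w), ← hγ, map_mul, map_mul] at e4
      rw [map_mul, map_sub, map_mul]
      linear_combination -e4
    have key' : ∀ c : K, c * (f (T w) (T w') - γ * τ (f w w')) =
        σ (c * (f (T w) (T w') - γ * τ (f w w'))) := by
      intro c
      have := key (τ.symm c)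
      rwa [RingEquiv.apply_symm_apply] at this
    have k1 := key' 1
    have k2 := key' t
    rw [one_mul] at k1
    rw [map_mul, ← k1] at k2
    have : (t - σ t) * (f (T w) (T w') - γ * τ (f w w')) = 0 := by linear_combination k2
    rcases mul_eq_zero.1 this with h5 | h5
    · exact absurd (sub_eq_zero.1 h5).symm ht
    · exact sub_eq_zero.1 h5
  have hγ0 : γ ≠ 0 := by
    intro h0
    have e1 := main _ (hT'.mem _ hw1W) _ (hT'.mem _ hw0W)
    rw [hT.apply_inv h hT' F hw1W, hT.apply_inv h hT' F hw0W, h11, h0, zero_mul] at e1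
    exact one_ne_zero e1
  have hcomm : ∀ c, γ * τ (σ c) = σ γ * σ (τ c) := by
    intro c
    have e1 := main _ hw0W _ ((Wsp h u v).smul_mem c hw1W)
    have e2 := main _ ((Wsp h u v).smul_mem c hw1W) _ hw0W
    rw [h.herm, e2, h.smul_left, h.smul_right, h11, h.herm w0 w1, h11, map_mul] at e1
    simp only [map_one, mul_one] at e1
    exact e1.symm
  have hγfix : σ γ = γ := by
    have := hcomm 1
    simpa using this.symm
  refine ⟨γ, hγ0, hγfix, fun c => ?_, main⟩
  have := hcomm c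
  rw [hγfix] at this
  exact mul_left_cancel₀ hγ0 this

omit [FiniteDimensional K V] in
include h in
lemma pr_add {u v : V} (x y : V) : pr f u v (x + y) = pr f u v x + pr f u v y := by
  simp only [pr, h.add_left]; module

omit [FiniteDimensional K V] in
include h in
lemma pr_smul {u v : V} (c : K) (x : V) : pr f u v (c • x) = c • pr f u v x := by
  simp only [pr, h.smul_left]; module

omit [FiniteDimensional K V] in
include h in
lemma form_decomp {u v : V} (F : Frame f u v) (x y : V) :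
    f x y = f x v * σ (f y u) + f x u * σ (f y v) + f (pr f u v x) (pr f u v y) := by
  conv_lhs => rw [decomp (f := f) u v x, decomp (f := f) u v y]
  simp only [h.add_left, h.add_right, h.smul_left, h.smul_right, F.uu, F.vv, F.uv, F.vu h,
    pr_u h F, pr_v h F, h.swap_zero (pr_u h F _), h.swap_zero (pr_v h F _)]
  ring

/-- the semilinear similitude attached to a framed automorphism -/
theorem exists_theta [Finite K] {β : MulAut Gb} {u v : V} {T T' : V → V}
    (hT : TRel h β u v T) (hT' : TRel h β⁻¹ u v T') (F : Frame f u v) (τ : K ≃+* K)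
    (hτ : ∀ c, ∀ w ∈ Wsp h u v, T (c • w) = τ c • T w) (γ : K) (hγ0 : γ ≠ 0) (hγ : σ γ = γ)
    (hcomm : ∀ c, τ (σ c) = σ (τ c))
    (hform : ∀ w ∈ Wsp h u v, ∀ w' ∈ Wsp h u v, f (T w) (T w') = γ * τ (f w w')) :
    ∃ Θ : V ≃+ V, SemiSim f τ γ Θ ∧ Θ u = γ • u ∧ Θ v = v ∧ ∀ w ∈ Wsp h u v, Θ w = T w := by
  haveI : Finite V := Module.finite_of_finite K
  have hT0 : T 0 = 0 := by
    have := hT.add h F (Wsp h u v).zero_mem (Wsp h u v).zero_mem
    simpa using this
  have hT'0 : T' 0 = 0 := by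
    have := hT'.add h F (Wsp h u v).zero_mem (Wsp h u v).zero_mem
    simpa using this
  let Θ0 : V →+ V :=
    { toFun := fun x => (γ * τ (f x v)) • u + τ (f x u) • v + T (pr f u v x)
      map_zero' := by
        simp [h.zero_left, pr, hT0]
      map_add' := by
        intro x y
        simp only [h.add_left, map_add, pr_add h, hT.add h F (pr_mem h F x) (pr_mem h F y)]
        module }
  have hΘ0 : ∀ x, Θ0 x = (γ * τ (f x v)) • u + τ (f x u) • v + T (pr f u v x) := fun x => rfl
  have hTu : ∀ x, f (T (pr f u v x)) u = 0 := fun x =>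
    ((mem_Wsp h u v _).1 (hT.mem _ (pr_mem h F x))).1
  have hTv : ∀ x, f (T (pr f u v x)) v = 0 := fun x =>
    ((mem_Wsp h u v _).1 (hT.mem _ (pr_mem h F x))).2
  have hinj : Function.Injective Θ0 := by
    rw [injective_iff_map_eq_zero]
    intro x hx
    rw [hΘ0] at hx
    have e1 := congrArg (fun y => f y v) hx
    have e2 := congrArg (fun y => f y u) hx
    simp only [h.add_left, h.smul_left, F.uu, F.vv, F.uv, F.vu h, hTu, hTv, h.zero_left] at e1 e2
    have e3 : f x v = 0 := by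
      have : γ * τ (f x v) = 0 := by linear_combination e1
      exact (map_eq_zero_iff τ τ.injective).1 ((mul_eq_zero.1 this).resolve_left hγ0)
    have e4 : f x u = 0 := by
      have : τ (f x u) = 0 := by linear_combination e2
      exact (map_eq_zero_iff τ τ.injective).1 this
    rw [e3, e4] at hx
    simp only [map_zero, mul_zero, zero_smul, zero_add] at hx
    have e5 := hT.inv_apply h hT' F (pr_mem h F x)
    rw [hx, hT'0] at e5
    have := decomp (f := f) u v x
    rw [e3, e4, ← e5] at this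
    simpa using this
  have hbij : Function.Bijective Θ0 := Finite.injective_iff_bijective.1 hinj
  refine ⟨AddEquiv.ofBijective Θ0 hbij, ⟨hγ0, ?_, ?_⟩, ?_, ?_, ?_⟩
  · intro c x
    show Θ0 (c • x) = τ c • Θ0 x
    rw [hΘ0, hΘ0, h.smul_left, h.smul_left, pr_smul h, hτ _ _ (pr_mem h F x), map_mul, map_mul]
    module
  · intro x y
    show f (Θ0 x) (Θ0 y) = _
    rw [hΘ0, hΘ0]
    simp only [h.add_left, h.add_right, h.smul_left, h.smul_right, F.uu, F.vv, F.uv, F.vu h,
      hTu, hTv, h.swap_zero (hTu _), h.swap_zero (hTv _), hform _ (pr_mem h F x) _ (pr_mem h F y)]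
    rw [form_decomp h F x y]
    simp only [map_add, map_mul, hcomm, hγ]
    ring
  · show Θ0 u = _
    rw [hΘ0, F.uu, F.uv]
    have : pr f u v u = 0 := by simp [pr, F.uu, F.uv]
    rw [this, hT0]
    simp
  · show Θ0 v = _
    rw [hΘ0, F.vv, F.vu h]
    have : pr f u v v = 0 := by simp [pr, F.vv, F.vu h]
    rw [this, hT0]
    simp
  · intro w hw
    have hw' := (mem_Wsp h u v w).1 hw
    show Θ0 w = _
    rw [hΘ0, hw'.1, hw'.2, pr_of_perp hw'.1 hw'.2]
    simp

end Cfsg.Agent.Lib.Helper50UTheta
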