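import Cfsg.Agent.Lib.Helper50UMain

set_option autoImplicit false

namespace Cfsg.Agent.Lib.Helper50UTriv

open Module Cfsg.Agent.Lib.Helper95Herm Cfsg.Agent.Lib.Helper95SU Cfsg.Agent.Lib.Helper95CU
  Cfsg.Agent.Lib.Helper50UGeom Cfsg.Agent.Lib.Helper50UGrp Cfsg.Agent.Lib.Helper50UPar
  Cfsg.Agent.Lib.Helper50URoot Cfsg.Agent.Lib.Helper50UStab Cfsg.Agent.Lib.Helper50USim
  Cfsg.Agent.Lib.Helper50UT Cfsg.Agent.Lib.Helper50UTau Cfsg.Agent.Lib.Helper50UTheta
  Cfsg.Agent.Lib.Helper50UFin Cfsg.Agent.Lib.Helper50UMain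

variable {K V : Type*} [Field K] [AddCommGroup V] [Module K V] {σ : K →+* K} {f : V → V → K}
variable [FiniteDimensional K V] (h : Herm σ f)

local notation "mk" => (QuotientGroup.mk : SUg f → SUg f ⧸ Subgroup.center (SUg f))

include h in
/-- vectors of the complement with prescribed norm -/
lemma exists_norm_W [Finite K] (hdim : 3 ≤ finrank K V) {u v : V} (F : Frame f u v) (d : K)
    (hd : σ d = d) : ∃ w ∈ Wsp h u v, f w w = d := by
  obtain ⟨w1, hw1, w0, hw0, h11⟩ := exists_pair h hdim F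
  obtain ⟨y, hy, hyy⟩ : ∃ y ∈ Wsp h u v, f y y ≠ 0 := by
    by_contra hcon
    push Not at hcon
    have := h.polar (Wsp h u v) hcon w1 hw1 w0 hw0
    rw [h11] at this
    exact one_ne_zero this
  obtain ⟨c, hc⟩ := h.norm_surj (d / f y y) (by rw [map_div₀, hd, h.self_fix])
  refine ⟨c • y, (Wsp h u v).smul_mem _ hy, ?_⟩
  rw [h.smul_left, h.smul_right, ← mul_assoc, hc]
  field_simp

include h in
/-- a semilinear similitude inducing the identity on `PSU` is a scalar -/
theorem trivial_semisim [Finite K] (hdim : 3 ≤ finrank K V) {u v : V} (F : Frame f u v)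
    {τ : K ≃+* K} {γ : K} {Θ : V ≃+ V} (hS : SemiSim f τ γ Θ) (hγ : σ γ = γ)
    (hcomm : ∀ c, τ (σ c) = σ (τ c)) (htriv : ∀ e : SUg f, mk (conjS hS e) = mk e) :
    τ = RingEquiv.refl K ∧ ∃ c : K, ∀ x, Θ x = c • x := by
  obtain ⟨a0, ha0, ha0'⟩ := h.exists_z
  have step1 : ∀ y z : V, Frame f y z → ∃ c : K, Θ y = c • y := by
    intro y z Fyz
    obtain ⟨hv, e1⟩ := conjS_tv h hS hγ hcomm Fyz.uu ha0'
    have e2 := htriv (tv h y a0)
    rw [e1] at e2
    obtain ⟨-, c, hc, e3⟩ := X1 h hdim Fyz (by rw [hS.form, Fyz.uu, map_zero, mul_zero]) ha0' hv ha0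
      e2.symm
    refine ⟨c⁻¹, ?_⟩
    conv_rhs => rw [e3]
    rw [smul_smul, inv_mul_cancel₀ hc, one_smul]
  obtain ⟨cu, hcu⟩ := step1 u v F
  obtain ⟨cv, hcv⟩ := step1 v u (F.symm h)
  have hγ0 := hS.ne
  have hΘW : ∀ w ∈ Wsp h u v, f (Θ w) u = 0 ∧ f (Θ w) v = 0 := by
    intro w hw
    rw [mem_Wsp] at hw
    have hcu0 : cu ≠ 0 := by
      rintro rfl
      rw [zero_smul] at hcu
      exact F.u_ne h (Θ.injective (by rw [hcu, map_zero]))
    have hcv0 : cv ≠ 0 := by
      rintro rfl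
      rw [zero_smul] at hcv
      exact F.v_ne h (Θ.injective (by rw [hcv, map_zero]))
    have e1 := hS.form w u
    have e2 := hS.form w v
    rw [hcu, h.smul_right, hw.1, map_zero, mul_zero] at e1
    rw [hcv, h.smul_right, hw.2, map_zero, mul_zero] at e2
    exact ⟨(mul_eq_zero.1 e1).resolve_left (sig_ne h hcu0),
      (mul_eq_zero.1 e2).resolve_left (sig_ne h hcv0)⟩
  have step2 : ∀ w ∈ Wsp h u v, ∀ c, c + σ c = - f w w → Θ w = cv • w ∧ τ c * cu = c * cv := by
    intro w hw c hc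
    have hw' := (mem_Wsp h u v w).1 hw
    have F2 := frame_shift h F w c hw'.1 hw'.2 hc
    obtain ⟨c2, hc2⟩ := step1 _ _ F2
    rw [map_add, map_add, hS.smul, hcu, hcv] at hc2
    have e1 := congrArg (fun x => f x u) hc2
    have e2 := congrArg (fun x => f x v) hc2
    simp only [h.add_left, h.smul_left, F.uu, F.vv, F.uv, F.vu h, (hΘW w hw).1, (hΘW w hw).2, hw'.1,
      hw'.2] at e1 e2
    have e3 : c2 = cv := by linear_combination -e1
    subst e3
    refine ⟨?_, by linear_combination e2⟩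
    have e4 : τ c * cu = c2 * c := by linear_combination e2
    have e5 : c2 • v + Θ w + τ c • cu • u = c2 • v + c2 • w + τ c • cu • u := by
      rw [hc2, smul_smul, e4]; module
    exact add_left_cancel (add_right_cancel e5)
  have hall : ∀ c : K, τ c * cu = c * cv := by
    intro c
    obtain ⟨w, hw, hww⟩ := exists_norm_W h hdim F (-(c + σ c)) (by
      rw [map_neg, map_add, h.invol]; ring)
    exact (step2 w hw c (by rw [hww]; ring)).2
  have hcc : cu = cv := by
    have := hall 1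
    simpa using this
  have hcu0 : cu ≠ 0 := by
    rintro rfl
    rw [zero_smul] at hcu
    exact F.u_ne h (Θ.injective (by rw [hcu, map_zero]))
  have hτ : ∀ c, τ c = c := by
    intro c
    have := hall c
    rw [← hcc] at this
    exact mul_right_cancel₀ hcu0 this
  refine ⟨RingEquiv.ext hτ, cv, fun x => ?_⟩
  obtain ⟨c, hc⟩ := exists_c h (pr f u v x)
  have e1 := (step2 _ (pr_mem h F x) c hc).1
  conv_lhs => rw [decomp (f := f) u v x]
  rw [map_add, map_add, hS.smul, hS.smul, hτ, hτ, hcu, hcv, e1, hcc]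
  conv_rhs => rw [decomp (f := f) u v x]
  module

end Cfsg.Agent.Lib.Helper50UTriv
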