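import Mathlib
import Cfsg.Agent.Lib.Helper69Syl
import Cfsg.Agent.S3335

set_option autoImplicit false

/-!
Central extensions of alternating groups from elements which satisfy the relations of the
alternating group modulo a central subgroup.
-/

namespace Cfsg.Agent.Lib.Helper69AltCover

open Cfsg Cfsg.Agent.Lib.Helper69Schur Cfsg.Agent.Lib.Helper69Syl
open scoped commutatorElement

/-- the relators of the alternating group -/
abbrev rels (n : ℕ) : Set (FreeGroup (Fin (n - 2))) :=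
  ({g : FreeGroup (Fin (n - 2)) | ∃ i : Fin (n - 2), i.val = 0 ∧ g = FreeGroup.of i ^ 3} ∪
       {g | ∃ i : Fin (n - 2), 1 ≤ i.val ∧ g = FreeGroup.of i ^ 2} ∪
       {g | ∃ i j : Fin (n - 2), j.val = i.val + 1 ∧ g = (FreeGroup.of i * FreeGroup.of j) ^ 3} ∪
       {g | ∃ i j : Fin (n - 2), i.val + 1 < j.val ∧ g = (FreeGroup.of i * FreeGroup.of j) ^ 2})

variable {n : ℕ} {E : Type*} [Group E] (X : Fin (n - 2) → E) (Z : Subgroup E)

/-- the group generated by the lifts and the central subgroup -/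
def YY : Subgroup E := Subgroup.closure (Set.range X ∪ (Z : Set E))

theorem X_mem (i : Fin (n - 2)) : X i ∈ YY X Z := Subgroup.subset_closure (Or.inl ⟨i, rfl⟩)

theorem Z_le : Z ≤ YY X Z := fun _ hz => Subgroup.subset_closure (Or.inr hz)

variable {X Z}

theorem subgroupOf_le_center (hZX : ∀ z ∈ Z, ∀ i, z * X i = X i * z)
    (hZZ : ∀ z ∈ Z, ∀ w ∈ Z, z * w = w * z) :
    Z.subgroupOf (YY X Z) ≤ Subgroup.center (YY X Z) := by
  intro z hz
  rw [Subgroup.mem_subgroupOf] at hz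
  rw [Subgroup.mem_center_iff]
  intro y
  apply Subtype.ext
  have hle : YY X Z ≤ Subgroup.centralizer {(z : E)} := by
    unfold YY
    rw [Subgroup.closure_le]
    rintro x (⟨i, rfl⟩ | hx)
    · rw [SetLike.mem_coe, Subgroup.mem_centralizer_singleton_iff]
      exact (hZX _ hz i).symm
    · rw [SetLike.mem_coe, Subgroup.mem_centralizer_singleton_iff]
      exact (hZZ _ hz x hx).symm
  have := hle y.2
  rw [Subgroup.mem_centralizer_singleton_iff] at this
  exact this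

/-- the map from the alternating group onto the quotient -/
theorem exists_surj (hn : 3 ≤ n) [hnorm : (Z.subgroupOf (YY X Z)).Normal]
    (h0 : ∀ i : Fin (n - 2), i.val = 0 → X i ^ 3 ∈ Z)
    (h1 : ∀ i : Fin (n - 2), 1 ≤ i.val → X i ^ 2 ∈ Z)
    (h2 : ∀ i j : Fin (n - 2), j.val = i.val + 1 → (X i * X j) ^ 3 ∈ Z)
    (h3 : ∀ i j : Fin (n - 2), i.val + 1 < j.val → (X i * X j) ^ 2 ∈ Z) :
    ∃ (t : Fin (n - 2) → alternatingGroup (Fin n))
      (ψ : alternatingGroup (Fin n) →* YY X Z ⧸ Z.subgroupOf (YY X Z)),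
      Function.Surjective ψ ∧ (∀ i, ψ (t i) = QuotientGroup.mk ⟨X i, X_mem X Z i⟩) ∧
      ∀ i, 1 ≤ i.val → t i ^ 2 = 1 := by
  obtain ⟨e⟩ : Nonempty (PresentedGroup (rels n) ≃* alternatingGroup (Fin n)) :=
    Cfsg.Agent.S3335.result n hn
  let f : Fin (n - 2) → YY X Z ⧸ Z.subgroupOf (YY X Z) := fun i => QuotientGroup.mk ⟨X i, X_mem X Z i⟩
  have hmk : ∀ y : YY X Z, (y : E) ∈ Z →
      (QuotientGroup.mk y : YY X Z ⧸ Z.subgroupOf (YY X Z)) = 1 := by
    intro y hy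
    rw [QuotientGroup.eq_one_iff]
    exact hy
  let φ : PresentedGroup (rels n) →* YY X Z ⧸ Z.subgroupOf (YY X Z) :=
    PresentedGroup.toGroup (rels := rels n) (f := f) (by
    rintro r (((⟨i, hi, rfl⟩ | ⟨i, hi, rfl⟩) | ⟨i, j, hij, rfl⟩) | ⟨i, j, hij, rfl⟩)
    · rw [map_pow, FreeGroup.lift_apply_of]
      exact hmk (⟨X i, X_mem X Z i⟩ ^ 3) (h0 i hi)
    · rw [map_pow, FreeGroup.lift_apply_of]
      exact hmk (⟨X i, X_mem X Z i⟩ ^ 2) (h1 i hi)
    · rw [map_pow, map_mul, FreeGroup.lift_apply_of, FreeGroup.lift_apply_of]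
      exact hmk ((⟨X i, X_mem X Z i⟩ * ⟨X j, X_mem X Z j⟩) ^ 3) (h2 i j hij)
    · rw [map_pow, map_mul, FreeGroup.lift_apply_of, FreeGroup.lift_apply_of]
      exact hmk ((⟨X i, X_mem X Z i⟩ * ⟨X j, X_mem X Z j⟩) ^ 2) (h3 i j hij))
  have hφ : ∀ i, φ (PresentedGroup.of i) = f i := fun i => PresentedGroup.toGroup.of _
  have hsurjφ : Function.Surjective φ := by
    rw [← MonoidHom.range_eq_top, eq_top_iff]
    intro q hq
    clear hq
    obtain ⟨⟨y, hy⟩, rfl⟩ := QuotientGroup.mk_surjective q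
    induction hy using Subgroup.closure_induction with
    | mem x hx =>
      rcases hx with ⟨i, rfl⟩ | hx
      · exact ⟨_, hφ i⟩
      · rw [hmk _ hx]
        exact Subgroup.one_mem _
    | one => exact Subgroup.one_mem _
    | mul a b ha hb iha ihb => exact Subgroup.mul_mem _ iha ihb
    | inv a ha iha => exact Subgroup.inv_mem _ iha
  refine ⟨fun i => e (PresentedGroup.of i), φ.comp e.symm.toMonoidHom,
    hsurjφ.comp e.symm.surjective, ?_, ?_⟩
  · intro i
    change φ (e.symm (e (PresentedGroup.of i))) = f i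
    rw [e.symm_apply_apply, hφ]
  · intro i hi
    change e (PresentedGroup.of i) ^ 2 = 1
    rw [← map_pow, e.map_eq_one_iff]
    exact (QuotientGroup.eq_one_iff (N := Subgroup.normalClosure (rels n))
      (FreeGroup.of i ^ 2)).2
      (Subgroup.subset_normalClosure (Or.inl (Or.inl (Or.inr ⟨i, hi, rfl⟩))))

/-- from an injective map to the extension -/
theorem exists_of_injective [hnorm : (Z.subgroupOf (YY X Z)).Normal]
    (ψ : alternatingGroup (Fin n) →* YY X Z ⧸ Z.subgroupOf (YY X Z))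
    (hsurjψ : Function.Surjective ψ) (hinjψ : Function.Injective ψ) :
    ∃ ξ : YY X Z →* alternatingGroup (Fin n), Function.Surjective ξ ∧
      ξ.ker = Z.subgroupOf (YY X Z) := by
  let ψe := MulEquiv.ofBijective ψ ⟨hinjψ, hsurjψ⟩
  refine ⟨ψe.symm.toMonoidHom.comp (QuotientGroup.mk' _),
    ψe.symm.surjective.comp (QuotientGroup.mk'_surjective _), ?_⟩
  ext y
  rw [MonoidHom.mem_ker]
  change ψe.symm (QuotientGroup.mk y) = 1 ↔ _
  rw [ψe.symm.map_eq_one_iff, QuotientGroup.eq_one_iff]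

/-- the central extension -/
theorem exists_central_ext (hn : 5 ≤ n) (hZX : ∀ z ∈ Z, ∀ i, z * X i = X i * z)
    (hZZ : ∀ z ∈ Z, ∀ w ∈ Z, z * w = w * z)
    (h0 : ∀ i : Fin (n - 2), i.val = 0 → X i ^ 3 ∈ Z)
    (h1 : ∀ i : Fin (n - 2), 1 ≤ i.val → X i ^ 2 ∈ Z)
    (h2 : ∀ i j : Fin (n - 2), j.val = i.val + 1 → (X i * X j) ^ 3 ∈ Z)
    (h3 : ∀ i j : Fin (n - 2), i.val + 1 < j.val → (X i * X j) ^ 2 ∈ Z)
    (hne : ∃ i, X i ∉ Z) :
    ∃ ξ : YY X Z →* alternatingGroup (Fin n), Function.Surjective ξ ∧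
      ξ.ker = Z.subgroupOf (YY X Z) := by
  have hcen := subgroupOf_le_center hZX hZZ
  have hnorm : (Z.subgroupOf (YY X Z)).Normal := normal_of_le_center hcen
  obtain ⟨t, ψ, hsurjψ, hψ, -⟩ := exists_surj (by omega) h0 h1 h2 h3
  have hsimple : IsSimpleGroup (alternatingGroup (Fin n)) :=
    alternatingGroup.isSimpleGroup (by simpa using hn)
  have hinjψ : Function.Injective ψ := by
    rw [← MonoidHom.ker_eq_bot_iff]
    rcases hsimple.eq_bot_or_eq_top_of_normal ψ.ker inferInstance with h | h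
    · exact h
    · exfalso
      obtain ⟨i, hi⟩ := hne
      apply hi
      have h4 : ψ (t i) = 1 := by
        rw [← MonoidHom.mem_ker, h]; trivial
      rw [hψ] at h4
      exact (QuotientGroup.eq_one_iff (⟨X i, X_mem X Z i⟩ : YY X Z)).1 h4
  exact exists_of_injective ψ hsurjψ hinjψ

theorem a4_normal : ∀ g t : alternatingGroup (Fin 4), g ≠ 1 → t ^ 2 = 1 →
    ∃ a b : alternatingGroup (Fin 4), t = a * g * a⁻¹ * (b * g⁻¹ * b⁻¹) := by decide +kernel

theorem a4_comm : ∀ t : alternatingGroup (Fin 4), t ^ 2 = 1 →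
    ∃ a b : alternatingGroup (Fin 4), t = ⁅a, b⁆ := by decide +kernel

/-- the central extension, also for degree four -/
theorem exists_central_ext' (hn : 4 ≤ n) (hZX : ∀ z ∈ Z, ∀ i, z * X i = X i * z)
    (hZZ : ∀ z ∈ Z, ∀ w ∈ Z, z * w = w * z)
    (h0 : ∀ i : Fin (n - 2), i.val = 0 → X i ^ 3 ∈ Z)
    (h1 : ∀ i : Fin (n - 2), 1 ≤ i.val → X i ^ 2 ∈ Z)
    (h2 : ∀ i j : Fin (n - 2), j.val = i.val + 1 → (X i * X j) ^ 3 ∈ Z)
    (h3 : ∀ i j : Fin (n - 2), i.val + 1 < j.val → (X i * X j) ^ 2 ∈ Z)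
    (hne : ∃ i : Fin (n - 2), 1 ≤ i.val ∧ X i ∉ Z) :
    ∃ ξ : YY X Z →* alternatingGroup (Fin n), Function.Surjective ξ ∧
      ξ.ker = Z.subgroupOf (YY X Z) := by
  rcases Nat.lt_or_ge 4 n with h5 | h4
  · obtain ⟨i, -, hi⟩ := hne
    exact exists_central_ext h5 hZX hZZ h0 h1 h2 h3 ⟨i, hi⟩
  obtain rfl : n = 4 := le_antisymm h4 hn
  have hcen := subgroupOf_le_center hZX hZZ
  have hnorm : (Z.subgroupOf (YY X Z)).Normal := normal_of_le_center hcen
  obtain ⟨t, ψ, hsurjψ, hψ, ht⟩ := exists_surj (by omega) h0 h1 h2 h3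
  have hinjψ : Function.Injective ψ := by
    rw [← MonoidHom.ker_eq_bot_iff, Subgroup.eq_bot_iff_forall]
    intro g hg
    by_contra hg1
    obtain ⟨i, hi1, hi⟩ := hne
    apply hi
    obtain ⟨a, b, hab⟩ := a4_normal g (t i) hg1 (ht i hi1)
    have h4 : ψ (t i) = 1 := by
      rw [MonoidHom.mem_ker] at hg
      rw [hab]
      simp only [map_mul, map_inv, hg, mul_one, inv_one, mul_inv_cancel]
    rw [hψ] at h4
    exact (QuotientGroup.eq_one_iff (⟨X i, X_mem X Z i⟩ : YY X Z)).1 h4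
  exact exists_of_injective ψ hsurjψ hinjψ

/-- squares of lifts of elements of the commutator subgroup, for a kernel of exponent two -/
theorem sq_mem_commutator {Y Q : Type*} [Group Y] [Group Q] (ξ : Y →* Q)
    (hξ : Function.Surjective ξ) (hc : ξ.ker ≤ Subgroup.center Y) (h2 : ∀ k ∈ ξ.ker, k ^ 2 = 1)
    (y : Y) (hy : ξ y ∈ commutator Q) : y ^ 2 ∈ commutator Y := by
  have hmap : (commutator Y).map ξ = commutator Q := by
    rw [commutator_def, Subgroup.map_commutator, ← MonoidHom.range_eq_map,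
      MonoidHom.range_eq_top.2 hξ, commutator_def]
  rw [← hmap] at hy
  obtain ⟨y', hy', he⟩ := hy
  have hk : y'⁻¹ * y ∈ ξ.ker := by
    rw [MonoidHom.mem_ker, map_mul, map_inv, he, inv_mul_cancel]
  have hkc := Subgroup.mem_center_iff.1 (hc hk)
  have hy2 : y ^ 2 = y' ^ 2 := by
    have e1 : y = y' * (y'⁻¹ * y) := by group
    generalize y'⁻¹ * y = k at hk hkc e1
    calc y ^ 2 = y' * k * (y' * k) := by rw [← e1, pow_two]
      _ = y' * (k * y') * k := by simp only [mul_assoc]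
      _ = y' * (y' * k) * k := by rw [hkc y']
      _ = y' ^ 2 * k ^ 2 := by simp only [pow_two, mul_assoc]
      _ = y' ^ 2 := by rw [h2 _ hk, mul_one]
  rw [hy2]
  exact Subgroup.pow_mem _ hy' 2

/-- involutions of alternating groups of degree at least four are in the commutator subgroup -/
theorem mem_commutator_of_sq (hn : 4 ≤ n) (t : alternatingGroup (Fin n)) (ht : t ^ 2 = 1) :
    t ∈ commutator (alternatingGroup (Fin n)) := by
  rcases Nat.lt_or_ge 4 n with h5 | h4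
  · rw [commutator_alternatingGroup_eq_top (by rw [Nat.card_eq_fintype_card, Fintype.card_fin]; omega)]
    trivial
  obtain rfl : n = 4 := le_antisymm h4 hn
  obtain ⟨a, b, rfl⟩ := a4_comm t ht
  exact Subgroup.commutator_mem_commutator (Subgroup.mem_top _) (Subgroup.mem_top _)

/-- a commutator of prime order in the central subgroup divides the order of the multiplier -/
theorem dvd_card_mult (hn : 5 ≤ n) (hZX : ∀ z ∈ Z, ∀ i, z * X i = X i * z)
    (hZZ : ∀ z ∈ Z, ∀ w ∈ Z, z * w = w * z)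
    (h0 : ∀ i : Fin (n - 2), i.val = 0 → X i ^ 3 ∈ Z)
    (h1 : ∀ i : Fin (n - 2), 1 ≤ i.val → X i ^ 2 ∈ Z)
    (h2 : ∀ i j : Fin (n - 2), j.val = i.val + 1 → (X i * X j) ^ 3 ∈ Z)
    (h3 : ∀ i j : Fin (n - 2), i.val + 1 < j.val → (X i * X j) ^ 2 ∈ Z)
    (hne : ∃ i, X i ∉ Z) {A : Type*} [CommGroup A]
    (hA : HasSchurMultiplier (alternatingGroup (Fin n)) A) {a b : E} (ha : a ∈ YY X Z)
    (hb : b ∈ YY X Z) (hc : ⁅a, b⁆ ∈ Z) : orderOf ⁅a, b⁆ ∣ Nat.card A := by
  obtain ⟨ξ, hξ, hker⟩ := exists_central_ext hn hZX hZZ h0 h1 h2 h3 hne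
  have hcen := subgroupOf_le_center hZX hZZ
  obtain ⟨f, hf⟩ := exists_surj_of_hasSchurMultiplier hA ξ hξ (hker ▸ hcen)
  have hmem : (⁅(⟨a, ha⟩ : YY X Z), ⟨b, hb⟩⁆ : YY X Z) ∈ ξ.ker ⊓ commutator (YY X Z) := by
    refine ⟨?_, ?_⟩
    · rw [hker]
      exact hc
    · exact Subgroup.commutator_mem_commutator (Subgroup.mem_top _) (Subgroup.mem_top _)
  have h5 : orderOf (⟨_, hmem⟩ : ↥(ξ.ker ⊓ commutator (YY X Z))) = orderOf ⁅a, b⁆ := by
    rw [Subgroup.orderOf_mk]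
    exact (Subgroup.orderOf_coe (⁅(⟨a, ha⟩ : YY X Z), ⟨b, hb⟩⁆ : YY X Z)).symm
  rw [← h5]
  exact (orderOf_dvd_natCard _).trans (Subgroup.card_dvd_of_surjective f hf)

end Cfsg.Agent.Lib.Helper69AltCover
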