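import Mathlib
import Cfsg.Agent.Lib.Helper69AltCover

set_option autoImplicit false

/-!
The double cover of the alternating groups inside the units of a Clifford algebra.
-/

namespace Cfsg.Agent.Lib.Helper69Cliff

open Cfsg Cfsg.Agent.Lib.Helper69AltCover
open scoped commutatorElement

section grp

variable {E : Type*} [Group E] [HasDistribNeg E]

theorem sq_of_anti {a b : E} (ha : a * a = 1) (hb : b * b = 1) (h : a * b = -(b * a)) :
    (a * b) ^ 2 = -1 := by
  rw [pow_two]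
  nth_rewrite 2 [h]
  rw [mul_neg, mul_assoc, ← mul_assoc b b a, hb, one_mul, ha]

variable {m : ℕ} {U : Fin m → E}

/-- the central subgroup of order two -/
def ZZ (E : Type*) [Group E] [HasDistribNeg E] : Subgroup E := Subgroup.zpowers (-1 : E)

theorem neg_one_mem : (-1 : E) ∈ ZZ E := Subgroup.mem_zpowers _

theorem mem_ZZ {z : E} (hz : z ∈ ZZ E) : z = 1 ∨ z = -1 := by
  obtain ⟨k, rfl⟩ := Subgroup.mem_zpowers_iff.1 hz
  have h2 : (-1 : E) ^ (2 : ℤ) = 1 := by rw [zpow_two, neg_mul_neg, one_mul]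
  rcases Int.even_or_odd k with h | h
  · left
    obtain ⟨r, rfl⟩ := h
    rw [← two_mul, zpow_mul, h2, one_zpow]
  · right
    obtain ⟨r, rfl⟩ := h
    rw [zpow_add, zpow_one, zpow_mul, h2, one_zpow, one_mul]

theorem ZZ_comm {z : E} (hz : z ∈ ZZ E) (x : E) : z * x = x * z := by
  rcases mem_ZZ hz with rfl | rfl
  · rw [one_mul, mul_one]
  · rw [neg_one_mul, mul_neg_one]

/-- the lifts of the generators of the alternating group -/
def X (U : Fin m → E) (h : 2 ≤ m) (i : Fin (m + 1 - 2)) : E :=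
  U ⟨0, by omega⟩ * U ⟨i.val + 1, by omega⟩

variable (hU1 : ∀ k, U k * U k = 1)
  (hU2 : ∀ k l : Fin m, l.val = k.val + 1 → (U k * U l) ^ 3 = 1)
  (hU3 : ∀ k l : Fin m, k.val + 1 < l.val → U k * U l = -(U l * U k))

omit [HasDistribNeg E] in
include hU2 in
theorem X_zero (h : 2 ≤ m) (i : Fin (m + 1 - 2)) (hi : i.val = 0) : X U h i ^ 3 = 1 :=
  hU2 _ _ (by simp [hi])

include hU1 hU3 in
theorem X_sq (h : 2 ≤ m) (i : Fin (m + 1 - 2)) (hi : 1 ≤ i.val) : X U h i ^ 2 = -1 :=
  sq_of_anti (hU1 _) (hU1 _) (hU3 _ _ (by simp; omega))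

include hU1 hU3 in
theorem X_mul (h : 2 ≤ m) (i j : Fin (m + 1 - 2)) (hi : 1 ≤ i.val) :
    X U h i * X U h j = -(U ⟨i.val + 1, by omega⟩ * U ⟨j.val + 1, by omega⟩) := by
  unfold X
  rw [hU3 ⟨0, by omega⟩ ⟨i.val + 1, by omega⟩ (by simp; omega), neg_mul, mul_assoc,
    ← mul_assoc (U ⟨0, by omega⟩), hU1, one_mul]

include hU1 hU2 hU3 in
theorem X_adj (h : 2 ≤ m) (i j : Fin (m + 1 - 2)) (hij : j.val = i.val + 1) :
    (X U h i * X U h j) ^ 3 = -1 := by
  by_cases hi : 1 ≤ i.val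
  · rw [X_mul hU1 hU3 h i j hi, Odd.neg_pow (by decide), hU2 _ _ (by simp [hij])]
  · have hi0 : i.val = 0 := by omega
    have h1 : X U h i * X U h j = -(U ⟨0, by omega⟩ *
        (U ⟨i.val + 1, by omega⟩ * U ⟨j.val + 1, by omega⟩) * (U ⟨0, by omega⟩)⁻¹) := by
      have hinv : (U ⟨0, by omega⟩)⁻¹ = U ⟨0, by omega⟩ := inv_eq_of_mul_eq_one_left (hU1 _)
      rw [hinv]
      unfold X
      rw [hU3 ⟨0, by omega⟩ ⟨j.val + 1, by omega⟩ (by simp; omega), mul_neg]
      simp only [mul_assoc]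
    rw [h1, Odd.neg_pow (by decide), conj_pow, hU2 _ _ (by simp [hij]), mul_one, mul_inv_cancel]

include hU1 hU3 in
theorem X_far (h : 2 ≤ m) (i j : Fin (m + 1 - 2)) (hij : i.val + 1 < j.val) :
    (X U h i * X U h j) ^ 2 = -1 := by
  by_cases hi : 1 ≤ i.val
  · rw [X_mul hU1 hU3 h i j hi, Even.neg_pow (by decide)]
    exact sq_of_anti (hU1 _) (hU1 _) (hU3 _ _ (by simp; omega))
  · have hi0 : i.val = 0 := by omega
    have h1 : X U h i * X U h j = (U ⟨0, by omega⟩ * U ⟨i.val + 1, by omega⟩ * U ⟨0, by omega⟩) *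
        U ⟨j.val + 1, by omega⟩ := by
      unfold X
      simp only [mul_assoc]
    rw [h1]
    apply sq_of_anti _ (hU1 _)
    · have e1 := hU3 ⟨0, by omega⟩ ⟨j.val + 1, by omega⟩ (by simp; omega)
      have e2 := hU3 ⟨i.val + 1, by omega⟩ ⟨j.val + 1, by omega⟩ (by simp; omega)
      calc U ⟨0, by omega⟩ * U ⟨i.val + 1, by omega⟩ * U ⟨0, by omega⟩ * U ⟨j.val + 1, by omega⟩
          = U ⟨0, by omega⟩ * U ⟨i.val + 1, by omega⟩ *
              (U ⟨0, by omega⟩ * U ⟨j.val + 1, by omega⟩) := by simp only [mul_assoc]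
        _ = -(U ⟨0, by omega⟩ * (U ⟨i.val + 1, by omega⟩ * U ⟨j.val + 1, by omega⟩) *
              U ⟨0, by omega⟩) := by rw [e1, mul_neg]; simp only [mul_assoc]
        _ = (U ⟨0, by omega⟩ * U ⟨j.val + 1, by omega⟩) * U ⟨i.val + 1, by omega⟩ *
              U ⟨0, by omega⟩ := by
            rw [e2, mul_neg, neg_mul, neg_neg]; simp only [mul_assoc]
        _ = -(U ⟨j.val + 1, by omega⟩ *
              (U ⟨0, by omega⟩ * U ⟨i.val + 1, by omega⟩ * U ⟨0, by omega⟩)) := by
            rw [e1, neg_mul, neg_mul]; simp only [mul_assoc]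
    · calc U ⟨0, by omega⟩ * U ⟨i.val + 1, by omega⟩ * U ⟨0, by omega⟩ *
            (U ⟨0, by omega⟩ * U ⟨i.val + 1, by omega⟩ * U ⟨0, by omega⟩)
          = U ⟨0, by omega⟩ * (U ⟨i.val + 1, by omega⟩ * (U ⟨0, by omega⟩ * U ⟨0, by omega⟩) *
              U ⟨i.val + 1, by omega⟩) * U ⟨0, by omega⟩ := by simp only [mul_assoc]
        _ = 1 := by rw [hU1, mul_one, hU1, mul_one, hU1]

include hU1 hU3 in
theorem X_one_not_mem (hne : (-1 : E) ≠ 1) (h : 3 ≤ m) :
    X U (by omega) ⟨1, by omega⟩ ∉ ZZ E := by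
  intro hmem
  have h2 := X_sq hU1 hU3 (by omega) ⟨1, by omega⟩ le_rfl
  rcases mem_ZZ hmem with h1 | h1
  · rw [h1, one_pow] at h2
    exact hne h2.symm
  · rw [h1, Even.neg_pow (by decide), one_pow] at h2
    exact hne h2.symm

end grp

section ring

variable {R : Type*} [Ring R]

theorem cube_of_braid {a b : R} (ha : a * a = 1) (hb : b * b = 1) (h : a * b + b * a = -1) :
    (a * b) ^ 3 = 1 := by
  have h1 : a * b * (b * a) = 1 := by rw [mul_assoc, ← mul_assoc b b a, hb, one_mul, ha]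
  have h2 : b * a = -1 - a * b := by rw [← h]; abel
  rw [h2, mul_sub, mul_neg, mul_one] at h1
  have h3 : a * b * (a * b) = -(a * b) - 1 := by rw [← h1]; abel
  rw [pow_succ, pow_two, h3, sub_mul, neg_mul, h3, one_mul]
  abel

variable {m : ℕ} (g : Fin m → R) (hg1 : ∀ k, g k * g k = 1)

/-- the units defined by the reflections -/
def UU : Fin m → Rˣ := fun k => ⟨g k, g k, hg1 k, hg1 k⟩

theorem UU_sq (k : Fin m) : UU g hg1 k * UU g hg1 k = 1 := Units.ext (hg1 k)

theorem UU_braid (hg2 : ∀ k l : Fin m, l.val = k.val + 1 → g k * g l + g l * g k = -1)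
    (k l : Fin m) (hkl : l.val = k.val + 1) : (UU g hg1 k * UU g hg1 l) ^ 3 = 1 :=
  Units.ext (cube_of_braid (hg1 k) (hg1 l) (hg2 k l hkl))

theorem UU_anti (hg3 : ∀ k l : Fin m, k.val + 1 < l.val → g k * g l + g l * g k = 0)
    (k l : Fin m) (hkl : k.val + 1 < l.val) :
    UU g hg1 k * UU g hg1 l = -(UU g hg1 l * UU g hg1 k) :=
  Units.ext (eq_neg_of_add_eq_zero_left (hg3 k l hkl))

end ring

section cliff

/-- the Gram matrix -/
def MM (m : ℕ) : Matrix (Fin m) (Fin m) ℚ :=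
  fun i j => if i = j then 1 else if i.val + 1 = j.val then -1 else 0

/-- the quadratic form -/
noncomputable def QQ (m : ℕ) : QuadraticForm ℚ (Fin m → ℚ) :=
  LinearMap.BilinMap.toQuadraticMap (Matrix.toBilin' (MM m))

/-- the reflections -/
noncomputable def gg (m : ℕ) (k : Fin m) : CliffordAlgebra (QQ m) :=
  CliffordAlgebra.ι (QQ m) (Pi.single k 1)

theorem gg_sq (m : ℕ) (k : Fin m) : gg m k * gg m k = 1 := by
  unfold gg
  rw [CliffordAlgebra.ι_sq_scalar]
  unfold QQ
  rw [LinearMap.BilinMap.toQuadraticMap_apply, Matrix.toBilin'_single]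
  simp [MM]

theorem gg_swap (m : ℕ) (k l : Fin m) : gg m k * gg m l + gg m l * gg m k =
    algebraMap ℚ _ (MM m k l + MM m l k) := by
  unfold gg
  rw [CliffordAlgebra.ι_mul_ι_add_swap]
  unfold QQ
  rw [LinearMap.BilinMap.polar_toQuadraticMap, Matrix.toBilin'_single, Matrix.toBilin'_single]

theorem gg_braid (m : ℕ) (k l : Fin m) (hkl : l.val = k.val + 1) :
    gg m k * gg m l + gg m l * gg m k = -1 := by
  rw [gg_swap]
  have h1 : MM m k l = -1 := by
    unfold MM
    rw [if_neg (by intro e; rw [e] at hkl; omega), if_pos hkl.symm]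
  have h2 : MM m l k = 0 := by
    unfold MM
    rw [if_neg (by intro e; rw [e] at hkl; omega), if_neg (by omega)]
  rw [h1, h2, add_zero, map_neg, map_one]

theorem gg_anti (m : ℕ) (k l : Fin m) (hkl : k.val + 1 < l.val) :
    gg m k * gg m l + gg m l * gg m k = 0 := by
  rw [gg_swap]
  have h1 : MM m k l = 0 := by
    unfold MM
    rw [if_neg (by intro e; rw [e] at hkl; omega), if_neg (by omega)]
  have h2 : MM m l k = 0 := by
    unfold MM
    rw [if_neg (by intro e; rw [e] at hkl; omega), if_neg (by omega)]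
  rw [h1, h2, add_zero, map_zero]

theorem neg_one_ne (m : ℕ) : (-1 : (CliffordAlgebra (QQ m))ˣ) ≠ 1 := by
  intro h
  have h1 : (-1 : CliffordAlgebra (QQ m)) = 1 := congrArg Units.val h
  have : Invertible (2 : ℚ) := ⟨1 / 2, by norm_num, by norm_num⟩
  have h2 : algebraMap ℚ (CliffordAlgebra (QQ m)) (-1) = algebraMap ℚ _ 1 := by
    rw [map_neg, map_one, h1]
  have := (algebraMap ℚ (CliffordAlgebra (QQ m))).injective h2
  norm_num at this

/-- the ambient group -/
abbrev EE (m : ℕ) : Type := (CliffordAlgebra (QQ m))ˣ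

/-- the lifts of the transpositions -/
noncomputable def UC (m : ℕ) : Fin m → EE m := UU (gg m) (gg_sq m)

theorem UC_sq (m : ℕ) (k : Fin m) : UC m k * UC m k = 1 := UU_sq _ _ k

theorem UC_braid (m : ℕ) (k l : Fin m) (hkl : l.val = k.val + 1) : (UC m k * UC m l) ^ 3 = 1 :=
  UU_braid _ _ (gg_braid m) k l hkl

theorem UC_anti (m : ℕ) (k l : Fin m) (hkl : k.val + 1 < l.val) :
    UC m k * UC m l = -(UC m l * UC m k) :=
  UU_anti _ _ (gg_anti m) k l hkl

/-- the lifts of the generators -/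
noncomputable def XC (m : ℕ) (h : 2 ≤ m) : Fin (m + 1 - 2) → EE m := X (UC m) h

/-- the double cover -/
noncomputable abbrev GC (m : ℕ) (h : 2 ≤ m) : Subgroup (EE m) := YY (XC m h) (ZZ (EE m))

theorem exists_ext (m : ℕ) (hm : 3 ≤ m) :
    ∃ ξ : GC m (by omega) →* alternatingGroup (Fin (m + 1)), Function.Surjective ξ ∧
      ξ.ker = (ZZ (EE m)).subgroupOf (GC m (by omega)) := by
  apply exists_central_ext' (by omega) (fun z hz i => ZZ_comm hz _)
    (fun z hz w _ => ZZ_comm hz w)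
  · intro i hi
    rw [XC, X_zero (UC_braid m) _ i hi]
    exact Subgroup.one_mem _
  · intro i hi
    rw [XC, X_sq (UC_sq m) (UC_anti m) _ i hi]
    exact neg_one_mem
  · intro i j hij
    rw [XC, X_adj (UC_sq m) (UC_braid m) (UC_anti m) _ i j hij]
    exact neg_one_mem
  · intro i j hij
    rw [XC, X_far (UC_sq m) (UC_anti m) _ i j hij]
    exact neg_one_mem
  · exact ⟨⟨1, by omega⟩, le_rfl, X_one_not_mem (UC_sq m) (UC_anti m) (neg_one_ne m) hm⟩

/-- the double cover of the alternating group as an abstract central extension -/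
theorem exists_cover (n : ℕ) (hn : 4 ≤ n) :
    ∃ (Γ : Type) (_ : Group Γ) (ξ : Γ →* alternatingGroup (Fin n)) (z : Γ),
      Function.Surjective ξ ∧ ξ.ker = Subgroup.zpowers z ∧ z ∈ Subgroup.center Γ ∧
      orderOf z = 2 ∧ z ∈ commutator Γ := by
  obtain ⟨m, rfl⟩ : ∃ m, n = m + 1 := ⟨n - 1, by omega⟩
  have hm : 3 ≤ m := by omega
  obtain ⟨ξ, hξ, hker⟩ := exists_ext m hm
  have hcen : ξ.ker ≤ Subgroup.center (GC m (by omega)) := by
    rw [hker]
    exact subgroupOf_le_center (fun z hz i => ZZ_comm hz _) (fun z hz w _ => ZZ_comm hz w)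
  let z : GC m (by omega) := ⟨-1, Z_le _ _ neg_one_mem⟩
  have hzker : z ∈ ξ.ker := by
    rw [hker]
    exact neg_one_mem
  have hz2 : z ^ 2 = 1 := by
    apply Subtype.ext
    change (-1 : EE m) ^ 2 = 1
    rw [Even.neg_pow (by decide), one_pow]
  have hz1 : z ≠ 1 := by
    intro h
    exact neg_one_ne m (congrArg Subtype.val h)
  have hkerz : ξ.ker = Subgroup.zpowers z := by
    apply le_antisymm
    · intro k hk
      rw [hker] at hk
      rcases mem_ZZ hk with h | h
      · have : k = 1 := Subtype.ext h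
        rw [this]
        exact Subgroup.one_mem _
      · have : k = z := Subtype.ext h
        rw [this]
        exact Subgroup.mem_zpowers _
    · rw [Subgroup.zpowers_le]
      exact hzker
  refine ⟨GC m (by omega), inferInstance, ξ, z, hξ, hkerz, hcen hzker,
    orderOf_eq_prime hz2 hz1, ?_⟩
  let x1 : GC m (by omega) := ⟨XC m (by omega) ⟨1, by omega⟩, X_mem _ _ _⟩
  have hx1 : x1 ^ 2 = z := by
    apply Subtype.ext
    exact X_sq (UC_sq m) (UC_anti m) (by omega) ⟨1, by omega⟩ le_rfl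
  rw [← hx1]
  apply sq_mem_commutator ξ hξ hcen
  · intro k hk
    rw [hker] at hk
    apply Subtype.ext
    change (k : EE m) ^ 2 = 1
    have hk' : (k : EE m) ∈ ZZ (EE m) := hk
    rcases mem_ZZ hk' with h | h
    · rw [h, one_pow]
    · rw [h, Even.neg_pow (by decide), one_pow]
  · apply mem_commutator_of_sq (by omega)
    rw [← map_pow, hx1]
    exact hzker

/-- two divides the order of the multiplier of the alternating groups -/
theorem two_dvd (n : ℕ) (hn : 4 ≤ n) {A : Type*} [CommGroup A]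
    (hA : HasSchurMultiplier (alternatingGroup (Fin n)) A) : 2 ∣ Nat.card A := by
  obtain ⟨Γ, _, ξ, z, hξ, hker, hzc, hz2, hzcomm⟩ := exists_cover n hn
  have hcen : ξ.ker ≤ Subgroup.center Γ := by
    rw [hker, Subgroup.zpowers_le]
    exact hzc
  obtain ⟨f, hf⟩ := Cfsg.Agent.Lib.Helper69Schur.exists_surj_of_hasSchurMultiplier hA ξ hξ hcen
  have hmem : z ∈ ξ.ker ⊓ commutator Γ := ⟨hker ▸ Subgroup.mem_zpowers z, hzcomm⟩
  have h5 : orderOf (⟨z, hmem⟩ : ↥(ξ.ker ⊓ commutator Γ)) = 2 := by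
    rw [Subgroup.orderOf_mk, hz2]
  rw [← h5]
  exact (orderOf_dvd_natCard _).trans (Subgroup.card_dvd_of_surjective f hf)

end cliff

end Cfsg.Agent.Lib.Helper69Cliff
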