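import Mathlib
import Cfsg.Prelude
import Cfsg.Agent.Lib.Helper29DihF
import Cfsg.Agent.Lib.H69G4Invol
import Cfsg.Agent.Lib.Helper69Cliff

set_option autoImplicit false
open Cfsg

namespace Cfsg.Agent.Lib.Helper51DC

open Equiv Equiv.Perm
open Cfsg.Agent.Lib.Helper29DihF Cfsg.Agent.Lib.Helper25Exp DihedralGroup
open scoped commutatorElement



/-- sign of a fixed point free involution on `2 m` points, `m` odd -/
theorem sign_fpf {α : Type*} [Fintype α] [DecidableEq α] (σ : Perm α) (h2 : σ ^ 2 = 1)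
    (hf : ∀ a, σ a ≠ a) (m : ℕ) (hm : Odd m) (hc : Fintype.card α = 2 * m) : sign σ = -1 := by
  have hne : σ ≠ 1 := by
    intro h
    have : 0 < Fintype.card α := by
      rcases hm with ⟨k, rfl⟩; omega
    obtain ⟨a⟩ := Fintype.card_pos_iff.1 this
    exact hf a (by rw [h]; rfl)
  have ho : orderOf σ = 2 := orderOf_eq_prime h2 hne
  have hp : (orderOf σ).Prime := by rw [ho]; norm_num
  obtain ⟨n, hn⟩ := Equiv.Perm.cycleType_prime_order hp
  rw [ho] at hn
  have hs : σ.support = Finset.univ := by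
    ext a
    simp [Equiv.Perm.mem_support, hf a]
  have h1 : σ.support.card = (n + 1) * 2 := by
    rw [← Equiv.Perm.sum_cycleType, hn, Multiset.sum_replicate, smul_eq_mul]
  rw [hs, Finset.card_univ, hc] at h1
  have h3 : n + 1 = m := by omega
  rw [Equiv.Perm.sign_of_cycleType, hn, Multiset.sum_replicate, smul_eq_mul,
      Multiset.card_replicate, h3]
  have : Odd (m * 2 + m) := by
    rcases hm with ⟨k, rfl⟩
    exact ⟨3 * k + 1, by ring⟩
  exact this.neg_one_pow

/-- the coset action trick -/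
theorem exists_char {H : Type*} [Group H] [Finite H] (D : Subgroup H) (z : H)
    (hz : z ∈ Subgroup.center H) (hz2 : z ^ 2 = 1) (hzD : z ∉ D) (m : ℕ) (hm : Odd m)
    (hi : D.index = 2 * m) : ∃ χ : H →* ℤˣ, χ z = -1 := by
  classical
  haveI : Fintype (H ⧸ D) := Fintype.ofFinite _
  refine ⟨(sign : Perm (H ⧸ D) →* ℤˣ).comp (MulAction.toPermHom H (H ⧸ D)), ?_⟩
  rw [MonoidHom.comp_apply]
  apply sign_fpf _ _ _ m hm
  · rw [← hi, Subgroup.index, Nat.card_eq_fintype_card]
  · rw [← map_pow, hz2, map_one]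
  · intro a
    induction a using QuotientGroup.induction_on with
    | H g =>
      intro h
      rw [MulAction.toPermHom_apply, MulAction.toPerm_apply] at h
      have h1 : ((z * g : H) : H ⧸ D) = (g : H ⧸ D) := h
      rw [QuotientGroup.eq] at h1
      apply hzD
      have h2 : (z * g)⁻¹ * g = z⁻¹ := by
        rw [← Subgroup.mem_center_iff.1 hz g]; group
      rw [h2] at h1
      simpa using D.inv_mem h1

/-- a character nontrivial on the centre of order two gives a complement -/
theorem compl_of_char {H : Type*} [Group H] (z : H)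
    (hZ : ∀ c ∈ Subgroup.center H, c = 1 ∨ c = z) (hz : z ∈ Subgroup.center H)
    (χ : H →* ℤˣ) (hχ : χ z = -1) : (Subgroup.center H).IsComplement' χ.ker := by
  apply Subgroup.isComplement'_of_disjoint_and_mul_eq_univ
  · rw [Subgroup.disjoint_def]
    intro c hc hk
    rcases hZ c hc with h | h
    · exact h
    · rw [h, MonoidHom.mem_ker, hχ] at hk
      exact absurd hk (by decide)
  · rw [Set.eq_univ_iff_forall]
    intro h
    rcases Int.units_eq_one_or (χ h) with h1 | h1
    · exact ⟨1, Subgroup.one_mem _, h, h1, one_mul h⟩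
    · refine ⟨z, hz, z⁻¹ * h, ?_, by group⟩
      show χ (z⁻¹ * h) = 1
      rw [map_mul, map_inv, hχ, h1]
      decide

section


variable {H K : Type*} [Group H] [Group K]

theorem lift_sq (π : H →* K) (hπ : Function.Surjective π) (hker : π.ker = Subgroup.center H)
    (hZ : Nat.card (Subgroup.center H) = 2)
    (hconj : ∀ u v : K, orderOf u = 2 → orderOf v = 2 → ∃ g, g * u * g⁻¹ = v)
    (x : H) (hx : x ^ 2 = 1) (hx1 : π x ≠ 1) (y : H) (hy : (π y) ^ 2 = 1) : y ^ 2 = 1 := by
  have hc2 : ∀ c ∈ Subgroup.center H, c ^ 2 = 1 := by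
    intro c hc
    have := pow_card_eq_one' (G := Subgroup.center H) (x := ⟨c, hc⟩)
    rw [hZ] at this
    exact congrArg Subtype.val this
  by_cases h1 : π y = 1
  · apply hc2
    rw [← hker]; exact h1
  · have ho : orderOf (π y) = 2 := orderOf_eq_prime hy h1
    have hox : orderOf (π x) = 2 := orderOf_eq_prime (by rw [← map_pow, hx, map_one]) hx1
    obtain ⟨g, hg⟩ := hconj _ _ hox ho
    obtain ⟨h, rfl⟩ := hπ g
    have hc : y * (h * x * h⁻¹)⁻¹ ∈ Subgroup.center H := by
      rw [← hker, MonoidHom.mem_ker]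
      simp only [map_mul, map_inv]
      rw [hg]; group
    obtain ⟨c, hcdef⟩ : ∃ c, c = y * (h * x * h⁻¹)⁻¹ := ⟨_, rfl⟩
    rw [← hcdef] at hc
    have hy' : y = c * (h * x * h⁻¹) := by rw [hcdef]; group
    have hw : (h * x * h⁻¹) ^ 2 = 1 := by
      rw [conj_pow, hx]; group
    have hcomm : Commute c (h * x * h⁻¹) := (Subgroup.mem_center_iff.1 hc _).symm
    rw [hy', hcomm.mul_pow, hc2 c hc, hw, one_mul]

theorem main [Finite H] (π : H →* K) (hπ : Function.Surjective π)
    (hker : π.ker = Subgroup.center H)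
    (hZ : Nat.card (Subgroup.center H) = 2)
    (hns : ∀ L : Subgroup H, ¬ (Subgroup.center H).IsComplement' L)
    (hconj : ∀ u v : K, orderOf u = 2 → orderOf v = 2 → ∃ g, g * u * g⁻¹ = v)
    (k : ℕ) [NeZero (2 * k)] (m : ℕ) (hm : Odd m) (hK : Nat.card K = 2 * (2 * k) * m)
    (s t : K) (hs : s ^ 2 = 1) (ht : t ^ 2 = 1) (hst : ((s * t) ^ k) ^ 2 = 1)
    (h1 : ∀ i : ZMod (2 * k), (s * t) ^ i.val = 1 → i = 0)
    (h2 : ∀ i : ZMod (2 * k), s * (s * t) ^ i.val ≠ 1)
    (x : H) (hx : x ^ 2 = 1) : π x = 1 := by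
  by_contra hx1
  have hb := lift_sq π hπ hker hZ hconj x hx hx1
  obtain ⟨a, rfl⟩ := hπ s
  obtain ⟨b, rfl⟩ := hπ t
  have ha : a ^ 2 = 1 := hb a hs
  have hb2 : b ^ 2 = 1 := hb b ht
  have hab : (a * b) ^ (2 * k) = 1 := by
    rw [mul_comm, pow_mul]
    apply hb
    rw [map_pow, map_mul]
    exact hst
  have ha' : a * a = 1 := by rw [← pow_two]; exact ha
  have hb' : b * b = 1 := by rw [← pow_two]; exact hb2
  have hai : a⁻¹ = a := inv_eq_of_mul_eq_one_left ha'
  have hbi : b⁻¹ = b := inv_eq_of_mul_eq_one_left hb'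
  have hrel : a * (a * b) * a⁻¹ = (a * b)⁻¹ := by
    rw [mul_inv_rev, hai, hbi, ← mul_assoc, ha', one_mul]
  let f : DihedralGroup (2 * k) →* H := dihHom (a * b) a hab ha' hrel
  have hinj' : ∀ w : DihedralGroup (2 * k), π (f w) = 1 → w = 1 := by
    intro w hw
    rcases w with i | i
    · have : f (r i) = (a * b) ^ i.val := rfl
      rw [this, map_pow, map_mul] at hw
      rw [h1 i hw]; rfl
    · have : f (sr i) = a * (a * b) ^ i.val := rfl
      rw [this, map_mul, map_pow, map_mul] at hw
      exact absurd hw (h2 i)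
  have hinj : Function.Injective f := by
    rw [injective_iff_map_eq_one]
    intro w hw
    exact hinj' w (by rw [hw, map_one])
  -- the central involution
  obtain ⟨z, hz, hz1⟩ : ∃ z ∈ Subgroup.center H, z ≠ 1 := by
    by_contra hcon
    push_neg at hcon
    have : Subgroup.center H = ⊥ := (Subgroup.eq_bot_iff_forall _).2 hcon
    rw [this, Subgroup.card_bot] at hZ
    omega
  have hZ2 : ∀ c ∈ Subgroup.center H, c = 1 ∨ c = z := by
    intro c hc
    by_contra hcon
    push_neg at hcon
    have h3 : 3 ≤ Nat.card (Subgroup.center H) := by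
      classical
      haveI : Fintype (Subgroup.center H) := Fintype.ofFinite _
      rw [Nat.card_eq_fintype_card]
      have : ({⟨1, Subgroup.one_mem _⟩, ⟨z, hz⟩, ⟨c, hc⟩} : Finset (Subgroup.center H)).card = 3 := by
        rw [Finset.card_eq_three]
        refine ⟨_, _, _, ?_, ?_, ?_, rfl⟩
        · intro h; exact hz1 (congrArg Subtype.val h).symm
        · intro h; exact hcon.1 (congrArg Subtype.val h).symm
        · intro h; exact hcon.2 (congrArg Subtype.val h).symm
      rw [← this]
      exact Finset.card_le_univ _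
    omega
  have hz2 : z ^ 2 = 1 := by
    have := pow_card_eq_one' (G := Subgroup.center H) (x := ⟨z, hz⟩)
    rw [hZ] at this
    exact congrArg Subtype.val this
  have hzD : z ∉ f.range := by
    rintro ⟨w, hw⟩
    have : π (f w) = 1 := by
      rw [hw]
      have : z ∈ π.ker := by rw [hker]; exact hz
      exact this
    rw [hinj' w this, map_one] at hw
    exact hz1 hw.symm
  have hcD : Nat.card f.range = 2 * (2 * k) := by
    rw [← Nat.card_congr (MonoidHom.ofInjective hinj).toEquiv, DihedralGroup.nat_card]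
  have hcH : Nat.card H = 2 * Nat.card K := by
    rw [Subgroup.card_eq_card_quotient_mul_card_subgroup π.ker,
      Nat.card_congr (QuotientGroup.quotientKerEquivOfSurjective π hπ).toEquiv, hker, hZ, mul_comm]
  have hidx : f.range.index = 2 * m := by
    have h := f.range.card_mul_index
    rw [hcD, hcH, hK] at h
    have hk : 0 < 2 * k := Nat.pos_of_ne_zero (NeZero.ne _)
    have h5 : 2 * (2 * k) * f.range.index = 2 * (2 * k) * (2 * m) := by rw [h]; ring
    exact Nat.eq_of_mul_eq_mul_left (by omega) h5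
  obtain ⟨χ, hχ⟩ := exists_char f.range z hz hz2 hzD m hm hidx
  exact hns _ (compl_of_char z hZ2 hz χ hχ)

end



theorem cycleType_invol {n : ℕ} (hn : n ≤ 7) (t : Perm (Fin n)) (ht : orderOf t = 2)
    (hs : sign t = 1) : t.cycleType = Multiset.replicate 2 2 := by
  have hle : t.support.card ≤ 7 := by
    calc t.support.card ≤ Fintype.card (Fin n) := Finset.card_le_univ _
      _ ≤ 7 := by rw [Fintype.card_fin]; exact hn
  have h4 := Cfsg.Agent.Lib.H69G4Invol.even_invol t ht hs hle
  have hp : (orderOf t).Prime := by rw [ht]; norm_num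
  obtain ⟨k, hk⟩ := Equiv.Perm.cycleType_prime_order hp
  rw [ht] at hk
  have h1 : t.support.card = (k + 1) * 2 := by
    rw [← Equiv.Perm.sum_cycleType, hk, Multiset.sum_replicate, smul_eq_mul]
  have : k + 1 = 2 := by omega
  rw [hk, this]

theorem conj_invol {n : ℕ} (hn : n ≤ 7) (u v : alternatingGroup (Fin n)) (hu : orderOf u = 2)
    (hv : orderOf v = 2) : ∃ g, g * u * g⁻¹ = v := by
  have hu' : orderOf (u : Perm (Fin n)) = 2 := by rw [Subgroup.orderOf_coe, hu]
  have hv' : orderOf (v : Perm (Fin n)) = 2 := by rw [Subgroup.orderOf_coe, hv]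
  have h1 := cycleType_invol hn _ hu' (mem_alternatingGroup.1 u.2)
  have h2 := cycleType_invol hn _ hv' (mem_alternatingGroup.1 v.2)
  have hc : IsConj (u : Perm (Fin n)) (v : Perm (Fin n)) := by
    rw [Equiv.Perm.isConj_iff_cycleType_eq, h1, h2]
  obtain ⟨c, hc⟩ := isConj_iff.1 hc
  rcases Int.units_eq_one_or (sign c) with hs | hs
  · exact ⟨⟨c, mem_alternatingGroup.2 hs⟩, Subtype.ext hc⟩
  · -- a transposition commuting with u
    have hne : (u : Perm (Fin n)) ≠ 1 := by
      intro h
      rw [h, orderOf_one] at hu'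
      omega
    obtain ⟨a, ha⟩ : ∃ a, (u : Perm (Fin n)) a ≠ a := by
      by_contra hcon
      push_neg at hcon
      exact hne (Equiv.ext hcon)
    have hu2 : (u : Perm (Fin n)) ((u : Perm (Fin n)) a) = a := by
      have : (u : Perm (Fin n)) ^ 2 = 1 := by rw [← hu']; exact pow_orderOf_eq_one _
      have h3 := congrArg (fun p : Perm (Fin n) => p a) this
      simpa [pow_two] using h3
    have hcomm : swap a ((u : Perm (Fin n)) a) * (u : Perm (Fin n)) * (swap a ((u : Perm (Fin n)) a))⁻¹
        = (u : Perm (Fin n)) := by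
      have h4 : (u : Perm (Fin n)) * swap a ((u : Perm (Fin n)) a)
          = swap a ((u : Perm (Fin n)) a) * (u : Perm (Fin n)) := by
        rw [Equiv.mul_swap_eq_swap_mul, hu2, Equiv.swap_comm]
      rw [← h4]; group
    refine ⟨⟨c * swap a ((u : Perm (Fin n)) a), ?_⟩, ?_⟩
    · rw [mem_alternatingGroup, map_mul, hs, sign_swap (Ne.symm ha)]
      decide
    · apply Subtype.ext
      show c * swap a ((u : Perm (Fin n)) a) * (u : Perm (Fin n)) * (c * swap a ((u : Perm (Fin n)) a))⁻¹ = v
      rw [← hc]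
      nth_rewrite 4 [← hcomm]
      group



theorem cardA (n : ℕ) (hn : 2 ≤ n) : 2 * Nat.card (alternatingGroup (Fin n)) = n.factorial := by
  haveI : Nontrivial (Fin n) := Fin.nontrivial_iff_two_le.2 hn
  rw [two_mul_nat_card_alternatingGroup, Nat.card_perm, Nat.card_eq_fintype_card, Fintype.card_fin]

theorem even2 {n : ℕ} (a b c d : Fin n) (hab : a ≠ b) (hcd : c ≠ d) :
    swap a b * swap c d ∈ alternatingGroup (Fin n) := by
  rw [mem_alternatingGroup, map_mul, sign_swap hab, sign_swap hcd]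
  decide

theorem key {n : ℕ} {H : Type*} [Group H] [Finite H] (hn : n ≤ 7)
    (π : H →* alternatingGroup (Fin n)) (hπ : Function.Surjective π)
    (hker : π.ker = Subgroup.center H)
    (hZ : Nat.card (Subgroup.center H) = 2)
    (hns : ∀ L : Subgroup H, ¬ (Subgroup.center H).IsComplement' L)
    (x : H) (hx : x ^ 2 = 1) : π x = 1 := by
  by_contra hx1
  have ho : orderOf (π x) = 2 := orderOf_eq_prime (by rw [← map_pow, hx, map_one]) hx1
  have ho' : orderOf ((π x : alternatingGroup (Fin n)) : Perm (Fin n)) = 2 := by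
    rw [Subgroup.orderOf_coe, ho]
  have hle : ((π x : alternatingGroup (Fin n)) : Perm (Fin n)).support.card ≤ n := by
    calc _ ≤ Fintype.card (Fin n) := Finset.card_le_univ _
      _ = n := Fintype.card_fin n
  have h4 := Cfsg.Agent.Lib.H69G4Invol.even_invol _ ho' (mem_alternatingGroup.1 (π x).2)
    (hle.trans hn)
  have hn4 : 4 ≤ n := by omega
  have hconj := conj_invol (n := n) hn
  have hc := cardA n (by omega)
  apply hx1
  interval_cases n
  · have : NeZero (2 * 1) := ⟨by norm_num⟩
    refine main π hπ hker hZ hns hconj 1 3 (by decide) (by rw [show Nat.factorial 4 = 24 from by decide] at hc; omega)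
      ⟨swap 0 1 * swap 2 3, even2 _ _ _ _ (by decide) (by decide)⟩ ⟨swap 0 2 * swap 1 3, even2 _ _ _ _ (by decide) (by decide)⟩
      (by decide) (by decide) (by decide) (by decide) (by decide) x hx
  · have : NeZero (2 * 1) := ⟨by norm_num⟩
    refine main π hπ hker hZ hns hconj 1 15 (by decide) (by rw [show Nat.factorial 5 = 120 from by decide] at hc; omega)
      ⟨swap 0 1 * swap 2 3, even2 _ _ _ _ (by decide) (by decide)⟩ ⟨swap 0 2 * swap 1 3, even2 _ _ _ _ (by decide) (by decide)⟩
      (by decide) (by decide) (by decide) (by decide) (by decide) x hx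
  · have : NeZero (2 * 2) := ⟨by norm_num⟩
    refine main π hπ hker hZ hns hconj 2 45 (by decide) (by rw [show Nat.factorial 6 = 720 from by decide] at hc; omega)
      ⟨swap 0 2 * swap 4 5, even2 _ _ _ _ (by decide) (by decide)⟩ ⟨swap 0 1 * swap 2 3, even2 _ _ _ _ (by decide) (by decide)⟩
      (by decide) (by decide) (by decide) (by decide) (by decide) x hx
  · have : NeZero (2 * 2) := ⟨by norm_num⟩
    refine main π hπ hker hZ hns hconj 2 315 (by decide) (by rw [show Nat.factorial 7 = 5040 from by decide] at hc; omega)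
      ⟨swap 0 2 * swap 4 5, even2 _ _ _ _ (by decide) (by decide)⟩ ⟨swap 0 1 * swap 2 3, even2 _ _ _ _ (by decide) (by decide)⟩
      (by decide) (by decide) (by decide) (by decide) (by decide) x hx

theorem part1 (n : ℕ) (H : Type) [Group H] [Finite H] (hn : n ≤ 7)
    (hH : Cfsg.IsNonsplitDoubleCover H (alternatingGroup (Fin n))) (x y : H)
    (hx : orderOf x = 2) (hy : orderOf y = 2) : x = y := by
  obtain ⟨hZ, ⟨e⟩, hns⟩ := hH
  let π : H →* alternatingGroup (Fin n) := e.toMonoidHom.comp (QuotientGroup.mk' (Subgroup.center H))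
  have hπ : Function.Surjective π := e.surjective.comp (QuotientGroup.mk'_surjective _)
  have hker : π.ker = Subgroup.center H := by
    ext g
    rw [MonoidHom.mem_ker]
    show e (QuotientGroup.mk' _ g) = 1 ↔ _
    rw [map_eq_one_iff e e.injective, QuotientGroup.mk'_apply, QuotientGroup.eq_one_iff]
  have hk := key hn π hπ hker hZ hns
  have hxc : x ∈ Subgroup.center H := by
    rw [← hker]; exact hk x (by rw [← hx]; exact pow_orderOf_eq_one x)
  have hyc : y ∈ Subgroup.center H := by
    rw [← hker]; exact hk y (by rw [← hy]; exact pow_orderOf_eq_one y)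
  have hu := (Nat.card_eq_two_iff' (1 : Subgroup.center H)).1 hZ
  have hx1 : (⟨x, hxc⟩ : Subgroup.center H) ≠ 1 := by
    intro h
    have : x = 1 := congrArg Subtype.val h
    rw [this, orderOf_one] at hx; omega
  have hy1 : (⟨y, hyc⟩ : Subgroup.center H) ≠ 1 := by
    intro h
    have : y = 1 := congrArg Subtype.val h
    rw [this, orderOf_one] at hy; omega
  exact congrArg Subtype.val (hu.unique hx1 hy1)

section


variable {Γ : Type*} [Group Γ]

theorem mem_zp {z w : Γ} (hz : z ^ 2 = 1) (hw : w ∈ Subgroup.zpowers z) : w = 1 ∨ w = z := by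
  obtain ⟨i, rfl⟩ := Subgroup.mem_zpowers_iff.1 hw
  have h2 : z ^ (2 : ℤ) = 1 := by
    rw [← hz]; exact zpow_ofNat z 2
  rcases Int.even_or_odd' i with ⟨k, rfl | rfl⟩
  · left
    rw [zpow_mul, h2, one_zpow]
  · right
    rw [zpow_add, zpow_mul, h2, one_zpow, one_mul, zpow_one]

theorem inv_of_sq {z w : Γ} (hc : ∀ g, g * z = z * g) (hz : z * z = 1) (hw : w * w = z) :
    w⁻¹ = z * w := by
  apply inv_eq_of_mul_eq_one_right
  rw [← mul_assoc, hc, mul_assoc, hw, hz]

theorem anti {z u v : Γ} (hc : ∀ g, g * z = z * g) (hz : z * z = 1) (hu : u * u = z)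
    (hv : v * v = z) (huv : (u * v) * (u * v) = z) : u * v = z * (v * u) := by
  have h1 := inv_of_sq hc hz huv
  rw [mul_inv_rev, inv_of_sq hc hz hu, inv_of_sq hc hz hv] at h1
  have h2 : z * v * (z * u) = v * u := by
    rw [mul_assoc, ← mul_assoc v, hc, mul_assoc, ← mul_assoc, hz, one_mul]
  rw [h2] at h1
  rw [h1, ← mul_assoc, hz, one_mul]

theorem exists_invol {K : Type*} [Group K] (ξ : Γ →* K) (hξ : Function.Surjective ξ) (z : Γ)
    (hker : ξ.ker = Subgroup.zpowers z) (hzc : z ∈ Subgroup.center Γ) (hz2 : orderOf z = 2)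
    (a b c : K) (ha : a ^ 2 = 1) (hb : b ^ 2 = 1) (hc : c ^ 2 = 1) (hab : (a * b) ^ 2 = 1)
    (hac : (a * c) ^ 2 = 1) (hbc : (b * c) ^ 2 = 1) (habc : (a * (b * c)) ^ 2 = 1)
    (ha1 : a ≠ 1) (hb1 : b ≠ 1) (hc1 : c ≠ 1) (hab1 : a * b ≠ 1) (hac1 : a * c ≠ 1)
    (hbc1 : b * c ≠ 1) (habc1 : a * (b * c) ≠ 1) : ∃ y : Γ, y ^ 2 = 1 ∧ ξ y ≠ 1 := by
  by_contra hcon
  push_neg at hcon
  have hzz : z ^ 2 = 1 := by rw [← hz2]; exact pow_orderOf_eq_one z
  have hzz' : z * z = 1 := by rw [← pow_two]; exact hzz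
  have hz1 : z ≠ 1 := by
    intro h
    rw [h, orderOf_one] at hz2; omega
  have hcz : ∀ g, g * z = z * g := Subgroup.mem_center_iff.1 hzc
  have hsq : ∀ u : Γ, (ξ u) ^ 2 = 1 → ξ u ≠ 1 → u * u = z := by
    intro u h1 h2
    have h3 : u ^ 2 ∈ Subgroup.zpowers z := by
      rw [← hker, MonoidHom.mem_ker, map_pow]; exact h1
    rcases mem_zp hzz h3 with h | h
    · exact absurd (hcon u h) h2
    · rw [← pow_two]; exact h
  obtain ⟨a, rfl⟩ := hξ a
  obtain ⟨b, rfl⟩ := hξ b
  obtain ⟨c, rfl⟩ := hξ c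
  have e1 := hsq a ha ha1
  have e2 := hsq b hb hb1
  have e3 := hsq c hc hc1
  have e4 := hsq (a * b) (by rw [map_mul]; exact hab) (by rw [map_mul]; exact hab1)
  have e5 := hsq (a * c) (by rw [map_mul]; exact hac) (by rw [map_mul]; exact hac1)
  have e6 := hsq (b * c) (by rw [map_mul]; exact hbc) (by rw [map_mul]; exact hbc1)
  have e7 := hsq (a * (b * c)) (by rw [map_mul, map_mul]; exact habc)
    (by rw [map_mul, map_mul]; exact habc1)
  have f1 := anti hcz hzz' e1 e2 e4
  have f2 := anti hcz hzz' e1 e3 e5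
  have f3 := anti hcz hzz' e1 e6 e7
  have f4 : a * (b * c) = b * c * a := by
    calc a * (b * c) = (a * b) * c := (mul_assoc _ _ _).symm
      _ = z * (b * a) * c := by rw [f1]
      _ = z * (b * (a * c)) := by simp only [mul_assoc]
      _ = z * (b * (z * (c * a))) := by rw [f2]
      _ = z * ((b * z) * (c * a)) := by simp only [mul_assoc]
      _ = z * ((z * b) * (c * a)) := by rw [hcz]
      _ = (z * z) * (b * c * a) := by simp only [mul_assoc]
      _ = b * c * a := by rw [hzz', one_mul]
  rw [f4] at f3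
  apply hz1
  have := mul_right_cancel (a := 1) (b := b * c * a) (c := z) (by rw [one_mul]; exact f3)
  exact this.symm

theorem part2 : ∃ (H : Type) (_ : Group H) (_ : Finite H),
    Cfsg.IsNonsplitDoubleCover H (alternatingGroup (Fin 8)) ∧
      ∃ x y : H, x ≠ y ∧ orderOf x = 2 ∧ orderOf y = 2 := by
  obtain ⟨Γ, _, ξ, z, hξ, hker, hzc, hz2, hzcomm⟩ :=
    Cfsg.Agent.Lib.Helper69Cliff.exists_cover 8 (by norm_num)
  have hzz : z ^ 2 = 1 := by rw [← hz2]; exact pow_orderOf_eq_one z
  have hz1 : z ≠ 1 := by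
    intro h
    rw [h, orderOf_one] at hz2; omega
  have hfin : Finite Γ := by
    have h1 : Finite ξ.ker := by
      rw [hker]
      exact Nat.finite_of_card_ne_zero (by rw [Nat.card_zpowers, hz2]; norm_num)
    haveI : Fintype ξ.ker := Fintype.ofFinite _
    exact @Finite.of_fintype _ (Group.fintypeOfKerOfCodom ξ)
  have hcen : Subgroup.center Γ = ξ.ker := by
    apply le_antisymm
    · intro c hc
      rw [MonoidHom.mem_ker]
      have h1 : ξ c ∈ Subgroup.center (alternatingGroup (Fin 8)) := by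
        rw [Subgroup.mem_center_iff]
        intro g
        obtain ⟨g, rfl⟩ := hξ g
        rw [← map_mul, ← map_mul, Subgroup.mem_center_iff.1 hc]
      rw [alternatingGroup.center_eq_bot (by simp)] at h1
      exact h1
    · rw [hker, Subgroup.zpowers_le]; exact hzc
  refine ⟨Γ, inferInstance, hfin, ⟨?_, ⟨?_⟩, ?_⟩, ?_⟩
  · rw [hcen, hker, Nat.card_zpowers, hz2]
  · exact (QuotientGroup.quotientMulEquivOfEq hcen).trans
      (QuotientGroup.quotientKerEquivOfSurjective ξ hξ)
  · intro L hL
    have hidx : L.index = 2 := by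
      rw [hL.index_eq_card, hcen, hker, Nat.card_zpowers, hz2]
    have hle : commutator Γ ≤ L := by
      rw [commutator_eq_closure, Subgroup.closure_le]
      rintro _ ⟨a, b, rfl⟩
      show ⁅a, b⁆ ∈ L
      rw [commutatorElement_def, Subgroup.mul_mem_iff_of_index_two hidx,
        Subgroup.mul_mem_iff_of_index_two hidx, Subgroup.mul_mem_iff_of_index_two hidx,
        inv_mem_iff, inv_mem_iff]
      tauto
    have := Subgroup.disjoint_def.1 hL.disjoint hzc (hle hzcomm)
    exact hz1 this
  · obtain ⟨y, hy, hy1⟩ := exists_invol ξ hξ z hker hzc hz2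
      ⟨swap 0 1 * swap 2 3, even2 _ _ _ _ (by decide) (by decide)⟩
      ⟨swap 0 1 * swap 4 5, even2 _ _ _ _ (by decide) (by decide)⟩
      ⟨swap 0 1 * swap 6 7, even2 _ _ _ _ (by decide) (by decide)⟩
      (by decide) (by decide) (by decide) (by decide) (by decide) (by decide) (by decide)
      (by decide) (by decide) (by decide) (by decide) (by decide) (by decide) (by decide)
    refine ⟨z, y, ?_, hz2, ?_⟩
    · rintro rfl
      apply hy1
      have : z ∈ ξ.ker := by rw [hker]; exact Subgroup.mem_zpowers z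
      exact this
    · apply orderOf_eq_prime hy
      rintro rfl
      exact hy1 (map_one ξ)

end


end Cfsg.Agent.Lib.Helper51DC
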