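import Cfsg.Agent.Lib.Helper24BG2
import Cfsg.Agent.Lib.Helper30Rank3
import Cfsg.Agent.S1399
import Cfsg.Agent.S1451

/-!
Bender-Glauberman 9.6 (an `SCN_3` subgroup lies in a unique maximal subgroup): vocabulary.
-/

set_option autoImplicit false
open Cfsg

namespace Cfsg.Agent.Lib.Helper52BGDefs

open Subgroup
open Cfsg.Agent.Lib.Helper30Trans
open Cfsg.Agent.Lib.Helper24BG

universe u
variable {G : Type u} [Group G]

/-- the statement of S1400 for the group `G` -/
def H1400 (G : Type u) [Group G] : Prop :=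
  ∀ (p : ℕ) [Fact p.Prime] (A B : Subgroup G), IsPGroup p A → IsMulCommutative A →
    ¬ PRankLE p 2 ↥A → InUniqueMaximal A → IsPGroup p B → ¬ IsCyclic B →
    ¬ PRankLE p 2 ↥(centralizer (B : Set G)) → InUniqueMaximal B

/-- the statement of S1401 for the group `G` -/
def H1401 (G : Type u) [Group G] : Prop :=
  ∀ (M : Subgroup G), IsCoatom M → ∀ (p : ℕ) [Fact p.Prime], ¬ PRankLE p 2 ↥(fittingOf M) →
    ∀ A : Subgroup G, IsPGroup p A → IsMulCommutative A → ¬ PRankLE p 2 ↥A → InUniqueMaximal A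

/-- `K = O_{p'}(C_G(A))` -/
abbrev Kc (A : Subgroup G) : Subgroup G :=
  piCoreOf (primesNotDvd (Nat.card A)) (centralizer (A : Set G))

/-- `X` is a maximal subgroup that is "large for the prime `s`" with respect to `A`. -/
structure Large (A X : Subgroup G) (s : ℕ) : Prop where
  coatom : IsCoatom X
  K_le : Kc A ≤ X
  rank3 : ∀ S₀ L : Subgroup G, IsPGroup s S₀ → A ≤ normalizer (S₀ : Set G) → ¬ PRankLE s 2 S₀ →
    S₀ ≤ L → L ≠ ⊤ → L ≤ X
  big : ∀ S₀ ∈ maxInvSubgroups ⊤ A {s}, ¬ PRankLE s 2 S₀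

end Cfsg.Agent.Lib.Helper52BGDefs
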