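import Cfsg.Agent.Lib.Helper52S4

set_option autoImplicit false

namespace Cfsg.Agent.Lib.Helper52FF2

open Subgroup

theorem relIndex_mul_card {Γ : Type*} [Group Γ] {H K : Subgroup Γ} (h : H ≤ K) :
    H.relIndex K * Nat.card H = Nat.card K := by
  rw [← relIndex_bot_left, ← relIndex_bot_left, mul_comm]
  exact relIndex_mul_relIndex ⊥ H K bot_le h

theorem eq_one_of_sq_of_odd {Γ : Type*} [Group Γ] {Y : Subgroup Γ} (hYodd : Odd (Nat.card Y))
    {y : Γ} (hy : y ∈ Y) (h2 : y ^ 2 = 1) : y = 1 := by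
  have h1 : y ^ Nat.card Y = 1 := by
    have := pow_card_eq_one' (G := Y) (x := ⟨y, hy⟩)
    have h3 := congrArg Subtype.val this
    rwa [Subgroup.coe_pow] at h3
  exact Cfsg.Agent.Lib.Helper52S4.eq_one_of_pow_pow (Nat.Coprime.symm (Nat.coprime_two_left.mpr hYodd)) h1 h2

/-- common eigen-element for an elementary abelian `2`-group acting on an abelian group of odd
order. -/
theorem exists_eigen {Γ : Type*} [Group Γ] [Finite Γ] (B Y : Subgroup Γ) (hB : ∀ b ∈ B, b * b = 1)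
    (hYc : ∀ y ∈ Y, ∀ y' ∈ Y, y * y' = y' * y) (hYodd : Odd (Nat.card Y))
    (hBY : ∀ b ∈ B, ∀ y ∈ Y, b * y * b⁻¹ ∈ Y)
    (b₀ : Γ) (hb₀ : b₀ ∈ B) (y₀ : Γ) (hy₀ : y₀ ∈ Y) (hne : b₀ * y₀ * b₀⁻¹ ≠ y₀) :
    ∃ y ∈ Y, y ≠ 1 ∧ b₀ * y * b₀⁻¹ = y⁻¹ ∧ ∀ b ∈ B, b * y * b⁻¹ = y ∨ b * y * b⁻¹ = y⁻¹ := by
  have hBc : ∀ a ∈ B, ∀ b ∈ B, a * b = b * a := by
    intro a ha b hb
    have h1 := hB (a * b) (B.mul_mem ha hb)
    have h2 := hB a ha
    have h3 := hB b hb
    calc a * b = (b * b) * (a * b) * (a * a) := by rw [h2, h3]; group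
      _ = b * (b * a) * ((b * a) * a) := by group
      _ = b * ((b * a) * (b * a)) * a := by group
      _ = b * a := by rw [hB (b * a) (B.mul_mem hb ha)]; group
  let 𝒴 : Set Γ := {y | y ∈ Y ∧ y ≠ 1 ∧ b₀ * y * b₀⁻¹ = y⁻¹}
  let E : Γ → Set Γ := fun y => {b | b ∈ B ∧ (b * y * b⁻¹ = y ∨ b * y * b⁻¹ = y⁻¹)}
  have hne𝒴 : 𝒴.Nonempty := by
    refine ⟨y₀ * (b₀ * y₀ * b₀⁻¹)⁻¹, Y.mul_mem hy₀ (Y.inv_mem (hBY _ hb₀ _ hy₀)), ?_, ?_⟩
    · intro h
      apply hne
      exact (mul_inv_eq_one.mp h).symm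
    · have h1 := hB b₀ hb₀
      have h2 : b₀⁻¹ = b₀ := inv_eq_of_mul_eq_one_left h1
      rw [h2]
      calc b₀ * (y₀ * (b₀ * y₀ * b₀)⁻¹) * b₀
          = b₀ * y₀ * b₀⁻¹ * y₀⁻¹ * (b₀⁻¹ * b₀) := by group
        _ = b₀ * y₀ * b₀ * y₀⁻¹ := by rw [h2, h1, mul_one]
        _ = (y₀ * (b₀ * y₀ * b₀)⁻¹)⁻¹ := by group
  obtain ⟨y, hy𝒴, hmax⟩ := Set.exists_max_image 𝒴 (fun y => (E y).ncard) (Set.toFinite _) hne𝒴
  obtain ⟨hyY, hy1, hyb₀⟩ := hy𝒴
  refine ⟨y, hyY, hy1, hyb₀, ?_⟩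
  intro b' hb'
  by_contra hcon
  have hb'E : b' ∉ E y := fun h => hcon h.2
  set u := b' * y * b'⁻¹ with hu
  have huY : u ∈ Y := hBY _ hb' _ hyY
  have hb'u : b' * u * b'⁻¹ = y := by
    have h1 := hB b' hb'
    have h2 : b'⁻¹ = b' := inv_eq_of_mul_eq_one_left h1
    rw [hu, h2]
    calc b' * (b' * y * b') * b' = (b' * b') * y * (b' * b') := by group
      _ = y := by rw [h1]; group
  have hconj_u : ∀ b ∈ B, b * u * b⁻¹ = b' * (b * y * b⁻¹) * b'⁻¹ := by
    intro b hb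
    have h1 := hBc b hb b' hb'
    rw [hu]
    calc b * (b' * y * b'⁻¹) * b⁻¹ = (b * b') * y * (b * b')⁻¹ := by group
      _ = (b' * b) * y * (b' * b)⁻¹ := by rw [h1]
      _ = b' * (b * y * b⁻¹) * b'⁻¹ := by group
  have key : ∀ z ∈ Y, (∀ b ∈ B, b * y * b⁻¹ = y → b * z * b⁻¹ = z) →
      (∀ b ∈ B, b * y * b⁻¹ = y⁻¹ → b * z * b⁻¹ = z⁻¹) →
      (b' * (y * z) * b'⁻¹ = y * z ∨ b' * (y * z) * b'⁻¹ = (y * z)⁻¹) → y * z = 1 := by
    intro z hz h1 h2 h3
    by_contra hyz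
    have hconj : ∀ b : Γ, b * (y * z) * b⁻¹ = (b * y * b⁻¹) * (b * z * b⁻¹) := by
      intro b; group
    have hinv : (y * z)⁻¹ = y⁻¹ * z⁻¹ := by
      rw [mul_inv_rev]
      exact hYc _ (Y.inv_mem hz) _ (Y.inv_mem hyY)
    have hmem : y * z ∈ 𝒴 := by
      refine ⟨Y.mul_mem hyY hz, hyz, ?_⟩
      rw [hconj, hyb₀, h2 _ hb₀ hyb₀, hinv]
    have hsub : E y ⊂ E (y * z) := by
      rw [Set.ssubset_iff_of_subset]
      · exact ⟨b', ⟨hb', h3⟩, hb'E⟩
      · rintro b ⟨hb, hb1 | hb1⟩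
        · refine ⟨hb, Or.inl ?_⟩
          rw [hconj, hb1, h1 _ hb hb1]
        · refine ⟨hb, Or.inr ?_⟩
          rw [hconj, hb1, h2 _ hb hb1, hinv]
    have := Set.ncard_lt_ncard hsub (Set.toFinite _)
    exact absurd (hmax _ hmem) (not_le.mpr this)
  have k1 : y * u = 1 := by
    apply key u huY
    · intro b hb h; rw [hconj_u b hb, h]
    · intro b hb h
      rw [hconj_u b hb, h, hu]; group
    · left
      have : b' * (y * u) * b'⁻¹ = (b' * y * b'⁻¹) * (b' * u * b'⁻¹) := by group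
      rw [this, hb'u, ← hu]
      exact hYc _ huY _ hyY
  have k2 : y * u⁻¹ = 1 := by
    apply key u⁻¹ (Y.inv_mem huY)
    · intro b hb h
      have : b * u⁻¹ * b⁻¹ = (b * u * b⁻¹)⁻¹ := by group
      rw [this, hconj_u b hb, h]
    · intro b hb h
      have : b * u⁻¹ * b⁻¹ = (b * u * b⁻¹)⁻¹ := by group
      rw [this, hconj_u b hb, h, hu]; group
    · right
      have : b' * (y * u⁻¹) * b'⁻¹ = (b' * y * b'⁻¹) * (b' * u * b'⁻¹)⁻¹ := by group
      rw [this, hb'u, ← hu]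
      group
  apply hy1
  apply eq_one_of_sq_of_odd hYodd hyY
  calc y ^ 2 = (y * u) * (u⁻¹ * y) := by rw [pow_two]; group
    _ = (y * u) * (y * u⁻¹) := by rw [hYc _ (Y.inv_mem huY) _ hyY]
    _ = 1 := by rw [k1, k2, one_mul]

section Core

variable {V : Type*} [CommGroup V]

/-- fixed points of a group of automorphisms -/
def fix (S : Subgroup (MulAut V)) : Subgroup V where
  carrier := {v | ∀ s ∈ S, s v = v}
  one_mem' := by intro s _; simp
  mul_mem' := by
    intro a b ha hb s hs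
    rw [map_mul, ha s hs, hb s hs]
  inv_mem' := by
    intro a ha s hs
    rw [map_inv, ha s hs]

theorem mem_fix {S : Subgroup (MulAut V)} {v : V} : v ∈ fix S ↔ ∀ s ∈ S, s v = v := Iff.rfl

theorem fix_anti {S T : Subgroup (MulAut V)} (h : S ≤ T) : fix T ≤ fix S :=
  fun _ hv s hs => hv s (h hs)

/-- `u ↦ y(u) u⁻¹` -/
def delta (y : MulAut V) : V →* V where
  toFun u := y u * u⁻¹
  map_one' := by simp
  map_mul' := by
    intro a b
    rw [map_mul, mul_inv]
    exact mul_mul_mul_comm _ _ _ _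

theorem delta_apply (y : MulAut V) (u : V) : delta y u = y u * u⁻¹ := rfl

theorem eq_one_of_mem_range_delta_of_fixed (hV : ∀ v : V, v * v = 1) {y : MulAut V} {n : ℕ}
    (hn : Odd n) (hy : y ^ n = 1) {w : V} (hw : w ∈ (delta y).range) (hfix : y w = w) : w = 1 := by
  obtain ⟨u, rfl⟩ := hw
  set w := delta y u with hw
  have hyu : y u = w * u := by rw [hw, delta_apply]; simp
  have h1 : ∀ i : ℕ, (y ^ i) u = w ^ i * u := by
    intro i
    induction i with
    | zero => simp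
    | succ i ih =>
      rw [pow_succ', MulAut.mul_apply, ih, map_mul, map_pow, hfix, hyu, pow_succ]
      exact (mul_assoc _ _ _).symm
  have h2 := h1 n
  rw [hy, MulAut.one_apply] at h2
  have h3 : w ^ n = 1 := by
    have : w ^ n * u = 1 * u := by rw [one_mul]; exact h2.symm
    exact mul_right_cancel this
  exact Cfsg.Agent.Lib.Helper52S4.eq_one_of_pow_pow
    (Nat.Coprime.symm (Nat.coprime_two_left.mpr hn)) h3 (by rw [pow_two]; exact hV w)

theorem map_eq_of_forall_mem [Finite V] (W : Subgroup V) (g : MulAut V) (h : ∀ w ∈ W, g w ∈ W) :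
    W.map g.toMonoidHom = W := by
  apply eq_of_le_of_card_ge
  · rintro _ ⟨w, hw, rfl⟩
    exact h w hw
  · rw [card_map_of_injective g.injective]

theorem core [Finite V] (hV : ∀ v : V, v * v = 1) (B Y : Subgroup (MulAut V))
    (hB : ∀ b ∈ B, b * b = 1) (hYc : ∀ y ∈ Y, ∀ y' ∈ Y, y * y' = y' * y)
    (hYodd : Odd (Nat.card Y)) (hBY : ∀ b ∈ B, ∀ y ∈ Y, b * y * b⁻¹ ∈ Y)
    (hne : ∃ b ∈ B, ∃ y ∈ Y, b * y * b⁻¹ ≠ y)
    (hbest : ∀ B' ≤ B, B'.relIndex B = 2 → Nat.card (fix B') ≤ 2 * Nat.card (fix B)) :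
    ∃ W : Subgroup V, Nat.card W = 4 ∧ ∃ y ∈ Y, ∃ b ∈ B, (∀ w ∈ W, y w ∈ W) ∧
      (∀ w ∈ W, b w ∈ W) ∧ (∃ w ∈ W, y w ≠ w) ∧ (∃ w ∈ W, b w ≠ w) := by
  classical
  have : Fact (Nat.Prime 2) := ⟨Nat.prime_two⟩
  obtain ⟨b₀, hb₀, y₀, hy₀, hne⟩ := hne
  obtain ⟨y, hyY, hy1, hyb₀, heig⟩ := exists_eigen B Y hB hYc hYodd hBY b₀ hb₀ y₀ hy₀ hne
  have hyn : y ^ Nat.card Y = 1 := by
    have := pow_card_eq_one' (G := Y) (x := ⟨y, hyY⟩)
    have h3 := congrArg Subtype.val this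
    rwa [Subgroup.coe_pow] at h3
  have hyinv : y⁻¹ ≠ y := by
    intro h
    apply hy1
    apply eq_one_of_sq_of_odd hYodd hyY
    rw [pow_two]
    nth_rewrite 1 [← h]
    exact inv_mul_cancel y
  have hBc : ∀ a ∈ B, ∀ b ∈ B, a * b = b * a := by
    intro a ha b hb
    have h2 := hB a ha
    have h3 := hB b hb
    calc a * b = (b * b) * (a * b) * (a * a) := by rw [h2, h3]; group
      _ = b * ((b * a) * (b * a)) * a := by group
      _ = b * a := by rw [hB (b * a) (B.mul_mem hb ha)]; group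
  set B₁ : Subgroup (MulAut V) := B ⊓ centralizer {y} with hB₁
  have hB₁B : B₁ ≤ B := inf_le_left
  have memB₁ : ∀ b, b ∈ B₁ ↔ b ∈ B ∧ b * y * b⁻¹ = y := by
    intro b
    rw [hB₁, mem_inf, mem_centralizer_singleton_iff]
    constructor
    · rintro ⟨h1, h2⟩
      exact ⟨h1, by rw [h2]; group⟩
    · rintro ⟨h1, h2⟩
      refine ⟨h1, ?_⟩
      calc b * y = b * y * b⁻¹ * b := by group
        _ = y * b := by rw [h2]
  have hidx : B₁.relIndex B = 2 := by
    rw [relIndex_eq_two_iff]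
    refine ⟨b₀, hb₀, fun b hb => ?_⟩
    have hconj : (b * b₀) * y * (b * b₀)⁻¹ = (b * y * b⁻¹)⁻¹ := by
      calc (b * b₀) * y * (b * b₀)⁻¹ = b * (b₀ * y * b₀⁻¹) * b⁻¹ := by group
        _ = (b * y * b⁻¹)⁻¹ := by rw [hyb₀]; group
    rcases heig b hb with h | h
    · right
      refine ⟨(memB₁ b).mpr ⟨hb, h⟩, fun h2 => ?_⟩
      have := ((memB₁ _).mp h2).2
      rw [hconj, h] at this
      exact hyinv this
    · left
      refine ⟨(memB₁ _).mpr ⟨B.mul_mem hb hb₀, ?_⟩, fun h2 => ?_⟩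
      · rw [hconj, h, inv_inv]
      · have := ((memB₁ _).mp h2).2
        rw [h] at this
        exact hyinv this
  have hfixle : Nat.card (fix B₁) ≤ 2 * Nat.card (fix B) := hbest B₁ hB₁B hidx
  have hfixB : ∀ v, v ∈ fix B ↔ v ∈ fix B₁ ∧ b₀ v = v := by
    intro v
    constructor
    · intro h
      exact ⟨fix_anti hB₁B h, h b₀ hb₀⟩
    · rintro ⟨h1, h2⟩ b hb
      rcases heig b hb with h | h
      · exact h1 b ((memB₁ b).mpr ⟨hb, h⟩)
      · have h3 : b * b₀ ∈ B₁ := by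
          refine (memB₁ _).mpr ⟨B.mul_mem hb hb₀, ?_⟩
          calc (b * b₀) * y * (b * b₀)⁻¹ = b * (b₀ * y * b₀⁻¹) * b⁻¹ := by group
            _ = (b * y * b⁻¹)⁻¹ := by rw [hyb₀]; group
            _ = y := by rw [h, inv_inv]
        have h4 := h1 _ h3
        rw [MulAut.mul_apply, h2] at h4
        exact h4
  set X : Subgroup V := (delta y).range with hX
  set W : Subgroup V := X ⊓ fix B₁ with hW
  have hb₀y : ∀ v, b₀ (y v) = y⁻¹ (b₀ v) := by
    intro v
    have h1 : b₀ * y = y⁻¹ * b₀ := by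
      calc b₀ * y = b₀ * y * b₀⁻¹ * b₀ := by group
        _ = y⁻¹ * b₀ := by rw [hyb₀]
    have := congrArg (fun f : MulAut V => f v) h1
    simpa [MulAut.mul_apply] using this
  have hyW : ∀ w ∈ W, y w ∈ W := by
    rintro w ⟨⟨u, rfl⟩, hw2⟩
    refine ⟨⟨y u, ?_⟩, ?_⟩
    · rw [delta_apply, delta_apply, map_mul, map_inv]
    · intro b hb
      have h1 : b * y = y * b := by
        have := ((memB₁ b).mp hb).2
        calc b * y = b * y * b⁻¹ * b := by group
          _ = y * b := by rw [this]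
      have h2 := congrArg (fun f : MulAut V => f (delta y u)) h1
      simp only [MulAut.mul_apply] at h2
      rw [h2, hw2 b hb]
  have hbW : ∀ w ∈ W, b₀ w ∈ W := by
    rintro w ⟨⟨u, rfl⟩, hw2⟩
    refine ⟨⟨(y⁻¹ (b₀ u))⁻¹, ?_⟩, ?_⟩
    · rw [delta_apply, delta_apply, map_mul, map_inv, map_inv, hb₀y, inv_inv]
      have : y (y⁻¹ (b₀ u)) = b₀ u := by
        rw [← MulAut.mul_apply, mul_inv_cancel, MulAut.one_apply]
      rw [this, mul_comm]
    · intro b hb
      have h1 : b * b₀ = b₀ * b := hBc b (hB₁B hb) b₀ hb₀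
      have h2 := congrArg (fun f : MulAut V => f (delta y u)) h1
      simp only [MulAut.mul_apply] at h2
      rw [h2, hw2 b hb]
  have hWy : ∀ w ∈ W, y w = w → w = 1 := fun w hw h =>
    eq_one_of_mem_range_delta_of_fixed hV hYodd hyn hw.1 h
  have h2grp : ∀ U : Subgroup V, IsPGroup 2 U := by
    intro U g
    refine ⟨1, ?_⟩
    apply Subtype.ext
    rw [pow_one, pow_two]
    exact hV g
  -- `W` is nontrivial
  obtain ⟨w₁, hw₁W, hw₁⟩ : ∃ w ∈ W, w ≠ 1 := by
    have hXne : X ≠ ⊥ := by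
      intro h
      apply hy1
      ext u
      have h1 : delta y u ∈ X := ⟨u, rfl⟩
      rw [h, mem_bot, delta_apply, mul_inv_eq_one] at h1
      rw [h1, MulAut.one_apply]
    have hXinv : ∀ b ∈ B₁, ∀ x ∈ X, b x ∈ X := by
      rintro b hb _ ⟨u, rfl⟩
      refine ⟨b u, ?_⟩
      have h1 : b * y = y * b := by
        have := ((memB₁ b).mp hb).2
        calc b * y = b * y * b⁻¹ * b := by group
          _ = y * b := by rw [this]
      have h2 := congrArg (fun f : MulAut V => f u) h1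
      simp only [MulAut.mul_apply] at h2
      rw [delta_apply, delta_apply, map_mul, map_inv, h2]
    let _ : MulAction B₁ X :=
      { smul := fun b x => ⟨b.1 x.1, hXinv b.1 b.2 x.1 x.2⟩
        one_smul := fun x => Subtype.ext rfl
        mul_smul := fun a b x => Subtype.ext rfl }
    have hB₁p : IsPGroup 2 B₁ := by
      intro g
      refine ⟨1, ?_⟩
      apply Subtype.ext
      rw [pow_one, pow_two]
      exact hB g (hB₁B g.2)
    have hdvd : 2 ∣ Nat.card X := by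
      obtain ⟨k, hk⟩ := IsPGroup.iff_card.mp (h2grp X)
      rcases Nat.eq_zero_or_pos k with h0 | h0
      · rw [h0, pow_zero] at hk
        exact absurd (card_eq_one.mp hk) hXne
      · rw [hk]; exact dvd_pow_self 2 h0.ne'
    have hfix1 : (1 : X) ∈ MulAction.fixedPoints B₁ X := by
      intro b
      apply Subtype.ext
      change b.1 (1 : V) = 1
      exact map_one _
    obtain ⟨x, hx, hx1⟩ := hB₁p.exists_fixed_point_of_prime_dvd_card_of_fixed_point X hdvd hfix1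
    refine ⟨x.1, ⟨x.2, ?_⟩, fun h => hx1 (Subtype.ext h.symm)⟩
    intro b hb
    exact congrArg Subtype.val (hx ⟨b, hb⟩)
  set W₀ : Subgroup V := fix B ⊓ W with hW₀
  have hW₀W : W₀ ≤ W := inf_le_right
  have hcardW : Nat.card W ≤ 2 * Nat.card W₀ := by
    have h1 : (fix B).relIndex (fix B₁) ≤ 2 := by
      have h2 := relIndex_mul_card (fix_anti hB₁B : fix B ≤ fix B₁)
      rw [← h2] at hfixle
      exact Nat.le_of_mul_le_mul_right hfixle Nat.card_pos
    have h3 : (fix B).relIndex W ≤ (fix B).relIndex (fix B₁) :=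
      relIndex_le_of_le_right inf_le_right (by
        intro h
        have h2 := relIndex_mul_card (fix_anti hB₁B : fix B ≤ fix B₁)
        rw [h, zero_mul] at h2
        exact Nat.card_pos.ne h2)
    rw [← relIndex_mul_card hW₀W, hW₀, inf_relIndex_right]
    exact Nat.mul_le_mul_right _ (h3.trans h1)
  set W₀' : Subgroup V := W₀.map y.toMonoidHom with hW₀'
  have hW₀'W : W₀' ≤ W := by
    rintro _ ⟨w, hw, rfl⟩
    exact hyW w (hW₀W hw)
  have hdisj : Disjoint W₀ W₀' := by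
    rw [disjoint_iff, eq_bot_iff]
    rintro v ⟨hv1, ⟨v₀, hv₀, rfl⟩⟩
    have hv₀' : v₀ ∈ W₀ := hv₀
    have e1 : b₀ (y v₀) = y v₀ := ((hfixB _).mp hv1.1).2
    have e2 : b₀ v₀ = v₀ := ((hfixB _).mp hv₀'.1).2
    rw [hb₀y, e2] at e1
    -- y⁻¹ v₀ = y v₀
    have e3 : (y ^ 2) v₀ = v₀ := by
      rw [pow_two, MulAut.mul_apply, ← e1, ← MulAut.mul_apply, mul_inv_cancel, MulAut.one_apply]
    have e4 : y v₀ = v₀ := by
      obtain ⟨m, hm⟩ := hYodd
      have h5 : ∀ i : ℕ, ((y ^ 2) ^ i) v₀ = v₀ := by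
        intro i
        induction i with
        | zero => simp
        | succ i ih => rw [pow_succ, MulAut.mul_apply, e3, ih]
      have h6 : y * (y ^ 2) ^ m = 1 := by
        rw [← pow_mul, ← pow_succ', ← hm]; exact hyn
      have h7 := congrArg (fun f : MulAut V => f v₀) h6
      simp only [MulAut.mul_apply, MulAut.one_apply] at h7
      rwa [h5 m] at h7
    have e5 : v₀ = 1 := hWy v₀ (hW₀W hv₀') e4
    rw [mem_bot]
    change y v₀ = 1
    rw [e5, map_one]
  have hprod : Nat.card W₀ * Nat.card W₀ ≤ Nat.card W := by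
    have h1 : Nat.card W₀' = Nat.card W₀ := card_map_of_injective y.injective
    have hinj := mul_injective_of_disjoint hdisj
    let f : W₀ × W₀' → W := fun g => ⟨g.1 * g.2, W.mul_mem (hW₀W g.1.2) (hW₀'W g.2.2)⟩
    have hf : Function.Injective f := by
      intro a b hab
      exact hinj (congrArg Subtype.val hab)
    have := Nat.card_le_card_of_injective f hf
    rwa [Nat.card_prod, h1] at this
  have hW4 : Nat.card W = 4 := by
    have hc : Nat.card W₀ ≤ 2 := by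
      have h1 : Nat.card W₀ * Nat.card W₀ ≤ 2 * Nat.card W₀ := hprod.trans hcardW
      exact Nat.le_of_mul_le_mul_right h1 Nat.card_pos
    have hle : Nat.card W ≤ 4 := by omega
    obtain ⟨k, hk⟩ := IsPGroup.iff_card.mp (h2grp W)
    have hk2 : k ≤ 2 := by
      by_contra h
      have : 2 ^ 3 ≤ 2 ^ k := Nat.pow_le_pow_right (by norm_num) (by omega)
      omega
    interval_cases k
    · exfalso
      rw [pow_zero] at hk
      have := card_eq_one.mp hk
      rw [this, mem_bot] at hw₁W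
      exact hw₁ hw₁W
    · exfalso
      rw [pow_one] at hk
      obtain ⟨z, -, hz⟩ := (Nat.card_eq_two_iff' (1 : W)).mp hk
      have h1 : (⟨w₁, hw₁W⟩ : W) = z := hz _ (fun h => hw₁ (congrArg Subtype.val h))
      have h2 : (⟨y w₁, hyW _ hw₁W⟩ : W) = z := hz _ (fun h => hw₁ (by
        have := congrArg Subtype.val h
        exact (map_eq_one_iff y y.injective).mp this))
      have h3 : y w₁ = w₁ := congrArg Subtype.val (h2.trans h1.symm)
      exact hw₁ (hWy _ hw₁W h3)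
    · rw [hk]; norm_num
  refine ⟨W, hW4, y, hyY, b₀, hb₀, hyW, hbW, ⟨w₁, hw₁W, fun h => hw₁ (hWy _ hw₁W h)⟩, ?_⟩
  by_contra hcon
  push Not at hcon
  have h1 : W ≤ W₀ := by
    intro w hw
    exact ⟨(hfixB w).mpr ⟨hw.2, hcon w hw⟩, hw⟩
  have h2 : y w₁ ∈ W₀ ⊓ W₀' := ⟨h1 (hyW _ hw₁W), ⟨w₁, h1 hw₁W, rfl⟩⟩
  rw [hdisj.eq_bot, mem_bot] at h2
  exact hw₁ ((map_eq_one_iff y y.injective).mp h2)

end Core

section Ambient

open scoped IsMulCommutative
open scoped commutatorElement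

variable {G : Type*} [Group G]

theorem mem_normalizer_of_forall_conj_mem [Finite G] {W : Subgroup G} {g : G}
    (h : ∀ w ∈ W, g * w * g⁻¹ ∈ W) : g ∈ normalizer (W : Set G) := by
  rw [mem_normalizer_iff_map_conj_eq]
  apply eq_of_le_of_card_ge
  · rintro _ ⟨w, hw, rfl⟩
    exact h w hw
  · rw [card_map_of_injective (MulAut.conj g).injective]

/-- Failure of factorization for `p = 2` with an abelian group `Y` of odd order (everything modulo
`C(V)`): the symmetric group of degree four is involved. -/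
theorem ff2 [Finite G] (V B Y : Subgroup G) (hV : Cfsg.IsElementaryAbelian 2 V)
    (hBV : B ≤ normalizer (V : Set G)) (hYV : Y ≤ normalizer (V : Set G)) (hB2 : IsPGroup 2 B)
    (hBsq : ∀ b ∈ B, b * b ∈ centralizer (V : Set G))
    (hYc : ⁅Y, Y⁆ ≤ centralizer (V : Set G)) (hYodd : Odd (Nat.card Y))
    (hBY : ∀ b ∈ B, ∀ y ∈ Y, ∃ y' ∈ Y, y'⁻¹ * (b * y * b⁻¹) ∈ centralizer (V : Set G))
    (hne : ∃ b ∈ B, ∃ y ∈ Y, y⁻¹ * (b * y * b⁻¹) ∉ centralizer (V : Set G))
    (hbest : ∀ B' ≤ B, Nat.card B' * Nat.card ↥(V ⊓ centralizer (B' : Set G)) ≤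
      Nat.card B * Nat.card ↥(V ⊓ centralizer (B : Set G))) :
    Cfsg.Involves (Equiv.Perm (Fin 4)) G := by
  obtain ⟨hVc, hVe⟩ := hV
  set N := normalizer (V : Set G) with hN
  let ρ : N →* MulAut V := V.normalizerMonoidHom
  have hρ : ∀ (x : N) (v : V), ((ρ x v : V) : G) = x * v * (x : G)⁻¹ := by
    intro x v
    exact normalizerMonoidHom_apply_apply_coe V x v
  have hρ1 : ∀ x : N, ρ x = 1 ↔ (x : G) ∈ centralizer (V : Set G) := by
    intro x
    rw [← MonoidHom.mem_ker, normalizerMonoidHom_ker, mem_subgroupOf]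
  have hρeq : ∀ x x' : N, ρ x = ρ x' ↔ (x' : G)⁻¹ * x ∈ centralizer (V : Set G) := by
    intro x x'
    have := hρ1 (x'⁻¹ * x)
    rw [map_mul, map_inv, inv_mul_eq_one] at this
    rw [eq_comm, this]
    rfl
  let fB : B →* MulAut V := ρ.comp (inclusion hBV)
  let fY : Y →* MulAut V := ρ.comp (inclusion hYV)
  have hfix : ∀ B' ≤ fB.range, Nat.card (fix B') =
      Nat.card ↥(V ⊓ centralizer (((B'.comap fB).map B.subtype : Subgroup G) : Set G)) := by
    intro B' hB'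
    rw [← card_map_of_injective V.subtype_injective]
    congr 2
    ext v
    constructor
    · rintro ⟨v, hv, rfl⟩
      refine ⟨v.2, ?_⟩
      change (v : G) ∈ centralizer _
      rw [mem_centralizer_iff]
      rintro _ ⟨b, hb, rfl⟩
      have h1 : fB b v = v := hv _ hb
      have h2 := congrArg Subtype.val h1
      have h3 : ((fB b v : V) : G) = b * v * (b : G)⁻¹ := hρ _ v
      rw [h3] at h2
      change (b : G) * v = v * b
      calc (b : G) * v = b * v * (b : G)⁻¹ * b := by group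
        _ = v * b := by rw [h2]
    · rintro ⟨hvV, hvc⟩
      refine ⟨⟨v, hvV⟩, ?_, rfl⟩
      intro s hs
      obtain ⟨b, rfl⟩ := hB' hs
      apply Subtype.ext
      have h3 : ((fB b ⟨v, hvV⟩ : V) : G) = b * v * (b : G)⁻¹ := hρ _ _
      rw [h3]
      have h4 : (b : G) * v = v * b := (mem_centralizer_iff.mp hvc) b ⟨b, hs, rfl⟩
      rw [h4]; group
  have hcore := core (V := V) (fun v => by
      apply Subtype.ext
      have := hVe v v.2
      rw [pow_two] at this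
      exact this) fB.range fY.range ?_ ?_ ?_ ?_ ?_ ?_
  · obtain ⟨W, hW4, _, ⟨y, rfl⟩, _, ⟨b, rfl⟩, hyW, hbW, ⟨w₁, hw₁, hyw₁⟩, ⟨w₂, hw₂, hbw₂⟩⟩ := hcore
    have hfYa : ∀ v : V, ((fY y v : V) : G) = y * v * (y : G)⁻¹ := fun v => hρ _ v
    have hfBa : ∀ v : V, ((fB b v : V) : G) = b * v * (b : G)⁻¹ := fun v => hρ _ v
    refine Cfsg.Agent.Lib.Helper52S4.involves_S4 (W.map V.subtype)
      (by rw [card_map_of_injective V.subtype_injective, hW4]) y b ?_ ?_ ?_ ?_ ?_ ?_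
    · apply mem_normalizer_of_forall_conj_mem
      rintro _ ⟨w, hw, rfl⟩
      exact ⟨_, hyW w hw, hfYa w⟩
    · apply mem_normalizer_of_forall_conj_mem
      rintro _ ⟨w, hw, rfl⟩
      exact ⟨_, hbW w hw, hfBa w⟩
    · refine ⟨Nat.card Y, hYodd, ?_⟩
      have := pow_card_eq_one' (G := Y) (x := y)
      have h3 := congrArg Subtype.val this
      rwa [Subgroup.coe_pow] at h3
    · intro h
      apply hyw₁
      apply Subtype.ext
      rw [hfYa]
      have := (mem_centralizer_iff.mp h) w₁ ⟨w₁, hw₁, rfl⟩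
      change (w₁ : G) * y = y * w₁ at this
      rw [← this]; group
    · obtain ⟨k, hk⟩ := hB2 b
      refine ⟨k, ?_⟩
      have h3 := congrArg Subtype.val hk
      rwa [Subgroup.coe_pow] at h3
    · intro h
      apply hbw₂
      apply Subtype.ext
      rw [hfBa]
      have := (mem_centralizer_iff.mp h) w₂ ⟨w₂, hw₂, rfl⟩
      change (w₂ : G) * b = b * w₂ at this
      rw [← this]; group
  · rintro _ ⟨b, rfl⟩
    rw [← map_mul]
    exact (hρ1 _).mpr (hBsq b b.2)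
  · rintro _ ⟨y, rfl⟩ _ ⟨y', rfl⟩
    rw [← map_mul, ← map_mul]
    apply (hρeq _ _).mpr
    apply hYc
    have : ((inclusion hYV (y' * y) : N) : G)⁻¹ * ((inclusion hYV (y * y') : N) : G) =
        ⁅(y : G)⁻¹, (y' : G)⁻¹⁆ := by
      simp only [commutatorElement_def]
      change ((y' : G) * y)⁻¹ * ((y : G) * y') = _
      group
    rw [this]
    exact commutator_mem_commutator (Y.inv_mem y.2) (Y.inv_mem y'.2)
  · exact Odd.of_dvd_nat hYodd (card_range_dvd fY)
  · rintro _ ⟨b, rfl⟩ _ ⟨y, rfl⟩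
    obtain ⟨y', hy', h⟩ := hBY b b.2 y y.2
    refine ⟨⟨y', hy'⟩, ?_⟩
    change ρ _ = ρ _ * ρ _ * (ρ _)⁻¹
    rw [← map_inv, ← map_mul, ← map_mul, eq_comm]
    exact (hρeq _ _).mpr h
  · obtain ⟨b, hb, y, hy, h⟩ := hne
    refine ⟨_, ⟨⟨b, hb⟩, rfl⟩, _, ⟨⟨y, hy⟩, rfl⟩, ?_⟩
    intro h2
    apply h
    change ρ _ * ρ _ * (ρ _)⁻¹ = ρ _ at h2
    rw [← map_inv, ← map_mul, ← map_mul] at h2
    exact (hρeq _ _).mp h2
  · intro B' hB' hidx
    rw [hfix B' hB', hfix _ le_rfl]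
    have htop : ((fB.range.comap fB).map B.subtype : Subgroup G) = B := by
      have : fB.range.comap fB = ⊤ := by
        rw [eq_top_iff]
        intro x _
        exact ⟨x, rfl⟩
      rw [this, ← MonoidHom.range_eq_map, range_subtype]
    rw [htop]
    set B'' : Subgroup G := (B'.comap fB).map B.subtype with hB''
    have hB''B : B'' ≤ B := map_subtype_le _
    have h1 : (B'.comap fB).index = 2 := by rw [index_comap, hidx]
    have h2 : Nat.card B'' = Nat.card (B'.comap fB) := card_map_of_injective B.subtype_injective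
    have h3 : Nat.card B = Nat.card B'' * 2 := by
      rw [h2, ← h1, card_mul_index]
    have h4 := hbest B'' hB''B
    rw [h3] at h4
    have hpos : 0 < Nat.card B'' := Nat.card_pos
    have h5 : Nat.card B'' * Nat.card ↥(V ⊓ centralizer (B'' : Set G)) ≤
        Nat.card B'' * (2 * Nat.card ↥(V ⊓ centralizer (B : Set G))) := by
      calc _ ≤ Nat.card B'' * 2 * Nat.card ↥(V ⊓ centralizer (B : Set G)) := h4
        _ = _ := by ring
    exact Nat.le_of_mul_le_mul_left h5 hpos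

end Ambient

end Cfsg.Agent.Lib.Helper52FF2
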