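import Cfsg.Agent.Lib.Helper52FStar
import Cfsg.Agent.Lib.Helper27Basic
import Cfsg.Agent.Lib.Helper40Sylow

set_option autoImplicit false

namespace Cfsg.Agent.Lib.Helper52FStar2

open Subgroup
open scoped commutatorElement
open Cfsg.Agent.Lib.Helper52Basic Cfsg.Agent.Lib.Helper52Subnormal Cfsg.Agent.Lib.Helper52FStar
open Cfsg.Agent.Lib.Helper28Comp Cfsg.Agent.Lib.Helper28Layer Cfsg.Agent.Lib.Helper28More

variable {G : Type*} [Group G]

/-- `Z(G) ∩ G' ≤ Φ(G)`. -/
theorem center_inf_commutator_le_frattini : center G ⊓ commutator G ≤ frattini G := by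
  intro z hz
  unfold frattini Order.radical
  rw [Subgroup.mem_iInf]
  intro M
  rw [Subgroup.mem_iInf]
  intro hM
  by_contra hzM
  have hZ : zpowers z ≤ center G := by
    rw [zpowers_le]; exact hz.1
  have htop : M ⊔ zpowers z = ⊤ := by
    apply hM.2
    apply lt_of_le_of_ne le_sup_left
    intro h
    apply hzM
    rw [h]
    exact le_sup_right (a := M) (mem_zpowers z)
  have hZc : ∀ K : Subgroup G, ⁅zpowers z, K⁆ = ⊥ := by
    intro K
    rw [commutator_eq_bot_iff_le_centralizer]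
    exact hZ.trans (center_le_centralizer _)
  have hZn : zpowers z ≤ normalizer (M : Set G) := by
    refine hZ.trans ?_
    exact (center_le_centralizer _).trans (centralizer_le_normalizer _)
  have h1 : ⁅M, M ⊔ zpowers z⁆ ≤ M := by
    apply Cfsg.Agent.Lib.Helper27Basic.commutator_sup_le' (commutator_le_self M) _ le_normalizer hZn
    rw [commutator_comm, hZc]; exact bot_le
  have h2 : ⁅M ⊔ zpowers z, M ⊔ zpowers z⁆ ≤ M := by
    apply Cfsg.Agent.Lib.Helper27Basic.commutator_sup_le h1 _ le_normalizer hZn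
    rw [hZc]; exact bot_le
  rw [htop] at h2
  exact hzM (h2 hz.2)

/-- a `p`-group `Q` acting on a nontrivial `p`-group `B` satisfies `[B,Q] < B`. -/
theorem eq_bot_of_commutator_eq_self [Finite G] {p : ℕ} [Fact p.Prime] {B Q : Subgroup G}
    (hB : IsPGroup p B) (hQ : IsPGroup p Q) (hQB : Q ≤ normalizer (B : Set G))
    (h : ⁅B, Q⁆ = B) : B = ⊥ := by
  have hP : IsPGroup p (Q ⊔ B : Subgroup G) := hQ.to_sup_of_normal_right' hB hQB
  have hnil : Group.IsNilpotent (Q ⊔ B : Subgroup G) := hP.isNilpotent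
  obtain ⟨n, hn⟩ := (isNilpotent_iff_lowerCentralSeries _).mp hnil
  have : ∀ n, B ≤ (Q ⊔ B).lowerCentralSeries n := by
    intro n
    induction n with
    | zero => exact le_sup_right
    | succ n ih =>
      rw [Subgroup.lowerCentralSeries_succ]
      conv_lhs => rw [← h]
      exact commutator_mono ih le_sup_left
  rw [eq_bot_iff, ← hn]
  exact this n

/-- the trace homomorphism `L → L/L'`, `l ↦ ∏_{q ∈ Q} (q l q⁻¹) L'`. -/
noncomputable def trace (L Q : Subgroup G) [Fintype Q] (hQL : Q ≤ normalizer (L : Set G)) :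
    L →* Abelianization L :=
  ∏ q : Q, (Abelianization.of).comp (L.normalizerMonoidHom ⟨q, hQL q.2⟩).toMonoidHom

theorem trace_apply (L Q : Subgroup G) [Fintype Q] (hQL : Q ≤ normalizer (L : Set G)) (l : L) :
    trace L Q hQL l = ∏ q : Q, Abelianization.of (L.normalizerMonoidHom ⟨q, hQL q.2⟩ l) := by
  unfold trace
  rw [MonoidHom.finsetProd_apply]
  rfl

theorem trace_conj (L Q : Subgroup G) [Fintype Q] (hQL : Q ≤ normalizer (L : Set G)) (l : L)
    (q₀ : Q) : trace L Q hQL (L.normalizerMonoidHom ⟨q₀, hQL q₀.2⟩ l) = trace L Q hQL l := by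
  rw [trace_apply, trace_apply]
  refine Fintype.prod_equiv (Equiv.mulRight q₀) _ _ ?_
  intro q
  congr 1
  apply Subtype.ext
  simp [mul_assoc]

theorem trace_eq_one_of_commutator (L Q : Subgroup G) [Fintype Q]
    (hQL : Q ≤ normalizer (L : Set G)) (h : ⁅L, Q⁆ = L) (l : L) : trace L Q hQL l = 1 := by
  have key : ⁅L, Q⁆ ≤ (trace L Q hQL).ker.map L.subtype := by
    rw [commutator_le]
    intro l hl q hq
    refine ⟨⟨l, hl⟩ * L.normalizerMonoidHom ⟨q, hQL hq⟩ ⟨l, hl⟩⁻¹, ?_, ?_⟩
    · change _ ∈ (trace L Q hQL).ker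
      rw [MonoidHom.mem_ker, map_mul]
      have := trace_conj L Q hQL (⟨l, hl⟩⁻¹) ⟨q, hq⟩
      rw [this, map_inv, mul_inv_cancel]
    · simp [commutatorElement_def, mul_assoc]
  rw [h] at key
  obtain ⟨l', hl', hll⟩ := key l.2
  have : l' = l := Subtype.ext hll
  rw [← this]
  exact hl'

theorem trace_of_centralizer (L Q : Subgroup G) [Fintype Q]
    (hQL : Q ≤ normalizer (L : Set G)) (l : L) (hl : (l : G) ∈ centralizer (Q : Set G)) :
    trace L Q hQL l = Abelianization.of l ^ Nat.card Q := by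
  rw [trace_apply]
  have : ∀ q : Q, L.normalizerMonoidHom ⟨q, hQL q.2⟩ l = l := by
    intro q
    apply Subtype.ext
    have h1 := (mem_centralizer_iff.mp hl) q q.2
    simp only [normalizerMonoidHom_apply_apply_coe]
    rw [h1]; group
  simp only [this]
  rw [Finset.prod_const, Finset.card_univ, Nat.card_eq_fintype_card]

theorem pow_card_mem_commutator_of_centralizer [Finite G] {L Q : Subgroup G}
    (hQL : Q ≤ normalizer (L : Set G)) (h : ⁅L, Q⁆ = L) {z : G} (hz : z ∈ L)
    (hzQ : z ∈ centralizer (Q : Set G)) : z ^ Nat.card Q ∈ ⁅L, L⁆ := by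
  have := Fintype.ofFinite Q
  have h1 := trace_eq_one_of_commutator L Q hQL h ⟨z, hz⟩
  rw [trace_of_centralizer L Q hQL ⟨z, hz⟩ hzQ, ← map_pow, ← MonoidHom.mem_ker,
    Abelianization.ker_of] at h1
  have h2 : ((commutator L).map L.subtype) = ⁅L, L⁆ := by
    rw [commutator_def, map_commutator, ← MonoidHom.range_eq_map, range_subtype]
  rw [← h2]
  exact ⟨_, h1, rfl⟩

/-- `L = F*(L) = [L,Q]`, `O_p(L)=1`, `Q` a `p`-group: `C_L(Q) ≤ L'`. -/
theorem inf_centralizer_le_commutator_self [Finite G] {p : ℕ} [Fact p.Prime] {L Q : Subgroup G}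
    (hL : gfitIn L = L) (hO : NoP p L) (hQ : IsPGroup p Q) (hQL : Q ≤ normalizer (L : Set G))
    (h : ⁅L, Q⁆ = L) : L ⊓ centralizer (Q : Set G) ≤ ⁅L, L⁆ := by
  intro z hz
  have h1 := pow_card_mem_commutator_of_centralizer hQL h hz.1 hz.2
  have hz' : z ∈ layerIn L ⊔ fittingIn L := by
    change z ∈ gfitIn L
    rw [hL]; exact hz.1
  obtain ⟨e, he, f, hf, rfl⟩ :=
    (mem_sup_of_commutator_eq_bot (commutator_layerIn_fittingIn L)).mp hz'
  have heL : layerIn L ≤ ⁅L, L⁆ := by
    rw [← layerIn_perfect L]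
    exact commutator_mono (layerIn_le L) (layerIn_le L)
  have hcomm : Commute e f := commute_of_commutator_eq_bot (commutator_layerIn_fittingIn L) he hf
  rw [hcomm.mul_pow] at h1
  have h2 : f ^ Nat.card Q ∈ ⁅L, L⁆ := by
    have := Subgroup.mul_mem _ (Subgroup.inv_mem _ (Subgroup.pow_mem _ (heL he) (Nat.card Q))) h1
    simpa using this
  obtain ⟨n, hn⟩ := IsPGroup.iff_card.mp hQ
  rw [hn] at h2
  have hford : (orderOf f).Coprime p := by
    have h3 : orderOf f ∣ Nat.card (fittingIn L) := by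
      have := orderOf_dvd_natCard (⟨f, hf⟩ : fittingIn L)
      rwa [Subgroup.orderOf_mk] at this
    exact Nat.Coprime.coprime_dvd_left h3 hO.card_fittingIn_coprime
  exact Subgroup.mul_mem _ (heL he) (mem_of_pow_mem_of_coprime hford h2)

end Cfsg.Agent.Lib.Helper52FStar2
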