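import Cfsg.Agent.Lib.Helper52FF2
import Cfsg.Agent.Lib.Helper52FStar2
import Cfsg.Agent.S0598

set_option autoImplicit false

namespace Cfsg.Agent.Lib.Helper52FF2b

open Subgroup
open scoped commutatorElement
open Cfsg.Agent.Lib.Helper52FF2

variable {G : Type*} [Group G]

/-- the quadratic replacement `B = C_A([V,A])` of a best offender `A` (any prime). -/
theorem exists_quadratic_best [Finite G] {p : ℕ} [Fact p.Prime] (V A : Subgroup G)
    (hV : Cfsg.IsElementaryAbelian p V) (hAV : A ≤ normalizer (V : Set G)) (hAp : IsPGroup p A)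
    (hAc : ⁅A, A⁆ ≤ centralizer (V : Set G)) (hAne : ¬ A ≤ centralizer (V : Set G))
    (hbest : ∀ B' ≤ A, Nat.card B' * Nat.card ↥(V ⊓ centralizer (B' : Set G)) ≤
      Nat.card A * Nat.card ↥(V ⊓ centralizer (A : Set G))) :
    ∃ B ≤ A, ¬ B ≤ centralizer (V : Set G) ∧ B ≤ centralizer ((⁅V, A⁆ : Subgroup G) : Set G) ∧
      A ⊓ centralizer (V : Set G) ≤ B ∧
      ∀ B' ≤ B, Nat.card B' * Nat.card ↥(V ⊓ centralizer (B' : Set G)) ≤
        Nat.card B * Nat.card ↥(V ⊓ centralizer (B : Set G)) := by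
  obtain ⟨B, hBA, h | ⟨hB, hfix, hm⟩⟩ := Cfsg.Agent.S0598.result V A hV hAV hAc V le_rfl
  · exact absurd (hbest B hBA) (not_le.mpr h)
  have hVA : ⁅V, A⁆ ≤ V := Cfsg.Agent.Lib.Helper30SZ.commutator_le_of_le_normalizer hAV
  have hVp : IsPGroup p V := by
    intro v
    refine ⟨1, ?_⟩
    apply Subtype.ext
    rw [pow_one]
    exact hV.2 v v.2
  have hVcomm : V ≤ centralizer (V : Set G) := by
    have := hV.1
    rw [← commutator_eq_bot_iff_le_centralizer, commutator_self_eq_bot_iff]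
    exact this
  refine ⟨B, hBA, ?_, hB ▸ inf_le_right, ?_, ?_⟩
  · intro hBC
    apply hAne
    have h1 : V ⊓ centralizer (B : Set G) = V := inf_eq_left.mpr (le_centralizer_iff.mp hBC)
    rw [h1] at hfix
    set M := ⁅⁅V, A⁆, A⁆ with hM
    have hMV : M ≤ V :=
      (commutator_mono hVA le_rfl).trans hVA
    have h2 : ⁅V, A⁆ ≤ M := by
      conv_lhs => rw [hfix]
      apply Cfsg.Agent.Lib.Helper27Basic.commutator_sup_le le_rfl
      · have : ⁅V ⊓ centralizer (A : Set G), A⁆ = ⊥ :=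
          commutator_eq_bot_iff_le_centralizer.mpr inf_le_right
        rw [this]; exact bot_le
      · exact Cfsg.Agent.Lib.Helper53Comm.le_normalizer_commutator_self_left _ _
      · refine le_trans ?_ (centralizer_le_normalizer _)
        exact (inf_le_left.trans hVcomm).trans (centralizer_le hMV)
    have hAn : A ≤ normalizer ((⁅V, A⁆ : Subgroup G) : Set G) :=
      Cfsg.Agent.Lib.Helper53Comm.le_normalizer_commutator_self_right V A
    have h3 : ⁅⁅V, A⁆, A⁆ = ⁅V, A⁆ :=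
      le_antisymm (Cfsg.Agent.Lib.Helper30SZ.commutator_le_of_le_normalizer hAn) h2
    have h4 := Cfsg.Agent.Lib.Helper52FStar2.eq_bot_of_commutator_eq_self (hVp.to_le hVA) hAp hAn h3
    rw [commutator_comm, commutator_eq_bot_iff_le_centralizer] at h4
    exact h4
  · rw [hB]
    exact le_inf inf_le_left (inf_le_right.trans (centralizer_le hVA))
  · intro B' hB'
    rw [← hm]
    exact hbest B' (hB'.trans hBA)

/-- elements of `C_A([V,A])` act quadratically, so their `p`-th powers act trivially. -/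
theorem sq_mem_centralizer (V A : Subgroup G) (hV : Cfsg.IsElementaryAbelian 2 V)
    (hAV : A ≤ normalizer (V : Set G)) {b : G} (hbA : b ∈ A)
    (hb : b ∈ centralizer ((⁅V, A⁆ : Subgroup G) : Set G)) : b * b ∈ centralizer (V : Set G) := by
  have hVA : ⁅V, A⁆ ≤ V := Cfsg.Agent.Lib.Helper30SZ.commutator_le_of_le_normalizer hAV
  rw [mem_centralizer_iff]
  intro v hv
  have hw : ⁅v, b⁆ ∈ ⁅V, A⁆ := commutator_mem_commutator hv hbA
  have h1 : ⁅v, b⁆ * b = b * ⁅v, b⁆ := (mem_centralizer_iff.mp hb) _ hw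
  have h2 : ⁅v, b⁆ ^ 2 = 1 := hV.2 _ (hVA hw)
  have h3 : v * b = ⁅v, b⁆ * b * v := by simp only [commutatorElement_def]; group
  calc v * (b * b) = (v * b) * b := by group
    _ = ⁅v, b⁆ * b * (v * b) := by rw [h3]; group
    _ = ⁅v, b⁆ * b * (⁅v, b⁆ * b * v) := by rw [← h3]
    _ = ⁅v, b⁆ * (b * ⁅v, b⁆) * b * v := by group
    _ = ⁅v, b⁆ * (⁅v, b⁆ * b) * b * v := by rw [h1]
    _ = ⁅v, b⁆ ^ 2 * (b * b * v) := by rw [pow_two]; group
    _ = b * b * v := by rw [h2, one_mul]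

/-- `ff2` for an arbitrary best offender `A` (abelian modulo `C(V)`) acting faithfully on `Y`
modulo `C(V)`. -/
theorem ff2_of_best [Finite G] (V A Y : Subgroup G) (hV : Cfsg.IsElementaryAbelian 2 V)
    (hAV : A ≤ normalizer (V : Set G)) (hYV : Y ≤ normalizer (V : Set G)) (hA2 : IsPGroup 2 A)
    (hAc : ⁅A, A⁆ ≤ centralizer (V : Set G)) (hAne : ¬ A ≤ centralizer (V : Set G))
    (hYc : ⁅Y, Y⁆ ≤ centralizer (V : Set G)) (hYodd : Odd (Nat.card Y))
    (hAY : ∀ a ∈ A, ∀ y ∈ Y, ∃ y' ∈ Y, y'⁻¹ * (a * y * a⁻¹) ∈ centralizer (V : Set G))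
    (hfaith : ∀ a ∈ A, (∀ y ∈ Y, y⁻¹ * (a * y * a⁻¹) ∈ centralizer (V : Set G)) →
      a ∈ centralizer (V : Set G))
    (hbest : ∀ B' ≤ A, Nat.card B' * Nat.card ↥(V ⊓ centralizer (B' : Set G)) ≤
      Nat.card A * Nat.card ↥(V ⊓ centralizer (A : Set G))) :
    Cfsg.Involves (Equiv.Perm (Fin 4)) G := by
  have : Fact (Nat.Prime 2) := ⟨Nat.prime_two⟩
  obtain ⟨B, hBA, hBne, hBq, -, hBbest⟩ := exists_quadratic_best V A hV hAV hA2 hAc hAne hbest
  refine ff2 V B Y hV (hBA.trans hAV) hYV (hA2.to_le hBA)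
    (fun b hb => sq_mem_centralizer V A hV hAV (hBA hb) (hBq hb)) hYc hYodd
    (fun b hb => hAY b (hBA hb)) ?_ hBbest
  obtain ⟨b, hb, hbC⟩ := SetLike.not_le_iff_exists.mp hBne
  by_contra hcon
  push Not at hcon
  exact hbC (hfaith b (hBA hb) (fun y hy => hcon b hb y hy))

end Cfsg.Agent.Lib.Helper52FF2b
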