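import Cfsg.Agent.Lib.Helper52FF3
import Cfsg.Agent.Lib.Helper13Offender
import Cfsg.Agent.Lib.Helper40Sylow
import Cfsg.Agent.S0199

set_option autoImplicit false

namespace Cfsg.Agent.Lib.Helper52FF4

open Subgroup
open Cfsg.Agent.Lib.Helper52FF2 Cfsg.Agent.Lib.Helper40Sylow

/-- Baer-Suzuki inside a subgroup `L`. -/
theorem baer_suzuki_rel {Γ : Type*} [Group Γ] [Finite Γ] {p : ℕ} [Fact p.Prime] (L A : Subgroup Γ)
    (hAL : A ≤ L) (hA : IsPGroup p A) (h : ∀ g ∈ L, IsPGroup p (A ⊔ cj g A : Subgroup Γ)) :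
    ∃ N ≤ L, L ≤ normalizer (N : Set Γ) ∧ IsPGroup p N ∧ A ≤ N := by
  obtain ⟨N, hN, hNp, hAN⟩ := Cfsg.Agent.S0199.result (G := L) (A.subgroupOf L) hA.comap_subtype (by
    intro g
    have h1 : IsPGroup p ((A ⊔ cj (g : Γ) A : Subgroup Γ).subgroupOf L) := (h g g.2).comap_subtype
    apply h1.to_le
    apply sup_le
    · intro x hx
      exact mem_subgroupOf.mpr (le_sup_left (a := A) (mem_subgroupOf.mp hx))
    · rintro _ ⟨x, hx, rfl⟩
      apply mem_subgroupOf.mpr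
      apply le_sup_right (a := A)
      exact ⟨x, mem_subgroupOf.mp hx, rfl⟩)
  refine ⟨N.map L.subtype, map_subtype_le _, ?_, hNp.map _, ?_⟩
  · intro d hd
    rw [mem_normalizer_iff]
    intro x
    constructor
    · rintro ⟨r, hr, rfl⟩
      exact ⟨⟨d, hd⟩ * r * ⟨d, hd⟩⁻¹, hN.conj_mem r hr _, rfl⟩
    · rintro ⟨r, hr, hrx⟩
      refine ⟨⟨d, hd⟩⁻¹ * r * ⟨d, hd⟩⁻¹⁻¹, hN.conj_mem r hr _, ?_⟩
      simp only [Subgroup.coe_subtype, Subgroup.coe_mul, Subgroup.coe_inv] at hrx ⊢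
      rw [hrx]; group
  · intro x hx
    exact ⟨⟨x, hAL hx⟩, hAN (mem_subgroupOf.mpr hx), rfl⟩

section Core

variable {V : Type*} [CommGroup V]

/-- the stabilizer of a vector -/
def stab (v : V) : Subgroup (MulAut V) where
  carrier := {s | s v = v}
  one_mem' := rfl
  mul_mem' := by
    intro a b ha hb
    change a (b v) = v
    rw [hb, ha]
  inv_mem' := by
    intro a ha
    change a⁻¹ v = v
    conv_lhs => rw [← (show a v = v from ha)]
    simp

theorem le_stab_iff {S : Subgroup (MulAut V)} {v : V} : S ≤ stab v ↔ v ∈ fix S := Iff.rfl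

theorem fix_sup (S T : Subgroup (MulAut V)) : fix (S ⊔ T) = fix S ⊓ fix T := by
  apply le_antisymm
  · exact le_inf (fix_anti le_sup_left) (fix_anti le_sup_right)
  · rintro v ⟨h1, h2⟩
    exact le_stab_iff.mp (sup_le (le_stab_iff.mpr h1) (le_stab_iff.mpr h2))

theorem fix_cj (x : MulAut V) (S : Subgroup (MulAut V)) :
    fix (cj x S) = (fix S).map x.toMonoidHom := by
  ext v
  constructor
  · intro hv
    refine ⟨x⁻¹ v, ?_, by simp⟩
    intro s hs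
    have h1 := hv (x * s * x⁻¹) (conj_mem_cj hs)
    change x (s (x⁻¹ v)) = v at h1
    apply x.injective
    rw [h1]; simp
  · rintro ⟨u, hu, rfl⟩ _ ⟨s, hs, rfl⟩
    change x (s (x⁻¹ (x u))) = x u
    have : x⁻¹ (x u) = u := by simp
    rw [this, hu s hs]

theorem card_fix_cj (x : MulAut V) (S : Subgroup (MulAut V)) :
    Nat.card (fix (cj x S)) = Nat.card (fix S) := by
  rw [fix_cj, card_map_of_injective x.injective]

/-- quadratic action -/
def Quad (A : Subgroup (MulAut V)) : Prop := ∀ a ∈ A, ∀ b ∈ A, ∀ v : V, a (b v * v⁻¹) = b v * v⁻¹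

theorem Quad.mono {A B : Subgroup (MulAut V)} (h : Quad A) (hBA : B ≤ A) : Quad B :=
  fun a ha b hb v => h a (hBA ha) b (hBA hb) v

theorem Quad.cj {A : Subgroup (MulAut V)} (h : Quad A) (x : MulAut V) : Quad (cj x A) := by
  rintro _ ⟨a, ha, rfl⟩ _ ⟨b, hb, rfl⟩ v
  change x (a (x⁻¹ (x (b (x⁻¹ v)) * v⁻¹))) = x (b (x⁻¹ v)) * v⁻¹
  have h1 : x⁻¹ (x (b (x⁻¹ v)) * v⁻¹) = b (x⁻¹ v) * (x⁻¹ v)⁻¹ := by
    rw [map_mul, map_inv]; simp
  rw [h1, h a ha b hb, map_mul, map_inv]; simp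

theorem Quad.mem_fix {A : Subgroup (MulAut V)} (h : Quad A) {b : MulAut V} (hb : b ∈ A) (v : V) :
    b v * v⁻¹ ∈ fix A := fun a ha => h a ha b hb v

theorem Quad.sq (hV : ∀ v : V, v * v = 1) {A : Subgroup (MulAut V)} (h : Quad A) {a : MulAut V}
    (ha : a ∈ A) : a * a = 1 := by
  ext v
  change a (a v) = v
  have h1 := h a ha a ha v
  rw [map_mul, map_inv] at h1
  have h2 : a (a v) = a v * v⁻¹ * a v := by rw [← h1]; simp
  rw [h2]
  calc a v * v⁻¹ * a v = (a v * a v) * v⁻¹ := by rw [mul_right_comm]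
    _ = v⁻¹ := by rw [hV, one_mul]
    _ = v := inv_eq_of_mul_eq_one_left (hV v)

theorem isPGroup_of_sq {Γ : Type*} [Group Γ] {A : Subgroup Γ} (h : ∀ a ∈ A, a * a = 1) :
    IsPGroup 2 A := by
  intro a
  refine ⟨1, ?_⟩
  apply Subtype.ext
  rw [pow_one, pow_two]
  exact h a a.2

theorem comm_of_sq {Γ : Type*} [Group Γ] {A : Subgroup Γ} (h : ∀ a ∈ A, a * a = 1) :
    ∀ a ∈ A, ∀ b ∈ A, a * b = b * a := by
  intro a ha b hb
  have h2 := h a ha
  have h3 := h b hb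
  calc a * b = (b * b) * (a * b) * (a * a) := by rw [h2, h3]; group
    _ = b * ((b * a) * (b * a)) * a := by group
    _ = b * a := by rw [h (b * a) (A.mul_mem hb ha)]; group

/-- the stabilizer of the chain `V ≥ F ≥ 1` -/
def chainStab (F : Subgroup V) : Subgroup (MulAut V) where
  carrier := {s | (∀ v, s v * v⁻¹ ∈ F) ∧ ∀ f ∈ F, s f = f}
  one_mem' := ⟨fun v => by simp, fun _ _ => rfl⟩
  mul_mem' := by
    rintro a b ⟨ha1, ha2⟩ ⟨hb1, hb2⟩
    refine ⟨fun v => ?_, fun f hf => ?_⟩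
    · change a (b v) * v⁻¹ ∈ F
      have : a (b v) * v⁻¹ = (a (b v) * (b v)⁻¹) * (b v * v⁻¹) := by group
      rw [this]
      exact F.mul_mem (ha1 _) (hb1 _)
    · change a (b f) = f
      rw [hb2 f hf, ha2 f hf]
  inv_mem' := by
    rintro a ⟨ha1, ha2⟩
    refine ⟨fun v => ?_, fun f hf => ?_⟩
    · have h1 := ha1 (a⁻¹ v)
      have h2 : a (a⁻¹ v) = v := by simp
      rw [h2] at h1
      have h3 := F.inv_mem h1
      rwa [mul_inv_rev, inv_inv] at h3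
    · conv_lhs => rw [← ha2 f hf]
      simp

theorem chainStab_sq (hV : ∀ v : V, v * v = 1) (F : Subgroup V) : ∀ s ∈ chainStab F, s * s = 1 := by
  rintro s ⟨h1, h2⟩
  ext v
  change s (s v) = v
  have h3 : s v = (s v * v⁻¹) * v := by group
  have h4 : s (s v) = (s v * v⁻¹) * s v := by
    conv_lhs => rw [h3, map_mul, h2 _ (h1 v)]
  rw [h4]
  calc s v * v⁻¹ * s v = (s v * s v) * v⁻¹ := by rw [mul_right_comm]
    _ = v⁻¹ := by rw [hV, one_mul]
    _ = v := inv_eq_of_mul_eq_one_left (hV v)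

/-- the family of minimal quadratic offenders with parameters `n`, `c` -/
structure Fam (X : Subgroup (MulAut V)) (n c : ℕ) (A : Subgroup (MulAut V)) : Prop where
  le : A ≤ X
  ne : A ≠ ⊥
  quad : Quad A
  card : Nat.card A = n
  cardFix : Nat.card (fix A) = c
  lt : ∀ B ≤ A, B ≠ ⊥ → B ≠ A → Nat.card B * Nat.card (fix B) < n * c
  ge : Nat.card V ≤ n * c

theorem Fam.cj {X : Subgroup (MulAut V)} {n c : ℕ} {A : Subgroup (MulAut V)} (h : Fam X n c A)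
    {x : MulAut V} (hx : x ∈ X) : Fam X n c (cj x A) where
  le := by
    rintro _ ⟨a, ha, rfl⟩
    exact X.mul_mem (X.mul_mem hx (h.le ha)) (X.inv_mem hx)
  ne := by
    intro h1
    apply h.ne
    exact (map_eq_bot_iff_of_injective A (MulAut.conj x).injective).mp h1
  quad := h.quad.cj x
  card := by rw [card_cj, h.card]
  cardFix := by rw [card_fix_cj, h.cardFix]
  lt := by
    intro B hB hB1 hB2
    have h1 : Helper40Sylow.cj x⁻¹ B ≤ A := by
      rw [cj_le_iff, inv_inv]; exact hB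
    have h2 := h.lt _ h1 (by
      intro h3
      exact hB1 ((map_eq_bot_iff_of_injective B (MulAut.conj x⁻¹).injective).mp h3)) (by
      intro h3
      apply hB2
      rw [← h3, cj_cj_inv])
    rwa [card_cj, card_fix_cj] at h2
  ge := h.ge

theorem Fam.sq (hV : ∀ v : V, v * v = 1) {X : Subgroup (MulAut V)} {n c : ℕ}
    {A : Subgroup (MulAut V)} (h : Fam X n c A) : ∀ a ∈ A, a * a = 1 :=
  fun _ ha => h.quad.sq hV ha

/-- a pair of members of the family generating a non-`2`-group of minimal order -/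
structure Min (X : Subgroup (MulAut V)) (n c : ℕ) (A A' : Subgroup (MulAut V)) : Prop where
  fa : Fam X n c A
  fa' : Fam X n c A'
  np : ¬ IsPGroup 2 (A ⊔ A' : Subgroup (MulAut V))
  min : ∀ B B', Fam X n c B → Fam X n c B' → ¬ IsPGroup 2 (B ⊔ B' : Subgroup (MulAut V)) →
    Nat.card (A ⊔ A' : Subgroup (MulAut V)) ≤ Nat.card (B ⊔ B' : Subgroup (MulAut V))

theorem Min.symm {X : Subgroup (MulAut V)} {n c : ℕ} {A A' : Subgroup (MulAut V)}
    (h : Min X n c A A') : Min X n c A' A where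
  fa := h.fa'
  fa' := h.fa
  np := by rw [sup_comm]; exact h.np
  min := by rw [sup_comm]; exact h.min

variable [Finite V]

theorem Min.centralizes (hV : ∀ v : V, v * v = 1) {X : Subgroup (MulAut V)} {n c : ℕ}
    {A A' : Subgroup (MulAut V)} (h : Min X n c A A')
    (hab : ∀ P ≤ X, IsPGroup 2 P → ∀ x ∈ P, ∀ y ∈ P, x * y = y * x)
    {B : Subgroup (MulAut V)} (hB : B ≤ A) (hne : B ⊔ A' ≠ A ⊔ A') :
    B ≤ centralizer (A' : Set (MulAut V)) := by
  have : Fact (Nat.Prime 2) := ⟨Nat.prime_two⟩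
  set L := B ⊔ A' with hL
  have hLH : L ≤ A ⊔ A' := sup_le (hB.trans le_sup_left) le_sup_right
  have hcard : Nat.card L < Nat.card (A ⊔ A' : Subgroup (MulAut V)) := by
    by_contra hcon
    exact hne (eq_of_le_of_card_ge hLH (not_lt.mp hcon))
  have hLX : L ≤ X := sup_le (hB.trans h.fa.le) h.fa'.le
  have hA'2 : IsPGroup 2 A' := isPGroup_of_sq (h.fa'.sq hV)
  have hB2 : IsPGroup 2 B := (isPGroup_of_sq (h.fa.sq hV)).to_le hB
  obtain ⟨N, hNL, hLN, hN2, hA'N⟩ := baer_suzuki_rel L A' le_sup_right hA'2 (by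
    intro g hg
    by_contra hcon
    have h1 := h.min _ _ h.fa' (h.fa'.cj (hLX hg)) hcon
    have h2 : A' ⊔ cj g A' ≤ L := by
      apply sup_le le_sup_right
      rintro _ ⟨a, ha, rfl⟩
      exact L.mul_mem (L.mul_mem hg (le_sup_right (a := B) ha)) (L.inv_mem hg)
    have h3 := card_le_of_le h2
    omega)
  have hL2 : IsPGroup 2 L := by
    have h1 : IsPGroup 2 (B ⊔ N : Subgroup (MulAut V)) :=
      hB2.to_sup_of_normal_right' hN2 ((le_sup_left (a := B)).trans hLN)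
    exact h1.to_le (sup_le le_sup_left (hA'N.trans le_sup_right))
  intro b hb
  rw [mem_centralizer_iff]
  intro a' ha'
  exact hab L hLX hL2 a' (le_sup_right (a := B) ha') b (le_sup_left (a := B) hb)

theorem Min.mem_fix_of (hV : ∀ v : V, v * v = 1) {X : Subgroup (MulAut V)} {n c : ℕ}
    {A A' : Subgroup (MulAut V)} (h : Min X n c A A')
    (hab : ∀ P ≤ X, IsPGroup 2 P → ∀ x ∈ P, ∀ y ∈ P, x * y = y * x)
    {a : MulAut V} (ha : a ∈ A) (haC : a ∉ centralizer (A' : Set (MulAut V))) {v : V}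
    (hv : v ∈ fix A') (hc : a v * v⁻¹ ∈ fix (A ⊔ A')) : v ∈ fix (A ⊔ A') := by
  have ha2 : a * a = 1 := h.fa.sq hV a ha
  have hainv : a⁻¹ = a := inv_eq_of_mul_eq_one_left ha2
  have hA'2 : IsPGroup 2 A' := isPGroup_of_sq (h.fa'.sq hV)
  have h1 : zpowers a ⊔ A' = A ⊔ A' := by
    by_contra hne
    exact haC (h.centralizes hV hab (zpowers_le.mpr ha) hne (mem_zpowers a))
  set H₁ := A' ⊔ cj a A' with hH₁
  have hH₁H : H₁ ≤ A ⊔ A' := by
    apply sup_le le_sup_right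
    rintro _ ⟨s, hs, rfl⟩
    have haH : a ∈ A ⊔ A' := le_sup_left (a := A) ha
    exact Subgroup.mul_mem _ (Subgroup.mul_mem _ haH (le_sup_right (a := A) hs))
      (Subgroup.inv_mem _ haH)
  have hnp : ¬ IsPGroup 2 H₁ := by
    intro hp
    apply h.np
    have h2 : zpowers a ≤ normalizer (H₁ : Set (MulAut V)) := by
      rw [zpowers_le, mem_normalizer_iff_cj, hH₁]
      change Subgroup.map _ _ = _
      rw [Subgroup.map_sup]
      change cj a A' ⊔ cj a (cj a A') = _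
      rw [← cj_mul, ha2, cj_one, sup_comm]
    have h3 : IsPGroup 2 (zpowers a) := (isPGroup_of_sq (h.fa.sq hV)).to_le (zpowers_le.mpr ha)
    have h4 := h3.to_sup_of_normal_right' hp h2
    rw [← h1]
    exact h4.to_le (sup_le le_sup_left ((le_sup_left (a := A')).trans le_sup_right))
  have h5 : H₁ = A ⊔ A' :=
    eq_of_le_of_card_ge hH₁H (h.min _ _ h.fa' (h.fa'.cj (h.fa.le ha)) hnp)
  rw [← h5, hH₁, fix_sup]
  refine ⟨hv, ?_⟩
  rintro _ ⟨s, hs, rfl⟩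
  change a (s (a⁻¹ v)) = v
  rw [hainv]
  set w := a v * v⁻¹ with hw
  have hav : a v = w * v := by rw [hw]; group
  have hsw : s w = w := hc s (le_sup_right (a := A) hs)
  have haw : a w = w := hc a (le_sup_left (a := A) ha)
  rw [hav, map_mul, hsw, hv s hs, map_mul, haw, hav, ← mul_assoc, hV, one_mul]

theorem Min.not_fix_le (hV : ∀ v : V, v * v = 1) {X : Subgroup (MulAut V)} {n c : ℕ}
    {A A' : Subgroup (MulAut V)} (h : Min X n c A A') : ¬ fix A' ≤ fix A := by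
  intro hle
  have heq : fix A' = fix A := eq_of_le_of_card_ge hle (by rw [h.fa.cardFix, h.fa'.cardFix])
  apply h.np
  apply (isPGroup_of_sq (chainStab_sq hV (fix A))).to_le
  apply sup_le
  · intro a ha
    exact ⟨fun v => h.fa.quad.mem_fix ha v, fun f hf => hf a ha⟩
  · intro a ha
    refine ⟨fun v => ?_, fun f hf => ?_⟩
    · rw [← heq]; exact h.fa'.quad.mem_fix ha v
    · rw [← heq] at hf; exact hf a ha

omit [Finite V] in
/-- `(a, c) ↦ [v, a] c` -/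
def theta {A : Subgroup (MulAut V)} (hq : Quad A) (C : Subgroup V) (v : V) : ↥A × ↥C →* V where
  toFun x := (x.1.1 v * v⁻¹) * x.2.1
  map_one' := by simp
  map_mul' := by
    rintro ⟨⟨a, ha⟩, ⟨c, hc⟩⟩ ⟨⟨b, hb⟩, ⟨d, hd⟩⟩
    change a (b v) * v⁻¹ * (c * d) = a v * v⁻¹ * c * (b v * v⁻¹ * d)
    have h1 : b v = (b v * v⁻¹) * v := by group
    have h2 : a (b v) = (b v * v⁻¹) * a v := by
      conv_lhs => rw [h1, map_mul, hq a ha b hb v]
    rw [h2]
    simp only [mul_assoc, mul_comm, mul_left_comm]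

omit [Finite V] in
theorem theta_range_le {A : Subgroup (MulAut V)} (hq : Quad A) {C : Subgroup V} (hC : C ≤ fix A)
    (v : V) : (theta hq C v).range ≤ fix A := by
  rintro _ ⟨⟨⟨a, ha⟩, ⟨c, hc⟩⟩, rfl⟩
  exact (fix A).mul_mem (hq.mem_fix ha v) (hC hc)

theorem Min.count (hV : ∀ v : V, v * v = 1) {X : Subgroup (MulAut V)} {n c : ℕ}
    {A A' : Subgroup (MulAut V)} (h : Min X n c A A')
    (hab : ∀ P ≤ X, IsPGroup 2 P → ∀ x ∈ P, ∀ y ∈ P, x * y = y * x)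
    {v : V} (hv : v ∈ fix A') (hv' : v ∉ fix A) :
    n * Nat.card (fix (A ⊔ A')) ≤
      Nat.card (A ⊓ centralizer (A' : Set (MulAut V)) : Subgroup (MulAut V)) *
        Nat.card (theta h.fa.quad (fix (A ⊔ A')) v).range := by
  set Θ := theta h.fa.quad (fix (A ⊔ A')) v with hΘ
  have h1 : Nat.card Θ.ker * Nat.card Θ.range = n * Nat.card (fix (A ⊔ A')) := by
    rw [← index_ker, card_mul_index, Nat.card_prod, h.fa.card]
  rw [← h1]
  apply Nat.mul_le_mul_right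
  have hmem : ∀ x : Θ.ker, (x.1.1.1 : MulAut V) ∈
      (A ⊓ centralizer (A' : Set (MulAut V)) : Subgroup (MulAut V)) := by
    rintro ⟨⟨⟨a, ha⟩, ⟨d, hd⟩⟩, hx⟩
    refine ⟨ha, ?_⟩
    by_contra hcon
    apply hv'
    have h2 : a v * v⁻¹ * d = 1 := hx
    have h3 : a v * v⁻¹ = d⁻¹ := eq_inv_of_mul_eq_one_left h2
    have h4 := h.mem_fix_of hV hab ha hcon hv (by rw [h3]; exact Subgroup.inv_mem _ hd)
    exact fix_anti le_sup_left h4
  apply Nat.card_le_card_of_injective (fun x : Θ.ker => (⟨x.1.1.1, hmem x⟩ :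
    (A ⊓ centralizer (A' : Set (MulAut V)) : Subgroup (MulAut V))))
  rintro ⟨⟨⟨a, ha⟩, ⟨d, hd⟩⟩, hx⟩ ⟨⟨⟨b, hb⟩, ⟨e, he⟩⟩, hy⟩ hxy
  have h5 : a = b := congrArg Subtype.val hxy
  subst h5
  have h2 : a v * v⁻¹ * d = 1 := hx
  have h3 : a v * v⁻¹ * e = 1 := hy
  have h6 : d = e := mul_left_cancel (h2.trans h3.symm)
  subst h6
  rfl

theorem Min.exists_S3 (hV : ∀ v : V, v * v = 1) {X : Subgroup (MulAut V)} {n c : ℕ}
    {A A' : Subgroup (MulAut V)} (h : Min X n c A A')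
    (hab : ∀ P ≤ X, IsPGroup 2 P → ∀ x ∈ P, ∀ y ∈ P, x * y = y * x)
    (hconj : ∃ g ∈ A ⊔ A', A' = cj g A) :
    ∃ a ∈ A, ∃ a' ∈ A', ∃ w₁ w₂ : V, w₁ ≠ 1 ∧ w₂ ≠ 1 ∧ w₁ ≠ w₂ ∧ a w₁ = w₁ ∧ a w₂ = w₁ * w₂ ∧
      a' w₁ = w₁ * w₂ ∧ a' w₂ = w₂ := by
  obtain ⟨g, hg, hA'⟩ := hconj
  set H := A ⊔ A' with hH
  set C := fix H with hC
  have hCeq : C = fix A ⊓ fix A' := fix_sup A A'
  set A₀ := A ⊓ centralizer (A' : Set (MulAut V)) with hA₀
  have hAcomm := comm_of_sq (h.fa.sq hV)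
  have hHA₀ : H ≤ centralizer (A₀ : Set (MulAut V)) := by
    apply sup_le
    · intro a ha
      rw [mem_centralizer_iff]
      intro x hx
      exact hAcomm x hx.1 a ha
    · rw [le_centralizer_iff]
      exact inf_le_right
  have hA₀A' : A₀ ≤ A' := by
    intro x hx
    rw [hA']
    have h1 : g * x * g⁻¹ = x := by
      have := (mem_centralizer_iff.mp (hHA₀ hg)) x hx
      rw [← this]; group
    rw [← h1]
    exact conj_mem_cj hx.1
  have hcpos : 0 < c := by rw [← h.fa.cardFix]; exact Nat.card_pos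
  have hCpos : 0 < Nat.card C := Nat.card_pos
  have hcc : c * c ≤ Nat.card (fix A₀) * Nat.card C := by
    have h1 := Cfsg.Agent.Lib.Helper13Offender.card_mul_card_le (fix A) (fix A')
    rw [h.fa.cardFix, h.fa'.cardFix, ← hCeq] at h1
    refine h1.trans (Nat.mul_le_mul_right _ (card_le_of_le ?_))
    exact sup_le (fix_anti inf_le_left) (fix_anti hA₀A')
  have hcount : ∀ v ∈ fix A', v ∉ fix A →
      n * Nat.card C ≤ Nat.card A₀ * Nat.card (theta h.fa.quad C v).range :=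
    fun v hv hv' => h.count hV hab hv hv'
  have hrange : ∀ v, Nat.card (theta h.fa.quad C v).range ≤ c := by
    intro v
    have h1 := card_le_of_le (theta_range_le h.fa.quad (C := C) (fix_anti le_sup_left) v)
    rwa [h.fa.cardFix] at h1
  obtain ⟨v₀, hv₀, hv₀'⟩ := SetLike.not_le_iff_exists.mp (h.not_fix_le hV)
  have hA₀bot : A₀ = ⊥ := by
    by_contra hne
    have hneA : A₀ ≠ A := by
      intro heq
      apply h.np
      have h1 : A' = A := by
        rw [hA']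
        apply cj_eq_of_le
        rintro _ ⟨x, hx, rfl⟩
        have hx' : x ∈ A₀ := by rw [heq]; exact hx
        have h1 : g * x * g⁻¹ = x := by
          have := (mem_centralizer_iff.mp (hHA₀ hg)) x hx'
          rw [← this]; group
        change g * x * g⁻¹ ∈ A
        rw [h1]; exact hx
      rw [h1, sup_idem]
      exact isPGroup_of_sq (h.fa.sq hV)
    have h1 := h.fa.lt A₀ inf_le_left hne hneA
    have h2 := (hcount v₀ hv₀ hv₀').trans (Nat.mul_le_mul_left _ (hrange v₀))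
    have h3 : n * c * Nat.card C ≤ Nat.card A₀ * Nat.card (fix A₀) * Nat.card C := by
      calc n * c * Nat.card C = (n * Nat.card C) * c := by ring
        _ ≤ (Nat.card A₀ * c) * c := Nat.mul_le_mul_right _ h2
        _ = Nat.card A₀ * (c * c) := by ring
        _ ≤ Nat.card A₀ * (Nat.card (fix A₀) * Nat.card C) := Nat.mul_le_mul_left _ hcc
        _ = _ := by ring
    have h4 := Nat.le_of_mul_le_mul_right h3 hCpos
    omega
  have hA₀card : Nat.card A₀ = 1 := by rw [hA₀bot]; exact card_bot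
  have hle : c ≤ n * Nat.card C := by
    have h1 : Nat.card (fix A₀) ≤ Nat.card V := Subgroup.card_le_card_group _
    have h2 : c * c ≤ (n * Nat.card C) * c := by
      calc c * c ≤ Nat.card (fix A₀) * Nat.card C := hcc
        _ ≤ Nat.card V * Nat.card C := Nat.mul_le_mul_right _ h1
        _ ≤ (n * c) * Nat.card C := Nat.mul_le_mul_right _ h.fa.ge
        _ = _ := by ring
    exact Nat.le_of_mul_le_mul_right h2 hcpos
  have hsurj : ∀ v ∈ fix A', v ∉ fix A → (theta h.fa.quad C v).range = fix A := by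
    intro v hv hv'
    apply eq_of_le_of_card_ge (theta_range_le h.fa.quad (fix_anti le_sup_left) v)
    have h1 := hcount v hv hv'
    rw [hA₀card, one_mul] at h1
    rw [h.fa.cardFix]
    exact hle.trans h1
  -- the final construction
  obtain ⟨v₁, hv₁, hv₁'⟩ := SetLike.not_le_iff_exists.mp (h.symm.not_fix_le hV)
  obtain ⟨a', ha', ha'C⟩ : ∃ a' ∈ A', a' ∉ centralizer (A : Set (MulAut V)) := by
    by_contra hcon
    push Not at hcon
    apply h.np
    exact (isPGroup_of_sq (h.fa.sq hV)).to_sup_of_normal_left' (isPGroup_of_sq (h.fa'.sq hV))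
      ((show A' ≤ centralizer (A : Set (MulAut V)) from hcon).trans (centralizer_le_normalizer _))
  set v₂ := a' v₁ * v₁⁻¹ with hv₂
  have hv₂A' : v₂ ∈ fix A' := h.fa'.quad.mem_fix ha' v₁
  have hv₂A : v₂ ∉ fix A := by
    intro hcon
    apply hv₁'
    have h1 : v₂ ∈ fix (A' ⊔ A) := by rw [fix_sup]; exact ⟨hv₂A', hcon⟩
    have h2 := h.symm.mem_fix_of hV hab ha' ha'C hv₁ h1
    exact fix_anti le_sup_left h2
  have h3 : v₁ ∈ (theta h.fa.quad C v₂).range := by rw [hsurj v₂ hv₂A' hv₂A]; exact hv₁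
  obtain ⟨⟨⟨a, ha⟩, ⟨d, hd⟩⟩, had⟩ := h3
  have had' : a v₂ * v₂⁻¹ * d = v₁ := had
  set w₁ := a v₂ * v₂⁻¹ with hw₁
  have hw₁A : w₁ ∈ fix A := h.fa.quad.mem_fix ha v₂
  have hdA' : a' d = d := hd a' (le_sup_right (a := A) ha')
  have hdd : d * d = 1 := hV d
  have hw₁eq : w₁ = v₁ * d := by rw [← had', mul_assoc, hdd, mul_one]
  have ha'w₁ : a' w₁ = w₁ * v₂ := by
    have h4 : a' v₁ = v₂ * v₁ := by rw [hv₂]; group
    rw [hw₁eq, map_mul, hdA', h4]
    simp only [mul_assoc, mul_comm, mul_left_comm]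
  refine ⟨a, ha, a', ha', w₁, v₂, ?_, ?_, ?_, hw₁A a ha, ?_, ha'w₁, hv₂A' a' ha'⟩
  · intro h1
    apply hv₁'
    rw [h1, one_mul] at had'
    rw [← had']
    exact fix_anti le_sup_right hd
  · intro h1
    apply hv₂A
    rw [h1]; exact Subgroup.one_mem _
  · intro h1
    apply hv₂A
    rw [← h1]; exact hw₁A
  · rw [hw₁]; group

/-- A group `X` of automorphisms of an elementary abelian `2`-group `V` with `O_2(X) = 1`, abelian
`2`-subgroups and a nontrivial quadratic best offender induces `S_3` on a fours subgroup of `V`. -/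
theorem core_abelian (hV : ∀ v : V, v * v = 1) (X : Subgroup (MulAut V))
    (hO2 : ∀ R ≤ X, X ≤ normalizer (R : Set (MulAut V)) → IsPGroup 2 R → R = ⊥)
    (hab : ∀ P ≤ X, IsPGroup 2 P → ∀ x ∈ P, ∀ y ∈ P, x * y = y * x)
    (A : Subgroup (MulAut V)) (hAX : A ≤ X) (hA : A ≠ ⊥) (hq : Quad A)
    (hbest : ∀ B ≤ A, Nat.card B * Nat.card (fix B) ≤ Nat.card A * Nat.card (fix A)) :
    ∃ a ∈ X, ∃ a' ∈ X, a * a = 1 ∧ a' * a' = 1 ∧ ∃ w₁ w₂ : V, w₁ ≠ 1 ∧ w₂ ≠ 1 ∧ w₁ ≠ w₂ ∧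
      a w₁ = w₁ ∧ a w₂ = w₁ * w₂ ∧ a' w₁ = w₁ * w₂ ∧ a' w₂ = w₂ := by
  have : Fact (Nat.Prime 2) := ⟨Nat.prime_two⟩
  let 𝒪 : Set (Subgroup (MulAut V)) := {B | B ≤ X ∧ B ≠ ⊥ ∧ Quad B ∧
    ∀ B' ≤ B, Nat.card B' * Nat.card (fix B') ≤ Nat.card B * Nat.card (fix B)}
  obtain ⟨A₁, ⟨hA₁X, hA₁ne, hA₁q, hA₁best⟩, hA₁min⟩ :=
    Set.exists_min_image 𝒪 (fun B => Nat.card B) (Set.toFinite _) ⟨A, hAX, hA, hq, hbest⟩
  set n := Nat.card A₁ with hn
  set c := Nat.card (fix A₁) with hc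
  have hF₁ : Fam X n c A₁ := by
    refine ⟨hA₁X, hA₁ne, hA₁q, rfl, rfl, ?_, ?_⟩
    · intro B hB hB1 hB2
      by_contra hcon
      have hcon' := not_lt.mp hcon
      have h1 : B ∈ 𝒪 := ⟨hB.trans hA₁X, hB1, hA₁q.mono hB,
        fun B' hB' => (hA₁best B' (hB'.trans hB)).trans hcon'⟩
      have h2 : Nat.card A₁ ≤ Nat.card B := hA₁min B h1
      exact hB2 (eq_of_le_of_card_ge hB h2)
    · have h1 := hA₁best ⊥ bot_le
      have h2 : fix (⊥ : Subgroup (MulAut V)) = ⊤ := by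
        rw [eq_top_iff]
        intro v _ s hs
        rw [mem_bot.mp hs]; rfl
      rwa [h2, card_bot, one_mul, card_top] at h1
  have hA₁2 : IsPGroup 2 A₁ := isPGroup_of_sq (hF₁.sq hV)
  obtain ⟨g, hg, hgnp⟩ : ∃ g ∈ X, ¬ IsPGroup 2 (A₁ ⊔ cj g A₁ : Subgroup (MulAut V)) := by
    by_contra hcon
    push Not at hcon
    obtain ⟨N, hNX, hXN, hN2, hAN⟩ := baer_suzuki_rel X A₁ hA₁X hA₁2 hcon
    apply hA₁ne
    rw [eq_bot_iff, ← hO2 N hNX hXN hN2]
    exact hAN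
  let 𝒬 : Set (Subgroup (MulAut V) × Subgroup (MulAut V)) :=
    {q | Fam X n c q.1 ∧ Fam X n c q.2 ∧ ¬ IsPGroup 2 (q.1 ⊔ q.2 : Subgroup (MulAut V))}
  obtain ⟨⟨B, B'⟩, ⟨hB, hB', hBnp⟩, hBmin⟩ :=
    Set.exists_min_image 𝒬 (fun q => Nat.card (q.1 ⊔ q.2 : Subgroup (MulAut V))) (Set.toFinite _)
      ⟨(A₁, cj g A₁), hF₁, hF₁.cj hg, hgnp⟩
  have hM : Min X n c B B' := ⟨hB, hB', hBnp, fun E E' hE hE' hnp => hBmin (E, E') ⟨hE, hE', hnp⟩⟩
  have hfin : ∀ E E' : Subgroup (MulAut V), Min X n c E E' → (∃ g ∈ E ⊔ E', E' = cj g E) →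
      ∃ a ∈ X, ∃ a' ∈ X, a * a = 1 ∧ a' * a' = 1 ∧ ∃ w₁ w₂ : V, w₁ ≠ 1 ∧ w₂ ≠ 1 ∧ w₁ ≠ w₂ ∧
      a w₁ = w₁ ∧ a w₂ = w₁ * w₂ ∧ a' w₁ = w₁ * w₂ ∧ a' w₂ = w₂ := by
    intro E E' hE hconj
    obtain ⟨a, ha, a', ha', w₁, w₂, hw⟩ := hE.exists_S3 hV hab hconj
    exact ⟨a, hE.fa.le ha, a', hE.fa'.le ha', hE.fa.sq hV a ha, hE.fa'.sq hV a' ha', w₁, w₂, hw⟩
  -- conjugacy inside `H`
  have hstep : ∀ E E' : Subgroup (MulAut V), Min X n c E E' →
      (∃ k ∈ E ⊔ E', ¬ IsPGroup 2 (E ⊔ cj k E : Subgroup (MulAut V))) →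
      ∃ k, Min X n c E (cj k E) ∧ k ∈ E ⊔ cj k E := by
    rintro E E' hE ⟨k, hk, hknp⟩
    have hkX : k ∈ X := (sup_le hE.fa.le hE.fa'.le) hk
    have h1 : E ⊔ cj k E ≤ E ⊔ E' := by
      apply sup_le le_sup_left
      rintro _ ⟨s, hs, rfl⟩
      exact Subgroup.mul_mem _ (Subgroup.mul_mem _ hk (le_sup_left (a := E) hs))
        (Subgroup.inv_mem _ hk)
    have h2 : E ⊔ cj k E = E ⊔ E' :=
      eq_of_le_of_card_ge h1 (hE.min _ _ hE.fa (hE.fa.cj hkX) hknp)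
    refine ⟨k, ⟨hE.fa, hE.fa.cj hkX, hknp, ?_⟩, ?_⟩
    · rw [h2]; exact hE.min
    · rw [h2]; exact hk
  by_cases h1 : ∃ k ∈ B ⊔ B', ¬ IsPGroup 2 (B ⊔ cj k B : Subgroup (MulAut V))
  · obtain ⟨k, hk1, hk2⟩ := hstep B B' hM h1
    exact hfin _ _ hk1 ⟨k, hk2, rfl⟩
  by_cases h2 : ∃ k ∈ B' ⊔ B, ¬ IsPGroup 2 (B' ⊔ cj k B' : Subgroup (MulAut V))
  · obtain ⟨k, hk1, hk2⟩ := hstep B' B hM.symm h2
    exact hfin _ _ hk1 ⟨k, hk2, rfl⟩
  exfalso
  push Not at h1 h2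
  obtain ⟨N₁, hN₁H, hHN₁, hN₁2, hBN₁⟩ :=
    baer_suzuki_rel (B ⊔ B') B le_sup_left (isPGroup_of_sq (hB.sq hV)) h1
  obtain ⟨N₂, hN₂H, hHN₂, hN₂2, hBN₂⟩ :=
    baer_suzuki_rel (B' ⊔ B) B' le_sup_left (isPGroup_of_sq (hB'.sq hV)) h2
  apply hBnp
  have h3 : IsPGroup 2 (N₁ ⊔ N₂ : Subgroup (MulAut V)) :=
    hN₁2.to_sup_of_normal_right' hN₂2 (hN₁H.trans (by rw [sup_comm]; exact hHN₂))
  exact h3.to_le (sup_le (hBN₁.trans le_sup_left) (hBN₂.trans le_sup_right))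

end Core

end Cfsg.Agent.Lib.Helper52FF4
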