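import Cfsg.Agent.Lib.Helper52FF4

set_option autoImplicit false

namespace Cfsg.Agent.Lib.Helper52FF5

open Subgroup
open Cfsg.Agent.Lib.Helper52FF2 Cfsg.Agent.Lib.Helper52FF4 Cfsg.Agent.Lib.Helper40Sylow

/-- the fours group generated by two commuting involutions -/
def four {G : Type*} [Group G] (w₁ w₂ : G) (h11 : w₁ * w₁ = 1) (h22 : w₂ * w₂ = 1)
    (h12 : w₁ * w₂ = w₂ * w₁) : Subgroup G where
  carrier := {1, w₁, w₂, w₁ * w₂}
  one_mem' := by simp
  mul_mem' := by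
    have e1 : w₁ * (w₁ * w₂) = w₂ := by rw [← mul_assoc, h11, one_mul]
    have e2 : w₂ * (w₁ * w₂) = w₁ := by rw [h12, ← mul_assoc, h22, one_mul]
    have e3 : w₁ * w₂ * w₁ = w₂ := by rw [h12, mul_assoc, h11, mul_one]
    have e4 : w₁ * w₂ * w₂ = w₁ := by rw [mul_assoc, h22, mul_one]
    have e5 : w₁ * w₂ * (w₁ * w₂) = 1 := by rw [mul_assoc, e2, h11]
    rintro a b (rfl | rfl | rfl | rfl) (rfl | rfl | rfl | rfl) <;>
      simp [h11, h22, e1, e2, e3, e4, e5, ← h12]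
  inv_mem' := by
    have i1 : w₁⁻¹ = w₁ := inv_eq_of_mul_eq_one_left h11
    have i2 : w₂⁻¹ = w₂ := inv_eq_of_mul_eq_one_left h22
    rintro a (rfl | rfl | rfl | rfl) <;> simp [i1, i2, ← h12]

theorem mem_four {G : Type*} [Group G] {w₁ w₂ : G} {h11 : w₁ * w₁ = 1} {h22 : w₂ * w₂ = 1}
    {h12 : w₁ * w₂ = w₂ * w₁} {x : G} :
    x ∈ four w₁ w₂ h11 h22 h12 ↔ x = 1 ∨ x = w₁ ∨ x = w₂ ∨ x = w₁ * w₂ := Iff.rfl

theorem card_four {G : Type*} [Group G] {w₁ w₂ : G} (h11 : w₁ * w₁ = 1) (h22 : w₂ * w₂ = 1)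
    (h12 : w₁ * w₂ = w₂ * w₁) (hw₁ : w₁ ≠ 1) (hw₂ : w₂ ≠ 1) (hne : w₁ ≠ w₂) :
    Nat.card (four w₁ w₂ h11 h22 h12) = 4 := by
  have i2 : w₂⁻¹ = w₂ := inv_eq_of_mul_eq_one_left h22
  have h1 : Nat.card (four w₁ w₂ h11 h22 h12) = Set.ncard ({1, w₁, w₂, w₁ * w₂} : Set G) :=
    Nat.card_coe_set_eq _
  rw [h1, Set.ncard_insert_of_notMem, Set.ncard_insert_of_notMem, Set.ncard_pair]
  · intro h
    apply hw₁
    have : w₁ * w₂ = 1 * w₂ := by rw [one_mul]; exact h.symm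
    exact mul_right_cancel this
  · simp only [Set.mem_insert_iff, Set.mem_singleton_iff, not_or]
    refine ⟨hne, ?_⟩
    intro h
    apply hw₂
    have : w₁ * w₂ = w₁ * 1 := by rw [mul_one]; exact h.symm
    exact mul_left_cancel this
  · simp only [Set.mem_insert_iff, Set.mem_singleton_iff, not_or]
    refine ⟨hw₁.symm, hw₂.symm, ?_⟩
    intro h
    apply hne
    rw [← i2]
    exact eq_inv_of_mul_eq_one_left h.symm

theorem involves_S4_of_pair {G : Type*} [Group G] [Finite G] (w₁ w₂ t t' : G)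
    (h11 : w₁ * w₁ = 1) (h22 : w₂ * w₂ = 1) (h12 : w₁ * w₂ = w₂ * w₁)
    (hw₁ : w₁ ≠ 1) (hw₂ : w₂ ≠ 1) (hne : w₁ ≠ w₂)
    (ht1 : t * w₁ * t⁻¹ = w₁) (ht2 : t * w₂ * t⁻¹ = w₁ * w₂)
    (ht'1 : t' * w₁ * t'⁻¹ = w₁ * w₂) (ht'2 : t' * w₂ * t'⁻¹ = w₂)
    (ht : ∃ k : ℕ, t ^ 2 ^ k = 1) : Cfsg.Involves (Equiv.Perm (Fin 4)) G := by
  set W := four w₁ w₂ h11 h22 h12 with hW
  have e1 : w₁ * (w₁ * w₂) = w₂ := by rw [← mul_assoc, h11, one_mul]
  have e2 : w₂ * (w₁ * w₂) = w₁ := by rw [h12, ← mul_assoc, h22, one_mul]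
  have hconj : ∀ g a b : G, g * (a * b) * g⁻¹ = (g * a * g⁻¹) * (g * b * g⁻¹) := by
    intro g a b; group
  have htN : t ∈ normalizer (W : Set G) := by
    apply mem_normalizer_of_forall_conj_mem
    rintro w (rfl | rfl | rfl | rfl)
    · simp
    · rw [ht1]; exact mem_four.mpr (by simp)
    · rw [ht2]; exact mem_four.mpr (by simp)
    · rw [hconj, ht1, ht2, e1]; exact mem_four.mpr (by simp)
  have ht'N : t' ∈ normalizer (W : Set G) := by
    apply mem_normalizer_of_forall_conj_mem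
    rintro w (rfl | rfl | rfl | rfl)
    · simp
    · rw [ht'1]; exact mem_four.mpr (by simp)
    · rw [ht'2]; exact mem_four.mpr (by simp)
    · rw [hconj, ht'1, ht'2, mul_assoc, h22, mul_one]; exact mem_four.mpr (by simp)
  set y := t * t' with hy
  have hyN : y ∈ normalizer (W : Set G) := Subgroup.mul_mem _ htN ht'N
  have hy1 : y * w₁ * y⁻¹ = w₂ := by
    calc y * w₁ * y⁻¹ = t * (t' * w₁ * t'⁻¹) * t⁻¹ := by rw [hy]; group
      _ = w₂ := by rw [ht'1, hconj, ht1, ht2, e1]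
  have hy2 : y * w₂ * y⁻¹ = w₁ * w₂ := by
    calc y * w₂ * y⁻¹ = t * (t' * w₂ * t'⁻¹) * t⁻¹ := by rw [hy]; group
      _ = w₁ * w₂ := by rw [ht'2, ht2]
  have hy3 : y ^ 3 ∈ centralizer ({w₁} : Set G) := by
    rw [mem_centralizer_singleton_iff]
    have h1 : y ^ 3 * w₁ * (y ^ 3)⁻¹ = w₁ := by
      calc y ^ 3 * w₁ * (y ^ 3)⁻¹ = y * (y * (y * w₁ * y⁻¹) * y⁻¹) * y⁻¹ := by
            rw [pow_succ, pow_two]; group
        _ = w₁ := by rw [hy1, hy2, hconj, hy1, hy2, e2]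
    calc y ^ 3 * w₁ = y ^ 3 * w₁ * (y ^ 3)⁻¹ * y ^ 3 := by group
      _ = w₁ * y ^ 3 := by rw [h1]
  obtain ⟨k, m, hm, hkm⟩ := Nat.exists_eq_two_pow_mul_odd (orderOf_pos y).ne'
  refine Cfsg.Agent.Lib.Helper52S4.involves_S4 W (card_four h11 h22 h12 hw₁ hw₂ hne) (y ^ 2 ^ k) t
    (Subgroup.pow_mem _ hyN _) htN ⟨m, hm, ?_⟩ ?_ ht ?_
  · rw [← pow_mul, ← hkm, pow_orderOf_eq_one]
  · intro hcon
    have h1 : y ^ 2 ^ k ∈ centralizer ({w₁} : Set G) := by
      rw [mem_centralizer_singleton_iff]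
      exact ((mem_centralizer_iff.mp hcon) w₁ (mem_four.mpr (by simp))).symm
    have hcop : IsCoprime ((2 ^ k : ℕ) : ℤ) ((3 : ℕ) : ℤ) := by
      rw [Nat.isCoprime_iff_coprime]
      exact Nat.Coprime.pow_left k (by norm_num)
    obtain ⟨a, b, hab⟩ := hcop
    have h2 : y = (y ^ 2 ^ k) ^ a * (y ^ 3) ^ b := by
      rw [← zpow_natCast, ← zpow_natCast, ← zpow_mul, ← zpow_mul, ← zpow_add,
        mul_comm _ a, mul_comm _ b, hab, zpow_one]
    have h3 : y ∈ centralizer ({w₁} : Set G) := by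
      rw [h2]
      exact Subgroup.mul_mem _ (Subgroup.zpow_mem _ h1 _) (Subgroup.zpow_mem _ hy3 _)
    rw [mem_centralizer_singleton_iff] at h3
    apply hne
    rw [← hy1, h3]; group
  · intro hcon
    have h1 := (mem_centralizer_iff.mp hcon) w₂ (mem_four.mpr (by simp))
    apply hw₁
    have h2 : t * w₂ * t⁻¹ = w₂ := by rw [← h1]; group
    rw [ht2] at h2
    have : w₁ * w₂ = 1 * w₂ := by rw [one_mul]; exact h2
    exact mul_right_cancel this

open scoped IsMulCommutative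
open scoped commutatorElement

/-- Failure of factorization for `p = 2` in a (not necessarily solvable) group `D` acting on `V`
with `O_2(D/C_D(V)) = 1` and abelian `2`-subgroups modulo `C(V)`. -/
theorem ff2_abelian {G : Type*} [Group G] [Finite G] (V D A : Subgroup G)
    (hV : Cfsg.IsElementaryAbelian 2 V)
    (hDV : D ≤ normalizer (V : Set G)) (hK : IsPGroup 2 (D ⊓ centralizer (V : Set G) : Subgroup G))
    (hO : ∀ R ≤ D, D ≤ normalizer (R : Set G) → IsPGroup 2 R → R ≤ centralizer (V : Set G))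
    (hab : ∀ P ≤ D, IsPGroup 2 P → ⁅P, P⁆ ≤ centralizer (V : Set G))
    (hAD : A ≤ D) (hA2 : IsPGroup 2 A) (hAne : ¬ A ≤ centralizer (V : Set G))
    (hbest : ∀ B' ≤ A, Nat.card B' * Nat.card ↥(V ⊓ centralizer (B' : Set G)) ≤
      Nat.card A * Nat.card ↥(V ⊓ centralizer (A : Set G))) :
    Cfsg.Involves (Equiv.Perm (Fin 4)) G := by
  have : Fact (Nat.Prime 2) := ⟨Nat.prime_two⟩
  obtain ⟨B, hBA, hBne, hBq, -, hBbest⟩ := Cfsg.Agent.Lib.Helper52FF2b.exists_quadratic_best V A hV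
    (hAD.trans hDV) hA2 (hab A hAD hA2) hAne hbest
  have hBD : B ≤ D := hBA.trans hAD
  obtain ⟨hVc, hVe⟩ := hV
  set N := normalizer (V : Set G) with hN
  let ρ : N →* MulAut V := V.normalizerMonoidHom
  have hρ : ∀ (x : N) (v : V), ((ρ x v : V) : G) = x * v * (x : G)⁻¹ := by
    intro x v
    exact normalizerMonoidHom_apply_apply_coe V x v
  have hρ1 : ∀ x : N, ρ x = 1 ↔ (x : G) ∈ centralizer (V : Set G) := by
    intro x
    rw [← MonoidHom.mem_ker, normalizerMonoidHom_ker, mem_subgroupOf]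
  let fD : D →* MulAut V := ρ.comp (inclusion hDV)
  let fB : B →* MulAut V := fD.comp (inclusion hBD)
  have hfD : ∀ (x : D) (v : V), ((fD x v : V) : G) = x * v * (x : G)⁻¹ := fun x v => hρ _ v
  have hfB : ∀ (x : B) (v : V), ((fB x v : V) : G) = x * v * (x : G)⁻¹ := fun x v => hρ _ v
  have hfD1 : ∀ x : D, fD x = 1 ↔ (x : G) ∈ centralizer (V : Set G) := fun x => hρ1 _
  have hker : IsPGroup 2 fD.ker := by
    have h1 : IsPGroup 2 ((D ⊓ centralizer (V : Set G) : Subgroup G).subgroupOf D) :=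
      hK.comap_subtype
    apply h1.to_le
    intro x hx
    exact mem_subgroupOf.mpr ⟨x.2, (hfD1 x).mp hx⟩
  have hfix : ∀ B' ≤ fB.range, Nat.card (fix B') =
      Nat.card ↥(V ⊓ centralizer (((B'.comap fB).map B.subtype : Subgroup G) : Set G)) := by
    intro B' hB'
    rw [← card_map_of_injective V.subtype_injective]
    congr 2
    ext v
    constructor
    · rintro ⟨v, hv, rfl⟩
      refine ⟨v.2, ?_⟩
      change (v : G) ∈ centralizer _
      rw [mem_centralizer_iff]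
      rintro _ ⟨b, hb, rfl⟩
      have h1 : fB b v = v := hv _ hb
      have h2 := congrArg Subtype.val h1
      rw [hfB] at h2
      change (b : G) * v = v * b
      calc (b : G) * v = b * v * (b : G)⁻¹ * b := by group
        _ = v * b := by rw [h2]
    · rintro ⟨hvV, hvc⟩
      refine ⟨⟨v, hvV⟩, ?_, rfl⟩
      intro s hs
      obtain ⟨b, rfl⟩ := hB' hs
      apply Subtype.ext
      rw [hfB]
      have h4 : (b : G) * v = v * b := (mem_centralizer_iff.mp hvc) b ⟨b, hs, rfl⟩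
      change (b : G) * v * (b : G)⁻¹ = v
      rw [h4]; group
  have hcore := core_abelian (V := V) (fun v => by
      apply Subtype.ext
      have := hVe v v.2
      rw [pow_two] at this
      exact this) fD.range ?_ ?_ fB.range ?_ ?_ ?_ ?_
  · obtain ⟨_, ⟨t, rfl⟩, _, ⟨t', rfl⟩, htt, -, w₁, w₂, hw₁, hw₂, hne, h1, h2, h3, h4⟩ := hcore
    have hsq : ∀ w : V, (w : G) * w = 1 := by
      intro w
      have := hVe w w.2
      rwa [pow_two] at this
    refine involves_S4_of_pair (w₁ : G) (w₂ : G) (t : G) (t' : G) (hsq w₁) (hsq w₂) ?_ ?_ ?_ ?_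
      ?_ ?_ ?_ ?_ ?_
    · exact Cfsg.Agent.Lib.Helper13Basic.comm_of_mem V w₁.2 w₂.2
    · intro h; exact hw₁ (Subtype.ext h)
    · intro h; exact hw₂ (Subtype.ext h)
    · intro h; exact hne (Subtype.ext h)
    · rw [← hfD, h1]
    · rw [← hfD, h2]; rfl
    · rw [← hfD, h3]; rfl
    · rw [← hfD, h4]
    · have h5 : (t * t : D) ∈ fD.ker := by rw [MonoidHom.mem_ker, map_mul]; exact htt
      obtain ⟨k, hk⟩ := hker ⟨_, h5⟩
      refine ⟨k + 1, ?_⟩
      have h6 := congrArg (fun x : fD.ker => ((x : D) : G)) hk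
      simp only [Subgroup.coe_pow, Subgroup.coe_mul, Subgroup.coe_one] at h6
      rw [pow_succ', pow_mul, pow_two]
      exact h6
  · -- `O_2 = 1`
    intro R hR hXR hR2
    have hR'2 : IsPGroup 2 (R.comap fD) := hR2.comap_of_ker_isPGroup fD hker
    have h1 : (R.comap fD).map D.subtype ≤ centralizer (V : Set G) := by
      apply hO _ (map_subtype_le _) _ (hR'2.map _)
      intro d hd
      apply mem_normalizer_of_forall_conj_mem
      rintro _ ⟨r, hr, rfl⟩
      refine ⟨⟨d, hd⟩ * r * ⟨d, hd⟩⁻¹, ?_, rfl⟩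
      change fD (⟨d, hd⟩ * r * ⟨d, hd⟩⁻¹) ∈ R
      rw [map_mul, map_mul, map_inv]
      exact (mem_normalizer_iff.mp (hXR ⟨⟨d, hd⟩, rfl⟩) _).mp hr
    rw [eq_bot_iff]
    intro x hx
    obtain ⟨d, rfl⟩ := hR hx
    exact mem_bot.mpr ((hfD1 d).mpr (h1 ⟨d, hx, rfl⟩))
  · -- abelian `2`-subgroups
    intro P hP hP2 x hx y hy
    have hP'2 : IsPGroup 2 (P.comap fD) := hP2.comap_of_ker_isPGroup fD hker
    have h1 := hab _ (map_subtype_le _) (hP'2.map D.subtype)
    obtain ⟨x', rfl⟩ := hP hx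
    obtain ⟨y', rfl⟩ := hP hy
    have h2 : ⁅(x' : G), (y' : G)⁆ ∈ centralizer (V : Set G) :=
      h1 (commutator_mem_commutator ⟨x', hx, rfl⟩ ⟨y', hy, rfl⟩)
    have h3 : fD ⁅x', y'⁆ = 1 := (hfD1 _).mpr h2
    rw [map_commutatorElement, commutatorElement_eq_one_iff_mul_comm] at h3
    exact h3
  · rintro _ ⟨b, rfl⟩
    exact ⟨inclusion hBD b, rfl⟩
  · intro h
    apply hBne
    intro b hb
    have h1 : fB ⟨b, hb⟩ ∈ fB.range := ⟨_, rfl⟩
    rw [h] at h1
    exact (hρ1 _).mp (mem_bot.mp h1)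
  · -- quadratic
    rintro _ ⟨a, rfl⟩ _ ⟨b, rfl⟩ v
    apply Subtype.ext
    rw [hfB]
    have h1 : ((fB b v * v⁻¹ : V) : G) = ⁅(b : G), (v : G)⁆ := by
      rw [Subgroup.coe_mul, hfB, commutatorElement_def]; rfl
    rw [h1]
    have h2 : ⁅(b : G), (v : G)⁆ ∈ ⁅V, A⁆ := by
      rw [commutator_comm]
      exact commutator_mem_commutator (hBA b.2) v.2
    have h3 := (mem_centralizer_iff.mp (hBq a.2)) _ h2
    rw [← h3]; group
  · intro B' hB'
    rw [hfix B' hB', hfix _ le_rfl]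
    have htop : ((fB.range.comap fB).map B.subtype : Subgroup G) = B := by
      have : fB.range.comap fB = ⊤ := by
        rw [eq_top_iff]
        intro x _
        exact ⟨x, rfl⟩
      rw [this, ← MonoidHom.range_eq_map, range_subtype]
    rw [htop]
    set B'' : Subgroup G := (B'.comap fB).map B.subtype with hB''
    have hB''B : B'' ≤ B := map_subtype_le _
    set i := B'.relIndex fB.range with hi
    have h1 : (B'.comap fB).index = i := by rw [index_comap]
    have h2 : Nat.card B'' = Nat.card (B'.comap fB) := card_map_of_injective B.subtype_injective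
    have h3 : Nat.card B = Nat.card B'' * i := by
      rw [h2, ← h1, card_mul_index]
    have h3' : Nat.card fB.range = i * Nat.card B' := (relIndex_mul_card hB').symm
    have h4 := hBbest B'' hB''B
    rw [h3] at h4
    have hpos : 0 < Nat.card B'' := Nat.card_pos
    have h5 : Nat.card B'' * Nat.card ↥(V ⊓ centralizer (B'' : Set G)) ≤
        Nat.card B'' * (i * Nat.card ↥(V ⊓ centralizer (B : Set G))) := by
      calc _ ≤ Nat.card B'' * i * Nat.card ↥(V ⊓ centralizer (B : Set G)) := h4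
        _ = _ := by ring
    have h6 := Nat.le_of_mul_le_mul_left h5 hpos
    rw [h3']
    calc Nat.card B' * Nat.card ↥(V ⊓ centralizer (B'' : Set G))
        ≤ Nat.card B' * (i * Nat.card ↥(V ⊓ centralizer (B : Set G))) := Nat.mul_le_mul_left _ h6
      _ = _ := by ring

end Cfsg.Agent.Lib.Helper52FF5
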