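import Cfsg.Prelude.Def_LocalEven
import Mathlib

set_option autoImplicit false

namespace Cfsg.Agent.Lib.Helper52S4

open Subgroup
open scoped commutatorElement

section Normal

variable {X : Type*} [Group X]

/-- conjugation action of `X` on the non-identity elements of a normal subgroup. -/
noncomputable def sigma0 (W : Subgroup X) [W.Normal] : X →* Equiv.Perm {w : W // w ≠ 1} where
  toFun x := (MulAut.conjNormal x : MulAut W).toEquiv.subtypeEquiv (fun w => by simp)
  map_one' := by ext; simp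
  map_mul' := by intros; ext; simp

theorem sigma0_apply (W : Subgroup X) [W.Normal] (x : X) (w : {w : W // w ≠ 1}) :
    ((sigma0 W x w : W) : X) = x * w * x⁻¹ := by
  simp [sigma0]

theorem sigma0_ker (W : Subgroup X) [W.Normal] : (sigma0 W).ker = centralizer (W : Set X) := by
  ext x
  rw [MonoidHom.mem_ker, mem_centralizer_iff]
  constructor
  · intro h w hw
    by_cases hw1 : w = 1
    · subst hw1; simp
    · have h1 := sigma0_apply W x ⟨⟨w, hw⟩, fun h => hw1 (congrArg Subtype.val h)⟩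
      rw [h] at h1
      simp only [Equiv.Perm.coe_one, id_eq] at h1
      calc w * x = x * w * x⁻¹ * x := by rw [← h1]
        _ = x * w := by group
  · intro h
    ext w
    rw [sigma0_apply]
    have := h w.1.1 w.1.2
    simp only [Equiv.Perm.coe_one, id_eq]
    rw [← this]; group

theorem card_ne_one [Finite X] (W : Subgroup X) (h : Nat.card W = 4) :
    Nat.card {w : W // w ≠ 1} = 3 := by
  classical
  have := Fintype.ofFinite W
  rw [Nat.card_eq_fintype_card] at h ⊢
  have h2 := Set.card_ne_eq (1 : W)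
  simp only [Set.coe_ofPred] at h2
  rw [h] at h2
  convert h2

theorem perm3_a : ∀ g : Equiv.Perm (Fin 3), g ^ 3 = 1 → g ≠ 1 → ∀ i, g i ≠ i := by decide
theorem perm3_b : ∀ g : Equiv.Perm (Fin 3), Equiv.Perm.sign g = 1 → g ^ 3 = 1 := by decide
theorem perm3_c : ∀ g h : Equiv.Perm (Fin 3), g ≠ 1 → g ^ 3 = 1 → Equiv.Perm.sign h = -1 →
    ∀ x, x = 1 ∨ x = g ∨ x = g ^ 2 ∨ x = h ∨ x = g * h ∨ x = g ^ 2 * h := by decide

theorem eq_one_of_pow_pow {M : Type*} [Group M] {g : M} {a b : ℕ} (hab : Nat.Coprime a b)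
    (ha : g ^ a = 1) (hb : g ^ b = 1) : g = 1 := by
  have := pow_gcd_eq_one.mpr ⟨ha, hb⟩
  rwa [hab, pow_one] at this

theorem sign_eq_one_of_pow {g : Equiv.Perm (Fin 3)} {k : ℕ} (h : g ^ 3 ^ k = 1) :
    Equiv.Perm.sign g = 1 := by
  have h1 : (Equiv.Perm.sign g) ^ 3 ^ k = 1 := by rw [← map_pow, h, map_one]
  have h2 : (Equiv.Perm.sign g) ^ 2 = 1 := by
    rcases Int.units_eq_one_or (Equiv.Perm.sign g) with h | h <;> rw [h] <;> simp
  exact eq_one_of_pow_pow (by
    apply Nat.Coprime.pow_left; decide) h1 h2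

theorem involves_S4_of_normal [Finite X] (W : Subgroup X) [hW : W.Normal]
    (hcard : Nat.card W = 4) (d t : X) (hd : ∃ k : ℕ, d ^ 3 ^ k = 1)
    (hdW : d ∉ centralizer (W : Set X)) (ht : ∃ k : ℕ, t ^ 2 ^ k = 1)
    (htW : t ∉ centralizer (W : Set X)) : Cfsg.Involves (Equiv.Perm (Fin 4)) X := by
  classical
  obtain ⟨kd, hd⟩ := hd
  obtain ⟨kt, ht⟩ := ht
  let e : {w : W // w ≠ 1} ≃ Fin 3 := Finite.equivFinOfCardEq (card_ne_one W hcard)
  let σ : X →* Equiv.Perm (Fin 3) := e.permCongrHom.toMonoidHom.comp (sigma0 W)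
  have hσker : σ.ker = centralizer (W : Set X) := by
    rw [← sigma0_ker W]
    ext x
    simp only [σ, MonoidHom.mem_ker, MonoidHom.comp_apply]
    exact e.permCongrHom.map_eq_one_iff
  have hσfix : ∀ (x : X) (w : X) (hw : w ∈ W) (hw1 : w ≠ 1), x * w * x⁻¹ = w →
      ∃ i, σ x i = i := by
    intro x w hw hw1 hx
    let w' : {w : W // w ≠ 1} := ⟨⟨w, hw⟩, fun h => hw1 (congrArg Subtype.val h)⟩
    refine ⟨e w', ?_⟩
    have h1 : sigma0 W x w' = w' := by
      apply Subtype.ext; apply Subtype.ext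
      rw [sigma0_apply]; exact hx
    simp only [σ, MonoidHom.comp_apply]
    change e.permCongr (sigma0 W x) (e w') = e w'
    rw [Equiv.permCongr_apply, Equiv.symm_apply_apply, h1]
  -- facts on `d` and `t`
  have hσd1 : σ d ≠ 1 := fun h => hdW (hσker ▸ (MonoidHom.mem_ker.mpr h))
  have hσt1 : σ t ≠ 1 := fun h => htW (hσker ▸ (MonoidHom.mem_ker.mpr h))
  have hσdpow : σ d ^ 3 ^ kd = 1 := by rw [← map_pow, hd, map_one]
  have hσtpow : σ t ^ 2 ^ kt = 1 := by rw [← map_pow, ht, map_one]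
  have hsd : Equiv.Perm.sign (σ d) = 1 := sign_eq_one_of_pow hσdpow
  have hσd3 : σ d ^ 3 = 1 := perm3_b _ hsd
  have hst : Equiv.Perm.sign (σ t) = -1 := by
    rcases Int.units_eq_one_or (Equiv.Perm.sign (σ t)) with h | h
    · exfalso
      apply hσt1
      exact eq_one_of_pow_pow (by
        apply Nat.Coprime.pow_right; decide) (perm3_b _ h) hσtpow
    · exact h
  -- the index two subgroup
  let R₀ : Subgroup X := (Equiv.Perm.sign.comp σ).ker
  have hR₀n : R₀.Normal := inferInstance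
  have hdR₀ : d ∈ R₀ := by
    change (Equiv.Perm.sign.comp σ) d = 1
    exact hsd
  have htR₀ : t ∉ R₀ := by
    intro h
    have h1 : Equiv.Perm.sign (σ t) = 1 := h
    rw [hst] at h1
    exact absurd h1 (by decide)
  have : Fact (Nat.Prime 3) := ⟨by decide⟩
  have hdp : IsPGroup 3 (zpowers (⟨d, hdR₀⟩ : R₀)) := by
    have h1 : orderOf (⟨d, hdR₀⟩ : R₀) ∣ 3 ^ kd := by
      apply orderOf_dvd_of_pow_eq_one
      apply Subtype.ext
      simpa using hd
    obtain ⟨j, -, hj⟩ := (Nat.dvd_prime_pow Nat.prime_three).mp h1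
    exact IsPGroup.of_card (n := j) (by rw [Nat.card_zpowers, hj])
  obtain ⟨D, hD⟩ := hdp.exists_le_sylow
  set D' : Subgroup X := (D : Subgroup R₀).map R₀.subtype with hD'
  have hdD : d ∈ D' := ⟨⟨d, hdR₀⟩, hD (mem_zpowers _), rfl⟩
  have hfrat : normalizer (D' : Set X) ⊔ R₀ = ⊤ := Sylow.normalizer_sup_eq_top D
  set T := normalizer (D' : Set X) with hT
  have hD'p : IsPGroup 3 D' := D.2.map _
  have hWp : IsPGroup 2 W := IsPGroup.of_card (n := 2) (by rw [hcard]; norm_num)
  have : Fact (Nat.Prime 2) := ⟨by decide⟩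
  have hWD : Disjoint W D' := IsPGroup.disjoint_of_ne 2 3 (by decide) W D' hWp hD'p
  have hWT : W ⊓ T = ⊥ := by
    rw [eq_bot_iff]
    intro w hw
    rw [mem_bot]
    by_contra hw1
    have hwW : w ∈ W := hw.1
    have hwT : w ∈ T := hw.2
    have h1 : w * d * w⁻¹ * d⁻¹ ∈ W := by
      have : w * d * w⁻¹ * d⁻¹ = w * (d * w⁻¹ * d⁻¹) := by group
      rw [this]
      exact W.mul_mem hwW (hW.conj_mem _ (W.inv_mem hwW) d)
    have h2 : w * d * w⁻¹ * d⁻¹ ∈ D' :=
      D'.mul_mem ((mem_normalizer_iff.mp hwT d).mp hdD) (D'.inv_mem hdD)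
    have h3 : w * d * w⁻¹ * d⁻¹ = 1 := by
      have : w * d * w⁻¹ * d⁻¹ ∈ W ⊓ D' := ⟨h1, h2⟩
      rwa [hWD.eq_bot, mem_bot] at this
    have h4 : d * w * d⁻¹ = w := by
      have : d * w * d⁻¹ = (w * d * w⁻¹ * d⁻¹)⁻¹ * w := by group
      rw [this, h3]; simp
    obtain ⟨i, hi⟩ := hσfix d w hwW hw1 h4
    exact perm3_a _ hσd3 hσd1 i hi
  obtain ⟨t', ht'T, ht'R⟩ : ∃ t' ∈ T, t' ∉ R₀ := by
    have h1 : t ∈ T ⊔ R₀ := by rw [hfrat]; exact mem_top t
    rw [← SetLike.mem_coe, mul_normal, Set.mem_mul] at h1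
    obtain ⟨t', ht', r, hr, rfl⟩ := h1
    refine ⟨t', ht', fun h => htR₀ (R₀.mul_mem h hr)⟩
  have hst' : Equiv.Perm.sign (σ t') = -1 := by
    rcases Int.units_eq_one_or (Equiv.Perm.sign (σ t')) with h | h
    · exact absurd h ht'R
    · exact h
  have hdT : d ∈ T := le_normalizer hdD
  set K := W ⊔ T with hK
  set R := centralizer (W : Set X) ⊓ T with hR
  have hTK : T ≤ K := le_sup_right
  have hWK : W ≤ K := le_sup_left
  have hRT : R ≤ T := inf_le_right
  have hRK : R ≤ K := hRT.trans hTK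
  -- index of `R` in `T`
  have hRTidx : R.relIndex T = 6 := by
    let σT : T →* Equiv.Perm (Fin 3) := σ.comp T.subtype
    have hker : σT.ker = R.subgroupOf T := by
      ext x
      rw [MonoidHom.mem_ker, mem_subgroupOf, hR, mem_inf, ← hσker, MonoidHom.mem_ker]
      simp [σT]
    have hsurj : σT.range = ⊤ := by
      rw [eq_top_iff]
      intro x _
      have hg : σ d ∈ σT.range := ⟨⟨d, hdT⟩, rfl⟩
      have hh : σ t' ∈ σT.range := ⟨⟨t', ht'T⟩, rfl⟩
      rcases perm3_c (σ d) (σ t') hσd1 hσd3 hst' x with h | h | h | h | h | h <;> rw [h]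
      · exact one_mem _
      · exact hg
      · exact pow_mem hg 2
      · exact hh
      · exact mul_mem hg hh
      · exact mul_mem (pow_mem hg 2) hh
    rw [relIndex, ← hker, index_ker, hsurj, card_top, Nat.card_perm]
    simp [Nat.factorial]
  have hTKidx : T.relIndex K = 4 := by
    have hc : IsComplement' (W.subgroupOf K) (T.subgroupOf K) := by
      apply isComplement'_of_disjoint_and_mul_eq_univ
      · rw [disjoint_iff, eq_bot_iff]
        intro x hx
        have h1 : (x : X) ∈ W ⊓ T := ⟨mem_subgroupOf.mp hx.1, mem_subgroupOf.mp hx.2⟩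
        rw [hWT, mem_bot] at h1
        rw [mem_bot]
        exact Subtype.ext h1
      · rw [Set.eq_univ_iff_forall]
        intro x
        have hx : (x : X) ∈ W ⊔ T := x.2
        rw [← SetLike.mem_coe, normal_mul, Set.mem_mul] at hx
        obtain ⟨w, hw, τ, hτ, hx⟩ := hx
        exact ⟨⟨w, hWK hw⟩, hw, ⟨τ, hTK hτ⟩, hτ, Subtype.ext hx⟩
    rw [relIndex, hc.index_eq_card, Nat.card_congr (subgroupOfEquivOfLe hWK).toEquiv, hcard]
  have hRKidx : R.relIndex K = 24 := by
    rw [← relIndex_mul_relIndex R T K hRT hTK, hRTidx, hTKidx]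
  -- `R` is normal in `K`
  have hRn : (R.subgroupOf K).Normal := by
    rw [normal_subgroupOf_iff_le_normalizer hRK]
    apply sup_le
    · refine le_trans ?_ (centralizer_le_normalizer _)
      rw [le_centralizer_iff]
      exact inf_le_left
    · refine le_trans ?_ inf_normalizer_le_normalizer_inf
      apply le_inf _ le_normalizer
      have : (centralizer (W : Set X)).Normal := inferInstance
      rw [normalizer_eq_top_iff.mpr this]
      exact le_top
  let φ : K →* Equiv.Perm (K ⧸ T.subgroupOf K) := MulAction.toPermHom K (K ⧸ T.subgroupOf K)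
  have hφker : φ.ker = R.subgroupOf K := by
    rw [← normalCore_eq_ker]
    apply le_antisymm
    · intro x hx
      have hxT : x ∈ T.subgroupOf K := normalCore_le _ hx
      rw [mem_subgroupOf] at hxT ⊢
      refine ⟨?_, hxT⟩
      change (x : X) ∈ centralizer (W : Set X)
      rw [mem_centralizer_iff]
      intro w hw
      have hwW : w ∈ W := hw
      have h1 : (x : X) * w * (x : X)⁻¹ * w⁻¹ ∈ W :=
        W.mul_mem (hW.conj_mem _ hwW _) (W.inv_mem hwW)
      have h2 : (x : X) * w * (x : X)⁻¹ * w⁻¹ ∈ T := by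
        have h3 : x * ((⟨w, hWK hwW⟩ : K) * x⁻¹ * (⟨w, hWK hwW⟩ : K)⁻¹) ∈
            (T.subgroupOf K).normalCore :=
          mul_mem hx ((normalCore_normal _).conj_mem _ (inv_mem hx) _)
        have h4 := normalCore_le _ h3
        rw [mem_subgroupOf] at h4
        have h5 : (x : X) * w * (x : X)⁻¹ * w⁻¹ = (x : X) * (w * (x : X)⁻¹ * w⁻¹) := by group
        rw [h5]
        simpa using h4
      have h6 : (x : X) * w * (x : X)⁻¹ * w⁻¹ = 1 := by
        have : (x : X) * w * (x : X)⁻¹ * w⁻¹ ∈ W ⊓ T := ⟨h1, h2⟩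
        rwa [hWT, mem_bot] at this
      calc w * (x : X) = ((x : X) * w * (x : X)⁻¹ * w⁻¹)⁻¹ * ((x : X) * w) := by group
        _ = (x : X) * w := by rw [h6]; simp
    · rw [normal_le_normalCore]
      intro x hx
      rw [mem_subgroupOf] at hx ⊢
      exact hRT hx
  have hcardΩ : Nat.card (K ⧸ T.subgroupOf K) = 4 := by
    rw [← index_eq_card]; exact hTKidx
  have hφsurj : Function.Surjective φ := by
    rw [← MonoidHom.range_eq_top]
    apply eq_top_of_card_eq
    rw [← index_ker, hφker, Nat.card_perm, hcardΩ]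
    exact hRKidx
  let e4 : (K ⧸ T.subgroupOf K) ≃ Fin 4 := Finite.equivFinOfCardEq hcardΩ
  refine ⟨K, R, hRn, ⟨?_⟩⟩
  exact ((QuotientGroup.quotientMulEquivOfEq hφker.symm).trans
    (QuotientGroup.quotientKerEquivOfSurjective φ hφsurj)).trans e4.permCongrHom

theorem involves_S4_of_normal_odd [Finite X] (W : Subgroup X) [hW : W.Normal]
    (hcard : Nat.card W = 4) (d t : X) (hd : ∃ n : ℕ, Odd n ∧ d ^ n = 1)
    (hdW : d ∉ centralizer (W : Set X)) (ht : ∃ k : ℕ, t ^ 2 ^ k = 1)
    (htW : t ∉ centralizer (W : Set X)) : Cfsg.Involves (Equiv.Perm (Fin 4)) X := by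
  obtain ⟨n, hn, hd⟩ := hd
  have hn0 : n ≠ 0 := by
    rintro rfl
    exact absurd hn (by decide)
  obtain ⟨k, m, hm, hnm⟩ := Nat.exists_eq_pow_mul_and_not_dvd hn0 3 (by decide)
  refine involves_S4_of_normal W hcard (d ^ m) t ⟨k, ?_⟩ ?_ ht htW
  · rw [← pow_mul, mul_comm, ← hnm, hd]
  · intro h
    apply hdW
    rw [← sigma0_ker, MonoidHom.mem_ker] at h ⊢
    rw [map_pow] at h
    have h6 : (sigma0 W d) ^ 6 = 1 := by
      have h1 : Nat.card (Equiv.Perm {w : W // w ≠ 1}) = 6 := by
        rw [Nat.card_perm, card_ne_one W hcard]; rfl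
      rw [← h1]
      exact pow_card_eq_one'
    have hmodd : Odd m := by
      rw [hnm] at hn
      exact (Nat.odd_mul.mp hn).2
    have hcop : Nat.Coprime m 6 := by
      have h2 : Nat.Coprime m 2 := (Nat.coprime_two_right).mpr hmodd
      have h3 : Nat.Coprime m 3 := ((Nat.Prime.coprime_iff_not_dvd Nat.prime_three).mpr hm).symm
      exact Nat.Coprime.mul_right h2 h3
    exact eq_one_of_pow_pow hcop h h6

end Normal

theorem involves_of_subgroup {H : Type*} [Group H] {G : Type*} [Group G] (N : Subgroup G)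
    (h : Cfsg.Involves H N) : Cfsg.Involves H G := by
  obtain ⟨K, R, hn, ⟨e⟩⟩ := h
  let f : K ≃* K.map N.subtype := K.equivMapOfInjective N.subtype N.subtype_injective
  have hf : ∀ x : K, ((f x : K.map N.subtype) : G) = ((x : N) : G) := fun x => rfl
  have key : (R.subgroupOf K).map (f : K →* K.map N.subtype) =
      (R.map N.subtype).subgroupOf (K.map N.subtype) := by
    ext y
    rw [mem_subgroupOf]
    constructor
    · rintro ⟨x, hx, rfl⟩
      exact ⟨x, mem_subgroupOf.mp hx, rfl⟩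
    · rintro ⟨r, hr, hry⟩
      obtain ⟨x, rfl⟩ := f.surjective y
      refine ⟨x, ?_, rfl⟩
      change x ∈ R.subgroupOf K
      rw [mem_subgroupOf]
      have : (x : N) = r := by
        apply Subtype.ext
        exact hry.symm
      rw [this]; exact hr
  have hn' : ((R.map N.subtype).subgroupOf (K.map N.subtype)).Normal := by
    rw [← key]
    exact hn.map _ f.surjective
  exact ⟨K.map N.subtype, R.map N.subtype, hn', ⟨(QuotientGroup.congr _ _ f key).symm.trans e⟩⟩

/-- `S₄` is involved in `G` as soon as some four-subgroup `W` admits a nontrivial action of a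
element of odd order and of a `2`-element of its normalizer. -/
theorem involves_S4 {G : Type*} [Group G] [Finite G] (W : Subgroup G) (hcard : Nat.card W = 4)
    (d t : G) (hdN : d ∈ normalizer (W : Set G)) (htN : t ∈ normalizer (W : Set G))
    (hd : ∃ n : ℕ, Odd n ∧ d ^ n = 1) (hdW : d ∉ centralizer (W : Set G))
    (ht : ∃ k : ℕ, t ^ 2 ^ k = 1) (htW : t ∉ centralizer (W : Set G)) :
    Cfsg.Involves (Equiv.Perm (Fin 4)) G := by
  apply involves_of_subgroup (normalizer (W : Set G))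
  set N := normalizer (W : Set G) with hN
  have hWN : W ≤ N := le_normalizer
  have hn : (W.subgroupOf N).Normal := normal_in_normalizer
  have hc : Nat.card (W.subgroupOf N) = 4 := by
    rw [Nat.card_congr (subgroupOfEquivOfLe hWN).toEquiv, hcard]
  have hcent : ∀ x : N, x ∈ centralizer ((W.subgroupOf N : Subgroup N) : Set N) →
      (x : G) ∈ centralizer (W : Set G) := by
    intro x hx
    rw [mem_centralizer_iff] at hx ⊢
    intro w hw
    have := hx ⟨w, hWN hw⟩ (by
      change _ ∈ W.subgroupOf N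
      rw [mem_subgroupOf]; exact hw)
    exact congrArg Subtype.val this
  obtain ⟨kd, hodd, hd⟩ := hd
  obtain ⟨kt, ht⟩ := ht
  exact involves_S4_of_normal_odd (W.subgroupOf N) hc ⟨d, hdN⟩ ⟨t, htN⟩
    ⟨kd, hodd, Subtype.ext (by simpa using hd)⟩ (fun h => hdW (hcent _ h))
    ⟨kt, Subtype.ext (by simpa using ht)⟩ (fun h => htW (hcent _ h))

end Cfsg.Agent.Lib.Helper52S4
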