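import Cfsg.Agent.Lib.Helper52FF3
import Cfsg.Agent.Lib.Helper60Core
import Cfsg.Agent.Lib.Helper13Thompson2
import Cfsg.Agent.S0044

set_option autoImplicit false

namespace Cfsg.Agent.Lib.Helper52Sol2

open Subgroup
open scoped commutatorElement
open Cfsg.Agent.Lib.Helper52Basic Cfsg.Agent.Lib.Helper52Subnormal Cfsg.Agent.Lib.Helper52FStar
open Cfsg.Agent.Lib.Helper13Thompson2 Cfsg.Agent.Lib.Helper13Offender
open Cfsg.Agent.Lib.Helper28Comp

variable {G : Type*} [Group G]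

/-- `Ω₁(Z(U))` by hand. -/
def omZ (U : Subgroup G) : Subgroup G where
  carrier := {v | v ∈ U ∧ v ∈ centralizer (U : Set G) ∧ v * v = 1}
  one_mem' := ⟨U.one_mem, Subgroup.one_mem _, by simp⟩
  mul_mem' := by
    rintro a b ⟨ha1, ha2, ha3⟩ ⟨hb1, hb2, hb3⟩
    refine ⟨U.mul_mem ha1 hb1, Subgroup.mul_mem _ ha2 hb2, ?_⟩
    have hc : a * b = b * a := (mem_centralizer_iff.mp hb2) a ha1
    calc a * b * (a * b) = a * (b * a) * b := by group
      _ = a * (a * b) * b := by rw [hc]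
      _ = (a * a) * (b * b) := by group
      _ = 1 := by rw [ha3, hb3, one_mul]
  inv_mem' := by
    rintro a ⟨ha1, ha2, ha3⟩
    refine ⟨U.inv_mem ha1, Subgroup.inv_mem _ ha2, ?_⟩
    rw [← mul_inv_rev, ha3, inv_one]

theorem mem_omZ {U : Subgroup G} {v : G} :
    v ∈ omZ U ↔ v ∈ U ∧ v ∈ centralizer (U : Set G) ∧ v * v = 1 := Iff.rfl

theorem omZ_le (U : Subgroup G) : omZ U ≤ U := fun _ h => h.1

theorem omZ_normal (U : Subgroup G) [hU : U.Normal] : (omZ U).Normal := by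
  constructor
  rintro v ⟨h1, h2, h3⟩ g
  have hC : (centralizer (U : Set G)).Normal := inferInstance
  refine ⟨hU.conj_mem v h1 g, hC.conj_mem v h2 g, ?_⟩
  calc g * v * g⁻¹ * (g * v * g⁻¹) = g * (v * v) * g⁻¹ := by group
    _ = 1 := by rw [h3]; group

theorem omZ_elementary (U : Subgroup G) : Cfsg.IsElementaryAbelian 2 (omZ U) := by
  constructor
  · apply Cfsg.Agent.Lib.Helper13Basic.isMulCommutative_of_comm
    intro a ha b hb
    exact (mem_centralizer_iff.mp hb.2.1) a ha.1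
  · intro a ha
    rw [pow_two]; exact ha.2.2

theorem le_centralizer_omZ (U : Subgroup G) : U ≤ centralizer (omZ U : Set G) := by
  rw [le_centralizer_iff]
  exact fun v hv => hv.2.1

/-- `C_G(U/V)` -/
def cSec (U V : Subgroup G) : Subgroup G := Cfsg.Agent.Lib.Helper53Comm.commStab U V

theorem mem_cSec {U V : Subgroup G} {l : G} :
    l ∈ cSec U V ↔ l ∈ normalizer (V : Set G) ∧ ∀ u ∈ U, ⁅u, l⁆ ∈ V := Iff.rfl

theorem cSec_normal (U V : Subgroup G) [hU : U.Normal] [hV : V.Normal] : (cSec U V).Normal := by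
  constructor
  rintro l ⟨_, h2⟩ g
  refine ⟨by rw [normalizer_eq_top_iff.mpr hV]; exact mem_top _, ?_⟩
  intro u hu
  have h3 : ⁅u, g * l * g⁻¹⁆ = g * ⁅g⁻¹ * u * g⁻¹⁻¹, l⁆ * g⁻¹ := by
    simp only [commutatorElement_def]; group
  rw [h3]
  exact hV.conj_mem _ (h2 _ (hU.conj_mem u hu g⁻¹)) g

/-- the stabilizer of the chain `U ≥ V ≥ 1` is a `p`-group if `C(U)` is. -/
theorem isPGroup_chain_stab [Finite G] {p : ℕ} [Fact p.Prime] (U V : Subgroup G)
    (hVp : IsPGroup p V) (hCU : IsPGroup p (centralizer (U : Set G))) :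
    IsPGroup p (cSec U V ⊓ centralizer (V : Set G) : Subgroup G) := by
  set K := cSec U V ⊓ centralizer (V : Set G) with hK
  intro x
  have h1 := stab_step K U V hVp (by
    intro l hl r hr
    have h2 := hl.1.2 r hr
    have h3 : l * r * l⁻¹ * r⁻¹ = ⁅r, l⁆⁻¹ := by simp only [commutatorElement_def]; group
    rw [h3]; exact V.inv_mem h2) x x.2 ⟨0, by simpa using x.2.2⟩
  obtain ⟨k, hk⟩ := h1
  obtain ⟨j, hj⟩ := hCU ⟨_, hk⟩
  refine ⟨k + j, ?_⟩
  apply Subtype.ext
  have h4 := congrArg Subtype.val hj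
  simp only [Subgroup.coe_pow, Subgroup.coe_one] at h4 ⊢
  rw [pow_add, pow_mul]
  exact h4

/-- a maximal elementary abelian subgroup of `S` is a best offender on a normal elementary abelian
subgroup `V ≤ S`. -/
theorem relMax_best [Finite G] {p : ℕ} {S A V : Subgroup G} (hA : A ∈ relMax p S) (hVS : V ≤ S)
    (hV : Cfsg.IsElementaryAbelian p V) :
    ∀ B' ≤ A, Nat.card B' * Nat.card ↥(V ⊓ centralizer (B' : Set G)) ≤
      Nat.card A * Nat.card ↥(V ⊓ centralizer (A : Set G)) := by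
  intro B' hB'
  have hAel := hA.2.1
  have hB'el : Cfsg.IsElementaryAbelian p B' := isElementaryAbelian_mono hB' hAel
  have hCel : Cfsg.IsElementaryAbelian p (V ⊓ centralizer (B' : Set G) : Subgroup G) :=
    isElementaryAbelian_mono inf_le_left hV
  have hE : Cfsg.IsElementaryAbelian p (B' ⊔ (V ⊓ centralizer (B' : Set G)) : Subgroup G) :=
    isElementaryAbelian_sup hB'el hCel (fun h hh k hk => (mem_centralizer_iff.mp hk.2) h hh)
  have h1 := hA.2.2 _ (sup_le (hB'.trans hA.1) (inf_le_left.trans hVS)) hE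
  have h2 := card_mul_card_le B' (V ⊓ centralizer (B' : Set G))
  have h3 : B' ⊓ (V ⊓ centralizer (B' : Set G)) ≤ V ⊓ centralizer (A : Set G) := by
    intro x hx
    refine ⟨hx.2.1, ?_⟩
    have := hAel.1
    change x ∈ centralizer _
    rw [mem_centralizer_iff]
    intro a ha
    exact Cfsg.Agent.Lib.Helper13Basic.comm_of_mem A ha (hB' hx.1)
  calc _ ≤ _ := h2
    _ ≤ Nat.card A * Nat.card ↥(V ⊓ centralizer (A : Set G)) :=
      Nat.mul_le_mul h1 (card_le_of_le h3)

end Cfsg.Agent.Lib.Helper52Sol2
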