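import Cfsg.Agent.Lib.Helper52Sol2

set_option autoImplicit false

namespace Cfsg.Agent.Lib.Helper52Sol3

open Subgroup
open scoped commutatorElement
open Cfsg.Agent.Lib.Helper52Basic Cfsg.Agent.Lib.Helper52Subnormal Cfsg.Agent.Lib.Helper52FStar
open Cfsg.Agent.Lib.Helper28Comp

/-- In a finite solvable group `X` with a normal `p`-subgroup `K` such that `O_p(X/K) = 1` there is
a `p'`-subgroup `Y` with `YK` normal, on which `p`-elements act faithfully modulo `K`. -/
theorem exists_pPrime_faithful_aux {X : Type*} [Group X] [Finite X] [Group.IsSolvable X] {p : ℕ}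
    [Fact p.Prime] (K : Subgroup X) [hKn : K.Normal] (hK : IsPGroup p K)
    (hO : Cfsg.pCore p (X ⧸ K) = ⊥) :
    ∃ Y : Subgroup X, (Nat.card Y).Coprime p ∧ (Y ⊔ K).Normal ∧
      ∀ a : X, (∃ k : ℕ, a ^ p ^ k = 1) → (∀ y ∈ Y, y⁻¹ * (a * y * a⁻¹) ∈ K) → a ∈ K := by
  set π := QuotientGroup.mk' K with hπ
  have hπs : Function.Surjective π := QuotientGroup.mk'_surjective K
  set F := Cfsg.fittingSubgroup (X ⧸ K) with hF
  have hFn : F.Normal := Cfsg.Agent.Lib.Helper28Fitting.fitting_normal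
  have hFnil : Group.IsNilpotent F := Cfsg.Agent.Lib.Helper28Fitting.fitting_isNilpotent
  have hFc : (Nat.card F).Coprime p :=
    (noP_top_of_pCore_eq_bot hO).coprime_of_nilpotent (sn_top_iff.mpr hFn.isSubnormal) hFnil
  have hCF : centralizer (F : Set (X ⧸ K)) ≤ F := Cfsg.Agent.S0044.result
  set F' := F.comap π with hF'
  have hF'n : F'.Normal := hFn.comap π
  have hKF' : K ≤ F' := by
    intro x hx
    rw [hF', mem_comap]
    have : π x = 1 := (QuotientGroup.eq_one_iff x).mpr hx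
    rw [this]; exact F.one_mem
  have hKn' : (K.subgroupOf F').Normal := inferInstance
  have hidx : (K.subgroupOf F').index = Nat.card F := by
    change K.relIndex F' = _
    have h1 : K = (⊥ : Subgroup (X ⧸ K)).comap π := by
      rw [MonoidHom.comap_bot, hπ, QuotientGroup.ker_mk']
    conv_lhs => rw [h1]
    rw [relIndex_comap, hF', map_comap_eq_self_of_surjective hπs, relIndex_bot_left]
  have hcop : (Nat.card (K.subgroupOf F')).Coprime (K.subgroupOf F').index := by
    rw [hidx]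
    have : IsPGroup p (K.subgroupOf F') := hK.comap_subtype
    obtain ⟨n, hn⟩ := IsPGroup.iff_card.mp this
    rw [hn]
    exact Nat.Coprime.pow_left n hFc.symm
  obtain ⟨H, hH⟩ := exists_left_complement'_of_coprime hcop
  refine ⟨H.map F'.subtype, ?_, ?_, ?_⟩
  · rw [card_map_of_injective F'.subtype_injective, ← hH.index_eq_card, hidx]
    exact hFc
  · have h1 : H.map F'.subtype ⊔ K = F' := by
      have h2 := congrArg (Subgroup.map F'.subtype) hH.sup_eq_top
      rw [Subgroup.map_sup, subgroupOf_map_subtype, inf_eq_left.mpr hKF', ← MonoidHom.range_eq_map,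
        range_subtype] at h2
      exact h2
    rw [h1]; exact hF'n
  · rintro a ⟨k, hk⟩ ha
    have h1 : H.map F'.subtype ⊔ K = F' := by
      have h2 := congrArg (Subgroup.map F'.subtype) hH.sup_eq_top
      rw [Subgroup.map_sup, subgroupOf_map_subtype, inf_eq_left.mpr hKF', ← MonoidHom.range_eq_map,
        range_subtype] at h2
      exact h2
    have h3 : (H.map F'.subtype).map π = F := by
      have h4 := congrArg (Subgroup.map π) h1
      have h4' : F'.map π = F := map_comap_eq_self_of_surjective hπs F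
      rw [Subgroup.map_sup, h4'] at h4
      have h5 : K.map π = ⊥ := by
        rw [Subgroup.map_eq_bot_iff, hπ, QuotientGroup.ker_mk']
      rw [h5, sup_bot_eq] at h4
      exact h4
    have h6 : π a ∈ centralizer (F : Set (X ⧸ K)) := by
      rw [mem_centralizer_iff]
      intro f hf
      rw [SetLike.mem_coe, ← h3] at hf
      obtain ⟨y, hy, rfl⟩ := hf
      have h7 := ha y hy
      have h8 : π (y⁻¹ * (a * y * a⁻¹)) = 1 := (QuotientGroup.eq_one_iff _).mpr h7
      rw [map_mul, map_mul, map_mul, map_inv, map_inv] at h8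
      calc π y * π a = π y * ((π y)⁻¹ * (π a * π y * (π a)⁻¹)) * π a := by rw [h8, mul_one]
        _ = π a * π y := by group
    have h9 : π a ∈ F := hCF h6
    have h10 : (orderOf (π a)).Coprime p := by
      have h11 : orderOf (π a) ∣ Nat.card F := by
        have := orderOf_dvd_natCard (⟨π a, h9⟩ : F)
        rwa [← Subgroup.orderOf_coe] at this
      exact Nat.Coprime.coprime_dvd_left h11 hFc
    have h12 : π a ∈ (⊥ : Subgroup (X ⧸ K)) := by
      apply mem_of_pow_mem_of_coprime h10 (k := k)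
      rw [← map_pow, hk, map_one]
      exact Subgroup.one_mem _
    exact (QuotientGroup.eq_one_iff a).mp (mem_bot.mp h12)

variable {G : Type*} [Group G]

/-- ambient version of `exists_pPrime_faithful_aux`. -/
theorem exists_pPrime_faithful [Finite G] [Group.IsSolvable G] {p : ℕ} [Fact p.Prime]
    (D K : Subgroup G) (hKD : K ≤ D) (hDK : D ≤ normalizer (K : Set G)) (hK : IsPGroup p K)
    (hO : ∀ R : Subgroup G, K ≤ R → R ≤ D → D ≤ normalizer (R : Set G) → IsPGroup p R → R ≤ K) :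
    ∃ Y : Subgroup G, Y ≤ D ∧ (Nat.card Y).Coprime p ∧
      (∀ a ∈ D, ∀ y ∈ Y, ∃ y' ∈ Y, y'⁻¹ * (a * y * a⁻¹) ∈ K) ∧
      ∀ a ∈ D, (∃ k : ℕ, a ^ p ^ k = 1) → (∀ y ∈ Y, y⁻¹ * (a * y * a⁻¹) ∈ K) → a ∈ K := by
  have hKn : (K.subgroupOf D).Normal := (normal_subgroupOf_iff_le_normalizer hKD).mpr hDK
  have hKp : IsPGroup p (K.subgroupOf D) := hK.comap_subtype
  have hcore : Cfsg.pCore p (↥D ⧸ K.subgroupOf D) = ⊥ := by
    set π := QuotientGroup.mk' (K.subgroupOf D) with hπ
    have hπs : Function.Surjective π := QuotientGroup.mk'_surjective _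
    set R₀ := Cfsg.pCore p (↥D ⧸ K.subgroupOf D) with hR₀
    have hR₀n : R₀.Normal := Subgroup.sSup_normal _ (fun _ h => h.1)
    have hR₀p : IsPGroup p R₀ := Cfsg.Agent.Lib.Helper28Fitting.pCore_isPGroup p
    set R₁ := R₀.comap π with hR₁
    have hR₁n : R₁.Normal := hR₀n.comap π
    have hR₁p : IsPGroup p R₁ := by
      apply hR₀p.comap_of_ker_isPGroup
      rw [hπ, QuotientGroup.ker_mk']
      exact hKp
    have hKR₁ : K.subgroupOf D ≤ R₁ := by
      intro x hx
      rw [hR₁, mem_comap]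
      have : π x = 1 := (QuotientGroup.eq_one_iff x).mpr hx
      rw [this]; exact R₀.one_mem
    have h1 : R₁.map D.subtype ≤ K := by
      apply hO
      · intro x hx
        exact ⟨⟨x, hKD hx⟩, hKR₁ (mem_subgroupOf.mpr hx), rfl⟩
      · exact map_subtype_le _
      · intro d hd
        rw [mem_normalizer_iff]
        intro x
        constructor
        · rintro ⟨r, hr, rfl⟩
          exact ⟨⟨d, hd⟩ * r * ⟨d, hd⟩⁻¹, hR₁n.conj_mem r hr _, rfl⟩
        · rintro ⟨r, hr, hrx⟩
          refine ⟨⟨d, hd⟩⁻¹ * r * ⟨d, hd⟩⁻¹⁻¹, hR₁n.conj_mem r hr _, ?_⟩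
          simp only [Subgroup.coe_subtype, Subgroup.coe_mul, Subgroup.coe_inv] at hrx ⊢
          rw [hrx]; group
      · exact hR₁p.map _
    have h2 : R₁ ≤ K.subgroupOf D := by
      intro x hx
      exact mem_subgroupOf.mpr (h1 ⟨x, hx, rfl⟩)
    have h3 : R₁.map π = R₀ := map_comap_eq_self_of_surjective hπs R₀
    rw [← h3, Subgroup.map_eq_bot_iff, hπ, QuotientGroup.ker_mk']
    exact h2
  obtain ⟨Y, hY1, hY2, hY3⟩ := exists_pPrime_faithful_aux (K.subgroupOf D) hKp hcore
  refine ⟨Y.map D.subtype, map_subtype_le _, ?_, ?_, ?_⟩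
  · rw [card_map_of_injective D.subtype_injective]; exact hY1
  · rintro a ha _ ⟨y, hy, rfl⟩
    have h1 : (⟨a, ha⟩ : D) * y * (⟨a, ha⟩ : D)⁻¹ ∈ Y ⊔ K.subgroupOf D :=
      hY2.conj_mem y (le_sup_left (a := Y) hy) _
    rw [← SetLike.mem_coe, mul_normal] at h1
    obtain ⟨y', hy', k, hk, hyk⟩ := h1
    refine ⟨y', ⟨y', hy', rfl⟩, ?_⟩
    have h2 : ((y'⁻¹ * ((⟨a, ha⟩ : D) * y * (⟨a, ha⟩ : D)⁻¹) : D) : G) ∈ K := by
      rw [← hyk]
      have : y'⁻¹ * (fun x1 x2 => x1 * x2) y' k = k := by simp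
      rw [this]
      exact mem_subgroupOf.mp hk
    simpa using h2
  · rintro a ha ⟨k, hk⟩ h
    have h1 := hY3 ⟨a, ha⟩ ⟨k, by apply Subtype.ext; simpa using hk⟩ (by
      intro y hy
      rw [mem_subgroupOf]
      have := h y ⟨y, hy, rfl⟩
      simpa using this)
    exact mem_subgroupOf.mp h1

end Cfsg.Agent.Lib.Helper52Sol3
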