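import Cfsg.Agent.Lib.Helper52Sol3

set_option autoImplicit false

namespace Cfsg.Agent.Lib.Helper52Sol4

open Subgroup
open scoped commutatorElement
open Cfsg.Agent.Lib.Helper52Basic Cfsg.Agent.Lib.Helper52Subnormal Cfsg.Agent.Lib.Helper52FStar
open Cfsg.Agent.Lib.Helper28Comp Cfsg.Agent.Lib.Helper52Sol2 Cfsg.Agent.Lib.Helper52Sol3
open Cfsg.Agent.Lib.Helper13Thompson2

variable {G : Type*} [Group G]

/-- The core-free case: `J_e(S)` is normal. -/
theorem thompson_normal_of_core_free [Finite G] [Group.IsSolvable G]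
    (hS4 : ¬ Cfsg.Involves (Equiv.Perm (Fin 4)) G) (S : Sylow 2 G)
    (hcl : ∀ x ∈ (S : Subgroup G), ∀ y ∈ (S : Subgroup G), ⁅x, y⁆ ∈ centralizer ((S : Subgroup G) : Set G))
    (hO : Cfsg.pPrimeCore 2 G = ⊥) :
    (Cfsg.thompsonSubgroupOf 2 (S : Subgroup G)).Normal := by
  have : Fact (Nat.Prime 2) := ⟨Nat.prime_two⟩
  set U := Cfsg.pCore 2 G with hU
  have hUn : U.Normal := Subgroup.sSup_normal _ (fun _ h => h.1)
  have hUp : IsPGroup 2 U := Cfsg.Agent.Lib.Helper28Fitting.pCore_isPGroup 2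
  have hUS : U ≤ S := pCore_le_sylow S
  have hCU : centralizer (U : Set G) ≤ U := Cfsg.Agent.Lib.Helper60Core.centralizer_pCore_le hO
  set V := omZ U with hV
  have hVn : V.Normal := omZ_normal U
  have hVel : Cfsg.IsElementaryAbelian 2 V := omZ_elementary U
  have hVU : V ≤ U := omZ_le U
  set D := cSec U V with hD
  have hDn : D.Normal := cSec_normal U V
  set K := D ⊓ centralizer (V : Set G) with hK
  have hKp : IsPGroup 2 K := isPGroup_chain_stab U V (hUp.to_le hVU) (hUp.to_le hCU)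
  have hKn : K.Normal := inferInstance
  have hKU : K ≤ U := le_pCore hKn hKp
  have hNV : normalizer (V : Set G) = ⊤ := normalizer_eq_top_iff.mpr hVn
  have hkey : ∀ A ∈ relMax 2 (S : Subgroup G), A ≤ U := by
    intro A hA
    have hAS : A ≤ S := hA.1
    have hAel := hA.2.1
    have hAD : A ≤ D := by
      intro a ha
      rw [hD, mem_cSec]
      refine ⟨by rw [hNV]; exact mem_top _, ?_⟩
      intro u hu
      have hc := hcl u (hUS hu) a (hAS ha)
      rw [hV, mem_omZ]
      have hcU : ⁅u, a⁆ ∈ U := by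
        rw [commutatorElement_def]
        have := hUn.conj_mem u⁻¹ (U.inv_mem hu) a
        have h2 := U.mul_mem hu this
        have h3 : u * (a * u⁻¹ * a⁻¹) = u * a * u⁻¹ * a⁻¹ := by group
        rwa [h3] at h2
      refine ⟨hcU, centralizer_le (by exact_mod_cast hUS) hc, ?_⟩
      have ha2 : a * a = 1 := by have := hAel.2 a ha; rwa [pow_two] at this
      have hca : ⁅u, a⁆ * a = a * ⁅u, a⁆ := ((mem_centralizer_iff.mp hc) a (hAS ha)).symm
      have hainv : a⁻¹ = a := inv_eq_of_mul_eq_one_left ha2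
      -- c = u a u⁻¹ a⁻¹ ; c * c = c * a * (a⁻¹ c) ...
      have h5 : ⁅u, a⁆ * ⁅u, a⁆ = ⁅u, a⁆ * (a * ⁅u, a⁆ * a⁻¹) := by
        rw [← hca]; group
      rw [h5, commutatorElement_def, hainv]
      calc u * a * u⁻¹ * a * (a * (u * a * u⁻¹ * a) * a)
          = u * a * u⁻¹ * (a * a) * u * a * u⁻¹ * (a * a) := by group
        _ = u * a * u⁻¹ * 1 * u * a * u⁻¹ * 1 := by rw [ha2]
        _ = u * (a * a) * u⁻¹ := by group
        _ = 1 := by rw [ha2]; group
    by_contra hAU
    have hAC : ¬ A ≤ centralizer (V : Set G) := fun h => hAU ((le_inf hAD h).trans hKU)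
    obtain ⟨Y, hYD, hYc, hY1, hY2⟩ := exists_pPrime_faithful (p := 2) D K inf_le_left
      (by rw [normalizer_eq_top_iff.mpr hKn]; exact le_top) hKp (by
        intro R _ hRD hDR hRp
        have h1 : Sn R ⊤ := (NormIn.sn ⟨hRD, hDR⟩).trans
          (NormIn.sn ⟨le_top, by rw [normalizer_eq_top_iff.mpr hDn]⟩)
        have h2 : R ≤ U := subnormal_pGroup_le_pCore (sn_top_iff.mp h1) hRp
        exact le_inf hRD (h2.trans (le_centralizer_omZ U)))
    apply hS4
    have hA2 : IsPGroup 2 A := S.isPGroup'.to_le hAS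
    refine Cfsg.Agent.Lib.Helper52FF3.ff2_of_best' V A Y hVel (by rw [hNV]; exact le_top)
      (by rw [hNV]; exact le_top) hA2 ?_ hAC ?_ ?_ ?_ (relMax_best hA (hVU.trans hUS) hVel)
    · have := hAel.1
      have h1 : ⁅A, A⁆ = ⊥ := by
        rw [commutator_eq_bot_iff_le_centralizer]
        intro a ha
        rw [mem_centralizer_iff]
        intro b hb
        exact Cfsg.Agent.Lib.Helper13Basic.comm_of_mem A hb ha
      rw [h1]; exact bot_le
    · exact (Nat.coprime_two_right).mp hYc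
    · intro a ha y hy
      obtain ⟨y', hy', h⟩ := hY1 a (hAD ha) y hy
      exact ⟨y', hy', h.2⟩
    · intro a ha h
      have h1 := hY2 a (hAD ha) (by
        obtain ⟨k, hk⟩ := hA2 ⟨a, ha⟩
        exact ⟨k, by simpa using congrArg Subtype.val hk⟩) (by
        intro y hy
        refine ⟨?_, h y hy⟩
        exact D.mul_mem (D.inv_mem (hYD hy)) (hDn.conj_mem y (hYD hy) a))
      exact h1.2
  have hJU : Cfsg.thompsonSubgroupOf 2 (S : Subgroup G) ≤ U := by
    rw [thompsonOf_eq]
    exact sSup_le hkey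
  rw [← thompsonOf_eq_of_le hUS hJU, ← normalizer_eq_top_iff, eq_top_iff]
  refine le_trans ?_ (normalizer_le_normalizer_thompsonOf 2 U)
  rw [normalizer_eq_top_iff.mpr hUn]

end Cfsg.Agent.Lib.Helper52Sol4
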