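import Cfsg.Agent.Lib.Helper52Sol4
import Cfsg.Agent.Lib.Helper24Section

set_option autoImplicit false

namespace Cfsg.Agent.Lib.Helper52Sol5

open Subgroup
open scoped commutatorElement
open Cfsg.Agent.Lib.Helper13Thompson2 Cfsg.Agent.Lib.Helper13Offender Cfsg.Agent.Lib.Helper13Basic
open Cfsg.Agent.Lib.Helper13Thompson

variable {G G' : Type*} [Group G] [Group G']

theorem card_map_of_injOn (f : G →* G') {S A : Subgroup G} (hinj : ∀ x ∈ S, f x = 1 → x = 1)
    (hA : A ≤ S) : Nat.card (A.map f) = Nat.card A := by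
  symm
  apply Nat.card_congr
  refine Equiv.ofBijective (fun a : A => (⟨f a, mem_map_of_mem f a.2⟩ : A.map f)) ⟨?_, ?_⟩
  · intro a b hab
    have h1 : f a = f b := congrArg Subtype.val hab
    have h2 : f ((a : G) * (b : G)⁻¹) = 1 := by rw [map_mul, map_inv, h1, mul_inv_cancel]
    have h3 := hinj _ (S.mul_mem (hA a.2) (S.inv_mem (hA b.2))) h2
    exact Subtype.ext (mul_inv_eq_one.mp h3)
  · rintro ⟨_, a, ha, rfl⟩
    exact ⟨⟨a, ha⟩, rfl⟩

theorem el_of_map_of_injOn {p : ℕ} (f : G →* G') {S A : Subgroup G}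
    (hinj : ∀ x ∈ S, f x = 1 → x = 1) (hA : A ≤ S) (h : Cfsg.IsElementaryAbelian p (A.map f)) :
    Cfsg.IsElementaryAbelian p A := by
  have hinj' : ∀ x ∈ S, ∀ y ∈ S, f x = f y → x = y := by
    intro x hx y hy hxy
    have h2 : f (x * y⁻¹) = 1 := by rw [map_mul, map_inv, hxy, mul_inv_cancel]
    exact mul_inv_eq_one.mp (hinj _ (S.mul_mem hx (S.inv_mem hy)) h2)
  constructor
  · apply isMulCommutative_of_comm
    intro a ha b hb
    apply hinj' _ (S.mul_mem (hA ha) (hA hb)) _ (S.mul_mem (hA hb) (hA ha))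
    rw [map_mul, map_mul]
    have := h.1
    exact comm_of_mem (A.map f) (mem_map_of_mem f ha) (mem_map_of_mem f hb)
  · intro a ha
    apply hinj _ (S.pow_mem (hA ha) p)
    rw [map_pow]
    exact h.2 _ (mem_map_of_mem f ha)

theorem relMax_map_of_injOn {p : ℕ} (f : G →* G') {S : Subgroup G}
    (hinj : ∀ x ∈ S, f x = 1 → x = 1) :
    relMax p (S.map f) = (Subgroup.map f) '' (relMax p S) := by
  have hpre : ∀ B' : Subgroup G', B' ≤ S.map f → (B'.comap f ⊓ S).map f = B' := by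
    intro B' hB'
    apply le_antisymm
    · rintro _ ⟨x, hx, rfl⟩
      exact hx.1
    · intro y hy
      obtain ⟨x, hx, rfl⟩ := hB' hy
      exact ⟨x, ⟨hy, hx⟩, rfl⟩
  ext A'
  constructor
  · rintro ⟨h1, h2, h3⟩
    refine ⟨A'.comap f ⊓ S, ⟨inf_le_right, ?_, ?_⟩, hpre A' h1⟩
    · apply el_of_map_of_injOn f hinj inf_le_right
      rw [hpre A' h1]; exact h2
    · intro B hB hBel
      rw [← card_map_of_injOn f hinj hB, ← card_map_of_injOn f hinj (inf_le_right), hpre A' h1]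
      exact h3 _ (map_mono hB) (el_map hBel f)
  · rintro ⟨A, ⟨h1, h2, h3⟩, rfl⟩
    refine ⟨map_mono h1, el_map h2 f, ?_⟩
    intro B' hB' hB'el
    rw [card_map_of_injOn f hinj h1, ← hpre B' hB', card_map_of_injOn f hinj inf_le_right]
    apply h3 _ inf_le_right
    apply el_of_map_of_injOn f hinj inf_le_right
    rw [hpre B' hB']; exact hB'el

theorem thompsonOf_map_of_injOn {p : ℕ} (f : G →* G') {S : Subgroup G}
    (hinj : ∀ x ∈ S, f x = 1 → x = 1) :
    Cfsg.thompsonSubgroupOf p (S.map f) = (Cfsg.thompsonSubgroupOf p S).map f := by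
  rw [thompsonOf_eq, thompsonOf_eq, relMax_map_of_injOn f hinj, (gc_map_comap f).l_sSup,
    sSup_image]

end Cfsg.Agent.Lib.Helper52Sol5
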