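import Cfsg.Agent.Lib.Helper53WC

set_option autoImplicit false

namespace Cfsg.Agent.Lib.Helper53Act

open Cfsg Subgroup Cfsg.Agent.Lib.Helper53Basic Cfsg.Agent.Lib.Helper53Rel
open Cfsg.Agent.Lib.Helper53Syl Cfsg.Agent.Lib.Helper53Comm Cfsg.Agent.Lib.Helper53Min
open Cfsg.Agent.Lib.Helper53WC
open scoped commutatorElement

variable {G : Type*} [Group G] {p : ℕ}

local notation "⟪" Q ", " g "⟫" => Subgroup.map (MulEquiv.toMonoidHom (MulAut.conj g)) Q

/-- a `p`-group acting on a nontrivial `p`-group has a nontrivial fixed point. -/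
theorem exists_ne_one_mem_inf_centralizer [Finite G] [Fact p.Prime] {Q Y : Subgroup G}
    (hQ : IsPGroup p Q) (hY : IsPGroup p Y) (hY1 : Y ≠ ⊥) (h : Q ≤ normalizer (Y : Set G)) :
    ∃ y : G, y ≠ 1 ∧ y ∈ Y ⊓ centralizer (Q : Set G) := by
  let _ : MulAction Q Y := MulAction.compHom Y (Subgroup.inclusion h)
  have hcard : p ∣ Nat.card Y := by
    rcases hY.card_eq_or_dvd with h1 | h1
    · exact absurd (Subgroup.card_eq_one.mp h1) hY1
    · exact h1
  have hfix : (1 : Y) ∈ MulAction.fixedPoints Q Y := by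
    intro q
    apply Subtype.ext
    show (q : G) * ((1 : Y) : G) * (q : G)⁻¹ = ((1 : Y) : G)
    simp
  obtain ⟨b, hb, hne⟩ := hQ.exists_fixed_point_of_prime_dvd_card_of_fixed_point Y hcard hfix
  refine ⟨b, fun hb1 => hne (Subtype.ext hb1.symm), Subgroup.mem_inf.mpr ⟨b.2, ?_⟩⟩
  rw [mem_centralizer_iff]
  intro q hq
  have h1 : (q : G) * (b : G) * (q : G)⁻¹ = (b : G) := congrArg Subtype.val (hb ⟨q, hq⟩)
  calc q * b = (q * b * q⁻¹) * q := by group
    _ = b * q := by rw [h1]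

theorem inf_centralizer_ne_bot [Finite G] [Fact p.Prime] {Q Y : Subgroup G}
    (hQ : IsPGroup p Q) (hY : IsPGroup p Y) (hY1 : Y ≠ ⊥) (h : Q ≤ normalizer (Y : Set G)) :
    Y ⊓ centralizer (Q : Set G) ≠ ⊥ := by
  obtain ⟨y, hy1, hy⟩ := exists_ne_one_mem_inf_centralizer hQ hY hY1 h
  intro hb
  rw [hb, mem_bot] at hy
  exact hy1 hy

theorem eq_one_of_coprime_of_isPGroup {A : Subgroup G} (hA : IsPGroup p A) {a : G} (ha : a ∈ A)
    {n : ℕ} (hn : Nat.Coprime n p) (h : a ^ n = 1) : a = 1 := by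
  obtain ⟨k, hk⟩ := hA ⟨a, ha⟩
  have hk' : a ^ (p ^ k) = 1 := congrArg Subtype.val hk
  have h1 : orderOf a ∣ n := orderOf_dvd_of_pow_eq_one h
  have h2 : orderOf a ∣ p ^ k := orderOf_dvd_of_pow_eq_one hk'
  have h3 : orderOf a = 1 := Nat.eq_one_of_dvd_coprimes (Nat.Coprime.pow_right k hn) h1 h2
  exact orderOf_eq_one_iff.mp h3

theorem eq_one_of_mem_of_coprime {A : Subgroup G} (hA : IsPGroup p A) {a : G} (ha : a ∈ A)
    (hn : Nat.Coprime (orderOf a) p) : a = 1 :=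
  eq_one_of_coprime_of_isPGroup hA ha hn (pow_orderOf_eq_one a)

/-- the stability lemma. -/
theorem comm_of_stab {A : Subgroup G} (hA : IsPGroup p A) {x r : G}
    (hx : Nat.Coprime (orderOf x) p) (hxA : ∀ a ∈ A, x * a = a * x)
    (h : x * r * x⁻¹ * r⁻¹ ∈ A) : x * r = r * x := by
  set a := x * r * x⁻¹ * r⁻¹ with ha
  have h1 : ∀ n : ℕ, x ^ n * r * (x ^ n)⁻¹ = a ^ n * r := by
    intro n
    induction n with
    | zero => simp
    | succ n ih =>
      have h2 : x * a ^ n = a ^ n * x := hxA _ (A.pow_mem h n)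
      calc x ^ (n + 1) * r * (x ^ (n + 1))⁻¹ = x * (x ^ n * r * (x ^ n)⁻¹) * x⁻¹ := by
            rw [pow_succ']; group
        _ = x * (a ^ n * r) * x⁻¹ := by rw [ih]
        _ = (x * a ^ n) * (r * x⁻¹) := by group
        _ = (a ^ n * x) * (r * x⁻¹) := by rw [h2]
        _ = a ^ n * (x * r * x⁻¹ * r⁻¹) * r := by group
        _ = a ^ (n + 1) * r := by rw [← ha, pow_succ]
  have h3 := h1 (orderOf x)
  rw [pow_orderOf_eq_one] at h3
  have h4 : a ^ orderOf x = 1 := by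
    have : a ^ orderOf x * r = r := by simpa using h3.symm
    simpa using this
  have h5 : a = 1 := eq_one_of_coprime_of_isPGroup hA h hx h4
  rw [ha] at h5
  calc x * r = (x * r * x⁻¹ * r⁻¹) * (r * x) := by group
    _ = r * x := by rw [h5, one_mul]

theorem exists_pow_coprime [Finite G] [hp : Fact p.Prime] (g : G) :
    ∃ k : ℕ, Nat.Coprime (orderOf (g ^ (p ^ k))) p := by
  have ho : orderOf g ≠ 0 := (orderOf_pos g).ne'
  obtain ⟨k, m, hm, hkm⟩ := Nat.exists_eq_pow_mul_and_not_dvd ho p hp.out.ne_one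
  refine ⟨k, ?_⟩
  have h1 : orderOf (g ^ (p ^ k)) = m := by
    rw [orderOf_pow_of_dvd (pow_ne_zero _ hp.out.ne_zero) ⟨m, hkm⟩, hkm,
      Nat.mul_div_cancel_left _ (pow_pos hp.out.pos _)]
  rw [h1]
  exact ((Nat.Prime.coprime_iff_not_dvd hp.out).mpr hm).symm

theorem isPGroup_of_coprime_trivial [Finite G] [Fact p.Prime] {D : Subgroup G}
    (h : ∀ x ∈ D, Nat.Coprime (orderOf x) p → x = 1) : IsPGroup p D := by
  intro x
  obtain ⟨k, hk⟩ := exists_pow_coprime (p := p) (x : G)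
  exact ⟨k, Subtype.ext (h _ (D.pow_mem x.2 _) hk)⟩

theorem le_normalizer_commStab {X V U : Subgroup G} (hV : X ≤ normalizer (V : Set G))
    (hU : X ≤ normalizer (U : Set G)) : X ≤ normalizer ((commStab V U : Subgroup G) : Set G) := by
  rw [le_normalizer_iff]
  rintro x hx l ⟨hl1, hl2⟩
  refine ⟨Subgroup.mul_mem _ (Subgroup.mul_mem _ (hU hx) hl1) (Subgroup.inv_mem _ (hU hx)), ?_⟩
  intro v hv
  have h1 : x⁻¹ * v * x⁻¹⁻¹ ∈ V := (le_normalizer_iff.mp hV) _ (X.inv_mem hx) _ hv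
  have h2 := hl2 _ h1
  have h3 : ⁅v, x * l * x⁻¹⁆ = x * ⁅x⁻¹ * v * x⁻¹⁻¹, l⁆ * x⁻¹ := by
    simp only [commutatorElement_def]; group
  rw [h3]
  exact (le_normalizer_iff.mp hU) _ hx _ h2

end Cfsg.Agent.Lib.Helper53Act
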