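import Cfsg.Agent.Lib.Helper53Exist

set_option autoImplicit false
set_option linter.unusedSectionVars false
set_option linter.unusedVariables false

namespace Cfsg.Agent.Lib.Helper53Asym

open Cfsg Subgroup Cfsg.Agent.Lib.Helper53Basic Cfsg.Agent.Lib.Helper53Rel
open Cfsg.Agent.Lib.Helper53Syl Cfsg.Agent.Lib.Helper53Comm Cfsg.Agent.Lib.Helper53Min
open Cfsg.Agent.Lib.Helper53WC Cfsg.Agent.Lib.Helper53Act Cfsg.Agent.Lib.Helper53CharP
open Cfsg.Agent.Lib.Helper53PRed Cfsg.Agent.Lib.Helper53PRed2 Cfsg.Agent.Lib.Helper53PRed3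
open Cfsg.Agent.Lib.Helper53Large Cfsg.Agent.Lib.Helper53Large2
open Cfsg.Agent.Lib.Helper53FrakM Cfsg.Agent.Lib.Helper53Exist

variable {G : Type*} [Group G] {p : ℕ}

local notation "⟪" Q ", " g "⟫" => Subgroup.map (MulEquiv.toMonoidHom (MulAut.conj g)) Q

/-! ### words -/

/-- products of `k` elements of `U`. -/
def Wd (U : Set G) : ℕ → Set G
  | 0 => {1}
  | (k + 1) => {u | ∃ a ∈ U, ∃ w ∈ Wd U k, u = a * w}

theorem Wd.mul_right {U : Set G} : ∀ {k : ℕ} {w a : G}, w ∈ Wd U k → a ∈ U → w * a ∈ Wd U (k + 1)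
  | 0, w, a, hw, ha => by
    have hw1 : w = 1 := hw
    exact ⟨a, ha, 1, rfl, by rw [hw1, one_mul, mul_one]⟩
  | (k + 1), w, a, hw, ha => by
    obtain ⟨b, hb, w', hw', rfl⟩ := hw
    exact ⟨b, hb, w' * a, Wd.mul_right hw' ha, by rw [mul_assoc]⟩

theorem Wd.inv {U : Set G} (hU : ∀ a ∈ U, a⁻¹ ∈ U) : ∀ {k : ℕ} {w : G}, w ∈ Wd U k → w⁻¹ ∈ Wd U k
  | 0, w, hw => by
    have hw1 : w = 1 := hw
    rw [hw1, inv_one]; exact rfl
  | (k + 1), w, hw => by
    obtain ⟨b, hb, w', hw', rfl⟩ := hw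
    rw [mul_inv_rev]
    exact Wd.mul_right (Wd.inv hU hw') (hU b hb)

theorem Wd.mul {U : Set G} : ∀ {j k : ℕ} {u v : G}, u ∈ Wd U j → v ∈ Wd U k → u * v ∈ Wd U (j + k)
  | 0, k, u, v, hu, hv => by
    have hu1 : u = 1 := hu
    rw [hu1, one_mul, zero_add]; exact hv
  | (j + 1), k, u, v, hu, hv => by
    obtain ⟨b, hb, w', hw', rfl⟩ := hu
    rw [show j + 1 + k = (j + k) + 1 by ring]
    exact ⟨b, hb, w' * v, Wd.mul hw' hv, by rw [mul_assoc]⟩

/-- the subgroup of all words. -/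
def WdSub (U : Set G) (hU : ∀ a ∈ U, a⁻¹ ∈ U) : Subgroup G where
  carrier := {u | ∃ k, u ∈ Wd U k}
  one_mem' := ⟨0, rfl⟩
  mul_mem' := by
    rintro u v ⟨j, hu⟩ ⟨k, hv⟩
    exact ⟨j + k, Wd.mul hu hv⟩
  inv_mem' := by
    rintro u ⟨k, hu⟩
    exact ⟨k, Wd.inv hU hu⟩

theorem subset_WdSub (U : Set G) (hU : ∀ a ∈ U, a⁻¹ ∈ U) {a : G} (ha : a ∈ U) : a ∈ WdSub U hU :=
  ⟨1, a, ha, 1, rfl, (mul_one a).symm⟩

/-! ### asymmetry -/

theorem asym_comm {Y : Subgroup G} (hasym : ¬ IsSymmetricIn Y) {k : G}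
    (h1 : ⟪Y, k⟫ ≤ normalizer (Y : Set G)) (h2 : Y ≤ normalizer (⟪Y, k⟫ : Set G)) :
    ⟪Y, k⟫ ≤ centralizer (Y : Set G) := by
  by_contra hne
  apply hasym
  refine ⟨k, ?_, le_inf (commutator_le_of_le_normalizer' h1) (commutator_le_of_le_normalizer h2)⟩
  intro hb
  apply hne
  rw [commutator_eq_bot_iff_le_centralizer, le_centralizer_iff] at hb
  exact hb

/-- the key lemma: a common normal subgroup. -/
theorem asym_key [Finite G] {Y O R M N : Subgroup G} (hasym : ¬ IsSymmetricIn Y)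
    (hRY : R ≤ normalizer (Y : Set G)) (hCR : R ⊓ centralizer (Y : Set G) ≤ O) (hYO : Y ≤ O)
    (hM : ∀ m ∈ M, ⟪O, m⟫ ≤ R) (hN : ∀ n ∈ N, ⟪O, n⟫ ≤ R) :
    ∃ E : Subgroup G, Y ≤ E ∧ E ≤ O ∧ M ⊔ N ≤ normalizer (E : Set G) := by
  let U : Set G := {a | a ∈ M ∨ a ∈ N}
  have hU : ∀ a ∈ U, a⁻¹ ∈ U := by
    rintro a (ha | ha)
    · exact Or.inl (M.inv_mem ha)
    · exact Or.inr (N.inv_mem ha)
  have hUO : ∀ a ∈ U, ⟪O, a⟫ ≤ R := by
    rintro a (ha | ha)
    · exact hM a ha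
    · exact hN a ha
  have hC : ∀ k : ℕ, ∀ u ∈ Wd U k, ⟪Y, u⟫ ≤ O := by
    intro k
    induction k with
    | zero =>
      intro u hu
      have hu1 : u = 1 := hu
      rw [hu1, cj_one]; exact hYO
    | succ k ih =>
      have hR : ∀ u ∈ Wd U (k + 1), ⟪Y, u⟫ ≤ R := by
        rintro u ⟨a, ha, w, hw, rfl⟩
        rw [← cj_cj]
        exact (cj_mono a (ih w hw)).trans (hUO a ha)
      intro u hu
      have h1 := hR u hu
      have h2 := hR u⁻¹ (Wd.inv hU hu)
      apply le_trans _ hCR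
      refine le_inf h1 (asym_comm hasym (h1.trans hRY) ?_)
      rw [normalizer_cj, ← inv_inv u, ← cj_le_iff]
      exact h2.trans hRY
  let K := WdSub U hU
  refine ⟨sSup {X | ∃ u ∈ K, X = ⟪Y, u⟫}, ?_, ?_, ?_⟩
  · exact le_sSup ⟨1, K.one_mem, (cj_one Y).symm⟩
  · apply sSup_le
    rintro X ⟨u, ⟨k, hu⟩, rfl⟩
    exact hC k u hu
  · have hK : K ≤ normalizer ((sSup {X | ∃ u ∈ K, X = ⟪Y, u⟫} : Subgroup G) : Set G) := by
      intro k hk
      rw [← cj_eq_iff_mem_normalizer]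
      apply cj_eq_of_le
      rw [cj_le_iff]
      apply sSup_le
      rintro X ⟨g, hg, rfl⟩
      rw [← cj_le_iff, cj_cj]
      exact le_sSup ⟨k * g, K.mul_mem hk hg, rfl⟩
    refine le_trans (sup_le ?_ ?_) hK
    · intro m hm; exact subset_WdSub U hU (Or.inl hm)
    · intro n hn; exact subset_WdSub U hU (Or.inr hn)


/-! ### the standing hypotheses -/

theorem large_star [Finite G] [Fact p.Prime] {Q : Subgroup G} (hQp : IsPGroup p Q) (hQ1 : Q ≠ ⊥)
    (hQ : IsLarge Q) (T : Sylow p G) {K : Subgroup G} (hTK : (T : Subgroup G) ≤ K)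
    (hK1 : pCoreOf p K ≠ ⊥) : K ∈ charPSubgroups p G := by
  rw [mem_charPSubgroups_iff]
  refine ⟨hK1, ?_⟩
  obtain ⟨x, -, hx⟩ := (isSyl_of_sylow_le T le_top).exists_le_cj hQp le_top
  have hQ'T : ⟪Q, x⁻¹⟫ ≤ (T : Subgroup G) := by rw [cj_le_iff, inv_inv]; exact hx
  have h1 := (IsLarge.main (isPGroup_cj hQp x⁻¹) (cj_ne_bot hQ1 _) (IsLarge.cj hQ _)
    (hQ'T.trans hTK) hK1).2.2.1
  have hRD : K ≤ normalizer ((centralizer (pCoreOf p K : Set G) : Subgroup G) : Set G) :=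
    le_normalizer_centralizer (le_normalizer_pCoreOf K)
  have h2 : centralizer (pCoreOf p K : Set G) ≤ (T : Subgroup G) := by
    have h3 := T.3 (h1.to_sup_of_normal_left' T.2 (hTK.trans hRD)) le_sup_right
    rw [← h3]; exact le_sup_left
  exact le_pCoreOf (h2.trans hTK) hRD h1

/-- the standing hypotheses of the chapter. -/
structure Std (p : ℕ) (S : Sylow p G) (Q M : Subgroup G) : Prop where
  hQp : IsPGroup p Q
  hQ1 : Q ≠ ⊥
  hQS : Q ≤ (S : Subgroup G)
  hQ : IsLarge Q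
  hSM : (S : Subgroup G) ≤ M
  hM : IsInFrakM p M

variable [Finite G] [Fact p.Prime] {S : Sylow p G} {Q M : Subgroup G}

theorem Std.isSyl (h : Std p S Q M) : IsSyl p (S : Subgroup G) M := isSyl_of_sylow_le S h.hSM

theorem Std.mem (h : Std p S Q M) : M ∈ charPSubgroups p G := frakM_mem h.hM

theorem Std.charP (h : Std p S Q M) : CharP p M := charP_of_mem h.mem

theorem Std.largest_ne_bot (h : Std p S Q M) : largestPReducedOf p M ≠ ⊥ :=
  Cfsg.Agent.Lib.Helper53Exist.largest_ne_bot h.isSyl h.charP (mem_charPSubgroups_iff.mp h.mem).1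

theorem Std.largest_le (h : Std p S Q M) : largestPReducedOf p M ≤ pCoreOf p M :=
  PRed.le_pCoreOf (pRed_largest M)

theorem Std.le_dagger (h : Std p S Q M) {K : Subgroup G} (hMK : M ≤ K) (hK1 : pCoreOf p K ≠ ⊥) :
    K ≤ M ⊔ centralizer (largestPReducedOf p M : Set G) := by
  have hK : K ∈ charPSubgroups p G := large_star h.hQp h.hQ1 h.hQ S (h.hSM.trans hMK) hK1
  obtain ⟨X, hKX, hXmax⟩ := (Set.toFinite (charPSubgroups p G)).exists_le_maximal hK
  have hX : X ∈ maxCharPSubgroups p G :=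
    ⟨hXmax.1, fun L hL hXL => le_antisymm (hXmax.2 hL hXL) hXL⟩
  have hM := h.hM
  unfold IsInFrakM at hM
  rw [← hM.2.2.1 X hX (hMK.trans hKX)]
  exact hKX

theorem Std.normalizer_le_dagger (h : Std p S Q M) {D : Subgroup G} (hD1 : D ≠ ⊥)
    (hDp : IsPGroup p D) (hMD : M ≤ normalizer (D : Set G)) :
    normalizer (D : Set G) ≤ M ⊔ centralizer (largestPReducedOf p M : Set G) := by
  apply h.le_dagger hMD
  intro hb
  apply hD1
  rw [← le_bot_iff, ← hb]
  exact le_pCoreOf le_normalizer le_rfl hDp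

theorem Std.normalizer_largest_eq (h : Std p S Q M) :
    normalizer (largestPReducedOf p M : Set G) =
      M ⊔ centralizer (largestPReducedOf p M : Set G) :=
  le_antisymm (h.normalizer_le_dagger h.largest_ne_bot
    (IsElementaryAbelian.isPGroup (pRed_largest M).2.2.1) (pRed_largest M).2.1)
    (dagger_le_normalizer M)

theorem Std.isSyl_pCoreOf (h : Std p S Q M) :
    IsSyl p (pCoreOf p M) (centralizer (largestPReducedOf p M : Set G)) :=
  frakM_isSyl_pCoreOf S h.hSM h.hM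

theorem Std.inf_centralizer_le (h : Std p S Q M) {R : Subgroup G} (hR : IsPGroup p R)
    (hOR : pCoreOf p M ≤ R) : R ⊓ centralizer (largestPReducedOf p M : Set G) ≤ pCoreOf p M :=
  (h.isSyl_pCoreOf.eq_of_le hR.to_inf_left inf_le_right (le_inf hOR h.isSyl_pCoreOf.le)).le

theorem Std.normalizer_pCoreOf_le (h : Std p S Q M) :
    normalizer (pCoreOf p M : Set G) ≤ normalizer (largestPReducedOf p M : Set G) := by
  rw [frakM_largest_eq_omZ S h.hSM h.hM]
  intro x hx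
  rw [← cj_eq_iff_mem_normalizer, omZ_cj, cj_eq_iff_mem_normalizer.mpr hx]

theorem Std.asymA (h : Std p S Q M) (hasym : ¬ IsSymmetricIn (largestPReducedOf p M))
    {R : Subgroup G} (hR : IsPGroup p R) (hOR : pCoreOf p M ≤ R)
    (hRO : R ≤ normalizer (pCoreOf p M : Set G)) :
    normalizer (R : Set G) ≤ normalizer (pCoreOf p M : Set G) := by
  have hCR := h.inf_centralizer_le hR hOR
  obtain ⟨E, hYE, hEO, hn⟩ := asym_key (M := M) (N := normalizer (R : Set G)) hasym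
    (hRO.trans h.normalizer_pCoreOf_le) hCR h.largest_le
    (fun m hm => by rw [cj_eq_of_le_normalizer (le_normalizer_pCoreOf M) hm]; exact hOR)
    (fun n hn => by
      have := cj_mono n hOR
      rwa [cj_eq_iff_mem_normalizer.mpr hn] at this)
  have hE1 : E ≠ ⊥ := fun hb => h.largest_ne_bot (le_bot_iff.mp (hb ▸ hYE))
  have hK := h.le_dagger (K := M ⊔ normalizer (R : Set G)) le_sup_left (by
    intro hb
    apply hE1
    rw [← le_bot_iff, ← hb]
    exact le_pCoreOf ((hEO.trans (pCoreOf_le M)).trans le_sup_left) hn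
      ((pCoreOf_isPGroup M).to_le hEO))
  have hNY : normalizer (R : Set G) ≤ normalizer (largestPReducedOf p M : Set G) :=
    (le_sup_right.trans hK).trans (dagger_le_normalizer M)
  intro n hn'
  rw [← cj_eq_iff_mem_normalizer]
  apply cj_eq_of_le
  apply le_trans _ hCR
  apply le_inf
  · have := cj_mono n hOR
    rwa [cj_eq_iff_mem_normalizer.mpr hn'] at this
  · have := cj_mono n h.isSyl_pCoreOf.le
    rwa [← centralizer_cj, cj_eq_iff_mem_normalizer.mpr (hNY hn')] at this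

theorem Std.asym_normal (h : Std p S Q M) (hasym : ¬ IsSymmetricIn (largestPReducedOf p M))
    {L : Subgroup G} (hL : IsPGroup p L) (hOL : pCoreOf p M ≤ L) :
    L ≤ normalizer (pCoreOf p M : Set G) := by
  by_contra hne
  have hlt : L ⊓ normalizer (pCoreOf p M : Set G) < L :=
    lt_of_le_of_ne inf_le_left (fun he => hne (inf_eq_left.mp he))
  have h1 := isPGroup_lt_normalizer_inf hL hlt
  have h2 := h.asymA hasym (R := L ⊓ normalizer (pCoreOf p M : Set G)) hL.to_inf_left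
    (le_inf hOL le_normalizer) inf_le_right
  exact absurd (inf_le_inf_left L h2) (not_le_of_gt h1)

theorem Std.asym_normalizer_le (h : Std p S Q M)
    (hasym : ¬ IsSymmetricIn (largestPReducedOf p M))
    {L : Subgroup G} (hL : IsPGroup p L) (hOL : pCoreOf p M ≤ L) :
    normalizer (L : Set G) ≤ normalizer (pCoreOf p M : Set G) :=
  h.asymA hasym hL hOL (h.asym_normal hasym hL hOL)

theorem Std.asym_wc (h : Std p S Q M) (hasym : ¬ IsSymmetricIn (largestPReducedOf p M)) :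
    WC p (pCoreOf p M) ⊤ := by
  intro g _ hP
  obtain ⟨T, hT⟩ := hP.exists_le_sylow
  apply burnside_conj T (h.asym_normalizer_le hasym T.2 (le_sup_left.trans hT))
  have h1 : pCoreOf p M ≤ ⟪(T : Subgroup G), g⁻¹⟫ := by
    rw [← cj_le_iff]; exact le_sup_right.trans hT
  have h2 := cj_mono g (h.asym_normalizer_le hasym (isPGroup_cj T.2 g⁻¹) h1)
  rwa [← normalizer_cj, ← normalizer_cj, cj_cj_inv] at h2

end Cfsg.Agent.Lib.Helper53Asym
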