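import Cfsg.Agent.Lib.Helper53Act

set_option autoImplicit false

namespace Cfsg.Agent.Lib.Helper53CharP

open Cfsg Subgroup Cfsg.Agent.Lib.Helper53Basic Cfsg.Agent.Lib.Helper53Rel
open Cfsg.Agent.Lib.Helper53Syl Cfsg.Agent.Lib.Helper53Comm Cfsg.Agent.Lib.Helper53Min
open Cfsg.Agent.Lib.Helper53WC Cfsg.Agent.Lib.Helper53Act
open scoped commutatorElement

variable {G : Type*} [Group G] {p : ℕ}

local notation "⟪" Q ", " g "⟫" => Subgroup.map (MulEquiv.toMonoidHom (MulAut.conj g)) Q

/-- `L` has characteristic `p` (relative form). -/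
def CharP (p : ℕ) (L : Subgroup G) : Prop :=
  L ⊓ centralizer (pCoreOf p L : Set G) ≤ pCoreOf p L

theorem charP_iff' (L : Subgroup G) :
    centralizer (pCore p ↥L : Set ↥L) ≤ pCore p ↥L ↔ CharP p L := charP_iff L

theorem charP_top_iff : centralizer (pCore p G : Set G) ≤ pCore p G ↔ CharP p (⊤ : Subgroup G) := by
  unfold CharP
  rw [pCoreOf_top, top_inf_eq]

/-- a criterion: a normal `p`-subgroup containing its centralizer. -/
theorem charP_of_le {L Q : Subgroup G} (hQL : Q ≤ L) (hn : L ≤ normalizer (Q : Set G))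
    (hQ : IsPGroup p Q) (hc : L ⊓ centralizer (Q : Set G) ≤ Q) : CharP p L := by
  have h1 : Q ≤ pCoreOf p L := le_pCoreOf hQL hn hQ
  exact (inf_le_inf_left L (centralizer_le h1)).trans (hc.trans h1)

/-- normal subgroups of groups of characteristic `p` have characteristic `p`. -/
theorem CharP.of_normal [Finite G] [Fact p.Prime] {N H : Subgroup G} (hH : CharP p H)
    (hNH : N ≤ H) (hn : H ≤ normalizer (N : Set G)) : CharP p N := by
  set R := pCoreOf p H with hR
  set C := N ⊓ centralizer (pCoreOf p N : Set G) with hC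
  have hCp : IsPGroup p C := by
    apply isPGroup_of_coprime_trivial
    intro x hx hxc
    obtain ⟨hxN, hxc'⟩ := Subgroup.mem_inf.mp hx
    have hxH : x ∈ H := hNH hxN
    have h1 : x ∈ centralizer (R : Set G) := by
      rw [mem_centralizer_iff]
      intro r hr
      symm
      apply comm_of_stab (pCoreOf_isPGroup (p := p) N) hxc
      · intro a ha
        exact ((mem_centralizer_iff.mp hxc') a ha).symm
      · apply pCoreOf_inf_le hNH
        refine Subgroup.mem_inf.mpr ⟨?_, ?_⟩
        · exact R.mul_mem ((le_normalizer_iff.mp (le_normalizer_pCoreOf H)) x hxH r hr) (R.inv_mem hr)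
        · have h2 : r * x⁻¹ * r⁻¹ ∈ N :=
            (le_normalizer_iff.mp hn) r (pCoreOf_le H hr) _ (N.inv_mem hxN)
          have h3 : x * r * x⁻¹ * r⁻¹ = x * (r * x⁻¹ * r⁻¹) := by group
          rw [h3]; exact N.mul_mem hxN h2
    exact eq_one_of_mem_of_coprime (pCoreOf_isPGroup (p := p) H) (hH ⟨hxH, h1⟩) hxc
  apply le_pCoreOf inf_le_left _ hCp
  exact le_normalizer_inf le_normalizer
    (le_normalizer_centralizer (le_normalizer_pCoreOf N))

/-- The main lemma on weakly closed subgroups in groups of characteristic `p`. -/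
theorem wc_charP_main [Finite G] [Fact p.Prime] {Q L H : Subgroup G} (hQ : IsPGroup p Q)
    (hwc : WC p Q H) (hCQ : H ⊓ centralizer (Q : Set G) ≤ Q) (hQL : Q ≤ L) (hLH : L ≤ H)
    (hH : CharP p H) :
    H ⊓ centralizer (pCoreOf p L : Set G) ≤ normalizer (Q : Set G) ∧
    ⁅Q, H ⊓ centralizer (pCoreOf p L : Set G)⁆ ≤ Q ⊓ pCoreOf p L ∧
    IsPGroup p ↥(H ⊓ centralizer (pCoreOf p L : Set G)) ∧ CharP p L := by
  set R := pCoreOf p H with hR
  set P := pCoreOf p L with hP
  set D := H ⊓ centralizer (P : Set G) with hD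
  set A := R ⊓ P with hA
  have hQH : Q ≤ H := hQL.trans hLH
  have hRp : IsPGroup p R := pCoreOf_isPGroup H
  have hPp : IsPGroup p P := pCoreOf_isPGroup L
  have hHR : H ≤ normalizer (R : Set G) := le_normalizer_pCoreOf H
  have hLP : L ≤ normalizer (P : Set G) := le_normalizer_pCoreOf L
  have hQR : IsPGroup p ↥(Q ⊔ R) := hQ.to_sup_of_normal_right' hRp (hQH.trans hHR)
  have hRQ : R ≤ normalizer (Q : Set G) :=
    le_sup_right.trans (hwc.le_normalizer hQR le_sup_left (sup_le hQH (pCoreOf_le H)))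
  have h1 : ⁅R, Q⁆ ≤ A := by
    have h2 : ⁅R, Q⁆ ≤ R ⊓ Q :=
      le_inf (commutator_le_of_le_normalizer' (hQH.trans hHR)) (commutator_le_of_le_normalizer hRQ)
    refine h2.trans (le_inf inf_le_left ?_)
    exact (inf_le_inf_left R hQL).trans (pCoreOf_inf_le hLH)
  have hQA : Q ≤ normalizer (A : Set G) := le_normalizer_inf (hQH.trans hHR) (hQL.trans hLP)
  have hDA : D ≤ centralizer (A : Set G) := inf_le_right.trans (centralizer_le inf_le_right)
  have hDAn : D ≤ normalizer (A : Set G) := hDA.trans (centralizer_le_normalizer' A)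
  set K := H ⊓ centralizer (A : Set G) ⊓ commStab R A with hK
  have hKp : IsPGroup p K := by
    apply isPGroup_of_coprime_trivial
    intro x hx hxc
    obtain ⟨hx12, hx3⟩ := Subgroup.mem_inf.mp hx
    obtain ⟨hx1, hx2⟩ := Subgroup.mem_inf.mp hx12
    have h2 : x ∈ centralizer (R : Set G) := by
      rw [mem_centralizer_iff]
      intro r hr
      symm
      apply comm_of_stab (hRp.to_inf_left (K := P)) hxc
      · intro a ha
        exact ((mem_centralizer_iff.mp hx2) a ha).symm
      · have h3 := A.inv_mem (hx3.2 r hr)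
        have h4 : x * r * x⁻¹ * r⁻¹ = ⁅r, x⁆⁻¹ := by simp only [commutatorElement_def]; group
        rw [h4]; exact h3
    exact eq_one_of_mem_of_coprime hRp (hH ⟨hx1, h2⟩) hxc
  have hQK : Q ≤ normalizer (K : Set G) :=
    le_normalizer_inf (le_normalizer_inf (hQH.trans le_normalizer) (le_normalizer_centralizer hQA))
      (le_normalizer_commStab (hQH.trans hHR) hQA)
  have hQcs : Q ≤ commStab R A := by
    intro q hq
    exact ⟨hQA hq, fun v hv => h1 (commutator_mem_commutator hv hq)⟩
  have hDcs : D ≤ normalizer ((commStab R A : Subgroup G) : Set G) :=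
    le_normalizer_commStab (inf_le_left.trans hHR) hDAn
  have hDQ : D ≤ normalizer (Q : Set G) := by
    intro d hd
    rw [← cj_eq_iff_mem_normalizer]
    apply hwc.eq_of_le (hQ.to_sup_of_normal_right' hKp hQK) le_sup_left (inf_le_left (a := H) hd)
    rintro _ ⟨q, hq, rfl⟩
    have h4 : (MulAut.conj d).toMonoidHom q = ⁅d, q⁆ * q := by
      simp only [commutatorElement_def, MulEquiv.coe_toMonoidHom, MulAut.conj_apply]; group
    rw [h4]
    refine Subgroup.mul_mem _ (le_sup_right (b := K) ?_) (le_sup_left (a := Q) hq)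
    have hdH : d ∈ H := inf_le_left (a := H) hd
    refine Subgroup.mem_inf.mpr ⟨Subgroup.mem_inf.mpr ⟨?_, ?_⟩, ?_⟩
    · rw [commutatorElement_def]
      exact H.mul_mem (H.mul_mem (H.mul_mem hdH (hQH hq)) (H.inv_mem hdH)) (H.inv_mem (hQH hq))
    · have h5 : q * d⁻¹ * q⁻¹ ∈ centralizer (A : Set G) :=
        (le_normalizer_iff.mp (le_normalizer_centralizer hQA)) q hq _
          (Subgroup.inv_mem _ (hDA hd))
      have h6 : ⁅d, q⁆ = d * (q * d⁻¹ * q⁻¹) := by simp only [commutatorElement_def]; group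
      rw [h6]; exact Subgroup.mul_mem _ (hDA hd) h5
    · rw [commutatorElement_def]
      exact Subgroup.mul_mem _ ((le_normalizer_iff.mp hDcs) d hd q (hQcs hq))
        (Subgroup.inv_mem _ (hQcs hq))
  have hQD : Q ≤ normalizer (D : Set G) :=
    le_normalizer_inf (hQH.trans le_normalizer) (le_normalizer_centralizer (hQL.trans hLP))
  set N := L ⊓ centralizer (P : Set G) with hN
  have hND : N ≤ D := inf_le_inf_right _ hLH
  have hLN : L ≤ normalizer (N : Set G) :=
    le_normalizer_inf le_normalizer (le_normalizer_centralizer hLP)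
  have hQ0 : Q ⊓ centralizer (P : Set G) ≤ P := by
    have h2 : Q ⊓ centralizer (P : Set G) ≤ pCoreOf p N := by
      apply le_pCoreOf (inf_le_inf_right _ hQL) _ hQ.to_inf_left
      exact le_normalizer_inf (hND.trans hDQ)
        (le_normalizer_centralizer (inf_le_left.trans hLP))
    exact h2.trans (pCoreOf_le_of_normal inf_le_left hLN)
  have hcomm : ⁅Q, D⁆ ≤ Q ⊓ centralizer (P : Set G) :=
    le_inf (commutator_le_of_le_normalizer' hDQ)
      ((commutator_le_of_le_normalizer hQD).trans inf_le_right)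
  have hDp : IsPGroup p D := by
    apply isPGroup_of_coprime_trivial
    intro x hx hxc
    have h2 : x ∈ centralizer (Q : Set G) := by
      rw [mem_centralizer_iff]
      intro r hr
      symm
      apply comm_of_stab (hQ.to_inf_left (K := centralizer (P : Set G))) hxc
      · intro a ha
        exact ((mem_centralizer_iff.mp (inf_le_right (a := H) hx)) a (hQ0 ha)).symm
      · have h3 := Subgroup.inv_mem _ (hcomm (commutator_mem_commutator hr hx))
        have h4 : x * r * x⁻¹ * r⁻¹ = ⁅r, x⁆⁻¹ := by simp only [commutatorElement_def]; group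
        rw [h4]; exact h3
    exact eq_one_of_mem_of_coprime hQ (hCQ ⟨inf_le_left (a := H) hx, h2⟩) hxc
  refine ⟨hDQ, hcomm.trans (le_inf inf_le_left hQ0), hDp, ?_⟩
  exact le_pCoreOf inf_le_left hLN (hDp.to_le hND)

theorem wc_charP_main' [Finite G] [Fact p.Prime] {Q L : Subgroup G} (hQ : IsPGroup p Q)
    (hwc : WC p Q ⊤) (hCQ : centralizer (Q : Set G) ≤ Q) (hQL : Q ≤ L) {y : G}
    (hy : y ∈ pCoreOf p L ⊓ centralizer (Q : Set G))
    (hyc : CharP p (centralizer ({y} : Set G))) :
    centralizer (pCoreOf p L : Set G) ≤ normalizer (Q : Set G) ∧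
    ⁅Q, centralizer (pCoreOf p L : Set G)⁆ ≤ Q ⊓ pCoreOf p L ∧
    IsPGroup p ↥(centralizer (pCoreOf p L : Set G)) ∧ CharP p L := by
  set P := pCoreOf p L with hP
  set D := centralizer (P : Set G) with hD
  set H₂ := centralizer ({y} : Set G) with hH₂
  obtain ⟨hyP, hyQ⟩ := Subgroup.mem_inf.mp hy
  have hLP : L ≤ normalizer (P : Set G) := le_normalizer_pCoreOf L
  have hQH₂ : Q ≤ H₂ := by
    intro q hq
    rw [hH₂, mem_centralizer_singleton_iff]
    exact (mem_centralizer_iff.mp hyQ) q hq
  have hDH₂ : D ≤ H₂ := centralizer_le (by simpa using hyP)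
  have hLD : L ≤ normalizer (D : Set G) := le_normalizer_centralizer hLP
  have hQD : Q ≤ normalizer (D : Set G) := hQL.trans hLD
  have h1 : CharP p (D ⊔ Q) :=
    (wc_charP_main hQ (hwc.mono le_top) (inf_le_right.trans hCQ) le_sup_right
      (sup_le hDH₂ hQH₂) hyc).2.2.2
  have h2 : CharP p D := h1.of_normal le_sup_left (sup_le le_normalizer hQD)
  have h3 : CharP p (L ⊔ D) := by
    have hW : pCoreOf p D ≤ pCoreOf p (L ⊔ D) :=
      pCoreOf_le_of_normal le_sup_right (sup_le hLD le_normalizer)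
    have hP' : P ≤ pCoreOf p (L ⊔ D) :=
      le_pCoreOf ((pCoreOf_le L).trans le_sup_left)
        (sup_le hLP (centralizer_le_normalizer' P)) (pCoreOf_isPGroup L)
    intro x hx
    have hx2 := inf_le_right (a := L ⊔ D) hx
    apply hW
    apply h2
    exact ⟨centralizer_le hP' hx2, centralizer_le hW hx2⟩
  have h4 := wc_charP_main hQ (hwc.mono le_top) (inf_le_right.trans hCQ) hQL
    (le_sup_left (b := D)) h3
  have h5 : (L ⊔ D) ⊓ centralizer (pCoreOf p L : Set G) = D := inf_eq_right.mpr le_sup_right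
  rw [h5] at h4
  exact h4

end Cfsg.Agent.Lib.Helper53CharP
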