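import Cfsg.Agent.Lib.Helper53Min

set_option autoImplicit false

namespace Cfsg.Agent.Lib.Helper53Idx

open Cfsg Subgroup Cfsg.Agent.Lib.Helper53Basic Cfsg.Agent.Lib.Helper53Rel
open Cfsg.Agent.Lib.Helper53Syl Cfsg.Agent.Lib.Helper53Comm Cfsg.Agent.Lib.Helper53Min

variable {G : Type*} [Group G] {p : ℕ}

local notation "⟪" Q ", " g "⟫" => Subgroup.map (MulEquiv.toMonoidHom (MulAut.conj g)) Q

theorem index_eq_relIndex_of_sup_eq_top [Finite G] {N M : Subgroup G} [N.Normal]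
    (h : N ⊔ M = ⊤) : M.index = M.relIndex N := by
  have h1 : Nat.card M = Nat.card ↥(N ⊓ M) * N.relIndex M := by
    rw [← relIndex_bot_left, ← relIndex_bot_left, ← inf_relIndex_right N M]
    exact (relIndex_mul_relIndex ⊥ (N ⊓ M) M bot_le inf_le_right).symm
  have h2 : Nat.card N = Nat.card ↥(N ⊓ M) * M.relIndex N := by
    rw [← relIndex_bot_left, ← relIndex_bot_left, ← inf_relIndex_left N M]
    exact (relIndex_mul_relIndex ⊥ (N ⊓ M) N bot_le inf_le_left).symm
  have h3 : N.index = N.relIndex M := by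
    rw [← relIndex_top_right, ← h, relIndex_sup_left]
  have h4 := N.card_mul_index
  have h5 := M.card_mul_index
  rw [h2, h3] at h4
  rw [h1, ← h4] at h5
  have hpos1 : 0 < Nat.card ↥(N ⊓ M) := Nat.card_pos
  have hpos2 : 0 < N.relIndex M := by
    rw [← h3]; exact Nat.pos_of_ne_zero (index_ne_zero_of_finite)
  have h6 : Nat.card ↥(N ⊓ M) * N.relIndex M * M.index =
      Nat.card ↥(N ⊓ M) * N.relIndex M * M.relIndex N := by
    rw [h5]; ring
  exact Nat.eq_of_mul_eq_mul_left (Nat.mul_pos hpos1 hpos2) h6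

theorem exists_cj_le_of_sup_eq_top [Finite G] [hp : Fact p.Prime] {N M O : Subgroup G} [N.Normal]
    (h : N ⊔ M = ⊤) (hO : IsSyl p O N) (hOM : O ≤ M) (T : Sylow p G) :
    ∃ x : G, ⟪(T : Subgroup G), x⟫ ≤ M := by
  have h1 : ¬ p ∣ M.index := by
    rw [index_eq_relIndex_of_sup_eq_top h, ← inf_relIndex_right]
    intro hd
    exact hO.2.2 (hd.trans (relIndex_dvd_of_le_left N (le_inf hOM hO.le)))
  obtain ⟨S, hS⟩ := exists_isSyl (p := p) M
  have h2 : IsSyl p S ⊤ := by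
    refine ⟨le_top, hS.isPGroup, ?_⟩
    rw [relIndex_top_right, ← relIndex_mul_index hS.le]
    intro hd
    rcases (Nat.Prime.dvd_mul hp.out).mp hd with h3 | h3
    · exact hS.2.2 h3
    · exact h1 h3
  obtain ⟨x, -, hx⟩ := (isSyl_of_sylow_le T le_top).conj h2
  exact ⟨x, hx ▸ hS.le⟩

end Cfsg.Agent.Lib.Helper53Idx
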