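import Cfsg.Agent.Lib.Helper53FrakM
import Cfsg.Agent.Lib.Helper53Idx

set_option autoImplicit false

namespace Cfsg.Agent.Lib.Helper53Exist

open Cfsg Subgroup Cfsg.Agent.Lib.Helper53Basic Cfsg.Agent.Lib.Helper53Rel
open Cfsg.Agent.Lib.Helper53Syl Cfsg.Agent.Lib.Helper53Comm Cfsg.Agent.Lib.Helper53Min
open Cfsg.Agent.Lib.Helper53WC Cfsg.Agent.Lib.Helper53Act Cfsg.Agent.Lib.Helper53CharP
open Cfsg.Agent.Lib.Helper53PRed Cfsg.Agent.Lib.Helper53PRed2 Cfsg.Agent.Lib.Helper53PRed3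
open Cfsg.Agent.Lib.Helper53FrakM Cfsg.Agent.Lib.Helper53Idx

variable {G : Type*} [Group G] {p : ℕ}

local notation "⟪" Q ", " g "⟫" => Subgroup.map (MulEquiv.toMonoidHom (MulAut.conj g)) Q

/-- `Y_L ≤ Y_K` for `T ≤ L ≤ K`, `T` Sylow in `K`, `K` of characteristic `p`. -/
theorem largest_mono [Finite G] [Fact p.Prime] {T L K : Subgroup G} (hT : IsSyl p T K)
    (hTL : T ≤ L) (hLK : L ≤ K) (hK : CharP p K) :
    largestPReducedOf p L ≤ largestPReducedOf p K := by
  have hY := pRed_largest (p := p) L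
  set Y := largestPReducedOf p L with hYdef
  set A := pCoreOf p K ⊓ centralizer (pCoreOf p K : Set G) with hA
  have hKA : K ≤ normalizer (A : Set G) :=
    le_normalizer_inf (le_normalizer_pCoreOf K) (le_normalizer_centralizer (le_normalizer_pCoreOf K))
  have hOO : pCoreOf p K ≤ pCoreOf p L :=
    le_pCoreOf ((pCoreOf_le_isSyl hT).trans hTL) (hLK.trans (le_normalizer_pCoreOf K))
      (pCoreOf_isPGroup K)
  have hYc : Y ≤ centralizer (pCoreOf p K : Set G) :=
    (le_centralizer_iff.mp (PRed.pCoreOf_le_centralizer hY)).trans (centralizer_le hOO)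
  have hYA : Y ≤ A := le_inf ((le_inf (hY.1.trans hLK) hYc).trans hK) hYc
  let F : Set (Subgroup G) := {X | ∃ k ∈ K, X = ⟪Y, k⟫}
  have hinv : ∀ X ∈ F, ∀ l ∈ K, ⟪X, l⟫ ∈ F := by
    rintro _ ⟨k, hk, rfl⟩ l hl
    exact ⟨l * k, K.mul_mem hl hk, cj_cj _ _ _⟩
  have hYF : Y ≤ sSup F := le_sSup ⟨1, K.one_mem, (cj_one Y).symm⟩
  have hKV : K ≤ normalizer ((sSup F : Subgroup G) : Set G) := by
    intro l hl
    rw [← cj_eq_iff_mem_normalizer]
    apply cj_eq_of_le
    rw [cj_le_iff]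
    apply sSup_le
    intro X hX
    rw [← cj_le_iff]
    exact le_sSup (hinv X hX l hl)
  have hV : PRed p (sSup F) K := by
    apply pRed_sSup (A := A) (inf_le_left.trans (pCoreOf_le K)) (center_le_centralizer_self _) hinv
    · rintro _ ⟨k, hk, rfl⟩
      have := cj_mono k hYA
      rwa [cj_eq_of_le_normalizer hKA hk] at this
    · rintro _ ⟨k, hk, rfl⟩ _ ⟨y, hy, rfl⟩
      rw [← map_pow, hY.2.2.1.2 y hy, map_one]
    · intro D hDK hKD hpow
      have hCC : centralizer ((sSup F : Subgroup G) : Set G) ≤ centralizer (Y : Set G) :=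
        centralizer_le hYF
      have h1 : D ⊓ L ≤ centralizer (Y : Set G) := by
        apply hY.2.2.2 _ inf_le_right (le_normalizer_inf (hLK.trans hKD) le_normalizer)
        intro d hd
        obtain ⟨k, hk⟩ := hpow d hd.1
        exact ⟨k, hCC hk⟩
      have h2 : (D ⊓ centralizer ((sSup F : Subgroup G) : Set G)) ⊔ (T ⊓ D) = D := by
        apply (hT.inf_normal hDK hKD).sup_eq inf_le_left
        · exact le_normalizer_inf le_normalizer (le_normalizer_centralizer (hDK.trans hKV))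
        · intro l hl
          obtain ⟨k, hk⟩ := hpow l hl
          exact ⟨k, D.pow_mem hl _, hk⟩
      have h3 : D ≤ centralizer (Y : Set G) := by
        rw [← h2]
        refine sup_le (inf_le_right.trans hCC) (le_trans ?_ h1)
        exact le_inf inf_le_right (inf_le_left.trans hTL)
      rintro _ ⟨k, hk, rfl⟩
      rw [centralizer_cj]
      have := cj_mono k h3
      rwa [cj_eq_of_le_normalizer hKD hk] at this
  exact hYF.trans (PRed.le_largest hV)

theorem omegaOne_ne_bot [Finite G] [hp : Fact p.Prime] {Z : Subgroup G} (hZ : IsPGroup p Z)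
    (hZ1 : Z ≠ ⊥) : omegaOne p Z ≠ ⊥ := by
  have hcard : p ∣ Nat.card Z := by
    rcases hZ.card_eq_or_dvd with h1 | h1
    · exact absurd (Subgroup.card_eq_one.mp h1) hZ1
    · exact h1
  obtain ⟨z, hz⟩ := exists_prime_orderOf_dvd_card' p hcard
  intro hb
  have h1 : (z : G) ∈ omegaOne p Z := by
    apply mem_omegaOne z.2
    have := pow_orderOf_eq_one z
    rw [hz] at this
    simpa using congrArg Subtype.val this
  rw [hb, mem_bot] at h1
  have h2 : z = 1 := Subtype.ext h1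
  rw [h2, orderOf_one] at hz
  exact hp.out.one_lt.ne hz

theorem omZ_ne_bot [Finite G] [Fact p.Prime] {S : Subgroup G} (hS : IsPGroup p S) (hS1 : S ≠ ⊥) :
    omZ p S ≠ ⊥ :=
  omegaOne_ne_bot hS.to_inf_left (inf_centralizer_ne_bot hS hS hS1 le_normalizer)

theorem largest_ne_bot [Finite G] [Fact p.Prime] {S L : Subgroup G} (hS : IsSyl p S L)
    (hL : CharP p L) (hL1 : pCoreOf p L ≠ ⊥) : largestPReducedOf p L ≠ ⊥ := by
  intro hb
  have hS1 : S ≠ ⊥ := fun h => hL1 (le_bot_iff.mp (h ▸ pCoreOf_le_isSyl hS))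
  apply omZ_ne_bot hS.isPGroup hS1
  rw [← le_bot_iff, ← hb]
  exact (omZ_le_sylowCenterClosure hS).trans (PRed.le_largest (pRed_sylowCenterClosure hL))

/-- a Frattini criterion. -/
theorem frat_crit {M : Type*} [Group M] [Finite M] [Fact p.Prime] (N : Subgroup M) [N.Normal]
    (hO : IsSyl p (pCore p M) N) (T : Sylow p M)
    (hmin : ∀ X : Subgroup M, (T : Subgroup M) ≤ X → N ⊔ X = ⊤ → X = ⊤) :
    N.map (QuotientGroup.mk' (pCore p M)) ≤ _root_.frattini (M ⧸ pCore p M) := by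
  have hsurj := QuotientGroup.mk'_surjective (pCore p M)
  unfold _root_.frattini Order.radical
  apply le_iInf₂
  intro Kb hKb
  rw [map_le_iff_le_comap]
  set K := Kb.comap (QuotientGroup.mk' (pCore p M)) with hK
  have hKc : IsCoatom K := isCoatom_comap_of_surjective hsurj hKb
  have hOpK : pCore p M ≤ K := by
    rw [hK, ← map_le_iff_le_comap]
    have : (pCore p M).map (QuotientGroup.mk' (pCore p M)) = ⊥ := by
      rw [← le_bot_iff, map_le_iff_le_comap, MonoidHom.comap_bot, QuotientGroup.ker_mk']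
    rw [this]; exact bot_le
  by_contra hNK
  have h1 : N ⊔ K = ⊤ := hKc.2 _ (lt_of_le_of_ne le_sup_right (fun he => hNK (he ▸ le_sup_left)))
  obtain ⟨x, hx⟩ := exists_cj_le_of_sup_eq_top h1 hO hOpK T
  rw [cj_le_iff] at hx
  have h2 : N ⊔ ⟪K, x⁻¹⟫ = ⊤ := by
    have h3 : ⟪N ⊔ K, x⁻¹⟫ = ⟪(⊤ : Subgroup M), x⁻¹⟫ := by rw [h1]
    rwa [cj_sup, cj_eq_of_le_normalizer (A := N) (K := ⊤) le_normalizer_of_normal (mem_top _),
      cj_eq_of_mem (mem_top _)] at h3
  have h4 := hmin _ hx h2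
  apply hKc.1
  have h5 : ⟪⟪K, x⁻¹⟫, x⟫ = ⟪(⊤ : Subgroup M), x⟫ := by rw [h4]
  rwa [cj_cj_inv, cj_eq_of_mem (mem_top _)] at h5

end Cfsg.Agent.Lib.Helper53Exist
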