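import Cfsg.Agent.Lib.Helper53Asym
import Cfsg.Agent.S1265

set_option autoImplicit false
set_option linter.unusedSectionVars false
set_option linter.unusedVariables false

namespace Cfsg.Agent.Lib.Helper53FStar

open Cfsg Subgroup Cfsg.Agent.Lib.Helper53Basic Cfsg.Agent.Lib.Helper53Rel
open Cfsg.Agent.Lib.Helper53Syl Cfsg.Agent.Lib.Helper53Comm Cfsg.Agent.Lib.Helper53Min
open Cfsg.Agent.Lib.Helper53WC Cfsg.Agent.Lib.Helper53Act Cfsg.Agent.Lib.Helper53CharP
open Cfsg.Agent.Lib.Helper53PRed Cfsg.Agent.Lib.Helper53PRed2 Cfsg.Agent.Lib.Helper53PRed3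
open Cfsg.Agent.Lib.Helper53FrakM Cfsg.Agent.Lib.Helper53Exist Cfsg.Agent.Lib.Helper53Asym

variable {G : Type*} [Group G] {p : ℕ}

local notation "⟪" Q ", " g "⟫" => Subgroup.map (MulEquiv.toMonoidHom (MulAut.conj g)) Q

theorem top_le_normalizer_gfit (A : Type*) [Group A] :
    (⊤ : Subgroup A) ≤ normalizer (generalizedFittingSubgroup A : Set A) := by
  rw [Cfsg.Agent.Lib.Helper28Layer.gfit_eq]
  exact (Cfsg.Agent.Lib.Helper28Layer.gfitIn_normIn (⊤ : Subgroup A)).2

/-- a `p`-subgroup normalized by `F*(A)` is trivial if `O_p(A) = 1`. -/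
theorem eq_bot_of_gfit_le_normalizer {A : Type*} [Group A] [Finite A] [Fact p.Prime]
    (hA : pCore p A = ⊥) {P : Subgroup A} (hP : IsPGroup p P)
    (hn : generalizedFittingSubgroup A ≤ normalizer (P : Set A)) : P = ⊥ := by
  set Fs := generalizedFittingSubgroup A with hFs
  have hFn : (⊤ : Subgroup A) ≤ normalizer (Fs : Set A) := top_le_normalizer_gfit A
  have hI : P ⊓ Fs = ⊥ := by
    rw [← le_bot_iff, ← hA, ← pCoreOf_top]
    exact (le_pCoreOf inf_le_right (le_normalizer_inf hn le_normalizer) hP.to_inf_left).trans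
      (pCoreOf_le_of_normal le_top hFn)
  have hc : ⁅P, Fs⁆ = ⊥ := by
    rw [← le_bot_iff, ← hI]
    exact le_inf (commutator_le_of_le_normalizer' hn)
      (commutator_le_of_le_normalizer (le_top.trans hFn))
  rw [commutator_eq_bot_iff_le_centralizer] at hc
  rw [← le_bot_iff, ← hI]
  exact le_inf le_rfl (hc.trans Cfsg.Agent.S1265.result)

/-- a criterion for `Y ≤ Y_K`. -/
theorem le_largest_of [Finite G] [Fact p.Prime] {T K Y : Subgroup G} (hT : IsSyl p T K)
    (hYA : Y ≤ pCoreOf p K ⊓ centralizer (pCoreOf p K : Set G)) (hexp : ∀ y ∈ Y, y ^ p = 1)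
    (hkey : ∀ D : Subgroup G, D ≤ K → K ≤ normalizer (D : Set G) →
      (∀ d ∈ D, ∃ k : ℕ, d ^ (p ^ k) ∈ centralizer (Y : Set G)) → T ⊓ D ≤ centralizer (Y : Set G)) :
    Y ≤ largestPReducedOf p K := by
  set A := pCoreOf p K ⊓ centralizer (pCoreOf p K : Set G) with hA
  have hKA : K ≤ normalizer (A : Set G) :=
    le_normalizer_inf (le_normalizer_pCoreOf K) (le_normalizer_centralizer (le_normalizer_pCoreOf K))
  let F : Set (Subgroup G) := {X | ∃ k ∈ K, X = ⟪Y, k⟫}
  have hinv : ∀ X ∈ F, ∀ l ∈ K, ⟪X, l⟫ ∈ F := by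
    rintro _ ⟨k, hk, rfl⟩ l hl
    exact ⟨l * k, K.mul_mem hl hk, cj_cj _ _ _⟩
  have hYF : Y ≤ sSup F := le_sSup ⟨1, K.one_mem, (cj_one Y).symm⟩
  have hKV : K ≤ normalizer ((sSup F : Subgroup G) : Set G) := by
    intro l hl
    rw [← cj_eq_iff_mem_normalizer]
    apply cj_eq_of_le
    rw [cj_le_iff]
    apply sSup_le
    intro X hX
    rw [← cj_le_iff]
    exact le_sSup (hinv X hX l hl)
  have hV : PRed p (sSup F) K := by
    apply pRed_sSup (A := A) (inf_le_left.trans (pCoreOf_le K)) (center_le_centralizer_self _) hinv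
    · rintro _ ⟨k, hk, rfl⟩
      have := cj_mono k hYA
      rwa [cj_eq_of_le_normalizer hKA hk] at this
    · rintro _ ⟨k, hk, rfl⟩ _ ⟨y, hy, rfl⟩
      rw [← map_pow, hexp y hy, map_one]
    · intro D hDK hKD hpow
      have hCC : centralizer ((sSup F : Subgroup G) : Set G) ≤ centralizer (Y : Set G) :=
        centralizer_le hYF
      have h1 : T ⊓ D ≤ centralizer (Y : Set G) := by
        apply hkey D hDK hKD
        intro d hd
        obtain ⟨k, hk⟩ := hpow d hd
        exact ⟨k, hCC hk⟩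
      have h2 : (D ⊓ centralizer ((sSup F : Subgroup G) : Set G)) ⊔ (T ⊓ D) = D := by
        apply (hT.inf_normal hDK hKD).sup_eq inf_le_left
        · exact le_normalizer_inf le_normalizer (le_normalizer_centralizer (hDK.trans hKV))
        · intro l hl
          obtain ⟨k, hk⟩ := hpow l hl
          exact ⟨k, D.pow_mem hl _, hk⟩
      have h3 : D ≤ centralizer (Y : Set G) := by
        rw [← h2]
        exact sup_le (inf_le_right.trans hCC) h1
      rintro _ ⟨k, hk, rfl⟩
      rw [centralizer_cj]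
      have := cj_mono k h3
      rwa [cj_eq_of_le_normalizer hKD hk] at this
  exact hYF.trans (PRed.le_largest hV)

/-- transfer of `eq_bot_of_gfit_le_normalizer` to a section `Md / C_Md(Y)`. -/
theorem le_centralizer_of_gfit [Finite G] [Fact p.Prime] {Y Md D F : Subgroup G}
    (hY : PRed p Y Md)
    [hn : ((centralizer (Y : Set G)).subgroupOf Md).Normal]
    (hF : F = ((generalizedFittingSubgroup (↥Md ⧸ (centralizer (Y : Set G)).subgroupOf Md)).comap
      (QuotientGroup.mk' ((centralizer (Y : Set G)).subgroupOf Md))).map Md.subtype)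
    (hDM : D ≤ Md) (hFD : F ≤ normalizer (D : Set G))
    (hpow : ∀ d ∈ D, ∃ k : ℕ, d ^ (p ^ k) ∈ centralizer (Y : Set G)) :
    D ≤ centralizer (Y : Set G) := by
  set C' := (centralizer (Y : Set G)).subgroupOf Md with hC'
  have hA : pCore p (↥Md ⧸ C') = ⊥ := by
    rw [pCore_quotient_eq_bot_iff]
    intro D' hD' hpow'
    have h1 : D'.map Md.subtype ≤ centralizer (Y : Set G) := by
      apply hY.2.2.2 _ (map_subtype_le D')
      · rw [← normal_subgroupOf_iff_le_normalizer (map_subtype_le D'), subgroupOf_map_subtype']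
        exact hD'
      · rintro _ ⟨d, hd, rfl⟩
        obtain ⟨k, hk⟩ := hpow' d hd
        exact ⟨k, by simpa [hC', mem_subgroupOf] using hk⟩
    intro d hd
    rw [hC', mem_subgroupOf]
    exact h1 (mem_map_of_mem _ hd)
  have hsurj := QuotientGroup.mk'_surjective C'
  set P := (D.subgroupOf Md).map (QuotientGroup.mk' C') with hP
  have hPp : IsPGroup p P := by
    rintro ⟨_, d, hd, rfl⟩
    obtain ⟨k, hk⟩ := hpow d hd
    refine ⟨k, Subtype.ext ?_⟩
    show (QuotientGroup.mk' C' d) ^ (p ^ k) = 1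
    rw [← map_pow, QuotientGroup.mk'_apply, QuotientGroup.eq_one_iff, hC', mem_subgroupOf]
    simpa using hk
  have hPn : generalizedFittingSubgroup (↥Md ⧸ C') ≤ normalizer (P : Set (↥Md ⧸ C')) := by
    intro xb hxb
    obtain ⟨x, rfl⟩ := hsurj xb
    have hxF : (x : G) ∈ F := by
      rw [hF]
      exact ⟨x, hxb, rfl⟩
    have hxD := hFD hxF
    rw [mem_normalizer_iff]
    have key : ∀ y : Md, (y : G) ∈ normalizer (D : Set G) → ∀ h ∈ P,
        QuotientGroup.mk' C' y * h * (QuotientGroup.mk' C' y)⁻¹ ∈ P := by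
      rintro y hy _ ⟨d, hd, rfl⟩
      refine ⟨y * d * y⁻¹, ?_, by simp⟩
      have hd' : (d : G) ∈ D := hd
      show ((y * d * y⁻¹ : Md) : G) ∈ D
      simpa using (mem_normalizer_iff.mp hy _).mp hd'
    intro h
    constructor
    · exact key x hxD h
    · intro hh
      have := key x⁻¹ (by simpa using (normalizer (D : Set G)).inv_mem hxD) _ hh
      simpa [mul_assoc] using this
  have hbot := eq_bot_of_gfit_le_normalizer hA hPp hPn
  intro d hd
  have h1 : QuotientGroup.mk' C' ⟨d, hDM hd⟩ ∈ P := ⟨⟨d, hDM hd⟩, by simpa [mem_subgroupOf] using hd, rfl⟩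
  rw [hbot, mem_bot, QuotientGroup.mk'_apply, QuotientGroup.eq_one_iff, hC', mem_subgroupOf] at h1
  exact h1

end Cfsg.Agent.Lib.Helper53FStar
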