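import Cfsg.Agent.Lib.Helper53Asym

set_option autoImplicit false
set_option linter.unusedSectionVars false
set_option linter.unusedVariables false

namespace Cfsg.Agent.Lib.Helper53FrakH

open Cfsg Subgroup Cfsg.Agent.Lib.Helper53Basic Cfsg.Agent.Lib.Helper53Rel
open Cfsg.Agent.Lib.Helper53Syl Cfsg.Agent.Lib.Helper53Comm Cfsg.Agent.Lib.Helper53Min
open Cfsg.Agent.Lib.Helper53WC Cfsg.Agent.Lib.Helper53Act Cfsg.Agent.Lib.Helper53CharP
open Cfsg.Agent.Lib.Helper53PRed Cfsg.Agent.Lib.Helper53PRed2 Cfsg.Agent.Lib.Helper53PRed3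
open Cfsg.Agent.Lib.Helper53Large Cfsg.Agent.Lib.Helper53Large2
open Cfsg.Agent.Lib.Helper53FrakM Cfsg.Agent.Lib.Helper53Exist Cfsg.Agent.Lib.Helper53Asym

variable {G : Type*} [Group G] {p : ℕ}

local notation "⟪" Q ", " g "⟫" => Subgroup.map (MulEquiv.toMonoidHom (MulAut.conj g)) Q

theorem charP_cj {L : Subgroup G} (h : CharP p L) (g : G) : CharP p ⟪L, g⟫ := by
  unfold Cfsg.Agent.Lib.Helper53CharP.CharP at h ⊢
  rw [pCoreOf_cj, centralizer_cj, ← cj_inf]
  exact cj_mono g h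

variable [Finite G] [Fact p.Prime] {S : Sylow p G} {Q M : Subgroup G}

theorem Std.centralizer_pCoreOf_le (h : Std p S Q M) :
    centralizer (pCoreOf p M : Set G) ≤ pCoreOf p M := (mem_charPSubgroups_iff.mp h.mem).2

/-- subgroups between `O_p(M)` and a group of characteristic `p` have characteristic `p`. -/
theorem Std.charP_of_le (h : Std p S Q M) (hasym : ¬ IsSymmetricIn (largestPReducedOf p M))
    {P L : Subgroup G} (hOP : pCoreOf p M ≤ P) (hPL : P ≤ L) (hL : CharP p L) : CharP p P :=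
  (wc_charP_main (pCoreOf_isPGroup M) ((h.asym_wc hasym).mono le_top)
    (inf_le_right.trans (Std.centralizer_pCoreOf_le h)) hOP hPL hL).2.2.2

/-- existence of members of `ℌ_G(O_p(M))`. -/
theorem Std.exists_frakH (h : Std p S Q M) (hasym : ¬ IsSymmetricIn (largestPReducedOf p M))
    (htall : IsCharPTall p (largestPReducedOf p M)) : ∃ H : Subgroup G, IsInFrakH p M H := by
  obtain ⟨T, L, hTL, hLc, hYL⟩ := htall
  obtain ⟨c, hc, hT⟩ := h.isSyl_pCoreOf.conj (isSyl_of_sylow T)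
  have hYc : ⟪largestPReducedOf p M, c⟫ = largestPReducedOf p M :=
    cj_eq_of_le_normalizer (centralizer_le_normalizer' _) hc
  rw [hT] at hTL
  let 𝒳 : Set (Subgroup G) := {H | pCoreOf p M ≤ H ∧ H ≤ ⟪L, c⁻¹⟫ ∧
    ¬ largestPReducedOf p M ≤ pCoreOf p H}
  have hL' : ⟪L, c⁻¹⟫ ∈ 𝒳 := by
    refine ⟨cj_le_iff.mp hTL, le_rfl, ?_⟩
    rw [pCoreOf_cj, ← cj_le_iff, hYc]
    exact hYL
  obtain ⟨H, ⟨hOH, hHL, hYH⟩, hmin⟩ := (Set.toFinite 𝒳).exists_minimal ⟨_, hL'⟩
  refine ⟨H, ?_, hOH, hYH, ?_⟩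
  · rw [charP_iff']
    exact Std.charP_of_le h hasym hOH hHL (charP_cj ((charP_iff' L).mp hLc) _)
  · intro P hOP hlt
    by_contra hne
    exact absurd (hmin ⟨hOP, hlt.le.trans hHL, hne⟩ hlt.le) (not_le_of_gt hlt)


/-! ### relative normal closure -/

/-- the subgroup generated by the `K`-conjugates of `A`. -/
def ncl (A K : Subgroup G) : Subgroup G := sSup {X | ∃ u ∈ K, X = ⟪A, u⟫}

theorem le_ncl (A K : Subgroup G) : A ≤ ncl A K := le_sSup ⟨1, K.one_mem, (cj_one A).symm⟩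

theorem cj_le_ncl (A : Subgroup G) {K : Subgroup G} {u : G} (hu : u ∈ K) : ⟪A, u⟫ ≤ ncl A K :=
  le_sSup ⟨u, hu, rfl⟩

theorem ncl_le {A K E : Subgroup G} (hAE : A ≤ E) (hn : K ≤ normalizer (E : Set G)) :
    ncl A K ≤ E := by
  apply sSup_le
  rintro X ⟨u, hu, rfl⟩
  have := cj_mono u hAE
  rwa [cj_eq_of_le_normalizer hn hu] at this

theorem ncl_le_self {A K : Subgroup G} (hAK : A ≤ K) : ncl A K ≤ K := ncl_le hAK le_normalizer

theorem le_normalizer_ncl (A K : Subgroup G) : K ≤ normalizer ((ncl A K : Subgroup G) : Set G) := by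
  intro k hk
  rw [← cj_eq_iff_mem_normalizer]
  apply cj_eq_of_le
  rw [cj_le_iff]
  apply sSup_le
  rintro X ⟨g, hg, rfl⟩
  rw [← cj_le_iff, cj_cj]
  exact le_sSup ⟨k * g, K.mul_mem hk hg, rfl⟩

theorem map_normalClosure_eq_ncl {A K : Subgroup G} (hAK : A ≤ K) :
    (normalClosure ((A.subgroupOf K : Subgroup K) : Set K)).map K.subtype = ncl A K := by
  apply le_antisymm
  · have h1 : ((ncl A K).subgroupOf K).Normal :=
      (normal_subgroupOf_iff_le_normalizer (ncl_le_self hAK)).mpr (le_normalizer_ncl A K)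
    have h2 : normalClosure ((A.subgroupOf K : Subgroup K) : Set K) ≤ (ncl A K).subgroupOf K :=
      normalClosure_le_normal (SetLike.coe_subset_coe.mpr (comap_mono (le_ncl A K)))
    have h3 := Subgroup.map_mono (f := K.subtype) h2
    rwa [map_subgroupOf_eq_of_le (ncl_le_self hAK)] at h3
  · apply sSup_le
    rintro X ⟨u, hu, rfl⟩
    rintro _ ⟨a, ha, rfl⟩
    have h1 : (⟨a, hAK ha⟩ : K) ∈ normalClosure ((A.subgroupOf K : Subgroup K) : Set K) :=
      subset_normalClosure (by simpa [mem_subgroupOf] using ha)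
    have h2 := (normalClosure_normal (s := ((A.subgroupOf K : Subgroup K) : Set K))).conj_mem _ h1
      ⟨u, hu⟩
    exact ⟨_, h2, by simp⟩

/-- `O_p(P) ≤ O_p(H)` for `O^p(H) ≤ P ≤ H`. -/
theorem pCoreOf_le_of_pRes_le {P H : Subgroup G} (hRP : (pResidual p ↥H).map H.subtype ≤ P)
    (hPH : P ≤ H) : pCoreOf p P ≤ pCoreOf p H := by
  obtain ⟨T, hT⟩ := exists_isSyl (p := p) H
  have hsup := hT.pRes_sup_eq
  set R := (pResidual p ↥H).map H.subtype with hR
  have hHR : H ≤ normalizer (R : Set G) := le_normalizer_pRes H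
  have key : ∀ P' : Subgroup G, R ≤ P' → P' ≤ H → pCoreOf p P' ≤ T := by
    intro P' hRP' hP'H
    obtain ⟨TP, hTP⟩ := exists_isSyl (p := p) P'
    obtain ⟨h, hh, hle⟩ := hT.exists_le_cj hTP.isPGroup (hTP.le.trans hP'H)
    rw [← hsup, sup_comm, mem_sup_of_le_normalizer' (hT.le.trans hHR)] at hh
    obtain ⟨r, hr, t, ht, rfl⟩ := hh
    rw [← cj_cj, cj_eq_of_mem ht, ← inv_inv r, ← cj_le_iff] at hle
    exact (pCoreOf_le_isSyl (hTP.cj_mem (P'.inv_mem (hRP' hr)))).trans hle
  have hE : ncl (pCoreOf p P) H ≤ T := by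
    apply sSup_le
    rintro X ⟨u, hu, rfl⟩
    rw [← pCoreOf_cj]
    apply key _ _ (cj_le_of_mem hu hPH)
    have := cj_mono u hRP
    rwa [cj_eq_of_le_normalizer hHR hu] at this
  exact (le_ncl _ H).trans (le_pCoreOf (hE.trans hT.le) (le_normalizer_ncl _ H) (hT.isPGroup.to_le hE))

/-! ### members of `ℌ_G(O_p(M))` -/

theorem frakH_eq {H P : Subgroup G} (hH : IsInFrakH p M H) (hOP : pCoreOf p M ≤ P) (hPH : P ≤ H)
    (hc : largestPReducedOf p M ≤ pCoreOf p P → largestPReducedOf p M ≤ pCoreOf p H) : P = H := by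
  by_contra hne
  exact hH.2.2.1 (hc (hH.2.2.2 P hOP (lt_of_le_of_ne hPH hne)))

theorem frakH_ncl_eq {H : Subgroup G} (hH : IsInFrakH p M H) : ncl (pCoreOf p M) H = H :=
  frakH_eq hH (le_ncl _ _) (ncl_le_self hH.2.1)
    (fun h => h.trans (pCoreOf_le_of_normal (ncl_le_self hH.2.1) (le_normalizer_ncl _ _)))

theorem frakH_pRes_sup {H : Subgroup G} (hH : IsInFrakH p M H) :
    (pResidual p ↥H).map H.subtype ⊔ pCoreOf p M = H :=
  frakH_eq hH le_sup_right (sup_le (pRes_le H) hH.2.1)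
    (fun h => h.trans (pCoreOf_le_of_pRes_le le_sup_left (sup_le (pRes_le H) hH.2.1)))

theorem frakH_ncl_largest (h : Std p S Q M) {H : Subgroup G} (hH : IsInFrakH p M H) :
    ncl (largestPReducedOf p M) H = (pResidual p ↥H).map H.subtype ⊔ largestPReducedOf p M := by
  have hOH := hH.2.1
  have hYO := h.largest_le
  have hOY := h.isSyl_pCoreOf.le
  set Y := largestPReducedOf p M with hY
  set O := pCoreOf p M with hO
  set R := (pResidual p ↥H).map H.subtype with hR
  set E := ncl Y H with hE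
  have hYH : Y ≤ H := hYO.trans hOH
  have hEH : E ≤ H := ncl_le_self hYH
  have hHE : H ≤ normalizer (E : Set G) := le_normalizer_ncl Y H
  have h1 : E ⊔ O = H := by
    apply frakH_eq hH le_sup_right (sup_le hEH hOH)
    intro h2
    have h3 : Y ≤ pCoreOf p (E ⊔ O) ⊓ E := le_inf h2 (le_ncl Y H)
    exact (h3.trans (pCoreOf_inf_le le_sup_left)).trans (pCoreOf_le_of_normal hEH hHE)
  have h2 : R ≤ E := by
    apply pRes_le_of_forall_pow_mem
    intro g hg
    apply exists_pow_mem_of_mem_sup (T := O) (hOH.trans hHE) (pCoreOf_isPGroup M)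
    rw [sup_comm, h1]; exact hg
  apply le_antisymm _ (sup_le h2 (le_ncl Y H))
  apply ncl_le le_sup_right
  rw [← frakH_pRes_sup hH]
  exact sup_le (le_sup_left.trans le_normalizer)
    (le_normalizer_sup (hOH.trans (le_normalizer_pRes H)) (hOY.trans (centralizer_le_normalizer' Y)))

open scoped commutatorElement in
theorem frakH_commutator (h : Std p S Q M) {H : Subgroup G} (hH : IsInFrakH p M H) :
    ⁅(pResidual p ↥H).map H.subtype, largestPReducedOf p M⁆ = (pResidual p ↥H).map H.subtype := by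
  have hOH := hH.2.1
  have hYO := h.largest_le
  have hOY := h.isSyl_pCoreOf.le
  have hncl := frakH_ncl_largest h hH
  have hsup := frakH_pRes_sup hH
  have hYp : IsPGroup p (largestPReducedOf p M) := (pCoreOf_isPGroup M).to_le hYO
  set Y := largestPReducedOf p M with hY
  set O := pCoreOf p M with hO
  set R := (pResidual p ↥H).map H.subtype with hR
  have hYH : Y ≤ H := hYO.trans hOH
  have hHR : H ≤ normalizer (R : Set G) := le_normalizer_pRes H
  have hOYn : O ≤ normalizer (Y : Set G) := hOY.trans (centralizer_le_normalizer' Y)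
  apply le_antisymm (commutator_le_of_le_normalizer' (hYH.trans hHR))
  set R₁ := ⁅R, Y⁆ with hR₁
  have hHR₁ : H ≤ normalizer (R₁ : Set G) := by
    rw [← hsup]
    exact sup_le (le_normalizer_commutator_self_left _ _)
      (le_normalizer_commutator (hOH.trans hHR) hOYn)
  have hn : H ≤ normalizer ((R₁ ⊔ Y : Subgroup G) : Set G) := by
    conv_lhs => rw [← hsup]
    apply sup_le
    · intro x hx
      rw [← cj_eq_iff_mem_normalizer]
      apply cj_eq_of_le
      rw [cj_sup, cj_eq_of_le_normalizer hHR₁ (pRes_le H hx)]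
      apply sup_le le_sup_left
      rintro _ ⟨y, hy, rfl⟩
      have h2 : ⁅x, y⁆ ∈ R₁ := commutator_mem_commutator hx hy
      have h3 : (MulAut.conj x).toMonoidHom y = ⁅x, y⁆ * y := by
        simp only [commutatorElement_def, MulEquiv.coe_toMonoidHom, MulAut.conj_apply]; group
      rw [h3]
      exact Subgroup.mul_mem _ (le_sup_left (a := R₁) h2) (le_sup_right (b := Y) hy)
    · exact le_normalizer_sup (hOH.trans hHR₁) hOYn
  have h4 : R ≤ Y ⊔ R₁ := by
    rw [sup_comm]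
    exact (le_sup_left.trans hncl.ge).trans (ncl_le le_sup_right hn)
  apply pRes_le_of_forall_pow_mem
  intro g hg
  obtain ⟨a, ha⟩ := exists_pow_mem_pRes (p := p) hg
  obtain ⟨b, hb⟩ := exists_pow_mem_of_mem_sup (hYH.trans hHR₁) hYp (h4 ha)
  exact ⟨a + b, by rw [pow_add, pow_mul]; exact hb⟩

end Cfsg.Agent.Lib.Helper53FrakH
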