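import Cfsg.Agent.Lib.Helper53Min

set_option autoImplicit false

namespace Cfsg.Agent.Lib.Helper53PIrr

open Cfsg Subgroup
open Cfsg.Agent.Lib.Helper53Basic Cfsg.Agent.Lib.Helper53Rel Cfsg.Agent.Lib.Helper53Syl
open Cfsg.Agent.Lib.Helper53Min

variable {p : ℕ}

/-! ### p-closed groups and homomorphisms -/

theorem isPClosed_of_surjective {A B : Type*} [Group A] [Group B] [Finite A] [Fact p.Prime]
    {f : A →* B} (hf : Function.Surjective f) (h : IsPClosed p A) : IsPClosed p B := by
  intro P
  obtain ⟨Q, rfl⟩ := Sylow.mapSurjective_surjective hf p P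
  rw [Sylow.coe_mapSurjective]
  exact (h Q).map f hf

theorem isPClosed_congr {A B : Type*} [Group A] [Group B] [Finite A] [Fact p.Prime]
    (e : A ≃* B) : IsPClosed p A ↔ IsPClosed p B := by
  have : Finite B := Finite.of_equiv A e.toEquiv
  exact ⟨isPClosed_of_surjective (f := e.toMonoidHom) e.surjective,
    isPClosed_of_surjective (f := e.symm.toMonoidHom) e.symm.surjective⟩

theorem isPClosed_iff_of_surjective {A B : Type*} [Group A] [Group B] [Finite A] [Fact p.Prime]
    {f : A →* B} (hf : Function.Surjective f) (hk : IsPGroup p f.ker) :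
    IsPClosed p A ↔ IsPClosed p B := by
  refine ⟨isPClosed_of_surjective hf, ?_⟩
  intro h P
  have h1 : ((P.mapSurjective hf : Sylow p B) : Subgroup B).Normal := h _
  rw [Sylow.coe_mapSurjective] at h1
  have h2 : ((P : Subgroup A).map f).comap f = P := by
    rw [comap_map_eq, sup_eq_left]
    exact hk.le_sylow_of_normal P
  rw [← h2]
  exact h1.comap f

theorem isPClosed_subgroupOf_iff {G : Type*} [Group G] [Finite G] [Fact p.Prime]
    {N H : Subgroup G} (h : N ≤ H) : IsPClosed p ↥(N.subgroupOf H) ↔ IsPClosed p ↥N :=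
  isPClosed_congr (subgroupOfEquivOfLe h)

theorem isPClosed_map_subtype_iff {G : Type*} [Group G] [Finite G] [Fact p.Prime]
    {H : Subgroup G} (N : Subgroup H) : IsPClosed p ↥(N.map H.subtype) ↔ IsPClosed p ↥N :=
  (isPClosed_congr (N.equivMapOfInjective H.subtype H.subtype_injective)).symm

theorem isPClosed_map_iff {A B : Type*} [Group A] [Group B] [Finite A] [Fact p.Prime]
    (f : A →* B) (hk : IsPGroup p f.ker) (N : Subgroup A) :
    IsPClosed p ↥N ↔ IsPClosed p ↥(N.map f) := by
  apply isPClosed_iff_of_surjective (f := f.subgroupMap N) (f.subgroupMap_surjective N)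
  intro x
  have hx : f (x : N) = 1 := by
    have := x.2
    rw [MonoidHom.mem_ker] at this
    simpa using congrArg Subtype.val this
  obtain ⟨k, hk'⟩ := hk ⟨(x : N), hx⟩
  refine ⟨k, ?_⟩
  have h3 : ((x : N) : A) ^ p ^ k = 1 := by simpa using congrArg Subtype.val hk'
  apply Subtype.ext; apply Subtype.ext
  simpa using h3

/-- relative form of p-irreducibility. -/
theorem isPIrreducible_iff {G : Type*} [Group G] [Finite G] [Fact p.Prime] (H : Subgroup G) :
    IsPIrreducible p ↥H ↔ ¬ IsPClosed p ↥H ∧ ∀ N : Subgroup G, N ≤ H →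
      H ≤ normalizer (N : Set G) → ¬ IsPClosed p ↥N → (pResidual p ↥H).map H.subtype ≤ N := by
  unfold IsPIrreducible
  refine and_congr_right fun _ => ⟨?_, ?_⟩
  · intro h N hNH hn hc
    have h1 := h (N.subgroupOf H) ((normal_subgroupOf_iff_le_normalizer hNH).mpr hn)
      (by rwa [isPClosed_subgroupOf_iff hNH])
    rw [map_le_iff_le_comap]
    exact h1
  · intro h N hn hc
    have h1 := h (N.map H.subtype) (map_subtype_le N)
      (by
        rw [← normal_subgroupOf_iff_le_normalizer (map_subtype_le N), subgroupOf_map_subtype']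
        exact hn)
      (by rwa [isPClosed_map_subtype_iff])
    exact (map_le_map_iff_of_injective H.subtype_injective).mp h1

end Cfsg.Agent.Lib.Helper53PIrr
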