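import Cfsg.Agent.Lib.Helper53FrakH
import Cfsg.Agent.Lib.Helper53PIrr

set_option autoImplicit false
set_option linter.unusedSectionVars false
set_option linter.unusedVariables false

namespace Cfsg.Agent.Lib.Helper53FrakH2

open Cfsg Subgroup Cfsg.Agent.Lib.Helper53Basic Cfsg.Agent.Lib.Helper53Rel
open Cfsg.Agent.Lib.Helper53Syl Cfsg.Agent.Lib.Helper53Comm Cfsg.Agent.Lib.Helper53Min
open Cfsg.Agent.Lib.Helper53WC Cfsg.Agent.Lib.Helper53Act Cfsg.Agent.Lib.Helper53CharP
open Cfsg.Agent.Lib.Helper53PRed Cfsg.Agent.Lib.Helper53PRed2 Cfsg.Agent.Lib.Helper53PRed3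
open Cfsg.Agent.Lib.Helper53Large Cfsg.Agent.Lib.Helper53Large2
open Cfsg.Agent.Lib.Helper53FrakM Cfsg.Agent.Lib.Helper53Exist Cfsg.Agent.Lib.Helper53Asym
open Cfsg.Agent.Lib.Helper53FrakH Cfsg.Agent.Lib.Helper53PIrr

variable {G : Type*} [Group G] {p : ℕ}

local notation "⟪" Q ", " g "⟫" => Subgroup.map (MulEquiv.toMonoidHom (MulAut.conj g)) Q

variable [Finite G] [Fact p.Prime] {S : Sylow p G} {Q M : Subgroup G}

/-- normal subgroups of `p`-closed groups are `p`-closed. -/
theorem isPClosed_of_normal_le {N W : Subgroup G} (hNW : N ≤ W) (hn : W ≤ normalizer (N : Set G))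
    (hW : IsPClosed p ↥W) : IsPClosed p ↥N := by
  have h1 := ((isPClosed_iff W).mp hW).inf_normal hNW hn
  apply isPClosed_of_isSyl h1
  exact le_normalizer_inf (hNW.trans (le_normalizer_pCoreOf W)) le_normalizer

/-- `N₂ Q` is `p`-closed if `N₂` is and `Q` is a `p`-group normalized by `N₂`. -/
theorem isPClosed_sup {N₂ D : Subgroup G} (hN₂ : IsPClosed p ↥N₂) (hD : IsPGroup p D)
    (hn : N₂ ≤ normalizer (D : Set G)) : IsPClosed p ↥(N₂ ⊔ D) := by
  have hp : IsPGroup p ↥(pCoreOf p N₂ ⊔ D) :=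
    (pCoreOf_isPGroup N₂).to_sup_of_normal_right' hD ((pCoreOf_le N₂).trans hn)
  obtain ⟨SW, hSW, hle⟩ := exists_isSyl_ge hp (sup_le_sup_right (pCoreOf_le N₂) D)
  have h1 : SW ≤ pCoreOf p N₂ ⊔ D := by
    intro a ha
    have ha' := hSW.le ha
    rw [mem_sup_of_le_normalizer hn] at ha'
    obtain ⟨n, hn', q, hq, rfl⟩ := ha'
    have h2 : n ∈ SW ⊓ N₂ := by
      refine ⟨?_, hn'⟩
      have := SW.mul_mem ha (SW.inv_mem (hle (le_sup_right (a := pCoreOf p N₂) hq)))
      simpa using this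
    exact Subgroup.mul_mem _
      (le_sup_left (a := pCoreOf p N₂)
        (isPGroup_le_pCoreOf_of_isPClosed hN₂ hSW.isPGroup.to_inf_left inf_le_right h2))
      (le_sup_right (a := pCoreOf p N₂) hq)
  have h3 : SW = pCoreOf p N₂ ⊔ D := le_antisymm h1 hle
  apply isPClosed_of_isSyl hSW
  rw [h3]
  exact sup_le (le_normalizer_sup (le_normalizer_pCoreOf N₂) hn) (le_sup_right.trans le_normalizer)

/-- the dichotomy for normal subgroups of `H ∈ ℌ_G(O_p(M))`. -/
theorem frakH_normal (h : Std p S Q M) {H N₂ : Subgroup G} (hH : IsInFrakH p M H) (hNH : N₂ ≤ H)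
    (hn : H ≤ normalizer (N₂ : Set G)) :
    (pResidual p ↥H).map H.subtype ≤ N₂ ∨ IsPClosed p ↥N₂ := by
  have hOH := hH.2.1
  have hYO := h.largest_le
  have hncl := frakH_ncl_largest h hH
  set Y := largestPReducedOf p M with hY
  set O := pCoreOf p M with hO
  set R := (pResidual p ↥H).map H.subtype with hR
  have hYH : Y ≤ H := hYO.trans hOH
  by_cases hc : N₂ ⊔ O = H
  · left
    apply pRes_le_of_forall_pow_mem
    intro g hg
    apply exists_pow_mem_of_mem_sup (T := O) (hOH.trans hn) (pCoreOf_isPGroup M)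
    rw [sup_comm, hc]; exact hg
  · right
    have hlt : N₂ ⊔ O < H := lt_of_le_of_ne (sup_le hNH hOH) hc
    have hYP := hH.2.2.2 _ le_sup_right hlt
    set D := pCoreOf p N₂ with hD
    have hHD : H ≤ normalizer (D : Set G) := hn.trans (normalizer_le_normalizer_pCoreOf N₂)
    have h1 : ⁅N₂, Y⁆ ≤ D := by
      refine le_trans (le_inf ?_ ?_) (pCoreOf_inf_le (p := p) (K := N₂) (L := N₂ ⊔ O) le_sup_left)
      · exact (commutator_mono le_rfl hYP).trans
          (commutator_le_of_le_normalizer (le_sup_left.trans (le_normalizer_pCoreOf _)))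
      · exact commutator_le_of_le_normalizer' (hYH.trans hn)
    have h2 : ncl Y H ≤ commStab N₂ D := by
      apply sSup_le
      rintro X ⟨u, hu, rfl⟩
      have h3 : ⁅N₂, ⟪Y, u⟫⁆ ≤ D := by
        have := cj_mono u h1
        rwa [cj_commutator, cj_eq_of_le_normalizer hn hu, cj_eq_of_le_normalizer hHD hu] at this
      intro x hx
      exact ⟨hHD (cj_le_of_mem hu hYH hx), fun v hv => h3 (commutator_mem_commutator hv hx)⟩
    have h4 : R ≤ commStab N₂ D := (le_sup_left.trans hncl.ge).trans h2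
    obtain ⟨T, hT⟩ := exists_isSyl (p := p) N₂
    apply isPClosed_of_isSyl hT
    rw [← hT.pRes_sup_eq]
    apply sup_le _ le_normalizer
    apply le_normalizer_of_commutator_le
    rw [commutator_comm, commutator_le]
    intro t ht r hr
    exact pCoreOf_le_isSyl hT ((h4 (pRes_mono hNH hr)).2 t (hT.le ht))

end Cfsg.Agent.Lib.Helper53FrakH2
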