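import Cfsg.Agent.Lib.Helper53Large

set_option autoImplicit false

namespace Cfsg.Agent.Lib.Helper53Large2

open Cfsg Subgroup Cfsg.Agent.Lib.Helper53Basic Cfsg.Agent.Lib.Helper53Rel
open Cfsg.Agent.Lib.Helper53Syl Cfsg.Agent.Lib.Helper53Comm Cfsg.Agent.Lib.Helper53Min
open Cfsg.Agent.Lib.Helper53WC Cfsg.Agent.Lib.Helper53Act Cfsg.Agent.Lib.Helper53CharP
open Cfsg.Agent.Lib.Helper53Large
open scoped commutatorElement

variable {G : Type*} [Group G] {p : ℕ}

local notation "⟪" Q ", " g "⟫" => Subgroup.map (MulEquiv.toMonoidHom (MulAut.conj g)) Q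

theorem pCore_ne_bot_iff (L : Subgroup G) : pCore p ↥L ≠ ⊥ ↔ pCoreOf p L ≠ ⊥ := by
  unfold pCoreOf
  rw [Ne, Ne, Subgroup.map_eq_bot_iff_of_injective _ L.subtype_injective]

theorem centralizer_singleton_le_centralizer_zpowers (y : G) :
    centralizer ({y} : Set G) ≤ centralizer ((zpowers y : Subgroup G) : Set G) := by
  rw [le_centralizer_iff, zpowers_le, mem_centralizer_iff]
  intro h hh
  exact mem_centralizer_singleton_iff.mp hh

theorem IsLarge.centralizer_le_normalizer {Q : Subgroup G} (h : IsLarge Q) {y : G} (hy1 : y ≠ 1)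
    (hy : y ∈ centralizer (Q : Set G)) : centralizer ({y} : Set G) ≤ normalizer (Q : Set G) := by
  have h1 : zpowers y ≤ centralizer (Q : Set G) := by rwa [zpowers_le]
  have h2 : zpowers y ≠ ⊥ := by rwa [Ne, zpowers_eq_bot]
  exact ((centralizer_singleton_le_centralizer_zpowers y).trans
    (centralizer_le_normalizer' _)).trans (h.2 _ h1 h2)

theorem IsLarge.main [Finite G] [Fact p.Prime] {Q L : Subgroup G} (hQ : IsPGroup p Q)
    (hQ1 : Q ≠ ⊥) (h : IsLarge Q) (hQL : Q ≤ L) (hL : pCoreOf p L ≠ ⊥) :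
    centralizer (pCoreOf p L : Set G) ≤ normalizer (Q : Set G) ∧
    ⁅Q, centralizer (pCoreOf p L : Set G)⁆ ≤ Q ⊓ pCoreOf p L ∧
    IsPGroup p ↥(centralizer (pCoreOf p L : Set G)) ∧ CharP p L := by
  obtain ⟨y, hy1, hy⟩ := exists_ne_one_mem_inf_centralizer hQ (pCoreOf_isPGroup L) hL
    (hQL.trans (le_normalizer_pCoreOf L))
  have hyQ := inf_le_right (a := pCoreOf p L) hy
  apply wc_charP_main' hQ (IsLarge.wc hQ1 h) h.1 hQL hy
  apply charP_of_le (Q := Q) _ (IsLarge.centralizer_le_normalizer h hy1 hyQ) hQ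
    (inf_le_right.trans h.1)
  intro q hq
  rw [mem_centralizer_singleton_iff]
  exact (mem_centralizer_iff.mp hyQ) q hq

/-! ### weak closure -/

theorem le_weakClosure {Q L : Subgroup G} {g : G} (h : ⟪Q, g⟫ ≤ L) : ⟪Q, g⟫ ≤ weakClosure Q L :=
  le_iSup (fun g : {g : G // ⟪Q, g⟫ ≤ L} => ⟪Q, (g : G)⟫) ⟨g, h⟩

theorem self_le_weakClosure {Q L : Subgroup G} (h : Q ≤ L) : Q ≤ weakClosure Q L := by
  have h1 : ⟪Q, (1 : G)⟫ ≤ L := by rw [cj_one]; exact h
  have := le_weakClosure h1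
  rwa [cj_one] at this

theorem weakClosure_le (Q L : Subgroup G) : weakClosure Q L ≤ L :=
  iSup_le fun g => g.2

theorem weakClosure_le_iff {Q L K : Subgroup G} :
    weakClosure Q L ≤ K ↔ ∀ g : G, ⟪Q, g⟫ ≤ L → ⟪Q, g⟫ ≤ K := by
  constructor
  · intro h g hg; exact (le_weakClosure hg).trans h
  · intro h; exact iSup_le fun g => h g g.2

theorem weakClosure_mono {Q L K : Subgroup G} (h : L ≤ K) : weakClosure Q L ≤ weakClosure Q K :=
  weakClosure_le_iff.mpr fun _ hg => le_weakClosure (hg.trans h)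

theorem weakClosure_cj (Q L : Subgroup G) (x : G) :
    ⟪weakClosure Q L, x⟫ = weakClosure Q ⟪L, x⟫ := by
  apply le_antisymm
  · rw [cj_le_iff, weakClosure_le_iff]
    intro g hg
    rw [← cj_le_iff, cj_cj]
    apply le_weakClosure
    rw [← cj_cj]; exact cj_mono x hg
  · rw [weakClosure_le_iff]
    intro g hg
    have h1 : ⟪Q, x⁻¹ * g⟫ ≤ L := by rw [← cj_cj, cj_le_iff, inv_inv]; exact hg
    have h2 := cj_mono x (le_weakClosure h1)
    rwa [cj_cj, mul_inv_cancel_left] at h2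

theorem normalizer_le_normalizer_weakClosure (Q L : Subgroup G) :
    normalizer (L : Set G) ≤ normalizer ((weakClosure Q L : Subgroup G) : Set G) := by
  intro x hx
  rw [← cj_eq_iff_mem_normalizer, weakClosure_cj, cj_eq_iff_mem_normalizer.mpr hx]

theorem le_normalizer_weakClosure (Q L : Subgroup G) :
    L ≤ normalizer ((weakClosure Q L : Subgroup G) : Set G) :=
  le_normalizer.trans (normalizer_le_normalizer_weakClosure Q L)

end Cfsg.Agent.Lib.Helper53Large2
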