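import Cfsg.Agent.Lib.Helper53PRed3
import Cfsg.Agent.Lib.Helper53Large2

set_option autoImplicit false

namespace Cfsg.Agent.Lib.Helper53FrakM

open Cfsg Subgroup Cfsg.Agent.Lib.Helper53Basic Cfsg.Agent.Lib.Helper53Rel
open Cfsg.Agent.Lib.Helper53Syl Cfsg.Agent.Lib.Helper53Comm Cfsg.Agent.Lib.Helper53Min
open Cfsg.Agent.Lib.Helper53WC Cfsg.Agent.Lib.Helper53Act Cfsg.Agent.Lib.Helper53CharP
open Cfsg.Agent.Lib.Helper53PRed Cfsg.Agent.Lib.Helper53PRed2 Cfsg.Agent.Lib.Helper53PRed3
open Cfsg.Agent.Lib.Helper53Large Cfsg.Agent.Lib.Helper53Large2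
open scoped commutatorElement

variable {G : Type*} [Group G] {p : ℕ}

local notation "⟪" Q ", " g "⟫" => Subgroup.map (MulEquiv.toMonoidHom (MulAut.conj g)) Q

theorem mem_charPSubgroups_iff {L : Subgroup G} :
    L ∈ charPSubgroups p G ↔
      pCoreOf p L ≠ ⊥ ∧ centralizer (pCoreOf p L : Set G) ≤ pCoreOf p L := by
  unfold charPSubgroups
  rw [Set.mem_ofPred_eq, pCore_ne_bot_iff]
  rfl

theorem charP_of_mem {L : Subgroup G} (h : L ∈ charPSubgroups p G) : CharP p L :=
  inf_le_right.trans (mem_charPSubgroups_iff.mp h).2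

/-- `M† ≤ N(Y_M)`. -/
theorem dagger_le_normalizer [Finite G] (M : Subgroup G) :
    M ⊔ centralizer (largestPReducedOf p M : Set G) ≤
      normalizer (largestPReducedOf p M : Set G) :=
  sup_le (pRed_largest M).2.1 (centralizer_le_normalizer' _)

/-- if `C_M(Y_M)` is `p`-closed then `O_p(M) = C_S(Y_M)`. -/
theorem pCoreOf_eq_inf_centralizer [Finite G] [Fact p.Prime] {S M : Subgroup G} (hS : IsSyl p S M)
    (hcl : IsPClosed p ↥(M ⊓ centralizer (largestPReducedOf p M : Set G))) :
    pCoreOf p M = S ⊓ centralizer (largestPReducedOf p M : Set G) := by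
  have hY := pRed_largest (p := p) M
  set Y := largestPReducedOf p M with hYdef
  set C := centralizer (Y : Set G) with hC
  have hMC : M ≤ normalizer (C : Set G) := le_normalizer_centralizer hY.2.1
  have hn : M ≤ normalizer ((M ⊓ C : Subgroup G) : Set G) := le_normalizer_inf le_normalizer hMC
  apply le_antisymm
  · exact le_inf (pCoreOf_le_isSyl hS) (PRed.pCoreOf_le_centralizer hY)
  · have h1 := hS.inf_normal (N := M ⊓ C) inf_le_left hn
    rw [← inf_assoc, inf_eq_left.mpr hS.le] at h1
    rw [h1.eq_pCoreOf_of_isPClosed hcl]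
    exact pCoreOf_le_of_normal inf_le_left hn

theorem isSyl_inf_centralizer [Finite G] [Fact p.Prime] {M : Subgroup G} (S : Sylow p G)
    (hSM : (S : Subgroup G) ≤ M) :
    IsSyl p ((S : Subgroup G) ⊓ centralizer (largestPReducedOf p M : Set G))
      (centralizer (largestPReducedOf p M : Set G)) := by
  have hY := pRed_largest (p := p) M
  have h1 : IsSyl p (S : Subgroup G) (normalizer (largestPReducedOf p M : Set G)) :=
    isSyl_of_sylow_le S (hSM.trans hY.2.1)
  exact h1.inf_normal (centralizer_le_normalizer' _) (le_normalizer_centralizer le_rfl)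

theorem frakM_isPClosed {M : Subgroup G} (hM : IsInFrakM p M) :
    IsPClosed p ↥(M ⊓ centralizer (largestPReducedOf p M : Set G)) := by
  unfold IsInFrakM at hM
  exact hM.2.2.2.2.1

theorem frakM_mem {M : Subgroup G} (hM : IsInFrakM p M) : M ∈ charPSubgroups p G := by
  unfold IsInFrakM at hM
  exact hM.1

theorem frakM_isSyl_pCoreOf [Finite G] [Fact p.Prime] {M : Subgroup G} (S : Sylow p G)
    (hSM : (S : Subgroup G) ≤ M) (hM : IsInFrakM p M) :
    IsSyl p (pCoreOf p M) (centralizer (largestPReducedOf p M : Set G)) := by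
  have h5 := frakM_isPClosed hM
  have h6 := pCoreOf_eq_inf_centralizer (isSyl_of_sylow_le S hSM) h5
  have h7 := isSyl_inf_centralizer S hSM
  rw [← h6] at h7
  exact h7

theorem frakM_largest_eq_omZ [Finite G] [Fact p.Prime] {M : Subgroup G} (S : Sylow p G)
    (hSM : (S : Subgroup G) ≤ M) (hM : IsInFrakM p M) :
    largestPReducedOf p M = omZ p (pCoreOf p M) := by
  have h5 := frakM_isPClosed hM
  have h6 := pCoreOf_eq_inf_centralizer (isSyl_of_sylow_le S hSM) h5
  have h7 := largest_eq_omZ (charP_of_mem (frakM_mem hM)) (isSyl_of_sylow_le S hSM)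
  rw [← h6] at h7
  exact h7

/-- `O_p(M)` is weakly closed in `M†`. -/
theorem frakM_wc [Finite G] [Fact p.Prime] {M : Subgroup G} (S : Sylow p G)
    (hSM : (S : Subgroup G) ≤ M) (hM : IsInFrakM p M) :
    WC p (pCoreOf p M) (normalizer (largestPReducedOf p M : Set G)) := by
  have hO := frakM_isSyl_pCoreOf S hSM hM
  intro g hg hP
  have h1 : ⟪pCoreOf p M, g⟫ ≤ centralizer (largestPReducedOf p M : Set G) := by
    have := cj_mono g hO.le
    rwa [cj_eq_of_le_normalizer (le_normalizer_centralizer le_rfl) hg] at this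
  have h2 := hO.eq_of_le hP (sup_le hO.le h1) le_sup_left
  apply cj_eq_of_le
  exact le_sup_right.trans h2.le

end Cfsg.Agent.Lib.Helper53FrakM
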