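import Cfsg.Agent.Lib.Helper53Min

set_option autoImplicit false
set_option linter.unusedSectionVars false

namespace Cfsg.Agent.Lib.Helper53LLemma

open Cfsg Subgroup
open Cfsg.Agent.Lib.Helper53Basic Cfsg.Agent.Lib.Helper53Rel Cfsg.Agent.Lib.Helper53Syl
open Cfsg.Agent.Lib.Helper53Min

variable {G : Type*} [Group G] {p : ℕ}

local notation "⟪" Q ", " g "⟫" => Subgroup.map (MulEquiv.toMonoidHom (MulAut.conj g)) Q

theorem cj_lt_of_mem {M H : Subgroup G} {k : G} (hk : k ∈ H) (h : M < H) : ⟪M, k⟫ < H := by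
  refine lt_of_le_of_ne (cj_le_of_mem hk h.le) ?_
  intro he
  apply h.ne
  have h1 : ⟪⟪M, k⟫, k⁻¹⟫ = ⟪H, k⁻¹⟫ := by rw [he]
  rwa [cj_inv_cj, cj_eq_of_mem (H.inv_mem hk)] at h1

/-- relative form of "`H` is `T`-minimal with maximal subgroup `M`". -/
structure MinSet (p : ℕ) (H T M : Subgroup G) : Prop where
  syl : IsSyl p T H
  le : T ≤ M
  lt : M < H
  max : ∀ X : Subgroup G, T ≤ X → X < H → X ≤ M
  nn : ¬ H ≤ normalizer (M : Set G)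

variable [Finite G] [Fact p.Prime] {H T M : Subgroup G}

theorem MinSet.uniq_syl (hs : MinSet p H T M) {g g' : G} (hg : g ∈ H) (hg' : g' ∈ H)
    (h : ⟪T, g⟫ ≤ ⟪M, g'⟫) : ⟪M, g'⟫ = ⟪M, g⟫ := by
  rw [cj_le_iff, cj_cj] at h
  have h1 : ⟪M, g⁻¹ * g'⟫ < H := cj_lt_of_mem (H.mul_mem (H.inv_mem hg) hg') hs.lt
  have h2 := cj_eq_of_le (hs.max _ h h1)
  have h3 : ⟪⟪M, g⁻¹ * g'⟫, g⟫ = ⟪M, g⟫ := by rw [h2]
  rwa [cj_cj, mul_inv_cancel_left] at h3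

theorem MinSet.mem_of_cj_eq (hs : MinSet p H T M) {x : G} (hx : x ∈ H) (h : ⟪M, x⟫ = M) :
    x ∈ M := by
  have h1 : H ⊓ normalizer (M : Set G) < H := by
    refine lt_of_le_of_ne inf_le_left ?_
    intro he
    exact hs.nn (inf_eq_left.mp he)
  exact hs.max _ (le_inf hs.syl.le (hs.le.trans le_normalizer)) h1
    ⟨hx, cj_eq_iff_mem_normalizer.mp h⟩

theorem MinSet.mem_of_cj_eq' (hs : MinSet p H T M) {x g : G} (hx : x ∈ H) (hg : g ∈ H)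
    (h : ⟪⟪M, g⟫, x⟫ = ⟪M, g⟫) : x ∈ ⟪M, g⟫ := by
  rw [mem_cj]
  apply hs.mem_of_cj_eq (H.mul_mem (H.mul_mem (H.inv_mem hg) hx) hg)
  have h1 : ⟪⟪⟪M, g⟫, x⟫, g⁻¹⟫ = ⟪⟪M, g⟫, g⁻¹⟫ := by rw [h]
  rwa [cj_inv_cj, cj_cj, cj_cj] at h1

theorem MinSet.exists_syl (hs : MinSet p H T M) {R : Subgroup G} (hR : IsPGroup p R) {g : G}
    (hg : g ∈ H) (h : R ≤ ⟪M, g⟫) : ∃ k ∈ H, R ≤ ⟪T, k⟫ ∧ ⟪T, k⟫ ≤ ⟪M, g⟫ := by
  have h1 : IsSyl p ⟪T, g⟫ ⟪M, g⟫ :=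
    (hs.syl.cj_mem hg).mono (cj_mono g hs.le) (cj_le_of_mem hg hs.lt.le)
  obtain ⟨m, hm, hle⟩ := h1.exists_le_cj hR h
  rw [cj_cj] at hle
  refine ⟨m * g, H.mul_mem (cj_le_of_mem hg hs.lt.le hm) hg, hle, ?_⟩
  rw [← cj_cj]
  exact cj_le_of_mem hm h1.le

theorem MinSet.exists_fix (hs : MinSet p H T M) {R : Subgroup G} (hR : IsPGroup p R)
    (hRH : R ≤ H) : ∃ g ∈ H, R ≤ ⟪M, g⟫ := by
  obtain ⟨g, hg, h⟩ := hs.syl.exists_le_cj hR hRH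
  exact ⟨g, hg, h.trans (cj_mono g hs.le)⟩

/-- a `p`-subgroup `R`, not in `O_p(H)`, such that every proper subgroup containing a strictly
larger `p`-subgroup lies in a conjugate of `M`, lies in exactly one conjugate of `M`. -/
theorem MinSet.uniq_fix (hs : MinSet p H T M) {R : Subgroup G}
    (hRO : ¬ R ≤ pCoreOf p H)
    (hΦ : ∀ R' X : Subgroup G, IsPGroup p R' → R < R' → R' ≤ X → X < H → ∃ g ∈ H, X ≤ ⟪M, g⟫) :
    ∀ g₁ ∈ H, ∀ g₂ ∈ H, R ≤ ⟪M, g₁⟫ → R ≤ ⟪M, g₂⟫ → IsPGroup p R → ⟪M, g₁⟫ = ⟪M, g₂⟫ := by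
  intro a₁ ha₁ a₂ ha₂ hRa₁ hRa₂ hR
  by_contra hne
  let 𝒮 : Set (Subgroup G) := {R₂ | IsPGroup p R₂ ∧ R ≤ R₂ ∧ ∃ g₁ ∈ H, ∃ g₂ ∈ H,
    R₂ ≤ ⟪M, g₁⟫ ∧ R₂ ≤ ⟪M, g₂⟫ ∧ ⟪M, g₁⟫ ≠ ⟪M, g₂⟫}
  have hne𝒮 : 𝒮.Nonempty := ⟨R, hR, le_rfl, a₁, ha₁, a₂, ha₂, hRa₁, hRa₂, hne⟩
  obtain ⟨R₂, ⟨hR₂p, hRR₂, g₁, hg₁, g₂, hg₂, h1, h2, h12⟩, hmax⟩ :=
    (Set.toFinite 𝒮).exists_maximal hne𝒮
  have hR₂H : R₂ ≤ H := h1.trans (cj_le_of_mem hg₁ hs.lt.le)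
  -- the normalizer is proper
  have hN : H ⊓ normalizer (R₂ : Set G) < H := by
    refine lt_of_le_of_ne inf_le_left ?_
    intro he
    exact hRO (hRR₂.trans (le_pCoreOf hR₂H (inf_eq_left.mp he) hR₂p))
  -- key: in each of the two conjugates there is a bigger p-subgroup normalizing `R₂`
  have key : ∀ g ∈ H, R₂ ≤ ⟪M, g⟫ → ∃ R₃ : Subgroup G, IsPGroup p R₃ ∧ R₂ < R₃ ∧ R₃ ≤ ⟪M, g⟫ ∧
      R₃ ≤ H ⊓ normalizer (R₂ : Set G) := by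
    intro g hg hle
    obtain ⟨k, hk, hRk, hkM⟩ := hs.exists_syl hR₂p hg hle
    have hlt : R₂ < ⟪T, k⟫ := by
      refine lt_of_le_of_ne hRk ?_
      intro he
      apply h12
      rw [he] at h1 h2
      rw [hs.uniq_syl hk hg₁ h1, hs.uniq_syl hk hg₂ h2]
    have hTk : IsPGroup p ⟪T, k⟫ := isPGroup_cj hs.syl.isPGroup k
    refine ⟨_, hTk.to_inf_left, isPGroup_lt_normalizer_inf hTk hlt, inf_le_left.trans hkM,
      inf_le_inf_right _ (cj_le_of_mem hk hs.syl.le)⟩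
  obtain ⟨R₃, hR₃p, hlt₃, hR₃M, hR₃N⟩ := key g₁ hg₁ h1
  obtain ⟨R₄, hR₄p, hlt₄, hR₄M, hR₄N⟩ := key g₂ hg₂ h2
  obtain ⟨g₃, hg₃, hN₃⟩ := hΦ R₃ _ hR₃p (lt_of_le_of_lt hRR₂ hlt₃) hR₃N hN
  have e1 : ⟪M, g₁⟫ = ⟪M, g₃⟫ := by
    by_contra hc
    have : R₃ ∈ 𝒮 := ⟨hR₃p, hRR₂.trans hlt₃.le, g₁, hg₁, g₃, hg₃, hR₃M, hR₃N.trans hN₃, hc⟩
    exact absurd (hmax this hlt₃.le) (not_le_of_gt hlt₃)
  have e2 : ⟪M, g₂⟫ = ⟪M, g₃⟫ := by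
    by_contra hc
    have : R₄ ∈ 𝒮 := ⟨hR₄p, hRR₂.trans hlt₄.le, g₂, hg₂, g₃, hg₃, hR₄M, hR₄N.trans hN₃, hc⟩
    exact absurd (hmax this hlt₄.le) (not_le_of_gt hlt₄)
  exact h12 (e1.trans e2.symm)


/-- the conclusion of the L-lemma, in relative form. -/
def Concl (p : ℕ) (H M A : Subgroup G) : Prop :=
  ∃ L : Subgroup G, L ≤ H ∧ A ⊔ pCoreOf p H ≤ L ∧ ∃ L₀ : Subgroup G, A ⊔ pCoreOf p L ≤ L₀ ∧ L₀ < L ∧
    (∀ X : Subgroup G, A ⊔ pCoreOf p L ≤ X → X < L → X ≤ L₀) ∧ (∃ g ∈ H, L₀ = L ⊓ ⟪M, g⟫) ∧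
    ∀ x ∈ L, x ∉ L₀ → (A ⊔ ⟪A, x⟫) ⊔ pCoreOf p L = L

theorem cj_lt_cj {A B : Subgroup G} (k : G) (h : A < B) : ⟪A, k⟫ < ⟪B, k⟫ := by
  refine lt_of_le_of_ne (cj_mono k h.le) ?_
  intro he
  apply h.ne
  have h1 : ⟪⟪A, k⟫, k⁻¹⟫ = ⟪⟪B, k⟫, k⁻¹⟫ := by rw [he]
  rwa [cj_inv_cj, cj_inv_cj] at h1

theorem concl_cj {A : Subgroup G} {h : G} (hh : h ∈ H) (hc : Concl p H M ⟪A, h⟫) :
    Concl p H M A := by
  obtain ⟨L, hLH, hAL, L₀, hAL₀, hlt, huniq, ⟨g, hg, hL₀⟩, hb⟩ := hc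
  have hh' : h⁻¹ ∈ H := H.inv_mem hh
  refine ⟨⟪L, h⁻¹⟫, cj_le_of_mem hh' hLH, ?_, ⟪L₀, h⁻¹⟫, ?_, cj_lt_cj _ hlt, ?_,
    ⟨h⁻¹ * g, H.mul_mem hh' hg, ?_⟩, ?_⟩
  · rw [← cj_le_iff, cj_sup, cj_eq_of_le_normalizer (le_normalizer_pCoreOf H) hh]
    exact hAL
  · rw [pCoreOf_cj, ← cj_le_iff, cj_sup, cj_cj_inv]
    exact hAL₀
  · intro X hX hXlt
    rw [← cj_le_iff]
    apply huniq
    · rw [pCoreOf_cj] at hX
      have := cj_mono h hX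
      rwa [cj_sup, cj_cj_inv] at this
    · have := cj_lt_cj h hXlt
      rwa [cj_cj_inv] at this
  · rw [hL₀, cj_inf, cj_cj]
  · intro x hx hxn
    rw [mem_cj, inv_inv] at hx hxn
    have h1 := hb _ hx hxn
    have h2 : ⟪(⟪A, h⟫ ⊔ ⟪⟪A, h⟫, h * x * h⁻¹⟫) ⊔ pCoreOf p L, h⁻¹⟫ = ⟪L, h⁻¹⟫ := by rw [h1]
    rw [cj_sup, cj_sup, cj_inv_cj, cj_cj, cj_cj, ← pCoreOf_cj] at h2
    have h3 : h⁻¹ * (h * x * h⁻¹) * h = x := by group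
    rwa [h3] at h2

theorem main_aux : ∀ (H T M A : Subgroup G), MinSet p H T M → A ≤ H → IsPGroup p A →
    ¬ A ≤ pCoreOf p H → Concl p H M A := by
  intro H
  induction H using WellFoundedLT.induction with
  | ind H ih =>
  intro T M A hs hAH hA hAO
  set A₀ := A ⊔ pCoreOf p H with hA₀
  have hA₀p : IsPGroup p A₀ :=
    hA.to_sup_of_normal_right' (pCoreOf_isPGroup H) (hAH.trans (le_normalizer_pCoreOf H))
  have hA₀H : A₀ ≤ H := sup_le hAH (pCoreOf_le H)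
  have hA₀O : ¬ A₀ ≤ pCoreOf p H := fun h => hAO (le_sup_left.trans h)
  by_cases hcase : ∀ X : Subgroup G, A₀ ≤ X → X < H → ∃ g ∈ H, X ≤ ⟪M, g⟫
  · -- Case I
    have huniq := hs.uniq_fix hA₀O (fun R' X _ hlt hle hX => hcase X (hlt.le.trans hle) hX)
    obtain ⟨g, hg, hAg⟩ := hs.exists_fix hA₀p hA₀H
    refine ⟨H, le_rfl, hA₀H, ⟪M, g⟫, hAg, cj_lt_of_mem hg hs.lt, ?_,
      ⟨g, hg, (inf_eq_right.mpr (cj_le_of_mem hg hs.lt.le)).symm⟩, ?_⟩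
    · intro X hX hlt
      obtain ⟨g', hg', hXg'⟩ := hcase X hX hlt
      rw [huniq g hg g' hg' hAg (hX.trans hXg') hA₀p]
      exact hXg'
    · intro x hx hxn
      by_contra hne
      have hle : (A ⊔ ⟪A, x⟫) ⊔ pCoreOf p H ≤ H :=
        sup_le (sup_le hAH (cj_le_of_mem hx hAH)) (pCoreOf_le H)
      have hlt := lt_of_le_of_ne hle hne
      have hA₀X : A₀ ≤ (A ⊔ ⟪A, x⟫) ⊔ pCoreOf p H :=
        sup_le (le_sup_left.trans le_sup_left) le_sup_right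
      obtain ⟨g', hg', hXg'⟩ := hcase _ hA₀X hlt
      have e1 : ⟪M, g⟫ = ⟪M, g'⟫ := huniq g hg g' hg' hAg (hA₀X.trans hXg') hA₀p
      have h3 : ⟪A₀, x⟫ ≤ ⟪M, g⟫ := by
        rw [hA₀, cj_sup, cj_eq_of_le_normalizer (le_normalizer_pCoreOf H) hx, e1]
        exact sup_le ((le_sup_right.trans le_sup_left).trans hXg') (le_sup_right.trans hXg')
      rw [cj_le_iff, cj_cj] at h3
      have e2 := huniq g hg (x⁻¹ * g) (H.mul_mem (H.inv_mem hx) hg) hAg h3 hA₀p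
      apply hxn
      apply hs.mem_of_cj_eq' hx hg
      conv_lhs => rw [e2, cj_cj, mul_inv_cancel_left]
  · -- Case II
    push Not at hcase
    obtain ⟨X₀, hX₀A, hX₀H, hX₀f⟩ := hcase
    let 𝒯 : Set (Subgroup G) := {R | IsPGroup p R ∧ A₀ ≤ R ∧ ∃ X : Subgroup G, R ≤ X ∧ X < H ∧
      ∀ g ∈ H, ¬ X ≤ ⟪M, g⟫}
    obtain ⟨T₀, ⟨hT₀p, hA₀T₀, X₁, hT₀X₁, hX₁H, hX₁f⟩, hmax⟩ :=
      (Set.toFinite 𝒯).exists_maximal ⟨A₀, hA₀p, le_rfl, X₀, hX₀A, hX₀H, hX₀f⟩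
    let 𝒳 : Set (Subgroup G) := {X | T₀ ≤ X ∧ X < H ∧ ∀ g ∈ H, ¬ X ≤ ⟪M, g⟫}
    obtain ⟨L₁, ⟨hT₀L₁, hL₁H, hL₁f⟩, hmin⟩ :=
      (Set.toFinite 𝒳).exists_minimal ⟨X₁, hT₀X₁, hX₁H, hX₁f⟩
    have hT₀H : T₀ ≤ H := hT₀L₁.trans hL₁H.le
    have hT₀O : ¬ T₀ ≤ pCoreOf p H := fun h => hA₀O (hA₀T₀.trans h)
    have hΦ : ∀ R' X : Subgroup G, IsPGroup p R' → T₀ < R' → R' ≤ X → X < H →
        ∃ g ∈ H, X ≤ ⟪M, g⟫ := by
      intro R' X hR' hlt hle hX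
      by_contra hc
      push Not at hc
      have : R' ∈ 𝒯 := ⟨hR', hA₀T₀.trans hlt.le, X, hle, hX, hc⟩
      exact absurd (hmax this hlt.le) (not_le_of_gt hlt)
    have huniq := hs.uniq_fix hT₀O hΦ
    obtain ⟨g, hg, hTg⟩ := hs.exists_fix hT₀p hT₀H
    have hs₁ : MinSet p L₁ T₀ (L₁ ⊓ ⟪M, g⟫) := by
      refine ⟨?_, le_inf hT₀L₁ hTg, ?_, ?_, ?_⟩
      · obtain ⟨S, hS, hT₀S⟩ := exists_isSyl_ge hT₀p hT₀L₁
        have : S ∈ 𝒯 := ⟨hS.isPGroup, hA₀T₀.trans hT₀S, L₁, hS.le, hL₁H, hL₁f⟩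
        rw [le_antisymm hT₀S (hmax this hT₀S)]
        exact hS
      · refine lt_of_le_of_ne inf_le_left ?_
        intro he
        exact hL₁f g hg (inf_eq_left.mp he)
      · intro X hX hlt
        have : ∃ g' ∈ H, X ≤ ⟪M, g'⟫ := by
          by_contra hc
          push Not at hc
          have : X ∈ 𝒳 := ⟨hX, hlt.trans hL₁H, hc⟩
          exact absurd (hmin this hlt.le) (not_le_of_gt hlt)
        obtain ⟨g', hg', hXg'⟩ := this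
        rw [huniq g hg g' hg' hTg (hX.trans hXg') hT₀p]
        exact le_inf hlt.le hXg'
      · intro hn
        apply hL₁f g hg
        intro l hl
        have hlH : l ∈ H := hL₁H.le hl
        apply hs.mem_of_cj_eq' hlH hg
        have h1 : T₀ ≤ ⟪L₁ ⊓ ⟪M, g⟫, l⟫ := by
          rw [cj_eq_of_le_normalizer hn hl]
          exact le_inf hT₀L₁ hTg
        have h2 : T₀ ≤ ⟪M, l * g⟫ := by
          rw [← cj_cj]
          exact h1.trans (cj_mono l inf_le_right)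
        rw [cj_cj]
        exact (huniq g hg (l * g) (H.mul_mem hlH hg) hTg h2 hT₀p).symm
    -- a bigger p-subgroup normalizing `T₀`
    obtain ⟨T', hT'p, hT'lt, hT'H, hT'N⟩ : ∃ T' : Subgroup G, IsPGroup p T' ∧ T₀ < T' ∧ T' ≤ H ∧
        T' ≤ normalizer (T₀ : Set G) := by
      obtain ⟨k, hk, hT₀k⟩ := hs.syl.exists_le_cj hT₀p hT₀H
      have hlt : T₀ < ⟪T, k⟫ := by
        refine lt_of_le_of_ne hT₀k ?_
        intro he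
        apply hL₁f k hk
        rw [he, cj_le_iff] at hT₀L₁
        rw [← inv_inv k, ← cj_le_iff]
        exact hs.max _ hT₀L₁ (cj_lt_of_mem (H.inv_mem hk) hL₁H)
      have hTk : IsPGroup p ⟪T, k⟫ := isPGroup_cj hs.syl.isPGroup k
      exact ⟨_, hTk.to_inf_left, isPGroup_lt_normalizer_inf hTk hlt,
        inf_le_left.trans (cj_le_of_mem hk hs.syl.le), inf_le_right⟩
    -- some conjugate of `A` in `T₀` is not in `O_p(L₁)`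
    obtain ⟨h, hh, hAh, hAhO⟩ : ∃ h ∈ H, ⟪A, h⟫ ≤ T₀ ∧ ¬ ⟪A, h⟫ ≤ pCoreOf p L₁ := by
      by_contra hall
      push Not at hall
      set W : Subgroup G := sSup {B | ∃ h ∈ H, B = ⟪A, h⟫ ∧ B ≤ T₀} with hW
      have hWT₀ : W ≤ T₀ := sSup_le (fun B hB => hB.choose_spec.2.2)
      have hAW : A ≤ W :=
        le_sSup ⟨1, H.one_mem, (cj_one A).symm, le_sup_left.trans hA₀T₀⟩
      have hnorm : ∀ x ∈ H, (∀ h ∈ H, ⟪A, h⟫ ≤ T₀ → ⟪A, x * h⟫ ≤ T₀) →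
          x ∈ normalizer (W : Set G) := by
        intro x hx hxx
        rw [← cj_eq_iff_mem_normalizer]
        apply cj_eq_of_le
        rw [cj_le_iff]
        apply sSup_le
        rintro B ⟨h, hh, rfl, hB⟩
        rw [← cj_le_iff, cj_cj]
        exact le_sSup ⟨x * h, H.mul_mem hx hh, rfl, hxx h hh hB⟩
      have hL₁X : L₁ ≤ H ⊓ normalizer (W : Set G) := by
        intro l hl
        refine ⟨hL₁H.le hl, hnorm l (hL₁H.le hl) ?_⟩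
        intro h hh hB
        have h1 := cj_mono l (hall h hh hB)
        rw [cj_cj, cj_eq_of_le_normalizer (le_normalizer_pCoreOf L₁) hl] at h1
        exact h1.trans (pCoreOf_le_isSyl hs₁.syl)
      have hT'X : T' ≤ H ⊓ normalizer (W : Set G) := by
        intro t ht
        refine ⟨hT'H ht, hnorm t (hT'H ht) ?_⟩
        intro h hh hB
        have h1 := cj_mono t hB
        rwa [cj_cj, cj_eq_of_le_normalizer hT'N ht] at h1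
      have hXH : H ⊓ normalizer (W : Set G) < H := by
        refine lt_of_le_of_ne inf_le_left ?_
        intro he
        exact hAO (hAW.trans (le_pCoreOf (hWT₀.trans hT₀H) (inf_eq_left.mp he) (hT₀p.to_le hWT₀)))
      have : T' ∈ 𝒯 := ⟨hT'p, hA₀T₀.trans hT'lt.le, _, hT'X, hXH,
        fun g hg hle => hL₁f g hg (hL₁X.trans hle)⟩
      exact absurd (hmax this hT'lt.le) (not_le_of_gt hT'lt)
    apply concl_cj hh
    obtain ⟨L, hLL₁, hAL, L₀, hAL₀, hlt, hu, ⟨k, hk, hL₀⟩, hb⟩ :=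
      ih L₁ hL₁H T₀ _ ⟪A, h⟫ hs₁ (hAh.trans hT₀L₁) (isPGroup_cj hA h) hAhO
    refine ⟨L, hLL₁.trans hL₁H.le, ?_, L₀, hAL₀, hlt, hu,
      ⟨k * g, H.mul_mem (hL₁H.le hk) hg, ?_⟩, hb⟩
    · refine sup_le (le_sup_left.trans hAL) (le_trans ?_ (le_sup_right.trans hAL))
      exact le_pCoreOf ((le_sup_right.trans hA₀T₀).trans hT₀L₁)
        (hL₁H.le.trans (le_normalizer_pCoreOf H)) (pCoreOf_isPGroup H)
    · rw [hL₀, cj_inf, cj_eq_of_mem hk, cj_cj, ← inf_assoc, inf_eq_left.mpr hLL₁]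

end Cfsg.Agent.Lib.Helper53LLemma
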