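import Cfsg.Agent.Lib.Helper53CharP

set_option autoImplicit false

namespace Cfsg.Agent.Lib.Helper53Large

open Cfsg Subgroup Cfsg.Agent.Lib.Helper53Basic Cfsg.Agent.Lib.Helper53Rel
open Cfsg.Agent.Lib.Helper53Syl Cfsg.Agent.Lib.Helper53Comm Cfsg.Agent.Lib.Helper53Min
open Cfsg.Agent.Lib.Helper53WC Cfsg.Agent.Lib.Helper53Act Cfsg.Agent.Lib.Helper53CharP
open scoped commutatorElement

variable {G : Type*} [Group G] {p : ℕ}

local notation "⟪" Q ", " g "⟫" => Subgroup.map (MulEquiv.toMonoidHom (MulAut.conj g)) Q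

theorem cj_ne_bot {U : Subgroup G} (h : U ≠ ⊥) (g : G) : ⟪U, g⟫ ≠ ⊥ := by
  intro hb
  apply h
  have := congrArg (fun A => ⟪A, g⁻¹⟫) hb
  simpa only [cj_inv_cj, Subgroup.map_bot] using this

theorem IsLarge.cj {Q : Subgroup G} (h : IsLarge Q) (g : G) : IsLarge ⟪Q, g⟫ := by
  constructor
  · rw [centralizer_cj]; exact cj_mono g h.1
  · intro U hU hU1
    have h1 : ⟪U, g⁻¹⟫ ≤ centralizer (Q : Set G) := by
      rw [cj_le_iff, inv_inv, ← centralizer_cj]; exact hU
    have h2 := h.2 _ h1 (cj_ne_bot hU1 _)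
    rw [normalizer_cj, cj_le_iff, inv_inv, ← normalizer_cj] at h2
    exact h2

theorem burnside_conj [Finite G] [Fact p.Prime] (T : Sylow p G) {Q : Subgroup G} {g : G}
    (h1 : normalizer ((T : Subgroup G) : Set G) ≤ normalizer (Q : Set G))
    (h2 : normalizer ((T : Subgroup G) : Set G) ≤ normalizer (⟪Q, g⟫ : Set G)) : ⟪Q, g⟫ = Q := by
  have h3 : IsSyl p (T : Subgroup G) (normalizer (⟪Q, g⟫ : Set G)) :=
    isSyl_of_sylow_le T (le_normalizer.trans h2)
  have h4 : IsSyl p ⟪(T : Subgroup G), g⟫ (normalizer (⟪Q, g⟫ : Set G)) := by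
    have := (isSyl_of_sylow_le T (le_normalizer.trans h1)).cj g
    rwa [← normalizer_cj] at this
  obtain ⟨n, hn, hn'⟩ := h4.conj h3
  rw [cj_cj] at hn'
  have h5 : n * g ∈ normalizer (Q : Set G) := h1 (cj_eq_iff_mem_normalizer.mp hn'.symm)
  rw [← cj_eq_iff_mem_normalizer, ← cj_cj, cj_eq_iff_mem_normalizer.mpr hn] at h5
  exact h5

theorem normalizer_le_normalizer_center (T : Subgroup G) :
    normalizer (T : Set G) ≤ normalizer ((T ⊓ centralizer (T : Set G) : Subgroup G) : Set G) :=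
  le_normalizer_inf le_rfl (le_normalizer_centralizer le_rfl)

theorem IsLarge.normalizer_le_of_le [Finite G] [Fact p.Prime] {Q T : Subgroup G} (h : IsLarge Q)
    (hQ1 : Q ≠ ⊥) (hT : IsPGroup p T) (hQT : Q ≤ T) :
    normalizer (T : Set G) ≤ normalizer (Q : Set G) := by
  have hT1 : T ≠ ⊥ := fun hb => hQ1 (le_bot_iff.mp (hb ▸ hQT))
  have hZ := inf_centralizer_ne_bot hT hT hT1 le_normalizer
  exact (normalizer_le_normalizer_center T).trans
    (h.2 _ (inf_le_right.trans (centralizer_le hQT)) hZ)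

theorem IsLarge.wc [Finite G] [Fact p.Prime] {Q : Subgroup G} (hQ1 : Q ≠ ⊥)
    (h : IsLarge Q) : WC p Q ⊤ := by
  intro g _ hP
  obtain ⟨T, hT⟩ := hP.exists_le_sylow
  exact burnside_conj T (IsLarge.normalizer_le_of_le h hQ1 T.2 (le_sup_left.trans hT))
    (IsLarge.normalizer_le_of_le (IsLarge.cj h g) (cj_ne_bot hQ1 g) T.2 (le_sup_right.trans hT))

theorem IsLarge.centralizer_inf_eq_bot [Finite G] [Fact p.Prime] {Q : Subgroup G}
    (hQ : IsPGroup p Q) (hQ1 : Q ≠ ⊥) (h : IsLarge Q) {g : G}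
    (hg : g ∉ normalizer (Q : Set G)) :
    centralizer (Q : Set G) ⊓ centralizer (⟪Q, g⟫ : Set G) = ⊥ := by
  by_contra hU
  set U := centralizer (Q : Set G) ⊓ centralizer (⟪Q, g⟫ : Set G) with hUdef
  have h1 : normalizer (U : Set G) ≤ normalizer (Q : Set G) := h.2 U inf_le_left hU
  have h2 : ⟪Q, g⟫ ≤ normalizer (U : Set G) :=
    (le_centralizer_iff.mp inf_le_right).trans (centralizer_le_normalizer' U)
  apply hg
  rw [← cj_eq_iff_mem_normalizer]
  exact IsLarge.wc hQ1 h g (mem_top g) (hQ.to_sup_of_normal_left' (isPGroup_cj hQ g) (h2.trans h1))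

end Cfsg.Agent.Lib.Helper53Large
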