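import Cfsg.Agent.Lib.Helper53Comm

set_option autoImplicit false

namespace Cfsg.Agent.Lib.Helper53Min

open Cfsg Subgroup Cfsg.Agent.Lib.Helper53Basic Cfsg.Agent.Lib.Helper53Rel
open Cfsg.Agent.Lib.Helper53Syl Cfsg.Agent.Lib.Helper53Comm
open scoped commutatorElement

variable {G : Type*} [Group G] {p : ℕ}

local notation "⟪" Q ", " g "⟫" => Subgroup.map (MulEquiv.toMonoidHom (MulAut.conj g)) Q

theorem IsMinimalOver.le_of_ne_top [Finite G] {Y M K : Subgroup G} (h : IsMinimalOver Y)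
    (hM : IsCoatom M) (hYM : Y ≤ M) (hYK : Y ≤ K) (hK : K ≠ ⊤) : K ≤ M := by
  obtain ⟨-, M', -, huniq⟩ := h
  rcases eq_top_or_exists_le_coatom K with h1 | ⟨A, hA, hKA⟩
  · exact absurd h1 hK
  · have h2 : A = M' := huniq A ⟨hA, hYK.trans hKA⟩
    have h3 : M = M' := huniq M ⟨hM, hYM⟩
    rw [h3, ← h2]; exact hKA

theorem IsMinimalOver.not_normal_le {Y M K : Subgroup G} (h : IsMinimalOver Y)
    (hM : IsCoatom M) (hK : K.Normal) (hYK : Y ≤ K) : ¬ K ≤ M := by
  intro hKM
  have h1 : normalClosure (Y : Set G) ≤ K := normalClosure_le_normal hYK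
  rw [h.1] at h1
  exact hM.1 (top_le_iff.mp (h1.trans hKM))

theorem mul_pow_mem {T N : Subgroup G} (h : T ≤ normalizer (N : Set G)) {t n : G} (ht : t ∈ T)
    (hn : n ∈ N) (m : ℕ) : ∃ n' ∈ N, (t * n) ^ m = t ^ m * n' := by
  induction m with
  | zero => exact ⟨1, N.one_mem, by simp⟩
  | succ m ih =>
    obtain ⟨n', hn', he⟩ := ih
    refine ⟨(t⁻¹ * n' * t⁻¹⁻¹) * n, N.mul_mem ((le_normalizer_iff.mp h) _ (T.inv_mem ht) _ hn') hn, ?_⟩
    rw [pow_succ, he, pow_succ]; group

theorem exists_pow_mem_of_mem_sup {T N : Subgroup G} (h : T ≤ normalizer (N : Set G))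
    (hT : IsPGroup p T) {l : G} (hl : l ∈ T ⊔ N) : ∃ k : ℕ, l ^ (p ^ k) ∈ N := by
  rw [mem_sup_of_le_normalizer h] at hl
  obtain ⟨t, ht, n, hn, rfl⟩ := hl
  obtain ⟨k, hk⟩ := hT ⟨t, ht⟩
  have hk' : t ^ (p ^ k) = 1 := by simpa using congrArg Subtype.val hk
  obtain ⟨n', hn', he⟩ := mul_pow_mem h ht hn (p ^ k)
  exact ⟨k, by rw [he, hk', one_mul]; exact hn'⟩

theorem isPGroup_lt_normalizer_inf [Finite G] [Fact p.Prime] {Q P : Subgroup G} (hP : IsPGroup p P)
    (h : Q < P) : Q < P ⊓ normalizer (Q : Set G) := by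
  have hnil : Group.IsNilpotent P := hP.isNilpotent
  have hnc : NormalizerCondition P := Group.normalizerCondition_of_isNilpotent
  have h1 : Q.subgroupOf P < ⊤ := by
    rw [lt_top_iff_ne_top, Ne, subgroupOf_eq_top]
    exact not_le_of_gt h
  have h2 := hnc _ h1
  rw [← subgroupOf_normalizer_eq h.le] at h2
  obtain ⟨x, hx1, hx2⟩ := SetLike.exists_of_lt h2
  refine lt_of_le_of_ne (le_inf h.le le_normalizer) ?_
  intro he
  apply hx2
  rw [mem_subgroupOf, he]
  exact ⟨x.2, hx1⟩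

theorem isCoatom_cj {M : Subgroup G} (hM : IsCoatom M) (g : G) : IsCoatom ⟪M, g⟫ :=
  ((MulAut.conj g).mapSubgroup.isCoatom_iff M).mpr hM

theorem isCoatom_map_mk' {N M : Subgroup G} [N.Normal] (hM : IsCoatom M) (hNM : N ≤ M) :
    IsCoatom (M.map (QuotientGroup.mk' N)) := by
  have hsurj := QuotientGroup.mk'_surjective N
  have hcm : (M.map (QuotientGroup.mk' N)).comap (QuotientGroup.mk' N) = M := by
    rw [comap_map_eq, QuotientGroup.ker_mk', sup_eq_left.mpr hNM]
  constructor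
  · intro h
    rw [h, comap_top] at hcm
    exact hM.1 hcm.symm
  · intro K hK
    have h1 : M < K.comap (QuotientGroup.mk' N) := by
      rw [← hcm]
      refine lt_of_le_of_ne (comap_mono hK.le) ?_
      intro he
      have := congrArg (Subgroup.map (QuotientGroup.mk' N)) he
      rw [map_comap_eq_self_of_surjective hsurj, map_comap_eq_self_of_surjective hsurj] at this
      exact hK.ne this
    have h2 := hM.2 _ h1
    have := congrArg (Subgroup.map (QuotientGroup.mk' N)) h2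
    rwa [map_comap_eq_self_of_surjective hsurj, map_top_of_surjective _ hsurj] at this

end Cfsg.Agent.Lib.Helper53Min
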