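import Cfsg.Agent.Lib.Helper53Min
import Cfsg.Agent.Lib.Helper53Syl

set_option autoImplicit false
set_option linter.unusedSectionVars false
set_option linter.unusedVariables false

namespace Cfsg.Agent.Lib.Helper53PMin

open Cfsg Subgroup Cfsg.Agent.Lib.Helper53Basic Cfsg.Agent.Lib.Helper53Rel
open Cfsg.Agent.Lib.Helper53Syl Cfsg.Agent.Lib.Helper53Min

variable {G : Type*} [Group G] {p : ℕ}

local notation "⟪" Q ", " g "⟫" => Subgroup.map (MulEquiv.toMonoidHom (MulAut.conj g)) Q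

/-- `L` is `S`-minimal with unique maximal subgroup `M` over `S` (relative form). -/
structure RelMin (S L M : Subgroup G) : Prop where
  hSM : S ≤ M
  hML : M ≤ L
  hne : M ≠ L
  huniq : ∀ X : Subgroup G, S ≤ X → X ≤ L → X ≠ L → X ≤ M
  hncl : ∀ N : Subgroup G, S ≤ N → N ≤ L → L ≤ normalizer (N : Set G) → N = L

theorem relMin_of_isMinimalOver [Finite G] {L : Subgroup G} {S' : Subgroup L}
    (h : IsMinimalOver S') : ∃ M, RelMin (S'.map L.subtype) L M := by
  obtain ⟨hn, M', ⟨hM'c, hSM'⟩, -⟩ := id h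
  refine ⟨M'.map L.subtype, Subgroup.map_mono hSM', map_subtype_le _, ?_, ?_, ?_⟩
  · intro he
    apply hM'c.1
    rw [← subgroupOf_map_subtype' M', he, subgroupOf_self]
  · intro X hSX hXL hne
    have h1 : S' ≤ X.subgroupOf L := by
      rw [← subgroupOf_map_subtype' S']; exact comap_mono hSX
    have h2 : X.subgroupOf L ≠ ⊤ := by
      intro he
      rw [subgroupOf_eq_top] at he
      exact hne (le_antisymm hXL he)
    have h3 := IsMinimalOver.le_of_ne_top h hM'c hSM' h1 h2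
    have h4 := Subgroup.map_mono (f := L.subtype) h3
    rwa [map_subgroupOf_eq_of_le hXL] at h4
  · intro N hSN hNL hLN
    have h1 : (N.subgroupOf L).Normal := (normal_subgroupOf_iff_le_normalizer hNL).mpr hLN
    have h2 : S' ≤ N.subgroupOf L := by
      rw [← subgroupOf_map_subtype' S']; exact comap_mono hSN
    have h3 : normalClosure (S' : Set L) ≤ N.subgroupOf L := normalClosure_le_normal h2
    rw [hn, top_le_iff, subgroupOf_eq_top] at h3
    exact le_antisymm hNL h3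

theorem isMinimalOver_of_relMin_top {S M : Subgroup G} (h : RelMin S ⊤ M) : IsMinimalOver S := by
  refine ⟨?_, M, ⟨⟨h.hne, ?_⟩, h.hSM⟩, ?_⟩
  · apply h.hncl _ le_normalClosure le_top
    rw [normalizer_eq_top]
  · intro X hX
    by_contra hne
    exact absurd (h.huniq X (h.hSM.trans hX.le) le_top hne) (not_le_of_gt hX)
  · rintro M' ⟨hM'c, hSM'⟩
    have h1 := h.huniq M' hSM' le_top hM'c.1
    rcases hM'c.le_iff.mp h1 with h2 | h2
    · exact absurd h2 h.hne
    · exact h2.symm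

theorem cj_injective {A B : Subgroup G} {g : G} (h : ⟪A, g⟫ = ⟪B, g⟫) : A = B :=
  Subgroup.map_injective (MulAut.conj g).injective h

theorem RelMin.cj {S L M : Subgroup G} (h : RelMin S L M) (g : G) :
    RelMin ⟪S, g⟫ ⟪L, g⟫ ⟪M, g⟫ := by
  refine ⟨cj_mono g h.hSM, cj_mono g h.hML, fun he => h.hne (cj_injective he), ?_, ?_⟩
  · intro X hSX hXL hne
    have h1 := h.huniq ⟪X, g⁻¹⟫ (by rw [← cj_le_iff]; exact hSX)
      (by rw [cj_le_iff, inv_inv]; exact hXL) (by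
        intro he
        apply hne
        rw [← he, cj_cj_inv])
    rwa [cj_le_iff, inv_inv] at h1
  · intro N hSN hNL hLN
    have h1 := h.hncl ⟪N, g⁻¹⟫ (by rw [← cj_le_iff]; exact hSN)
      (by rw [cj_le_iff, inv_inv]; exact hNL) (by
        rw [normalizer_cj, ← cj_le_iff]; exact hLN)
    rw [← h1, cj_cj_inv]

theorem RelMin.mem_normalizer [Finite G] {S L M : Subgroup G} (h : RelMin S L M) {x : G}
    (hxS : x ∈ normalizer (S : Set G)) (hxL : x ∈ normalizer (L : Set G)) :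
    x ∈ normalizer (M : Set G) := by
  rw [← cj_eq_iff_mem_normalizer]
  apply cj_eq_of_le
  have h1 := h.cj x
  rw [cj_eq_iff_mem_normalizer.mpr hxS, cj_eq_iff_mem_normalizer.mpr hxL] at h1
  exact h.huniq _ h1.hSM h1.hML h1.hne

/-- Dedekind's law, second form. -/
theorem dedekind' {A B C : Subgroup G} (hAC : A ≤ C) (h : A ≤ normalizer (B : Set G)) :
    (A ⊔ B) ⊓ C = A ⊔ (B ⊓ C) := by
  apply le_antisymm
  · intro x hx
    obtain ⟨hx1, hx2⟩ := Subgroup.mem_inf.mp hx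
    rw [mem_sup_of_le_normalizer h] at hx1
    obtain ⟨a, ha, b, hb, rfl⟩ := hx1
    have hbC : b ∈ C := by
      have := C.mul_mem (C.inv_mem (hAC ha)) hx2
      simpa using this
    exact (A ⊔ (B ⊓ C)).mul_mem (le_sup_left (a := A) ha) (le_sup_right (b := B ⊓ C) ⟨hb, hbC⟩)
  · exact le_inf (sup_le_sup_left inf_le_left _) (sup_le hAC inf_le_right)

theorem relMin_sup [Finite G] [Fact p.Prime] {T₁ E M₁ P S₁ : Subgroup G} (hT₁ : IsSyl p T₁ E)
    (h : RelMin T₁ E M₁) (hP : IsPGroup p P) (hEP : E ≤ normalizer (P : Set G))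
    (hS₁ : IsSyl p S₁ (E ⊔ P)) (hTS : T₁ ≤ S₁) : RelMin S₁ (E ⊔ P) (M₁ ⊔ P) := by
  have hPS : P ≤ S₁ :=
    (le_pCoreOf le_sup_right (sup_le hEP le_normalizer) hP).trans (pCoreOf_le_isSyl hS₁)
  have hSE : E ⊓ S₁ = T₁ :=
    hT₁.eq_of_le (hS₁.isPGroup.to_le inf_le_right) inf_le_left (le_inf hT₁.le hTS)
  have hded : ∀ X : Subgroup G, P ≤ X → X ≤ E ⊔ P → X = P ⊔ (E ⊓ X) := by
    intro X hPX hX
    have := dedekind (A := P) (B := E) (C := X) hPX hEP
    rw [sup_comm, inf_eq_right.mpr hX] at this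
    exact this
  refine ⟨?_, sup_le_sup_right h.hML P, ?_, ?_, ?_⟩
  · rw [hded S₁ hPS hS₁.le, hSE, sup_comm]
    exact sup_le_sup_right h.hSM P
  · intro he
    apply h.hne
    apply le_antisymm h.hML
    have h1 := dedekind' (A := M₁) (B := P) (C := E) h.hML (h.hML.trans hEP)
    rw [he, inf_eq_right.mpr le_sup_left] at h1
    rw [h1]
    apply sup_le le_rfl
    have h2 : P ⊓ E ≤ E ⊓ S₁ := le_inf inf_le_right (inf_le_left.trans hPS)
    rw [hSE] at h2
    exact h2.trans h.hSM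
  · intro X hSX hX hne
    rw [hded X (hPS.trans hSX) hX, sup_comm]
    apply sup_le_sup_right
    apply h.huniq _ (le_inf hT₁.le (hTS.trans hSX)) inf_le_left
    intro he
    apply hne
    exact le_antisymm hX (sup_le (inf_eq_left.mp he) (hPS.trans hSX))
  · intro N hSN hN hn
    have h1 := h.hncl (N ⊓ E) (le_inf (hTS.trans hSN) hT₁.le) inf_le_right
      (le_normalizer_inf (le_sup_left.trans hn) le_normalizer)
    exact le_antisymm hN (sup_le (inf_eq_right.mp h1) (hPS.trans hSN))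

theorem exists_relMin_sup [Finite G] [Fact p.Prime] {E P S : Subgroup G}
    (hE : ∀ T : Sylow p ↥E, IsMinimalOver (T : Subgroup ↥E)) (hP : IsPGroup p P)
    (hEP : E ≤ normalizer (P : Set G)) (hS : IsSyl p S (E ⊔ P)) :
    ∃ M, RelMin S (E ⊔ P) M := by
  obtain ⟨T'⟩ : Nonempty (Sylow p ↥E) := inferInstance
  have hT₁ := isSyl_of_sylow T'
  obtain ⟨M₁, hM₁⟩ := relMin_of_isMinimalOver (hE T')
  obtain ⟨S₁, hS₁, hTS⟩ := exists_isSyl_ge hT₁.isPGroup (hT₁.le.trans (le_sup_left (b := P)))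
  have h1 := relMin_sup hT₁ hM₁ hP hEP hS₁ hTS
  obtain ⟨x, hx, rfl⟩ := hS₁.conj hS
  have h2 := h1.cj x
  rw [cj_eq_of_mem hx] at h2
  exact ⟨_, h2⟩

/-- the abstract form of the first part. -/
theorem relMin_top_of [Finite G] [Fact p.Prime] {T Rh F₀ M₀ : Subgroup G}
    (hRn : ∀ K : Subgroup G, K ≤ normalizer (Rh : Set G)) (hRT : Rh ⊔ T = ⊤)
    (hFR : F₀ ≤ Rh) (hRF : Rh ≤ normalizer (F₀ : Set G))
    (hgen : ∀ M : Subgroup G, T ≤ M → F₀ ≤ M → M = ⊤)
    (hsyl : IsSyl p (T ⊓ F₀) F₀) (hmin : RelMin (T ⊓ F₀) F₀ M₀) : ∃ M, RelMin T ⊤ M := by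
  -- the Frattini step
  have hF : ∀ Mx : Subgroup G, T ⊓ F₀ ≤ Mx → ¬ F₀ ≤ Mx → Mx ⊓ Rh ≤ normalizer (M₀ : Set G) := by
    intro Mx hTM hFM x hx
    set Y := Mx ⊓ F₀ with hY
    have hYM : Y ≤ M₀ := by
      apply hmin.huniq Y (le_inf hTM inf_le_right) inf_le_right
      intro he
      exact hFM (inf_eq_right.mp he)
    have hxY : ⟪Y, x⟫ = Y := by
      rw [hY, cj_inf, cj_eq_of_mem hx.1, cj_eq_of_le_normalizer hRF hx.2]
    have h1 : IsSyl p (T ⊓ F₀) Y := hsyl.mono (le_inf hTM inf_le_right) inf_le_right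
    have h2 := h1.cj x
    rw [hxY] at h2
    obtain ⟨y, hy, he⟩ := h1.conj h2
    have h3 : y⁻¹ * x ∈ normalizer ((T ⊓ F₀ : Subgroup G) : Set G) := by
      rw [← cj_eq_iff_mem_normalizer, ← cj_cj, he, cj_inv_cj]
    have h4 : y⁻¹ * x ∈ normalizer (F₀ : Set G) :=
      Subgroup.mul_mem _ (Subgroup.inv_mem _ (le_normalizer (H := F₀) hy.2)) (hRF hx.2)
    have h5 := hmin.mem_normalizer h3 h4
    have h6 : x = y * (y⁻¹ * x) := by group
    rw [h6]
    exact Subgroup.mul_mem _ (le_normalizer (H := M₀) (hYM hy)) h5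
  set X₀ := Rh ⊓ ⨅ t : T, normalizer ((⟪M₀, (t : G)⟫ : Subgroup G) : Set G) with hX₀
  have hmemX : ∀ x, x ∈ X₀ ↔ x ∈ Rh ∧ ∀ t ∈ T, t⁻¹ * x * t ∈ normalizer (M₀ : Set G) := by
    intro x
    rw [hX₀, Subgroup.mem_inf, Subgroup.mem_iInf]
    constructor
    · rintro ⟨h1, h2⟩
      refine ⟨h1, fun t ht => ?_⟩
      have := h2 ⟨t, ht⟩
      rwa [normalizer_cj, mem_cj] at this
    · rintro ⟨h1, h2⟩
      refine ⟨h1, fun t => ?_⟩
      rw [normalizer_cj, mem_cj]
      exact h2 t t.2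
  have hle : ∀ Mx : Subgroup G, T ≤ Mx → ¬ F₀ ≤ Mx → Mx ⊓ Rh ≤ X₀ := by
    intro Mx hTM hFM x hx
    rw [hmemX]
    refine ⟨hx.2, fun t ht => ?_⟩
    apply hF Mx (inf_le_left.trans hTM) hFM
    refine ⟨Mx.mul_mem (Mx.mul_mem (Mx.inv_mem (hTM ht)) hx.1) (hTM ht), ?_⟩
    have := (le_normalizer_iff.mp (hRn T)) t⁻¹ (T.inv_mem ht) x hx.2
    rwa [inv_inv] at this
  have hTX : T ≤ normalizer (X₀ : Set G) := by
    rw [le_normalizer_iff]
    intro s hs x hx
    rw [hmemX] at hx ⊢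
    refine ⟨(le_normalizer_iff.mp (hRn T)) s hs x hx.1, fun t ht => ?_⟩
    have := hx.2 (s⁻¹ * t) (T.mul_mem (T.inv_mem hs) ht)
    have he : t⁻¹ * (s * x * s⁻¹) * t = (s⁻¹ * t)⁻¹ * x * (s⁻¹ * t) := by group
    rw [he]; exact this
  have hFT : ¬ F₀ ≤ T := by
    intro h
    apply hmin.hne
    apply le_antisymm hmin.hML
    have := hmin.hSM
    rwa [inf_eq_right.mpr h] at this
  refine ⟨X₀ ⊔ T, le_sup_right, le_top, ?_, ?_, ?_⟩
  · intro he
    have h1 := dedekind (A := X₀) (B := T) (C := Rh) inf_le_left hTX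
    rw [he, top_inf_eq] at h1
    have h2 : Rh ≤ X₀ := by
      rw [h1]
      exact sup_le le_rfl (hle T le_rfl hFT)
    have h3 : Rh ≤ normalizer (M₀ : Set G) := by
      intro x hx
      have := ((hmemX x).mp (h2 hx)).2 1 T.one_mem
      simpa using this
    exact hmin.hne (hmin.hncl M₀ hmin.hSM hmin.hML (hFR.trans h3))
  · intro Mx hTM _ hne
    have hFM : ¬ F₀ ≤ Mx := fun h => hne (hgen Mx hTM h)
    have h1 := dedekind' (A := T) (B := Rh) (C := Mx) hTM (hRn T)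
    rw [sup_comm, hRT, top_inf_eq] at h1
    rw [h1, sup_comm]
    apply sup_le_sup_right
    rw [inf_comm]
    exact hle Mx hTM hFM
  · intro N hTN _ hn
    apply hgen N hTN
    have h1 := hmin.hncl (N ⊓ F₀) (inf_le_inf_right _ hTN) inf_le_right
      (le_normalizer_inf (le_top.trans hn) le_normalizer)
    exact inf_eq_right.mp h1

end Cfsg.Agent.Lib.Helper53PMin
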