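import Cfsg.Agent.Lib.Helper53CharP

set_option autoImplicit false

namespace Cfsg.Agent.Lib.Helper53PRed

open Cfsg Subgroup Cfsg.Agent.Lib.Helper53Basic Cfsg.Agent.Lib.Helper53Rel
open Cfsg.Agent.Lib.Helper53Syl Cfsg.Agent.Lib.Helper53Comm Cfsg.Agent.Lib.Helper53Min
open Cfsg.Agent.Lib.Helper53WC Cfsg.Agent.Lib.Helper53Act Cfsg.Agent.Lib.Helper53CharP
open scoped commutatorElement

variable {G : Type*} [Group G] {p : ℕ}

local notation "⟪" Q ", " g "⟫" => Subgroup.map (MulEquiv.toMonoidHom (MulAut.conj g)) Q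

/-! ### elementary abelian subgroups -/

theorem isElementaryAbelian_iff {A : Subgroup G} :
    IsElementaryAbelian p A ↔ A ≤ centralizer (A : Set G) ∧ ∀ a ∈ A, a ^ p = 1 := by
  unfold IsElementaryAbelian
  constructor
  · rintro ⟨h1, h2⟩
    refine ⟨?_, h2⟩
    intro a ha
    rw [mem_centralizer_iff]
    intro b hb
    exact congrArg Subtype.val (h1.is_comm.comm ⟨b, hb⟩ ⟨a, ha⟩)
  · rintro ⟨h1, h2⟩
    refine ⟨⟨⟨?_⟩⟩, h2⟩
    rintro ⟨a, ha⟩ ⟨b, hb⟩
    apply Subtype.ext
    exact (mem_centralizer_iff.mp (h1 hb)) a ha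

theorem IsElementaryAbelian.isPGroup {A : Subgroup G} (h : IsElementaryAbelian p A) :
    IsPGroup p A := by
  intro a
  refine ⟨1, Subtype.ext ?_⟩
  simpa using h.2 a a.2

theorem isElementaryAbelian_map_subtype_iff {L : Subgroup G} {A : Subgroup L} :
    IsElementaryAbelian p (A.map L.subtype) ↔ IsElementaryAbelian p A := by
  rw [isElementaryAbelian_iff, isElementaryAbelian_iff]
  constructor
  · rintro ⟨h1, h2⟩
    refine ⟨?_, ?_⟩
    · intro a ha
      rw [mem_centralizer_iff]
      intro b hb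
      apply Subtype.ext
      exact (mem_centralizer_iff.mp (h1 (mem_map_of_mem L.subtype ha))) _
        (mem_map_of_mem L.subtype hb)
    · intro a ha
      apply Subtype.ext
      exact h2 _ (mem_map_of_mem L.subtype ha)
  · rintro ⟨h1, h2⟩
    refine ⟨?_, ?_⟩
    · rintro _ ⟨a, ha, rfl⟩
      rw [mem_centralizer_iff]
      rintro _ ⟨b, hb, rfl⟩
      exact congrArg Subtype.val ((mem_centralizer_iff.mp (h1 ha)) b hb)
    · rintro _ ⟨a, ha, rfl⟩
      exact congrArg Subtype.val (h2 a ha)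

theorem IsElementaryAbelian.mono {A B : Subgroup G} (h : IsElementaryAbelian p A) (hBA : B ≤ A) :
    IsElementaryAbelian p B := by
  rw [isElementaryAbelian_iff] at h ⊢
  exact ⟨(hBA.trans h.1).trans (centralizer_le hBA), fun b hb => h.2 b (hBA hb)⟩

/-- the elements of order dividing `p` in an abelian subgroup. -/
def omegaSub (p : ℕ) (A : Subgroup G) (hA : A ≤ centralizer (A : Set G)) : Subgroup G where
  carrier := {a | a ∈ A ∧ a ^ p = 1}
  one_mem' := ⟨A.one_mem, one_pow _⟩
  mul_mem' := by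
    rintro a b ⟨ha, ha'⟩ ⟨hb, hb'⟩
    refine ⟨A.mul_mem ha hb, ?_⟩
    have hc : Commute a b := (mem_centralizer_iff.mp (hA hb)) a ha
    rw [hc.mul_pow, ha', hb', one_mul]
  inv_mem' := by
    rintro a ⟨ha, ha'⟩
    exact ⟨A.inv_mem ha, by rw [inv_pow, ha', inv_one]⟩

theorem omegaOne_eq_omegaSub (A : Subgroup G) (hA : A ≤ centralizer (A : Set G)) :
    omegaOne p A = omegaSub p A hA := by
  apply le_antisymm
  · unfold omegaOne
    rw [closure_le]
    intro x hx; exact hx
  · intro x hx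
    exact Subgroup.subset_closure hx

theorem omegaOne_le (A : Subgroup G) : omegaOne p A ≤ A := by
  unfold omegaOne
  rw [closure_le]
  intro x hx; exact hx.1

theorem mem_omegaOne {A : Subgroup G} {x : G} (hx : x ∈ A) (h : x ^ p = 1) : x ∈ omegaOne p A :=
  Subgroup.subset_closure ⟨hx, h⟩

theorem omegaOne_mono {A B : Subgroup G} (h : A ≤ B) : omegaOne p A ≤ omegaOne p B := by
  apply Subgroup.closure_mono
  rintro x ⟨hx, hx'⟩
  exact ⟨h hx, hx'⟩

theorem omegaOne_cj (A : Subgroup G) (g : G) : ⟪omegaOne p A, g⟫ = omegaOne p ⟪A, g⟫ := by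
  unfold omegaOne
  rw [MonoidHom.map_closure]
  congr 1
  ext x
  constructor
  · rintro ⟨y, ⟨hy, hy'⟩, rfl⟩
    refine ⟨mem_map_of_mem _ hy, ?_⟩
    rw [← map_pow, hy', map_one]
  · rintro ⟨hx, hx'⟩
    refine ⟨g⁻¹ * x * g, ⟨mem_cj.mp hx, ?_⟩, by simp [mul_assoc]⟩
    have h1 : g⁻¹ * x * g = (MulAut.conj g⁻¹) x := by simp
    rw [h1, ← map_pow, hx', map_one]

/-- the centre of a subgroup, inside the ambient group. -/
theorem center_le_centralizer_self (A : Subgroup G) :
    A ⊓ centralizer (A : Set G) ≤ centralizer ((A ⊓ centralizer (A : Set G) : Subgroup G) : Set G) :=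
  inf_le_right.trans (centralizer_le inf_le_left)

theorem pow_eq_one_of_mem_omegaOne_center {A : Subgroup G} {x : G}
    (hx : x ∈ omegaOne p (A ⊓ centralizer (A : Set G))) : x ^ p = 1 := by
  rw [omegaOne_eq_omegaSub _ (center_le_centralizer_self A)] at hx
  exact hx.2

theorem isElementaryAbelian_omegaOne_center (A : Subgroup G) :
    IsElementaryAbelian p (omegaOne p (A ⊓ centralizer (A : Set G))) := by
  rw [isElementaryAbelian_iff]
  refine ⟨?_, fun a ha => pow_eq_one_of_mem_omegaOne_center ha⟩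
  exact ((omegaOne_le _).trans (center_le_centralizer_self A)).trans (centralizer_le (omegaOne_le _))

/-! ### centralizers in subgroups -/

theorem centralizer_map_subtype {L : Subgroup G} (V : Subgroup L) :
    centralizer (V : Set L) = (centralizer ((V.map L.subtype : Subgroup G) : Set G)).subgroupOf L := by
  ext x
  rw [mem_subgroupOf, mem_centralizer_iff, mem_centralizer_iff]
  constructor
  · rintro h _ ⟨y, hy, rfl⟩
    exact congrArg Subtype.val (h y hy)
  · intro h y hy
    apply Subtype.ext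
    exact h _ (mem_map_of_mem L.subtype hy)

/-! ### the quotient criterion -/

theorem pCore_quotient_eq_bot_iff {C : Subgroup G} [C.Normal] :
    pCore p (G ⧸ C) = ⊥ ↔
      ∀ D : Subgroup G, D.Normal → (∀ d ∈ D, ∃ k : ℕ, d ^ (p ^ k) ∈ C) → D ≤ C := by
  have hsurj := QuotientGroup.mk'_surjective C
  constructor
  · intro h D hD hpow
    have h1 : D.map (QuotientGroup.mk' C) ≤ pCore p (G ⧸ C) := by
      apply le_pCore (hD.map _ hsurj)
      rintro ⟨_, d, hd, rfl⟩
      obtain ⟨k, hk⟩ := hpow d hd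
      refine ⟨k, Subtype.ext ?_⟩
      show (QuotientGroup.mk' C d) ^ (p ^ k) = 1
      rw [← map_pow]
      exact (QuotientGroup.eq_one_iff _).mpr hk
    rw [h, le_bot_iff, ← le_bot_iff, map_le_iff_le_comap, MonoidHom.comap_bot,
      QuotientGroup.ker_mk'] at h1
    exact h1
  · intro h
    have h1 := h ((pCore p (G ⧸ C)).comap (QuotientGroup.mk' C)) inferInstance (by
      intro d hd
      obtain ⟨k, hk⟩ := pCore_isPGroup p (G ⧸ C) ⟨_, hd⟩
      refine ⟨k, ?_⟩
      have h2 : (QuotientGroup.mk' C d) ^ (p ^ k) = 1 := congrArg Subtype.val hk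
      rw [← map_pow] at h2
      exact (QuotientGroup.eq_one_iff _).mp h2)
    have h2 := Subgroup.map_mono (f := QuotientGroup.mk' C) h1
    rw [map_comap_eq_self_of_surjective hsurj] at h2
    rw [← le_bot_iff]
    refine h2.trans ?_
    rw [map_le_iff_le_comap, MonoidHom.comap_bot, QuotientGroup.ker_mk']

end Cfsg.Agent.Lib.Helper53PRed
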