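import Cfsg.Agent.Lib.Helper53PRed

set_option autoImplicit false

namespace Cfsg.Agent.Lib.Helper53PRed2

open Cfsg Subgroup Cfsg.Agent.Lib.Helper53Basic Cfsg.Agent.Lib.Helper53Rel
open Cfsg.Agent.Lib.Helper53Syl Cfsg.Agent.Lib.Helper53Comm Cfsg.Agent.Lib.Helper53Min
open Cfsg.Agent.Lib.Helper53WC Cfsg.Agent.Lib.Helper53Act Cfsg.Agent.Lib.Helper53CharP
open Cfsg.Agent.Lib.Helper53PRed
open scoped commutatorElement

variable {G : Type*} [Group G] {p : ℕ}

local notation "⟪" Q ", " g "⟫" => Subgroup.map (MulEquiv.toMonoidHom (MulAut.conj g)) Q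

/-- `V` is a `p`-reduced normal subgroup of `L` (relative form). -/
def PRed (p : ℕ) (V L : Subgroup G) : Prop :=
  V ≤ L ∧ L ≤ normalizer (V : Set G) ∧ IsElementaryAbelian p V ∧
  ∀ D : Subgroup G, D ≤ L → L ≤ normalizer (D : Set G) →
    (∀ d ∈ D, ∃ k : ℕ, d ^ (p ^ k) ∈ centralizer (V : Set G)) → D ≤ centralizer (V : Set G)

theorem isPReducedNormal_iff {L : Subgroup G} (V : Subgroup L) :
    IsPReducedNormal p V ↔ PRed p (V.map L.subtype) L := by
  constructor
  · rintro ⟨hn, hel, hcn, hcore⟩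
    refine ⟨map_subtype_le V, ?_, isElementaryAbelian_map_subtype_iff.mpr hel, ?_⟩
    · rw [← normal_subgroupOf_iff_le_normalizer (map_subtype_le V), subgroupOf_map_subtype']
      exact hn
    · intro D hDL hLD hpow
      have h1 := pCore_quotient_eq_bot_iff.mp hcore (D.subgroupOf L)
        ((normal_subgroupOf_iff_le_normalizer hDL).mpr hLD) (by
          intro d hd
          obtain ⟨k, hk⟩ := hpow d hd
          refine ⟨k, ?_⟩
          rw [centralizer_map_subtype, mem_subgroupOf]
          exact hk)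
      intro d hd
      have h2 : (⟨d, hDL hd⟩ : L) ∈ centralizer (V : Set L) := h1 hd
      rw [centralizer_map_subtype, mem_subgroupOf] at h2
      exact h2
  · rintro ⟨-, hn, hel, hred⟩
    have hVn : V.Normal := by
      rw [← normal_subgroupOf_iff_le_normalizer (map_subtype_le V), subgroupOf_map_subtype'] at hn
      exact hn
    have hcn : (centralizer (V : Set L)).Normal := inferInstance
    refine ⟨hVn, isElementaryAbelian_map_subtype_iff.mp hel, hcn, ?_⟩
    rw [pCore_quotient_eq_bot_iff]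
    intro D hD hpow
    have h1 := hred (D.map L.subtype) (map_subtype_le D) (by
        rw [← normal_subgroupOf_iff_le_normalizer (map_subtype_le D), subgroupOf_map_subtype']
        exact hD) (by
        rintro _ ⟨d, hd, rfl⟩
        obtain ⟨k, hk⟩ := hpow d hd
        refine ⟨k, ?_⟩
        rw [centralizer_map_subtype, mem_subgroupOf] at hk
        exact hk)
    intro d hd
    rw [centralizer_map_subtype, mem_subgroupOf]
    exact h1 (mem_map_of_mem L.subtype hd)

theorem largestPReducedOf_eq (L : Subgroup G) :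
    largestPReducedOf p L = sSup {V | PRed p V L} := by
  unfold largestPReducedOf largestPReduced
  apply le_antisymm
  · rw [map_le_iff_le_comap]
    apply sSup_le
    intro V hV
    rw [← map_le_iff_le_comap]
    exact le_sSup ((isPReducedNormal_iff V).mp hV)
  · apply sSup_le
    intro V hV
    have h1 : IsPReducedNormal p (V.subgroupOf L) := by
      rw [isPReducedNormal_iff, map_subgroupOf_eq_of_le hV.1]; exact hV
    have h2 := Subgroup.map_mono (f := L.subtype) (le_sSup (a := V.subgroupOf L)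
      (s := {V : Subgroup L | IsPReducedNormal p V}) h1)
    rwa [map_subgroupOf_eq_of_le hV.1] at h2

theorem PRed.le_largest {V L : Subgroup G} (h : PRed p V L) : V ≤ largestPReducedOf p L := by
  rw [largestPReducedOf_eq]; exact le_sSup h

theorem PRed.pCoreOf_le_centralizer {V L : Subgroup G} (h : PRed p V L) :
    pCoreOf p L ≤ centralizer (V : Set G) := by
  apply h.2.2.2 _ (pCoreOf_le L) (le_normalizer_pCoreOf L)
  intro d hd
  obtain ⟨k, hk⟩ := pCoreOf_isPGroup (p := p) L ⟨d, hd⟩
  refine ⟨k, ?_⟩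
  have : d ^ (p ^ k) = 1 := congrArg Subtype.val hk
  rw [this]; exact Subgroup.one_mem _

theorem PRed.le_pCoreOf {V L : Subgroup G} (h : PRed p V L) : V ≤ pCoreOf p L :=
  Cfsg.Agent.Lib.Helper53Syl.le_pCoreOf h.1 h.2.1 (IsElementaryAbelian.isPGroup h.2.2.1)

theorem pRed_sSup [Finite G] {L A : Subgroup G} {F : Set (Subgroup G)} (hAL : A ≤ L)
    (hA : A ≤ centralizer (A : Set G))
    (hinv : ∀ X ∈ F, ∀ l ∈ L, ⟪X, l⟫ ∈ F) (hXA : ∀ X ∈ F, X ≤ A)
    (hexp : ∀ X ∈ F, ∀ x ∈ X, x ^ p = 1)
    (hred : ∀ D : Subgroup G, D ≤ L → L ≤ normalizer (D : Set G) →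
      (∀ d ∈ D, ∃ k : ℕ, d ^ (p ^ k) ∈ centralizer ((sSup F : Subgroup G) : Set G)) →
      ∀ X ∈ F, D ≤ centralizer (X : Set G)) :
    PRed p (sSup F) L := by
  refine ⟨sSup_le fun X hX => (hXA X hX).trans hAL, ?_, ?_, ?_⟩
  · intro l hl
    rw [← cj_eq_iff_mem_normalizer]
    apply cj_eq_of_le
    rw [cj_le_iff]
    apply sSup_le
    intro X hX
    rw [← cj_le_iff]
    exact le_sSup (hinv X hX l hl)
  · have h1 : sSup F ≤ omegaSub p A hA :=
      sSup_le fun X hX x hx => ⟨hXA X hX hx, hexp X hX x hx⟩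
    have h2 : IsElementaryAbelian p (omegaSub p A hA) := by
      rw [isElementaryAbelian_iff]
      refine ⟨?_, fun a ha => ha.2⟩
      have h3 : omegaSub p A hA ≤ A := fun a ha => ha.1
      exact (h3.trans hA).trans (centralizer_le h3)
    exact IsElementaryAbelian.mono h2 h1
  · intro D hDL hLD hpow
    rw [le_centralizer_iff]
    apply sSup_le
    intro X hX
    rw [le_centralizer_iff]
    exact hred D hDL hLD hpow X hX

theorem PRed.cj_mem [Finite G] {V L : Subgroup G} (h : PRed p V L) {l : G} (hl : l ∈ L) :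
    ⟪V, l⟫ = V := cj_eq_of_le_normalizer h.2.1 hl

theorem pRed_largest [Finite G] (L : Subgroup G) : PRed p (largestPReducedOf p L) L := by
  rw [largestPReducedOf_eq]
  apply pRed_sSup (A := pCoreOf p L ⊓ centralizer (pCoreOf p L : Set G))
    (inf_le_left.trans (pCoreOf_le L)) (center_le_centralizer_self _)
  · intro X hX l hl
    have : ⟪X, l⟫ = X := PRed.cj_mem hX hl
    rw [this]; exact hX
  · intro X hX
    exact le_inf (PRed.le_pCoreOf hX) (le_centralizer_iff.mp (PRed.pCoreOf_le_centralizer hX))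
  · intro X hX x hx
    exact hX.2.2.1.2 x hx
  · intro D hDL hLD hpow X hX
    apply hX.2.2.2 D hDL hLD
    intro d hd
    obtain ⟨k, hk⟩ := hpow d hd
    exact ⟨k, centralizer_le (SetLike.coe_subset_coe.mpr (le_sSup hX)) hk⟩

/-- transfer of `p`-reducedness along `L C(V) = M C(V)`. -/
theorem PRed.of_sup_eq {V L M : Subgroup G} (h : PRed p V M) (hVL : V ≤ L)
    (he : L ⊔ centralizer (V : Set G) = M ⊔ centralizer (V : Set G)) : PRed p V L := by
  set C := centralizer (V : Set G) with hC
  have hMC : M ≤ normalizer (C : Set G) := le_normalizer_centralizer h.2.1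
  have hLV : L ≤ normalizer (V : Set G) := by
    have h1 : L ≤ M ⊔ C := he ▸ le_sup_left
    exact h1.trans (sup_le h.2.1 (centralizer_le_normalizer' V))
  have hLC : L ≤ normalizer (C : Set G) := le_normalizer_centralizer hLV
  refine ⟨hVL, hLV, h.2.2.1, ?_⟩
  intro D hDL hLD hpow
  have hDC : D ≤ normalizer (C : Set G) := hDL.trans hLC
  have h1 : (D ⊔ C) ⊓ M ≤ C := by
    apply h.2.2.2 _ inf_le_right
    · apply le_normalizer_inf _ le_normalizer
      have h2 : M ≤ L ⊔ C := he ▸ le_sup_left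
      apply h2.trans
      apply sup_le
      · exact le_normalizer_sup hLD hLC
      · exact le_sup_right.trans le_normalizer
    · intro d hd
      have hd1 := inf_le_left (a := D ⊔ C) hd
      rw [mem_sup_of_le_normalizer hDC] at hd1
      obtain ⟨a, ha, c, hc, rfl⟩ := hd1
      obtain ⟨k, hk⟩ := hpow a ha
      obtain ⟨c', hc', he'⟩ := mul_pow_mem hDC ha hc (p ^ k)
      exact ⟨k, by rw [he']; exact C.mul_mem hk hc'⟩
  intro d hd
  have h2 : d ∈ M ⊔ C := he ▸ (le_sup_left (a := L) (hDL hd))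
  rw [mem_sup_of_le_normalizer hMC] at h2
  obtain ⟨m, hm, c, hc, rfl⟩ := h2
  have h3 : m ∈ (D ⊔ C) ⊓ M := by
    refine Subgroup.mem_inf.mpr ⟨?_, hm⟩
    have := Subgroup.mul_mem _ (le_sup_left (a := D) (b := C) hd)
      (le_sup_right (a := D) (b := C) (C.inv_mem hc))
    simpa using this
  exact C.mul_mem (h1 h3) hc

end Cfsg.Agent.Lib.Helper53PRed2
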