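import Cfsg.Agent.Lib.Helper53PRed2

set_option autoImplicit false

namespace Cfsg.Agent.Lib.Helper53PRed3

open Cfsg Subgroup Cfsg.Agent.Lib.Helper53Basic Cfsg.Agent.Lib.Helper53Rel
open Cfsg.Agent.Lib.Helper53Syl Cfsg.Agent.Lib.Helper53Comm Cfsg.Agent.Lib.Helper53Min
open Cfsg.Agent.Lib.Helper53WC Cfsg.Agent.Lib.Helper53Act Cfsg.Agent.Lib.Helper53CharP
open Cfsg.Agent.Lib.Helper53PRed Cfsg.Agent.Lib.Helper53PRed2
open scoped commutatorElement

variable {G : Type*} [Group G] {p : ℕ}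

local notation "⟪" Q ", " g "⟫" => Subgroup.map (MulEquiv.toMonoidHom (MulAut.conj g)) Q

/-- `Ω₁(Z(S))`. -/
abbrev omZ (p : ℕ) (S : Subgroup G) : Subgroup G := omegaOne p (S ⊓ centralizer (S : Set G))

theorem omZ_cj (S : Subgroup G) (g : G) : ⟪omZ p S, g⟫ = omZ p ⟪S, g⟫ := by
  unfold omZ
  rw [omegaOne_cj, cj_inf, centralizer_cj]

theorem omZ_le (S : Subgroup G) : omZ p S ≤ S := (omegaOne_le _).trans inf_le_left

theorem omZ_le_centralizer (S : Subgroup G) : omZ p S ≤ centralizer (S : Set G) :=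
  (omegaOne_le _).trans inf_le_right

/-- the family of `Ω₁(Z(S ∩ K))`. -/
def omFam (p : ℕ) (L K : Subgroup G) : Set (Subgroup G) :=
  {X | ∃ S, IsSyl p S L ∧ X = omZ p (S ⊓ K)}

theorem pRed_omFam [Finite G] [Fact p.Prime] {L K : Subgroup G} (hL : CharP p L) (hKL : K ≤ L)
    (hLK : L ≤ normalizer (K : Set G)) (hOK : pCoreOf p L ≤ K)
    (hK : ∀ D : Subgroup G, D ≤ L → L ≤ normalizer (D : Set G) →
      (∀ d ∈ D, ∃ k : ℕ, d ^ (p ^ k) ∈ centralizer ((sSup (omFam p L K) : Subgroup G) : Set G)) →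
      D ≤ K) :
    PRed p (sSup (omFam p L K)) L := by
  apply pRed_sSup (A := pCoreOf p L ⊓ centralizer (pCoreOf p L : Set G))
    (inf_le_left.trans (pCoreOf_le L)) (center_le_centralizer_self _)
  · rintro X ⟨S, hS, rfl⟩ l hl
    refine ⟨⟪S, l⟫, hS.cj_mem hl, ?_⟩
    rw [omZ_cj, cj_inf, cj_eq_of_le_normalizer hLK hl]
  · rintro X ⟨S, hS, rfl⟩
    have hO : pCoreOf p L ≤ S ⊓ K := le_inf (pCoreOf_le_isSyl hS) hOK
    have h1 : omZ p (S ⊓ K) ≤ centralizer (pCoreOf p L : Set G) :=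
      (omZ_le_centralizer _).trans (centralizer_le hO)
    exact le_inf (fun x hx => hL ⟨hKL (inf_le_right (a := S) (omZ_le _ hx)), h1 hx⟩) h1
  · rintro X ⟨S, hS, rfl⟩ x hx
    exact pow_eq_one_of_mem_omegaOne_center hx
  · rintro D hDL hLD hpow X ⟨S, hS, rfl⟩
    set W := sSup (omFam p L K) with hW
    have hDK : D ≤ K := hK D hDL hLD hpow
    have hXW : omZ p (S ⊓ K) ≤ W := le_sSup ⟨S, hS, rfl⟩
    have hSD : IsSyl p (S ⊓ D) D := hS.inf_normal hDL hLD
    have hLW : L ≤ normalizer (W : Set G) := by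
      intro l hl
      rw [← cj_eq_iff_mem_normalizer]
      apply cj_eq_of_le
      rw [cj_le_iff]
      apply sSup_le
      rintro X ⟨S', hS', rfl⟩
      rw [← cj_le_iff]
      apply le_sSup
      refine ⟨⟪S', l⟫, hS'.cj_mem hl, ?_⟩
      rw [omZ_cj, cj_inf, cj_eq_of_le_normalizer hLK hl]
    have h1 : (D ⊓ centralizer (W : Set G)) ⊔ (S ⊓ D) = D := by
      apply hSD.sup_eq inf_le_left
      · exact le_normalizer_inf le_normalizer (le_normalizer_centralizer (hDL.trans hLW))
      · intro d hd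
        obtain ⟨k, hk⟩ := hpow d hd
        exact ⟨k, ⟨D.pow_mem hd _, hk⟩⟩
    rw [← h1]
    apply sup_le
    · exact inf_le_right.trans (centralizer_le hXW)
    · rw [le_centralizer_iff]
      exact (omZ_le_centralizer _).trans (centralizer_le (inf_le_inf_left S hDK))

theorem sylowCenterClosure_eq [Finite G] [Fact p.Prime] (L : Subgroup G) :
    sylowCenterClosure p L = sSup (omFam p L L) := by
  unfold sylowCenterClosure
  apply le_antisymm
  · apply iSup_le
    intro S
    apply le_sSup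
    refine ⟨_, isSyl_of_sylow S, ?_⟩
    rw [inf_eq_left.mpr (map_subtype_le _)]
  · apply sSup_le
    rintro X ⟨S, hS, rfl⟩
    obtain ⟨P, hP⟩ := hS.exists_sylow
    have h1 : (P : Subgroup L).map L.subtype = S := by
      rw [hP, map_subgroupOf_eq_of_le hS.le]
    rw [inf_eq_left.mpr hS.le, ← h1]
    exact le_iSup (fun S : Sylow p L => omegaOne p (((S : Subgroup L).map L.subtype) ⊓
      Subgroup.centralizer (((S : Subgroup L).map L.subtype : Subgroup G) : Set G))) P

theorem pRed_sylowCenterClosure [Finite G] [Fact p.Prime] {L : Subgroup G} (hL : CharP p L) :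
    PRed p (sylowCenterClosure p L) L := by
  rw [sylowCenterClosure_eq]
  exact pRed_omFam hL le_rfl le_normalizer (pCoreOf_le L) (fun D hDL _ _ => hDL)

theorem omZ_le_sylowCenterClosure [Finite G] [Fact p.Prime] {S L : Subgroup G} (hS : IsSyl p S L) :
    omZ p S ≤ sylowCenterClosure p L := by
  rw [sylowCenterClosure_eq]
  apply le_sSup
  exact ⟨S, hS, by rw [inf_eq_left.mpr hS.le]⟩

/-- `Y_L = Ω₁(Z(C_S(Y_L)))`. -/
theorem largest_le_omZ [Finite G] [Fact p.Prime] {S L : Subgroup G} (hS : IsSyl p S L) :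
    largestPReducedOf p L ≤ omZ p (S ⊓ centralizer (largestPReducedOf p L : Set G)) := by
  have hY := pRed_largest (p := p) L
  set Y := largestPReducedOf p L with hYdef
  have hel := isElementaryAbelian_iff.mp hY.2.2.1
  intro y hy
  apply mem_omegaOne _ (hel.2 y hy)
  refine Subgroup.mem_inf.mpr ⟨Subgroup.mem_inf.mpr
    ⟨pCoreOf_le_isSyl hS (PRed.le_pCoreOf hY hy), hel.1 hy⟩, ?_⟩
  have h1 : S ⊓ centralizer (Y : Set G) ≤ centralizer (Y : Set G) := inf_le_right
  exact (le_centralizer_iff.mp h1) hy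

theorem omZ_le_largest [Finite G] [Fact p.Prime] {S L : Subgroup G} (hL : CharP p L)
    (hS : IsSyl p S L) :
    omZ p (S ⊓ centralizer (largestPReducedOf p L : Set G)) ≤ largestPReducedOf p L := by
  have hY := pRed_largest (p := p) L
  set Y := largestPReducedOf p L with hYdef
  set K := L ⊓ centralizer (Y : Set G) with hK
  have hSK : ∀ S', IsSyl p S' L → S' ⊓ K = S' ⊓ centralizer (Y : Set G) := by
    intro S' hS'
    rw [hK, ← inf_assoc, inf_eq_left.mpr hS'.le]
  have h1 : PRed p (sSup (omFam p L K)) L := by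
    apply pRed_omFam hL inf_le_left
      (le_normalizer_inf le_normalizer (le_normalizer_centralizer hY.2.1))
      (le_inf (pCoreOf_le L) (PRed.pCoreOf_le_centralizer hY))
    intro D hDL hLD hpow
    refine le_inf hDL (hY.2.2.2 D hDL hLD ?_)
    intro d hd
    obtain ⟨k, hk⟩ := hpow d hd
    refine ⟨k, centralizer_le (SetLike.coe_subset_coe.mpr ?_) hk⟩
    refine (largest_le_omZ hS).trans (le_sSup ⟨S, hS, ?_⟩)
    rw [hSK S hS]
  have h2 : omZ p (S ⊓ centralizer (Y : Set G)) ∈ omFam p L K := ⟨S, hS, by rw [hSK S hS]⟩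
  exact le_trans (le_sSup h2) (PRed.le_largest h1)

theorem largest_eq_omZ [Finite G] [Fact p.Prime] {S L : Subgroup G} (hL : CharP p L)
    (hS : IsSyl p S L) :
    largestPReducedOf p L = omZ p (S ⊓ centralizer (largestPReducedOf p L : Set G)) :=
  le_antisymm (largest_le_omZ hS) (omZ_le_largest hL hS)

end Cfsg.Agent.Lib.Helper53PRed3
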