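import Cfsg.Agent.Lib.Helper53WCl
import Cfsg.Agent.Lib.Helper28Comp

set_option autoImplicit false
set_option linter.unusedSectionVars false
set_option linter.unusedVariables false

namespace Cfsg.Agent.Lib.Helper53QSec

open Cfsg Subgroup Cfsg.Agent.Lib.Helper53Basic Cfsg.Agent.Lib.Helper53Rel
open Cfsg.Agent.Lib.Helper28Comp
open scoped commutatorElement

variable {G : Type*} [Group G]

/-- `K N / N` is quasisimple, in relative form. -/
def QSec (K N : Subgroup G) : Prop :=
  K ≤ ⁅K, K⁆ ⊔ N ∧ ¬ K ≤ N ∧
    ∀ X : Subgroup G, X ≤ K → K ≤ normalizer (X : Set G) → K ≤ X ⊔ N ∨ ⁅X, K⁆ ≤ N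

theorem qs_map_iff {A B : Type*} [Group A] [Group B] (f : A →* B) (K : Subgroup A) :
    QS (K.map f) ↔ QSec K f.ker := by
  unfold QS QSec
  refine and_congr ?_ (and_congr ?_ ?_)
  · rw [← map_commutator, ← Subgroup.map_le_map_iff]
    constructor
    · intro h; rw [h]
    · intro h; exact le_antisymm (map_mono (commutator_le_self K)) h
  · rw [Ne, Subgroup.map_eq_bot_iff]
  · constructor
    · intro h X hXK hKX
      rcases h (X.map f) ⟨map_mono hXK, (map_mono hKX).trans (le_normalizer_map f)⟩ with h1 | h1
      · left
        rw [← Subgroup.map_le_map_iff, h1]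
      · right
        rw [← Subgroup.map_eq_bot_iff, map_commutator, commutator_eq_bot_iff_le_centralizer]
        exact h1
    · rintro h N ⟨hNK, hKN⟩
      have hmap : (N.comap f ⊓ K).map f = N := by
        apply le_antisymm
        · rintro _ ⟨x, hx, rfl⟩
          exact hx.1
        · intro y hy
          obtain ⟨x, hx, rfl⟩ := hNK hy
          exact ⟨x, ⟨hy, hx⟩, rfl⟩
      have hn : K ≤ normalizer ((N.comap f ⊓ K : Subgroup A) : Set A) := by
        apply le_normalizer_inf _ le_normalizer
        refine le_trans ?_ (le_normalizer_comap f)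
        intro k hk
        exact hKN (mem_map_of_mem f hk)
      rcases h (N.comap f ⊓ K) inf_le_right hn with h1 | h1
      · left
        rw [← Subgroup.map_le_map_iff, hmap] at h1
        exact le_antisymm hNK h1
      · right
        rw [← Subgroup.map_eq_bot_iff, map_commutator, hmap, commutator_eq_bot_iff_le_centralizer] at h1
        exact h1

theorem qSec_map_iff {A B : Type*} [Group A] [Group B] {f : A →* B} (hf : Function.Injective f)
    (K N : Subgroup A) : QSec (K.map f) (N.map f) ↔ QSec K N := by
  unfold QSec
  refine and_congr ?_ (and_congr ?_ ?_)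
  · rw [← map_commutator, ← Subgroup.map_sup, map_le_map_iff_of_injective hf]
  · rw [map_le_map_iff_of_injective hf]
  · constructor
    · intro h X hXK hKX
      rcases h (X.map f) (map_mono hXK) ((map_mono hKX).trans (le_normalizer_map f)) with h1 | h1
      · left
        rwa [← Subgroup.map_sup, map_le_map_iff_of_injective hf] at h1
      · right
        rwa [← map_commutator, map_le_map_iff_of_injective hf] at h1
    · intro h X hXK hKX
      have hmap : (X.comap f).map f = X :=
        map_comap_eq_self (hXK.trans (map_le_range f K))
      have h1 : X.comap f ≤ K := by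
        rw [← map_le_map_iff_of_injective hf, hmap]; exact hXK
      have h2 : K ≤ normalizer ((X.comap f : Subgroup A) : Set A) := by
        refine le_trans ?_ (le_normalizer_comap f)
        intro k hk
        exact hKX (mem_map_of_mem f hk)
      rcases h (X.comap f) h1 h2 with h3 | h3
      · left
        rw [← map_le_map_iff_of_injective hf, Subgroup.map_sup, hmap] at h3
        exact h3
      · right
        rw [← map_le_map_iff_of_injective hf, map_commutator, hmap] at h3
        exact h3

/-- from a quasisimple image of a subgroup of a quotient of `E` to the relative form in `G`. -/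
theorem qSec_of_isQuasisimple_map {E : Subgroup G} (N K : Subgroup E) [N.Normal]
    (h : Cfsg.IsQuasisimple ↥(K.map (QuotientGroup.mk' N))) :
    QSec (K.map E.subtype) (N.map E.subtype) := by
  rw [isQuasisimple_iff_QS, qs_map_iff, QuotientGroup.ker_mk'] at h
  exact (qSec_map_iff E.subtype_injective K N).mpr h

/-- from the relative form to quasisimplicity of the quotient. -/
theorem isQuasisimple_quotient_of_qSec {E : Subgroup G} (N : Subgroup E) [N.Normal]
    (h : QSec E (N.map E.subtype)) : Cfsg.IsQuasisimple (↥E ⧸ N) := by
  have h1 : QSec ((⊤ : Subgroup E).map E.subtype) (N.map E.subtype) := by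
    have : (⊤ : Subgroup E).map E.subtype = E := by
      rw [← MonoidHom.range_eq_map, Subgroup.range_subtype]
    rw [this]; exact h
  rw [qSec_map_iff E.subtype_injective] at h1
  have h2 : QS ((⊤ : Subgroup E).map (QuotientGroup.mk' N)) := by
    rw [qs_map_iff, QuotientGroup.ker_mk']; exact h1
  rw [map_top_of_surjective _ (QuotientGroup.mk'_surjective N), ← isQuasisimple_iff_QS] at h2
  exact isQuasisimple_of_mulEquiv Subgroup.topEquiv h2

end Cfsg.Agent.Lib.Helper53QSec
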