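import Cfsg.Agent.Lib.Helper53PRed2

set_option autoImplicit false
set_option linter.unusedSectionVars false
set_option linter.unusedVariables false

namespace Cfsg.Agent.Lib.Helper53Subn

open Cfsg Subgroup Cfsg.Agent.Lib.Helper53Basic Cfsg.Agent.Lib.Helper53Rel
open Cfsg.Agent.Lib.Helper53Syl Cfsg.Agent.Lib.Helper53Comm Cfsg.Agent.Lib.Helper53Min
open Cfsg.Agent.Lib.Helper53Act
open Cfsg.Agent.Lib.Helper53PRed Cfsg.Agent.Lib.Helper53PRed2
open scoped commutatorElement

variable {G : Type*} [Group G] {p : ℕ}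

local notation "⟪" Q ", " g "⟫" => Subgroup.map (MulEquiv.toMonoidHom (MulAut.conj g)) Q

theorem isPReducedNormal_iff_top (V : Subgroup G) : IsPReducedNormal p V ↔ PRed p V ⊤ := by
  constructor
  · rintro ⟨hn, hel, hcn, hcore⟩
    refine ⟨le_top, by rw [normalizer_eq_top], hel, ?_⟩
    intro D _ hD hpow
    exact pCore_quotient_eq_bot_iff.mp hcore D (normalizer_eq_top_iff.mp (top_le_iff.mp hD)) hpow
  · rintro ⟨-, hn, hel, hred⟩
    have hVn : V.Normal := normalizer_eq_top_iff.mp (top_le_iff.mp hn)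
    have hcn : (centralizer (V : Set G)).Normal := inferInstance
    refine ⟨hVn, hel, hcn, ?_⟩
    rw [pCore_quotient_eq_bot_iff]
    intro D hD hpow
    exact hred D le_top (by rw [normalizer_eq_top]) hpow

theorem largestPReducedOf_top : largestPReducedOf p (⊤ : Subgroup G) = largestPReduced p G := by
  rw [largestPReducedOf_eq]
  unfold largestPReduced
  congr 1
  ext V
  exact (isPReducedNormal_iff_top V).symm

theorem isElementaryAbelian_cj {V : Subgroup G} (h : IsElementaryAbelian p V) (g : G) :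
    IsElementaryAbelian p ⟪V, g⟫ := by
  rw [isElementaryAbelian_iff] at h ⊢
  refine ⟨?_, ?_⟩
  · rw [centralizer_cj]; exact cj_mono g h.1
  · intro a ha
    rw [mem_cj] at ha
    have h1 := h.2 _ ha
    have h2 : a ^ p = g * (g⁻¹ * a * g) ^ p * g⁻¹ := by
      rw [← conj_pow]; group
    rw [h2, h1]; group

theorem PRed.cj {V L : Subgroup G} (h : PRed p V L) (g : G) : PRed p ⟪V, g⟫ ⟪L, g⟫ := by
  obtain ⟨h1, h2, h3, h4⟩ := h
  refine ⟨cj_mono g h1, by rw [normalizer_cj]; exact cj_mono g h2, isElementaryAbelian_cj h3 g, ?_⟩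
  intro D hD hLD hpow
  have h5 := h4 ⟪D, g⁻¹⟫ (by rw [cj_le_iff, inv_inv]; exact hD)
    (by rw [normalizer_cj, ← cj_le_iff]; exact hLD) (by
      intro d hd
      rw [mem_cj, inv_inv] at hd
      obtain ⟨k, hk⟩ := hpow _ hd
      refine ⟨k, ?_⟩
      rw [centralizer_cj, mem_cj, conj_pow] at hk
      simpa [mul_assoc] using hk)
  rw [cj_le_iff, inv_inv, ← centralizer_cj] at h5
  exact h5

theorem largest_cj_le (L : Subgroup G) (g : G) :
    ⟪largestPReducedOf p L, g⟫ ≤ largestPReducedOf p ⟪L, g⟫ := by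
  rw [cj_le_iff, largestPReducedOf_eq]
  apply sSup_le
  intro V hV
  rw [← cj_le_iff]
  exact PRed.le_largest (PRed.cj hV g)

theorem normalizer_le_normalizer_largest [Finite G] (L : Subgroup G) :
    normalizer (L : Set G) ≤ normalizer (largestPReducedOf p L : Set G) := by
  intro g hg
  rw [← cj_eq_iff_mem_normalizer]
  apply cj_eq_of_le
  have := largest_cj_le (p := p) L g
  rwa [cj_eq_iff_mem_normalizer.mpr hg] at this

/-! ### subgroups acting as `p`-groups -/

/-- `D` is a normal subgroup of `L` all of whose elements have a `p`-power in `C`. -/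
def Good (p : ℕ) (L C D : Subgroup G) : Prop :=
  D ≤ L ∧ L ≤ normalizer (D : Set G) ∧ ∀ d ∈ D, ∃ k : ℕ, d ^ (p ^ k) ∈ C

theorem mul_pow_mem' {T N : Subgroup G} (h : T ≤ normalizer (N : Set G)) {t n : G} (ht : t ∈ T)
    (hn : n ∈ N) (m : ℕ) : ∃ n' ∈ N, (n * t) ^ m = n' * t ^ m := by
  induction m with
  | zero => exact ⟨1, N.one_mem, by simp⟩
  | succ m ih =>
    obtain ⟨n', hn', he⟩ := ih
    refine ⟨n' * (t ^ m * n * (t ^ m)⁻¹), N.mul_mem hn'
      ((le_normalizer_iff.mp h) _ (T.pow_mem ht m) _ hn), ?_⟩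
    rw [pow_succ, he, pow_succ]; group

theorem Good.sup {L C D₁ D₂ : Subgroup G} (hLC : L ≤ normalizer (C : Set G))
    (h₁ : Good p L C D₁) (h₂ : Good p L C D₂) : Good p L C (D₁ ⊔ D₂) := by
  refine ⟨sup_le h₁.1 h₂.1, le_normalizer_sup h₁.2.1 h₂.2.1, ?_⟩
  intro d hd
  rw [mem_sup_of_le_normalizer (h₁.1.trans h₂.2.1)] at hd
  obtain ⟨a, ha, b, hb, rfl⟩ := hd
  obtain ⟨k, hk⟩ := h₁.2.2 a ha
  obtain ⟨b', hb', he⟩ := mul_pow_mem (h₁.1.trans h₂.2.1) ha hb (p ^ k)
  obtain ⟨j, hj⟩ := h₂.2.2 b' hb'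
  obtain ⟨c, hc, he'⟩ := mul_pow_mem' (h₂.1.trans hLC) hb' hk (p ^ j)
  refine ⟨k + j, ?_⟩
  rw [pow_add, pow_mul, he, he']
  exact C.mul_mem hc hj

theorem Good.cj {L C D : Subgroup G} (h : Good p L C D) (g : G) :
    Good p ⟪L, g⟫ ⟪C, g⟫ ⟪D, g⟫ := by
  refine ⟨cj_mono g h.1, by rw [normalizer_cj]; exact cj_mono g h.2.1, ?_⟩
  intro d hd
  rw [mem_cj] at hd
  obtain ⟨k, hk⟩ := h.2.2 _ hd
  refine ⟨k, ?_⟩
  rw [mem_cj]
  have h1 : g⁻¹ * d ^ p ^ k * g = (g⁻¹ * d * g) ^ p ^ k := by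
    have := conj_pow (i := p ^ k) (a := g⁻¹) (b := d)
    rw [inv_inv] at this
    exact this.symm
  rw [h1]; exact hk

theorem exists_largest_good [Finite G] {L C : Subgroup G} (hLC : L ≤ normalizer (C : Set G)) :
    ∃ D₀, Good p L C D₀ ∧ ∀ D, Good p L C D → D ≤ D₀ := by
  have hb : Good p L C ⊥ := by
    refine ⟨bot_le, ?_, ?_⟩
    · rw [le_normalizer_iff]
      intro l _ x hx
      rw [mem_bot] at hx ⊢
      rw [hx]; simp
    · intro d hd
      rw [mem_bot] at hd
      exact ⟨0, by rw [hd]; simp [C.one_mem]⟩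
  obtain ⟨D₀, -, hmax⟩ := (Set.toFinite {D | Good p L C D}).exists_le_maximal hb
  refine ⟨D₀, hmax.1, fun D hD => ?_⟩
  have h1 : D₀ ⊔ D ≤ D₀ := hmax.2 (Good.sup hLC hmax.1 hD) le_sup_left
  exact le_sup_right.trans h1

theorem exists_invariant_good [Finite G] {K L C D : Subgroup G} (hLC : L ≤ normalizer (C : Set G))
    (hKL : K ≤ normalizer (L : Set G)) (hKC : K ≤ normalizer (C : Set G)) (hD : Good p L C D) :
    ∃ D₀, Good p L C D₀ ∧ D ≤ D₀ ∧ K ≤ normalizer (D₀ : Set G) := by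
  obtain ⟨D₀, h1, h2⟩ := exists_largest_good (p := p) hLC
  refine ⟨D₀, h1, h2 D hD, ?_⟩
  intro k hk
  rw [← cj_eq_iff_mem_normalizer]
  apply cj_eq_of_le
  apply h2
  have := h1.cj k
  rwa [cj_eq_of_le_normalizer hKL hk, cj_eq_of_le_normalizer hKC hk] at this

/-! ### normal subgroups -/

theorem PRed.centralizes_of_good [Finite G] [Fact p.Prime] {Y K L D : Subgroup G}
    (hY : PRed p Y K) (hLK : L ≤ K) (hKL : K ≤ normalizer (L : Set G)) (hDL : D ≤ L)
    (hKD : K ≤ normalizer (D : Set G))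
    (hpow : ∀ d ∈ D, ∃ k : ℕ, d ^ (p ^ k) ∈ centralizer ((Y ⊓ L : Subgroup G) : Set G)) :
    D ≤ centralizer (Y : Set G) := by
  apply hY.2.2.2 D (hDL.trans hLK) hKD
  intro d hd
  obtain ⟨k, hk⟩ := exists_pow_coprime (p := p) d
  refine ⟨k, ?_⟩
  set x := d ^ (p ^ k) with hx
  have hxD : x ∈ D := D.pow_mem hd _
  have hxU : x ∈ centralizer ((Y ⊓ L : Subgroup G) : Set G) := by
    obtain ⟨j, hj⟩ := hpow x hxD
    exact mem_of_pow_mem_of_coprime (Nat.Coprime.pow_right j hk) hj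
  rw [mem_centralizer_iff]
  intro y hy
  symm
  apply comm_of_stab (A := Y ⊓ L) ((IsElementaryAbelian.isPGroup hY.2.2.1).to_le inf_le_left) hk
  · intro a ha
    exact ((mem_centralizer_iff.mp hxU) a ha).symm
  · constructor
    · have h1 : x * y * x⁻¹ ∈ Y := (le_normalizer_iff.mp hY.2.1) x (hLK (hDL hxD)) y hy
      exact Y.mul_mem h1 (Y.inv_mem hy)
    · have h1 : y * x⁻¹ * y⁻¹ ∈ L := (le_normalizer_iff.mp hKL) y (hY.1 hy) _ (L.inv_mem (hDL hxD))
      have h2 : x * y * x⁻¹ * y⁻¹ = x * (y * x⁻¹ * y⁻¹) := by group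
      rw [h2]
      exact L.mul_mem (hDL hxD) h1

theorem PRed.inf_normal [Finite G] [Fact p.Prime] {Y K L : Subgroup G}
    (hY : PRed p Y K) (hLK : L ≤ K) (hKL : K ≤ normalizer (L : Set G)) : PRed p (Y ⊓ L) L := by
  have hKU : K ≤ normalizer ((Y ⊓ L : Subgroup G) : Set G) := le_normalizer_inf hY.2.1 hKL
  refine ⟨inf_le_right, hLK.trans hKU, IsElementaryAbelian.mono hY.2.2.1 inf_le_left, ?_⟩
  intro D hDL hLD hpow
  have hKC := le_normalizer_centralizer hKU
  obtain ⟨D₀, h1, h2, h3⟩ := exists_invariant_good (p := p) (hLK.trans hKC) hKL hKC ⟨hDL, hLD, hpow⟩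
  exact (h2.trans (PRed.centralizes_of_good hY hLK hKL h1.1 h3 h1.2.2)).trans (centralizer_le inf_le_left)

theorem PRed.inf_centralizer_inf [Finite G] [Fact p.Prime] {Y K L : Subgroup G}
    (hY : PRed p Y K) (hLK : L ≤ K) (hKL : K ≤ normalizer (L : Set G)) :
    L ⊓ centralizer ((Y ⊓ L : Subgroup G) : Set G) = L ⊓ centralizer (Y : Set G) := by
  apply le_antisymm _ (inf_le_inf_left _ (centralizer_le inf_le_left))
  apply le_inf inf_le_left
  have hKU : K ≤ normalizer ((Y ⊓ L : Subgroup G) : Set G) := le_normalizer_inf hY.2.1 hKL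
  apply PRed.centralizes_of_good hY hLK hKL inf_le_left (le_normalizer_inf hKL (le_normalizer_centralizer hKU))
  intro d hd
  exact ⟨0, by simpa using hd.2⟩

/-! ### the `A × B` lemma for abelian groups -/

/-- the subgroup `{[x, w]}` of an abelian subgroup `W` normalised by `x`. -/
def commSub (W : Subgroup G) (hW : W ≤ centralizer (W : Set G)) (x : G)
    (hx : x ∈ normalizer (W : Set G)) : Subgroup G where
  carrier := {u | ∃ w ∈ W, u = x * w * x⁻¹ * w⁻¹}
  one_mem' := ⟨1, W.one_mem, by simp⟩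
  mul_mem' := by
    rintro _ _ ⟨w, hw, rfl⟩ ⟨w', hw', rfl⟩
    refine ⟨w * w', W.mul_mem hw hw', ?_⟩
    have ha : x * w' * x⁻¹ ∈ W := (mem_normalizer_iff.mp hx w').mp hw'
    have h1 : w⁻¹ * (x * w' * x⁻¹) = (x * w' * x⁻¹) * w⁻¹ :=
      (mem_centralizer_iff.mp (hW ha)) _ (W.inv_mem hw)
    have h2 : w⁻¹ * w'⁻¹ = w'⁻¹ * w⁻¹ :=
      (mem_centralizer_iff.mp (hW (W.inv_mem hw'))) _ (W.inv_mem hw)
    calc x * w * x⁻¹ * w⁻¹ * (x * w' * x⁻¹ * w'⁻¹)
        = x * w * x⁻¹ * (w⁻¹ * (x * w' * x⁻¹)) * w'⁻¹ := by group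
      _ = x * w * x⁻¹ * ((x * w' * x⁻¹) * w⁻¹) * w'⁻¹ := by rw [h1]
      _ = x * (w * w') * x⁻¹ * (w⁻¹ * w'⁻¹) := by group
      _ = x * (w * w') * x⁻¹ * (w * w')⁻¹ := by rw [mul_inv_rev, h2]
  inv_mem' := by
    rintro _ ⟨w, hw, rfl⟩
    refine ⟨w⁻¹, W.inv_mem hw, ?_⟩
    have ha : x * w⁻¹ * x⁻¹ ∈ W := (mem_normalizer_iff.mp hx _).mp (W.inv_mem hw)
    have h1 : w * (x * w⁻¹ * x⁻¹) = (x * w⁻¹ * x⁻¹) * w := (mem_centralizer_iff.mp (hW ha)) _ hw
    calc (x * w * x⁻¹ * w⁻¹)⁻¹ = w * (x * w⁻¹ * x⁻¹) := by group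
      _ = (x * w⁻¹ * x⁻¹) * w := h1
      _ = x * w⁻¹ * x⁻¹ * w⁻¹⁻¹ := by group

theorem mem_centralizer_of_AB [Finite G] [Fact p.Prime] {W P : Subgroup G} (hWp : IsPGroup p W)
    (hW : W ≤ centralizer (W : Set G)) {x : G} (hx : x ∈ normalizer (W : Set G))
    (hxc : Nat.Coprime (orderOf x) p) (hP : IsPGroup p P) (hPW : P ≤ normalizer (W : Set G))
    (hcomm : ∀ e ∈ P, x⁻¹ * e * x * e⁻¹ ∈ centralizer (W : Set G))
    (hfix : ∀ w ∈ W ⊓ centralizer (P : Set G), x * w = w * x) : x ∈ centralizer (W : Set G) := by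
  by_contra hno
  set U := commSub W hW x hx with hU
  have hUW : U ≤ W := by
    rintro _ ⟨w, hw, rfl⟩
    exact W.mul_mem ((mem_normalizer_iff.mp hx w).mp hw) (W.inv_mem hw)
  have hU1 : U ≠ ⊥ := by
    intro hb
    apply hno
    rw [mem_centralizer_iff]
    intro w hw
    have h1 : x * w * x⁻¹ * w⁻¹ ∈ U := ⟨w, hw, rfl⟩
    rw [hb, mem_bot] at h1
    calc w * x = (x * w * x⁻¹ * w⁻¹)⁻¹ * (x * w) := by group
      _ = x * w := by rw [h1]; simp
  have hPU : P ≤ normalizer (U : Set G) := by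
    rw [le_normalizer_iff]
    rintro e he _ ⟨w, hw, rfl⟩
    have hw1 : e * w * e⁻¹ ∈ W := (le_normalizer_iff.mp hPW) e he w hw
    refine ⟨e * w * e⁻¹, hw1, ?_⟩
    have hc := (mem_centralizer_iff.mp (hcomm e he)) _ hw1
    calc e * (x * w * x⁻¹ * w⁻¹) * e⁻¹
        = x * ((x⁻¹ * e * x * e⁻¹) * (e * w * e⁻¹)) * (x⁻¹ * e * x * e⁻¹)⁻¹ * x⁻¹ * (e * w * e⁻¹)⁻¹ := by
          group
      _ = x * ((e * w * e⁻¹) * (x⁻¹ * e * x * e⁻¹)) * (x⁻¹ * e * x * e⁻¹)⁻¹ * x⁻¹ * (e * w * e⁻¹)⁻¹ := by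
          rw [hc]
      _ = x * (e * w * e⁻¹) * x⁻¹ * (e * w * e⁻¹)⁻¹ := by group
  obtain ⟨u, hu1, hu⟩ := exists_ne_one_mem_inf_centralizer hP (hWp.to_le hUW) hU1 hPU
  obtain ⟨w, hw, rfl⟩ := hu.1
  apply hu1
  have h1 : x * w = w * x :=
    comm_of_stab (A := W ⊓ centralizer (P : Set G)) (hWp.to_le inf_le_left) hxc hfix ⟨hUW hu.1, hu.2⟩
  rw [h1]; group

theorem inf_centralizer_largest_le [Finite G] [Fact p.Prime] {K L : Subgroup G} (hLK : L ≤ K)
    (hKL : K ≤ normalizer (L : Set G)) :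
    L ⊓ centralizer (largestPReducedOf p K : Set G) ≤
      centralizer (largestPReducedOf p L : Set G) := by
  set V := largestPReducedOf p L with hVdef
  have hV : PRed p V L := pRed_largest L
  have hKV : K ≤ normalizer (V : Set G) := hKL.trans (normalizer_le_normalizer_largest L)
  have key : ∀ n : ℕ, ∀ W : Subgroup G, Nat.card W = n → W ≤ V → K ≤ normalizer (W : Set G) →
      L ⊓ centralizer (W : Set G) ≤ centralizer (V : Set G) →
      ∃ W', PRed p W' K ∧ L ⊓ centralizer (W' : Set G) ≤ centralizer (V : Set G) := by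
    intro n
    induction n using Nat.strong_induction_on with
    | _ n ih =>
      intro W hn hWV hKW hC
      by_cases hred : PRed p W K
      · exact ⟨W, hred, hC⟩
      have hWel : IsElementaryAbelian p W := IsElementaryAbelian.mono hV.2.2.1 hWV
      have hWp : IsPGroup p W := IsElementaryAbelian.isPGroup hWel
      have hWc : W ≤ centralizer (W : Set G) := (isElementaryAbelian_iff.mp hWel).1
      have hex : ∃ D : Subgroup G, D ≤ K ∧ K ≤ normalizer (D : Set G) ∧
          (∀ d ∈ D, ∃ k : ℕ, d ^ (p ^ k) ∈ centralizer (W : Set G)) ∧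
          ¬ D ≤ centralizer (W : Set G) := by
        by_contra hno
        push Not at hno
        exact hred ⟨(hWV.trans hV.1).trans hLK, hKW, hWel, hno⟩
      obtain ⟨D, hDK, hKD, hpow, hDW⟩ := hex
      obtain ⟨P, hP⟩ := exists_isSyl (p := p) D
      have hKCW := le_normalizer_centralizer hKW
      have hsup : (D ⊓ centralizer (W : Set G)) ⊔ P = D :=
        hP.sup_eq inf_le_left (le_normalizer_inf le_normalizer (hDK.trans hKCW)) (by
          intro d hd
          obtain ⟨k, hk⟩ := hpow d hd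
          exact ⟨k, D.pow_mem hd _, hk⟩)
      set W' := W ⊓ centralizer (D : Set G) with hW'
      have hWP : W ⊓ centralizer (P : Set G) ≤ W' := by
        apply le_inf inf_le_left
        rw [le_centralizer_iff, ← hsup]
        apply sup_le
        · exact inf_le_right.trans (centralizer_le inf_le_left)
        · rw [le_centralizer_iff]; exact inf_le_right
      have hKW' : K ≤ normalizer (W' : Set G) :=
        le_normalizer_inf hKW (le_normalizer_centralizer hKD)
      have hlt : Nat.card W' < n := by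
        rw [← hn]
        by_contra hge
        push Not at hge
        have h1 : W' = W := Subgroup.eq_of_le_of_card_ge inf_le_left hge
        apply hDW
        rw [le_centralizer_iff, ← h1]
        exact inf_le_right
      have hDL : D ⊓ L ≤ centralizer (V : Set G) := by
        apply hV.2.2.2 (D ⊓ L) inf_le_right (le_normalizer_inf (hLK.trans hKD) le_normalizer)
        intro d hd
        obtain ⟨k, hk⟩ := hpow d hd.1
        exact ⟨k, hC ⟨L.pow_mem hd.2 _, hk⟩⟩
      apply ih _ hlt W' rfl (inf_le_left.trans hWV) hKW'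
      apply hV.2.2.2 _ inf_le_left
        (le_normalizer_inf le_normalizer (hLK.trans (le_normalizer_centralizer hKW')))
      intro d hd
      obtain ⟨k, hk⟩ := exists_pow_coprime (p := p) d
      refine ⟨k, ?_⟩
      set x := d ^ (p ^ k) with hx
      have hxL : x ∈ L := L.pow_mem hd.1 _
      have hxW' : x ∈ centralizer (W' : Set G) := Subgroup.pow_mem _ hd.2 _
      apply hC
      refine ⟨hxL, ?_⟩
      apply mem_centralizer_of_AB hWp hWc (hKW (hLK hxL)) hk hP.isPGroup ((hP.le.trans hDK).trans hKW)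
      · intro e he
        apply centralizer_le (SetLike.coe_subset_coe.mpr hWV)
        apply hDL
        constructor
        · have h1 : x⁻¹ * e * x⁻¹⁻¹ ∈ D :=
            (le_normalizer_iff.mp hKD) _ (K.inv_mem (hLK hxL)) _ (hP.le he)
          rw [inv_inv] at h1
          exact D.mul_mem h1 (D.inv_mem (hP.le he))
        · have h1 : e * x * e⁻¹ ∈ L := (le_normalizer_iff.mp hKL) _ (hDK (hP.le he)) _ hxL
          have h2 : x⁻¹ * e * x * e⁻¹ = x⁻¹ * (e * x * e⁻¹) := by group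
          rw [h2]
          exact L.mul_mem (L.inv_mem hxL) h1
      · intro w hw
        exact ((mem_centralizer_iff.mp hxW') w (hWP hw)).symm
  obtain ⟨W', h1, h2⟩ := key _ V rfl le_rfl hKV inf_le_right
  exact (inf_le_inf_left _ (centralizer_le (SetLike.coe_subset_coe.mpr (PRed.le_largest h1)))).trans h2

theorem inf_centralizer_largest_eq [Finite G] [Fact p.Prime] {K L : Subgroup G} (hLK : L ≤ K)
    (hKL : K ≤ normalizer (L : Set G)) :
    L ⊓ centralizer (largestPReducedOf p L : Set G) =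
      L ⊓ centralizer (largestPReducedOf p K : Set G) := by
  apply le_antisymm
  · rw [← PRed.inf_centralizer_inf (pRed_largest K) hLK hKL]
    exact inf_le_inf_left _ (centralizer_le (SetLike.coe_subset_coe.mpr
      (PRed.le_largest (PRed.inf_normal (pRed_largest K) hLK hKL))))
  · exact le_inf inf_le_left (inf_centralizer_largest_le hLK hKL)

/-! ### subnormal subgroups -/

theorem subnormal_main [Finite G] [Fact p.Prime] {L : Subgroup G} (hL : L.IsSubnormal) :
    (∀ Y, PRed p Y ⊤ → PRed p (Y ⊓ L) L) ∧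
    (∀ Y, PRed p Y ⊤ → L ⊓ centralizer ((Y ⊓ L : Subgroup G) : Set G) = L ⊓ centralizer (Y : Set G)) ∧
    L ⊓ centralizer (largestPReducedOf p L : Set G) =
      L ⊓ centralizer (largestPReducedOf p (⊤ : Subgroup G) : Set G) := by
  induction hL with
  | top => exact ⟨fun Y hY => by rwa [inf_top_eq], fun Y _ => by rw [inf_top_eq], rfl⟩
  | step L K hLK _ hN ih =>
    obtain ⟨ihA, ihB, ihC⟩ := ih
    have hKL : K ≤ normalizer (L : Set G) := (normal_subgroupOf_iff_le_normalizer hLK).mp hN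
    have he : ∀ Y : Subgroup G, Y ⊓ K ⊓ L = Y ⊓ L := by
      intro Y; rw [inf_assoc, inf_eq_right.mpr hLK]
    have hl : ∀ X : Subgroup G, L ⊓ X = L ⊓ (K ⊓ X) := by
      intro X; rw [← inf_assoc, inf_eq_left.mpr hLK]
    refine ⟨?_, ?_, ?_⟩
    · intro Y hY
      have := PRed.inf_normal (ihA Y hY) hLK hKL
      rwa [he] at this
    · intro Y hY
      have := PRed.inf_centralizer_inf (ihA Y hY) hLK hKL
      rw [he] at this
      rw [this, hl, ihB Y hY, ← hl]
    · rw [inf_centralizer_largest_eq hLK hKL, hl, ihC, ← hl]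

end Cfsg.Agent.Lib.Helper53Subn
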