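import Cfsg.Agent.Lib.Helper53FrakH2
import Cfsg.Agent.Lib.Helper53Subn
import Cfsg.Agent.Lib.Helper53PMin

set_option autoImplicit false
set_option linter.unusedSectionVars false
set_option linter.unusedVariables false

namespace Cfsg.Agent.Lib.Helper53SPI

open Cfsg Subgroup Cfsg.Agent.Lib.Helper53Basic Cfsg.Agent.Lib.Helper53Rel
open Cfsg.Agent.Lib.Helper53Syl Cfsg.Agent.Lib.Helper53Comm Cfsg.Agent.Lib.Helper53Min
open Cfsg.Agent.Lib.Helper53Act Cfsg.Agent.Lib.Helper53FrakH Cfsg.Agent.Lib.Helper53FrakH2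
open Cfsg.Agent.Lib.Helper53Subn Cfsg.Agent.Lib.Helper53PMin Cfsg.Agent.Lib.Helper53PIrr
open scoped commutatorElement

variable {G : Type*} [Group G] {p : ℕ}

local notation "⟪" Q ", " g "⟫" => Subgroup.map (MulEquiv.toMonoidHom (MulAut.conj g)) Q

/-- strongly `p`-irreducible, relative form. -/
def SPI (p : ℕ) (F : Subgroup G) : Prop :=
  ¬ IsPClosed p ↥F ∧ ∀ B : Subgroup G, B ≤ F → F ≤ normalizer (B : Set G) →
    ¬ ⁅B, F⁆ ≤ pCoreOf p F → (pResidual p ↥F).map F.subtype ≤ B

theorem spi_of {F : Subgroup G} (h : IsStronglyPIrreducible p ↥F) : SPI p F := by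
  refine ⟨h.1, ?_⟩
  intro B hBF hFB hc
  have h1 := h.2 (B.subgroupOf F) ((normal_subgroupOf_iff_le_normalizer hBF).mpr hFB) (by
    intro hle
    apply hc
    have h2 := Subgroup.map_mono (f := F.subtype) hle
    rw [map_commutator, map_subgroupOf_eq_of_le hBF, ← MonoidHom.range_eq_map, range_subtype] at h2
    exact h2)
  have h3 := Subgroup.map_mono (f := F.subtype) h1
  rwa [map_subgroupOf_eq_of_le hBF] at h3

variable [Finite G] [Fact p.Prime]

theorem isPClosed_of_le {E F : Subgroup G} (hEF : E ≤ F) (hF : IsPClosed p ↥F) :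
    IsPClosed p ↥E := by
  obtain ⟨S, hS⟩ := exists_isSyl (p := p) E
  have h1 : S ≤ pCoreOf p F := isPGroup_le_pCoreOf_of_isPClosed hF hS.isPGroup (hS.le.trans hEF)
  have h2 : pCoreOf p F ⊓ E = S :=
    hS.eq_of_le ((pCoreOf_isPGroup F).to_le inf_le_left) inf_le_right (le_inf h1 hS.le)
  apply isPClosed_of_isSyl hS
  rw [← h2]
  exact le_normalizer_inf (hEF.trans (le_normalizer_pCoreOf F)) le_normalizer

theorem SPI.sup {E P : Subgroup G} (h : SPI p E) (hP : IsPGroup p P)
    (hEP : E ≤ normalizer (P : Set G)) (hcore : pCoreOf p (E ⊔ P) = P) : SPI p (E ⊔ P) := by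
  refine ⟨fun hc => h.1 (isPClosed_of_le le_sup_left hc), ?_⟩
  intro B hB hn hc
  rw [hcore] at hc
  have hFP : E ⊔ P ≤ normalizer (P : Set G) := sup_le hEP le_normalizer
  have hOE : pCoreOf p E ≤ P := by
    have h1 : pCoreOf p E ⊔ P ≤ pCoreOf p (E ⊔ P) := by
      apply le_pCoreOf (sup_le_sup_right (pCoreOf_le E) P)
      · apply sup_le
        · exact le_normalizer_sup (le_normalizer_pCoreOf E) hEP
        · exact le_sup_right.trans le_normalizer
      · exact (pCoreOf_isPGroup E).to_sup_of_normal_right' hP ((pCoreOf_le E).trans hEP)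
    rw [hcore] at h1
    exact le_sup_left.trans h1
  set A := E ⊓ (B ⊔ P) with hA
  have hBP : B ⊔ P = P ⊔ A := by
    have := dedekind (A := P) (B := E) (C := B ⊔ P) le_sup_right hEP
    rw [sup_comm, inf_eq_right.mpr (sup_le hB le_sup_right)] at this
    exact this
  have hEA : E ≤ normalizer (A : Set G) :=
    le_normalizer_inf le_normalizer (le_normalizer_sup (le_sup_left.trans hn) hEP)
  have hAP : A ≤ normalizer (P : Set G) := inf_le_left.trans hEP
  have h1 : (pResidual p ↥E).map E.subtype ≤ A := by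
    apply h.2 A inf_le_left hEA
    intro hle
    apply hc
    have h2 : ⁅E, A⁆ ≤ P := by rw [commutator_comm]; exact hle.trans hOE
    have h3 : ⁅P ⊔ A, E⁆ ≤ P := by
      rw [commutator_comm]
      exact commutator_sup_le (commutator_le_of_le_normalizer hEP) h2 le_normalizer hAP
    have h4 : ⁅P ⊔ A, P⁆ ≤ P := commutator_le_of_le_normalizer (sup_le le_normalizer hAP)
    calc ⁅B, E ⊔ P⁆ ≤ ⁅P ⊔ A, E ⊔ P⁆ := commutator_mono (le_sup_left.trans hBP.le) le_rfl
      _ ≤ P := commutator_sup_le h3 h4 hEP le_normalizer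
  apply pRes_le_of_forall_pow_mem
  intro g hg
  rw [mem_sup_of_le_normalizer hEP] at hg
  obtain ⟨e, he, u, hu, rfl⟩ := hg
  obtain ⟨k, hk⟩ := exists_pow_mem_pRes (p := p) he
  obtain ⟨u', hu', hpow⟩ := mul_pow_mem hEP he hu (p ^ k)
  have h2 : (e * u) ^ (p ^ k) ∈ P ⊔ B := by
    rw [hpow, sup_comm]
    exact (B ⊔ P).mul_mem ((h1.trans inf_le_right) hk) (le_sup_right (a := B) hu')
  obtain ⟨j, hj⟩ := exists_pow_mem_of_mem_sup (le_sup_right.trans hn) hP h2
  exact ⟨k + j, by rw [pow_add, pow_mul]; exact hj⟩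

/-- generated by `p`-subgroups. -/
def GenP (p : ℕ) (F : Subgroup G) : Prop :=
  ∀ C : Subgroup G, (∀ S : Subgroup G, S ≤ F → IsPGroup p S → S ≤ C) → F ≤ C

theorem SPI.genP {F : Subgroup G} (h : SPI p F) : GenP p F := by
  intro C hC
  obtain ⟨S, hS⟩ := exists_isSyl (p := p) F
  set W := ncl S F with hW
  have hWF : W ≤ F := ncl_le_self hS.le
  have hFW : F ≤ normalizer (W : Set G) := le_normalizer_ncl S F
  have hWC : W ≤ C := by
    apply sSup_le
    rintro _ ⟨u, hu, rfl⟩
    exact hC _ (cj_le_of_mem hu hS.le) (isPGroup_cj hS.isPGroup u)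
  by_cases hc : ⁅W, F⁆ ≤ pCoreOf p F
  · exfalso
    apply h.1
    apply isPClosed_of_isSyl hS
    apply le_normalizer_of_commutator_le
    rw [commutator_comm]
    exact ((commutator_mono (le_ncl S F) le_rfl).trans hc).trans (pCoreOf_le_isSyl hS)
  · have h1 := h.2 W hWF hFW hc
    rw [← hS.pRes_sup_eq]
    exact (sup_le h1 (le_ncl S F)).trans hWC

theorem comm_le_of_genP {F A : Subgroup G} (hgen : GenP p F) (hA : A ≤ normalizer (F : Set G))
    (h : ⁅⁅F, A⁆, F⁆ ≤ pCoreOf p F) : ⁅F, A⁆ ≤ pCoreOf p F := by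
  set P := pCoreOf p F with hP
  have hAP : A ≤ normalizer (P : Set G) := hA.trans (normalizer_le_normalizer_pCoreOf F)
  have hFP : F ≤ normalizer (P : Set G) := le_normalizer_pCoreOf F
  have hPF : P ≤ F := pCoreOf_le F
  set Z := F ⊓ commStab F P with hZ
  have hcZ : ⁅F, A⁆ ≤ Z := by
    apply le_inf (commutator_le_of_le_normalizer' hA)
    intro c hc
    refine ⟨hFP (commutator_le_of_le_normalizer' hA hc), fun f hf => ?_⟩
    apply h
    rw [commutator_comm]
    exact commutator_mem_commutator hf hc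
  have hAZ : A ≤ normalizer (Z : Set G) := le_normalizer_inf hA (le_normalizer_commStab hA hAP)
  have hPZ : P ≤ Z := by
    apply le_inf hPF
    intro u hu
    refine ⟨le_normalizer (H := P) hu, fun f hf => ?_⟩
    rw [commutatorElement_def]
    exact P.mul_mem ((le_normalizer_iff.mp hFP) f hf u hu) (P.inv_mem hu)
  have key : F ≤ commStab A P := by
    apply hgen
    intro S₀ hS₀F hS₀p
    obtain ⟨S, hS, hS₀S⟩ := exists_isSyl_ge hS₀p hS₀F
    refine hS₀S.trans ?_
    have hPS : P ≤ S := pCoreOf_le_isSyl hS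
    have hZS : Z ≤ normalizer (S : Set G) := by
      rw [le_normalizer_iff]
      intro z hz s hs
      have h1 : ⁅s, z⁆ ∈ P := hz.2.2 s (hS.le hs)
      have h2 : z * s * z⁻¹ = ⁅s, z⁆⁻¹ * s := by simp only [commutatorElement_def]; group
      rw [h2]
      exact S.mul_mem (S.inv_mem (hPS h1)) hs
    have hSZ : IsSyl p S (S ⊔ Z) := hS.mono le_sup_left (sup_le hS.le inf_le_left)
    have hSeq : S = pCoreOf p (S ⊔ Z) := hSZ.eq_pCoreOf (sup_le le_normalizer hZS)
    have hASZ : A ≤ normalizer ((S ⊔ Z : Subgroup G) : Set G) := by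
      apply le_normalizer_of_commutator_le
      apply commutator_sup_le _ _ (le_sup_left.trans le_normalizer) (le_sup_right.trans le_normalizer)
      · rw [commutator_comm]
        exact ((commutator_mono hS.le le_rfl).trans hcZ).trans le_sup_right
      · exact (commutator_le_of_le_normalizer hAZ).trans le_sup_right
    have hAS : A ≤ normalizer (S : Set G) := by
      have := hASZ.trans (normalizer_le_normalizer_pCoreOf (p := p) (S ⊔ Z))
      rwa [← hSeq] at this
    have hSZP : S ⊓ Z ≤ P := by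
      apply le_pCoreOf (inf_le_left.trans hS.le) _ (hS.isPGroup.to_le inf_le_left)
      rw [le_normalizer_iff]
      intro f hf z hz
      have h1 : ⁅f, z⁆ ∈ P := hz.2.2.2 f hf
      have h2 : f * z * f⁻¹ = ⁅f, z⁆ * z := by simp only [commutatorElement_def]; group
      rw [h2]
      exact (S ⊓ Z).mul_mem (le_inf hPS hPZ h1) hz
    intro s hs
    refine ⟨hFP (hS.le hs), fun a ha => ?_⟩
    apply hSZP
    constructor
    · rw [commutatorElement_def]
      exact S.mul_mem ((le_normalizer_iff.mp hAS) a ha s hs) (S.inv_mem hs)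
    · apply hcZ
      rw [commutator_comm]
      exact commutator_mem_commutator ha (hS.le hs)
  rw [commutator_comm, commutator_le]
  intro a ha f hf
  exact (key hf).2 a ha

theorem pow_mem_of_sSup {𝒮 : Set (Subgroup G)} {L C : Subgroup G}
    (hLC : L ≤ normalizer (C : Set G)) (h : ∀ D ∈ 𝒮, Good p L C D) :
    ∀ x ∈ sSup 𝒮, ∃ k : ℕ, x ^ (p ^ k) ∈ C := by
  obtain ⟨D₀, h1, h2⟩ := exists_largest_good (p := p) hLC
  intro x hx
  exact h1.2.2 x ((sSup_le fun D hD => h2 D (h D hD)) hx)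

end Cfsg.Agent.Lib.Helper53SPI
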