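import Cfsg.Agent.Lib.Helper53Act
import Cfsg.Agent.Lib.Helper73Comm

set_option autoImplicit false

namespace Cfsg.Agent.Lib.Helper53Stab

open Subgroup Cfsg.Agent.Lib.Helper53Act Cfsg.Agent.Lib.Helper73Comm
open scoped commutatorElement

variable {H : Type*} [Group H] {p : ℕ}

/-- the lower central series of a subgroup, in the ambient group. -/
def lcs (A : Subgroup H) : ℕ → Subgroup H
  | 0 => A
  | (k + 1) => ⁅lcs A k, A⁆

theorem lcs_normal (A : Subgroup H) [A.Normal] (k : ℕ) : (lcs A k).Normal := by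
  induction k with
  | zero => exact inferInstanceAs A.Normal
  | succ k ih => have := ih; exact inferInstanceAs (⁅lcs A k, A⁆).Normal

theorem lcs_eq (A : Subgroup H) (k : ℕ) : lcs A k = A.lowerCentralSeries k := by
  induction k with
  | zero => rfl
  | succ k ih =>
    show ⁅lcs A k, A⁆ = ⁅A.lowerCentralSeries k, A⁆
    rw [ih]

theorem lcs_le (A : Subgroup H) (k : ℕ) : lcs A k ≤ A := by
  rw [lcs_eq]; exact A.lowerCentralSeries_le_self k

theorem exists_lcs_eq_bot [Finite H] [Fact p.Prime] {A : Subgroup H} (hA : IsPGroup p A) :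
    ∃ n, lcs A n = ⊥ := by
  have h1 : Group.IsNilpotent ↥A := hA.isNilpotent
  obtain ⟨n, hn⟩ := (Subgroup.isNilpotent_iff_lowerCentralSeries A).mp h1
  exact ⟨n, by rw [lcs_eq, hn]⟩

theorem lcs_one_comm_le (A : Subgroup H) [A.Normal] (k : ℕ) :
    ⁅⁅A, A⁆, lcs A k⁆ ≤ lcs A (k + 2) := by
  have := lcs_normal A (k + 2)
  apply three_subgroups_le
  · show ⁅⁅A, lcs A k⁆, A⁆ ≤ ⁅⁅lcs A k, A⁆, A⁆
    rw [commutator_comm A (lcs A k)]
  · exact le_refl _

theorem comm_lcs_le {A X : Subgroup H} [A.Normal] (h : ⁅A, X⁆ ≤ ⁅A, A⁆) (k : ℕ) :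
    ⁅lcs A k, X⁆ ≤ lcs A (k + 1) := by
  induction k with
  | zero => exact h
  | succ k ih =>
    have := lcs_normal A (k + 2)
    show ⁅⁅lcs A k, A⁆, X⁆ ≤ lcs A (k + 2)
    apply three_subgroups_le
    · exact (commutator_mono h (le_refl _)).trans (lcs_one_comm_le A k)
    · rw [commutator_comm X]
      exact commutator_mono ih (le_refl _)

/-- a `p'`-element acting trivially on `A/A'` centralizes the normal `p`-subgroup `A`. -/
theorem comm_of_commutator_le [Finite H] [Fact p.Prime] {A : Subgroup H} [A.Normal]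
    (hA : IsPGroup p A) {x : H} (hx : Nat.Coprime (orderOf x) p)
    (h : ∀ a ∈ A, ⁅a, x⁆ ∈ ⁅A, A⁆) : ∀ a ∈ A, x * a = a * x := by
  have h1 : ⁅A, zpowers x⁆ ≤ ⁅A, A⁆ := by
    have : (⁅A, A⁆ : Subgroup H).Normal := inferInstance
    have h2 : zpowers x ≤ Cfsg.Agent.Lib.Helper53Comm.commStab A ⁅A, A⁆ := by
      rw [zpowers_le]
      exact ⟨by rw [normalizer_eq_top]; exact mem_top _, h⟩
    rw [commutator_le]
    intro a ha y hy
    exact (h2 hy).2 a ha
  have h2 := comm_lcs_le h1
  obtain ⟨n, hn⟩ := exists_lcs_eq_bot hA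
  have h3 : ∀ k, ∀ a ∈ lcs A (n - k), x * a = a * x := by
    intro k
    induction k with
    | zero =>
      intro a ha
      rw [Nat.sub_zero, hn, mem_bot] at ha
      rw [ha]; simp
    | succ k ih =>
      by_cases hk : n ≤ k
      · have : n - (k + 1) = n - k := by omega
        rwa [this]
      · have h4 : n - k = (n - (k + 1)) + 1 := by omega
        intro a ha
        rw [h4] at ih
        apply comm_of_stab (hA.to_le (lcs_le A _)) hx ih
        have h5 : ⁅a, x⁆ ∈ lcs A (n - (k + 1) + 1) :=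
          h2 _ (commutator_mem_commutator ha (mem_zpowers x))
        have h6 : x * a * x⁻¹ * a⁻¹ = ⁅a, x⁆⁻¹ := by
          simp only [commutatorElement_def]; group
        rw [h6]
        exact inv_mem h5
  intro a ha
  have := h3 n a
  rw [Nat.sub_self] at this
  exact this ha

/-- relative form. -/
theorem comm_of_commutator_le_rel {G : Type*} [Group G] [Finite G] [Fact p.Prime]
    {A : Subgroup G} (hA : IsPGroup p A) {x : G} (hxA : x ∈ normalizer (A : Set G))
    (hx : Nat.Coprime (orderOf x) p)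
    (h : ∀ a ∈ A, ⁅a, x⁆ ∈ ⁅A, A⁆) : ∀ a ∈ A, x * a = a * x := by
  set N := normalizer (A : Set G) with hN
  have hAN : A ≤ N := le_normalizer
  have : (A.subgroupOf N).Normal := normal_in_normalizer
  have hA' : IsPGroup p (A.subgroupOf N) := hA.comap_subtype
  have hm : (⁅A.subgroupOf N, A.subgroupOf N⁆ : Subgroup N).map N.subtype = ⁅A, A⁆ := by
    rw [map_commutator, map_subgroupOf_eq_of_le hAN]
  have h1 := comm_of_commutator_le (H := N) (A := A.subgroupOf N) hA' (x := ⟨x, hxA⟩)
    (by rw [← Subgroup.orderOf_coe]; exact hx) (by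
      intro a ha
      have h2 := h a (mem_subgroupOf.mp ha)
      rw [← hm] at h2
      obtain ⟨c, hc, hc'⟩ := h2
      have : c = ⁅a, (⟨x, hxA⟩ : N)⁆ := Subtype.ext (by rw [← coe_subtype, hc']; rfl)
      rwa [← this])
  intro a ha
  have := h1 ⟨a, hAN ha⟩ (mem_subgroupOf.mpr ha)
  exact congrArg Subtype.val this

end Cfsg.Agent.Lib.Helper53Stab
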