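import Cfsg.Agent.Lib.Helper53PRed3

set_option autoImplicit false

namespace Cfsg.Agent.Lib.Helper53Trace

open Cfsg Subgroup Cfsg.Agent.Lib.Helper53Basic Cfsg.Agent.Lib.Helper53Rel
open Cfsg.Agent.Lib.Helper53Syl Cfsg.Agent.Lib.Helper53Comm Cfsg.Agent.Lib.Helper53Min
open scoped commutatorElement

/-- the relative trace map. -/
theorem trace_lemma {Γ A : Type*} [Group Γ] [CommGroup A] [MulDistribMulAction Γ A]
    (T : Subgroup Γ) [Fintype (Γ ⧸ T)] (a : A) (ha : ∀ t ∈ T, t • a = a) (B : Subgroup A)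
    (hB : ∀ g : Γ, g • a * a⁻¹ ∈ B) :
    ∃ u : A, (∀ g : Γ, g • u = u) ∧ u * (a ^ T.index)⁻¹ ∈ B := by
  classical
  have hrep : ∀ g h : Γ, (g : Γ ⧸ T) = (h : Γ ⧸ T) → g • a = h • a := by
    intro g h hgh
    have h1 : h⁻¹ * g ∈ T := QuotientGroup.eq.mp hgh.symm
    have h2 := ha _ h1
    calc g • a = h • ((h⁻¹ * g) • a) := by rw [smul_smul]; simp
      _ = h • a := by rw [h2]
  refine ⟨∏ c : Γ ⧸ T, (Quotient.out c) • a, ?_, ?_⟩
  · intro g
    rw [Finset.smul_prod']
    have h1 : ∀ c : Γ ⧸ T, g • (Quotient.out c • a) = Quotient.out (g • c) • a := by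
      intro c
      rw [smul_smul]
      apply hrep
      have h2 : ((Quotient.out (g • c) : Γ) : Γ ⧸ T) = g • c := Quotient.out_eq' _
      rw [h2]
      conv_rhs => rw [← Quotient.out_eq' c]
      rfl
    simp_rw [h1]
    exact Equiv.prod_comp (MulAction.toPerm g) (fun c : Γ ⧸ T => Quotient.out c • a)
  · have h1 : (∏ c : Γ ⧸ T, (Quotient.out c) • a) * (a ^ T.index)⁻¹ =
        ∏ c : Γ ⧸ T, ((Quotient.out c) • a * a⁻¹) := by
      rw [Finset.prod_mul_distrib, Finset.prod_const, Finset.card_univ, inv_pow, index_eq_card,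
        Nat.card_eq_fintype_card]
    rw [h1]
    exact Subgroup.prod_mem _ (fun c _ => hB _)

variable {G : Type*} [Group G] {p : ℕ}

/-- the trace lemma inside an ambient group. -/
theorem trace_lemma' [Finite G] {T L Z W : Subgroup G}
    (hLZ : L ≤ normalizer (Z : Set G)) (hZ : Z ≤ centralizer (Z : Set G))
    (hW : ⁅L, Z⁆ ≤ W) {z : G} (hz : z ∈ Z) (hzT : z ∈ centralizer (T : Set G)) :
    ∃ u ∈ Z ⊓ centralizer (L : Set G), u * (z ^ T.relIndex L)⁻¹ ∈ W := by
  classical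
  let _ : CommGroup Z :=
    { (inferInstance : Group Z) with
      mul_comm := fun a b => Subtype.ext ((mem_centralizer_iff.mp (hZ b.2)) a a.2) }
  let _ : MulDistribMulAction L Z := MulDistribMulAction.compHom Z (Subgroup.inclusion hLZ)
  have hsmul : ∀ (l : L) (a : Z), ((l • a : Z) : G) = (l : G) * (a : G) * (l : G)⁻¹ := by
    intro l a; rfl
  have : Fintype (L ⧸ T.subgroupOf L) := Fintype.ofFinite _
  obtain ⟨u, hu1, hu2⟩ := trace_lemma (T.subgroupOf L) (⟨z, hz⟩ : Z) (by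
      intro t ht
      apply Subtype.ext
      rw [hsmul]
      have h1 : (t : G) * z = z * (t : G) := (mem_centralizer_iff.mp hzT) _ ht
      show (t : G) * z * (t : G)⁻¹ = z
      rw [h1]; group) (W.subgroupOf Z) (by
      intro g
      rw [mem_subgroupOf]
      have h1 : ⁅(g : G), z⁆ ∈ W := hW (commutator_mem_commutator g.2 hz)
      exact h1)
  refine ⟨u, Subgroup.mem_inf.mpr ⟨u.2, ?_⟩, ?_⟩
  · rw [mem_centralizer_iff]
    intro l hl
    have h1 := congrArg Subtype.val (hu1 ⟨l, hl⟩)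
    rw [hsmul] at h1
    have h2 : l * (u : G) * l⁻¹ = (u : G) := h1
    calc l * (u : G) = (l * (u : G) * l⁻¹) * l := by group
      _ = (u : G) * l := by rw [h2]
  · rw [mem_subgroupOf] at hu2
    exact hu2

end Cfsg.Agent.Lib.Helper53Trace
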