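import Cfsg.Agent.Lib.Helper53Min

set_option autoImplicit false

namespace Cfsg.Agent.Lib.Helper53WC

open Cfsg Subgroup Cfsg.Agent.Lib.Helper53Basic Cfsg.Agent.Lib.Helper53Rel
open Cfsg.Agent.Lib.Helper53Syl Cfsg.Agent.Lib.Helper53Comm Cfsg.Agent.Lib.Helper53Min
open scoped commutatorElement

variable {G : Type*} [Group G] {p : ℕ}

local notation "⟪" Q ", " g "⟫" => Subgroup.map (MulEquiv.toMonoidHom (MulAut.conj g)) Q

/-- working form of weak closure of `Q` with respect to `K`. -/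
def WC (p : ℕ) (Q K : Subgroup G) : Prop :=
  ∀ g ∈ K, IsPGroup p ↥(Q ⊔ ⟪Q, g⟫) → ⟪Q, g⟫ = Q

theorem WC.mono {Q K K' : Subgroup G} (h : WC p Q K) (hK : K' ≤ K) : WC p Q K' :=
  fun g hg => h g (hK hg)

theorem WC.eq_of_le {Q K R : Subgroup G} (h : WC p Q K) (hR : IsPGroup p R) (hQR : Q ≤ R) {g : G}
    (hg : g ∈ K) (hgR : ⟪Q, g⟫ ≤ R) : ⟪Q, g⟫ = Q :=
  h g hg (hR.to_le (sup_le hQR hgR))

theorem WC.inf_normalizer_le {Q K R : Subgroup G} (h : WC p Q K) (hR : IsPGroup p R) (hQR : Q ≤ R) :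
    K ⊓ normalizer (R : Set G) ≤ normalizer (Q : Set G) := by
  intro g hg
  obtain ⟨hg1, hg2⟩ := Subgroup.mem_inf.mp hg
  rw [← cj_eq_iff_mem_normalizer]
  apply h.eq_of_le hR hQR hg1
  have := cj_mono g hQR
  rwa [cj_eq_iff_mem_normalizer.mpr hg2] at this

theorem WC.le_normalizer {Q K R : Subgroup G} (h : WC p Q K) (hR : IsPGroup p R) (hQR : Q ≤ R)
    (hRK : R ≤ K) : R ≤ normalizer (Q : Set G) :=
  (le_inf hRK Subgroup.le_normalizer).trans (h.inf_normalizer_le hR hQR)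

theorem cj_eq_symm {Q : Subgroup G} {g : G} (h : ⟪Q, g⁻¹⟫ = Q) : ⟪Q, g⟫ = Q := by
  rw [cj_eq_iff_mem_normalizer] at h ⊢
  simpa using Subgroup.inv_mem _ h

theorem wc_of_isWeaklyClosed [Finite G] [Fact p.Prime] {Q : Subgroup G} (T : Sylow p G)
    (h : IsWeaklyClosed Q (T : Subgroup G)) : WC p Q ⊤ := by
  intro g _ hP
  obtain ⟨x, -, hx⟩ := (isSyl_of_sylow_le T le_top).exists_le_cj hP le_top
  have h1 : ⟪Q, x⁻¹⟫ ≤ (T : Subgroup G) := by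
    rw [cj_le_iff, inv_inv]; exact le_sup_left.trans hx
  have h2 : ⟪Q, x⁻¹ * g⟫ ≤ (T : Subgroup G) := by
    rw [← cj_cj, cj_le_iff, inv_inv]; exact le_sup_right.trans hx
  have h3 := h.2 _ h1
  have h4 := h.2 _ h2
  rw [← cj_cj] at h4
  have h5 := congrArg (fun A => ⟪A, x⟫) h4
  simp only [cj_cj_inv] at h5
  rw [h5]
  exact cj_eq_symm h3

theorem WC.isWeaklyClosed {Q T : Subgroup G} (h : WC p Q ⊤) (hT : IsPGroup p T) (hQT : Q ≤ T) :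
    IsWeaklyClosed Q T :=
  ⟨hQT, fun _ hg => h.eq_of_le hT hQT (mem_top _) hg⟩

theorem isWeaklyClosedSubgroup_iff [Finite G] [Fact p.Prime] {Q : Subgroup G} (hQ : IsPGroup p Q) :
    IsWeaklyClosedSubgroup p Q ↔ WC p Q ⊤ := by
  constructor
  · rintro ⟨T, hT⟩
    exact wc_of_isWeaklyClosed T hT
  · intro h
    obtain ⟨T, hT⟩ := hQ.exists_le_sylow
    exact ⟨T, h.isWeaklyClosed T.2 hT⟩

theorem subgroupOf_cj {Q K : Subgroup G} (g : K) :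
    ⟪Q.subgroupOf K, g⟫ = (⟪Q, (g : G)⟫).subgroupOf K := by
  ext x
  rw [mem_cj, mem_subgroupOf, mem_subgroupOf, mem_cj]
  simp

theorem isPGroup_subgroupOf_iff {A K : Subgroup G} (h : A ≤ K) :
    IsPGroup p (A.subgroupOf K) ↔ IsPGroup p A := by
  constructor
  · intro hA
    have := hA.map K.subtype
    rwa [map_subgroupOf_eq_of_le h] at this
  · intro hA; exact hA.comap_subtype

theorem wc_subgroupOf_iff {Q K : Subgroup G} (hQK : Q ≤ K) :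
    WC p (Q.subgroupOf K) ⊤ ↔ WC p Q K := by
  constructor
  · intro h g hg hP
    have hgK : ⟪Q, g⟫ ≤ K := cj_le_of_mem hg hQK
    have h1 := h ⟨g, hg⟩ (mem_top _)
    rw [subgroupOf_cj, ← subgroupOf_sup hQK hgK, isPGroup_subgroupOf_iff (sup_le hQK hgK)] at h1
    have h2 := congrArg (Subgroup.map K.subtype) (h1 hP)
    rwa [map_subgroupOf_eq_of_le hgK, map_subgroupOf_eq_of_le hQK] at h2
  · intro h g _ hP
    have hgK : ⟪Q, (g : G)⟫ ≤ K := cj_le_of_mem g.2 hQK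
    rw [subgroupOf_cj, ← subgroupOf_sup hQK hgK, isPGroup_subgroupOf_iff (sup_le hQK hgK)] at hP
    rw [subgroupOf_cj, h g g.2 hP]

theorem isWeaklyClosedSubgroup_subgroupOf_iff [Finite G] [Fact p.Prime] {Q K : Subgroup G}
    (hQ : IsPGroup p Q) (hQK : Q ≤ K) :
    IsWeaklyClosedSubgroup p (Q.subgroupOf K) ↔ WC p Q K := by
  rw [isWeaklyClosedSubgroup_iff ((isPGroup_subgroupOf_iff hQK).mpr hQ), wc_subgroupOf_iff hQK]

theorem WC.conj_in [Finite G] [Fact p.Prime] {Q K H : Subgroup G} (h : WC p Q H)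
    (hQ : IsPGroup p Q) (hQK : Q ≤ K) (hKH : K ≤ H) {g : G} (hg : g ∈ H) (hgK : ⟪Q, g⟫ ≤ K) :
    ∃ k ∈ K, ⟪Q, g⟫ = ⟪Q, k⟫ := by
  obtain ⟨S, hS, hQS⟩ := exists_isSyl_ge hQ hQK
  obtain ⟨k, hk, hle⟩ := hS.exists_le_cj (isPGroup_cj hQ g) hgK
  refine ⟨k, hk, ?_⟩
  have h1 : ⟪Q, k⁻¹ * g⟫ ≤ S := by
    rw [← cj_cj, cj_le_iff, inv_inv]; exact hle
  have h2 := h.eq_of_le hS.isPGroup hQS (H.mul_mem (H.inv_mem (hKH hk)) hg) h1
  rw [← cj_cj] at h2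
  have h5 := congrArg (fun A => ⟪A, k⟫) h2
  simpa only [cj_cj_inv] using h5

theorem WC.cj {Q K : Subgroup G} (h : WC p Q K) (x : G) : WC p ⟪Q, x⟫ ⟪K, x⟫ := by
  intro g hg hP
  rw [mem_cj] at hg
  have h1 := h _ hg
  have h2 : Q ⊔ ⟪Q, x⁻¹ * g * x⟫ = ⟪⟪Q, x⟫ ⊔ ⟪⟪Q, x⟫, g⟫, x⁻¹⟫ := by
    rw [cj_sup, cj_inv_cj, cj_cj, cj_cj, mul_assoc]
  rw [h2] at h1
  have h3 := h1 (isPGroup_cj hP _)
  have h4 := congrArg (fun A => ⟪A, x⟫) h3
  simp only [cj_cj] at h4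
  rw [cj_cj, ← h4]
  congr 2
  group

theorem WC.cj_mem {Q K : Subgroup G} (h : WC p Q K) {x : G} (hx : x ∈ K) : WC p ⟪Q, x⟫ K := by
  have := h.cj x
  rwa [cj_eq_of_mem hx] at this

end Cfsg.Agent.Lib.Helper53WC
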