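import Cfsg.Agent.Lib.Helper53FrakH
import Cfsg.Agent.Lib.Helper73Comm

set_option autoImplicit false
set_option linter.unusedSectionVars false
set_option linter.unusedVariables false

namespace Cfsg.Agent.Lib.Helper53WCl

open Cfsg Subgroup Cfsg.Agent.Lib.Helper53Basic Cfsg.Agent.Lib.Helper53Rel
open Cfsg.Agent.Lib.Helper53Syl Cfsg.Agent.Lib.Helper53Comm Cfsg.Agent.Lib.Helper53Min
open Cfsg.Agent.Lib.Helper53WC Cfsg.Agent.Lib.Helper53Act
open Cfsg.Agent.Lib.Helper53Large2 Cfsg.Agent.Lib.Helper53FrakH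
open scoped commutatorElement

variable {G : Type*} [Group G] {p : ℕ}

local notation "⟪" Q ", " g "⟫" => Subgroup.map (MulEquiv.toMonoidHom (MulAut.conj g)) Q

/-- three subgroups lemma modulo a subgroup normalised by all three. -/
theorem three_rel {A B C N : Subgroup G} (hA : A ≤ normalizer (N : Set G))
    (hB : B ≤ normalizer (N : Set G)) (hC : C ≤ normalizer (N : Set G))
    (h1 : ⁅⁅B, C⁆, A⁆ ≤ N) (h2 : ⁅⁅C, A⁆, B⁆ ≤ N) : ⁅⁅A, B⁆, C⁆ ≤ N := by
  set M := normalizer (N : Set G) with hM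
  have hn : (N.subgroupOf M).Normal := normal_in_normalizer
  have key : ∀ X Y Z : Subgroup G, X ≤ M → Y ≤ M → Z ≤ M →
      (⁅⁅X.subgroupOf M, Y.subgroupOf M⁆, Z.subgroupOf M⁆ ≤ N.subgroupOf M ↔ ⁅⁅X, Y⁆, Z⁆ ≤ N) := by
    intro X Y Z hX hY hZ
    have h0 : N.subgroupOf M = N.comap M.subtype := rfl
    rw [h0, ← map_le_iff_le_comap, map_commutator, map_commutator,
      map_subgroupOf_eq_of_le hX, map_subgroupOf_eq_of_le hY, map_subgroupOf_eq_of_le hZ]
  rw [← key A B C hA hB hC]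
  apply Cfsg.Agent.Lib.Helper73Comm.three_subgroups_le
  · rw [key B C A hB hC hA]; exact h1
  · rw [key C A B hC hA hB]; exact h2

theorem pRes_pRes (L : Subgroup G) :
    (pResidual p ↥((pResidual p ↥L).map L.subtype)).map ((pResidual p ↥L).map L.subtype).subtype =
      (pResidual p ↥L).map L.subtype := by
  apply le_antisymm (pRes_le _)
  conv_lhs => rw [pRes_eq_closure]
  rw [closure_le]
  rintro g ⟨hg, hc⟩
  exact mem_pRes (mem_pRes hg hc) hc

theorem pRes_eq_of_pow_mem {N X : Subgroup G} (hNX : N ≤ X)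
    (h : ∀ x ∈ X, ∃ k : ℕ, x ^ (p ^ k) ∈ N) :
    (pResidual p ↥X).map X.subtype = (pResidual p ↥N).map N.subtype := by
  apply le_antisymm _ (pRes_mono hNX)
  rw [pRes_eq_closure, closure_le]
  rintro g ⟨hg, hc⟩
  obtain ⟨k, hk⟩ := h g hg
  exact mem_pRes (mem_of_pow_mem_of_coprime (Nat.Coprime.pow_right k hc) hk) hc

variable [Finite G] [Fact p.Prime] {Q : Subgroup G}

theorem weakClosure_eq_ncl_self (hwc : WC p Q ⊤) (hQp : IsPGroup p Q) {L : Subgroup G}
    (hQL : Q ≤ L) : weakClosure Q L = ncl Q (weakClosure Q L) := by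
  apply le_antisymm
  · rw [weakClosure_le_iff]
    intro g hg
    obtain ⟨l, hl, he⟩ := hwc.conj_in hQp (self_le_weakClosure hQL) le_top (mem_top g)
      (le_weakClosure hg)
    rw [he]
    exact cj_le_ncl Q hl
  · exact ncl_le_self (self_le_weakClosure hQL)

theorem pRes_weakClosure_sup (hwc : WC p Q ⊤) (hQp : IsPGroup p Q) {L : Subgroup G}
    (hQL : Q ≤ L) :
    (pResidual p ↥(weakClosure Q L)).map (weakClosure Q L).subtype ⊔ Q = weakClosure Q L := by
  set Lc := weakClosure Q L with hLc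
  set R := (pResidual p ↥Lc).map Lc.subtype with hR
  have hQLc : Q ≤ Lc := self_le_weakClosure hQL
  apply le_antisymm (sup_le (pRes_le Lc) hQLc)
  obtain ⟨T, hT, hQT⟩ := exists_isSyl_ge hQp hQLc
  have hTQ : T ≤ normalizer (Q : Set G) := hwc.le_normalizer hT.isPGroup hQT le_top
  have h1 : Lc ≤ normalizer ((R ⊔ Q : Subgroup G) : Set G) := by
    rw [← hT.pRes_sup_eq]
    apply sup_le (le_sup_left.trans le_normalizer)
    exact le_normalizer_sup (hT.le.trans (le_normalizer_pRes Lc)) hTQ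
  have h2 : Lc = ncl Q Lc := weakClosure_eq_ncl_self hwc hQp hQL
  calc Lc = ncl Q Lc := h2
    _ ≤ R ⊔ Q := ncl_le le_sup_right h1

theorem commutator_pRes_weakClosure (hwc : WC p Q ⊤) (hQp : IsPGroup p Q) {L : Subgroup G}
    (hQL : Q ≤ L) :
    ⁅(pResidual p ↥(weakClosure Q L)).map (weakClosure Q L).subtype, Q⁆ =
      (pResidual p ↥(weakClosure Q L)).map (weakClosure Q L).subtype := by
  have hsup := pRes_weakClosure_sup hwc hQp hQL
  set Lc := weakClosure Q L with hLc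
  set R := (pResidual p ↥Lc).map Lc.subtype with hR
  have hQLc : Q ≤ Lc := self_le_weakClosure hQL
  apply le_antisymm (commutator_le_of_le_normalizer' (hQLc.trans (le_normalizer_pRes Lc)))
  set F := ⁅R, Q⁆ with hF
  have hRF : R ≤ normalizer (F : Set G) := le_normalizer_commutator_self_left R Q
  have hQF : Q ≤ normalizer (F : Set G) := le_normalizer_commutator_self_right R Q
  have h1 : R ≤ normalizer ((F ⊔ Q : Subgroup G) : Set G) := by
    apply le_normalizer_of_commutator_le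
    apply commutator_sup_le _ le_sup_left (le_sup_left.trans le_normalizer)
      (le_sup_right.trans le_normalizer)
    exact (commutator_le_of_le_normalizer hRF).trans le_sup_left
  have h2 : Lc ≤ normalizer ((F ⊔ Q : Subgroup G) : Set G) := by
    rw [← hsup]
    exact sup_le h1 (le_sup_right.trans le_normalizer)
  have h3 : Lc ≤ Q ⊔ F := by
    have h4 : Lc = ncl Q Lc := weakClosure_eq_ncl_self hwc hQp hQL
    rw [sup_comm]
    calc Lc = ncl Q Lc := h4
      _ ≤ F ⊔ Q := ncl_le le_sup_right h2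
  apply pRes_le_of_forall_pow_mem
  intro g hg
  exact exists_pow_mem_of_mem_sup hQF hQp (h3 hg)

/-- one half of the product decomposition lemma. -/
theorem prod_half (hwc : WC p Q ⊤) (hQp : IsPGroup p Q) {Hc H₁ H₂ K₁ : Subgroup G}
    (hHc : Hc = weakClosure Q ⊤)
    (hn₁ : H₁ ≤ Hc ∧ Hc ≤ normalizer (H₁ : Set G)) (hn₂ : H₂ ≤ Hc ∧ Hc ≤ normalizer (H₂ : Set G))
    (hprod : H₁ ⊔ H₂ = Hc) (hcomm : ⁅H₁, H₂⁆ ≤ normalizer (Q : Set G))
    (hK₁ : K₁ = (pResidual p ↥(weakClosure Q (H₁ ⊔ Q))).map (weakClosure Q (H₁ ⊔ Q)).subtype) :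
    ⁅K₁, Q⁆ = K₁ ∧ ⁅K₁, H₁⁆ = K₁ ∧ K₁ ≤ ⁅H₁, H₁⁆ ∧ Hc ≤ normalizer (K₁ : Set G) ∧
      ⁅K₁, H₂⁆ ≤ pCoreOf p ⁅H₁, H₂⁆ ∧ weakClosure Q (H₁ ⊔ Q) = K₁ ⊔ Q ∧ K₁ ≤ H₁ := by
  have hQHc : Q ≤ Hc := by rw [hHc]; exact self_le_weakClosure le_top
  have hHncl : Hc = ncl Q Hc := by
    have := weakClosure_eq_ncl_self hwc hQp (le_top : Q ≤ ⊤)
    rwa [← hHc] at this
  have hQL : Q ≤ H₁ ⊔ Q := le_sup_right
  have h1 : ⁅K₁, Q⁆ = K₁ := by rw [hK₁]; exact commutator_pRes_weakClosure hwc hQp hQL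
  have h7 : weakClosure Q (H₁ ⊔ Q) = K₁ ⊔ Q := by
    rw [hK₁]; exact (pRes_weakClosure_sup hwc hQp hQL).symm
  have hKK : (pResidual p ↥K₁).map K₁.subtype = K₁ := by
    have := pRes_pRes (p := p) (weakClosure Q (H₁ ⊔ Q))
    rwa [← hK₁] at this
  have hQH₁ : Q ≤ normalizer (H₁ : Set G) := hQHc.trans hn₁.2
  have h2 : K₁ ≤ H₁ := by
    rw [hK₁]
    apply (pRes_mono (weakClosure_le Q (H₁ ⊔ Q))).trans
    apply pRes_le_of_forall_pow_mem
    intro g hg
    rw [sup_comm] at hg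
    exact exists_pow_mem_of_mem_sup hQH₁ hQp hg
  have h3 : H₁ ⊔ Q ≤ normalizer (K₁ : Set G) := by
    rw [hK₁]
    exact (le_normalizer_weakClosure Q (H₁ ⊔ Q)).trans (normalizer_le_normalizer_pRes _)
  set D := ⁅H₁, H₂⁆ with hD
  set P₀ := pCoreOf p D with hP₀
  have hHD : Hc ≤ normalizer (D : Set G) := le_normalizer_commutator hn₁.2 hn₂.2
  have hHP : Hc ≤ normalizer (P₀ : Set G) := hHD.trans (normalizer_le_normalizer_pCoreOf D)
  have hDH₁ : D ≤ H₁ := commutator_le_of_le_normalizer' (hn₂.1.trans hn₁.2)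
  have hDHc : D ≤ Hc := hDH₁.trans hn₁.1
  have hDH : ⁅D, Hc⁆ ≤ P₀ := by
    have h4 : Hc ≤ commStab D P₀ := by
      rw [hHncl]
      apply ncl_le _ (le_normalizer_commStab hHD hHP)
      intro q hq
      refine ⟨hHP (hQHc hq), fun d hd => ?_⟩
      have h5 : D ⊓ Q ≤ P₀ :=
        le_pCoreOf inf_le_left (le_normalizer_inf le_normalizer hcomm) (hQp.to_le inf_le_right)
      apply h5
      constructor
      · have h6 : q * d⁻¹ * q⁻¹ ∈ D := (le_normalizer_iff.mp hHD) q (hQHc hq) _ (D.inv_mem hd)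
        have h8 : ⁅d, q⁆ = d * (q * d⁻¹ * q⁻¹) := by simp only [commutatorElement_def]; group
        rw [h8]; exact D.mul_mem hd h6
      · have h6 : d * q * d⁻¹ ∈ Q := (le_normalizer_iff.mp hcomm) d hd q hq
        rw [commutatorElement_def]
        exact Q.mul_mem h6 (Q.inv_mem hq)
    rw [commutator_le]
    intro d hd x hx
    exact (h4 hx).2 d hd
  have hK₁Hc : K₁ ≤ Hc := h2.trans hn₁.1
  have hKH₂D : ⁅K₁, H₂⁆ ≤ D := commutator_mono h2 le_rfl
  have hH₂KD : ⁅H₂, K₁⁆ ≤ D := by rw [commutator_comm]; exact hKH₂D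
  have hA : ⁅⁅H₂, H₂⁆, K₁⁆ ≤ P₀ := by
    apply three_rel (hn₂.1.trans hHP) (hn₂.1.trans hHP) (hK₁Hc.trans hHP)
    · exact (commutator_mono hH₂KD hn₂.1).trans hDH
    · exact (commutator_mono hKH₂D hn₂.1).trans hDH
  have hH₂' : ⁅H₂, H₂⁆ ≤ Hc := (commutator_le_of_le_normalizer le_normalizer).trans hn₂.1
  have hB : ⁅⁅Q, H₂⁆, K₁⁆ ≤ P₀ := by
    have h4 : ⁅Q, H₂⁆ ≤ D ⊔ ⁅H₂, H₂⁆ := by
      have hU : Hc ≤ normalizer ((D ⊔ ⁅H₂, H₂⁆ : Subgroup G) : Set G) :=
        le_normalizer_sup hHD (le_normalizer_commutator hn₂.2 hn₂.2)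
      refine (commutator_mono (hQHc.trans hprod.ge) le_rfl).trans ?_
      rw [commutator_comm]
      apply commutator_sup_le _ le_sup_right (hn₁.1.trans hU) (hn₂.1.trans hU)
      rw [commutator_comm]; exact le_sup_left
    refine (commutator_mono h4 le_rfl).trans ?_
    rw [commutator_comm]
    apply commutator_sup_le _ _ (hDHc.trans hHP) (hH₂'.trans hHP)
    · rw [commutator_comm]; exact (commutator_mono le_rfl hK₁Hc).trans hDH
    · rw [commutator_comm]; exact hA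
  have h5 : ⁅K₁, H₂⁆ ≤ P₀ := by
    have : ⁅⁅K₁, Q⁆, H₂⁆ ≤ P₀ := by
      apply three_rel (hK₁Hc.trans hHP) (hQHc.trans hHP) (hn₂.1.trans hHP) hB
      exact (commutator_mono hH₂KD hQHc).trans hDH
    rwa [h1] at this
  have hP₀p : IsPGroup p P₀ := pCoreOf_isPGroup D
  have hP₀H₁ : P₀ ≤ H₁ := (pCoreOf_le D).trans hDH₁
  have hP₀K : P₀ ≤ normalizer (K₁ : Set G) := (hP₀H₁.trans le_sup_left).trans h3
  have h4 : Hc ≤ normalizer (K₁ : Set G) := by
    rw [← hprod]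
    apply sup_le (le_sup_left.trans h3)
    have h6 : H₂ ≤ normalizer ((K₁ ⊔ P₀ : Subgroup G) : Set G) := by
      apply le_normalizer_of_commutator_le
      apply commutator_sup_le _ _ (le_sup_left.trans le_normalizer) (le_sup_right.trans le_normalizer)
      · rw [commutator_comm]; exact h5.trans le_sup_right
      · exact (commutator_le_of_le_normalizer (hn₂.1.trans hHP)).trans le_sup_right
    have h8 : (pResidual p ↥(K₁ ⊔ P₀)).map (K₁ ⊔ P₀).subtype = K₁ := by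
      rw [pRes_eq_of_pow_mem (N := K₁) le_sup_left, hKK]
      intro x hx
      rw [sup_comm] at hx
      exact exists_pow_mem_of_mem_sup hP₀K hP₀p hx
    have h9 := h6.trans (normalizer_le_normalizer_pRes (p := p) (K₁ ⊔ P₀))
    rwa [h8] at h9
  have h6 : ⁅K₁, H₁⁆ = K₁ := by
    apply le_antisymm (commutator_le_of_le_normalizer' (le_sup_left.trans h3))
    set F := ⁅K₁, H₁⁆ with hF
    have hHF : Hc ≤ normalizer (F : Set G) := le_normalizer_commutator h4 hn₁.2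
    have h8 : K₁ ≤ P₀ ⊔ F := by
      have hU : Hc ≤ normalizer ((P₀ ⊔ F : Subgroup G) : Set G) := le_normalizer_sup hHP hHF
      calc K₁ = ⁅K₁, Q⁆ := h1.symm
        _ ≤ ⁅K₁, H₁ ⊔ H₂⁆ := commutator_mono le_rfl (hQHc.trans hprod.ge)
        _ ≤ P₀ ⊔ F := commutator_sup_le le_sup_right (h5.trans le_sup_left) (hn₁.1.trans hU)
            (hn₂.1.trans hU)
    rw [← hKK]
    apply pRes_le_of_forall_pow_mem
    intro g hg
    exact exists_pow_mem_of_mem_sup ((hP₀H₁.trans hn₁.1).trans hHF) hP₀p (h8 hg)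
  refine ⟨h1, h6, ?_, h4, h5, h7, h2⟩
  calc K₁ = ⁅K₁, H₁⁆ := h6.symm
    _ ≤ ⁅H₁, H₁⁆ := commutator_mono h2 le_rfl

end Cfsg.Agent.Lib.Helper53WCl
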