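import Cfsg.Agent.Lib.Helper53Trace

set_option autoImplicit false

namespace Cfsg.Agent.Lib.Helper53ZL

open Cfsg Subgroup Cfsg.Agent.Lib.Helper53Basic Cfsg.Agent.Lib.Helper53Rel
open Cfsg.Agent.Lib.Helper53Syl Cfsg.Agent.Lib.Helper53Comm Cfsg.Agent.Lib.Helper53Min
open Cfsg.Agent.Lib.Helper53WC Cfsg.Agent.Lib.Helper53Act Cfsg.Agent.Lib.Helper53CharP
open Cfsg.Agent.Lib.Helper53PRed Cfsg.Agent.Lib.Helper53PRed2 Cfsg.Agent.Lib.Helper53PRed3
open Cfsg.Agent.Lib.Helper53Trace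
open scoped commutatorElement

variable {G : Type*} [Group G] {p : ℕ}

local notation "⟪" Q ", " g "⟫" => Subgroup.map (MulEquiv.toMonoidHom (MulAut.conj g)) Q

theorem omegaOne_center_le_omZ [Finite G] [Fact p.Prime] {T L : Subgroup G} (hT : IsSyl p T L) :
    omegaOne p (L ⊓ centralizer (L : Set G)) ≤ omZ p T := by
  unfold omZ omegaOne
  apply Subgroup.closure_mono
  rintro x ⟨hx, hxp⟩
  obtain ⟨hxL, hxc⟩ := Subgroup.mem_inf.mp hx
  refine ⟨Subgroup.mem_inf.mpr ⟨?_, centralizer_le hT.le hxc⟩, hxp⟩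
  apply pCoreOf_le_isSyl hT
  have h1 : zpowers x ≤ pCoreOf p L := by
    apply le_pCoreOf (by rwa [zpowers_le])
    · have h2 : L ≤ centralizer ((zpowers x : Subgroup G) : Set G) := by
        rw [le_centralizer_iff, zpowers_le]; exact hxc
      exact h2.trans (centralizer_le_normalizer' _)
    · apply IsPGroup.of_card_dvd_pow (n := 1)
      rw [Nat.card_zpowers, pow_one]
      exact orderOf_dvd_of_pow_eq_one hxp
  exact h1 (mem_zpowers x)

theorem zl_struct [Finite G] [hp : Fact p.Prime] {T L : Subgroup G} (hT : IsSyl p T L)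
    (hL : CharP p L) :
    sylowCenterClosure p L = omegaOne p (L ⊓ centralizer (L : Set G)) ⊔
      ⁅sylowCenterClosure p L, (pResidual p ↥L).map L.subtype⁆ ∧
    ⁅sylowCenterClosure p L, L⁆ = ⁅sylowCenterClosure p L, (pResidual p ↥L).map L.subtype⁆ := by
  have hZ := pRed_sylowCenterClosure hL
  have hZ₀ := omZ_le_sylowCenterClosure hT
  have heq := sylowCenterClosure_eq (p := p) L
  set Z := sylowCenterClosure p L with hZdef
  set R := (pResidual p ↥L).map L.subtype with hR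
  set W := ⁅Z, R⁆ with hW
  have hRL : R ≤ L := pRes_le L
  have hLR : L ≤ normalizer (R : Set G) := le_normalizer_pRes L
  have hWZ : W ≤ Z := commutator_le_of_le_normalizer' (hRL.trans hZ.2.1)
  have hLW : L ≤ normalizer (W : Set G) := le_normalizer_commutator hZ.2.1 hLR
  have hsup : R ⊔ T = L := hT.pRes_sup_eq
  have hel := isElementaryAbelian_iff.mp hZ.2.2.1
  have hA : Z ≤ omZ p T ⊔ W := by
    rw [heq]
    apply sSup_le
    rintro X ⟨S, hS, rfl⟩
    rw [inf_eq_left.mpr hS.le]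
    obtain ⟨l, hl, rfl⟩ := hT.conj hS
    rw [← hsup, sup_comm, mem_sup_of_le_normalizer' (hT.le.trans hLR)] at hl
    obtain ⟨r, hr, t, ht, rfl⟩ := hl
    rw [← cj_cj, cj_eq_of_mem ht, ← omZ_cj]
    rintro _ ⟨z, hz, rfl⟩
    have h2 : ⁅r, z⁆ ∈ W := by
      rw [hW, commutator_comm]; exact commutator_mem_commutator hr (hZ₀ hz)
    have h3 : (MulAut.conj r).toMonoidHom z = ⁅r, z⁆ * z := by
      simp only [commutatorElement_def, MulEquiv.coe_toMonoidHom, MulAut.conj_apply]; group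
    rw [h3]
    exact Subgroup.mul_mem _ (le_sup_right (b := W) h2) (le_sup_left (a := omZ p T) hz)
  have hB : ⁅Z, L⁆ = W := by
    apply le_antisymm _ (commutator_mono le_rfl hRL)
    rw [← hsup]
    apply commutator_sup_le le_rfl _ (hRL.trans hLW) (hT.le.trans hLW)
    rw [commutator_le]
    intro z hz t ht
    have hz' := hA hz
    rw [mem_sup_of_le_normalizer (((omZ_le T).trans hT.le).trans hLW)] at hz'
    obtain ⟨z₀, hz₀, w, hw, rfl⟩ := hz'
    have h1 : ⁅z₀ * w, t⁆ = (z₀ * ⁅w, t⁆ * z₀⁻¹) * ⁅z₀, t⁆ := by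
      simp only [commutatorElement_def]; group
    have h2 : ⁅z₀, t⁆ = 1 := by
      rw [commutatorElement_eq_one_iff_mul_comm]
      exact ((mem_centralizer_iff.mp (omZ_le_centralizer T hz₀)) t ht).symm
    rw [h1, h2, mul_one]
    apply (le_normalizer_iff.mp hLW) z₀ (hT.le (omZ_le T hz₀))
    exact commutator_le_of_le_normalizer' (hT.le.trans hLW) (commutator_mem_commutator hw ht)
  refine ⟨?_, hB⟩
  apply le_antisymm
  · refine hA.trans (sup_le ?_ le_sup_right)
    intro z hz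
    obtain ⟨u, hu, huz⟩ := trace_lemma' (T := T) (W := W) hZ.2.1 hel.1
      (by rw [commutator_comm, hB]) (hZ₀ hz) (omZ_le_centralizer T hz)
    obtain ⟨huZ, huL⟩ := Subgroup.mem_inf.mp hu
    have hu' : u ∈ omegaOne p (L ⊓ centralizer (L : Set G)) :=
      mem_omegaOne (Subgroup.mem_inf.mpr ⟨hZ.1 huZ, huL⟩) (hel.2 u huZ)
    have h1 : z ^ T.relIndex L ∈ omegaOne p (L ⊓ centralizer (L : Set G)) ⊔ W := by
      have h2 : z ^ T.relIndex L = (u * (z ^ T.relIndex L)⁻¹)⁻¹ * u := by group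
      rw [h2]
      exact Subgroup.mul_mem _ (le_sup_right (b := W) (W.inv_mem huz))
        (le_sup_left (a := omegaOne p (L ⊓ centralizer (L : Set G))) hu')
    apply mem_of_pow_mem_of_coprime _ h1
    exact Nat.Coprime.coprime_dvd_left (orderOf_dvd_of_pow_eq_one (hel.2 z (hZ₀ hz)))
      ((Nat.Prime.coprime_iff_not_dvd hp.out).mpr hT.2.2)
  · exact sup_le ((omegaOne_center_le_omZ hT).trans hZ₀) hWZ

end Cfsg.Agent.Lib.Helper53ZL
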