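import Mathlib
import Cfsg.Agent.Lib.Helper21Simple
import Cfsg.Agent.Lib.Helper6Syl

set_option autoImplicit false

namespace Cfsg.Agent.Lib.Helper54Ord168a

open Subgroup Cfsg.Agent.Lib.Helper21Simple Cfsg.Agent.Lib.Helper6Syl
open scoped Pointwise

section general

variable {G : Type*} [Group G]

theorem centralizer_singleton_eq (x : G) :
    centralizer ({x} : Set G) = centralizer ((zpowers x : Subgroup G) : Set G) := by
  ext g
  rw [mem_centralizer_singleton_iff, mem_centralizer_iff]
  constructor
  · intro hg y hy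
    obtain ⟨k, rfl⟩ := mem_zpowers_iff.1 hy
    have : Commute g x := hg
    exact ((this.zpow_right k).symm).eq
  · intro hg
    exact (hg x (mem_zpowers x)).symm

/-- a Sylow subgroup of prime order whose normalizer has order `p * r` is self-centralizing. -/
theorem centralizer_sylow_eq [Finite G] [IsSimpleGroup G] (hG : ¬ IsMulCommutative G) {p r : ℕ}
    [Fact p.Prime] (hr : r.Prime) (P : Sylow p G) (hP : Nat.card (P : Subgroup G) = p)
    (hN : Nat.card (normalizer ((P : Subgroup G) : Set G)) = p * r) :
    centralizer ((P : Subgroup G) : Set G) = P := by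
  have hp : p.Prime := Fact.out
  have hcyc : IsCyclic (P : Subgroup G) := isCyclic_of_prime_card hP
  have hcomm : IsMulCommutative (P : Subgroup G) := ⟨⟨(IsCyclic.commGroup).mul_comm⟩⟩
  have h1 : (P : Subgroup G) ≤ centralizer ((P : Subgroup G) : Set G) :=
    (P : Subgroup G).le_centralizer
  have h2 : centralizer ((P : Subgroup G) : Set G) ≤ normalizer ((P : Subgroup G) : Set G) :=
    centralizer_le_normalizer _
  have h3 : Nat.card (P : Subgroup G) ∣ Nat.card (centralizer ((P : Subgroup G) : Set G)) :=
    card_dvd_of_le h1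
  have h4 : Nat.card (centralizer ((P : Subgroup G) : Set G)) ∣ p * r :=
    hN ▸ card_dvd_of_le h2
  rw [hP] at h3
  obtain ⟨k, hk⟩ := h3
  rw [hk] at h4
  have h5 : k ∣ r := Nat.dvd_of_mul_dvd_mul_left hp.pos h4
  rcases (Nat.dvd_prime hr).1 h5 with rfl | rfl
  · symm
    apply eq_of_le_of_card_ge h1
    rw [hk, hP, mul_one]
  · exfalso
    apply not_normalizer_le_centralizer hG P
      (hP ▸ card_subgroup_dvd_card (P : Subgroup G))
    have : centralizer ((P : Subgroup G) : Set G) = normalizer ((P : Subgroup G) : Set G) :=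
      eq_of_le_of_card_ge h2 (by rw [hk, hN])
    rw [this]

/-- an element of order `p` generates a Sylow subgroup when these have order `p`. -/
theorem exists_sylow_eq_zpowers [Finite G] {p : ℕ} [Fact p.Prime]
    (hP : ∀ P : Sylow p G, Nat.card (P : Subgroup G) = p) (x : G) (hx : orderOf x = p) :
    ∃ P : Sylow p G, (P : Subgroup G) = zpowers x := by
  have h1 : IsPGroup p (zpowers x) := by
    apply IsPGroup.of_card (n := 1)
    rw [Nat.card_zpowers, hx, pow_one]
  obtain ⟨P, hle⟩ := h1.exists_le_sylow
  refine ⟨P, ?_⟩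
  symm
  apply eq_of_le_of_card_ge hle
  rw [hP P, Nat.card_zpowers, hx]

/-- fixed points of an element of order `p` normalizing a subgroup. -/
theorem exists_fixed [Finite G] (H : Subgroup G) (y : G) (hy : y ∈ normalizer (H : Set G)) {p : ℕ}
    [Fact p.Prime] (hyp : y ^ p = 1) (hH : ¬ Nat.card H ≡ 1 [MOD p]) :
    ∃ t ∈ H, t ≠ 1 ∧ y * t = t * y := by
  classical
  by_contra hcon
  push Not at hcon
  have : Fintype H := Fintype.ofFinite _
  let f : Function.End H := fun t => ⟨y * t * y⁻¹, (mem_normalizer_iff.1 hy t).1 t.2⟩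
  have hpow : ∀ (k : ℕ) (t : H), (((f ^ k) t : H) : G) = y ^ k * t * (y ^ k)⁻¹ := by
    intro k
    induction k with
    | zero =>
      intro t
      rw [pow_zero, pow_zero]
      change (t : G) = _
      simp
    | succ n ih =>
      intro t
      rw [pow_succ']
      change y * ((f ^ n) t : G) * y⁻¹ = _
      rw [ih, pow_succ']
      group
  have hf : f ^ p ^ 1 = 1 := by
    funext t
    apply Subtype.ext
    rw [pow_one, hpow, hyp]
    change _ = (t : G)
    simp
  have h1 := Equiv.Perm.card_fixedPoints_modEq hf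
  have h2 : Fintype.card (Function.fixedPoints f) = 1 := by
    rw [Fintype.card_eq_one_iff]
    refine ⟨⟨1, ?_⟩, ?_⟩
    · apply Subtype.ext
      change y * 1 * y⁻¹ = 1
      group
    · rintro ⟨t, ht⟩
      apply Subtype.ext
      by_contra hne
      have h3 : y * (t : G) * y⁻¹ = t := congrArg Subtype.val ht
      apply hcon t t.2 (fun h => hne (Subtype.ext h))
      calc y * (t : G) = y * t * y⁻¹ * y := by group
        _ = t * y := by rw [h3]
  rw [h2, ← Nat.card_eq_fintype_card] at h1
  exact hH h1

end general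


section main

set_option linter.unusedSectionVars false

variable {G : Type*} [Group G] [Finite G] [IsSimpleGroup G]

theorem fact7 : Fact (Nat.Prime 7) := ⟨by norm_num⟩

attribute [local instance] fact7

theorem not_comm (h : Nat.card G = 168) : ¬ IsMulCommutative G :=
  not_comm_of_not_prime (by rw [h]; norm_num)

theorem card_P7 (h : Nat.card G = 168) (P : Sylow 7 G) : Nat.card (P : Subgroup G) = 7 := by
  simpa using (sylow_card_index (p := 7) (a := 1) (m := 24) (by rw [h]; norm_num)
    (by norm_num) P).1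

theorem card_P3 (h : Nat.card G = 168) (P : Sylow 3 G) : Nat.card (P : Subgroup G) = 3 := by
  simpa using (sylow_card_index (p := 3) (a := 1) (m := 56) (by rw [h]; norm_num)
    (by norm_num) P).1

theorem card_P2 (h : Nat.card G = 168) (P : Sylow 2 G) : Nat.card (P : Subgroup G) = 8 := by
  simpa using (sylow_card_index (p := 2) (a := 3) (m := 21) (by rw [h]; norm_num)
    (by norm_num) P).1

theorem card_syl7 (h : Nat.card G = 168) : Nat.card (Sylow 7 G) = 8 := by
  obtain ⟨P⟩ : Nonempty (Sylow 7 G) := inferInstance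
  have h1 := card_sylow_ne_one (not_comm h) (p := 7) (by rw [h]; norm_num)
  have h2 := (sylow_card_index (p := 7) (a := 1) (m := 24) (by rw [h]; norm_num)
    (by norm_num) P).2
  have h3 := P.card_dvd_index
  rw [h2] at h3
  have h4 := card_sylow_modEq_one 7 G
  have h5 : Nat.card (Sylow 7 G) ≤ 24 := Nat.le_of_dvd (by norm_num) h3
  unfold Nat.ModEq at h4
  interval_cases (Nat.card (Sylow 7 G)) <;> omega

theorem card_N7 (h : Nat.card G = 168) (P : Sylow 7 G) :
    Nat.card (normalizer ((P : Subgroup G) : Set G)) = 21 := by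
  have := card_normalizer_mul_card_sylow P
  rw [card_syl7 h, h] at this
  omega

theorem cent7 (h : Nat.card G = 168) (x : G) (hx : orderOf x = 7) :
    centralizer ({x} : Set G) = zpowers x := by
  obtain ⟨P, hP⟩ := exists_sylow_eq_zpowers (card_P7 h) x hx
  rw [centralizer_singleton_eq, ← hP]
  exact centralizer_sylow_eq (not_comm h) (r := 3) (by norm_num) P (card_P7 h P)
    (by rw [card_N7 h])

theorem card_syl3 (h : Nat.card G = 168) : Nat.card (Sylow 3 G) = 28 := by
  obtain ⟨Q₀⟩ : Nonempty (Sylow 3 G) := inferInstance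
  have h1 := card_sylow_ne_one (not_comm h) (p := 3) (by rw [h]; norm_num)
  have h2 := (sylow_card_index (p := 3) (a := 1) (m := 56) (by rw [h]; norm_num)
    (by norm_num) Q₀).2
  have h3 := Q₀.card_dvd_index
  rw [h2] at h3
  have h4 := card_sylow_modEq_one 3 G
  have h5 : Nat.card (Sylow 3 G) ≤ 56 := Nat.le_of_dvd (by norm_num) h3
  have h6 : Nat.card (Sylow 3 G) ≠ 4 := by
    intro h7
    have hidx : (normalizer ((Q₀ : Subgroup G) : Set G)).index = Nat.card (Sylow 3 G) :=
      (Q₀.card_eq_index_normalizer).symm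
    have h8 := two_mul_card_dvd_factorial (not_comm h) (normalizer ((Q₀ : Subgroup G) : Set G))
      (by
        intro h9
        rw [h9, index_top] at hidx
        omega)
    rw [hidx, h7, h] at h8
    revert h8
    decide
  have h7 : Nat.card (Sylow 3 G) ≠ 7 := by
    intro h7
    obtain ⟨P⟩ : Nonempty (Sylow 7 G) := inferInstance
    obtain ⟨y, hy⟩ := exists_prime_orderOf_dvd_card' (G := normalizer ((P : Subgroup G) : Set G)) 3
      (by rw [card_N7 h]; norm_num)
    have hy' : orderOf (y : G) = 3 := by rw [← hy]; exact Subgroup.orderOf_coe y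
    obtain ⟨Q, hQ⟩ := exists_sylow_eq_zpowers (card_P3 h) (y : G) hy'
    have hNQ : Nat.card (normalizer ((Q : Subgroup G) : Set G)) = 24 := by
      have := card_normalizer_mul_card_sylow Q
      rw [h7, h] at this
      omega
    have hinj : Function.Injective (fun x : (P : Subgroup G) => (x : G) • Q) := by
      intro x x' hxx
      have h8 : ((x' : G)⁻¹ * (x : G)) • Q = Q := by
        rw [mul_smul]
        have : (x : G) • Q = (x' : G) • Q := hxx
        rw [this, inv_smul_smul]
      have h9 : (x' : G)⁻¹ * (x : G) ∈ normalizer ((Q : Subgroup G) : Set G) :=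
        Sylow.smul_eq_iff_mem_normalizer.1 h8
      have h10 : orderOf ((x' : G)⁻¹ * (x : G)) ∣ 24 := by
        rw [← hNQ]
        have := orderOf_dvd_natCard (⟨_, h9⟩ : normalizer ((Q : Subgroup G) : Set G))
        rwa [Subgroup.orderOf_mk] at this
      have h11 : orderOf ((x' : G)⁻¹ * (x : G)) ∣ 7 := by
        have := orderOf_dvd_natCard (x'⁻¹ * x)
        rw [card_P7 h P, ← Subgroup.orderOf_coe] at this
        exact this
      have h12 : orderOf ((x' : G)⁻¹ * (x : G)) ∣ Nat.gcd 24 7 := Nat.dvd_gcd h10 h11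
      have h13 : (x' : G)⁻¹ * (x : G) = 1 := by
        rw [← orderOf_eq_one_iff]
        exact Nat.dvd_one.1 (by simpa using h12)
      apply Subtype.ext
      exact (inv_mul_eq_one.1 h13).symm
    have hbij := (Nat.bijective_iff_injective_and_card _).2 ⟨hinj, by rw [card_P7 h P, h7]⟩
    have hall : ∀ g : G, g * (y : G) * g⁻¹ ∈ normalizer ((P : Subgroup G) : Set G) := by
      intro g
      obtain ⟨x, hx⟩ := hbij.2 (g • Q)
      have h8 : g * (y : G) * g⁻¹ ∈ g • Q :=
        conj_mem_smul_sylow g _ Q (by
          change (y : G) ∈ (Q : Subgroup G)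
          rw [hQ]; exact mem_zpowers _)
      rw [← hx] at h8
      change g * (y : G) * g⁻¹ ∈ (x : G) • Q at h8
      rw [mem_smul_sylow_iff] at h8
      change _ ∈ (Q : Subgroup G) at h8
      rw [hQ] at h8
      have h9 : zpowers (y : G) ≤ normalizer ((P : Subgroup G) : Set G) := by
        rw [zpowers_le]; exact y.2
      have h10 := h9 h8
      have hxN : (x : G) ∈ normalizer ((P : Subgroup G) : Set G) := le_normalizer x.2
      have h11 := mul_mem (mul_mem hxN h10) (inv_mem hxN)
      have : (x : G) * ((x : G)⁻¹ * (g * (y : G) * g⁻¹) * (x : G)) * (x : G)⁻¹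
          = g * (y : G) * g⁻¹ := by group
      rwa [this] at h11
    have hle : normalClosure ({(y : G)} : Set G) ≤ normalizer ((P : Subgroup G) : Set G) := by
      unfold normalClosure
      rw [closure_le]
      intro a ha
      rw [Group.mem_conjugatesOfSet_iff] at ha
      obtain ⟨b, hb, hba⟩ := ha
      rw [Set.mem_singleton_iff] at hb
      subst hb
      obtain ⟨c, hc⟩ := isConj_iff.1 hba
      rw [← hc]
      exact hall c
    rcases (normalClosure_normal (s := ({(y : G)} : Set G))).eq_bot_or_eq_top with hb | ht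
    · have : (y : G) ∈ normalClosure ({(y : G)} : Set G) :=
        subset_normalClosure (Set.mem_singleton _)
      rw [hb, mem_bot] at this
      rw [this, orderOf_one] at hy'
      omega
    · rw [ht, top_le_iff] at hle
      have := card_N7 h P
      rw [hle, card_top, h] at this
      omega
  unfold Nat.ModEq at h4
  interval_cases (Nat.card (Sylow 3 G)) <;> omega

theorem card_N3 (h : Nat.card G = 168) (P : Sylow 3 G) :
    Nat.card (normalizer ((P : Subgroup G) : Set G)) = 6 := by
  have := card_normalizer_mul_card_sylow P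
  rw [card_syl3 h, h] at this
  omega

theorem cent3 (h : Nat.card G = 168) (x : G) (hx : orderOf x = 3) :
    centralizer ({x} : Set G) = zpowers x := by
  obtain ⟨P, hP⟩ := exists_sylow_eq_zpowers (card_P3 h) x hx
  rw [centralizer_singleton_eq, ← hP]
  exact centralizer_sylow_eq (not_comm h) (r := 2) (by norm_num) P (card_P3 h P)
    (by rw [card_N3 h])


omit [IsSimpleGroup G] in
theorem orderOf_eq_of_dvd {p : ℕ}
    (hc : ∀ x : G, orderOf x = p → centralizer ({x} : Set G) = zpowers x) (g : G)
    (hg : p ∣ orderOf g) : orderOf g = p := by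
  have h0 : orderOf g ≠ 0 := (orderOf_pos g).ne'
  have h1 : orderOf (g ^ (orderOf g / p)) = p := orderOf_pow_orderOf_div h0 hg
  have h2 : g ∈ centralizer ({g ^ (orderOf g / p)} : Set G) := by
    rw [mem_centralizer_singleton_iff]
    exact ((Commute.refl g).pow_right _).eq
  rw [hc _ h1] at h2
  have h3 : orderOf g ∣ p := by
    have := orderOf_dvd_natCard (⟨g, h2⟩ : zpowers (g ^ (orderOf g / p)))
    rwa [Subgroup.orderOf_mk, Nat.card_zpowers, h1] at this
  exact Nat.dvd_antisymm h3 hg

theorem orders (h : Nat.card G = 168) (g : G) :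
    orderOf g = 1 ∨ orderOf g = 2 ∨ orderOf g = 3 ∨ orderOf g = 4 ∨ orderOf g = 7 := by
  by_cases h7 : 7 ∣ orderOf g
  · right; right; right; right
    exact orderOf_eq_of_dvd (cent7 h) g h7
  by_cases h3 : 3 ∣ orderOf g
  · right; right; left
    exact orderOf_eq_of_dvd (cent3 h) g h3
  have hd : orderOf g ∣ 168 := h ▸ orderOf_dvd_natCard g
  have h8 : orderOf g ≠ 8 := by
    intro h8
    have h1 : IsPGroup 2 (zpowers g) := by
      apply IsPGroup.of_card (n := 3)
      rw [Nat.card_zpowers, h8]; norm_num
    obtain ⟨T, hle⟩ := h1.exists_le_sylow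
    have hT : zpowers g = (T : Subgroup G) := by
      apply eq_of_le_of_card_ge hle
      rw [card_P2 h T, Nat.card_zpowers, h8]
    apply not_isCyclic_sylow_minFac (not_comm h) (p := 2) (by rw [h]; norm_num) T
    rw [← hT]
    infer_instance
  have key : ∀ n ∈ Nat.divisors 168, ¬ 7 ∣ n → ¬ 3 ∣ n → n ≠ 8 → n = 1 ∨ n = 2 ∨ n = 4 := by
    decide
  rcases key _ (Nat.mem_divisors.2 ⟨hd, by norm_num⟩) h7 h3 h8 with h | h | h
  · left; exact h
  · right; left; exact h
  · right; right; right; left; exact h

/-- a nontrivial `2`-element does not commute with an element of order `3` or `7`. -/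
theorem card_centralizer_dvd (h : Nat.card G = 168) (t : G) (ht : t ≠ 1) (ht2 : orderOf t ∣ 8) :
    Nat.card (centralizer ({t} : Set G)) ∣ 8 := by
  have aux : ∀ p : ℕ, p.Prime → Nat.Coprime p 8 →
      (∀ x : G, orderOf x = p → centralizer ({x} : Set G) = zpowers x) →
      ¬ p ∣ Nat.card (centralizer ({t} : Set G)) := by
    intro p hp hcop hc hdvd
    have : Fact p.Prime := ⟨hp⟩
    obtain ⟨y, hy⟩ := exists_prime_orderOf_dvd_card' (G := centralizer ({t} : Set G)) p hdvd
    have hy' : orderOf (y : G) = p := by rw [← hy]; exact Subgroup.orderOf_coe y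
    have h1 : t ∈ centralizer ({(y : G)} : Set G) := by
      rw [mem_centralizer_singleton_iff]
      exact (mem_centralizer_singleton_iff.1 y.2).symm
    rw [hc _ hy'] at h1
    have h3 : orderOf t ∣ p := by
      have := orderOf_dvd_natCard (⟨t, h1⟩ : zpowers (y : G))
      rwa [Subgroup.orderOf_mk, Nat.card_zpowers, hy'] at this
    have h4 : orderOf t ∣ Nat.gcd p 8 := Nat.dvd_gcd h3 ht2
    rw [hcop] at h4
    exact ht (orderOf_eq_one_iff.1 (Nat.dvd_one.1 h4))
  have h3 := aux 3 (by norm_num) (by norm_num) (cent3 h)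
  have h7 := aux 7 (by norm_num) (by norm_num) (cent7 h)
  have hd : Nat.card (centralizer ({t} : Set G)) ∣ 168 := h ▸ card_subgroup_dvd_card _
  have key : ∀ n ∈ Nat.divisors 168, ¬ 7 ∣ n → ¬ 3 ∣ n → n ∣ 8 := by
    decide
  exact key _ (Nat.mem_divisors.2 ⟨hd, by norm_num⟩) h7 h3

theorem card_syl2 (h : Nat.card G = 168) : Nat.card (Sylow 2 G) = 21 := by
  obtain ⟨T⟩ : Nonempty (Sylow 2 G) := inferInstance
  have h1 := card_sylow_ne_one (not_comm h) (p := 2) (by rw [h]; norm_num)
  have h2 := (sylow_card_index (p := 2) (a := 3) (m := 21) (by rw [h]; norm_num)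
    (by norm_num) T).2
  have h3 := T.card_dvd_index
  rw [h2] at h3
  have h5 : Nat.card (Sylow 2 G) ≤ 21 := Nat.le_of_dvd (by norm_num) h3
  have h6 : Nat.card (Sylow 2 G) ≠ 3 := by
    intro h7
    have hidx : (normalizer ((T : Subgroup G) : Set G)).index = Nat.card (Sylow 2 G) :=
      (T.card_eq_index_normalizer).symm
    have h8 := two_mul_card_dvd_factorial (not_comm h) (normalizer ((T : Subgroup G) : Set G))
      (by
        intro h9
        rw [h9, index_top] at hidx
        omega)
    rw [hidx, h7, h] at h8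
    revert h8
    decide
  have h7 : Nat.card (Sylow 2 G) ≠ 7 := by
    intro h7
    have hN : Nat.card (normalizer ((T : Subgroup G) : Set G)) = 24 := by
      have := card_normalizer_mul_card_sylow T
      rw [h7, h] at this
      omega
    obtain ⟨y, hy⟩ := exists_prime_orderOf_dvd_card' (G := normalizer ((T : Subgroup G) : Set G)) 3
      (by rw [hN]; norm_num)
    have hy' : orderOf (y : G) = 3 := by rw [← hy]; exact Subgroup.orderOf_coe y
    obtain ⟨t, htT, ht1, hty⟩ := exists_fixed (T : Subgroup G) (y : G) y.2 (p := 3)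
      (by rw [← hy', pow_orderOf_eq_one]) (by rw [card_P2 h T]; decide)
    have h8 : t ∈ centralizer ({(y : G)} : Set G) := by
      rw [mem_centralizer_singleton_iff]
      exact hty.symm
    rw [cent3 h _ hy'] at h8
    have h9 : orderOf t ∣ 3 := by
      have := orderOf_dvd_natCard (⟨t, h8⟩ : zpowers (y : G))
      rwa [Subgroup.orderOf_mk, Nat.card_zpowers, hy'] at this
    have h10 : orderOf t ∣ 8 := by
      have := orderOf_dvd_natCard (⟨t, htT⟩ : (T : Subgroup G))
      rwa [Subgroup.orderOf_mk, card_P2 h T] at this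
    have h11 : orderOf t ∣ Nat.gcd 3 8 := Nat.dvd_gcd h9 h10
    exact ht1 (orderOf_eq_one_iff.1 (Nat.dvd_one.1 (by simpa using h11)))
  interval_cases (Nat.card (Sylow 2 G)) <;> omega

theorem normalizer_syl2 (h : Nat.card G = 168) (T : Sylow 2 G) :
    normalizer ((T : Subgroup G) : Set G) = T := by
  symm
  apply eq_of_le_of_card_ge le_normalizer
  have := card_normalizer_mul_card_sylow T
  rw [card_syl2 h, h] at this
  rw [card_P2 h T]
  omega

theorem syl2_not_comm (h : Nat.card G = 168) (T : Sylow 2 G) :
    ¬ IsMulCommutative (T : Subgroup G) := by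
  intro hc
  apply not_normalizer_le_centralizer (not_comm h) T (by rw [h]; norm_num)
  exact normalizer_le_centralizer_of_card_eq _ hc (by rw [normalizer_syl2 h T])

theorem orderOf_dvd_of_mem (h : Nat.card G = 168) (T : Sylow 2 G) {t : G}
    (ht : t ∈ (T : Subgroup G)) : orderOf t ∣ 8 := by
  have := orderOf_dvd_natCard (⟨t, ht⟩ : (T : Subgroup G))
  rwa [Subgroup.orderOf_mk, card_P2 h T] at this

/-- the centralizer of a nontrivial central element of a Sylow `2`-subgroup. -/
theorem centralizer_central (h : Nat.card G = 168) (T : Sylow 2 G) (z : G)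
    (hz : z ∈ (T : Subgroup G)) (hz1 : z ≠ 1) (hc : ∀ t ∈ (T : Subgroup G), t * z = z * t) :
    centralizer ({z} : Set G) = T := by
  symm
  apply eq_of_le_of_card_ge
  · intro t ht
    rw [mem_centralizer_singleton_iff]
    exact hc t ht
  · rw [card_P2 h T]
    exact Nat.le_of_dvd (by norm_num) (card_centralizer_dvd h z hz1 (orderOf_dvd_of_mem h T hz))

end main

end Cfsg.Agent.Lib.Helper54Ord168a
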