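import Mathlib
import Cfsg.Agent.Lib.Helper54Ord168a
import Cfsg.Agent.Lib.Helper51Abs

set_option autoImplicit false

namespace Cfsg.Agent.Lib.Helper54Ord168b

open Subgroup Cfsg.Agent.Lib.Helper21Simple Cfsg.Agent.Lib.Helper6Syl
  Cfsg.Agent.Lib.Helper54Ord168a
open scoped Pointwise

section general

variable {G : Type*} [Group G]

theorem orderOf_conj (c x : G) : orderOf (c * x * c⁻¹) = orderOf x :=
  (MulAut.conj c).orderOf_eq x

/-- counting elements each of which lies in a unique Sylow subgroup. -/
theorem card_sigma_sylow [Finite G] {p : ℕ} [Fact p.Prime] (Q : G → Prop) (m : ℕ)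
    (hm : ∀ P : Sylow p G, Nat.card {g : G // g ∈ (P : Subgroup G) ∧ Q g} = m)
    (hex : ∀ g, Q g → ∃ P : Sylow p G, g ∈ (P : Subgroup G))
    (huniq : ∀ (P P' : Sylow p G) (g : G), Q g → g ∈ (P : Subgroup G) →
      g ∈ (P' : Subgroup G) → P = P') :
    Nat.card {g : G // Q g} = Nat.card (Sylow p G) * m := by
  classical
  have : Fintype (Sylow p G) := Fintype.ofFinite _
  let f : (Σ P : Sylow p G, {g : G // g ∈ (P : Subgroup G) ∧ Q g}) → {g : G // Q g} :=
    fun x => ⟨x.2.1, x.2.2.2⟩
  have hf : Function.Bijective f := by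
    constructor
    · rintro ⟨P, g, hg⟩ ⟨P', g', hg'⟩ hh
      have h1 : g = g' := congrArg Subtype.val hh
      subst h1
      have h2 : P = P' := huniq P P' g hg.2 hg.1 hg'.1
      subst h2
      rfl
    · rintro ⟨g, hg⟩
      obtain ⟨P, hP⟩ := hex g hg
      exact ⟨⟨P, g, hP, hg⟩, rfl⟩
  rw [← Nat.card_congr (Equiv.ofBijective f hf), Nat.card_sigma]
  simp only [hm]
  rw [Finset.sum_const, Finset.card_univ, Nat.card_eq_fintype_card, smul_eq_mul]

theorem card_ne_one (H : Subgroup G) [Finite H] :
    Nat.card {g : G // g ∈ H ∧ g ≠ 1} = Nat.card H - 1 := by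
  classical
  have : Fintype H := Fintype.ofFinite _
  have e : {g : G // g ∈ H ∧ g ≠ 1} ≃ {x : H // x ≠ 1} :=
    { toFun := fun g => ⟨⟨g.1, g.2.1⟩, fun h => g.2.2 (congrArg Subtype.val h)⟩
      invFun := fun x => ⟨x.1.1, x.1.2, fun h => x.2 (Subtype.ext h)⟩
      left_inv := fun g => rfl
      right_inv := fun x => rfl }
  rw [Nat.card_congr e, Nat.card_eq_fintype_card, Nat.card_eq_fintype_card,
    Fintype.card_subtype_compl, Fintype.card_subtype_eq]

/-- the number of elements of order `p` when the Sylow `p`-subgroups have order `p`. -/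
theorem card_orderOf_eq_prime [Finite G] {p : ℕ} [Fact p.Prime]
    (hP : ∀ P : Sylow p G, Nat.card (P : Subgroup G) = p) :
    Nat.card {g : G // orderOf g = p} = Nat.card (Sylow p G) * (p - 1) := by
  have hp : p.Prime := Fact.out
  have key : ∀ (P : Sylow p G) (g : G), g ∈ (P : Subgroup G) → (orderOf g = p ↔ g ≠ 1) := by
    intro P g hg
    constructor
    · rintro h rfl
      rw [orderOf_one] at h
      exact hp.one_lt.ne h
    · intro h
      have h1 : orderOf g ∣ p := by
        have := orderOf_dvd_natCard (⟨g, hg⟩ : (P : Subgroup G))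
        rwa [Subgroup.orderOf_mk, hP P] at this
      rcases (Nat.dvd_prime hp).1 h1 with h2 | h2
      · exact absurd (orderOf_eq_one_iff.1 h2) h
      · exact h2
  apply card_sigma_sylow
  · intro P
    have h0 := card_ne_one (P : Subgroup G)
    rw [hP P] at h0
    rw [← h0]
    apply Nat.card_congr
    apply Equiv.subtypeEquivRight
    intro g
    constructor
    · rintro ⟨h1, h2⟩
      exact ⟨h1, (key P g h1).1 h2⟩
    · rintro ⟨h1, h2⟩
      exact ⟨h1, (key P g h1).2 h2⟩
  · intro g hg
    obtain ⟨P, hPg⟩ := exists_sylow_eq_zpowers hP g hg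
    exact ⟨P, by rw [hPg]; exact mem_zpowers g⟩
  · intro P P' g hg h1 h2
    have e1 : zpowers g = (P : Subgroup G) :=
      eq_of_le_of_card_ge (by rwa [zpowers_le]) (by rw [hP P, Nat.card_zpowers, hg])
    have e2 : zpowers g = (P' : Subgroup G) :=
      eq_of_le_of_card_ge (by rwa [zpowers_le]) (by rw [hP P', Nat.card_zpowers, hg])
    exact Sylow.ext (e1.symm.trans e2)

/-- if a conjugacy class is as large as the set of all elements of that order, all elements of
that order are conjugate. -/
theorem isConj_of_card [Finite G] (n m : ℕ) (hm : Nat.card {g : G // orderOf g = n} = m)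
    (x : G) (hx : orderOf x = n) (hc : Nat.card {g : G // IsConj x g} = m) (y : G)
    (hy : orderOf y = n) : IsConj x y := by
  have hsub : {g : G | IsConj x g} ⊆ {g : G | orderOf g = n} := by
    intro g hg
    obtain ⟨c, hc⟩ := isConj_iff.1 hg
    change orderOf g = n
    rw [← hc, ← hx]
    exact orderOf_conj c x
  have heq : {g : G | IsConj x g} = {g : G | orderOf g = n} := by
    apply Set.eq_of_subset_of_ncard_le hsub
    · change Nat.card {g : G // orderOf g = n} ≤ Nat.card {g : G // IsConj x g}
      rw [hm, hc]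
  have : y ∈ {g : G | orderOf g = n} := hy
  rw [← heq] at this
  exact this


end general

section eight

variable {K : Type*} [Group K]

theorem eq_top_of_mem (hK : Nat.card K = 8) (H : Subgroup K) (c w : K) (hc : orderOf c = 4)
    (hw : w ∉ zpowers c) (hcH : c ∈ H) (hwH : w ∈ H) : H = ⊤ := by
  have : Finite K := Nat.finite_of_card_ne_zero (by rw [hK]; norm_num)
  have h1 : zpowers c < H := by
    refine lt_of_le_of_ne (by rwa [zpowers_le]) ?_
    intro h
    exact hw (h ▸ hwH)
  have h2 : Nat.card (zpowers c) < Nat.card H := by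
    have := Set.ncard_lt_ncard (s := (zpowers c : Set K)) (t := (H : Set K)) h1 (Set.toFinite _)
    exact this
  rw [Nat.card_zpowers, hc] at h2
  have h3 : Nat.card H ∣ 8 := hK ▸ card_subgroup_dvd_card H
  apply eq_top_of_card_eq
  rw [hK]
  have h4 : Nat.card H ≤ 8 := Nat.le_of_dvd (by norm_num) h3
  interval_cases (Nat.card H) <;> omega

/-- a nonabelian group of order eight with two involutions is dihedral. -/
theorem dihedral_of_two_involutions (hK : Nat.card K = 8) (hnc : ¬ IsMulCommutative K) (u z : K)
    (hu : orderOf u = 2) (hz : orderOf z = 2) (huz : u ≠ z) :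
    Nonempty (K ≃* DihedralGroup 4) := by
  classical
  have : Finite K := Nat.finite_of_card_ne_zero (by rw [hK]; norm_num)
  obtain ⟨c, hc⟩ : ∃ c : K, c * c ≠ 1 := by
    by_contra hcon
    push Not at hcon
    apply hnc
    refine ⟨⟨fun a b => ?_⟩⟩
    have h1 := hcon (a * b)
    have h2 := hcon a
    have h3 := hcon b
    calc a * b = a * (a * b * (a * b)) * b := by rw [h1, mul_one]
      _ = (a * a) * (b * a) * (b * b) := by group
      _ = b * a := by rw [h2, h3, one_mul, mul_one]
  have hc4 : orderOf c = 4 := by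
    have h1 : orderOf c ∣ 8 := hK ▸ orderOf_dvd_natCard c
    have h2 : orderOf c ≤ 8 := Nat.le_of_dvd (by norm_num) h1
    have h3 : orderOf c ≠ 8 := by
      intro h8
      have := isCyclic_of_orderOf_eq_card c (by rw [h8, hK])
      exact hnc ⟨⟨(IsCyclic.commGroup).mul_comm⟩⟩
    have h4 : ¬ orderOf c ∣ 2 := by
      intro h
      apply hc
      rw [← pow_two]
      exact orderOf_dvd_iff_pow_eq_one.1 h
    interval_cases (orderOf c) <;> omega
  have hc4' : c ^ 4 = 1 := by rw [← hc4, pow_orderOf_eq_one]
  obtain ⟨w, hw, hwc⟩ : ∃ w : K, orderOf w = 2 ∧ w ≠ c ^ 2 := by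
    by_cases h : u = c ^ 2
    · exact ⟨z, hz, fun h' => huz (h.trans h'.symm)⟩
    · exact ⟨u, hu, h⟩
  have hww : w * w = 1 := by rw [← pow_two, ← hw, pow_orderOf_eq_one]
  have hwinv : w⁻¹ = w := inv_eq_of_mul_eq_one_left hww
  have hmem : ∀ x ∈ zpowers c, x = 1 ∨ x = c ∨ x = c ^ 2 ∨ x = c⁻¹ := by
    intro x hx
    rw [mem_zpowers_iff_mem_range_orderOf, hc4] at hx
    simp only [Finset.mem_image, Finset.mem_range] at hx
    obtain ⟨k, hk, rfl⟩ := hx
    interval_cases k
    · left; simp
    · right; left; simp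
    · right; right; left; rfl
    · right; right; right
      rw [eq_inv_iff_mul_eq_one, ← pow_succ, hc4']
  have hcinv : orderOf c⁻¹ = 4 := by rw [orderOf_inv, hc4]
  have hc2 : orderOf (c ^ 2) = 2 := by
    rw [orderOf_pow, hc4]; norm_num
  have hwn : w ∉ zpowers c := by
    intro h
    rcases hmem w h with h | h | h | h
    · rw [h, orderOf_one] at hw; omega
    · rw [h, hc4] at hw; omega
    · exact hwc h
    · rw [h, hcinv] at hw; omega
  have hidx : (zpowers c).index = 2 := by
    have := (zpowers c).card_mul_index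
    rw [Nat.card_zpowers, hc4, hK] at this
    omega
  have hnorm : (zpowers c).Normal := normal_of_index_eq_two hidx
  have h5 : w * c * w⁻¹ ∈ zpowers c := hnorm.conj_mem c (mem_zpowers c) w
  have h6 : orderOf (w * c * w⁻¹) = 4 := by rw [orderOf_conj, hc4]
  rcases hmem _ h5 with h | h | h | h
  · rw [h, orderOf_one] at h6; omega
  · -- abelian
    exfalso
    have hcomm : w * c = c * w := by
      calc w * c = w * c * w⁻¹ * w := by group
        _ = c * w := by rw [h]
    have e1 : centralizer ({c} : Set K) = ⊤ :=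
      eq_top_of_mem hK _ c w hc4 hwn (by rw [mem_centralizer_singleton_iff])
        (by rw [mem_centralizer_singleton_iff]; exact hcomm)
    have e2 : centralizer ({w} : Set K) = ⊤ :=
      eq_top_of_mem hK _ c w hc4 hwn (by rw [mem_centralizer_singleton_iff]; exact hcomm.symm)
        (by rw [mem_centralizer_singleton_iff])
    have e3 : center K = ⊤ := by
      apply eq_top_of_mem hK _ c w hc4 hwn
      · rw [mem_center_iff]
        intro g
        have : g ∈ centralizer ({c} : Set K) := by rw [e1]; trivial
        exact mem_centralizer_singleton_iff.1 this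
      · rw [mem_center_iff]
        intro g
        have : g ∈ centralizer ({w} : Set K) := by rw [e2]; trivial
        exact mem_centralizer_singleton_iff.1 this
    apply hnc
    refine ⟨⟨fun a b => ?_⟩⟩
    have : b ∈ center K := by rw [e3]; trivial
    exact mem_center_iff.1 this a
  · rw [h, hc2] at h6; omega
  · rw [hwinv] at h
    apply Cfsg.Agent.Lib.Helper51Abs.dihedral_four hK w (w * c) hww
    · calc w * c * (w * c) = (w * c * w) * c := by group
        _ = 1 := by rw [h, inv_mul_cancel]
    · intro h7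
      apply hc
      have h8 : c = c⁻¹ := by
        calc c = (w * w) * c := by rw [hww, one_mul]
          _ = w * (w * c) := by group
          _ = w * c * w := h7
          _ = c⁻¹ := h
      calc c * c = c * c⁻¹ := by rw [← h8]
        _ = 1 := mul_inv_cancel c

end eight

section main

variable {G : Type*} [Group G] [Finite G] [IsSimpleGroup G]

attribute [local instance] fact7

theorem card_order7 (h : Nat.card G = 168) : Nat.card {g : G // orderOf g = 7} = 48 := by
  rw [card_orderOf_eq_prime (card_P7 h), card_syl7 h]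

theorem card_order3 (h : Nat.card G = 168) : Nat.card {g : G // orderOf g = 3} = 56 := by
  rw [card_orderOf_eq_prime (card_P3 h), card_syl3 h]

theorem exists_two_involutions (h : Nat.card G = 168) (T : Sylow 2 G) :
    ∃ u z : G, u ∈ (T : Subgroup G) ∧ z ∈ (T : Subgroup G) ∧ orderOf u = 2 ∧ orderOf z = 2 ∧
      u ≠ z := by
  by_contra hcon
  push Not at hcon
  have hU : ∀ T' : Sylow 2 G, ∀ u z : G, u ∈ (T' : Subgroup G) → z ∈ (T' : Subgroup G) →
      orderOf u = 2 → orderOf z = 2 → u = z := by
    intro T' u z hu hz hu2 hz2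
    obtain ⟨g, rfl⟩ := MulAction.exists_smul_eq G T T'
    have hu' : g⁻¹ * u * g ∈ T := (mem_smul_sylow_iff g u T).1 hu
    have hz' : g⁻¹ * z * g ∈ T := (mem_smul_sylow_iff g z T).1 hz
    have e1 : orderOf (g⁻¹ * u * g) = 2 := by
      have := orderOf_conj g⁻¹ u
      rw [inv_inv] at this
      rw [this, hu2]
    have e2 : orderOf (g⁻¹ * z * g) = 2 := by
      have := orderOf_conj g⁻¹ z
      rw [inv_inv] at this
      rw [this, hz2]
    have e3 := hcon _ _ hu' hz' e1 e2
    have e4 : g⁻¹ * u = g⁻¹ * z := mul_right_cancel e3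
    exact mul_left_cancel e4
  have hcount : Nat.card {g : G // g ≠ 1 ∧ orderOf g ∣ 8} = Nat.card (Sylow 2 G) * 7 := by
    apply card_sigma_sylow
    · intro P
      have h0 := card_ne_one (P : Subgroup G)
      rw [card_P2 h P] at h0
      rw [show (7 : ℕ) = 8 - 1 from rfl, ← h0]
      apply Nat.card_congr
      apply Equiv.subtypeEquivRight
      intro g
      constructor
      · rintro ⟨h1, h2, -⟩
        exact ⟨h1, h2⟩
      · rintro ⟨h1, h2⟩
        exact ⟨h1, h2, orderOf_dvd_of_mem h P h1⟩
    · rintro g ⟨-, hg⟩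
      have h1 : IsPGroup 2 (zpowers g) := by
        obtain ⟨k, -, hk⟩ := (Nat.dvd_prime_pow Nat.prime_two (m := 3)).1 hg
        apply IsPGroup.of_card (n := k)
        rw [Nat.card_zpowers, hk]
      obtain ⟨P, hle⟩ := h1.exists_le_sylow
      exact ⟨P, hle (mem_zpowers g)⟩
    · rintro P P' g ⟨hg1, hg8⟩ hP hP'
      have h2 : 2 ∣ orderOf g := by
        obtain ⟨k, -, hk⟩ := (Nat.dvd_prime_pow Nat.prime_two (m := 3)).1 hg8
        rcases k with _ | k
        · rw [pow_zero] at hk
          exact absurd (orderOf_eq_one_iff.1 hk) hg1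
        · rw [hk, pow_succ]
          exact dvd_mul_left _ _
      set z := g ^ (orderOf g / 2) with hz
      have hz2 : orderOf z = 2 := orderOf_pow_orderOf_div (orderOf_pos g).ne' h2
      have hz1 : z ≠ 1 := by
        intro h1
        rw [h1, orderOf_one] at hz2
        omega
      have aux : ∀ P'' : Sylow 2 G, g ∈ (P'' : Subgroup G) →
          centralizer ({z} : Set G) = P'' := by
        intro P'' hg
        have hzP : z ∈ (P'' : Subgroup G) := pow_mem hg _
        apply centralizer_central h P'' z hzP hz1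
        intro t ht
        have e1 : t * z * t⁻¹ = z :=
          hU P'' _ _ (mul_mem (mul_mem ht hzP) (inv_mem ht)) hzP (by rw [orderOf_conj, hz2]) hz2
        calc t * z = t * z * t⁻¹ * t := by group
          _ = z * t := by rw [e1]
      exact Sylow.ext ((aux P hP).symm.trans (aux P' hP'))
  rw [card_syl2 h] at hcount
  let f : {g : G // g ≠ 1 ∧ orderOf g ∣ 8} ⊕ {g : G // orderOf g = 7} → G :=
    Sum.elim Subtype.val Subtype.val
  have hf : Function.Injective f := by
    rintro (⟨a, ha⟩ | ⟨a, ha⟩) (⟨b, hb⟩ | ⟨b, hb⟩) hab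
    · have : a = b := hab
      subst this; rfl
    · have : a = b := hab
      subst this
      rw [hb] at ha
      omega
    · have : a = b := hab
      subst this
      rw [ha] at hb
      omega
    · have : a = b := hab
      subst this; rfl
  have := Nat.card_le_card_of_injective f hf
  rw [Nat.card_sum, hcount, card_order7 h, h] at this
  omega

theorem syl2_dihedral (h : Nat.card G = 168) (T : Sylow 2 G) :
    Nonempty ((T : Subgroup G) ≃* DihedralGroup 4) := by
  obtain ⟨u, z, hu, hz, hu2, hz2, huz⟩ := exists_two_involutions h T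
  exact dihedral_of_two_involutions (card_P2 h T) (syl2_not_comm h T) ⟨u, hu⟩ ⟨z, hz⟩
    (by rw [Subgroup.orderOf_mk, hu2]) (by rw [Subgroup.orderOf_mk, hz2])
    (fun h' => huz (congrArg Subtype.val h'))

end main

end Cfsg.Agent.Lib.Helper54Ord168b
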