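import Cfsg.Agent.Lib.Helper54CharP
import Cfsg.Prelude.Def_LocalStructure

set_option autoImplicit false

namespace Cfsg.Agent.Lib.Helper54Parabolic

open Subgroup Cfsg.Agent.Lib.Helper28Comp Cfsg.Agent.Lib.Helper28Layer
  Cfsg.Agent.Lib.Helper28More Cfsg.Agent.Lib.Helper54Coprime Cfsg.Agent.Lib.Helper54CharP
  Cfsg.Agent.Lib.Helper54StrEmb Cfsg.Agent.Lib.Helper40Sylow

variable {G : Type*} [Group G]

/-- A `p`-group `T` normalizing a nontrivial `p`-group `R` centralizes a nontrivial element of `R`. -/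
theorem inf_centralizer_ne_bot [Finite G] {p : ℕ} [Fact p.Prime] {R T : Subgroup G} (hT : IsPGroup p T)
    (hR : IsPGroup p R) (hne : R ≠ ⊥) (hTR : T ≤ normalizer (R : Set G)) :
    R ⊓ centralizer (T : Set G) ≠ ⊥ := by
  let act : MulAction T R :=
    { smul := fun t r => ⟨t.1 * r.1 * t.1⁻¹, conj_mem_of_mem_normalizer (hTR t.2) r.2⟩
      one_smul := fun r => by
        apply Subtype.ext
        show ((1 : T) : G) * r.1 * ((1 : T) : G)⁻¹ = r.1
        simp
      mul_smul := fun a b r => by
        apply Subtype.ext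
        show ((a * b : T) : G) * r.1 * ((a * b : T) : G)⁻¹ = a.1 * (b.1 * r.1 * b.1⁻¹) * a.1⁻¹
        simp only [Subgroup.coe_mul]; group }
  have hdvd : p ∣ Nat.card R := by
    obtain ⟨z, hz, hzp⟩ := exists_orderOf_eq hR hne
    rw [← hzp]
    have := orderOf_dvd_natCard (⟨z, hz⟩ : R)
    rwa [← Subgroup.orderOf_coe] at this
  have h1 : (1 : R) ∈ MulAction.fixedPoints T R := by
    intro t
    apply Subtype.ext
    show t.1 * ((1 : R) : G) * t.1⁻¹ = ((1 : R) : G)
    simp
  obtain ⟨b, hb, hb1⟩ := hT.exists_fixed_point_of_prime_dvd_card_of_fixed_point R hdvd h1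
  intro hbot
  apply hb1
  have h2 : (b : G) ∈ R ⊓ centralizer (T : Set G) := by
    refine mem_inf.mpr ⟨b.2, ?_⟩
    rw [mem_centralizer_iff]
    intro t ht
    have h3 : t * (b : G) * t⁻¹ = b := congrArg Subtype.val (hb ⟨t, ht⟩)
    calc t * (b : G) = t * b * t⁻¹ * t := by group
      _ = b * t := by rw [h3]
  rw [hbot, mem_bot] at h2
  exact Subtype.ext h2.symm

/-- If `z` is central in the `p`-group `X` and `C_G(z)` has characteristic `p`, so has `N_G(X)`. -/
theorem charP_normalizer_of_central [Finite G] {p : ℕ} [Fact p.Prime] {X : Subgroup G} (hX : IsPGroup p X)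
    {z : G} (hzX : z ∈ X) (hzc : ∀ x ∈ X, x * z = z * x) (hz : CharP p (centralizer ({z} : Set G))) :
    CharP p (normalizer (X : Set G)) := by
  have hXL : X ≤ centralizer ({z} : Set G) := by
    intro x hx
    rw [mem_centralizer_singleton_iff]
    exact hzc x hx
  have h1 := hz.inf_centralizer hX hXL
  have h2 : centralizer ({z} : Set G) ⊓ centralizer (X : Set G) = centralizer (X : Set G) := by
    apply inf_eq_right.mpr
    apply Subgroup.centralizer_le
    simpa using hzX
  rw [h2] at h1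
  apply CharP.of_inf_centralizer (B := X) ⟨le_normalizer, le_rfl⟩ hX
  rwa [inf_eq_right.mpr (centralizer_le_normalizer _)]

theorem charP_cj_iff {p : ℕ} {K : Subgroup G} (g : G) : CharP p (cj g K) ↔ CharP p K :=
  (charP_map_iff (MulAut.conj g).injective).symm

theorem charP_centralizer_conj_iff {p : ℕ} (g z : G) :
    CharP p (centralizer ({g * z * g⁻¹} : Set G)) ↔ CharP p (centralizer ({z} : Set G)) := by
  rw [centralizer_singleton_conj, charP_cj_iff]

theorem omegaOne_le (p : ℕ) (H : Subgroup G) : Cfsg.omegaOne p H ≤ H := by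
  unfold Cfsg.omegaOne
  rw [closure_le]
  intro x hx
  exact hx.1

theorem mem_omegaOne {p : ℕ} {H : Subgroup G} {x : G} (hx : x ∈ H) (hxp : x ^ p = 1) :
    x ∈ Cfsg.omegaOne p H := subset_closure ⟨hx, hxp⟩

theorem le_sylow_of_le_normalizer {p : ℕ} (T : Sylow p G) {R : Subgroup G} (hR : IsPGroup p R)
    (hTR : (T : Subgroup G) ≤ normalizer (R : Set G)) : R ≤ T := by
  have h1 : IsPGroup p ((T : Subgroup G) ⊔ R : Subgroup G) := T.2.to_sup_of_normal_right' hR hTR
  have h2 := T.3 h1 le_sup_left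
  rw [← h2]; exact le_sup_right

/-- Parabolic characteristic `p` in terms of the centralizers of the elements of `Ω₁(Z(S))`. -/
theorem parabolic_iff [Finite G] {p : ℕ} [Fact p.Prime] (S : Sylow p G) :
    Cfsg.IsOfParabolicCharacteristic p G ↔ ∀ z : G, z ≠ 1 →
      z ∈ Cfsg.omegaOne p ((S : Subgroup G) ⊓ centralizer ((S : Subgroup G) : Set G)) →
        CharP p (centralizer ({z} : Set G)) := by
  constructor
  · intro hpar z hz1 hz
    have hzZ := omegaOne_le _ _ hz
    obtain ⟨hzS, hzc⟩ := mem_inf.mp hzZ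
    have hRp : IsPGroup p (zpowers z) := S.2.to_le (zpowers_le.mpr hzS)
    have hRne : zpowers z ≠ ⊥ := by rwa [Ne, zpowers_eq_bot]
    have hSN : (S : Subgroup G) ≤ normalizer ((zpowers z : Subgroup G) : Set G) := by
      refine le_trans ?_ (centralizer_le_normalizer _)
      rw [le_centralizer_iff, zpowers_le]
      exact hzc
    have h1 := charP_iff_subtype.mp (hpar _ hRp hRne ⟨S, hSN⟩)
    have h2 : NormIn (centralizer ((zpowers z : Subgroup G) : Set G))
        (normalizer ((zpowers z : Subgroup G) : Set G)) :=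
      ⟨centralizer_le_normalizer _, normalizer_le_normalizer_centralizer _⟩
    have h3 := h1.of_normIn h2
    rwa [centralizer_zpowers_eq] at h3
  · intro h R hR hne hpar
    obtain ⟨T, hT⟩ := hpar
    rw [charP_iff_subtype]
    have hRT : R ≤ T := le_sylow_of_le_normalizer T hR hT
    have h1 := inf_centralizer_ne_bot T.2 hR hne hT
    obtain ⟨z', hz', hz'p⟩ := exists_orderOf_eq (hR.to_le inf_le_left) h1
    obtain ⟨hz'R, hz'c⟩ := mem_inf.mp hz'
    obtain ⟨g, hg⟩ := MulAction.exists_smul_eq G T S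
    have hST : (S : Subgroup G) = cj g T := by rw [← hg, sylow_smul_eq_cj]
    have hzS : g * z' * g⁻¹ ∈ (S : Subgroup G) ⊓ centralizer ((S : Subgroup G) : Set G) := by
      rw [hST, centralizer_cj, ← cj_inf]
      exact conj_mem_cj (mem_inf.mpr ⟨hRT hz'R, hz'c⟩)
    have hz1 : g * z' * g⁻¹ ≠ 1 := by
      intro h0
      have := Cfsg.Agent.Lib.Helper54StrEmb.orderOf_conj g z'
      rw [h0, orderOf_one, hz'p] at this
      exact (Fact.out : p.Prime).one_lt.ne this
    have hzp : (g * z' * g⁻¹) ^ p = 1 := by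
      rw [← hz'p, ← Cfsg.Agent.Lib.Helper54StrEmb.orderOf_conj g z', pow_orderOf_eq_one]
    have h2 := h _ hz1 (mem_omegaOne hzS hzp)
    rw [charP_centralizer_conj_iff] at h2
    apply charP_normalizer_of_central hR hz'R _ h2
    intro x hx
    exact mem_centralizer_iff.mp hz'c x (hRT hx)

/-- Local characteristic `p` from the centralizers of the elements of order `p` of a Sylow subgroup. -/
theorem local_of_forall [Finite G] {p : ℕ} [Fact p.Prime] (hdiv : p ∣ Nat.card G) (S : Sylow p G)
    (h : ∀ z : G, z ∈ (S : Subgroup G) → orderOf z = p → CharP p (centralizer ({z} : Set G))) :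
    Cfsg.IsOfLocalCharacteristic p G := by
  refine ⟨hdiv, ?_⟩
  intro T hT hne
  rw [charP_iff_subtype]
  obtain ⟨z', hz'T, hz'p, hz'c⟩ := exists_central_orderOf_eq hT hne
  obtain ⟨g, -, hg⟩ := (isSylowIn_top S).exists_conj_le hT le_top
  have h1 := h (g * z' * g⁻¹) (hg (conj_mem_cj hz'T))
    (by rw [Cfsg.Agent.Lib.Helper54StrEmb.orderOf_conj, hz'p])
  rw [charP_centralizer_conj_iff] at h1
  exact charP_normalizer_of_central hT hz'T hz'c h1

end Cfsg.Agent.Lib.Helper54Parabolic
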