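import Cfsg.Agent.Lib.Helper30SZ
import Cfsg.Agent.Lib.Helper30Coprime
import Cfsg.Agent.Lib.Helper54Coprime

set_option autoImplicit false

/-! General lemmas on subgroups acting by conjugation on a subgroup `V` of the ambient group. -/

namespace Cfsg.Agent.Lib.Helper55Act

open Subgroup
open scoped commutatorElement

variable {G : Type*} [Group G]

theorem le_normalizer_of_conj_mem {A D : Subgroup G} (h : ∀ a ∈ A, ∀ d ∈ D, a * d * a⁻¹ ∈ D) :
    A ≤ normalizer (D : Set G) := by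
  intro a ha
  rw [mem_normalizer_iff]
  intro d
  refine ⟨h a ha d, fun hd => ?_⟩
  have := h a⁻¹ (A.inv_mem ha) _ hd
  simpa [mul_assoc] using this

theorem conj_mem_of_mem_normalizer {D : Subgroup G} {a d : G} (ha : a ∈ normalizer (D : Set G))
    (hd : d ∈ D) : a * d * a⁻¹ ∈ D := (mem_normalizer_iff.1 ha d).1 hd

theorem conj_mem_of_mem_normalizer' {D : Subgroup G} {a d : G} (ha : a ∈ normalizer (D : Set G))
    (hd : d ∈ D) : a⁻¹ * d * a ∈ D := by
  have := (mem_normalizer_iff.1 (inv_mem ha) d).1 hd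
  simpa using this

/-- elements normalizing `W` and acting trivially on `V` modulo `W`. -/
def actTriv (V W : Subgroup G) : Subgroup G where
  carrier := {g | g ∈ normalizer (W : Set G) ∧ ∀ v ∈ V, ⁅v, g⁆ ∈ W}
  one_mem' := ⟨one_mem _, fun v _ => by simp⟩
  mul_mem' := by
    rintro a b ⟨ha, ha'⟩ ⟨hb, hb'⟩
    refine ⟨mul_mem ha hb, fun v hv => ?_⟩
    have : ⁅v, a * b⁆ = ⁅v, a⁆ * (a * ⁅v, b⁆ * a⁻¹) := by
      simp only [commutatorElement_def]; group
    rw [this]
    exact W.mul_mem (ha' v hv) (conj_mem_of_mem_normalizer ha (hb' v hv))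
  inv_mem' := by
    rintro a ⟨ha, ha'⟩
    refine ⟨inv_mem ha, fun v hv => ?_⟩
    have : ⁅v, a⁻¹⁆ = a⁻¹ * (⁅v, a⁆)⁻¹ * a := by
      simp only [commutatorElement_def]; group
    rw [this]
    exact conj_mem_of_mem_normalizer' ha (W.inv_mem (ha' v hv))

theorem mem_actTriv {V W : Subgroup G} {g : G} :
    g ∈ actTriv V W ↔ g ∈ normalizer (W : Set G) ∧ ∀ v ∈ V, ⁅v, g⁆ ∈ W := Iff.rfl

theorem commutator_le_of_le_actTriv {V W X : Subgroup G} (h : X ≤ actTriv V W) : ⁅V, X⁆ ≤ W := by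
  rw [commutator_le]
  intro v hv x hx
  exact (h hx).2 v hv

theorem le_actTriv {V W X : Subgroup G} (hN : X ≤ normalizer (W : Set G)) (h : ⁅V, X⁆ ≤ W) :
    X ≤ actTriv V W :=
  fun _ hx => ⟨hN hx, fun _ hv => h (commutator_mem_commutator hv hx)⟩

theorem commutator_le_left {V X : Subgroup G} (h : X ≤ normalizer (V : Set G)) : ⁅V, X⁆ ≤ V :=
  Cfsg.Agent.Lib.Helper30SZ.commutator_le_of_le_normalizer h

/-- `A` normalizes `[V,A][V,B]`. -/
theorem le_normalizer_commutator_sup {V A B : Subgroup G} (hA : A ≤ normalizer (V : Set G))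
    (hB : B ≤ normalizer (V : Set G)) : A ≤ normalizer ((⁅V, A⁆ ⊔ ⁅V, B⁆ : Subgroup G) : Set G) := by
  apply le_normalizer_of_conj_mem
  intro a ha d hd
  have h1 : (⁅V, A⁆ ⊔ ⁅V, B⁆ : Subgroup G).map (MulAut.conj a).toMonoidHom ≤ ⁅V, A⁆ ⊔ ⁅V, B⁆ := by
    rw [Subgroup.map_sup]
    apply sup_le
    · rintro _ ⟨x, hx, rfl⟩
      apply le_sup_left (a := ⁅V, A⁆)
      exact conj_mem_of_mem_normalizer
        (Cfsg.Agent.Lib.Helper30SZ.le_normalizer_commutator hA le_normalizer ha) hx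
    · rintro _ ⟨x, hx, rfl⟩
      have hxV : x ∈ V := commutator_le_left hB hx
      have h2 : (MulAut.conj a).toMonoidHom x = (⁅x, a⁆)⁻¹ * x := by
        simp only [commutatorElement_def, MulEquiv.coe_toMonoidHom, MulAut.conj_apply]; group
      rw [h2]
      exact mul_mem (le_sup_left (a := ⁅V, A⁆) (inv_mem (commutator_mem_commutator hxV ha)))
        (le_sup_right (a := ⁅V, A⁆) hx)
  exact h1 ⟨d, hd, rfl⟩

theorem commutator_sup_eq {V A B : Subgroup G} (hA : A ≤ normalizer (V : Set G))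
    (hB : B ≤ normalizer (V : Set G)) : ⁅V, A ⊔ B⁆ = ⁅V, A⁆ ⊔ ⁅V, B⁆ := by
  apply le_antisymm
  · apply commutator_le_of_le_actTriv
    apply sup_le
    · exact le_actTriv (le_normalizer_commutator_sup hA hB) le_sup_left
    · refine le_actTriv ?_ le_sup_right
      rw [sup_comm]
      exact le_normalizer_commutator_sup hB hA
  · exact sup_le (commutator_mono le_rfl le_sup_left) (commutator_mono le_rfl le_sup_right)

/-- stabilizers of `V ≥ W ≥ 1` have exponent `p` modulo `C(V)`. -/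
theorem pow_mem_centralizer_of_stab {p : ℕ} {V W : Subgroup G} (hW : ∀ w ∈ W, w ^ p = 1) {g : G}
    (h1 : ∀ v ∈ V, ⁅v, g⁆ ∈ W) (h2 : g ∈ centralizer (W : Set G)) :
    g ^ p ∈ centralizer (V : Set G) := by
  rw [mem_centralizer_iff]
  intro v hv
  have hz : ⁅v⁻¹, g⁆ ∈ W := h1 _ (V.inv_mem hv)
  have h3 : g * v * g⁻¹ = v * ⁅v⁻¹, g⁆ := by simp only [commutatorElement_def]; group
  have h4 : Commute g ⁅v⁻¹, g⁆ := ((mem_centralizer_iff.1 h2) _ hz).symm
  have h5 := Cfsg.Agent.Lib.Helper30Coprime.conj_pow_of_commute h3 h4 p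
  rw [hW _ hz, mul_one] at h5
  exact (mul_inv_eq_iff_eq_mul.1 h5).symm

theorem commutator_eq_bot_iff {V X : Subgroup G} : ⁅V, X⁆ = ⊥ ↔ X ≤ centralizer (V : Set G) := by
  rw [commutator_comm, commutator_eq_bot_iff_le_centralizer]

section card

variable {V : Subgroup G} {a : G}

/-- the commutator map `v ↦ [v,a]` on an abelian subgroup normalized by `a`. -/
def commHom (hV : ∀ v ∈ V, ∀ w ∈ V, v * w = w * v) (ha : a ∈ normalizer (V : Set G)) : V →* V where
  toFun v := ⟨⁅(v : G), a⁆, by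
    have : ⁅(v : G), a⁆ = v * (a * (v : G)⁻¹ * a⁻¹) := by simp only [commutatorElement_def]; group
    rw [this]
    exact V.mul_mem v.2 (conj_mem_of_mem_normalizer ha (V.inv_mem v.2))⟩
  map_one' := by ext; simp
  map_mul' := by
    intro v w
    ext
    have h1 : a * (v : G)⁻¹ * a⁻¹ ∈ V := conj_mem_of_mem_normalizer ha (V.inv_mem v.2)
    have h2 : a * (w : G)⁻¹ * a⁻¹ ∈ V := conj_mem_of_mem_normalizer ha (V.inv_mem w.2)
    have h3 := hV _ w.2 _ h1
    have h4 := hV _ h1 _ h2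
    show ⁅(v : G) * w, a⁆ = ⁅(v : G), a⁆ * ⁅(w : G), a⁆
    simp only [commutatorElement_def]
    calc (v : G) * w * a * ((v : G) * w)⁻¹ * a⁻¹
        = v * w * ((a * (w : G)⁻¹ * a⁻¹) * (a * (v : G)⁻¹ * a⁻¹)) := by group
      _ = v * w * ((a * (v : G)⁻¹ * a⁻¹) * (a * (w : G)⁻¹ * a⁻¹)) := by rw [h4]
      _ = v * (w * (a * (v : G)⁻¹ * a⁻¹)) * (a * (w : G)⁻¹ * a⁻¹) := by group
      _ = v * ((a * (v : G)⁻¹ * a⁻¹) * w) * (a * (w : G)⁻¹ * a⁻¹) := by rw [h3]
      _ = _ := by group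

theorem commHom_range (hV : ∀ v ∈ V, ∀ w ∈ V, v * w = w * v) (ha : a ∈ normalizer (V : Set G)) :
    (commHom hV ha).range.map V.subtype = ⁅V, zpowers a⁆ := by
  apply le_antisymm
  · rintro _ ⟨_, ⟨v, rfl⟩, rfl⟩
    exact commutator_mem_commutator v.2 (mem_zpowers a)
  · apply commutator_le_of_le_actTriv
    rw [zpowers_le, mem_actTriv]
    constructor
    · have : zpowers a ≤ normalizer (((commHom hV ha).range.map V.subtype : Subgroup G) : Set G) := by
        apply le_normalizer_of_conj_mem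
        intro y hy
        have hyN : y ∈ normalizer (V : Set G) := (zpowers_le.2 ha) hy
        have hya : y * a = a * y := by
          obtain ⟨k, rfl⟩ := hy
          exact ((Commute.refl a).zpow_left k).eq
        rintro _ ⟨_, ⟨v, rfl⟩, rfl⟩
        refine ⟨_, ⟨⟨y * v * y⁻¹, conj_mem_of_mem_normalizer hyN v.2⟩, rfl⟩, ?_⟩
        show ⁅y * (v : G) * y⁻¹, a⁆ = y * ⁅(v : G), a⁆ * y⁻¹
        have hya' : y⁻¹ * a = a * y⁻¹ := by
          rw [inv_mul_eq_iff_eq_mul, ← mul_assoc, hya, mul_assoc, mul_inv_cancel, mul_one]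
        simp only [commutatorElement_def]
        calc y * (v : G) * y⁻¹ * a * (y * v * y⁻¹)⁻¹ * a⁻¹
            = y * v * (y⁻¹ * a) * y * (v : G)⁻¹ * (a * y)⁻¹ := by group
          _ = y * v * (a * y⁻¹) * y * (v : G)⁻¹ * (y * a)⁻¹ := by rw [hya', hya]
          _ = _ := by group
      exact this (mem_zpowers a)
    · intro v hv
      exact ⟨_, ⟨⟨v, hv⟩, rfl⟩, rfl⟩

theorem commHom_ker (hV : ∀ v ∈ V, ∀ w ∈ V, v * w = w * v) (ha : a ∈ normalizer (V : Set G)) :
    (commHom hV ha).ker.map V.subtype = V ⊓ centralizer (zpowers a : Set G) := by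
  ext x
  constructor
  · rintro ⟨v, hv, rfl⟩
    refine ⟨v.2, ?_⟩
    have h1 : ⁅(v : G), a⁆ = 1 := congrArg Subtype.val (MonoidHom.mem_ker.1 hv)
    have h2 := commutatorElement_eq_one_iff_mul_comm.1 h1
    have : zpowers a ≤ centralizer {(v : G)} := by
      rw [zpowers_le, mem_centralizer_iff]
      intro y hy
      have : y = v := hy
      rw [this]; exact h2
    show (v : G) ∈ centralizer (zpowers a : Set G)
    rw [mem_centralizer_iff]
    intro y hy
    exact ((mem_centralizer_iff.1 (this hy)) _ rfl).symm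
  · rintro ⟨hxV, hxC⟩
    refine ⟨⟨x, hxV⟩, ?_, rfl⟩
    rw [SetLike.mem_coe, MonoidHom.mem_ker]
    ext
    show ⁅x, a⁆ = 1
    rw [commutatorElement_eq_one_iff_mul_comm]
    exact ((mem_centralizer_iff.1 hxC) a (mem_zpowers a)).symm

theorem card_commutator_zpowers (hV : ∀ v ∈ V, ∀ w ∈ V, v * w = w * v)
    (ha : a ∈ normalizer (V : Set G)) :
    Nat.card ↥(V ⊓ centralizer (zpowers a : Set G)) * Nat.card ↥(⁅V, zpowers a⁆) = Nat.card V := by
  rw [← commHom_range hV ha, ← commHom_ker hV ha, card_map_of_injective V.subtype_injective,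
    card_map_of_injective V.subtype_injective, ← Subgroup.index_ker, Subgroup.card_mul_index]

end card

end Cfsg.Agent.Lib.Helper55Act
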