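import Cfsg.Prelude.Def_PLocal
import Cfsg.Agent.Lib.Helper40Cores
import Cfsg.Agent.Lib.Helper27Core
import Cfsg.Agent.Lib.Helper14ElemAb
import Cfsg.Agent.S0028
import Cfsg.Agent.S3734
import Cfsg.Agent.Lib.Helper55Act

set_option autoImplicit false

/-! Failure of factorization (Kurzweil–Stellmacher 9.3): basic setting and best offenders. -/

namespace Cfsg.Agent.Lib.Helper55FF

open Subgroup
open scoped commutatorElement

variable {G : Type*} [Group G]

/-- `O_{p'}(H)` viewed in the ambient group. -/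
def Qof (p : ℕ) (H : Subgroup G) : Subgroup G := (Cfsg.pPrimeCore p ↥H).map H.subtype

/-- `|A| |C_V(A)|`. -/
noncomputable def mm (V A : Subgroup G) : ℕ := Nat.card A * Nat.card ↥(V ⊓ centralizer (A : Set G))

/-- the setting: `H` acts faithfully on the elementary abelian `V`, `O_{p'}(H)` self-centralizing. -/
structure FF (p : ℕ) (V H : Subgroup G) : Prop where
  hV : Cfsg.IsElementaryAbelian p V
  hHV : H ≤ normalizer (V : Set G)
  hf : H ⊓ centralizer (V : Set G) = ⊥
  hS1 : centralizer (Cfsg.pPrimeCore p ↥H : Set ↥H) ≤ Cfsg.pPrimeCore p ↥H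

theorem Qof_le (p : ℕ) (H : Subgroup G) : Qof p H ≤ H := map_subtype_le _

theorem le_normalizer_map_subtype {H : Subgroup G} (N : Subgroup ↥H) [hN : N.Normal] :
    H ≤ normalizer ((N.map H.subtype : Subgroup G) : Set G) := by
  intro h hh
  rw [mem_normalizer_iff]
  intro x
  constructor
  · rintro ⟨y, hy, rfl⟩
    exact ⟨⟨h, hh⟩ * y * ⟨h, hh⟩⁻¹, hN.conj_mem y hy _, rfl⟩
  · rintro ⟨y, hy, hyx⟩
    refine ⟨⟨h, hh⟩⁻¹ * y * ⟨h, hh⟩, ?_, ?_⟩
    · have := hN.conj_mem y hy (⟨h, hh⟩⁻¹)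
      simpa using this
    · simp only [subtype_apply, coe_mul, InvMemClass.coe_inv] at hyx ⊢
      rw [hyx]; group

theorem le_normalizer_Qof (p : ℕ) (H : Subgroup G) : H ≤ normalizer (Qof p H : Set G) :=
  haveI := Cfsg.Agent.Lib.Helper40Cores.pPrimeCore_normal (p := p) (G := ↥H)
  le_normalizer_map_subtype _

theorem card_Qof_coprime [Finite G] (p : ℕ) (H : Subgroup G) : (Nat.card (Qof p H)).Coprime p := by
  have h := Cfsg.Agent.Lib.Helper40Cores.pPrimeCore_coprime (p := p) (G := ↥H)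
  unfold Qof
  rwa [Subgroup.card_map_of_injective H.subtype_injective]

theorem isPGroup_of_elemAb {p : ℕ} {A : Subgroup G} (h : Cfsg.IsElementaryAbelian p A) :
    IsPGroup p A := by
  intro a
  refine ⟨1, ?_⟩
  have := h.2 a a.2
  ext
  simpa using this

theorem comm_of_elemAb {p : ℕ} {A : Subgroup G} (h : Cfsg.IsElementaryAbelian p A) {a b : G}
    (ha : a ∈ A) (hb : b ∈ A) : a * b = b * a := by
  have := (isMulCommutative_iff.1 h.1) ⟨a, ha⟩ ⟨b, hb⟩
  exact congrArg Subtype.val this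

theorem le_centralizer_of_elemAb {p : ℕ} {A : Subgroup G} (h : Cfsg.IsElementaryAbelian p A) :
    A ≤ centralizer (A : Set G) := by
  intro a ha
  rw [mem_centralizer_iff]
  intro b hb
  exact comm_of_elemAb h hb ha

namespace FF

variable {p : ℕ} {V H : Subgroup G}

theorem inf_centralizer_Qof_le (h : FF p V H) : H ⊓ centralizer (Qof p H : Set G) ≤ Qof p H := by
  rintro x ⟨hxH, hxC⟩
  have : (⟨x, hxH⟩ : ↥H) ∈ centralizer (Cfsg.pPrimeCore p ↥H : Set ↥H) := by
    rw [mem_centralizer_iff]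
    intro y hy
    have := (mem_centralizer_iff.1 hxC) (y : G) ⟨y, hy, rfl⟩
    exact Subtype.ext this
  exact ⟨_, h.hS1 this, rfl⟩

theorem eq_one_of_centralizes (h : FF p V H) {x : G} (hx : x ∈ H)
    (hc : x ∈ centralizer (V : Set G)) : x = 1 := by
  have : x ∈ H ⊓ centralizer (V : Set G) := ⟨hx, hc⟩
  rw [h.hf] at this
  exact this

theorem eq_bot_of_le_centralizer (h : FF p V H) {A : Subgroup G} (hA : A ≤ H)
    (hc : A ≤ centralizer (V : Set G)) : A = ⊥ := by
  rw [eq_bot_iff, ← h.hf]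
  exact le_inf hA hc

theorem elemAb_of_offender (h : FF p V H) {A : Subgroup G} (hAH : A ≤ H)
    (hA : Cfsg.IsBestOffenderOn p V A) : Cfsg.IsElementaryAbelian p A := by
  refine ⟨?_, fun a ha => h.eq_one_of_centralizes (H.pow_mem (hAH ha) _) (hA.2.2 a ha)⟩
  rw [isMulCommutative_iff]
  intro a b
  have h1 : ⁅(a : G), (b : G)⁆ ∈ ⁅A, A⁆ := commutator_mem_commutator a.2 b.2
  have h2 : ⁅(a : G), (b : G)⁆ = 1 :=
    h.eq_one_of_centralizes (commutator_le.2 (fun x hx y hy =>
      H.mul_mem (H.mul_mem (H.mul_mem (hAH hx) (hAH hy)) (H.inv_mem (hAH hx))) (H.inv_mem (hAH hy))) h1)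
      (hA.2.1 h1)
  exact Subtype.ext (commutatorElement_eq_one_iff_mul_comm.1 h2)

end FF

theorem mm_bot (V : Subgroup G) : mm V ⊥ = Nat.card V := by
  unfold mm
  have : V ⊓ centralizer (((⊥ : Subgroup G) : Subgroup G) : Set G) = V := by
    rw [inf_eq_left]
    intro v _
    rw [mem_centralizer_iff]
    intro y hy
    have : y = 1 := hy
    simp [this]
  rw [this]
  simp

theorem offender_of_le {p : ℕ} {V A B : Subgroup G} (hA : Cfsg.IsBestOffenderOn p V A) (hBA : B ≤ A)
    (hm : mm V A ≤ mm V B) : Cfsg.IsBestOffenderOn p V B :=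
  ⟨fun C hC => (hA.1 C (hC.trans hBA)).trans hm, (commutator_mono hBA hBA).trans hA.2.1,
    fun a ha => hA.2.2 a (hBA ha)⟩

theorem card_sup_zpowers_of_prime {p : ℕ} [hp : Fact p.Prime] {B : Subgroup G} {a : G}
    (ha : a ^ p = 1) (haB : a ∉ B) (hn : a ∈ normalizer (B : Set G)) :
    Nat.card (B ⊔ zpowers a : Subgroup G) = Nat.card B * p := by
  rw [Cfsg.Agent.Lib.Helper27Core.card_sup_eq (zpowers_le.2 hn)]
  congr 1
  have ha1 : a ≠ 1 := fun h => haB (h ▸ B.one_mem)
  have ho : orderOf a = p := orderOf_eq_prime ha ha1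
  have hc : Nat.card (zpowers a) = p := by rw [Nat.card_zpowers, ho]
  have h1 : B.relIndex (zpowers a) ∣ p := hc ▸ relIndex_dvd_card B (zpowers a)
  rcases (Nat.dvd_prime hp.out).1 h1 with h | h
  · exfalso
    rw [relIndex_eq_one] at h
    exact haB (h (mem_zpowers a))
  · exact h


theorem eq_one_of_mem_of_coprime [Finite G] {p : ℕ} {A Q : Subgroup G} (hA : IsPGroup p A)
    (hQ : (Nat.card Q).Coprime p) {x : G} (hxA : x ∈ A) (hxQ : x ∈ Q) : x = 1 := by
  obtain ⟨k, hk⟩ := hA ⟨x, hxA⟩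
  have h1 : x ^ p ^ k = 1 := by simpa using congrArg Subtype.val hk
  have h2 : x ^ Nat.card Q = 1 := by
    have := pow_card_eq_one' (G := Q) (x := ⟨x, hxQ⟩)
    exact congrArg Subtype.val this
  have h3 : orderOf x ∣ Nat.gcd (p ^ k) (Nat.card Q) :=
    Nat.dvd_gcd (orderOf_dvd_of_pow_eq_one h1) (orderOf_dvd_of_pow_eq_one h2)
  have h4 : Nat.gcd (p ^ k) (Nat.card Q) = 1 := (Nat.Coprime.pow_left k hQ.symm)
  rw [h4, Nat.dvd_one, orderOf_eq_one_iff] at h3
  exact h3

theorem coprime_card_of_isPGroup [Finite G] {p : ℕ} [Fact p.Prime] {A Q : Subgroup G}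
    (hA : IsPGroup p A) (hQ : (Nat.card Q).Coprime p) : (Nat.card A).Coprime (Nat.card Q) := by
  obtain ⟨k, hk⟩ := IsPGroup.iff_card.1 hA
  rw [hk]
  exact Nat.Coprime.pow_left k hQ.symm

/-- proper subgroups of `p`-groups: the order jumps at least by `p`. -/
theorem mul_card_le_of_lt [Finite G] {p : ℕ} [hp : Fact p.Prime] {C D : Subgroup G} (hD : IsPGroup p D)
    (hlt : C < D) : p * Nat.card C ≤ Nat.card D := by
  obtain ⟨k, hk⟩ := IsPGroup.iff_card.1 hD
  have h1 := Cfsg.Agent.Lib.Helper27Core.card_mul_relIndex hlt.le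
  have h2 : C.relIndex D ∣ p ^ k := hk ▸ (Dvd.intro_left _ h1)
  obtain ⟨j, -, hj⟩ := (Nat.dvd_prime_pow hp.out).1 h2
  have h3 : j ≠ 0 := by
    rintro rfl
    rw [pow_zero, relIndex_eq_one] at hj
    exact absurd hj (not_le_of_gt hlt)
  have h4 : p ≤ C.relIndex D := by
    rw [hj]
    calc p = p ^ 1 := (pow_one p).symm
      _ ≤ p ^ j := Nat.pow_le_pow_right hp.out.pos (Nat.one_le_iff_ne_zero.2 h3)
  calc p * Nat.card C = Nat.card C * p := mul_comm _ _
    _ ≤ Nat.card C * C.relIndex D := Nat.mul_le_mul_left _ h4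
    _ = Nat.card D := h1

namespace FF

variable {p : ℕ} [hp : Fact p.Prime] {V H : Subgroup G}

omit hp in
/-- a `p`-subgroup of `H` acts faithfully on `O_{p'}(H)`. -/
theorem not_mem_centralizer_Qof [Finite G] (h : FF p V H) {A : Subgroup G} (hAH : A ≤ H)
    (hA : IsPGroup p A) {x : G} (hxA : x ∈ A) (hx1 : x ≠ 1) : x ∉ centralizer (Qof p H : Set G) :=
  fun hc => hx1 (eq_one_of_mem_of_coprime hA (card_Qof_coprime p H) hxA
    (h.inf_centralizer_Qof_le ⟨hAH hxA, hc⟩))

/-- The `P × Q` step: if `B ≤ A` and `x ∈ A` moves `C_Q(B)`, then `x` moves `C_V(B)`. -/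
theorem not_le_centralizer_of_moves [Finite G] (h : FF p V H) {A B : Subgroup G} (hAH : A ≤ H)
    (hA : Cfsg.IsElementaryAbelian p A) (hBA : B ≤ A) {x : G} (hxA : x ∈ A)
    (hmove : ¬ Qof p H ⊓ centralizer (B : Set G) ≤ centralizer {x}) :
    ¬ V ⊓ centralizer (B : Set G) ≤ centralizer {x} := by
  intro hC
  apply hmove
  set Q := Qof p H with hQ
  set Q₁ := Q ⊓ centralizer (B : Set G) with hQ₁
  set Q₂ : Subgroup G := ⁅Q₁, zpowers x⁆ with hQ₂
  have hxH : x ∈ H := hAH hxA
  have hxQ : x ∈ normalizer (Q : Set G) := le_normalizer_Qof p H hxH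
  have hzx : zpowers x ≤ A := zpowers_le.2 hxA
  have hQ₂Q : Q₂ ≤ Q := by
    rw [hQ₂, commutator_le]
    intro q hq y hy
    have hyN : y ∈ normalizer (Q : Set G) := (zpowers_le.2 hxQ) hy
    have h1 : y * q⁻¹ * y⁻¹ ∈ Q := (mem_normalizer_iff.1 hyN _).1 (Q.inv_mem hq.1)
    have : ⁅q, y⁆ = q * (y * q⁻¹ * y⁻¹) := by rw [commutatorElement_def]; group
    rw [this]
    exact Q.mul_mem hq.1 h1
  have hQ₂B : Q₂ ≤ centralizer (B : Set G) := by
    rw [hQ₂, commutator_le]
    intro q hq y hy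
    have hyB : y ∈ centralizer (B : Set G) :=
      centralizer_le (show (B : Set G) ⊆ A from hBA) (le_centralizer_of_elemAb hA (hzx hy))
    rw [commutatorElement_def]
    exact mul_mem (mul_mem (mul_mem hq.2 hyB) (inv_mem hq.2)) (inv_mem hyB)
  have hQH : Q ≤ H := Qof_le p H
  have hcen : Q₂ ≤ centralizer (V : Set G) := by
    apply Cfsg.Agent.S0028.result p B Q₂ V ((isPGroup_of_elemAb hA).to_le hBA)
      (Nat.Coprime.coprime_dvd_left (card_dvd_of_le hQ₂Q) (card_Qof_coprime p H))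
      (isPGroup_of_elemAb h.hV) (le_centralizer_iff.1 hQ₂B) ((hBA.trans hAH).trans h.hHV)
      ((hQ₂Q.trans hQH).trans h.hHV)
    rw [le_centralizer_iff, hQ₂, commutator_le]
    intro q hq y hy
    have hyC : ∀ c ∈ V ⊓ centralizer (B : Set G), y * c = c * y := by
      intro c hc
      have h1 : zpowers x ≤ centralizer ((V ⊓ centralizer (B : Set G) : Subgroup G) : Set G) := by
        rw [zpowers_le, mem_centralizer_iff]
        intro c hc
        have := mem_centralizer_iff.1 (hC hc) x rfl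
        exact this.symm
      exact ((mem_centralizer_iff.1 (h1 hy)) c hc).symm
    have hqN : ∀ c ∈ V ⊓ centralizer (B : Set G), q⁻¹ * c * q ∈ V ⊓ centralizer (B : Set G) := by
      intro c hc
      refine ⟨?_, ?_⟩
      · have hq' : q⁻¹ ∈ normalizer (V : Set G) := inv_mem (h.hHV (hQH hq.1))
        have := (mem_normalizer_iff.1 hq' c).1 hc.1
        simpa using this
      · exact Subgroup.mul_mem _ (Subgroup.mul_mem _ (Subgroup.inv_mem _ hq.2) hc.2) hq.2
    rw [mem_centralizer_iff]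
    intro c hc
    have h1 := hyC _ (hqN c hc)
    have h2 := hyC c hc
    rw [commutatorElement_def]
    have h3 : y⁻¹ * c = c * y⁻¹ := by
      rw [eq_mul_inv_iff_mul_eq, mul_assoc, ← h2, inv_mul_cancel_left]
    calc c * (q * y * q⁻¹ * y⁻¹) = q * ((q⁻¹ * c * q) * y) * q⁻¹ * y⁻¹ := by group
      _ = q * (y * (q⁻¹ * c * q)) * q⁻¹ * y⁻¹ := by rw [h1]
      _ = q * y * q⁻¹ * (c * y⁻¹) := by group
      _ = q * y * q⁻¹ * (y⁻¹ * c) := by rw [h3]
      _ = q * y * q⁻¹ * y⁻¹ * c := by group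
  have hbot : Q₂ = ⊥ := h.eq_bot_of_le_centralizer (hQ₂Q.trans hQH) hcen
  intro q hq
  rw [mem_centralizer_iff]
  intro y hy
  have hy' : y = x := hy
  subst hy'
  have h1 : ⁅q, y⁆ ∈ Q₂ := commutator_mem_commutator hq (mem_zpowers y)
  rw [hbot] at h1
  exact (commutatorElement_eq_one_iff_mul_comm.1 h1).symm

/-- Key step: every nontrivial element `x` of a best offender `A ≤ H` is avoided by a hyperplane `B` of `A`
which is again a best offender with the same value of `|B||C_V(B)|`. -/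
theorem exists_hyperplane [Finite G] (h : FF p V H) {A : Subgroup G} (hAH : A ≤ H)
    (hA : Cfsg.IsBestOffenderOn p V A) {x : G} (hxA : x ∈ A) (hx1 : x ≠ 1) :
    ∃ B ≤ A, x ∉ B ∧ Nat.card B * p = Nat.card A ∧ Cfsg.IsBestOffenderOn p V B ∧ mm V B = mm V A := by
  have hAel := h.elemAb_of_offender hAH hA
  have hAp := isPGroup_of_elemAb hAel
  set Q := Qof p H with hQ
  have hAQ : A ≤ normalizer (Q : Set G) := hAH.trans (le_normalizer_Qof p H)
  have hcop : (Nat.card A).Coprime (Nat.card Q) := coprime_card_of_isPGroup hAp (card_Qof_coprime p H)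
  have hgen := (Cfsg.Agent.S3734.result A Q hAel.1 hAQ hcop).1
  have hxQ := h.not_mem_centralizer_Qof hAH hAp hxA hx1
  have hex : ∃ B : Subgroup G, (B ≤ A ∧ ∃ a ∈ A, B ⊔ zpowers a = A) ∧
      ¬ Q ⊓ centralizer (B : Set G) ≤ centralizer {x} := by
    by_contra hcon
    push Not at hcon
    apply hxQ
    have : Q ≤ centralizer {x} := by
      rw [← hgen]
      exact iSup₂_le fun B hB => hcon B hB
    rw [mem_centralizer_iff]
    intro q hq
    exact ((mem_centralizer_iff.1 (this hq)) x rfl).symm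
  obtain ⟨B, ⟨hBA, a, haA, hBa⟩, hmove⟩ := hex
  have hxB : x ∉ B := by
    intro hxB
    apply hmove
    intro q hq
    rw [mem_centralizer_iff]
    intro y hy
    have hy' : y = x := hy
    subst hy'
    exact (mem_centralizer_iff.1 hq.2) y hxB
  have haB : a ∉ B := by
    intro haB
    have : B = A := by rw [← hBa]; exact (sup_eq_left.2 (zpowers_le.2 haB)).symm
    exact hxB (this ▸ hxA)
  have haN : a ∈ normalizer (B : Set G) := by
    rw [mem_normalizer_iff]
    intro b
    constructor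
    · intro hb
      have : a * b * a⁻¹ = b := by rw [comm_of_elemAb hAel haA (hBA hb)]; group
      rwa [this]
    · intro hb
      have h1 : a * b * a⁻¹ ∈ A := hBA hb
      have hbA : b ∈ A := by
        have := A.mul_mem (A.mul_mem (A.inv_mem haA) h1) haA
        simpa [mul_assoc] using this
      have : a * b * a⁻¹ = b := by rw [comm_of_elemAb hAel haA hbA]; group
      rwa [this] at hb
  have hcard : Nat.card B * p = Nat.card A := by
    rw [← card_sup_zpowers_of_prime (hAel.2 a haA) haB haN, hBa]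
  have hV' := h.not_le_centralizer_of_moves hAH hAel hBA hxA hmove
  have hlt : V ⊓ centralizer (A : Set G) < V ⊓ centralizer (B : Set G) := by
    refine lt_of_le_of_ne (inf_le_inf_left _ (centralizer_le hBA)) ?_
    intro heq
    apply hV'
    rw [← heq]
    intro v hv
    rw [mem_centralizer_iff]
    intro y hy
    have hy' : y = x := hy
    subst hy'
    exact (mem_centralizer_iff.1 hv.2) y hxA
  have hle := mul_card_le_of_lt ((isPGroup_of_elemAb h.hV).to_le inf_le_left) hlt
  have hm : mm V A ≤ mm V B := by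
    unfold mm
    rw [← hcard, mul_assoc]
    exact Nat.mul_le_mul_left _ hle
  exact ⟨B, hBA, hxB, hcard, offender_of_le hA hBA hm, le_antisymm (hA.1 B hBA) hm⟩

end FF


/-- minimal nontrivially acting best offenders. -/
def IsMinOff (p : ℕ) (V A : Subgroup G) : Prop :=
  Cfsg.IsBestOffenderOn p V A ∧ ⁅V, A⁆ ≠ ⊥ ∧
    ∀ B : Subgroup G, B ≤ A → Cfsg.IsBestOffenderOn p V B → ⁅V, B⁆ ≠ ⊥ → B = A

theorem iSupIndep_cons {k : ℕ} {B : Fin k → Subgroup G} {A₁ C : Subgroup G} (hB : iSupIndep B)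
    (hC : ⨆ i, B i = C) (hdisj : A₁ ⊓ C = ⊥) (hcomm : A₁ ≤ centralizer (C : Set G)) :
    iSupIndep (Fin.cons A₁ B : Fin (k + 1) → Subgroup G) ∧
      ⨆ i, (Fin.cons A₁ B : Fin (k + 1) → Subgroup G) i = A₁ ⊔ C := by
  constructor
  · rw [iSupIndep_def]
    intro i
    refine Fin.cases ?_ (fun i' => ?_) i
    · rw [Fin.cons_zero]
      refine Disjoint.mono_right ?_ (disjoint_iff.2 hdisj)
      refine iSup₂_le fun j hj => ?_
      obtain ⟨j', rfl⟩ := Fin.exists_succ_eq.2 hj
      rw [Fin.cons_succ, ← hC]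
      exact le_iSup B j'
    · rw [Fin.cons_succ]
      set D : Subgroup G := ⨆ (j) (_ : j ≠ i'), B j with hD
      have hDC : D ≤ C := by
        rw [← hC]
        exact iSup₂_le fun j _ => le_iSup B j
      have h1 : (⨆ (j) (_ : j ≠ i'.succ), (Fin.cons A₁ B : Fin (k + 1) → Subgroup G) j) ≤ D ⊔ A₁ := by
        refine iSup₂_le fun j hj => ?_
        revert hj
        refine Fin.cases ?_ (fun j' => ?_) j
        · intro _
          rw [Fin.cons_zero]; exact le_sup_right
        · intro hj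
          rw [Fin.cons_succ]
          have hj' : j' ≠ i' := fun h => hj (by rw [h])
          exact le_trans (le_iSup₂ (f := fun j (_ : j ≠ i') => B j) j' hj') le_sup_left
      refine Disjoint.mono_right h1 ?_
      rw [disjoint_iff, eq_bot_iff]
      rintro x ⟨hx1, hx2⟩
      have hN : A₁ ≤ normalizer (D : Set G) :=
        (hcomm.trans (centralizer_le hDC)).trans (centralizer_le_normalizer _)
      obtain ⟨d, hd, a, ha, rfl⟩ := (Cfsg.Agent.Lib.Helper30SZ.mem_sup_iff hN).1 hx2
      have hxC : d * a ∈ C := by rw [← hC]; exact le_iSup B i' hx1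
      have haC : a ∈ C := by
        have := C.mul_mem (C.inv_mem (hDC hd)) hxC
        simpa using this
      have ha1 : a = 1 := by
        have : a ∈ A₁ ⊓ C := ⟨ha, haC⟩
        rw [hdisj] at this
        exact this
      subst ha1
      rw [mul_one] at hx1 ⊢
      have := (iSupIndep_def.1 hB i').le_bot ⟨hx1, hd⟩
      exact this
  · apply le_antisymm
    · refine iSup_le fun i => ?_
      refine Fin.cases ?_ (fun i' => ?_) i
      · rw [Fin.cons_zero]; exact le_sup_left
      · rw [Fin.cons_succ, ← hC]; exact le_trans (le_iSup B i') le_sup_right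
    · apply sup_le
      · exact le_iSup (Fin.cons A₁ B : Fin (k + 1) → Subgroup G) 0
      · rw [← hC]
        exact iSup_le fun i => le_iSup (Fin.cons A₁ B : Fin (k + 1) → Subgroup G) i.succ

theorem eq_zpowers_of_card_prime {p : ℕ} [hp : Fact p.Prime] [Finite G] {A : Subgroup G}
    (hA : Nat.card A = p) {a : G} (ha : a ∈ A) (ha1 : a ≠ 1) : A = zpowers a := by
  symm
  apply Subgroup.eq_of_le_of_card_ge (zpowers_le.2 ha)
  rw [hA, Nat.card_zpowers]
  have h1 : orderOf a ∣ p := by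
    rw [← hA]
    have := orderOf_dvd_natCard (⟨a, ha⟩ : A)
    rwa [Subgroup.orderOf_mk] at this
  rcases (Nat.dvd_prime hp.out).1 h1 with h | h
  · exact absurd (orderOf_eq_one_iff.1 h) ha1
  · exact h.ge

theorem exists_ne_one_of_ne_bot {A : Subgroup G} (h : A ≠ ⊥) : ∃ x ∈ A, x ≠ 1 := by
  by_contra hcon
  push Not at hcon
  exact h (eq_bot_iff.2 fun x hx => hcon x hx)

namespace FF

variable {p : ℕ} [hp : Fact p.Prime] {V H : Subgroup G}

theorem mm_eq_card [Finite G] (h : FF p V H) : ∀ (n : ℕ) (A : Subgroup G), Nat.card A = n → A ≤ H →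
    Cfsg.IsBestOffenderOn p V A → mm V A = Nat.card V := by
  intro n
  induction n using Nat.strong_induction_on with
  | _ n ih =>
    intro A hn hAH hA
    by_cases hA1 : A = ⊥
    · rw [hA1, mm_bot]
    · obtain ⟨x, hxA, hx1⟩ := exists_ne_one_of_ne_bot hA1
      obtain ⟨B, hBA, hxB, hcard, hB, hm⟩ := h.exists_hyperplane hAH hA hxA hx1
      rw [← hm]
      refine ih (Nat.card B) ?_ B rfl (hBA.trans hAH) hB
      rw [← hn, ← hcard]
      exact lt_mul_of_one_lt_right Nat.card_pos hp.out.one_lt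

omit hp in
theorem commutator_ne_bot (h : FF p V H) {A : Subgroup G} (hAH : A ≤ H) (hA1 : A ≠ ⊥) :
    ⁅V, A⁆ ≠ ⊥ := fun hc =>
  hA1 (h.eq_bot_of_le_centralizer hAH (Cfsg.Agent.Lib.Helper55Act.commutator_eq_bot_iff.1 hc))

theorem card_of_isMinOff [Finite G] (h : FF p V H) {A : Subgroup G} (hAH : A ≤ H)
    (hA : IsMinOff p V A) : Nat.card A = p := by
  have hA1 : A ≠ ⊥ := by
    rintro rfl
    exact hA.2.1 (by simp)
  obtain ⟨x, hxA, hx1⟩ := exists_ne_one_of_ne_bot hA1
  obtain ⟨B, hBA, hxB, hcard, hB, -⟩ := h.exists_hyperplane hAH hA.1 hxA hx1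
  have hB1 : B = ⊥ := by
    by_contra hB1
    have := hA.2.2 B hBA hB (h.commutator_ne_bot (hBA.trans hAH) hB1)
    exact hxB (this ▸ hxA)
  rw [← hcard, hB1]
  simp

theorem isMinOff_of_card [Finite G] (h : FF p V H) {A : Subgroup G} (hAH : A ≤ H)
    (hA : Cfsg.IsBestOffenderOn p V A) (hc : Nat.card A = p) : IsMinOff p V A := by
  have hA1 : A ≠ ⊥ := by
    rintro rfl
    have : p = 1 := by rw [← hc]; simp
    exact hp.out.one_lt.ne' this
  refine ⟨hA, h.commutator_ne_bot hAH hA1, fun B hBA _ hBV => ?_⟩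
  apply Subgroup.eq_of_le_of_card_ge hBA
  have h1 : Nat.card B ∣ p := hc ▸ card_dvd_of_le hBA
  rcases (Nat.dvd_prime hp.out).1 h1 with h2 | h2
  · exfalso
    apply hBV
    rw [(Subgroup.card_eq_one).1 h2]
    simp
  · rw [hc, h2]

/-- structure of offenders of order `p`: they act as transvections. -/
theorem transvection [Finite G] (h : FF p V H) {A : Subgroup G} (hAH : A ≤ H)
    (hA : Cfsg.IsBestOffenderOn p V A) (hc : Nat.card A = p) :
    Nat.card ↥(⁅V, A⁆) = p ∧ p * Nat.card ↥(V ⊓ centralizer (A : Set G)) = Nat.card V := by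
  have hm := h.mm_eq_card _ A rfl hAH hA
  unfold mm at hm
  rw [hc] at hm
  refine ⟨?_, hm⟩
  have hA1 : A ≠ ⊥ := by
    rintro rfl
    have : p = 1 := by rw [← hc]; simp
    exact hp.out.one_lt.ne' this
  obtain ⟨a, haA, ha1⟩ := exists_ne_one_of_ne_bot hA1
  have hAz := eq_zpowers_of_card_prime hc haA ha1
  have h1 := Cfsg.Agent.Lib.Helper55Act.card_commutator_zpowers (V := V) (a := a)
    (fun v hv w hw => comm_of_elemAb h.hV hv hw) (h.hHV (hAH haA))
  rw [← hAz, ← hm, mul_comm] at h1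
  exact Nat.eq_of_mul_eq_mul_right Nat.card_pos h1

theorem exists_decomp [Finite G] (h : FF p V H) : ∀ (n : ℕ) (A : Subgroup G), Nat.card A = n → A ≤ H →
    Cfsg.IsBestOffenderOn p V A → ∃ (k : ℕ) (B : Fin k → Subgroup G),
      (∀ i, B i ≤ A ∧ Cfsg.IsBestOffenderOn p V (B i) ∧ Nat.card (B i) = p) ∧ iSupIndep B ∧
        ⨆ i, B i = A := by
  intro n
  induction n using Nat.strong_induction_on with
  | _ n ih =>
    intro A hn hAH hA
    by_cases hA1 : A = ⊥
    · refine ⟨0, fun _ => ⊥, fun i => i.elim0, iSupIndep_subsingleton _, ?_⟩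
      rw [hA1]; simp
    · have hAel := h.elemAb_of_offender hAH hA
      obtain ⟨x, hxA, hx1⟩ := exists_ne_one_of_ne_bot hA1
      obtain ⟨B, hBA, hxB, hcard, hB, hm⟩ := h.exists_hyperplane hAH hA hxA hx1
      have hlt : ∀ B : Subgroup G, Nat.card B * p = Nat.card A → Nat.card B < n := by
        intro B hcard
        rw [← hn, ← hcard]
        exact lt_mul_of_one_lt_right Nat.card_pos hp.out.one_lt
      -- an offender of order `p` outside `B`
      have hex : ∃ A₁ ≤ A, Cfsg.IsBestOffenderOn p V A₁ ∧ Nat.card A₁ = p ∧ ¬ A₁ ≤ B := by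
        by_cases hB1 : B = ⊥
        · refine ⟨A, le_rfl, hA, ?_, fun hle => hxB (hle hxA)⟩
          rw [← hcard, hB1]; simp
        · obtain ⟨x', hx'B, hx'1⟩ := exists_ne_one_of_ne_bot hB1
          obtain ⟨B', hB'A, hx'B', hcard', hB', -⟩ := h.exists_hyperplane hAH hA (hBA hx'B) hx'1
          obtain ⟨k, F, hF, -, hFsup⟩ := ih _ (hlt B' hcard') B' rfl (hB'A.trans hAH) hB'
          have hnle : ¬ B' ≤ B := by
            intro hle
            have : B' = B := by
              apply Subgroup.eq_of_le_of_card_ge hle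
              have := hcard.trans hcard'.symm
              exact (Nat.eq_of_mul_eq_mul_right hp.out.pos this).le
            exact hx'B' (this ▸ hx'B)
          have : ∃ j, ¬ F j ≤ B := by
            by_contra hcon
            push Not at hcon
            exact hnle (hFsup ▸ iSup_le hcon)
          obtain ⟨j, hj⟩ := this
          exact ⟨F j, (hF j).1.trans hB'A, (hF j).2.1, (hF j).2.2, hj⟩
      obtain ⟨A₁, hA₁A, hA₁, hcA₁, hA₁B⟩ := hex
      obtain ⟨k, F, hF, hFind, hFsup⟩ := ih _ (hlt B hcard) B rfl (hBA.trans hAH) hB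
      obtain ⟨a, haA₁, haB⟩ := SetLike.not_le_iff_exists.1 hA₁B
      have ha1 : a ≠ 1 := fun h => haB (h ▸ B.one_mem)
      have hAz := eq_zpowers_of_card_prime hcA₁ haA₁ ha1
      have hcen : A ≤ centralizer (B : Set G) := (le_centralizer_of_elemAb hAel).trans (centralizer_le hBA)
      have hdisj : A₁ ⊓ B = ⊥ := by
        by_contra hne
        obtain ⟨y, hy, hy1⟩ := exists_ne_one_of_ne_bot hne
        have := eq_zpowers_of_card_prime hcA₁ hy.1 hy1
        apply hA₁B
        rw [this, zpowers_le]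
        exact hy.2
      have hsup : A₁ ⊔ B = A := by
        apply Subgroup.eq_of_le_of_card_ge (sup_le hA₁A hBA)
        rw [sup_comm, hAz, card_sup_zpowers_of_prime (hAel.2 a (hA₁A haA₁)) haB
          ((centralizer_le_normalizer _) (hcen (hA₁A haA₁))), hcard]
      obtain ⟨h1, h2⟩ := iSupIndep_cons hFind hFsup hdisj (hA₁A.trans hcen)
      refine ⟨k + 1, Fin.cons A₁ F, fun i => ?_, h1, h2.trans hsup⟩
      refine Fin.cases ?_ (fun i' => ?_) i
      · rw [Fin.cons_zero]; exact ⟨hA₁A, hA₁, hcA₁⟩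
      · rw [Fin.cons_succ]; exact ⟨(hF i').1.trans hBA, (hF i').2⟩

end FF

end Cfsg.Agent.Lib.Helper55FF
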