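import Cfsg.Prelude.Def_IsolatedElements
import Cfsg.Agent.Lib.Helper55Sylow

set_option autoImplicit false

namespace Cfsg.Agent.Lib.Helper55Isolated

open Cfsg Cfsg.Agent.Lib.Helper55Sylow

variable {G : Type*} [Group G]

theorem isolated_conj {x : G} (h : IsIsolated x) (a : G) : IsIsolated (a * x * a⁻¹) := by
  intro g hg
  have e1 : g * (a * x * a⁻¹) * g⁻¹ = a * ((a⁻¹ * g * a) * x * (a⁻¹ * g * a)⁻¹) * a⁻¹ := by group
  have h1 : Commute x ((a⁻¹ * g * a) * x * (a⁻¹ * g * a)⁻¹) := by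
    rw [e1] at hg
    exact (Commute.conj_iff a).1 hg
  rw [e1, h _ h1]

/-- An isolated element is central in every finite `p`-subgroup containing it. -/
theorem conj_eq_of_mem {p : ℕ} [Fact p.Prime] {x : G} (h : IsIsolated x) (R : Subgroup G) [Finite ↥R]
    (hR : IsPGroup p ↥R) (hx : x ∈ R) {y : G} (hy : y ∈ R) : y * x * y⁻¹ = x := by
  set C : Subgroup G := R ⊓ Subgroup.centralizer ({x} : Set G) with hC
  have hxC : x ∈ C := Subgroup.mem_inf.2 ⟨hx, by rw [Subgroup.mem_centralizer_singleton_iff]⟩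
  by_cases hCR : C = R
  · have hyC : y ∈ C := by rw [hCR]; exact hy
    have := (Subgroup.mem_inf.1 hyC).2
    rw [Subgroup.mem_centralizer_singleton_iff] at this
    rw [this, mul_inv_cancel_right]
  · exfalso
    have hlt : C < R := lt_of_le_of_ne inf_le_left hCR
    obtain ⟨z, hzR, hzC, hzN⟩ := exists_mem_normalizer_not_mem R C hR hlt
    have h1 : z * x * z⁻¹ ∈ C := (Subgroup.mem_normalizer_iff.1 hzN x).1 hxC
    have h2 := (Subgroup.mem_inf.1 h1).2
    rw [Subgroup.mem_centralizer_singleton_iff] at h2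
    have h3 : z * x * z⁻¹ = x := h z h2.symm
    apply hzC
    refine Subgroup.mem_inf.2 ⟨hzR, ?_⟩
    rw [Subgroup.mem_centralizer_singleton_iff]
    calc z * x = z * x * z⁻¹ * z := by group
      _ = x * z := by rw [h3]

/-- A conjugate of an isolated element lying in a common finite `p`-subgroup equals it. -/
theorem conj_eq_of_conj_mem {p : ℕ} [Fact p.Prime] {x : G} (h : IsIsolated x) (R : Subgroup G) [Finite ↥R]
    (hR : IsPGroup p ↥R) (hx : x ∈ R) {g : G} (hg : g * x * g⁻¹ ∈ R) : g * x * g⁻¹ = x := by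
  apply h
  have h1 := conj_eq_of_mem h R hR hx hg
  show x * (g * x * g⁻¹) = (g * x * g⁻¹) * x
  calc x * (g * x * g⁻¹) = ((g * x * g⁻¹) * x * (g * x * g⁻¹)⁻¹) * (g * x * g⁻¹) := by rw [h1]
    _ = (g * x * g⁻¹) * x := by group

/-- Sylow argument: two conjugates of an isolated `p`-element in a subgroup `H` are conjugate in `H`. -/
theorem exists_conj_in_subgroup [Finite G] {p : ℕ} [Fact p.Prime] {x : G} (hx : ∃ k : ℕ, orderOf x = p ^ k)
    (h : IsIsolated x) (H : Subgroup G) (hxH : x ∈ H) (g : G) (hg : g * x * g⁻¹ ∈ H) :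
    ∃ a ∈ H, a * (g * x * g⁻¹) * a⁻¹ = x := by
  have hx1 : IsPGroup p ↥(Subgroup.zpowers (⟨x, hxH⟩ : ↥H)) := by
    apply isPGroup_zpowers
    obtain ⟨k, hk⟩ := hx
    exact ⟨k, by rw [← hk]; exact (Subgroup.orderOf_mk x hxH)⟩
  have hx2 : IsPGroup p ↥(Subgroup.zpowers (⟨g * x * g⁻¹, hg⟩ : ↥H)) := by
    apply isPGroup_zpowers
    obtain ⟨k, hk⟩ := hx
    refine ⟨k, ?_⟩
    rw [Subgroup.orderOf_mk, ← hk]
    have := orderOf_injective (MulAut.conj g).toMonoidHom (MulAut.conj g).injective x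
    simpa using this
  obtain ⟨P, hP⟩ := hx1.exists_le_sylow
  obtain ⟨P', hP'⟩ := hx2.exists_le_sylow
  obtain ⟨a, ha⟩ := MulAction.exists_smul_eq ↥H P' P
  have hxP : (⟨x, hxH⟩ : ↥H) ∈ (P : Subgroup ↥H) := hP (Subgroup.mem_zpowers _)
  have hgP' : (⟨g * x * g⁻¹, hg⟩ : ↥H) ∈ (P' : Subgroup ↥H) := hP' (Subgroup.mem_zpowers _)
  have hgP : a * (⟨g * x * g⁻¹, hg⟩ : ↥H) * a⁻¹ ∈ (P : Subgroup ↥H) := by
    rw [← ha, Sylow.coe_subgroup_smul]
    exact ⟨_, hgP', rfl⟩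
  set R : Subgroup G := (P : Subgroup ↥H).map H.subtype with hRdef
  have hR : IsPGroup p ↥R := P.2.map _
  have hxR : x ∈ R := ⟨_, hxP, rfl⟩
  have hgR : ((a : G) * g) * x * ((a : G) * g)⁻¹ ∈ R := by
    refine ⟨_, hgP, ?_⟩
    simp [mul_assoc]
  refine ⟨a, a.2, ?_⟩
  have := conj_eq_of_conj_mem h R hR hxR hgR
  simpa [mul_assoc] using this

end Cfsg.Agent.Lib.Helper55Isolated
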