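import Cfsg.Prelude.Def_JComponents
import Cfsg.Agent.Lib.Helper55Core

set_option autoImplicit false

namespace Cfsg.Agent.Lib.Helper55JComp

open Cfsg Cfsg.Agent.Lib.Helper55Core Cfsg.Agent.Lib.Helper55Sylow
open scoped commutatorElement

variable {G : Type*} [Group G]

theorem thompsonSubgroupOf_le (p : ℕ) (T : Subgroup G) : thompsonSubgroupOf p T ≤ T := by
  rintro _ ⟨x, _, rfl⟩
  exact x.2

/-- If `J` is a `p`-group normalizing `K`, an element of `K ⊔ J` killed by an exponent prime to `p` lies in `K`. -/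
theorem mem_of_mem_sup_of_coprime {p : ℕ} {K J : Subgroup G} (hJK : J ≤ Subgroup.normalizer (K : Set G))
    (hJ : IsPGroup p ↥J) {x : G} (hx : x ∈ K ⊔ J) {n : ℕ} (hn : Nat.Coprime n p) (hxn : x ^ n = 1) : x ∈ K := by
  set N := Subgroup.normalizer (K : Set G) with hN
  have hKN : K ≤ N := Subgroup.le_normalizer
  have hxN : x ∈ N := (sup_le hKN hJK) hx
  set φ := QuotientGroup.mk' (K.subgroupOf N) with hφ
  have h1 : ((K ⊔ J).subgroupOf N).map φ = (J.subgroupOf N).map φ := by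
    rw [Subgroup.subgroupOf_sup hKN hJK, Subgroup.map_sup]
    have : (K.subgroupOf N).map φ = ⊥ := QuotientGroup.map_mk'_self _
    rw [this, bot_sup_eq]
  have h2 : IsPGroup p ↥((J.subgroupOf N).map φ) := (hJ.comap_subtype).map φ
  have h3 : φ ⟨x, hxN⟩ ∈ (J.subgroupOf N).map φ := by
    rw [← h1]
    exact ⟨⟨x, hxN⟩, by simpa [Subgroup.mem_subgroupOf] using hx, rfl⟩
  obtain ⟨j, hj⟩ := h2 ⟨_, h3⟩
  have hj' : (φ ⟨x, hxN⟩) ^ (p ^ j) = 1 := by simpa using congrArg Subtype.val hj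
  have h4 : (φ ⟨x, hxN⟩) ^ n = 1 := by
    rw [← map_pow]
    have : (⟨x, hxN⟩ : ↥N) ^ n = 1 := Subtype.ext (by simpa using hxn)
    rw [this, map_one]
  have h5 := eq_one_of_coprime_pow (Nat.Coprime.pow_right j hn) h4 hj'
  have h6 : (⟨x, hxN⟩ : ↥N) ∈ K.subgroupOf N := by
    rw [← QuotientGroup.eq_one_iff]; exact h5
  simpa [Subgroup.mem_subgroupOf] using h6

end Cfsg.Agent.Lib.Helper55JComp
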