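import Cfsg.Prelude.Def_Local
import Cfsg.Agent.S0001

set_option autoImplicit false

/-! Solvable finite groups are `p`-solvable. -/

namespace Cfsg.Agent.Lib.Helper55PSolv

open Subgroup

/-- extension: `N` a normal `p`- or `p'`-subgroup with `G/N` `p`-solvable. -/
theorem isPSolvable_of_quotient {G : Type*} [Group G] {p : ℕ} (N : Subgroup G) [hN : N.Normal]
    (hc : (∃ m : ℕ, Nat.card N = p ^ m) ∨ (Nat.card N).Coprime p)
    (hq : Cfsg.IsPSolvable p (G ⧸ N)) : Cfsg.IsPSolvable p G := by
  obtain ⟨n, H, h0, hl, hmono, hnorm, hfac⟩ := hq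
  refine ⟨n + 1, Fin.cons ⊥ (fun i => (H i).comap (QuotientGroup.mk' N)), ?_, ?_, ?_, ?_, ?_⟩
  · rfl
  · have : Fin.last (n + 1) = (Fin.last n).succ := rfl
    rw [this, Fin.cons_succ, hl, comap_top]
  · intro i j hij
    induction i using Fin.cases with
    | zero => exact bot_le
    | succ i =>
      induction j using Fin.cases with
      | zero => exact absurd hij (by simp)
      | succ j =>
        rw [Fin.cons_succ, Fin.cons_succ]
        exact comap_mono (hmono (Fin.succ_le_succ_iff.1 hij))
  · intro i
    induction i using Fin.cases with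
    | zero => exact (inferInstance : (⊥ : Subgroup G).Normal)
    | succ i =>
      rw [Fin.cons_succ]
      haveI := hnorm i
      infer_instance
  · intro i
    induction i using Fin.cases with
    | zero =>
      have h1 : (Fin.cons ⊥ (fun i => (H i).comap (QuotientGroup.mk' N)) : Fin (n + 1 + 1) → Subgroup G)
          (Fin.castSucc (0 : Fin (n + 1))) = ⊥ := rfl
      have h2 : (Fin.cons ⊥ (fun i => (H i).comap (QuotientGroup.mk' N)) : Fin (n + 1 + 1) → Subgroup G)
          (Fin.succ (0 : Fin (n + 1))) = N := by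
        rw [Fin.cons_succ, h0, MonoidHom.comap_bot, QuotientGroup.ker_mk']
      rw [h1, h2, relIndex_bot_left]
      exact hc
    | succ i =>
      have h1 : (Fin.cons ⊥ (fun i => (H i).comap (QuotientGroup.mk' N)) : Fin (n + 1 + 1) → Subgroup G)
          (Fin.castSucc i.succ) = (H i.castSucc).comap (QuotientGroup.mk' N) := by
        rw [← Fin.succ_castSucc, Fin.cons_succ]
      have h2 : (Fin.cons ⊥ (fun i => (H i).comap (QuotientGroup.mk' N)) : Fin (n + 1 + 1) → Subgroup G)
          (Fin.succ i.succ) = (H i.succ).comap (QuotientGroup.mk' N) := by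
        rw [Fin.cons_succ]
      rw [h1, h2, relIndex_comap, map_comap_eq_self_of_surjective (QuotientGroup.mk'_surjective N)]
      exact hfac i

theorem isPSolvable_of_subsingleton {G : Type*} [Group G] [Subsingleton G] (p : ℕ) :
    Cfsg.IsPSolvable p G :=
  ⟨0, fun _ => ⊥, rfl, Subsingleton.elim _ _, fun _ _ _ => le_rfl, fun _ => inferInstance,
    fun i => i.elim0⟩

theorem isPSolvable_of_isSolvable_aux {p : ℕ} [hp : Fact p.Prime] : ∀ (n : ℕ) (G : Type*) [Group G]
    [Finite G], Nat.card G = n → Group.IsSolvable G → Cfsg.IsPSolvable p G := by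
  intro n
  induction n using Nat.strong_induction_on with
  | _ n ih =>
    intro G _ _ hn hs
    rcases subsingleton_or_nontrivial G with hsub | hnt
    · exact isPSolvable_of_subsingleton p
    · obtain ⟨q, M, hq, hMn, hM1, hMq, -⟩ := Cfsg.Agent.S0001.exists_normal_pgroup G
      haveI := hMn
      haveI : Fact q.Prime := ⟨hq⟩
      obtain ⟨k, hk⟩ := IsPGroup.iff_card.1 hMq
      apply isPSolvable_of_quotient M
      · by_cases hpq : q = p
        · exact Or.inl ⟨k, by rw [hk, hpq]⟩
        · right
          rw [hk]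
          exact Nat.Coprime.pow_left k ((Nat.coprime_primes hq hp.out).2 hpq)
      · refine ih (Nat.card (G ⧸ M)) ?_ (G ⧸ M) rfl inferInstance
        rw [← hn, ← M.card_mul_index, ← index_eq_card]
        have h1 : 1 < Nat.card M := by
          rw [Subgroup.one_lt_card_iff_ne_bot]; exact hM1
        have h2 : 0 < M.index := Nat.pos_of_ne_zero M.index_ne_zero_of_finite
        nlinarith

theorem isPSolvable_of_isSolvable {G : Type*} [Group G] [Finite G] (p : ℕ) [Fact p.Prime]
    (hs : Group.IsSolvable G) : Cfsg.IsPSolvable p G :=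
  isPSolvable_of_isSolvable_aux _ G rfl hs

end Cfsg.Agent.Lib.Helper55PSolv
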