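import Cfsg.Agent.Lib.Helper13LinAct
import Cfsg.Agent.Lib.Helper6SL2Syl
import Cfsg.Agent.Lib.Helper55FF

set_option autoImplicit false

/-! Groups acting faithfully on an elementary abelian group of order `p²` and generated by elements of
order `p` embed in `SL(2,p)`; two distinct subgroups of order `p` generate `SL(2,p)`. -/

namespace Cfsg.Agent.Lib.Helper55SL2

open Subgroup Cfsg.Agent.Lib.Helper6SL2Syl

abbrev SL2 (p : ℕ) := Matrix.SpecialLinearGroup (Fin 2) (ZMod p)

/-- abstract version, with a given module structure -/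
theorem exists_hom_abstract' (p : ℕ) [Fact p.Prime] (W : Type*) [CommGroup W] [Finite W]
    [Module (ZMod p) (Additive W)] (hc : Nat.card W = p ^ 2) (L : Type*) [Group L] (ψ : L →* MulAut W)
    (hdet : ∀ (δ : L →* ZMod p) (g : L), δ g = 1) :
    ∃ F : L →* SL2 p, ∀ g, F g = 1 → ψ g = 1 := by
  obtain ⟨ρ₀, hρ₀⟩ := Cfsg.Agent.Lib.Helper13LinAct.rep_of_mulAut p W L ψ
  have : Module.Finite (ZMod p) (Additive W) := Module.Finite.of_finite
  have hfin : Module.finrank (ZMod p) (Additive W) = 2 := by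
    have h1 := Module.natCard_eq_pow_finrank (K := ZMod p) (V := Additive W)
    have h2 : Nat.card (Additive W) = p ^ 2 := hc
    rw [h2, Nat.card_zmod] at h1
    exact (Nat.pow_right_injective (Fact.out : p.Prime).two_le h1).symm
  let b := Module.finBasisOfFinrankEq (ZMod p) (Additive W) hfin
  let f : L →* Matrix (Fin 2) (Fin 2) (ZMod p) :=
    ((LinearMap.toMatrixAlgEquiv b).toRingEquiv.toRingHom.toMonoidHom).comp ρ₀
  have hf : ∀ g, (f g).det = 1 := fun g => hdet (Matrix.detMonoidHom.comp f) g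
  refine ⟨{ toFun := fun g => ⟨f g, hf g⟩, map_one' := ?_, map_mul' := ?_ }, ?_⟩
  · apply Subtype.ext
    exact f.map_one
  · intro g h
    apply Subtype.ext
    exact f.map_mul g h
  · intro g hg
    have h1 : f g = 1 := congrArg Subtype.val hg
    have h2 : ρ₀ g = 1 := by
      apply (LinearMap.toMatrixAlgEquiv b).injective
      rw [map_one]
      exact h1
    ext v
    have := congrArg (fun F : Module.End (ZMod p) (Additive W) => (F (Additive.ofMul v)).toMul) h2
    simpa [hρ₀] using this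

/-- abstract version -/
theorem exists_hom_abstract (p : ℕ) [Fact p.Prime] (W : Type*) [CommGroup W] [Finite W]
    (hW : ∀ x : W, x ^ p = 1) (hc : Nat.card W = p ^ 2) (L : Type*) [Group L] (ψ : L →* MulAut W)
    (hdet : ∀ (δ : L →* ZMod p) (g : L), δ g = 1) :
    ∃ F : L →* SL2 p, ∀ g, F g = 1 → ψ g = 1 := by
  letI : Module (ZMod p) (Additive W) := AddCommGroup.zmodModule (n := p) (fun x => by
    induction x using Additive.rec with
    | _ x => rw [← ofMul_pow, hW]; rfl)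
  exact exists_hom_abstract' p W hc L ψ hdet

variable {G : Type*} [Group G]

theorem det_trivial {p : ℕ} [Fact p.Prime] {L : Subgroup G}
    (hgen : L ≤ closure {g | g ∈ L ∧ g ^ p = 1}) (δ : L →* ZMod p) (g : L) : δ g = 1 := by
  have h1 : closure {g | g ∈ L ∧ g ^ p = 1} ≤ δ.ker.map L.subtype := by
    rw [closure_le]
    rintro x ⟨hxL, hxp⟩
    refine ⟨⟨x, hxL⟩, ?_, rfl⟩
    rw [SetLike.mem_coe, MonoidHom.mem_ker]
    have h2 : (δ ⟨x, hxL⟩) ^ p = 1 := by
      rw [← map_pow]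
      have : (⟨x, hxL⟩ : L) ^ p = 1 := Subtype.ext hxp
      rw [this, map_one]
    rwa [ZMod.pow_card] at h2
  obtain ⟨y, hy, hyg⟩ := h1 (hgen g.2)
  have : y = g := Subtype.ext hyg
  rw [← this]
  exact MonoidHom.mem_ker.1 hy

/-- A subgroup generated by elements of order `p` acting faithfully on an elementary abelian subgroup of
order `p²` embeds in `SL(2,p)`. -/
theorem exists_injective_hom [Finite G] {p : ℕ} [Fact p.Prime] {W L : Subgroup G}
    (hW : Cfsg.IsElementaryAbelian p W) (hc : Nat.card W = p ^ 2)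
    (hLW : L ≤ normalizer (W : Set G)) (hf : L ⊓ centralizer (W : Set G) = ⊥)
    (hgen : L ≤ closure {g | g ∈ L ∧ g ^ p = 1}) :
    ∃ F : L →* SL2 p, Function.Injective F := by
  haveI := hW.1
  letI : CommGroup W := { (inferInstance : Group W) with mul_comm := fun a b => mul_comm' a b }
  let ψ : L →* MulAut W := W.normalizerMonoidHom.comp (Subgroup.inclusion hLW)
  have hψ : ∀ (h : L) (v : W), ((ψ h v : W) : G) = h * v * (h : G)⁻¹ := fun h v => rfl
  obtain ⟨F, hF⟩ := exists_hom_abstract p W (fun x => Subtype.ext (hW.2 x x.2)) hc L ψ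
    (det_trivial hgen)
  refine ⟨F, (injective_iff_map_eq_one F).2 fun g hg => ?_⟩
  have h1 := hF g hg
  have h2 : (g : G) ∈ L ⊓ centralizer (W : Set G) := by
    refine Subgroup.mem_inf.2 ⟨g.2, ?_⟩
    rw [mem_centralizer_iff]
    intro w hw
    have h3 := hψ g ⟨w, hw⟩
    rw [h1] at h3
    have h4 : w = g * w * (g : G)⁻¹ := h3
    rw [eq_mul_inv_iff_mul_eq] at h4
    exact h4
  rw [hf] at h2
  exact Subtype.ext h2


/-- every subgroup of order `p` of `SL(2,p)` is a conjugate of the upper unitriangular group. -/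
theorem exists_conj_eq_U {p : ℕ} [Fact p.Prime] (P : Subgroup (SL2 p)) (hP : Nat.card P = p) :
    ∃ g : SL2 p, ∀ x, x ∈ P ↔ ∃ b, x = g * t b * g⁻¹ := by
  have hPp : IsPGroup p P := IsPGroup.of_card (n := 1) (by rw [hP, pow_one])
  obtain ⟨S, hS⟩ := hPp.exists_le_sylow
  obtain ⟨g, hg⟩ := MulAction.exists_smul_eq (SL2 p) (sylU (F := ZMod p) p) S
  have hS' : (S : Subgroup (SL2 p)) = (U : Subgroup (SL2 p)).map (MulAut.conj g).toMonoidHom := by
    rw [← hg]
    rfl
  have hcard : Nat.card ((U : Subgroup (SL2 p)).map (MulAut.conj g).toMonoidHom) = p := by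
    rw [card_map_of_injective (MulAut.conj g).injective, card_U, Nat.card_zmod]
  have hPS : P = (U : Subgroup (SL2 p)).map (MulAut.conj g).toMonoidHom := by
    apply Subgroup.eq_of_le_of_card_ge (hS' ▸ hS)
    rw [hcard, hP]
  refine ⟨g, fun x => ?_⟩
  rw [hPS]
  constructor
  · rintro ⟨u, hu, rfl⟩
    obtain ⟨b, rfl⟩ := (mem_U u).1 hu
    exact ⟨b, rfl⟩
  · rintro ⟨b, rfl⟩
    exact ⟨t b, (mem_U _).2 ⟨b, rfl⟩, rfl⟩

theorem surjective_of_two {p : ℕ} [Fact p.Prime] {L : Type*} [Group L] (F : L →* SL2 p)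
    (hF : Function.Injective F) (A A' : Subgroup L) (hA : Nat.card A = p) (hA' : Nat.card A' = p)
    (hne : A ≠ A') : (A ⊔ A').map F = ⊤ := by
  obtain ⟨g, hg⟩ := exists_conj_eq_U (A.map F) (by rw [card_map_of_injective hF, hA])
  obtain ⟨g', hg'⟩ := exists_conj_eq_U (A'.map F) (by rw [card_map_of_injective hF, hA'])
  set R : Subgroup (SL2 p) := (A ⊔ A').map F with hR
  have hAR : A.map F ≤ R := map_mono le_sup_left
  have hA'R : A'.map F ≤ R := map_mono le_sup_right
  set k : SL2 p := g⁻¹ * g' with hk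
  have hk10 : k.1 1 0 ≠ 0 := by
    intro h0
    have hkN := mem_normalizer_of_entry_zero k h0
    apply hne
    apply map_injective hF
    ext x
    rw [hg, hg']
    constructor
    · rintro ⟨b, rfl⟩
      have h1 : k⁻¹ * t b * k⁻¹⁻¹ ∈ (U : Subgroup (SL2 p)) :=
        (mem_normalizer_iff.1 (inv_mem hkN) _).1 ((mem_U _).2 ⟨b, rfl⟩)
      obtain ⟨c, hc⟩ := (mem_U _).1 h1
      refine ⟨c, ?_⟩
      rw [hc, hk]; group
    · rintro ⟨b, rfl⟩
      have h1 : k * t b * k⁻¹ ∈ (U : Subgroup (SL2 p)) :=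
        (mem_normalizer_iff.1 hkN _).1 ((mem_U _).2 ⟨b, rfl⟩)
      obtain ⟨c, hc⟩ := (mem_U _).1 h1
      refine ⟨c, ?_⟩
      rw [hc, hk]; group
  have htop := eq_top_of_U_of_conj (R.comap (MulAut.conj g).toMonoidHom)
    (fun b => hAR ((hg _).2 ⟨b, rfl⟩)) k hk10 (fun b => by
      rw [mem_comap]
      apply hA'R
      rw [hg']
      refine ⟨b, ?_⟩
      simp only [MulEquiv.coe_toMonoidHom, MulAut.conj_apply, hk]; group)
  rw [eq_top_iff]
  intro y _
  have h1 : g⁻¹ * y * g ∈ R.comap (MulAut.conj g).toMonoidHom := by rw [htop]; trivial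
  rw [mem_comap] at h1
  simpa [MulAut.conj_apply, mul_assoc] using h1

/-- `SL(2,p)` has a normal `p`-complement only for `p ≤ 3`. -/
theorem eq_two_or_three {p : ℕ} [hp : Fact p.Prime] (N : Subgroup (SL2 p)) [hN : N.Normal]
    (hcop : (Nat.card N).Coprime p) (hidx : N.index = p) : p = 2 ∨ p = 3 := by
  by_contra hcon
  push Not at hcon
  obtain ⟨hp2, hp3⟩ := hcon
  have h2 : (2 : ZMod p) ≠ 0 := by
    intro h
    have h' : ((2 : ℕ) : ZMod p) = 0 := by exact_mod_cast h
    rw [ZMod.natCast_eq_zero_iff] at h'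
    exact hp2 ((Nat.prime_dvd_prime_iff_eq hp.out Nat.prime_two).1 h')
  have h3 : (3 : ZMod p) ≠ 0 := by
    intro h
    have h' : ((3 : ℕ) : ZMod p) = 0 := by exact_mod_cast h
    rw [ZMod.natCast_eq_zero_iff] at h'
    exact hp3 ((Nat.prime_dvd_prime_iff_eq hp.out Nat.prime_three).1 h')
  let d : SL2 p := ⟨!![2, 0; 0, 2⁻¹], by simp [Matrix.det_fin_two, h2]⟩
  have hd : d * t 1 = t 3 * (t 1 * d) := by
    apply Subtype.ext
    show (!![2, 0; 0, 2⁻¹] : Matrix (Fin 2) (Fin 2) (ZMod p)) * !![1, 1; 0, 1]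
      = !![1, 3; 0, 1] * (!![1, 1; 0, 1] * !![2, 0; 0, 2⁻¹])
    have h5 : (2 : ZMod p) = 2⁻¹ + 3 * 2⁻¹ := by
      field_simp
      norm_num
    simp only [Matrix.mul_fin_two]
    simp
    exact h5
  have hcard : Nat.card (SL2 p ⧸ N) = p := hidx
  have hcyc : IsCyclic (SL2 p ⧸ N) := isCyclic_of_prime_card hcard
  letI := hcyc.commGroup
  have h4 : (QuotientGroup.mk (t 3 : SL2 p) : SL2 p ⧸ N) = 1 := by
    have h5 := congrArg (QuotientGroup.mk : SL2 p → SL2 p ⧸ N) hd
    rw [QuotientGroup.mk_mul, QuotientGroup.mk_mul, QuotientGroup.mk_mul,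
      mul_comm (QuotientGroup.mk d : SL2 p ⧸ N)] at h5
    exact (mul_eq_right.1 h5.symm)
  rw [QuotientGroup.eq_one_iff] at h4
  have h6 : (t 3 : SL2 p) = 1 :=
    Cfsg.Agent.Lib.Helper55FF.eq_one_of_mem_of_coprime (isPGroup_U (F := ZMod p) p) hcop
      ((mem_U _).2 ⟨3, rfl⟩) h4
  rw [← t_zero] at h6
  exact h3 (t_injective h6)

end Cfsg.Agent.Lib.Helper55SL2
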