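import Cfsg.Prelude.Def_IsolatedElements
import Cfsg.Agent.Lib.Helper55Isolated
import Cfsg.Agent.Lib.Helper37Cores

set_option autoImplicit false

namespace Cfsg.Agent.Lib.Helper55ZStar

open Cfsg Cfsg.Agent.Lib.Helper55Isolated Cfsg.Agent.Lib.Helper37Cores

variable {G : Type*} [Group G]

/-- In a minimal counterexample to the `Z*_p` statement, `O_{p'}(G) = 1`. -/
theorem pPrimeCore_eq_bot [Finite G] {p : ℕ} (x : G) (hnz : ¬ InZStar p x)
    (hquot : ∀ (N : Subgroup G) [N.Normal], N ≠ ⊥ → InZStar p (QuotientGroup.mk x : G ⧸ N)) :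
    pPrimeCore p G = ⊥ := by
  by_contra h
  apply hnz
  intro g
  have h1 := hquot (pPrimeCore p G) h (QuotientGroup.mk g)
  rw [pPrimeCore_quotient_eq_bot, Subgroup.mem_bot] at h1
  rw [← QuotientGroup.eq_one_iff]
  simpa using h1

/-- ambient form of `InZStar` in a subgroup. -/
theorem inZStar_subgroup {p : ℕ} {H : Subgroup G} {x : G} (hxH : x ∈ H) (h : InZStar p (⟨x, hxH⟩ : ↥H)) :
    ∀ a ∈ H, a * x * a⁻¹ * x⁻¹ ∈ coreOf p H := by
  intro a ha
  exact ⟨_, h ⟨a, ha⟩, rfl⟩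

end Cfsg.Agent.Lib.Helper55ZStar
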