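import Mathlib

set_option autoImplicit false

namespace Cfsg.Agent.Lib.Helper56Avg

open Classical

variable {Γ M : Type*} [Group Γ] [Finite Γ] [CommGroup M] [MulDistribMulAction Γ M]

/-- the orbit of `e` under the subgroup `Y`, as a finset -/
noncomputable def orb (Y : Subgroup Γ) (e : M) : Finset M :=
  haveI := Fintype.ofFinite Y
  (Finset.univ : Finset Y).image (fun y : Y => (y : Γ) • e)

theorem mem_orb {Y : Subgroup Γ} {e x : M} : x ∈ orb Y e ↔ ∃ y ∈ Y, y • e = x := by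
  unfold orb
  simp only [Finset.mem_image, Finset.mem_univ, true_and, Subtype.exists, exists_prop]

/-- the product of the orbit -/
noncomputable def osum (Y : Subgroup Γ) (e : M) : M := ∏ x ∈ orb Y e, x

theorem image_orb {Y : Subgroup Γ} (e : M) {g : Γ} (hg : ∀ y, y ∈ Y ↔ g * y * g⁻¹ ∈ Y) :
    (orb Y e).image (fun x => g • x) = orb Y (g • e) := by
  ext x
  simp only [Finset.mem_image, mem_orb]
  constructor
  · rintro ⟨_, ⟨y, hy, rfl⟩, rfl⟩
    refine ⟨g * y * g⁻¹, (hg y).1 hy, ?_⟩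
    simp [mul_smul]
  · rintro ⟨y, hy, rfl⟩
    refine ⟨(g⁻¹ * y * g) • e, ⟨g⁻¹ * y * g, ?_, rfl⟩, ?_⟩
    · rw [hg]
      have : g * (g⁻¹ * y * g) * g⁻¹ = y := by group
      rwa [this]
    · simp [mul_smul]

theorem orb_smul {Y : Subgroup Γ} (e : M) {y : Γ} (hy : y ∈ Y) : orb Y (y • e) = orb Y e := by
  ext x
  simp only [mem_orb]
  constructor
  · rintro ⟨y', hy', rfl⟩
    exact ⟨y' * y, mul_mem hy' hy, by simp [mul_smul]⟩
  · rintro ⟨y', hy', rfl⟩
    exact ⟨y' * y⁻¹, mul_mem hy' (inv_mem hy), by simp [mul_smul]⟩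

theorem smul_osum {Y : Subgroup Γ} (e : M) {g : Γ} (hg : ∀ y, y ∈ Y ↔ g * y * g⁻¹ ∈ Y) :
    g • osum Y e = osum Y (g • e) := by
  unfold osum
  rw [← image_orb e hg, Finset.prod_image (fun a _ b _ h => smul_left_cancel g h), Finset.smul_prod']

theorem card_orb_smul {Y : Subgroup Γ} (e : M) {g : Γ} (hg : ∀ y, y ∈ Y ↔ g * y * g⁻¹ ∈ Y) :
    (orb Y (g • e)).card = (orb Y e).card := by
  rw [← image_orb e hg, Finset.card_image_of_injective _ (fun a b h => smul_left_cancel g h)]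

omit [Finite Γ] in
theorem normalizes_self {Y : Subgroup Γ} {g : Γ} (hg : g ∈ Y) : ∀ y, y ∈ Y ↔ g * y * g⁻¹ ∈ Y := by
  intro y
  constructor
  · intro hy; exact mul_mem (mul_mem hg hy) (inv_mem hg)
  · intro h
    have : y = g⁻¹ * (g * y * g⁻¹) * g := by group
    rw [this]
    exact mul_mem (mul_mem (inv_mem hg) h) hg

theorem smul_osum_self {Y : Subgroup Γ} (e : M) {y : Γ} (hy : y ∈ Y) : y • osum Y e = osum Y e := by
  rw [smul_osum e (normalizes_self hy)]
  unfold osum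
  rw [orb_smul e hy]

theorem orb_mul_fixed {Y : Subgroup Γ} (e f : M) (hf : ∀ y ∈ Y, y • f = f) :
    orb Y (e * f) = (orb Y e).image (fun x => x * f) := by
  ext x
  simp only [Finset.mem_image, mem_orb]
  constructor
  · rintro ⟨y, hy, rfl⟩
    exact ⟨y • e, ⟨y, hy, rfl⟩, by rw [smul_mul', hf y hy]⟩
  · rintro ⟨_, ⟨y, hy, rfl⟩, rfl⟩
    exact ⟨y, hy, by rw [smul_mul', hf y hy]⟩

theorem card_orb_mul_fixed {Y : Subgroup Γ} (e f : M) (hf : ∀ y ∈ Y, y • f = f) :
    (orb Y (e * f)).card = (orb Y e).card := by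
  rw [orb_mul_fixed e f hf, Finset.card_image_of_injective _ (fun a b h => mul_right_cancel h)]

theorem osum_mul_fixed {Y : Subgroup Γ} (e f : M) (hf : ∀ y ∈ Y, y • f = f) :
    osum Y (e * f) = osum Y e * f ^ (orb Y e).card := by
  unfold osum
  rw [orb_mul_fixed e f hf, Finset.prod_image (fun a _ b _ h => mul_right_cancel h),
    Finset.prod_mul_distrib, Finset.prod_const]

theorem card_orb_dvd {Y S : Subgroup Γ} (e : M) (hS : ∀ s ∈ S, s • e = e) :
    (orb Y e).card ∣ S.relIndex Y := by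
  have h1 : ((orb Y e : Finset M) : Set M) = MulAction.orbit Y e := by
    ext x
    simp only [Finset.mem_coe, mem_orb, MulAction.mem_orbit_iff, Subtype.exists]
    constructor
    · rintro ⟨y, hy, rfl⟩; exact ⟨y, hy, rfl⟩
    · rintro ⟨y, hy, rfl⟩; exact ⟨y, hy, rfl⟩
  have h2 : (orb Y e).card = (MulAction.stabilizer Y e).index := by
    rw [MulAction.index_stabilizer, ← h1, Set.ncard_coe_finset]
  rw [h2]
  apply Subgroup.index_dvd_of_le
  intro s hs
  rw [MulAction.mem_stabilizer_iff]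
  exact hS s hs

theorem pow_div_osum_mem {Y : Subgroup Γ} (e : M) (W : Subgroup M) (hW : ∀ y ∈ Y, e / (y • e) ∈ W) :
    e ^ (orb Y e).card / osum Y e ∈ W := by
  unfold osum
  rw [← Finset.prod_const, ← Finset.prod_div_distrib]
  apply Subgroup.prod_mem
  intro x hx
  obtain ⟨y, hy, rfl⟩ := mem_orb.1 hx
  exact hW y hy

omit [Finite Γ] in
theorem fixed_of_pow_fixed {p : ℕ} [Fact p.Prime] {Y : Subgroup Γ} {e : M} {m : ℕ} (hm : ¬ p ∣ m)
    (hep : e ^ p = 1) (h : ∀ y ∈ Y, y • (e ^ m) = e ^ m) : ∀ y ∈ Y, y • e = e := by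
  have hp : p.Prime := Fact.out
  have hcop : Nat.Coprime m (orderOf e) := by
    have hd : orderOf e ∣ p := orderOf_dvd_of_pow_eq_one hep
    exact Nat.Coprime.coprime_dvd_right hd ((Nat.Prime.coprime_iff_not_dvd hp).2 hm).symm
  obtain ⟨a, ha⟩ := exists_pow_eq_self_of_coprime hcop
  intro y hy
  rw [← ha, smul_pow', h y hy]

/-- first averaging lemma -/
theorem fixed_of_comm_mem {p : ℕ} [Fact p.Prime] (X S : Subgroup Γ) (hSX : S ≤ X)
    (hidx : ¬ p ∣ S.relIndex X) (W : Subgroup M) (z : M) (hzp : z ^ p = 1)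
    (hzS : ∀ s ∈ S, s • z = z) (hW : ∀ x ∈ X, z / (x • z) ∈ W)
    (hWX : ∀ w ∈ W, (∀ s ∈ S, s • w = w) → ∀ x ∈ X, x • w = w) : ∀ x ∈ X, x • z = z := by
  have hm : ¬ p ∣ (orb X z).card := fun h => hidx (h.trans (card_orb_dvd z hzS))
  apply fixed_of_pow_fixed hm hzp
  have hk := pow_div_osum_mem z W hW
  have hkS : ∀ s ∈ S, s • (z ^ (orb X z).card / osum X z) = z ^ (orb X z).card / osum X z := by
    intro s hs
    rw [smul_div', smul_pow', hzS s hs, smul_osum_self z (hSX hs)]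
  have hkX := hWX _ hk hkS
  intro x hx
  have e1 : z ^ (orb X z).card = (z ^ (orb X z).card / osum X z) * osum X z := by
    rw [div_mul_cancel]
  rw [e1, smul_mul', hkX x hx, smul_osum_self z hx]

/-- second averaging lemma -/
theorem fixed_of_fixed_mod {p : ℕ} [Fact p.Prime] (Y S P : Subgroup Γ)
    (hidx : ¬ p ∣ S.relIndex Y) (hPY : ∀ t ∈ P, ∀ y, y ∈ Y ↔ t * y * t⁻¹ ∈ Y) (e : M)
    (hep : e ^ p = 1) (heS : ∀ s ∈ S, s • e = e)
    (heP : ∀ t ∈ P, ∃ f : M, (∀ y ∈ Y, y • f = f) ∧ t • e = e * f)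
    (hfix : ∀ k : M, (∀ t ∈ P, t • k = k) → ∀ y ∈ Y, y • k = k) : ∀ y ∈ Y, y • e = e := by
  have hm : ¬ p ∣ (orb Y e).card := fun h => hidx (h.trans (card_orb_dvd e heS))
  apply fixed_of_pow_fixed hm hep
  have hkP : ∀ t ∈ P, t • (e ^ (orb Y e).card / osum Y e) = e ^ (orb Y e).card / osum Y e := by
    intro t ht
    obtain ⟨f, hf, htf⟩ := heP t ht
    rw [smul_div', smul_pow', smul_osum e (hPY t ht), htf, osum_mul_fixed e f hf, mul_pow,
      mul_div_mul_right_eq_div]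
  have hkY := hfix _ hkP
  intro y hy
  have e1 : e ^ (orb Y e).card = (e ^ (orb Y e).card / osum Y e) * osum Y e := by
    rw [div_mul_cancel]
  rw [e1, smul_mul', hkY y hy, smul_osum_self e hy]

end Cfsg.Agent.Lib.Helper56Avg
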