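import Mathlib
import Cfsg.Agent.Lib.Helper2BGDefs
import Cfsg.Agent.Lib.Helper2BGb
import Cfsg.Agent.Lib.Helper3NarrowAut
import Cfsg.Agent.Lib.Helper30Bender
import Cfsg.Agent.Lib.Helper78Cyc
import Cfsg.Agent.Lib.Helper52Basic
import Cfsg.Agent.Lib.Helper28More
import Cfsg.Agent.S1408
import Cfsg.Agent.S1409
import Cfsg.Agent.S1451
import Cfsg.Agent.S0026
import Cfsg.Agent.S0027

/-!
Bender-Glauberman 11.7 (`M_σ A` is normal in `M` for an exceptional maximal subgroup `M`):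
the proof, with the other pieces of project 9 as explicit hypotheses (structure `Deps`).
-/

set_option autoImplicit false

namespace Cfsg.Agent.Lib.Helper56BGExcCore

open Cfsg Subgroup
open scoped commutatorElement
open Cfsg.Agent.Lib.Helper30Trans Cfsg.Agent.Lib.Helper24BG Cfsg.Agent.Lib.Helper24BG2
open Cfsg.Agent.Lib.Helper2BGDefs Cfsg.Agent.Lib.Helper2BGa Cfsg.Agent.Lib.Helper2BGb
open Cfsg.Agent.Lib.Helper3NarrowAut (HasMaxSq)

universe u
variable {G : Type u} [Group G]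

/-- the elements of `N(Y)` centralizing `K` modulo `Y` -/
def cenModIn (K Y : Subgroup G) : Subgroup G where
  carrier := {g | g ∈ normalizer (Y : Set G) ∧ ∀ k ∈ K, ⁅k, g⁆ ∈ Y}
  one_mem' := ⟨one_mem _, fun k _ => by simp⟩
  mul_mem' := by
    rintro a b ⟨ha, ha'⟩ ⟨hb, hb'⟩
    refine ⟨mul_mem ha hb, fun k hk => ?_⟩
    have e : ⁅k, a * b⁆ = ⁅k, a⁆ * (a * ⁅k, b⁆ * a⁻¹) := by
      simp only [commutatorElement_def]; group
    rw [e]
    exact Y.mul_mem (ha' k hk) ((mem_normalizer_iff.mp ha _).mp (hb' k hk))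
  inv_mem' := by
    rintro a ⟨ha, ha'⟩
    refine ⟨inv_mem ha, fun k hk => ?_⟩
    have e : ⁅k, a⁻¹⁆ = a⁻¹ * (⁅k, a⁆)⁻¹ * a⁻¹⁻¹ := by
      simp only [commutatorElement_def]; group
    rw [e]
    exact (mem_normalizer_iff.mp (inv_mem ha) _).mp (Y.inv_mem (ha' k hk))

theorem comm_sup_le {K A₁ A₂ Y : Subgroup G} (hA₁ : A₁ ≤ normalizer (Y : Set G))
    (hA₂ : A₂ ≤ normalizer (Y : Set G)) (h₁ : ⁅K, A₁⁆ ≤ Y) (h₂ : ⁅K, A₂⁆ ≤ Y) :
    ⁅K, A₁ ⊔ A₂⁆ ≤ Y := by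
  have h : A₁ ⊔ A₂ ≤ cenModIn K Y := by
    refine sup_le ?_ ?_
    · intro a ha
      exact ⟨hA₁ ha, fun k hk => h₁ (commutator_mem_commutator hk ha)⟩
    · intro a ha
      exact ⟨hA₂ ha, fun k hk => h₂ (commutator_mem_commutator hk ha)⟩
  rw [commutator_le]
  intro k hk a ha
  exact (h ha).2 k hk

theorem isCyclic_of_le {X Y : Subgroup G} (hY : IsCyclic Y) (h : X ≤ Y) : IsCyclic X :=
  isCyclic_of_injective (inclusion h) (inclusion_injective h)

theorem hasMaxSq_of {q : ℕ} {B Q : Subgroup G} (hB : MaxSq q B) (hBQ : B ≤ Q) : HasMaxSq q ↥Q := by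
  refine ⟨B.subgroupOf Q, ⟨⟨⟨fun a b => ?_⟩⟩, ?_⟩, ?_, ?_⟩
  · apply Subtype.ext
    apply Subtype.ext
    have := hB.elem.1.is_comm.comm ⟨a.1.1, a.2⟩ ⟨b.1.1, b.2⟩
    exact congrArg (fun z : B => (z : G)) this
  · intro a ha
    apply Subtype.ext
    exact hB.elem.2 a.1 ha
  · rw [Cfsg.Agent.Lib.Helper30SZ.card_subgroupOf_of_le hBQ, hB.card]
  · intro C hC hle
    have h1 : IsElementaryAbelian q (C.map Q.subtype) := by
      refine ⟨⟨⟨?_⟩⟩, ?_⟩
      · rintro ⟨_, a, ha, rfl⟩ ⟨_, b, hb, rfl⟩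
        apply Subtype.ext
        have := hC.1.is_comm.comm ⟨a, ha⟩ ⟨b, hb⟩
        exact congrArg (fun z : C => ((z : Q) : G)) this
      · rintro _ ⟨a, ha, rfl⟩
        exact congrArg Subtype.val (hC.2 a ha)
    have h2 : B ≤ C.map Q.subtype := by
      intro b hb
      exact ⟨⟨b, hBQ hb⟩, hle (mem_subgroupOf.mpr hb), rfl⟩
    have h3 := hB.max _ h1 h2
    rw [← h3, subgroupOf, comap_map_eq_self_of_injective Q.subtype_injective]

theorem comm_eq_bot_of_le_centralizer {A Q : Subgroup G} (h : A ≤ centralizer (Q : Set G)) :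
    ⁅Q, A⁆ = ⊥ := by
  rw [commutator_eq_bot_iff_le_centralizer]
  exact le_centralizer_iff.mp h

theorem le_centralizer_of_comm_eq_bot {A Q : Subgroup G} (h : ⁅Q, A⁆ = ⊥) :
    A ≤ centralizer (Q : Set G) := by
  rw [commutator_eq_bot_iff_le_centralizer] at h
  exact le_centralizer_iff.mp h

variable [Finite G]

/-- the other pieces of project 9 used in the proof -/
structure Deps (G : Type u) [Group G] [Finite G] : Prop where
  signalizer : ∀ {p q : ℕ} [Fact p.Prime] [Fact q.Prime], q ≠ p → ∀ {A Q : Subgroup G}, MaxSq p A →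
    Q ∈ maxInvSubgroups ⊤ A {q} → q ∣ Nat.card (centralizer (A : Set G)) →
    ∃ P : Subgroup G, IsSyl p P ⊤ ∧ A ≤ P ∧ P ≤ normalizer (Q : Set G) ∧
      normalizer (P : Set G) = piCoreOf (primesNotDvd (Nat.card A)) (centralizer (P : Set G)) ⊔
        (normalizer (P : Set G) ⊓ normalizer (Q : Set G)) ∧
      P ≤ ⁅normalizer (Q : Set G), normalizer (Q : Set G)⁆ ∧
      ((PRankLE q 2 Q ∨ HasMaxSq q Q) → P ≤ centralizer (Q : Set G))
  cyclic_cent : ∀ {M : Subgroup G}, IsCoatom M → ∀ {K : Subgroup G}, K ≤ M → SigmaFree M K →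
    IsCyclic ↥(K ⊓ centralizer (sigmaCore M : Set G) ⊓ ⁅M, M⁆) ∧
      M ≤ normalizer ((K ⊓ centralizer (sigmaCore M : Set G) ⊓ ⁅M, M⁆ : Subgroup G) : Set G)
  comm_cyclic : ∀ {M : Subgroup G}, IsCoatom M → ∀ {p : ℕ} [Fact p.Prime] {K R : Subgroup G},
    K ≤ M → SigmaFree M K → IsMulCommutative K → ¬ p ∣ Nat.card K → p ∉ sigma M → R ≤ M →
    Nat.card R = p → R ≤ normalizer (K : Set G) →
    sigmaCore M ⊓ centralizer (R : Set G) = ⊥ →
    ⁅K, R⁆ ≤ centralizer (sigmaCore M : Set G) ∧ IsCyclic ↥⁅K, R⁆ ∧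
      M ≤ normalizer ((⁅K, R⁆ : Subgroup G) : Set G)
  exc_abelian : ∀ {M : Subgroup G}, IsCoatom M → ∀ {p : ℕ} [Fact p.Prime] {A₀ A : Subgroup G},
    Exc M p A₀ A → ∀ {P : Subgroup G}, IsSyl p P M → IsMulCommutative P
  exc_omega : ∀ {M : Subgroup G}, IsCoatom M → ∀ {p : ℕ} [Fact p.Prime] {A₀ A : Subgroup G},
    Exc M p A₀ A → ∀ {P : Subgroup G}, IsSyl p P M → A ≤ P → ∀ x ∈ P, x ^ p = 1 ↔ x ∈ A
  exc_two_reg : ∀ {M : Subgroup G}, IsCoatom M → ∀ {p : ℕ} [Fact p.Prime] {A₀ A : Subgroup G},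
    Exc M p A₀ A →
    ∃ A₁ A₂ : Subgroup G, A₁ ≤ A ∧ A₂ ≤ A ∧ Nat.card A₁ = p ∧ Nat.card A₂ = p ∧ A₁ ≠ A₂ ∧
      sigmaCore M ⊓ centralizer (A₁ : Set G) = ⊥ ∧ sigmaCore M ⊓ centralizer (A₂ : Set G) = ⊥

theorem maxSq_of_rank (hG : IsMinSimpleOddOrder G) {M : Subgroup G} (hM : IsCoatom M) {p : ℕ}
    [Fact p.Prime] (hp : p ∉ sigma M) (hr2 : PRankLE p 2 M) (hr1 : ¬ PRankLE p 1 M)
    {A : Subgroup G} (hAM : A ≤ M) (hAe : IsElementaryAbelian p A)
    (hA2 : Nat.card A = p ^ 2) : MaxSq p A :=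
  ⟨hAe, hA2, (Cfsg.Agent.S1408.result hG M hM p hp hr2 hr1).2 A hAM hAe hA2⟩

theorem Exc.maxSq (hG : IsMinSimpleOddOrder G) {M : Subgroup G} (hM : IsCoatom M) {p : ℕ}
    [Fact p.Prime] {A₀ A : Subgroup G} (h : Exc M p A₀ A) : MaxSq p A := by
  have h1 := (Cfsg.Agent.S1409.result hG M hM p h.notσ A₀ h.card₀ h.norm).1
  exact maxSq_of_rank hG hM h.notσ h1.1 h1.2 h.le h.elem h.card

theorem cent_of_maxSq (D : Deps G) {p q : ℕ} [Fact p.Prime] [Fact q.Prime] (hqp : q ≠ p)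
    {A X B : Subgroup G} (hA : MaxSq p A) (hX : IsPGroup q X) (hAX : A ≤ normalizer (X : Set G))
    (hB : MaxSq q B) (hBX : B ≤ X) (hqC : q ∣ Nat.card (centralizer (A : Set G))) :
    A ≤ centralizer (X : Set G) := by
  obtain ⟨Q, hQ, hXQ⟩ := exists_max_ge (mem_inv_of_isPGroup (H := ⊤) le_top hX hAX)
  obtain ⟨P, -, hAP, -, -, -, hc⟩ := D.signalizer hqp hA hQ hqC
  exact (hAP.trans (hc (Or.inr (hasMaxSq_of hB (hBX.trans hXQ))))).trans (centralizer_le hXQ)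

theorem sup_eq_of_two {p : ℕ} (hp : p.Prime) {A A₁ A₂ : Subgroup G} (hA : Nat.card A = p ^ 2)
    (h₁ : A₁ ≤ A) (h₂ : A₂ ≤ A) (c₁ : Nat.card A₁ = p) (c₂ : Nat.card A₂ = p) (hne : A₁ ≠ A₂) :
    A₁ ⊔ A₂ = A := by
  have hex : ∃ s ∈ A₂, s ∉ A₁ := by
    by_contra hcon
    push Not at hcon
    exact hne (Subgroup.eq_of_le_of_card_ge hcon (by rw [c₁, c₂])).symm
  obtain ⟨s, hs, hs'⟩ := hex
  exact Cfsg.Agent.Lib.Helper3NarrowAut.eq_of_lt_of_card hp c₁ hA le_sup_left (sup_le h₁ h₂)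
    (le_sup_right (a := A₁) hs) hs'

/-- the FACT of the sketch -/
theorem fact (D : Deps G) {M : Subgroup G} (hM : IsCoatom M) {p : ℕ}
    [hp : Fact p.Prime] {A₀ A : Subgroup G} (h : Exc M p A₀ A) {K : Subgroup G} (hKM : K ≤ M)
    (hK : SigmaFree M K) (hKc : IsMulCommutative K) (hKp : ¬ p ∣ Nat.card K)
    (hAK : A ≤ normalizer (K : Set G)) :
    IsCyclic ↥⁅K, A⁆ ∧ ∀ X : Subgroup G, X ≤ ⁅K, A⁆ → M ≤ normalizer (X : Set G) := by
  obtain ⟨A₁, A₂, h₁, h₂, c₁, c₂, hne, r₁, r₂⟩ := D.exc_two_reg hM h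
  have hsup : A₁ ⊔ A₂ = A := sup_eq_of_two hp.out h.card h₁ h₂ c₁ c₂ hne
  obtain ⟨hYc, hYn⟩ := D.cyclic_cent hM hKM hK
  set Y : Subgroup G := K ⊓ centralizer (sigmaCore M : Set G) ⊓ ⁅M, M⁆ with hY
  have key : ∀ R : Subgroup G, R ≤ A → Nat.card R = p →
      sigmaCore M ⊓ centralizer (R : Set G) = ⊥ → ⁅K, R⁆ ≤ Y := by
    intro R hRA hRc hreg
    have hRK := hRA.trans hAK
    have h3 := (D.comm_cyclic hM hKM hK hKc hKp h.notσ (hRA.trans h.le) hRc hRK hreg).1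
    exact le_inf (le_inf (Cfsg.Agent.Lib.Helper30SZ.commutator_le_of_le_normalizer hRK) h3)
      (commutator_mono hKM (hRA.trans h.le))
  have hle : ⁅K, A⁆ ≤ Y := by
    rw [← hsup]
    exact comm_sup_le ((h₁.trans h.le).trans hYn) ((h₂.trans h.le).trans hYn)
      (key A₁ h₁ c₁ r₁) (key A₂ h₂ c₂ r₂)
  refine ⟨isCyclic_of_le hYc hle, fun X hX => ?_⟩
  exact hYn.trans (Cfsg.Agent.Lib.Helper78Cyc.normalizer_le_of_cyclic hYc (hX.trans hle))

/-- `E` is a complement of `M_σ` in `M` -/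
structure EData (M E : Subgroup G) : Prop where
  le : E ≤ M
  free : SigmaFree M E
  card : Nat.card (sigmaCore M) * Nat.card E = Nat.card M

theorem EData.relIndex {M E : Subgroup G} (hE : EData M E) :
    E.relIndex M = Nat.card (sigmaCore M) := by
  have h1 := Cfsg.Agent.Lib.Helper27Core.card_mul_relIndex hE.le
  have h2 := hE.card
  rw [← h1, mul_comm] at h2
  exact (Nat.eq_of_mul_eq_mul_left Nat.card_pos h2).symm

theorem EData.isSyl {M E : Subgroup G} (hE : EData M E) {r : ℕ} [hr : Fact r.Prime]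
    (hrσ : r ∉ sigma M) {R : Subgroup G} (hR : IsSyl r R E) : IsSyl r R M := by
  refine isSyl_of_not_dvd (hR.1.trans hE.le) hR.2.1 ?_
  rw [← relIndex_mul_relIndex R E M hR.1 hE.le, hE.relIndex]
  intro hd
  rcases (Nat.Prime.dvd_mul hr.out).mp hd with h | h
  · exact Cfsg.Agent.Lib.Helper2BGa.IsSyl.not_dvd_relIndex hR h
  · exact hrσ (card_sigmaCore M r hr.out h)

theorem rank_two_of_not_sigma (hG : IsMinSimpleOddOrder G) {M : Subgroup G} (hM : IsCoatom M)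
    {r : ℕ} (hr : r.Prime) (hrσ : r ∉ sigma M) : PRankLE r 2 M := by
  by_contra hc
  exact hrσ (alpha_subset_sigma hG hM ⟨hr, hc⟩)

theorem EData.rank (hG : IsMinSimpleOddOrder G) {M E : Subgroup G} (hM : IsCoatom M)
    (hE : EData M E) : RankLE 2 ↥E := by
  intro r hr
  by_cases hd : r ∣ Nat.card E
  · exact rank_le_of_le hE.le (rank_two_of_not_sigma hG hM hr (hE.free r hr hd))
  · intro B _ hB
    have : Fact r.Prime := ⟨hr⟩
    have hBp : IsPGroup r B := fun a => ⟨1, by rw [pow_one]; exact Subtype.ext (hB a a.2)⟩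
    obtain ⟨k, hk⟩ := IsPGroup.iff_card.mp hBp
    have hk0 : k = 0 := by
      by_contra hk0
      apply hd
      have h1 : r ∣ Nat.card B := by rw [hk]; exact dvd_pow_self r hk0
      exact h1.trans (card_subgroup_dvd_card B)
    rw [hk, hk0, pow_zero]
    exact Nat.one_le_pow _ _ hr.pos

theorem sigmaFree_of_pgroup {M Q : Subgroup G} {q : ℕ} [hq : Fact q.Prime] (hqσ : q ∉ sigma M)
    (hQ : IsPGroup q Q) : SigmaFree M Q := by
  intro r hr hd
  obtain ⟨k, hk⟩ := IsPGroup.iff_card.mp hQ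
  rw [hk] at hd
  have := (Nat.prime_dvd_prime_iff_eq hr hq.out).mp (hr.dvd_of_dvd_pow hd)
  rwa [this]

theorem not_dvd_of_pgroup {Q : Subgroup G} {p q : ℕ} [hp : Fact p.Prime] [hq : Fact q.Prime]
    (hqp : q ≠ p) (hQ : IsPGroup q Q) : ¬ p ∣ Nat.card Q := by
  intro hd
  obtain ⟨k, hk⟩ := IsPGroup.iff_card.mp hQ
  rw [hk] at hd
  exact hqp ((Nat.prime_dvd_prime_iff_eq hp.out hq.out).mp (hp.out.dvd_of_dvd_pow hd)).symm

theorem coprime_of_pgroups {A Q : Subgroup G} {p q : ℕ} [hp : Fact p.Prime] [hq : Fact q.Prime]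
    (hqp : q ≠ p) (hA : IsPGroup p A) (hQ : IsPGroup q Q) :
    (Nat.card A).Coprime (Nat.card Q) := by
  obtain ⟨k, hk⟩ := IsPGroup.iff_card.mp hQ
  obtain ⟨l, hl⟩ := IsPGroup.iff_card.mp hA
  rw [hk, hl]
  exact Nat.Coprime.pow _ _ ((Nat.coprime_primes hp.out hq.out).mpr hqp.symm)

theorem lt_of_act {p q : ℕ} [hp : Fact p.Prime] [hq : Fact q.Prime] (hq2 : q ≠ 2) (hqp : q ≠ p)
    {Q₀ : Subgroup G} (hQ₀ : Nat.card Q₀ = q) {a : G} (haN : a ∈ normalizer (Q₀ : Set G))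
    (hap : a ^ p = 1) (hac : a ∉ centralizer (Q₀ : Set G)) : p < q := by
  have hQp : IsPGroup q Q₀ := IsPGroup.of_card (n := 1) (by rw [hQ₀, pow_one])
  have hcyc : IsCyclic Q₀ := isCyclic_of_prime_card hQ₀
  have hr : PRankLE q 2 Q₀ := rank_mono hq.out.pos (rank_one_of_cyclic hq.out.pos) (by norm_num)
  apply Cfsg.Agent.Lib.Helper3NarrowAut.aut_prime_lt hq2 hQp (Or.inl hr) p hp.out hqp.symm
  set φ : MulAut Q₀ := Q₀.normalizerMonoidHom ⟨a, haN⟩ with hφ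
  have h1 : φ ^ p = 1 := by
    rw [hφ, ← map_pow]
    have : (⟨a, haN⟩ : normalizer (Q₀ : Set G)) ^ p = 1 := Subtype.ext hap
    rw [this, map_one]
  have h2 : φ ≠ 1 := by
    intro h
    have h3 : (⟨a, haN⟩ : normalizer (Q₀ : Set G)) ∈ Q₀.normalizerMonoidHom.ker := h
    rw [normalizerMonoidHom_ker, mem_subgroupOf] at h3
    exact hac h3
  have h3 : orderOf φ = p := orderOf_eq_prime h1 h2
  rw [← h3]
  exact orderOf_dvd_natCard φ

/-- case (i) of the sketch: a normal subgroup of order `q` of `M` on which `A` acts non-trivially -/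
theorem case_one (D : Deps G) (hG : IsMinSimpleOddOrder G) {M : Subgroup G} (hM : IsCoatom M)
    {p : ℕ} [hp : Fact p.Prime] {A₀ A : Subgroup G} (h : Exc M p A₀ A) {E : Subgroup G}
    (hE : EData M E) (hAE : A ≤ E) {q : ℕ} [hq : Fact q.Prime] (hqp : q ≠ p) {Q₀ : Subgroup G}
    (hQ₀E : Q₀ ≤ E) (hQ₀ : Nat.card Q₀ = q) (hn : M ≤ normalizer (Q₀ : Set G)) :
    A ≤ centralizer (Q₀ : Set G) := by
  by_contra hne
  have hAp : IsPGroup p A := isPGroup_of_elemAb h.elem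
  have hQ₀p : IsPGroup q Q₀ := IsPGroup.of_card (n := 1) (by rw [hQ₀, pow_one])
  have hQ₀1 : Q₀ ≠ ⊥ := by
    intro hb
    rw [hb, card_bot] at hQ₀
    exact hq.out.one_lt.ne hQ₀
  have hq2 : q ≠ 2 := ne_two hG hQ₀p hQ₀1
  have hqσ : q ∉ sigma M := hE.free q hq.out (hQ₀ ▸ card_dvd_of_le hQ₀E)
  have hQ₀M : Q₀ ≤ M := hQ₀E.trans hE.le
  have hN : normalizer (Q₀ : Set G) = M := norm_eq hG hM hQ₀1 hQ₀M hn
  obtain ⟨⟨hr2, hr1⟩, -, B, hBe, hB2, hQ₀B⟩ :=
    Cfsg.Agent.S1409.result hG M hM q hqσ Q₀ hQ₀ hN.le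
  have hBM : B ≤ M := by
    rw [← hN]
    refine le_trans ?_ (centralizer_le_normalizer _)
    intro b hb
    rw [mem_centralizer_iff]
    intro z hz
    exact congrArg (fun z : B => (z : G)) (hBe.1.is_comm.comm ⟨z, hQ₀B hz⟩ ⟨b, hb⟩)
  have hExc : Exc M q Q₀ B := ⟨hqσ, hBM, hBe, hB2, hQ₀B, hQ₀, hN.le⟩
  -- `p < q`
  have hpq : p < q := by
    obtain ⟨a, ha, hac⟩ := SetLike.not_le_iff_exists.mp hne
    exact lt_of_act hq2 hqp hQ₀ (hn (h.le ha)) (h.elem.2 a ha) hac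
  -- the Sylow tower of `E`
  have hEtop : E ≠ ⊤ := fun ht => hM.1 (top_le_iff.mp (ht ▸ hE.le))
  have hEs : Group.IsSolvable E := sol hG hEtop
  obtain ⟨N, hNc, hNh⟩ := (Cfsg.Agent.S1451.result (G := E) (odd_sub hG E)
    (Or.inl (hE.rank hG hM))).2.2 p
  have hNn : N.Normal := inferInstance
  set N' : Subgroup G := N.map E.subtype with hN'
  have hN'E : N' ≤ E := map_subtype_le _
  have hEN' : E ≤ normalizer (N' : Set G) := Cfsg.Agent.Lib.Helper37Cores.le_normalizer_map_subtype N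
  have hcardN' : Nat.card N' = Nat.card N := card_map_of_injective E.subtype_injective
  have hidxN' : N'.relIndex E = N.index := by
    rw [hN', relIndex, subgroupOf, comap_map_eq_self_of_injective E.subtype_injective]
  have hcop : (Nat.card A).Coprime (Nat.card N') := by
    rw [h.card, hcardN']
    apply Nat.Coprime.pow_left
    rw [Nat.Prime.coprime_iff_not_dvd hp.out]
    intro hd
    exact lt_irrefl p (hNh.1 p hp.out hd).2
  have hQ₀N' : Q₀ ≤ N' := by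
    refine le_of_relIndex_coprime hQ₀E hEN' ?_
    intro r hr hd
    rw [hQ₀] at hd
    have hrq : r = q := (Nat.prime_dvd_prime_iff_eq hr hq.out).mp hd
    rw [hrq, hidxN']
    exact hNh.2 q hq.out ⟨hq.out, hpq⟩
  obtain ⟨P₁, hQ₀P₁, hAP₁⟩ := Cfsg.Agent.S0025.result A N' (hAE.trans hEN') hcop
    (Or.inr (Cfsg.Agent.Lib.Helper30SZ.solvable_of_le hEs hN'E)) q Q₀ hQ₀N' hQ₀p
    ((h.le).trans hn)
  set Q₁ : Subgroup G := (P₁ : Subgroup N').map N'.subtype with hQ₁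
  have hQ₁N : IsSyl q Q₁ N' := isSyl_of_sylow P₁
  have hQ₁E : IsSyl q Q₁ E := by
    refine isSyl_of_not_dvd (hQ₁N.1.trans hN'E) hQ₁N.2.1 ?_
    rw [← relIndex_mul_relIndex Q₁ N' E hQ₁N.1 hN'E, hidxN']
    intro hd
    rcases (Nat.Prime.dvd_mul hq.out).mp hd with h' | h'
    · exact Cfsg.Agent.Lib.Helper2BGa.IsSyl.not_dvd_relIndex hQ₁N h'
    · exact hNh.2 q hq.out ⟨hq.out, hpq⟩ h'
  have hQ₁M : IsSyl q Q₁ M := hE.isSyl hqσ hQ₁E
  have hQ₁c : IsMulCommutative Q₁ := D.exc_abelian hM hExc hQ₁M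
  obtain ⟨m, hm, hmB⟩ := exists_cj_le hQ₁M (isPGroup_of_elemAb hBe) hBM
  have hB₁ : MaxSq q (cj m B) := by
    refine maxSq_of_rank hG hM hqσ hr2 hr1 (hmB.trans hQ₁M.1) (elemAb_cj hBe m) ?_
    rw [card_cj, hB2]
  have hQ₁nc : ¬ IsCyclic Q₁ := by
    intro hc
    refine not_rank_of_elemAb hmB hB₁.elem ?_ (rank_one_of_cyclic hq.out.pos)
    rw [hB₁.card]
    exact Nat.pow_lt_pow_right hq.out.one_lt (by norm_num)
  have hfact := (fact D hM h hQ₁M.1 (sigmaFree_of_pgroup hqσ hQ₁M.2.1) hQ₁c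
    (not_dvd_of_pgroup hqp hQ₁M.2.1) hAP₁).1
  have hcop₁ : (Nat.card A).Coprime (Nat.card Q₁) := coprime_of_pgroups hqp hAp hQ₁M.2.1
  have hdec := Cfsg.Agent.S0026.result A Q₁ hAP₁ hcop₁
    (Or.inr (Cfsg.Agent.Lib.Helper30SZ.solvable_of_le hEs hQ₁E.1))
  have hfix : Q₁ ⊓ centralizer (A : Set G) ≠ ⊥ := by
    intro hb
    rw [hb, sup_bot_eq] at hdec
    rw [hdec] at hfact
    exact hQ₁nc hfact
  have hqC : q ∣ Nat.card (centralizer (A : Set G)) :=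
    dvd_card_of_pgroup (hQ₁M.2.1.to_le inf_le_left) hfix inf_le_right
  have := cent_of_maxSq D hqp (Exc.maxSq hG hM h) hQ₁M.2.1 hAP₁ hB₁ hmB hqC
  exact hne (this.trans (centralizer_le hQ₀P₁))

/-- `A` centralizes every `A`-invariant `q`-subgroup of `E`, `q ≠ p` -/
theorem cent_q (D : Deps G) (hG : IsMinSimpleOddOrder G) {M : Subgroup G} (hM : IsCoatom M)
    {p : ℕ} [hp : Fact p.Prime] {A₀ A : Subgroup G} (h : Exc M p A₀ A) {E : Subgroup G}
    (hE : EData M E) (hAE : A ≤ E) {q : ℕ} [hq : Fact q.Prime] (hqp : q ≠ p) {Q : Subgroup G}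
    (hQE : Q ≤ E) (hQ : IsPGroup q Q) (hAQ : A ≤ normalizer (Q : Set G)) :
    A ≤ centralizer (Q : Set G) := by
  by_contra hne
  have hAp : IsPGroup p A := isPGroup_of_elemAb h.elem
  have hEtop : E ≠ ⊤ := fun ht => hM.1 (top_le_iff.mp (ht ▸ hE.le))
  have hEs : Group.IsSolvable E := sol hG hEtop
  set Q₃ : Subgroup G := ⁅Q, A⁆ with hQ₃
  have hQ₃Q : Q₃ ≤ Q := Cfsg.Agent.Lib.Helper30SZ.commutator_le_of_le_normalizer hAQ
  have hQ₃E : Q₃ ≤ E := hQ₃Q.trans hQE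
  have hQ₃p : IsPGroup q Q₃ := hQ.to_le hQ₃Q
  have hQ₃1 : Q₃ ≠ ⊥ := fun hb => hne (le_centralizer_of_comm_eq_bot hb)
  have hstab : ⁅Q₃, A⁆ = Q₃ := Cfsg.Agent.S0027.result A Q hAQ (coprime_of_pgroups hqp hAp hQ)
    (Or.inr (Cfsg.Agent.Lib.Helper30SZ.solvable_of_le hEs hQE))
  have hAQ₃ : A ≤ normalizer (Q₃ : Set G) :=
    Cfsg.Agent.Lib.Helper30SZ.le_normalizer_commutator hAQ le_normalizer
  have hnot : ¬ A ≤ centralizer (Q₃ : Set G) := by
    intro hc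
    rw [comm_eq_bot_of_le_centralizer hc] at hstab
    exact hQ₃1 hstab.symm
  have hq2 : q ≠ 2 := ne_two hG hQ₃p hQ₃1
  have hqσ : q ∉ sigma M := hE.free q hq.out (dvd_card_of_pgroup hQ₃p hQ₃1 hQ₃E)
  -- the centre of `Q₃`
  set Z : Subgroup G := Q₃ ⊓ centralizer (Q₃ : Set G) with hZ
  have hZQ₃ : Z ≤ Q₃ := inf_le_left
  have hZp : IsPGroup q Z := hQ₃p.to_le hZQ₃
  have hZ1 : Z ≠ ⊥ := by
    have hnt : Nontrivial Q₃ := (nontrivial_iff_ne_bot _).mpr hQ₃1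
    have hc : Nontrivial (center Q₃) := hQ₃p.center_nontrivial
    have h1 := Cfsg.Agent.Lib.Helper28More.map_center Q₃
    intro hb
    have h2 : (center Q₃).map Q₃.subtype = ⊥ := by rw [h1]; exact hb
    rw [Subgroup.map_eq_bot_iff_of_injective _ Q₃.subtype_injective] at h2
    exact (nontrivial_iff_ne_bot _).mp hc h2
  have hZc : IsMulCommutative Z := Cfsg.Agent.Lib.Helper28More.cen_isMulCommutative Q₃
  have hAZ : A ≤ normalizer (Z : Set G) := by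
    refine le_trans ?_ inf_normalizer_le_normalizer_inf
    exact le_inf hAQ₃ (hAQ₃.trans (Cfsg.Agent.Lib.Helper28Layer.normalizer_le_normalizer_centralizer Q₃))
  by_cases hZA : A ≤ centralizer (Z : Set G)
  · -- case (ii)
    have hqC : q ∣ Nat.card (centralizer (A : Set G)) :=
      dvd_card_of_pgroup hZp hZ1 (le_centralizer_iff.mp hZA)
    have hnc : ¬ IsCyclic Q₃ := by
      intro hc
      apply hnot
      have : Z = Q₃ := by
        apply le_antisymm hZQ₃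
        refine le_inf le_rfl ?_
        intro x hx
        rw [mem_centralizer_iff]
        intro y hy
        have := hc.commGroup.mul_comm (⟨y, hy⟩ : Q₃) ⟨x, hx⟩
        exact congrArg (fun z : Q₃ => (z : G)) this
      rwa [this] at hZA
    have hr1' : ¬ PRankLE q 1 Q₃ := fun hr => hnc (isCyclic_of_prank_one hq2 hQ₃p hr)
    obtain ⟨B, hBQ₃, hBe, hBc⟩ := exists_elemAb hr1'
    have hBM : B ≤ M := (hBQ₃.trans hQ₃E).trans hE.le
    have hr2 : PRankLE q 2 M := rank_two_of_not_sigma hG hM hq.out hqσ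
    have hr1 : ¬ PRankLE q 1 M := not_rank_of_elemAb hBM hBe hBc
    have hB2 : Nat.card B = q ^ 2 := by
      have hle : Nat.card B ≤ q ^ 2 := by
        by_contra hlt
        exact not_rank_of_elemAb hBM hBe (not_le.mp hlt) hr2
      obtain ⟨k, hk⟩ := IsPGroup.iff_card.mp (isPGroup_of_elemAb hBe)
      rw [hk] at hBc hle ⊢
      have h1 : 1 < k := (Nat.pow_lt_pow_iff_right hq.out.one_lt).mp hBc
      have h2 : k ≤ 2 := (Nat.pow_le_pow_iff_right hq.out.one_lt).mp hle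
      have : k = 2 := by omega
      rw [this]
    exact hnot (cent_of_maxSq D hqp (Exc.maxSq hG hM h) hQ₃p hAQ₃
      (maxSq_of_rank hG hM hqσ hr2 hr1 hBM hBe hB2) hBQ₃ hqC)
  · -- case (i)
    set C₀ : Subgroup G := ⁅Z, A⁆ with hC₀
    have hC₀Z : C₀ ≤ Z := Cfsg.Agent.Lib.Helper30SZ.commutator_le_of_le_normalizer hAZ
    have hC₀p : IsPGroup q C₀ := hZp.to_le hC₀Z
    have hC₀1 : C₀ ≠ ⊥ := fun hb => hZA (le_centralizer_of_comm_eq_bot hb)
    have hZE : Z ≤ E := hZQ₃.trans hQ₃E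
    have hstab₀ : ⁅C₀, A⁆ = C₀ := Cfsg.Agent.S0027.result A Z hAZ (coprime_of_pgroups hqp hAp hZp)
      (Or.inr (Cfsg.Agent.Lib.Helper30SZ.solvable_of_le hEs hZE))
    obtain ⟨hcyc, hnorm⟩ := fact D hM h (hZE.trans hE.le) (sigmaFree_of_pgroup hqσ hZp) hZc
      (not_dvd_of_pgroup hqp hZp) hAZ
    have hdvd : q ∣ Nat.card C₀ := dvd_card_of_pgroup hC₀p hC₀1 le_rfl
    obtain ⟨x, hx⟩ := exists_prime_orderOf_dvd_card' q hdvd
    set Q₀ : Subgroup G := zpowers (x : G) with hQ₀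
    have hQ₀C : Q₀ ≤ C₀ := zpowers_le.mpr x.2
    have hQ₀c : Nat.card Q₀ = q := by rw [hQ₀, Nat.card_zpowers, Subgroup.orderOf_coe, hx]
    have hQ₀1 : Q₀ ≠ ⊥ := by
      intro hb
      rw [hb, card_bot] at hQ₀c
      exact hq.out.one_lt.ne hQ₀c
    have h1 := case_one D hG hM h hE hAE hqp ((hQ₀C.trans hC₀Z).trans hZE) hQ₀c (hnorm Q₀ hQ₀C)
    have hAC₀ : A ≤ normalizer (C₀ : Set G) := h.le.trans (hnorm C₀ le_rfl)
    have h2 : A ≤ centralizer (C₀ : Set G) := by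
      intro a ha
      refine Cfsg.Agent.Lib.Helper78Cyc.mem_centralizer_of_cyclic hcyc hC₀p hQ₀C hQ₀1 (hAC₀ ha)
        (h1 ha) (m := p) ((Nat.coprime_primes hp.out hq.out).mpr hqp.symm) ?_
      rw [h.elem.2 a ha]
      exact one_mem _
    rw [comm_eq_bot_of_le_centralizer h2] at hstab₀
    exact hC₀1 hstab₀.symm

omit [Finite G] in
/-- Schur-Zassenhaus, existence, ambient -/
theorem exists_compl {K Y : Subgroup G} (hKY : K ≤ Y)
    (hn : Y ≤ normalizer (K : Set G)) (hcop : (Nat.card K).Coprime (K.relIndex Y)) :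
    ∃ H : Subgroup G, H ≤ Y ∧ Nat.card K * Nat.card H = Nat.card Y := by
  have hN : (K.subgroupOf Y).Normal := (normal_subgroupOf_iff_le_normalizer hKY).mpr hn
  have hc : (Nat.card (K.subgroupOf Y)).Coprime (K.subgroupOf Y).index := by
    rw [Cfsg.Agent.Lib.Helper30SZ.card_subgroupOf_of_le hKY]
    exact hcop
  obtain ⟨H, hH⟩ := exists_right_complement'_of_coprime hc
  refine ⟨H.map Y.subtype, map_subtype_le _, ?_⟩
  rw [card_map_of_injective Y.subtype_injective, ← hH.card_mul_card,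
    Cfsg.Agent.Lib.Helper30SZ.card_subgroupOf_of_le hKY]

theorem eData_of_card (hG : IsMinSimpleOddOrder G) {M E : Subgroup G} (hM : IsCoatom M)
    (hEM : E ≤ M) (hc : Nat.card (sigmaCore M) * Nat.card E = Nat.card M) : EData M E := by
  refine ⟨hEM, ?_, hc⟩
  intro r hr hd hrσ
  have h1 := (Cfsg.Agent.S1350.result hG M hM).1.2.2 r hr hrσ
  have h2 := Cfsg.Agent.Lib.Helper27Core.card_mul_relIndex (sigmaCore_le M)
  rw [← hc] at h2
  rw [Nat.eq_of_mul_eq_mul_left Nat.card_pos h2] at h1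
  exact h1 hd

theorem exists_eData (hG : IsMinSimpleOddOrder G) {M : Subgroup G} (hM : IsCoatom M) {p : ℕ}
    [hp : Fact p.Prime] (hpσ : p ∉ sigma M) {A : Subgroup G} (hAM : A ≤ M) (hA : IsPGroup p A) :
    ∃ E : Subgroup G, EData M E ∧ A ≤ E := by
  have hHall := (Cfsg.Agent.S1350.result hG M hM).1
  have hcop : (Nat.card (sigmaCore M)).Coprime ((sigmaCore M).relIndex M) := by
    by_contra hc
    obtain ⟨r, hr, h1, h2⟩ := Nat.Prime.not_coprime_iff_dvd.mp hc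
    exact hHall.2.2 r hr (hHall.2.1 r hr h1) h2
  obtain ⟨E₀, hE₀M, hE₀c⟩ := exists_compl (sigmaCore_le M) (le_normalizer_sigmaCore M) hcop
  have hE₀ : EData M E₀ := eData_of_card hG hM hE₀M hE₀c
  obtain ⟨P₀, hP₀, -⟩ := exists_isSyl_ge (p := p) (bot_le : (⊥ : Subgroup G) ≤ E₀) IsPGroup.of_bot
  obtain ⟨m, hm, hmA⟩ := exists_cj_le (hE₀.isSyl hpσ hP₀) hA hAM
  refine ⟨cj m⁻¹ E₀, eData_of_card hG hM ?_ ?_, ?_⟩
  · have := cj_mono (k := m⁻¹) hE₀M
    rwa [cj_eq_self_of_mem (M.inv_mem hm)] at this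
  · rw [card_cj]; exact hE₀c
  · rw [← cj_le_iff]
    exact hmA.trans hP₀.1

theorem EData.sup_eq {M E : Subgroup G} (hE : EData M E) : sigmaCore M ⊔ E = M := by
  have hcop : (Nat.card E).Coprime (Nat.card (sigmaCore M)) := by
    by_contra hc
    obtain ⟨r, hr, h1, h2⟩ := Nat.Prime.not_coprime_iff_dvd.mp hc
    exact hE.free r hr h1 (card_sigmaCore M r hr h2)
  have h1 := Cfsg.Agent.Lib.Helper30SZ.card_sup (hE.le.trans (le_normalizer_sigmaCore M)) hcop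
  apply Subgroup.eq_of_le_of_card_ge (sup_le (sigmaCore_le M) hE.le)
  rw [h1, hE.card]

/-- a normal `p`-subgroup lies in every Sylow `p`-subgroup -/
theorem le_syl_of_normal {p : ℕ} [Fact p.Prime] {P X D₀ : Subgroup G} (hP : IsSyl p P X)
    (hD : IsPGroup p D₀) (hDX : D₀ ≤ X) (hn : X ≤ normalizer (D₀ : Set G)) : D₀ ≤ P := by
  obtain ⟨g, hg, hle⟩ := exists_cj_le hP hD hDX
  rwa [cj_eq_self_of_mem_normalizer (hn hg)] at hle

/-- B-G 11.7, from the other pieces. -/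
theorem exc_normal_of (D : Deps G) (hG : IsMinSimpleOddOrder G) {M : Subgroup G} (hM : IsCoatom M)
    {p : ℕ} [hp : Fact p.Prime] {A₀ A : Subgroup G} (h : Exc M p A₀ A) :
    M ≤ normalizer ((sigmaCore M ⊔ A : Subgroup G) : Set G) := by
  have hAp : IsPGroup p A := isPGroup_of_elemAb h.elem
  obtain ⟨E, hE, hAE⟩ := exists_eData hG hM h.notσ h.le hAp
  have hEtop : E ≠ ⊤ := fun ht => hM.1 (top_le_iff.mp (ht ▸ hE.le))
  have hEs : Group.IsSolvable E := sol hG hEtop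
  obtain ⟨P, hPE, hAP⟩ := exists_isSyl_ge hAE hAp
  have hPM : IsSyl p P M := hE.isSyl h.notσ hPE
  have hPc : IsMulCommutative P := D.exc_abelian hM h hPM
  have hom := D.exc_omega hM h hPM hAP
  set F : Subgroup G := fittingOf E with hF
  have hFA : F ≤ centralizer (A : Set G) := by
    apply Cfsg.Agent.Lib.Helper30Bender.fittingOf_le_of_forall
    intro r hr D₀ hD₀E hn hD₀
    have : Fact r.Prime := ⟨hr⟩
    by_cases hrp : r = p
    · subst hrp
      have h1 : D₀ ≤ P := le_syl_of_normal hPE hD₀ hD₀E hn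
      intro d hd
      rw [mem_centralizer_iff]
      intro a ha
      exact congrArg (fun z : P => (z : G)) (hPc.is_comm.comm ⟨a, hAP ha⟩ ⟨d, h1 hd⟩)
    · exact le_centralizer_iff.mp (cent_q D hG hM h hE hAE hrp hD₀E hD₀ (hAE.trans hn))
  have hAF : A ≤ F :=
    (le_inf hAE (le_centralizer_iff.mp hFA)).trans
      (Cfsg.Agent.Lib.Helper30Bender.inf_centralizer_fittingOf_le hEs)
  have hFnil : Group.IsNilpotent F := Cfsg.Agent.Lib.Helper30Bender.fittingOf_isNilpotent E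
  have hEF : E ≤ normalizer (F : Set G) := Cfsg.Agent.Lib.Helper30Bender.le_normalizer_fittingOf E
  have hptP : Cfsg.Agent.Lib.Helper2KWa.pt F p ≤ P :=
    le_syl_of_normal hPE (Cfsg.Agent.Lib.Helper2KWa.isPGroup_pt F p)
      ((Cfsg.Agent.Lib.Helper2KWa.pt_le F p).trans (Cfsg.Agent.Lib.Helper30Bender.fittingOf_le E))
      (hEF.trans (Cfsg.Agent.Lib.Helper2KWa.normalizer_le_normalizer_pt hFnil p))
  have hEA : E ≤ normalizer (A : Set G) := by
    rw [le_normalizer_iff]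
    intro g hg a ha
    have h1 : g * a * g⁻¹ ∈ F := (le_normalizer_iff.mp hEF) g hg a (hAF ha)
    have h2 : (g * a * g⁻¹) ^ p = 1 := by rw [conj_pow, h.elem.2 a ha]; group
    have h3 : g * a * g⁻¹ ∈ Cfsg.Agent.Lib.Helper2KWa.pt F p := by
      rw [Cfsg.Agent.Lib.Helper2KWa.mem_pt hFnil]
      refine ⟨h1, ?_⟩
      rcases (Nat.dvd_prime hp.out).mp (orderOf_dvd_of_pow_eq_one h2) with h4 | h4
      · exact ⟨0, by rw [h4, pow_zero]⟩
      · exact ⟨1, by rw [h4, pow_one]⟩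
    exact (hom _ (hptP h3)).mp h2
  conv_lhs => rw [← hE.sup_eq]
  refine sup_le (le_sup_left.trans le_normalizer) ?_
  exact (le_inf (hE.le.trans (le_normalizer_sigmaCore M)) hEA).trans
    (Cfsg.Agent.Lib.Helper52Basic.inf_normalizer_le_normalizer_sup _ _)

end Cfsg.Agent.Lib.Helper56BGExcCore
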