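import Cfsg.Agent.Lib.Helper56BGExcCore
import Cfsg.Agent.Lib.Helper38BGTrans
import Cfsg.Agent.Lib.Helper15BGCyccent
import Cfsg.Agent.Lib.Helper15BGCommcyc
import Cfsg.Agent.Lib.Helper92BGExcab

/-!
Project 9, piece `excnormal` (B-G 11.7): exact skeleton statement.
-/

set_option autoImplicit false

namespace Cfsg.Agent.Lib.Helper56BGExcnormal

open Cfsg Subgroup
open Cfsg.Agent.Lib.Helper30Trans Cfsg.Agent.Lib.Helper24BG Cfsg.Agent.Lib.Helper2BGDefs

variable {G : Type*} [Group G] [Finite G]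

theorem deps (hG : IsMinSimpleOddOrder G) : Cfsg.Agent.Lib.Helper56BGExcCore.Deps G where
  signalizer := fun hqp _ _ hA hQ hqC => Cfsg.Agent.Lib.Helper38BGTrans.signalizer hG hqp hA hQ hqC
  cyclic_cent := fun hM _ hKM hK => Cfsg.Agent.Lib.Helper15BGCyccent.cyclic_cent hG hM hKM hK
  comm_cyclic := fun hM _ _ _ _ hKM hK hKc hKp hp hRM hR hRK hreg =>
    Cfsg.Agent.Lib.Helper15BGCommcyc.comm_cyclic hG hM hKM hK hKc hKp hp hRM hR hRK hreg
  exc_abelian := fun hM _ _ _ _ h _ hP => Cfsg.Agent.Lib.Helper92BGExcab.exc_abelian hG hM h hP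
  exc_omega := fun hM _ _ _ _ h _ hP hAP => Cfsg.Agent.Lib.Helper92BGExcab.exc_omega hG hM h hP hAP
  exc_two_reg := fun hM _ _ _ _ h => Cfsg.Agent.Lib.Helper92BGExcab.exc_two_reg hG hM h

theorem exc_normal (hG : IsMinSimpleOddOrder G) {M : Subgroup G} (hM : IsCoatom M) {p : ℕ}
    [Fact p.Prime] {A₀ A : Subgroup G} (h : Exc M p A₀ A) :
    M ≤ normalizer ((sigmaCore M ⊔ A : Subgroup G) : Set G) :=
  Cfsg.Agent.Lib.Helper56BGExcCore.exc_normal_of (deps hG) hG hM h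

end Cfsg.Agent.Lib.Helper56BGExcnormal
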