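import Mathlib
import Cfsg.Prelude.Def_BaumannBlocks
import Cfsg.Agent.Lib.Helper56CD
import Cfsg.Agent.Lib.Helper56CD2

set_option autoImplicit false

namespace Cfsg.Agent.Lib.Helper56CD3

open scoped Pointwise commutatorElement
open Cfsg.Agent.Lib.Helper56CD Cfsg.Agent.Lib.Helper56CD2

variable {G : Type*} [Group G]

theorem commutatorElement_mul_left_of_commute {a z b : G} (h : Commute z b) :
    ⁅a * z, b⁆ = ⁅a, b⁆ := by
  rw [commutatorElement_def, commutatorElement_def]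
  have e : z * b * z⁻¹ = b := by rw [h.eq, mul_inv_cancel_right]
  calc a * z * b * (a * z)⁻¹ * b⁻¹ = a * (z * b * z⁻¹) * a⁻¹ * b⁻¹ := by group
    _ = a * b * a⁻¹ * b⁻¹ := by rw [e]

theorem commutatorElement_mul_right_of_commute {a z b : G} (h : Commute z a) :
    ⁅a, b * z⁆ = ⁅a, b⁆ := by
  rw [commutatorElement_def, commutatorElement_def]
  have e : z * a⁻¹ * z⁻¹ = a⁻¹ := by rw [(h.inv_right).eq, mul_inv_cancel_right]
  calc a * (b * z) * a⁻¹ * (b * z)⁻¹ = a * b * (z * a⁻¹ * z⁻¹) * b⁻¹ := by group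
    _ = a * b * a⁻¹ * b⁻¹ := by rw [e]

/-- if `Q = I Z` with `Z` centralizing `Q`, then `[Q,Q] = [I,I]` -/
theorem commutator_eq_of_sup_central {Q I Z : Subgroup G} (hQ : I ⊔ Z = Q)
    (hZ : Z ≤ Subgroup.centralizer (Q : Set G)) : ⁅Q, Q⁆ = ⁅I, I⁆ := by
  have hIQ : I ≤ Q := hQ ▸ le_sup_left
  apply le_antisymm _ (Subgroup.commutator_mono hIQ hIQ)
  have hIZ : I ≤ Subgroup.centralizer (Z : Set G) :=
    hIQ.trans (Subgroup.le_centralizer_iff.1 hZ)
  have hset : (Q : Set G) = (I : Set G) * (Z : Set G) := by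
    rw [← hQ]; exact coe_sup_of_le_centralizer hIZ
  rw [Subgroup.commutator_le]
  intro g₁ hg₁ g₂ hg₂
  have h1 : g₁ ∈ (I : Set G) * (Z : Set G) := by rw [← hset]; exact hg₁
  have h2 : g₂ ∈ (I : Set G) * (Z : Set G) := by rw [← hset]; exact hg₂
  obtain ⟨a₁, ha₁, z₁, hz₁, rfl⟩ := Set.mem_mul.1 h1
  obtain ⟨a₂, ha₂, z₂, hz₂, rfl⟩ := Set.mem_mul.1 h2
  have c1 : Commute z₁ (a₂ * z₂) := ((Subgroup.mem_centralizer_iff.1 (hZ hz₁)) _ hg₂).symm
  have c2 : Commute z₂ a₁ := ((Subgroup.mem_centralizer_iff.1 (hZ hz₂)) _ (hIQ ha₁)).symm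
  rw [commutatorElement_mul_left_of_commute c1, commutatorElement_mul_right_of_commute c2]
  exact Subgroup.commutator_mem_commutator ha₁ ha₂

variable [Finite G]

/-- `Q = (Q ∩ R) Z(Q)` for `Q` minimal centrally large and `R` centrally large -/
theorem mcl_eq_inf_sup {Q R : Subgroup G} (hQ : Cfsg.IsMinimalCentrallyLarge Q)
    (hR : Cfsg.IsCentrallyLarge R) : (Q ⊓ R) ⊔ Subgroup.centralizer (Q : Set G) = Q := by
  obtain ⟨hQ1, hQ2⟩ := cl_iff.1 hQ.1
  obtain ⟨hR1, hR2⟩ := cl_iff.1 hR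
  obtain ⟨-, h2, -, h4, h5⟩ := cd_main m_le_max hQ1 hR1
  obtain ⟨h6, h7⟩ := cd_centralizer m_le_max hQ1
  obtain ⟨h8, -⟩ := cd_main m_le_max h2 h6
  apply hQ.2 _ (sup_le inf_le_left hQ2)
  apply cl_iff.2 ⟨h8, ?_⟩
  rw [centralizer_sup, h5, ← h7]
  intro y hy
  have hy1 : y ∈ (Subgroup.centralizer (Q : Set G) : Set G) *
      (Subgroup.centralizer (R : Set G) : Set G) := by rw [← h4]; exact hy.1
  obtain ⟨c, hc, d, hd, rfl⟩ := Set.mem_mul.1 hy1
  have hdQ : d ∈ Q := by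
    have : d = c⁻¹ * (c * d) := by group
    rw [this]
    exact Q.mul_mem (Q.inv_mem (hQ2 hc)) hy.2
  exact Subgroup.mul_mem _ ((le_sup_right : _ ≤ (Q ⊓ R) ⊔ Subgroup.centralizer (Q : Set G)) hc)
    ((le_sup_left : Q ⊓ R ≤ _) ⟨hdQ, hR2 hd⟩)

theorem mcl_commutator_eq {Q R : Subgroup G} (hQ : Cfsg.IsMinimalCentrallyLarge Q)
    (hR : Cfsg.IsMinimalCentrallyLarge R) : ⁅Q, Q⁆ = ⁅R, R⁆ := by
  rw [commutator_eq_of_sup_central (mcl_eq_inf_sup hQ hR.1) le_rfl,
    commutator_eq_of_sup_central (mcl_eq_inf_sup hR hQ.1) le_rfl, inf_comm]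

theorem mcl_inf_centralizer {Q R : Subgroup G} (hQ : Cfsg.IsMinimalCentrallyLarge Q)
    (hR : Cfsg.IsMinimalCentrallyLarge R) :
    (Q ⊓ R) ⊓ Subgroup.centralizer (Q : Set G) =
      Subgroup.centralizer (Q : Set G) ⊓ Subgroup.centralizer (R : Set G) := by
  obtain ⟨-, hQ2⟩ := cl_iff.1 hQ.1
  obtain ⟨-, hR2⟩ := cl_iff.1 hR.1
  apply le_antisymm
  · intro x hx
    refine ⟨hx.2, ?_⟩
    have h1 := mcl_eq_inf_sup hR hQ.1
    rw [← h1, centralizer_sup]
    exact ⟨centralizer_anti inf_le_right hx.2, le_cc R hx.1.2⟩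
  · intro x hx
    exact ⟨⟨hQ2 hx.1, hR2 hx.2⟩, hx.1⟩

theorem mcl_card_eq {Q R : Subgroup G} (hQ : Cfsg.IsMinimalCentrallyLarge Q)
    (hR : Cfsg.IsMinimalCentrallyLarge R) :
    Nat.card Q = Nat.card R ∧ Nat.card (Subgroup.centralizer (Q : Set G)) =
      Nat.card (Subgroup.centralizer (R : Set G)) := by
  obtain ⟨hQ1, hQ2⟩ := cl_iff.1 hQ.1
  obtain ⟨hR1, hR2⟩ := cl_iff.1 hR.1
  have hIQ : Q ⊓ R ≤ Subgroup.centralizer ((Subgroup.centralizer (Q : Set G) : Subgroup G) : Set G) :=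
    inf_le_left.trans (le_cc Q)
  have hIR : R ⊓ Q ≤ Subgroup.centralizer ((Subgroup.centralizer (R : Set G) : Subgroup G) : Set G) :=
    inf_le_left.trans (le_cc R)
  have e1 := card_sup_of_coe_eq (coe_sup_of_le_centralizer hIQ)
  have e2 := card_sup_of_coe_eq (coe_sup_of_le_centralizer hIR)
  rw [mcl_eq_inf_sup hQ hR.1, mcl_inf_centralizer hQ hR] at e1
  rw [mcl_eq_inf_sup hR hQ.1, mcl_inf_centralizer hR hQ, inf_comm R Q,
    inf_comm (Subgroup.centralizer (R : Set G))] at e2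
  have e3 : Nat.card Q * Nat.card (Subgroup.centralizer (Q : Set G)) =
      Nat.card R * Nat.card (Subgroup.centralizer (R : Set G)) :=
    (isCentralizerLarge_iff.1 hQ1).trans (isCentralizerLarge_iff.1 hR1).symm
  set q := Nat.card Q
  set r := Nat.card R
  set zq := Nat.card (Subgroup.centralizer (Q : Set G))
  set zr := Nat.card (Subgroup.centralizer (R : Set G))
  set w := Nat.card (Subgroup.centralizer (Q : Set G) ⊓ Subgroup.centralizer (R : Set G) : Subgroup G)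
  set i := Nat.card (Q ⊓ R : Subgroup G)
  have hq : 0 < q := Nat.card_pos
  have hr : 0 < r := Nat.card_pos
  have hzq : 0 < zq := Nat.card_pos
  have hzr : 0 < zr := Nat.card_pos
  have hw : 0 < w := Nat.card_pos
  have hi : 0 < i := Nat.card_pos
  have e4 : q * zr = r * zq := by
    have : (q * zr) * (w * i) = (r * zq) * (w * i) := by
      calc (q * zr) * (w * i) = (q * w) * (i * zr) := by ring
        _ = (i * zq) * (r * w) := by rw [e1, e2]
        _ = (r * zq) * (w * i) := by ring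
    exact Nat.eq_of_mul_eq_mul_right (Nat.mul_pos hw hi) this
  have e5 : q * q = r * r := by
    have : (q * q) * (zq * zr) = (r * r) * (zq * zr) := by
      calc (q * q) * (zq * zr) = (q * zq) * (q * zr) := by ring
        _ = (r * zr) * (r * zq) := by rw [e3, e4]
        _ = (r * r) * (zq * zr) := by ring
    exact Nat.eq_of_mul_eq_mul_right (Nat.mul_pos hzq hzr) this
  have e6 : q = r := Nat.mul_self_inj.1 e5
  refine ⟨e6, ?_⟩
  rw [e6] at e3
  exact Nat.eq_of_mul_eq_mul_left hr e3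

/-- if some minimal centrally large subgroup is abelian, the minimal centrally large subgroups are
exactly the abelian subgroups of largest order -/
theorem mcl_iff_maxAbelian {Q : Subgroup G} (hQ : Cfsg.IsMinimalCentrallyLarge Q)
    (hab : IsMulCommutative Q) (X : Subgroup G) :
    Cfsg.IsMinimalCentrallyLarge X ↔ X ∈ Cfsg.maxAbelianSubgroups G := by
  have hfQ : f Q = Cfsg.maxCentralProduct G := isCentrallyLarge_iff.1 hQ.1
  have hle : ∀ B : Subgroup G, IsMulCommutative B → Nat.card B ≤ Nat.card Q := by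
    intro B hB
    have h1 := f_le_fmax B
    rw [← hfQ, f_of_comm hB, f_of_comm hab] at h1
    exact Nat.mul_self_le_mul_self_iff.1 h1
  constructor
  · intro hX
    have h1 : ⁅X, X⁆ = ⊥ := by
      rw [mcl_commutator_eq hX hQ, Subgroup.commutator_eq_bot_iff_le_centralizer]
      exact comm_iff.1 hab
    have hXab : IsMulCommutative X := by
      rw [comm_iff, ← Subgroup.commutator_eq_bot_iff_le_centralizer]; exact h1
    refine ⟨hXab, fun B hB => ?_⟩
    rw [(mcl_card_eq hX hQ).1]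
    exact hle B hB
  · intro hX
    have hcard : Nat.card X = Nat.card Q := le_antisymm (hle X hX.1) (hX.2 Q hab)
    have hfX : f X = Cfsg.maxCentralProduct G := by
      rw [f_of_comm hX.1, hcard, ← f_of_comm hab, hfQ]
    refine ⟨isCentrallyLarge_iff.2 hfX, ?_⟩
    intro R' hle' hcl
    have hR'ab : IsMulCommutative R' := comm_of_le hX.1 hle'
    have h2 : f R' = f X := (isCentrallyLarge_iff.1 hcl).trans hfX.symm
    rw [f_of_comm hR'ab, f_of_comm hX.1] at h2
    exact Subgroup.eq_of_le_of_card_ge hle' (Nat.mul_self_inj.1 h2).ge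

end Cfsg.Agent.Lib.Helper56CD3
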