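import Mathlib
import Cfsg.Prelude.Def_Solvable
import Cfsg.Prelude.Def_Transfer

set_option autoImplicit false

namespace Cfsg.Agent.Lib.Helper56Core

variable {G : Type*} [Group G]

theorem card_mul_relIndex {K L : Subgroup G} (h : K ≤ L) :
    Nat.card K * K.relIndex L = Nat.card L := by
  have := Subgroup.relIndex_mul_relIndex ⊥ K L bot_le h
  rwa [Subgroup.relIndex_bot_left, Subgroup.relIndex_bot_left] at this

theorem card_sup_dvd_mul (H K : Subgroup G) [K.Normal] :
    Nat.card (H ⊔ K : Subgroup G) ∣ Nat.card H * Nat.card K := by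
  have h1 : K.relIndex (H ⊔ K) * Nat.card K = Nat.card (H ⊔ K : Subgroup G) := by
    rw [mul_comm]
    exact card_mul_relIndex le_sup_right
  rw [← h1, Subgroup.relIndex_sup_right]
  exact Nat.mul_dvd_mul_right (Subgroup.relIndex_dvd_card K H) _

theorem pPrimeCore_mem [Finite G] (p : ℕ) :
    (Cfsg.pPrimeCore p G).Normal ∧ (Nat.card (Cfsg.pPrimeCore p G)).Coprime p := by
  have hs : SupClosed {N : Subgroup G | N.Normal ∧ (Nat.card N).Coprime p} := by
    intro A hA B hB
    have := hA.1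
    have := hB.1
    refine ⟨inferInstance, ?_⟩
    exact Nat.Coprime.coprime_dvd_left (card_sup_dvd_mul A B) (Nat.Coprime.mul_left hA.2 hB.2)
  exact hs.sSup_mem (Set.toFinite _) ⟨inferInstance, by simp⟩ subset_rfl

theorem pPrimeCore_normal [Finite G] (p : ℕ) : (Cfsg.pPrimeCore p G).Normal :=
  (pPrimeCore_mem p).1

theorem pPrimeCore_coprime [Finite G] (p : ℕ) : (Nat.card (Cfsg.pPrimeCore p G)).Coprime p :=
  (pPrimeCore_mem p).2

theorem le_pPrimeCore {p : ℕ} {N : Subgroup G} (hN : N.Normal) (hc : (Nat.card N).Coprime p) :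
    N ≤ Cfsg.pPrimeCore p G :=
  le_sSup ⟨hN, hc⟩

theorem pCore_mem [Finite G] (p : ℕ) [Fact p.Prime] :
    (Cfsg.pCore p G).Normal ∧ IsPGroup p (Cfsg.pCore p G) := by
  have hs : SupClosed {N : Subgroup G | N.Normal ∧ IsPGroup p N} := by
    intro A hA B hB
    have := hA.1
    have := hB.1
    exact ⟨inferInstance, IsPGroup.to_sup_of_normal_right hA.2 hB.2⟩
  exact hs.sSup_mem (Set.toFinite _) ⟨inferInstance, IsPGroup.of_bot⟩ subset_rfl

theorem pCore_isPGroup [Finite G] (p : ℕ) [Fact p.Prime] : IsPGroup p (Cfsg.pCore p G) :=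
  (pCore_mem p).2

theorem le_pCore {p : ℕ} {N : Subgroup G} (hN : N.Normal) (hc : IsPGroup p N) :
    N ≤ Cfsg.pCore p G :=
  le_sSup ⟨hN, hc⟩

/-- a `p`-subgroup and a subgroup of order prime to `p` meet trivially -/
theorem inf_eq_bot_of_pgroup_coprime {p : ℕ} [Fact p.Prime] {H K : Subgroup G}
    (hH : IsPGroup p H) (hK : (Nat.card K).Coprime p) : H ⊓ K = ⊥ := by
  rw [eq_bot_iff]
  intro x hx
  obtain ⟨k, hk⟩ := (IsPGroup.iff_orderOf.1 hH) ⟨x, hx.1⟩
  rw [Subgroup.orderOf_mk] at hk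
  have h2 : orderOf x ∣ Nat.card K := by
    have := orderOf_dvd_natCard (⟨x, hx.2⟩ : K)
    rwa [Subgroup.orderOf_mk] at this
  have h3 : (orderOf x).Coprime (orderOf x) := by
    have : (orderOf x).Coprime (p ^ k) :=
      Nat.Coprime.pow_right k (Nat.Coprime.coprime_dvd_left h2 hK)
    rwa [← hk] at this
  rw [Nat.coprime_self] at h3
  exact Subgroup.mem_bot.2 (orderOf_eq_one_iff.1 h3)

/-- a self-normalizing `p`-subgroup is a Sylow `p`-subgroup -/
theorem exists_sylow_eq_of_normalizer_eq [Finite G] {p : ℕ} [Fact p.Prime] {H : Subgroup G}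
    (hH : IsPGroup p H) (hN : Subgroup.normalizer (H : Set G) = H) :
    ∃ P : Sylow p G, (P : Subgroup G) = H := by
  obtain ⟨P, hP⟩ := hH.exists_le_sylow
  refine ⟨P, ?_⟩
  by_contra hne
  have hlt : H < (P : Subgroup G) := lt_of_le_of_ne hP (Ne.symm hne)
  have : Group.IsNilpotent (P : Subgroup G) := P.2.isNilpotent
  have hnc : NormalizerCondition (P : Subgroup G) := Group.normalizerCondition_of_isNilpotent
  have hlt' : H.subgroupOf P < ⊤ := by
    rw [lt_top_iff_ne_top]
    intro h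
    rw [Subgroup.subgroupOf_eq_top] at h
    exact (not_le_of_gt hlt) h
  have h2 := hnc _ hlt'
  rw [← Subgroup.subgroupOf_normalizer_eq hP, hN] at h2
  exact lt_irrefl _ h2

end Cfsg.Agent.Lib.Helper56Core
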