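import Cfsg.Agent.Lib.Helper56Iso

set_option autoImplicit false
set_option linter.unusedSectionVars false

/-! Isolated `p`-minimal subgroups: the normal closure of `O^p(P)`. -/

namespace Cfsg.Agent.Lib.Helper56Iso2

open Cfsg Subgroup Cfsg.Agent.Lib.Helper40Sylow Cfsg.Agent.Lib.Helper54PMin
  Cfsg.Agent.Lib.Helper52Subnormal Cfsg.Agent.Lib.Helper56Iso
open scoped commutatorElement

variable {G : Type*} [Group G]

section cenMod

variable (D : Subgroup G) [D.Normal]

/-- the centralizer of `N` modulo `D` -/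
def cenMod (N : Subgroup G) : Subgroup G :=
  (centralizer ((N.map (QuotientGroup.mk' D) : Subgroup (G ⧸ D)) : Set (G ⧸ D))).comap
    (QuotientGroup.mk' D)

variable {D}

theorem mem_cenMod {N : Subgroup G} {g : G} : g ∈ cenMod D N ↔ ∀ n ∈ N, ⁅n, g⁆ ∈ D := by
  unfold cenMod
  rw [mem_comap, mem_centralizer_iff]
  constructor
  · intro h n hn
    have h1 := h (QuotientGroup.mk' D n) (mem_map_of_mem _ hn)
    rw [← QuotientGroup.eq_one_iff]
    have h2 : ((⁅n, g⁆ : G) : G ⧸ D) = ⁅QuotientGroup.mk' D n, QuotientGroup.mk' D g⁆ :=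
      map_commutatorElement (QuotientGroup.mk' D) n g
    rw [h2, commutatorElement_eq_one_iff_mul_comm]
    exact h1
  · rintro h _ ⟨n, hn, rfl⟩
    have h1 := h n hn
    rw [← QuotientGroup.eq_one_iff] at h1
    have h2 : ((⁅n, g⁆ : G) : G ⧸ D) = ⁅QuotientGroup.mk' D n, QuotientGroup.mk' D g⁆ :=
      map_commutatorElement (QuotientGroup.mk' D) n g
    rw [h2, commutatorElement_eq_one_iff_mul_comm] at h1
    exact h1

theorem le_cenMod_iff {N A : Subgroup G} : A ≤ cenMod D N ↔ ⁅N, A⁆ ≤ D := by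
  rw [commutator_le]
  constructor
  · intro h n hn a ha
    exact mem_cenMod.1 (h ha) n hn
  · intro h a ha
    exact mem_cenMod.2 fun n hn => h n hn a ha

theorem normalizer_le_normalizer_cenMod (N : Subgroup G) :
    normalizer (N : Set G) ≤ normalizer ((cenMod D N : Subgroup G) : Set G) := by
  rw [le_normalizer_iff]
  intro g hg c hc
  rw [mem_cenMod] at hc ⊢
  intro n hn
  have h1 : g⁻¹ * n * g⁻¹⁻¹ ∈ N := (mem_normalizer_iff.1 (inv_mem hg) n).1 hn
  have h2 := hc _ h1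
  have h3 : ⁅n, g * c * g⁻¹⁆ = g * ⁅g⁻¹ * n * g⁻¹⁻¹, c⁆ * g⁻¹ := by
    simp only [commutatorElement_def]; group
  rw [h3]
  exact ‹D.Normal›.conj_mem _ h2 g

theorem cenMod_normal {N : Subgroup G} (hN : N.Normal) : (cenMod D N).Normal := by
  rw [← normalizer_eq_top_iff, eq_top_iff, ← normalizer_eq_top_iff.2 hN]
  exact normalizer_le_normalizer_cenMod N

end cenMod

theorem inf_normalizer_le_normalizer_commutator (A B : Subgroup G) :
    normalizer (A : Set G) ⊓ normalizer (B : Set G) ≤ normalizer ((⁅A, B⁆ : Subgroup G) : Set G) := by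
  intro g hg
  have ha := mem_normalizer_iff_cj.1 (mem_inf.1 hg).1
  have hb := mem_normalizer_iff_cj.1 (mem_inf.1 hg).2
  rw [mem_normalizer_iff_cj]
  unfold cj at *
  rw [map_commutator, ha, hb]

variable [Finite G] {p : ℕ} [Fact p.Prime]

theorem pCore_quot_eq_bot [(Cfsg.pCore p G).Normal] : Cfsg.pCore p (G ⧸ Cfsg.pCore p G) = ⊥ := by
  rw [Cfsg.Agent.Lib.Helper52PReduced.pCore_quotient_eq_bot_iff]
  intro D hD hd
  apply Cfsg.Agent.Lib.Helper28Fitting.le_pCore hD
  rintro ⟨d, hdD⟩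
  obtain ⟨k, hk⟩ := hd d hdD
  obtain ⟨j, hj⟩ := (Cfsg.Agent.Lib.Helper28Fitting.pCore_isPGroup (G := G) p) ⟨_, hk⟩
  refine ⟨k + j, Subtype.ext ?_⟩
  have h1 : (d ^ p ^ k) ^ p ^ j = 1 := congrArg Subtype.val hj
  show d ^ p ^ (k + j) = 1
  rw [pow_add, pow_mul, h1]

/-- the data of an isolated `p`-minimal subgroup -/
structure IsoData (p : ℕ) (S : Sylow p G) (P L Q : Subgroup G) : Prop where
  hSP : (S : Subgroup G) ≤ P
  hmin : PMin (S : Subgroup G) P
  hNL : normalizer ((S : Subgroup G) : Set G) ≤ L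
  hL : ∀ P' : Subgroup G, (S : Subgroup G) ≤ P' → PMin (S : Subgroup G) P' → P' ≠ P → P' ≤ L
  hQS : Q ≤ (S : Subgroup G)
  hLQ : L ≤ normalizer (Q : Set G)
  hQP : ∀ A : Subgroup G, Q ≤ A → A ≤ P → IsPGroup p A → ¬ P ≤ normalizer (A : Set G)

theorem isoData_of (S : Sylow p G) (P : Subgroup G) (hSP : (S : Subgroup G) ≤ P)
    (hPmin : Cfsg.IsPMinimal p ↥P) (L : Subgroup G)
    (hL : L = Subgroup.normalizer ((S : Subgroup G) : Set G) ⊔ ⨆ P' : {P' : Subgroup G // (S : Subgroup G) ≤ P' ∧ Cfsg.IsPMinimal p ↥P' ∧ P' ≠ P}, (P' : Subgroup G))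
    (hiso : ¬ (Cfsg.pCore p ↥L).map L.subtype ≤ (Cfsg.pCore p ↥P).map P.subtype) :
    IsoData p S P L ((Cfsg.pCore p ↥L).map L.subtype) := by
  have hNL : normalizer ((S : Subgroup G) : Set G) ≤ L := by rw [hL]; exact le_sup_left
  have hSL : (S : Subgroup G) ≤ L := le_normalizer.trans hNL
  refine ⟨hSP, (isPMinimal_iff S hSP).1 hPmin, hNL, ?_, ?_, ?_, ?_⟩
  · intro P' h1 h2 h3
    rw [hL]
    refine le_trans ?_ le_sup_right
    exact le_iSup (fun P' : {P' : Subgroup G // (S : Subgroup G) ≤ P' ∧ Cfsg.IsPMinimal p ↥P' ∧ P' ≠ P} => (P' : Subgroup G))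
      ⟨P', h1, (isPMinimal_iff S h1).2 h2, h3⟩
  · have h1 := Cfsg.Agent.Lib.Helper52Basic.pCore_le_sylow (S.subtype hSL)
    rw [Sylow.coe_subtype] at h1
    have h2 := map_mono (f := L.subtype) h1
    rwa [map_subgroupOf_eq_of_le hSL] at h2
  · exact (Cfsg.Agent.Lib.Helper28Comp.normIn_map_subtype_iff.2 (Cfsg.pCore_normal p ↥L)).2
  · intro A hQA hAP hA hPA
    apply hiso
    refine hQA.trans ?_
    have h1 : A.subgroupOf P ≤ Cfsg.pCore p ↥P :=
      Cfsg.Agent.Lib.Helper28Fitting.le_pCore (normal_subgroupOf_of_le_normalizer hPA)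
        (hA.comap_of_injective P.subtype P.subtype_injective)
    have h2 := map_mono (f := P.subtype) h1
    rwa [map_subgroupOf_eq_of_le hAP] at h2

namespace IsoData

variable {S : Sylow p G} {P L Q : Subgroup G}

theorem hSL (h : IsoData p S P L Q) : (S : Subgroup G) ≤ L := le_normalizer.trans h.hNL

theorem le_or_le (h : IsoData p S P L Q) {H : Subgroup G} (hSH : (S : Subgroup G) ≤ H) :
    H ≤ L ∨ P ≤ H := by
  by_cases hP : P ≤ H
  · exact Or.inr hP
  · left
    apply gen_lemma (S : Subgroup G) L _ H rfl hSH (inf_le_left.trans h.hNL)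
    intro P' h1 h2 h3
    apply h.hL P' h1 h3
    rintro rfl
    exact hP h2

theorem not_le (h : IsoData p S P L Q) : ¬ P ≤ L := fun hPL =>
  h.hQP Q le_rfl (h.hQS.trans h.hSP) (S.2.to_le h.hQS) (hPL.trans h.hLQ)

theorem not_res_le (h : IsoData p S P L Q) : ¬ res p P ≤ L := by
  intro hR
  apply h.not_le
  rw [← res_sup_sylow S h.hSP]
  exact sup_le hR h.hSL

theorem sup_eq_top (h : IsoData p S P L Q) : P ⊔ L = ⊤ := by
  rw [eq_top_iff]
  apply gen_lemma (S : Subgroup G) _ _ ⊤ rfl le_top ((inf_le_left.trans h.hNL).trans le_sup_right)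
  intro P' h1 _ h3
  by_cases hP : P' = P
  · rw [hP]; exact le_sup_left
  · exact (h.hL P' h1 h3 hP).trans le_sup_right

theorem pCore_le (S : Sylow p G) : Cfsg.pCore p G ≤ (S : Subgroup G) :=
  Cfsg.Agent.Lib.Helper52Basic.pCore_le_sylow S

theorem not_le_pCore (h : IsoData p S P L Q) : ¬ Q ≤ Cfsg.pCore p G := by
  intro hQ
  apply h.hQP _ hQ ((pCore_le S).trans h.hSP) (Cfsg.Agent.Lib.Helper28Fitting.pCore_isPGroup p)
  rw [normalizer_eq_top_iff.2 (Cfsg.pCore_normal p G)]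
  exact le_top

theorem le_pCore_of_normIn {A N : Subgroup G} (hA : IsPGroup p A) (hAN : A ≤ N)
    (hNA : N ≤ normalizer (A : Set G)) (hN : N.Normal) : A ≤ Cfsg.pCore p G := by
  apply subnormal_pGroup_le_pCore _ hA
  rw [← Cfsg.Agent.Lib.Helper28Comp.sn_top_iff]
  exact (Cfsg.Agent.Lib.Helper28Comp.NormIn.sn ⟨hAN, hNA⟩).trans
    (Cfsg.Agent.Lib.Helper28Comp.NormIn.sn (Cfsg.Agent.Lib.Helper28Comp.normIn_top_iff.2 hN))

/-- Lemma A -/
theorem res_le_of_normal (h : IsoData p S P L Q) {C : Subgroup G} (hC : C.Normal) (hQC : Q ≤ C) :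
    res p P ≤ C := by
  rcases h.le_or_le (le_sup_right : (S : Subgroup G) ≤ C ⊔ S) with h1 | h1
  · exfalso
    apply h.not_le_pCore
    exact le_pCore_of_normIn (S.2.to_le h.hQS) hQC ((le_sup_left.trans h1).trans h.hLQ) hC
  · apply res_le_of_le_sup S.2 _ h1
    rw [normalizer_eq_top_iff.2 hC]; exact le_top

/-- Lemma B -/
theorem normal_dichotomy (h : IsoData p S P L Q) {N : Subgroup G} (hN : N.Normal) :
    res p P ≤ N ∨ (N ≤ L ∧ ⁅N, normalClosure ((res p P : Subgroup G) : Set G)⁆ ≤ Cfsg.pCore p G) := by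
  rcases h.le_or_le (le_sup_right : (S : Subgroup G) ≤ N ⊔ S) with h1 | h1
  · right
    have hNL : N ≤ L := le_sup_left.trans h1
    refine ⟨hNL, ?_⟩
    have h2 : N ⊓ Q ≤ Cfsg.pCore p G := by
      apply le_pCore_of_normIn (S.2.to_le (inf_le_right.trans h.hQS)) inf_le_left _ hN
      exact le_trans (le_inf le_normalizer (hNL.trans h.hLQ)) inf_normalizer_le_normalizer_inf
    have h3 : ⁅N, Q⁆ ≤ Cfsg.pCore p G := by
      refine le_trans (le_inf ?_ ?_) h2
      · exact commutator_le_left N Q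
      · exact le_normalizer_iff_commutator_le_right.1 (hNL.trans h.hLQ)
    rw [← le_cenMod_iff] at h3 ⊢
    have h4 := h.res_le_of_normal (cenMod_normal hN) h3
    have := cenMod_normal (D := Cfsg.pCore p G) hN
    exact normalClosure_le_normal h4
  · left
    apply res_le_of_le_sup S.2 _ h1
    rw [normalizer_eq_top_iff.2 hN]; exact le_top

theorem not_comm_le (h : IsoData p S P L Q) : ¬ ⁅Q, res p P⁆ ≤ Cfsg.pCore p G := by
  intro hc
  have hDn : (Cfsg.pCore p G).Normal := Cfsg.pCore_normal p G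
  apply h.hQP (Q ⊔ Cfsg.pCore p G) le_sup_left (sup_le (h.hQS.trans h.hSP) ((pCore_le S).trans h.hSP))
    (S.2.to_le (sup_le h.hQS (pCore_le S)))
  conv_lhs => rw [← res_sup_sylow S h.hSP]
  apply sup_le
  · rw [le_normalizer_iff]
    intro r hr
    have h1 : Q ⊔ Cfsg.pCore p G ≤ (Q ⊔ Cfsg.pCore p G).comap (MulAut.conj r).toMonoidHom := by
      apply sup_le
      · intro q hq
        rw [mem_comap]
        show r * q * r⁻¹ ∈ _
        have h2 : r * q * r⁻¹ = q * (q⁻¹ * ⁅q, r⁆⁻¹ * q⁻¹⁻¹) := by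
          simp only [commutatorElement_def]; group
        rw [h2]
        exact mul_mem_sup hq (hDn.conj_mem _ (inv_mem ((commutator_le.1 hc) q hq r hr)) _)
      · intro d hd
        rw [mem_comap]
        exact (le_sup_right : _ ≤ Q ⊔ Cfsg.pCore p G) (hDn.conj_mem d hd r)
    intro k hk
    exact h1 hk
  · refine le_trans (le_inf (h.hSL.trans h.hLQ) ?_)
      (Cfsg.Agent.Lib.Helper52Basic.inf_normalizer_le_normalizer_sup _ _)
    rw [normalizer_eq_top_iff.2 hDn]; exact le_top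

theorem res_le_closure : res p P ≤ normalClosure ((res p P : Subgroup G) : Set G) := le_normalClosure

theorem closure_sup_eq_top (h : IsoData p S P L Q) :
    normalClosure ((res p P : Subgroup G) : Set G) ⊔ L = ⊤ := by
  rw [eq_top_iff, ← h.sup_eq_top]
  apply sup_le _ le_sup_right
  conv_lhs => rw [← res_sup_sylow S h.hSP]
  exact sup_le (res_le_closure.trans le_sup_left) (h.hSL.trans le_sup_right)

theorem normal_of_le_normalizer (h : IsoData p S P L Q) {N : Subgroup G}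
    (h1 : normalClosure ((res p P : Subgroup G) : Set G) ≤ normalizer (N : Set G))
    (h2 : L ≤ normalizer (N : Set G)) : N.Normal := by
  rw [← normalizer_eq_top_iff, eq_top_iff, ← h.closure_sup_eq_top]
  exact sup_le h1 h2

/-- Lemma B for the normal closure -/
theorem closure_dichotomy (h : IsoData p S P L Q) {N : Subgroup G} (hN : N.Normal) :
    normalClosure ((res p P : Subgroup G) : Set G) ≤ N ∨
      (N ≤ L ∧ ⁅N, normalClosure ((res p P : Subgroup G) : Set G)⁆ ≤ Cfsg.pCore p G) := by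
  rcases h.normal_dichotomy hN with h1 | h1
  · exact Or.inl (normalClosure_le_normal h1)
  · exact Or.inr h1

end IsoData

omit [Finite G] [Fact p.Prime] in
theorem lcs_two_eq_bot {W : Type*} [Group W] (h : ∀ a b c : W, ⁅⁅a, b⁆, c⁆ = 1) :
    Subgroup.lowerCentralSeries (⊤ : Subgroup W) 2 = ⊥ := by
  show ⁅⁅(⊤ : Subgroup W), ⊤⁆, ⊤⁆ = ⊥
  rw [commutator_eq_bot_iff_le_centralizer, commutator_le]
  intro a _ b _
  rw [mem_centralizer_iff]
  intro c _
  exact (commutatorElement_eq_one_iff_mul_comm.1 (h a b c)).symm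

omit [Finite G] [Fact p.Prime] in
theorem isNilpotent_of_comm3 {H : Subgroup G} (h : ⁅⁅H, H⁆, H⁆ = ⊥) : Group.IsNilpotent ↥H :=
  (Subgroup.isNilpotent_iff_lowerCentralSeries H).2 ⟨2, h⟩

end Cfsg.Agent.Lib.Helper56Iso2
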