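import Mathlib
import Cfsg.Prelude.Def_PLocal
import Cfsg.Agent.S0542
import Cfsg.Agent.Lib.Helper56Avg
import Cfsg.Agent.Lib.Helper58Subnormal
import Cfsg.Agent.Lib.Helper52Subnormal

set_option autoImplicit false

namespace Cfsg.Agent.Lib.Helper56Kieler

open Cfsg.Agent.Lib.Helper56Avg Cfsg.Agent.Lib.Helper58Subnormal Cfsg.Agent.Lib.Helper52Subnormal
  Cfsg.Agent.Lib.Helper52Basic

variable {H : Type*} [Group H]

/-- `Ω₁(Z(Q))` -/
abbrev Om (p : ℕ) (Q : Subgroup H) : Subgroup H :=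
  Cfsg.omegaOne p (Q ⊓ Subgroup.centralizer (Q : Set H))

theorem mem_Om {p : ℕ} {Q : Subgroup H} {x : H} :
    x ∈ Om p Q ↔ x ∈ Q ∧ x ∈ Subgroup.centralizer (Q : Set H) ∧ x ^ p = 1 := by
  constructor
  · intro hx
    unfold Om Cfsg.omegaOne at hx
    induction hx using Subgroup.closure_induction with
    | mem y hy => exact ⟨(Subgroup.mem_inf.1 hy.1).1, (Subgroup.mem_inf.1 hy.1).2, hy.2⟩
    | one => exact ⟨one_mem _, one_mem _, one_pow _⟩
    | mul a b _ _ ha hb =>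
      refine ⟨mul_mem ha.1 hb.1, mul_mem ha.2.1 hb.2.1, ?_⟩
      have hc : Commute a b := (Subgroup.mem_centralizer_iff.1 hb.2.1 a ha.1)
      rw [hc.mul_pow, ha.2.2, hb.2.2, one_mul]
    | inv a _ ha => exact ⟨inv_mem ha.1, inv_mem ha.2.1, by rw [inv_pow, ha.2.2, inv_one]⟩
  · rintro ⟨h1, h2, h3⟩
    exact Subgroup.subset_closure ⟨Subgroup.mem_inf.2 ⟨h1, h2⟩, h3⟩

theorem Om_comm {p : ℕ} {Q : Subgroup H} {a b : H} (ha : a ∈ Om p Q) (hb : b ∈ Om p Q) :
    a * b = b * a :=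
  Subgroup.mem_centralizer_iff.1 (mem_Om.1 hb).2.1 a (mem_Om.1 ha).1

theorem Om_le (p : ℕ) (Q : Subgroup H) : Om p Q ≤ Q := fun _ hx => (mem_Om.1 hx).1

theorem conj_mem_centralizer {Q : Subgroup H} {g w : H} (hg : g ∈ Subgroup.normalizer (Q : Set H))
    (hw : w ∈ Subgroup.centralizer (Q : Set H)) : g * w * g⁻¹ ∈ Subgroup.centralizer (Q : Set H) := by
  rw [Subgroup.mem_centralizer_iff]
  intro h hh
  have h1 : g⁻¹ * h * g ∈ Q := by
    have := conj_mem_of_mem_normalizer (inv_mem hg) hh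
    simpa using this
  have h2 := Subgroup.mem_centralizer_iff.1 hw _ h1
  calc h * (g * w * g⁻¹) = g * ((g⁻¹ * h * g) * w) * g⁻¹ := by group
    _ = g * (w * (g⁻¹ * h * g)) * g⁻¹ := by rw [h2]
    _ = g * w * g⁻¹ * h := by group

theorem normalizer_le_normalizer_centralizer (Q : Subgroup H) :
    Subgroup.normalizer (Q : Set H) ≤
      Subgroup.normalizer ((Subgroup.centralizer (Q : Set H) : Subgroup H) : Set H) :=
  le_normalizer_of fun _ hg _ hw => conj_mem_centralizer hg hw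

theorem normalizer_le_normalizer_Om (p : ℕ) (Q : Subgroup H) :
    Subgroup.normalizer (Q : Set H) ≤ Subgroup.normalizer ((Om p Q : Subgroup H) : Set H) := by
  apply le_normalizer_of
  intro g hg w hw
  obtain ⟨h1, h2, h3⟩ := mem_Om.1 hw
  refine mem_Om.2 ⟨conj_mem_of_mem_normalizer hg h1, conj_mem_centralizer hg h2, ?_⟩
  rw [conj_pow, h3]; simp

/-- a `p'`-element stabilizing `Q ≥ D ≥ 1` centralizes `Q` -/
theorem commute_of_coprime {p : ℕ} [Fact p.Prime] {Q : Subgroup H} (hQ : IsPGroup p Q) {x q : H}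
    (hx : (orderOf x).Coprime p) (hc : q * x * q⁻¹ * x⁻¹ ∈ Q)
    (hcx : Commute (q * x * q⁻¹ * x⁻¹) x) : q * x = x * q := by
  set c := q * x * q⁻¹ * x⁻¹ with hcdef
  have h1 : q * x * q⁻¹ = c * x := by rw [hcdef]; group
  have h2 : (c * x) ^ orderOf x = 1 := by
    rw [← h1, conj_pow, pow_orderOf_eq_one]; simp
  rw [hcx.mul_pow, pow_orderOf_eq_one, mul_one] at h2
  obtain ⟨k, hk⟩ := hQ ⟨c, hc⟩
  have hk' : c ^ p ^ k = 1 := by
    have := congrArg Subtype.val hk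
    simpa using this
  have h3 : orderOf c ∣ 1 := by
    have d1 : orderOf c ∣ orderOf x := orderOf_dvd_of_pow_eq_one h2
    have d2 : orderOf c ∣ p ^ k := orderOf_dvd_of_pow_eq_one hk'
    have := Nat.dvd_gcd d1 d2
    rwa [Nat.Coprime.pow_right k hx] at this
  have h4 : c = 1 := orderOf_eq_one_iff.1 (Nat.dvd_one.1 h3)
  rw [h4, one_mul] at h1
  calc q * x = (q * x * q⁻¹) * q := by group
    _ = x * q := by rw [h1]

theorem isPGroup_of_coprime_trivial [Finite H] {p : ℕ} [Fact p.Prime] {C : Subgroup H}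
    (h : ∀ x ∈ C, (orderOf x).Coprime p → x = 1) : IsPGroup p C := by
  have hp : p.Prime := Fact.out
  rintro ⟨c, hc⟩
  obtain ⟨k, m, hm, hkm⟩ := Nat.exists_eq_pow_mul_and_not_dvd (orderOf_pos c).ne' p hp.ne_one
  refine ⟨k, Subtype.ext ?_⟩
  have h1 : orderOf (c ^ p ^ k) = m := by
    rw [orderOf_pow_of_dvd (pow_ne_zero _ hp.ne_zero) ⟨m, hkm⟩, hkm]
    exact Nat.mul_div_cancel_left _ (pow_pos hp.pos _)
  have := h _ (pow_mem hc (p ^ k)) (by rw [h1]; exact ((Nat.Prime.coprime_iff_not_dvd hp).2 hm).symm)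
  simpa using this

/-- inheritance of characteristic `p` by normal subgroups, with an invariant witness -/
theorem charP_normal [Finite H] {p : ℕ} [Fact p.Prime] {K L Q : Subgroup H} (hLK : L ≤ K)
    (hKL : K ≤ Subgroup.normalizer (L : Set H)) (hQK : Q ≤ K) (hQp : IsPGroup p Q)
    (hKQ : K ≤ Subgroup.normalizer (Q : Set H)) (hC : K ⊓ Subgroup.centralizer (Q : Set H) ≤ Q) :
    ∃ R : Subgroup H, R ≤ L ∧ IsPGroup p R ∧ K ≤ Subgroup.normalizer (R : Set H) ∧
      L ⊓ Subgroup.centralizer (R : Set H) ≤ R := by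
  set D := Q ⊓ L with hD
  set C := L ⊓ Subgroup.centralizer (D : Set H) with hCdef
  have hKD : K ≤ Subgroup.normalizer (D : Set H) :=
    (le_inf hKQ hKL).trans Subgroup.inf_normalizer_le_normalizer_inf
  have hKC : K ≤ Subgroup.normalizer (C : Set H) :=
    (le_inf hKL (hKD.trans (normalizer_le_normalizer_centralizer D))).trans
      Subgroup.inf_normalizer_le_normalizer_inf
  have hCp : IsPGroup p C := by
    apply isPGroup_of_coprime_trivial
    intro x hx hxc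
    obtain ⟨hxL, hxD⟩ := Subgroup.mem_inf.1 hx
    have hxQ : x ∈ Q := by
      apply hC
      refine Subgroup.mem_inf.2 ⟨hLK hxL, ?_⟩
      rw [Subgroup.mem_centralizer_iff]
      intro q hq
      have hcQ : q * x * q⁻¹ * x⁻¹ ∈ Q := by
        have h1 : x * q⁻¹ * x⁻¹ ∈ Q := conj_mem_of_mem_normalizer (hKQ (hLK hxL)) (inv_mem hq)
        have : q * x * q⁻¹ * x⁻¹ = q * (x * q⁻¹ * x⁻¹) := by group
        rw [this]; exact mul_mem hq h1
      have hcL : q * x * q⁻¹ * x⁻¹ ∈ L :=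
        mul_mem (conj_mem_of_mem_normalizer (hKL (hQK hq)) hxL) (inv_mem hxL)
      have hcomm : Commute (q * x * q⁻¹ * x⁻¹) x :=
        Subgroup.mem_centralizer_iff.1 hxD _ (Subgroup.mem_inf.2 ⟨hcQ, hcL⟩)
      exact commute_of_coprime hQp hxc hcQ hcomm
    obtain ⟨k, hk⟩ := hQp ⟨x, hxQ⟩
    have hk' : x ^ p ^ k = 1 := by
      have := congrArg Subtype.val hk
      simpa using this
    have d2 : orderOf x ∣ p ^ k := orderOf_dvd_of_pow_eq_one hk'
    have := Nat.dvd_gcd dvd_rfl d2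
    rw [Nat.Coprime.pow_right k hxc] at this
    exact orderOf_eq_one_iff.1 (Nat.dvd_one.1 this)
  refine ⟨D ⊔ C, sup_le inf_le_right inf_le_left, ?_, ?_, ?_⟩
  · exact (hQp.to_le inf_le_left).to_sup_of_normal_right' hCp ((inf_le_left.trans hQK).trans hKC)
  · exact (le_inf hKD hKC).trans (Subgroup.normalizer_inf_normalizer_le_normalizer_sup D C)
  · refine le_trans ?_ le_sup_right
    exact inf_le_inf_left _ (Subgroup.centralizer_le (by exact_mod_cast (le_sup_left : D ≤ D ⊔ C)))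

/-- in a `p`-group, a normal subgroup not contained in `F` has an element outside `F` that is
central modulo `F` -/
theorem exists_central_mod [Finite H] {p : ℕ} [Fact p.Prime] {P E F : Subgroup H}
    (hP : IsPGroup p P) (hEP : E ≤ P) (hPE : P ≤ Subgroup.normalizer (E : Set H)) (hEF : ¬ E ≤ F) :
    ∃ e ∈ E, e ∉ F ∧ ∀ t ∈ P, t * e * t⁻¹ * e⁻¹ ∈ F := by
  have hnil : Group.IsNilpotent ↥P := hP.isNilpotent
  obtain ⟨n, hn⟩ := hnil.nilpotent
  have hex : ∃ k : ℕ, ∃ e : ↥P, (e : H) ∈ E ∧ (e : H) ∉ F ∧ e ∈ Subgroup.upperCentralSeries ↥P k := by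
    obtain ⟨e, heE, heF⟩ := SetLike.not_le_iff_exists.1 hEF
    exact ⟨n, ⟨e, hEP heE⟩, heE, heF, by rw [hn]; trivial⟩
  classical
  obtain ⟨e, heE, heF, hek⟩ := Nat.find_spec hex
  have hmin := fun m (hm : m < Nat.find hex) => Nat.find_min hex hm
  rcases hk : Nat.find hex with _ | k
  · rw [hk] at hek
    simp only [Subgroup.upperCentralSeries_zero, Subgroup.mem_bot] at hek
    rw [hek] at heF
    exact absurd (one_mem F) heF
  · rw [hk] at hek
    refine ⟨e, heE, heF, ?_⟩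
    intro t ht
    by_contra hcon
    apply hmin k (by rw [hk]; exact Nat.lt_succ_self k)
    rw [Subgroup.mem_upperCentralSeries_succ_iff] at hek
    have h1 := hek ⟨t, ht⟩
    have h2 : (⟨t, ht⟩ : ↥P) * e * (⟨t, ht⟩ : ↥P)⁻¹ * e⁻¹ ∈ Subgroup.upperCentralSeries ↥P k := by
      have h3 := (Subgroup.upperCentralSeries ↥P k).inv_mem h1
      have h4 : (e * ⟨t, ht⟩ * e⁻¹ * (⟨t, ht⟩ : ↥P)⁻¹)⁻¹ = (⟨t, ht⟩ : ↥P) * e * (⟨t, ht⟩ : ↥P)⁻¹ * e⁻¹ := by
        group
      rwa [commutatorElement_def, h4] at h3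
    refine ⟨_, ?_, hcon, h2⟩
    exact mul_mem (conj_mem_of_mem_normalizer (hPE ht) heE) (inv_mem heE)

theorem conj_eq_iff {k a : H} : k * a * k⁻¹ = a ↔ k * a = a * k := by
  constructor
  · intro h
    calc k * a = (k * a * k⁻¹) * k := by group
      _ = a * k := by rw [h]
  · intro h
    rw [h, mul_inv_cancel_right]

/-- concrete form of the first averaging lemma -/
theorem conc1 [Finite H] {p : ℕ} [Fact p.Prime] {A K X S W : Subgroup H}
    (hAc : ∀ a ∈ A, ∀ b ∈ A, a * b = b * a) (hKA : K ≤ Subgroup.normalizer (A : Set H))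
    (hXK : X ≤ K) (hSX : S ≤ X) (hidx : ¬ p ∣ S.relIndex X) {z : H} (hzA : z ∈ A) (hzp : z ^ p = 1)
    (hzS : ∀ s ∈ S, s * z = z * s) (hW : ∀ x ∈ X, z * (x * z * x⁻¹)⁻¹ ∈ W)
    (hWX : ∀ w ∈ A, w ∈ W → (∀ s ∈ S, s * w = w * s) → ∀ x ∈ X, x * w = w * x) :
    ∀ x ∈ X, x * z = z * x := by
  let _ : CommGroup ↥A :=
    { (inferInstance : Group ↥A) with mul_comm := fun a b => Subtype.ext (hAc a a.2 b b.2) }
  let _ : MulDistribMulAction ↥K ↥A :=
    MulDistribMulAction.compHom ↥A (A.normalizerMonoidHom.comp (Subgroup.inclusion hKA))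
  have hsmul : ∀ (k : ↥K) (a : ↥A), ((k • a : ↥A) : H) = k * a * (k : H)⁻¹ := fun _ _ => rfl
  have hfix : ∀ (k : ↥K) (a : ↥A), k • a = a ↔ (k : H) * a = a * k := by
    intro k a
    rw [← conj_eq_iff, ← hsmul, Subtype.ext_iff]
  have key := fixed_of_comm_mem (p := p) (Γ := ↥K) (M := ↥A) (X.subgroupOf K) (S.subgroupOf K)
    (Subgroup.subgroupOf_mono K hSX) (by rwa [Subgroup.relIndex_subgroupOf hXK])
    (W.subgroupOf A) ⟨z, hzA⟩ (Subtype.ext (by simpa using hzp))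
    (fun s hs => (hfix s _).2 (hzS s hs))
    (fun x hx => by
      rw [Subgroup.mem_subgroupOf]
      have := hW x hx
      rw [div_eq_mul_inv]
      exact this)
    (fun w hw hws x hx => (hfix x w).2 (hWX w w.2 hw
      (fun s hs => (hfix ⟨s, hXK (hSX hs)⟩ w).1 (hws ⟨s, hXK (hSX hs)⟩ hs)) x hx))
  intro x hx
  exact (hfix ⟨x, hXK hx⟩ ⟨z, hzA⟩).1 (key ⟨x, hXK hx⟩ hx)

/-- concrete form of the second averaging lemma -/
theorem conc2 [Finite H] {p : ℕ} [Fact p.Prime] {A K Y S P : Subgroup H}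
    (hAc : ∀ a ∈ A, ∀ b ∈ A, a * b = b * a) (hKA : K ≤ Subgroup.normalizer (A : Set H))
    (hYK : Y ≤ K) (hPK : P ≤ K) (hidx : ¬ p ∣ S.relIndex Y)
    (hPY : P ≤ Subgroup.normalizer (Y : Set H)) {e : H} (heA : e ∈ A) (hep : e ^ p = 1)
    (heS : ∀ s ∈ S, s * e = e * s)
    (heP : ∀ t ∈ P, e⁻¹ * (t * e * t⁻¹) ∈ A ∧ ∀ y ∈ Y, y * (e⁻¹ * (t * e * t⁻¹)) = (e⁻¹ * (t * e * t⁻¹)) * y)
    (hfixP : ∀ k ∈ A, (∀ t ∈ P, t * k = k * t) → ∀ y ∈ Y, y * k = k * y) :
    ∀ y ∈ Y, y * e = e * y := by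
  let _ : CommGroup ↥A :=
    { (inferInstance : Group ↥A) with mul_comm := fun a b => Subtype.ext (hAc a a.2 b b.2) }
  let _ : MulDistribMulAction ↥K ↥A :=
    MulDistribMulAction.compHom ↥A (A.normalizerMonoidHom.comp (Subgroup.inclusion hKA))
  have hsmul : ∀ (k : ↥K) (a : ↥A), ((k • a : ↥A) : H) = k * a * (k : H)⁻¹ := fun _ _ => rfl
  have hfix : ∀ (k : ↥K) (a : ↥A), k • a = a ↔ (k : H) * a = a * k := by
    intro k a
    rw [← conj_eq_iff, ← hsmul, Subtype.ext_iff]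
  have key := fixed_of_fixed_mod (p := p) (Γ := ↥K) (M := ↥A) (Y.subgroupOf K) (S.subgroupOf K)
    (P.subgroupOf K) (by rwa [Subgroup.relIndex_subgroupOf hYK])
    (fun t ht y => by
      rw [Subgroup.mem_subgroupOf, Subgroup.mem_subgroupOf]
      exact Subgroup.mem_normalizer_iff.1 (hPY ht) y)
    ⟨e, heA⟩ (Subtype.ext (by simpa using hep))
    (fun s hs => (hfix s _).2 (heS s hs))
    (fun t ht => ⟨⟨_, (heP t ht).1⟩, fun y hy => (hfix y _).2 ((heP t ht).2 y hy), by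
      apply Subtype.ext
      rw [hsmul]
      show (t : H) * e * (t : H)⁻¹ = e * (e⁻¹ * (t * e * (t : H)⁻¹))
      group⟩)
    (fun k hk y hy => (hfix y k).2 (hfixP k k.2
      (fun t ht => (hfix ⟨t, hPK ht⟩ k).1 (hk ⟨t, hPK ht⟩ ht)) y hy))
  intro y hy
  exact (hfix ⟨y, hYK hy⟩ ⟨e, heA⟩).1 (key ⟨y, hYK hy⟩ hy)

theorem le_sylow_of_normIn [Finite H] {p : ℕ} [Fact p.Prime] (T : Sylow p H) {K Q : Subgroup H}
    (hK : K.IsSubnormal) (hQK : Q ≤ K) (hQp : IsPGroup p Q)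
    (hKQ : K ≤ Subgroup.normalizer (Q : Set H)) : Q ≤ (T : Subgroup H) := by
  have hQs : Q.IsSubnormal := sn_top_iff.1 ((NormIn.sn ⟨hQK, hKQ⟩).trans (sn_top_iff.2 hK))
  exact (subnormal_pGroup_le_pCore hQs hQp).trans (pCore_le_sylow T)

theorem le_centralizer_Om (p : ℕ) (Q : Subgroup H) :
    Q ≤ Subgroup.centralizer ((Om p Q : Subgroup H) : Set H) := by
  intro t ht
  rw [Subgroup.mem_centralizer_iff]
  intro z hz
  exact (Subgroup.mem_centralizer_iff.1 (mem_Om.1 hz).2.1 t ht).symm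

/-- `Ω₁Z(S) ≤ Ω₁Z(Q)` if `Q ≤ S ≤ K` and `C_K(Q) ≤ Q` -/
theorem Om_le_Om {p : ℕ} {K Q S : Subgroup H} (hQS : Q ≤ S) (hSK : S ≤ K)
    (hC : K ⊓ Subgroup.centralizer (Q : Set H) ≤ Q) : Om p S ≤ Om p Q := by
  intro z hz
  obtain ⟨h1, h2, h3⟩ := mem_Om.1 hz
  have h4 : z ∈ Subgroup.centralizer (Q : Set H) :=
    Subgroup.centralizer_le (by exact_mod_cast hQS) h2
  exact mem_Om.2 ⟨hC (Subgroup.mem_inf.2 ⟨hSK h1, h4⟩), h4, h3⟩

theorem not_dvd_relIndex_of_le [Finite H] {p : ℕ} {S X L : Subgroup H} (hSX : S ≤ X) (hXL : X ≤ L)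
    (h : ¬ p ∣ S.relIndex L) : ¬ p ∣ S.relIndex X := by
  intro hd
  apply h
  rw [← Subgroup.relIndex_mul_relIndex S X L hSX hXL]
  exact hd.mul_right _

/-- the normal step of the Kieler lemma -/
theorem kieler_step [Finite H] {p : ℕ} [Fact p.Prime] (T : Sylow p H) {K L Q : Subgroup H}
    (hK : K.IsSubnormal) (hLK : L ≤ K) (hKL : K ≤ Subgroup.normalizer (L : Set H))
    (hQK : Q ≤ K) (hQp : IsPGroup p Q) (hKQ : K ≤ Subgroup.normalizer (Q : Set H))
    (hC : K ⊓ Subgroup.centralizer (Q : Set H) ≤ Q) :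
    L ⊓ Subgroup.centralizer ((Om p ((T : Subgroup H) ⊓ K) : Subgroup H) : Set H) =
      L ⊓ Subgroup.centralizer ((Om p ((T : Subgroup H) ⊓ L) : Subgroup H) : Set H) := by
  set TK := (T : Subgroup H) ⊓ K with hTK
  set TL := (T : Subgroup H) ⊓ L with hTL
  have hTLK : TL ≤ TK := inf_le_inf_left _ hLK
  have hL : L.IsSubnormal := sn_top_iff.1 ((NormIn.sn ⟨hLK, hKL⟩).trans (sn_top_iff.2 hK))
  have hQT : Q ≤ TK := le_inf (le_sylow_of_normIn T hK hQK hQp hKQ) hQK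
  obtain ⟨R, hRL, hRp, hKR, hCR⟩ := charP_normal hLK hKL hQK hQp hKQ hC
  have hRT : R ≤ TL := le_inf (le_sylow_of_normIn T hK (hRL.trans hLK) hRp hKR) hRL
  have hidxL : ¬ p ∣ TL.relIndex L := by
    rw [hTL, Subgroup.inf_relIndex_right]
    exact Cfsg.Agent.S0542.not_dvd_relIndex p L hL T
  have hTKn : TK ≤ Subgroup.normalizer (TL : Set H) :=
    (le_inf (inf_le_left.trans Subgroup.le_normalizer) (inf_le_right.trans hKL)).trans
      Subgroup.inf_normalizer_le_normalizer_inf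
  apply le_antisymm
  · -- `C_L(Ω₁Z(T ∩ K)) ≤ C_L(Ω₁Z(T ∩ L))`
    set Y := L ⊓ Subgroup.centralizer ((Om p TK : Subgroup H) : Set H) with hY
    refine le_inf inf_le_left ?_
    rw [Subgroup.le_centralizer_iff]
    by_contra hcon
    obtain ⟨e, heE, heF, het⟩ := exists_central_mod (T.2.to_le inf_le_left : IsPGroup p TK)
      ((Om_le p TL).trans hTLK) (hTKn.trans (normalizer_le_normalizer_Om p TL)) hcon
    apply heF
    have hEA : Om p TL ≤ Om p R := Om_le_Om hRT inf_le_right hCR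
    have hTLY : TL ≤ Y := le_inf inf_le_right (hTLK.trans (le_centralizer_Om p TK))
    have key := conc2 (p := p) (A := Om p R) (K := K) (Y := Y) (S := TL) (P := TK)
      (fun a ha b hb => Om_comm ha hb) (hKR.trans (normalizer_le_normalizer_Om p R))
      (inf_le_left.trans hLK) inf_le_right (not_dvd_relIndex_of_le hTLY inf_le_left hidxL)
      ((le_inf (inf_le_right.trans hKL)
        ((Subgroup.le_normalizer.trans (normalizer_le_normalizer_Om p TK)).trans
          (normalizer_le_normalizer_centralizer _))).trans Subgroup.inf_normalizer_le_normalizer_inf)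
      (hEA heE) (mem_Om.1 heE).2.2
      (fun s hs => Subgroup.mem_centralizer_iff.1 (mem_Om.1 heE).2.1 s hs)
      (fun t ht => by
        have h1 : t * e * t⁻¹ ∈ Om p TL :=
          conj_mem_of_mem_normalizer ((hTKn.trans (normalizer_le_normalizer_Om p TL)) ht) heE
        have h2 : e⁻¹ * (t * e * t⁻¹) = t * e * t⁻¹ * e⁻¹ := Om_comm (inv_mem heE) h1
        refine ⟨hEA (mul_mem (inv_mem heE) h1), ?_⟩
        intro y hy
        rw [h2]
        exact Subgroup.mem_centralizer_iff.1 (het t ht) y hy)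
      (fun k hk hkt y hy => by
        obtain ⟨k1, k2, k3⟩ := mem_Om.1 hk
        have hkO : k ∈ Om p TK := mem_Om.2 ⟨hTLK (hRT k1),
          Subgroup.mem_centralizer_iff.2 (fun t ht => hkt t ht), k3⟩
        exact (Subgroup.mem_centralizer_iff.1 (Subgroup.mem_inf.1 hy).2 k hkO).symm)
    rw [Subgroup.mem_centralizer_iff]
    intro y hy
    exact key y hy
  · -- `C_L(Ω₁Z(T ∩ L)) ≤ C_L(Ω₁Z(T ∩ K))`
    set X := L ⊓ Subgroup.centralizer ((Om p TL : Subgroup H) : Set H) with hX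
    refine le_inf inf_le_left ?_
    intro x hx
    rw [Subgroup.mem_centralizer_iff]
    intro z hz
    have hTLX : TL ≤ X := le_inf inf_le_right (le_centralizer_Om p TL)
    have hzK : z ∈ K := (Subgroup.mem_inf.1 (mem_Om.1 hz).1).2
    have key := conc1 (p := p) (A := Om p Q) (K := K) (X := X) (S := TL) (W := L)
      (fun a ha b hb => Om_comm ha hb) (hKQ.trans (normalizer_le_normalizer_Om p Q))
      (inf_le_left.trans hLK) hTLX (not_dvd_relIndex_of_le hTLX inf_le_left hidxL)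
      (Om_le_Om hQT inf_le_right hC hz) (mem_Om.1 hz).2.2
      (fun s hs => Subgroup.mem_centralizer_iff.1 (mem_Om.1 hz).2.1 s (hTLK hs))
      (fun x hx => by
        have hxL : x ∈ L := (Subgroup.mem_inf.1 hx).1
        have : z * (x * z * x⁻¹)⁻¹ = (z * x * z⁻¹) * x⁻¹ := by group
        rw [this]
        exact mul_mem (conj_mem_of_mem_normalizer (hKL hzK) hxL) (inv_mem hxL))
      (fun w hw hwL hws x hx => by
        obtain ⟨w1, w2, w3⟩ := mem_Om.1 hw
        have hwO : w ∈ Om p TL := mem_Om.2 ⟨Subgroup.mem_inf.2 ⟨(Subgroup.mem_inf.1 (hQT w1)).1, hwL⟩,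
          Subgroup.mem_centralizer_iff.2 (fun t ht => hws t ht), w3⟩
        exact (Subgroup.mem_centralizer_iff.1 (Subgroup.mem_inf.1 hx).2 w hwO).symm)
    exact (key x hx).symm

/-- relative characteristic `p` -/
def CharP (p : ℕ) (K : Subgroup H) : Prop :=
  ∃ Q : Subgroup H, Q ≤ K ∧ IsPGroup p Q ∧ K ≤ Subgroup.normalizer (Q : Set H) ∧
    K ⊓ Subgroup.centralizer (Q : Set H) ≤ Q

theorem CharP.of_normIn [Finite H] {p : ℕ} [Fact p.Prime] {K L : Subgroup H} (hK : CharP p K)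
    (h : NormIn L K) : CharP p L := by
  obtain ⟨Q, h1, h2, h3, h4⟩ := hK
  obtain ⟨R, hRL, hRp, hKR, hCR⟩ := charP_normal h.1 h.2 h1 h2 h3 h4
  exact ⟨R, hRL, hRp, h.1.trans hKR, hCR⟩

theorem CharP.of_sn [Finite H] {p : ℕ} [Fact p.Prime] {K L : Subgroup H} (h : Sn L K) :
    CharP p K → CharP p L := by
  induction h with
  | refl => exact id
  | tail _ h2 ih => exact fun hK => ih (hK.of_normIn h2)

/-- the Kieler lemma, relative form -/
theorem kieler_rel [Finite H] {p : ℕ} [Fact p.Prime] (T : Sylow p H) {K L : Subgroup H}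
    (h : Sn L K) : K.IsSubnormal → CharP p K →
    L ⊓ Subgroup.centralizer ((Om p ((T : Subgroup H) ⊓ K) : Subgroup H) : Set H) =
      L ⊓ Subgroup.centralizer ((Om p ((T : Subgroup H) ⊓ L) : Subgroup H) : Set H) := by
  induction h with
  | refl => exact fun _ _ => rfl
  | @tail M K h1 h2 ih =>
    intro hK hc
    have hM : M.IsSubnormal := sn_top_iff.1 (h2.sn.trans (sn_top_iff.2 hK))
    have e1 := ih hM (hc.of_normIn h2)
    obtain ⟨Q, q1, q2, q3, q4⟩ := hc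
    have e2 := kieler_step T hK h2.1 h2.2 q1 q2 q3 q4
    have hLM : L ≤ M := Sn.le h1
    rw [← e1]
    have e3 := congrArg (fun X => L ⊓ X) e2
    simp only [← inf_assoc, inf_eq_left.2 hLM] at e3
    exact e3

end Cfsg.Agent.Lib.Helper56Kieler
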