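import Mathlib
import Cfsg.Prelude.Def_LocalEven
import Cfsg.Agent.Lib.Helper56Kieler
import Cfsg.Agent.Lib.Helper56Core

set_option autoImplicit false

namespace Cfsg.Agent.Lib.Helper56Kieler2

open Cfsg.Agent.Lib.Helper56Avg Cfsg.Agent.Lib.Helper58Subnormal Cfsg.Agent.Lib.Helper52Subnormal
  Cfsg.Agent.Lib.Helper52Basic Cfsg.Agent.Lib.Helper56Kieler Cfsg.Agent.Lib.Helper56Core

variable {H : Type*} [Group H]

/-- a normal `p`-subgroup lies in every (relative) Sylow `p`-subgroup -/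
theorem le_relSylow [Finite H] {p : ℕ} [Fact p.Prime] {K S Q : Subgroup H} (hSK : S ≤ K)
    (hSp : IsPGroup p S) (hSi : ¬ p ∣ S.relIndex K) (hQK : Q ≤ K) (hQp : IsPGroup p Q)
    (hKQ : K ≤ Subgroup.normalizer (Q : Set H)) : Q ≤ S := by
  have hp : p.Prime := Fact.out
  have hJ : IsPGroup p (Q ⊔ S : Subgroup H) := hQp.to_sup_of_normal_left' hSp (hSK.trans hKQ)
  have h1 : ¬ p ∣ S.relIndex (Q ⊔ S) := not_dvd_relIndex_of_le le_sup_right (sup_le hQK hSK) hSi
  obtain ⟨a, ha⟩ := IsPGroup.iff_card.1 hJ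
  have h2 : S.relIndex (Q ⊔ S) ∣ p ^ a := by
    rw [← ha, ← card_mul_relIndex (le_sup_right : S ≤ Q ⊔ S)]
    exact dvd_mul_left _ _
  obtain ⟨b, -, hb⟩ := (Nat.dvd_prime_pow hp).1 h2
  rcases Nat.eq_zero_or_pos b with rfl | hb0
  · rw [pow_zero, Subgroup.relIndex_eq_one] at hb
    exact le_sup_left.trans hb
  · exact absurd (hb ▸ dvd_pow_self p hb0.ne') h1

/-- a (relative) Sylow `p`-subgroup meets a normal subgroup in a Sylow `p`-subgroup -/
theorem not_dvd_relIndex_inf [Finite H] {p : ℕ} [Fact p.Prime] {K S L : Subgroup H}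
    (hSp : IsPGroup p S) (hSi : ¬ p ∣ S.relIndex K) (hLK : L ≤ K)
    (hKL : K ≤ Subgroup.normalizer (L : Set H)) : ¬ p ∣ (S ⊓ L).relIndex L := by
  rw [Subgroup.inf_relIndex_right]
  have h1 : IsPGroup p (S.subgroupOf K) := hSp.comap_subtype
  have hN : (L.subgroupOf K).Normal := (Subgroup.normal_subgroupOf_iff_le_normalizer hLK).2 hKL
  have := Cfsg.Agent.S0542.not_dvd_relIndex p (L.subgroupOf K) hN.isSubnormal (h1.toSylow hSi)
  have e : ((h1.toSylow hSi : Sylow p ↥K) : Subgroup ↥K) = S.subgroupOf K := rfl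
  rwa [e, Subgroup.relIndex_subgroupOf hLK] at this

/-- the normal step of the Kieler lemma, for a relative Sylow subgroup -/
theorem kieler_step' [Finite H] {p : ℕ} [Fact p.Prime] {K L Q S : Subgroup H} (hSK : S ≤ K)
    (hSp : IsPGroup p S) (hSi : ¬ p ∣ S.relIndex K)
    (hLK : L ≤ K) (hKL : K ≤ Subgroup.normalizer (L : Set H))
    (hQK : Q ≤ K) (hQp : IsPGroup p Q) (hKQ : K ≤ Subgroup.normalizer (Q : Set H))
    (hC : K ⊓ Subgroup.centralizer (Q : Set H) ≤ Q) :
    L ⊓ Subgroup.centralizer ((Om p S : Subgroup H) : Set H) =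
      L ⊓ Subgroup.centralizer ((Om p (S ⊓ L) : Subgroup H) : Set H) := by
  set TL := S ⊓ L with hTL
  have hTLK : TL ≤ S := inf_le_left
  have hQT : Q ≤ S := le_relSylow hSK hSp hSi hQK hQp hKQ
  obtain ⟨R, hRL, hRp, hKR, hCR⟩ := charP_normal hLK hKL hQK hQp hKQ hC
  have hRT : R ≤ TL := le_inf (le_relSylow hSK hSp hSi (hRL.trans hLK) hRp hKR) hRL
  have hidxL : ¬ p ∣ TL.relIndex L := not_dvd_relIndex_inf hSp hSi hLK hKL
  have hTKn : S ≤ Subgroup.normalizer (TL : Set H) :=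
    (le_inf Subgroup.le_normalizer (hSK.trans hKL)).trans
      Subgroup.inf_normalizer_le_normalizer_inf
  apply le_antisymm
  · set Y := L ⊓ Subgroup.centralizer ((Om p S : Subgroup H) : Set H) with hY
    refine le_inf inf_le_left ?_
    rw [Subgroup.le_centralizer_iff]
    by_contra hcon
    obtain ⟨e, heE, heF, het⟩ := exists_central_mod hSp
      ((Om_le p TL).trans hTLK) (hTKn.trans (normalizer_le_normalizer_Om p TL)) hcon
    apply heF
    have hEA : Om p TL ≤ Om p R := Om_le_Om hRT inf_le_right hCR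
    have hTLY : TL ≤ Y := le_inf inf_le_right (hTLK.trans (le_centralizer_Om p S))
    have key := conc2 (p := p) (A := Om p R) (K := K) (Y := Y) (S := TL) (P := S)
      (fun a ha b hb => Om_comm ha hb) (hKR.trans (normalizer_le_normalizer_Om p R))
      (inf_le_left.trans hLK) hSK (not_dvd_relIndex_of_le hTLY inf_le_left hidxL)
      ((le_inf (hSK.trans hKL)
        ((Subgroup.le_normalizer.trans (normalizer_le_normalizer_Om p S)).trans
          (Helper56Kieler.normalizer_le_normalizer_centralizer _))).trans Subgroup.inf_normalizer_le_normalizer_inf)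
      (hEA heE) (mem_Om.1 heE).2.2
      (fun s hs => Subgroup.mem_centralizer_iff.1 (mem_Om.1 heE).2.1 s hs)
      (fun t ht => by
        have h1 : t * e * t⁻¹ ∈ Om p TL :=
          conj_mem_of_mem_normalizer ((hTKn.trans (normalizer_le_normalizer_Om p TL)) ht) heE
        have h2 : e⁻¹ * (t * e * t⁻¹) = t * e * t⁻¹ * e⁻¹ := Om_comm (inv_mem heE) h1
        refine ⟨hEA (mul_mem (inv_mem heE) h1), ?_⟩
        intro y hy
        rw [h2]
        exact Subgroup.mem_centralizer_iff.1 (het t ht) y hy)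
      (fun k hk hkt y hy => by
        obtain ⟨k1, k2, k3⟩ := mem_Om.1 hk
        have hkO : k ∈ Om p S := mem_Om.2 ⟨hTLK (hRT k1),
          Subgroup.mem_centralizer_iff.2 (fun t ht => hkt t ht), k3⟩
        exact (Subgroup.mem_centralizer_iff.1 (Subgroup.mem_inf.1 hy).2 k hkO).symm)
    rw [Subgroup.mem_centralizer_iff]
    intro y hy
    exact key y hy
  · set X := L ⊓ Subgroup.centralizer ((Om p TL : Subgroup H) : Set H) with hX
    refine le_inf inf_le_left ?_
    intro x hx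
    rw [Subgroup.mem_centralizer_iff]
    intro z hz
    have hTLX : TL ≤ X := le_inf inf_le_right (le_centralizer_Om p TL)
    have hzK : z ∈ K := hSK (mem_Om.1 hz).1
    have key := conc1 (p := p) (A := Om p Q) (K := K) (X := X) (S := TL) (W := L)
      (fun a ha b hb => Om_comm ha hb) (hKQ.trans (normalizer_le_normalizer_Om p Q))
      (inf_le_left.trans hLK) hTLX (not_dvd_relIndex_of_le hTLX inf_le_left hidxL)
      (Om_le_Om hQT hSK hC hz) (mem_Om.1 hz).2.2
      (fun s hs => Subgroup.mem_centralizer_iff.1 (mem_Om.1 hz).2.1 s (hTLK hs))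
      (fun x hx => by
        have hxL : x ∈ L := (Subgroup.mem_inf.1 hx).1
        have : z * (x * z * x⁻¹)⁻¹ = (z * x * z⁻¹) * x⁻¹ := by group
        rw [this]
        exact mul_mem (conj_mem_of_mem_normalizer (hKL hzK) hxL) (inv_mem hxL))
      (fun w hw hwL hws x hx => by
        obtain ⟨w1, w2, w3⟩ := mem_Om.1 hw
        have hwO : w ∈ Om p TL := mem_Om.2 ⟨Subgroup.mem_inf.2 ⟨hQT w1, hwL⟩,
          Subgroup.mem_centralizer_iff.2 (fun t ht => hws t ht), w3⟩
        exact (Subgroup.mem_centralizer_iff.1 (Subgroup.mem_inf.1 hx).2 w hwO).symm)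
    exact (key x hx).symm

/-- relative local characteristic `p` -/
def LocCharP (p : ℕ) (K : Subgroup H) : Prop :=
  ∀ U : Subgroup H, U ≤ K → IsPGroup p U → U ≠ ⊥ →
    CharP p (K ⊓ Subgroup.normalizer (U : Set H))

theorem LocCharP.of_normIn [Finite H] {p : ℕ} [Fact p.Prime] {K L : Subgroup H}
    (hK : LocCharP p K) (h : NormIn L K) : LocCharP p L :=
  fun U hU hUp hU0 => (hK U (hU.trans h.1) hUp hU0).of_normIn (h.inf_right _)

theorem charP_of_type [Finite H] {p : ℕ} [Fact p.Prime] (N : Subgroup H)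
    (h : Subgroup.centralizer (Cfsg.pCore p ↥N : Set ↥N) ≤ Cfsg.pCore p ↥N) : CharP p N := by
  refine ⟨(Cfsg.pCore p ↥N).map N.subtype, Subgroup.map_subtype_le _, pCore_isPGroup.map _, ?_, ?_⟩
  · apply le_normalizer_of
    rintro n hn _ ⟨q, hq, rfl⟩
    exact ⟨⟨n, hn⟩ * q * ⟨n, hn⟩⁻¹, (Cfsg.pCore_normal p ↥N).conj_mem q hq ⟨n, hn⟩, rfl⟩
  · intro x hx
    obtain ⟨hxN, hxC⟩ := Subgroup.mem_inf.1 hx
    refine ⟨⟨x, hxN⟩, h ?_, rfl⟩
    rw [Subgroup.mem_centralizer_iff]
    intro q hq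
    apply Subtype.ext
    exact Subgroup.mem_centralizer_iff.1 hxC q ⟨q, hq, rfl⟩

theorem locCharP_top [Finite H] {p : ℕ} [Fact p.Prime] (h : Cfsg.IsOfLocalCharacteristic p H) :
    LocCharP p (⊤ : Subgroup H) := by
  intro U _ hUp hU0
  rw [top_inf_eq]
  exact charP_of_type _ (h.2 U hUp hU0)

/-- a nontrivial normal subgroup of a `p`-group contains a central element of order `p` -/
theorem exists_central_order_p [Finite H] {p : ℕ} [Fact p.Prime] {S E : Subgroup H}
    (hSp : IsPGroup p S) (hES : E ≤ S) (hSE : S ≤ Subgroup.normalizer (E : Set H)) (hE : E ≠ ⊥) :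
    ∃ u ∈ E, u ≠ 1 ∧ u ^ p = 1 ∧ u ∈ Subgroup.centralizer (S : Set H) := by
  have hp : p.Prime := Fact.out
  have hEF : ¬ E ≤ ⊥ := fun h => hE (eq_bot_iff.2 h)
  obtain ⟨e, heE, heF, het⟩ := exists_central_mod hSp hES hSE hEF
  have he1 : e ≠ 1 := fun h => heF (Subgroup.mem_bot.2 h)
  have heC : e ∈ Subgroup.centralizer (S : Set H) := by
    rw [Subgroup.mem_centralizer_iff]
    intro t ht
    have := Subgroup.mem_bot.1 (het t ht)
    rw [← conj_eq_iff]
    calc t * e * t⁻¹ = (t * e * t⁻¹ * e⁻¹) * e := by group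
      _ = e := by rw [this, one_mul]
  obtain ⟨k, hk⟩ := (IsPGroup.iff_orderOf.1 hSp) ⟨e, hES heE⟩
  have hk' : orderOf e = p ^ k := by rw [← hk]; exact (Subgroup.orderOf_mk e (hES heE)).symm
  rcases Nat.eq_zero_or_pos k with rfl | hk0
  · rw [pow_zero, orderOf_eq_one_iff] at hk'
    exact absurd hk' he1
  refine ⟨e ^ p ^ (k - 1), pow_mem heE _, ?_, ?_, pow_mem heC _⟩
  · apply pow_ne_one_of_lt_orderOf (pow_pos hp.pos _).ne'
    rw [hk']
    exact Nat.pow_lt_pow_right hp.one_lt (by omega)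
  · rw [← pow_mul, ← pow_succ, Nat.sub_add_cancel hk0, ← hk', pow_orderOf_eq_one]

/-- the normal step in local characteristic `p` -/
theorem kieler_loc_step [Finite H] {p : ℕ} [Fact p.Prime] {K L S : Subgroup H} (hSK : S ≤ K)
    (hSp : IsPGroup p S) (hSi : ¬ p ∣ S.relIndex K)
    (hLK : L ≤ K) (hKL : K ≤ Subgroup.normalizer (L : Set H)) (hloc : LocCharP p K)
    (hne : S ⊓ L ≠ ⊥) :
    L ⊓ Subgroup.centralizer ((Om p S : Subgroup H) : Set H) =
      L ⊓ Subgroup.centralizer ((Om p (S ⊓ L) : Subgroup H) : Set H) := by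
  have hSn : S ≤ Subgroup.normalizer ((S ⊓ L : Subgroup H) : Set H) :=
    (le_inf Subgroup.le_normalizer (hSK.trans hKL)).trans Subgroup.inf_normalizer_le_normalizer_inf
  set U := Om p (S ⊓ L) ⊓ Subgroup.centralizer (S : Set H) with hU
  have hUS : U ≤ S := inf_le_left.trans ((Om_le p _).trans inf_le_left)
  have hU0 : U ≠ ⊥ := by
    obtain ⟨u, h1, h2, h3, h4⟩ := exists_central_order_p hSp inf_le_left hSn hne
    intro hb
    apply h2
    rw [← Subgroup.mem_bot, ← hb]
    refine Subgroup.mem_inf.2 ⟨mem_Om.2 ⟨h1, ?_, h3⟩, h4⟩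
    exact Subgroup.centralizer_le (by exact_mod_cast (inf_le_left : S ⊓ L ≤ S)) h4
  have hUOm : U ≤ Om p S := by
    intro u hu
    obtain ⟨h1, h2⟩ := Subgroup.mem_inf.1 hu
    exact mem_Om.2 ⟨hUS hu, h2, (mem_Om.1 h1).2.2⟩
  have hSNU : S ≤ Subgroup.normalizer (U : Set H) :=
    (le_inf (hSn.trans (normalizer_le_normalizer_Om p _))
      (Subgroup.le_normalizer.trans (Helper56Kieler.normalizer_le_normalizer_centralizer S))).trans
      Subgroup.inf_normalizer_le_normalizer_inf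
  obtain ⟨Q, q1, q2, q3, q4⟩ := hloc U (hUS.trans hSK) (hSp.to_le hUS) hU0
  set N := K ⊓ Subgroup.normalizer (U : Set H) with hN
  have hSN : S ≤ N := le_inf hSK hSNU
  have hnorm : NormIn (L ⊓ Subgroup.normalizer (U : Set H)) N :=
    NormIn.inf_right ⟨hLK, hKL⟩ _
  have key := kieler_step' hSN hSp (not_dvd_relIndex_of_le hSN inf_le_left hSi) hnorm.1 hnorm.2
    q1 q2 q3 q4
  have e1 : S ⊓ (L ⊓ Subgroup.normalizer (U : Set H)) = S ⊓ L := by
    rw [← inf_assoc]
    exact inf_eq_left.2 (inf_le_left.trans hSNU)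
  rw [e1] at key
  have aux : ∀ V : Subgroup H, U ≤ V →
      L ⊓ Subgroup.normalizer (U : Set H) ⊓ Subgroup.centralizer (V : Set H) =
        L ⊓ Subgroup.centralizer (V : Set H) := by
    intro V hV
    rw [inf_assoc]
    congr 1
    apply inf_eq_right.2
    refine (Subgroup.centralizer_le (by exact_mod_cast hV)).trans ?_
    exact Subgroup.centralizer_le_normalizer _
  rw [aux _ hUOm, aux _ inf_le_left] at key
  exact key

/-- the Kieler lemma in local characteristic `p`, relative form -/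
theorem kieler_loc_rel [Finite H] {p : ℕ} [Fact p.Prime] (T : Sylow p H) {K L : Subgroup H}
    (h : Sn L K) (hne : (T : Subgroup H) ⊓ L ≠ ⊥) : K.IsSubnormal → LocCharP p K →
    L ⊓ Subgroup.centralizer ((Om p ((T : Subgroup H) ⊓ K) : Subgroup H) : Set H) =
      L ⊓ Subgroup.centralizer ((Om p ((T : Subgroup H) ⊓ L) : Subgroup H) : Set H) := by
  induction h with
  | refl => exact fun _ _ => rfl
  | @tail M K h1 h2 ih =>
    intro hK hc
    have hM : M.IsSubnormal := sn_top_iff.1 (h2.sn.trans (sn_top_iff.2 hK))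
    have e1 := ih hM (hc.of_normIn h2)
    have hLM : L ≤ M := Sn.le h1
    have hi : ¬ p ∣ ((T : Subgroup H) ⊓ K).relIndex K := by
      rw [Subgroup.inf_relIndex_right]
      exact Cfsg.Agent.S0542.not_dvd_relIndex p K hK T
    have hne' : (T : Subgroup H) ⊓ K ⊓ M ≠ ⊥ := by
      intro hb
      apply hne
      rw [eq_bot_iff, ← hb]
      exact le_inf (inf_le_inf_left _ (hLM.trans h2.1)) (inf_le_right.trans hLM)
    have e2 := kieler_loc_step inf_le_right (T.2.to_le inf_le_left) hi h2.1 h2.2 hc hne'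
    have e4 : (T : Subgroup H) ⊓ K ⊓ M = (T : Subgroup H) ⊓ M := by
      rw [inf_assoc, inf_eq_right.2 h2.1]
    rw [e4] at e2
    rw [← e1]
    have e3 := congrArg (fun X => L ⊓ X) e2
    simp only [← inf_assoc, inf_eq_left.2 hLM] at e3
    exact e3

end Cfsg.Agent.Lib.Helper56Kieler2
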