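import Mathlib
import Cfsg.Agent.Lib.Helper11Supersolvable
import Cfsg.Agent.S0528

set_option autoImplicit false

namespace Cfsg.Agent.Lib.Helper56Super

open Cfsg.Agent.Lib.Helper11Supersolvable
open scoped commutatorElement

universe u

/-! ### an eigenvector for an operator of order dividing `p - 1` -/

open Polynomial in
theorem exists_eigen_lin {p : ℕ} [Fact p.Prime] {V : Type*} [AddCommGroup V] [Module (ZMod p) V]
    [Finite V] [Nontrivial V] (f : Module.End (ZMod p) V) (hf : f ^ p = f) :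
    ∃ μ : ZMod p, ∃ v : V, v ≠ 0 ∧ f v = μ • v := by
  have hp : p.Prime := Fact.out
  have : Module.Finite (ZMod p) V := Module.Finite.of_finite
  have h1 : aeval f (X ^ p - X : (ZMod p)[X]) = 0 := by
    simp [hf]
  have h2 : minpoly (ZMod p) f ∣ (X ^ p - X : (ZMod p)[X]) := minpoly.dvd _ _ h1
  have h3 : (X ^ p - X : (ZMod p)[X]) ≠ 0 := FiniteField.X_pow_card_sub_X_ne_zero _ hp.one_lt
  have h4 : Splits (minpoly (ZMod p) f) := (GaloisField.splits_zmod_X_pow_sub_X p).of_dvd h3 h2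
  have hint : IsIntegral (ZMod p) f := Algebra.IsIntegral.isIntegral f
  have h5 : degree (minpoly (ZMod p) f) ≠ 0 := (minpoly.degree_pos hint).ne'
  obtain ⟨μ, hμ⟩ := h4.exists_eval_eq_zero h5
  have h6 : f.HasEigenvalue μ := Module.End.hasEigenvalue_of_isRoot hμ
  obtain ⟨v, hv⟩ := h6.exists_hasEigenvector
  exact ⟨μ, v, hv.2, hv.apply_eq_smul⟩

theorem exists_eigen_aux {p : ℕ} [Fact p.Prime] {W : Type*} [CommGroup W] [Finite W] [Nontrivial W]
    [Module (ZMod p) (Additive W)] (σ : W →* W) (hσ : ∀ w, σ^[p - 1] w = w) :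
    ∃ k : ℕ, ∃ w : W, w ≠ 1 ∧ σ w = w ^ k := by
  have hp : p.Prime := Fact.out
  let f : Module.End (ZMod p) (Additive W) := (MonoidHom.toAdditive σ).toZModLinearMap p
  have hfapp : ∀ x : Additive W, f x = Additive.ofMul (σ (Additive.toMul x)) := fun x => rfl
  have hiter : ∀ (n : ℕ) (x : Additive W), (f ^ n) x = Additive.ofMul (σ^[n] (Additive.toMul x)) := by
    intro n
    induction n with
    | zero => intro x; rfl
    | succ n ih =>
      intro x
      rw [pow_succ, Module.End.mul_apply, ih, hfapp, Function.iterate_succ_apply]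
      rfl
  have hf : f ^ p = f := by
    have h1 : f ^ (p - 1 + 1) = f := by
      apply LinearMap.ext
      intro x
      rw [pow_succ, Module.End.mul_apply, hiter, hσ]
      rfl
    have h2 : p - 1 + 1 = p := by have := hp.pos; omega
    rwa [h2] at h1
  obtain ⟨μ, v, hv, hfv⟩ := exists_eigen_lin f hf
  refine ⟨μ.val, Additive.toMul v, ?_, ?_⟩
  · intro h
    exact hv h
  · have h1 : μ • v = μ.val • v := by
      conv_lhs => rw [← ZMod.natCast_zmod_val μ]
      exact Nat.cast_smul_eq_nsmul (ZMod p) μ.val v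
    rw [h1, hfapp] at hfv
    exact hfv

/-- an endomorphism `σ` with `σ ^ (p - 1) = 1` of a nontrivial elementary abelian `p`-group has an
eigenvector -/
theorem exists_eigen {p : ℕ} [Fact p.Prime] {W : Type*} [CommGroup W] [Finite W] [Nontrivial W]
    (hW : ∀ w : W, w ^ p = 1) (σ : W →* W) (hσ : ∀ w, σ^[p - 1] w = w) :
    ∃ k : ℕ, ∃ w : W, w ≠ 1 ∧ σ w = w ^ k :=
  @exists_eigen_aux p _ W _ _ _ (AddCommGroup.zmodModule (n := p) (fun x => by
    show Additive.ofMul ((Additive.toMul x) ^ p) = 0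
    rw [hW]; rfl)) σ hσ

/-! ### the eigen-subgroups of a commutative subgroup -/

/-- `{w ∈ W | g w g⁻¹ = w ^ k}` -/
def eigSub {N : Type*} [Group N] (W : Subgroup N) (hc : ∀ a ∈ W, ∀ b ∈ W, a * b = b * a) (g : N)
    (k : ℕ) : Subgroup N where
  carrier := {w | w ∈ W ∧ g * w * g⁻¹ = w ^ k}
  one_mem' := ⟨W.one_mem, by simp⟩
  mul_mem' := fun {a b} ha hb => ⟨W.mul_mem ha.1 hb.1, by
    rw [(show Commute a b from hc a ha.1 b hb.1).mul_pow, ← ha.2, ← hb.2]; group⟩
  inv_mem' := fun {a} ha => ⟨W.inv_mem ha.1, by rw [inv_pow, ← ha.2]; group⟩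

theorem mem_eigSub {N : Type*} [Group N] {W : Subgroup N} {hc : ∀ a ∈ W, ∀ b ∈ W, a * b = b * a}
    {g : N} {k : ℕ} {w : N} : w ∈ eigSub W hc g k ↔ w ∈ W ∧ g * w * g⁻¹ = w ^ k := Iff.rfl

theorem eigSub_normal {N : Type*} [Group N] (W : Subgroup N) [hW : W.Normal]
    (hc : ∀ a ∈ W, ∀ b ∈ W, a * b = b * a)
    (hcomm : ∀ g h : N, ∀ w ∈ W, ⁅g, h⁆ * w = w * ⁅g, h⁆) (g : N) (k : ℕ) :
    (eigSub W hc g k).Normal := by
  constructor
  intro w hw h
  refine ⟨hW.conj_mem w hw.1 h, ?_⟩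
  have h1 := hcomm g⁻¹ h⁻¹ w hw.1
  rw [commutatorElement_def] at h1
  simp only [inv_inv] at h1
  have h2 : g * (h * w * h⁻¹) * g⁻¹ = h * g * ((g⁻¹ * h⁻¹ * g * h) * w) * h⁻¹ * g⁻¹ := by group
  rw [h2, h1]
  have h3 : h * g * (w * (g⁻¹ * h⁻¹ * g * h)) * h⁻¹ * g⁻¹ = h * (g * w * g⁻¹) * h⁻¹ := by group
  rw [h3, hw.2, conj_pow]

/-! ### a normal subgroup of prime order -/

theorem exists_fixed {N : Type*} [Group N] [Finite N] {p : ℕ} [Fact p.Prime] (P N₁ : Subgroup N)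
    [P.Normal] (hP : IsPGroup p P) (hP1 : P ≠ ⊥)
    (hc : ∀ u ∈ N₁, (orderOf u).Coprime p → u ∈ Subgroup.centralizer (P : Set N)) :
    ∃ z ∈ P, z ≠ 1 ∧ ∀ u ∈ N₁, u * z = z * u := by
  have hp : p.Prime := Fact.out
  let φ : N₁ →* MulAut P := (MulAut.conjNormal (H := P)).comp N₁.subtype
  have hR : IsPGroup p φ.range := by
    rintro ⟨_, ⟨u, rfl⟩⟩
    obtain ⟨k, m, hm, hkm⟩ := Nat.exists_eq_pow_mul_and_not_dvd (orderOf_pos (u : N)).ne' p
      hp.ne_one
    refine ⟨k, ?_⟩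
    apply Subtype.ext
    show (φ u) ^ p ^ k = 1
    rw [← map_pow]
    have h1 : orderOf ((u : N) ^ p ^ k) = m := by
      rw [orderOf_pow_of_dvd (pow_ne_zero _ hp.ne_zero) ⟨m, hkm⟩, hkm]
      exact Nat.mul_div_cancel_left _ (pow_pos hp.pos _)
    have h2 : (u : N) ^ p ^ k ∈ Subgroup.centralizer (P : Set N) := by
      apply hc _ (N₁.pow_mem u.2 _)
      rw [h1]
      exact ((Nat.Prime.coprime_iff_not_dvd hp).mpr hm).symm
    ext x
    show ((u ^ p ^ k : N₁) : N) * (x : N) * ((u ^ p ^ k : N₁) : N)⁻¹ = (x : N)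
    have h3 := Subgroup.mem_centralizer_iff.1 h2 x x.2
    rw [Subgroup.coe_pow, ← h3, mul_inv_cancel_right]
  have hdvd : p ∣ Nat.card P := by
    have : Nontrivial P := (Subgroup.nontrivial_iff_ne_bot P).2 hP1
    obtain ⟨n, hn0, hn⟩ := hP.nontrivial_iff_card.mp this
    exact hn.symm ▸ dvd_pow_self _ (ne_of_gt hn0)
  have h1 : (1 : P) ∈ MulAction.fixedPoints φ.range P := by
    rintro ⟨f, hf⟩
    show f 1 = 1
    exact map_one f
  obtain ⟨b, hb, hb1⟩ := hR.exists_fixed_point_of_prime_dvd_card_of_fixed_point P hdvd h1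
  refine ⟨b, b.2, fun h => hb1 (Subtype.ext h.symm), ?_⟩
  intro u hu
  have h2 := hb ⟨φ ⟨u, hu⟩, ⟨⟨u, hu⟩, rfl⟩⟩
  have h3 : u * (b : N) * u⁻¹ = (b : N) := congrArg Subtype.val h2
  calc u * b = (u * b * u⁻¹) * u := by group
    _ = b * u := by rw [h3]

theorem conj_iterate {N : Type*} [Group N] (W : Subgroup N) [W.Normal] (g : N) (n : ℕ) (w : W) :
    (((MulAut.conjNormal g : MulAut W).toMonoidHom)^[n] w : N) = g ^ n * w * (g ^ n)⁻¹ := by
  induction n generalizing w with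
  | zero => simp
  | succ n ih =>
    rw [Function.iterate_succ_apply, ih]
    show g ^ n * (g * w * g⁻¹) * (g ^ n)⁻¹ = _
    rw [pow_succ]; group

theorem exists_normal_zpowers {N : Type*} [Group N] [Finite N] {p : ℕ} [Fact p.Prime]
    (P N₁ : Subgroup N) [P.Normal] [N₁.Normal] (hP : IsPGroup p P) (hP1 : P ≠ ⊥)
    (ha : ∀ g h : N, ⁅g, h⁆ ∈ N₁) (hb : ∀ g : N, g ^ (p - 1) ∈ N₁)
    (hc : ∀ u ∈ N₁, (orderOf u).Coprime p → u ∈ Subgroup.centralizer (P : Set N)) :
    ∃ z ∈ P, z ≠ 1 ∧ (Subgroup.zpowers z).Normal := by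
  classical
  have hp : p.Prime := Fact.out
  obtain ⟨z₀, hz₀P, hz₀1, hz₀⟩ := exists_fixed P N₁ hP hP1 hc
  set W : Subgroup N := P ⊓ Subgroup.centralizer (N₁ : Set N) with hW
  have hWn : W.Normal := inferInstance
  have hz₀W : z₀ ∈ W := ⟨hz₀P, Subgroup.mem_centralizer_iff.2 fun u hu => hz₀ u hu⟩
  have hPN₁ : P ≤ N₁ := by
    intro x hx
    obtain ⟨k, hk⟩ := (IsPGroup.iff_orderOf.1 hP) ⟨x, hx⟩
    rw [Subgroup.orderOf_mk] at hk
    have hcop : (p - 1).Coprime (orderOf x) := by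
      rw [hk]
      apply Nat.Coprime.pow_right
      have h1 : (p - 1).Coprime (p - 1 + 1) := (Nat.coprime_self_add_right).2 (Nat.coprime_one_right _)
      have h2 : p - 1 + 1 = p := by have := hp.pos; omega
      rwa [h2] at h1
    obtain ⟨m, hm⟩ := exists_pow_eq_self_of_coprime hcop
    rw [← hm]
    exact N₁.pow_mem (hb x) m
  have hfin : {Y : Subgroup N | Y.Normal ∧ Y ≠ ⊥ ∧ Y ≤ W}.Finite := Set.toFinite _
  obtain ⟨W₀, hW₀⟩ := hfin.exists_minimal ⟨W, hWn, fun h => hz₀1 (by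
    rw [h] at hz₀W; exact hz₀W), le_rfl⟩
  obtain ⟨hW₀n, hW₀1, hW₀W⟩ := hW₀.prop
  have hcent : ∀ u ∈ N₁, ∀ w ∈ W₀, u * w = w * u := by
    intro u hu w hw
    exact Subgroup.mem_centralizer_iff.1 (hW₀W hw).2 u hu
  have hcW : ∀ a ∈ W₀, ∀ b ∈ W₀, a * b = b * a := by
    intro a ha' b hb'
    exact hcent a (hPN₁ (hW₀W ha').1) b hb'
  have hcomm : ∀ g h : N, ∀ w ∈ W₀, ⁅g, h⁆ * w = w * ⁅g, h⁆ := fun g h w hw => hcent _ (ha g h) w hw
  have hmin : ∀ (g : N) (k : ℕ), (∃ w ∈ W₀, w ≠ 1 ∧ g * w * g⁻¹ = w ^ k) →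
      ∀ w ∈ W₀, g * w * g⁻¹ = w ^ k := by
    rintro g k ⟨w, hw, hw1, hwk⟩ x hx
    have h1 : (eigSub W₀ hcW g k).Normal := eigSub_normal W₀ hcW hcomm g k
    have h2 : eigSub W₀ hcW g k ≠ ⊥ := by
      intro h
      have : w ∈ eigSub W₀ hcW g k := ⟨hw, hwk⟩
      rw [h] at this
      exact hw1 this
    have h3 : eigSub W₀ hcW g k ≤ W₀ := fun y hy => hy.1
    have h4 : W₀ ≤ eigSub W₀ hcW g k := hW₀.le_of_le ⟨h1, h2, h3.trans hW₀W⟩ h3
    exact (h4 hx).2
  have hnt : Nontrivial W₀ := (Subgroup.nontrivial_iff_ne_bot W₀).2 hW₀1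
  -- exponent `p`
  have hexp : ∀ w ∈ W₀, w ^ p = 1 := by
    have hW₀p : IsPGroup p W₀ := hP.to_le (hW₀W.trans inf_le_left)
    obtain ⟨n, hn0, hn⟩ := hW₀p.nontrivial_iff_card.mp hnt
    have hdvd : p ∣ Nat.card W₀ := hn.symm ▸ dvd_pow_self _ (ne_of_gt hn0)
    obtain ⟨y, hy⟩ := exists_prime_orderOf_dvd_card' p hdvd
    have h1 : ∀ w ∈ W₀, 1 * w * (1 : N)⁻¹ = w ^ (p + 1) := by
      apply hmin
      refine ⟨y, y.2, ?_, ?_⟩
      · intro h
        have : y = 1 := Subtype.ext h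
        rw [this, orderOf_one] at hy
        exact hp.one_lt.ne hy
      · have h2 : (y : N) ^ p = 1 := by
          have := pow_orderOf_eq_one y
          rw [hy] at this
          exact congrArg Subtype.val this
        rw [pow_succ, h2]; group
    intro w hw
    have h2 := h1 w hw
    rw [pow_succ] at h2
    simpa using h2
  let _ : CommGroup W₀ := { (inferInstance : Group W₀) with
    mul_comm := fun a b => Subtype.ext (hcW a a.2 b b.2) }
  have hscalar : ∀ g : N, ∃ k : ℕ, ∀ w ∈ W₀, g * w * g⁻¹ = w ^ k := by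
    intro g
    obtain ⟨k, w, hw1, hwk⟩ := exists_eigen (p := p) (W := W₀)
      (fun w => Subtype.ext (hexp w w.2)) ((MulAut.conjNormal g : MulAut W₀).toMonoidHom) (by
        intro w
        apply Subtype.ext
        rw [conj_iterate]
        rw [hcent _ (hb g) w w.2, mul_inv_cancel_right])
    refine ⟨k, hmin g k ⟨w, w.2, fun h => hw1 (Subtype.ext h), ?_⟩⟩
    exact congrArg Subtype.val hwk
  obtain ⟨z, hz1⟩ := exists_ne (1 : W₀)
  refine ⟨z, (hW₀W z.2).1, fun h => hz1 (Subtype.ext h), ?_⟩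
  constructor
  intro n hn g
  obtain ⟨i, rfl⟩ := Subgroup.mem_zpowers_iff.1 hn
  obtain ⟨k, hk⟩ := hscalar g
  rw [← conj_zpow, hk z z.2]
  exact Subgroup.zpow_mem _ (Subgroup.pow_mem _ (Subgroup.mem_zpowers _) _) _

/-- lifting an element of order prime to `p` through a surjection -/
theorem exists_lift_coprime {N M : Type*} [Group N] [Finite N] [Group M] {p : ℕ} [Fact p.Prime]
    (f : N →* M) (N₁ : Subgroup N) (u : N) (hu : u ∈ N₁) (hcop : (orderOf (f u)).Coprime p) :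
    ∃ v ∈ N₁, f v = f u ∧ (orderOf v).Coprime p := by
  have hp : p.Prime := Fact.out
  obtain ⟨k, m, hm, hkm⟩ := Nat.exists_eq_pow_mul_and_not_dvd (orderOf_pos u).ne' p hp.ne_one
  have h1 : (p ^ k).Coprime (orderOf (f u)) := (Nat.Coprime.pow_right k hcop).symm
  obtain ⟨s, hs⟩ := exists_pow_eq_self_of_coprime h1
  refine ⟨(u ^ p ^ k) ^ s, N₁.pow_mem (N₁.pow_mem hu _) _, ?_, ?_⟩
  · rw [map_pow, map_pow, hs]
  · have h2 : orderOf (u ^ p ^ k) = m := by
      rw [orderOf_pow_of_dvd (pow_ne_zero _ hp.ne_zero) ⟨m, hkm⟩, hkm]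
      exact Nat.mul_div_cancel_left _ (pow_pos hp.pos _)
    have h3 : orderOf ((u ^ p ^ k) ^ s) ∣ m := by
      rw [← h2]; exact orderOf_pow_dvd s
    exact Nat.Coprime.coprime_dvd_left h3 ((Nat.Prime.coprime_iff_not_dvd hp).mpr hm).symm

theorem chain_aux (p : ℕ) [Fact p.Prime] (n : ℕ) : ∀ (N : Type u) [Group N] [Finite N]
    (P N₁ : Subgroup N) [P.Normal] [N₁.Normal], Nat.card P = n → IsPGroup p P →
    (∀ g h : N, ⁅g, h⁆ ∈ N₁) → (∀ g : N, g ^ (p - 1) ∈ N₁) →
    (∀ u ∈ N₁, (orderOf u).Coprime p → u ∈ Subgroup.centralizer (P : Set N)) → Chain P := by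
  induction n using Nat.strong_induction_on with
  | _ n ih =>
    intro N _ _ P N₁ _ _ hn hP ha hb hc
    by_cases hP1 : P = ⊥
    · rw [hP1]; exact Chain.bot
    obtain ⟨z, hzP, hz1, hZn⟩ := exists_normal_zpowers P N₁ hP hP1 ha hb hc
    set Z := Subgroup.zpowers z with hZ
    have hZP : Z ≤ P := Subgroup.zpowers_le.2 hzP
    have hZc : Chain Z := Cfsg.Agent.S0528.chain_of_isCyclic Z
    have hsurj := QuotientGroup.mk'_surjective Z
    have hPn' : (P.map (QuotientGroup.mk' Z)).Normal := Subgroup.Normal.map inferInstance _ hsurj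
    have hN₁n' : (N₁.map (QuotientGroup.mk' Z)).Normal := Subgroup.Normal.map inferInstance _ hsurj
    have hcomap : (P.map (QuotientGroup.mk' Z)).comap (QuotientGroup.mk' Z) = P := by
      rw [Subgroup.comap_map_eq, QuotientGroup.ker_mk']
      exact sup_of_le_left hZP
    have hcard : Nat.card (P.map (QuotientGroup.mk' Z)) < n := by
      have h1 : (P.map (QuotientGroup.mk' Z)).index = P.index := by
        conv_rhs => rw [← hcomap]
        exact (Subgroup.index_comap_of_surjective _ hsurj).symm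
      have h2 := Subgroup.card_mul_index P
      have h3 := Subgroup.card_mul_index (P.map (QuotientGroup.mk' Z))
      have h4 := Subgroup.card_eq_card_quotient_mul_card_subgroup Z
      rw [h1] at h3
      have h5 : 1 < Nat.card Z := by
        rw [Subgroup.one_lt_card_iff_ne_bot]
        intro h
        exact hz1 (Subgroup.zpowers_eq_bot.1 h)
      have h6 : 0 < P.index := Nat.pos_of_ne_zero Subgroup.index_ne_zero_of_finite
      have h7 : Nat.card P = Nat.card (P.map (QuotientGroup.mk' Z)) * Nat.card Z := by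
        apply Nat.eq_of_mul_eq_mul_right h6
        rw [h2, h4, ← h3]; ring
      have h8 : 0 < Nat.card (P.map (QuotientGroup.mk' Z)) := Nat.card_pos
      rw [← hn, h7]
      nlinarith
    have hch : Chain (P.map (QuotientGroup.mk' Z)) := by
      refine ih _ hcard (N ⧸ Z) (P.map (QuotientGroup.mk' Z)) (N₁.map (QuotientGroup.mk' Z)) rfl
        (hP.map _) ?_ ?_ ?_
      · intro g h
        obtain ⟨g, rfl⟩ := hsurj g
        obtain ⟨h, rfl⟩ := hsurj h
        rw [← map_commutatorElement]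
        exact Subgroup.mem_map_of_mem _ (ha g h)
      · intro g
        obtain ⟨g, rfl⟩ := hsurj g
        rw [← map_pow]
        exact Subgroup.mem_map_of_mem _ (hb g)
      · rintro _ ⟨u, hu, rfl⟩ hcop
        obtain ⟨v, hv, hvu, hvc⟩ := exists_lift_coprime (QuotientGroup.mk' Z) N₁ u hu hcop
        rw [← hvu, Subgroup.mem_centralizer_iff]
        rintro _ ⟨x, hx, rfl⟩
        have h1 := Subgroup.mem_centralizer_iff.1 (hc v hv hvc) x hx
        rw [← map_mul, ← map_mul, h1]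
    have := Cfsg.Agent.S0528.chain_comap Z hZc hch
    rwa [hcomap] at this

/-- Let `P` be a normal `p`-subgroup of `N` and `N₁` a normal subgroup containing all commutators
and all `(p-1)`-th powers, whose `p'`-elements centralize `P`.  Then `P` has a chain of subgroups
normal in `N` with cyclic steps. -/
theorem chain_of_centralizes {N : Type u} [Group N] [Finite N] (p : ℕ) [Fact p.Prime]
    (P N₁ : Subgroup N) [P.Normal] [N₁.Normal] (hP : IsPGroup p P)
    (ha : ∀ g h : N, ⁅g, h⁆ ∈ N₁) (hb : ∀ g : N, g ^ (p - 1) ∈ N₁)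
    (hc : ∀ u ∈ N₁, (orderOf u).Coprime p → u ∈ Subgroup.centralizer (P : Set N)) : Chain P :=
  chain_aux p _ N P N₁ rfl hP ha hb hc

end Cfsg.Agent.Lib.Helper56Super
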