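import Mathlib
import Cfsg.Agent.Lib.Helper11Frobenius
import Cfsg.Agent.Lib.Helper30Coprime
import Cfsg.Agent.Lib.Helper40Sylow
import Cfsg.Agent.Lib.Helper5BaerSuzuki
import Cfsg.Agent.Lib.Helper1Coprime

set_option autoImplicit false
open scoped commutatorElement

namespace Cfsg.Agent.Lib.Helper67Odd2

variable {G : Type*} [Group G] [Finite G]

theorem mem_normalizer_of_conj_mem (K : Subgroup G) (g : G)
    (h : ∀ x ∈ K, g * x * g⁻¹ ∈ K) : g ∈ Subgroup.normalizer (K : Set G) := by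
  rw [Cfsg.Agent.Lib.Helper40Sylow.mem_normalizer_iff_cj]
  apply Cfsg.Agent.Lib.Helper40Sylow.cj_eq_of_le
  rintro _ ⟨x, hx, rfl⟩
  exact h x hx

/-- Subgroups of every intermediate order in a `p`-subgroup. -/
theorem exists_between {p : ℕ} [Fact p.Prime] (P H : Subgroup G) (hHP : H ≤ P) {i j n : ℕ}
    (hH : Nat.card H = p ^ i) (hP : Nat.card P = p ^ n) (hij : i ≤ j) (hjn : j ≤ n) :
    ∃ K : Subgroup G, H ≤ K ∧ K ≤ P ∧ Nat.card K = p ^ j := by
  have h1 : p ^ j ∣ Nat.card P := by rw [hP]; exact pow_dvd_pow _ hjn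
  have h2 : Nat.card (H.subgroupOf P) = p ^ i := by
    rw [Cfsg.Agent.Lib.Helper1Basic.card_subgroupOf_of_le hHP, hH]
  obtain ⟨K, hK, hHK⟩ := Sylow.exists_subgroup_card_pow_prime_le p h1 (H.subgroupOf P) h2 hij
  refine ⟨K.map P.subtype, ?_, Subgroup.map_subtype_le K, ?_⟩
  · intro x hx
    exact ⟨⟨x, hHP hx⟩, hHK hx, rfl⟩
  · rw [Subgroup.card_map_of_injective P.subtype_injective, hK]

/-- Structure of a minimal non-centralized invariant 2-subgroup for an element of odd order. -/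
theorem minStructure (g : G) (hg : Odd (orderOf g)) (Q : Subgroup G) (hQ : IsPGroup 2 Q)
    (hgQ : ∀ x ∈ Q, g * x * g⁻¹ ∈ Q) (x0 : G) (hx0Q : x0 ∈ Q) (hx0 : g * x0 * g⁻¹ ≠ x0)
    (IH : ∀ R : Subgroup G, R ≤ Q → R ≠ Q → (∀ r ∈ R, g * r * g⁻¹ ∈ R) →
      ∀ r ∈ R, g * r * g⁻¹ = r) :
    Subgroup.closure {d | ∃ x ∈ Q, d = x⁻¹ * (g * x * g⁻¹)} = Q ∧
    (∀ c ∈ Q, g * c * g⁻¹ = c → ∀ y ∈ Q, y * c = c * y) ∧
    (∀ a ∈ Q, ∀ b ∈ Q, g * (a * b * a⁻¹ * b⁻¹) * g⁻¹ = a * b * a⁻¹ * b⁻¹) ∧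
    (∀ w ∈ Q, g * (w * w) * g⁻¹ = w * w) := by
  have : Fact (Nat.Prime 2) := ⟨Nat.prime_two⟩
  have h2el : ∀ d ∈ Q, ∃ k : ℕ, d ^ 2 ^ k = 1 := by
    intro d hd
    obtain ⟨k, hk⟩ := hQ ⟨d, hd⟩
    exact ⟨k, by simpa using congrArg Subtype.val hk⟩
  have CL : ∀ x ∈ Q, g * (x⁻¹ * (g * x * g⁻¹)) * g⁻¹ = x⁻¹ * (g * x * g⁻¹) → g * x * g⁻¹ = x := by
    intro x hx hd
    set d := x⁻¹ * (g * x * g⁻¹) with hddef
    have hdQ : d ∈ Q := Q.mul_mem (Q.inv_mem hx) (hgQ x hx)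
    obtain ⟨k, hk⟩ := h2el d hdQ
    have e : g * x * g⁻¹ = x * d := by rw [hddef]; group
    have hc : Commute g d := by
      show g * d = d * g
      calc g * d = (g * d * g⁻¹) * g := by group
        _ = d * g := by rw [hd]
    have hd1 : d = 1 := Cfsg.Agent.Lib.Helper30Coprime.eq_one_of_conj e hc (pow_orderOf_eq_one g) hk
      (Nat.Coprime.pow_right _ (Nat.coprime_two_right.mpr hg))
    rw [e, hd1, mul_one]
  set S : Set G := {d | ∃ x ∈ Q, d = x⁻¹ * (g * x * g⁻¹)} with hS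
  have hSg : ∀ d ∈ S, g * d * g⁻¹ ∈ S := by
    rintro _ ⟨x, hx, rfl⟩
    exact ⟨g * x * g⁻¹, hgQ x hx, by group⟩
  have hDQ : Subgroup.closure S ≤ Q := by
    rw [Subgroup.closure_le]
    rintro _ ⟨x, hx, rfl⟩
    exact Q.mul_mem (Q.inv_mem hx) (hgQ x hx)
  have hD : Subgroup.closure S = Q := by
    by_contra hne
    have h1 := IH _ hDQ hne (fun r hr => Cfsg.Agent.Lib.Helper5BaerSuzuki.conj_mem_closure hSg hr)
    exact hx0 (CL x0 hx0Q (h1 _ (Subgroup.subset_closure ⟨x0, hx0Q, rfl⟩)))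
  set C : Subgroup G := Q ⊓ Subgroup.centralizer {g} with hCdef
  have hC : ∀ c : G, c ∈ C ↔ c ∈ Q ∧ g * c * g⁻¹ = c := by
    intro c
    rw [hCdef, Subgroup.mem_inf, Subgroup.mem_centralizer_singleton_iff]
    constructor
    · rintro ⟨h1, h2⟩
      exact ⟨h1, by rw [← h2]; group⟩
    · rintro ⟨h1, h2⟩
      refine ⟨h1, ?_⟩
      calc c * g = (g * c * g⁻¹) * g := by rw [h2]
        _ = g * c := by group
  have hCQ : C ≤ Q := inf_le_left
  have hx0C : x0 ∉ C := fun h => hx0 ((hC x0).mp h).2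
  have hCltQ : C < Q := lt_of_le_of_ne hCQ (fun h => hx0C (h ▸ hx0Q))
  have IH' : ∀ R : Subgroup G, R ≤ Q → (∀ r ∈ R, g * r * g⁻¹ ∈ R) → ¬ R ≤ C → R = Q := by
    intro R hRQ hgR hRC
    by_contra hne
    exact hRC (fun r hr => (hC r).mpr ⟨hRQ hr, IH R hRQ hne hgR r hr⟩)
  have hgC : g ∈ Subgroup.normalizer (C : Set G) :=
    mem_normalizer_of_conj_mem C g (fun c hc => by rw [((hC c).mp hc).2]; exact hc)
  have hCn : ∀ y ∈ Q, ∀ c ∈ C, y * c * y⁻¹ ∈ C := by
    have hlt := Cfsg.Agent.Lib.Helper11Frobenius.exists_mem_normalizer_not_mem Q C hQ hCltQ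
    have hN : Q ⊓ Subgroup.normalizer (C : Set G) = Q := by
      apply IH' _ inf_le_left
      · intro r hr
        exact ⟨hgQ r hr.1, Subgroup.mul_mem _ (Subgroup.mul_mem _ hgC hr.2) (Subgroup.inv_mem _ hgC)⟩
      · exact not_le_of_gt hlt
    intro y hy c hc
    have hyN : y ∈ Subgroup.normalizer (C : Set G) := by
      have : y ∈ Q ⊓ Subgroup.normalizer (C : Set G) := by rw [hN]; exact hy
      exact this.2
    exact (Subgroup.mem_normalizer_iff.mp hyN c).mp hc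
  have hCcent : ∀ c ∈ C, ∀ y ∈ Q, y * c = c * y := by
    intro c hc
    have hle : Subgroup.closure S ≤ Subgroup.centralizer {c} := by
      rw [Subgroup.closure_le]
      rintro _ ⟨x, hx, rfl⟩
      rw [SetLike.mem_coe, Subgroup.mem_centralizer_singleton_iff]
      have h1 := ((hC _).mp (hCn x hx c hc)).2
      have h2 : g⁻¹ * c * g = c := by
        have := ((hC c).mp hc).2
        calc g⁻¹ * c * g = g⁻¹ * (g * c * g⁻¹) * g := by rw [this]
          _ = c := by group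
      have h3 : (g * x * g⁻¹) * c * (g * x * g⁻¹)⁻¹ = x * c * x⁻¹ := by
        calc (g * x * g⁻¹) * c * (g * x * g⁻¹)⁻¹ = g * (x * (g⁻¹ * c * g) * x⁻¹) * g⁻¹ := by group
          _ = x * c * x⁻¹ := by rw [h2, h1]
      calc x⁻¹ * (g * x * g⁻¹) * c
          = x⁻¹ * ((g * x * g⁻¹) * c * (g * x * g⁻¹)⁻¹) * (g * x * g⁻¹) := by group
        _ = c * (x⁻¹ * (g * x * g⁻¹)) := by rw [h3]; group
    rw [hD] at hle
    intro y hy
    exact Subgroup.mem_centralizer_singleton_iff.mp (hle hy)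
  have hcommC : ∀ a ∈ Q, ∀ b ∈ Q, a * b * a⁻¹ * b⁻¹ ∈ C := by
    have hEQ : ⁅Q, Q⁆ ≤ Q := by
      rw [Subgroup.commutator_le]
      intro a ha b hb
      exact Q.mul_mem (Q.mul_mem (Q.mul_mem ha hb) (Q.inv_mem ha)) (Q.inv_mem hb)
    have hEne : ⁅Q, Q⁆ ≠ Q := by
      intro h
      have hnt : Nontrivial Q := by
        refine ⟨⟨⟨x0, hx0Q⟩, 1, ?_⟩⟩
        intro h1
        have : x0 = 1 := congrArg Subtype.val h1
        apply hx0
        rw [this]; group
      have hnil : Group.IsNilpotent Q := hQ.isNilpotent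
      have hlt := Group.IsSolvable.commutator_lt_top_of_nontrivial (G := Q)
      have h2 : (commutator Q).map Q.subtype = (⊤ : Subgroup Q).map Q.subtype := by
        rw [Subgroup.map_subtype_commutator, h, ← MonoidHom.range_eq_map, Subgroup.range_subtype]
      exact hlt.ne (Subgroup.map_injective Q.subtype_injective h2)
    have hEg : ∀ r ∈ ⁅Q, Q⁆, g * r * g⁻¹ ∈ ⁅Q, Q⁆ := by
      intro r hr
      have h1 : (MulAut.conj g).toMonoidHom r ∈ (⁅Q, Q⁆).map (MulAut.conj g).toMonoidHom :=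
        ⟨r, hr, rfl⟩
      rw [Subgroup.map_commutator] at h1
      have h2 : Q.map (MulAut.conj g).toMonoidHom ≤ Q := by
        rintro _ ⟨y, hy, rfl⟩
        exact hgQ y hy
      exact Subgroup.commutator_mono h2 h2 h1
    have h3 := IH _ hEQ hEne hEg
    intro a ha b hb
    have hab : a * b * a⁻¹ * b⁻¹ ∈ ⁅Q, Q⁆ := Subgroup.commutator_mem_commutator ha hb
    exact (hC _).mpr ⟨hEQ hab, h3 _ hab⟩
  let W : Subgroup G :=
    { carrier := {w | w ∈ Q ∧ w * w ∈ C}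
      one_mem' := ⟨Q.one_mem, by simp⟩
      mul_mem' := by
        rintro a b ⟨ha, ha2⟩ ⟨hb, hb2⟩
        refine ⟨Q.mul_mem ha hb, ?_⟩
        have e : a * b * (a * b) = (a * a) * (a⁻¹ * b * a⁻¹⁻¹ * b⁻¹) * (b * b) := by group
        rw [e]
        exact C.mul_mem (C.mul_mem ha2 (hcommC _ (Q.inv_mem ha) _ hb)) hb2
      inv_mem' := by
        rintro a ⟨ha, ha2⟩
        exact ⟨Q.inv_mem ha, by have := C.inv_mem ha2; simpa [mul_inv_rev] using this⟩ }
  have hsq : ∀ w ∈ Q, w * w ∈ C := by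
    have hWQ : W = Q := by
      apply IH' W (fun w hw => hw.1)
      · rintro w ⟨hw, hw2⟩
        refine ⟨hgQ w hw, ?_⟩
        have e : g * w * g⁻¹ * (g * w * g⁻¹) = g * (w * w) * g⁻¹ := by group
        rw [e, ((hC _).mp hw2).2]
        exact hw2
      · intro hWC
        classical
        have hex : ∃ k : ℕ, x0 ^ 2 ^ k ∈ C := by
          obtain ⟨k, hk⟩ := h2el x0 hx0Q
          exact ⟨k, by rw [hk]; exact C.one_mem⟩
        have hk0 : Nat.find hex ≠ 0 := by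
          intro h0
          have := Nat.find_spec hex
          rw [h0] at this
          exact hx0C (by simpa using this)
        obtain ⟨k, hk⟩ := Nat.exists_eq_succ_of_ne_zero hk0
        have h1 : x0 ^ 2 ^ k ∉ C := Nat.find_min hex (by omega)
        have h2 := Nat.find_spec hex
        rw [hk, Nat.succ_eq_add_one, pow_succ, pow_mul, pow_two] at h2
        exact h1 (hWC ⟨Q.pow_mem hx0Q _, h2⟩)
    intro w hw
    have : w ∈ W := by rw [hWQ]; exact hw
    exact this.2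
  exact ⟨hD, fun c hc hgc y hy => hCcent c ((hC c).mpr ⟨hc, hgc⟩) y hy,
    fun a ha b hb => ((hC _).mp (hcommC a ha b hb)).2, fun w hw => ((hC _).mp (hsq w hw)).2⟩

/-- An element of odd order normalizing a 2-subgroup and fixing all its elements with `x ^ 4 = 1`
centralizes it. -/
theorem centralizes_of_fix_order_four (g : G) (hg : Odd (orderOf g)) :
    ∀ (n : ℕ) (Q : Subgroup G), Nat.card Q = n → IsPGroup 2 Q → (∀ x ∈ Q, g * x * g⁻¹ ∈ Q) →
      (∀ x ∈ Q, x ^ 4 = 1 → g * x * g⁻¹ = x) → ∀ x ∈ Q, g * x * g⁻¹ = x := by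
  intro n
  induction n using Nat.strong_induction_on with
  | _ n ih =>
  intro Q hQn hQ hgQ hfix
  by_contra hcon
  push Not at hcon
  obtain ⟨x0, hx0Q, hx0⟩ := hcon
  have IH : ∀ R : Subgroup G, R ≤ Q → R ≠ Q → (∀ r ∈ R, g * r * g⁻¹ ∈ R) →
      ∀ r ∈ R, g * r * g⁻¹ = r := by
    intro R hRQ hne hgR
    exact ih (Nat.card R) (by
      rw [← hQn]; exact Cfsg.Agent.Lib.Helper30Coprime.card_lt_of_lt (lt_of_le_of_ne hRQ hne)) R rfl
      (hQ.to_le hRQ) hgR (fun x hx => hfix x (hRQ hx))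
  obtain ⟨hD, hcent, hcomm, hsq⟩ := minStructure g hg Q hQ hgQ x0 hx0Q hx0 IH
  have hpow4 : ∀ a ∈ Q, ∀ b ∈ Q, (a * b) ^ 4 = a ^ 4 * b ^ 4 := by
    intro a ha b hb
    have hcQ : b⁻¹ * a⁻¹ * b⁻¹⁻¹ * a⁻¹⁻¹ ∈ Q :=
      Q.mul_mem (Q.mul_mem (Q.mul_mem (Q.inv_mem hb) (Q.inv_mem ha)) (Q.inv_mem (Q.inv_mem hb)))
        (Q.inv_mem (Q.inv_mem ha))
    have hcfix := hcomm b⁻¹ (Q.inv_mem hb) a⁻¹ (Q.inv_mem ha)
    set c := b⁻¹ * a⁻¹ * b⁻¹⁻¹ * a⁻¹⁻¹ with hc
    have hba : b * a = a * b * c := by rw [hc]; group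
    have hca : Commute c a := (hcent c hcQ hcfix a ha).symm
    have hcb : Commute c b := (hcent c hcQ hcfix b hb).symm
    have h4 := Cfsg.Agent.Lib.Helper30Coprime.mul_pow_of_central hba hca hcb 4
    have hc2 : c ^ 2 = 1 := by
      have h5 := Cfsg.Agent.Lib.Helper30Coprime.pow_mul_comm_of_central hba hcb 2
      have hb2 : a * (b * b) = (b * b) * a := hcent (b * b) (Q.mul_mem hb hb) (hsq b hb) a ha
      rw [pow_two b, ← hb2] at h5
      have h6 : a * (b * b) * 1 = a * (b * b) * c ^ 2 := by rw [mul_one]; exact h5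
      exact (mul_left_cancel h6).symm
    have h6 : c ^ (Nat.choose 4 2) = 1 := by
      have : Nat.choose 4 2 = 2 * 3 := by decide
      rw [this, pow_mul, hc2, one_pow]
    rw [h4, h6, mul_one]
  let K4 : Subgroup G :=
    { carrier := {w | w ∈ Q ∧ w ^ 4 = 1}
      one_mem' := ⟨Q.one_mem, one_pow _⟩
      mul_mem' := by
        rintro a b ⟨ha, ha4⟩ ⟨hb, hb4⟩
        exact ⟨Q.mul_mem ha hb, by rw [hpow4 a ha b hb, ha4, hb4, one_mul]⟩
      inv_mem' := by
        rintro a ⟨ha, ha4⟩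
        exact ⟨Q.inv_mem ha, by rw [inv_pow, ha4, inv_one]⟩ }
  have hSK : Subgroup.closure {d | ∃ x ∈ Q, d = x⁻¹ * (g * x * g⁻¹)} ≤ K4 := by
    rw [Subgroup.closure_le]
    rintro _ ⟨w, hw, rfl⟩
    refine ⟨Q.mul_mem (Q.inv_mem hw) (hgQ w hw), ?_⟩
    rw [hpow4 _ (Q.inv_mem hw) _ (hgQ w hw), conj_pow]
    have h1 : g * w ^ 4 * g⁻¹ = w ^ 4 := by
      have e1 : w ^ 4 = (w * w) * (w * w) := by
        rw [show (4 : ℕ) = 2 + 2 from rfl, pow_add, pow_two]
      have e2 : g * ((w * w) * (w * w)) * g⁻¹ = (g * (w * w) * g⁻¹) * (g * (w * w) * g⁻¹) := by group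
      rw [e1, e2, hsq w hw]
    rw [h1, inv_pow, inv_mul_cancel]
  rw [hD] at hSK
  exact hx0 (hfix x0 hx0Q (hSK hx0Q).2)

/-- An element of odd order normalizing a 2-subgroup `F` and all its subgroups of index 2
centralizes `F`. -/
theorem centralizes_of_invariant_maximal (g : G) (hg : Odd (orderOf g)) (F : Subgroup G) (k : ℕ)
    (hF : Nat.card F = 2 ^ (k + 1)) (hgF : ∀ x ∈ F, g * x * g⁻¹ ∈ F)
    (hmax : ∀ M : Subgroup G, M ≤ F → Nat.card M = 2 ^ k → ∀ x ∈ M, g * x * g⁻¹ ∈ M) :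
    ∀ x ∈ F, g * x * g⁻¹ = x := by
  have : Fact (Nat.Prime 2) := ⟨Nat.prime_two⟩
  have hFp : IsPGroup 2 F := IsPGroup.of_card hF
  set A := Subgroup.zpowers g with hA
  set C : Subgroup G := F ⊓ Subgroup.centralizer (A : Set G) with hC
  by_cases hCF : C = F
  · intro x hx
    have hxC : x ∈ C := by rw [hCF]; exact hx
    have h1 := Subgroup.mem_centralizer_iff.mp hxC.2 g (Subgroup.mem_zpowers g)
    rw [h1]; group
  exfalso
  have hCle : C ≤ F := inf_le_left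
  have hClt : C < F := lt_of_le_of_ne hCle hCF
  obtain ⟨i, hi⟩ := IsPGroup.iff_card.mp (hFp.to_le hCle)
  have hik : i ≤ k := by
    have h1 := Cfsg.Agent.Lib.Helper30Coprime.card_lt_of_lt hClt
    rw [hi, hF] at h1
    have := (Nat.pow_lt_pow_iff_right (by norm_num : 1 < 2)).mp h1
    omega
  obtain ⟨M, hCM, hMF, hM⟩ := exists_between F C hCle hi hF hik (Nat.le_succ k)
  have hMne : ¬ F ≤ M := by
    intro h
    have := Subgroup.card_le_of_le h
    rw [hF, hM, pow_succ] at this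
    have h2 : 0 < 2 ^ k := by positivity
    omega
  obtain ⟨x, hxF, hxM⟩ := SetLike.not_le_iff_exists.mp hMne
  have hgM : g ∈ Subgroup.normalizer (M : Set G) := mem_normalizer_of_conj_mem M g (hmax M hMF hM)
  have hgFn : g ∈ Subgroup.normalizer (F : Set G) := mem_normalizer_of_conj_mem F g hgF
  have hAM : A ≤ Subgroup.normalizer (M : Set G) := by
    rw [hA, Subgroup.zpowers_le]; exact hgM
  have hAF : A ≤ Subgroup.normalizer (F : Set G) := by
    rw [hA, Subgroup.zpowers_le]; exact hgFn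
  have hcop : (Nat.card A).Coprime (Nat.card M) := by
    rw [hA, Nat.card_zpowers, hM]
    exact Nat.Coprime.pow_right _ (Nat.coprime_two_right.mpr hg)
  have hMsolv : Group.IsSolvable M := by
    have : Group.IsNilpotent M := (hFp.to_le hMF).isNilpotent
    infer_instance
  have hidx : (M.subgroupOf F).index = 2 := by
    have h1 : Nat.card M * M.relIndex F = Nat.card F := by
      have := Subgroup.relIndex_mul_relIndex ⊥ M F bot_le hMF
      rwa [Subgroup.relIndex_bot_left, Subgroup.relIndex_bot_left] at this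
    rw [hM, hF, pow_succ] at h1
    exact Nat.eq_of_mul_eq_mul_left (by positivity) h1
  have hcoset : ∀ a ∈ A, a * x * a⁻¹ * x⁻¹ ∈ M := by
    intro a ha
    have h1 : a * x * a⁻¹ ∈ F := (Subgroup.mem_normalizer_iff.mp (hAF ha) x).mp hxF
    have h2 : a * x * a⁻¹ ∉ M := fun h => hxM ((Subgroup.mem_normalizer_iff.mp (hAM ha) x).mpr h)
    have h3 := Subgroup.mul_mem_iff_of_index_two hidx (a := (⟨a * x * a⁻¹, h1⟩ : F))
      (b := (⟨x⁻¹, F.inv_mem hxF⟩ : F))
    have h4 : (⟨a * x * a⁻¹, h1⟩ : F) * (⟨x⁻¹, F.inv_mem hxF⟩ : F) ∈ M.subgroupOf F := by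
      rw [h3]
      simp only [Subgroup.mem_subgroupOf]
      constructor
      · intro h; exact absurd h h2
      · intro h; exact absurd (by simpa using M.inv_mem h) hxM
    exact h4
  obtain ⟨u, hu, hux⟩ := Cfsg.Agent.Lib.Helper1Coprime.exists_mul_mem_centralizer hAM hcop
    (Or.inr hMsolv) x hcoset
  have h5 : u * x ∈ C := ⟨F.mul_mem (hMF hu) hxF, hux⟩
  have h6 : u * x ∈ M := hCM h5
  apply hxM
  have : x = u⁻¹ * (u * x) := by group
  rw [this]
  exact M.mul_mem (M.inv_mem hu) h6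

end Cfsg.Agent.Lib.Helper67Odd2
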