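import Mathlib
import Cfsg.Agent.Lib.Helper11Frobenius
import Cfsg.Agent.Lib.Helper30Coprime
import Cfsg.Agent.Lib.Helper40Sylow
import Cfsg.Agent.Lib.Helper1Coprime
import Cfsg.Agent.Lib.Helper21Simple
import Cfsg.Agent.Lib.Helper29Basic
import Cfsg.Agent.Lib.Helper67Odd2
import Cfsg.Agent.Lib.Helper67PGroup
import Cfsg.Agent.S3803

set_option autoImplicit false
open scoped commutatorElement

namespace Cfsg.Agent.Lib.Helper67HSub

open Cfsg.Agent.Lib.Helper67Odd2

/-- A normal subgroup of order `p`, `p` the smallest prime divisor of the group order, is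
central. -/
theorem central_of_card_eq_min {Q : Type*} [Group Q] [Finite Q] {p : ℕ} [hp : Fact p.Prime]
    (hmin : ∀ q : ℕ, q.Prime → q ∣ Nat.card Q → p ≤ q) (Z : Subgroup Q) [hZ : Z.Normal]
    (hcard : Nat.card Z = p) : Subgroup.centralizer (Z : Set Q) = ⊤ := by
  have h1 := Cfsg.Agent.Lib.Helper21Simple.relIndex_dvd_card_mulAut Z
  have hcyc : IsCyclic Z := isCyclic_of_prime_card hcard
  rw [hcyc.card_mulAut, hcard, Nat.totient_prime hp.out, Subgroup.normalizer_eq_top,
    Subgroup.relIndex_top_right] at h1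
  rw [← Subgroup.index_eq_one]
  by_contra hne
  have hq := Nat.minFac_prime hne
  have hq1 : (Subgroup.centralizer (Z : Set Q)).index.minFac ∣ p - 1 :=
    (Nat.minFac_dvd _).trans h1
  have hq2 : (Subgroup.centralizer (Z : Set Q)).index.minFac ∣ Nat.card Q :=
    (Nat.minFac_dvd _).trans (Subgroup.index_dvd_card _)
  have h3 := hmin _ hq hq2
  have h4 := Nat.le_of_dvd (by have := hp.out.two_le; omega) hq1
  have := hp.out.two_le
  omega

/-- Normal version: `H/H₀` of order `p` (the smallest prime) is central in `Γ/H₀`. -/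
theorem comm_mem_of_normal {Γ : Type*} [Group Γ] [Finite Γ] {p : ℕ} [hp : Fact p.Prime]
    (hmin : ∀ q : ℕ, q.Prime → q ∣ Nat.card Γ → p ≤ q) (H H0 : Subgroup Γ) [hH : H.Normal]
    [hH0 : H0.Normal] (hidx : H0.relIndex H = p) (x : Γ) (a : Γ) (ha : a ∈ H) :
    a⁻¹ * (x * a * x⁻¹) ∈ H0 := by
  set Z : Subgroup (Γ ⧸ H0) := H.map (QuotientGroup.mk' H0) with hZ
  have hZn : Z.Normal := hH.map _ (QuotientGroup.mk'_surjective H0)
  have hcard : Nat.card Z = p := by
    rw [← hidx, hZ, ← Subgroup.relIndex_ker, QuotientGroup.ker_mk']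
  have hmin' : ∀ q : ℕ, q.Prime → q ∣ Nat.card (Γ ⧸ H0) → p ≤ q := by
    intro q hq hd
    apply hmin q hq
    exact hd.trans (Subgroup.index_dvd_card H0)
  have hc := central_of_card_eq_min hmin' Z hcard
  have hx : QuotientGroup.mk' H0 x ∈ Subgroup.centralizer (Z : Set (Γ ⧸ H0)) := by
    rw [hc]; trivial
  have h1 := Subgroup.mem_centralizer_iff.mp hx (QuotientGroup.mk' H0 a) ⟨a, ha, rfl⟩
  rw [← QuotientGroup.eq_one_iff]
  have h2 : ((a⁻¹ * (x * a * x⁻¹) : Γ) : Γ ⧸ H0) =
      (QuotientGroup.mk' H0 a)⁻¹ * (QuotientGroup.mk' H0 x * QuotientGroup.mk' H0 a *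
        (QuotientGroup.mk' H0 x)⁻¹) := by simp
  rw [h2, ← h1]
  group

variable {G : Type*} [Group G] [Finite G] {p : ℕ} [hp : Fact p.Prime]

/-- Trivial action on a section of order `p`, `p` the smallest prime divisor of `|G|`. -/
theorem comm_mem_of_relIndex (hmin : ∀ q : ℕ, q.Prime → q ∣ Nat.card G → p ≤ q)
    (H H0 : Subgroup G) (hle : H0 ≤ H) (hn : H ≤ Subgroup.normalizer (H0 : Set G))
    (hidx : H0.relIndex H = p) (x : G) (hxH : x ∈ Subgroup.normalizer (H : Set G))
    (hxH0 : x ∈ Subgroup.normalizer (H0 : Set G)) (a : G) (ha : a ∈ H) :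
    a⁻¹ * (x * a * x⁻¹) ∈ H0 := by
  set L : Subgroup G := Subgroup.normalizer (H : Set G) ⊓ Subgroup.normalizer (H0 : Set G) with hL
  have hHL : H ≤ L := le_inf Subgroup.le_normalizer hn
  have hH0L : H0 ≤ L := hle.trans hHL
  have n1 : (H.subgroupOf L).Normal :=
    (Subgroup.normal_subgroupOf_iff_le_normalizer hHL).mpr inf_le_left
  have n2 : (H0.subgroupOf L).Normal :=
    (Subgroup.normal_subgroupOf_iff_le_normalizer hH0L).mpr inf_le_right
  have hmin' : ∀ q : ℕ, q.Prime → q ∣ Nat.card L → p ≤ q := fun q hq hd =>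
    hmin q hq (hd.trans (Subgroup.card_subgroup_dvd_card L))
  have hidx' : (H0.subgroupOf L).relIndex (H.subgroupOf L) = p := by
    rw [Subgroup.relIndex_subgroupOf hHL, hidx]
  have := comm_mem_of_normal hmin' (H.subgroupOf L) (H0.subgroupOf L) hidx'
    (⟨x, hxH, hxH0⟩ : L) (⟨a, hHL ha⟩ : L) ha
  exact this

/-- In a `p`-group, a subgroup of index `p` is normal (relative version). -/
theorem le_normalizer_of_card_succ (F M : Subgroup G) (hMF : M ≤ F) (k : ℕ)
    (hF : Nat.card F = p ^ (k + 1)) (hM : Nat.card M = p ^ k) :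
    F ≤ Subgroup.normalizer (M : Set G) ∧ M.relIndex F = p := by
  have hidx : M.relIndex F = p := by
    have h1 := Cfsg.Agent.Lib.Helper67PGroup.card_mul_relIndex hMF
    rw [hM, hF, pow_succ] at h1
    exact Nat.eq_of_mul_eq_mul_left (pow_pos hp.out.pos k) h1
  refine ⟨?_, hidx⟩
  have hFp : IsPGroup p F := IsPGroup.of_card hF
  have := Cfsg.Agent.Lib.Helper67PGroup.normal_of_index_eq_p hFp (M.subgroupOf F) hidx
  exact (Subgroup.normal_subgroupOf_iff_le_normalizer hMF).mp this

/-- A `p'`-element normalizing a `p`-subgroup `F` and all its subgroups of index `p`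
centralizes `F` (`p` the smallest prime divisor of `|G|`). -/
theorem centralizes_of_invariant_maximal' (hmin : ∀ q : ℕ, q.Prime → q ∣ Nat.card G → p ≤ q)
    (g : G) (hg : (orderOf g).Coprime p) (F : Subgroup G) (k : ℕ)
    (hF : Nat.card F = p ^ (k + 1)) (hgF : ∀ x ∈ F, g * x * g⁻¹ ∈ F)
    (hmax : ∀ M : Subgroup G, M ≤ F → Nat.card M = p ^ k → ∀ x ∈ M, g * x * g⁻¹ ∈ M) :
    ∀ x ∈ F, g * x * g⁻¹ = x := by
  have hFp : IsPGroup p F := IsPGroup.of_card hF
  set A := Subgroup.zpowers g with hA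
  set C : Subgroup G := F ⊓ Subgroup.centralizer (A : Set G) with hC
  by_cases hCF : C = F
  · intro x hx
    have hxC : x ∈ C := by rw [hCF]; exact hx
    have h1 := Subgroup.mem_centralizer_iff.mp hxC.2 g (Subgroup.mem_zpowers g)
    rw [h1]; group
  exfalso
  have hCle : C ≤ F := inf_le_left
  have hClt : C < F := lt_of_le_of_ne hCle hCF
  obtain ⟨i, hi⟩ := IsPGroup.iff_card.mp (hFp.to_le hCle)
  have hik : i ≤ k := by
    have h1 := Cfsg.Agent.Lib.Helper30Coprime.card_lt_of_lt hClt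
    rw [hi, hF] at h1
    have := (Nat.pow_lt_pow_iff_right hp.out.one_lt).mp h1
    omega
  obtain ⟨M, hCM, hMF, hM⟩ := exists_between F C hCle hi hF hik (Nat.le_succ k)
  have hMne : ¬ F ≤ M := by
    intro h
    have := Subgroup.card_le_of_le h
    rw [hF, hM] at this
    have h2 := (Nat.pow_le_pow_iff_right hp.out.one_lt).mp this
    omega
  obtain ⟨x, hxF, hxM⟩ := SetLike.not_le_iff_exists.mp hMne
  have hgM : g ∈ Subgroup.normalizer (M : Set G) := mem_normalizer_of_conj_mem M g (hmax M hMF hM)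
  have hgFn : g ∈ Subgroup.normalizer (F : Set G) := mem_normalizer_of_conj_mem F g hgF
  have hAM : A ≤ Subgroup.normalizer (M : Set G) := by
    rw [hA, Subgroup.zpowers_le]; exact hgM
  have hAF : A ≤ Subgroup.normalizer (F : Set G) := by
    rw [hA, Subgroup.zpowers_le]; exact hgFn
  have hcop : (Nat.card A).Coprime (Nat.card M) := by
    rw [hA, Nat.card_zpowers, hM]
    exact Nat.Coprime.pow_right _ hg
  have hMsolv : Group.IsSolvable M := by
    have : Group.IsNilpotent M := (hFp.to_le hMF).isNilpotent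
    infer_instance
  obtain ⟨hFM, hidx⟩ := le_normalizer_of_card_succ F M hMF k hF hM
  have hcoset : ∀ a ∈ A, a * x * a⁻¹ * x⁻¹ ∈ M := by
    intro a ha
    have h1 := comm_mem_of_relIndex hmin F M hMF hFM hidx a (hAF ha) (hAM ha) x⁻¹ (F.inv_mem hxF)
    have h2 := M.inv_mem h1
    have e : (x⁻¹⁻¹ * (a * x⁻¹ * a⁻¹))⁻¹ = a * x * a⁻¹ * x⁻¹ := by group
    rwa [e] at h2
  obtain ⟨u, hu, hux⟩ := Cfsg.Agent.Lib.Helper1Coprime.exists_mul_mem_centralizer hAM hcop
    (Or.inr hMsolv) x hcoset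
  have h5 : u * x ∈ C := ⟨F.mul_mem (hMF hu) hxF, hux⟩
  have h6 : u * x ∈ M := hCM h5
  apply hxM
  have : x = u⁻¹ * (u * x) := by group
  rw [this]
  exact M.mul_mem (M.inv_mem hu) h6

theorem fix_of_order_le' (hmin : ∀ q : ℕ, q.Prime → q ∣ Nat.card G → p ≤ q)
    (g : G) (hg : (orderOf g).Coprime p)
    (P : Subgroup G) (n e : ℕ) (hPn : Nat.card P = p ^ n) (hen : e < n)
    (hinv : ∀ E : Subgroup G, E ≤ P → Nat.card E = p ^ e → ∀ x ∈ E, g * x * g⁻¹ ∈ E) :
    ∀ x ∈ P, x ^ p ^ e = 1 → g * x * g⁻¹ = x := by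
  intro x hxP hx
  obtain ⟨i, hie, hi⟩ := (Nat.dvd_prime_pow hp.out).mp (orderOf_dvd_of_pow_eq_one hx)
  have hHP : Subgroup.zpowers x ≤ P := by rw [Subgroup.zpowers_le]; exact hxP
  have hH : Nat.card (Subgroup.zpowers x) = p ^ i := by rw [Nat.card_zpowers, hi]
  obtain ⟨E, hHE, hEP, hE⟩ := exists_between P _ hHP hH hPn hie hen.le
  obtain ⟨F, hEF, hFP, hF⟩ := exists_between P E hEP hE hPn (Nat.le_succ e) hen
  have hxE : x ∈ E := hHE (Subgroup.mem_zpowers x)
  by_cases hcyc : IsCyclic F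
  · rcases Nat.eq_zero_or_pos e with rfl | hepos
    · have : x = 1 := by simpa using hx
      rw [this]; group
    · obtain ⟨e', rfl⟩ := Nat.exists_eq_succ_of_ne_zero hepos.ne'
      refine centralizes_of_invariant_maximal' hmin g hg E e' hE (hinv E hEP hE) ?_ x hxE
      intro M hME hM y hy
      have h1 : M.map (MulAut.conj g).toMonoidHom ≤ F := by
        rintro _ ⟨z, hz, rfl⟩
        exact hEF (hinv E hEP hE z (hME hz))
      have h2 : Nat.card (M.map (MulAut.conj g).toMonoidHom) = Nat.card M :=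
        Subgroup.card_map_of_injective (MulAut.conj g).injective
      have h3 := Cfsg.Agent.Lib.Helper29Basic.eq_of_card_eq_of_le_cyclic hcyc h1 (hME.trans hEF) h2
      rw [← h3]
      exact ⟨y, hy, rfl⟩
  · have hFp : IsPGroup p F := IsPGroup.of_card hF
    have hgF : ∀ y ∈ F, g * y * g⁻¹ ∈ F := by
      intro y hy
      have hyF : Subgroup.zpowers y ≤ F := by rw [Subgroup.zpowers_le]; exact hy
      obtain ⟨j, hj⟩ := IsPGroup.iff_card.mp (hFp.to_le hyF)
      have hje : j ≤ e := by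
        by_contra hlt
        push Not at hlt
        have h1 : Nat.card F ≤ Nat.card (Subgroup.zpowers y) := by
          rw [hF, hj]; exact Nat.pow_le_pow_right hp.out.pos hlt
        have h2 : Subgroup.zpowers y = F := Subgroup.eq_of_le_of_card_ge hyF h1
        apply hcyc
        rw [← h2]
        infer_instance
      obtain ⟨M, hyM, hMF, hM⟩ := exists_between F _ hyF hj hF hje (Nat.le_succ e)
      exact hMF (hinv M (hMF.trans hFP) hM y (hyM (Subgroup.mem_zpowers y)))
    exact centralizes_of_invariant_maximal' hmin g hg F e hF hgF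
      (fun M hMF hM => hinv M (hMF.trans hFP) hM) x (hEF hxE)

/-- A `p'`-element normalizing a `p`-subgroup `H` and all its subgroups of a fixed order `p ^ d`,
`1 ≤ d`, `p ^ d < |H|` (and of order `4` if `p ^ d = 2`) centralizes `H`. -/
theorem centralizes_of_invariant_order (hmin : ∀ q : ℕ, q.Prime → q ∣ Nat.card G → p ≤ q)
    (g : G) (hg : (orderOf g).Coprime p) (H : Subgroup G) (h d : ℕ) (hH : Nat.card H = p ^ h)
    (hd1 : 1 ≤ d) (hdh : d < h) (hgH : ∀ x ∈ H, g * x * g⁻¹ ∈ H)
    (hinv : ∀ E : Subgroup G, E ≤ H → (Nat.card E = p ^ d ∨ (p ^ d = 2 ∧ Nat.card E = 4)) →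
      ∀ x ∈ E, g * x * g⁻¹ ∈ E) :
    ∀ x ∈ H, g * x * g⁻¹ = x := by
  have hHp : IsPGroup p H := IsPGroup.of_card hH
  have hgn : Subgroup.zpowers g ≤ Subgroup.normalizer (H : Set G) := by
    rw [Subgroup.zpowers_le]; exact mem_normalizer_of_conj_mem H g hgH
  obtain rfl | hp2 := eq_or_ne p 2
  · obtain ⟨D, -, hDH, hD⟩ := exists_between (p := 2) H ⊥ bot_le (i := 0) (by simp) hH
      (Nat.zero_le d) hdh.le
    have hodd : Odd (Nat.card (Subgroup.zpowers g)) := by
      rw [Nat.card_zpowers]; exact Nat.coprime_two_right.mp hg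
    have h1 := Cfsg.Agent.S3803.result H (Subgroup.zpowers g) D hHp hodd hgn hDH
      (by rw [hD]; exact Nat.one_lt_pow (by omega) (by norm_num))
      (by rw [hD, hH]; exact Nat.pow_lt_pow_right (by norm_num) hdh)
      (by
        intro E hEH hE
        rw [Subgroup.zpowers_le]
        apply mem_normalizer_of_conj_mem
        apply hinv E hEH
        rw [hD] at hE
        exact hE)
    exact Cfsg.Agent.Lib.Helper30Coprime.le_centralizer_iff_conj.mp h1 g (Subgroup.mem_zpowers g)
  · have hcop : (Nat.card (Subgroup.zpowers g)).Coprime p := by rw [Nat.card_zpowers]; exact hg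
    refine Cfsg.Agent.Lib.Helper30Coprime.centralizes_of_fix_order_p p hp2 (Subgroup.zpowers g) hcop
      H hHp hgn ?_ g (Subgroup.mem_zpowers g)
    intro a ha x hx hxp
    have h1 : g * x * g⁻¹ = x := by
      apply fix_of_order_le' hmin g hg H h d hH hdh (fun E hE hc => hinv E hE (Or.inl hc)) x hx
      obtain ⟨k, rfl⟩ := Nat.exists_eq_add_of_le hd1
      rw [pow_add, pow_one, pow_mul, hxp, one_pow]
    have h2 : Subgroup.zpowers g ≤ Subgroup.centralizer {x} := by
      rw [Subgroup.zpowers_le, Subgroup.mem_centralizer_singleton_iff]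
      calc g * x = (g * x * g⁻¹) * g := by group
        _ = x * g := by rw [h1]
    have h3 := Subgroup.mem_centralizer_singleton_iff.mp (h2 ha)
    rw [h3]; group

/-- If the `p'`-elements of `N(D)` centralize `D` then `N(D) = S C(D)` for `S` of `p'`-index in
`N(D)`. -/
theorem normalizer_eq_mul_local (D S : Subgroup G)
    (hloc : ∀ g ∈ Subgroup.normalizer (D : Set G), (orderOf g).Coprime p →
      g ∈ Subgroup.centralizer (D : Set G))
    (hS : ¬ p ∣ S.relIndex (Subgroup.normalizer (D : Set G))) :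
    ∀ n ∈ Subgroup.normalizer (D : Set G), ∃ s ∈ S, ∃ c ∈ Subgroup.centralizer (D : Set G),
      n = s * c := by
  set N := Subgroup.normalizer (D : Set G) with hN
  set C' := (Subgroup.centralizer (D : Set G)).subgroupOf N with hC'
  have hCn : C'.Normal := by
    rw [hC', hN, ← Subgroup.normalizerMonoidHom_ker]
    infer_instance
  have hpq : IsPGroup p (N ⧸ C') := by
    intro q
    obtain ⟨n, rfl⟩ := QuotientGroup.mk_surjective q
    obtain ⟨k, m, hm, hkm⟩ := Nat.exists_eq_pow_mul_and_not_dvd (orderOf_pos n).ne' p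
      hp.out.ne_one
    refine ⟨k, ?_⟩
    rw [← QuotientGroup.mk_pow, QuotientGroup.eq_one_iff]
    have h1 : orderOf (n ^ p ^ k) = m := by
      rw [orderOf_pow_of_dvd (pow_ne_zero _ hp.out.ne_zero) ⟨m, hkm⟩, hkm]
      exact Nat.mul_div_cancel_left _ (pow_pos hp.out.pos _)
    have h2 : orderOf ((n ^ p ^ k : N) : G) = m := by rw [Subgroup.orderOf_coe, h1]
    apply hloc _ (n ^ p ^ k : N).2
    rw [h2]
    exact ((Nat.Prime.coprime_iff_not_dvd hp.out).mpr hm).symm
  obtain ⟨k, hk⟩ := IsPGroup.iff_card.mp hpq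
  have h2 : (S.subgroupOf N ⊔ C').index = 1 := by
    have ha : (S.subgroupOf N ⊔ C').index ∣ (S.subgroupOf N).index :=
      Subgroup.index_dvd_of_le le_sup_left
    have hb : (S.subgroupOf N ⊔ C').index ∣ p ^ k := by
      rw [← hk, ← Subgroup.index_eq_card]
      exact Subgroup.index_dvd_of_le le_sup_right
    obtain ⟨j, -, hj⟩ := (Nat.dvd_prime_pow hp.out).mp hb
    rcases Nat.eq_zero_or_pos j with rfl | hjpos
    · simpa using hj
    · exfalso
      apply hS
      refine dvd_trans ?_ ha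
      rw [hj]
      exact dvd_pow_self p hjpos.ne'
  rw [Subgroup.index_eq_one] at h2
  intro n hn
  have h3 : (⟨n, hn⟩ : N) ∈ ((S.subgroupOf N ⊔ C' : Subgroup N) : Set N) := by
    rw [h2]; trivial
  rw [Subgroup.mul_normal] at h3
  obtain ⟨s, hs, c, hc, hsc⟩ := h3
  refine ⟨s, hs, c, hc, ?_⟩
  have := congrArg Subtype.val hsc
  simpa using this.symm

/-- `E` is an `ℋ`-subgroup: `E^g ∩ N_G(E) ≤ E` for all `g`. -/
def IsH (E : Subgroup G) : Prop :=
  ∀ g : G, E.map (MulAut.conj g).toMonoidHom ⊓ Subgroup.normalizer (E : Set G) ≤ E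

theorem IsH.le_normalizer {E : Subgroup G} (hE : IsH E) (P : Subgroup G) (hP : IsPGroup p P)
    (hEP : E ≤ P) : P ≤ Subgroup.normalizer (E : Set G) := by
  by_contra hcon
  set R := P ⊓ Subgroup.normalizer (E : Set G) with hR
  have hRP : R < P := lt_of_le_of_ne inf_le_left (fun h => hcon (h ▸ inf_le_right))
  have hlt := Cfsg.Agent.Lib.Helper11Frobenius.exists_mem_normalizer_not_mem P R hP hRP
  obtain ⟨u, hu, huR⟩ := SetLike.exists_of_lt hlt
  have hER : E ≤ R := le_inf hEP Subgroup.le_normalizer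
  apply huR
  refine ⟨hu.1, ?_⟩
  apply mem_normalizer_of_conj_mem
  intro e he
  have h1 : u * e * u⁻¹ ∈ R := (Subgroup.mem_normalizer_iff.mp hu.2 e).mp (hER he)
  exact hE u ⟨⟨e, he, rfl⟩, h1.2⟩

omit [Finite G] in
theorem IsH.strongly_closed {E : Subgroup G} (hE : IsH E) (P : Subgroup G)
    (hPE : P ≤ Subgroup.normalizer (E : Set G)) (x : G) (hx : x ∈ E) (g : G)
    (hg : g * x * g⁻¹ ∈ P) : g * x * g⁻¹ ∈ E :=
  hE g ⟨⟨x, hx, rfl⟩, hPE hg⟩

/-- The key local statement: `N_G(H)` acts trivially on `H M / M` for every maximal subgroup `M`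
of `P`. -/
theorem comm_mem_maximal (hmin : ∀ q : ℕ, q.Prime → q ∣ Nat.card G → p ≤ q) (P : Subgroup G)
    (m d : ℕ) (hPc : Nat.card P = p ^ (m + 1)) (hd1 : 1 ≤ d) (hdm : d ≤ m)
    (hH : ∀ E : Subgroup G, E ≤ P → (Nat.card E = p ^ d ∨ (p ^ d = 2 ∧ Nat.card E = 4)) → IsH E)
    (H : Subgroup G) (hHP : H ≤ P)
    (htame : ¬ p ∣ (P ⊓ Subgroup.normalizer (H : Set G)).relIndex
      (Subgroup.normalizer (H : Set G)))
    (x : G) (hx : x ∈ Subgroup.normalizer (H : Set G)) (a : G) (ha : a ∈ H)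
    (M : Subgroup G) (hMP : M ≤ P) (hM : Nat.card M = p ^ m) :
    a⁻¹ * (x * a * x⁻¹) ∈ M := by
  have hPp : IsPGroup p P := IsPGroup.of_card hPc
  obtain ⟨hPM, hidxM⟩ := le_normalizer_of_card_succ P M hMP m hPc hM
  obtain ⟨h, hh⟩ := IsPGroup.iff_card.mp (hPp.to_le hHP)
  have hsc : ∀ E : Subgroup G, E ≤ P → (Nat.card E = p ^ d ∨ (p ^ d = 2 ∧ Nat.card E = 4)) →
      ∀ y ∈ E, ∀ g : G, g * y * g⁻¹ ∈ P → g * y * g⁻¹ ∈ E := fun E hEP hE y hy g hg =>
    (hH E hEP hE).strongly_closed P ((hH E hEP hE).le_normalizer P hPp hEP) y hy g hg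
  have hxa : x * a * x⁻¹ ∈ H := (Subgroup.mem_normalizer_iff.mp hx a).mp ha
  by_cases hdh : d < h
  · have hloc : ∀ g ∈ Subgroup.normalizer (H : Set G), (orderOf g).Coprime p →
        g ∈ Subgroup.centralizer (H : Set G) := by
      intro g hg hgp
      have h1 := centralizes_of_invariant_order hmin g hgp H h d hh hd1 hdh
        (fun y hy => (Subgroup.mem_normalizer_iff.mp hg y).mp hy)
        (fun E hEH hE y hy => hsc E (hEH.trans hHP) hE y hy g
          (hHP ((Subgroup.mem_normalizer_iff.mp hg y).mp (hEH hy))))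
      rw [Subgroup.mem_centralizer_iff]
      intro y hy
      have := h1 y hy
      calc y * g = (g * y * g⁻¹) * g := by rw [this]
        _ = g * y := by group
    obtain ⟨s, hs, c, hc, rfl⟩ := normalizer_eq_mul_local H _ hloc htame x hx
    have hca : c * a * c⁻¹ = a := by
      have := Subgroup.mem_centralizer_iff.mp hc a ha
      rw [← this]; group
    have e : s * c * a * (s * c)⁻¹ = s * a * s⁻¹ := by
      calc s * c * a * (s * c)⁻¹ = s * (c * a * c⁻¹) * s⁻¹ := by group
        _ = s * a * s⁻¹ := by rw [hca]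
    rw [e]
    exact comm_mem_of_relIndex hmin P M hMP hPM hidxM s (Subgroup.le_normalizer hs.1) (hPM hs.1) a
      (hHP ha)
  · push Not at hdh
    by_cases hHM : H ≤ M
    · exact M.mul_mem (M.inv_mem (hHM ha)) (hHM hxa)
    · set H0 := H ⊓ M with hH0
      have hidx : H0.relIndex H = p := by
        rw [hH0, Subgroup.inf_relIndex_left]
        have h1 : M.relIndex H ∣ p ^ h := by
          rw [← hh]; exact Subgroup.relIndex_dvd_card M H
        obtain ⟨j, -, hj⟩ := (Nat.dvd_prime_pow hp.out).mp h1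
        have h2 : M.relIndex H ≠ 1 := fun h => hHM (Subgroup.relIndex_eq_one.mp h)
        have h3 : M.relIndex H ≤ M.relIndex P := by
          apply Subgroup.relIndex_le_of_le_right hHP
          rw [hidxM]; exact hp.out.ne_zero
        rw [hidxM, hj] at h3
        rw [hj] at h2 ⊢
        rcases Nat.lt_or_ge 1 j with h4 | h4
        · exfalso
          have := Nat.pow_lt_pow_right hp.out.one_lt h4
          rw [pow_one] at this
          omega
        · interval_cases j
          · simp at h2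
          · simp
      obtain ⟨i, hi⟩ := IsPGroup.iff_card.mp (hPp.to_le ((inf_le_left : H0 ≤ H).trans hHP))
      have hid : i ≤ d := by
        have h1 := Subgroup.card_le_of_le (inf_le_left : H0 ≤ H)
        rw [hi, hh] at h1
        exact ((Nat.pow_le_pow_iff_right hp.out.one_lt).mp h1).trans hdh
      obtain ⟨E, hH0E, hEM, hE⟩ := exists_between M H0 inf_le_right hi hM hid hdm
      have hx0 : x ∈ Subgroup.normalizer (H0 : Set G) := by
        apply mem_normalizer_of_conj_mem
        intro b hb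
        have hbH : x * b * x⁻¹ ∈ H := (Subgroup.mem_normalizer_iff.mp hx b).mp hb.1
        exact ⟨hbH, hEM (hsc E (hEM.trans hMP) (Or.inl hE) b (hH0E hb) x (hHP hbH))⟩
      have hn0 : H ≤ Subgroup.normalizer (H0 : Set G) := by
        intro y hy
        apply mem_normalizer_of_conj_mem
        intro b hb
        exact ⟨H.mul_mem (H.mul_mem hy hb.1) (H.inv_mem hy),
          (Subgroup.mem_normalizer_iff.mp (hPM (hHP hy)) b).mp hb.2⟩
      exact (comm_mem_of_relIndex hmin H H0 inf_le_left hn0 hidx x hx hx0 a ha).2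

end Cfsg.Agent.Lib.Helper67HSub
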