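import Mathlib
import Cfsg.Agent.Lib.Helper67HSub
import Cfsg.Agent.Lib.Helper2Tate
import Cfsg.Agent.Lib.Helper3PGroup
import Cfsg.Agent.S4250

set_option autoImplicit false
open scoped commutatorElement

namespace Cfsg.Agent.Lib.Helper67HSub

variable {G : Type*} [Group G] [Finite G] {p : ℕ} [hp : Fact p.Prime]

/-- If the focal subgroup lies in the Frattini subgroup then `G` is `p`-nilpotent (Tate). -/
theorem hasNPC_of_focal_le_frattini (P : Sylow p G)
    (h : (P : Subgroup G) ⊓ commutator G ≤ (frattini P).map (P : Subgroup G).subtype) :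
    Cfsg.HasNormalPComplement p G := by
  have hKn : (Cfsg.pResidual p G).Normal := Cfsg.Agent.Lib.Helper2Residual.pResidual_normal p
  have hKker : Cfsg.pResidual p G ≤ (P : Subgroup G).transferFocal.ker := by
    unfold Cfsg.pResidual
    rw [Subgroup.closure_le]
    intro g hg
    have hg' : (orderOf g).Coprime p := hg
    rw [SetLike.mem_coe, MonoidHom.mem_ker]
    have hQ : IsPGroup p ((P : Subgroup G) ⧸ (P : Subgroup G).focalSubgroupOf) :=
      P.2.to_quotient _
    obtain ⟨k, hk⟩ := hQ ((P : Subgroup G).transferFocal g)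
    have h1 : orderOf ((P : Subgroup G).transferFocal g) ∣ p ^ k := orderOf_dvd_of_pow_eq_one hk
    have h2 : orderOf ((P : Subgroup G).transferFocal g) ∣ orderOf g := orderOf_map_dvd _ g
    have h3 : orderOf ((P : Subgroup G).transferFocal g) = 1 :=
      Nat.eq_one_of_dvd_coprimes (Nat.Coprime.pow_right k hg') h2 h1
    exact orderOf_eq_one_iff.mp h3
  have h1 : (P : Subgroup G) ⊓ Cfsg.pResidual p G ≤
      (frattini P).map (P : Subgroup G).subtype := by
    refine le_trans ?_ h
    have h2 : (P : Subgroup G) ⊓ Cfsg.pResidual p G ≤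
        (P : Subgroup G).transferFocal.ker ⊓ (P : Subgroup G) :=
      le_inf (inf_le_right.trans hKker) inf_le_left
    rw [Subgroup.ker_transferFocal_inf_eq_focalSubgroup,
      ← Subgroup.commutator_inf_eq_focalSubgroup, inf_comm (commutator G)] at h2
    exact h2
  have hgen : Cfsg.pResidual p G ≤
      Subgroup.closure {g : G | g ∈ Cfsg.pResidual p G ∧ (orderOf g).Coprime p} := by
    conv_lhs => unfold Cfsg.pResidual
    apply Subgroup.closure_mono
    intro g hg
    exact ⟨Subgroup.subset_closure hg, hg⟩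
  have h2 := Cfsg.Agent.Lib.Helper2Tate.tate_frattini P _ hgen h1
  exact Cfsg.Agent.Lib.Helper2Tate.hasNormalPComplement_of_coprime_pResidual
    (Cfsg.Agent.Lib.Helper2Tate.coprime_card_of_sylow_inf_eq_bot P _ h2)

/-- An element of `P` lying in all subgroups of index `p` lies in the Frattini subgroup. -/
theorem mem_frattini_map (P : Subgroup G) (m : ℕ) (hPc : Nat.card P = p ^ (m + 1)) (y : G)
    (hy : y ∈ P) (hall : ∀ M : Subgroup G, M ≤ P → Nat.card M = p ^ m → y ∈ M) :
    y ∈ (frattini P).map P.subtype := by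
  have hPp : IsPGroup p P := IsPGroup.of_card hPc
  refine ⟨⟨y, hy⟩, ?_, rfl⟩
  rw [SetLike.mem_coe, Cfsg.Agent.Lib.Helper3PGroup.mem_frattini_iff]
  intro M hM
  have hidx := Cfsg.Agent.Lib.Helper3PGroup.coatom_index hPp hM
  have hc : Nat.card (M.map P.subtype) = p ^ m := by
    rw [Subgroup.card_map_of_injective P.subtype_injective]
    have h1 := M.card_mul_index
    rw [hidx, hPc, pow_succ] at h1
    exact Nat.eq_of_mul_eq_mul_right hp.out.pos h1
  obtain ⟨z, hz, hzy⟩ := hall _ (Subgroup.map_subtype_le M) hc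
  have : z = ⟨y, hy⟩ := Subtype.ext hzy
  rw [← this]; exact hz

/-- `p`-nilpotency from `ℋ`-subgroups of a fixed order. -/
theorem hasNPC_of_isH (hmin : ∀ q : ℕ, q.Prime → q ∣ Nat.card G → p ≤ q) (P : Sylow p G)
    (m d : ℕ) (hPc : Nat.card (P : Subgroup G) = p ^ (m + 1)) (hd1 : 1 ≤ d) (hdm : d ≤ m)
    (hH : ∀ E : Subgroup G, E ≤ (P : Subgroup G) →
      (Nat.card E = p ^ d ∨ (p ^ d = 2 ∧ Nat.card E = 4)) → IsH E) :
    Cfsg.HasNormalPComplement p G := by
  apply hasNPC_of_focal_le_frattini P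
  have hkey : ∀ H : Subgroup G, H ≤ (P : Subgroup G) →
      ¬ p ∣ ((P : Subgroup G) ⊓ Subgroup.normalizer (H : Set G)).relIndex
        (Subgroup.normalizer (H : Set G)) →
      ∀ x ∈ Subgroup.normalizer (H : Set G), ∀ a ∈ H,
        ⁅a, x⁆ ∈ (frattini P).map (P : Subgroup G).subtype := by
    intro H hHP htame x hx a ha
    have e : ⁅a, x⁆ = a⁻¹⁻¹ * (x * a⁻¹ * x⁻¹) := by rw [commutatorElement_def]; group
    rw [e]
    apply mem_frattini_map (P : Subgroup G) m hPc
    · exact Subgroup.mul_mem _ (by simpa using hHP ha)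
        (hHP ((Subgroup.mem_normalizer_iff.mp hx a⁻¹).mp (H.inv_mem ha)))
    · intro M hMP hM
      exact comm_mem_maximal hmin (P : Subgroup G) m d hPc hd1 hdm hH H hHP htame x hx a⁻¹
        (H.inv_mem ha) M hMP hM
  rw [Cfsg.Agent.S4250.result p P]
  refine sup_le ?_ (iSup_le fun Q => iSup_le fun hQ => iSup_le fun x => iSup_le fun hx => ?_)
  · rw [Subgroup.commutator_le]
    intro a ha b hb
    refine hkey (P : Subgroup G) le_rfl ?_ b hb a ha
    rw [inf_of_le_left Subgroup.le_normalizer]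
    intro hdvd
    exact P.not_dvd_index (hdvd.trans (Subgroup.relIndex_dvd_index_of_le Subgroup.le_normalizer))
  · rw [Subgroup.commutator_le]
    intro a ha b hb
    exact hkey _ inf_le_left hQ.1 b ((Subgroup.zpowers_le.mpr hx.1) hb) a ha

end Cfsg.Agent.Lib.Helper67HSub
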