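import Mathlib
import Cfsg.Agent.Lib.Helper56Super2
import Cfsg.Agent.Lib.Helper56Basic
import Cfsg.Agent.Lib.Helper56Core
import Cfsg.Agent.S3031

set_option autoImplicit false

namespace Cfsg.Agent.Lib.Helper56Super3

open Cfsg.Agent.Lib.Helper11Supersolvable Cfsg.Agent.Lib.Helper56Super Cfsg.Agent.Lib.Helper56Super2
open Cfsg.Agent.Lib.Helper67HSub Cfsg.Agent.Lib.Helper56Basic Cfsg.Agent.Lib.Helper56Core
open scoped commutatorElement

universe u

theorem isH_normalizer {G : Type*} [Group G] [Finite G] {p : ℕ} [Fact p.Prime] {F P : Subgroup G}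
    (hF : IsH F) (hP : IsPGroup p P) (hFP : F ≤ P) :
    Subgroup.normalizer (P : Set G) ≤ Subgroup.normalizer (F : Set G) := by
  intro g hg
  apply mem_normalizer_of_cj_le
  have h1 : F.map (MulAut.conj g).toMonoidHom ≤ P := by
    have := cj_mono (g := g) hFP
    rwa [mem_normalizer_iff_cj.1 hg] at this
  exact (le_inf le_rfl (h1.trans (hF.le_normalizer P hP hFP))).trans (hF g)

theorem sup_map_normal {G : Type*} [Group G] (K N : Subgroup G) [hK : K.Normal] (hNK : N ⊔ K = ⊤)
    (A : Subgroup N) (hA : A.Normal) : (K ⊔ A.map N.subtype).Normal := by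
  rw [← Subgroup.normalizer_eq_top_iff, eq_top_iff, ← hNK]
  apply sup_le
  · intro g hg
    rw [mem_normalizer_iff_cj, Subgroup.map_sup]
    congr 1
    · rw [← mem_normalizer_iff_cj, Subgroup.normalizer_eq_top_iff.2 hK]; exact Subgroup.mem_top g
    · apply le_antisymm
      · rintro _ ⟨_, ⟨a, ha, rfl⟩, rfl⟩
        exact ⟨⟨g, hg⟩ * a * ⟨g, hg⟩⁻¹, hA.conj_mem a ha ⟨g, hg⟩, rfl⟩
      · rintro _ ⟨a, ha, rfl⟩
        refine ⟨g⁻¹ * a * g, ⟨⟨g, hg⟩⁻¹ * a * ⟨g, hg⟩, ?_, rfl⟩, ?_⟩
        · have := hA.conj_mem a ha ⟨g, hg⟩⁻¹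
          rwa [inv_inv] at this
        · simp [MulAut.conj_apply, mul_assoc]
  · exact le_sup_left.trans Subgroup.le_normalizer

/-- the extension step -/
theorem chain_sup {G : Type u} [Group G] [Finite G] {p : ℕ} [Fact p.Prime] (K P : Subgroup G)
    [hK : K.Normal] (hKc : Chain K) (hNK : Subgroup.normalizer (P : Set G) ⊔ K = ⊤)
    (n d : ℕ) (hPc : Nat.card P = p ^ n) (hd1 : 1 ≤ d) (hdn : d < n)
    (hH : ∀ F : Subgroup G, F ≤ P → (Nat.card F = p ^ d ∨ (p ^ d = 2 ∧ Nat.card F = 4)) → IsH F) :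
    Chain (K ⊔ P) := by
  have hPp : IsPGroup p P := IsPGroup.of_card hPc
  set N := Subgroup.normalizer (P : Set G) with hN
  have hPN : P ≤ N := Subgroup.le_normalizer
  have hPn : (P.subgroupOf N).Normal := Subgroup.normal_in_normalizer
  have hcard : Nat.card (P.subgroupOf N) = p ^ n := by
    rw [← hPc]
    exact Nat.card_congr (Subgroup.subgroupOfEquivOfLe hPN).toEquiv
  have hch : Chain (P.subgroupOf N) := by
    refine chain_of_normal_order (P.subgroupOf N) n d hcard hd1 hdn ?_
    intro F hF hc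
    have h1 : F.map N.subtype ≤ P := by
      rintro _ ⟨x, hx, rfl⟩
      exact hF hx
    have h2 : Nat.card (F.map N.subtype) = Nat.card F :=
      Subgroup.card_map_of_injective N.subtype_injective
    have h3 : IsH (F.map N.subtype) := hH _ h1 (by rw [h2]; exact hc)
    have h4 : N ≤ Subgroup.normalizer ((F.map N.subtype : Subgroup G) : Set G) :=
      isH_normalizer h3 hPp h1
    have h5 : (F.map N.subtype).subgroupOf N = F :=
      Subgroup.comap_map_eq_self_of_injective N.subtype_injective F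
    rw [← h5]
    exact (Subgroup.normal_subgroupOf_iff_le_normalizer (h1.trans hPN)).2 h4
  have := chain_sup_map N.subtype K hKc (fun A hA => sup_map_normal K N hNK A hA) hch
  rwa [Subgroup.map_subgroupOf_eq_of_le hPN] at this

/-- a normal `p`-complement of a normal subgroup is normal -/
theorem complement_normal {G : Type*} [Group G] [Finite G] {p : ℕ} [Fact p.Prime] (E : Subgroup G)
    [hE : E.Normal] (P₁ : Sylow p E) (K₀ : Subgroup E) [hK₀ : K₀.Normal]
    (hc : K₀.IsComplement' (P₁ : Subgroup E)) :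
    (K₀.map E.subtype).Normal ∧ (Nat.card (K₀.map E.subtype)).Coprime p := by
  have hp : p.Prime := Fact.out
  have hcop : (Nat.card K₀).Coprime p := by
    rw [← hc.index_eq_card]
    exact ((Nat.Prime.coprime_iff_not_dvd hp).2 P₁.not_dvd_index).symm
  refine ⟨?_, by rw [Subgroup.card_map_of_injective E.subtype_injective]; exact hcop⟩
  constructor
  rintro _ ⟨k, hk, rfl⟩ g
  have hy : g * (k : G) * g⁻¹ ∈ E := hE.conj_mem _ k.2 g
  refine ⟨⟨g * (k : G) * g⁻¹, hy⟩, ?_, rfl⟩
  set y : E := ⟨g * (k : G) * g⁻¹, hy⟩ with hydef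
  show y ∈ K₀
  rw [← QuotientGroup.eq_one_iff, ← orderOf_eq_one_iff]
  obtain ⟨m, hm⟩ := IsPGroup.iff_card.1 P₁.2
  have h1 : orderOf (y : E ⧸ K₀) ∣ p ^ m := by
    have h2 : Nat.card (E ⧸ K₀) = p ^ m := by
      rw [← hm, ← hc.symm.index_eq_card]; rfl
    rw [← h2]
    exact orderOf_dvd_natCard _
  have h2 : orderOf (y : E ⧸ K₀) ∣ Nat.card K₀ := by
    have h3 : orderOf (y : E ⧸ K₀) ∣ orderOf y := orderOf_map_dvd (QuotientGroup.mk' K₀) y
    have h4 : orderOf y = orderOf k := by
      rw [← Subgroup.orderOf_coe y, ← Subgroup.orderOf_coe k]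
      exact (MulAut.conj g).orderOf_eq (k : G)
    rw [h4] at h3
    exact h3.trans (Subgroup.orderOf_dvd_natCard _ hk)
  exact Nat.eq_one_of_dvd_coprimes (Nat.Coprime.pow_right m hcop).symm h1 h2

/-- the Sylow hypothesis of the theorem -/
def SylHyp {G : Type*} [Group G] (E : Subgroup G) : Prop :=
  ∀ (p : ℕ), p.Prime → ∀ P : Subgroup G, P ≤ E → IsPGroup p P → ¬ p ∣ P.relIndex E → ¬ IsCyclic ↥P →
      ∃ D : Subgroup G, D ≤ P ∧ 1 < Nat.card D ∧ Nat.card D < Nat.card P ∧
        ∀ F : Subgroup G, F ≤ P → (Nat.card F = Nat.card D ∨ (Nat.card D = 2 ∧ Nat.card F = 4)) →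
          ∀ g : G, F.map (MulAut.conj g).toMonoidHom ⊓ Subgroup.normalizer (F : Set G) ≤ F

theorem relIndex_map_subtype {G : Type*} [Group G] (E : Subgroup G) (A : Subgroup E) :
    (A.map E.subtype).relIndex E = A.index := by
  unfold Subgroup.relIndex
  have : (A.map E.subtype).subgroupOf E = A :=
    Subgroup.comap_map_eq_self_of_injective E.subtype_injective A
  rw [this]

theorem hasNPC_of_sylHyp {G : Type*} [Group G] [Finite G] (E : Subgroup G) (hS : SylHyp E)
    {p : ℕ} [Fact p.Prime] (hdiv : p ∣ Nat.card E)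
    (hmin : ∀ q : ℕ, q.Prime → q ∣ Nat.card E → p ≤ q) : Cfsg.HasNormalPComplement p E := by
  have hp : p.Prime := Fact.out
  obtain ⟨P'⟩ : Nonempty (Sylow p E) := inferInstance
  apply Cfsg.Agent.S3031.result hdiv hmin P'
  by_cases hcyc : IsCyclic (P' : Subgroup E)
  · exact Or.inl hcyc
  right
  set P : Subgroup G := (P' : Subgroup E).map E.subtype with hP
  have hPE : P ≤ E := Subgroup.map_subtype_le _
  have e : (P' : Subgroup E) ≃* P := Subgroup.equivMapOfInjective _ _ E.subtype_injective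
  obtain ⟨D, hDP, hD1, hD2, hD⟩ := hS p hp P hPE (P'.2.map _)
    (by rw [hP, relIndex_map_subtype]; exact P'.not_dvd_index)
    (fun h => hcyc (isCyclic_of_surjective e.symm e.symm.surjective))
  have hcardD : Nat.card (D.subgroupOf E) = Nat.card D :=
    Nat.card_congr (Subgroup.subgroupOfEquivOfLe (hDP.trans hPE)).toEquiv
  have hcardP : Nat.card P = Nat.card (P' : Subgroup E) :=
    Subgroup.card_map_of_injective E.subtype_injective
  refine ⟨D.subgroupOf E, ?_, by rw [hcardD]; exact hD1, by rw [hcardD, ← hcardP]; exact hD2, ?_⟩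
  · intro x hx
    obtain ⟨y, hy, hyx⟩ := hDP hx
    have : y = x := Subtype.ext hyx
    rw [← this]; exact hy
  · intro F hF hc g x hx
    have h1 : F.map E.subtype ≤ P := Subgroup.map_mono hF
    have h2 : Nat.card (F.map E.subtype) = Nat.card F :=
      Subgroup.card_map_of_injective E.subtype_injective
    have h3 := hD (F.map E.subtype) h1 (by rw [h2, ← hcardD]; exact hc) (g : G)
    have h4 : (x : G) ∈ F.map E.subtype := by
      apply h3
      refine Subgroup.mem_inf.2 ⟨?_, ?_⟩
      · obtain ⟨y, hy, hyx⟩ := hx.1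
        refine ⟨y, ⟨y, hy, rfl⟩, ?_⟩
        rw [← hyx]; rfl
      · rw [Subgroup.mem_normalizer_iff]
        have h5 := Subgroup.mem_normalizer_iff.1 hx.2
        intro z
        constructor
        · rintro ⟨w, hw, rfl⟩
          exact ⟨x * w * x⁻¹, (h5 w).1 hw, rfl⟩
        · rintro ⟨w, hw, hwz⟩
          have hz : z ∈ E := by
            have h6 : z = (x : G)⁻¹ * (w : G) * (x : G) := by
              have : (w : G) = (x : G) * z * (x : G)⁻¹ := hwz
              rw [this]; group
            rw [h6]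
            exact E.mul_mem (E.mul_mem (E.inv_mem x.2) w.2) x.2
          refine ⟨⟨z, hz⟩, (h5 ⟨z, hz⟩).2 ?_, rfl⟩
          have : x * ⟨z, hz⟩ * x⁻¹ = w := Subtype.ext hwz.symm
          rw [this]; exact hw
    obtain ⟨y, hy, hyx⟩ := h4
    have : y = x := Subtype.ext hyx
    rw [← this]; exact hy

theorem chain_of_sylHyp {G : Type u} [Group G] [Finite G] (n : ℕ) :
    ∀ E : Subgroup G, E.Normal → Nat.card E = n → SylHyp E → Chain E := by
  induction n using Nat.strong_induction_on with
  | _ n ih =>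
    intro E hEn hcard hS
    by_cases hE1 : E = ⊥
    · rw [hE1]; exact Chain.bot
    have hne1 : Nat.card E ≠ 1 := by
      intro h
      exact hE1 ((Subgroup.card_eq_one).1 h)
    set p := (Nat.card E).minFac with hpdef
    have hp : p.Prime := Nat.minFac_prime hne1
    have : Fact p.Prime := ⟨hp⟩
    have hdiv : p ∣ Nat.card E := Nat.minFac_dvd _
    have hmin : ∀ q : ℕ, q.Prime → q ∣ Nat.card E → p ≤ q := fun q hq hqd =>
      Nat.minFac_le_of_dvd hq.two_le hqd
    obtain ⟨P₁, K₀, hK₀n, hc⟩ := hasNPC_of_sylHyp E hS hdiv hmin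
    obtain ⟨hKn, hKcop⟩ := complement_normal E P₁ K₀ hc
    set K : Subgroup G := K₀.map E.subtype with hK
    set P : Subgroup G := (P₁ : Subgroup E).map E.subtype with hP
    have hKE : K ≤ E := Subgroup.map_subtype_le _
    have hPE : P ≤ E := Subgroup.map_subtype_le _
    have hPp : IsPGroup p P := P₁.2.map _
    have hKP : K ⊔ P = E := by
      rw [hK, hP, ← Subgroup.map_sup, hc.sup_eq_top, ← MonoidHom.range_eq_map, Subgroup.range_subtype]
    have hKidx : K.relIndex E = Nat.card P := by
      rw [hK, relIndex_map_subtype, hc.symm.index_eq_card, hP,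
        Subgroup.card_map_of_injective E.subtype_injective]
    have hPidx : ¬ p ∣ P.relIndex E := by
      rw [hP, relIndex_map_subtype]; exact P₁.not_dvd_index
    obtain ⟨m, hm⟩ := IsPGroup.iff_card.1 hPp
    have hKlt : Nat.card K < n := by
      rw [← hcard]
      apply Cfsg.Agent.Lib.Helper30Coprime.card_lt_of_lt
      refine lt_of_le_of_ne hKE ?_
      intro h
      rw [h] at hKcop
      exact hp.one_lt.ne' (Nat.Coprime.eq_one_of_dvd hKcop.symm hdiv)
    have hSK : SylHyp K := by
      intro q hq Q hQK hQq hQidx hQc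
      apply hS q hq Q (hQK.trans hKE) hQq _ hQc
      intro hdvd
      rw [← Subgroup.relIndex_mul_relIndex Q K E hQK hKE, hKidx, hm] at hdvd
      rcases (Nat.Prime.dvd_mul hq).1 hdvd with h | h
      · exact hQidx h
      · have hqp : q = p := (Nat.prime_dvd_prime_iff_eq hq hp).1 (hq.dvd_of_dvd_pow h)
        subst hqp
        apply hQc
        have h1 : Q ⊓ K = ⊥ := inf_eq_bot_of_pgroup_coprime hQq hKcop
        have h2 : Q = ⊥ := by rw [← h1]; exact (inf_eq_left.2 hQK).symm
        rw [h2]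
        infer_instance
    have hKc : Chain K := ih _ hKlt K hKn rfl hSK
    by_cases hcyc : IsCyclic P
    · obtain ⟨x, hx⟩ := (Subgroup.isCyclic_iff_exists_zpowers_eq_top P).mp hcyc
      have h1 : K ⊔ Subgroup.zpowers x = E := by rw [hx, hKP]
      have := Chain.step K x hKc (h1 ▸ hEn)
      rwa [h1] at this
    · obtain ⟨D, hDP, hD1, hD2, hD⟩ := hS p hp P hPE hPp hPidx hcyc
      obtain ⟨d, hd⟩ := IsPGroup.iff_card.1 (hPp.to_le hDP)
      have hdm : d < m := by
        rw [hd, hm] at hD2
        exact (Nat.pow_lt_pow_iff_right hp.one_lt).mp hD2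
      have hd1 : 1 ≤ d := by
        rcases Nat.eq_zero_or_pos d with rfl | h
        · rw [hd] at hD1; simp at hD1
        · exact h
      have hNK : Subgroup.normalizer (P : Set G) ⊔ K = ⊤ := by
        have h1 := Sylow.normalizer_sup_eq_top P₁
        rw [eq_top_iff, ← h1]
        apply sup_le le_sup_left
        have h2 : K ⊔ P ≤ Subgroup.normalizer (P : Set G) ⊔ K :=
          sup_le le_sup_right (Subgroup.le_normalizer.trans le_sup_left)
        rw [hKP] at h2
        exact h2
      have := chain_sup K P hKc hNK m d hm hd1 hdm (by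
        intro F hF hc
        rw [← hd] at hc
        exact hD F hF hc)
      rwa [hKP] at this

end Cfsg.Agent.Lib.Helper56Super3
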