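import Mathlib
import Cfsg.Agent.S0542
import Cfsg.Agent.Lib.Helper56CD
import Cfsg.Agent.Lib.Helper58Subnormal
import Cfsg.Agent.Lib.Helper52Subnormal

set_option autoImplicit false

namespace Cfsg.Agent.Lib.Helper56SylJoin

open scoped Pointwise
open Cfsg.Agent.Lib.Helper56CD Cfsg.Agent.Lib.Helper58Subnormal Cfsg.Agent.Lib.Helper52Subnormal

variable {G : Type*} [Group G]

/-- the order of `H ∩ S` for `H` subnormal -/
theorem card_inf_sylow [Finite G] {p : ℕ} [Fact p.Prime] (S : Sylow p G) {H : Subgroup G}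
    (hH : H.IsSubnormal) :
    Nat.card (H ⊓ (S : Subgroup G) : Subgroup G) = p ^ (Nat.card H).factorization p := by
  obtain ⟨Q, hQ⟩ := Cfsg.Agent.S0542.result p H hH S
  rw [← Q.card_eq_multiplicity, hQ, inf_comm]
  exact (Nat.card_congr (Subgroup.subgroupOfEquivOfLe (inf_le_right : (S : Subgroup G) ⊓ H ≤ H)).toEquiv).symm.trans
    (by rw [Subgroup.inf_subgroupOf_right])

theorem card_sup_mul_card_inf {H K : Subgroup G} (h : H ≤ Subgroup.normalizer (K : Set G)) :
    Nat.card (H ⊔ K : Subgroup G) * Nat.card (H ⊓ K : Subgroup G) = Nat.card H * Nat.card K :=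
  card_sup_of_coe_eq (Subgroup.coe_mul_of_left_le_normalizer_right H K h)

/-- the Sylow join property when one subnormal subgroup normalizes the other -/
theorem inf_sylow_le_of_normalizes [Finite G] {p : ℕ} [Fact p.Prime] (S : Sylow p G)
    {H K : Subgroup G} (hH : H.IsSubnormal) (hK : K.IsSubnormal)
    (h : H ≤ Subgroup.normalizer (K : Set G)) :
    (H ⊔ K) ⊓ (S : Subgroup G) ≤ (H ⊓ (S : Subgroup G)) ⊔ (K ⊓ (S : Subgroup G)) := by
  have hp : p.Prime := Fact.out
  have hJ : (H ⊔ K).IsSubnormal := isSubnormal_sup hH hK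
  have hI : (H ⊓ K).IsSubnormal := hH.inf hK
  have e1 := card_sup_mul_card_inf h
  have hn : H ⊓ (S : Subgroup G) ≤ Subgroup.normalizer ((K ⊓ (S : Subgroup G) : Subgroup G) : Set G) := by
    refine le_trans (le_inf (inf_le_left.trans h) (inf_le_right.trans Subgroup.le_normalizer)) ?_
    exact Subgroup.inf_normalizer_le_normalizer_inf
  have e2 := card_sup_mul_card_inf hn
  have e3 : (H ⊓ (S : Subgroup G)) ⊓ (K ⊓ (S : Subgroup G)) = (H ⊓ K) ⊓ (S : Subgroup G) := by
    rw [← inf_inf_distrib_right]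
  rw [e3, card_inf_sylow S hH, card_inf_sylow S hK, card_inf_sylow S hI] at e2
  have e4 : (Nat.card (H ⊔ K : Subgroup G)).factorization p + (Nat.card (H ⊓ K : Subgroup G)).factorization p
      = (Nat.card H).factorization p + (Nat.card K).factorization p := by
    have := congrArg (fun n => n.factorization p) e1
    rw [Nat.factorization_mul Nat.card_pos.ne' Nat.card_pos.ne',
      Nat.factorization_mul Nat.card_pos.ne' Nat.card_pos.ne'] at this
    simpa using this
  have e5 : Nat.card ((H ⊓ (S : Subgroup G)) ⊔ (K ⊓ (S : Subgroup G)) : Subgroup G)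
      = Nat.card ((H ⊔ K) ⊓ (S : Subgroup G) : Subgroup G) := by
    rw [card_inf_sylow S hJ]
    have hpos : 0 < p ^ (Nat.card (H ⊓ K : Subgroup G)).factorization p := pow_pos hp.pos _
    apply Nat.eq_of_mul_eq_mul_right hpos
    rw [e2, ← pow_add, ← pow_add, e4]
  have hle : (H ⊓ (S : Subgroup G)) ⊔ (K ⊓ (S : Subgroup G)) ≤ (H ⊔ K) ⊓ (S : Subgroup G) :=
    sup_le (inf_le_inf_right _ le_sup_left) (inf_le_inf_right _ le_sup_right)
  exact (Subgroup.eq_of_le_of_card_ge hle e5.ge).ge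

/-- the Sylow join property of a group -/
def PP (p : ℕ) [Fact p.Prime] (G : Type*) [Group G] : Prop :=
  ∀ (S : Sylow p G) (A₁ A₂ : Subgroup G), A₁.IsSubnormal → A₂.IsSubnormal →
    (A₁ ⊔ A₂) ⊓ (S : Subgroup G) ≤ (A₁ ⊓ (S : Subgroup G)) ⊔ (A₂ ⊓ (S : Subgroup G))

/-- relativization to a subnormal subgroup -/
theorem pp_rel [Finite G] {p : ℕ} [Fact p.Prime] (S : Sylow p G) {H : Subgroup G}
    (hH : H.IsSubnormal) (hP : PP p ↥H) {A₁ A₂ : Subgroup G} (h₁ : A₁.IsSubnormal)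
    (h₂ : A₂.IsSubnormal) (l₁ : A₁ ≤ H) (l₂ : A₂ ≤ H) :
    (A₁ ⊔ A₂) ⊓ (S : Subgroup G) ≤ (A₁ ⊓ (S : Subgroup G)) ⊔ (A₂ ⊓ (S : Subgroup G)) := by
  obtain ⟨Q, hQ⟩ := Cfsg.Agent.S0542.result p H hH S
  have key := hP Q (A₁.subgroupOf H) (A₂.subgroupOf H) h₁.subgroupOf h₂.subgroupOf
  rw [hQ] at key
  have key2 := Subgroup.map_mono (f := H.subtype) key
  rw [Subgroup.map_sup, Subgroup.map_inf _ _ _ H.subtype_injective,
    Subgroup.map_inf _ _ _ H.subtype_injective, Subgroup.map_inf _ _ _ H.subtype_injective,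
    Subgroup.map_sup, Subgroup.map_subgroupOf_eq_of_le l₁, Subgroup.map_subgroupOf_eq_of_le l₂,
    Subgroup.subgroupOf_map_subtype] at key2
  intro x hx
  have hx1 := (Subgroup.mem_inf.1 hx).1
  have hx2 := (Subgroup.mem_inf.1 hx).2
  have hxH : x ∈ H := (sup_le l₁ l₂) hx1
  have := key2 (Subgroup.mem_inf.2 ⟨hx1, Subgroup.mem_inf.2 ⟨hx2, hxH⟩⟩)
  have hle : A₁ ⊓ ((S : Subgroup G) ⊓ H) ⊔ A₂ ⊓ ((S : Subgroup G) ⊓ H) ≤
      (A₁ ⊓ (S : Subgroup G)) ⊔ (A₂ ⊓ (S : Subgroup G)) :=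
    sup_le_sup (inf_le_inf_left _ inf_le_left) (inf_le_inf_left _ inf_le_left)
  exact hle this

/-- version for finite families -/
theorem pp_rel_sSup [Finite G] {p : ℕ} [Fact p.Prime] (S : Sylow p G) {H : Subgroup G}
    (hH : H.IsSubnormal) (hP : PP p ↥H) (T : Subgroup G) (F : Set (Subgroup G))
    (hF : ∀ U ∈ F, U.IsSubnormal ∧ U ≤ H ∧ U ⊓ (S : Subgroup G) ≤ T) :
    sSup F ⊓ (S : Subgroup G) ≤ T := by
  have hfin : F.Finite := Set.toFinite F
  induction F, hfin using Set.Finite.induction_on with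
  | empty => rw [sSup_empty]; simp
  | @insert a s _ _ ih =>
    rw [sSup_insert]
    have hs : ∀ U ∈ s, U.IsSubnormal ∧ U ≤ H ∧ U ⊓ (S : Subgroup G) ≤ T :=
      fun U hU => hF U (Set.mem_insert_of_mem _ hU)
    have ha := hF a (Set.mem_insert _ _)
    have hsn : (sSup s).IsSubnormal :=
      sn_top_iff.1 (Sn.sSup s fun U hU => sn_top_iff.2 (hs U hU).1)
    have hsl : sSup s ≤ H := sSup_le fun U hU => (hs U hU).2.1
    exact (pp_rel S hH hP ha.1 hsn ha.2.1 hsl).trans (sup_le ha.2.2 (ih hs))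

theorem normIn_res (p : ℕ) (A : Subgroup G) : NormIn (res p A) A :=
  ⟨res_le p A, Subgroup.le_normalizer.trans (normalizer_le_normalizer_res p A)⟩

theorem isSubnormal_res (p : ℕ) {A : Subgroup G} (hA : A.IsSubnormal) : (res p A).IsSubnormal :=
  sn_top_iff.1 ((normIn_res p A).sn.trans (sn_top_iff.2 hA))

/-- `A = O^p(A) (A ∩ S)` for `A` subnormal -/
theorem le_res_sup_inf [Finite G] {p : ℕ} [Fact p.Prime] (S : Sylow p G) {A : Subgroup G}
    (hA : A.IsSubnormal) : A ≤ res p A ⊔ (A ⊓ (S : Subgroup G)) := by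
  have hp : p.Prime := Fact.out
  rw [← Subgroup.relIndex_eq_one]
  have h1 : ¬ p ∣ (A ⊓ (S : Subgroup G)).relIndex A := by
    rw [Subgroup.inf_relIndex_left]
    exact Cfsg.Agent.S0542.not_dvd_relIndex p A hA S
  have hN : ((res p A).subgroupOf A).Normal :=
    (Subgroup.normal_subgroupOf_iff_le_normalizer (res_le p A)).2 (normIn_res p A).2
  have hq : IsPGroup p (↥A ⧸ (res p A).subgroupOf A) := by
    intro x
    obtain ⟨a, rfl⟩ := QuotientGroup.mk_surjective x
    obtain ⟨j, hj⟩ := exists_pow_mem_res (p := p) A a.2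
    refine ⟨j, ?_⟩
    rw [← QuotientGroup.mk_pow, QuotientGroup.eq_one_iff]
    exact hj
  obtain ⟨n, hn⟩ := IsPGroup.iff_card.1 hq
  have h2 : (res p A).relIndex A = p ^ n := by
    rw [← hn]; rfl
  have d1 : (res p A ⊔ (A ⊓ (S : Subgroup G))).relIndex A ∣ p ^ n := by
    rw [← h2]; exact Subgroup.relIndex_dvd_of_le_left A le_sup_left
  have d2 : (res p A ⊔ (A ⊓ (S : Subgroup G))).relIndex A ∣ (A ⊓ (S : Subgroup G)).relIndex A :=
    Subgroup.relIndex_dvd_of_le_left A le_sup_right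
  obtain ⟨k, -, hk⟩ := (Nat.dvd_prime_pow hp).1 d1
  rcases Nat.eq_zero_or_pos k with rfl | hk0
  · simpa using hk
  · exfalso
    apply h1
    refine dvd_trans ?_ d2
    rw [hk]
    exact dvd_pow_self p hk0.ne'

/-- passing to a quotient -/
theorem le_sup_of_pp_quotient [Finite G] {p : ℕ} [Fact p.Prime] (S : Sylow p G) (N : Subgroup G)
    [hN : N.Normal] (hP : PP p (G ⧸ N)) {A₁ A₂ : Subgroup G} (h₁ : A₁.IsSubnormal)
    (h₂ : A₂.IsSubnormal) (htop : A₁ ⊔ A₂ = ⊤) :
    (S : Subgroup G) ≤ ((A₁ ⊓ (S : Subgroup G)) ⊔ (A₂ ⊓ (S : Subgroup G))) ⊔ N := by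
  set T := (A₁ ⊓ (S : Subgroup G)) ⊔ (A₂ ⊓ (S : Subgroup G)) with hT
  have hsurj : Function.Surjective (QuotientGroup.mk' N) := QuotientGroup.mk'_surjective N
  have key := hP (S.mapSurjective hsurj) (A₁.map (QuotientGroup.mk' N)) (A₂.map (QuotientGroup.mk' N))
    (h₁.map hsurj) (h₂.map hsurj)
  rw [Sylow.coe_mapSurjective, ← Subgroup.map_sup, htop, Subgroup.map_top_of_surjective _ hsurj,
    top_inf_eq] at key
  have hNs : N.IsSubnormal := hN.isSubnormal
  have aux : ∀ A : Subgroup G, A.IsSubnormal → A ⊓ (S : Subgroup G) ≤ T →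
      A.map (QuotientGroup.mk' N) ⊓ (S : Subgroup G).map (QuotientGroup.mk' N) ≤
        T.map (QuotientGroup.mk' N) := by
    intro A hA hAT x hx
    obtain ⟨⟨a, ha, rfl⟩, ⟨s, hs, hsa⟩⟩ := Subgroup.mem_inf.1 hx
    have hsA : s ∈ A ⊔ N := by
      have h3 : a⁻¹ * s ∈ N := by
        rw [← QuotientGroup.eq_one_iff, QuotientGroup.mk_mul, QuotientGroup.mk_inv]
        have : (QuotientGroup.mk s : G ⧸ N) = QuotientGroup.mk a := hsa
        rw [this]; simp
      have : s = a * (a⁻¹ * s) := by group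
      rw [this]
      exact mul_mem ((le_sup_left : A ≤ A ⊔ N) ha) ((le_sup_right : N ≤ A ⊔ N) h3)
    have h4 := inf_sylow_le_of_normalizes S hA hNs Subgroup.le_normalizer_of_normal
      (Subgroup.mem_inf.2 ⟨hsA, hs⟩)
    have h5 : (A ⊓ (S : Subgroup G)) ⊔ (N ⊓ (S : Subgroup G)) ≤ T ⊔ N :=
      sup_le_sup hAT inf_le_left
    have h6 := Subgroup.mem_map_of_mem (QuotientGroup.mk' N) (h5 h4)
    rw [Subgroup.map_sup, ← hsa] 
    rw [Subgroup.map_sup] at h6
    have h7 : N.map (QuotientGroup.mk' N) = ⊥ := by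
      rw [Subgroup.map_eq_bot_iff, QuotientGroup.ker_mk']
    rw [h7, sup_bot_eq, hT, Subgroup.map_sup] at h6
    exact h6
  have key2 : (S : Subgroup G).map (QuotientGroup.mk' N) ≤ T.map (QuotientGroup.mk' N) :=
    key.trans (sup_le (aux A₁ h₁ le_sup_left) (aux A₂ h₂ le_sup_right))
  have key3 := Subgroup.comap_mono (f := QuotientGroup.mk' N) key2
  rw [Subgroup.comap_map_eq, Subgroup.comap_map_eq, QuotientGroup.ker_mk'] at key3
  exact le_sup_left.trans key3

/-- a central `p`-element of a group without `p`-quotients lies in the derived group of a Sylow -/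
theorem mem_commutator_of_central [Finite G] {p : ℕ} [Fact p.Prime] (S : Sylow p G)
    (hres : res p (⊤ : Subgroup G) = ⊤) {z : G} (hz : z ∈ Subgroup.center G)
    (hzS : z ∈ (S : Subgroup G)) : z ∈ ⁅(S : Subgroup G), (S : Subgroup G)⁆ := by
  have hp : p.Prime := Fact.out
  let V : G →* Abelianization ↥(S : Subgroup G) :=
    MonoidHom.transfer (Abelianization.of : ↥(S : Subgroup G) →* Abelianization ↥(S : Subgroup G))
  have hAb : IsPGroup p (Abelianization ↥(S : Subgroup G)) :=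
    S.2.to_quotient _
  have hV : ∀ g : G, V g = 1 := by
    intro g
    have hg : g ∈ res p (⊤ : Subgroup G) := by rw [hres]; trivial
    have hle : res p (⊤ : Subgroup G) ≤ V.ker := by
      unfold res
      rw [Subgroup.closure_le]
      rintro x ⟨-, hx⟩
      rw [SetLike.mem_coe, MonoidHom.mem_ker]
      obtain ⟨k, hk⟩ := hAb (V x)
      have d1 : orderOf (V x) ∣ p ^ k := orderOf_dvd_of_pow_eq_one hk
      have d2 : orderOf (V x) ∣ orderOf x := orderOf_map_dvd V x
      have : orderOf (V x) = 1 := Nat.eq_one_of_dvd_coprimes (hx.pow_right k) d2 d1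
      exact orderOf_eq_one_iff.1 this
    exact hle hg
  have hkey : ∀ (k : ℕ) (g₀ : G), g₀⁻¹ * z ^ k * g₀ ∈ (S : Subgroup G) →
      g₀⁻¹ * z ^ k * g₀ = z ^ k := by
    intro k g₀ _
    have : z ^ k ∈ Subgroup.center G := pow_mem hz k
    rw [mul_assoc, ← Subgroup.mem_center_iff.1 this g₀, inv_mul_cancel_left]
  have h1 := MonoidHom.transfer_eq_pow
    (Abelianization.of : ↥(S : Subgroup G) →* Abelianization ↥(S : Subgroup G)) z hkey
  have h2 : V z = 1 := hV z
  rw [show V z = _ from h1] at h2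
  have h3 : (⟨z ^ (S : Subgroup G).index, MonoidHom.transfer_eq_pow_aux z hkey⟩ : ↥(S : Subgroup G)) ∈
      _root_.commutator ↥(S : Subgroup G) := by
    rw [← Abelianization.ker_of, MonoidHom.mem_ker]; exact h2
  have h4 : z ^ (S : Subgroup G).index ∈ ⁅(S : Subgroup G), (S : Subgroup G)⁆ := by
    rw [← Subgroup.map_subtype_commutator]
    exact ⟨_, h3, rfl⟩
  obtain ⟨k, hk⟩ := (IsPGroup.iff_orderOf.1 S.2) ⟨z, hzS⟩
  have hk' : orderOf z = p ^ k := by rw [← hk]; exact (Subgroup.orderOf_mk z hzS).symm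
  have hcop : Nat.Coprime (S : Subgroup G).index (orderOf z) := by
    rw [hk']
    exact Nat.Coprime.pow_right k ((Nat.Prime.coprime_iff_not_dvd hp).2 S.not_dvd_index).symm
  obtain ⟨m, hm⟩ := exists_pow_eq_self_of_coprime hcop
  rw [← hm]
  exact pow_mem h4 m

end Cfsg.Agent.Lib.Helper56SylJoin
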