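import Mathlib
import Cfsg.Agent.Lib.Helper56Basic

set_option autoImplicit false

namespace Cfsg.Agent.Lib.Helper56Sylow

open Cfsg.Agent.Lib.Helper56Basic

variable {G : Type*} [Group G]

theorem cj_cj (a b : G) (H : Subgroup G) :
    (H.map (MulAut.conj b).toMonoidHom).map (MulAut.conj a).toMonoidHom =
      H.map (MulAut.conj (a * b)).toMonoidHom := by
  rw [Subgroup.map_map]
  congr 1
  ext x
  simp [MulAut.conj_apply, mul_assoc]

theorem cj_one (H : Subgroup G) : H.map (MulAut.conj (1 : G)).toMonoidHom = H := by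
  ext x
  rw [mem_cj]
  simp

theorem isPGroup_cj {p : ℕ} {H : Subgroup G} (hH : IsPGroup p H) (g : G) :
    IsPGroup p (H.map (MulAut.conj g).toMonoidHom) :=
  hH.map _

/-- Sylow's theorem inside a subgroup `C`: a `p`-subgroup of `C` is conjugate under `C` into any
Sylow `p`-subgroup of `G` that lies in `C`. -/
theorem exists_conj_le [Finite G] {p : ℕ} [Fact p.Prime] (P : Sylow p G) {C Q : Subgroup G}
    (hPC : (P : Subgroup G) ≤ C) (hQ : IsPGroup p Q) (hQC : Q ≤ C) :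
    ∃ c ∈ C, Q.map (MulAut.conj c).toMonoidHom ≤ (P : Subgroup G) := by
  have hQ' : IsPGroup p (Q.subgroupOf C) := hQ.comap_subtype
  obtain ⟨S, hS⟩ := hQ'.exists_le_sylow
  obtain ⟨c, hc⟩ := MulAction.exists_smul_eq C S (P.subtype hPC)
  refine ⟨c, c.2, ?_⟩
  rintro _ ⟨q, hq, rfl⟩
  have hqC : q ∈ C := hQC hq
  have h1 : (⟨q, hqC⟩ : C) ∈ (S : Subgroup C) := hS (Subgroup.mem_subgroupOf.2 hq)
  have h2 : c * ⟨q, hqC⟩ * c⁻¹ ∈ ((c • S : Sylow p C) : Subgroup C) := by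
    rw [Sylow.coe_subgroup_smul]
    exact ⟨⟨q, hqC⟩, h1, rfl⟩
  rw [hc, Sylow.coe_subtype] at h2
  exact Subgroup.mem_subgroupOf.1 h2

end Cfsg.Agent.Lib.Helper56Sylow
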