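import Mathlib

set_option autoImplicit false

namespace Cfsg.Agent.Lib.Helper56Transfer

open MulAction Subgroup

variable {G : Type*} [Group G]

/-- If conjugates (by elements outside `M`) of elements of `M` that fall into `M` are killed by `φ`,
then the transfer of `φ` restricts to `φ` on `M`. -/
theorem transfer_eq_self {M : Subgroup G} [M.FiniteIndex] {A : Type*} [CommGroup A] (φ : M →* A)
    (hII : ∀ c : G, c ∉ M → ∀ w : G, w ∈ M → ∀ hy : c⁻¹ * w * c ∈ M, φ ⟨c⁻¹ * w * c, hy⟩ = 1)
    (x : M) : MonoidHom.transfer φ (x : G) = φ x := by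
  classical
  have : Finite (G ⧸ M) := Subgroup.finite_quotient_of_finiteIndex
  let _ : Fintype (Quotient (orbitRel (zpowers (x : G)) (G ⧸ M))) := Fintype.ofFinite _
  rw [MonoidHom.transfer_eq_prod_quotient_orbitRel_zpowers_quot]
  set q₀ : Quotient (orbitRel (zpowers (x : G)) (G ⧸ M)) :=
    Quotient.mk _ ((1 : G) : G ⧸ M) with hq₀
  have hfix : ∀ z ∈ zpowers (x : G), z • (((1 : G) : G ⧸ M)) = ((1 : G) : G ⧸ M) := by
    intro z hz
    have hzM : z ∈ M := (zpowers_le.2 x.2) hz
    rw [MulAction.Quotient.smul_coe, smul_eq_mul, mul_one, QuotientGroup.eq]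
    simpa using hzM
  rw [Fintype.prod_eq_single q₀]
  · have h1 : q₀.out = ((1 : G) : G ⧸ M) := by
      have h2 : (Quotient.mk _ q₀.out : Quotient (orbitRel (zpowers (x : G)) (G ⧸ M))) =
          Quotient.mk _ ((1 : G) : G ⧸ M) := Quotient.out_eq q₀
      have h3 := Quotient.exact h2
      obtain ⟨z, hz⟩ := (orbitRel_apply.1 h3)
      rw [← hz]
      exact hfix z z.2
    have hc : q₀.out.out ∈ M := by
      have h4 : ((q₀.out.out : G) : G ⧸ M) = ((1 : G) : G ⧸ M) := by
        rw [QuotientGroup.out_eq', h1]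
      rw [QuotientGroup.eq] at h4
      have := M.inv_mem h4
      simpa using this
    have hk : Function.minimalPeriod ((x : G) • ·) q₀.out = 1 := by
      rw [Function.minimalPeriod_eq_one_iff_isFixedPt, h1]
      exact hfix _ (mem_zpowers _)
    have e : ∀ hmem, (⟨q₀.out.out⁻¹ * (x : G) ^ Function.minimalPeriod ((x : G) • ·) q₀.out *
        q₀.out.out, hmem⟩ : M) = (⟨q₀.out.out, hc⟩ : M)⁻¹ * x * ⟨q₀.out.out, hc⟩ := by
      intro hmem
      apply Subtype.ext
      simp [hk]
    rw [e, map_mul, map_mul, map_inv, mul_comm, mul_inv_cancel_left]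
  · intro q hq
    apply hII
    · intro hc
      apply hq
      have h4 : q.out = ((1 : G) : G ⧸ M) := by
        rw [← QuotientGroup.out_eq' q.out, QuotientGroup.eq]
        simpa using hc
      rw [← Quotient.out_eq q, h4]
    · exact M.pow_mem x.2 _

end Cfsg.Agent.Lib.Helper56Transfer
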