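import Mathlib
import Cfsg.Agent.Lib.Helper97AschBase
import Cfsg.Agent.Lib.Helper3Class2
import Cfsg.Agent.Lib.Helper57AschA

set_option autoImplicit false

/-! Class six, step one: from a non scalar normalised subgroup of class two modulo scalars to a
normalised non scalar `r`-group `R` of exponent `r * gcd 2 r`. -/

namespace Cfsg.Agent.Lib.Helper57AschB

open Cfsg Cfsg.Geo Matrix
open Cfsg.Agent.Lib.Helper97AschBase Cfsg.Agent.Lib.Helper57AschA Cfsg.Agent.Lib.Helper3Class2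
open scoped MatrixGroups commutatorElement

section abstract

variable {G : Type*} [Group G]

/-- the subgroup of elements of `E` whose `r`-th power lies in the central subgroup `Z` -/
theorem exists_powIn (Z E : Subgroup G) (hZ : Z ≤ Subgroup.center G) (hE : ⁅E, E⁆ ≤ Z) (r : ℕ) :
    ∃ E₁ : Subgroup G, ∀ g, g ∈ E₁ ↔ g ∈ E ∧ g ^ r ∈ Z := by
  refine ⟨{ carrier := {g | g ∈ E ∧ g ^ r ∈ Z}, mul_mem' := ?_, one_mem' := ?_, inv_mem' := ?_ }, fun g => Iff.rfl⟩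
  · rintro x y ⟨hx, hxr⟩ ⟨hy, hyr⟩
    refine ⟨E.mul_mem hx hy, ?_⟩
    have hc : ⁅y, x⁆ ∈ Z := hE (Subgroup.commutator_mem_commutator hy hx)
    have hcc := hZ hc
    rw [mul_pow_class2 x y (commute_of_mem_center hcc x) (commute_of_mem_center hcc y)]
    exact Z.mul_mem (Z.mul_mem hxr hyr) (Z.pow_mem hc _)
  · exact ⟨E.one_mem, by rw [one_pow]; exact Z.one_mem⟩
  · rintro x ⟨hx, hxr⟩
    exact ⟨E.inv_mem hx, by rw [inv_pow]; exact Z.inv_mem hxr⟩

theorem comm_pow_eq_one {Z E : Subgroup G} (hZ : Z ≤ Subgroup.center G) (hE : ⁅E, E⁆ ≤ Z) {r : ℕ}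
    {x y : G} (hx : x ∈ E) (hy : y ∈ E) (hyr : y ^ r ∈ Z) : ⁅y, x⁆ ^ r = 1 := by
  have hc : ⁅y, x⁆ ∈ Z := hE (Subgroup.commutator_mem_commutator hy hx)
  rw [← commutator_pow_left y x (commute_of_mem_center (hZ hc) y) r, commutatorElement_def]
  have := (Subgroup.mem_center_iff.mp (hZ hyr) x)
  rw [← this]; group

theorem mul_pow_of_dvd {Z E : Subgroup G} (hZ : Z ≤ Subgroup.center G) (hE : ⁅E, E⁆ ≤ Z) {r s : ℕ}
    (hs : r ∣ s.choose 2) {x y : G} (hx : x ∈ E) (hy : y ∈ E) (hyr : y ^ r ∈ Z) :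
    (x * y) ^ s = x ^ s * y ^ s := by
  have hc : ⁅y, x⁆ ∈ Z := hE (Subgroup.commutator_mem_commutator hy hx)
  have hcc := hZ hc
  rw [mul_pow_class2 x y (commute_of_mem_center hcc x) (commute_of_mem_center hcc y)]
  obtain ⟨k, hk⟩ := hs
  rw [hk, pow_mul, comm_pow_eq_one hZ hE hx hy hyr, one_pow, mul_one]

/-- the subgroup of elements of `E` with `r`-th power in `Z` and trivial `s`-th power -/
theorem exists_powOne (Z E : Subgroup G) (hZ : Z ≤ Subgroup.center G) (hE : ⁅E, E⁆ ≤ Z) (r s : ℕ)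
    (hs : r ∣ s.choose 2) :
    ∃ R : Subgroup G, ∀ g, g ∈ R ↔ g ∈ E ∧ g ^ r ∈ Z ∧ g ^ s = 1 := by
  obtain ⟨E₁, hE₁⟩ := exists_powIn Z E hZ hE r
  refine ⟨{ carrier := {g | g ∈ E₁ ∧ g ^ s = 1}, mul_mem' := ?_, one_mem' := ?_, inv_mem' := ?_ }, ?_⟩
  · rintro x y ⟨hx, hxs⟩ ⟨hy, hys⟩
    refine ⟨E₁.mul_mem hx hy, ?_⟩
    rw [mul_pow_of_dvd hZ hE hs ((hE₁ x).1 hx).1 ((hE₁ y).1 hy).1 ((hE₁ y).1 hy).2, hxs, hys, one_mul]
  · exact ⟨E₁.one_mem, one_pow _⟩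
  · rintro x ⟨hx, hxs⟩
    exact ⟨E₁.inv_mem hx, by rw [inv_pow, hxs, inv_one]⟩
  · intro g
    constructor
    · rintro ⟨h1, h2⟩
      exact ⟨((hE₁ g).1 h1).1, ((hE₁ g).1 h1).2, h2⟩
    · rintro ⟨h1, h2, h3⟩
      exact ⟨(hE₁ g).2 ⟨h1, h2⟩, h3⟩

theorem dvd_choose_two {r : ℕ} (hr : r.Prime) : r ∣ (r * Nat.gcd 2 r).choose 2 := by
  rcases hr.eq_two_or_odd' with rfl | hodd
  · decide
  · have h2 : r ≠ 2 := by rintro rfl; exact absurd hodd (by decide)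
    have hg : Nat.gcd 2 r = 1 := (Nat.coprime_primes Nat.prime_two hr).mpr (Ne.symm h2)
    rw [hg, mul_one]
    exact hr.dvd_choose_self (by norm_num) (lt_of_le_of_ne hr.two_le (Ne.symm h2))

/-- a non central-mod-`Z` element has a power of prime order modulo `Z` -/
theorem exists_prime_pow [Finite G] (Z : Subgroup G) {x : G} (hx : x ∉ Z) :
    ∃ (r k : ℕ), r.Prime ∧ x ^ k ∉ Z ∧ (x ^ k) ^ r ∈ Z := by
  classical
  have hex : ∃ k, 0 < k ∧ x ^ k ∈ Z := ⟨orderOf x, orderOf_pos x, by rw [pow_orderOf_eq_one]; exact Z.one_mem⟩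
  set k := Nat.find hex with hk
  obtain ⟨hk0, hkZ⟩ := Nat.find_spec hex
  have hk1 : k ≠ 1 := by
    intro h1
    rw [← hk, h1, pow_one] at hkZ
    exact hx hkZ
  obtain ⟨k', hk'⟩ := Nat.minFac_dvd k
  have hr := Nat.minFac_prime hk1
  refine ⟨k.minFac, k', hr, ?_, ?_⟩
  · intro hcon
    have hk'0 : 0 < k' := by
      rcases Nat.eq_zero_or_pos k' with h | h
      · rw [h, mul_zero] at hk'; omega
      · exact h
    have hlt : k' < k := by
      have := hr.two_le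
      nlinarith
    exact Nat.find_min hex hlt ⟨hk'0, hcon⟩
  · rw [← pow_mul, mul_comm, ← hk']
    exact hkZ

end abstract

variable {n : ℕ} {F : Type*} [Field F]

lemma scalars_le_center' : scalars (Fin n) F ≤ Subgroup.center (GL (Fin n) F) := by
  intro z hz
  rw [Subgroup.mem_center_iff]
  intro g
  exact (scalars_comm hz g).symm

lemma conj_mem_scalars {z : GL (Fin n) F} (hz : z ∈ scalars (Fin n) F) (h : GL (Fin n) F) :
    h * z * h⁻¹ = z := by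
  rw [← scalars_comm hz h]; group

lemma commutator_sup_scalars {N : Subgroup (GL (Fin n) F)} (hcomm : ⁅N, N⁆ ≤ scalars (Fin n) F) :
    ⁅N ⊔ scalars (Fin n) F, N ⊔ scalars (Fin n) F⁆ ≤ scalars (Fin n) F := by
  rw [Subgroup.commutator_le]
  intro g₁ h₁ g₂ h₂
  obtain ⟨x, hx, z, hz, rfl⟩ := Subgroup.mem_sup_of_normal_right.mp h₁
  obtain ⟨y, hy, w, hw, rfl⟩ := Subgroup.mem_sup_of_normal_right.mp h₂
  have e : ⁅x * z, y * w⁆ = ⁅x, y⁆ := by
    rw [commutatorElement_def, commutatorElement_def]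
    have h1 : ∀ g, z * g = g * z := scalars_comm hz
    have h2 : ∀ g, w * g = g * w := scalars_comm hw
    calc x * z * (y * w) * (x * z)⁻¹ * (y * w)⁻¹ = x * (z * (y * (w * (z⁻¹ * (x⁻¹ * (w⁻¹ * y⁻¹)))))) := by group
      _ = x * ((y * ((z⁻¹ * (x⁻¹ * (w⁻¹ * y⁻¹))) * w)) * z) := by rw [h2, h1]
      _ = x * y * (z⁻¹ * (x⁻¹ * (w⁻¹ * (y⁻¹ * w) * z))) := by group
      _ = x * y * (z⁻¹ * (x⁻¹ * (w⁻¹ * (w * y⁻¹) * z))) := by rw [h2]
      _ = x * y * (z⁻¹ * ((x⁻¹ * y⁻¹) * z)) := by group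
      _ = x * y * (z⁻¹ * (z * (x⁻¹ * y⁻¹))) := by rw [h1]
      _ = x * y * x⁻¹ * y⁻¹ := by group
  rw [e]
  exact hcomm (Subgroup.commutator_mem_commutator hx hy)

lemma Nz_sup_scalars {H N : Subgroup (GL (Fin n) F)} (hnorm : Nz H N) : Nz H (N ⊔ scalars (Fin n) F) := by
  intro h hh g hg
  obtain ⟨x, hx, z, hz, rfl⟩ := Subgroup.mem_sup_of_normal_right.mp hg
  have : h * (x * z) * h⁻¹ = (h * x * h⁻¹) * (h * z * h⁻¹) := by group
  rw [this, conj_mem_scalars hz]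
  exact Subgroup.mul_mem _ (Subgroup.mem_sup_left (hnorm h hh x hx)) (Subgroup.mem_sup_right hz)

lemma conj_pow' {G : Type*} [Group G] (h x : G) (k : ℕ) : (h * x * h⁻¹) ^ k = h * x ^ k * h⁻¹ :=
  conj_pow

/-- the scalar matrix with a given entry -/
noncomputable def sc (c : Fˣ) : GL (Fin n) F := Units.map (Matrix.scalar (Fin n) : F →+* Matrix (Fin n) (Fin n) F).toMonoidHom c

lemma sc_mem (c : Fˣ) : (sc c : GL (Fin n) F) ∈ scalars (Fin n) F := ⟨c, rfl⟩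

lemma cv_sc [NeZero n] (c : Fˣ) : cv (sc c : GL (Fin n) F) = c := by
  simp [cv, sc]

lemma sc_pow (c : Fˣ) (k : ℕ) : (sc c : GL (Fin n) F) ^ k = sc (c ^ k) := by
  unfold sc
  rw [map_pow]

theorem exists_R [Finite F] (hn : 2 ≤ n) {H N : Subgroup (GL (Fin n) F)} (hnorm : Nz H N)
    (hNs : ¬ N ≤ scalars (Fin n) F) (hcomm : ⁅N, N⁆ ≤ scalars (Fin n) F)
    (hdich : ∀ T : Subgroup (GL (Fin n) F), Nz H T →
      T ≤ scalars (Fin n) F ∨ ActsAbsolutelyIrreducibly (matrixSet T)) :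
    ∃ (r : ℕ) (R : Subgroup (GL (Fin n) F)), r.Prime ∧ Nz H R ∧ ¬ R ≤ scalars (Fin n) F ∧
      ⁅R, R⁆ ≤ scalars (Fin n) F ∧ (∀ g ∈ R, g ^ r ∈ scalars (Fin n) F) ∧
      (∀ g ∈ R, g ^ (r * Nat.gcd 2 r) = 1) ∧
      (∀ z ∈ scalars (Fin n) F, z ^ (r * Nat.gcd 2 r) = 1 → z ∈ R) := by
  classical
  have : NeZero n := ⟨by omega⟩
  set Z := scalars (Fin n) F with hZdef
  have hZ : Z ≤ Subgroup.center (GL (Fin n) F) := scalars_le_center'
  set E := N ⊔ Z with hEdef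
  have hE : ⁅E, E⁆ ≤ Z := commutator_sup_scalars hcomm
  have hEn : Nz H E := Nz_sup_scalars hnorm
  obtain ⟨x, hxN, hxZ⟩ := SetLike.not_le_iff_exists.mp hNs
  obtain ⟨r, k, hr, hk1, hk2⟩ := exists_prime_pow Z hxZ
  set s := r * Nat.gcd 2 r with hs
  obtain ⟨E₁, hE₁⟩ := exists_powIn Z E hZ hE r
  obtain ⟨R, hR⟩ := exists_powOne Z E hZ hE r s (dvd_choose_two hr)
  have hE₁n : Nz H E₁ := by
    intro h hh g hg
    rw [hE₁] at hg ⊢
    refine ⟨hEn h hh g hg.1, ?_⟩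
    rw [conj_pow', conj_mem_scalars hg.2]
    exact hg.2
  have hRn : Nz H R := by
    intro h hh g hg
    rw [hR] at hg ⊢
    refine ⟨hEn h hh g hg.1, ?_, ?_⟩
    · rw [conj_pow', conj_mem_scalars hg.2.1]
      exact hg.2.1
    · rw [conj_pow', hg.2.2]; group
  have hE₁E : E₁ ≤ E := fun g hg => ((hE₁ g).1 hg).1
  have hE₁s : ¬ E₁ ≤ Z := fun h => hk1 (h ((hE₁ _).2 ⟨Subgroup.mem_sup_left (N.pow_mem hxN k), hk2⟩))
  have hE₁abs := (hdich E₁ hE₁n).resolve_left hE₁s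
  have hpowZ : ∀ g ∈ E₁, g ^ s ∈ Z := by
    intro g hg
    rw [hs, pow_mul]
    exact Z.pow_mem ((hE₁ g).1 hg).2 _
  refine ⟨r, R, hr, hRn, ?_, ?_, fun g hg => ((hR g).1 hg).2.1, fun g hg => ((hR g).1 hg).2.2, ?_⟩
  · intro hRs
    apply not_absIrred_of_comm hn _ hE₁abs
    -- the power map
    let pw : E₁ →* Fˣ :=
      { toFun := fun g => Units.mk0 (cv ((g : GL (Fin n) F) ^ s)) (cv_ne_zero (hpowZ g g.2))
        map_one' := by
          apply Units.ext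
          simp [cv_one]
        map_mul' := fun a b => by
          apply Units.ext
          simp only [Subgroup.coe_mul, Units.val_mk0, Units.val_mul]
          rw [mul_pow_of_dvd hZ hE (dvd_choose_two hr) (hE₁E a.2) (hE₁E b.2) ((hE₁ _).1 b.2).2,
            cv_mul (hpowZ a a.2)] }
    let K : Subgroup Fˣ := (powMonoidHom s : Fˣ →* Fˣ).range
    let ψ : E₁ →* Fˣ ⧸ K := (QuotientGroup.mk' K).comp pw
    have hcyc : IsCyclic (Fˣ ⧸ K) := isCyclic_of_surjective (QuotientGroup.mk' K) (QuotientGroup.mk'_surjective K)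
    have hker : ψ.ker ≤ Subgroup.center E₁ := by
      intro g hg
      have h1 : pw g ∈ K := by
        rw [MonoidHom.mem_ker, MonoidHom.comp_apply, QuotientGroup.mk'_apply, QuotientGroup.eq_one_iff] at hg
        exact hg
      obtain ⟨c, hc⟩ := h1
      have hc' : c ^ s = pw g := hc
      have h2 : (sc c : GL (Fin n) F) ^ s = (g : GL (Fin n) F) ^ s := by
        apply eq_of_cv_eq (Z.pow_mem (sc_mem c) _) (hpowZ g g.2)
        rw [sc_pow, cv_sc, hc']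
        rfl
      have h3 : (g : GL (Fin n) F) * (sc c)⁻¹ ∈ R := by
        rw [hR]
        have hscE : (sc c : GL (Fin n) F)⁻¹ ∈ E₁ := by
          rw [hE₁]
          exact ⟨Subgroup.mem_sup_right (Z.inv_mem (sc_mem c)), Z.pow_mem (Z.inv_mem (sc_mem c)) _⟩
        have h4 := E₁.mul_mem g.2 hscE
        refine ⟨((hE₁ _).1 h4).1, ((hE₁ _).1 h4).2, ?_⟩
        have hcm : Commute (g : GL (Fin n) F) (sc c)⁻¹ := (scalars_comm (Z.inv_mem (sc_mem c)) _).symm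
        rw [hcm.mul_pow, inv_pow, h2, mul_inv_cancel]
      have h5 : (g : GL (Fin n) F) ∈ Z := by
        have := Z.mul_mem (hRs h3) (sc_mem c)
        simpa using this
      rw [Subgroup.mem_center_iff]
      intro y
      apply Subtype.ext
      exact (scalars_comm h5 _).symm
    have hcm := MonoidHom.isMulCommutative_of_isCyclic_of_ker_le_center ψ hker
    intro a ha b hb
    exact congrArg Subtype.val (hcm.is_comm.comm ⟨a, ha⟩ ⟨b, hb⟩)
  · exact (Subgroup.commutator_mono (fun g hg => ((hR g).1 hg).1) (fun g hg => ((hR g).1 hg).1)).trans hE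
  · intro z hz hzs
    rw [hR]
    exact ⟨Subgroup.mem_sup_right hz, Z.pow_mem hz _, hzs⟩

end Cfsg.Agent.Lib.Helper57AschB
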