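import Cfsg.Agent.Lib.Helper97AschC6

set_option autoImplicit false

namespace Cfsg.Agent.Lib.Helper97AschMono

open Cfsg Cfsg.Geo Matrix Cfsg.Agent.Lib.Helper97AschBase Cfsg.Agent.Lib.Helper97AschC6
open scoped MatrixGroups

variable {n : ℕ} {F : Type*} [Field F]

/-- the stabiliser of a decomposition into lines is monomial in suitable coordinates -/
lemma monomial (D : Fin n → Submodule F (Fin n → F)) (hD : IsMDecomposition 1 D) :
    ∃ B : GL (Fin n) F, ∀ g ∈ decompositionStabilizer D, ∃ (π : Equiv.Perm (Fin n)) (c : Fin n → F),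
      (∀ i, c i ≠ 0) ∧ ∀ (v : Fin n → F) (i : Fin n),
        (((B⁻¹ : GL (Fin n) F) : Matrix (Fin n) (Fin n) F) *ᵥ ((g : Matrix (Fin n) (Fin n) F) *ᵥ v)) (π i) =
          c i * (((B⁻¹ : GL (Fin n) F) : Matrix (Fin n) (Fin n) F) *ᵥ v) i := by
  have hex : ∀ i, ∃ d : Fin n → F, d ∈ D i ∧ d ≠ 0 ∧ ∀ w ∈ D i, ∃ c : F, c • d = w := by
    intro i
    obtain ⟨v, hv0, hv⟩ := finrank_eq_one_iff'.mp (hD.finrank_eq i)
    refine ⟨v, v.2, fun h => hv0 (Subtype.ext h), fun w hw => ?_⟩
    obtain ⟨c, hc⟩ := hv ⟨w, hw⟩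
    exact ⟨c, congrArg Subtype.val hc⟩
  choose d hdD hd0 hdspan using hex
  let M : Matrix (Fin n) (Fin n) F := Matrix.of (fun a i => d i a)
  have hind : LinearIndependent F M.col := hD.indep.linearIndependent D hdD hd0
  obtain ⟨B, hB⟩ := Matrix.linearIndependent_cols_iff_isUnit.mp hind
  have hBe : ∀ i, (B : Matrix (Fin n) (Fin n) F) *ᵥ Pi.single i 1 = d i := by
    intro i
    rw [hB, Matrix.mulVec_single_one]
    rfl
  refine ⟨B, ?_⟩
  rintro g ⟨π, hπ⟩
  have hgd : ∀ i, ∃ c : F, c • d (π i) = (g : Matrix (Fin n) (Fin n) F) *ᵥ d i := by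
    intro i
    apply hdspan
    rw [← hπ i]
    exact ⟨d i, hdD i, by rw [Matrix.toLin'_apply]⟩
  choose c hc using hgd
  refine ⟨π, c, ?_, ?_⟩
  · intro i hci
    have h1 := hc i
    rw [hci, zero_smul] at h1
    apply hd0 i
    apply mulVec_injective g
    simpa using h1.symm
  · intro v i
    let Mg : Matrix (Fin n) (Fin n) F :=
      ((B⁻¹ : GL (Fin n) F) : Matrix (Fin n) (Fin n) F) * g * B
    have hMg : ∀ j, Mg *ᵥ Pi.single j 1 = c j • Pi.single (π j) 1 := by
      intro j
      simp only [Mg]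
      rw [← Matrix.mulVec_mulVec, hBe, ← Matrix.mulVec_mulVec, ← hc, Matrix.mulVec_smul, ← hBe (π j),
        inv_mulVec_mulVec]
    have h1 : ((B⁻¹ : GL (Fin n) F) : Matrix (Fin n) (Fin n) F) *ᵥ ((g : Matrix (Fin n) (Fin n) F) *ᵥ v) =
        Mg *ᵥ (((B⁻¹ : GL (Fin n) F) : Matrix (Fin n) (Fin n) F) *ᵥ v) := by
      simp only [Mg]
      rw [← Matrix.mulVec_mulVec, mulVec_inv_mulVec, ← Matrix.mulVec_mulVec]
    rw [h1, Matrix.mulVec, dotProduct, Finset.sum_eq_single i]
    · have h2 := congrFun (hMg i) (π i)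
      rw [Matrix.mulVec_single_one] at h2
      simp only [Matrix.col, Matrix.transpose_apply, Pi.smul_apply, Pi.single_eq_same, smul_eq_mul,
        mul_one] at h2
      rw [h2]
    · intro j _ hj
      have h2 := congrFun (hMg j) (π i)
      rw [Matrix.mulVec_single_one] at h2
      have h3 : π i ≠ π j := fun h => hj (π.injective h).symm
      simp only [Matrix.col, Matrix.transpose_apply, Pi.smul_apply, Pi.single_eq_of_ne h3, smul_eq_mul,
        mul_zero] at h2
      rw [h2, zero_mul]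
    · intro h; exact absurd (Finset.mem_univ i) h

lemma isUnitary_f₀ (B : GL (Fin n) F) (σ : F ≃+* F) (hσ1 : σ ≠ RingEquiv.refl F)
    (hσ2 : ∀ a, σ (σ a) = a) :
    IsUnitaryForm σ (fun u v => f₀ σ (((B⁻¹ : GL (Fin n) F) : Matrix (Fin n) (Fin n) F) *ᵥ u)
      (((B⁻¹ : GL (Fin n) F) : Matrix (Fin n) (Fin n) F) *ᵥ v)) := by
  refine ⟨hσ1, hσ2, ?_, ?_, ?_, ?_⟩
  · intro a b v
    simp only [f₀, Matrix.mulVec_add, Pi.add_apply, add_mul, Finset.sum_add_distrib]
  · intro c a v
    simp only [f₀, Matrix.mulVec_smul, Pi.smul_apply, smul_eq_mul, Finset.mul_sum, mul_assoc]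
  · intro v w
    simp only [f₀, map_sum, map_mul, hσ2]
    apply Finset.sum_congr rfl
    intro j _
    rw [mul_comm]
  · intro v hv
    have hv' : ((B⁻¹ : GL (Fin n) F) : Matrix (Fin n) (Fin n) F) *ᵥ v ≠ 0 := by
      intro h0
      apply hv
      apply mulVec_injective B⁻¹
      simpa using h0
    obtain ⟨j, hj⟩ := Function.ne_iff.mp hv'
    rw [Pi.zero_apply] at hj
    constructor
    · refine ⟨(B : Matrix (Fin n) (Fin n) F) *ᵥ Pi.single j 1, ?_⟩
      simp only [inv_mulVec_mulVec, f₀]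
      rw [Finset.sum_eq_single j]
      · simpa using hj
      · intro b _ hb
        simp [hb]
      · intro h; exact absurd (Finset.mem_univ j) h
    · refine ⟨(B : Matrix (Fin n) (Fin n) F) *ᵥ Pi.single j 1, ?_⟩
      simp only [inv_mulVec_mulVec, f₀]
      rw [Finset.sum_eq_single j]
      · simpa using hj
      · intro b _ hb
        simp [hb]
      · intro h; exact absurd (Finset.mem_univ j) h

/-- the sum of squares in the coordinates given by `B` -/
def sq (B : GL (Fin n) F) (v : Fin n → F) : F :=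
  ∑ i, ((((B⁻¹ : GL (Fin n) F) : Matrix (Fin n) (Fin n) F) *ᵥ v) i) ^ 2

lemma polar_sq (B : GL (Fin n) F) (u v : Fin n → F) :
    QuadraticMap.polar (sq B) u v = 2 * ∑ i, (((B⁻¹ : GL (Fin n) F) : Matrix (Fin n) (Fin n) F) *ᵥ u) i *
      (((B⁻¹ : GL (Fin n) F) : Matrix (Fin n) (Fin n) F) *ᵥ v) i := by
  unfold QuadraticMap.polar sq
  rw [Matrix.mulVec_add, ← Finset.sum_sub_distrib, ← Finset.sum_sub_distrib, Finset.mul_sum]
  apply Finset.sum_congr rfl
  intro i _
  rw [Pi.add_apply]
  ring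

lemma isNondeg_sq (B : GL (Fin n) F) (h2 : (2 : F) ≠ 0) : IsNondegenerateQuadraticForm (sq B) := by
  refine ⟨?_, ⟨?_, ?_, ?_, ?_⟩, ?_⟩
  · intro c v
    unfold sq
    rw [Matrix.mulVec_smul, Finset.mul_sum]
    apply Finset.sum_congr rfl
    intro i _
    rw [Pi.smul_apply, smul_eq_mul]
    ring
  · intro x y v
    simp only [polar_sq, Matrix.mulVec_add, Pi.add_apply, add_mul, Finset.sum_add_distrib, mul_add]
  · intro c x v
    simp only [polar_sq, Matrix.mulVec_smul, Pi.smul_apply, smul_eq_mul, Finset.mul_sum]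
    apply Finset.sum_congr rfl
    intro i _
    ring
  · intro v x y
    simp only [polar_sq, Matrix.mulVec_add, Pi.add_apply, mul_add, Finset.sum_add_distrib]
  · intro c v x
    simp only [polar_sq, Matrix.mulVec_smul, Pi.smul_apply, smul_eq_mul, Finset.mul_sum]
    apply Finset.sum_congr rfl
    intro i _
    ring
  · intro v hv
    have hv' : ((B⁻¹ : GL (Fin n) F) : Matrix (Fin n) (Fin n) F) *ᵥ v ≠ 0 := by
      intro h0
      apply hv
      apply mulVec_injective B⁻¹
      simpa using h0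
    obtain ⟨j, hj⟩ := Function.ne_iff.mp hv'
    rw [Pi.zero_apply] at hj
    constructor
    · refine ⟨(B : Matrix (Fin n) (Fin n) F) *ᵥ Pi.single j 1, ?_⟩
      rw [polar_sq, inv_mulVec_mulVec, Finset.sum_eq_single j]
      · rw [Pi.single_eq_same]
        first
          | rw [one_mul]; exact mul_ne_zero h2 hj
          | rw [mul_one]; exact mul_ne_zero h2 hj
      · intro b _ hb
        simp [hb]
      · intro h; exact absurd (Finset.mem_univ j) h
    · refine ⟨(B : Matrix (Fin n) (Fin n) F) *ᵥ Pi.single j 1, ?_⟩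
      rw [polar_sq, inv_mulVec_mulVec, Finset.sum_eq_single j]
      · rw [Pi.single_eq_same]
        first
          | rw [one_mul]; exact mul_ne_zero h2 hj
          | rw [mul_one]; exact mul_ne_zero h2 hj
      · intro b _ hb
        simp [hb]
      · intro h; exact absurd (Finset.mem_univ j) h

lemma c2_small [Fintype F] (hn : 2 ≤ n) (D : Fin n → Submodule F (Fin n → F))
    (hD : IsMDecomposition 1 D) (hq : Fintype.card F < 5) :
    (∃ W : Submodule F (Fin n → F), W ≠ ⊥ ∧ W ≠ ⊤ ∧ decompositionStabilizer D ≤ subspaceStabilizer W) ∨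
    (Odd (Fintype.card F) ∧ ∃ Q : (Fin n → F) → F, IsNondegenerateQuadraticForm Q ∧
      decompositionStabilizer D ≤ quadSimilarityGroup Q) ∨
    (∃ (σ : F ≃+* F) (f : (Fin n → F) → (Fin n → F) → F), IsUnitaryForm σ f ∧
      decompositionStabilizer D ≤ similarityGroup f) := by
  obtain ⟨B, hB⟩ := monomial D hD
  have hq1 : 1 < Fintype.card F := Fintype.one_lt_card
  have hpow : ∀ c : F, c ≠ 0 → c ^ (Fintype.card F - 1) = 1 := fun c hc =>
    FiniteField.pow_card_sub_one_eq_one c hc
  obtain ⟨q, hqq⟩ : ∃ q, q = Fintype.card F := ⟨_, rfl⟩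
  rw [← hqq] at hq hq1 hpow
  interval_cases q
  · -- two elements
    left
    let s : Fin n → F := (B : Matrix (Fin n) (Fin n) F) *ᵥ (fun _ => 1)
    have hs0 : s ≠ 0 := by
      intro h0
      have h1 : ((B⁻¹ : GL (Fin n) F) : Matrix (Fin n) (Fin n) F) *ᵥ s = 0 := by
        rw [h0, Matrix.mulVec_zero]
      simp only [s, inv_mulVec_mulVec] at h1
      have := congrFun h1 ⟨0, by omega⟩
      simp at this
    refine ⟨Submodule.span F {s}, ?_, ?_, ?_⟩
    · rw [Ne, Submodule.span_singleton_eq_bot]; exact hs0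
    · intro htop
      have h2 : Module.finrank F (Submodule.span F {s}) = 1 := finrank_span_singleton hs0
      rw [htop, finrank_top, Module.finrank_fin_fun] at h2
      omega
    · apply le_subspaceStabilizer_of_Inv
      intro g hg w hw
      obtain ⟨π, c, hc0, hc⟩ := hB g hg
      have hgs : (g : Matrix (Fin n) (Fin n) F) *ᵥ s = s := by
        apply mulVec_injective B⁻¹
        simp only
        ext j
        obtain ⟨i, rfl⟩ := π.surjective j
        rw [hc]
        simp only [s, inv_mulVec_mulVec]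
        have := hpow (c i) (hc0 i)
        simpa using this
      obtain ⟨a, rfl⟩ := Submodule.mem_span_singleton.mp hw
      rw [Matrix.mulVec_smul, hgs]
      exact Submodule.smul_mem _ _ (Submodule.mem_span_singleton_self s)
  · -- three elements
    right; left
    have h2 : (2 : F) ≠ 0 := by
      apply Ring.two_ne_zero
      intro hchar
      have := FiniteField.even_card_of_char_two hchar
      omega
    refine ⟨by rw [← hqq]; decide, sq B, isNondeg_sq B h2, ?_⟩
    intro g hg
    obtain ⟨π, c, hc0, hc⟩ := hB g hg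
    refine ⟨1, fun v => ?_⟩
    rw [Units.val_one, one_mul]
    unfold sq
    rw [← Equiv.sum_comp π]
    apply Finset.sum_congr rfl
    intro i _
    rw [hc, mul_pow]
    have := hpow (c i) (hc0 i)
    simp only [Nat.add_one_sub_one] at this
    rw [this, one_mul]
  · -- four elements
    right; right
    obtain ⟨p, hchar, e, hp, hcard⟩ := FiniteField.card' F
    rw [← hqq] at hcard
    have hp2 : p = 2 := by
      have h1 : p ∣ 2 ^ 2 := by
        have : (2 : ℕ) ^ 2 = p ^ (e : ℕ) := by rw [← hcard]; norm_num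
        rw [this]
        exact dvd_pow_self p e.pos.ne'
      exact (Nat.prime_dvd_prime_iff_eq hp Nat.prime_two).mp (hp.dvd_of_dvd_pow h1)
    subst hp2
    have he : (e : ℕ) = 2 := by
      have : (2 : ℕ) ^ 2 = 2 ^ (e : ℕ) := by rw [← hcard]; norm_num
      exact (Nat.pow_right_injective le_rfl this).symm
    have : Fact (Nat.Prime 2) := ⟨hp⟩
    have hσ1 : iterateFrobeniusEquiv F 2 1 ≠ RingEquiv.refl F := by
      intro hrefl
      obtain ⟨a, ha⟩ := exists_not_fixed (F := F) (d := 1) (e := 2) hp (by rw [← hqq]; norm_num) one_pos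
        (by norm_num)
      apply ha
      have h1 := congrArg (fun τ : F ≃+* F => τ a) hrefl
      exact h1
    have hσ2 : ∀ a : F, iterateFrobeniusEquiv F 2 1 (iterateFrobeniusEquiv F 2 1 a) = a := by
      intro a
      rw [iterateFrobeniusEquiv_def, iterateFrobeniusEquiv_def, ← pow_mul]
      have := FiniteField.pow_card a
      rw [← hqq] at this
      exact this
    refine ⟨iterateFrobeniusEquiv F 2 1, _, isUnitary_f₀ B _ hσ1 hσ2, ?_⟩
    intro g hg
    obtain ⟨π, c, hc0, hc⟩ := hB g hg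
    refine ⟨1, fun u v => ?_⟩
    rw [Units.val_one, one_mul]
    simp only [f₀]
    rw [← Equiv.sum_comp π]
    apply Finset.sum_congr rfl
    intro i _
    rw [hc, hc, map_mul, iterateFrobeniusEquiv_def F 2 1 (c i)]
    have := hpow (c i) (hc0 i)
    simp only [Nat.add_one_sub_one] at this
    calc _ = (c i) ^ 3 * ((((B⁻¹ : GL (Fin n) F) : Matrix (Fin n) (Fin n) F) *ᵥ u) i *
        (iterateFrobeniusEquiv F 2 1) ((((B⁻¹ : GL (Fin n) F) : Matrix (Fin n) (Fin n) F) *ᵥ v) i)) := by ring
      _ = _ := by rw [this, one_mul]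

end Cfsg.Agent.Lib.Helper97AschMono
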