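import Mathlib
import Cfsg.Agent.Lib.Helper97AschBase
import Cfsg.Agent.Lib.Helper97AschClifford
import Cfsg.Agent.Lib.Helper57AschA
import Cfsg.Agent.Lib.Helper57AschB
import Cfsg.Agent.Lib.Helper97AschMono

set_option autoImplicit false

/-! Class six, step two: the monomial normal form of an irreducible group of class two modulo scalars
and of exponent `s`, when the field contains the `s`-th roots of unity. -/

namespace Cfsg.Agent.Lib.Helper57AschC

open Cfsg Cfsg.Geo Matrix Polynomial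
open Cfsg.Agent.Lib.Helper97AschBase Cfsg.Agent.Lib.Helper97AschClifford Cfsg.Agent.Lib.Helper57AschA
  Cfsg.Agent.Lib.Helper57AschB
open scoped MatrixGroups

theorem exists_eig {F U : Type*} [Field F] [AddCommGroup U] [Module F U] [FiniteDimensional F U] [Nontrivial U]
    (f : Module.End F U) {s : ℕ} (hs : 0 < s) (hf : f ^ s = 1) {ζ : F} (hζ : IsPrimitiveRoot ζ s) :
    ∃ μ : F, μ ^ s = 1 ∧ f.HasEigenvalue μ := by
  have h1 : minpoly F f ∣ (X ^ s - 1 : F[X]) := by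
    apply minpoly.dvd
    simp [hf]
  have hne : (X ^ s - 1 : F[X]) ≠ 0 := (monic_X_pow_sub_C (1 : F) hs.ne').ne_zero
  have h2 : (minpoly F f).Splits := (X_pow_sub_one_splits hζ).of_dvd hne h1
  have hint : IsIntegral F f := Algebra.IsIntegral.isIntegral f
  obtain ⟨μ, hμ⟩ := h2.exists_eval_eq_zero (minpoly.degree_pos hint).ne'
  refine ⟨μ, ?_, Module.End.hasEigenvalue_iff_isRoot.mpr hμ⟩
  obtain ⟨q, hq⟩ := h1
  have := congrArg (eval μ) hq
  rw [eval_mul, hμ, zero_mul] at this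
  simpa [sub_eq_zero] using this

variable {n : ℕ} {F : Type*} [Field F]

lemma exists_eigvec (a : Matrix (Fin n) (Fin n) F) {s : ℕ} (hs : 0 < s) (ha : a ^ s = 1) {ζ : F}
    (hζ : IsPrimitiveRoot ζ s) (W : Submodule F (Fin n → F)) (hW : W ≠ ⊥) (hinv : ∀ w ∈ W, a *ᵥ w ∈ W) :
    ∃ μ : F, μ ^ s = 1 ∧ ∃ w ∈ W, w ≠ 0 ∧ a *ᵥ w = μ • w := by
  have hinv' : ∀ w ∈ W, Matrix.toLin' a w ∈ W := fun w hw => by
    rw [Matrix.toLin'_apply]; exact hinv w hw
  have : Nontrivial W := (Submodule.nontrivial_iff_ne_bot).mpr hW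
  obtain ⟨μ, hμ, hev⟩ := exists_eig ((Matrix.toLin' a).restrict hinv') hs (by
    rw [Module.End.pow_restrict s hinv']
    ext1 w
    apply Subtype.ext
    rw [LinearMap.restrict_apply]
    simp only [← Matrix.toLin'_pow, ha]
    simp) hζ
  obtain ⟨w, hw⟩ := hev.exists_hasEigenvector
  refine ⟨μ, hμ, w, w.2, fun h => hw.2 (Subtype.ext h), ?_⟩
  have := congrArg Subtype.val hw.apply_eq_smul
  simpa [Matrix.toLin'_apply] using this

/-- an abelian group of exponent `s` has a common eigenvector -/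
lemma exists_common_eigvec (hn : 0 < n) {A : Subgroup (GL (Fin n) F)}
    (hA : ∀ a ∈ A, ∀ b ∈ A, a * b = b * a) {s : ℕ} (hs : 0 < s) (hpow : ∀ g ∈ A, g ^ s = 1) {ζ : F}
    (hζ : IsPrimitiveRoot ζ s) :
    ∃ v : Fin n → F, v ≠ 0 ∧ ∀ a ∈ A, ∃ μ : F, μ ^ s = 1 ∧ (a : Matrix (Fin n) (Fin n) F) *ᵥ v = μ • v := by
  obtain ⟨W, hW, hW0, hmin⟩ := exists_min_inv hn A
  have key : ∀ a ∈ A, ∃ μ : F, μ ^ s = 1 ∧ ∀ w ∈ W, (a : Matrix (Fin n) (Fin n) F) *ᵥ w = μ • w := by
    intro a ha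
    obtain ⟨μ, hμ, w, hw, hw0, hwa⟩ := exists_eigvec (a : Matrix (Fin n) (Fin n) F) hs (by
      rw [← Units.val_pow_eq_pow_val, hpow a ha, Units.val_one]) hζ W hW0 (hW a ha)
    refine ⟨μ, hμ, ?_⟩
    let W' : Submodule F (Fin n → F) :=
      { carrier := {w | w ∈ W ∧ (a : Matrix (Fin n) (Fin n) F) *ᵥ w = μ • w}
        add_mem' := by
          rintro x y ⟨hx, hx'⟩ ⟨hy, hy'⟩
          exact ⟨W.add_mem hx hy, by rw [Matrix.mulVec_add, hx', hy', smul_add]⟩
        zero_mem' := ⟨W.zero_mem, by simp⟩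
        smul_mem' := by
          rintro c x ⟨hx, hx'⟩
          exact ⟨W.smul_mem c hx, by rw [Matrix.mulVec_smul, hx', smul_comm]⟩ }
    have hW'inv : Inv A W' := by
      rintro b hb x ⟨hx, hx'⟩
      refine ⟨hW b hb x hx, ?_⟩
      rw [Matrix.mulVec_mulVec, ← Units.val_mul, hA a ha b hb, Units.val_mul, ← Matrix.mulVec_mulVec, hx',
        Matrix.mulVec_smul]
    have hW'0 : W' ≠ ⊥ := by
      intro h
      have : w ∈ W' := ⟨hw, hwa⟩
      rw [h, Submodule.mem_bot] at this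
      exact hw0 this
    have hle : W' ≤ W := fun x hx => hx.1
    have heq : W' = W := Submodule.eq_of_le_of_finrank_le hle (hmin W' hW'inv hW'0)
    intro x hx
    have : x ∈ W' := by rw [heq]; exact hx
    exact this.2
  obtain ⟨v, hv, hv0⟩ := Submodule.exists_mem_ne_zero_of_ne_bot hW0
  refine ⟨v, hv0, fun a ha => ?_⟩
  obtain ⟨μ, hμ, h⟩ := key a ha
  exact ⟨μ, hμ, h v hv⟩

/-- a maximal abelian subgroup is self centralising -/
lemma exists_max_abelian {G : Type*} [Group G] [Finite G] (R : Subgroup G) :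
    ∃ A : Subgroup G, A ≤ R ∧ (∀ a ∈ A, ∀ b ∈ A, a * b = b * a) ∧
      ∀ g ∈ R, (∀ a ∈ A, g * a = a * g) → g ∈ A := by
  classical
  let 𝒜 : Set (Subgroup G) := {A | A ≤ R ∧ ∀ a ∈ A, ∀ b ∈ A, a * b = b * a}
  obtain ⟨A, hA, hmax⟩ := (Set.toFinite 𝒜).exists_maximal ⟨⊥, bot_le, by
    intro a ha b hb
    rw [Subgroup.mem_bot] at ha hb
    rw [ha, hb]⟩
  refine ⟨A, hA.1, hA.2, ?_⟩
  intro g hg hga
  have hc : ∀ x ∈ ((A : Set G) ∪ {g}), ∀ y ∈ ((A : Set G) ∪ {g}), x * y = y * x := by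
    rintro x (hx | hx) y (hy | hy)
    · exact hA.2 x hx y hy
    · rw [Set.mem_singleton_iff] at hy; subst hy; exact (hga x hx).symm
    · rw [Set.mem_singleton_iff] at hx; subst hx; exact hga y hy
    · rw [Set.mem_singleton_iff] at hx hy; rw [hx, hy]
  have hcc := Subgroup.isMulCommutative_closure hc
  have hmem : Subgroup.closure ((A : Set G) ∪ {g}) ∈ 𝒜 := by
    refine ⟨?_, ?_⟩
    · rw [Subgroup.closure_le]
      rintro x (hx | hx)
      · exact hA.1 hx
      · rw [Set.mem_singleton_iff] at hx; subst hx; exact hg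
    · intro a ha b hb
      exact congrArg Subtype.val (hcc.is_comm.comm ⟨a, ha⟩ ⟨b, hb⟩)
  have hle : A ≤ Subgroup.closure ((A : Set G) ∪ {g}) := fun x hx => Subgroup.subset_closure (Or.inl hx)
  exact hmax hmem hle (Subgroup.subset_closure (Or.inr rfl))

/-- coordinates of a monomial matrix -/
lemma coords_of_monomial (B g : GL (Fin n) F) (π : Equiv.Perm (Fin n)) (c : Fin n → F)
    (h : ∀ i, (g : Matrix (Fin n) (Fin n) F) *ᵥ ((B : Matrix (Fin n) (Fin n) F) *ᵥ Pi.single i 1) =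
      c i • ((B : Matrix (Fin n) (Fin n) F) *ᵥ Pi.single (π i) 1)) (v : Fin n → F) (i : Fin n) :
    (((B⁻¹ : GL (Fin n) F) : Matrix (Fin n) (Fin n) F) *ᵥ ((g : Matrix (Fin n) (Fin n) F) *ᵥ v)) (π i) =
      c i * (((B⁻¹ : GL (Fin n) F) : Matrix (Fin n) (Fin n) F) *ᵥ v) i := by
  let Mg : Matrix (Fin n) (Fin n) F :=
    ((B⁻¹ : GL (Fin n) F) : Matrix (Fin n) (Fin n) F) * g * B
  have hMg : ∀ j, Mg *ᵥ Pi.single j 1 = c j • Pi.single (π j) 1 := by
    intro j
    simp only [Mg]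
    rw [← Matrix.mulVec_mulVec, ← Matrix.mulVec_mulVec, h, Matrix.mulVec_smul, inv_mulVec_mulVec]
  have h1 : ((B⁻¹ : GL (Fin n) F) : Matrix (Fin n) (Fin n) F) *ᵥ ((g : Matrix (Fin n) (Fin n) F) *ᵥ v) =
      Mg *ᵥ (((B⁻¹ : GL (Fin n) F) : Matrix (Fin n) (Fin n) F) *ᵥ v) := by
    simp only [Mg]
    rw [← Matrix.mulVec_mulVec, mulVec_inv_mulVec, ← Matrix.mulVec_mulVec]
  rw [h1, Matrix.mulVec, dotProduct, Finset.sum_eq_single i]
  · have h2 := congrFun (hMg i) (π i)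
    rw [Matrix.mulVec_single_one] at h2
    simp only [Matrix.col, Matrix.transpose_apply, Pi.smul_apply, Pi.single_eq_same, smul_eq_mul,
      mul_one] at h2
    rw [h2]
  · intro j _ hj
    have h2 := congrFun (hMg j) (π i)
    rw [Matrix.mulVec_single_one] at h2
    have h3 : π i ≠ π j := fun h => hj (π.injective h).symm
    simp only [Matrix.col, Matrix.transpose_apply, Pi.smul_apply, Pi.single_eq_of_ne h3, smul_eq_mul,
      mul_zero] at h2
    rw [h2, zero_mul]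
  · intro h; exact absurd (Finset.mem_univ i) h

/-- the monomial normal form -/
theorem mono [Finite F] (hn : 0 < n) {R : Subgroup (GL (Fin n) F)} (hirr : ActsIrreducibly (matrixSet R))
    (hcomm : ⁅R, R⁆ ≤ scalars (Fin n) F) {s : ℕ} (hs : 0 < s) (hpow : ∀ g ∈ R, g ^ s = 1)
    {ζ : F} (hζ : IsPrimitiveRoot ζ s) :
    ∃ B : GL (Fin n) F, ∀ g ∈ R, ∃ (π : Equiv.Perm (Fin n)) (c : Fin n → F), (∀ i, c i ^ s = 1) ∧
      ∀ i, (g : Matrix (Fin n) (Fin n) F) *ᵥ ((B : Matrix (Fin n) (Fin n) F) *ᵥ Pi.single i 1) =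
        c i • ((B : Matrix (Fin n) (Fin n) F) *ᵥ Pi.single (π i) 1) := by
  classical
  have : NeZero n := ⟨hn.ne'⟩
  obtain ⟨A, hAR, hAc, hAmax⟩ := exists_max_abelian R
  obtain ⟨v0, hv0, hev⟩ := exists_common_eigvec hn hAc hs (fun g hg => hpow g (hAR hg)) hζ
  -- `A` is normal in `R`
  have hconj : ∀ t ∈ R, ∀ a ∈ R, ∃ z ∈ scalars (Fin n) F, z ∈ R ∧ t⁻¹ * a * t = z * a := by
    intro t ht a ha
    refine ⟨t⁻¹ * a * t * a⁻¹, ?_, ?_, by group⟩
    · have := comm_mem hcomm (R.inv_mem ht) ha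
      rwa [inv_inv] at this
    · exact R.mul_mem (R.mul_mem (R.mul_mem (R.inv_mem ht) ha) ht) (R.inv_mem ha)
  have hZA : ∀ z ∈ scalars (Fin n) F, z ∈ R → z ∈ A := fun z hz hzR =>
    hAmax z hzR (fun a _ => scalars_comm hz a)
  have hAnorm : ∀ t ∈ R, ∀ a ∈ A, t⁻¹ * a * t ∈ A := by
    intro t ht a ha
    obtain ⟨z, hz, hzR, e⟩ := hconj t ht a (hAR ha)
    rw [e]
    exact A.mul_mem (hZA z hz hzR) ha
  set A' := A.subgroupOf R with hA'
  let b : R ⧸ A' → (Fin n → F) := fun q => (((q.out : R) : GL (Fin n) F) : Matrix (Fin n) (Fin n) F) *ᵥ v0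
  have hb0 : ∀ q, b q ≠ 0 := by
    intro q h0
    apply hv0
    apply mulVec_injective ((q.out : R) : GL (Fin n) F)
    simpa [b] using h0
  -- action on the vectors `b q`
  have hact : ∀ g (hg : g ∈ R) (q : R ⧸ A'), ∃ μ : F, μ ^ s = 1 ∧
      (g : Matrix (Fin n) (Fin n) F) *ᵥ b q = μ • b (QuotientGroup.mk (⟨g, hg⟩ * q.out)) := by
    intro g hg q
    set t := q.out with ht
    set t' := (QuotientGroup.mk (⟨g, hg⟩ * t) : R ⧸ A').out with ht'
    have h1 : t'⁻¹ * (⟨g, hg⟩ * t) ∈ A' := by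
      rw [← QuotientGroup.eq]
      simp [t']
    have h2 : (t' : GL (Fin n) F)⁻¹ * (g * (t : GL (Fin n) F)) ∈ A := Subgroup.mem_subgroupOf.mp h1
    obtain ⟨μ, hμ, hμv⟩ := hev _ h2
    refine ⟨μ, hμ, ?_⟩
    have h3 : g * (t : GL (Fin n) F) = (t' : GL (Fin n) F) * ((t' : GL (Fin n) F)⁻¹ * (g * (t : GL (Fin n) F))) := by
      group
    show (g : Matrix (Fin n) (Fin n) F) *ᵥ (((t : GL (Fin n) F) : Matrix (Fin n) (Fin n) F) *ᵥ v0) =
      μ • (((t' : GL (Fin n) F) : Matrix (Fin n) (Fin n) F) *ᵥ v0)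
    rw [Matrix.mulVec_mulVec, ← Units.val_mul, h3, Units.val_mul, ← Matrix.mulVec_mulVec, hμv,
      Matrix.mulVec_smul]
  -- weights
  obtain ⟨j0, hj0⟩ := Function.ne_iff.mp hv0
  rw [Pi.zero_apply] at hj0
  let ev : GL (Fin n) F → F := fun g => ((g : Matrix (Fin n) (Fin n) F) *ᵥ v0) j0 / v0 j0
  have hevA : ∀ a ∈ A, (a : Matrix (Fin n) (Fin n) F) *ᵥ v0 = ev a • v0 := by
    intro a ha
    obtain ⟨μ, _, hμv⟩ := hev a ha
    have : ev a = μ := by
      simp only [ev, hμv, Pi.smul_apply, smul_eq_mul]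
      field_simp
    rw [this, hμv]
  let χ : R ⧸ A' → (A → F) := fun q a =>
    ev (((q.out : R) : GL (Fin n) F)⁻¹ * (a : GL (Fin n) F) * ((q.out : R) : GL (Fin n) F))
  have hbW : ∀ q, b q ∈ Wt A (χ q) := by
    intro q
    rw [mem_Wt]
    intro a
    set t := q.out with ht
    have h1 := hevA _ (hAnorm t t.2 a a.2)
    have h3 : (a : GL (Fin n) F) * (t : GL (Fin n) F) =
        (t : GL (Fin n) F) * ((t : GL (Fin n) F)⁻¹ * (a : GL (Fin n) F) * (t : GL (Fin n) F)) := by group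
    show ((a : GL (Fin n) F) : Matrix (Fin n) (Fin n) F) *ᵥ
      (((t : GL (Fin n) F) : Matrix (Fin n) (Fin n) F) *ᵥ v0) = _
    rw [Matrix.mulVec_mulVec, ← Units.val_mul, h3, Units.val_mul, ← Matrix.mulVec_mulVec, h1,
      Matrix.mulVec_smul]
  have hχinj : Function.Injective χ := by
    intro q q' hqq
    set t := q.out with ht
    set t' := q'.out with ht'
    have hu : (t : GL (Fin n) F) * (t' : GL (Fin n) F)⁻¹ ∈ A := by
      apply hAmax _ (R.mul_mem t.2 (R.inv_mem t'.2))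
      intro a ha
      obtain ⟨z, hz, hzR, e⟩ := hconj t t.2 a (hAR ha)
      obtain ⟨z', hz', hzR', e'⟩ := hconj t' t'.2 a (hAR ha)
      have h1 : ev ((t : GL (Fin n) F)⁻¹ * a * (t : GL (Fin n) F)) =
          ev ((t' : GL (Fin n) F)⁻¹ * a * (t' : GL (Fin n) F)) := congrFun hqq ⟨a, ha⟩
      have h2 := hevA _ (hAnorm t t.2 a ha)
      have h3 := hevA _ (hAnorm t' t'.2 a ha)
      rw [← h1, ← h2, e, e', Units.val_mul, Units.val_mul, eq_cv_smul hz, eq_cv_smul hz'] at h3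
      simp only [Matrix.smul_mul, one_mul, Matrix.smul_mulVec] at h3
      have h4 : (a : Matrix (Fin n) (Fin n) F) *ᵥ v0 ≠ 0 := by
        intro h0
        apply hv0
        apply mulVec_injective a
        simpa using h0
      have h5 : cv z' = cv z := by
        have : (cv z' - cv z) • ((a : Matrix (Fin n) (Fin n) F) *ᵥ v0) = 0 := by
          rw [sub_smul, h3, sub_self]
        rcases smul_eq_zero.mp this with h | h
        · exact sub_eq_zero.mp h
        · exact absurd h h4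
      have h6 : z' = z := eq_of_cv_eq hz' hz h5
      have h7 : (t : GL (Fin n) F)⁻¹ * a * (t : GL (Fin n) F) = (t' : GL (Fin n) F)⁻¹ * a * (t' : GL (Fin n) F) := by
        rw [e, e', h6]
      calc (t : GL (Fin n) F) * (t' : GL (Fin n) F)⁻¹ * a
          = (t : GL (Fin n) F) * ((t' : GL (Fin n) F)⁻¹ * a * (t' : GL (Fin n) F)) * (t' : GL (Fin n) F)⁻¹ := by group
        _ = (t : GL (Fin n) F) * ((t : GL (Fin n) F)⁻¹ * a * (t : GL (Fin n) F)) * (t' : GL (Fin n) F)⁻¹ := by rw [h7]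
        _ = a * ((t : GL (Fin n) F) * (t' : GL (Fin n) F)⁻¹) := by group
    have h8 : (t : GL (Fin n) F)⁻¹ * (t' : GL (Fin n) F) ∈ A := by
      have := hAnorm t t.2 _ (A.inv_mem hu)
      have e : (t : GL (Fin n) F)⁻¹ * ((t : GL (Fin n) F) * (t' : GL (Fin n) F)⁻¹)⁻¹ * (t : GL (Fin n) F) =
          (t : GL (Fin n) F)⁻¹ * (t' : GL (Fin n) F) := by group
      rwa [e] at this
    have h9 : t⁻¹ * t' ∈ A' := Subgroup.mem_subgroupOf.mpr h8
    have h10 : (QuotientGroup.mk t : R ⧸ A') = QuotientGroup.mk t' := QuotientGroup.eq.mpr h9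
    simpa [t, t'] using h10
  have hli : LinearIndependent F b :=
    ((indep_Wt hAc).comp hχinj).linearIndependent _ hbW hb0
  have hsp : ⊤ ≤ Submodule.span F (Set.range b) := by
    rw [actsIrreducibly_iff] at hirr
    rcases hirr (Submodule.span F (Set.range b)) (by
      intro g hg w hw
      induction hw using Submodule.span_induction with
      | mem x hx =>
        obtain ⟨q, rfl⟩ := hx
        obtain ⟨μ, _, e⟩ := hact g hg q
        rw [e]
        exact Submodule.smul_mem _ _ (Submodule.subset_span ⟨_, rfl⟩)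
      | zero => simp
      | add x y _ _ hx hy => rw [Matrix.mulVec_add]; exact Submodule.add_mem _ hx hy
      | smul c x _ hx => rw [Matrix.mulVec_smul]; exact Submodule.smul_mem _ _ hx) with h | h
    · exfalso
      have : b (QuotientGroup.mk 1) ∈ Submodule.span F (Set.range b) := Submodule.subset_span ⟨_, rfl⟩
      rw [h, Submodule.mem_bot] at this
      exact hb0 _ this
    · exact h.ge
  have hcard : Nat.card (R ⧸ A') = n := by
    have := Module.finrank_eq_nat_card_basis (Module.Basis.mk hli hsp)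
    rw [Module.finrank_fin_fun] at this
    exact this.symm
  have : Fintype (R ⧸ A') := Fintype.ofFinite _
  let e : (R ⧸ A') ≃ Fin n := Fintype.equivFinOfCardEq (by rw [← Nat.card_eq_fintype_card, hcard])
  let M : Matrix (Fin n) (Fin n) F := Matrix.of (fun a i => b (e.symm i) a)
  have hind : LinearIndependent F M.col := hli.comp _ e.symm.injective
  obtain ⟨B, hB⟩ := Matrix.linearIndependent_cols_iff_isUnit.mp hind
  have hBe : ∀ i, (B : Matrix (Fin n) (Fin n) F) *ᵥ Pi.single i 1 = b (e.symm i) := by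
    intro i
    rw [hB, Matrix.mulVec_single_one]
    rfl
  refine ⟨B, ?_⟩
  intro g hg
  let πf : R ⧸ A' → R ⧸ A' := fun q => QuotientGroup.mk (⟨g, hg⟩ * q.out)
  have hπinj : Function.Injective πf := by
    intro q q' hqq
    have h1 : (⟨g, hg⟩ * q.out)⁻¹ * (⟨g, hg⟩ * q'.out) ∈ A' := QuotientGroup.eq.mp hqq
    have h2 : (q.out)⁻¹ * q'.out ∈ A' := by
      have e : (⟨g, hg⟩ * q.out)⁻¹ * (⟨g, hg⟩ * q'.out) = (q.out)⁻¹ * q'.out := by group
      rwa [e] at h1
    have h3 : (QuotientGroup.mk q.out : R ⧸ A') = QuotientGroup.mk q'.out := QuotientGroup.eq.mpr h2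
    simpa using h3
  let π0 : Equiv.Perm (R ⧸ A') := Equiv.ofBijective πf (Finite.injective_iff_bijective.mp hπinj)
  choose μ hμ hμe using fun q => hact g hg q
  refine ⟨(e.symm.trans π0).trans e, fun i => μ (e.symm i), fun i => hμ _, fun i => ?_⟩
  rw [hBe, hBe, hμe]
  simp [π0, πf]

/-- `R` is monomial with respect to `B`, with non zero entries `s`-th roots of unity -/
def IsMono (R : Subgroup (GL (Fin n) F)) (B : GL (Fin n) F) (s : ℕ) : Prop :=
  ∀ g ∈ R, ∃ (π : Equiv.Perm (Fin n)) (c : Fin n → F), (∀ i, c i ^ s = 1) ∧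
      ∀ i, (g : Matrix (Fin n) (Fin n) F) *ᵥ ((B : Matrix (Fin n) (Fin n) F) *ᵥ Pi.single i 1) =
        c i • ((B : Matrix (Fin n) (Fin n) F) *ᵥ Pi.single (π i) 1)

theorem realisable_of_mono {R : Subgroup (GL (Fin n) F)} {B : GL (Fin n) F} {s : ℕ} (hB : IsMono R B s)
    (F₀ : Subfield F) (hF₀ : ∀ c : F, c ^ s = 1 → c ∈ F₀) : RealisableOver F₀ (matrixSet R) := by
  refine ⟨B⁻¹, ?_⟩
  rintro _ ⟨g, hg, rfl⟩ i j
  obtain ⟨π, c, hc, h⟩ := hB g hg
  rw [inv_inv]
  have h1 : (((B⁻¹ : GL (Fin n) F) : Matrix (Fin n) (Fin n) F) * (g : Matrix (Fin n) (Fin n) F) *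
      (B : Matrix (Fin n) (Fin n) F)) *ᵥ Pi.single j 1 = c j • Pi.single (π j) 1 := by
    rw [← Matrix.mulVec_mulVec, ← Matrix.mulVec_mulVec, h, Matrix.mulVec_smul, inv_mulVec_mulVec]
  have h2 := congrFun h1 i
  rw [Matrix.mulVec_single_one] at h2
  simp only [Matrix.col, Matrix.transpose_apply, Pi.smul_apply, smul_eq_mul] at h2
  rw [h2]
  by_cases hij : i = π j
  · subst hij
    simpa using hF₀ _ (hc j)
  · rw [Pi.single_eq_of_ne hij, mul_zero]
    exact F₀.zero_mem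

open Cfsg.Agent.Lib.Helper97AschC6 Cfsg.Agent.Lib.Helper97AschMono in
theorem unitary_of_mono {R : Subgroup (GL (Fin n) F)} {B : GL (Fin n) F} {s : ℕ} (hB : IsMono R B s)
    (σ : F ≃+* F) (hσ1 : σ ≠ RingEquiv.refl F) (hσ2 : ∀ a, σ (σ a) = a)
    (hσ : ∀ c : F, c ^ s = 1 → c * σ c = 1) :
    ∃ f : (Fin n → F) → (Fin n → F) → F, IsUnitaryForm σ f ∧ FixesForm (matrixSet R) f := by
  refine ⟨_, isUnitary_f₀ B σ hσ1 hσ2, ?_⟩
  rintro _ ⟨g, hg, rfl⟩ u v
  obtain ⟨π, c, hc, h⟩ := hB g hg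
  have h1 := coords_of_monomial B g π c h
  simp only [f₀]
  rw [← Equiv.sum_comp π]
  apply Finset.sum_congr rfl
  intro i _
  rw [h1 u i, h1 v i, map_mul]
  have h2 := hσ _ (hc i)
  generalize (((B⁻¹ : GL (Fin n) F) : Matrix (Fin n) (Fin n) F) *ᵥ u) i = a
  generalize σ ((((B⁻¹ : GL (Fin n) F) : Matrix (Fin n) (Fin n) F) *ᵥ v) i) = b
  calc c i * a * (σ (c i) * b) = (c i * σ (c i)) * (a * b) := by ring
    _ = a * b := by rw [h2, one_mul]

end Cfsg.Agent.Lib.Helper57AschC
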