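import Mathlib

/-!
PROJECT 81, piece `count`: number of ordered pairs with different values.
-/

set_option autoImplicit false

namespace Cfsg.Agent.Lib.Helper57D1Count

theorem count_pairs {I : Type*} [Fintype I] (r : I → ℂ) (i₀ j₀ : I) (h : r i₀ ≠ r j₀) :
    2 * (Fintype.card I - 1)
      ≤ (open Classical in (Finset.univ : Finset (I × I)).filter (fun q => r q.1 ≠ r q.2)).card := by
  classical
  set π : I → I := fun k => if r k ≠ r i₀ then i₀ else j₀ with hπ
  have hπne : ∀ k, r k ≠ r (π k) := by
    intro k
    by_cases hk : r k ≠ r i₀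
    · simp only [hπ, if_pos hk]; exact hk
    · simp only [hπ, if_neg hk]
      push Not at hk
      rw [hk]; exact h
  set S1 : Finset (I × I) := (Finset.univ.erase i₀).image (fun k => (k, π k)) with hS1
  set S2 : Finset (I × I) := (Finset.univ.erase i₀).image (fun k => (π k, k)) with hS2
  have c1 : S1.card = Fintype.card I - 1 := by
    rw [hS1, Finset.card_image_of_injective _ (fun a b hab => (Prod.ext_iff.mp hab).1),
      Finset.card_erase_of_mem (Finset.mem_univ _), Finset.card_univ]
  have c2 : S2.card = Fintype.card I - 1 := by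
    rw [hS2, Finset.card_image_of_injective _ (fun a b hab => (Prod.ext_iff.mp hab).2),
      Finset.card_erase_of_mem (Finset.mem_univ _), Finset.card_univ]
  have hdisj : Disjoint S1 S2 := by
    rw [Finset.disjoint_left]
    intro q h1 h2
    obtain ⟨k, hk, rfl⟩ := Finset.mem_image.mp h1
    obtain ⟨k', hk', hkk⟩ := Finset.mem_image.mp h2
    have hk0 : k ≠ i₀ := Finset.ne_of_mem_erase hk
    have hk0' : k' ≠ i₀ := Finset.ne_of_mem_erase hk'
    obtain ⟨e1, e2⟩ := Prod.ext_iff.mp hkk
    simp only at e1 e2
    -- e1 : π k' = k, e2 : k' = π k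
    by_cases hc : r k' ≠ r i₀
    · apply hk0
      rw [← e1]
      simp only [hπ, if_pos hc]
    · have hkj : k = j₀ := by
        rw [← e1]
        simp only [hπ, if_neg hc]
      apply hk0'
      rw [e2, hkj]
      simp only [hπ, if_pos h.symm]
  have hsub : S1 ∪ S2 ⊆ (Finset.univ : Finset (I × I)).filter (fun q => r q.1 ≠ r q.2) := by
    intro q hq
    rw [Finset.mem_filter]
    refine ⟨Finset.mem_univ _, ?_⟩
    rcases Finset.mem_union.mp hq with hq | hq
    · obtain ⟨k, _, rfl⟩ := Finset.mem_image.mp hq
      exact hπne k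
    · obtain ⟨k, _, rfl⟩ := Finset.mem_image.mp hq
      exact (hπne k).symm
  have := Finset.card_le_card hsub
  rw [Finset.card_union_of_disjoint hdisj, c1, c2] at this
  calc 2 * (Fintype.card I - 1) = (Fintype.card I - 1) + (Fintype.card I - 1) := by ring
    _ ≤ _ := by convert this

end Cfsg.Agent.Lib.Helper57D1Count
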