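import Mathlib

/-!
PROJECT 81, piece `relR`: the equivalence relation on the non-trivial `p`-th roots of unity
defined by a subgroup `E` of `(ℤ/p)ˣ`, and the number of its classes.
-/

set_option autoImplicit false

namespace Cfsg.Agent.Lib.Helper57D1RelR

/-- a quotient all of whose classes have `e` elements. -/
theorem card_quot' {Λ : Type*} [Finite Λ] (s : Setoid Λ) (e : ℕ)
    (h : ∀ l, Nat.card {l' // s.r l l'} = e) : Nat.card Λ = Nat.card (Quotient s) * e := by
  classical
  cases nonempty_fintype Λ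
  have e1 : Λ ≃ Σ q : Quotient s, {l // Quotient.mk s l = q} :=
    (Equiv.sigmaFiberEquiv (Quotient.mk s)).symm
  rw [Nat.card_congr e1, Nat.card_sigma]
  have : ∀ q : Quotient s, Nat.card {l // Quotient.mk s l = q} = e := by
    intro q
    induction q using Quotient.inductionOn with
    | h l =>
      rw [← h l]
      apply Nat.card_congr
      exact Equiv.subtypeEquivRight (fun l' => by
        rw [Quotient.eq]
        exact ⟨fun h' => s.symm h', fun h' => s.symm h'⟩)
  simp only [this, Finset.sum_const, Finset.card_univ, smul_eq_mul, Nat.card_eq_fintype_card]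

/-- piece `relR` -/
theorem relR {Λ : Type*} [Fintype Λ] (p : ℕ) (hp : p.Prime)
    (a : Λ → ℂ) (ha : ∀ l, a l ^ p = 1) (hinj : Function.Injective a)
    (hcard : Fintype.card Λ = p) (E : Finset ℕ) (hE : ∀ r ∈ E, 0 < r ∧ r < p) (h1 : 1 ∈ E)
    (hmul : ∀ r ∈ E, ∀ r' ∈ E, (r * r') % p ∈ E) (hinv : ∀ r ∈ E, ∃ r' ∈ E, (r * r') % p = 1) :
    ∃ hR : Equivalence (fun l l' : {l : Λ // a l ≠ 1} => ∃ r ∈ E, a l'.1 ^ r = a l.1),
      Nat.card (Quotient (⟨_, hR⟩ : Setoid {l : Λ // a l ≠ 1})) * E.card = p - 1 := by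
  classical
  have : Fact p.Prime := ⟨hp⟩
  have hmod : ∀ (l : Λ) (n : ℕ), a l ^ (n % p) = a l ^ n := by
    intro l n
    conv_rhs => rw [← Nat.div_add_mod n p, pow_add, pow_mul, ha, one_pow, one_mul]
  have hsurj : ∀ w : ℂ, w ^ p = 1 → ∃ l, a l = w := by
    intro w hw
    have hsub : Finset.univ.image a ⊆ Polynomial.nthRootsFinset p (1 : ℂ) := by
      intro x hx
      obtain ⟨l, _, rfl⟩ := Finset.mem_image.mp hx
      rw [Polynomial.mem_nthRootsFinset hp.pos]
      exact ha l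
    have hle : (Polynomial.nthRootsFinset p (1 : ℂ)).card ≤ (Finset.univ.image a).card := by
      rw [Finset.card_image_of_injective _ hinj, Finset.card_univ, hcard]
      unfold Polynomial.nthRootsFinset
      exact (Multiset.toFinset_card_le _).trans (Polynomial.card_nthRoots p 1)
    have heq := Finset.eq_of_subset_of_card_le hsub hle
    have : w ∈ Finset.univ.image a := by
      rw [heq, Polynomial.mem_nthRootsFinset hp.pos]
      exact hw
    obtain ⟨l, _, hl⟩ := Finset.mem_image.mp this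
    exact ⟨l, hl⟩
  have hprim : ∀ l, a l ≠ 1 → IsPrimitiveRoot (a l) p := by
    intro l hl
    have := IsPrimitiveRoot.orderOf (a l)
    rwa [orderOf_eq_prime (ha l) hl] at this
  have hinv' : ∀ r ∈ E, ∃ r' ∈ E, ∀ l, (a l ^ r) ^ r' = a l ∧ (a l ^ r') ^ r = a l := by
    intro r hr
    obtain ⟨r', hr', h⟩ := hinv r hr
    refine ⟨r', hr', fun l => ⟨?_, ?_⟩⟩
    · rw [← pow_mul, ← hmod, h, pow_one]
    · rw [← pow_mul, mul_comm, ← hmod, h, pow_one]
  have hR : Equivalence (fun l l' : {l : Λ // a l ≠ 1} => ∃ r ∈ E, a l'.1 ^ r = a l.1) := by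
    refine ⟨fun l => ⟨1, h1, pow_one _⟩, ?_, ?_⟩
    · rintro l l' ⟨r, hr, h⟩
      obtain ⟨r', hr', h'⟩ := hinv' r hr
      exact ⟨r', hr', by rw [← h, (h' _).1]⟩
    · rintro l l' l'' ⟨r, hr, h⟩ ⟨r', hr', h'⟩
      exact ⟨_, hmul r' hr' r hr, by rw [hmod, pow_mul, h', h]⟩
  refine ⟨hR, ?_⟩
  have hcl : ∀ l : {l : Λ // a l ≠ 1},
      Nat.card {l' : {l : Λ // a l ≠ 1} // ∃ r ∈ E, a l'.1 ^ r = a l.1} = E.card := by
    intro l
    have hch : ∀ x : {l' : {l : Λ // a l ≠ 1} // ∃ r ∈ E, a l'.1 ^ r = a l.1},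
        ∃ r : E, a x.1.1 ^ (r : ℕ) = a l.1 := fun x => by
      obtain ⟨r, hr, h⟩ := x.2
      exact ⟨⟨r, hr⟩, h⟩
    choose f hf using hch
    have hbij : Function.Bijective f := by
      constructor
      · intro x y hxy
        apply Subtype.ext
        apply Subtype.ext
        apply hinj
        obtain ⟨r', _, h'⟩ := hinv' (f x) (f x).2
        have e1 : a x.1.1 ^ ((f x : E) : ℕ) = a y.1.1 ^ ((f x : E) : ℕ) := by
          rw [hf x, hxy, hf y]
        calc a x.1.1 = (a x.1.1 ^ ((f x : E) : ℕ)) ^ r' := ((h' x.1.1).1).symm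
          _ = (a y.1.1 ^ ((f x : E) : ℕ)) ^ r' := by rw [e1]
          _ = a y.1.1 := (h' y.1.1).1
      · intro r
        obtain ⟨r', _, h'⟩ := hinv' r r.2
        obtain ⟨l', hl'⟩ := hsurj (a l.1 ^ r') (by rw [← pow_mul, mul_comm, pow_mul, ha, one_pow])
        have hpow : a l' ^ (r : ℕ) = a l.1 := by rw [hl', (h' _).2]
        have hne : a l' ≠ 1 := by
          intro h
          apply l.2
          rw [← hpow, h, one_pow]
        refine ⟨⟨⟨l', hne⟩, r, r.2, hpow⟩, ?_⟩
        apply Subtype.ext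
        have e1 := hf ⟨⟨l', hne⟩, r, r.2, hpow⟩
        simp only at e1
        exact (hprim l' hne).pow_inj (hE _ (f _).2).2 (hE _ r.2).2 (e1.trans hpow.symm)
    rw [Nat.card_congr (Equiv.ofBijective f hbij), Nat.card_eq_fintype_card, Fintype.card_coe]
  have hq := card_quot' (⟨_, hR⟩ : Setoid {l : Λ // a l ≠ 1}) E.card hcl
  rw [← hq]
  obtain ⟨l1, hl1⟩ := hsurj 1 (one_pow _)
  have e : {l : Λ // a l ≠ 1} ≃ {l : Λ // ¬ (l = l1)} :=
    Equiv.subtypeEquivRight (fun l => by
      constructor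
      · intro h h'
        exact h (h' ▸ hl1)
      · intro h h'
        exact h (hinj (h'.trans hl1.symm)))
  rw [Nat.card_congr e, Nat.card_eq_fintype_card, Fintype.card_subtype_compl,
    Fintype.card_subtype_eq, hcard]

end Cfsg.Agent.Lib.Helper57D1RelR
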