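import Mathlib
import Cfsg.Prelude.Def_DStar
import Cfsg.Prelude.Def_PLocal

set_option autoImplicit false

namespace Cfsg.Agent.Lib.Helper57DStar

open Subgroup
open scoped commutatorElement

variable {G : Type*} [Group G]

/-- If `z` centralizes `K` and `x ∈ K` then conjugation by `x` fixes `z`. -/
theorem conj_of_mem_centralizer {K : Subgroup G} {z x : G} (hz : z ∈ centralizer (K : Set G)) (hx : x ∈ K) :
    x * z * x⁻¹ = z := by
  have := hz x hx
  rw [this, mul_inv_cancel_right]

theorem conj_of_mem_centralizer' {K : Subgroup G} {z x : G} (hz : z ∈ centralizer (K : Set G)) (hx : x ∈ K) :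
    x⁻¹ * z * x = z := by
  have := hz x hx
  rw [mul_assoc, ← this, inv_mul_cancel_left]

/-- The closure of a set whose commutators commute with the generators has class at most two. -/
theorem class_two_closure (T : Set G)
    (h : ∀ s ∈ T, ∀ t ∈ T, ∀ u ∈ T, Commute ⁅s, t⁆ u) :
    ⁅⁅closure T, closure T⁆, closure T⁆ = ⊥ := by
  rw [commutator_eq_bot_iff_le_centralizer, commutator_le]
  have hZ : ∀ s ∈ T, ∀ t ∈ T, ⁅s, t⁆ ∈ centralizer (closure T : Set G) := by
    intro s hs t ht
    rw [centralizer_closure]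
    intro u hu
    exact (h s hs t ht u hu).symm.eq
  intro g hg k hk
  induction hg, hk using closure_induction₂ with
  | mem x y hx hy => exact hZ x hx y hy
  | one_left x hx => rw [commutatorElement_one_left]; exact one_mem _
  | one_right x hx => rw [commutatorElement_one_right]; exact one_mem _
  | mul_left x y z hx hy hz h1 h2 =>
    rw [commutatorElement_mul_left_eq_conj_mul, conj_of_mem_centralizer h2 hx]
    exact mul_mem h2 h1
  | mul_right y z x hy hz hx h1 h2 =>
    rw [commutatorElement_mul_right_eq_mul_conj, mul_assoc, mul_assoc, ← mul_assoc y,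
      conj_of_mem_centralizer h2 hy]
    exact mul_mem h1 h2
  | inv_left x y hx hy h1 =>
    have h2 : ⁅y, x⁆ ∈ centralizer (closure T : Set G) := by
      rw [← commutatorElement_inv]; exact inv_mem h1
    rw [commutatorElement_inv_left, conj_of_mem_centralizer' h2 hx]
    exact h2
  | inv_right x y hx hy h1 =>
    have h2 : ⁅y, x⁆ ∈ centralizer (closure T : Set G) := by
      rw [← commutatorElement_inv]; exact inv_mem h1
    rw [commutatorElement_inv_right, conj_of_mem_centralizer' h2 hy]
    exact h2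

theorem sup_zpowers_eq_closure (A : Subgroup G) (x : G) :
    A ⊔ zpowers x = closure ((A : Set G) ∪ {x}) := by
  rw [Subgroup.closure_union, closure_eq, zpowers_eq_closure]

/-- `⟨A, x⟩` has class at most two when `A` is abelian and the commutators `[a, x]` commute with `A` and `x`. -/
theorem class_two_sup_zpowers (A : Subgroup G) (hA : ∀ a ∈ A, ∀ b ∈ A, a * b = b * a) (x : G)
    (h1 : ∀ a ∈ A, Commute ⁅a, x⁆ x) (h2 : ∀ a ∈ A, ∀ b ∈ A, Commute ⁅a, x⁆ b) :
    ⁅⁅A ⊔ zpowers x, A ⊔ zpowers x⁆, A ⊔ zpowers x⁆ = ⊥ := by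
  rw [sup_zpowers_eq_closure]
  apply class_two_closure
  have key : ∀ s ∈ (A : Set G) ∪ {x}, ∀ t ∈ (A : Set G) ∪ {x},
      ⁅s, t⁆ = 1 ∨ (∃ a ∈ A, ⁅s, t⁆ = ⁅a, x⁆) ∨ (∃ a ∈ A, ⁅s, t⁆ = ⁅a, x⁆⁻¹) := by
    rintro s (hs | hs) t (ht | ht)
    · left; exact commutatorElement_eq_one_iff_mul_comm.mpr (hA s hs t ht)
    · right; left; rw [Set.mem_singleton_iff.mp ht]; exact ⟨s, hs, rfl⟩
    · right; right; rw [Set.mem_singleton_iff.mp hs]; exact ⟨t, ht, by rw [commutatorElement_inv]⟩
    · left; rw [Set.mem_singleton_iff.mp hs, Set.mem_singleton_iff.mp ht]; exact commutatorElement_self x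
  have key2 : ∀ a ∈ A, ∀ u ∈ (A : Set G) ∪ {x}, Commute ⁅a, x⁆ u := by
    rintro a ha u (hu | hu)
    · exact h2 a ha u hu
    · rw [Set.mem_singleton_iff.mp hu]; exact h1 a ha
  intro s hs t ht u hu
  rcases key s hs t ht with h | ⟨a, ha, h⟩ | ⟨a, ha, h⟩
  · rw [h]; exact Commute.one_left u
  · rw [h]; exact key2 a ha u hu
  · rw [h]; exact (key2 a ha u hu).inv_left

/-- `⟨B, x⟩` is abelian when `B` is and `x` centralizes `B`. -/
theorem comm_sup_zpowers (B : Subgroup G) (hB : ∀ a ∈ B, ∀ b ∈ B, a * b = b * a) (x : G)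
    (hx : ∀ b ∈ B, b * x = x * b) : IsMulCommutative ↥(B ⊔ zpowers x) := by
  rw [sup_zpowers_eq_closure]
  apply isMulCommutative_closure
  rintro s (hs | hs) t (ht | ht)
  · exact hB s hs t ht
  · rw [Set.mem_singleton_iff.mp ht]; exact hx s hs
  · rw [Set.mem_singleton_iff.mp hs]; exact (hx t ht).symm
  · rw [Set.mem_singleton_iff.mp hs, Set.mem_singleton_iff.mp ht]


theorem iterCommutator_le_lcs (N H : Subgroup G) (n : ℕ) :
    Cfsg.iterCommutator N H n ≤ (⊤ : Subgroup G).lowerCentralSeries n := by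
  induction n with
  | zero => exact le_top
  | succ k ih => exact commutator_mono ih le_top

theorem exists_iterCommutator_eq_bot [Group.IsNilpotent G] (N H : Subgroup G) :
    ∃ n, Cfsg.iterCommutator N H n = ⊥ := by
  obtain ⟨n, hn⟩ := Subgroup.nilpotent_iff_lowerCentralSeries.mp (inferInstance : Group.IsNilpotent G)
  exact ⟨n, le_bot_iff.mp (hn ▸ iterCommutator_le_lcs N H n)⟩

theorem iterCommutator_le_of_normal (N H : Subgroup G) [N.Normal] (n : ℕ) :
    Cfsg.iterCommutator N H n ≤ N := by
  induction n with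
  | zero => exact le_rfl
  | succ k ih => exact (commutator_mono ih le_rfl).trans (commutator_le_left N H)

/-- `⟨B, x⟩` is normal when `B` is and all commutators `[x, s]` lie in `B`. -/
theorem normal_sup_zpowers (B : Subgroup G) [hB : B.Normal] (x : G) (hx : ∀ s : G, ⁅x, s⁆ ∈ B) :
    (B ⊔ zpowers x).Normal := by
  refine ⟨fun n hn g => ?_⟩
  have h : B ⊔ zpowers x ≤ (B ⊔ zpowers x).comap (MulAut.conj g).toMonoidHom := by
    refine sup_le (fun b hb => ?_) ((zpowers_le).mpr ?_)
    · exact mem_comap.mpr (le_sup_left (a := B) (b := zpowers x) (hB.conj_mem b hb g))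
    · refine mem_comap.mpr ?_
      have e : (MulAut.conj g).toMonoidHom x = ⁅x, g⁆⁻¹ * x := by
        rw [commutatorElement_inv]
        simp [commutatorElement_def]
      rw [e]
      exact mul_mem (le_sup_left (a := B) (b := zpowers x) (inv_mem (hx g)))
        (le_sup_right (a := B) (b := zpowers x) (mem_zpowers x))
  exact h hn

/-- In a nilpotent group a maximal normal abelian subgroup contains its centralizer. -/
theorem centralizer_le_of_maximal [Group.IsNilpotent G] (B : Subgroup G) (hBn : B.Normal)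
    (hBc : IsMulCommutative B)
    (hmax : ∀ B' : Subgroup G, B'.Normal → IsMulCommutative B' → B ≤ B' → B' = B) :
    centralizer (B : Set G) ≤ B := by
  by_contra hcon
  obtain ⟨n, hn⟩ := exists_iterCommutator_eq_bot (centralizer (B : Set G)) (⊤ : Subgroup G)
  have hex : ∃ k, Cfsg.iterCommutator (centralizer (B : Set G)) (⊤ : Subgroup G) k ≤ B :=
    ⟨n, hn ▸ bot_le⟩
  classical
  have hk := Nat.find_spec hex
  have hmin := fun m => Nat.find_min hex (m := m)
  rcases hk0 : Nat.find hex with _ | m
  · rw [hk0] at hk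
    exact hcon hk
  · rw [hk0] at hk
    have hm : ¬ Cfsg.iterCommutator (centralizer (B : Set G)) (⊤ : Subgroup G) m ≤ B :=
      hmin m (by omega)
    obtain ⟨x, hxm, hxB⟩ := SetLike.not_le_iff_exists.mp hm
    have hxC : x ∈ centralizer (B : Set G) := iterCommutator_le_of_normal _ _ m hxm
    have hxs : ∀ s : G, ⁅x, s⁆ ∈ B := fun s => hk (commutator_mem_commutator hxm (mem_top s))
    have h1 := normal_sup_zpowers B x hxs
    have h2 := comm_sup_zpowers B (fun a ha b hb => setLike_mul_comm (s := B) ha hb) x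
      (fun b hb => hxC b hb)
    have h3 := hmax _ h1 h2 le_sup_left
    exact hxB (h3 ▸ (le_sup_right (a := B) (b := zpowers x) (mem_zpowers x)))

/-- In a nilpotent group a member of the family centralizes every abelian normal subgroup. -/
theorem family_centralizes [Group.IsNilpotent G] {A : Subgroup G} (hA : A ∈ Cfsg.dStarFamily G)
    (B : Subgroup G) [hBn : B.Normal] (hBc : IsMulCommutative B) :
    B ≤ centralizer (A : Set G) := by
  have hAc : IsMulCommutative A := hA.1
  have step : ∀ k, Cfsg.iterCommutator B A (k + 2) = ⊥ → Cfsg.iterCommutator B A (k + 1) = ⊥ := by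
    intro k hk
    have hk' : Cfsg.iterCommutator B A (k + 1) ≤ centralizer (A : Set G) :=
      commutator_eq_bot_iff_le_centralizer.mp hk
    refine commutator_eq_bot_iff_le_centralizer.mpr (fun x hx => ?_)
    have hxB : x ∈ B := iterCommutator_le_of_normal B A k hx
    have hc : ∀ a ∈ A, ⁅a, x⁆ ∈ Cfsg.iterCommutator B A (k + 1) := by
      intro a ha
      rw [← commutatorElement_inv]
      exact inv_mem (commutator_mem_commutator hx ha)
    refine hA.2 x (class_two_sup_zpowers A
      (fun a ha b hb => setLike_mul_comm (s := A) ha hb) x ?_ ?_)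
    · intro a ha
      exact setLike_mul_comm (s := B) (iterCommutator_le_of_normal B A (k + 1) (hc a ha)) hxB
    · intro a ha b hb
      exact (hk' (hc a ha) b hb).symm
  have all : ∀ n, Cfsg.iterCommutator B A n = ⊥ → Cfsg.iterCommutator B A 1 = ⊥ := by
    intro n
    induction n with
    | zero =>
      intro h
      have h' : B = ⊥ := h
      show ⁅B, A⁆ = ⊥
      rw [h']; exact commutator_bot_left A
    | succ m ih =>
      intro h
      rcases m with _ | j
      · exact h
      · exact ih (step j h)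
  obtain ⟨n, hn⟩ := exists_iterCommutator_eq_bot B A
  exact commutator_eq_bot_iff_le_centralizer.mp (all n hn)

theorem exists_maximal_normal_abelian [Finite G] :
    ∃ B : Subgroup G, B.Normal ∧ IsMulCommutative B ∧
      ∀ B' : Subgroup G, B'.Normal → IsMulCommutative B' → B ≤ B' → B' = B := by
  have hfin : {B : Subgroup G | B.Normal ∧ IsMulCommutative B}.Finite := Set.toFinite _
  have hne : {B : Subgroup G | B.Normal ∧ IsMulCommutative B}.Nonempty :=
    ⟨⊥, inferInstance, inferInstance⟩
  obtain ⟨B, hB⟩ := hfin.exists_maximal hne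
  exact ⟨B, hB.prop.1, hB.prop.2, fun B' h1 h2 h3 => le_antisymm (hB.le_of_ge ⟨h1, h2⟩ h3) h3⟩

theorem dStar_le_of_maximal [Group.IsNilpotent G] (B : Subgroup G) (hBn : B.Normal)
    (hBc : IsMulCommutative B)
    (hmax : ∀ B' : Subgroup G, B'.Normal → IsMulCommutative B' → B ≤ B' → B' = B) :
    Cfsg.dStar G ≤ B := by
  refine sSup_le (fun A hA => ?_)
  exact (le_centralizer_iff.mp (family_centralizes hA B hBc)).trans
    (centralizer_le_of_maximal B hBn hBc hmax)

theorem isMulCommutative_of_le {H K : Subgroup G} (h : H ≤ K) (hK : IsMulCommutative K) :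
    IsMulCommutative H :=
  le_centralizer_iff_isMulCommutative.mp
    (fun _ hx _ hy => setLike_mul_comm (s := K) (h hy) (h hx))

theorem dStar_mem_family [Finite G] [Group.IsNilpotent G] : Cfsg.dStar G ∈ Cfsg.dStarFamily G := by
  obtain ⟨B, hBn, hBc, hmax⟩ := exists_maximal_normal_abelian (G := G)
  refine ⟨isMulCommutative_of_le (dStar_le_of_maximal B hBn hBc hmax) hBc, fun x hx => ?_⟩
  have h : Cfsg.dStar G ≤ centralizer ({x} : Set G) := by
    refine sSup_le (fun A hA a ha => ?_)
    have hle : A ⊔ zpowers x ≤ Cfsg.dStar G ⊔ zpowers x := sup_le_sup_right (le_sSup hA) _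
    have h0 : ⁅⁅A ⊔ zpowers x, A ⊔ zpowers x⁆, A ⊔ zpowers x⁆ = ⊥ :=
      le_bot_iff.mp (hx ▸ commutator_mono (commutator_mono hle hle) hle)
    exact mem_centralizer_singleton_iff.mpr (hA.2 x h0 a ha)
  intro a ha
  exact mem_centralizer_singleton_iff.mp (h ha)

end Cfsg.Agent.Lib.Helper57DStar
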