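import Mathlib

set_option autoImplicit false

namespace Cfsg.Agent.Lib.Helper57SPE

open Subgroup
open scoped Pointwise

variable {G : Type*} [Group G]

/-- Classical strongly `p`-embedded subgroup. -/
def SPE (p : ℕ) (H : Subgroup G) : Prop :=
  H ≠ ⊤ ∧ p ∣ Nat.card H ∧
    ∀ g : G, g ∉ H → ¬ p ∣ Nat.card ↥(H ⊓ H.map (MulAut.conj g).toMonoidHom)

theorem mem_smul_sylow {p : ℕ} {g x : G} {P : Sylow p G} :
    x ∈ (g • P : Sylow p G) ↔ g⁻¹ * x * g ∈ P := by
  have h : x ∈ (g • P : Sylow p G) ↔ x ∈ (MulAut.conj g • (P : Subgroup G)) := Iff.rfl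
  rw [h, Subgroup.mem_pointwise_smul_iff_inv_smul_mem]
  simp only [MulAut.smul_def, ← map_inv, MulAut.conj_apply, inv_inv]
  exact Iff.rfl

/-- A nontrivial `p`-subgroup contains an element of order `p`. -/
theorem exists_orderOf_eq {p : ℕ} [Fact p.Prime] [Finite G] {K : Subgroup G} (hK : IsPGroup p K)
    (hne : K ≠ ⊥) : ∃ x ∈ K, orderOf x = p := by
  have hnt : Nontrivial K := (Subgroup.nontrivial_iff_ne_bot K).mpr hne
  obtain ⟨n, hn, hcard⟩ := (hK.nontrivial_iff_card).mp hnt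
  have hdvd : p ∣ Nat.card K := by rw [hcard]; exact dvd_pow_self p (by omega)
  obtain ⟨x, hx⟩ := exists_prime_orderOf_dvd_card' p hdvd
  exact ⟨x, x.2, by rw [← hx, Subgroup.orderOf_coe]⟩

theorem exists_orderOf_eq_of_dvd {p : ℕ} [Fact p.Prime] [Finite G] {K : Subgroup G}
    (hdvd : p ∣ Nat.card K) : ∃ x ∈ K, orderOf x = p := by
  obtain ⟨x, hx⟩ := exists_prime_orderOf_dvd_card' p hdvd
  exact ⟨x, x.2, by rw [← hx, Subgroup.orderOf_coe]⟩

theorem isPGroup_zpowers {p : ℕ} [Fact p.Prime] {x : G} (ho : orderOf x = p) : IsPGroup p (zpowers x) :=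
  IsPGroup.of_card (n := 1) (by rw [Nat.card_zpowers, ho, pow_one])

theorem normal_closure_of_conj_mem (T : Set G) (h : ∀ t ∈ T, ∀ g : G, g * t * g⁻¹ ∈ T) :
    (closure T).Normal := by
  refine ⟨fun n hn g => ?_⟩
  induction hn using closure_induction with
  | mem x hx => exact subset_closure (h x hx g)
  | one => simp
  | mul x y _ _ hx hy =>
    have e : g * (x * y) * g⁻¹ = (g * x * g⁻¹) * (g * y * g⁻¹) := by group
    rw [e]; exact mul_mem hx hy
  | inv x _ hx =>
    have e : g * x⁻¹ * g⁻¹ = (g * x * g⁻¹)⁻¹ := by group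
    rw [e]; exact inv_mem hx

/-- The `p`-part power of an element has order prime to `p`. -/
theorem coprime_orderOf_pow [Finite G] {p : ℕ} [Fact p.Prime] (x : G) :
    (orderOf (x ^ (p ^ (orderOf x).factorization p))).Coprime p := by
  have hp : p.Prime := Fact.out
  have ho : orderOf x ≠ 0 := (orderOf_pos x).ne'
  rw [orderOf_pow' x (pow_ne_zero _ hp.ne_zero), Nat.gcd_eq_right (Nat.ordProj_dvd _ _)]
  exact (Nat.coprime_ordCompl hp ho).symm

/-- A Sylow subgroup together with the subgroup generated by the `p'`-elements generates the group. -/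
theorem exists_mul_of_sylow [Finite G] {p : ℕ} [Fact p.Prime] (P : Sylow p G) (n : G) :
    ∃ q ∈ P, q⁻¹ * n ∈ closure {g : G | (orderOf g).Coprime p} := by
  have hLn : (closure {g : G | (orderOf g).Coprime p}).Normal := by
    refine normal_closure_of_conj_mem _ (fun t ht g => ?_)
    have e : g * t * g⁻¹ = MulAut.conj g t := by simp
    show (orderOf (g * t * g⁻¹)).Coprime p
    rw [e, MulEquiv.orderOf_eq]; exact ht
  have hpg : IsPGroup p (G ⧸ closure {g : G | (orderOf g).Coprime p}) := by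
    intro q
    obtain ⟨x, rfl⟩ := QuotientGroup.mk_surjective q
    refine ⟨(orderOf x).factorization p, ?_⟩
    rw [← QuotientGroup.mk_pow, QuotientGroup.eq_one_iff]
    exact subset_closure (coprime_orderOf_pow x)
  have hsurj := QuotientGroup.mk'_surjective (closure {g : G | (orderOf g).Coprime p})
  have htop : (⊤ : Subgroup (G ⧸ closure {g : G | (orderOf g).Coprime p})) = (P.mapSurjective hsurj) :=
    (P.mapSurjective hsurj).is_maximal' (hpg.to_subgroup ⊤) le_top
  have hmem : QuotientGroup.mk' (closure {g : G | (orderOf g).Coprime p}) n ∈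
      ((P.mapSurjective hsurj : Sylow p _) : Subgroup (G ⧸ closure {g : G | (orderOf g).Coprime p})) := by
    rw [← htop]; trivial
  obtain ⟨q, hq, hqn⟩ := hmem
  exact ⟨q, hq, QuotientGroup.eq.mp hqn⟩

namespace SPE

variable {p : ℕ} {H : Subgroup G}

theorem mem_of_conj (h : SPE p H) {x g : G} (hx : x ∈ H) (ho : orderOf x = p)
    (hg : g⁻¹ * x * g ∈ H) : g ∈ H := by
  by_contra hgH
  apply h.2.2 g hgH
  have hle : zpowers x ≤ H ⊓ H.map (MulAut.conj g).toMonoidHom := by
    rw [zpowers_le]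
    refine ⟨hx, ⟨g⁻¹ * x * g, hg, ?_⟩⟩
    simp [MulAut.conj_apply, mul_assoc]
  have := Subgroup.card_dvd_of_le hle
  rwa [Nat.card_zpowers, ho] at this

theorem mem_of_commute (h : SPE p H) {x g : G} (hx : x ∈ H) (ho : orderOf x = p)
    (hg : g * x = x * g) : g ∈ H := by
  refine h.mem_of_conj hx ho ?_
  rw [mul_assoc, ← hg, inv_mul_cancel_left]
  exact hx

theorem le_of_mem [Fact p.Prime] [Finite G] (h : SPE p H) {P : Subgroup G} (hP : IsPGroup p P)
    {x : G} (hxP : x ∈ P) (hxH : x ∈ H) (ho : orderOf x = p) : P ≤ H := by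
  have hp : p.Prime := Fact.out
  have hx1 : x ≠ 1 := by
    rintro rfl
    rw [orderOf_one] at ho
    exact hp.one_lt.ne ho
  have hnt : Nontrivial P := ⟨⟨⟨x, hxP⟩, 1, fun hh => hx1 (congrArg Subtype.val hh)⟩⟩
  have hc : Nontrivial (center P) := hP.center_nontrivial
  have hcne : center P ≠ ⊥ := (Subgroup.nontrivial_iff_ne_bot _).mp hc
  obtain ⟨z, hz, hzo⟩ := exists_orderOf_eq (hP.to_subgroup (center P)) hcne
  have hzo' : orderOf (z : G) = p := by rw [Subgroup.orderOf_coe, hzo]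
  have hzx : (z : G) * x = x * z := by
    have := (Subgroup.mem_center_iff.mp hz) ⟨x, hxP⟩
    exact (congrArg Subtype.val this).symm
  have hzH : (z : G) ∈ H := h.mem_of_commute hxH ho hzx
  intro y hy
  refine h.mem_of_commute hzH hzo' ?_
  have := (Subgroup.mem_center_iff.mp hz) ⟨y, hy⟩
  exact congrArg Subtype.val this

theorem exists_sylow_le [Fact p.Prime] [Finite G] (h : SPE p H) : ∃ S : Sylow p G, (S : Subgroup G) ≤ H := by
  obtain ⟨x, hx, ho⟩ := exists_orderOf_eq_of_dvd h.2.1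
  obtain ⟨S, hS⟩ := (isPGroup_zpowers ho).exists_le_sylow
  exact ⟨S, h.le_of_mem S.isPGroup' (hS (mem_zpowers x)) hx ho⟩

theorem exists_conj_mem [Fact p.Prime] [Finite G] (h : SPE p H) {y : G} (ho : orderOf y = p) :
    ∃ g : G, g⁻¹ * y * g ∈ H := by
  obtain ⟨S, hS⟩ := h.exists_sylow_le
  obtain ⟨Q, hQ⟩ := (isPGroup_zpowers ho).exists_le_sylow
  obtain ⟨g, hg⟩ := MulAction.exists_smul_eq G S Q
  refine ⟨g, hS ?_⟩
  have : y ∈ (g • S : Sylow p G) := by rw [hg]; exact hQ (mem_zpowers y)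
  exact mem_smul_sylow.mp this

theorem normalizer_le (h : SPE p H) {Q : Subgroup G} (hQ : Q ≤ H) {x : G} (hx : x ∈ Q)
    (ho : orderOf x = p) : normalizer (Q : Set G) ≤ H := by
  intro g hg
  refine h.mem_of_conj (hQ hx) ho (hQ ?_)
  have := ((inv_mem hg) x).mp hx
  rwa [inv_inv] at this

/-- Frattini argument. -/
theorem sup_normal_eq_top [Fact p.Prime] [Finite G] (h : SPE p H) (N : Subgroup G) [hN : N.Normal]
    (hdvd : p ∣ Nat.card N) :
    ∃ P : Sylow p N, (P : Subgroup N).map N.subtype ≤ H ∧ H ⊔ N = ⊤ := by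
  obtain ⟨y, hyN, hyo⟩ := exists_orderOf_eq_of_dvd hdvd
  obtain ⟨g, hg⟩ := h.exists_conj_mem hyo
  have hxN : g⁻¹ * y * g ∈ N := by
    have := hN.conj_mem y hyN g⁻¹
    rwa [inv_inv] at this
  have hxo : orderOf (g⁻¹ * y * g) = p := by
    have e : g⁻¹ * y * g = MulAut.conj g⁻¹ y := by simp
    rw [e, MulEquiv.orderOf_eq, hyo]
  have hxo' : orderOf (⟨g⁻¹ * y * g, hxN⟩ : N) = p := by
    rw [← Subgroup.orderOf_coe]; exact hxo
  obtain ⟨P, hP⟩ := (isPGroup_zpowers hxo').exists_le_sylow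
  have hxP : g⁻¹ * y * g ∈ (P : Subgroup N).map N.subtype :=
    ⟨⟨g⁻¹ * y * g, hxN⟩, hP (mem_zpowers _), rfl⟩
  have hPH : (P : Subgroup N).map N.subtype ≤ H :=
    h.le_of_mem (P.isPGroup'.map N.subtype) hxP hg hxo
  refine ⟨P, hPH, ?_⟩
  have hF := Sylow.normalizer_sup_eq_top P
  have hle := h.normalizer_le hPH hxP hxo
  exact top_le_iff.mp (hF ▸ sup_le_sup_right hle N)

end SPE

end Cfsg.Agent.Lib.Helper57SPE
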