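import Cfsg.Agent.Lib.Helper95Herm

set_option autoImplicit false

/-! SU_6(2), class 3: abstract set-up.  `K/F` finite fields, `V` a `K`-space, `f` an `F`-Hermitian form on `V`
for which `K` is closed under adjoints.  Part A: the involution of `K` and the `K`-Hermitian form. -/

namespace Cfsg.Agent.Lib.Helper57U6A

open Cfsg.Agent.Lib.Helper95Herm

variable {F K V : Type*} [Field F] [Field K] [Algebra F K] [Finite K]

/-- trace and compatible ring homomorphisms -/
lemma trace_map (ρ : K →+* K) (ρ₀ : F →+* F)
    (h : ∀ a, ρ (algebraMap F K a) = algebraMap F K (ρ₀ a)) (x : K) :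
    Algebra.trace F K (ρ x) = ρ₀ (Algebra.trace F K x) := by
  apply (algebraMap F K).injective
  rw [← h, FiniteField.algebraMap_trace_eq_sum_pow, FiniteField.algebraMap_trace_eq_sum_pow, map_sum]
  simp [map_pow]

lemma trace_nondeg {c : K} (h : ∀ κ : K, Algebra.trace F K (κ * c) = 0) : c = 0 := by
  have := Finite.of_injective _ (algebraMap F K).injective
  have hnd := traceForm_nondegenerate F K
  apply hnd.1 c
  intro y
  rw [Algebra.traceForm_apply, mul_comm]
  exact h y

lemma trace_unique {c c' : K} (h : ∀ κ : K, Algebra.trace F K (κ * c) = Algebra.trace F K (κ * c')) :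
    c = c' := by
  rw [← sub_eq_zero]
  apply trace_nondeg (F := F)
  intro κ
  rw [mul_sub, map_sub, h, sub_self]

lemma exists_trace_repr (φ : K →ₗ[F] F) : ∃ c : K, ∀ κ, φ κ = Algebra.trace F K (κ * c) := by
  have := Finite.of_injective _ (algebraMap F K).injective
  have hnd := traceForm_nondegenerate F K
  refine ⟨((Algebra.traceForm F K).toDual hnd).symm φ, fun κ => ?_⟩
  have := LinearMap.BilinForm.apply_toDual_symm_apply (B := Algebra.traceForm F K) (hB := hnd) φ κ
  rw [Algebra.traceForm_apply] at this
  rw [mul_comm, this]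

variable [AddCommGroup V] [Module F V] [Module K V] [IsScalarTower F K V]
  {σ : F →+* F} {f : V → V → F}

omit [Finite K] [Algebra F K] [IsScalarTower F K V] in
lemma adj_unique [Nontrivial V] (hf : Herm σ f) {κ' κ'' : K}
    (h : ∀ u v : V, f u (κ' • v) = f u (κ'' • v)) : κ' = κ'' := by
  obtain ⟨v, hv⟩ := exists_ne (0 : V)
  by_contra hne
  have h1 : (κ' - κ'') • v ≠ 0 := smul_ne_zero (sub_ne_zero.mpr hne) hv
  obtain ⟨x, hx⟩ := hf.nondeg _ h1
  apply hx
  rw [sub_smul, hf.sub_right, h, sub_self]

omit [Finite K] in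
/-- the involution of `K` induced by the adjoint -/
theorem exists_bar [Nontrivial V] (hf : Herm σ f)
    (hadj : ∀ κ : K, ∃ κ' : K, ∀ u v : V, f (κ • u) v = f u (κ' • v)) :
    ∃ bar : K →+* K, (∀ (κ : K) (u v : V), f (κ • u) v = f u (bar κ • v)) ∧ (∀ κ, bar (bar κ) = κ) ∧
      (∀ a, bar (algebraMap F K a) = algebraMap F K (σ a)) := by
  choose b hb using hadj
  have huniq : ∀ κ κ' : K, (∀ u v : V, f (κ • u) v = f u (κ' • v)) → b κ = κ' := by
    intro κ κ' h
    apply adj_unique hf
    intro u v
    rw [← hb, h]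
  let bar : K →+* K :=
    { toFun := b
      map_one' := huniq _ _ (fun u v => by rw [one_smul, one_smul])
      map_mul' := fun x y => huniq _ _ (fun u v => by
        rw [mul_smul, hb, hb, smul_smul, mul_comm])
      map_zero' := huniq _ _ (fun u v => by rw [zero_smul, zero_smul, hf.zero_left, hf.zero_right])
      map_add' := fun x y => huniq _ _ (fun u v => by
        rw [add_smul, add_smul, hf.add_left, hf.add_right, hb, hb]) }
  refine ⟨bar, hb, ?_, ?_⟩
  · intro κ
    apply huniq
    intro u v
    show f (b κ • u) v = f u (κ • v)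
    rw [hf.herm, ← hb, ← hf.herm]
  · intro a
    apply huniq
    intro u v
    rw [algebraMap_smul, algebraMap_smul, hf.smul_left, hf.smul_right, hf.invol]

/-- the `K`-Hermitian form with trace `f` -/
theorem exists_h (hf : Herm σ f) {bar : K →+* K}
    (hadj : ∀ (κ : K) (u v : V), f (κ • u) v = f u (bar κ • v)) (hinv : ∀ κ, bar (bar κ) = κ)
    (halg : ∀ a, bar (algebraMap F K a) = algebraMap F K (σ a)) :
    ∃ h : V → V → K, (∀ (κ : K) (u v : V), f (κ • u) v = Algebra.trace F K (κ * h u v)) ∧ Herm bar h := by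
  have hex : ∀ u v : V, ∃ c : K, ∀ κ : K, f (κ • u) v = Algebra.trace F K (κ * c) := by
    intro u v
    let φ : K →ₗ[F] F :=
      { toFun := fun κ => f (κ • u) v
        map_add' := fun x y => by rw [add_smul, hf.add_left]
        map_smul' := fun a x => by
          rw [smul_assoc, hf.smul_left, RingHom.id_apply, smul_eq_mul] }
    exact exists_trace_repr φ
  choose h hh using hex
  refine ⟨h, fun κ u v => hh u v κ, ?_⟩
  refine ⟨?_, hinv, ?_, ?_, ?_, ?_⟩
  · intro hid
    apply hf.ne_id
    ext a
    apply (algebraMap F K).injective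
    rw [← halg, hid]
    rfl
  · intro x y v
    apply trace_unique (F := F)
    intro κ
    rw [← hh, smul_add, hf.add_left, hh, hh, mul_add, map_add]
  · intro c x v
    apply trace_unique (F := F)
    intro κ
    rw [← hh, smul_smul, hh, mul_assoc]
  · intro v w
    apply trace_unique (F := F)
    intro κ
    have e : κ * bar (h w v) = bar (bar κ * h w v) := by rw [map_mul, hinv]
    rw [e, trace_map bar σ halg, ← hh, ← hh, hadj κ v w]
    exact hf.herm _ _
  · intro v hv
    obtain ⟨x, hx⟩ := hf.nondeg v hv
    refine ⟨x, fun h0 => hx ?_⟩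
    have := hh x v 1
    rw [one_smul, h0, mul_zero, map_zero] at this
    exact this

end Cfsg.Agent.Lib.Helper57U6A
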