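import Cfsg.Agent.Lib.Helper57U6A

set_option autoImplicit false

/-! SU_6(2), class 3, part B: hyperbolic pairs in a Hermitian plane, the semilinear involution `J`. -/

namespace Cfsg.Agent.Lib.Helper57U6B

open Cfsg.Agent.Lib.Helper95Herm

variable {K V : Type*} [Field K] [AddCommGroup V] [Module K V] {bar : K →+* K} {h : V → V → K}

lemma exists_isotropic [Finite K] [FiniteDimensional K V] (hh : Herm bar h)
    (hV : Module.finrank K V = 2) : ∃ u : V, u ≠ 0 ∧ h u u = 0 := by
  classical
  obtain ⟨y₁, -, hy₁⟩ := hh.exists_perp ∅ (by simp [hV]) 1 (map_one _)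
  have hge := hh.finrank_perp_ge {y₁}
  rw [hV, Finset.card_singleton] at hge
  have hpos : 0 < Module.finrank K (hh.perp (({y₁} : Finset V) : Set V)) := by omega
  obtain ⟨⟨y₂, hy₂m⟩, hy₂0⟩ := Module.finrank_pos_iff_exists_ne_zero.mp hpos
  have hy₂0' : y₂ ≠ 0 := fun h0 => hy₂0 (Subtype.ext h0)
  have h21 : h y₂ y₁ = 0 := hy₂m y₁ (by simp)
  have h12 := hh.swap_zero h21
  by_cases hd : h y₂ y₂ = 0
  · exact ⟨y₂, hy₂0', hd⟩
  · obtain ⟨c, hc⟩ := hh.norm_surj (-(h y₂ y₂)⁻¹) (by rw [map_neg, map_inv₀, hh.self_fix])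
    refine ⟨y₁ + c • y₂, ?_, ?_⟩
    · intro h0
      have := congrArg (fun x => h x y₁) h0
      simp only [hh.add_left, hh.smul_left, hy₁, h21, hh.zero_left] at this
      simp at this
    · rw [hh.add_left, hh.add_right, hh.add_right, hh.smul_left, hh.smul_left, hh.smul_right,
        hh.smul_right, hy₁, h12, h21]
      have : c * (bar c * h y₂ y₂) = -1 := by
        rw [← mul_assoc, hc]
        field_simp
      rw [this]
      ring

theorem exists_hyp [Finite K] [FiniteDimensional K V] (hh : Herm bar h)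
    (hV : Module.finrank K V = 2) :
    ∃ u w : V, h u u = 0 ∧ h w w = 0 ∧ h u w = 1 ∧ ∀ v, v = h v w • u + h v u • w := by
  obtain ⟨u, hu0, hu⟩ := exists_isotropic hh hV
  obtain ⟨x, hx⟩ := hh.nondeg u hu0
  have hux : h u x ≠ 0 := hh.swap_ne hx
  obtain ⟨w₁, hw₁⟩ : ∃ w₁, h u w₁ = 1 := by
    refine ⟨bar (h u x)⁻¹ • x, ?_⟩
    rw [hh.smul_right, hh.invol]
    field_simp
  have hw₁u : h w₁ u = 1 := by rw [hh.herm, hw₁, map_one]
  obtain ⟨t, ht⟩ := hh.trace_surj (-(h w₁ w₁)) (by rw [map_neg, hh.self_fix])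
  obtain ⟨w, hw⟩ : ∃ w, w = w₁ + t • u := ⟨_, rfl⟩
  have huw : h u w = 1 := by rw [hw, hh.add_right, hh.smul_right, hu, hw₁]; ring
  have hwu : h w u = 1 := by rw [hh.herm, huw, map_one]
  have hww : h w w = 0 := by
    rw [hw, hh.add_left, hh.add_right, hh.add_right, hh.smul_left, hh.smul_left, hh.smul_right,
      hh.smul_right, hu, hw₁, hw₁u]
    linear_combination ht
  refine ⟨u, w, hu, hww, huw, ?_⟩
  have hli : LinearIndependent K ![u, w] := by
    rw [LinearIndependent.pair_iff]
    intro a b hab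
    have e1 := congrArg (fun x => h x w) hab
    have e2 := congrArg (fun x => h x u) hab
    simp only [hh.add_left, hh.smul_left, huw, hww, hu, hwu, hh.zero_left] at e1 e2
    constructor
    · simpa using e1
    · simpa using e2
  have hspan : Submodule.span K (Set.range ![u, w]) = ⊤ :=
    hli.span_eq_top_of_card_eq_finrank (by simp [hV])
  intro v
  by_contra hne
  have hne' : v - (h v w • u + h v u • w) ≠ 0 := sub_ne_zero.mpr hne
  obtain ⟨y, hy⟩ := hh.nondeg _ hne'
  have hy' := hh.swap_ne hy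
  apply hy'
  have hymem : y ∈ Submodule.span K (Set.range ![u, w]) := by rw [hspan]; trivial
  rw [Matrix.range_cons, Matrix.range_cons, Matrix.range_empty, Set.union_empty,
    Set.singleton_union, Submodule.mem_span_pair] at hymem
  obtain ⟨a, b, rfl⟩ := hymem
  rw [hh.sub_left, hh.add_left, hh.smul_left, hh.smul_left]
  simp only [hh.add_right, hh.smul_right, hu, huw, hwu, hww]
  ring

/-- coordinatewise conjugation in the hyperbolic basis `u, w` -/
def Jm (bar : K →+* K) (h : V → V → K) (u w : V) (v : V) : V := bar (h v w) • u + bar (h v u) • w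

section J

variable {u w : V}

lemma Jm_add (hh : Herm bar h) (x y : V) : Jm bar h u w (x + y) = Jm bar h u w x + Jm bar h u w y := by
  unfold Jm
  rw [hh.add_left, hh.add_left, map_add, map_add, add_smul, add_smul]
  abel

lemma Jm_smul (hh : Herm bar h) (c : K) (x : V) : Jm bar h u w (c • x) = bar c • Jm bar h u w x := by
  unfold Jm
  rw [hh.smul_left, hh.smul_left, map_mul, map_mul, smul_add, smul_smul, smul_smul]

lemma h_Jm_w (hh : Herm bar h) (hw : h w w = 0) (huw : h u w = 1) (v : V) :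
    h (Jm bar h u w v) w = bar (h v w) := by
  unfold Jm
  rw [hh.add_left, hh.smul_left, hh.smul_left, hw, huw]
  ring

lemma h_Jm_u (hh : Herm bar h) (hu : h u u = 0) (huw : h u w = 1) (v : V) :
    h (Jm bar h u w v) u = bar (h v u) := by
  have hwu : h w u = 1 := by rw [hh.herm, huw, map_one]
  unfold Jm
  rw [hh.add_left, hh.smul_left, hh.smul_left, hu, hwu]
  ring

lemma Jm_Jm (hh : Herm bar h) (hu : h u u = 0) (hw : h w w = 0) (huw : h u w = 1)
    (hexp : ∀ v, v = h v w • u + h v u • w) (v : V) : Jm bar h u w (Jm bar h u w v) = v := by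
  have e : Jm bar h u w (Jm bar h u w v) =
      bar (h (Jm bar h u w v) w) • u + bar (h (Jm bar h u w v) u) • w := rfl
  rw [e, h_Jm_w hh hw huw, h_Jm_u hh hu huw, hh.invol, hh.invol]
  exact (hexp v).symm

lemma h_expand (hh : Herm bar h) (hexp : ∀ v, v = h v w • u + h v u • w) (v v' : V) :
    h v v' = bar (h v' w) * h v u + bar (h v' u) * h v w := by
  conv_lhs => rw [hexp v']
  rw [hh.add_right, hh.smul_right, hh.smul_right]

lemma h_Jm_Jm (hh : Herm bar h) (hu : h u u = 0) (hw : h w w = 0) (huw : h u w = 1)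
    (hexp : ∀ v, v = h v w • u + h v u • w) (v v' : V) :
    h (Jm bar h u w v) (Jm bar h u w v') = bar (h v v') := by
  rw [h_expand hh hexp, h_Jm_w hh hw huw, h_Jm_u hh hu huw, h_Jm_w hh hw huw, h_Jm_u hh hu huw,
    h_expand hh hexp v v', map_add, map_mul, map_mul]

lemma Jm_u (hu : h u u = 0) (huw : h u w = 1) : Jm bar h u w u = u := by
  unfold Jm
  rw [hu, huw, map_one, map_zero, one_smul, zero_smul, add_zero]

lemma Jm_w (hh : Herm bar h) (hw : h w w = 0) (huw : h u w = 1) : Jm bar h u w w = w := by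
  have hwu : h w u = 1 := by rw [hh.herm, huw, map_one]
  unfold Jm
  rw [hw, hwu, map_one, map_zero, one_smul, zero_smul, zero_add]

/-- a semilinear similitude commutes with `J` up to an element of norm one (characteristic two). -/
theorem Jm_comm (hh : Herm bar h) (h2 : (2 : K) = 0) (hu : h u u = 0) (hw : h w w = 0) (huw : h u w = 1)
    (hexp : ∀ v, v = h v w • u + h v u • w) (g : V → V) (τ : K →+* K)
    (hgadd : ∀ x y, g (x + y) = g x + g y) (hgsmul : ∀ (c : K) x, g (c • x) = τ c • g x)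
    (hτ : ∀ c, τ (bar c) = bar (τ c)) (hgh : ∀ x y, h (g x) (g y) = τ (h x y)) :
    ∃ ε : K, ε * bar ε = 1 ∧ ∀ v, Jm bar h u w (g v) = ε • g (Jm bar h u w v) := by
  obtain ⟨a, ha⟩ : ∃ a, a = h (g u) w := ⟨_, rfl⟩
  obtain ⟨c, hc⟩ : ∃ c, c = h (g u) u := ⟨_, rfl⟩
  obtain ⟨b, hb⟩ : ∃ b, b = h (g w) w := ⟨_, rfl⟩
  obtain ⟨d, hd⟩ : ∃ d, d = h (g w) u := ⟨_, rfl⟩
  have hgu : g u = a • u + c • w := by rw [ha, hc]; exact hexp _
  have hgw : g w = b • u + d • w := by rw [hb, hd]; exact hexp _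
  have R1 : bar a * c + bar c * a = 0 := by
    have := hgh u u
    rw [hu, map_zero, h_expand hh hexp, ← ha, ← hc] at this
    exact this
  have R2 : bar b * d + bar d * b = 0 := by
    have := hgh w w
    rw [hw, map_zero, h_expand hh hexp, ← hb, ← hd] at this
    exact this
  have R3 : bar b * c + bar d * a = 1 := by
    have := hgh u w
    rw [huw, map_one, h_expand hh hexp, ← ha, ← hc, ← hb, ← hd] at this
    exact this
  have R3' : b * bar c + d * bar a = 1 := by
    have := congrArg bar R3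
    rw [map_add, map_mul, map_mul, hh.invol, hh.invol, map_one] at this
    exact this
  obtain ⟨Δ, hΔ⟩ : ∃ Δ, Δ = a * d + b * c := ⟨_, rfl⟩
  have ea : bar a * Δ = a := by
    rw [hΔ]; linear_combination a * R3' + b * R1 - (b * bar c * a) * h2
  have ec : bar c * Δ = c := by
    rw [hΔ]; linear_combination c * R3' + d * R1 - (d * bar a * c) * h2
  have eb : bar b * Δ = b := by
    rw [hΔ]; linear_combination b * R3 + a * R2 - (a * bar d * b) * h2
  have ed : bar d * Δ = d := by
    rw [hΔ]; linear_combination d * R3 + c * R2 - (c * bar b * d) * h2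
  have ea' : a * bar Δ = bar a := by
    have := congrArg bar ea
    rwa [map_mul, hh.invol] at this
  have ec' : c * bar Δ = bar c := by
    have := congrArg bar ec
    rwa [map_mul, hh.invol] at this
  have hN : Δ * bar Δ = 1 := by
    have h1 : a * (Δ * bar Δ - 1) = 0 := by linear_combination Δ * ea' + ea
    have h3 : c * (Δ * bar Δ - 1) = 0 := by linear_combination Δ * ec' + ec
    linear_combination bar b * h3 + bar d * h1 - (Δ * bar Δ - 1) * R3
  have hJu : Δ • Jm bar h u w (g u) = g u := by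
    rw [hgu, Jm_add hh, Jm_smul hh, Jm_smul hh, Jm_u hu huw, Jm_w hh hw huw, smul_add, smul_smul,
      smul_smul, mul_comm Δ, mul_comm Δ, ea, ec]
  have hJw : Δ • Jm bar h u w (g w) = g w := by
    rw [hgw, Jm_add hh, Jm_smul hh, Jm_smul hh, Jm_u hu huw, Jm_w hh hw huw, smul_add, smul_smul,
      smul_smul, mul_comm Δ, mul_comm Δ, eb, ed]
  have key : ∀ v, Δ • Jm bar h u w (g v) = g (Jm bar h u w v) := by
    intro v
    conv_lhs => rw [hexp v]
    rw [hgadd, hgsmul, hgsmul, Jm_add hh, Jm_smul hh, Jm_smul hh, smul_add, smul_comm Δ, smul_comm Δ,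
      hJu, hJw]
    conv_rhs => unfold Jm
    rw [hgadd, hgsmul, hgsmul, hτ, hτ]
  refine ⟨bar Δ, by rw [hh.invol, mul_comm]; exact hN, fun v => ?_⟩
  rw [← key, smul_smul, mul_comm, hN, one_smul]

end J

end Cfsg.Agent.Lib.Helper57U6B
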