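import Cfsg.Agent.Lib.Helper57U6B

set_option autoImplicit false

/-! SU_6(2), class 3, part C: determinants and arithmetic. -/

namespace Cfsg.Agent.Lib.Helper57U6C

open Cfsg.Agent.Lib.Helper95Herm Cfsg.Agent.Lib.Helper57U6A Cfsg.Agent.Lib.Helper57U6B

/-- `B(g v, g v') = B(d v, v')` for a non-degenerate bilinear form: `det g ^ 2 = det d`. -/
lemma det_mul_self_of_form {F V : Type*} [Field F] [AddCommGroup V] [Module F V] [FiniteDimensional F V]
    (B : V →ₗ[F] Module.Dual F V) (hB : Function.Injective B) (g d : V →ₗ[F] V)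
    (h : ∀ v v', B (g v') (g v) = B v' (d v)) :
    LinearMap.det g * LinearMap.det g = LinearMap.det d := by
  let e : V ≃ₗ[F] Module.Dual F V := B.linearEquivOfInjective hB Subspace.dual_finrank_eq.symm
  have he : ∀ v, e v = B v := fun v => rfl
  have key : ((e.symm : Module.Dual F V →ₗ[F] V) ∘ₗ g.dualMap ∘ₗ (e.symm.symm : V →ₗ[F] Module.Dual F V)) ∘ₗ g =
      (e.symm : Module.Dual F V →ₗ[F] V) ∘ₗ d.dualMap ∘ₗ (e.symm.symm : V →ₗ[F] Module.Dual F V) := by
    apply LinearMap.ext
    intro v'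
    simp only [LinearMap.comp_apply, LinearEquiv.coe_coe, LinearEquiv.symm_symm]
    congr 1
    apply LinearMap.ext
    intro v
    rw [LinearMap.dualMap_apply, LinearMap.dualMap_apply, he, he]
    exact h v v'
  have := congrArg LinearMap.det key
  rw [LinearMap.det_comp, LinearMap.det_conj, LinearMap.det_conj, LinearMap.det_dualMap,
    LinearMap.det_dualMap] at this
  exact this

/-- an involution of a finite field is a power of the Frobenius map -/
theorem invol_eq_frob {F : Type*} [Field F] [Fintype F] (K : Type*) [Field K] [Algebra F K] [Finite K]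
    (τ : K →ₐ[F] K) (hτ : ∀ a, τ (τ a) = a) (hne : ∃ a, τ a ≠ a) :
    ∃ i, Module.finrank F K = 2 * i ∧ ∀ a, τ a = a ^ (Fintype.card F ^ i) := by
  obtain ⟨⟨i, hi⟩, hiτ⟩ := (FiniteField.bijective_frobeniusAlgHom_pow F K).2 τ
  simp only at hiτ
  have h1 : FiniteField.frobeniusAlgHom F K ^ (2 * i) = 1 := by
    rw [mul_comm, pow_mul, hiτ]
    apply AlgHom.ext
    intro a
    rw [pow_two, AlgHom.mul_apply, hτ]
    rfl
  have h3 : Module.finrank F K ∣ 2 * i := by
    rw [← FiniteField.orderOf_frobeniusAlgHom F K]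
    exact orderOf_dvd_of_pow_eq_one h1
  have hi0 : i ≠ 0 := by
    rintro rfl
    obtain ⟨a, ha⟩ := hne
    apply ha
    rw [← hiτ, pow_zero]
    rfl
  obtain ⟨c, hc⟩ := h3
  have hc1 : c = 1 := by
    rcases Nat.lt_or_ge c 2 with h | h
    · interval_cases c
      · omega
      · rfl
    · exfalso
      have : Module.finrank F K * 2 ≤ Module.finrank F K * c := Nat.mul_le_mul_left _ h
      omega
  refine ⟨i, by rw [hc, hc1, mul_one], ?_⟩
  intro a
  rw [← hiτ, AlgHom.coe_pow, FiniteField.coe_frobeniusAlgHom, pow_iterate]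

/-- the involution of the field with `64` elements -/
lemma bar_eq_pow {K : Type*} [Field K] [Finite K] (hK : Nat.card K = 64) (bar : K →+* K)
    (hinv : ∀ a, bar (bar a) = a) (hne : bar ≠ RingHom.id K) (a : K) : bar a = a ^ 8 := by
  have : Fact (Nat.Prime 2) := ⟨Nat.prime_two⟩
  have : Fintype K := Fintype.ofFinite K
  have hchar : CharP K 2 := charP_of_card_eq_prime_pow (p := 2) (f := 6) (by
    rw [← Nat.card_eq_fintype_card, hK]; norm_num)
  let _ : Algebra (ZMod 2) K := ZMod.algebra K 2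
  let τ : K →ₐ[ZMod 2] K := AlgHom.mk bar (fun r => by
    have : (bar : K →+* K).comp (algebraMap (ZMod 2) K) = algebraMap (ZMod 2) K := Subsingleton.elim _ _
    exact congrArg (fun φ : ZMod 2 →+* K => φ r) this)
  obtain ⟨i, hi, hτ⟩ := invol_eq_frob (F := ZMod 2) K τ hinv (by
    by_contra hcon
    push Not at hcon
    exact hne (RingHom.ext hcon))
  have hfr : Module.finrank (ZMod 2) K = 6 := by
    have h1 := Module.natCard_eq_pow_finrank (K := ZMod 2) (V := K)
    rw [hK, Nat.card_zmod] at h1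
    exact (Nat.pow_right_injective (le_refl 2) (by show 2 ^ 6 = 2 ^ _; rw [← h1])).symm
  have hi3 : i = 3 := by omega
  subst hi3
  have := hτ a
  rw [ZMod.card] at this
  exact this

variable {F K : Type*} [Field F] [Field K] [Algebra F K] [Finite K]

lemma mem_range_of_norms (hF4 : Nat.card F = 4) (hK64 : Nat.card K = 64) {bar : K →+* K}
    (hinv : ∀ a, bar (bar a) = a) (hne : bar ≠ RingHom.id K) (δ : K) (h1 : δ * bar δ = 1)
    (h2 : Algebra.norm F δ = 1) : ∃ a : F, algebraMap F K a = δ := by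
  classical
  have := Finite.of_injective _ (algebraMap F K).injective
  have : Fintype F := Fintype.ofFinite F
  have e9 : δ ^ 9 = 1 := by
    rw [bar_eq_pow hK64 bar hinv hne] at h1
    rw [← h1]; ring
  have e21 : δ ^ 21 = 1 := by
    have := FiniteField.algebraMap_norm_eq_pow (K := F) (K' := K) (x := δ)
    rw [h2, map_one, hF4, hK64] at this
    exact this.symm
  have e3 : δ ^ 3 = 1 := by
    have : δ ^ 21 = (δ ^ 9) ^ 2 * δ ^ 3 := by ring
    rw [this, e9] at e21
    simpa using e21
  obtain ⟨x, hx⟩ : ∃ x : F, x ∉ ({0, 1} : Finset F) := by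
    by_contra hcon
    push Not at hcon
    have h3 : (Finset.univ : Finset F) ⊆ {0, 1} := fun x _ => hcon x
    have h4 := Finset.card_le_card h3
    rw [Finset.card_univ, ← Nat.card_eq_fintype_card, hF4] at h4
    have := Finset.card_le_two (a := (0 : F)) (b := 1)
    omega
  simp only [Finset.mem_insert, Finset.mem_singleton, not_or] at hx
  have hx3 : x ^ 3 = 1 := by
    have := FiniteField.pow_card_sub_one_eq_one x hx.1
    rwa [← Nat.card_eq_fintype_card, hF4] at this
  have hx2 : x ^ 2 + x + 1 = 0 := by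
    have h5 : (x - 1) * (x ^ 2 + x + 1) = 0 := by linear_combination hx3
    rcases mul_eq_zero.mp h5 with h6 | h6
    · exact absurd (sub_eq_zero.mp h6) hx.2
    · exact h6
  obtain ⟨ω, hω⟩ : ∃ ω, ω = algebraMap F K x := ⟨_, rfl⟩
  have hω2 : ω ^ 2 + ω + 1 = 0 := by
    have := congrArg (algebraMap F K) hx2
    simpa [← hω] using this
  have hprod : (δ - 1) * ((δ - ω) * (δ - ω ^ 2)) = 0 := by
    linear_combination e3 + (-δ ^ 2 + ω * δ - ω + 1) * hω2
  rcases mul_eq_zero.mp hprod with h6 | h6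
  · exact ⟨1, by rw [map_one]; exact (sub_eq_zero.mp h6).symm⟩
  · rcases mul_eq_zero.mp h6 with h7 | h7
    · exact ⟨x, by rw [← hω]; exact (sub_eq_zero.mp h7).symm⟩
    · exact ⟨x ^ 2, by rw [map_pow, ← hω]; exact (sub_eq_zero.mp h7).symm⟩

end Cfsg.Agent.Lib.Helper57U6C
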