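import Cfsg.Agent.Lib.Helper57U6C

set_option autoImplicit false

/-! SU_6(2), class 3, part D: the abstract theorem. -/

namespace Cfsg.Agent.Lib.Helper57U6D

open Cfsg.Agent.Lib.Helper95Herm Cfsg.Agent.Lib.Helper57U6A Cfsg.Agent.Lib.Helper57U6B
  Cfsg.Agent.Lib.Helper57U6C

variable {F K V : Type*} [Field F] [Field K] [Algebra F K] [Finite K]
  [AddCommGroup V] [Module F V] [Module K V] [IsScalarTower F K V]
  {σ : F →+* F} {f : V → V → F}

theorem exists_tau [FiniteDimensional K V] [Nontrivial V] (hf : Herm σ f) {bar : K →+* K}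
    (hadj : ∀ (κ : K) (u v : V), f (κ • u) v = f u (bar κ • v))
    (g : V →ₗ[F] V) (hiso : ∀ u v, f (g u) (g v) = f u v)
    (hnorm : ∀ κ : K, ∃ κ' : K, ∀ v, g (κ • v) = κ' • g v) :
    ∃ τ : K →+* K, (∀ (κ : K) v, g (κ • v) = τ κ • g v) ∧
      (∀ a, τ (algebraMap F K a) = algebraMap F K a) ∧
      (∀ c, τ (bar c) = bar (τ c)) ∧ Function.Surjective τ := by
  have hVfin : Finite V := Module.finite_of_finite K
  have hginj : Function.Injective g := by
    rw [injective_iff_map_eq_zero]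
    intro v hv
    by_contra hne
    obtain ⟨x, hx⟩ := hf.nondeg v hne
    apply hx
    rw [← hiso, hv, hf.zero_right]
  have hgsurj : Function.Surjective g := Finite.injective_iff_surjective.mp hginj
  choose t ht using hnorm
  obtain ⟨v₀, hv₀⟩ := exists_ne (0 : V)
  have hgv₀ : g v₀ ≠ 0 := fun h0 => hv₀ (hginj (by rw [h0, map_zero]))
  have huniq : ∀ κ κ' : K, (∀ v, g (κ • v) = κ' • g v) → t κ = κ' := by
    intro κ κ' h
    have h1 : (t κ - κ') • g v₀ = 0 := by rw [sub_smul, ← ht, h, sub_self]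
    rcases smul_eq_zero.mp h1 with h2 | h2
    · exact sub_eq_zero.mp h2
    · exact absurd h2 hgv₀
  let τ : K →+* K :=
    { toFun := t
      map_one' := huniq _ _ (fun v => by rw [one_smul, one_smul])
      map_mul' := fun x y => huniq _ _ (fun v => by rw [mul_smul, ht, ht, smul_smul])
      map_zero' := huniq _ _ (fun v => by rw [zero_smul, zero_smul, map_zero])
      map_add' := fun x y => huniq _ _ (fun v => by rw [add_smul, add_smul, map_add, ht, ht]) }
  refine ⟨τ, ht, ?_, ?_, ?_⟩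
  · intro a
    apply huniq
    intro v
    rw [algebraMap_smul, algebraMap_smul, map_smul]
  · intro c
    apply huniq
    intro v
    by_contra hne
    obtain ⟨y, hy⟩ := hf.nondeg _ (sub_ne_zero.mpr hne)
    obtain ⟨x, rfl⟩ := hgsurj y
    apply hy
    show f (g x) (g (bar c • v) - bar (t c) • g v) = 0
    rw [hf.sub_right, hiso, ← hadj, ← hadj, ← ht, hiso, sub_self]
  · exact Finite.injective_iff_surjective.mp τ.injective

theorem h_g (hf : Herm σ f) {h : V → V → K}
    (hh : ∀ (κ : K) (u v : V), f (κ • u) v = Algebra.trace F K (κ * h u v))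
    (g : V →ₗ[F] V) (hiso : ∀ u v, f (g u) (g v) = f u v) {τ : K →+* K}
    (hτ : ∀ (κ : K) v, g (κ • v) = τ κ • g v) (hτF : ∀ a, τ (algebraMap F K a) = algebraMap F K a)
    (hτs : Function.Surjective τ) (v v' : V) : h (g v) (g v') = τ (h v v') := by
  apply trace_unique (F := F)
  intro κ
  obtain ⟨l, rfl⟩ := hτs κ
  rw [← hh, ← hτ, hiso, hh, ← map_mul, trace_map τ (RingHom.id F) hτF]
  rfl

theorem abs_main [FiniteDimensional K V] (hF4 : Nat.card F = 4) (hK64 : Nat.card K = 64)
    (hV : Module.finrank K V = 2) (hf : Herm σ f)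
    (hadj : ∀ κ : K, ∃ κ' : K, ∀ u v : V, f (κ • u) v = f u (κ' • v)) :
    ∃ J : V → V, (∀ u v, J (u + v) = J u + J v) ∧ (∀ (c : F) v, J (c • v) = σ c • J v) ∧
      (∀ v, J (J v) = v) ∧ (∀ u v, f (J u) (J v) = σ (f u v)) ∧
      ∀ g : V →ₗ[F] V, (∀ u v, f (g u) (g v) = f u v) →
        (∀ κ : K, ∃ κ' : K, ∀ v, g (κ • v) = κ' • g v) → LinearMap.det g = 1 →
        ∃ μ : F, ∀ v, J (g v) = μ • g (J v) := by
  have : Nontrivial V := Module.nontrivial_of_finrank_pos (R := K) (by omega)
  have hFfin : Finite F := Finite.of_injective _ (algebraMap F K).injective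
  have : FiniteDimensional F V := Module.Finite.trans K V
  have : Fact (Nat.Prime 2) := ⟨Nat.prime_two⟩
  have : Fintype K := Fintype.ofFinite K
  have : Fintype F := Fintype.ofFinite F
  have hcharK : CharP K 2 := charP_of_card_eq_prime_pow (p := 2) (f := 6) (by
    rw [← Nat.card_eq_fintype_card, hK64]; norm_num)
  have hcharF : CharP F 2 := charP_of_card_eq_prime_pow (p := 2) (f := 2) (by
    rw [← Nat.card_eq_fintype_card, hF4]; norm_num)
  obtain ⟨bar, hbadj, hbinv, hbalg⟩ := exists_bar hf hadj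
  obtain ⟨h, hh, hH⟩ := exists_h hf hbadj hbinv hbalg
  obtain ⟨u, w, hu, hw, huw, hexp⟩ := exists_hyp hH hV
  have hftr : ∀ x y, f x y = Algebra.trace F K (h x y) := by
    intro x y
    have := hh 1 x y
    rwa [one_smul, one_mul] at this
  have hJJ := Jm_Jm hH hu hw huw hexp
  have hJsmul : ∀ (c : F) v, Jm bar h u w (c • v) = σ c • Jm bar h u w v := by
    intro c v
    rw [← algebraMap_smul K c v, Jm_smul hH, hbalg, algebraMap_smul]
  refine ⟨Jm bar h u w, Jm_add hH, hJsmul, hJJ, ?_, ?_⟩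
  · intro x y
    rw [hftr, h_Jm_Jm hH hu hw huw hexp, trace_map bar σ hbalg, ← hftr]
  intro g hiso hnorm hdet
  obtain ⟨τ, hτ, hτF, hτb, hτs⟩ := exists_tau hf hbadj g hiso hnorm
  obtain ⟨ε, hε, hJg⟩ := Jm_comm hH CharTwo.two_eq_zero hu hw huw hexp g τ g.map_add hτ hτb
    (h_g hf hh g hiso hτ hτF hτs)
  obtain ⟨δ, hδ⟩ := hτs (bar ε)
  have hδN : δ * bar δ = 1 := by
    apply τ.injective
    rw [map_mul, hτb, hδ, hbinv, map_one, mul_comm]
    exact hε
  let B : V →ₗ[F] Module.Dual F V := LinearMap.mk₂ F (fun v' v => f v (Jm bar h u w v'))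
    (fun x y v => by rw [Jm_add hH, hf.add_right])
    (fun c x v => by rw [hJsmul, hf.smul_right, hf.invol, smul_eq_mul])
    (fun x v v' => by rw [hf.add_left])
    (fun c x v => by rw [hf.smul_left, smul_eq_mul])
  have hBapp : ∀ v' v, B v' v = f v (Jm bar h u w v') := fun _ _ => rfl
  have hBinj : Function.Injective B := by
    rw [injective_iff_map_eq_zero]
    intro v' hv'
    by_contra hne
    have hJne : Jm bar h u w v' ≠ 0 := by
      intro h0
      apply hne
      rw [← hJJ v', h0]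
      have := hJsmul 0 0
      simpa using this
    obtain ⟨x, hx⟩ := hf.nondeg _ hJne
    apply hx
    rw [← hBapp, hv']
    rfl
  let d : V →ₗ[F] V := (δ • (LinearMap.id : V →ₗ[K] V)).restrictScalars F
  have hdapp : ∀ v, d v = δ • v := fun _ => rfl
  have hdd := det_mul_self_of_form B hBinj g d (by
    intro v v'
    rw [hBapp, hBapp, hJg, hdapp, ← hiso (δ • v), hτ, hδ, hbadj, hbinv])
  have hdetd : LinearMap.det d = Algebra.norm F δ * Algebra.norm F δ := by
    show LinearMap.det ((δ • (LinearMap.id : V →ₗ[K] V)).restrictScalars F) = _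
    rw [LinearMap.det_restrictScalars, LinearMap.det_smul, hV, LinearMap.det_id, mul_one, pow_two,
      map_mul]
  rw [hdet, hdetd, one_mul] at hdd
  have hnorm1 : Algebra.norm F δ = 1 := by
    have h5 : (Algebra.norm F δ - 1) * (Algebra.norm F δ - 1) = 0 := by
      have h2 : (2 : F) = 0 := CharTwo.two_eq_zero
      linear_combination -hdd + (1 - Algebra.norm F δ) * h2
    rcases mul_eq_zero.mp h5 with h6 | h6 <;> exact sub_eq_zero.mp h6
  obtain ⟨a, ha⟩ := mem_range_of_norms hF4 hK64 hbinv hH.ne_id δ hδN hnorm1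
  refine ⟨σ a, fun v => ?_⟩
  have hε' : ε = algebraMap F K (σ a) := by
    rw [← hbalg, ha, ← hbinv ε, ← hδ, ← ha, hτF]
  rw [hJg, hε', algebraMap_smul]

end Cfsg.Agent.Lib.Helper57U6D
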