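import Cfsg.Agent.Lib.Helper57U6D
import Cfsg.Agent.Lib.Helper17AschUDescent
import Cfsg.Agent.Lib.Helper13UDefs

set_option autoImplicit false

/-! SU_6(2), class 3: `N(K) ∩ SU_6(2)`, `K` an adjoint-closed field of degree three, lies in a subfield group
of index two (symplectic type): `3 × L_2(8):3 < 3 × Sp_6(2)`. -/

namespace Cfsg.Agent.Lib.Helper57U6Field

open Cfsg Cfsg.Geo Matrix
open Cfsg.Agent.Lib.Helper95Herm Cfsg.Agent.Lib.Helper97UBase Cfsg.Agent.Lib.Helper13UDefs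
  Cfsg.Agent.Lib.Helper17AschUDescent
open scoped MatrixGroups

/-- the abstract theorem with the dimension given by cardinalities -/
theorem abs_card {F K V : Type*} [Field F] [Field K] [Algebra F K] [Finite K]
    [AddCommGroup V] [Module F V] [Module K V] [IsScalarTower F K V] [Finite V]
    {σ : F →+* F} {f : V → V → F} (hF4 : Nat.card F = 4) (hK64 : Nat.card K = 64)
    (hV : Nat.card V = 4096) (hf : Herm σ f)
    (hadj : ∀ κ : K, ∃ κ' : K, ∀ u v : V, f (κ • u) v = f u (κ' • v)) :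
    ∃ J : V → V, (∀ u v, J (u + v) = J u + J v) ∧ (∀ (c : F) v, J (c • v) = σ c • J v) ∧
      (∀ v, J (J v) = v) ∧ (∀ u v, f (J u) (J v) = σ (f u v)) ∧
      ∀ g : V →ₗ[F] V, (∀ u v, f (g u) (g v) = f u v) →
        (∀ κ : K, ∃ κ' : K, ∀ v, g (κ • v) = κ' • g v) → LinearMap.det g = 1 →
        ∃ μ : F, ∀ v, J (g v) = μ • g (J v) := by
  have : FiniteDimensional K V := Module.Finite.of_finite
  apply Cfsg.Agent.Lib.Helper57U6D.abs_main hF4 hK64 _ hf hadj
  have h1 := Module.natCard_eq_pow_finrank (K := K) (V := V)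
  rw [hV, hK64] at h1
  exact (Nat.pow_right_injective (show 2 ≤ 64 by norm_num) (by show 64 ^ 2 = 64 ^ _; rw [← h1])).symm

/-- the same for a ring which is a field -/
theorem abs_ring {F L V : Type*} [Field F] [Ring L] [iA : Algebra F L] [Finite L]
    [AddCommGroup V] [Module F V] [iM : Module L V] [iT : IsScalarTower F L V] [Finite V]
    (hL : IsField L)
    {σ : F →+* F} {f : V → V → F} (hF4 : Nat.card F = 4) (hK64 : Nat.card L = 64)
    (hV : Nat.card V = 4096) (hf : Herm σ f)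
    (hadj : ∀ κ : L, ∃ κ' : L, ∀ u v : V, f (κ • u) v = f u (κ' • v)) :
    ∃ J : V → V, (∀ u v, J (u + v) = J u + J v) ∧ (∀ (c : F) v, J (c • v) = σ c • J v) ∧
      (∀ v, J (J v) = v) ∧ (∀ u v, f (J u) (J v) = σ (f u v)) ∧
      ∀ g : V →ₗ[F] V, (∀ u v, f (g u) (g v) = f u v) →
        (∀ κ : L, ∃ κ' : L, ∀ v, g (κ • v) = κ' • g v) → LinearMap.det g = 1 →
        ∃ μ : F, ∀ v, J (g v) = μ • g (J v) :=
  @abs_card F L V _ hL.toField iA _ _ _ iM iT _ σ f hF4 hK64 hV hf hadj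

variable {F : Type*} [Field F] {σ : F ≃+* F} {f : (Fin 6 → F) → (Fin 6 → F) → F}

/-- **`q = 2`, class 3 of `SU_6(2)`** -/
theorem field_two_u [Fintype F] (hU : US σ f 2) (K : Subalgebra F (Matrix (Fin 6) (Fin 6) F))
    (hK : IsFieldSubalgebra 3 K) (hs : IsAdjointClosedFor f K) {H : Subgroup (GL (Fin 6) F)}
    (hH : H ≤ Iso f ⊓ specialLinear (Fin 6) F) (hirr : ActsIrreducibly (matrixSet H))
    (hle : H ≤ subalgebraNormalizer K) : SubfieldTwoAlt 2 f H := by
  classical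
  have hf := hU.unitary
  have hF4 : Nat.card F = 4 := by rw [Nat.card_eq_fintype_card, hU.card]; norm_num
  have hsmul : ∀ (κ : K) (v : Fin 6 → F), κ • v = (κ : Matrix (Fin 6) (Fin 6) F) *ᵥ v :=
    fun κ v => rfl
  have iT : IsScalarTower F K (Fin 6 → F) := ⟨fun a κ v => by
    rw [hsmul, hsmul]
    simp [Matrix.smul_mulVec]⟩
  have hKf : IsField K := by
    refine ⟨exists_pair_ne K, fun a b => Subtype.ext (hK.comm a a.2 b b.2), ?_⟩
    intro a ha
    obtain ⟨y, hy, hxy⟩ := hK.inv a a.2 (fun h => ha (Subtype.ext h))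
    exact ⟨⟨y, hy⟩, Subtype.ext hxy⟩
  have hK64 : Nat.card K = 64 := by
    rw [Module.natCard_eq_pow_finrank (K := F), hF4, hK.finrank_eq]
    norm_num
  have hV : Nat.card (Fin 6 → F) = 4096 := by
    rw [Nat.card_eq_fintype_card, Fintype.card_fun, hU.card]
    norm_num
  obtain ⟨J, hadd, hsm, hJJ, hJf, hJg⟩ := abs_ring (L := K) (iT := iT) hKf hF4 hK64 hV (herm_of_unitary hf) (by
    intro κ
    obtain ⟨k', hk', h⟩ := hs κ κ.2
    exact ⟨⟨k', hk'⟩, h⟩)
  apply descent_core hf hU.card hU.pow (by norm_num) (hH.trans inf_le_left) hirr J hadd hsm hJJ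
    (Or.inl rfl) (by simpa using hJf)
  intro g hg
  obtain ⟨μ, hμ⟩ := hJg (Matrix.toLin' (g : Matrix (Fin 6) (Fin 6) F))
    (fun u v => by
      rw [Matrix.toLin'_apply, Matrix.toLin'_apply]
      exact mem_Iso.mp (hH hg).1 u v)
    (fun κ => by
      refine ⟨⟨_, (hle hg κ).mp κ.2⟩, fun v => ?_⟩
      rw [hsmul, hsmul, Matrix.toLin'_apply, Matrix.toLin'_apply, Matrix.mulVec_mulVec,
        Matrix.mulVec_mulVec]
      congr 1
      simp [mul_assoc])
    (by
      rw [LinearMap.det_toLin']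
      have h1 := (hH hg).2
      have h2 : Matrix.GeneralLinearGroup.det g = 1 := h1
      have h3 := congrArg Units.val h2
      simpa using h3)
  exact ⟨μ, hμ⟩

end Cfsg.Agent.Lib.Helper57U6Field
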