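import Mathlib
import Cfsg.Agent.Lib.Helper57ZJFus
import Cfsg.Agent.Lib.Helper39KInfFunctor
import Cfsg.Agent.Lib.Helper39Rel
import Cfsg.Agent.Lib.Helper31Pair4
import Cfsg.Agent.S0653

set_option autoImplicit false

/-! Control of strong fusion by `N(Z(J(S)))` (abelian version of `J`), global and "local over `Z(S)`" forms. -/

namespace Cfsg.Agent.Lib.Helper57ZJLoc

open Subgroup Cfsg
open Cfsg.Agent.Lib.Helper24Thompson Cfsg.Agent.Lib.Helper14Stable Cfsg.Agent.Lib.Helper39Sylow
  Cfsg.Agent.Lib.Helper39Control Cfsg.Agent.Lib.Helper39SecFusion Cfsg.Agent.Lib.Helper31Pair3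
  Cfsg.Agent.Lib.Helper39WellPlaced Cfsg.Agent.Lib.Helper39Fusion Cfsg.Agent.Lib.Helper39Rel

universe u

/-- control of strong fusion by `N(Z(J(S)))` for groups without quadratic pairs -/
theorem csf_ZJA {G : Type u} [Group G] [Finite G] {p : ℕ} [Fact p.Prime] (hp : p ≠ 2) (hno : NoQP p G)
    (S : Subgroup G) (hS : IsSyl p S ⊤) : CSF (inducedFunctor fZJA) ⊤ S := by
  apply csf_all (p := p) (W := fZJA) (isChar_fZJA p) (fun X _ => NoQP p X)
    (fun X _ _ Y h => h.subgroup Y) (fun X _ _ N _ h => h.quotient N) ?_ (Nat.card G) G rfl hno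
    S hS
  intro X _ _ hX hcon T hT
  have := Cfsg.Agent.S0653.result hp hcon (fun P _ hP => hX.isPStableOn P hP)
    (Cfsg.Agent.Lib.Helper39SecTransport.toSylowTop hT)
  rw [Cfsg.Agent.Lib.Helper39SecTransport.coe_toSylowTop, ← ind_fZJA] at this
  exact Subgroup.normal_of_characteristic _

/-- local to global for strong fusion, using only well placed subgroups containing `Z(S)` -/
theorem csf_of_local_center {G : Type*} [Group G] [Finite G] {p : ℕ} [Fact p.Prime]
    {W : Subgroup G → Subgroup G}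
    (hW : IsConjugacyFunctor p W) {S : Subgroup G} (hS : IsSyl p S ⊤)
    (hWZ : ∀ P : Subgroup G, IsPGroup p P → P ⊓ Subgroup.centralizer (P : Set G) ≤ W P)
    (hloc : ∀ T : Subgroup G, T ≠ ⊥ → IsWellPlaced p W S T →
      S ⊓ Subgroup.centralizer (S : Set G) ≤ T →
      CSF W (Subgroup.normalizer (T : Set G)) (S ⊓ Subgroup.normalizer (T : Set G))) :
    CSF W ⊤ S := by
  have claim : ∀ U : Subgroup G, IsWellPlaced p W S U → U ≠ ⊥ →
      S ⊓ Subgroup.centralizer (S : Set G) ≤ U →
      ∀ Q : Subgroup G, Q ≤ S ⊓ Subgroup.normalizer (U : Set G) → ∀ y ∈ Subgroup.normalizer (U : Set G),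
      cj y Q ≤ S ⊓ Subgroup.normalizer (U : Set G) →
      ∃ n ∈ Subgroup.normalizer ((W S : Subgroup G) : Set G), ∃ c ∈ Subgroup.centralizer (Q : Set G), y = n * c := by
    intro U
    induction' hn : (Nat.card S - Nat.card (S ⊓ Subgroup.normalizer (U : Set G) : Subgroup G))
      using Nat.strong_induction_on with n ih generalizing U
    intro hU hUne hZU Q hQ y hy hyQ
    set R := S ⊓ Subgroup.normalizer (U : Set G) with hR
    have hRp : IsPGroup p R := hS.2.1.to_le inf_le_left
    have hRS : R ≤ S := inf_le_left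
    obtain ⟨n0, hn0, c0, hc0, e0⟩ := hloc U hUne hU hZU Q hQ y hy hyQ
    rcases eq_or_lt_of_le hRS with hRe | hRlt
    · rw [← hR, hRe] at hn0
      exact ⟨n0, hn0.2, c0, hc0, e0⟩
    · have hUR : U ≤ R := le_inf hU.1 Subgroup.le_normalizer
      have hRne : R ≠ ⊥ := fun h => hUne (le_bot_iff.1 (h ▸ hUR))
      have hgrow : R < S ⊓ Subgroup.normalizer (R : Set G) := lt_inf_normalizer hS.2.1 hRlt
      have hle2 : S ⊓ Subgroup.normalizer (R : Set G) ≤ S ⊓ Subgroup.normalizer ((W R : Subgroup G) : Set G) :=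
        inf_le_inf_left _ (normalizer_le_normalizer_W hW hRp)
      have hc1 : Nat.card R < Nat.card (S ⊓ Subgroup.normalizer ((W R : Subgroup G) : Set G) : Subgroup G) :=
        lt_of_lt_of_le (card_lt_of_lt hgrow) (Subgroup.card_le_of_le hle2)
      have hc2 : Nat.card (S ⊓ Subgroup.normalizer ((W R : Subgroup G) : Set G) : Subgroup G) ≤ Nat.card S :=
        Subgroup.card_le_of_le inf_le_left
      have hRR1 : R ≤ S ⊓ Subgroup.normalizer ((W R : Subgroup G) : Set G) := hgrow.le.trans hle2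
      have e1 : cj n0 Q = cj y Q := by
        rw [e0, cj_mul, cj_eq_of_mem_centralizer hc0]
      have hZW : S ⊓ Subgroup.centralizer (S : Set G) ≤ W R := by
        refine (le_inf (hZU.trans hUR) ?_).trans (hWZ R hRp)
        exact inf_le_right.trans (Subgroup.centralizer_le hRS)
      obtain ⟨n1, hn1, c1, hc1', e2⟩ := ih _ (by omega) (W R) rfl (IsWellPlaced.next hS hW hU)
        (W_ne_bot hW hRp hRne) hZW Q (hQ.trans hRR1) n0 hn0.2 (by rw [e1]; exact hyQ.trans hRR1)
      exact ⟨n1, hn1, c1 * c0, mul_mem hc1' hc0, by rw [e0, e2, mul_assoc]⟩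
  have main : ∀ A : Subgroup G, A ≤ S → ∀ g : G, cj g A ≤ S →
      RelM (Subgroup.normalizer ((W S : Subgroup G) : Set G)) A g := by
    apply alperin_induction (p := p) S hS (RelM (Subgroup.normalizer ((W S : Subgroup G) : Set G)))
      (fun A g h _ _ _ h1 h2 => h1.trans h2)
      (fun A g _ _ h1 => h1.symm)
      (fun A B g _ _ hBA h1 => h1.mono hBA) {T : Subgroup G | IsWellPlaced p W S T}
    · intro T hT
      obtain ⟨g, hg⟩ := exists_wellPlaced_conj hS hW T hT
      exact ⟨_, hg, hg.1, ⟨g, rfl⟩, IsWellPlaced.isSyl hS hg⟩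
    · intro U hU hUS hsyl IH x hx
      by_cases hZU : S ⊓ Subgroup.centralizer (S : Set G) ≤ U
      · by_cases hUne : U = ⊥
        · refine ⟨1, one_mem _, x, ?_, by simp⟩
          rw [hUne]
          intro a ha
          have : a = 1 := ha
          rw [this]; simp
        · have hUR : U ≤ S ⊓ Subgroup.normalizer (U : Set G) := le_inf hUS Subgroup.le_normalizer
          exact claim U hU hUne hZU U hUR x hx (by rw [mem_normalizer_iff_cj.1 hx]; exact hUR)
      · -- Frattini argument with `C_G(U)`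
        have hCN : Subgroup.centralizer (U : Set G) ≤ Subgroup.normalizer (U : Set G) :=
          Subgroup.centralizer_le_normalizer _
        have hNC : Subgroup.normalizer (U : Set G) ≤
            Subgroup.normalizer ((Subgroup.centralizer (U : Set G) : Subgroup G) : Set G) := by
          intro n hn
          rw [mem_normalizer_iff_cj, ← centralizer_cj, mem_normalizer_iff_cj.1 hn]
        obtain ⟨c, hc, m, hm, e⟩ := frattini_rel hsyl hCN hNC (Subgroup.inv_mem _ hx)
        set D := S ⊓ Subgroup.normalizer (U : Set G) ⊓ Subgroup.centralizer (U : Set G) with hD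
        have hDS : D ≤ S := inf_le_left.trans inf_le_left
        have hUD : U ⊔ D ≤ S := sup_le hUS hDS
        have hlt : U < U ⊔ D := by
          refine lt_of_le_of_ne le_sup_left (fun h => hZU ?_)
          rw [h]
          refine le_trans (le_inf (le_inf inf_le_left ?_) ?_) le_sup_right
          · exact (inf_le_right.trans (Subgroup.centralizer_le hUS)).trans hCN
          · exact inf_le_right.trans (Subgroup.centralizer_le hUS)
        have hmUD : cj m⁻¹ (U ⊔ D) = U ⊔ D := by
          rw [cj_sup, mem_normalizer_iff_cj.1 (Subgroup.inv_mem _ hm.1),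
            mem_normalizer_iff_cj.1 (Subgroup.inv_mem _ hm.2)]
        obtain ⟨n, hn, c', hc', e'⟩ := IH (U ⊔ D) hUD (card_lt_of_lt hlt) m⁻¹ (by rw [hmUD]; exact hUD)
        refine ⟨n, hn, c' * c⁻¹, mul_mem (Subgroup.centralizer_le (show (U : Set G) ⊆ ((U ⊔ D : Subgroup G) : Set G) from (le_sup_left : U ≤ U ⊔ D)) hc') (inv_mem hc), ?_⟩
        rw [← mul_assoc, ← e', ← mul_inv_rev, ← e, inv_inv]
  intro Q hQ h _ hhQ
  obtain ⟨n, hn, c, hc, e⟩ := main Q hQ h hhQ
  exact ⟨n, ⟨trivial, hn⟩, c, hc, e⟩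

theorem center_le_ind_fZJA {G : Type u} [Group G] [Finite G] (P : Subgroup G) :
    P ⊓ Subgroup.centralizer (P : Set G) ≤ inducedFunctor fZJA P := by
  intro x hx
  have hxc : (⟨x, hx.1⟩ : P) ∈ Subgroup.center P := by
    rw [Subgroup.mem_center_iff]
    intro y
    exact Subtype.ext (hx.2 y y.2)
  exact ⟨⟨x, hx.1⟩, ⟨center_le_thompsonA P hxc, Subgroup.center_le_centralizer _ hxc⟩, rfl⟩

/-- a subgroup all of whose sections (as sections of `G`) avoid `SL₂(p)` has no quadratic pairs -/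
theorem noQP_of_no_section {G : Type*} [Group G] {p : ℕ} [Fact p.Prime] (hp : p ≠ 2) (N : Subgroup G)
    (h : ¬ ∃ (H K : Subgroup G) (hK : (K.subgroupOf H).Normal), H ≤ N ∧
        Nonempty ((H ⧸ K.subgroupOf H) ≃* Matrix.SpecialLinearGroup (Fin 2) (ZMod p))) : NoQP p N := by
  intro P x y hq
  have h2 := hq.map N.subtype N.subtype_injective
  obtain ⟨K', L', hL', hK', e⟩ := Cfsg.Agent.Lib.Helper31Pair2.QPair.exists_section hp h2
  refine h ⟨K', L', hL', hK'.trans ?_, e⟩
  rw [Subgroup.closure_le]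
  rintro t (rfl | ht)
  · exact x.2
  · rw [Set.mem_singleton_iff] at ht
    subst ht
    exact y.2

/-- `N(Z(J(S)))` controls strong fusion if `N_G(P)` is `SL₂(p)`-free for all `Z(S) ≤ P ≤ S` -/
theorem csf_ZJA_local {G : Type u} [Group G] [Finite G] {p : ℕ} [Fact p.Prime] (hp : p ≠ 2)
    (S : Subgroup G) (hS : IsSyl p S ⊤)
    (hfree : ∀ P : Subgroup G, S ⊓ Subgroup.centralizer (S : Set G) ≤ P → P ≤ S →
      ¬ ∃ (H K : Subgroup G) (hK : (K.subgroupOf H).Normal), H ≤ Subgroup.normalizer (P : Set G) ∧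
        Nonempty ((H ⧸ K.subgroupOf H) ≃* Matrix.SpecialLinearGroup (Fin 2) (ZMod p))) :
    CSF (inducedFunctor fZJA) ⊤ S := by
  apply csf_of_local_center (p := p)
    (Cfsg.Agent.Lib.Helper39KInfFunctor.isConjugacyFunctor_induced (isChar_fZJA p)) hS
    (fun P _ => center_le_ind_fZJA P)
  intro T _ hT hZT
  have hsyl := IsWellPlaced.isSyl hS hT
  apply Cfsg.Agent.Lib.Helper39Section.csf_sub (isChar_fZJA p) hsyl.1 hsyl.2.1
  exact csf_ZJA hp (noQP_of_no_section hp _ (hfree T hZT hT.1)) _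
    (Cfsg.Agent.Lib.Helper39Section.isSyl_subgroupOf hsyl)

end Cfsg.Agent.Lib.Helper57ZJLoc
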