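import Cfsg.Agent.Lib.Helper40Alperin

set_option autoImplicit false

namespace Cfsg.Agent.Lib.Helper58CaminaHerzog

open Subgroup Cfsg.Agent.Lib.Helper40Sylow Cfsg.Agent.Lib.Helper40Alperin

/-- Every `2`-element is centralized by a Sylow `2`-subgroup. -/
def HC (G : Type*) [Group G] : Prop :=
  ∀ x : G, (∃ k : ℕ, orderOf x = 2 ^ k) → ∃ Q : Sylow 2 G, (Q : Subgroup G) ≤ centralizer ({x} : Set G)

variable {G : Type*} [Group G]

theorem two_elt_of_mem {T : Subgroup G} (hT : IsPGroup 2 T) {x : G} (hx : x ∈ T) :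
    ∃ k : ℕ, orderOf x = 2 ^ k := by
  obtain ⟨k, hk⟩ := (IsPGroup.iff_orderOf.mp hT) ⟨x, hx⟩
  exact ⟨k, by rw [← hk, Subgroup.orderOf_mk]⟩

theorem isPGroup_zpowers {x : G} (hx : ∃ k : ℕ, orderOf x = 2 ^ k) : IsPGroup 2 (zpowers x) := by
  obtain ⟨k, hk⟩ := hx
  exact IsPGroup.of_card (n := k) (by rw [Nat.card_zpowers, hk])

theorem mem_of_mem_normalizer (Q : Sylow 2 G) {x : G} (hx : ∃ k : ℕ, orderOf x = 2 ^ k)
    (h : x ∈ normalizer ((Q : Subgroup G) : Set G)) : x ∈ (Q : Subgroup G) := by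
  have h1 : IsPGroup 2 (zpowers x ⊔ (Q : Subgroup G) : Subgroup G) :=
    IsPGroup.to_sup_of_normal_right' (isPGroup_zpowers hx) Q.2 (by rwa [zpowers_le])
  have h2 := Q.is_maximal' h1 le_sup_right
  rw [← h2]
  exact (le_sup_left : zpowers x ≤ _) (mem_zpowers x)

theorem mem_of_le_centralizer (Q : Sylow 2 G) {x : G} (hx : ∃ k : ℕ, orderOf x = 2 ^ k)
    (h : (Q : Subgroup G) ≤ centralizer ({x} : Set G)) : x ∈ (Q : Subgroup G) := by
  apply mem_of_mem_normalizer Q hx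
  rw [mem_normalizer_iff]
  intro q
  constructor
  · intro hq
    have := mem_centralizer_singleton_iff.mp (h hq)
    have e : x * q * x⁻¹ = q := by rw [← this]; group
    rwa [e]
  · intro hq
    have := mem_centralizer_singleton_iff.mp (h hq)
    have e : q = x * q * x⁻¹ := by
      have e2 : x * q * x⁻¹ * x = x * q := by group
      rw [e2] at this
      exact mul_left_cancel this
    rw [e]; exact hq

variable [Finite G]

/-- Every element of a Sylow `2`-subgroup is conjugate to a central element of it. -/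
theorem exists_conj_center (hc : HC G) (S : Sylow 2 G) {x : G} (hx : x ∈ (S : Subgroup G)) :
    ∃ k a : G, a ∈ (S : Subgroup G) ∧ (∀ s ∈ (S : Subgroup G), s * a = a * s) ∧ x = k * a * k⁻¹ ∧
      cj k (S : Subgroup G) ≤ centralizer ({x} : Set G) := by
  have hx2 := two_elt_of_mem S.2 hx
  obtain ⟨Q, hQ⟩ := hc x hx2
  have hxQ := mem_of_le_centralizer Q hx2 hQ
  obtain ⟨k, hk⟩ := MulAction.exists_smul_eq G S Q
  have hk' : cj k (S : Subgroup G) = Q := by rw [← sylow_smul_eq_cj, hk]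
  refine ⟨k, k⁻¹ * x * k, ?_, ?_, by group, by rw [hk']; exact hQ⟩
  · rw [← mem_cj, hk']; exact hxQ
  · intro s hs
    have h1 : k * s * k⁻¹ ∈ (Q : Subgroup G) := by rw [← hk']; exact conj_mem_cj hs
    have h2 := mem_centralizer_singleton_iff.mp (hQ h1)
    have e1 : s * (k⁻¹ * x * k) = k⁻¹ * (k * s * k⁻¹ * x) * k := by group
    have e2 : k⁻¹ * x * k * s = k⁻¹ * (x * (k * s * k⁻¹)) * k := by group
    rw [e1, e2, h2]

omit [Finite G] in
theorem odd_pow_inverts {n w : G} (h : n * w * n⁻¹ = w⁻¹) {m : ℕ} (hm : Odd m) :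
    n ^ m * w * (n ^ m)⁻¹ = w⁻¹ := by
  obtain ⟨j, rfl⟩ := hm
  have h' : n * w⁻¹ * n⁻¹ = w := by
    have := congrArg (fun z => z⁻¹) h
    simpa [mul_assoc] using this
  have h2 : Commute (n ^ 2) w⁻¹ := by
    have e : n ^ 2 * w⁻¹ = n * (n * w⁻¹ * n⁻¹) * n⁻¹ * n ^ 2 := by
      simp only [pow_two]; group
    change n ^ 2 * w⁻¹ = w⁻¹ * n ^ 2
    rw [e, h', h]
  have h3 : Commute ((n ^ 2) ^ j) w⁻¹ := h2.pow_left j
  have e : n ^ (2 * j + 1) * w * (n ^ (2 * j + 1))⁻¹ = (n ^ 2) ^ j * (n * w * n⁻¹) * ((n ^ 2) ^ j)⁻¹ := by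
    rw [pow_succ, pow_mul]; group
  rw [e, h, h3.eq]; group

/-- A `2`-element conjugate to its inverse by some element has order at most `2`. -/
theorem sq_eq_one_of_inverted (hc : HC G) {w g : G} (hw : ∃ k : ℕ, orderOf w = 2 ^ k)
    (h : g * w * g⁻¹ = w⁻¹) : w * w = 1 := by
  obtain ⟨Q, hQ⟩ := hc w hw
  have h1 : IsSylowIn 2 (Q : Subgroup G) (centralizer ({w} : Set G)) := isSylowIn_of_le Q hQ
  have hle : cj g (Q : Subgroup G) ≤ centralizer ({w} : Set G) := by
    rintro _ ⟨q, hq, rfl⟩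
    have hq' := mem_centralizer_singleton_iff.mp (hQ hq)
    rw [mem_centralizer_singleton_iff]
    have hw' : w = g * w⁻¹ * g⁻¹ := by
      have := congrArg (fun z => z⁻¹) h
      simpa [mul_assoc] using this.symm
    have hq'' : q * w⁻¹ = w⁻¹ * q := by
      have : Commute q w := hq'
      exact this.inv_right.eq
    simp only [MulEquiv.coe_toMonoidHom, MulAut.conj_apply]
    have e1 : g * q * g⁻¹ * (g * w⁻¹ * g⁻¹) = g * (q * w⁻¹) * g⁻¹ := by group
    have e2 : g * w⁻¹ * g⁻¹ * (g * q * g⁻¹) = g * (w⁻¹ * q) * g⁻¹ := by group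
    calc g * q * g⁻¹ * w = g * q * g⁻¹ * (g * w⁻¹ * g⁻¹) := by rw [← hw']
      _ = g * w⁻¹ * g⁻¹ * (g * q * g⁻¹) := by rw [e1, e2, hq'']
      _ = w * (g * q * g⁻¹) := by rw [← hw']
  have h2 : IsSylowIn 2 (cj g (Q : Subgroup G)) (centralizer ({w} : Set G)) := by
    rw [← sylow_smul_eq_cj] at hle ⊢
    exact isSylowIn_of_le _ hle
  obtain ⟨c, hc1, hc2⟩ := h1.exists_conj_eq h2
  rw [← cj_mul] at hc2
  have hn : c * g ∈ normalizer ((Q : Subgroup G) : Set G) := mem_normalizer_iff_cj.mpr hc2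
  have hinv : (c * g) * w * (c * g)⁻¹ = w⁻¹ := by
    have e : (c * g) * w * (c * g)⁻¹ = c * (g * w * g⁻¹) * c⁻¹ := by group
    have hcw : Commute c w := mem_centralizer_singleton_iff.mp hc1
    rw [e, h, hcw.inv_right.eq]; group
  obtain ⟨a, m, hm, ham⟩ := Nat.exists_eq_two_pow_mul_odd (orderOf_pos (c * g)).ne'
  have h3 : ∃ k : ℕ, orderOf ((c * g) ^ m) = 2 ^ k := by
    have : ((c * g) ^ m) ^ (2 ^ a) = 1 := by
      rw [← pow_mul, mul_comm, ← ham, pow_orderOf_eq_one]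
    obtain ⟨k, -, hk⟩ := (Nat.dvd_prime_pow Nat.prime_two).mp (orderOf_dvd_of_pow_eq_one this)
    exact ⟨k, hk⟩
  have h4 : (c * g) ^ m ∈ (Q : Subgroup G) := mem_of_mem_normalizer Q h3 (pow_mem hn m)
  have h5 := mem_centralizer_singleton_iff.mp (hQ h4)
  have h6 := odd_pow_inverts hinv hm
  rw [h5] at h6
  have h7 : w = w⁻¹ := by
    rw [← h6]; group
  calc w * w = w * w⁻¹ := by rw [← h7]
    _ = 1 := mul_inv_cancel w

/-- The subgroup generated by the elements of order at most `2`. -/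
def Om (S : Subgroup G) : Subgroup G := closure {x | x ∈ S ∧ x * x = 1}

theorem comm_of_sq (hc : HC G) (S : Sylow 2 G) {s t : G} (hs : s ∈ (S : Subgroup G))
    (ht : t ∈ (S : Subgroup G)) (hs2 : s * s = 1) (ht2 : t * t = 1) : s * t = t * s := by
  have hw := two_elt_of_mem S.2 (mul_mem hs ht)
  have hsi : s⁻¹ = s := inv_eq_of_mul_eq_one_left hs2
  have hti : t⁻¹ = t := inv_eq_of_mul_eq_one_left ht2
  have h : s * (s * t) * s⁻¹ = (s * t)⁻¹ := by
    rw [mul_inv_rev, hsi, hti, ← mul_assoc, hs2, one_mul]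
  have h2 := sq_eq_one_of_inverted hc hw h
  calc s * t = (s * t)⁻¹ := (inv_eq_of_mul_eq_one_left h2).symm
    _ = t * s := by rw [mul_inv_rev, hsi, hti]

theorem mem_Om (hc : HC G) (S : Sylow 2 G) {x : G} :
    x ∈ Om (S : Subgroup G) ↔ x ∈ (S : Subgroup G) ∧ x * x = 1 := by
  constructor
  · intro hx
    induction hx using closure_induction with
    | mem x hx => exact hx
    | one => exact ⟨one_mem _, one_mul 1⟩
    | mul a b _ _ ha hb =>
      refine ⟨mul_mem ha.1 hb.1, ?_⟩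
      have := comm_of_sq hc S ha.1 hb.1 ha.2 hb.2
      calc a * b * (a * b) = a * b * (b * a) := by rw [this]
        _ = a * (b * b) * a := by group
        _ = 1 := by rw [hb.2, mul_one, ha.2]
    | inv a _ ha =>
      refine ⟨inv_mem ha.1, ?_⟩
      rw [← mul_inv_rev, ha.2, inv_one]
  · intro hx
    exact subset_closure hx

theorem Om_le (hc : HC G) (S : Sylow 2 G) : Om (S : Subgroup G) ≤ (S : Subgroup G) :=
  fun _ hx => ((mem_Om hc S).mp hx).1

theorem Om_comm (hc : HC G) (S : Sylow 2 G) {a b : G} (ha : a ∈ Om (S : Subgroup G))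
    (hb : b ∈ Om (S : Subgroup G)) : a * b = b * a := by
  rw [mem_Om hc S] at ha hb
  exact comm_of_sq hc S ha.1 hb.1 ha.2 hb.2

theorem mem_normalizer_Om (hc : HC G) (S : Sylow 2 G) {g : G}
    (h : ∀ e ∈ Om (S : Subgroup G), g * e * g⁻¹ ∈ (S : Subgroup G)) :
    g ∈ normalizer ((Om (S : Subgroup G) : Subgroup G) : Set G) := by
  rw [mem_normalizer_iff_cj]
  apply cj_eq_of_le
  rintro _ ⟨e, he, rfl⟩
  simp only [MulEquiv.coe_toMonoidHom, MulAut.conj_apply]
  rw [mem_Om hc S]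
  refine ⟨h e he, ?_⟩
  have := ((mem_Om hc S).mp he).2
  calc g * e * g⁻¹ * (g * e * g⁻¹) = g * (e * e) * g⁻¹ := by group
    _ = 1 := by rw [this]; group

theorem le_normalizer_Om (hc : HC G) (S : Sylow 2 G) :
    (S : Subgroup G) ≤ normalizer ((Om (S : Subgroup G) : Subgroup G) : Set G) := fun _ hs =>
  mem_normalizer_Om hc S fun _ he => mul_mem (mul_mem hs (Om_le hc S he)) (inv_mem hs)

/-- The centralizer in `S` of `Om S`. -/
def A0 (S : Subgroup G) : Subgroup G := S ⊓ centralizer ((Om S : Subgroup G) : Set G)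

theorem Om_le_A0 (hc : HC G) (S : Sylow 2 G) : Om (S : Subgroup G) ≤ A0 (S : Subgroup G) := by
  intro e he
  refine mem_inf.mpr ⟨Om_le hc S he, ?_⟩
  rw [mem_centralizer_iff]
  intro f hf
  exact Om_comm hc S hf he

omit [Finite G] in
theorem transport_A0 {S : Subgroup G} {n y z : G}
    (hn : n ∈ normalizer ((Om S : Subgroup G) : Set G)) (hy : y ∈ A0 S) (hz : z ∈ S)
    (h : n * y = z * n) : z ∈ A0 S := by
  refine mem_inf.mpr ⟨hz, ?_⟩
  rw [mem_centralizer_iff]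
  intro e he
  have he' : n⁻¹ * e * n ∈ Om S := by
    have := (mem_normalizer_iff.mp (inv_mem hn) e).mp he
    rwa [inv_inv] at this
  have h1 := (mem_centralizer_iff.mp (mem_inf.mp hy).2) _ he'
  have hz' : z = n * y * n⁻¹ := by rw [h]; group
  have e1 : e * (n * y * n⁻¹) = n * (n⁻¹ * e * n * y) * n⁻¹ := by group
  have e2 : n * y * n⁻¹ * e = n * (y * (n⁻¹ * e * n)) * n⁻¹ := by group
  rw [hz', e1, e2, h1]

/-- Stabilizer of the chain `H ≥ Z ≥ 1` in the normalizer of `H`. -/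
def chainStab (H Z : Subgroup G) : Subgroup G where
  carrier := {n | n ∈ normalizer (H : Set G) ∧ (∀ h ∈ H, n * h * n⁻¹ * h⁻¹ ∈ Z) ∧ ∀ z ∈ Z, n * z * n⁻¹ = z}
  one_mem' := ⟨one_mem _, fun h _ => by simp [one_mem], fun z _ => by simp⟩
  mul_mem' := by
    rintro a b ⟨ha1, ha2, ha3⟩ ⟨hb1, hb2, hb3⟩
    refine ⟨mul_mem ha1 hb1, fun h hh => ?_, fun z hz => ?_⟩
    · have e : a * b * h * (a * b)⁻¹ * h⁻¹ = a * (b * h * b⁻¹ * h⁻¹) * a⁻¹ * (a * h * a⁻¹ * h⁻¹) := by group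
      rw [e, ha3 _ (hb2 h hh)]
      exact mul_mem (hb2 h hh) (ha2 h hh)
    · have e : a * b * z * (a * b)⁻¹ = a * (b * z * b⁻¹) * a⁻¹ := by group
      rw [e, hb3 z hz, ha3 z hz]
  inv_mem' := by
    rintro a ⟨ha1, ha2, ha3⟩
    have ha3' : ∀ z ∈ Z, a⁻¹ * z * a = z := fun z hz => by
      conv_lhs => rw [← ha3 z hz]
      group
    refine ⟨inv_mem ha1, fun h hh => ?_, fun z hz => by rw [inv_inv]; exact ha3' z hz⟩
    have hz := ha2 h hh
    have e : a⁻¹ * h * a⁻¹⁻¹ * h⁻¹ = (a⁻¹ * (a * h * a⁻¹ * h⁻¹) * a)⁻¹ := by group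
    rw [e, ha3' _ hz]
    exact inv_mem hz

theorem normalizer_le_normalizer_chainStab {H Z : Subgroup G}
    (hZ : ∀ g ∈ normalizer (H : Set G), ∀ z ∈ Z, g * z * g⁻¹ ∈ Z) :
    normalizer (H : Set G) ≤ normalizer ((chainStab H Z : Subgroup G) : Set G) := by
  intro g hg
  rw [mem_normalizer_iff_cj]
  apply cj_eq_of_le
  rintro _ ⟨n, ⟨hn1, hn2, hn3⟩, rfl⟩
  simp only [MulEquiv.coe_toMonoidHom, MulAut.conj_apply]
  refine ⟨mul_mem (mul_mem hg hn1) (inv_mem hg), fun h hh => ?_, fun z hz => ?_⟩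
  · have hh' : g⁻¹ * h * g ∈ H := by
      have := (mem_normalizer_iff.mp (inv_mem hg) h).mp hh
      rwa [inv_inv] at this
    have e : g * n * g⁻¹ * h * (g * n * g⁻¹)⁻¹ * h⁻¹
        = g * (n * (g⁻¹ * h * g) * n⁻¹ * (g⁻¹ * h * g)⁻¹) * g⁻¹ := by group
    rw [e]
    exact hZ g hg _ (hn2 _ hh')
  · have hz' : g⁻¹ * z * g ∈ Z := by
      have := hZ g⁻¹ (inv_mem hg) z hz
      rwa [inv_inv] at this
    have e : g * n * g⁻¹ * z * (g * n * g⁻¹)⁻¹ = g * (n * (g⁻¹ * z * g) * n⁻¹) * g⁻¹ := by group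
    rw [e, hn3 _ hz']
    group

theorem step (hc : HC G) (S : Sylow 2 G) {H : Subgroup G} (hHS : H ≤ (S : Subgroup G))
    (hsyl : IsSylowIn 2 ((S : Subgroup G) ⊓ normalizer (H : Set G)) (normalizer (H : Set G)))
    (IH : ∀ D : Subgroup G, D ≤ (S : Subgroup G) → Nat.card H < Nat.card D → ∀ g : G,
      rj g D ≤ (S : Subgroup G) → ∀ y ∈ D,
      (y ∈ A0 (S : Subgroup G) ↔ g⁻¹ * y * g ∈ A0 (S : Subgroup G)))
    {x y : G} (hx : x ∈ normalizer (H : Set G)) (hy : y ∈ H) :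
    y ∈ A0 (S : Subgroup G) ↔ x⁻¹ * y * x ∈ A0 (S : Subgroup G) := by
  have hxy : x⁻¹ * y * x ∈ H := by
    have := (mem_normalizer_iff.mp (inv_mem hx) y).mp hy
    rwa [inv_inv] at this
  by_cases hEH : Om (S : Subgroup G) ≤ H
  · have hxE : x ∈ normalizer ((Om (S : Subgroup G) : Subgroup G) : Set G) :=
      mem_normalizer_Om hc S fun e he => hHS ((mem_normalizer_iff.mp hx e).mp (hEH he))
    constructor
    · intro h
      exact transport_A0 (inv_mem hxE) h (hHS hxy) (by group)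
    · intro h
      exact transport_A0 hxE h (hHS hy) (by group)
  · have hlt : H < H ⊔ Om (S : Subgroup G) :=
      lt_of_le_of_ne le_sup_left (fun h => hEH (h ▸ le_sup_right))
    have hHE : H ⊔ Om (S : Subgroup G) ≤ (S : Subgroup G) := sup_le hHS (Om_le hc S)
    have hcard := card_lt_card_inf_normalizer (S.2.to_le hHE) hlt
    obtain ⟨t, ht1, ht2⟩ : ∃ t ∈ (H ⊔ Om (S : Subgroup G)) ⊓ normalizer (H : Set G), t ∉ H := by
      by_contra hcon
      push Not at hcon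
      exact absurd (Subgroup.card_le_of_le (hcon : _ ≤ H)) (not_le.mpr hcard)
    have hts : t ∈ ((H ⊔ Om (S : Subgroup G) : Subgroup G) : Set G) := (mem_inf.mp ht1).1
    rw [Subgroup.coe_mul_of_left_le_normalizer_right H _ (hHS.trans (le_normalizer_Om hc S))] at hts
    obtain ⟨h0, hh0, e, he, rfl⟩ := hts
    have heN : e ∈ normalizer (H : Set G) := by
      have := mul_mem (inv_mem (le_normalizer hh0)) (mem_inf.mp ht1).2
      rwa [inv_mul_cancel_left] at this
    have heH : e ∉ H := fun h => ht2 (mul_mem hh0 h)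
    have hZ : ∀ g ∈ normalizer (H : Set G), ∀ z ∈ H ⊓ Om (S : Subgroup G),
        g * z * g⁻¹ ∈ H ⊓ Om (S : Subgroup G) := by
      intro g hg z hz
      have h1 : g * z * g⁻¹ ∈ H := (mem_normalizer_iff.mp hg z).mp (mem_inf.mp hz).1
      refine mem_inf.mpr ⟨h1, (mem_Om hc S).mpr ⟨hHS h1, ?_⟩⟩
      have := ((mem_Om hc S).mp (mem_inf.mp hz).2).2
      calc g * z * g⁻¹ * (g * z * g⁻¹) = g * (z * z) * g⁻¹ := by group
        _ = 1 := by rw [this]; group
    have heX : e ∈ chainStab H (H ⊓ Om (S : Subgroup G)) := by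
      refine ⟨heN, fun h hh => mem_inf.mpr ⟨?_, ?_⟩, fun z hz => ?_⟩
      · exact mul_mem ((mem_normalizer_iff.mp heN h).mp hh) (inv_mem hh)
      · have h1 := (mem_normalizer_iff.mp (le_normalizer_Om hc S (hHS hh)) e⁻¹).mp (inv_mem he)
        have e1 : e * h * e⁻¹ * h⁻¹ = e * (h * e⁻¹ * h⁻¹) := by group
        rw [e1]
        exact mul_mem he h1
      · rw [Om_comm hc S he (mem_inf.mp hz).2]
        group
    have hXN : chainStab H (H ⊓ Om (S : Subgroup G)) ≤ normalizer (H : Set G) := fun n hn => hn.1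
    have hNX := normalizer_le_normalizer_chainStab hZ
    have hXS := hsyl.inf_normal hXN hNX
    have h2 := hXS.cj x
    rw [mem_normalizer_iff_cj.mp (hNX hx)] at h2
    obtain ⟨t, htX, ht⟩ := hXS.exists_conj_eq h2
    rw [← cj_mul] at ht
    have hmH : cj (t * x) H = H := mem_normalizer_iff_cj.mp (mul_mem (hXN htX) hx)
    have hD'S : H ⊔ ((S : Subgroup G) ⊓ normalizer (H : Set G)) ⊓ chainStab H (H ⊓ Om (S : Subgroup G))
        ≤ (S : Subgroup G) := sup_le hHS (inf_le_left.trans inf_le_left)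
    have hcard' : Nat.card H < Nat.card (H ⊔ ((S : Subgroup G) ⊓ normalizer (H : Set G)) ⊓
        chainStab H (H ⊓ Om (S : Subgroup G)) : Subgroup G) := by
      by_contra hcon
      have h3 := eq_of_le_of_card_ge (le_sup_left : H ≤ H ⊔ ((S : Subgroup G) ⊓ normalizer (H : Set G)) ⊓
        chainStab H (H ⊓ Om (S : Subgroup G))) (not_lt.mp hcon)
      apply heH
      rw [h3]
      exact le_sup_right (a := H) (mem_inf.mpr ⟨mem_inf.mpr ⟨Om_le hc S he, heN⟩, heX⟩)
    have hmD : t * x ∈ normalizer ((H ⊔ ((S : Subgroup G) ⊓ normalizer (H : Set G)) ⊓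
        chainStab H (H ⊓ Om (S : Subgroup G)) : Subgroup G) : Set G) := by
      rw [mem_normalizer_iff_cj, cj, Subgroup.map_sup]
      change cj (t * x) H ⊔ cj (t * x) _ = _
      rw [hmH, ht]
    have hrj : rj (t * x) (H ⊔ ((S : Subgroup G) ⊓ normalizer (H : Set G)) ⊓
        chainStab H (H ⊓ Om (S : Subgroup G))) ≤ (S : Subgroup G) := by
      rw [rj_eq_self_of_mem_normalizer hmD]
      exact hD'S
    have hty : t * y * t⁻¹ ∈ H := (mem_normalizer_iff.mp (hXN htX) y).mp hy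
    have key := IH _ hD'S hcard' (t * x) hrj (t * y * t⁻¹) (le_sup_left (a := H) hty)
    have e1 : (t * x)⁻¹ * (t * y * t⁻¹) * (t * x) = x⁻¹ * y * x := by group
    rw [e1] at key
    rw [← key]
    have hz := htX.2.1 y hy
    have e2 : t * y * t⁻¹ = (t * y * t⁻¹ * y⁻¹) * y := by group
    rw [e2]
    exact (Subgroup.mul_mem_cancel_left _ (Om_le_A0 hc S (mem_inf.mp hz).2)).symm

/-- Conjugation maps between subgroups of `S` of order more than `c` respect `A0 S`. -/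
def P1 (S : Sylow 2 G) (c : ℕ) : Prop :=
  ∀ D : Subgroup G, D ≤ (S : Subgroup G) → c < Nat.card D → ∀ g : G, rj g D ≤ (S : Subgroup G) → ∀ y ∈ D,
      (y ∈ A0 (S : Subgroup G) ↔ g⁻¹ * y * g ∈ A0 (S : Subgroup G))

theorem rel_claim (hc : HC G) (S : Sylow 2 G) {c : ℕ} (IH : P1 S (c + 1)) {D : Subgroup G} {g : G}
    (h : Rel S D g) (hD : D ≤ (S : Subgroup G)) (hcD : c < Nat.card D) :
    ∀ y ∈ D, (y ∈ A0 (S : Subgroup G) ↔ g⁻¹ * y * g ∈ A0 (S : Subgroup G)) := by
  induction h with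
  | nil D => intro y _; simp
  | cons D Q x y' hadm hle _ ih =>
    intro y hy
    have hH : (S : Subgroup G) ⊓ (Q : Subgroup G) ≤ (S : Subgroup G) := inf_le_left
    have hsyl : IsSylowIn 2 ((S : Subgroup G) ⊓ normalizer (((S : Subgroup G) ⊓ (Q : Subgroup G) : Subgroup G) : Set G))
        (normalizer (((S : Subgroup G) ⊓ (Q : Subgroup G) : Subgroup G) : Set G)) :=
      ⟨inf_le_right, S.2.to_le inf_le_left, hadm.2.1⟩
    have hcH : c + 1 ≤ Nat.card ((S : Subgroup G) ⊓ (Q : Subgroup G) : Subgroup G) :=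
      (Nat.succ_le_of_lt hcD).trans (Subgroup.card_le_of_le hle)
    have h1 := step hc S hH hsyl (fun D' hD' hc' => IH D' hD' (lt_of_le_of_lt hcH hc')) hadm.1 (hle hy)
    have hrjD : rj x D ≤ (S : Subgroup G) := (rj_mono hle).trans (by
      rw [rj_eq_self_of_mem_normalizer hadm.1]; exact inf_le_left)
    have h2 := ih hrjD (by rw [card_cj]; exact hcD) (x⁻¹ * y * x) (mem_rj.mpr (by
      have e : x * (x⁻¹ * y * x) * x⁻¹ = y := by group
      rw [e]; exact hy))
    rw [h1, h2]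
    have e : (x * y')⁻¹ * y * (x * y') = y'⁻¹ * (x⁻¹ * y * x) * y' := by group
    rw [e]

theorem P1_step (hc : HC G) (S : Sylow 2 G) {c : ℕ} (IH : P1 S (c + 1)) : P1 S c := by
  intro D hD hcD g hg y hy
  have hle : D ≤ cj g (S : Subgroup G) := by
    have := cj_le_iff.mp hg
    rwa [inv_inv] at this
  exact rel_claim hc S IH ((alperin_rel S g).mono (le_inf hD hle)) hD hcD y hy

theorem P1_zero (hc : HC G) (S : Sylow 2 G) : P1 S 0 := by
  have h : ∀ k, P1 S (Nat.card (S : Subgroup G) - k) := by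
    intro k
    induction k with
    | zero =>
      intro D hD hcD
      exact absurd (Subgroup.card_le_of_le hD) (not_le.mpr (by simpa using hcD))
    | succ k ih =>
      by_cases hk : k < Nat.card (S : Subgroup G)
      · apply P1_step hc S
        have : Nat.card (S : Subgroup G) - (k + 1) + 1 = Nat.card (S : Subgroup G) - k := by omega
        rwa [this]
      · have : Nat.card (S : Subgroup G) - (k + 1) = Nat.card (S : Subgroup G) - k := by omega
        rwa [this]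
  have := h (Nat.card (S : Subgroup G))
  rwa [Nat.sub_self] at this

/-- Elements of order at most `2` of `S` are central in `S`. -/
theorem Om_central (hc : HC G) (S : Sylow 2 G) {s e : G} (hs : s ∈ (S : Subgroup G))
    (he : e ∈ Om (S : Subgroup G)) : e * s = s * e := by
  obtain ⟨k, a, ha, hac, hx, -⟩ := exists_conj_center hc S hs
  have haA : a ∈ A0 (S : Subgroup G) := mem_inf.mpr ⟨ha, by
    rw [mem_centralizer_iff]; intro f hf; exact hac f (Om_le hc S hf)⟩
  have hka : k⁻¹ * s * k = a := by rw [hx]; group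
  have hrj : rj k (zpowers s) ≤ (S : Subgroup G) := by
    rw [rj, cj, MonoidHom.map_zpowers, zpowers_le]
    simp only [MulEquiv.coe_toMonoidHom, MulAut.conj_apply, inv_inv]
    rw [hka]; exact ha
  have h1 := P1_zero hc S (zpowers s) (by rwa [zpowers_le]) Nat.card_pos k hrj s (mem_zpowers s)
  rw [hka] at h1
  exact mem_centralizer_iff.mp (mem_inf.mp (h1.mpr haA)).2 e he

/-- The normalizer of `Om S` controls fusion of elements of `S`. -/
theorem control (hc : HC G) (S : Sylow 2 G) {x a g : G} (hx : x ∈ (S : Subgroup G))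
    (ha : a ∈ (S : Subgroup G)) (h : x = g * a * g⁻¹) :
    ∃ n ∈ normalizer ((Om (S : Subgroup G) : Subgroup G) : Set G), x = n * a * n⁻¹ := by
  obtain ⟨U, hU⟩ := hc x (two_elt_of_mem S.2 hx)
  have hUs : IsSylowIn 2 (U : Subgroup G) (centralizer ({x} : Set G)) := isSylowIn_of_le U hU
  have hE1 : Om (S : Subgroup G) ≤ centralizer ({x} : Set G) := fun e he =>
    mem_centralizer_singleton_iff.mpr (Om_central hc S hx he)
  have hE2 : cj g (Om (S : Subgroup G)) ≤ centralizer ({x} : Set G) := by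
    rintro _ ⟨e, he, rfl⟩
    rw [mem_centralizer_singleton_iff]
    simp only [MulEquiv.coe_toMonoidHom, MulAut.conj_apply]
    have h1 := Om_central hc S ha he
    rw [h]
    calc g * e * g⁻¹ * (g * a * g⁻¹) = g * (e * a) * g⁻¹ := by group
      _ = g * (a * e) * g⁻¹ := by rw [h1]
      _ = g * a * g⁻¹ * (g * e * g⁻¹) := by group
  have hEp : IsPGroup 2 (Om (S : Subgroup G)) := S.2.to_le (Om_le hc S)
  obtain ⟨c1, hc1, h1⟩ := hUs.exists_conj_le hEp hE1
  obtain ⟨c2, hc2, h2⟩ := hUs.exists_conj_le (isPGroup_cj hEp g) hE2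
  obtain ⟨u, hu⟩ := MulAction.exists_smul_eq G S U
  have hu' : cj u (S : Subgroup G) = U := by rw [← sylow_smul_eq_cj, hu]
  have n1 : u⁻¹ * c1 ∈ normalizer ((Om (S : Subgroup G) : Subgroup G) : Set G) :=
    mem_normalizer_Om hc S fun e he => by
      have h3 : c1 * e * c1⁻¹ ∈ cj u (S : Subgroup G) := by rw [hu']; exact h1 (conj_mem_cj he)
      rw [mem_cj] at h3
      have e1 : u⁻¹ * c1 * e * (u⁻¹ * c1)⁻¹ = u⁻¹ * (c1 * e * c1⁻¹) * u := by group
      rw [e1]; exact h3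
  have n2 : u⁻¹ * (c2 * g) ∈ normalizer ((Om (S : Subgroup G) : Subgroup G) : Set G) :=
    mem_normalizer_Om hc S fun e he => by
      have h3 : c2 * (g * e * g⁻¹) * c2⁻¹ ∈ cj u (S : Subgroup G) := by
        rw [hu']; exact h2 (conj_mem_cj (conj_mem_cj he))
      rw [mem_cj] at h3
      have e1 : u⁻¹ * (c2 * g) * e * (u⁻¹ * (c2 * g))⁻¹ = u⁻¹ * (c2 * (g * e * g⁻¹) * c2⁻¹) * u := by group
      rw [e1]; exact h3
  refine ⟨(u⁻¹ * c1)⁻¹ * (u⁻¹ * (c2 * g)), mul_mem (inv_mem n1) n2, ?_⟩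
  have e : (u⁻¹ * c1)⁻¹ * (u⁻¹ * (c2 * g)) * a * ((u⁻¹ * c1)⁻¹ * (u⁻¹ * (c2 * g)))⁻¹
      = c1⁻¹ * (c2 * (g * a * g⁻¹) * c2⁻¹) * c1 := by group
  have hc1' : c1 * x = x * c1 := mem_centralizer_singleton_iff.mp hc1
  have hc2' : c2 * x = x * c2 := mem_centralizer_singleton_iff.mp hc2
  rw [e, ← h, hc2', mul_inv_cancel_right, mul_assoc, ← hc1', inv_mul_cancel_left]

theorem HC_normalizer (hc : HC G) (S : Sylow 2 G) :
    HC ↥(normalizer ((Om (S : Subgroup G) : Subgroup G) : Set G)) := by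
  intro x hx
  have hSN := le_normalizer_Om hc S
  have hs := isSylowIn_of_le S hSN
  have hx' : ∃ k : ℕ, orderOf (x : G) = 2 ^ k := by simpa [Subgroup.orderOf_coe] using hx
  obtain ⟨c, hcN, hcx⟩ := hs.exists_conj_le (isPGroup_zpowers hx') (by rw [zpowers_le]; exact x.2)
  have hx1 : c * x * c⁻¹ ∈ (S : Subgroup G) := hcx (conj_mem_cj (mem_zpowers _))
  obtain ⟨k, a, ha, hac, hxk, -⟩ := exists_conj_center hc S hx1
  obtain ⟨n, hn, hxn⟩ := control hc S hx1 ha hxk
  have hg : c⁻¹ * n ∈ normalizer ((Om (S : Subgroup G) : Subgroup G) : Set G) := mul_mem (inv_mem hcN) hn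
  have hT := hs.cj (c⁻¹ * n)
  rw [cj_eq_self_of_mem hg] at hT
  refine ⟨hT.toSylow, ?_⟩
  rw [hT.coe_toSylow]
  intro q hq
  rw [mem_subgroupOf, mem_cj] at hq
  rw [mem_centralizer_singleton_iff]
  apply Subtype.ext
  simp only [Subgroup.coe_mul]
  have h1 := hac _ hq
  have hxa : (x : G) = (c⁻¹ * n) * a * (c⁻¹ * n)⁻¹ := by
    have : (x : G) = c⁻¹ * (c * x * c⁻¹) * c := by group
    rw [this, hxn]; group
  rw [hxa]
  calc (q : G) * ((c⁻¹ * n) * a * (c⁻¹ * n)⁻¹)
      = (c⁻¹ * n) * (((c⁻¹ * n)⁻¹ * q * (c⁻¹ * n)) * a) * (c⁻¹ * n)⁻¹ := by group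
    _ = (c⁻¹ * n) * (a * ((c⁻¹ * n)⁻¹ * q * (c⁻¹ * n))) * (c⁻¹ * n)⁻¹ := by rw [h1]
    _ = (c⁻¹ * n) * a * (c⁻¹ * n)⁻¹ * q := by group

theorem HC_quotient (hc : HC G) (E : Subgroup G) [E.Normal] (hE : ∀ e ∈ E, e * e = 1) : HC (G ⧸ E) := by
  intro xb hxb
  obtain ⟨x, rfl⟩ := QuotientGroup.mk_surjective xb
  obtain ⟨k, hk⟩ := hxb
  have h1 : x ^ (2 ^ k) ∈ E := by
    rw [← QuotientGroup.eq_one_iff, QuotientGroup.mk_pow, ← hk, pow_orderOf_eq_one]
  have h2 : x ^ (2 ^ (k + 1)) = 1 := by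
    rw [pow_succ, pow_mul, pow_two]; exact hE _ h1
  obtain ⟨j, -, hj⟩ := (Nat.dvd_prime_pow Nat.prime_two).mp (orderOf_dvd_of_pow_eq_one h2)
  obtain ⟨Q, hQ⟩ := hc x ⟨j, hj⟩
  refine ⟨Q.mapSurjective (f := QuotientGroup.mk' E) (QuotientGroup.mk'_surjective E), ?_⟩
  rw [Sylow.coe_mapSurjective]
  rintro _ ⟨q, hq, rfl⟩
  rw [mem_centralizer_singleton_iff]
  have := mem_centralizer_singleton_iff.mp (hQ hq)
  change ((q * x : G) : G ⧸ E) = ((x * q : G) : G ⧸ E)
  rw [this]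

theorem final (hc : HC G) (S : Sylow 2 G) [hn : (Om (S : Subgroup G)).Normal]
    (hcomm : ∀ a ∈ (S : Subgroup G), ∀ b ∈ (S : Subgroup G),
      (a : G ⧸ Om (S : Subgroup G)) * (b : G ⧸ Om (S : Subgroup G)) = b * a) :
    ∀ x ∈ (S : Subgroup G), ∀ s ∈ (S : Subgroup G), s * x = x * s := by
  intro x hx
  obtain ⟨k, a, ha, hac, hxk, hkS⟩ := exists_conj_center hc S hx
  have hSC : (S : Subgroup G) ≤ (centralizer ({(x : G ⧸ Om (S : Subgroup G))} : Set _)).comap
      (QuotientGroup.mk' (Om (S : Subgroup G))) := fun s hs => by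
    rw [mem_comap, mem_centralizer_singleton_iff]; exact hcomm s hs x hx
  have hkC : cj k (S : Subgroup G) ≤ (centralizer ({(x : G ⧸ Om (S : Subgroup G))} : Set _)).comap
      (QuotientGroup.mk' (Om (S : Subgroup G))) := fun q hq => by
    rw [mem_comap, mem_centralizer_singleton_iff]
    have := mem_centralizer_singleton_iff.mp (hkS hq)
    change ((q * x : G) : G ⧸ Om (S : Subgroup G)) = ((x * q : G) : G ⧸ Om (S : Subgroup G))
    rw [this]
  have s1 := isSylowIn_of_le S hSC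
  have s2 : IsSylowIn 2 (cj k (S : Subgroup G)) ((centralizer ({(x : G ⧸ Om (S : Subgroup G))} : Set _)).comap
      (QuotientGroup.mk' (Om (S : Subgroup G)))) := by
    rw [← sylow_smul_eq_cj] at hkC ⊢
    exact isSylowIn_of_le _ hkC
  obtain ⟨c, hcC, hck⟩ := s1.exists_conj_eq s2
  rw [← cj_mul] at hck
  have he : c * x * c⁻¹ * x⁻¹ ∈ Om (S : Subgroup G) := by
    rw [mem_comap, mem_centralizer_singleton_iff] at hcC
    rw [← QuotientGroup.eq_one_iff]
    simp only [QuotientGroup.mk_mul, QuotientGroup.mk_inv]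
    change (c : G ⧸ Om (S : Subgroup G)) * (x : G ⧸ Om (S : Subgroup G)) = x * c at hcC
    rw [hcC]; group
  intro s hs
  have hs' : (c * k)⁻¹ * s * (c * k) ∈ (S : Subgroup G) := by rw [← mem_cj, hck]; exact hs
  have h1 := hac _ hs'
  have h2 : s * (c * x * c⁻¹) = (c * x * c⁻¹) * s := by
    have e0 : c * x * c⁻¹ = (c * k) * a * (c * k)⁻¹ := by rw [hxk]; group
    rw [e0]
    calc s * ((c * k) * a * (c * k)⁻¹) = (c * k) * (((c * k)⁻¹ * s * (c * k)) * a) * (c * k)⁻¹ := by group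
      _ = (c * k) * (a * ((c * k)⁻¹ * s * (c * k))) * (c * k)⁻¹ := by rw [h1]
      _ = _ := by group
  have h3 := Om_central hc S hs (inv_mem he)
  have e3 : x = (c * x * c⁻¹ * x⁻¹)⁻¹ * (c * x * c⁻¹) := by group
  obtain ⟨e, w, hxe, h3, h2⟩ : ∃ e w, x = e * w ∧ e * s = s * e ∧ s * w = w * s := ⟨_, _, e3, h3, h2⟩
  rw [hxe, ← mul_assoc, ← h3, mul_assoc, h2, mul_assoc]

omit [Finite G] in
theorem eq_one_of_Om_eq_bot (S : Sylow 2 G) (hE : Om (S : Subgroup G) = ⊥) {s : G}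
    (hs : s ∈ (S : Subgroup G)) : s = 1 := by
  obtain ⟨k, hk⟩ := two_elt_of_mem S.2 hs
  rcases k with _ | j
  · simpa using hk
  · exfalso
    have h1 : s ^ (2 ^ j) ∈ Om (S : Subgroup G) := subset_closure ⟨pow_mem hs _, by
      rw [← pow_two, ← pow_mul, ← pow_succ, ← hk, pow_orderOf_eq_one]⟩
    rw [hE, mem_bot] at h1
    have h2 := orderOf_dvd_of_pow_eq_one h1
    rw [hk] at h2
    have := (Nat.pow_dvd_pow_iff_le_right (by norm_num : 1 < 2)).mp h2
    omega

theorem main_aux.{u} : ∀ (n : ℕ) (G : Type u) [Group G] [Finite G], Nat.card G = n → HC G →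
    ∀ S : Sylow 2 G, ∀ a ∈ (S : Subgroup G), ∀ b ∈ (S : Subgroup G), a * b = b * a := by
  intro n
  induction n using Nat.strong_induction_on with
  | _ n IH =>
  intro G _ _ hn hc S
  by_cases hN : normalizer ((Om (S : Subgroup G) : Subgroup G) : Set G) = ⊤
  · have : (Om (S : Subgroup G)).Normal := normalizer_eq_top_iff.mp hN
    by_cases hE : Om (S : Subgroup G) = ⊥
    · intro a ha b hb
      rw [eq_one_of_Om_eq_bot S hE ha, eq_one_of_Om_eq_bot S hE hb]
    · have hlt : Nat.card (G ⧸ Om (S : Subgroup G)) < n := by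
        rw [← hn, Subgroup.card_eq_card_quotient_mul_card_subgroup (Om (S : Subgroup G))]
        have h1 : 1 < Nat.card (Om (S : Subgroup G)) := (Subgroup.one_lt_card_iff_ne_bot _).mpr hE
        have h2 : 0 < Nat.card (G ⧸ Om (S : Subgroup G)) := Nat.card_pos
        nlinarith
      have hq := IH _ hlt (G ⧸ Om (S : Subgroup G)) rfl
        (HC_quotient hc _ (fun e he => ((mem_Om hc S).mp he).2))
        (S.mapSurjective (f := QuotientGroup.mk' _) (QuotientGroup.mk'_surjective _))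
      intro a ha b hb
      exact final hc S (fun a ha b hb => hq _ ⟨a, ha, rfl⟩ _ ⟨b, hb, rfl⟩) b hb a ha
  · have hSN := le_normalizer_Om hc S
    have hlt : Nat.card ↥(normalizer ((Om (S : Subgroup G) : Subgroup G) : Set G)) < n := by
      rw [← hn]
      exact lt_of_le_of_ne (Subgroup.card_le_card_group _) (fun h => hN (Subgroup.eq_top_of_card_eq _ h))
    have hq := IH _ hlt _ rfl (HC_normalizer hc S) (isSylowIn_of_le S hSN).toSylow
    intro a ha b hb
    have := hq ⟨a, hSN ha⟩ (mem_subgroupOf.mpr ha) ⟨b, hSN hb⟩ (mem_subgroupOf.mpr hb)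
    exact congrArg Subtype.val this

/-- Camina--Herzog: if every `2`-element is centralized by a Sylow `2`-subgroup, then the Sylow
`2`-subgroups are commutative. -/
theorem sylow_comm (hc : HC G) (S : Sylow 2 G) {a b : G} (ha : a ∈ (S : Subgroup G))
    (hb : b ∈ (S : Subgroup G)) : a * b = b * a :=
  main_aux _ G rfl hc S a ha b hb

end Cfsg.Agent.Lib.Helper58CaminaHerzog
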