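import Mathlib

set_option autoImplicit false

namespace Cfsg.Agent.Lib.Helper68Cover

open Subgroup

/-- a minimal cover by proper subgroups, all of whose members are nilpotent -/
def IsNilMinCover {G : Type*} [Group G] (𝓐 : Finset (Subgroup G)) : Prop :=
  ((∀ A ∈ 𝓐, A ≠ ⊤) ∧ (∀ g : G, ∃ A ∈ 𝓐, g ∈ A)) ∧
    (∀ 𝓑 : Finset (Subgroup G), (∀ A ∈ 𝓑, A ≠ ⊤) ∧ (∀ g : G, ∃ A ∈ 𝓑, g ∈ A) → 𝓐.card ≤ 𝓑.card) ∧
    (∀ A ∈ 𝓐, Group.IsNilpotent ↥A)

/-- two members of a minimal cover lying in a common proper subgroup coincide -/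
theorem eq_of_le_proper {G : Type*} [Group G] {𝓐 : Finset (Subgroup G)} (h : IsNilMinCover 𝓐)
    {A A' M : Subgroup G} (hA : A ∈ 𝓐) (hA' : A' ∈ 𝓐) (hM : M ≠ ⊤) (hAM : A ≤ M) (hA'M : A' ≤ M) :
    A = A' := by
  classical
  by_contra hne
  let 𝓑 : Finset (Subgroup G) := insert M ((𝓐.erase A).erase A')
  have h1 : (∀ B ∈ 𝓑, B ≠ ⊤) ∧ (∀ g : G, ∃ B ∈ 𝓑, g ∈ B) := by
    constructor
    · intro B hB
      rcases Finset.mem_insert.mp hB with rfl | hB
      · exact hM
      · exact h.1.1 B (Finset.mem_of_mem_erase (Finset.mem_of_mem_erase hB))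
    · intro g
      obtain ⟨B, hB, hg⟩ := h.1.2 g
      by_cases e1 : B = A
      · exact ⟨M, Finset.mem_insert_self _ _, hAM (e1 ▸ hg)⟩
      by_cases e2 : B = A'
      · exact ⟨M, Finset.mem_insert_self _ _, hA'M (e2 ▸ hg)⟩
      exact ⟨B, Finset.mem_insert_of_mem
        (Finset.mem_erase.mpr ⟨e2, Finset.mem_erase.mpr ⟨e1, hB⟩⟩), hg⟩
  have h2 := h.2.1 𝓑 h1
  have h3 : 𝓑.card ≤ ((𝓐.erase A).erase A').card + 1 := Finset.card_insert_le _ _
  have h4 : (𝓐.erase A).card = 𝓐.card - 1 := Finset.card_erase_of_mem hA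
  have h5 : ((𝓐.erase A).erase A').card = (𝓐.erase A).card - 1 :=
    Finset.card_erase_of_mem (Finset.mem_erase.mpr ⟨Ne.symm hne, hA'⟩)
  have h6 : 2 ≤ 𝓐.card := by
    have : ({A, A'} : Finset (Subgroup G)) ⊆ 𝓐 := by
      intro B hB
      rcases Finset.mem_insert.mp hB with rfl | hB
      · exact hA
      · rw [Finset.mem_singleton] at hB; exact hB ▸ hA'
    calc 2 = ({A, A'} : Finset (Subgroup G)).card := (Finset.card_pair hne).symm
      _ ≤ _ := Finset.card_le_card this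
  omega

/-- splitting an element into its `p`-part and `p'`-part, both powers of the element -/
theorem exists_decomp {G : Type*} [Group G] [Finite G] (r : ℕ) (hr : r.Prime) (g : G) :
    ∃ x y : G, x ∈ zpowers g ∧ y ∈ zpowers g ∧ g = x * y ∧ (∃ k, orderOf x = r ^ k) ∧
      (orderOf y).Coprime r := by
  set n := orderOf g with hn
  have hn0 : n ≠ 0 := (orderOf_pos g).ne'
  set a := r ^ n.factorization r with ha
  set m := n / r ^ n.factorization r with hm
  have hcop : Nat.Coprime a m := Nat.Coprime.pow_left _ (Nat.coprime_ordCompl hr hn0)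
  have ham : a * m = n := Nat.ordProj_mul_ordCompl_eq_self n r
  have hb := Nat.gcd_eq_gcd_ab a m
  rw [hcop] at hb
  refine ⟨(g ^ m) ^ (Nat.gcdB a m), (g ^ a) ^ (Nat.gcdA a m),
    zpow_mem (pow_mem (mem_zpowers g) _) _, zpow_mem (pow_mem (mem_zpowers g) _) _, ?_, ?_, ?_⟩
  · rw [← zpow_natCast, ← zpow_natCast, ← zpow_mul, ← zpow_mul, ← zpow_add, add_comm, ← hb]
    simp
  · have : orderOf ((g ^ m) ^ (Nat.gcdB a m)) ∣ r ^ n.factorization r := by
      apply orderOf_dvd_of_pow_eq_one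
      rw [← ha, ← zpow_natCast, ← zpow_natCast, ← zpow_mul, ← zpow_mul,
        ← orderOf_dvd_iff_zpow_eq_one, ← hn, ← ham]
      exact ⟨Nat.gcdB a m, by push_cast; ring⟩
    obtain ⟨k, _, hk⟩ := (Nat.dvd_prime_pow hr).mp this
    exact ⟨k, hk⟩
  · have : orderOf ((g ^ a) ^ (Nat.gcdA a m)) ∣ m := by
      apply orderOf_dvd_of_pow_eq_one
      rw [← zpow_natCast, ← zpow_natCast, ← zpow_mul, ← zpow_mul, ← orderOf_dvd_iff_zpow_eq_one,
        ← hn, ← ham]
      exact ⟨Nat.gcdA a m, by push_cast; ring⟩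
    exact Nat.Coprime.coprime_dvd_left this (Nat.coprime_ordCompl hr hn0).symm

/-- In a finite group with all Sylow subgroups normal, `P C(P)` is everything. -/
theorem sup_centralizer_eq_top {G : Type*} [Group G] [Finite G]
    (hn : ∀ (q : ℕ) [Fact q.Prime] (Q : Sylow q G), (Q : Subgroup G).Normal)
    {p : ℕ} [Fact p.Prime] (P : Sylow p G) :
    (P : Subgroup G) ⊔ centralizer ((P : Subgroup G) : Set G) = ⊤ := by
  rw [← index_eq_one, Nat.eq_one_iff_not_exists_prime_dvd]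
  intro q hq hdvd
  haveI : Fact q.Prime := ⟨hq⟩
  obtain ⟨Q⟩ : Nonempty (Sylow q G) := inferInstance
  have hle : (Q : Subgroup G) ≤ (P : Subgroup G) ⊔ centralizer ((P : Subgroup G) : Set G) := by
    by_cases hqp : q = p
    · subst hqp
      haveI := hn q Q
      exact le_trans (Q.2.le_sylow_of_normal P) le_sup_left
    · refine le_trans ?_ le_sup_right
      intro y hy
      rw [mem_centralizer_iff]
      intro x hx
      exact (commute_of_normal_of_disjoint _ _ (hn p P) (hn q Q)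
        (IsPGroup.disjoint_of_ne p q (Ne.symm hqp) _ _ P.2 Q.2) x y hx hy).eq
  exact Q.not_dvd_index (hdvd.trans (index_dvd_of_le hle))

/-- a `p`-element normalizing a Sylow `p`-subgroup lies in it -/
theorem mem_sylow_of_normalizes {G : Type*} [Group G] {p : ℕ} [Fact p.Prime] (P : Sylow p G)
    {u : G} (hu : IsPGroup p (zpowers u)) (hn : u ∈ normalizer ((P : Subgroup G) : Set G)) :
    u ∈ (P : Subgroup G) := by
  have h1 : IsPGroup p ↥(zpowers u ⊔ (P : Subgroup G)) :=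
    hu.to_sup_of_normal_right' P.2 (zpowers_le.mpr hn)
  have h2 := P.3 h1 le_sup_right
  rw [← h2]
  exact le_sup_left (b := (P : Subgroup G)) (mem_zpowers u)

theorem isPGroup_zpowers {G : Type*} [Group G] {p : ℕ} {u : G} {k : ℕ} (h : orderOf u = p ^ k) :
    IsPGroup p (zpowers u) :=
  IsPGroup.of_card (n := k) (by rw [Nat.card_zpowers, h])

end Cfsg.Agent.Lib.Helper68Cover
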