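import Mathlib

/-!
helper68: irreducible action of an element of prime order `p` on an elementary abelian `q`-group:
the group has order `q ^ orderOf (q : ZMod p)`; structure lemma for minimal non-(closed) groups.
-/

namespace Cfsg.Agent.Lib.Helper68Irr

open Polynomial

theorem card_of_irreducible {p q : ℕ} [hq : Fact q.Prime] (hp : p.Prime) (hpq : q ≠ p)
    {V : Type*} [AddCommGroup V] [Module (ZMod q) V] [Finite V] [Nontrivial V]
    (σ : Module.End (ZMod q) V) (hσp : σ ^ p = 1) (hσ1 : σ ≠ 1)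
    (hirr : ∀ W : Submodule (ZMod q) V, (∀ w ∈ W, σ w ∈ W) → W = ⊥ ∨ W = ⊤) :
    Nat.card V = q ^ orderOf (q : ZMod p) := by
  haveI : Nontrivial (Module.AEval' σ) := (Module.AEval'.of σ).symm.toEquiv.nontrivial
  have hsimple : IsSimpleModule (ZMod q)[X] (Module.AEval' σ) := by
    rw [isSimpleModule_iff]
    refine ⟨fun W => ?_⟩
    let W' : Submodule (ZMod q) V := (W.restrictScalars (ZMod q)).comap (Module.AEval'.of σ).toLinearMap
    have hW' : ∀ w ∈ W', σ w ∈ W' := by
      intro w hw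
      show Module.AEval'.of σ (σ w) ∈ W
      rw [← Module.AEval'.X_smul_of]
      exact W.smul_mem _ hw
    rcases hirr W' hW' with h | h
    · left
      rw [eq_bot_iff]
      intro w hw
      have : (Module.AEval'.of σ).symm w ∈ W' := by
        show Module.AEval'.of σ ((Module.AEval'.of σ).symm w) ∈ W
        simpa using hw
      rw [h, Submodule.mem_bot] at this
      simpa using this
    · right
      rw [eq_top_iff]
      intro w _
      have : (Module.AEval'.of σ).symm w ∈ W' := h ▸ Submodule.mem_top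
      have h2 : Module.AEval'.of σ ((Module.AEval'.of σ).symm w) ∈ W := this
      simpa using h2
  obtain ⟨I, hI, ⟨e⟩⟩ := isSimpleModule_iff_quot_maximal.mp hsimple
  obtain ⟨P, rfl⟩ := (IsPrincipalIdealRing.principal I).principal
  -- annihilation
  have hann : ∀ f : (ZMod q)[X], aeval σ f = 0 → f ∈ Ideal.span {P} := by
    intro f hf
    have h1 : f • (e.symm (Ideal.Quotient.mk _ 1)) = 0 := by
      obtain ⟨v, hv⟩ := (Module.AEval'.of σ).surjective (e.symm (Ideal.Quotient.mk _ 1))
      rw [← hv, ← Module.AEval.of_aeval_smul, hf, zero_smul, map_zero]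
    rw [← map_smul, EmbeddingLike.map_eq_zero_iff] at h1
    have h2 : f • (Ideal.Quotient.mk (Ideal.span {P}) 1) = Ideal.Quotient.mk _ f := by
      rw [← Ideal.Quotient.mk_eq_mk, ← Submodule.Quotient.mk_smul]; simp
    rw [h2, Ideal.Quotient.eq_zero_iff_mem] at h1
    exact h1
  haveI : Fact p.Prime := ⟨hp⟩
  have hXp : (X ^ p - 1 : (ZMod q)[X]) ∈ Ideal.span {P} := hann _ (by simp [hσp])
  have hXp0 : (X ^ p - 1 : (ZMod q)[X]) ≠ 0 := (monic_X_pow_sub_C (1 : ZMod q) hp.ne_zero).ne_zero
  have hP0 : P ≠ 0 := by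
    rintro rfl
    rw [Ideal.mem_span_singleton, zero_dvd_iff] at hXp
    exact hXp0 hXp
  have hPprime : Prime P := (Ideal.span_singleton_prime hP0).mp hI.isPrime
  have hkill : ∀ f ∈ Ideal.span {P}, ∀ v : V, aeval σ f v = 0 := by
    intro f hf v
    have h1 : f • e (Module.AEval'.of σ v) = 0 := by
      obtain ⟨g, hg⟩ := Ideal.Quotient.mk_surjective (e (Module.AEval'.of σ v))
      rw [← hg]
      have : f • (Ideal.Quotient.mk (Ideal.span {P}) g) = Ideal.Quotient.mk _ (f * g) := by
        rw [← Ideal.Quotient.mk_eq_mk, ← Submodule.Quotient.mk_smul]; simp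
      rw [this, Ideal.Quotient.eq_zero_iff_mem]
      exact Ideal.mul_mem_right _ _ hf
    rw [← map_smul, EmbeddingLike.map_eq_zero_iff, ← Module.AEval.of_aeval_smul,
      EmbeddingLike.map_eq_zero_iff] at h1
    exact h1
  have hdvd : P ∣ cyclotomic p (ZMod q) := by
    rw [Ideal.mem_span_singleton, ← cyclotomic_prime_mul_X_sub_one] at hXp
    rcases hPprime.dvd_or_dvd hXp with h | h
    · exact h
    · exfalso
      apply hσ1
      ext v
      have := hkill (X - 1) (Ideal.mem_span_singleton.mpr h) v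
      simpa [sub_eq_zero] using this
  have hcop : q.Coprime p := (Nat.coprime_primes hq.out hp).mpr hpq
  have hdeg := natDegree_of_dvd_cyclotomic_of_irreducible (K := ZMod q) (p := q) (f := 1) (n := p)
    (by simp [ZMod.card]) hcop hdvd hPprime.irreducible
  have hord : orderOf (ZMod.unitOfCoprime (q ^ 1) (hcop.pow_left 1)) = orderOf (q : ZMod p) := by
    rw [← orderOf_units]
    simp
  have hc1 : Nat.card V = Nat.card ((ZMod q)[X] ⧸ Ideal.span {P}) :=
    Nat.card_congr ((Module.AEval'.of σ).toEquiv.trans e.toEquiv)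
  haveI : Finite ((ZMod q)[X] ⧸ Ideal.span {P}) :=
    Finite.of_equiv V ((Module.AEval'.of σ).toEquiv.trans e.toEquiv)
  haveI : Module.Finite (ZMod q) ((ZMod q)[X] ⧸ Ideal.span {P}) := Module.Finite.of_finite
  rw [hc1, Module.natCard_eq_pow_finrank (K := ZMod q), Nat.card_zmod,
    finrank_quotient_span_eq_natDegree, hdeg, hord]

theorem card_of_irreducible_add {V : Type*} [AddCommGroup V] [Finite V] {p q : ℕ} (hp : p.Prime)
    (hq : q.Prime) (hpq : q ≠ p) (hV : ∀ v : V, q • v = 0)
    (f : V →+ V) (hf : ∀ v, f^[p] v = v) (hf1 : ∃ v, f v ≠ v)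
    (hmin : ∀ W : AddSubgroup V, (∀ w ∈ W, f w ∈ W) → W = ⊥ ∨ W = ⊤) :
    Nat.card V = q ^ orderOf (q : ZMod p) := by
  haveI : Fact q.Prime := ⟨hq⟩
  haveI : Module (ZMod q) V := AddCommGroup.zmodModule hV
  obtain ⟨v₀, hv₀⟩ := hf1
  haveI : Nontrivial V := ⟨⟨f v₀, v₀, hv₀⟩⟩
  let σ : V →ₗ[ZMod q] V := AddMonoidHom.toZModLinearMap q f
  have hσ : ∀ a : V, σ a = f a := fun a => rfl
  have hσpow : ∀ (n : ℕ) (a : V), (σ ^ n) a = f^[n] a := by
    intro n a
    rw [Module.End.pow_apply]
    rfl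
  have key := card_of_irreducible hp hpq σ ?_ ?_ ?_
  · exact key
  · ext a
    rw [hσpow, hf]; rfl
  · intro h
    apply hv₀
    rw [← hσ, h]; rfl
  · intro W hW
    rcases hmin W.toAddSubgroup hW with h | h
    · left
      rw [eq_bot_iff]
      intro w hw
      have h1 : w ∈ W.toAddSubgroup := hw
      rw [h, AddSubgroup.mem_bot] at h1
      exact h1
    · right
      rw [eq_top_iff]
      intro w _
      have h1 : w ∈ W.toAddSubgroup := h ▸ AddSubgroup.mem_top _
      exact h1

theorem card_of_irreducible_aut {A : Type*} [CommGroup A] [Finite A] {p q : ℕ} (hp : p.Prime)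
    (hq : q.Prime) (hpq : q ≠ p) (hAq : ∀ a : A, a ^ q = 1)
    (φ : A ≃* A) (hφ : φ ^ p = 1) (hφ1 : φ ≠ 1)
    (hmin : ∀ B : Subgroup A, (∀ b ∈ B, φ b ∈ B) → B = ⊥ ∨ B = ⊤) :
    Nat.card A = q ^ orderOf (q : ZMod p) := by
  haveI : Finite (Additive A) := inferInstanceAs (Finite A)
  have hpow : ∀ (n : ℕ) (a : A), (φ.toMonoidHom.toAdditive)^[n] (Additive.ofMul a) =
      Additive.ofMul ((φ ^ n) a) := by
    intro n
    induction n with
    | zero => intro a; rfl
    | succ n ih =>
      intro a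
      rw [Function.iterate_succ_apply', ih, pow_succ']
      rfl
  have key := card_of_irreducible_add (V := Additive A) hp hq hpq
    (fun a => congrArg Additive.ofMul (hAq (Additive.toMul a))) φ.toMonoidHom.toAdditive ?_ ?_ ?_
  · exact key
  · intro v
    have := hpow p (Additive.toMul v)
    rw [hφ] at this
    exact this
  · by_contra hcon
    push Not at hcon
    apply hφ1
    ext a
    exact hcon (Additive.ofMul a)
  · intro W hW
    rcases hmin (AddSubgroup.toSubgroup' W) (fun b hb => hW (Additive.ofMul b) hb) with h | h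
    · left
      rw [eq_bot_iff]
      intro w hw
      have h1 : (Additive.toMul w : A) ∈ AddSubgroup.toSubgroup' W := hw
      rw [h, Subgroup.mem_bot] at h1
      exact congrArg Additive.ofMul h1
    · right
      rw [eq_top_iff]
      intro w _
      have h1 : (Additive.toMul w : A) ∈ AddSubgroup.toSubgroup' W := h ▸ Subgroup.mem_top _
      exact h1

theorem card_of_irreducible_conj {G : Type*} [Group G] [Finite G] {p q : ℕ} (hp : p.Prime)
    (hq : q.Prime) (hpq : q ≠ p) (A : Subgroup G) [A.Normal]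
    (hAc : ∀ a ∈ A, ∀ b ∈ A, a * b = b * a) (hAq : ∀ a ∈ A, a ^ q = 1)
    (x : G) (hx : x ^ p = 1) (hxA : ∃ a ∈ A, x * a * x⁻¹ ≠ a)
    (hmin : ∀ B : Subgroup G, B ≤ A → (∀ b ∈ B, x * b * x⁻¹ ∈ B) → B = ⊥ ∨ B = A) :
    Nat.card A = q ^ orderOf (q : ZMod p) := by
  let inst : CommGroup A :=
    { (inferInstance : Group A) with mul_comm := fun a b => Subtype.ext (hAc a a.2 b b.2) }
  obtain ⟨a₀, ha₀, hxa₀⟩ := hxA
  refine @card_of_irreducible_aut A inst _ p q hp hq hpq (fun a => Subtype.ext (hAq a a.2))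
    (MulAut.conjNormal x) ?_ ?_ ?_
  · rw [← map_pow, hx, map_one]
  · intro h
    have h2 : MulAut.conjNormal x ⟨a₀, ha₀⟩ = (⟨a₀, ha₀⟩ : A) := by rw [h]; rfl
    have h3 := congrArg Subtype.val h2
    rw [MulAut.conjNormal_apply] at h3
    exact hxa₀ h3
  · intro B hB
    have hBx : ∀ b ∈ B.map A.subtype, x * b * x⁻¹ ∈ B.map A.subtype := by
      rintro _ ⟨b, hb, rfl⟩
      exact ⟨_, hB b hb, MulAut.conjNormal_apply _ _⟩
    rcases hmin (B.map A.subtype) (Subgroup.map_subtype_le B) hBx with h | h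
    · left
      exact (Subgroup.map_eq_bot_iff_of_injective _ A.subtype_injective).mp h
    · right
      rw [eq_top_iff]
      intro a _
      have h1 : (a : G) ∈ B.map A.subtype := by rw [h]; exact a.2
      obtain ⟨b, hb, hba⟩ := h1
      have : b = a := Subtype.ext hba
      exact this ▸ hb

open Subgroup
open scoped Pointwise

theorem exists_invariant_sylow {G : Type*} [Group G] [Finite G] {p q : ℕ} [Fact p.Prime]
    [Fact q.Prime] (P : Subgroup G) (hP : IsPGroup p P) (K : Subgroup G) [K.Normal]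
    (hK : ¬ p ∣ Nat.card K) :
    ∃ Q' : Sylow q K, ∀ u ∈ P, ∀ y : K, y ∈ Q' → MulAut.conjNormal u y ∈ Q' := by
  letI : MulAction P (Sylow q K) :=
    MulAction.compHom (Sylow q K) ((MulAut.conjNormal (H := K)).comp P.subtype)
  have hnd : ¬ p ∣ Nat.card (Sylow q K) := by
    intro hd
    obtain ⟨Q0⟩ : Nonempty (Sylow q K) := inferInstance
    exact hK ((hd.trans Q0.card_dvd_index).trans (Subgroup.index_dvd_card _))
  obtain ⟨Q', hQ'⟩ := hP.nonempty_fixed_point_of_prime_not_dvd_card (Sylow q K) hnd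
  refine ⟨Q', fun u hu y hy => ?_⟩
  have h1 : (MulAut.conjNormal u : MulAut K) • Q' = Q' := hQ' ⟨u, hu⟩
  have h2 : (MulAut.conjNormal u : MulAut K) • y ∈
      (MulAut.conjNormal u : MulAut K) • (Q' : Subgroup K) :=
    Subgroup.smul_mem_pointwise_smul y _ _ hy
  rw [← Sylow.pointwise_smul_def, h1] at h2
  exact h2

theorem mem_normalizer_of_conj_mem {G : Type*} [Group G] [Finite G] (B : Subgroup G) (x : G)
    (h : ∀ b ∈ B, x * b * x⁻¹ ∈ B) : x ∈ normalizer (B : Set G) := by
  rw [mem_normalizer_iff]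
  intro b
  refine ⟨h b, fun hb => ?_⟩
  let f : B → B := fun c => ⟨x * c * x⁻¹, h c c.2⟩
  have hinj : Function.Injective f := by
    intro c d hcd
    have h1 : x * c * x⁻¹ = x * d * x⁻¹ := congrArg Subtype.val hcd
    exact Subtype.ext (by simpa using h1)
  obtain ⟨c, hc⟩ := (Finite.injective_iff_surjective.mp hinj) ⟨x * b * x⁻¹, hb⟩
  have h1 : x * c * x⁻¹ = x * b * x⁻¹ := congrArg Subtype.val hc
  have h2 : (c : G) = b := by simpa using h1
  exact h2 ▸ c.2

theorem normal_of_sup_zpowers {G : Type*} [Group G] [Finite G] (A B : Subgroup G) (x : G)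
    (htop : A ⊔ zpowers x = ⊤) (hA : ∀ a ∈ A, ∀ b ∈ B, a * b * a⁻¹ ∈ B)
    (hx : ∀ b ∈ B, x * b * x⁻¹ ∈ B) : B.Normal := by
  rw [← normalizer_eq_top_iff, eq_top_iff, ← htop, sup_le_iff, zpowers_le]
  exact ⟨fun a ha => mem_normalizer_of_conj_mem B a (hA a ha), mem_normalizer_of_conj_mem B x hx⟩

theorem eq_one_of_pow_of_not_dvd {G : Type*} [Group G] [Finite G] {p : ℕ} (hp : p.Prime)
    (A : Subgroup G) (hpA : ¬ p ∣ Nat.card A) {g : G} (hg : g ∈ A) {k : ℕ} (hk : g ^ p ^ k = 1) :
    g = 1 := by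
  have h1 : orderOf g ∣ p ^ k := orderOf_dvd_of_pow_eq_one hk
  have h2 : orderOf g ∣ Nat.card A := by
    have := orderOf_dvd_natCard (⟨g, hg⟩ : A)
    rwa [Subgroup.orderOf_mk] at this
  have h3 : (p ^ k).Coprime (Nat.card A) := ((Nat.Prime.coprime_iff_not_dvd hp).mpr hpA).pow_left k
  exact orderOf_eq_one_iff.mp (Nat.eq_one_of_dvd_coprimes h3 h1 h2)

theorem structure_of_minimal {G : Type*} [Group G] [Finite G] {p : ℕ} (hp : p.Prime)
    (A : Subgroup G) [hAn : A.Normal] (hpA : ¬ p ∣ Nat.card A)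
    (hmin : ∀ B : Subgroup G, B.Normal → B ≤ A → B = ⊥ ∨ B = A)
    (x : G) (hx : x ^ p = 1) (htop : A ⊔ zpowers x = ⊤)
    (hxA : ∃ a ∈ A, x * a * x⁻¹ ≠ a)
    (hcent : ∀ H : Subgroup G, H ≠ ⊤ → x ∈ H → ∀ a ∈ A, a ∈ H → x * a * x⁻¹ = a) :
    ∃ q : ℕ, q.Prime ∧ q ≠ p ∧ Nat.card G = p * q ^ orderOf (q : ZMod p) ∧
      Nat.card A = q ^ orderOf (q : ZMod p) ∧ (∀ a ∈ A, ∀ b ∈ A, a * b = b * a) ∧
      ∀ a ∈ A, a ^ q = 1 := by
  haveI : Fact p.Prime := ⟨hp⟩
  obtain ⟨a₀, ha₀, hxa₀⟩ := hxA
  have ha₀1 : a₀ ≠ 1 := by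
    rintro rfl
    simp at hxa₀
  have hA1 : A ≠ ⊥ := by
    intro h
    rw [h, mem_bot] at ha₀
    exact ha₀1 ha₀
  have hx1 : x ≠ 1 := by
    rintro rfl
    simp at hxa₀
  have hxo : orderOf x = p := orderOf_eq_prime hx hx1
  have hZp : IsPGroup p (zpowers x) := by
    apply IsPGroup.of_card (n := 1)
    rw [Nat.card_zpowers, hxo, pow_one]
  -- step 1 : A is a q-group
  have step1 : ∃ q : ℕ, q.Prime ∧ IsPGroup q A := by
    by_contra hno
    apply hxa₀
    have hCA : A ⊓ centralizer {x} = A := by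
      apply Subgroup.eq_of_le_of_card_ge inf_le_left
      apply Nat.le_of_dvd Nat.card_pos
      rw [← Nat.factorization_prime_le_iff_dvd Nat.card_pos.ne' Nat.card_pos.ne']
      intro q hq
      haveI : Fact q.Prime := ⟨hq⟩
      obtain ⟨Q', hQ'⟩ := exists_invariant_sylow (q := q) (zpowers x) hZp A hpA
      have hcardQ : Nat.card ((Q' : Subgroup A).map A.subtype) =
          q ^ (Nat.card A).factorization q := by
        rw [Subgroup.card_map_of_injective A.subtype_injective, Q'.card_eq_multiplicity]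
      have hQA : (Q' : Subgroup A).map A.subtype ≤ A := map_subtype_le _
      have hxN : x ∈ normalizer (((Q' : Subgroup A).map A.subtype : Subgroup G) : Set G) := by
        apply mem_normalizer_of_conj_mem
        rintro _ ⟨y, hy, rfl⟩
        exact ⟨_, hQ' x (mem_zpowers x) y hy, MulAut.conjNormal_apply _ _⟩
      by_cases hN : normalizer (((Q' : Subgroup A).map A.subtype : Subgroup G) : Set G) = ⊤
      · rcases hmin _ (normalizer_eq_top_iff.mp hN) hQA with h | h
        · rw [h, card_bot] at hcardQ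
          have : (Nat.card A).factorization q = 0 := by
            by_contra h0
            exact (Nat.one_lt_pow h0 hq.one_lt).ne hcardQ
          rw [this]; exact Nat.zero_le _
        · exfalso
          apply hno
          refine ⟨q, hq, IsPGroup.of_card (n := (Nat.card A).factorization q) ?_⟩
          rw [← hcardQ, h]
      · have hle : (Q' : Subgroup A).map A.subtype ≤ A ⊓ centralizer {x} := by
          intro a ha
          refine mem_inf.mpr ⟨hQA ha, ?_⟩
          rw [mem_centralizer_singleton_iff]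
          have := hcent _ hN hxN a (hQA ha) (le_normalizer ha)
          exact (mul_inv_eq_iff_eq_mul.mp this).symm
        have hd := Subgroup.card_dvd_of_le hle
        rw [hcardQ] at hd
        exact (hq.pow_dvd_iff_le_factorization Nat.card_pos.ne').mp hd
    have h1 : a₀ ∈ A ⊓ centralizer {x} := by rw [hCA]; exact ha₀
    have h2 := mem_centralizer_singleton_iff.mp (mem_inf.mp h1).2
    rw [← h2]; group
  obtain ⟨q, hq, hAq⟩ := step1
  haveI : Fact q.Prime := ⟨hq⟩
  haveI : Nontrivial A := (nontrivial_iff_ne_bot A).mpr hA1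
  have hqA : q ∣ Nat.card A := by
    obtain ⟨n, hn⟩ := IsPGroup.iff_card.mp hAq
    rw [hn]
    apply dvd_pow_self
    rintro rfl
    rw [pow_zero] at hn
    exact hA1 ((card_eq_one).mp hn)
  have hqp : q ≠ p := by
    rintro rfl
    exact hpA hqA
  -- step 2 : abelian
  have hab : ∀ a ∈ A, ∀ b ∈ A, a * b = b * a := by
    have hZ : A ⊓ centralizer (A : Set G) = A := by
      rcases hmin (A ⊓ centralizer (A : Set G)) inferInstance inf_le_left with h | h
      · exfalso
        haveI := hAq.center_nontrivial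
        obtain ⟨z, hz⟩ := exists_ne (1 : center A)
        have h1 : ((z : A) : G) ∈ A ⊓ centralizer (A : Set G) := by
          refine mem_inf.mpr ⟨(z : A).2, ?_⟩
          rw [mem_centralizer_iff]
          intro b hb
          have := (mem_center_iff.mp z.2) ⟨b, hb⟩
          exact congrArg Subtype.val this
        rw [h, mem_bot] at h1
        apply hz
        exact Subtype.ext (Subtype.ext h1)
      · exact h
    intro a ha b hb
    have h1 : b ∈ A ⊓ centralizer (A : Set G) := by rw [hZ]; exact hb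
    exact (mem_centralizer_iff.mp (mem_inf.mp h1).2) a ha
  -- exponent q
  have hexp : ∀ a ∈ A, a ^ q = 1 := by
    let B : Subgroup G :=
      { carrier := {a | a ∈ A ∧ a ^ q = 1}
        one_mem' := ⟨A.one_mem, one_pow _⟩
        mul_mem' := by
          rintro a b ⟨ha, ha'⟩ ⟨hb, hb'⟩
          refine ⟨A.mul_mem ha hb, ?_⟩
          rw [(show Commute a b from hab a ha b hb).mul_pow, ha', hb', one_mul]
        inv_mem' := by
          rintro a ⟨ha, ha'⟩
          exact ⟨A.inv_mem ha, by rw [inv_pow, ha', inv_one]⟩ }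
    have hBn : B.Normal := by
      refine ⟨fun a ha g => ⟨hAn.conj_mem a ha.1 g, ?_⟩⟩
      rw [conj_pow, ha.2]; simp
    rcases hmin B hBn (fun a ha => ha.1) with h | h
    · exfalso
      obtain ⟨z, hz⟩ := exists_prime_orderOf_dvd_card' q hqA
      have h1 : (z : G) ∈ B := ⟨z.2, by rw [← Subgroup.coe_pow, ← hz, pow_orderOf_eq_one]; rfl⟩
      rw [h, mem_bot] at h1
      have h2 : z = 1 := Subtype.ext h1
      rw [h2, orderOf_one] at hz
      exact hq.one_lt.ne hz
    · intro a ha
      have h1 : a ∈ B := h ▸ ha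
      exact h1.2
  have hcardA : Nat.card A = q ^ orderOf (q : ZMod p) := by
    apply card_of_irreducible_conj hp hq hqp A hab hexp x hx ⟨a₀, ha₀, hxa₀⟩
    intro B hBA hBx
    apply hmin B _ hBA
    apply normal_of_sup_zpowers A B x htop _ hBx
    intro a ha b hb
    rw [hab a ha b (hBA hb)]
    simpa using hb
  have hidx : A.index = p := by
    have hinf : A ⊓ zpowers x = ⊥ := by
      rw [eq_bot_iff]
      rintro g ⟨hgA, hgZ⟩
      rw [mem_bot]
      apply eq_one_of_pow_of_not_dvd hp A hpA hgA (k := 1)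
      obtain ⟨k, rfl⟩ := mem_zpowers_iff.mp hgZ
      rw [pow_one, ← zpow_natCast, ← zpow_mul, mul_comm, zpow_mul, zpow_natCast, hx, one_zpow]
    rw [← relIndex_top_right, ← htop, relIndex_sup_left, ← inf_relIndex_right, hinf,
      relIndex_bot_left, Nat.card_zpowers, hxo]
  refine ⟨q, hq, hqp, ?_, hcardA, hab, hexp⟩
  rw [← A.card_mul_index, hidx, hcardA, mul_comm]


theorem sylow_normal_of_not_dvd {H : Type*} [Group H] [Finite H] {p : ℕ} [Fact p.Prime]
    (h : ¬ p ∣ Nat.card H) (P : Sylow p H) : (P : Subgroup H).Normal := by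
  have h1 : Nat.card (P : Subgroup H) = 1 := by
    rw [P.card_eq_multiplicity, Nat.factorization_eq_zero_of_not_dvd h, pow_zero]
  rw [card_eq_one.mp h1]
  infer_instance

theorem sylow_normal_of_isPGroup {H : Type*} [Group H] {p : ℕ}
    (h : IsPGroup p H) (P : Sylow p H) : (P : Subgroup H).Normal := by
  have h1 : (⊤ : Subgroup H) = P := P.3 (h.to_subgroup ⊤) le_top
  rw [← h1]
  infer_instance

theorem isPGroup_of_card_dvd_prime {H : Type*} [Group H] {p : ℕ} (hp : p.Prime)
    (h : Nat.card H ∣ p) : IsPGroup p H := by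
  rcases (Nat.dvd_prime hp).mp h with h1 | h1
  · exact IsPGroup.of_card (n := 0) (by rw [h1, pow_zero])
  · exact IsPGroup.of_card (n := 1) (by rw [h1, pow_one])

theorem sup_zpowers_eq_top_of_index_prime {G : Type*} [Group G] {p : ℕ} (hp : p.Prime)
    (A : Subgroup G) (hidx : A.index = p) {y : G} (hy : y ∉ A) : A ⊔ zpowers y = ⊤ := by
  have h1 := relIndex_mul_index (le_sup_left : A ≤ A ⊔ zpowers y)
  rw [hidx] at h1
  have h2 : A.relIndex (A ⊔ zpowers y) ≠ 1 := by
    intro h
    rw [relIndex_eq_one] at h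
    exact hy (h (le_sup_right (a := A) (mem_zpowers y)))
  have h3 : A.relIndex (A ⊔ zpowers y) ∣ p := Dvd.intro _ h1
  have h4 : A.relIndex (A ⊔ zpowers y) = p := ((Nat.dvd_prime hp).mp h3).resolve_left h2
  rw [h4] at h1
  have h5 : (A ⊔ zpowers y).index = 1 := by
    have := Nat.eq_of_mul_eq_mul_left hp.pos (h1.trans (mul_one p).symm)
    exact this
  exact index_eq_one.mp h5

theorem comm_of_sup_zpowers {G : Type*} [Group G] (A : Subgroup G) (y : G)
    (htop : A ⊔ zpowers y = ⊤) (hab : ∀ a ∈ A, ∀ b ∈ A, a * b = b * a)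
    (hy : ∀ a ∈ A, y * a * y⁻¹ = a) : ∀ g h : G, g * h = h * g := by
  have hc : (⊤ : Subgroup G) ≤ center G := by
    rw [← htop, sup_le_iff, zpowers_le]
    have hyc : y ∈ center G := by
      have : (⊤ : Subgroup G) ≤ centralizer {y} := by
        rw [← htop, sup_le_iff, zpowers_le]
        refine ⟨fun a ha => ?_, mem_centralizer_singleton_iff.mpr rfl⟩
        rw [mem_centralizer_singleton_iff]
        exact (mul_inv_eq_iff_eq_mul.mp (hy a ha)).symm
      rw [mem_center_iff]
      intro g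
      exact mem_centralizer_singleton_iff.mp (this (mem_top g))
    refine ⟨fun a ha => ?_, hyc⟩
    have : (⊤ : Subgroup G) ≤ centralizer {a} := by
      rw [← htop, sup_le_iff, zpowers_le]
      refine ⟨fun b hb => ?_, ?_⟩
      · rw [mem_centralizer_singleton_iff]
        exact hab b hb a ha
      · rw [mem_centralizer_singleton_iff]
        exact mul_inv_eq_iff_eq_mul.mp (hy a ha)
    rw [mem_center_iff]
    intro g
    exact mem_centralizer_singleton_iff.mp (this (mem_top g))
  intro g h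
  exact (mem_center_iff.mp (hc (mem_top h)) g)

end Cfsg.Agent.Lib.Helper68Irr
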