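import Mathlib
import Cfsg.Agent.Lib.Helper68Irr

/-! helper68: minimal normal subgroups, small Sylow lemmas -/

namespace Cfsg.Agent.Lib.Helper68Irr2

open Subgroup

theorem exists_minimal_normal {G : Type*} [Group G] [Finite G] (N : Subgroup G) (hN : N.Normal)
    (hN1 : N ≠ ⊥) : ∃ A : Subgroup G, A ≤ N ∧ A.Normal ∧ A ≠ ⊥ ∧
      ∀ B : Subgroup G, B.Normal → B ≤ A → B = ⊥ ∨ B = A := by
  obtain ⟨A, hAN, hA⟩ := exists_minimal_le_of_wellFoundedLT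
    (fun B : Subgroup G => B.Normal ∧ B ≠ ⊥) N ⟨hN, hN1⟩
  refine ⟨A, hAN, hA.1.1, hA.1.2, fun B hB hBA => ?_⟩
  by_cases hB1 : B = ⊥
  · exact Or.inl hB1
  · exact Or.inr (le_antisymm hBA (hA.2 ⟨hB, hB1⟩ hBA))

theorem exists_proper_normal {G : Type*} [Group G] [Nontrivial G] (h : ¬ IsSimpleGroup G) :
    ∃ N : Subgroup G, N.Normal ∧ N ≠ ⊥ ∧ N ≠ ⊤ := by
  by_contra hcon
  push Not at hcon
  apply h
  refine ⟨fun N hN => ?_⟩
  by_cases h1 : N = ⊥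
  · exact Or.inl h1
  · exact Or.inr (hcon N hN h1)

/-- minimal normal, proper -/
theorem exists_minimal_normal_proper {G : Type*} [Group G] [Finite G] [Nontrivial G]
    (h : ¬ IsSimpleGroup G) : ∃ A : Subgroup G, A.Normal ∧ A ≠ ⊥ ∧ A ≠ ⊤ ∧
      ∀ B : Subgroup G, B.Normal → B ≤ A → B = ⊥ ∨ B = A := by
  obtain ⟨N, hN, hN1, hNt⟩ := exists_proper_normal h
  obtain ⟨A, hAN, hA, hA1, hmin⟩ := exists_minimal_normal N hN hN1
  refine ⟨A, hA, hA1, ?_, hmin⟩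
  rintro rfl
  exact hNt (top_le_iff.mp hAN)

end Cfsg.Agent.Lib.Helper68Irr2
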