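import Mathlib
import Cfsg.Statements.S3875
import Cfsg.Agent.S3868
import Cfsg.Agent.Lib.Helper7SL

set_option autoImplicit false
set_option linter.style.haveILetI false
open Cfsg

/-! Least order of a group whose Sylow `p`-subgroups are not normal (towards S3875). -/

namespace Cfsg.Agent.Lib.Helper58NPC

/-- commutative groups are `p`-closed -/
theorem pclosed_of_comm (p : ℕ) {H : Type*} [Group H] (h : ∀ a b : H, a * b = b * a) :
    Cfsg.IsPClosed p H := by
  intro P
  refine ⟨fun n hn g => ?_⟩
  rw [h g n, mul_assoc, mul_inv_cancel, mul_one]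
  exact hn

/-- the multiplication action of the units of a field on its additive group -/
noncomputable def phi (F : Type) [Field F] : Fˣ →* MulAut (Multiplicative F) :=
  (MulAutMultiplicative F).symm.toMonoidHom.comp (DistribMulAction.toAddAut Fˣ F)

theorem phi_apply (F : Type) [Field F] (a : Fˣ) (x : F) :
    phi F a (Multiplicative.ofAdd x) = Multiplicative.ofAdd ((a : F) * x) := rfl

theorem exists_affine (p : ℕ) [Fact p.Prime] (m : ℕ) (hm : IsPrimePow m) (hm1 : m % p = 1) :
    ∃ (H : Type) (_ : Group H) (_ : Finite H), Nat.card H = p * m ∧ ¬ Cfsg.IsPClosed p H := by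
  have hp : p.Prime := Fact.out
  obtain ⟨r, k, hr, hk, rfl⟩ := hm
  have hr' : r.Prime := hr.nat_prime
  haveI : Fact r.Prime := ⟨hr'⟩
  let F := GaloisField r k
  have hcF : Nat.card F = r ^ k := GaloisField.card r k hk.ne'
  haveI : Finite F := Nat.finite_of_card_ne_zero (by rw [hcF]; exact pow_ne_zero _ hr'.ne_zero)
  haveI : Fintype F := Fintype.ofFinite F
  have hcU : Nat.card Fˣ = r ^ k - 1 := by
    rw [Nat.card_units, hcF]
  have hpd : p ∣ Nat.card Fˣ := by
    rw [hcU]
    have h1 : 1 ≤ r ^ k := Nat.one_le_pow _ _ hr'.pos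
    have := Nat.div_add_mod (r ^ k) p
    rw [hm1] at this
    exact ⟨r ^ k / p, by omega⟩
  obtain ⟨a, ha⟩ := exists_prime_orderOf_dvd_card' p hpd
  let C := Subgroup.zpowers a
  have hcC : Nat.card C = p := by rw [Nat.card_zpowers, ha]
  let φ : C →* MulAut (Multiplicative F) := (phi F).comp C.subtype
  refine ⟨Multiplicative F ⋊[φ] C, inferInstance, ?_, ?_, ?_⟩
  · exact Finite.of_equiv _ SemidirectProduct.equivProd.symm
  · rw [SemidirectProduct.card, hcC, Nat.card_congr Multiplicative.toAdd, hcF, mul_comm]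
  · intro hcl
    haveI : Finite (Multiplicative F ⋊[φ] C) := Finite.of_equiv _ SemidirectProduct.equivProd.symm
    have hcS : Nat.card (Multiplicative F ⋊[φ] C) = p * r ^ k := by
      rw [SemidirectProduct.card, hcC, Nat.card_congr Multiplicative.toAdd, hcF, mul_comm]
    let R : Subgroup (Multiplicative F ⋊[φ] C) := (SemidirectProduct.inr : C →* _).range
    let N : Subgroup (Multiplicative F ⋊[φ] C) := (SemidirectProduct.inl : Multiplicative F →* _).range
    have hcR : Nat.card R = p := by
      rw [← hcC]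
      exact (Nat.card_congr (MonoidHom.ofInjective SemidirectProduct.inr_injective).toEquiv).symm
    have hcN : Nat.card N = r ^ k := by
      rw [← hcF, ← Nat.card_congr (Multiplicative.toAdd (α := F))]
      exact (Nat.card_congr (MonoidHom.ofInjective SemidirectProduct.inl_injective).toEquiv).symm
    have hRp : IsPGroup p R := IsPGroup.of_card (n := 1) (by rw [hcR, pow_one])
    obtain ⟨Q, hQ⟩ := hRp.exists_le_sylow
    have hpm : ¬ p ∣ r ^ k := by
      intro h
      have := Nat.mod_eq_zero_of_dvd h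
      omega
    have hcQ : Nat.card Q = p := by
      rw [Sylow.card_eq_multiplicity, hcS]
      have hrk : r ^ k ≠ 0 := pow_ne_zero _ hr'.ne_zero
      rw [Nat.factorization_mul hp.ne_zero hrk]
      rw [Finsupp.add_apply, hp.factorization_self, Nat.factorization_eq_zero_of_not_dvd hpm, pow_one]
    have hRQ : R = (Q : Subgroup _) :=
      Subgroup.eq_of_le_of_card_ge hQ (by rw [hcQ, hcR])
    have hRn : R.Normal := by rw [hRQ]; exact hcl Q
    have hNn : N.Normal := by
      have : N = (SemidirectProduct.rightHom : Multiplicative F ⋊[φ] C →* C).ker :=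
        SemidirectProduct.range_inl_eq_ker_rightHom
      rw [this]; infer_instance
    have hdisj : Disjoint N R := by
      rw [Subgroup.disjoint_def]
      intro x hxN hxR
      have h1 : orderOf x ∣ r ^ k := by
        rw [← hcN]; exact (Subgroup.orderOf_mk x hxN) ▸ orderOf_dvd_natCard (⟨x, hxN⟩ : N)
      have h2 : orderOf x ∣ p := by
        rw [← hcR]; exact (Subgroup.orderOf_mk x hxR) ▸ orderOf_dvd_natCard (⟨x, hxR⟩ : R)
      rcases (Nat.dvd_prime hp).1 h2 with h | h
      · exact orderOf_eq_one_iff.1 h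
      · exact absurd (h ▸ h1) hpm
    have hcomm := Subgroup.commute_of_normal_of_disjoint N R hNn hRn hdisj
    have hfix : φ ⟨a, Subgroup.mem_zpowers a⟩ (Multiplicative.ofAdd (1 : F)) = Multiplicative.ofAdd (1 : F) := by
      apply SemidirectProduct.inl_injective (φ := φ)
      rw [SemidirectProduct.inl_aut]
      have := hcomm (SemidirectProduct.inl (Multiplicative.ofAdd (1 : F)))
        (SemidirectProduct.inr ⟨a, Subgroup.mem_zpowers a⟩) ⟨_, rfl⟩ ⟨_, rfl⟩
      rw [← this.eq, mul_assoc, ← (SemidirectProduct.inr : C →* Multiplicative F ⋊[φ] C).map_mul, mul_inv_cancel,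
        (SemidirectProduct.inr : C →* Multiplicative F ⋊[φ] C).map_one, mul_one]
    have h2 : ((a : F) * 1) = 1 := by
      have : φ ⟨a, Subgroup.mem_zpowers a⟩ (Multiplicative.ofAdd (1 : F)) = Multiplicative.ofAdd ((a : F) * 1) := rfl
      rw [this] at hfix
      exact Multiplicative.ofAdd.injective hfix
    have h3 : a = 1 := by
      ext; simpa using h2
    rw [h3, orderOf_one] at ha
    exact hp.one_lt.ne ha

/-- a simple group whose order is divisible by `p` and is not `p` is not `p`-closed -/
theorem not_pclosed_of_simple (p : ℕ) [Fact p.Prime] {H : Type*} [Group H] [Finite H] [IsSimpleGroup H]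
    (hd : p ∣ Nat.card H) (hne : Nat.card H ≠ p) : ¬ Cfsg.IsPClosed p H := by
  have hp : p.Prime := Fact.out
  intro hcl
  obtain ⟨P⟩ : Nonempty (Sylow p H) := inferInstance
  have hn := hcl P
  rcases hn.eq_bot_or_eq_top with h | h
  · have h1 : Nat.card (P : Subgroup H) = 1 := by rw [h]; exact Subgroup.card_bot
    have h2 := P.card_eq_multiplicity
    rw [h1] at h2
    have h3 : (Nat.card H).factorization p ≠ 0 := by
      have := (hp.dvd_iff_one_le_factorization (Nat.card_pos (α := H)).ne').1 hd
      omega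
    have := Nat.one_lt_pow h3 hp.one_lt
    omega
  · have hpg : IsPGroup p H := by
      have := P.isPGroup'
      rw [h] at this
      exact this.of_equiv Subgroup.topEquiv
    have hnil : Group.IsNilpotent H := hpg.isNilpotent
    have hsol : Group.IsSolvable H := inferInstance
    have hcomm := IsSimpleGroup.comm_iff_isSolvable.2 hsol
    letI : CommGroup H := { (inferInstance : Group H) with mul_comm := hcomm }
    have hpr : (Nat.card H).Prime := IsSimpleGroup.prime_card
    exact hne (((Nat.prime_dvd_prime_iff_eq hp hpr).1 hd).symm)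

theorem exists_psl (p : ℕ) [Fact p.Prime] (hp3 : 3 < p) :
    ∃ (H : Type) (_ : Group H) (_ : Finite H), Nat.card H = p * (p ^ 2 - 1) / 2 ∧ ¬ Cfsg.IsPClosed p H := by
  have hp : p.Prime := Fact.out
  have hodd : Odd (Fintype.card (ZMod p)) := by
    rw [ZMod.card]; exact hp.odd_of_ne_two (by omega)
  have hc := Cfsg.Agent.Lib.Helper7SL.card_PSL_two_mul_two (F := ZMod p) hodd
  rw [ZMod.card] at hc
  have hc' : Nat.card (Matrix.ProjectiveSpecialLinearGroup (Fin 2) (ZMod p)) = p * (p ^ 2 - 1) / 2 := by
    rw [← hc]; simp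
  haveI : IsSimpleGroup (Matrix.ProjectiveSpecialLinearGroup (Fin 2) (ZMod p)) :=
    Matrix.ProjectiveSpecialLinearGroup.rank_two_simple (by rw [Nat.card_eq_fintype_card, ZMod.card]; omega)
  refine ⟨Matrix.ProjectiveSpecialLinearGroup (Fin 2) (ZMod p), inferInstance, inferInstance, hc', ?_⟩
  apply not_pclosed_of_simple p
  · have h2 : (2 : ℕ) ∣ p ^ 2 - 1 := by
      obtain ⟨j, hj⟩ := hp.odd_of_ne_two (by omega)
      subst hj
      refine ⟨2 * j ^ 2 + 2 * j, ?_⟩
      have : (2 * j + 1) ^ 2 = 2 * (2 * j ^ 2 + 2 * j) + 1 := by ring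
      omega
    obtain ⟨c, hcc⟩ := h2
    rw [hc', hcc]
    refine ⟨c, ?_⟩
    rw [show p * (2 * c) = (p * c) * 2 by ring, Nat.mul_div_cancel _ (by norm_num)]
  · intro h
    rw [h] at hc
    have h1 : p ^ 2 - 1 = 2 := by
      have := Nat.eq_of_mul_eq_mul_left hp.pos hc
      omega
    have h2 : 16 ≤ p ^ 2 := by nlinarith
    omega

/-- the Brauer--Reynolds statement (S4701) for groups in `Type` -/
def BR (p : ℕ) [Fact p.Prime] : Prop :=
  ∀ (G : Type) [Group G] [Finite G], commutator G = ⊤ → p ∣ Nat.card G → Nat.card G < p ^ 3 →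
    ∀ P : Sylow p G, ¬ (P : Subgroup G).Normal → (∀ N : Subgroup G, N.Normal → Nat.card N ≠ 2) →
    (∃ (F : Type) (_ : Field F) (_ : Fintype F), Fintype.card F = p ∧ 3 < p ∧
      Nonempty (G ≃* Matrix.ProjectiveSpecialLinearGroup (Fin 2) F)) ∨
    (∃ (m : ℕ) (F : Type) (_ : Field F) (_ : Fintype F), Fintype.card F = 2 ^ m ∧ p = 2 ^ m + 1 ∧ 3 < p ∧
      Nonempty (G ≃* Matrix.SpecialLinearGroup (Fin 2) F))

theorem simple_case (p : ℕ) [Fact p.Prime] (hp2 : p ≠ 2) (hBR : BR p) (H : Type) [Group H] [Finite H]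
    [IsSimpleGroup H] (hH : ¬ Cfsg.IsPClosed p H) : p * (p ^ 2 - 1) / 2 ≤ Nat.card H := by
  have hp : p.Prime := Fact.out
  by_contra hlt
  push Not at hlt
  have hnc : ¬ ∀ a b : H, a * b = b * a := fun h => hH (pclosed_of_comm p h)
  have hperf : commutator H = ⊤ := by
    rcases (inferInstance : (commutator H).Normal).eq_bot_or_eq_top with h | h
    · exfalso
      apply hnc
      intro a b
      have : a * b * a⁻¹ * b⁻¹ ∈ commutator H :=
        Subgroup.commutator_mem_commutator (Subgroup.mem_top a) (Subgroup.mem_top b)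
      rw [h, Subgroup.mem_bot] at this
      have h1 : a * b * a⁻¹ = b := by
        have := mul_inv_eq_one.1 this
        exact this
      rw [mul_inv_eq_iff_eq_mul] at h1
      exact h1
    · exact h
  unfold Cfsg.IsPClosed at hH
  push Not at hH
  obtain ⟨P, hP⟩ := hH
  have hd : p ∣ Nat.card H := by
    by_contra hnd
    apply hP
    have h2 := P.card_eq_multiplicity
    rw [Nat.factorization_eq_zero_of_not_dvd hnd, pow_zero] at h2
    rw [Subgroup.card_eq_one.1 h2]
    infer_instance
  have hcube : Nat.card H < p ^ 3 := by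
    refine lt_of_lt_of_le hlt ?_
    refine (Nat.div_le_self _ _).trans ?_
    calc p * (p ^ 2 - 1) ≤ p * p ^ 2 := Nat.mul_le_mul_left _ (Nat.sub_le _ _)
      _ = p ^ 3 := by ring
  have h2 : ∀ N : Subgroup H, N.Normal → Nat.card N ≠ 2 := by
    intro N hN hc
    rcases hN.eq_bot_or_eq_top with h | h
    · rw [h, Subgroup.card_bot] at hc; omega
    · rw [h, Subgroup.card_top] at hc
      haveI : Fact (Nat.Prime 2) := ⟨Nat.prime_two⟩
      have hcyc : IsCyclic H := isCyclic_of_prime_card hc
      exact hnc (fun a b => hcyc.isMulCommutative.is_comm.comm a b)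
  rcases hBR H hperf hd hcube P hP h2 with ⟨F, _, _, hF, h3, ⟨e⟩⟩ | ⟨k, F, _, _, hF, hpk, h3, ⟨e⟩⟩
  · have hodd : Odd (Fintype.card F) := by rw [hF]; exact hp.odd_of_ne_two hp2
    have hc := Cfsg.Agent.Lib.Helper7SL.card_PSL_two_mul_two (F := F) hodd
    rw [hF, ← Nat.card_congr e.toEquiv] at hc
    rw [← hc] at hlt
    simp at hlt
  · have hc := Cfsg.Agent.Lib.Helper7SL.card_SL_two (F := F)
    rw [hF, ← Nat.card_congr e.toEquiv] at hc
    rw [hc] at hlt
    have hq : 4 ≤ 2 ^ k := by
      have hk : 2 ≤ k := by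
        by_contra hk
        have : k = 0 ∨ k = 1 := by omega
        rcases this with rfl | rfl <;> omega
      calc 4 = 2 ^ 2 := by norm_num
        _ ≤ 2 ^ k := Nat.pow_le_pow_right (by norm_num) hk
    generalize 2 ^ k = q at hpk hlt hq
    subst hpk
    have h5 : (q + 1) * ((q + 1) ^ 2 - 1) / 2 ≤ q * (q ^ 2 - 1) := by
      apply Nat.div_le_of_le_mul
      obtain ⟨t, rfl⟩ : ∃ t, q = t + 4 := ⟨q - 4, by omega⟩
      have e1 : (t + 4 + 1) ^ 2 - 1 = t ^ 2 + 10 * t + 24 := by
        have : (t + 4 + 1) ^ 2 = t ^ 2 + 10 * t + 24 + 1 := by ring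
        omega
      have e2 : (t + 4) ^ 2 - 1 = t ^ 2 + 8 * t + 15 := by
        have : (t + 4) ^ 2 = t ^ 2 + 8 * t + 15 + 1 := by ring
        omega
      rw [e1, e2]
      nlinarith [sq_nonneg t]
    omega

theorem lower (p : ℕ) [Fact p.Prime] (hp2 : p ≠ 2) (hBR : BR p) (m : ℕ)
    (hleast : ∀ k : ℕ, IsPrimePow k → k % p = 1 → m ≤ k) :
    ∀ (H : Type) [Group H] [Finite H], ¬ Cfsg.IsPClosed p H →
      min (p * m) (p * (p ^ 2 - 1) / 2) ≤ Nat.card H := by
  have hp : p.Prime := Fact.out
  have key : ∀ n : ℕ, ∀ (H : Type) [Group H] [Finite H], Nat.card H = n → ¬ Cfsg.IsPClosed p H →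
      min (p * m) (p * (p ^ 2 - 1) / 2) ≤ n := by
    intro n
    induction n using Nat.strong_induction_on with
    | _ n ih =>
      intro H _ _ hn hH
      by_contra hlt
      push Not at hlt
      have hsmall : ∀ (K : Type) [Group K] [Finite K], Nat.card K < n → Cfsg.IsPClosed p K := by
        intro K _ _ hK
        by_contra h
        have := ih _ hK K rfl h
        omega
      have hsub : ∀ K : Subgroup H, K ≠ ⊤ → Cfsg.IsPClosed p ↥K := by
        intro K hK
        apply hsmall
        rw [← hn]
        by_contra hge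
        push Not at hge
        exact hK (Subgroup.eq_top_of_card_eq K (le_antisymm (Subgroup.card_le_card_group K) hge))
      have hquo : ∀ (N : Subgroup H) [N.Normal], N ≠ ⊥ → Cfsg.IsPClosed p (H ⧸ N) := by
        intro N _ hN
        apply hsmall
        rw [← hn, Subgroup.card_eq_card_quotient_mul_card_subgroup N]
        have h1 : 1 < Nat.card N := by
          rcases Nat.lt_or_ge 1 (Nat.card N) with h | h
          · exact h
          · exfalso
            apply hN
            apply Subgroup.card_eq_one.1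
            have := Nat.card_pos (α := N)
            omega
        have h0 : 0 < Nat.card (H ⧸ N) := Nat.card_pos
        nlinarith
      by_cases hs : IsSimpleGroup H
      · have := simple_case p hp2 hBR H hH
        rw [hn] at this
        have h3 := min_le_right (p * m) (p * (p ^ 2 - 1) / 2)
        omega
      · obtain ⟨q, hq, hqp, hcard, -⟩ := Cfsg.Agent.S3868.result hH hsub hquo hs
        set e := orderOf (q : ZMod p) with he
        have hq0 : (q : ZMod p) ≠ 0 := by
          intro h
          rw [ZMod.natCast_eq_zero_iff] at h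
          exact hqp ((Nat.prime_dvd_prime_iff_eq hp hq).1 h).symm
        have hepos : 0 < e := by
          rw [he, orderOf_pos_iff, isOfFinOrder_iff_pow_eq_one]
          exact ⟨p - 1, by have := hp.one_lt; omega, ZMod.pow_card_sub_one_eq_one hq0⟩
        have hmod : q ^ e % p = 1 := by
          have h1 : ((q ^ e : ℕ) : ZMod p) = ((1 : ℕ) : ZMod p) := by
            push_cast
            exact pow_orderOf_eq_one _
          have h2 := (ZMod.natCast_eq_natCast_iff' _ _ _).1 h1
          rw [h2, Nat.mod_eq_of_lt hp.one_lt]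
        have hm := hleast (q ^ e) ⟨q, e, hq.prime, hepos, rfl⟩ hmod
        have h3 := min_le_left (p * m) (p * (p ^ 2 - 1) / 2)
        have h4 : p * m ≤ p * q ^ e := Nat.mul_le_mul_left _ hm
        omega
  intro H _ _ hH
  exact key _ H rfl hH

theorem main (p : ℕ) [Fact p.Prime] (hp : p ≠ 2) (hBR : BR p) (m : ℕ) (hm : IsPrimePow m) (hm1 : m % p = 1)
    (hleast : ∀ k : ℕ, IsPrimePow k → k % p = 1 → m ≤ k) :
    (∀ (H : Type) [Group H] [Finite H], ¬ Cfsg.IsPClosed p H → min (p * m) (p * (p ^ 2 - 1) / 2) ≤ Nat.card H) ∧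
      ∃ (H : Type) (_ : Group H) (_ : Finite H), Nat.card H = min (p * m) (p * (p ^ 2 - 1) / 2) ∧ ¬ Cfsg.IsPClosed p H := by
  have hpp : p.Prime := Fact.out
  refine ⟨lower p hp hBR m hleast, ?_⟩
  rcases le_total (p * m) (p * (p ^ 2 - 1) / 2) with h | h
  · rw [min_eq_left h]
    exact exists_affine p m hm hm1
  · rcases eq_or_lt_of_le h with h' | h'
    · rw [min_eq_left h'.ge]
      exact exists_affine p m hm hm1
    · rw [min_eq_right h]
      apply exists_psl p
      by_contra h3
      have hp3 : p = 3 := by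
        have := hpp.two_le
        omega
      subst hp3
      have h4 : m ≤ 4 := hleast 4 ⟨2, 2, Nat.prime_two.prime, by norm_num, by norm_num⟩ (by norm_num)
      norm_num at h'
      omega

end Cfsg.Agent.Lib.Helper58NPC
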