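import Mathlib
import Cfsg.Agent.Lib.Helper58SylDefs
import Cfsg.Agent.Lib.Helper49Gram
import Cfsg.Agent.Lib.Helper18Quad

set_option autoImplicit false

/-! PROJECT 58, piece `classify`. -/

namespace Cfsg.Agent.Lib.Helper67SylClassify

open Cfsg.Agent.Lib.Helper49Orth Cfsg.Agent.Lib.Helper49Gram Cfsg.Agent.Lib.Helper58SylDefs
open scoped Matrix

variable {F : Type*} [Field F]

theorem diag (h2 : (2 : F) ≠ 0) {ι κ : Type} [Fintype ι] [DecidableEq ι] [Fintype κ]
    [DecidableEq κ] (hcard : Fintype.card ι = Fintype.card κ) (Q : QuadraticForm F (κ → F))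
    (hQ : (gram Q).det ≠ 0) :
    ∃ w : ι → F, (∀ i, w i ≠ 0) ∧ QuadraticMap.Equivalent Q (wss w) ∧
      ∃ d : F, d ≠ 0 ∧ ∏ i, (2 * w i) = d * d * (gram Q).det := by
  have : Invertible (2 : F) := invertibleOfNonzero h2
  obtain ⟨v, hv⟩ := LinearMap.BilinForm.exists_orthogonal_basis
    (QuadraticForm.associated_isSymm F Q)
  have hfr : Fintype.card (Fin (Module.finrank F (κ → F))) = Fintype.card ι := by
    simp [hcard]
  let e := Fintype.equivOfCardEq hfr
  let b := v.reindex e
  have hb : (QuadraticMap.associated (R := F) Q).IsOrthoᵢ b := by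
    intro i j hij
    have := hv (i := e.symm i) (j := e.symm j) (fun h => hij (e.symm.injective h))
    simpa [b, Function.onFun] using this
  obtain ⟨d, hd, hdet⟩ := det_gram_basis Q b
  have hpol : ∀ x y, QuadraticMap.polar ⇑Q x y = 2 * QuadraticMap.associated (R := F) Q x y := by
    intro x y
    have := congrArg (fun B => B x y) (QuadraticMap.two_nsmul_associated F Q)
    simp only [QuadraticMap.polarBilin_apply_apply] at this
    rw [← this]
    simp only [LinearMap.smul_apply, nsmul_eq_mul, Nat.cast_ofNat]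
  have hM : Matrix.of (fun k l => QuadraticMap.polar ⇑Q (b k) (b l))
      = Matrix.diagonal (fun k => 2 * Q (b k)) := by
    ext k l
    by_cases hkl : k = l
    · subst hkl
      rw [Matrix.of_apply, Matrix.diagonal_apply_eq, hpol, QuadraticMap.associated_eq_self_apply]
    · rw [Matrix.of_apply, Matrix.diagonal_apply_ne _ hkl, hpol]
      have := hb hkl
      simp only [Function.onFun] at this
      rw [this, mul_zero]
  rw [hM, Matrix.det_diagonal] at hdet
  refine ⟨fun i => Q (b i), ?_, ?_, d, hd, hdet⟩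
  · intro i hi
    have hi' : Q (b i) = 0 := hi
    have : ∏ k, (2 * Q (b k)) = 0 := Finset.prod_eq_zero (Finset.mem_univ i) (by rw [hi', mul_zero])
    rw [this] at hdet
    exact mul_ne_zero (mul_ne_zero hd hd) hQ hdet.symm
  · have h1 := QuadraticMap.basisRepr_eq_of_iIsOrtho Q b hb
    have h3 := Q.isometryEquivBasisRepr b
    rw [h1] at h3
    exact ⟨h3⟩

variable [Fintype F]

theorem classify (h2 : (2 : F) ≠ 0) {ι κ : Type} [Fintype ι] [DecidableEq ι] [Fintype κ]
    [DecidableEq κ] (Q : QuadraticForm F (ι → F)) (Q' : QuadraticForm F (κ → F))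
    (hQ : (gram Q).det ≠ 0) (hQ' : (gram Q').det ≠ 0)
    (hcard : Fintype.card ι = Fintype.card κ) (hsq : IsSquare ((gram Q).det * (gram Q').det)) :
    ∃ e : (ι → F) ≃ₗ[F] (κ → F), ∀ v, Q' (e v) = Q v := by
  rcases isEmpty_or_nonempty ι with hι | ⟨⟨i0⟩⟩
  · have hκ : IsEmpty κ := by
      rw [← Fintype.card_eq_zero_iff, ← hcard, Fintype.card_eq_zero_iff]
      exact hι
    refine ⟨0, fun v => ?_⟩
    rw [Subsingleton.elim v 0, map_zero, map_zero, map_zero]
  obtain ⟨w, hw, ⟨f⟩, d, hd, hdet⟩ := diag h2 (rfl : Fintype.card ι = Fintype.card ι) Q hQ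
  obtain ⟨w', hw', ⟨f'⟩, d', hd', hdet'⟩ := diag h2 hcard Q' hQ'
  obtain ⟨t, ht⟩ := hsq
  have ht0 : t ≠ 0 := by
    rintro rfl
    rw [mul_zero] at ht
    exact mul_ne_zero hQ hQ' ht
  rw [Finset.prod_mul_distrib] at hdet hdet'
  have h2n : (∏ _i : ι, (2 : F)) ≠ 0 := Finset.prod_ne_zero_iff.mpr (fun _ _ => h2)
  have hprod : ∏ i, w i = (∏ i, w' i) * (d * (gram Q).det / (d' * t)) ^ 2 := by
    apply mul_left_cancel₀ h2n
    rw [hdet, ← mul_assoc, hdet']
    field_simp
    rw [pow_two t, ← ht]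
  obtain ⟨g⟩ := Cfsg.Agent.Lib.Helper18Quad.equiv_of_prod h2 w w' hw hw' i0
    (d * (gram Q).det / (d' * t)) (div_ne_zero (mul_ne_zero hd hQ) (mul_ne_zero hd' ht0)) hprod
  refine ⟨((f.trans g).trans f'.symm).toLinearEquiv, fun v => ?_⟩
  exact ((f.trans g).trans f'.symm).map_app v

end Cfsg.Agent.Lib.Helper67SylClassify
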