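import Mathlib
import Cfsg.Agent.Lib.Helper40SyllemK

set_option autoImplicit false

/-! PROJECT 58, piece `altgen`. -/

namespace Cfsg.Agent.Lib.Helper70SylAltgen

open Cfsg.Agent.Lib.Helper40SyllemK

/-- piece `altgen` -/
theorem alt_gen (n : ℕ) (T : Subgroup (Equiv.Perm (Fin n))) (Θ E : Set (Equiv.Perm (Fin n)))
    (hT : T = Subgroup.closure (Θ ∪ E)) (hΘ : ∀ θ ∈ Θ, θ ^ 2 = 1 ∧ Equiv.Perm.sign θ = -1)
    (hcomm : ∀ θ ∈ Θ, ∀ θ' ∈ Θ, θ * θ' = θ' * θ)
    (hE : ∀ ε ∈ E, ε ^ 2 = 1 ∧ Equiv.Perm.sign ε = 1) :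
    T ⊓ alternatingGroup (Fin n)
      = Subgroup.closure {y | y ∈ T ∧ y ∈ alternatingGroup (Fin n) ∧ y ^ 2 = 1} := by
  set N := Subgroup.closure {y | y ∈ T ∧ y ∈ alternatingGroup (Fin n) ∧ y ^ 2 = 1} with hN
  have hNle : N ≤ T ⊓ alternatingGroup (Fin n) := by
    rw [hN, Subgroup.closure_le]
    intro y hy
    exact ⟨hy.1, hy.2.1⟩
  have hXT : ∀ x ∈ Θ ∪ E, x ∈ T := by
    intro x hx
    rw [hT]
    exact Subgroup.subset_closure hx
  have hnorm : ∀ s ∈ T, ∀ m ∈ N, s * m * s⁻¹ ∈ N := by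
    intro s hs m hm
    induction hm using Subgroup.closure_induction with
    | mem y hy =>
      apply Subgroup.subset_closure
      refine ⟨T.mul_mem (T.mul_mem hs hy.1) (T.inv_mem hs), ?_, ?_⟩
      · exact (inferInstance : (alternatingGroup (Fin n)).Normal).conj_mem y hy.2.1 s
      · rw [conj_pow, hy.2.2]
        simp
    | one => simp
    | mul x y _ _ hx hy =>
      have : s * (x * y) * s⁻¹ = (s * x * s⁻¹) * (s * y * s⁻¹) := by group
      rw [this]
      exact N.mul_mem hx hy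
    | inv x _ hx =>
      have : s * x⁻¹ * s⁻¹ = (s * x * s⁻¹)⁻¹ := by group
      rw [this]
      exact N.inv_mem hx
  have hEN : ∀ x ∈ E, x ∈ N := by
    intro x hx
    apply Subgroup.subset_closure
    exact ⟨hXT x (Or.inr hx), Equiv.Perm.mem_alternatingGroup.mpr (hE x hx).2, (hE x hx).1⟩
  apply le_antisymm _ hNle
  by_cases hne : Θ.Nonempty
  · obtain ⟨θ₀, hθ₀⟩ := hne
    refine lemK T (alternatingGroup (Fin n)) N (Subgroup.zpowers θ₀) (Θ ∪ E) hT hnorm ?_ ?_ ?_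
      (hNle.trans inf_le_right)
    · rw [Subgroup.zpowers_le]
      exact hXT θ₀ (Or.inl hθ₀)
    · rintro x (hx | hx)
      · refine ⟨θ₀, Subgroup.mem_zpowers θ₀, ?_⟩
        apply Subgroup.subset_closure
        refine ⟨T.mul_mem (hXT x (Or.inl hx)) (hXT θ₀ (Or.inl hθ₀)), ?_, ?_⟩
        · rw [Equiv.Perm.mem_alternatingGroup, map_mul, (hΘ x hx).2, (hΘ θ₀ hθ₀).2]
          simp
        · rw [(show Commute x θ₀ from hcomm x hx θ₀ hθ₀).mul_pow, (hΘ x hx).1, (hΘ θ₀ hθ₀).1,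
            one_mul]
      · exact ⟨1, Subgroup.one_mem _, by simpa using hEN x hx⟩
    · rintro r ⟨hr1, hr2⟩
      obtain ⟨k, rfl⟩ := Subgroup.mem_zpowers_iff.mp hr1
      have hr2' : Equiv.Perm.sign (θ₀ ^ k) = 1 := Equiv.Perm.mem_alternatingGroup.mp hr2
      rw [map_zpow, (hΘ θ₀ hθ₀).2] at hr2'
      rcases Int.even_or_odd k with hk | hk
      · obtain ⟨j, rfl⟩ := hk
        have : θ₀ ^ (j + j) = 1 := by
          rw [← two_mul, zpow_mul, zpow_ofNat, (hΘ θ₀ hθ₀).1, one_zpow]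
        rw [this]
        exact N.one_mem
      · exfalso
        rw [hk.neg_one_zpow] at hr2'
        exact absurd hr2' (by decide)
  · rw [Set.not_nonempty_iff_eq_empty] at hne
    refine lemK T (alternatingGroup (Fin n)) N ⊥ (Θ ∪ E) hT hnorm bot_le ?_ ?_
      (hNle.trans inf_le_right)
    · rintro x (hx | hx)
      · rw [hne] at hx
        exact absurd hx (Set.notMem_empty x)
      · exact ⟨1, Subgroup.one_mem _, by simpa using hEN x hx⟩
    · exact inf_le_left.trans bot_le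

end Cfsg.Agent.Lib.Helper70SylAltgen
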