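import Mathlib
import Cfsg.Agent.Lib.Helper58SylDefs
import Cfsg.Agent.Lib.Helper49Gram

set_option autoImplicit false

/-! PROJECT 58, piece `bsingle`. -/

namespace Cfsg.Agent.Lib.Helper70SylBsingle

open Cfsg.Agent.Lib.Helper49Orth Cfsg.Agent.Lib.Helper49Gram Cfsg.Agent.Lib.Helper58SylDefs
open scoped Matrix

variable {F : Type*} [Field F] [Fintype F]

theorem emb_slice_self {ι₀ : Type} {k : ℕ} (i : Fin k) (v : ι₀ → F) :
    (fun a => emb i v (a, i)) = v := by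
  funext a
  simp [emb]

theorem emb_slice_ne {ι₀ : Type} {k : ℕ} {i i' : Fin k} (h : i' ≠ i) (v : ι₀ → F) :
    (fun a => emb i v (a, i')) = 0 := by
  funext a
  simp [emb, h]

theorem polar_Qpow {ι₀ : Type} [Fintype ι₀] [DecidableEq ι₀] (Q₀ : QuadraticForm F (ι₀ → F))
    (k : ℕ) (x y : ι₀ × Fin k → F) :
    QuadraticMap.polar ⇑(Qpow Q₀ k) x y
      = ∑ i : Fin k, QuadraticMap.polar ⇑Q₀ (fun a => x (a, i)) (fun a => y (a, i)) := by
  unfold QuadraticMap.polar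
  rw [Qpow_apply, Qpow_apply, Qpow_apply, Finset.sum_sub_distrib, Finset.sum_sub_distrib]
  rfl

theorem polar_Qpow_emb {ι₀ : Type} [Fintype ι₀] [DecidableEq ι₀] (Q₀ : QuadraticForm F (ι₀ → F))
    (k : ℕ) (i : Fin k) (v : ι₀ → F) (x : ι₀ × Fin k → F) :
    QuadraticMap.polar ⇑(Qpow Q₀ k) (emb i v) x = QuadraticMap.polar ⇑Q₀ v (fun a => x (a, i)) := by
  rw [polar_Qpow, Finset.sum_eq_single i]
  · rw [emb_slice_self]
  · intro i' _ h
    rw [emb_slice_ne h]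
    simp [QuadraticMap.polar]
  · intro h
    exact absurd (Finset.mem_univ i) h

/-- piece `bsingle` -/
theorem Qpow_emb {ι₀ : Type} [Fintype ι₀] [DecidableEq ι₀] (Q₀ : QuadraticForm F (ι₀ → F))
    (k : ℕ) (i : Fin k) (v : ι₀ → F) : Qpow Q₀ k (emb i v) = Q₀ v := by
  rw [Qpow_apply, Finset.sum_eq_single i]
  · rw [emb_slice_self]
  · intro i' _ h
    rw [emb_slice_ne h]
    simp
  · intro h
    exact absurd (Finset.mem_univ i) h

/-- piece `bsingle` -/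
theorem polar_emb {ι₀ : Type} [Fintype ι₀] [DecidableEq ι₀] (Q₀ : QuadraticForm F (ι₀ → F))
    (k : ℕ) (i j : Fin k) (hij : i ≠ j) (v w : ι₀ → F) :
    QuadraticMap.polar ⇑(Qpow Q₀ k) (emb i v) (emb j w) = 0 := by
  rw [polar_Qpow_emb, emb_slice_ne hij]
  simp [QuadraticMap.polar]

/-- piece `bsingle` -/
theorem B_single_refl {ι₀ : Type} [Fintype ι₀] [DecidableEq ι₀] (Q₀ : QuadraticForm F (ι₀ → F))
    (k : ℕ) (W : WD (OG (Qpow Q₀ k)) (OG Q₀) k) (hW : ActsStd W) (i : Fin k) (v : ι₀ → F)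
    (hv : Q₀ v ≠ 0) :
    W.B (Pi.mulSingle i (reflO' Q₀ v)) = reflO' (Qpow Q₀ k) (emb i v) := by
  have hv' : Qpow Q₀ k (emb i v) ≠ 0 := by rw [Qpow_emb]; exact hv
  apply iso_ext
  apply Matrix.mulVec_injective
  funext x
  funext ⟨a, i'⟩
  have h1 := hW.1 (Pi.mulSingle i (reflO' Q₀ v)) x a i'
  change (mat (W.B (Pi.mulSingle i (reflO' Q₀ v))) *ᵥ x) (a, i') = _
  rw [h1, reflO'_eq (Qpow Q₀ k) hv', coe_reflO, refl_mulVec, Qpow_emb, polar_Qpow_emb]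
  by_cases h : i' = i
  · subst h
    rw [Pi.mulSingle_eq_same, reflO'_eq Q₀ hv]
    change (Cfsg.reflectionMatrix ⇑Q₀ v *ᵥ fun a' => x (a', i')) a = _
    rw [refl_mulVec]
    simp [emb]
  · rw [Pi.mulSingle_eq_of_ne h]
    change ((1 : Matrix ι₀ ι₀ F) *ᵥ fun a' => x (a', i')) a = _
    rw [Matrix.one_mulVec]
    simp [emb, h]

end Cfsg.Agent.Lib.Helper70SylBsingle
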