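import Mathlib
import Cfsg.Agent.S0261

set_option autoImplicit false

/-! PROJECT 58, piece `sl2`. -/

namespace Cfsg.Agent.Lib.Helper70SylSl2

open scoped commutatorElement

theorem quat_sq_eq_comm (n : ℕ) [NeZero n] (hn : Even n) (y : QuaternionGroup n) :
    ∃ u v : QuaternionGroup n, y ^ 2 = ⁅u, v⁆ := by
  have key : ∀ j : ZMod (2 * n), ⁅(QuaternionGroup.xa 0 : QuaternionGroup n), QuaternionGroup.a j⁆
      = QuaternionGroup.a (-(2 * j)) := by
    intro j
    have i1 : (QuaternionGroup.xa 0 : QuaternionGroup n)⁻¹ = QuaternionGroup.xa (n + 0) := rfl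
    have i2 : (QuaternionGroup.a j : QuaternionGroup n)⁻¹ = QuaternionGroup.a (-j) := rfl
    rw [commutatorElement_def, i1, i2]
    simp only [QuaternionGroup.xa_mul_a, QuaternionGroup.xa_mul_xa, QuaternionGroup.a_mul_a]
    congr 1
    have h2n : ((n : ZMod (2 * n)) + n) = 0 := by
      have : ((2 * n : ℕ) : ZMod (2 * n)) = 0 := ZMod.natCast_self _
      push_cast at this
      rw [← two_mul]
      exact this
    linear_combination h2n
  cases y with
  | a i =>
    refine ⟨QuaternionGroup.xa 0, QuaternionGroup.a (-i), ?_⟩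
    rw [key, sq, QuaternionGroup.a_mul_a]
    congr 1
    ring
  | xa i =>
    obtain ⟨m, hm⟩ := hn
    refine ⟨QuaternionGroup.xa 0, QuaternionGroup.a (-(m : ZMod (2 * n))), ?_⟩
    rw [key, sq, QuaternionGroup.xa_mul_xa]
    congr 1
    have : (n : ZMod (2 * n)) = m + m := by
      have := congrArg (Nat.cast : ℕ → ZMod (2 * n)) hm
      push_cast at this
      exact this
    rw [this]
    ring

/-- piece `sl2` -/
theorem elemAb_sl2 {F : Type*} [Field F] [Fintype F] (hF : Odd (Fintype.card F))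
    (D : Sylow 2 (Matrix.SpecialLinearGroup (Fin 2) F)) :
    ∀ x ∈ (D : Subgroup (Matrix.SpecialLinearGroup (Fin 2) F)),
      x ^ 2 ∈ ⁅(D : Subgroup (Matrix.SpecialLinearGroup (Fin 2) F)),
        (D : Subgroup (Matrix.SpecialLinearGroup (Fin 2) F))⁆ := by
  intro x hx
  obtain ⟨k, hk, ⟨e⟩⟩ := Cfsg.Agent.S0261.result hF D
  have : NeZero (2 ^ k) := ⟨by positivity⟩
  obtain ⟨u, v, huv⟩ := quat_sq_eq_comm (2 ^ k) (Nat.even_pow.mpr ⟨even_two, by omega⟩) (e ⟨x, hx⟩)
  have h1 : (⟨x, hx⟩ : (D : Subgroup (Matrix.SpecialLinearGroup (Fin 2) F))) ^ 2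
      = ⁅e.symm u, e.symm v⁆ := by
    apply e.injective
    rw [map_pow, huv, map_commutatorElement]
    simp
  have h2 := congrArg (Subgroup.subtype _) h1
  rw [map_pow, map_commutatorElement] at h2
  change x ^ 2 = _ at h2
  rw [h2]
  exact Subgroup.commutator_mem_commutator (e.symm u).2 (e.symm v).2

end Cfsg.Agent.Lib.Helper70SylSl2
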