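import Mathlib
import Cfsg.Agent.Lib.Helper58SylDefs

set_option autoImplicit false

namespace Cfsg.Agent.Lib.Helper73SylWrcard

open Cfsg.Agent.Lib.Helper58SylDefs

/-- the set of products `B d * Pm π` as a subgroup -/
def S0 {G D₀ : Type*} [Group G] [Group D₀] {k : ℕ} (W : WD G D₀ k) (D : Subgroup D₀)
    (T : Subgroup (Equiv.Perm (Fin k))) : Subgroup G where
  carrier := {g | ∃ d : Fin k → D₀, (∀ i, d i ∈ D) ∧ ∃ π ∈ T, g = W.B d * W.Pm π}
  one_mem' := ⟨1, fun _ => D.one_mem, 1, T.one_mem, by simp⟩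
  mul_mem' := by
    rintro _ _ ⟨d, hd, π, hπ, rfl⟩ ⟨d', hd', π', hπ', rfl⟩
    refine ⟨d * fun i => d' (π⁻¹ i), fun i => D.mul_mem (hd i) (hd' _), π * π', T.mul_mem hπ hπ', ?_⟩
    rw [map_mul, map_mul, ← W.conj]
    group
  inv_mem' := by
    rintro _ ⟨d, hd, π, hπ, rfl⟩
    refine ⟨fun i => d⁻¹ ((π⁻¹)⁻¹ i), fun i => D.inv_mem (hd _), π⁻¹, T.inv_mem hπ, ?_⟩
    rw [← W.conj, map_inv, map_inv]
    group

theorem wr_eq_S0 {G D₀ : Type*} [Group G] [Group D₀] {k : ℕ} (W : WD G D₀ k) (D : Subgroup D₀)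
    (T : Subgroup (Equiv.Perm (Fin k))) : W.wr D T = S0 W D T := by
  apply le_antisymm
  · rw [WD.wr, sup_le_iff]
    constructor
    · rintro _ ⟨d, hd, rfl⟩
      exact ⟨d, fun i => hd i (Set.mem_univ i), 1, T.one_mem, by simp⟩
    · rintro _ ⟨π, hπ, rfl⟩
      exact ⟨1, fun _ => D.one_mem, π, hπ, by simp⟩
  · rintro _ ⟨d, hd, π, hπ, rfl⟩
    apply Subgroup.mul_mem
    · exact Subgroup.mem_sup_left ⟨d, fun i _ => hd i, rfl⟩
    · exact Subgroup.mem_sup_right ⟨π, hπ, rfl⟩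

/-- piece `wrcard` -/
theorem card_wr {G D₀ : Type*} [Group G] [Group D₀] {k : ℕ} (W : WD G D₀ k) (D : Subgroup D₀)
    (T : Subgroup (Equiv.Perm (Fin k))) [Finite D] :
    Nat.card (W.wr D T) = Nat.card D ^ k * Nat.card T := by
  rw [wr_eq_S0]
  let f : (Fin k → ↥D) × ↥T → ↥(S0 W D T) := fun x =>
    ⟨W.B (fun i => (x.1 i : D₀)) * W.Pm (x.2 : Equiv.Perm (Fin k)),
      ⟨fun i => (x.1 i : D₀), fun i => (x.1 i).2, x.2, x.2.2, rfl⟩⟩
  have hf : Function.Bijective f := by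
    constructor
    · rintro ⟨d, π⟩ ⟨d', π'⟩ h
      have h1 : W.B (fun i => (d i : D₀)) * W.Pm (π : Equiv.Perm (Fin k))
          = W.B (fun i => (d' i : D₀)) * W.Pm (π' : Equiv.Perm (Fin k)) := congrArg Subtype.val h
      have h2 : W.B ((fun i => (d' i : D₀))⁻¹ * fun i => (d i : D₀))
          * W.Pm ((π : Equiv.Perm (Fin k)) * (π' : Equiv.Perm (Fin k))⁻¹) = 1 := by
        rw [map_mul, map_mul, map_inv, map_inv]
        calc _ = (W.B fun i => (d' i : D₀))⁻¹ * ((W.B fun i => (d i : D₀)) * W.Pm ↑π) * (W.Pm ↑π')⁻¹ := by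
              group
          _ = 1 := by rw [h1]; group
      obtain ⟨h3, h4⟩ := W.inj _ _ h2
      have h5 : (fun i => (d i : D₀)) = fun i => (d' i : D₀) := by
        rw [inv_mul_eq_one] at h3
        exact h3.symm
      have h6 : (π : Equiv.Perm (Fin k)) = π' := by
        rw [mul_inv_eq_one] at h4
        exact h4
      ext1
      · funext i
        exact Subtype.ext (congrFun h5 i)
      · exact Subtype.ext h6
    · rintro ⟨_, d, hd, π, hπ, rfl⟩
      exact ⟨(fun i => ⟨d i, hd i⟩, ⟨π, hπ⟩), rfl⟩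
  rw [← Nat.card_eq_of_bijective f hf, Nat.card_prod, Nat.card_fun]
  simp

end Cfsg.Agent.Lib.Helper73SylWrcard
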