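import Mathlib
import Cfsg.Agent.Lib.Helper58SylDefs

set_option autoImplicit false

namespace Cfsg.Agent.Lib.Helper73SylWrclosure

open Cfsg.Agent.Lib.Helper58SylDefs

theorem pi_eq_closure {D₀ : Type*} [Group D₀] {k : ℕ} (D : Subgroup D₀) (XD : Set D₀)
    (hD : D = Subgroup.closure XD) :
    Subgroup.pi Set.univ (fun _ : Fin k => D)
      = Subgroup.closure {f | ∃ i : Fin k, ∃ d ∈ XD, f = Pi.mulSingle i d} := by
  classical
  apply le_antisymm
  · intro f hf
    apply Subgroup.pi_mem_of_mulSingle_mem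
    intro i
    have hfi : f i ∈ D := hf i (Set.mem_univ i)
    rw [hD] at hfi
    generalize f i = x at hfi
    induction hfi using Subgroup.closure_induction with
    | mem x hx => exact Subgroup.subset_closure ⟨i, x, hx, rfl⟩
    | one => rw [Pi.mulSingle_one]; exact Subgroup.one_mem _
    | mul x y _ _ hx hy => rw [Pi.mulSingle_mul]; exact Subgroup.mul_mem _ hx hy
    | inv x _ hx => rw [Pi.mulSingle_inv]; exact Subgroup.inv_mem _ hx
  · rw [Subgroup.closure_le]
    rintro _ ⟨i, d, hd, rfl⟩ j _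
    by_cases hij : j = i
    · subst hij
      rw [Pi.mulSingle_eq_same, hD]
      exact Subgroup.subset_closure hd
    · rw [Pi.mulSingle_eq_of_ne hij]
      exact Subgroup.one_mem _

/-- piece `wrclosure` -/
theorem wr_eq_closure {G D₀ : Type*} [Group G] [Group D₀] {k : ℕ} (W : WD G D₀ k)
    (D : Subgroup D₀) (T : Subgroup (Equiv.Perm (Fin k))) (XD : Set D₀)
    (XT : Set (Equiv.Perm (Fin k))) (hD : D = Subgroup.closure XD) (hT : T = Subgroup.closure XT) :
    W.wr D T = Subgroup.closure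
      ({g | ∃ i : Fin k, ∃ d ∈ XD, g = W.B (Pi.mulSingle i d)} ∪ W.Pm '' XT) := by
  rw [WD.wr, pi_eq_closure D XD hD, MonoidHom.map_closure, Subgroup.closure_union]
  congr 1
  · congr 1
    ext g
    constructor
    · rintro ⟨_, ⟨i, d, hd, rfl⟩, rfl⟩
      exact ⟨i, d, hd, rfl⟩
    · rintro ⟨i, d, hd, rfl⟩
      exact ⟨_, ⟨i, d, hd, rfl⟩, rfl⟩
  · rw [hT, MonoidHom.map_closure]

end Cfsg.Agent.Lib.Helper73SylWrclosure
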