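import Mathlib
import Cfsg.Agent.Lib.Helper58SylDefs
import Cfsg.Agent.Lib.Helper73SylWrcard
import Cfsg.Agent.Lib.Helper73SylWrclosure

set_option autoImplicit false

namespace Cfsg.Agent.Lib.Helper73SylTexstep

open Cfsg.Agent.Lib.Helper58SylDefs

/-- base group acting on `ZMod p × Fin k` -/
def B0 (p k : ℕ) : (Fin k → Multiplicative (ZMod p)) →* Equiv.Perm (ZMod p × Fin k) where
  toFun d := Equiv.prodCongrLeft (fun i => Equiv.addRight (Multiplicative.toAdd (d i)))
  map_one' := by
    ext x <;> simp [Equiv.prodCongrLeft]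
  map_mul' a b := by
    ext x
    · simp only [Equiv.prodCongrLeft, Pi.mul_apply, toAdd_mul, Equiv.coe_fn_mk, Equiv.coe_addRight,
        Equiv.Perm.coe_mul, Function.comp_apply]
      abel
    · simp [Equiv.prodCongrLeft]

/-- top group acting on `ZMod p × Fin k` -/
def Pm0 (p k : ℕ) : Equiv.Perm (Fin k) →* Equiv.Perm (ZMod p × Fin k) where
  toFun π := Equiv.prodCongrRight (fun _ => π)
  map_one' := by
    ext x <;> simp [Equiv.prodCongrRight]
  map_mul' a b := by
    ext x <;> simp [Equiv.prodCongrRight]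

theorem B0_apply (p k : ℕ) (d : Fin k → Multiplicative (ZMod p)) (a : ZMod p) (i : Fin k) :
    B0 p k d (a, i) = (a + Multiplicative.toAdd (d i), i) := rfl

theorem Pm0_apply (p k : ℕ) (π : Equiv.Perm (Fin k)) (a : ZMod p) (i : Fin k) :
    Pm0 p k π (a, i) = (a, π i) := rfl

/-- the wreath data -/
noncomputable def W0 (p k : ℕ) {Y : Type*} (ι : ZMod p × Fin k ↪ Y) :
    WD (Equiv.Perm Y) (Multiplicative (ZMod p)) k where
  B := (Equiv.Perm.viaEmbeddingHom ι).comp (B0 p k)
  Pm := (Equiv.Perm.viaEmbeddingHom ι).comp (Pm0 p k)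
  conj := by
    intro π d
    simp only [MonoidHom.comp_apply]
    rw [← map_inv, ← map_mul, ← map_mul]
    congr 1
    ext ⟨a, i⟩ : 1
    rw [Equiv.Perm.mul_apply, Equiv.Perm.mul_apply, ← map_inv, Pm0_apply, B0_apply, Pm0_apply,
      B0_apply]
    simp
  inj := by
    intro d π h
    simp only [MonoidHom.comp_apply] at h
    rw [← map_mul, ← map_one (Equiv.Perm.viaEmbeddingHom ι)] at h
    have h1 := Equiv.Perm.viaEmbeddingHom_injective ι h
    have h2 : ∀ i, (Multiplicative.toAdd (d (π i)), π i) = ((0 : ZMod p), i) := by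
      intro i
      have := congrArg (fun f : Equiv.Perm (ZMod p × Fin k) => f (0, i)) h1
      simp only [Equiv.Perm.mul_apply, Pm0_apply, B0_apply, zero_add, Equiv.Perm.one_apply] at this
      exact this
    have h3 : π = 1 := by
      ext i : 1
      exact congrArg Prod.snd (h2 i)
    refine ⟨?_, h3⟩
    funext i
    have := congrArg Prod.fst (h2 i)
    rw [h3] at this
    exact this

theorem sign_add2 : ∀ a : ZMod 2, a ≠ 0 → Equiv.Perm.sign (Equiv.addRight a) = -1 := by decide

theorem sign_via {X Y : Type*} [Fintype X] [DecidableEq X] [Fintype Y] [DecidableEq Y] (ι : X ↪ Y)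
    (e : Equiv.Perm X) : Equiv.Perm.sign (Equiv.Perm.viaEmbeddingHom ι e) = Equiv.Perm.sign e := by
  classical
  rw [Equiv.Perm.viaEmbeddingHom_apply, Equiv.Perm.viaEmbedding]
  convert Equiv.Perm.sign_extendDomain e _

/-- piece `texstep` -/
theorem tex_step (p : ℕ) [Fact p.Prime] (n' r : ℕ) (hr : r < p)
    (T' : Subgroup (Equiv.Perm (Fin n'))) (t' : ℕ) (hc : Nat.card T' = p ^ t')
    (hg : T' = Subgroup.closure {π | π ∈ T' ∧ π ^ p = 1}) :
    ∃ T : Subgroup (Equiv.Perm (Fin (p * n' + r))), Nat.card T = p ^ (n' + t') ∧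
      ∃ Θ E : Set (Equiv.Perm (Fin (p * n' + r))), T = Subgroup.closure (Θ ∪ E) ∧
        (∀ θ ∈ Θ, θ ^ p = 1 ∧ (p = 2 → Equiv.Perm.sign θ = -1)) ∧
        (∀ θ ∈ Θ, ∀ θ' ∈ Θ, θ * θ' = θ' * θ) ∧
        (∀ ε ∈ E, ε ^ p = 1 ∧ (p = 2 → Equiv.Perm.sign ε = 1)) := by
  classical
  obtain ⟨ι⟩ : Nonempty (ZMod p × Fin n' ↪ Fin (p * n' + r)) := by
    apply Function.Embedding.nonempty_of_card_le
    simp [ZMod.card]
  have hD : (⊤ : Subgroup (Multiplicative (ZMod p))) = Subgroup.closure {d | d ≠ 1} := by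
    symm
    rw [eq_top_iff]
    intro x _
    by_cases hx : x = 1
    · rw [hx]; exact Subgroup.one_mem _
    · exact Subgroup.subset_closure hx
  refine ⟨(W0 p n' ι).wr ⊤ T', ?_, _, _,
    Cfsg.Agent.Lib.Helper73SylWrclosure.wr_eq_closure (W0 p n' ι) ⊤ T' _ _ hD hg, ?_, ?_, ?_⟩
  · rw [Cfsg.Agent.Lib.Helper73SylWrcard.card_wr, hc, pow_add]
    simp
  · rintro _ ⟨i, d, hd, rfl⟩
    constructor
    · rw [← map_pow]
      have : (Pi.mulSingle i d : Fin n' → Multiplicative (ZMod p)) ^ p = 1 := by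
        funext j
        rw [Pi.pow_apply, Pi.one_apply]
        apply Multiplicative.toAdd.injective
        simp
      rw [this, map_one]
    · rintro rfl
      change Equiv.Perm.sign (Equiv.Perm.viaEmbeddingHom ι (B0 2 n' (Pi.mulSingle i d))) = -1
      rw [sign_via]
      change Equiv.Perm.sign (Equiv.prodCongrLeft
        (fun j => Equiv.addRight (Multiplicative.toAdd ((Pi.mulSingle i d : Fin n' → Multiplicative (ZMod 2)) j)))) = -1
      rw [Equiv.Perm.sign_prodCongrLeft, Finset.prod_eq_single i]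
      · rw [Pi.mulSingle_eq_same]
        apply sign_add2
        intro h
        exact hd (Multiplicative.toAdd.injective h)
      · intro j _ hj
        rw [Pi.mulSingle_eq_of_ne hj]
        have : Equiv.addRight (Multiplicative.toAdd (1 : Multiplicative (ZMod 2))) = 1 := by
          ext x; simp
        rw [this, Equiv.Perm.sign_one]
      · intro h
        exact absurd (Finset.mem_univ i) h
  · rintro _ ⟨i, d, _, rfl⟩ _ ⟨i', d', _, rfl⟩
    rw [← map_mul, ← map_mul]
    congr 1
    exact mul_comm _ _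
  · rintro _ ⟨π, ⟨_, hπ⟩, rfl⟩
    constructor
    · rw [← map_pow, hπ, map_one]
    · rintro rfl
      change Equiv.Perm.sign (Equiv.Perm.viaEmbeddingHom ι (Pm0 2 n' π)) = 1
      rw [sign_via]
      change Equiv.Perm.sign (Equiv.prodCongrRight (fun _ : ZMod 2 => π)) = 1
      rw [Equiv.Perm.sign_prodCongrRight, Finset.prod_const, Finset.card_univ, ZMod.card]
      exact Int.units_sq _

end Cfsg.Agent.Lib.Helper73SylTexstep
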