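import Mathlib
import Cfsg.Agent.Lib.Helper58SylDefs
import Cfsg.Agent.Lib.Helper73SylTexstep

set_option autoImplicit false

namespace Cfsg.Agent.Lib.Helper73SylTex

open Cfsg.Agent.Lib.Helper58SylDefs

/-- piece `tex` -/
theorem tex (p : ℕ) [Fact p.Prime] (n : ℕ) :
    ∃ T : Subgroup (Equiv.Perm (Fin n)), Nat.card T = p ^ ((n.factorial).factorization p) ∧
      ∃ Θ E : Set (Equiv.Perm (Fin n)), T = Subgroup.closure (Θ ∪ E) ∧
        (∀ θ ∈ Θ, θ ^ p = 1 ∧ (p = 2 → Equiv.Perm.sign θ = -1)) ∧
        (∀ θ ∈ Θ, ∀ θ' ∈ Θ, θ * θ' = θ' * θ) ∧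
        (∀ ε ∈ E, ε ^ p = 1 ∧ (p = 2 → Equiv.Perm.sign ε = 1)) := by
  have hp : p.Prime := Fact.out
  induction n using Nat.strong_induction_on with
  | _ n IH =>
    by_cases hn : n < p
    · refine ⟨⊥, ?_, ∅, ∅, by simp, by simp, by simp, by simp⟩
      rw [Nat.factorization_eq_zero_of_not_dvd (fun h => by
        have := (hp.dvd_factorial).1 h
        omega)]
      simp
    · push Not at hn
      have hlt : n / p < n := Nat.div_lt_self (by have := hp.pos; omega) hp.one_lt
      obtain ⟨T', hc, Θ', E', hT', hΘ', _, hE'⟩ := IH (n / p) hlt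
      have hg : T' = Subgroup.closure {π | π ∈ T' ∧ π ^ p = 1} := by
        apply le_antisymm
        · conv_lhs => rw [hT']
          apply Subgroup.closure_mono
          intro x hx
          refine ⟨by rw [hT']; exact Subgroup.subset_closure hx, ?_⟩
          rcases hx with hx | hx
          · exact (hΘ' x hx).1
          · exact (hE' x hx).1
        · rw [Subgroup.closure_le]
          intro x hx
          exact hx.1
      have key := Cfsg.Agent.Lib.Helper73SylTexstep.tex_step p (n / p) (n % p)
        (Nat.mod_lt _ hp.pos) T' _ hc hg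
      have hval : n / p + ((n / p).factorial).factorization p
          = ((p * (n / p) + n % p).factorial).factorization p := by
        rw [Nat.factorization_def _ hp, Nat.factorization_def _ hp,
          padicValNat_factorial_mul_add _ (Nat.mod_lt _ hp.pos), padicValNat_factorial_mul]
        omega
      rw [hval] at key
      rw [Nat.div_add_mod] at key
      exact key

end Cfsg.Agent.Lib.Helper73SylTex
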