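import Mathlib
import Cfsg.Agent.Lib.Helper58SylDefs

set_option autoImplicit false

namespace Cfsg.Agent.Lib.Helper7SylTransport

open Cfsg.Agent.Lib.Helper49Orth Cfsg.Agent.Lib.Helper58SylDefs
open scoped Matrix

variable {F : Type*} [Field F]

section Fun

variable {ι κ : Type} [Fintype ι] [DecidableEq ι] [Fintype κ] [DecidableEq κ]

/-- conjugation by a pair of mutually inverse rectangular matrices -/
def cj (B : Matrix κ ι F) (B' : Matrix ι κ F) (h1 : B * B' = 1) (h2 : B' * B = 1) :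
    Matrix.GeneralLinearGroup ι F →* Matrix.GeneralLinearGroup κ F where
  toFun g := ⟨B * (g : Matrix ι ι F) * B', B * ((g⁻¹ : Matrix.GeneralLinearGroup ι F) : Matrix ι ι F) * B', by
      calc B * (g : Matrix ι ι F) * B' * (B * ((g⁻¹ : Matrix.GeneralLinearGroup ι F) : Matrix ι ι F) * B')
          = B * ((g : Matrix ι ι F) * (B' * B) * ((g⁻¹ : Matrix.GeneralLinearGroup ι F) : Matrix ι ι F)) * B' := by
            simp only [Matrix.mul_assoc]
        _ = 1 := by rw [h2, Matrix.mul_one, Units.mul_inv, Matrix.mul_one, h1], by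
      calc B * ((g⁻¹ : Matrix.GeneralLinearGroup ι F) : Matrix ι ι F) * B' * (B * (g : Matrix ι ι F) * B')
          = B * (((g⁻¹ : Matrix.GeneralLinearGroup ι F) : Matrix ι ι F) * (B' * B) * (g : Matrix ι ι F)) * B' := by
            simp only [Matrix.mul_assoc]
        _ = 1 := by rw [h2, Matrix.mul_one, Units.inv_mul, Matrix.mul_one, h1]⟩
  map_one' := by
    apply Units.ext
    simp [h1]
  map_mul' a b := by
    apply Units.ext
    show B * ((a : Matrix ι ι F) * (b : Matrix ι ι F)) * B' = B * (a : Matrix ι ι F) * B' * (B * (b : Matrix ι ι F) * B')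
    calc B * ((a : Matrix ι ι F) * (b : Matrix ι ι F)) * B'
        = B * ((a : Matrix ι ι F) * 1 * (b : Matrix ι ι F)) * B' := by rw [Matrix.mul_one]
      _ = _ := by rw [← h2]; simp only [Matrix.mul_assoc]

theorem coe_cj (B : Matrix κ ι F) (B' : Matrix ι κ F) (h1 : B * B' = 1) (h2 : B' * B = 1)
    (g : Matrix.GeneralLinearGroup ι F) :
    ((cj B B' h1 h2 g : Matrix.GeneralLinearGroup κ F) : Matrix κ κ F) = B * (g : Matrix ι ι F) * B' := rfl

theorem cj_cj (B : Matrix κ ι F) (B' : Matrix ι κ F) (h1 : B * B' = 1) (h2 : B' * B = 1)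
    (g : Matrix.GeneralLinearGroup ι F) : cj B' B h2 h1 (cj B B' h1 h2 g) = g := by
  apply Units.ext
  rw [coe_cj, coe_cj]
  calc B' * (B * (g : Matrix ι ι F) * B') * B = (B' * B) * (g : Matrix ι ι F) * (B' * B) := by
        simp only [Matrix.mul_assoc]
    _ = _ := by rw [h2, Matrix.one_mul, Matrix.mul_one]

theorem cj_mem (B : Matrix κ ι F) (B' : Matrix ι κ F) (h1 : B * B' = 1) (h2 : B' * B = 1)
    (Q : (ι → F) → F) (Q' : (κ → F) → F) (h : ∀ v, Q' (B *ᵥ v) = Q v)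
    (g : Matrix.GeneralLinearGroup ι F) (hg : g ∈ Cfsg.isometryGroup F Q) :
    cj B B' h1 h2 g ∈ Cfsg.isometryGroup F Q' := by
  rw [mem_iso] at hg ⊢
  intro w
  have hw : w = B *ᵥ (B' *ᵥ w) := by rw [Matrix.mulVec_mulVec, h1, Matrix.one_mulVec]
  rw [coe_cj, ← Matrix.mulVec_mulVec, ← Matrix.mulVec_mulVec, h, hg]
  conv_rhs => rw [hw, h]

/-- the isomorphism of isometry groups given by a pair of mutually inverse matrices -/
def isoMat (B : Matrix κ ι F) (B' : Matrix ι κ F) (h1 : B * B' = 1) (h2 : B' * B = 1)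
    (Q : (ι → F) → F) (Q' : (κ → F) → F) (h : ∀ v, Q' (B *ᵥ v) = Q v) :
    ↥(Cfsg.isometryGroup F Q) ≃* ↥(Cfsg.isometryGroup F Q') where
  toFun g := ⟨cj B B' h1 h2 g, cj_mem B B' h1 h2 Q Q' h g g.2⟩
  invFun g := ⟨cj B' B h2 h1 g, cj_mem B' B h2 h1 Q' Q (fun w => by
    rw [← h, Matrix.mulVec_mulVec, h1, Matrix.one_mulVec]) g g.2⟩
  left_inv g := Subtype.ext (cj_cj B B' h1 h2 g)
  right_inv g := Subtype.ext (cj_cj B' B h2 h1 g)
  map_mul' a b := Subtype.ext (map_mul (cj B B' h1 h2) (a : Matrix.GeneralLinearGroup ι F) b)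

theorem iso_of_isometry_fun (Q : (ι → F) → F) (Q' : (κ → F) → F)
    (e : (ι → F) ≃ₗ[F] (κ → F)) (h : ∀ v, Q' (e v) = Q v) :
    Nonempty (↥(Cfsg.isometryGroup F Q) ≃* ↥(Cfsg.isometryGroup F Q')) := by
  refine ⟨isoMat (LinearMap.toMatrix' e.toLinearMap) (LinearMap.toMatrix' e.symm.toLinearMap)
    ?_ ?_ Q Q' ?_⟩
  · rw [← LinearMap.toMatrix'_comp]
    simp
  · rw [← LinearMap.toMatrix'_comp]
    simp
  · intro v
    rw [LinearMap.toMatrix'_mulVec]
    exact h v

end Fun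

theorem iso_of_isometry [Fintype F] {ι κ : Type} [Fintype ι] [DecidableEq ι] [Fintype κ] [DecidableEq κ]
    (Q : QuadraticForm F (ι → F)) (Q' : QuadraticForm F (κ → F))
    (e : (ι → F) ≃ₗ[F] (κ → F)) (h : ∀ v, Q' (e v) = Q v) : Nonempty (OG Q ≃* OG Q') :=
  iso_of_isometry_fun _ _ e h

end Cfsg.Agent.Lib.Helper7SylTransport
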