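import Mathlib
import Cfsg.Agent.Lib.Helper58SylDefs
import Cfsg.Agent.Lib.Helper7SylTransport
import Cfsg.Agent.Lib.Helper7OPlus
import Cfsg.Agent.Lib.Helper7OMinus

set_option autoImplicit false

namespace Cfsg.Agent.Lib.Helper7SylCardplane

open Cfsg.Agent.Lib.Helper49Orth Cfsg.Agent.Lib.Helper58SylDefs Cfsg.Agent.Lib.Helper7SylTransport
open scoped Matrix

variable {F : Type*} [Field F] [Fintype F]

theorem sq2_apply' (v : Fin 2 → F) : sq2 F v = v 0 * v 0 + v 1 * v 1 := by
  simp [QuadraticMap.weightedSumSquares_apply, Fin.sum_univ_two]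

theorem card_plane_one (h2 : (2 : F) ≠ 0) (i : F) (hi : i * i = -1) :
    Nat.card (OG (sq2 F)) = 2 * (Fintype.card F - 1) := by
  have hi0 : i ≠ 0 := by
    rintro rfl
    simp at hi
  let B : Matrix (Fin 1 ⊕ Fin 1) (Fin 2) F :=
    Matrix.of (fun r c => Sum.elim (fun _ => (![1, i] : Fin 2 → F) c) (fun _ => (![1, -i] : Fin 2 → F) c) r)
  let B' : Matrix (Fin 2) (Fin 1 ⊕ Fin 1) F :=
    Matrix.of (fun r c => Sum.elim (fun _ => (![1 / 2, 1 / (2 * i)] : Fin 2 → F) r)
      (fun _ => (![1 / 2, - (1 / (2 * i))] : Fin 2 → F) r) c)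
  have h1 : B * B' = 1 := by
    ext r c
    rcases r with r | r <;> rcases c with c | c <;>
      simp [B, B', Matrix.mul_apply, Fin.sum_univ_two, Matrix.one_apply, Subsingleton.elim r c] <;>
      field_simp <;> norm_num
  have h1' : B' * B = 1 := by
    ext r c
    fin_cases r <;> fin_cases c <;>
      simp [B, B', Matrix.mul_apply, Matrix.one_apply] <;>
      field_simp <;> norm_num
  have e := isoMat B B' h1 h1' (⇑(sq2 F)) (Cfsg.quadFormPlus 1 F) (by
    intro v
    simp only [Cfsg.quadFormPlus, sq2_apply', Finset.univ_unique, Finset.sum_singleton]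
    simp [B, Matrix.mulVec, dotProduct, Fin.sum_univ_two]
    linear_combination (- v 1 * v 1) * hi)
  rw [Nat.card_congr e.toEquiv, Cfsg.Agent.Lib.Helper7OPlus.card_isometryGroup_plus 1 le_rfl]
  simp

theorem card_plane_three (hns : ¬ IsSquare (-1 : F)) :
    Nat.card (OG (sq2 F)) = 2 * (Fintype.card F + 1) := by
  have hab : ∀ z₁ z₂ : F, z₁ ^ 2 + 0 * z₁ * z₂ + 1 * z₂ ^ 2 = 0 → z₁ = 0 ∧ z₂ = 0 := by
    intro z₁ z₂ h
    have hz2 : z₂ = 0 := by
      by_contra hz
      apply hns
      refine ⟨z₁ / z₂, ?_⟩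
      field_simp
      linear_combination -h
    subst hz2
    refine ⟨?_, rfl⟩
    have : z₁ ^ 2 = 0 := by linear_combination h
    exact pow_eq_zero_iff (two_ne_zero) |>.1 this
  obtain ⟨e⟩ := iso_of_isometry_fun (⇑(sq2 F)) (Cfsg.quadFormMinus 0 F 0 1)
    (LinearEquiv.funCongrLeft F F (Equiv.emptySum (Fin 0 ⊕ Fin 0) (Fin 2))) (by
      intro v
      simp [Cfsg.quadFormMinus, sq2_apply', LinearEquiv.funCongrLeft]
      ring)
  rw [Nat.card_congr e.toEquiv, Cfsg.Agent.Lib.Helper7OMinus.card_isometryGroup_minus 0 0 1 hab]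
  simp

theorem card_plane (hF : Odd (Fintype.card F)) :
    Nat.card (OG (sq2 F)) =
      if Fintype.card F % 4 = 1 then 2 * (Fintype.card F - 1) else 2 * (Fintype.card F + 1) := by
  have hchar : ringChar F ≠ 2 := by
    intro h
    have := FiniteField.even_card_of_char_two h
    exact (Nat.not_even_iff_odd.2 hF) (Nat.even_iff.2 this)
  have h2 : (2 : F) ≠ 0 := Ring.two_ne_zero hchar
  have hodd : Fintype.card F % 2 = 1 := Nat.odd_iff.1 hF
  split_ifs with h
  · have : IsSquare (-1 : F) := FiniteField.isSquare_neg_one_iff.2 (by omega)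
    obtain ⟨i, hi⟩ := this
    exact card_plane_one h2 i hi.symm
  · apply card_plane_three
    rw [FiniteField.isSquare_neg_one_iff]
    omega

end Cfsg.Agent.Lib.Helper7SylCardplane
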