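import Mathlib
import Cfsg.Agent.Lib.Helper58SylDefs
import Cfsg.Agent.Lib.Helper49Transp
import Cfsg.Agent.Lib.Helper18Quad

set_option autoImplicit false

namespace Cfsg.Agent.Lib.Helper7SylPlane

open Cfsg.Agent.Lib.Helper49Orth Cfsg.Agent.Lib.Helper49Transp Cfsg.Agent.Lib.Helper58SylDefs
open scoped Matrix

variable {F : Type*} [Field F]

theorem sq2_apply (v : Fin 2 → F) : sq2 F v = v 0 * v 0 + v 1 * v 1 := by
  simp [QuadraticMap.weightedSumSquares_apply, Fin.sum_univ_two]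

theorem polar_sq2 (v x : Fin 2 → F) :
    QuadraticMap.polar ⇑(sq2 F) v x = 2 * (v 0 * x 0 + v 1 * x 1) := by
  simp only [QuadraticMap.polar, sq2_apply, Pi.add_apply]
  ring

/-- the entries of an isometry of the plane -/
theorem entries (h2 : (2 : F) ≠ 0) (g : OG (sq2 F)) :
    mat g 0 0 * mat g 0 0 + mat g 1 0 * mat g 1 0 = 1 ∧
    mat g 0 1 * mat g 0 1 + mat g 1 1 * mat g 1 1 = 1 ∧
    mat g 0 0 * mat g 0 1 + mat g 1 0 * mat g 1 1 = 0 := by
  have h0 := iso_apply (Q := ⇑(sq2 F)) g ![1, 0]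
  have h1 := iso_apply (Q := ⇑(sq2 F)) g ![0, 1]
  have h3 := iso_apply (Q := ⇑(sq2 F)) g ![1, 1]
  simp only [sq2_apply, Matrix.mulVec, dotProduct, Fin.sum_univ_two, Matrix.cons_val_zero,
    Matrix.cons_val_one, mul_one, mul_zero, add_zero, zero_add] at h0 h1 h3
  refine ⟨h0, h1, ?_⟩
  have : 2 * (mat g 0 0 * mat g 0 1 + mat g 1 0 * mat g 1 1) = 0 := by
    linear_combination h3 - h0 - h1
  exact (mul_eq_zero.1 this).resolve_left h2

theorem det_sq (h2 : (2 : F) ≠ 0) (g : OG (sq2 F)) :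
    (mat g).det = 1 ∨ (mat g).det = -1 := by
  obtain ⟨h0, h1, h3⟩ := entries h2 g
  have : ((mat g).det - 1) * ((mat g).det + 1) = 0 := by
    rw [Matrix.det_fin_two]
    linear_combination (mat g 0 1 * mat g 0 1 + mat g 1 1 * mat g 1 1) * h0 + h1
      - (mat g 0 0 * mat g 0 1 + mat g 1 0 * mat g 1 1) * h3
  rcases mul_eq_zero.1 this with h | h
  · left; linear_combination h
  · right; linear_combination h

/-- an isometry of determinant `-1` is a reflection -/
theorem refl_of_det (h2 : (2 : F) ≠ 0) (g : OG (sq2 F)) (hd : (mat g).det = -1) :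
    ∃ v, sq2 F v ≠ 0 ∧ g = reflO' (sq2 F) v := by
  obtain ⟨h0, h1, h3⟩ := entries h2 g
  rw [Matrix.det_fin_two] at hd
  set a := mat g 0 0 with ha
  set b := mat g 0 1 with hb
  set c := mat g 1 0 with hc
  set d := mat g 1 1 with hd'
  have hda : d = -a := by
    linear_combination (-d) * h0 + a * hd + c * h3
  have hbc : b = c := by
    linear_combination (-b) * h0 - c * hd + a * h3
  by_cases ha1 : a = 1
  · have hc0 : c = 0 := by
      have : c * c = 0 := by rw [ha1] at h0; linear_combination h0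
      exact mul_self_eq_zero.1 this
    have hQ : sq2 F ![0, 1] ≠ 0 := by simp
    refine ⟨![0, 1], hQ, ?_⟩
    rw [reflO'_eq _ hQ]
    apply iso_ext
    rw [coe_reflO]
    apply Matrix.mulVec_injective
    funext x
    rw [refl_mulVec, polar_sq2, sq2_apply]
    ext i
    fin_cases i
    · simp [Matrix.mulVec, dotProduct, Fin.sum_univ_two, ← ha, ← hb, ha1, hbc, hc0]
    · simp [Matrix.mulVec, dotProduct, Fin.sum_univ_two, ← hc, ← hd', hda, ha1, hc0]
      ring
  · have h1a : 1 - a ≠ 0 := sub_ne_zero.2 (Ne.symm ha1)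
    have hQv : sq2 F ![1 - a, -c] = 2 * (1 - a) := by
      simp only [sq2_apply, Matrix.cons_val_zero, Matrix.cons_val_one]
      linear_combination h0
    have hQ : sq2 F ![1 - a, -c] ≠ 0 := by
      rw [hQv]; exact mul_ne_zero h2 h1a
    refine ⟨![1 - a, -c], hQ, ?_⟩
    rw [reflO'_eq _ hQ]
    apply iso_ext
    rw [coe_reflO]
    apply Matrix.mulVec_injective
    funext x
    rw [refl_mulVec, polar_sq2, hQv]
    ext i
    fin_cases i
    · simp [Matrix.mulVec, dotProduct, Fin.sum_univ_two, ← ha, ← hb, hbc]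
      field_simp
      ring
    · simp [Matrix.mulVec, dotProduct, Fin.sum_univ_two, ← hc, ← hd', hda]
      field_simp
      linear_combination (x 1) * h0

theorem exists_conj_mem [Fintype F] (D : Sylow 2 (OG (sq2 F))) (v : Fin 2 → F)
    (hv : sq2 F v ≠ 0) : ∃ w, sq2 F w = sq2 F v ∧ reflO' (sq2 F) w ∈ D := by
  have hp : IsPGroup 2 (Subgroup.zpowers (reflO (sq2 F) hv)) := by
    rintro ⟨g, hg⟩
    obtain ⟨n, rfl⟩ := Subgroup.mem_zpowers_iff.1 hg
    refine ⟨1, ?_⟩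
    apply Subtype.ext
    simp only [pow_one, SubmonoidClass.mk_pow, OneMemClass.coe_one]
    rw [← zpow_natCast, ← zpow_mul, mul_comm, zpow_mul]
    have : reflO (sq2 F) hv ^ ((2 : ℕ) : ℤ) = 1 := by
      rw [zpow_natCast, pow_two, reflO_mul_self]
    rw [this, one_zpow]
  obtain ⟨P, hP⟩ := hp.exists_le_sylow
  obtain ⟨g, hg⟩ := MulAction.exists_smul_eq (OG (sq2 F)) P D
  refine ⟨mat g *ᵥ v, iso_apply (Q := ⇑(sq2 F)) g v, ?_⟩
  rw [reflO'_eq _ (Q_iso_ne (sq2 F) g hv), ← conj_reflO, ← hg]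
  have h1 : reflO (sq2 F) hv ∈ (P : Subgroup (OG (sq2 F))) :=
    hP (Subgroup.mem_zpowers _)
  have h2 := Subgroup.smul_mem_pointwise_smul _ (MulAut.conj g) _ h1
  rw [MulAut.smul_def, MulAut.conj_apply] at h2
  exact h2

theorem plane_sylow [Fintype F] (hF : Odd (Fintype.card F)) (D : Sylow 2 (OG (sq2 F))) :
    (D : Subgroup (OG (sq2 F))) = Subgroup.closure
        (reflO' (sq2 F) '' {v | sq2 F v ≠ 0 ∧ reflO' (sq2 F) v ∈ D}) ∧
      (∃ v, sq2 F v ≠ 0 ∧ IsSquare (sq2 F v) ∧ reflO' (sq2 F) v ∈ D) ∧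
      (∃ v, ¬ IsSquare (sq2 F v) ∧ reflO' (sq2 F) v ∈ D) := by
  have hchar : ringChar F ≠ 2 := by
    intro h
    have := FiniteField.even_card_of_char_two h
    exact (Nat.not_even_iff_odd.2 hF) (Nat.even_iff.2 this)
  have h2 : (2 : F) ≠ 0 := Ring.two_ne_zero hchar
  have hA : ∃ v, sq2 F v ≠ 0 ∧ IsSquare (sq2 F v) ∧ reflO' (sq2 F) v ∈ D := by
    have h1 : sq2 F ![1, 0] = 1 := by simp
    obtain ⟨w, hw, hwD⟩ := exists_conj_mem D ![1, 0] (by rw [h1]; exact one_ne_zero)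
    refine ⟨w, by rw [hw, h1]; exact one_ne_zero, by rw [hw, h1]; exact IsSquare.one, hwD⟩
  refine ⟨?_, hA, ?_⟩
  · apply le_antisymm
    · obtain ⟨v₀, hv₀, -, hv₀D⟩ := hA
      have hr₀ : reflO' (sq2 F) v₀ ∈ Subgroup.closure
          (reflO' (sq2 F) '' {v | sq2 F v ≠ 0 ∧ reflO' (sq2 F) v ∈ D}) :=
        Subgroup.subset_closure ⟨v₀, ⟨hv₀, hv₀D⟩, rfl⟩
      have key : ∀ g : OG (sq2 F), g ∈ (D : Subgroup (OG (sq2 F))) → (mat g).det = -1 →
          g ∈ Subgroup.closure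
            (reflO' (sq2 F) '' {v | sq2 F v ≠ 0 ∧ reflO' (sq2 F) v ∈ D}) := by
        intro g hg hd
        obtain ⟨v, hv, rfl⟩ := refl_of_det h2 g hd
        exact Subgroup.subset_closure ⟨v, ⟨hv, hg⟩, rfl⟩
      intro g hg
      rcases det_sq h2 g with hd | hd
      · have h3 : g * reflO' (sq2 F) v₀ ∈ Subgroup.closure
            (reflO' (sq2 F) '' {v | sq2 F v ≠ 0 ∧ reflO' (sq2 F) v ∈ D}) := by
          apply key _ (mul_mem hg hv₀D)
          show (mat g * mat (reflO' (sq2 F) v₀)).det = -1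
          rw [Matrix.det_mul, hd, one_mul, reflO'_eq _ hv₀]
          exact det_refl _ hv₀
        have := mul_mem h3 (inv_mem hr₀)
        simpa using this
      · exact key g hg hd
    · rw [Subgroup.closure_le]
      rintro _ ⟨v, ⟨-, hv⟩, rfl⟩
      exact hv
  · obtain ⟨ν, hν⟩ := FiniteField.exists_nonsquare hchar
    have hν0 : ν ≠ 0 := by
      rintro rfl
      exact hν IsSquare.zero
    obtain ⟨x, y, hxy⟩ := Cfsg.Agent.Lib.Helper18Quad.exists_rep h2 ν⁻¹ ν⁻¹
      (inv_ne_zero hν0) (inv_ne_zero hν0)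
    have h1 : sq2 F ![x, y] = ν := by
      simp only [sq2_apply, Matrix.cons_val_zero, Matrix.cons_val_one]
      field_simp at hxy
      linear_combination hxy
    obtain ⟨w, hw, hwD⟩ := exists_conj_mem D ![x, y] (by rw [h1]; exact hν0)
    exact ⟨w, by rw [hw, h1]; exact hν, hwD⟩

end Cfsg.Agent.Lib.Helper7SylPlane
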