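import Mathlib
import Cfsg.Agent.Lib.Helper58SylDefs
import Cfsg.Agent.Lib.Helper49Gram

set_option autoImplicit false

namespace Cfsg.Agent.Lib.Helper7SylQfin

open Cfsg.Agent.Lib.Helper49Orth Cfsg.Agent.Lib.Helper49Gram Cfsg.Agent.Lib.Helper58SylDefs
open scoped Matrix

variable {F : Type*} [Field F]

/-- the weights of the model form -/
def wt (k : ℕ) {j : ℕ} (c : Fin j → F) : (Fin 2 × Fin k) ⊕ Fin j → F :=
  Sum.elim (fun _ => 1) c

theorem Qfin_apply (k : ℕ) {j : ℕ} (c : Fin j → F) (v : (Fin 2 × Fin k) ⊕ Fin j → F) :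
    Qfin k c v = ∑ x, wt k c x * (v x * v x) := by
  rw [Qsum_apply, Qpow_apply, Fintype.sum_sum_type, Fintype.sum_prod_type_right]
  simp [wt, QuadraticMap.weightedSumSquares_apply]

theorem polar_Qfin (k : ℕ) {j : ℕ} (c : Fin j → F) (v u : (Fin 2 × Fin k) ⊕ Fin j → F) :
    QuadraticMap.polar ⇑(Qfin k c) v u = ∑ x, 2 * wt k c x * (v x * u x) := by
  simp only [QuadraticMap.polar, Qfin_apply, ← Finset.sum_sub_distrib, Pi.add_apply]
  refine Finset.sum_congr rfl fun x _ => ?_
  ring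

theorem gram_Qfin (k : ℕ) {j : ℕ} (c : Fin j → F) :
    gram (Qfin k c) = Matrix.diagonal (fun x => 2 * wt k c x) := by
  ext x y
  rw [gram, Matrix.of_apply, polar_Qfin, Matrix.diagonal_apply]
  split_ifs with h
  · subst h
    rw [Finset.sum_eq_single x]
    · simp
    · intro z _ hz
      simp [Pi.single_apply, hz]
    · simp
  · apply Finset.sum_eq_zero
    intro z _
    by_cases hz : z = x
    · subst hz
      simp [Pi.single_apply, h]
    · simp [Pi.single_apply, hz]

theorem det_gram_Qfin [Fintype F] (k : ℕ) {j : ℕ} (c : Fin j → F) :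
    (gram (Qfin k c)).det = 2 ^ (2 * k + j) * ∏ l, c l := by
  rw [gram_Qfin, Matrix.det_diagonal, Finset.prod_mul_distrib, Fintype.prod_sum_type]
  simp [wt, pow_add]

theorem Qfin_single [Fintype F] (k : ℕ) {j : ℕ} (c : Fin j → F) (l : Fin j) :
    Qfin k c (Pi.single (Sum.inr l) 1) = c l := by
  rw [Qfin_apply, Finset.sum_eq_single (Sum.inr l)]
  · simp [wt]
  · intro z _ hz
    simp [Pi.single_apply, hz]
  · simp

theorem polar_Qfin_single [Fintype F] (k : ℕ) {j : ℕ} (c : Fin j → F) (l l' : Fin j) (h : l ≠ l') :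
    QuadraticMap.polar ⇑(Qfin k c) (Pi.single (Sum.inr l) 1) (Pi.single (Sum.inr l') 1) = 0 := by
  rw [polar_Qfin]
  apply Finset.sum_eq_zero
  intro z _
  by_cases hz : z = Sum.inr l
  · subst hz
    simp [Pi.single_apply, h]
  · simp [Pi.single_apply, hz]

end Cfsg.Agent.Lib.Helper7SylQfin
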