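import Mathlib
import Cfsg.Agent.Lib.Helper58SylDefs
import Cfsg.Agent.Lib.Helper49Gram

/-! PROJECT 58 piece `embsum`. -/

set_option autoImplicit false

namespace Cfsg.Agent.Lib.Helper84SylEmbsum

open Cfsg.Agent.Lib.Helper49Orth Cfsg.Agent.Lib.Helper49Gram Cfsg.Agent.Lib.Helper58SylDefs
open scoped Matrix

section Orth

variable {F : Type*} [Field F]
variable {ι₁ ι₂ : Type} [Fintype ι₁] [DecidableEq ι₁] [Fintype ι₂] [DecidableEq ι₂]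

/-- `g ↦ diag(g, 1)` -/
def blk (F : Type*) [Field F] (ι₁ ι₂ : Type) [Fintype ι₁] [DecidableEq ι₁] [Fintype ι₂]
    [DecidableEq ι₂] : Matrix ι₁ ι₁ F →* Matrix (ι₁ ⊕ ι₂) (ι₁ ⊕ ι₂) F where
  toFun g := Matrix.fromBlocks g 0 0 1
  map_one' := Matrix.fromBlocks_one
  map_mul' a b := by simp [Matrix.fromBlocks_multiply]

theorem blk_mulVec (g : Matrix ι₁ ι₁ F) (x : ι₁ ⊕ ι₂ → F) :
    blk F ι₁ ι₂ g *ᵥ x = Sum.elim (g *ᵥ (fun a => x (Sum.inl a))) (fun b => x (Sum.inr b)) := by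
  show Matrix.fromBlocks g 0 0 1 *ᵥ x = _
  rw [Matrix.fromBlocks_mulVec]
  simp [Function.comp_def]

variable (Q₁ : QuadraticForm F (ι₁ → F)) (Q₂ : QuadraticForm F (ι₂ → F))

/-- the embedding `O(Q₁) → O(Q₁ ⊥ Q₂)` -/
noncomputable def inlO : OG Q₁ →* OG (Qsum Q₁ Q₂) :=
  ((Units.map (blk F ι₁ ι₂)).comp (Cfsg.isometryGroup F ⇑Q₁).subtype).codRestrict _ (fun g => by
    rw [mem_iso]
    intro v
    show Qsum Q₁ Q₂ (blk F ι₁ ι₂ (mat g) *ᵥ v) = _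
    rw [blk_mulVec, Qsum_apply, Qsum_apply]
    simp only [Sum.elim_inl, Sum.elim_inr]
    rw [iso_apply (Q := ⇑Q₁)])

theorem mat_inlO (g : OG Q₁) : mat (inlO Q₁ Q₂ g) = blk F ι₁ ι₂ (mat g) := rfl

theorem inlO_mulVec (g : OG Q₁) (x : ι₁ ⊕ ι₂ → F) :
    mat (inlO Q₁ Q₂ g) *ᵥ x
      = Sum.elim (mat g *ᵥ (fun a => x (Sum.inl a))) (fun b => x (Sum.inr b)) := by
  rw [mat_inlO, blk_mulVec]

theorem inlO_injective : Function.Injective (inlO Q₁ Q₂) := by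
  intro g h hgh
  apply iso_ext
  have h1 : mat (inlO Q₁ Q₂ g) = mat (inlO Q₁ Q₂ h) := by rw [hgh]
  rw [mat_inlO, mat_inlO] at h1
  exact (Matrix.fromBlocks_inj.mp h1).1

theorem polar_Qsum (x y : ι₁ ⊕ ι₂ → F) :
    QuadraticMap.polar ⇑(Qsum Q₁ Q₂) x y
      = QuadraticMap.polar ⇑Q₁ (fun a => x (Sum.inl a)) (fun a => y (Sum.inl a))
        + QuadraticMap.polar ⇑Q₂ (fun a => x (Sum.inr a)) (fun a => y (Sum.inr a)) := by
  unfold QuadraticMap.polar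
  rw [Qsum_apply, Qsum_apply, Qsum_apply]
  have e1 : (fun a => (x + y) (Sum.inl a)) = (fun a => x (Sum.inl a)) + (fun a => y (Sum.inl a)) := rfl
  have e2 : (fun a => (x + y) (Sum.inr a)) = (fun a => x (Sum.inr a)) + (fun a => y (Sum.inr a)) := rfl
  rw [e1, e2]
  ring

theorem Qsum_elim (v : ι₁ → F) : Qsum Q₁ Q₂ (Sum.elim v 0) = Q₁ v := by
  rw [Qsum_apply]
  simp only [Sum.elim_inl, Sum.elim_inr]
  have : (fun b : ι₂ => (0 : ι₂ → F) b) = 0 := rfl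
  rw [this, map_zero, add_zero]

theorem polar_elim (v : ι₁ → F) (x : ι₁ ⊕ ι₂ → F) :
    QuadraticMap.polar ⇑(Qsum Q₁ Q₂) (Sum.elim v 0) x
      = QuadraticMap.polar ⇑Q₁ v (fun a => x (Sum.inl a)) := by
  rw [polar_Qsum]
  simp only [Sum.elim_inl, Sum.elim_inr]
  have : (fun b : ι₂ => (0 : ι₂ → F) b) = 0 := rfl
  rw [this, QuadraticMap.polar_zero_left, add_zero]

theorem inlO_refl {v : ι₁ → F} (hv : Q₁ v ≠ 0) :
    inlO Q₁ Q₂ (reflO' Q₁ v) = reflO' (Qsum Q₁ Q₂) (Sum.elim v 0) := by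
  have hv' : Qsum Q₁ Q₂ (Sum.elim v 0) ≠ 0 := by rw [Qsum_elim]; exact hv
  rw [reflO'_eq Q₁ hv, reflO'_eq _ hv']
  apply iso_ext
  apply Matrix.mulVec_injective
  funext x
  rw [coe_reflO, refl_mulVec, Qsum_elim, polar_elim]
  have := inlO_mulVec Q₁ Q₂ (reflO Q₁ hv) x
  rw [this]
  show Sum.elim (Cfsg.reflectionMatrix ⇑Q₁ v *ᵥ _) _ = _
  rw [refl_mulVec]
  funext i
  rcases i with a | b
  · simp
  · simp

theorem inlO_mem_Omega {y : OG Q₁} (hy : y ∈ Cfsg.Omega F ⇑Q₁) :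
    inlO Q₁ Q₂ y ∈ Cfsg.Omega F ⇑(Qsum Q₁ Q₂) := by
  have h1 : (commutator (OG Q₁)).map (inlO Q₁ Q₂) ≤ commutator (OG (Qsum Q₁ Q₂)) := by
    rw [commutator_def, Subgroup.map_commutator, commutator_def]
    exact Subgroup.commutator_mono le_top le_top
  exact h1 ⟨y, hy, rfl⟩

end Orth

variable {F : Type*} [Field F] [Fintype F]

/-- piece `embsum` -/
theorem emb_sum (h2 : (2 : F) ≠ 0) {ι₁ ι₂ : Type} [Fintype ι₁] [DecidableEq ι₁] [Fintype ι₂]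
    [DecidableEq ι₂] (Q₁ : QuadraticForm F (ι₁ → F)) (Q₂ : QuadraticForm F (ι₂ → F))
    (S : Subgroup (OG Q₁)) (Z : Set (ι₁ → F)) (h : Good Q₁ S Z) :
    ∃ S' : Subgroup (OG (Qsum Q₁ Q₂)),
      Good (Qsum Q₁ Q₂) S' {z | ∀ a, z (Sum.inl a) = 0} ∧ Nat.card S' = Nat.card S := by
  obtain ⟨V, Y, hV, hY, hS, ⟨a₁, ha₁, b₁, hb₁, a₂, ha₂, b₂, hb₂, s1, s2, s3, s4, p1, p2, p3, p4, hall⟩,
    -, -⟩ := h
  refine ⟨S.map (inlO Q₁ Q₂), ⟨(fun v => Sum.elim v 0) '' V, inlO Q₁ Q₂ '' Y, ?_, ?_, ?_, ?_, ?_, ?_⟩,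
    Subgroup.card_map_of_injective (inlO_injective Q₁ Q₂)⟩
  · rintro _ ⟨v, hv, rfl⟩
    rw [Qsum_elim]; exact hV v hv
  · rintro _ ⟨y, hy, rfl⟩
    refine ⟨inlO_mem_Omega Q₁ Q₂ (hY y hy).1, ?_⟩
    rw [← map_mul, (hY y hy).2, map_one]
  · rw [hS, MonoidHom.map_closure, Set.image_union]
    congr 2
    ext g
    constructor
    · rintro ⟨_, ⟨v, hv, rfl⟩, rfl⟩
      exact ⟨_, ⟨v, hv, rfl⟩, (inlO_refl Q₁ Q₂ (hV v hv)).symm⟩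
    · rintro ⟨_, ⟨v, hv, rfl⟩, rfl⟩
      exact ⟨_, ⟨v, hv, rfl⟩, inlO_refl Q₁ Q₂ (hV v hv)⟩
  · refine ⟨_, ⟨a₁, ha₁, rfl⟩, _, ⟨b₁, hb₁, rfl⟩, _, ⟨a₂, ha₂, rfl⟩, _, ⟨b₂, hb₂, rfl⟩, ?_⟩
    simp only [Qsum_elim, polar_elim, Sum.elim_inl]
    refine ⟨s1, s2, s3, s4, p1, p2, p3, p4, ?_⟩
    rintro _ ⟨v, hv, rfl⟩
    simp only [polar_elim, Sum.elim_inl]
    exact hall v hv
  · rintro z hz _ ⟨v, hv, rfl⟩
    rw [polar_elim]
    have : (fun a => z (Sum.inl a)) = 0 := funext hz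
    rw [this, QuadraticMap.polar_zero_right]
  · rintro z hz _ ⟨y, hy, rfl⟩
    rw [inlO_mulVec]
    have : (fun a => z (Sum.inl a)) = 0 := funext hz
    rw [this, Matrix.mulVec_zero]
    funext i
    rcases i with a | b
    · simp [hz a]
    · simp

end Cfsg.Agent.Lib.Helper84SylEmbsum
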