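import Mathlib
import Cfsg.Agent.Lib.Helper58SylDefs
import Cfsg.Agent.Lib.Helper49Gram

/-! PROJECT 58 piece `existswd`. -/

set_option autoImplicit false

namespace Cfsg.Agent.Lib.Helper84SylExistswd

open Cfsg.Agent.Lib.Helper49Orth Cfsg.Agent.Lib.Helper49Gram Cfsg.Agent.Lib.Helper58SylDefs
open scoped Matrix

section Orth

variable {F : Type*} [Field F]
variable {ι₀ : Type} [Fintype ι₀] [DecidableEq ι₀]

theorem blockDiagonal_mulVec' {k : ℕ} (M : Fin k → Matrix ι₀ ι₀ F) (v : ι₀ × Fin k → F) (a : ι₀)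
    (i : Fin k) :
    (Matrix.blockDiagonal M *ᵥ v) (a, i) = (M i *ᵥ (fun a' => v (a', i))) a := by
  simp only [Matrix.mulVec, dotProduct, Matrix.blockDiagonal_apply, Fintype.sum_prod_type]
  apply Finset.sum_congr rfl
  intro b _
  simp

/-- the permutation matrix of the blocks -/
def pmMat (F : Type*) [Field F] (ι₀ : Type) [DecidableEq ι₀] {k : ℕ} (π : Equiv.Perm (Fin k)) :
    Matrix (ι₀ × Fin k) (ι₀ × Fin k) F :=
  Matrix.of fun x y => if y = (x.1, π⁻¹ x.2) then 1 else 0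

theorem pmMat_mulVec {k : ℕ} (π : Equiv.Perm (Fin k)) (v : ι₀ × Fin k → F) (x : ι₀ × Fin k) :
    (pmMat F ι₀ π *ᵥ v) x = v (x.1, π⁻¹ x.2) := by
  simp [Matrix.mulVec, dotProduct, pmMat]

variable (Q₀ : QuadraticForm F (ι₀ → F)) (k : ℕ)

/-- block diagonal matrices, as a monoid hom -/
def bHom : (Fin k → OG Q₀) →* Matrix (ι₀ × Fin k) (ι₀ × Fin k) F where
  toFun d := Matrix.blockDiagonal (fun i => mat (d i))
  map_one' := by
    have : (fun i : Fin k => mat ((1 : Fin k → OG Q₀) i)) = 1 := by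
      funext i; rfl
    rw [this, Matrix.blockDiagonal_one]
  map_mul' a b := by
    rw [← Matrix.blockDiagonal_mul]
    rfl

/-- block permutation matrices, as a monoid hom -/
def pHom : Equiv.Perm (Fin k) →* Matrix (ι₀ × Fin k) (ι₀ × Fin k) F where
  toFun π := pmMat F ι₀ π
  map_one' := by
    apply Matrix.mulVec_injective
    funext v x
    rw [pmMat_mulVec, Matrix.one_mulVec]
    simp
  map_mul' a b := by
    apply Matrix.mulVec_injective
    funext v x
    rw [← Matrix.mulVec_mulVec, pmMat_mulVec, pmMat_mulVec, pmMat_mulVec]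
    simp [mul_inv_rev]

/-- `B` -/
noncomputable def bO : (Fin k → OG Q₀) →* OG (Qpow Q₀ k) :=
  (bHom Q₀ k).toHomUnits.codRestrict _ (fun d => by
    rw [mem_iso]
    intro v
    show Qpow Q₀ k (Matrix.blockDiagonal (fun i => mat (d i)) *ᵥ v) = _
    rw [Qpow_apply, Qpow_apply]
    apply Finset.sum_congr rfl
    intro i _
    have : (fun a => (Matrix.blockDiagonal (fun i => mat (d i)) *ᵥ v) (a, i))
        = mat (d i) *ᵥ (fun a' => v (a', i)) := by
      funext a
      exact blockDiagonal_mulVec' _ v a i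
    rw [this, iso_apply (Q := ⇑Q₀)])

/-- `Pm` -/
noncomputable def pO : Equiv.Perm (Fin k) →* OG (Qpow Q₀ k) :=
  (pHom (F := F) (ι₀ := ι₀) k).toHomUnits.codRestrict _ (fun π => by
    rw [mem_iso]
    intro v
    show Qpow Q₀ k (pmMat F ι₀ π *ᵥ v) = _
    rw [Qpow_apply, Qpow_apply]
    have : ∀ i, (fun a => (pmMat F ι₀ π *ᵥ v) (a, i)) = fun a => v (a, π⁻¹ i) := by
      intro i
      funext a
      exact pmMat_mulVec π v (a, i)
    simp only [this]
    exact Equiv.sum_comp π⁻¹ (fun i => Q₀ (fun a => v (a, i))))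

theorem bO_mulVec (d : Fin k → OG Q₀) (v : ι₀ × Fin k → F) (a : ι₀) (i : Fin k) :
    (mat (bO Q₀ k d) *ᵥ v) (a, i) = (mat (d i) *ᵥ (fun a' => v (a', i))) a :=
  blockDiagonal_mulVec' (fun i => mat (d i)) v a i

theorem pO_mulVec (π : Equiv.Perm (Fin k)) (v : ι₀ × Fin k → F) (a : ι₀) (i : Fin k) :
    (mat (pO Q₀ k π) *ᵥ v) (a, i) = v (a, π⁻¹ i) :=
  pmMat_mulVec π v (a, i)

end Orth

variable {F : Type*} [Field F] [Fintype F]

/-- piece `existswd` -/
theorem exists_wd {ι₀ : Type} [Fintype ι₀] [DecidableEq ι₀] [Nonempty ι₀]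
    (Q₀ : QuadraticForm F (ι₀ → F)) (k : ℕ) : ∃ W : WD (OG (Qpow Q₀ k)) (OG Q₀) k, ActsStd W := by
  refine ⟨⟨bO Q₀ k, pO Q₀ k, ?_, ?_⟩, bO_mulVec Q₀ k, pO_mulVec Q₀ k⟩
  · intro π d
    rw [mul_inv_eq_iff_eq_mul]
    apply iso_ext
    apply Matrix.mulVec_injective
    funext v x
    obtain ⟨a, i⟩ := x
    show ((mat (pO Q₀ k π) * mat (bO Q₀ k d)) *ᵥ v) (a, i)
      = ((mat (bO Q₀ k fun i => d (π⁻¹ i)) * mat (pO Q₀ k π)) *ᵥ v) (a, i)
    rw [← Matrix.mulVec_mulVec, ← Matrix.mulVec_mulVec, pO_mulVec, bO_mulVec, bO_mulVec]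
    congr 2
    funext a'
    rw [pO_mulVec]
  · intro d π h
    have key : ∀ (v : ι₀ × Fin k → F) (a : ι₀) (i : Fin k),
        (mat (d i) *ᵥ (fun a' => v (a', π⁻¹ i))) a = v (a, i) := by
      intro v a i
      have h1 : (mat (bO Q₀ k d * pO Q₀ k π) *ᵥ v) (a, i) = v (a, i) := by
        rw [h]
        show ((1 : Matrix (ι₀ × Fin k) (ι₀ × Fin k) F) *ᵥ v) (a, i) = _
        rw [Matrix.one_mulVec]
      have h2 : mat (bO Q₀ k d * pO Q₀ k π) = mat (bO Q₀ k d) * mat (pO Q₀ k π) := rfl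
      rw [h2, ← Matrix.mulVec_mulVec, bO_mulVec] at h1
      rw [← h1]
      congr 2
      funext a'
      rw [pO_mulVec]
    have hπ : ∀ i, π⁻¹ i = i := by
      intro i
      by_contra hne
      obtain ⟨a⟩ := (inferInstance : Nonempty ι₀)
      have := key (fun x => if x.2 = i then 1 else 0) a i
      simp only [hne, if_false, if_true] at this
      have h0 : (fun _ : ι₀ => (0 : F)) = 0 := rfl
      rw [h0, Matrix.mulVec_zero] at this
      simp at this
    have hπ1 : π = 1 := by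
      have : π⁻¹ = 1 := Equiv.ext hπ
      exact inv_eq_one.mp this
    refine ⟨?_, hπ1⟩
    funext i
    apply iso_ext
    apply Matrix.mulVec_injective
    funext w a
    have := key (fun x => w x.1) a i
    show (mat (d i) *ᵥ w) a = ((1 : Matrix ι₀ ι₀ F) *ᵥ w) a
    rw [Matrix.one_mulVec]
    exact this

end Cfsg.Agent.Lib.Helper84SylExistswd
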