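import Mathlib
import Cfsg.Agent.Lib.Helper58SylDefs
import Cfsg.Agent.Lib.Helper49Gram
import Cfsg.Agent.Lib.Helper17SylArith
import Cfsg.Agent.Lib.Helper17SylSpwd
import Cfsg.Agent.Lib.Helper40Sylcongr
import Cfsg.Agent.Lib.Helper40Sylgen
import Cfsg.Agent.Lib.Helper40SyllemK
import Cfsg.Agent.Lib.Helper45SylAddline
import Cfsg.Agent.Lib.Helper45SylPmomega
import Cfsg.Agent.Lib.Helper67SylClassify
import Cfsg.Agent.Lib.Helper67SylMat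
import Cfsg.Agent.Lib.Helper70SylAltgen
import Cfsg.Agent.Lib.Helper70SylBsingle
import Cfsg.Agent.Lib.Helper70SylSl2
import Cfsg.Agent.Lib.Helper73SylTex
import Cfsg.Agent.Lib.Helper73SylTexstep
import Cfsg.Agent.Lib.Helper73SylWrcard
import Cfsg.Agent.Lib.Helper73SylWrclosure
import Cfsg.Agent.Lib.Helper7SylCardplane
import Cfsg.Agent.Lib.Helper7SylPlane
import Cfsg.Agent.Lib.Helper7SylQfin
import Cfsg.Agent.Lib.Helper7SylTransport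
import Cfsg.Agent.Lib.Helper84SylEmbsum
import Cfsg.Agent.Lib.Helper84SylExistswd

set_option autoImplicit false

namespace Cfsg.Agent.Lib.Helper58SylHubA

open Cfsg.Agent.Lib.Helper49Orth Cfsg.Agent.Lib.Helper49Gram Cfsg.Agent.Lib.Helper58SylDefs
open scoped Matrix

/-! ## abstract group theory -/

/-- piece `gen` -/
theorem elemAb_of_gen {G : Type*} [Group G] [Finite G] (p : ℕ) [Fact p.Prime] (P0 : Subgroup G)
    (e : ℕ) (hP : Nat.card P0 = p ^ e) (hG : ¬ p ^ (e + 1) ∣ Nat.card G)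
    (Y : Set G) (hgen : P0 = Subgroup.closure Y) (hY : ∀ y ∈ Y, y ^ p ∈ ⁅P0, P0⁆) :
    ElemAb p G :=
  Cfsg.Agent.Lib.Helper40Sylgen.elemAb_of_gen p P0 e hP hG Y hgen hY

/-- piece `gennormal` -/
theorem elemAb_normal {G : Type*} [Group G] [Finite G] (p : ℕ) [Fact p.Prime] (N : Subgroup G)
    [N.Normal] (S : Subgroup G) (e : ℕ) (hS : Nat.card S = p ^ e)
    (hG : ¬ p ^ (e + 1) ∣ Nat.card G) (Y : Set G) (hgen : S ⊓ N = Subgroup.closure Y)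
    (hY : ∀ y ∈ Y, y ^ p ∈ ⁅S ⊓ N, S ⊓ N⁆) : ElemAb p N :=
  Cfsg.Agent.Lib.Helper40Sylgen.elemAb_normal p N S e hS hG Y hgen hY

/-- piece `congr` -/
theorem elemAb_congr {G G' : Type*} [Group G] [Group G'] (p : ℕ) (e : G ≃* G')
    (h : ElemAb p G) : ElemAb p G' :=
  Cfsg.Agent.Lib.Helper40Sylcongr.elemAb_congr p e h

/-- piece `congr` (second part) -/
theorem elemAb_commutator_congr {G G' : Type*} [Group G] [Group G'] (p : ℕ) (e : G ≃* G')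
    (h : ElemAb p (commutator G)) : ElemAb p (commutator G') :=
  Cfsg.Agent.Lib.Helper40Sylcongr.elemAb_commutator_congr p e h

/-- piece `lemK` -/
theorem lemK {G : Type*} [Group G] (S P N R : Subgroup G) (X : Set G)
    (hS : S = Subgroup.closure X) (hnorm : ∀ s ∈ S, ∀ n ∈ N, s * n * s⁻¹ ∈ N) (hR : R ≤ S)
    (hX : ∀ x ∈ X, ∃ r ∈ R, x * r ∈ N) (hRP : R ⊓ P ≤ N) (hNP : N ≤ P) : S ⊓ P ≤ N :=
  Cfsg.Agent.Lib.Helper40SyllemK.lemK S P N R X hS hnorm hR hX hRP hNP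

/-- piece `wrcard` -/
theorem card_wr {G D₀ : Type*} [Group G] [Group D₀] {k : ℕ} (W : WD G D₀ k) (D : Subgroup D₀)
    (T : Subgroup (Equiv.Perm (Fin k))) [Finite D] :
    Nat.card (W.wr D T) = Nat.card D ^ k * Nat.card T :=
  Cfsg.Agent.Lib.Helper73SylWrcard.card_wr W D T

/-- piece `wrclosure` -/
theorem wr_eq_closure {G D₀ : Type*} [Group G] [Group D₀] {k : ℕ} (W : WD G D₀ k)
    (D : Subgroup D₀) (T : Subgroup (Equiv.Perm (Fin k))) (XD : Set D₀)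
    (XT : Set (Equiv.Perm (Fin k))) (hD : D = Subgroup.closure XD) (hT : T = Subgroup.closure XT) :
    W.wr D T = Subgroup.closure
      ({g | ∃ i : Fin k, ∃ d ∈ XD, g = W.B (Pi.mulSingle i d)} ∪ W.Pm '' XT) :=
  Cfsg.Agent.Lib.Helper73SylWrclosure.wr_eq_closure W D T XD XT hD hT

/-- piece `wrelem` -/
theorem wr_elemAb {G D₀ : Type*} [Group G] [Finite G] [Group D₀] {k : ℕ} (W : WD G D₀ k)
    (p : ℕ) [Fact p.Prime] (D : Subgroup D₀) (T : Subgroup (Equiv.Perm (Fin k)))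
    (hD : ∀ x ∈ D, x ^ p ∈ ⁅D, D⁆) (hT : T = Subgroup.closure {π | π ∈ T ∧ π ^ p = 1})
    (d t : ℕ) (hDc : Nat.card D = p ^ d) (hTc : Nat.card T = p ^ t)
    (hG : ¬ p ^ (d * k + t + 1) ∣ Nat.card G) : ElemAb p G := by
  have hp : 0 < p := (Fact.out : p.Prime).pos
  have hfin : Finite D := Nat.finite_of_card_ne_zero (by rw [hDc]; positivity)
  have hc : Nat.card (W.wr D T) = p ^ (d * k + t) := by
    rw [card_wr, hDc, hTc, ← pow_mul, ← pow_add]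
  have hcl := wr_eq_closure W D T (D : Set D₀) {π | π ∈ T ∧ π ^ p = 1}
    (Subgroup.closure_eq D).symm hT
  refine elemAb_of_gen p (W.wr D T) _ hc hG _ hcl ?_
  rintro y (⟨i, x, hx, rfl⟩ | ⟨π, hπ, rfl⟩)
  · let f : D₀ →* G := W.B.comp (MonoidHom.mulSingle (fun _ : Fin k => D₀) i)
    have hf : ∀ z, f z = W.B (Pi.mulSingle i z) := fun z => rfl
    have hle : D.map f ≤ W.wr D T := by
      rintro _ ⟨z, hz, rfl⟩
      rw [hcl]
      exact Subgroup.subset_closure (Or.inl ⟨i, z, hz, rfl⟩)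
    have h1 : f (x ^ p) ∈ ⁅D.map f, D.map f⁆ := by
      rw [← Subgroup.map_commutator]
      exact Subgroup.mem_map_of_mem f (hD x hx)
    rw [← hf, ← map_pow]
    exact Subgroup.commutator_mono hle hle h1
  · rw [← map_pow, hπ.2, map_one]; exact one_mem _


/-! ## Sylow subgroups of symmetric groups -/

/-- piece `texstep` -/
theorem tex_step (p : ℕ) [Fact p.Prime] (n' r : ℕ) (hr : r < p)
    (T' : Subgroup (Equiv.Perm (Fin n'))) (t' : ℕ) (hc : Nat.card T' = p ^ t')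
    (hg : T' = Subgroup.closure {π | π ∈ T' ∧ π ^ p = 1}) :
    ∃ T : Subgroup (Equiv.Perm (Fin (p * n' + r))), Nat.card T = p ^ (n' + t') ∧
      ∃ Θ E : Set (Equiv.Perm (Fin (p * n' + r))), T = Subgroup.closure (Θ ∪ E) ∧
        (∀ θ ∈ Θ, θ ^ p = 1 ∧ (p = 2 → Equiv.Perm.sign θ = -1)) ∧
        (∀ θ ∈ Θ, ∀ θ' ∈ Θ, θ * θ' = θ' * θ) ∧
        (∀ ε ∈ E, ε ^ p = 1 ∧ (p = 2 → Equiv.Perm.sign ε = 1)) :=
  Cfsg.Agent.Lib.Helper73SylTexstep.tex_step p n' r hr T' t' hc hg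

/-- piece `tex` -/
theorem tex (p : ℕ) [Fact p.Prime] (n : ℕ) :
    ∃ T : Subgroup (Equiv.Perm (Fin n)), Nat.card T = p ^ ((n.factorial).factorization p) ∧
      ∃ Θ E : Set (Equiv.Perm (Fin n)), T = Subgroup.closure (Θ ∪ E) ∧
        (∀ θ ∈ Θ, θ ^ p = 1 ∧ (p = 2 → Equiv.Perm.sign θ = -1)) ∧
        (∀ θ ∈ Θ, ∀ θ' ∈ Θ, θ * θ' = θ' * θ) ∧
        (∀ ε ∈ E, ε ^ p = 1 ∧ (p = 2 → Equiv.Perm.sign ε = 1)) :=
  Cfsg.Agent.Lib.Helper73SylTex.tex p n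

/-- piece `altgen` -/
theorem alt_gen (n : ℕ) (T : Subgroup (Equiv.Perm (Fin n))) (Θ E : Set (Equiv.Perm (Fin n)))
    (hT : T = Subgroup.closure (Θ ∪ E)) (hΘ : ∀ θ ∈ Θ, θ ^ 2 = 1 ∧ Equiv.Perm.sign θ = -1)
    (hcomm : ∀ θ ∈ Θ, ∀ θ' ∈ Θ, θ * θ' = θ' * θ)
    (hE : ∀ ε ∈ E, ε ^ 2 = 1 ∧ Equiv.Perm.sign ε = 1) :
    T ⊓ alternatingGroup (Fin n)
      = Subgroup.closure {y | y ∈ T ∧ y ∈ alternatingGroup (Fin n) ∧ y ^ 2 = 1} :=
  Cfsg.Agent.Lib.Helper70SylAltgen.alt_gen n T Θ E hT hΘ hcomm hE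

/-! ## symplectic groups -/

/-- piece `spwd` -/
theorem exists_wd_sp {F : Type*} [Field F] (n : ℕ) :
    Nonempty (WD ↥(Matrix.symplecticGroup (Fin n) F) (Matrix.SpecialLinearGroup (Fin 2) F) n) :=
  Cfsg.Agent.Lib.Helper17SylSpwd.exists_wd_sp n

/-- piece `sl2` -/
theorem elemAb_sl2 {F : Type*} [Field F] [Fintype F] (hF : Odd (Fintype.card F))
    (D : Sylow 2 (Matrix.SpecialLinearGroup (Fin 2) F)) :
    ∀ x ∈ (D : Subgroup (Matrix.SpecialLinearGroup (Fin 2) F)),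
      x ^ 2 ∈ ⁅(D : Subgroup (Matrix.SpecialLinearGroup (Fin 2) F)),
        (D : Subgroup (Matrix.SpecialLinearGroup (Fin 2) F))⁆ :=
  Cfsg.Agent.Lib.Helper70SylSl2.elemAb_sl2 hF D

/-! ## orthogonal groups -/

section Orth

variable {F : Type*} [Field F] [Fintype F]

/-- piece `mat` -/
theorem mat_thm (h2 : (2 : F) ≠ 0) {ι : Type} [Fintype ι] [DecidableEq ι]
    (Q : QuadraticForm F (ι → F)) (S : Subgroup (OG Q)) (Z : Set (ι → F)) (h : Good Q S Z) :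
    S ⊓ Cfsg.Omega F ⇑Q
      = Subgroup.closure {y | y ∈ S ∧ y ∈ Cfsg.Omega F ⇑Q ∧ y * y = 1} :=
  Cfsg.Agent.Lib.Helper67SylMat.mat_thm h2 Q S Z h

/-- piece `addline` -/
theorem add_line (h2 : (2 : F) ≠ 0) {ι : Type} [Fintype ι] [DecidableEq ι]
    (Q : QuadraticForm F (ι → F)) (S : Subgroup (OG Q)) (Z : Set (ι → F)) (h : Good Q S Z)
    (u : ι → F) (hu : u ∈ Z) (hQu : Q u ≠ 0) :
    Good Q (S ⊔ Subgroup.zpowers (reflO' Q u)) {z | z ∈ Z ∧ QuadraticMap.polar ⇑Q u z = 0} ∧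
      Nat.card ↥(S ⊔ Subgroup.zpowers (reflO' Q u)) = 2 * Nat.card S :=
  Cfsg.Agent.Lib.Helper45SylAddline.add_line h2 Q S Z h u hu hQu

/-- piece `embsum` -/
theorem emb_sum (h2 : (2 : F) ≠ 0) {ι₁ ι₂ : Type} [Fintype ι₁] [DecidableEq ι₁] [Fintype ι₂]
    [DecidableEq ι₂] (Q₁ : QuadraticForm F (ι₁ → F)) (Q₂ : QuadraticForm F (ι₂ → F))
    (S : Subgroup (OG Q₁)) (Z : Set (ι₁ → F)) (h : Good Q₁ S Z) :
    ∃ S' : Subgroup (OG (Qsum Q₁ Q₂)),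
      Good (Qsum Q₁ Q₂) S' {z | ∀ a, z (Sum.inl a) = 0} ∧ Nat.card S' = Nat.card S :=
  Cfsg.Agent.Lib.Helper84SylEmbsum.emb_sum h2 Q₁ Q₂ S Z h

/-- piece `existswd` -/
theorem exists_wd {ι₀ : Type} [Fintype ι₀] [DecidableEq ι₀] [Nonempty ι₀]
    (Q₀ : QuadraticForm F (ι₀ → F)) (k : ℕ) : ∃ W : WD (OG (Qpow Q₀ k)) (OG Q₀) k, ActsStd W :=
  Cfsg.Agent.Lib.Helper84SylExistswd.exists_wd Q₀ k

/-- piece `bsingle` -/
theorem Qpow_emb {ι₀ : Type} [Fintype ι₀] [DecidableEq ι₀] (Q₀ : QuadraticForm F (ι₀ → F))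
    (k : ℕ) (i : Fin k) (v : ι₀ → F) : Qpow Q₀ k (emb i v) = Q₀ v :=
  Cfsg.Agent.Lib.Helper70SylBsingle.Qpow_emb Q₀ k i v

/-- piece `bsingle` -/
theorem polar_emb {ι₀ : Type} [Fintype ι₀] [DecidableEq ι₀] (Q₀ : QuadraticForm F (ι₀ → F))
    (k : ℕ) (i j : Fin k) (hij : i ≠ j) (v w : ι₀ → F) :
    QuadraticMap.polar ⇑(Qpow Q₀ k) (emb i v) (emb j w) = 0 :=
  Cfsg.Agent.Lib.Helper70SylBsingle.polar_emb Q₀ k i j hij v w

/-- piece `bsingle` -/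
theorem B_single_refl {ι₀ : Type} [Fintype ι₀] [DecidableEq ι₀] (Q₀ : QuadraticForm F (ι₀ → F))
    (k : ℕ) (W : WD (OG (Qpow Q₀ k)) (OG Q₀) k) (hW : ActsStd W) (i : Fin k) (v : ι₀ → F)
    (hv : Q₀ v ≠ 0) :
    W.B (Pi.mulSingle i (reflO' Q₀ v)) = reflO' (Qpow Q₀ k) (emb i v) :=
  Cfsg.Agent.Lib.Helper70SylBsingle.B_single_refl Q₀ k W hW i v hv

/-- piece `pmomega` -/
theorem Pm_mem_Omega (k : ℕ) (W : WD (OG (Qpow (sq2 F) k)) (OG (sq2 F)) k) (hW : ActsStd W)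
    (π : Equiv.Perm (Fin k)) (hπ : π * π = 1) :
    W.Pm π ∈ Cfsg.Omega F ⇑(Qpow (sq2 F) k) :=
  Cfsg.Agent.Lib.Helper45SylPmomega.Pm_mem_Omega k W hW π hπ

/-- piece `plane` -/
theorem plane_sylow (hF : Odd (Fintype.card F)) (D : Sylow 2 (OG (sq2 F))) :
    (D : Subgroup (OG (sq2 F))) = Subgroup.closure
        (reflO' (sq2 F) '' {v | sq2 F v ≠ 0 ∧ reflO' (sq2 F) v ∈ D}) ∧
      (∃ v, sq2 F v ≠ 0 ∧ IsSquare (sq2 F v) ∧ reflO' (sq2 F) v ∈ D) ∧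
      (∃ v, ¬ IsSquare (sq2 F v) ∧ reflO' (sq2 F) v ∈ D) :=
  Cfsg.Agent.Lib.Helper7SylPlane.plane_sylow hF D

/-- piece `transport` -/
theorem iso_of_isometry {ι κ : Type} [Fintype ι] [DecidableEq ι] [Fintype κ] [DecidableEq κ]
    (Q : QuadraticForm F (ι → F)) (Q' : QuadraticForm F (κ → F))
    (e : (ι → F) ≃ₗ[F] (κ → F)) (h : ∀ v, Q' (e v) = Q v) : Nonempty (OG Q ≃* OG Q') :=
  Cfsg.Agent.Lib.Helper7SylTransport.iso_of_isometry Q Q' e h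

/-- piece `classify` -/
theorem classify (h2 : (2 : F) ≠ 0) {ι κ : Type} [Fintype ι] [DecidableEq ι] [Fintype κ]
    [DecidableEq κ] (Q : QuadraticForm F (ι → F)) (Q' : QuadraticForm F (κ → F))
    (hQ : (gram Q).det ≠ 0) (hQ' : (gram Q').det ≠ 0)
    (hcard : Fintype.card ι = Fintype.card κ) (hsq : IsSquare ((gram Q).det * (gram Q').det)) :
    ∃ e : (ι → F) ≃ₗ[F] (κ → F), ∀ v, Q' (e v) = Q v :=
  Cfsg.Agent.Lib.Helper67SylClassify.classify h2 Q Q' hQ hQ' hcard hsq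

/-- piece `qfin` -/
theorem det_gram_Qfin (k : ℕ) {j : ℕ} (c : Fin j → F) :
    (gram (Qfin k c)).det = 2 ^ (2 * k + j) * ∏ l, c l :=
  Cfsg.Agent.Lib.Helper7SylQfin.det_gram_Qfin k c

/-- piece `qfin` -/
theorem Qfin_single (k : ℕ) {j : ℕ} (c : Fin j → F) (l : Fin j) :
    Qfin k c (Pi.single (Sum.inr l) 1) = c l :=
  Cfsg.Agent.Lib.Helper7SylQfin.Qfin_single k c l

/-- piece `qfin` -/
theorem polar_Qfin_single (k : ℕ) {j : ℕ} (c : Fin j → F) (l l' : Fin j) (h : l ≠ l') :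
    QuadraticMap.polar ⇑(Qfin k c) (Pi.single (Sum.inr l) 1) (Pi.single (Sum.inr l') 1) = 0 :=
  Cfsg.Agent.Lib.Helper7SylQfin.polar_Qfin_single k c l l' h

/-- piece `cardplane` -/
theorem card_plane (hF : Odd (Fintype.card F)) :
    Nat.card (OG (sq2 F)) =
      if Fintype.card F % 4 = 1 then 2 * (Fintype.card F - 1) else 2 * (Fintype.card F + 1) :=
  Cfsg.Agent.Lib.Helper7SylCardplane.card_plane hF

end Orth

/-! ## arithmetic -/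

/-- the 2-adic valuation of the order of the plane group -/
abbrev dd (q : ℕ) : ℕ := Cfsg.Agent.Lib.Helper17SylArith.dd q

/-- piece `arithcore` -/
theorem val_prod (q : ℕ) (hq : Odd q) (hq1 : 1 < q) (m : ℕ) :
    (∏ i ∈ Finset.range m, (q ^ (2 * (i + 1)) - 1)).factorization 2
      = dd q * m + (m.factorial).factorization 2 :=
  Cfsg.Agent.Lib.Helper17SylArith.val_prod q hq hq1 m

/-- piece `arithodd` -/
theorem arith_odd (q : ℕ) (hq : Odd q) (hq1 : 1 < q) (m : ℕ) :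
    ¬ 2 ^ (dd q * m + (m.factorial).factorization 2 + 1 + 1) ∣
      2 * q ^ (m ^ 2) * ∏ i ∈ Finset.range m, (q ^ (2 * (i + 1)) - 1) :=
  Cfsg.Agent.Lib.Helper17SylArith.arith_odd q hq hq1 m

/-- piece `aritheven` : plus type, `(-1)^m` a square -/
theorem arith_plus_sq (q : ℕ) (hq : Odd q) (hq1 : 1 < q) (m : ℕ) (hm : 1 ≤ m)
    (h : Even m ∨ q % 4 = 1) :
    ¬ 2 ^ (dd q * m + (m.factorial).factorization 2 + 0 + 1) ∣
      2 * q ^ (m * (m - 1)) * (q ^ m - 1) * ∏ i ∈ Finset.range (m - 1), (q ^ (2 * (i + 1)) - 1) :=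
  Cfsg.Agent.Lib.Helper17SylArith.arith_plus_sq q hq hq1 m hm h

/-- piece `aritheven` : plus type, `(-1)^m` not a square -/
theorem arith_plus_nsq (q : ℕ) (hq : Odd q) (hq1 : 1 < q) (m : ℕ) (hm : 1 ≤ m)
    (h : Odd m ∧ q % 4 = 3) :
    ¬ 2 ^ (dd q * (m - 1) + ((m - 1).factorial).factorization 2 + 2 + 1) ∣
      2 * q ^ (m * (m - 1)) * (q ^ m - 1) * ∏ i ∈ Finset.range (m - 1), (q ^ (2 * (i + 1)) - 1) :=
  Cfsg.Agent.Lib.Helper17SylArith.arith_plus_nsq q hq hq1 m hm h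

/-- piece `aritheven2` : minus type, `(-1)^m` not a square -/
theorem arith_minus_sq (q : ℕ) (hq : Odd q) (hq1 : 1 < q) (m : ℕ) (hm : 1 ≤ m)
    (h : Odd m ∧ q % 4 = 3) :
    ¬ 2 ^ (dd q * m + (m.factorial).factorization 2 + 0 + 1) ∣
      2 * q ^ (m * (m - 1)) * (q ^ m + 1) * ∏ i ∈ Finset.range (m - 1), (q ^ (2 * (i + 1)) - 1) :=
  Cfsg.Agent.Lib.Helper17SylArith.arith_minus_sq q hq hq1 m hm h

/-- piece `aritheven2` : minus type, `(-1)^m` a square -/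
theorem arith_minus_nsq (q : ℕ) (hq : Odd q) (hq1 : 1 < q) (m : ℕ) (hm : 1 ≤ m)
    (h : Even m ∨ q % 4 = 1) :
    ¬ 2 ^ (dd q * (m - 1) + ((m - 1).factorial).factorization 2 + 2 + 1) ∣
      2 * q ^ (m * (m - 1)) * (q ^ m + 1) * ∏ i ∈ Finset.range (m - 1), (q ^ (2 * (i + 1)) - 1) :=
  Cfsg.Agent.Lib.Helper17SylArith.arith_minus_nsq q hq hq1 m hm h

/-- piece `arithsp` -/
theorem card_sl2_val {F : Type*} [Field F] [Fintype F] (hF : Odd (Fintype.card F)) :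
    (Nat.card (Matrix.SpecialLinearGroup (Fin 2) F)).factorization 2 = dd (Fintype.card F) :=
  Cfsg.Agent.Lib.Helper17SylArith.card_sl2_val hF

/-- piece `arithsp` -/
theorem arith_sp (q : ℕ) (hq : Odd q) (hq1 : 1 < q) (m : ℕ) :
    ¬ 2 ^ (dd q * m + (m.factorial).factorization 2 + 1) ∣
      q ^ (m ^ 2) * ∏ i ∈ Finset.range m, (q ^ (2 * (i + 1)) - 1) :=
  Cfsg.Agent.Lib.Helper17SylArith.arith_sp q hq hq1 m

end Cfsg.Agent.Lib.Helper58SylHubA
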