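import Cfsg.Agent.Lib.Helper58Subnormal

set_option autoImplicit false

namespace Cfsg.Agent.Lib.Helper58Zipper

open Subgroup Cfsg.Agent.Lib.Helper58Subnormal
open scoped Pointwise

variable {G : Type*} [Group G]

/-- conjugate subgroup -/
abbrev cj (g : G) (U : Subgroup G) : Subgroup G := U.map (MulAut.conj g).toMonoidHom

theorem cj_cj (g h : G) (U : Subgroup G) : cj g (cj h U) = cj (g * h) U := by
  ext x
  simp only [cj, mem_map, MulEquiv.coe_toMonoidHom, MulAut.conj_apply]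
  constructor
  · rintro ⟨_, ⟨u, hu, rfl⟩, rfl⟩
    exact ⟨u, hu, by group⟩
  · rintro ⟨u, hu, rfl⟩
    exact ⟨h * u * h⁻¹, ⟨u, hu, rfl⟩, by group⟩

theorem cj_one (U : Subgroup G) : cj 1 U = U := by
  ext x
  simp [cj]

theorem cj_mono {U V : Subgroup G} (g : G) (h : U ≤ V) : cj g U ≤ cj g V := map_mono h

theorem cj_eq_top_iff (g : G) (U : Subgroup G) : cj g U = ⊤ ↔ U = ⊤ := by
  constructor
  · intro h
    have := congrArg (cj g⁻¹) h
    rw [cj_cj, inv_mul_cancel, cj_one] at this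
    rw [this]
    exact (map_top_of_surjective _ (MulAut.conj g⁻¹).surjective)
  · rintro rfl
    exact (map_top_of_surjective _ (MulAut.conj g).surjective)

theorem smul_eq_cj (g : G) (U : Subgroup G) : MulAut.conj g • U = cj g U := rfl

theorem le_normalizer_sSup {K : Subgroup G} {F : Set (Subgroup G)}
    (h : ∀ U ∈ F, ∀ g ∈ K, cj g U ∈ F) : K ≤ normalizer ((sSup F : Subgroup G) : Set G) := by
  apply le_normalizer_of
  intro g hg
  have : sSup F ≤ (sSup F).comap (MulAut.conj g).toMonoidHom := by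
    apply sSup_le
    intro U hU u hu
    exact (le_sSup (h U hU g hg)) ⟨u, hu, rfl⟩
  intro w hw
  exact this hw

theorem exists_normalizes_join_aux [Finite G] : ∀ (n : ℕ) (K : Subgroup G), Nat.card K = n →
    ∀ (S S₀ : Set (Subgroup G)), (∀ U ∈ S, Sn U K) → (∀ U ∈ S, ∀ g ∈ K, cj g U ∈ S) →
    S₀ ⊆ S → (∃ X ∈ S, X ∉ S₀) →
    ∃ X ∈ S, X ∉ S₀ ∧ X ≤ normalizer ((sSup S₀ : Subgroup G) : Set G) := by
  intro n
  induction n using Nat.strong_induction_on with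
  | _ n ih =>
    intro K hK S S₀ hS hconj hsub hex
    have hJ : Sn (sSup S₀) K := Sn.sSup S₀ (fun U hU => hS U (hsub hU))
    obtain ⟨X₁, hX₁, hX₁'⟩ := hex
    by_cases hJK : sSup S₀ = K
    · exact ⟨X₁, hX₁, hX₁', by rw [hJK]; exact (hS X₁ hX₁).le.trans le_normalizer⟩
    obtain ⟨N, hN, hJN, hNK⟩ := hJ.exists_normIn_of_ne hJK
    by_cases hc : ∃ X ∈ S, X ≤ N ∧ X ∉ S₀
    · obtain ⟨X, hX, hXN, hX0⟩ := hc
      have hcard : Nat.card N < n := hK ▸ card_lt_of_ne hN.1 hNK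
      obtain ⟨Y, hY, hY0, hYn⟩ := ih _ hcard N rfl {X | X ∈ S ∧ X ≤ N} S₀
        (fun U hU => (hS U hU.1).of_le hU.2 hN.1)
        (fun U hU g hg => ⟨hconj U hU.1 g (hN.1 hg), by
          rintro _ ⟨u, hu, rfl⟩
          exact N.mul_mem (N.mul_mem hg (hU.2 hu)) (N.inv_mem hg)⟩)
        (fun U hU => ⟨hsub hU, (le_sSup hU).trans hJN.le⟩)
        ⟨X, ⟨hX, hXN⟩, hX0⟩
      exact ⟨Y, hY.1, hY0, hYn⟩
    · push Not at hc
      refine ⟨X₁, hX₁, hX₁', (hS X₁ hX₁).le.trans ?_⟩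
      apply le_normalizer_sSup
      intro U hU g hg
      apply hc _ (hconj U (hsub hU) g hg)
      rintro _ ⟨u, hu, rfl⟩
      exact conj_mem_of_mem_normalizer (hN.2 hg) (hJN.le ((le_sSup hU) hu))

/-- Relative form: `S` a `K`-invariant family of subnormal subgroups of `K`, `S₀` a proper
subfamily: some member of `S \ S₀` normalizes the join of `S₀`. -/
theorem exists_normalizes_join [Finite G] {K : Subgroup G} {S S₀ : Set (Subgroup G)}
    (hS : ∀ U ∈ S, Sn U K) (hconj : ∀ U ∈ S, ∀ g ∈ K, cj g U ∈ S)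
    (hsub : S₀ ⊆ S) (hex : ∃ X ∈ S, X ∉ S₀) :
    ∃ X ∈ S, X ∉ S₀ ∧ X ≤ normalizer ((sSup S₀ : Subgroup G) : Set G) :=
  exists_normalizes_join_aux _ K rfl S S₀ hS hconj hsub hex

section general

variable [Finite G] (A : Subgroup G) (U : Set (Subgroup G))
  (S : Subgroup G → Set (Subgroup G))

theorem zipper_key (hS : ∀ V B : Subgroup G, B ∈ S V ↔ (∃ g : G, B = cj g A) ∧ Sn B V)
    (h2 : ∀ V ∈ U, ∀ W ∈ U, ∀ B ∈ S W, B ≤ V → B ∈ S V)
    {V W X : Subgroup G} (hV : Maximal (· ∈ U) V) (hX : X ∈ U)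
    (hN : normalizer ((sSup (S V ∩ S W) : Subgroup G) : Set G) ≤ X)
    (hmax : V ≠ X → (S V ∩ S X).ncard ≤ (S V ∩ S W).ncard) : V = X := by
  by_contra hne
  have hD : S V ∩ S W ⊆ S V ∩ S X := by
    intro B hB
    exact ⟨hB.1, h2 X hX V hV.1 B hB.1 (((le_sSup hB).trans le_normalizer).trans hN)⟩
  have hDeq : S V ∩ S W = S V ∩ S X :=
    Set.eq_of_subset_of_ncard_le hD (hmax hne) (Set.toFinite _)
  have hconj : ∀ B ∈ S V, ∀ g ∈ V, cj g B ∈ S V := by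
    intro B hB g hg
    rw [hS] at hB ⊢
    obtain ⟨⟨x, rfl⟩, hsn⟩ := hB
    exact ⟨⟨g * x, cj_cj g x A⟩, hsn.conj (le_normalizer hg)⟩
  by_cases hc : ∃ B ∈ S V, B ∉ S V ∩ S W
  · obtain ⟨B, hB, hB0, hBn⟩ := exists_normalizes_join (K := V) (S := S V) (S₀ := S V ∩ S W)
      (fun B hB => ((hS V B).mp hB).2) hconj Set.inter_subset_left hc
    apply hB0
    rw [hDeq]
    exact ⟨hB, h2 X hX V hV.1 B hB (hBn.trans hN)⟩
  · push Not at hc
    have hVX : V ≤ X := by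
      refine le_trans ?_ hN
      apply le_normalizer_sSup
      intro B hB g hg
      exact hc _ (hconj B hB.1 g hg)
    exact hne (le_antisymm hVX (hV.2 hX hVX))

/-- General uniqueness theorem of zipper type. -/
theorem zipper_general (hU : U.Nonempty)
    (hS : ∀ V B : Subgroup G, B ∈ S V ↔ (∃ g : G, B = cj g A) ∧ Sn B V)
    (h2 : ∀ V ∈ U, ∀ W ∈ U, ∀ B ∈ S W, B ≤ V → B ∈ S V)
    (h3 : ∀ V ∈ U, ∀ W ∈ U, ∃ X ∈ U,
      normalizer ((sSup (S V ∩ S W) : Subgroup G) : Set G) ≤ X) :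
    ∃ M ∈ U, ∀ V ∈ U, V ≤ M := by
  have hfin : U.Finite := Set.toFinite U
  have huniq : ∀ V W, Maximal (· ∈ U) V → Maximal (· ∈ U) W → V = W := by
    by_contra hcon
    push Not at hcon
    obtain ⟨V₀, W₀, hV₀, hW₀, hne₀⟩ := hcon
    let P : Set (Subgroup G × Subgroup G) :=
      {p | Maximal (· ∈ U) p.1 ∧ Maximal (· ∈ U) p.2 ∧ p.1 ≠ p.2}
    obtain ⟨⟨V, W⟩, ⟨hV, hW, hne⟩, hmax⟩ := Set.exists_max_image P
      (fun p => (S p.1 ∩ S p.2).ncard) (Set.toFinite P) ⟨(V₀, W₀), hV₀, hW₀, hne₀⟩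
    simp only at hV hW hne hmax
    obtain ⟨X, hX, hNX⟩ := h3 V hV.1 W hW.1
    obtain ⟨X', hXX', hX'⟩ := hfin.exists_le_maximal hX
    have e1 : V = X' := zipper_key A U S hS h2 hV hX'.1 (hNX.trans hXX')
      (fun hn => hmax (V, X') ⟨hV, hX', hn⟩)
    have e2 : W = X' := zipper_key A U S hS h2 (W := V) hW hX'.1
      (by rw [Set.inter_comm]; exact hNX.trans hXX')
      (fun hn => by rw [Set.inter_comm (S W) (S V)]; exact hmax (W, X') ⟨hW, hX', hn⟩)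
    exact hne (e1.trans e2.symm)
  obtain ⟨V₀, hV₀⟩ := hU
  obtain ⟨M, _, hM⟩ := hfin.exists_le_maximal hV₀
  refine ⟨M, hM.1, fun V hV => ?_⟩
  obtain ⟨M', hVM', hM'⟩ := hfin.exists_le_maximal hV
  rwa [huniq M M' hM hM']

end general

/-- **Wielandt's zipper lemma**: if `A` is subnormal in every proper subgroup containing it but
not in `G`, then `A` lies in a unique maximal subgroup. -/
theorem zipper [Finite G] {A : Subgroup G} (hA : ¬ A.IsSubnormal)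
    (h : ∀ V : Subgroup G, A ≤ V → V ≠ ⊤ → Sn A V) :
    ∃ M : Subgroup G, IsCoatom M ∧ A ≤ M ∧ ∀ V : Subgroup G, A ≤ V → V ≠ ⊤ → V ≤ M := by
  have hAtop : A ≠ ⊤ := by
    rintro rfl
    exact hA IsSubnormal.top
  have hconj : ∀ (g : G) (V : Subgroup G), cj g A ≤ V → V ≠ ⊤ → Sn (cj g A) V := by
    intro g V hV hVt
    have h1 : A ≤ cj g⁻¹ V := by
      have := cj_mono g⁻¹ hV
      rwa [cj_cj, inv_mul_cancel, cj_one] at this
    have h2 := (h _ h1 (fun hh => hVt ((cj_eq_top_iff _ _).mp hh))).map (MulAut.conj g).toMonoidHom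
    have h3 : cj g (cj g⁻¹ V) = V := by rw [cj_cj, mul_inv_cancel, cj_one]
    rw [← h3]
    exact h2
  obtain ⟨M, ⟨hAM, hMt⟩, hM⟩ := zipper_general A {V | A ≤ V ∧ V ≠ ⊤}
    (fun V => {B | (∃ g : G, B = cj g A) ∧ Sn B V}) ⟨A, le_rfl, hAtop⟩
    (fun V B => Iff.rfl)
    (by
      rintro V ⟨_, hVt⟩ W _ B ⟨⟨g, rfl⟩, _⟩ hBV
      exact ⟨⟨g, rfl⟩, hconj g V hBV hVt⟩)
    (by
      rintro V ⟨hAV, hVt⟩ W ⟨hAW, hWt⟩
      set D : Set (Subgroup G) := {B | (∃ g : G, B = cj g A) ∧ Sn B V} ∩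
        {B | (∃ g : G, B = cj g A) ∧ Sn B W} with hD
      have hAD : A ∈ D := ⟨⟨⟨1, (cj_one A).symm⟩, h V hAV hVt⟩, ⟨⟨1, (cj_one A).symm⟩, h W hAW hWt⟩⟩
      have hJV : sSup D ≤ V := sSup_le (fun B hB => hB.1.2.le)
      refine ⟨_, ⟨((le_sSup hAD).trans le_normalizer), ?_⟩, le_rfl⟩
      intro htop
      apply hA
      rw [← sn_top_iff]
      refine ((h V hAV hVt).of_le (le_sSup hAD) hJV).trans (NormIn.sn ⟨le_top, ?_⟩)
      rw [htop])
  refine ⟨M, ⟨hMt, ?_⟩, hAM, fun V hV hVt => hM V ⟨hV, hVt⟩⟩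
  intro b hb
  by_contra hbt
  exact absurd (hM b ⟨hAM.trans hb.le, hbt⟩) (not_le_of_gt hb)

end Cfsg.Agent.Lib.Helper58Zipper
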