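import Cfsg.Agent.Lib.Helper5Ind
import Cfsg.Agent.Lib.Helper5Clifford
import Mathlib

set_option autoImplicit false

namespace Cfsg.Agent.Lib.Helper5Cliff2

open Cfsg Cfsg.Agent.Lib.Helper19Ind Cfsg.Agent.Lib.Helper4Char Cfsg.Agent.Lib.Helper4Char2
  Cfsg.Agent.Lib.Helper4Char4 Cfsg.Agent.Lib.Helper5Ind Cfsg.Agent.Lib.Helper5Clifford

variable {G : Type*} [Group G]

/-- `indFun` only depends on the subgroup up to equality. -/
theorem indFun_congr [Fintype G] {H H' : Subgroup G} (h : H = H') (θ : H → ℂ) (θ' : H' → ℂ)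
    (hθ : ∀ (x : G) (hx : x ∈ H) (hx' : x ∈ H'), θ ⟨x, hx⟩ = θ' ⟨x, hx'⟩) :
    indFun H θ = indFun H' θ' := by
  subst h
  congr 1
  funext x
  exact hθ x x.2 x.2

theorem cj_eq_iff {N : Subgroup G} (hN : N.Normal) (θ : N → ℂ) (x g : G) :
    cj hN θ x = cj hN θ g ↔ cj hN θ (x * g⁻¹) = θ := by
  constructor
  · intro h
    rw [← cj_cj, h, cj_cj, mul_inv_cancel, cj_one]
  · intro h
    have := congrArg (fun ψ => cj hN ψ g) h
    simp only [cj_cj, inv_mul_cancel_right] at this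
    exact this

open scoped Classical in
/-- the sum of all conjugates is the order of the stabiliser times the sum of distinct ones. -/
theorem sum_cj_eq [Fintype G] {N : Subgroup G} (hN : N.Normal) (θ : N → ℂ) :
    ∑ x : G, cj hN θ x = (Nat.card {g : G // cj hN θ g = θ} : ℂ) •
      ∑ᶠ ψ ∈ {ψ : N → ℂ | ∃ g : G, ψ = cj hN θ g}, ψ := by
  have hS : {ψ : N → ℂ | ∃ g : G, ψ = cj hN θ g} =
      ↑(Finset.univ.image (fun g : G => cj hN θ g)) := by
    ext ψ
    simp [eq_comm]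
  rw [hS, finsum_mem_coe_finset, Finset.smul_sum,
    ← Finset.sum_fiberwise_of_maps_to (s := Finset.univ)
      (t := Finset.univ.image (fun g : G => cj hN θ g)) (g := fun g : G => cj hN θ g)
      (fun x _ => Finset.mem_image_of_mem _ (Finset.mem_univ x))]
  apply Finset.sum_congr rfl
  intro ψ hψ
  obtain ⟨g, -, rfl⟩ := Finset.mem_image.mp hψ
  rw [Finset.sum_congr rfl (g := fun _ => cj hN θ g)
    (by intro x hx; exact (Finset.mem_filter.mp hx).2), Finset.sum_const]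
  rw [← Nat.cast_smul_eq_nsmul ℂ]
  congr 2
  rw [Nat.card_eq_fintype_card, Fintype.card_subtype]
  apply Finset.card_bij (fun x _ => x * g⁻¹)
  · intro x hx
    simp only [Finset.mem_filter, Finset.mem_univ, true_and] at hx ⊢
    exact (cj_eq_iff hN θ x g).mp hx
  · intro x _ y _ hxy
    exact mul_right_cancel hxy
  · intro y hy
    simp only [Finset.mem_filter, Finset.mem_univ, true_and] at hy
    refine ⟨y * g, ?_, by simp⟩
    simp only [Finset.mem_filter, Finset.mem_univ, true_and]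
    rw [cj_eq_iff, mul_inv_cancel_right]
    exact hy

theorem extendByZero_cj {N : Subgroup G} (hN : N.Normal) (θ : N → ℂ) (g z : G) :
    extendByZero N (cj hN θ g) z = extendByZero N θ (g * z * g⁻¹) := by
  by_cases hz : z ∈ N
  · rw [extendByZero_of_mem N _ hz, extendByZero_of_mem N _ (hN.conj_mem z hz g)]
    rfl
  · have hz' : g * z * g⁻¹ ∉ N := by
      intro h
      apply hz
      have := hN.conj_mem _ h g⁻¹
      simpa [mul_assoc] using this
    rw [extendByZero_of_not_mem N _ hz, extendByZero_of_not_mem N _ hz']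

/-- conjugate functions induce to the same function. -/
theorem indFun_cj [Fintype G] {N : Subgroup G} (hN : N.Normal) (θ : N → ℂ) (g : G) :
    indFun N (cj hN θ g) = indFun N θ := by
  funext y
  rw [indFun_apply, indFun_apply]
  congr 1
  refine Fintype.sum_equiv (Equiv.mulRight g⁻¹) _ _ (fun x => ?_)
  rw [extendByZero_cj]
  congr 1
  simp only [Equiv.coe_mulRight]
  group

/-- the inner product is invariant under transport along an isomorphism. -/
theorem classInner_comp_equiv {A B : Type*} [Group A] [Group B] [Fintype A] [Fintype B]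
    (e : A ≃* B) (φ ψ : B → ℂ) :
    classInner (fun a => φ (e a)) (fun a => ψ (e a)) = classInner φ ψ := by
  unfold classInner
  rw [Nat.card_congr e.toEquiv]
  congr 1
  exact Fintype.sum_equiv e.toEquiv _ _ (fun a => rfl)

section Correspondence

open Cfsg.Agent.Lib.Helper19Cliff

variable {G T H : Type*} [Group G] [Group T] [Group H] [Fintype G] [Fintype T] [Fintype H]
  (ι₂ : T →* G) (hι₂ : Function.Injective ι₂) (ι₁ : H →* T) (hι₁ : Function.Injective ι₁)
  (c : G →* MulAut H)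
  (hc : ∀ (g : G) (n : H), ι₂ (ι₁ (c g n)) = g * ι₂ (ι₁ n) * g⁻¹)
  {ϑ : H → ℂ} (hϑ : IsIrrCharacter H ϑ)
  (hT : ∀ g : G, g ∈ ι₂.range ↔ ∀ n : H, ϑ (c g n) = ϑ n)

include hι₂ hι₁ hc hϑ hT in
/-- Clifford correspondence: injectivity of induction from the inertia group. -/
theorem ind_inertia_injective {ψ ψ' : T → ℂ} (hψ : IsIrrCharacter T ψ)
    (hψ' : IsIrrCharacter T ψ')
    (h : classInner (fun n => ψ (ι₁ n)) ϑ ≠ 0) (h' : classInner (fun n => ψ' (ι₁ n)) ϑ ≠ 0)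
    (heq : ind ι₂ ψ = ind ι₂ ψ') : ψ = ψ' := by
  classical
  by_contra hne
  have hirr := ind_inertia_isIrr ι₂ hι₂ ι₁ hι₁ c hc hϑ hT hψ h
  have hχc := IsIrrCharacter.isCharacter hirr
  have hαc : IsCharacter T (fun t => ind ι₂ ψ (ι₂ t)) := IsCharacter.comp ι₂ hχc
  have hϑc := IsIrrCharacter.isCharacter hϑ
  have h1 := classInner_res_eq_sum ι₁ (fun t => ind ι₂ ψ (ι₂ t))
    (IsCharacter.isClassFunction hαc) ϑ
  rw [classInner_res_ind_inertia ι₂ hι₂ ι₁ hι₁ c hc hϑ hT hψ h] at h1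
  have ha : ∀ ξ : IrrCharacter T, classInner (fun t => ind ι₂ ψ (ι₂ t)) (ξ : T → ℂ) =
      (nip (fun t => ind ι₂ ψ (ι₂ t)) (ξ : T → ℂ) : ℂ) :=
    fun ξ => nip_spec hαc (IsIrrCharacter.isCharacter ξ.2)
  have hb : ∀ ξ : IrrCharacter T, classInner (fun n => (ξ : T → ℂ) (ι₁ n)) ϑ =
      (nip (fun n => (ξ : T → ℂ) (ι₁ n)) ϑ : ℂ) :=
    fun ξ => nip_spec (IsCharacter.comp ι₁ (IsIrrCharacter.isCharacter ξ.2)) hϑc
  have hb0 := hb ⟨ψ, hψ⟩
  simp only at hb0
  simp only [ha, hb] at h1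
  rw [hb0] at h1
  have h2 : nip (fun n => ψ (ι₁ n)) ϑ = ∑ ξ : IrrCharacter T,
      nip (fun t => ind ι₂ ψ (ι₂ t)) (ξ : T → ℂ) * nip (fun n => (ξ : T → ℂ) (ι₁ n)) ϑ := by
    exact_mod_cast h1
  have hone : ∀ φ : T → ℂ, IsIrrCharacter T φ → ind ι₂ φ = ind ι₂ ψ →
      nip (fun t => ind ι₂ ψ (ι₂ t)) φ = 1 := by
    intro φ hφ hφe
    have h3 := nip_spec hαc (IsIrrCharacter.isCharacter hφ)
    rw [← classInner_conj_symm, ← frobenius ι₂ φ _ (IsIrrCharacter.isClassFunction hirr), hφe,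
      classInner_irr_self hirr, map_one] at h3
    exact_mod_cast h3.symm
  have hsub : ∑ ξ ∈ ({⟨ψ, hψ⟩, ⟨ψ', hψ'⟩} : Finset (IrrCharacter T)),
      nip (fun t => ind ι₂ ψ (ι₂ t)) (ξ : T → ℂ) * nip (fun n => (ξ : T → ℂ) (ι₁ n)) ϑ ≤
      ∑ ξ : IrrCharacter T,
      nip (fun t => ind ι₂ ψ (ι₂ t)) (ξ : T → ℂ) * nip (fun n => (ξ : T → ℂ) (ι₁ n)) ϑ :=
    Finset.sum_le_sum_of_subset (Finset.subset_univ _)
  rw [Finset.sum_pair (fun hh => hne (congrArg Subtype.val hh)), ← h2] at hsub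
  simp only [hone ψ hψ rfl, hone ψ' hψ' heq.symm, one_mul] at hsub
  have h4 : nip (fun n => ψ' (ι₁ n)) ϑ = 0 := by omega
  apply h'
  have h5 := hb ⟨ψ', hψ'⟩
  simp only at h5
  rw [h5, h4, Nat.cast_zero]

end Correspondence

end Cfsg.Agent.Lib.Helper5Cliff2
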