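import Mathlib
import Cfsg.Prelude.Def_Blocks
import Cfsg.Agent.Lib.Helper81Local

/-!
# Lifting multiplicative functions modulo the local ideal to linear characters
-/

set_option autoImplicit false

namespace Cfsg.Agent.Lib.Helper79Teich

open Cfsg Cfsg.Agent.Lib.Helper81Local

variable {M : Ideal AlgInt} {p : ℕ}

/-- `x ^ p ≡ 1` implies `x ≡ 1`. -/
theorem sub_one_of_pow_p (hM : IsPModular p M) {z : ℂ} (hz : MemLocalRing M z)
    (hzp : MemLocalIdeal M (z ^ p - 1)) : MemLocalIdeal M (z - 1) := by
  have := hM.2.1.isPrime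
  have : Fact p.Prime := ⟨hM.1⟩
  set k := IsLocalRing.ResidueField (Rt M)
  have hp0 : ((p : ℕ) : k) = 0 := by
    have : IsLocalRing.residue (Rt M) ((p : ℕ) : Rt M) = 0 := by
      rw [IsLocalRing.residue_eq_zero_iff, mem_maximalIdeal_Rt_iff]
      simpa using memLocalIdeal_p hM
    simpa using this
  have : CharP k p := (CharP.charP_iff_prime_eq_zero hM.1).2 hp0
  set x : Rt M := ⟨z, hz⟩
  have hx : IsLocalRing.residue (Rt M) (x ^ p - 1) = 0 := by
    rw [IsLocalRing.residue_eq_zero_iff, mem_maximalIdeal_Rt_iff]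
    simpa using hzp
  have h1 : (IsLocalRing.residue (Rt M) x - 1) ^ p = 0 := by
    rw [sub_pow_char, one_pow, ← map_pow, ← map_one (IsLocalRing.residue (Rt M)), ← map_sub, hx]
  have h2 : IsLocalRing.residue (Rt M) (x - 1) = 0 := by
    rw [map_sub, map_one]
    exact pow_eq_zero_iff (hM.1.ne_zero) |>.1 h1
  rw [IsLocalRing.residue_eq_zero_iff, mem_maximalIdeal_Rt_iff] at h2
  simpa using h2

theorem sub_one_of_pow_p_pow (hM : IsPModular p M) (a : ℕ) {z : ℂ} (hz : MemLocalRing M z)
    (hzp : MemLocalIdeal M (z ^ (p ^ a) - 1)) : MemLocalIdeal M (z - 1) := by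
  have := hM.2.1.isPrime
  induction a with
  | zero => simpa using hzp
  | succ a ih =>
    apply ih
    apply sub_one_of_pow_p hM (memLocalRing_pow hz _)
    rw [← pow_mul, ← pow_succ]
    exact hzp

theorem exists_mem_of_prod [M.IsPrime] {ι : Type*} (s : Finset ι) (f : ι → ℂ)
    (hf : ∀ i ∈ s, MemLocalRing M (f i)) (h : MemLocalIdeal M (∏ i ∈ s, f i)) :
    ∃ i ∈ s, MemLocalIdeal M (f i) := by
  classical
  induction s using Finset.induction_on with
  | empty =>
    rw [Finset.prod_empty] at h
    exact absurd h not_memLocalIdeal_one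
  | insert a s ha ih =>
    rw [Finset.prod_insert ha] at h
    rcases memLocalIdeal_or_of_mul (hf a (Finset.mem_insert_self a s))
      (memLocalRing_prod s f (fun i hi => hf i (Finset.mem_insert_of_mem hi))) h with h1 | h1
    · exact ⟨a, Finset.mem_insert_self a s, h1⟩
    · obtain ⟨i, hi, h2⟩ := ih (fun i hi => hf i (Finset.mem_insert_of_mem hi)) h1
      exact ⟨i, Finset.mem_insert_of_mem hi, h2⟩

theorem isIntegral_of_pow_eq_one {z : ℂ} {m : ℕ} (hm : 0 < m) (h : z ^ m = 1) : IsIntegral ℤ z :=
  IsIntegral.of_pow hm (by rw [h]; exact isIntegral_one)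

/-- A root of unity of order prime to `p` that is congruent to `1` equals `1`. -/
theorem eq_one_of_pow_eq_one (hM : IsPModular p M) {m : ℕ} (hm : ¬ p ∣ m) {w : ℂ}
    (hw : w ^ m = 1) (h : MemLocalIdeal M (w - 1)) : w = 1 := by
  have := hM.2.1.isPrime
  by_contra hne
  have hm0 : 0 < m := Nat.pos_of_ne_zero (fun h0 => hm (h0 ▸ dvd_zero p))
  have hwR : MemLocalRing M w := memLocalRing_of_isIntegral (isIntegral_of_pow_eq_one hm0 hw)
  have hgeom : ∑ i ∈ Finset.range m, w ^ i = 0 := by
    have := mul_neg_geom_sum w m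
    rw [hw, sub_self] at this
    rcases mul_eq_zero.mp this with h1 | h1
    · exact absurd (sub_eq_zero.mp h1).symm hne
    · exact h1
  have hpow : ∀ i : ℕ, MemLocalIdeal M (w ^ i - 1) := by
    intro i
    induction i with
    | zero => simpa using memLocalIdeal_zero (M := M)
    | succ i ih =>
      have h1 := memLocalIdeal_mul_right ih hwR
      have := memLocalIdeal_add h1 h
      convert this using 1
      ring
  have hsum : MemLocalIdeal M (∑ i ∈ Finset.range m, (w ^ i - 1)) :=
    memLocalIdeal_sum _ _ (fun i _ => hpow i)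
  rw [Finset.sum_sub_distrib, hgeom, Finset.sum_const, Finset.card_range, nsmul_eq_mul, mul_one,
    zero_sub] at hsum
  have := memLocalIdeal_neg hsum
  rw [neg_neg, memLocalIdeal_natCast_iff hM] at this
  exact hm this

theorem eq_of_pow_eq_one (hM : IsPModular p M) {m : ℕ} (hm : ¬ p ∣ m) {z w : ℂ}
    (hz : z ^ m = 1) (hw : w ^ m = 1) (h : MemLocalIdeal M (z - w)) : z = w := by
  have := hM.2.1.isPrime
  have hm0 : 0 < m := Nat.pos_of_ne_zero (fun h0 => hm (h0 ▸ dvd_zero p))
  have hw0 : w ≠ 0 := by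
    rintro rfl
    rw [zero_pow hm0.ne'] at hw
    exact zero_ne_one hw
  have hwi : (w⁻¹) ^ m = 1 := by rw [inv_pow, hw, inv_one]
  have h1 : (z * w⁻¹) ^ m = 1 := by rw [mul_pow, hz, hwi, one_mul]
  have h2 : MemLocalIdeal M (z * w⁻¹ - 1) := by
    have := memLocalIdeal_mul_right h
      (memLocalRing_of_isIntegral (M := M) (isIntegral_of_pow_eq_one hm0 hwi))
    convert this using 1
    field_simp
  have h3 := eq_one_of_pow_eq_one hM hm h1 h2
  field_simp at h3
  exact h3

/-- existence of a root of unity congruent to a given local integer `x` with `x ^ m ≡ 1`. -/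
theorem exists_root_congr [M.IsPrime] {m : ℕ} (hm : 0 < m) {x : ℂ} (hx : MemLocalRing M x)
    (h : MemLocalIdeal M (x ^ m - 1)) : ∃ z : ℂ, z ^ m = 1 ∧ MemLocalIdeal M (z - x) := by
  have hprim := Complex.isPrimitiveRoot_exp m hm.ne'
  have h1 := hprim.pow_sub_pow_eq_prod_sub_mul x 1 hm
  rw [one_pow] at h1
  rw [h1] at h
  obtain ⟨z, hz, hz2⟩ := exists_mem_of_prod _ _ (fun z hz => by
    rw [mul_one]
    rw [Polynomial.mem_nthRootsFinset hm] at hz
    exact memLocalRing_sub hx (memLocalRing_of_isIntegral (isIntegral_of_pow_eq_one hm hz))) h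
  rw [Polynomial.mem_nthRootsFinset hm] at hz
  refine ⟨z, hz, ?_⟩
  rw [mul_one] at hz2
  have := memLocalIdeal_neg hz2
  rwa [neg_sub] at this

/-- A function on a finite group that is multiplicative modulo the local ideal is congruent to a
unique homomorphism into the roots of unity of order prime to `p`. -/
theorem exists_lift {G : Type*} [Group G] [Finite G] (hM : IsPModular p M) (u : G → ℂ)
    (hu : ∀ g, MemLocalRing M (u g))
    (hmul : ∀ g h, MemLocalIdeal M (u (g * h) - u g * u h))
    (hone : MemLocalIdeal M (u 1 - 1)) :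
    ∃ β : G →* ℂˣ, (∀ g, MemLocalIdeal M ((β g : ℂ) - u g)) ∧ (∀ g, IsIntegral ℤ (β g : ℂ)) ∧
      ∀ g, MemLocalIdeal M (u g - 1) → β g = 1 := by
  have := hM.2.1.isPrime
  have hp := hM.1
  set n := Nat.card G with hn
  set a := n.factorization p with ha
  set m := n / p ^ a with hmdef
  have hn0 : n ≠ 0 := Nat.card_pos.ne'
  have ham : p ^ a * m = n := Nat.ordProj_mul_ordCompl_eq_self n p
  have hpm : ¬ p ∣ m := Nat.not_dvd_ordCompl hp hn0
  have hm0 : 0 < m := Nat.pos_of_ne_zero (fun h0 => hpm (h0 ▸ dvd_zero p))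
  have hpow : ∀ (g : G) (k : ℕ), MemLocalIdeal M (u (g ^ k) - u g ^ k) := by
    intro g k
    induction k with
    | zero => simpa using hone
    | succ k ih =>
      have h1 := hmul (g ^ k) g
      have h2 := memLocalIdeal_mul_right ih (hu g)
      have := memLocalIdeal_add h1 h2
      rw [pow_succ, pow_succ]
      convert this using 1
      ring
  have hn1 : ∀ g : G, MemLocalIdeal M (u g ^ m - 1) := by
    intro g
    apply sub_one_of_pow_p_pow hM a (memLocalRing_pow (hu g) m)
    rw [← pow_mul, mul_comm m, ham]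
    have h1 := hpow g n
    rw [hn, pow_card_eq_one'] at h1
    have := memLocalIdeal_sub hone h1
    convert this using 1
    ring
  have hex : ∀ g : G, ∃ z : ℂ, z ^ m = 1 ∧ MemLocalIdeal M (z - u g) :=
    fun g => exists_root_congr hm0 (hu g) (hn1 g)
  choose b hb1 hb2 using hex
  have hb0 : ∀ g, b g ≠ 0 := by
    intro g h0
    have := hb1 g
    rw [h0, zero_pow hm0.ne'] at this
    exact zero_ne_one this
  have hbR : ∀ g, MemLocalRing M (b g) :=
    fun g => memLocalRing_of_isIntegral (isIntegral_of_pow_eq_one hm0 (hb1 g))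
  have hbmul : ∀ g h, b (g * h) = b g * b h := by
    intro g h
    apply eq_of_pow_eq_one hM hpm (hb1 _) (by rw [mul_pow, hb1, hb1, one_mul])
    have h1 := hb2 (g * h)
    have h2 := hmul g h
    have h3 := memLocalIdeal_mul_right (hb2 g) (hbR h)
    have h4 := memLocalIdeal_mul (hu g) (hb2 h)
    have := memLocalIdeal_sub (memLocalIdeal_add h1 h2) (memLocalIdeal_add h3 h4)
    convert this using 1
    ring
  refine ⟨MonoidHom.mk' (fun g => Units.mk0 (b g) (hb0 g)) (fun g h => by
    apply Units.ext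
    simp only [Units.val_mk0, Units.val_mul]
    exact hbmul g h), ?_, ?_, ?_⟩
  · intro g
    exact hb2 g
  · intro g
    exact isIntegral_of_pow_eq_one hm0 (hb1 g)
  · intro g hg
    apply Units.ext
    change b g = 1
    apply eq_one_of_pow_eq_one hM hpm (hb1 g)
    have := memLocalIdeal_add (hb2 g) hg
    convert this using 1
    ring

end Cfsg.Agent.Lib.Helper79Teich
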