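import Mathlib

set_option autoImplicit false

/-!
Reduction theory of positive semidefinite integral bilinear forms of rank at most two:
existence of a (Lagrange-)reduced basis modulo the radical.
-/

namespace Cfsg.Agent.Lib.Helper82Lattice

variable {V : Type*} [AddCommGroup V]

theorem exists_round (s A : ℤ) (hA : 0 < A) : ∃ c : ℤ, |2 * (s - c * A)| ≤ A := by
  refine ⟨(2 * s + A) / (2 * A), ?_⟩
  have h1 := Int.emod_add_mul_ediv (2 * s + A) (2 * A)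
  have h2 := Int.emod_nonneg (2 * s + A) (by positivity : (2 * A) ≠ 0)
  have h3 := Int.emod_lt_of_pos (2 * s + A) (by positivity : 0 < 2 * A)
  rw [abs_le]
  constructor <;> nlinarith

omit [AddCommGroup V] in
theorem exists_min (P : V → Prop) (f : V → ℤ) (h : ∃ v, P v) (hf : ∀ v, P v → 0 ≤ f v) :
    ∃ v, P v ∧ ∀ u, P u → f v ≤ f u := by
  classical
  have hS : ∃ k : ℕ, ∃ v, P v ∧ f v = k := by
    obtain ⟨v, hv⟩ := h
    exact ⟨(f v).toNat, v, hv, (Int.toNat_of_nonneg (hf v hv)).symm⟩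
  obtain ⟨v, hv, hk⟩ := Nat.find_spec hS
  refine ⟨v, hv, fun u hu => ?_⟩
  have := Nat.find_min' hS ⟨u, hu, (Int.toNat_of_nonneg (hf u hu)).symm⟩
  rw [hk]
  have h2 := Int.toNat_of_nonneg (hf u hu)
  omega

structure PSD (β : V →ₗ[ℤ] V →ₗ[ℤ] ℤ) : Prop where
  symm : ∀ m n, β m n = β n m
  nonneg : ∀ m, 0 ≤ β m m

variable {β : V →ₗ[ℤ] V →ₗ[ℤ] ℤ}

theorem PSD.rad (h : PSD β) {w : V} (hw : β w w = 0) (n : V) : β w n = 0 := by
  by_contra hc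
  have h1 := h.nonneg ((-(β w n * (β n n + 1))) • w + n)
  have h2 := h.nonneg n
  simp only [map_add, map_smul, LinearMap.add_apply, LinearMap.smul_apply, smul_eq_mul, hw,
    h.symm n w] at h1
  have h3 : 0 < β w n ^ 2 := by positivity
  nlinarith

theorem expand2 (h : PSD β) (m n₁ n₂ : V) (c₁ c₂ : ℤ) :
    β (m - c₁ • n₁ - c₂ • n₂) (m - c₁ • n₁ - c₂ • n₂)
      = β m m - 2 * c₁ * β m n₁ - 2 * c₂ * β m n₂ + c₁ ^ 2 * β n₁ n₁ + 2 * c₁ * c₂ * β n₁ n₂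
        + c₂ ^ 2 * β n₂ n₂ := by
  simp only [map_sub, map_smul, LinearMap.sub_apply, LinearMap.smul_apply, smul_eq_mul,
    h.symm n₁ m, h.symm n₂ m, h.symm n₂ n₁]
  ring

theorem expand1 (h : PSD β) (m n₁ : V) (c₁ : ℤ) :
    β (m - c₁ • n₁) (m - c₁ • n₁) = β m m - 2 * c₁ * β m n₁ + c₁ ^ 2 * β n₁ n₁ := by
  simp only [map_sub, map_smul, LinearMap.sub_apply, LinearMap.smul_apply, smul_eq_mul,
    h.symm n₁ m]
  ring

/-- consequence of rank `≤ 2`: the value of the form in terms of the pairings with `n₁, n₂`. -/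
theorem rank_two_formula (h : PSD β)
    (hrk : ∀ n₁ n₂ w : V, β w n₁ = 0 → β w n₂ = 0 → β n₁ n₁ * β n₂ n₂ - β n₁ n₂ ^ 2 ≠ 0 →
      β w w = 0) (n₁ n₂ : V) (hΔ : β n₁ n₁ * β n₂ n₂ - β n₁ n₂ ^ 2 ≠ 0) (m x : V) :
    (β n₁ n₁ * β n₂ n₂ - β n₁ n₂ ^ 2) * β m x
      = (β m n₁ * β n₂ n₂ - β m n₂ * β n₁ n₂) * β n₁ x
        + (β m n₂ * β n₁ n₁ - β m n₁ * β n₁ n₂) * β n₂ x := by
  set w : V := (β n₁ n₁ * β n₂ n₂ - β n₁ n₂ ^ 2) • m
    - (β m n₁ * β n₂ n₂ - β m n₂ * β n₁ n₂) • n₁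
    - (β m n₂ * β n₁ n₁ - β m n₁ * β n₁ n₂) • n₂ with hw
  have h1 : β w n₁ = 0 := by
    rw [hw]
    simp only [map_sub, map_smul, LinearMap.sub_apply, LinearMap.smul_apply, smul_eq_mul,
      h.symm n₂ n₁]
    ring
  have h2 : β w n₂ = 0 := by
    rw [hw]
    simp only [map_sub, map_smul, LinearMap.sub_apply, LinearMap.smul_apply, smul_eq_mul]
    ring
  have h3 := h.rad (hrk n₁ n₂ w h1 h2 hΔ) x
  rw [hw] at h3
  simp only [map_sub, map_smul, LinearMap.sub_apply, LinearMap.smul_apply, smul_eq_mul] at h3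
  linarith


/-- **Reduction.** -/
theorem reduce (h : PSD β)
    (hrk : ∀ n₁ n₂ w : V, β w n₁ = 0 → β w n₂ = 0 → β n₁ n₁ * β n₂ n₂ - β n₁ n₂ ^ 2 ≠ 0 →
      β w w = 0) (hne : ∃ v, 0 < β v v) :
    (∃ n₁, 0 < β n₁ n₁ ∧ ∀ m, ∃ c : ℤ, β (m - c • n₁) (m - c • n₁) = 0) ∨
    (∃ n₁ n₂, 0 < β n₁ n₁ ∧ β n₁ n₁ ≤ β n₂ n₂ ∧ 2 * |β n₁ n₂| ≤ β n₁ n₁ ∧
      ∀ m, ∃ c₁ c₂ : ℤ, β (m - c₁ • n₁ - c₂ • n₂) (m - c₁ • n₁ - c₂ • n₂) = 0) := by
  obtain ⟨n₁, hA, hmin⟩ := exists_min (fun v => 0 < β v v) (fun v => β v v) hne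
    (fun v hv => hv.le)
  have hzero : ∀ v, β v v < β n₁ n₁ → β v v = 0 := by
    intro v hv
    by_contra hc
    have : 0 < β v v := lt_of_le_of_ne (h.nonneg v) (Ne.symm hc)
    exact absurd (hmin v this) (not_le.2 hv)
  by_cases hex : ∃ v, 0 < β n₁ n₁ * β v v - β n₁ v ^ 2
  · right
    obtain ⟨n₂, hΔ, hmin2⟩ := exists_min (fun v => 0 < β n₁ n₁ * β v v - β n₁ v ^ 2)
      (fun v => β v v) hex (fun v _ => h.nonneg v)
    have hΓpos : 0 < β n₂ n₂ := by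
      by_contra hc
      have h0 : β n₂ n₂ = 0 := le_antisymm (not_lt.1 hc) (h.nonneg n₂)
      rw [h0] at hΔ
      nlinarith [sq_nonneg (β n₁ n₂)]
    have hAΓ : β n₁ n₁ ≤ β n₂ n₂ := hmin n₂ hΓpos
    have hshift : ∀ c : ℤ, β n₂ n₂ ≤ β n₂ n₂ - 2 * c * β n₁ n₂ + c ^ 2 * β n₁ n₁ := by
      intro c
      have e1 := expand1 h n₂ n₁ c
      rw [h.symm n₂ n₁] at e1
      rw [← e1]
      apply hmin2
      rw [e1]
      have e2 : β n₁ (n₂ - c • n₁) = β n₁ n₂ - c * β n₁ n₁ := by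
        simp only [map_sub, map_smul, smul_eq_mul]
      rw [e2]
      nlinarith
    have hB : 2 * |β n₁ n₂| ≤ β n₁ n₁ := by
      have e1 := hshift 1
      have e2 := hshift (-1)
      rcases abs_cases (β n₁ n₂) with ⟨e, _⟩ | ⟨e, _⟩ <;> rw [e] <;> linarith
    refine ⟨n₁, n₂, hA, hAΓ, hB, ?_⟩
    intro m
    have hΔ' : β n₁ n₁ * β n₂ n₂ - β n₁ n₂ ^ 2 ≠ 0 := hΔ.ne'
    obtain ⟨c₂, hc₂⟩ := exists_round (β m n₂ * β n₁ n₁ - β m n₁ * β n₁ n₂) _ hΔ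
    obtain ⟨c₁, hc₁⟩ := exists_round (β m n₁ - c₂ * β n₁ n₂) _ hA
    refine ⟨c₁, c₂, ?_⟩
    set v := m - c₁ • n₁ - c₂ • n₂ with hv
    have hσ₁ : β v n₁ = β m n₁ - c₂ * β n₁ n₂ - c₁ * β n₁ n₁ := by
      rw [hv]
      simp only [map_sub, map_smul, LinearMap.sub_apply, LinearMap.smul_apply, smul_eq_mul,
        h.symm n₂ n₁]
      ring
    have hσ₂ : β v n₂ = β m n₂ - c₁ * β n₁ n₂ - c₂ * β n₂ n₂ := by
      rw [hv]
      simp only [map_sub, map_smul, LinearMap.sub_apply, LinearMap.smul_apply, smul_eq_mul]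
    have hF := rank_two_formula h hrk n₁ n₂ hΔ' v v
    rw [h.symm n₁ v, h.symm n₂ v] at hF
    have hY : β v n₂ * β n₁ n₁ - β v n₁ * β n₁ n₂
        = (β m n₂ * β n₁ n₁ - β m n₁ * β n₁ n₂)
          - c₂ * (β n₁ n₁ * β n₂ n₂ - β n₁ n₂ ^ 2) := by
      rw [hσ₁, hσ₂]; ring
    rw [← hY] at hc₂
    rw [← hσ₁] at hc₁
    have hzv := hzero v
    have hmv := hmin2 v
    rw [h.symm n₁ v] at hmv
    clear hzero hmin2 hmin hshift hex hne hσ₁ hσ₂ hY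
    rw [abs_le] at hc₁ hc₂
    have hB2 : 0 ≤ β n₁ n₂ ^ 2 := sq_nonneg _
    generalize β v n₁ = σ₁ at *
    generalize β v n₂ = σ₂ at *
    generalize β v v = W at *
    generalize β n₁ n₁ = A at *
    generalize β n₂ n₂ = Γ at *
    generalize β n₁ n₂ = B at *
    set Δ := A * Γ - B ^ 2 with hΔdef
    set Y := σ₂ * A - σ₁ * B with hYdef
    have E1 : Δ * (A * W - σ₁ ^ 2) = Y ^ 2 := by
      have : Δ * (A * W) = A * (Δ * W) := by ring
      rw [mul_sub, this, hF, hYdef, hΔdef]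
      ring
    have q1 : 4 * σ₁ ^ 2 ≤ A ^ 2 := by nlinarith
    have q2 : 4 * Y ^ 2 ≤ Δ ^ 2 := by nlinarith
    by_cases hY0 : Y = 0
    · apply hzv
      rw [hY0] at E1
      have e2 : A * W - σ₁ ^ 2 = 0 := by
        have E1' : Δ * (A * W - σ₁ ^ 2) = 0 := by rw [E1]; ring
        rcases mul_eq_zero.1 E1' with e | e
        · exact absurd e hΔ'
        · exact e
      nlinarith
    · exfalso
      have hYpos : 0 < Y ^ 2 := by positivity
      have e2 : 0 < A * W - σ₁ ^ 2 := by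
        by_contra hc
        push Not at hc
        nlinarith
      have e3 := hmv e2
      have e4 : Δ * (4 * (A * W - σ₁ ^ 2)) ≤ Δ * Δ := by nlinarith
      have e5 : 4 * (A * W - σ₁ ^ 2) ≤ Δ := le_of_mul_le_mul_left e4 hΔ
      have e6 : A * (4 * W) ≤ A * (A + Γ) := by nlinarith
      have e7 : 4 * W ≤ A + Γ := le_of_mul_le_mul_left e6 hA
      linarith
  · left
    refine ⟨n₁, hA, ?_⟩
    intro m
    obtain ⟨c, hc⟩ := exists_round (β m n₁) _ hA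
    refine ⟨c, ?_⟩
    apply hzero
    rw [expand1 h]
    push Not at hex
    have h1 := hex m
    rw [h.symm n₁ m] at h1
    rw [abs_le] at hc
    have hA' := hA
    generalize β n₁ n₁ = A at *
    generalize β m n₁ = s at *
    generalize β m m = w at *
    by_contra hcon
    push Not at hcon
    have h2 : 4 * (s - c * A) ^ 2 ≤ A ^ 2 := by nlinarith
    have h3 : A * (w - 2 * c * s + c ^ 2 * A) ≤ (s - c * A) ^ 2 := by nlinarith
    nlinarith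

end Cfsg.Agent.Lib.Helper82Lattice
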