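import Mathlib
import Cfsg.Agent.Lib.Helper84Ramanujan

set_option autoImplicit false

/-!
`φ(p^k) ≤ ∑_{t unit mod p^k} ‖∑ c_i η_i^t‖²` whenever `∑ c_i η_i ≠ 0`
(`η_i` roots of unity of order dividing `p^k`, `c_i` integers).
-/

namespace Cfsg.Agent.Lib.Helper82Ramanujan

open Cfsg.Agent.Lib.Helper84Ramanujan
open scoped ComplexConjugate

theorem int_ineq1 {ι : Type*} [DecidableEq ι] (F : Finset ι) (y : ι → ℤ) (p : ℕ)
    (hsupp : (F.filter (fun i => y i ≠ 0)).card + 1 ≤ p) (hne : ∃ i ∈ F, y i ≠ 0) :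
    (p : ℤ) - 1 ≤ p * ∑ i ∈ F, y i ^ 2 - (∑ i ∈ F, y i) ^ 2 := by
  set S := F.filter (fun i => y i ≠ 0) with hS
  have e1 : ∑ i ∈ F, y i = ∑ i ∈ S, y i := by
    rw [hS, Finset.sum_filter]
    apply Finset.sum_congr rfl
    intro i _
    by_cases h : y i = 0 <;> simp [h]
  have e2 : ∑ i ∈ F, y i ^ 2 = ∑ i ∈ S, y i ^ 2 := by
    rw [hS, Finset.sum_filter]
    apply Finset.sum_congr rfl
    intro i _
    by_cases h : y i = 0 <;> simp [h]
  have h1 : (1 : ℤ) ≤ S.card := by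
    obtain ⟨i, hi, hy⟩ := hne
    have : 0 < S.card := Finset.card_pos.2 ⟨i, Finset.mem_filter.2 ⟨hi, hy⟩⟩
    exact_mod_cast this
  have h2 : (S.card : ℤ) + 1 ≤ p := by exact_mod_cast hsupp
  have h3 : (S.card : ℤ) ≤ ∑ i ∈ S, y i ^ 2 := by
    have := Finset.card_nsmul_le_sum S (fun i => y i ^ 2) 1 (by
      intro i hi
      have : y i ≠ 0 := (Finset.mem_filter.1 hi).2
      have : 0 < y i ^ 2 := by positivity
      linarith)
    simpa using this
  have h4 := sq_sum_le_card_mul_sum_sq (s := S) (f := y)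
  rw [e1, e2]
  set T := ∑ i ∈ S, y i ^ 2
  set m : ℤ := (S.card : ℤ)
  nlinarith [mul_nonneg (sub_nonneg.2 h1) (by linarith : (0 : ℤ) ≤ (p : ℤ) - m - 1),
    mul_nonneg (by linarith : (0 : ℤ) ≤ (p : ℤ) - m) (sub_nonneg.2 h3)]

theorem sum_roots_eq_zero (p : ℕ) (hp : p.Prime) (v : ℂ) (F : Finset ℂ)
    (hF : ∀ w ∈ F, w ^ p = v) (hcard : F.card = p) : ∑ w ∈ F, w = 0 := by
  classical
  have hFN : F = Polynomial.nthRootsFinset p v := by
    apply Finset.eq_of_subset_of_card_le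
    · intro w hw
      rw [Polynomial.mem_nthRootsFinset hp.pos]
      exact hF w hw
    · rw [hcard]
      exact (Multiset.toFinset_card_le _).trans (Polynomial.card_nthRoots p v)
  have hε := Complex.isPrimitiveRoot_exp p hp.ne_zero
  set ε := Complex.exp (2 * Real.pi * Complex.I / p) with hεdef
  have hε1 : ε ≠ 1 := hε.ne_one hp.one_lt
  have hε0 : ε ≠ 0 := hε.ne_zero hp.ne_zero
  have hεp : ε ^ p = 1 := hε.pow_eq_one
  have h1 : ∑ w ∈ F, w = ∑ w ∈ F, ε * w := by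
    apply Finset.sum_bij (fun w _ => ε⁻¹ * w)
    · intro w hw
      rw [hFN, Polynomial.mem_nthRootsFinset hp.pos, mul_pow, inv_pow, hεp, hF w hw]
      simp
    · intro a _ b _ hab
      exact mul_left_cancel₀ (inv_ne_zero hε0) hab
    · intro w hw
      refine ⟨ε * w, ?_, ?_⟩
      · rw [hFN, Polynomial.mem_nthRootsFinset hp.pos, mul_pow, hεp, hF w hw, one_mul]
      · rw [inv_mul_cancel_left₀ hε0]
    · intro w _
      rw [mul_inv_cancel_left₀ hε0]
  rw [← Finset.mul_sum] at h1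
  have h2 : (1 - ε) * ∑ w ∈ F, w = 0 := by linear_combination h1
  rcases mul_eq_zero.1 h2 with h | h
  · exact absurd (sub_eq_zero.1 h).symm hε1
  · exact h

theorem fibre_zero (p : ℕ) (hp : p.Prime) (v : ℂ) (F : Finset ℂ) (C : ℂ → ℤ)
    (hF : ∀ w ∈ F, w ^ p = v) (hcard : F.card ≤ p)
    (hlt : p * ∑ w ∈ F, C w ^ 2 - (∑ w ∈ F, C w) ^ 2 < (p : ℤ) - 1) :
    ∑ w ∈ F, (C w : ℂ) * w = 0 := by
  classical
  rcases lt_or_eq_of_le hcard with hc | hc
  · have h0 : ∀ w ∈ F, C w = 0 := by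
      by_contra hcon
      push Not at hcon
      have := int_ineq1 F C p ((Nat.succ_le_of_lt
        (lt_of_le_of_lt (Finset.card_filter_le _ _) hc))) hcon
      linarith
    apply Finset.sum_eq_zero
    intro w hw
    rw [h0 w hw]; simp
  · obtain ⟨w₀, hw₀⟩ : F.Nonempty := Finset.card_pos.1 (by rw [hc]; exact hp.pos)
    set Y : ℂ → ℤ := fun w => C w - C w₀ with hY
    have e1 : ∑ w ∈ F, Y w = ∑ w ∈ F, C w - p * C w₀ := by
      rw [hY, Finset.sum_sub_distrib, Finset.sum_const, hc, nsmul_eq_mul]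
    have e2 : ∑ w ∈ F, Y w ^ 2 = ∑ w ∈ F, C w ^ 2 - 2 * C w₀ * ∑ w ∈ F, C w + p * C w₀ ^ 2 := by
      have : ∀ w ∈ F, Y w ^ 2 = C w ^ 2 - 2 * C w₀ * C w + C w₀ ^ 2 := fun w _ => by
        rw [hY]; ring
      rw [Finset.sum_congr rfl this, Finset.sum_add_distrib, Finset.sum_sub_distrib,
        Finset.sum_const, hc, nsmul_eq_mul, ← Finset.mul_sum]
    have h0 : ∀ w ∈ F, Y w = 0 := by
      by_contra hcon
      push Not at hcon
      have hs : (F.filter (fun w => Y w ≠ 0)).card + 1 ≤ p := by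
        have : F.filter (fun w => Y w ≠ 0) ⊆ F.erase w₀ := by
          intro w hw
          rw [Finset.mem_filter] at hw
          rw [Finset.mem_erase]
          refine ⟨?_, hw.1⟩
          rintro rfl
          exact hw.2 (by rw [hY]; simp)
        have h2 := Finset.card_le_card this
        rw [Finset.card_erase_of_mem hw₀, hc] at h2
        have := hp.pos
        omega
      have := int_ineq1 F Y p hs hcon
      rw [e1, e2] at this
      nlinarith
    have h1 : ∀ w ∈ F, (C w : ℂ) * w = (C w₀ : ℂ) * w := by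
      intro w hw
      have := h0 w hw
      rw [hY] at this
      have : C w = C w₀ := by simpa [sub_eq_zero] using this
      rw [this]
    rw [Finset.sum_congr rfl h1, ← Finset.mul_sum, sum_roots_eq_zero p hp v F hF hc, mul_zero]

/-- the key integer inequality, nonvanishing version. -/
theorem key_ineq' (p : ℕ) (hp : p.Prime) (W : Finset ℂ) (C : ℂ → ℤ)
    (hc : ∑ w ∈ W, (C w : ℂ) * w ≠ 0) :
    (p : ℤ) - 1 ≤ p * (∑ w ∈ W, ∑ w' ∈ W, (if w = w' then C w * C w' else 0))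
      - ∑ w ∈ W, ∑ w' ∈ W, (if w ^ p = w' ^ p then C w * C w' else 0) := by
  classical
  have e1 : ∑ w ∈ W, ∑ w' ∈ W, (if w = w' then C w * C w' else 0) = ∑ w ∈ W, C w ^ 2 := by
    apply Finset.sum_congr rfl
    intro w hw
    rw [Finset.sum_ite_eq, if_pos hw, sq]
  rw [e1, sum_group W C (fun w => w ^ p),
    ← Finset.sum_fiberwise_of_maps_to (g := fun w : ℂ => w ^ p) (t := W.image (fun w => w ^ p))
      (fun i hi => Finset.mem_image_of_mem _ hi) (fun w => C w ^ 2),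
    Finset.mul_sum, ← Finset.sum_sub_distrib]
  have hcard : ∀ v : ℂ, (W.filter (fun w => w ^ p = v)).card ≤ p := by
    intro v
    calc (W.filter (fun w => w ^ p = v)).card ≤ (Polynomial.nthRootsFinset p v).card := by
          apply Finset.card_le_card
          intro w hw
          rw [Polynomial.mem_nthRootsFinset hp.pos]
          exact (Finset.mem_filter.1 hw).2
      _ ≤ Multiset.card (Polynomial.nthRoots p v) := Multiset.toFinset_card_le _
      _ ≤ p := Polynomial.card_nthRoots p v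
  obtain ⟨v, hv, hvs⟩ : ∃ v ∈ W.image (fun w => w ^ p),
      (p : ℤ) - 1 ≤ p * ∑ w ∈ W with w ^ p = v, C w ^ 2 - (∑ w ∈ W with w ^ p = v, C w) ^ 2 := by
    by_contra hcon
    push Not at hcon
    apply hc
    rw [← Finset.sum_fiberwise_of_maps_to (g := fun w : ℂ => w ^ p)
      (t := W.image (fun w => w ^ p)) (fun i hi => Finset.mem_image_of_mem _ hi)]
    apply Finset.sum_eq_zero
    intro v hv
    exact fibre_zero p hp v _ C (fun w hw => (Finset.mem_filter.1 hw).2) (hcard v) (hcon v hv)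
  calc (p : ℤ) - 1 ≤ p * ∑ w ∈ W with w ^ p = v, C w ^ 2 - (∑ w ∈ W with w ^ p = v, C w) ^ 2 := hvs
    _ ≤ _ := Finset.single_le_sum
        (f := fun v => (p : ℤ) * ∑ w ∈ W with w ^ p = v, C w ^ 2
          - (∑ w ∈ W with w ^ p = v, C w) ^ 2)
        (fun v _ => int_ineq0 _ _ p (hcard v)) hv

/-- version with a set of distinct roots of unity. -/
theorem totient_le_aux' (p : ℕ) (hp : p.Prime) (k : ℕ) (W : Finset ℂ) (C : ℂ → ℤ)
    (hW : ∀ w ∈ W, w ^ (p ^ k) = 1) (hc : ∑ w ∈ W, (C w : ℂ) * w ≠ 0) :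
    ((p ^ k).totient : ℝ) ≤ ∑ t ∈ (Finset.range (p ^ k)).filter (fun t => t.Coprime (p ^ k)),
      ‖∑ w ∈ W, (C w : ℂ) * w ^ t‖ ^ 2 := by
  classical
  rcases k with _ | k
  · have h1 : (Finset.range (p ^ 0)).filter (fun t => t.Coprime (p ^ 0)) = {0} := by
      ext t; simp
    rw [h1, Finset.sum_singleton]
    simp only [pow_zero, mul_one, Nat.totient_one, Nat.cast_one]
    have h2 : (∑ w ∈ W, (C w : ℂ)) = ((∑ w ∈ W, C w : ℤ) : ℂ) := by push_cast; rfl
    have h0 : ∑ w ∈ W, (C w : ℂ) * w = ∑ w ∈ W, (C w : ℂ) := by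
      apply Finset.sum_congr rfl
      intro w hw
      have := hW w hw
      rw [pow_zero, pow_one] at this
      rw [this, mul_one]
    rw [h0, h2] at hc
    rw [h2, Complex.norm_intCast]
    have h3 : (∑ w ∈ W, C w) ≠ 0 := fun h => hc (by rw [h]; simp)
    have h4 : (1 : ℤ) ≤ |∑ w ∈ W, C w| := Int.one_le_abs h3
    have h5 : (1 : ℝ) ≤ |((∑ w ∈ W, C w : ℤ) : ℝ)| := by exact_mod_cast h4
    nlinarith
  · have hn : p ^ (k + 1) ≠ 0 := pow_ne_zero _ hp.ne_zero
    have hn' : p ^ k ≠ 0 := pow_ne_zero _ hp.ne_zero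
    have A := sum_mul_conj W C (fun w => w) (p ^ (k + 1)) hn hW
    have hW' : ∀ w ∈ W, (w ^ p) ^ (p ^ k) = 1 := by
      intro w hw
      rw [← pow_mul, ← pow_succ']
      exact hW w hw
    have A' := sum_mul_conj W C (fun w => w ^ p) (p ^ k) hn' hW'
    have K := key_ineq' p hp W C hc
    set Q1 := ∑ w ∈ W, ∑ w' ∈ W, (if w = w' then C w * C w' else 0) with hQ1
    set Q2 := ∑ w ∈ W, ∑ w' ∈ W, (if w ^ p = w' ^ p then C w * C w' else 0) with hQ2
    have E : ((∑ t ∈ (Finset.range (p ^ (k + 1))).filter (fun t => t.Coprime (p ^ (k + 1))),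
        ‖∑ w ∈ W, (C w : ℂ) * w ^ t‖ ^ 2 : ℝ) : ℂ)
        = (((p ^ k : ℕ) : ℤ) * (p * Q1 - Q2) : ℤ) := by
      push_cast
      have e0 : ∀ t : ℕ, ((‖∑ w ∈ W, (C w : ℂ) * w ^ t‖ : ℝ) : ℂ) ^ 2
          = (∑ w ∈ W, (C w : ℂ) * w ^ t) * conj (∑ w ∈ W, (C w : ℂ) * w ^ t) := by
        intro t; rw [Complex.mul_conj']
      simp only [e0]
      rw [sum_units_split p hp k
        (fun t => (∑ w ∈ W, (C w : ℂ) * w ^ t) * conj (∑ w ∈ W, (C w : ℂ) * w ^ t)), A]
      have e1 : ∀ t : ℕ, (∑ w ∈ W, (C w : ℂ) * w ^ (p * t)) * conj (∑ w ∈ W, (C w : ℂ) * w ^ (p * t))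
          = (∑ w ∈ W, (C w : ℂ) * (w ^ p) ^ t) * conj (∑ w ∈ W, (C w : ℂ) * (w ^ p) ^ t) := by
        intro t
        simp only [pow_mul]
      simp only [e1]
      rw [A']
      push_cast
      ring
    have E' : (∑ t ∈ (Finset.range (p ^ (k + 1))).filter (fun t => t.Coprime (p ^ (k + 1))),
        ‖∑ w ∈ W, (C w : ℂ) * w ^ t‖ ^ 2 : ℝ) = ((((p ^ k : ℕ) : ℤ) * (p * Q1 - Q2) : ℤ) : ℝ) := by
      apply Complex.ofReal_injective
      rw [E]
      simp
    rw [E', Nat.totient_prime_pow_succ hp]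
    have h1 : ((p ^ k * (p - 1) : ℕ) : ℤ) ≤ ((p ^ k : ℕ) : ℤ) * (p * Q1 - Q2) := by
      have : ((p - 1 : ℕ) : ℤ) = (p : ℤ) - 1 := by
        rw [Nat.cast_sub hp.one_le]; simp
      rw [Nat.cast_mul, this]
      apply mul_le_mul_of_nonneg_left K
      positivity
    exact_mod_cast h1

/-- **Main inequality, nonvanishing version.** -/
theorem totient_le_of_ne_zero {ι : Type*} (p : ℕ) (hp : p.Prime) (k : ℕ) (s : Finset ι)
    (c : ι → ℤ) (η : ι → ℂ) (hη : ∀ i ∈ s, η i ^ (p ^ k) = 1)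
    (hc : ∑ i ∈ s, (c i : ℂ) * η i ≠ 0) :
    ((p ^ k).totient : ℝ) ≤ ∑ t ∈ (Finset.range (p ^ k)).filter (fun t => t.Coprime (p ^ k)),
      ‖∑ i ∈ s, (c i : ℂ) * η i ^ t‖ ^ 2 := by
  classical
  set W := s.image η with hW
  set C : ℂ → ℤ := fun w => ∑ i ∈ s with η i = w, c i with hC
  have h1 : ∀ w ∈ W, w ^ (p ^ k) = 1 := by
    intro w hw
    obtain ⟨i, hi, rfl⟩ := Finset.mem_image.1 hw
    exact hη i hi
  have h3 : ∀ t : ℕ, ∑ i ∈ s, (c i : ℂ) * η i ^ t = ∑ w ∈ W, (C w : ℂ) * w ^ t := by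
    intro t
    rw [← Finset.sum_fiberwise_of_maps_to (g := η) (t := W)
      (fun i hi => Finset.mem_image_of_mem η hi)]
    apply Finset.sum_congr rfl
    intro w _
    rw [hC]
    push_cast
    rw [Finset.sum_mul]
    apply Finset.sum_congr rfl
    intro i hi
    rw [(Finset.mem_filter.1 hi).2]
  simp only [h3]
  apply totient_le_aux' p hp k W C h1
  have := h3 1
  simp only [pow_one] at this
  rw [← this]
  exact hc

end Cfsg.Agent.Lib.Helper82Ramanujan
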