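import Mathlib
import Cfsg.Prelude.Def_Blocks
import Cfsg.Prelude.Def_BlockRank
import Cfsg.Agent.Lib.Helper84Subsec2
import Cfsg.Agent.Lib.Helper82Lattice
import Cfsg.Agent.Lib.Helper82Ramanujan
import Cfsg.Agent.Lib.Helper79Teich
import Cfsg.Agent.Lib.Helper21FR
import Cfsg.Agent.Lib.Helper20Height
import Cfsg.Agent.Lib.Helper20DefCard
import Cfsg.Agent.Lib.Helper81Subsec3

set_option autoImplicit false
set_option linter.unusedSectionVars false

/-!
Major subsections `(z, b)`: the integral quadratic form `p^d [ , ]°` on the characters of `b`,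
the numbers `p^d [χ^{(z,b)}, m°]°`, their orthogonality relations and their nonvanishing.
-/

namespace Cfsg.Agent.Lib.Helper82Major

open Cfsg
open Cfsg.Agent.Lib.Helper81Local Cfsg.Agent.Lib.Helper81Base Cfsg.Agent.Lib.Helper81BB
  Cfsg.Agent.Lib.Helper81Block Cfsg.Agent.Lib.Helper81Orth Cfsg.Agent.Lib.Helper81Orth2
  Cfsg.Agent.Lib.Helper81Part Cfsg.Agent.Lib.Helper81Defect Cfsg.Agent.Lib.Helper81Reg
  Cfsg.Agent.Lib.Helper81Subsec Cfsg.Agent.Lib.Helper81Rank
  Cfsg.Agent.Lib.Helper84Subsec Cfsg.Agent.Lib.Helper84Subsec2 Cfsg.Agent.Lib.Helper84Contrib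
  Cfsg.Agent.Lib.Helper82Lattice
open scoped ComplexConjugate

section form

variable {G : Type*} [Group G] [Fintype G] {p : ℕ} [Fact p.Prime] {M : Ideal AlgInt}
variable {H : Subgroup G} [Fintype H]

open Classical in
/-- the integral matrix `p^d [ζ, ξ]°` on `b`. -/
noncomputable def KK (p : ℕ) [Fact p.Prime] (b : Set (IrrCharacter H)) :
    Matrix (IrrCharacter H) (IrrCharacter H) ℤ :=
  fun ζ ξ => if ζ ∈ b ∧ ξ ∈ b then kR p b ζ ξ else 0

open Classical in
/-- the associated bilinear form. -/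
noncomputable def bet (p : ℕ) [Fact p.Prime] (b : Set (IrrCharacter H)) :
    (IrrCharacter H → ℤ) →ₗ[ℤ] (IrrCharacter H → ℤ) →ₗ[ℤ] ℤ := Matrix.toBilin' (KK p b)

open Classical in
/-- the generalized character of `b` with coefficients `m`. -/
noncomputable def FF (b : Set (IrrCharacter H)) (m : IrrCharacter H → ℤ) : H → ℂ :=
  ∑ ξ : IrrCharacter H, (if ξ ∈ b then (m ξ : ℂ) else 0) • (ξ : H → ℂ)

theorem bet_apply (b : Set (IrrCharacter H)) (m n : IrrCharacter H → ℤ) :
    bet p b m n = ∑ ζ, ∑ ξ, m ζ * KK p b ζ ξ * n ξ := by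
  unfold bet
  rw [Matrix.toBilin'_apply]

theorem bet_cast (b : Set (IrrCharacter H)) (m n : IrrCharacter H → ℤ) :
    ((bet p b m n : ℤ) : ℂ) = (p : ℂ) ^ blockDefect p b * regInner p (FF b m) (FF b n) := by
  classical
  rw [bet_apply]
  unfold FF
  rw [regInner_sum_left, Finset.mul_sum]
  push_cast
  apply Finset.sum_congr rfl
  intro ζ _
  rw [regInner_sum_right, Finset.mul_sum]
  apply Finset.sum_congr rfl
  intro ξ _
  rw [regInner_smul_left, regInner_smul_right]
  unfold KK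
  by_cases hζ : ζ ∈ b
  · by_cases hξ : ξ ∈ b
    · simp only [hζ, hξ, and_self, if_true]
      rw [← kR_spec hζ, map_intCast]
      ring
    · simp [hξ]
  · simp [hζ]

theorem KK_symm (b : Set (IrrCharacter H)) (ζ ξ : IrrCharacter H) :
    KK p b ζ ξ = KK p b ξ ζ := by
  classical
  unfold KK
  by_cases hζ : ζ ∈ b
  · by_cases hξ : ξ ∈ b
    · simp only [hζ, hξ, and_self, if_true]
      have : ((kR p b ζ ξ : ℤ) : ℂ) = ((kR p b ξ ζ : ℤ) : ℂ) := by
        rw [← kR_spec hζ, ← kR_spec hξ, regInner_symm]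
      exact_mod_cast this
    · simp [hξ]
  · simp [hζ]

theorem regInner_self (F : H → ℂ) :
    regInner p F F = (((Nat.card H : ℝ)⁻¹ * ∑ y : H, if ¬ p ∣ orderOf y then ‖F y‖ ^ 2 else 0 : ℝ) : ℂ) := by
  unfold regInner
  push_cast
  congr 1
  apply Finset.sum_congr rfl
  intro y _
  split_ifs
  · rfl
  · rw [Complex.mul_conj']; push_cast; rfl

theorem bet_psd (b : Set (IrrCharacter H)) : PSD (bet p b) := by
  constructor
  · intro m n
    rw [bet_apply, bet_apply, Finset.sum_comm]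
    apply Finset.sum_congr rfl
    intro ζ _
    apply Finset.sum_congr rfl
    intro ξ _
    rw [KK_symm]
    ring
  · intro m
    have h1 := bet_cast (p := p) b m m
    rw [regInner_self] at h1
    have h2 : ((bet p b m m : ℤ) : ℝ) = (p : ℝ) ^ blockDefect p b *
        ((Nat.card H : ℝ)⁻¹ * ∑ y : H, if ¬ p ∣ orderOf y then ‖FF b m y‖ ^ 2 else 0) := by
      apply Complex.ofReal_injective
      rw [Complex.ofReal_intCast, h1]
      push_cast
      rfl
    have h3 : (0 : ℝ) ≤ ((bet p b m m : ℤ) : ℝ) := by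
      rw [h2]
      apply mul_nonneg (by positivity)
      apply mul_nonneg (by positivity)
      apply Finset.sum_nonneg
      intro y _
      split_ifs
      · exact le_rfl
      · positivity
    exact_mod_cast h3

theorem pReg_FF_mem (b : Set (IrrCharacter H)) (m : IrrCharacter H → ℤ) :
    pRegularPart p (FF b m) ∈
      Submodule.span ℂ ((fun χ : IrrCharacter H => pRegularPart p (χ : H → ℂ)) '' b) := by
  classical
  have h1 : pRegularPart p (FF b m) = ∑ ξ : IrrCharacter H,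
      (if ξ ∈ b then (m ξ : ℂ) else 0) • pRegularPart p (ξ : H → ℂ) := by
    funext y
    rw [pRegularPart_apply]
    unfold FF
    rw [Finset.sum_apply, Finset.sum_apply]
    by_cases hy : p ∣ orderOf y
    · simp [pRegularPart_apply, hy]
    · simp [pRegularPart_apply, hy]
  rw [h1]
  apply Submodule.sum_mem
  intro ξ _
  split_ifs with h
  · exact Submodule.smul_mem _ _ (Submodule.subset_span ⟨ξ, h, rfl⟩)
  · rw [zero_smul]; exact Submodule.zero_mem _

/-- rank at most two. -/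
theorem bet_rank (b : Set (IrrCharacter H)) (hl : blockRank p b ≤ 2)
    (n₁ n₂ w : IrrCharacter H → ℤ) (h1 : bet p b w n₁ = 0) (h2 : bet p b w n₂ = 0)
    (hΔ : bet p b n₁ n₁ * bet p b n₂ n₂ - bet p b n₁ n₂ ^ 2 ≠ 0) : bet p b w w = 0 := by
  classical
  by_contra hw
  have hp0 : (p : ℂ) ^ blockDefect p b ≠ 0 :=
    pow_ne_zero _ (by exact_mod_cast (Fact.out : p.Prime).ne_zero)
  set S := Submodule.span ℂ ((fun χ : IrrCharacter H => pRegularPart p (χ : H → ℂ)) '' b) with hS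
  set x : Fin 3 → (IrrCharacter H → ℤ) := ![n₁, n₂, w] with hx
  set v : Fin 3 → S := fun i => ⟨pRegularPart p (FF b (x i)), pReg_FF_mem b (x i)⟩ with hv
  have hnl : ¬ LinearIndependent ℂ v := by
    intro hli
    have := hli.fintype_card_le_finrank
    rw [Fintype.card_fin] at this
    have hl' : Module.finrank ℂ S ≤ 2 := hl
    omega
  rw [Fintype.not_linearIndependent_iff] at hnl
  obtain ⟨g, hg, hne⟩ := hnl
  have hg' : ∑ i, g i • pRegularPart p (FF b (x i)) = 0 := by
    have := congrArg (Submodule.subtype S) hg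
    simpa [hv] using this
  have key : ∀ u : IrrCharacter H → ℤ, ∑ i, g i * ((bet p b (x i) u : ℤ) : ℂ) = 0 := by
    intro u
    have h3 : classInner (∑ i, g i • pRegularPart p (FF b (x i))) (FF b u)
        = classInner (0 : H → ℂ) (FF b u) := by rw [hg']
    rw [Cfsg.Agent.Lib.Helper4Char.classInner_sum_left,
      Cfsg.Agent.Lib.Helper4Char.classInner_zero_left] at h3
    have h4 : ∀ i, g i * ((bet p b (x i) u : ℤ) : ℂ) = (p : ℂ) ^ blockDefect p b *
        classInner (g i • pRegularPart p (FF b (x i))) (FF b u) := by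
      intro i
      rw [Cfsg.Agent.Lib.Helper4Char.classInner_smul_left, classInner_pRegularPart, bet_cast]
      ring
    rw [Finset.sum_congr rfl (fun i _ => h4 i), ← Finset.mul_sum, h3, mul_zero]
  have hsym := (bet_psd (p := p) b).symm
  have k1 := key n₁
  have k2 := key n₂
  have k3 := key w
  simp only [Fin.sum_univ_three, hx, Matrix.cons_val_zero, Matrix.cons_val_one,
    Matrix.cons_val_two, Matrix.head_cons, Matrix.tail_cons] at k1 k2 k3
  rw [hsym n₁ w, hsym n₂ w, h1, h2] at k3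
  rw [h1, hsym n₂ n₁] at k1
  rw [h2] at k2
  have g2 : g 2 = 0 := by
    have : g 2 * ((bet p b w w : ℤ) : ℂ) = 0 := by simpa using k3
    rcases mul_eq_zero.1 this with h | h
    · exact h
    · exact absurd (by exact_mod_cast h) hw
  have hΔ' : (((bet p b n₁ n₁ * bet p b n₂ n₂ - bet p b n₁ n₂ ^ 2 : ℤ)) : ℂ) ≠ 0 := by
    exact_mod_cast hΔ
  push_cast at hΔ'
  have g0 : g 0 = 0 := by
    have : g 0 * (((bet p b n₁ n₁ : ℤ) : ℂ) * ((bet p b n₂ n₂ : ℤ) : ℂ)
        - ((bet p b n₁ n₂ : ℤ) : ℂ) ^ 2) = 0 := by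
      simp only [Int.cast_zero, mul_zero, add_zero] at k1 k2
      linear_combination ((bet p b n₂ n₂ : ℤ) : ℂ) * k1 - ((bet p b n₁ n₂ : ℤ) : ℂ) * k2
    rcases mul_eq_zero.1 this with h | h
    · exact h
    · exact absurd h hΔ'
  have g1 : g 1 = 0 := by
    have : g 1 * (((bet p b n₁ n₁ : ℤ) : ℂ) * ((bet p b n₂ n₂ : ℤ) : ℂ)
        - ((bet p b n₁ n₂ : ℤ) : ℂ) ^ 2) = 0 := by
      simp only [Int.cast_zero, mul_zero, add_zero] at k1 k2
      linear_combination ((bet p b n₁ n₁ : ℤ) : ℂ) * k2 - ((bet p b n₁ n₂ : ℤ) : ℂ) * k1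
    rcases mul_eq_zero.1 this with h | h
    · exact h
    · exact absurd h hΔ'
  obtain ⟨i, hi⟩ := hne
  fin_cases i
  · exact hi g0
  · exact hi g1
  · exact hi g2


theorem FF_single (b : Set (IrrCharacter H)) [DecidablePred (· ∈ b)] (ζ : IrrCharacter H) :
    FF b (Pi.single ζ 1) = if ζ ∈ b then (ζ : H → ℂ) else 0 := by
  classical
  unfold FF
  rw [Finset.sum_eq_single ζ]
  · split_ifs <;> simp
  · intro ξ _ hne
    rw [Pi.single_eq_of_ne hne]
    simp
  · intro h; exact absurd (Finset.mem_univ _) h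

theorem bet_single_of_mem {b : Set (IrrCharacter H)} {ζ : IrrCharacter H} (hζ : ζ ∈ b)
    (m : IrrCharacter H → ℤ) :
    ((bet p b (Pi.single ζ 1) m : ℤ) : ℂ)
      = (p : ℂ) ^ blockDefect p b * regInner p (ζ : H → ℂ) (FF b m) := by
  classical
  rw [bet_cast, FF_single, if_pos hζ]

theorem bet_single_of_not_mem {b : Set (IrrCharacter H)} {ζ : IrrCharacter H} (hζ : ζ ∉ b)
    (m : IrrCharacter H → ℤ) : bet p b (Pi.single ζ 1) m = 0 := by
  classical
  have : ((bet p b (Pi.single ζ 1) m : ℤ) : ℂ) = 0 := by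
    rw [bet_cast, FF_single, if_neg hζ]
    unfold regInner
    simp
  exact_mod_cast this

theorem regInner_FF_of_not_mem (hM : IsPModular p M) {b : Set (IrrCharacter H)}
    (hb : IsBlockUnion M b) {ζ : IrrCharacter H} (hζ : ζ ∉ b) (m : IrrCharacter H → ℤ) :
    regInner p (ζ : H → ℂ) (FF b m) = 0 := by
  classical
  unfold FF
  rw [regInner_sum_right]
  apply Finset.sum_eq_zero
  intro ξ _
  rw [regInner_smul_right]
  split_ifs with h
  · rw [regInner_eq_zero hM, mul_zero]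
    intro hs
    exact hζ (hb ξ ζ (sameBlock_symm hs) h)
  · simp

/-- reproducing property of the characters of `b` on the `p`-regular elements. -/
theorem reg_reproduce (hM : IsPModular p M) {b : Set (IrrCharacter H)} [DecidablePred (· ∈ b)]
    (hb : IsBlockUnion M b) (n : IrrCharacter H → ℤ) (F : H → ℂ) :
    regInner p (FF b n) F = ∑ ψ : IrrCharacter H, if ψ ∈ b then
      regInner p (FF b n) (ψ : H → ℂ) * regInner p (ψ : H → ℂ) F else 0 := by
  have h1 := (projOp_isProj hM hb).map_id _ (pReg_FF_mem (p := p) b n)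
  rw [projOp_apply] at h1
  rw [← classInner_pRegularPart, ← h1, Cfsg.Agent.Lib.Helper4Char.classInner_sum_left]
  apply Finset.sum_congr rfl
  intro ψ _
  split_ifs
  · rw [Cfsg.Agent.Lib.Helper4Char.classInner_smul_left, classInner_pRegularPart,
      classInner_pRegularPart]
  · exact Cfsg.Agent.Lib.Helper4Char.classInner_zero_left _

end form

section yy

variable {G : Type*} [Group G] [Fintype G] {p : ℕ} [Fact p.Prime] {M : Ideal AlgInt}
variable {H : Subgroup G} [Fintype H]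

/-- the numbers `p^d [χ^{(z^t, b)}, m°]°`. -/
noncomputable def yy (p : ℕ) [Fact p.Prime] (b : Set (IrrCharacter H)) (z : H) (t : ℕ)
    (χ : IrrCharacter G) (m : IrrCharacter H → ℤ) : ℂ :=
  ∑ ζ : IrrCharacter H, (((nA χ ζ : ℤ) * bet p b (Pi.single ζ 1) m : ℤ) : ℂ) *
    lam (ζ : H → ℂ) z ^ t

theorem yy_eq_fp (b : Set (IrrCharacter H)) {z : H} (hz : ∀ h : H, h * z = z * h) (t : ℕ)
    (χ : IrrCharacter G) (m : IrrCharacter H → ℤ) :
    yy p b z t χ m
      = (p : ℂ) ^ blockDefect p b * regInner p (fp b ((z : G) ^ t) (χ : G → ℂ)) (FF b m) := by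
  classical
  have hzt : ∀ h : H, h * z ^ t = z ^ t * h := by
    intro h
    exact ((show Commute h z from hz h).pow_right t)
  have h1 := fp_eq b (χ : G → ℂ) hzt
  rw [Subgroup.coe_pow] at h1
  rw [h1, regInner_sum_left, Finset.mul_sum]
  unfold yy
  apply Finset.sum_congr rfl
  intro ζ _
  rw [regInner_smul_left]
  by_cases hζ : ζ ∈ b
  · rw [if_pos hζ]
    push_cast
    rw [bet_single_of_mem hζ, lam_pow ζ hz, nA_spec]
    ring
  · rw [if_neg hζ, bet_single_of_not_mem hζ]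
    simp

theorem yy_eq_theta (hM : IsPModular p M) {b : Set (IrrCharacter H)} (hb : IsBlockUnion M b)
    {z : H} (hz : ∀ h : H, h * z = z * h) (t : ℕ)
    (χ : IrrCharacter G) (m : IrrCharacter H → ℤ) :
    yy p b z t χ m = (p : ℂ) ^ blockDefect p b *
      regInner p (fun c : H => (χ : G → ℂ) ((z : G) ^ t * (c : G))) (FF b m) := by
  classical
  rw [yy_eq_fp b hz]
  congr 1
  set θ : H → ℂ := fun c : H => (χ : G → ℂ) ((z : G) ^ t * (c : G)) with hθ
  have hcl : IsClassFunction H θ := by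
    intro g h
    rw [hθ]
    simp only
    have hzt : (h : G) * (z : G) ^ t = (z : G) ^ t * (h : G) := by
      have := ((show Commute h z from hz h).pow_right t)
      have := congrArg (Subtype.val) this.eq
      simpa using this
    have e : (z : G) ^ t * ((h * g * h⁻¹ : H) : G) = (h : G) * ((z : G) ^ t * (g : G)) * (h : G)⁻¹ := by
      simp only [Subgroup.coe_mul, Subgroup.coe_inv]
      calc (z : G) ^ t * ((h : G) * (g : G) * (h : G)⁻¹)
          = ((z : G) ^ t * (h : G)) * (g : G) * (h : G)⁻¹ := by group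
        _ = ((h : G) * (z : G) ^ t) * (g : G) * (h : G)⁻¹ := by rw [hzt]
        _ = _ := by group
    rw [e, irr_conj]
  have h1 := Cfsg.Agent.Lib.Helper4Char.classFunction_eq_sum θ hcl
  unfold fp
  rw [blockPart_eq]
  conv_rhs => rw [h1]
  rw [regInner_sum_left, regInner_sum_left]
  apply Finset.sum_congr rfl
  intro ζ _
  rw [regInner_smul_left, regInner_smul_left]
  split_ifs with h
  · rfl
  · rw [regInner_FF_of_not_mem hM hb h]
    simp

theorem yy_add (b : Set (IrrCharacter H)) (z : H) (t : ℕ) (χ : IrrCharacter G)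
    (m n : IrrCharacter H → ℤ) : yy p b z t χ (m + n) = yy p b z t χ m + yy p b z t χ n := by
  unfold yy
  rw [← Finset.sum_add_distrib]
  apply Finset.sum_congr rfl
  intro ζ _
  rw [map_add]
  push_cast
  ring

theorem yy_smul (b : Set (IrrCharacter H)) (z : H) (t : ℕ) (χ : IrrCharacter G)
    (c : ℤ) (m : IrrCharacter H → ℤ) : yy p b z t χ (c • m) = c * yy p b z t χ m := by
  unfold yy
  rw [Finset.mul_sum]
  apply Finset.sum_congr rfl
  intro ζ _
  rw [map_smul, smul_eq_mul]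
  push_cast
  ring

theorem yy_sub (b : Set (IrrCharacter H)) (z : H) (t : ℕ) (χ : IrrCharacter G)
    (m n : IrrCharacter H → ℤ) : yy p b z t χ (m - n) = yy p b z t χ m - yy p b z t χ n := by
  unfold yy
  rw [← Finset.sum_sub_distrib]
  apply Finset.sum_congr rfl
  intro ζ _
  rw [map_sub]
  push_cast
  ring

theorem yy_of_rad (b : Set (IrrCharacter H)) (z : H) (t : ℕ) (χ : IrrCharacter G)
    {w : IrrCharacter H → ℤ} (hw : bet p b w w = 0) : yy p b z t χ w = 0 := by
  unfold yy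
  apply Finset.sum_eq_zero
  intro ζ _
  rw [(bet_psd (p := p) b).symm, (bet_psd (p := p) b).rad hw]
  simp


theorem sum_regInner_mul_conj {K : Type*} [Group K] [Fintype K] {I : Type*} (s : Finset I)
    (f : I → K → ℂ) (F F' : K → ℂ) :
    ∑ i ∈ s, regInner p (f i) F * conj (regInner p (f i) F')
      = (Nat.card K : ℂ)⁻¹ * (Nat.card K : ℂ)⁻¹ *
        ∑ y : K, ∑ y' : K, (if ¬ p ∣ orderOf y then (if ¬ p ∣ orderOf y' then
          (∑ i ∈ s, f i y * conj (f i y')) * (conj (F y) * F' y') else 0) else 0) := by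
  have e1 : ∀ i ∈ s, regInner p (f i) F * conj (regInner p (f i) F')
      = (Nat.card K : ℂ)⁻¹ * (Nat.card K : ℂ)⁻¹ *
        ∑ y : K, ∑ y' : K, (if ¬ p ∣ orderOf y then (if ¬ p ∣ orderOf y' then
          (f i y * conj (f i y')) * (conj (F y) * F' y') else 0) else 0) := by
    intro i _
    unfold regInner
    rw [map_mul, map_inv₀, map_natCast, map_sum, mul_mul_mul_comm, Finset.sum_mul_sum]
    congr 1
    apply Finset.sum_congr rfl
    intro y _
    apply Finset.sum_congr rfl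
    intro y' _
    split_ifs
    · simp
    · simp
    · simp
    · rw [map_mul, Complex.conj_conj]; ring
  rw [Finset.sum_congr rfl e1, ← Finset.mul_sum, Finset.sum_comm]
  congr 1
  apply Finset.sum_congr rfl
  intro y _
  rw [Finset.sum_comm]
  apply Finset.sum_congr rfl
  intro y' _
  split_ifs
  · simp
  · simp
  · rw [Finset.sum_mul]

theorem sum_reg_fp0 (hM : IsPModular p M) (x : G) (hx : ∃ k : ℕ, orderOf x = p ^ k)
    [Fintype (Subgroup.centralizer ({x} : Set G))]
    {𝔟 : Set (IrrCharacter (Subgroup.centralizer ({x} : Set G)))} [DecidablePred (· ∈ 𝔟)]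
    (h𝔟 : IsBlockUnion M 𝔟) (F F' : Subgroup.centralizer ({x} : Set G) → ℂ) :
    ∑ χ : IrrCharacter G, regInner p (fp 𝔟 x (χ : G → ℂ)) F *
        conj (regInner p (fp 𝔟 x (χ : G → ℂ)) F')
      = ∑ ψ : IrrCharacter (Subgroup.centralizer ({x} : Set G)), if ψ ∈ 𝔟 then
        regInner p (ψ : Subgroup.centralizer ({x} : Set G) → ℂ) F *
          conj (regInner p (ψ : Subgroup.centralizer ({x} : Set G) → ℂ) F') else 0 := by
  classical
  have hcen : ∀ g : Subgroup.centralizer ({x} : Set G),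
      g * ⟨x, Subgroup.mem_centralizer_singleton_iff.mpr rfl⟩
        = ⟨x, Subgroup.mem_centralizer_singleton_iff.mpr rfl⟩ * g := by
    intro g
    have := g.2
    rw [Subgroup.mem_centralizer_singleton_iff] at this
    exact Subtype.ext this
  rw [← Finset.sum_filter, sum_regInner_mul_conj, sum_regInner_mul_conj]
  congr 1
  apply Finset.sum_congr rfl
  intro y _
  apply Finset.sum_congr rfl
  intro y' _
  by_cases hy : p ∣ orderOf y
  · simp [hy]
  · by_cases hy' : p ∣ orderOf y'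
    · simp [hy']
    · simp only [hy, hy', not_false_eq_true, if_true]
      congr 1
      have := Cfsg.Agent.Lib.Helper81Subsec3.two_sided hM x hx h𝔟 y y' hy hy'
      unfold fp
      rw [this, Finset.sum_filter]
      apply Finset.sum_congr rfl
      intro ψ _
      rw [Cfsg.Agent.Lib.Helper81DefOne2.central_mul_conj ψ hcen]

theorem sum_reg_fp (hM : IsPModular p M) (u : G) (hu : ∃ k : ℕ, orderOf u = p ^ k)
    (H : Subgroup G) [Fintype H] (hH : H = Subgroup.centralizer ({u} : Set G))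
    {𝔟 : Set (IrrCharacter H)} [DecidablePred (· ∈ 𝔟)]
    (h𝔟 : IsBlockUnion M 𝔟) (F F' : H → ℂ) :
    ∑ χ : IrrCharacter G, regInner p (fp 𝔟 u (χ : G → ℂ)) F *
        conj (regInner p (fp 𝔟 u (χ : G → ℂ)) F')
      = ∑ ψ : IrrCharacter H, if ψ ∈ 𝔟 then
        regInner p (ψ : H → ℂ) F * conj (regInner p (ψ : H → ℂ) F') else 0 := by
  subst hH
  exact sum_reg_fp0 hM u hu h𝔟 F F'

/-- **Orthogonality relation** for the numbers `yy`. -/
theorem sum_yy_mul_conj (hM : IsPModular p M) {b : Set (IrrCharacter H)}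
    (hb : IsBlockUnion M b) {z : H} (hz : ∀ h : H, h * z = z * h) (t : ℕ)
    (hu : ∃ k : ℕ, orderOf ((z : G) ^ t) = p ^ k)
    (hH : H = Subgroup.centralizer ({(z : G) ^ t} : Set G)) (m n : IrrCharacter H → ℤ) :
    ∑ χ : IrrCharacter G, yy p b z t χ m * conj (yy p b z t χ n)
      = (p : ℂ) ^ blockDefect p b * ((bet p b m n : ℤ) : ℂ) := by
  classical
  have e1 : ∀ χ : IrrCharacter G, yy p b z t χ m * conj (yy p b z t χ n)
      = ((p : ℂ) ^ blockDefect p b * (p : ℂ) ^ blockDefect p b) *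
        (regInner p (fp b ((z : G) ^ t) (χ : G → ℂ)) (FF b m) *
          conj (regInner p (fp b ((z : G) ^ t) (χ : G → ℂ)) (FF b n))) := by
    intro χ
    rw [yy_eq_fp b hz, yy_eq_fp b hz, map_mul, map_pow, map_natCast]
    ring
  rw [Finset.sum_congr rfl (fun χ _ => e1 χ), ← Finset.mul_sum,
    sum_reg_fp hM _ hu H hH hb, (bet_psd (p := p) b).symm, bet_cast, reg_reproduce hM hb, mul_assoc]
  congr 2
  apply Finset.sum_congr rfl
  intro ψ _
  split_ifs
  · rw [regInner_conj_symm, mul_comm]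
  · rfl

end yy

section nonvanishing

variable {G : Type*} [Group G] [Fintype G] {p : ℕ} [Fact p.Prime] {M : Ideal AlgInt}
variable {H : Subgroup G} [Fintype H]

open Classical in
/-- the class function of `H` supported on `z H_{p'}` given by the conjugate of `FF b m`. -/
noncomputable def aa (p : ℕ) (b : Set (IrrCharacter H)) (z : H) (m : IrrCharacter H → ℤ) : H → ℂ :=
  fun c => if ¬ p ∣ orderOf (z⁻¹ * c) then conj (FF b m (z⁻¹ * c)) else 0

theorem FF_classfn (b : Set (IrrCharacter H)) (m : IrrCharacter H → ℤ) :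
    IsClassFunction H (FF b m) := by
  intro g h
  unfold FF
  rw [Finset.sum_apply, Finset.sum_apply]
  apply Finset.sum_congr rfl
  intro ξ _
  simp only [Pi.smul_apply, irr_conj]

theorem aa_classfn (b : Set (IrrCharacter H)) {z : H} (hz : ∀ h : H, h * z = z * h)
    (m : IrrCharacter H → ℤ) : IsClassFunction H (aa p b z m) := by
  intro g h
  have e : z⁻¹ * (h * g * h⁻¹) = h * (z⁻¹ * g) * h⁻¹ := by
    have h1 : z⁻¹ * h = h * z⁻¹ := by
      have := hz h
      calc z⁻¹ * h = z⁻¹ * (h * z) * z⁻¹ := by group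
        _ = z⁻¹ * (z * h) * z⁻¹ := by rw [this]
        _ = h * z⁻¹ := by group
    calc z⁻¹ * (h * g * h⁻¹) = (z⁻¹ * h) * g * h⁻¹ := by group
      _ = (h * z⁻¹) * g * h⁻¹ := by rw [h1]
      _ = _ := by group
  have ho : orderOf (h * (z⁻¹ * g) * h⁻¹) = orderOf (z⁻¹ * g) := (MulAut.conj h).orderOf_eq _
  unfold aa
  rw [e, ho, FF_classfn b m]

theorem aa_local [M.IsPrime] (b : Set (IrrCharacter H)) (z : H) (m : IrrCharacter H → ℤ) (c : H) :
    MemLocalRing M (aa p b z m c) := by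
  classical
  unfold aa
  split_ifs
  · exact MemLocalIdeal.memLocalRing memLocalIdeal_zero
  · unfold FF
    rw [Finset.sum_apply, map_sum]
    apply memLocalRing_sum
    intro ξ _
    simp only [Pi.smul_apply, smul_eq_mul, map_mul]
    apply memLocalRing_mul
    · split_ifs
      · rw [map_intCast]; exact memLocalRing_intCast _
      · rw [map_zero]; exact MemLocalIdeal.memLocalRing memLocalIdeal_zero
    · rw [← irr_inv]
      exact memLocalRing_of_isIntegral (irr_integral ξ _)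

theorem sum_mul_aa (b : Set (IrrCharacter H)) (z : H) (m : IrrCharacter H → ℤ) (χ : G → ℂ) :
    ∑ h : H, χ h * aa p b z m h = (Nat.card H : ℂ) *
      regInner p (fun c : H => χ ((z : G) * (c : G))) (FF b m) := by
  have hH : (Nat.card H : ℂ) ≠ 0 := Cfsg.Agent.Lib.Helper81Base.card_ne_zero
  unfold regInner
  rw [mul_inv_cancel_left₀ hH]
  symm
  apply Fintype.sum_equiv (Equiv.mulLeft z)
  intro s
  simp only [Equiv.coe_mulLeft, Subgroup.coe_mul]
  unfold aa
  rw [inv_mul_cancel_left]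
  split_ifs <;> simp

/-- the numbers `yy` in terms of central characters. -/
theorem yy_eq_om (hM : IsPModular p M) {b : Set (IrrCharacter H)} (hb : IsBlockUnion M b)
    {z : H} (hz : ∀ h : H, h * z = z * h) (χ : IrrCharacter G) (m : IrrCharacter H → ℤ) :
    yy p b z 1 χ m = ((p : ℂ) ^ blockDefect p b * (χ : G → ℂ) 1 / (Nat.card G : ℂ)) *
      om (indFun H (aa p b z m)) χ := by
  have hH : (Nat.card H : ℂ) ≠ 0 := Cfsg.Agent.Lib.Helper81Base.card_ne_zero
  have hG : (Nat.card G : ℂ) ≠ 0 := Cfsg.Agent.Lib.Helper81Base.card_ne_zero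
  have h1 := irr_one_ne_zero χ
  rw [yy_eq_theta hM hb hz]
  simp only [pow_one]
  have h2 := Cfsg.Agent.Lib.Helper20IndBlock.sum_mul_indFun H
    (a := (χ : G → ℂ)) (fun g h => irr_conj χ g h) (aa p b z m)
  rw [sum_mul_aa] at h2
  unfold om
  rw [← Finset.sum_div]
  have h3 : ∑ g : G, indFun H (aa p b z m) g * (χ : G → ℂ) g
      = ∑ g : G, (χ : G → ℂ) g * indFun H (aa p b z m) g :=
    Finset.sum_congr rfl (fun g _ => mul_comm _ _)
  rw [h3, h2]
  field_simp

/-- if `yy` is a unit for one character of height zero, it does not vanish on the whole block. -/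
theorem yy_ne_zero (hM : IsPModular p M) {b : Set (IrrCharacter H)} (hb : IsBlockUnion M b)
    {B : Set (IrrCharacter G)} (hB : IsPBlock M B) (hd : blockDefect p b = blockDefect p B)
    {z : H} (hz : ∀ h : H, h * z = z * h) {ψ₀ χ : IrrCharacter G} (hψ₀ : ψ₀ ∈ B)
    (hχ : χ ∈ B) (m : IrrCharacter H → ℤ)
    (hy : ¬ MemLocalIdeal M (yy p b z 1 ψ₀ m)) : yy p b z 1 χ m ≠ 0 := by
  have hMp := hM.2.1.isPrime
  have hp : p.Prime := Fact.out
  have hG : (Nat.card G : ℂ) ≠ 0 := Cfsg.Agent.Lib.Helper81Base.card_ne_zero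
  have hcl := Cfsg.Agent.Lib.Helper19Ind.indFun_isClassFunction H (aa p b z m)
  have hloc := Cfsg.Agent.Lib.Helper21FR.indFun_local (M := M) (aa_classfn (p := p) b hz m)
    (aa_local b z m)
  have hc0 : MemLocalRing M ((p : ℂ) ^ blockDefect p b * (ψ₀ : G → ℂ) 1 / (Nat.card G : ℂ)) := by
    have := Cfsg.Agent.Lib.Helper20Height.natCast_div_memRing hM
      (A := p ^ blockDefect p b * charDegree (ψ₀ : G → ℂ)) (N := Nat.card G)
      (Nat.mul_ne_zero (pow_ne_zero _ hp.ne_zero) (charDegree_pos ψ₀).ne') Nat.card_pos.ne' (by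
        rw [Nat.factorization_mul (pow_ne_zero _ hp.ne_zero) (charDegree_pos ψ₀).ne',
          hp.factorization_pow]
        simp only [Finsupp.coe_add, Pi.add_apply, Finsupp.single_eq_same]
        rw [hd, blockDefect_def]
        have := minVal_le (p := p) hψ₀
        have := minVal_le_card (p := p) ⟨ψ₀, hψ₀⟩
        omega)
    rw [Nat.cast_mul, Nat.cast_pow, charDegree_eq] at this
    exact this
  have h1 : ¬ MemLocalIdeal M (om (indFun H (aa p b z m)) ψ₀) := by
    intro h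
    apply hy
    rw [yy_eq_om hM hb hz]
    exact memLocalIdeal_mul hc0 h
  have h2 := om_congr hcl hloc (isPBlock_sameBlock hB hχ hψ₀)
  rw [yy_eq_om hM hb hz]
  apply mul_ne_zero
  · apply div_ne_zero _ hG
    exact mul_ne_zero (pow_ne_zero _ (by exact_mod_cast hp.ne_zero)) (irr_one_ne_zero χ)
  · intro h
    rw [h, zero_sub] at h2
    apply h1
    have := memLocalIdeal_neg h2
    rwa [neg_neg] at this


theorem lam_sub_one (hM : IsPModular p M) (ζ : IrrCharacter H) {z : H}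
    (hz : ∀ h : H, h * z = z * h) {k : ℕ} (hzk : z ^ (p ^ k) = 1) :
    MemLocalRing M (lam (ζ : H → ℂ) z) ∧ MemLocalIdeal M (lam (ζ : H → ℂ) z - 1) := by
  have hMp := hM.2.1.isPrime
  have hp : p.Prime := Fact.out
  have h1 := lam_pow_eq_one ζ hz hzk
  have h2 : MemLocalRing M (lam (ζ : H → ℂ) z) := by
    apply memLocalRing_of_isIntegral
    apply IsIntegral.of_pow (pow_pos hp.pos k)
    rw [h1]
    exact isIntegral_one
  refine ⟨h2, Cfsg.Agent.Lib.Helper79Teich.sub_one_of_pow_p_pow hM k h2 ?_⟩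
  rw [h1, sub_self]
  exact memLocalIdeal_zero

theorem yy_local (hM : IsPModular p M) (b : Set (IrrCharacter H)) {z : H}
    (hz : ∀ h : H, h * z = z * h) {k : ℕ} (hzk : z ^ (p ^ k) = 1) (t : ℕ) (χ : IrrCharacter G)
    (m : IrrCharacter H → ℤ) : MemLocalRing M (yy p b z t χ m) := by
  have hMp := hM.2.1.isPrime
  unfold yy
  apply memLocalRing_sum
  intro ζ _
  exact memLocalRing_mul (memLocalRing_intCast _) (memLocalRing_pow (lam_sub_one hM ζ hz hzk).1 _)

/-- some `yy ψ₀ e_ξ` is a unit when `ψ₀` has height zero. -/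
theorem exists_unit (hM : IsPModular p M) {b : Set (IrrCharacter H)} {B : Set (IrrCharacter G)}
    (hind : IsInducedBlock M H b B) {z : H} (hz : ∀ h : H, h * z = z * h) {k : ℕ}
    (hzk : z ^ (p ^ k) = 1) {ψ₀ : IrrCharacter G} (hψ₀ : ψ₀ ∈ B)
    (h0 : blockHeight p B (ψ₀ : G → ℂ) = 0) :
    ∃ ξ ∈ b, ¬ MemLocalIdeal M (yy p b z 1 ψ₀ (Pi.single ξ 1)) := by
  classical
  have hMp := hM.2.1.isPrime
  by_contra hcon
  push Not at hcon
  apply T_unit hM hind hψ₀ h0 hψ₀ h0
  set y0 : IrrCharacter H → ℂ := fun ξ => ∑ ζ : IrrCharacter H,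
    (((nA ψ₀ ζ : ℤ) * bet p b (Pi.single ζ 1) (Pi.single ξ 1) : ℤ) : ℂ) with hy0
  have s1 : ∀ ξ, MemLocalIdeal M (yy p b z 1 ψ₀ (Pi.single ξ 1) - y0 ξ) := by
    intro ξ
    rw [hy0]
    unfold yy
    rw [← Finset.sum_sub_distrib]
    apply memLocalIdeal_sum
    intro ζ _
    rw [pow_one]
    have : (((nA ψ₀ ζ : ℤ) * bet p b (Pi.single ζ 1) (Pi.single ξ 1) : ℤ) : ℂ) * lam (ζ : H → ℂ) z
        - (((nA ψ₀ ζ : ℤ) * bet p b (Pi.single ζ 1) (Pi.single ξ 1) : ℤ) : ℂ)
        = (((nA ψ₀ ζ : ℤ) * bet p b (Pi.single ζ 1) (Pi.single ξ 1) : ℤ) : ℂ) *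
          (lam (ζ : H → ℂ) z - 1) := by ring
    rw [this]
    exact memLocalIdeal_mul (memLocalRing_intCast _) (lam_sub_one hM ζ hz hzk).2
  have s2 : ∀ ξ ∈ b, MemLocalIdeal M (y0 ξ) := by
    intro ξ hξ
    have := memLocalIdeal_sub (hcon ξ hξ) (s1 ξ)
    rwa [sub_sub_cancel] at this
  have s3 : (∑ ζ : IrrCharacter H, ∑ ξ : IrrCharacter H,
      (if ζ ∈ b then (if ξ ∈ b then (p : ℂ) ^ blockDefect p b *
        (AA (ψ₀ : G → ℂ) (ζ : H → ℂ) * AA (ψ₀ : G → ℂ) (ξ : H → ℂ) *
          regInner p (ζ : H → ℂ) (ξ : H → ℂ)) else 0) else 0))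
      = ∑ ξ : IrrCharacter H, if ξ ∈ b then (nA ψ₀ ξ : ℂ) * y0 ξ else 0 := by
    rw [Finset.sum_comm]
    apply Finset.sum_congr rfl
    intro ξ _
    by_cases hξ : ξ ∈ b
    · simp only [hξ, if_true]
      rw [hy0]
      simp only
      rw [Finset.mul_sum]
      apply Finset.sum_congr rfl
      intro ζ _
      by_cases hζ : ζ ∈ b
      · rw [if_pos hζ]
        push_cast
        rw [bet_single_of_mem hζ, FF_single, if_pos hξ, nA_spec, nA_spec]
        ring
      · rw [if_neg hζ, bet_single_of_not_mem hζ]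
        simp
    · simp [hξ]
  rw [s3]
  apply memLocalIdeal_sum
  intro ξ _
  split_ifs with hξ
  · exact memLocalIdeal_mul (memLocalRing_natCast _) (s2 ξ hξ)
  · exact memLocalIdeal_zero

end nonvanishing

section main

variable {G : Type*} [Group G] [Fintype G] {p : ℕ} [Fact p.Prime] {M : Ideal AlgInt}
variable {H : Subgroup G} [Fintype H]

theorem totient_le_sum_yy (b : Set (IrrCharacter H)) {z : H} (hz : ∀ h : H, h * z = z * h)
    {k : ℕ} (hzk : z ^ (p ^ k) = 1) (χ : IrrCharacter G) (m : IrrCharacter H → ℤ) (N : ℤ)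
    (hdiv : ∀ ζ, N ∣ bet p b (Pi.single ζ 1) m) (hne : yy p b z 1 χ m ≠ 0) :
    ((p ^ k).totient : ℝ) * (N : ℝ) ^ 2
      ≤ ∑ t ∈ (Finset.range (p ^ k)).filter (fun t => t.Coprime (p ^ k)),
        ‖yy p b z t χ m‖ ^ 2 := by
  choose e he using hdiv
  have h1 : ∀ t : ℕ, yy p b z t χ m = (N : ℂ) * ∑ ζ : IrrCharacter H,
      (((nA χ ζ : ℤ) * e ζ : ℤ) : ℂ) * lam (ζ : H → ℂ) z ^ t := by
    intro t
    unfold yy
    rw [Finset.mul_sum]
    apply Finset.sum_congr rfl
    intro ζ _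
    rw [he ζ]
    push_cast
    ring
  have h2 : ∑ ζ : IrrCharacter H, (((nA χ ζ : ℤ) * e ζ : ℤ) : ℂ) * lam (ζ : H → ℂ) z ≠ 0 := by
    intro h
    apply hne
    rw [h1 1]
    simp only [pow_one]
    rw [h, mul_zero]
  have h3 := Cfsg.Agent.Lib.Helper82Ramanujan.totient_le_of_ne_zero p Fact.out k Finset.univ
    (fun ζ : IrrCharacter H => (nA χ ζ : ℤ) * e ζ) (fun ζ => lam (ζ : H → ℂ) z)
    (fun ζ _ => lam_pow_eq_one ζ hz hzk) h2
  have h4 : ∀ t : ℕ, ‖yy p b z t χ m‖ ^ 2 = (N : ℝ) ^ 2 * ‖∑ ζ : IrrCharacter H,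
      (((nA χ ζ : ℤ) * e ζ : ℤ) : ℂ) * lam (ζ : H → ℂ) z ^ t‖ ^ 2 := by
    intro t
    rw [h1 t, norm_mul, mul_pow, Complex.norm_intCast, sq_abs]
  simp only [h4]
  rw [← Finset.mul_sum, mul_comm]
  exact mul_le_mul_of_nonneg_left h3 (sq_nonneg _)

/-- **Main counting inequality.** -/
theorem card_mul_le (hM : IsPModular p M) {b : Set (IrrCharacter H)} (hb : IsBlockUnion M b)
    (B : Set (IrrCharacter G)) {z : H} (hz : ∀ h : H, h * z = z * h) {k : ℕ}
    (hk : orderOf (z : G) = p ^ k) (hH : H = Subgroup.centralizer ({(z : G)} : Set G))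
    {J : Type*} (s : Finset J) (m : J → IrrCharacter H → ℤ) (N : ℤ)
    (hdiv : ∀ j ∈ s, ∀ ζ, N ∣ bet p b (Pi.single ζ 1) (m j)) (c : ℕ)
    (hnz : ∀ χ ∈ B, ∃ s' ⊆ s, c ≤ s'.card ∧ ∀ j ∈ s', yy p b z 1 χ (m j) ≠ 0) :
    (c : ℤ) * (Nat.card B : ℤ) * N ^ 2
      ≤ (p : ℤ) ^ blockDefect p b * ∑ j ∈ s, bet p b (m j) (m j) := by
  classical
  have hp : p.Prime := Fact.out
  have hzk : z ^ (p ^ k) = 1 := by
    apply Subtype.ext
    rw [Subgroup.coe_pow, Subgroup.coe_one, ← hk]
    exact pow_orderOf_eq_one _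
  set T := (Finset.range (p ^ k)).filter (fun t => t.Coprime (p ^ k)) with hT
  have hTcard : T.card = (p ^ k).totient := by
    rw [hT, Nat.totient]
    congr 1
    apply Finset.filter_congr
    intro t _
    exact Nat.coprime_comm
  set φ : ℝ := ((p ^ k).totient : ℝ) with hφ
  have hφpos : 0 < φ := by
    have : 0 < (p ^ k).totient := Nat.totient_pos.2 (pow_pos hp.pos k)
    rw [hφ]; exact_mod_cast this
  have hU : ∀ j, ∀ t ∈ T, ∑ χ : IrrCharacter G, ‖yy p b z t χ (m j)‖ ^ 2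
      = (p : ℝ) ^ blockDefect p b * ((bet p b (m j) (m j) : ℤ) : ℝ) := by
    intro j t ht
    have htc : t.Coprime (orderOf (z : G)) := by
      rw [hk]; exact (Finset.mem_filter.1 ht).2
    have h1 := sum_yy_mul_conj hM hb hz t
      ⟨k, by rw [← hk]; exact Nat.Coprime.orderOf_pow htc.symm⟩
      (hH.trans (centralizer_pow_eq htc)) (m j) (m j)
    apply Complex.ofReal_injective
    push_cast
    rw [← h1]
    apply Finset.sum_congr rfl
    intro χ _
    rw [Complex.mul_conj']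
  set Bf := Finset.univ.filter (fun χ : IrrCharacter G => χ ∈ B) with hBf
  have hcard : Nat.card B = Bf.card := by
    rw [Nat.card_eq_fintype_card, Fintype.card_subtype]
  have hlow : ∀ χ ∈ Bf, (c : ℝ) * (φ * (N : ℝ) ^ 2)
      ≤ ∑ j ∈ s, ∑ t ∈ T, ‖yy p b z t χ (m j)‖ ^ 2 := by
    intro χ hχ
    obtain ⟨s', hs', hc, hne⟩ := hnz χ (Finset.mem_filter.1 hχ).2
    calc (c : ℝ) * (φ * (N : ℝ) ^ 2) ≤ (s'.card : ℝ) * (φ * (N : ℝ) ^ 2) := by
          apply mul_le_mul_of_nonneg_right (by exact_mod_cast hc)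
          positivity
      _ = ∑ j ∈ s', φ * (N : ℝ) ^ 2 := by rw [Finset.sum_const, nsmul_eq_mul]
      _ ≤ ∑ j ∈ s', ∑ t ∈ T, ‖yy p b z t χ (m j)‖ ^ 2 := by
          apply Finset.sum_le_sum
          intro j hj
          exact totient_le_sum_yy b hz hzk χ (m j) N (hdiv j (hs' hj)) (hne j hj)
      _ ≤ ∑ j ∈ s, ∑ t ∈ T, ‖yy p b z t χ (m j)‖ ^ 2 := by
          apply Finset.sum_le_sum_of_subset_of_nonneg hs'
          intro j _ _
          exact Finset.sum_nonneg (fun t _ => by positivity)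
  have htot : ∑ χ : IrrCharacter G, ∑ j ∈ s, ∑ t ∈ T, ‖yy p b z t χ (m j)‖ ^ 2
      = φ * ((p : ℝ) ^ blockDefect p b * ∑ j ∈ s, ((bet p b (m j) (m j) : ℤ) : ℝ)) := by
    rw [Finset.sum_comm, Finset.mul_sum, Finset.mul_sum]
    apply Finset.sum_congr rfl
    intro j _
    rw [Finset.sum_comm, Finset.sum_congr rfl (hU j), Finset.sum_const, hTcard, nsmul_eq_mul]
  have hfin : ∑ χ ∈ Bf, (c : ℝ) * (φ * (N : ℝ) ^ 2)
      ≤ φ * ((p : ℝ) ^ blockDefect p b * ∑ j ∈ s, ((bet p b (m j) (m j) : ℤ) : ℝ)) := by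
    rw [← htot]
    calc ∑ χ ∈ Bf, (c : ℝ) * (φ * (N : ℝ) ^ 2)
        ≤ ∑ χ ∈ Bf, ∑ j ∈ s, ∑ t ∈ T, ‖yy p b z t χ (m j)‖ ^ 2 := Finset.sum_le_sum hlow
      _ ≤ _ := by
          apply Finset.sum_le_sum_of_subset_of_nonneg (Finset.subset_univ _)
          intro χ _ _
          exact Finset.sum_nonneg (fun j _ => Finset.sum_nonneg (fun t _ => by positivity))
  rw [Finset.sum_const, nsmul_eq_mul, ← hcard] at hfin
  have h5 : φ * ((c : ℝ) * (Nat.card B : ℝ) * (N : ℝ) ^ 2)
      ≤ φ * ((p : ℝ) ^ blockDefect p b * ∑ j ∈ s, ((bet p b (m j) (m j) : ℤ) : ℝ)) := by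
    calc φ * ((c : ℝ) * (Nat.card B : ℝ) * (N : ℝ) ^ 2)
        = (Nat.card B : ℝ) * ((c : ℝ) * (φ * (N : ℝ) ^ 2)) := by ring
      _ ≤ _ := hfin
  have h6 := le_of_mul_le_mul_left h5 hφpos
  exact_mod_cast h6

end main

end Cfsg.Agent.Lib.Helper82Major
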