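import Mathlib
import Cfsg.Prelude.Def_Blocks
import Cfsg.Prelude.Def_BlockRank
import Cfsg.Agent.Lib.Helper78Klein

set_option autoImplicit false

/-! Ranks of principal blocks: normal `p`-complements, Klein four Sylow 2-subgroups. -/

namespace Cfsg.Agent.Lib.Helper78Klein2

open Cfsg
open Cfsg.Agent.Lib.Helper81Local Cfsg.Agent.Lib.Helper81Base Cfsg.Agent.Lib.Helper81BB
  Cfsg.Agent.Lib.Helper81Block Cfsg.Agent.Lib.Helper81Orth Cfsg.Agent.Lib.Helper21Cover
  Cfsg.Agent.Lib.Helper81Orth2 Cfsg.Agent.Lib.Helper78Klein Cfsg.Agent.Lib.Helper81Rank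
  Cfsg.Agent.Lib.Helper81Count Cfsg.Agent.Lib.Helper81Subsec Cfsg.Agent.Lib.Helper81Subsec2
open scoped ComplexConjugate

section rank

variable {H : Type*} [Group H] [Fintype H] {p : ℕ} {M : Ideal AlgInt}

/-- the principal block of a group with a normal `p`-complement has rank one. -/
theorem blockRank_principal_of_compl (hM : IsPModular p M) (K : Subgroup H) [K.Normal]
    (hK : ¬ p ∣ Nat.card K) (hreg : ∀ y : H, ¬ p ∣ orderOf y → y ∈ K) :
    blockRank p (principalBlock M H) = 1 := by
  classical
  have hMp := hM.2.1.isPrime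
  unfold blockRank
  have hv : pRegularPart p (fun _ : H => (1 : ℂ)) ≠ 0 := by
    intro h
    have := congrFun h 1
    rw [pRegularPart_apply, if_pos (by rw [orderOf_one]; exact hM.1.one_lt.ne' ∘ Nat.dvd_one.1)]
      at this
    exact one_ne_zero this
  have e : Submodule.span ℂ ((fun χ : IrrCharacter H => pRegularPart p (χ : H → ℂ)) ''
      principalBlock M H) = Submodule.span ℂ {pRegularPart p (fun _ : H => (1 : ℂ))} := by
    apply le_antisymm
    · rw [Submodule.span_le]
      rintro _ ⟨ψ, hψ, rfl⟩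
      have hk := (mem_principalBlock_iff_ker hM K hK hreg ψ).1 hψ
      have : pRegularPart p (ψ : H → ℂ)
          = (ψ : H → ℂ) 1 • pRegularPart p (fun _ : H => (1 : ℂ)) := by
        funext g
        rw [Pi.smul_apply, pRegularPart_apply, pRegularPart_apply]
        split_ifs with hg
        · simp
        · rw [hk g (hreg g hg)]; simp
      simp only [SetLike.mem_coe]
      rw [this]
      exact Submodule.smul_mem _ _ (Submodule.mem_span_singleton_self _)
    · rw [Submodule.span_le]
      rintro _ rfl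
      apply Submodule.subset_span
      exact ⟨Helper82Linear.irrOne H, irrOne_mem_principal, rfl⟩
  rw [e, finrank_span_singleton hv]

end rank

section count

variable {G : Type*} [Group G] [Fintype G] {p : ℕ} {M : Ideal AlgInt}

/-- `k(B) - l(B)` is the contribution of the `p`-singular elements. -/
theorem card_eq_rank_add (hM : IsPModular p M) {B : Set (IrrCharacter G)} (hB : IsPBlock M B)
    [DecidablePred (· ∈ B)] :
    (Nat.card B : ℂ) = (blockRank p B : ℂ)
      + (Nat.card G : ℂ)⁻¹ * ∑ g : G, (if p ∣ orderOf g then delta B g g else 0) := by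
  classical
  have hMp := hM.2.1.isPrime
  rw [card_eq_sum_delta, blockRank_eq hM (isBlockUnion_of_isPBlock hB)]
  have e : ∑ ψ : IrrCharacter G, (if ψ ∈ B then regInner p (ψ : G → ℂ) (ψ : G → ℂ) else 0)
      = (Nat.card G : ℂ)⁻¹ * ∑ g : G, (if ¬ p ∣ orderOf g then delta B g g else 0) := by
    unfold regInner delta
    have : ∀ g : G, (if ¬ p ∣ orderOf g then ∑ χ : IrrCharacter G,
        (if χ ∈ B then (χ : G → ℂ) g * conj ((χ : G → ℂ) g) else 0) else 0)
        = ∑ χ : IrrCharacter G, (if χ ∈ B then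
          (if ¬ p ∣ orderOf g then (χ : G → ℂ) g * conj ((χ : G → ℂ) g) else 0) else 0) := by
      intro g
      by_cases hg : p ∣ orderOf g
      · simp [hg]
      · simp [hg]
    simp only [this]
    rw [Finset.sum_comm, Finset.mul_sum]
    apply Finset.sum_congr rfl
    intro ψ _
    split_ifs
    · rfl
    · simp
  rw [e, ← mul_add, ← Finset.sum_add_distrib]
  congr 1
  apply Finset.sum_congr rfl
  intro g _
  by_cases hg : p ∣ orderOf g
  · simp [hg]
  · simp [hg]

end count

section klein

variable {G : Type*} [Group G] [Fintype G] {M : Ideal AlgInt}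

omit [Fintype G] in
/-- 2-elements of a group with Klein four Sylow 2-subgroups have square one. -/
theorem sq_eq_one_of_klein [Finite G] (P : Sylow 2 G) (hP : IsKleinFour (P : Subgroup G)) {z : G}
    (hz : ∃ k : ℕ, orderOf z = 2 ^ k) : z * z = 1 := by
  have : Fact (Nat.Prime 2) := ⟨Nat.prime_two⟩
  obtain ⟨k, hk⟩ := hz
  have hp : IsPGroup 2 (Subgroup.zpowers z) := by
    apply IsPGroup.of_card (n := k)
    rw [Nat.card_zpowers, hk]
  obtain ⟨h, hh⟩ := Helper5Sylow.exists_conj_mem_sylow P _ hp
  have hmem := hh z (Subgroup.mem_zpowers z)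
  have := congrArg Subtype.val (IsKleinFour.mul_self (⟨h * z * h⁻¹, hmem⟩ : (P : Subgroup G)))
  simp only [Subgroup.coe_mul, Subgroup.coe_one] at this
  have e : h * z * h⁻¹ * (h * z * h⁻¹) = h * (z * z) * h⁻¹ := by group
  rw [e] at this
  have e2 : z * z = h⁻¹ * (h * (z * z) * h⁻¹) * h := by group
  rw [e2, this]; group

omit [Fintype G] in
theorem exists_ppart_conj_iff [Finite G] (P : Sylow 2 G) (hP : IsKleinFour (P : Subgroup G))
    (hone : ∀ s t : G, orderOf s = 2 → orderOf t = 2 → IsConj s t) {t : G} (ht2 : orderOf t = 2)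
    (g : G) : (∃ s : G, IsPPart 2 (s * g * s⁻¹) t) ↔ 2 ∣ orderOf g := by
  constructor
  · rintro ⟨s, y, hy, hc, _, hy2⟩
    have ho : orderOf (s * g * s⁻¹) = orderOf g := (MulAut.conj s).orderOf_eq g
    rw [← ho, ← hy]
    have hcop : Nat.Coprime (orderOf t) (orderOf y) := by
      rw [ht2, Nat.Prime.coprime_iff_not_dvd Nat.prime_two]; exact hy2
    rw [hc.orderOf_mul_eq_mul_orderOf_of_coprime hcop, ht2]
    exact Dvd.intro _ rfl
  · intro h2
    obtain ⟨z, hz⟩ := exists_ppart Nat.prime_two g
    obtain ⟨y, hy, hc, hzk, hy2⟩ := id hz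
    have hzz := sq_eq_one_of_klein P hP hzk
    have hz1 : z ≠ 1 := by
      rintro rfl
      rw [one_mul] at hy
      rw [hy] at hy2
      exact hy2 h2
    have hz2 : orderOf z = 2 := orderOf_eq_prime (by rw [pow_two]; exact hzz) hz1
    obtain ⟨s, hs⟩ := isConj_iff.1 (hone z t hz2 ht2)
    exact ⟨s, hs ▸ Helper81Second2.isPPart_conj hz s⟩

/-- the principal 2-block of a group with Klein four Sylow 2-subgroups and one class of
involutions has rank three. -/
theorem klein_rank (hM : IsPModular 2 M) (P : Sylow 2 G) (hP : IsKleinFour (P : Subgroup G))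
    (hone : ∀ s t : G, orderOf s = 2 → orderOf t = 2 → IsConj s t) :
    blockRank 2 (principalBlock M G) = 3 := by
  classical
  have hMp := hM.2.1.isPrime
  have : Fact (Nat.Prime 2) := ⟨Nat.prime_two⟩
  have hB0 : IsPBlock M (principalBlock M G) := ⟨Helper82Linear.irrOne G, rfl⟩
  have h3 := Helper5Klein.card_inv_of_klein P hP
  have hne : Nonempty {z : (P : Subgroup G) // orderOf z = 2} :=
    (Nat.card_pos_iff.mp (by omega)).1
  obtain ⟨⟨⟨t, ht⟩, ht2'⟩⟩ := hne
  have ht2 : orderOf t = 2 := by rw [← ht2']; exact (Subgroup.orderOf_mk t ht).symm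
  have ht1 : t ≠ 1 := by
    rintro rfl
    simp at ht2
  obtain ⟨hcard, _⟩ := klein_structure hM P hP ht ht2
  obtain ⟨K, hKn, hK, hreg, _, _⟩ := exists_compl_centralizer P hP ht ht1
  let _ : Fintype (Subgroup.centralizer ({t} : Set G)) := Fintype.ofFinite _
  have hsec := section_contribution hM hB0 t ⟨1, by rw [ht2, pow_one]⟩
  rw [overSet_principalBlock hM t ⟨1, by rw [ht2, pow_one]⟩,
    blockRank_principal_of_compl hM K hK hreg] at hsec
  have hk := card_eq_rank_add hM hB0
  have e : ∑ g : G, (if 2 ∣ orderOf g then delta (principalBlock M G) g g else 0)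
      = ∑ g : G, (if ∃ s : G, IsPPart 2 (s * g * s⁻¹) t then
          delta (principalBlock M G) g g else 0) := by
    apply Finset.sum_congr rfl
    intro g _
    simp only [exists_ppart_conj_iff P hP hone ht2 g]
  rw [e] at hk
  have hsec' : (Nat.card G : ℂ)⁻¹ * ∑ g : G, (if ∃ s : G, IsPPart 2 (s * g * s⁻¹) t then
          delta (principalBlock M G) g g else 0) = ((1 : ℕ) : ℂ) := by
    rw [← hsec]
  rw [hsec'] at hk
  have hc4 : Nat.card (principalBlock M G) = 4 := by
    rw [Nat.card_eq_fintype_card, Fintype.card_subtype]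
    exact hcard
  rw [hc4] at hk
  have : (4 : ℕ) = blockRank 2 (principalBlock M G) + 1 := by exact_mod_cast hk
  omega

end klein

end Cfsg.Agent.Lib.Helper78Klein2
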