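import Mathlib
import Cfsg.Prelude.Def_Blocks
import Cfsg.Agent.Lib.Helper84Contrib

set_option autoImplicit false

namespace Cfsg.Agent.Lib.Helper84Contrib2

open Cfsg
open Cfsg.Agent.Lib.Helper4Char Cfsg.Agent.Lib.Helper4Char2 Cfsg.Agent.Lib.Helper4Char4
open Cfsg.Agent.Lib.Helper32Virt Cfsg.Agent.Lib.Helper84Contrib
open Cfsg.Agent.Lib.Helper81Local Cfsg.Agent.Lib.Helper81Base Cfsg.Agent.Lib.Helper81BB
  Cfsg.Agent.Lib.Helper81Defect Cfsg.Agent.Lib.Helper81Reg
open scoped ComplexConjugate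

variable {G : Type*} [Group G] [Fintype G] {p : ℕ} [Fact p.Prime]

/-- a generalized character vanishing on the `p`-singular elements has degree divisible by
`|G|_p`. -/
theorem pow_dvd_of_vanish {θ : G → ℂ} (hθ : IsGeneralizedCharacter G θ)
    (hv : ∀ y : G, p ∣ orderOf y → θ y = 0) :
    ∃ w : ℤ, θ 1 = (p : ℂ) ^ (Nat.card G).factorization p * w := by
  classical
  have hp : p.Prime := Fact.out
  obtain ⟨m, hm, _⟩ := gen_coord hθ
  obtain ⟨P⟩ : Nonempty (Sylow p G) := inferInstance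
  have : Fintype (P : Subgroup G) := Fintype.ofFinite _
  choose kk hkk using fun τ : IrrCharacter G =>
    Cfsg.Agent.Lib.Helper81Orth2.sum_subgroup τ (P : Subgroup G)
  have hcard : (Nat.card (P : Subgroup G) : ℂ) = (p : ℂ) ^ (Nat.card G).factorization p := by
    rw [Sylow.card_eq_multiplicity]
    push_cast
    rfl
  have hL : ∑ u : (P : Subgroup G), θ (u : G) = θ 1 := by
    rw [Finset.sum_eq_single (1 : (P : Subgroup G))]
    · rfl
    · intro u _ hu
      apply hv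
      obtain ⟨j, hj⟩ := (IsPGroup.iff_orderOf.mp P.2) u
      rw [Subgroup.orderOf_coe, hj]
      rcases Nat.eq_zero_or_pos j with rfl | hj0
      · rw [pow_zero, orderOf_eq_one_iff] at hj
        exact absurd hj hu
      · exact dvd_pow_self p hj0.ne'
    · intro h; exact absurd (Finset.mem_univ _) h
  refine ⟨∑ τ : IrrCharacter G, m τ * (kk τ : ℤ), ?_⟩
  rw [← hL]
  conv_lhs => rw [hm]
  simp only [Finset.sum_apply, Pi.smul_apply, smul_eq_mul]
  rw [Finset.sum_comm]
  simp only [← Finset.mul_sum, hkk, hcard]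
  push_cast
  rw [Finset.mul_sum]
  apply Finset.sum_congr rfl
  intro τ _
  ring

variable {M : Ideal AlgInt}

open scoped Classical in
/-- the sum of the squares of the degrees in a block, up to `p'`-factors. -/
theorem sum_sq_deg (hM : IsPModular p M) {B : Set (IrrCharacter G)} (hB : IsPBlock M B) :
    ∃ s t : ℤ, ¬ (p : ℤ) ∣ s ∧ ¬ (p : ℤ) ∣ t ∧
      t * ∑ φ : IrrCharacter G, (if φ ∈ B then (charDegree (φ : G → ℂ) : ℤ) ^ 2 else 0)
        = (p : ℤ) ^ ((Nat.card G).factorization p + minVal p B) * s := by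
  have hMp := hM.2.1.isPrime
  have hp : p.Prime := Fact.out
  have hpz : (p : ℤ) ≠ 0 := by exact_mod_cast hp.ne_zero
  have hpc : (p : ℂ) ≠ 0 := by exact_mod_cast hp.ne_zero
  have hne := Cfsg.Agent.Lib.Helper81Block.isPBlock_nonempty hB
  obtain ⟨χ, hχ, h0⟩ := exists_height_zero (p := p) hne
  have hb0 : (charDegree (χ : G → ℂ)).factorization p = minVal p B := by
    have h1 := minVal_le (p := p) hχ
    rw [blockHeight_def] at h0
    omega
  obtain ⟨t, ht, hpt⟩ := N_height_zero hM hB hχ h0 hχ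
  rw [hb0] at ht
  set b0 := minVal p B with hb0def
  set a := (Nat.card G).factorization p with ha
  -- the degree of χ
  have hfe := (Nat.ordProj_mul_ordCompl_eq_self (charDegree (χ : G → ℂ)) p).symm
  have hfnd := Nat.not_dvd_ordCompl hp (charDegree_pos χ).ne'
  rw [hb0] at hfe hfnd
  set f := charDegree (χ : G → ℂ) / p ^ b0 with hf
  -- the integers z
  have hz : ∀ φ : IrrCharacter G, ∃ z : ℤ,
      N p φ χ * (charDegree (χ : G → ℂ) : ℤ)
        - (if φ ∈ B then N p χ χ * (charDegree (φ : G → ℂ) : ℤ) else 0)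
        = (p : ℤ) ^ (2 * b0 + 1) * z := by
    intro φ
    by_cases hφ : φ ∈ B
    · rw [if_pos hφ]
      have hJ := creg_congr (p := p) χ (Cfsg.Agent.Lib.Helper81Block.isPBlock_sameBlock hB hφ hχ)
      have e : ((N p φ χ * (charDegree (χ : G → ℂ) : ℤ)
          - N p χ χ * (charDegree (φ : G → ℂ) : ℤ) : ℤ) : ℂ) * (uu G p : ℂ)
          = ((charDegree (φ : G → ℂ) * charDegree (χ : G → ℂ) : ℕ) : ℂ)
            * (creg p (φ : G → ℂ) (χ : G → ℂ) - creg p (χ : G → ℂ) (χ : G → ℂ)) := by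
        have e1 := N_mul_uu p φ χ
        have e2 := N_mul_uu p χ χ
        push_cast
        linear_combination (charDegree (χ : G → ℂ) : ℂ) * e1 - (charDegree (φ : G → ℂ) : ℂ) * e2
      obtain ⟨k, hk, hkk⟩ := int_factor hM (uu_not_dvd (G := G) p)
        (mul_ne_zero (charDegree_pos φ).ne' (charDegree_pos χ).ne') (MemLocalIdeal.memLocalRing hJ) e
      obtain ⟨k', rfl⟩ := hkk.2 hJ
      rw [Nat.factorization_mul (charDegree_pos φ).ne' (charDegree_pos χ).ne', Finsupp.add_apply,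
        hb0] at hk
      have hle := minVal_le (p := p) hφ
      obtain ⟨c, hc⟩ := Nat.exists_eq_add_of_le hle
      refine ⟨(p : ℤ) ^ c * k', ?_⟩
      rw [hk, hc]
      ring
    · rw [if_neg hφ, N_symm, N_eq_zero_of_not_mem hM hB hχ hφ]
      exact ⟨0, by simp⟩
  choose z hz using hz
  have hgen : IsGeneralizedCharacter G (∑ φ : IrrCharacter G, (z φ : ℂ) • (φ : G → ℂ)) :=
    gen_sum _ fun φ _ => gen_intCast_smul _ (gen_of_irr φ.2)
  have hval : ∀ g : G, (p : ℂ) ^ (2 * b0 + 1) * (∑ φ : IrrCharacter G, (z φ : ℂ) • (φ : G → ℂ)) g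
      = (charDegree (χ : G → ℂ) : ℂ) * tld p (χ : G → ℂ) g
        - (N p χ χ : ℂ) * ∑ φ : IrrCharacter G,
          (if φ ∈ B then (charDegree (φ : G → ℂ) : ℂ) * (φ : G → ℂ) g else 0) := by
    intro g
    rw [tld_eq_sum]
    simp only [Finset.sum_apply, Pi.smul_apply, smul_eq_mul]
    rw [Finset.mul_sum, Finset.mul_sum, Finset.mul_sum, ← Finset.sum_sub_distrib]
    apply Finset.sum_congr rfl
    intro φ _
    have h1 : ((N p φ χ * (charDegree (χ : G → ℂ) : ℤ)
        - (if φ ∈ B then N p χ χ * (charDegree (φ : G → ℂ) : ℤ) else 0) : ℤ) : ℂ)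
        = (((p : ℤ) ^ (2 * b0 + 1) * z φ : ℤ) : ℂ) := by rw [hz φ]
    rw [N_symm p χ φ]
    split_ifs at h1 ⊢ with hφ
    · push_cast at h1
      linear_combination (-(φ : G → ℂ) g) * h1
    · push_cast at h1
      linear_combination (-(φ : G → ℂ) g) * h1
  have hvan : ∀ y : G, p ∣ orderOf y → (∑ φ : IrrCharacter G, (z φ : ℂ) • (φ : G → ℂ)) y = 0 := by
    intro y hy
    have h1 := hval y
    have h2 : tld p (χ : G → ℂ) y = 0 := by
      rw [tld_def]
      simp [hy]
    have h3 : ∑ φ : IrrCharacter G,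
        (if φ ∈ B then (charDegree (φ : G → ℂ) : ℂ) * (φ : G → ℂ) y else 0) = 0 := by
      have h11 : ¬ p ∣ orderOf (1 : G) := by
        rw [orderOf_one]; exact hp.one_lt.ne' ∘ Nat.dvd_one.mp
      have hy' : p ∣ orderOf y⁻¹ := by rwa [orderOf_inv]
      have := Cfsg.Agent.Lib.Helper81Orth.weak_block_orth hM hB h11 hy'
      refine Eq.trans ?_ this
      apply Finset.sum_congr rfl
      intro φ _
      rw [irr_inv, Complex.conj_conj, charDegree_eq]
    rw [h2, h3, mul_zero, mul_zero, sub_zero] at h1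
    exact (mul_eq_zero.1 h1).resolve_left (pow_ne_zero _ hpc)
  obtain ⟨w, hw⟩ := pow_dvd_of_vanish hgen hvan
  have h1 := hval 1
  rw [hw] at h1
  have h11 : ¬ p ∣ orderOf (1 : G) := by
    rw [orderOf_one]; exact hp.one_lt.ne' ∘ Nat.dvd_one.mp
  have h2 : tld p (χ : G → ℂ) 1 = (p : ℂ) ^ a * (charDegree (χ : G → ℂ) : ℂ) := by
    rw [tld_def]
    simp only [h11, if_false, charDegree_eq]
    push_cast
    rfl
  rw [h2] at h1
  have h3 : ∑ φ : IrrCharacter G,
      (if φ ∈ B then (charDegree (φ : G → ℂ) : ℂ) * (φ : G → ℂ) 1 else 0)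
      = ((∑ φ : IrrCharacter G, (if φ ∈ B then (charDegree (φ : G → ℂ) : ℤ) ^ 2 else 0) : ℤ) : ℂ) := by
    push_cast
    apply Finset.sum_congr rfl
    intro φ _
    split_ifs
    · rw [← charDegree_eq]; ring
    · simp
  rw [h3] at h1
  set Sg : ℤ := ∑ φ : IrrCharacter G, (if φ ∈ B then (charDegree (φ : G → ℂ) : ℤ) ^ 2 else 0)
    with hSg
  have h4 : (p : ℤ) ^ (2 * b0 + 1) * ((p : ℤ) ^ a * w)
      = (charDegree (χ : G → ℂ) : ℤ) * ((p : ℤ) ^ a * (charDegree (χ : G → ℂ) : ℤ))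
        - N p χ χ * Sg := by
    exact_mod_cast h1
  rw [ht, hfe] at h4
  refine ⟨(f : ℤ) ^ 2 - p * w, t, ?_, hpt, ?_⟩
  · intro hd
    have h5 : (p : ℤ) ∣ (f : ℤ) ^ 2 := by
      have := dvd_add hd (dvd_mul_right (p : ℤ) w)
      simpa using this
    have h6 := (Nat.prime_iff_prime_int.1 hp).dvd_of_dvd_pow h5
    exact hfnd (Int.natCast_dvd_natCast.1 h6)
  · have h5 : (p : ℤ) ^ b0 * (t * Sg) = (p : ℤ) ^ b0 * ((p : ℤ) ^ (a + b0) * ((f : ℤ) ^ 2 - p * w)) := by
      push_cast at h4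
      linear_combination h4
    exact mul_left_cancel₀ (pow_ne_zero _ hpz) h5

end Cfsg.Agent.Lib.Helper84Contrib2
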