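import Mathlib
import Cfsg.Agent.S4716
import Cfsg.Agent.S4491
import Cfsg.Agent.S4669
import Cfsg.Agent.Lib.Helper81Height
import Cfsg.Agent.Lib.Helper78Klein2
import Cfsg.Agent.Lib.Helper20Major

set_option autoImplicit false

namespace Cfsg.Agent.Lib.Helper83Klein

open Cfsg
open Cfsg.Agent.Lib.Helper81Defect Cfsg.Agent.Lib.Helper81Height Cfsg.Agent.Lib.Helper81Block
  Cfsg.Agent.Lib.Helper81Count Cfsg.Agent.Lib.Helper81Subsec Cfsg.Agent.Lib.Helper81Section
  Cfsg.Agent.Lib.Helper81Orth2 Cfsg.Agent.Lib.Helper78Klein2 Cfsg.Agent.Lib.Helper81Rank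
  Cfsg.Agent.Lib.Helper81Base
open scoped ComplexConjugate

variable {G : Type*} [Group G] [Fintype G] {M : Ideal AlgInt} {p : ℕ}

theorem height_zero_of_defect_two (hM : IsPModular 2 M) {B : Set (IrrCharacter G)}
    (hB : IsPBlock M B) (hd : blockDefect 2 B = 2) {χ : IrrCharacter G} (hχ : χ ∈ B) :
    blockHeight 2 B (χ : G → ℂ) = 0 := by
  have : Fact (Nat.Prime 2) := ⟨Nat.prime_two⟩
  by_contra h
  have := height_add_two_le hM hB hχ (Nat.pos_of_ne_zero h)
  omega

theorem odd_sq_mod_eight (m : ℕ) (hm : ¬ 2 ∣ m) : m ^ 2 % 8 = 1 := by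
  have h : m % 8 = 1 ∨ m % 8 = 3 ∨ m % 8 = 5 ∨ m % 8 = 7 := by omega
  rcases h with h | h | h | h <;> simp [Nat.pow_mod, h]

theorem card_mod_eight (hM : IsPModular 2 M) {B : Set (IrrCharacter G)}
    (hB : IsPBlock M B) (hd : blockDefect 2 B = 2) : Nat.card B % 8 = 4 := by
  classical
  have : Fact (Nat.Prime 2) := ⟨Nat.prime_two⟩
  have hMp := hM.2.1.isPrime
  have h1 := Cfsg.Agent.S4491.result 2 M hM B hB
  rw [hd] at h1
  set a := (Nat.card G).factorization 2 with ha
  have hdef := blockDefect_def (p := 2) B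
  rw [hd, ← ha] at hdef
  set v := minVal 2 B with hv
  have hav : a = v + 2 := by omega
  -- each degree
  have hdeg : ∀ χ ∈ B, ∃ m : ℕ, ¬ 2 ∣ m ∧ charDegree (χ : G → ℂ) = 2 ^ v * m := by
    intro χ hχ
    have h0 := height_zero_of_defect_two hM hB hd hχ
    rw [blockHeight_def] at h0
    have h2 := minVal_le (p := 2) hχ
    have h3 : (charDegree (χ : G → ℂ)).factorization 2 = v := by omega
    have hne : charDegree (χ : G → ℂ) ≠ 0 := by
      intro h
      have := Cfsg.Agent.Lib.Helper81Base.charDegree_pos χ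
      omega
    refine ⟨charDegree (χ : G → ℂ) / 2 ^ v, ?_, ?_⟩
    · rw [← h3]; exact Nat.not_dvd_ordCompl Nat.prime_two hne
    · rw [← h3]; exact (Nat.ordProj_mul_ordCompl_eq_self _ 2).symm
  choose! m hm1 hm2 using hdeg
  have hfin : (B : Set (IrrCharacter G)).Finite := Set.toFinite _
  have hsum : ∑ᶠ χ ∈ B, charDegree (χ : G → ℂ) ^ 2 = 4 ^ v * ∑ χ ∈ hfin.toFinset, m χ ^ 2 := by
    rw [finsum_mem_eq_finite_toFinset_sum _ hfin, Finset.mul_sum]
    apply Finset.sum_congr rfl
    intro χ hχ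
    rw [hm2 χ (hfin.mem_toFinset.1 hχ), mul_pow, ← pow_mul, mul_comm v 2, pow_mul]
    norm_num
  set S := ∑ χ ∈ hfin.toFinset, m χ ^ 2 with hS
  have hSmod : S % 8 = Nat.card B % 8 := by
    have : Nat.card B = ∑ χ ∈ hfin.toFinset, 1 := by
      rw [Finset.sum_const, smul_eq_mul, mul_one, Nat.card_eq_card_finite_toFinset hfin]
    rw [this, hS, Finset.sum_nat_mod, Finset.sum_nat_mod (f := fun _ => 1)]
    congr 1
    apply Finset.sum_congr rfl
    intro χ hχ
    rw [odd_sq_mod_eight _ (hm1 χ (hfin.mem_toFinset.1 hχ))]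
  have hS0 : S ≠ 0 := by
    intro h0
    obtain ⟨χ, hχ⟩ := isPBlock_nonempty hB
    have : m χ ^ 2 = 0 := by
      have := (Finset.sum_eq_zero_iff.1 (hS ▸ h0)) χ (hfin.mem_toFinset.2 hχ)
      exact this
    have h2 : m χ = 0 := by simpa using this
    exact hm1 χ hχ (h2 ▸ dvd_zero _)
  rw [hsum, Nat.factorization_mul (by positivity) hS0] at h1
  have h4 : ((4 : ℕ) ^ v).factorization 2 = 2 * v := by
    have : (4 : ℕ) ^ v = 2 ^ (2 * v) := by rw [pow_mul]; norm_num
    rw [this, Nat.Prime.factorization_pow Nat.prime_two]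
    simp
  simp only [Finsupp.coe_add, Pi.add_apply] at h1
  rw [h4] at h1
  have h5 : S.factorization 2 = 2 := by omega
  have h6 : 2 ^ 2 ∣ S := by
    have := Nat.ordProj_dvd S 2
    rwa [h5] at this
  have h7 : ¬ 2 ^ 3 ∣ S := by
    intro h
    have := (Nat.Prime.pow_dvd_iff_le_factorization Nat.prime_two hS0).1 h
    omega
  rw [← hSmod]
  omega

theorem card_eq_four (hM : IsPModular 2 M) {B : Set (IrrCharacter G)}
    (hB : IsPBlock M B) (hd : blockDefect 2 B = 2) (y : G) (hy : ∃ k : ℕ, orderOf y = 2 ^ k)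
    (b : Set (IrrCharacter ↥(Subgroup.centralizer ({y} : Set G))))
    (hind : IsInducedBlock M (Subgroup.centralizer ({y} : Set G)) b B)
    (hbd : blockDefect 2 b = 2) (hl : blockRank 2 b = 1) : Nat.card B = 4 := by
  have : Fact (Nat.Prime 2) := ⟨Nat.prime_two⟩
  have h1 := Cfsg.Agent.S4716.result 2 M hM B hB 2 hd
    (fun χ hχ => height_zero_of_defect_two hM hB hd hχ) y hy b hind hbd
  rw [hl] at h1
  have h2 := card_mod_eight hM hB hd
  have h3 : Nat.card B ≤ 4 := by
    by_contra hc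
    have h5 : 5 ≤ Nat.card B := by omega
    have h6 : 5 ^ 2 ≤ Nat.card B ^ 2 := Nat.pow_le_pow_left h5 2
    norm_num at h1 h6
    omega
  omega


theorem exists_reps (p : ℕ) : ∃ X : Finset G, (∀ x ∈ X, ∃ k : ℕ, orderOf x = p ^ k) ∧
    ∀ g : G, (∃ k : ℕ, orderOf g = p ^ k) → ∃! x, x ∈ X ∧ IsConj g x := by
  classical
  let r : G → G := fun g => Quotient.out (ConjClasses.mk g)
  have hr : ∀ g, ConjClasses.mk (r g) = ConjClasses.mk g := fun g => Quotient.out_eq _
  have hrc : ∀ g, IsConj g (r g) := fun g => ConjClasses.mk_eq_mk_iff_isConj.1 (hr g).symm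
  have hrr : ∀ g g', IsConj g g' → r g = r g' := by
    intro g g' h
    show Quotient.out (ConjClasses.mk g) = Quotient.out (ConjClasses.mk g')
    rw [ConjClasses.mk_eq_mk_iff_isConj.2 h]
  have ho : ∀ g g' : G, IsConj g g' → orderOf g' = orderOf g := by
    intro g g' h
    obtain ⟨t, ht⟩ := isConj_iff.1 h
    rw [← ht]; exact (MulAut.conj t).orderOf_eq g
  refine ⟨Finset.univ.filter (fun x => (∃ k : ℕ, orderOf x = p ^ k) ∧ r x = x), ?_, ?_⟩
  · intro x hx
    exact (Finset.mem_filter.1 hx).2.1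
  · intro g hg
    refine ⟨r g, ⟨Finset.mem_filter.2 ⟨Finset.mem_univ _, ?_, ?_⟩, hrc g⟩, ?_⟩
    · rw [ho g _ (hrc g)]; exact hg
    · exact (hrr _ _ (hrc g)).symm
    · rintro y ⟨hy, hgy⟩
      rw [hrr g y hgy]
      exact (Finset.mem_filter.1 hy).2.2.symm

theorem blockRank_pos (hp : p.Prime) {B : Set (IrrCharacter G)} {χ : IrrCharacter G} (hχ : χ ∈ B) :
    0 < blockRank p B := by
  classical
  unfold blockRank
  rw [Module.finrank_pos_iff_exists_ne_zero]
  refine ⟨⟨pRegularPart p (χ : G → ℂ), Submodule.subset_span ⟨χ, hχ, rfl⟩⟩, ?_⟩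
  intro h
  have h0 := congrArg Subtype.val h
  have h1 := congrFun h0 1
  simp only [ZeroMemClass.coe_zero, Pi.zero_apply] at h1
  rw [pRegularPart_apply, if_pos (by rw [orderOf_one]; exact hp.one_lt.ne' ∘ Nat.dvd_one.1)] at h1
  exact irr_one_ne_zero χ h1

theorem rank_eq_sum_reg (hM : IsPModular p M) {B : Set (IrrCharacter G)} (hB : IsPBlock M B)
    [DecidablePred (· ∈ B)] :
    (blockRank p B : ℂ)
      = (Nat.card G : ℂ)⁻¹ * ∑ g : G, (if ¬ p ∣ orderOf g then delta B g g else 0) := by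
  classical
  have h1 := card_eq_rank_add hM hB
  rw [card_eq_sum_delta] at h1
  have h2 : ∑ g : G, delta B g g = ∑ g : G, (if ¬ p ∣ orderOf g then delta B g g else 0)
      + ∑ g : G, (if p ∣ orderOf g then delta B g g else 0) := by
    rw [← Finset.sum_add_distrib]
    apply Finset.sum_congr rfl
    intro g _
    by_cases hg : p ∣ orderOf g <;> simp [hg]
  rw [h2, mul_add] at h1
  exact (add_right_cancel h1).symm

theorem rank_overSet_central [Fact p.Prime] (hM : IsPModular p M) {B : Set (IrrCharacter G)}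
    (hB : IsPBlock M B) (u : G) (hu : ∃ k : ℕ, orderOf u = p ^ k) (hc : ∀ g : G, g * u = u * g) :
    blockRank p (overSet M u B) = blockRank p B := by
  classical
  have h1 := section_contribution hM hB u hu
  have h2 := rank_eq_sum_reg hM hB
  have h3 : ∑ g : G, (if ∃ t : G, IsPPart p (t * g * t⁻¹) u then delta B g g else 0)
      = ∑ g : G, (if ¬ p ∣ orderOf g then delta B g g else 0) := by
    have e0 : ∀ g : G, (∃ t : G, IsPPart p (t * g * t⁻¹) u) ↔ IsPPart p g u := by
      intro g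
      constructor
      · rintro ⟨t, ht⟩
        have := Cfsg.Agent.Lib.Helper81Second2.isPPart_conj ht t⁻¹
        have e1 : t⁻¹ * (t * g * t⁻¹) * t⁻¹⁻¹ = g := by group
        have e2 : t⁻¹ * u * t⁻¹⁻¹ = u := by rw [hc t⁻¹]; group
        rwa [e1, e2] at this
      · intro h
        exact ⟨1, by simpa using h⟩
    simp only [e0]
    rw [← (Fintype.sum_equiv (Equiv.mulLeft u) (fun g => if IsPPart p (u * g) u then
      delta B (u * g) (u * g) else 0) (fun g => if IsPPart p g u then delta B g g else 0)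
      (fun g => rfl))]
    apply Finset.sum_congr rfl
    intro g _
    have e3 : IsPPart p (u * g) u ↔ ¬ p ∣ orderOf g := by
      rw [isPPart_mul_iff hu]
      constructor
      · exact fun h => h.2
      · exact fun h => ⟨Subgroup.mem_centralizer_singleton_iff.2 (hc g), h⟩
    simp only [e3]
    split_ifs
    · rfl
    · unfold delta
      apply Finset.sum_congr rfl
      intro χ _
      split_ifs
      · rw [Complex.mul_conj', Complex.mul_conj', irr_central_norm χ hc g]
      · rfl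
  have h4 : (blockRank p (overSet M u B) : ℂ) = (blockRank p B : ℂ) := by
    rw [← h1, h2, ← h3]
  exact_mod_cast h4

theorem rank_overSet_conj [Fact p.Prime] (hM : IsPModular p M) {B : Set (IrrCharacter G)}
    (hB : IsPBlock M B) {x x' : G} (hx : ∃ k : ℕ, orderOf x = p ^ k)
    (hx' : ∃ k : ℕ, orderOf x' = p ^ k) (h : IsConj x x') :
    blockRank p (overSet M x B) = blockRank p (overSet M x' B) := by
  classical
  have h1 := section_contribution hM hB x hx
  have h2 := section_contribution hM hB x' hx'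
  obtain ⟨s, hs⟩ := isConj_iff.1 h
  have e0 : ∀ g : G, (∃ t : G, IsPPart p (t * g * t⁻¹) x) ↔ (∃ t : G, IsPPart p (t * g * t⁻¹) x') := by
    intro g
    constructor
    · rintro ⟨t, ht⟩
      refine ⟨s * t, ?_⟩
      have := Cfsg.Agent.Lib.Helper81Second2.isPPart_conj ht s
      rw [hs] at this
      have e1 : s * (t * g * t⁻¹) * s⁻¹ = s * t * g * (s * t)⁻¹ := by group
      rwa [e1] at this
    · rintro ⟨t, ht⟩
      refine ⟨s⁻¹ * t, ?_⟩
      have := Cfsg.Agent.Lib.Helper81Second2.isPPart_conj ht s⁻¹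
      rw [← hs] at this
      have e1 : s⁻¹ * (t * g * t⁻¹) * s⁻¹⁻¹ = s⁻¹ * t * g * (s⁻¹ * t)⁻¹ := by group
      have e2 : s⁻¹ * (s * x * s⁻¹) * s⁻¹⁻¹ = x := by group
      rwa [e1, e2] at this
  simp only [e0] at h1
  have h4 : (blockRank p (overSet M x B) : ℂ) = (blockRank p (overSet M x' B) : ℂ) := by
    rw [← h1, ← h2]
  exact_mod_cast h4

theorem rank_le_overSet (hM : IsPModular p M) {B : Set (IrrCharacter G)} {x : G}
    {b : Set (IrrCharacter (Subgroup.centralizer ({x} : Set G)))}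
    (hb : IsInducedBlock M (Subgroup.centralizer ({x} : Set G)) b B) :
    blockRank p b ≤ blockRank p (overSet M x B) := by
  classical
  have hMp := hM.2.1.isPrime
  let _ : Fintype (Subgroup.centralizer ({x} : Set G)) := Fintype.ofFinite _
  rw [blockRank_union hM (isBlockUnion_overSet x B)]
  have hfin : {b : Set (IrrCharacter (Subgroup.centralizer ({x} : Set G))) |
      IsPBlock M b ∧ b ⊆ overSet M x B}.Finite := Set.toFinite _
  rw [finsum_mem_eq_finite_toFinset_sum _ hfin]
  apply Finset.single_le_sum (f := fun b => blockRank p b) (fun _ _ => Nat.zero_le _)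
  rw [hfin.mem_toFinset]
  refine ⟨hb.1, ?_⟩
  intro ψ hψ
  show IsInducedBlock M _ (blockOf M _) B
  rw [← isPBlock_eq_blockOf hb.1 hψ]
  exact hb

end Cfsg.Agent.Lib.Helper83Klein
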