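import Mathlib
import Cfsg.Agent.Lib.Helper83Klein
import Cfsg.Agent.Lib.Helper20Rel
import Cfsg.Agent.Lib.Helper20Conj

set_option autoImplicit false

namespace Cfsg.Agent.Lib.Helper83Klein2

open Cfsg
open Cfsg.Agent.Lib.Helper81Defect Cfsg.Agent.Lib.Helper81Height Cfsg.Agent.Lib.Helper81Block
  Cfsg.Agent.Lib.Helper81Count Cfsg.Agent.Lib.Helper81Subsec Cfsg.Agent.Lib.Helper81Section
  Cfsg.Agent.Lib.Helper81Orth2 Cfsg.Agent.Lib.Helper78Klein2 Cfsg.Agent.Lib.Helper81Rank
  Cfsg.Agent.Lib.Helper81Base Cfsg.Agent.Lib.Helper83Klein Cfsg.Agent.Lib.Helper20Major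
  Cfsg.Agent.Lib.Helper20DefCard Cfsg.Agent.Lib.Helper87Sylow
open scoped ComplexConjugate

variable {G : Type*} [Group G] [Fintype G] {M : Ideal AlgInt} {p : ℕ} {x : G}


theorem defect_two_of_card (hM : IsPModular 2 M) {B : Set (IrrCharacter G)} (hB : IsPBlock M B)
    {D : Subgroup G} (hD : IsDefectGroup 2 M B D) (hcard : Nat.card D = 4) :
    blockDefect 2 B = 2 := by
  have : Fact (Nat.Prime 2) := ⟨Nat.prime_two⟩
  have h := card_defectGroup hM hB hD
  rw [hcard] at h
  have h2 : (2 : ℕ) ^ 2 = 2 ^ blockDefect 2 B := by rw [← h]; norm_num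
  exact (Nat.pow_right_injective (le_refl 2) h2).symm

omit [Fintype G] in
theorem exists_third {D : Subgroup G} (hcard : Nat.card D = 4) (u : G) :
    ∃ v ∈ D, v ≠ 1 ∧ v ≠ u := by
  by_contra hcon
  push Not at hcon
  have hsub : (D : Set G) ⊆ {1, u} := by
    intro d hd
    by_cases h1 : d = 1
    · left; exact h1
    · right; exact hcon d hd h1
  have h1 : Nat.card D = (D : Set G).ncard := rfl
  have h2 := Set.ncard_le_ncard hsub (Set.toFinite _)
  have h3 : ({1, u} : Set G).ncard ≤ 2 := by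
    have := Set.ncard_insert_le (1 : G) {u}
    rw [Set.ncard_singleton] at this
    exact this
  omega

omit [Fintype G] in
theorem eq_of_three [Finite G] {D Z : Subgroup G} (hcard : Nat.card D = 4) (hZ : Z ≤ D) {u v : G}
    (hu : u ∈ Z) (hv : v ∈ Z) (hu1 : u ≠ 1) (hv1 : v ≠ 1) (hvu : v ≠ u) : Z = D := by
  have h1 := Subgroup.card_dvd_of_le hZ
  rw [hcard] at h1
  have hsub : ({1, u, v} : Set G) ⊆ (Z : Set G) := by
    intro d hd
    rcases hd with rfl | rfl | rfl
    · exact Z.one_mem
    · exact hu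
    · exact hv
  have h2 := Set.ncard_le_ncard hsub (Set.toFinite _)
  have h3 : ({1, u, v} : Set G).ncard = 3 := by
    rw [Set.ncard_eq_three]
    exact ⟨1, u, v, hu1.symm, hv1.symm, hvu.symm, rfl⟩
  have h4 : Nat.card Z = (Z : Set G).ncard := rfl
  have h5 : Nat.card Z ≤ 4 := Nat.le_of_dvd (by norm_num) h1
  have h6 : Nat.card Z = 4 := by
    have : Nat.card Z = 3 ∨ Nat.card Z = 4 := by omega
    rcases this with h | h
    · rw [h] at h1; norm_num at h1
    · exact h
  exact Subgroup.eq_of_le_of_card_ge hZ (by rw [hcard, h6])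

omit [Fintype G] in
theorem comm_of_exp {D : Subgroup G} (hexp : ∀ d ∈ D, d * d = 1) :
    ∀ a ∈ D, ∀ b ∈ D, a * b = b * a := by
  intro a ha b hb
  have h2 := hexp a ha
  have h3 := hexp b hb
  calc a * b = (b * b) * (a * b) * (a * a) := by rw [h2, h3]; group
    _ = b * (b * a) * (b * a) * a := by group
    _ = b * ((b * a) * (b * a)) * a := by group
    _ = b * a := by rw [hexp (b * a) (D.mul_mem hb ha)]; group

theorem rank_one_of_central (hM : IsPModular 2 M) {B : Set (IrrCharacter G)} (hB : IsPBlock M B)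
    {D : Subgroup G} (hD : IsDefectGroup 2 M B D) (hcard : Nat.card D = 4)
    (hexp : ∀ d ∈ D, d * d = 1) {u : G} (huD : u ∈ D) (hu1 : u ≠ 1) (hc : ∀ g : G, g * u = u * g) :
    blockRank 2 B = 1 := by
  classical
  have : Fact (Nat.Prime 2) := ⟨Nat.prime_two⟩
  have hMp := hM.2.1.isPrime
  have hd := defect_two_of_card hM hB hD hcard
  obtain ⟨v, hvD, hv1, hvu⟩ := exists_third hcard u
  have hv2 : orderOf v = 2 := orderOf_eq_prime (by rw [pow_two]; exact hexp v hvD) hv1
  have hu2 : orderOf u = 2 := orderOf_eq_prime (by rw [pow_two]; exact hexp u huD) hu1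
  have hvk : ∃ k : ℕ, orderOf v = 2 ^ k := ⟨1, by rw [hv2, pow_one]⟩
  have huk : ∃ k : ℕ, orderOf u = 2 ^ k := ⟨1, by rw [hu2, pow_one]⟩
  have hcomm : ∀ a ∈ D, ∀ b ∈ D, a * b = b * a := by
    intro a ha b hb
    have h1 := hexp (a * b) (D.mul_mem ha hb)
    have h2 := hexp a ha
    have h3 := hexp b hb
    calc a * b = (b * b) * (a * b) * (a * a) := by rw [h2, h3]; group
      _ = b * (b * a) * (b * a) * a := by group
      _ = b * ((b * a) * (b * a)) * a := by group
      _ = b * a := by rw [hexp (b * a) (D.mul_mem hb ha)]; group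
  set C := Subgroup.centralizer ({v} : Set G) with hC
  let _ : Fintype C := Fintype.ofFinite _
  have hDC : D ≤ C := by
    intro d hd
    rw [hC, Subgroup.mem_centralizer_singleton_iff]
    exact hcomm d hd v hvD
  obtain ⟨β, hβ, hβD⟩ := exists_block_induced_defectGroup hM (P := Subgroup.zpowers v) (H := C)
    (isPGroup_zpowers (k := 1) (by rw [hv2, pow_one])) (zpowers_le_centralizer v)
    (centralizer_zpowers_le v) (centralizer_singleton_le_normalizer v) hB hD
    (by rw [Subgroup.zpowers_le]; exact hvD) (hDC.trans (centralizer_singleton_le_zpowers v))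
  have hZ : D ⊓ Subgroup.centralizer (C : Set G) = D := by
    apply eq_of_three hcard inf_le_left (u := u) (v := v) _ _ hu1 hv1 hvu
    · refine Subgroup.mem_inf.2 ⟨huD, ?_⟩
      rw [Subgroup.mem_centralizer_iff]
      intro c _
      exact hc c
    · refine Subgroup.mem_inf.2 ⟨hvD, ?_⟩
      rw [Subgroup.mem_centralizer_iff]
      intro c hcC
      exact Subgroup.mem_centralizer_singleton_iff.1 hcC
  have hcen : D.subgroupOf C ≤ Subgroup.center C := by
    intro d hd
    rw [Subgroup.mem_center_iff]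
    intro c
    have h1 : (d : G) ∈ D ⊓ Subgroup.centralizer (C : Set G) := by rw [hZ]; exact hd
    have h2 := Subgroup.mem_centralizer_iff.1 h1.2 c c.2
    exact Subtype.ext h2
  have hl := Cfsg.Agent.S4669.result 2 M hM β hβ.1 _ hβD hcen
  have hβd : blockDefect 2 β = 2 := by
    apply defect_two_of_card hM hβ.1 hβD
    rw [Cfsg.Agent.Lib.Helper87Sylow.card_subgroupOf_of_le hDC, hcard]
  have h4 := card_eq_four hM hB hd v hvk β hβ hβd hl
  obtain ⟨X, hX, hXrep⟩ := exists_reps (G := G) 2
  have hk := card_block_eq hM hB X hX hXrep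
  have h1X : (1 : G) ∈ X := by
    obtain ⟨x, ⟨hx, hcx⟩, -⟩ := hXrep 1 ⟨0, by simp⟩
    obtain ⟨t, ht⟩ := isConj_iff.1 hcx
    have : x = 1 := by rw [← ht]; group
    rwa [this] at hx
  have huX : u ∈ X := by
    obtain ⟨x, ⟨hx, hcx⟩, -⟩ := hXrep u huk
    obtain ⟨t, ht⟩ := isConj_iff.1 hcx
    have : x = u := by rw [← ht, hc t]; group
    rwa [this] at hx
  obtain ⟨w, ⟨hwX, hcw⟩, -⟩ := hXrep v hvk
  obtain ⟨t, ht⟩ := isConj_iff.1 hcw
  have hw1 : w ≠ 1 := by
    rintro rfl
    apply hv1
    have : v = t⁻¹ * (t * v * t⁻¹) * t := by group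
    rw [this, ht]; group
  have hwu : w ≠ u := by
    rintro rfl
    apply hvu
    have : v = t⁻¹ * (t * v * t⁻¹) * t := by group
    rw [this, ht, hc t⁻¹]; group
  have hsub : ({1, u, w} : Finset G) ⊆ X := by
    intro x hx
    simp only [Finset.mem_insert, Finset.mem_singleton] at hx
    rcases hx with rfl | rfl | rfl
    · exact h1X
    · exact huX
    · exact hwX
  have hle := Finset.sum_le_sum_of_subset (f := fun x => blockRank 2 (overSet M x B)) hsub
  rw [Finset.sum_insert (by simp [hu1.symm, hw1.symm]), Finset.sum_insert (by simp [hwu.symm]),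
    Finset.sum_singleton, ← hk, h4, rank_overSet_central hM hB 1 ⟨0, by simp⟩ (by simp),
    rank_overSet_central hM hB u huk hc, ← rank_overSet_conj hM hB hvk (hX w hwX) hcw] at hle
  have h5 := rank_le_overSet hM hβ
  rw [hl] at h5
  obtain ⟨χ, hχ⟩ := isPBlock_nonempty hB
  have h6 := blockRank_pos (p := 2) Nat.prime_two hχ
  omega

omit [Fintype G] in
theorem normalizer_zpowers_le (hx : x * x = 1) (hx1 : x ≠ 1) :
    Subgroup.normalizer ((Subgroup.zpowers x : Subgroup G) : Set G)
      ≤ Subgroup.centralizer ({x} : Set G) := by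
  intro g hg
  rw [Subgroup.mem_normalizer_iff] at hg
  have h1 := (hg x).1 (Subgroup.mem_zpowers x)
  obtain ⟨k, hk⟩ := Subgroup.mem_zpowers_iff.1 h1
  rw [Subgroup.mem_centralizer_singleton_iff]
  have hx2 : x ^ (2 : ℤ) = 1 := by rw [zpow_two]; exact hx
  rcases Int.even_or_odd' k with ⟨m, rfl | rfl⟩
  · exfalso
    rw [zpow_mul, hx2, one_zpow] at hk
    apply hx1
    have : x = g⁻¹ * (g * x * g⁻¹) * g := by group
    rw [this, ← hk]; group
  · rw [zpow_add, zpow_mul, hx2, one_zpow, one_mul, zpow_one] at hk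
    calc g * x = (g * x * g⁻¹) * g := by group
      _ = x * g := by rw [← hk]

/-- local blocks of a block with Klein four defect groups. -/
theorem local_rank_one (hM : IsPModular 2 M) {B : Set (IrrCharacter G)} (hB : IsPBlock M B)
    {P : Subgroup G} (hP : IsDefectGroup 2 M B P) (hcard : Nat.card P = 4)
    (hexp : ∀ d ∈ P, d * d = 1) (hx : ∃ k : ℕ, orderOf x = 2 ^ k) (hx1 : x ≠ 1)
    {b : Set (IrrCharacter (Subgroup.centralizer ({x} : Set G)))}
    (hb : IsInducedBlock M (Subgroup.centralizer ({x} : Set G)) b B) :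
    blockRank 2 b = 1 ∧ blockDefect 2 b = 2 ∧ x * x = 1 := by
  classical
  have : Fact (Nat.Prime 2) := ⟨Nat.prime_two⟩
  have hMp := hM.2.1.isPrime
  let _ : Fintype (Subgroup.centralizer ({x} : Set G)) := Fintype.ofFinite _
  obtain ⟨D, hD⟩ := Cfsg.Agent.Lib.Helper20Induced.exists_defectGroup hM hb.1
  obtain ⟨E, hE, hle⟩ := Cfsg.Agent.Lib.Helper20Induced.defectGroup_le_of_induced (Subgroup.centralizer ({x} : Set G)) hM hb hD
  obtain ⟨t, rfl⟩ := Cfsg.Agent.Lib.Helper20Conj.defectGroup_conj hM hB hP hE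
  have hEexp : ∀ d ∈ cj t P, d * d = 1 := by
    intro d hd
    rw [mem_cj] at hd
    have := hexp _ hd
    calc d * d = t * ((t⁻¹ * d * t) * (t⁻¹ * d * t)) * t⁻¹ := by group
      _ = 1 := by rw [this]; group
  have hxH : x ∈ (Subgroup.centralizer ({x} : Set G)) := Subgroup.mem_centralizer_singleton_iff.2 rfl
  set x' : (Subgroup.centralizer ({x} : Set G)) := ⟨x, hxH⟩ with hx'
  have hcen : ∀ g : (Subgroup.centralizer ({x} : Set G)), g * x' = x' * g := by
    intro g
    exact Subtype.ext (Subgroup.mem_centralizer_singleton_iff.1 g.2)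
  have hx'1 : x' ≠ 1 := by
    intro h
    exact hx1 (congrArg Subtype.val h)
  have hnorm : (Subgroup.zpowers x').Normal := by
    constructor
    intro n hn g
    obtain ⟨k, rfl⟩ := Subgroup.mem_zpowers_iff.1 hn
    have h1 : Commute g x' := hcen g
    have h2 : g * x' ^ k * g⁻¹ = x' ^ k := by
      rw [(h1.zpow_right k).eq]; group
    rw [h2]
    exact Subgroup.zpow_mem_zpowers _ _
  obtain ⟨k, hk⟩ := hx
  have hox : orderOf x' = 2 ^ k := by rw [← hk]; exact Subgroup.orderOf_mk x hxH
  have hxD : x' ∈ D :=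
    Cfsg.Agent.Lib.Helper20Brauer.le_defectGroup_of_normal hM (Subgroup.zpowers x')
      (isPGroup_zpowers hox) hb.1 hD (Subgroup.mem_zpowers x')
  have hxx : x * x = 1 := hEexp x (hle ⟨x', hxD, rfl⟩)
  have hDexp : ∀ d ∈ D, d * d = 1 := by
    intro d hd
    exact Subtype.ext (hEexp d (hle ⟨d, hd, rfl⟩))
  have hcD := card_defectGroup hM hb.1 hD
  have hcle : Nat.card D ≤ 4 := by
    have := Subgroup.card_le_of_le hle
    rwa [Subgroup.card_map_of_injective (Subgroup.centralizer ({x} : Set G)).subtype_injective, card_cj, hcard] at this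
  have ho2 : orderOf x' = 2 := orderOf_eq_prime (by rw [pow_two]; exact hDexp x' hxD) hx'1
  have hzle : Subgroup.zpowers x' ≤ D := by rw [Subgroup.zpowers_le]; exact hxD
  have hc2 : Nat.card (Subgroup.zpowers x') = 2 := by rw [Nat.card_zpowers, ho2]
  have hcD4 : Nat.card D = 4 := by
    by_contra hne
    have h2 : 2 ≤ Nat.card D := by rw [← hc2]; exact Subgroup.card_le_of_le hzle
    have hd1 : blockDefect 2 b = 1 := by
      rcases Nat.lt_or_ge (blockDefect 2 b) 2 with h | h
      · rcases Nat.lt_or_ge (blockDefect 2 b) 1 with h' | h'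
        · have : blockDefect 2 b = 0 := by omega
          rw [this] at hcD; omega
        · omega
      · exfalso
        have h3 : 2 ^ 2 ≤ 2 ^ blockDefect 2 b := Nat.pow_le_pow_right (by norm_num) h
        rw [← hcD] at h3
        omega
    rw [hd1, pow_one] at hcD
    have hDz : Subgroup.zpowers x' = D :=
      Subgroup.eq_of_le_of_card_ge hzle (by rw [hcD, hc2])
    have hDz' : (Subgroup.zpowers x).subgroupOf (Subgroup.centralizer ({x} : Set G)) = D := by
      rw [← hDz]
      ext g
      rw [Subgroup.mem_subgroupOf, Subgroup.mem_zpowers_iff, Subgroup.mem_zpowers_iff]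
      constructor
      · rintro ⟨j, hj⟩
        exact ⟨j, Subtype.ext (by simpa using hj)⟩
      · rintro ⟨j, hj⟩
        exact ⟨j, by rw [← hj]; simp [hx']⟩
    rw [← hDz'] at hD
    have h5 := Cfsg.Agent.Lib.Helper20Rel.induced_defectGroup_of_le hM (P := Subgroup.zpowers x)
      (H := Subgroup.centralizer ({x} : Set G)) (isPGroup_zpowers hk) (normalizer_zpowers_le hxx hx1) hD hb
    have h6 := card_defectGroup hM hB h5
    have h7 := card_defectGroup hM hB hP
    rw [← h7, hcard, Nat.card_zpowers, ← Subgroup.orderOf_mk x hxH, ho2] at h6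
    omega
  exact ⟨rank_one_of_central hM hb.1 hD hcD4 hDexp hxD hx'1 hcen,
    defect_two_of_card hM hb.1 hD hcD4, hxx⟩

/-- a block with Klein four defect groups has four irreducible characters. -/
theorem card_eq_four_of_klein (hM : IsPModular 2 M) {B : Set (IrrCharacter G)} (hB : IsPBlock M B)
    {P : Subgroup G} (hP : IsDefectGroup 2 M B P) (hcard : Nat.card P = 4)
    (hexp : ∀ d ∈ P, d * d = 1) : Nat.card B = 4 := by
  classical
  have : Fact (Nat.Prime 2) := ⟨Nat.prime_two⟩
  obtain ⟨v, hvP, hv1, -⟩ := exists_third hcard 1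
  have hv2 : orderOf v = 2 := orderOf_eq_prime (by rw [pow_two]; exact hexp v hvP) hv1
  have hvk : ∃ k : ℕ, orderOf v = 2 ^ k := ⟨1, by rw [hv2, pow_one]⟩
  have hcomm : ∀ a ∈ P, ∀ b ∈ P, a * b = b * a := comm_of_exp hexp
  let _ : Fintype (Subgroup.centralizer ({v} : Set G)) := Fintype.ofFinite _
  have hDC : P ≤ Subgroup.centralizer ({v} : Set G) := by
    intro d hd
    rw [Subgroup.mem_centralizer_singleton_iff]
    exact hcomm d hd v hvP
  obtain ⟨β, hβ, -⟩ := exists_block_induced_defectGroup hM (P := Subgroup.zpowers v)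
    (H := Subgroup.centralizer ({v} : Set G))
    (isPGroup_zpowers (k := 1) (by rw [hv2, pow_one])) (zpowers_le_centralizer v)
    (centralizer_zpowers_le v) (centralizer_singleton_le_normalizer v) hB hP
    (by rw [Subgroup.zpowers_le]; exact hvP) (hDC.trans (centralizer_singleton_le_zpowers v))
  obtain ⟨h1, h2, -⟩ := local_rank_one hM hB hP hcard hexp hvk hv1 hβ
  exact card_eq_four hM hB (defect_two_of_card hM hB hP hcard) v hvk β hβ h2 h1

end Cfsg.Agent.Lib.Helper83Klein2
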