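import Mathlib
import Cfsg.Agent.Lib.Helper83Klein2
import Cfsg.Agent.Lib.Helper80Abel
import Cfsg.Agent.Lib.Helper80Sat
import Cfsg.Agent.Lib.Helper81Subsec4

set_option autoImplicit false

namespace Cfsg.Agent.Lib.Helper83Klein3

open Cfsg
open Cfsg.Agent.Lib.Helper20Local
open Cfsg.Agent.Lib.Helper20Center Cfsg.Agent.Lib.Helper20Block
open Cfsg.Agent.Lib.Helper20Induced
open Cfsg.Agent.Lib.Helper80Brauer Cfsg.Agent.Lib.Helper80Transport
open Cfsg.Agent.Lib.Helper80Pairs Cfsg.Agent.Lib.Helper87Sylow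
open Cfsg.Agent.Lib.Helper80Stab Cfsg.Agent.Lib.Helper80Trace Cfsg.Agent.Lib.Helper80Incl
open Cfsg.Agent.Lib.Helper80Conj Cfsg.Agent.Lib.Helper80Full Cfsg.Agent.Lib.Helper80Full2
open Cfsg.Agent.Lib.Helper80Up Cfsg.Agent.Lib.Helper80BFus Cfsg.Agent.Lib.Helper80Abel
open Cfsg.Agent.Lib.Helper20Major
open scoped ComplexConjugate

variable {M : Ideal Cfsg.AlgInt} {p : ℕ} [Fact p.Prime]
variable {G : Type*} [Group G] [Fintype G]

omit [Fact p.Prime] in
theorem lam_of_induced (hM : IsPModular p M) {K : Subgroup G} [Fintype K]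
    {e : Set (IrrCharacter K)} {B : Set (IrrCharacter G)} (h : IsInducedBlock M K e B) :
    ∀ ξ ∈ e, MemLocalIdeal M (lam K (ξ : K → ℂ) (blockCoeff B) - 1) := by
  classical
  have hPr := IsPModular.isPrime hM
  intro ξ hξ
  obtain ⟨χ, hχ⟩ := IsPBlock.nonempty hPr h.2.1
  have := isInducedBlock_om K hPr h hξ hχ (isSC_blockCoeff hPr h.2.1)
  rw [om_blockCoeff, if_pos hχ] at this
  exact this

theorem pair_of_induced (hM : IsPModular p M) {Q : Subgroup G} (hQ : IsPGroup p Q)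
    {e : Set (IrrCharacter (Subgroup.centralizer (Q : Set G)))} {B : Set (IrrCharacter G)}
    (h : IsInducedBlock M (Subgroup.centralizer (Q : Set G)) e B) : IsBrauerPairOf p M B Q e := by
  classical
  rw [isBrauerPairOf_iff]
  exact ⟨⟨hQ, h.1⟩, h.2.1, lam_of_induced hM h⟩

omit [Fintype G] in
theorem centralizer_singleton_eq (x : G) : Subgroup.centralizer ({x} : Set G)
    = Subgroup.centralizer ((Subgroup.zpowers x : Subgroup G) : Set G) :=
  le_antisymm (centralizer_singleton_le_zpowers x) (centralizer_zpowers_le x)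

theorem exists_pair_of_subsection (hM : IsPModular p M) {x : G} (hx : ∃ k : ℕ, orderOf x = p ^ k)
    {b : Set (IrrCharacter (Subgroup.centralizer ({x} : Set G)))} {B : Set (IrrCharacter G)}
    (h : IsInducedBlock M (Subgroup.centralizer ({x} : Set G)) b B) :
    ∃ f : Set (IrrCharacter (Subgroup.centralizer ((Subgroup.zpowers x : Subgroup G) : Set G))),
      IsBrauerPairOf p M B (Subgroup.zpowers x) f ∧
        pfun (Subgroup.zpowers x) f = ext (Subgroup.centralizer ({x} : Set G)) (blockCoeff b) := by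
  classical
  have aux : ∀ (K K' : Subgroup G) (_ : K = K') (b : Set (IrrCharacter K)),
      IsInducedBlock M K b B → ∃ f : Set (IrrCharacter K'), IsInducedBlock M K' f B ∧
        ext K' (blockCoeff f) = ext K (blockCoeff b) := by
    rintro K _ rfl b hb
    exact ⟨b, hb, rfl⟩
  obtain ⟨f, hf, hfe⟩ := aux _ _ (centralizer_singleton_eq x) b h
  obtain ⟨k, hk⟩ := hx
  exact ⟨f, pair_of_induced hM (isPGroup_zpowers hk) hf, hfe⟩

theorem exists_subsection_of_pair (hM : IsPModular p M) {x : G}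
    (hx : ∃ k : ℕ, orderOf x = p ^ k) {B : Set (IrrCharacter G)}
    {f : Set (IrrCharacter (Subgroup.centralizer ((Subgroup.zpowers x : Subgroup G) : Set G)))}
    (h : IsBrauerPairOf p M B (Subgroup.zpowers x) f) :
    ∃ b : Set (IrrCharacter (Subgroup.centralizer ({x} : Set G))),
      IsInducedBlock M (Subgroup.centralizer ({x} : Set G)) b B ∧
        ext (Subgroup.centralizer ({x} : Set G)) (blockCoeff b) = pfun (Subgroup.zpowers x) f := by
  classical
  have aux : ∀ (K K' : Subgroup G) (_ : K = K') (f : Set (IrrCharacter K')),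
      IsPBlock M f → (∀ ξ ∈ f, MemLocalIdeal M ((∑ᶠ y : K', blockCoeff B y * (ξ : K' → ℂ) y /
        (ξ : K' → ℂ) 1) - 1)) → ∃ b : Set (IrrCharacter K), IsPBlock M b ∧
        (∀ ξ ∈ b, MemLocalIdeal M ((∑ᶠ y : K, blockCoeff B y * (ξ : K → ℂ) y /
        (ξ : K → ℂ) 1) - 1)) ∧ ext K (blockCoeff b) = ext K' (blockCoeff f) := by
    rintro K _ rfl b hb hb2
    exact ⟨b, hb, hb2, rfl⟩
  obtain ⟨b, hb1, hb2, hb3⟩ := aux _ _ (centralizer_singleton_eq x) f h.1.2 h.2.2
  exact ⟨b, Cfsg.Agent.Lib.Helper81Subsec4.isInducedBlock_of_om hM x hx hb1 h.2.1 hb2, hb3⟩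

/-- control of fusion of pairs by `N_G(P, e)` for abelian defect groups. -/
theorem control_of_abelian (hM : IsPModular p M) {B : Set (IrrCharacter G)}
    {P : Subgroup G} {e : Set (IrrCharacter (Subgroup.centralizer (P : Set G)))}
    (hmax : IsMaximalBrauerPair p M B P e) (hab : ∀ x ∈ P, ∀ y ∈ P, x * y = y * x)
    {a a' : BrauerPairIdx G} (ha : PLE p M a ⟨P, e⟩) (ha' : PLE p M a' ⟨P, e⟩) {g : G}
    (hg : cjPair g a = a') :
    ∃ y ∈ pstab P e, ∃ c ∈ Subgroup.centralizer (a.1 : Set G), g = y * c := by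
  classical
  have hPr := IsPModular.isPrime hM
  obtain ⟨Q, f⟩ := a
  obtain ⟨Q', f'⟩ := a'
  have hcen : ∀ R : Subgroup G, R ≤ P → P ≤ Subgroup.centralizer (R : Set G) := by
    intro R hR y hy
    rw [Subgroup.mem_centralizer_iff]
    intro q hq
    exact hab q (hR hq) y hy
  have hPC := hcen Q ha.le
  have hPC' := hcen Q' ha'.le
  have hn := isNormalSubpair_of_ple hM hmax.1.1 ha
    (hPC.trans (Subgroup.centralizer_le_normalizer _))
  have hn2 := isNormalSubpair_of_ple hM hmax.1.1 ha'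
    (hPC'.trans (Subgroup.centralizer_le_normalizer _))
  have hf : IsPBlock M f := hn.1.2
  have hD := isDefectGroup_of_abelian hM hmax ha hPC
  have hback : cjPair g⁻¹ ⟨Q', f'⟩ = ⟨Q, f⟩ := by
    rw [← hg, ← cjPair_mul, inv_mul_cancel, cjPair_one]
  have hn' : NormalSubpairRel p M (cjPair g⁻¹ ⟨Q', f'⟩) (cjPair g⁻¹ ⟨P, e⟩) :=
    isNormalSubpair_cj hPr hn2 g⁻¹
  rw [hback] at hn'
  have hcH : (cjPair g⁻¹ ⟨P, e⟩).1 ≤ Subgroup.centralizer (Q : Set G) := by
    have h1 : cj g⁻¹ P ≤ cj g⁻¹ (Subgroup.centralizer (Q' : Set G)) := cj_mono hPC'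
    have h2 : cj g⁻¹ Q' = Q := congrArg Sigma.fst hback
    rw [cj_centralizer, h2] at h1
    exact h1
  obtain ⟨h, hh, hle'⟩ := exists_conj_le_rel (H := Subgroup.centralizer (Q : Set G)) hM hf rfl
    le_rfl (c := cjPair g⁻¹ ⟨P, e⟩) (d := ⟨P, e⟩) hn' hn hcH hPC hD
  rw [← cjPair_mul] at hle'
  have heq := eq_of_ple_of_card hM hle' (by
    show Nat.card P ≤ Nat.card (cj (h * g⁻¹) P)
    rw [card_cj])
  have hy : h * g⁻¹ ∈ pstab P e := mem_pstab_iff.2 heq
  refine ⟨(h * g⁻¹)⁻¹, Subgroup.inv_mem _ hy, h, hh, ?_⟩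
  group

omit [Fintype G] [Fact p.Prime] in
theorem cj_zpowers (g x : G) : cj g (Subgroup.zpowers x) = Subgroup.zpowers (g * x * g⁻¹) := by
  show (Subgroup.zpowers x).map (MulAut.conj g).toMonoidHom = _
  rw [MonoidHom.map_zpowers]
  rfl

end Cfsg.Agent.Lib.Helper83Klein3
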