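import Mathlib
import Cfsg.Prelude.Def_Blocks
import Cfsg.Agent.Lib.Helper84Subsec2

set_option autoImplicit false

/-!
A local-integral combination of irreducible characters vanishing on the `p`-singular elements has
values divisible by the order of the centralizer.
-/

namespace Cfsg.Agent.Lib.Helper84KleinB

open Cfsg
open Cfsg.Agent.Lib.Helper81Local Cfsg.Agent.Lib.Helper81Base Cfsg.Agent.Lib.Helper81Orth2
  Cfsg.Agent.Lib.Helper84Subsec2 Cfsg.Agent.Lib.Helper4Char
open scoped ComplexConjugate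

variable {G : Type*} [Group G] [Fintype G] {p : ℕ} {M : Ideal AlgInt}

/-- sums of a character over a coset `z Q` with `z` central in `K ≥ Q`. -/
theorem sum_coset (χ : IrrCharacter G) (K : Subgroup G) [Fintype K] (z : K)
    (hzc : ∀ h : K, h * z = z * h) (Q : Subgroup K) [Fintype Q] :
    ∃ β : ℂ, IsIntegral ℤ β ∧
      ∑ w : Q, (χ : G → ℂ) ((z : G) * ((w : K) : G)) = (Nat.card Q : ℂ) * β := by
  classical
  set F : K → ℂ := fun c => (χ : G → ℂ) ((z : G) * c) with hF
  have hcl : IsClassFunction K F := by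
    intro c h
    have e : ((z : G) * ((h * c * h⁻¹ : K) : G)) = (h : G) * ((z : G) * c) * (h : G)⁻¹ := by
      have h1 : (h : G) * (z : G) = (z : G) * (h : G) := congrArg Subtype.val (hzc h)
      push_cast
      calc (z : G) * ((h : G) * c * (h : G)⁻¹) = ((z : G) * (h : G)) * c * (h : G)⁻¹ := by group
        _ = ((h : G) * (z : G)) * c * (h : G)⁻¹ := by rw [h1]
        _ = _ := by group
    show (χ : G → ℂ) _ = (χ : G → ℂ) _
    rw [e]
    exact (IsIrrCharacter.isClassFunction χ.2) _ _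
  have hexp := classFunction_eq_sum F hcl
  have hco : ∀ ζ : IrrCharacter K, classInner F (ζ : K → ℂ)
      = lam (ζ : K → ℂ) z * AA (χ : G → ℂ) (ζ : K → ℂ) := fun ζ => classInner_shift _ ζ hzc
  choose n hn using fun ζ : IrrCharacter K => sum_subgroup ζ Q
  choose a ha using fun ζ : IrrCharacter K => AA_nat χ ζ
  refine ⟨∑ ζ : IrrCharacter K, lam (ζ : K → ℂ) z * (a ζ : ℂ) * (n ζ : ℂ), ?_, ?_⟩
  · apply IsIntegral.sum
    intro ζ _
    have h1 : IsIntegral ℤ (lam (ζ : K → ℂ) z) := by
      have h2 := lam_pow_eq_one ζ hzc (pow_orderOf_eq_one z)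
      exact IsIntegral.of_pow (orderOf_pos z) (by rw [h2]; exact isIntegral_one)
    exact (h1.mul (isIntegral_natCast _)).mul (isIntegral_natCast _)
  · have h1 : ∀ w : Q, (χ : G → ℂ) ((z : G) * ((w : K) : G))
        = ∑ ζ : IrrCharacter K, lam (ζ : K → ℂ) z * (a ζ : ℂ) * (ζ : K → ℂ) w := by
      intro w
      have h2 := congrFun hexp (w : K)
      rw [Finset.sum_apply] at h2
      simp only [Pi.smul_apply, smul_eq_mul, hco, ha] at h2
      exact h2
    rw [Finset.sum_congr rfl (fun w _ => h1 w), Finset.sum_comm, Finset.mul_sum]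
    apply Finset.sum_congr rfl
    intro ζ _
    rw [← Finset.mul_sum, hn ζ]
    ring

omit [Fintype G] in
theorem dvd_orderOf_mul (hp : p.Prime) {x w : G} (hc : Commute x w) (hx : ¬ p ∣ orderOf x)
    (hw : ∃ k : ℕ, orderOf w = p ^ k) (hw1 : w ≠ 1) : p ∣ orderOf (x * w) := by
  by_contra hcon
  obtain ⟨k, hk⟩ := hw
  have h1 : (x * w) ^ (orderOf x * orderOf (x * w)) = 1 := by
    rw [pow_mul']
    simp [pow_orderOf_eq_one]
  rw [hc.mul_pow, pow_mul, pow_orderOf_eq_one, one_pow, one_mul] at h1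
  have h2 := orderOf_dvd_of_pow_eq_one h1
  rw [hk] at h2
  have hcop : Nat.Coprime (p ^ k) (orderOf x * orderOf (x * w)) := by
    apply Nat.Coprime.pow_left
    exact Nat.Coprime.mul_right ((Nat.Prime.coprime_iff_not_dvd hp).2 hx)
      ((Nat.Prime.coprime_iff_not_dvd hp).2 hcon)
  have h3 : p ^ k = 1 := Nat.Coprime.eq_one_of_dvd hcop h2
  rw [h3] at hk
  exact hw1 (orderOf_eq_one_iff.1 hk)

/-- **values of combinations vanishing on singular elements.** -/
theorem vanish_div [Fact p.Prime] (hM : IsPModular p M) {ι : Type*} (s : Finset ι)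
    (X : ι → IrrCharacter G) (a : ι → ℂ) (ha : ∀ i ∈ s, MemLocalRing M (a i))
    (hv : ∀ y : G, p ∣ orderOf y → ∑ i ∈ s, a i * (X i : G → ℂ) y = 0) (x : G) :
    MemLocalRing M ((∑ i ∈ s, a i * (X i : G → ℂ) x)
      / (Nat.card (Subgroup.centralizer ({x} : Set G)) : ℂ)) := by
  classical
  have hPr := hM.2.1.isPrime
  have hp : p.Prime := Fact.out
  by_cases hx : p ∣ orderOf x
  · rw [hv x hx, zero_div]
    exact MemLocalIdeal.memLocalRing memLocalIdeal_zero
  set K := Subgroup.centralizer ({x} : Set G) with hK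
  obtain ⟨Q⟩ : Nonempty (Sylow p K) := inferInstance
  let _ : Fintype (Q : Subgroup K) := Fintype.ofFinite _
  let _ : Fintype K := Fintype.ofFinite _
  have hxK : x ∈ K := Subgroup.mem_centralizer_singleton_iff.2 rfl
  have hzc : ∀ h : K, h * (⟨x, hxK⟩ : K) = ⟨x, hxK⟩ * h := by
    intro h
    apply Subtype.ext
    exact Subgroup.mem_centralizer_singleton_iff.1 h.2
  choose β hβ hβs using fun χ : IrrCharacter G => sum_coset χ K ⟨x, hxK⟩ hzc (Q : Subgroup K)
  have h1 : ∑ w : (Q : Subgroup K), ∑ i ∈ s, a i * (X i : G → ℂ) (x * ((w : K) : G))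
      = ∑ i ∈ s, a i * (X i : G → ℂ) x := by
    rw [Finset.sum_eq_single (1 : (Q : Subgroup K))]
    · simp
    · intro w _ hw1
      apply hv
      apply dvd_orderOf_mul hp
      · exact (Subgroup.mem_centralizer_singleton_iff.1 (w : K).2).symm
      · exact hx
      · obtain ⟨k, hk⟩ := (IsPGroup.iff_orderOf.1 Q.isPGroup') w
        refine ⟨k, ?_⟩
        rw [Subgroup.orderOf_coe, Subgroup.orderOf_coe]
        exact hk
      · intro h
        apply hw1
        apply Subtype.ext
        apply Subtype.ext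
        exact h
    · intro h
      exact absurd (Finset.mem_univ _) h
  have h2 : ∑ i ∈ s, a i * (X i : G → ℂ) x
      = (Nat.card (Q : Subgroup K) : ℂ) * ∑ i ∈ s, a i * β (X i) := by
    rw [← h1, Finset.sum_comm, Finset.mul_sum]
    apply Finset.sum_congr rfl
    intro χ _
    rw [← Finset.mul_sum, hβs (X χ)]
    ring
  have h3 : (Nat.card K : ℂ) = (Nat.card (Q : Subgroup K) : ℂ) * ((Q : Subgroup K).index : ℂ) := by
    exact_mod_cast ((Q : Subgroup K).card_mul_index).symm
  have h4 : ¬ p ∣ (Q : Subgroup K).index := Q.not_dvd_index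
  have h5 : (Nat.card (Q : Subgroup K) : ℂ) ≠ 0 := by
    exact_mod_cast Nat.card_pos.ne'
  have h6 : MemLocalRing M (((Q : Subgroup K).index : ℂ))⁻¹ :=
    memLocalRing_inv (memLocalRing_natCast _) (fun h => h4 ((memLocalIdeal_natCast_iff hM).1 h))
  rw [h2, h3, mul_div_mul_left _ _ h5, div_eq_mul_inv]
  refine memLocalRing_mul (memLocalRing_sum _ _ (fun i hi => ?_)) h6
  exact memLocalRing_mul (ha i hi) (memLocalRing_of_isIntegral (hβ (X i)))

end Cfsg.Agent.Lib.Helper84KleinB
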