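import Mathlib
import Cfsg.Prelude.Def_BrauerPairs
import Cfsg.Agent.Lib.Helper78AbNil
import Cfsg.Agent.Lib.Helper82Major
import Cfsg.Agent.Lib.Helper83Klein3
import Cfsg.Agent.Lib.Helper21Rank
import Cfsg.Agent.Lib.Helper21Quot2
import Cfsg.Agent.Lib.Helper59BLCoh
import Cfsg.Agent.Lib.Helper84KleinB

/-!
# Vocabulary for PROJECT 81: blocks of defect one in arbitrary finite groups
(lattice structure) and the Brauer-Feit bound `k(B) ≤ p^2` for blocks of defect two.
-/

set_option autoImplicit false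

namespace Cfsg.Agent.Lib.Helper81D1Defs

open Cfsg
open Cfsg.Agent.Lib.Helper81Rank Cfsg.Agent.Lib.Helper84Subsec2 Cfsg.Agent.Lib.Helper80Trace
  Cfsg.Agent.Lib.Helper82Quot
open scoped ComplexConjugate

section abs

variable {K : Type*} [Group K] [Fintype K]

/-- the facts on a block `c` of `K` whose defect group is generated by the central element `u`
of order `p`. -/
structure CB (p : ℕ) (c : Set (IrrCharacter K)) (u : K) : Prop where
  central : ∀ h : K, h * u = u * h
  order : orderOf u = p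
  rank : blockRank p c = 1
  card : Nat.card c = p
  reg : ∀ ζ ∈ c, ∀ ξ ∈ c, ∀ y : K, ¬ p ∣ orderOf y → (ζ : K → ℂ) y = (ξ : K → ℂ) y
  norm : ∀ ζ ∈ c, ∀ ξ ∈ c, (p : ℂ) * regInner p (ζ : K → ℂ) (ξ : K → ℂ) = 1
  inj : ∀ ζ ∈ c, ∀ ξ ∈ c,
    (ζ : K → ℂ) u / (ζ : K → ℂ) 1 = (ξ : K → ℂ) u / (ξ : K → ℂ) 1 → ζ = ξ

/-- the generalized character with integer coefficients `y`. -/
noncomputable def gc (y : IrrCharacter K → ℤ) : K → ℂ :=
  fun g => ∑ χ : IrrCharacter K, (y χ : ℂ) * (χ : K → ℂ) g

open Classical in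
/-- coefficient vectors on `K ⧸ Z` transported to `K` by inflation. -/
noncomputable def lift (Z : Subgroup K) [Z.Normal] [Fintype (K ⧸ Z)]
    (m : IrrCharacter (K ⧸ Z) → ℤ) : IrrCharacter K → ℤ :=
  fun ζ => ∑ ψ : IrrCharacter (K ⧸ Z), if inflate Z ψ = ζ then m ψ else 0

end abs

section loc

variable {G : Type*} [Group G] [Fintype G]

open Classical in
/-- the generalized decomposition number of `χ` at `(u^t, e)` (when `l(e) = 1`). -/
noncomputable def dd {H : Subgroup G} [Fintype H] (e : Set (IrrCharacter H)) (u : H)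
    (χ : IrrCharacter G) (t : ℕ) : ℂ :=
  ∑ ζ : IrrCharacter H, if ζ ∈ e then (nA χ ζ : ℂ) * lam (ζ : H → ℂ) u ^ t else 0

open Classical in
/-- the exponents `r` such that `u ↦ u^r` is induced by the stabilizer of the pair `(P, e)`. -/
noncomputable def EE (p : ℕ) (P : Subgroup G)
    (e : Set (IrrCharacter (Subgroup.centralizer (P : Set G)))) (u : G) : Finset ℕ :=
  (Finset.range p).filter (fun r => ∃ n ∈ pstab P e, n * u * n⁻¹ = u ^ r)

/-- the local data of a block `B` of defect one: a maximal Brauer pair `(P, e)`, `|P| = p`, and a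
generator `u` of `P` (as an element of `C_G(P)`). -/
structure Ctx (p : ℕ) [Fact p.Prime] (M : Ideal AlgInt) (B : Set (IrrCharacter G))
    (P : Subgroup G) (e : Set (IrrCharacter (Subgroup.centralizer (P : Set G))))
    (u : Subgroup.centralizer (P : Set G)) : Prop where
  hM : IsPModular p M
  hmax : IsMaximalBrauerPair p M B P e
  hP : Nat.card P = p
  hu : orderOf (u : G) = p
  hzp : P = Subgroup.zpowers (u : G)
  hcen : ∀ h : Subgroup.centralizer (P : Set G), h * u = u * h
  hH : ∀ t : ℕ, t.Coprime p →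
    Subgroup.centralizer (P : Set G) = Subgroup.centralizer ({(u : G) ^ t} : Set G)
  hind : IsInducedBlock M (Subgroup.centralizer (P : Set G)) e B
  hdB : blockDefect p B = 1
  hde : blockDefect p e = 1
  hdef : IsDefectGroup p M e (Subgroup.zpowers u)

end loc

end Cfsg.Agent.Lib.Helper81D1Defs
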