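import Mathlib
import Cfsg.Agent.Lib.Helper81D1Defs

/-!
Project 81, piece `nconst`: abstract Fourier inversion (`const_iff`) and its consequence `nconst'`.
-/

set_option autoImplicit false
set_option linter.unusedVariables false
set_option linter.unusedSectionVars false

namespace Cfsg.Agent.Lib.Helper5D1Nconst

open Cfsg
open Cfsg.Agent.Lib.Helper81Local Cfsg.Agent.Lib.Helper81Rank Cfsg.Agent.Lib.Helper84Subsec
  Cfsg.Agent.Lib.Helper84Subsec2 Cfsg.Agent.Lib.Helper84Contrib Cfsg.Agent.Lib.Helper80Trace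
  Cfsg.Agent.Lib.Helper80Brauer Cfsg.Agent.Lib.Helper80Transport Cfsg.Agent.Lib.Helper82Quot
  Cfsg.Agent.Lib.Helper82Major Cfsg.Agent.Lib.Helper78Sec Cfsg.Agent.Lib.Helper81D1Defs
open scoped ComplexConjugate

universe u

theorem geom_zero {x : ℂ} {p : ℕ} (h : x ^ p = 1) (h1 : x ≠ 1) :
    ∑ i ∈ Finset.range p, x ^ i = 0 := by
  have := geom_sum_mul x p
  rw [h, sub_self] at this
  rcases mul_eq_zero.mp this with h2 | h2
  · exact h2
  · exact absurd (sub_eq_zero.mp h2) h1

/-- the sum of the `t`-th powers of all the `p`-th roots of unity. -/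
theorem sum_pow_zero {Λ : Type*} [Fintype Λ] (p : ℕ) (hp : p.Prime)
    (a : Λ → ℂ) (ha : ∀ l, a l ^ p = 1) (hinj : Function.Injective a)
    (hcard : Fintype.card Λ = p) (t : ℕ) (ht0 : 0 < t) (htp : t < p) :
    ∑ l, a l ^ t = 0 := by
  classical
  have hz := Complex.isPrimitiveRoot_exp p hp.ne_zero
  have : NeZero p := ⟨hp.ne_zero⟩
  set z := Complex.exp (2 * Real.pi * Complex.I / p) with hzdef
  have hex : ∀ l, ∃ i : Fin p, z ^ (i : ℕ) = a l := by
    intro l
    obtain ⟨i, hi, h⟩ := hz.eq_pow_of_pow_eq_one (ha l)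
    exact ⟨⟨i, hi⟩, h⟩
  choose ε hε using hex
  have hεinj : Function.Injective ε := by
    intro l l' h
    apply hinj
    rw [← hε l, ← hε l', h]
  have hεbij : Function.Bijective ε := by
    rw [Fintype.bijective_iff_injective_and_card]
    exact ⟨hεinj, by rw [hcard, Fintype.card_fin]⟩
  have h1 : ∑ l, a l ^ t = ∑ i : Fin p, (z ^ t) ^ (i : ℕ) := by
    rw [← Function.Bijective.sum_comp hεbij (fun i : Fin p => (z ^ t) ^ (i : ℕ))]
    apply Finset.sum_congr rfl
    intro l _
    rw [← hε l, ← pow_mul, ← pow_mul, mul_comm]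
  rw [h1, Fin.sum_univ_eq_sum_range (fun i => (z ^ t) ^ i) p]
  apply geom_zero
  · rw [← pow_mul, mul_comm, pow_mul, hz.pow_eq_one, one_pow]
  · intro h
    have := hz.dvd_of_pow_eq_one t h
    exact absurd (Nat.le_of_dvd ht0 this) (by omega)

/-- piece `nconst` (first statement) -/
theorem const_iff {Λ : Type*} [Fintype Λ] (p : ℕ) (hp : p.Prime)
    (a : Λ → ℂ) (ha : ∀ l, a l ^ p = 1) (hinj : Function.Injective a)
    (hcard : Fintype.card Λ = p) (n : Λ → ℤ) :
    (∀ l l', n l = n l') ↔ ∀ t : ℕ, 0 < t → t < p → ∑ l, (n l : ℂ) * a l ^ t = 0 := by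
  classical
  constructor
  · intro hc t ht0 htp
    have hne : Nonempty Λ := by
      rw [← Fintype.card_pos_iff, hcard]; exact hp.pos
    obtain ⟨l₀⟩ := hne
    have : ∀ l, (n l : ℂ) * a l ^ t = (n l₀ : ℂ) * a l ^ t := fun l => by rw [hc l l₀]
    simp only [this]
    rw [← Finset.mul_sum, sum_pow_zero p hp a ha hinj hcard t ht0 htp, mul_zero]
  · intro h
    have ha0 : ∀ l, a l ≠ 0 := by
      intro l h0
      have := ha l
      rw [h0, zero_pow hp.ne_zero] at this
      exact zero_ne_one this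
    have key : ∀ k, (p : ℂ) * n k = ∑ l, (n l : ℂ) := by
      intro k
      have e1 : ∑ t ∈ Finset.range p, (∑ l, (n l : ℂ) * a l ^ t) * (a k)⁻¹ ^ t = (p : ℂ) * n k := by
        simp only [Finset.sum_mul]
        rw [Finset.sum_comm]
        rw [Finset.sum_eq_single k]
        · have : ∀ t ∈ Finset.range p, (n k : ℂ) * a k ^ t * (a k)⁻¹ ^ t = n k := by
            intro t _
            rw [mul_assoc, ← mul_pow, mul_inv_cancel₀ (ha0 k), one_pow, mul_one]
          rw [Finset.sum_congr rfl this]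
          simp
        · intro l _ hl
          have : ∀ t ∈ Finset.range p, (n l : ℂ) * a l ^ t * (a k)⁻¹ ^ t
              = (n l : ℂ) * (a l * (a k)⁻¹) ^ t := by
            intro t _
            rw [mul_assoc, ← mul_pow]
          rw [Finset.sum_congr rfl this, ← Finset.mul_sum, geom_zero, mul_zero]
          · rw [mul_pow, inv_pow, ha l, ha k]; simp
          · intro h1
            apply hl
            apply hinj
            field_simp [ha0 k] at h1
            exact h1
        · intro hk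
          exact absurd (Finset.mem_univ k) hk
      have e2 : ∑ t ∈ Finset.range p, (∑ l, (n l : ℂ) * a l ^ t) * (a k)⁻¹ ^ t = ∑ l, (n l : ℂ) := by
        rw [Finset.sum_eq_single 0]
        · simp
        · intro t ht ht0
          rw [h t (Nat.pos_of_ne_zero ht0) (Finset.mem_range.mp ht), zero_mul]
        · intro h0
          exact absurd (Finset.mem_range.mpr hp.pos) h0
      rw [← e1, e2]
    intro l l'
    have h1 : (p : ℂ) * n l = (p : ℂ) * n l' := by rw [key l, key l']
    have hp0 : (p : ℂ) ≠ 0 := by exact_mod_cast hp.ne_zero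
    have h2 := mul_left_cancel₀ hp0 h1
    exact_mod_cast h2

section B

variable {G : Type u} [Group G] [Fintype G] {p : ℕ} [Fact p.Prime] {M : Ideal AlgInt}

variable {B : Set (IrrCharacter G)} {P : Subgroup G}
  [Fintype (Subgroup.centralizer (P : Set G))]
  {e : Set (IrrCharacter (Subgroup.centralizer (P : Set G)))}
  {u : Subgroup.centralizer (P : Set G)}

/-- piece `nconst` (second statement; `ddB` and `cbC` enter as hypotheses; use `const_iff`) -/
theorem nconst' (h : Ctx p M B P e u) (hcb : CB p e u)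
    (hroot : ∀ ζ ∈ e, ((ζ : Subgroup.centralizer (P : Set G) → ℂ) u
      / (ζ : Subgroup.centralizer (P : Set G) → ℂ) 1) ^ p = 1)
    (hB : ∀ t : ℕ, t.Coprime p → (∀ χ : IrrCharacter G, χ ∉ B → dd e u χ t = 0) ∧
      (∀ χ : IrrCharacter G, χ ∈ B → dd e u χ t ≠ 0)) (χ : IrrCharacter G) :
    (χ ∉ B → ∀ ζ ∈ e, ∀ ξ ∈ e, nA χ ζ = nA χ ξ) ∧
    (χ ∈ B → ∀ ξ ∈ e, ∃ ζ ∈ e, nA χ ζ ≠ nA χ ξ) := by
  classical
  have hp : p.Prime := Fact.out
  let Λ₀ := {ζ : IrrCharacter (Subgroup.centralizer (P : Set G)) // ζ ∈ e}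
  let a₀ : Λ₀ → ℂ := fun l => Helper84Subsec2.lam (l.1 : Subgroup.centralizer (P : Set G) → ℂ) u
  have ha₀ : ∀ l, a₀ l ^ p = 1 := fun l => hroot l.1 l.2
  have hinj₀ : Function.Injective a₀ := fun l l' hll => Subtype.ext (hcb.inj l.1 l.2 l'.1 l'.2 hll)
  have hcard₀ : Fintype.card Λ₀ = p := by
    rw [← Nat.card_eq_fintype_card]; exact hcb.card
  let n₀ : Λ₀ → ℤ := fun l => (nA χ l.1 : ℤ)
  have hdd : ∀ t, dd e u χ t = ∑ l : Λ₀, (n₀ l : ℂ) * a₀ l ^ t := by
    intro t
    unfold dd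
    rw [← Finset.sum_filter]
    exact Finset.sum_subtype _ (by simp) _
  have hiff := const_iff p hp a₀ ha₀ hinj₀ hcard₀ n₀
  constructor
  · intro hχ ζ hζ ξ hξ
    have h1 : ∀ l l', n₀ l = n₀ l' := by
      rw [hiff]
      intro t ht0 htp
      rw [← hdd]
      apply (hB t _).1 χ hχ
      exact (Nat.coprime_comm.mp ((Nat.Prime.coprime_iff_not_dvd hp).mpr
        (fun hd => absurd (Nat.le_of_dvd ht0 hd) (by omega))))
    have h2 : (nA χ ζ : ℤ) = (nA χ ξ : ℤ) := h1 ⟨ζ, hζ⟩ ⟨ξ, hξ⟩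
    exact_mod_cast h2
  · intro hχ ξ hξ
    by_contra hcon
    push Not at hcon
    have h1 : ∀ l l', n₀ l = n₀ l' := by
      intro l l'
      simp only [n₀]
      rw [hcon l.1 l.2, hcon l'.1 l'.2]
    rw [hiff] at h1
    have h2 := h1 1 one_pos hp.one_lt
    rw [← hdd] at h2
    exact (hB 1 (Nat.coprime_one_left p)).2 χ hχ h2

end B

end Cfsg.Agent.Lib.Helper5D1Nconst
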