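import Mathlib
import Cfsg.Prelude.Def_Blocks
import Cfsg.Agent.Lib.Helper5Exc
import Cfsg.Agent.Lib.Helper19Det
import Cfsg.Agent.Lib.Helper63SylowNum2
import Cfsg.Agent.S0969

set_option autoImplicit false
set_option linter.unusedSectionVars false

/-! Further tools for excluding orders of simple groups: involutions centralizing a Sylow
subgroup of prime order, fixed points on the set of Sylow subgroups. -/

namespace Cfsg.Agent.Lib.Helper5Exc2

open Cfsg Subgroup
open Cfsg.Agent.Lib.Helper81Base Cfsg.Agent.Lib.Helper81BB Cfsg.Agent.Lib.Helper82Linear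
  Cfsg.Agent.Lib.Helper59BLDual
  Cfsg.Agent.Lib.Helper59BLGram Cfsg.Agent.Lib.Helper59BLTw Cfsg.Agent.Lib.Helper59BLStruct
  Cfsg.Agent.Lib.Helper59BLSec Cfsg.Agent.Lib.Helper59BLFin Cfsg.Agent.Lib.Helper5Exc
open scoped ComplexConjugate

theorem invol_trace_det {V : Type*} [AddCommGroup V] [Module ℂ V] [FiniteDimensional ℂ V]
    (T : V →ₗ[ℂ] V) (hT : T * T = 1) :
    ∃ b : ℕ, b ≤ Module.finrank ℂ V ∧
      LinearMap.trace ℂ V T = (Module.finrank ℂ V : ℂ) - 2 * b ∧
      LinearMap.det T = (-1) ^ b ∧ (b = 0 → T = 1) := by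
  have hTT : ∀ x, T (T x) = x := fun x => by
    have := congrArg (fun f : V →ₗ[ℂ] V => f x) hT
    simpa using this
  set W : Submodule ℂ V := LinearMap.ker (T + 1) with hW
  have hmemW : ∀ x, x ∈ W ↔ T x = -x := by
    intro x
    rw [hW, LinearMap.mem_ker, LinearMap.add_apply, Module.End.one_apply, add_eq_zero_iff_eq_neg]
  set e : V →ₗ[ℂ] V := (1 / 2 : ℂ) • (1 - T) with he
  have he_apply : ∀ x, e x = (1 / 2 : ℂ) • (x - T x) := fun x => by
    simp [he]
  have hproj : LinearMap.IsProj W e := by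
    refine ⟨fun x => ?_, fun x hx => ?_⟩
    · rw [hmemW, he_apply, map_smul, map_sub, hTT, ← smul_neg, neg_sub]
    · rw [he_apply, (hmemW x).mp hx, sub_neg_eq_add, ← two_smul ℂ x, smul_smul]
      norm_num
  have htr := hproj.trace
  have hTe : T = 1 - (2 : ℂ) • e := by
    ext x
    simp only [LinearMap.sub_apply, Module.End.one_apply, LinearMap.smul_apply, he_apply, smul_smul]
    norm_num
  refine ⟨Module.finrank ℂ W, Submodule.finrank_le W, ?_, ?_, ?_⟩
  · rw [hTe, map_sub, map_smul, htr, LinearMap.trace_one]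
    simp
  · have hle : W ≤ W.comap T := by
      intro x hx
      rw [Submodule.mem_comap, hmemW, (hmemW x).mp hx, map_neg, (hmemW x).mp hx]
    rw [LinearMap.det_eq_det_mul_det W T hle]
    have h1 : T.restrict (p := W) (q := W) hle = (-1 : ℂ) • LinearMap.id := by
      ext x
      simp only [LinearMap.coe_restrict_apply, LinearMap.smul_apply, LinearMap.id_apply]
      rw [(hmemW x).mp x.2]
      simp
    have h2 : W.mapQ W T hle = LinearMap.id := by
      ext x
      simp only [LinearMap.comp_apply, Submodule.mkQ_apply, Submodule.mapQ_apply,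
        LinearMap.id_apply]
      rw [Submodule.Quotient.eq]
      have : T x - x = -((2 : ℂ) • e x) := by
        rw [he_apply, smul_smul]
        norm_num
      rw [this]
      exact W.neg_mem (W.smul_mem _ (hproj.map_mem x))
    rw [h1, h2, LinearMap.det_smul, LinearMap.det_id, LinearMap.det_id, mul_one, mul_one]
  · intro hb
    have hWbot : W = ⊥ := Submodule.finrank_eq_zero.mp hb
    have he0 : e = 0 := by
      ext x
      have := hproj.map_mem x
      rw [hWbot, Submodule.mem_bot] at this
      simpa using this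
    rw [hTe, he0]
    simp

variable {G : Type*} [Group G] [Fintype G]

/-- homomorphisms from a non-abelian simple group to `ℂˣ` are trivial. -/
theorem hom_trivial [IsSimpleGroup G] (hG : ¬ IsMulCommutative G) (f : G →* ℂˣ) (g : G) :
    f g = 1 := by
  rcases f.normal_ker.eq_bot_or_eq_top with h | h
  · exfalso
    apply hG
    have hinj : Function.Injective f := (MonoidHom.ker_eq_bot_iff _).mp h
    exact ⟨⟨fun a b => hinj (by rw [map_mul, map_mul, mul_comm])⟩⟩
  · have : g ∈ f.ker := by rw [h]; exact mem_top g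
    exact this

/-- values of irreducible characters of simple groups at involutions. -/
theorem inv_lemma [IsSimpleGroup G] (hG : ¬ IsMulCommutative G) (χ : IrrCharacter G)
    (hχ : χ ≠ irrOne G) (c : G) (hc : c * c = 1) (hc1 : c ≠ 1) :
    ∃ b : ℕ, 0 < b ∧ Even b ∧ b ≤ charDegree (χ : G → ℂ) ∧
      (χ : G → ℂ) c = (charDegree (χ : G → ℂ) : ℂ) - 2 * b := by
  obtain ⟨n, ρ, hρ, h⟩ := χ.2
  have hdeg : charDegree (χ : G → ℂ) = n := by
    have h1 : ((charDegree (χ : G → ℂ) : ℕ) : ℂ) = (n : ℂ) := by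
      rw [charDegree_castC, ← h, Representation.char_one, Module.finrank_fin_fun]
    exact_mod_cast h1
  obtain ⟨b, hb1, hb2, hb3, hb4⟩ := invol_trace_det (ρ c) (by rw [← map_mul, hc, map_one])
  rw [Module.finrank_fin_fun] at hb1 hb2
  refine ⟨b, ?_, ?_, by rw [hdeg]; exact hb1, by rw [hdeg, ← h]; exact hb2⟩
  · rcases Nat.eq_zero_or_pos b with hb0 | hb0
    · exfalso
      have hker : c ∈ (ρ : G →* _).ker := hb4 hb0
      rcases (ρ : G →* _).normal_ker.eq_bot_or_eq_top with hk | hk
      · rw [hk, mem_bot] at hker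
        exact hc1 hker
      · apply hχ
        apply Cfsg.Agent.Lib.Helper82Cod.irr_eq_one_of_const
        intro g
        have hg : g ∈ (ρ : G →* _).ker := by rw [hk]; exact mem_top g
        have hg' : ρ g = 1 := hg
        rw [← h]
        show LinearMap.trace ℂ _ (ρ g) = LinearMap.trace ℂ _ (ρ 1)
        rw [hg', map_one ρ]
    · exact hb0
  · have h1 := hom_trivial hG (Cfsg.Agent.Lib.Helper19Det.detHom ρ) c
    have h2 := Cfsg.Agent.Lib.Helper19Det.detHom_apply ρ c
    rw [h1, hb3] at h2
    exact (neg_one_pow_eq_one_iff_even (by norm_num)).mp h2.symm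

/-- the homomorphism from `ℤˣ` given by an involution. -/
def invHom (c : G) (hc : c * c = 1) : ℤˣ →* G where
  toFun u := if u = 1 then 1 else c
  map_one' := by simp
  map_mul' u v := by
    rcases Int.units_eq_one_or u with rfl | rfl <;> rcases Int.units_eq_one_or v with rfl | rfl
    · simp
    · simp
    · simp
    · simp [hc]

/-- an involution `c` centralizing `P` with `χ(yc) = χ(y)` off the identity. -/
theorem two_card_dvd (χ : IrrCharacter G) (P : Subgroup G) (c : G) (hc : c * c = 1)
    (hcP : ∀ y ∈ P, c * y = y * c) (hsec : ∀ y ∈ P, y ≠ 1 → (χ : G → ℂ) (y * c) = (χ : G → ℂ) y) :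
    ∃ k : ℕ, (χ : G → ℂ) 1 - (χ : G → ℂ) c = 2 * (Nat.card P : ℂ) * k := by
  classical
  let _ : Fintype P := Fintype.ofFinite _
  set ι : P × ℤˣ →* G := MonoidHom.noncommCoprod P.subtype (invHom c hc) (by
    intro y u
    rcases Int.units_eq_one_or u with rfl | rfl
    · simp [invHom]
    · have : invHom c hc (-1) = c := by simp [invHom]
      rw [this]
      exact (hcP y y.2).symm) with hι
  set μ : P × ℤˣ →* ℂˣ := (Units.map (Int.castRingHom ℂ).toMonoidHom).comp
    (MonoidHom.snd P ℤˣ) with hμ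
  obtain ⟨k, hk⟩ := Cfsg.Agent.Lib.Helper82Mult.exists_nat_classInner
    (Cfsg.Agent.Lib.Helper82Quot.isCharacter_comp (Cfsg.Agent.Lib.Helper82Irr.irr_isCharacter χ) ι)
    (Cfsg.Agent.Lib.Helper82Irr.irr_isCharacter ⟨_, isIrrCharacter_of_hom μ⟩)
  refine ⟨k, ?_⟩
  rw [← hk]
  unfold classInner
  have hcard : (Nat.card (P × ℤˣ) : ℂ) = 2 * (Nat.card P : ℂ) := by
    rw [Nat.card_prod]
    have : Nat.card ℤˣ = 2 := by rw [Nat.card_eq_fintype_card]; rfl
    rw [this]; push_cast; ring
  have h0 : (2 * (Nat.card P : ℂ)) ≠ 0 := by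
    have : (Nat.card P : ℂ) ≠ 0 := by exact_mod_cast Nat.card_pos.ne'
    simp
  rw [hcard, ← mul_assoc, mul_inv_cancel₀ h0, one_mul, Fintype.sum_prod_type]
  have huniv : (Finset.univ : Finset ℤˣ) = {1, -1} := rfl
  have e1 : ∀ y : P, ∑ u : ℤˣ, ((χ : G → ℂ) ∘ ι) (y, u) * conj (((μ (y, u) : ℂˣ) : ℂ))
      = (χ : G → ℂ) y - (χ : G → ℂ) (y * c) := by
    intro y
    rw [huniv, Finset.sum_pair (by decide)]
    simp [hι, hμ, invHom, sub_eq_add_neg]
  rw [Finset.sum_congr rfl (fun y _ => e1 y), sum_split_one, Finset.sum_eq_zero]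
  · simp
  · intro y _
    split_ifs with hy
    · rw [hsec y y.2 (fun h => hy (Subtype.ext h)), sub_self]
    · rfl

theorem not_integral_half (α : ℂ) (hα : IsIntegral ℤ α) (h : 2 * α = 1) : False := by
  have h3 : α = ((1 / 2 : ℚ) : ℂ) := by
    push_cast
    linear_combination (1 / 2 : ℂ) * h
  rw [h3] at hα
  have h5 : IsIntegral ℤ (1 / 2 : ℚ) :=
    (isIntegral_algebraMap_iff (algebraMap ℚ ℂ).injective).mp hα
  obtain ⟨n, hn⟩ := IsIntegrallyClosed.isIntegral_iff.mp h5
  have h6 : (n : ℚ) * 2 = 1 := by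
    have : (algebraMap ℤ ℚ) n = (n : ℚ) := rfl
    rw [this] at hn
    rw [hn]; norm_num
  have h7 : n * 2 = 1 := by exact_mod_cast h6
  omega

variable {p : ℕ} [Fact p.Prime]

theorem isPPart_mul (P : Sylow p G) (y c : G) (hy : y ∈ (P : Subgroup G))
    (hc : c ∈ centralizer ((P : Subgroup G) : Set G)) (hcp : ¬ p ∣ orderOf c) :
    IsPPart p (y * c) y := by
  refine ⟨c, rfl, ?_, ?_, hcp⟩
  · exact (mem_centralizer_iff.mp hc y hy)
  · obtain ⟨k, hk⟩ := (IsPGroup.iff_orderOf.mp P.isPGroup') ⟨y, hy⟩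
    exact ⟨k, by rw [← hk, Subgroup.orderOf_mk]⟩

/-- characters of the principal block have degree prime to `p` when `|P| = p`. -/
theorem not_dvd_deg {M : Ideal AlgInt} (hM : IsPModular p M) (P : Sylow p G)
    (hP : Nat.card (P : Subgroup G) = p) (χ : IrrCharacter G) (hχ : χ ∈ principalBlock M G) :
    ¬ p ∣ charDegree (χ : G → ℂ) := by
  intro hd
  have hp : p.Prime := Fact.out
  have h : BL p M P := bl_of_prime hM P hP
  have hp1 : 1 < Nat.card ↥(P : Subgroup G) := by rw [hP]; exact hp.one_lt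
  have : Nontrivial ↥(P : Subgroup G) := Finite.one_lt_card_iff_nontrivial.mp hp1
  obtain ⟨y, hy⟩ := exists_ne (1 : ↥(P : Subgroup G))
  have hy1 : (y : G) ≠ 1 := fun h1 => hy (Subtype.ext h1)
  have hfac : (Nat.card G).factorization p = 1 := by
    have h1 := P.card_eq_multiplicity
    rw [hP] at h1
    exact (Nat.pow_right_injective hp.two_le (by simpa using h1)).symm
  have hdeg : (charDegree (χ : G → ℂ)).factorization p
      = (⊥ : Subgroup G).index.factorization p := by
    rw [Subgroup.index_bot, hfac]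
    apply le_antisymm
    · rw [← hfac]
      exact (Nat.factorization_le_iff_dvd (Cfsg.Agent.Lib.Helper83Char.charDegree_pos χ.2).ne'
        Nat.card_pos.ne').mpr (charDegree_dvd χ) p
    · exact (hp.dvd_iff_one_le_factorization
        (Cfsg.Agent.Lib.Helper83Char.charDegree_pos χ.2).ne').mp hd
  have h2 := (Cfsg.Agent.S0969.result p M hM ⊥ IsPGroup.of_bot bot_le χ hdeg).2 y y
    (isPPart_self y) (by rw [mem_bot]; exact hy1)
  exact ne_zero_of_mem h χ hχ y y.2 h2

/-- nontrivial characters in the principal block have degree at least `2p` if an involution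
centralizes `P`. -/
theorem two_p_le_deg [IsSimpleGroup G] (hG : ¬ IsMulCommutative G) {M : Ideal AlgInt}
    (hM : IsPModular p M) (P : Sylow p G)
    (hP : Nat.card (P : Subgroup G) = p) (hp2 : p ≠ 2) (c : G)
    (hc : c ∈ centralizer ((P : Subgroup G) : Set G)) (hc2 : orderOf c = 2)
    (χ : IrrCharacter G) (hχ : χ ∈ principalBlock M G) (hχ1 : χ ≠ irrOne G) :
    2 * p ≤ charDegree (χ : G → ℂ) := by
  have hp : p.Prime := Fact.out
  have h : BL p M P := bl_of_prime hM P hP
  have hcc : c * c = 1 := by rw [← pow_two, ← hc2]; exact pow_orderOf_eq_one c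
  have hc1 : c ≠ 1 := by
    intro h1
    rw [h1, orderOf_one] at hc2
    omega
  have hcp : ¬ p ∣ orderOf c := by
    rw [hc2]
    intro hd
    exact hp2 ((Nat.prime_dvd_prime_iff_eq hp Nat.prime_two).mp hd)
  obtain ⟨b, hb0, hbe, hbd, hb⟩ := inv_lemma hG χ hχ1 c hcc hc1
  obtain ⟨k, hk⟩ := two_card_dvd χ (P : Subgroup G) c hcc
    (fun y hy => (mem_centralizer_iff.mp hc y hy).symm)
    (fun y hy hy1 => section_const h χ hχ (y * c) y (isPPart_mul P y c hy hc hcp) hy hy1)
  rw [hb, ← charDegree_castC, hP] at hk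
  have hk2 : ((b : ℕ) : ℂ) = ((p * k : ℕ) : ℂ) := by
    push_cast
    linear_combination (1 / 2 : ℂ) * hk
  have hk3 : b = p * k := by exact_mod_cast hk2
  have hcop : Nat.Coprime 2 p := by
    rw [Nat.coprime_primes Nat.prime_two hp]
    exact fun h => hp2 h.symm
  have h2p : 2 * p ∣ b := hcop.mul_dvd_of_dvd_of_dvd hbe.two_dvd ⟨k, hk3⟩
  exact (Nat.le_of_dvd hb0 h2p).trans hbd

open scoped Classical in
/-- the parity principle. -/
theorem no_invol_centralizer [IsSimpleGroup G] (hG : ¬ IsMulCommutative G) (P : Sylow p G)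
    (hP : Nat.card (P : Subgroup G) = p) (hp2 : p ≠ 2) (c : G)
    (hc : c ∈ centralizer ((P : Subgroup G) : Set G)) (hc2 : orderOf c = 2)
    (hodd : ∀ x, x ∣ Nat.card G → ¬ p ∣ x → 2 * p ≤ x → Even x) : False := by
  have hp : p.Prime := Fact.out
  obtain ⟨M, hM⟩ := Cfsg.Agent.Lib.Helper81ClassMul.exists_modular hp
  have h : BL p M P := bl_of_prime hM P hP
  have := hM.2.1.isPrime
  have hp1 : 1 < Nat.card ↥(P : Subgroup G) := by rw [hP]; exact hp.one_lt
  have : Nontrivial ↥(P : Subgroup G) := Finite.one_lt_card_iff_nontrivial.mp hp1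
  obtain ⟨y, hy⟩ := exists_ne (1 : ↥(P : Subgroup G))
  have hy1 : (y : G) ≠ 1 := fun h1 => hy (Subtype.ext h1)
  have hreg1 : ¬ p ∣ orderOf (1 : G) := by
    rw [orderOf_one]; exact hp.one_lt.ne' ∘ Nat.dvd_one.mp
  have hpy : p ∣ orderOf (y : G) := by
    have h1 : orderOf (y : G) ∣ p := by
      rw [Subgroup.orderOf_coe]
      have h3 := orderOf_dvd_natCard y
      rwa [hP] at h3
    rcases (Nat.dvd_prime hp).mp h1 with h2 | h2
    · exact absurd (orderOf_eq_one_iff.mp h2) hy1
    · rw [h2]
  have horth := Cfsg.Agent.Lib.Helper81Orth.weak_block_orth hM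
    (Cfsg.Agent.Lib.Helper81Subsec2.isPBlock_principalBlock (M := M) (G := G)) hreg1 hpy
  rw [← Finset.add_sum_erase Finset.univ _ (Finset.mem_univ (irrOne G)),
    if_pos (show irrOne G ∈ principalBlock M G from
      Cfsg.Agent.Lib.Helper81Block.sameBlock_refl _)] at horth
  have e1 : ∀ χ ∈ Finset.univ.erase (irrOne G), ∃ α : ℂ, IsIntegral ℤ α ∧
      (if χ ∈ principalBlock M G then (χ : G → ℂ) 1 * conj ((χ : G → ℂ) y) else 0) = 2 * α := by
    intro χ hχ
    have hχ1 : χ ≠ irrOne G := Finset.ne_of_mem_erase hχ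
    split_ifs with hB
    · have h1 := two_p_le_deg hG hM P hP hp2 c hc hc2 χ hB hχ1
      obtain ⟨e, he⟩ := hodd _ (charDegree_dvd χ) (not_dvd_deg hM P hP χ hB) h1
      refine ⟨(e : ℂ) * conj ((χ : G → ℂ) y), ?_, ?_⟩
      · exact (isIntegral_algebraMap (R := ℤ) (x := (e : ℤ))).mul
          (map_isIntegral_int (starRingEnd ℂ) (irr_integral χ y)) |> fun h => by simpa using h
      · rw [← charDegree_castC, he]
        push_cast
        ring
    · exact ⟨0, isIntegral_zero, by simp⟩
  choose! α hα1 hα2 using e1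
  rw [Finset.sum_congr rfl hα2, ← Finset.mul_sum] at horth
  apply not_integral_half (-∑ χ ∈ Finset.univ.erase (irrOne G), α χ)
    (IsIntegral.neg (IsIntegral.sum _ hα1))
  have h11 : ((irrOne G : IrrCharacter G) : G → ℂ) 1 * conj (((irrOne G : IrrCharacter G) : G → ℂ) y)
      = 1 := by
    simp [irrOne]
  rw [h11] at horth
  linear_combination -horth

open Cfsg.Agent.Lib.Helper63SylowNum2 in
/-- a nonidentity element of `C_G(P)` fixes only `P`, under an arithmetic hypothesis. -/
theorem card_fixedBy_eq_one [IsSimpleGroup G] (P : Sylow p G)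
    (hP : Nat.card (P : Subgroup G) = p) (n : ℕ) (hn : Nat.card (Sylow p G) = n) (hn1 : n ≠ 1)
    (hq : ∀ q, q.Prime → q ∣ Nat.card (centralizer ((P : Subgroup G) : Set G)) → q ≠ p →
      ∀ f, f % p = 1 → f % q = n % q → f < n → f = 1)
    (c : G) (hc : c ∈ centralizer ((P : Subgroup G) : Set G)) (hc1 : c ≠ 1) :
    Nat.card (MulAction.fixedBy (Sylow p G) c) = 1 := by
  have hp : p.Prime := Fact.out
  have ho1 : orderOf c ≠ 1 := fun h => hc1 (orderOf_eq_one_iff.mp h)
  set q := (orderOf c).minFac with hqdef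
  have hqp : q.Prime := Nat.minFac_prime ho1
  have : Fact q.Prime := ⟨hqp⟩
  have hqd : q ∣ orderOf c := Nat.minFac_dvd _
  set c' := c ^ (orderOf c / q) with hc'
  have ho' : orderOf c' = q := orderOf_pow_orderOf_div (orderOf_pos c).ne' hqd
  have hc'C : c' ∈ centralizer ((P : Subgroup G) : Set G) := Subgroup.pow_mem _ hc _
  have hsub : MulAction.fixedBy (Sylow p G) c ⊆ MulAction.fixedBy (Sylow p G) c' := by
    intro Q hQ
    have h1 : c ∈ MulAction.stabilizer G Q := hQ
    exact Subgroup.pow_mem _ h1 _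
  have hmod' := card_fixedBy_modEq_one P c' hc'C
  have hmod := card_fixedBy_modEq_one P c hc
  have h1p : 1 % p = 1 := Nat.mod_eq_of_lt hp.one_lt
  have hf' : Nat.card (MulAction.fixedBy (Sylow p G) c') = 1 := by
    by_cases hqp' : q = p
    · rw [Nat.card_eq_one_iff_unique]
      have key : ∀ Q : Sylow p G, c' • Q = Q → (Q : Subgroup G) = zpowers c' := by
        intro Q hQ
        rw [Sylow.smul_eq_iff_mem_normalizer] at hQ
        have hz : IsPGroup p (zpowers c') := by
          apply IsPGroup.of_card (n := 1)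
          rw [Nat.card_zpowers, ho', pow_one, hqp']
        have h2 := hz.inf_normalizer_sylow Q
        have h3 : c' ∈ zpowers c' ⊓ (Q : Subgroup G) := by
          rw [← h2]; exact ⟨mem_zpowers c', hQ⟩
        have h4 : zpowers c' ≤ (Q : Subgroup G) := by
          rw [zpowers_le]; exact h3.2
        symm
        apply Subgroup.eq_of_le_of_card_ge h4
        rw [Nat.card_zpowers, ho', hqp', Q.card_eq_multiplicity, ← P.card_eq_multiplicity, hP]
      have hPfix : c' • P = P := by
        rw [Sylow.smul_eq_iff_mem_normalizer]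
        exact Subgroup.centralizer_le_normalizer _ hc'C
      refine ⟨⟨fun a b => ?_⟩, ⟨⟨P, hPfix⟩⟩⟩
      apply Subtype.ext
      apply Sylow.ext
      rw [key a.1 a.2, key b.1 b.2]
    · have hmq := card_modEq_card_fixedBy (α := Sylow p G) c' ho'
      rw [hn] at hmq
      have hle : Nat.card (MulAction.fixedBy (Sylow p G) c') ≤ n := by
        rw [← hn]
        exact Nat.card_le_card_of_injective _ Subtype.val_injective
      have hne : Nat.card (MulAction.fixedBy (Sylow p G) c') ≠ n := by
        intro heq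
        have hall : MulAction.fixedBy (Sylow p G) c' = Set.univ := by
          apply Set.eq_of_subset_of_ncard_le (Set.subset_univ _)
          rw [Set.ncard_univ, ← Nat.card_coe_set_eq, heq, hn]
        have h1 : c' = 1 := faithful (p := p) (by rw [hn]; exact hn1) c' (fun Q => by
          have : Q ∈ MulAction.fixedBy (Sylow p G) c' := by rw [hall]; trivial
          exact this)
        rw [h1, orderOf_one] at ho'
        exact hqp.one_lt.ne ho'
      apply hq q hqp ?_ hqp' _ ?_ hmq.symm (lt_of_le_of_ne hle hne)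
      · rw [← ho']
        have := orderOf_dvd_natCard (⟨c', hc'C⟩ : centralizer ((P : Subgroup G) : Set G))
        rwa [Subgroup.orderOf_mk] at this
      · have := hmod'
        unfold Nat.ModEq at this
        rw [this, h1p]
  have hle : Nat.card (MulAction.fixedBy (Sylow p G) c) ≤ 1 := by
    rw [← hf']
    exact Nat.card_le_card_of_injective (Set.inclusion hsub) (Set.inclusion_injective hsub)
  have hne0 : Nat.card (MulAction.fixedBy (Sylow p G) c) ≠ 0 := by
    intro h0
    unfold Nat.ModEq at hmod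
    rw [h0, h1p] at hmod
    simp at hmod
  omega

/-- if all nonidentity elements of `C_G(P)` fix only `P`, then `|C_G(P)|` divides `n_p - 1`. -/
theorem card_centralizer_dvd [IsSimpleGroup G] (P : Sylow p G)
    (hP : Nat.card (P : Subgroup G) = p) (n : ℕ) (hn : Nat.card (Sylow p G) = n) (hn1 : n ≠ 1)
    (hq : ∀ q, q.Prime → q ∣ Nat.card (centralizer ((P : Subgroup G) : Set G)) → q ≠ p →
      ∀ f, f % p = 1 → f % q = n % q → f < n → f = 1) :
    Nat.card (centralizer ((P : Subgroup G) : Set G)) ∣ n - 1 := by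
  classical
  set C := centralizer ((P : Subgroup G) : Set G) with hC
  let _ : Fintype C := Fintype.ofFinite _
  let _ : Fintype (Sylow p G) := Fintype.ofFinite _
  have hB := MulAction.sum_card_fixedBy_eq_card_orbits_mul_card_group C (Sylow p G)
  have e1 : ∀ c : C, Fintype.card (MulAction.fixedBy (Sylow p G) c) = if c = 1 then n else 1 := by
    intro c
    rw [← Nat.card_eq_fintype_card]
    split_ifs with h1
    · rw [h1, ← hn]
      apply Nat.card_congr
      exact (Equiv.subtypeUnivEquiv (fun Q => by simp))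
    · exact card_fixedBy_eq_one P hP n hn hn1 hq c c.2 (fun h => h1 (Subtype.ext h))
  rw [Finset.sum_congr rfl (fun c _ => e1 c),
    ← Finset.add_sum_erase Finset.univ _ (Finset.mem_univ (1 : C)), if_pos rfl,
    Finset.sum_congr rfl (fun c hc => if_neg (Finset.ne_of_mem_erase hc)), Finset.sum_const,
    Finset.card_erase_of_mem (Finset.mem_univ _), Finset.card_univ, smul_eq_mul, mul_one,
    ← Nat.card_eq_fintype_card (α := C)] at hB
  have hpos : 0 < Nat.card C := Nat.card_pos
  have hnpos : 0 < n := by rw [← hn]; exact Nat.card_pos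
  set k := Fintype.card (MulAction.orbitRel.Quotient C (Sylow p G)) with hk
  have hk1 : 1 ≤ k := by
    rcases Nat.eq_zero_or_pos k with h0 | h0
    · rw [h0] at hB; omega
    · exact h0
  refine ⟨k - 1, ?_⟩
  have : k * Nat.card C = (k - 1) * Nat.card C + Nat.card C := by
    conv_lhs => rw [show k = (k - 1) + 1 by omega]
    ring
  rw [mul_comm (Nat.card C)]
  omega

omit [Fintype G] in
theorem card_centralizer_mul [Finite G] (P : Sylow p G) :
    Nat.card (centralizer ((P : Subgroup G) : Set G)) *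
      (centralizer ((P : Subgroup G) : Set G)).relIndex (normalizer ((P : Subgroup G) : Set G)) *
      Nat.card (Sylow p G) = Nat.card G := by
  have h1 := Subgroup.relIndex_mul_relIndex ⊥ (centralizer ((P : Subgroup G) : Set G))
    (normalizer ((P : Subgroup G) : Set G)) bot_le (Subgroup.centralizer_le_normalizer _)
  rw [Subgroup.relIndex_bot_left, Subgroup.relIndex_bot_left] at h1
  rw [h1]
  exact Cfsg.Agent.Lib.Helper21Simple.card_normalizer_mul_card_sylow P

/-- the parity principle, in terms of the order of the centralizer. -/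
theorem no_even_centralizer [IsSimpleGroup G] (hG : ¬ IsMulCommutative G) (P : Sylow p G)
    (hP : Nat.card (P : Subgroup G) = p) (hp2 : p ≠ 2)
    (hC : 2 ∣ Nat.card (centralizer ((P : Subgroup G) : Set G)))
    (hodd : ∀ x, x ∣ Nat.card G → ¬ p ∣ x → 2 * p ≤ x → Even x) : False := by
  obtain ⟨c, hc⟩ := exists_prime_orderOf_dvd_card' 2 hC
  exact no_invol_centralizer hG P hP hp2 c c.2 (by rw [← hc, Subgroup.orderOf_coe]) hodd

end Cfsg.Agent.Lib.Helper5Exc2
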