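import Mathlib
import Cfsg.Prelude.Def_Blocks
import Cfsg.Agent.Lib.Helper5Exc2
import Cfsg.Agent.Lib.Helper4Eigen

set_option autoImplicit false
set_option linter.unusedSectionVars false

/-! Elements of prime order centralizing a Sylow subgroup of prime order: every non-principal
character of the principal block of a simple group has degree at least `2p`. -/

namespace Cfsg.Agent.Lib.Helper5Exc3

open Cfsg Subgroup
open Cfsg.Agent.Lib.Helper81Base Cfsg.Agent.Lib.Helper81BB Cfsg.Agent.Lib.Helper82Linear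
  Cfsg.Agent.Lib.Helper59BLDual
  Cfsg.Agent.Lib.Helper59BLGram Cfsg.Agent.Lib.Helper59BLTw Cfsg.Agent.Lib.Helper59BLStruct
  Cfsg.Agent.Lib.Helper59BLSec Cfsg.Agent.Lib.Helper59BLFin Cfsg.Agent.Lib.Helper5Exc
  Cfsg.Agent.Lib.Helper5Exc2 Cfsg.Agent.Lib.Helper4Eigen
open scoped ComplexConjugate

theorem det_eq_prod_of_eigenbasis {V : Type*} [AddCommGroup V] [Module ℂ V]
    {ι : Type*} [Fintype ι] [DecidableEq ι]
    (f : Module.End ℂ V) (b : Module.Basis ι ℂ V) (μ : ι → ℂ) (h : ∀ i, f (b i) = μ i • b i) :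
    LinearMap.det f = ∏ i, μ i := by
  rw [← LinearMap.det_toMatrix b]
  have : LinearMap.toMatrix b b f = Matrix.diagonal μ := by
    ext i j
    rw [LinearMap.toMatrix_apply, h, Matrix.diagonal_apply]
    simp only [map_smul, Module.Basis.repr_self, Finsupp.smul_apply, Finsupp.single_apply,
      smul_eq_mul]
    by_cases hij : i = j
    · subst hij; simp
    · rw [if_neg hij, if_neg (fun h' => hij h'.symm), mul_zero]
  rw [this, Matrix.det_diagonal]

variable {G : Type*} [Group G] [Finite G]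

theorem gen_zpowers (c : G) (x : zpowers c) :
    x ∈ zpowers (⟨c, mem_zpowers c⟩ : zpowers c) := by
  obtain ⟨x, k, rfl⟩ := x
  exact ⟨k, Subtype.ext (by simp)⟩

/-- the restriction of a representation to a cyclic subgroup splits into homomorphisms. -/
theorem eig_homs {V : Type*} [AddCommGroup V] [Module ℂ V] [FiniteDimensional ℂ V]
    (ρ : Representation ℂ G V) (c : G) :
    ∃ Ψ : Fin (Module.finrank ℂ V) → (zpowers c →* ℂˣ),
      (∀ a : zpowers c, ρ.character a = ∑ i, ((Ψ i a : ℂˣ) : ℂ)) ∧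
      LinearMap.det (ρ c) = ∏ i, ((Ψ i ⟨c, mem_zpowers c⟩ : ℂˣ) : ℂ) := by
  classical
  obtain ⟨b, μ, h1, h2, h3⟩ := exists_eigenbasis_rep ρ c
  have hμ0 : ∀ i, μ i ≠ 0 := fun i h0 => by
    have := h3 i
    rw [h0, norm_zero] at this
    exact zero_ne_one this
  set γ : zpowers c := ⟨c, mem_zpowers c⟩ with hγ
  have hord : ∀ i, orderOf (Units.mk0 (μ i) (hμ0 i)) ∣ orderOf γ := by
    intro i
    rw [hγ, Subgroup.orderOf_mk]
    apply orderOf_dvd_of_pow_eq_one
    apply Units.ext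
    rw [Units.val_pow_eq_pow_val, Units.val_mk0, h2 i, Units.val_one]
  set Ψ : Fin (Module.finrank ℂ V) → (zpowers c →* ℂˣ) := fun i =>
    monoidHomOfForallMemZpowers (gen_zpowers c) (hord i) with hΨ
  have hΨγ : ∀ i, Ψ i γ = Units.mk0 (μ i) (hμ0 i) := fun i =>
    monoidHomOfForallMemZpowers_apply_gen (gen_zpowers c) (hord i)
  refine ⟨Ψ, ?_, ?_⟩
  · intro a
    obtain ⟨k, hk⟩ := (mem_powers_iff_mem_zpowers (x := c) (y := (a : G))).mpr a.2
    have hak : a = γ ^ k := Subtype.ext (by simpa using hk.symm)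
    have e1 : ρ.character (a : G) = ∑ i, μ i ^ k := by
      rw [← hk]
      exact trace_eq_sum_of_eigenbasis _ b _ (fun i => rep_pow_apply_eigen ρ c (b i) (μ i) (h1 i) k)
    rw [e1]
    apply Finset.sum_congr rfl
    intro i _
    rw [hak, map_pow, hΨγ, Units.val_pow_eq_pow_val, Units.val_mk0]
  · rw [det_eq_prod_of_eigenbasis _ b μ h1]
    apply Finset.prod_congr rfl
    intro i _
    rw [hΨγ, Units.val_mk0]

/-- multiplicities of nontrivial characters of `⟨c⟩` are divisible by `|P|`. -/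
theorem card_dvd_mult [Fintype G] (χ : IrrCharacter G) (P : Subgroup G) (c : G)
    (hcP : ∀ y ∈ P, c * y = y * c)
    (hsec : ∀ y ∈ P, y ≠ 1 → ∀ a ∈ zpowers c, (χ : G → ℂ) (y * a) = (χ : G → ℂ) y)
    [Fintype (zpowers c)] (ψ : zpowers c →* ℂˣ) (hψ : ψ ≠ 1) :
    ∃ k : ℕ, ∑ a : zpowers c, (χ : G → ℂ) a * conj ((ψ a : ℂˣ) : ℂ)
      = (Nat.card (zpowers c) : ℂ) * (Nat.card P : ℂ) * k := by
  classical
  let _ : Fintype P := Fintype.ofFinite _
  set ι : P × zpowers c →* G := MonoidHom.noncommCoprod P.subtype (zpowers c).subtype (by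
    intro y a
    obtain ⟨a, k, rfl⟩ := a
    have hc : Commute (y : G) c := (hcP y y.2).symm
    exact hc.zpow_right k) with hι
  set μ : P × zpowers c →* ℂˣ := ψ.comp (MonoidHom.snd P (zpowers c)) with hμ
  obtain ⟨k, hk⟩ := Cfsg.Agent.Lib.Helper82Mult.exists_nat_classInner
    (Cfsg.Agent.Lib.Helper82Quot.isCharacter_comp (Cfsg.Agent.Lib.Helper82Irr.irr_isCharacter χ) ι)
    (Cfsg.Agent.Lib.Helper82Irr.irr_isCharacter ⟨_, isIrrCharacter_of_hom μ⟩)
  refine ⟨k, ?_⟩
  rw [← hk]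
  unfold classInner
  have hcard : (Nat.card (P × zpowers c) : ℂ)
      = (Nat.card (zpowers c) : ℂ) * (Nat.card P : ℂ) := by
    rw [Nat.card_prod]; push_cast; ring
  have h0 : (Nat.card (zpowers c) : ℂ) * (Nat.card P : ℂ) ≠ 0 := by
    have h1 : (Nat.card P : ℂ) ≠ 0 := by exact_mod_cast Nat.card_pos.ne'
    have h2 : (Nat.card (zpowers c) : ℂ) ≠ 0 := by exact_mod_cast Nat.card_pos.ne'
    exact mul_ne_zero h2 h1
  rw [hcard, ← mul_assoc, mul_inv_cancel₀ h0, one_mul, Fintype.sum_prod_type]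
  symm
  rw [sum_split_one (H := P)]
  refine (congrArg₂ (· + ·) ?_ (Finset.sum_eq_zero ?_)).trans (add_zero _)
  · apply Finset.sum_congr rfl
    intro a _
    simp [hι, hμ]
  · intro y _
    split_ifs with hy
    · have e1 : ∀ a : zpowers c, ((χ : G → ℂ) ∘ ι) (y, a) * conj (((μ (y, a) : ℂˣ) : ℂ))
          = (χ : G → ℂ) y * conj ((ψ a : ℂˣ) : ℂ) := by
        intro a
        have : ι (y, a) = (y : G) * a := by simp [hι]
        simp only [Function.comp_apply, this]
        rw [hsec y y.2 (fun h => hy (Subtype.ext h)) a a.2]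
        rfl
      rw [Finset.sum_congr rfl (fun a _ => e1 a), ← Finset.mul_sum, ← map_sum,
        sum_hom_eq_zero ψ hψ, map_zero, mul_zero]
    · rfl

/-- **Main lemma**: an element of prime order `q ≠ p` centralizing `P`. -/
theorem two_p_le_deg_gen [Fintype G] [IsSimpleGroup G] (hG : ¬ IsMulCommutative G)
    {p : ℕ} [Fact p.Prime] {M : Ideal AlgInt}
    (hM : IsPModular p M) (P : Sylow p G)
    (hP : Nat.card (P : Subgroup G) = p) (q : ℕ) (hq : q.Prime) (hqp : q ≠ p) (c : G)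
    (hc : c ∈ centralizer ((P : Subgroup G) : Set G)) (hcq : orderOf c = q)
    (χ : IrrCharacter G) (hχ : χ ∈ principalBlock M G) (hχ1 : χ ≠ irrOne G) :
    2 * p ≤ charDegree (χ : G → ℂ) := by
  classical
  have hp : p.Prime := Fact.out
  have h : BL p M P := bl_of_prime hM P hP
  let _ : Fintype (zpowers c) := Fintype.ofFinite _
  have hc1 : c ≠ 1 := by
    intro h1
    rw [h1, orderOf_one] at hcq
    exact hq.one_lt.ne hcq
  have hcop : Nat.Coprime p q := (Nat.coprime_primes hp hq).mpr (fun h => hqp h.symm)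
  have hsec : ∀ y ∈ (P : Subgroup G), y ≠ 1 → ∀ a ∈ zpowers c,
      (χ : G → ℂ) (y * a) = (χ : G → ℂ) y := by
    intro y hy hy1 a ha
    have haC : a ∈ centralizer ((P : Subgroup G) : Set G) := (zpowers_le.mpr hc) ha
    have hap : ¬ p ∣ orderOf a := by
      intro hd
      have h1 : orderOf a ∣ q := by
        rw [← hcq, ← Nat.card_zpowers c]
        have := orderOf_dvd_natCard (⟨a, ha⟩ : zpowers c)
        rwa [Subgroup.orderOf_mk] at this
      exact hqp ((Nat.prime_dvd_prime_iff_eq hp hq).mp (hd.trans h1)).symm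
    exact section_const h χ hχ (y * a) y (isPPart_mul P y a hy haC hap) hy hy1
  obtain ⟨n, ρ, hρ, hρχ⟩ := χ.2
  have hdeg : charDegree (χ : G → ℂ) = n := by
    have h1 : ((charDegree (χ : G → ℂ) : ℕ) : ℂ) = (n : ℂ) := by
      rw [charDegree_castC, ← hρχ, Representation.char_one, Module.finrank_fin_fun]
    exact_mod_cast h1
  obtain ⟨Ψ, hΨ1, hΨ2⟩ := eig_homs ρ c
  have hfr : Module.finrank ℂ (Fin n → ℂ) = n := Module.finrank_fin_fun ℂ
  set γ : zpowers c := ⟨c, mem_zpowers c⟩ with hγ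
  -- the determinant is trivial
  have hdet : ∏ i, ((Ψ i γ : ℂˣ) : ℂ) = 1 := by
    rw [← hΨ2, ← Cfsg.Agent.Lib.Helper19Det.detHom_apply ρ c,
      hom_trivial hG (Cfsg.Agent.Lib.Helper19Det.detHom ρ) c]
    rfl
  -- multiplicities
  have hmult : ∀ ψ : zpowers c →* ℂˣ, ψ ≠ 1 →
      p ∣ (Finset.univ.filter (fun i => Ψ i = ψ)).card := by
    intro ψ hψ
    obtain ⟨k, hk⟩ := card_dvd_mult χ (P : Subgroup G) c
      (fun y hy => (mem_centralizer_iff.mp hc y hy).symm) hsec ψ hψ
    have e1 : ∑ a : zpowers c, (χ : G → ℂ) a * conj ((ψ a : ℂˣ) : ℂ)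
        = (Nat.card (zpowers c) : ℂ) * ((Finset.univ.filter (fun i => Ψ i = ψ)).card : ℂ) := by
      have e2 : ∀ a : zpowers c, (χ : G → ℂ) a * conj ((ψ a : ℂˣ) : ℂ)
          = ∑ i, ((Ψ i a : ℂˣ) : ℂ) * conj ((ψ a : ℂˣ) : ℂ) := by
        intro a
        rw [← hρχ, hΨ1 a, Finset.sum_mul]
      rw [Finset.sum_congr rfl (fun a _ => e2 a), Finset.sum_comm,
        Finset.sum_congr rfl (fun i _ => orth_hom (Ψ i) ψ), ← Finset.sum_filter, Finset.sum_const,
        nsmul_eq_mul, mul_comm]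
    rw [e1, hP, mul_assoc] at hk
    have h0 : (Nat.card (zpowers c) : ℂ) ≠ 0 := by exact_mod_cast Nat.card_pos.ne'
    have hk2 := mul_left_cancel₀ h0 hk
    have hk3 : (Finset.univ.filter (fun i => Ψ i = ψ)).card = p * k := by exact_mod_cast hk2
    exact ⟨k, hk3⟩
  have hcardle : ∀ S : Finset (Fin (Module.finrank ℂ (Fin n → ℂ))), S.card ≤ n := by
    intro S
    exact (Finset.card_le_univ S).trans (by rw [Fintype.card_fin, hfr])
  rw [hdeg]
  -- some `Ψ i` is nontrivial
  have hex : ∃ i, Ψ i ≠ 1 := by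
    by_contra hcon
    push Not at hcon
    have h1 : (χ : G → ℂ) c = (χ : G → ℂ) 1 := by
      have h2 := hΨ1 γ
      have h3 := hΨ1 1
      simp only [hcon, MonoidHom.one_apply, Units.val_one] at h2 h3
      rw [← hρχ]
      exact h2.trans h3.symm
    have hchar := Cfsg.Agent.Lib.Helper82Irr.irr_isCharacter χ
    have hmem : c ∈ Cfsg.Agent.Lib.Helper82Quot.charKer hchar := h1
    rcases (Cfsg.Agent.Lib.Helper82Quot.charKer_normal hchar).eq_bot_or_eq_top with hk | hk
    · rw [hk, mem_bot] at hmem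
      exact hc1 hmem
    · apply hχ1
      apply Cfsg.Agent.Lib.Helper82Cod.irr_eq_one_of_const
      intro g
      have : g ∈ Cfsg.Agent.Lib.Helper82Quot.charKer hchar := by rw [hk]; exact mem_top g
      exact this
  obtain ⟨i₀, hi₀⟩ := hex
  set S₀ := Finset.univ.filter (fun i => Ψ i = Ψ i₀) with hS₀
  have hS₀pos : 0 < S₀.card := Finset.card_pos.mpr ⟨i₀, by simp [hS₀]⟩
  obtain ⟨k₀, hk₀'⟩ := hmult (Ψ i₀) hi₀
  have hk₀ : S₀.card = p * k₀ := hk₀'
  by_cases hex2 : ∃ i₁, Ψ i₁ ≠ 1 ∧ Ψ i₁ ≠ Ψ i₀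
  · obtain ⟨i₁, hi₁, hi₁₀⟩ := hex2
    set S₁ := Finset.univ.filter (fun i => Ψ i = Ψ i₁) with hS₁
    have hS₁pos : 0 < S₁.card := Finset.card_pos.mpr ⟨i₁, by simp [hS₁]⟩
    have hd : Disjoint S₀ S₁ := by
      rw [Finset.disjoint_left]
      intro i h0 h1
      simp only [hS₀, hS₁, Finset.mem_filter, Finset.mem_univ, true_and] at h0 h1
      exact hi₁₀ (h1.symm.trans h0)
    have h1 : p ≤ S₀.card := Nat.le_of_dvd hS₀pos (hmult (Ψ i₀) hi₀)
    have h2 : p ≤ S₁.card := Nat.le_of_dvd hS₁pos (hmult (Ψ i₁) hi₁)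
    have h3 := hcardle (S₀ ∪ S₁)
    rw [Finset.card_union_of_disjoint hd] at h3
    omega
  · push Not at hex2
    have hprod : ∏ i, ((Ψ i γ : ℂˣ) : ℂ) = ((Ψ i₀ γ : ℂˣ) : ℂ) ^ S₀.card := by
      rw [← Finset.prod_filter_mul_prod_filter_not Finset.univ (fun i => Ψ i = Ψ i₀)]
      rw [Finset.prod_congr rfl (g := fun _ => ((Ψ i₀ γ : ℂˣ) : ℂ)) (fun i hi => by
        rw [(Finset.mem_filter.mp hi).2]), Finset.prod_const,
        Finset.prod_congr rfl (g := fun _ => (1 : ℂ)) (fun i hi => by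
        have h1 : Ψ i = 1 := by
          by_contra hne
          exact (Finset.mem_filter.mp hi).2 (hex2 i hne)
        rw [h1]; rfl), Finset.prod_const_one, mul_one]
    rw [hprod] at hdet
    have hk₀pos : 0 < k₀ := by
      rcases Nat.eq_zero_or_pos k₀ with h0 | h0
      · rw [h0, mul_zero] at hk₀; omega
      · exact h0
    by_cases hk1 : k₀ = 1
    · exfalso
      rw [hk₀, hk1, mul_one] at hdet
      have hu1 : (Ψ i₀ γ) ^ p = 1 := by
        apply Units.ext
        rw [Units.val_pow_eq_pow_val, hdet, Units.val_one]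
      have hu2 : (Ψ i₀ γ) ^ q = 1 := by
        rw [← map_pow]
        have : γ ^ q = 1 := by
          apply Subtype.ext
          simp only [hγ, SubmonoidClass.mk_pow, OneMemClass.coe_one]
          rw [← hcq]; exact pow_orderOf_eq_one c
        rw [this, map_one]
      have hu3 : Ψ i₀ γ = 1 := by
        have h1 := Nat.dvd_gcd (orderOf_dvd_of_pow_eq_one hu1) (orderOf_dvd_of_pow_eq_one hu2)
        rw [hcop.gcd_eq_one, Nat.dvd_one, orderOf_eq_one_iff] at h1
        exact h1
      apply hi₀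
      rw [MonoidHom.eq_iff_eq_on_generator (gen_zpowers c)]
      rw [hu3]; rfl
    · have h3 := hcardle S₀
      have : 2 ≤ k₀ := by omega
      have h4 : p * 2 ≤ p * k₀ := Nat.mul_le_mul_left p this
      omega

theorem not_integral_inv (l : ℕ) (hl : 1 < l) (α : ℂ) (hα : IsIntegral ℤ α)
    (h : (l : ℂ) * α = 1) : False := by
  have hl0 : (l : ℂ) ≠ 0 := by
    have : l ≠ 0 := by omega
    exact_mod_cast this
  have h3 : α = ((1 / l : ℚ) : ℂ) := by
    push_cast
    field_simp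
    linear_combination h
  rw [h3] at hα
  have h5 : IsIntegral ℤ (1 / l : ℚ) :=
    (isIntegral_algebraMap_iff (algebraMap ℚ ℂ).injective).mp hα
  obtain ⟨n, hn⟩ := IsIntegrallyClosed.isIntegral_iff.mp h5
  have h6 : (n : ℚ) * l = 1 := by
    have : (algebraMap ℤ ℚ) n = (n : ℚ) := rfl
    rw [this] at hn
    rw [hn]
    have : (l : ℚ) ≠ 0 := by
      have : l ≠ 0 := by omega
      exact_mod_cast this
    field_simp
  have h7 : n * (l : ℤ) = 1 := by exact_mod_cast h6
  have h8 : (l : ℤ) ∣ 1 := ⟨n, by rw [← h7]; ring⟩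
  have h9 : l ∣ 1 := by exact_mod_cast h8
  have := Nat.dvd_one.mp h9
  omega

open scoped Classical in
/-- not all non-principal characters of the principal block have degree divisible by `l`. -/
theorem block_prime_principle [Fintype G] {p : ℕ} [Fact p.Prime] {M : Ideal AlgInt}
    (hM : IsPModular p M) (hpG : p ∣ Nat.card G) (l : ℕ) (hl : 1 < l)
    (hall : ∀ χ ∈ principalBlock M G, χ ≠ irrOne G → l ∣ charDegree (χ : G → ℂ)) : False := by
  have hp : p.Prime := Fact.out
  have := hM.2.1.isPrime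
  obtain ⟨y, hy⟩ := exists_prime_orderOf_dvd_card' p hpG
  have hreg1 : ¬ p ∣ orderOf (1 : G) := by
    rw [orderOf_one]; exact hp.one_lt.ne' ∘ Nat.dvd_one.mp
  have hpy : p ∣ orderOf (y : G) := by rw [hy]
  have horth := Cfsg.Agent.Lib.Helper81Orth.weak_block_orth hM
    (Cfsg.Agent.Lib.Helper81Subsec2.isPBlock_principalBlock (M := M) (G := G)) hreg1 hpy
  rw [← Finset.add_sum_erase Finset.univ _ (Finset.mem_univ (irrOne G)),
    if_pos (show irrOne G ∈ principalBlock M G from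
      Cfsg.Agent.Lib.Helper81Block.sameBlock_refl _)] at horth
  have e1 : ∀ χ ∈ Finset.univ.erase (irrOne G), ∃ α : ℂ, IsIntegral ℤ α ∧
      (if χ ∈ principalBlock M G then (χ : G → ℂ) 1 * conj ((χ : G → ℂ) y) else 0)
        = (l : ℂ) * α := by
    intro χ hχ
    have hχ1 : χ ≠ irrOne G := Finset.ne_of_mem_erase hχ
    split_ifs with hB
    · obtain ⟨e, he⟩ := hall χ hB hχ1
      refine ⟨(e : ℂ) * conj ((χ : G → ℂ) y), ?_, ?_⟩
      · exact (isIntegral_algebraMap (R := ℤ) (x := (e : ℤ))).mul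
          (map_isIntegral_int (starRingEnd ℂ) (irr_integral χ y)) |> fun h => by simpa using h
      · rw [← charDegree_castC, he]
        push_cast
        ring
    · exact ⟨0, isIntegral_zero, by simp⟩
  choose! α hα1 hα2 using e1
  rw [Finset.sum_congr rfl hα2, ← Finset.mul_sum] at horth
  apply not_integral_inv l hl (-∑ χ ∈ Finset.univ.erase (irrOne G), α χ)
    (IsIntegral.neg (IsIntegral.sum _ hα1))
  have h11 : ((irrOne G : IrrCharacter G) : G → ℂ) 1 * conj (((irrOne G : IrrCharacter G) : G → ℂ) y)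
      = 1 := by
    simp [irrOne]
  rw [h11] at horth
  linear_combination -horth

/-- if `C_G(P) ≠ P`, there is an element of prime order `q ≠ p` in `C_G(P)`. -/
theorem exists_prime_order_centralizer {p : ℕ} [Fact p.Prime] (P : Sylow p G)
    (hP : Nat.card (P : Subgroup G) = p)
    (hC : Nat.card (centralizer ((P : Subgroup G) : Set G)) ≠ p) :
    ∃ (q : ℕ) (c : G), q.Prime ∧ q ≠ p ∧ c ∈ centralizer ((P : Subgroup G) : Set G) ∧
      orderOf c = q := by
  have hp : p.Prime := Fact.out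
  have hcyc : IsCyclic (P : Subgroup G) := isCyclic_of_prime_card hP
  have hcomm : IsMulCommutative (P : Subgroup G) := hcyc.isMulCommutative
  have hPC : (P : Subgroup G) ≤ centralizer ((P : Subgroup G) : Set G) :=
    (P : Subgroup G).le_centralizer
  obtain ⟨k, hk⟩ : p ∣ Nat.card (centralizer ((P : Subgroup G) : Set G)) := by
    have := Subgroup.card_dvd_of_le hPC
    rwa [hP] at this
  have hfac : (Nat.card G).factorization p = 1 := by
    have h1 := P.card_eq_multiplicity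
    rw [hP] at h1
    exact (Nat.pow_right_injective hp.two_le (by simpa using h1)).symm
  have hk1 : k ≠ 1 := by
    intro h1
    rw [h1, mul_one] at hk
    exact hC hk
  have hpk : ¬ p ∣ k := by
    rintro ⟨j, rfl⟩
    have h1 : p ^ 2 ∣ Nat.card G := by
      refine Dvd.dvd.trans ?_ (Subgroup.card_subgroup_dvd_card
        (centralizer ((P : Subgroup G) : Set G)))
      rw [hk]
      exact ⟨j, by ring⟩
    have h2 := (hp.pow_dvd_iff_le_factorization Nat.card_pos.ne').mp h1
    omega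
  set q := k.minFac with hq
  have hqp : q.Prime := Nat.minFac_prime hk1
  have : Fact q.Prime := ⟨hqp⟩
  have hqk : q ∣ k := Nat.minFac_dvd k
  obtain ⟨c, hc⟩ := exists_prime_orderOf_dvd_card' (G := centralizer ((P : Subgroup G) : Set G)) q
    (by rw [hk]; exact hqk.mul_left p)
  refine ⟨q, c, hqp, ?_, c.2, by rw [← hc, Subgroup.orderOf_coe]⟩
  intro h
  exact hpk (h ▸ hqk)

/-- **the `l`-adic principle**: if `C_G(P) ≠ P` then some divisor `x ≥ 2p` of `|G|` prime to `p`
is prime to `l`. -/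
theorem no_big_centralizer [Fintype G] [IsSimpleGroup G] (hG : ¬ IsMulCommutative G)
    {p : ℕ} [Fact p.Prime] (P : Sylow p G)
    (hP : Nat.card (P : Subgroup G) = p)
    (hC : Nat.card (centralizer ((P : Subgroup G) : Set G)) ≠ p) (l : ℕ) (hl : 1 < l)
    (hodd : ∀ x, x ∣ Nat.card G → ¬ p ∣ x → 2 * p ≤ x → l ∣ x) : False := by
  have hp : p.Prime := Fact.out
  obtain ⟨M, hM⟩ := Cfsg.Agent.Lib.Helper81ClassMul.exists_modular hp
  obtain ⟨q, c, hq, hqp, hc, hcq⟩ := exists_prime_order_centralizer P hP hC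
  have hpG : p ∣ Nat.card G := by
    have := Subgroup.card_subgroup_dvd_card (P : Subgroup G)
    rwa [hP] at this
  apply block_prime_principle hM hpG l hl
  intro χ hχ hχ1
  exact hodd _ (charDegree_dvd χ) (not_dvd_deg hM P hP χ hχ)
    (two_p_le_deg_gen hG hM P hP q hq hqp c hc hcq χ hχ hχ1)

end Cfsg.Agent.Lib.Helper5Exc3
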