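import Mathlib
import Cfsg.Prelude.Def_Blocks
import Cfsg.Agent.Lib.Helper5Exc3

set_option autoImplicit false
set_option linter.unusedSectionVars false

/-! The class multiplication formula and its consequence when `N_G(P)` is dihedral of order `2p`. -/

namespace Cfsg.Agent.Lib.Helper5Exc4

open Cfsg Subgroup
open Cfsg.Agent.Lib.Helper81Base Cfsg.Agent.Lib.Helper81BB Cfsg.Agent.Lib.Helper82Linear
  Cfsg.Agent.Lib.Helper81Orth Cfsg.Agent.Lib.Helper81ClassMul
  Cfsg.Agent.Lib.Helper59BLDual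
  Cfsg.Agent.Lib.Helper59BLGram Cfsg.Agent.Lib.Helper59BLTw Cfsg.Agent.Lib.Helper59BLStruct
  Cfsg.Agent.Lib.Helper59BLSec Cfsg.Agent.Lib.Helper59BLFin Cfsg.Agent.Lib.Helper5Exc
  Cfsg.Agent.Lib.Helper5Exc2 Cfsg.Agent.Lib.Helper5Exc3
open scoped ComplexConjugate

/-- a finite set which is a union of left cosets of `H` has cardinality divisible by `|H|`. -/
theorem card_dvd_of_right_invariant {Γ : Type*} [Group Γ] [Fintype Γ] [DecidableEq Γ]
    (H : Subgroup Γ) (X : Finset Γ) (hX : ∀ x ∈ X, ∀ h ∈ H, x * h ∈ X) :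
    Nat.card H ∣ X.card := by
  classical
  let _ : Fintype H := Fintype.ofFinite _
  rw [Finset.card_eq_sum_card_image (fun x : Γ => (QuotientGroup.mk x : Γ ⧸ H)) X]
  apply Finset.dvd_sum
  intro q hq
  obtain ⟨x₀, hx₀, rfl⟩ := Finset.mem_image.mp hq
  have hinj : Function.Injective (fun h : H => x₀ * (h : Γ)) := fun a b hab =>
    Subtype.ext (mul_left_cancel (a := x₀) hab)
  have : X.filter (fun x => (QuotientGroup.mk x : Γ ⧸ H) = (QuotientGroup.mk x₀ : Γ ⧸ H))
      = (Finset.univ : Finset H).map ⟨fun h : H => x₀ * (h : Γ), hinj⟩ := by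
    ext x
    rw [Finset.mem_filter, Finset.mem_map]
    constructor
    · rintro ⟨_, h2⟩
      exact ⟨⟨x₀⁻¹ * x, QuotientGroup.eq.mp h2.symm⟩, Finset.mem_univ _, mul_inv_cancel_left x₀ x⟩
    · rintro ⟨h, _, rfl⟩
      refine ⟨hX x₀ hx₀ h h.2, ?_⟩
      rw [eq_comm, QuotientGroup.eq]
      show x₀⁻¹ * (x₀ * (h : Γ)) ∈ H
      rw [inv_mul_cancel_left]
      exact h.2
  rw [this, Finset.card_map, Finset.card_univ, Nat.card_eq_fintype_card]

variable {G : Type*} [Group G] [Fintype G] [DecidableEq G]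

/-- the number of ways to write `y` as a product of two conjugates of `z` (parametrized). -/
def pairs (z y : G) : Finset (G × G) :=
  Finset.univ.filter (fun st => st.1 * z * st.1⁻¹ * (st.2 * z * st.2⁻¹) = y)

theorem card_sq_dvd_pairs (z y : G) (S : Subgroup G) (hS : ∀ c ∈ S, c * z = z * c) :
    Nat.card S * Nat.card S ∣ (pairs z y).card := by
  have h1 := card_dvd_of_right_invariant (S.prod S) (pairs z y) (by
    rintro ⟨s, t⟩ hst ⟨c, c'⟩ hc
    simp only [pairs, Finset.mem_filter, Finset.mem_univ, true_and, Prod.mk_mul_mk] at hst ⊢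
    have hc1 : c * z * c⁻¹ = z := by rw [hS c hc.1, mul_inv_cancel_right]
    have hc2 : c' * z * c'⁻¹ = z := by rw [hS c' hc.2, mul_inv_cancel_right]
    have e1 : s * c * z * (s * c)⁻¹ = s * (c * z * c⁻¹) * s⁻¹ := by group
    have e2 : t * c' * z * (t * c')⁻¹ = t * (c' * z * c'⁻¹) * t⁻¹ := by group
    rw [e1, e2, hc1, hc2]
    exact hst)
  have h2 : Nat.card (S.prod S) = Nat.card S * Nat.card S := by
    rw [Nat.card_congr (Subgroup.prodEquiv S S).toEquiv, Nat.card_prod]
  rwa [h2] at h1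

/-- the class multiplication formula. -/
theorem card_pairs (z y : G) :
    ((pairs z y).card : ℂ) = (Nat.card G : ℂ) * theta z z y := by
  have h0 := card_ne_zero (G := G)
  have key : ∀ χ : IrrCharacter G, ∑ s : G, ∑ t : G,
      (χ : G → ℂ) (s * z * s⁻¹ * (t * z * t⁻¹) * y⁻¹)
      = (Nat.card G : ℂ) * (Nat.card G : ℂ) * ((χ : G → ℂ) z * (χ : G → ℂ) z *
        (χ : G → ℂ) y⁻¹ / ((χ : G → ℂ) 1 * (χ : G → ℂ) 1)) := by
    intro χ
    have h1 : ∀ s : G, ∑ t : G, (χ : G → ℂ) (s * z * s⁻¹ * (t * z * t⁻¹) * y⁻¹)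
        = (Nat.card G : ℂ) * (χ : G → ℂ) z * (χ : G → ℂ) (s * z * s⁻¹ * y⁻¹) / (χ : G → ℂ) 1 := by
      intro s
      have : ∀ t : G, (χ : G → ℂ) (s * z * s⁻¹ * (t * z * t⁻¹) * y⁻¹)
          = (χ : G → ℂ) (t * z * t⁻¹ * (y⁻¹ * (s * z * s⁻¹))) := by
        intro t
        rw [mul_assoc, irr_mul_comm, mul_assoc]
      simp only [this]
      rw [irr_avg, irr_mul_comm χ y⁻¹]
    simp only [h1]
    rw [← Finset.sum_div, ← Finset.mul_sum, irr_avg]
    have hχ1 : (χ : G → ℂ) 1 ≠ 0 := irr_one_ne_zero χ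
    field_simp
  have e1 : ∀ st : G × G, ∑ χ : IrrCharacter G,
      (χ : G → ℂ) (st.1 * z * st.1⁻¹ * (st.2 * z * st.2⁻¹) * y⁻¹) * conj ((χ : G → ℂ) 1)
      = if st.1 * z * st.1⁻¹ * (st.2 * z * st.2⁻¹) = y then (Nat.card G : ℂ) else 0 := by
    intro st
    classical
    rw [irr_orth2]
    by_cases h : st.1 * z * st.1⁻¹ * (st.2 * z * st.2⁻¹) = y
    · rw [if_pos h, h, mul_inv_cancel, if_pos (IsConj.refl 1)]
      congr 1
      have : centralizer ({1} : Set G) = ⊤ := by
        ext g; simp [mem_centralizer_singleton_iff]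
      rw [this, Subgroup.card_top]
    · rw [if_neg h, if_neg]
      intro hc
      rw [isConj_one_left] at hc
      exact h (mul_inv_eq_one.mp hc)
  have e2 : (Nat.card G : ℂ) * ((pairs z y).card : ℂ)
      = ∑ st : G × G, ∑ χ : IrrCharacter G,
      (χ : G → ℂ) (st.1 * z * st.1⁻¹ * (st.2 * z * st.2⁻¹) * y⁻¹) * conj ((χ : G → ℂ) 1) := by
    simp only [e1]
    rw [← Finset.sum_filter, Finset.sum_const, nsmul_eq_mul, mul_comm]
    rfl
  rw [Finset.sum_comm] at e2
  have e3 : ∀ χ : IrrCharacter G, ∑ st : G × G,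
      (χ : G → ℂ) (st.1 * z * st.1⁻¹ * (st.2 * z * st.2⁻¹) * y⁻¹) * conj ((χ : G → ℂ) 1)
      = (Nat.card G : ℂ) * (Nat.card G : ℂ) * ((χ : G → ℂ) z * (χ : G → ℂ) z *
        conj ((χ : G → ℂ) y) / (χ : G → ℂ) 1) := by
    intro χ
    rw [← Finset.sum_mul, Fintype.sum_prod_type, key χ]
    obtain ⟨n, hn, hn1⟩ := irr_one χ
    have hχ1 : (χ : G → ℂ) 1 ≠ 0 := irr_one_ne_zero χ
    have hc : conj ((χ : G → ℂ) 1) = (χ : G → ℂ) 1 := by rw [hn1]; simp
    rw [hc, irr_inv]
    field_simp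
  rw [Finset.sum_congr rfl (fun χ _ => e3 χ), ← Finset.mul_sum, mul_assoc] at e2
  have e4 := mul_left_cancel₀ h0 e2
  rw [e4]
  rfl

omit [DecidableEq G] in
open scoped Classical in
/-- characters outside the principal block vanish on `P \ {1}` when `C_G(P) = P`. -/
theorem vanish_off_block {p : ℕ} [Fact p.Prime] {M : Ideal AlgInt} {P : Sylow p G}
    (h : BL p M P) (hP : Nat.card (P : Subgroup G) = p)
    (hC : Nat.card (centralizer ((P : Subgroup G) : Set G)) = p)
    (y : (P : Subgroup G)) (hy : y ≠ 1) (χ : IrrCharacter G) (hχ : χ ∉ principalBlock M G) :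
    (χ : G → ℂ) y = 0 := by
  have hy1 : (y : G) ≠ 1 := fun h1 => hy (Subtype.ext h1)
  have h1 := gram_elem h y y hy
  rw [if_pos (IsConj.refl _), hP] at h1
  have h2 := irr_orth2 (y : G) (y : G)
  rw [if_pos (IsConj.refl _)] at h2
  have hcent : centralizer ({(y : G)} : Set G) = centralizer ((P : Subgroup G) : Set G) := by
    have h3 := h.hfrob y y.2 hy1
    apply le_antisymm
    · intro g hg
      rw [mem_centralizer_iff]
      intro x hx
      have hmem : (⟨x, hx⟩ : (P : Subgroup G)) ∈ zpowers y :=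
        mem_zpowers_of_prime_card hP hy
      obtain ⟨k, hk⟩ := hmem
      have hk' : (y : G) ^ k = x := by
        have := congrArg Subtype.val hk
        simpa using this
      rw [mem_centralizer_singleton_iff] at hg
      have hc : Commute g (y : G) := hg
      rw [← hk']
      exact (hc.zpow_right k).eq.symm
    · exact centralizer_le (Set.singleton_subset_iff.mpr y.2)
  rw [hcent, hC] at h2
  have h3 : ∑ χ : IrrCharacter G, (if χ ∈ principalBlock M G then 0 else
      (χ : G → ℂ) y * conj ((χ : G → ℂ) y)) = 0 := by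
    have : ∀ χ : IrrCharacter G, (if χ ∈ principalBlock M G then 0 else
      (χ : G → ℂ) y * conj ((χ : G → ℂ) y)) = (χ : G → ℂ) y * conj ((χ : G → ℂ) y)
        - (if χ ∈ principalBlock M G then (χ : G → ℂ) y * conj ((χ : G → ℂ) y) else 0) := by
      intro χ
      split_ifs <;> simp
    rw [Finset.sum_congr rfl (fun χ _ => this χ), Finset.sum_sub_distrib, h1, h2, sub_self]
  have h4 : ∑ χ : IrrCharacter G, (if χ ∈ principalBlock M G then 0 else
      Complex.normSq ((χ : G → ℂ) y)) = 0 := by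
    have : ((∑ χ : IrrCharacter G, (if χ ∈ principalBlock M G then 0 else
      Complex.normSq ((χ : G → ℂ) y)) : ℝ) : ℂ) = 0 := by
      rw [← h3]
      push_cast
      apply Finset.sum_congr rfl
      intro χ _
      split_ifs
      · rfl
      · rw [Complex.mul_conj]
    exact_mod_cast this
  have h5 := (Finset.sum_eq_zero_iff_of_nonneg (fun χ _ => by
    split_ifs
    · exact le_refl _
    · exact Complex.normSq_nonneg _)).mp h4 χ (Finset.mem_univ _)
  rw [if_neg hχ] at h5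
  exact Complex.normSq_eq_zero.mp h5

theorem alg_identity (a β x f s δ' : ℂ) (hx : x ≠ 0) (hf : f ≠ 0) (hs : s ^ 2 = 1)
    (hδ : δ' ^ 2 = 1) (h1 : 1 + s * a = δ' * β) (h2 : 1 + s * x = δ' * f) :
    (1 + a * a * s / x + β * β / f * (-δ')) * x * (x + s) = (x - a) ^ 2 := by
  have hδ0 : δ' ≠ 0 := by
    intro h0
    rw [h0] at hδ
    norm_num at hδ
  have hv : 1 + s * x ≠ 0 := by
    rw [h2]; exact mul_ne_zero hδ0 hf
  have hβ : β = δ' * (1 + s * a) := by
    rw [h1, ← mul_assoc, ← pow_two, hδ, one_mul]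
  have hf2 : f = δ' * (1 + s * x) := by
    rw [h2, ← mul_assoc, ← pow_two, hδ, one_mul]
  have hterm : β * β / f * (-δ') = -((1 + s * a) ^ 2 / (1 + s * x)) := by
    rw [hβ, hf2]
    field_simp
    linear_combination (-(1 + s * a) ^ 2) * hδ
  rw [hterm]
  have e1 : a * a * s / x * x = a * a * s := by field_simp
  have e2 : (1 + s * a) ^ 2 / (1 + s * x) * (1 + s * x) = (1 + s * a) ^ 2 := by field_simp
  have hxs : x + s = s * (1 + s * x) := by linear_combination (-x) * hs
  linear_combination (1 + a * a * s / x - (1 + s * a) ^ 2 / (1 + s * x)) * x * hxs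
    + (s * (1 + s * x)) * e1 - (s * x) * e2 + (x - a) ^ 2 * hs

omit [DecidableEq G] in
open scoped Classical in
/-- **the dihedral formula**: `C_G(P) = P`, `|N_G(P) : P| = 2`. -/
theorem dihedral_formula {p : ℕ} [Fact p.Prime] (P : Sylow p G)
    (hP : Nat.card (P : Subgroup G) = p)
    (hC : Nat.card (centralizer ((P : Subgroup G) : Set G)) = p)
    (hm : (centralizer ((P : Subgroup G) : Set G)).relIndex
      (normalizer ((P : Subgroup G) : Set G)) = 2) (hp5 : 5 ≤ p) :
    ∃ (χ₁ : IrrCharacter G) (s : ℤ), χ₁ ≠ irrOne G ∧ (s = 1 ∨ s = -1) ∧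
      ((charDegree (χ₁ : G → ℂ) : ℤ) ≡ s [ZMOD p]) ∧
      (((charDegree (χ₁ : G → ℂ) : ℤ) + s).natAbs ∣ Nat.card G) ∧
      ∀ z : G, ¬ p ∣ orderOf z → ∀ y ∈ (P : Subgroup G), y ≠ 1 →
        theta z z y * (charDegree (χ₁ : G → ℂ) : ℂ) * ((charDegree (χ₁ : G → ℂ) : ℂ) + s)
          = ((charDegree (χ₁ : G → ℂ) : ℂ) - (χ₁ : G → ℂ) z) ^ 2 := by
  have hp : p.Prime := Fact.out
  obtain ⟨M, hM⟩ := exists_modular hp
  let _ : Fintype ↥(P : Subgroup G) := Fintype.ofFinite _
  let _ : Fintype (normalizer ((P : Subgroup G) : Set G)) := Fintype.ofFinite _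
  have h : BL p M P := bl_of_prime hM P hP
  have := finite_hom ↥(P : Subgroup G) h.hab
  let _ : Fintype (↥(P : Subgroup G) →* ℂˣ) := Fintype.ofFinite _
  obtain ⟨δ, d, ζ, A, D⟩ := exists_data h 2 hm (by rw [hP]; omega)
  have hp1 : 1 < Nat.card ↥(P : Subgroup G) := by rw [hP]; exact hp.one_lt
  obtain ⟨ψ₀, hψ₀⟩ := exists_ne_one h hp1
  have hreg1 : ¬ p ∣ orderOf (1 : G) := by
    rw [orderOf_one]; exact hp.one_lt.ne' ∘ Nat.dvd_one.mp
  set X := Xset M ζ with hX
  set Y := Yset ζ with hY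
  set r := Nat.card Y with hr
  have hrp : r * 2 + 1 = p := by rw [← hP]; exact card_Y h D hm
  have hr2 : 2 ≤ r := by omega
  set η := ζ ψ₀ with hη
  have hηY : η ∈ Y := ⟨ψ₀, hψ₀, rfl⟩
  have h1X : irrOne G ∈ X := one_mem_X h D
  have hδ2 : δ ^ 2 = 1 := by rcases D.hδ with h' | h' <;> rw [h'] <;> norm_num
  have hnorm := norm_eq D
  -- remove the principal character
  set B : IrrCharacter G → ℤ := fun χ => if χ ∈ X ∧ χ ≠ irrOne G then A χ else 0 with hB
  have hBsum : ∑ χ, B χ * B χ = 1 + 2 * δ * d - r * d ^ 2 := by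
    have e1 : ∀ χ, (if χ ∈ X then A χ ^ 2 else 0) = B χ * B χ + if χ = irrOne G then 1 else 0 := by
      intro χ
      simp only [hB]
      by_cases h1 : χ = irrOne G
      · subst h1
        simp [h1X, D.hAone]
      · by_cases h2 : χ ∈ X
        · simp [h1, h2]; ring
        · simp [h1, h2]
    rw [Finset.sum_congr rfl (fun χ _ => e1 χ), Finset.sum_add_distrib, Finset.sum_ite_eq'] at hnorm
    simp only [Finset.mem_univ, if_true] at hnorm
    push_cast at hnorm
    linarith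
  have hregη : ∀ g : G, ¬ p ∣ orderOf g → ((r : ℂ) * d - δ) * (η : G → ℂ) g
      + ∑ χ, (if χ ∈ X then (A χ : ℂ) * (χ : G → ℂ) g else 0) = 0 := fun g hg => reg_rel D hηY g hg
  have hBnn : 0 ≤ ∑ χ, B χ * B χ := Finset.sum_nonneg (fun χ _ => mul_self_nonneg _)
  have hr2' : (2 : ℤ) ≤ (r : ℤ) := by exact_mod_cast hr2
  -- the possible values of `d`
  have hcase : (d = 0 ∨ (d = δ ∧ r = 2)) := by
    set e := δ * d with he
    have hde : d ^ 2 = e ^ 2 := by rw [he, mul_pow, hδ2, one_mul]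
    have hdδ : d = δ * e := by rw [he, ← mul_assoc, ← pow_two, hδ2, one_mul]
    rw [hBsum, mul_assoc, ← he, hde] at hBnn
    have he1 : e = 0 ∨ e = 1 := by
      have h1 : e ≤ 1 := by nlinarith
      have h2 : 0 ≤ e := by nlinarith
      omega
    rcases he1 with he0 | he1
    · left; rw [hdδ, he0, mul_zero]
    · right
      have hd : d = δ := by rw [hdδ, he1, mul_one]
      refine ⟨hd, ?_⟩
      rw [he1] at hBnn
      have hr3 : r ≤ 3 := by
        have : (r : ℤ) ≤ 3 := by linarith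
        exact_mod_cast this
      by_contra hr'
      have hr3' : r = 3 := by omega
      -- then `X = {1}`, contradiction with the degree equation
      have hB0 : ∑ χ, B χ * B χ = 0 := by
        rw [hBsum, mul_assoc, ← he, he1, hde, he1, hr3']; norm_num
      have hBz : ∀ χ, B χ = 0 := by
        intro χ
        have := (Finset.sum_eq_zero_iff_of_nonneg (fun χ _ => mul_self_nonneg (B χ))).mp hB0 χ
          (Finset.mem_univ _)
        exact mul_self_eq_zero.mp this
      have h3 := hregη 1 hreg1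
      have h4 : ∑ χ, (if χ ∈ X then (A χ : ℂ) * (χ : G → ℂ) 1 else 0) = 1 := by
        rw [Finset.sum_eq_single (irrOne G)]
        · rw [if_pos h1X, D.hAone]; simp [irrOne]
        · intro χ _ hne
          split_ifs with hχ
          · have := hBz χ
            simp only [hB, if_pos (And.intro hχ hne)] at this
            rw [this]; simp
          · rfl
        · intro h'; exact absurd (Finset.mem_univ _) h'
      rw [h4, hr3', hd, ← charDegree_castC] at h3
      have h5 : ((2 * δ * (charDegree (η : G → ℂ) : ℤ) + 1 : ℤ) : ℂ) = 0 := by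
        push_cast
        linear_combination h3
      have h6 : 2 * δ * (charDegree (η : G → ℂ) : ℤ) + 1 = 0 := by exact_mod_cast h5
      rcases D.hδ with h' | h' <;> rw [h'] at h6 <;> omega
  have hB1 : ∑ χ, B χ * B χ = 1 := by
    rw [hBsum]
    rcases hcase with hd | ⟨hd, hr'⟩
    · rw [hd]; ring
    · rw [hd, hr', mul_assoc, ← pow_two, hδ2]; norm_num
  obtain ⟨χ₁, hs, hz⟩ := Cfsg.Agent.Lib.Helper32Virt.int_sq_sum_one B hB1
  have hχ₁ : χ₁ ∈ X ∧ χ₁ ≠ irrOne G := by
    by_contra hcon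
    simp only [hB, if_neg hcon] at hs
    omega
  have hBA : B χ₁ = A χ₁ := by simp only [hB, if_pos hχ₁]
  set s := A χ₁ with hsdef
  rw [hBA] at hs
  have hs2 : s ^ 2 = 1 := by rcases hs with h' | h' <;> rw [h'] <;> norm_num
  have hXall : ∀ χ ∈ X, χ = irrOne G ∨ χ = χ₁ := by
    intro χ hχ
    by_contra hcon
    push Not at hcon
    have h1 := hz χ hcon.2
    simp only [hB, if_pos (And.intro hχ hcon.1)] at h1
    exact X_ne_zero h D hp1 hχ h1
  have hXsum : ∀ F : IrrCharacter G → ℂ, ∑ χ, (if χ ∈ X then F χ else 0)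
      = F (irrOne G) + F χ₁ := by
    intro F
    rw [← Finset.sum_subset (Finset.subset_univ {irrOne G, χ₁}),
      Finset.sum_pair (fun h' => hχ₁.2 h'.symm), if_pos h1X, if_pos hχ₁.1]
    intro χ _ hne
    simp only [Finset.mem_insert, Finset.mem_singleton, not_or] at hne
    rw [if_neg]
    intro hχ
    rcases hXall χ hχ with h' | h'
    · exact hne.1 h'
    · exact hne.2 h'
  set δ' : ℤ := δ - r * d with hδ'
  have hδ'2 : δ' ^ 2 = 1 := by
    rcases hcase with hd | ⟨hd, hr'⟩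
    · rw [hδ', hd]; simpa using hδ2
    · rw [hδ', hd, hr']
      have : δ - ((2 : ℕ) : ℤ) * δ = -δ := by push_cast; ring
      rw [this, neg_sq, hδ2]
  have hrel : ∀ g : G, ¬ p ∣ orderOf g →
      1 + (s : ℂ) * (χ₁ : G → ℂ) g = (δ' : ℂ) * (η : G → ℂ) g := by
    intro g hg
    have h1 := hregη g hg
    rw [hXsum (fun χ => (A χ : ℂ) * (χ : G → ℂ) g), D.hAone] at h1
    have h2 : ((irrOne G : IrrCharacter G) : G → ℂ) g = 1 := rfl
    rw [h2] at h1
    rw [hδ']
    push_cast
    linear_combination h1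
  set x := charDegree (χ₁ : G → ℂ) with hx
  set f := charDegree (η : G → ℂ) with hf
  have hxf : 1 + s * (x : ℤ) = δ' * f := by
    have h1 := hrel 1 hreg1
    rw [← charDegree_castC, ← charDegree_castC] at h1
    exact_mod_cast h1
  have hx0 : (x : ℂ) ≠ 0 := by
    have := (Cfsg.Agent.Lib.Helper83Char.charDegree_pos χ₁.2).ne'
    exact_mod_cast this
  have hf0 : (f : ℂ) ≠ 0 := by
    have := (Cfsg.Agent.Lib.Helper83Char.charDegree_pos η.2).ne'
    exact_mod_cast this
  refine ⟨χ₁, s, hχ₁.2, hs, ?_, ?_, ?_⟩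
  · -- congruence
    obtain ⟨k, hk⟩ := sum_res P χ₁
    rw [sum_split_one, hP] at hk
    have hcardP : ∑ y : ↥(P : Subgroup G), (if y ≠ 1 then (1 : ℂ) else 0) = (p : ℂ) - 1 := by
      have := sum_split_one (H := ↥(P : Subgroup G)) (fun _ => (1 : ℂ))
      simp only [Finset.sum_const, Finset.card_univ, nsmul_eq_mul, mul_one] at this
      rw [← Nat.card_eq_fintype_card, hP] at this
      linear_combination -this
    have e1 : ∑ y : ↥(P : Subgroup G), (if y ≠ 1 then (χ₁ : G → ℂ) y else 0)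
        = (s : ℂ) * ((p : ℂ) - 1) := by
      rw [← hcardP, Finset.mul_sum]
      apply Finset.sum_congr rfl
      intro y _
      by_cases hy : y = 1
      · simp [hy]
      · simp only [ne_eq, hy, not_false_eq_true, if_true, mul_one]
        exact X_val D hχ₁.1 y hy
    rw [e1] at hk
    have hk2 : ((x : ℤ) : ℂ) = ((s + p * (k - s) : ℤ) : ℂ) := by
      push_cast
      rw [hx, charDegree_castC]
      simp only [OneMemClass.coe_one] at hk
      linear_combination hk
    have hk3 : (x : ℤ) = s + p * (k - s) := by exact_mod_cast hk2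
    rw [hk3]
    exact Int.modEq_iff_dvd.mpr ⟨-(k - s), by ring⟩
  · have h1 : ((x : ℤ) + s).natAbs = f := by
      have h2 : (x : ℤ) + s = s * δ' * f := by
        have : s * (1 + s * (x : ℤ)) = s * (δ' * f) := by rw [hxf]
        have h3 : s * (1 + s * (x : ℤ)) = s + s ^ 2 * x := by ring
        rw [h3, hs2] at this
        linarith
      rw [h2, Int.natAbs_mul, Int.natAbs_mul, Int.natAbs_natCast]
      have h4 : s.natAbs = 1 := by rcases hs with h' | h' <;> rw [h'] <;> rfl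
      have h5 : δ'.natAbs = 1 := by
        have : δ' = 1 ∨ δ' = -1 := by
          have : (δ' - 1) * (δ' + 1) = 0 := by ring_nf; rw [hδ'2]; ring
          rcases mul_eq_zero.mp this with h' | h'
          · left; omega
          · right; omega
        rcases this with h' | h' <;> rw [h'] <;> rfl
      rw [h4, h5]; ring
    rw [h1]
    exact charDegree_dvd η
  · intro z hz y hy hy1
    have hy' : (⟨y, hy⟩ : (P : Subgroup G)) ≠ 1 := fun h' => hy1 (congrArg Subtype.val h')
    unfold theta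
    rw [sum_split D (fun χ => (χ : G → ℂ) z * (χ : G → ℂ) z * conj ((χ : G → ℂ) y) / (χ : G → ℂ) 1)
      (fun χ hχ => by
        have := vanish_off_block h hP hC ⟨y, hy⟩ hy' χ hχ
        simp only at this
        rw [this]; simp)]
    rw [hXsum (fun χ => (χ : G → ℂ) z * (χ : G → ℂ) z * conj ((χ : G → ℂ) y) / (χ : G → ℂ) 1)]
    have hχ₁y : (χ₁ : G → ℂ) y = (s : ℂ) := X_val D hχ₁.1 ⟨y, hy⟩ hy'
    have hYpart : ∑ χ, (if χ ∈ Y then
        (χ : G → ℂ) z * (χ : G → ℂ) z * conj ((χ : G → ℂ) y) / (χ : G → ℂ) 1 else 0)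
        = (η : G → ℂ) z * (η : G → ℂ) z / (f : ℂ) * (-(δ' : ℂ)) := by
      have e1 : ∀ χ, (if χ ∈ Y then
          (χ : G → ℂ) z * (χ : G → ℂ) z * conj ((χ : G → ℂ) y) / (χ : G → ℂ) 1 else 0)
          = (η : G → ℂ) z * (η : G → ℂ) z / (f : ℂ) *
            conj (if χ ∈ Y then (χ : G → ℂ) y else 0) := by
        intro χ
        split_ifs with hχ
        · rw [Y_agree D hχ hηY z hz, Y_agree D hχ hηY 1 hreg1, hf, charDegree_castC]
          ring
        · simp
      rw [Finset.sum_congr rfl (fun χ _ => e1 χ), ← Finset.mul_sum, ← map_sum]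
      congr 1
      have e2 : ∀ χ, (if χ ∈ Y then (χ : G → ℂ) y else 0)
          = (if χ ∈ Y then (d : ℂ) else 0) + (δ : ℂ) *
            ∑ ψ : ↥(P : Subgroup G) →* ℂˣ, (if ψ ≠ 1 ∧ ζ ψ = χ then
              ((ψ ⟨y, hy⟩ : ℂˣ) : ℂ) else 0) := by
        intro χ
        split_ifs with hχ
        · rw [← A_of_mem_Y D hχ]
          exact D.hval χ (Yset_sub D hχ) ⟨y, hy⟩ hy'
        · rw [Finset.sum_eq_zero, mul_zero, add_zero]
          intro ψ _
          rw [if_neg]
          rintro ⟨h1, h2⟩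
          exact hχ ⟨ψ, h1, h2⟩
      rw [Finset.sum_congr rfl (fun χ _ => e2 χ), Finset.sum_add_distrib, sum_Y_const,
        ← Finset.mul_sum, Finset.sum_comm]
      have e3 : ∀ ψ : ↥(P : Subgroup G) →* ℂˣ, ∑ χ : IrrCharacter G,
          (if ψ ≠ 1 ∧ ζ ψ = χ then ((ψ ⟨y, hy⟩ : ℂˣ) : ℂ) else 0)
          = ((ψ ⟨y, hy⟩ : ℂˣ) : ℂ) - if ψ = 1 then 1 else 0 := by
        intro ψ
        by_cases hψ : ψ = 1
        · subst hψ
          simp
        · simp only [ne_eq, hψ, not_false_eq_true, true_and, if_false, sub_zero]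
          rw [Finset.sum_ite_eq]
          simp
      rw [Finset.sum_congr rfl (fun ψ _ => e3 ψ), Finset.sum_sub_distrib, Finset.sum_ite_eq']
      simp only [Finset.mem_univ, if_true]
      have e4 : ∑ ψ : ↥(P : Subgroup G) →* ℂˣ, ((ψ ⟨y, hy⟩ : ℂˣ) : ℂ) = 0 :=
        sum_dual_eq_zero h.hab hy'
      rw [e4, hδ']
      simp only [nsmul_eq_mul, map_add, map_mul, map_natCast, map_intCast, map_sub, map_zero,
        map_one]
      push_cast
      ring
    rw [hYpart, hχ₁y]
    have h1 : ((irrOne G : IrrCharacter G) : G → ℂ) z = 1 := rfl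
    have h2 : ((irrOne G : IrrCharacter G) : G → ℂ) y = 1 := rfl
    have h3 : ((irrOne G : IrrCharacter G) : G → ℂ) 1 = 1 := rfl
    rw [h1, h2, h3, ← charDegree_castC χ₁]
    have hβ := hrel z hz
    have hxfC : 1 + (s : ℂ) * (x : ℂ) = (δ' : ℂ) * (f : ℂ) := by exact_mod_cast hxf
    have hs2C : (s : ℂ) ^ 2 = 1 := by exact_mod_cast hs2
    have hδ'2C : (δ' : ℂ) ^ 2 = 1 := by exact_mod_cast hδ'2
    set a := (χ₁ : G → ℂ) z with ha
    set β := (η : G → ℂ) z with hβdef
    have hfin := alg_identity a β (x : ℂ) (f : ℂ) (s : ℂ) (δ' : ℂ) hx0 hf0 hs2C hδ'2C hβ hxfC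
    simp only [map_one, map_intCast, mul_one, div_one]
    exact hfin

omit [DecidableEq G] in
/-- arithmetic consequence of the dihedral formula, using an involution in the centre of a Sylow
`2`-subgroup. -/
theorem dihedral_arith [IsSimpleGroup G] (hG : ¬ IsMulCommutative G) {p : ℕ} [Fact p.Prime]
    (P : Sylow p G) (hP : Nat.card (P : Subgroup G) = p)
    (hC : Nat.card (centralizer ((P : Subgroup G) : Set G)) = p)
    (hm : (centralizer ((P : Subgroup G) : Set G)).relIndex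
      (normalizer ((P : Subgroup G) : Set G)) = 2) (hp5 : 5 ≤ p) (T : Sylow 2 G)
    (hT : 2 ∣ Nat.card (T : Subgroup G)) :
    ∃ (x b N : ℕ) (s : ℤ), (s = 1 ∨ s = -1) ∧ x ∣ Nat.card G ∧ x ≠ 1 ∧
      ((x : ℤ) ≡ s [ZMOD p]) ∧ (((x : ℤ) + s).natAbs ∣ Nat.card G) ∧ 0 < b ∧ Even b ∧ b ≤ x ∧
      ((N : ℤ) * (Nat.card (T : Subgroup G)) ^ 2) * x * ((x : ℤ) + s) = (Nat.card G : ℤ) * 4 * b ^ 2 := by
  classical
  have hp : p.Prime := Fact.out
  obtain ⟨χ₁, s, hχ₁, hs, hcong, hdvd, hform⟩ := dihedral_formula P hP hC hm hp5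
  -- a central involution of `T`
  have hTnt : Nontrivial (T : Subgroup G) := by
    rw [← Finite.one_lt_card_iff_nontrivial]
    have := Nat.le_of_dvd Nat.card_pos hT
    omega
  have hcnt : Nontrivial (center (T : Subgroup G)) := T.isPGroup'.center_nontrivial
  have hc2 : 2 ∣ Nat.card (center (T : Subgroup G)) := by
    obtain ⟨k, hk⟩ := IsPGroup.iff_card.mp (T.isPGroup'.to_subgroup (center (T : Subgroup G)))
    rw [hk]
    rcases k with _ | k
    · exfalso
      rw [pow_zero] at hk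
      have := Finite.one_lt_card_iff_nontrivial.mpr hcnt
      omega
    · exact dvd_pow_self 2 (Nat.succ_ne_zero k)
  obtain ⟨z₀, hz₀⟩ := exists_prime_orderOf_dvd_card' (G := center (T : Subgroup G)) 2 hc2
  set z : G := ((z₀ : (T : Subgroup G)) : G) with hz
  have hzo : orderOf z = 2 := by
    rw [hz, Subgroup.orderOf_coe, Subgroup.orderOf_coe, hz₀]
  have hzT : ∀ c ∈ (T : Subgroup G), c * z = z * c := by
    intro c hc
    have := mem_center_iff.mp z₀.2 ⟨c, hc⟩
    exact congrArg Subtype.val this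
  have hzz : z * z = 1 := by rw [← pow_two, ← hzo]; exact pow_orderOf_eq_one z
  have hz1 : z ≠ 1 := by
    intro h1
    rw [h1, orderOf_one] at hzo
    omega
  have hzp : ¬ p ∣ orderOf z := by
    rw [hzo]
    intro hd
    have := Nat.le_of_dvd (by norm_num) hd
    omega
  obtain ⟨b, hb0, hbe, hbx, hb⟩ := inv_lemma hG χ₁ hχ₁ z hzz hz1
  have hp1 : 1 < Nat.card ↥(P : Subgroup G) := by rw [hP]; exact hp.one_lt
  have : Nontrivial ↥(P : Subgroup G) := Finite.one_lt_card_iff_nontrivial.mp hp1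
  obtain ⟨y, hy⟩ := exists_ne (1 : ↥(P : Subgroup G))
  have hy1 : (y : G) ≠ 1 := fun h1 => hy (Subtype.ext h1)
  obtain ⟨N, hN⟩ := card_sq_dvd_pairs z (y : G) (T : Subgroup G) hzT
  have h1 := card_pairs z (y : G)
  have h2 := hform z hzp y y.2 hy1
  refine ⟨charDegree (χ₁ : G → ℂ), b, N, s, hs, charDegree_dvd χ₁, charDegree_ne_one hG χ₁ hχ₁,
    hcong, hdvd, hb0, hbe, hbx, ?_⟩
  rw [hb] at h2
  rw [hN] at h1
  have h3 : (((N : ℤ) * (Nat.card (T : Subgroup G)) ^ 2) * (charDegree (χ₁ : G → ℂ) : ℤ) *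
      (((charDegree (χ₁ : G → ℂ) : ℤ)) + s) : ℤ) = ((Nat.card G : ℤ) * 4 * b ^ 2 : ℂ) := by
    push_cast at h1 ⊢
    linear_combination ((charDegree (χ₁ : G → ℂ) : ℂ) * ((charDegree (χ₁ : G → ℂ) : ℂ) + s)) * h1
      + (Nat.card G : ℂ) * h2
  exact_mod_cast h3

end Cfsg.Agent.Lib.Helper5Exc4
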