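import Mathlib
import Cfsg.Prelude.Def_Characters
import Cfsg.Agent.Lib.Helper4Eigen
import Cfsg.Agent.Lib.Helper4Galois

set_option autoImplicit false

namespace Cfsg.Agent.Lib.Helper5Galois

open Polynomial Module

/-- the field of algebraic numbers inside `ℂ`. -/
noncomputable abbrev K : IntermediateField ℚ ℂ := algebraicClosure ℚ ℂ

theorem isAlgebraic_coe (x : K) : IsAlgebraic ℚ (x : ℂ) := mem_algebraicClosure_iff.mp x.2

/-- An algebraic number fixed by all embeddings is rational. -/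
theorem exists_rat_of_fixed (x : K) (h : ∀ ψ : K →+* ℂ, ψ x = (x : ℂ)) : ∃ q : ℚ, (x : ℂ) = q := by
  classical
  have halg := isAlgebraic_coe x
  have hint : IsIntegral ℚ (x : ℂ) := halg.isIntegral
  set p := minpoly ℚ (x : ℂ) with hp
  have hroots : p.rootSet ℂ = {(x : ℂ)} := by
    ext β
    constructor
    · intro hβ
      obtain ⟨ψ, hψ⟩ := Helper4Galois.exists_embedding_of_conjugate (x : ℂ) β halg hβ
      rw [Set.mem_singleton_iff, ← hψ]
      exact h ψ
    · intro hβ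
      rw [Set.mem_singleton_iff] at hβ
      rw [hβ, Polynomial.mem_rootSet]
      exact ⟨minpoly.ne_zero hint, minpoly.aeval ℚ _⟩
  have hsep : p.Separable := (minpoly.irreducible hint).separable
  have hcard := Polynomial.card_rootSet_eq_natDegree (K := ℂ) hsep (IsAlgClosed.splits _)
  have h1 : p.natDegree = 1 := by
    rw [← hcard]
    simp [hroots]
  have h2 : p.degree = 1 := by
    rw [Polynomial.degree_eq_natDegree (minpoly.ne_zero hint), h1]
    rfl
  obtain ⟨q, hq⟩ := minpoly.mem_range_of_degree_eq_one ℚ (x : ℂ) h2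
  exact ⟨q, by rw [← hq]; rfl⟩

theorem isAlgebraic_of_pow_eq_one {μ : ℂ} {n : ℕ} (hn : 0 < n) (h : μ ^ n = 1) :
    IsAlgebraic ℚ μ := Helper4Galois.isAlgebraic_of_pow_eq_one hn h

/-- the standard primitive root of unity as an element of `K`. -/
noncomputable def zetaK (n : ℕ) (hn : 0 < n) : K :=
  ⟨Complex.exp (2 * Real.pi * Complex.I / n), mem_algebraicClosure_iff.mpr
    (isAlgebraic_of_pow_eq_one hn (Complex.isPrimitiveRoot_exp n hn.ne').pow_eq_one)⟩

theorem zetaK_coe (n : ℕ) (hn : 0 < n) :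
    IsPrimitiveRoot ((zetaK n hn : K) : ℂ) n := Complex.isPrimitiveRoot_exp n hn.ne'

theorem zetaK_prim (n : ℕ) (hn : 0 < n) : IsPrimitiveRoot (zetaK n hn) n := by
  have h := zetaK_coe n hn
  exact IsPrimitiveRoot.of_map_of_injective (f := (algebraMap K ℂ)) h (algebraMap K ℂ).injective

theorem apply_of_apply_zeta (n : ℕ) (hn : 0 < n) (ψ : K →+* ℂ) (m : ℕ)
    (hm : ψ (zetaK n hn) = ((zetaK n hn : K) : ℂ) ^ m) (x : K) (hx : (x : ℂ) ^ n = 1) :
    ψ x = (x : ℂ) ^ m := by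
  haveI : NeZero n := ⟨hn.ne'⟩
  obtain ⟨a, -, ha⟩ := (zetaK_coe n hn).eq_pow_of_pow_eq_one hx
  have hxa : x = zetaK n hn ^ a := by
    apply Subtype.ext
    rw [← ha]
    rfl
  rw [hxa, map_pow, hm]
  push_cast
  rw [← pow_mul, ← pow_mul, mul_comm]

/-- every embedding acts on `n`-th roots of unity as a power map with exponent prime to `n`. -/
theorem exists_pow_of_ringHom (n : ℕ) (hn : 0 < n) (ψ : K →+* ℂ) :
    ∃ m : ℕ, m.Coprime n ∧ ∀ x : K, (x : ℂ) ^ n = 1 → ψ x = (x : ℂ) ^ m := by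
  have h1 : IsPrimitiveRoot (ψ (zetaK n hn)) n := (zetaK_prim n hn).map_of_injective ψ.injective
  haveI : NeZero n := ⟨hn.ne'⟩
  obtain ⟨m, -, hm, hm2⟩ := ((zetaK_coe n hn).isPrimitiveRoot_iff).mp h1
  exact ⟨m, hm, fun x hx => apply_of_apply_zeta n hn ψ m hm2.symm x hx⟩

/-- every exponent prime to `n` is realised by an embedding. -/
theorem exists_ringHom_of_coprime (n : ℕ) (hn : 0 < n) (m : ℕ) (hm : m.Coprime n) :
    ∃ ψ : K →+* ℂ, ∀ x : K, (x : ℂ) ^ n = 1 → ψ x = (x : ℂ) ^ m := by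
  have hz := zetaK_coe n hn
  have halg := isAlgebraic_coe (zetaK n hn)
  have hroot : ((zetaK n hn : K) : ℂ) ^ m ∈ (minpoly ℚ ((zetaK n hn : K) : ℂ)).rootSet ℂ := by
    rw [Polynomial.mem_rootSet]
    refine ⟨minpoly.ne_zero halg.isIntegral, ?_⟩
    have h1 : minpoly ℚ ((zetaK n hn : K) : ℂ) = minpoly ℚ (((zetaK n hn : K) : ℂ) ^ m) := by
      rw [← Polynomial.cyclotomic_eq_minpoly_rat hz hn,
        ← Polynomial.cyclotomic_eq_minpoly_rat (hz.pow_of_coprime m hm) hn]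
    rw [h1]
    exact minpoly.aeval ℚ _
  obtain ⟨ψ, hψ⟩ := Helper4Galois.exists_embedding_of_conjugate _ _ halg hroot
  exact ⟨ψ, fun x hx => apply_of_apply_zeta n hn ψ m hψ x hx⟩

section Rep

variable {G : Type*} [Group G] [Finite G] {V : Type*} [AddCommGroup V] [Module ℂ V]
  [FiniteDimensional ℂ V] (ρ : Representation ℂ G V)

theorem char_isAlgebraic (g : G) : IsAlgebraic ℚ (ρ.character g) :=
  ((Helper4Eigen.char_isIntegral ρ g).tower_top (A := ℚ)).isAlgebraic

/-- the character value as an element of `K`. -/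
noncomputable def charK (g : G) : K :=
  ⟨ρ.character g, mem_algebraicClosure_iff.mpr (char_isAlgebraic ρ g)⟩

theorem charK_coe (g : G) : ((charK ρ g : K) : ℂ) = ρ.character g := rfl

theorem apply_charK (n : ℕ) (hn : 0 < n) (hG : ∀ g : G, g ^ n = 1) (ψ : K →+* ℂ) (m : ℕ)
    (hψ : ∀ x : K, (x : ℂ) ^ n = 1 → ψ x = (x : ℂ) ^ m) (g : G) :
    ψ (charK ρ g) = ρ.character (g ^ m) := by
  obtain ⟨μ, h1, -, h3, h4, -⟩ := Helper4Eigen.exists_eigenvalues ρ g
  have hμn : ∀ i, μ i ^ n = 1 := by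
    intro i
    obtain ⟨c, hc⟩ := orderOf_dvd_of_pow_eq_one (hG g)
    rw [hc, pow_mul, h1, one_pow]
  let μK : Fin (finrank ℂ V) → K := fun i =>
    ⟨μ i, mem_algebraicClosure_iff.mpr (isAlgebraic_of_pow_eq_one hn (hμn i))⟩
  have hx : charK ρ g = ∑ i, μK i := by
    apply Subtype.ext
    rw [charK_coe, h4]
    simp [μK]
  rw [hx, map_sum, h3]
  apply Finset.sum_congr rfl
  intro i _
  exact hψ (μK i) (hμn i)

end Rep

end Cfsg.Agent.Lib.Helper5Galois
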