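import Mathlib
import Cfsg.Agent.Lib.Helper26Sh3
import Cfsg.Agent.Lib.Helper6Transport
import Cfsg.Agent.Lib.Helper54Ord168b
import Cfsg.Agent.Lib.Helper63SylowNum2
import Cfsg.Agent.Lib.Helper21Simple
import Cfsg.Agent.S0074

/-!
Vocabulary for PROJECT 105: recognition of `PSL(2, 2^f)` from the order (S1011: 504, S0981: 4080).
-/

set_option autoImplicit false

namespace Cfsg.Agent.Lib.Helper5L2qDefs

open Subgroup

/-- `2`-element -/
def Is2 {G : Type*} [Group G] (g : G) : Prop := ∃ k : ℕ, orderOf g = 2 ^ k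

/-- the numerical/centraliser data from which `PSL(2,q)`, `q = 2^f`, is recognised -/
structure CIT (G : Type*) [Group G] (q : ℕ) : Prop where
  pow : ∃ f : ℕ, 1 ≤ f ∧ q = 2 ^ f
  card : Nat.card G = q * (q - 1) * (q + 1)
  cent : ∀ y : G, y ≠ 1 → Is2 y → IsPGroup 2 (centralizer ({y} : Set G))
  count : Nat.card {g : G // Is2 g} ≤ q * q

end Cfsg.Agent.Lib.Helper5L2qDefs
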