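import Mathlib
import Cfsg.Agent.Lib.Helper5L2qDefs

/-!
PROJECT 105, pieces A1-A5 (simple groups of order 504) and some general tools.
-/

set_option autoImplicit false

namespace Cfsg.Agent.Lib.Helper5L2qA

open Subgroup Cfsg.Agent.Lib.Helper5L2qDefs Cfsg.Agent.Lib.Helper21Simple
  Cfsg.Agent.Lib.Helper63SylowNum2

/-! ### general tools -/

section tools

variable {G : Type*} [Group G]

theorem card_mul_relIndex' {H K : Subgroup G} (h : H ≤ K) :
    Nat.card H * H.relIndex K = Nat.card K := by
  have := relIndex_mul_relIndex (⊥ : Subgroup G) H K bot_le h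
  rwa [relIndex_bot_left, relIndex_bot_left] at this

theorem centralizer_zpowers' (x : G) :
    centralizer ((zpowers x : Subgroup G) : Set G) = centralizer ({x} : Set G) := by
  apply le_antisymm
  · apply centralizer_le
    intro y hy
    rw [Set.mem_singleton_iff] at hy
    rw [hy]
    exact mem_zpowers x
  · intro g hg
    rw [mem_centralizer_singleton_iff] at hg
    rw [mem_centralizer_iff]
    rintro _ ⟨k, rfl⟩
    have : Commute g x := hg
    exact (this.zpow_right k).symm.eq

/-- an element of order `p` generates a Sylow subgroup when these have order `p` -/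
theorem exists_sylow_eq_zpowers [Finite G] {p : ℕ} [Fact p.Prime]
    (hP : ∀ P : Sylow p G, Nat.card P = p) (x : G) (hx : orderOf x = p) :
    ∃ P : Sylow p G, (P : Subgroup G) = zpowers x := by
  have hp : IsPGroup p (zpowers x) := IsPGroup.of_card (n := 1) (by rw [Nat.card_zpowers, hx, pow_one])
  obtain ⟨P, hle⟩ := hp.exists_le_sylow
  refine ⟨P, (eq_of_le_of_card_ge hle ?_).symm⟩
  rw [hP P, Nat.card_zpowers, hx]

/-- centraliser of an element of order `p` (Sylow subgroups of order `p`) in a simple group, when
the Sylow normaliser has order `2p` -/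
theorem card_centralizer_of_two_mul [Finite G] [IsSimpleGroup G] (hG : ¬ IsMulCommutative G)
    {p : ℕ} [Fact p.Prime] (hP : ∀ P : Sylow p G, Nat.card P = p)
    (hN : ∀ P : Sylow p G, Nat.card (normalizer ((P : Subgroup G) : Set G)) = 2 * p)
    (x : G) (hx : orderOf x = p) : Nat.card (centralizer ({x} : Set G)) = p := by
  have hp : p.Prime := Fact.out
  obtain ⟨P, hPx⟩ := exists_sylow_eq_zpowers hP x hx
  have hC : centralizer ((P : Subgroup G) : Set G) = centralizer ({x} : Set G) := by
    rw [hPx, centralizer_zpowers']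
  have hle : centralizer ((P : Subgroup G) : Set G) ≤ normalizer ((P : Subgroup G) : Set G) :=
    centralizer_le_normalizer _
  have h1 : Nat.card (centralizer ((P : Subgroup G) : Set G)) ∣ 2 * p := by
    rw [← hN P]; exact card_dvd_of_le hle
  have h2 : p ∣ Nat.card (centralizer ((P : Subgroup G) : Set G)) := by
    rw [hC]
    have : zpowers x ≤ centralizer ({x} : Set G) := by
      rw [zpowers_le, mem_centralizer_singleton_iff]
    have := card_dvd_of_le this
    rwa [Nat.card_zpowers, hx] at this
  rw [← hC]
  obtain ⟨c, hc⟩ := h2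
  rw [hc, mul_comm 2 p] at h1
  have h3 : c ∣ 2 := Nat.dvd_of_mul_dvd_mul_left hp.pos h1
  rcases (Nat.dvd_prime Nat.prime_two).mp h3 with rfl | rfl
  · rw [hc, mul_one]
  · exfalso
    apply not_normalizer_le_centralizer hG P
      (by
        have := card_subgroup_dvd_card (P : Subgroup G)
        rwa [hP P] at this)
    have : centralizer ((P : Subgroup G) : Set G) = normalizer ((P : Subgroup G) : Set G) :=
      eq_of_le_of_card_ge hle (by rw [hN P, hc, mul_comm])
    rw [this]

end tools

/-! ### order 504 -/

section A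

variable {G : Type*} [Group G] [Finite G] [IsSimpleGroup G]

theorem not_comm (h : Nat.card G = 504) : ¬ IsMulCommutative G :=
  not_comm_of_not_prime (by rw [h]; norm_num)

instance fact7 : Fact (Nat.Prime 7) := ⟨by norm_num⟩
instance fact3 : Fact (Nat.Prime 3) := ⟨by norm_num⟩

theorem card_P7 (h : Nat.card G = 504) (P : Sylow 7 G) : Nat.card P = 7 :=
  card_sylow_eq_prime P (m := 72) (by rw [h]) (by norm_num)

theorem card_P3 (h : Nat.card G = 504) (P : Sylow 3 G) : Nat.card P = 9 :=
  (sylow_card_index (p := 3) (a := 2) (m := 56) (by rw [h]; norm_num) (by norm_num) P).1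

/-- A1 -/
theorem index_ne_seven (h : Nat.card G = 504) (H : Subgroup G) : H.index ≠ 7 := by
  intro h7
  classical
  have hG := not_comm h
  have : Fintype (G ⧸ H) := Fintype.ofFinite _
  have hcard : Fintype.card (G ⧸ H) = 7 := by
    rw [← h7, Subgroup.index, Nat.card_eq_fintype_card]
  have hH : H ≠ ⊤ := by
    rintro rfl
    simp at h7
  let φ : G →* Equiv.Perm (G ⧸ H) := MulAction.toPermHom G (G ⧸ H)
  have hφker : φ.ker = ⊥ := by
    rcases (φ.normal_ker).eq_bot_or_eq_top with h | h
    · exact h
    · exfalso
      apply hH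
      have h1 : φ.ker = H.normalCore := (Subgroup.normalCore_eq_ker H).symm
      have h2 : H.normalCore ≤ H := Subgroup.normalCore_le H
      rw [← h1, h] at h2
      exact top_le_iff.mp h2
  have hφinj : Function.Injective φ := (MonoidHom.ker_eq_bot_iff φ).mp hφker
  have hmem : ∀ g : G, φ g ∈ alternatingGroup (G ⧸ H) := by
    intro g
    rw [Equiv.Perm.mem_alternatingGroup]
    exact sign_eq_one hG g
  set ψ : G →* alternatingGroup (G ⧸ H) := φ.codRestrict _ hmem with hψ
  have hinj : Function.Injective ψ := by
    intro a b hab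
    apply hφinj
    exact congrArg Subtype.val hab
  have hnt : Nontrivial (G ⧸ H) := by
    rw [← Fintype.one_lt_card_iff_nontrivial, hcard]; norm_num
  have hA : Nat.card (alternatingGroup (G ⧸ H)) = 2520 := by
    have h2 := two_mul_card_alternatingGroup (α := G ⧸ H)
    rw [Fintype.card_perm, hcard] at h2
    rw [Nat.card_eq_fintype_card]
    have : Nat.factorial 7 = 5040 := by decide
    omega
  have hr : Nat.card ψ.range = 504 := by
    rw [← h]
    exact (Nat.card_congr (MonoidHom.ofInjective hinj).toEquiv).symm
  have hidx : ψ.range.index = 5 := by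
    have := ψ.range.card_mul_index
    rw [hr, hA] at this
    omega
  haveI : IsSimpleGroup (alternatingGroup (G ⧸ H)) :=
    alternatingGroup.isSimpleGroup (by rw [Nat.card_eq_fintype_card, hcard]; norm_num)
  have hAnc : ¬ IsMulCommutative (alternatingGroup (G ⧸ H)) :=
    not_comm_of_not_prime (by rw [hA]; norm_num)
  have key := two_mul_card_dvd_factorial hAnc ψ.range (by
    intro ht
    rw [ht, index_top] at hidx
    omega)
  rw [hidx, hA] at key
  have : Nat.factorial 5 = 120 := by decide
  rw [this] at key
  omega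

/-- A2 -/
theorem card_syl7 (h : Nat.card G = 504) : Nat.card (Sylow 7 G) = 36 := by
  have hG := not_comm h
  obtain ⟨P⟩ : Nonempty (Sylow 7 G) := inferInstance
  have h1 : Nat.card (Sylow 7 G) ≡ 1 [MOD 7] := card_sylow_modEq_one 7 G
  have h2 : Nat.card (Sylow 7 G) ∣ 72 := by
    have := P.card_dvd_index
    rwa [(sylow_card_index (p := 7) (a := 1) (m := 72) (by rw [h]; norm_num) (by norm_num) P).2] at this
  have h3 : Nat.card (Sylow 7 G) ≠ 1 := card_sylow_ne_one hG (by rw [h]; norm_num)
  have hN := card_normalizer_mul_card_sylow P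
  have hcases : Nat.card (Sylow 7 G) = 8 ∨ Nat.card (Sylow 7 G) = 36 := by
    have hle := Nat.le_of_dvd (by norm_num) h2
    unfold Nat.ModEq at h1
    generalize Nat.card (Sylow 7 G) = n at *
    interval_cases n <;> simp_all
  rcases hcases with h8 | h36
  · exfalso
    rw [h8, h] at hN
    have hN63 : Nat.card (normalizer ((P : Subgroup G) : Set G)) = 63 := by omega
    have hr := relIndex_centralizer_normalizer_dvd (P : Subgroup G) (card_P7 h P)
    have hm := card_mul_relIndex' (centralizer_le_normalizer ((P : Subgroup G) : Set G))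
    rw [hN63] at hm
    have h3C : 3 ∣ Nat.card (centralizer ((P : Subgroup G) : Set G)) := by
      generalize (centralizer ((P : Subgroup G) : Set G)).relIndex
        (normalizer ((P : Subgroup G) : Set G)) = k at *
      generalize Nat.card (centralizer ((P : Subgroup G) : Set G)) = c at *
      have hk : k ≤ 6 := Nat.le_of_dvd (by norm_num) hr
      interval_cases k <;> omega
    obtain ⟨y, hy⟩ := exists_prime_orderOf_dvd_card'
      (G := centralizer ((P : Subgroup G) : Set G)) 3 h3C
    have hy3 : orderOf (y : G) = 3 := by rw [Subgroup.orderOf_coe, hy]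
    have e1 := card_fixedBy_modEq_one P (y : G) y.2
    have e2 := card_modEq_card_fixedBy (α := Sylow 7 G) (y : G) hy3
    rw [h8] at e2
    have e3 : Nat.card (MulAction.fixedBy (Sylow 7 G) (y : G)) ≤ 8 := by
      rw [← h8]
      exact Nat.card_le_card_of_injective _ Subtype.val_injective
    have e4 : Nat.card (MulAction.fixedBy (Sylow 7 G) (y : G)) = 8 := by
      unfold Nat.ModEq at e1 e2
      generalize Nat.card (MulAction.fixedBy (Sylow 7 G) (y : G)) = n at *
      interval_cases n <;> simp_all
    have e5 : MulAction.fixedBy (Sylow 7 G) (y : G) = Set.univ := by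
      apply Set.eq_of_subset_of_ncard_le (Set.subset_univ _)
      rw [Set.ncard_univ, h8, ← e4]
      exact le_of_eq (Nat.card_coe_set_eq _)
    have e6 : (y : G) = 1 := by
      apply faithful h3
      intro Q
      have : Q ∈ MulAction.fixedBy (Sylow 7 G) (y : G) := by rw [e5]; trivial
      exact this
    rw [e6, orderOf_one] at hy3
    omega
  · exact h36

theorem card_N7 (h : Nat.card G = 504) (hs7 : Nat.card (Sylow 7 G) = 36) (P : Sylow 7 G) :
    Nat.card (normalizer ((P : Subgroup G) : Set G)) = 14 := by
  have hN := card_normalizer_mul_card_sylow P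
  rw [hs7, h] at hN
  omega

/-- A3 -/
theorem index_ge_nine (h : Nat.card G = 504) (h7 : ∀ H : Subgroup G, H.index ≠ 7)
    (hs7 : Nat.card (Sylow 7 G) = 36) (H : Subgroup G) (hH : H ≠ ⊤) : 9 ≤ H.index := by
  have hG := not_comm h
  have key := two_mul_card_dvd_factorial hG H hH
  rw [h] at key
  by_contra hlt
  push Not at hlt
  have h7' := h7 H
  have hcm := H.card_mul_index
  rw [h] at hcm
  generalize hk : H.index = k at *
  have hk8 : k = 8 := by
    interval_cases k
    all_goals first
      | rfl
      | (exfalso; exact h7' rfl)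
      | (exfalso; revert key; decide)
  subst hk8
  have hH63 : Nat.card H = 63 := by omega
  obtain ⟨Q⟩ : Nonempty (Sylow 7 H) := inferInstance
  have hQ := sylow_card_index (G := H) (p := 7) (a := 1) (m := 9) (by rw [hH63]; norm_num) (by norm_num) Q
  have e1 : Nat.card (Sylow 7 H) ≡ 1 [MOD 7] := card_sylow_modEq_one 7 H
  have e2 : Nat.card (Sylow 7 H) ∣ 9 := by
    have := Q.card_dvd_index
    rwa [hQ.2] at this
  have e3 : Nat.card (Sylow 7 H) = 1 := by
    have hle := Nat.le_of_dvd (by norm_num) e2
    unfold Nat.ModEq at e1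
    generalize Nat.card (Sylow 7 H) = n at *
    interval_cases n <;> simp_all
  have hs : Subsingleton (Sylow 7 H) := (Nat.card_eq_one_iff_unique.mp e3).1
  have hn : (Q : Subgroup H).Normal := Q.normal_of_subsingleton
  set P0 : Subgroup G := (Q : Subgroup H).map H.subtype with hP0
  have hP0c : Nat.card P0 = 7 := by
    rw [hP0, card_map_of_injective H.subtype_injective, hQ.1, pow_one]
  have hP0H : P0 ≤ H := map_subtype_le _
  have hsub : P0.subgroupOf H = Q := by
    rw [hP0]
    exact comap_map_eq_self_of_injective H.subtype_injective _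
  have hHN : H ≤ normalizer (P0 : Set G) := by
    rw [← normal_subgroupOf_iff_le_normalizer hP0H, hsub]
    exact hn
  have hp : IsPGroup 7 P0 := IsPGroup.of_card (n := 1) (by rw [hP0c, pow_one])
  obtain ⟨P, hle⟩ := hp.exists_le_sylow
  have hPeq : P0 = P := eq_of_le_of_card_ge hle (by rw [card_P7 h P, hP0c])
  have := card_dvd_of_le hHN
  rw [hPeq, card_N7 h hs7 P, hH63] at this
  omega

/-- A4 -/
theorem cent7 (h : Nat.card G = 504) (hs7 : Nat.card (Sylow 7 G) = 36) (x : G)
    (hx : orderOf x = 7) : Nat.card (centralizer ({x} : Set G)) = 7 :=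
  card_centralizer_of_two_mul (not_comm h) (card_P7 h) (fun P => by rw [card_N7 h hs7 P]) x hx

/-- A5 -/
theorem card_syl3 (h : Nat.card G = 504) (hidx : ∀ H : Subgroup G, H ≠ ⊤ → 9 ≤ H.index) :
    Nat.card (Sylow 3 G) = 28 := by
  have hG := not_comm h
  obtain ⟨P⟩ : Nonempty (Sylow 3 G) := inferInstance
  have h1 : Nat.card (Sylow 3 G) ≡ 1 [MOD 3] := card_sylow_modEq_one 3 G
  have h2 : Nat.card (Sylow 3 G) ∣ 56 := by
    have := P.card_dvd_index
    rwa [(sylow_card_index (p := 3) (a := 2) (m := 56) (by rw [h]; norm_num) (by norm_num) P).2] at this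
  have h3 : Nat.card (Sylow 3 G) ≠ 1 := card_sylow_ne_one hG (by rw [h]; norm_num)
  have h4 : 9 ≤ Nat.card (Sylow 3 G) := by
    rw [P.card_eq_index_normalizer]
    apply hidx
    intro ht
    apply h3
    rw [P.card_eq_index_normalizer, ht, index_top]
  have hle := Nat.le_of_dvd (by norm_num) h2
  unfold Nat.ModEq at h1
  generalize Nat.card (Sylow 3 G) = n at *
  interval_cases n <;> simp_all

end A

end Cfsg.Agent.Lib.Helper5L2qA
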