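import Mathlib
import Cfsg.Agent.Lib.Helper5L2qDefs
import Cfsg.Agent.Lib.Helper5L2qA

/-!
PROJECT 105, pieces A6, A7a, A7b, A7 (centralisers of elements of order 3, order 504).
-/

set_option autoImplicit false

namespace Cfsg.Agent.Lib.Helper5L2qA2

open Subgroup Cfsg.Agent.Lib.Helper5L2qDefs Cfsg.Agent.Lib.Helper21Simple
  Cfsg.Agent.Lib.Helper63SylowNum2 Cfsg.Agent.Lib.Helper5L2qA

/-- A6 (generic transfer lemma) -/
theorem pow_index_eq_one_of_central {N : Type*} [Group N] [Finite N] (A : Subgroup N)
    (hA : IsMulCommutative A) (x : N) (hx : x ∈ center N) (hxc : x ∈ commutator N) :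
    x ^ A.index = 1 := by
  letI : CommGroup A := { (inferInstance : Group A) with mul_comm := hA.is_comm.comm }
  have key : ∀ (k : ℕ) (g₀ : N), g₀⁻¹ * x ^ k * g₀ ∈ A → g₀⁻¹ * x ^ k * g₀ = x ^ k := by
    intro k g₀ _
    have hk : x ^ k ∈ center N := pow_mem hx k
    have := mem_center_iff.mp hk g₀
    calc g₀⁻¹ * x ^ k * g₀ = g₀⁻¹ * (x ^ k * g₀) := by group
      _ = g₀⁻¹ * (g₀ * x ^ k) := by rw [this]
      _ = x ^ k := by group
  have h1 := MonoidHom.transfer_eq_pow (MonoidHom.id A) x key
  have h2 : x ∈ (MonoidHom.transfer (MonoidHom.id A)).ker :=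
    Abelianization.commutator_subset_ker _ hxc
  rw [MonoidHom.mem_ker] at h2
  rw [h2] at h1
  have := congrArg Subtype.val h1
  simpa using this.symm

section A

variable {G : Type*} [Group G] [Finite G] [IsSimpleGroup G]

theorem commutator_eq_top (hG : ¬ IsMulCommutative G) : commutator G = ⊤ := by
  rcases (inferInstance : (commutator G).Normal).eq_bot_or_eq_top with h | h
  · exfalso
    apply hG
    refine ⟨⟨fun a b => ?_⟩⟩
    have : a * b * a⁻¹ * b⁻¹ ∈ commutator G := by
      rw [_root_.commutator_def]
      exact commutator_mem_commutator (mem_top a) (mem_top b)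
    rw [h, mem_bot] at this
    calc a * b = (a * b * a⁻¹ * b⁻¹) * (b * a) := by group
      _ = b * a := by rw [this, one_mul]
  · exact h

theorem card_N3 (h : Nat.card G = 504) (hs3 : Nat.card (Sylow 3 G) = 28) (P : Sylow 3 G) :
    Nat.card (normalizer ((P : Subgroup G) : Set G)) = 18 := by
  have hN := card_normalizer_mul_card_sylow P
  rw [hs3, h] at hN
  omega

theorem comm_P3 (h : Nat.card G = 504) (P : Sylow 3 G) : IsMulCommutative (P : Subgroup G) :=
  IsPGroup.isMulCommutative_of_card_eq_prime_sq (p := 3) (by rw [card_P3 h P]; norm_num)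

/-- a Sylow 3-subgroup containing `x` and contained in `C(x)` -/
theorem exists_P3 (h : Nat.card G = 504) (x : G) (hx : orderOf x = 3) :
    ∃ P : Sylow 3 G, x ∈ (P : Subgroup G) ∧ (P : Subgroup G) ≤ centralizer ({x} : Set G) := by
  have hp : IsPGroup 3 (zpowers x) :=
    IsPGroup.of_card (n := 1) (by rw [Nat.card_zpowers, hx, pow_one])
  obtain ⟨P, hle⟩ := hp.exists_le_sylow
  have hxP : x ∈ (P : Subgroup G) := hle (mem_zpowers x)
  refine ⟨P, hxP, ?_⟩
  intro s hs
  rw [mem_centralizer_singleton_iff]
  have := (comm_P3 h P).is_comm.comm ⟨s, hs⟩ ⟨x, hxP⟩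
  exact congrArg Subtype.val this

/-- A7a -/
theorem cent3_ne_18 (h : Nat.card G = 504) (hs3 : Nat.card (Sylow 3 G) = 28) (x : G)
    (hx : orderOf x = 3) : Nat.card (centralizer ({x} : Set G)) ≠ 18 := by
  intro h18
  have hG := not_comm h
  obtain ⟨P, hxP, hPC⟩ := exists_P3 h x hx
  set N := normalizer ((P : Subgroup G) : Set G) with hN
  have hr : (P : Subgroup G).relIndex (centralizer ({x} : Set G)) = 2 := by
    have := card_mul_relIndex' hPC
    rw [card_P3 h P, h18] at this
    omega
  have hnorm : ((P : Subgroup G).subgroupOf (centralizer ({x} : Set G))).Normal :=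
    normal_of_index_eq_two hr
  have hCN : centralizer ({x} : Set G) ≤ N := (normal_subgroupOf_iff_le_normalizer hPC).mp hnorm
  have hCeq : centralizer ({x} : Set G) = N :=
    eq_of_le_of_card_ge hCN (by rw [hN, card_N3 h hs3 P, h18])
  have hxN : x ∈ N := le_normalizer hxP
  have hcen : (⟨x, hxN⟩ : N) ∈ center N := by
    rw [mem_center_iff]
    intro g
    have hg : (g : G) ∈ centralizer ({x} : Set G) := by rw [hCeq]; exact g.2
    rw [mem_centralizer_singleton_iff] at hg
    exact Subtype.ext hg
  have hS := Cfsg.Agent.S0074.result P (comm_P3 h P)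
  rw [commutator_eq_top hG, top_inf_eq] at hS
  have hxc : x ∈ ⁅N, N⁆ := by
    have : x ∈ ⁅normalizer (P : Set G), normalizer (P : Set G)⁆ ⊓ (P : Subgroup G) := by
      rw [← hS]; exact hxP
    exact this.1
  have hxc' : (⟨x, hxN⟩ : N) ∈ commutator N := by
    rw [← map_subtype_commutator] at hxc
    obtain ⟨y, hy, hyx⟩ := hxc
    have : y = ⟨x, hxN⟩ := Subtype.ext hyx
    rwa [← this]
  have hA : IsMulCommutative ((P : Subgroup G).subgroupOf N) := by
    refine ⟨⟨fun a b => ?_⟩⟩
    have := (comm_P3 h P).is_comm.comm ⟨(a : N), a.2⟩ ⟨(b : N), b.2⟩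
    apply Subtype.ext
    apply Subtype.ext
    exact congrArg (fun z : (P : Subgroup G) => (z : G)) this
  have hidx : ((P : Subgroup G).subgroupOf N).index = 2 := by
    have h0 : Nat.card (P : Subgroup G) * (P : Subgroup G).relIndex N = Nat.card N :=
      card_mul_relIndex' (le_normalizer : (P : Subgroup G) ≤ N)
    rw [card_P3 h P, card_N3 h hs3 P] at h0
    change (P : Subgroup G).relIndex N = 2
    omega
  have key := pow_index_eq_one_of_central _ hA _ hcen hxc'
  rw [hidx] at key
  have hx2 : x ^ 2 = 1 := congrArg Subtype.val key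
  have := orderOf_dvd_of_pow_eq_one hx2
  rw [hx] at this
  omega

/-- A7b -/
theorem cent3_ne_36 (h : Nat.card G = 504) (hidx : ∀ H : Subgroup G, H ≠ ⊤ → 9 ≤ H.index)
    (hs3 : Nat.card (Sylow 3 G) = 28) (x : G)
    (hx : orderOf x = 3) : Nat.card (centralizer ({x} : Set G)) ≠ 36 := by
  intro h36
  have hG := not_comm h
  obtain ⟨P, hxP, hPC⟩ := exists_P3 h x hx
  set C := centralizer ({x} : Set G) with hC
  let P' : Sylow 3 C := P.subtype hPC
  have hP'coe : (P' : Subgroup C) = (P : Subgroup G).subgroupOf C := rfl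
  have hP'c : Nat.card (P' : Subgroup C) = 9 := by
    rw [hP'coe, ← card_P3 h P]
    exact Nat.card_congr (subgroupOfEquivOfLe hPC).toEquiv
  have hP'i := (sylow_card_index (G := C) (p := 3) (a := 2) (m := 4) (by rw [h36]; norm_num)
    (by norm_num) P').2
  have e1 : Nat.card (Sylow 3 C) ≡ 1 [MOD 3] := card_sylow_modEq_one 3 C
  have e2 : Nat.card (Sylow 3 C) ∣ 4 := by
    have := P'.card_dvd_index
    rwa [hP'i] at this
  have e3 : Nat.card (Sylow 3 C) = 1 ∨ Nat.card (Sylow 3 C) = 4 := by
    have hle := Nat.le_of_dvd (by norm_num) e2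
    unfold Nat.ModEq at e1
    generalize Nat.card (Sylow 3 C) = n at *
    interval_cases n <;> simp_all
  rcases e3 with e3 | e3
  · have hs : Subsingleton (Sylow 3 C) := (Nat.card_eq_one_iff_unique.mp e3).1
    have hn : (P' : Subgroup C).Normal := P'.normal_of_subsingleton
    rw [hP'coe] at hn
    have hCN := (normal_subgroupOf_iff_le_normalizer hPC).mp hn
    have := card_dvd_of_le hCN
    rw [card_N3 h hs3 P, h36] at this
    omega
  · have hN' := card_normalizer_mul_card_sylow P'
    rw [e3, h36] at hN'
    have hN9 : Nat.card (normalizer ((P' : Subgroup C) : Set C)) = 9 := by omega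
    have hNeq : (P' : Subgroup C) = normalizer ((P' : Subgroup C) : Set C) :=
      eq_of_le_of_card_ge le_normalizer (by rw [hN9, hP'c])
    have hNC : normalizer ((P' : Subgroup C) : Set C) ≤ centralizer ((P' : Subgroup C) : Set C) := by
      rw [← hNeq]
      intro a ha
      rw [mem_centralizer_iff]
      intro b hb
      have := (comm_P3 h P).is_comm.comm ⟨(b : G), hb⟩ ⟨(a : G), ha⟩
      apply Subtype.ext
      exact congrArg (fun z : (P : Subgroup G) => (z : G)) this
    have hcompl := MonoidHom.ker_transferSylow_isComplement' P' hNC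
    set V' : Subgroup C := (MonoidHom.transferSylow P' hNC).ker with hV'
    have hV'n : V'.Normal := MonoidHom.normal_ker _
    have hV'c : Nat.card V' = 4 := by
      have := hcompl.card_mul_card
      rw [hP'c, h36] at this
      omega
    set V : Subgroup G := V'.map C.subtype with hV
    have hVc : Nat.card V = 4 := by
      rw [hV, card_map_of_injective C.subtype_injective, hV'c]
    have hVC : V ≤ C := map_subtype_le _
    have hsub : V.subgroupOf C = V' := by
      rw [hV]
      exact comap_map_eq_self_of_injective C.subtype_injective _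
    have hCN : C ≤ normalizer (V : Set G) := by
      rw [← normal_subgroupOf_iff_le_normalizer hVC, hsub]
      exact hV'n
    have h36d : 36 ∣ Nat.card (normalizer (V : Set G)) := by
      rw [← h36]; exact card_dvd_of_le hCN
    have h8d : 8 ∣ Nat.card (normalizer (V : Set G)) := by
      have h2 := Sylow.prime_dvd_card_quotient_normalizer (G := G) (p := 2) (n := 2)
        (by rw [h]; norm_num) (H := V) (by rw [hVc]; norm_num)
      have h3 := card_eq_card_quotient_mul_card_subgroup
        (V.comap (normalizer (V : Set G)).subtype)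
      have h4 : Nat.card (V.comap (normalizer (V : Set G)).subtype) = 4 := by
        rw [← hVc]
        exact Nat.card_congr (subgroupOfEquivOfLe le_normalizer).toEquiv
      rw [h4] at h3
      rw [h3]
      obtain ⟨c, hc⟩ := h2
      rw [hc]
      exact ⟨c, by ring⟩
    have h72 : 72 ∣ Nat.card (normalizer (V : Set G)) := by
      have := Nat.lcm_dvd h36d h8d
      have e : Nat.lcm 36 8 = 72 := by decide
      rwa [e] at this
    have htop : normalizer (V : Set G) = ⊤ := by
      by_contra hne
      have h9 := hidx _ hne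
      have hcm := (normalizer (V : Set G)).card_mul_index
      rw [h] at hcm
      obtain ⟨c, hc⟩ := h72
      rw [hc] at hcm
      have hc0 : c ≠ 0 := by
        rintro rfl
        simp at hcm
      nlinarith [Nat.pos_of_ne_zero hc0]
    have hVn : V.Normal := normalizer_eq_top_iff.mp htop
    rcases hVn.eq_bot_or_eq_top with hb | ht
    · rw [hb, card_bot] at hVc
      omega
    · rw [ht, card_top, h] at hVc
      omega

/-- A7 -/
theorem cent3 (h : Nat.card G = 504) (hidx : ∀ H : Subgroup G, H ≠ ⊤ → 9 ≤ H.index)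
    (hc7 : ∀ x : G, orderOf x = 7 → Nat.card (centralizer ({x} : Set G)) = 7)
    (h18 : ∀ x : G, orderOf x = 3 → Nat.card (centralizer ({x} : Set G)) ≠ 18)
    (h36 : ∀ x : G, orderOf x = 3 → Nat.card (centralizer ({x} : Set G)) ≠ 36)
    (x : G) (hx : orderOf x = 3) : Nat.card (centralizer ({x} : Set G)) = 9 := by
  have hG := not_comm h
  obtain ⟨P, hxP, hPC⟩ := exists_P3 h x hx
  have h9 : 9 ∣ Nat.card (centralizer ({x} : Set G)) := by
    rw [← card_P3 h P]; exact card_dvd_of_le hPC
  have hd : Nat.card (centralizer ({x} : Set G)) ∣ 504 := by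
    rw [← h]; exact card_subgroup_dvd_card _
  have h7 : ¬ 7 ∣ Nat.card (centralizer ({x} : Set G)) := by
    intro h7
    obtain ⟨y, hy⟩ := exists_prime_orderOf_dvd_card' (G := centralizer ({x} : Set G)) 7 h7
    have hy7 : orderOf (y : G) = 7 := by rw [Subgroup.orderOf_coe, hy]
    have hxy : x ∈ centralizer ({(y : G)} : Set G) := by
      rw [mem_centralizer_singleton_iff]
      exact (mem_centralizer_singleton_iff.mp y.2).symm
    have := orderOf_dvd_natCard (⟨x, hxy⟩ : centralizer ({(y : G)} : Set G))
    rw [Subgroup.orderOf_mk, hx, hc7 _ hy7] at this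
    omega
  have hne : centralizer ({x} : Set G) ≠ ⊤ := by
    intro ht
    have hxc : x ∈ center G := by
      rw [mem_center_iff]
      intro g
      have : g ∈ centralizer ({x} : Set G) := by rw [ht]; trivial
      exact mem_centralizer_singleton_iff.mp this
    rcases (inferInstance : (center G).Normal).eq_bot_or_eq_top with hb | ht'
    · rw [hb, mem_bot] at hxc
      rw [hxc, orderOf_one] at hx
      omega
    · apply hG
      refine ⟨⟨fun a b => ?_⟩⟩
      have hb : b ∈ center G := by rw [ht']; trivial
      exact mem_center_iff.mp hb a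
  have hi := hidx _ hne
  have hcm := (centralizer ({x} : Set G)).card_mul_index
  rw [h] at hcm
  have h18' := h18 x hx
  have h36' := h36 x hx
  generalize Nat.card (centralizer ({x} : Set G)) = c at *
  generalize (centralizer ({x} : Set G)).index = i at *
  have hc56 : c ≤ 56 := by nlinarith
  obtain ⟨k, rfl⟩ := h9
  have hk : k ≤ 6 := by omega
  interval_cases k <;> simp_all

end A

end Cfsg.Agent.Lib.Helper5L2qA2
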