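import Mathlib
import Cfsg.Agent.Lib.Helper5L2qDefs
import Cfsg.Agent.Lib.Helper73Class

/-!
PROJECT 105, pieces Z1-Z5.
-/

set_option autoImplicit false

namespace Cfsg.Agent.Lib.Helper5L2qZ

open Subgroup Cfsg.Agent.Lib.Helper5L2qDefs Cfsg.Agent.Lib.Helper26Sh3

variable {G : Type*} [Group G] [Finite G] {q : ℕ}

theorem two_le (h : CIT G q) : 2 ≤ q := by
  obtain ⟨f, hf, hq⟩ := h.pow
  rw [hq]
  calc 2 = 2 ^ 1 := by norm_num
    _ ≤ 2 ^ f := Nat.pow_le_pow_right (by norm_num) hf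

/-- Z1 -/
theorem card_syl2 (h : CIT G q) (S : Sylow 2 G) : Nat.card S = q := by
  obtain ⟨f, hf, hq⟩ := h.pow
  have h2 := two_le h
  have hev : Even q := by rw [hq]; exact Nat.even_pow.mpr ⟨even_two, by omega⟩
  have hodd : ¬ 2 ∣ (q - 1) * (q + 1) := by
    intro hd
    rcases (Nat.Prime.dvd_mul Nat.prime_two).mp hd with h1 | h1
    · obtain ⟨a, ha⟩ := hev
      omega
    · obtain ⟨a, ha⟩ := hev
      omega
  have hc : Nat.card G = 2 ^ f * ((q - 1) * (q + 1)) := by rw [h.card, ← hq]; ring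
  rw [hq]
  exact (Cfsg.Agent.Lib.Helper21Simple.sylow_card_index hc hodd S).1

theorem is2_of_mem (S : Sylow 2 G) {y : G} (hy : y ∈ (S : Subgroup G)) : Is2 y := by
  obtain ⟨k, hk⟩ := (IsPGroup.iff_orderOf.mp S.2) ⟨y, hy⟩
  exact ⟨k, by rw [← hk, Subgroup.orderOf_mk]⟩

theorem eq_of_le_pgroup (S : Sylow 2 G) {K : Subgroup G} (hK : IsPGroup 2 K)
    (hle : (S : Subgroup G) ≤ K) : K = S := S.is_maximal' hK hle

/-- Z2 -/
theorem exists_central_invol (h : CIT G q) (hS : ∀ S : Sylow 2 G, Nat.card S = q) (S : Sylow 2 G) :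
    ∃ z ∈ (S : Subgroup G), orderOf z = 2 ∧ centralizer ({z} : Set G) = S := by
  have h2 := two_le h
  have hnt : Nontrivial (S : Subgroup G) := by
    rw [← Finite.one_lt_card_iff_nontrivial, hS S]; omega
  have hcn : Nontrivial (center (S : Subgroup G)) := S.2.center_nontrivial
  have hcp : IsPGroup 2 (center (S : Subgroup G)) := S.2.to_subgroup _
  obtain ⟨k, hk⟩ := IsPGroup.iff_card.mp hcp
  have hk0 : k ≠ 0 := by
    rintro rfl
    rw [pow_zero] at hk
    have := Finite.one_lt_card_iff_nontrivial.mpr hcn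
    omega
  obtain ⟨w, hw⟩ := exists_prime_orderOf_dvd_card' (G := center (S : Subgroup G)) 2
    (by rw [hk]; exact dvd_pow_self 2 hk0)
  set z : G := ((w : (S : Subgroup G)) : G) with hz
  have hz2 : orderOf z = 2 := by
    rw [hz, Subgroup.orderOf_coe, Subgroup.orderOf_coe, hw]
  have hzS : z ∈ (S : Subgroup G) := (w : (S : Subgroup G)).2
  refine ⟨z, hzS, hz2, ?_⟩
  apply eq_of_le_pgroup S
  · apply h.cent z _ ⟨1, by rw [hz2, pow_one]⟩
    intro h1
    rw [h1, orderOf_one] at hz2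
    omega
  · intro s hs
    rw [mem_centralizer_singleton_iff]
    have := mem_center_iff.mp w.2 ⟨s, hs⟩
    exact congrArg Subtype.val this

/-- Z3 -/
theorem all_conj (h : CIT G q) (z : G) (hz : orderOf z = 2)
    (hc : Nat.card (centralizer ({z} : Set G)) = q) :
    (∀ y : G, y ≠ 1 → Is2 y → IsConj z y) ∧ Nat.card {g : G // g ≠ 1 ∧ Is2 g} = q * q - 1 := by
  have h2 := two_le h
  have hidx : (centralizer ({z} : Set G)).index = q * q - 1 := by
    have h1 := (centralizer ({z} : Set G)).card_mul_index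
    rw [hc, h.card] at h1
    have h3 : q * (centralizer ({z} : Set G)).index = q * ((q - 1) * (q + 1)) := by
      rw [h1]; ring
    have h4 := Nat.eq_of_mul_eq_mul_left (by omega : 0 < q) h3
    rw [h4]
    obtain ⟨a, rfl⟩ : ∃ a, q = a + 1 := ⟨q - 1, by omega⟩
    simp only [Nat.add_sub_cancel]
    have : (a + 1) * (a + 1) = a * (a + 1 + 1) + 1 := by ring
    omega
  have hcl : Nat.card {y : G // IsConj z y} = q * q - 1 := by
    rw [← Cfsg.Agent.Lib.Helper73Class.index_centralizer_eq_card, hidx]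
  have hsub : {g : G | IsConj z g} ⊆ {g : G | g ≠ 1 ∧ Is2 g} := by
    intro g hg
    obtain ⟨c, hc'⟩ := isConj_iff.1 hg
    have ho : orderOf g = 2 := by
      rw [← hc', ← hz]
      exact Cfsg.Agent.Lib.Helper54Ord168b.orderOf_conj c z
    refine ⟨?_, ⟨1, by rw [ho, pow_one]⟩⟩
    rintro rfl
    rw [orderOf_one] at ho
    omega
  -- the nonidentity 2-elements are at most `q * q - 1`
  have hle : Nat.card {g : G // g ≠ 1 ∧ Is2 g} + 1 ≤ q * q := by
    refine le_trans ?_ h.count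
    have hinj : Function.Injective
        (fun o : Option {g : G // g ≠ 1 ∧ Is2 g} =>
          (match o with
          | none => (⟨1, ⟨0, by simp⟩⟩ : {g : G // Is2 g})
          | some g => ⟨g.1, g.2.2⟩)) := by
      rintro (_ | ⟨a, ha⟩) (_ | ⟨b, hb⟩) hab
      · rfl
      · exact absurd (congrArg Subtype.val hab).symm hb.1
      · exact absurd (congrArg Subtype.val hab) ha.1
      · have : a = b := congrArg Subtype.val hab
        subst this
        rfl
    have := Nat.card_le_card_of_injective _ hinj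
    rwa [Finite.card_option] at this
  have heq : {g : G | IsConj z g} = {g : G | g ≠ 1 ∧ Is2 g} := by
    apply Set.eq_of_subset_of_ncard_le hsub
    change Nat.card {g : G // g ≠ 1 ∧ Is2 g} ≤ Nat.card {g : G // IsConj z g}
    rw [hcl]
    omega
  constructor
  · intro y hy1 hy2
    have : y ∈ {g : G | g ≠ 1 ∧ Is2 g} := ⟨hy1, hy2⟩
    rw [← heq] at this
    exact this
  · rw [← hcl]
    change Nat.card ({g : G | g ≠ 1 ∧ Is2 g} : Set G) = Nat.card ({g : G | IsConj z g} : Set G)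
    rw [heq]

/-- Z4 -/
theorem ti (h : CIT G q) (hinv : ∀ y : G, Is2 y → y * y = 1) (S S' : Sylow 2 G) (y : G)
    (hy : y ≠ 1) (h1 : y ∈ (S : Subgroup G)) (h2 : y ∈ (S' : Subgroup G)) : S = S' := by
  have key : ∀ T : Sylow 2 G, y ∈ (T : Subgroup G) → centralizer ({y} : Set G) = T := by
    intro T hT
    apply eq_of_le_pgroup T (h.cent y hy (is2_of_mem T hT))
    intro s hs
    rw [mem_centralizer_singleton_iff]
    have e1 := hinv s (is2_of_mem T hs)
    have e2 := hinv y (is2_of_mem T hT)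
    have e3 := hinv (s * y) (is2_of_mem T (mul_mem hs hT))
    calc s * y = (s * y)⁻¹ := (inv_eq_iff_mul_eq_one.mpr e3).symm
      _ = y⁻¹ * s⁻¹ := mul_inv_rev s y
      _ = y * s := by rw [inv_eq_iff_mul_eq_one.mpr e1, inv_eq_iff_mul_eq_one.mpr e2]
  apply Sylow.ext
  rw [← key S h1, ← key S' h2]

/-- Z5 -/
theorem card_sylow_two (h : CIT G q) (hS : ∀ S : Sylow 2 G, Nat.card S = q)
    (hti : ∀ (S S' : Sylow 2 G) (y : G), y ≠ 1 → y ∈ (S : Subgroup G) → y ∈ (S' : Subgroup G) →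
      S = S')
    (hcount : Nat.card {g : G // g ≠ 1 ∧ Is2 g} = q * q - 1) :
    Nat.card (Sylow 2 G) = q + 1 := by
  have h2 := two_le h
  have key := Cfsg.Agent.Lib.Helper54Ord168b.card_sigma_sylow (G := G) (p := 2)
    (fun g => g ≠ 1 ∧ Is2 g) (q - 1) ?_ ?_ ?_
  · rw [hcount] at key
    obtain ⟨a, rfl⟩ : ∃ a, q = a + 1 := ⟨q - 1, by omega⟩
    simp only [Nat.add_sub_cancel] at key
    have e : (a + 1) * (a + 1) - 1 = (a + 1 + 1) * a := by
      have : (a + 1) * (a + 1) = (a + 1 + 1) * a + 1 := by ring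
      omega
    rw [e] at key
    exact (Nat.eq_of_mul_eq_mul_right (by omega : 0 < a) key).symm
  · intro P
    rw [← hS P, ← Cfsg.Agent.Lib.Helper54Ord168b.card_ne_one]
    apply Nat.card_congr
    exact Equiv.subtypeEquivRight (fun g =>
      ⟨fun hg => ⟨hg.1, hg.2.1⟩, fun hg => ⟨hg.1, hg.2, is2_of_mem P hg.1⟩⟩)
  · rintro g ⟨-, k, hk⟩
    have hp : IsPGroup 2 (zpowers g) := IsPGroup.of_card (n := k) (by rw [Nat.card_zpowers, hk])
    obtain ⟨P, hP⟩ := hp.exists_le_sylow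
    exact ⟨P, hP (mem_zpowers g)⟩
  · intro P P' g hg h1 h2
    exact hti P P' g hg.1 h1 h2

end Cfsg.Agent.Lib.Helper5L2qZ
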