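import Mathlib
import Cfsg.Agent.Lib.Helper5L2qDefs
import Cfsg.Agent.Lib.Helper5L2qZ

/-!
PROJECT 105, pieces Z6, Z7 and the assembly of part Z.
-/

set_option autoImplicit false

namespace Cfsg.Agent.Lib.Helper5L2qZ2

open Subgroup Cfsg.Agent.Lib.Helper5L2qDefs Cfsg.Agent.Lib.Helper26Sh3 Cfsg.Agent.Lib.Helper5L2qZ

section Z

variable {G : Type*} [Group G] [Finite G] {q : ℕ}

theorem mem_of_smul_eq {s : G} (hs : Is2 s) (S : Sylow 2 G) (h : s • S = S) :
    s ∈ (S : Subgroup G) := by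
  obtain ⟨k, hk⟩ := hs
  have hp : IsPGroup 2 (zpowers s) := IsPGroup.of_card (n := k) (by rw [Nat.card_zpowers, hk])
  have key := hp.inf_normalizer_sylow S
  have h1 : s ∈ zpowers s ⊓ (S : Subgroup G) := by
    rw [← key]
    exact ⟨mem_zpowers s, Sylow.smul_eq_iff_mem_normalizer.mp h⟩
  exact h1.2

/-- Z6 -/
theorem free3 (h : CIT G q) (hS : ∀ S : Sylow 2 G, Nat.card S = q)
    (hti : ∀ (S S' : Sylow 2 G) (y : G), y ≠ 1 → y ∈ (S : Subgroup G) → y ∈ (S' : Subgroup G) →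
      S = S')
    (hn : Nat.card (Sylow 2 G) = q + 1)
    (g : G) (S₁ S₂ S₃ : Sylow 2 G) (h12 : S₁ ≠ S₂) (h13 : S₁ ≠ S₃) (h23 : S₂ ≠ S₃)
    (h1 : g • S₁ = S₁) (h2 : g • S₂ = S₂) (h3 : g • S₃ = S₃) : g = 1 := by
  classical
  -- elements of `S₁` fixing `S₂` are trivial
  have hfix : ∀ u ∈ (S₁ : Subgroup G), u • S₂ = S₂ → u = 1 := by
    intro u hu hu2
    by_contra hne
    exact h12 (hti S₁ S₂ u hne hu (mem_of_smul_eq (is2_of_mem S₁ hu) S₂ hu2))
  -- the orbit of `S₂` under `S₁`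
  have hstab : MulAction.stabilizer (S₁ : Subgroup G) S₂ = ⊥ := by
    rw [eq_bot_iff]
    intro u hu
    rw [MulAction.mem_stabilizer_iff] at hu
    rw [mem_bot]
    exact Subtype.ext (hfix u.1 u.2 hu)
  have horb : Nat.card (MulAction.orbit (S₁ : Subgroup G) S₂) = q := by
    have := MulAction.index_stabilizer (S₁ : Subgroup G) S₂
    rw [hstab, index_bot, hS S₁] at this
    rw [Nat.card_coe_set_eq, ← this]
  have hsub : MulAction.orbit (S₁ : Subgroup G) S₂ ⊆ {T : Sylow 2 G | T ≠ S₁} := by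
    rintro _ ⟨u, rfl⟩ hu
    apply h12
    have h4 : (u : G) • S₁ = S₁ :=
      Sylow.smul_eq_iff_mem_normalizer.mpr (le_normalizer u.2)
    have h5 : (u : G) • S₂ = (u : G) • S₁ := by rw [h4]; exact hu
    exact (smul_left_cancel _ h5).symm
  have hcard : Nat.card {T : Sylow 2 G // T ≠ S₁} = q := by
    have : Fintype (Sylow 2 G) := Fintype.ofFinite _
    rw [Nat.card_eq_fintype_card, Fintype.card_subtype_compl, Fintype.card_subtype_eq,
      ← Nat.card_eq_fintype_card, hn]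
    omega
  have heq : MulAction.orbit (S₁ : Subgroup G) S₂ = {T : Sylow 2 G | T ≠ S₁} := by
    apply Set.eq_of_subset_of_ncard_le hsub
    change Nat.card {T : Sylow 2 G // T ≠ S₁} ≤ Nat.card (MulAction.orbit (S₁ : Subgroup G) S₂)
    rw [hcard, horb]
  have h3mem : S₃ ∈ MulAction.orbit (S₁ : Subgroup G) S₂ := by
    rw [heq]; exact fun h' => h13 h'.symm
  obtain ⟨⟨s, hs⟩, hs3⟩ := h3mem
  have hs3' : s • S₂ = S₃ := hs3
  have hs1 : s ≠ 1 := by
    rintro rfl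
    rw [one_smul] at hs3'
    exact h23 hs3'
  have hgN : g ∈ normalizer ((S₁ : Subgroup G) : Set G) := Sylow.smul_eq_iff_mem_normalizer.mp h1
  have hconj : g * s * g⁻¹ ∈ (S₁ : Subgroup G) := (mem_normalizer_iff.mp hgN s).mp hs
  have hg2 : g⁻¹ • S₂ = S₂ := by
    rw [inv_smul_eq_iff, h2]
  have hu : (s⁻¹ * (g * s * g⁻¹)) • S₂ = S₂ := by
    rw [mul_smul, mul_smul, mul_smul, hg2, hs3', h3, ← hs3', inv_smul_smul]
  have hu1 := hfix _ (mul_mem (inv_mem hs) hconj) hu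
  have hcomm : g * s = s * g := by
    have : g * s * g⁻¹ = s := by
      calc g * s * g⁻¹ = s * (s⁻¹ * (g * s * g⁻¹)) := by group
        _ = s := by rw [hu1, mul_one]
    calc g * s = g * s * g⁻¹ * g := by group
      _ = s * g := by rw [this]
  have hgC : g ∈ centralizer ({s} : Set G) := mem_centralizer_singleton_iff.mpr hcomm
  have hg2' : Is2 g := by
    obtain ⟨k, hk⟩ := (IsPGroup.iff_orderOf.mp (h.cent s hs1 (is2_of_mem S₁ hs))) ⟨g, hgC⟩
    exact ⟨k, by rw [← hk, Subgroup.orderOf_mk]⟩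
  by_contra hne
  exact h12 (hti S₁ S₂ g hne (mem_of_smul_eq hg2' S₁ h1) (mem_of_smul_eq hg2' S₂ h2))

end Z

/-- Z7 (pure group actions) -/
theorem sharp3_of_free {G Ω : Type*} [Group G] [Finite G] [MulAction G Ω] [Finite Ω] (n : ℕ)
    (hΩ : Nat.card Ω = n + 2) (hG : Nat.card G = (n + 2) * (n + 1) * n)
    (hfree : ∀ g : G, ∀ x₁ x₂ x₃ : Ω, x₁ ≠ x₂ → x₁ ≠ x₃ → x₂ ≠ x₃ → g • x₁ = x₁ → g • x₂ = x₂ →
      g • x₃ = x₃ → g = 1) : Sharp3 G Ω := by
  classical
  have : Fintype Ω := Fintype.ofFinite _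
  refine ⟨?_, hfree⟩
  have hcard : Nat.card (Fin 3 ↪ Ω) = (n + 2) * (n + 1) * n := by
    rw [Nat.card_eq_fintype_card, Fintype.card_embedding_eq, ← Nat.card_eq_fintype_card, hΩ,
      Fintype.card_fin]
    simp [Nat.descFactorial]
    ring
  have mk : ∀ x₁ x₂ x₃ : Ω, x₁ ≠ x₂ → x₁ ≠ x₃ → x₂ ≠ x₃ →
      ∃ x : Fin 3 ↪ Ω, x 0 = x₁ ∧ x 1 = x₂ ∧ x 2 = x₃ := by
    intro x₁ x₂ x₃ h12 h13 h23
    refine ⟨⟨![x₁, x₂, x₃], ?_⟩, rfl, rfl, rfl⟩
    intro i j hij
    fin_cases i <;> fin_cases j <;> simp_all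
  intro x₁ x₂ x₃ y₁ y₂ y₃ h12 h13 h23 k12 k13 k23
  obtain ⟨x, hx0, hx1, hx2⟩ := mk x₁ x₂ x₃ h12 h13 h23
  obtain ⟨y, hy0, hy1, hy2⟩ := mk y₁ y₂ y₃ k12 k13 k23
  have hstab : MulAction.stabilizer G x = ⊥ := by
    rw [eq_bot_iff]
    intro g hg
    rw [MulAction.mem_stabilizer_iff] at hg
    rw [mem_bot]
    have e : ∀ i, g • x i = x i := fun i => by
      have := congrArg (fun z : Fin 3 ↪ Ω => z i) hg
      simpa using this
    apply hfree g x₁ x₂ x₃ h12 h13 h23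
    · rw [← hx0]; exact e 0
    · rw [← hx1]; exact e 1
    · rw [← hx2]; exact e 2
  have horb : Nat.card (MulAction.orbit G x) = (n + 2) * (n + 1) * n := by
    have := MulAction.index_stabilizer G x
    rw [hstab, index_bot, hG] at this
    rw [Nat.card_coe_set_eq, ← this]
  have heq : MulAction.orbit G x = Set.univ := by
    apply Set.eq_of_subset_of_ncard_le (Set.subset_univ _)
    rw [Set.ncard_univ, hcard, ← horb]
    exact le_of_eq (Nat.card_coe_set_eq _)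
  have hy : y ∈ MulAction.orbit G x := by rw [heq]; trivial
  obtain ⟨g, hg⟩ := hy
  have e : ∀ i, g • x i = y i := fun i => by
    have := congrArg (fun z : Fin 3 ↪ Ω => z i) hg
    simpa using this
  refine ⟨g, ?_, ?_, ?_⟩
  · rw [← hx0, ← hy0]; exact e 0
  · rw [← hx1, ← hy1]; exact e 1
  · rw [← hx2, ← hy2]; exact e 2

/-- assembly of part Z -/
theorem main {G : Type*} [Group G] [Finite G] {q : ℕ} (h : CIT G q) {F : Type*} [Field F]
    [Fintype F] (hF : Fintype.card F = q) :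
    Nonempty (G ≃* Matrix.ProjectiveSpecialLinearGroup (Fin 2) F) := by
  obtain ⟨f, hf, hq⟩ := h.pow
  have hq2 : 2 ≤ q := two_le h
  have hS := card_syl2 h
  obtain ⟨S₀⟩ : Nonempty (Sylow 2 G) := inferInstance
  obtain ⟨z, hzS, hz2, hzc⟩ := exists_central_invol h hS S₀
  obtain ⟨hconj, hcount⟩ := all_conj h z hz2 (by rw [hzc]; exact hS S₀)
  have hinv : ∀ y : G, Is2 y → y * y = 1 := by
    intro y hy
    by_cases hy1 : y = 1
    · rw [hy1, mul_one]
    · obtain ⟨c, hc⟩ := isConj_iff.mp (hconj y hy1 hy)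
      have hzz : z * z = 1 := by rw [← pow_two, ← hz2, pow_orderOf_eq_one]
      rw [← hc]
      calc c * z * c⁻¹ * (c * z * c⁻¹) = c * (z * z) * c⁻¹ := by group
        _ = 1 := by rw [hzz]; group
  have hti := ti h hinv
  have hn := card_sylow_two h hS hti hcount
  have hsharp : Sharp3 G (Sylow 2 G) := by
    apply sharp3_of_free (q - 1)
    · rw [hn]; omega
    · rw [h.card]
      have e1 : q - 1 + 2 = q + 1 := by omega
      have e2 : q - 1 + 1 = q := by omega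
      rw [e1, e2]; ring
    · intro g x₁ x₂ x₃ h12 h13 h23 h1 h2 h3
      exact free3 h hS hti hn g x₁ x₂ x₃ h12 h13 h23 h1 h2 h3
  obtain ⟨a, F', _, _, ha, hcard, hF', -, ⟨e⟩, -⟩ := hsharp.main_odd
    (by rw [hn, hq]; exact (Nat.even_pow.mpr ⟨even_two, by omega⟩).add_one) (by rw [hn]; omega)
  have hqa : Fintype.card F' = Fintype.card F := by
    rw [hF', hF]
    rw [hn] at hcard
    omega
  obtain ⟨e'⟩ := Cfsg.Agent.Lib.Helper6Transport.nonempty_pslEquiv (n := Fin 2) hqa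
  exact ⟨e.trans e'⟩

end Cfsg.Agent.Lib.Helper5L2qZ2
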