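import Mathlib
import Cfsg.Agent.Lib.Helper5L2qDefs
import Cfsg.Agent.Lib.Helper5L2qA
import Cfsg.Agent.Lib.Helper5L2qA2
import Cfsg.Agent.Lib.Helper5L2qZ2

/-!
PROJECT 105, pieces A8, A9, A10 and the assembly for order 504.
-/

set_option autoImplicit false

namespace Cfsg.Agent.Lib.Helper5L2qA3

open Subgroup Cfsg.Agent.Lib.Helper5L2qDefs Cfsg.Agent.Lib.Helper21Simple
  Cfsg.Agent.Lib.Helper63SylowNum2 Cfsg.Agent.Lib.Helper5L2qA Cfsg.Agent.Lib.Helper5L2qA2

/-! ### generic tools -/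

/-- if the centralisers of the elements of odd prime order have odd order, then the centralisers
of the nonidentity `2`-elements are `2`-groups -/
theorem isPGroup_centralizer_of_odd {G : Type*} [Group G] [Finite G]
    (hodd : ∀ (r : ℕ) (x : G), r.Prime → r ≠ 2 → orderOf x = r →
      Odd (Nat.card (centralizer ({x} : Set G))))
    (y : G) (hy : y ≠ 1) (hy2 : Is2 y) : IsPGroup 2 (centralizer ({y} : Set G)) := by
  have key : ∀ {d : ℕ}, d.Prime → d ∣ Nat.card (centralizer ({y} : Set G)) → d = 2 := by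
    intro r hr hrd
    by_contra hr2
    haveI := Fact.mk hr
    obtain ⟨x, hx⟩ := exists_prime_orderOf_dvd_card' (G := centralizer ({y} : Set G)) r hrd
    have hxr : orderOf (x : G) = r := by rw [Subgroup.orderOf_coe, hx]
    have hyx : y ∈ centralizer ({(x : G)} : Set G) := by
      rw [mem_centralizer_singleton_iff]
      exact (mem_centralizer_singleton_iff.mp x.2).symm
    have h1 := orderOf_dvd_natCard (⟨y, hyx⟩ : centralizer ({(x : G)} : Set G))
    rw [Subgroup.orderOf_mk] at h1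
    obtain ⟨k, hk⟩ := hy2
    have h2 := hodd r x hr hr2 hxr
    rcases Nat.eq_zero_or_pos k with rfl | hk0
    · rw [pow_zero, orderOf_eq_one_iff] at hk
      exact hy hk
    · have h3 : 2 ∣ orderOf y := by rw [hk]; exact dvd_pow_self 2 (by omega)
      have h4 := h3.trans h1
      rw [← even_iff_two_dvd] at h4
      exact (Nat.not_even_iff_odd.mpr h2) h4
  exact IsPGroup.of_card (Nat.eq_prime_pow_of_unique_prime_dvd Nat.card_pos.ne' key)

theorem card_or {α : Type*} [Finite α] (A B : α → Prop) (h : ∀ a, A a → ¬ B a) :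
    Nat.card {a // A a ∨ B a} = Nat.card {a // A a} + Nat.card {a // B a} := by
  classical
  rw [← Nat.card_sum]
  apply Nat.card_congr
  apply subtypeOrEquiv
  intro C hCA hCB a hC
  exact h a (hCA a hC) (hCB a hC)

section A

variable {G : Type*} [Group G] [Finite G] [IsSimpleGroup G]

/-- A8 -/
theorem cent2 (h : Nat.card G = 504)
    (hc7 : ∀ x : G, orderOf x = 7 → Nat.card (centralizer ({x} : Set G)) = 7)
    (hc3 : ∀ x : G, orderOf x = 3 → Nat.card (centralizer ({x} : Set G)) = 9)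
    (y : G) (hy : y ≠ 1) (hy2 : Is2 y) : IsPGroup 2 (centralizer ({y} : Set G)) := by
  apply isPGroup_centralizer_of_odd _ y hy hy2
  intro r x hr hr2 hx
  have hrd : r ∣ 504 := by rw [← h, ← hx]; exact orderOf_dvd_natCard x
  have h504 : 504 = 2 ^ 3 * 3 ^ 2 * 7 := by norm_num
  rw [h504] at hrd
  rcases (Nat.Prime.dvd_mul hr).mp hrd with h1 | h1
  · rcases (Nat.Prime.dvd_mul hr).mp h1 with h2 | h2
    · exact absurd ((Nat.prime_dvd_prime_iff_eq hr Nat.prime_two).mp (hr.dvd_of_dvd_pow h2)) hr2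
    · have := (Nat.prime_dvd_prime_iff_eq hr Nat.prime_three).mp (hr.dvd_of_dvd_pow h2)
      subst this
      rw [hc3 x hx]; decide
  · have := (Nat.prime_dvd_prime_iff_eq hr (by norm_num : Nat.Prime 7)).mp h1
    subst this
    rw [hc7 x hx]; decide

/-- A9 -/
theorem card_three_elements (h : Nat.card G = 504) (hs3 : Nat.card (Sylow 3 G) = 28)
    (hc3 : ∀ x : G, orderOf x = 3 → Nat.card (centralizer ({x} : Set G)) = 9) :
    Nat.card {g : G // g ≠ 1 ∧ ∃ k : ℕ, orderOf g = 3 ^ k} = 224 := by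
  have key := Cfsg.Agent.Lib.Helper54Ord168b.card_sigma_sylow (G := G) (p := 3)
    (fun g => g ≠ 1 ∧ ∃ k : ℕ, orderOf g = 3 ^ k) 8 ?_ ?_ ?_
  · rw [key, hs3]
  · intro P
    have e : 8 = Nat.card (P : Subgroup G) - 1 := by rw [card_P3 h P]
    rw [e, ← Cfsg.Agent.Lib.Helper54Ord168b.card_ne_one]
    apply Nat.card_congr
    refine Equiv.subtypeEquivRight (fun g =>
      ⟨fun hg => ⟨hg.1, hg.2.1⟩, fun hg => ⟨hg.1, hg.2, ?_⟩⟩)
    obtain ⟨k, hk⟩ := (IsPGroup.iff_orderOf.mp P.2) ⟨g, hg.1⟩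
    exact ⟨k, by rw [← hk, Subgroup.orderOf_mk]⟩
  · rintro g ⟨-, k, hk⟩
    have hp : IsPGroup 3 (zpowers g) := IsPGroup.of_card (n := k) (by rw [Nat.card_zpowers, hk])
    obtain ⟨P, hP⟩ := hp.exists_le_sylow
    exact ⟨P, hP (mem_zpowers g)⟩
  · rintro P P' g ⟨hg1, k, hk⟩ h1 h2
    have hk0 : k ≠ 0 := by
      rintro rfl
      rw [pow_zero, orderOf_eq_one_iff] at hk
      exact hg1 hk
    obtain ⟨j, rfl⟩ : ∃ j, k = j + 1 := ⟨k - 1, by omega⟩
    set x := g ^ (3 ^ j) with hx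
    have hx3 : orderOf x = 3 := by
      rw [hx, orderOf_pow_of_dvd (pow_ne_zero _ (by norm_num)) (by rw [hk]; exact ⟨3, by ring⟩), hk,
        pow_succ, Nat.mul_div_cancel_left _ (pow_pos (by norm_num) j)]
    have aux : ∀ T : Sylow 3 G, g ∈ (T : Subgroup G) → (T : Subgroup G) = centralizer ({x} : Set G) := by
      intro T hT
      apply eq_of_le_of_card_ge
      · intro s hs
        rw [mem_centralizer_singleton_iff]
        have := (comm_P3 h T).is_comm.comm ⟨s, hs⟩ ⟨x, pow_mem hT _⟩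
        exact congrArg (fun z : (T : Subgroup G) => (z : G)) this
      · rw [hc3 x hx3, card_P3 h T]
    apply Sylow.ext
    rw [aux P h1, aux P' h2]

/-- A10 -/
theorem count2 (h : Nat.card G = 504) (hs7 : Nat.card (Sylow 7 G) = 36)
    (h3 : Nat.card {g : G // g ≠ 1 ∧ ∃ k : ℕ, orderOf g = 3 ^ k} = 224) :
    Nat.card {g : G // Is2 g} ≤ 8 * 8 := by
  have h7 : Nat.card {g : G // orderOf g = 7} = 216 := by
    rw [Cfsg.Agent.Lib.Helper54Ord168b.card_orderOf_eq_prime (card_P7 h), hs7]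
  have e1 := card_or (α := G) (fun g => orderOf g = 7)
    (fun g => g ≠ 1 ∧ ∃ k : ℕ, orderOf g = 3 ^ k) (by
      rintro g hg ⟨-, k, hk⟩
      rw [hg] at hk
      have : 7 ∣ 3 ^ k := by rw [← hk]
      have := (Nat.Prime.dvd_of_dvd_pow (by norm_num : Nat.Prime 7) this)
      omega)
  have e2 := card_or (α := G)
    (fun g => orderOf g = 7 ∨ (g ≠ 1 ∧ ∃ k : ℕ, orderOf g = 3 ^ k)) (fun g => Is2 g) (by
      rintro g (hg | ⟨hg1, k, hk⟩) ⟨j, hj⟩
      · rw [hg] at hj
        have : 7 ∣ 2 ^ j := by rw [← hj]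
        have := (Nat.Prime.dvd_of_dvd_pow (by norm_num : Nat.Prime 7) this)
        omega
      · rcases Nat.eq_zero_or_pos k with rfl | hk0
        · rw [pow_zero, orderOf_eq_one_iff] at hk
          exact hg1 hk
        · have : 3 ∣ 2 ^ j := by rw [← hj, hk]; exact dvd_pow_self 3 (by omega)
          have := (Nat.Prime.dvd_of_dvd_pow (by norm_num : Nat.Prime 3) this)
          omega)
  have e3 : Nat.card {g : G // (orderOf g = 7 ∨ (g ≠ 1 ∧ ∃ k : ℕ, orderOf g = 3 ^ k)) ∨ Is2 g}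
      ≤ 504 := by
    rw [← h]
    exact Nat.card_le_card_of_injective _ Subtype.val_injective
  rw [e2, e1, h7, h3] at e3
  omega

theorem cit504 (h : Nat.card G = 504) : CIT G 8 := by
  have h7 := index_ne_seven h
  have hs7 := card_syl7 h
  have hidx := index_ge_nine h h7 hs7
  have hc7 := cent7 h hs7
  have hs3 := card_syl3 h hidx
  have hc3 := cent3 h hidx hc7 (cent3_ne_18 h hs3) (cent3_ne_36 h hidx hs3)
  exact ⟨⟨3, by norm_num, by norm_num⟩, by rw [h], cent2 h hc7 hc3,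
    count2 h hs7 (card_three_elements h hs3 hc3)⟩

theorem S1011 (h : Nat.card G = 504) {F : Type*} [Field F] [Fintype F]
    (hF : Fintype.card F = 8) : Nonempty (G ≃* Matrix.ProjectiveSpecialLinearGroup (Fin 2) F) :=
  Cfsg.Agent.Lib.Helper5L2qZ2.main (cit504 h) hF

end A

end Cfsg.Agent.Lib.Helper5L2qA3
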