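import Mathlib
import Cfsg.Agent.Lib.Helper5L2qDefs
import Cfsg.Agent.Lib.Helper5L2qA
import Cfsg.Agent.Lib.Helper14Sylow

/-!
PROJECT 105, part E: the number of elements of order divisible by `r` when the Sylow
`r`-subgroups have order `r`.
-/

set_option autoImplicit false

namespace Cfsg.Agent.Lib.Helper5L2qE

open Subgroup Cfsg.Agent.Lib.Helper5L2qDefs Cfsg.Agent.Lib.Helper21Simple
  Cfsg.Agent.Lib.Helper5L2qA

variable {G : Type*} [Group G] [Finite G] {r : ℕ} [Fact r.Prime]

theorem le_centralizer_self (P : Sylow r G) (hP : Nat.card P = r) :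
    (P : Subgroup G) ≤ centralizer ((P : Subgroup G) : Set G) := by
  have hcyc : IsCyclic (P : Subgroup G) := isCyclic_of_prime_card hP
  intro a ha
  rw [mem_centralizer_iff]
  intro b hb
  have := hcyc.isMulCommutative.is_comm.comm ⟨b, hb⟩ ⟨a, ha⟩
  exact congrArg (fun z : (P : Subgroup G) => (z : G)) this

/-- in a group `C` with a normal subgroup `K` of prime index `r` and order prime to `r`, the
elements of order prime to `r` are those of `K` -/
theorem card_singular_aux {C : Type*} [Group C] [Finite C] (K : Subgroup C) [K.Normal]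
    (hi : K.index = r) (hK : (Nat.card K).Coprime r) :
    Nat.card {g : C // r ∣ orderOf g} + Nat.card K = Nat.card C := by
  classical
  have hr : r.Prime := Fact.out
  have key : ∀ g : C, r ∣ orderOf g ↔ g ∉ K := by
    intro g
    constructor
    · intro hd hg
      have h1 : orderOf g ∣ Nat.card K := by
        have := orderOf_dvd_natCard (⟨g, hg⟩ : K)
        rwa [Subgroup.orderOf_mk] at this
      have h2 := hd.trans h1
      have h3 : r ∣ Nat.gcd (Nat.card K) r := Nat.dvd_gcd h2 dvd_rfl
      rw [hK] at h3
      exact hr.one_lt.ne' (Nat.dvd_one.mp h3)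
    · intro hg
      by_contra hd
      apply hg
      have hcop : (K.index).Coprime (orderOf g) := by
        rw [hi]; exact (Nat.Prime.coprime_iff_not_dvd hr).mpr hd
      obtain ⟨m, hm⟩ := exists_pow_eq_self_of_coprime hcop
      rw [← hm]
      exact K.pow_mem (K.pow_index_mem g) m
  have e : {g : C // r ∣ orderOf g} ≃ {g : C // g ∉ K} := Equiv.subtypeEquivRight key
  rw [Nat.card_congr e]
  have : Fintype C := Fintype.ofFinite _
  rw [Nat.card_eq_fintype_card, Nat.card_eq_fintype_card, Nat.card_eq_fintype_card,
    Fintype.card_subtype_compl]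
  have : Fintype.card {x // x ∈ K} ≤ Fintype.card C := Fintype.card_subtype_le _
  have e2 : Fintype.card K = Fintype.card {x // x ∈ K} := rfl
  omega

/-- E1 -/
theorem card_singular_cent (P : Sylow r G) (hP : Nat.card P = r) :
    r * Nat.card {g : G // g ∈ centralizer ((P : Subgroup G) : Set G) ∧ r ∣ orderOf g}
      = Nat.card (centralizer ((P : Subgroup G) : Set G)) * (r - 1) := by
  have hr : r.Prime := Fact.out
  set C := centralizer ((P : Subgroup G) : Set G) with hC
  have hPC : (P : Subgroup G) ≤ C := le_centralizer_self P hP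
  let P' : Sylow r C := P.subtype hPC
  have hP'coe : (P' : Subgroup C) = (P : Subgroup G).subgroupOf C := rfl
  have hP'c : Nat.card (P' : Subgroup C) = r := by
    rw [hP'coe]
    exact (Nat.card_congr (subgroupOfEquivOfLe hPC).toEquiv).trans hP
  have hNC : normalizer ((P' : Subgroup C) : Set C) ≤ centralizer ((P' : Subgroup C) : Set C) := by
    intro a _
    rw [mem_centralizer_iff]
    intro b hb
    have hb' : (b : G) ∈ (P : Subgroup G) := hb
    have := mem_centralizer_iff.mp a.2 (b : G) hb'
    exact Subtype.ext this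
  have hcompl := MonoidHom.ker_transferSylow_isComplement' P' hNC
  set K : Subgroup C := (MonoidHom.transferSylow P' hNC).ker with hK
  have hKn : K.Normal := MonoidHom.normal_ker _
  have hcc := hcompl.card_mul_card
  rw [hP'c] at hcc
  have hKi : K.index = r := by rw [hcompl.symm.index_eq_card, hP'c]
  have hKcop : (Nat.card K).Coprime r := by
    have h1 : (P' : Subgroup C).index = Nat.card K := hcompl.index_eq_card
    rw [← h1, Nat.coprime_comm, Nat.Prime.coprime_iff_not_dvd hr]
    exact P'.not_dvd_index
  have key := card_singular_aux K hKi hKcop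
  have e : {g : G // g ∈ C ∧ r ∣ orderOf g} ≃ {g : C // r ∣ orderOf g} :=
    { toFun := fun g => ⟨⟨g.1, g.2.1⟩, by rw [Subgroup.orderOf_mk]; exact g.2.2⟩
      invFun := fun g => ⟨g.1.1, g.1.2, by
        have := g.2
        rwa [← Subgroup.orderOf_coe] at this⟩
      left_inv := fun g => rfl
      right_inv := fun g => rfl }
  rw [Nat.card_congr e]
  obtain ⟨s, hs⟩ : ∃ s, r = s + 1 := ⟨r - 1, by have := hr.pos; omega⟩
  generalize Nat.card {g : C // r ∣ orderOf g} = E at *
  generalize Nat.card K = k at *
  generalize Nat.card C = c at *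
  rw [hs] at hcc ⊢
  simp only [Nat.add_sub_cancel]
  have : E = k * s := by nlinarith
  rw [this, ← hcc]; ring

theorem mem_sylow_of_mem_centralizer (P : Sylow r G) {x : G} (hx : orderOf x = r)
    (hxC : x ∈ centralizer ((P : Subgroup G) : Set G)) : x ∈ (P : Subgroup G) := by
  have hp : IsPGroup r (zpowers x) :=
    IsPGroup.of_card (n := 1) (by rw [Nat.card_zpowers, hx, pow_one])
  have key := hp.inf_normalizer_sylow P
  have h1 : x ∈ zpowers x ⊓ (P : Subgroup G) := by
    rw [← key]
    exact ⟨mem_zpowers x, centralizer_le_normalizer _ hxC⟩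
  exact h1.2

/-- E2 -/
theorem card_singular_fiber (hP : ∀ P : Sylow r G, Nat.card P = r) (m : ℕ)
    (hm : ∀ P : Sylow r G,
      Nat.card {g : G // g ∈ centralizer ((P : Subgroup G) : Set G) ∧ r ∣ orderOf g} = m) :
    Nat.card {g : G // r ∣ orderOf g} = Nat.card (Sylow r G) * m := by
  classical
  have hr : r.Prime := Fact.out
  have : Fintype (Sylow r G) := Fintype.ofFinite _
  have hpow : ∀ g : G, r ∣ orderOf g → orderOf (g ^ (orderOf g / r)) = r := by
    intro g hg
    exact orderOf_pow_orderOf_div (orderOf_pos g).ne' hg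
  let f : (Σ P : Sylow r G,
      {g : G // g ∈ centralizer ((P : Subgroup G) : Set G) ∧ r ∣ orderOf g}) →
      {g : G // r ∣ orderOf g} := fun x => ⟨x.2.1, x.2.2.2⟩
  have huniq : ∀ (P : Sylow r G) (g : G), r ∣ orderOf g →
      g ∈ centralizer ((P : Subgroup G) : Set G) →
      (P : Subgroup G) = zpowers (g ^ (orderOf g / r)) := by
    intro P g hg hgC
    have h1 : g ^ (orderOf g / r) ∈ (P : Subgroup G) :=
      mem_sylow_of_mem_centralizer P (hpow g hg) (pow_mem hgC _)
    symm
    apply eq_of_le_of_card_ge
    · rwa [zpowers_le]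
    · rw [hP P, Nat.card_zpowers, hpow g hg]
  have hf : Function.Bijective f := by
    constructor
    · rintro ⟨P, g, hg⟩ ⟨P', g', hg'⟩ hh
      have h1 : g = g' := congrArg Subtype.val hh
      subst h1
      have h2 : P = P' := by
        apply Sylow.ext
        rw [huniq P g hg.2 hg.1, huniq P' g hg'.2 hg'.1]
      subst h2
      rfl
    · rintro ⟨g, hg⟩
      obtain ⟨P, hPx⟩ := exists_sylow_eq_zpowers hP _ (hpow g hg)
      refine ⟨⟨P, g, ?_, hg⟩, rfl⟩
      rw [hPx, centralizer_zpowers', mem_centralizer_singleton_iff]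
      exact ((Commute.refl g).pow_right _).eq
  rw [← Nat.card_congr (Equiv.ofBijective f hf), Nat.card_sigma]
  simp only [hm]
  rw [Finset.sum_const, Finset.card_univ, Nat.card_eq_fintype_card, smul_eq_mul]

/-- E3 -/
theorem card_centralizer_sylow (P P' : Sylow r G) :
    Nat.card (centralizer ((P : Subgroup G) : Set G))
      = Nat.card (centralizer ((P' : Subgroup G) : Set G)) := by
  obtain ⟨c, hc⟩ := MulAction.exists_smul_eq G P P'
  rw [← hc, Cfsg.Agent.Lib.Helper14Sylow.sylow_smul_eq_cj,
    Cfsg.Agent.Lib.Helper14Sylow.centralizer_cj, Cfsg.Agent.Lib.Helper14Sylow.card_cj]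

theorem card_singular (hP : ∀ P : Sylow r G, Nat.card P = r) (P : Sylow r G) :
    r * Nat.card {g : G // r ∣ orderOf g}
      = Nat.card (Sylow r G) * (Nat.card (centralizer ((P : Subgroup G) : Set G)) * (r - 1)) := by
  have hr : 0 < r := (Fact.out : r.Prime).pos
  have hm : ∀ P' : Sylow r G,
      Nat.card {g : G // g ∈ centralizer ((P' : Subgroup G) : Set G) ∧ r ∣ orderOf g}
        = Nat.card {g : G // g ∈ centralizer ((P : Subgroup G) : Set G) ∧ r ∣ orderOf g} := by
    intro P'
    apply Nat.eq_of_mul_eq_mul_left hr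
    rw [card_singular_cent P' (hP P'), card_singular_cent P (hP P), card_centralizer_sylow P' P]
  rw [card_singular_fiber hP _ hm, ← card_singular_cent P (hP P)]
  ring

/-- E4 : the same with the index `k = |N(P) : C(P)|` -/
theorem card_singular' (hP : ∀ P : Sylow r G, Nat.card P = r) (P : Sylow r G) :
    r * (centralizer ((P : Subgroup G) : Set G)).relIndex (normalizer ((P : Subgroup G) : Set G))
      * Nat.card {g : G // r ∣ orderOf g} = Nat.card G * (r - 1) := by
  have h1 := card_singular hP P
  have h2 := card_normalizer_mul_card_sylow P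
  have h3 := card_mul_relIndex' (centralizer_le_normalizer ((P : Subgroup G) : Set G))
  rw [← h2, ← h3]
  calc r * (centralizer ((P : Subgroup G) : Set G)).relIndex (normalizer ((P : Subgroup G) : Set G))
      * Nat.card {g : G // r ∣ orderOf g}
      = (centralizer ((P : Subgroup G) : Set G)).relIndex (normalizer ((P : Subgroup G) : Set G))
        * (r * Nat.card {g : G // r ∣ orderOf g}) := by ring
    _ = _ := by rw [h1]; ring

end Cfsg.Agent.Lib.Helper5L2qE
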