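import Mathlib
import Cfsg.Agent.Lib.Helper5L2qDefs
import Cfsg.Agent.Lib.Helper5L2qA
import Cfsg.Agent.Lib.Helper5L2qA3
import Cfsg.Agent.Lib.Helper5L2qE
import Cfsg.Agent.Lib.Helper5L2qZ2

/-!
PROJECT 105, part B: simple groups of order 4080.
-/

set_option autoImplicit false

namespace Cfsg.Agent.Lib.Helper5L2qB

open Subgroup Cfsg.Agent.Lib.Helper5L2qDefs Cfsg.Agent.Lib.Helper21Simple
  Cfsg.Agent.Lib.Helper63SylowNum2 Cfsg.Agent.Lib.Helper5L2qA Cfsg.Agent.Lib.Helper5L2qA3
  Cfsg.Agent.Lib.Helper5L2qE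

variable {G : Type*} [Group G] [Finite G] [IsSimpleGroup G]

instance fact5 : Fact (Nat.Prime 5) := ⟨by norm_num⟩
instance fact17 : Fact (Nat.Prime 17) := ⟨by norm_num⟩

theorem not_comm (h : Nat.card G = 4080) : ¬ IsMulCommutative G :=
  not_comm_of_not_prime (by rw [h]; norm_num)

/-- B1 -/
theorem index_ge_17 (h : Nat.card G = 4080) (H : Subgroup G) (hH : H ≠ ⊤) : 17 ≤ H.index := by
  have key := two_mul_card_dvd_factorial (not_comm h) H hH
  rw [h] at key
  have : 17 ∣ (H.index).factorial := Dvd.dvd.trans (by norm_num) key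
  exact (Nat.Prime.dvd_factorial (by norm_num)).mp this

/-- B12 -/
theorem card_syl_prime (h : Nat.card G = 4080) :
    (∀ P : Sylow 3 G, Nat.card P = 3) ∧ (∀ P : Sylow 5 G, Nat.card P = 5) ∧
      (∀ P : Sylow 17 G, Nat.card P = 17) :=
  ⟨fun P => card_sylow_eq_prime P (m := 1360) (by rw [h]) (by norm_num),
   fun P => card_sylow_eq_prime P (m := 816) (by rw [h]) (by norm_num),
   fun P => card_sylow_eq_prime P (m := 240) (by rw [h]) (by norm_num)⟩

/-- B2 -/
theorem card_syl17 (h : Nat.card G = 4080) : Nat.card (Sylow 17 G) = 120 := by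
  have hG := not_comm h
  obtain ⟨P⟩ : Nonempty (Sylow 17 G) := inferInstance
  have h1 : Nat.card (Sylow 17 G) ≡ 1 [MOD 17] := card_sylow_modEq_one 17 G
  have h2 : Nat.card (Sylow 17 G) ∣ 240 := by
    have := P.card_dvd_index
    rwa [(sylow_card_index (p := 17) (a := 1) (m := 240) (by rw [h]; norm_num) (by norm_num)
      P).2] at this
  have h3 : Nat.card (Sylow 17 G) ≠ 1 := card_sylow_ne_one hG (by rw [h]; norm_num)
  have hle := Nat.le_of_dvd (by norm_num) h2
  have key : ∀ n ∈ Finset.range 241, n % 17 = 1 → n ∣ 240 → n = 1 ∨ n = 120 := by decide +kernel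
  rcases key _ (Finset.mem_range.mpr (by omega)) h1 h2 with h4 | h4
  · exact absurd h4 h3
  · exact h4

/-- B3 -/
theorem cent17 (h : Nat.card G = 4080) (hs : Nat.card (Sylow 17 G) = 120) (x : G)
    (hx : orderOf x = 17) : Nat.card (centralizer ({x} : Set G)) = 17 := by
  apply card_centralizer_of_two_mul (not_comm h) (card_syl_prime h).2.2 _ x hx
  intro P
  have hN := card_normalizer_mul_card_sylow P
  rw [hs, h] at hN
  omega

theorem relIndex_ne_one (h : Nat.card G = 4080) {p : ℕ} [Fact p.Prime] (hp : p ∣ 4080)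
    (P : Sylow p G) :
    (centralizer ((P : Subgroup G) : Set G)).relIndex (normalizer ((P : Subgroup G) : Set G))
      ≠ 1 := by
  intro h1
  rw [relIndex_eq_one] at h1
  exact not_normalizer_le_centralizer (not_comm h) P (by rw [h]; exact hp) h1

/-- B4 -/
theorem card_E3 (h : Nat.card G = 4080)
    (hE : ∀ P : Sylow 3 G, 3 * (centralizer ((P : Subgroup G) : Set G)).relIndex
      (normalizer ((P : Subgroup G) : Set G)) * Nat.card {g : G // 3 ∣ orderOf g}
        = Nat.card G * (3 - 1)) :
    Nat.card {g : G // 3 ∣ orderOf g} = 1360 := by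
  obtain ⟨P⟩ : Nonempty (Sylow 3 G) := inferInstance
  have h1 := hE P
  have h2 := relIndex_centralizer_normalizer_dvd (P : Subgroup G) ((card_syl_prime h).1 P)
  have h3 := relIndex_ne_one h (by norm_num) P
  rw [h] at h1
  generalize (centralizer ((P : Subgroup G) : Set G)).relIndex
    (normalizer ((P : Subgroup G) : Set G)) = k at *
  have hk : k ≤ 2 := Nat.le_of_dvd (by norm_num) h2
  interval_cases k <;> omega

/-- B5 -/
theorem card_E5 (h : Nat.card G = 4080)
    (hE : ∀ P : Sylow 5 G, 5 * (centralizer ((P : Subgroup G) : Set G)).relIndex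
      (normalizer ((P : Subgroup G) : Set G)) * Nat.card {g : G // 5 ∣ orderOf g}
        = Nat.card G * (5 - 1)) :
    816 ≤ Nat.card {g : G // 5 ∣ orderOf g} := by
  obtain ⟨P⟩ : Nonempty (Sylow 5 G) := inferInstance
  have h1 := hE P
  have h2 := relIndex_centralizer_normalizer_dvd (P : Subgroup G) ((card_syl_prime h).2.1 P)
  rw [h] at h1
  generalize (centralizer ((P : Subgroup G) : Set G)).relIndex
    (normalizer ((P : Subgroup G) : Set G)) = k at *
  have hk : k ≤ 4 := Nat.le_of_dvd (by norm_num) h2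
  interval_cases k <;> omega

theorem card_order17 (h : Nat.card G = 4080) (hs : Nat.card (Sylow 17 G) = 120) :
    Nat.card {g : G // orderOf g = 17} = 1920 := by
  rw [Cfsg.Agent.Lib.Helper54Ord168b.card_orderOf_eq_prime (card_syl_prime h).2.2, hs]

/-- B6 -/
theorem exists_fifteen (h : Nat.card G = 4080) (hs : Nat.card (Sylow 17 G) = 120)
    (h3 : Nat.card {g : G // 3 ∣ orderOf g} = 1360)
    (h5 : 816 ≤ Nat.card {g : G // 5 ∣ orderOf g}) : ∃ g : G, 15 ∣ orderOf g := by
  by_contra hcon
  push Not at hcon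
  have e1 := card_or (α := G) (fun g => orderOf g = 17) (fun g => 3 ∣ orderOf g) (by
    intro g hg hd
    rw [hg] at hd
    omega)
  have e2 := card_or (α := G) (fun g => orderOf g = 17 ∨ 3 ∣ orderOf g) (fun g => 5 ∣ orderOf g) (by
    rintro g (hg | hg) hd
    · rw [hg] at hd
      omega
    · exact hcon g (Nat.Coprime.mul_dvd_of_dvd_of_dvd (by norm_num : Nat.Coprime 3 5) hg hd))
  have e3 : Nat.card {g : G // (orderOf g = 17 ∨ 3 ∣ orderOf g) ∨ 5 ∣ orderOf g} ≤ 4080 := by
    rw [← h]
    exact Nat.card_le_card_of_injective _ Subtype.val_injective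
  rw [e2, e1, card_order17 h hs, h3] at e3
  omega

/-- commuting elements of orders 5 and 3 -/
theorem exists_pair (h15 : ∃ g : G, 15 ∣ orderOf g) :
    ∃ a b : G, orderOf a = 5 ∧ orderOf b = 3 ∧ a * b = b * a := by
  obtain ⟨g, hg⟩ := h15
  refine ⟨g ^ (orderOf g / 5), g ^ (orderOf g / 3),
    orderOf_pow_orderOf_div (orderOf_pos g).ne' (Dvd.dvd.trans (by norm_num) hg),
    orderOf_pow_orderOf_div (orderOf_pos g).ne' (Dvd.dvd.trans (by norm_num) hg), ?_⟩
  rw [← pow_add, ← pow_add, add_comm]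

/-- the order of the centraliser of an element of prime order `p` (Sylow subgroups of order `p`)
does not depend on the element -/
theorem card_centralizer_eq {p : ℕ} [Fact p.Prime] (hP : ∀ P : Sylow p G, Nat.card P = p)
    (x y : G) (hx : orderOf x = p) (hy : orderOf y = p) :
    Nat.card (centralizer ({x} : Set G)) = Nat.card (centralizer ({y} : Set G)) := by
  obtain ⟨P, hPx⟩ := exists_sylow_eq_zpowers hP x hx
  obtain ⟨Q, hQy⟩ := exists_sylow_eq_zpowers hP y hy
  rw [← centralizer_zpowers' x, ← centralizer_zpowers' y, ← hPx, ← hQy]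
  exact card_centralizer_sylow P Q

theorem dvd_card_centralizer {a b : G} (hab : a * b = b * a) :
    orderOf b ∣ Nat.card (centralizer ({a} : Set G)) := by
  have hb : b ∈ centralizer ({a} : Set G) := mem_centralizer_singleton_iff.mpr hab.symm
  have := orderOf_dvd_natCard (⟨b, hb⟩ : centralizer ({a} : Set G))
  rwa [Subgroup.orderOf_mk] at this

/-- B7 -/
theorem cent5 (h : Nat.card G = 4080) (hidx : ∀ H : Subgroup G, H ≠ ⊤ → 17 ≤ H.index)
    (h15 : ∃ g : G, 15 ∣ orderOf g) (x : G) (hx : orderOf x = 5) :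
    Nat.card (centralizer ({x} : Set G)) = 15 ∧ Nat.card (Sylow 5 G) = 136 := by
  have hG := not_comm h
  have hP5 := (card_syl_prime h).2.1
  obtain ⟨a, b, ha, hb, hab⟩ := exists_pair h15
  have h3 : 3 ∣ Nat.card (centralizer ({x} : Set G)) := by
    rw [card_centralizer_eq hP5 x a hx ha, ← hb]
    exact dvd_card_centralizer hab
  have h5 : 5 ∣ Nat.card (centralizer ({x} : Set G)) := by
    rw [← hx]
    exact dvd_card_centralizer rfl
  have h15' : 15 ∣ Nat.card (centralizer ({x} : Set G)) :=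
    Nat.Coprime.mul_dvd_of_dvd_of_dvd (by norm_num : Nat.Coprime 3 5) h3 h5
  obtain ⟨P, hPx⟩ := exists_sylow_eq_zpowers hP5 x hx
  have hC : centralizer ((P : Subgroup G) : Set G) = centralizer ({x} : Set G) := by
    rw [hPx, centralizer_zpowers']
  have hle : centralizer ((P : Subgroup G) : Set G) ≤ normalizer ((P : Subgroup G) : Set G) :=
    centralizer_le_normalizer _
  have hCN := card_dvd_of_le hle
  rw [hC] at hCN
  have hN := card_normalizer_mul_card_sylow P
  rw [h] at hN
  have e1 : Nat.card (Sylow 5 G) ≡ 1 [MOD 5] := card_sylow_modEq_one 5 G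
  have e2 : Nat.card (Sylow 5 G) ∣ 816 := by
    have := P.card_dvd_index
    rwa [(sylow_card_index (p := 5) (a := 1) (m := 816) (by rw [h]; norm_num) (by norm_num)
      P).2] at this
  have e3 : Nat.card (Sylow 5 G) ≠ 1 := card_sylow_ne_one hG (by rw [h]; norm_num)
  have e4 : 17 ≤ Nat.card (Sylow 5 G) := by
    rw [P.card_eq_index_normalizer]
    apply hidx
    intro ht
    apply e3
    rw [P.card_eq_index_normalizer, ht, index_top]
  have hle' := Nat.le_of_dvd (by norm_num) e2
  have key : ∀ n ∈ Finset.range 817, n % 5 = 1 → n ∣ 816 → 17 ≤ n → n = 51 ∨ n = 136 ∨ n = 816 := by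
    decide +kernel
  have h15N : 15 ∣ Nat.card (normalizer ((P : Subgroup G) : Set G)) := h15'.trans hCN
  have hn : Nat.card (Sylow 5 G) = 136 := by
    rcases key _ (Finset.mem_range.mpr (by omega)) e1 e2 e4 with h4 | h4 | h4
    · rw [h4] at hN; omega
    · exact h4
    · rw [h4] at hN; omega
  refine ⟨?_, hn⟩
  rw [hn] at hN
  have hN30 : Nat.card (normalizer ((P : Subgroup G) : Set G)) = 30 := by omega
  rw [hN30] at hCN
  obtain ⟨c, hc⟩ := h15'
  rw [hc] at hCN ⊢
  have hc2 : c ∣ 2 := Nat.dvd_of_mul_dvd_mul_left (by norm_num : 0 < 15) (by simpa using hCN)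
  rcases (Nat.dvd_prime Nat.prime_two).mp hc2 with rfl | rfl
  · rfl
  · exfalso
    apply not_normalizer_le_centralizer hG P (by rw [h]; norm_num)
    have : centralizer ((P : Subgroup G) : Set G) = normalizer ((P : Subgroup G) : Set G) :=
      eq_of_le_of_card_ge hle (by rw [hN30, hC, hc])
    rw [this]

/-- B8 -/
theorem cent3 (h : Nat.card G = 4080) (hidx : ∀ H : Subgroup G, H ≠ ⊤ → 17 ≤ H.index)
    (hc17 : ∀ x : G, orderOf x = 17 → Nat.card (centralizer ({x} : Set G)) = 17)
    (hc5 : ∀ x : G, orderOf x = 5 → Nat.card (centralizer ({x} : Set G)) = 15)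
    (hs5 : Nat.card (Sylow 5 G) = 136)
    (h15 : ∃ g : G, 15 ∣ orderOf g) (y : G) (hy : orderOf y = 3) :
    Nat.card (centralizer ({y} : Set G)) = 15 ∧ Nat.card (Sylow 3 G) = 136 := by
  have hG := not_comm h
  have hP3 := (card_syl_prime h).1
  have hP5 := (card_syl_prime h).2.1
  obtain ⟨a, b, ha, hb, hab⟩ := exists_pair h15
  have h5 : 5 ∣ Nat.card (centralizer ({y} : Set G)) := by
    rw [card_centralizer_eq hP3 y b hy hb, ← ha]
    exact dvd_card_centralizer hab.symm
  have h3 : 3 ∣ Nat.card (centralizer ({y} : Set G)) := by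
    rw [← hy]
    exact dvd_card_centralizer rfl
  have h15' : 15 ∣ Nat.card (centralizer ({y} : Set G)) :=
    Nat.Coprime.mul_dvd_of_dvd_of_dvd (by norm_num : Nat.Coprime 3 5) h3 h5
  have h17 : ¬ 17 ∣ Nat.card (centralizer ({y} : Set G)) := by
    intro h17
    obtain ⟨z, hz⟩ := exists_prime_orderOf_dvd_card' (G := centralizer ({y} : Set G)) 17 h17
    have hz17 : orderOf (z : G) = 17 := by rw [Subgroup.orderOf_coe, hz]
    have := dvd_card_centralizer (a := (z : G)) (b := y) (mem_centralizer_singleton_iff.mp z.2)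
    rw [hy, hc17 _ hz17] at this
    omega
  obtain ⟨P, hPy⟩ := exists_sylow_eq_zpowers hP3 y hy
  have hC : centralizer ((P : Subgroup G) : Set G) = centralizer ({y} : Set G) := by
    rw [hPy, centralizer_zpowers']
  have hrel := card_mul_relIndex' (centralizer_le_normalizer ((P : Subgroup G) : Set G))
  have hk2 : (centralizer ((P : Subgroup G) : Set G)).relIndex
      (normalizer ((P : Subgroup G) : Set G)) = 2 := by
    have h2 := relIndex_centralizer_normalizer_dvd (P : Subgroup G) (hP3 P)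
    have h3 := relIndex_ne_one h (by norm_num) P
    generalize (centralizer ((P : Subgroup G) : Set G)).relIndex
      (normalizer ((P : Subgroup G) : Set G)) = k at *
    have hk : k ≤ 2 := Nat.le_of_dvd (by norm_num) h2
    interval_cases k <;> omega
  rw [hk2, hC] at hrel
  have hN := card_normalizer_mul_card_sylow P
  rw [h, ← hrel] at hN
  have e1 : Nat.card (Sylow 3 G) ≡ 1 [MOD 3] := card_sylow_modEq_one 3 G
  have e3 : Nat.card (Sylow 3 G) ≠ 1 := card_sylow_ne_one hG (by rw [h]; norm_num)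
  have e4 : 17 ≤ Nat.card (Sylow 3 G) := by
    rw [P.card_eq_index_normalizer]
    apply hidx
    intro ht
    apply e3
    rw [P.card_eq_index_normalizer, ht, index_top]
  -- the case of order 60
  have h60 : Nat.card (centralizer ({y} : Set G)) ≠ 60 := by
    intro h60
    set C := centralizer ({y} : Set G) with hCdef
    obtain ⟨Q⟩ : Nonempty (Sylow 5 C) := inferInstance
    have hQ := sylow_card_index (G := C) (p := 5) (a := 1) (m := 12) (by rw [h60]; norm_num)
      (by norm_num) Q
    have f1 : Nat.card (Sylow 5 C) ≡ 1 [MOD 5] := card_sylow_modEq_one 5 C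
    have f2 : Nat.card (Sylow 5 C) ∣ 12 := by
      have := Q.card_dvd_index
      rwa [hQ.2] at this
    have f3 := card_normalizer_mul_card_sylow Q
    rw [h60] at f3
    have hyC : y ∈ C := mem_centralizer_singleton_iff.mpr rfl
    have hyN : (⟨y, hyC⟩ : C) ∈ normalizer ((Q : Subgroup C) : Set C) := by
      rw [mem_normalizer_iff]
      intro g
      have hg : (⟨y, hyC⟩ : C) * g * (⟨y, hyC⟩ : C)⁻¹ = g := by
        have h1 : (g : G) * y = y * (g : G) := mem_centralizer_singleton_iff.mp g.2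
        apply Subtype.ext
        show y * (g : G) * y⁻¹ = g
        rw [← h1]; group
      rw [hg]
    have f4 : 3 ∣ Nat.card (normalizer ((Q : Subgroup C) : Set C)) := by
      have := orderOf_dvd_natCard (⟨⟨y, hyC⟩, hyN⟩ : normalizer ((Q : Subgroup C) : Set C))
      rwa [Subgroup.orderOf_mk, Subgroup.orderOf_mk, hy] at this
    have f5 : Nat.card (Sylow 5 C) = 1 := by
      have hle := Nat.le_of_dvd (by norm_num) f2
      unfold Nat.ModEq at f1
      generalize Nat.card (Sylow 5 C) = n at *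
      interval_cases n <;> simp_all <;> omega
    have hs : Subsingleton (Sylow 5 C) := (Nat.card_eq_one_iff_unique.mp f5).1
    have hn : (Q : Subgroup C).Normal := Q.normal_of_subsingleton
    set P0 : Subgroup G := (Q : Subgroup C).map C.subtype with hP0
    have hP0c : Nat.card P0 = 5 := by
      rw [hP0, card_map_of_injective C.subtype_injective, hQ.1, pow_one]
    have hP0C : P0 ≤ C := map_subtype_le _
    have hsub : P0.subgroupOf C = Q := by
      rw [hP0]
      exact comap_map_eq_self_of_injective C.subtype_injective _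
    have hCN : C ≤ normalizer (P0 : Set G) := by
      rw [← normal_subgroupOf_iff_le_normalizer hP0C, hsub]
      exact hn
    have hp : IsPGroup 5 P0 := IsPGroup.of_card (n := 1) (by rw [hP0c, pow_one])
    obtain ⟨R, hle⟩ := hp.exists_le_sylow
    have hReq : P0 = R := eq_of_le_of_card_ge hle (by rw [hP5 R, hP0c])
    have hNR := card_normalizer_mul_card_sylow R
    rw [hs5, h] at hNR
    have := card_dvd_of_le hCN
    rw [hReq, h60] at this
    omega
  obtain ⟨k, hk⟩ := h15'
  rw [hk] at hN h17 h60 ⊢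
  unfold Nat.ModEq at e1
  generalize Nat.card (Sylow 3 G) = n at *
  have hkn : k * n = 136 := by nlinarith
  have hk8 : k ≤ 8 := by nlinarith
  interval_cases k <;> omega

/-- B9 -/
theorem cent2 (h : Nat.card G = 4080)
    (hc17 : ∀ x : G, orderOf x = 17 → Nat.card (centralizer ({x} : Set G)) = 17)
    (hc5 : ∀ x : G, orderOf x = 5 → Nat.card (centralizer ({x} : Set G)) = 15)
    (hc3 : ∀ x : G, orderOf x = 3 → Nat.card (centralizer ({x} : Set G)) = 15)
    (y : G) (hy : y ≠ 1) (hy2 : Is2 y) : IsPGroup 2 (centralizer ({y} : Set G)) := by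
  apply isPGroup_centralizer_of_odd _ y hy hy2
  intro r x hr hr2 hx
  have hrd : r ∣ 4080 := by rw [← h, ← hx]; exact orderOf_dvd_natCard x
  have h4080 : 4080 = 2 ^ 4 * 3 * 5 * 17 := by norm_num
  rw [h4080] at hrd
  rcases (Nat.Prime.dvd_mul hr).mp hrd with h1 | h1
  · rcases (Nat.Prime.dvd_mul hr).mp h1 with h2 | h2
    · rcases (Nat.Prime.dvd_mul hr).mp h2 with h3 | h3
      · exact absurd ((Nat.prime_dvd_prime_iff_eq hr Nat.prime_two).mp (hr.dvd_of_dvd_pow h3)) hr2
      · have := (Nat.prime_dvd_prime_iff_eq hr Nat.prime_three).mp h3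
        subst this
        rw [hc3 x hx]; decide
    · have := (Nat.prime_dvd_prime_iff_eq hr (by norm_num : Nat.Prime 5)).mp h2
      subst this
      rw [hc5 x hx]; decide
  · have := (Nat.prime_dvd_prime_iff_eq hr (by norm_num : Nat.Prime 17)).mp h1
    subst this
    rw [hc17 x hx]; decide

/-- B10 -/
theorem card_E5' (h : Nat.card G = 4080) (hs5 : Nat.card (Sylow 5 G) = 136)
    (hc5 : ∀ x : G, orderOf x = 5 → Nat.card (centralizer ({x} : Set G)) = 15)
    (hE : ∀ P : Sylow 5 G, 5 * Nat.card {g : G // 5 ∣ orderOf g}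
      = Nat.card (Sylow 5 G) * (Nat.card (centralizer ((P : Subgroup G) : Set G)) * (5 - 1))) :
    Nat.card {g : G // 5 ∣ orderOf g} = 1632 := by
  obtain ⟨x, hx⟩ := exists_prime_orderOf_dvd_card' (G := G) 5 (by rw [h]; norm_num)
  obtain ⟨P, hPx⟩ := exists_sylow_eq_zpowers (card_syl_prime h).2.1 x hx
  have h1 := hE P
  rw [hPx, centralizer_zpowers', hc5 x hx, hs5] at h1
  omega

/-- B11 -/
theorem count2 (h : Nat.card G = 4080) (hs17 : Nat.card (Sylow 17 G) = 120)
    (hs3 : Nat.card (Sylow 3 G) = 136) (h5 : Nat.card {g : G // 5 ∣ orderOf g} = 1632) :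
    Nat.card {g : G // Is2 g} ≤ 16 * 16 := by
  have h3 : Nat.card {g : G // orderOf g = 3} = 272 := by
    rw [Cfsg.Agent.Lib.Helper54Ord168b.card_orderOf_eq_prime (card_syl_prime h).1, hs3]
  have e1 := card_or (α := G) (fun g => orderOf g = 17) (fun g => orderOf g = 3) (by
    intro g hg hd
    rw [hg] at hd
    omega)
  have e2 := card_or (α := G) (fun g => orderOf g = 17 ∨ orderOf g = 3) (fun g => 5 ∣ orderOf g) (by
    rintro g (hg | hg) hd <;> rw [hg] at hd <;> omega)
  have e3 := card_or (α := G) (fun g => (orderOf g = 17 ∨ orderOf g = 3) ∨ 5 ∣ orderOf g)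
    (fun g => Is2 g) (by
      have aux : ∀ (p j : ℕ), p.Prime → p ≠ 2 → ¬ p ∣ 2 ^ j := by
        intro p j hp hp2 hd
        exact hp2 ((Nat.prime_dvd_prime_iff_eq hp Nat.prime_two).mp (hp.dvd_of_dvd_pow hd))
      rintro g ((hg | hg) | hg) ⟨j, hj⟩
      · exact aux 17 j (by norm_num) (by norm_num) (by rw [← hj, hg])
      · exact aux 3 j (by norm_num) (by norm_num) (by rw [← hj, hg])
      · exact aux 5 j (by norm_num) (by norm_num) (by rw [← hj]; exact hg))
  have e4 : Nat.card {g : G // ((orderOf g = 17 ∨ orderOf g = 3) ∨ 5 ∣ orderOf g) ∨ Is2 g}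
      ≤ 4080 := by
    rw [← h]
    exact Nat.card_le_card_of_injective _ Subtype.val_injective
  rw [e3, e2, e1, card_order17 h hs17, h3, h5] at e4
  omega

theorem cit4080 (h : Nat.card G = 4080) : CIT G 16 := by
  obtain ⟨hp3, hp5, hp17⟩ := card_syl_prime h
  have hidx := index_ge_17 h
  have hs17 := card_syl17 h
  have hc17 := cent17 h hs17
  have hE3 := card_E3 h (fun P => card_singular' hp3 P)
  have hE5 := card_E5 h (fun P => card_singular' hp5 P)
  have h15 := exists_fifteen h hs17 hE3 hE5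
  have hc5 := fun x hx => (cent5 h hidx h15 x hx).1
  obtain ⟨x5, hx5⟩ := exists_prime_orderOf_dvd_card' (G := G) 5 (by rw [h]; norm_num)
  have hs5 := (cent5 h hidx h15 x5 hx5).2
  have hc3 := fun y hy => (cent3 h hidx hc17 hc5 hs5 h15 y hy).1
  obtain ⟨x3, hx3⟩ := exists_prime_orderOf_dvd_card' (G := G) 3 (by rw [h]; norm_num)
  have hs3 := (cent3 h hidx hc17 hc5 hs5 h15 x3 hx3).2
  exact ⟨⟨4, by norm_num, by norm_num⟩, by rw [h], cent2 h hc17 hc5 hc3,
    count2 h hs17 hs3 (card_E5' h hs5 hc5 (fun P => card_singular hp5 P))⟩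

theorem S0981 (h : Nat.card G = 4080) {F : Type*} [Field F] [Fintype F]
    (hF : Fintype.card F = 16) : Nonempty (G ≃* Matrix.ProjectiveSpecialLinearGroup (Fin 2) F) :=
  Cfsg.Agent.Lib.Helper5L2qZ2.main (cit4080 h) hF

end Cfsg.Agent.Lib.Helper5L2qB
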