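import Mathlib
import Cfsg.Agent.Lib.Helper11BG76Defs
import Cfsg.Agent.Lib.Helper52BG14
import Cfsg.Agent.Lib.Helper52BG14b
import Cfsg.Agent.Lib.Helper51BG16a
import Cfsg.Agent.Lib.Helper11BG16complconj
import Cfsg.Agent.S1351
import Cfsg.Agent.S1352
import Cfsg.Agent.S1366
import Cfsg.Agent.S1375
import Cfsg.Agent.S1420
import Cfsg.Agent.S1435

/-! PROJECT 76 (S1376), piece `setup`. -/

set_option autoImplicit false

namespace Cfsg.Agent.Lib.Helper60BG76setup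

open Cfsg Subgroup
open Cfsg.Agent.Lib.Helper30Trans Cfsg.Agent.Lib.Helper24BG
open Cfsg.Agent.Lib.Helper52BG14Defs Cfsg.Agent.Lib.Helper11BG76Defs

variable {G : Type*} [Group G] [Finite G]

theorem setup (hG : IsMinSimpleOddOrder G) {M N : Subgroup G} (hM : IsCoatom M) {x : G}
    (hx : x ∈ sigmaCore M) (hx1 : x ≠ 1) (hxM : ¬ centralizer ({x} : Set G) ≤ M)
    (hN : IsCoatom N) (hxN : centralizer ({x} : Set G) ≤ N) (hkN : (kappa N).Nonempty) :
    ∃ (K U Ns A : Subgroup G) (p : ℕ), Cfg M N K U Ns A p := by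
  -- step 1
  obtain ⟨N₀, ⟨hN₀, hxN₀⟩, huniq, -, -, -, hcompl, -⟩ := Cfsg.Agent.S1375.result hG M hM x hx hx1 hxM
  obtain rfl : N = N₀ := huniq N hN hxN
  -- step 2
  obtain ⟨⟨K₀, hK₀⟩, hcyc⟩ := Cfsg.Agent.S1351.result hG N hN
  obtain ⟨⟨U₀, hKU₀⟩, -⟩ := Cfsg.Agent.S1352.result hG N hN K₀ (hcyc K₀ hK₀) hK₀
  have hK₀1 : K₀ ≠ ⊥ := fun h =>
    hkN.ne_empty ((Cfsg.Agent.Lib.Helper51BG16.kappa_eq_empty_iff hK₀).mpr h)
  -- step 3
  have hc₀ := Cfsg.Agent.Lib.Helper51BG16.compl_KU hG hN hKU₀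
  have hNn := Cfsg.Agent.Lib.Helper2BGb.le_normalizer_sigmaCore N
  have hcardKU₀ := Cfsg.Agent.Lib.Helper51BG16.card_KU hG hN hKU₀
  obtain ⟨n, hn, hnx⟩ := Cfsg.Agent.Lib.Helper30SZ.sz_conj (N := sigmaCore N) (A := K₀ ⊔ U₀)
    (B := M ⊓ N) (hc₀.1.trans hNn)
    (by
      rw [hcardKU₀]
      exact Nat.Coprime.mul_left (Cfsg.Agent.Lib.Helper51BG16.coprime_K_Ms hG hN hKU₀)
        (Cfsg.Agent.Lib.Helper51BG16.coprime_U_Ms hG hN hKU₀))
    (Or.inl (sol hG (fun h => hN.1 (top_le_iff.mp (h ▸ hc₀.1)))))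
    (by
      intro y hy
      obtain ⟨a, ha, b, hb, rfl⟩ := hc₀.2.2.2 y hy.2
      exact mul_mem (le_sup_right (a := sigmaCore N) ha) (le_sup_left (b := K₀ ⊔ U₀) hb))
    (by
      have h1 := Cfsg.Agent.Lib.Helper31BGS.card_compl hcompl
      have h2 := Cfsg.Agent.Lib.Helper31BGS.card_compl hc₀
      rw [← h2] at h1
      exact Nat.eq_of_mul_eq_mul_right Nat.card_pos h1)
  have hnN : n ∈ N := Cfsg.Agent.Lib.Helper2BGb.sigmaCore_le N hn
  have hMN : M ⊓ N = cj n K₀ ⊔ cj n U₀ := by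
    rw [← Cfsg.Agent.Lib.Helper11BG16complconj.cj_sup]
    ext y
    rw [mem_cj]
    exact hnx y
  have hKU := Cfsg.Agent.Lib.Helper11BG16complconj.decomp_cj hKU₀ hnN
  set K := cj n K₀ with hKdef
  set U := cj n U₀ with hUdef
  have hK1 : K ≠ ⊥ := by
    intro h
    apply hK₀1
    have h1 : Nat.card K = 1 := by rw [h]; exact Subgroup.card_bot
    rw [hKdef, card_cj] at h1
    exact Subgroup.card_eq_one.mp h1
  -- step 4
  obtain ⟨p, hp, hpx⟩ := Nat.exists_prime_and_dvd (n := orderOf x)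
    (fun h => hx1 (orderOf_eq_one_iff.mp h))
  have : Fact p.Prime := ⟨hp⟩
  have hpσ : p ∈ sigma M :=
    Cfsg.Agent.Lib.Helper31BGS.mem_sigma_of_dvd_sigmaCore hG hM hp
      (hpx.trans (Subgroup.orderOf_dvd_natCard _ hx))
  set y := x ^ (orderOf x / p) with hy
  have hyo : orderOf y = p := orderOf_pow_orderOf_div (orderOf_pos x).ne' hpx
  set X := zpowers y with hX
  have hXc : Nat.card X = p := by rw [hX, Nat.card_zpowers, hyo]
  have hXp : IsPGroup p X := IsPGroup.of_card (n := 1) (by rw [hXc, pow_one])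
  have hX1 : X ≠ ⊥ := by
    intro h
    rw [h, Subgroup.card_bot] at hXc
    exact hp.one_lt.ne hXc
  have hyM : y ∈ sigmaCore M := pow_mem hx _
  have hXM : X ≤ M := by
    rw [hX, zpowers_le]
    exact Cfsg.Agent.Lib.Helper2BGb.sigmaCore_le M hyM
  have hCN : centralizer ({x} : Set G) ≤ normalizer (X : Set G) := by
    intro c hc
    have hcx : c * x = x * c := (mem_centralizer_singleton_iff.mp hc)
    have hcy : c * y = y * c := (Commute.pow_right (show Commute c x from hcx) _).eq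
    have hcX : c ∈ centralizer (X : Set G) := by
      rw [mem_centralizer_iff]
      intro w hw
      obtain ⟨k, rfl⟩ := mem_zpowers_iff.mp hw
      exact ((Commute.zpow_right (show Commute c y from hcy) k).eq).symm
    exact (centralizer_le_normalizer (X : Set G)) hcX
  have hnot : ¬ normalizer (X : Set G) ≤ M := fun h => hxM (hCN.trans h)
  have hXtop : X ≠ ⊤ := fun h => hM.1 (top_le_iff.mp (h ▸ hXM))
  obtain ⟨L, hL, hNL⟩ := exists_coatom (norm_ne_top hG hX1 hXtop)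
  obtain rfl : L = N := huniq L hL (hCN.trans hNL)
  obtain ⟨hτ, -, -, -, -, A, hAle, hAe, hAc⟩ :=
    Cfsg.Agent.Lib.Helper52BG14.emb hG hM hpσ hXp hX1 hXM hnot hL hNL
  -- step 5
  have hpK : ¬ p ∣ Nat.card K := fun h =>
    Cfsg.Agent.Lib.Helper52BG14.kappa_not_tau2 (hKU.hall.2.1 p hp h) hτ
  have hcardKU := Cfsg.Agent.Lib.Helper51BG16.card_KU hG hL hKU
  have hrel : U.relIndex (K ⊔ U) = Nat.card K := by
    have h1 := Cfsg.Agent.Lib.Helper37BG.card_eq_mul_relIndex (le_sup_right : U ≤ K ⊔ U)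
    rw [hcardKU, mul_comm] at h1
    exact (Nat.eq_of_mul_eq_mul_left Nat.card_pos h1).symm
  have hAU : A ≤ U := by
    apply Cfsg.Agent.Lib.Helper2BGa.le_of_relIndex_coprime (Z := K ⊔ U) (hMN ▸ hAle)
      (sup_le hKU.normal le_normalizer)
    intro q hq hqA
    rw [hAc] at hqA
    have : q = p := (Nat.prime_dvd_prime_iff_eq hq hp).mp (hq.dvd_of_dvd_pow hqA)
    rw [this, hrel]
    exact hpK
  have hAp : IsPGroup p A := IsPGroup.of_card hAc
  -- step 6
  obtain ⟨R, hR⟩ := (hAp.comap_subtype (K := U)).exists_le_sylow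
  have hAR : A ≤ (R : Subgroup U).map U.subtype := by
    intro a ha
    exact ⟨⟨a, hAU ha⟩, hR (mem_subgroupOf.mpr ha), rfl⟩
  have hUM : U ≤ M := (le_sup_right.trans hMN.ge).trans inf_le_left
  have hRM : (R : Subgroup U).map U.subtype ≤ M := (map_subtype_le _).trans hUM
  have hRnc : ¬ IsCyclic ((R : Subgroup U).map U.subtype) := by
    intro hc
    exact Cfsg.Agent.Lib.Helper37BG.not_cyclic_of_sq hAe hAc (Subgroup.isCyclic_of_le hAR)
  obtain ⟨E, hE, -⟩ := Cfsg.Agent.Lib.Helper31BGS.exists_compl_ge hG hM (X := ⊥) bot_le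
    (by
      intro q hq hqd
      rw [Subgroup.card_bot] at hqd
      exact absurd (Nat.dvd_one.mp hqd) hq.one_lt.ne')
  have hNR : normalizer (((R : Subgroup U).map U.subtype : Subgroup G) : Set G) ≤ M :=
    (Cfsg.Agent.S1420.result hG M hM E hE).2.2.1 p _ hpσ (R.2.map _) hRM hRnc
  -- step 7
  have hU1 : U ≠ ⊥ := by
    intro h
    have h1 : A = ⊥ := le_bot_iff.mp (h ▸ hAU)
    rw [h1, Subgroup.card_bot] at hAc
    have := Nat.one_lt_pow (n := 2) (by norm_num) hp.one_lt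
    omega
  obtain ⟨Ns, ⟨hNs, hKst, hKstH⟩, -⟩ := Cfsg.Agent.S1366.result hG L hL K U hKU hK1
  have hpU : p ∣ Nat.card U :=
    (Dvd.intro_left (p ^ 1) (by rw [hAc]; ring)).trans (Subgroup.card_dvd_of_le hAU)
  obtain ⟨h1, h2, h3, -, h5, h6⟩ := Cfsg.Agent.S1435.result hG L hL K U hKU hK1 hU1 Ns hNs hKst hKstH
    p hpU R M hM hNR
  exact ⟨K, U, Ns, A, p, ⟨hM, hL, hNs, hKU, hK1, hU1, hKst, hKstH, h1, h2, h3, h5, h6, hp, hτ, hAU,
    hAe, hAc⟩⟩

end Cfsg.Agent.Lib.Helper60BG76setup
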