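import Mathlib
import Cfsg.Agent.Lib.Helper60PF8b
import Cfsg.Agent.Lib.Helper37BG
import Cfsg.Agent.Lib.Helper31BGS

/-!
Peterfalvi, Section 8 (local part), continued: supporting subgroups (row S1539), relative to `Rows G`.
-/

set_option autoImplicit false
set_option linter.unusedSectionVars false

namespace Cfsg.Agent.Lib.Helper60PF8c

open Cfsg Subgroup
open Cfsg.Agent.Lib.Helper30Trans Cfsg.Agent.Lib.Helper24BG Cfsg.Agent.Lib.Helper60PF8a
  Cfsg.Agent.Lib.Helper60PF8b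

variable {G : Type*} [Group G] [Finite G]

/-! ### elements of coprime orders -/

theorem exists_pow_eq_left {b s : G} (hc : Commute b s) (hcop : (orderOf b).Coprime (orderOf s)) :
    ∃ k : ℕ, (b * s) ^ k = b := by
  by_cases hb : b = 1
  · refine ⟨orderOf s, ?_⟩
    rw [hb, one_mul, pow_orderOf_eq_one]
  · have h1 : 1 < orderOf b := by
      have h0 : 0 < orderOf b := orderOf_pos b
      have h2 : orderOf b ≠ 1 := fun h => hb (orderOf_eq_one_iff.mp h)
      omega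
    obtain ⟨m, -, hm⟩ := Nat.exists_mul_mod_eq_one_of_coprime hcop.symm h1
    refine ⟨orderOf s * m, ?_⟩
    rw [hc.mul_pow, pow_mul s, pow_orderOf_eq_one, one_pow, mul_one, ← pow_mod_orderOf, hm, pow_one]

theorem mem_zpowers_of_parts {a r b s : G} (h1 : Commute a r) (h2 : Commute b s)
    (c1 : (orderOf a).Coprime (orderOf r)) (c2 : (orderOf b).Coprime (orderOf s))
    (c3 : (orderOf a).Coprime (orderOf b)) (e : a * r = b * s) : ∃ k : ℕ, b = r ^ k := by
  obtain ⟨k, hk⟩ := exists_pow_eq_left h2 c2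
  refine ⟨k, ?_⟩
  rw [← e, h1.mul_pow] at hk
  have hak : a ^ k = b * (r ^ k)⁻¹ := by rw [← hk]; group
  have hbr : Commute b (r ^ k)⁻¹ := by
    rw [← hk]
    exact ((h1.pow_pow k k).mul_left (Commute.refl _)).inv_right
  have h3 : (a ^ k) ^ (orderOf b * orderOf r) = 1 := by
    rw [hak, hbr.mul_pow, pow_mul b, pow_orderOf_eq_one, one_pow, one_mul, inv_pow, ← pow_mul,
      mul_comm k, mul_comm (orderOf b), mul_assoc, pow_mul r, pow_orderOf_eq_one, one_pow, inv_one]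
  have h4 : orderOf (a ^ k) ∣ orderOf b * orderOf r := orderOf_dvd_of_pow_eq_one h3
  have h5 : orderOf (a ^ k) ∣ orderOf a := orderOf_pow_dvd k
  have h6 : orderOf (a ^ k) = 1 :=
    Nat.eq_one_of_dvd_coprimes (Nat.Coprime.mul_right c3 c1) h5 h4
  rw [orderOf_eq_one_iff] at h6
  rw [← hk, h6, one_mul]

/-! ### disjointness of the primes of the `M_s` -/

theorem mem_sigma_of_dvd_typeCore (R : Rows G) {M : Subgroup G} (hM : IsCoatom M) {p : ℕ}
    (hp : p.Prime) (hd : p ∣ Nat.card (typeCore M)) : p ∈ sigma M := by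
  have := Fact.mk hp
  obtain ⟨h1, -, h3⟩ := R.r1389 M hM
  obtain ⟨P⟩ : Nonempty (Sylow p (typeCore M)) := inferInstance
  have hP1 : (P : Subgroup (typeCore M)) ≠ ⊥ := by
    intro h
    have h4 := P.not_dvd_index
    apply h4
    rw [h, index_bot]
    exact hd
  have hN := h1 p hp P hP1
  have hs : IsSyl p ((P : Subgroup (typeCore M)).map (typeCore M).subtype) (typeCore M) :=
    isSyl_of_sylow P
  have hs2 : IsSyl p ((P : Subgroup (typeCore M)).map (typeCore M).subtype) M := by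
    apply Cfsg.Agent.Lib.Helper31BGS.isSyl_of_not_dvd_relIndex hs (typeCore_le M)
    intro h
    have h5 : p ∣ (typeCore M).index := h.trans (relIndex_dvd_index_of_le (typeCore_le M))
    exact hp.one_lt.ne' (Nat.eq_one_of_dvd_coprimes h3 hd h5)
  apply Cfsg.Agent.Lib.Helper2BGb.mem_sigma_of_norm hs2 _ hN
  intro h
  exact hP1 ((map_eq_bot_iff_of_injective _ (typeCore M).subtype_injective).mp h)

theorem nc_symm {S T : Subgroup G} (h : ∀ g : G, cj g T ≠ S) : ∀ g : G, cj g S ≠ T := by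
  intro g hg
  apply h g⁻¹
  rw [← hg, cj_inv_cj]

theorem nc_cj {S T : Subgroup G} (h : ∀ g : G, cj g T ≠ S) (w : G) : ∀ g : G, cj g (cj w T) ≠ S := by
  intro g hg
  apply h (g * w)
  rw [cj_mul, hg]

theorem coprime_typeCore (hG : IsMinSimpleOddOrder G) (R : Rows G) {S T : Subgroup G}
    (hS : IsCoatom S) (hT : IsCoatom T) (hnc : ∀ g : G, cj g T ≠ S) :
    (Nat.card (typeCore S)).Coprime (Nat.card (typeCore T)) := by
  apply Nat.coprime_of_dvd
  intro p hp h1 h2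
  obtain ⟨g, hg⟩ := Cfsg.Agent.Lib.Helper37BGPart.sigma_conj hG hT hS
    (mem_sigma_of_dvd_typeCore R hT hp h2) (mem_sigma_of_dvd_typeCore R hS hp h1)
  exact hnc g hg.symm

theorem orderOf_dvd_card_of_mem {H : Subgroup G} {x : G} (hx : x ∈ H) : orderOf x ∣ Nat.card H := by
  have := orderOf_dvd_natCard (⟨x, hx⟩ : H)
  rwa [Subgroup.orderOf_mk] at this

theorem not_mem_both (hG : IsMinSimpleOddOrder G) (R : Rows G) {S T : Subgroup G}
    (hS : IsCoatom S) (hT : IsCoatom T) (hnc : ∀ g : G, cj g T ≠ S) {x : G}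
    (h1 : x ∈ typeA1 S) (h2 : x ∈ typeA1 T) : False := by
  apply h1.2
  rw [Set.mem_singleton_iff, ← orderOf_eq_one_iff]
  exact Nat.eq_one_of_dvd_coprimes (coprime_typeCore hG R hS hT hnc)
    (orderOf_dvd_card_of_mem h1.1) (orderOf_dvd_card_of_mem h2.1)

/-! ### complements -/

theorem complIn_of_complement' {T : Subgroup G} {A B : Subgroup T} (h : IsComplement' A B) :
    IsComplIn (A.map T.subtype) (B.map T.subtype) T := by
  refine ⟨map_subtype_le _, map_subtype_le _, ?_, ?_⟩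
  · rw [← map_inf _ _ _ T.subtype_injective, h.disjoint.eq_bot, Subgroup.map_bot]
  · intro m hm
    obtain ⟨⟨a, b⟩, hab, -⟩ := h.existsUnique ⟨m, hm⟩
    refine ⟨a.1, ⟨a.1, a.2, rfl⟩, b.1, ⟨b.1, b.2, rfl⟩, ?_⟩
    have := congrArg Subtype.val hab
    exact this.symm

/-- the key step: an element of `A₁(S)` inside `X₀ = T_F U` centralizing an element of `T_F` -/
theorem not_cent_le_aux (hG : IsMinSimpleOddOrder G) (R : Rows G) {S T : Subgroup G}
    (hS : IsCoatom S) (hT : IsCoatom T) (hnc : ∀ g : G, cj g T ≠ S) {X₀ U : Subgroup G}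
    (hX₀ : X₀ ≤ T) (hc : IsComplIn (fittingHallOf T) U X₀)
    (hty : (IsOfTypeI T ∧ IsComplIn (fittingHallOf T) U T) ∨
      (IsOfTypeII T ∧ IsComplIn (fittingHallOf T) U ⁅T, T⁆))
    (hcore : typeCore T = fittingHallOf T) {x y : G} (hx : x ∈ typeA1 S) (hxX : x ∈ X₀)
    (hy : y ∈ fittingHallOf T) (hy1 : y ≠ 1) (hxy : x * y = y * x) :
    ¬ centralizer ({x} : Set G) ≤ S := by
  intro hcS
  have hnF := Cfsg.Agent.Lib.Helper27BG16fhall.le_normalizer_fittingHallOf T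
  have hX₀t : X₀ ≠ ⊤ := fun h => hT.1 (eq_top_iff.mpr (h ▸ hX₀))
  have hcop1 : ((fittingHallOf T).relIndex X₀).Coprime (Nat.card (fittingHallOf T)) := by
    have h1 := Cfsg.Agent.Lib.Helper27BG16fhall.fittingHallOf_hall T
    have h2 : (fittingHallOf T).relIndex X₀ ∣ (fittingHallOf T).relIndex T :=
      Dvd.intro _ (relIndex_mul_relIndex _ _ _ hc.1 hX₀)
    exact (Nat.Coprime.coprime_dvd_right h2 h1).symm
  have hcop2 : (Nat.card (zpowers x)).Coprime (Nat.card (fittingHallOf T)) := by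
    rw [Nat.card_zpowers, ← hcore]
    exact Nat.Coprime.coprime_dvd_left (orderOf_dvd_card_of_mem hx.1)
      (coprime_typeCore hG R hS hT hnc)
  obtain ⟨t, ht, htU⟩ := Cfsg.Agent.Lib.Helper37BG.conj_into (sol hG hX₀t) hc.1 (hX₀.trans hnF)
    hc.2.1 (sup_eq_of_complIn hc).ge hcop1 (zpowers_le.mpr hxX) hcop2
  have hx' : t * x * t⁻¹ ∈ U := htU (conj_mem_cj (mem_zpowers x))
  have h90 := (R.r1390 T hT U hty).2.1 {t * x * t⁻¹} ?_ (Set.singleton_nonempty _) ?_
  · have h1 : centralizer ({t * x * t⁻¹} : Set G) ≤ cj t S := by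
      intro c hc'
      rw [mem_cj]
      apply hcS
      rw [mem_centralizer_iff] at hc' ⊢
      intro z hz
      rw [Set.mem_singleton_iff] at hz
      have h2 := hc' _ rfl
      rw [hz]
      calc x * (t⁻¹ * c * t) = t⁻¹ * (t * x * t⁻¹ * c) * t := by group
        _ = t⁻¹ * (c * (t * x * t⁻¹)) * t := by rw [h2]
        _ = t⁻¹ * c * t * x := by group
    exact nc_symm hnc t (h90.2 _ (isCoatom_cj hS t) h1)
  · intro z hz
    rw [Set.mem_singleton_iff] at hz
    rw [hz]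
    exact ⟨hx', conj_ne_one hx.2⟩
  · intro h
    apply conj_ne_one (m := t) hy1
    rw [← mem_bot, ← h]
    refine mem_inf.mpr ⟨conj_mem_of_le_normalizer hnF (hX₀ ht) hy, ?_⟩
    rw [mem_centralizer_iff]
    intro z hz
    rw [Set.mem_singleton_iff] at hz
    rw [hz]
    exact conj_comm hxy

/-- part (b) of row S1539 -/
theorem cent_of_mem (hG : IsMinSimpleOddOrder G) (R : Rows G) {S T : Subgroup G}
    (hS : IsCoatom S) (hT : IsCoatom T) (hnc : ∀ g : G, cj g T ≠ S) {x : G}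
    (hx1 : x ∈ typeA1 S) (hx2 : x ∈ typeA T) :
    ¬ centralizer ({x} : Set G) ≤ S ∧ centralizer ({x} : Set G) ≤ T := by
  have h0 : x ∉ typeA1 T := fun h => not_mem_both hG R hS hT hnc hx1 h
  refine ⟨?_, ?_⟩
  swap
  · by_contra hc
    exact h0 ((R.r1391 T hT (typeA T) (Or.inl rfl)).2.1 x hx2 hc).1
  rcases type_cases hG R hT with h | h | h | h
  · have hx3 := hx2
    rw [mem_typeA_of_I h] at hx3
    obtain ⟨hxT, -, y, hy, hy1, hxy⟩ := hx3
    obtain ⟨-, -, -, -, U, -, hU, -⟩ := h.1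
    have hc := complIn_of_complement' hU
    exact not_cent_le_aux hG R hS hT hnc le_rfl hc (Or.inl ⟨h, hc⟩) (typeCore_of_I R hT h) hx1 hxT
      hy hy1 hxy
  · have hx3 := hx2
    rw [mem_typeA_of_not_I (not_I_of_II R hT h), typeCore_of_II R hT h] at hx3
    obtain ⟨hxT, -, y, hy, hy1, hxy⟩ := hx3
    obtain ⟨W₁, U, W₂, hP, -⟩ := id h
    exact not_cent_le_aux hG R hS hT hnc (commutator_le_self T) hP.U_compl (Or.inr ⟨h, hP.U_compl⟩)
      (typeCore_of_II R hT h) hx1 hxT hy hy1 hxy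
  · exfalso
    apply h0
    rw [mem_typeA_of_not_I (not_I_of_III R hT h)] at hx2
    rw [mem_typeA1, typeCore_of_III h]
    exact ⟨hx2.1, hx2.2.1⟩
  · exfalso
    apply h0
    rw [mem_typeA_of_not_I (not_I_of_V R hT h)] at hx2
    rw [mem_typeA1, typeCore_of_V R hT h]
    obtain ⟨W₁, U, W₂, hP, hU, -⟩ := id h
    have h1 := sup_eq_of_complIn hP.U_compl
    rw [hU, sup_bot_eq] at h1
    rw [h1]
    exact ⟨hx2.1, hx2.2.1⟩

/-- part (a) of row S1539 -/
theorem supports_iff (hG : IsMinSimpleOddOrder G) (R : Rows G) {S T : Subgroup G}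
    (hS : IsCoatom S) (hT : IsCoatom T) (hnc : ∀ g : G, cj g T ≠ S) :
    Supports T S ↔ (typeA1 S ∩ typeA T).Nonempty := by
  constructor
  · rintro ⟨-, x, hx, hxS, hxT⟩
    have h91 := R.r1391 S hS (typeA0 S) (Or.inr rfl)
    exact ⟨x, (h91.2.1 x hx hxS).1, (h91.2.2 x hx hxS T hT hxT).2.2.2.2.1.1⟩
  · rintro ⟨x, hx1, hx2⟩
    obtain ⟨h1, h2⟩ := cent_of_mem hG R hS hT hnc hx1 hx2
    exact ⟨hT, x, typeA1_subset_typeA0 hG R hS hx1, h1, h2⟩

/-! ### transport of `A(T)` -/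

theorem typeA_cj_mem (R : Rows G) {T : Subgroup G} (hT : IsCoatom T) (g : G) {a : G}
    (ha : a ∈ typeA T) : g * a * g⁻¹ ∈ typeA (cj g T) := by
  by_cases h : IsOfTypeI T
  · rw [mem_typeA_of_I ((typeI_cj R hT g).mpr h)]
    rw [mem_typeA_of_I h] at ha
    obtain ⟨h1, h2, x, hx, hx1, hc⟩ := ha
    refine ⟨conj_mem_cj h1, conj_ne_one h2, g * x * g⁻¹, ?_, conj_ne_one hx1, conj_comm hc⟩
    rw [fittingHallOf_cj]
    exact conj_mem_cj hx
  · rw [mem_typeA_of_not_I (fun h' => h ((typeI_cj R hT g).mp h'))]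
    rw [mem_typeA_of_not_I h] at ha
    obtain ⟨h1, h2, x, hx, hx1, hc⟩ := ha
    refine ⟨?_, conj_ne_one h2, g * x * g⁻¹, ?_, conj_ne_one hx1, conj_comm hc⟩
    · have : ⁅cj g T, cj g T⁆ = cj g ⁅T, T⁆ := (map_commutator T T _).symm
      rw [this]
      exact conj_mem_cj h1
    · rw [typeCore_cj R hT]
      exact conj_mem_cj hx

theorem typeA_cj_mem' (R : Rows G) {T : Subgroup G} (hT : IsCoatom T) (g : G) {a : G}
    (ha : a ∈ typeA (cj g T)) : g⁻¹ * a * g ∈ typeA T := by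
  have h := typeA_cj_mem R (isCoatom_cj hT g) g⁻¹ ha
  rw [cj_inv_cj, inv_inv] at h
  exact h

theorem typeA_pow {T : Subgroup G} {u : G} (hu : u ∈ typeA T) (k : ℕ)
    (hk : u ^ k ≠ 1) : u ^ k ∈ typeA T := by
  by_cases h : IsOfTypeI T
  · rw [mem_typeA_of_I h] at hu ⊢
    obtain ⟨h1, -, x, hx, hx1, hc⟩ := hu
    exact ⟨pow_mem h1 k, hk, x, hx, hx1, (Commute.pow_left hc k)⟩
  · rw [mem_typeA_of_not_I h] at hu ⊢
    obtain ⟨h1, -, x, hx, hx1, hc⟩ := hu
    exact ⟨pow_mem h1 k, hk, x, hx, hx1, (Commute.pow_left hc k)⟩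

/-! ### the sets `Ã` -/

theorem commute_supportR (R : Rows G) {M : Subgroup G} (hM : IsCoatom M) {a r : G}
    (ha : a ∈ typeA0 M) (hr : r ∈ supportR M a) :
    Commute a r ∧ (orderOf a).Coprime (orderOf r) := by
  obtain ⟨h1, -, -, -, h5⟩ := supportR_props R hM ha
  have h2 := h1 hr
  rw [mem_centralizer_iff] at h2
  refine ⟨h2 a rfl, ?_⟩
  have h3 : a ∈ M ⊓ centralizer ({a} : Set G) := by
    refine mem_inf.mpr ⟨(mem_of_mem_typeA0 R hM ha).1, ?_⟩
    rw [mem_centralizer_iff]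
    intro z hz
    rw [Set.mem_singleton_iff] at hz
    rw [hz]
  exact (Nat.Coprime.coprime_dvd_left (orderOf_dvd_card_of_mem hr)
    (Nat.Coprime.coprime_dvd_right (orderOf_dvd_card_of_mem h3) (h5 a ha))).symm

theorem orderOf_conj' (w b : G) : orderOf (w * b * w⁻¹) = orderOf b := by
  have := (MulAut.conj w).orderOf_eq b
  rwa [MulAut.conj_apply] at this

/-- part (c) of row S1539 -/
theorem exists_supports_iff (hG : IsMinSimpleOddOrder G) (R : Rows G) {S T : Subgroup G}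
    (hS : IsCoatom S) (hT : IsCoatom T) (hnc : ∀ g : G, cj g T ≠ S) :
    (∃ g : G, Supports (cj g T) S) ↔ (tildeOf S (typeA1 S) ∩ tildeOf T (typeA T)).Nonempty := by
  constructor
  · rintro ⟨g, hg⟩
    obtain ⟨x, hx1, hx2⟩ := (supports_iff hG R hS (isCoatom_cj hT g) (nc_cj hnc g)).mp hg
    refine ⟨x, ⟨x, hx1, 1, one_mem _, 1, by group⟩,
      ⟨g⁻¹ * x * g, typeA_cj_mem' R hT g hx2, 1, one_mem _, g, by group⟩⟩
  · rintro ⟨z, ⟨a, ha, r, hr, y₁, e₁⟩, ⟨b, hb, r', hr', y₂, e₂⟩⟩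
    have ha0 := typeA1_subset_typeA0 hG R hS ha
    have hb0 := typeA_subset_typeA0 T hb
    obtain ⟨hc1, hco1⟩ := commute_supportR R hS ha0 hr
    obtain ⟨hc2, hco2⟩ := commute_supportR R hT hb0 hr'
    set w := y₁⁻¹ * y₂ with hw
    have e : a * r = (w * b * w⁻¹) * (w * r' * w⁻¹) := by
      have h1 : a * r = y₁⁻¹ * z * y₁ := by rw [e₁]; group
      rw [h1, e₂, hw]
      group
    by_cases hr1 : r' = 1
    · -- `a` is a power of `a r = w b w⁻¹ ∈ A(T^w)`
      refine ⟨w, ?_⟩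
      rw [supports_iff hG R hS (isCoatom_cj hT w) (nc_cj hnc w)]
      refine ⟨a, ha, ?_⟩
      obtain ⟨k, hk⟩ := exists_pow_eq_left hc1 hco1
      have h2 : a * r ∈ typeA (cj w T) := by
        rw [e, hr1]
        have : w * b * w⁻¹ * (w * 1 * w⁻¹) = w * b * w⁻¹ := by group
        rw [this]
        exact typeA_cj_mem R hT w hb
      have h3 := typeA_pow h2 k (by rw [hk]; exact ha.2)
      rwa [hk] at h3
    · -- `b ∈ A₁(T)` and `w b w⁻¹ ∈ R(a)`
      have hbT : ¬ centralizer ({b} : Set G) ≤ T := by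
        intro h
        rw [supportR_of_le h, mem_bot] at hr'
        exact hr1 hr'
      have hb1 : b ∈ typeA1 T := ((R.r1391 T hT (typeA T) (Or.inl rfl)).2.1 b hb hbT).1
      have hc2' : Commute (w * b * w⁻¹) (w * r' * w⁻¹) := conj_comm hc2
      have hco3 : (orderOf a).Coprime (orderOf (w * b * w⁻¹)) := by
        rw [orderOf_conj']
        exact Nat.Coprime.coprime_dvd_left (orderOf_dvd_card_of_mem ha.1)
          (Nat.Coprime.coprime_dvd_right (orderOf_dvd_card_of_mem hb1.1)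
            (coprime_typeCore hG R hS hT hnc))
      obtain ⟨k, hk⟩ := mem_zpowers_of_parts hc1 hc2' hco1
        (by rw [orderOf_conj', orderOf_conj']; exact hco2) hco3 e
      have hbR : w * b * w⁻¹ ∈ supportR S a := by rw [hk]; exact pow_mem hr k
      have hb1' : w * b * w⁻¹ ≠ 1 := conj_ne_one hb1.2
      have haS : ¬ centralizer ({a} : Set G) ≤ S := by
        intro h
        rw [supportR_of_le h, mem_bot] at hbR
        exact hb1' hbR
      obtain ⟨-, hex⟩ := (R.r1391 S hS (typeA0 S) (Or.inr rfl)).2.1 a ha0 haS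
      obtain ⟨L, ⟨hL, haL⟩, -⟩ := id hex
      rw [supportR_eq haS hex hL haL] at hbR
      have hbL : w * b * w⁻¹ ∈ sigmaCore L :=
        Cfsg.Agent.Lib.Helper27BG16fhall.fittingHallOf_le_sigmaCore hG hL hbR.1
      have ho : orderOf b ≠ 1 := fun h => hb1.2 (orderOf_eq_one_iff.mp h)
      obtain ⟨p, hp, hpd⟩ := Nat.exists_prime_and_dvd ho
      have hpT : p ∈ sigma T :=
        mem_sigma_of_dvd_typeCore R hT hp (hpd.trans (orderOf_dvd_card_of_mem hb1.1))
      have hpL : p ∈ sigma L := by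
        apply Cfsg.Agent.Lib.Helper31BGS.mem_sigma_of_dvd_sigmaCore hG hL hp
        rw [← orderOf_conj' w b] at hpd
        exact hpd.trans (orderOf_dvd_card_of_mem hbL)
      obtain ⟨g, hg⟩ := Cfsg.Agent.Lib.Helper37BGPart.sigma_conj hG hT hL hpT hpL
      exact ⟨g, hg ▸ ⟨hL, a, ha0, haS, haL⟩⟩

/-- part (d) of row S1539 -/
theorem not_both_support (hG : IsMinSimpleOddOrder G) (R : Rows G) {S T : Subgroup G}
    (hS : IsCoatom S) (hT : IsCoatom T) {g h : G}
    (h1 : Supports (cj g T) S) (h2 : Supports (cj h S) T) : False := by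
  obtain ⟨hL, x, hx0, hxS, hxL⟩ := h1
  obtain ⟨hL', x', hx0', hxT', hxL'⟩ := h2
  have h91 := R.r1391 S hS (typeA0 S) (Or.inr rfl)
  have hx1 : x ∈ typeA1 S := (h91.2.1 x hx0 hxS).1
  have hxA : x ∈ typeA (cj g T) := (h91.2.2 x hx0 hxS _ hL hxL).2.2.2.2.1.1
  have hy : g⁻¹ * x * g ∈ typeA T := typeA_cj_mem' R hT g hxA
  obtain ⟨-, -, -, h4, -, h6, -⟩ := (R.r1391 T hT (typeA0 T) (Or.inr rfl)).2.2 x' hx0' hxT' _ hL' hxL'
  have hcore : typeCore (cj h S) = fittingHallOf (cj h S) := by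
    rcases h6 with h6 | h6
    · exact typeCore_of_I R hL' h6
    · exact typeCore_of_II R hL' h6
  have hcard : Nat.card (fittingHallOf (cj h S)) = Nat.card (typeCore S) := by
    rw [← hcore, typeCore_cj R hS, card_cj]
  have hcop := h4 _ (typeA_subset_typeA0 T hy)
  rw [hcard] at hcop
  have hd1 : orderOf (g⁻¹ * x * g) ∣ Nat.card (typeCore S) := by
    have := orderOf_conj' g⁻¹ x
    rw [inv_inv] at this
    rw [this]
    exact orderOf_dvd_card_of_mem hx1.1
  have hd2 : orderOf (g⁻¹ * x * g) ∣ Nat.card ↥(T ⊓ centralizer ({g⁻¹ * x * g} : Set G)) := by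
    apply orderOf_dvd_card_of_mem
    refine mem_inf.mpr ⟨(mem_typeA_imp R hT hy).1, ?_⟩
    rw [mem_centralizer_iff]
    intro z hz
    rw [Set.mem_singleton_iff] at hz
    rw [hz]
  have := Nat.eq_one_of_dvd_coprimes hcop hd1 hd2
  exact (mem_typeA_imp R hT hy).2.1 (orderOf_eq_one_iff.mp this)

/-- row S1539, relative to `Rows G` -/
theorem s1539_of (hG : IsMinSimpleOddOrder G) (R : Rows G) (S T : Subgroup G) (hS : IsCoatom S)
    (hT : IsCoatom T) (hnc : ∀ g : G, T.map (MulAut.conj g).toMonoidHom ≠ S) :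
    (Supports T S ↔ (typeA1 S ∩ typeA T).Nonempty) ∧
    (∀ x ∈ typeA1 S ∩ typeA T, ¬ centralizer ({x} : Set G) ≤ S ∧ centralizer ({x} : Set G) ≤ T) ∧
    ((∃ g : G, Supports (T.map (MulAut.conj g).toMonoidHom) S) ↔
      (tildeOf S (typeA1 S) ∩ tildeOf T (typeA T)).Nonempty) ∧
    (tildeOf S (typeA1 S) ∩ tildeOf T (typeA T) = ∅ ∨
      tildeOf T (typeA1 T) ∩ tildeOf S (typeA S) = ∅) := by
  refine ⟨supports_iff hG R hS hT hnc, fun x hx => cent_of_mem hG R hS hT hnc hx.1 hx.2,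
    exists_supports_iff hG R hS hT hnc, ?_⟩
  by_contra hcon
  rw [not_or, ← Ne, ← Ne, ← Set.nonempty_iff_ne_empty, ← Set.nonempty_iff_ne_empty] at hcon
  obtain ⟨g, hg⟩ := (exists_supports_iff hG R hS hT hnc).mpr hcon.1
  obtain ⟨h, hh⟩ := (exists_supports_iff hG R hT hS (nc_symm hnc)).mpr hcon.2
  exact not_both_support hG R hS hT hg hh

end Cfsg.Agent.Lib.Helper60PF8c
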