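import Cfsg.Agent.Lib.Helper60PF8a
import Cfsg.Agent.S1351
import Cfsg.Agent.S1352
import Cfsg.Agent.S1380
import Cfsg.Agent.S1381
import Cfsg.Agent.S1382
import Cfsg.Agent.S1383
import Cfsg.Agent.S1389
import Cfsg.Agent.S1390
import Cfsg.Agent.S1391

/-!
The bundle `Rows G` of `Helper60PF8a` from the rows S1351, S1352, S1380-S1383, S1389-S1391.
-/

set_option autoImplicit false

namespace Cfsg.Agent.Lib.Helper60PF8rows

open Cfsg Subgroup

theorem rows {G : Type*} [Group G] [Finite G] (hG : IsMinSimpleOddOrder G) :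
    Cfsg.Agent.Lib.Helper60PF8a.Rows G where
  dec := fun M hM => by
    obtain ⟨⟨K, hK⟩, hc⟩ := Cfsg.Agent.S1351.result hG M hM
    obtain ⟨⟨U, hU⟩, -⟩ := Cfsg.Agent.S1352.result hG M hM K (hc K hK) hK
    exact ⟨K, U, hU⟩
  tI := fun M K U hM h => Cfsg.Agent.S1380.result hG M hM K U h
  tII := fun M K U hM h => Cfsg.Agent.S1381.result hG M hM K U h
  tIII := fun M K U hM h => Cfsg.Agent.S1382.result hG M hM K U h
  tV := fun M K U hM h => Cfsg.Agent.S1383.result hG M hM K U h
  r1389 := fun M hM => Cfsg.Agent.S1389.result hG M hM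
  r1390 := fun M hM U hU => Cfsg.Agent.S1390.result hG M hM U hU
  r1391 := fun M hM X hX => Cfsg.Agent.S1391.result hG M hM X hX

end Cfsg.Agent.Lib.Helper60PF8rows
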