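import Mathlib
import Cfsg.Agent.Lib.Helper60PF8b
import Cfsg.Agent.Lib.H60WCore
import Cfsg.Agent.Lib.H60WKinds
import Cfsg.Agent.Lib.H60WFusI
import Cfsg.Agent.Lib.H60WKeyIII
import Cfsg.Agent.Lib.H60WFusII
import Cfsg.Agent.Lib.H60WCentII
import Cfsg.Agent.Lib.H60WCentIII
import Cfsg.Agent.Lib.H60WCop

/-!
Peterfalvi, Section 8 (local part): the Dade hypothesis for `A₁(M) ⊆ A(M) ⊆ A₀(M)` (row S1537) and the TI
property for Type II (row S1538), unconditionally, from the landed Bender-Glauberman rows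
(plan of helper68: no use of the rows S1380 (<-), S1383, S1391).
-/

set_option autoImplicit false
set_option linter.unusedSectionVars false

namespace Cfsg.Agent.Lib.Helper60PF8w

open Cfsg Subgroup
open Cfsg.Agent.Lib.Helper30Trans Cfsg.Agent.Lib.Helper24BG Cfsg.Agent.Lib.Helper60PF8a
open Cfsg.Agent.Lib.Helper60PF8b
open Cfsg.Agent.Lib.H60WCore Cfsg.Agent.Lib.H60WKinds Cfsg.Agent.Lib.H60WFusI
open Cfsg.Agent.Lib.H60WKeyIII Cfsg.Agent.Lib.H60WFusII Cfsg.Agent.Lib.H60WCentII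
open Cfsg.Agent.Lib.H60WCentIII Cfsg.Agent.Lib.H60WCop

variable {G : Type*} [Group G] [Finite G]

theorem mem_typeA1_iff (hG : IsMinSimpleOddOrder G) {M : Subgroup G} (hM : IsCoatom M) {x : G} :
    x ∈ typeA1 M ↔ x ∈ sigmaCore M ∧ x ≠ 1 := by
  rw [mem_typeA1, typeCore_eq hG hM]

theorem mem_of_typeA0 (hG : IsMinSimpleOddOrder G) {M : Subgroup G} (hM : IsCoatom M) {a : G}
    (ha : a ∈ typeA0 M) : a ∈ M ∧ a ≠ 1 := by
  obtain ⟨K, U, hKU⟩ := exists_dec hG hM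
  rcases kinds hG hM hKU ha with ⟨h1, h2⟩ | ⟨h1, h2⟩ | ⟨W₁, U', W₂, hP, m, hm, w, hw, hw1, -, rfl⟩
  · exact ⟨Cfsg.Agent.Lib.Helper2BGb.sigmaCore_le M h1, h2⟩
  · refine ⟨h1.1.1, ?_⟩
    rintro rfl
    exact h2 (one_mem _)
  · have hW : W₁ ⊔ W₂ ≤ M :=
      sup_le hP.W₁_compl.2.1 (hP.W₂_le.trans (inf_le_left.trans
        (Cfsg.Agent.Lib.Helper29Basic.fittingHallOf_le M)))
    refine ⟨M.mul_mem (M.mul_mem hm (hW hw)) (M.inv_mem hm), ?_⟩
    apply conj_ne_one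
    rintro rfl
    exact hw1 (one_mem _)

theorem typeA1_sub_typeA (hG : IsMinSimpleOddOrder G) {M : Subgroup G} (hM : IsCoatom M) :
    typeA1 M ⊆ typeA M := by
  intro x hx
  have hx' := (mem_typeA1_iff hG hM).mp hx
  by_cases h : IsOfTypeI M
  · rw [mem_typeA_of_I h, fhall_eq_of_not_III hG hM (H60WCore.not_III_of_I hG hM h)]
    exact ⟨Cfsg.Agent.Lib.Helper2BGb.sigmaCore_le M hx'.1, hx'.2, x, hx'.1, hx'.2, rfl⟩
  · rw [mem_typeA_of_not_I h]
    exact ⟨Cfsg.Agent.Lib.Helper2BGb.sigmaCore_le_derived hG hM hx'.1, hx'.2, x, hx.1, hx'.2, rfl⟩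

theorem typeA1_sub_typeA0 (hG : IsMinSimpleOddOrder G) {M : Subgroup G} (hM : IsCoatom M) :
    typeA1 M ⊆ typeA0 M :=
  (typeA1_sub_typeA hG hM).trans (typeA_subset_typeA0 M)

theorem exists_typeA1 (hG : IsMinSimpleOddOrder G) {M : Subgroup G} (hM : IsCoatom M) :
    ∃ a ∈ typeA1 M, a ≠ 1 := by
  obtain ⟨x, hx, hx1⟩ := exists_ne_one_of_ne_bot'
    (Cfsg.Agent.Lib.Helper3BGNotuniq.sigmaCore_ne_bot hG hM)
  exact ⟨x, (mem_typeA1_iff hG hM).mpr ⟨hx, hx1⟩, hx1⟩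

theorem norm_typeA1 (hG : IsMinSimpleOddOrder G) {M : Subgroup G} (hM : IsCoatom M) :
    normalizer (typeA1 M) = M :=
  set_normalizer_eq hG hM (fun _ ha => typeCore_le M ha.1) (fun _ hm _ ha => typeA1_conj hm ha)
    (exists_typeA1 hG hM)

theorem norm_typeA (hG : IsMinSimpleOddOrder G) {M : Subgroup G} (hM : IsCoatom M) :
    normalizer (typeA M) = M := by
  obtain ⟨a, ha, ha1⟩ := exists_typeA1 hG hM
  exact set_normalizer_eq hG hM (fun _ ha => (mem_of_typeA0 hG hM (typeA_subset_typeA0 M ha)).1)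
    (fun _ hm _ ha => typeA_conj hm ha) ⟨a, typeA1_sub_typeA hG hM ha, ha1⟩

theorem norm_typeA0 (hG : IsMinSimpleOddOrder G) {M : Subgroup G} (hM : IsCoatom M) :
    normalizer (typeA0 M) = M := by
  obtain ⟨a, ha, ha1⟩ := exists_typeA1 hG hM
  exact set_normalizer_eq hG hM (fun _ ha => (mem_of_typeA0 hG hM ha).1)
    (fun _ hm _ ha => typeA0_conj hm ha) ⟨a, typeA1_sub_typeA0 hG hM ha, ha1⟩

/-- control of fusion in `A₀(M)` -/
theorem fusion (hG : IsMinSimpleOddOrder G) {M : Subgroup G} (hM : IsCoatom M) {a g : G}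
    (ha : a ∈ typeA0 M) (hb : g * a * g⁻¹ ∈ typeA0 M) : ∃ m ∈ M, m * a * m⁻¹ = g * a * g⁻¹ := by
  obtain ⟨K, U, hKU⟩ := exists_dec hG hM
  have haM := (mem_of_typeA0 hG hM ha).1
  have hbM := (mem_of_typeA0 hG hM hb).1
  rcases kinds hG hM hKU ha with ⟨h1, h2⟩ | ⟨h1, h2⟩ | ⟨W₁, U', W₂, hP, n, hn, w, hw, hw1, hw2, rfl⟩
  · exact fusion_i hG hM h1 h2 hbM
  · rcases kinds hG hM hKU hb with ⟨h3, h4⟩ | ⟨h3, h4⟩ | ⟨W₁, U', W₂, hP, n, hn, w, hw, hw1, hw2, e⟩
    · exfalso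
      have e1 : g⁻¹ * (g * a * g⁻¹) * g⁻¹⁻¹ = a := by group
      obtain ⟨m, hm, e⟩ := fusion_i hG hM (g := g⁻¹) h3 h4 (by rw [e1]; exact haM)
      rw [e1] at e
      apply h2
      rw [← e]
      exact conj_mem_of_le_normalizer (Cfsg.Agent.Lib.Helper2BGb.le_normalizer_sigmaCore M) hm h3
    · exact ⟨g, fusion_ii hG hM hKU h1 h2 h3 h4, rfl⟩
    · have e1 : (g⁻¹ * n) * w * (g⁻¹ * n)⁻¹ = a := by
        have : (g⁻¹ * n) * w * (g⁻¹ * n)⁻¹ = g⁻¹ * (n * w * n⁻¹) * g := by group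
        rw [this, ← e]
        group
      have h5 := key_iii hG hM hP hw hw1 hw2 (h := g⁻¹ * n) (by rw [e1]; exact haM)
      refine ⟨g, ?_, rfl⟩
      have : g = n * (g⁻¹ * n)⁻¹ := by group
      rw [this]
      exact M.mul_mem hn (M.inv_mem h5)
  · have e1 : (g * n) * w * (g * n)⁻¹ = g * (n * w * n⁻¹) * g⁻¹ := by group
    have h5 := key_iii hG hM hP hw hw1 hw2 (h := g * n) (by rw [e1]; exact hbM)
    refine ⟨g, ?_, rfl⟩
    have : g = (g * n) * n⁻¹ := by group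
    rw [this]
    exact M.mul_mem h5 (M.inv_mem hn)

/-- an element of `A₀(M)` whose centralizer is not in `M` lies in `M_σ` -/
theorem mem_sigmaCore_of_not_le (hG : IsMinSimpleOddOrder G) {M : Subgroup G} (hM : IsCoatom M)
    {a : G} (ha : a ∈ typeA0 M) (hc : ¬ centralizer ({a} : Set G) ≤ M) :
    a ∈ sigmaCore M ∧ a ≠ 1 := by
  obtain ⟨K, U, hKU⟩ := exists_dec hG hM
  rcases kinds hG hM hKU ha with h | ⟨h1, h2⟩ | ⟨W₁, U', W₂, hP, n, hn, w, hw, hw1, hw2, rfl⟩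
  · exact h
  · exact absurd (cent_ii hG hM hKU h1 h2) hc
  · exact absurd (cent_iii hP hn hw hw1 hw2) hc

theorem complIn_swap {A B C : Subgroup G} (h : IsComplIn A B C) : IsComplIn B A C := by
  refine ⟨h.2.1, h.1, by rw [inf_comm]; exact h.2.2.1, ?_⟩
  intro c hc
  obtain ⟨a, ha, b, hb, e⟩ := h.2.2.2 c⁻¹ (C.inv_mem hc)
  refine ⟨b⁻¹, B.inv_mem hb, a⁻¹, A.inv_mem ha, ?_⟩
  rw [← mul_inv_rev, ← e, inv_inv]

theorem supportR_facts (hG : IsMinSimpleOddOrder G) {M : Subgroup G} (hM : IsCoatom M) {a : G}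
    (ha : a ∈ typeA0 M) :
    supportR M a ≤ centralizer ({a} : Set G) ∧
    (∀ c ∈ centralizer ({a} : Set G), ∀ u ∈ supportR M a, c * u * c⁻¹ ∈ supportR M a) ∧
    supportR M a ⊓ (M ⊓ centralizer ({a} : Set G)) = ⊥ ∧
    supportR M a ⊔ (M ⊓ centralizer ({a} : Set G)) = centralizer ({a} : Set G) ∧
    ∀ b ∈ typeA0 M, Nat.Coprime (Nat.card (supportR M a))
      (Nat.card ↥(M ⊓ centralizer ({b} : Set G))) := by
  by_cases hc : centralizer ({a} : Set G) ≤ M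
  · rw [supportR_of_le hc]
    refine ⟨bot_le, ?_, bot_inf_eq _, ?_, ?_⟩
    · intro c _ u hu
      rw [mem_bot] at hu ⊢
      rw [hu]
      group
    · rw [bot_sup_eq, inf_eq_right]
      exact hc
    · intro b _
      rw [card_bot]
      exact Nat.coprime_one_left _
  · obtain ⟨h1, h2⟩ := mem_sigmaCore_of_not_le hG hM ha hc
    obtain ⟨L, ⟨hL, haL⟩, huniq, hF, hn, hcompl, -⟩ := Cfsg.Agent.S1375.result hG M hM a h1 h2 hc
    have hex : ∃! L : Subgroup G, IsCoatom L ∧ centralizer ({a} : Set G) ≤ L :=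
      ⟨L, ⟨hL, haL⟩, fun L' h' => huniq L' h'.1 h'.2⟩
    rw [supportR_eq hc hex hL haL, ← hF]
    have h3 := complIn_swap hcompl
    refine ⟨inf_le_right, ?_, h3.2.2.1, sup_eq_of_complIn h3, ?_⟩
    · intro c hc' u hu
      exact (mem_normalizer_iff.mp (hn hc') u).mp hu
    · intro b hb
      rw [hF]
      exact Nat.Coprime.coprime_dvd_left (card_dvd_of_le inf_le_left)
        (H60WCop.coprime hG hM h1 h2 hc hL haL hb)

/-- the Dade hypothesis for any `M`-invariant subset of `A₀(M)` -/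
theorem dade_of_sub (hG : IsMinSimpleOddOrder G) {M : Subgroup G} (hM : IsCoatom M) {A : Set G}
    (hA : A ⊆ typeA0 M) (hconj : ∀ m ∈ M, ∀ a ∈ A, m * a * m⁻¹ ∈ A) :
    DadeHypothesis A M (supportR M) where
  one_not_mem := fun h => (mem_of_typeA0 hG hM (hA h)).2 rfl
  subset := fun a ha => (mem_of_typeA0 hG hM (hA ha)).1
  conj_mem := hconj
  fusion := fun a ha g hg => fusion hG hM (hA ha) (hA hg)
  le_centralizer := fun a ha => (supportR_facts hG hM (hA ha)).1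
  conj_mem_H := fun a ha => (supportR_facts hG hM (hA ha)).2.1
  inf_eq_bot := fun a ha => (supportR_facts hG hM (hA ha)).2.2.1
  sup_eq := fun a ha => (supportR_facts hG hM (hA ha)).2.2.2.1
  coprime := fun a ha b hb => (supportR_facts hG hM (hA ha)).2.2.2.2 b (hA hb)

/-- row S1537 -/
theorem s1537 (hG : IsMinSimpleOddOrder G) (M : Subgroup G) (hM : IsCoatom M)
    (A : Set G) (hA : A = typeA1 M ∨ A = typeA M ∨ A = typeA0 M) :
    normalizer A = M ∧ DadeHypothesis A M (supportR M) := by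
  rcases hA with rfl | rfl | rfl
  · exact ⟨norm_typeA1 hG hM, dade_of_sub hG hM (typeA1_sub_typeA0 hG hM)
      (fun _ hm _ ha => typeA1_conj hm ha)⟩
  · exact ⟨norm_typeA hG hM, dade_of_sub hG hM (typeA_subset_typeA0 M)
      (fun _ hm _ ha => typeA_conj hm ha)⟩
  · exact ⟨norm_typeA0 hG hM, dade_of_sub hG hM subset_rfl
      (fun _ hm _ ha => typeA0_conj hm ha)⟩

/-! ### Type II -/

theorem cent_le_of_II (hG : IsMinSimpleOddOrder G) {M : Subgroup G}
    (hM : IsCoatom M) (hII : IsOfTypeII M) {x : G} (hx : x ∈ typeA0 M) :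
    centralizer ({x} : Set G) ≤ M := by
  by_contra hc
  have h1 := mem_sigmaCore_of_not_le hG hM hx hc
  rw [← fhall_eq_of_not_III hG hM (H60WCore.not_III_of_II hG hM hII)] at h1
  obtain ⟨W₁, U, W₂, hP, -, -, hTI, -⟩ := id hII
  apply hc
  intro g hg
  have hF0 : fittingOf M ≠ ⊥ := by
    intro h
    apply fhall_ne_bot_of_P hP
    rw [← le_bot_iff, ← h]
    exact fittingHallOf_le_fittingOf' M
  have hN : normalizer (fittingOf M : Set G) = M :=
    norm_eq hG hM hF0 (Cfsg.Agent.Lib.Helper30Bender.fittingOf_le M)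
      (Cfsg.Agent.Lib.Helper30Bender.le_normalizer_fittingOf M)
  rw [← hN]
  by_contra hgN
  apply h1.2
  have hxF : x ∈ fittingOf M := fittingHallOf_le_fittingOf' M h1.1
  apply hTI g hgN x hxF
  have : g * x * g⁻¹ = x := by
    rw [mem_centralizer_iff] at hg
    rw [← hg x rfl]
    group
  rw [this]
  exact hxF

theorem ti_of_typeII (hG : IsMinSimpleOddOrder G) {M : Subgroup G}
    (hM : IsCoatom M) (hII : IsOfTypeII M) {A : Set G} (hA : A ⊆ typeA0 M)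
    (hN : normalizer A = M) : IsTISubset A := by
  intro g hg x hx hgx
  exfalso
  apply hg
  rw [hN]
  obtain ⟨m, hm, e⟩ := fusion hG hM (hA hx) (hA hgx)
  have h1 : m⁻¹ * g ∈ centralizer ({x} : Set G) := by
    rw [mem_centralizer_iff]
    intro y hy
    rw [Set.mem_singleton_iff] at hy
    rw [hy]
    have e2 : g * x = m * x * m⁻¹ * g := by rw [e]; group
    calc x * (m⁻¹ * g) = m⁻¹ * (m * x * m⁻¹ * g) := by group
      _ = m⁻¹ * (g * x) := by rw [e2]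
      _ = m⁻¹ * g * x := by group
  have h2 := cent_le_of_II hG hM hII (hA hx) h1
  have : g = m * (m⁻¹ * g) := by group
  rw [this]
  exact M.mul_mem hm h2

/-- row S1538 -/
theorem s1538 (hG : IsMinSimpleOddOrder G) (M : Subgroup G) (hM : IsCoatom M)
    (hII : IsOfTypeII M) :
    (IsTISubset (typeA0 M) ∧ normalizer (typeA0 M) = M) ∧
    (IsTISubset (typeA M) ∧ normalizer (typeA M) = M) ∧
    (IsTISubset (typeA1 M) ∧ normalizer (typeA1 M) = M) :=
  ⟨⟨ti_of_typeII hG hM hII subset_rfl (norm_typeA0 hG hM), norm_typeA0 hG hM⟩,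
   ⟨ti_of_typeII hG hM hII (typeA_subset_typeA0 M) (norm_typeA hG hM), norm_typeA hG hM⟩,
   ⟨ti_of_typeII hG hM hII (typeA1_sub_typeA0 hG hM) (norm_typeA1 hG hM), norm_typeA1 hG hM⟩⟩

end Cfsg.Agent.Lib.Helper60PF8w
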