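import Cfsg.Agent.Lib.Helper27CP
import Cfsg.Agent.Lib.Helper27Bender

set_option autoImplicit false
set_option linter.unusedSectionVars false

/-! The Thompson-Wielandt theorem for a pair of conjugate core-free maximal subgroups. -/

namespace Cfsg.Agent.Lib.Helper60TW

open Subgroup
open Cfsg.Agent.Lib.Helper28Comp (NormIn Sn CompIn)
open Cfsg.Agent.Lib.Helper28Layer (layerIn fittingIn gfitIn)
open Cfsg.Agent.Lib.Helper27Rel (pcoreIn CP)
open Cfsg.Agent.Lib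

universe u

variable {G : Type u} [Group G]

theorem le_normalizer_of {S X : Subgroup G} (h : ∀ c ∈ S, ∀ x ∈ X, c * x * c⁻¹ ∈ X) :
    S ≤ normalizer (X : Set G) := by
  intro c hc
  rw [mem_normalizer_iff]
  intro x
  constructor
  · exact h c hc x
  · intro hx
    have := h c⁻¹ (S.inv_mem hc) _ hx
    simpa [mul_assoc] using this

theorem conj_mem_of_normIn {X M : Subgroup G} (h : NormIn X M) {m x : G} (hm : m ∈ M) (hx : x ∈ X) :
    m * x * m⁻¹ ∈ X := (mem_normalizer_iff.mp (h.2 hm) x).mp hx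

theorem conj_mem_of_normIn' {X M : Subgroup G} (h : NormIn X M) {m x : G} (hm : m ∈ M) (hx : x ∈ X) :
    m⁻¹ * x * m ∈ X := by
  have := conj_mem_of_normIn h (M.inv_mem hm) hx
  simpa using this

/-! ### cores -/

/-- `C` is the core of `M ⊓ Y` in `M`. -/
def IsCor (M Y C : Subgroup G) : Prop := ∀ x, x ∈ C ↔ x ∈ M ∧ ∀ m ∈ M, m * x * m⁻¹ ∈ Y

theorem IsCor.le_left {M Y C : Subgroup G} (h : IsCor M Y C) : C ≤ M := fun x hx => ((h x).mp hx).1

theorem IsCor.le_right {M Y C : Subgroup G} (h : IsCor M Y C) : C ≤ Y := fun x hx => by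
  have := ((h x).mp hx).2 1 M.one_mem
  simpa using this

theorem IsCor.normIn {M Y C : Subgroup G} (h : IsCor M Y C) : NormIn C M := by
  refine ⟨h.le_left, le_normalizer_of ?_⟩
  intro c hc x hx
  obtain ⟨h1, h2⟩ := (h x).mp hx
  refine (h _).mpr ⟨M.mul_mem (M.mul_mem hc h1) (M.inv_mem hc), fun m hm => ?_⟩
  have := h2 (m * c) (M.mul_mem hm hc)
  simpa [mul_assoc] using this

theorem IsCor.le_of {M Y C X : Subgroup G} (h : IsCor M Y C) (hX : NormIn X M) (hXY : X ≤ Y) :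
    X ≤ C := fun x hx => (h x).mpr ⟨hX.1 hx, fun _ hm => hXY (conj_mem_of_normIn hX hm hx)⟩

/-- the core of `Y` in `M` as in the statements -/
def cor (M Y : Subgroup G) : Subgroup G := (Y.subgroupOf M).normalCore.map M.subtype

theorem mem_cor {M Y : Subgroup G} {x : G} :
    x ∈ cor M Y ↔ x ∈ M ∧ ∀ m ∈ M, m * x * m⁻¹ ∈ Y := by
  unfold cor
  constructor
  · rintro ⟨⟨y, hy⟩, h, rfl⟩
    refine ⟨hy, fun m hm => ?_⟩
    exact h ⟨m, hm⟩
  · rintro ⟨hx, h⟩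
    exact ⟨⟨x, hx⟩, fun b => h b b.2, rfl⟩

theorem isCor_cor (M Y : Subgroup G) : IsCor M Y (cor M Y) := fun _ => mem_cor

/-! ### the subgroup generated by the `p'`-elements -/

/-- the subgroup generated by the elements of `A` of order prime to `p` -/
def opr (p : ℕ) (A : Subgroup G) : Subgroup G := closure {u | u ∈ A ∧ (orderOf u).Coprime p}

theorem opr_le (p : ℕ) (A : Subgroup G) : opr p A ≤ A :=
  (closure_le A).mpr fun _ hu => hu.1

theorem orderOf_conj' (c u : G) : orderOf (c * u * c⁻¹) = orderOf u :=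
  orderOf_injective (MulAut.conj c).toMonoidHom (MulAut.conj c).injective u

theorem conj_mem_opr {p : ℕ} {A : Subgroup G} {c : G}
    (hc : ∀ u ∈ A, (orderOf u).Coprime p → c * u * c⁻¹ ∈ A) :
    ∀ x ∈ opr p A, c * x * c⁻¹ ∈ opr p A := by
  intro x hx
  unfold opr at hx ⊢
  induction hx using closure_induction with
  | mem u hu =>
    apply Subgroup.subset_closure
    exact ⟨hc u hu.1 hu.2, by rw [orderOf_conj']; exact hu.2⟩
  | one => simp
  | mul a b _ _ ha hb =>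
    have := (Subgroup.closure _).mul_mem ha hb
    simpa [mul_assoc] using this
  | inv a _ ha =>
    have := (Subgroup.closure _).inv_mem ha
    simpa [mul_assoc] using this

theorem opr_normIn {p : ℕ} {A M : Subgroup G} (h : NormIn A M) : NormIn (opr p A) M :=
  ⟨(opr_le p A).trans h.1, le_normalizer_of fun _ hc =>
    conj_mem_opr fun _ hu _ => conj_mem_of_normIn h hc hu⟩

theorem opr_ne_bot [Finite G] {p : ℕ} [hp : Fact p.Prime] {A : Subgroup G} (h : ¬ IsPGroup p A) :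
    opr p A ≠ ⊥ := by
  intro hbot
  apply h
  intro g
  obtain ⟨k, m, hm, hn⟩ := Nat.exists_eq_pow_mul_and_not_dvd (orderOf_pos (g : G)).ne' p
    hp.out.ne_one
  refine ⟨k, ?_⟩
  have h1 : orderOf ((g : G) ^ (p ^ k)) = m := by
    rw [orderOf_pow_of_dvd (pow_ne_zero _ hp.out.ne_zero) (by rw [hn]; exact dvd_mul_right _ _), hn,
      Nat.mul_div_cancel_left _ (pow_pos hp.out.pos _)]
  have h2 : (g : G) ^ (p ^ k) ∈ opr p A := by
    apply Subgroup.subset_closure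
    refine ⟨A.pow_mem g.2 _, ?_⟩
    rw [h1]
    exact ((Nat.Prime.coprime_iff_not_dvd hp.out).mpr hm).symm
  rw [hbot, mem_bot] at h2
  exact Subtype.ext (by simpa using h2)

theorem mul_mem_of_coprime {p : ℕ} {A P : Subgroup G} (hP : IsPGroup p P)
    (hPA : P ≤ normalizer (A : Set G)) {a b : G} (ha : a ∈ A) (hb : b ∈ P)
    (hc : (orderOf (a * b)).Coprime p) : a * b ∈ A := by
  obtain ⟨k, hk⟩ := hP ⟨b, hb⟩
  have hk' : b ^ (p ^ k) = 1 := by
    have := congrArg Subtype.val hk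
    simpa using this
  have key : ∀ n : ℕ, ∃ a' ∈ A, (a * b) ^ n = a' * b ^ n := by
    intro n
    induction n with
    | zero => exact ⟨1, A.one_mem, by simp⟩
    | succ n ih =>
      obtain ⟨a', ha', h⟩ := ih
      refine ⟨a' * (b ^ n * a * (b ^ n)⁻¹), A.mul_mem ha' ?_, ?_⟩
      · exact (mem_normalizer_iff.mp (hPA (P.pow_mem hb n)) a).mp ha
      · rw [pow_succ, h, pow_succ]
        group
  obtain ⟨a', ha', h⟩ := key (p ^ k)
  rw [hk', mul_one] at h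
  obtain ⟨m, hm⟩ := exists_pow_eq_self_of_coprime (x := a * b) (n := p ^ k)
    (Nat.Coprime.pow_left _ hc.symm)
  rw [← hm, h]
  exact A.pow_mem ha' _

theorem lt_inf_normalizer [Finite G] {p : ℕ} [Fact p.Prime] {Q P : Subgroup G} (hP : IsPGroup p P)
    (h : Q < P) : ∃ x ∈ P, x ∈ normalizer (Q : Set G) ∧ x ∉ Q := by
  have hnil : Group.IsNilpotent P := hP.isNilpotent
  have hnc : NormalizerCondition P := Group.normalizerCondition_of_isNilpotent
  have h1 : Q.subgroupOf P < ⊤ := by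
    rw [lt_top_iff_ne_top, Ne, Subgroup.subgroupOf_eq_top]
    exact not_le_of_gt h
  have h2 := hnc _ h1
  rw [← Subgroup.subgroupOf_normalizer_eq h.le] at h2
  obtain ⟨x, hx1, hx2⟩ := SetLike.exists_of_lt h2
  exact ⟨x, x.2, hx1, hx2⟩

/-! ### the configuration -/

/-- two "conjugate core-free maximal subgroups" with their first and second cores -/
structure Cfg (M₁ M₂ A₁ B₁ A₂ B₂ : Subgroup G) : Prop where
  n1 : ∀ X, NormIn X M₁ → X ≠ ⊥ → normalizer (X : Set G) ≤ M₁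
  n2 : ∀ X, NormIn X M₂ → X ≠ ⊥ → normalizer (X : Set G) ≤ M₂
  both : ∀ X, NormIn X M₁ → NormIn X M₂ → X = ⊥
  cardP : ∀ p : ℕ, p.Prime → Nat.card (pcoreIn p M₁) = Nat.card (pcoreIn p M₂)
  cardE : Nat.card (layerIn M₁) = Nat.card (layerIn M₂)
  a1 : IsCor M₁ M₂ A₁
  b1 : IsCor M₂ M₁ B₁
  a2 : IsCor M₁ B₁ A₂
  b2 : IsCor M₂ A₁ B₂

variable {M₁ M₂ A₁ B₁ A₂ B₂ : Subgroup G}

theorem Cfg.symm (h : Cfg M₁ M₂ A₁ B₁ A₂ B₂) : Cfg M₂ M₁ B₁ A₁ B₂ A₂ where
  n1 := h.n2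
  n2 := h.n1
  both := fun X h1 h2 => h.both X h2 h1
  cardP := fun p hp => (h.cardP p hp).symm
  cardE := h.cardE.symm
  a1 := h.b1
  b1 := h.a1
  a2 := h.b2
  b2 := h.a2

theorem Cfg.sn_a2 (h : Cfg M₁ M₂ A₁ B₁ A₂ B₂) : Sn A₂ M₂ :=
  (NormIn.sn ⟨h.a2.le_right, h.b1.le_right.trans h.a2.normIn.2⟩).trans h.b1.normIn.sn

theorem Cfg.sn_b2 (h : Cfg M₁ M₂ A₁ B₁ A₂ B₂) : Sn B₂ M₁ := h.symm.sn_a2

/-- every component of `M₁` is a component of `M₂` -/
theorem Cfg.comp (h : Cfg M₁ M₂ A₁ B₁ A₂ B₂) (hA2 : A₂ ≠ ⊥) (hB2 : B₂ ≠ ⊥) {K : Subgroup G}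
    (hK : CompIn K M₁) : CompIn K M₂ := by
  have hKM2 : K ≤ M₂ := by
    rcases hK.le_or_commute h.sn_b2 with h1 | h1
    · exact h1.trans h.b2.le_left
    · exact ((commutator_eq_bot_iff_le_centralizer.mp h1).trans (centralizer_le_normalizer _)).trans
        (h.n2 _ h.b2.normIn hB2)
  have hB1 : NormIn B₁ (M₁ ⊓ M₂) :=
    ⟨le_inf h.b1.le_right h.b1.le_left, inf_le_right.trans h.b1.normIn.2⟩
  have hKH : CompIn K (M₁ ⊓ M₂) := hK.of_le (le_inf hK.le hKM2) inf_le_left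
  rcases hKH.le_or_commute hB1.sn with h1 | h1
  · exact (hK.of_le h1 h.b1.le_right).trans h.b1.normIn.sn
  · exfalso
    have hKc : K ≤ centralizer (B₁ : Set G) := commutator_eq_bot_iff_le_centralizer.mp h1
    have hC : NormIn (M₂ ⊓ centralizer (B₁ : Set G)) M₂ := by
      refine ⟨inf_le_left, le_normalizer_of ?_⟩
      intro c hc x hx
      refine ⟨M₂.mul_mem (M₂.mul_mem hc hx.1) (M₂.inv_mem hc), ?_⟩
      exact (mem_normalizer_iff.mp
        (Helper28Layer.normalizer_le_normalizer_centralizer B₁ (h.b1.normIn.2 hc)) x).mp hx.2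
    have hCM : M₂ ⊓ centralizer (B₁ : Set G) ≤ M₁ :=
      ((inf_le_right.trans (centralizer_le h.a2.le_right)).trans
        (centralizer_le_normalizer _)).trans (h.n1 _ h.a2.normIn hA2)
    have hCB := h.b1.le_of hC hCM
    have hKB : K ≤ B₁ := (le_inf hKM2 hKc).trans hCB
    exact hK.2.not_le_centralizer (hKc.trans (centralizer_le hKB))

theorem Cfg.layer_eq_bot [Finite G] (h : Cfg M₁ M₂ A₁ B₁ A₂ B₂) (hA2 : A₂ ≠ ⊥) (hB2 : B₂ ≠ ⊥) :
    layerIn M₁ = ⊥ := by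
  have h1 : layerIn M₁ ≤ layerIn M₂ :=
    sSup_le fun K hK => Helper28Layer.compIn_le_layerIn (h.comp hA2 hB2 hK)
  have h2 : layerIn M₁ = layerIn M₂ := eq_of_le_of_card_ge h1 h.cardE.symm.le
  exact h.both _ (Helper28Layer.layerIn_normIn M₁) (h2 ▸ Helper28Layer.layerIn_normIn M₂)

/-- the key lemma: `A₂` is a `p`-group for every prime `p` with `O_p(M₂) ≠ 1` -/
theorem Cfg.isPGroup_a2 [Finite G] (h : Cfg M₁ M₂ A₁ B₁ A₂ B₂) (p : ℕ) [hp : Fact p.Prime]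
    (hP : pcoreIn p M₂ ≠ ⊥) : IsPGroup p A₂ := by
  by_contra hnp
  have hX0 := opr_ne_bot hnp
  have hXn : NormIn (opr p A₂) M₁ := opr_normIn h.a2.normIn
  have hN := h.n1 _ hXn hX0
  have hP1 : NormIn (pcoreIn p M₁) M₁ := Helper27Rel.pcoreIn_normIn M₁
  have hP2 : NormIn (pcoreIn p M₂) M₂ := Helper27Rel.pcoreIn_normIn M₂
  have hP1p : IsPGroup p (pcoreIn p M₁) := Helper27Rel.pcoreIn_isPGroup M₁
  have hP2p : IsPGroup p (pcoreIn p M₂) := Helper27Rel.pcoreIn_isPGroup M₂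
  have hA2B1 := h.a2.le_right
  have hB1M1 := h.b1.le_right
  have hB1M2 := h.b1.le_left
  -- an element of `M₂` centralising `B₁` modulo a `p`-subgroup of `M₁` lies in `M₁`
  have crit : ∀ (Q : Subgroup G), IsPGroup p Q → Q ≤ M₁ → ∀ c : G,
      (∀ u ∈ A₂, u⁻¹ * (c * u * c⁻¹) ∈ Q) → (∀ u ∈ A₂, u⁻¹ * (c⁻¹ * u * c) ∈ Q) → c ∈ M₁ := by
    intro Q hQ hQM c hc hc'
    apply hN
    have aux : ∀ d : G, (∀ u ∈ A₂, u⁻¹ * (d * u * d⁻¹) ∈ Q) →
        ∀ x ∈ opr p A₂, d * x * d⁻¹ ∈ opr p A₂ := by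
      intro d hd
      apply conj_mem_opr
      intro u hu hco
      have := mul_mem_of_coprime hQ (hQM.trans h.a2.normIn.2) hu (hd u hu) (by
        rw [mul_inv_cancel_left, orderOf_conj']; exact hco)
      rwa [mul_inv_cancel_left] at this
    rw [mem_normalizer_iff]
    intro x
    constructor
    · exact aux c hc x
    · intro hx
      have := aux c⁻¹ (by simpa using hc') _ hx
      simpa [mul_assoc] using this
  -- (1) `O_p(M₂) ≤ M₁`
  have s1 : pcoreIn p M₂ ≤ M₁ := by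
    intro c hc
    have hcM : c ∈ M₂ := hP2.1 hc
    apply crit (pcoreIn p M₂ ⊓ B₁) (hP2p.to_le inf_le_left) (inf_le_right.trans hB1M1) c
    · intro u hu
      have huB := hA2B1 hu
      refine ⟨?_, B₁.mul_mem (B₁.inv_mem huB) (conj_mem_of_normIn h.b1.normIn hcM huB)⟩
      have e : u⁻¹ * (c * u * c⁻¹) = (u⁻¹ * c * u) * c⁻¹ := by group
      rw [e]
      exact (pcoreIn p M₂).mul_mem (conj_mem_of_normIn' hP2 (hB1M2 huB) hc)
        ((pcoreIn p M₂).inv_mem hc)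
    · intro u hu
      have huB := hA2B1 hu
      refine ⟨?_, B₁.mul_mem (B₁.inv_mem huB) (conj_mem_of_normIn' h.b1.normIn hcM huB)⟩
      have e : u⁻¹ * (c⁻¹ * u * c) = (u⁻¹ * c⁻¹ * u) * c := by group
      rw [e]
      exact (pcoreIn p M₂).mul_mem (conj_mem_of_normIn' hP2 (hB1M2 huB)
        ((pcoreIn p M₂).inv_mem hc)) hc
  -- (2) `O_p(M₁) ∩ M₂ ≤ O_p(M₂)`
  have hPB : pcoreIn p M₁ ⊓ B₁ ≤ pcoreIn p M₂ := by
    apply Helper27Rel.sn_le_pcoreIn _ (hP1p.to_le inf_le_left)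
    refine (NormIn.sn ⟨inf_le_right, le_normalizer_of ?_⟩).trans h.b1.normIn.sn
    intro c hc x hx
    exact ⟨conj_mem_of_normIn hP1 (hB1M1 hc) hx.1, B₁.mul_mem (B₁.mul_mem hc hx.2) (B₁.inv_mem hc)⟩
  have s2 : pcoreIn p M₁ ⊓ M₂ ≤ pcoreIn p M₂ := by
    rintro a ⟨haP, haM⟩
    -- the commutators of `a` with `B₁`
    have hw : ∀ a' ∈ pcoreIn p M₁, a' ∈ M₂ → ∀ v ∈ B₁, v⁻¹ * (a' * v * a'⁻¹) ∈ pcoreIn p M₂ := by
      intro a' haP' haM' v hv
      apply hPB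
      refine ⟨?_, B₁.mul_mem (B₁.inv_mem hv) (conj_mem_of_normIn h.b1.normIn haM' hv)⟩
      have e : v⁻¹ * (a' * v * a'⁻¹) = (v⁻¹ * a' * v) * a'⁻¹ := by group
      rw [e]
      exact (pcoreIn p M₁).mul_mem (conj_mem_of_normIn' hP1 (hB1M1 hv) haP')
        ((pcoreIn p M₁).inv_mem haP')
    have haB : a ∈ B₁ := by
      refine (h.b1 a).mpr ⟨haM, fun m hm => ?_⟩
      apply crit (pcoreIn p M₂) hP2p s1
      · intro u hu
        have hv : m⁻¹ * u * m ∈ B₁ := conj_mem_of_normIn' h.b1.normIn hm (hA2B1 hu)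
        have := conj_mem_of_normIn hP2 hm (hw a haP haM _ hv)
        have e : m * ((m⁻¹ * u * m)⁻¹ * (a * (m⁻¹ * u * m) * a⁻¹)) * m⁻¹ =
            u⁻¹ * (m * a * m⁻¹ * u * (m * a * m⁻¹)⁻¹) := by group
        rwa [e] at this
      · intro u hu
        have hv : m⁻¹ * u * m ∈ B₁ := conj_mem_of_normIn' h.b1.normIn hm (hA2B1 hu)
        have := conj_mem_of_normIn hP2 hm (hw a⁻¹ ((pcoreIn p M₁).inv_mem haP) (M₂.inv_mem haM) _ hv)
        have e : m * ((m⁻¹ * u * m)⁻¹ * (a⁻¹ * (m⁻¹ * u * m) * a⁻¹⁻¹)) * m⁻¹ =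
            u⁻¹ * ((m * a * m⁻¹)⁻¹ * u * (m * a * m⁻¹)) := by group
        rwa [e] at this
    exact hPB ⟨haP, haB⟩
  -- (3) normalisers grow
  have hsup : IsPGroup p (pcoreIn p M₂ ⊔ pcoreIn p M₁ : Subgroup G) :=
    hP2p.to_sup_of_normal_right' hP1p (s1.trans hP1.2)
  have hle : pcoreIn p M₁ ≤ pcoreIn p M₂ := by
    by_contra hnle
    have hlt : pcoreIn p M₂ < pcoreIn p M₂ ⊔ pcoreIn p M₁ := by
      refine lt_of_le_of_ne le_sup_left ?_
      intro he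
      apply hnle
      rw [he]
      exact le_sup_right
    obtain ⟨x, hx, hxn, hxP⟩ := lt_inf_normalizer hsup hlt
    have hxM2 : x ∈ M₂ := h.n2 _ hP2 hP hxn
    have hxM1 : x ∈ M₁ := (sup_le s1 hP1.1) hx
    -- write `x = b * a`
    have hmem : ∀ y ∈ (pcoreIn p M₂ ⊔ pcoreIn p M₁ : Subgroup G),
        ∃ b ∈ pcoreIn p M₂, ∃ a ∈ pcoreIn p M₁, y = b * a := by
      intro y hy
      have hn : ((pcoreIn p M₁).subgroupOf M₁).Normal :=
        (Helper28Comp.normIn_iff_subgroupOf hP1.1).mp hP1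
      have hy' : (⟨y, (sup_le s1 hP1.1) hy⟩ : M₁) ∈
          (pcoreIn p M₂).subgroupOf M₁ ⊔ (pcoreIn p M₁).subgroupOf M₁ := by
        rw [← subgroupOf_sup s1 hP1.1]
        exact hy
      obtain ⟨b, hb, a, ha, hba⟩ := mem_sup_of_normal_right.mp hy'
      exact ⟨b, hb, a, ha, (congrArg Subtype.val hba).symm⟩
    obtain ⟨b, hb, a, ha, rfl⟩ := hmem x hx
    apply hxP
    have haM2 : a ∈ M₂ := by
      have := M₂.mul_mem (M₂.inv_mem (hP2.1 hb)) hxM2
      simpa using this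
    exact (pcoreIn p M₂).mul_mem hb (s2 ⟨ha, haM2⟩)
  have heq : pcoreIn p M₁ = pcoreIn p M₂ := eq_of_le_of_card_ge hle (h.cardP p hp.out).symm.le
  exact hP (h.both _ (heq ▸ hP1) hP2)

theorem Cfg.pcore_ne_bot_iff [Finite G] (h : Cfg M₁ M₂ A₁ B₁ A₂ B₂) (p : ℕ) (hp : p.Prime) :
    pcoreIn p M₁ ≠ ⊥ ↔ pcoreIn p M₂ ≠ ⊥ := by
  rw [Ne, Ne, ← Subgroup.card_eq_one, ← Subgroup.card_eq_one, h.cardP p hp]

/-- `F*(M₁)` is a `p`-group as soon as `E(M₁) = 1` and `O_q(M₁) = 1` for all primes `q ≠ p` -/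
theorem CP_of_pcore [Finite G] {p : ℕ} [hp : Fact p.Prime] {M : Subgroup G} (hE : layerIn M = ⊥)
    (hq : ∀ q : ℕ, q.Prime → q ≠ p → pcoreIn q M = ⊥) : CP p M := by
  rw [Helper27CP.CP_iff_isPGroup, Helper27Rel.isPGroup_map_iff M.subtype_injective,
    Helper28Layer.map_gfit]
  unfold gfitIn
  rw [hE, bot_sup_eq, Helper27Bender.fittingIn_eq_iSup]
  apply (Helper27Rel.pcoreIn_isPGroup (p := p) M).to_le
  apply iSup_le
  intro q
  by_cases hqp : (q : ℕ) = p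
  · rw [hqp]
  · rw [hq q q.2 hqp]
    exact bot_le

/-- **Thompson-Wielandt**. -/
theorem Cfg.main [Finite G] (h : Cfg M₁ M₂ A₁ B₁ A₂ B₂) (hA2 : A₂ ≠ ⊥) (hB2 : B₂ ≠ ⊥) :
    ∃ p : ℕ, p.Prime ∧ IsPGroup p A₂ ∧ IsPGroup p B₂ ∧ CP p M₁ ∧ CP p M₂ := by
  have hE1 := h.layer_eq_bot hA2 hB2
  have hE2 := h.symm.layer_eq_bot hB2 hA2
  have hF : fittingIn M₁ ≠ ⊥ := by
    intro hF
    have h1 := Helper28Layer.inf_centralizer_gfitIn_le M₁
    have h2 : gfitIn M₁ = ⊥ := by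
      unfold gfitIn
      rw [hE1, hF, bot_sup_eq]
    rw [h2, hF] at h1
    apply hA2
    rw [eq_bot_iff]
    intro x hx
    apply h1
    refine ⟨h.a2.le_left hx, ?_⟩
    show x ∈ centralizer ((⊥ : Subgroup G) : Set G)
    rw [mem_centralizer_iff]
    intro y hy
    have : y = 1 := hy
    rw [this, one_mul, mul_one]
  obtain ⟨p, hp⟩ : ∃ p : Nat.Primes, pcoreIn (p : ℕ) M₁ ≠ ⊥ := by
    by_contra hcon
    push Not at hcon
    apply hF
    rw [Helper27Bender.fittingIn_eq_iSup]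
    exact iSup_eq_bot.mpr hcon
  have : Fact (p : ℕ).Prime := ⟨p.2⟩
  have hA := h.isPGroup_a2 p ((h.pcore_ne_bot_iff p p.2).mp hp)
  have hB := h.symm.isPGroup_a2 p hp
  have hq1 : ∀ q : ℕ, q.Prime → q ≠ p → pcoreIn q M₁ = ⊥ := by
    intro q hq hqp
    by_contra hne
    have : Fact q.Prime := ⟨hq⟩
    exact hA2 (Helper27Bender.eq_bot_of_isPGroup_of_isPGroup hqp
      (h.isPGroup_a2 q ((h.pcore_ne_bot_iff q hq).mp hne)) hA)
  have hq2 : ∀ q : ℕ, q.Prime → q ≠ p → pcoreIn q M₂ = ⊥ := by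
    intro q hq hqp
    by_contra hne
    exact (h.pcore_ne_bot_iff q hq).mpr hne (hq1 q hq hqp)
  exact ⟨p, p.2, hA, hB, CP_of_pcore hE1 hq1, CP_of_pcore hE2 hq2⟩

/-! ### conjugate core-free maximal subgroups give a configuration -/

theorem normalizer_le_of_coatom {M X : Subgroup G} (hmax : IsCoatom M) (hcore : M.normalCore = ⊥)
    (hX : NormIn X M) (h0 : X ≠ ⊥) : normalizer (X : Set G) ≤ M := by
  rcases hmax.le_iff.mp hX.2 with h | h
  · exfalso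
    apply h0
    have hn : X.Normal := normalizer_eq_top_iff.mp h
    have := normal_le_normalCore.mpr hX.1
    rwa [hcore, le_bot_iff] at this
  · exact h.le

theorem isCoatom_map_conj {M : Subgroup G} (hmax : IsCoatom M) (g : G) :
    IsCoatom (M.map (MulAut.conj g).toMonoidHom) :=
  ((MulAut.conj g).mapSubgroup.isCoatom_iff M).mpr hmax

theorem normalCore_map_conj {M : Subgroup G} (hcore : M.normalCore = ⊥) (g : G) :
    (M.map (MulAut.conj g).toMonoidHom).normalCore = ⊥ := by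
  rw [eq_bot_iff, ← hcore]
  intro x hx b
  obtain ⟨y, hy, hxy⟩ := hx (g * b)
  have e : y = b * x * b⁻¹ := by
    have h1 : g * y * g⁻¹ = g * b * x * (g * b)⁻¹ := hxy
    have h2 : y = g⁻¹ * (g * y * g⁻¹) * g := by group
    rw [h2, h1]
    group
  rw [← e]
  exact hy

theorem cfg_of [Finite G] {M₁ M₂ : Subgroup G} (hmax : IsCoatom M₁) (g : G)
    (hconj : M₂ = M₁.map (MulAut.conj g).toMonoidHom) (hne : M₁ ≠ M₂)
    (hcore : M₁.normalCore = ⊥) :
    Cfg M₁ M₂ (cor M₁ (M₁ ⊓ M₂)) (cor M₂ (M₁ ⊓ M₂))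
      (cor M₁ (cor M₁ (M₁ ⊓ M₂) ⊓ cor M₂ (M₁ ⊓ M₂)))
      (cor M₂ (cor M₁ (M₁ ⊓ M₂) ⊓ cor M₂ (M₁ ⊓ M₂))) := by
  have hmax2 : IsCoatom M₂ := hconj ▸ isCoatom_map_conj hmax g
  have hcore2 : M₂.normalCore = ⊥ := hconj ▸ normalCore_map_conj hcore g
  have hinj : Function.Injective (MulAut.conj g).toMonoidHom := (MulAut.conj g).injective
  have ha1 : IsCor M₁ M₂ (cor M₁ (M₁ ⊓ M₂)) := by
    intro x
    rw [mem_cor]
    constructor
    · rintro ⟨h1, h2⟩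
      exact ⟨h1, fun m hm => (h2 m hm).2⟩
    · rintro ⟨h1, h2⟩
      exact ⟨h1, fun m hm => ⟨M₁.mul_mem (M₁.mul_mem hm h1) (M₁.inv_mem hm), h2 m hm⟩⟩
  have hb1 : IsCor M₂ M₁ (cor M₂ (M₁ ⊓ M₂)) := by
    intro x
    rw [mem_cor]
    constructor
    · rintro ⟨h1, h2⟩
      exact ⟨h1, fun m hm => (h2 m hm).1⟩
    · rintro ⟨h1, h2⟩
      exact ⟨h1, fun m hm => ⟨h2 m hm, M₂.mul_mem (M₂.mul_mem hm h1) (M₂.inv_mem hm)⟩⟩
  refine ⟨fun X hX h0 => normalizer_le_of_coatom hmax hcore hX h0,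
    fun X hX h0 => normalizer_le_of_coatom hmax2 hcore2 hX h0, ?_, ?_, ?_, ha1, hb1, ?_, ?_⟩
  · intro X h1 h2
    by_contra h0
    have h3 := normalizer_le_of_coatom hmax hcore h1 h0
    have h4 : M₂ ≤ M₁ := h2.2.trans h3
    rcases hmax2.le_iff.mp h4 with h | h
    · exact hmax.1 h
    · exact hne h
  · intro p hp
    have : Fact p.Prime := ⟨hp⟩
    rw [hconj, ← Helper27Rel.pcoreIn_map hinj, card_map_of_injective hinj]
  · rw [hconj, ← Helper28Layer.layerIn_map hinj, card_map_of_injective hinj]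
  · intro x
    rw [mem_cor]
    constructor
    · rintro ⟨h1, h2⟩
      exact ⟨h1, fun m hm => (h2 m hm).2⟩
    · rintro ⟨h1, h2⟩
      refine ⟨h1, fun m hm => ⟨?_, h2 m hm⟩⟩
      refine (ha1 _).mpr ⟨M₁.mul_mem (M₁.mul_mem hm h1) (M₁.inv_mem hm), fun m' hm' => ?_⟩
      have := hb1.le_left (h2 (m' * m) (M₁.mul_mem hm' hm))
      simpa [mul_assoc] using this
  · intro x
    rw [mem_cor]
    constructor
    · rintro ⟨h1, h2⟩
      exact ⟨h1, fun m hm => (h2 m hm).1⟩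
    · rintro ⟨h1, h2⟩
      refine ⟨h1, fun m hm => ⟨h2 m hm, ?_⟩⟩
      refine (hb1 _).mpr ⟨M₂.mul_mem (M₂.mul_mem hm h1) (M₂.inv_mem hm), fun m' hm' => ?_⟩
      have := ha1.le_left (h2 (m' * m) (M₂.mul_mem hm' hm))
      simpa [mul_assoc] using this

end Cfsg.Agent.Lib.Helper60TW
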