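import Cfsg.Agent.Lib.Helper61Zass
import Cfsg.Prelude.Def_LieExceptional

set_option autoImplicit false
set_option linter.unusedVariables false
set_option linter.unusedSectionVars false
set_option linter.unusedSimpArgs false

/-! General counting facts about Zassenhaus-type groups (2-transitive, three-point stabilisers trivial). -/

namespace Cfsg.Agent.Lib.Helper61Feit

open Cfsg.Agent.Lib.Helper61Zass

/-- abstract data: 2-transitive on `h + 1` points, only the identity fixes three points -/
structure TData (G : Type*) [Group G] (O : Type*) [MulAction G O] (h : ℕ) : Prop where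
  card_O : Nat.card O = h + 1
  two_trans : MulAction.IsMultiplyPretransitive G O 2
  three_point : ∀ (g : G) (a b c : O), a ≠ b → b ≠ c → a ≠ c → g • a = a → g • b = b →
    g • c = c → g = 1

variable {G : Type*} [Group G] [Finite G] {O : Type*} [Finite O] [MulAction G O] {h : ℕ}

theorem tdata_of_zass {G : Type*} [Group G] {O : Type*} [MulAction G O] {h : ℕ}
    (hZ : Cfsg.IsZassenhausGroup G O) (hh : Nat.card O = h + 1) :
    TData G O h := ⟨hh, hZ.2.1, hZ.2.2.1⟩

/-- the two point stabiliser -/
abbrev stab2 (G : Type*) [Group G] {O : Type*} [MulAction G O] (a b : O) : Subgroup G :=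
  MulAction.stabilizer G a ⊓ MulAction.stabilizer G b

theorem mem_stab2 {a b : O} {g : G} : g ∈ stab2 G a b ↔ g • a = a ∧ g • b = b := by
  rw [Subgroup.mem_inf, MulAction.mem_stabilizer_iff, MulAction.mem_stabilizer_iff]

theorem nonempty_O (D : TData G O h) : Nonempty O := by
  have h := D.card_O
  by_contra hne
  rw [not_nonempty_iff] at hne
  rw [Nat.card_of_isEmpty] at h
  omega

theorem trans (D : TData G O h) : MulAction.IsPretransitive G O := by
  have := D.two_trans
  exact MulAction.isPretransitive_of_is_two_pretransitive

theorem exists_smul_pair (D : TData G O h) {a b c d : O} (hab : a ≠ b) (hcd : c ≠ d) :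
    ∃ g : G, g • a = c ∧ g • b = d := by
  have := D.two_trans
  obtain ⟨g, hg⟩ := MulAction.exists_smul_eq G (Function.Embedding.embFinTwo hab)
    (Function.Embedding.embFinTwo hcd)
  refine ⟨g, ?_, ?_⟩
  · have := DFunLike.congr_fun hg 0
    rwa [Function.Embedding.smul_apply, Function.Embedding.embFinTwo_apply_zero,
      Function.Embedding.embFinTwo_apply_zero] at this
  · have := DFunLike.congr_fun hg 1
    rwa [Function.Embedding.smul_apply, Function.Embedding.embFinTwo_apply_one,
      Function.Embedding.embFinTwo_apply_one] at this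

/-- order formula -/
theorem card_G (D : TData G O h) {a b : O} (hab : a ≠ b) :
    Nat.card G = (h + 1) * h * Nat.card (stab2 G a b) := by
  classical
  have : Fintype O := Fintype.ofFinite O
  have h2t := D.two_trans
  have h1 := MulAction.index_stabilizer_of_transitive G (Function.Embedding.embFinTwo hab)
  have h2 := (MulAction.stabilizer G (Function.Embedding.embFinTwo hab)).card_mul_index
  have h3 : MulAction.stabilizer G (Function.Embedding.embFinTwo hab) = stab2 G a b := by
    ext g
    rw [MulAction.mem_stabilizer_iff, Subgroup.mem_inf, MulAction.mem_stabilizer_iff,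
      MulAction.mem_stabilizer_iff]
    constructor
    · intro h
      constructor
      · have := DFunLike.congr_fun h 0
        rwa [Function.Embedding.smul_apply, Function.Embedding.embFinTwo_apply_zero] at this
      · have := DFunLike.congr_fun h 1
        rwa [Function.Embedding.smul_apply, Function.Embedding.embFinTwo_apply_one] at this
    · rintro ⟨h, h'⟩
      ext i
      rw [Function.Embedding.smul_apply]
      fin_cases i
      · show g • (Function.Embedding.embFinTwo hab) 0 = (Function.Embedding.embFinTwo hab) 0
        rw [Function.Embedding.embFinTwo_apply_zero]; exact h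
      · show g • (Function.Embedding.embFinTwo hab) 1 = (Function.Embedding.embFinTwo hab) 1
        rw [Function.Embedding.embFinTwo_apply_one]; exact h'
  have h4 : Nat.card (Fin 2 ↪ O) = (h + 1) * h := by
    rw [Nat.card_eq_fintype_card, Fintype.card_embedding_eq, Fintype.card_fin,
      ← Nat.card_eq_fintype_card, D.card_O]
    simp [Nat.descFactorial]
    ring
  rw [h1, h3, h4] at h2
  rw [← h2]; ring

theorem card_stab (D : TData G O h) {a b : O} (hab : a ≠ b) :
    Nat.card (MulAction.stabilizer G a) = h * Nat.card (stab2 G a b) := by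
  have h1t := trans D
  have h1 := MulAction.index_stabilizer_of_transitive G a
  have h2 := (MulAction.stabilizer G a).card_mul_index
  rw [h1, D.card_O, card_G D hab] at h2
  have h3 : 0 < h + 1 := by positivity
  apply Nat.eq_of_mul_eq_mul_right h3
  rw [h2]; ring

theorem card_fixedBy_le (D : TData G O h) {g : G} (hg : g ≠ 1) :
    Nat.card (MulAction.fixedBy O g) ≤ 2 := by
  classical
  have : Fintype O := Fintype.ofFinite O
  by_contra h
  rw [not_le, Nat.card_eq_fintype_card, Fintype.two_lt_card_iff] at h
  obtain ⟨a, b, c, hab, hac, hbc⟩ := h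
  exact hg (D.three_point g a b c (fun h => hab (Subtype.ext h)) (fun h => hbc (Subtype.ext h))
    (fun h => hac (Subtype.ext h)) a.2 b.2 c.2)

/-- the number of fixed-point-free elements -/
theorem two_mul_card_fpf (D : TData G O h) (h1 : 1 ≤ h) :
    2 * Nat.card {g : G // Fpf O g} + h * (h - 1) = Nat.card G := by
  classical
  have : Fintype O := Fintype.ofFinite O
  have : Fintype G := Fintype.ofFinite G
  have hne : Nonempty O := nonempty_O D
  have h2t := D.two_trans
  have h1t : MulAction.IsPretransitive G O := MulAction.isPretransitive_of_is_two_pretransitive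
  have hne2 : Nonempty (Fin 2 ↪ O) := by
    rw [Function.Embedding.nonempty_iff_card_le, Fintype.card_fin, ← Nat.card_eq_fintype_card,
      D.card_O]
    omega
  have S1 : ∑ g : G, Nat.card (MulAction.fixedBy O g) = Nat.card G := by
    have := burnside_one (G := G) (O := O)
    simpa [Nat.card_eq_fintype_card] using this
  have S2 : ∑ g : G, Nat.card (MulAction.fixedBy O g) * (Nat.card (MulAction.fixedBy O g) - 1)
      = Nat.card G := by
    have := burnside_one (G := G) (O := Fin 2 ↪ O)
    rw [← Nat.card_eq_fintype_card] at this
    rw [← this]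
    apply Finset.sum_congr rfl
    intro g _
    rw [← card_fixedBy_emb, Nat.card_eq_fintype_card]
  have key : ∀ g : G, Nat.card (MulAction.fixedBy O g) * (Nat.card (MulAction.fixedBy O g) - 1) + 2
      = 2 * Nat.card (MulAction.fixedBy O g) + ((if g = 1 then h * (h - 1) else 0)
        + (if Fpf O g then 2 else 0)) := by
    intro g
    by_cases hg : g = 1
    · subst hg
      have h1' : ¬ Fpf O (1 : G) := by
        intro h
        obtain ⟨a⟩ := hne
        exact h a (one_smul _ _)
      have h3 : Nat.card (MulAction.fixedBy O (1 : G)) = h + 1 := by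
        rw [← D.card_O]
        rw [MulAction.fixedBy_one_eq_univ]
        exact Nat.card_congr (Equiv.Set.univ O)
      rw [if_pos rfl, if_neg h1', h3]
      obtain ⟨r, rfl⟩ : ∃ r, h = r + 1 := ⟨h - 1, by omega⟩
      simp only [Nat.add_sub_cancel]
      ring
    · rw [if_neg hg]
      by_cases hf : Fpf O g
      · rw [if_pos hf, (card_fixedBy_eq_zero_iff g).2 hf]
      · rw [if_neg hf]
        have h1 := card_fixedBy_le D hg
        have h3 : Nat.card (MulAction.fixedBy O g) ≠ 0 := fun h =>
          hf ((card_fixedBy_eq_zero_iff g).1 h)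
        have h4 : Nat.card (MulAction.fixedBy O g) = 1 ∨ Nat.card (MulAction.fixedBy O g) = 2 := by
          omega
        rcases h4 with h4 | h4 <;> rw [h4]
  have hsum := Finset.sum_congr (rfl : (Finset.univ : Finset G) = Finset.univ) (fun g _ => key g)
  rw [Finset.sum_add_distrib, Finset.sum_add_distrib, Finset.sum_add_distrib, S2,
    ← Finset.mul_sum, S1, Finset.sum_ite_eq' Finset.univ (1 : G), if_pos (Finset.mem_univ _)] at hsum
  have h5 : ∑ g : G, (if Fpf O g then 2 else 0) = 2 * Nat.card {g : G // Fpf O g} := by
    rw [Nat.card_eq_fintype_card, Fintype.card_subtype, Finset.sum_ite, Finset.sum_const,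
      Finset.sum_const_zero, smul_eq_mul, add_zero, mul_comm]
  rw [h5] at hsum
  simp only [Finset.sum_const, Finset.card_univ, smul_eq_mul] at hsum
  rw [← Nat.card_eq_fintype_card] at hsum
  omega

/-- conjugating two point stabilisers -/
theorem stab2_conj {a b : O} (g x : G) :
    g * x * g⁻¹ ∈ stab2 G (g • a) (g • b) ↔ x ∈ stab2 G a b := by
  rw [mem_stab2, mem_stab2]
  constructor
  · rintro ⟨h1, h2⟩
    constructor
    · have : g • (x • a) = g • a := by
        rw [← h1]; simp [mul_smul]
      exact smul_left_cancel g this
    · have : g • (x • b) = g • b := by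
        rw [← h2]; simp [mul_smul]
      exact smul_left_cancel g this
  · rintro ⟨h1, h2⟩
    constructor
    · simp [mul_smul, h1]
    · simp [mul_smul, h2]

theorem card_stab2_eq (D : TData G O h) {a b c d : O} (hab : a ≠ b) (hcd : c ≠ d) :
    Nat.card (stab2 G a b) = Nat.card (stab2 G c d) := by
  have h1 := card_G D hab
  have h2 := card_G D hcd
  have hh : 0 < h := by
    by_contra h0
    have h0' : h = 0 := by omega
    have hc := D.card_O
    rw [h0'] at hc
    have := (Nat.card_eq_one_iff_unique.1 hc).1
    exact hab (Subsingleton.elim _ _)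
  rw [h1] at h2
  exact Nat.eq_of_mul_eq_mul_left (by positivity) h2

/-- in a Zassenhaus group the two point stabiliser is non-trivial -/
theorem two_le_card_stab2 (hZ : Cfsg.IsZassenhausGroup G O) (hh : Nat.card O = h + 1)
    {a b : O} (hab : a ≠ b) : 2 ≤ Nat.card (stab2 G a b) := by
  obtain ⟨g, hg, c, d, hcd, h1, h2⟩ := hZ.2.2.2.1
  rw [card_stab2_eq (tdata_of_zass hZ hh) hab hcd]
  have : Nontrivial (stab2 G c d) :=
    ⟨⟨⟨g, mem_stab2.2 ⟨h1, h2⟩⟩, 1, fun h => hg (congrArg Subtype.val h)⟩⟩
  exact Finite.one_lt_card

end Cfsg.Agent.Lib.Helper61Feit
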