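import Cfsg.Agent.Lib.Helper61Feit9
import Mathlib

set_option autoImplicit false

/-! A T.I. subgroup `K` with Frobenius normaliser and a coherent set of characters: degrees of the
exceptional characters. -/

namespace Cfsg.Agent.Lib.Helper61Feit10

open Cfsg Cfsg.Agent.Lib.Helper4Char Cfsg.Agent.Lib.Helper4Char2 Cfsg.Agent.Lib.Helper4Char4
  Cfsg.Agent.Lib.Helper61Feit7 Cfsg.Agent.Lib.Helper61Feit8 Cfsg.Agent.Lib.Helper61Feit9
open scoped ComplexConjugate Classical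

variable {G : Type*} [Group G] [Fintype G] (K : Subgroup G)
  [Fintype ↥(Subgroup.normalizer (K : Set G))]
  (hTI : ∀ g : G, g ∉ Subgroup.normalizer (K : Set G) → ∀ k ∈ K, g * k * g⁻¹ ∈ K → k = 1)
  (hC : ∀ k ∈ K, k ≠ 1 → Subgroup.centralizer ({k} : Set G) ≤ K)
  (hlt : K < Subgroup.normalizer (K : Set G))
  (star : (↥(Subgroup.normalizer (K : Set G)) → ℂ) → (G → ℂ))
  (hstar : IsLinearIsometryOn (zspan (relS K)) star)
  (hext : ∀ α ∈ zspanOn (relS K) ({1}ᶜ : Set ↥(Subgroup.normalizer (K : Set G))),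
    star α = indFun (Subgroup.normalizer (K : Set G)) α)

include hTI hC hlt hstar hext in
theorem star_one_prop {χ ξ : IrrCharacter ↥(Subgroup.normalizer (K : Set G))}
    (hχ : χ ∈ SF (KN K)) (hξ : ξ ∈ SF (KN K)) :
    (ξ : ↥(Subgroup.normalizer (K : Set G)) → ℂ) 1 * star χ 1
      = (χ : ↥(Subgroup.normalizer (K : Set G)) → ℂ) 1 * star ξ 1 := by
  have h := Cfsg.Agent.Lib.Helper19TIFN2.prop K _ hC (relS K) rfl star hstar hext
    (Cfsg.Agent.S0850.result K hTI hlt hC).2 ((mem_SF_iff K χ).1 hχ) ((mem_SF_iff K ξ).1 hξ) 1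
  simp only [OneMemClass.coe_one] at h
  linear_combination h

variable (φ : IrrCharacter ↥(Subgroup.normalizer (K : Set G)) → IrrCharacter G)
  (hφ : ∀ χ, χ ∈ SF (KN K) → ∃ s : ℂ, (s = 1 ∨ s = -1) ∧ star χ = s • (φ χ : G → ℂ))

include hTI hC hlt hstar hext hφ in
/-- the sum of the squares of the degrees of the exceptional characters -/
theorem sum_exc_sq {ξ : IrrCharacter ↥(Subgroup.normalizer (K : Set G))} (hξ : ξ ∈ SF (KN K))
    (hξ1 : (ξ : ↥(Subgroup.normalizer (K : Set G)) → ℂ) 1 = ((KN K).index : ℂ)) :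
    ((KN K).index : ℂ) * ∑ ψ ∈ (SF (KN K)).image φ, (ψ : G → ℂ) 1 ^ 2
      = (φ ξ : G → ℂ) 1 ^ 2 * ((Nat.card K : ℂ) - 1) := by
  rw [Finset.sum_image (phi_injOn K star hstar φ hφ)]
  have h4 : ((KN K).index : ℂ) ≠ 0 := Nat.cast_ne_zero.2 Subgroup.index_ne_zero_of_finite
  have h1 : ∀ χ ∈ SF (KN K), (φ χ : G → ℂ) 1 ^ 2
      = (φ ξ : G → ℂ) 1 ^ 2 / ((KN K).index : ℂ) ^ 2
        * (χ : ↥(Subgroup.normalizer (K : Set G)) → ℂ) 1 ^ 2 := by
    intro χ hχ
    have h2 := star_one_prop K hTI hC hlt star hstar hext hχ hξ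
    obtain ⟨s, hs, e1⟩ := hφ χ hχ
    obtain ⟨s', hs', e2⟩ := hφ ξ hξ
    rw [e1, e2, hξ1, Pi.smul_apply, Pi.smul_apply, smul_eq_mul, smul_eq_mul] at h2
    have hs2 : s ^ 2 = 1 := by rcases hs with rfl | rfl <;> norm_num
    have hs2' : s' ^ 2 = 1 := by rcases hs' with rfl | rfl <;> norm_num
    field_simp
    have h3 := congrArg (fun z => z ^ 2) h2
    calc (φ χ : G → ℂ) 1 ^ 2 * ((KN K).index : ℂ) ^ 2
        = s ^ 2 * ((φ χ : G → ℂ) 1 ^ 2 * ((KN K).index : ℂ) ^ 2) := by rw [hs2, one_mul]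
      _ = (((KN K).index : ℂ) * (s * (φ χ : G → ℂ) 1)) ^ 2 := by ring
      _ = ((χ : ↥(Subgroup.normalizer (K : Set G)) → ℂ) 1 * (s' * (φ ξ : G → ℂ) 1)) ^ 2 := h3
      _ = s' ^ 2 * ((φ ξ : G → ℂ) 1 ^ 2 * (χ : ↥(Subgroup.normalizer (K : Set G)) → ℂ) 1 ^ 2) := by
        ring
      _ = _ := by rw [hs2', one_mul]
  rw [Finset.sum_congr rfl h1, ← Finset.mul_sum, sum_SF_sq]
  have h3 : (Nat.card ↥(Subgroup.normalizer (K : Set G)) : ℂ)
      = (Nat.card K : ℂ) * ((KN K).index : ℂ) := by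
    rw [← (KN K).card_mul_index, card_KN]; push_cast; ring
  rw [h3]
  field_simp

theorem arith1 (H e t x a τ r : ℕ) (h1 : x + (r + (1 + τ * (H + 2) ^ 2)) = (H + 2) * (H + 1) * e)
    (h2 : a * H ^ 2 ≤ r) (h3 : e ≤ a + τ) (h4 : e ≤ 2 * τ + 1) (h5 : e * x = t ^ 2 * H)
    (h6 : 2 * e < H) : t ≤ e := by
  by_contra hcon
  have ht : e + 1 ≤ t := by omega
  have ht2 : (e + 1) ^ 2 ≤ t ^ 2 := Nat.pow_le_pow_left ht 2
  have k0 : (e + 1) ^ 2 * H ≤ e * x := by rw [h5]; exact Nat.mul_le_mul_right _ ht2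
  have k2 : e * H ^ 2 ≤ (a + τ) * H ^ 2 := Nat.mul_le_mul_right _ h3
  have k3 : e * (2 * H + 2) ≤ (2 * τ + 1) * (2 * H + 2) := Nat.mul_le_mul_right _ h4
  have k4 : x + e * H ^ 2 + e * (2 * H + 2) + 1 ≤ (H + 2) * (H + 1) * e + (2 * H + 2) := by
    nlinarith
  have k5 : x ≤ e * H + 2 * H + 1 := by nlinarith
  have k6 : e * x ≤ e * (e * H + 2 * H + 1) := Nat.mul_le_mul_left _ k5
  nlinarith

variable (htwo : ∃ χ ∈ relS K, ∃ ξ ∈ relS K, χ ≠ ξ)
  (hab : ∀ x y : ↥(Subgroup.normalizer (K : Set G)), x * y * x⁻¹ * y⁻¹ ∈ KN K)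
  (hX : ∀ μ : ↥(Subgroup.normalizer (K : Set G)) → ℂ,
    IsIrrCharacter ↥(Subgroup.normalizer (K : Set G)) μ → μ 1 = 1 →
    (∀ u : ↥(Subgroup.normalizer (K : Set G)), (u : G) ∈ K → μ u = 1) → μ ≠ (fun _ => 1) →
    IsIrrCharacter G (indFun (Subgroup.normalizer (K : Set G)) μ) ∧
      ∀ u ∈ K, u ≠ 1 → indFun (Subgroup.normalizer (K : Set G)) μ u = 1)

include hTI hC hlt hstar hext hφ htwo hab hX in
/-- the degree of the exceptional character belonging to a character of degree `e` is at most `e` -/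
theorem deg_le [IsSimpleGroup G] (H e : ℕ) (hh : Nat.card K = H + 1) (he : (KN K).index = e)
    (hG : Nat.card G = (H + 2) * (H + 1) * e)
    (hn₀ : e ≤ Nat.card {C : ConjClasses G // ∀ g : G, ConjClasses.mk g = C → g ∉ K})
    (h2e : 2 * e < H)
    {ξ : IrrCharacter ↥(Subgroup.normalizer (K : Set G))} (hξ : ξ ∈ SF (KN K))
    (hξ1 : (ξ : ↥(Subgroup.normalizer (K : Set G)) → ℂ) 1 = ((KN K).index : ℂ))
    (t : ℕ) (ht : (φ ξ : G → ℂ) 1 = t) : t ≤ e := by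
  choose deg hdeg0 hdeg using fun ψ : IrrCharacter G => IsIrrCharacter.exists_degree ψ.2
  have hsum : ∑ ψ : IrrCharacter G, deg ψ ^ 2 = Nat.card G := by
    have := sum_degree_sq (G := G)
    rw [Finset.sum_congr rfl (fun ψ _ => by rw [hdeg ψ])] at this
    exact_mod_cast this
  have hidx : (Subgroup.normalizer (K : Set G)).index = Nat.card K + 1 := by
    have h1 := (Subgroup.normalizer (K : Set G)).card_mul_index
    have h2 := (KN K).card_mul_index
    rw [card_KN, hh, he] at h2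
    rw [← h2, hG] at h1
    have h3 : 0 < (H + 1) * e := by
      rcases Nat.eq_zero_or_pos e with h0 | h0
      · exfalso
        rw [h0] at he
        exact Subgroup.index_ne_zero_of_finite he
      · positivity
    rw [hh]
    apply Nat.eq_of_mul_eq_mul_left h3
    rw [h1]; ring
  obtain ⟨u₀, hu₀, hu₀1⟩ : ∃ u₀ ∈ K, u₀ ≠ 1 := by
    by_contra hcon
    push Not at hcon
    have : K = ⊥ := (Subgroup.eq_bot_iff_forall _).2 hcon
    rw [this, Subgroup.card_bot] at hh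
    omega
  set I := (SF (KN K)).image φ with hI
  set T := (M K).image (X K) with hT
  set o : IrrCharacter G := ⟨fun _ => 1, Cfsg.Agent.Lib.Helper83Char.isIrr_one⟩ with ho
  have f1 : o ∉ I := by
    intro h
    obtain ⟨a, -, b, -, -, -, hne⟩ := nonconst_of_mem K hTI hC hlt star hstar hext htwo φ hφ h
    exact hne rfl
  have f2 : ∀ ψ ∈ T, ψ ∉ I := by
    intro ψ hψ h
    obtain ⟨μ, hμ, rfl⟩ := Finset.mem_image.1 hψ
    obtain ⟨a, ha, b, hb, ha1, hb1, hne⟩ := nonconst_of_mem K hTI hC hlt star hstar hext htwo φ hφ h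
    apply hne
    rw [(X_spec K hab hX hμ).2 a ha ha1, (X_spec K hab hX hμ).2 b hb hb1]
  have f4 : ∀ ψ ∈ T, deg ψ = H + 2 := by
    intro ψ hψ
    obtain ⟨μ, hμ, rfl⟩ := Finset.mem_image.1 hψ
    have h1 := X_one K hab hX hμ
    rw [hdeg, hidx, hh] at h1
    exact_mod_cast h1
  have f3 : o ∉ T := by
    intro h
    have h1 := f4 o h
    have h2 := hdeg o
    rw [h1] at h2
    have h3 : ((1 : ℕ) : ℂ) = ((H + 2 : ℕ) : ℂ) := by
      rw [← h2]; simp [ho]
    have h4 : 1 = H + 2 := by exact_mod_cast h3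
    omega
  have f5 : ∀ ψ, ψ ∉ I → ψ ≠ o → H ≤ deg ψ := by
    intro ψ hψ hψo
    obtain ⟨a, f, ha, h1⟩ := degree_of_const K hC ψ
      (const_of_not_mem K hTI hC hlt star hstar hext htwo φ hφ hψ)
      (fun h => hψo (Subtype.ext h)) hu₀ hu₀1 hξ hξ1
    rw [hdeg, hh] at h1
    have h2 : deg ψ = a * (H + 1 - 1) + f := by exact_mod_cast h1
    rw [h2, Nat.add_sub_cancel]
    nlinarith
  have f6 : I.card = (SF (KN K)).card := Finset.card_image_of_injOn (phi_injOn K star hstar φ hφ)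
  have f7 := card_irr_ge K hTI hC
  have hB : insert o T ⊆ Iᶜ := by
    intro ψ hψ
    rw [Finset.mem_compl]
    rcases Finset.mem_insert.1 hψ with rfl | h
    · exact f1
    · exact f2 ψ h
  have e0 : ∑ ψ ∈ I, deg ψ ^ 2 + ∑ ψ ∈ Iᶜ, deg ψ ^ 2 = Nat.card G := by
    rw [Finset.sum_add_sum_compl, hsum]
  have e1 := Finset.sum_sdiff (f := fun ψ => deg ψ ^ 2) hB
  have e2 : ∑ ψ ∈ insert o T, deg ψ ^ 2 = 1 + T.card * (H + 2) ^ 2 := by
    rw [Finset.sum_insert f3, Finset.sum_congr rfl (fun ψ hψ => by rw [f4 ψ hψ]), Finset.sum_const,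
      smul_eq_mul]
    congr 1
    have h2 := hdeg o
    have h3 : ((deg o : ℕ) : ℂ) = ((1 : ℕ) : ℂ) := by rw [← h2]; simp [ho]
    have h4 : deg o = 1 := by exact_mod_cast h3
    rw [h4]; norm_num
  have e3 : (Iᶜ \ insert o T).card * H ^ 2 ≤ ∑ ψ ∈ Iᶜ \ insert o T, deg ψ ^ 2 := by
    rw [← smul_eq_mul]
    apply Finset.card_nsmul_le_sum
    intro ψ hψ
    rw [Finset.mem_sdiff, Finset.mem_compl, Finset.mem_insert] at hψ
    push Not at hψ
    exact Nat.pow_le_pow_left (f5 ψ hψ.1 hψ.2.1) 2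
  have e4 : (Iᶜ \ insert o T).card + (T.card + 1) = Fintype.card (IrrCharacter G) - I.card := by
    rw [← Finset.card_compl, ← Finset.card_insert_of_notMem f3]
    exact Finset.card_sdiff_add_card_eq_card hB
  have e5 : e - 1 ≤ 2 * T.card := by
    have := card_T K hC hab hX hidx
    rw [he] at this
    exact this
  have e6 : e * ∑ ψ ∈ I, deg ψ ^ 2 = t ^ 2 * H := by
    have := sum_exc_sq K hTI hC hlt star hstar hext φ hφ hξ hξ1
    rw [he, ht, hh, Finset.sum_congr rfl (fun ψ _ => by rw [hdeg ψ])] at this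
    have h2 : ((H + 1 : ℕ) : ℂ) - 1 = (H : ℂ) := by push_cast; ring
    rw [h2] at this
    exact_mod_cast this
  rw [← e1, e2, hG] at e0
  exact arith1 H e t _ (Iᶜ \ insert o T).card T.card _ e0 e3 (by omega) (by omega) e6 h2e

end Cfsg.Agent.Lib.Helper61Feit10
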