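import Cfsg.Agent.Lib.Helper61Feit10
import Mathlib

set_option autoImplicit false

/-! A T.I. subgroup `K` with Frobenius normaliser and a coherent set of characters: the
restriction of an exceptional character of small degree. -/

namespace Cfsg.Agent.Lib.Helper61Feit11

open Cfsg Cfsg.Agent.Lib.Helper4Char Cfsg.Agent.Lib.Helper4Char2 Cfsg.Agent.Lib.Helper4Char4
  Cfsg.Agent.Lib.Helper61Feit7 Cfsg.Agent.Lib.Helper61Feit8 Cfsg.Agent.Lib.Helper61Feit9
open scoped ComplexConjugate Classical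

theorem arithP (H e t m a c d Q P : ℤ) (he : 0 < e) (hH : 2 * e < H) (hc : 0 ≤ c)
    (hd : 0 < d) (hP : 0 ≤ P)
    (E1 : (a - 1) * ((H + 1) * e) = (t - e - m) * e)
    (E2 : c * ((H + 1) * e) = (t - e - m) * d)
    (E3 : Q * ((H + 1) * e) = (t - e - m) * (e * H) + (H + 1) * e * e)
    (E4 : t = P + Q) (E5 : t ≤ e) (ha : 0 ≤ a) : a = 1 ∧ t = e := by
  have h1 : (a - 1) * (H + 1) = t - e - m := by
    apply mul_right_cancel₀ he.ne'
    linear_combination E1
  have hH1 : (0 : ℤ) < H + 1 := by linarith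
  have h2 : Q = (a - 1) * H + e := by
    apply mul_right_cancel₀ (mul_pos hH1 he).ne'
    rw [E3, ← h1]; ring
  have h3 : 1 ≤ a := by
    by_contra hcon
    have ha0 : a = 0 := by omega
    rw [← h1, ha0] at E2
    have : 0 ≤ c * ((H + 1) * e) := by positivity
    nlinarith
  have h4 : (a - 1) * H ≤ 0 := by linarith
  have h5 : a - 1 ≤ 0 := by
    by_contra hcon
    have : 1 ≤ a - 1 := by omega
    nlinarith
  have h6 : a = 1 := by omega
  refine ⟨h6, ?_⟩
  rw [h6] at h2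
  linarith

theorem arithN (H e t m a Q P : ℤ) (he : 0 < e) (hH : 2 * e < H) (ha : 0 ≤ a) (hP : 0 ≤ P)
    (E1 : (a + 1) * ((H + 1) * e) = (t + e + m) * e)
    (E3 : Q * ((H + 1) * e) = (t + e + m) * (e * H) - (H + 1) * e * e)
    (E4 : t = P + Q) (E5 : t ≤ e) : False := by
  have h1 : (a + 1) * (H + 1) = t + e + m := by
    apply mul_right_cancel₀ he.ne'
    linear_combination E1
  have hH1 : (0 : ℤ) < H + 1 := by linarith
  have h2 : Q = (a + 1) * H - e := by
    apply mul_right_cancel₀ (mul_pos hH1 he).ne'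
    rw [E3, ← h1]; ring
  nlinarith

variable {G : Type*} [Group G] [Fintype G] (K : Subgroup G)
  [Fintype ↥(Subgroup.normalizer (K : Set G))]
  (hTI : ∀ g : G, g ∉ Subgroup.normalizer (K : Set G) → ∀ k ∈ K, g * k * g⁻¹ ∈ K → k = 1)
  (hC : ∀ k ∈ K, k ≠ 1 → Subgroup.centralizer ({k} : Set G) ≤ K)
  (hlt : K < Subgroup.normalizer (K : Set G))
  (star : (↥(Subgroup.normalizer (K : Set G)) → ℂ) → (G → ℂ))
  (hstar : IsLinearIsometryOn (zspan (relS K)) star)
  (hext : ∀ α ∈ zspanOn (relS K) ({1}ᶜ : Set ↥(Subgroup.normalizer (K : Set G))),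
    star α = indFun (Subgroup.normalizer (K : Set G)) α)
  (φ : IrrCharacter ↥(Subgroup.normalizer (K : Set G)) → IrrCharacter G)
  (hφ : ∀ χ, χ ∈ SF (KN K) → ∃ s : ℂ, (s = 1 ∨ s = -1) ∧ star χ = s • (φ χ : G → ℂ))
  (htwo : ∃ χ ∈ relS K, ∃ ξ ∈ relS K, χ ≠ ξ)

include hTI hC hlt hstar hext hφ htwo in
theorem res_eq (H e : ℕ) (hh : Nat.card K = H + 1) (he : (KN K).index = e) (h2e : 2 * e < H)
    {ξ χ₂ : IrrCharacter ↥(Subgroup.normalizer (K : Set G))} (hξ : ξ ∈ SF (KN K))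
    (hξ1 : (ξ : ↥(Subgroup.normalizer (K : Set G)) → ℂ) 1 = ((KN K).index : ℂ))
    (hχ₂ : χ₂ ∈ SF (KN K)) (hne : ξ ≠ χ₂)
    (t : ℕ) (ht : (φ ξ : G → ℂ) 1 = t) (hte : t ≤ e) :
    (fun x : ↥(Subgroup.normalizer (K : Set G)) => (φ ξ : G → ℂ) x)
      = (ξ : ↥(Subgroup.normalizer (K : Set G)) → ℂ) ∧ t = e := by
  obtain ⟨s, hs, e1⟩ := hφ ξ hξ
  obtain ⟨m, hm⟩ := Cfsg.Agent.S0853.result K hTI hlt hC (relS K) rfl htwo star hstar hext
  have hres : IsCharacter ↥(Subgroup.normalizer (K : Set G))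
      (fun x : ↥(Subgroup.normalizer (K : Set G)) => (φ ξ : G → ℂ) x) :=
    IsCharacter.restrict _ (IsIrrCharacter.isCharacter (φ ξ).2)
  obtain ⟨mm, hmm1, hmm2⟩ := IsCharacter.eq_sum_nat hres
  choose dN hdN0 hdN using fun η : IrrCharacter ↥(Subgroup.normalizer (K : Set G)) =>
    IsIrrCharacter.exists_degree η.2
  have he0 : 0 < e := by
    rw [← he]
    exact Nat.pos_of_ne_zero Subgroup.index_ne_zero_of_finite
  have h4 : ((KN K).index : ℂ) ≠ 0 := Nat.cast_ne_zero.2 Subgroup.index_ne_zero_of_finite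
  have hs2 : s * s = 1 := by rcases hs with rfl | rfl <;> norm_num
  have hcN : (Nat.card ↥(Subgroup.normalizer (K : Set G)) : ℂ) = ((H : ℂ) + 1) * (e : ℂ) := by
    rw [← (KN K).card_mul_index, card_KN, hh, he]; push_cast; ring
  have hval : ∀ x ∈ KN K, x ≠ 1 →
      ((fun x : ↥(Subgroup.normalizer (K : Set G)) => (φ ξ : G → ℂ) x)
        - s • (ξ : ↥(Subgroup.normalizer (K : Set G)) → ℂ)) x = s * m := by
    intro x hx hx1
    have h1 := hm ξ ((mem_SF_iff K ξ).1 hξ) x (Subgroup.mem_subgroupOf.1 hx) hx1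
    rw [e1, hξ1, Pi.smul_apply, smul_eq_mul, mul_div_assoc, div_self h4, mul_one] at h1
    simp only [Pi.sub_apply, Pi.smul_apply, smul_eq_mul]
    linear_combination s * h1 - (φ ξ : G → ℂ) x * hs2
  have hstar' : ∀ χ ∈ SF (KN K), ((mm χ : ℂ) - s * (if ξ = χ then 1 else 0)) * (((H : ℂ) + 1) * (e : ℂ))
      = ((t : ℂ) - s * e - s * m) * (dN χ : ℂ) := by
    intro χ hχ
    have h1 := inner_S (KN K) (hv K hC) _ _ hval hχ
    rw [classInner_sub_left, classInner_smul_left, hmm2, classInner_irr ξ.2 χ.2, hcN, hdN χ] at h1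
    simp only [Pi.sub_apply, Pi.smul_apply, smul_eq_mul, OneMemClass.coe_one] at h1
    rw [ht, hξ1, he] at h1
    rw [← h1]
    by_cases h : ξ = χ
    · rw [if_pos h, if_pos (congrArg Subtype.val h)]
    · rw [if_neg h, if_neg (fun h' => h (Subtype.ext h'))]
  have E4 : t = ∑ η ∈ NS (KN K), mm η * dN η + ∑ η ∈ SF (KN K), mm η * dN η := by
    have h1 := congrFun hmm1 1
    simp only [OneMemClass.coe_one, Finset.sum_apply, Pi.smul_apply, smul_eq_mul] at h1
    rw [ht, sum_split (KN K), Finset.sum_congr rfl (fun η _ => by rw [hdN η]),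
      Finset.sum_congr (s₁ := SF (KN K)) rfl (fun η _ => by rw [hdN η])] at h1
    exact_mod_cast h1
  have hsq : ∑ χ ∈ SF (KN K), (dN χ : ℂ) ^ 2 = (e : ℂ) * H := by
    have := sum_SF_sq (KN K)
    rw [Finset.sum_congr rfl (fun η _ => by rw [hdN η]), hcN, he] at this
    rw [this]; ring
  have hdξ : (dN ξ : ℂ) = e := by rw [← hdN ξ, hξ1, he]
  have E3 : ((∑ η ∈ SF (KN K), mm η * dN η : ℕ) : ℂ) * (((H : ℂ) + 1) * (e : ℂ))
      = ((t : ℂ) - s * e - s * m) * ((e : ℂ) * H) + s * (((H : ℂ) + 1) * (e : ℂ)) * e := by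
    push_cast
    rw [Finset.sum_mul]
    have h1 : ∀ χ ∈ SF (KN K), (mm χ : ℂ) * (dN χ : ℂ) * (((H : ℂ) + 1) * (e : ℂ))
        = ((t : ℂ) - s * e - s * m) * (dN χ : ℂ) ^ 2
          + (if ξ = χ then s * (((H : ℂ) + 1) * (e : ℂ)) * (dN χ : ℂ) else 0) := by
      intro χ hχ
      have h2 := hstar' χ hχ
      by_cases h : ξ = χ
      · rw [if_pos h] at h2 ⊢
        linear_combination (dN χ : ℂ) * h2
      · rw [if_neg h] at h2 ⊢
        linear_combination (dN χ : ℂ) * h2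
    rw [Finset.sum_congr rfl h1, Finset.sum_add_distrib, ← Finset.mul_sum, hsq, Finset.sum_ite_eq,
      if_pos hξ, hdξ]
  have E1 := hstar' ξ hξ
  rw [if_pos rfl, hdξ] at E1
  have E2 := hstar' χ₂ hχ₂
  rw [if_neg hne] at E2
  have key : mm ξ = 1 ∧ t = e := by
    rcases hs with rfl | rfl
    · have := arithP H e t m (mm ξ) (mm χ₂) (dN χ₂) (∑ η ∈ SF (KN K), mm η * dN η : ℕ)
        (∑ η ∈ NS (KN K), mm η * dN η : ℕ) (by exact_mod_cast he0) (by exact_mod_cast h2e)
        (by positivity) (by exact_mod_cast hdN0 χ₂) (by positivity)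
        (by
          have : (((mm ξ : ℤ) - 1) * (((H : ℤ) + 1) * e) : ℂ) = ((((t : ℤ) - e - m) * e : ℤ) : ℂ) := by
            push_cast; linear_combination E1
          exact_mod_cast this)
        (by
          have : (((mm χ₂ : ℤ)) * (((H : ℤ) + 1) * e) : ℂ) = ((((t : ℤ) - e - m) * (dN χ₂ : ℤ) : ℤ) : ℂ) := by
            push_cast; linear_combination E2
          exact_mod_cast this)
        (by
          have : ((((∑ η ∈ SF (KN K), mm η * dN η : ℕ) : ℤ)) * (((H : ℤ) + 1) * e) : ℂ)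
              = ((((t : ℤ) - e - m) * ((e : ℤ) * H) + ((H : ℤ) + 1) * e * e : ℤ) : ℂ) := by
            push_cast at E3 ⊢; linear_combination E3
          exact_mod_cast this)
        (by exact_mod_cast E4) (by exact_mod_cast hte) (by positivity)
      exact ⟨by exact_mod_cast this.1, by exact_mod_cast this.2⟩
    · exfalso
      exact arithN H e t m (mm ξ) (∑ η ∈ SF (KN K), mm η * dN η : ℕ)
        (∑ η ∈ NS (KN K), mm η * dN η : ℕ) (by exact_mod_cast he0) (by exact_mod_cast h2e)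
        (by positivity) (by positivity)
        (by
          have : (((mm ξ : ℤ) + 1) * (((H : ℤ) + 1) * e) : ℂ) = ((((t : ℤ) + e + m) * e : ℤ) : ℂ) := by
            push_cast; linear_combination E1
          exact_mod_cast this)
        (by
          have : ((((∑ η ∈ SF (KN K), mm η * dN η : ℕ) : ℤ)) * (((H : ℤ) + 1) * e) : ℂ)
              = ((((t : ℤ) + e + m) * ((e : ℤ) * H) - ((H : ℤ) + 1) * e * e : ℤ) : ℂ) := by
            push_cast at E3 ⊢; linear_combination E3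
          exact_mod_cast this)
        (by exact_mod_cast E4) (by exact_mod_cast hte)
  refine ⟨?_, key.2⟩
  have hdξ' : dN ξ = e := by exact_mod_cast hdξ
  have hall : t = ∑ η, mm η * dN η := by
    rw [E4]
    exact Finset.sum_filter_add_sum_filter_not Finset.univ _ _
  rw [← Finset.add_sum_erase _ _ (Finset.mem_univ ξ), key.1, hdξ', key.2] at hall
  have hz : ∑ η ∈ Finset.univ.erase ξ, mm η * dN η = 0 := by omega
  rw [Finset.sum_eq_zero_iff] at hz
  rw [hmm1, Finset.sum_eq_single ξ]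
  · rw [key.1]; simp
  · intro η _ hη
    have h1 := hz η (Finset.mem_erase.2 ⟨hη, Finset.mem_univ _⟩)
    have h2 : mm η = 0 := by
      rcases Nat.mul_eq_zero.1 h1 with h | h
      · exact h
      · exact absurd h (hdN0 η).ne'
    rw [h2]; simp
  · intro h; exact absurd (Finset.mem_univ _) h

end Cfsg.Agent.Lib.Helper61Feit11
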