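import Cfsg.Agent.Lib.Helper61Feit11
import Cfsg.Agent.Lib.Helper32SeqInd
import Mathlib

set_option autoImplicit false

/-! A T.I. subgroup `K` with Frobenius normaliser and a coherent set of characters in a group of
order `(h+1) h e`: Feit's bound. -/

namespace Cfsg.Agent.Lib.Helper61Feit12

open Cfsg Cfsg.Agent.Lib.Helper4Char Cfsg.Agent.Lib.Helper4Char2 Cfsg.Agent.Lib.Helper4Char4
  Cfsg.Agent.Lib.Helper61Feit7 Cfsg.Agent.Lib.Helper61Feit8 Cfsg.Agent.Lib.Helper61Feit9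
  Cfsg.Agent.Lib.Helper61Feit10 Cfsg.Agent.Lib.Helper61Feit11
open scoped ComplexConjugate Classical

variable {G : Type*} [Group G] [Fintype G] (K : Subgroup G)
  [Fintype ↥(Subgroup.normalizer (K : Set G))]
  (hC : ∀ k ∈ K, k ≠ 1 → Subgroup.centralizer ({k} : Set G) ≤ K)
  (hab : ∀ x y : ↥(Subgroup.normalizer (K : Set G)), x * y * x⁻¹ * y⁻¹ ∈ KN K)
  (hX : ∀ μ : ↥(Subgroup.normalizer (K : Set G)) → ℂ,
    IsIrrCharacter ↥(Subgroup.normalizer (K : Set G)) μ → μ 1 = 1 →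
    (∀ u : ↥(Subgroup.normalizer (K : Set G)), (u : G) ∈ K → μ u = 1) → μ ≠ (fun _ => 1) →
    IsIrrCharacter G (indFun (Subgroup.normalizer (K : Set G)) μ) ∧
      ∀ u ∈ K, u ≠ 1 → indFun (Subgroup.normalizer (K : Set G)) μ u = 1)

include hC hab hX in
/-- an irreducible character of `G` cannot restrict to a relevant character of degree `e` -/
theorem final (H e : ℕ) (hh : Nat.card K = H + 1) (he : (KN K).index = e)
    (hidx : (Subgroup.normalizer (K : Set G)).index = Nat.card K + 1)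
    (h2e : 2 * e < H) (he2 : 2 ≤ e)
    {ξ : IrrCharacter ↥(Subgroup.normalizer (K : Set G))} (hξ : ξ ∈ SF (KN K))
    (hξ1 : (ξ : ↥(Subgroup.normalizer (K : Set G)) → ℂ) 1 = ((KN K).index : ℂ))
    (Θ : IrrCharacter G)
    (hres : (fun x : ↥(Subgroup.normalizer (K : Set G)) => (Θ : G → ℂ) x)
      = (ξ : ↥(Subgroup.normalizer (K : Set G)) → ℂ)) : False := by
  have hΘ := IsIrrCharacter.isCharacter Θ.2
  have hψ₀ : IsCharacter G (fun g => (Θ : G → ℂ) g * conj ((Θ : G → ℂ) g)) :=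
    IsCharacter.mul hΘ (IsCharacter.conj hΘ)
  obtain ⟨n, hn1, hn2⟩ := IsCharacter.eq_sum_nat hψ₀
  choose deg hdeg0 hdeg using fun ψ : IrrCharacter G => IsIrrCharacter.exists_degree ψ.2
  set T := (M K).image (X K) with hT
  set o : IrrCharacter G := ⟨fun _ => 1, Cfsg.Agent.Lib.Helper83Char.isIrr_one⟩ with ho
  have f4 : ∀ ψ ∈ T, deg ψ = H + 2 := by
    intro ψ hψ
    obtain ⟨μ, hμ, rfl⟩ := Finset.mem_image.1 hψ
    have h1 := X_one K hab hX hμ
    rw [hdeg, hidx, hh] at h1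
    exact_mod_cast h1
  have hdo : deg o = 1 := by
    have h2 := hdeg o
    have h3 : ((deg o : ℕ) : ℂ) = ((1 : ℕ) : ℂ) := by rw [← h2]; simp [ho]
    exact_mod_cast h3
  have f3 : o ∉ T := by
    intro h
    have h1 := f4 o h
    omega
  have hno : n o = 1 := by
    have h1 := hn2 o
    have h2 : classInner (fun g => (Θ : G → ℂ) g * conj ((Θ : G → ℂ) g)) (o : G → ℂ)
        = classInner (Θ : G → ℂ) (Θ : G → ℂ) := by
      unfold classInner
      congr 1
      apply Finset.sum_congr rfl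
      intro g _
      simp [ho]
    rw [h2, classInner_irr_self Θ.2] at h1
    exact_mod_cast h1.symm
  have hnT : ∀ ψ ∈ T, n ψ = 1 := by
    intro ψ hψ
    obtain ⟨μ, hμ, rfl⟩ := Finset.mem_image.1 hψ
    have h1 := hn2 (X K μ)
    rw [← classInner_conj_symm, (X_spec K hab hX hμ).1, Cfsg.Agent.Lib.Helper32Ind.frobenius _ _ _
      (IsCharacter.isClassFunction hψ₀)] at h1
    have hμ' := Finset.mem_erase.1 hμ
    have h2 : classInner (μ : ↥(Subgroup.normalizer (K : Set G)) → ℂ)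
        (fun x : ↥(Subgroup.normalizer (K : Set G)) => (Θ : G → ℂ) x * conj ((Θ : G → ℂ) x))
        = classInner (ξ : ↥(Subgroup.normalizer (K : Set G)) → ℂ)
          (ξ : ↥(Subgroup.normalizer (K : Set G)) → ℂ) := by
      unfold classInner
      congr 1
      apply Finset.sum_congr rfl
      intro x _
      have h3 : (Θ : G → ℂ) x = (ξ : ↥(Subgroup.normalizer (K : Set G)) → ℂ) x := congrFun hres x
      simp only [h3]
      by_cases hx : x ∈ KN K
      · rw [(mem_NS _).1 hμ'.2 x hx, NS_linear K hab hμ'.2]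
        simp [mul_comm]
      · rw [hv K hC ξ hξ x hx]
        simp
    rw [h2, classInner_irr_self ξ.2, map_one] at h1
    exact_mod_cast h1.symm
  have hsum : e ^ 2 = ∑ ψ, n ψ * deg ψ := by
    have h1 := congrFun hn1 1
    simp only [Finset.sum_apply, Pi.smul_apply, smul_eq_mul] at h1
    have h3 : (Θ : G → ℂ) 1 = (e : ℂ) := by
      have := congrFun hres 1
      simp only [OneMemClass.coe_one] at this
      rw [this, hξ1, he]
    rw [h3, Finset.sum_congr rfl (fun ψ _ => by rw [hdeg ψ])] at h1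
    have h4 : ((e ^ 2 : ℕ) : ℂ) = ((∑ ψ, n ψ * deg ψ : ℕ) : ℂ) := by
      push_cast
      rw [← h1]
      simp
      ring
    exact_mod_cast h4
  have hle : ∑ ψ ∈ insert o T, n ψ * deg ψ ≤ ∑ ψ, n ψ * deg ψ :=
    Finset.sum_le_sum_of_subset (Finset.subset_univ _)
  rw [Finset.sum_insert f3, hno, hdo, Finset.sum_congr rfl
    (fun ψ hψ => by rw [hnT ψ hψ, f4 ψ hψ]), Finset.sum_const, smul_eq_mul, ← hsum] at hle
  have e5 : e - 1 ≤ 2 * T.card := by
    have := card_T K hC hab hX hidx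
    rw [he] at this
    exact this
  obtain ⟨e', rfl⟩ : ∃ e', e = e' + 1 := ⟨e - 1, by omega⟩
  have e6 : e' ≤ 2 * T.card := by omega
  have e7 : e' * (H + 2) ≤ 2 * T.card * (H + 2) := Nat.mul_le_mul_right _ e6
  nlinarith

omit [Fintype ↥(Subgroup.normalizer (K : Set G))] in
theorem idx (H e : ℕ) (hh : Nat.card K = H + 1) (he : (KN K).index = e)
    (hG : Nat.card G = (H + 2) * (H + 1) * e) :
    (Subgroup.normalizer (K : Set G)).index = Nat.card K + 1 := by
  have h1 := (Subgroup.normalizer (K : Set G)).card_mul_index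
  have h2 := (KN K).card_mul_index
  rw [card_KN, hh, he] at h2
  rw [← h2, hG] at h1
  have h3 : 0 < (H + 1) * e := by
    rcases Nat.eq_zero_or_pos e with h0 | h0
    · exfalso
      rw [h0] at he
      exact Subgroup.index_ne_zero_of_finite he
    · positivity
  rw [hh]
  apply Nat.eq_of_mul_eq_mul_left h3
  rw [h1]; ring

include hC hab hX in
/-- Feit's bound, abstract form: coherence is incompatible with `2 e < h - 1`. -/
theorem main [IsSimpleGroup G]
    (hTI : ∀ g : G, g ∉ Subgroup.normalizer (K : Set G) → ∀ k ∈ K, g * k * g⁻¹ ∈ K → k = 1)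
    (hlt : K < Subgroup.normalizer (K : Set G)) (hnil : Group.IsNilpotent K)
    (star : (↥(Subgroup.normalizer (K : Set G)) → ℂ) → (G → ℂ))
    (hstar : IsLinearIsometryOn (zspan (relS K)) star)
    (hext : ∀ α ∈ zspanOn (relS K) ({1}ᶜ : Set ↥(Subgroup.normalizer (K : Set G))),
      star α = indFun (Subgroup.normalizer (K : Set G)) α)
    (H e : ℕ) (hh : Nat.card K = H + 1) (he : (KN K).index = e)
    (hG : Nat.card G = (H + 2) * (H + 1) * e)
    (hn₀ : e ≤ Nat.card {C : ConjClasses G // ∀ g : G, ConjClasses.mk g = C → g ∉ K})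
    (h2e : 2 * e < H) (he2 : 2 ≤ e) : False := by
  have hnil' : Group.IsNilpotent (KN K) :=
    (Group.isNilpotent_congr (Subgroup.subgroupOfEquivOfLe hlt.le)).2 hnil
  have hsolv : Group.IsSolvable (KN K) := inferInstance
  have hbot : (⊥ : Subgroup ↥(Subgroup.normalizer (K : Set G))) < KN K := by
    rw [bot_lt_iff_ne_bot]
    intro h
    have h1 := card_KN K
    rw [h, Subgroup.card_bot, hh] at h1
    omega
  obtain ⟨ξ₀, hξ₀, hξ₀1⟩ := Cfsg.Agent.Lib.Helper32SeqInd.exists_linear_mem hsolv hbot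
  rw [← Cfsg.Agent.Lib.Helper32Feit.set_eq K hC] at hξ₀
  have hξ : (⟨ξ₀, hξ₀.1⟩ : IrrCharacter ↥(Subgroup.normalizer (K : Set G))) ∈ SF (KN K) :=
    (mem_SF_iff K _).2 hξ₀
  generalize hξdef : (⟨ξ₀, hξ₀.1⟩ : IrrCharacter ↥(Subgroup.normalizer (K : Set G))) = ξ at hξ
  have hξ1 : (ξ : ↥(Subgroup.normalizer (K : Set G)) → ℂ) 1 = ((KN K).index : ℂ) := by
    rw [← hξdef]; exact hξ₀1
  obtain ⟨χ₂, hχ₂, hne⟩ : ∃ χ₂ ∈ SF (KN K), ξ ≠ χ₂ := by
    by_contra hcon
    push Not at hcon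
    have h0 : SF (KN K) = {ξ} := by
      ext χ
      rw [Finset.mem_singleton]
      exact ⟨fun h => (hcon χ h).symm, fun h => h ▸ hξ⟩
    have h1 := sum_SF_sq (KN K)
    rw [h0, Finset.sum_singleton, hξ1, ← (KN K).card_mul_index, card_KN, hh, he] at h1
    have h2 : ((e ^ 2 + e : ℕ) : ℂ) = (((H + 1) * e : ℕ) : ℂ) := by
      push_cast at h1 ⊢
      linear_combination h1
    have h3 : e ^ 2 + e = (H + 1) * e := by exact_mod_cast h2
    nlinarith
  have htwo : ∃ χ ∈ relS K, ∃ ξ ∈ relS K, χ ≠ ξ :=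
    ⟨ξ, (mem_SF_iff K ξ).1 hξ, χ₂, (mem_SF_iff K χ₂).1 hχ₂, fun h => hne (Subtype.ext h)⟩
  choose φ hφ using exists_phi K star hstar
  obtain ⟨t, ht0, ht⟩ := IsIrrCharacter.exists_degree (φ ξ).2
  have hte := deg_le K hTI hC hlt star hstar hext φ hφ htwo hab hX H e hh he hG hn₀ h2e hξ hξ1 t ht
  have hr := res_eq K hTI hC hlt star hstar hext φ hφ htwo H e hh he h2e hξ hξ1 hχ₂ hne t ht hte
  exact final K hC hab hX H e hh he (idx K H e hh he hG) h2e he2 hξ hξ1 (φ ξ) hr.1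

end Cfsg.Agent.Lib.Helper61Feit12
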