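import Cfsg.Agent.Lib.Helper61Feit13
import Mathlib

set_option autoImplicit false

/-! Zassenhaus groups: at most two orbits of the two point stabiliser on the kernel force a prime
power degree. -/

namespace Cfsg.Agent.Lib.Helper61Feit14

open Cfsg Cfsg.Agent.Lib.Helper61Feit Cfsg.Agent.Lib.Helper61Feit2 Cfsg.Agent.Lib.Helper61Feit3
  Cfsg.Agent.Lib.Helper61Feit13

variable {G : Type*} [Group G] [Finite G] {O : Type*} [Finite O] [MulAction G O] {h : ℕ}

theorem three_orbits (D : TData G O h) {a b : O} (hab : a ≠ b)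
    (he : 2 ≤ Nat.card (stab2 G a b)) (hh : 2 ≤ h) {H : Subgroup G} (K : KData G O a h H)
    (u : Fin 3 → G) (huH : ∀ i, u i ∈ H) (hu1 : ∀ i, u i ≠ 1)
    (hinj : Function.Injective (fun i => orderOf (u i))) :
    3 * Nat.card (stab2 G a b) + 1 ≤ h := by
  have hC := cent_le D hab he hh K
  let F : (Fin 3 × stab2 G a b) ⊕ Unit → H := fun p =>
    match p with
    | Sum.inl (i, y) => ⟨(y : G) * u i * (y : G)⁻¹,
        K.conj_mem D hab he hh (mem_stab2.1 y.2).1 (huH i)⟩
    | Sum.inr _ => 1
  have hF : Function.Injective F := by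
    rintro (⟨i, y⟩ | _) (⟨j, y'⟩ | _) hp
    · have h1 : (y : G) * u i * (y : G)⁻¹ = (y' : G) * u j * (y' : G)⁻¹ := congrArg Subtype.val hp
      have hij : i = j := by
        apply hinj
        have h2 := congrArg orderOf h1
        rw [Cfsg.Agent.Lib.Helper61Feit4.orderOf_conj, Cfsg.Agent.Lib.Helper61Feit4.orderOf_conj] at h2
        exact h2
      subst hij
      have h3 : (y' : G)⁻¹ * y ∈ Subgroup.centralizer ({u i} : Set G) := by
        rw [Subgroup.mem_centralizer_singleton_iff]
        have : u i = (y' : G)⁻¹ * ((y : G) * u i * (y : G)⁻¹) * y' := by rw [h1]; group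
        calc (y' : G)⁻¹ * y * u i = (y' : G)⁻¹ * ((y : G) * u i * (y : G)⁻¹) * y' * ((y' : G)⁻¹ * y) := by
              group
          _ = u i * ((y' : G)⁻¹ * y) := by rw [← this]
      have h4 := hC (u i) (huH i) (hu1 i) h3
      have h5 : ((y' : G)⁻¹ * y) • b = b := by
        rw [mul_smul, (mem_stab2.1 y.2).2, inv_smul_eq_iff, (mem_stab2.1 y'.2).2]
      have h6 : (y' : G)⁻¹ * y = 1 := by
        by_contra hne
        exact hab (K.fix _ h4 hne b h5).symm
      have h7 : y = y' := by
        apply Subtype.ext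
        have := inv_mul_eq_one.1 h6
        exact this.symm
      rw [h7]
    · exfalso
      have h1 : (y : G) * u i * (y : G)⁻¹ = 1 := congrArg Subtype.val hp
      apply hu1 i
      have : u i = (y : G)⁻¹ * ((y : G) * u i * (y : G)⁻¹) * y := by group
      rw [this, h1]; group
    · exfalso
      have h1 : 1 = (y' : G) * u j * (y' : G)⁻¹ := congrArg Subtype.val hp
      apply hu1 j
      have : u j = (y' : G)⁻¹ * ((y' : G) * u j * (y' : G)⁻¹) * y' := by group
      rw [this, ← h1]; group
    · rfl
  have h1 := Nat.card_le_card_of_injective F hF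
  rw [Nat.card_sum, Nat.card_prod, Nat.card_fin, Nat.card_unique (α := Unit), K.card] at h1
  exact h1

theorem primePow_of_le (D : TData G O h) {a b : O} (hab : a ≠ b)
    (he : 2 ≤ Nat.card (stab2 G a b)) (hh : 2 ≤ h) {H : Subgroup G} (K : KData G O a h H)
    (hle : h - 1 ≤ 2 * Nat.card (stab2 G a b)) : IsPrimePow h := by
  by_contra hnp
  have hnil := K.nilpotent D hab he hh
  have hnt : Nontrivial H := by
    rw [← Finite.one_lt_card_iff_nontrivial, K.card]; omega
  have hc := Group.IsNilpotent.center_ne_bot (G := H)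
  have hc1 : Nat.card (Subgroup.center H) ≠ 1 := fun h1 => hc ((Subgroup.card_eq_one).1 h1)
  obtain ⟨r, hr, hrd⟩ := Nat.exists_prime_and_dvd hc1
  have := Fact.mk hr
  obtain ⟨z, hz⟩ := exists_prime_orderOf_dvd_card' (G := Subgroup.center H) r hrd
  have hrh : r ∣ h := by
    rw [← K.card]
    exact hrd.trans (Subgroup.card_subgroup_dvd_card _)
  rw [isPrimePow_iff_unique_prime_dvd] at hnp
  obtain ⟨s, hs, hsh, hsr⟩ : ∃ s : ℕ, s.Prime ∧ s ∣ h ∧ s ≠ r := by
    by_contra hcon
    push Not at hcon
    exact hnp ⟨r, ⟨hr, hrh⟩, fun s hs => hcon s hs.1 hs.2⟩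
  have := Fact.mk hs
  obtain ⟨y, hy⟩ := exists_prime_orderOf_dvd_card' (G := H) s (by rw [K.card]; exact hsh)
  have hz' : orderOf ((z : H) : G) = r := by rw [Subgroup.orderOf_coe, Subgroup.orderOf_coe, hz]
  have hy' : orderOf (y : G) = s := by rw [Subgroup.orderOf_coe, hy]
  have hcomm : Commute ((z : H) : G) (y : G) := by
    have := Subgroup.mem_center_iff.1 z.2 y
    exact (congrArg Subtype.val this).symm
  have hcop : Nat.Coprime r s := (Nat.coprime_primes hr hs).2 (Ne.symm hsr)
  have hw : orderOf (((z : H) : G) * (y : G)) = r * s := by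
    rw [hcomm.orderOf_mul_eq_mul_orderOf_of_coprime (by rw [hz', hy']; exact hcop), hz', hy']
  have h3 := three_orbits D hab he hh K ![((z : H) : G), (y : G), ((z : H) : G) * (y : G)]
    (by
      intro i
      fin_cases i
      · exact (z : H).2
      · exact y.2
      · exact H.mul_mem (z : H).2 y.2)
    (by
      intro i
      fin_cases i
      · intro h0
        simp only [Fin.zero_eta, Matrix.cons_val_zero] at h0
        rw [h0, orderOf_one] at hz'
        exact hr.one_lt.ne hz'
      · intro h0
        simp only [Fin.mk_one, Matrix.cons_val_one, Matrix.cons_val_zero] at h0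
        rw [h0, orderOf_one] at hy'
        exact hs.one_lt.ne hy'
      · intro h0
        simp only [Fin.reduceFinMk, Matrix.cons_val] at h0
        rw [h0, orderOf_one] at hw
        have := hr.one_lt
        have := hs.one_lt
        nlinarith)
    (by
      have hr1 := hr.one_lt
      have hs1 := hs.one_lt
      intro i j hij
      fin_cases i <;> fin_cases j <;> simp [hz', hy', hw] at hij ⊢
      all_goals first | omega | nlinarith)
  omega

end Cfsg.Agent.Lib.Helper61Feit14
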