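import Cfsg.Agent.Lib.Helper61Feit13
import Cfsg.Agent.S0339
import Mathlib

set_option autoImplicit false

/-! Feit's theorem on Zassenhaus groups with two point stabilisers of odd order: general case. -/

namespace Cfsg.Agent.Lib.Helper61Feit15

open Cfsg Cfsg.Agent.Lib.Helper61Feit Cfsg.Agent.Lib.Helper61Feit2 Cfsg.Agent.Lib.Helper61Feit3
  Cfsg.Agent.Lib.Helper61Feit13

universe u v

theorem two_le_h {G : Type*} [Group G] {O : Type*} [Finite O] [MulAction G O] {h : ℕ}
    (hZ : Cfsg.IsZassenhausGroup G O) (hh : Nat.card O = h + 1) : 2 ≤ h := by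
  by_contra hcon
  obtain ⟨g, hg, c, d, hcd, h2, h3⟩ := hZ.2.2.2.1
  have := hZ.1
  apply hg
  apply FaithfulSMul.eq_of_smul_eq_smul (α := O)
  intro z
  rw [one_smul]
  by_cases hz : z = c
  · rw [hz, h2]
  by_cases hz' : z = d
  · rw [hz', h3]
  exfalso
  classical
  have : Fintype O := Fintype.ofFinite O
  have h5 : 2 < Fintype.card O := Fintype.two_lt_card_iff.2 ⟨c, d, z, hcd, Ne.symm hz, Ne.symm hz'⟩
  rw [← Nat.card_eq_fintype_card, hh] at h5
  omega

theorem general {O : Type v} [Fintype O] {a b : O} (hab : a ≠ b) (h : ℕ) (hh : Nat.card O = h + 1) :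
    ∀ (n : ℕ) (G : Type u) [Group G] [Finite G] [MulAction G O], Nat.card G = n →
      Cfsg.IsZassenhausGroup G O → Odd (Nat.card (stab2 G a b)) →
      ∀ H : Subgroup G, KData G O a h H →
      h - 1 ≤ 2 * Nat.card (stab2 G a b) ∨
        (IsPGroup 2 H ∧ (∃ u v : H, u * v ≠ v * u) ∧
          (commutator H).index ≤ 4 * Nat.card (stab2 G a b) ^ 2 + 1) := by
  intro n
  induction n using Nat.strong_induction_on with
  | _ n ih =>
    intro G _ _ _ hn hZ hodd H K
    by_cases hs : IsSimpleGroup G
    · have : Fintype G := Fintype.ofFinite G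
      exact simple_case hZ hh hab hodd K
    · obtain ⟨M, hMn, hMb, hMt⟩ : ∃ M : Subgroup G, M.Normal ∧ M ≠ ⊥ ∧ M ≠ ⊤ := by
        by_contra hcon
        push Not at hcon
        apply hs
        obtain ⟨g, hg, -⟩ := hZ.2.2.2.1
        have : Nontrivial G := ⟨⟨g, 1, hg⟩⟩
        exact ⟨fun M hM => by
          by_cases hb : M = ⊥
          · exact Or.inl hb
          · exact Or.inr (hcon M hM hb)⟩
      have hZM : Cfsg.IsZassenhausGroup M O := Cfsg.Agent.S0339.result hZ M hMb
      have hlt : Nat.card M < n := by
        rw [← hn]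
        have h1 := M.card_mul_index
        have h2 : M.index ≠ 1 := fun h => hMt (Subgroup.index_eq_one.1 h)
        have h3 : M.index ≠ 0 := Subgroup.index_ne_zero_of_finite
        have h4 : 0 < Nat.card M := Nat.card_pos
        have h5 : 2 ≤ M.index := by omega
        nlinarith
      have D := tdata_of_zass hZ hh
      have DM := tdata_of_zass hZM hh
      have he2 := two_le_card_stab2 hZ hh hab
      have he2M := two_le_card_stab2 hZM hh hab
      have h2 := two_le_h hZ hh
      -- comparison of the two point stabilisers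
      let f : stab2 M a b →* stab2 G a b :=
        { toFun := fun x => ⟨((x : M) : G), mem_stab2.2 ⟨(mem_stab2.1 x.2).1, (mem_stab2.1 x.2).2⟩⟩
          map_one' := rfl
          map_mul' := fun _ _ => rfl }
      have hf : Function.Injective f := by
        intro x y hxy
        apply Subtype.ext
        apply Subtype.ext
        have h0 : ((f x : stab2 G a b) : G) = ((f y : stab2 G a b) : G) := congrArg Subtype.val hxy
        exact h0
      have hdvd : Nat.card (stab2 M a b) ∣ Nat.card (stab2 G a b) :=
        Subgroup.card_dvd_of_injective f hf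
      have hle : Nat.card (stab2 M a b) ≤ Nat.card (stab2 G a b) :=
        Nat.le_of_dvd Nat.card_pos hdvd
      have hoddM : Odd (Nat.card (stab2 M a b)) := hodd.of_dvd_nat hdvd
      obtain ⟨HM, KM, -⟩ := exists_KData DM hab he2M h2
      have K' : KData G O a h (HM.map M.subtype) := by
        refine ⟨?_, ?_, ?_⟩
        · rintro _ ⟨x, hx, rfl⟩
          exact KM.le hx
        · rw [Subgroup.card_map_of_injective M.subtype_injective, KM.card]
        · rintro _ ⟨x, hx, rfl⟩ hx1 c hc
          exact KM.fix x hx (fun h => hx1 (by rw [h]; rfl)) c hc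
      have hH : H = HM.map M.subtype := by
        ext u
        rw [K.mem_iff D hab he2 h2, K'.mem_iff D hab he2 h2]
      subst hH
      let φ := HM.equivMapOfInjective M.subtype M.subtype_injective
      rcases ih (Nat.card M) hlt M rfl hZM hoddM HM KM with h1 | ⟨h1, ⟨u, v, huv⟩, h3⟩
      · left; omega
      · right
        refine ⟨h1.of_equiv φ, ⟨φ u, φ v, ?_⟩, ?_⟩
        · intro h
          apply huv
          apply φ.injective
          rw [map_mul, map_mul, h]
        · have h4 : (commutator (HM.map M.subtype)).index = (commutator HM).index :=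
            (Nat.card_congr (MulEquiv.abelianizationCongr φ).toEquiv).symm
          rw [h4]
          have h5 : Nat.card (stab2 M a b) ^ 2 ≤ Nat.card (stab2 G a b) ^ 2 :=
            Nat.pow_le_pow_left hle 2
          omega

end Cfsg.Agent.Lib.Helper61Feit15
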