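import Cfsg.Agent.Lib.Helper61Feit2
import Cfsg.Agent.S0080
import Cfsg.Agent.S0879
import Cfsg.Agent.S0740

set_option autoImplicit false
set_option linter.unusedVariables false
set_option linter.unusedSectionVars false
set_option linter.unusedSimpArgs false

/-! In a simple Zassenhaus group with two point stabiliser `E` of odd order, `E` is abelian and
inverted by every element interchanging the two points. -/

namespace Cfsg.Agent.Lib.Helper61Feit3

open Cfsg.Agent.Lib.Helper61Zass Cfsg.Agent.Lib.Helper61Feit Cfsg.Agent.Lib.Helper61Feit2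
open scoped commutatorElement

theorem abelian_of_focal {G : Type*} [Group G] (E : Subgroup G) [Finite E] [IsZGroup E]
    (D : Subgroup G) (hD : D ≤ Subgroup.normalizer (E : Set G)) (hfoc : E ≤ ⁅D, D⁆) :
    ∀ x ∈ E, ∀ y ∈ E, x * y = y * x := by
  have hcyc : IsCyclic (⁅E, E⁆ : Subgroup G) := by
    have h1 : IsCyclic (commutator E) := IsZGroup.isCyclic_commutator E
    let f := Subgroup.equivMapOfInjective (commutator E) _ E.subtype_injective
    rw [Subgroup.map_subtype_commutator] at f
    exact isCyclic_of_surjective f f.surjective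
  have hDN : D ≤ Subgroup.normalizer ((⁅E, E⁆ : Subgroup G) : Set G) := by
    intro d hd
    have hdE := hD hd
    have hmap : E.map (MulAut.conj d).toMonoidHom = E := by
      ext x
      constructor
      · rintro ⟨y, hy, rfl⟩
        exact (Subgroup.mem_normalizer_iff.1 hdE y).1 hy
      · intro hx
        refine ⟨d⁻¹ * x * d, ?_, by simp [mul_assoc]⟩
        exact (Subgroup.mem_normalizer_iff.1 hdE (d⁻¹ * x * d)).2 (by simpa [mul_assoc] using hx)
    have hK : (⁅E, E⁆ : Subgroup G).map (MulAut.conj d).toMonoidHom = ⁅E, E⁆ := by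
      rw [Subgroup.map_commutator, hmap]
    rw [Subgroup.mem_normalizer_iff]
    intro k
    constructor
    · intro hk
      have : (MulAut.conj d).toMonoidHom k ∈ (⁅E, E⁆ : Subgroup G).map (MulAut.conj d).toMonoidHom :=
        ⟨k, hk, rfl⟩
      rw [hK] at this
      exact this
    · intro hk
      rw [← hK] at hk
      obtain ⟨k', hk', h⟩ := hk
      have : k' = k := (MulAut.conj d).injective h
      rwa [← this]
  have key : ⁅Subgroup.normalizer ((⁅E, E⁆ : Subgroup G) : Set G),
      Subgroup.normalizer ((⁅E, E⁆ : Subgroup G) : Set G)⁆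
        ≤ Subgroup.centralizer ((⁅E, E⁆ : Subgroup G) : Set G) := by
    let _ := (hcyc.mulAutMulEquiv _).toMonoidHom.commGroupOfInjective (hcyc.mulAutMulEquiv _).injective
    have h := Abelianization.commutator_subset_ker (⁅E, E⁆ : Subgroup G).normalizerMonoidHom
    rw [Subgroup.normalizerMonoidHom_ker, ← Subgroup.map_subtype_le_map_subtype,
      Subgroup.map_subtype_commutator] at h
    refine h.trans ?_
    rw [Subgroup.subgroupOf_map_subtype]
    exact inf_le_left
  have hEC : E ≤ Subgroup.centralizer ((⁅E, E⁆ : Subgroup G) : Set G) :=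
    hfoc.trans ((Subgroup.commutator_mono hDN hDN).trans key)
  have hcen : commutator E ≤ Subgroup.center E := by
    intro k hk
    rw [Subgroup.mem_center_iff]
    intro x
    have h1 : (k : G) ∈ (⁅E, E⁆ : Subgroup G) := by
      rw [← Subgroup.map_subtype_commutator]
      exact ⟨k, hk, rfl⟩
    have h2 := (Subgroup.mem_centralizer_iff.1 (hEC x.2)) k h1
    exact Subtype.ext h2.symm
  rw [← Abelianization.ker_of E] at hcen
  let _ := commGroupOfCyclicCenterQuotient Abelianization.of hcen
  intro x hx y hy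
  exact congrArg Subtype.val (mul_comm (⟨x, hx⟩ : E) ⟨y, hy⟩)

variable {G : Type*} [Group G] [Finite G] {O : Type*} [Finite O] [MulAction G O] {h : ℕ}

theorem dvd_sub_one (D : TData G O h) {a b : O} (hab : a ≠ b)
    (he : 2 ≤ Nat.card (stab2 G a b)) (hh : 2 ≤ h) : Nat.card (stab2 G a b) ∣ h - 1 := by
  have hF := frob_compl D hab he hh
  have h1 := (Cfsg.Agent.S0034.result _ hF).2
  rw [index_E' D hab, card_E'] at h1
  exact (Nat.modEq_iff_dvd' (by omega)).1 h1.symm

theorem isZGroup_stab2 (D : TData G O h) {a b : O} (hab : a ≠ b)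
    (he : 2 ≤ Nat.card (stab2 G a b)) (hh : 2 ≤ h) (hodd : Odd (Nat.card (stab2 G a b))) :
    IsZGroup (stab2 G a b) := by
  have hF := frob_compl D hab he hh
  obtain ⟨N, hN, hNn, hc⟩ := Cfsg.Agent.S0035.result _ hF
  have hNcard : Nat.card N = h := by
    have h1 := (Cfsg.Agent.S0034.result _ hF).1
    rw [index_E' D hab, ← hN] at h1
    exact h1
  have hNbot : N ≠ ⊥ := by
    intro hb
    rw [hb, Subgroup.card_bot] at hNcard
    omega
  have hfpf := (Cfsg.Agent.S0039.result N (E' G a b) hc hNbot hF.1).1 hF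
  have hZ : IsZGroup (E' G a b) := by
    constructor
    intro p hp P
    have : Fact p.Prime := ⟨hp⟩
    rcases Cfsg.Agent.S0040.result N (E' G a b) hc hNbot hfpf p P with h | ⟨n, ⟨e⟩⟩
    · exact h
    · exfalso
      have h1 : Nat.card P = 4 * 2 ^ n := by
        have : NeZero (2 ^ n) := ⟨by positivity⟩
        rw [Nat.card_congr e.toEquiv, Nat.card_eq_fintype_card, QuaternionGroup.card]
      have h2 : Nat.card P ∣ Nat.card (E' G a b) := Subgroup.card_subgroup_dvd_card _
      rw [card_E'] at h2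
      have h3 : 2 ∣ Nat.card (stab2 G a b) := Dvd.dvd.trans ⟨2 * 2 ^ n, by rw [h1]; ring⟩ h2
      obtain ⟨k, hk⟩ := hodd
      omega
  exact IsZGroup.of_injective (f := (Subgroup.subgroupOfEquivOfLe
    (inf_le_left : stab2 G a b ≤ MulAction.stabilizer G a)).symm.toMonoidHom)
    (MulEquiv.injective _)

/-- an element conjugating a non-identity element of `E` into `E` preserves the pair -/
theorem pres_pair (D : TData G O h) {a b : O} (hab : a ≠ b) {x u : G} (hx : x ∈ stab2 G a b)
    (hx1 : x ≠ 1) (hu : u * x * u⁻¹ ∈ stab2 G a b) :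
    (u • a = a ∧ u • b = b) ∨ (u • a = b ∧ u • b = a) := by
  rw [mem_stab2] at hx hu
  have h1 : x • (u⁻¹ • a) = u⁻¹ • a := by
    have := hu.1
    rw [mul_smul, mul_smul] at this
    rw [eq_inv_smul_iff]; exact this
  have h2 : x • (u⁻¹ • b) = u⁻¹ • b := by
    have := hu.2
    rw [mul_smul, mul_smul] at this
    rw [eq_inv_smul_iff]; exact this
  have key : ∀ c : O, x • c = c → c = a ∨ c = b := by
    intro c hc
    by_contra hcon
    push Not at hcon
    exact hx1 (D.three_point x a b c hab (Ne.symm hcon.2) (Ne.symm hcon.1) hx.1 hx.2 hc)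
  have hne : u⁻¹ • a ≠ u⁻¹ • b := fun h => hab (smul_left_cancel _ h)
  rcases key _ h1 with h3 | h3 <;> rcases key _ h2 with h4 | h4
  · exact absurd (h3.trans h4.symm) hne
  · left
    exact ⟨(inv_smul_eq_iff.1 h3).symm, (inv_smul_eq_iff.1 h4).symm⟩
  · right
    exact ⟨(inv_smul_eq_iff.1 h4).symm, (inv_smul_eq_iff.1 h3).symm⟩
  · exact absurd (h3.trans h4.symm) hne

theorem commutator_eq_top (hZ : Cfsg.IsZassenhausGroup G O) [IsSimpleGroup G] :
    commutator G = ⊤ := by
  rcases (inferInstance : (commutator G).Normal).eq_bot_or_eq_top with h1 | h1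
  · exfalso
    obtain ⟨g, hg, c, d, hcd, h2, h3⟩ := hZ.2.2.2.1
    have hcomm : ∀ x y : G, x * y = y * x := by
      intro x y
      have : ⁅x, y⁆ ∈ commutator G := Subgroup.commutator_mem_commutator (Subgroup.mem_top x) (Subgroup.mem_top y)
      rw [h1, Subgroup.mem_bot, commutatorElement_eq_one_iff_mul_comm] at this
      exact this
    have := hZ.2.1
    have ht : MulAction.IsPretransitive G O := MulAction.isPretransitive_of_is_two_pretransitive
    have hall : ∀ z : O, g • z = z := by
      intro z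
      obtain ⟨k, rfl⟩ := MulAction.exists_smul_eq G c z
      rw [← mul_smul, hcomm, mul_smul, h2]
    have := hZ.1
    apply hg
    apply FaithfulSMul.eq_of_smul_eq_smul (α := O)
    intro z
    rw [hall, one_smul]
  · exact h1

section main

variable (hZ : Cfsg.IsZassenhausGroup G O) [IsSimpleGroup G] (hh : Nat.card O = h + 1)
  {a b : O} (hab : a ≠ b) (hodd : Odd (Nat.card (stab2 G a b)))

include hZ hh hab hodd

theorem three_le_e : 3 ≤ Nat.card (stab2 G a b) := by
  have := two_le_card_stab2 hZ hh hab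
  obtain ⟨k, hk⟩ := hodd
  omega

theorem four_le_h : 4 ≤ h := by
  have D := tdata_of_zass hZ hh
  have he := three_le_e hZ hh hab hodd
  have h2 : 2 ≤ h := by
    by_contra hcon
    obtain ⟨g, hg, c, d, hcd, h2, h3⟩ := hZ.2.2.2.1
    have := hZ.1
    apply hg
    apply FaithfulSMul.eq_of_smul_eq_smul (α := O)
    intro z
    rw [one_smul]
    by_cases hz : z = c
    · rw [hz, h2]
    by_cases hz' : z = d
    · rw [hz', h3]
    exfalso
    classical
    have : Fintype O := Fintype.ofFinite O
    have h5 : 2 < Fintype.card O := Fintype.two_lt_card_iff.2 ⟨c, d, z, hcd, Ne.symm hz, Ne.symm hz'⟩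
    rw [← Nat.card_eq_fintype_card, hh] at h5
    omega
  have h1 := dvd_sub_one D hab (by omega) h2
  have h3 : h - 1 ≠ 0 := by omega
  have := Nat.le_of_dvd (by omega) h1
  omega

theorem focal_eq : Subgroup.focalSubgroup (stab2 G a b) = stab2 G a b := by
  have D := tdata_of_zass hZ hh
  have he := three_le_e hZ hh hab hodd
  have h4 := four_le_h hZ hh hab hodd
  have hdvd := dvd_sub_one D hab (by omega) (by omega)
  have hidx : (stab2 G a b).index = (h + 1) * h := by
    have h1 := (stab2 G a b).card_mul_index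
    rw [card_G D hab] at h1
    have : 0 < Nat.card (stab2 G a b) := Nat.card_pos
    apply Nat.eq_of_mul_eq_mul_left this
    rw [h1]; ring
  have hcop : Nat.Coprime (stab2 G a b).index (Nat.card (stab2 G a b)) := by
    rw [hidx]
    obtain ⟨k, hk⟩ := hdvd
    have hk' : h = Nat.card (stab2 G a b) * k + 1 := by omega
    set e := Nat.card (stab2 G a b) with he'
    apply Nat.Coprime.mul_left
    · rw [hk']
      have h5 : e * k + 1 + 1 = 2 + e * k := by ring
      rw [h5, Nat.coprime_add_mul_left_left]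
      exact (Nat.coprime_two_left.2 hodd)
    · rw [hk']
      have h5 : e * k + 1 = 1 + e * k := by ring
      rw [h5, Nat.coprime_add_mul_left_left]
      exact Nat.coprime_one_left _
  have h1 := (Cfsg.Agent.S0080.result (stab2 G a b)
    (Nat.Coprime.coprime_dvd_right (Subgroup.relIndex_dvd_card _ _) hcop)).1
  rw [h1, commutator_eq_top hZ, top_inf_eq]

theorem comm : ∀ x ∈ stab2 G a b, ∀ y ∈ stab2 G a b, x * y = y * x := by
  classical
  have : Fintype O := Fintype.ofFinite O
  have D := tdata_of_zass hZ hh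
  have he := three_le_e hZ hh hab hodd
  have h4 := four_le_h hZ hh hab hodd
  have := isZGroup_stab2 D hab (by omega) (by omega) hodd
  apply abelian_of_focal (stab2 G a b) (Subgroup.normalizer ((stab2 G a b : Subgroup G) : Set G)) le_rfl
  conv_lhs => rw [← focal_eq hZ hh hab hodd]
  unfold Subgroup.focalSubgroup
  rw [Subgroup.closure_le]
  rintro g ⟨hg, x, hx, u, rfl⟩
  by_cases hx1 : x = 1
  · rw [hx1]
    simp
  apply Subgroup.commutator_mem_commutator (Subgroup.le_normalizer hx)
  by_contra hu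
  have h5 : u * x⁻¹ * u⁻¹ ∈ stab2 G a b := by
    have h6 : u * x⁻¹ * u⁻¹ = x⁻¹ * ⁅x, u⁆ := by
      rw [commutatorElement_def]; group
    rw [h6]
    exact Subgroup.mul_mem _ (Subgroup.inv_mem _ hx) hg
  have h7 := (Cfsg.Agent.S0879.result hZ hab).1 u hu x⁻¹ (Subgroup.inv_mem _ hx) h5
  exact hx1 (inv_eq_one.1 h7)

theorem inverts {t : G} (ht1 : t • a = b) (ht2 : t • b = a) :
    ∀ x ∈ stab2 G a b, t * x * t⁻¹ = x⁻¹ := by
  have D := tdata_of_zass hZ hh
  have hc := comm hZ hh hab hodd
  have htinv1 : t⁻¹ • a = b := by rw [inv_smul_eq_iff, ht2]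
  have htinv2 : t⁻¹ • b = a := by rw [inv_smul_eq_iff, ht1]
  have htE : ∀ x ∈ stab2 G a b, t * x * t⁻¹ ∈ stab2 G a b := by
    intro x hx
    rw [mem_stab2] at hx ⊢
    constructor
    · rw [mul_smul, mul_smul, htinv1, hx.2, ht2]
    · rw [mul_smul, mul_smul, htinv2, hx.1, ht1]
  have ht2E : t * t ∈ stab2 G a b := by
    rw [mem_stab2]
    constructor
    · rw [mul_smul, ht1, ht2]
    · rw [mul_smul, ht2, ht1]
  let M : Subgroup G :=
    { carrier := {y | y ∈ stab2 G a b ∧ t * y * t⁻¹ = y⁻¹}
      one_mem' := ⟨Subgroup.one_mem _, by simp⟩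
      mul_mem' := by
        rintro y z ⟨hy, hy'⟩ ⟨hz, hz'⟩
        refine ⟨Subgroup.mul_mem _ hy hz, ?_⟩
        have : t * (y * z) * t⁻¹ = (t * y * t⁻¹) * (t * z * t⁻¹) := by group
        rw [this, hy', hz', hc y hy z hz, mul_inv_rev]
      inv_mem' := by
        rintro y ⟨hy, hy'⟩
        refine ⟨Subgroup.inv_mem _ hy, ?_⟩
        have : t * y⁻¹ * t⁻¹ = (t * y * t⁻¹)⁻¹ := by group
        rw [this, hy'] }
  have hM : stab2 G a b ≤ M := by
    conv_lhs => rw [← focal_eq hZ hh hab hodd]
    unfold Subgroup.focalSubgroup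
    rw [Subgroup.closure_le]
    rintro g ⟨hg, x, hx, u, rfl⟩
    by_cases hx1 : x = 1
    · rw [hx1]
      simp
    have h5 : u * x⁻¹ * u⁻¹ ∈ stab2 G a b := by
      have h6 : u * x⁻¹ * u⁻¹ = x⁻¹ * ⁅x, u⁆ := by
        rw [commutatorElement_def]; group
      rw [h6]
      exact Subgroup.mul_mem _ (Subgroup.inv_mem _ hx) hg
    rcases pres_pair D hab (Subgroup.inv_mem _ hx) (fun h => hx1 (inv_eq_one.1 h)) h5 with h7 | h7
    · have hu : u ∈ stab2 G a b := mem_stab2.2 h7
      have : ⁅x, u⁆ = 1 := by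
        rw [commutatorElement_eq_one_iff_mul_comm]
        exact hc x hx u hu
      rw [this]
      exact Subgroup.one_mem _
    · have hy : t⁻¹ * u ∈ stab2 G a b := by
        rw [mem_stab2]
        constructor
        · rw [mul_smul, h7.1, htinv2]
        · rw [mul_smul, h7.2, htinv1]
      have h8 : u * x⁻¹ * u⁻¹ = t * x⁻¹ * t⁻¹ := by
        have h9 := hc (t⁻¹ * u) hy x⁻¹ (Subgroup.inv_mem _ hx)
        calc u * x⁻¹ * u⁻¹ = t * ((t⁻¹ * u) * x⁻¹) * u⁻¹ := by group
          _ = t * (x⁻¹ * (t⁻¹ * u)) * u⁻¹ := by rw [h9]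
          _ = t * x⁻¹ * t⁻¹ := by group
      have h10 : ⁅x, u⁆ = x * (t * x⁻¹ * t⁻¹) := by
        rw [← h8, commutatorElement_def]; group
      refine ⟨hg, ?_⟩
      rw [h10]
      have h11 := hc (t * t) ht2E x⁻¹ (Subgroup.inv_mem _ hx)
      calc t * (x * (t * x⁻¹ * t⁻¹)) * t⁻¹ = t * x * t⁻¹ * ((t * t) * x⁻¹) * t⁻¹ * t⁻¹ := by group
        _ = t * x * t⁻¹ * (x⁻¹ * (t * t)) * t⁻¹ * t⁻¹ := by rw [h11]
        _ = (x * (t * x⁻¹ * t⁻¹))⁻¹ := by group
  intro x hx
  exact (hM hx).2

end main

end Cfsg.Agent.Lib.Helper61Feit3
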