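import Cfsg.Agent.Lib.Helper61Feit3

set_option autoImplicit false
set_option linter.unusedVariables false
set_option linter.unusedSectionVars false
set_option linter.unusedSimpArgs false

/-! Involutions in simple Zassenhaus groups with two point stabilisers of odd order. -/

namespace Cfsg.Agent.Lib.Helper61Feit4

open Cfsg.Agent.Lib.Helper61Zass Cfsg.Agent.Lib.Helper61Feit Cfsg.Agent.Lib.Helper61Feit2
  Cfsg.Agent.Lib.Helper61Feit3

variable {G : Type*} [Group G] [Finite G] {O : Type*} [Finite O] [MulAction G O] {h : ℕ}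

theorem sq_of_order_two {s : G} (hs : orderOf s = 2) : s * s = 1 := by
  rw [← pow_two, ← hs, pow_orderOf_eq_one]

theorem ne_one_of_order_two {s : G} (hs : orderOf s = 2) : s ≠ 1 := by
  intro h
  rw [h, orderOf_one] at hs
  omega

theorem inv_of_order_two {s : G} (hs : orderOf s = 2) : s⁻¹ = s :=
  inv_eq_of_mul_eq_one_left (sq_of_order_two hs)

theorem orderOf_conj (g s : G) : orderOf (g * s * g⁻¹) = orderOf s := by
  have := orderOf_injective (MulAut.conj g).toMonoidHom (MulAut.conj g).injective s
  simpa using this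

section main

variable (hZ : Cfsg.IsZassenhausGroup G O) [IsSimpleGroup G] (hh : Nat.card O = h + 1)

include hZ hh

theorem odd_all {a b : O} (hab : a ≠ b) (hodd : Odd (Nat.card (stab2 G a b))) {c d : O}
    (hcd : c ≠ d) : Odd (Nat.card (stab2 G c d)) := by
  rw [card_stab2_eq (tdata_of_zass hZ hh) hcd hab]; exact hodd

theorem exists_swap {a b : O} (hab : a ≠ b) : ∃ s : G, orderOf s = 2 ∧ s • a = b ∧ s • b = a := by
  classical
  have : Fintype O := Fintype.ofFinite O
  exact (Cfsg.Agent.S0740.result hZ hab).1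

theorem swap_back {a b : O} {s : G} (hs : orderOf s = 2) (h1 : s • a = b) : s • b = a := by
  rw [← h1, ← mul_smul, sq_of_order_two hs, one_smul]

theorem invol_mul {a b : O} (hab : a ≠ b) (hodd : Odd (Nat.card (stab2 G a b))) {t x : G}
    (ht : orderOf t = 2) (h1 : t • a = b) (hx : x ∈ stab2 G a b) : orderOf (t * x) = 2 := by
  have h2 := swap_back hZ hh ht h1
  have hinv := inverts hZ hh hab hodd h1 h2 x hx
  have : Fact (Nat.Prime 2) := ⟨Nat.prime_two⟩
  apply orderOf_eq_prime
  · have h3 : t * x = x⁻¹ * t := by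
      rw [← hinv]; group
    rw [pow_two]
    calc t * x * (t * x) = (t * x) * t * x := by group
      _ = x⁻¹ * t * t * x := by rw [h3]
      _ = x⁻¹ * (t * t) * x := by group
      _ = 1 := by rw [sq_of_order_two ht]; group
  · intro h3
    apply hab
    have : (t * x) • a = b := by rw [mul_smul, (mem_stab2.1 hx).1, h1]
    rw [h3, one_smul] at this
    exact this

theorem card_invol_swap {a b : O} (hab : a ≠ b) (hodd : Odd (Nat.card (stab2 G a b))) :
    Nat.card {s : G // orderOf s = 2 ∧ s • a = b} = Nat.card (stab2 G a b) := by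
  obtain ⟨t, ht, h1, h2⟩ := exists_swap hZ hh hab
  symm
  apply Nat.card_congr
  refine
    { toFun := fun x => ⟨t * x, invol_mul hZ hh hab hodd ht h1 x.2, by
        rw [mul_smul, (mem_stab2.1 x.2).1, h1]⟩
      invFun := fun s => ⟨t⁻¹ * s, by
        rw [mem_stab2]
        constructor
        · rw [mul_smul, s.2.2, inv_smul_eq_iff, h1]
        · rw [mul_smul, swap_back hZ hh s.2.1 s.2.2, inv_smul_eq_iff, h2]⟩
      left_inv := fun x => by
        apply Subtype.ext
        show t⁻¹ * (t * (x : G)) = x
        group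
      right_inv := fun s => by
        apply Subtype.ext
        show t * (t⁻¹ * (s : G)) = s
        group }

theorem invol_not_fix_two {a b : O} (hab : a ≠ b) (hodd : Odd (Nat.card (stab2 G a b))) {s : G}
    (hs : orderOf s = 2) {c d : O} (hc : s • c = c) (hd : s • d = d) : c = d := by
  by_contra hcd
  have h1 := odd_all hZ hh hab hodd hcd
  have h2 : orderOf (⟨s, mem_stab2.2 ⟨hc, hd⟩⟩ : stab2 G c d) = 2 := by
    rw [← hs]
    exact Subgroup.orderOf_mk s _
  have h3 := orderOf_dvd_natCard (⟨s, mem_stab2.2 ⟨hc, hd⟩⟩ : stab2 G c d)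
  rw [h2] at h3
  obtain ⟨k, hk⟩ := h1
  omega

theorem invol_fpf_of_odd {a b : O} (hab : a ≠ b) (hodd : Odd (Nat.card (stab2 G a b)))
    (hho : Odd h) {s : G} (hs : orderOf s = 2) (c : O) : s • c ≠ c := by
  intro hc
  have D := tdata_of_zass hZ hh
  obtain ⟨d, hd, -⟩ := exists_third D (by have := four_le_h hZ hh hab hodd; omega) c c
  have h1 := odd_all hZ hh hab hodd (Ne.symm hd)
  have h2 := card_stab D (Ne.symm hd)
  have h3 : orderOf (⟨s, hc⟩ : MulAction.stabilizer G c) = 2 := by
    rw [← hs]
    exact Subgroup.orderOf_mk s _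
  have h4 := orderOf_dvd_natCard (⟨s, hc⟩ : MulAction.stabilizer G c)
  rw [h3, h2] at h4
  have h5 : Odd (h * Nat.card (stab2 G c d)) := hho.mul h1
  obtain ⟨k, hk⟩ := h5
  omega

theorem invol_fix_of_even (hhe : Even h) {s : G} (hs : orderOf s = 2) : ∃ c : O, s • c = c := by
  classical
  have : Fintype O := Fintype.ofFinite O
  have : Fact (Nat.Prime 2) := ⟨Nat.prime_two⟩
  let f : Function.End O := fun a => s • a
  have hf : f ^ 2 ^ 1 = 1 := by
    rw [pow_one, pow_two]
    funext a
    show s • s • a = a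
    rw [← mul_smul, sq_of_order_two hs, one_smul]
  have h1 := Equiv.Perm.card_fixedPoints_modEq hf
  rw [← Nat.card_eq_fintype_card, hh] at h1
  have h2 : Fintype.card (Function.fixedPoints f) ≠ 0 := by
    intro h0
    rw [h0] at h1
    obtain ⟨k, hk⟩ := hhe
    unfold Nat.ModEq at h1
    omega
  obtain ⟨c⟩ := Fintype.card_pos_iff.1 (Nat.pos_of_ne_zero h2)
  exact ⟨c.1, c.2⟩

/-- number of points moved by an involution -/
theorem card_moved {a b : O} (hab : a ≠ b) (hodd : Odd (Nat.card (stab2 G a b))) {s : G}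
    (hs : orderOf s = 2) :
    Nat.card {c : O // s • c ≠ c} = if Even h then h else h + 1 := by
  classical
  have : Fintype O := Fintype.ofFinite O
  split_ifs with hhe
  · obtain ⟨c, hc⟩ := invol_fix_of_even hZ hh hhe hs
    have h1 : ∀ d : O, s • d ≠ d ↔ d ≠ c := by
      intro d
      constructor
      · intro h1 h2
        exact h1 (by rw [h2]; exact hc)
      · intro h1 h2
        exact h1 (invol_not_fix_two hZ hh hab hodd hs h2 hc)
    rw [Nat.card_congr (Equiv.subtypeEquivRight h1), Nat.card_eq_fintype_card,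
      Fintype.card_subtype_compl, Fintype.card_subtype_eq, ← Nat.card_eq_fintype_card, hh]
    rfl
  · rw [Nat.not_even_iff_odd] at hhe
    have h1 : ∀ d : O, s • d ≠ d ↔ True := fun d =>
      ⟨fun _ => trivial, fun _ => invol_fpf_of_odd hZ hh hab hodd hhe hs d⟩
    rw [Nat.card_congr (Equiv.subtypeEquivRight h1), Nat.card_congr (Equiv.subtypeUnivEquiv
      (fun _ => trivial)), hh]

/-- the number of involutions -/
theorem card_invol_mul {a b : O} (hab : a ≠ b) (hodd : Odd (Nat.card (stab2 G a b))) :
    Nat.card {s : G // orderOf s = 2} * (if Even h then h else h + 1)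
      = (h + 1) * h * Nat.card (stab2 G a b) := by
  classical
  have : Fintype O := Fintype.ofFinite O
  have : Fintype G := Fintype.ofFinite G
  have D := tdata_of_zass hZ hh
  have h1 : ∑ s : G, ∑ c : O, (if orderOf s = 2 ∧ s • c ≠ c then 1 else 0)
      = Nat.card {s : G // orderOf s = 2} * (if Even h then h else h + 1) := by
    have h2 : ∀ s : G, ∑ c : O, (if orderOf s = 2 ∧ s • c ≠ c then 1 else 0)
        = if orderOf s = 2 then (if Even h then h else h + 1) else 0 := by
      intro s
      by_cases hs : orderOf s = 2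
      · rw [if_pos hs, ← card_moved hZ hh hab hodd hs, Nat.card_eq_fintype_card,
          Fintype.card_subtype, Finset.card_filter]
        apply Finset.sum_congr rfl
        intro c _
        simp [hs]
      · rw [if_neg hs]
        apply Finset.sum_eq_zero
        intro c _
        simp [hs]
    rw [Finset.sum_congr rfl (fun s _ => h2 s), Finset.sum_ite, Finset.sum_const_zero, add_zero,
      Finset.sum_const, smul_eq_mul, Nat.card_eq_fintype_card, Fintype.card_subtype]
  rw [← h1, Finset.sum_comm]
  have h3 : ∀ c : O, ∑ s : G, (if orderOf s = 2 ∧ s • c ≠ c then 1 else 0)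
      = h * Nat.card (stab2 G a b) := by
    intro c
    have h4 : ∀ s : G, (if orderOf s = 2 ∧ s • c ≠ c then 1 else 0)
        = ∑ d : O, (if d ≠ c ∧ (orderOf s = 2 ∧ s • c = d) then 1 else 0) := by
      intro s
      by_cases hs : orderOf s = 2 ∧ s • c ≠ c
      · rw [if_pos hs, Finset.sum_eq_single (s • c)]
        · rw [if_pos ⟨hs.2, hs.1, rfl⟩]
        · intro d _ hd
          rw [if_neg]
          rintro ⟨-, -, h5⟩
          exact hd h5.symm
        · intro h5
          exact absurd (Finset.mem_univ _) h5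
      · rw [if_neg hs]
        symm
        apply Finset.sum_eq_zero
        intro d _
        rw [if_neg]
        rintro ⟨h5, h6, h7⟩
        exact hs ⟨h6, by rw [h7]; exact h5⟩
    rw [Finset.sum_congr rfl (fun s _ => h4 s), Finset.sum_comm]
    have h5 : ∀ d : O, ∑ s : G, (if d ≠ c ∧ (orderOf s = 2 ∧ s • c = d) then 1 else 0)
        = if d ≠ c then Nat.card (stab2 G a b) else 0 := by
      intro d
      by_cases hd : d ≠ c
      · rw [if_pos hd, card_stab2_eq D hab (Ne.symm hd),
          ← card_invol_swap hZ hh (Ne.symm hd) (odd_all hZ hh hab hodd (Ne.symm hd)),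
          Nat.card_eq_fintype_card, Fintype.card_subtype, Finset.card_filter]
        apply Finset.sum_congr rfl
        intro s _
        simp [hd]
      · rw [if_neg hd]
        apply Finset.sum_eq_zero
        intro s _
        simp [hd]
    rw [Finset.sum_congr rfl (fun d _ => h5 d), Finset.sum_ite, Finset.sum_const_zero, add_zero,
      Finset.sum_const, smul_eq_mul]
    congr 1
    rw [Finset.filter_ne' Finset.univ c, Finset.card_erase_of_mem (Finset.mem_univ _),
      Finset.card_univ, ← Nat.card_eq_fintype_card, hh]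
    rfl
  rw [Finset.sum_congr rfl (fun c _ => h3 c), Finset.sum_const, smul_eq_mul, Finset.card_univ,
    ← Nat.card_eq_fintype_card, hh]
  ring

theorem card_invol {a b : O} (hab : a ≠ b) (hodd : Odd (Nat.card (stab2 G a b))) :
    Nat.card {s : G // orderOf s = 2}
      = if Even h then Nat.card (stab2 G a b) * (h + 1) else Nat.card (stab2 G a b) * h := by
  have h1 := card_invol_mul hZ hh hab hodd
  have h4 := four_le_h hZ hh hab hodd
  split_ifs at h1 ⊢ with hhe
  · apply Nat.eq_of_mul_eq_mul_right (show 0 < h by omega)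
    rw [h1]; ring
  · apply Nat.eq_of_mul_eq_mul_right (show 0 < h + 1 by omega)
    rw [h1]; ring

theorem invol_conj {a b : O} (hab : a ≠ b) (hodd : Odd (Nat.card (stab2 G a b))) {x y : G}
    (hx : orderOf x = 2) (hy : orderOf y = 2) : IsConj x y := by
  have D := tdata_of_zass hZ hh
  obtain ⟨t, ht, h1, h2⟩ := exists_swap hZ hh hab
  have hc := comm hZ hh hab hodd
  have key : ∀ s : G, orderOf s = 2 → ∃ w ∈ stab2 G a b, IsConj s (t * w) := by
    intro s hs
    have hmove : ∃ c : O, s • c ≠ c := by
      by_contra hcon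
      push Not at hcon
      have := hZ.1
      apply ne_one_of_order_two hs
      apply FaithfulSMul.eq_of_smul_eq_smul (α := O)
      intro z
      rw [hcon, one_smul]
    obtain ⟨c, hc'⟩ := hmove
    obtain ⟨g, hg1, hg2⟩ := exists_smul_pair D (Ne.symm hc') hab
    have h3 : (g * s * g⁻¹) • a = b := by
      rw [mul_smul, mul_smul, ← hg1, inv_smul_smul, hg2]
    have h4 : orderOf (g * s * g⁻¹) = 2 := by rw [orderOf_conj, hs]
    have h5 := swap_back hZ hh h4 h3
    refine ⟨t⁻¹ * (g * s * g⁻¹), ?_, ?_⟩
    · rw [mem_stab2]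
      constructor
      · rw [mul_smul, h3, inv_smul_eq_iff, h1]
      · rw [mul_smul, h5, inv_smul_eq_iff, h2]
    · rw [isConj_iff]
      exact ⟨g, by group⟩
  have key2 : ∀ w ∈ stab2 G a b, IsConj t (t * w) := by
    intro w hw
    obtain ⟨k, hk⟩ := hodd
    -- y := w ^ k satisfies y⁻² = w  (as w ^ (2k+1) = 1)
    have hw1 : w ^ (2 * k + 1) = 1 := by
      have := pow_card_eq_one' (G := stab2 G a b) (x := ⟨w, hw⟩)
      rw [hk] at this
      exact congrArg Subtype.val this
    have hyE : w ^ k ∈ stab2 G a b := Subgroup.pow_mem _ hw k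
    have hinv := inverts hZ hh hab ⟨k, hk⟩ h1 h2 (w ^ k) hyE
    rw [isConj_iff]
    refine ⟨w ^ k, ?_⟩
    have h3 : w ^ k * t = t * (w ^ k)⁻¹ := by
      have : t * (w ^ k)⁻¹ * t⁻¹ = w ^ k := by
        have h4 : t * (w ^ k)⁻¹ * t⁻¹ = (t * w ^ k * t⁻¹)⁻¹ := by group
        rw [h4, hinv, inv_inv]
      calc w ^ k * t = (t * (w ^ k)⁻¹ * t⁻¹) * t := by rw [this]
        _ = t * (w ^ k)⁻¹ := by group
    have h5 : (w ^ k)⁻¹ * (w ^ k)⁻¹ = w := by
      have h6 : w * (w ^ k * w ^ k) = 1 := by
        rw [← pow_add, ← pow_succ', ← hw1]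
        congr 1; ring
      have h7 : (w ^ k)⁻¹ * (w ^ k)⁻¹ = (w ^ k * w ^ k)⁻¹ := by group
      rw [h7]
      exact (eq_inv_of_mul_eq_one_left h6).symm
    rw [h3, mul_assoc, h5]
  obtain ⟨w1, hw1, hc1⟩ := key x hx
  obtain ⟨w2, hw2, hc2⟩ := key y hy
  exact hc1.trans ((key2 w1 hw1).symm.trans ((key2 w2 hw2).trans hc2.symm))

end main

end Cfsg.Agent.Lib.Helper61Feit4
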