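import Cfsg.Agent.Lib.Helper19TIFN2
import Cfsg.Agent.Lib.Helper61Feit5
import Cfsg.Agent.Lib.Helper83Char
import Mathlib

set_option autoImplicit false

/-! Character theory of a group `L` with a normal subgroup `K` off which every irreducible
character not containing `K` in its kernel vanishes (Frobenius groups). -/

namespace Cfsg.Agent.Lib.Helper61Feit7

open Cfsg Cfsg.Agent.Lib.Helper4Char Cfsg.Agent.Lib.Helper4Char2 Cfsg.Agent.Lib.Helper4Char4
open scoped ComplexConjugate Classical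

variable {L : Type*} [Group L] [Fintype L] (K : Subgroup L) [K.Normal]

/-- the irreducible characters with `K` in the kernel -/
noncomputable def NS : Finset (IrrCharacter L) :=
  Finset.univ.filter (fun χ => ∀ k ∈ K, (χ : L → ℂ) k = (χ : L → ℂ) 1)

/-- the irreducible characters without `K` in the kernel -/
noncomputable def SF : Finset (IrrCharacter L) :=
  Finset.univ.filter (fun χ => ¬ ∀ k ∈ K, (χ : L → ℂ) k = (χ : L → ℂ) 1)

omit [K.Normal] in
theorem mem_NS {χ : IrrCharacter L} : χ ∈ NS K ↔ ∀ k ∈ K, (χ : L → ℂ) k = (χ : L → ℂ) 1 := by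
  simp [NS]

omit [K.Normal] in
theorem mem_SF {χ : IrrCharacter L} : χ ∈ SF K ↔ ∃ k ∈ K, (χ : L → ℂ) k ≠ (χ : L → ℂ) 1 := by
  simp [SF]

omit [K.Normal] in
theorem sum_split (F : IrrCharacter L → ℂ) :
    ∑ χ, F χ = ∑ χ ∈ NS K, F χ + ∑ χ ∈ SF K, F χ :=
  (Finset.sum_filter_add_sum_filter_not Finset.univ _ F).symm

theorem sum_NS_sq : ∑ χ ∈ NS K, (χ : L → ℂ) 1 ^ 2 = (K.index : ℂ) :=
  Cfsg.Agent.Lib.Helper19TIFN.sum_deg_sq_ker K

theorem sum_SF_sq : ∑ χ ∈ SF K, (χ : L → ℂ) 1 ^ 2 = (Nat.card L : ℂ) - (K.index : ℂ) := by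
  have h1 := sum_degree_sq (G := L)
  rw [sum_split K, sum_NS_sq] at h1
  linear_combination h1

/-- the regular character of `L ⧸ K`, inflated -/
noncomputable def R : L → ℂ := ∑ ν ∈ NS K, (ν : L → ℂ) 1 • (ν : L → ℂ)

omit [K.Normal] in
theorem R_char : IsCharacter L (R K) := by
  apply IsCharacter.sum
  intro ν _
  obtain ⟨n, -, hn⟩ := IsIrrCharacter.exists_degree ν.2
  rw [hn]
  exact IsCharacter.natCast_smul n (IsIrrCharacter.isCharacter ν.2)

variable (hv : ∀ χ ∈ SF K, ∀ x : L, x ∉ K → (χ : L → ℂ) x = 0)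

include hv in
theorem R_apply (x : L) : R K x = if x ∈ K then (K.index : ℂ) else 0 := by
  have h0 : R K x = ∑ ν ∈ NS K, (ν : L → ℂ) 1 * (ν : L → ℂ) x := by
    simp [R, Finset.sum_apply]
  rw [h0]
  by_cases hx : x ∈ K
  · rw [if_pos hx, ← sum_NS_sq K]
    apply Finset.sum_congr rfl
    intro ν hν
    rw [(mem_NS K).1 hν x hx]
    ring
  · rw [if_neg hx]
    have hx1 : x ≠ 1 := fun h => hx (h ▸ K.one_mem)
    have h1 := sum_degree_mul x
    rw [if_neg hx1, sum_split K] at h1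
    have h2 : ∑ χ ∈ SF K, (χ : L → ℂ) 1 * (χ : L → ℂ) x = 0 := by
      apply Finset.sum_eq_zero
      intro χ hχ
      rw [hv χ hχ x hx, mul_zero]
    rw [h2, add_zero] at h1
    exact h1

omit [K.Normal] in
theorem sum_ite_mem (ψ : L → ℂ) (c : ℂ) (hψ : ∀ x ∈ K, x ≠ 1 → ψ x = c) :
    ∑ x : L, (if x ∈ K then ψ x else 0) = ψ 1 + ((Nat.card K : ℂ) - 1) * c := by
  have h1 : ∀ x : L, (if x ∈ K then ψ x else 0)
      = (if x ∈ K then c else 0) + (if x = 1 then ψ 1 - c else 0) := by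
    intro x
    by_cases hx : x ∈ K
    · by_cases hx1 : x = 1
      · subst hx1
        simp [K.one_mem]
      · simp [hx, hx1, hψ x hx hx1]
    · have hx1 : x ≠ 1 := fun h => hx (h ▸ K.one_mem)
      simp [hx, hx1]
  rw [Finset.sum_congr rfl (fun x _ => h1 x), Finset.sum_add_distrib, Finset.sum_ite_eq']
  rw [if_pos (Finset.mem_univ _), ← Finset.sum_filter, Finset.sum_const, nsmul_eq_mul]
  have h2 : (Finset.univ.filter (fun x : L => x ∈ K)).card = Nat.card K := by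
    rw [Nat.card_eq_fintype_card, Fintype.card_subtype]
  rw [h2]
  ring

include hv in
theorem inner_R (ψ : L → ℂ) (c : ℂ) (hψ : ∀ x ∈ K, x ≠ 1 → ψ x = c) :
    classInner ψ (R K) * (Nat.card K : ℂ) = ψ 1 + ((Nat.card K : ℂ) - 1) * c := by
  unfold classInner
  have h1 : ∀ x : L, ψ x * conj (R K x) = (K.index : ℂ) * (if x ∈ K then ψ x else 0) := by
    intro x
    rw [R_apply K hv]
    by_cases hx : x ∈ K
    · simp [hx, mul_comm]
    · simp [hx]
  rw [Finset.sum_congr rfl (fun x _ => h1 x), ← Finset.mul_sum, sum_ite_mem K ψ c hψ]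
  have h2 : (Nat.card L : ℂ) = (Nat.card K : ℂ) * (K.index : ℂ) := by
    rw [← K.card_mul_index]; push_cast; ring
  have h3 : (Nat.card K : ℂ) ≠ 0 := Nat.cast_ne_zero.2 Nat.card_pos.ne'
  have h4 : (K.index : ℂ) ≠ 0 := Nat.cast_ne_zero.2 Subgroup.index_ne_zero_of_finite
  rw [h2]
  field_simp

omit [K.Normal] in
theorem ne_one_of_mem_SF {χ : IrrCharacter L} (hχ : χ ∈ SF K) : (χ : L → ℂ) ≠ fun _ => 1 := by
  intro h
  obtain ⟨k, -, hk⟩ := (mem_SF K).1 hχ
  rw [h] at hk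
  exact hk rfl

omit [K.Normal] in
include hv in
theorem inner_S (ψ : L → ℂ) (c : ℂ) (hψ : ∀ x ∈ K, x ≠ 1 → ψ x = c) {χ : IrrCharacter L}
    (hχ : χ ∈ SF K) :
    classInner ψ χ * (Nat.card L : ℂ) = (ψ 1 - c) * (χ : L → ℂ) 1 := by
  unfold classInner
  have h0 : ∑ x : L, conj ((χ : L → ℂ) x) = 0 := by
    rw [← map_sum, Cfsg.Agent.Lib.Helper83Char.irr_sum_eq_zero χ.2 (ne_one_of_mem_SF K hχ), map_zero]
  have h1 : ∀ x : L, ψ x * conj ((χ : L → ℂ) x)
      = c * conj ((χ : L → ℂ) x) + (if x = 1 then (ψ 1 - c) * (χ : L → ℂ) 1 else 0) := by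
    intro x
    by_cases hx1 : x = 1
    · subst hx1
      rw [if_pos rfl, IsCharacter.conj_degree (IsIrrCharacter.isCharacter χ.2)]
      ring
    · rw [if_neg hx1, add_zero]
      by_cases hx : x ∈ K
      · rw [hψ x hx hx1]
      · rw [hv χ hχ x hx, map_zero, mul_zero, mul_zero]
  rw [Finset.sum_congr rfl (fun x _ => h1 x), Finset.sum_add_distrib, ← Finset.mul_sum, h0,
    mul_zero, zero_add, Finset.sum_ite_eq', if_pos (Finset.mem_univ _)]
  have h3 : (Nat.card L : ℂ) ≠ 0 := Nat.cast_ne_zero.2 Nat.card_pos.ne'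
  field_simp

omit [K.Normal] in
theorem sum_ite_mem_ne (ψ : L → ℂ) :
    ∑ x : L, (if x ∈ K ∧ x ≠ 1 then ψ x else 0) = ∑ x : L, (if x ∈ K then ψ x else 0) - ψ 1 := by
  have h1 : ∀ x : L, (if x ∈ K then ψ x else 0)
      = (if x ∈ K ∧ x ≠ 1 then ψ x else 0) + (if x = 1 then ψ 1 else 0) := by
    intro x
    by_cases hx1 : x = 1
    · subst hx1
      simp [K.one_mem]
    · by_cases hx : x ∈ K <;> simp [hx, hx1]
  rw [Finset.sum_congr rfl (fun x _ => h1 x), Finset.sum_add_distrib, Finset.sum_ite_eq',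
    if_pos (Finset.mem_univ _)]
  ring

omit [K.Normal] in
theorem sum_norm_irr (η : IrrCharacter L) :
    ∑ x : L, (η : L → ℂ) x * conj ((η : L → ℂ) x) = (Nat.card L : ℂ) := by
  have h := classInner_irr_self η.2
  unfold classInner at h
  have h3 : (Nat.card L : ℂ) ≠ 0 := Nat.cast_ne_zero.2 Nat.card_pos.ne'
  field_simp at h
  exact h

include hv in
/-- the number of conjugacy classes of `L` inside `K \ {1}` -/
theorem card_classes :
    Nat.card {C : ConjClasses L // ∃ x : L, ConjClasses.mk x = C ∧ x ∈ K ∧ x ≠ 1}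
      = (SF K).card := by
  have hP : ∀ g : L, (∃ x : L, ConjClasses.mk x = ConjClasses.mk g ∧ x ∈ K ∧ x ≠ 1)
      ↔ (g ∈ K ∧ g ≠ 1) := by
    intro g
    constructor
    · rintro ⟨x, hx, hxK, hx1⟩
      rw [ConjClasses.mk_eq_mk_iff_isConj, isConj_iff] at hx
      obtain ⟨c, rfl⟩ := hx
      refine ⟨(inferInstance : K.Normal).conj_mem x hxK c, ?_⟩
      intro h
      apply hx1
      have : x = c⁻¹ * (c * x * c⁻¹) * c := by group
      rw [this, h]; group
    · intro h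
      exact ⟨g, rfl, h⟩
  have hsum := Cfsg.Agent.Lib.Helper61Feit5.sum_card_centralizer (G := L)
    (fun C => ∃ x : L, ConjClasses.mk x = C ∧ x ∈ K ∧ x ≠ 1)
  have hsum' := congrArg (Nat.cast : ℕ → ℂ) hsum
  push_cast at hsum'
  have h1 : ∀ g : L, ((if (∃ x : L, ConjClasses.mk x = ConjClasses.mk g ∧ x ∈ K ∧ x ≠ 1)
      then (Nat.card (Subgroup.centralizer ({g} : Set L)) : ℂ) else 0))
      = ∑ η : IrrCharacter L, (if g ∈ K ∧ g ≠ 1 then (η : L → ℂ) g * conj ((η : L → ℂ) g) else 0) := by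
    intro g
    by_cases hg : g ∈ K ∧ g ≠ 1
    · rw [if_pos ((hP g).2 hg)]
      have := col_orth g g
      rw [if_pos (IsConj.refl g)] at this
      rw [← this]
      apply Finset.sum_congr rfl
      intro η _
      rw [if_pos hg]
    · rw [if_neg (fun h => hg ((hP g).1 h))]
      symm
      apply Finset.sum_eq_zero
      intro η _
      rw [if_neg hg]
  rw [Finset.sum_congr rfl (fun g _ => h1 g), Finset.sum_comm, sum_split K] at hsum'
  have h2 : ∀ η ∈ NS K, ∑ g : L, (if g ∈ K ∧ g ≠ 1 then (η : L → ℂ) g * conj ((η : L → ℂ) g) else 0)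
      = ((Nat.card K : ℂ) - 1) * (η : L → ℂ) 1 ^ 2 := by
    intro η hη
    rw [sum_ite_mem_ne K (fun g => (η : L → ℂ) g * conj ((η : L → ℂ) g)),
      sum_ite_mem K _ ((η : L → ℂ) 1 ^ 2)]
    · rw [IsCharacter.conj_degree (IsIrrCharacter.isCharacter η.2)]
      ring
    · intro x hx _
      rw [(mem_NS K).1 hη x hx, IsCharacter.conj_degree (IsIrrCharacter.isCharacter η.2)]
      ring
  have h3 : ∀ η ∈ SF K, ∑ g : L, (if g ∈ K ∧ g ≠ 1 then (η : L → ℂ) g * conj ((η : L → ℂ) g) else 0)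
      = (Nat.card L : ℂ) - (η : L → ℂ) 1 ^ 2 := by
    intro η hη
    rw [sum_ite_mem_ne K (fun g => (η : L → ℂ) g * conj ((η : L → ℂ) g)), ← sum_norm_irr η,
      IsCharacter.conj_degree (IsIrrCharacter.isCharacter η.2)]
    congr 1
    · apply Finset.sum_congr rfl
      intro x _
      by_cases hx : x ∈ K
      · rw [if_pos hx]
      · rw [if_neg hx, hv η hη x hx, zero_mul]
    · ring
  rw [Finset.sum_congr rfl h2, Finset.sum_congr rfl h3, ← Finset.mul_sum, sum_NS_sq,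
    Finset.sum_sub_distrib, sum_SF_sq, Finset.sum_const, nsmul_eq_mul] at hsum'
  have h4 : (Nat.card L : ℂ) = (Nat.card K : ℂ) * (K.index : ℂ) := by
    rw [← K.card_mul_index]; push_cast; ring
  have h5 : (Nat.card L : ℂ) ≠ 0 := Nat.cast_ne_zero.2 Nat.card_pos.ne'
  have h6 : ((SF K).card : ℂ) * (Nat.card L : ℂ)
      = (Nat.card {C : ConjClasses L // ∃ x : L, ConjClasses.mk x = C ∧ x ∈ K ∧ x ≠ 1} : ℂ)
        * (Nat.card L : ℂ) := by
    rw [← hsum']
    linear_combination h4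
  have h7 := mul_right_cancel₀ h5 h6
  exact_mod_cast h7.symm

end Cfsg.Agent.Lib.Helper61Feit7
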