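import Cfsg.Agent.Lib.Helper61Zass

set_option autoImplicit false
set_option linter.unusedVariables false
set_option linter.unusedSectionVars false
set_option linter.unusedSimpArgs false

namespace Cfsg.Agent.Lib.Helper61Fix2

open Cfsg.Agent.Lib.Helper61Zass

/-- extra data: the point stabiliser, its normal Sylow 2-subgroup `Q` and `Z = Ω₁(Q)` -/
structure QData (G : Type*) [Group G] (O : Type*) [MulAction G O] (q : ℕ) (inf : O)
    (Q Z : Subgroup G) : Prop where
  Q_fix : ∀ u ∈ Q, u • inf = inf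
  Q_card : Nat.card Q = q ^ 2
  Q_normal : ∀ b : G, b • inf = inf → ∀ u ∈ Q, b * u * b⁻¹ ∈ Q
  Q_semireg : ∀ u ∈ Q, u ≠ 1 → ∀ a : O, u • a = a → a = inf
  Q_cent : ∀ u ∈ Q, u ≠ 1 → ∀ g : G, Commute g u → g ∈ Q
  Z_le : Z ≤ Q
  Z_card : Nat.card Z = q
  Z_central : ∀ t ∈ Z, ∀ u ∈ Q, Commute u t
  invol_mem : ∀ t : G, t ^ 2 = 1 → t • inf = inf → t ∈ Z
  Z_conj : ∀ s ∈ Z, ∀ t ∈ Z, s ≠ 1 → t ≠ 1 → ∃ g : G, g * s * g⁻¹ = t
  stab_comm : ∀ a b : O, a ≠ b → ∀ g h : G, g • a = a → g • b = b → h • a = a → h • b = b →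
    Commute g h

section

variable {G : Type*} [Group G] [Finite G] {O : Type*} [Finite O] [MulAction G O] {q : ℕ}

/-- order of a two-point stabiliser -/
theorem card_stab_two (D : ZData G O q) {a b : O} (hab : a ≠ b) :
    Nat.card (MulAction.stabilizer G a ⊓ MulAction.stabilizer G b : Subgroup G) = q - 1 := by
  classical
  have : Fintype O := Fintype.ofFinite O
  have h2t := D.two_trans
  have hq := q_ge D
  have h1 := MulAction.index_stabilizer_of_transitive G (Function.Embedding.embFinTwo hab)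
  have h2 := (MulAction.stabilizer G (Function.Embedding.embFinTwo hab)).card_mul_index
  have h3 : MulAction.stabilizer G (Function.Embedding.embFinTwo hab)
      = MulAction.stabilizer G a ⊓ MulAction.stabilizer G b := by
    ext g
    rw [MulAction.mem_stabilizer_iff, Subgroup.mem_inf, MulAction.mem_stabilizer_iff,
      MulAction.mem_stabilizer_iff]
    constructor
    · intro h
      constructor
      · have := DFunLike.congr_fun h 0
        rwa [Function.Embedding.smul_apply, Function.Embedding.embFinTwo_apply_zero] at this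
      · have := DFunLike.congr_fun h 1
        rwa [Function.Embedding.smul_apply, Function.Embedding.embFinTwo_apply_one] at this
    · rintro ⟨h, h'⟩
      ext i
      rw [Function.Embedding.smul_apply]
      fin_cases i
      · show g • (Function.Embedding.embFinTwo hab) 0 = (Function.Embedding.embFinTwo hab) 0
        rw [Function.Embedding.embFinTwo_apply_zero]; exact h
      · show g • (Function.Embedding.embFinTwo hab) 1 = (Function.Embedding.embFinTwo hab) 1
        rw [Function.Embedding.embFinTwo_apply_one]; exact h'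
  have h4 : Nat.card (Fin 2 ↪ O) = (q ^ 2 + 1) * q ^ 2 := by
    rw [Nat.card_eq_fintype_card, Fintype.card_embedding_eq, Fintype.card_fin,
      ← Nat.card_eq_fintype_card, D.card_O]
    simp [Nat.descFactorial]
    ring
  rw [h1, h3, h4, D.card_G] at h2
  have h5 : 0 < (q ^ 2 + 1) * q ^ 2 := by positivity
  apply Nat.eq_of_mul_eq_mul_right h5
  rw [h2]; ring

/-- an element of odd prime order with a fixed point has a second fixed point -/
theorem two_fix (D : ZData G O q) {h : G} {p : ℕ} (hp : p.Prime) (hp2 : p ≠ 2)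
    (ho : orderOf h = p) {a : O} (ha : h • a = a) : ∃ b : O, b ≠ a ∧ h • b = b := by
  classical
  have : Fintype O := Fintype.ofFinite O
  have : Fact p.Prime := ⟨hp⟩
  by_contra hcon
  push Not at hcon
  let f : Function.End O := fun a => h • a
  have hpow : ∀ (k : ℕ) (a : O), (f ^ k) a = h ^ k • a := by
    intro k
    induction k with
    | zero => intro a; rw [pow_zero, pow_zero, one_smul]; rfl
    | succ k ih =>
      intro a
      rw [pow_succ', pow_succ', mul_smul, ← ih]
      rfl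
  have hf : f ^ p ^ 1 = 1 := by
    rw [pow_one]
    funext a
    rw [hpow, ← ho, pow_orderOf_eq_one, one_smul]
    rfl
  have hm := Equiv.Perm.card_fixedPoints_modEq hf
  rw [← Nat.card_eq_fintype_card, D.card_O] at hm
  have h3 : Fintype.card (Function.fixedPoints f) = 1 := by
    rw [Fintype.card_eq_one_iff]
    refine ⟨⟨a, ha⟩, fun y => Subtype.ext ?_⟩
    by_contra hy
    exact hcon y.1 hy y.2
  rw [h3] at hm
  have h4 : p ∣ q ^ 2 := by
    have := (Nat.modEq_iff_dvd' (by omega)).1 hm.symm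
    simpa using this
  obtain ⟨k, hk, rfl⟩ := D.q_pow
  have h5 := hp.dvd_of_dvd_pow (hp.dvd_of_dvd_pow h4)
  exact hp2 ((Nat.prime_dvd_prime_iff_eq hp Nat.prime_two).1 h5)

end

section omega

variable {G : Type*} [Group G] [Finite G] {Ω : Type*} [Finite Ω] [MulAction G Ω]
  (hfix : ∀ g : G, g ≠ 1 → Nat.card (MulAction.fixedBy Ω g) ≤ 2)
include hfix

theorem fix_three {g₀ : G} (h : g₀ ≠ 1) {a b c : Ω} (ha : g₀ • a = a) (hb : g₀ • b = b)
    (hc : g₀ • c = c) : a = b ∨ a = c ∨ b = c := by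
  classical
  have : Fintype Ω := Fintype.ofFinite Ω
  by_contra hcon
  push Not at hcon
  have h1 := hfix g₀ h
  have h2 : 2 < Nat.card (MulAction.fixedBy Ω g₀) := by
    rw [Nat.card_eq_fintype_card, Fintype.two_lt_card_iff]
    exact ⟨⟨a, ha⟩, ⟨b, hb⟩, ⟨c, hc⟩, fun h => hcon.1 (congrArg Subtype.val h),
      fun h => hcon.2.1 (congrArg Subtype.val h), fun h => hcon.2.2 (congrArg Subtype.val h)⟩
  omega

theorem sq_fix {g₀ k : G} (h : g₀ ≠ 1) {α : Ω} (h0 : g₀ • α = α) (h1 : g₀ • (k • α) = k • α)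
    (h2 : g₀ • (k • k • α) = k • k • α) : k • k • α = α := by
  rcases fix_three hfix h h0 h1 h2 with h3 | h3 | h3
  · rw [← h3, ← h3]
  · exact h3.symm
  · have h4 : α = k • α := MulAction.injective k h3
    rw [← h4, ← h4]

theorem card_le_two_mul (K : Subgroup G) {g₀ : G} (h : g₀ ≠ 1) (α : Ω)
    (hK : ∀ k ∈ K, g₀ • (k • α) = k • α) :
    Nat.card K ≤ 2 * Nat.card (MulAction.stabilizer G α ⊓ K : Subgroup G) := by
  have e1 : Nat.card (MulAction.stabilizer G α ⊓ K : Subgroup G)
      * (MulAction.stabilizer G α ⊓ K).relIndex K = Nat.card K := by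
    have := Subgroup.relIndex_mul_relIndex ⊥ (MulAction.stabilizer G α ⊓ K) K bot_le inf_le_right
    simpa using this
  have e2 : (MulAction.stabilizer G α ⊓ K).relIndex K ≤ 2 := by
    rw [Subgroup.inf_relIndex_right]
    have e3 : (MulAction.stabilizer G α).subgroupOf K = MulAction.stabilizer K α := by
      ext k
      rfl
    rw [Subgroup.relIndex, e3, MulAction.index_stabilizer]
    calc (MulAction.orbit K α).ncard ≤ (MulAction.fixedBy Ω g₀).ncard := by
          apply Set.ncard_le_ncard _ (Set.toFinite _)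
          rintro _ ⟨k, rfl⟩
          exact hK k k.2
      _ ≤ 2 := by
          rw [← Nat.card_coe_set_eq]
          exact hfix g₀ h
  rw [← e1, mul_comm]
  exact Nat.mul_le_mul_right _ e2

end omega

section main

variable {G : Type*} [Group G] [Finite G] {O : Type*} [Finite O] [MulAction G O] {q : ℕ}
  {inf : O} {Q Z : Subgroup G} (D : ZData G O q) (E : QData G O q inf Q Z)
  {Ω : Type*} [Finite Ω] [MulAction G Ω]
  (hfix : ∀ g : G, g ≠ 1 → Nat.card (MulAction.fixedBy Ω g) ≤ 2)
include D E hfix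

theorem Q_le_stab {t : G} (htZ : t ∈ Z) (ht1 : t ≠ 1) {α : Ω} (htα : t • α = α) :
    ∀ u ∈ Q, u • α = α := by
  classical
  by_contra hcon
  push Not at hcon
  obtain ⟨u₀, hu₀, hu₀α⟩ := hcon
  have hq := q_ge D
  have hQfix : ∀ u ∈ Q, t • (u • α) = u • α := by
    intro u hu
    rw [← mul_smul, ← (E.Z_central t htZ u hu).eq, mul_smul, htα]
  have hii : ∀ u ∈ Q, ∀ v ∈ Q, u • α ≠ α → v • α ≠ α → u • α = v • α := by
    intro u hu v hv hu1 hv1
    rcases fix_three hfix ht1 htα (hQfix u hu) (hQfix v hv) with h | h | h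
    · exact absurd h.symm hu1
    · exact absurd h.symm hv1
    · exact h
  -- a second involution in the stabiliser
  obtain ⟨s, hs, hs1, hst⟩ : ∃ s : G, s ∈ (MulAction.stabilizer G α ⊓ Z : Subgroup G) ∧ s ≠ 1 ∧
      s ≠ t := by
    have h1 := card_le_two_mul hfix Z ht1 α (fun k hk => hQfix k (E.Z_le hk))
    rw [E.Z_card] at h1
    have : Fintype (MulAction.stabilizer G α ⊓ Z : Subgroup G) := Fintype.ofFinite _
    have h2 : 2 < Fintype.card (MulAction.stabilizer G α ⊓ Z : Subgroup G) := by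
      rw [← Nat.card_eq_fintype_card]; omega
    obtain ⟨a, b, c, hab, hac, hbc⟩ := Fintype.two_lt_card_iff.1 h2
    by_contra hcon
    push Not at hcon
    have key : ∀ x : (MulAction.stabilizer G α ⊓ Z : Subgroup G), (x : G) = 1 ∨ (x : G) = t := by
      intro x
      by_cases hx : (x : G) = 1
      · exact Or.inl hx
      · exact Or.inr (hcon x x.2 hx)
    rcases key a with ha | ha <;> rcases key b with hb | hb <;> rcases key c with hc | hc
    · exact hab (Subtype.ext (ha.trans hb.symm))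
    · exact hab (Subtype.ext (ha.trans hb.symm))
    · exact hac (Subtype.ext (ha.trans hc.symm))
    · exact hbc (Subtype.ext (hb.trans hc.symm))
    · exact hbc (Subtype.ext (hb.trans hc.symm))
    · exact hac (Subtype.ext (ha.trans hc.symm))
    · exact hab (Subtype.ext (ha.trans hb.symm))
    · exact hab (Subtype.ext (ha.trans hb.symm))
  have hsα : s • α = α := hs.1
  have hsZ : s ∈ Z := hs.2
  obtain ⟨g, hg⟩ := E.Z_conj s hsZ t htZ hs1 ht1
  have hgα : t • (g • α) = g • α := by
    rw [← hg, mul_smul, mul_smul, inv_smul_smul, hsα]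
  obtain ⟨h, hhα, hhs⟩ : ∃ h : G, h • α = α ∧ h * s * h⁻¹ = t := by
    rcases fix_three hfix ht1 htα (hQfix u₀ hu₀) hgα with h1 | h1 | h1
    · exact absurd h1.symm hu₀α
    · exact ⟨g, h1.symm, hg⟩
    · refine ⟨u₀⁻¹ * g, ?_, ?_⟩
      · rw [mul_smul, ← h1, inv_smul_smul]
      · have h2 : u₀⁻¹ * g * s * (u₀⁻¹ * g)⁻¹ = u₀⁻¹ * (g * s * g⁻¹) * u₀ := by group
        rw [h2, hg, mul_assoc, ← (E.Z_central t htZ u₀ hu₀).eq, inv_mul_cancel_left]
  have hhinf : h • inf = inf := by
    apply E.Q_semireg t (E.Z_le htZ) ht1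
    rw [← hhs, mul_smul, mul_smul, inv_smul_smul, E.Q_fix s (E.Z_le hsZ)]
  have hhQ : h ∉ Q := by
    intro hQ
    apply hst
    rw [← hhs, (E.Z_central s hsZ h hQ).eq, mul_inv_cancel_right]
  -- the commutator map
  let ψ : Q → Q := fun u => ⟨(u : G)⁻¹ * (h * u * h⁻¹),
    Subgroup.mul_mem _ (Subgroup.inv_mem _ u.2) (E.Q_normal h hhinf u u.2)⟩
  have hinj : Function.Injective ψ := by
    intro u v huv
    have h1 : (u : G)⁻¹ * (h * u * h⁻¹) = (v : G)⁻¹ * (h * v * h⁻¹) := congrArg Subtype.val huv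
    by_contra hne
    apply hhQ
    apply E.Q_cent ((v : G) * (u : G)⁻¹) (Subgroup.mul_mem _ v.2 (Subgroup.inv_mem _ u.2))
    · intro h2
      apply hne
      apply Subtype.ext
      exact (mul_inv_eq_one.1 h2).symm
    · show h * ((v : G) * (u : G)⁻¹) = (v : G) * (u : G)⁻¹ * h
      calc h * ((v : G) * (u : G)⁻¹) = v * ((v : G)⁻¹ * (h * v * h⁻¹)) * h * (u : G)⁻¹ := by group
        _ = v * ((u : G)⁻¹ * (h * u * h⁻¹)) * h * (u : G)⁻¹ := by rw [h1]
        _ = (v : G) * (u : G)⁻¹ * h := by group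
  have hsurj := Finite.injective_iff_surjective.1 hinj
  obtain ⟨u, hu⟩ := hsurj ⟨u₀, hu₀⟩
  apply hu₀α
  have hu' : (u : G)⁻¹ * (h * u * h⁻¹) = u₀ := congrArg Subtype.val hu
  rw [← hu']
  have hhinv : h⁻¹ • α = α := by rw [inv_smul_eq_iff, hhα]
  by_cases huα : (u : G) • α = α
  · rw [mul_smul, mul_smul, mul_smul, hhinv, huα, hhα, inv_smul_eq_iff, huα]
  · have hv : (h * u * h⁻¹) • α ≠ α := by
      intro h1
      apply huα
      rw [mul_smul, mul_smul, hhinv] at h1
      have h2 : h • ((u : G) • α) = h • α := by rw [h1, hhα]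
      exact MulAction.injective h h2
    have h3 := hii u u.2 _ (E.Q_normal h hhinf u u.2) huα hv
    rw [mul_smul, ← h3, inv_smul_smul]

theorem stab_eq {t : G} (htZ : t ∈ Z) (ht1 : t ≠ 1) {α : Ω} (htα : t • α = α)
    (htr : MulAction.IsPretransitive G Ω) (hex : ∃ a b : Ω, a ≠ b) :
    MulAction.stabilizer G α = MulAction.stabilizer G inf := by
  have hq := q_ge D
  have hQ := Q_le_stab D E hfix htZ ht1 htα
  have hB : ∀ b ∈ MulAction.stabilizer G inf, t • (b • α) = b • α := by
    intro b hb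
    have hb' : b⁻¹ • inf = inf := by rw [inv_smul_eq_iff]; exact (MulAction.mem_stabilizer_iff.1 hb).symm
    have h1 := E.Q_normal b⁻¹ hb' t (E.Z_le htZ)
    rw [inv_inv] at h1
    have h2 := hQ _ h1
    have h3 : t * b = b * (b⁻¹ * t * b) := by group
    rw [← mul_smul, h3, mul_smul, h2]
  have h1 := card_le_two_mul hfix (MulAction.stabilizer G inf) ht1 α hB
  rw [card_stab D] at h1
  have hQle : Q ≤ MulAction.stabilizer G α ⊓ MulAction.stabilizer G inf := by
    intro u hu
    exact ⟨hQ u hu, E.Q_fix u hu⟩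
  have h2 := Subgroup.card_dvd_of_le hQle
  have h3 := Subgroup.card_dvd_of_le
    (inf_le_right : MulAction.stabilizer G α ⊓ MulAction.stabilizer G inf ≤ _)
  rw [E.Q_card] at h2
  rw [card_stab D] at h3
  have hle : MulAction.stabilizer G inf ≤ MulAction.stabilizer G α := by
    obtain ⟨e, he⟩ := h2
    rw [he] at h1 h3
    have hq2 : 0 < q ^ 2 := by positivity
    obtain ⟨f, hf⟩ := Nat.dvd_of_mul_dvd_mul_left hq2 h3
    have he0 : 0 < e := by
      rcases Nat.eq_zero_or_pos e with h | h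
      · rw [h] at hf; omega
      · exact h
    have hf2 : f ≤ 2 := by
      rw [hf] at h1
      have h4 : q ^ 2 * e * f ≤ q ^ 2 * e * 2 := by
        calc q ^ 2 * e * f = q ^ 2 * (e * f) := by ring
          _ ≤ 2 * (q ^ 2 * e) := h1
          _ = q ^ 2 * e * 2 := by ring
      exact Nat.le_of_mul_le_mul_left h4 (by positivity)
    obtain ⟨r, hr⟩ := q_even D
    have hf1 : f = 1 := by
      interval_cases f
      · omega
      · rfl
      · omega
    rw [hf1, mul_one] at hf
    have h5 : MulAction.stabilizer G α ⊓ MulAction.stabilizer G inf = MulAction.stabilizer G inf := by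
      apply Subgroup.eq_of_le_of_card_ge inf_le_right
      rw [he, card_stab D, hf]
    rw [← h5]
    exact inf_le_left
  apply le_antisymm _ hle
  intro h hh
  by_contra hhinf
  have hhinf' : h • inf ≠ inf := hhinf
  -- then the stabiliser is everything
  have hall : ∀ x : G, x • α = α := by
    intro x
    by_cases hx : x • inf = inf
    · exact hle hx
    · have h2t := D.two_trans
      rw [MulAction.is_two_pretransitive_iff] at h2t
      obtain ⟨b, hb1, hb2⟩ := h2t (Ne.symm hhinf') (Ne.symm hx)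
      have h6 : (x⁻¹ * b * h) • inf = inf := by
        rw [mul_smul, mul_smul, hb2, inv_smul_smul]
      have h7 : (x⁻¹ * b * h) • α = α := hle h6
      have h8 : b • α = α := hle hb1
      rw [mul_smul, mul_smul, MulAction.mem_stabilizer_iff.1 hh, h8, inv_smul_eq_iff] at h7
      exact h7.symm
  obtain ⟨a, b, hab⟩ := hex
  apply hab
  obtain ⟨g₁, rfl⟩ := MulAction.exists_smul_eq G α a
  obtain ⟨g₂, rfl⟩ := MulAction.exists_smul_eq G α b
  rw [hall, hall]

theorem even_concl {t : G} (htZ : t ∈ Z) (ht1 : t ≠ 1) {α : Ω} (htα : t • α = α)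
    (htr : MulAction.IsPretransitive G Ω) (hex : ∃ a b : Ω, a ≠ b) :
    Nat.card Ω = q ^ 2 + 1 ∧ MulAction.IsMultiplyPretransitive G Ω 2 := by
  have hst := stab_eq D E hfix htZ ht1 htα htr hex
  have h2t := D.two_trans
  have h1t : MulAction.IsPretransitive G O := MulAction.isPretransitive_of_is_two_pretransitive
  constructor
  · rw [← MulAction.index_stabilizer_of_transitive G α, hst,
      MulAction.index_stabilizer_of_transitive G inf, D.card_O]
  · have hiff : ∀ g : G, g • α = α ↔ g • inf = inf := by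
      intro g
      rw [← MulAction.mem_stabilizer_iff, hst, MulAction.mem_stabilizer_iff]
    rw [MulAction.is_two_pretransitive_iff] at h2t ⊢
    intro a b c d hab hcd
    obtain ⟨g₁, rfl⟩ := MulAction.exists_smul_eq G α a
    obtain ⟨g₂, rfl⟩ := MulAction.exists_smul_eq G α c
    obtain ⟨k₁, rfl⟩ := MulAction.exists_smul_eq G α b
    obtain ⟨k₂, rfl⟩ := MulAction.exists_smul_eq G α d
    have e1 : g₁ • inf ≠ k₁ • inf := by
      intro h
      apply hab
      have h1 : (k₁⁻¹ * g₁) • inf = inf := by rw [mul_smul, h, inv_smul_smul]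
      have h2 := (hiff _).2 h1
      rw [mul_smul, inv_smul_eq_iff] at h2
      exact h2
    have e2 : g₂ • inf ≠ k₂ • inf := by
      intro h
      apply hcd
      have h1 : (k₂⁻¹ * g₂) • inf = inf := by rw [mul_smul, h, inv_smul_smul]
      have h2 := (hiff _).2 h1
      rw [mul_smul, inv_smul_eq_iff] at h2
      exact h2
    obtain ⟨g, hg1, hg2⟩ := h2t e1 e2
    refine ⟨g, ?_, ?_⟩
    · have h1 : (g₂⁻¹ * g * g₁) • inf = inf := by rw [mul_smul, mul_smul, hg1, inv_smul_smul]
      have h2 := (hiff _).2 h1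
      rw [mul_smul, mul_smul, inv_smul_eq_iff] at h2
      exact h2
    · have h1 : (k₂⁻¹ * g * k₁) • inf = inf := by rw [mul_smul, mul_smul, hg2, inv_smul_smul]
      have h2 := (hiff _).2 h1
      rw [mul_smul, mul_smul, inv_smul_eq_iff] at h2
      exact h2

omit E in
theorem no_good_in_stab (hno : ∀ t : G, t ≠ 1 → t ^ 2 = 1 → ∀ α : Ω, t • α ≠ α)
    {h : G} (hg : Good q h) {α : Ω} (hα : h • α = α) : False := by
  obtain ⟨g, hg'⟩ := exists_conj_pow D hg
  have h1 := good_ne_one hg
  have hinv : ∀ ω : Ω, h • ω = ω → h • (g • ω) = g • ω := by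
    intro ω hω
    have e1 : h ^ q • (g • ω) = g • ω := by
      rw [← hg', mul_smul, mul_smul, inv_smul_smul, hω]
    have e2 : (h ^ q) ^ (q ^ 3) = h := by
      rw [← pow_mul, ← pow_succ', pow_q4 D hg]
    have e3 := pow_fix e1 (q ^ 3)
    rwa [e2] at e3
  have hk := sq_fix hfix h1 hα (hinv α hα) (hinv _ (hinv α hα))
  have hkα : (g * g) • α = α := by rw [mul_smul, hk]
  obtain ⟨p, hp, hpq, hxp⟩ := hg
  have hq1 : h ^ (q ^ 2 + 1) = 1 := orderOf_dvd_iff_pow_eq_one.1 (hxp ▸ hpq)
  have hconj : (g * g) * h * (g * g)⁻¹ = h⁻¹ := by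
    have e1 : (g * g) * h * (g * g)⁻¹ = g * (g * h * g⁻¹) * g⁻¹ := by group
    rw [e1, hg', ← conj_pow, hg', ← pow_mul, ← pow_two]
    rw [pow_succ] at hq1
    exact eq_inv_of_mul_eq_one_left hq1
  set k := g * g with hkdef
  by_cases hev : 2 ∣ orderOf k
  · obtain ⟨j, hj⟩ := hev
    have hpos := orderOf_pos k
    have ht : k ^ j ≠ 1 := pow_ne_one_of_lt_orderOf (by omega) (by omega)
    have h2 : (k ^ j) ^ 2 = 1 := by
      rw [← pow_mul, mul_comm, ← hj, pow_orderOf_eq_one]
    exact hno _ ht h2 α (pow_fix hkα j)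
  · obtain ⟨j, hj⟩ : ∃ j, orderOf k + 1 = 2 * j := ⟨(orderOf k + 1) / 2, by omega⟩
    have h5 : (k ^ 2) ^ j = k := by
      rw [← pow_mul, ← hj, pow_succ, pow_orderOf_eq_one, one_mul]
    have hc2 : Commute (k ^ 2) h := by
      show k ^ 2 * h = h * k ^ 2
      have e1 : k ^ 2 * h = k * (k * h * k⁻¹) * k⁻¹ * k ^ 2 := by
        rw [pow_two]
        simp only [mul_assoc, inv_mul_cancel_left, inv_mul_cancel, mul_one]
      have e2 : k * h⁻¹ * k⁻¹ = (k * h * k⁻¹)⁻¹ := by group
      rw [e1, hconj, e2, hconj, inv_inv]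
    have hc : Commute k h := by
      rw [← h5]
      exact hc2.pow_left j
    have e3 : h = h⁻¹ := by
      rw [← hconj, hc.eq, mul_inv_cancel_right]
    have e4 : h ^ 2 = 1 := by
      rw [pow_two]
      nth_rewrite 1 [e3]
      exact inv_mul_cancel h
    have e5 := orderOf_dvd_of_pow_eq_one e4
    rw [hxp] at e5
    have := Nat.le_of_dvd two_pos e5
    have := prime_ge D hp hpq
    omega

theorem stab_two_le {h : G} (h1 : h ≠ 1) {α : Ω} (hα : h • α = α) {a b : O} (hab : a ≠ b)
    (ha : h • a = a) (hb : h • b = b) :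
    (MulAction.stabilizer G a ⊓ MulAction.stabilizer G b : Subgroup G)
      ≤ MulAction.stabilizer G α := by
  intro k hk
  have hq := q_ge D
  have hc : Commute k h := E.stab_comm a b hab k h hk.1 hk.2 ha hb
  have hinv : ∀ ω : Ω, h • ω = ω → h • (k • ω) = k • ω := by
    intro ω hω
    rw [← mul_smul, ← hc.eq, mul_smul, hω]
  have h2 := sq_fix hfix h1 hα (hinv α hα) (hinv _ (hinv α hα))
  have h3 : k ^ 2 • α = α := by rw [pow_two, mul_smul, h2]
  have h4 : k ^ (q - 1) = 1 := by
    have := pow_card_eq_one' (G := (MulAction.stabilizer G a ⊓ MulAction.stabilizer G b : Subgroup G))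
      (x := ⟨k, hk⟩)
    rw [card_stab_two D hab] at this
    exact congrArg Subtype.val this
  obtain ⟨r, hr⟩ := q_even D
  have h5 : (k ^ 2) ^ r = k := by
    rw [← pow_mul, ← hr]
    have : q = (q - 1) + 1 := by omega
    rw [this, pow_succ, h4, one_mul]
  have h6 := pow_fix h3 r
  rw [h5] at h6
  exact h6

theorem odd_stab (hno : ∀ t : G, t ≠ 1 → t ^ 2 = 1 → ∀ α : Ω, t • α ≠ α)
    {g₀ : G} (hg₀ : g₀ ≠ 1) {α : Ω} (hα : g₀ • α = α) :
    Nat.card (MulAction.stabilizer G α) = q - 1 := by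
  have hq := q_ge D
  have key : ∀ p : ℕ, p.Prime → p ∣ Nat.card (MulAction.stabilizer G α) →
      p ∣ q - 1 ∧ (q - 1) ∣ Nat.card (MulAction.stabilizer G α) := by
    intro p hp hdvd
    have : Fact p.Prime := ⟨hp⟩
    obtain ⟨x, hx⟩ := exists_prime_orderOf_dvd_card' p hdvd
    have hx' : orderOf (x : G) = p := by rw [Subgroup.orderOf_coe, hx]
    have hx1 : (x : G) ≠ 1 := by
      intro h
      rw [h, orderOf_one] at hx'
      exact hp.one_lt.ne hx'
    have hxα : (x : G) • α = α := x.2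
    have hp2 : p ≠ 2 := by
      rintro rfl
      exact hno x hx1 (by rw [← hx', pow_orderOf_eq_one]) α hxα
    have hnf : ¬ Fpf O (x : G) := fun hf =>
      no_good_in_stab D hfix hno (good_of_prime_fpf D hp hx' hf) hxα
    unfold Fpf at hnf
    push Not at hnf
    obtain ⟨a, ha⟩ := hnf
    obtain ⟨b, hba, hb⟩ := two_fix D hp hp2 hx' ha
    have hle := stab_two_le D E hfix hx1 hxα (Ne.symm hba) ha hb
    constructor
    · rw [← card_stab_two D (Ne.symm hba), ← hx']
      have := orderOf_dvd_natCard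
        (⟨x, ha, hb⟩ : (MulAction.stabilizer G a ⊓ MulAction.stabilizer G b : Subgroup G))
      rwa [← Subgroup.orderOf_coe] at this
    · rw [← card_stab_two D (Ne.symm hba)]
      exact Subgroup.card_dvd_of_le hle
  have hne1 : Nat.card (MulAction.stabilizer G α) ≠ 1 := by
    intro h
    rw [Subgroup.card_eq_one] at h
    have : g₀ ∈ MulAction.stabilizer G α := hα
    rw [h, Subgroup.mem_bot] at this
    exact hg₀ this
  obtain ⟨p, hp, hdvd⟩ := Nat.exists_prime_and_dvd hne1
  have h2 := (key p hp hdvd).2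
  apply Nat.dvd_antisymm _ h2
  have h3 : Nat.card (MulAction.stabilizer G α) ∣ q ^ 2 * (q ^ 2 + 1) * (q - 1) := by
    rw [← D.card_G]
    exact Subgroup.card_subgroup_dvd_card _
  apply Nat.Coprime.dvd_of_dvd_mul_left _ h3
  apply Nat.coprime_of_dvd
  intro k hk hk1 hk2
  have hk3 := (key k hk hk1).1
  rcases (Nat.Prime.dvd_mul hk).1 hk2 with h4 | h4
  · have h5 := hk.dvd_of_dvd_pow h4
    have h6 : k ∣ 1 := by
      have : q = (q - 1) + 1 := by omega
      rw [this] at h5
      exact (Nat.dvd_add_right hk3).1 h5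
    exact hk.one_lt.ne' (Nat.dvd_one.1 h6)
  · exact coprime_aux D hk h4 (Dvd.dvd.mul_left hk3 _)

theorem fixity_two (htr : MulAction.IsPretransitive G Ω)
    (hex : ∃ g : G, g ≠ 1 ∧ Nat.card (MulAction.fixedBy Ω g) = 2) :
    (Nat.card Ω = q ^ 2 + 1 ∧ MulAction.IsMultiplyPretransitive G Ω 2) ∨
    (Nat.card Ω = q ^ 2 * (q ^ 2 + 1) ∧ ∀ α : Ω, Nat.card (MulAction.stabilizer G α) = q - 1) := by
  classical
  have hq := q_ge D
  obtain ⟨g₀, hg₀, hcard⟩ := hex
  have : Fintype (MulAction.fixedBy Ω g₀) := Fintype.ofFinite _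
  have h1 : 1 < Fintype.card (MulAction.fixedBy Ω g₀) := by
    rw [← Nat.card_eq_fintype_card]; omega
  obtain ⟨α, β, hαβ⟩ := Fintype.one_lt_card_iff.1 h1
  have hex2 : ∃ a b : Ω, a ≠ b := ⟨α.1, β.1, fun h => hαβ (Subtype.ext h)⟩
  by_cases hno : ∀ t : G, t ≠ 1 → t ^ 2 = 1 → ∀ α : Ω, t • α ≠ α
  · right
    have h2 := odd_stab D E hfix hno hg₀ α.2
    have h3 : Nat.card Ω = q ^ 2 * (q ^ 2 + 1) := by
      have h4 := (MulAction.stabilizer G α.1).card_mul_index
      rw [MulAction.index_stabilizer_of_transitive G α.1, h2, D.card_G] at h4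
      have h5 : 0 < q - 1 := by omega
      apply Nat.eq_of_mul_eq_mul_left h5
      rw [h4]; ring
    refine ⟨h3, fun γ => ?_⟩
    have h4 := (MulAction.stabilizer G γ).card_mul_index
    rw [MulAction.index_stabilizer_of_transitive G γ, h3, D.card_G] at h4
    have h5 : 0 < q ^ 2 * (q ^ 2 + 1) := by positivity
    apply Nat.eq_of_mul_eq_mul_right h5
    rw [h4]; ring
  · left
    push Not at hno
    obtain ⟨t, ht1, ht2, γ, hγ⟩ := hno
    obtain ⟨c, hc, _⟩ := invol_fix D ht1 ht2
    have h2t := D.two_trans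
    have h1t : MulAction.IsPretransitive G O := MulAction.isPretransitive_of_is_two_pretransitive
    obtain ⟨g, hg⟩ := MulAction.exists_smul_eq G c inf
    have htZ : g * t * g⁻¹ ∈ Z := by
      apply E.invol_mem
      · rw [conj_pow, ht2]; group
      · rw [mul_smul, mul_smul, ← hg, inv_smul_smul, hc]
    have ht1' : g * t * g⁻¹ ≠ 1 := by
      intro h
      apply ht1
      have : t = g⁻¹ * (g * t * g⁻¹) * g := by group
      rw [this, h]; group
    have hfixγ : (g * t * g⁻¹) • (g • γ) = g • γ := by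
      rw [mul_smul, mul_smul, inv_smul_smul, hγ]
    exact even_concl D E hfix htZ ht1' hfixγ htr hex2

end main

end Cfsg.Agent.Lib.Helper61Fix2
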