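import Cfsg.Agent.Lib.Helper61SzTori2
import Cfsg.Agent.Lib.Helper61Part

set_option autoImplicit false
set_option linter.unusedVariables false
set_option linter.unusedSectionVars false
set_option linter.unusedSimpArgs false

namespace Cfsg.Agent.Lib.Helper61SzCent

open Cfsg Cfsg.Agent.Lib.Helper8Sz Cfsg.Agent.Lib.Helper8Sz2 Cfsg.Agent.Lib.Helper8Sz3
  Cfsg.Agent.Lib.Helper8Sz4 Cfsg.Agent.Lib.Helper8Sz5 Cfsg.Agent.Lib.Helper8Irr
  Cfsg.Agent.Lib.Helper8Sz6 Cfsg.Agent.Lib.Helper8Sz7 Cfsg.Agent.Lib.Helper61Zass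
  Cfsg.Agent.Lib.Helper61Fix2 Cfsg.Agent.Lib.Helper61SzTori Cfsg.Agent.Lib.Helper61Zass2
  Cfsg.Agent.Lib.Helper61SzTori2 Cfsg.Agent.Lib.Helper61Part

section abstract

variable {G : Type*} [Group G] [Finite G] {O : Type*} [Finite O] [MulAction G O] {q : ℕ}
  {inf : O} {Q Z : Subgroup G}

/-- centraliser of a non-identity element with two fixed points -/
theorem cent_eq_stab (D : ZData G O q) (E : QData G O q inf Q Z) {g : G} (hg : g ≠ 1) {a b : O}
    (hab : a ≠ b) (ha : g • a = a) (hb : g • b = b) :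
    Subgroup.centralizer ({g} : Set G) = MulAction.stabilizer G a ⊓ MulAction.stabilizer G b := by
  ext h
  rw [mem_cent]
  constructor
  · intro hc
    exact cent_two_fix D hg hab ha hb hc
  · intro hh
    exact E.stab_comm a b hab h g hh.1 hh.2 ha hb

/-- the two possible shapes of the centraliser of an element of odd order -/
theorem cent_cases (D : ZData G O q) (E : QData G O q inf Q Z) {g : G} (hg : g ≠ 1)
    (hodd : ¬ 2 ∣ orderOf g) :
    (∃ x : G, Good q x ∧ g ∈ tor x ∧ Subgroup.centralizer ({g} : Set G) = tor x) ∨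
    (∃ a b : O, a ≠ b ∧ g • a = a ∧ g • b = b ∧
      Subgroup.centralizer ({g} : Set G) = MulAction.stabilizer G a ⊓ MulAction.stabilizer G b) := by
  by_cases hf : Fpf O g
  · left
    obtain ⟨x, hx, ⟨k, y, hy, hy1, e⟩, _⟩ := exists_second D hf
    have hx' : Good q (k * x * k⁻¹) := good_conj hx k
    have hmem : g ∈ tor (k * x * k⁻¹) := by
      rw [e, mem_cent, conj_commute]
      exact mem_cent.1 hy
    refine ⟨_, hx', hmem, ?_⟩
    ext h
    rw [mem_cent, mem_cent]
    exact commute_iff D hx' hg (mem_cent.1 hmem) h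
  · right
    unfold Fpf at hf
    push Not at hf
    obtain ⟨a, ha⟩ := hf
    obtain ⟨b, hba, hb⟩ := odd_two_fix D hg hodd ha
    exact ⟨a, b, Ne.symm hba, ha, hb, cent_eq_stab D E hg (Ne.symm hba) ha hb⟩

/-- all non-identity elements of the centraliser have the same centraliser -/
theorem cent_eq (D : ZData G O q) (E : QData G O q inf Q Z) {g : G} (hg : g ≠ 1)
    (hodd : ¬ 2 ∣ orderOf g) {u : G} (hu : u ∈ Subgroup.centralizer ({g} : Set G)) (hu1 : u ≠ 1) :
    Subgroup.centralizer ({u} : Set G) = Subgroup.centralizer ({g} : Set G) := by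
  rcases cent_cases D E hg hodd with ⟨x, hx, hgx, e⟩ | ⟨a, b, hab, ha, hb, e⟩
  · rw [e] at hu ⊢
    ext h
    rw [mem_cent, mem_cent]
    exact commute_iff D hx hu1 (mem_cent.1 hu) h
  · rw [e] at hu ⊢
    exact cent_eq_stab D E hu1 hab hu.1 hu.2

theorem pow_q4_iter (D : ZData G O q) {x : G} (hx : Good q x) (i : ℕ) :
    x ^ ((q ^ 4) ^ i) = x := by
  induction i with
  | zero => simp
  | succ i ih => rw [pow_succ, pow_mul, ih, pow_q4 D hx]

/-- fourth powers of elements of the normaliser lie in the centraliser -/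
theorem pow_four_mem (D : ZData G O q) (E : QData G O q inf Q Z) {g : G} (hg : g ≠ 1)
    (hodd : ¬ 2 ∣ orderOf g) {n : G}
    (hn : n ∈ Subgroup.normalizer ((Subgroup.centralizer ({g} : Set G) : Subgroup G) : Set G)) :
    n ^ 4 ∈ Subgroup.centralizer ({g} : Set G) := by
  rcases cent_cases D E hg hodd with ⟨x, hx, hgx, e⟩ | ⟨a, b, hab, ha, hb, e⟩
  · rw [e] at hn ⊢
    have hx' := hx
    obtain ⟨p, hp, hpq, hxp⟩ := hx
    obtain ⟨i, hi, e1⟩ := D.conj_pow x p hp hpq hxp n (conj_mem_of_normalizer hn)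
    have h1 := conj_pow_pow (q := q ^ i) e1 4
    have h2 : (q ^ i) ^ 4 = (q ^ 4) ^ i := by rw [← pow_mul, ← pow_mul, mul_comm]
    rw [h2, pow_q4_iter D hx'] at h1
    rw [mem_cent]
    show n ^ 4 * x = x * n ^ 4
    calc n ^ 4 * x = (n ^ 4 * x * (n ^ 4)⁻¹) * n ^ 4 := by group
      _ = x * n ^ 4 := by rw [h1]
  · rw [e] at hn ⊢
    have hgU : g ∈ (MulAction.stabilizer G a ⊓ MulAction.stabilizer G b : Subgroup G) := ⟨ha, hb⟩
    have hmem : ∀ c : O, g • c = c → c = a ∨ c = b := by
      intro c hc'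
      by_contra hcon
      push Not at hcon
      exact hg (D.three_point g a b c hab (Ne.symm hcon.2) (Ne.symm hcon.1) ha hb hc')
    -- `n⁻¹ g n` fixes a and b, so g fixes n a and n b
    have hn' := (Subgroup.mem_normalizer_iff.1 (Subgroup.inv_mem _ hn) g).1 hgU
    rw [inv_inv] at hn'
    have h1 : g • (n • a) = n • a := by
      have : (n⁻¹ * g * n) • a = a := hn'.1
      rw [mul_smul, mul_smul, inv_smul_eq_iff] at this
      exact this
    have h2 : g • (n • b) = n • b := by
      have : (n⁻¹ * g * n) • b = b := hn'.2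
      rw [mul_smul, mul_smul, inv_smul_eq_iff] at this
      exact this
    have hne : n • a ≠ n • b := fun h => hab (MulAction.injective n h)
    have hsq : n ^ 2 • a = a ∧ n ^ 2 • b = b := by
      rw [pow_two, mul_smul, mul_smul]
      rcases hmem _ h1 with h3 | h3 <;> rcases hmem _ h2 with h4 | h4
      · exact absurd (h3.trans h4.symm) hne
      · exact ⟨by rw [h3, h3], by rw [h4, h4]⟩
      · exact ⟨by rw [h3, h4], by rw [h4, h3]⟩
      · exact absurd (h3.trans h4.symm) hne
    have e4 : n ^ 4 = (n ^ 2) ^ 2 := by rw [← pow_mul]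
    rw [e4]
    exact ⟨pow_fix hsq.1 2, pow_fix hsq.2 2⟩

/-- elements of odd order of the normaliser lie in the centraliser -/
theorem odd_mem (D : ZData G O q) (E : QData G O q inf Q Z) {g : G} (hg : g ≠ 1)
    (hodd : ¬ 2 ∣ orderOf g) {n : G}
    (hn : n ∈ Subgroup.normalizer ((Subgroup.centralizer ({g} : Set G) : Subgroup G) : Set G))
    (hnodd : ¬ 2 ∣ orderOf n) : n ∈ Subgroup.centralizer ({g} : Set G) := by
  have h4 := pow_four_mem D E hg hodd hn
  have hcop : Nat.Coprime 4 (orderOf n) := by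
    have : Nat.Coprime (2 ^ 2) (orderOf n) := by
      apply Nat.Coprime.pow_left
      rw [Nat.Prime.coprime_iff_not_dvd Nat.prime_two]
      exact hnodd
    exact this
  obtain ⟨j, hj⟩ := exists_pow_eq_self_of_coprime hcop
  rw [← hj]
  exact Subgroup.pow_mem _ h4 j

/-- the normaliser of a two-point stabiliser -/
theorem card_normalizer_stab (D : ZData G O q) {a b : O} (hab : a ≠ b) :
    Nat.card (Subgroup.normalizer
      ((MulAction.stabilizer G a ⊓ MulAction.stabilizer G b : Subgroup G) : Set G))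
      = 2 * (q - 1) := by
  have hq := q_ge D
  set U : Subgroup G := MulAction.stabilizer G a ⊓ MulAction.stabilizer G b with hU
  have hcard : Nat.card U = q - 1 := card_stab_two D hab
  have hne : U ≠ ⊥ := by
    intro h
    rw [h, Subgroup.card_bot] at hcard
    omega
  obtain ⟨⟨g, hgU⟩, hg1'⟩ := Subgroup.ne_bot_iff_exists_ne_one.1 hne
  have hg1 : g ≠ 1 := fun h => hg1' (Subtype.ext h)
  have hmem : ∀ c : O, g • c = c → c = a ∨ c = b := by
    intro c hc'
    by_contra hcon
    push Not at hcon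
    exact hg1 (D.three_point g a b c hab (Ne.symm hcon.2) (Ne.symm hcon.1) hgU.1 hgU.2 hc')
  have h2t := D.two_trans
  rw [MulAction.is_two_pretransitive_iff] at h2t
  obtain ⟨w, hwa, hwb⟩ := h2t hab (Ne.symm hab)
  have hwinv : w⁻¹ • a = b ∧ w⁻¹ • b = a := by
    constructor
    · rw [inv_smul_eq_iff, hwb]
    · rw [inv_smul_eq_iff, hwa]
  have hwN : w ∈ Subgroup.normalizer (U : Set G) := by
    rw [Subgroup.mem_normalizer_iff]
    intro h
    constructor
    · intro hh
      have hha : h • a = a := hh.1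
      have hhb : h • b = b := hh.2
      constructor
      · show (w * h * w⁻¹) • a = a
        rw [mul_smul, mul_smul, hwinv.1, hhb, hwb]
      · show (w * h * w⁻¹) • b = b
        rw [mul_smul, mul_smul, hwinv.2, hha, hwa]
    · intro hh
      have h1 : (w * h * w⁻¹) • a = a := hh.1
      have h2 : (w * h * w⁻¹) • b = b := hh.2
      rw [mul_smul, mul_smul, hwinv.1] at h1
      rw [mul_smul, mul_smul, hwinv.2] at h2
      constructor
      · show h • a = a
        apply MulAction.injective w
        show w • h • a = w • a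
        rw [h2, hwa]
      · show h • b = b
        apply MulAction.injective w
        show w • h • b = w • b
        rw [h1, hwb]
  let f : U × Fin 2 → Subgroup.normalizer (U : Set G) := fun p =>
    ⟨w ^ (p.2 : ℕ) * p.1, Subgroup.mul_mem _ (Subgroup.pow_mem _ hwN _)
      (Subgroup.le_normalizer p.1.2)⟩
  have hfa : ∀ (u : U) (i : Fin 2), (w ^ (i : ℕ) * (u : G)) • a = if i = 0 then a else b := by
    intro u i
    have hua : (u : G) • a = a := u.2.1
    rw [mul_smul, hua]
    fin_cases i
    · simp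
    · simp [hwa]
  have hbij : Function.Bijective f := by
    constructor
    · rintro ⟨u, i⟩ ⟨u', j⟩ h
      have h1 : w ^ (i : ℕ) * (u : G) = w ^ (j : ℕ) * (u' : G) := congrArg Subtype.val h
      have h2 : (if i = 0 then a else b) = (if j = 0 then a else b) := by
        rw [← hfa u i, ← hfa u' j, h1]
      have hij : i = j := by
        fin_cases i <;> fin_cases j
        · rfl
        · exact absurd h2 (by simpa using hab)
        · exact absurd h2 (by simpa using (Ne.symm hab))
        · rfl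
      subst hij
      have h5 : (u : G) = u' := mul_left_cancel h1
      rw [Subtype.ext h5]
    · rintro ⟨n, hn⟩
      have hn' := (Subgroup.mem_normalizer_iff.1 (Subgroup.inv_mem _ hn) g).1 hgU
      rw [inv_inv] at hn'
      have h1 : g • (n • a) = n • a := by
        have : (n⁻¹ * g * n) • a = a := hn'.1
        rw [mul_smul, mul_smul, inv_smul_eq_iff] at this
        exact this
      have h2 : g • (n • b) = n • b := by
        have : (n⁻¹ * g * n) • b = b := hn'.2
        rw [mul_smul, mul_smul, inv_smul_eq_iff] at this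
        exact this
      have hne' : n • a ≠ n • b := fun h => hab (MulAction.injective n h)
      rcases hmem _ h1 with h3 | h3 <;> rcases hmem _ h2 with h4 | h4
      · exact absurd (h3.trans h4.symm) hne'
      · refine ⟨(⟨n, h3, h4⟩, 0), Subtype.ext ?_⟩
        show w ^ ((0 : Fin 2) : ℕ) * n = n
        simp
      · refine ⟨(⟨w⁻¹ * n, ?_, ?_⟩, 1), Subtype.ext ?_⟩
        · show (w⁻¹ * n) • a = a
          rw [mul_smul, h3, hwinv.2]
        · show (w⁻¹ * n) • b = b
          rw [mul_smul, h4, hwinv.1]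
        · show w ^ ((1 : Fin 2) : ℕ) * (w⁻¹ * n) = n
          simp
      · exact absurd (h3.trans h4.symm) hne'
  have := Nat.card_congr (Equiv.ofBijective f hbij)
  rw [Nat.card_prod, Nat.card_eq_fintype_card (α := Fin 2), Fintype.card_fin, hcard] at this
  rw [← this, mul_comm]

/-- orders of the normalisers of the centralisers of elements of odd order -/
theorem card_normalizer_cases (D : ZData G O q) (E : QData G O q inf Q Z) {g : G} (hg : g ≠ 1)
    (hodd : ¬ 2 ∣ orderOf g) :
    (Fpf O g → Nat.card (Subgroup.normalizer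
        ((Subgroup.centralizer ({g} : Set G) : Subgroup G) : Set G))
        = Nat.card (Subgroup.centralizer ({g} : Set G)) * 4) ∧
    (¬ Fpf O g → Nat.card (Subgroup.centralizer ({g} : Set G)) = q - 1 ∧
      Nat.card (Subgroup.normalizer
        ((Subgroup.centralizer ({g} : Set G) : Subgroup G) : Set G)) = 2 * (q - 1)) := by
  rcases cent_cases D E hg hodd with ⟨x, hx, hgx, e⟩ | ⟨a, b, hab, ha, hb, e⟩
  · constructor
    · intro _
      rw [e]
      exact card_normalizer_eq D hx
    · intro hf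
      exact absurd (fpf_of_commute_good D hx hg (mem_cent.1 hgx)) hf
  · constructor
    · intro hf
      exact absurd ha (hf a)
    · intro _
      rw [e]
      exact ⟨card_stab_two D hab, card_normalizer_stab D hab⟩

end abstract

section sz

variable {F : Type*} [Field F] [Fintype F] {m : ℕ} (hF : Fintype.card F = 2 ^ (2 * m + 1))
include hF

theorem sz_cent_eq (hm : 1 ≤ m) {g : Sz F m} (hg : g ≠ 1) (hodd : ¬ 2 ∣ orderOf g) {u : Sz F m}
    (hu : u ∈ Subgroup.centralizer ({g} : Set (Sz F m))) (hu1 : u ≠ 1) :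
    Subgroup.centralizer ({u} : Set (Sz F m)) = Subgroup.centralizer ({g} : Set (Sz F m)) :=
  cent_eq (szData hF hm) (szQData hF hm) hg hodd hu hu1

theorem sz_pow_four_mem (hm : 1 ≤ m) {g : Sz F m} (hg : g ≠ 1) (hodd : ¬ 2 ∣ orderOf g)
    {n : Sz F m} (hn : n ∈ Subgroup.normalizer
      ((Subgroup.centralizer ({g} : Set (Sz F m)) : Subgroup (Sz F m)) : Set (Sz F m))) :
    n ^ 4 ∈ Subgroup.centralizer ({g} : Set (Sz F m)) :=
  pow_four_mem (szData hF hm) (szQData hF hm) hg hodd hn

theorem sz_odd_mem (hm : 1 ≤ m) {g : Sz F m} (hg : g ≠ 1) (hodd : ¬ 2 ∣ orderOf g)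
    {n : Sz F m} (hn : n ∈ Subgroup.normalizer
      ((Subgroup.centralizer ({g} : Set (Sz F m)) : Subgroup (Sz F m)) : Set (Sz F m)))
    (hnodd : ¬ 2 ∣ orderOf n) : n ∈ Subgroup.centralizer ({g} : Set (Sz F m)) :=
  odd_mem (szData hF hm) (szQData hF hm) hg hodd hn hnodd

theorem sz_card_normalizer (hm : 1 ≤ m) {g : Sz F m} (hg : g ≠ 1) (hodd : ¬ 2 ∣ orderOf g) :
    (Fpf (suzukiOvoid F m) g → Nat.card (Subgroup.normalizer
        ((Subgroup.centralizer ({g} : Set (Sz F m)) : Subgroup (Sz F m)) : Set (Sz F m)))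
        = Nat.card (Subgroup.centralizer ({g} : Set (Sz F m))) * 4) ∧
    (¬ Fpf (suzukiOvoid F m) g →
      Nat.card (Subgroup.centralizer ({g} : Set (Sz F m))) = 2 ^ (2 * m + 1) - 1 ∧
      Nat.card (Subgroup.normalizer
        ((Subgroup.centralizer ({g} : Set (Sz F m)) : Subgroup (Sz F m)) : Set (Sz F m)))
        = 2 * (2 ^ (2 * m + 1) - 1)) :=
  card_normalizer_cases (szData hF hm) (szQData hF hm) hg hodd

/-- elements of even order are 2-elements lying in a conjugate of `Q` -/
theorem sz_even (hm : 1 ≤ m) {g : Sz F m} (hev : 2 ∣ orderOf g) :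
    ∃ k : Sz F m, k⁻¹ * g * k ∈ Q hF hm :=
  even_mem_conj_Q (szData hF hm) (szQData hF hm) hev

end sz

end Cfsg.Agent.Lib.Helper61SzCent
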