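import Mathlib
import Cfsg.Agent.Lib.Helper61SzCovDefs
import Cfsg.Agent.Lib.Helper53ZTBasic
import Cfsg.Agent.Lib.Helper70ZTCardG

/-!
PROJECT 61, PART E, pieces `valS`, `sumKZ`.
-/

set_option autoImplicit false

namespace Cfsg.Agent.Lib.Helper61SzCovVal

open Cfsg Cfsg.Agent.Lib.Helper4Char Cfsg.Agent.Lib.Helper4Char2 Cfsg.Agent.Lib.Helper4Char4
  Cfsg.Agent.Lib.Helper61Feit7 Cfsg.Agent.Lib.Helper61Feit8 Cfsg.Agent.Lib.Helper61ZTDefs
  Cfsg.Agent.Lib.Helper81Base Cfsg.Agent.Lib.Helper61SzCovDefs Cfsg.Agent.Lib.Helper53ZTBasic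
open scoped ComplexConjugate Classical

variable {G : Type*} [Group G] [Fintype G] {K Z : Subgroup G}
  [Fintype ↥(Subgroup.normalizer (K : Set G))] {q d : ℕ}

/-- sums over the normaliser of functions supported on a subgroup -/
theorem sumN (Y : Subgroup G) (hY : Y ≤ Subgroup.normalizer (K : Set G)) (f : G → ℂ) :
    ∑ x : ↥(Subgroup.normalizer (K : Set G)), (if (x : G) ∈ Y then f x else 0)
      = ∑ u ∈ Finset.univ.filter (fun u : G => u ∈ Y), f u := by
  rw [Finset.sum_filter]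
  have h1 := Finset.sum_subtype (F := ‹Fintype ↥(Subgroup.normalizer (K : Set G))›)
    (Finset.univ.filter (fun u : G => u ∈ Subgroup.normalizer (K : Set G)))
    (p := fun u : G => u ∈ Subgroup.normalizer (K : Set G)) (by simp)
    (fun u : G => if u ∈ Y then f u else 0)
  rw [← h1, Finset.sum_filter]
  apply Finset.sum_congr rfl
  intro u _
  by_cases hu : u ∈ Y
  · simp [hu, hY hu]
  · simp [hu]

theorem innerY (Y : Subgroup G) (hY : Y ≤ Subgroup.normalizer (K : Set G)) (χ : G → ℂ) :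
    classInner (rs K χ) (fun x => if (x : G) ∈ Y then (1 : ℂ) else 0) =
      (Nat.card ↥(Subgroup.normalizer (K : Set G)) : ℂ)⁻¹ *
        ∑ u ∈ Finset.univ.filter (fun u : G => u ∈ Y), χ u := by
  rw [inner_ind, ← sumN Y hY χ]
  rfl

theorem cardN (hz : ZT K Z q (q ^ 2)) :
    (Nat.card ↥(Subgroup.normalizer (K : Set G)) : ℂ) = (q : ℂ) ^ 2 * ((q : ℂ) - 1) := by
  rw [Cfsg.Agent.Lib.Helper70ZTCardG.cardL hz]
  have : 1 ≤ q := le_trans (by norm_num) hz.hq
  push_cast [Nat.cast_sub this]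
  ring

theorem q_ne (hz : ZT K Z q (q ^ 2)) : (q : ℂ) ≠ 0 ∧ (q : ℂ) - 1 ≠ 0 := by
  have h4 := hz.hq
  constructor
  · have : q ≠ 0 := by omega
    exact_mod_cast this
  · intro h
    have h1 : (q : ℂ) = 1 := by linear_combination h
    have h2 : q = 1 := by exact_mod_cast h1
    omega

theorem sumZ_eq (hz : ZT K Z q (q ^ 2)) (χ : IrrCharacter G) (σ : G) (hσ : σ ∈ Z) (h1 : σ ≠ 1) :
    ∑ u ∈ Finset.univ.filter (fun u : G => u ∈ Z), (χ : G → ℂ) u
      = (χ : G → ℂ) 1 + ((q : ℂ) - 1) * (χ : G → ℂ) σ := by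
  have hmem : (1 : G) ∈ Finset.univ.filter (fun u : G => u ∈ Z) := by simp [Z.one_mem]
  rw [← Finset.add_sum_erase _ _ hmem]
  congr 1
  have hc : ∀ u ∈ (Finset.univ.filter (fun u : G => u ∈ Z)).erase 1, (χ : G → ℂ) u = (χ : G → ℂ) σ := by
    intro u hu
    rw [Finset.mem_erase, Finset.mem_filter] at hu
    obtain ⟨n, -, hn⟩ := hz.tr σ hσ u hu.2.2 h1 hu.1
    rw [← hn, irr_conj]
  rw [Finset.sum_congr rfl hc, Finset.sum_const, Finset.card_erase_of_mem hmem, nsmul_eq_mul]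
  congr 1
  have h2 : (Finset.univ.filter (fun u : G => u ∈ Z)).card = q := by
    rw [← hz.cardZ, Nat.card_eq_fintype_card, Fintype.card_subtype]
  rw [h2]
  have : 1 ≤ q := le_trans (by norm_num) hz.hq
  push_cast [Nat.cast_sub this]
  ring

/-- piece `valS` -/
theorem valS (hz : ZT K Z q (q ^ 2)) (χ : IrrCharacter G) (B : ℕ)
    (hB : classInner (rs K χ) (((q : ℂ) ^ 2) • d1 K - (q : ℂ) • dZ K Z) = B)
    (σ : G) (hσ : σ ∈ Z) (h1 : σ ≠ 1) :
    (χ : G → ℂ) σ = (χ : G → ℂ) 1 - (q : ℂ) * B := by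
  obtain ⟨hq0, hq1⟩ := q_ne hz
  have hZN : Z ≤ Subgroup.normalizer (K : Set G) := (Z_le_K hz).trans Subgroup.le_normalizer
  have e1 := hB
  have hdZ : classInner (rs K χ) (dZ K Z) = _ := innerY Z hZN (χ : G → ℂ)
  rw [classInner_sub_right, classInner_smul_right, classInner_smul_right, inner_d1, hdZ, cardN hz,
    sumZ_eq hz χ σ hσ h1] at e1
  have hχ1 : rs K χ 1 = (χ : G → ℂ) 1 := rfl
  rw [hχ1] at e1
  simp only [map_pow, Complex.conj_natCast] at e1
  rw [← e1]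
  field_simp
  ring

/-- piece `sumKZ` -/
theorem sumKZ (hz : ZT K Z q (q ^ 2)) (χ : IrrCharacter G) (m l : ℕ)
    (hm : classInner (rs K χ) ((q : ℂ) • dZ K Z - dK K) = m)
    (hl : classInner (rs K χ) (((q : ℂ) - 1) • dK K) = l) :
    ∑ u ∈ KZ K Z, (χ : G → ℂ) u = (q : ℂ) * ((q : ℂ) - 1) * ((l : ℂ) - m) := by
  obtain ⟨hq0, hq1⟩ := q_ne hz
  have hZN : Z ≤ Subgroup.normalizer (K : Set G) := (Z_le_K hz).trans Subgroup.le_normalizer
  have hdZ : classInner (rs K χ) (dZ K Z) = _ := innerY Z hZN (χ : G → ℂ)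
  have hdK : classInner (rs K χ) (dK K) = _ := innerY K Subgroup.le_normalizer (χ : G → ℂ)
  have e2 := hm
  have e3 := hl
  rw [classInner_sub_right, classInner_smul_right, hdZ, hdK, cardN hz] at e2
  rw [classInner_smul_right, hdK, cardN hz] at e3
  simp only [map_sub, map_one, Complex.conj_natCast] at e2 e3
  have hsplit : ∑ u ∈ Finset.univ.filter (fun u : G => u ∈ K), (χ : G → ℂ) u
      = ∑ u ∈ Finset.univ.filter (fun u : G => u ∈ Z), (χ : G → ℂ) u + ∑ u ∈ KZ K Z, (χ : G → ℂ) u := by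
    unfold KZ
    rw [Finset.sum_filter, Finset.sum_filter, Finset.sum_filter, ← Finset.sum_add_distrib]
    apply Finset.sum_congr rfl
    intro u _
    by_cases hu : u ∈ Z
    · simp [hu, Z_le_K hz hu]
    · by_cases hk : u ∈ K <;> simp [hu, hk]
  have h3 : ∑ u ∈ KZ K Z, (χ : G → ℂ) u = ∑ u ∈ Finset.univ.filter (fun u : G => u ∈ K), (χ : G → ℂ) u
      - ∑ u ∈ Finset.univ.filter (fun u : G => u ∈ Z), (χ : G → ℂ) u := by
    rw [hsplit]; ring
  rw [h3, ← e2, ← e3]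
  field_simp
  ring

end Cfsg.Agent.Lib.Helper61SzCovVal
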