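import Mathlib

set_option autoImplicit false

/-! Project 61, part D, piece `arithM`. -/

namespace Cfsg.Agent.Lib.Helper70SzDegArithM

theorem arithM (d : ℕ) (hd : 2 ≤ d) (y : ℤ) (hpos : 0 < 2 * (d : ℤ) ^ 2 + 1 + d * y)
    (hdvd : 2 * (d : ℤ) ^ 2 + 1 + d * y ∣ (2 * (d : ℤ) ^ 2) ^ 2 + 1) : y ^ 2 = 4 ∨ 9 ≤ y ^ 2 := by
  have hd' : (2 : ℤ) ≤ d := by exact_mod_cast hd
  generalize (d : ℤ) = D at *
  by_cases h3 : 3 ≤ y
  · right; nlinarith
  by_cases h3' : y ≤ -3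
  · right; nlinarith
  have hy1 : -3 < y := by omega
  have hy2 : y < 3 := by omega
  interval_cases y
  · left; norm_num
  · exfalso
    have h1 : 2 * D ^ 2 + 1 + D * (-1) ∣ 3 * D - 3 := by
      have e : 3 * D - 3 = (2 * D ^ 2 + 1 + D * (-1)) * (4 * D ^ 2 + 2 * D - 1) - 2 * ((2 * D ^ 2) ^ 2 + 1) := by
        ring
      rw [e]
      exact dvd_sub (dvd_mul_right _ _) (hdvd.mul_left _)
    have := Int.le_of_dvd (by linarith) h1
    nlinarith
  · exfalso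
    have h1 : 2 * D ^ 2 + 1 + D * 0 ∣ 2 := by
      have e : ((2 * D ^ 2) ^ 2 + 1) - (2 * D ^ 2 + 1 + D * 0) * (2 * D ^ 2 - 1) = 2 := by ring
      have h2 := dvd_sub hdvd (dvd_mul_right (2 * D ^ 2 + 1 + D * 0) (2 * D ^ 2 - 1))
      rwa [e] at h2
    have := Int.le_of_dvd (by norm_num) h1
    nlinarith
  · exfalso
    have h1 : 2 * D ^ 2 + 1 + D * 1 ∣ 3 * D + 3 := by
      have e : 3 * D + 3 = 2 * ((2 * D ^ 2) ^ 2 + 1) - (2 * D ^ 2 + 1 + D * 1) * (4 * D ^ 2 - 2 * D - 1) := by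
        ring
      rw [e]
      exact dvd_sub (hdvd.mul_left _) (dvd_mul_right _ _)
    have := Int.le_of_dvd (by linarith) h1
    nlinarith
  · left; norm_num

end Cfsg.Agent.Lib.Helper70SzDegArithM
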