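import Mathlib

set_option autoImplicit false

/-! Project 61, part D, piece `arithS`. -/

namespace Cfsg.Agent.Lib.Helper70SzDegArithS

theorem arithS (d : ℕ) (hd : 2 ≤ d) :
    ¬ (4 * d ^ 3 + 2 * d ^ 2 - 1 ∣ 4 * d ^ 4 + 1) ∧ ¬ (4 * d ^ 3 - 2 * d ^ 2 + 1 ∣ 4 * d ^ 4 + 1) := by
  obtain ⟨e, rfl⟩ : ∃ e, d = e + 2 := ⟨d - 2, by omega⟩
  constructor
  · rintro ⟨k, hk⟩
    obtain ⟨A, hA⟩ : ∃ A, 4 * (e + 2) ^ 3 + 2 * (e + 2) ^ 2 = A + 1 :=
      ⟨4 * (e + 2) ^ 3 + 2 * (e + 2) ^ 2 - 1, by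
        have : 0 < 4 * (e + 2) ^ 3 + 2 * (e + 2) ^ 2 := by positivity
        omega⟩
    rw [hA, Nat.add_sub_cancel] at hk
    have h1 : k < e + 2 := by
      by_contra hcon
      push Not at hcon
      have : A * (e + 2) ≤ A * k := Nat.mul_le_mul_left _ hcon
      nlinarith
    have h2 : e + 1 < k := by
      by_contra hcon
      push Not at hcon
      have : A * k ≤ A * (e + 1) := Nat.mul_le_mul_left _ hcon
      nlinarith
    omega
  · rintro ⟨k, hk⟩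
    obtain ⟨A, hA⟩ : ∃ A, 4 * (e + 2) ^ 3 = A + 2 * (e + 2) ^ 2 :=
      ⟨4 * (e + 2) ^ 3 - 2 * (e + 2) ^ 2, by
        have : 2 * (e + 2) ^ 2 ≤ 4 * (e + 2) ^ 3 := by nlinarith [sq_nonneg (e + 2)]
        omega⟩
    rw [hA, Nat.add_sub_cancel] at hk
    have h1 : k < e + 3 := by
      by_contra hcon
      push Not at hcon
      have : (A + 1) * (e + 3) ≤ (A + 1) * k := Nat.mul_le_mul_left _ hcon
      nlinarith
    have h2 : e + 2 < k := by
      by_contra hcon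
      push Not at hcon
      have : (A + 1) * k ≤ (A + 1) * (e + 2) := Nat.mul_le_mul_left _ hcon
      nlinarith
    omega

end Cfsg.Agent.Lib.Helper70SzDegArithS
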