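import Mathlib
import Cfsg.Agent.Lib.Helper70SzDegArithM
import Cfsg.Agent.Lib.Helper70SzDegArithS

set_option autoImplicit false

/-! Project 61, part D, piece `arithMain`. -/

namespace Cfsg.Agent.Lib.Helper61SzDegArith

open Cfsg.Agent.Lib.Helper70SzDegArithM Cfsg.Agent.Lib.Helper70SzDegArithS

/-- class `A` : `M = d b + 1` divides `q² + 1`. -/
theorem clsA (d k b : ℕ) (hd2 : 2 ≤ d) (hk : d = 2 * k) (e : ℕ) (he : 2 * d ^ 2 = e + 1)
    (hdvd : e * (d * b) + e * 1 + 0 ∣ ((2 * d ^ 2) ^ 2 + 1) * (2 * d ^ 2) ^ 2 * e) :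
    ((b : ℤ) - 2 * d) ^ 2 = 4 ∨ 9 ≤ ((b : ℤ) - 2 * d) ^ 2 := by
  have he0 : 0 < e := by nlinarith
  have h1 : d * b + 1 ∣ ((2 * d ^ 2) ^ 2 + 1) * (2 * d ^ 2) ^ 2 := by
    apply Nat.dvd_of_mul_dvd_mul_left he0
    have h0 : e * (d * b + 1) = e * (d * b) + e * 1 + 0 := by ring
    have h0' : e * (((2 * d ^ 2) ^ 2 + 1) * (2 * d ^ 2) ^ 2) =
      ((2 * d ^ 2) ^ 2 + 1) * (2 * d ^ 2) ^ 2 * e := by ring
    rw [h0, h0']
    exact hdvd
  have h2 : ((d * b + 1 : ℕ) : ℤ) ∣ (((2 * d ^ 2) ^ 2 + 1) * (2 * d ^ 2) ^ 2 : ℕ) :=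
    Int.natCast_dvd_natCast.2 h1
  push_cast at h2
  have hc1 : IsCoprime ((d : ℤ) * b + 1) d := ⟨1, -b, by ring⟩
  have hc2 : IsCoprime ((d : ℤ) * b + 1) 2 := ⟨1, -(k * b), by rw [hk]; push_cast; ring⟩
  have hc3 : IsCoprime ((d : ℤ) * b + 1) ((2 * (d : ℤ) ^ 2) ^ 2) :=
    (hc2.mul_right hc1.pow_right).pow_right
  have h3 := hc3.dvd_of_dvd_mul_right h2
  apply arithM d hd2
  · have : (0 : ℤ) ≤ (d : ℤ) * b := by positivity
    nlinarith
  · have : 2 * (d : ℤ) ^ 2 + 1 + d * ((b : ℤ) - 2 * d) = (d : ℤ) * b + 1 := by ring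
    rw [this]
    exact h3

/-- the class of `xs` : `b = 2 d ± 1` is impossible. -/
theorem clsS (d b : ℕ) (hd2 : 2 ≤ d) (e : ℕ) (he : 2 * d ^ 2 = e + 1)
    (hdvd : e * (d * b) + e * 1 + 1 ∣ ((2 * d ^ 2) ^ 2 + 1) * (2 * d ^ 2) ^ 2 * e) :
    ((b : ℤ) - 2 * d) ^ 2 ≠ 1 := by
  intro h
  have heZ : (e : ℤ) = 2 * (d : ℤ) ^ 2 - 1 := by
    have : ((2 * d ^ 2 : ℕ) : ℤ) = ((e + 1 : ℕ) : ℤ) := by rw [he]
    push_cast at this
    linarith
  have h2 : ((e * (d * b) + e * 1 + 1 : ℕ) : ℤ) ∣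
      ((((2 * d ^ 2) ^ 2 + 1) * (2 * d ^ 2) ^ 2 * e : ℕ) : ℤ) := Int.natCast_dvd_natCast.2 hdvd
  push_cast at h2
  have hd3 : 1 ≤ d ^ 2 := Nat.one_le_pow _ _ (by omega)
  have hd4 : d ^ 2 ≤ d ^ 3 := Nat.pow_le_pow_right (by omega) (by norm_num)
  have hcases : (b : ℤ) - 2 * d = 1 ∨ (b : ℤ) - 2 * d = -1 := by
    have : ((b : ℤ) - 2 * d - 1) * ((b : ℤ) - 2 * d + 1) = 0 := by linear_combination h
    rcases mul_eq_zero.1 this with h | h
    · left; linarith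
    · right; linarith
  rcases hcases with hb | hb
  · have hb' : (b : ℤ) = 2 * d + 1 := by linarith
    have h3 : (4 * (d : ℤ) ^ 3 + 2 * (d : ℤ) ^ 2 - 1) ∣
        ((2 * (d : ℤ) ^ 2) ^ 2 + 1) * (2 * (d : ℤ) ^ 2) ^ 2 * e := by
      refine dvd_trans ⟨d, ?_⟩ h2
      rw [hb', heZ]; ring
    have hc1 : IsCoprime (4 * (d : ℤ) ^ 3 + 2 * (d : ℤ) ^ 2 - 1) (e : ℤ) :=
      ⟨d, -(2 * (d : ℤ) ^ 2 + d + 1), by rw [heZ]; ring⟩
    have hc2 : IsCoprime (4 * (d : ℤ) ^ 3 + 2 * (d : ℤ) ^ 2 - 1) ((2 * (d : ℤ) ^ 2) ^ 2) :=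
      IsCoprime.pow_right ⟨-1, 2 * d + 1, by ring⟩
    have h4 := hc2.dvd_of_dvd_mul_right (hc1.dvd_of_dvd_mul_right h3)
    apply (arithS d hd2).1
    apply Int.natCast_dvd_natCast.1
    rw [Nat.cast_sub (by omega)]
    push_cast
    have : (2 * (d : ℤ) ^ 2) ^ 2 + 1 = 4 * (d : ℤ) ^ 4 + 1 := by ring
    rw [← this]
    exact h4
  · have hb' : (b : ℤ) = 2 * d - 1 := by linarith
    have h3 : (4 * (d : ℤ) ^ 3 - 2 * (d : ℤ) ^ 2 + 1) ∣
        ((2 * (d : ℤ) ^ 2) ^ 2 + 1) * (2 * (d : ℤ) ^ 2) ^ 2 * e := by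
      refine dvd_trans ⟨d, ?_⟩ h2
      rw [hb', heZ]; ring
    have hc1 : IsCoprime (4 * (d : ℤ) ^ 3 - 2 * (d : ℤ) ^ 2 + 1) (e : ℤ) :=
      ⟨d, -(2 * (d : ℤ) ^ 2 - d + 1), by rw [heZ]; ring⟩
    have hc2 : IsCoprime (4 * (d : ℤ) ^ 3 - 2 * (d : ℤ) ^ 2 + 1) ((2 * (d : ℤ) ^ 2) ^ 2) :=
      IsCoprime.pow_right ⟨1, -(2 * d - 1), by ring⟩
    have h4 := hc2.dvd_of_dvd_mul_right (hc1.dvd_of_dvd_mul_right h3)
    apply (arithS d hd2).2
    apply Int.natCast_dvd_natCast.1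
    rw [Nat.cast_add, Nat.cast_sub (by omega)]
    push_cast
    have : (2 * (d : ℤ) ^ 2) ^ 2 + 1 = 4 * (d : ℤ) ^ 4 + 1 := by ring
    rw [← this]
    exact h4

theorem aux1 (y : ℤ) (h2 : y ^ 2 ≤ 2) (h3 : y ^ 2 ≠ 1) : y = 0 := by
  have hy1 : -2 < y := by nlinarith
  have hy2 : y < 2 := by nlinarith
  interval_cases y
  · exact absurd (by norm_num) h3
  · rfl
  · exact absurd (by norm_num) h3

theorem aux2 (n : ℕ) (h : n ^ 2 ≤ 2) : n < 2 := by nlinarith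

theorem aux3 (D : ℤ) (h : 2 ≤ D) : -2 * D ≠ -2 * D ^ 2 ∧ -2 * D ≠ -(-2) * D ^ 2 := by
  constructor <;> intro h' <;> nlinarith

set_option maxHeartbeats 1600000 in
theorem arithMain {X : Type*} [Fintype X] [DecidableEq X] (q d : ℕ) (hq : 4 ≤ q)
    (hq2 : ∃ n : ℕ, q = 2 ^ n) (hd : 2 * d ^ 2 = q) (x₁ xs : X) (T : Finset X)
    (m b l deg : X → ℕ) (hm1 : m x₁ = 0) (hm : ∀ x, m x ≤ 1) (hmm : ∑ x, m x ^ 2 = q)
    (hBB : ∑ x, (d * b x) ^ 2 = q + q ^ 2 * (q - 1)) (hmB : ∑ x, m x * (d * b x) = q * (q - 1))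
    (hTc : T.card = q / 2 - 1) (hT : ∀ x ∈ T, l x = 2 ∧ deg x = q ^ 2 + 1)
    (h1T : x₁ ∉ T) (hsT : xs ∉ T) (hs1 : xs ≠ x₁) (hl1 : l x₁ = 1) (hls : l xs = 1)
    (hl0 : ∀ x, x ∉ T → x ≠ x₁ → x ≠ xs → l x = 0)
    (hdeg : ∀ x, deg x = (q - 1) * (d * b x) + (q - 1) * m x + l x)
    (hdvd : ∀ x, deg x ∣ (q ^ 2 + 1) * q ^ 2 * (q - 1)) (hdeg1 : deg x₁ = 1) :
    Set.range deg = {1, q ^ 2, q ^ 2 + 1, (q - 1) * (q + 1 + 2 * d), (q - 1) * (q + 1 - 2 * d),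
      (q - 1) * d} := by
  have hd2 : 2 ≤ d := by
    by_contra h
    have h1 : d ≤ 1 := by omega
    have h2 : d ^ 2 ≤ 1 := by nlinarith
    omega
  have hd0 : 0 < d := by omega
  obtain ⟨k, hk⟩ : ∃ k, d = 2 * k := by
    obtain ⟨n, hn⟩ := hq2
    have h1 : d ∣ 2 ^ n := ⟨2 * d, by rw [← hn, ← hd]; ring⟩
    obtain ⟨j, -, hj⟩ := (Nat.dvd_prime_pow Nat.prime_two).1 h1
    cases j with
    | zero => simp at hj; omega
    | succ j => exact ⟨2 ^ j, by rw [hj]; ring⟩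
  have hd4 : 4 ≤ d ^ 2 := by nlinarith
  obtain ⟨e, he⟩ : ∃ e, 2 * d ^ 2 = e + 1 := ⟨2 * d ^ 2 - 1, by omega⟩
  subst hd
  have he' : 2 * d ^ 2 - 1 = e := by omega
  simp only [he'] at hBB hmB hdeg hdvd ⊢
  have he0 : 0 < e := by omega
  have hTc' : T.card + 1 = d ^ 2 := by omega
  have heZ : (e : ℤ) = 2 * (d : ℤ) ^ 2 - 1 := by
    have : ((2 * d ^ 2 : ℕ) : ℤ) = ((e + 1 : ℕ) : ℤ) := by rw [he]
    push_cast at this
    linarith
  have hdZ : (2 : ℤ) ≤ d := by exact_mod_cast hd2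
  have hTZ : (T.card : ℤ) = (d : ℤ) ^ 2 - 1 := by
    have : ((T.card + 1 : ℕ) : ℤ) = ((d ^ 2 : ℕ) : ℤ) := by rw [hTc']
    push_cast at this
    linarith
  have hmsq : ∀ x, m x ^ 2 = m x := by
    intro x
    rcases Nat.le_one_iff_eq_zero_or_eq_one.1 (hm x) with h | h <;> rw [h] <;> rfl
  have hS1 : ∑ x, (m x : ℤ) = 2 * (d : ℤ) ^ 2 := by
    have : ∑ x, m x = 2 * d ^ 2 := by
      rw [← hmm]; exact Finset.sum_congr rfl (fun x _ => (hmsq x).symm)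
    exact_mod_cast this
  have hS2 : ∑ x, (m x : ℤ) * b x = 2 * d * e := by
    have h1 : d * ∑ x, m x * b x = d * (2 * d * e) := by
      rw [Finset.mul_sum]
      calc ∑ x, d * (m x * b x) = ∑ x, m x * (d * b x) :=
            Finset.sum_congr rfl (fun x _ => by ring)
        _ = 2 * d ^ 2 * e := hmB
        _ = d * (2 * d * e) := by ring
    have h2 := Nat.eq_of_mul_eq_mul_left hd0 h1
    exact_mod_cast h2
  have hS3 : ∑ x, (b x : ℤ) ^ 2 = 2 + 4 * d ^ 2 * e := by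
    have h1 : d ^ 2 * ∑ x, b x ^ 2 = d ^ 2 * (2 + 4 * d ^ 2 * e) := by
      rw [Finset.mul_sum]
      calc ∑ x, d ^ 2 * b x ^ 2 = ∑ x, (d * b x) ^ 2 :=
            Finset.sum_congr rfl (fun x _ => by ring)
        _ = 2 * d ^ 2 + (2 * d ^ 2) ^ 2 * e := hBB
        _ = d ^ 2 * (2 + 4 * d ^ 2 * e) := by ring
    have h2 := Nat.eq_of_mul_eq_mul_left (by positivity) h1
    exact_mod_cast h2
  have hsT' : ∑ x, (if x ∈ T then (1 : ℤ) else 0) = T.card := by simp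
  have hss : ∀ c : ℤ, ∑ x, (if x = xs then c else 0) = c := by intro c; simp
  obtain ⟨g, hg⟩ : ∃ g : X → ℤ, ∀ x, g x =
      (b x : ℤ) ^ 2 - 4 * d * ((m x : ℤ) * b x) + 4 * d ^ 2 * m x
      - 4 * ((m x : ℤ) - (if x ∈ T then 1 else 0) - (if x = xs then (m xs : ℤ) else 0)) :=
    ⟨_, fun _ => rfl⟩
  have hgsum : ∑ x, g x = 4 * (m xs : ℤ) - 2 := by
    simp only [hg, Finset.sum_sub_distrib, Finset.sum_add_distrib, ← Finset.mul_sum, hS1, hS2, hS3,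
      hsT', hss, hTZ, heZ]
    ring
  have hb1 : b x₁ = 0 := by
    have h := hdeg x₁
    rw [hdeg1, hm1, hl1] at h
    have h2 : e * (d * b x₁) = 0 := by omega
    rcases mul_eq_zero.1 h2 with h | h
    · omega
    · rcases mul_eq_zero.1 h with h | h
      · omega
      · exact h
  have hTmb : ∀ x ∈ T, m x = 1 ∧ b x = 2 * d := by
    intro x hx
    obtain ⟨h1, h2⟩ := hT x hx
    have h := hdeg x
    rw [h1, h2] at h
    have h3 : e * (d * b x + m x) = e * (2 * d ^ 2 + 1) := by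
      have h0 : (2 * d ^ 2) ^ 2 = e * (2 * d ^ 2 + 1) + 1 := by rw [he]; ring
      have h0' : e * (d * b x + m x) = e * (d * b x) + e * m x := by ring
      omega
    have h4 := Nat.eq_of_mul_eq_mul_left he0 h3
    rcases Nat.le_one_iff_eq_zero_or_eq_one.1 (hm x) with hmx | hmx
    · exfalso
      have h7 : d ∣ 1 := by
        have h5 : d ∣ 2 * d ^ 2 + 1 := ⟨b x, by omega⟩
        have h6 : d ∣ 2 * d ^ 2 := ⟨2 * d, by ring⟩
        exact (Nat.dvd_add_right h6).1 h5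
      have := Nat.le_of_dvd one_pos h7
      omega
    · refine ⟨hmx, ?_⟩
      have h5 : d * b x = d * (2 * d) := by
        have : d * (2 * d) = 2 * d ^ 2 := by ring
        omega
      exact Nat.eq_of_mul_eq_mul_left hd0 h5
  have hg1 : g x₁ = 0 := by
    rw [hg, hm1, hb1, if_neg h1T, if_neg (Ne.symm hs1)]; simp
  have hgT : ∀ x ∈ T, g x = 0 := by
    intro x hx
    obtain ⟨h1, h2⟩ := hTmb x hx
    have hxs : x ≠ xs := fun h => hsT (h ▸ hx)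
    rw [hg, h1, h2, if_pos hx, if_neg hxs]; push_cast; ring
  have hgs : g xs = (b xs : ℤ) ^ 2 - 4 * d * ((m xs : ℤ) * b xs) + 4 * d ^ 2 * m xs := by
    rw [hg, if_neg hsT, if_pos rfl]; ring
  have hgA : ∀ x, x ∉ T → x ≠ x₁ → x ≠ xs → m x = 1 → g x = ((b x : ℤ) - 2 * d) ^ 2 - 4 ∧
      (((b x : ℤ) - 2 * d) ^ 2 = 4 ∨ 9 ≤ ((b x : ℤ) - 2 * d) ^ 2) := by
    intro x h1 h2 h3 h4
    constructor
    · rw [hg, h4, if_neg h1, if_neg h3]; push_cast; ring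
    · apply clsA d k (b x) hd2 hk e he
      have := hdvd x
      rw [hdeg x, h4, hl0 x h1 h2 h3] at this
      exact this
  have hgC : ∀ x, x ∉ T → x ≠ x₁ → x ≠ xs → m x = 0 → g x = (b x : ℤ) ^ 2 ∧ 1 ≤ b x := by
    intro x h1 h2 h3 h4
    constructor
    · rw [hg, h4, if_neg h1, if_neg h3]; push_cast; ring
    · by_contra hb
      have hb0 : b x = 0 := by omega
      have := hdvd x
      rw [hdeg x, h4, hl0 x h1 h2 h3, hb0] at this
      have h5 : 0 < ((2 * d ^ 2) ^ 2 + 1) * (2 * d ^ 2) ^ 2 * e := by positivity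
      simp only [mul_zero, add_zero, zero_dvd_iff] at this
      omega
  have hcls : ∀ x, x = x₁ ∨ x ∈ T ∨ x = xs ∨ (x ∉ T ∧ x ≠ x₁ ∧ x ≠ xs ∧ m x = 1) ∨
      (x ∉ T ∧ x ≠ x₁ ∧ x ≠ xs ∧ m x = 0) := by
    intro x
    by_cases h1 : x = x₁
    · exact Or.inl h1
    by_cases h2 : x ∈ T
    · exact Or.inr (Or.inl h2)
    by_cases h3 : x = xs
    · exact Or.inr (Or.inr (Or.inl h3))
    rcases Nat.le_one_iff_eq_zero_or_eq_one.1 (hm x) with h | h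
    · exact Or.inr (Or.inr (Or.inr (Or.inr ⟨h2, h1, h3, h⟩)))
    · exact Or.inr (Or.inr (Or.inr (Or.inl ⟨h2, h1, h3, h⟩)))
  have hgs0 : 0 ≤ g xs := by
    rw [hgs]
    rcases Nat.le_one_iff_eq_zero_or_eq_one.1 (hm xs) with h | h
    · have h' : (b xs : ℤ) ^ 2 - 4 * d * ((m xs : ℤ) * b xs) + 4 * d ^ 2 * m xs
          = (b xs : ℤ) ^ 2 := by rw [h]; push_cast; ring
      rw [h']; positivity
    · have h' : (b xs : ℤ) ^ 2 - 4 * d * ((m xs : ℤ) * b xs) + 4 * d ^ 2 * m xs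
          = ((b xs : ℤ) - 2 * d) ^ 2 := by rw [h]; push_cast; ring
      rw [h']; positivity
  have hg0 : ∀ x, 0 ≤ g x := by
    intro x
    rcases hcls x with h | h | h | ⟨h1, h2, h3, h4⟩ | ⟨h1, h2, h3, h4⟩
    · rw [h, hg1]
    · rw [hgT x h]
    · rw [h]; exact hgs0
    · obtain ⟨h5, h6⟩ := hgA x h1 h2 h3 h4
      rw [h5]; rcases h6 with h6 | h6 <;> linarith
    · rw [(hgC x h1 h2 h3 h4).1]; positivity
  have hms : m xs = 1 := by
    have h1 : 0 ≤ ∑ x, g x := Finset.sum_nonneg (fun x _ => hg0 x)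
    rw [hgsum] at h1
    have := hm xs
    omega
  have hgsum2 : ∑ x, g x = 2 := by rw [hgsum, hms]; norm_num
  have hgle : ∀ x, g x ≤ 2 := by
    intro x
    rw [← hgsum2]
    exact Finset.single_le_sum (fun y _ => hg0 y) (Finset.mem_univ x)
  have hA : ∀ x, x ∉ T → x ≠ x₁ → x ≠ xs → m x = 1 → ((b x : ℤ) - 2 * d) ^ 2 = 4 := by
    intro x h1 h2 h3 h4
    obtain ⟨h5, h6⟩ := hgA x h1 h2 h3 h4
    have := hgle x
    rcases h6 with h6 | h6
    · exact h6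
    · linarith
  have hbs : b xs = 2 * d := by
    have h1 : g xs = ((b xs : ℤ) - 2 * d) ^ 2 := by rw [hgs, hms]; push_cast; ring
    have h2 := hgle xs
    rw [h1] at h2
    have h3 : ((b xs : ℤ) - 2 * d) ^ 2 ≠ 1 := by
      apply clsS d (b xs) hd2 e he
      have := hdvd xs
      rw [hdeg xs, hms, hls] at this
      exact this
    have h4 : (b xs : ℤ) - 2 * d = 0 := aux1 _ h2 h3
    have : (b xs : ℤ) = 2 * d := by linarith
    exact_mod_cast this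
  have hC : ∀ x, x ∉ T → x ≠ x₁ → x ≠ xs → m x = 0 → b x = 1 := by
    intro x h1 h2 h3 h4
    obtain ⟨h5, h6⟩ := hgC x h1 h2 h3 h4
    have h7 := hgle x
    rw [h5] at h7
    have h8 : b x ^ 2 ≤ 2 := by exact_mod_cast h7
    have : b x < 2 := aux2 _ h8
    omega
  have hCne : ∃ x, x ∉ T ∧ x ≠ x₁ ∧ x ≠ xs ∧ m x = 0 := by
    by_contra hne
    push_neg at hne
    have : ∑ x, g x = 0 := by
      apply Finset.sum_eq_zero
      intro x _
      rcases hcls x with h | h | h | ⟨h1, h2, h3, h4⟩ | ⟨h1, h2, h3, h4⟩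
      · rw [h]; exact hg1
      · exact hgT x h
      · rw [h, hgs, hms, hbs]; push_cast; ring
      · rw [(hgA x h1 h2 h3 h4).1, hA x h1 h2 h3 h4]; norm_num
      · exact absurd h4 (hne x h1 h2 h3)
    omega
  have hasum : ∑ x, ((m x : ℤ) - (if x ∈ T then 1 else 0) - (if x = xs then (1 : ℤ) else 0))
      = d ^ 2 := by
    simp only [Finset.sum_sub_distrib, hS1, hsT', hss, hTZ]
    ring
  have hmbsum : ∑ x, (m x : ℤ) * ((b x : ℤ) - 2 * d) = - 2 * d := by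
    simp only [mul_sub, Finset.sum_sub_distrib, hS2]
    rw [← Finset.sum_mul, hS1, heZ]; ring
  have hsign : ∀ s : ℤ, (s = 2 ∨ s = -2) →
      ∃ x, x ∉ T ∧ x ≠ x₁ ∧ x ≠ xs ∧ m x = 1 ∧ (b x : ℤ) - 2 * d = s := by
    intro s hs
    by_contra hne
    push_neg at hne
    have h1 : ∀ x, (m x : ℤ) * ((b x : ℤ) - 2 * d) =
        -s * ((m x : ℤ) - (if x ∈ T then 1 else 0) - (if x = xs then (1 : ℤ) else 0)) := by
      intro x
      rcases hcls x with h | h | h | ⟨h1, h2, h3, h4⟩ | ⟨h1, h2, h3, h4⟩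
      · rw [h, hm1, if_neg h1T, if_neg (Ne.symm hs1)]; simp
      · obtain ⟨h5, h6⟩ := hTmb x h
        have hxs : x ≠ xs := fun h' => hsT (h' ▸ h)
        rw [h5, h6, if_pos h, if_neg hxs]; push_cast; ring
      · rw [h, hms, hbs, if_neg hsT, if_pos rfl]; push_cast; ring
      · rw [h4, if_neg h1, if_neg h3]
        have h5 := hA x h1 h2 h3 h4
        have h6 := hne x h1 h2 h3 h4
        have h7 : ((b x : ℤ) - 2 * d - 2) * ((b x : ℤ) - 2 * d + 2) = 0 := by linear_combination h5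
        push_cast
        rcases mul_eq_zero.1 h7 with h7 | h7 <;> rcases hs with rfl | rfl
        · exact absurd (by linarith) h6
        · linarith
        · linarith
        · exact absurd (by linarith) h6
      · rw [h4, if_neg h1, if_neg h3]; simp
    have h2 : (-2 * d : ℤ) = -s * d ^ 2 := by
      rw [← hmbsum, ← hasum, Finset.mul_sum]; exact Finset.sum_congr rfl (fun x _ => h1 x)
    rcases hs with rfl | rfl
    · exact (aux3 _ hdZ).1 h2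
    · exact (aux3 _ hdZ).2 h2
  have hdegs : deg xs = (2 * d ^ 2) ^ 2 := by
    rw [hdeg, hms, hbs, hls]
    have : d * (2 * d) = e + 1 := by rw [← he]; ring
    rw [this, he]; ring
  have hdegP : ∀ x, x ∉ T → x ≠ x₁ → x ≠ xs → m x = 1 → (b x : ℤ) - 2 * d = 2 →
      deg x = e * (2 * d ^ 2 + 1 + 2 * d) := by
    intro x h1 h2 h3 h4 h5
    have h6 : b x = 2 * d + 2 := by
      have : (b x : ℤ) = 2 * d + 2 := by linarith
      exact_mod_cast this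
    rw [hdeg, h4, h6, hl0 x h1 h2 h3]; ring
  have hdegM : ∀ x, x ∉ T → x ≠ x₁ → x ≠ xs → m x = 1 → (b x : ℤ) - 2 * d = -2 →
      deg x = e * (2 * d ^ 2 + 1 - 2 * d) := by
    intro x h1 h2 h3 h4 h5
    have h6 : b x + 2 = 2 * d := by
      have : (b x : ℤ) + 2 = 2 * d := by linarith
      exact_mod_cast this
    have h7 : d * b x + 2 * d = 2 * d ^ 2 := by
      calc d * b x + 2 * d = d * (b x + 2) := by ring
        _ = d * (2 * d) := by rw [h6]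
        _ = 2 * d ^ 2 := by ring
    have h8 : 2 * d ^ 2 + 1 - 2 * d = d * b x + 1 := by omega
    rw [hdeg, h4, h8, hl0 x h1 h2 h3]; ring
  have hdegC : ∀ x, x ∉ T → x ≠ x₁ → x ≠ xs → m x = 0 → deg x = e * d := by
    intro x h1 h2 h3 h4
    rw [hdeg, h4, hC x h1 h2 h3 h4, hl0 x h1 h2 h3]; ring
  ext n
  simp only [Set.mem_range, Set.mem_insert_iff, Set.mem_singleton_iff]
  constructor
  · rintro ⟨x, rfl⟩
    rcases hcls x with h | h | h | ⟨h1, h2, h3, h4⟩ | ⟨h1, h2, h3, h4⟩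
    · left; rw [h]; exact hdeg1
    · right; right; left; exact (hT x h).2
    · right; left; rw [h]; exact hdegs
    · have h5 := hA x h1 h2 h3 h4
      have h7 : ((b x : ℤ) - 2 * d - 2) * ((b x : ℤ) - 2 * d + 2) = 0 := by linear_combination h5
      rcases mul_eq_zero.1 h7 with h7 | h7
      · right; right; right; left; exact hdegP x h1 h2 h3 h4 (by linarith)
      · right; right; right; right; left; exact hdegM x h1 h2 h3 h4 (by linarith)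
    · right; right; right; right; right; exact hdegC x h1 h2 h3 h4
  · rintro (rfl | rfl | rfl | rfl | rfl | rfl)
    · exact ⟨x₁, hdeg1⟩
    · exact ⟨xs, hdegs⟩
    · obtain ⟨x, hx⟩ : T.Nonempty := Finset.card_pos.1 (by omega)
      exact ⟨x, (hT x hx).2⟩
    · obtain ⟨x, h1, h2, h3, h4, h5⟩ := hsign 2 (Or.inl rfl)
      exact ⟨x, hdegP x h1 h2 h3 h4 h5⟩
    · obtain ⟨x, h1, h2, h3, h4, h5⟩ := hsign (-2) (Or.inr rfl)
      exact ⟨x, hdegM x h1 h2 h3 h4 h5⟩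
    · obtain ⟨x, h1, h2, h3, h4⟩ := hCne
      exact ⟨x, hdegC x h1 h2 h3 h4⟩

end Cfsg.Agent.Lib.Helper61SzDegArith
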