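import Mathlib
import Cfsg.Agent.Lib.Helper83Char
import Cfsg.Prelude.Def_DegreeGraph

/-!
PROJECT 61, PART D, piece `transfer`.
-/

set_option autoImplicit false

namespace Cfsg.Agent.Lib.Helper61SzDegRow

open Cfsg

theorem transfer_le {S S' : Type*} [Group S] [Group S'] (e : S ≃* S') :
    charDegrees S' ⊆ charDegrees S := by
  rintro d ⟨χ, rfl⟩
  refine ⟨⟨(χ : S' → ℂ) ∘ e, Cfsg.Agent.Lib.Helper83Char.irr_comp_mulEquiv e χ.2⟩, ?_⟩
  simp [charDegree]

theorem transfer {S S' : Type*} [Group S] [Group S'] (e : S ≃* S') :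
    charDegrees S = charDegrees S' :=
  Set.Subset.antisymm (transfer_le e.symm) (transfer_le e)

end Cfsg.Agent.Lib.Helper61SzDegRow
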