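import Mathlib
import Cfsg.Prelude.Def_DegreeGraph

set_option autoImplicit false

/-! Project 61, part D, piece `graph`. -/

namespace Cfsg.Agent.Lib.Helper70SzDegGraph

open Cfsg

theorem graph {S : Type*} [Group S] (m q : ℕ) (hm : 1 ≤ m) (hqm : q = 2 ^ (2 * m + 1))
    (hdeg : charDegrees S = {1, q ^ 2, q ^ 2 + 1, (q - 1) * (q + 1 + 2 * 2 ^ m),
      (q - 1) * (q + 1 - 2 * 2 ^ m), (q - 1) * 2 ^ m}) :
    degreePrimes S = {r : ℕ | r.Prime ∧ (r = 2 ∨ r ∣ (q - 1) * (q ^ 2 + 1))} ∧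
    ∀ r s : ℕ, (degreeGraph S).Adj r s ↔ (r ≠ s ∧ r.Prime ∧ s.Prime ∧
      ((r ∣ (q - 1) * (q ^ 2 + 1) ∧ s ∣ (q - 1) * (q ^ 2 + 1)) ∨ (r = 2 ∧ s ∣ q - 1) ∨
        (s = 2 ∧ r ∣ q - 1))) := by
  set t := 2 ^ m with ht
  have hqt : q = 2 * t ^ 2 := by
    rw [hqm, ht, ← pow_mul, pow_succ, mul_comm m 2, mul_comm]
  have ht2 : 2 ∣ t := by
    rw [ht]; exact dvd_pow_self 2 (by omega)
  have htpos : 0 < t := by rw [ht]; positivity
  obtain ⟨B, hB⟩ : ∃ B, q + 1 = B + 2 * t := by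
    refine ⟨q + 1 - 2 * t, ?_⟩
    have : 2 * t ≤ q + 1 := by rw [hqt]; nlinarith
    omega
  have hB' : q + 1 - 2 * t = B := by omega
  rw [hB'] at hdeg
  set A := q + 1 + 2 * t with hA
  set e := q - 1 with he
  have hAB : A * B = q ^ 2 + 1 := by
    have h1 : A = B + 4 * t := by omega
    have h2 : q = B + 2 * t - 1 := by omega
    have h3 : (q + 1) ^ 2 = (B + 2 * t) ^ 2 := by rw [hB]
    rw [h1]
    nlinarith
  have hmem : ∀ d, d ∈ charDegrees S ↔ (d = 1 ∨ d = q ^ 2 ∨ d = q ^ 2 + 1 ∨ d = e * A ∨ d = e * B ∨ d = e * t) := by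
    intro d
    rw [hdeg]
    simp only [Set.mem_insert_iff, Set.mem_singleton_iff]
  have hp2 : ∀ r : ℕ, r.Prime → r ∣ q ^ 2 → r = 2 := by
    intro r hr h
    rw [hqm, ← pow_mul] at h
    exact (Nat.prime_dvd_prime_iff_eq hr Nat.prime_two).1 (hr.dvd_of_dvd_pow h)
  have hpt : ∀ r : ℕ, r.Prime → r ∣ t → r = 2 := by
    intro r hr h
    rw [ht] at h
    exact (Nat.prime_dvd_prime_iff_eq hr Nat.prime_two).1 (hr.dvd_of_dvd_pow h)
  have hAd : A ∣ q ^ 2 + 1 := hAB ▸ dvd_mul_right _ _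
  have hBd : B ∣ q ^ 2 + 1 := hAB ▸ dvd_mul_left _ _
  constructor
  · ext r
    simp only [degreePrimes, Set.mem_ofPred_eq]
    constructor
    · rintro ⟨hr, d, hd, hrd⟩
      refine ⟨hr, ?_⟩
      rcases (hmem d).1 hd with rfl | rfl | rfl | rfl | rfl | rfl
      · exact absurd (Nat.dvd_one.1 hrd) hr.one_lt.ne'
      · exact Or.inl (hp2 r hr hrd)
      · exact Or.inr (hrd.mul_left _)
      · exact Or.inr (hrd.trans (mul_dvd_mul_left _ hAd))
      · exact Or.inr (hrd.trans (mul_dvd_mul_left _ hBd))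
      · rcases (hr.dvd_mul).1 hrd with h | h
        · exact Or.inr (h.mul_right _)
        · exact Or.inl (hpt r hr h)
    · rintro ⟨hr, rfl | h⟩
      · refine ⟨hr, q ^ 2, (hmem _).2 (Or.inr (Or.inl rfl)), ?_⟩
        rw [hqt]
        exact Dvd.dvd.pow (dvd_mul_right 2 _) (by norm_num)
      · rcases (hr.dvd_mul).1 h with h | h
        · exact ⟨hr, e * t, (hmem _).2 (by tauto), h.mul_right _⟩
        · exact ⟨hr, q ^ 2 + 1, (hmem _).2 (by tauto), h⟩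
  · intro r s
    show (r ≠ s ∧ r.Prime ∧ s.Prime ∧ ∃ d ∈ charDegrees S, r * s ∣ d) ↔ _
    constructor
    · rintro ⟨hne, hr, hs, d, hd, hrs⟩
      refine ⟨hne, hr, hs, ?_⟩
      have hrd : r ∣ d := (dvd_mul_right r s).trans hrs
      have hsd : s ∣ d := (dvd_mul_left s r).trans hrs
      rcases (hmem d).1 hd with rfl | rfl | rfl | rfl | rfl | rfl
      · exact absurd (Nat.dvd_one.1 hrd) hr.one_lt.ne'
      · exact absurd ((hp2 r hr hrd).trans (hp2 s hs hsd).symm) hne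
      · exact Or.inl ⟨hrd.mul_left _, hsd.mul_left _⟩
      · exact Or.inl ⟨hrd.trans (mul_dvd_mul_left _ hAd), hsd.trans (mul_dvd_mul_left _ hAd)⟩
      · exact Or.inl ⟨hrd.trans (mul_dvd_mul_left _ hBd), hsd.trans (mul_dvd_mul_left _ hBd)⟩
      · rcases (hr.dvd_mul).1 hrd with h | h <;> rcases (hs.dvd_mul).1 hsd with h' | h'
        · exact Or.inl ⟨h.mul_right _, h'.mul_right _⟩
        · exact Or.inr (Or.inr ⟨hpt s hs h', h⟩)
        · exact Or.inr (Or.inl ⟨hpt r hr h, h'⟩)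
        · exact absurd ((hpt r hr h).trans (hpt s hs h').symm) hne
    · rintro ⟨hne, hr, hs, h⟩
      refine ⟨hne, hr, hs, ?_⟩
      have hcop : Nat.Coprime r s := (Nat.coprime_primes hr hs).2 hne
      rcases h with ⟨h1, h2⟩ | ⟨rfl, h2⟩ | ⟨rfl, h2⟩
      · rcases (hr.dvd_mul).1 h1 with h1 | h1 <;> rcases (hs.dvd_mul).1 h2 with h2 | h2
        · exact ⟨e * t, (hmem _).2 (by tauto), (hcop.mul_dvd_of_dvd_of_dvd h1 h2).mul_right _⟩
        · rw [← hAB] at h2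
          rcases (hs.dvd_mul).1 h2 with h2 | h2
          · exact ⟨e * A, (hmem _).2 (by tauto), mul_dvd_mul h1 h2⟩
          · exact ⟨e * B, (hmem _).2 (by tauto), mul_dvd_mul h1 h2⟩
        · rw [← hAB] at h1
          rcases (hr.dvd_mul).1 h1 with h1 | h1
          · exact ⟨e * A, (hmem _).2 (by tauto), by rw [mul_comm r s]; exact mul_dvd_mul h2 h1⟩
          · exact ⟨e * B, (hmem _).2 (by tauto), by rw [mul_comm r s]; exact mul_dvd_mul h2 h1⟩
        · exact ⟨q ^ 2 + 1, (hmem _).2 (by tauto), hcop.mul_dvd_of_dvd_of_dvd h1 h2⟩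
      · exact ⟨e * t, (hmem _).2 (by tauto), by rw [mul_comm 2 s]; exact mul_dvd_mul h2 ht2⟩
      · exact ⟨e * t, (hmem _).2 (by tauto), mul_dvd_mul h2 ht2⟩

end Cfsg.Agent.Lib.Helper70SzDegGraph
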