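import Mathlib
import Cfsg.Agent.Lib.Helper70ZTCardG
import Cfsg.Agent.Lib.Helper53ZTBasic
import Cfsg.Agent.Lib.Helper61Feit8

set_option autoImplicit false

/-! Project 61, part D, piece `sf3`. -/

namespace Cfsg.Agent.Lib.Helper70SzDegSf3

open Cfsg Cfsg.Agent.Lib.Helper4Char Cfsg.Agent.Lib.Helper4Char2 Cfsg.Agent.Lib.Helper4Char4
  Cfsg.Agent.Lib.Helper61Feit7 Cfsg.Agent.Lib.Helper61Feit8 Cfsg.Agent.Lib.Helper61ZTDefs
open scoped ComplexConjugate Classical

variable {G : Type*} [Group G] [Fintype G] {K Z : Subgroup G}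
  [Fintype ↥(Subgroup.normalizer (K : Set G))] {q h : ℕ}

omit [Fintype ↥(Subgroup.normalizer (K : Set G))] in
theorem exists_central_invol (hz : ZT K Z q h) :
    ∃ z ∈ Z, z ≠ 1 ∧ ∀ k ∈ K, k * z = z * k := by
  obtain ⟨u, hu, v, hv, huv⟩ := hz.na
  have hnt : Nontrivial K := by
    refine ⟨⟨u, hu⟩, 1, ?_⟩
    intro h
    have h1 : u = 1 := congrArg Subtype.val h
    apply huv
    rw [h1, one_mul, mul_one]
  have hc := hz.two.center_nontrivial
  obtain ⟨c, hc1⟩ := exists_ne (1 : Subgroup.center K)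
  have hcK : ((c : K) : G) ∈ K := (c : K).2
  have hcne : ((c : K) : G) ≠ 1 := by
    intro h
    apply hc1
    apply Subtype.ext
    apply Subtype.ext
    exact h
  have hcomm : ∀ k ∈ K, k * ((c : K) : G) = ((c : K) : G) * k := by
    intro k hk
    have := Subgroup.mem_center_iff.1 c.2 ⟨k, hk⟩
    exact congrArg Subtype.val this
  by_cases hsq : ((c : K) : G) * ((c : K) : G) = 1
  · exact ⟨_, (hz.hZ _).2 ⟨hcK, hsq⟩, hcne, hcomm⟩
  · refine ⟨_, hz.sq _ hcK, hsq, ?_⟩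
    intro k hk
    rw [← mul_assoc, hcomm k hk, mul_assoc, hcomm k hk, mul_assoc]

omit [Fintype ↥(Subgroup.normalizer (K : Set G))] in
theorem Z_central (hz : ZT K Z q h) : ∀ z ∈ Z, z ≠ 1 → ∀ k ∈ K, k * z = z * k := by
  obtain ⟨z0, hz0, hz01, hc⟩ := exists_central_invol hz
  intro z hzZ hz1 k hk
  obtain ⟨n, hn, rfl⟩ := hz.tr z0 hz0 z hzZ hz01 hz1
  have hk' : n⁻¹ * k * n ∈ K := by
    have := (Subgroup.mem_normalizer_iff.1 (inv_mem hn) k).1 hk
    simpa using this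
  have := hc _ hk'
  calc k * (n * z0 * n⁻¹) = n * ((n⁻¹ * k * n) * z0) * n⁻¹ := by group
    _ = n * (z0 * (n⁻¹ * k * n)) * n⁻¹ := by rw [this]
    _ = _ := by group

omit [Fintype ↥(Subgroup.normalizer (K : Set G))] in
theorem card_cent_Z (hz : ZT K Z q h) (z : G) (hzZ : z ∈ Z) (hz1 : z ≠ 1) :
    Nat.card (Subgroup.centralizer ({z} : Set G)) = h := by
  have hzK : z ∈ K := ((hz.hZ z).1 hzZ).1
  have : Subgroup.centralizer ({z} : Set G) = K := by
    apply le_antisymm (hz.hC z hzK hz1)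
    intro k hk
    rw [Subgroup.mem_centralizer_singleton_iff]
    exact Z_central hz z hzZ hz1 k hk
  rw [this, hz.hK]

omit [Fintype ↥(Subgroup.normalizer (K : Set G))] in
theorem card_cent_L (hz : ZT K Z q h) (g : ↥(Subgroup.normalizer (K : Set G))) (hg : (g : G) ∈ K)
    (hg1 : g ≠ 1) :
    Nat.card (Subgroup.centralizer ({g} : Set ↥(Subgroup.normalizer (K : Set G))))
      = Nat.card (Subgroup.centralizer ({(g : G)} : Set G)) := by
  have hg1' : (g : G) ≠ 1 := fun h => hg1 (Subtype.ext h)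
  apply Nat.card_congr
  refine ⟨fun x => ⟨(x.1 : G), ?_⟩, fun y => ⟨⟨y.1, Subgroup.le_normalizer (hz.hC _ hg hg1' y.2)⟩, ?_⟩,
    fun x => rfl, fun y => rfl⟩
  · have := Subgroup.mem_centralizer_singleton_iff.1 x.2
    rw [Subgroup.mem_centralizer_singleton_iff]
    exact congrArg Subtype.val this
  · have := Subgroup.mem_centralizer_singleton_iff.1 y.2
    rw [Subgroup.mem_centralizer_singleton_iff]
    exact Subtype.ext this

theorem sf3 (hz : ZT K Z q (q ^ 2))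
    (hcent : ∀ u ∈ K, u ∉ Z → Nat.card (Subgroup.centralizer ({u} : Set G)) = 2 * q) :
    (SF (KN K)).card = 3 := by
  have hZK : Z ≤ K := Cfsg.Agent.Lib.Helper53ZTBasic.Z_le_K hz
  have hP : ∀ g : ↥(Subgroup.normalizer (K : Set G)),
      (∃ x : ↥(Subgroup.normalizer (K : Set G)), ConjClasses.mk x = ConjClasses.mk g ∧ x ∈ KN K ∧ x ≠ 1)
      ↔ ((g : G) ∈ K ∧ g ≠ 1) := by
    intro g
    constructor
    · rintro ⟨x, hx, hxK, hx1⟩
      rw [ConjClasses.mk_eq_mk_iff_isConj, isConj_iff] at hx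
      obtain ⟨c, rfl⟩ := hx
      refine ⟨Subgroup.mem_subgroupOf.1 ((inferInstance : (KN K).Normal).conj_mem x hxK c), ?_⟩
      intro h
      apply hx1
      have : x = c⁻¹ * (c * x * c⁻¹) * c := by group
      rw [this, h]; group
    · intro h
      exact ⟨g, rfl, Subgroup.mem_subgroupOf.2 h.1, h.2⟩
  have hsum := Cfsg.Agent.Lib.Helper61Feit5.sum_card_centralizer
    (G := ↥(Subgroup.normalizer (K : Set G)))
    (fun C => ∃ x : ↥(Subgroup.normalizer (K : Set G)), ConjClasses.mk x = C ∧ x ∈ KN K ∧ x ≠ 1)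
  rw [card_classes (KN K) (hv K hz.hC), Cfsg.Agent.Lib.Helper70ZTCardG.cardL hz] at hsum
  have hsum' := congrArg (Nat.cast : ℕ → ℂ) hsum
  push_cast at hsum'
  have h1 : ∀ g : ↥(Subgroup.normalizer (K : Set G)),
      ((if (∃ x : ↥(Subgroup.normalizer (K : Set G)), ConjClasses.mk x = ConjClasses.mk g ∧ x ∈ KN K ∧ x ≠ 1)
      then (Nat.card (Subgroup.centralizer ({g} : Set ↥(Subgroup.normalizer (K : Set G)))) : ℂ) else 0))
      = ((q : ℂ) ^ 2 - 2 * q) * (if (g : G) ∈ Z then (1 : ℂ) else 0)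
        + (2 * (q : ℂ)) * (if (g : G) ∈ K then (1 : ℂ) else 0) - (q : ℂ) ^ 2 * (if g = 1 then (1 : ℂ) else 0) := by
    intro g
    by_cases hg1 : g = 1
    · subst hg1
      rw [if_neg (fun h => ((hP 1).1 h).2 rfl)]
      simp [Z.one_mem, K.one_mem]
    · by_cases hgK : (g : G) ∈ K
      · rw [if_pos ((hP g).2 ⟨hgK, hg1⟩), card_cent_L hz g hgK hg1]
        by_cases hgZ : (g : G) ∈ Z
        · rw [card_cent_Z hz _ hgZ (fun h => hg1 (Subtype.ext h))]
          simp [hgZ, hgK, hg1]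
        · rw [hcent _ hgK hgZ]
          simp [hgZ, hgK, hg1]
      · rw [if_neg (fun h => hgK ((hP g).1 h).1)]
        have hgZ : (g : G) ∉ Z := fun h => hgK (hZK h)
        simp [hgZ, hgK, hg1]
  rw [Finset.sum_congr rfl (fun g _ => h1 g), Finset.sum_sub_distrib, Finset.sum_add_distrib,
    ← Finset.mul_sum, ← Finset.mul_sum, ← Finset.mul_sum,
    Cfsg.Agent.Lib.Helper53ZTBasic.sum_ind Z (hZK.trans Subgroup.le_normalizer),
    Cfsg.Agent.Lib.Helper53ZTBasic.sum_ind K Subgroup.le_normalizer, hz.cardZ, hz.hK,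
    Finset.sum_ite_eq' Finset.univ (1 : ↥(Subgroup.normalizer (K : Set G))) (fun _ => (1 : ℂ)),
    if_pos (Finset.mem_univ _)] at hsum'
  have hq := hz.hq
  have hq1 : ((q - 1 : ℕ) : ℂ) = (q : ℂ) - 1 := by
    rw [Nat.cast_sub (by omega)]; simp
  rw [hq1] at hsum'
  push_cast at hsum'
  have hq0 : (q : ℂ) ≠ 0 := Nat.cast_ne_zero.2 (by omega)
  have hq10 : (q : ℂ) - 1 ≠ 0 := by
    intro h
    have : (q : ℂ) = 1 := by linear_combination h
    have : q = 1 := by exact_mod_cast this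
    omega
  have h3 : (((SF (KN K)).card : ℕ) : ℂ) = 3 := by
    have h4 : ((q : ℂ) ^ 2 * ((q : ℂ) - 1)) * (((SF (KN K)).card : ℕ) : ℂ) = ((q : ℂ) ^ 2 * ((q : ℂ) - 1)) * 3 := by
      linear_combination -hsum'
    exact mul_left_cancel₀ (mul_ne_zero (pow_ne_zero 2 hq0) hq10) h4
  exact_mod_cast h3

end Cfsg.Agent.Lib.Helper70SzDegSf3
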