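import Cfsg.Agent.Lib.Helper8Sz7
import Cfsg.Agent.Lib.Helper61Fix2

set_option autoImplicit false
set_option linter.unusedVariables false
set_option linter.unusedSectionVars false
set_option linter.unusedSimpArgs false

namespace Cfsg.Agent.Lib.Helper61SzTori

open Cfsg Cfsg.Agent.Lib.Helper8Sz Cfsg.Agent.Lib.Helper8Sz2 Cfsg.Agent.Lib.Helper8Sz3
  Cfsg.Agent.Lib.Helper8Sz4 Cfsg.Agent.Lib.Helper8Sz5 Cfsg.Agent.Lib.Helper8Irr
  Cfsg.Agent.Lib.Helper8Sz6 Cfsg.Agent.Lib.Helper8Sz7 Cfsg.Agent.Lib.Helper61Zass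
  Cfsg.Agent.Lib.Helper61Fix2

theorem root_mem_abstract {F : Type*} [Field F] [Fintype F] {K : Type*} [CommRing K] [IsDomain K]
    [Algebra F K] (P : Polynomial F) (hP : P.natDegree = 4) (x y : K)
    (hx : Polynomial.aeval x P = 0) (hy : Polynomial.aeval y P = 0)
    (hinj : ∀ i < 4, ∀ j < 4, x ^ (Fintype.card F ^ i) = x ^ (Fintype.card F ^ j) → i = j) :
    ∃ i < 4, y = x ^ (Fintype.card F ^ i) := by
  classical
  have hP0 : P ≠ 0 := by
    rintro rfl
    simp at hP
  have hroot : ∀ i : ℕ, Polynomial.aeval (x ^ (Fintype.card F ^ i)) P = 0 := by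
    intro i
    induction i with
    | zero => simpa using hx
    | succ i ih =>
      have h1 : x ^ (Fintype.card F ^ (i + 1))
          = FiniteField.frobeniusAlgHom F K (x ^ (Fintype.card F ^ i)) := by
        rw [FiniteField.coe_frobeniusAlgHom]
        show _ = (x ^ (Fintype.card F ^ i)) ^ Fintype.card F
        rw [← pow_mul, ← pow_succ]
      rw [h1, Polynomial.aeval_algHom_apply, ih, map_zero]
  let S : Finset K := (Finset.range 4).image (fun i => x ^ (Fintype.card F ^ i))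
  have hS : S.card = 4 := by
    rw [Finset.card_image_of_injOn, Finset.card_range]
    intro i hi j hj hij
    exact hinj i (Finset.mem_range.1 hi) j (Finset.mem_range.1 hj) hij
  have hsub : S ⊆ (P.aroots K).toFinset := by
    intro s hs
    obtain ⟨i, _, rfl⟩ := Finset.mem_image.1 hs
    rw [Multiset.mem_toFinset, Polynomial.mem_aroots]
    exact ⟨hP0, hroot i⟩
  have hcard : (P.aroots K).toFinset.card ≤ S.card := by
    rw [hS]
    calc (P.aroots K).toFinset.card ≤ (P.aroots K).card := Multiset.toFinset_card_le _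
      _ ≤ (P.map (algebraMap F K)).natDegree := Polynomial.card_roots' _
      _ ≤ P.natDegree := Polynomial.natDegree_map_le
      _ = 4 := hP
  have hEq := Finset.eq_of_subset_of_card_le hsub hcard
  have hyS : y ∈ S := by
    rw [hEq, Multiset.mem_toFinset, Polynomial.mem_aroots]
    exact ⟨hP0, hy⟩
  obtain ⟨i, hi, e⟩ := Finset.mem_image.1 hyS
  exact ⟨i, Finset.mem_range.1 hi, e.symm⟩

section irr

variable {F : Type*} [Field F] [Fintype F]
variable {p : ℕ} [Fact p.Prime] (hp2 : p ≠ 2) (hpq : p ∣ Fintype.card F ^ 2 + 1)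
  (X : Matrix (Fin 4) (Fin 4) F) (hXp : X ^ p = 1) (hX1 : X ≠ 1)
include hp2 hpq hXp hX1

theorem root_mem (Y : Matrix (Fin 4) (Fin 4) F) (hYX : Y * X = X * Y)
    (hY : Polynomial.aeval Y X.charpoly = 0)
    (hinj : ∀ i < 4, ∀ j < 4, X ^ (Fintype.card F ^ i) = X ^ (Fintype.card F ^ j) → i = j) :
    ∃ i < 4, Y = X ^ (Fintype.card F ^ i) := by
  have hdom := isDomain_centralizer hp2 hpq X hXp hX1
  have hfield := Finite.isDomain_to_isField
    (Subalgebra.centralizer F ({X} : Set (Matrix (Fin 4) (Fin 4) F)))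
  let _ : CommRing (Subalgebra.centralizer F ({X} : Set (Matrix (Fin 4) (Fin 4) F))) :=
    { (inferInstance : Ring (Subalgebra.centralizer F ({X} : Set (Matrix (Fin 4) (Fin 4) F)))) with
      mul_comm := hfield.mul_comm }
  let x : Subalgebra.centralizer F ({X} : Set (Matrix (Fin 4) (Fin 4) F)) := ⟨X, by
    rw [Subalgebra.mem_centralizer_iff]
    intro b hb
    rw [Set.mem_singleton_iff.1 hb]⟩
  let y : Subalgebra.centralizer F ({X} : Set (Matrix (Fin 4) (Fin 4) F)) := ⟨Y, by
    rw [Subalgebra.mem_centralizer_iff]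
    intro b hb
    rw [Set.mem_singleton_iff.1 hb]
    exact hYX.symm⟩
  have hx : Polynomial.aeval x X.charpoly = 0 := by
    apply Subtype.ext
    rw [Polynomial.aeval_subalgebra_coe]
    exact Matrix.aeval_self_charpoly X
  have hy : Polynomial.aeval y X.charpoly = 0 := by
    apply Subtype.ext
    rw [Polynomial.aeval_subalgebra_coe]
    exact hY
  have hdeg : X.charpoly.natDegree = 4 := by
    rw [Matrix.charpoly_natDegree_eq_dim]; rfl
  obtain ⟨i, hi, e⟩ := root_mem_abstract X.charpoly hdeg x y hx hy (by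
    intro i hi j hj hij
    exact hinj i hi j hj (congrArg Subtype.val hij))
  exact ⟨i, hi, congrArg Subtype.val e⟩

end irr

section inst

variable {F : Type*} [Field F] [Fintype F] {m : ℕ} (hF : Fintype.card F = 2 ^ (2 * m + 1))
include hF

theorem sz_conj_pow (x : Sz F m) (p : ℕ) (hp : p.Prime) (hpq : p ∣ (2 ^ (2 * m + 1)) ^ 2 + 1)
    (hx : orderOf x = p) (g : Sz F m) (hc : Commute (g * x * g⁻¹) x) :
    ∃ i < 4, g * x * g⁻¹ = x ^ ((2 ^ (2 * m + 1)) ^ i) := by
  have : Fact p.Prime := ⟨hp⟩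
  have hp2 : p ≠ 2 := by
    rintro rfl
    have e : (2 ^ (2 * m + 1)) ^ 2 = 2 * (2 ^ (2 * m) * 2 ^ (2 * m + 1)) := by
      rw [pow_succ 2 (2 * m)]; ring
    rw [e] at hpq
    omega
  have hXp : (toMat m x) ^ p = 1 := by
    rw [← map_pow, ← hx, pow_orderOf_eq_one, map_one]
  have hX1 : toMat m x ≠ 1 := by
    intro h
    have : x = 1 := toMat_injective (h.trans (map_one _).symm)
    rw [this, orderOf_one] at hx
    exact hp.one_lt.ne hx
  have hpq' : p ∣ Fintype.card F ^ 2 + 1 := by rw [hF]; exact hpq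
  have hch : (toMat m (g * x * g⁻¹)).charpoly = (toMat m x).charpoly := by
    have h1 := Matrix.charpoly_units_conj (Units.map (toMat (F := F) m) (toUnits g)) (toMat m x)
    rw [← h1, map_mul, map_mul]
    have h2 : ((Units.map (toMat (F := F) m) (toUnits g) : (Matrix (Fin 4) (Fin 4) F)ˣ) :
        Matrix (Fin 4) (Fin 4) F) = toMat m g := rfl
    have h3 : (toMat m g)⁻¹ = toMat m g⁻¹ := by
      apply Matrix.inv_eq_right_inv
      rw [← map_mul, mul_inv_cancel, map_one]
    rw [h2, h3]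
  have hY : Polynomial.aeval (toMat m (g * x * g⁻¹)) (toMat m x).charpoly = 0 := by
    rw [← hch]
    exact Matrix.aeval_self_charpoly _
  have hYX : toMat m (g * x * g⁻¹) * toMat m x = toMat m x * toMat m (g * x * g⁻¹) := by
    rw [← map_mul, ← map_mul, hc.eq]
  obtain ⟨i, hi, e⟩ := root_mem hp2 hpq' (toMat m x) hXp hX1 _ hYX hY (by
    have key : ∀ i ≤ 4, ∀ j ≤ i, i < 4 →
        toMat m x ^ (Fintype.card F ^ i) = toMat m x ^ (Fintype.card F ^ j) → i = j := by
      intro i hi j hj hi4 hij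
      rw [← map_pow, ← map_pow] at hij
      have h1 := toMat_injective hij
      rw [pow_eq_pow_iff_modEq, hx] at h1
      rcases arith hp2 hpq' hi hj h1 with h2 | ⟨h2, _⟩
      · exact h2
      · omega
    intro i hi j hj hij
    rcases le_total j i with h | h
    · exact key i hi.le j h hi hij
    · exact (key j hj.le i h hj hij.symm).symm)
  refine ⟨i, hi, toMat_injective ?_⟩
  rw [e, map_pow, hF]

theorem sz_cent_comm (x : Sz F m) (p : ℕ) (hp : p.Prime) (hpq : p ∣ (2 ^ (2 * m + 1)) ^ 2 + 1)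
    (hx : orderOf x = p) (g h : Sz F m) (hg : Commute g x) (hh : Commute h x) : Commute g h := by
  have : Fact p.Prime := ⟨hp⟩
  have hp2 : p ≠ 2 := by
    rintro rfl
    have e : (2 ^ (2 * m + 1)) ^ 2 = 2 * (2 ^ (2 * m) * 2 ^ (2 * m + 1)) := by
      rw [pow_succ 2 (2 * m)]; ring
    rw [e] at hpq
    omega
  have hcyc := cent_cyclic hF hp2 hpq hx
  have := isMulCommutative_iff.1
    (IsCyclic.isMulCommutative (α := Subgroup.centralizer ({x} : Set (Sz F m))))
    ⟨g, mem_cent.2 hg⟩ ⟨h, mem_cent.2 hh⟩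
  exact congrArg Subtype.val this

theorem szData (hm : 1 ≤ m) : ZData (Sz F m) (suzukiOvoid F m) (2 ^ (2 * m + 1)) where
  q_pow := ⟨2 * m + 1, by omega, rfl⟩
  card_O := by rw [card_ovoid, hF]
  card_G := card_Sz hF hm
  two_trans := two_trans hF
  three_point := three_point hF hm
  cent_comm := sz_cent_comm hF
  conj_pow := sz_conj_pow hF

end inst

section inst2

variable {F : Type*} [Field F] [Fintype F] {m : ℕ} (hF : Fintype.card F = 2 ^ (2 * m + 1))
include hF

/-- the centre of `Q` as a subgroup of `Sz` -/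
def Zs (hm : 1 ≤ m) : Subgroup (Sz F m) where
  carrier := {g | ∃ b : F, g = T hF 0 b}
  mul_mem' := by
    rintro _ _ ⟨b, rfl⟩ ⟨b', rfl⟩
    exact ⟨b + b', T0_mul hF hm b b'⟩
  one_mem' := ⟨0, (T_zero hF hm).symm⟩
  inv_mem' := by
    rintro _ ⟨b, rfl⟩
    exact ⟨b, T0_inv hF hm b⟩

theorem card_Zs (hm : 1 ≤ m) : Nat.card (Zs hF hm) = 2 ^ (2 * m + 1) := by
  rw [← hF, ← Nat.card_eq_fintype_card]
  apply Nat.card_congr
  exact (Equiv.ofBijective (fun b : F => (⟨T hF 0 b, b, rfl⟩ : Zs hF hm)) ⟨by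
    intro b b' h
    exact (T_inj hF (congrArg Subtype.val h)).2, by
    rintro ⟨_, b, rfl⟩
    exact ⟨b, rfl⟩⟩).symm

theorem mem_Q_of_fix' (hm : 1 ≤ m) {x : Sz F m} (hx : x • oInf F m = oInf F m) (h4 : x ^ 4 = 1) :
    ∃ a b, x = T hF a b := by
  let g : MulAction.stabilizer (Sz F m) (oInf F m) := ⟨x, hx⟩
  apply mem_ker_chi hF hm g
  rw [MonoidHom.mem_ker]
  have h : (chi hF hm g) ^ 4 = 1 := by
    rw [← map_pow]
    have : g ^ 4 = 1 := Subtype.ext h4
    rw [this, map_one]
  apply Units.ext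
  have h' : ((chi hF hm g : Fˣ) : F) ^ 4 = 1 := by
    have := congrArg Units.val h
    simpa using this
  apply sq_injective hF
  apply sq_injective hF
  rw [Units.val_one, one_pow, one_pow, ← pow_mul]
  exact h'

theorem cent_T (hm : 1 ≤ m) (a b : F) (hne : T hF a b ≠ 1) (g : Sz F m)
    (hg : g * T hF a b = T hF a b * g) : ∃ a' b', g = T hF a' b' := by
  have hinf : g • oInf F m = oInf F m := by
    rcases o_cases (g • oInf F m) with h3 | ⟨x, y, h3⟩
    · exact h3
    · exfalso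
      have h4 : T hF a b • oPt m x y = oPt m x y := by
        rw [← h3, ← mul_smul, ← hg, mul_smul, T_oInf]
      obtain ⟨rfl, rfl⟩ := T_fix hF h4
      exact hne (T_zero hF hm)
  obtain ⟨a', b', e, he, rfl⟩ := stab_one' hF hm hinf
  rw [mul_assoc, H_T hF hm, ← mul_assoc, ← mul_assoc, T_mul hF hm, T_mul hF hm] at hg
  obtain ⟨h6, h7⟩ := T_inj hF (mul_right_cancel hg)
  have he1 : e = 1 := by
    by_cases ha : a = 0
    · subst ha
      have hb : b ≠ 0 := by
        rintro rfl
        exact hne (T_zero hF hm)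
      apply norm2_eq_one hF
      rw [sg_zero] at h7
      have : (e ^ 2 * sg m e - 1) * b = 0 := by linear_combination h7
      rcases mul_eq_zero.1 this with h8 | h8
      · linear_combination h8
      · exact absurd h8 hb
    · apply sg_eq_one hF
      have : (sg m e - 1) * a = 0 := by linear_combination h6
      rcases mul_eq_zero.1 this with h8 | h8
      · linear_combination h8
      · exact absurd h8 ha
  subst he1
  rw [H_one, mul_one]
  exact ⟨a', b', rfl⟩

theorem szQData (hm : 1 ≤ m) :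
    QData (Sz F m) (suzukiOvoid F m) (2 ^ (2 * m + 1)) (oInf F m) (Q hF hm) (Zs hF hm) where
  Q_fix := by
    rintro _ ⟨a, b, rfl⟩
    exact T_oInf hF a b
  Q_card := card_Q hF hm
  Q_normal := by
    intro b hb u hu
    have h1 : b ∈ Subgroup.normalizer (Q hF hm : Set (Sz F m)) := by
      rw [normalizer_Q hF hm]; exact hb
    exact (Subgroup.mem_normalizer_iff.1 h1 u).1 hu
  Q_semireg := by
    rintro _ ⟨a, b, rfl⟩ hne p hp
    rcases o_cases p with h | ⟨x, y, rfl⟩
    · exact h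
    · exfalso
      obtain ⟨rfl, rfl⟩ := T_fix hF hp
      exact hne (T_zero hF hm)
  Q_cent := by
    rintro _ ⟨a, b, rfl⟩ hne g hg
    exact cent_T hF hm a b hne g hg
  Z_le := by
    rintro _ ⟨b, rfl⟩
    exact ⟨0, b, rfl⟩
  Z_card := card_Zs hF hm
  Z_central := by
    rintro _ ⟨y, rfl⟩ _ ⟨a, b, rfl⟩
    show T hF a b * T hF 0 y = T hF 0 y * T hF a b
    rw [T_mul hF hm, T_mul hF hm]
    congr 1
    · ring
    · rw [sg_zero]; ring
  invol_mem := by
    intro t ht hinf
    have h4 : t ^ 4 = 1 := by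
      have : t ^ 4 = (t ^ 2) ^ 2 := by rw [← pow_mul]
      rw [this, ht, one_pow]
    obtain ⟨a, b, rfl⟩ := mem_Q_of_fix' hF hm hinf h4
    have ha := T_sq_eq_one hF hm ht
    subst ha
    exact ⟨b, rfl⟩
  Z_conj := by
    rintro _ ⟨y, rfl⟩ _ ⟨y', rfl⟩ hs ht
    have hy : y ≠ 0 := by
      rintro rfl
      exact hs (T_zero hF hm)
    have hy' : y' ≠ 0 := by
      rintro rfl
      exact ht (T_zero hF hm)
    obtain ⟨c, hc, e⟩ := norm2_surj hF (d := y' / y) (div_ne_zero hy' hy)
    refine ⟨T hF 0 0 * H hF c hc, ?_⟩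
    rw [conj_T0 hF hm, e, div_mul_cancel₀ _ hy]
  stab_comm := by
    intro a b hab g h hga hgb hha hhb
    obtain ⟨k, h1, h2⟩ := exists_map_pair hF hab
    obtain ⟨e, he, hk⟩ := stab_two' hF hm (g := k⁻¹ * g * k)
      (by rw [mul_smul, mul_smul, h1, hga, ← h1, inv_smul_smul])
      (by rw [mul_smul, mul_smul, h2, hgb, ← h2, inv_smul_smul])
    obtain ⟨e', he', hk'⟩ := stab_two' hF hm (g := k⁻¹ * h * k)
      (by rw [mul_smul, mul_smul, h1, hha, ← h1, inv_smul_smul])
      (by rw [mul_smul, mul_smul, h2, hhb, ← h2, inv_smul_smul])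
    have hcomm : (k⁻¹ * g * k) * (k⁻¹ * h * k) = (k⁻¹ * h * k) * (k⁻¹ * g * k) := by
      rw [hk, hk', ← H_mul, ← H_mul]
      congr 1
      exact mul_comm e e'
    show g * h = h * g
    calc g * h = k * ((k⁻¹ * g * k) * (k⁻¹ * h * k)) * k⁻¹ := by group
      _ = k * ((k⁻¹ * h * k) * (k⁻¹ * g * k)) * k⁻¹ := by rw [hcomm]
      _ = h * g := by group

end inst2

end Cfsg.Agent.Lib.Helper61SzTori
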