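import Mathlib
import Cfsg.Agent.Lib.Helper6ZTMain
import Cfsg.Agent.Lib.Helper61SzTori
import Cfsg.Agent.S0327
import Cfsg.Agent.S0325
import Cfsg.Prelude.Def_Sz

/-!
PROJECT 61, PART D, piece `instSz`.
-/

set_option autoImplicit false

namespace Cfsg.Agent.Lib.Helper73SzDegInstSz

open Cfsg Cfsg.Agent.Lib.Helper4Char Cfsg.Agent.Lib.Helper4Char2 Cfsg.Agent.Lib.Helper4Char4
  Cfsg.Agent.Lib.Helper61Feit7 Cfsg.Agent.Lib.Helper61Feit8 Cfsg.Agent.Lib.Helper61ZTDefs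
open scoped ComplexConjugate Classical

open Cfsg.Agent.Lib.Helper8Sz Cfsg.Agent.Lib.Helper8Sz2 Cfsg.Agent.Lib.Helper8Sz3
  Cfsg.Agent.Lib.Helper8Sz4 Cfsg.Agent.Lib.Helper8Sz5 Cfsg.Agent.Lib.Helper8Sz6
  Cfsg.Agent.Lib.Helper8Sz7 Cfsg.Agent.Lib.Helper61SzTori Cfsg.Agent.Lib.Helper61Feit

variable {F : Type*} [Field F] [Fintype F] {m : ℕ} (hF : Fintype.card F = 2 ^ (2 * m + 1))
include hF

theorem card_stab2 (hm : 1 ≤ m) :
    Nat.card (stab2 (Sz F m) (oInf F m) (oPt m (0 : F) 0)) = 2 ^ (2 * m + 1) - 1 := by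
  rw [← hF, ← Fintype.card_units, ← Nat.card_eq_fintype_card]
  apply Nat.card_congr
  refine (Equiv.ofBijective (fun c : Fˣ =>
    (⟨H hF (c : F) c.ne_zero, mem_stab2.2 ⟨H_oInf hF _ _, by
      rw [H_oPt]; simp⟩⟩ : stab2 (Sz F m) (oInf F m) (oPt m (0 : F) 0))) ⟨?_, ?_⟩).symm
  · intro c c' h
    exact Units.ext (H_inj hF (congrArg Subtype.val h))
  · rintro ⟨g, hg⟩
    obtain ⟨h1, h2⟩ := mem_stab2.1 hg
    obtain ⟨c, hc, rfl⟩ := stab_two' hF hm h1 h2
    exact ⟨Units.mk0 c hc, rfl⟩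

theorem exists_ne (hm : 1 ≤ m) : ∃ a : F, a ≠ 0 ∧ a ≠ 1 := by
  by_contra hcon
  push Not at hcon
  have h1 : (Finset.univ : Finset F) ⊆ {0, 1} := by
    intro a _
    by_cases ha : a = 0
    · simp [ha]
    · simp [hcon a ha]
  have h2 := Finset.card_le_card h1
  rw [Finset.card_univ, hF] at h2
  have h3 : ({0, 1} : Finset F).card ≤ 2 := Finset.card_le_two
  have h4 : 2 ^ 1 < 2 ^ (2 * m + 1) := Nat.pow_lt_pow_right (by norm_num) (by omega)
  omega

theorem instSz [Fintype (Sz F m)] (hm : 1 ≤ m) :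
    ∃ Z : Subgroup (Sz F m), ZT (Q hF hm) Z (2 ^ (2 * m + 1)) ((2 ^ (2 * m + 1)) ^ 2) := by
  haveI := Cfsg.Agent.S0325.result hm hF
  have hUle : Q hF hm ≤ MulAction.stabilizer (Sz F m) (oInf F m) := by
    rintro _ ⟨a, b, rfl⟩
    exact T_oInf hF a b
  obtain ⟨Z, q', hstab, hz⟩ := Cfsg.Agent.Lib.Helper6ZTMain.instZT (Cfsg.Agent.S0327.result hm hF)
    (oInf F m) (oPt m 0 0) (oPt_ne_oInf 0 0).symm (Q hF hm) hUle
    ((Subgroup.normal_subgroupOf_iff_le_normalizer hUle).2 (normalizer_Q hF hm).ge)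
    (IsPGroup.of_card (n := 2 * (2 * m + 1)) (by rw [card_Q, ← pow_mul, mul_comm]))
    (by
      obtain ⟨a, ha0, ha1⟩ := exists_ne hF hm
      refine ⟨⟨T hF 1 0, 1, 0, rfl⟩, ⟨T hF a 0, a, 0, rfl⟩, fun h => ?_⟩
      have h1 := congrArg Subtype.val h
      simp only [Subgroup.coe_mul] at h1
      rw [T_mul hF hm, T_mul hF hm] at h1
      have h2 := (T_inj hF h1).2
      rw [sg_one] at h2
      have h3 : sg m a = a := by linear_combination -h2
      have h4 := sg_sg hF a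
      rw [h3, h3] at h4
      have h5 : a * (a - 1) = 0 := by linear_combination -h4
      rcases mul_eq_zero.1 h5 with h6 | h6
      · exact ha0 h6
      · exact ha1 (sub_eq_zero.1 h6))
    (by
      intro y z hy hz
      rcases o_cases y with h | ⟨x₁, y₁, rfl⟩
      · exact absurd h hy
      rcases o_cases z with h | ⟨x₂, y₂, rfl⟩
      · exact absurd h hz
      refine ⟨⟨T hF (x₂ - x₁) (y₂ - y₁ - sg m (x₂ - x₁) * x₁), _, _, rfl⟩, ?_, ?_⟩
      · show T hF _ _ • oPt m x₁ y₁ = _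
        rw [T_oPt]
        congr 1 <;> ring
      · rintro ⟨_, a, b, rfl⟩ h
        have h' : T hF a b • oPt m x₁ y₁ = oPt m x₂ y₂ := h
        rw [T_oPt] at h'
        obtain ⟨h1, h2⟩ := oPt_inj h'
        apply Subtype.ext
        show T hF a b = T hF _ _
        have ha : a = x₂ - x₁ := by linear_combination h1
        subst ha
        congr 1
        linear_combination h2)
  rw [card_stab2 hF hm] at hstab
  have hq4 : 4 ≤ q' := by
    rcases hz with hz | hz <;> exact hz.hq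
  have hpos : 1 ≤ 2 ^ (2 * m + 1) := Nat.one_le_two_pow
  have hq : q' = 2 ^ (2 * m + 1) := by omega
  subst hq
  rcases hz with hz | hz
  · exact ⟨Z, hz⟩
  · exfalso
    have h1 := hz.hK
    rw [card_Q] at h1
    have h2 : (2 ^ (2 * m + 1)) ^ 2 < (2 ^ (2 * m + 1)) ^ 3 :=
      Nat.pow_lt_pow_right (by omega) (by norm_num)
    omega

end Cfsg.Agent.Lib.Helper73SzDegInstSz
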