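import Mathlib
import Cfsg.Agent.Lib.Helper61ZTDefs
import Cfsg.Agent.Lib.Helper61Feit9
import Cfsg.Agent.Lib.Helper73ZTLcount
import Cfsg.Agent.Lib.Helper70ZTGram
import Cfsg.Agent.Lib.Helper82Irr

/-!
PROJECT 61, PART D, piece `lc2` (sharpening of `Helper73ZTLcount.lcount`).
-/

set_option autoImplicit false

namespace Cfsg.Agent.Lib.Helper73SzDegLc2

open Cfsg Cfsg.Agent.Lib.Helper4Char Cfsg.Agent.Lib.Helper4Char2 Cfsg.Agent.Lib.Helper4Char4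
  Cfsg.Agent.Lib.Helper61Feit7 Cfsg.Agent.Lib.Helper61Feit8 Cfsg.Agent.Lib.Helper61Feit9
  Cfsg.Agent.Lib.Helper61ZTDefs Cfsg.Agent.Lib.Helper73ZTLcount
open scoped ComplexConjugate Classical

variable {G : Type*} [Group G] [Fintype G] {K Z : Subgroup G}
  [Fintype ↥(Subgroup.normalizer (K : Set G))] {q h : ℕ}

/-- the principal character -/
noncomputable abbrev one₁ (G : Type*) [Group G] [Fintype G] : IrrCharacter G :=
  ⟨fun _ => 1, Cfsg.Agent.Lib.Helper83Char.isIrr_one⟩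

theorem pure_count2 {X : Type*} [Fintype X] (l : X → ℕ) (T : Finset X) (x₁ : X) (q : ℕ)
    (hq : 4 ≤ q) (hq2 : Even q) (hT : ∀ x ∈ T, l x = 2) (h1 : l x₁ = 1)
    (hcT : q - 1 - 1 ≤ 2 * T.card) (hsum : ∑ x, l x ^ 2 = 2 * (q - 1)) :
    T.card = q / 2 - 1 ∧ x₁ ∉ T ∧ ∃ xs, xs ∉ T ∧ xs ≠ x₁ ∧ l xs = 1 ∧
      ∀ x, x ∉ T → x ≠ x₁ → x ≠ xs → l x = 0 := by
  obtain ⟨m, hm⟩ := hq2
  have hx₁ : x₁ ∉ T := fun hx => by
    have := hT x₁ hx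
    omega
  have hsplit : ∑ x, l x ^ 2 = ∑ x ∈ T, l x ^ 2 + ∑ x ∈ Tᶜ, l x ^ 2 :=
    (Finset.sum_add_sum_compl T _).symm
  have hTs : ∑ x ∈ T, l x ^ 2 = 4 * T.card := by
    rw [Finset.sum_congr rfl (fun x hx => by rw [hT x hx]), Finset.sum_const, smul_eq_mul]
    ring
  have he1 := Finset.add_sum_erase (Tᶜ) (fun x => l x ^ 2) (Finset.mem_compl.2 hx₁)
  simp only [h1, one_pow] at he1
  have hc2 : ∑ x ∈ (Tᶜ).erase x₁, l x ^ 2 = 1 ∧ T.card = m - 1 := by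
    omega
  obtain ⟨xs, hxs, hxs0⟩ : ∃ xs ∈ (Tᶜ).erase x₁, l xs ^ 2 ≠ 0 := by
    by_contra hcon
    push Not at hcon
    rw [Finset.sum_eq_zero hcon] at hc2
    omega
  have he2 := Finset.add_sum_erase ((Tᶜ).erase x₁) (fun x => l x ^ 2) hxs
  have hl1 : l xs ^ 2 = 1 ∧ ∑ x ∈ ((Tᶜ).erase x₁).erase xs, l x ^ 2 = 0 := by
    have := Nat.pos_of_ne_zero hxs0
    omega
  refine ⟨by omega, hx₁, xs, Finset.mem_compl.1 (Finset.mem_of_mem_erase hxs),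
    Finset.ne_of_mem_erase hxs, by simpa using hl1.1, ?_⟩
  intro x hxT hx1 hxs'
  have := (Finset.sum_eq_zero_iff.1 hl1.2) x
    (Finset.mem_erase.2 ⟨hxs', Finset.mem_erase.2 ⟨hx1, Finset.mem_compl.2 hxT⟩⟩)
  simpa using this

theorem lc2 (hz : ZT K Z q h) :
    ∃ (l : IrrCharacter G → ℕ) (T : Finset (IrrCharacter G)) (χs : IrrCharacter G),
    (∀ χ : IrrCharacter G, classInner (rs K χ) (((q : ℂ) - 1) • dK K) = l χ) ∧
    T.card = q / 2 - 1 ∧ (∀ χ ∈ T, l χ = 2 ∧ charDegree (χ : G → ℂ) = h + 1) ∧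
    one₁ G ∉ T ∧ χs ∉ T ∧ χs ≠ one₁ G ∧ l (one₁ G) = 1 ∧ l χs = 1 ∧
    ∀ χ, χ ∉ T → χ ≠ one₁ G → χ ≠ χs → l χ = 0 := by
  obtain ⟨l, hl', -, -, hsum, hone⟩ := lcount hz (fun α β => Cfsg.Agent.Lib.Helper70ZTGram.gram hz α β)
  have h5 : (Nat.card K : ℂ) ≠ 0 := Nat.cast_ne_zero.2 Nat.card_pos.ne'
  have hT : ∀ χ ∈ (M K).image (X K), l χ = 2 := by
    intro χ hχ
    obtain ⟨μ₀, hμ₀, rfl⟩ := Finset.mem_image.1 hχ
    have h2 := inner_R (KN K) (hv K hz.hC)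
      (rs K (X K μ₀ : G → ℂ)) 1 (by
        intro x hx hx1
        exact (X_spec K hz.hab hz.hX hμ₀).2 x (Subgroup.mem_subgroupOf.1 hx)
          (fun h => hx1 (Subtype.ext h)))
    have h2' : rs K (X K μ₀ : G → ℂ) 1 = (X K μ₀ : G → ℂ) 1 := rfl
    rw [h2', X_one K hz.hab hz.hX hμ₀, hz.hidx, card_KN] at h2
    have h3 : classInner (rs K (X K μ₀ : G → ℂ)) (R (KN K)) = 2 := by
      apply mul_right_cancel₀ h5
      rw [h2]; push_cast; ring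
    have h4 := hl' (X K μ₀)
    rw [edK_eq hz, h3] at h4
    exact_mod_cast h4.symm
  have hdeg : ∀ χ ∈ (M K).image (X K), charDegree (χ : G → ℂ) = h + 1 := by
    intro χ hχ
    obtain ⟨μ₀, hμ₀, rfl⟩ := Finset.mem_image.1 hχ
    have h1 := Cfsg.Agent.Lib.Helper82Irr.irr_charDegree_cast (X K μ₀)
    rw [X_one K hz.hab hz.hX hμ₀, hz.hidx, hz.hK] at h1
    exact_mod_cast h1
  have hcT := card_T K hz.hC hz.hab hz.hX hz.hidx
  rw [hz.he] at hcT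
  have hq2 : Even q := by
    obtain ⟨n, hn⟩ := hz.hq2
    have hq := hz.hq
    rcases n with _ | n
    · simp at hn; omega
    · rw [hn, pow_succ]; exact even_two.mul_left _
  obtain ⟨hA, hB, χs, h1, h2, h3, h4⟩ :=
    pure_count2 l ((M K).image (X K)) (one₁ G) q hz.hq hq2 hT hone hcT hsum
  exact ⟨l, (M K).image (X K), χs, hl', hA, fun χ hχ => ⟨hT χ hχ, hdeg χ hχ⟩, hB, h1, h2, hone,
    h3, h4⟩

end Cfsg.Agent.Lib.Helper73SzDegLc2
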