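import Mathlib
import Cfsg.Agent.Lib.Helper32ZTBeven

/-!
PROJECT 61, PART D, piece `nu2`.
-/

set_option autoImplicit false

namespace Cfsg.Agent.Lib.Helper84SzDegNu2

open Cfsg Cfsg.Agent.Lib.Helper4Char Cfsg.Agent.Lib.Helper4Char2 Cfsg.Agent.Lib.Helper4Char4
  Cfsg.Agent.Lib.Helper61Feit7 Cfsg.Agent.Lib.Helper61Feit8 Cfsg.Agent.Lib.Helper61ZTDefs
open Cfsg.Agent.Lib.Helper32ZTPsiirr
open scoped ComplexConjugate Classical

theorem pow_aux (j k n : ℕ) (h : (2 ^ j) ^ 2 + (2 ^ (j + k)) ^ 2 = 2 ^ n) : k = 0 := by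
  by_contra hk
  have h1 : (2 ^ j) ^ 2 * (1 + 4 ^ k) = 2 ^ n := by
    rw [← h, pow_add]
    have : (4 : ℕ) ^ k = (2 ^ k) ^ 2 := by
      rw [← pow_mul, mul_comm, pow_mul]; norm_num
    rw [this]; ring
  have h2 : 1 + 4 ^ k ∣ 2 ^ n := ⟨(2 ^ j) ^ 2, by rw [← h1]; ring⟩
  obtain ⟨i, -, hi⟩ := (Nat.dvd_prime_pow Nat.prime_two).1 h2
  have h4 : 4 ∣ 4 ^ k := dvd_pow_self 4 hk
  have h5 : 0 < 4 ^ k := by positivity
  rcases Nat.eq_zero_or_pos i with rfl | hi0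
  · simp at hi
  · have h6 : 2 ∣ 2 ^ i := dvd_pow_self 2 (by omega)
    omega

theorem pow_eq (j₁ j₂ n : ℕ) (h : (2 ^ j₁) ^ 2 + (2 ^ j₂) ^ 2 = 2 ^ n) : j₁ = j₂ := by
  rcases le_total j₁ j₂ with hle | hle
  · obtain ⟨k, rfl⟩ := Nat.exists_eq_add_of_le hle
    have := pow_aux j₁ k n h
    omega
  · obtain ⟨k, rfl⟩ := Nat.exists_eq_add_of_le hle
    have := pow_aux j₂ k n (by rw [add_comm]; exact h)
    omega

variable {G : Type*} [Group G] [Fintype G] {K Z : Subgroup G}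
  [Fintype ↥(Subgroup.normalizer (K : Set G))] {q h : ℕ}

theorem nu2 (hz : ZT K Z q (q ^ 2)) (h3 : (SF (KN K)).card = 3) :
    ∃ d : ℕ, 2 * d ^ 2 = q ∧ ∀ χ : IrrCharacter G, ∃ b : ℕ,
      classInner (rs K χ) (((q : ℂ) ^ 2) • d1 K - (q : ℂ) • dZ K Z) = ((d * b : ℕ) : ℂ) := by
  have hR : RgenStmt K Z q (q ^ 2) := Cfsg.Agent.Lib.Helper70ZTRgen.Rgen hz
  have hirr := Cfsg.Agent.Lib.Helper32ZTBeven.psi_irr hz
  obtain ⟨Ψ, hΨ⟩ : ∃ Ψ : IrrCharacter ↥(Subgroup.normalizer (K : Set G)),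
      (Ψ : ↥(Subgroup.normalizer (K : Set G)) → ℂ) = (q : ℂ) • dZ K Z - dK K := ⟨⟨_, hirr⟩, rfl⟩
  have hA : ∀ ν ∈ NZ K Z \ NS (KN K), ν = Ψ := by
    intro ν hν
    by_contra hne
    have h1 : classInner (Ψ : ↥(Subgroup.normalizer (K : Set G)) → ℂ)
        (ν : ↥(Subgroup.normalizer (K : Set G)) → ℂ) = 0 :=
      classInner_irr_ne Ψ.2 ν.2 (fun h => hne (Subtype.ext h).symm)
    have h2 : classInner (Ψ : ↥(Subgroup.normalizer (K : Set G)) → ℂ)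
        (ν : ↥(Subgroup.normalizer (K : Set G)) → ℂ) = dd hz ν := by
      rw [hΨ, psi_decomp hz hR, classInner_sum_left, Finset.sum_eq_single ν]
      · rw [classInner_smul_left, classInner_irr_self ν.2, mul_one]
      · intro μ _ hμ
        rw [classInner_smul_left, classInner_irr_ne μ.2 ν.2 (fun h => hμ (Subtype.ext h)),
          mul_zero]
      · intro h; exact absurd hν h
    obtain ⟨-, ⟨j, hj⟩, -⟩ := dd_spec hz (mem_SF_of_not_NS (Finset.mem_sdiff.1 hν).2)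
    rw [h1, hj] at h2
    have : (2 : ℂ) ^ j ≠ 0 := pow_ne_zero _ two_ne_zero
    apply this
    exact_mod_cast h2.symm
  have hΨA : Ψ ∈ NZ K Z \ NS (KN K) := by
    have hne : (NZ K Z \ NS (KN K)).Nonempty := by
      rw [Finset.nonempty_iff_ne_empty]
      intro hemp
      have h1 := psi_decomp hz hR
      rw [hemp, Finset.sum_empty, ← hΨ] at h1
      have h2 := classInner_irr_self Ψ.2
      rw [h1, classInner_zero_left] at h2
      exact zero_ne_one h2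
    obtain ⟨ν, hν⟩ := hne
    rw [← hA ν hν]; exact hν
  have hΨSF : Ψ ∈ SF (KN K) := mem_SF_of_not_NS (Finset.mem_sdiff.1 hΨA).2
  have hB : Finset.univ \ NZ K Z = (SF (KN K)).erase Ψ := by
    ext ν
    rw [Finset.mem_sdiff, Finset.mem_erase]
    constructor
    · rintro ⟨-, h⟩
      refine ⟨?_, mem_SF_of_not_NS (fun hh => h (NS_subset hz hh))⟩
      rintro rfl
      exact h (Finset.mem_sdiff.1 hΨA).1
    · rintro ⟨h1, h2⟩
      refine ⟨Finset.mem_univ _, fun hh => h1 (hA ν (Finset.mem_sdiff.2 ⟨hh, ?_⟩))⟩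
      intro h4
      rw [SF, Finset.mem_filter] at h2
      rw [NS, Finset.mem_filter] at h4
      exact h2.2 h4.2
  have hBc : (Finset.univ \ NZ K Z).card = 2 := by
    rw [hB, Finset.card_erase_of_mem hΨSF, h3]
  obtain ⟨ν₁, ν₂, hne, hB2⟩ := Finset.card_eq_two.1 hBc
  have hν : ∀ ν ∈ Finset.univ \ NZ K Z, ν ∈ SF (KN K) := by
    intro ν hν
    rw [hB] at hν
    exact (Finset.mem_erase.1 hν).2
  have hν₁ := dd_spec hz (hν ν₁ (by rw [hB2]; simp))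
  have hν₂ := dd_spec hz (hν ν₂ (by rw [hB2]; simp))
  obtain ⟨e1, ⟨j₁, hj₁⟩, -⟩ := hν₁
  obtain ⟨e2, ⟨j₂, hj₂⟩, -⟩ := hν₂
  have hsum := sum_SF_sq (KN K)
  rw [← Finset.add_sum_erase _ _ hΨSF, ← hB, hB2, Finset.sum_pair hne, e1, e2, cardL' hz, hz.he,
    hΨ] at hsum
  have hΨ1 : ((q : ℂ) • dZ K Z - dK K) 1 = (q : ℂ) - 1 := by
    simp [dZ, dK]
  rw [hΨ1, Nat.cast_sub (one_le_q hz)] at hsum
  have he := e_ne_zero hz
  have hq : (dd hz ν₁ : ℂ) ^ 2 + (dd hz ν₂ : ℂ) ^ 2 = q := by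
    have he2 : ((q : ℂ) - 1) ^ 2 ≠ 0 := pow_ne_zero 2 he
    apply mul_left_cancel₀ he2
    push_cast at hsum
    linear_combination hsum
  have hqN : (dd hz ν₁) ^ 2 + (dd hz ν₂) ^ 2 = q := by exact_mod_cast hq
  obtain ⟨n, hn⟩ := hz.hq2
  have hjj : j₁ = j₂ := pow_eq j₁ j₂ n (by rw [← hj₁, ← hj₂, hqN, hn])
  have hdd : dd hz ν₂ = dd hz ν₁ := by rw [hj₁, hj₂, hjj]
  refine ⟨dd hz ν₁, by rw [hdd] at hqN; omega, fun χ => ?_⟩
  have hχ : IsCharacter ↥(Subgroup.normalizer (K : Set G)) (rs K χ) :=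
    IsCharacter.restrict _ (IsIrrCharacter.isCharacter χ.2)
  obtain ⟨n₁, hn₁⟩ := IsCharacter.classInner_nat hχ (IsIrrCharacter.isCharacter ν₁.2)
  obtain ⟨n₂, hn₂⟩ := IsCharacter.classInner_nat hχ (IsIrrCharacter.isCharacter ν₂.2)
  refine ⟨n₁ + n₂, ?_⟩
  rw [phi_decomp hz hR, hB2, Finset.sum_pair hne, classInner_add_right, classInner_smul_right,
    classInner_smul_right, hn₁, hn₂, hdd, Complex.conj_natCast]
  push_cast
  ring

end Cfsg.Agent.Lib.Helper84SzDegNu2
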