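import Mathlib
import Cfsg.Agent.Lib.Helper61SzTori

/-!
PROJECT 61, PART D, piece `centQ`: centralisers of the elements of order 4 of the Suzuki groups.
-/

set_option autoImplicit false

namespace Cfsg.Agent.Lib.Helper86SzDegCentQ

open Cfsg
open Cfsg.Agent.Lib.Helper8Sz Cfsg.Agent.Lib.Helper8Sz2 Cfsg.Agent.Lib.Helper8Sz3
  Cfsg.Agent.Lib.Helper8Sz4 Cfsg.Agent.Lib.Helper8Sz5 Cfsg.Agent.Lib.Helper8Sz6
  Cfsg.Agent.Lib.Helper8Sz7 Cfsg.Agent.Lib.Helper61SzTori

variable {F : Type*} [Field F] [Fintype F] {m : ℕ} (hF : Fintype.card F = 2 ^ (2 * m + 1))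
include hF

theorem comm_iff (hm : 1 ≤ m) (a b a' b' : F) (ha : a ≠ 0) :
    T hF a' b' * T hF a b = T hF a b * T hF a' b' ↔ a' = 0 ∨ a' = a := by
  rw [T_mul hF hm, T_mul hF hm]
  constructor
  · intro h
    obtain ⟨_, h2⟩ := T_inj hF h
    have h3 : sg m a' * a = sg m a * a' := by
      have h4 : b' + b + sg m a' * a = b' + b + sg m a * a' := by
        rw [h2]; ring
      exact add_left_cancel h4
    by_contra hcon
    push Not at hcon
    have hsa : sg m a ≠ 0 := sg_ne_zero ha
    have hc0 : a' / a ≠ 0 := div_ne_zero hcon.1 ha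
    have hc1 : a' / a ≠ 1 := by
      intro h
      exact hcon.2 ((div_eq_one_iff_eq ha).mp h)
    apply sg_ne_self hF hc0 hc1
    rw [sg_div]
    field_simp
    exact h3
  · rintro (rfl | rfl)
    · rw [sg_zero]
      congr 1
      · ring
      · ring
    · congr 1
      ring

theorem centQ (hm : 1 ≤ m) (u : Sz F m) (hu : u ∈ Q hF hm) (hu2 : u * u ≠ 1) :
    Nat.card (Subgroup.centralizer ({u} : Set (Sz F m))) = 2 * 2 ^ (2 * m + 1) := by
  classical
  obtain ⟨a, b, rfl⟩ := hu
  have ha : a ≠ 0 := by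
    rintro rfl
    apply hu2
    rw [T_sq hF hm, zero_mul, T_zero hF hm]
  have hne : T hF a b ≠ 1 := by
    intro h
    apply hu2
    rw [h, one_mul]
  have hmem : ∀ g : Sz F m, g ∈ Subgroup.centralizer ({T hF a b} : Set (Sz F m)) ↔
      g * T hF a b = T hF a b * g := by
    intro g
    rw [Subgroup.mem_centralizer_singleton_iff]
  let f : Bool × F → Subgroup.centralizer ({T hF a b} : Set (Sz F m)) := fun x =>
    ⟨T hF (if x.1 then a else 0) x.2, by
      rw [hmem, comm_iff hF hm a b _ _ ha]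
      cases x.1
      · left; rfl
      · right; rfl⟩
  have hf : Function.Bijective f := by
    constructor
    · rintro ⟨ε, y⟩ ⟨ε', y'⟩ h
      have h1 := congrArg Subtype.val h
      obtain ⟨h2, h3⟩ := T_inj hF h1
      simp only at h2 h3
      have : ε = ε' := by
        cases ε <;> cases ε'
        · rfl
        · exact absurd h2.symm ha
        · exact absurd h2 ha
        · rfl
      rw [this, h3]
    · rintro ⟨g, hg⟩
      rw [hmem] at hg
      obtain ⟨a', b', rfl⟩ := cent_T hF hm a b hne g hg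
      rcases (comm_iff hF hm a b a' b' ha).mp hg with rfl | rfl
      · exact ⟨(false, b'), rfl⟩
      · exact ⟨(true, b'), rfl⟩
  rw [← Nat.card_congr (Equiv.ofBijective f hf), Nat.card_prod, Nat.card_eq_fintype_card,
    Nat.card_eq_fintype_card, hF, Fintype.card_bool]

end Cfsg.Agent.Lib.Helper86SzDegCentQ
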