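import Mathlib
import Cfsg.Agent.Lib.Helper61SzDegData2
import Cfsg.Agent.Lib.Helper61SzDegRow
import Cfsg.Agent.Lib.Helper61SzDegArith
import Cfsg.Agent.Lib.Helper70SzDegGraph
import Cfsg.Agent.Lib.Helper70SzDegSf3
import Cfsg.Agent.Lib.Helper73SzDegInstSz
import Cfsg.Agent.Lib.Helper73SzDegLc2
import Cfsg.Agent.Lib.Helper84SzDegNu2
import Cfsg.Agent.Lib.Helper86SzDegCentQ
import Cfsg.Agent.Lib.Helper8SzIso

/-!
PROJECT 61, PART D : the character degrees of the Suzuki groups (assembly).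
-/

set_option autoImplicit false

namespace Cfsg.Agent.Lib.Helper61SzDegMain

open Cfsg Cfsg.Agent.Lib.Helper4Char Cfsg.Agent.Lib.Helper4Char2 Cfsg.Agent.Lib.Helper4Char4
  Cfsg.Agent.Lib.Helper61Feit7 Cfsg.Agent.Lib.Helper61Feit8 Cfsg.Agent.Lib.Helper61ZTDefs
open scoped ComplexConjugate Classical

theorem degset {G : Type*} [Group G] [Fintype G] {K Z : Subgroup G} {q : ℕ}
    (hz : ZT K Z q (q ^ 2))
    (hcent : ∀ u ∈ K, u ∉ Z → Nat.card (Subgroup.centralizer ({u} : Set G)) = 2 * q) :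
    ∃ d : ℕ, 2 * d ^ 2 = q ∧
      charDegrees G = {1, q ^ 2, q ^ 2 + 1, (q - 1) * (q + 1 + 2 * d), (q - 1) * (q + 1 - 2 * d),
        (q - 1) * d} := by
  have : Fintype ↥(Subgroup.normalizer (K : Set G)) := Fintype.ofFinite _
  obtain ⟨m, B, hm, hB, hm1, hmle, hmm, hBB, hmB, hdeg, hdvd⟩ :=
    Cfsg.Agent.Lib.Helper61SzDegData2.data2 hz
  obtain ⟨l, T, χs, hl, hTc, hT, h1T, hsT, hs1, hl1, hls, hl0⟩ :=
    Cfsg.Agent.Lib.Helper73SzDegLc2.lc2 hz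
  obtain ⟨d, hd, hb⟩ := Cfsg.Agent.Lib.Helper84SzDegNu2.nu2 hz
    (Cfsg.Agent.Lib.Helper70SzDegSf3.sf3 hz hcent)
  choose b hb using hb
  have hBb : ∀ χ, B χ = d * b χ := by
    intro χ
    have := (hB χ).symm.trans (hb χ)
    exact_mod_cast this
  refine ⟨d, hd, ?_⟩
  have h1 : charDegree ((Cfsg.Agent.Lib.Helper61SzDegData2.one₁ G : IrrCharacter G) : G → ℂ)
      = 1 := by
    simp [charDegree]
  have key := Cfsg.Agent.Lib.Helper61SzDegArith.arithMain q d hz.hq hz.hq2 hd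
    (Cfsg.Agent.Lib.Helper61SzDegData2.one₁ G) χs T m b l
    (fun χ => charDegree (χ : G → ℂ)) hm1 hmle hmm
    (by simpa only [hBb] using hBB) (by simpa only [hBb] using hmB) hTc hT h1T hsT hs1 hl1 hls hl0
    (fun χ => by rw [← hBb]; exact hdeg l hl χ) hdvd h1
  rw [← key]
  ext n
  simp [charDegrees]

section Inst

open Cfsg.Agent.Lib.Helper8Sz Cfsg.Agent.Lib.Helper8Sz2 Cfsg.Agent.Lib.Helper8Sz3
  Cfsg.Agent.Lib.Helper8Sz4 Cfsg.Agent.Lib.Helper8Sz5 Cfsg.Agent.Lib.Helper8Sz6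
  Cfsg.Agent.Lib.Helper8Sz7 Cfsg.Agent.Lib.Helper61SzTori

variable {F : Type*} [Field F] [Fintype F] {m : ℕ} (hF : Fintype.card F = 2 ^ (2 * m + 1))
include hF

theorem degSz (hm : 1 ≤ m) :
    charDegrees (Sz F m) = {1, (2 ^ (2 * m + 1)) ^ 2, (2 ^ (2 * m + 1)) ^ 2 + 1,
      (2 ^ (2 * m + 1) - 1) * (2 ^ (2 * m + 1) + 1 + 2 * 2 ^ m),
      (2 ^ (2 * m + 1) - 1) * (2 ^ (2 * m + 1) + 1 - 2 * 2 ^ m), (2 ^ (2 * m + 1) - 1) * 2 ^ m} := by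
  have : Fintype (Sz F m) := Fintype.ofFinite _
  obtain ⟨Z, hz⟩ := Cfsg.Agent.Lib.Helper73SzDegInstSz.instSz hF hm
  obtain ⟨d, hd, h⟩ := degset hz (by
    intro u hu huZ
    apply Cfsg.Agent.Lib.Helper86SzDegCentQ.centQ hF hm u hu
    intro h1
    exact huZ ((hz.hZ u).2 ⟨hu, h1⟩))
  have hd' : d = 2 ^ m := by
    have h1 : d ^ 2 = (2 ^ m) ^ 2 := by
      have : 2 * d ^ 2 = 2 * (2 ^ m) ^ 2 := by rw [hd]; ring
      omega
    exact Nat.pow_left_injective (n := 2) (by norm_num) h1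
  rw [h, hd']

end Inst

theorem row (F : Type*) [Field F] [Fintype F] (m : ℕ) (hm : 1 ≤ m) (q : ℕ) (hq : Fintype.card F = q)
    (hqm : q = 2 ^ (2 * m + 1)) {S : Type*} [Group S] [Finite S]
    (hS : Nonempty (S ≃* ↥(Cfsg.Lie.Sz F (2 ^ (m + 1))))) :
    Cfsg.degreePrimes S = {r : ℕ | r.Prime ∧ (r = 2 ∨ r ∣ (q - 1) * (q ^ 2 + 1))} ∧
    ∀ r s : ℕ, (Cfsg.degreeGraph S).Adj r s ↔ (r ≠ s ∧ r.Prime ∧ s.Prime ∧
      ((r ∣ (q - 1) * (q ^ 2 + 1) ∧ s ∣ (q - 1) * (q ^ 2 + 1)) ∨ (r = 2 ∧ s ∣ q - 1) ∨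
        (s = 2 ∧ r ∣ q - 1))) := by
  obtain ⟨e⟩ := hS
  subst hqm
  have h1 := degSz hq hm
  have h2 : charDegrees S = charDegrees (Sz F m) :=
    Cfsg.Agent.Lib.Helper61SzDegRow.transfer
      (e.trans (Cfsg.Agent.Lib.Helper8SzIso.szIso hq hm).symm)
  exact Cfsg.Agent.Lib.Helper70SzDegGraph.graph m _ hm rfl (h2.trans h1)

end Cfsg.Agent.Lib.Helper61SzDegMain
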