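import Mathlib
import Cfsg.Agent.Lib.Helper61SzCovDefs
import Cfsg.Agent.Lib.Helper61SzCovArith
import Cfsg.Agent.Lib.Helper61SzCovVal
import Cfsg.Agent.Lib.Helper61SzDegMain

/-!
PROJECT 61, PART E, piece `tabMk`.
-/

set_option autoImplicit false

namespace Cfsg.Agent.Lib.Helper61SzCovTab

open Cfsg Cfsg.Agent.Lib.Helper4Char Cfsg.Agent.Lib.Helper4Char2 Cfsg.Agent.Lib.Helper4Char4
  Cfsg.Agent.Lib.Helper61Feit7 Cfsg.Agent.Lib.Helper61Feit8 Cfsg.Agent.Lib.Helper61ZTDefs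
  Cfsg.Agent.Lib.Helper81ClassMul Cfsg.Agent.Lib.Helper81Base Cfsg.Agent.Lib.Helper81BB
  Cfsg.Agent.Lib.Helper61SzCovDefs
open scoped ComplexConjugate Classical

variable {G : Type*} [Group G] [Fintype G] {K Z : Subgroup G}
  [Fintype ↥(Subgroup.normalizer (K : Set G))] {q d : ℕ}

set_option maxHeartbeats 1000000 in
theorem tabMk (hz : ZT K Z q (q ^ 2))
    (hcent : ∀ u ∈ K, u ∉ Z → Nat.card (Subgroup.centralizer ({u} : Set G)) = 2 * q)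
    (hd : 2 * d ^ 2 = q) :
    ∃ F : Fam G, Tab d F ∧ (∀ σ ∈ Z, σ ≠ 1 → ColS d F σ) ∧ Avg K Z d F := by
  obtain ⟨m, B, hm, hB, hm1, hmle, hmm, hBB, hmB, hdeg, hdvd⟩ :=
    Cfsg.Agent.Lib.Helper61SzDegData2.data2 hz
  obtain ⟨l, T, χs, hl, hTc, hT, h1T, hsT, hs1, hl1, hls, hl0⟩ :=
    Cfsg.Agent.Lib.Helper73SzDegLc2.lc2 hz
  obtain ⟨d', hd', hb⟩ := Cfsg.Agent.Lib.Helper84SzDegNu2.nu2 hz
    (Cfsg.Agent.Lib.Helper70SzDegSf3.sf3 hz hcent)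
  have hdd : d' = d := by
    have : d' ^ 2 = d ^ 2 := by omega
    exact Nat.pow_left_injective (n := 2) (by norm_num) this
  subst hdd
  choose b hb using hb
  have hBb : ∀ χ, B χ = d' * b χ := by
    intro χ
    have := (hB χ).symm.trans (hb χ)
    exact_mod_cast this
  have h1 : charDegree ((one₁ G : IrrCharacter G) : G → ℂ) = 1 := by
    simp [charDegree]
  obtain ⟨hd2, hms, hbs, hTmb, w₁, w₂, P, M, hw, hw₁, hw₂, hP, hM, cP, cM, hmem, hsplit⟩ :=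
    Cfsg.Agent.Lib.Helper61SzCovArith.arithCls q d' hz.hq hz.hq2 hd
    (one₁ G) χs T m b l
    (fun χ => charDegree (χ : G → ℂ)) hm1 hmle hmm
    (by simpa only [hBb] using hBB) (by simpa only [hBb] using hmB) hTc hT h1T hsT hs1 hl1 hls hl0
    (fun χ => by rw [← hBb]; exact hdeg l hl χ) hdvd h1
  have hq1 : 1 ≤ q := le_trans (by norm_num) hz.hq
  have hqC : (q : ℂ) = 2 * (d' : ℂ) ^ 2 := by rw [← hd]; push_cast; ring
  have hD : ∀ χ : IrrCharacter G, (χ : G → ℂ) 1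
      = (2 * (d' : ℂ) ^ 2 - 1) * (d' * b χ) + (2 * (d' : ℂ) ^ 2 - 1) * m χ + l χ := by
    intro χ
    rw [← charDegree_eq, hdeg l hl χ, hBb, ← hqC]
    push_cast [Nat.cast_sub hq1]
    ring
  have hSig : ∀ χ : IrrCharacter G, ∀ σ ∈ Z, σ ≠ 1 → (χ : G → ℂ) σ
      = (2 * (d' : ℂ) ^ 2 - 1) * m χ + l χ - d' * b χ := by
    intro χ σ hσ hσ1
    rw [Cfsg.Agent.Lib.Helper61SzCovVal.valS hz χ (B χ) (hB χ) σ hσ hσ1, hD, hBb, hqC]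
    push_cast
    ring
  have hAvg : ∀ χ : IrrCharacter G, ∑ u ∈ KZ K Z, (χ : G → ℂ) u
      = 2 * (d' : ℂ) ^ 2 * (2 * (d' : ℂ) ^ 2 - 1) * ((l χ : ℂ) - m χ) := by
    intro χ
    rw [Cfsg.Agent.Lib.Helper61SzCovVal.sumKZ hz χ (m χ) (l χ) (hm χ) (hl χ), hqC]
  have hbM : ∀ χ ∈ M, (b χ : ℂ) = 2 * d' - 2 := by
    intro χ hχ
    have h := (hM χ hχ).2.1
    have : ((b χ + 2 : ℕ) : ℂ) = ((2 * d' : ℕ) : ℂ) := by rw [h]
    push_cast at this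
    linear_combination this
  refine ⟨⟨χs, w₁, w₂, T, P, M⟩, ⟨hd2, hsplit, hmem, hw, ?_, ?_, ?_, ?_, ?_, ?_, ?_, ?_, ?_⟩,
    fun σ hσ hσ1 => ⟨?_, ?_, ?_, ?_, ?_, ?_⟩, ⟨?_, ?_, ?_, ?_, ?_, ?_⟩⟩
  · show (χs : G → ℂ) 1 = _
    rw [hD, hms, hbs, hls]; push_cast; ring
  · show (w₁ : G → ℂ) 1 = _
    rw [hD, hw₁.1, hw₁.2.1, hw₁.2.2]; push_cast; ring
  · show (w₂ : G → ℂ) 1 = _
    rw [hD, hw₂.1, hw₂.2.1, hw₂.2.2]; push_cast; ring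
  · intro χ hχ
    rw [hD, (hTmb χ hχ).1, (hTmb χ hχ).2, (hT χ hχ).1]; push_cast; ring
  · intro χ hχ
    rw [hD, (hP χ hχ).1, (hP χ hχ).2.1, (hP χ hχ).2.2]; push_cast; ring
  · intro χ hχ
    rw [hD, (hM χ hχ).1, hbM χ hχ, (hM χ hχ).2.2]; push_cast; ring
  · show (T.card : ℂ) = _
    have h4 : 4 ≤ d' ^ 2 := by nlinarith
    have h5 : T.card + 1 = d' ^ 2 := by omega
    have : ((T.card + 1 : ℕ) : ℂ) = ((d' ^ 2 : ℕ) : ℂ) := by rw [h5]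
    push_cast at this
    linear_combination this
  · show 2 * (P.card : ℂ) = _
    have : ((2 * P.card + d' : ℕ) : ℂ) = ((d' ^ 2 : ℕ) : ℂ) := by rw [cP]
    push_cast at this
    linear_combination this
  · show 2 * (M.card : ℂ) = _
    have : ((2 * M.card : ℕ) : ℂ) = ((d' ^ 2 + d' : ℕ) : ℂ) := by rw [cM]
    push_cast at this
    linear_combination this
  · show (χs : G → ℂ) σ = _
    rw [hSig χs σ hσ hσ1, hms, hbs, hls]; push_cast; ring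
  · show (w₁ : G → ℂ) σ = _
    rw [hSig w₁ σ hσ hσ1, hw₁.1, hw₁.2.1, hw₁.2.2]; push_cast; ring
  · show (w₂ : G → ℂ) σ = _
    rw [hSig w₂ σ hσ hσ1, hw₂.1, hw₂.2.1, hw₂.2.2]; push_cast; ring
  · intro χ hχ
    rw [hSig χ σ hσ hσ1, (hTmb χ hχ).1, (hTmb χ hχ).2, (hT χ hχ).1]; push_cast; ring
  · intro χ hχ
    rw [hSig χ σ hσ hσ1, (hP χ hχ).1, (hP χ hχ).2.1, (hP χ hχ).2.2]; push_cast; ring
  · intro χ hχ
    rw [hSig χ σ hσ hσ1, (hM χ hχ).1, hbM χ hχ, (hM χ hχ).2.2]; push_cast; ring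
  · show ∑ u ∈ KZ K Z, (χs : G → ℂ) u = _
    rw [hAvg, hms, hls]; push_cast; ring
  · show ∑ u ∈ KZ K Z, (w₁ : G → ℂ) u = _
    rw [hAvg, hw₁.1, hw₁.2.2]; push_cast; ring
  · show ∑ u ∈ KZ K Z, (w₂ : G → ℂ) u = _
    rw [hAvg, hw₂.1, hw₂.2.2]; push_cast; ring
  · intro χ hχ
    rw [hAvg, (hTmb χ hχ).1, (hT χ hχ).1]; push_cast; ring
  · intro χ hχ
    rw [hAvg, (hP χ hχ).1, (hP χ hχ).2.2]; push_cast; ring
  · intro χ hχ
    rw [hAvg, (hM χ hχ).1, (hM χ hχ).2.2]; push_cast; ring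

end Cfsg.Agent.Lib.Helper61SzCovTab
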