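import Mathlib
import Cfsg.Agent.Lib.Helper61SzCovVal
import Cfsg.Agent.Lib.Helper2SzCovOrbits

/-!
PROJECT 61, PART E, piece `Wnorm`.
-/

set_option autoImplicit false

namespace Cfsg.Agent.Lib.Helper61SzCovWnorm

open Cfsg Cfsg.Agent.Lib.Helper4Char Cfsg.Agent.Lib.Helper4Char2 Cfsg.Agent.Lib.Helper4Char4
  Cfsg.Agent.Lib.Helper61Feit7 Cfsg.Agent.Lib.Helper61Feit8 Cfsg.Agent.Lib.Helper61ZTDefs
  Cfsg.Agent.Lib.Helper81Base Cfsg.Agent.Lib.Helper61SzCovDefs Cfsg.Agent.Lib.Helper53ZTBasic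
  Cfsg.Agent.Lib.Helper61SzCovVal
open scoped ComplexConjugate Classical

variable {G : Type*} [Group G] [Fintype G] {K Z : Subgroup G}
  [Fintype ↥(Subgroup.normalizer (K : Set G))] {q d : ℕ}

theorem arith (n : ℕ) (D t : ℝ) (hD : 2 ≤ D)
    (h : (n : ℝ) * ((2 * D ^ 2) ^ 2 * (2 * D ^ 2 - 1)) = ((2 * D ^ 2 - 1) * D) ^ 2 + (2 * D ^ 2 - 1) * D ^ 2
      + 2 * D ^ 2 * (2 * D ^ 2 - 1) * t) (ht : 0 ≤ t) : D ^ 2 ≤ t := by
  have he : 0 < 2 * D ^ 2 - 1 := by nlinarith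
  have hn : n ≠ 0 := by
    rintro rfl
    have h1 : 0 < ((2 * D ^ 2 - 1) * D) ^ 2 := by positivity
    have h2 : 0 ≤ (2 * D ^ 2 - 1) * D ^ 2 := by positivity
    have h3 : 0 ≤ 2 * D ^ 2 * (2 * D ^ 2 - 1) * t := by positivity
    simp only [Nat.cast_zero, zero_mul] at h
    linarith
  have hn1 : (1 : ℝ) ≤ n := by exact_mod_cast Nat.one_le_iff_ne_zero.2 hn
  have h4 : (2 * D ^ 2) ^ 2 * (2 * D ^ 2 - 1) ≤ (n : ℝ) * ((2 * D ^ 2) ^ 2 * (2 * D ^ 2 - 1)) := by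
    have : 0 ≤ (2 * D ^ 2) ^ 2 * (2 * D ^ 2 - 1) := by positivity
    nlinarith
  rw [h] at h4
  have h5 : (2 * D ^ 2 * (2 * D ^ 2 - 1)) * D ^ 2 ≤ (2 * D ^ 2 * (2 * D ^ 2 - 1)) * t := by
    nlinarith
  exact le_of_mul_le_mul_left h5 (by positivity)

/-- piece `Wnorm` -/
theorem Wnorm (hz : ZT K Z q (q ^ 2))
    (hcent : ∀ u ∈ K, u ∉ Z → Nat.card (Subgroup.centralizer ({u} : Set G)) = 2 * q)
    (hnr : ∀ u ∈ K, u ∉ Z → ¬ IsConj u u⁻¹) (hd : 2 * d ^ 2 = q) (W : IrrCharacter G)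
    (h1 : (W : G → ℂ) 1 = (2 * (d : ℂ) ^ 2 - 1) * d)
    (hσ : ∀ σ ∈ Z, σ ≠ 1 → (W : G → ℂ) σ = -(d : ℂ))
    (hoff : ∀ x ∈ Subgroup.normalizer (K : Set G), x ∉ K → (W : G → ℂ) x = 0)
    (ρ : G) (hρ : ρ ∈ K) (hρZ : ρ ∉ Z) : (d : ℝ) ^ 2 ≤ ‖(W : G → ℂ) ρ‖ ^ 2 := by
  have hqC : (q : ℂ) = 2 * (d : ℂ) ^ 2 := by rw [← hd]; push_cast; ring
  have hd2 : 2 ≤ d := by
    by_contra h
    have h1 : d ≤ 1 := by omega
    have h2 : d ^ 2 ≤ 1 := by nlinarith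
    have := hz.hq
    omega
  have hχ : IsCharacter ↥(Subgroup.normalizer (K : Set G)) (rs K W) :=
    IsCharacter.restrict _ (IsIrrCharacter.isCharacter W.2)
  obtain ⟨n, hn⟩ := IsCharacter.classInner_nat hχ hχ
  obtain ⟨f, hf⟩ : ∃ f : G → ℂ, ∀ u, f u = (W : G → ℂ) u * conj ((W : G → ℂ) u) := ⟨_, fun _ => rfl⟩
  have hfc : ∀ g h : G, f (h * g * h⁻¹) = f g := by
    intro g h
    rw [hf, hf, irr_conj]
  have hs1 : ∑ x : ↥(Subgroup.normalizer (K : Set G)), rs K W x * conj (rs K W x)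
      = ∑ u ∈ Finset.univ.filter (fun u : G => u ∈ K), f u := by
    rw [← sumN K Subgroup.le_normalizer f]
    apply Finset.sum_congr rfl
    intro x _
    by_cases hx : (x : G) ∈ K
    · rw [if_pos hx, hf]; rfl
    · rw [if_neg hx]
      have : rs K W x = 0 := hoff x x.2 hx
      rw [this, zero_mul]
  have hsplit : ∑ u ∈ Finset.univ.filter (fun u : G => u ∈ K), f u
      = ∑ u ∈ Finset.univ.filter (fun u : G => u ∈ Z), f u + ∑ u ∈ KZ K Z, f u := by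
    unfold KZ
    rw [Finset.sum_filter, Finset.sum_filter, Finset.sum_filter, ← Finset.sum_add_distrib]
    apply Finset.sum_congr rfl
    intro u _
    by_cases hu : u ∈ Z
    · simp [hu, Z_le_K hz hu]
    · by_cases hk : u ∈ K <;> simp [hu, hk]
  have hZs : ∑ u ∈ Finset.univ.filter (fun u : G => u ∈ Z), f u
      = ((2 * (d : ℂ) ^ 2 - 1) * d) ^ 2 + (2 * (d : ℂ) ^ 2 - 1) * (d : ℂ) ^ 2 := by
    have hmem : (1 : G) ∈ Finset.univ.filter (fun u : G => u ∈ Z) := by simp [Z.one_mem]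
    rw [← Finset.add_sum_erase _ _ hmem]
    congr 1
    · rw [hf, h1]
      simp only [map_mul, map_sub, map_pow, map_one, Complex.conj_natCast, map_ofNat]
      ring
    · have hc : ∀ u ∈ (Finset.univ.filter (fun u : G => u ∈ Z)).erase 1, f u = (d : ℂ) ^ 2 := by
        intro u hu
        rw [Finset.mem_erase, Finset.mem_filter] at hu
        rw [hf, hσ u hu.2.2 hu.1]
        simp only [map_neg, Complex.conj_natCast]
        ring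
      rw [Finset.sum_congr rfl hc, Finset.sum_const, Finset.card_erase_of_mem hmem, nsmul_eq_mul]
      congr 1
      have h2 : (Finset.univ.filter (fun u : G => u ∈ Z)).card = q := by
        rw [← hz.cardZ, Nat.card_eq_fintype_card, Fintype.card_subtype]
      rw [h2, ← hqC]
      have : 1 ≤ q := le_trans (by norm_num) hz.hq
      push_cast [Nat.cast_sub this]
      ring
  have hfρ : f ρ = ((‖(W : G → ℂ) ρ‖ ^ 2 : ℝ) : ℂ) := by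
    rw [hf, Complex.mul_conj, Complex.normSq_eq_norm_sq]
  have hfρ' : f ρ⁻¹ = f ρ := by
    rw [hf, hf, irr_inv, Complex.conj_conj, mul_comm]
  have hKZ := Cfsg.Agent.Lib.Helper2SzCovOrbits.orbits hz hcent hnr f hfc ρ hρ hρZ
  rw [hfρ', hfρ, hqC] at hKZ
  have e := hn
  unfold classInner at e
  rw [hs1, hsplit, hZs, hKZ, cardN hz, hqC] at e
  have hne : ((2 * (d : ℂ) ^ 2) ^ 2 * (2 * (d : ℂ) ^ 2 - 1)) ≠ 0 := by
    obtain ⟨a, b⟩ := q_ne hz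
    rw [hqC] at a b
    exact mul_ne_zero (pow_ne_zero _ a) b
  have e2 : (n : ℂ) * ((2 * (d : ℂ) ^ 2) ^ 2 * (2 * (d : ℂ) ^ 2 - 1))
      = ((2 * (d : ℂ) ^ 2 - 1) * d) ^ 2 + (2 * (d : ℂ) ^ 2 - 1) * (d : ℂ) ^ 2
        + 2 * (d : ℂ) ^ 2 * (2 * (d : ℂ) ^ 2 - 1) * ((‖(W : G → ℂ) ρ‖ ^ 2 : ℝ) : ℂ) := by
    rw [← e]
    field_simp
    ring
  have e3 : (n : ℝ) * ((2 * (d : ℝ) ^ 2) ^ 2 * (2 * (d : ℝ) ^ 2 - 1))
      = ((2 * (d : ℝ) ^ 2 - 1) * d) ^ 2 + (2 * (d : ℝ) ^ 2 - 1) * (d : ℝ) ^ 2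
        + 2 * (d : ℝ) ^ 2 * (2 * (d : ℝ) ^ 2 - 1) * (‖(W : G → ℂ) ρ‖ ^ 2) := by
    exact_mod_cast e2
  exact arith n d _ (by exact_mod_cast hd2) e3 (by positivity)

end Cfsg.Agent.Lib.Helper61SzCovWnorm
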