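import Mathlib
import Cfsg.Agent.Lib.Helper61SzCovDefs

/-!
PROJECT 61, PART E: tools for the `case**` pieces (helper70).
-/

set_option autoImplicit false

namespace Cfsg.Agent.Lib.Helper70SzCovBase

open Cfsg Cfsg.Agent.Lib.Helper81ClassMul Cfsg.Agent.Lib.Helper81Base
  Cfsg.Agent.Lib.Helper61SzCovDefs
open scoped ComplexConjugate Classical

variable {G : Type*} [Group G] [Fintype G] {d : ℕ} {F : Fam G} {x g : G}

/-- the real form of `theta` -/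
noncomputable def Th (D s w t p m : ℝ) : ℝ :=
  1 + s / (2 * D ^ 2) ^ 2 + w / ((2 * D ^ 2 - 1) * D) + t / ((2 * D ^ 2) ^ 2 + 1)
    + p / ((2 * D ^ 2 - 1) * (2 * D ^ 2 + 2 * D + 1)) + m / ((2 * D ^ 2 - 1) * (2 * D ^ 2 - 2 * D + 1))

theorem theta_real (tab : Tab d F) (s w t p m : ℝ)
    (hs : ((F.St : G → ℂ) x) ^ 2 * conj ((F.St : G → ℂ) g) = (s : ℂ))
    (hw : ((F.W₁ : G → ℂ) x) ^ 2 * conj ((F.W₁ : G → ℂ) g)
      + ((F.W₂ : G → ℂ) x) ^ 2 * conj ((F.W₂ : G → ℂ) g) = (w : ℂ))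
    (ht : ∑ χ ∈ F.T, ((χ : G → ℂ) x) ^ 2 * conj ((χ : G → ℂ) g) = (t : ℂ))
    (hp : ∑ χ ∈ F.P, ((χ : G → ℂ) x) ^ 2 * conj ((χ : G → ℂ) g) = (p : ℂ))
    (hm : ∑ χ ∈ F.M, ((χ : G → ℂ) x) ^ 2 * conj ((χ : G → ℂ) g) = (m : ℂ)) :
    theta x x g = ((Th d s w t p m : ℝ) : ℂ) := by
  rw [theta_split tab, hs, ht, hp, hm]
  unfold Th
  push_cast
  rw [← hw]
  ring

theorem ne_zero_of_pos (tab : Tab d F) (s w t p m : ℝ)
    (hs : ((F.St : G → ℂ) x) ^ 2 * conj ((F.St : G → ℂ) g) = (s : ℂ))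
    (hw : ((F.W₁ : G → ℂ) x) ^ 2 * conj ((F.W₁ : G → ℂ) g)
      + ((F.W₂ : G → ℂ) x) ^ 2 * conj ((F.W₂ : G → ℂ) g) = (w : ℂ))
    (ht : ∑ χ ∈ F.T, ((χ : G → ℂ) x) ^ 2 * conj ((χ : G → ℂ) g) = (t : ℂ))
    (hp : ∑ χ ∈ F.P, ((χ : G → ℂ) x) ^ 2 * conj ((χ : G → ℂ) g) = (p : ℂ))
    (hm : ∑ χ ∈ F.M, ((χ : G → ℂ) x) ^ 2 * conj ((χ : G → ℂ) g) = (m : ℂ))
    (hpos : 0 < Th d s w t p m) : theta x x g ≠ 0 := by
  rw [theta_real tab s w t p m hs hw ht hp hm]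
  exact Complex.ofReal_ne_zero.2 hpos.ne'

/-- `χ g` constant on the family -/
theorem sum_g_const (S : Finset (IrrCharacter G)) (x g : G) (c : ℂ)
    (h : ∀ χ ∈ S, (χ : G → ℂ) g = c) :
    ∑ χ ∈ S, ((χ : G → ℂ) x) ^ 2 * conj ((χ : G → ℂ) g) = (∑ χ ∈ S, ((χ : G → ℂ) x) ^ 2) * conj c := by
  rw [Finset.sum_mul]
  exact Finset.sum_congr rfl (fun χ hχ => by rw [h χ hχ])

/-- `χ x` constant on the family -/
theorem sum_x_const (S : Finset (IrrCharacter G)) (x g : G) (a : ℂ)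
    (h : ∀ χ ∈ S, (χ : G → ℂ) x = a) :
    ∑ χ ∈ S, ((χ : G → ℂ) x) ^ 2 * conj ((χ : G → ℂ) g) = a ^ 2 * conj (∑ χ ∈ S, (χ : G → ℂ) g) := by
  rw [map_sum, Finset.mul_sum]
  exact Finset.sum_congr rfl (fun χ hχ => by rw [h χ hχ])

theorem sum_sq_const (S : Finset (IrrCharacter G)) (x : G) (a : ℂ)
    (h : ∀ χ ∈ S, (χ : G → ℂ) x = a) :
    ∑ χ ∈ S, ((χ : G → ℂ) x) ^ 2 = (S.card : ℂ) * a ^ 2 := by
  rw [Finset.sum_congr rfl (fun χ hχ => by rw [h χ hχ]), Finset.sum_const, nsmul_eq_mul]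

theorem sum_val_const (S : Finset (IrrCharacter G)) (x : G) (a : ℂ)
    (h : ∀ χ ∈ S, (χ : G → ℂ) x = a) :
    ∑ χ ∈ S, (χ : G → ℂ) x = (S.card : ℂ) * a := by
  rw [Finset.sum_congr rfl (fun χ hχ => by rw [h χ hχ]), Finset.sum_const, nsmul_eq_mul]

/-- the sum vanishes if `χ x = 0` on the family -/
theorem sum_x_zero (S : Finset (IrrCharacter G)) (x g : G)
    (h : ∀ χ ∈ S, (χ : G → ℂ) x = 0) :
    ∑ χ ∈ S, ((χ : G → ℂ) x) ^ 2 * conj ((χ : G → ℂ) g) = ((0 : ℝ) : ℂ) := by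
  rw [sum_x_const S x g 0 h]; simp

/-- the sum vanishes if `χ g = 0` on the family -/
theorem sum_g_zero (S : Finset (IrrCharacter G)) (x g : G)
    (h : ∀ χ ∈ S, (χ : G → ℂ) g = 0) :
    ∑ χ ∈ S, ((χ : G → ℂ) x) ^ 2 * conj ((χ : G → ℂ) g) = ((0 : ℝ) : ℂ) := by
  rw [sum_g_const S x g 0 h]; simp

theorem two_le (tab : Tab d F) : (2 : ℝ) ≤ d := by exact_mod_cast tab.hd

theorem cardT (tab : Tab d F) : (F.T.card : ℂ) = (((d : ℝ) ^ 2 - 1 : ℝ) : ℂ) := by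
  rw [tab.cT]; push_cast; ring

theorem cardP (tab : Tab d F) : (F.P.card : ℂ) = ((((d : ℝ) ^ 2 - d) / 2 : ℝ) : ℂ) := by
  have := tab.cP
  push_cast
  rw [← this]; ring

theorem cardM (tab : Tab d F) : (F.M.card : ℂ) = ((((d : ℝ) ^ 2 + d) / 2 : ℝ) : ℂ) := by
  have := tab.cM
  push_cast
  rw [← this]; ring

end Cfsg.Agent.Lib.Helper70SzCovBase
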