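import Mathlib
import Cfsg.Agent.Lib.Helper70SzCovBase

/-!
PROJECT 61, PART E: the explicit `case**` pieces (helper70):
caseA1S caseA1R caseA1A2 caseA2S caseA2R caseA2A1 caseRS caseRR caseRA1 caseRA2.
-/

set_option autoImplicit false

namespace Cfsg.Agent.Lib.Helper70SzCovCases

open Cfsg Cfsg.Agent.Lib.Helper81ClassMul Cfsg.Agent.Lib.Helper81Base
  Cfsg.Agent.Lib.Helper61SzCovDefs Cfsg.Agent.Lib.Helper70SzCovBase
open scoped ComplexConjugate Classical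

/-! ### real inequalities -/

section Real

variable (D : ℝ) (hD : 2 ≤ D)
include hD

theorem e_ge : 7 ≤ 2 * D ^ 2 - 1 := by nlinarith
theorem n1_pos : 0 < 2 * D ^ 2 + 2 * D + 1 := by nlinarith
theorem n2_pos : 0 < 2 * D ^ 2 - 2 * D + 1 := by nlinarith
theorem eD_pos : 0 < (2 * D ^ 2 - 1) * D := mul_pos (by have := e_ge D hD; linarith) (by linarith)
theorem en1_pos : 0 < (2 * D ^ 2 - 1) * (2 * D ^ 2 + 2 * D + 1) :=
  mul_pos (by have := e_ge D hD; linarith) (n1_pos D hD)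
theorem en2_pos : 0 < (2 * D ^ 2 - 1) * (2 * D ^ 2 - 2 * D + 1) :=
  mul_pos (by have := e_ge D hD; linarith) (n2_pos D hD)
theorem q2_pos : 0 < (2 * D ^ 2) ^ 2 := by positivity
theorem q21_pos : 0 < (2 * D ^ 2) ^ 2 + 1 := by positivity

theorem posA1S : 0 < Th D 0 (-2 * D) 0 0 ((2 * D ^ 2 + 2 * D - 3) * (2 * D - 1)) := by
  have he := e_ge D hD
  have h2 : -(2 / 7 : ℝ) ≤ (-2 * D) / ((2 * D ^ 2 - 1) * D) := by
    rw [le_div_iff₀ (eD_pos D hD)]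
    nlinarith [mul_nonneg (by linarith : (0 : ℝ) ≤ 2 * D ^ 2 - 1 - 7) (by linarith : (0 : ℝ) ≤ D)]
  have h5 : 0 ≤ ((2 * D ^ 2 + 2 * D - 3) * (2 * D - 1)) / ((2 * D ^ 2 - 1) * (2 * D ^ 2 - 2 * D + 1)) := by
    apply div_nonneg _ (en2_pos D hD).le
    exact mul_nonneg (by nlinarith) (by linarith)
  unfold Th
  simp only [zero_div, add_zero]
  linarith

theorem posA1R : 0 < Th D 0 0 0 0 (-(2 * D ^ 2 + 2 * D - 3)) := by
  have he := e_ge D hD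
  have h5 : -(1 / 2 : ℝ) ≤ (-(2 * D ^ 2 + 2 * D - 3)) / ((2 * D ^ 2 - 1) * (2 * D ^ 2 - 2 * D + 1)) := by
    rw [le_div_iff₀ (en2_pos D hD)]
    nlinarith [mul_nonneg (by linarith : (0 : ℝ) ≤ 2 * D ^ 2 - 1 - 7) (n2_pos D hD).le]
  unfold Th
  simp only [zero_div, add_zero]
  linarith

theorem s_bound : -(1 / 4 : ℝ) ≤ (-1) / (2 * D ^ 2) ^ 2 := by
  rw [le_div_iff₀ (q2_pos D hD)]
  nlinarith [mul_nonneg (by nlinarith : (0 : ℝ) ≤ 2 * D ^ 2 - 2) (by nlinarith : (0 : ℝ) ≤ 2 * D ^ 2 + 2)]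

theorem posA1A2 : 0 < Th D (-1) (-2) 0 0 0 := by
  have he := e_ge D hD
  have h1 := s_bound D hD
  have h2 : -(1 / 4 : ℝ) ≤ (-2) / ((2 * D ^ 2 - 1) * D) := by
    rw [le_div_iff₀ (eD_pos D hD)]
    nlinarith [mul_nonneg (by linarith : (0 : ℝ) ≤ 2 * D ^ 2 - 1 - 7) (by linarith : (0 : ℝ) ≤ D)]
  unfold Th
  simp only [zero_div, add_zero]
  linarith

theorem posA2S : 0 < Th D 0 (-2 * D) 0 (-((2 * D ^ 2 - 2 * D - 3) * (2 * D + 1))) 0 := by
  have he := e_ge D hD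
  have h2 : -(2 / 7 : ℝ) ≤ (-2 * D) / ((2 * D ^ 2 - 1) * D) := by
    rw [le_div_iff₀ (eD_pos D hD)]
    nlinarith [mul_nonneg (by linarith : (0 : ℝ) ≤ 2 * D ^ 2 - 1 - 7) (by linarith : (0 : ℝ) ≤ D)]
  have h4 : -(1 / 2 : ℝ) ≤ (-((2 * D ^ 2 - 2 * D - 3) * (2 * D + 1)))
      / ((2 * D ^ 2 - 1) * (2 * D ^ 2 + 2 * D + 1)) := by
    rw [le_div_iff₀ (en1_pos D hD)]
    nlinarith [mul_nonneg (by linarith : (0 : ℝ) ≤ 2 * D + 2) (n1_pos D hD).le,
      mul_nonneg (by nlinarith : (0 : ℝ) ≤ 2 * D ^ 2 - 2 * D - 3) (by nlinarith : (0 : ℝ) ≤ 2 * D ^ 2 - 2 * D - 1)]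
  unfold Th
  simp only [zero_div, add_zero]
  linarith

theorem posA2R : 0 < Th D 0 0 0 (-(2 * D ^ 2 - 2 * D - 3)) 0 := by
  have he := e_ge D hD
  have h4 : -(1 / 2 : ℝ) ≤ (-(2 * D ^ 2 - 2 * D - 3)) / ((2 * D ^ 2 - 1) * (2 * D ^ 2 + 2 * D + 1)) := by
    rw [le_div_iff₀ (en1_pos D hD)]
    nlinarith [mul_nonneg (by linarith : (0 : ℝ) ≤ 2 * D ^ 2 - 1 - 7) (n1_pos D hD).le]
  unfold Th
  simp only [zero_div, add_zero]
  linarith

theorem posA2A1 : 0 < Th D (-1) 2 0 0 0 := by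
  have h1 := s_bound D hD
  have h2 : 0 ≤ (2 : ℝ) / ((2 * D ^ 2 - 1) * D) := div_nonneg (by norm_num) (eD_pos D hD).le
  unfold Th
  simp only [zero_div, add_zero]
  linarith

theorem posRS : 0 < Th D 0 (2 * D ^ 3) (D ^ 2 - 1) (-((D ^ 2 - D) / 2 * (2 * D + 1)))
    ((D ^ 2 + D) / 2 * (2 * D - 1)) := by
  have he := e_ge D hD
  have h2 : 0 ≤ (2 * D ^ 3) / ((2 * D ^ 2 - 1) * D) :=
    div_nonneg (by positivity) (eD_pos D hD).le
  have h3 : 0 ≤ (D ^ 2 - 1) / ((2 * D ^ 2) ^ 2 + 1) := div_nonneg (by nlinarith) (q21_pos D hD).le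
  have h4 : -(1 / 2 : ℝ) ≤ (-((D ^ 2 - D) / 2 * (2 * D + 1)))
      / ((2 * D ^ 2 - 1) * (2 * D ^ 2 + 2 * D + 1)) := by
    rw [le_div_iff₀ (en1_pos D hD)]
    nlinarith [mul_nonneg (by nlinarith : (0 : ℝ) ≤ D ^ 2 + D - 1) (n1_pos D hD).le,
      mul_nonneg (by nlinarith : (0 : ℝ) ≤ D ^ 2 - D) (by nlinarith : (0 : ℝ) ≤ 2 * D ^ 2)]
  have h5 : 0 ≤ ((D ^ 2 + D) / 2 * (2 * D - 1)) / ((2 * D ^ 2 - 1) * (2 * D ^ 2 - 2 * D + 1)) := by
    apply div_nonneg _ (en2_pos D hD).le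
    exact mul_nonneg (by nlinarith) (by linarith)
  unfold Th
  simp only [zero_div, add_zero]
  linarith

theorem posRR : 0 < Th D 0 0 (D ^ 2 - 1) (-((D ^ 2 - D) / 2)) (-((D ^ 2 + D) / 2)) := by
  have he := e_ge D hD
  have h3 : 0 ≤ (D ^ 2 - 1) / ((2 * D ^ 2) ^ 2 + 1) := div_nonneg (by nlinarith) (q21_pos D hD).le
  have h4 : -(1 / 4 : ℝ) ≤ (-((D ^ 2 - D) / 2)) / ((2 * D ^ 2 - 1) * (2 * D ^ 2 + 2 * D + 1)) := by
    rw [le_div_iff₀ (en1_pos D hD)]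
    nlinarith [mul_nonneg (by linarith : (0 : ℝ) ≤ 2 * D ^ 2 - 1 - 7) (n1_pos D hD).le]
  have h5 : -(1 / 4 : ℝ) ≤ (-((D ^ 2 + D) / 2)) / ((2 * D ^ 2 - 1) * (2 * D ^ 2 - 2 * D + 1)) := by
    rw [le_div_iff₀ (en2_pos D hD)]
    nlinarith [mul_nonneg (by linarith : (0 : ℝ) ≤ 2 * D ^ 2 - 1 - 7) (n2_pos D hD).le]
  unfold Th
  simp only [zero_div, add_zero]
  linarith

theorem posRA1 : 0 < Th D 0 (-2 * D ^ 2) 0 0 1 := by
  have he := e_ge D hD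
  have h2 : -(4 / 7 : ℝ) ≤ (-2 * D ^ 2) / ((2 * D ^ 2 - 1) * D) := by
    rw [le_div_iff₀ (eD_pos D hD)]
    nlinarith [mul_nonneg (by nlinarith : (0 : ℝ) ≤ 8 * D ^ 2 - 14 * D - 4) (by linarith : (0 : ℝ) ≤ D)]
  have h5 : 0 ≤ (1 : ℝ) / ((2 * D ^ 2 - 1) * (2 * D ^ 2 - 2 * D + 1)) :=
    div_nonneg (by norm_num) (en2_pos D hD).le
  unfold Th
  simp only [zero_div, add_zero]
  linarith

theorem posRA2 : 0 < Th D 0 (2 * D ^ 2) 0 1 0 := by
  have h2 : 0 ≤ (2 * D ^ 2) / ((2 * D ^ 2 - 1) * D) := div_nonneg (by positivity) (eD_pos D hD).le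
  have h4 : 0 ≤ (1 : ℝ) / ((2 * D ^ 2 - 1) * (2 * D ^ 2 + 2 * D + 1)) :=
    div_nonneg (by norm_num) (en1_pos D hD).le
  unfold Th
  simp only [zero_div, add_zero]
  linarith

end Real

/-! ### the cases -/

variable {G : Type*} [Group G] [Fintype G] {d : ℕ} {F : Fam G} {x g : G}

theorem caseA1S (tab : Tab d F) (hx : ColA1 d F x) (hg : ColS d F g) : theta x x g ≠ 0 := by
  apply ne_zero_of_pos tab _ _ _ _ _ _ _ (sum_x_zero _ _ _ hx.T) (sum_x_zero _ _ _ hx.P) _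
    (posA1S d (two_le tab))
  · rw [hg.St]; simp
  · rw [hx.W₁, hx.W₂, hg.W₁, hg.W₂]
    simp only [map_neg, map_natCast]
    push_cast; ring
  · rw [sum_g_const _ _ _ _ hg.M, hx.norm]
    simp only [map_sub, map_mul, map_natCast, map_ofNat, map_one]
    push_cast; ring

theorem caseA1R (tab : Tab d F) (hx : ColA1 d F x) (hg : ColR d F g) : theta x x g ≠ 0 := by
  apply ne_zero_of_pos tab _ _ _ _ _ _ _ (sum_x_zero _ _ _ hx.T) (sum_x_zero _ _ _ hx.P) _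
    (posA1R d (two_le tab))
  · rw [hg.St]; simp
  · rw [hx.W₁, hx.W₂, hg.W₂]
    simp only [map_neg]
    push_cast; ring
  · rw [sum_g_const _ _ _ _ hg.M, hx.norm]
    simp only [map_neg, map_one]
    push_cast; ring

theorem caseA1A2 (tab : Tab d F) (hx : ColA1 d F x) (hg : ColA2 d F g) : theta x x g ≠ 0 := by
  apply ne_zero_of_pos tab _ _ _ _ _ _ _ (sum_x_zero _ _ _ hx.T) (sum_x_zero _ _ _ hx.P)
    (sum_g_zero _ _ _ hg.M) (posA1A2 d (two_le tab))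
  · rw [hx.St, hg.St]
    simp only [map_neg, map_one]
    push_cast; ring
  · rw [hx.W₁, hx.W₂, hg.W₁, hg.W₂]
    simp only [map_neg, map_one]
    push_cast; ring

theorem caseA2S (tab : Tab d F) (hx : ColA2 d F x) (hg : ColS d F g) : theta x x g ≠ 0 := by
  apply ne_zero_of_pos tab _ _ _ _ _ _ _ (sum_x_zero _ _ _ hx.T) _ (sum_x_zero _ _ _ hx.M)
    (posA2S d (two_le tab))
  · rw [hg.St]; simp
  · rw [hx.W₁, hx.W₂, hg.W₁, hg.W₂]
    simp only [map_neg, map_natCast]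
    push_cast; ring
  · rw [sum_g_const _ _ _ _ hg.P, hx.norm]
    simp only [map_neg, map_add, map_mul, map_natCast, map_ofNat, map_one]
    push_cast; ring

theorem caseA2R (tab : Tab d F) (hx : ColA2 d F x) (hg : ColR d F g) : theta x x g ≠ 0 := by
  apply ne_zero_of_pos tab _ _ _ _ _ _ _ (sum_x_zero _ _ _ hx.T) _ (sum_x_zero _ _ _ hx.M)
    (posA2R d (two_le tab))
  · rw [hg.St]; simp
  · rw [hx.W₁, hx.W₂, hg.W₂]
    simp only [map_neg]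
    push_cast; ring
  · rw [sum_g_const _ _ _ _ hg.P, hx.norm]
    simp only [map_neg, map_one]
    push_cast; ring

theorem caseA2A1 (tab : Tab d F) (hx : ColA2 d F x) (hg : ColA1 d F g) : theta x x g ≠ 0 := by
  apply ne_zero_of_pos tab _ _ _ _ _ _ _ (sum_x_zero _ _ _ hx.T) (sum_g_zero _ _ _ hg.P)
    (sum_x_zero _ _ _ hx.M) (posA2A1 d (two_le tab))
  · rw [hx.St, hg.St]
    simp only [map_neg, map_one]
    push_cast; ring
  · rw [hx.W₁, hx.W₂, hg.W₁, hg.W₂]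
    simp only [map_one]
    push_cast; ring

theorem caseRS (tab : Tab d F) (hx : ColR d F x) (hg : ColS d F g) : theta x x g ≠ 0 := by
  apply ne_zero_of_pos tab _ _ _ _ _ _ _ _ _ _ (posRS d (two_le tab))
  · rw [hg.St]; simp
  · rw [hx.W₂, neg_sq, hx.W₁, hg.W₁, hg.W₂]
    simp only [map_neg, map_natCast]
    push_cast; ring
  · rw [sum_x_const _ _ _ _ hx.T, sum_val_const _ _ _ hg.T, cardT tab]
    simp only [map_mul, map_one, Complex.conj_ofReal]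
    push_cast; ring
  · rw [sum_x_const _ _ _ _ hx.P, sum_val_const _ _ _ hg.P, cardP tab]
    simp only [map_mul, map_neg, map_add, map_natCast, map_ofNat, map_one, Complex.conj_ofReal]
    push_cast; ring
  · rw [sum_x_const _ _ _ _ hx.M, sum_val_const _ _ _ hg.M, cardM tab]
    simp only [map_mul, map_sub, map_natCast, map_ofNat, map_one, Complex.conj_ofReal]
    push_cast; ring

theorem caseRR (tab : Tab d F) (hx : ColR d F x) (hg : ColR d F g) : theta x x g ≠ 0 := by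
  apply ne_zero_of_pos tab _ _ _ _ _ _ _ _ _ _ (posRR d (two_le tab))
  · rw [hg.St]; simp
  · rw [hx.W₂, neg_sq, hx.W₁, hg.W₂]
    simp only [map_neg]
    push_cast; ring
  · rw [sum_x_const _ _ _ _ hx.T, sum_val_const _ _ _ hg.T, cardT tab]
    simp only [map_mul, map_one, Complex.conj_ofReal]
    push_cast; ring
  · rw [sum_x_const _ _ _ _ hx.P, sum_val_const _ _ _ hg.P, cardP tab]
    simp only [map_mul, map_neg, map_one, Complex.conj_ofReal]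
    push_cast; ring
  · rw [sum_x_const _ _ _ _ hx.M, sum_val_const _ _ _ hg.M, cardM tab]
    simp only [map_mul, map_neg, map_one, Complex.conj_ofReal]
    push_cast; ring

theorem caseRA1 (tab : Tab d F) (hx : ColR d F x) (hg : ColA1 d F g) : theta x x g ≠ 0 := by
  apply ne_zero_of_pos tab _ _ _ _ _ _ _ (sum_g_zero _ _ _ hg.T) (sum_g_zero _ _ _ hg.P) _
    (posRA1 d (two_le tab))
  · rw [hx.St]; simp
  · rw [hx.W₂, neg_sq, hx.W₁, hg.W₁, hg.W₂]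
    simp only [map_one]
    push_cast; ring
  · rw [sum_x_const _ _ _ _ hx.M, hg.sum]
    simp

theorem caseRA2 (tab : Tab d F) (hx : ColR d F x) (hg : ColA2 d F g) : theta x x g ≠ 0 := by
  apply ne_zero_of_pos tab _ _ _ _ _ _ _ (sum_g_zero _ _ _ hg.T) _ (sum_g_zero _ _ _ hg.M)
    (posRA2 d (two_le tab))
  · rw [hx.St]; simp
  · rw [hx.W₂, neg_sq, hx.W₁, hg.W₁, hg.W₂]
    simp only [map_neg, map_one]
    push_cast; ring
  · rw [sum_x_const _ _ _ _ hx.P, hg.sum]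
    simp

end Cfsg.Agent.Lib.Helper70SzCovCases
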