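import Mathlib
import Cfsg.Agent.Lib.Helper70SzCovBase

/-!
PROJECT 61, PART E: the `1 + small` pieces (helper70): caseH caseA1H caseA2H caseRH.
-/

set_option autoImplicit false

namespace Cfsg.Agent.Lib.Helper70SzCovSmall

open Cfsg Cfsg.Agent.Lib.Helper81ClassMul Cfsg.Agent.Lib.Helper81Base
  Cfsg.Agent.Lib.Helper61SzCovDefs Cfsg.Agent.Lib.Helper70SzCovBase
open scoped ComplexConjugate Classical

theorem ne_zero_of_small (z : ℂ) (h : ‖z‖ < 1) : 1 + z ≠ 0 := by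
  intro h0
  have h1 : z = -1 := by linear_combination h0
  rw [h1] at h
  simp at h

variable {G : Type*} [Group G] [Fintype G] {d : ℕ} {F : Fam G} {x g : G}

theorem bound_real (hb : ∀ χ : IrrCharacter G, ‖(χ : G → ℂ) g‖ ≤ (2 * d ^ 2 : ℕ)) :
    ∀ χ : IrrCharacter G, ‖(χ : G → ℂ) g‖ ≤ 2 * (d : ℝ) ^ 2 := by
  intro χ
  have := hb χ
  push_cast at this
  exact this

/-- the Steinberg term is small -/
theorem st_small (tab : Tab d F) (hb : ∀ χ : IrrCharacter G, ‖(χ : G → ℂ) g‖ ≤ (2 * d ^ 2 : ℕ)) :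
    ‖conj ((F.St : G → ℂ) g) / (((2 * (d : ℝ) ^ 2) ^ 2 : ℝ) : ℂ)‖ < 1 := by
  have hD := two_le tab
  have hQ : (8 : ℝ) ≤ 2 * (d : ℝ) ^ 2 := by nlinarith
  rw [norm_div, RCLike.norm_conj, Complex.norm_real, Real.norm_of_nonneg (by positivity),
    div_lt_one (by positivity)]
  have := bound_real hb F.St
  nlinarith

theorem caseA1H (tab : Tab d F) (hx : ColA1 d F x) (hg : ColH d F g)
    (hb : ∀ χ : IrrCharacter G, ‖(χ : G → ℂ) g‖ ≤ (2 * d ^ 2 : ℕ)) : theta x x g ≠ 0 := by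
  have key : theta x x g = 1 + conj ((F.St : G → ℂ) g) / (((2 * (d : ℝ) ^ 2) ^ 2 : ℝ) : ℂ) := by
    rw [theta_split tab, hx.St, hg.W₁, hg.W₂, sum_x_zero _ _ _ hx.T, sum_x_zero _ _ _ hx.P,
      sum_g_zero _ _ _ hg.M]
    push_cast
    simp
  rw [key]
  exact ne_zero_of_small _ (st_small tab hb)

theorem caseA2H (tab : Tab d F) (hx : ColA2 d F x) (hg : ColH d F g)
    (hb : ∀ χ : IrrCharacter G, ‖(χ : G → ℂ) g‖ ≤ (2 * d ^ 2 : ℕ)) : theta x x g ≠ 0 := by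
  have key : theta x x g = 1 + conj ((F.St : G → ℂ) g) / (((2 * (d : ℝ) ^ 2) ^ 2 : ℝ) : ℂ) := by
    rw [theta_split tab, hx.St, hg.W₁, hg.W₂, sum_x_zero _ _ _ hx.T, sum_g_zero _ _ _ hg.P,
      sum_x_zero _ _ _ hx.M]
    push_cast
    simp
  rw [key]
  exact ne_zero_of_small _ (st_small tab hb)

theorem cardT_real (tab : Tab d F) : (F.T.card : ℝ) = (d : ℝ) ^ 2 - 1 := by
  have h : ((F.T.card : ℝ) : ℂ) = (((d : ℝ) ^ 2 - 1 : ℝ) : ℂ) := by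
    push_cast
    exact tab.cT
  exact Complex.ofReal_injective h

theorem caseRH (tab : Tab d F) (hx : ColR d F x) (hg : ColH d F g)
    (hb : ∀ χ : IrrCharacter G, ‖(χ : G → ℂ) g‖ ≤ (2 * d ^ 2 : ℕ)) : theta x x g ≠ 0 := by
  have hD := two_le tab
  have key : theta x x g = 1 + conj (∑ χ ∈ F.T, (χ : G → ℂ) g) / (((2 * (d : ℝ) ^ 2) ^ 2 + 1 : ℝ) : ℂ) := by
    rw [theta_split tab, hx.St, hg.W₁, hg.W₂, sum_x_const _ _ _ _ hx.T, sum_g_zero _ _ _ hg.P,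
      sum_g_zero _ _ _ hg.M]
    push_cast
    simp
  rw [key]
  apply ne_zero_of_small
  rw [norm_div, RCLike.norm_conj, Complex.norm_real, Real.norm_of_nonneg (by positivity),
    div_lt_one (by positivity)]
  have h1 : ‖∑ χ ∈ F.T, (χ : G → ℂ) g‖ ≤ (F.T.card : ℝ) * (2 * (d : ℝ) ^ 2) := by
    refine (norm_sum_le _ _).trans ?_
    refine (Finset.sum_le_sum (fun χ _ => bound_real hb χ)).trans ?_
    rw [Finset.sum_const, nsmul_eq_mul]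
  rw [cardT_real tab] at h1
  nlinarith [sq_nonneg ((d : ℝ) ^ 2)]

theorem caseH (tab : Tab d F) (hx : ColH d F x)
    (hb : ∀ χ : IrrCharacter G, ‖(χ : G → ℂ) g‖ ≤ (2 * d ^ 2 : ℕ)) :
    theta x x g ≠ 0 := by
  have hD := two_le tab
  have hQ : (8 : ℝ) ≤ 2 * (d : ℝ) ^ 2 := by nlinarith
  have hb' := bound_real hb
  have key : theta x x g = 1 + (((F.St : G → ℂ) x) ^ 2 * conj ((F.St : G → ℂ) g)
        / (((2 * (d : ℝ) ^ 2) ^ 2 : ℝ) : ℂ)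
      + (∑ χ ∈ F.T, ((χ : G → ℂ) x) ^ 2 * conj ((χ : G → ℂ) g))
        / (((2 * (d : ℝ) ^ 2) ^ 2 + 1 : ℝ) : ℂ)) := by
    rw [theta_split tab, hx.W₁, hx.W₂, sum_x_zero _ _ _ hx.P, sum_x_zero _ _ _ hx.M]
    push_cast
    ring
  have hnorm : 1 + ‖(F.St : G → ℂ) x‖ ^ 2 + ∑ χ ∈ F.T, ‖(χ : G → ℂ) x‖ ^ 2 = 2 * (d : ℝ) ^ 2 - 1 := by
    have h := hx.norm
    rw [tab.split, hx.W₁, hx.W₂,
      Finset.sum_eq_zero (s := F.P) (fun χ hχ => by rw [hx.P χ hχ, zero_mul]),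
      Finset.sum_eq_zero (s := F.M) (fun χ hχ => by rw [hx.M χ hχ, zero_mul])] at h
    simp only [one₁_apply, Complex.mul_conj, Complex.normSq_eq_norm_sq, zero_mul, add_zero, map_one,
      mul_one] at h
    exact_mod_cast h
  rw [key]
  apply ne_zero_of_small
  have h1 : ‖((F.St : G → ℂ) x) ^ 2 * conj ((F.St : G → ℂ) g) / (((2 * (d : ℝ) ^ 2) ^ 2 : ℝ) : ℂ)‖
      ≤ ‖(F.St : G → ℂ) x‖ ^ 2 / (2 * (d : ℝ) ^ 2) := by
    rw [norm_div, norm_mul, norm_pow, RCLike.norm_conj, Complex.norm_real,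
      Real.norm_of_nonneg (by positivity), div_le_div_iff₀ (by positivity) (by positivity)]
    have h3 : ‖(F.St : G → ℂ) x‖ ^ 2 * ‖(F.St : G → ℂ) g‖ ≤ ‖(F.St : G → ℂ) x‖ ^ 2 * (2 * (d : ℝ) ^ 2) :=
      mul_le_mul_of_nonneg_left (hb' _) (by positivity)
    calc ‖(F.St : G → ℂ) x‖ ^ 2 * ‖(F.St : G → ℂ) g‖ * (2 * (d : ℝ) ^ 2)
        ≤ ‖(F.St : G → ℂ) x‖ ^ 2 * (2 * (d : ℝ) ^ 2) * (2 * (d : ℝ) ^ 2) :=
          mul_le_mul_of_nonneg_right h3 (by positivity)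
      _ = ‖(F.St : G → ℂ) x‖ ^ 2 * (2 * (d : ℝ) ^ 2) ^ 2 := by ring
  have h2 : ‖(∑ χ ∈ F.T, ((χ : G → ℂ) x) ^ 2 * conj ((χ : G → ℂ) g))
        / (((2 * (d : ℝ) ^ 2) ^ 2 + 1 : ℝ) : ℂ)‖
      ≤ (∑ χ ∈ F.T, ‖(χ : G → ℂ) x‖ ^ 2) / (2 * (d : ℝ) ^ 2) := by
    have hB : 0 ≤ ∑ χ ∈ F.T, ‖(χ : G → ℂ) x‖ ^ 2 := Finset.sum_nonneg (fun _ _ => by positivity)
    have h3 : ‖∑ χ ∈ F.T, ((χ : G → ℂ) x) ^ 2 * conj ((χ : G → ℂ) g)‖
        ≤ (∑ χ ∈ F.T, ‖(χ : G → ℂ) x‖ ^ 2) * (2 * (d : ℝ) ^ 2) := by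
      refine (norm_sum_le _ _).trans ?_
      rw [Finset.sum_mul]
      apply Finset.sum_le_sum
      intro χ _
      rw [norm_mul, norm_pow, RCLike.norm_conj]
      exact mul_le_mul_of_nonneg_left (hb' _) (by positivity)
    rw [norm_div, Complex.norm_real, Real.norm_of_nonneg (by positivity),
      div_le_div_iff₀ (by positivity) (by positivity)]
    calc ‖∑ χ ∈ F.T, ((χ : G → ℂ) x) ^ 2 * conj ((χ : G → ℂ) g)‖ * (2 * (d : ℝ) ^ 2)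
        ≤ (∑ χ ∈ F.T, ‖(χ : G → ℂ) x‖ ^ 2) * (2 * (d : ℝ) ^ 2) * (2 * (d : ℝ) ^ 2) :=
          mul_le_mul_of_nonneg_right h3 (by positivity)
      _ ≤ (∑ χ ∈ F.T, ‖(χ : G → ℂ) x‖ ^ 2) * ((2 * (d : ℝ) ^ 2) ^ 2 + 1) := by nlinarith
  refine lt_of_le_of_lt ((norm_add_le _ _).trans (add_le_add h1 h2)) ?_
  rw [← add_div, div_lt_one (by positivity)]
  linarith

end Cfsg.Agent.Lib.Helper70SzCovSmall
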