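import Mathlib
import Cfsg.Agent.Lib.Helper61SzCovDefs
import Cfsg.Agent.Lib.Helper61SzDegMain

/-!
PROJECT 61, PART E: piece `conjW`.
-/

set_option autoImplicit false

namespace Cfsg.Agent.Lib.Helper84SzCovConjW

open Cfsg Cfsg.Agent.Lib.Helper4Char Cfsg.Agent.Lib.Helper4Char2 Cfsg.Agent.Lib.Helper4Char4
  Cfsg.Agent.Lib.Helper61Feit7 Cfsg.Agent.Lib.Helper61Feit8 Cfsg.Agent.Lib.Helper61ZTDefs
  Cfsg.Agent.Lib.Helper81ClassMul Cfsg.Agent.Lib.Helper81Base Cfsg.Agent.Lib.Helper81BB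
  Cfsg.Agent.Lib.Helper61SzCovDefs
open scoped ComplexConjugate Classical

variable {G : Type*} [Group G] [Fintype G] {d : ℕ}

/-- piece `conjW` -/
theorem conjW {F : Fam G} (tab : Tab d F) (ρ : G) (hρ : ColR d F ρ) (g : G) :
    (F.W₂ : G → ℂ) g = conj ((F.W₁ : G → ℂ) g) := by
  obtain ⟨χ', hχ'⟩ : ∃ χ' : IrrCharacter G, ∀ x, (χ' : G → ℂ) x = conj ((F.W₁ : G → ℂ) x) :=
    ⟨⟨fun g => conj ((F.W₁ : G → ℂ) g), IsIrrCharacter.conj F.W₁.2⟩, fun _ => rfl⟩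
  have hd2 : (2 : ℤ) ≤ d := by exact_mod_cast tab.hd
  have hdeg : (χ' : G → ℂ) 1 = (2 * (d : ℂ) ^ 2 - 1) * d := by
    rw [hχ', tab.dW₁]
    have e2 : (starRingEnd ℂ) (2 : ℂ) = 2 := Complex.conj_ofNat 2
    simp [e2]
  rcases tab.mem χ' with h | h | h | h | h | h | h
  · exfalso
    rw [h, one₁_apply] at hdeg
    have h2 : (1 : ℤ) = (2 * (d : ℤ) ^ 2 - 1) * d := by exact_mod_cast hdeg
    nlinarith
  · exfalso
    rw [h, tab.dSt] at hdeg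
    have h2 : (2 * (d : ℤ) ^ 2) ^ 2 = (2 * (d : ℤ) ^ 2 - 1) * d := by exact_mod_cast hdeg
    nlinarith [pow_pos (by linarith : (0 : ℤ) < d) 3, pow_pos (by linarith : (0 : ℤ) < d) 2]
  · exfalso
    have h1 := hχ' ρ
    rw [h] at h1
    have h2 := hρ.W₁
    have h3 : ((F.W₁ : G → ℂ) ρ) ^ 2 = (Complex.normSq ((F.W₁ : G → ℂ) ρ) : ℂ) := by
      rw [← Complex.mul_conj, ← h1, sq]
    rw [h3] at h2
    have h4 : Complex.normSq ((F.W₁ : G → ℂ) ρ) = -(d : ℝ) ^ 2 := by exact_mod_cast h2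
    have h5 := Complex.normSq_nonneg ((F.W₁ : G → ℂ) ρ)
    have h6 : (2 : ℝ) ≤ d := by exact_mod_cast tab.hd
    nlinarith
  · rw [← h, hχ']
  · exfalso
    rw [tab.dT χ' h] at hdeg
    have h2 : (2 * (d : ℤ) ^ 2) ^ 2 + 1 = (2 * (d : ℤ) ^ 2 - 1) * d := by exact_mod_cast hdeg
    nlinarith [pow_pos (by linarith : (0 : ℤ) < d) 3, pow_pos (by linarith : (0 : ℤ) < d) 2]
  · exfalso
    rw [tab.dP χ' h] at hdeg
    have h2 : (2 * (d : ℤ) ^ 2 - 1) * (2 * (d : ℤ) ^ 2 + 2 * d + 1) = (2 * (d : ℤ) ^ 2 - 1) * d := by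
      exact_mod_cast hdeg
    have h3 : (2 * (d : ℤ) ^ 2 - 1) ≠ 0 := by nlinarith
    have h4 := mul_left_cancel₀ h3 h2
    nlinarith
  · exfalso
    rw [tab.dM χ' h] at hdeg
    have h2 : (2 * (d : ℤ) ^ 2 - 1) * (2 * (d : ℤ) ^ 2 - 2 * d + 1) = (2 * (d : ℤ) ^ 2 - 1) * d := by
      exact_mod_cast hdeg
    have h3 : (2 * (d : ℤ) ^ 2 - 1) ≠ 0 := by nlinarith
    have h4 := mul_left_cancel₀ h3 h2
    nlinarith

end Cfsg.Agent.Lib.Helper84SzCovConjW
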