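import Mathlib
import Cfsg.Agent.Lib.Helper61SzCovDefs
import Cfsg.Agent.Lib.Helper61SzDegMain
import Cfsg.Agent.Lib.Helper61SzCent
import Cfsg.Agent.S4808

/-!
PROJECT 61, PART E: pieces `offK`, `van`, `vanH`, `vanA1`, `vanA2`.
-/

set_option autoImplicit false

namespace Cfsg.Agent.Lib.Helper84SzCovVan

open Cfsg Cfsg.Agent.Lib.Helper4Char Cfsg.Agent.Lib.Helper4Char2 Cfsg.Agent.Lib.Helper4Char4
  Cfsg.Agent.Lib.Helper61Feit7 Cfsg.Agent.Lib.Helper61Feit8 Cfsg.Agent.Lib.Helper61ZTDefs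
  Cfsg.Agent.Lib.Helper81ClassMul Cfsg.Agent.Lib.Helper81Base Cfsg.Agent.Lib.Helper81BB
  Cfsg.Agent.Lib.Helper61SzCovDefs
open scoped ComplexConjugate Classical

/-! ### arithmetic -/

theorem ar_le (d : ℕ) : 2 * d ≤ 2 * d ^ 2 + 1 := by nlinarith [sq_nonneg ((d : ℤ) - 1), sq_nonneg d]

theorem ar_prod (d : ℕ) :
    (2 * d ^ 2 + 2 * d + 1) * (2 * d ^ 2 + 1 - 2 * d) = (2 * d ^ 2) ^ 2 + 1 := by
  obtain ⟨n2, hn2⟩ : ∃ n2, 2 * d ^ 2 + 1 = n2 + 2 * d := ⟨2 * d ^ 2 + 1 - 2 * d, by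
    have := ar_le d; omega⟩
  have : 2 * d ^ 2 + 1 - 2 * d = n2 := by omega
  rw [this]
  have h : (n2 : ℤ) = 2 * d ^ 2 + 1 - 2 * d := by
    have : ((2 * d ^ 2 + 1 : ℕ) : ℤ) = ((n2 + 2 * d : ℕ) : ℤ) := by rw [hn2]
    push_cast at this
    linarith
  zify
  rw [h]
  ring

theorem ar_q {p d : ℕ} (hp : p.Prime) (h : p ∣ 2 * d ^ 2) : ¬ p ∣ (2 * d ^ 2) ^ 2 + 1 := by
  intro h2
  have h3 : p ∣ (2 * d ^ 2) ^ 2 := dvd_pow h (by norm_num)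
  have := (Nat.dvd_add_right h3).1 h2
  exact hp.one_lt.ne' (Nat.dvd_one.1 this)

theorem ar_two {p d : ℕ} (h : p ∣ 2) : p ∣ 2 * d ^ 2 := Dvd.dvd.mul_right h _

theorem ar_d {p d : ℕ} (h : p ∣ d) : p ∣ 2 * d ^ 2 :=
  Dvd.dvd.mul_left (dvd_pow h (by norm_num)) _

theorem ar_e_q {p d : ℕ} (hd : 1 ≤ d) (hp : p.Prime) (h : p ∣ 2 * d ^ 2 - 1) : ¬ p ∣ 2 * d ^ 2 := by
  intro h2
  have h1 : 1 ≤ 2 * d ^ 2 := by nlinarith
  have := Nat.dvd_sub h2 h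
  have e : 2 * d ^ 2 - (2 * d ^ 2 - 1) = 1 := by omega
  rw [e] at this
  exact hp.one_lt.ne' (Nat.dvd_one.1 this)

theorem ar_e {p d : ℕ} (hd : 1 ≤ d) (hp : p.Prime) (h : p ∣ 2 * d ^ 2 - 1) :
    ¬ p ∣ (2 * d ^ 2) ^ 2 + 1 := by
  intro h2
  have h1 : 1 ≤ 2 * d ^ 2 := by nlinarith
  obtain ⟨e, he⟩ : ∃ e, 2 * d ^ 2 = e + 1 := ⟨2 * d ^ 2 - 1, by omega⟩
  have e1 : 2 * d ^ 2 - 1 = e := by omega
  rw [e1] at h
  have e2 : (2 * d ^ 2) ^ 2 + 1 = e * (e + 2) + 2 := by rw [he]; ring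
  rw [e2] at h2
  have h3 : p ∣ 2 := (Nat.dvd_add_right (Dvd.dvd.mul_right h _)).1 h2
  exact ar_e_q hd hp (e1 ▸ h) (ar_two h3)

theorem ar_n12 {p d : ℕ} (hp : p.Prime) (h1 : p ∣ 2 * d ^ 2 + 2 * d + 1)
    (h2 : p ∣ 2 * d ^ 2 + 1 - 2 * d) : p ∣ 2 * d ^ 2 := by
  have := Nat.dvd_sub h1 h2
  have hle := ar_le d
  have e : 2 * d ^ 2 + 2 * d + 1 - (2 * d ^ 2 + 1 - 2 * d) = 2 * 2 * d := by omega
  rw [e] at this
  rcases (hp.dvd_mul).1 this with h | h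
  · rcases (hp.dvd_mul).1 h with h | h <;> exact ar_two h
  · exact ar_d h

theorem ar_n1 {p d : ℕ} (h1 : p ∣ 2 * d ^ 2 + 2 * d + 1) : p ∣ (2 * d ^ 2) ^ 2 + 1 := by
  rw [← ar_prod]; exact Dvd.dvd.mul_right h1 _

theorem ar_n2 {p d : ℕ} (h1 : p ∣ 2 * d ^ 2 + 1 - 2 * d) : p ∣ (2 * d ^ 2) ^ 2 + 1 := by
  rw [← ar_prod]; exact Dvd.dvd.mul_left h1 _

section Chars

variable {G : Type*} [Group G] [Fintype G] {K Z : Subgroup G} {q d : ℕ}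

/-- piece `offK` -/
theorem offK (hz : ZT K Z q (q ^ 2)) (x : G) (hx : x ∈ Subgroup.normalizer (K : Set G)) (hxK : x ∉ K) :
    ∃ p : ℕ, p.Prime ∧ p ∣ q - 1 ∧ p ∣ orderOf x := by
  haveI : (K.subgroupOf (Subgroup.normalizer (K : Set G))).Normal := Subgroup.normal_in_normalizer
  obtain ⟨y, hy⟩ : ∃ y : ↥(Subgroup.normalizer (K : Set G)) ⧸ K.subgroupOf (Subgroup.normalizer (K : Set G)),
      y = QuotientGroup.mk' _ ⟨x, hx⟩ := ⟨_, rfl⟩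
  have hy1 : y ≠ 1 := by
    intro h1
    rw [hy, QuotientGroup.mk'_apply, QuotientGroup.eq_one_iff, Subgroup.mem_subgroupOf] at h1
    exact hxK h1
  have ho1 : orderOf y ≠ 1 := fun h => hy1 (orderOf_eq_one_iff.1 h)
  have ho2 : orderOf y ∣ q - 1 := by
    rw [← hz.he, Subgroup.index]
    exact orderOf_dvd_natCard y
  have ho3 : orderOf y ∣ orderOf x := by
    have := orderOf_map_dvd (QuotientGroup.mk' (K.subgroupOf (Subgroup.normalizer (K : Set G))))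
      (⟨x, hx⟩ : ↥(Subgroup.normalizer (K : Set G)))
    rw [← hy, Subgroup.orderOf_mk] at this
    exact this
  obtain ⟨p, hp, hpd⟩ := Nat.exists_prime_and_dvd ho1
  exact ⟨p, hp, hpd.trans ho2, hpd.trans ho3⟩

/-- piece `van` -/
theorem van (hz : ZT K Z q (q ^ 2)) (χ : IrrCharacter G) (p : ℕ) (hp : p.Prime) (g : G)
    (hpg : p ∣ orderOf g) (D c : ℕ) (hD : (χ : G → ℂ) 1 = D) (hc : (q ^ 2 + 1) * q ^ 2 * (q - 1) = c * D)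
    (hpc : ¬ p ∣ c) : (χ : G → ℂ) g = 0 := by
  haveI : Fintype ↥(Subgroup.normalizer (K : Set G)) := Fintype.ofFinite _
  have h1 : charDegree (χ : G → ℂ) = D := by
    have := charDegree_eq χ
    rw [hD] at this
    exact_mod_cast this
  refine Cfsg.Agent.S4808.defect_zero_vanish χ p hp c hpc ?_ g hpg
  rw [h1, ← hc]
  exact Cfsg.Agent.Lib.Helper70ZTCardG.cardG hz

/-- piece `vanH` -/
theorem vanH (hz : ZT K Z q (q ^ 2)) (hd : 2 * d ^ 2 = q) {F : Fam G} (tab : Tab d F) (g : G) (p : ℕ)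
    (hp : p.Prime) (hpq : p ∣ q - 1) (hpg : p ∣ orderOf g) :
    (F.W₁ : G → ℂ) g = 0 ∧ (F.W₂ : G → ℂ) g = 0 ∧ (∀ χ ∈ F.P, (χ : G → ℂ) g = 0) ∧
      ∀ χ ∈ F.M, (χ : G → ℂ) g = 0 := by
  subst hd
  have hd1 : 1 ≤ d := by have := tab.hd; omega
  have hq1 : 1 ≤ 2 * d ^ 2 := by nlinarith
  have hle := ar_le d
  have nq := ar_e_q hd1 hp hpq
  have nq2 := ar_e hd1 hp hpq
  have hW : ¬ p ∣ ((2 * d ^ 2) ^ 2 + 1) * (2 * 2 * d ^ 3) := by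
    intro h
    rcases (hp.dvd_mul).1 h with h | h
    · exact nq2 h
    · rcases (hp.dvd_mul).1 h with h | h
      · rcases (hp.dvd_mul).1 h with h | h <;> exact nq (ar_two h)
      · exact nq (ar_d (hp.dvd_of_dvd_pow h))
  have hWc : ((2 * d ^ 2) ^ 2 + 1) * (2 * d ^ 2) ^ 2 * (2 * d ^ 2 - 1) =
      ((2 * d ^ 2) ^ 2 + 1) * (2 * 2 * d ^ 3) * ((2 * d ^ 2 - 1) * d) := by ring
  refine ⟨?_, ?_, ?_, ?_⟩
  · refine van hz F.W₁ p hp g hpg ((2 * d ^ 2 - 1) * d) _ ?_ hWc hW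
    rw [tab.dW₁]; push_cast [Nat.cast_sub hq1]; ring
  · refine van hz F.W₂ p hp g hpg ((2 * d ^ 2 - 1) * d) _ ?_ hWc hW
    rw [tab.dW₂]; push_cast [Nat.cast_sub hq1]; ring
  · intro χ hχ
    refine van hz χ p hp g hpg ((2 * d ^ 2 - 1) * (2 * d ^ 2 + 2 * d + 1))
      ((2 * d ^ 2) ^ 2 * (2 * d ^ 2 + 1 - 2 * d)) ?_ ?_ ?_
    · rw [tab.dP χ hχ]; push_cast [Nat.cast_sub hq1]; ring
    · rw [← ar_prod]; ring
    · intro h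
      rcases (hp.dvd_mul).1 h with h | h
      · exact nq (hp.dvd_of_dvd_pow h)
      · exact nq2 (ar_n2 h)
  · intro χ hχ
    refine van hz χ p hp g hpg ((2 * d ^ 2 - 1) * (2 * d ^ 2 + 1 - 2 * d))
      ((2 * d ^ 2) ^ 2 * (2 * d ^ 2 + 2 * d + 1)) ?_ ?_ ?_
    · rw [tab.dM χ hχ]; push_cast [Nat.cast_sub hq1, Nat.cast_sub hle]; ring
    · rw [← ar_prod]; ring
    · intro h
      rcases (hp.dvd_mul).1 h with h | h
      · exact nq (hp.dvd_of_dvd_pow h)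
      · exact nq2 (ar_n1 h)

/-- piece `vanA1` -/
theorem vanA1 (hz : ZT K Z q (q ^ 2)) (hd : 2 * d ^ 2 = q) {F : Fam G} (tab : Tab d F) (g : G) (p : ℕ)
    (hp : p.Prime) (hpq : p ∣ q + 2 * d + 1) (hpg : p ∣ orderOf g) :
    (∀ χ ∈ F.T, (χ : G → ℂ) g = 0) ∧ ∀ χ ∈ F.P, (χ : G → ℂ) g = 0 := by
  subst hd
  have hd1 : 1 ≤ d := by have := tab.hd; omega
  have hq1 : 1 ≤ 2 * d ^ 2 := by nlinarith
  have hle := ar_le d
  have h2 := ar_n1 hpq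
  have nq : ¬ p ∣ 2 * d ^ 2 := fun h => ar_q hp h h2
  have ne : ¬ p ∣ 2 * d ^ 2 - 1 := fun h => ar_e hd1 hp h h2
  refine ⟨?_, ?_⟩
  · intro χ hχ
    refine van hz χ p hp g hpg ((2 * d ^ 2) ^ 2 + 1)
      ((2 * d ^ 2) ^ 2 * (2 * d ^ 2 - 1)) ?_ ?_ ?_
    · rw [tab.dT χ hχ]; push_cast; ring
    · ring
    · intro h
      rcases (hp.dvd_mul).1 h with h | h
      · exact nq (hp.dvd_of_dvd_pow h)
      · exact ne h
  · intro χ hχ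
    refine van hz χ p hp g hpg ((2 * d ^ 2 - 1) * (2 * d ^ 2 + 2 * d + 1))
      ((2 * d ^ 2) ^ 2 * (2 * d ^ 2 + 1 - 2 * d)) ?_ ?_ ?_
    · rw [tab.dP χ hχ]; push_cast [Nat.cast_sub hq1]; ring
    · rw [← ar_prod]; ring
    · intro h
      rcases (hp.dvd_mul).1 h with h | h
      · exact nq (hp.dvd_of_dvd_pow h)
      · exact nq (ar_n12 hp hpq h)

/-- piece `vanA2` -/
theorem vanA2 (hz : ZT K Z q (q ^ 2)) (hd : 2 * d ^ 2 = q) {F : Fam G} (tab : Tab d F) (g : G) (p : ℕ)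
    (hp : p.Prime) (hpq : p ∣ q + 1 - 2 * d) (hpg : p ∣ orderOf g) :
    (∀ χ ∈ F.T, (χ : G → ℂ) g = 0) ∧ ∀ χ ∈ F.M, (χ : G → ℂ) g = 0 := by
  subst hd
  have hd1 : 1 ≤ d := by have := tab.hd; omega
  have hq1 : 1 ≤ 2 * d ^ 2 := by nlinarith
  have hle := ar_le d
  have h2 := ar_n2 hpq
  have nq : ¬ p ∣ 2 * d ^ 2 := fun h => ar_q hp h h2
  have ne : ¬ p ∣ 2 * d ^ 2 - 1 := fun h => ar_e hd1 hp h h2
  refine ⟨?_, ?_⟩
  · intro χ hχ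
    refine van hz χ p hp g hpg ((2 * d ^ 2) ^ 2 + 1)
      ((2 * d ^ 2) ^ 2 * (2 * d ^ 2 - 1)) ?_ ?_ ?_
    · rw [tab.dT χ hχ]; push_cast; ring
    · ring
    · intro h
      rcases (hp.dvd_mul).1 h with h | h
      · exact nq (hp.dvd_of_dvd_pow h)
      · exact ne h
  · intro χ hχ
    refine van hz χ p hp g hpg ((2 * d ^ 2 - 1) * (2 * d ^ 2 + 1 - 2 * d))
      ((2 * d ^ 2) ^ 2 * (2 * d ^ 2 + 2 * d + 1)) ?_ ?_ ?_
    · rw [tab.dM χ hχ]; push_cast [Nat.cast_sub hq1, Nat.cast_sub hle]; ring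
    · rw [← ar_prod]; ring
    · intro h
      rcases (hp.dvd_mul).1 h with h | h
      · exact nq (hp.dvd_of_dvd_pow h)
      · exact nq (ar_n12 hp h hpq)

end Chars

end Cfsg.Agent.Lib.Helper84SzCovVan
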