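import Mathlib
import Cfsg.Agent.Lib.Helper61SzCovDefs
import Cfsg.Agent.Lib.Helper61SzDegMain
import Cfsg.Agent.Lib.Helper84SzCovVan
import Cfsg.Agent.Lib.Helper84SzCovConjW

/-!
PROJECT 61, PART E: pieces `colH`, `normLe`, `colA1`, `colA2`.
-/

set_option autoImplicit false
set_option linter.unusedSimpArgs false
set_option linter.unusedSectionVars false

namespace Cfsg.Agent.Lib.Helper84SzCovCol

open Cfsg Cfsg.Agent.Lib.Helper4Char Cfsg.Agent.Lib.Helper4Char2 Cfsg.Agent.Lib.Helper4Char4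
  Cfsg.Agent.Lib.Helper61Feit7 Cfsg.Agent.Lib.Helper61Feit8 Cfsg.Agent.Lib.Helper61ZTDefs
  Cfsg.Agent.Lib.Helper81ClassMul Cfsg.Agent.Lib.Helper81Base Cfsg.Agent.Lib.Helper81BB
  Cfsg.Agent.Lib.Helper61SzCovDefs Cfsg.Agent.Lib.Helper84SzCovVan Cfsg.Agent.Lib.Helper84SzCovConjW
open scoped ComplexConjugate Classical

variable {G : Type*} [Group G] [Fintype G] {K Z : Subgroup G} {q d : ℕ}

theorem exists_prime (g : G) (hg : g ≠ 1) (n : ℕ)
    (hC : Nat.card (Subgroup.centralizer ({g} : Set G)) = n) :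
    ∃ p : ℕ, p.Prime ∧ p ∣ n ∧ p ∣ orderOf g := by
  have ho1 : orderOf g ≠ 1 := fun h => hg (orderOf_eq_one_iff.1 h)
  obtain ⟨p, hp, hpd⟩ := Nat.exists_prime_and_dvd ho1
  refine ⟨p, hp, hpd.trans ?_, hpd⟩
  have hmem : g ∈ Subgroup.centralizer ({g} : Set G) := by
    rw [Subgroup.mem_centralizer_singleton_iff]
  have := orderOf_dvd_natCard (⟨g, hmem⟩ : Subgroup.centralizer ({g} : Set G))
  rw [Subgroup.orderOf_mk, hC] at this
  exact this

/-- piece `colH` -/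
theorem colH (hz : ZT K Z q (q ^ 2)) (hd : 2 * d ^ 2 = q) {F : Fam G} (tab : Tab d F) (g : G)
    (hg : g ≠ 1) (hC : Nat.card (Subgroup.centralizer ({g} : Set G)) = q - 1) : ColH d F g := by
  obtain ⟨p, hp, hpq, hpg⟩ := exists_prime g hg _ hC
  obtain ⟨h1, h2, h3, h4⟩ := vanH hz hd tab g p hp hpq hpg
  refine ⟨h1, h2, h3, h4, ?_⟩
  rw [irr_orth2 g g, if_pos (IsConj.refl g), hC, ← hd]
  have hq1 : 1 ≤ 2 * d ^ 2 := by have := tab.hd; nlinarith
  push_cast [Nat.cast_sub hq1]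
  ring

/-- piece `normLe` -/
theorem normLe (g : G) (n : ℕ) (h : Nat.card (Subgroup.centralizer ({g} : Set G)) ≤ n ^ 2)
    (χ : IrrCharacter G) : ‖(χ : G → ℂ) g‖ ≤ n := by
  have h1 := irr_orth2 g g
  rw [if_pos (IsConj.refl g)] at h1
  have h2 : ∑ χ : IrrCharacter G, Complex.normSq ((χ : G → ℂ) g)
      = (Nat.card (Subgroup.centralizer ({g} : Set G)) : ℝ) := by
    have : ((∑ χ : IrrCharacter G, Complex.normSq ((χ : G → ℂ) g) : ℝ) : ℂ)
        = ((Nat.card (Subgroup.centralizer ({g} : Set G)) : ℝ) : ℂ) := by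
      push_cast
      rw [← h1]
      exact Finset.sum_congr rfl (fun χ _ => (Complex.mul_conj _).symm)
    exact_mod_cast this
  have h3 : Complex.normSq ((χ : G → ℂ) g) ≤ ∑ χ : IrrCharacter G, Complex.normSq ((χ : G → ℂ) g) :=
    Finset.single_le_sum (f := fun χ : IrrCharacter G => Complex.normSq ((χ : G → ℂ) g))
      (fun _ _ => Complex.normSq_nonneg _) (Finset.mem_univ χ)
  rw [h2, Complex.normSq_eq_norm_sq] at h3
  have h4 : (Nat.card (Subgroup.centralizer ({g} : Set G)) : ℝ) ≤ (n : ℝ) ^ 2 := by exact_mod_cast h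
  exact (pow_le_pow_iff_left₀ (norm_nonneg _) (Nat.cast_nonneg n) (by norm_num)).1 (h3.trans h4)

theorem real_of_conj (g : G) (hreal : IsConj g g⁻¹) (χ : IrrCharacter G) :
    conj ((χ : G → ℂ) g) = (χ : G → ℂ) g := by
  obtain ⟨c, hc⟩ := isConj_iff.1 hreal
  rw [← irr_inv, ← hc, irr_conj]

theorem split2 {F : Fam G} (tab : Tab d F) (g h : G) (vT : ∀ χ ∈ F.T, (χ : G → ℂ) g = 0)
    (cP cM : ℂ) (hP : ∀ χ ∈ F.P, (χ : G → ℂ) h = cP) (hM : ∀ χ ∈ F.M, (χ : G → ℂ) h = cM) :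
    ∑ χ : IrrCharacter G, (χ : G → ℂ) g * conj ((χ : G → ℂ) h) =
      1 + (F.St : G → ℂ) g * conj ((F.St : G → ℂ) h) + (F.W₁ : G → ℂ) g * conj ((F.W₁ : G → ℂ) h)
        + (F.W₂ : G → ℂ) g * conj ((F.W₂ : G → ℂ) h)
        + (∑ χ ∈ F.P, (χ : G → ℂ) g) * conj cP + (∑ χ ∈ F.M, (χ : G → ℂ) g) * conj cM := by
  rw [tab.split]
  have e1 : ∑ χ ∈ F.T, (χ : G → ℂ) g * conj ((χ : G → ℂ) h) = 0 :=
    Finset.sum_eq_zero (fun χ hχ => by rw [vT χ hχ, zero_mul])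
  have e2 : ∑ χ ∈ F.P, (χ : G → ℂ) g * conj ((χ : G → ℂ) h) = (∑ χ ∈ F.P, (χ : G → ℂ) g) * conj cP := by
    rw [Finset.sum_mul]
    exact Finset.sum_congr rfl (fun χ hχ => by rw [hP χ hχ])
  have e3 : ∑ χ ∈ F.M, (χ : G → ℂ) g * conj ((χ : G → ℂ) h) = (∑ χ ∈ F.M, (χ : G → ℂ) g) * conj cM := by
    rw [Finset.sum_mul]
    exact Finset.sum_congr rfl (fun χ hχ => by rw [hM χ hχ])
  rw [e1, e2, e3, one₁_apply, map_one, mul_one, add_zero]

theorem conj2 : (starRingEnd ℂ) (2 : ℂ) = 2 := Complex.conj_ofNat 2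

/-- piece `colA1` -/
theorem colA1 (hz : ZT K Z q (q ^ 2)) (hd : 2 * d ^ 2 = q) {F : Fam G} (tab : Tab d F)
    (σ ρ : G) (hσ : ColS d F σ) (hρ : ColR d F ρ) (g : G) (hg : g ≠ 1) (hgσ : ¬ IsConj g σ)
    (hgρ : ¬ IsConj g ρ) (hreal : IsConj g g⁻¹)
    (hC : Nat.card (Subgroup.centralizer ({g} : Set G)) = q + 2 * d + 1) : ColA1 d F g := by
  obtain ⟨p, hp, hpq, hpg⟩ := exists_prime g hg _ hC
  obtain ⟨vT, vP⟩ := vanA1 hz hd tab g p hp hpq hpg
  have hr := real_of_conj g hreal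
  have hW : (F.W₂ : G → ℂ) g = (F.W₁ : G → ℂ) g := by rw [conjW tab ρ hρ g, hr]
  have hd0 : (d : ℂ) ≠ 0 := by
    have := tab.hd
    exact_mod_cast (by omega : d ≠ 0)
  have sP : ∑ χ ∈ F.P, (χ : G → ℂ) g = 0 := Finset.sum_eq_zero vP
  have o1 := irr_orth2 g ρ
  rw [if_neg hgρ, split2 tab g ρ vT _ _ hρ.P hρ.M, hρ.St, hρ.W₂, hW, sP] at o1
  have hS : ∑ χ ∈ F.M, (χ : G → ℂ) g = 1 := by
    simp only [map_neg, map_one, map_zero] at o1
    linear_combination -o1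
  have o2 := irr_orth2 g σ
  rw [if_neg hgσ, split2 tab g σ vT _ _ hσ.P hσ.M, hσ.St, hσ.W₁, hσ.W₂, hW, sP, hS] at o2
  have hw : (F.W₁ : G → ℂ) g = 1 := by
    simp only [map_neg, map_one, map_zero, map_sub, map_mul, map_add, Complex.conj_natCast, conj2] at o2
    have : (2 * (d : ℂ)) * ((F.W₁ : G → ℂ) g - 1) = 0 := by linear_combination -o2
    rcases mul_eq_zero.1 this with h | h
    · exfalso
      rcases mul_eq_zero.1 h with h | h
      · norm_num at h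
      · exact hd0 h
    · linear_combination h
  have hg1 : ¬ IsConj g 1 := fun h => hg (isConj_one_left.1 h)
  have o3 := irr_orth2 g 1
  rw [if_neg hg1, split2 tab g 1 vT _ _ tab.dP tab.dM, tab.dSt, tab.dW₁, tab.dW₂, hW, sP, hS, hw] at o3
  have hs : (F.St : G → ℂ) g = -1 := by
    simp only [map_neg, map_one, map_zero, map_sub, map_mul, map_add, map_pow, Complex.conj_natCast,
      conj2] at o3
    have : ((2 * (d : ℂ) ^ 2) ^ 2) * ((F.St : G → ℂ) g + 1) = 0 := by linear_combination o3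
    rcases mul_eq_zero.1 this with h | h
    · exfalso
      have h' := pow_eq_zero_iff (two_ne_zero) |>.1 h
      rcases mul_eq_zero.1 h' with h | h
      · norm_num at h
      · exact hd0 (pow_eq_zero_iff (two_ne_zero) |>.1 h)
    · linear_combination h
  refine ⟨hs, hw, hW.trans hw, vT, vP, fun χ _ => hr χ, hS, ?_⟩
  have o4 := irr_orth2 g g
  rw [if_pos (IsConj.refl g), tab.split, hC, ← hd] at o4
  have e1 : ∑ χ ∈ F.T, (χ : G → ℂ) g * conj ((χ : G → ℂ) g) = 0 :=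
    Finset.sum_eq_zero (fun χ hχ => by rw [vT χ hχ, zero_mul])
  have e2 : ∑ χ ∈ F.P, (χ : G → ℂ) g * conj ((χ : G → ℂ) g) = 0 :=
    Finset.sum_eq_zero (fun χ hχ => by rw [vP χ hχ, zero_mul])
  have e3 : ∑ χ ∈ F.M, (χ : G → ℂ) g * conj ((χ : G → ℂ) g) = ∑ χ ∈ F.M, ((χ : G → ℂ) g) ^ 2 :=
    Finset.sum_congr rfl (fun χ _ => by rw [hr χ, sq])
  rw [e1, e2, e3, hW, hw, hs, one₁_apply] at o4
  simp only [map_neg, map_one] at o4
  push_cast at o4
  linear_combination o4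

/-- piece `colA2` -/
theorem colA2 (hz : ZT K Z q (q ^ 2)) (hd : 2 * d ^ 2 = q) {F : Fam G} (tab : Tab d F)
    (σ ρ : G) (hσ : ColS d F σ) (hρ : ColR d F ρ) (g : G) (hg : g ≠ 1) (hgσ : ¬ IsConj g σ)
    (hgρ : ¬ IsConj g ρ) (hreal : IsConj g g⁻¹)
    (hC : Nat.card (Subgroup.centralizer ({g} : Set G)) = q + 1 - 2 * d) : ColA2 d F g := by
  obtain ⟨p, hp, hpq, hpg⟩ := exists_prime g hg _ hC
  obtain ⟨vT, vM⟩ := vanA2 hz hd tab g p hp hpq hpg
  have hr := real_of_conj g hreal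
  have hW : (F.W₂ : G → ℂ) g = (F.W₁ : G → ℂ) g := by rw [conjW tab ρ hρ g, hr]
  have hd0 : (d : ℂ) ≠ 0 := by
    have := tab.hd
    exact_mod_cast (by omega : d ≠ 0)
  have sM : ∑ χ ∈ F.M, (χ : G → ℂ) g = 0 := Finset.sum_eq_zero vM
  have o1 := irr_orth2 g ρ
  rw [if_neg hgρ, split2 tab g ρ vT _ _ hρ.P hρ.M, hρ.St, hρ.W₂, hW, sM] at o1
  have hS : ∑ χ ∈ F.P, (χ : G → ℂ) g = 1 := by
    simp only [map_neg, map_one, map_zero] at o1
    linear_combination -o1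
  have o2 := irr_orth2 g σ
  rw [if_neg hgσ, split2 tab g σ vT _ _ hσ.P hσ.M, hσ.St, hσ.W₁, hσ.W₂, hW, sM, hS] at o2
  have hw : (F.W₁ : G → ℂ) g = -1 := by
    simp only [map_neg, map_one, map_zero, map_sub, map_mul, map_add, Complex.conj_natCast, conj2] at o2
    have : (2 * (d : ℂ)) * ((F.W₁ : G → ℂ) g + 1) = 0 := by linear_combination -o2
    rcases mul_eq_zero.1 this with h | h
    · exfalso
      rcases mul_eq_zero.1 h with h | h
      · norm_num at h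
      · exact hd0 h
    · linear_combination h
  have hg1 : ¬ IsConj g 1 := fun h => hg (isConj_one_left.1 h)
  have o3 := irr_orth2 g 1
  rw [if_neg hg1, split2 tab g 1 vT _ _ tab.dP tab.dM, tab.dSt, tab.dW₁, tab.dW₂, hW, sM, hS, hw] at o3
  have hs : (F.St : G → ℂ) g = -1 := by
    simp only [map_neg, map_one, map_zero, map_sub, map_mul, map_add, map_pow, Complex.conj_natCast,
      conj2] at o3
    have : ((2 * (d : ℂ) ^ 2) ^ 2) * ((F.St : G → ℂ) g + 1) = 0 := by linear_combination o3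
    rcases mul_eq_zero.1 this with h | h
    · exfalso
      have h' := pow_eq_zero_iff (two_ne_zero) |>.1 h
      rcases mul_eq_zero.1 h' with h | h
      · norm_num at h
      · exact hd0 (pow_eq_zero_iff (two_ne_zero) |>.1 h)
    · linear_combination h
  refine ⟨hs, hw, hW.trans hw, vT, vM, fun χ _ => hr χ, hS, ?_⟩
  have o4 := irr_orth2 g g
  rw [if_pos (IsConj.refl g), tab.split, hC, ← hd] at o4
  have e1 : ∑ χ ∈ F.T, (χ : G → ℂ) g * conj ((χ : G → ℂ) g) = 0 :=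
    Finset.sum_eq_zero (fun χ hχ => by rw [vT χ hχ, zero_mul])
  have e2 : ∑ χ ∈ F.M, (χ : G → ℂ) g * conj ((χ : G → ℂ) g) = 0 :=
    Finset.sum_eq_zero (fun χ hχ => by rw [vM χ hχ, zero_mul])
  have e3 : ∑ χ ∈ F.P, (χ : G → ℂ) g * conj ((χ : G → ℂ) g) = ∑ χ ∈ F.P, ((χ : G → ℂ) g) ^ 2 :=
    Finset.sum_congr rfl (fun χ _ => by rw [hr χ, sq])
  rw [e1, e2, e3, hW, hw, hs, one₁_apply] at o4
  simp only [map_neg, map_one] at o4
  push_cast [Nat.cast_sub (ar_le d)] at o4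
  linear_combination o4

end Cfsg.Agent.Lib.Helper84SzCovCol
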