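import Mathlib
import Cfsg.Agent.Lib.Helper61SzCent
import Cfsg.Agent.S2241

/-!
PROJECT 61 part E (row S2457): pieces `szNr`, `szReal`, `szOdd`.
-/

set_option autoImplicit false
set_option linter.unusedVariables false
set_option linter.unusedSectionVars false

namespace Cfsg.Agent.Lib.Helper8SzCovInst

open Cfsg Cfsg.Agent.Lib.Helper8Sz Cfsg.Agent.Lib.Helper8Sz2 Cfsg.Agent.Lib.Helper8Sz3
  Cfsg.Agent.Lib.Helper8Sz4 Cfsg.Agent.Lib.Helper8Sz5 Cfsg.Agent.Lib.Helper8Sz6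
  Cfsg.Agent.Lib.Helper8Sz7 Cfsg.Agent.Lib.Helper61SzTori Cfsg.Agent.Lib.Helper61Zass
  Cfsg.Agent.Lib.Helper61Zass2 Cfsg.Agent.Lib.Helper61SzCent Cfsg.Agent.Lib.Helper61SzTori2

section abstract

variable {G : Type*} [Group G] [Finite G] {O : Type*} [Finite O] [MulAction G O] {q : ℕ}

/-- the elements of an exceptional torus are inverted by an element of the group -/
theorem tor_inverted (D : ZData G O q) {x : G} (hx : Good q x) :
    ∃ t : G, ∀ u ∈ tor x, t * u * t⁻¹ = u⁻¹ := by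
  obtain ⟨n, hn⟩ := exists_conj_pow D hx
  have hx' := hx
  obtain ⟨p, hp, hpq, hxp⟩ := hx
  have hp5 := prime_ge D hp hpq
  have hx1 : x ≠ 1 := good_ne_one hx'
  have h2 := conj_pow_pow hn 2
  have h4 := conj_pow_pow hn 4
  rw [pow_q4 D hx'] at h4
  have hq1 : x ^ (q ^ 2 + 1) = 1 := orderOf_dvd_iff_pow_eq_one.1 (hxp ▸ hpq)
  have hinv : x ^ (q ^ 2) = x⁻¹ := by
    rw [pow_succ] at hq1
    exact eq_inv_of_mul_eq_one_left hq1
  rw [hinv] at h2
  obtain ⟨t, ht⟩ : ∃ t, t = n ^ 2 := ⟨_, rfl⟩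
  rw [← ht] at h2
  have ht2 : t * t = n ^ 4 := by rw [ht, ← pow_add]
  have hxx : x ∈ tor x := mem_cent.2 (Commute.refl x)
  have htN : t ∈ Subgroup.normalizer ((tor x : Subgroup G) : Set G) := by
    apply ti D hx' x hxx hx1 t
    rw [h2]
    exact Subgroup.inv_mem _ hxx
  have ht2c : Commute (t * t) x := by
    rw [ht2]
    show n ^ 4 * x = x * n ^ 4
    calc n ^ 4 * x = (n ^ 4 * x * (n ^ 4)⁻¹) * n ^ 4 := by group
      _ = x * n ^ 4 := by rw [h4]
  have hnc : ¬ Commute t x := by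
    intro hc
    have h5 : t * x * t⁻¹ = x := by
      have : t * x = x * t := hc
      rw [this]; group
    rw [h5] at h2
    have h6 : x ^ 2 = 1 := by
      rw [pow_two]
      nth_rewrite 1 [h2]
      group
    have := orderOf_dvd_of_pow_eq_one h6
    rw [hxp] at this
    have := Nat.le_of_dvd (by norm_num) this
    omega
  refine ⟨t, fun u hu => ?_⟩
  have huc : Commute u x := mem_cent.1 hu
  have hv : t * u * t⁻¹ ∈ tor x := (Subgroup.mem_normalizer_iff.1 htN u).1 hu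
  have hvc : Commute (t * u * t⁻¹) x := mem_cent.1 hv
  have hab : ∀ a b : G, Commute a x → Commute b x → Commute a b :=
    fun a b ha hb => D.cent_comm x p hp hpq hxp a b ha hb
  have huv : u * (t * u * t⁻¹) = (t * u * t⁻¹) * u := hab _ _ huc hvc
  have hut : (t * t) * u = u * (t * t) := hab _ _ ht2c huc
  by_contra hne
  have hw1 : u * (t * u * t⁻¹) ≠ 1 := by
    intro h
    apply hne
    exact (inv_eq_of_mul_eq_one_right h).symm
  have hwc : Commute (u * (t * u * t⁻¹)) x := huc.mul_left hvc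
  have htw : Commute t (u * (t * u * t⁻¹)) := by
    show t * (u * (t * u * t⁻¹)) = (u * (t * u * t⁻¹)) * t
    calc t * (u * (t * u * t⁻¹)) = (t * u * t⁻¹) * ((t * t) * u) * t⁻¹ := by group
      _ = (t * u * t⁻¹) * (u * (t * t)) * t⁻¹ := by rw [hut]
      _ = ((t * u * t⁻¹) * u) * t := by group
      _ = (u * (t * u * t⁻¹)) * t := by rw [huv]
  exact hnc ((commute_iff D hx' hw1 hwc t).1 htw)

/-- fixed point free elements are real -/
theorem fpf_real (D : ZData G O q) {g : G} (hf : Fpf O g) : IsConj g g⁻¹ := by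
  obtain ⟨x, hx, ⟨k, y, hy, hy1, e⟩, _⟩ := exists_second D hf
  have hx' : Good q (k * x * k⁻¹) := good_conj hx k
  have hmem : g ∈ tor (k * x * k⁻¹) := by
    rw [e, mem_cent, conj_commute]
    exact mem_cent.1 hy
  obtain ⟨t, ht⟩ := tor_inverted D hx'
  exact isConj_iff.2 ⟨t, ht g hmem⟩

theorem card_cent_conj (k y : G) :
    Nat.card (Subgroup.centralizer ({k * y * k⁻¹} : Set G))
      = Nat.card (Subgroup.centralizer ({y} : Set G)) := by
  apply Nat.card_congr
  refine ⟨fun c => ⟨k⁻¹ * c * k, ?_⟩, fun c => ⟨k * c * k⁻¹, ?_⟩, ?_, ?_⟩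
  · have h := mem_cent.1 c.2
    rw [mem_cent]
    have h2 : Commute (k * (k⁻¹ * c * k) * k⁻¹) (k * y * k⁻¹) := by
      have : k * (k⁻¹ * (c : G) * k) * k⁻¹ = c := by group
      rw [this]; exact h
    exact conj_commute.1 h2
  · rw [mem_cent]
    exact conj_commute.2 (mem_cent.1 c.2)
  · intro c
    apply Subtype.ext
    show k * (k⁻¹ * (c : G) * k) * k⁻¹ = c
    group
  · intro c
    apply Subtype.ext
    show k⁻¹ * (k * (c : G) * k⁻¹) * k = c
    group

end abstract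

section Inst

variable {F : Type*} [Field F] [Fintype F] {m : ℕ} (hF : Fintype.card F = 2 ^ (2 * m + 1))
include hF

/-- piece `szNr` (uses S2241) -/
theorem szNr (hm : 1 ≤ m) (u : Sz F m) (hu : u ∈ Q hF hm) (hu2 : u * u ≠ 1) : ¬ IsConj u u⁻¹ := by
  intro hc
  obtain ⟨P, hP⟩ := (isPGroup_Q hF hm).exists_le_sylow
  have h1 : u ≠ 1 := by
    rintro rfl
    exact hu2 (one_mul 1)
  have h2 := (Cfsg.Agent.S2241.result hm hF P u (hP hu) h1).1 hc
  apply hu2
  rw [← pow_two, ← h2]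
  exact pow_orderOf_eq_one u

/-- piece `szReal` -/
theorem szReal (hm : 1 ≤ m) (g : Sz F m) (hf : Fpf (suzukiOvoid F m) g) : IsConj g g⁻¹ :=
  fpf_real (szData hF hm) hf

/-- piece `szOdd` -/
theorem szOdd (hm : 1 ≤ m) (g : Sz F m) (hg : g ≠ 1) (hodd : Odd (orderOf g)) :
    Nat.card (Subgroup.centralizer ({g} : Set (Sz F m))) = 2 ^ (2 * m + 1) - 1 ∨
    (IsConj g g⁻¹ ∧
      Nat.card (Subgroup.centralizer ({g} : Set (Sz F m))) = 2 ^ (2 * m + 1) + 2 * 2 ^ m + 1) ∨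
    (IsConj g g⁻¹ ∧
      Nat.card (Subgroup.centralizer ({g} : Set (Sz F m))) = 2 ^ (2 * m + 1) + 1 - 2 * 2 ^ m) := by
  have hodd' : ¬ 2 ∣ orderOf g := by
    intro h
    exact (Nat.not_even_iff_odd.2 hodd) (even_iff_two_dvd.2 h)
  by_cases hf : Fpf (suzukiOvoid F m) g
  · right
    have hr := szReal hF hm g hf
    obtain ⟨x₁, x₂, h1, h2, c1, c2, hall⟩ := sz_two_tori hF hm
    have hle := r_le hF
    have e2 : 2 ^ (m + 1) = 2 * 2 ^ m := by rw [pow_succ]; ring
    rcases hall g hf with ⟨k, y, hy, hy1, e⟩ | ⟨k, y, hy, hy1, e⟩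
    · left
      refine ⟨hr, ?_⟩
      rw [e, card_cent_conj, tor_cent hF hm h1 y hy hy1, c1, e2]
    · right
      refine ⟨hr, ?_⟩
      rw [e, card_cent_conj, tor_cent hF hm h2 y hy hy1, c2]
      omega
  · left
    exact ((sz_card_normalizer hF hm hg hodd').2 hf).1

end Inst

end Cfsg.Agent.Lib.Helper8SzCovInst
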