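import Mathlib
import Cfsg.Agent.Lib.Helper61SzCovDefs
import Cfsg.Agent.Lib.Helper61SzCovTab
import Cfsg.Agent.Lib.Helper61SzCovWnorm
import Cfsg.Agent.Lib.Helper2SzCovColR
import Cfsg.Agent.Lib.Helper2SzCovCaseAA
import Cfsg.Agent.Lib.Helper70SzCovCases
import Cfsg.Agent.Lib.Helper70SzCovSmall
import Cfsg.Agent.Lib.Helper84SzCovCol
import Cfsg.Agent.Lib.Helper8SzCovInst
import Cfsg.Agent.Lib.Helper61SzDegMain

/-!
PROJECT 61, PART E : squares of classes in the Suzuki groups (assembly; row S2457).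
-/

set_option autoImplicit false

namespace Cfsg.Agent.Lib.Helper61SzCovMain

open Cfsg Cfsg.Agent.Lib.Helper61ZTDefs
  Cfsg.Agent.Lib.Helper81ClassMul Cfsg.Agent.Lib.Helper81Base Cfsg.Agent.Lib.Helper81BB
  Cfsg.Agent.Lib.Helper61SzCovDefs
open scoped ComplexConjugate Classical

/-! ## D. assembly (abstract) -/

/-- piece `cover` (assembly, helper61) -/
theorem cover {G : Type*} [Group G] [Fintype G] {K Z : Subgroup G} {q d : ℕ} (hz : ZT K Z q (q ^ 2))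
    (hcent : ∀ u ∈ K, u ∉ Z → Nat.card (Subgroup.centralizer ({u} : Set G)) = 2 * q)
    (hnr : ∀ u ∈ K, u ∉ Z → ¬ IsConj u u⁻¹) (hd : 2 * d ^ 2 = q)
    (hodd : ∀ g : G, g ≠ 1 → Odd (orderOf g) →
      Nat.card (Subgroup.centralizer ({g} : Set G)) = q - 1 ∨
      (IsConj g g⁻¹ ∧ Nat.card (Subgroup.centralizer ({g} : Set G)) = q + 2 * d + 1) ∨
      (IsConj g g⁻¹ ∧ Nat.card (Subgroup.centralizer ({g} : Set G)) = q + 1 - 2 * d))
    (x g : G) (hx : 2 < orderOf x) (hg : g ≠ 1) : theta x x g ≠ 0 := by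
  have : Fintype ↥(Subgroup.normalizer (K : Set G)) := Fintype.ofFinite _
  obtain ⟨F, tab, hS, avg⟩ := Cfsg.Agent.Lib.Helper61SzCovTab.tabMk hz hcent hd
  have hR := fun ρ hρ hρZ => Cfsg.Agent.Lib.Helper2SzCovColR.colR hz hcent hnr hd tab hS avg ρ hρ hρZ
    (fun W h1 h2 h3 ρ' h4 h5 => Cfsg.Agent.Lib.Helper61SzCovWnorm.Wnorm hz hcent hnr hd W h1 h2 h3 ρ' h4 h5)
    (fun x hx hxK => Cfsg.Agent.Lib.Helper84SzCovVan.offK hz x hx hxK)
    (fun g p hp hpq hpg => Cfsg.Agent.Lib.Helper84SzCovVan.vanH hz hd tab g p hp hpq hpg)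
  have hd2 := tab.hd
  have hq4 := hz.hq
  obtain ⟨σ, hσZ, hσ1⟩ : ∃ σ ∈ Z, σ ≠ 1 := by
    have h1 : 1 < Nat.card Z := by rw [hz.cardZ]; omega
    have : Nontrivial Z := (Finite.one_lt_card_iff_nontrivial).1 h1
    obtain ⟨σ, hσ⟩ := exists_ne (1 : Z)
    exact ⟨σ, σ.2, fun h => hσ (Subtype.ext h)⟩
  have hσK : σ ∈ K := ((hz.hZ σ).1 hσZ).1
  obtain ⟨ρ, hρK, hρZ⟩ : ∃ ρ ∈ K, ρ ∉ Z := by
    by_contra hcon
    push Not at hcon
    have h1 : Nat.card K ≤ Nat.card Z := Nat.card_le_card_of_injective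
      (fun u : K => (⟨u, hcon u u.2⟩ : Z)) (fun a b h => Subtype.ext (congrArg (fun z : Z => (z : G)) h))
    rw [hz.cardZ, hz.hK] at h1
    nlinarith
  have hρ1 : ρ ≠ 1 := fun h => hρZ (h ▸ Z.one_mem)
  have nc : ∀ y : G, Odd (orderOf y) → ∀ u ∈ K, u ≠ 1 → ¬ IsConj y u := by
    intro y hy u hu hu1 hc
    obtain ⟨c, hc⟩ := isConj_iff.1 hc
    have h1 : orderOf u = orderOf y := by
      rw [← hc]
      exact orderOf_injective (MulAut.conj c).toMonoidHom (MulAut.conj c).injective y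
    obtain ⟨k, hk⟩ := hz.two ⟨u, hu⟩
    have h2 : u ^ 2 ^ k = 1 := by simpa using congrArg Subtype.val hk
    obtain ⟨j, -, hj⟩ := (Nat.dvd_prime_pow Nat.prime_two).1 (orderOf_dvd_of_pow_eq_one h2)
    cases j with
    | zero => exact hu1 (orderOf_eq_one_iff.1 (by simpa using hj))
    | succ j =>
      rw [← h1, hj] at hy
      exact (Nat.not_even_iff_odd.2 hy) ⟨2 ^ j, by ring⟩
  have typ : ∀ y : G, y ≠ 1 → (y * y = 1 ∧ ColS d F y) ∨ ColR d F y ∨ ColH d F y ∨ ColA1 d F y ∨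
      ColA2 d F y := by
    intro y hy
    rcases hz.part y with ⟨c, hc⟩ | ho
    · have hu1 : c * y * c⁻¹ ≠ 1 := by
        intro h
        apply hy
        have : y = c⁻¹ * (c * y * c⁻¹) * c := by group
        rw [this, h]; group
      by_cases hu : c * y * c⁻¹ ∈ Z
      · left
        refine ⟨?_, ColS.conj c (hS _ hu hu1)⟩
        have h2 := ((hz.hZ _).1 hu).2
        have : y * y = c⁻¹ * (c * y * c⁻¹ * (c * y * c⁻¹)) * c := by group
        rw [this, h2]; group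
      · right; left
        exact ColR.conj c (hR _ hc hu)
    · rcases hodd y hy ho with h | ⟨hr, h⟩ | ⟨hr, h⟩
      · right; right; left
        exact Cfsg.Agent.Lib.Helper84SzCovCol.colH hz hd tab y hy h
      · right; right; right; left
        exact Cfsg.Agent.Lib.Helper84SzCovCol.colA1 hz hd tab σ ρ (hS σ hσZ hσ1) (hR ρ hρK hρZ) y hy (nc y ho σ hσK hσ1)
          (nc y ho ρ hρK hρ1) hr h
      · right; right; right; right
        exact Cfsg.Agent.Lib.Helper84SzCovCol.colA2 hz hd tab σ ρ (hS σ hσZ hσ1) (hR ρ hρK hρZ) y hy (nc y ho σ hσK hσ1)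
          (nc y ho ρ hρK hρ1) hr h
  have bd : ∀ y : G, y ≠ 1 → ∀ χ : IrrCharacter G, ‖(χ : G → ℂ) y‖ ≤ (2 * d ^ 2 : ℕ) := by
    intro y hy χ
    rcases hz.part y with ⟨c, hc⟩ | ho
    · have hu1 : c * y * c⁻¹ ≠ 1 := by
        intro h
        apply hy
        have : y = c⁻¹ * (c * y * c⁻¹) * c := by group
        rw [this, h]; group
      rw [← irr_conj χ y c]
      apply Cfsg.Agent.Lib.Helper84SzCovCol.normLe
      rw [hd]
      by_cases hu : c * y * c⁻¹ ∈ Z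
      · rw [Cfsg.Agent.Lib.Helper70SzDegSf3.card_cent_Z hz _ hu hu1]
      · rw [hcent _ hc hu]
        nlinarith
    · apply Cfsg.Agent.Lib.Helper84SzCovCol.normLe
      rw [hd]
      have h5 : 2 * d + 1 ≤ q := by nlinarith
      rcases hodd y hy ho with h | ⟨-, h⟩ | ⟨-, h⟩ <;> rw [h]
      · have : q ≤ q ^ 2 := by nlinarith
        omega
      · nlinarith
      · have : q + 1 ≤ q ^ 2 := by nlinarith
        omega
  have hx1 : x ≠ 1 := by
    rintro rfl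
    simp at hx
  have hb := bd g hg
  rcases typ x hx1 with ⟨h2, -⟩ | hX | hX | hX | hX
  · exfalso
    have h3 : x ^ 2 = 1 := by rw [sq]; exact h2
    have := orderOf_le_of_pow_eq_one (n := 2) (by norm_num) h3
    omega
  · rcases typ g hg with ⟨-, hG⟩ | hG | hG | hG | hG
    · exact Cfsg.Agent.Lib.Helper70SzCovCases.caseRS tab hX hG
    · exact Cfsg.Agent.Lib.Helper70SzCovCases.caseRR tab hX hG
    · exact Cfsg.Agent.Lib.Helper70SzCovSmall.caseRH tab hX hG hb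
    · exact Cfsg.Agent.Lib.Helper70SzCovCases.caseRA1 tab hX hG
    · exact Cfsg.Agent.Lib.Helper70SzCovCases.caseRA2 tab hX hG
  · exact Cfsg.Agent.Lib.Helper70SzCovSmall.caseH tab hX hb
  · rcases typ g hg with ⟨-, hG⟩ | hG | hG | hG | hG
    · exact Cfsg.Agent.Lib.Helper70SzCovCases.caseA1S tab hX hG
    · exact Cfsg.Agent.Lib.Helper70SzCovCases.caseA1R tab hX hG
    · exact Cfsg.Agent.Lib.Helper70SzCovSmall.caseA1H tab hX hG hb
    · exact Cfsg.Agent.Lib.Helper2SzCovCaseAA.caseA1A1 tab hX hG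
    · exact Cfsg.Agent.Lib.Helper70SzCovCases.caseA1A2 tab hX hG
  · rcases typ g hg with ⟨-, hG⟩ | hG | hG | hG | hG
    · exact Cfsg.Agent.Lib.Helper70SzCovCases.caseA2S tab hX hG
    · exact Cfsg.Agent.Lib.Helper70SzCovCases.caseA2R tab hX hG
    · exact Cfsg.Agent.Lib.Helper70SzCovSmall.caseA2H tab hX hG hb
    · exact Cfsg.Agent.Lib.Helper70SzCovCases.caseA2A1 tab hX hG
    · exact Cfsg.Agent.Lib.Helper2SzCovCaseAA.caseA2A2 tab hX hG

/-! ## E. the Suzuki groups -/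

section Inst

open Cfsg.Agent.Lib.Helper8Sz Cfsg.Agent.Lib.Helper8Sz2 Cfsg.Agent.Lib.Helper8Sz3
  Cfsg.Agent.Lib.Helper8Sz4 Cfsg.Agent.Lib.Helper8Sz5 Cfsg.Agent.Lib.Helper8Sz6
  Cfsg.Agent.Lib.Helper8Sz7 Cfsg.Agent.Lib.Helper61SzTori Cfsg.Agent.Lib.Helper61Zass
  Cfsg.Agent.Lib.Helper61SzCent Cfsg.Agent.Lib.Helper61SzTori2

variable {F : Type*} [Field F] [Fintype F] {m : ℕ} (hF : Fintype.card F = 2 ^ (2 * m + 1))
include hF

/-- piece `szCover` (assembly, helper61) -/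
theorem szCover (hm : 1 ≤ m) (x g : Sz F m) (hx : 2 < orderOf x) (hg : g ≠ 1) :
    ∃ u v : Sz F m, g = (u * x * u⁻¹) * (v * x * v⁻¹) := by
  have : Fintype (Sz F m) := Fintype.ofFinite _
  obtain ⟨Z, hz⟩ := Cfsg.Agent.Lib.Helper73SzDegInstSz.instSz hF hm
  have h0 := cover (d := 2 ^ m) hz
    (fun u hu huZ => Cfsg.Agent.Lib.Helper86SzDegCentQ.centQ hF hm u hu
      (fun h1 => huZ ((hz.hZ u).2 ⟨hu, h1⟩)))
    (fun u hu huZ => Cfsg.Agent.Lib.Helper8SzCovInst.szNr hF hm u hu (fun h1 => huZ ((hz.hZ u).2 ⟨hu, h1⟩)))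
    (by ring) (fun g hg ho => Cfsg.Agent.Lib.Helper8SzCovInst.szOdd hF hm g hg ho) x g hx hg
  by_contra hcon
  push Not at hcon
  apply h0
  apply theta_eq_zero
  intro s t hc
  obtain ⟨c, hc⟩ := isConj_iff.1 hc
  apply hcon (c * s) (c * t)
  rw [← hc]
  group

end Inst

/-- row S2457 -/
theorem row {F : Type*} [Field F] [Fintype F] (m : ℕ) (hm : 1 ≤ m) (hF : Fintype.card F = 2 ^ (2 * m + 1))
    (x : Cfsg.Lie.Sz F (2 ^ (m + 1))) (hx2 : 2 < orderOf x) :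
    ∀ g : Cfsg.Lie.Sz F (2 ^ (m + 1)), g ≠ 1 →
      ∃ u v : Cfsg.Lie.Sz F (2 ^ (m + 1)), g = (u * x * u⁻¹) * (v * x * v⁻¹) := by
  intro g hg
  let e := Cfsg.Agent.Lib.Helper8SzIso.szIso hF hm
  obtain ⟨u, v, h⟩ := szCover hF hm (e.symm x) (e.symm g)
    (by rw [MulEquiv.orderOf_eq e.symm x]; exact hx2)
    (fun h => hg (by simpa using h))
  refine ⟨e u, e v, ?_⟩
  have := congrArg e h
  simpa using this

end Cfsg.Agent.Lib.Helper61SzCovMain
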