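import Mathlib

set_option autoImplicit false
set_option linter.unusedVariables false
set_option linter.unusedSectionVars false
set_option linter.unusedSimpArgs false

namespace Cfsg.Agent.Lib.Helper61Zass

section general

variable {G : Type*} [Group G] [Finite G]

/-- the set of non-identity elements conjugate into `A` -/
def conjSet (A : Subgroup G) : Set G := {z | ∃ g : G, ∃ y ∈ A, y ≠ 1 ∧ z = g * y * g⁻¹}

theorem card_ne_one (A : Subgroup G) : Nat.card {y : A // y ≠ 1} = Nat.card A - 1 := by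
  classical
  have : Fintype A := Fintype.ofFinite A
  rw [Nat.card_eq_fintype_card, Nat.card_eq_fintype_card]
  rw [Fintype.card_subtype_compl (fun y : A => y = 1), Fintype.card_subtype_eq]

theorem card_conjSet (A : Subgroup G)
    (hTI : ∀ y ∈ A, y ≠ 1 → ∀ g : G, g * y * g⁻¹ ∈ A → g ∈ Subgroup.normalizer (A : Set G)) :
    Nat.card (conjSet A) * Nat.card (Subgroup.normalizer (A : Set G))
      = Nat.card G * (Nat.card A - 1) := by
  classical
  have hch : ∀ z : conjSet A, ∃ g : G, ∃ y ∈ A, y ≠ 1 ∧ (z : G) = g * y * g⁻¹ := fun z => z.2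
  choose gz yz hyA hy1 hz using hch
  let mk : G → {y : A // y ≠ 1} → conjSet A := fun g y =>
    ⟨g * (y.1 : G) * g⁻¹, g, y.1, y.1.2, fun h => y.2 (Subtype.ext h), rfl⟩
  have hN : ∀ (g : G) (y : {y : A // y ≠ 1}),
      (gz (mk g y))⁻¹ * g ∈ Subgroup.normalizer (A : Set G) := by
    intro g y
    apply hTI y.1 y.1.2 (fun h => y.2 (Subtype.ext h))
    have h1 : g * (y.1 : G) * g⁻¹ = gz (mk g y) * yz (mk g y) * (gz (mk g y))⁻¹ := hz (mk g y)
    have h2 : (gz (mk g y))⁻¹ * g * (y.1 : G) * ((gz (mk g y))⁻¹ * g)⁻¹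
        = (gz (mk g y))⁻¹ * (g * (y.1 : G) * g⁻¹) * gz (mk g y) := by group
    rw [h2, h1]
    have h3 : (gz (mk g y))⁻¹ * (gz (mk g y) * yz (mk g y) * (gz (mk g y))⁻¹) * gz (mk g y)
        = yz (mk g y) := by group
    rw [h3]
    exact hyA _
  have hmem : ∀ (z : conjSet A) (n : Subgroup.normalizer (A : Set G)),
      (n : G)⁻¹ * yz z * n ∈ A := by
    intro z n
    have h1 := (Subgroup.mem_normalizer_iff.1 (Subgroup.inv_mem _ n.2) (yz z)).1 (hyA z)
    rwa [inv_inv] at h1
  have hne : ∀ (z : conjSet A) (n : Subgroup.normalizer (A : Set G)),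
      (⟨(n : G)⁻¹ * yz z * n, hmem z n⟩ : A) ≠ 1 := by
    intro z n h
    apply hy1 z
    have h1 : (n : G)⁻¹ * yz z * n = 1 := congrArg Subtype.val h
    have h2 : yz z = n * ((n : G)⁻¹ * yz z * n) * (n : G)⁻¹ := by group
    rw [h2, h1]; group
  let e : (conjSet A × Subgroup.normalizer (A : Set G)) ≃ (G × {y : A // y ≠ 1}) :=
    { toFun := fun p => (gz p.1 * p.2, ⟨⟨(p.2 : G)⁻¹ * yz p.1 * p.2, hmem p.1 p.2⟩, hne p.1 p.2⟩)
      invFun := fun r => (mk r.1 r.2, ⟨(gz (mk r.1 r.2))⁻¹ * r.1, hN r.1 r.2⟩)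
      left_inv := by
        rintro ⟨z, n⟩
        have h1 : mk (gz z * n) ⟨⟨(n : G)⁻¹ * yz z * n, hmem z n⟩, hne z n⟩ = z := by
          apply Subtype.ext
          show gz z * n * ((n : G)⁻¹ * yz z * n) * (gz z * n)⁻¹ = z
          rw [hz z]; group
        apply Prod.ext
        · exact h1
        · apply Subtype.ext
          show (gz (mk (gz z * n) ⟨⟨(n : G)⁻¹ * yz z * n, hmem z n⟩, hne z n⟩))⁻¹ * (gz z * n) = n
          rw [h1]; group
      right_inv := by
        rintro ⟨g, y⟩
        apply Prod.ext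
        · show gz (mk g y) * ((gz (mk g y))⁻¹ * g) = g
          group
        · apply Subtype.ext
          apply Subtype.ext
          show ((gz (mk g y))⁻¹ * g)⁻¹ * yz (mk g y) * ((gz (mk g y))⁻¹ * g) = y.1
          have h1 : g * (y.1 : G) * g⁻¹ = gz (mk g y) * yz (mk g y) * (gz (mk g y))⁻¹ := hz (mk g y)
          have h2 : ((gz (mk g y))⁻¹ * g)⁻¹ * yz (mk g y) * ((gz (mk g y))⁻¹ * g)
              = g⁻¹ * (gz (mk g y) * yz (mk g y) * (gz (mk g y))⁻¹) * g := by group
          rw [h2, ← h1]; group }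
  have h := Nat.card_congr e
  rw [Nat.card_prod, Nat.card_prod, card_ne_one] at h
  exact h

theorem card_le_of_conj_mem (x : G) (S : Finset G) (N : Subgroup G)
    (hS : ∀ g ∈ N, g * x * g⁻¹ ∈ S) :
    Nat.card N ≤ Nat.card (Subgroup.centralizer ({x} : Set G)) * S.card := by
  classical
  have : Fintype G := Fintype.ofFinite G
  let NF : Finset G := Finset.univ.filter (· ∈ N)
  let CF : Finset G := Finset.univ.filter (· ∈ Subgroup.centralizer ({x} : Set G))
  have hNF : Nat.card N = NF.card := by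
    rw [Nat.card_eq_fintype_card, Fintype.card_subtype]
  have hCF : Nat.card (Subgroup.centralizer ({x} : Set G)) = CF.card := by
    rw [Nat.card_eq_fintype_card, Fintype.card_subtype]
  rw [hNF, hCF]
  have h1 := Finset.card_le_mul_card_image (f := fun g => g * x * g⁻¹) NF CF.card (by
    intro s hs
    obtain ⟨g₀, hg₀, rfl⟩ := Finset.mem_image.1 hs
    apply Finset.card_le_card_of_injOn (fun g => g₀⁻¹ * g)
    · intro g hg
      have hg' := (Finset.mem_filter.1 (Finset.mem_coe.1 hg)).2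
      apply Finset.mem_coe.2
      apply Finset.mem_filter.2
      refine ⟨Finset.mem_univ _, ?_⟩
      rw [Subgroup.mem_centralizer_iff]
      intro y hy
      rw [Set.mem_singleton_iff.1 hy]
      have h2 : x = g⁻¹ * (g₀ * x * g₀⁻¹) * g := by rw [← hg']; group
      calc x * (g₀⁻¹ * g) = g₀⁻¹ * (g₀ * x * g₀⁻¹) * g := by group
        _ = g₀⁻¹ * (g * x * g⁻¹) * g := by rw [hg']
        _ = g₀⁻¹ * g * x := by group
    · intro a _ b _ hab
      exact mul_left_cancel hab)
  refine h1.trans (Nat.mul_le_mul_left _ (Finset.card_le_card ?_))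
  intro s hs
  obtain ⟨g₀, hg₀, rfl⟩ := Finset.mem_image.1 hs
  exact hS g₀ (Finset.mem_filter.1 hg₀).2

end general

section zass

/-- abstract data of a Zassenhaus group of Suzuki type -/
structure ZData (G : Type*) [Group G] (O : Type*) [MulAction G O] (q : ℕ) : Prop where
  q_pow : ∃ k, 3 ≤ k ∧ q = 2 ^ k
  card_O : Nat.card O = q ^ 2 + 1
  card_G : Nat.card G = q ^ 2 * (q ^ 2 + 1) * (q - 1)
  two_trans : MulAction.IsMultiplyPretransitive G O 2
  three_point : ∀ (g : G) (a b c : O), a ≠ b → b ≠ c → a ≠ c → g • a = a → g • b = b →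
    g • c = c → g = 1
  cent_comm : ∀ (x : G) (p : ℕ), p.Prime → p ∣ q ^ 2 + 1 → orderOf x = p →
    ∀ g h : G, Commute g x → Commute h x → Commute g h
  conj_pow : ∀ (x : G) (p : ℕ), p.Prime → p ∣ q ^ 2 + 1 → orderOf x = p →
    ∀ g : G, Commute (g * x * g⁻¹) x → ∃ i < 4, g * x * g⁻¹ = x ^ (q ^ i)

variable {G : Type*} [Group G] [Finite G] {O : Type*} [Finite O] [MulAction G O] {q : ℕ}

/-- fixed-point-free elements -/
def Fpf (O : Type*) [MulAction G O] (g : G) : Prop := ∀ a : O, g • a ≠ a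

theorem burnside_one [MulAction.IsPretransitive G O] [Nonempty O] [Fintype G]
    [∀ g : G, Fintype (MulAction.fixedBy O g)] :
    ∑ g : G, Fintype.card (MulAction.fixedBy O g) = Fintype.card G := by
  classical
  have : Fintype (MulAction.orbitRel.Quotient G O) := Fintype.ofFinite _
  have h := MulAction.sum_card_fixedBy_eq_card_orbits_mul_card_group G O
  rw [h]
  have h1 : Fintype.card (MulAction.orbitRel.Quotient G O) = 1 := by
    have hs : Subsingleton (MulAction.orbitRel.Quotient G O) :=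
      (MulAction.pretransitive_iff_subsingleton_quotient G O).1 inferInstance
    have hn : Nonempty (MulAction.orbitRel.Quotient G O) := by
      obtain ⟨a⟩ := (inferInstance : Nonempty O)
      exact ⟨Quotient.mk'' a⟩
    apply le_antisymm
    · exact Fintype.card_le_one_iff_subsingleton.2 hs
    · exact Fintype.card_pos
  rw [h1, one_mul]

theorem card_fixedBy_emb (g : G) :
    Nat.card (MulAction.fixedBy (Fin 2 ↪ O) g)
      = Nat.card (MulAction.fixedBy O g) * (Nat.card (MulAction.fixedBy O g) - 1) := by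
  classical
  have : Fintype O := Fintype.ofFinite O
  let e : MulAction.fixedBy (Fin 2 ↪ O) g ≃ (Fin 2 ↪ MulAction.fixedBy O g) :=
    { toFun := fun x => ⟨fun i => ⟨x.1 i, by
          have h := x.2
          rw [MulAction.mem_fixedBy] at h ⊢
          exact DFunLike.congr_fun h i⟩, by
          intro i j hij
          exact x.1.injective (congrArg Subtype.val hij)⟩
      invFun := fun y => ⟨⟨fun i => (y i : O), by
          intro i j hij
          exact y.injective (Subtype.ext hij)⟩, by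
          rw [MulAction.mem_fixedBy]
          ext i
          exact (y i).2⟩
      left_inv := fun x => rfl
      right_inv := fun y => rfl }
  rw [Nat.card_congr e, Nat.card_eq_fintype_card, Fintype.card_embedding_eq, Fintype.card_fin,
    Nat.card_eq_fintype_card]
  simp [Nat.descFactorial]
  ring

theorem q_ge (D : ZData G O q) : 8 ≤ q := by
  obtain ⟨k, hk, rfl⟩ := D.q_pow
  calc 8 = 2 ^ 3 := by norm_num
    _ ≤ 2 ^ k := Nat.pow_le_pow_right (by norm_num) hk

theorem q_even (D : ZData G O q) : 2 ∣ q := by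
  obtain ⟨k, hk, rfl⟩ := D.q_pow
  exact dvd_pow_self 2 (by omega)

theorem nonempty_O (D : ZData G O q) : Nonempty O := by
  have h := D.card_O
  by_contra hne
  rw [not_nonempty_iff] at hne
  rw [Nat.card_of_isEmpty] at h
  omega

theorem card_fixedBy_le (D : ZData G O q) {g : G} (hg : g ≠ 1) :
    Nat.card (MulAction.fixedBy O g) ≤ 2 := by
  classical
  have : Fintype O := Fintype.ofFinite O
  by_contra h
  rw [not_le, Nat.card_eq_fintype_card, Fintype.two_lt_card_iff] at h
  obtain ⟨a, b, c, hab, hac, hbc⟩ := h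
  exact hg (D.three_point g a b c (fun h => hab (Subtype.ext h)) (fun h => hbc (Subtype.ext h))
    (fun h => hac (Subtype.ext h)) a.2 b.2 c.2)

theorem card_fixedBy_eq_zero_iff (g : G) :
    Nat.card (MulAction.fixedBy O g) = 0 ↔ Fpf O g := by
  rw [Nat.card_eq_zero]
  constructor
  · rintro (h | h)
    · intro a ha
      exact h.false ⟨a, ha⟩
    · exact absurd (inferInstance : Finite _) (not_finite_iff_infinite.2 h)
  · intro h
    left
    exact ⟨fun a => h a.1 a.2⟩

theorem two_mul_card_fpf (D : ZData G O q) :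
    2 * Nat.card {g : G // Fpf O g} + q ^ 2 * (q ^ 2 - 1) = Nat.card G := by
  classical
  have : Fintype O := Fintype.ofFinite O
  have : Fintype G := Fintype.ofFinite G
  have hne : Nonempty O := nonempty_O D
  have h2t := D.two_trans
  have h1t : MulAction.IsPretransitive G O := MulAction.isPretransitive_of_is_two_pretransitive
  have hq := q_ge D
  have hne2 : Nonempty (Fin 2 ↪ O) := by
    rw [Function.Embedding.nonempty_iff_card_le, Fintype.card_fin, ← Nat.card_eq_fintype_card,
      D.card_O]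
    nlinarith
  have S1 : ∑ g : G, Nat.card (MulAction.fixedBy O g) = Nat.card G := by
    have := burnside_one (G := G) (O := O)
    simpa [Nat.card_eq_fintype_card] using this
  have S2 : ∑ g : G, Nat.card (MulAction.fixedBy O g) * (Nat.card (MulAction.fixedBy O g) - 1)
      = Nat.card G := by
    have := burnside_one (G := G) (O := Fin 2 ↪ O)
    rw [← Nat.card_eq_fintype_card] at this
    rw [← this]
    apply Finset.sum_congr rfl
    intro g _
    rw [← card_fixedBy_emb, Nat.card_eq_fintype_card]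
  have key : ∀ g : G, Nat.card (MulAction.fixedBy O g) * (Nat.card (MulAction.fixedBy O g) - 1) + 2
      = 2 * Nat.card (MulAction.fixedBy O g) + ((if g = 1 then q ^ 2 * (q ^ 2 - 1) else 0)
        + (if Fpf O g then 2 else 0)) := by
    intro g
    by_cases hg : g = 1
    · subst hg
      have h1 : ¬ Fpf O (1 : G) := by
        intro h
        obtain ⟨a⟩ := hne
        exact h a (one_smul _ _)
      have h3 : Nat.card (MulAction.fixedBy O (1 : G)) = q ^ 2 + 1 := by
        rw [← D.card_O]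
        rw [MulAction.fixedBy_one_eq_univ]
        exact Nat.card_congr (Equiv.Set.univ O)
      rw [if_pos rfl, if_neg h1, h3]
      obtain ⟨r, hr⟩ : ∃ r, q ^ 2 = r + 1 := ⟨q ^ 2 - 1, by
        have : 1 ≤ q ^ 2 := Nat.one_le_pow _ _ (by omega)
        omega⟩
      rw [hr]
      simp only [Nat.add_sub_cancel]
      ring
    · rw [if_neg hg]
      by_cases hf : Fpf O g
      · rw [if_pos hf, (card_fixedBy_eq_zero_iff g).2 hf]
      · rw [if_neg hf]
        have h1 := card_fixedBy_le D hg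
        have h3 : Nat.card (MulAction.fixedBy O g) ≠ 0 := fun h =>
          hf ((card_fixedBy_eq_zero_iff g).1 h)
        have h4 : Nat.card (MulAction.fixedBy O g) = 1 ∨ Nat.card (MulAction.fixedBy O g) = 2 := by
          omega
        rcases h4 with h4 | h4 <;> rw [h4]
  have hsum := Finset.sum_congr (rfl : (Finset.univ : Finset G) = Finset.univ) (fun g _ => key g)
  rw [Finset.sum_add_distrib, Finset.sum_add_distrib, Finset.sum_add_distrib, S2,
    ← Finset.mul_sum, S1, Finset.sum_ite_eq' Finset.univ (1 : G), if_pos (Finset.mem_univ _)] at hsum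
  have h5 : ∑ g : G, (if Fpf O g then 2 else 0) = 2 * Nat.card {g : G // Fpf O g} := by
    rw [Nat.card_eq_fintype_card, Fintype.card_subtype, Finset.sum_ite, Finset.sum_const,
      Finset.sum_const_zero, smul_eq_mul, add_zero, mul_comm]
  rw [h5] at hsum
  simp only [Finset.sum_const, Finset.card_univ, smul_eq_mul] at hsum
  rw [← Nat.card_eq_fintype_card] at hsum
  omega

/-- good elements: prime order dividing `q ^ 2 + 1` -/
def Good (q : ℕ) (x : G) : Prop := ∃ p, p.Prime ∧ p ∣ q ^ 2 + 1 ∧ orderOf x = p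

theorem mem_cent {x g : G} : g ∈ Subgroup.centralizer ({x} : Set G) ↔ Commute g x :=
  Subgroup.mem_centralizer_singleton_iff

theorem card_stab (D : ZData G O q) (a : O) :
    Nat.card (MulAction.stabilizer G a) = q ^ 2 * (q - 1) := by
  have h2t := D.two_trans
  have h1t : MulAction.IsPretransitive G O := MulAction.isPretransitive_of_is_two_pretransitive
  have h1 := MulAction.index_stabilizer_of_transitive G a
  have h2 := (MulAction.stabilizer G a).card_mul_index
  rw [h1, D.card_O, D.card_G] at h2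
  have h3 : 0 < q ^ 2 + 1 := by positivity
  apply Nat.eq_of_mul_eq_mul_right h3
  rw [h2]; ring

theorem prime_ge (D : ZData G O q) {p : ℕ} (hp : p.Prime) (hpq : p ∣ q ^ 2 + 1) : 5 ≤ p := by
  by_contra h
  rw [not_le] at h
  have h2 := hp.two_le
  obtain ⟨r, hr⟩ := q_even D
  interval_cases p
  · rw [hr] at hpq
    have : (2 * r) ^ 2 + 1 = 2 * (2 * r ^ 2) + 1 := by ring
    rw [this] at hpq
    omega
  · have h3 : (q ^ 2 + 1) % 3 = 0 := Nat.mod_eq_zero_of_dvd hpq
    rw [Nat.add_mod, Nat.pow_mod] at h3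
    have h4 : q % 3 < 3 := Nat.mod_lt _ (by norm_num)
    interval_cases (q % 3) <;> simp at h3
  · exact absurd hp (by norm_num)

theorem coprime_aux (D : ZData G O q) {p : ℕ} (hp : p.Prime) (hpq : p ∣ q ^ 2 + 1) :
    ¬ p ∣ q ^ 2 * (q - 1) := by
  intro h
  have h5 := prime_ge D hp hpq
  have hq := q_ge D
  rcases (Nat.Prime.dvd_mul hp).1 h with h1 | h1
  · have : p ∣ 1 := (Nat.dvd_add_right h1).1 hpq
    have := Nat.le_of_dvd one_pos this
    omega
  · have h2 : p ∣ (q - 1) * (q + 1) := Dvd.dvd.mul_right h1 _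
    have h3 : (q - 1) * (q + 1) + 2 = q ^ 2 + 1 := by
      obtain ⟨r, rfl⟩ : ∃ r, q = r + 1 := ⟨q - 1, by omega⟩
      simp only [Nat.add_sub_cancel]
      ring
    rw [← h3] at hpq
    have : p ∣ 2 := (Nat.dvd_add_right h2).1 hpq
    have := Nat.le_of_dvd two_pos this
    omega

theorem fpf_of_good (D : ZData G O q) {x : G} (hx : Good q x) : Fpf O x := by
  obtain ⟨p, hp, hpq, hxp⟩ := hx
  intro a ha
  have h1 : x ∈ MulAction.stabilizer G a := ha
  have h2 : orderOf x ∣ Nat.card (MulAction.stabilizer G a) := by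
    have := orderOf_dvd_natCard (⟨x, h1⟩ : MulAction.stabilizer G a)
    rwa [Subgroup.orderOf_mk] at this
  rw [hxp, card_stab D] at h2
  exact coprime_aux D hp hpq h2

theorem good_of_prime_fpf (D : ZData G O q) {x : G} {p : ℕ} (hp : p.Prime) (hx : orderOf x = p)
    (hf : Fpf O x) : Good q x := by
  have : Fact p.Prime := ⟨hp⟩
  have hPp : IsPGroup p (Subgroup.zpowers x) := by
    apply IsPGroup.of_card (n := 1)
    rw [Nat.card_zpowers, hx, pow_one]
  have hempty : IsEmpty (MulAction.fixedPoints (Subgroup.zpowers x) O) := by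
    refine ⟨fun a => ?_⟩
    exact hf a.1 (a.2 ⟨x, Subgroup.mem_zpowers x⟩)
  have hmod := hPp.card_modEq_card_fixedPoints O
  rw [D.card_O, @Nat.card_of_isEmpty _ hempty] at hmod
  exact ⟨p, hp, (Nat.modEq_zero_iff_dvd).1 hmod, hx⟩

theorem good_ne_one {x : G} (hx : Good q x) : x ≠ 1 := by
  obtain ⟨p, hp, hpq, hxp⟩ := hx
  rintro rfl
  rw [orderOf_one] at hxp
  exact hp.one_lt.ne hxp

theorem good_sq (D : ZData G O q) {x : G} (hx : Good q x) : Good q (x ^ 2) := by
  obtain ⟨p, hp, hpq, hxp⟩ := hx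
  refine ⟨p, hp, hpq, ?_⟩
  have h5 := prime_ge D hp hpq
  have hc : (orderOf x).Coprime 2 := by
    rw [hxp]
    exact (Nat.coprime_primes hp Nat.prime_two).2 (by omega)
  rw [hc.orderOf_pow, hxp]

theorem good_conj {x : G} (hx : Good q x) (g : G) : Good q (g * x * g⁻¹) := by
  obtain ⟨p, hp, hpq, hxp⟩ := hx
  refine ⟨p, hp, hpq, ?_⟩
  rw [← hxp]
  exact orderOf_injective (MulAut.conj g).toMonoidHom (MulAut.conj g).injective x

theorem exists_prime_pow {z : G} (hz : z ≠ 1) : ∃ (k p : ℕ), p.Prime ∧ orderOf (z ^ k) = p := by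
  have hord : orderOf z ≠ 1 := fun h => hz (orderOf_eq_one_iff.1 h)
  obtain ⟨l, hl, hdvd⟩ := Nat.exists_prime_and_dvd hord
  exact ⟨orderOf z / l, l, hl, orderOf_pow_orderOf_div (orderOf_pos z).ne' hdvd⟩

theorem fpf_of_commute_good (D : ZData G O q) {x y : G} (hx : Good q x) (hy : y ≠ 1)
    (hc : Commute y x) : Fpf O y := by
  intro a ha
  have h1 : y • (x • a) = x • a := by
    rw [← mul_smul, hc.eq, mul_smul, ha]
  have h2 : y • (x • x • a) = x • x • a := by
    rw [← mul_smul, hc.eq, mul_smul, h1]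
  have f1 := fpf_of_good D hx
  have f2 := fpf_of_good D (good_sq D hx)
  apply hy
  apply D.three_point y a (x • a) (x • x • a) (f1 a).symm (f1 (x • a)).symm _ ha h1 h2
  intro h
  apply f2 a
  rw [pow_two, mul_smul]
  exact h.symm

theorem commute_iff (D : ZData G O q) {x y : G} (hx : Good q x) (hy : y ≠ 1)
    (hc : Commute y x) (g : G) : Commute g y ↔ Commute g x := by
  constructor
  · intro hg
    obtain ⟨k, p, hp, hk⟩ := exists_prime_pow hy
    have hk1 : y ^ k ≠ 1 := by
      intro h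
      rw [h, orderOf_one] at hk
      exact hp.one_lt.ne hk
    have hgood : Good q (y ^ k) :=
      good_of_prime_fpf D hp hk (fpf_of_commute_good D hx hk1 (hc.pow_left k))
    obtain ⟨p', hp', hpq', hk'⟩ := hgood
    exact D.cent_comm (y ^ k) p' hp' hpq' hk' g x (hg.pow_right k) (hc.pow_left k).symm
  · intro hg
    obtain ⟨p, hp, hpq, hxp⟩ := hx
    exact D.cent_comm x p hp hpq hxp g y hg hc

theorem conj_commute {g a b : G} : Commute (g * a * g⁻¹) (g * b * g⁻¹) ↔ Commute a b := by
  constructor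
  · intro h
    have h1 : g * a * g⁻¹ * (g * b * g⁻¹) = g * b * g⁻¹ * (g * a * g⁻¹) := h
    show a * b = b * a
    calc a * b = g⁻¹ * (g * a * g⁻¹ * (g * b * g⁻¹)) * g := by group
      _ = g⁻¹ * (g * b * g⁻¹ * (g * a * g⁻¹)) * g := by rw [h1]
      _ = b * a := by group
  · intro h
    have h1 : a * b = b * a := h
    show g * a * g⁻¹ * (g * b * g⁻¹) = g * b * g⁻¹ * (g * a * g⁻¹)
    calc g * a * g⁻¹ * (g * b * g⁻¹) = g * (a * b) * g⁻¹ := by group
      _ = g * (b * a) * g⁻¹ := by rw [h1]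
      _ = _ := by group

theorem ti (D : ZData G O q) {x : G} (hx : Good q x) :
    ∀ y ∈ Subgroup.centralizer ({x} : Set G), y ≠ 1 → ∀ g : G,
      g * y * g⁻¹ ∈ Subgroup.centralizer ({x} : Set G) →
      g ∈ Subgroup.normalizer ((Subgroup.centralizer ({x} : Set G) : Subgroup G) : Set G) := by
  intro y hy hy1 g hg
  rw [mem_cent] at hy hg
  rw [Subgroup.mem_normalizer_iff]
  intro h
  rw [mem_cent, mem_cent]
  have hy1' : g * y * g⁻¹ ≠ 1 := by
    intro h1
    apply hy1
    have : y = g⁻¹ * (g * y * g⁻¹) * g := by group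
    rw [this, h1]; group
  rw [← commute_iff D hx hy1 hy h, ← commute_iff D hx hy1' hg (g * h * g⁻¹), conj_commute]

theorem pow_fix {g : G} {a : O} (h : g • a = a) (k : ℕ) : g ^ k • a = a := by
  have h1 : g ∈ MulAction.stabilizer G a := h
  exact Subgroup.pow_mem _ h1 k

theorem invol_fix (D : ZData G O q) {t : G} (ht : t ≠ 1) (h2 : t ^ 2 = 1) :
    ∃ c : O, t • c = c ∧ ∀ d : O, t • d = d → d = c := by
  classical
  have : Fintype O := Fintype.ofFinite O
  have : Fact (Nat.Prime 2) := ⟨Nat.prime_two⟩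
  let f : Function.End O := fun a => t • a
  have hf : f ^ 2 ^ 1 = 1 := by
    rw [pow_one, pow_two]
    funext a
    show t • t • a = a
    rw [← mul_smul, ← pow_two, h2, one_smul]
  have h := Equiv.Perm.card_fixedPoints_modEq hf
  rw [← Nat.card_eq_fintype_card, D.card_O] at h
  have h3 : Fintype.card (Function.fixedPoints f) = Nat.card (MulAction.fixedBy O t) := by
    rw [Nat.card_eq_fintype_card]
    rfl
  rw [h3] at h
  have h4 := card_fixedBy_le D ht
  obtain ⟨r, hr⟩ := q_even D
  have h5 : (q ^ 2 + 1) % 2 = 1 := by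
    rw [hr]
    have : (2 * r) ^ 2 + 1 = 2 * (2 * r ^ 2) + 1 := by ring
    rw [this]; omega
  have h6 : Nat.card (MulAction.fixedBy O t) = 1 := by
    unfold Nat.ModEq at h
    omega
  rw [Nat.card_eq_fintype_card, Fintype.card_eq_one_iff] at h6
  obtain ⟨c, hc⟩ := h6
  exact ⟨c.1, c.2, fun d hd => congrArg Subtype.val (hc ⟨d, hd⟩)⟩

theorem odd_of_fpf (D : ZData G O q) {z : G} (hz : Fpf O z) : ¬ 2 ∣ orderOf z := by
  rintro ⟨j, hj⟩
  have hpos := orderOf_pos z
  have ht : z ^ j ≠ 1 := pow_ne_one_of_lt_orderOf (by omega) (by omega)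
  have h2 : (z ^ j) ^ 2 = 1 := by
    rw [← pow_mul, mul_comm, ← hj, pow_orderOf_eq_one]
  obtain ⟨c, hc, hu⟩ := invol_fix D ht h2
  apply hz c
  apply hu
  have hcomm : Commute (z ^ j) z := (Commute.refl z).pow_left j
  rw [← mul_smul, hcomm.eq, mul_smul, hc]

theorem fpf_pow (D : ZData G O q) {z : G} (hz : Fpf O z) {k : ℕ} (hk : z ^ k ≠ 1) :
    Fpf O (z ^ k) := by
  intro a ha
  have hcomm : Commute (z ^ k) z := (Commute.refl z).pow_left k
  have h1 : z ^ k • (z • a) = z • a := by
    rw [← mul_smul, hcomm.eq, mul_smul, ha]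
  have h2 : z ^ k • (z • z • a) = z • z • a := by
    rw [← mul_smul, hcomm.eq, mul_smul, h1]
  have h3 : z • z • a = a := by
    by_contra h
    exact hk (D.three_point _ a (z • a) (z • z • a) (hz a).symm (hz (z • a)).symm
      (fun h' => h h'.symm) ha h1 h2)
  have h4 : z ^ 2 • a = a := by rw [pow_two, mul_smul, h3]
  have hodd := odd_of_fpf D hz
  obtain ⟨j, hj⟩ : ∃ j, orderOf z + 1 = 2 * j := ⟨(orderOf z + 1) / 2, by omega⟩
  have h5 : (z ^ 2) ^ j = z := by
    rw [← pow_mul, ← hj, pow_succ, pow_orderOf_eq_one, one_mul]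
  apply hz a
  have := pow_fix h4 j
  rwa [h5] at this

/-- the torus of `x` -/
abbrev tor (x : G) : Subgroup G := Subgroup.centralizer ({x} : Set G)

theorem fpf_conj {y : G} (hy : Fpf O y) (g : G) : Fpf O (g * y * g⁻¹) := by
  intro a ha
  apply hy (g⁻¹ • a)
  rw [mul_smul, mul_smul] at ha
  exact (eq_inv_smul_iff.2 ha)

theorem conjSet_subset_fpf (D : ZData G O q) {x : G} (hx : Good q x) :
    conjSet (tor x) ⊆ {z : G | Fpf O z} := by
  rintro z ⟨g, y, hy, hy1, rfl⟩
  exact fpf_conj (fpf_of_commute_good D hx hy1 (mem_cent.1 hy)) g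

theorem five_le_card_tor (D : ZData G O q) {x : G} (hx : Good q x) : 5 ≤ Nat.card (tor x) := by
  obtain ⟨p, hp, hpq, hxp⟩ := hx
  have h1 : x ∈ tor x := mem_cent.2 (Commute.refl x)
  have h2 : orderOf x ∣ Nat.card (tor x) := by
    have := orderOf_dvd_natCard (⟨x, h1⟩ : tor x)
    rwa [Subgroup.orderOf_mk] at this
  have h3 := Nat.le_of_dvd Nat.card_pos h2
  have h4 := prime_ge D hp hpq
  omega

theorem conj_mem_of_normalizer {x g : G}
    (hg : g ∈ Subgroup.normalizer ((tor x : Subgroup G) : Set G)) : Commute (g * x * g⁻¹) x := by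
  have h1 : x ∈ tor x := mem_cent.2 (Commute.refl x)
  exact mem_cent.1 ((Subgroup.mem_normalizer_iff.1 hg x).1 h1)

theorem card_normalizer_le_four (D : ZData G O q) {x : G} (hx : Good q x) :
    Nat.card (Subgroup.normalizer ((tor x : Subgroup G) : Set G)) ≤ Nat.card (tor x) * 4 := by
  classical
  obtain ⟨p, hp, hpq, hxp⟩ := hx
  have h := card_le_of_conj_mem x ((Finset.range 4).image (fun i => x ^ (q ^ i)))
    (Subgroup.normalizer ((tor x : Subgroup G) : Set G)) (by
      intro g hg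
      obtain ⟨i, hi, e⟩ := D.conj_pow x p hp hpq hxp g (conj_mem_of_normalizer hg)
      exact Finset.mem_image.2 ⟨i, Finset.mem_range.2 hi, e.symm⟩)
  refine h.trans (Nat.mul_le_mul_left _ ?_)
  exact Finset.card_image_le.trans (by simp)

theorem pow_q4 (D : ZData G O q) {x : G} (hx : Good q x) : x ^ (q ^ 4) = x := by
  obtain ⟨p, hp, hpq, hxp⟩ := hx
  have h1 : x ^ (q ^ 2 + 1) = 1 := orderOf_dvd_iff_pow_eq_one.1 (hxp ▸ hpq)
  have hq := q_ge D
  have h2 : q ^ 4 = (q ^ 2 + 1) * (q ^ 2 - 1) + 1 := by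
    obtain ⟨r, hr⟩ : ∃ r, q ^ 2 = r + 1 := ⟨q ^ 2 - 1, by
      have : 1 ≤ q ^ 2 := Nat.one_le_pow _ _ (by omega)
      omega⟩
    have : q ^ 4 = (q ^ 2) ^ 2 := by ring
    rw [this, hr]
    simp only [Nat.add_sub_cancel]
    ring
  rw [h2, pow_succ, pow_mul, h1, one_pow, one_mul]

theorem card_normalizer_le_two (D : ZData G O q) {x : G} (hx : Good q x)
    (hno : ¬ ∃ g : G, g * x * g⁻¹ = x ^ q) :
    Nat.card (Subgroup.normalizer ((tor x : Subgroup G) : Set G)) ≤ Nat.card (tor x) * 2 := by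
  classical
  have hx' := hx
  obtain ⟨p, hp, hpq, hxp⟩ := hx
  have h := card_le_of_conj_mem x ({x ^ (q ^ 0), x ^ (q ^ 2)} : Finset G)
    (Subgroup.normalizer ((tor x : Subgroup G) : Set G)) (by
      intro g hg
      obtain ⟨i, hi, e⟩ := D.conj_pow x p hp hpq hxp g (conj_mem_of_normalizer hg)
      interval_cases i
      · rw [e]; simp
      · exfalso
        exact hno ⟨g, by rw [e, pow_one]⟩
      · rw [e]; simp
      · exfalso
        apply hno
        refine ⟨g⁻¹, ?_⟩
        rw [inv_inv]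
        have h1 : x = (g⁻¹ * x * g) ^ (q ^ 3) := by
          have h2 : (g⁻¹ * x * g) ^ (q ^ 3) = g⁻¹ * x ^ (q ^ 3) * g := by
            have := conj_pow (a := g⁻¹) (b := x) (i := q ^ 3)
            rwa [inv_inv] at this
          rw [h2, ← e]; group
        have h3 : (g⁻¹ * x * g) ^ (q ^ 4) = g⁻¹ * x * g := by
          have h2 : (g⁻¹ * x * g) ^ (q ^ 4) = g⁻¹ * x ^ (q ^ 4) * g := by
            have := conj_pow (a := g⁻¹) (b := x) (i := q ^ 4)
            rwa [inv_inv] at this
          rw [h2, pow_q4 D hx']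
        calc g⁻¹ * x * g = (g⁻¹ * x * g) ^ (q ^ 4) := h3.symm
          _ = ((g⁻¹ * x * g) ^ (q ^ 3)) ^ q := by rw [← pow_mul, ← pow_succ]
          _ = x ^ q := by rw [← h1])
  refine h.trans (Nat.mul_le_mul_left _ ?_)
  exact Finset.card_le_two

theorem card_eq (D : ZData G O q) {x : G} (hx : Good q x) :
    (conjSet (tor x)).ncard * Nat.card (Subgroup.normalizer ((tor x : Subgroup G) : Set G))
      = Nat.card G * (Nat.card (tor x) - 1) := by
  rw [← Nat.card_coe_set_eq]
  exact card_conjSet (tor x) (ti D hx)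

theorem five_mul_ncard_ge (D : ZData G O q) {x : G} (hx : Good q x) :
    Nat.card G ≤ 5 * (conjSet (tor x)).ncard := by
  have h1 := card_eq D hx
  have h2 := card_normalizer_le_four D hx
  have h3 := five_le_card_tor D hx
  have hN : 0 < Nat.card (Subgroup.normalizer ((tor x : Subgroup G) : Set G)) := Nat.card_pos
  obtain ⟨a, ha⟩ : ∃ a, Nat.card (tor x) = a + 1 := ⟨Nat.card (tor x) - 1, by omega⟩
  rw [ha] at h1 h2 h3
  simp only [Nat.add_sub_cancel] at h1
  apply Nat.le_of_mul_le_mul_right _ hN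
  calc Nat.card G * Nat.card (Subgroup.normalizer ((tor x : Subgroup G) : Set G))
      ≤ Nat.card G * ((a + 1) * 4) := Nat.mul_le_mul_left _ h2
    _ ≤ Nat.card G * (5 * a) := Nat.mul_le_mul_left _ (by omega)
    _ = 5 * (Nat.card G * a) := by ring
    _ = 5 * (conjSet (tor x)).ncard *
        Nat.card (Subgroup.normalizer ((tor x : Subgroup G) : Set G)) := by rw [← h1]; ring

theorem mem_conjSet_of_pow (D : ZData G O q) {x z : G} (hx : Good q x) {k : ℕ}
    (hz : z ^ k ∈ conjSet (tor x)) : z ∈ conjSet (tor x) := by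
  obtain ⟨g, y, hy, hy1, e⟩ := hz
  have hz1 : z ≠ 1 := by
    rintro rfl
    rw [one_pow] at e
    apply hy1
    have : y = g⁻¹ * (g * y * g⁻¹) * g := by group
    rw [this, ← e]; group
  refine ⟨g, g⁻¹ * z * g, ?_, ?_, by group⟩
  · rw [mem_cent, ← commute_iff D hx hy1 (mem_cent.1 hy)]
    have h1 : Commute z (z ^ k) := (Commute.refl z).pow_right k
    rw [e] at h1
    have h2 : z = g * (g⁻¹ * z * g) * g⁻¹ := by group
    rw [h2, conj_commute] at h1
    exact h1
  · intro h
    apply hz1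
    have : z = g * (g⁻¹ * z * g) * g⁻¹ := by group
    rw [this, h]; group

theorem conjSet_disjoint (D : ZData G O q) {x x' : G} (hx : Good q x) (hx' : Good q x')
    (hn : x' ∉ conjSet (tor x)) : Disjoint (conjSet (tor x)) (conjSet (tor x')) := by
  rw [Set.disjoint_left]
  rintro z ⟨g, y, hy, hy1, rfl⟩ ⟨g', y', hy', hy1', e⟩
  apply hn
  refine ⟨g'⁻¹ * g, g⁻¹ * g' * x' * (g⁻¹ * g')⁻¹, ?_, ?_, by group⟩
  · rw [mem_cent, ← commute_iff D hx hy1 (mem_cent.1 hy)]
    have h1 : y = g⁻¹ * g' * y' * (g⁻¹ * g')⁻¹ := by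
      calc y = g⁻¹ * (g * y * g⁻¹) * g := by group
        _ = g⁻¹ * (g' * y' * g'⁻¹) * g := by rw [e]
        _ = _ := by group
    rw [h1, conj_commute]
    exact (mem_cent.1 hy').symm
  · intro h
    apply good_ne_one hx'
    have : x' = (g⁻¹ * g')⁻¹ * (g⁻¹ * g' * x' * (g⁻¹ * g')⁻¹) * (g⁻¹ * g') := by group
    rw [this, h]; group

theorem fpf_ne_one (D : ZData G O q) {z : G} (hz : Fpf O z) : z ≠ 1 := by
  rintro rfl
  obtain ⟨a⟩ := nonempty_O D
  exact hz a (one_smul _ _)

theorem exists_second (D : ZData G O q) {z : G} (hz : Fpf O z) :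
    ∃ x' : G, Good q x' ∧ z ∈ conjSet (tor x') ∧
      ∀ x : G, Good q x → z ∉ conjSet (tor x) → x' ∉ conjSet (tor x) := by
  have hz1 := fpf_ne_one D hz
  obtain ⟨k, p, hp, hk⟩ := exists_prime_pow hz1
  have hk1 : z ^ k ≠ 1 := by
    intro h
    rw [h, orderOf_one] at hk
    exact hp.one_lt.ne hk
  refine ⟨z ^ k, good_of_prime_fpf D hp hk (fpf_pow D hz hk1), ?_, ?_⟩
  · exact ⟨1, z, mem_cent.2 ((Commute.refl z).pow_right k), hz1, by group⟩
  · intro x hx hzn h
    exact hzn (mem_conjSet_of_pow D hx h)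

theorem card_G_pos (D : ZData G O q) : 0 < Nat.card G := Nat.card_pos

theorem ncard_fpf (D : ZData G O q) :
    2 * ({z : G | Fpf O z} : Set G).ncard + q ^ 2 * (q ^ 2 - 1) = Nat.card G := by
  rw [← two_mul_card_fpf D, ← Nat.card_coe_set_eq]
  rfl

theorem exists_conj_pow (D : ZData G O q) {x : G} (hx : Good q x) :
    ∃ g : G, g * x * g⁻¹ = x ^ q := by
  by_contra hno
  have hq := q_ge D
  have hG := card_G_pos D
  have h1 := card_eq D hx
  have h2 := card_normalizer_le_two D hx hno
  have h3 := five_le_card_tor D hx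
  have hN : 0 < Nat.card (Subgroup.normalizer ((tor x : Subgroup G) : Set G)) := Nat.card_pos
  have hF := ncard_fpf D
  obtain ⟨a, ha⟩ : ∃ a, Nat.card (tor x) = a + 1 := ⟨Nat.card (tor x) - 1, by omega⟩
  have hdvd : Nat.card (tor x) ∣ Nat.card (Subgroup.normalizer ((tor x : Subgroup G) : Set G)) :=
    Subgroup.card_dvd_of_le Subgroup.le_normalizer
  rw [ha] at h1 h2 h3 hdvd
  simp only [Nat.add_sub_cancel] at h1
  have h5 : 2 * Nat.card G ≤ 5 * (conjSet (tor x)).ncard := by
    apply Nat.le_of_mul_le_mul_right _ hN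
    calc 2 * Nat.card G * Nat.card (Subgroup.normalizer ((tor x : Subgroup G) : Set G))
        ≤ 2 * Nat.card G * ((a + 1) * 2) := Nat.mul_le_mul_left _ h2
      _ = Nat.card G * (4 * (a + 1)) := by ring
      _ ≤ Nat.card G * (5 * a) := Nat.mul_le_mul_left _ (by omega)
      _ = 5 * (Nat.card G * a) := by ring
      _ = 5 * (conjSet (tor x)).ncard *
          Nat.card (Subgroup.normalizer ((tor x : Subgroup G) : Set G)) := by rw [← h1]; ring
  by_cases hall : ∀ z : G, Fpf O z → z ∈ conjSet (tor x)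
  · have hEq : conjSet (tor x) = {z : G | Fpf O z} :=
      Set.Subset.antisymm (conjSet_subset_fpf D hx) hall
    rw [hEq] at h1
    obtain ⟨w, hw⟩ := hdvd
    have hw2 : w = 1 ∨ w = 2 := by
      rw [hw] at h2 hN
      have h6 : w ≤ 2 := Nat.le_of_mul_le_mul_left h2 (by omega)
      have h7 : w ≠ 0 := by
        rintro rfl
        simp at hN
      omega
    rw [hw] at h1
    set n0 := ({z : G | Fpf O z} : Set G).ncard with hn0
    rcases hw2 with rfl | rfl
    · -- n0 * (a+1) = |G| * a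
      have h8 : 2 * n0 ≤ Nat.card G := by omega
      have h9 : 2 * (Nat.card G * a) ≤ Nat.card G * (a + 1) := by
        calc 2 * (Nat.card G * a) = 2 * n0 * (a + 1) := by rw [← h1]; ring
          _ ≤ Nat.card G * (a + 1) := Nat.mul_le_mul_right _ h8
      have h10 : 2 * a ≤ a + 1 := by
        apply Nat.le_of_mul_le_mul_left _ hG
        calc Nat.card G * (2 * a) = 2 * (Nat.card G * a) := by ring
          _ ≤ _ := h9
      omega
    · have h8 : q ^ 2 * (q ^ 2 - 1) * (a + 1) = Nat.card G := by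
        have h9 : (2 * n0 + q ^ 2 * (q ^ 2 - 1)) * (a + 1) = Nat.card G * (a + 1) := by rw [hF]
        have h10 : 2 * n0 * (a + 1) = Nat.card G * a := by rw [← h1]; ring
        have h11 : (2 * n0 + q ^ 2 * (q ^ 2 - 1)) * (a + 1)
            = 2 * n0 * (a + 1) + q ^ 2 * (q ^ 2 - 1) * (a + 1) := by ring
        rw [h11, h10] at h9
        have h12 : Nat.card G * (a + 1) = Nat.card G * a + Nat.card G := by ring
        omega
      rw [D.card_G] at h8
      obtain ⟨r, rfl⟩ : ∃ r, q = r + 1 := ⟨q - 1, by omega⟩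
      have e1 : (r + 1) ^ 2 - 1 = r * (r + 2) := by
        have : (r + 1) ^ 2 = r * (r + 2) + 1 := by ring
        rw [this, Nat.add_sub_cancel]
      rw [e1, Nat.add_sub_cancel] at h8
      have h9 : ((r + 1) ^ 2 * r) * ((r + 2) * (a + 1)) = ((r + 1) ^ 2 * r) * ((r + 1) ^ 2 + 1) := by
        calc ((r + 1) ^ 2 * r) * ((r + 2) * (a + 1)) = (r + 1) ^ 2 * (r * (r + 2)) * (a + 1) := by ring
          _ = (r + 1) ^ 2 * ((r + 1) ^ 2 + 1) * r := h8
          _ = _ := by ring
      have hpos : 0 < (r + 1) ^ 2 * r := by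
        have : 0 < r := by omega
        positivity
      have h10 := Nat.eq_of_mul_eq_mul_left hpos h9
      have h11 : (r + 2) ∣ (r + 2) * r + 2 := by
        have : (r + 2) * r + 2 = (r + 1) ^ 2 + 1 := by ring
        rw [this, ← h10]
        exact Dvd.intro _ rfl
      have h12 : (r + 2) ∣ 2 := (Nat.dvd_add_right (Dvd.intro _ rfl)).1 h11
      have := Nat.le_of_dvd two_pos h12
      omega
  · push Not at hall
    obtain ⟨z, hz, hzn⟩ := hall
    obtain ⟨x', hx', _, hx'n⟩ := exists_second D hz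
    have hd := conjSet_disjoint D hx hx' (hx'n x hx hzn)
    have h6 := five_mul_ncard_ge D hx'
    have h7 : (conjSet (tor x) ∪ conjSet (tor x')).ncard ≤ ({z : G | Fpf O z} : Set G).ncard :=
      Set.ncard_le_ncard (Set.union_subset (conjSet_subset_fpf D hx) (conjSet_subset_fpf D hx'))
        (Set.toFinite _)
    rw [Set.ncard_union_eq hd (Set.toFinite _) (Set.toFinite _)] at h7
    omega

end zass

end Cfsg.Agent.Lib.Helper61Zass
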