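import Mathlib
import Cfsg.Agent.Lib.Helper62M16

set_option autoImplicit false

namespace Cfsg.Agent.Lib.Helper62C240

open Cfsg.Agent.Lib.Helper62M16

/-- first generator (order 8) -/
def gA : M16 := ⟨0, 0, 1, 1, 0, 0, 4, 6, 4, 3, 1, 5, 5, 3, 6, 6⟩
/-- its inverse -/
def gA' : M16 := ⟨1, 2, 6, 1, 1, 6, 4, 1, 3, 3, 0, 0, 5, 4, 0, 0⟩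
/-- second generator (order 12) -/
def gB : M16 := ⟨0, 0, 2, 2, 0, 0, 1, 5, 2, 5, 5, 0, 6, 5, 0, 2⟩
/-- its inverse -/
def gB' : M16 := ⟨5, 0, 5, 2, 0, 2, 1, 2, 5, 5, 0, 0, 6, 2, 0, 0⟩

/-- the 240 elements of the group -/
def L : List M16 := [
  ⟨0, 0, 1, 0, 0, 0, 0, 1, 6, 0, 0, 0, 0, 6, 0, 0⟩,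
  ⟨0, 0, 1, 1, 0, 0, 4, 6, 4, 3, 1, 5, 5, 3, 6, 6⟩,
  ⟨0, 0, 2, 0, 0, 0, 0, 2, 3, 0, 1, 0, 0, 3, 0, 1⟩,
  ⟨0, 0, 2, 2, 0, 0, 1, 5, 2, 5, 5, 0, 6, 5, 0, 2⟩,
  ⟨0, 0, 3, 0, 0, 0, 0, 3, 2, 0, 1, 0, 0, 2, 0, 1⟩,
  ⟨0, 0, 3, 3, 0, 0, 5, 4, 6, 1, 6, 5, 4, 1, 6, 1⟩,
  ⟨0, 0, 4, 0, 0, 0, 0, 4, 5, 0, 6, 0, 0, 5, 0, 6⟩,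
  ⟨0, 0, 4, 4, 0, 0, 2, 3, 1, 6, 1, 2, 3, 6, 1, 6⟩,
  ⟨0, 0, 5, 0, 0, 0, 0, 5, 4, 0, 6, 0, 0, 4, 0, 6⟩,
  ⟨0, 0, 5, 5, 0, 0, 6, 2, 5, 2, 2, 0, 1, 2, 0, 5⟩,
  ⟨0, 0, 6, 0, 0, 0, 0, 6, 1, 0, 0, 0, 0, 1, 0, 0⟩,
  ⟨0, 0, 6, 6, 0, 0, 3, 1, 3, 4, 6, 2, 2, 4, 1, 1⟩,
  ⟨0, 1, 3, 2, 3, 0, 6, 3, 6, 1, 1, 6, 3, 6, 4, 1⟩,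
  ⟨0, 1, 5, 6, 3, 0, 4, 5, 5, 6, 4, 5, 4, 5, 1, 4⟩,
  ⟨0, 1, 6, 1, 3, 0, 3, 6, 3, 2, 1, 6, 6, 3, 4, 1⟩,
  ⟨0, 2, 3, 5, 6, 0, 1, 3, 6, 4, 0, 5, 5, 6, 1, 0⟩,
  ⟨0, 2, 5, 2, 6, 0, 6, 5, 5, 2, 3, 4, 6, 5, 5, 3⟩,
  ⟨0, 2, 6, 4, 6, 0, 5, 6, 3, 5, 0, 5, 1, 3, 1, 0⟩,
  ⟨0, 3, 1, 4, 2, 0, 5, 1, 4, 3, 4, 3, 2, 4, 2, 4⟩,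
  ⟨0, 3, 2, 6, 2, 0, 4, 2, 2, 6, 1, 4, 4, 2, 5, 1⟩,
  ⟨0, 3, 4, 3, 2, 0, 2, 4, 1, 4, 4, 3, 5, 1, 2, 4⟩,
  ⟨0, 4, 3, 4, 5, 0, 5, 3, 6, 3, 3, 4, 2, 6, 5, 3⟩,
  ⟨0, 4, 5, 1, 5, 0, 3, 5, 5, 1, 6, 3, 3, 5, 2, 6⟩,
  ⟨0, 4, 6, 3, 5, 0, 2, 6, 3, 4, 3, 4, 5, 3, 5, 3⟩,
  ⟨0, 5, 1, 3, 1, 0, 2, 1, 4, 2, 0, 2, 6, 4, 6, 0⟩,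
  ⟨0, 5, 2, 5, 1, 0, 1, 2, 2, 5, 4, 3, 1, 2, 2, 4⟩,
  ⟨0, 5, 4, 2, 1, 0, 6, 4, 1, 3, 0, 2, 2, 1, 6, 0⟩,
  ⟨0, 6, 1, 6, 4, 0, 4, 1, 4, 5, 6, 1, 1, 4, 3, 6⟩,
  ⟨0, 6, 2, 1, 4, 0, 3, 2, 2, 1, 3, 2, 3, 2, 6, 3⟩,
  ⟨0, 6, 4, 5, 4, 0, 1, 4, 1, 6, 6, 1, 4, 1, 3, 6⟩,
  ⟨1, 0, 0, 0, 0, 1, 0, 0, 0, 0, 1, 0, 0, 0, 0, 1⟩,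
  ⟨1, 0, 1, 0, 0, 6, 0, 6, 1, 0, 2, 0, 0, 6, 0, 5⟩,
  ⟨1, 0, 1, 6, 0, 6, 3, 6, 2, 4, 5, 2, 2, 5, 1, 2⟩,
  ⟨1, 0, 2, 0, 0, 6, 0, 5, 6, 0, 6, 0, 0, 1, 0, 1⟩,
  ⟨1, 0, 2, 3, 0, 6, 5, 5, 1, 1, 5, 5, 4, 6, 6, 2⟩,
  ⟨1, 0, 3, 0, 0, 6, 0, 4, 3, 0, 3, 0, 0, 4, 0, 4⟩,
  ⟨1, 0, 4, 0, 0, 1, 0, 4, 5, 0, 0, 0, 0, 5, 0, 0⟩,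
  ⟨1, 0, 5, 0, 0, 1, 0, 5, 4, 0, 0, 0, 0, 4, 0, 0⟩,
  ⟨1, 0, 6, 0, 0, 6, 0, 1, 2, 0, 6, 0, 0, 5, 0, 1⟩,
  ⟨1, 0, 6, 5, 0, 6, 6, 1, 6, 2, 4, 0, 1, 1, 0, 3⟩,
  ⟨1, 1, 0, 0, 4, 6, 0, 0, 1, 5, 3, 4, 6, 6, 2, 4⟩,
  ⟨1, 1, 4, 4, 4, 6, 2, 3, 2, 4, 4, 6, 2, 5, 3, 3⟩,
  ⟨1, 1, 5, 5, 4, 6, 6, 2, 6, 0, 5, 4, 0, 1, 2, 2⟩,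
  ⟨1, 2, 1, 0, 1, 6, 0, 6, 3, 0, 6, 2, 0, 4, 1, 1⟩,
  ⟨1, 2, 2, 3, 1, 6, 5, 5, 3, 1, 2, 0, 4, 4, 0, 5⟩,
  ⟨1, 2, 6, 1, 1, 6, 4, 1, 3, 3, 0, 0, 5, 4, 0, 0⟩,
  ⟨1, 3, 0, 2, 2, 1, 6, 0, 0, 2, 3, 5, 6, 0, 1, 3⟩,
  ⟨1, 3, 4, 2, 2, 1, 6, 4, 5, 2, 2, 5, 6, 5, 1, 2⟩,
  ⟨1, 3, 5, 2, 2, 1, 6, 5, 4, 2, 2, 5, 6, 4, 1, 2⟩,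
  ⟨1, 4, 0, 4, 5, 1, 5, 0, 4, 3, 3, 4, 2, 4, 5, 3⟩,
  ⟨1, 4, 4, 3, 5, 1, 2, 4, 0, 4, 3, 4, 5, 0, 5, 3⟩,
  ⟨1, 4, 5, 1, 5, 1, 3, 5, 5, 1, 0, 3, 3, 5, 2, 0⟩,
  ⟨1, 5, 3, 0, 6, 6, 0, 4, 1, 0, 6, 5, 0, 6, 6, 1⟩,
  ⟨1, 5, 3, 4, 6, 6, 2, 4, 6, 6, 0, 0, 3, 1, 0, 0⟩,
  ⟨1, 5, 3, 6, 6, 6, 3, 4, 2, 4, 2, 0, 2, 5, 0, 5⟩,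
  ⟨1, 6, 0, 1, 4, 1, 3, 0, 6, 1, 3, 2, 3, 6, 6, 3⟩,
  ⟨1, 6, 1, 2, 3, 6, 1, 6, 0, 0, 3, 3, 0, 0, 5, 4⟩,
  ⟨1, 6, 1, 6, 4, 1, 4, 1, 4, 5, 0, 1, 1, 4, 3, 0⟩,
  ⟨1, 6, 2, 3, 3, 6, 5, 5, 4, 3, 4, 1, 5, 3, 4, 3⟩,
  ⟨1, 6, 2, 5, 4, 1, 1, 2, 5, 6, 6, 1, 4, 5, 3, 6⟩,
  ⟨1, 6, 3, 4, 4, 1, 5, 3, 3, 4, 5, 1, 5, 3, 3, 5⟩,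
  ⟨1, 6, 4, 5, 4, 1, 1, 4, 1, 6, 0, 1, 4, 1, 3, 0⟩,
  ⟨1, 6, 5, 6, 4, 1, 4, 5, 2, 5, 6, 1, 1, 2, 3, 6⟩,
  ⟨1, 6, 6, 0, 3, 6, 0, 1, 5, 2, 5, 3, 1, 2, 5, 2⟩,
  ⟨1, 6, 6, 1, 4, 1, 3, 6, 0, 1, 3, 2, 3, 0, 6, 3⟩,
  ⟨2, 0, 0, 0, 0, 2, 0, 0, 1, 0, 4, 0, 0, 1, 0, 4⟩,
  ⟨2, 0, 1, 0, 0, 2, 0, 1, 0, 0, 4, 0, 0, 0, 0, 4⟩,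
  ⟨2, 0, 2, 0, 0, 5, 0, 5, 5, 0, 2, 0, 0, 2, 0, 5⟩,
  ⟨2, 0, 2, 5, 0, 5, 6, 5, 2, 2, 0, 0, 1, 5, 0, 0⟩,
  ⟨2, 0, 3, 0, 0, 2, 0, 3, 3, 0, 5, 0, 0, 3, 0, 5⟩,
  ⟨2, 0, 4, 0, 0, 5, 0, 3, 4, 0, 5, 0, 0, 3, 0, 2⟩,
  ⟨2, 0, 4, 6, 0, 5, 3, 3, 5, 4, 1, 2, 2, 2, 1, 6⟩,
  ⟨2, 0, 5, 0, 0, 5, 0, 2, 2, 0, 2, 0, 0, 5, 0, 5⟩,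
  ⟨2, 0, 5, 3, 0, 5, 5, 2, 4, 1, 1, 5, 4, 3, 6, 6⟩,
  ⟨2, 0, 6, 0, 0, 5, 0, 1, 6, 0, 1, 0, 0, 1, 0, 6⟩,
  ⟨2, 1, 0, 1, 3, 2, 3, 0, 3, 2, 5, 6, 6, 3, 4, 5⟩,
  ⟨2, 1, 1, 6, 3, 2, 4, 1, 1, 6, 2, 5, 4, 1, 1, 2⟩,
  ⟨2, 1, 3, 2, 3, 2, 6, 3, 0, 1, 5, 6, 3, 0, 4, 5⟩,
  ⟨2, 2, 0, 0, 1, 5, 0, 0, 5, 0, 5, 2, 0, 2, 1, 2⟩,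
  ⟨2, 2, 1, 1, 1, 5, 4, 6, 2, 3, 6, 0, 5, 5, 0, 1⟩,
  ⟨2, 2, 3, 3, 1, 5, 5, 4, 4, 1, 4, 0, 4, 3, 0, 3⟩,
  ⟨2, 3, 6, 0, 5, 5, 0, 1, 5, 5, 6, 6, 6, 2, 3, 1⟩,
  ⟨2, 3, 6, 1, 5, 5, 4, 1, 4, 1, 3, 4, 4, 3, 2, 4⟩,
  ⟨2, 3, 6, 5, 5, 5, 6, 1, 2, 0, 4, 6, 0, 5, 3, 3⟩,
  ⟨2, 4, 2, 0, 2, 5, 0, 5, 6, 2, 4, 1, 1, 1, 4, 3⟩,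
  ⟨2, 4, 4, 6, 2, 5, 3, 3, 6, 6, 3, 3, 3, 1, 5, 4⟩,
  ⟨2, 4, 5, 2, 2, 5, 1, 2, 6, 0, 6, 1, 0, 1, 4, 1⟩,
  ⟨2, 5, 0, 2, 1, 2, 6, 0, 4, 3, 5, 2, 2, 4, 6, 5⟩,
  ⟨2, 5, 1, 3, 1, 2, 2, 1, 5, 2, 4, 2, 6, 5, 6, 4⟩,
  ⟨2, 5, 2, 4, 6, 5, 2, 5, 1, 6, 6, 0, 3, 6, 0, 1⟩,
  ⟨2, 5, 2, 5, 1, 2, 1, 2, 3, 5, 1, 3, 1, 3, 2, 1⟩,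
  ⟨2, 5, 3, 5, 1, 2, 1, 3, 2, 5, 1, 3, 1, 2, 2, 1⟩,
  ⟨2, 5, 4, 3, 1, 2, 2, 4, 0, 2, 5, 2, 6, 0, 6, 5⟩,
  ⟨2, 5, 4, 6, 6, 5, 3, 3, 3, 4, 4, 0, 2, 4, 0, 3⟩,
  ⟨2, 5, 5, 0, 6, 5, 0, 2, 0, 0, 5, 5, 0, 0, 6, 2⟩,
  ⟨2, 5, 5, 2, 1, 2, 6, 5, 1, 3, 4, 2, 2, 1, 6, 4⟩,
  ⟨2, 5, 6, 1, 1, 2, 3, 6, 6, 1, 2, 1, 3, 6, 3, 2⟩,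
  ⟨2, 6, 0, 4, 4, 2, 5, 0, 1, 4, 5, 1, 5, 1, 3, 5⟩,
  ⟨2, 6, 1, 4, 4, 2, 5, 1, 0, 4, 5, 1, 5, 0, 3, 5⟩,
  ⟨2, 6, 3, 4, 4, 2, 5, 3, 3, 4, 6, 1, 5, 3, 3, 6⟩,
  ⟨3, 0, 0, 0, 0, 3, 0, 0, 1, 0, 5, 0, 0, 1, 0, 5⟩,
  ⟨3, 0, 1, 0, 0, 3, 0, 1, 0, 0, 5, 0, 0, 0, 0, 5⟩,
  ⟨3, 0, 2, 0, 0, 4, 0, 5, 2, 0, 4, 0, 0, 5, 0, 3⟩,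
  ⟨3, 0, 3, 0, 0, 4, 0, 4, 6, 0, 4, 0, 0, 1, 0, 3⟩,
  ⟨3, 0, 3, 4, 0, 4, 2, 4, 4, 6, 5, 2, 3, 3, 1, 2⟩,
  ⟨3, 0, 4, 0, 0, 4, 0, 3, 4, 0, 1, 0, 0, 3, 0, 6⟩,
  ⟨3, 0, 4, 1, 0, 4, 4, 3, 3, 3, 5, 5, 5, 4, 6, 2⟩,
  ⟨3, 0, 5, 0, 0, 3, 0, 5, 5, 0, 4, 0, 0, 5, 0, 4⟩,
  ⟨3, 0, 6, 0, 0, 4, 0, 1, 3, 0, 4, 0, 0, 4, 0, 3⟩,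
  ⟨3, 0, 6, 2, 0, 4, 1, 1, 6, 5, 6, 0, 6, 1, 0, 1⟩,
  ⟨3, 1, 2, 0, 4, 4, 0, 5, 6, 5, 5, 4, 6, 1, 2, 2⟩,
  ⟨3, 1, 2, 4, 4, 4, 2, 5, 4, 4, 6, 6, 2, 3, 3, 1⟩,
  ⟨3, 1, 2, 5, 4, 4, 6, 5, 3, 0, 3, 4, 0, 4, 2, 4⟩,
  ⟨3, 2, 0, 6, 6, 3, 4, 0, 1, 6, 1, 6, 4, 1, 4, 1⟩,
  ⟨3, 2, 1, 6, 6, 3, 4, 1, 0, 6, 1, 6, 4, 0, 4, 1⟩,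
  ⟨3, 2, 5, 6, 6, 3, 4, 5, 5, 6, 0, 6, 4, 5, 4, 0⟩,
  ⟨3, 3, 0, 0, 5, 4, 0, 0, 6, 5, 1, 6, 6, 1, 3, 6⟩,
  ⟨3, 3, 1, 1, 5, 4, 4, 6, 3, 1, 2, 4, 4, 4, 2, 5⟩,
  ⟨3, 3, 5, 5, 5, 4, 6, 2, 4, 0, 3, 6, 0, 3, 3, 4⟩,
  ⟨3, 4, 0, 3, 5, 3, 2, 0, 3, 4, 1, 4, 5, 3, 5, 1⟩,
  ⟨3, 4, 1, 4, 5, 3, 5, 1, 4, 3, 0, 4, 2, 4, 5, 0⟩,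
  ⟨3, 4, 2, 5, 5, 3, 1, 2, 2, 5, 0, 2, 1, 2, 6, 0⟩,
  ⟨3, 4, 3, 4, 5, 3, 5, 3, 0, 3, 1, 4, 2, 0, 5, 1⟩,
  ⟨3, 4, 3, 6, 2, 4, 3, 4, 1, 6, 2, 3, 3, 6, 5, 5⟩,
  ⟨3, 4, 4, 0, 2, 4, 0, 3, 5, 2, 3, 1, 1, 2, 4, 4⟩,
  ⟨3, 4, 4, 3, 5, 3, 2, 4, 1, 4, 0, 4, 5, 1, 5, 0⟩,
  ⟨3, 4, 5, 1, 5, 3, 3, 5, 6, 1, 4, 3, 3, 6, 2, 4⟩,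
  ⟨3, 4, 6, 1, 5, 3, 3, 6, 5, 1, 4, 3, 3, 5, 2, 4⟩,
  ⟨3, 4, 6, 2, 2, 4, 1, 1, 0, 0, 1, 1, 0, 0, 4, 6⟩,
  ⟨3, 5, 0, 5, 1, 3, 1, 0, 0, 5, 1, 3, 1, 0, 2, 1⟩,
  ⟨3, 5, 1, 3, 1, 3, 2, 1, 5, 2, 5, 2, 6, 5, 6, 5⟩,
  ⟨3, 5, 5, 2, 1, 3, 6, 5, 1, 3, 5, 2, 2, 1, 6, 5⟩,
  ⟨3, 6, 3, 0, 3, 4, 0, 4, 2, 2, 3, 3, 1, 5, 5, 4⟩,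
  ⟨3, 6, 4, 3, 3, 4, 5, 3, 2, 3, 6, 1, 5, 5, 4, 1⟩,
  ⟨3, 6, 6, 2, 3, 4, 1, 1, 2, 0, 5, 3, 0, 5, 5, 2⟩,
  ⟨4, 0, 0, 0, 0, 4, 0, 0, 6, 0, 2, 0, 0, 6, 0, 2⟩,
  ⟨4, 0, 1, 0, 0, 3, 0, 6, 4, 0, 3, 0, 0, 3, 0, 4⟩,
  ⟨4, 0, 1, 5, 0, 3, 6, 6, 1, 2, 1, 0, 1, 6, 0, 6⟩,
  ⟨4, 0, 2, 0, 0, 4, 0, 2, 2, 0, 3, 0, 0, 2, 0, 3⟩,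
  ⟨4, 0, 3, 0, 0, 3, 0, 4, 3, 0, 6, 0, 0, 4, 0, 1⟩,
  ⟨4, 0, 3, 6, 0, 3, 3, 4, 4, 4, 2, 2, 2, 3, 1, 5⟩,
  ⟨4, 0, 4, 0, 0, 3, 0, 3, 1, 0, 3, 0, 0, 6, 0, 4⟩,
  ⟨4, 0, 4, 3, 0, 3, 5, 3, 3, 1, 2, 5, 4, 4, 6, 5⟩,
  ⟨4, 0, 5, 0, 0, 3, 0, 2, 5, 0, 3, 0, 0, 2, 0, 4⟩,
  ⟨4, 0, 6, 0, 0, 4, 0, 6, 0, 0, 2, 0, 0, 0, 0, 2⟩,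
  ⟨4, 1, 1, 5, 4, 3, 6, 6, 5, 0, 2, 4, 0, 2, 2, 5⟩,
  ⟨4, 1, 3, 4, 4, 3, 2, 4, 5, 4, 1, 6, 2, 2, 3, 6⟩,
  ⟨4, 1, 4, 0, 4, 3, 0, 3, 5, 5, 4, 4, 6, 2, 2, 3⟩,
  ⟨4, 2, 0, 2, 6, 4, 6, 0, 0, 2, 6, 4, 6, 0, 5, 6⟩,
  ⟨4, 2, 2, 5, 6, 4, 1, 2, 6, 4, 2, 5, 5, 6, 1, 2⟩,
  ⟨4, 2, 6, 4, 6, 4, 5, 6, 2, 5, 2, 5, 1, 2, 1, 2⟩,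
  ⟨4, 3, 0, 4, 2, 4, 5, 0, 4, 3, 6, 3, 2, 4, 2, 6⟩,
  ⟨4, 3, 1, 5, 5, 3, 6, 6, 0, 0, 6, 6, 0, 0, 3, 1⟩,
  ⟨4, 3, 1, 6, 2, 4, 4, 1, 2, 6, 3, 4, 4, 2, 5, 3⟩,
  ⟨4, 3, 2, 6, 2, 4, 4, 2, 1, 6, 3, 4, 4, 1, 5, 3⟩,
  ⟨4, 3, 3, 0, 5, 3, 0, 4, 2, 5, 4, 6, 6, 5, 3, 3⟩,
  ⟨4, 3, 3, 4, 2, 4, 5, 3, 6, 3, 0, 3, 2, 6, 2, 0⟩,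
  ⟨4, 3, 4, 1, 5, 3, 4, 3, 6, 1, 5, 4, 4, 1, 2, 2⟩,
  ⟨4, 3, 4, 3, 2, 4, 2, 4, 0, 4, 6, 3, 5, 0, 2, 6⟩,
  ⟨4, 3, 5, 2, 2, 4, 6, 5, 5, 2, 0, 5, 6, 5, 1, 0⟩,
  ⟨4, 3, 6, 3, 2, 4, 2, 6, 3, 4, 0, 3, 5, 3, 2, 0⟩,
  ⟨4, 4, 0, 0, 2, 3, 0, 0, 1, 2, 6, 1, 1, 6, 4, 1⟩,
  ⟨4, 4, 2, 2, 2, 3, 1, 5, 3, 0, 4, 1, 0, 4, 4, 3⟩,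
  ⟨4, 4, 6, 6, 2, 3, 3, 1, 4, 6, 5, 3, 3, 3, 5, 2⟩,
  ⟨4, 5, 0, 1, 1, 4, 3, 0, 6, 1, 6, 1, 3, 6, 3, 6⟩,
  ⟨4, 5, 2, 1, 1, 4, 3, 2, 2, 1, 0, 1, 3, 2, 3, 0⟩,
  ⟨4, 5, 6, 1, 1, 4, 3, 6, 0, 1, 6, 1, 3, 0, 3, 6⟩,
  ⟨4, 6, 5, 0, 3, 3, 0, 2, 1, 2, 2, 3, 1, 6, 5, 5⟩,
  ⟨4, 6, 5, 2, 3, 3, 1, 2, 4, 0, 4, 3, 0, 3, 5, 3⟩,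
  ⟨4, 6, 5, 3, 3, 3, 5, 2, 3, 3, 1, 1, 5, 4, 4, 6⟩,
  ⟨5, 0, 0, 0, 0, 5, 0, 0, 6, 0, 3, 0, 0, 6, 0, 3⟩,
  ⟨5, 0, 1, 0, 0, 2, 0, 6, 1, 0, 6, 0, 0, 6, 0, 1⟩,
  ⟨5, 0, 2, 0, 0, 2, 0, 5, 5, 0, 5, 0, 0, 2, 0, 2⟩,
  ⟨5, 0, 2, 4, 0, 2, 2, 5, 3, 6, 6, 2, 3, 4, 1, 1⟩,
  ⟨5, 0, 3, 0, 0, 2, 0, 4, 3, 0, 2, 0, 0, 4, 0, 5⟩,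
  ⟨5, 0, 3, 1, 0, 2, 4, 4, 2, 3, 6, 5, 5, 5, 6, 1⟩,
  ⟨5, 0, 4, 0, 0, 5, 0, 4, 4, 0, 2, 0, 0, 4, 0, 2⟩,
  ⟨5, 0, 5, 0, 0, 2, 0, 2, 2, 0, 5, 0, 0, 5, 0, 2⟩,
  ⟨5, 0, 5, 2, 0, 2, 1, 2, 5, 5, 0, 0, 6, 2, 0, 0⟩,
  ⟨5, 0, 6, 0, 0, 5, 0, 6, 0, 0, 3, 0, 0, 0, 0, 3⟩,
  ⟨5, 1, 0, 3, 3, 5, 2, 0, 6, 3, 2, 6, 2, 6, 4, 2⟩,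
  ⟨5, 1, 4, 3, 3, 5, 2, 4, 4, 3, 1, 6, 2, 4, 4, 1⟩,
  ⟨5, 1, 6, 3, 3, 5, 2, 6, 0, 3, 2, 6, 2, 0, 4, 2⟩,
  ⟨5, 2, 0, 5, 6, 5, 1, 0, 3, 4, 2, 5, 5, 3, 1, 2⟩,
  ⟨5, 2, 1, 6, 6, 5, 4, 1, 1, 6, 5, 6, 4, 1, 4, 5⟩,
  ⟨5, 2, 2, 0, 1, 2, 0, 5, 0, 0, 2, 2, 0, 0, 1, 5⟩,
  ⟨5, 2, 2, 5, 6, 5, 1, 2, 6, 4, 3, 5, 5, 6, 1, 3⟩,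
  ⟨5, 2, 3, 1, 1, 2, 4, 4, 4, 3, 3, 0, 5, 3, 0, 4⟩,
  ⟨5, 2, 3, 4, 6, 5, 5, 3, 0, 5, 2, 5, 1, 0, 1, 2⟩,
  ⟨5, 2, 4, 2, 6, 5, 6, 4, 5, 2, 6, 4, 6, 5, 5, 6⟩,
  ⟨5, 2, 5, 2, 6, 5, 6, 5, 4, 2, 6, 4, 6, 4, 5, 6⟩,
  ⟨5, 2, 5, 3, 1, 2, 5, 2, 6, 1, 1, 0, 4, 1, 0, 6⟩,
  ⟨5, 2, 6, 4, 6, 5, 5, 6, 2, 5, 3, 5, 1, 2, 1, 3⟩,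
  ⟨5, 3, 2, 5, 5, 2, 6, 5, 1, 0, 1, 6, 0, 6, 3, 6⟩,
  ⟨5, 3, 3, 1, 5, 2, 4, 4, 1, 1, 4, 4, 4, 6, 2, 3⟩,
  ⟨5, 3, 5, 0, 5, 2, 0, 2, 1, 5, 3, 6, 6, 6, 3, 4⟩,
  ⟨5, 4, 1, 0, 2, 2, 0, 6, 2, 2, 1, 1, 1, 5, 4, 6⟩,
  ⟨5, 4, 1, 2, 2, 2, 1, 6, 5, 0, 3, 1, 0, 2, 4, 4⟩,
  ⟨5, 4, 1, 6, 2, 2, 3, 6, 3, 6, 4, 3, 3, 4, 5, 3⟩,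
  ⟨5, 5, 0, 0, 6, 2, 0, 0, 2, 0, 2, 5, 0, 5, 6, 5⟩,
  ⟨5, 5, 4, 4, 6, 2, 2, 3, 3, 6, 3, 0, 3, 4, 0, 4⟩,
  ⟨5, 5, 6, 6, 6, 2, 3, 1, 5, 4, 1, 0, 2, 2, 0, 6⟩,
  ⟨5, 6, 0, 6, 4, 5, 4, 0, 4, 5, 2, 1, 1, 4, 3, 2⟩,
  ⟨5, 6, 4, 5, 4, 5, 1, 4, 0, 6, 2, 1, 4, 0, 3, 2⟩,
  ⟨5, 6, 6, 1, 4, 5, 3, 6, 6, 1, 5, 2, 3, 6, 6, 5⟩,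
  ⟨6, 0, 0, 0, 0, 6, 0, 0, 0, 0, 6, 0, 0, 0, 0, 6⟩,
  ⟨6, 0, 1, 0, 0, 1, 0, 6, 5, 0, 1, 0, 0, 2, 0, 6⟩,
  ⟨6, 0, 1, 2, 0, 1, 1, 6, 1, 5, 3, 0, 6, 6, 0, 4⟩,
  ⟨6, 0, 2, 0, 0, 6, 0, 2, 3, 0, 0, 0, 0, 3, 0, 0⟩,
  ⟨6, 0, 3, 0, 0, 6, 0, 3, 2, 0, 0, 0, 0, 2, 0, 0⟩,
  ⟨6, 0, 4, 0, 0, 1, 0, 3, 4, 0, 4, 0, 0, 3, 0, 3⟩,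
  ⟨6, 0, 5, 0, 0, 1, 0, 2, 1, 0, 1, 0, 0, 6, 0, 6⟩,
  ⟨6, 0, 5, 4, 0, 1, 2, 2, 6, 6, 2, 2, 3, 1, 1, 5⟩,
  ⟨6, 0, 6, 0, 0, 1, 0, 1, 6, 0, 5, 0, 0, 1, 0, 2⟩,
  ⟨6, 0, 6, 1, 0, 1, 4, 1, 5, 3, 2, 5, 5, 2, 6, 5⟩,
  ⟨6, 1, 0, 6, 3, 6, 4, 0, 1, 6, 4, 5, 4, 1, 1, 4⟩,
  ⟨6, 1, 1, 0, 4, 1, 0, 6, 2, 5, 2, 4, 6, 5, 2, 5⟩,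
  ⟨6, 1, 1, 6, 3, 6, 4, 1, 0, 6, 4, 5, 4, 0, 1, 4⟩,
  ⟨6, 1, 2, 1, 3, 6, 3, 2, 5, 2, 1, 6, 6, 5, 4, 1⟩,
  ⟨6, 1, 3, 2, 3, 6, 6, 3, 6, 1, 0, 6, 3, 6, 4, 0⟩,
  ⟨6, 1, 4, 3, 3, 6, 2, 4, 4, 3, 2, 6, 2, 4, 4, 2⟩,
  ⟨6, 1, 5, 2, 3, 6, 6, 5, 2, 1, 1, 6, 3, 2, 4, 1⟩,
  ⟨6, 1, 5, 4, 4, 1, 2, 2, 3, 4, 3, 6, 2, 4, 3, 4⟩,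
  ⟨6, 1, 6, 1, 3, 6, 3, 6, 3, 2, 0, 6, 6, 3, 4, 0⟩,
  ⟨6, 1, 6, 5, 4, 1, 6, 1, 0, 0, 4, 4, 0, 0, 2, 3⟩,
  ⟨6, 2, 4, 0, 1, 1, 0, 3, 6, 0, 1, 2, 0, 1, 1, 6⟩,
  ⟨6, 2, 4, 1, 1, 1, 4, 3, 5, 3, 5, 0, 5, 2, 0, 2⟩,
  ⟨6, 2, 4, 3, 1, 1, 5, 3, 1, 1, 0, 0, 4, 6, 0, 0⟩,
  ⟨6, 3, 0, 3, 2, 6, 2, 0, 3, 4, 4, 3, 5, 3, 2, 4⟩,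
  ⟨6, 3, 2, 6, 2, 6, 4, 2, 2, 6, 0, 4, 4, 2, 5, 0⟩,
  ⟨6, 3, 3, 4, 2, 6, 5, 3, 0, 3, 4, 3, 2, 0, 2, 4⟩,
  ⟨6, 4, 0, 5, 5, 6, 1, 0, 0, 5, 4, 2, 1, 0, 6, 4⟩,
  ⟨6, 4, 2, 5, 5, 6, 1, 2, 3, 5, 5, 2, 1, 3, 6, 5⟩,
  ⟨6, 4, 3, 5, 5, 6, 1, 3, 2, 5, 5, 2, 1, 2, 6, 5⟩,
  ⟨6, 5, 1, 6, 6, 1, 3, 6, 4, 4, 0, 0, 2, 3, 0, 0⟩,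
  ⟨6, 5, 5, 4, 6, 1, 2, 2, 4, 6, 5, 0, 3, 3, 0, 2⟩,
  ⟨6, 5, 6, 0, 6, 1, 0, 1, 4, 0, 1, 5, 0, 3, 6, 6⟩,
  ⟨6, 6, 0, 0, 3, 1, 0, 0, 6, 2, 4, 3, 1, 1, 5, 3⟩,
  ⟨6, 6, 2, 2, 3, 1, 1, 5, 1, 0, 2, 3, 0, 6, 5, 5⟩,
  ⟨6, 6, 3, 3, 3, 1, 5, 4, 5, 3, 3, 1, 5, 2, 4, 4⟩]

theorem hA1 : mul 7 gA gA' = scal 1 := by decide +kernel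
theorem hA2 : mul 7 gA' gA = scal 1 := by decide +kernel
theorem hB1 : mul 7 gB gB' = scal 1 := by decide +kernel
theorem hB2 : mul 7 gB' gB = scal 1 := by decide +kernel

theorem one_mem : scal 1 ∈ L := by decide +kernel
theorem closed_A : ∀ c ∈ L, mul 7 c gA ∈ L := by decide +kernel
theorem closed_A' : ∀ c ∈ L, mul 7 c gA' ∈ L := by decide +kernel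
theorem closed_B : ∀ c ∈ L, mul 7 c gB ∈ L := by decide +kernel
theorem closed_B' : ∀ c ∈ L, mul 7 c gB' ∈ L := by decide +kernel

/-- the decidable property of the elements -/
def good (c : M16) : Bool :=
  (c == scal 1) || (geo 7 c 3 == scal 0) || (geo 7 c 5 == scal 0) ||
  (pw 7 c 1 == scal 6) || (pw 7 c 2 == scal 6) || (pw 7 c 3 == scal 6) ||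
  (pw 7 c 4 == scal 6) || (pw 7 c 5 == scal 6) || (pw 7 c 6 == scal 6)

theorem all_good : ∀ c ∈ L, good c = true := by decide +kernel

end Cfsg.Agent.Lib.Helper62C240
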