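import Cfsg.Agent.Lib.Helper62Prim
import Cfsg.Agent.Lib.Helper35TCd

set_option autoImplicit false

/-! A stabiliser chain whose orbit lengths multiply to the known group order: the base is then a
base, the orbits are the full orbits, and partial base images can be refuted by sifting. -/

namespace Cfsg.Agent.Lib.Helper62Bsgs

open Cfsg.Agent.Lib.Helper62Prim Cfsg.Agent.Lib.Helper35TC

/-- entry `j` of a table packed with 12 bits per entry -/
def look (t j : ℕ) : ℕ := Nat.land (Nat.shiftRight t (Nat.mul 12 j)) 4095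

/-- move `y` to the root of the Schreier tree `sv`, carrying the points `pts` along -/
def walk (tab : ℕ → ℕ) (sv : ℕ) : ℕ → ℕ → List ℕ → Option (List ℕ)
  | 0, _, _ => none
  | f + 1, y, pts =>
    match look sv y with
    | 0 => none
    | 1 => some pts
    | i + 2 => walk tab sv f (look (tab i) y) (pts.map (look (tab i)))

theorem walk_isSome (tab : ℕ → ℕ) (sv : ℕ) : ∀ (f y : ℕ) (pts : List ℕ),
    (walk tab sv f y pts).isSome = (walk tab sv f y []).isSome
  | 0, _, _ => rfl
  | f + 1, y, pts => by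
    unfold walk
    split
    · rfl
    · rfl
    · exact walk_isSome tab sv f _ _

/-- sift a list of images of the base points and of further points `ex` -/
def sift (tab : ℕ → ℕ) (fuel : ℕ) (ex : List ℕ) : List ℕ → List ℕ → Bool
  | sv :: svs, y :: imgs =>
    match walk tab sv fuel y imgs with
    | none => false
    | some imgs' => sift tab fuel ex svs imgs'
  | [], imgs => imgs == ex
  | _ :: _, [] => true

/-- the check of one point of one level -/
def chkLvl (tab : ℕ → ℕ) (m fuel : ℕ) (pre : List ℕ) (β sv y : ℕ) : Bool :=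
  match look sv y with
  | 0 => true
  | 1 => Nat.beq y β && (walk tab sv fuel y []).isSome
  | i + 2 => Nat.blt i m && pre.all (fun b => Nat.beq (look (tab i) b) b) &&
      (walk tab sv fuel y []).isSome

variable {Γ : Type*} [Group Γ] {n : ℕ} (φ : Γ →* Equiv.Perm (Fin n))

/-- the table `t` describes the permutation of `g` -/
def Rep (g : Γ) (t : ℕ) : Prop := ∀ j : Fin n, (φ g j).val = look t j.val

/-- the pointwise stabiliser of a list of points -/
def fixG (l : List (Fin n)) : Subgroup Γ where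
  carrier := {g | ∀ b ∈ l, φ g b = b}
  one_mem' := fun b _ => by rw [map_one, Equiv.Perm.one_apply]
  mul_mem' := fun {x y} hx hy b hb => by rw [map_mul, Equiv.Perm.mul_apply, hy b hb, hx b hb]
  inv_mem' := fun {x} hx b hb => by
    rw [map_inv, Equiv.Perm.inv_eq_iff_eq]; exact (hx b hb).symm

theorem mem_fixG {l : List (Fin n)} {g : Γ} : g ∈ fixG φ l ↔ ∀ b ∈ l, φ g b = b := Iff.rfl

theorem fixG_cons (b : Fin n) (l : List (Fin n)) : fixG φ (b :: l) = fixG φ l ⊓ stab φ b := by
  ext g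
  rw [Subgroup.mem_inf, mem_stab, mem_fixG, mem_fixG]
  simp only [List.mem_cons, forall_eq_or_imp]
  exact and_comm

theorem fixG_nil : fixG φ ([] : List (Fin n)) = ⊤ := by
  ext g
  simp [mem_fixG]

/-- the verified part of a level -/
structure Pre (tab : ℕ → ℕ) (el : ℕ → Γ) (fuel : ℕ) (M : Subgroup Γ) (β : Fin n) (sv : ℕ) :
    Prop where
  root : ∀ y : Fin n, look sv y.val = 1 → y = β
  elm : ∀ (y : Fin n) (i : ℕ), look sv y.val = i + 2 → el i ∈ M ∧ Rep φ (el i) (tab i)
  tot : ∀ y : Fin n, look sv y.val ≠ 0 → (walk tab sv fuel y.val []).isSome = true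

theorem pre_of_chk (tab : ℕ → ℕ) (el : ℕ → Γ) (m fuel : ℕ) (pre : List (Fin n)) (β : Fin n)
    (sv : ℕ) (hrep : ∀ i < m, Rep φ (el i) (tab i))
    (h : ∀ y < n, chkLvl tab m fuel (pre.map Fin.val) β.val sv y = true) :
    Pre φ tab el fuel (fixG φ pre) β sv := by
  refine ⟨fun y hy => ?_, fun y i hy => ?_, fun y hy => ?_⟩
  · have := h y.val y.isLt
    unfold chkLvl at this
    rw [hy] at this
    simp only [Bool.and_eq_true, Nat.beq_eq] at this
    exact Fin.ext this.1
  · have := h y.val y.isLt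
    unfold chkLvl at this
    rw [hy] at this
    simp only [Bool.and_eq_true, List.all_eq_true, Nat.beq_eq, Nat.blt_eq] at this
    obtain ⟨⟨h1, h2⟩, -⟩ := this
    refine ⟨fun b hb => ?_, hrep i h1⟩
    apply Fin.ext
    rw [hrep i h1 b]
    exact h2 b.val (List.mem_map.2 ⟨b, hb, rfl⟩)
  · have := h y.val y.isLt
    unfold chkLvl at this
    revert this
    split
    · rename_i h0; exact absurd h0 hy
    · intro this
      simp only [Bool.and_eq_true] at this
      exact this.2
    · intro this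
      simp only [Bool.and_eq_true] at this
      exact this.2

variable {φ}

theorem walk_sound {tab : ℕ → ℕ} {el : ℕ → Γ} {fuel : ℕ} {M : Subgroup Γ} {β : Fin n} {sv : ℕ}
    (P : Pre φ tab el fuel M β sv) : ∀ (f : ℕ) (y : Fin n) (pts : List (Fin n)) (r : List ℕ),
      walk tab sv f y.val (pts.map Fin.val) = some r →
      ∃ w ∈ M, φ w y = β ∧ r = (pts.map (φ w)).map Fin.val
  | 0, _, _, _, h => by simp [walk] at h
  | f + 1, y, pts, r, h => by
    unfold walk at h
    split at h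
    · exact absurd h (by simp)
    · rename_i h1
      refine ⟨1, M.one_mem, ?_, ?_⟩
      · rw [map_one, Equiv.Perm.one_apply]; exact P.root y h1
      · rw [map_one]
        simp only [Option.some.injEq] at h
        rw [← h]
        simp
    · rename_i i hi
      obtain ⟨hm, hr⟩ := P.elm y i hi
      have e1 : look (tab i) y.val = (φ (el i) y).val := (hr y).symm
      have e2 : (pts.map Fin.val).map (look (tab i)) = (pts.map (φ (el i))).map Fin.val := by
        rw [List.map_map, List.map_map]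
        apply List.map_congr_left
        intro a _
        exact (hr a).symm
      rw [e1, e2] at h
      obtain ⟨w, hw, h2, h3⟩ := walk_sound P f _ _ r h
      refine ⟨w * el i, M.mul_mem hw hm, ?_, ?_⟩
      · rw [map_mul, Equiv.Perm.mul_apply, h2]
      · rw [h3]
        congr 1
        rw [List.map_map]
        apply List.map_congr_left
        intro a _
        rw [map_mul, Equiv.Perm.mul_apply]
        rfl

theorem Pre.reach {tab : ℕ → ℕ} {el : ℕ → Γ} {fuel : ℕ} {M : Subgroup Γ} {β : Fin n} {sv : ℕ}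
    (P : Pre φ tab el fuel M β sv) (y : Fin n) (hy : look sv y.val ≠ 0) :
    ∃ m ∈ M, φ m β = y := by
  have h := P.tot y hy
  obtain ⟨r, hr⟩ := Option.isSome_iff_exists.1 h
  obtain ⟨w, hw, h1, -⟩ := walk_sound P fuel y [] r hr
  refine ⟨w⁻¹, M.inv_mem hw, ?_⟩
  rw [map_inv, Equiv.Perm.inv_eq_iff_eq]
  exact h1.symm

theorem beq_zero_false (a : ℕ) : Nat.beq a 0 = false ↔ a ≠ 0 := by
  cases a <;> simp [Nat.beq]

/-- the points of the tree -/
def orb (n sv : ℕ) : Finset (Fin n) := Finset.univ.filter (fun y : Fin n => look sv y.val ≠ 0)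

theorem card_orb (n sv d : ℕ) (hd : n ≤ 2 ^ d) :
    (orb n sv).card = cntD (fun y => Nat.blt y n && !(Nat.beq (look sv y) 0)) d 0 := by
  rw [← card_filter_range _ d n hd (fun u hu => by
    simp only [Bool.and_eq_true, Nat.blt_eq] at hu; exact hu.1)]
  unfold orb
  apply Finset.card_bij (fun (y : Fin n) _ => y.val)
  · intro y hy
    rw [Finset.mem_filter] at hy
    rw [Finset.mem_filter, Finset.mem_range]
    refine ⟨y.isLt, ?_⟩
    simp only [Bool.and_eq_true, Nat.blt_eq, Bool.not_eq_true', beq_zero_false]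
    exact ⟨y.isLt, hy.2⟩
  · intro a _ b _ h
    exact Fin.ext h
  · intro u hu
    rw [Finset.mem_filter, Finset.mem_range] at hu
    simp only [Bool.and_eq_true, Nat.blt_eq, Bool.not_eq_true', beq_zero_false] at hu
    exact ⟨⟨u, hu.1⟩, by rw [Finset.mem_filter]; exact ⟨Finset.mem_univ _, hu.2.2⟩, rfl⟩

section tight

theorem orbit_card (M : Subgroup Γ) (β : Fin n) :
    Nat.card {j : Fin n // ∃ m ∈ M, φ m β = j} * Nat.card ↥(M ⊓ stab φ β) = Nat.card M := by
  rw [← relIndex_eq φ M M β le_rfl]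
  have h := Subgroup.relIndex_mul_relIndex ⊥ (M ⊓ stab φ β) M bot_le inf_le_left
  rw [Subgroup.relIndex_bot_left, Subgroup.relIndex_bot_left] at h
  rw [mul_comm]
  exact h

theorem le_orbit (M : Subgroup Γ) (β : Fin n) (O : Finset (Fin n))
    (hO : ∀ y ∈ O, ∃ m ∈ M, φ m β = y) :
    O.card ≤ Nat.card {j : Fin n // ∃ m ∈ M, φ m β = j} := by
  classical
  rw [Nat.card_eq_fintype_card, Fintype.card_subtype]
  apply Finset.card_le_card
  intro y hy
  rw [Finset.mem_filter]
  exact ⟨Finset.mem_univ _, hO y hy⟩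

theorem low (M : Subgroup Γ) (β : Fin n) (O : Finset (Fin n))
    (hO : ∀ y ∈ O, ∃ m ∈ M, φ m β = y) (a b : ℕ) (ha : O.card = a)
    (hb : b ≤ Nat.card ↥(M ⊓ stab φ β)) : a * b ≤ Nat.card M := by
  rw [← orbit_card (φ := φ) M β, ← ha]
  exact Nat.mul_le_mul (le_orbit M β O hO) hb

theorem tight (M : Subgroup Γ) (β : Fin n) (O : Finset (Fin n))
    (hO : ∀ y ∈ O, ∃ m ∈ M, φ m β = y) (a b : ℕ) (ha : O.card = a) (hcard : Nat.card M = a * b)
    (hb : b ≤ Nat.card ↥(M ⊓ stab φ β)) (ha0 : 0 < a) (hb0 : 0 < b) :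
    Nat.card ↥(M ⊓ stab φ β) = b ∧ ∀ m ∈ M, φ m β ∈ O := by
  classical
  have h1 := orbit_card (φ := φ) M β
  have h2 := le_orbit M β O hO
  rw [ha] at h2
  rw [hcard] at h1
  set x := Nat.card {j : Fin n // ∃ m ∈ M, φ m β = j} with hx
  set c := Nat.card ↥(M ⊓ stab φ β) with hc
  have hxa : x = a := by
    by_contra hne
    have hlt : a < x := lt_of_le_of_ne h2 (Ne.symm hne)
    have : a * b < x * c := Nat.mul_lt_mul_of_lt_of_le hlt hb (lt_of_lt_of_le hb0 hb)
    omega
  have hcb : c = b := by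
    rw [hxa] at h1
    exact Nat.eq_of_mul_eq_mul_left ha0 h1
  refine ⟨hcb, ?_⟩
  have hsub : O ⊆ Finset.univ.filter (fun j : Fin n => ∃ m ∈ M, φ m β = j) := by
    intro y hy
    rw [Finset.mem_filter]
    exact ⟨Finset.mem_univ _, hO y hy⟩
  have hcard2 : (Finset.univ.filter (fun j : Fin n => ∃ m ∈ M, φ m β = j)).card ≤ O.card := by
    rw [ha, ← hxa, hx, Nat.card_eq_fintype_card, Fintype.card_subtype]
  have heq := Finset.eq_of_subset_of_card_le hsub hcard2
  intro m hm
  rw [heq, Finset.mem_filter]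
  exact ⟨Finset.mem_univ _, m, hm, rfl⟩

end tight

theorem sift_step {tab : ℕ → ℕ} {el : ℕ → Γ} {fuel : ℕ} {M : Subgroup Γ} {β : Fin n} {sv : ℕ}
    (P : Pre φ tab el fuel M β sv) (hex : ∀ m ∈ M, φ m β ∈ orb n sv)
    (ex svs : List ℕ) (bs : List (Fin n))
    (ih : ∀ g ∈ M ⊓ stab φ β, sift tab fuel ex svs ((bs.map (φ g)).map Fin.val) = true) :
    ∀ g ∈ M, sift tab fuel ex (sv :: svs) (((β :: bs).map (φ g)).map Fin.val) = true := by
  intro g hg
  have h0 : look sv (φ g β).val ≠ 0 := (Finset.mem_filter.1 (hex g hg)).2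
  have h1 := P.tot _ h0
  rw [← walk_isSome tab sv fuel _ ((bs.map (φ g)).map Fin.val)] at h1
  obtain ⟨r, hr⟩ := Option.isSome_iff_exists.1 h1
  obtain ⟨w, hw, h2, h3⟩ := walk_sound P fuel _ _ r hr
  rw [List.map_cons, List.map_cons]
  unfold sift
  rw [hr]
  show sift tab fuel ex svs r = true
  have : (bs.map (φ g)).map (φ w) = bs.map (φ (w * g)) := by
    rw [List.map_map]
    apply List.map_congr_left
    intro a _
    rw [map_mul, Equiv.Perm.mul_apply]
    rfl
  rw [h3, this]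
  apply ih
  refine Subgroup.mem_inf.2 ⟨M.mul_mem hw hg, ?_⟩
  rw [mem_stab, map_mul, Equiv.Perm.mul_apply, h2]

theorem Pre.reach' {tab : ℕ → ℕ} {el : ℕ → Γ} {fuel : ℕ} {M : Subgroup Γ} {β : Fin n} {sv : ℕ}
    (P : Pre φ tab el fuel M β sv) : ∀ y ∈ orb n sv, ∃ m ∈ M, φ m β = y :=
  fun y hy => P.reach y (Finset.mem_filter.1 hy).2

/-- four levels -/
theorem main4 (tab : ℕ → ℕ) (el : ℕ → Γ) (fuel : ℕ) (b1 b2 b3 b4 : Fin n)
    (s1 s2 s3 s4 a1 a2 a3 a4 : ℕ)
    (P1 : Pre φ tab el fuel (fixG φ []) b1 s1) (P2 : Pre φ tab el fuel (fixG φ [b1]) b2 s2)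
    (P3 : Pre φ tab el fuel (fixG φ [b2, b1]) b3 s3)
    (P4 : Pre φ tab el fuel (fixG φ [b3, b2, b1]) b4 s4)
    (h1 : (orb n s1).card = a1) (h2 : (orb n s2).card = a2) (h3 : (orb n s3).card = a3)
    (h4 : (orb n s4).card = a4) (p1 : 0 < a1) (p2 : 0 < a2) (p3 : 0 < a3) (p4 : 0 < a4)
    (hN : Nat.card Γ = a1 * (a2 * (a3 * (a4 * 1)))) :
    (∀ g : Γ, φ g b1 = b1 → φ g b2 = b2 → φ g b3 = b3 → φ g b4 = b4 → g = 1) ∧
    (∀ (ex : List (Fin n)) (g : Γ), sift tab fuel (ex.map Fin.val) [s1, s2, s3, s4]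
      (((b1 :: b2 :: b3 :: b4 :: ex).map (φ g)).map Fin.val) = true) := by
  have hfin : Finite Γ := by
    apply Nat.finite_of_card_ne_zero
    rw [hN]
    positivity
  have l4 : 1 ≤ Nat.card ↥(fixG φ [b3, b2, b1] ⊓ stab φ b4) := Nat.card_pos
  have l3 := low _ b4 _ P4.reach' a4 1 h4 l4
  rw [fixG_cons] at l3
  have l2 := low _ b3 _ P3.reach' a3 _ h3 l3
  rw [fixG_cons] at l2
  have l1 := low _ b2 _ P2.reach' a2 _ h2 l2
  rw [fixG_cons] at l1
  have c0 : Nat.card ↥(fixG φ ([] : List (Fin n))) = a1 * (a2 * (a3 * (a4 * 1))) := by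
    rw [fixG_nil, Subgroup.card_top, hN]
  obtain ⟨c1, e1⟩ := tight _ b1 _ P1.reach' a1 _ h1 c0 l1 p1 (by positivity)
  rw [← fixG_cons] at c1
  obtain ⟨c2, e2⟩ := tight _ b2 _ P2.reach' a2 _ h2 c1 l2 p2 (by positivity)
  rw [← fixG_cons] at c2
  obtain ⟨c3, e3⟩ := tight _ b3 _ P3.reach' a3 _ h3 c2 l3 p3 (by positivity)
  rw [← fixG_cons] at c3
  obtain ⟨c4, e4⟩ := tight _ b4 _ P4.reach' a4 _ h4 c3 l4 p4 one_pos
  have hbot := Subgroup.card_eq_one.1 c4
  constructor
  · intro g g1 g2 g3 g4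
    have hg : g ∈ fixG φ [b3, b2, b1] ⊓ stab φ b4 := by
      refine Subgroup.mem_inf.2 ⟨?_, (mem_stab φ).2 g4⟩
      intro b hb
      simp only [List.mem_cons, List.not_mem_nil, or_false] at hb
      rcases hb with rfl | rfl | rfl
      · exact g3
      · exact g2
      · exact g1
    rw [hbot] at hg
    exact Subgroup.mem_bot.1 hg
  · intro ex g
    have s4' := sift_step P4 e4 (ex.map Fin.val) [] ex (fun g hg => by
      rw [hbot] at hg
      rw [Subgroup.mem_bot.1 hg, map_one]
      simp [sift])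
    rw [fixG_cons] at s4'
    have s3' := sift_step P3 e3 (ex.map Fin.val) [s4] (b4 :: ex) s4'
    rw [fixG_cons] at s3'
    have s2' := sift_step P2 e2 (ex.map Fin.val) [s3, s4] (b3 :: b4 :: ex) s3'
    rw [fixG_cons] at s2'
    have s1' := sift_step P1 e1 (ex.map Fin.val) [s2, s3, s4] (b2 :: b3 :: b4 :: ex) s2'
    exact s1' g (by rw [fixG_nil]; exact Subgroup.mem_top g)

end Cfsg.Agent.Lib.Helper62Bsgs
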