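import Mathlib
import Cfsg.Prelude.Def_KGroupFacts

set_option autoImplicit false

/-! Outer automorphism group of order two from a Sylow subgroup of prime order. -/

namespace Cfsg.Agent.Lib.Helper62OutLem

open scoped Pointwise

variable {G : Type*} [Group G]

theorem exists_conj_pow [Finite G] (p c : ℕ) [hp : Fact p.Prime] (u : G) (hu : orderOf u = p)
    (hcard : Nat.card G = p * c) (hc : ¬ p ∣ c) (α : MulAut G) :
    ∃ g : G, ∃ m : ℕ, g * α u * g⁻¹ = u ^ m := by
  have hc0 : c ≠ 0 := by rintro rfl; exact hc (dvd_zero p)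
  have hfac : (Nat.card G).factorization p = 1 := by
    rw [hcard, Nat.factorization_mul hp.out.ne_zero hc0]
    simp [hp.out.factorization_self, Nat.factorization_eq_zero_of_not_dvd hc]
  have key : ∀ x : G, orderOf x = p → ∃ S : Sylow p G, (S : Subgroup G) = Subgroup.zpowers x := by
    intro x hx
    have hcx : Nat.card (Subgroup.zpowers x) = p ^ 1 := by rw [Nat.card_zpowers, hx, pow_one]
    obtain ⟨S, hS⟩ := (IsPGroup.of_card hcx).exists_le_sylow
    refine ⟨S, (Subgroup.eq_of_le_of_card_ge hS ?_).symm⟩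
    rw [S.card_eq_multiplicity, hfac, hcx]
  obtain ⟨S, hS⟩ := key u hu
  have hαu : orderOf (α u) = p := by rw [MulEquiv.orderOf_eq, hu]
  obtain ⟨S', hS'⟩ := key (α u) hαu
  obtain ⟨g, hg⟩ := MulAction.exists_smul_eq G S' S
  have h1 : α u ∈ (S' : Subgroup G) := by rw [hS']; exact Subgroup.mem_zpowers _
  have h2 : MulAut.conj g • α u ∈ MulAut.conj g • (S' : Subgroup G) :=
    Subgroup.smul_mem_pointwise_smul _ _ _ h1
  rw [← Sylow.coe_subgroup_smul, hg, hS, MulAut.smul_def, MulAut.conj_apply] at h2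
  have hfo : IsOfFinOrder u := isOfFinOrder_of_finite u
  obtain ⟨m, hm⟩ := (hfo.mem_powers_iff_mem_zpowers).2 h2
  exact ⟨g, m, hm.symm⟩

theorem aut_pow_apply (γ : MulAut G) (u : G) (k : ℕ) (h : γ u = u ^ k) :
    ∀ i : ℕ, (γ ^ i) u = u ^ (k ^ i)
  | 0 => by simp
  | i + 1 => by
    rw [pow_succ, MulAut.mul_apply, h, map_pow, aut_pow_apply γ u k h i, ← pow_mul, pow_succ]

theorem card_out [Finite G] (p c k r : ℕ) [hp : Fact p.Prime] (u v : G) (hu : orderOf u = p)
    (hcard : Nat.card G = p * c) (hc : ¬ p ∣ c) (hv : v * u * v⁻¹ = u ^ k)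
    (σ : MulAut G) (hσ : σ u = u ^ r)
    (hexp : ∀ m < p, 0 < m → ∃ i : ℕ, m ≡ k ^ i [MOD p] ∨ m ≡ r * k ^ i [MOD p])
    (hrig : ∀ β : MulAut G, β u = u → β ∈ Cfsg.Inn G) (hout : σ ∉ Cfsg.Inn G) :
    Nat.card (Cfsg.Out G) = 2 := by
  have hN : (Cfsg.Inn G).Normal := Cfsg.innNormal G
  have hconj : ∀ g : G, MulAut.conj g ∈ Cfsg.Inn G := fun g => ⟨g, rfl⟩
  have key : ∀ α : MulAut G, α ∈ Cfsg.Inn G ∨ α * σ⁻¹ ∈ Cfsg.Inn G := by
    intro α
    obtain ⟨g, m0, hm0⟩ := exists_conj_pow p c u hu hcard hc α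
    have hu1 : u ≠ 1 := by
      intro h
      rw [h, orderOf_one] at hu
      exact hp.out.one_lt.ne hu
    set m := m0 % p with hm
    have hmp : m < p := Nat.mod_lt _ hp.out.pos
    have hum : u ^ m0 = u ^ m := by rw [hm, ← hu, pow_mod_orderOf]
    have hm1 : 0 < m := by
      rcases Nat.eq_zero_or_pos m with h0 | h0
      · exfalso
        rw [hum, h0, pow_zero] at hm0
        have h3 : α u = 1 := by
          have : α u = g⁻¹ * (g * α u * g⁻¹) * g := by group
          rw [this, hm0]; group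
        exact hu1 (by simpa using h3)
      · exact h0
    have hα1 : (MulAut.conj g * α) u = u ^ m := by
      rw [MulAut.mul_apply, MulAut.conj_apply, hm0, hum]
    have hcv : (MulAut.conj v) u = u ^ k := by rw [MulAut.conj_apply, hv]
    obtain ⟨i, hi | hi⟩ := hexp m hmp hm1
    · left
      have h1 : ((MulAut.conj v ^ i)⁻¹ * (MulAut.conj g * α)) u = u := by
        rw [MulAut.mul_apply, hα1, MulAut.inv_apply, MulEquiv.symm_apply_eq,
          aut_pow_apply _ u k hcv i]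
        exact (pow_eq_pow_iff_modEq.2 (by rw [hu]; exact hi))
      have h2 := hrig _ h1
      have h3 : α = (MulAut.conj g)⁻¹ * ((MulAut.conj v ^ i) *
          ((MulAut.conj v ^ i)⁻¹ * (MulAut.conj g * α))) := by group
      rw [h3]
      exact (Cfsg.Inn G).mul_mem ((Cfsg.Inn G).inv_mem (hconj g))
        ((Cfsg.Inn G).mul_mem ((Cfsg.Inn G).pow_mem (hconj v) i) h2)
    · right
      have h1 : ((MulAut.conj v ^ i * σ)⁻¹ * (MulAut.conj g * α)) u = u := by
        rw [MulAut.mul_apply, hα1, MulAut.inv_apply, MulEquiv.symm_apply_eq, MulAut.mul_apply, hσ,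
          map_pow, aut_pow_apply _ u k hcv i, ← pow_mul]
        refine (pow_eq_pow_iff_modEq.2 ?_)
        rw [hu, mul_comm]
        exact hi
      have h2 := hrig _ h1
      set n2 := (MulAut.conj v ^ i * σ)⁻¹ * (MulAut.conj g * α) with hn2
      have h3 : α * σ⁻¹ = (MulAut.conj g)⁻¹ * ((MulAut.conj v ^ i) * (σ * n2 * σ⁻¹)) := by
        rw [hn2]; group
      rw [h3]
      exact (Cfsg.Inn G).mul_mem ((Cfsg.Inn G).inv_mem (hconj g))
        ((Cfsg.Inn G).mul_mem ((Cfsg.Inn G).pow_mem (hconj v) i) (hN.conj_mem _ h2 σ))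
  show Nat.card (MulAut G ⧸ Cfsg.Inn G) = 2
  rw [← Subgroup.index_eq_card, Subgroup.index_eq_two_iff]
  refine ⟨σ⁻¹, fun b => ?_⟩
  by_cases hb : b ∈ Cfsg.Inn G
  · right
    refine ⟨hb, fun h => hout ?_⟩
    have : σ = (b * σ⁻¹)⁻¹ * b := by group
    rw [this]
    exact (Cfsg.Inn G).mul_mem ((Cfsg.Inn G).inv_mem h) hb
  · left
    exact ⟨(key b).resolve_left hb, hb⟩

/-- an element acting on `u` as `v` does differs from `v` by an element commuting with `u` -/
theorem comm_of_conj_eq (u v w : G) (h : w * u * w⁻¹ = v * u * v⁻¹) :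
    (v⁻¹ * w) * u = u * (v⁻¹ * w) := by
  have h1 : w * u = v * u * v⁻¹ * w := by rw [← h]; group
  calc (v⁻¹ * w) * u = v⁻¹ * (w * u) := by group
    _ = v⁻¹ * (v * u * v⁻¹ * w) := by rw [h1]
    _ = u * (v⁻¹ * w) := by group

theorem rigid (u v s : G) (hu : u ^ 17 = 1) (hv : v * u * v⁻¹ = u ^ 8)
    (hCu : ∀ c : G, c * u = u * c → ∃ j : ℕ, c = u ^ j)
    (hs : s * v * s⁻¹ = v ^ 3) (hs2 : s * s = 1) (hus : (u * s) ^ 8 = 1)
    (hL : ∀ c : G, c * v = v * c → (s * c) * (s * c) = 1 → (u * (s * c)) ^ 8 = 1 → c = 1)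
    (hgen : ∀ β : MulAut G, β u = u → β v = v → β s = s → β = 1)
    (β : MulAut G) (hβ : β u = u) : β ∈ Cfsg.Inn G := by
  have h1 : β v * u * (β v)⁻¹ = v * u * v⁻¹ := by
    have := congrArg β hv
    rw [map_mul, map_mul, map_inv, map_pow, hβ] at this
    rw [this, hv]
  obtain ⟨j, hj⟩ := hCu _ (comm_of_conj_eq u v (β v) h1)
  have hβv : β v = v * u ^ j := by rw [← hj]; group
  have hvu : ∀ a : ℕ, v * u ^ a = u ^ (8 * a) * v := by
    intro a
    have : v * u ^ a * v⁻¹ = u ^ (8 * a) := by rw [← conj_pow, hv, ← pow_mul]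
    rw [← this]; group
  set γ : MulAut G := MulAut.conj (u ^ (6 * j)) * β with hγ
  have gu : γ u = u := by
    rw [hγ, MulAut.mul_apply, hβ, MulAut.conj_apply]
    have : u ^ (6 * j) * u = u * u ^ (6 * j) := (Commute.pow_self u _).symm.eq.symm ▸ rfl
    rw [this]; group
  have gv : γ v = v := by
    rw [hγ, MulAut.mul_apply, hβv, MulAut.conj_apply]
    have e1 : u ^ (6 * j) * (v * u ^ j) = v * u ^ (6 * j) := by
      rw [hvu j, hvu (6 * j), ← mul_assoc, ← pow_add]
      congr 1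
      have : 8 * (6 * j) = (6 * j + 8 * j) + 17 * (2 * j) := by ring
      rw [this, pow_add _ (6 * j + 8 * j), pow_mul u 17, hu, one_pow, mul_one]
    rw [e1]; group
  have h2 : γ s * v * (γ s)⁻¹ = s * v * s⁻¹ := by
    have := congrArg γ hs
    rw [map_mul, map_mul, map_inv, map_pow, gv] at this
    rw [this, hs]
  have hc := comm_of_conj_eq v s (γ s) h2
  have hsc : s * (s⁻¹ * γ s) = γ s := by group
  have hc1 : s⁻¹ * γ s = 1 := by
    apply hL _ hc
    · rw [hsc, ← map_mul, hs2, map_one]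
    · rw [hsc]
      have := congrArg γ hus
      rw [map_pow, map_mul, gu, map_one] at this
      exact this
  have gs : γ s = s := by rw [← hsc, hc1, mul_one]
  have hγ1 := hgen γ gu gv gs
  have : β = (MulAut.conj (u ^ (6 * j)))⁻¹ * γ := by rw [hγ]; group
  rw [this, hγ1, mul_one]
  exact (Cfsg.Inn G).inv_mem ⟨_, rfl⟩

end Cfsg.Agent.Lib.Helper62OutLem
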