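import Cfsg.Agent.Lib.Helper62Bsgs
import Cfsg.Agent.Lib.Helper62OutLem

set_option autoImplicit false

/-! Additions to the stabiliser chain engine: evaluation of the inverse of an element given by its
base images, generation by the labels of the Schreier trees, and a general rigidity lemma. -/

namespace Cfsg.Agent.Lib.Helper62Bsgs2

open Cfsg.Agent.Lib.Helper62Prim Cfsg.Agent.Lib.Helper35TC Cfsg.Agent.Lib.Helper62Bsgs

theorem walk_length (tab : ℕ → ℕ) (sv : ℕ) : ∀ (f y : ℕ) (pts r : List ℕ),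
    walk tab sv f y pts = some r → r.length = pts.length
  | 0, _, _, _, h => by simp [walk] at h
  | f + 1, y, pts, r, h => by
    unfold walk at h
    split at h
    · exact absurd h (by simp)
    · simp only [Option.some.injEq] at h
      rw [h]
    · rw [walk_length tab sv f _ _ r h, List.length_map]

/-- sift and return the points carried along -/
def siftO (tab : ℕ → ℕ) (fuel : ℕ) : List ℕ → List ℕ → Option (List ℕ)
  | sv :: svs, y :: imgs =>
    match walk tab sv fuel y imgs with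
    | none => none
    | some imgs' => siftO tab fuel svs imgs'
  | [], imgs => some imgs
  | _ :: _, [] => none

theorem siftO_of_sift (tab : ℕ → ℕ) (fuel : ℕ) (ex : List ℕ) : ∀ (svs imgs : List ℕ),
    svs.length ≤ imgs.length → sift tab fuel ex svs imgs = true → siftO tab fuel svs imgs = some ex
  | [], imgs, _, h => by
    unfold sift at h
    unfold siftO
    rw [beq_iff_eq] at h
    rw [h]
  | _ :: _, [], hl, _ => by simp at hl
  | sv :: svs, y :: imgs, hl, h => by
    unfold sift at h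
    unfold siftO
    cases hw : walk tab sv fuel y imgs with
    | none => rw [hw] at h; exact absurd h (by simp)
    | some r =>
      rw [hw] at h
      have h' : sift tab fuel ex svs r = true := h
      show siftO tab fuel svs r = some ex
      apply siftO_of_sift tab fuel ex svs r _ h'
      rw [walk_length tab sv fuel y imgs r hw]
      simpa using hl

variable {Γ : Type*} [Group Γ] {n : ℕ} {φ : Γ →* Equiv.Perm (Fin n)}

theorem Pre.inf {tab : ℕ → ℕ} {el : ℕ → Γ} {fuel : ℕ} {M : Subgroup Γ} {β : Fin n} {sv : ℕ}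
    (P : Pre φ tab el fuel M β sv) (L : Subgroup Γ)
    (hL : ∀ (y : Fin n) (i : ℕ), look sv y.val = i + 2 → el i ∈ L) :
    Pre φ tab el fuel (M ⊓ L) β sv :=
  ⟨P.root, fun y i h => ⟨Subgroup.mem_inf.2 ⟨(P.elm y i h).1, hL y i h⟩, (P.elm y i h).2⟩, P.tot⟩

/-- a subgroup containing the labels of the four trees is everything -/
theorem gen4 (tab : ℕ → ℕ) (el : ℕ → Γ) (fuel : ℕ) (b1 b2 b3 b4 : Fin n)
    (s1 s2 s3 s4 a1 a2 a3 a4 : ℕ)
    (P1 : Pre φ tab el fuel (fixG φ []) b1 s1) (P2 : Pre φ tab el fuel (fixG φ [b1]) b2 s2)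
    (P3 : Pre φ tab el fuel (fixG φ [b2, b1]) b3 s3)
    (P4 : Pre φ tab el fuel (fixG φ [b3, b2, b1]) b4 s4)
    (h1 : (orb n s1).card = a1) (h2 : (orb n s2).card = a2) (h3 : (orb n s3).card = a3)
    (h4 : (orb n s4).card = a4) (hpos : 0 < a1 * (a2 * (a3 * (a4 * 1))))
    (hN : Nat.card Γ = a1 * (a2 * (a3 * (a4 * 1)))) (L : Subgroup Γ)
    (hL : ∀ sv ∈ [s1, s2, s3, s4], ∀ (y : Fin n) (i : ℕ), look sv y.val = i + 2 → el i ∈ L) :
    L = ⊤ := by
  have hfin : Finite Γ := by
    apply Nat.finite_of_card_ne_zero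
    rw [hN]
    exact hpos.ne'
  have Q1 := Pre.inf P1 L (hL s1 (by simp))
  have Q2 := Pre.inf P2 L (hL s2 (by simp))
  have Q3 := Pre.inf P3 L (hL s3 (by simp))
  have Q4 := Pre.inf P4 L (hL s4 (by simp))
  have l4 : 1 ≤ Nat.card ↥((fixG φ [b3, b2, b1] ⊓ L) ⊓ stab φ b4) := Nat.card_pos
  have l3 := low _ b4 _ Q4.reach' a4 1 h4 l4
  rw [fixG_cons, inf_right_comm] at l3
  have l2 := low _ b3 _ Q3.reach' a3 _ h3 l3
  rw [fixG_cons, inf_right_comm] at l2
  have l1 := low _ b2 _ Q2.reach' a2 _ h2 l2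
  rw [fixG_cons, inf_right_comm] at l1
  have l0 := low _ b1 _ Q1.reach' a1 _ h1 l1
  rw [fixG_nil, top_inf_eq, ← hN] at l0
  exact Subgroup.eq_top_of_le_card L l0

/-- automorphisms fixing `u` are inner, if those fixing `u` and `v` are trivial -/
theorem rigid2 {G : Type*} [Group G] (p k a m : ℕ) (u v : G) (hu : u ^ p = 1)
    (hv : v * u * v⁻¹ = u ^ k) (hka : k * a = a + k + p * m)
    (hCu : ∀ c : G, c * u = u * c → ∃ j : ℕ, c = u ^ j)
    (hfix : ∀ γ : MulAut G, γ u = u → γ v = v → γ = 1)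
    (β : MulAut G) (hβ : β u = u) : β ∈ Cfsg.Inn G := by
  have h1 : β v * u * (β v)⁻¹ = v * u * v⁻¹ := by
    have := congrArg β hv
    rw [map_mul, map_mul, map_inv, map_pow, hβ] at this
    rw [this, hv]
  obtain ⟨j, hj⟩ := hCu _ (Cfsg.Agent.Lib.Helper62OutLem.comm_of_conj_eq u v (β v) h1)
  have hβv : β v = v * u ^ j := by rw [← hj]; group
  have hvu : ∀ b : ℕ, v * u ^ b = u ^ (k * b) * v := by
    intro b
    have : v * u ^ b * v⁻¹ = u ^ (k * b) := by rw [← conj_pow, hv, ← pow_mul]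
    rw [← this]; group
  set γ : MulAut G := MulAut.conj (u ^ (a * j)) * β with hγ
  have gu : γ u = u := by
    rw [hγ, MulAut.mul_apply, hβ, MulAut.conj_apply]
    have : u ^ (a * j) * u = u * u ^ (a * j) := (Commute.pow_self u _).eq
    rw [this]; group
  have gv : γ v = v := by
    rw [hγ, MulAut.mul_apply, hβv, MulAut.conj_apply]
    have e1 : u ^ (a * j) * (v * u ^ j) = v * u ^ (a * j) := by
      rw [hvu j, hvu (a * j), ← mul_assoc, ← pow_add]
      congr 1
      have : k * (a * j) = (a * j + k * j) + p * (m * j) := by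
        rw [← mul_assoc, hka]; ring
      rw [this, pow_add _ (a * j + k * j), pow_mul u p, hu, one_pow, mul_one]
    rw [e1]; group
  have hγ1 := hfix γ gu gv
  have : β = (MulAut.conj (u ^ (a * j)))⁻¹ * γ := by rw [hγ]; group
  rw [this, hγ1, mul_one]
  exact (Cfsg.Inn G).inv_mem ⟨_, rfl⟩

end Cfsg.Agent.Lib.Helper62Bsgs2
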