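import Mathlib
import Cfsg.Agent.Lib.Helper62M16

set_option autoImplicit false

namespace Cfsg.Agent.Lib.Helper62C48

open Cfsg.Agent.Lib.Helper62M16

/-- first generator (order 8) -/
def gA : M16 := ⟨0, 6, 0, 0, 3, 0, 0, 0, 0, 0, 0, 9, 0, 0, 11, 0⟩
/-- its inverse -/
def gA' : M16 := ⟨0, 9, 0, 0, 11, 0, 0, 0, 0, 0, 0, 6, 0, 0, 3, 0⟩
/-- second generator (order 6) -/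
def gB : M16 := ⟨3, 0, 3, 0, 0, 3, 0, 3, 2, 0, 11, 0, 0, 2, 0, 11⟩
/-- its inverse -/
def gB' : M16 := ⟨11, 0, 10, 0, 0, 11, 0, 10, 11, 0, 3, 0, 0, 11, 0, 3⟩

/-- the 48 elements of the binary octahedral group in `GL(4,13)` -/
def L : List M16 := [
  ⟨0, 0, 0, 4, 0, 0, 2, 0, 0, 6, 0, 0, 3, 0, 0, 0⟩,
  ⟨0, 0, 0, 6, 0, 0, 3, 0, 0, 4, 0, 0, 2, 0, 0, 0⟩,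
  ⟨0, 0, 0, 7, 0, 0, 10, 0, 0, 9, 0, 0, 11, 0, 0, 0⟩,
  ⟨0, 0, 0, 9, 0, 0, 11, 0, 0, 7, 0, 0, 10, 0, 0, 0⟩,
  ⟨0, 0, 1, 0, 0, 0, 0, 1, 12, 0, 0, 0, 0, 12, 0, 0⟩,
  ⟨0, 0, 5, 0, 0, 0, 0, 5, 5, 0, 0, 0, 0, 5, 0, 0⟩,
  ⟨0, 0, 8, 0, 0, 0, 0, 8, 8, 0, 0, 0, 0, 8, 0, 0⟩,
  ⟨0, 0, 12, 0, 0, 0, 0, 12, 1, 0, 0, 0, 0, 1, 0, 0⟩,
  ⟨0, 1, 0, 1, 7, 0, 7, 0, 0, 12, 0, 1, 6, 0, 7, 0⟩,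
  ⟨0, 1, 0, 5, 7, 0, 9, 0, 0, 5, 0, 1, 9, 0, 7, 0⟩,
  ⟨0, 1, 0, 8, 7, 0, 4, 0, 0, 8, 0, 1, 4, 0, 7, 0⟩,
  ⟨0, 1, 0, 12, 7, 0, 6, 0, 0, 1, 0, 1, 7, 0, 7, 0⟩,
  ⟨0, 4, 0, 0, 2, 0, 0, 0, 0, 0, 0, 7, 0, 0, 10, 0⟩,
  ⟨0, 5, 0, 1, 9, 0, 7, 0, 0, 12, 0, 8, 6, 0, 4, 0⟩,
  ⟨0, 5, 0, 5, 9, 0, 9, 0, 0, 5, 0, 8, 9, 0, 4, 0⟩,
  ⟨0, 5, 0, 8, 9, 0, 4, 0, 0, 8, 0, 8, 4, 0, 4, 0⟩,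
  ⟨0, 5, 0, 12, 9, 0, 6, 0, 0, 1, 0, 8, 7, 0, 4, 0⟩,
  ⟨0, 6, 0, 0, 3, 0, 0, 0, 0, 0, 0, 9, 0, 0, 11, 0⟩,
  ⟨0, 7, 0, 0, 10, 0, 0, 0, 0, 0, 0, 4, 0, 0, 2, 0⟩,
  ⟨0, 8, 0, 1, 4, 0, 7, 0, 0, 12, 0, 5, 6, 0, 9, 0⟩,
  ⟨0, 8, 0, 5, 4, 0, 9, 0, 0, 5, 0, 5, 9, 0, 9, 0⟩,
  ⟨0, 8, 0, 8, 4, 0, 4, 0, 0, 8, 0, 5, 4, 0, 9, 0⟩,
  ⟨0, 8, 0, 12, 4, 0, 6, 0, 0, 1, 0, 5, 7, 0, 9, 0⟩,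
  ⟨0, 9, 0, 0, 11, 0, 0, 0, 0, 0, 0, 6, 0, 0, 3, 0⟩,
  ⟨0, 12, 0, 1, 6, 0, 7, 0, 0, 12, 0, 12, 6, 0, 6, 0⟩,
  ⟨0, 12, 0, 5, 6, 0, 9, 0, 0, 5, 0, 12, 9, 0, 6, 0⟩,
  ⟨0, 12, 0, 8, 6, 0, 4, 0, 0, 8, 0, 12, 4, 0, 6, 0⟩,
  ⟨0, 12, 0, 12, 6, 0, 6, 0, 0, 1, 0, 12, 7, 0, 6, 0⟩,
  ⟨1, 0, 0, 0, 0, 1, 0, 0, 0, 0, 1, 0, 0, 0, 0, 1⟩,
  ⟨2, 0, 2, 0, 0, 2, 0, 2, 3, 0, 10, 0, 0, 3, 0, 10⟩,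
  ⟨2, 0, 3, 0, 0, 2, 0, 3, 2, 0, 10, 0, 0, 2, 0, 10⟩,
  ⟨2, 0, 10, 0, 0, 2, 0, 10, 11, 0, 10, 0, 0, 11, 0, 10⟩,
  ⟨2, 0, 11, 0, 0, 2, 0, 11, 10, 0, 10, 0, 0, 10, 0, 10⟩,
  ⟨3, 0, 2, 0, 0, 3, 0, 2, 3, 0, 11, 0, 0, 3, 0, 11⟩,
  ⟨3, 0, 3, 0, 0, 3, 0, 3, 2, 0, 11, 0, 0, 2, 0, 11⟩,
  ⟨3, 0, 10, 0, 0, 3, 0, 10, 11, 0, 11, 0, 0, 11, 0, 11⟩,
  ⟨3, 0, 11, 0, 0, 3, 0, 11, 10, 0, 11, 0, 0, 10, 0, 11⟩,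
  ⟨5, 0, 0, 0, 0, 5, 0, 0, 0, 0, 8, 0, 0, 0, 0, 8⟩,
  ⟨8, 0, 0, 0, 0, 8, 0, 0, 0, 0, 5, 0, 0, 0, 0, 5⟩,
  ⟨10, 0, 2, 0, 0, 10, 0, 2, 3, 0, 2, 0, 0, 3, 0, 2⟩,
  ⟨10, 0, 3, 0, 0, 10, 0, 3, 2, 0, 2, 0, 0, 2, 0, 2⟩,
  ⟨10, 0, 10, 0, 0, 10, 0, 10, 11, 0, 2, 0, 0, 11, 0, 2⟩,
  ⟨10, 0, 11, 0, 0, 10, 0, 11, 10, 0, 2, 0, 0, 10, 0, 2⟩,
  ⟨11, 0, 2, 0, 0, 11, 0, 2, 3, 0, 3, 0, 0, 3, 0, 3⟩,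
  ⟨11, 0, 3, 0, 0, 11, 0, 3, 2, 0, 3, 0, 0, 2, 0, 3⟩,
  ⟨11, 0, 10, 0, 0, 11, 0, 10, 11, 0, 3, 0, 0, 11, 0, 3⟩,
  ⟨11, 0, 11, 0, 0, 11, 0, 11, 10, 0, 3, 0, 0, 10, 0, 3⟩,
  ⟨12, 0, 0, 0, 0, 12, 0, 0, 0, 0, 12, 0, 0, 0, 0, 12⟩]

theorem hA1 : mul 13 gA gA' = scal 1 := by decide +kernel
theorem hA2 : mul 13 gA' gA = scal 1 := by decide +kernel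
theorem hB1 : mul 13 gB gB' = scal 1 := by decide +kernel
theorem hB2 : mul 13 gB' gB = scal 1 := by decide +kernel

theorem one_mem : scal 1 ∈ L := by decide +kernel
theorem closed_A : ∀ c ∈ L, mul 13 c gA ∈ L := by decide +kernel
theorem closed_A' : ∀ c ∈ L, mul 13 c gA' ∈ L := by decide +kernel
theorem closed_B : ∀ c ∈ L, mul 13 c gB ∈ L := by decide +kernel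
theorem closed_B' : ∀ c ∈ L, mul 13 c gB' ∈ L := by decide +kernel

/-- the decidable property of the elements -/
def good (c : M16) : Bool :=
  (c == scal 1) || (geo 13 c 3 == scal 0) ||
  (pw 13 c 1 == scal 12) || (pw 13 c 2 == scal 12) || (pw 13 c 3 == scal 12) ||
  (pw 13 c 4 == scal 12)

theorem all_good : ∀ c ∈ L, good c = true := by decide +kernel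

theorem pwA4 : pw 13 gA 4 = scal 12 := by decide +kernel
theorem pwB3 : pw 13 gB 3 = scal 12 := by decide +kernel

end Cfsg.Agent.Lib.Helper62C48
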