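import Mathlib
import Cfsg.Prelude.Def_Chevalley

set_option autoImplicit false

/-! Chevalley groups over isomorphic fields are isomorphic. -/

namespace Cfsg.Agent.Lib.Helper62ChevTransport

open Cfsg.Lie Cfsg.Lie.ChevalleyDatum

theorem xMat_map {F F' : Type*} [Field F] [Field F'] (D : Cfsg.Lie.ChevalleyDatum) (f : F →+* F')
    (r : Fin D.nroots) (t : F) : (D.xMat F r t).map f = D.xMat F' r (f t) := by
  ext row col
  simp only [Matrix.map_apply, xMat, Matrix.of_apply]
  rcases col with i | s
  · rcases row with i' | u
    · simp only []
      split_ifs <;> simp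
    · simp only []
      split_ifs <;> simp
  · simp only []
    split_ifs with h1 h2
    · rcases row with i' | u
      · simp
      · simp only []
        split_ifs <;> simp
    · rcases row with i' | u
      · simp
      · simp only []
        split_ifs <;> simp
    · rcases row with i' | u
      · simp
      · simp only [map_add, map_list_sum, List.map_map]
        congr 1
        · split_ifs <;> simp
        · congr 1
          apply List.map_congr_left
          intro a _
          simp

/-- the isomorphism of general linear groups induced by a field isomorphism -/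
noncomputable def glMap {F F' : Type*} [Field F] [Field F'] (D : Cfsg.Lie.ChevalleyDatum)
    (f : F ≃+* F') : GL D.Idx F ≃* GL D.Idx F' :=
  Units.mapEquiv (RingEquiv.mapMatrix f (m := D.Idx)).toMulEquiv

theorem glMap_coe {F F' : Type*} [Field F] [Field F'] (D : Cfsg.Lie.ChevalleyDatum) (f : F ≃+* F')
    (g : GL D.Idx F) :
    ((glMap D f g : GL D.Idx F') : Matrix D.Idx D.Idx F') = (g : Matrix D.Idx D.Idx F).map f := rfl

theorem map_le {F F' : Type*} [Field F] [Field F'] (D : Cfsg.Lie.ChevalleyDatum) (f : F ≃+* F') :
    (D.group F).map (glMap D f).toMonoidHom ≤ D.group F' := by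
  unfold ChevalleyDatum.group
  rw [MonoidHom.map_closure, Subgroup.closure_le]
  rintro _ ⟨g, ⟨r, t, hg⟩, rfl⟩
  apply Subgroup.subset_closure
  refine ⟨r, f t, ?_⟩
  have := glMap_coe D f g
  rw [hg] at this
  erw [this]
  exact xMat_map D (f : F →+* F') r t

theorem map_eq {F F' : Type*} [Field F] [Field F'] (D : Cfsg.Lie.ChevalleyDatum) (f : F ≃+* F') :
    (D.group F).map (glMap D f).toMonoidHom = D.group F' := by
  apply le_antisymm (map_le D f)
  intro g hg
  refine ⟨glMap D f.symm g, ?_, ?_⟩
  · exact map_le D f.symm ⟨g, hg, rfl⟩
  · apply Units.ext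
    ext i j
    simp [glMap_coe]

/-- Chevalley groups over isomorphic fields are isomorphic -/
noncomputable def groupEquiv {F F' : Type*} [Field F] [Field F'] (D : Cfsg.Lie.ChevalleyDatum)
    (f : F ≃+* F') : D.group F ≃* D.group F' :=
  ((glMap D f).subgroupMap (D.group F)).trans (MulEquiv.subgroupCongr (map_eq D f))

end Cfsg.Agent.Lib.Helper62ChevTransport
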