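import Mathlib
import Cfsg.Prelude.Def_ChevG2
import Cfsg.Agent.Lib.Helper62F4

set_option autoImplicit false

/-! Data for the six dimensional module of `G2(4)`. Tables are stored as bits of natural numbers. -/

namespace Cfsg.Agent.Lib.Helper62G24a

open Cfsg.Lie Cfsg.Agent.Lib.Helper62F4

/-- the field with four elements -/
abbrev K := F4

/-- `6 × 6` matrices -/
abbrev M6 := Matrix (Fin 6) (Fin 6) K

/-- index set of the Chevalley basis -/
abbrev I := Fin 2 ⊕ Fin 12

/-- entry number `i` of a table -/
def bit2 (n1 n2 i : ℕ) : K := ⟨Nat.testBit n1 i, Nat.testBit n2 i⟩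

/-- numbering of the field elements -/
def tIdx (t : K) : ℕ := (cond t.a 1 0) + (cond t.b 2 0)

/-- numbering of the Chevalley basis -/
def ix : I → ℕ := Sum.elim (fun i => i.1) (fun r => r.1 + 2)

/-- a matrix from its table -/
def mk (n1 n2 : ℕ) : M6 := Matrix.of fun a b => bit2 n1 n2 (a.1 * 6 + b.1)

/-- addition, evaluating its arguments once -/
def fa (x y : K) : K :=
  match x, y with
  | ⟨false, false⟩, y => y
  | ⟨true, false⟩, ⟨false, false⟩ => ⟨true, false⟩
  | ⟨true, false⟩, ⟨true, false⟩ => ⟨false, false⟩
  | ⟨true, false⟩, ⟨false, true⟩ => ⟨true, true⟩
  | ⟨true, false⟩, ⟨true, true⟩ => ⟨false, true⟩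
  | ⟨false, true⟩, ⟨false, false⟩ => ⟨false, true⟩
  | ⟨false, true⟩, ⟨true, false⟩ => ⟨true, true⟩
  | ⟨false, true⟩, ⟨false, true⟩ => ⟨false, false⟩
  | ⟨false, true⟩, ⟨true, true⟩ => ⟨true, false⟩
  | ⟨true, true⟩, ⟨false, false⟩ => ⟨true, true⟩
  | ⟨true, true⟩, ⟨true, false⟩ => ⟨false, true⟩
  | ⟨true, true⟩, ⟨false, true⟩ => ⟨true, false⟩
  | ⟨true, true⟩, ⟨true, true⟩ => ⟨false, false⟩

/-- multiplication, evaluating its arguments once -/
def fm (x y : K) : K :=
  match x, y with
  | ⟨false, false⟩, _ => ⟨false, false⟩
  | ⟨true, false⟩, y => y
  | ⟨false, true⟩, ⟨false, false⟩ => ⟨false, false⟩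
  | ⟨false, true⟩, ⟨true, false⟩ => ⟨false, true⟩
  | ⟨false, true⟩, ⟨false, true⟩ => ⟨true, true⟩
  | ⟨false, true⟩, ⟨true, true⟩ => ⟨true, false⟩
  | ⟨true, true⟩, ⟨false, false⟩ => ⟨false, false⟩
  | ⟨true, true⟩, ⟨true, false⟩ => ⟨true, true⟩
  | ⟨true, true⟩, ⟨false, true⟩ => ⟨true, false⟩
  | ⟨true, true⟩, ⟨true, true⟩ => ⟨false, true⟩

theorem fa_eq : ∀ x y : K, fa x y = x + y := by decide +kernel

theorem fm_eq : ∀ x y : K, fm x y = x * y := by decide +kernel

/-- the product, written out -/
def mul6 (A B : M6) : M6 := Matrix.of fun a b =>
  fa (fa (fa (fa (fa (fm (A a 0) (B 0 b)) (fm (A a 1) (B 1 b))) (fm (A a 2) (B 2 b)))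
    (fm (A a 3) (B 3 b))) (fm (A a 4) (B 4 b))) (fm (A a 5) (B 5 b))

theorem mul6_eq (A B : M6) : A * B = mul6 A B := by
  ext a b
  simp [mul6, Matrix.mul_apply, Fin.sum_univ_six, fa_eq, fm_eq]

def GA : ℕ := 7624454661954884576060116555979445351350397301807694710988059506820906607379279982332258820550494701134298151958501718320169802807803326476875469615014579476461786090524149234283351909915971175278540531230712407810719279474693071127288466073768977064852717781994334968521258013492440666284201672277908386085728594415624899549505971393582795893042184701232138443363869283132903262533604027143263366970972780904487976058019709887439081489617593735578235889762178235581580566453741903190543456431765295176113929284900372609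
def GB : ℕ := 454425147043323128596350636216752483636839191658972931714252525177001383060582571905392040718657140336821417959391790106803977838315268254314471840544715941829815317489071828577224811616246733127056832678723165030296103508662533409751723440255603517085864928429441544101537032128922698319144115022194871532915349804033915253649894754128994367976069529779764486244685816705476218109861494971610262157246758048872464318981490172344413522825393234497216510466034723488442821519947818292624477814555102583656349171712
def EA : ℕ := 1573068606886434134376718153766060604954846374252838414268408604179743926480837056726987665022177838181299656587570577914657089406670946785296513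
def XA : ℕ := 6155862231090654809855512020251225405439852161241523831958978316761993589316250089357293785250744243868150225812480210995197460764542125919366867990325637573116122566798137776727417440676329526765525479674771254740717127039833794310456858354315364282052607977960022911409604947577919124760190080587997597636197601928934305497035468934990242028582097352630953808051740118625624093883466336378842971557868456766085286723628041793821844029576654296978049279733295524269827717361786605873091587288593965395705736396764778337838592005871992790841920198170775580550955325021373800860875544915039966955008289413324169925808882242282438791446084172406314078885786596202868895059128842925512399924052463593524690334340253052109134474401814344941942407402169675777858296349150085096241552896172869332794196870119736283965239861243968296819668481862330835378538672384885703291686185023531466945464811457006127881809451297928081062638979211065280571758697987499011107808774526867143961495455463446902746278071474275452794842725598595410811191174357228479517220464271722307560037201968524986680697738577675021840337671195541074093679157255232984473265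42354113650414840144968478580808182837255075264847885245838249698481551813469585172445113802278651188887265413534364470402696071170440641556520876792003123694277377567945409964455753862561188298968495358840076545531365481062696506838621875861909439951430147846857784260093689104045577988032903300435490728524534154945553690787646372582656315896816903394306470182654622546042271930731467068832659688485865281820088067609641065860002805750086343480473630284038467293453507204227152596595249385138976118437990056905327343839293538616878496260083801369234056337805307209474177295497302365552047407286441375524420266803091675564053041958015445961083653673213687926618099925748210468507619060771696212309842922422972957628728459058053403210816602597963423298644799548575054221304814864708254046548812430393169011822723930937207945494210885648621027020126320094252330420153505760313440686220616532281041966920019995167540355707424322896585087183907807289175306105495591467619892318697353881376483788890085527297629236153501420786722528360114329298260188886604582792584395142995176688563521634230556608578533308792804302416238966255220877225332445332970962891748559151312638777024699846493019017102213225613935642706680902172284982399565230288196319101901661279992523197924626665930651966471823044592453879695401539810273366338165044217836162184107961790410067573472366789941452368952919529082302488503992964219528867380155165739151721516174891534288251152766699533408840923428895243530135120574306383298140653467654209470504709546608881934309975033847284315846563780292305558389475511027763747028697109665768430267577852144150675081790484890741937141766462055967506967733470825604332594014373296504833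
def XB : ℕ := 4513315007332730957721322287670431916552892239006104545166673470061970661930391574852788678036462731583462145857837614340195607952073640293272832685853107392054783727991542065233588986699470170431217914374158769871442932693393603130938146753007811958516955921914129813533219482545481923760442982872242088408355953910850557768698458714128749267159429864292371567198802464376478059851758408163167079121316871135154958613634166728188399301123126037819654875047607319411624191334640643661951311407585593342818462313828810647472248095956674253975480261580515029867396319012251805810868700345919826109552814145523674307145542154253472286336831351659205636391950788987470951354481056603391043650285044770678949442919252376785127263447247580646907236512144968367616626833188899829157856946481625911239553597725598841811233690627895123381559378554221336454264761703136834446906850723635174501992351178201492692504947627924397339137998793902179428237729622479579068085171253284214023867367562033119372381203835086643617755414179985343025106752796287535768716057976632941953101370418156588358026472861337388007417201495531520880401373036121067814432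83986554198365579560800188755546456468555242291020379222156243987597739719519541798997883825026374417271135363467566975761654307841407330999866836761325179105602622586367941587887491761537816127014175778157069738765534803797234735162242218040566412444427285446856132296796826184712071305721760425668720903871002156404441942965318179779706117105660691639228459323163717356960798088622705681708724468465559483603938047252133394534188047525682693173177879269176242363457362961013967943476939707719283989625127138747585761262698317972440320342886094655867388924821654364055680215964772766174507995976846626070029707629394974147436777509851931491026760444504644850995198261957131887438001089264201507812988290111911931768636658562896059984550279551690586088554449706475354931437269400743083812216380264834897943083992930276485882718078404279629363150570227083227132863193086297277162348879064099014066259014124651585159390876669760729025674736307303609810934058342838669213108943124684920879659706544102837874998557090456605300698050488920428890727404392190659867098558113403992977339611257006373458362407764449244333593833559848523980218136900682930173665654305753736990212086729644059093929249284246382344784857933977584225965398479068569394749435805687059961097267727794202282940444700983894061544531468352810333346305761684064298656456432705990076254996223670967219231423677757441540237542346126716594158197950361405626655551638095380888363852351715972311816493519559191495300623793874926573496069468295359181524406046762477507170319064443804611377226220307354675189311142371070644416808130543904132747165055207267379857219956394357983484618429120010606047273315273937883398300066234150944768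

/-- the root elements on the six dimensional module -/
def gen6 (r : Fin 12) (t : K) : M6 :=
  Matrix.of fun a b => bit2 GA GB (((r.1 * 4 + tIdx t) * 6 + a.1) * 6 + b.1)

/-- the Chevalley basis on the six dimensional module -/
def E (j : I) : M6 := Matrix.of fun a b => bit2 EA 0 ((ix j * 6 + a.1) * 6 + b.1)

/-- the invariant symplectic form -/
def J : M6 := Matrix.of fun a b => if a.1 + b.1 = 5 then 1 else 0

/-- the root elements on the Lie algebra -/
def X14 (r : Fin 12) (t : K) : Matrix I I K :=
  Matrix.of fun i j => bit2 XA XB (((r.1 * 4 + tIdx t) * 14 + ix i) * 14 + ix j)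

/-- the matrices of the datum -/
def xM (r : Fin 12) (t : K) : Matrix I I K := chevG2.xMat K r t

/-- linear combination of the Chevalley basis, written out -/
def lin14 (c : I → K) : M6 := Matrix.of fun a b =>
  fa (fm (c (.inl 0)) (E (.inl 0) a b))
    (fa (fm (c (.inl 1)) (E (.inl 1) a b))
    (fa (fm (c (.inr 0)) (E (.inr 0) a b))
    (fa (fm (c (.inr 1)) (E (.inr 1) a b))
    (fa (fm (c (.inr 2)) (E (.inr 2) a b))
    (fa (fm (c (.inr 3)) (E (.inr 3) a b))
    (fa (fm (c (.inr 4)) (E (.inr 4) a b))
    (fa (fm (c (.inr 5)) (E (.inr 5) a b))
    (fa (fm (c (.inr 6)) (E (.inr 6) a b))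
    (fa (fm (c (.inr 7)) (E (.inr 7) a b))
    (fa (fm (c (.inr 8)) (E (.inr 8) a b))
    (fa (fm (c (.inr 9)) (E (.inr 9) a b))
    (fa (fm (c (.inr 10)) (E (.inr 10) a b))
    (fm (c (.inr 11)) (E (.inr 11) a b))))))))))))))

theorem sum12 {M : Type*} [AddCommMonoid M] (f : Fin 12 → M) :
    ∑ i, f i = f 0 + (f 1 + (f 2 + (f 3 + (f 4 + (f 5 + (f 6 + (f 7 + (f 8 + (f 9 + (f 10 + f 11)))))))))) := by
  simp only [Fin.sum_univ_succ, Fin.sum_univ_zero, add_zero]
  rfl

theorem lin14_eq (c : I → K) : ∑ i, c i • E i = lin14 c := by
  ext a b
  rw [Fintype.sum_sum_type, Fin.sum_univ_two, sum12]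
  simp only [lin14, Matrix.add_apply, Matrix.smul_apply, smul_eq_mul, Matrix.of_apply, add_assoc, fa_eq,
    fm_eq]

set_option maxHeartbeats 0 in
set_option maxRecDepth 100000 in
theorem xM_eq : ∀ (r : Fin 12) (t : K), xM r t = X14 r t := by decide +kernel

theorem gen6_sq' : ∀ (r : Fin 12) (t : K), mul6 (gen6 r t) (gen6 r t) = 1 := by decide +kernel

theorem gen6_sq (r : Fin 12) (t : K) : gen6 r t * gen6 r t = 1 := by
  rw [mul6_eq]; exact gen6_sq' r t

theorem gen6_J' : ∀ (r : Fin 12) (t : K), mul6 (mul6 (gen6 r t).transpose J) (gen6 r t) = J := by
  decide +kernel

theorem gen6_J (r : Fin 12) (t : K) : (gen6 r t).transpose * J * gen6 r t = J := by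
  rw [mul6_eq, mul6_eq]; exact gen6_J' r t

set_option maxHeartbeats 0 in
set_option maxRecDepth 100000 in
theorem gen6_rel_0 : ∀ (t : K) (j : I),
    mul6 (mul6 (gen6 0 t) (E j)) (gen6 0 t) = lin14 (fun i => X14 0 t i j) := by decide +kernel

set_option maxHeartbeats 0 in
set_option maxRecDepth 100000 in
theorem gen6_rel_1 : ∀ (t : K) (j : I),
    mul6 (mul6 (gen6 1 t) (E j)) (gen6 1 t) = lin14 (fun i => X14 1 t i j) := by decide +kernel

set_option maxHeartbeats 0 in
set_option maxRecDepth 100000 in
theorem gen6_rel_2 : ∀ (t : K) (j : I),
    mul6 (mul6 (gen6 2 t) (E j)) (gen6 2 t) = lin14 (fun i => X14 2 t i j) := by decide +kernel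

set_option maxHeartbeats 0 in
set_option maxRecDepth 100000 in
theorem gen6_rel_3 : ∀ (t : K) (j : I),
    mul6 (mul6 (gen6 3 t) (E j)) (gen6 3 t) = lin14 (fun i => X14 3 t i j) := by decide +kernel

set_option maxHeartbeats 0 in
set_option maxRecDepth 100000 in
theorem gen6_rel_4 : ∀ (t : K) (j : I),
    mul6 (mul6 (gen6 4 t) (E j)) (gen6 4 t) = lin14 (fun i => X14 4 t i j) := by decide +kernel

set_option maxHeartbeats 0 in
set_option maxRecDepth 100000 in
theorem gen6_rel_5 : ∀ (t : K) (j : I),
    mul6 (mul6 (gen6 5 t) (E j)) (gen6 5 t) = lin14 (fun i => X14 5 t i j) := by decide +kernel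

set_option maxHeartbeats 0 in
set_option maxRecDepth 100000 in
theorem gen6_rel_6 : ∀ (t : K) (j : I),
    mul6 (mul6 (gen6 6 t) (E j)) (gen6 6 t) = lin14 (fun i => X14 6 t i j) := by decide +kernel

set_option maxHeartbeats 0 in
set_option maxRecDepth 100000 in
theorem gen6_rel_7 : ∀ (t : K) (j : I),
    mul6 (mul6 (gen6 7 t) (E j)) (gen6 7 t) = lin14 (fun i => X14 7 t i j) := by decide +kernel

set_option maxHeartbeats 0 in
set_option maxRecDepth 100000 in
theorem gen6_rel_8 : ∀ (t : K) (j : I),
    mul6 (mul6 (gen6 8 t) (E j)) (gen6 8 t) = lin14 (fun i => X14 8 t i j) := by decide +kernel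

set_option maxHeartbeats 0 in
set_option maxRecDepth 100000 in
theorem gen6_rel_9 : ∀ (t : K) (j : I),
    mul6 (mul6 (gen6 9 t) (E j)) (gen6 9 t) = lin14 (fun i => X14 9 t i j) := by decide +kernel

set_option maxHeartbeats 0 in
set_option maxRecDepth 100000 in
theorem gen6_rel_10 : ∀ (t : K) (j : I),
    mul6 (mul6 (gen6 10 t) (E j)) (gen6 10 t) = lin14 (fun i => X14 10 t i j) := by decide +kernel

set_option maxHeartbeats 0 in
set_option maxRecDepth 100000 in
theorem gen6_rel_11 : ∀ (t : K) (j : I),
    mul6 (mul6 (gen6 11 t) (E j)) (gen6 11 t) = lin14 (fun i => X14 11 t i j) := by decide +kernel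

theorem gen6_rel' (r : Fin 12) : ∀ (t : K) (j : I),
    mul6 (mul6 (gen6 r t) (E j)) (gen6 r t) = lin14 (fun i => X14 r t i j) := by
  fin_cases r
  · exact gen6_rel_0
  · exact gen6_rel_1
  · exact gen6_rel_2
  · exact gen6_rel_3
  · exact gen6_rel_4
  · exact gen6_rel_5
  · exact gen6_rel_6
  · exact gen6_rel_7
  · exact gen6_rel_8
  · exact gen6_rel_9
  · exact gen6_rel_10
  · exact gen6_rel_11

theorem gen6_rel (r : Fin 12) (t : K) (j : I) :
    gen6 r t * E j * gen6 r t = ∑ i, X14 r t i j • E i := by
  rw [mul6_eq, mul6_eq, lin14_eq]; exact gen6_rel' r t j

/-- a position where exactly one basis element does not vanish -/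
def pos : I → Fin 6 × Fin 6 := Sum.elim ![(0, 0), (2, 2)] ![(4, 0), (3, 0), (3, 1), (2, 0), (1, 0), (2, 1), (1, 2), (0, 1), (0, 2), (1, 3), (0, 3), (0, 4)]

theorem E_pos : ∀ i k : I, E i (pos k).1 (pos k).2 = if i = k then 1 else 0 := by
  decide +kernel

/-- the matrix units are products of two basis elements -/
def uw : Fin 6 → Fin 6 → I × I :=
  ![![(.inl 0, .inl 0), (.inr 7, .inl 1), (.inl 0, .inr 8), (.inl 0, .inr 10), (.inr 8, .inr 9), (.inr 7, .inr 11)],
    ![(.inl 1, .inr 4), (.inl 0, .inl 0), (.inl 0, .inr 6), (.inl 0, .inr 9), (.inr 4, .inr 11), (.inl 1, .inr 11)],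
    ![(.inl 1, .inr 3), (.inr 3, .inr 7), (.inl 0, .inl 0), (.inr 3, .inr 10), (.inr 3, .inr 11), (.inl 1, .inr 10)],
    ![(.inl 1, .inr 1), (.inr 1, .inr 7), (.inr 1, .inr 8), (.inl 0, .inl 0), (.inr 1, .inr 11), (.inl 1, .inr 8)],
    ![(.inl 1, .inr 0), (.inr 0, .inr 7), (.inl 0, .inr 2), (.inl 0, .inr 5), (.inl 0, .inl 0), (.inl 1, .inr 7)],
    ![(.inr 0, .inr 4), (.inr 0, .inl 1), (.inl 0, .inr 1), (.inl 0, .inr 3), (.inr 1, .inr 9), (.inl 0, .inl 0)]]

theorem uw_eq' : ∀ a b : Fin 6, a ≠ b → mul6 (E (uw a b).1) (E (uw a b).2) = Matrix.single a b 1 := by
  decide +kernel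

theorem uw_eq (a b : Fin 6) (h : a ≠ b) : E (uw a b).1 * E (uw a b).2 = Matrix.single a b 1 := by
  rw [mul6_eq]; exact uw_eq' a b h

def x_0 : M6 := mk 37935923329 0
def x_1 : M6 := mk 37936971905 18254921792
def x : M6 := mk 38486427809 62012064352
def y_0 : M6 := mk 55049208001 0
def y : M6 := mk 29820537569 0
def z_0 : M6 := mk 37935923329 0
def z : M6 := mk 20496009361 0
def d_0 : M6 := mk 37935923329 0
def d : M6 := mk 4113055905 43757142560
def x2 : M6 := mk 5281631035 66151338115
def x4 : M6 := mk 2334367835 35777724279
def x8 : M6 := mk 24922209517 53783105506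
def x12 : M6 := mk 37936972215 22549713635
def y2 : M6 := mk 42075575162 0
def y4 : M6 := mk 57155750296 0
def y6 : M6 := mk 55049278450 0
def z2 : M6 := mk 58341477460 0
def z3 : M6 := mk 51815399873 0
def d2 : M6 := mk 3405988490 1175016099
def d4 : M6 := mk 38103728290 167867043
def d5 : M6 := mk 34764513409 134225920
def xW : M6 := mk 79397549 1157353276
def yW : M6 := mk 1145620881 0

theorem x_0_eq : gen6 0 1 * gen6 2 1 = x_0 := by
  rw [mul6_eq]; decide +kernel
theorem x_1_eq : x_0 * gen6 4 w = x_1 := by
  rw [mul6_eq]; decide +kernel
theorem x_eq : x_1 * gen6 9 w = x := by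
  rw [mul6_eq]; decide +kernel
theorem y_0_eq : gen6 0 1 * gen6 4 1 = y_0 := by
  rw [mul6_eq]; decide +kernel
theorem y_eq : y_0 * gen6 9 1 = y := by
  rw [mul6_eq]; decide +kernel
theorem z_0_eq : gen6 0 1 * gen6 2 1 = z_0 := by
  rw [mul6_eq]; decide +kernel
theorem z_eq : z_0 * gen6 11 1 = z := by
  rw [mul6_eq]; decide +kernel
theorem d_0_eq : gen6 0 1 * gen6 2 1 = d_0 := by
  rw [mul6_eq]; decide +kernel
theorem d_eq : d_0 * gen6 9 w = d := by
  rw [mul6_eq]; decide +kernel
theorem x2_eq : x * x = x2 := by
  rw [mul6_eq]; decide +kernel
theorem x4_eq : x2 * x2 = x4 := by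
  rw [mul6_eq]; decide +kernel
theorem x8_eq : x4 * x4 = x8 := by
  rw [mul6_eq]; decide +kernel
theorem x12_eq : x8 * x4 = x12 := by
  rw [mul6_eq]; decide +kernel
theorem x13_eq : x12 * x = 1 := by
  rw [mul6_eq]; decide +kernel
theorem y2_eq : y * y = y2 := by
  rw [mul6_eq]; decide +kernel
theorem y4_eq : y2 * y2 = y4 := by
  rw [mul6_eq]; decide +kernel
theorem y6_eq : y4 * y2 = y6 := by
  rw [mul6_eq]; decide +kernel
theorem y7_eq : y6 * y = 1 := by
  rw [mul6_eq]; decide +kernel
theorem z2_eq : z * z = z2 := by
  rw [mul6_eq]; decide +kernel
theorem z3_eq : z2 * z = z3 := by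
  rw [mul6_eq]; decide +kernel
theorem z6_eq : z3 * z3 = 1 := by
  rw [mul6_eq]; decide +kernel
theorem d2_eq : d * d = d2 := by
  rw [mul6_eq]; decide +kernel
theorem d4_eq : d2 * d2 = d4 := by
  rw [mul6_eq]; decide +kernel
theorem d5_eq : d4 * d = d5 := by
  rw [mul6_eq]; decide +kernel
theorem d10_eq : d5 * d5 = 1 := by
  rw [mul6_eq]; decide +kernel
theorem x_ne : x ≠ 1 := by decide +kernel
theorem y_ne : y ≠ 1 := by decide +kernel
theorem z2_ne : z2 ≠ 1 := by decide +kernel
theorem z3_ne : z3 ≠ 1 := by decide +kernel
theorem d2_ne : d2 ≠ 1 := by decide +kernel
theorem d5_ne : d5 ≠ 1 := by decide +kernel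
theorem xW_eq : xW * (x - 1) = 1 := by
  rw [mul6_eq]; decide +kernel
theorem yW_eq : yW * (y - 1) = 1 := by
  rw [mul6_eq]; decide +kernel
theorem sq_eq_one : ∀ c : K, c * c = 1 → c = 1 := by decide +kernel

end Cfsg.Agent.Lib.Helper62G24a
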