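import Mathlib
import Cfsg.Agent.Lib.Helper62G24a
import Cfsg.Agent.Lib.Helper22ChevBasic

set_option autoImplicit false

/-! The group `G2(4)` acting on its six dimensional module: the graph of the isomorphism between the
six dimensional and the adjoint matrix groups. -/

namespace Cfsg.Agent.Lib.Helper62G24b

open Cfsg.Lie Cfsg.Agent.Lib.Helper62F4 Cfsg.Agent.Lib.Helper62G24a

/-- `A` is the matrix of conjugation by `g` on the Lie algebra, and `g` is symplectic -/
def Rel (g : M6) (A : Matrix I I K) : Prop :=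
  (∀ j, g * E j = (∑ i, A i j • E i) * g) ∧ g.transpose * J * g = J

theorem Rel.one : Rel 1 1 := by
  refine ⟨fun j => ?_, by simp⟩
  simp [Matrix.one_apply, ite_smul]

theorem Rel.mul {g h : M6} {A B : Matrix I I K} (hg : Rel g A) (hh : Rel h B) :
    Rel (g * h) (A * B) := by
  refine ⟨fun j => ?_, ?_⟩
  · calc g * h * E j = g * ((∑ a, B a j • E a) * h) := by rw [mul_assoc, hh.1 j]
      _ = (∑ a, B a j • (g * E a)) * h := by
        rw [← mul_assoc, Finset.mul_sum]
        simp only [mul_smul_comm]
      _ = (∑ a, B a j • ((∑ c, A c a • E c) * g)) * h := by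
        simp only [hg.1 _]
      _ = (∑ c, (A * B) c j • E c) * (g * h) := by
        rw [← mul_assoc]
        congr 1
        simp only [Matrix.mul_apply, Finset.sum_smul, Finset.sum_mul, Finset.smul_sum,
          smul_mul_assoc, smul_smul]
        rw [Finset.sum_comm]
        apply Finset.sum_congr rfl
        intro c _
        apply Finset.sum_congr rfl
        intro a _
        rw [mul_comm]
  · rw [Matrix.transpose_mul]
    calc h.transpose * g.transpose * J * (g * h)
        = h.transpose * (g.transpose * J * g) * h := by simp only [mul_assoc]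
      _ = J := by rw [hg.2, hh.2]

theorem rel_gen (r : Fin 12) (t : K) : Rel (gen6 r t) (xM r t) := by
  refine ⟨fun j => ?_, gen6_J r t⟩
  have h := gen6_rel r t j
  rw [xM_eq, ← h]
  calc gen6 r t * E j = gen6 r t * E j * (gen6 r t * gen6 r t) := by rw [gen6_sq, mul_one]
    _ = gen6 r t * E j * gen6 r t * gen6 r t := by simp only [mul_assoc]

/-- a matrix commuting with the Lie algebra is scalar -/
theorem comm_scalar (g : M6) (h : ∀ j, g * E j = E j * g) : ∃ c : K, g = c • (1 : M6) := by
  have h1 : g ∈ Set.range (Matrix.scalar (Fin 6)) := by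
    apply Matrix.mem_range_scalar_of_commute_single
    intro a b hab
    rw [← uw_eq a b hab]
    exact Commute.mul_left (h _).symm (h _).symm
  obtain ⟨c, hc⟩ := h1
  refine ⟨c, ?_⟩
  rw [← hc, Matrix.smul_one_eq_diagonal]
  rfl

theorem eq_one_of_rel_one (g : M6) (h : Rel g 1) : g = 1 := by
  obtain ⟨c, hc⟩ := comm_scalar g (fun j => by
    have := h.1 j
    simpa [Matrix.one_apply, ite_smul] using this)
  have h2 := h.2
  rw [hc] at h2
  have h3 : (c * c) • J = J := by
    calc (c * c) • J = Matrix.transpose (c • (1 : M6)) * J * c • (1 : M6) := by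
          simp [Matrix.transpose_smul, smul_smul]
      _ = J := h2
  have h4 := congrFun (congrFun h3 0) 5
  have h5 : J 0 5 = 1 := by decide +kernel
  rw [Matrix.smul_apply, h5, smul_eq_mul, mul_one] at h4
  rw [hc, sq_eq_one c h4, one_smul]

theorem eq_one_of_one_rel (A : Matrix I I K) (h : Rel 1 A) : A = 1 := by
  ext k j
  have h1 := h.1 j
  rw [one_mul, mul_one] at h1
  have h2 := congrFun (congrFun h1 (pos k).1) (pos k).2
  rw [Matrix.sum_apply] at h2
  simp only [Matrix.smul_apply, smul_eq_mul, E_pos, mul_ite, mul_one, mul_zero,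
    Finset.sum_ite_eq', Finset.mem_univ, if_true] at h2
  rw [← h2, Matrix.one_apply]
  by_cases hjk : j = k
  · rw [if_pos hjk, if_pos hjk.symm]
  · rw [if_neg hjk, if_neg (fun h => hjk h.symm)]

theorem std : Cfsg.Agent.Lib.Helper22ChevBasic.Std chevG2 := by
  simp [Cfsg.Agent.Lib.Helper22ChevBasic.Std]

/-- the ambient group -/
abbrev P := GL (Fin 6) K × GL chevG2.Idx K

/-- compatible pairs -/
def SS : Subgroup P where
  carrier := {p | Rel p.1.1 p.2.1}
  one_mem' := Rel.one
  mul_mem' := fun ha hb => Rel.mul ha hb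
  inv_mem' := by
    intro a ha
    have hp : ∀ n : ℕ, Rel (a ^ n).1.1 (a ^ n).2.1 := by
      intro n
      induction n with
      | zero => rw [pow_zero]; exact Rel.one
      | succ n ih => rw [pow_succ]; exact Rel.mul ih ha
    have : a⁻¹ = a ^ (orderOf a - 1) := by
      have hpos : 0 < orderOf a := orderOf_pos a
      rw [inv_eq_iff_mul_eq_one, ← pow_succ', Nat.sub_add_cancel hpos, pow_orderOf_eq_one]
    rw [this]
    exact hp _

/-- root elements on the module -/
def x6 (r : Fin 12) (t : K) : GL (Fin 6) K := ⟨gen6 r t, gen6 r t, gen6_sq r t, gen6_sq r t⟩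

/-- root elements on the Lie algebra -/
noncomputable def x14 (r : Fin 12) (t : K) : GL chevG2.Idx K :=
  Cfsg.Agent.Lib.Helper22ChevBasic.xG std r.1 t

theorem coe_x14 (r : Fin 12) (t : K) : (x14 r t).1 = xM r t := by
  show chevG2.x K r.1 t = _
  unfold ChevalleyDatum.x
  rw [dif_pos (show r.1 < chevG2.nroots from r.2)]
  rfl

/-- the graph of the isomorphism -/
def Gam : Subgroup P := Subgroup.closure (Set.range fun p : Fin 12 × K => (x6 p.1 p.2, x14 p.1 p.2))

theorem Gam_le : Gam ≤ SS := by
  unfold Gam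
  rw [Subgroup.closure_le]
  rintro _ ⟨⟨r, t⟩, rfl⟩
  show Rel (gen6 r t) (x14 r t).1
  rw [coe_x14]
  exact rel_gen r t

/-- the action on the module -/
def phi1 : Gam →* GL (Fin 6) K := (MonoidHom.fst _ _).comp Gam.subtype

/-- the action on the Lie algebra -/
def phi2 : Gam →* GL chevG2.Idx K := (MonoidHom.snd _ _).comp Gam.subtype

theorem phi1_injective : Function.Injective phi1 := by
  rw [injective_iff_map_eq_one]
  intro a ha
  have h1 : a.1.1 = 1 := ha
  have hR : Rel a.1.1.1 a.1.2.1 := Gam_le a.2
  rw [h1] at hR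
  have h2 := eq_one_of_one_rel _ hR
  apply Subtype.ext
  exact Prod.ext h1 (Units.ext h2)

theorem phi2_injective : Function.Injective phi2 := by
  rw [injective_iff_map_eq_one]
  intro a ha
  have h1 : a.1.2 = 1 := ha
  have hR : Rel a.1.1.1 a.1.2.1 := Gam_le a.2
  rw [h1] at hR
  have h2 := eq_one_of_rel_one _ hR
  apply Subtype.ext
  exact Prod.ext (Units.ext h2) h1

theorem phi2_range : phi2.range = chevG2.group K := by
  have h1 : phi2.range = Gam.map (MonoidHom.snd _ _) := by
    unfold phi2
    rw [MonoidHom.range_eq_map, ← Subgroup.map_map, ← MonoidHom.range_eq_map, Subgroup.range_subtype]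
  rw [h1, Cfsg.Agent.Lib.Helper22ChevBasic.group_eq std]
  unfold Gam
  rw [MonoidHom.map_closure]
  congr 1
  ext g
  constructor
  · rintro ⟨_, ⟨⟨r, t⟩, rfl⟩, rfl⟩
    exact ⟨r.1, t, r.2, rfl⟩
  · rintro ⟨r, t, hr, rfl⟩
    exact ⟨_, ⟨(⟨r, hr⟩, t), rfl⟩, rfl⟩

/-- the graph is isomorphic to `G2(4)` -/
noncomputable def iso : Gam ≃* chevG2.group K :=
  (MonoidHom.ofInjective phi2_injective).trans (MulEquiv.subgroupCongr phi2_range)

/-- the generators -/
noncomputable def gm (r : Fin 12) (t : K) : Gam :=
  ⟨(x6 r t, x14 r t), Subgroup.subset_closure ⟨(r, t), rfl⟩⟩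

/-- the representation on the module, with values in matrices -/
def rho : Gam →* M6 := (Units.coeHom M6).comp phi1

theorem rho_gm (r : Fin 12) (t : K) : rho (gm r t) = gen6 r t := rfl

theorem rho_apply (g : Gam) : rho g = (phi1 g).1 := rfl

theorem eq_one_of_rho (g : Gam) (h : rho g = 1) : g = 1 := by
  apply phi1_injective
  rw [map_one]
  exact Units.ext h

end Cfsg.Agent.Lib.Helper62G24b
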