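import Mathlib
import Cfsg.Agent.Lib.Helper64Affine

set_option autoImplicit false

/-! Semidirect products of a matrix group with powers of its natural module: a criterion for having
the same prime graph. Conjugacy of elements of prime order generating Sylow subgroups. -/

namespace Cfsg.Agent.Lib.Helper62G24c

open SemidirectProduct Cfsg.Agent.Lib.Helper64Affine

section general

variable {N G : Type*} [CommGroup N] [Group G] (φ : G →* MulAut N)

/-- an element of order `p * s` of the semidirect product projects onto an element of this order,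
or onto an element of order `s` with a nontrivial fixed point -/
theorem orderOf_right (p : ℕ) (hp : p.Prime) (hN : ∀ x : N, x ^ p = 1)
    (s : ℕ) (hs : s.Prime) (h : N ⋊[φ] G) (hh : orderOf h = p * s) :
    orderOf h.right = p * s ∨ (orderOf h.right = s ∧ ∃ x : N, x ≠ 1 ∧ φ h.right x = x) := by
  set g := h.right with hg
  set d := orderOf g with hd
  have hdm : d ∣ p * s := by
    rw [hd, orderOf_dvd_iff_pow_eq_one, hg, ← pow_right, ← hh, pow_orderOf_eq_one]; rfl
  have h1 : (h ^ d) ^ p = 1 := by
    apply pow_eq_one_of_right_eq_one φ p hN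
    rw [pow_right, hd]; exact pow_orderOf_eq_one _
  have h2 : p * s ∣ d * p := by
    rw [← hh, orderOf_dvd_iff_pow_eq_one, pow_mul]; exact h1
  have h3 : s ∣ d := by
    rw [mul_comm d p] at h2
    exact (Nat.mul_dvd_mul_iff_left hp.pos).mp h2
  obtain ⟨e, he⟩ := h3
  have h4 : e ∣ p := by
    rw [he, mul_comm p s] at hdm
    exact (Nat.mul_dvd_mul_iff_left hs.pos).mp hdm
  rcases (Nat.dvd_prime hp).mp h4 with rfl | rfl
  · right
    have hds : d = s := by simpa using he
    refine ⟨hds, ?_⟩
    have hw : (h ^ s).right = 1 := by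
      rw [pow_right, ← hds, hd]; exact pow_orderOf_eq_one _
    have hw1 : h ^ s ≠ 1 := by
      intro hcon
      have := orderOf_dvd_of_pow_eq_one hcon
      rw [hh] at this
      have h5 : p * s ≤ s := Nat.le_of_dvd hs.pos this
      have h6 := hp.two_le
      nlinarith [hs.pos]
    have hw2 : (h ^ s).left ≠ 1 := by
      intro hcon
      apply hw1
      rw [eq_inl_of_right_eq_one φ _ hw, hcon, map_one]
    have hc : h * inl (h ^ s).left = inl (h ^ s).left * h := by
      rw [← eq_inl_of_right_eq_one φ _ hw, ← pow_succ', ← pow_succ]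
    exact ⟨_, hw2, fixed_of_commute φ h _ hc⟩
  · left
    rw [he, mul_comm]

theorem exists_orderOf_iff' (p : ℕ) (hp : p.Prime) (hN : ∀ x : N, x ^ p = 1)
    (hfix : ∀ (g : G) (x : N), x ≠ 1 → φ g x = x → ∀ s : ℕ, s.Prime → s ≠ p → orderOf g = s →
      ∃ g' : G, orderOf g' = p * s)
    (r s : ℕ) (hr : r.Prime) (hs : s.Prime) (hrs : r ≠ s) :
    (∃ g : G, orderOf g = r * s) ↔ (∃ h : N ⋊[φ] G, orderOf h = r * s) := by
  constructor
  · rintro ⟨g, hg⟩
    exact ⟨inr g, by rw [orderOf_injective _ inr_injective, hg]⟩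
  · rintro ⟨h, hh⟩
    by_cases h1 : r = p
    · subst h1
      rcases orderOf_right φ r hr hN s hs h hh with h2 | ⟨h2, x, hx, hx'⟩
      · exact ⟨_, h2⟩
      · exact hfix _ x hx hx' s hs (Ne.symm hrs) h2
    · by_cases h2 : s = p
      · subst h2
        rw [mul_comm] at hh ⊢
        rcases orderOf_right φ s hs hN r hr h hh with h2 | ⟨h2, x, hx, hx'⟩
        · exact ⟨_, h2⟩
        · exact hfix _ x hx hx' r hr hrs h2
      · refine ⟨h.right, ?_⟩
        apply exists_orderOf_aux' φ p hN _ _ h hh
        exact Nat.Coprime.mul_left ((Nat.coprime_primes hr hp).mpr h1)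
          ((Nat.coprime_primes hs hp).mpr h2)

end general

section matrix

variable {F : Type*} [Field F] {n : Type*} [Fintype n] [DecidableEq n]
variable {G : Type*} [Group G] (ι : G →* GL n F)

/-- if `G` is a finite group of matrices in characteristic `p`, of order divisible by `p`, such that
`G` has elements of order `p * s` whenever an element of prime order `s ≠ p` fixes a nonzero vector,
then there are arbitrarily large finite groups with the same prime graph as `G` -/
theorem exists_large' [Finite F] [Nonempty n] [Finite G] (p : ℕ) (hp : p.Prime) [CharP F p]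
    (hpG : p ∣ Nat.card G)
    (hfix : ∀ (g : G) (v : n → F), v ≠ 0 → (ι g : Matrix n n F).mulVec v = v →
      ∀ s : ℕ, s.Prime → s ≠ p → orderOf g = s → ∃ g' : G, orderOf g' = p * s) (M : ℕ) :
    ∃ (H : Type) (_ : Group H) (_ : Fintype H), M < Fintype.card H ∧
      ((∀ r : ℕ, r.Prime → (r ∣ Nat.card G ↔ r ∣ Nat.card H)) ∧
      (∀ r s : ℕ, r.Prime → s.Prime → r ≠ s →
        ((∃ x : G, orderOf x = r * s) ↔ (∃ y : H, orderOf y = r * s)))) := by
  classical
  set N := Multiplicative (Fin M → n → F) with hNdef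
  have hN : ∀ x : N, x ^ p = 1 := by
    intro x
    apply Multiplicative.toAdd.injective
    rw [toAdd_pow]
    funext i j
    simp [CharP.cast_eq_zero F p]
  have hfix' : ∀ (g : G) (x : N), x ≠ 1 → actHom ι M g x = x →
      ∀ s : ℕ, s.Prime → s ≠ p → orderOf g = s → ∃ g' : G, orderOf g' = p * s := by
    intro g x hx hgx
    have : ∃ i, Multiplicative.toAdd x i ≠ 0 := by
      by_contra hcon
      push Not at hcon
      apply hx
      apply Multiplicative.toAdd.injective
      funext i
      exact hcon i
    obtain ⟨i, hi⟩ := this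
    apply hfix g _ hi
    rw [← actHom_apply, hgx]
  have : Finite N := by rw [hNdef]; infer_instance
  have : Finite (N ⋊[actHom ι M] G) := Finite.of_equiv _ SemidirectProduct.equivProd.symm
  obtain ⟨H', iG, iF, ⟨e⟩⟩ := exists_small_copy (N ⋊[actHom ι M] G)
  refine ⟨H', iG, iF, ?_, ?_, ?_⟩
  · rw [← Nat.card_eq_fintype_card, Nat.card_congr e.toEquiv, SemidirectProduct.card]
    have h1 : M < Nat.card N := by
      have h2 : Nat.card N = (Nat.card (n → F)) ^ M := by
        rw [hNdef]
        rw [Nat.card_congr Multiplicative.toAdd, Nat.card_pi]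
        simp
      have h3 : 2 ≤ Nat.card (n → F) := by
        exact Finite.one_lt_card
      calc M < 2 ^ M := Nat.lt_two_pow_self
        _ ≤ (Nat.card (n → F)) ^ M := Nat.pow_le_pow_left h3 M
        _ = Nat.card N := h2.symm
    have h4 : 0 < Nat.card G := Nat.card_pos
    nlinarith
  · intro r hr
    rw [Nat.card_congr e.toEquiv]
    exact prime_dvd_card_iff _ p hp hN hpG r hr
  · intro r s hr hs hrs
    rw [exists_orderOf_iff' (actHom ι M) p hp hN hfix' r s hr hs hrs]
    constructor
    · rintro ⟨h, hh⟩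
      exact ⟨e.symm h, by rw [MulEquiv.orderOf_eq, hh]⟩
    · rintro ⟨h, hh⟩
      exact ⟨e h, by rw [MulEquiv.orderOf_eq, hh]⟩

/-- the stabiliser of a vector -/
def fixer (v : n → F) : Subgroup G where
  carrier := {a | (ι a : Matrix n n F).mulVec v = v}
  one_mem' := by simp
  mul_mem' := by
    intro a b ha hb
    simp only [Set.mem_ofPred_eq] at ha hb ⊢
    rw [map_mul, Units.val_mul, ← Matrix.mulVec_mulVec, hb, ha]
  inv_mem' := by
    intro a ha
    simp only [Set.mem_ofPred_eq] at ha ⊢
    conv_lhs => rw [← ha]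
    rw [Matrix.mulVec_mulVec, ← Units.val_mul, ← map_mul, inv_mul_cancel, map_one, Units.val_one,
      Matrix.one_mulVec]

end matrix

/-- if `p` divides the group order exactly once, any two subgroups of order `p` are conjugate -/
theorem exists_conj {G : Type*} [Group G] [Finite G] (p : ℕ) [Fact p.Prime]
    (hp : (Nat.card G).factorization p = 1) (x0 g : G) (hx0 : orderOf x0 = p)
    (hg : orderOf g = p) : ∃ h : G, x0 ∈ Subgroup.zpowers (h * g * h⁻¹) := by
  have key : ∀ y : G, orderOf y = p → ∃ S : Sylow p G, (S : Subgroup G) = Subgroup.zpowers y := by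
    intro y hy
    have h1 : IsPGroup p (Subgroup.zpowers y) :=
      IsPGroup.of_card (n := 1) (by rw [Nat.card_zpowers, hy, pow_one])
    obtain ⟨S, hS⟩ := h1.exists_le_sylow
    refine ⟨S, ?_⟩
    symm
    apply Subgroup.eq_of_le_of_card_ge hS
    rw [Sylow.card_eq_multiplicity, hp, pow_one, Nat.card_zpowers, hy]
  obtain ⟨S, hS⟩ := key g hg
  obtain ⟨S0, hS0⟩ := key x0 hx0
  obtain ⟨h, hh⟩ := MulAction.exists_smul_eq G S S0
  refine ⟨h, ?_⟩
  have hmem : h * g * h⁻¹ ∈ Subgroup.zpowers x0 := by
    rw [← hS0, ← hh, Sylow.smul_def, Sylow.pointwise_smul_def]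
    have : g ∈ (S : Subgroup G) := by rw [hS]; exact Subgroup.mem_zpowers _
    exact Subgroup.smul_mem_pointwise_smul _ (MulAut.conj h) _ this
  have ho : orderOf (h * g * h⁻¹) = p := by
    rw [← hg]
    exact (MulAut.conj h).orderOf_eq g
  have hz : Subgroup.zpowers (h * g * h⁻¹) = Subgroup.zpowers x0 := by
    apply Subgroup.eq_of_le_of_card_ge
    · rw [Subgroup.zpowers_le]; exact hmem
    · rw [Nat.card_zpowers, Nat.card_zpowers, ho, hx0]
  rw [hz]
  exact Subgroup.mem_zpowers _

/-- if one element of order `p` has no nonzero fixed vector, and `p` divides the group order exactly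
once, then no element of order `p` has one -/
theorem eq_zero_of_fixed {F : Type*} [Field F] {n : Type*} [Fintype n] [DecidableEq n]
    {G : Type*} [Group G] [Finite G] (ι : G →* GL n F) (p : ℕ) [Fact p.Prime]
    (hp : (Nat.card G).factorization p = 1) (x0 : G) (hx0 : orderOf x0 = p)
    (hfree : ∀ v : n → F, (ι x0 : Matrix n n F).mulVec v = v → v = 0)
    (g : G) (hg : orderOf g = p) (v : n → F) (hv : (ι g : Matrix n n F).mulVec v = v) : v = 0 := by
  obtain ⟨h, hh⟩ := exists_conj p hp x0 g hx0 hg
  set v' := (ι h : Matrix n n F).mulVec v with hv'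
  have h1 : h * g * h⁻¹ ∈ fixer ι v' := by
    show (ι (h * g * h⁻¹) : Matrix n n F).mulVec v' = v'
    rw [hv', Matrix.mulVec_mulVec, ← Units.val_mul, ← map_mul, inv_mul_cancel_right, map_mul,
      Units.val_mul, ← Matrix.mulVec_mulVec, hv]
  have h2 : x0 ∈ fixer ι v' := (Subgroup.zpowers_le.2 h1) hh
  have h3 : v' = 0 := hfree v' h2
  have h4 : (ι h⁻¹ : Matrix n n F).mulVec v' = v := by
    rw [hv', Matrix.mulVec_mulVec, ← Units.val_mul, ← map_mul, inv_mul_cancel, map_one,
      Units.val_one, Matrix.one_mulVec]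
  rw [← h4, h3, Matrix.mulVec_zero]

end Cfsg.Agent.Lib.Helper62G24c
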