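import Mathlib
import Cfsg.Agent.Lib.Helper62G24b
import Cfsg.Agent.Lib.Helper62G24c
import Cfsg.Agent.S1059

set_option autoImplicit false

/-! Elements of `G2(4)` of orders 13, 7, 6, 10 and their action on the six dimensional module. -/

namespace Cfsg.Agent.Lib.Helper62G24d

open Cfsg.Lie Cfsg.Agent.Lib.Helper62F4 Cfsg.Agent.Lib.Helper62G24a Cfsg.Agent.Lib.Helper62G24b
  Cfsg.Agent.Lib.Helper62G24c

/-- the element of order 13 -/
noncomputable def x0 : Gam := gm 0 1 * gm 2 1 * gm 4 w * gm 9 w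
/-- the element of order 7 -/
noncomputable def y0 : Gam := gm 0 1 * gm 4 1 * gm 9 1
/-- the element of order 6 -/
noncomputable def z0 : Gam := gm 0 1 * gm 2 1 * gm 11 1
/-- the element of order 10 -/
noncomputable def d0 : Gam := gm 0 1 * gm 2 1 * gm 9 w

theorem rho_x0 : rho x0 = x := by
  rw [x0, map_mul, map_mul, map_mul, rho_gm, rho_gm, rho_gm, rho_gm, x_0_eq, x_1_eq, x_eq]

theorem rho_y0 : rho y0 = y := by
  rw [y0, map_mul, map_mul, rho_gm, rho_gm, rho_gm, y_0_eq, y_eq]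

theorem rho_z0 : rho z0 = z := by
  rw [z0, map_mul, map_mul, rho_gm, rho_gm, rho_gm, z_0_eq, z_eq]

theorem rho_d0 : rho d0 = d := by
  rw [d0, map_mul, map_mul, rho_gm, rho_gm, rho_gm, d_0_eq, d_eq]

theorem x_pow13 : x ^ 13 = 1 := by
  have h2 : x ^ 2 = x2 := by rw [pow_two, x2_eq]
  have h4 : x ^ 4 = x4 := by rw [show 4 = 2 + 2 from rfl, pow_add, h2, x4_eq]
  have h8 : x ^ 8 = x8 := by rw [show 8 = 4 + 4 from rfl, pow_add, h4, x8_eq]
  calc x ^ 13 = x ^ 8 * x ^ 4 * x := by rw [← pow_add, ← pow_succ]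
    _ = 1 := by rw [h8, h4, x12_eq, x13_eq]

theorem y_pow7 : y ^ 7 = 1 := by
  have h2 : y ^ 2 = y2 := by rw [pow_two, y2_eq]
  have h4 : y ^ 4 = y4 := by rw [show 4 = 2 + 2 from rfl, pow_add, h2, y4_eq]
  calc y ^ 7 = y ^ 4 * y ^ 2 * y := by rw [← pow_add, ← pow_succ]
    _ = 1 := by rw [h4, h2, y6_eq, y7_eq]

theorem order_x0 : orderOf x0 = 13 := by
  have : Fact (Nat.Prime 13) := ⟨by norm_num⟩
  apply orderOf_eq_prime
  · apply eq_one_of_rho
    rw [map_pow, rho_x0, x_pow13]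
  · intro h
    have := rho_x0
    rw [h, map_one] at this
    exact x_ne this.symm

theorem order_y0 : orderOf y0 = 7 := by
  have : Fact (Nat.Prime 7) := ⟨by norm_num⟩
  apply orderOf_eq_prime
  · apply eq_one_of_rho
    rw [map_pow, rho_y0, y_pow7]
  · intro h
    have := rho_y0
    rw [h, map_one] at this
    exact y_ne this.symm

theorem order_z0 : orderOf z0 = 2 * 3 := by
  have h2 : z ^ 2 = z2 := by rw [pow_two, z2_eq]
  have h3 : z ^ 3 = z3 := by rw [pow_succ, h2, z3_eq]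
  apply orderOf_eq_of_pow_and_pow_div_prime (by norm_num)
  · apply eq_one_of_rho
    rw [map_pow, rho_z0, show 2 * 3 = 3 + 3 from rfl, pow_add, h3, z6_eq]
  · intro p hp hd h
    have hp6 : p = 2 ∨ p = 3 := by
      rcases (Nat.Prime.dvd_mul hp).1 hd with h | h
      · left; exact (Nat.prime_dvd_prime_iff_eq hp (by norm_num)).1 h
      · right; exact (Nat.prime_dvd_prime_iff_eq hp (by norm_num)).1 h
    have := congrArg rho h
    rw [map_pow, map_one, rho_z0] at this
    rcases hp6 with rfl | rfl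
    · rw [show 2 * 3 / 2 = 3 from rfl, h3] at this
      exact z3_ne this
    · rw [show 2 * 3 / 3 = 2 from rfl, h2] at this
      exact z2_ne this

theorem order_d0 : orderOf d0 = 2 * 5 := by
  have h2 : d ^ 2 = d2 := by rw [pow_two, d2_eq]
  have h4 : d ^ 4 = d4 := by rw [show 4 = 2 + 2 from rfl, pow_add, h2, d4_eq]
  have h5 : d ^ 5 = d5 := by rw [pow_succ, h4, d5_eq]
  apply orderOf_eq_of_pow_and_pow_div_prime (by norm_num)
  · apply eq_one_of_rho
    rw [map_pow, rho_d0, show 2 * 5 = 5 + 5 from rfl, pow_add, h5, d10_eq]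
  · intro p hp hd h
    have hp6 : p = 2 ∨ p = 5 := by
      rcases (Nat.Prime.dvd_mul hp).1 hd with h | h
      · left; exact (Nat.prime_dvd_prime_iff_eq hp (by norm_num)).1 h
      · right; exact (Nat.prime_dvd_prime_iff_eq hp (by norm_num)).1 h
    have := congrArg rho h
    rw [map_pow, map_one, rho_d0] at this
    rcases hp6 with rfl | rfl
    · rw [show 2 * 5 / 2 = 5 from rfl, h5] at this
      exact d5_ne this
    · rw [show 2 * 5 / 5 = 2 from rfl, h2] at this
      exact d2_ne this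

theorem free_aux (X W : M6) (hW : W * (X - 1) = 1) (v : Fin 6 → K) (hv : X.mulVec v = v) :
    v = 0 := by
  have h1 : (X - 1).mulVec v = 0 := by rw [Matrix.sub_mulVec, hv, Matrix.one_mulVec, sub_self]
  calc v = (W * (X - 1)).mulVec v := by rw [hW, Matrix.one_mulVec]
    _ = 0 := by rw [← Matrix.mulVec_mulVec, h1, Matrix.mulVec_zero]

theorem free_x0 (v : Fin 6 → K) (hv : (phi1 x0 : M6).mulVec v = v) : v = 0 := by
  rw [← rho_apply, rho_x0] at hv
  exact free_aux x xW xW_eq v hv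

theorem free_y0 (v : Fin 6 → K) (hv : (phi1 y0 : M6).mulVec v = v) : v = 0 := by
  rw [← rho_apply, rho_y0] at hv
  exact free_aux y yW yW_eq v hv

theorem card_Gam : Nat.card Gam = 251596800 := by
  rw [Nat.card_congr iso.toEquiv, Cfsg.Agent.S1059.result (F := K) (q := 4) card_F4]
  norm_num

theorem fact_eq_one {n p : ℕ} (hp : p.Prime) (hn : n ≠ 0) (h1 : p ∣ n) (h2 : ¬ p ^ 2 ∣ n) :
    n.factorization p = 1 := by
  have a1 : 1 ≤ n.factorization p := (hp.pow_dvd_iff_le_factorization hn).1 (by simpa using h1)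
  have a2 : ¬ 2 ≤ n.factorization p := fun h => h2 ((hp.pow_dvd_iff_le_factorization hn).2 h)
  omega

theorem prime_dvd {r : ℕ} (hr : r.Prime) (h : r ∣ 251596800) :
    r = 2 ∨ r = 3 ∨ r = 5 ∨ r = 7 ∨ r = 13 := by
  have h1 : r ∣ 2 ^ 12 * 3 ^ 3 * 5 ^ 2 * 7 * 13 := by norm_num; exact h
  rcases (Nat.Prime.dvd_mul hr).1 h1 with h2 | h2
  · rcases (Nat.Prime.dvd_mul hr).1 h2 with h3 | h3
    · rcases (Nat.Prime.dvd_mul hr).1 h3 with h4 | h4
      · rcases (Nat.Prime.dvd_mul hr).1 h4 with h5 | h5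
        · left; exact (Nat.prime_dvd_prime_iff_eq hr (by norm_num)).1 (hr.dvd_of_dvd_pow h5)
        · right; left
          exact (Nat.prime_dvd_prime_iff_eq hr (by norm_num)).1 (hr.dvd_of_dvd_pow h5)
      · right; right; left
        exact (Nat.prime_dvd_prime_iff_eq hr (by norm_num)).1 (hr.dvd_of_dvd_pow h4)
    · right; right; right; left; exact (Nat.prime_dvd_prime_iff_eq hr (by norm_num)).1 h3
  · right; right; right; right; exact (Nat.prime_dvd_prime_iff_eq hr (by norm_num)).1 h2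

instance : Finite Gam := Nat.finite_of_card_ne_zero (by rw [card_Gam]; norm_num)

theorem hfix (g : Gam) (v : Fin 6 → K) (hv : v ≠ 0) (hgv : (phi1 g : M6).mulVec v = v) (s : ℕ)
    (hs : s.Prime) (hs2 : s ≠ 2) (hg : orderOf g = s) : ∃ g' : Gam, orderOf g' = 2 * s := by
  have hd : s ∣ 251596800 := by rw [← hg, ← card_Gam]; exact orderOf_dvd_natCard g
  rcases prime_dvd hs hd with rfl | rfl | rfl | rfl | rfl
  · exact absurd rfl hs2
  · exact ⟨z0, order_z0⟩
  · exact ⟨d0, order_d0⟩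
  · exfalso
    have : Fact (Nat.Prime 7) := ⟨by norm_num⟩
    exact hv (eq_zero_of_fixed phi1 7 (fact_eq_one (by norm_num) (by rw [card_Gam]; norm_num)
      (by rw [card_Gam]; norm_num) (by rw [card_Gam]; norm_num)) y0 order_y0 free_y0 g hg v hgv)
  · exfalso
    have : Fact (Nat.Prime 13) := ⟨by norm_num⟩
    exact hv (eq_zero_of_fixed phi1 13 (fact_eq_one (by norm_num) (by rw [card_Gam]; norm_num)
      (by rw [card_Gam]; norm_num) (by rw [card_Gam]; norm_num)) x0 order_x0 free_x0 g hg v hgv)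

/-- arbitrarily large groups with the prime graph of `G2(4)` -/
theorem large (M : ℕ) :
    ∃ (H : Type) (_ : Group H) (_ : Fintype H), M < Fintype.card H ∧
      ((∀ r : ℕ, r.Prime → (r ∣ Nat.card Gam ↔ r ∣ Nat.card H)) ∧
      (∀ r s : ℕ, r.Prime → s.Prime → r ≠ s →
        ((∃ x : Gam, orderOf x = r * s) ↔ (∃ y : H, orderOf y = r * s)))) :=
  exists_large' phi1 2 Nat.prime_two (by rw [card_Gam]; norm_num) hfix M

end Cfsg.Agent.Lib.Helper62G24d
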