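import Mathlib
import Cfsg.Agent.Lib.Helper62G2a

set_option autoImplicit false

/-! Data for the seven dimensional module of `G2(3)`. -/

namespace Cfsg.Agent.Lib.Helper62G2b

open Cfsg.Agent.Lib.Helper62G2a

/-- `7 × 7` matrices over the field with three elements -/
abbrev M7 := Matrix (Fin 7) (Fin 7) (ZMod 3)

def g0_1 : M7 := !![1, 0, 0, 0, 0, 0, 0; 0, 1, 0, 0, 0, 1, 0; 0, 0, 1, 0, 0, 0, 2; 0, 0, 0, 1, 0, 0, 0; 0, 0, 0, 0, 1, 0, 0; 0, 0, 0, 0, 0, 1, 0; 0, 0, 0, 0, 0, 0, 1]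
def g0_2 : M7 := !![1, 0, 0, 0, 0, 0, 0; 0, 1, 0, 0, 0, 2, 0; 0, 0, 1, 0, 0, 0, 1; 0, 0, 0, 1, 0, 0, 0; 0, 0, 0, 0, 1, 0, 0; 0, 0, 0, 0, 0, 1, 0; 0, 0, 0, 0, 0, 0, 1]
def g1_1 : M7 := !![1, 0, 0, 0, 0, 0, 0; 0, 1, 0, 0, 1, 0, 0; 0, 0, 1, 0, 0, 0, 0; 0, 0, 0, 1, 0, 0, 2; 0, 0, 0, 0, 1, 0, 0; 0, 0, 0, 0, 0, 1, 0; 0, 0, 0, 0, 0, 0, 1]
def g1_2 : M7 := !![1, 0, 0, 0, 0, 0, 0; 0, 1, 0, 0, 2, 0, 0; 0, 0, 1, 0, 0, 0, 0; 0, 0, 0, 1, 0, 0, 1; 0, 0, 0, 0, 1, 0, 0; 0, 0, 0, 0, 0, 1, 0; 0, 0, 0, 0, 0, 0, 1]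
def g2_1 : M7 := !![1, 0, 0, 0, 0, 0, 1; 1, 1, 0, 0, 0, 0, 2; 0, 0, 1, 0, 1, 0, 0; 0, 0, 0, 1, 0, 2, 0; 0, 0, 0, 0, 1, 0, 0; 0, 0, 0, 0, 0, 1, 0; 0, 0, 0, 0, 0, 0, 1]
def g2_2 : M7 := !![1, 0, 0, 0, 0, 0, 2; 2, 1, 0, 0, 0, 0, 2; 0, 0, 1, 0, 2, 0, 0; 0, 0, 0, 1, 0, 1, 0; 0, 0, 0, 0, 1, 0, 0; 0, 0, 0, 0, 0, 1, 0; 0, 0, 0, 0, 0, 0, 1]
def g3_1 : M7 := !![1, 0, 0, 0, 0, 2, 0; 0, 1, 0, 1, 0, 0, 0; 2, 0, 1, 0, 0, 2, 0; 0, 0, 0, 1, 0, 0, 0; 0, 0, 0, 0, 1, 0, 2; 0, 0, 0, 0, 0, 1, 0; 0, 0, 0, 0, 0, 0, 1]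
def g3_2 : M7 := !![1, 0, 0, 0, 0, 1, 0; 0, 1, 0, 2, 0, 0, 0; 1, 0, 1, 0, 0, 2, 0; 0, 0, 0, 1, 0, 0, 0; 0, 0, 0, 0, 1, 0, 1; 0, 0, 0, 0, 0, 1, 0; 0, 0, 0, 0, 0, 0, 1]
def g4_1 : M7 := !![1, 0, 0, 0, 2, 0, 0; 0, 1, 2, 0, 0, 0, 0; 0, 0, 1, 0, 0, 0, 0; 2, 0, 0, 1, 2, 0, 0; 0, 0, 0, 0, 1, 0, 0; 0, 0, 0, 0, 0, 1, 1; 0, 0, 0, 0, 0, 0, 1]
def g4_2 : M7 := !![1, 0, 0, 0, 1, 0, 0; 0, 1, 1, 0, 0, 0, 0; 0, 0, 1, 0, 0, 0, 0; 1, 0, 0, 1, 2, 0, 0; 0, 0, 0, 0, 1, 0, 0; 0, 0, 0, 0, 0, 1, 2; 0, 0, 0, 0, 0, 0, 1]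
def g5_1 : M7 := !![1, 0, 0, 0, 0, 0, 0; 0, 1, 0, 0, 0, 0, 0; 0, 0, 1, 2, 0, 0, 0; 0, 0, 0, 1, 0, 0, 0; 0, 0, 0, 0, 1, 1, 0; 0, 0, 0, 0, 0, 1, 0; 0, 0, 0, 0, 0, 0, 1]
def g5_2 : M7 := !![1, 0, 0, 0, 0, 0, 0; 0, 1, 0, 0, 0, 0, 0; 0, 0, 1, 1, 0, 0, 0; 0, 0, 0, 1, 0, 0, 0; 0, 0, 0, 0, 1, 2, 0; 0, 0, 0, 0, 0, 1, 0; 0, 0, 0, 0, 0, 0, 1]
def g6_1 : M7 := !![1, 0, 0, 0, 0, 0, 0; 0, 1, 0, 0, 0, 0, 0; 0, 0, 1, 0, 0, 0, 0; 0, 0, 2, 1, 0, 0, 0; 0, 0, 0, 0, 1, 0, 0; 0, 0, 0, 0, 1, 1, 0; 0, 0, 0, 0, 0, 0, 1]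
def g6_2 : M7 := !![1, 0, 0, 0, 0, 0, 0; 0, 1, 0, 0, 0, 0, 0; 0, 0, 1, 0, 0, 0, 0; 0, 0, 1, 1, 0, 0, 0; 0, 0, 0, 0, 1, 0, 0; 0, 0, 0, 0, 2, 1, 0; 0, 0, 0, 0, 0, 0, 1]
def g7_1 : M7 := !![1, 0, 0, 1, 0, 0, 0; 0, 1, 0, 0, 0, 0, 0; 0, 2, 1, 0, 0, 0, 0; 0, 0, 0, 1, 0, 0, 0; 1, 0, 0, 2, 1, 0, 0; 0, 0, 0, 0, 0, 1, 0; 0, 0, 0, 0, 0, 1, 1]
def g7_2 : M7 := !![1, 0, 0, 2, 0, 0, 0; 0, 1, 0, 0, 0, 0, 0; 0, 1, 1, 0, 0, 0, 0; 0, 0, 0, 1, 0, 0, 0; 2, 0, 0, 2, 1, 0, 0; 0, 0, 0, 0, 0, 1, 0; 0, 0, 0, 0, 0, 2, 1]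
def g8_1 : M7 := !![1, 0, 1, 0, 0, 0, 0; 0, 1, 0, 0, 0, 0, 0; 0, 0, 1, 0, 0, 0, 0; 0, 1, 0, 1, 0, 0, 0; 0, 0, 0, 0, 1, 0, 0; 1, 0, 2, 0, 0, 1, 0; 0, 0, 0, 0, 2, 0, 1]
def g8_2 : M7 := !![1, 0, 2, 0, 0, 0, 0; 0, 1, 0, 0, 0, 0, 0; 0, 0, 1, 0, 0, 0, 0; 0, 2, 0, 1, 0, 0, 0; 0, 0, 0, 0, 1, 0, 0; 2, 0, 2, 0, 0, 1, 0; 0, 0, 0, 0, 1, 0, 1]
def g9_1 : M7 := !![1, 2, 0, 0, 0, 0, 0; 0, 1, 0, 0, 0, 0, 0; 0, 0, 1, 0, 0, 0, 0; 0, 0, 0, 1, 0, 0, 0; 0, 0, 1, 0, 1, 0, 0; 0, 0, 0, 2, 0, 1, 0; 2, 2, 0, 0, 0, 0, 1]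
def g9_2 : M7 := !![1, 1, 0, 0, 0, 0, 0; 0, 1, 0, 0, 0, 0, 0; 0, 0, 1, 0, 0, 0, 0; 0, 0, 0, 1, 0, 0, 0; 0, 0, 2, 0, 1, 0, 0; 0, 0, 0, 1, 0, 1, 0; 1, 2, 0, 0, 0, 0, 1]
def g10_1 : M7 := !![1, 0, 0, 0, 0, 0, 0; 0, 1, 0, 0, 0, 0, 0; 0, 0, 1, 0, 0, 0, 0; 0, 0, 0, 1, 0, 0, 0; 0, 1, 0, 0, 1, 0, 0; 0, 0, 0, 0, 0, 1, 0; 0, 0, 0, 2, 0, 0, 1]
def g10_2 : M7 := !![1, 0, 0, 0, 0, 0, 0; 0, 1, 0, 0, 0, 0, 0; 0, 0, 1, 0, 0, 0, 0; 0, 0, 0, 1, 0, 0, 0; 0, 2, 0, 0, 1, 0, 0; 0, 0, 0, 0, 0, 1, 0; 0, 0, 0, 1, 0, 0, 1]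
def g11_1 : M7 := !![1, 0, 0, 0, 0, 0, 0; 0, 1, 0, 0, 0, 0, 0; 0, 0, 1, 0, 0, 0, 0; 0, 0, 0, 1, 0, 0, 0; 0, 0, 0, 0, 1, 0, 0; 0, 1, 0, 0, 0, 1, 0; 0, 0, 2, 0, 0, 0, 1]
def g11_2 : M7 := !![1, 0, 0, 0, 0, 0, 0; 0, 1, 0, 0, 0, 0, 0; 0, 0, 1, 0, 0, 0, 0; 0, 0, 0, 1, 0, 0, 0; 0, 0, 0, 0, 1, 0, 0; 0, 2, 0, 0, 0, 1, 0; 0, 0, 1, 0, 0, 0, 1]

/-- the action of the root elements on the ideal spanned by the short roots -/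
def gen7 : Fin 12 → Fin 3 → M7 := ![![1, g0_1, g0_2], ![1, g1_1, g1_2], ![1, g2_1, g2_2], ![1, g3_1, g3_2], ![1, g4_1, g4_2], ![1, g5_1, g5_2], ![1, g6_1, g6_2], ![1, g7_1, g7_2], ![1, g8_1, g8_2], ![1, g9_1, g9_2], ![1, g10_1, g10_2], ![1, g11_1, g11_2]]

def ad0 : M7 := !![0, 0, 0, 0, 0, 0, 0; 0, 1, 0, 0, 0, 0, 0; 0, 0, 2, 0, 0, 0, 0; 0, 0, 0, 2, 0, 0, 0; 0, 0, 0, 0, 1, 0, 0; 0, 0, 0, 0, 0, 1, 0; 0, 0, 0, 0, 0, 0, 2]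
def ad1 : M7 := !![0, 0, 0, 0, 0, 0, 2; 2, 0, 0, 0, 0, 0, 0; 0, 0, 0, 0, 2, 0, 0; 0, 0, 0, 0, 0, 1, 0; 0, 0, 0, 0, 0, 0, 0; 0, 0, 0, 0, 0, 0, 0; 0, 0, 0, 0, 0, 0, 0]
def ad2 : M7 := !![0, 0, 0, 0, 0, 1, 0; 0, 0, 0, 2, 0, 0, 0; 1, 0, 0, 0, 0, 0, 0; 0, 0, 0, 0, 0, 0, 0; 0, 0, 0, 0, 0, 0, 1; 0, 0, 0, 0, 0, 0, 0; 0, 0, 0, 0, 0, 0, 0]
def ad3 : M7 := !![0, 0, 0, 0, 1, 0, 0; 0, 0, 1, 0, 0, 0, 0; 0, 0, 0, 0, 0, 0, 0; 1, 0, 0, 0, 0, 0, 0; 0, 0, 0, 0, 0, 0, 0; 0, 0, 0, 0, 0, 0, 2; 0, 0, 0, 0, 0, 0, 0]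
def ad4 : M7 := !![0, 0, 0, 2, 0, 0, 0; 0, 0, 0, 0, 0, 0, 0; 0, 1, 0, 0, 0, 0, 0; 0, 0, 0, 0, 0, 0, 0; 2, 0, 0, 0, 0, 0, 0; 0, 0, 0, 0, 0, 0, 0; 0, 0, 0, 0, 0, 2, 0]
def ad5 : M7 := !![0, 0, 2, 0, 0, 0, 0; 0, 0, 0, 0, 0, 0, 0; 0, 0, 0, 0, 0, 0, 0; 0, 2, 0, 0, 0, 0, 0; 0, 0, 0, 0, 0, 0, 0; 2, 0, 0, 0, 0, 0, 0; 0, 0, 0, 0, 1, 0, 0]
def ad6 : M7 := !![0, 1, 0, 0, 0, 0, 0; 0, 0, 0, 0, 0, 0, 0; 0, 0, 0, 0, 0, 0, 0; 0, 0, 0, 0, 0, 0, 0; 0, 0, 2, 0, 0, 0, 0; 0, 0, 0, 1, 0, 0, 0; 1, 0, 0, 0, 0, 0, 0]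

/-- adjoint matrices of the invariant product -/
def Ad : Fin 7 → M7 := ![ad0, ad1, ad2, ad3, ad4, ad5, ad6]

def xp0 : M7 := !![1, 0, 0, 0, 0, 0, 0; 0, 1, 0, 0, 0, 0, 0; 0, 0, 1, 0, 0, 0, 0; 0, 0, 0, 1, 0, 0, 0; 0, 0, 0, 0, 1, 0, 0; 0, 0, 0, 0, 0, 1, 0; 0, 0, 0, 0, 0, 0, 1]
def xp1 : M7 := !![1, 2, 2, 0, 2, 0, 0; 2, 0, 2, 2, 0, 1, 1; 1, 1, 1, 0, 0, 0, 2; 2, 1, 2, 1, 2, 0, 0; 0, 0, 1, 0, 1, 0, 0; 2, 2, 0, 2, 0, 1, 1; 2, 2, 0, 0, 0, 0, 1]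
def xp2 : M7 := !![1, 1, 1, 1, 1, 2, 0; 0, 0, 1, 1, 2, 1, 0; 2, 1, 2, 2, 2, 1, 2; 2, 1, 0, 0, 2, 1, 2; 1, 1, 2, 0, 1, 0, 2; 2, 1, 0, 2, 2, 0, 1; 2, 0, 2, 1, 1, 2, 0]
def xp3 : M7 := !![1, 2, 2, 1, 2, 0, 2; 2, 1, 2, 0, 1, 1, 0; 1, 2, 2, 0, 1, 2, 2; 1, 1, 2, 1, 0, 2, 1; 0, 2, 1, 2, 0, 1, 1; 1, 2, 0, 1, 1, 1, 2; 1, 2, 0, 2, 1, 2, 0]
def xp4 : M7 := !![1, 0, 0, 2, 0, 2, 2; 2, 2, 0, 1, 2, 2, 0; 0, 0, 0, 2, 0, 1, 1; 1, 2, 2, 1, 1, 0, 2; 1, 1, 0, 2, 1, 0, 0; 1, 0, 0, 1, 2, 0, 2; 1, 2, 2, 1, 1, 1, 1]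
def xp5 : M7 := !![1, 0, 0, 0, 0, 2, 1; 0, 0, 0, 0, 2, 1, 1; 2, 0, 1, 1, 1, 1, 2; 1, 0, 2, 2, 2, 2, 2; 1, 1, 0, 1, 1, 1, 1; 1, 1, 0, 1, 0, 0, 2; 1, 0, 2, 1, 2, 0, 2]
def xp6 : M7 := !![1, 2, 2, 1, 2, 2, 0; 1, 1, 2, 2, 2, 1, 2; 2, 0, 2, 0, 1, 1, 2; 0, 2, 1, 0, 2, 2, 2; 0, 1, 1, 2, 2, 2, 0; 0, 1, 0, 0, 1, 1, 0; 0, 0, 2, 1, 0, 0, 0]
def xp : Fin 7 → M7 := ![xp0, xp1, xp2, xp3, xp4, xp5, xp6]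
def xW : M7 := !![2, 2, 0, 1, 1, 2, 1; 0, 0, 2, 0, 1, 2, 1; 2, 1, 0, 0, 1, 2, 0; 0, 2, 2, 0, 2, 1, 1; 0, 2, 1, 0, 1, 1, 0; 2, 0, 2, 0, 2, 0, 0; 2, 2, 2, 0, 1, 1, 2]
def x12 : M7 := !![1, 1, 1, 0, 1, 2, 1; 0, 1, 1, 0, 0, 2, 1; 0, 0, 1, 0, 0, 0, 1; 1, 0, 0, 1, 2, 0, 0; 0, 0, 2, 0, 1, 0, 2; 1, 0, 0, 1, 2, 1, 2; 1, 2, 2, 0, 1, 1, 0]
def yp0 : M7 := !![1, 0, 0, 0, 0, 0, 0; 0, 1, 0, 0, 0, 0, 0; 0, 0, 1, 0, 0, 0, 0; 0, 0, 0, 1, 0, 0, 0; 0, 0, 0, 0, 1, 0, 0; 0, 0, 0, 0, 0, 1, 0; 0, 0, 0, 0, 0, 0, 1]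
def yp1 : M7 := !![1, 2, 0, 0, 0, 2, 0; 0, 2, 1, 1, 1, 1, 2; 2, 2, 2, 0, 0, 2, 2; 0, 0, 1, 1, 0, 0, 2; 0, 0, 1, 0, 1, 0, 2; 0, 1, 0, 0, 0, 1, 0; 0, 0, 2, 0, 0, 0, 1]
def yp2 : M7 := !![1, 2, 2, 2, 2, 0, 1; 2, 1, 1, 0, 0, 2, 0; 0, 2, 1, 2, 2, 0, 1; 2, 2, 1, 1, 0, 2, 0; 2, 2, 1, 0, 1, 2, 0; 0, 0, 1, 1, 1, 2, 2; 1, 1, 0, 0, 0, 1, 2]
def yp3 : M7 := !![2, 1, 0, 1, 1, 2, 2; 1, 1, 0, 1, 1, 0, 1; 2, 0, 1, 1, 1, 1, 0; 1, 0, 2, 0, 2, 1, 2; 1, 0, 2, 2, 0, 1, 2; 2, 1, 2, 1, 1, 1, 2; 1, 2, 2, 1, 1, 1, 1]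
def yp4 : M7 := !![2, 2, 1, 2, 2, 1, 2; 1, 1, 2, 2, 2, 0, 1; 1, 1, 1, 1, 1, 1, 0; 2, 1, 1, 0, 2, 1, 1; 2, 1, 1, 2, 0, 1, 1; 0, 2, 2, 2, 2, 1, 0; 2, 2, 1, 0, 0, 0, 1]
def yp5 : M7 := !![1, 2, 0, 1, 1, 0, 1; 2, 2, 2, 0, 0, 1, 0; 0, 1, 2, 2, 2, 0, 2; 1, 0, 1, 1, 0, 2, 0; 1, 0, 1, 0, 1, 2, 0; 1, 0, 1, 1, 1, 1, 1; 1, 1, 0, 2, 2, 2, 1]
def yp6 : M7 := !![1, 0, 0, 0, 0, 1, 0; 0, 1, 0, 2, 2, 2, 2; 1, 0, 1, 0, 0, 2, 1; 0, 0, 0, 1, 0, 0, 1; 0, 0, 0, 0, 1, 0, 1; 0, 2, 0, 1, 1, 2, 1; 1, 0, 1, 0, 0, 2, 2]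
def yp : Fin 7 → M7 := ![yp0, yp1, yp2, yp3, yp4, yp5, yp6]
def yW : M7 := !![0, 2, 2, 1, 2, 1, 0; 2, 1, 2, 0, 1, 1, 1; 2, 0, 0, 0, 1, 0, 2; 1, 0, 2, 0, 1, 0, 2; 2, 0, 1, 0, 1, 0, 1; 1, 0, 2, 0, 1, 0, 1; 1, 0, 0, 0, 1, 1, 2]
def z1 : M7 := !![1, 0, 0, 0, 0, 0, 0; 0, 0, 0, 0, 0, 2, 0; 0, 0, 0, 0, 0, 0, 1; 0, 0, 0, 1, 0, 0, 0; 0, 0, 0, 0, 1, 0, 0; 0, 1, 0, 0, 0, 1, 0; 0, 0, 2, 0, 0, 0, 1]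
def z2 : M7 := !![1, 0, 0, 0, 0, 0, 0; 0, 2, 0, 0, 0, 2, 0; 0, 0, 2, 0, 0, 0, 1; 0, 0, 0, 1, 0, 0, 0; 0, 0, 0, 0, 1, 0, 0; 0, 1, 0, 0, 0, 0, 0; 0, 0, 2, 0, 0, 0, 0]
def z3 : M7 := !![1, 0, 0, 0, 0, 0, 0; 0, 2, 0, 0, 0, 0, 0; 0, 0, 2, 0, 0, 0, 0; 0, 0, 0, 1, 0, 0, 0; 0, 0, 0, 0, 1, 0, 0; 0, 0, 0, 0, 0, 2, 0; 0, 0, 0, 0, 0, 0, 2]
def xa : M7 := !![1, 0, 0, 0, 2, 0, 0; 0, 1, 2, 0, 0, 1, 1; 0, 0, 1, 0, 0, 0, 2; 2, 0, 0, 1, 2, 0, 0; 0, 0, 0, 0, 1, 0, 0; 0, 0, 0, 0, 0, 1, 1; 0, 0, 0, 0, 0, 0, 1]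
def ya : M7 := !![1, 0, 0, 0, 0, 0, 0; 0, 1, 0, 0, 1, 1, 0; 0, 0, 1, 0, 0, 0, 2; 0, 0, 0, 1, 0, 0, 2; 0, 0, 0, 0, 1, 0, 0; 0, 0, 0, 0, 0, 1, 0; 0, 0, 0, 0, 0, 0, 1]
def yb : M7 := !![1, 0, 0, 0, 0, 2, 0; 0, 1, 0, 1, 1, 1, 2; 2, 0, 1, 0, 0, 2, 2; 0, 0, 0, 1, 0, 0, 2; 0, 0, 0, 0, 1, 0, 2; 0, 0, 0, 0, 0, 1, 0; 0, 0, 0, 0, 0, 0, 1]
def za : M7 := !![1, 0, 0, 0, 0, 0, 0; 0, 1, 0, 0, 0, 2, 0; 0, 0, 1, 0, 0, 0, 1; 0, 0, 0, 1, 0, 0, 0; 0, 0, 0, 0, 1, 0, 0; 0, 0, 0, 0, 0, 1, 0; 0, 0, 0, 0, 0, 0, 1]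

theorem xa_eq : g0_1 * g4_1 = xa := by decide +kernel
theorem x_eq : xa * g9_1 = xp1 := by decide +kernel
theorem ya_eq : g0_1 * g1_1 = ya := by decide +kernel
theorem yb_eq : ya * g3_1 = yb := by decide +kernel
theorem y_eq : yb * g11_1 = yp1 := by decide +kernel
theorem za_eq : g0_1 * g0_1 = za := by decide +kernel
theorem z_eq : za * g11_1 = z1 := by decide +kernel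
theorem z2_eq : z1 * z1 = z2 := by decide +kernel
theorem z3_eq : z2 * z1 = z3 := by decide +kernel
theorem z6_eq : z3 * z3 = 1 := by decide +kernel
theorem z2_ne : z2 ≠ 1 := by decide +kernel
theorem z3_ne : z3 ≠ 1 := by decide +kernel
theorem xp0_eq : xp0 = 1 := by decide +kernel
theorem yp0_eq : yp0 = 1 := by decide +kernel
theorem xp_succ : ∀ i : Fin 6, xp i.castSucc * xp1 = xp i.succ := by decide +kernel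
theorem yp_succ : ∀ i : Fin 6, yp i.castSucc * yp1 = yp i.succ := by decide +kernel
theorem x12_eq : xp6 * xp6 = x12 := by decide +kernel
theorem x13_eq : x12 * xp1 = 1 := by decide +kernel
theorem y7_eq : yp6 * yp1 = 1 := by decide +kernel
theorem x_ne : xp1 ≠ 1 := by decide +kernel
theorem y_ne : yp1 ≠ 1 := by decide +kernel
theorem xW_eq : (Matrix.of fun r i => xp i r 3 : M7) * xW = 1 := by decide +kernel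
theorem yW_eq : (Matrix.of fun r i => yp i r 3 : M7) * yW = 1 := by decide +kernel

set_option maxHeartbeats 0 in
theorem gen7_inv : ∀ r t, Inv Ad (gen7 r t) := by decide +kernel

end Cfsg.Agent.Lib.Helper62G2b
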