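import Cfsg.Agent.Lib.Helper62HeM

set_option autoImplicit false
set_option maxRecDepth 1000000

/-! Certificate for the 3-part of the Schur multiplier of the Held group (generated). -/

namespace Cfsg.Agent.Lib.Helper62HeM3

open Cfsg Cfsg.Agent.Lib.Helper62HeP Cfsg.Agent.Lib.Helper62HeM Cfsg.Agent.Lib.Helper63PCDefs
open Cfsg.Agent.Lib.Helper63PCTabDefs

def D : PC where
  p := 3
  n := 3
  pwL := [[], [], []]
  cmL := [[], [2, 2], [], [], [], [], [], [], []]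

def ys : List (List (ℕ × ℤ)) := [[(2, 2), (3, 2)], [(0, 1), (1, 2), (3, 1), (4, 1), (5, 2)], [(0, 2), (1, 1), (2, 1), (3, 2), (4, 2)], [], [(1, 2), (2, 2)], [(0, 1), (1, 2), (3, 2), (4, 2)], [], [], [(2, 2)]]

def C : Cert where
  D := D
  k := 0
  f := 46
  R := 3
  fus := [([[0], [1], [2]], [[0, 1, 2, 2], [1, 1, 2, 2], [2, 2]]), ([[0], [1], [2]], [[0, 0, 2, 2], [0, 0, 1, 2, 2], [2, 2]])]
  specs := [(1, [0, 0, 0], []), (1, [1, 1, 1], []), (1, [2, 2, 2], []), (2, [0, 0, 0], []), (2, [1, 1, 1], []), (2, [1, 0, 2, 2, 2, 2, 1, 1, 0, 0], [])]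
  relV := [[0, (-3), (-2), 0, (-1), (-4), 0, 0, (-4), (-3), 0, 0, 0, 0, 0], [0, 0, 0, 0, (-1), (-6), 0, 0, (-2), 0, (-3), 0, 0, 0, 0], [0, 0, 0, 0, 0, 0, 0, 0, (-1), 0, 0, (-3), 0, 0, 0], [(-1), 0, (-6), 0, 0, 0, 0, 0, (-2), 0, 0, 0, (-3), 0, 0], [(-2), (-6), (-5), 0, 0, (-5), 0, 0, (-6), 0, 0, 0, 0, (-3), 0], [(-3), (-7), (-13), 0, 0, (-6), 0, 0, (-10), 0, 0, 0, (-3), (-3), (-4)]]
  lam := [[0, 0, 0, 0, 0, 0, 0, 0, 0, 0, 0, 0, 0, 0, 0], [0, 0, 0, 0, 0, 0, 0, 0, 0, 0, 0, 0, 0, 0, 0], [0, 0, 0, 0, 0, 0, 0, 0, 0, 0, 0, 0, 0, 0, 1]]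
  j0 := 0
  mu := []
  y1 := ys
  y2 := ys

def wx : List (List ℕ) := [[22, 9, 20, 16, 7, 7, 11, 8, 11, 8, 8, 2, 3, 4, 3], [9, 14, 20, 7, 9, 11, 7, 7, 11, 7, 3, 6, 5, 3], [6, 3, 5, 6]]
def wg : List (List ℕ) := [[24, 26, 17, 13, 20, 8, 9, 11, 7, 7, 11, 0, 3, 6, 3, 2, 4], [22, 25, 9, 19, 7, 11, 7, 9, 11, 7, 7, 2, 6, 5, 3, 2, 1]]

theorem check : C.check = true := by decide +kernel

theorem hw : ∀ w ∈ wx, w.all (fun l => Nat.blt l 27) = true := by decide +kernel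

theorem h1 : satChk C.D wx = true := by decide +kernel

theorem h2 : fusChk C wx wg = true := by decide +kernel

theorem h3 : nodupB ((orbL wx 3 0 1 (List.range 3)).map
    (fun c => c.1 * 4096 + c.2)) = true := by decide +kernel

theorem lb : LocalBound He 3 0 :=
  local_of_cert C (by norm_num [C, D]) check wx wg hw h1 h2 ⟨0, by decide⟩ ⟨1, by decide⟩ h3
    (by norm_num [C, D])

end Cfsg.Agent.Lib.Helper62HeM3
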