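import Cfsg.Agent.Lib.Helper62HeM

set_option autoImplicit false
set_option maxRecDepth 1000000

/-! Certificate for the 7-part of the Schur multiplier of the Held group (generated). -/

namespace Cfsg.Agent.Lib.Helper62HeM7

open Cfsg Cfsg.Agent.Lib.Helper62HeP Cfsg.Agent.Lib.Helper62HeM Cfsg.Agent.Lib.Helper63PCDefs
open Cfsg.Agent.Lib.Helper63PCTabDefs

def D : PC where
  p := 7
  n := 3
  pwL := [[], [], []]
  cmL := [[], [2, 2, 2, 2, 2, 2], [], [], [], [], [], [], []]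

def ys : List (List (ℕ × ℤ)) := [[(0, 5), (1, 3), (2, 5)], [], [(1, 4), (2, 2), (3, 3), (4, 5)], [], [(0, 2), (1, 2), (2, 5)], [(1, 5), (2, 2), (3, 2), (4, 5)], [], [], [(0, 1)]]

def C : Cert where
  D := D
  k := 0
  f := 883
  R := 3
  fus := [([[0], [1], [2]], [[1, 2, 2, 2], [0, 0, 0, 0, 0, 0, 1, 1, 1, 1, 1, 1, 2, 2, 2, 2, 2, 2], [2]])]
  specs := [(0, [1, 1, 1, 1, 1, 1], [1, 0]), (1, [0, 0, 0, 0, 0, 0, 0], []), (1, [1, 1, 1, 1, 1, 1, 1], []), (1, [2, 0, 2, 2, 2, 2, 2, 2, 0, 0, 0, 0, 0, 0], []), (1, [2, 1, 2, 2, 2, 2, 2, 2, 1, 1, 1, 1, 1, 1], [])]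
  relV := [[0, (-7), 0, 0, 0, (-21), 0, 0, (-6), 0, 0, 0], [1, 0, 0, 0, (-1), (-21), 0, 0, (-3), (-7), 0, 0], [(-6), (-126), (-112), 0, (-5), (-504), 0, 0, (-114), 0, (-7), 0], [1, 0, 1, 0, (-1), (-22), 0, 0, (-3), (-7), 0, (-7)], [(-6), (-126), (-118), 0, (-5), (-509), 0, 0, (-114), 0, (-7), (-7)]]
  lam := [[0, 0, 0, 0, 0, 0, 0, 0, 0, 0, 0, 0], [0, 0, 0, 0, 0, 0, 0, 0, 0, 0, 0, 0], [0, 6, 0, 0, 0, 0, 0, 0, 0, 0, 0, 0]]
  j0 := 0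
  mu := []
  y1 := ys
  y2 := ys

def wx : List (List ℕ) := [[22, 25, 9, 14, 17, 7, 7, 7, 11, 7, 9, 8, 8, 2, 6, 3, 2, 3, 4], [22, 9, 15, 20, 7, 7, 11, 8, 9, 9, 11, 8, 2, 3, 2, 1, 3, 2, 6, 3, 4], [24, 13, 10, 16, 7, 11, 8, 9, 11, 7, 11, 2, 3, 2, 1, 0, 3, 6, 5]]
def wg : List (List ℕ) := [[24, 9, 17, 20, 7, 7, 10, 8, 11, 8, 11, 2, 3, 2, 1, 3, 4, 6]]

theorem check : C.check = true := by decide +kernel

theorem hw : ∀ w ∈ wx, w.all (fun l => Nat.blt l 27) = true := by decide +kernel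

theorem h1 : satChk C.D wx = true := by decide +kernel

theorem h2 : fusChk C wx wg = true := by decide +kernel

theorem h3 : nodupB ((orbL wx 7 0 0 (List.range 3)).map
    (fun c => c.1 * 4096 + c.2)) = true := by decide +kernel

theorem lb : LocalBound He 7 0 :=
  local_of_cert C (by norm_num [C, D]) check wx wg hw h1 h2 ⟨0, by decide⟩ ⟨0, by decide⟩ h3
    (by norm_num [C, D])

end Cfsg.Agent.Lib.Helper62HeM7
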