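import Cfsg.Agent.Lib.Helper62Bsgs
import Cfsg.Agent.Lib.Helper62HeT
import Cfsg.Agent.Lib.Helper35HeFin
import Cfsg.Agent.Lib.Helper35Iso

set_option autoImplicit false
set_option maxRecDepth 100000

/-! The Held group on 2058 points: strong generators and a base adapted to an element of order 17
and an element of order 8 normalising it. -/

namespace Cfsg.Agent.Lib.Helper62HeP

open Cfsg.Agent.Lib.Helper35TC Cfsg.Agent.Lib.Helper62Bsgs Cfsg.Agent.Lib.Helper62HeT
open Cfsg.Agent.Lib.Helper35HeA (K ok code)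

abbrev Gen := Cfsg.Spor.He.Gen
abbrev He := Cfsg.Spor.He

theorem pow_apply_val {n : ℕ} (g : Equiv.Perm (Fin n)) (F : ℕ → ℕ) (h : ∀ i, (g i).val = F i.val) :
    ∀ (m : ℕ) (i : Fin n), ((g ^ m) i).val = F^[m] i.val
  | 0, i => rfl
  | m + 1, i => by
    rw [pow_succ, Equiv.Perm.mul_apply, pow_apply_val g F h m, h, Function.iterate_succ_apply]

theorem all_of_allD (p : ℕ → Bool) (h : allD (fun i => Nat.ble 2058 i || p i) 12 0 = true) :
    ∀ i < 2058, p i = true := by
  intro i hi
  have := allD_spec _ 12 0 h i (Nat.zero_le _) (by norm_num; omega)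
  simp only [Bool.or_eq_true, Nat.ble_eq] at this
  rcases this with h | h
  · omega
  · exact h

/-- the permutation representation -/
noncomputable def phi : He →* Equiv.Perm (Fin 2058) := ok.phi

theorem T_chk : ∀ l < 7, allD (fun j => Nat.ble 2058 j ||
    Nat.beq (K.P.A j l) (look (tab l) j)) 12 0 = true := by decide +kernel

theorem phi_of (x : Gen) (j : Fin 2058) :
    (phi (PresentedGroup.of x) j).val = look (tab (code x)) j.val := by
  have h := ok.phi_mk_apply (.of x) j
  have hl : code x < 7 := by cases x <;> decide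
  have h2 := all_of_allD _ (T_chk _ hl) j.val j.isLt
  rw [Nat.beq_eq] at h2
  rw [← h2]
  exact h

/-- the action of a word on a point, first letter first -/
noncomputable def actW (tb : ℕ → ℕ) (w : List ℕ) : ℕ → ℕ :=
  List.rec (fun j => j) (fun l _ ih j => ih (look (tb l) j)) w

theorem actW_nil (tb : ℕ → ℕ) (j : ℕ) : actW tb [] j = j := rfl

theorem actW_cons (tb : ℕ → ℕ) (l : ℕ) (w : List ℕ) (j : ℕ) :
    actW tb (l :: w) j = actW tb w (look (tb l) j) := rfl

theorem rep_word {Γ : Type*} [Group Γ] {n : ℕ} (φ : Γ →* Equiv.Perm (Fin n)) (f : ℕ → Γ)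
    (tb : ℕ → ℕ) : ∀ (w : List ℕ), (∀ i ∈ w, Rep φ (f i) (tb i)) → ∀ j : Fin n,
    (φ (wordVal f w) j).val = actW tb w j.val
  | [], _, j => by simp [wordVal, actW_nil]
  | l :: w, h, j => by
    rw [wordVal, map_mul, Equiv.Perm.mul_apply,
      rep_word φ f tb w (fun i hi => h i (List.mem_cons_of_mem _ hi))]
    rw [h l (List.mem_cons_self ..) j, actW_cons]

theorem rep_of_chk (f : ℕ → He) (w : List ℕ) (h : ∀ i ∈ w, Rep phi (f i) (tab i)) (t : ℕ)
    (hc : allD (fun j => Nat.ble 2058 j || Nat.beq (actW tab w j) (look t j)) 12 0 = true) :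
    Rep phi (wordVal f w) t := by
  intro j
  rw [rep_word phi f tab w h j]
  have := all_of_allD _ hc j.val j.isLt
  rw [Nat.beq_eq] at this
  exact this

/-- the generators -/
noncomputable def elA : ℕ → He
  | 0 => PresentedGroup.of .a
  | 1 => PresentedGroup.of .b
  | 2 => PresentedGroup.of .c
  | 3 => PresentedGroup.of .d
  | 4 => PresentedGroup.of .e
  | 5 => PresentedGroup.of .f
  | 6 => PresentedGroup.of .g
  | _ => 1

def w7 : List ℕ := [1, 2, 3, 5]
def w8 : List ℕ := [5, 3, 2, 1]
def w9 : List ℕ := [6, 5, 3, 2, 6, 3, 2, 1, 3, 2, 3, 2, 3, 4, 3, 1, 2, 3, 5, 2, 3, 2]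
def w10 : List ℕ := [2, 3, 2, 5, 3, 2, 1, 3, 4, 3, 2, 3, 2, 3, 1, 2, 3, 6, 2, 3, 5, 6]
def w11 : List ℕ := [0, 1, 3, 2, 5, 3, 2, 1, 3, 2, 3, 6, 3, 2, 3, 0, 1, 2, 3, 5, 2, 3, 1, 0]
def w12 : List ℕ := [1, 2, 5, 3, 2, 1, 3, 2, 6, 3, 2, 3, 2, 5, 3, 2, 3, 1, 2, 3, 6, 0]

noncomputable def elB : ℕ → He
  | 7 => wordVal elA w7
  | 8 => wordVal elA w8
  | 9 => wordVal elA w9
  | 10 => wordVal elA w10
  | 11 => wordVal elA w11
  | 12 => wordVal elA w12
  | i => elA i

def w13 : List ℕ := [7, 7, 11, 7, 11, 8, 11, 8, 8]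
def w14 : List ℕ := [7, 7, 11, 7, 10, 8, 11, 7, 11, 10, 7]
def w15 : List ℕ := [8, 9, 11, 8, 11, 7, 9, 8, 11, 8, 8]
def w16 : List ℕ := [7, 9, 8, 8, 11, 10, 11, 10, 7, 10, 8]
def w17 : List ℕ := [7, 9, 8, 9, 11, 9, 11, 7, 7, 10, 8]
def w18 : List ℕ := [7, 11, 8, 8, 8, 10, 11, 7, 9, 8, 11, 8]
def w19 : List ℕ := [7, 11, 7, 10, 8, 11, 9, 7, 7, 7, 11, 8]
def w20 : List ℕ := [7, 11, 8, 9, 9, 11, 7, 11, 7, 7, 10, 8]
def w21 : List ℕ := [7, 9, 8, 8, 11, 8, 11, 10, 10, 7, 11, 8]

noncomputable def elC : ℕ → He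
  | 13 => wordVal elB w13
  | 14 => wordVal elB w14
  | 15 => wordVal elB w15
  | 16 => wordVal elB w16
  | 17 => wordVal elB w17
  | 18 => wordVal elB w18
  | 19 => wordVal elB w19
  | 20 => wordVal elB w20
  | 21 => wordVal elB w21
  | i => elB i

def w22 : List ℕ := [11, 14, 21]
def w23 : List ℕ := [13, 14, 16]
def w24 : List ℕ := [17, 15, 13]
def w25 : List ℕ := [11, 18, 21, 9]
def w26 : List ℕ := [10, 20, 19, 11]

noncomputable def elD : ℕ → He
  | 22 => wordVal elC w22
  | 23 => wordVal elC w23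
  | 24 => wordVal elC w24
  | 25 => wordVal elC w25
  | 26 => wordVal elC w26
  | i => elC i

/-- all the elements with a table -/
noncomputable abbrev el : ℕ → He := elD

theorem chk7 : allD (fun j => Nat.ble 2058 j || Nat.beq (actW tab w7 j) (look (tab 7) j)) 12 0 = true := by
  decide +kernel
theorem chk8 : allD (fun j => Nat.ble 2058 j || Nat.beq (actW tab w8 j) (look (tab 8) j)) 12 0 = true := by
  decide +kernel
theorem chk9 : allD (fun j => Nat.ble 2058 j || Nat.beq (actW tab w9 j) (look (tab 9) j)) 12 0 = true := by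
  decide +kernel
theorem chk10 : allD (fun j => Nat.ble 2058 j || Nat.beq (actW tab w10 j) (look (tab 10) j)) 12 0 = true := by
  decide +kernel
theorem chk11 : allD (fun j => Nat.ble 2058 j || Nat.beq (actW tab w11 j) (look (tab 11) j)) 12 0 = true := by
  decide +kernel
theorem chk12 : allD (fun j => Nat.ble 2058 j || Nat.beq (actW tab w12 j) (look (tab 12) j)) 12 0 = true := by
  decide +kernel
theorem chk13 : allD (fun j => Nat.ble 2058 j || Nat.beq (actW tab w13 j) (look (tab 13) j)) 12 0 = true := by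
  decide +kernel
theorem chk14 : allD (fun j => Nat.ble 2058 j || Nat.beq (actW tab w14 j) (look (tab 14) j)) 12 0 = true := by
  decide +kernel
theorem chk15 : allD (fun j => Nat.ble 2058 j || Nat.beq (actW tab w15 j) (look (tab 15) j)) 12 0 = true := by
  decide +kernel
theorem chk16 : allD (fun j => Nat.ble 2058 j || Nat.beq (actW tab w16 j) (look (tab 16) j)) 12 0 = true := by
  decide +kernel
theorem chk17 : allD (fun j => Nat.ble 2058 j || Nat.beq (actW tab w17 j) (look (tab 17) j)) 12 0 = true := by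
  decide +kernel
theorem chk18 : allD (fun j => Nat.ble 2058 j || Nat.beq (actW tab w18 j) (look (tab 18) j)) 12 0 = true := by
  decide +kernel
theorem chk19 : allD (fun j => Nat.ble 2058 j || Nat.beq (actW tab w19 j) (look (tab 19) j)) 12 0 = true := by
  decide +kernel
theorem chk20 : allD (fun j => Nat.ble 2058 j || Nat.beq (actW tab w20 j) (look (tab 20) j)) 12 0 = true := by
  decide +kernel
theorem chk21 : allD (fun j => Nat.ble 2058 j || Nat.beq (actW tab w21 j) (look (tab 21) j)) 12 0 = true := by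
  decide +kernel
theorem chk22 : allD (fun j => Nat.ble 2058 j || Nat.beq (actW tab w22 j) (look (tab 22) j)) 12 0 = true := by
  decide +kernel
theorem chk23 : allD (fun j => Nat.ble 2058 j || Nat.beq (actW tab w23 j) (look (tab 23) j)) 12 0 = true := by
  decide +kernel
theorem chk24 : allD (fun j => Nat.ble 2058 j || Nat.beq (actW tab w24 j) (look (tab 24) j)) 12 0 = true := by
  decide +kernel
theorem chk25 : allD (fun j => Nat.ble 2058 j || Nat.beq (actW tab w25 j) (look (tab 25) j)) 12 0 = true := by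
  decide +kernel
theorem chk26 : allD (fun j => Nat.ble 2058 j || Nat.beq (actW tab w26 j) (look (tab 26) j)) 12 0 = true := by
  decide +kernel

theorem repA : ∀ i < 7, Rep phi (elA i) (tab i) := by
  intro i hi j
  interval_cases i <;> exact phi_of _ j

theorem repB : ∀ i < 13, Rep phi (elB i) (tab i) := by
  intro i hi
  by_cases h : i < 7
  · have : elB i = elA i := by
      interval_cases i <;> rfl
    rw [this]; exact repA i h
  · have h' : 7 ≤ i := by omega
    interval_cases i
    · exact rep_of_chk elA w7 (fun k hk => repA k (by revert k; decide)) _ chk7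
    · exact rep_of_chk elA w8 (fun k hk => repA k (by revert k; decide)) _ chk8
    · exact rep_of_chk elA w9 (fun k hk => repA k (by revert k; decide)) _ chk9
    · exact rep_of_chk elA w10 (fun k hk => repA k (by revert k; decide)) _ chk10
    · exact rep_of_chk elA w11 (fun k hk => repA k (by revert k; decide)) _ chk11
    · exact rep_of_chk elA w12 (fun k hk => repA k (by revert k; decide)) _ chk12

theorem repC : ∀ i < 22, Rep phi (elC i) (tab i) := by
  intro i hi
  by_cases h : i < 13
  · have : elC i = elB i := by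
      interval_cases i <;> rfl
    rw [this]; exact repB i h
  · have h' : 13 ≤ i := by omega
    interval_cases i
    · exact rep_of_chk elB w13 (fun k hk => repB k (by revert k; decide)) _ chk13
    · exact rep_of_chk elB w14 (fun k hk => repB k (by revert k; decide)) _ chk14
    · exact rep_of_chk elB w15 (fun k hk => repB k (by revert k; decide)) _ chk15
    · exact rep_of_chk elB w16 (fun k hk => repB k (by revert k; decide)) _ chk16
    · exact rep_of_chk elB w17 (fun k hk => repB k (by revert k; decide)) _ chk17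
    · exact rep_of_chk elB w18 (fun k hk => repB k (by revert k; decide)) _ chk18
    · exact rep_of_chk elB w19 (fun k hk => repB k (by revert k; decide)) _ chk19
    · exact rep_of_chk elB w20 (fun k hk => repB k (by revert k; decide)) _ chk20
    · exact rep_of_chk elB w21 (fun k hk => repB k (by revert k; decide)) _ chk21

theorem repD : ∀ i < 27, Rep phi (elD i) (tab i) := by
  intro i hi
  by_cases h : i < 22
  · have : elD i = elC i := by
      interval_cases i <;> rfl
    rw [this]; exact repC i h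
  · have h' : 22 ≤ i := by omega
    interval_cases i
    · exact rep_of_chk elC w22 (fun k hk => repC k (by revert k; decide)) _ chk22
    · exact rep_of_chk elC w23 (fun k hk => repC k (by revert k; decide)) _ chk23
    · exact rep_of_chk elC w24 (fun k hk => repC k (by revert k; decide)) _ chk24
    · exact rep_of_chk elC w25 (fun k hk => repC k (by revert k; decide)) _ chk25
    · exact rep_of_chk elC w26 (fun k hk => repC k (by revert k; decide)) _ chk26

/-- the base -/
def b1 : Fin 2058 := ⟨601, by decide⟩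
def b2 : Fin 2058 := ⟨1342, by decide⟩
def b3 : Fin 2058 := ⟨533, by decide⟩
def b4 : Fin 2058 := ⟨1334, by decide⟩

theorem lv1 : allD (fun y => Nat.ble 2058 y || chkLvl tab 27 16 [] 601 sv1 y) 12 0 = true := by
  decide +kernel
theorem lv2 : allD (fun y => Nat.ble 2058 y || chkLvl tab 27 16 [601] 1342 sv2 y) 12 0 = true := by
  decide +kernel
theorem lv3 : allD (fun y => Nat.ble 2058 y || chkLvl tab 27 16 [1342, 601] 533 sv3 y) 12 0 = true := by
  decide +kernel
theorem lv4 : allD (fun y => Nat.ble 2058 y || chkLvl tab 27 16 [533, 1342, 601] 1334 sv4 y) 12 0 = true := by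
  decide +kernel

theorem P1 : Pre phi tab el 16 (fixG phi []) b1 sv1 :=
  pre_of_chk phi tab el 27 16 [] b1 sv1 repD (all_of_allD _ lv1)
theorem P2 : Pre phi tab el 16 (fixG phi [b1]) b2 sv2 :=
  pre_of_chk phi tab el 27 16 [b1] b2 sv2 repD (all_of_allD _ lv2)
theorem P3 : Pre phi tab el 16 (fixG phi [b2, b1]) b3 sv3 :=
  pre_of_chk phi tab el 27 16 [b2, b1] b3 sv3 repD (all_of_allD _ lv3)
theorem P4 : Pre phi tab el 16 (fixG phi [b3, b2, b1]) b4 sv4 :=
  pre_of_chk phi tab el 27 16 [b3, b2, b1] b4 sv4 repD (all_of_allD _ lv4)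

theorem cn1 : cntD (fun y => Nat.blt y 2058 && !(Nat.beq (look sv1 y) 0)) 12 0 = 2058 := by
  decide +kernel
theorem cn2 : cntD (fun y => Nat.blt y 2058 && !(Nat.beq (look sv2 y) 0)) 12 0 = 425 := by
  decide +kernel
theorem cn3 : cntD (fun y => Nat.blt y 2058 && !(Nat.beq (look sv3 y) 0)) 12 0 = 256 := by
  decide +kernel
theorem cn4 : cntD (fun y => Nat.blt y 2058 && !(Nat.beq (look sv4 y) 0)) 12 0 = 18 := by
  decide +kernel

theorem card_He : Nat.card He = 2058 * (425 * (256 * (18 * 1))) :=
  Cfsg.Agent.Lib.Helper35HeFin.card_eq.trans (by norm_num)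

theorem engine : (∀ g : He, phi g b1 = b1 → phi g b2 = b2 → phi g b3 = b3 → phi g b4 = b4 → g = 1) ∧
    (∀ (ex : List (Fin 2058)) (g : He), sift tab 16 (ex.map Fin.val) [sv1, sv2, sv3, sv4]
      (((b1 :: b2 :: b3 :: b4 :: ex).map (phi g)).map Fin.val) = true) :=
  main4 (φ := phi) tab el 16 b1 b2 b3 b4 sv1 sv2 sv3 sv4 2058 425 256 18 P1 P2 P3 P4
  ((card_orb 2058 sv1 12 (by norm_num)).trans cn1) ((card_orb 2058 sv2 12 (by norm_num)).trans cn2)
  ((card_orb 2058 sv3 12 (by norm_num)).trans cn3) ((card_orb 2058 sv4 12 (by norm_num)).trans cn4)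
  (by norm_num) (by norm_num) (by norm_num) (by norm_num) card_He

/-- an element fixing the base is trivial -/
theorem base_one (g : He) (h1 : phi g b1 = b1) (h2 : phi g b2 = b2) (h3 : phi g b3 = b3)
    (h4 : phi g b4 = b4) : g = 1 := engine.1 g h1 h2 h3 h4

/-- the base images of an element sift through -/
theorem sift_true (ex : List (Fin 2058)) (g : He) : sift tab 16 (ex.map Fin.val) [sv1, sv2, sv3, sv4]
    (((b1 :: b2 :: b3 :: b4 :: ex).map (phi g)).map Fin.val) = true := engine.2 ex g

theorem base_eq (g h : He) (h1 : phi g b1 = phi h b1) (h2 : phi g b2 = phi h b2)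
    (h3 : phi g b3 = phi h b3) (h4 : phi g b4 = phi h b4) : g = h := by
  have key : ∀ b, phi g b = phi h b → phi (h⁻¹ * g) b = b := by
    intro b hb
    rw [map_mul, Equiv.Perm.mul_apply, hb, map_inv]
    simp
  have := base_one (h⁻¹ * g) (key _ h1) (key _ h2) (key _ h3) (key _ h4)
  exact (inv_mul_eq_one.1 this).symm

/-- two words agree on the base -/
noncomputable def chkB (w1 w2 : List ℕ) : Bool :=
  w1.all (fun l => Nat.blt l 27) && w2.all (fun l => Nat.blt l 27) &&
    [601, 1342, 533, 1334].all (fun b => Nat.beq (actW tab w1 b) (actW tab w2 b))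

theorem el_apply (w : List ℕ) (h : w.all (fun l => Nat.blt l 27) = true) (j : Fin 2058) :
    (phi (wordVal el w) j).val = actW tab w j.val := by
  rw [List.all_eq_true] at h
  exact rep_word phi el tab w (fun i hi => repD i (by have := h i hi; rwa [Nat.blt_eq] at this)) j

theorem word_eq (w1 w2 : List ℕ) (h : chkB w1 w2 = true) : wordVal el w1 = wordVal el w2 := by
  unfold chkB at h
  rw [Bool.and_eq_true, Bool.and_eq_true] at h
  obtain ⟨⟨h1, h2⟩, h3⟩ := h
  rw [List.all_eq_true] at h3
  have key : ∀ b : Fin 2058, b.val ∈ [601, 1342, 533, 1334] →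
      phi (wordVal el w1) b = phi (wordVal el w2) b := by
    intro b hb
    apply Fin.ext
    rw [el_apply w1 h1, el_apply w2 h2]
    have := h3 _ hb
    rwa [Nat.beq_eq] at this
  exact base_eq _ _ (key b1 (by simp [b1])) (key b2 (by simp [b2])) (key b3 (by simp [b3]))
    (key b4 (by simp [b4]))

end Cfsg.Agent.Lib.Helper62HeP
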