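import Cfsg.Agent.Lib.Helper62HeP
import Cfsg.Agent.Lib.Helper62OutLem

set_option autoImplicit false
set_option maxRecDepth 100000

/-! The outer automorphism group of the Held group has order two. -/

namespace Cfsg.Agent.Lib.Helper62HeQ

open Cfsg.Agent.Lib.Helper35TC Cfsg.Agent.Lib.Helper62Bsgs Cfsg.Agent.Lib.Helper62HeT
open Cfsg.Agent.Lib.Helper62HeP
open Cfsg.Agent.Lib.Helper35HeA (K ok code)

noncomputable abbrev u : He := el 7
noncomputable abbrev v : He := el 9
noncomputable abbrev t : He := el 11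
noncomputable abbrev s : He := el 12

theorem wv1 (i : ℕ) : wordVal el [i] = el i := by simp [wordVal]

theorem wvp (i n : ℕ) : wordVal el (repW [i] n) = el i ^ n := by rw [wordVal_repW, wv1]

theorem el_pt (i : ℕ) (hi : i < 27) (a c : Fin 2058)
    (h : Nat.beq (look (tab i) a.val) c.val = true) : phi (el i) a = c := by
  apply Fin.ext
  rw [repD i hi a]
  rwa [Nat.beq_eq] at h

theorem comm_apply (c x y : He) (h : c * x = y * c) (j : Fin 2058) :
    phi c (phi x j) = phi y (phi c j) := by
  rw [← Equiv.Perm.mul_apply, ← Equiv.Perm.mul_apply, ← map_mul, ← map_mul, h]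

theorem el_pow_val (i : ℕ) (hi : i < 27) (m : ℕ) (j : Fin 2058) :
    (phi (el i ^ m) j).val = (look (tab i))^[m] j.val := by
  rw [map_pow]
  exact pow_apply_val _ _ (repD i hi) m j

theorem u_val (j : Fin 2058) : (phi u j).val = look (tab 7) j.val := repD 7 (by norm_num) j
theorem v_val (j : Fin 2058) : (phi v j).val = look (tab 9) j.val := repD 9 (by norm_num) j
theorem upow_val (m : ℕ) (j : Fin 2058) : (phi (u ^ m) j).val = (look (tab 7))^[m] j.val :=
  el_pow_val 7 (by norm_num) m j

/-! ### relations -/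

theorem u17 : u ^ 17 = 1 := by
  have := word_eq (repW [7] 17) [] (by decide +kernel)
  rwa [wvp] at this

theorem u_b1 : phi u b1 = b1 := el_pt 7 (by norm_num) _ _ (by decide +kernel)
theorem u_b2 : phi u b2 = b3 := el_pt 7 (by norm_num) _ _ (by decide +kernel)
theorem v_b1 : phi v b1 = b1 := el_pt 9 (by norm_num) _ _ (by decide +kernel)
theorem v_b2 : phi v b2 = b2 := el_pt 9 (by norm_num) _ _ (by decide +kernel)
theorem v_b3 : phi v b3 = b4 := el_pt 9 (by norm_num) _ _ (by decide +kernel)

def b5 : Fin 2058 := ⟨1521, by decide⟩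
def b6 : Fin 2058 := ⟨1424, by decide⟩
def b7 : Fin 2058 := ⟨2017, by decide⟩
theorem u_b3 : phi u b3 = b5 := el_pt 7 (by norm_num) _ _ (by decide +kernel)
theorem u_b4 : phi u b4 = b6 := el_pt 7 (by norm_num) _ _ (by decide +kernel)
theorem v_b4 : phi v b4 = b7 := el_pt 9 (by norm_num) _ _ (by decide +kernel)

theorem u8_b2 : phi (u ^ 8) b2 = b4 := by
  apply Fin.ext
  rw [el_pow_val 7 (by norm_num)]
  decide +kernel

theorem u_ne : u ≠ 1 := by
  intro h
  have := u_b2
  rw [h, map_one, Equiv.Perm.one_apply] at this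
  exact absurd this (by decide)

theorem order_u : orderOf u = 17 := by
  have : Fact (Nat.Prime 17) := ⟨by norm_num⟩
  exact orderOf_eq_prime u17 u_ne

theorem vu : v * u * v⁻¹ = u ^ 8 := by
  have := word_eq [7, 9] ([9] ++ repW [7] 8) (by decide +kernel)
  rw [wordVal_append, wvp, wv1] at this
  have h2 : wordVal el [7, 9] = v * u := by simp [wordVal]
  rw [h2] at this
  rw [this]; group

theorem sv : s * v * s⁻¹ = v ^ 3 := by
  have := word_eq [9, 12] ([12] ++ repW [9] 3) (by decide +kernel)
  rw [wordVal_append, wvp, wv1] at this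
  have h2 : wordVal el [9, 12] = s * v := by simp [wordVal]
  rw [h2] at this
  rw [this]; group

theorem ss : s * s = 1 := by
  have := word_eq [12, 12] [] (by decide +kernel)
  simpa [wordVal] using this

theorem us8 : (u * s) ^ 8 = 1 := by
  have := word_eq (repW [12, 7] 8) [] (by decide +kernel)
  rw [wordVal_repW] at this
  simpa [wordVal] using this

/-! ### the centraliser of `u` -/

theorem fixU : allD (fun j => Nat.ble 2058 j || !(Nat.beq (look (tab 7) j) j) || Nat.beq j 601) 12 0 = true := by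
  decide +kernel

theorem u_fix (j : Fin 2058) (h : phi u j = j) : j = b1 := by
  have h1 := all_of_allD (fun j => !(Nat.beq (look (tab 7) j) j) || Nat.beq j 601) (by
    have := fixU
    simpa only [Bool.or_assoc] using this) j.val j.isLt
  have h2 : look (tab 7) j.val = j.val := by rw [← repD 7 (by norm_num) j, h]
  rw [h2] at h1
  simp only [Bool.or_eq_true, Bool.not_eq_true', Nat.beq_eq] at h1
  rcases h1 with h1 | h1
  · have : Nat.beq j.val j.val = true := by rw [Nat.beq_eq]
    rw [this] at h1; exact absurd h1 (by simp)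
  · exact Fin.ext h1

noncomputable def inU (y : ℕ) : Bool := (List.range 17).any (fun j => Nat.beq y ((look (tab 7))^[j] 1342))

theorem chkU1 : allD (fun y => Nat.ble 2058 y || (!(sift tab 16 [1521, 1424] [sv1, sv2, sv3, sv4]
    [601, y, look (tab 7) y, (look (tab 7))^[8] y, look (tab 7) (look (tab 7) y),
      look (tab 7) ((look (tab 7))^[8] y)]) || inU y)) 12 0 = true := by
  decide +kernel

theorem pow_fix (g : He) (j : Fin 2058) (h : phi g j = j) (m : ℕ) : phi (g ^ m) j = j := by
  rw [map_pow]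
  exact Equiv.Perm.pow_apply_eq_self_of_apply_eq_self h m

theorem cent_u (c : He) (hc : c * u = u * c) : ∃ j : ℕ, c = u ^ j := by
  have c1 : phi c b1 = b1 := by
    apply u_fix
    rw [← comm_apply c u u hc, u_b1]
  have hc8 : c * u ^ 8 = u ^ 8 * c := ((Commute.pow_right (show Commute c u from hc) 8)).eq
  have c3 : phi c b3 = phi u (phi c b2) := by rw [← u_b2, comm_apply c u u hc]
  have c4 : phi c b4 = phi (u ^ 8) (phi c b2) := by rw [← u8_b2, comm_apply c _ _ hc8]
  have c5 : phi c b5 = phi u (phi u (phi c b2)) := by rw [← u_b3, comm_apply c u u hc, c3]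
  have c6 : phi c b6 = phi u (phi (u ^ 8) (phi c b2)) := by rw [← u_b4, comm_apply c u u hc, c4]
  have hs := sift_true [b5, b6] c
  simp only [List.map_cons, List.map_nil] at hs
  rw [c1, c3, c4, c5, c6] at hs
  simp only [u_val, upow_val] at hs
  have h1 := all_of_allD _ chkU1 (phi c b2).val (phi c b2).isLt
  have hs' : sift tab 16 [1521, 1424] [sv1, sv2, sv3, sv4] [601, (phi c b2).val, look (tab 7) (phi c b2).val,
      (look (tab 7))^[8] (phi c b2).val, look (tab 7) (look (tab 7) (phi c b2).val),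
      look (tab 7) ((look (tab 7))^[8] (phi c b2).val)] = true := hs
  rw [hs'] at h1
  simp only [Bool.not_true, Bool.false_or] at h1
  unfold inU at h1
  rw [List.any_eq_true] at h1
  obtain ⟨j, -, hj⟩ := h1
  rw [Nat.beq_eq] at hj
  refine ⟨j, ?_⟩
  have e2 : phi c b2 = phi (u ^ j) b2 := by
    apply Fin.ext
    rw [hj, el_pow_val 7 (by norm_num)]
    rfl
  have hcj : u ^ j * u = u * u ^ j := (Commute.pow_self u j).eq
  have hcj8 : u ^ j * u ^ 8 = u ^ 8 * u ^ j := (Commute.pow_pow_self u j 8).eq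
  apply base_eq
  · rw [c1, pow_fix u b1 u_b1]
  · exact e2
  · rw [c3, e2, ← comm_apply _ _ _ hcj, u_b2]
  · rw [c4, e2, ← comm_apply _ _ _ hcj8, u8_b2]

/-! ### no element acts on `u` as the sixth power -/

theorem fixU6 : allD (fun j => Nat.ble 2058 j || (!(Nat.beq ((look (tab 7))^[6] j) j) || Nat.beq j 601)) 12 0 = true := by
  decide +kernel

theorem chkU2 : allD (fun y => Nat.ble 2058 y || !(sift tab 16 [1521, 1424] [sv1, sv2, sv3, sv4]
    [601, y, (look (tab 7))^[6] y, (look (tab 7))^[48] y, (look (tab 7))^[6] ((look (tab 7))^[6] y),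
      (look (tab 7))^[6] ((look (tab 7))^[48] y)])) 12 0 = true := by
  decide +kernel

theorem no_six (x : He) (hx : x * u * x⁻¹ = u ^ 6) : False := by
  have h1 : x * u = u ^ 6 * x := by rw [← hx]; group
  have h8 : x * u ^ 8 = u ^ 48 * x := by
    have : x * u ^ 8 * x⁻¹ = u ^ 48 := by rw [← conj_pow, hx, ← pow_mul]
    rw [← this]; group
  have c1 : phi x b1 = b1 := by
    have e : phi (u ^ 6) (phi x b1) = phi x b1 := by rw [← comm_apply x u _ h1, u_b1]
    have h2 := all_of_allD _ fixU6 (phi x b1).val (phi x b1).isLt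
    have h3 : (look (tab 7))^[6] (phi x b1).val = (phi x b1).val := by
      rw [← el_pow_val 7 (by norm_num), e]
    rw [h3] at h2
    simp only [Bool.or_eq_true, Bool.not_eq_true', Nat.beq_eq] at h2
    rcases h2 with h2 | h2
    · have : Nat.beq (phi x b1).val (phi x b1).val = true := by rw [Nat.beq_eq]
      rw [this] at h2; exact absurd h2 (by simp)
    · exact Fin.ext h2
  have c3 : phi x b3 = phi (u ^ 6) (phi x b2) := by rw [← u_b2, comm_apply x u _ h1]
  have c4 : phi x b4 = phi (u ^ 48) (phi x b2) := by rw [← u8_b2, comm_apply x _ _ h8]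
  have c5 : phi x b5 = phi (u ^ 6) (phi (u ^ 6) (phi x b2)) := by
    rw [← u_b3, comm_apply x u _ h1, c3]
  have c6 : phi x b6 = phi (u ^ 6) (phi (u ^ 48) (phi x b2)) := by
    rw [← u_b4, comm_apply x u _ h1, c4]
  have hs := sift_true [b5, b6] x
  simp only [List.map_cons, List.map_nil] at hs
  rw [c1, c3, c4, c5, c6] at hs
  simp only [upow_val] at hs
  have h2 := all_of_allD _ chkU2 (phi x b2).val (phi x b2).isLt
  have hs' : sift tab 16 [1521, 1424] [sv1, sv2, sv3, sv4] [601, (phi x b2).val, (look (tab 7))^[6] (phi x b2).val,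
      (look (tab 7))^[48] (phi x b2).val, (look (tab 7))^[6] ((look (tab 7))^[6] (phi x b2).val),
      (look (tab 7))^[6] ((look (tab 7))^[48] (phi x b2).val)] = true := hs
  rw [hs'] at h2
  exact absurd h2 (by simp)

/-! ### the centraliser of `v` -/

/-- the word of `v ^ i * t ^ j` -/
def cw (i j : ℕ) : List ℕ := repW [11] j ++ repW [9] i

theorem cw_val (i j : ℕ) : wordVal el (cw i j) = v ^ i * t ^ j := by
  rw [cw, wordVal_append, wvp, wvp]

theorem cw_lt (i j : ℕ) : (cw i j).all (fun l => Nat.blt l 27) = true := by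
  rw [List.all_eq_true]
  intro l hl
  have key : ∀ (a n : ℕ), l ∈ repW [a] n → l = a := by
    intro a n
    induction n with
    | zero => intro h; simp [repW] at h
    | succ n ih =>
      intro h
      rw [repW, List.mem_append] at h
      rcases h with h | h
      · simpa using h
      · exact ih h
  rw [cw, List.mem_append] at hl
  rcases hl with h | h
  · rw [key _ _ h]; rfl
  · rw [key _ _ h]; rfl

theorem fixV : allD (fun j => Nat.ble 2058 j || (!(Nat.beq (look (tab 9) j) j) || (Nat.beq j 601 || Nat.beq j 1342))) 12 0 = true := by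
  decide +kernel

theorem v_fix (j : Fin 2058) (h : phi v j = j) : j.val = 601 ∨ j.val = 1342 := by
  have h1 := all_of_allD _ fixV j.val j.isLt
  have h2 : look (tab 9) j.val = j.val := by rw [← repD 9 (by norm_num) j, h]
  rw [h2] at h1
  simp only [Bool.or_eq_true, Bool.not_eq_true', Nat.beq_eq] at h1
  rcases h1 with h1 | h1
  · have : Nat.beq j.val j.val = true := by rw [Nat.beq_eq]
    rw [this] at h1; exact absurd h1 (by simp)
  · exact h1

noncomputable def inC (y : ℕ) : Bool :=
  (List.range 8).any fun i => (List.range 2).any fun j => Nat.beq y (actW tab (cw i j) 533)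

theorem chkU3 : ∀ i0 ∈ [601, 1342], ∀ i1 ∈ [601, 1342],
    allD (fun y => Nat.ble 2058 y || (!(sift tab 16 [2017] [sv1, sv2, sv3, sv4]
      [i0, i1, y, look (tab 9) y, look (tab 9) (look (tab 9) y)]) ||
      (Nat.beq i0 601 && Nat.beq i1 1342 && inC y))) 12 0 = true := by
  decide +kernel

theorem cw_chk : ∀ i < 8, ∀ j < 2, actW tab (cw i j) 601 = 601 ∧ actW tab (cw i j) 1342 = 1342 ∧
    look (tab 9) (actW tab (cw i j) 533) = actW tab (cw i j) 1334 := by
  decide +kernel

theorem cent_v (c : He) (hc : c * v = v * c) : ∃ i < 8, ∃ j < 2, c = wordVal el (cw i j) := by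
  have f1 := v_fix (phi c b1) (by rw [← comm_apply c v v hc, v_b1])
  have f2 := v_fix (phi c b2) (by rw [← comm_apply c v v hc, v_b2])
  have c4 : phi c b4 = phi v (phi c b3) := by rw [← v_b3, comm_apply c v v hc]
  have c7 : phi c b7 = phi v (phi v (phi c b3)) := by rw [← v_b4, comm_apply c v v hc, c4]
  have hs := sift_true [b7] c
  simp only [List.map_cons, List.map_nil] at hs
  rw [c4, c7] at hs
  simp only [v_val] at hs
  have hs' : sift tab 16 [2017] [sv1, sv2, sv3, sv4] [(phi c b1).val, (phi c b2).val, (phi c b3).val,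
      look (tab 9) (phi c b3).val, look (tab 9) (look (tab 9) (phi c b3).val)] = true := hs
  have h1 := all_of_allD _ (chkU3 (phi c b1).val (by simpa using f1) (phi c b2).val
    (by simpa using f2)) (phi c b3).val (phi c b3).isLt
  rw [hs'] at h1
  simp only [Bool.not_true, Bool.false_or, Bool.and_eq_true, Nat.beq_eq] at h1
  obtain ⟨⟨g1, g2⟩, h3⟩ := h1
  unfold inC at h3
  rw [List.any_eq_true] at h3
  obtain ⟨i, hi, h3⟩ := h3
  rw [List.any_eq_true] at h3
  obtain ⟨j, hj, h3⟩ := h3
  rw [Nat.beq_eq] at h3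
  rw [List.mem_range] at hi hj
  obtain ⟨k1, k2, k3⟩ := cw_chk i hi j hj
  refine ⟨i, hi, j, hj, ?_⟩
  apply base_eq <;> apply Fin.ext
  · rw [el_apply _ (cw_lt i j), g1]; exact k1.symm
  · rw [el_apply _ (cw_lt i j), g2]; exact k2.symm
  · rw [el_apply _ (cw_lt i j), h3]; rfl
  · rw [el_apply _ (cw_lt i j), c4, repD 9 (by norm_num), h3]; exact k3

/-- both relations hold on the base -/
noncomputable def relOK (i j : ℕ) : Bool :=
  [601, 1342, 533, 1334].all fun p =>
    Nat.beq (actW tab (cw i j ++ [12] ++ (cw i j ++ [12])) p) p &&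
      Nat.beq (actW tab (repW (cw i j ++ [12, 7]) 8) p) p

theorem rel_chk : ∀ i < 8, ∀ j < 2, relOK i j = true → i = 0 ∧ j = 0 := by decide +kernel

theorem all_lt_append {w1 w2 : List ℕ} (h1 : w1.all (fun l => Nat.blt l 27) = true)
    (h2 : w2.all (fun l => Nat.blt l 27) = true) : (w1 ++ w2).all (fun l => Nat.blt l 27) = true := by
  rw [List.all_append, h1, h2]; rfl

theorem all_lt_repW {w : List ℕ} (h : w.all (fun l => Nat.blt l 27) = true) :
    ∀ n, (repW w n).all (fun l => Nat.blt l 27) = true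
  | 0 => rfl
  | n + 1 => all_lt_append h (all_lt_repW h n)

theorem hL (c : He) (hc : c * v = v * c) (h1 : (s * c) * (s * c) = 1) (h2 : (u * (s * c)) ^ 8 = 1) :
    c = 1 := by
  obtain ⟨i, hi, j, hj, rfl⟩ := cent_v c hc
  have e1 : wordVal el (cw i j ++ [12] ++ (cw i j ++ [12])) = 1 := by
    rw [wordVal_append, wordVal_append, wv1]; exact h1
  have e2 : wordVal el (repW (cw i j ++ [12, 7]) 8) = 1 := by
    rw [wordVal_repW, wordVal_append]
    have : wordVal el [12, 7] = u * s := by simp [wordVal]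
    rw [this, mul_assoc]; exact h2
  have l1 : (cw i j ++ [12] ++ (cw i j ++ [12])).all (fun l => Nat.blt l 27) = true :=
    all_lt_append (all_lt_append (cw_lt i j) rfl) (all_lt_append (cw_lt i j) rfl)
  have l2 : (repW (cw i j ++ [12, 7]) 8).all (fun l => Nat.blt l 27) = true :=
    all_lt_repW (all_lt_append (cw_lt i j) rfl) 8
  have hr : relOK i j = true := by
    unfold relOK
    rw [List.all_eq_true]
    intro p hp
    have hp' : p < 2058 := by
      simp only [List.mem_cons, List.not_mem_nil, or_false] at hp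
      rcases hp with rfl | rfl | rfl | rfl <;> norm_num
    have a1 := el_apply _ l1 ⟨p, hp'⟩
    have a2 := el_apply _ l2 ⟨p, hp'⟩
    rw [e1, map_one, Equiv.Perm.one_apply] at a1
    rw [e2, map_one, Equiv.Perm.one_apply] at a2
    rw [Bool.and_eq_true, Nat.beq_eq, Nat.beq_eq]
    exact ⟨a1.symm, a2.symm⟩
  obtain ⟨rfl, rfl⟩ := rel_chk i hi j hj hr
  rfl

/-! ### generation -/

def gw : ℕ → List ℕ
  | 0 => [8, 8, 8, 12, 7, 12, 7, 10, 8, 12, 8, 8, 12, 8, 12, 7, 12, 7, 12, 7, 12, 9, 7, 7, 7]
  | 1 => [12, 8, 8, 12, 8, 12, 7, 10, 12, 8, 8, 8, 12, 9, 7, 12, 8, 12, 8, 8, 12, 8, 8, 8, 8, 8]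
  | 2 => [10, 8, 12, 7, 10, 12, 8, 12, 8, 12, 7, 7, 12, 8, 8, 12, 7, 12, 7, 12, 7, 7, 12, 7, 7]
  | 3 => [7, 9, 12, 8, 12, 7, 12, 10, 8, 12, 7, 12, 8, 12, 7, 12, 8, 12, 10, 8, 12, 7, 12, 10, 8]
  | 4 => [10, 8, 12, 7, 12, 8, 8, 12, 9, 7, 12, 7, 12, 7, 9, 8, 12, 8, 10, 7, 12, 9, 8, 12, 10]
  | 5 => [10, 7, 12, 7, 12, 9, 8, 8, 8, 12, 7, 12, 7, 12, 8, 8, 8, 12, 9, 8, 12, 8, 9]
  | 6 => [7, 9, 12, 8, 12, 7, 9, 9, 12, 7, 12, 8, 9, 12, 8]
  | _ => []

theorem gw_chk : ∀ l < 7, chkB [l] (gw l) = true := by decide +kernel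

theorem gw_mem : ∀ l < 7, ∀ i ∈ gw l, i = 7 ∨ i = 8 ∨ i = 9 ∨ i = 10 ∨ i = 12 := by decide

theorem el8 : el 8 = u⁻¹ := by
  have := word_eq [7, 8] [] (by decide +kernel)
  have h2 : wordVal el [7, 8] = el 8 * u := by simp [wordVal]
  rw [h2] at this
  exact eq_inv_of_mul_eq_one_left this

theorem el10 : el 10 = v⁻¹ := by
  have := word_eq [9, 10] [] (by decide +kernel)
  have h2 : wordVal el [9, 10] = el 10 * v := by simp [wordVal]
  rw [h2] at this
  exact eq_inv_of_mul_eq_one_left this

theorem map_wordVal (β : MulAut He) : ∀ (w : List ℕ), (∀ i ∈ w, β (el i) = el i) →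
    β (wordVal el w) = wordVal el w
  | [], _ => by simp [wordVal]
  | l :: w, h => by
    rw [wordVal, map_mul, map_wordVal β w (fun i hi => h i (List.mem_cons_of_mem _ hi)),
      h l (List.mem_cons_self ..)]

theorem hgen (β : MulAut He) (hu : β u = u) (hv : β v = v) (hs : β s = s) : β = 1 := by
  have h8 : β (el 8) = el 8 := by rw [el8, map_inv, hu]
  have h10 : β (el 10) = el 10 := by rw [el10, map_inv, hv]
  have key : ∀ l < 7, β (el l) = el l := by
    intro l hl
    have e := word_eq [l] (gw l) (gw_chk l hl)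
    rw [wv1] at e
    rw [e]
    apply map_wordVal
    intro i hi
    rcases gw_mem l hl i hi with rfl | rfl | rfl | rfl | rfl
    · exact hu
    · exact h8
    · exact hv
    · exact h10
    · exact hs
  have hh : β.toMonoidHom = MonoidHom.id He := by
    apply PresentedGroup.ext
    intro x
    cases x
    · exact key 0 (by norm_num)
    · exact key 1 (by norm_num)
    · exact key 2 (by norm_num)
    · exact key 3 (by norm_num)
    · exact key 4 (by norm_num)
    · exact key 5 (by norm_num)
    · exact key 6 (by norm_num)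
  ext g
  exact DFunLike.congr_fun hh g

theorem rigid (β : MulAut He) (hβ : β u = u) : β ∈ Cfsg.Inn He :=
  Cfsg.Agent.Lib.Helper62OutLem.rigid u v s u17 vu cent_u sv ss us8 hL hgen β hβ

/-! ### the outer automorphism -/

/-- the swap of the last two generators -/
def sw : Gen → Gen
  | .f => .g
  | .g => .f
  | x => x

theorem elA_inv (l : ℕ) : elA (id l) = (elA l)⁻¹ := by
  apply eq_inv_of_mul_eq_one_left
  by_cases hl : l < 7
  · interval_cases l <;> exact cox_sq Cfsg.Spor.He.edges _ _ (by decide)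
  · have : elA l = 1 := by
      match l, hl with
      | l + 7, _ => rfl
    show elA l * elA l = 1
    rw [this, one_mul]

theorem wordVal_congr (f g : ℕ → He) : ∀ (w : List ℕ), (∀ i ∈ w, f i = g i) →
    wordVal f w = wordVal g w
  | [], _ => rfl
  | l :: w, h => by
    rw [wordVal, wordVal, wordVal_congr f g w (fun i hi => h i (List.mem_cons_of_mem _ hi)),
      h l (List.mem_cons_self ..)]

theorem sw_chk : ∀ e ∈ K.relExps, ((e.app (fun x => code (sw x)) id).all (fun l => Nat.blt l 7) &&
    chkB (e.app (fun x => code (sw x)) id) []) = true := by decide +kernel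

theorem elA_code (x : Gen) : elA (code x) = PresentedGroup.of x := by cases x <;> rfl

theorem hrelT : ∀ e ∈ K.relExps, e.evalIn (fun x => (PresentedGroup.of (sw x) : He)) = 1 := by
  intro e he
  have h0 : (fun x => (PresentedGroup.of (sw x) : He)) = fun x => elA (code (sw x)) := by
    funext x; rw [elA_code]
  rw [h0, ← WExp.lift_eval,
    eval_eq_wordVal elA (fun x => code (sw x)) id elA_inv (FreeGroup.lift _) (fun x => by simp) e]
  have h1 := sw_chk e he
  rw [Bool.and_eq_true, List.all_eq_true] at h1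
  rw [wordVal_congr elA el _ (fun i hi => by
    have := h1.1 i hi
    rw [Nat.blt_eq] at this
    interval_cases i <;> rfl)]
  exact word_eq _ [] h1.2

/-- the swap as an endomorphism -/
noncomputable def tau : He →* He := ok.homTo (fun x => PresentedGroup.of (sw x)) hrelT

theorem tau_of (x : Gen) : tau (PresentedGroup.of x) = PresentedGroup.of (sw x) :=
  ok.homTo_of _ hrelT x

theorem tau_tau : tau.comp tau = MonoidHom.id He := by
  apply PresentedGroup.ext
  intro x
  rw [MonoidHom.comp_apply, tau_of, tau_of]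
  cases x <;> rfl

/-- the swap as an automorphism -/
noncomputable def tauE : MulAut He := MonoidHom.toMulEquiv tau tau tau_tau tau_tau

theorem tauE_apply (g : He) : tauE g = tau g := rfl

def g0w : List ℕ := [2, 3, 2, 6, 3, 2, 1, 3, 2, 3, 6, 3, 2, 3, 1, 2, 3, 6, 5, 3, 4, 2]

/-- the conjugating element -/
noncomputable def g0 : He := wordVal el g0w

/-- the outer automorphism normalising the Sylow 17-subgroup -/
noncomputable def sigma : MulAut He := MulAut.conj g0 * tauE

theorem tau_u : tau u = wordVal el [1, 2, 3, 6] := by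
  have h1 : u = PresentedGroup.of .f * PresentedGroup.of .d * PresentedGroup.of .c *
      PresentedGroup.of .b := by
    show wordVal elA [1, 2, 3, 5] = _
    simp [wordVal, elA]
  have h2 : wordVal el [1, 2, 3, 6] = PresentedGroup.of .g * PresentedGroup.of .d *
      PresentedGroup.of .c * PresentedGroup.of .b := by
    show 1 * elA 6 * elA 3 * elA 2 * elA 1 = _
    simp [elA]
  rw [h1, h2, map_mul, map_mul, map_mul, tau_of, tau_of, tau_of, tau_of]
  rfl

theorem sigma_u : sigma u = u ^ 6 := by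
  rw [sigma, MulAut.mul_apply, tauE_apply, tau_u, MulAut.conj_apply]
  have := word_eq ([1, 2, 3, 6] ++ g0w) (g0w ++ repW [7] 6) (by decide +kernel)
  rw [wordVal_append, wordVal_append, wvp] at this
  show g0 * _ * g0⁻¹ = _
  unfold g0
  rw [this]; group

theorem sigma_out : sigma ∉ Cfsg.Inn He := by
  rintro ⟨x, hx⟩
  apply no_six x
  rw [← sigma_u, ← hx]
  rfl

theorem hexp : ∀ m < 17, 0 < m → ∃ i : ℕ, m ≡ 8 ^ i [MOD 17] ∨ m ≡ 6 * 8 ^ i [MOD 17] := by
  intro m hm h0
  interval_cases m
  · exact ⟨0, Or.inl (by decide)⟩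
  · exact ⟨3, Or.inl (by decide)⟩
  · exact ⟨5, Or.inr (by decide)⟩
  · exact ⟨6, Or.inl (by decide)⟩
  · exact ⟨7, Or.inr (by decide)⟩
  · exact ⟨0, Or.inr (by decide)⟩
  · exact ⟨6, Or.inr (by decide)⟩
  · exact ⟨1, Or.inl (by decide)⟩
  · exact ⟨5, Or.inl (by decide)⟩
  · exact ⟨2, Or.inr (by decide)⟩
  · exact ⟨4, Or.inr (by decide)⟩
  · exact ⟨3, Or.inr (by decide)⟩
  · exact ⟨2, Or.inl (by decide)⟩
  · exact ⟨1, Or.inr (by decide)⟩
  · exact ⟨7, Or.inl (by decide)⟩
  · exact ⟨4, Or.inl (by decide)⟩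

theorem main : Nat.card (Cfsg.Out He) = 2 := by
  have : Fact (Nat.Prime 17) := ⟨by norm_num⟩
  have : Finite He := Nat.finite_of_card_ne_zero (by rw [card_He]; norm_num)
  exact Cfsg.Agent.Lib.Helper62OutLem.card_out 17 237081600 8 6 u v order_u
    (card_He.trans (by norm_num)) (by norm_num) vu sigma sigma_u hexp rigid sigma_out

end Cfsg.Agent.Lib.Helper62HeQ
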