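import Mathlib

set_option autoImplicit false

/-! Maximality of point stabilisers from suborbit lengths, for a group acting on `Fin n`. -/

namespace Cfsg.Agent.Lib.Helper62Prim

variable {Γ : Type*} [Group Γ] {n : ℕ} (φ : Γ →* Equiv.Perm (Fin n))

/-- the stabiliser of a point -/
def stab (p : Fin n) : Subgroup Γ := (MulAction.stabilizer (Equiv.Perm (Fin n)) p).comap φ

theorem mem_stab {p : Fin n} {g : Γ} : g ∈ stab φ p ↔ φ g p = p := by
  rw [stab, Subgroup.mem_comap, MulAction.mem_stabilizer_iff, Equiv.Perm.smul_def]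

theorem conn_of_tree (Q : Subgroup Γ) (cls dep : Fin n → ℕ) (rt : ℕ → Fin n)
    (h : ∀ j, j = rt (cls j) ∨ ∃ q, ∃ g ∈ Q, φ g q = j ∧ cls q = cls j ∧ dep q < dep j) :
    ∀ i j, cls i = cls j → ∃ g ∈ Q, φ g i = j := by
  have key : ∀ m, ∀ j, dep j = m → ∃ g ∈ Q, φ g (rt (cls j)) = j := by
    intro m
    induction m using Nat.strong_induction_on with
    | _ m ih =>
      intro j hj
      rcases h j with h0 | ⟨q, g, hg, h1, h2, h3⟩
      · exact ⟨1, Q.one_mem, by rw [map_one, Equiv.Perm.one_apply]; exact h0.symm⟩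
      · obtain ⟨g', hg', e'⟩ := ih (dep q) (hj ▸ h3) q rfl
        exact ⟨g * g', Q.mul_mem hg hg', by rw [map_mul, Equiv.Perm.mul_apply, ← h2, e', h1]⟩
  intro i j hij
  obtain ⟨g1, hg1, e1⟩ := key _ i rfl
  obtain ⟨g2, hg2, e2⟩ := key _ j rfl
  refine ⟨g2 * g1⁻¹, Q.mul_mem hg2 (Q.inv_mem hg1), ?_⟩
  rw [map_mul, Equiv.Perm.mul_apply, map_inv]
  have : (φ g1)⁻¹ i = rt (cls i) := by rw [Equiv.Perm.inv_eq_iff_eq]; exact e1.symm
  rw [this, hij, e2]

theorem relIndex_eq (S M : Subgroup Γ) (p : Fin n) (hM : M ≤ S) :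
    (S ⊓ stab φ p).relIndex M = Nat.card {j : Fin n // ∃ m ∈ M, φ m p = j} := by
  let _ : MulAction M (Fin n) := MulAction.compHom (Fin n) (φ.comp M.subtype)
  have hsm : ∀ (m : M) (j : Fin n), m • j = φ m.1 j := fun _ _ => rfl
  have hst : MulAction.stabilizer M p = (S ⊓ stab φ p).subgroupOf M := by
    ext m
    rw [MulAction.mem_stabilizer_iff, Subgroup.mem_subgroupOf, Subgroup.mem_inf, mem_stab, hsm]
    exact ⟨fun h => ⟨hM m.2, h⟩, fun h => h.2⟩
  rw [Subgroup.relIndex, ← hst, MulAction.index_stabilizer, ← Nat.card_coe_set_eq]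
  refine Nat.card_congr (Equiv.subtypeEquivRight fun j => ?_)
  constructor
  · rintro ⟨m, rfl⟩
    exact ⟨m.1, m.2, rfl⟩
  · rintro ⟨m, hm, rfl⟩
    exact ⟨⟨m, hm⟩, rfl⟩

theorem card_union (cls : Fin n → ℕ) (sz : ℕ → ℕ) (C : Finset ℕ)
    (hsz : ∀ c ∈ C, (Finset.univ.filter (fun j : Fin n => cls j = c)).card = sz c) :
    Nat.card {j : Fin n // cls j ∈ C} = ∑ c ∈ C, sz c := by
  classical
  rw [Nat.card_eq_fintype_card, Fintype.card_subtype]
  rw [Finset.card_eq_sum_card_fiberwise (f := cls) (s := Finset.univ.filter (fun j => cls j ∈ C))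
    (t := C) (fun x hx => (Finset.mem_filter.1 (Finset.mem_coe.1 hx)).2)]
  apply Finset.sum_congr rfl
  intro c hc
  rw [← hsz c hc]
  congr 1
  ext j
  simp only [Finset.mem_filter, Finset.mem_univ, true_and]
  exact ⟨fun h => h.2, fun h => ⟨h ▸ hc, h⟩⟩

theorem max_stab (S : Subgroup Γ) (p : Fin n) (cls : Fin n → ℕ) (k : ℕ)
    (hO : ∀ j, cls j < k ↔ ∃ s ∈ S, φ s p = j)
    (hconn : ∀ i j, cls i < k → cls i = cls j → ∃ s ∈ S ⊓ stab φ p, φ s i = j)
    (sz : ℕ → ℕ) (hsz : ∀ c < k, (Finset.univ.filter (fun j : Fin n => cls j = c)).card = sz c)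
    (har : ∀ C ∈ (Finset.range k).powerset, cls p ∈ C →
      (∑ c ∈ C, sz c) ∣ (∑ c ∈ Finset.range k, sz c) →
        (∑ c ∈ C, sz c) = 1 ∨ (∑ c ∈ C, sz c) = ∑ c ∈ Finset.range k, sz c)
    (M : Subgroup Γ) (h1 : S ⊓ stab φ p ≤ M) (h2 : M ≤ S) : M ≤ S ⊓ stab φ p ∨ S ≤ M := by
  classical
  set C : Finset ℕ := (Finset.range k).filter (fun c => ∃ m ∈ M, cls (φ m p) = c) with hC
  have hCk : C ∈ (Finset.range k).powerset := Finset.mem_powerset.2 (Finset.filter_subset _ _)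
  have hB : ∀ j : Fin n, (∃ m ∈ M, φ m p = j) ↔ cls j ∈ C := by
    intro j
    constructor
    · rintro ⟨m, hm, rfl⟩
      rw [hC, Finset.mem_filter, Finset.mem_range]
      exact ⟨(hO _).2 ⟨m, h2 hm, rfl⟩, m, hm, rfl⟩
    · intro hj
      rw [hC, Finset.mem_filter, Finset.mem_range] at hj
      obtain ⟨hk, m, hm, hl⟩ := hj
      obtain ⟨s, hs, e⟩ := hconn (φ m p) j (hl ▸ hk) hl
      exact ⟨s * m, M.mul_mem (h1 hs) hm, by rw [map_mul, Equiv.Perm.mul_apply, e]⟩
  have ha : (S ⊓ stab φ p).relIndex M = ∑ c ∈ C, sz c := by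
    rw [relIndex_eq φ S M p h2, ← card_union cls sz C
      (fun c hc => hsz c (Finset.mem_range.1 (Finset.mem_powerset.1 hCk hc)))]
    exact Nat.card_congr (Equiv.subtypeEquivRight hB)
  have hN : (S ⊓ stab φ p).relIndex S = ∑ c ∈ Finset.range k, sz c := by
    rw [relIndex_eq φ S S p le_rfl, ← card_union cls sz (Finset.range k)
      (fun c hc => hsz c (Finset.mem_range.1 hc))]
    exact Nat.card_congr (Equiv.subtypeEquivRight fun j => by rw [Finset.mem_range, hO])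
  have hmul := Subgroup.relIndex_mul_relIndex (S ⊓ stab φ p) M S h1 h2
  have hp : cls p ∈ C := (hB p).1 ⟨1, M.one_mem, by rw [map_one, Equiv.Perm.one_apply]⟩
  rcases har C hCk hp (by rw [← ha, ← hN]; exact Dvd.intro _ hmul) with h | h
  · left
    rw [← ha, Subgroup.relIndex_eq_one] at h
    exact h
  · right
    rw [← ha, ← hN] at h
    rw [h] at hmul
    have hpos : 0 < (S ⊓ stab φ p).relIndex S := by
      rw [relIndex_eq φ S S p le_rfl]
      have : Nonempty {j : Fin n // ∃ m ∈ S, φ m p = j} :=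
        ⟨⟨p, 1, S.one_mem, by rw [map_one, Equiv.Perm.one_apply]⟩⟩
      exact Nat.card_pos
    have : M.relIndex S = 1 := by
      have h3 : (S ⊓ stab φ p).relIndex S * M.relIndex S = (S ⊓ stab φ p).relIndex S * 1 := by
        rw [hmul, mul_one]
      exact Nat.eq_of_mul_eq_mul_left hpos h3
    exact Subgroup.relIndex_eq_one.1 this

/-- the same for every point of the orbit -/
theorem max_conj (S : Subgroup Γ) (p : Fin n)
    (hmax : ∀ M : Subgroup Γ, S ⊓ stab φ p ≤ M → M ≤ S → M ≤ S ⊓ stab φ p ∨ S ≤ M)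
    (h : Γ) (hh : h ∈ S) (M : Subgroup Γ) (h1 : S ⊓ stab φ (φ h p) ≤ M) (h2 : M ≤ S) :
    M ≤ S ⊓ stab φ (φ h p) ∨ S ≤ M := by
  have e1 : ∀ g, (MulAut.conj h).toMonoidHom g = h * g * h⁻¹ := fun g => rfl
  have hA : S ⊓ stab φ p ≤ M.comap (MulAut.conj h).toMonoidHom := by
    intro g hg
    obtain ⟨hg1, hg2⟩ := Subgroup.mem_inf.1 hg
    rw [mem_stab] at hg2
    rw [Subgroup.mem_comap, e1]
    apply h1
    refine Subgroup.mem_inf.2 ⟨S.mul_mem (S.mul_mem hh hg1) (S.inv_mem hh), ?_⟩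
    rw [mem_stab]
    simp only [map_mul, map_inv, Equiv.Perm.mul_apply, Equiv.Perm.inv_def, Equiv.symm_apply_apply, hg2]
  have hB : M.comap (MulAut.conj h).toMonoidHom ≤ S := by
    intro g hg
    rw [Subgroup.mem_comap, e1] at hg
    have := S.mul_mem (S.mul_mem (S.inv_mem hh) (h2 hg)) hh
    simpa [mul_assoc] using this
  rcases hmax (M.comap (MulAut.conj h).toMonoidHom) hA hB with h3 | h3
  · left
    intro m hm
    have : h⁻¹ * m * h ∈ M.comap (MulAut.conj h).toMonoidHom := by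
      rw [Subgroup.mem_comap, e1]
      simpa [mul_assoc] using hm
    have h4 := (Subgroup.mem_inf.1 (h3 this)).2
    rw [mem_stab] at h4
    refine Subgroup.mem_inf.2 ⟨h2 hm, ?_⟩
    rw [mem_stab]
    simp only [map_mul, map_inv, Equiv.Perm.mul_apply] at h4
    rw [Equiv.Perm.inv_eq_iff_eq] at h4
    exact h4
  · right
    intro s hs
    have : h⁻¹ * s * h ∈ M.comap (MulAut.conj h).toMonoidHom :=
      h3 (S.mul_mem (S.mul_mem (S.inv_mem hh) hs) hh)
    rw [Subgroup.mem_comap, e1] at this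
    simpa [mul_assoc] using this

theorem ext_prim (z : Fin n) (hne : ∃ g : Γ, φ g z ≠ z)
    (hmax : ∀ M : Subgroup Γ, stab φ z ≤ M → M ≤ stab φ z ∨ M = ⊤)
    (h2 : ∀ p : Fin n, p ≠ z → (∃ h ∈ stab φ z, φ h p ≠ p) ∧
      ∀ M : Subgroup Γ, stab φ z ⊓ stab φ p ≤ M → M ≤ stab φ z →
        M ≤ stab φ z ⊓ stab φ p ∨ stab φ z ≤ M) :
    IsCoatom (stab φ z) ∧ ∀ x : Γ, x ∉ stab φ z →
      IsCoatom ((stab φ z ⊓ (stab φ z).map (MulAut.conj x).toMonoidHom).subgroupOf (stab φ z)) := by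
  constructor
  · constructor
    · intro h
      obtain ⟨g, hg⟩ := hne
      exact hg ((mem_stab φ).1 (h ▸ Subgroup.mem_top g))
    · intro M hM
      rcases hmax M hM.le with h | h
      · exact absurd h hM.not_ge
      · exact h
  · intro x hx
    have hp : φ x z ≠ z := fun h => hx ((mem_stab φ).2 h)
    have hmap : (stab φ z).map (MulAut.conj x).toMonoidHom = stab φ (φ x z) := by
      ext g
      rw [Subgroup.mem_map, mem_stab]
      constructor
      · rintro ⟨y, hy, rfl⟩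
        rw [mem_stab] at hy
        show φ (x * y * x⁻¹) _ = _
        simp only [map_mul, map_inv, Equiv.Perm.mul_apply, Equiv.Perm.inv_def, Equiv.symm_apply_apply, hy]
      · intro hg
        refine ⟨x⁻¹ * g * x, ?_, ?_⟩
        · rw [mem_stab]
          simp only [map_mul, map_inv, Equiv.Perm.mul_apply, hg, Equiv.Perm.inv_def, Equiv.symm_apply_apply]
        · show x * (x⁻¹ * g * x) * x⁻¹ = g
          group
    rw [hmap]
    obtain ⟨⟨h, hh, hhp⟩, hm⟩ := h2 _ hp
    constructor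
    · intro ht
      have : (⟨h, hh⟩ : stab φ z) ∈ (stab φ z ⊓ stab φ (φ x z)).subgroupOf (stab φ z) := by
        rw [ht]; trivial
      rw [Subgroup.mem_subgroupOf] at this
      exact hhp ((mem_stab φ).1 (Subgroup.mem_inf.1 this).2)
    · intro N hN
      have hA : stab φ z ⊓ stab φ (φ x z) ≤ N.map (stab φ z).subtype := by
        intro g hg
        have hgz := (Subgroup.mem_inf.1 hg).1
        exact ⟨⟨g, hgz⟩, hN.le (by rw [Subgroup.mem_subgroupOf]; exact hg), rfl⟩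
      have hB : N.map (stab φ z).subtype ≤ stab φ z := by
        rintro _ ⟨y, _, rfl⟩
        exact y.2
      rcases hm (N.map (stab φ z).subtype) hA hB with h3 | h3
      · exfalso
        apply hN.not_ge
        intro y hy
        rw [Subgroup.mem_subgroupOf]
        exact h3 ⟨y, hy, rfl⟩
      · rw [eq_top_iff]
        intro y _
        obtain ⟨y', hy', e⟩ := h3 y.2
        have : y' = y := Subtype.ext e
        exact this ▸ hy'

/-- the same, for the classes below a bound -/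
theorem conn_of_tree' (Q : Subgroup Γ) (cls dep : Fin n → ℕ) (rt : ℕ → Fin n) (k : ℕ)
    (h : ∀ j, cls j < k →
      j = rt (cls j) ∨ ∃ q, ∃ g ∈ Q, φ g q = j ∧ cls q = cls j ∧ dep q < dep j) :
    ∀ i j, cls i < k → cls i = cls j → ∃ g ∈ Q, φ g i = j := by
  have key : ∀ m, ∀ j, cls j < k → dep j = m → ∃ g ∈ Q, φ g (rt (cls j)) = j := by
    intro m
    induction m using Nat.strong_induction_on with
    | _ m ih =>
      intro j hk hj
      rcases h j hk with h0 | ⟨q, g, hg, h1, h2, h3⟩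
      · exact ⟨1, Q.one_mem, by rw [map_one, Equiv.Perm.one_apply]; exact h0.symm⟩
      · obtain ⟨g', hg', e'⟩ := ih (dep q) (hj ▸ h3) q (h2 ▸ hk) rfl
        exact ⟨g * g', Q.mul_mem hg hg', by rw [map_mul, Equiv.Perm.mul_apply, ← h2, e', h1]⟩
  intro i j hi hij
  obtain ⟨g1, hg1, e1⟩ := key _ i hi rfl
  obtain ⟨g2, hg2, e2⟩ := key _ j (hij ▸ hi) rfl
  refine ⟨g2 * g1⁻¹, Q.mul_mem hg2 (Q.inv_mem hg1), ?_⟩
  rw [map_mul, Equiv.Perm.mul_apply, map_inv]
  have : (φ g1)⁻¹ i = rt (cls i) := by rw [Equiv.Perm.inv_eq_iff_eq]; exact e1.symm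
  rw [this, hij, e2]

end Cfsg.Agent.Lib.Helper62Prim
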