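import Mathlib
import Cfsg.Prelude.Def_Classical
import Cfsg.Agent.Lib.Helper6Transport
import Cfsg.Agent.Lib.Helper62F4

set_option autoImplicit false

/-! The group `SU(3,2)`: matrix criterion, transport along field isomorphisms. -/

namespace Cfsg.Agent.Lib.Helper62SU32

open Matrix Cfsg.Agent.Lib.Helper62F4

section general

variable {K : Type*} [Field K] [CharP K 2]

/-- entrywise square -/
def sqm (M : Matrix (Fin 3) (Fin 3) K) : Matrix (Fin 3) (Fin 3) K := M.map (fun x => x ^ 2)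

omit [CharP K 2] in
theorem herm_eq (u v : Fin 3 → K) : Cfsg.hermForm 3 K 2 u v = u ⬝ᵥ (fun i => v i ^ 2) := rfl

theorem sqm_mulVec (M : Matrix (Fin 3) (Fin 3) K) (v : Fin 3 → K) :
    (fun i => (M *ᵥ v) i ^ 2) = sqm M *ᵥ (fun i => v i ^ 2) := by
  have : Fact (Nat.Prime 2) := ⟨by norm_num⟩
  funext i
  simp only [Matrix.mulVec, dotProduct, sqm, Matrix.map_apply]
  rw [sum_pow_char]
  simp [mul_pow]

theorem mem_SU_iff (g : Matrix.SpecialLinearGroup (Fin 3) K) :
    g ∈ Cfsg.SU 3 K 2 ↔ (g.1)ᵀ * sqm g.1 = 1 := by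
  constructor
  · intro h
    have h' : ∀ u v : Fin 3 → K, Cfsg.hermForm 3 K 2 (g.1 *ᵥ u) (g.1 *ᵥ v) = Cfsg.hermForm 3 K 2 u v := h
    ext j k
    have := h' (Pi.single j 1) (Pi.single k 1)
    rw [herm_eq, herm_eq, sqm_mulVec, Matrix.dotProduct_mulVec, Matrix.vecMul_mulVec] at this
    have hs : (fun i => (Pi.single k (1 : K) : Fin 3 → K) i ^ 2) = Pi.single k 1 := by
      funext i
      by_cases hik : i = k
      · subst hik; simp
      · simp [Pi.single_eq_of_ne hik]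
    rw [hs] at this
    simp only [dotProduct_single, mul_one, Matrix.single_one_vecMul] at this
    rw [Matrix.one_apply]
    rw [Pi.single_apply] at this
    simpa [eq_comm] using this
  · intro h
    show ∀ u v : Fin 3 → K, Cfsg.hermForm 3 K 2 (g.1 *ᵥ u) (g.1 *ᵥ v) = Cfsg.hermForm 3 K 2 u v
    intro u v
    rw [herm_eq, herm_eq, sqm_mulVec, Matrix.dotProduct_mulVec, Matrix.vecMul_mulVec, h,
      Matrix.vecMul_one]

variable {K' : Type*} [Field K'] [CharP K' 2]

omit [CharP K 2] [CharP K' 2] in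
theorem sqm_map (e : K ≃+* K') (M : Matrix (Fin 3) (Fin 3) K) :
    sqm (M.map e) = (sqm M).map e := by
  ext i j
  simp [sqm]

open Cfsg.Agent.Lib.Helper6Transport in
theorem mem_SU_map (e : K ≃+* K') (g : Matrix.SpecialLinearGroup (Fin 3) K) :
    slEquiv e g ∈ Cfsg.SU 3 K' 2 ↔ g ∈ Cfsg.SU 3 K 2 := by
  rw [mem_SU_iff, mem_SU_iff]
  have h1 : (slEquiv e g).1 = g.1.map e := rfl
  rw [h1, sqm_map, ← Matrix.transpose_map, ← Matrix.map_mul]
  constructor
  · intro h
    apply Matrix.map_injective e.injective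
    show ((g.1)ᵀ * sqm g.1).map e = (1 : Matrix (Fin 3) (Fin 3) K).map e
    rw [h]
    simp
  · intro h
    rw [h]
    simp

open Cfsg.Agent.Lib.Helper6Transport in
/-- transport of `SU(3,2)` along a field isomorphism -/
def suEquiv (e : K ≃+* K') : Cfsg.SU 3 K 2 ≃* Cfsg.SU 3 K' 2 where
  toFun g := ⟨slEquiv e g.1, (mem_SU_map e g.1).2 g.2⟩
  invFun g := ⟨(slEquiv e).symm g.1, by rw [← mem_SU_map e]; simp⟩
  left_inv g := by ext1; simp
  right_inv g := by ext1; simp
  map_mul' a b := by ext1; simp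

open Cfsg.Agent.Lib.Helper6Transport in
/-- transport of `PSU(3,2)` along a field isomorphism -/
noncomputable def psuEquiv (e : K ≃+* K') : Cfsg.PSU 3 K 2 ≃* Cfsg.PSU 3 K' 2 :=
  QuotientGroup.congr _ _ (suEquiv e) (map_center_of_mulEquiv (suEquiv e))

end general

/-- `3 × 3` matrices over the model field -/
abbrev M3 := Matrix (Fin 3) (Fin 3) F4

/-- constructor for elements of `SU(3,2)` -/
def mkSU (M : M3) (hd : M.det = 1) (hu : Mᵀ * sqm M = 1) : Cfsg.SU 3 F4 2 :=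
  ⟨⟨M, hd⟩, (mem_SU_iff _).2 hu⟩

/-- norm of a vector -/
def nrm (a b c : F4) : F4 := a * a ^ 2 + b * b ^ 2 + c * c ^ 2

/-- hermitian product of two vectors -/
def ip (a b c d e f : F4) : F4 := a * d ^ 2 + b * e ^ 2 + c * f ^ 2

/-- enumeration principle for `SU(3,2)`: a property of matrices that holds for all matrices with
orthonormal columns and determinant one holds on `SU(3,2)` -/
theorem forall_SU (P : M3 → Prop)
    (h : ∀ a b c : F4, nrm a b c = 1 → ∀ d e f : F4, nrm d e f = 1 → ip a b c d e f = 0 →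
      ∀ g h i : F4, nrm g h i = 1 → ip a b c g h i = 0 → ip d e f g h i = 0 →
      P !![a, d, g; b, e, h; c, f, i]) (x : Cfsg.SU 3 F4 2) : P x.1.1 := by
  have hx := (mem_SU_iff x.1).1 x.2
  have hh : ∀ j k : Fin 3, x.1.1 0 j * x.1.1 0 k ^ 2 + x.1.1 1 j * x.1.1 1 k ^ 2 +
      x.1.1 2 j * x.1.1 2 k ^ 2 = (1 : M3) j k := by
    intro j k
    rw [← hx, Matrix.mul_apply, Fin.sum_univ_three]
    rfl
  rw [Matrix.eta_fin_three x.1.1]
  exact h _ _ _ (hh 0 0) _ _ _ (hh 1 1) (hh 0 1) _ _ _ (hh 2 2) (hh 0 2) (hh 1 2)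

end Cfsg.Agent.Lib.Helper62SU32
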