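import Cfsg.Agent.Lib.Helper62Bsgs2
import Cfsg.Agent.Lib.Helper62SzT
import Cfsg.Agent.Lib.Helper35SuzFin
import Cfsg.Agent.Lib.Helper35Iso

set_option autoImplicit false
set_option maxRecDepth 100000

/-! The Suzuki group on 1782 points: strong generators and a base adapted to an element of order 13
and an element of order 6 normalising it. -/

namespace Cfsg.Agent.Lib.Helper62SzP

open Cfsg.Agent.Lib.Helper35TC Cfsg.Agent.Lib.Helper62Bsgs Cfsg.Agent.Lib.Helper62Bsgs2
open Cfsg.Agent.Lib.Helper62SzT
open Cfsg.Agent.Lib.Helper35SuzA (K ok code)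

abbrev Gen := Cfsg.Spor.Suz.Gen
abbrev Sz := Cfsg.Spor.Suz

theorem pow_apply_val {n : ℕ} (g : Equiv.Perm (Fin n)) (F : ℕ → ℕ) (h : ∀ i, (g i).val = F i.val) :
    ∀ (m : ℕ) (i : Fin n), ((g ^ m) i).val = F^[m] i.val
  | 0, i => rfl
  | m + 1, i => by
    rw [pow_succ, Equiv.Perm.mul_apply, pow_apply_val g F h m, h, Function.iterate_succ_apply]

theorem all_of_allD (p : ℕ → Bool) (h : allD (fun i => Nat.ble 1782 i || p i) 12 0 = true) :
    ∀ i < 1782, p i = true := by
  intro i hi
  have := allD_spec _ 12 0 h i (Nat.zero_le _) (by norm_num; omega)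
  simp only [Bool.or_eq_true, Nat.ble_eq] at this
  rcases this with h | h
  · omega
  · exact h

/-- the permutation representation -/
noncomputable def phi : Sz →* Equiv.Perm (Fin 1782) := ok.phi

theorem T_chk : ∀ l < 7, allD (fun j => Nat.ble 1782 j ||
    Nat.beq (K.P.A j l) (look (tab l) j)) 12 0 = true := by decide +kernel

theorem phi_of (x : Gen) (j : Fin 1782) :
    (phi (PresentedGroup.of x) j).val = look (tab (code x)) j.val := by
  have h := ok.phi_mk_apply (.of x) j
  have hl : code x < 7 := by cases x <;> decide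
  have h2 := all_of_allD _ (T_chk _ hl) j.val j.isLt
  rw [Nat.beq_eq] at h2
  rw [← h2]
  exact h

/-- the action of a word on a point, first letter first -/
noncomputable def actW (tb : ℕ → ℕ) (w : List ℕ) : ℕ → ℕ :=
  List.rec (fun j => j) (fun l _ ih j => ih (look (tb l) j)) w

theorem actW_nil (tb : ℕ → ℕ) (j : ℕ) : actW tb [] j = j := rfl

theorem actW_cons (tb : ℕ → ℕ) (l : ℕ) (w : List ℕ) (j : ℕ) :
    actW tb (l :: w) j = actW tb w (look (tb l) j) := rfl

theorem rep_word {Γ : Type*} [Group Γ] {n : ℕ} (φ : Γ →* Equiv.Perm (Fin n)) (f : ℕ → Γ)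
    (tb : ℕ → ℕ) : ∀ (w : List ℕ), (∀ i ∈ w, Rep φ (f i) (tb i)) → ∀ j : Fin n,
    (φ (wordVal f w) j).val = actW tb w j.val
  | [], _, j => by simp [wordVal, actW_nil]
  | l :: w, h, j => by
    rw [wordVal, map_mul, Equiv.Perm.mul_apply,
      rep_word φ f tb w (fun i hi => h i (List.mem_cons_of_mem _ hi))]
    rw [h l (List.mem_cons_self ..) j, actW_cons]

theorem rep_of_chk (f : ℕ → Sz) (w : List ℕ) (h : ∀ i ∈ w, Rep phi (f i) (tab i)) (t : ℕ)
    (hc : allD (fun j => Nat.ble 1782 j || Nat.beq (actW tab w j) (look t j)) 12 0 = true) :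
    Rep phi (wordVal f w) t := by
  intro j
  rw [rep_word phi f tab w h j]
  have := all_of_allD _ hc j.val j.isLt
  rw [Nat.beq_eq] at this
  exact this

theorem wordVal_congr {Γ : Type*} [Group Γ] (f g : ℕ → Γ) : ∀ (w : List ℕ), (∀ i ∈ w, f i = g i) →
    wordVal f w = wordVal g w
  | [], _ => rfl
  | l :: w, h => by
    rw [wordVal, wordVal, wordVal_congr f g w (fun i hi => h i (List.mem_cons_of_mem _ hi)),
      h l (List.mem_cons_self ..)]

/-- the generators -/
noncomputable def el0 : ℕ → Sz
  | 0 => PresentedGroup.of .a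
  | 1 => PresentedGroup.of .b
  | 2 => PresentedGroup.of .c
  | 3 => PresentedGroup.of .d
  | 4 => PresentedGroup.of .e
  | 5 => PresentedGroup.of .f
  | 6 => PresentedGroup.of .g
  | _ => 1

/-- the defining words -/
def W : ℕ → List ℕ
  | 7 => [0, 1, 2, 1, 3, 4, 5]
  | 8 => [5, 4, 3, 1, 2, 1, 0]
  | 9 => [2, 1, 3, 4, 3, 2, 3, 5, 1, 0, 1, 2, 3, 5, 4, 1, 2, 3, 1, 0, 1, 2, 3, 2]
  | 10 => [2, 3, 2, 1, 0, 1, 3, 2, 1, 4, 5, 3, 2, 1, 0, 1, 5, 3, 2, 3, 4, 3, 1, 2]
  | 11 => [1, 3, 2, 3, 4, 6, 1, 2, 5, 3, 1, 2, 0, 1, 5, 4, 3, 0, 1, 2, 3, 2, 1, 0, 3, 4, 5, 1, 0, 2, 1, 3, 5, 2, 1, 6, 4, 3, 2, 3, 1]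
  | 12 => [11, 7, 7, 11, 8, 11, 7, 11, 8, 8, 11]
  | 13 => [11, 7, 9, 11, 7, 7, 11, 7, 7, 11, 10, 7, 11]
  | 14 => [11, 8, 9, 11, 8, 8, 11, 8, 8, 11, 10, 8, 11]
  | 15 => [11, 7, 9, 11, 7, 11, 8, 11, 9, 8, 11, 8, 11]
  | 16 => [11, 7, 11, 7, 10, 11, 7, 11, 8, 11, 10, 8, 11]
  | 17 => [11, 7, 11, 7, 10, 11, 7, 11, 8, 11, 10, 8, 11]
  | 18 => [11, 7, 9, 11, 7, 11, 8, 11, 9, 8, 11, 8, 11]
  | 19 => [7, 13, 7]
  | 20 => [8, 14, 8]
  | 21 => [15, 13, 16]
  | 22 => [15, 14, 16]
  | 23 => [15, 8, 15, 7]
  | 24 => [8, 16, 7, 16]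
  | 25 => [8, 16, 7, 16]
  | 26 => [15, 8, 15, 7]
  | 27 => [8, 8, 15, 13, 13]
  | 28 => [14, 14, 16, 7, 7]
  | 29 => [23, 21, 27, 19]
  | 30 => [20, 28, 22, 24]
  | 31 => [27, 27, 20, 23]
  | 32 => [24, 19, 28, 28]
  | 33 => [10, 10, 20, 28, 9]
  | 34 => [10, 27, 19, 9, 9]
  | _ => []

noncomputable def el1 : ℕ → Sz
  | 7 => wordVal el0 (W 7)
  | 8 => wordVal el0 (W 8)
  | 9 => wordVal el0 (W 9)
  | 10 => wordVal el0 (W 10)
  | 11 => wordVal el0 (W 11)
  | i => el0 i

noncomputable def el2 : ℕ → Sz
  | 12 => wordVal el1 (W 12)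
  | 13 => wordVal el1 (W 13)
  | 14 => wordVal el1 (W 14)
  | 15 => wordVal el1 (W 15)
  | 16 => wordVal el1 (W 16)
  | 17 => wordVal el1 (W 17)
  | 18 => wordVal el1 (W 18)
  | i => el1 i

noncomputable def el3 : ℕ → Sz
  | 19 => wordVal el2 (W 19)
  | 20 => wordVal el2 (W 20)
  | 21 => wordVal el2 (W 21)
  | 22 => wordVal el2 (W 22)
  | 23 => wordVal el2 (W 23)
  | 24 => wordVal el2 (W 24)
  | 25 => wordVal el2 (W 25)
  | 26 => wordVal el2 (W 26)
  | 27 => wordVal el2 (W 27)
  | 28 => wordVal el2 (W 28)
  | i => el2 i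

noncomputable def el4 : ℕ → Sz
  | 29 => wordVal el3 (W 29)
  | 30 => wordVal el3 (W 30)
  | 31 => wordVal el3 (W 31)
  | 32 => wordVal el3 (W 32)
  | 33 => wordVal el3 (W 33)
  | 34 => wordVal el3 (W 34)
  | i => el3 i

/-- all the elements with a table -/
noncomputable abbrev el : ℕ → Sz := el4

theorem chk7 : allD (fun j => Nat.ble 1782 j || Nat.beq (actW tab (W 7) j) (look (tab 7) j)) 12 0 = true := by
  decide +kernel
theorem chk8 : allD (fun j => Nat.ble 1782 j || Nat.beq (actW tab (W 8) j) (look (tab 8) j)) 12 0 = true := by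
  decide +kernel
theorem chk9 : allD (fun j => Nat.ble 1782 j || Nat.beq (actW tab (W 9) j) (look (tab 9) j)) 12 0 = true := by
  decide +kernel
theorem chk10 : allD (fun j => Nat.ble 1782 j || Nat.beq (actW tab (W 10) j) (look (tab 10) j)) 12 0 = true := by
  decide +kernel
theorem chk11 : allD (fun j => Nat.ble 1782 j || Nat.beq (actW tab (W 11) j) (look (tab 11) j)) 12 0 = true := by
  decide +kernel
theorem chk12 : allD (fun j => Nat.ble 1782 j || Nat.beq (actW tab (W 12) j) (look (tab 12) j)) 12 0 = true := by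
  decide +kernel
theorem chk13 : allD (fun j => Nat.ble 1782 j || Nat.beq (actW tab (W 13) j) (look (tab 13) j)) 12 0 = true := by
  decide +kernel
theorem chk14 : allD (fun j => Nat.ble 1782 j || Nat.beq (actW tab (W 14) j) (look (tab 14) j)) 12 0 = true := by
  decide +kernel
theorem chk15 : allD (fun j => Nat.ble 1782 j || Nat.beq (actW tab (W 15) j) (look (tab 15) j)) 12 0 = true := by
  decide +kernel
theorem chk16 : allD (fun j => Nat.ble 1782 j || Nat.beq (actW tab (W 16) j) (look (tab 16) j)) 12 0 = true := by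
  decide +kernel
theorem chk17 : allD (fun j => Nat.ble 1782 j || Nat.beq (actW tab (W 17) j) (look (tab 17) j)) 12 0 = true := by
  decide +kernel
theorem chk18 : allD (fun j => Nat.ble 1782 j || Nat.beq (actW tab (W 18) j) (look (tab 18) j)) 12 0 = true := by
  decide +kernel
theorem chk19 : allD (fun j => Nat.ble 1782 j || Nat.beq (actW tab (W 19) j) (look (tab 19) j)) 12 0 = true := by
  decide +kernel
theorem chk20 : allD (fun j => Nat.ble 1782 j || Nat.beq (actW tab (W 20) j) (look (tab 20) j)) 12 0 = true := by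
  decide +kernel
theorem chk21 : allD (fun j => Nat.ble 1782 j || Nat.beq (actW tab (W 21) j) (look (tab 21) j)) 12 0 = true := by
  decide +kernel
theorem chk22 : allD (fun j => Nat.ble 1782 j || Nat.beq (actW tab (W 22) j) (look (tab 22) j)) 12 0 = true := by
  decide +kernel
theorem chk23 : allD (fun j => Nat.ble 1782 j || Nat.beq (actW tab (W 23) j) (look (tab 23) j)) 12 0 = true := by
  decide +kernel
theorem chk24 : allD (fun j => Nat.ble 1782 j || Nat.beq (actW tab (W 24) j) (look (tab 24) j)) 12 0 = true := by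
  decide +kernel
theorem chk25 : allD (fun j => Nat.ble 1782 j || Nat.beq (actW tab (W 25) j) (look (tab 25) j)) 12 0 = true := by
  decide +kernel
theorem chk26 : allD (fun j => Nat.ble 1782 j || Nat.beq (actW tab (W 26) j) (look (tab 26) j)) 12 0 = true := by
  decide +kernel
theorem chk27 : allD (fun j => Nat.ble 1782 j || Nat.beq (actW tab (W 27) j) (look (tab 27) j)) 12 0 = true := by
  decide +kernel
theorem chk28 : allD (fun j => Nat.ble 1782 j || Nat.beq (actW tab (W 28) j) (look (tab 28) j)) 12 0 = true := by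
  decide +kernel
theorem chk29 : allD (fun j => Nat.ble 1782 j || Nat.beq (actW tab (W 29) j) (look (tab 29) j)) 12 0 = true := by
  decide +kernel
theorem chk30 : allD (fun j => Nat.ble 1782 j || Nat.beq (actW tab (W 30) j) (look (tab 30) j)) 12 0 = true := by
  decide +kernel
theorem chk31 : allD (fun j => Nat.ble 1782 j || Nat.beq (actW tab (W 31) j) (look (tab 31) j)) 12 0 = true := by
  decide +kernel
theorem chk32 : allD (fun j => Nat.ble 1782 j || Nat.beq (actW tab (W 32) j) (look (tab 32) j)) 12 0 = true := by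
  decide +kernel
theorem chk33 : allD (fun j => Nat.ble 1782 j || Nat.beq (actW tab (W 33) j) (look (tab 33) j)) 12 0 = true := by
  decide +kernel
theorem chk34 : allD (fun j => Nat.ble 1782 j || Nat.beq (actW tab (W 34) j) (look (tab 34) j)) 12 0 = true := by
  decide +kernel

theorem rep0 : ∀ i < 7, Rep phi (el0 i) (tab i) := by
  intro i hi j
  interval_cases i <;> exact phi_of _ j

theorem rep1 : ∀ i < 12, Rep phi (el1 i) (tab i) := by
  intro i hi
  by_cases h : i < 7
  · have : el1 i = el0 i := by
      interval_cases i <;> rfl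
    rw [this]; exact rep0 i h
  · have h' : 7 ≤ i := by omega
    interval_cases i
    · exact rep_of_chk el0 (W 7) (fun k hk => rep0 k (by revert k; decide)) _ chk7
    · exact rep_of_chk el0 (W 8) (fun k hk => rep0 k (by revert k; decide)) _ chk8
    · exact rep_of_chk el0 (W 9) (fun k hk => rep0 k (by revert k; decide)) _ chk9
    · exact rep_of_chk el0 (W 10) (fun k hk => rep0 k (by revert k; decide)) _ chk10
    · exact rep_of_chk el0 (W 11) (fun k hk => rep0 k (by revert k; decide)) _ chk11

theorem rep2 : ∀ i < 19, Rep phi (el2 i) (tab i) := by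
  intro i hi
  by_cases h : i < 12
  · have : el2 i = el1 i := by
      interval_cases i <;> rfl
    rw [this]; exact rep1 i h
  · have h' : 12 ≤ i := by omega
    interval_cases i
    · exact rep_of_chk el1 (W 12) (fun k hk => rep1 k (by revert k; decide)) _ chk12
    · exact rep_of_chk el1 (W 13) (fun k hk => rep1 k (by revert k; decide)) _ chk13
    · exact rep_of_chk el1 (W 14) (fun k hk => rep1 k (by revert k; decide)) _ chk14
    · exact rep_of_chk el1 (W 15) (fun k hk => rep1 k (by revert k; decide)) _ chk15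
    · exact rep_of_chk el1 (W 16) (fun k hk => rep1 k (by revert k; decide)) _ chk16
    · exact rep_of_chk el1 (W 17) (fun k hk => rep1 k (by revert k; decide)) _ chk17
    · exact rep_of_chk el1 (W 18) (fun k hk => rep1 k (by revert k; decide)) _ chk18

theorem rep3 : ∀ i < 29, Rep phi (el3 i) (tab i) := by
  intro i hi
  by_cases h : i < 19
  · have : el3 i = el2 i := by
      interval_cases i <;> rfl
    rw [this]; exact rep2 i h
  · have h' : 19 ≤ i := by omega
    interval_cases i
    · exact rep_of_chk el2 (W 19) (fun k hk => rep2 k (by revert k; decide)) _ chk19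
    · exact rep_of_chk el2 (W 20) (fun k hk => rep2 k (by revert k; decide)) _ chk20
    · exact rep_of_chk el2 (W 21) (fun k hk => rep2 k (by revert k; decide)) _ chk21
    · exact rep_of_chk el2 (W 22) (fun k hk => rep2 k (by revert k; decide)) _ chk22
    · exact rep_of_chk el2 (W 23) (fun k hk => rep2 k (by revert k; decide)) _ chk23
    · exact rep_of_chk el2 (W 24) (fun k hk => rep2 k (by revert k; decide)) _ chk24
    · exact rep_of_chk el2 (W 25) (fun k hk => rep2 k (by revert k; decide)) _ chk25
    · exact rep_of_chk el2 (W 26) (fun k hk => rep2 k (by revert k; decide)) _ chk26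
    · exact rep_of_chk el2 (W 27) (fun k hk => rep2 k (by revert k; decide)) _ chk27
    · exact rep_of_chk el2 (W 28) (fun k hk => rep2 k (by revert k; decide)) _ chk28

theorem rep4 : ∀ i < 35, Rep phi (el4 i) (tab i) := by
  intro i hi
  by_cases h : i < 29
  · have : el4 i = el3 i := by
      interval_cases i <;> rfl
    rw [this]; exact rep3 i h
  · have h' : 29 ≤ i := by omega
    interval_cases i
    · exact rep_of_chk el3 (W 29) (fun k hk => rep3 k (by revert k; decide)) _ chk29
    · exact rep_of_chk el3 (W 30) (fun k hk => rep3 k (by revert k; decide)) _ chk30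
    · exact rep_of_chk el3 (W 31) (fun k hk => rep3 k (by revert k; decide)) _ chk31
    · exact rep_of_chk el3 (W 32) (fun k hk => rep3 k (by revert k; decide)) _ chk32
    · exact rep_of_chk el3 (W 33) (fun k hk => rep3 k (by revert k; decide)) _ chk33
    · exact rep_of_chk el3 (W 34) (fun k hk => rep3 k (by revert k; decide)) _ chk34

theorem repD : ∀ i < 35, Rep phi (el i) (tab i) := rep4

theorem W_lt : ∀ i, 12 ≤ i → i < 35 → ∀ l ∈ W i, 7 ≤ l ∧ l < i := by decide

theorem el_W : ∀ i, 7 ≤ i → i < 35 → el i = wordVal el (W i) := by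
  intro i h1 h2
  interval_cases i
  · exact wordVal_congr el0 el (W 7) (fun l hl => by
      have : l < 7 := by revert l; decide
      interval_cases l <;> rfl)
  · exact wordVal_congr el0 el (W 8) (fun l hl => by
      have : l < 7 := by revert l; decide
      interval_cases l <;> rfl)
  · exact wordVal_congr el0 el (W 9) (fun l hl => by
      have : l < 7 := by revert l; decide
      interval_cases l <;> rfl)
  · exact wordVal_congr el0 el (W 10) (fun l hl => by
      have : l < 7 := by revert l; decide
      interval_cases l <;> rfl)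
  · exact wordVal_congr el0 el (W 11) (fun l hl => by
      have : l < 7 := by revert l; decide
      interval_cases l <;> rfl)
  · exact wordVal_congr el1 el (W 12) (fun l hl => by
      have : l < 12 := by revert l; decide
      interval_cases l <;> rfl)
  · exact wordVal_congr el1 el (W 13) (fun l hl => by
      have : l < 12 := by revert l; decide
      interval_cases l <;> rfl)
  · exact wordVal_congr el1 el (W 14) (fun l hl => by
      have : l < 12 := by revert l; decide
      interval_cases l <;> rfl)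
  · exact wordVal_congr el1 el (W 15) (fun l hl => by
      have : l < 12 := by revert l; decide
      interval_cases l <;> rfl)
  · exact wordVal_congr el1 el (W 16) (fun l hl => by
      have : l < 12 := by revert l; decide
      interval_cases l <;> rfl)
  · exact wordVal_congr el1 el (W 17) (fun l hl => by
      have : l < 12 := by revert l; decide
      interval_cases l <;> rfl)
  · exact wordVal_congr el1 el (W 18) (fun l hl => by
      have : l < 12 := by revert l; decide
      interval_cases l <;> rfl)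
  · exact wordVal_congr el2 el (W 19) (fun l hl => by
      have : l < 19 := by revert l; decide
      interval_cases l <;> rfl)
  · exact wordVal_congr el2 el (W 20) (fun l hl => by
      have : l < 19 := by revert l; decide
      interval_cases l <;> rfl)
  · exact wordVal_congr el2 el (W 21) (fun l hl => by
      have : l < 19 := by revert l; decide
      interval_cases l <;> rfl)
  · exact wordVal_congr el2 el (W 22) (fun l hl => by
      have : l < 19 := by revert l; decide
      interval_cases l <;> rfl)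
  · exact wordVal_congr el2 el (W 23) (fun l hl => by
      have : l < 19 := by revert l; decide
      interval_cases l <;> rfl)
  · exact wordVal_congr el2 el (W 24) (fun l hl => by
      have : l < 19 := by revert l; decide
      interval_cases l <;> rfl)
  · exact wordVal_congr el2 el (W 25) (fun l hl => by
      have : l < 19 := by revert l; decide
      interval_cases l <;> rfl)
  · exact wordVal_congr el2 el (W 26) (fun l hl => by
      have : l < 19 := by revert l; decide
      interval_cases l <;> rfl)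
  · exact wordVal_congr el2 el (W 27) (fun l hl => by
      have : l < 19 := by revert l; decide
      interval_cases l <;> rfl)
  · exact wordVal_congr el2 el (W 28) (fun l hl => by
      have : l < 19 := by revert l; decide
      interval_cases l <;> rfl)
  · exact wordVal_congr el3 el (W 29) (fun l hl => by
      have : l < 29 := by revert l; decide
      interval_cases l <;> rfl)
  · exact wordVal_congr el3 el (W 30) (fun l hl => by
      have : l < 29 := by revert l; decide
      interval_cases l <;> rfl)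
  · exact wordVal_congr el3 el (W 31) (fun l hl => by
      have : l < 29 := by revert l; decide
      interval_cases l <;> rfl)
  · exact wordVal_congr el3 el (W 32) (fun l hl => by
      have : l < 29 := by revert l; decide
      interval_cases l <;> rfl)
  · exact wordVal_congr el3 el (W 33) (fun l hl => by
      have : l < 29 := by revert l; decide
      interval_cases l <;> rfl)
  · exact wordVal_congr el3 el (W 34) (fun l hl => by
      have : l < 29 := by revert l; decide
      interval_cases l <;> rfl)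

/-- the base -/
def b1 : Fin 1782 := ⟨0, by decide⟩
def b2 : Fin 1782 := ⟨555, by decide⟩
def b3 : Fin 1782 := ⟨153, by decide⟩
def b4 : Fin 1782 := ⟨137, by decide⟩

theorem lv1 : allD (fun y => Nat.ble 1782 y || chkLvl tab 35 16 [] 0 sv1 y) 12 0 = true := by
  decide +kernel
theorem lv2 : allD (fun y => Nat.ble 1782 y || chkLvl tab 35 16 [0] 555 sv2 y) 12 0 = true := by
  decide +kernel
theorem lv3 : allD (fun y => Nat.ble 1782 y || chkLvl tab 35 16 [555, 0] 153 sv3 y) 12 0 = true := by
  decide +kernel
theorem lv4 : allD (fun y => Nat.ble 1782 y || chkLvl tab 35 16 [153, 555, 0] 137 sv4 y) 12 0 = true := by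
  decide +kernel
theorem P1 : Pre phi tab el 16 (fixG phi []) b1 sv1 :=
  pre_of_chk phi tab el 35 16 [] b1 sv1 repD (all_of_allD _ lv1)
theorem P2 : Pre phi tab el 16 (fixG phi [b1]) b2 sv2 :=
  pre_of_chk phi tab el 35 16 [b1] b2 sv2 repD (all_of_allD _ lv2)
theorem P3 : Pre phi tab el 16 (fixG phi [b2, b1]) b3 sv3 :=
  pre_of_chk phi tab el 35 16 [b2, b1] b3 sv3 repD (all_of_allD _ lv3)
theorem P4 : Pre phi tab el 16 (fixG phi [b3, b2, b1]) b4 sv4 :=
  pre_of_chk phi tab el 35 16 [b3, b2, b1] b4 sv4 repD (all_of_allD _ lv4)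
theorem cn1 : cntD (fun y => Nat.blt y 1782 && !(Nat.beq (look sv1 y) 0)) 12 0 = 1782 := by
  decide +kernel
theorem cn2 : cntD (fun y => Nat.blt y 1782 && !(Nat.beq (look sv2 y) 0)) 12 0 = 1365 := by
  decide +kernel
theorem cn3 : cntD (fun y => Nat.blt y 1782 && !(Nat.beq (look sv3 y) 0)) 12 0 = 1024 := by
  decide +kernel
theorem cn4 : cntD (fun y => Nat.blt y 1782 && !(Nat.beq (look sv4 y) 0)) 12 0 = 180 := by
  decide +kernel
theorem us1 : allD (fun y => Nat.ble 1782 y || (Nat.ble (look sv1 y) 1 || (Nat.ble 9 (look sv1 y) && Nat.blt (look sv1 y) 37))) 12 0 = true := by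
  decide +kernel
theorem us2 : allD (fun y => Nat.ble 1782 y || (Nat.ble (look sv2 y) 1 || (Nat.ble 9 (look sv2 y) && Nat.blt (look sv2 y) 37))) 12 0 = true := by
  decide +kernel
theorem us3 : allD (fun y => Nat.ble 1782 y || (Nat.ble (look sv3 y) 1 || (Nat.ble 9 (look sv3 y) && Nat.blt (look sv3 y) 37))) 12 0 = true := by
  decide +kernel
theorem us4 : allD (fun y => Nat.ble 1782 y || (Nat.ble (look sv4 y) 1 || (Nat.ble 9 (look sv4 y) && Nat.blt (look sv4 y) 37))) 12 0 = true := by
  decide +kernel

theorem card_Sz : Nat.card Sz = 1782 * (1365 * (1024 * (180 * 1))) :=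
  Cfsg.Agent.Lib.Helper35SuzFin.card_eq.trans (by norm_num)

theorem co1 : (orb 1782 sv1).card = 1782 := (card_orb 1782 sv1 12 (by norm_num)).trans cn1
theorem co2 : (orb 1782 sv2).card = 1365 := (card_orb 1782 sv2 12 (by norm_num)).trans cn2
theorem co3 : (orb 1782 sv3).card = 1024 := (card_orb 1782 sv3 12 (by norm_num)).trans cn3
theorem co4 : (orb 1782 sv4).card = 180 := (card_orb 1782 sv4 12 (by norm_num)).trans cn4

theorem engine : (∀ g : Sz, phi g b1 = b1 → phi g b2 = b2 → phi g b3 = b3 → phi g b4 = b4 → g = 1) ∧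
    (∀ (ex : List (Fin 1782)) (g : Sz), sift tab 16 (ex.map Fin.val) [sv1, sv2, sv3, sv4]
      (((b1 :: b2 :: b3 :: b4 :: ex).map (phi g)).map Fin.val) = true) :=
  main4 (φ := phi) tab el 16 b1 b2 b3 b4 sv1 sv2 sv3 sv4 1782 1365 1024 180 P1 P2 P3 P4
  co1 co2 co3 co4 (by norm_num) (by norm_num) (by norm_num) (by norm_num) card_Sz

theorem used (sv : ℕ) (h : allD (fun y => Nat.ble 1782 y || (Nat.ble (look sv y) 1 ||
    (Nat.ble 9 (look sv y) && Nat.blt (look sv y) 37))) 12 0 = true) (y : Fin 1782) (i : ℕ)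
    (hi : look sv y.val = i + 2) : 7 ≤ i ∧ i < 35 := by
  have := all_of_allD _ h y.val y.isLt
  rw [hi] at this
  simp only [Bool.or_eq_true, Bool.and_eq_true, Nat.ble_eq, Nat.blt_eq] at this
  omega

/-- a subgroup containing the strong generators is everything -/
theorem gen_top (L : Subgroup Sz) (hL : ∀ i, 7 ≤ i → i < 35 → el i ∈ L) : L = ⊤ := by
  apply gen4 (φ := phi) tab el 16 b1 b2 b3 b4 sv1 sv2 sv3 sv4 1782 1365 1024 180 P1 P2 P3 P4
    co1 co2 co3 co4 (by norm_num) card_Sz L
  intro sv hsv y i hi
  simp only [List.mem_cons, List.not_mem_nil, or_false] at hsv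
  rcases hsv with rfl | rfl | rfl | rfl
  · exact hL i (used _ us1 y i hi).1 (used _ us1 y i hi).2
  · exact hL i (used _ us2 y i hi).1 (used _ us2 y i hi).2
  · exact hL i (used _ us3 y i hi).1 (used _ us3 y i hi).2
  · exact hL i (used _ us4 y i hi).1 (used _ us4 y i hi).2

/-- an element fixing the base is trivial -/
theorem base_one (g : Sz) (h1 : phi g b1 = b1) (h2 : phi g b2 = b2) (h3 : phi g b3 = b3)
    (h4 : phi g b4 = b4) : g = 1 := engine.1 g h1 h2 h3 h4

/-- the base images of an element sift through -/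
theorem sift_true (ex : List (Fin 1782)) (g : Sz) : sift tab 16 (ex.map Fin.val) [sv1, sv2, sv3, sv4]
    (((b1 :: b2 :: b3 :: b4 :: ex).map (phi g)).map Fin.val) = true := engine.2 ex g

/-- the value of the inverse of the element with the given base images -/
noncomputable def invAt (i1 i2 i3 i4 p : ℕ) : ℕ :=
  ((siftO tab 16 [sv1, sv2, sv3, sv4] [i1, i2, i3, i4, p]).getD []).headD 0

theorem inv_val (g : Sz) (P : Fin 1782) : (phi g⁻¹ P).val =
    invAt (phi g b1).val (phi g b2).val (phi g b3).val (phi g b4).val P.val := by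
  have h := sift_true [phi g⁻¹ P] g
  have h2 := siftO_of_sift _ _ _ _ _ (by simp) h
  simp only [List.map_cons, List.map_nil] at h2
  have e : phi g (phi g⁻¹ P) = P := by rw [map_inv]; simp
  rw [e] at h2
  unfold invAt
  rw [h2]
  rfl

theorem base_eq (g h : Sz) (h1 : phi g b1 = phi h b1) (h2 : phi g b2 = phi h b2)
    (h3 : phi g b3 = phi h b3) (h4 : phi g b4 = phi h b4) : g = h := by
  have key : ∀ b, phi g b = phi h b → phi (h⁻¹ * g) b = b := by
    intro b hb
    rw [map_mul, Equiv.Perm.mul_apply, hb, map_inv]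
    simp
  have := base_one (h⁻¹ * g) (key _ h1) (key _ h2) (key _ h3) (key _ h4)
  exact (inv_mul_eq_one.1 this).symm

/-- two words agree on the base -/
noncomputable def chkB (w1 w2 : List ℕ) : Bool :=
  w1.all (fun l => Nat.blt l 35) && w2.all (fun l => Nat.blt l 35) &&
    [0, 555, 153, 137].all (fun b => Nat.beq (actW tab w1 b) (actW tab w2 b))

theorem el_apply (w : List ℕ) (h : w.all (fun l => Nat.blt l 35) = true) (j : Fin 1782) :
    (phi (wordVal el w) j).val = actW tab w j.val := by
  rw [List.all_eq_true] at h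
  exact rep_word phi el tab w (fun i hi => repD i (by have := h i hi; rwa [Nat.blt_eq] at this)) j

theorem word_eq (w1 w2 : List ℕ) (h : chkB w1 w2 = true) : wordVal el w1 = wordVal el w2 := by
  unfold chkB at h
  rw [Bool.and_eq_true, Bool.and_eq_true] at h
  obtain ⟨⟨h1, h2⟩, h3⟩ := h
  rw [List.all_eq_true] at h3
  have key : ∀ b : Fin 1782, b.val ∈ [0, 555, 153, 137] →
      phi (wordVal el w1) b = phi (wordVal el w2) b := by
    intro b hb
    apply Fin.ext
    rw [el_apply w1 h1, el_apply w2 h2]
    have := h3 _ hb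
    rwa [Nat.beq_eq] at this
  exact base_eq _ _ (key b1 (by simp [b1])) (key b2 (by simp [b2])) (key b3 (by simp [b3]))
    (key b4 (by simp [b4]))

end Cfsg.Agent.Lib.Helper62SzP
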