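import Cfsg.Agent.Lib.Helper62SzP

set_option autoImplicit false
set_option maxRecDepth 100000

/-! The outer automorphism group of the sporadic Suzuki group has order two. -/

namespace Cfsg.Agent.Lib.Helper62SzQ

open Cfsg.Agent.Lib.Helper35TC Cfsg.Agent.Lib.Helper62Bsgs Cfsg.Agent.Lib.Helper62Bsgs2
open Cfsg.Agent.Lib.Helper62SzT Cfsg.Agent.Lib.Helper62SzP
open Cfsg.Agent.Lib.Helper35SuzA (K ok code)

noncomputable abbrev u : Sz := el 7
noncomputable abbrev v : Sz := el 9
noncomputable abbrev s : Sz := el 11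

theorem wv1 (i : ℕ) : wordVal el [i] = el i := by simp [wordVal]

theorem wvp (i n : ℕ) : wordVal el (repW [i] n) = el i ^ n := by rw [wordVal_repW, wv1]

theorem el_pt (i : ℕ) (hi : i < 35) (a c : Fin 1782)
    (h : Nat.beq (look (tab i) a.val) c.val = true) : phi (el i) a = c := by
  apply Fin.ext
  rw [repD i hi a]
  rwa [Nat.beq_eq] at h

theorem comm_apply (c x y : Sz) (h : c * x = y * c) (j : Fin 1782) :
    phi c (phi x j) = phi y (phi c j) := by
  rw [← Equiv.Perm.mul_apply, ← Equiv.Perm.mul_apply, ← map_mul, ← map_mul, h]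

theorem el_pow_val (i : ℕ) (hi : i < 35) (m : ℕ) (j : Fin 1782) :
    (phi (el i ^ m) j).val = (look (tab i))^[m] j.val := by
  rw [map_pow]
  exact pow_apply_val _ _ (repD i hi) m j

theorem u_val (j : Fin 1782) : (phi u j).val = look (tab 7) j.val := repD 7 (by norm_num) j
theorem v_val (j : Fin 1782) : (phi v j).val = look (tab 9) j.val := repD 9 (by norm_num) j
theorem upow_val (m : ℕ) (j : Fin 1782) : (phi (u ^ m) j).val = (look (tab 7))^[m] j.val :=
  el_pow_val 7 (by norm_num) m j

/-! ### relations -/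

theorem up : u ^ 13 = 1 := by
  have := word_eq (repW [7] 13) [] (by decide +kernel)
  rwa [wvp] at this

theorem u_b1 : phi u b1 = b1 := el_pt 7 (by norm_num) _ _ (by decide +kernel)
theorem u_b2 : phi u b2 = b3 := el_pt 7 (by norm_num) _ _ (by decide +kernel)
theorem v_b1 : phi v b1 = b1 := el_pt 9 (by norm_num) _ _ (by decide +kernel)
theorem v_b2 : phi v b2 = b2 := el_pt 9 (by norm_num) _ _ (by decide +kernel)
theorem v_b3 : phi v b3 = b4 := el_pt 9 (by norm_num) _ _ (by decide +kernel)

def b5 : Fin 1782 := ⟨74, by decide⟩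
def b6 : Fin 1782 := ⟨169, by decide⟩
def b7 : Fin 1782 := ⟨15, by decide⟩
theorem u_b3 : phi u b3 = b5 := el_pt 7 (by norm_num) _ _ (by decide +kernel)
theorem u_b4 : phi u b4 = b6 := el_pt 7 (by norm_num) _ _ (by decide +kernel)
theorem v_b4 : phi v b4 = b7 := el_pt 9 (by norm_num) _ _ (by decide +kernel)

theorem uk_b2 : phi (u ^ 4) b2 = b4 := by
  apply Fin.ext
  rw [upow_val]
  decide +kernel

theorem u_ne : u ≠ 1 := by
  intro h
  have := u_b2
  rw [h, map_one, Equiv.Perm.one_apply] at this
  exact absurd this (by decide)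

theorem order_u : orderOf u = 13 := by
  have : Fact (Nat.Prime 13) := ⟨by norm_num⟩
  exact orderOf_eq_prime up u_ne

theorem vu : v * u * v⁻¹ = u ^ 4 := by
  have := word_eq [7, 9] ([9] ++ repW [7] 4) (by decide +kernel)
  rw [wordVal_append, wvp, wv1] at this
  have h2 : wordVal el [7, 9] = v * u := by simp [wordVal]
  rw [h2] at this
  rw [this]; group

theorem sv : s * v = v * s := by
  have := word_eq [9, 11] [11, 9] (by decide +kernel)
  simpa [wordVal] using this

theorem ss : s * s = 1 := by
  have := word_eq [11, 11] [] (by decide +kernel)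
  simpa [wordVal] using this

theorem us13 : (u * s) ^ 13 = 1 := by
  have := word_eq (repW [11, 7] 13) [] (by decide +kernel)
  rw [wordVal_repW] at this
  simpa [wordVal] using this

theorem uus21 : (u * u * s) ^ 21 = 1 := by
  have := word_eq (repW [11, 7, 7] 21) [] (by decide +kernel)
  rw [wordVal_repW] at this
  simpa [wordVal, mul_assoc] using this

theorem eli_u : el 8 = u⁻¹ := by
  have := word_eq [7, 8] [] (by decide +kernel)
  have h2 : wordVal el [7, 8] = el 8 * u := by simp [wordVal]
  rw [h2] at this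
  exact eq_inv_of_mul_eq_one_left this

theorem eli_v : el 10 = v⁻¹ := by
  have := word_eq [9, 10] [] (by decide +kernel)
  have h2 : wordVal el [9, 10] = el 10 * v := by simp [wordVal]
  rw [h2] at this
  exact eq_inv_of_mul_eq_one_left this

/-! ### the centraliser of `u` -/

theorem fixU : allD (fun j => Nat.ble 1782 j || (!(Nat.beq (look (tab 7) j) j) || Nat.beq j 0)) 12 0 = true := by
  decide +kernel

theorem beq_self (a : ℕ) : Nat.beq a a = true := by rw [Nat.beq_eq]

theorem u_fix (j : Fin 1782) (h : phi u j = j) : j = b1 := by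
  have h1 := all_of_allD _ fixU j.val j.isLt
  have h2 : look (tab 7) j.val = j.val := by rw [← u_val, h]
  rw [h2, beq_self] at h1
  simp only [Bool.not_true, Bool.false_or, Nat.beq_eq] at h1
  exact Fin.ext h1

noncomputable def inU (y : ℕ) : Bool := (List.range 13).any (fun j => Nat.beq y ((look (tab 7))^[j] 555))

theorem chkU1 : allD (fun y => Nat.ble 1782 y || (!(sift tab 16 [74, 169] [sv1, sv2, sv3, sv4]
    [0, y, look (tab 7) y, (look (tab 7))^[4] y, look (tab 7) (look (tab 7) y),
      look (tab 7) ((look (tab 7))^[4] y)]) || inU y)) 12 0 = true := by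
  decide +kernel

theorem pow_fix (g : Sz) (j : Fin 1782) (h : phi g j = j) (m : ℕ) : phi (g ^ m) j = j := by
  rw [map_pow]
  exact Equiv.Perm.pow_apply_eq_self_of_apply_eq_self h m

theorem cent_u (c : Sz) (hc : c * u = u * c) : ∃ j : ℕ, c = u ^ j := by
  have c1 : phi c b1 = b1 := by
    apply u_fix
    rw [← comm_apply c u u hc, u_b1]
  have hck : c * u ^ 4 = u ^ 4 * c := ((Commute.pow_right (show Commute c u from hc) 4)).eq
  have c3 : phi c b3 = phi u (phi c b2) := by rw [← u_b2, comm_apply c u u hc]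
  have c4 : phi c b4 = phi (u ^ 4) (phi c b2) := by rw [← uk_b2, comm_apply c _ _ hck]
  have c5 : phi c b5 = phi u (phi u (phi c b2)) := by rw [← u_b3, comm_apply c u u hc, c3]
  have c6 : phi c b6 = phi u (phi (u ^ 4) (phi c b2)) := by rw [← u_b4, comm_apply c u u hc, c4]
  have hs := sift_true [b5, b6] c
  simp only [List.map_cons, List.map_nil] at hs
  rw [c1, c3, c4, c5, c6] at hs
  simp only [u_val, upow_val] at hs
  have h1 := all_of_allD _ chkU1 (phi c b2).val (phi c b2).isLt
  have hs' : sift tab 16 [74, 169] [sv1, sv2, sv3, sv4] [0, (phi c b2).val, look (tab 7) (phi c b2).val,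
      (look (tab 7))^[4] (phi c b2).val, look (tab 7) (look (tab 7) (phi c b2).val),
      look (tab 7) ((look (tab 7))^[4] (phi c b2).val)] = true := hs
  rw [hs'] at h1
  simp only [Bool.not_true, Bool.false_or] at h1
  unfold inU at h1
  rw [List.any_eq_true] at h1
  obtain ⟨j, -, hj⟩ := h1
  rw [Nat.beq_eq] at hj
  refine ⟨j, ?_⟩
  have e2 : phi c b2 = phi (u ^ j) b2 := by
    apply Fin.ext
    rw [hj, upow_val]
    rfl
  have hcj : u ^ j * u = u * u ^ j := (Commute.pow_self u j).eq
  have hcjk : u ^ j * u ^ 4 = u ^ 4 * u ^ j := (Commute.pow_pow_self u j 4).eq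
  apply base_eq
  · rw [c1, pow_fix u b1 u_b1]
  · exact e2
  · rw [c3, e2, ← comm_apply _ _ _ hcj, u_b2]
  · rw [c4, e2, ← comm_apply _ _ _ hcjk, uk_b2]

/-! ### no element acts on `u` as the power `11` -/

theorem fixUr : allD (fun j => Nat.ble 1782 j || (!(Nat.beq ((look (tab 7))^[11] j) j) || Nat.beq j 0)) 12 0 = true := by
  decide +kernel

theorem chkU2 : allD (fun y => Nat.ble 1782 y || !(sift tab 16 [74, 169] [sv1, sv2, sv3, sv4]
    [0, y, (look (tab 7))^[11] y, (look (tab 7))^[44] y, (look (tab 7))^[11] ((look (tab 7))^[11] y),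
      (look (tab 7))^[11] ((look (tab 7))^[44] y)])) 12 0 = true := by
  decide +kernel

theorem no_r (x : Sz) (hx : x * u * x⁻¹ = u ^ 11) : False := by
  have h1 : x * u = u ^ 11 * x := by rw [← hx]; group
  have hk : x * u ^ 4 = u ^ 44 * x := by
    have : x * u ^ 4 * x⁻¹ = u ^ 44 := by rw [← conj_pow, hx, ← pow_mul]
    rw [← this]; group
  have c1 : phi x b1 = b1 := by
    have e : phi (u ^ 11) (phi x b1) = phi x b1 := by rw [← comm_apply x u _ h1, u_b1]
    have h2 := all_of_allD _ fixUr (phi x b1).val (phi x b1).isLt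
    have h3 : (look (tab 7))^[11] (phi x b1).val = (phi x b1).val := by
      rw [← upow_val, e]
    rw [h3, beq_self] at h2
    simp only [Bool.not_true, Bool.false_or, Nat.beq_eq] at h2
    exact Fin.ext h2
  have c3 : phi x b3 = phi (u ^ 11) (phi x b2) := by rw [← u_b2, comm_apply x u _ h1]
  have c4 : phi x b4 = phi (u ^ 44) (phi x b2) := by rw [← uk_b2, comm_apply x _ _ hk]
  have c5 : phi x b5 = phi (u ^ 11) (phi (u ^ 11) (phi x b2)) := by
    rw [← u_b3, comm_apply x u _ h1, c3]
  have c6 : phi x b6 = phi (u ^ 11) (phi (u ^ 44) (phi x b2)) := by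
    rw [← u_b4, comm_apply x u _ h1, c4]
  have hs := sift_true [b5, b6] x
  simp only [List.map_cons, List.map_nil] at hs
  rw [c1, c3, c4, c5, c6] at hs
  simp only [upow_val] at hs
  have h2 := all_of_allD _ chkU2 (phi x b2).val (phi x b2).isLt
  have hs' : sift tab 16 [74, 169] [sv1, sv2, sv3, sv4] [0, (phi x b2).val, (look (tab 7))^[11] (phi x b2).val,
      (look (tab 7))^[44] (phi x b2).val, (look (tab 7))^[11] ((look (tab 7))^[11] (phi x b2).val),
      (look (tab 7))^[11] ((look (tab 7))^[44] (phi x b2).val)] = true := hs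
  rw [hs'] at h2
  exact absurd h2 (by simp)

/-! ### elements commuting with `v` and satisfying the relations of `s` -/

theorem fixV : allD (fun j => Nat.ble 1782 j || (!(Nat.beq (look (tab 9) j) j) || [0, 555, 686, 1402, 1442, 1510].contains j)) 12 0 = true := by
  decide +kernel

theorem v_fix (j : Fin 1782) (h : phi v j = j) : j.val ∈ [0, 555, 686, 1402, 1442, 1510] := by
  have h1 := all_of_allD _ fixV j.val j.isLt
  have h2 : look (tab 9) j.val = j.val := by rw [← v_val, h]
  rw [h2, beq_self] at h1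
  simp only [Bool.not_true, Bool.false_or] at h1
  exact List.contains_iff_mem.1 h1

/-- the three relations, tested on the base -/
noncomputable def relT (i1 i2 i3 i4 : ℕ) : Bool :=
  [0, 555, 153, 137].all fun q =>
    Nat.beq (invAt i1 i2 i3 i4 (invAt i1 i2 i3 i4 q)) q &&
    Nat.beq ((fun z => invAt i1 i2 i3 i4 (look (tab 8) z))^[13] q) q &&
    Nat.beq ((fun z => invAt i1 i2 i3 i4 (look (tab 8) (look (tab 8) z)))^[21] q) q

theorem chkS : ∀ i0 ∈ [0, 555, 686, 1402, 1442, 1510], ∀ i1 ∈ [0, 555, 686, 1402, 1442, 1510],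
    allD (fun y => Nat.ble 1782 y || (!(sift tab 16 [15] [sv1, sv2, sv3, sv4]
      [i0, i1, y, look (tab 9) y, look (tab 9) (look (tab 9) y)]) ||
      (!(relT i0 i1 y (look (tab 9) y)) ||
      (Nat.beq i0 686 && Nat.beq i1 1402 && Nat.beq y 927)))) 12 0 = true := by
  decide +kernel

theorem s_b1 : phi s b1 = ⟨686, by decide⟩ := el_pt 11 (by norm_num) _ _ (by decide +kernel)
theorem s_b2 : phi s b2 = ⟨1402, by decide⟩ := el_pt 11 (by norm_num) _ _ (by decide +kernel)
theorem s_b3 : phi s b3 = ⟨927, by decide⟩ := el_pt 11 (by norm_num) _ _ (by decide +kernel)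

theorem ui_val (j : Fin 1782) : (phi u⁻¹ j).val = look (tab 8) j.val := by
  rw [← eli_u]; exact repD 8 (by norm_num) j

theorem uniq_s (x : Sz) (hc : x * v = v * x) (h1 : x * x = 1) (h2 : (u * x) ^ 13 = 1)
    (h3 : (u * u * x) ^ 21 = 1) : x = s := by
  have f1 := v_fix (phi x b1) (by rw [← comm_apply x v v hc, v_b1])
  have f2 := v_fix (phi x b2) (by rw [← comm_apply x v v hc, v_b2])
  have c4 : phi x b4 = phi v (phi x b3) := by rw [← v_b3, comm_apply x v v hc]
  have c7 : phi x b7 = phi v (phi v (phi x b3)) := by rw [← v_b4, comm_apply x v v hc, c4]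
  have hs := sift_true [b7] x
  simp only [List.map_cons, List.map_nil] at hs
  rw [c4, c7] at hs
  simp only [v_val] at hs
  have hs' : sift tab 16 [15] [sv1, sv2, sv3, sv4] [(phi x b1).val, (phi x b2).val, (phi x b3).val,
      look (tab 9) (phi x b3).val, look (tab 9) (look (tab 9) (phi x b3).val)] = true := hs
  have iv' : ∀ P : Fin 1782, (phi x⁻¹ P).val = invAt (phi x b1).val (phi x b2).val (phi x b3).val
      (look (tab 9) (phi x b3).val) P.val := by
    intro P
    rw [inv_val x P, c4, v_val]
  have hr : relT (phi x b1).val (phi x b2).val (phi x b3).val (look (tab 9) (phi x b3).val) = true := by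
    unfold relT
    rw [List.all_eq_true]
    intro q hq
    have hq' : q < 1782 := by
      simp only [List.mem_cons, List.not_mem_nil, or_false] at hq
      rcases hq with rfl | rfl | rfl | rfl <;> norm_num
    rw [Bool.and_eq_true, Bool.and_eq_true, Nat.beq_eq, Nat.beq_eq, Nat.beq_eq]
    refine ⟨⟨?_, ?_⟩, ?_⟩
    · have e : phi x⁻¹ (phi x⁻¹ ⟨q, hq'⟩) = ⟨q, hq'⟩ := by
        rw [← Equiv.Perm.mul_apply, ← map_mul, ← mul_inv_rev, h1, inv_one, map_one,
          Equiv.Perm.one_apply]
      have e2 := congrArg Fin.val e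
      rw [iv', iv'] at e2
      exact e2
    · have hF : ∀ P : Fin 1782, (phi (x⁻¹ * u⁻¹) P).val = (fun z => invAt (phi x b1).val (phi x b2).val
          (phi x b3).val (look (tab 9) (phi x b3).val) (look (tab 8) z)) P.val := by
        intro P
        rw [map_mul, Equiv.Perm.mul_apply, iv', ui_val]
      have e := pow_apply_val (phi (x⁻¹ * u⁻¹)) (fun z => invAt (phi x b1).val (phi x b2).val
          (phi x b3).val (look (tab 9) (phi x b3).val) (look (tab 8) z)) hF 13 ⟨q, hq'⟩
      rw [← map_pow, ← mul_inv_rev, inv_pow, h2, inv_one, map_one, Equiv.Perm.one_apply] at e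
      exact e.symm
    · have hF : ∀ P : Fin 1782, (phi (x⁻¹ * (u⁻¹ * u⁻¹)) P).val = (fun z => invAt (phi x b1).val
          (phi x b2).val (phi x b3).val (look (tab 9) (phi x b3).val)
          (look (tab 8) (look (tab 8) z))) P.val := by
        intro P
        rw [map_mul, map_mul, Equiv.Perm.mul_apply, Equiv.Perm.mul_apply, iv', ui_val, ui_val]
      have e := pow_apply_val (phi (x⁻¹ * (u⁻¹ * u⁻¹))) (fun z => invAt (phi x b1).val
          (phi x b2).val (phi x b3).val (look (tab 9) (phi x b3).val)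
          (look (tab 8) (look (tab 8) z))) hF 21 ⟨q, hq'⟩
      have e3 : x⁻¹ * (u⁻¹ * u⁻¹) = (u * u * x)⁻¹ := by group
      rw [← map_pow, e3, inv_pow, h3, inv_one, map_one, Equiv.Perm.one_apply] at e
      exact e.symm
  have h4 := all_of_allD _ (chkS _ f1 _ f2) (phi x b3).val (phi x b3).isLt
  rw [hs', hr] at h4
  simp only [Bool.not_true, Bool.false_or, Bool.and_eq_true, Nat.beq_eq] at h4
  obtain ⟨⟨g1, g2⟩, g3⟩ := h4
  have e3 : phi x b3 = phi s b3 := by rw [s_b3]; exact Fin.ext g3
  apply base_eq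
  · rw [s_b1]; exact Fin.ext g1
  · rw [s_b2]; exact Fin.ext g2
  · exact e3
  · rw [c4, e3, ← comm_apply s v v sv, v_b3]

/-! ### generation -/

theorem map_wordVal (β : MulAut Sz) : ∀ (w : List ℕ), (∀ i ∈ w, β (el i) = el i) →
    β (wordVal el w) = wordVal el w
  | [], _ => by simp [wordVal]
  | l :: w, h => by
    rw [wordVal, map_mul, map_wordVal β w (fun i hi => h i (List.mem_cons_of_mem _ hi)),
      h l (List.mem_cons_self ..)]

theorem hfix (γ : MulAut Sz) (hu : γ u = u) (hv : γ v = v) : γ = 1 := by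
  have hs : γ s = s := by
    apply uniq_s
    · rw [← hv, ← map_mul, ← map_mul, sv]
    · rw [← map_mul, ss, map_one]
    · have := congrArg γ us13
      rwa [map_pow, map_mul, hu, map_one] at this
    · have := congrArg γ uus21
      rwa [map_pow, map_mul, map_mul, hu, map_one] at this
  have key : ∀ m, ∀ i, i = m → 7 ≤ i → i < 35 → γ (el i) = el i := by
    intro m
    induction m using Nat.strong_induction_on with
    | _ m ih =>
      intro i him h7 hN
      by_cases h12 : i < 12
      · interval_cases i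
        · exact hu
        · rw [eli_u, map_inv, hu]
        · exact hv
        · rw [eli_v, map_inv, hv]
        · exact hs
      · rw [el_W i h7 hN]
        apply map_wordVal
        intro l hl
        obtain ⟨a1, a2⟩ := W_lt i (by omega) hN l hl
        exact ih l (by omega) l rfl a1 (by omega)
  have htop := gen_top (MonoidHom.eqLocus γ.toMonoidHom (MonoidHom.id Sz))
    (fun i h7 hN => key i i rfl h7 hN)
  ext g
  have : g ∈ MonoidHom.eqLocus γ.toMonoidHom (MonoidHom.id Sz) := by rw [htop]; exact Subgroup.mem_top g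
  exact this

theorem rigid (β : MulAut Sz) (hβ : β u = u) : β ∈ Cfsg.Inn Sz :=
  rigid2 13 4 10 2 u v up vu (by norm_num) cent_u hfix β hβ

/-! ### the outer automorphism -/

/-- the swap of the last two generators -/
def sw : Gen → Gen
  | .f => .g
  | .g => .f
  | x => x

theorem el0_inv (l : ℕ) : el0 (id l) = (el0 l)⁻¹ := by
  apply eq_inv_of_mul_eq_one_left
  by_cases hl : l < 7
  · interval_cases l <;> exact cox_sq Cfsg.Spor.Suz.edges _ _ (by decide)
  · have : el0 l = 1 := by
      match l, hl with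
      | l + 7, _ => rfl
    show el0 l * el0 l = 1
    rw [this, one_mul]

theorem sw_chk : ∀ e ∈ K.relExps, ((e.app (fun x => code (sw x)) id).all (fun l => Nat.blt l 7) &&
    chkB (e.app (fun x => code (sw x)) id) []) = true := by decide +kernel

theorem el0_code (x : Gen) : el0 (code x) = PresentedGroup.of x := by cases x <;> rfl

theorem hrelT : ∀ e ∈ K.relExps, e.evalIn (fun x => (PresentedGroup.of (sw x) : Sz)) = 1 := by
  intro e he
  have h0 : (fun x => (PresentedGroup.of (sw x) : Sz)) = fun x => el0 (code (sw x)) := by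
    funext x; rw [el0_code]
  rw [h0, ← WExp.lift_eval,
    eval_eq_wordVal el0 (fun x => code (sw x)) id el0_inv (FreeGroup.lift _) (fun x => by simp) e]
  have h1 := sw_chk e he
  rw [Bool.and_eq_true, List.all_eq_true] at h1
  rw [wordVal_congr el0 el _ (fun i hi => by
    have := h1.1 i hi
    rw [Nat.blt_eq] at this
    interval_cases i <;> rfl)]
  exact word_eq _ [] h1.2

/-- the swap as an endomorphism -/
noncomputable def tau : Sz →* Sz := ok.homTo (fun x => PresentedGroup.of (sw x)) hrelT

theorem tau_of (x : Gen) : tau (PresentedGroup.of x) = PresentedGroup.of (sw x) :=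
  ok.homTo_of _ hrelT x

theorem tau_tau : tau.comp tau = MonoidHom.id Sz := by
  apply PresentedGroup.ext
  intro x
  rw [MonoidHom.comp_apply, tau_of, tau_of]
  cases x <;> rfl

/-- the swap as an automorphism -/
noncomputable def tauE : MulAut Sz := MonoidHom.toMulEquiv tau tau tau_tau tau_tau

theorem tauE_apply (g : Sz) : tauE g = tau g := rfl

def g0w : List ℕ := [31, 31, 10, 24, 19, 28, 12, 7, 16, 11, 7, 10, 11, 7, 7, 11]

/-- the conjugating element -/
noncomputable def g0 : Sz := wordVal el g0w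

/-- the outer automorphism normalising the Sylow subgroup -/
noncomputable def sigma : MulAut Sz := MulAut.conj g0 * tauE

theorem tau_word : ∀ (w : List ℕ), (∀ l ∈ w, l < 7) →
    tau (wordVal el0 w) = wordVal el0 (w.map (fun l => if l = 5 then 6 else if l = 6 then 5 else l))
  | [], _ => by simp [wordVal]
  | l :: w, h => by
    rw [wordVal, map_mul, tau_word w (fun i hi => h i (List.mem_cons_of_mem _ hi)), List.map_cons,
      wordVal]
    congr 1
    have hl := h l (List.mem_cons_self ..)
    interval_cases l <;> exact tau_of _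

theorem tau_u : tau u = wordVal el [0, 1, 2, 1, 3, 4, 6] := by
  have h1 : u = wordVal el0 [0, 1, 2, 1, 3, 4, 5] := rfl
  rw [h1, tau_word _ (by decide)]
  exact wordVal_congr el0 el _ (fun l hl => by
    have : l < 7 := by revert l; decide
    interval_cases l <;> rfl)

theorem sigma_u : sigma u = u ^ 11 := by
  rw [sigma, MulAut.mul_apply, tauE_apply, tau_u, MulAut.conj_apply]
  have := word_eq ([0, 1, 2, 1, 3, 4, 6] ++ g0w) (g0w ++ repW [7] 11) (by decide +kernel)
  rw [wordVal_append, wordVal_append, wvp] at this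
  show g0 * _ * g0⁻¹ = _
  unfold g0
  rw [this]; group

theorem sigma_out : sigma ∉ Cfsg.Inn Sz := by
  rintro ⟨x, hx⟩
  apply no_r x
  rw [← sigma_u, ← hx]
  rfl

theorem hexp : ∀ m < 13, 0 < m → ∃ i : ℕ, m ≡ 4 ^ i [MOD 13] ∨ m ≡ 11 * 4 ^ i [MOD 13] := by
  intro m hm h0
  interval_cases m
  · exact ⟨0, Or.inl (by decide)⟩
  · exact ⟨3, Or.inr (by decide)⟩
  · exact ⟨2, Or.inl (by decide)⟩
  · exact ⟨1, Or.inl (by decide)⟩
  · exact ⟨1, Or.inr (by decide)⟩
  · exact ⟨5, Or.inr (by decide)⟩
  · exact ⟨2, Or.inr (by decide)⟩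
  · exact ⟨4, Or.inr (by decide)⟩
  · exact ⟨4, Or.inl (by decide)⟩
  · exact ⟨5, Or.inl (by decide)⟩
  · exact ⟨0, Or.inr (by decide)⟩
  · exact ⟨3, Or.inl (by decide)⟩

theorem main : Nat.card (Cfsg.Out Sz) = 2 := by
  have : Fact (Nat.Prime 13) := ⟨by norm_num⟩
  have : Finite Sz := Nat.finite_of_card_ne_zero (by rw [card_Sz]; norm_num)
  exact Cfsg.Agent.Lib.Helper62OutLem.card_out 13 34488115200 4 11 u v order_u
    (card_Sz.trans (by norm_num)) (by norm_num) vu sigma sigma_u hexp rigid sigma_out

end Cfsg.Agent.Lib.Helper62SzQ
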