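import Mathlib
import Cfsg.Agent.Lib.Helper62F4

set_option autoImplicit false

/-! Explicit matrices generating a subgroup `L_2(11)` of `SU_5(2)`, and an invariant set of 55 vectors.
Tables are stored as bits of natural numbers. -/

namespace Cfsg.Agent.Lib.Helper62U5a

open Cfsg.Agent.Lib.Helper62F4

/-- the field with four elements -/
abbrev K := F4

/-- `5 × 5` matrices -/
abbrev M5 := Matrix (Fin 5) (Fin 5) K

/-- a matrix from its table -/
def mk (n1 n2 : ℕ) : M5 := Matrix.of fun a b =>
  ⟨Nat.testBit n1 (a.1 * 5 + b.1), Nat.testBit n2 (a.1 * 5 + b.1)⟩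

/-- addition, evaluating its arguments once -/
def fa (x y : K) : K :=
  match x, y with
  | ⟨false, false⟩, y => y
  | ⟨true, false⟩, ⟨false, false⟩ => ⟨true, false⟩
  | ⟨true, false⟩, ⟨true, false⟩ => ⟨false, false⟩
  | ⟨true, false⟩, ⟨false, true⟩ => ⟨true, true⟩
  | ⟨true, false⟩, ⟨true, true⟩ => ⟨false, true⟩
  | ⟨false, true⟩, ⟨false, false⟩ => ⟨false, true⟩
  | ⟨false, true⟩, ⟨true, false⟩ => ⟨true, true⟩
  | ⟨false, true⟩, ⟨false, true⟩ => ⟨false, false⟩
  | ⟨false, true⟩, ⟨true, true⟩ => ⟨true, false⟩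
  | ⟨true, true⟩, ⟨false, false⟩ => ⟨true, true⟩
  | ⟨true, true⟩, ⟨true, false⟩ => ⟨false, true⟩
  | ⟨true, true⟩, ⟨false, true⟩ => ⟨true, false⟩
  | ⟨true, true⟩, ⟨true, true⟩ => ⟨false, false⟩

/-- multiplication, evaluating its arguments once -/
def fm (x y : K) : K :=
  match x, y with
  | ⟨false, false⟩, _ => ⟨false, false⟩
  | ⟨true, false⟩, y => y
  | ⟨false, true⟩, ⟨false, false⟩ => ⟨false, false⟩
  | ⟨false, true⟩, ⟨true, false⟩ => ⟨false, true⟩
  | ⟨false, true⟩, ⟨false, true⟩ => ⟨true, true⟩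
  | ⟨false, true⟩, ⟨true, true⟩ => ⟨true, false⟩
  | ⟨true, true⟩, ⟨false, false⟩ => ⟨false, false⟩
  | ⟨true, true⟩, ⟨true, false⟩ => ⟨true, true⟩
  | ⟨true, true⟩, ⟨false, true⟩ => ⟨true, false⟩
  | ⟨true, true⟩, ⟨true, true⟩ => ⟨false, true⟩

theorem fa_eq : ∀ x y : K, fa x y = x + y := by decide +kernel

theorem fm_eq : ∀ x y : K, fm x y = x * y := by decide +kernel

/-- the product, written out -/
def mul5 (A B : M5) : M5 := Matrix.of fun a b =>
  fa (fa (fa (fa (fm (A a 0) (B 0 b)) (fm (A a 1) (B 1 b))) (fm (A a 2) (B 2 b)))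
    (fm (A a 3) (B 3 b))) (fm (A a 4) (B 4 b))

theorem mul5_eq (A B : M5) : A * B = mul5 A B := by
  ext a b
  simp [mul5, Matrix.mul_apply, Fin.sum_univ_five, fa_eq, fm_eq]

/-- entrywise square -/
def sq5 (M : M5) : M5 := Matrix.of fun a b => fm (M a b) (M a b)

/-- a coordinate of the image of a vector -/
def row (M : M5) (i : Fin 5) (a b c d e : K) : K :=
  fa (fa (fa (fa (fm (M i 0) a) (fm (M i 1) b)) (fm (M i 2) c)) (fm (M i 3) d)) (fm (M i 4) e)

theorem mulVec_eq (M : M5) (v : Fin 5 → K) (i : Fin 5) :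
    (M.mulVec v) i = row M i (v 0) (v 1) (v 2) (v 3) (v 4) := by
  simp [row, Matrix.mulVec, dotProduct, Fin.sum_univ_five, fa_eq, fm_eq]

/-- numbering of the field elements -/
def cd1 (x : K) : ℕ := (cond x.a 1 0) + (cond x.b 2 0)

/-- numbering of the vectors -/
def code5 (a b c d e : K) : ℕ := cd1 a + 4 * (cd1 b + 4 * (cd1 c + 4 * (cd1 d + 4 * cd1 e)))

def g : M5 := mk 5278597 22842125
def g2 : M5 := mk 30544209 24572127
def g4 : M5 := mk 31787667 9543665
def g8 : M5 := mk 17332193 26922898
def g10 : M5 := mk 25462784 27640985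
def p : M5 := mk 29867892 846584
def p2 : M5 := mk 29820202 3484656
def p4 : M5 := mk 30014724 16156874
def pg : M5 := mk 7191531 15141055
def t : M5 := mk 29376372 16477106
def tg : M5 := mk 8895434 27921187
def tgt : M5 := mk 4891764 22208427
def c1 : M5 := mk 25598795 27861667
def c2 : M5 := mk 21494020 13274317
def s : M5 := mk 17043490 0
def DD : ℕ := 2811702918936997994478554750747242503919019778447816556607585738935476633049207350565259694370134542816598294797988018103363836087969314274570532676285490680051814891048709040271970323581304563957059257268220055911914431698592802481678975697303983252211491888799933867909833599492810361168810708613009047808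

/-- membership in the invariant set -/
def inD (v : Fin 5 → K) : Bool := Nat.testBit DD (code5 (v 0) (v 1) (v 2) (v 3) (v 4))

/-- the matrix preserves the invariant set -/
def Pres (M : M5) : Prop := ∀ a b c d e : K,
  Nat.testBit DD (code5 (row M 0 a b c d e) (row M 1 a b c d e) (row M 2 a b c d e)
    (row M 3 a b c d e) (row M 4 a b c d e)) = Nat.testBit DD (code5 a b c d e)

instance (M : M5) : Decidable (Pres M) := by unfold Pres; infer_instance

theorem Pres.inD {M : M5} (h : Pres M) (v : Fin 5 → K) : inD (M.mulVec v) = inD v := by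
  unfold Helper62U5a.inD
  simp only [mulVec_eq]
  exact h _ _ _ _ _

theorem pres_g : Pres g := by decide +kernel
theorem pres_p : Pres p := by decide +kernel
theorem pres_t : Pres t := by decide +kernel
theorem not_pres_s : inD (s.mulVec ![0, 1, 1, w, 0]) ≠ inD ![0, 1, 1, w, 0] := by
  unfold inD
  simp only [mulVec_eq]
  decide +kernel

theorem uni_g : mul5 g.transpose (sq5 g) = 1 := by decide +kernel
theorem uni_p : mul5 p.transpose (sq5 p) = 1 := by decide +kernel
theorem uni_t : mul5 t.transpose (sq5 t) = 1 := by decide +kernel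
theorem uni_s : mul5 s.transpose (sq5 s) = 1 := by decide +kernel

theorem g2_eq : g * g = g2 := by rw [mul5_eq]; decide +kernel
theorem g4_eq : g2 * g2 = g4 := by rw [mul5_eq]; decide +kernel
theorem g8_eq : g4 * g4 = g8 := by rw [mul5_eq]; decide +kernel
theorem g10_eq : g8 * g2 = g10 := by rw [mul5_eq]; decide +kernel
theorem g11_eq : g10 * g = 1 := by rw [mul5_eq]; decide +kernel
theorem p2_eq : p * p = p2 := by rw [mul5_eq]; decide +kernel
theorem p4_eq : p2 * p2 = p4 := by rw [mul5_eq]; decide +kernel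
theorem p5_eq : p4 * p = 1 := by rw [mul5_eq]; decide +kernel
theorem pg_eq : p * g = pg := by rw [mul5_eq]; decide +kernel
theorem gp_eq : g4 * p = pg := by rw [mul5_eq]; decide +kernel
theorem t2_eq : t * t = 1 := by rw [mul5_eq]; decide +kernel
theorem s2_eq : s * s = 1 := by rw [mul5_eq]; decide +kernel
theorem tg_eq : t * g = tg := by rw [mul5_eq]; decide +kernel
theorem tgt_eq : tg * t = tgt := by rw [mul5_eq]; decide +kernel
theorem c1_eq : tgt * g = c1 := by rw [mul5_eq]; decide +kernel
theorem c2_eq : g * tgt = c2 := by rw [mul5_eq]; decide +kernel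
theorem c_ne : c1 ≠ c2 := by decide +kernel
theorem g_ne : g ≠ 1 := by decide +kernel
theorem p_ne : p ≠ 1 := by decide +kernel

end Cfsg.Agent.Lib.Helper62U5a
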