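import Cfsg.Agent.Lib.Helper97AschBase

set_option autoImplicit false

namespace Cfsg.Agent.Lib.Helper97AschTransv

open Cfsg Cfsg.Geo Matrix Cfsg.Agent.Lib.Helper97AschBase
open scoped MatrixGroups

variable {n : ℕ} {F : Type*} [Field F]

/-- the transvection `v ↦ v + (φ ⬝ᵥ v) • u` -/
def tv (u φ : Fin n → F) (h : φ ⬝ᵥ u = 0) : GL (Fin n) F where
  val := 1 + vecMulVec u φ
  inv := 1 - vecMulVec u φ
  val_inv := by
    rw [add_mul, mul_sub, mul_sub, vecMulVec_mul_vecMulVec, h]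
    simp
  inv_val := by
    rw [sub_mul, mul_add, mul_add, vecMulVec_mul_vecMulVec, h]
    simp

lemma tv_val (u φ : Fin n → F) (h : φ ⬝ᵥ u = 0) :
    (tv u φ h : Matrix (Fin n) (Fin n) F) = 1 + vecMulVec u φ := rfl

lemma tv_mulVec (u φ : Fin n → F) (h : φ ⬝ᵥ u = 0) (v : Fin n → F) :
    (tv u φ h : Matrix (Fin n) (Fin n) F) *ᵥ v = v + (φ ⬝ᵥ v) • u := by
  rw [tv_val, Matrix.add_mulVec, Matrix.one_mulVec, vecMulVec_mulVec]
  simp

lemma tv_mem_SL (u φ : Fin n → F) (h : φ ⬝ᵥ u = 0) : tv u φ h ∈ specialLinear (Fin n) F := by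
  rw [mem_specialLinear_iff, tv_val, Matrix.vecMulVec_eq Unit,
    Matrix.det_one_add_replicateCol_mul_replicateRow, h, add_zero]

/-- functionals as dot products -/
lemma exists_functional {W : Submodule F (Fin n → F)} {w : Fin n → F} (hw : w ∉ W) :
    ∃ φ : Fin n → F, (∀ u ∈ W, φ ⬝ᵥ u = 0) ∧ φ ⬝ᵥ w = 1 := by
  obtain ⟨f, hfw, hW⟩ := Submodule.exists_le_ker_of_notMem hw
  have hf : ∀ v : Fin n → F, f v = (fun i => f (Pi.single i 1)) ⬝ᵥ v := by
    intro v
    rw [LinearMap.pi_apply_eq_sum_univ f v]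
    simp only [dotProduct, smul_eq_mul]
    apply Finset.sum_congr rfl
    intro i _
    rw [mul_comm]
    congr 2
    ext j
    simp [Pi.single_apply, eq_comm]
  refine ⟨(f w)⁻¹ • (fun i => f (Pi.single i 1)), ?_, ?_⟩
  · intro u hu
    rw [smul_dotProduct, ← hf, LinearMap.mem_ker.mp (hW hu), smul_zero]
  · rw [smul_dotProduct, ← hf, smul_eq_mul, inv_mul_cancel₀ hfw]

lemma not_SL_le_subspaceStabilizer (W : Submodule F (Fin n → F)) (h0 : W ≠ ⊥) (h1 : W ≠ ⊤) :
    ¬ specialLinear (Fin n) F ≤ subspaceStabilizer W := by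
  intro hle
  obtain ⟨w, hw, hw0⟩ := Submodule.exists_mem_ne_zero_of_ne_bot h0
  obtain ⟨u, hu⟩ : ∃ u, u ∉ W := by
    by_contra hcon
    push Not at hcon
    exact h1 (eq_top_iff.mpr fun x _ => hcon x)
  have hwu : w ∉ Submodule.span F {u} := by
    intro hmem
    obtain ⟨c, hc⟩ := Submodule.mem_span_singleton.mp hmem
    have hc0 : c ≠ 0 := by
      rintro rfl
      exact hw0 (by rw [← hc, zero_smul])
    apply hu
    have : u = c⁻¹ • w := by rw [← hc, smul_smul, inv_mul_cancel₀ hc0, one_smul]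
    rw [this]
    exact W.smul_mem _ hw
  obtain ⟨φ, hφ0, hφ1⟩ := exists_functional hwu
  have hφu : φ ⬝ᵥ u = 0 := hφ0 u (Submodule.mem_span_singleton_self u)
  have h2 := (mem_subspaceStabilizer_iff.mp (hle (tv_mem_SL u φ hφu)) w).mp hw
  rw [tv_mulVec, hφ1, one_smul] at h2
  exact hu ((W.add_mem_iff_right hw).mp h2)

lemma not_SL_le_decompositionStabilizer (D : Fin n → Submodule F (Fin n → F))
    (hD : IsMDecomposition 1 D) :
    ¬ specialLinear (Fin n) F ≤ decompositionStabilizer D := by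
  intro hle
  have hn := hD.two_le
  let i0 : Fin n := ⟨0, by omega⟩
  let i1 : Fin n := ⟨1, by omega⟩
  have h01 : i0 ≠ i1 := by
    intro h
    have := congrArg Fin.val h
    simp [i0, i1] at this
  have hne : ∀ i, D i ≠ ⊥ := by
    intro i h
    have := hD.finrank_eq i
    rw [h, finrank_bot] at this
    omega
  obtain ⟨d0, hd0, hd00⟩ := Submodule.exists_mem_ne_zero_of_ne_bot (hne i0)
  obtain ⟨d1, hd1, hd10⟩ := Submodule.exists_mem_ne_zero_of_ne_bot (hne i1)
  let W : Submodule F (Fin n → F) := ⨆ j, ⨆ (_ : j ≠ i1), D j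
  have hdisj : Disjoint (D i1) W := hD.indep i1
  have hd1W : d1 ∉ W := by
    intro h
    exact hd10 (Submodule.disjoint_def.mp hdisj d1 hd1 h)
  have hDW : ∀ j, j ≠ i1 → D j ≤ W := fun j hj => le_iSup₂_of_le j hj le_rfl
  obtain ⟨φ, hφ0, hφ1⟩ := exists_functional hd1W
  have hφu : φ ⬝ᵥ d0 = 0 := hφ0 d0 (hDW i0 h01 hd0)
  obtain ⟨σ, hσ⟩ := hle (tv_mem_SL d0 φ hφu)
  have h2 : d1 + d0 ∈ D (σ i1) := by
    rw [← hσ i1]
    refine ⟨d1, hd1, ?_⟩
    rw [Matrix.toLin'_apply, tv_mulVec, hφ1, one_smul]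
  by_cases hj : σ i1 = i1
  · rw [hj] at h2
    have h3 : d0 ∈ D i1 := ((D i1).add_mem_iff_right hd1).mp h2
    exact hd00 (Submodule.disjoint_def.mp hdisj d0 h3 (hDW i0 h01 hd0))
  · have h3 : d1 + d0 ∈ W := hDW _ hj h2
    exact hd1W ((W.add_mem_iff_left (hDW i0 h01 hd0)).mp h3)

/-- no form with the listed properties has all of `SL` as similarities -/
lemma not_SL_similarity (hn : 3 ≤ n) (f : (Fin n → F) → (Fin n → F) → F)
    (hadd : ∀ x y v, f (x + y) v = f x v + f y v) (hnd : IsNondegenerateForm f) :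
    ¬ specialLinear (Fin n) F ≤ similarityGroup f := by
  intro hle
  let u : Fin n → F := Pi.single ⟨0, by omega⟩ 1
  have hu : u ≠ 0 := by
    intro h0
    have := congrFun h0 ⟨0, by omega⟩
    simp [u] at this
  obtain ⟨w, hw⟩ := (hnd u hu).2
  let W : Submodule F (Fin n → F) := Submodule.span F {u, w}
  obtain ⟨v, hv⟩ : ∃ v, v ∉ W := by
    by_contra hcon
    push Not at hcon
    have htop : W = ⊤ := eq_top_iff.mpr fun x _ => hcon x
    have h1 : Module.finrank F W ≤ 2 := by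
      classical
      have h2 : W = Submodule.span F (({u, w} : Finset (Fin n → F)) : Set (Fin n → F)) := by
        simp [W]
      rw [h2]
      exact (finrank_span_finset_le_card _).trans Finset.card_le_two
    rw [htop, finrank_top, Module.finrank_fin_fun] at h1
    omega
  obtain ⟨φ, hφ0, hφ1⟩ := exists_functional hv
  have hφu : φ ⬝ᵥ u = 0 := hφ0 u (Submodule.subset_span (by simp))
  have hφw : φ ⬝ᵥ w = 0 := hφ0 w (Submodule.subset_span (by simp))
  obtain ⟨c, hc⟩ := hle (tv_mem_SL u φ hφu)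
  have h1 := hc u w
  rw [tv_mulVec, tv_mulVec, hφu, hφw, zero_smul, add_zero, add_zero] at h1
  have hc1 : (c : F) = 1 := by
    have : (1 - (c : F)) * f u w = 0 := by rw [sub_mul, one_mul, ← h1, sub_self]
    rcases mul_eq_zero.mp this with h | h
    · exact (sub_eq_zero.mp h).symm
    · exact absurd h hw
  have h2 := hc v w
  rw [tv_mulVec, tv_mulVec, hφ1, hφw, zero_smul, add_zero, one_smul, hadd, hc1, one_mul] at h2
  exact hw (by simpa using h2)

lemma not_SL_le_similarityGroup (hn : 3 ≤ n) (σ : F ≃+* F) (f : (Fin n → F) → (Fin n → F) → F)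
    (hf : IsUnitaryForm σ f) :
    ¬ specialLinear (Fin n) F ≤ similarityGroup f :=
  not_SL_similarity hn f hf.add_left hf.nondegenerate

lemma not_SL_le_quadSimilarityGroup (hn : 3 ≤ n) (Q : (Fin n → F) → F)
    (hQ : IsNondegenerateQuadraticForm Q) :
    ¬ specialLinear (Fin n) F ≤ quadSimilarityGroup Q := by
  intro hle
  apply not_SL_similarity hn (QuadraticMap.polar Q) hQ.polar_bilinear.add_left hQ.nondegenerate
  intro g hg
  obtain ⟨c, hc⟩ := hle hg
  refine ⟨c, fun u v => ?_⟩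
  unfold QuadraticMap.polar
  rw [← Matrix.mulVec_add, hc, hc, hc]
  ring

end Cfsg.Agent.Lib.Helper97AschTransv
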