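import Cfsg.Agent.Lib.Helper95Herm
import Cfsg.Agent.Lib.Helper97AschForms
import Cfsg.Agent.Lib.Helper97AschTransv

set_option autoImplicit false

namespace Cfsg.Agent.Lib.Helper97UBase

open Cfsg Cfsg.Geo Matrix Cfsg.Agent.Lib.Helper97AschBase Cfsg.Agent.Lib.Helper97AschForms
  Cfsg.Agent.Lib.Helper97AschTransv Cfsg.Agent.Lib.Helper95Herm
open scoped MatrixGroups

variable {n : ℕ} {F : Type*} [Field F]

/-- the isometry group of a form -/
def Iso (f : (Fin n → F) → (Fin n → F) → F) : Subgroup (GL (Fin n) F) :=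
  preserving (Units.coeHom (Matrix (Fin n) (Fin n) F)) f

lemma mem_Iso {f : (Fin n → F) → (Fin n → F) → F} {g : GL (Fin n) F} :
    g ∈ Iso f ↔ ∀ u v, f ((g : Matrix (Fin n) (Fin n) F) *ᵥ u) ((g : Matrix (Fin n) (Fin n) F) *ᵥ v) = f u v :=
  Iff.rfl

variable {σ : F ≃+* F} {f : (Fin n → F) → (Fin n → F) → F}

lemma herm_of_unitary (hf : IsUnitaryForm σ f) : Herm (σ : F →+* F) f where
  ne_id := by
    intro h
    apply hf.ne_refl
    ext a
    exact congrArg (fun τ : F →+* F => τ a) h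
  invol := hf.involutive
  add_left := hf.add_left
  smul_left := hf.smul_left
  herm := hf.herm
  nondeg := fun v hv => (hf.nondegenerate v hv).1

lemma fixes_of_le_Iso {P : Subgroup (GL (Fin n) F)} (h : P ≤ Iso f) : FixesForm (matrixSet P) f := by
  rintro _ ⟨x, hx, rfl⟩ u v
  exact h hx u v

/-- the covector of a unitary transvection -/
def uφ (f : (Fin n → F) → (Fin n → F) → F) (u : Fin n → F) (a : F) : Fin n → F :=
  fun i => a * f (Pi.single i 1) u

lemma uφ_dot (hf : IsUnitaryForm σ f) (u : Fin n → F) (a : F) (v : Fin n → F) :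
    uφ f u a ⬝ᵥ v = a * f v u := by
  rw [(sesq_of_unitary hf).left_sum v u, Finset.mul_sum]
  unfold uφ dotProduct
  apply Finset.sum_congr rfl
  intro i _
  ring

/-- unitary transvections -/
def utv (hf : IsUnitaryForm σ f) (u : Fin n → F) (a : F) (hu : f u u = 0) : GL (Fin n) F :=
  tv u (uφ f u a) (by rw [uφ_dot hf, hu, mul_zero])

lemma utv_mulVec (hf : IsUnitaryForm σ f) (u : Fin n → F) (a : F) (hu : f u u = 0) (v : Fin n → F) :
    (utv hf u a hu : Matrix (Fin n) (Fin n) F) *ᵥ v = v + (a * f v u) • u := by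
  unfold utv
  rw [tv_mulVec, uφ_dot hf]

lemma utv_mem (hf : IsUnitaryForm σ f) (u : Fin n → F) (a : F) (hu : f u u = 0) (ha : a + σ a = 0) :
    utv hf u a hu ∈ Iso f ⊓ specialLinear (Fin n) F := by
  refine ⟨?_, tv_mem_SL _ _ _⟩
  intro x y
  have h := herm_of_unitary hf
  show f ((utv hf u a hu : Matrix (Fin n) (Fin n) F) *ᵥ x) ((utv hf u a hu : Matrix (Fin n) (Fin n) F) *ᵥ y) = f x y
  rw [utv_mulVec, utv_mulVec, h.add_left, h.add_right, h.add_right, h.smul_left, h.smul_left,
    h.smul_right, h.smul_right, hu, map_mul]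
  have e : (σ : F →+* F) (f y u) = f u y := (hf.herm u y).symm
  rw [e]
  have ha' : a + (σ : F →+* F) a = 0 := ha
  linear_combination (f x u * f u y) * ha'

lemma exists_finset_span (W : Submodule F (Fin n → F)) :
    ∃ U : Finset (Fin n → F), U.card ≤ Module.finrank F W ∧ Submodule.span F (U : Set (Fin n → F)) = W := by
  classical
  let b := Module.finBasis F W
  refine ⟨Finset.univ.image (fun i => (b i : Fin n → F)), ?_, ?_⟩
  · refine Finset.card_image_le.trans ?_
    simp
  · rw [Finset.coe_image, Finset.coe_univ, Set.image_univ]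
    have h1 : Set.range (fun i => (b i : Fin n → F)) = W.subtype '' Set.range b := by
      rw [← Set.range_comp]; rfl
    rw [h1, Submodule.span_image, b.span_eq, Submodule.map_subtype_top]

lemma perp_span (h : Herm (σ : F →+* F) f) (S : Set (Fin n → F)) :
    h.perp (Submodule.span F S : Set (Fin n → F)) = h.perp S := by
  apply le_antisymm
  · intro x hx u hu
    exact hx u (Submodule.subset_span hu)
  · intro x hx u hu
    induction hu using Submodule.span_induction with
    | mem u hu => exact hx u hu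
    | zero => exact h.zero_right x
    | add a b _ _ ha hb => rw [h.add_right, ha, hb, add_zero]
    | smul c a _ ha => rw [h.smul_right, ha, mul_zero]

lemma finrank_perp_add (h : Herm (σ : F →+* F) f) (W : Submodule F (Fin n → F)) :
    n ≤ Module.finrank F (h.perp (W : Set (Fin n → F))) + Module.finrank F W := by
  obtain ⟨U, hU, hspan⟩ := exists_finset_span W
  have h1 := h.finrank_perp_ge U
  rw [Module.finrank_fin_fun, ← perp_span h, hspan] at h1
  omega

lemma Inv_perp (h : Herm (σ : F →+* F) f) {H : Subgroup (GL (Fin n) F)} (hH : H ≤ Iso f)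
    {W : Submodule F (Fin n → F)} (hW : Inv H W) : Inv H (h.perp (W : Set (Fin n → F))) := by
  intro g hg x hx u hu
  have h1 := hH hg x (((g⁻¹ : GL (Fin n) F) : Matrix (Fin n) (Fin n) F) *ᵥ u)
  have h2 : f ((g : Matrix (Fin n) (Fin n) F) *ᵥ x) ((g : Matrix (Fin n) (Fin n) F) *ᵥ
      (((g⁻¹ : GL (Fin n) F) : Matrix (Fin n) (Fin n) F) *ᵥ u)) =
      f x (((g⁻¹ : GL (Fin n) F) : Matrix (Fin n) (Fin n) F) *ᵥ u) := h1
  rw [mulVec_inv_mulVec] at h2
  rw [h2]
  exact hx _ (hW g⁻¹ (H.inv_mem hg) u hu)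

/-- if `W` meets its orthogonal trivially, they are complementary -/
lemma sup_perp_eq_top (h : Herm (σ : F →+* F) f) {W : Submodule F (Fin n → F)}
    (hW : W ⊓ h.perp (W : Set (Fin n → F)) = ⊥) : W ⊔ h.perp (W : Set (Fin n → F)) = ⊤ := by
  apply Submodule.eq_top_of_finrank_eq
  have h1 := Submodule.finrank_sup_add_finrank_inf_eq W (h.perp (W : Set (Fin n → F)))
  rw [hW, finrank_bot, add_zero] at h1
  have h2 := finrank_perp_add h W
  have h3 := Submodule.finrank_le (W ⊔ h.perp (W : Set (Fin n → F)))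
  rw [Module.finrank_fin_fun] at h3 ⊢
  omega

lemma nondegOn_of_inf_eq_bot (h : Herm (σ : F →+* F) f) {W : Submodule F (Fin n → F)}
    (hW : W ⊓ h.perp (W : Set (Fin n → F)) = ⊥) : IsNondegenerateOn f W := by
  intro w hw hw0
  have key : ∃ x ∈ W, f w x ≠ 0 := by
    by_contra hcon
    push Not at hcon
    apply hw0
    have : w ∈ W ⊓ h.perp (W : Set (Fin n → F)) := ⟨hw, fun u hu => hcon u hu⟩
    rw [hW] at this
    exact this
  obtain ⟨x, hx, hxw⟩ := key
  exact ⟨⟨x, hx, h.swap_ne hxw⟩, ⟨x, hx, hxw⟩⟩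

lemma inf_perp_eq_bot_of_nondegOn (h : Herm (σ : F →+* F) f) {W : Submodule F (Fin n → F)}
    (hW : IsNondegenerateOn f W) : W ⊓ h.perp (W : Set (Fin n → F)) = ⊥ := by
  rw [eq_bot_iff]
  rintro w ⟨hw, hw'⟩
  by_contra hw0
  obtain ⟨x, hx, hxw⟩ := (hW w hw hw0).2
  exact hxw (hw' x hx)

/-- the orthogonal of a non-degenerate subspace is non-degenerate -/
lemma perp_inf_perp_perp (h : Herm (σ : F →+* F) f) {W : Submodule F (Fin n → F)}
    (hW : W ⊓ h.perp (W : Set (Fin n → F)) = ⊥) :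
    h.perp (W : Set (Fin n → F)) ⊓ h.perp (h.perp (W : Set (Fin n → F)) : Set (Fin n → F)) = ⊥ := by
  rw [eq_bot_iff]
  rintro y ⟨hy1, hy2⟩
  by_contra hy0
  obtain ⟨x, hx⟩ := h.nondeg y hy0
  apply hx
  have hx' : x ∈ W ⊔ h.perp (W : Set (Fin n → F)) := by rw [sup_perp_eq_top h hW]; trivial
  obtain ⟨a, ha, b, hb, rfl⟩ := Submodule.mem_sup.mp hx'
  rw [h.add_left, h.swap_zero (hy1 a ha), h.swap_zero (hy2 b hb), add_zero]

/-- the reducible case -/
lemma reducible_case (hf : IsUnitaryForm σ f) (hodd : Odd n) {H : Subgroup (GL (Fin n) F)}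
    (hH : H ≤ Iso f) {W : Submodule F (Fin n → F)} (hW : Inv H W) (h0 : W ≠ ⊥) (h1 : W ≠ ⊤) :
    (∃ U : Submodule F (Fin n → F), U ≠ ⊥ ∧ IsTotallySingularFor f U ∧ H ≤ subspaceStabilizer U) ∨
    (∃ U : Submodule F (Fin n → F), U ≠ ⊥ ∧ U ≠ ⊤ ∧ IsNondegenerateOn f U ∧
      2 * Module.finrank F U < n ∧ H ≤ subspaceStabilizer U) := by
  have h := herm_of_unitary hf
  have hWp := Inv_perp h hH hW
  by_cases hU : W ⊓ h.perp (W : Set (Fin n → F)) = ⊥
  · right
    have htop := sup_perp_eq_top h hU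
    have hd := Submodule.finrank_sup_add_finrank_inf_eq W (h.perp (W : Set (Fin n → F)))
    rw [hU, htop, finrank_bot, add_zero, finrank_top, Module.finrank_fin_fun] at hd
    by_cases hlt : 2 * Module.finrank F W < n
    · exact ⟨W, h0, h1, nondegOn_of_inf_eq_bot h hU, hlt, le_subspaceStabilizer_of_Inv hW⟩
    · have hWpos : 0 < Module.finrank F W := Submodule.one_le_finrank_iff.mpr h0
      have hWlt : Module.finrank F W < n := by
        have := Submodule.finrank_lt h1
        rwa [Module.finrank_fin_fun] at this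
      refine ⟨h.perp (W : Set (Fin n → F)), ?_, ?_, nondegOn_of_inf_eq_bot h (perp_inf_perp_perp h hU),
        ?_, le_subspaceStabilizer_of_Inv hWp⟩
      · intro hb
        rw [hb, finrank_bot] at hd
        omega
      · intro ht
        rw [ht, finrank_top, Module.finrank_fin_fun] at hd
        omega
      · obtain ⟨k, hk⟩ := hodd
        omega
  · left
    refine ⟨W ⊓ h.perp (W : Set (Fin n → F)), hU, ?_, le_subspaceStabilizer_of_Inv ?_⟩
    · rintro u ⟨_, hu⟩ v ⟨hv, _⟩
      exact hu v hv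
    · intro g hg x hx
      exact ⟨hW g hg x hx.1, hWp g hg x hx.2⟩

end Cfsg.Agent.Lib.Helper97UBase
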