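import Mathlib
import Cfsg.Agent.Lib.Helper62U5a
import Cfsg.Agent.Lib.Helper97UBase

set_option autoImplicit false

/-! A proper subgroup of `SU_5(2)` containing `11 : 5` properly (piece `field52b` of the unitary
Aschbacher project). Also: matrix criterion for unitary matrices in characteristic 2 and transport of
the unitary group along field isomorphisms. -/

namespace Cfsg.Agent.Lib.Helper62U5b

open Matrix Cfsg Cfsg.Geo Cfsg.Agent.Lib.Helper62F4 Cfsg.Agent.Lib.Helper62U5a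
  Cfsg.Agent.Lib.Helper97UBase
open scoped MatrixGroups

section general

variable {n : ℕ} {K : Type*} [Field K] [CharP K 2]

/-- entrywise square -/
def sqm (M : Matrix (Fin n) (Fin n) K) : Matrix (Fin n) (Fin n) K := M.map (fun x => x ^ 2)

omit [CharP K 2] in
theorem herm_eq (u v : Fin n → K) : Cfsg.hermForm n K 2 u v = u ⬝ᵥ (fun i => v i ^ 2) := rfl

theorem sqm_mulVec (M : Matrix (Fin n) (Fin n) K) (v : Fin n → K) :
    (fun i => (M *ᵥ v) i ^ 2) = sqm M *ᵥ (fun i => v i ^ 2) := by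
  have : Fact (Nat.Prime 2) := ⟨by norm_num⟩
  funext i
  simp only [Matrix.mulVec, dotProduct, sqm, Matrix.map_apply]
  rw [sum_pow_char]
  simp [mul_pow]

/-- matrix criterion for isometries of the standard hermitian form in characteristic 2 -/
theorem mem_Iso_iff (g : GL (Fin n) K) :
    g ∈ Iso (Cfsg.hermForm n K 2) ↔ (g.1)ᵀ * sqm g.1 = 1 := by
  rw [mem_Iso]
  constructor
  · intro h'
    ext j k
    have := h' (Pi.single j 1) (Pi.single k 1)
    rw [herm_eq, herm_eq, sqm_mulVec, Matrix.dotProduct_mulVec, Matrix.vecMul_mulVec] at this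
    have hs : (fun i => (Pi.single k (1 : K) : Fin n → K) i ^ 2) = Pi.single k 1 := by
      funext i
      by_cases hik : i = k
      · subst hik; simp
      · simp [Pi.single_eq_of_ne hik]
    rw [hs] at this
    simp only [dotProduct_single, mul_one, Matrix.single_one_vecMul] at this
    rw [Matrix.one_apply]
    rw [Pi.single_apply] at this
    simpa [eq_comm] using this
  · intro h u v
    rw [herm_eq, herm_eq, sqm_mulVec, Matrix.dotProduct_mulVec, Matrix.vecMul_mulVec, h,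
      Matrix.vecMul_one]

variable {K' : Type*} [Field K'] [CharP K' 2]

omit [CharP K 2] [CharP K' 2] in
theorem sqm_map (e : K ≃+* K') (M : Matrix (Fin n) (Fin n) K) :
    sqm (M.map e) = (sqm M).map e := by
  ext i j
  simp [sqm]

omit [CharP K 2] [CharP K' 2] in
/-- the isomorphism of general linear groups induced by a field isomorphism -/
def glEquiv (e : K ≃+* K') : GL (Fin n) K ≃* GL (Fin n) K' :=
  Units.mapEquiv (RingEquiv.mapMatrix e (m := Fin n)).toMulEquiv

omit [CharP K 2] [CharP K' 2] in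
theorem glEquiv_coe (e : K ≃+* K') (g : GL (Fin n) K) : (glEquiv e g).1 = g.1.map e := rfl

theorem mem_Iso_map (e : K ≃+* K') (g : GL (Fin n) K) :
    glEquiv e g ∈ Iso (Cfsg.hermForm n K' 2) ↔ g ∈ Iso (Cfsg.hermForm n K 2) := by
  rw [mem_Iso_iff, mem_Iso_iff, glEquiv_coe, sqm_map, ← Matrix.transpose_map, ← Matrix.map_mul]
  constructor
  · intro h
    apply Matrix.map_injective e.injective
    show ((g.1)ᵀ * sqm g.1).map e = (1 : Matrix (Fin n) (Fin n) K).map e
    rw [h]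
    simp
  · intro h
    rw [h]
    simp

omit [CharP K 2] in
theorem mem_SL_iff (g : GL (Fin n) K) : g ∈ specialLinear (Fin n) K ↔ g.1.det = 1 := by
  unfold specialLinear
  rw [MonoidHom.mem_ker, Units.ext_iff]
  rfl

omit [CharP K 2] [CharP K' 2] in
theorem mem_SL_map (e : K ≃+* K') (g : GL (Fin n) K) :
    glEquiv e g ∈ specialLinear (Fin n) K' ↔ g ∈ specialLinear (Fin n) K := by
  rw [mem_SL_iff, mem_SL_iff, glEquiv_coe]
  have : (g.1.map e).det = e g.1.det := by
    exact (RingHom.map_det (e : K →+* K') g.1).symm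
  rw [this]
  constructor
  · intro h
    apply e.injective
    rw [h, map_one]
  · intro h
    rw [h, map_one]

/-- the special unitary group is transported by a field isomorphism -/
theorem map_SU (e : K ≃+* K') :
    (Iso (Cfsg.hermForm n K 2) ⊓ specialLinear (Fin n) K).map (glEquiv e).toMonoidHom =
      Iso (Cfsg.hermForm n K' 2) ⊓ specialLinear (Fin n) K' := by
  ext x
  constructor
  · rintro ⟨g, ⟨h1, h2⟩, rfl⟩
    exact ⟨(mem_Iso_map e g).2 h1, (mem_SL_map e g).2 h2⟩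
  · rintro ⟨h1, h2⟩
    refine ⟨(glEquiv e).symm x, ⟨?_, ?_⟩, ?_⟩
    · have h1' : x ∈ Iso (Cfsg.hermForm n K' 2) := h1
      show (glEquiv e).symm x ∈ Iso (Cfsg.hermForm n K 2)
      rw [← mem_Iso_map e]
      simpa using h1'
    · have h2' : x ∈ specialLinear (Fin n) K' := h2
      show (glEquiv e).symm x ∈ specialLinear (Fin n) K
      rw [← mem_SL_map e]
      simpa using h2'
    · simp

end general

/-- unitary matrices as elements of the general linear group -/
def mkU (M : M5) (h : mul5 M.transpose (sq5 M) = 1) : GL (Fin 5) K where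
  val := M
  inv := (sq5 M).transpose
  val_inv := by
    rw [mul_eq_one_comm]
    have := congrArg Matrix.transpose h
    rw [← mul5_eq, Matrix.transpose_mul, Matrix.transpose_transpose, Matrix.transpose_one] at this
    exact this
  inv_val := by
    have := congrArg Matrix.transpose h
    rw [← mul5_eq, Matrix.transpose_mul, Matrix.transpose_transpose, Matrix.transpose_one] at this
    exact this

theorem sq5_eq (M : M5) : sq5 M = sqm M := by
  ext a b
  simp [sq5, sqm, fm_eq, pow_two]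

theorem mkU_mem_Iso (M : M5) (h : mul5 M.transpose (sq5 M) = 1) :
    mkU M h ∈ Iso (Cfsg.hermForm 5 K 2) := by
  rw [mem_Iso_iff]
  show Mᵀ * sqm M = 1
  rw [← sq5_eq, mul5_eq]
  exact h

theorem card_units : Fintype.card Kˣ = 3 := by
  rw [Fintype.card_units, card_F4]

/-- elements of order prime to 3 have determinant 1 -/
theorem mem_SL_of_pow (x : GL (Fin 5) K) (k : ℕ) (hk : Nat.Coprime k 3) (h : x ^ k = 1) :
    x ∈ specialLinear (Fin 5) K := by
  unfold specialLinear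
  rw [MonoidHom.mem_ker]
  set d := Matrix.GeneralLinearGroup.det x with hd
  have h1 : d ^ k = 1 := by rw [hd, ← map_pow, h, map_one]
  have h2 : d ^ 3 = 1 := by rw [← card_units]; exact pow_card_eq_one
  have := pow_gcd_eq_one.2 ⟨h1, h2⟩
  rwa [hk.gcd_eq_one, pow_one] at this

/-- the stabiliser of the invariant set -/
def stab : Subgroup (GL (Fin 5) K) where
  carrier := {x | ∀ v, inD (x.1 *ᵥ v) = inD v}
  one_mem' := by intro v; simp
  mul_mem' := by
    intro a b ha hb v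
    rw [Units.val_mul, ← Matrix.mulVec_mulVec, ha, hb]
  inv_mem' := by
    intro a ha v
    have := ha ((a⁻¹).1 *ᵥ v)
    rw [Matrix.mulVec_mulVec, ← Units.val_mul, mul_inv_cancel, Units.val_one,
      Matrix.one_mulVec] at this
    exact this.symm

/-- the element of order 11 -/
def G0 : GL (Fin 5) K := mkU g uni_g
/-- the element of order 5 -/
def P0 : GL (Fin 5) K := mkU p uni_p
/-- the involution -/
def T0 : GL (Fin 5) K := mkU t uni_t
/-- an element outside -/
def S0 : GL (Fin 5) K := mkU s uni_s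

theorem g_pow4 : g ^ 4 = g4 := by
  rw [show 4 = 2 + 2 from rfl, pow_add, pow_two, g2_eq, g4_eq]

theorem g_pow11 : g ^ 11 = 1 := by
  have h2 : g ^ 2 = g2 := by rw [pow_two, g2_eq]
  have h8 : g ^ 8 = g8 := by rw [show 8 = 4 + 4 from rfl, pow_add, g_pow4, g8_eq]
  calc g ^ 11 = g ^ 8 * g ^ 2 * g := by rw [← pow_add, ← pow_succ]
    _ = 1 := by rw [h8, h2, g10_eq, g11_eq]

theorem p_pow5 : p ^ 5 = 1 := by
  have h4 : p ^ 4 = p4 := by rw [show 4 = 2 + 2 from rfl, pow_add, pow_two, p2_eq, p4_eq]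
  rw [pow_succ, h4, p5_eq]

theorem G0_pow : G0 ^ 11 = 1 := Units.ext (by rw [Units.val_pow_eq_pow_val]; exact g_pow11)
theorem P0_pow : P0 ^ 5 = 1 := Units.ext (by rw [Units.val_pow_eq_pow_val]; exact p_pow5)
theorem T0_pow : T0 ^ 2 = 1 := Units.ext (by rw [Units.val_pow_eq_pow_val, pow_two]; exact t2_eq)
theorem S0_pow : S0 ^ 2 = 1 := Units.ext (by rw [Units.val_pow_eq_pow_val, pow_two]; exact s2_eq)

theorem order_G0 : orderOf G0 = 11 := by
  have : Fact (Nat.Prime 11) := ⟨by norm_num⟩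
  exact orderOf_eq_prime G0_pow (fun h => g_ne (congrArg Units.val h))

theorem order_P0 : orderOf P0 = 5 := by
  have : Fact (Nat.Prime 5) := ⟨by norm_num⟩
  exact orderOf_eq_prime P0_pow (fun h => p_ne (congrArg Units.val h))

theorem l211_model :
    ∃ (L : Subgroup (GL (Fin 5) K)) (g₀ φ₀ t₀ : GL (Fin 5) K),
      L < Iso (hermForm 5 K 2) ⊓ specialLinear (Fin 5) K ∧ g₀ ∈ L ∧ φ₀ ∈ L ∧ t₀ ∈ L ∧
      orderOf g₀ = 11 ∧ orderOf φ₀ = 5 ∧ φ₀ * g₀ * φ₀⁻¹ ∈ Subgroup.zpowers g₀ ∧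
      t₀ * g₀ * t₀⁻¹ ∉ Subgroup.zpowers g₀ := by
  refine ⟨(Iso (hermForm 5 K 2) ⊓ specialLinear (Fin 5) K) ⊓ stab, G0, P0, T0, ?_, ?_, ?_, ?_,
    order_G0, order_P0, ?_, ?_⟩
  · refine lt_of_le_of_ne inf_le_left ?_
    intro h
    have h1 : S0 ∈ Iso (hermForm 5 K 2) ⊓ specialLinear (Fin 5) K :=
      ⟨mkU_mem_Iso _ _, mem_SL_of_pow _ 2 (by norm_num) S0_pow⟩
    rw [← h] at h1
    exact not_pres_s (h1.2 _)
  · exact ⟨⟨mkU_mem_Iso _ _, mem_SL_of_pow _ 11 (by norm_num) G0_pow⟩, fun v => pres_g.inD v⟩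
  · exact ⟨⟨mkU_mem_Iso _ _, mem_SL_of_pow _ 5 (by norm_num) P0_pow⟩, fun v => pres_p.inD v⟩
  · exact ⟨⟨mkU_mem_Iso _ _, mem_SL_of_pow _ 2 (by norm_num) T0_pow⟩, fun v => pres_t.inD v⟩
  · rw [Subgroup.mem_zpowers_iff]
    refine ⟨4, ?_⟩
    rw [eq_mul_inv_iff_mul_eq]
    apply Units.ext
    show (G0 ^ (4 : ℤ) * P0).1 = (P0 * G0).1
    rw [zpow_ofNat, Units.val_mul, Units.val_mul, Units.val_pow_eq_pow_val]
    show g ^ 4 * p = p * g
    rw [g_pow4, gp_eq, pg_eq]
  · intro h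
    obtain ⟨k, hk⟩ := Subgroup.mem_zpowers_iff.1 h
    have hc : Commute (T0 * G0 * T0⁻¹) G0 := by
      rw [← hk]
      exact (Commute.refl G0).zpow_left k
    have hT : T0⁻¹ = T0 := by
      rw [inv_eq_iff_mul_eq_one, ← pow_two, T0_pow]
    rw [hT] at hc
    have := congrArg Units.val hc.eq
    have h2 : t * g * t * g = g * (t * g * t) := this
    rw [tg_eq, tgt_eq, c1_eq, c2_eq] at h2
    exact c_ne h2

/-- [field52b] `L_2(11) < SU_5(2)`, explicitly. -/
theorem l211 {F : Type*} [Field F] [Fintype F] (hF : Fintype.card F = 4) :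
    ∃ (L : Subgroup (GL (Fin 5) F)) (g₀ φ₀ t₀ : GL (Fin 5) F),
      L < Iso (hermForm 5 F 2) ⊓ specialLinear (Fin 5) F ∧ g₀ ∈ L ∧ φ₀ ∈ L ∧ t₀ ∈ L ∧
      orderOf g₀ = 11 ∧ orderOf φ₀ = 5 ∧ φ₀ * g₀ * φ₀⁻¹ ∈ Subgroup.zpowers g₀ ∧
      t₀ * g₀ * t₀⁻¹ ∉ Subgroup.zpowers g₀ := by
  have : CharP F 2 := charP_of_card hF
  obtain ⟨L, g₀, φ₀, t₀, hL, h1, h2, h3, h4, h5, h6, h7⟩ := l211_model
  set Φ : GL (Fin 5) K ≃* GL (Fin 5) F := glEquiv (equivF4 hF).symm with hΦ
  have hinj : Function.Injective Φ.toMonoidHom := Φ.injective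
  have hz : ∀ x : GL (Fin 5) K, Subgroup.zpowers (Φ x) = (Subgroup.zpowers x).map Φ.toMonoidHom := by
    intro x
    rw [MonoidHom.map_zpowers]
    rfl
  refine ⟨L.map Φ.toMonoidHom, Φ g₀, Φ φ₀, Φ t₀, ?_, ⟨_, h1, rfl⟩, ⟨_, h2, rfl⟩, ⟨_, h3, rfl⟩, ?_, ?_,
    ?_, ?_⟩
  · rw [← map_SU (equivF4 hF).symm]
    exact (Subgroup.map_lt_map_iff_of_injective hinj).2 hL
  · rw [MulEquiv.orderOf_eq, h4]
  · rw [MulEquiv.orderOf_eq, h5]
  · rw [hz, ← map_inv, ← map_mul, ← map_mul]
    exact ⟨_, h6, rfl⟩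
  · rw [hz, ← map_inv, ← map_mul, ← map_mul]
    intro h
    exact h7 ((Subgroup.mem_map_iff_mem hinj).1 h)

end Cfsg.Agent.Lib.Helper62U5b
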