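import Mathlib

set_option autoImplicit false

/-! Subgroups of order 11 of a subgroup of `GL_5(4)` are conjugate (piece `field52s` of the unitary
Aschbacher project). -/

namespace Cfsg.Agent.Lib.Helper62U5s

open scoped MatrixGroups

/-- if `p` divides the group order exactly once, any two subgroups of order `p` are conjugate -/
theorem exists_conj_mem {G : Type*} [Group G] [Finite G] (p : ℕ) [Fact p.Prime]
    (hp : (Nat.card G).factorization p = 1) (x0 g : G) (hx0 : orderOf x0 = p)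
    (hg : orderOf g = p) : ∃ h : G, h * g * h⁻¹ ∈ Subgroup.zpowers x0 := by
  have key : ∀ y : G, orderOf y = p → ∃ S : Sylow p G, (S : Subgroup G) = Subgroup.zpowers y := by
    intro y hy
    have h1 : IsPGroup p (Subgroup.zpowers y) :=
      IsPGroup.of_card (n := 1) (by rw [Nat.card_zpowers, hy, pow_one])
    obtain ⟨S, hS⟩ := h1.exists_le_sylow
    refine ⟨S, ?_⟩
    symm
    apply Subgroup.eq_of_le_of_card_ge hS
    rw [Sylow.card_eq_multiplicity, hp, pow_one, Nat.card_zpowers, hy]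
  obtain ⟨S, hS⟩ := key g hg
  obtain ⟨S0, hS0⟩ := key x0 hx0
  obtain ⟨h, hh⟩ := MulAction.exists_smul_eq G S S0
  refine ⟨h, ?_⟩
  rw [← hS0, ← hh, Sylow.smul_def, Sylow.pointwise_smul_def]
  have : g ∈ (S : Subgroup G) := by rw [hS]; exact Subgroup.mem_zpowers _
  exact Subgroup.smul_mem_pointwise_smul _ (MulAut.conj h) _ this

theorem fact_eq_one {n p : ℕ} (hp : p.Prime) (hn : n ≠ 0) (h1 : p ∣ n) (h2 : ¬ p ^ 2 ∣ n) :
    n.factorization p = 1 := by
  have a1 : 1 ≤ n.factorization p := (hp.pow_dvd_iff_le_factorization hn).1 (by simpa using h1)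
  have a2 : ¬ 2 ≤ n.factorization p := fun h => h2 ((hp.pow_dvd_iff_le_factorization hn).2 h)
  omega

/-- [field52s] Sylow: `121 ∤ |GL_5(4)|`, so the subgroups of order 11 of `G` are its Sylow
11-subgroups. -/
theorem conj_eleven {F : Type*} [Field F] [Fintype F] (hF : Fintype.card F = 4)
    (G : Subgroup (GL (Fin 5) F))
    {g g₀ : GL (Fin 5) F} (hg : g ∈ G) (hg₀ : g₀ ∈ G) (h1 : orderOf g = 11) (h2 : orderOf g₀ = 11) :
    ∃ x ∈ G, x * g₀ * x⁻¹ ∈ Subgroup.zpowers g := by
  have : Fact (Nat.Prime 11) := ⟨by norm_num⟩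
  have hcard : Nat.card (GL (Fin 5) F) = 1023 * 1020 * 1008 * 960 * 768 := by
    rw [Matrix.card_GL_field, hF]
    simp [Fin.prod_univ_five]
  have hdvd : Nat.card G ∣ 1023 * 1020 * 1008 * 960 * 768 := by
    rw [← hcard]; exact Subgroup.card_subgroup_dvd_card G
  have o1 : orderOf (⟨g, hg⟩ : G) = 11 := by rw [← h1]; exact Subgroup.orderOf_mk g hg
  have o2 : orderOf (⟨g₀, hg₀⟩ : G) = 11 := by rw [← h2]; exact Subgroup.orderOf_mk g₀ hg₀
  have hfac : (Nat.card G).factorization 11 = 1 := by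
    apply fact_eq_one (by norm_num) Nat.card_pos.ne'
    · rw [← o1]; exact orderOf_dvd_natCard _
    · intro h
      have := h.trans hdvd
      norm_num at this
  obtain ⟨x, hx⟩ := exists_conj_mem 11 hfac (⟨g, hg⟩ : G) ⟨g₀, hg₀⟩ o1 o2
  refine ⟨x.1, x.2, ?_⟩
  obtain ⟨k, hk⟩ := Subgroup.mem_zpowers_iff.1 hx
  rw [Subgroup.mem_zpowers_iff]
  refine ⟨k, ?_⟩
  have := congrArg Subtype.val hk
  simpa using this

end Cfsg.Agent.Lib.Helper62U5s
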