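import Cfsg.Agent.Lib.Helper52BGDefs
import Cfsg.Agent.Lib.Helper3AutOdd

set_option autoImplicit false
open Cfsg

/-! PROJECT 6 = BG-9.6, piece P2. -/

namespace Cfsg.Agent.Lib.Helper63BGP2

open Subgroup
open Cfsg.Agent.Lib.Helper30Trans
open Cfsg.Agent.Lib.Helper24BG
open Cfsg.Agent.Lib.Helper52BGDefs

universe u
variable {G : Type u} [Group G] [Finite G] {p : ℕ} [Fact p.Prime]

/-- a `p`-group of automorphisms of a nontrivial `p`-group has a nontrivial fixed point -/
lemma exists_fixed {V : Type*} [Group V] [Finite V] [Nontrivial V] (hV : IsPGroup p V)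
    (T : Subgroup (MulAut V)) (hT : IsPGroup p T) : ∃ v : V, v ≠ 1 ∧ ∀ t ∈ T, t v = v := by
  classical
  have hp : p.Prime := Fact.out
  have h1 := hT.card_modEq_card_fixedPoints V
  have hpV : p ∣ Nat.card V := by
    obtain ⟨n, hn⟩ := IsPGroup.iff_card.1 hV
    have hn0 : n ≠ 0 := by
      rintro rfl
      rw [pow_zero] at hn
      have := Finite.one_lt_card (α := V)
      omega
    rw [hn]
    exact dvd_pow_self p hn0
  have h2 : p ∣ Nat.card (MulAction.fixedPoints T V) := by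
    exact (Nat.modEq_zero_iff_dvd.1 (h1.symm.trans (Nat.modEq_zero_iff_dvd.2 hpV)))
  have h3 : (1 : V) ∈ MulAction.fixedPoints T V := by
    intro t
    exact map_one (t : MulAut V)
  have h4 : 1 < Nat.card (MulAction.fixedPoints T V) := by
    have hpos : 0 < Nat.card (MulAction.fixedPoints T V) := by
      haveI : Nonempty (MulAction.fixedPoints T V) := ⟨⟨1, h3⟩⟩
      exact Nat.card_pos
    exact lt_of_lt_of_le hp.one_lt (Nat.le_of_dvd hpos h2)
  haveI : Nontrivial (MulAction.fixedPoints T V) := Finite.one_lt_card_iff_nontrivial.1 h4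
  obtain ⟨v, hv⟩ := exists_ne (⟨1, h3⟩ : MulAction.fixedPoints T V)
  refine ⟨v, fun h => hv (Subtype.ext h), fun t ht => v.2 ⟨t, ht⟩⟩

/-! ## Piece P2 : a normal subgroup inside `Z(P)` -/
theorem exists_normal_le_center (hp2 : p ≠ 2) {X P V : Subgroup G} (hXs : Group.IsSolvable X)
    (hXodd : Odd (Nat.card X)) (hPp : IsPGroup p P) (hPX : P ≤ X) (hVP : V ≤ P) (hV1 : V ≠ ⊥)
    (hXV : X ≤ normalizer (V : Set G)) (hr : PRankLE p 2 V) :
    ∃ Y : Subgroup G, Y ≠ ⊥ ∧ Y ≤ V ∧ X ≤ normalizer (Y : Set G) ∧ Y ≤ centralizer (P : Set G) := by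
  have hp : p.Prime := Fact.out
  have hVp : IsPGroup p V := hPp.to_le hVP
  haveI : Nontrivial V := (Subgroup.nontrivial_iff_ne_bot V).2 hV1
  obtain ⟨ρ, hρ⟩ : ∃ ρ : X →* MulAut V, ρ = Cfsg.Agent.Lib.Helper3AutOdd.conjHom V X hXV := ⟨_, rfl⟩
  -- the image of the commutator subgroup is a `p`-group
  have hK : IsPGroup p ((commutator X).map ρ) := by
    rintro ⟨_, t, ht, rfl⟩
    refine ⟨(orderOf t).factorization p, Subtype.ext ?_⟩
    have hpos : orderOf t ≠ 0 := (orderOf_pos t).ne'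
    have hmem : t ^ (p ^ (orderOf t).factorization p) ∈ commutator X := Subgroup.pow_mem _ ht _
    have hord : orderOf (t ^ (p ^ (orderOf t).factorization p)) =
        orderOf t / p ^ (orderOf t).factorization p :=
      orderOf_pow_of_dvd (pow_ne_zero _ hp.ne_zero) (Nat.ordProj_dvd _ _)
    have hcop : (orderOf (t ^ (p ^ (orderOf t).factorization p))).Coprime p := by
      rw [hord]
      exact (Nat.coprime_ordCompl hp hpos).symm
    have h1 := Cfsg.Agent.Lib.Helper3AutOdd.aut_rank hp2 hVp hr hXodd ρ _ hmem hcop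
    show (ρ t) ^ (p ^ (orderOf t).factorization p) = 1
    rw [← map_pow, h1]
  have hH : IsPGroup p ((P.subgroupOf X).map ρ) := by
    have : IsPGroup p (P.subgroupOf X) := hPp.comap_subtype
    exact this.map ρ
  have hHK : (P.subgroupOf X).map ρ ≤ normalizer (((commutator X).map ρ : Subgroup (MulAut V)) : Set (MulAut V)) := by
    rintro _ ⟨g, -, rfl⟩
    rw [Subgroup.mem_normalizer_iff]
    intro h
    constructor
    · rintro ⟨t, ht, rfl⟩
      exact ⟨g * t * g⁻¹, (inferInstance : (commutator X).Normal).conj_mem t ht g, by simp⟩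
    · rintro ⟨t, ht, hte⟩
      refine ⟨g⁻¹ * t * g, ?_, ?_⟩
      · have := (inferInstance : (commutator X).Normal).conj_mem t ht g⁻¹
        simpa using this
      · rw [map_mul, map_mul, hte, map_inv]
        group
  have hT := IsPGroup.to_sup_of_normal_right' hH hK hHK
  obtain ⟨v, hv1, hv⟩ := exists_fixed hVp _ hT
  -- elements of `P` and of `⁅X, X⁆` commute with `v`
  have hfix : ∀ x : X, ρ x v = v → (x : G) * v = v * x := by
    intro x hx
    have h2 := congrArg (Subtype.val) hx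
    rw [hρ, Cfsg.Agent.Lib.Helper3AutOdd.conjHom_apply] at h2
    calc (x : G) * v = ((x : G) * v * (x : G)⁻¹) * x := by group
      _ = v * x := by rw [h2]
  have hvW : (v : G) ∈ centralizer ((P ⊔ ⁅X, X⁆ : Subgroup G) : Set G) := by
    have hle : P ⊔ ⁅X, X⁆ ≤ centralizer ({(v : G)} : Set G) := by
      rw [sup_le_iff]
      constructor
      · intro g hg
        rw [Subgroup.mem_centralizer_singleton_iff]
        exact hfix ⟨g, hPX hg⟩ (hv _ (Subgroup.mem_sup_left ⟨⟨g, hPX hg⟩, hg, rfl⟩))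
      · intro g hg
        rw [← Subgroup.map_subtype_commutator] at hg
        obtain ⟨t, ht, rfl⟩ := hg
        rw [Subgroup.mem_centralizer_singleton_iff]
        exact hfix t (hv _ (Subgroup.mem_sup_right ⟨t, ht, rfl⟩))
    rw [Subgroup.mem_centralizer_iff]
    intro w hw
    have := hle hw
    rw [Subgroup.mem_centralizer_singleton_iff] at this
    exact this
  have hWX : P ⊔ ⁅X, X⁆ ≤ X := sup_le hPX (Subgroup.commutator_le_self X)
  -- conjugation
  have hconj : ∀ x ∈ X, ∀ y ∈ V ⊓ centralizer ((P ⊔ ⁅X, X⁆ : Subgroup G) : Set G),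
      x * y * x⁻¹ ∈ V ⊓ centralizer ((P ⊔ ⁅X, X⁆ : Subgroup G) : Set G) := by
    intro x hx y hy
    refine ⟨(Subgroup.mem_normalizer_iff.1 (hXV hx) y).1 hy.1, ?_⟩
    show x * y * x⁻¹ ∈ centralizer ((P ⊔ ⁅X, X⁆ : Subgroup G) : Set G)
    rw [Subgroup.mem_centralizer_iff]
    intro w hw
    have hw' : x⁻¹ * w * x ∈ P ⊔ ⁅X, X⁆ := by
      have h1 : x⁻¹ * w * x = w * (w⁻¹ * x⁻¹ * w⁻¹⁻¹ * x⁻¹⁻¹) := by
        group
      rw [h1]
      have h5 := Subgroup.commutator_mem_commutator (X.inv_mem (hWX hw)) (X.inv_mem hx)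
      rw [commutatorElement_def] at h5
      exact Subgroup.mul_mem _ hw (Subgroup.mem_sup_right h5)
    have h2 := (Subgroup.mem_centralizer_iff.1 hy.2) _ hw'
    calc w * (x * y * x⁻¹) = x * ((x⁻¹ * w * x) * y) * x⁻¹ := by group
      _ = x * (y * (x⁻¹ * w * x)) * x⁻¹ := by rw [h2]
      _ = x * y * x⁻¹ * w := by group
  refine ⟨V ⊓ centralizer ((P ⊔ ⁅X, X⁆ : Subgroup G) : Set G), ?_, inf_le_left, ?_, ?_⟩
  · intro h
    have : (v : G) ∈ V ⊓ centralizer ((P ⊔ ⁅X, X⁆ : Subgroup G) : Set G) := ⟨v.2, hvW⟩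
    rw [h, Subgroup.mem_bot] at this
    exact hv1 (Subtype.ext this)
  · intro x hx
    rw [Subgroup.mem_normalizer_iff]
    intro y
    refine ⟨hconj x hx y, fun h => ?_⟩
    have := hconj x⁻¹ (X.inv_mem hx) _ h
    have h3 : x⁻¹ * (x * y * x⁻¹) * x⁻¹⁻¹ = y := by group
    rwa [h3] at this
  · exact inf_le_right.trans (Subgroup.centralizer_le (by
      intro g hg
      exact Subgroup.mem_sup_left hg))

end Cfsg.Agent.Lib.Helper63BGP2
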