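import Mathlib

set_option autoImplicit false
set_option linter.style.haveILetI false
set_option linter.unusedSectionVars false

namespace Cfsg.Agent.Lib.Helper63Cen

/-- In a non-trivial finite group with trivial centre, two non-identity elements have centralizers
of different orders. -/
theorem two_cent {A : Type*} [Group A] [Finite A] [Nontrivial A]
    (hZ : ∀ z : A, (∀ a, a * z = z * a) → z = 1) :
    ∃ a b : A, a ≠ 1 ∧ b ≠ 1 ∧
      Nat.card {x : A // Commute a x} ≠ Nat.card {x : A // Commute b x} := by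
  classical
  by_contra hcon
  push Not at hcon
  haveI := Fintype.ofFinite A
  obtain ⟨a₀, ha₀⟩ := exists_ne (1 : A)
  set c := Nat.card {x : A // Commute a₀ x} with hc
  have h1 := card_comm_eq_card_conjClasses_mul_card A
  rw [Nat.card_congr (Equiv.subtypeProdEquivSigmaSubtype (fun a x : A => Commute a x)),
    Nat.card_sigma] at h1
  have h2 : ∑ a : A, Nat.card {x : A // Commute a x} = Nat.card A + (Nat.card A - 1) * c := by
    rw [← Finset.add_sum_erase Finset.univ _ (Finset.mem_univ (1 : A))]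
    congr 1
    · apply Nat.card_congr
      exact ⟨fun x => x.1, fun x => ⟨x, Commute.one_left x⟩, fun x => rfl, fun x => rfl⟩
    · rw [Finset.sum_congr rfl (g := fun _ => c)]
      · rw [Finset.sum_const, Finset.card_erase_of_mem (Finset.mem_univ _), Finset.card_univ,
          Nat.card_eq_fintype_card, smul_eq_mul]
      · intro a ha
        exact hcon a a₀ (Finset.ne_of_mem_erase ha) ha₀
  rw [h2] at h1
  have hpos : 0 < Nat.card A := Nat.card_pos
  have h3 : Nat.card A ∣ (Nat.card A - 1) * c := by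
    have : Nat.card A ∣ Nat.card A + (Nat.card A - 1) * c := by rw [h1]; exact Dvd.intro_left _ rfl
    exact (Nat.dvd_add_right (dvd_refl _)).mp this
  have h4 : Nat.Coprime (Nat.card A) (Nat.card A - 1) := by
    obtain ⟨k, hk⟩ : ∃ k, Nat.card A = k + 1 := ⟨Nat.card A - 1, by omega⟩
    rw [hk]; simp
  have h5 : Nat.card A ∣ c := h4.dvd_of_dvd_mul_left h3
  have h6 : c ≤ Nat.card A := Nat.card_le_card_of_injective (fun x => x.1) Subtype.val_injective
  have h7 : 0 < c := by
    haveI : Nonempty {x : A // Commute a₀ x} := ⟨⟨1, Commute.one_right _⟩⟩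
    exact Nat.card_pos
  have h8 : c = Nat.card A := le_antisymm h6 (Nat.le_of_dvd h7 h5)
  apply ha₀
  apply hZ
  intro a
  have hsurj : Function.Surjective (fun x : {x : A // Commute a₀ x} => x.1) := by
    have hinj : Function.Injective (fun x : {x : A // Commute a₀ x} => x.1) :=
      Subtype.val_injective
    exact ((Nat.bijective_iff_injective_and_card _).mpr ⟨hinj, h8⟩).2
  obtain ⟨x, rfl⟩ := hsurj a
  exact x.2.symm

section
variable {G : Type*} [Group G]

/-- The number of elements of `A` commuting with `z`. -/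
noncomputable def cenCard (A : Subgroup G) (z : G) : ℕ := Nat.card {x : A // (x : G) * z = z * x}

theorem cenCard_one (A : Subgroup G) : cenCard A 1 = Nat.card A := by
  apply Nat.card_congr
  exact ⟨fun x => x.1, fun x => ⟨x, by simp⟩, fun x => rfl, fun x => rfl⟩

theorem cenCard_pos [Finite G] (A : Subgroup G) (z : G) : 0 < cenCard A z := by
  haveI : Nonempty {x : A // (x : G) * z = z * x} := ⟨⟨1, by simp⟩⟩
  exact Nat.card_pos

theorem cenCard_conj (N : Subgroup G) [hN : N.Normal] (g z : G) :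
    cenCard N (g * z * g⁻¹) = cenCard N z := by
  apply Nat.card_congr
  refine ⟨fun x => ⟨⟨g⁻¹ * x.1 * g, by simpa using hN.conj_mem x.1 x.1.2 g⁻¹⟩, ?_⟩,
    fun x => ⟨⟨g * x.1 * g⁻¹, hN.conj_mem x.1 x.1.2 g⟩, ?_⟩, ?_, ?_⟩
  · have := x.2
    simp only
    calc g⁻¹ * (x.1 : G) * g * z = g⁻¹ * ((x.1 : G) * (g * z * g⁻¹)) * g := by group
      _ = g⁻¹ * ((g * z * g⁻¹) * (x.1 : G)) * g := by rw [this]
      _ = z * (g⁻¹ * (x.1 : G) * g) := by group
  · have := x.2
    simp only
    calc g * (x.1 : G) * g⁻¹ * (g * z * g⁻¹) = g * ((x.1 : G) * z) * g⁻¹ := by group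
      _ = g * (z * (x.1 : G)) * g⁻¹ := by rw [this]
      _ = g * z * g⁻¹ * (g * (x.1 : G) * g⁻¹) := by group
  · intro x
    apply Subtype.ext; apply Subtype.ext
    simp only
    group
  · intro x
    apply Subtype.ext; apply Subtype.ext
    simp only
    group

theorem cenCard_eq_of_isConj (N : Subgroup G) [hN : N.Normal] {z w : G} (h : IsConj z w) :
    cenCard N z = cenCard N w := by
  obtain ⟨g, rfl⟩ := isConj_iff.mp h
  exact (cenCard_conj N g z).symm

theorem cenCard_mul (N A B : Subgroup G) (hA : A ≤ N) (hB : B ≤ N)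
    (hAB : ∀ b ∈ B, ∀ a ∈ A, a * b = b * a) (hdec : ∀ n ∈ N, ∃ a ∈ A, ∃ b ∈ B, n = a * b)
    (hint : ∀ x, x ∈ A → x ∈ B → x = 1) (a b : G) (ha : a ∈ A) (hb : b ∈ B) :
    cenCard N (a * b) = cenCard A a * cenCard B b := by
  unfold cenCard
  rw [← Nat.card_prod]
  symm
  apply Nat.card_congr
  apply Equiv.ofBijective (fun x : {x : A // (x : G) * a = a * x} × {x : B // (x : G) * b = b * x} =>
    (⟨⟨(x.1.1 : G) * (x.2.1 : G), N.mul_mem (hA x.1.1.2) (hB x.2.1.2)⟩, by
      have h1 := x.1.2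
      have h2 := x.2.2
      have h3 := hAB x.2.1 x.2.1.2 a ha
      have h4 := hAB b hb x.1.1 x.1.1.2
      simp only
      calc (x.1.1 : G) * (x.2.1 : G) * (a * b) = (x.1.1 : G) * ((x.2.1 : G) * a) * b := by group
        _ = (x.1.1 : G) * (a * (x.2.1 : G)) * b := by rw [h3]
        _ = ((x.1.1 : G) * a) * ((x.2.1 : G) * b) := by group
        _ = (a * (x.1.1 : G)) * (b * (x.2.1 : G)) := by rw [h1, h2]
        _ = a * ((x.1.1 : G) * b) * (x.2.1 : G) := by group
        _ = a * (b * (x.1.1 : G)) * (x.2.1 : G) := by rw [h4]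
        _ = a * b * ((x.1.1 : G) * (x.2.1 : G)) := by group⟩ :
      {x : N // (x : G) * (a * b) = a * b * x}))
  constructor
  · rintro ⟨⟨⟨x, hx⟩, hx'⟩, ⟨⟨y, hy⟩, hy'⟩⟩ ⟨⟨⟨x₂, hx₂⟩, hx₂'⟩, ⟨⟨y₂, hy₂⟩, hy₂'⟩⟩ h
    have h1 : x * y = x₂ * y₂ := congrArg (fun z => ((z.1 : N) : G)) h
    have h2 : x₂⁻¹ * x = y₂ * y⁻¹ := by
      calc x₂⁻¹ * x = x₂⁻¹ * (x * y) * y⁻¹ := by group
        _ = x₂⁻¹ * (x₂ * y₂) * y⁻¹ := by rw [h1]
        _ = y₂ * y⁻¹ := by group
    have h3 : x₂⁻¹ * x = 1 := hint _ (A.mul_mem (A.inv_mem hx₂) hx)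
      (by rw [h2]; exact B.mul_mem hy₂ (B.inv_mem hy))
    have h4 : y₂ * y⁻¹ = 1 := by rw [← h2, h3]
    have e1 : x = x₂ := by
      have := congrArg (fun z => x₂ * z) h3
      simpa using this
    have e2 : y = y₂ := by
      have := congrArg (fun z => z * y) h4
      simpa using this.symm
    subst e1; subst e2
    rfl
  · rintro ⟨⟨n, hn⟩, hn'⟩
    obtain ⟨x, hx, y, hy, rfl⟩ := hdec n hn
    have hn'' : x * y * (a * b) = a * b * (x * y) := hn'
    have c1 := hAB y hy a ha
    have c2 := hAB b hb x hx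
    have key : (a * x)⁻¹ * (x * a) = (b * y) * (y * b)⁻¹ := by
      have e1 : (x * a) * (y * b) = (a * x) * (b * y) := by
        calc (x * a) * (y * b) = x * (a * y) * b := by group
          _ = x * (y * a) * b := by rw [c1]
          _ = x * y * (a * b) := by group
          _ = a * b * (x * y) := hn''
          _ = a * (b * x) * y := by group
          _ = a * (x * b) * y := by rw [c2]
          _ = (a * x) * (b * y) := by group
      calc (a * x)⁻¹ * (x * a) = (a * x)⁻¹ * ((x * a) * (y * b)) * (y * b)⁻¹ := by group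
        _ = (a * x)⁻¹ * ((a * x) * (b * y)) * (y * b)⁻¹ := by rw [e1]
        _ = (b * y) * (y * b)⁻¹ := by group
    have k1 : (a * x)⁻¹ * (x * a) = 1 := hint _
      (A.mul_mem (A.inv_mem (A.mul_mem ha hx)) (A.mul_mem hx ha))
      (by rw [key]; exact B.mul_mem (B.mul_mem hb hy) (B.inv_mem (B.mul_mem hy hb)))
    have k2 : (b * y) * (y * b)⁻¹ = 1 := by rw [← key, k1]
    have e1 : x * a = a * x := (inv_mul_eq_one.mp k1).symm
    have e2 : y * b = b * y := (mul_inv_eq_one.mp k2).symm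
    exact ⟨(⟨⟨x, hx⟩, e1⟩, ⟨⟨y, hy⟩, e2⟩), rfl⟩

/-- Subgroup version of `two_cent`. -/
theorem two_cenCard [Finite G] (A : Subgroup G) (hA : A ≠ ⊥)
    (hZ : A ⊓ Subgroup.centralizer (A : Set G) = ⊥) :
    ∃ a b : G, a ∈ A ∧ b ∈ A ∧ a ≠ 1 ∧ b ≠ 1 ∧ cenCard A a ≠ cenCard A b := by
  haveI : Nontrivial A := (Subgroup.nontrivial_iff_ne_bot A).mpr hA
  obtain ⟨a, b, ha, hb, hab⟩ := two_cent (A := A) (by
    intro z hz
    have : (z : G) ∈ A ⊓ Subgroup.centralizer (A : Set G) := by
      refine Subgroup.mem_inf.mpr ⟨z.2, ?_⟩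
      rw [Subgroup.mem_centralizer_iff]
      intro s hs
      exact congrArg Subtype.val (hz ⟨s, hs⟩)
    rw [hZ, Subgroup.mem_bot] at this
    exact Subtype.ext this)
  refine ⟨a, b, a.2, b.2, fun h => ha (Subtype.ext h), fun h => hb (Subtype.ext h), ?_⟩
  intro h
  apply hab
  have e : ∀ c : A, Nat.card {x : A // Commute c x} = cenCard A c := by
    intro c
    apply Nat.card_congr
    exact ⟨fun x => ⟨x.1, (congrArg Subtype.val x.2.eq).symm⟩,
      fun x => ⟨x.1, (Subtype.ext x.2 : x.1 * c = c * x.1).symm⟩, fun x => rfl, fun x => rfl⟩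
  rw [e a, e b, h]

theorem cenCard_ne_card [Finite G] (A : Subgroup G)
    (hZ : A ⊓ Subgroup.centralizer (A : Set G) = ⊥) (a : G) (ha : a ∈ A) (ha1 : a ≠ 1) :
    cenCard A a ≠ Nat.card A := by
  intro h
  apply ha1
  have hinj : Function.Injective (fun x : {x : A // (x : G) * a = a * x} => x.1) :=
    Subtype.val_injective
  have hsurj := ((Nat.bijective_iff_injective_and_card _).mpr ⟨hinj, h⟩).2
  have : a ∈ A ⊓ Subgroup.centralizer (A : Set G) := by
    refine Subgroup.mem_inf.mpr ⟨ha, ?_⟩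
    rw [Subgroup.mem_centralizer_iff]
    intro s hs
    obtain ⟨x, hx⟩ := hsurj ⟨s, hs⟩
    have h2 := x.2
    have h3 : (x.1 : G) = s := congrArg Subtype.val hx
    rw [h3] at h2
    exact h2
  rw [hZ, Subgroup.mem_bot] at this
  exact this

end

end Cfsg.Agent.Lib.Helper63Cen
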