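import Mathlib
import Cfsg.Agent.Lib.Helper61SchreierSims

set_option autoImplicit false

/-! The Hall-Janko group `J2` as a permutation group of degree 100: order (verified Schreier-Sims),
suborbits of the point stabiliser, generation by elements of order 5.
Tables are packed, 7 bits per entry. -/

namespace Cfsg.Agent.Lib.Helper63J2a

open Cfsg.Agent.Lib.Helper61SchreierSims

abbrev P := Equiv.Perm (Fin 100)

/-- entry `i` of a packed table -/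
def tb (T : Nat) (i : Nat) : Nat := (T >>> (7 * i)) &&& 127

def T0 : Nat := 0xb5783a5c128ad210cdfa9347b126983150e9265ed39755e5622ca3c186d160d2d14e0ac662cafb6d984277191d1711032e5ad68144138940c2109a29a5ce9f5086a3a90e6e90af7df1b49607856f3d58b6226e270608080
def I0 : Nat := 0x77551df2588a856f8dc8e272251999718291498fd3977a7978ac9f2e86d2224b2466c96660b2f16d9542b5183b570b15c11346c1b095300f6280d273958ebd215e73a3cfeea842963941b4205210f035bc2b46220608080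
def T1 : Nat := 0x1cfd397bef6038133b09fac503a31f042e26c8acb2c0824a18e365af9e3295d4c94243bc92d3088f15ac2c565085b45b8b6ad189a9b4143ac6e41296648d993cfaacc8b60c032676410a75235b542a15c38b833bae44080
def I1 : Nat := 0x4742ccbbeee00818e6696075cc8e1f0572687693988ac64918e34bb7782695dc46af36089115c5b3d5aa3f314b888197b46a2d025c2fdf3aa93a44ab06c9073aa0e15c0cd9562678110a78e342582adb0aa168bd2884080
def T2 : Nat := 0x7d65028793d6dd5785e979d24a196acae1f0485fc4aaa700e4e3ddb820146153d588b336de1dba7506cc72bd289541a8c06062f840e4d8c20659b50968e40a9a693418e89d5aae7494a5d896084871a52bd185818b63180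
def I2 : Nat := 0x23ad49521ee51705310226fa5b66e216a0bd5cdb43e42b1d2e181cc7290c2c9b8ecdf8a559c4748698979492ab643ee8db6be5608e6588b3c5a761a0fc90a766aa2ab08a0554c45ec38d21ac10a7180c4eba128473c200
def T3 : Nat := 0x466d118384c7e20a96e28c25831d9cd4fc170ddcd880263ad4e29eb4753ebcaac3809e578e14d5ec54c67730cdb0910897bf2df12a8210300742f5d01164b3189013f0f81b211ac932cb548a5920b95481744d538655e55
def I3 : Nat := 0x7572b965685059603c64c82fc0270838322854dc325500e8892d0f2e06e684b30a6281670e6cf9c569443849b246e2a4107625ad88e46d1ac784a25a2f2a5fc4158e0595810dbca168bbaf899b0f1a5262f56daf4665e9f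

def TT : Fin 4 → Nat := ![T0, T1, T2, T3]
def TI : Fin 4 → Nat := ![I0, I1, I2, I3]

set_option maxRecDepth 100000 in
theorem TT_ok : ∀ k : Fin 4, ∀ i : Fin 100, tb (TT k) i < 100 ∧ tb (TI k) i < 100 ∧
    tb (TI k) (tb (TT k) i) = i ∧ tb (TT k) (tb (TI k) i) = i := by
  decide +kernel

/-- the four generators -/
def gens (k : Fin 4) : P where
  toFun i := ⟨tb (TT k) i, (TT_ok k i).1⟩
  invFun i := ⟨tb (TI k) i, (TT_ok k i).2.1⟩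
  left_inv i := Fin.ext (TT_ok k i).2.2.1
  right_inv i := Fin.ext (TT_ok k i).2.2.2

def Sset (k : ℕ) : Set P := {g | ∃ i : Fin 4, i.val < k ∧ gens i = g}
def C (k : ℕ) : Subgroup P := Subgroup.closure (Sset k)

def W1 : List (List (Fin 4)) := [[], [3, 1, 0, 0, 3], [1, 3, 2, 3], [1, 2, 3], [1, 1, 0, 0, 3], [1, 3, 3, 3], [3, 3], [1, 3], [3, 1, 1, 0, 3], [0, 3, 3], [2, 1, 1, 3], [3, 1, 3], [3, 3, 0, 3], [1, 2, 3, 3], [0, 1, 1, 1, 0, 3], [2, 2, 3, 3], [0, 2, 3], [2, 1, 0, 0, 3], [1, 2, 1, 0, 3], [3, 0, 0, 3], [2, 3], [3, 1, 3, 2, 3], [0, 1, 0, 3], [0, 2, 1, 0, 3], [2, 1, 3, 1, 3], [3, 0, 1, 3], [1, 0, 3, 0, 3], [3, 0, 3], [1, 1, 3], [1, 1, 2, 1, 0, 3], [2, 1, 0, 3], [0, 1, 1, 3], [1, 0, 0, 0, 3], [3, 2, 3], [2, 0, 1, 0, 3], [0, 0, 1, 3], [2, 3, 1, 3], [2, 0, 1, 3], [1, 1, 0, 3], [1, 1, 2, 0, 3], [0, 3, 0, 3], [2, 0, 0, 0,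 3], [1, 3, 1, 3], [0, 0, 3, 3], [3, 0, 2, 3], [0, 0, 0, 3, 3], [1, 3, 3], [3, 0, 3, 1, 3], [3, 2, 3, 1, 3], [0, 1, 3], [0, 2, 3, 3], [3, 1, 1, 3], [2, 0, 3, 3], [0, 1, 3, 1, 3], [2, 3, 2, 3], [0, 3, 1, 3], [3, 2, 0, 0, 3], [0, 0, 1, 0, 3], [1, 2, 3, 1, 3], [0, 3, 1, 1, 3], [1, 2, 3, 2, 3], [1, 0, 0, 3], [3, 2, 0, 0, 0, 3], [1, 0, 3], [0, 2, 3, 1, 3], [0, 0, 1, 3, 3], [1, 0, 3, 3], [3, 1, 2, 3], [0, 1, 3, 3], [2, 1, 2, 3], [2, 3, 3], [0, 2, 1, 2, 3], [1, 2, 1, 0, 0, 3], [0, 2, 0, 0, 3], [0, 0, 0, 3], [2, 0, 1, 1, 3], [2, 2, 0, 3, 3], [2, 3, 0, 3], [1, 2, 2, 3], [2, 0, 0, 3], [1, 1, 1, 0, 3], [3, 3, 3], [0, 3, 2, 0, 3], [2, 0, 3, 1, 3], [0, 3, 0, 1, 3], [3], [3, 1, 0, 3], [1, 1, 2, 3], [1, 0, 1, 0, 3], [2, 0, 3], [2, 2, 3], [1, 3, 3, 0, 3], [3, 2, 0, 3], [2, 3, 2, 0, 3], [0, 0, 3], [3, 0, 0, 3, 3], [3, 0, 1, 0, 3], [1, 2,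 0, 3], [0, 3], [1, 0, 0, 1, 3]]
def M1 : Nat := 0xfffffffffffffffffffffffff
def W2 : List (List (Fin 4)) := [[], [], [1, 2, 1, 0, 2], [2, 1, 1, 1, 2], [0, 1, 1, 0, 2], [], [], [0, 2, 0, 2], [], [], [2, 1, 0, 2, 0, 2], [], [], [], [1, 2], [], [0, 1, 2, 2, 2], [0, 0, 0, 2, 2], [0, 1, 2, 2], [0, 2, 1, 0, 2], [1, 2, 2, 2], [], [1, 0, 0, 2], [2, 0, 1, 2], [], [0, 1, 0, 2], [1, 1, 1, 2, 2], [2, 0, 0, 0, 2], [1, 0, 2, 0, 2], [1, 0, 1, 2, 2], [0, 2, 2, 2], [1, 0, 1, 2], [2, 2, 0, 2], [2, 1, 0, 2], [1, 1, 0, 2], [1, 1, 1, 2], [], [1, 2, 2], [0, 1, 1, 2], [1, 2, 0, 2], [1, 1, 2, 2], [0, 0, 1, 2], [], [], [], [], [], [], [], [2, 1, 2, 2], [], [0, 0, 2], [], [], [2, 2, 1, 0, 2], [], [], [2, 0, 0, 2], [], [0, 0, 0, 2], [0, 2, 2, 2, 2], [1, 0, 2, 1, 2], [2, 2], [1, 2, 1, 2], [], [], [], [2, 2, 0, 0, 2], [], [0, 2, 2], [], [0, 0, 2, 2],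 [0, 2, 0, 1, 2], [2, 2, 2, 2], [0, 0, 2, 1, 2], [1, 0, 2, 2], [], [1, 1, 2, 0, 2], [1, 0, 2], [2, 0, 2, 1, 2], [2, 2, 2, 0, 2], [], [], [], [1, 1, 2], [1, 0, 1, 0, 2], [2, 2, 2], [0, 0, 2, 1, 0, 2], [0, 1, 2], [2, 2, 1, 2], [0, 2], [], [], [], [0, 2, 1, 2], [2, 0, 0, 1, 2], [1, 1, 0, 2, 2], [2, 0, 2], [2, 1, 2], [2]]
def M2 : Nat := 0xfc7f1efa8fa4a03effedf449e
def W3 : List (List (Fin 4)) := [[], [], [], [1, 1, 0, 1, 1], [], [], [], [], [], [], [], [], [], [], [], [], [0, 1, 0, 1, 1], [1], [0, 1, 0, 1], [0, 1, 1, 1], [1, 0, 1, 1], [], [], [0, 0, 0, 1, 1], [], [], [1, 1, 1, 0, 1], [1, 1, 0, 1, 0, 1], [], [1, 0, 1, 0, 1], [0, 0, 1, 1], [], [], [1, 1, 1], [], [], [], [1, 0, 1], [], [], [1, 1, 0, 1], [], [], [], [], [], [], [], [], [], [], [], [], [], [], [], [], [], [], [], [], [], [0, 1], [], [], [], [], [], [], [0, 0, 1],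 [], [0, 0, 0, 1], [1, 1], [], [], [1, 0, 0, 1], [], [], [], [], [], [], [], [], [], [], [0, 1, 1], [0, 0, 1, 1, 1], [], [], [], [], [], [], [], [0, 0, 1, 0, 1], [1, 1, 0, 0, 1], [], [], []]
def M3 : Nat := 0x180c009a0400001226c9f000c
def W4 : List (List (Fin 4)) := [[], [], [], [], [], [], [], [], [], [], [], [], [], [], [], [], [], [], [], [], [], [], [], [], [], [], [], [], [], [], [], [], [0, 0], [], [0, 0, 0], [], [], [], [], [0], [], [], [], [], [], [], [], [], [], [], [], [], [], [], [], [], [], [], [], [], [], [], [], [], [], [], [], [], [], [], [], [], [], [], [], [], [], [], [], [], [], [], [], [], [], [], [], [], [], [], [], [], [], [], [], [], [], [], [], []]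
def M4 : Nat := 0x8500000010
def WV : List (List (Fin 4)) := [[], [], [1, 2, 1, 0, 2], [2, 1, 1, 1, 2], [0, 1, 1, 0, 2], [], [1], [0, 2, 0, 2], [2, 0, 0, 0], [0, 1], [2, 1, 0, 2, 0, 2], [2], [0, 0, 0], [1, 2, 1], [1, 2], [2, 2, 1], [0, 1, 2, 2, 2], [0, 0, 0, 2, 2], [0, 1, 2, 2], [0, 2, 1, 0, 2], [1, 2, 2, 2], [0, 2, 0], [1, 0, 0, 2], [2, 0, 1, 2], [2, 1, 2], [0, 1, 0, 2], [1, 1, 1, 2, 2], [2, 0, 0, 0, 2], [1, 0, 2, 0, 2], [1, 0, 1, 2, 2], [0, 2, 2, 2], [1, 0, 1, 2], [2, 2, 0, 2], [2, 1, 0, 2], [1, 1, 0, 2], [1, 1, 1, 2], [2, 2], [1, 2, 2], [0, 1, 1, 2], [1, 2, 0, 2], [1, 1, 2, 2], [0, 0, 1, 2], [1, 2], [0, 0, 1], [0, 1, 0, 0], [2, 2, 0], [1, 1], [0, 1, 0], [1, 1, 0], [2, 1, 2, 2], [2, 0, 0], [0, 0, 2], [2, 0, 1], [0, 1, 2], [2, 2, 1, 0, 2], [0, 2], [1, 0], [2, 0, 0, 2], [1, 2, 2], [0, 0, 0, 2], [0, 2, 2, 2, 2], [1, 0, 2,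 1, 2], [2, 2], [1, 2, 1, 2], [1, 2, 0], [1, 0, 0], [1, 0, 1], [2, 2, 0, 0, 2], [0, 1, 1], [0, 2, 2], [2, 1], [0, 0, 2, 2], [0, 2, 0, 1, 2], [2, 2, 2, 2], [0, 0, 2, 1, 2], [1, 0, 2, 2], [2, 2, 0, 1], [1, 1, 2, 0, 2], [1, 0, 2], [2, 0, 2, 1, 2], [2, 2, 2, 0, 2], [1, 1, 1], [0, 0], [2, 0, 2], [1, 1, 2], [1, 0, 1, 0, 2], [2, 2, 2], [0, 0, 2, 1, 0, 2], [0, 1, 2], [2, 2, 1, 2], [0, 2], [2, 1, 0], [0], [2, 0], [0, 2, 1, 2], [2, 0, 0, 1, 2], [1, 1, 0, 2, 2], [2, 0, 2], [2, 1, 2], [2]]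
def WX : List (List (Fin 4)) := [[1, 2, 3, 1, 2], [3, 1, 3, 3, 0], [1, 0, 1, 0, 3], [3]]
def colL : List (Fin 3) := [0, 2, 2, 2, 2, 1, 1, 2, 1, 1, 2, 1, 1, 1, 2, 1, 2, 2, 2, 2, 2, 1, 2, 2, 1, 2, 2, 2, 2, 2, 2, 2, 2, 2, 2, 2, 1, 2, 2, 2, 2, 2, 1, 1, 1, 1, 1, 1, 1, 2, 1, 2, 1, 1, 2, 1, 1, 2, 1, 2, 2, 2, 2, 2, 1, 1, 1, 2, 1, 2, 1, 2, 2, 2, 2, 2, 1, 2, 2, 2, 2, 1, 1, 1, 2, 2, 2, 2, 2, 2, 2, 1, 1, 1, 2, 2, 2, 2, 2, 2]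
def repL : List (Fin 100) := [0, 5, 1]
def R1 : List (List (List (Fin 4))) := [[[0], [2, 0, 1, 2, 1, 0, 1, 0], [1, 2, 2, 2, 1, 0, 1, 1, 0, 0], [2, 2, 2, 1, 1, 0], [0, 2, 2, 1, 0, 1, 1, 0], [2, 0, 2, 1, 2, 1, 0, 1], [], [], [1, 0, 1, 0, 2, 1, 0, 0, 1, 0, 0, 0], [], [1, 1, 0, 0, 1, 0], [], [0, 0, 1, 2, 0, 0, 1, 0, 0, 0], [1, 0, 1, 2, 1, 0, 1, 0, 1, 0, 0], [2, 1, 1, 1, 2, 1, 0, 1, 1, 0, 0], [2, 1, 0], [1, 1, 0, 2, 2, 0, 1, 0, 1, 0, 0], [2, 0, 0, 1, 2, 1, 0, 0, 1, 0, 0, 0], [0, 0, 2, 1, 0, 2, 0, 0, 1, 1, 0], [2, 2, 0, 0, 2, 1, 0, 1, 1], [], [0, 0, 2, 1, 0, 2, 1, 0, 1, 0, 0], [], [0, 0, 1, 2, 0, 1, 1, 0], [0, 2, 0, 1, 2, 1, 1, 1, 0, 1, 0, 0], [], [2, 1, 0, 2, 0, 1, 0, 0], [], [], [0, 2, 2, 0, 0, 1, 0, 1, 0, 0], [], [0, 0, 2, 1, 2, 0, 1, 1, 1, 0, 0], [1, 2, 1, 2, 0, 0, 0, 1, 0, 0, 0], [2, 2, 0, 0, 2, 0, 0], [0, 2, 2, 2, 2, 1,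 0, 1, 1, 0], [1, 1, 2, 2, 1, 1], [], [1, 2, 1, 2, 0, 1, 0, 1, 0], [1, 0, 2, 0, 2, 1, 0, 0, 1, 0], [2, 2, 0, 0, 1, 0, 0], [1, 1, 0, 2, 2, 1, 0, 0, 1, 0, 0, 0], [2, 1, 2, 0, 0, 1, 0, 1, 0], [], [], [1, 0, 2, 1], [], [], [2, 2, 2, 2, 0, 1, 0, 1, 0], [2, 0, 0, 2, 1, 1, 1, 0, 0, 0], [], [2, 2, 2, 2, 1, 0, 1, 1, 0], [], [2, 1, 2, 2, 1, 1, 0, 0, 1], [0, 1, 0, 2, 1, 1, 0, 0], [2, 0, 2, 1, 0, 0], [2, 0, 0, 0, 2, 1, 0, 1, 0, 0, 0], [2, 2, 2, 2, 0, 0, 0, 1, 1, 0], [1, 1, 2, 2, 1, 1], [1, 2, 2, 2, 1, 0, 1, 1, 0, 0, 0], [2, 0, 0, 2, 1, 1, 0, 0, 0], [1, 0, 2, 0, 2, 0, 1, 0, 1, 0], [2, 1, 1, 1, 2, 1, 0, 1, 1, 0, 0], [1, 2, 1, 1, 1, 0, 0, 0], [], [0, 0, 2, 1, 0, 1, 0, 1], [1, 0, 2, 1, 2, 0, 1, 1], [0, 0, 1, 1, 0, 0], [1, 0, 2, 0, 2, 0, 0, 1, 1, 0], [], [], [], [0, 0, 1, 2, 0, 0, 1, 0, 1, 0, 0, 0], [1, 1, 1, 2, 0, 0, 1, 1, 0], [1, 0, 2,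 1, 1, 0, 1, 1, 0], [], [2, 1, 2, 2, 1, 1, 0, 0, 1], [2, 1, 0], [0, 2, 0, 2, 1, 1, 1], [2, 1, 0, 2, 0], [], [], [1, 0, 1, 2, 2, 1, 0, 0, 1, 0, 0], [2, 1, 1, 1, 2, 0, 1, 0, 1, 0, 0], [0, 0, 2, 1, 2, 0, 1], [1, 1, 0, 2, 2, 0, 0, 1, 0, 0], [], [2, 2, 0, 0, 2, 1, 1, 0, 0, 1, 0, 0], [0, 2, 2, 2, 0, 0, 1, 1], [0, 2, 1, 2, 0, 0, 1, 0, 1, 0, 0], [2, 2, 0, 0, 1, 0, 0], [0, 0, 2, 1, 2, 0, 0, 1, 1, 1, 0], [1, 0, 1, 2, 2, 0, 0], [], [1, 0, 2, 0, 2, 1, 0, 0, 1, 0, 0], [], [2, 0, 1, 2, 0, 0, 1, 1], [0, 2, 1, 0, 2, 1, 1, 0, 1, 0, 1], [2, 2, 0, 0, 1, 0, 0], [], [0, 0, 1, 2, 0, 0, 1, 0, 1, 0, 0, 0]], [[1], [2, 2, 0, 2, 1, 1, 1, 0, 0], [2, 0, 0, 1, 2, 0, 1, 0, 1, 1, 0], [], [1, 2, 1, 2, 1, 1, 0, 1, 1, 0, 0, 0], [2, 2, 2, 1, 0, 0, 1, 0, 0, 0], [], [], [0, 1, 2, 2, 2, 1, 1, 1, 0, 0, 0], [], [0, 0, 2, 1, 0], [], [], [0, 1, 1, 2, 1, 1, 0, 0,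 1, 0, 0], [1, 0, 2, 2, 0, 0, 0, 1, 1, 0, 0, 0], [1, 2, 1, 2, 1, 1, 0, 1, 1, 0], [2, 2, 0, 1, 1, 1, 0], [], [], [0, 2, 1, 0, 2, 0, 1, 0, 1], [], [1, 2, 1, 0, 2, 0, 1, 1, 1, 0], [], [1, 2, 2, 2, 1, 0, 1], [2, 1, 1, 1, 2, 1, 1, 1, 0, 1, 0, 0, 0], [1, 1, 1, 2, 2, 1, 0, 1, 0, 0, 0], [1, 1, 2, 0, 1, 1, 1], [2, 0, 2, 1, 2, 0, 0, 1, 1], [1, 0, 2, 2, 0, 0, 0, 1, 1, 0, 0, 0], [0, 2, 2, 2, 2, 1, 1, 0, 0, 1, 0, 0, 0], [], [0, 2, 2, 2, 2, 0, 0], [0, 2, 2, 2, 2, 1, 0, 1, 1, 0], [], [0, 2, 2, 2, 2, 1, 0, 1, 1, 0], [], [], [1, 0, 2, 2, 1, 1, 0, 1], [], [0, 2, 2, 2, 1, 1, 0, 1, 0, 0], [], [2, 1, 2, 0, 0, 1, 0, 1, 0], [1, 2, 2, 0, 1, 0, 0], [2, 2, 2, 0, 1, 1, 0, 0], [2, 2, 2, 0, 2, 1, 1, 1, 0, 1, 0, 0], [2, 2, 2, 0, 1, 1, 0, 0], [0, 0, 2, 2, 0, 0, 1, 0, 1], [0, 1, 1, 0, 2, 0, 0, 1, 0, 0, 0], [0, 1, 0, 2, 0, 0, 0, 1, 0, 0, 0], [1, 0, 1, 2,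 2, 1, 1, 1, 0, 1], [1, 2, 1, 2, 0, 1, 0, 0, 0], [0, 0, 2, 1, 2, 1, 0, 1, 1, 0], [2, 1, 0, 2, 1, 0, 0, 1], [1, 2, 2, 0, 1], [], [2, 2, 0, 2, 1, 0, 1, 1], [1, 1, 2, 2, 1, 0, 1, 0, 0, 0], [0, 0, 1, 2, 0, 0, 1, 0, 1, 0, 0, 0], [0, 2, 2, 2, 2, 1, 1, 0, 0, 1, 0], [0, 0, 2, 1, 2, 1, 0, 1, 1, 0], [2, 2, 1, 0, 2, 1, 0, 1, 0, 1], [], [0, 0, 2, 1, 2, 0, 0, 1, 0, 1, 0, 0, 0], [], [0, 1, 1, 2, 0, 0, 0, 1, 0], [1, 1, 2, 2, 1, 0, 1, 0, 0], [1, 0, 1, 0, 2, 0, 0, 1, 0, 1, 0], [1, 1, 0, 2, 1, 1, 0, 1, 0], [2, 2, 1, 0, 2, 0, 0, 0, 1, 0], [2, 0, 2, 0, 1, 0, 1], [], [1, 2, 2, 2, 0, 0, 1, 1, 0, 0, 0], [1, 2, 1, 0, 2, 1, 0, 1, 0, 0, 0], [1, 2, 1, 2, 0, 0, 0, 1, 0, 0, 0], [], [2, 2, 1, 2, 1, 0, 1, 0, 0], [2, 0, 2, 1, 1, 0, 1, 0], [0, 2, 1, 0, 2, 1, 1, 1], [1, 2, 2, 2, 0, 0, 1, 1, 0, 0, 0], [1, 1, 1, 2, 0, 0, 0, 1, 1, 0, 0], [], [], [2, 2, 1, 0,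 2, 1, 1, 0, 0, 1, 0, 0, 0], [2, 1, 2, 1, 1, 0, 1, 0, 1, 0, 0, 0], [1, 1, 0, 2, 2, 0, 0, 1, 0, 0], [], [0, 2, 0, 1, 2, 1, 1, 0, 0, 0], [0, 1, 2, 2, 2, 1, 1, 1, 0, 0, 0], [1, 0, 1, 2, 2, 1, 1, 1, 0, 1], [], [], [0, 0, 2, 0, 0, 1, 0, 0, 0], [2, 2, 2, 2, 1, 0, 1, 0, 1, 0], [2, 1, 0, 2, 1, 0, 1, 0, 1, 0, 0], [], [0, 0, 2, 2, 1, 1, 0, 0, 1, 0, 0, 0], [0, 2, 1, 0, 2, 0, 0, 1, 1, 0], [], [], [1, 0, 1, 2, 2, 1, 1, 1, 0, 1]], [[2], [2, 2, 2, 2, 0, 0, 1, 0], [1, 0, 1, 2, 2, 0], [], [2, 0, 0, 1, 0], [1, 0, 1, 2, 0, 0, 1, 1, 1, 0], [], [0, 1, 2, 1, 1, 1, 0], [1, 1, 2, 0, 1, 0, 0], [], [1, 0, 2, 0, 2, 1, 0, 0, 1, 0], [], [1, 0, 1, 2, 2, 1, 1, 0, 0], [0, 1, 0, 2, 1, 0, 1, 0, 0], [0, 1, 0, 2, 0, 0, 0, 1], [0, 1, 2, 2, 2, 0, 1, 0, 1, 1], [0, 1, 2, 0, 1, 0, 0], [1, 1, 0, 0, 1, 0], [0, 0, 2, 1, 1, 0, 1, 0, 0], [1, 1, 1, 2, 2, 1, 1, 0, 0,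 1, 0, 0, 0], [], [2, 0, 0, 1, 1, 1, 0, 0], [], [0, 1, 0, 2, 0, 0, 0, 1], [1, 1, 0, 2, 1, 0, 0, 1, 0], [2, 0, 2, 1, 2, 0, 1, 0, 1, 1], [1, 2, 0, 2, 1, 1, 0, 1, 0], [], [], [0, 2, 1, 2, 1, 0, 1, 1, 0], [1, 0, 1, 2, 2, 1, 0, 0], [], [0, 2, 2, 2, 2, 0, 0, 1, 0, 1, 0, 0], [], [0, 0, 2, 1, 0], [2, 1, 1, 1, 2, 1, 0, 0, 1], [0, 2, 1, 2, 1, 0, 1, 0, 1], [0, 0, 2, 1, 0], [0, 2, 0, 1, 1, 0, 0], [1, 2, 1, 2, 0, 1, 0, 1, 0], [1, 0, 2, 0, 1, 0, 1, 1], [2, 0, 2, 0, 1, 1, 0, 0, 0], [], [1, 1, 1, 2, 2, 0, 0, 1, 0, 0], [0, 2, 2, 0, 1, 1, 0, 0, 0], [1, 2, 0, 2, 1, 0, 1, 0, 1, 0, 0], [1, 2, 0, 2, 0, 0], [1, 1, 0, 2, 0, 0, 1, 1, 0, 0, 0], [1, 0, 1, 0, 2, 0, 1], [], [1, 0, 2, 0, 2, 1, 0, 0, 1, 0, 0, 0], [2, 2, 2, 0, 2, 1, 1, 0, 1, 1, 0], [], [2, 2, 0, 0, 0, 1, 1, 0, 0], [2, 0, 2, 1, 2, 1, 1, 1, 0], [], [2, 0, 0, 0, 2, 1, 1, 1, 0, 1, 0], [0,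 0, 1, 0, 1, 0], [0, 2, 0, 1, 2, 0, 0, 0, 1, 0], [1, 0, 1, 0, 2, 0, 1, 0, 1, 1, 0, 0, 0], [1, 2, 0, 2, 0, 1, 0, 1, 1, 0, 0], [], [1, 2, 0, 2, 0, 1, 1, 0, 0, 0], [], [0, 1, 2, 2, 1, 0, 0, 0], [0, 1, 1, 0, 2, 0, 1, 0, 1, 0, 0, 0], [1, 0, 2, 0, 0, 1, 1, 1], [0, 0, 2, 0, 1, 1, 0, 0, 0], [1, 2, 2, 1, 1, 1, 0, 1, 0, 0], [0, 1, 2, 2, 1, 0], [], [2, 0, 2, 0, 1, 1, 1, 0, 0], [0, 2, 1, 2, 0, 0, 0], [0, 2, 1, 0, 2, 1, 1, 0, 0, 1, 0, 0, 0], [], [0, 1, 2, 1, 0, 1, 0, 1, 0, 0, 0], [2, 0, 0, 0, 2, 1, 0, 0, 1, 0, 0], [1, 0, 2, 2, 1, 0, 0, 0], [0, 2, 1, 2, 1, 1, 0, 0, 1, 0, 0, 0], [0, 0, 1, 2, 1, 0, 1, 1], [0, 0, 2, 1, 1, 0, 1, 0, 0], [1, 0, 1, 2, 2, 1, 1, 0, 0, 0], [1, 1, 1, 2, 1, 1, 0, 1, 0, 1], [0, 0, 0, 2, 2, 0, 1, 1, 1], [1, 2, 2, 1, 1, 0, 1, 1, 0, 0], [], [2, 2, 0, 2, 1, 1, 1, 0, 0], [1, 2, 1, 2, 0, 1, 0, 1, 0], [1, 1, 0, 2, 0], [1,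 0, 1, 2, 2, 1, 0, 1, 0, 1, 0, 0], [1, 1, 2, 2, 0, 0, 1, 0], [1, 1, 1, 2, 2, 1, 1], [], [1, 1, 1, 2, 1, 1, 0, 1, 0, 1], [], [2, 2, 1, 2, 0, 0, 1, 0, 0], [0, 0, 0, 2, 2, 1, 0, 1, 0, 0, 0], [2, 2, 2, 1, 1, 1, 0, 1, 0, 0], [], [0, 0, 0, 2, 2, 0, 0, 1, 1, 1, 0, 0, 0]], [[], [1, 0, 1, 0, 2, 1], [], [], [2, 0, 0, 2, 1, 1], [0, 1, 0, 2, 1, 1, 0, 1, 1], [], [], [0, 2, 1, 0, 2, 1, 0, 1, 0, 0], [1, 0, 1, 2, 0, 0, 1, 1, 1, 0, 0, 0], [1, 1, 2, 2, 0, 1, 0, 1, 1], [0, 2, 2, 2, 1, 1, 1], [1, 0, 1, 0, 2, 1, 0, 0, 0], [0, 2, 2, 2, 2, 0, 0, 1, 1, 0, 0], [1, 1, 0, 2, 2, 1, 0, 1, 1, 0, 0], [1, 0, 2, 0, 2, 1, 1, 0], [], [1, 2, 1, 2, 0, 0, 1, 1, 1, 0], [2, 0, 0, 2, 0, 1, 0, 1, 1, 0, 0, 0], [1, 0, 1, 2, 2, 1, 1, 1, 0, 1, 0], [], [0, 1, 1, 2, 0, 0, 1, 1], [], [1, 0, 1, 2, 0, 0, 0, 1, 0, 0], [2, 1, 1, 1, 2, 1, 0, 1, 0, 1, 0, 0, 0], [1, 0, 2, 1,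 2, 0, 0, 1, 0], [2, 2, 2, 0, 1, 1, 1, 0, 0, 0], [], [], [2, 2, 0, 2, 0, 0, 0], [1, 2, 2, 2, 0, 1, 0, 1, 0], [0, 0, 2, 2, 1, 1, 1, 0], [1, 0, 2, 2, 1], [1, 0, 1, 0, 2, 1, 0, 0, 0], [2, 2, 0, 0, 2, 1, 1, 0, 0, 1], [0, 2, 0, 2, 1, 1, 0, 1, 0, 1, 0, 0], [], [2, 0, 0, 2, 1, 1, 0, 1, 0, 0, 0], [], [1, 0, 0, 2, 0, 0, 1, 1, 0, 0, 0], [2, 1, 0, 2, 0, 2, 0, 1], [], [2, 0, 0, 0, 2, 0, 1], [], [0, 1, 0, 2, 1, 0, 1, 0, 0, 0], [1, 2, 0, 2, 1, 0, 1, 0, 1, 0], [0, 2, 1, 2, 1, 0, 1, 0], [1, 1, 1, 2, 0, 1, 0, 1, 0], [1, 2, 1, 2, 0, 0, 1, 1, 1, 0], [], [0, 2, 0, 0, 1, 0, 1, 0, 0, 0], [1, 0, 1, 0, 2, 1, 1, 1, 0, 1, 0, 0, 0], [1, 0, 1, 2, 2, 1, 1, 0, 0, 0], [2, 1, 2, 0, 1, 1, 0], [2, 2, 2, 0, 2, 1, 0, 0, 1], [], [0, 1, 2, 1, 0, 0], [0, 2, 2, 2, 2, 1, 0, 1, 0, 1, 0], [2, 0, 2, 1, 2, 0, 0, 1], [0, 2, 0, 1, 0, 1, 0], [0, 1, 2], [], [2, 1, 1, 1,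 0], [], [2, 2, 1, 2, 1, 0, 1, 1, 0], [1, 2, 0, 1, 0, 1, 0, 0, 0], [2, 2, 2, 0, 0, 1], [0, 2, 2, 2, 0], [1, 0, 2, 1, 2, 1, 1, 1, 0], [2, 1, 2, 2, 1, 1, 1, 0], [2, 2, 1, 1, 0, 0], [0, 2, 0, 2, 1, 1], [2, 1, 1, 1, 0, 1, 0], [2, 0, 0, 0, 2, 0, 0, 1, 1, 0, 0], [0, 2, 2, 2, 2, 0, 1, 0, 1, 0, 0, 0], [1, 2, 2, 2, 0, 1, 0, 1, 1], [1, 2, 0, 2, 0, 0, 0, 1], [0, 0, 2, 1, 2, 0, 0, 0, 1], [1, 0, 2, 0, 2, 1, 0, 1, 1], [], [2, 2, 1, 0, 1, 1, 0], [0, 0, 2, 1, 0, 2, 0, 0, 1, 0, 1, 0], [2, 0, 2, 1, 2, 1, 1], [0, 2, 2, 2, 2, 0, 1, 1], [2, 1, 0, 2, 0, 0, 1, 0, 0], [], [0, 2, 0, 1, 2, 0, 0, 1, 0, 1, 0, 0, 0], [2, 0, 1, 2], [0, 2, 2, 2, 2, 1, 1, 0, 1, 1, 0, 0], [], [0, 1, 1, 0, 2, 0, 0, 0, 1, 1, 0], [0, 2, 2, 2, 2, 0, 0, 1, 1, 1, 0], [1, 0, 2, 0, 2, 0, 1, 0], [2, 0, 1, 2, 0, 0, 0, 1], [], [1, 2, 2, 2, 0, 1, 0, 0, 0], [2, 2, 1, 1, 0, 0, 1, 0,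 0], [1, 0, 0, 1, 0, 0], [], [2, 2, 1, 2, 1, 1, 0, 1, 0, 1]]]
def R2 : List (List (List (Fin 4))) := [[[], [0], [0, 1, 1, 1, 0, 0, 0], [1, 1, 1, 0, 1], [0, 0, 0, 1, 0, 0, 0], [], [], [0, 1, 0, 1, 1, 0], [], [], [0, 1, 0, 1, 0, 0], [], [], [], [], [], [1, 0, 1, 1], [], [0, 0], [], [], [], [0, 0, 1, 1, 0, 0], [], [], [1, 1, 0, 1, 0, 1, 0, 0], [0, 0, 0], [1, 1, 0, 0, 1], [0, 0, 0, 1, 1, 0, 0], [0, 0, 1, 1, 1, 0, 0], [1, 1, 0, 1, 0], [0, 0, 0, 1, 0, 0, 0], [0, 0, 1, 0, 1], [], [], [1, 0, 1, 1, 0, 0, 0], [], [], [1, 0, 1, 0], [1, 0, 1, 0, 1, 0, 0, 0], [0, 0, 1, 1, 0, 0, 0], [0, 0, 1, 0, 1], [], [], [], [], [], [], [], [1, 1, 0], [], [], [], [], [1, 0, 0, 1, 0, 0], [], [], [1, 1, 0, 1], [], [], [1, 1, 0, 0, 1, 0, 0, 0], [1, 1, 0, 1, 0, 1], [], [0, 0, 0, 1, 1], [], [], [], [0], [], [], [], [], [0, 0, 1, 0, 1], [], [0, 1, 1, 1,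 0, 0, 0], [0, 0, 1, 1, 1, 0, 0], [], [0, 0], [], [0, 1, 0, 1], [1, 1, 0, 1, 0], [], [], [], [], [0, 1, 0, 0, 0], [], [0], [], [0, 1, 0, 1, 1], [], [], [], [], [], [0, 0, 1], [0, 0, 1, 1, 1, 0, 0], [], [], []], [[], [1], [0, 0, 1, 1, 1, 0, 0, 0], [1, 1, 0, 1, 0, 0, 0], [1, 0, 1, 0], [], [], [], [], [], [0, 0, 0], [], [], [], [], [], [0, 1, 0, 0, 0], [1, 0, 0, 1, 0], [], [0, 1, 0, 0, 0], [1, 1, 0, 1, 1, 0, 0, 0], [], [1, 1, 0, 1, 0, 1, 0, 0], [1, 1, 1, 0], [], [], [], [1, 1, 0, 0, 0], [0, 1, 1, 1, 0], [1, 0, 1, 0, 1, 0, 0, 0], [0, 1, 1, 0, 0], [1, 0, 1, 0], [0, 0, 1, 0, 1], [], [1, 0, 1, 0, 0, 0], [], [], [], [1, 1, 0, 1, 1], [], [], [1, 0, 1, 0, 0], [], [], [], [], [], [], [], [1, 1, 0, 1, 1, 0], [], [], [], [], [0, 0, 0, 1, 1, 0, 0, 0], [], [], [1, 0, 1, 1], [], [1, 1, 0], [1, 1, 0, 0, 1, 0, 0, 0], [0, 1, 0, 1, 0], [],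 [0, 1, 0, 1, 0], [], [], [], [0, 0, 1], [], [], [], [0, 0, 1, 0, 0], [1, 1, 1, 0, 1], [1, 1, 0, 1, 1, 0], [1, 0, 1, 0, 1, 0], [], [], [1, 0, 1], [], [1, 1, 0, 1, 1], [0, 0, 1, 1, 1, 0, 0, 0], [], [], [], [], [0, 0, 0, 1, 0, 0, 0], [], [0, 1, 0, 1, 1], [], [1, 1, 0, 1, 0, 0, 0], [], [], [], [], [], [1], [0, 0, 0, 1], [], [], []], [[], [], [0, 0, 1, 1, 1, 0, 0, 0], [1, 1, 0, 1, 0, 1, 0], [1, 0, 1, 1, 0, 0], [], [], [1, 1, 0, 1, 0], [], [], [0, 1, 0, 0, 0], [], [], [], [], [], [0, 1, 1, 0], [0, 1, 0, 1, 1, 0, 0, 0], [1, 1, 1, 0, 0], [0, 1, 0], [1, 1, 0, 1, 0, 0, 0], [], [1, 1, 0, 1], [0, 1, 0, 1], [], [0, 1, 0, 0, 0], [1, 1, 1, 0, 1, 0, 0], [1, 1, 0, 1, 1], [], [0, 1, 0, 1, 0], [0, 1, 0, 1, 0, 0, 0], [1, 1, 0, 0], [], [], [1, 1, 0, 1, 0, 0, 0], [], [], [], [0, 1, 1, 0], [1, 0, 1, 0, 1], [0, 0, 0], [], [], [], [], [], [], [],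 [], [1], [], [], [], [], [1, 1, 1, 0, 1], [], [], [], [], [], [0], [1, 0, 0, 1, 0], [], [1, 1, 0, 1, 1, 0], [], [], [], [1, 0, 1, 0, 0], [], [0], [], [1, 0, 1, 0, 1, 0], [0, 0, 1, 1, 1, 0, 0], [0, 1, 1, 1, 0], [0, 0, 1, 0, 0], [0, 0, 1, 0, 1], [], [1, 0, 1, 0, 1, 0, 0, 0], [], [0, 1, 1, 1, 0, 0], [0, 1, 0, 1, 1, 0, 0, 0], [], [], [], [1, 0, 1, 1, 0, 0, 0], [1, 1, 1, 0, 1, 0, 0, 0], [], [1, 1, 1, 0], [], [1, 0], [], [], [], [], [], [1, 0, 1], [0, 0, 1, 0, 1, 0], [], [], []], [[], [], [], [], [], [], [], [], [], [], [], [], [], [], [], [], [], [], [], [], [], [], [], [], [], [], [], [], [], [], [], [], [], [], [], [], [], [], [], [], [], [], [], [], [], [], [], [], [], [], [], [], [], [], [], [], [], [], [], [], [], [], [], [], [], [], [], [], [], [], [], [], [], [], [], [], [], [], [], [], [], [], [], [], [], [], [], [],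 [], [], [], [], [], [], [], [], [], [], [], []]]
def R3 : List (List (List (Fin 4))) := [[[], [], [0], [0], [], [], [], [], [], [], [], [], [], [], [], [], [0, 0], [], [], [], [], [], [], [], [], [], [0], [0], [], [0], [], [], [], [], [], [], [], [], [], [], [0], [], [], [], [], [], [], [], [], [], [], [], [], [], [], [], [], [], [], [], [], [], [], [], [], [], [], [], [], [], [], [], [], [], [], [0], [], [], [], [], [], [], [], [], [], [], [], [0, 0, 0], [], [], [], [], [], [], [], [0, 0, 0], [0], [], [], []], [[], [], [], [0], [], [], [], [], [], [], [], [], [], [], [], [], [0, 0, 0], [], [], [0, 0, 0], [], [], [], [0, 0, 0], [], [], [], [0], [], [], [0, 0, 0], [], [], [], [], [], [], [], [], [], [], [], [], [], [], [], [], [], [], [], [], [], [], [], [], [], [], [], [], [], [], [], [], [], [], [], [], [], [], [], [],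 [0, 0, 0], [], [], [], [], [], [], [], [], [], [], [], [], [], [], [], [0, 0, 0], [], [], [], [], [], [], [], [0, 0, 0], [0], [], [], []], [[], [], [], [], [], [], [], [], [], [], [], [], [], [], [], [], [], [], [], [], [], [], [], [], [], [], [], [], [], [], [], [], [], [], [], [], [], [], [], [], [], [], [], [], [], [], [], [], [], [], [], [], [], [], [], [], [], [], [], [], [], [], [], [], [], [], [], [], [], [], [], [], [], [], [], [], [], [], [], [], [], [], [], [], [], [], [], [], [], [], [], [], [], [], [], [], [], [], [], []], [[], [], [], [], [], [], [], [], [], [], [], [], [], [], [], [], [], [], [], [], [], [], [], [], [], [], [], [], [], [], [], [], [], [], [], [], [], [], [], [], [], [], [], [], [], [], [], [], [], [], [], [], [], [], [], [], [], [], [], [], [], [], [], [], [], [], [], [], [], [], [], [], [],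 [], [], [], [], [], [], [], [], [], [], [], [], [], [], [], [], [], [], [], [], [], [], [], [], [], [], []]]
def R4 : List (List (List (Fin 4))) := [[[], [], [], [], [], [], [], [], [], [], [], [], [], [], [], [], [], [], [], [], [], [], [], [], [], [], [], [], [], [], [], [], [], [], [], [], [], [], [], [], [], [], [], [], [], [], [], [], [], [], [], [], [], [], [], [], [], [], [], [], [], [], [], [], [], [], [], [], [], [], [], [], [], [], [], [], [], [], [], [], [], [], [], [], [], [], [], [], [], [], [], [], [], [], [], [], [], [], [], []], [[], [], [], [], [], [], [], [], [], [], [], [], [], [], [], [], [], [], [], [], [], [], [], [], [], [], [], [], [], [], [], [], [], [], [], [], [], [], [], [], [], [], [], [], [], [], [], [], [], [], [], [], [], [], [], [], [], [], [], [], [], [], [], [], [], [], [], [], [], [],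 [], [], [], [], [], [], [], [], [], [], [], [], [], [], [], [], [], [], [], [], [], [], [], [], [], [], [], [], [], []], [[], [], [], [], [], [], [], [], [], [], [], [], [], [], [], [], [], [], [], [], [], [], [], [], [], [], [], [], [], [], [], [], [], [], [], [], [], [], [], [], [], [], [], [], [], [], [], [], [], [], [], [], [], [], [], [], [], [], [], [], [], [], [], [], [], [], [], [], [], [], [], [], [], [], [], [], [], [], [], [], [], [], [], [], [], [], [], [], [], [], [], [], [], [], [], [], [], [], [], []], [[], [], [], [], [], [], [], [], [], [], [], [], [], [], [], [], [], [], [], [], [], [], [], [], [], [], [], [], [], [], [], [], [], [], [], [], [], [], [], [], [], [], [], [], [], [], [], [], [], [], [], [], [], [], [], [], [], [], [], [], [], [], [], [], [], [], [], [], [], [], [], [], [], [], [], [], [],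 [], [], [], [], [], [], [], [], [], [], [], [], [], [], [], [], [], [], [], [], [], [], []]]
def WY : List (List (Fin 4)) := [[1, 2, 3, 1, 2, 1, 2, 3, 1, 2, 1, 2, 3, 1, 2, 1, 2, 3, 1, 2, 0], [3, 1, 3, 3, 0, 3, 1, 3, 3, 0, 3, 1, 3, 3, 0, 3, 1, 3, 3, 0, 1], [1, 0, 1, 0, 3, 1, 0, 1, 0, 3, 1, 0, 1, 0, 3, 1, 0, 1, 0, 3, 2], [3, 3, 3, 3, 3]]

theorem C_mono {k k' : ℕ} (h : k' ≤ k) : C k' ≤ C k := by
  apply Subgroup.closure_mono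
  rintro g ⟨i, hi, rfl⟩
  exact ⟨i, by omega, rfl⟩

theorem C_zero : C 0 = ⊥ := by
  have : Sset 0 = ∅ := by
    ext g
    simp [Sset]
  rw [C, this, Subgroup.closure_empty]

/-- apply a word in the generators to a point (`Nat` level) -/
def appW : List (Fin 4) → Nat → Nat
  | [], x => x
  | k :: w, x => tb (TT k) (appW w x)

theorem appW_append (v w : List (Fin 4)) (x : Nat) : appW (v ++ w) x = appW v (appW w x) := by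
  induction v with
  | nil => rfl
  | cons k v ih => simp only [List.cons_append, appW, ih]

theorem wordProd_apply (w : List (Fin 4)) (x : Fin 100) :
    ((wordProd gens w x : Fin 100) : ℕ) = appW w x := by
  induction w with
  | nil => simp [wordProd, appW]
  | cons k w ih =>
    have h1 : wordProd gens (k :: w) = gens k * wordProd gens w := by
      simp [wordProd]
    rw [h1, Equiv.Perm.mul_apply]
    show tb (TT k) ((wordProd gens w x : Fin 100) : ℕ) = tb (TT k) (appW w x)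
    rw [ih]

theorem wordProd_append (v w : List (Fin 4)) :
    wordProd gens (v ++ w) = wordProd gens v * wordProd gens w := by
  simp [wordProd]

theorem wordProd_eq_of (v w : List (Fin 4)) (h : ∀ x : Fin 100, appW v x = appW w x) :
    wordProd gens v = wordProd gens w := by
  ext x
  rw [wordProd_apply, wordProd_apply, h]

theorem wordProd_mem_C (k : ℕ) (w : List (Fin 4)) (h : ∀ i ∈ w, i.val < k) :
    wordProd gens w ∈ C k := by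
  apply wordProd_mem
  intro i hi
  exact Subgroup.subset_closure ⟨i, h i hi, rfl⟩

def U (W : List (List (Fin 4))) (β : Fin 100) : P := wordProd gens (W.getD β.val [])

def O (M : Nat) : Finset (Fin 100) := Finset.univ.filter (fun i => M.testBit i.val = true)

/-- one level of the stabiliser chain, from Schreier relations -/
theorem lvl (k k' : ℕ) (hk : k' ≤ k) (b : Fin 100) (M : Nat) (W : List (List (Fin 4)))
    (R : List (List (List (Fin 4))))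
    (hW : ∀ β : Fin 100, ∀ i ∈ W.getD β.val [], i.val < k)
    (hb : M.testBit b.val = true) (hWb : W.getD b.val [] = [])
    (hfix : ∀ i : Fin 4, i.val < k' → tb (TT i) b.val = b.val)
    (htr : ∀ β : Fin 100, M.testBit β.val = true → appW (W.getD β.val []) b.val = β.val)
    (hchk : ∀ i : Fin 4, i.val < k → ∀ β : Fin 100, M.testBit β.val = true →
      M.testBit (tb (TT i) β.val) = true ∧
      (∀ j ∈ (R.getD i.val []).getD β.val [], j.val < k') ∧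
      ∀ x : Fin 100, appW (i :: W.getD β.val []) x.val =
        appW (W.getD (tb (TT i) β.val) [] ++ (R.getD i.val []).getD β.val []) x.val) :
    C k ⊓ MulAction.stabilizer P b = C k' ∧ Nat.card (C k) = (O M).card * Nat.card (C k') ∧
      (∀ β, U W β ∈ C k) := by
  have hu : ∀ β, U W β ∈ C k := fun β => wordProd_mem_C k _ (hW β)
  have hub : U W b = 1 := by
    show wordProd gens (W.getD b.val []) = 1
    rw [hWb]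
    simp [wordProd]
  have hbO : b ∈ O M := by simp [O, hb]
  have hKb : ∀ g ∈ C k', g • b = b := by
    have : C k' ≤ MulAction.stabilizer P b := by
      rw [C, Subgroup.closure_le]
      rintro g ⟨i, hi, rfl⟩
      exact Fin.ext (hfix i hi)
    intro g hg
    exact this hg
  have hS : ∀ s ∈ Sset k, ∀ β ∈ O M, s • β ∈ O M ∧ (U W (s • β))⁻¹ * s * U W β ∈ C k' := by
    rintro s ⟨i, hi, rfl⟩ β hβ
    have hβ' : M.testBit β.val = true := by simpa [O] using hβ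
    obtain ⟨h1, h2, h3⟩ := hchk i hi β hβ'
    refine ⟨?_, ?_⟩
    · have : ((gens i • β : Fin 100) : ℕ) = tb (TT i) β.val := rfl
      simp only [O, Finset.mem_filter, Finset.mem_univ, true_and]
      rw [this]; exact h1
    · have h4 := wordProd_eq_of _ _ h3
      rw [wordProd_append] at h4
      have h5 : wordProd gens (i :: W.getD β.val []) = gens i * U W β := by
        simp [wordProd, U]
      have h6 : wordProd gens (W.getD (tb (TT i) β.val) []) = U W (gens i • β) := rfl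
      rw [h5, h6] at h4
      have h7 : (U W (gens i • β))⁻¹ * gens i * U W β =
          wordProd gens ((R.getD i.val []).getD β.val []) := by
        rw [mul_assoc, h4]; group
      rw [h7]
      exact wordProd_mem_C k' _ h2
  have htr' : ∀ β ∈ O M, U W β • b = β := by
    intro β hβ
    have hβ' : M.testBit β.val = true := by simpa [O] using hβ
    apply Fin.ext
    show ((wordProd gens (W.getD β.val []) b : Fin 100) : ℕ) = β.val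
    rw [wordProd_apply]
    exact htr β hβ'
  refine ⟨?_, ?_, hu⟩
  · exact level_stabilizer (Sset k) (C k') b (O M) (U W) (C_mono hk) hbO hub hS hKb
  · exact level_card (Sset k) (C k') b (O M) (U W) (C_mono hk) hbO hub hu hS hKb htr'

set_option maxRecDepth 100000 in
theorem lvl4 : C 1 ⊓ MulAction.stabilizer P (4 : Fin 100) = C 0 ∧
    Nat.card (C 1) = (O M4).card * Nat.card (C 0) ∧ (∀ β, U W4 β ∈ C 1) :=
  lvl 1 0 (by norm_num) 4 M4 W4 R4 (by decide +kernel) (by decide +kernel) (by decide +kernel)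
    (by decide +kernel) (by decide +kernel) (by decide +kernel)

set_option maxRecDepth 100000 in
theorem lvl3 : C 2 ⊓ MulAction.stabilizer P (2 : Fin 100) = C 1 ∧
    Nat.card (C 2) = (O M3).card * Nat.card (C 1) ∧ (∀ β, U W3 β ∈ C 2) :=
  lvl 2 1 (by norm_num) 2 M3 W3 R3 (by decide +kernel) (by decide +kernel) (by decide +kernel)
    (by decide +kernel) (by decide +kernel) (by decide +kernel)

set_option maxRecDepth 100000 in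
theorem lvl2 : C 3 ⊓ MulAction.stabilizer P (1 : Fin 100) = C 2 ∧
    Nat.card (C 3) = (O M2).card * Nat.card (C 2) ∧ (∀ β, U W2 β ∈ C 3) :=
  lvl 3 2 (by norm_num) 1 M2 W2 R2 (by decide +kernel) (by decide +kernel) (by decide +kernel)
    (by decide +kernel) (by decide +kernel) (by decide +kernel)

set_option maxRecDepth 100000 in
theorem lvl1 : C 4 ⊓ MulAction.stabilizer P (0 : Fin 100) = C 3 ∧
    Nat.card (C 4) = (O M1).card * Nat.card (C 3) ∧ (∀ β, U W1 β ∈ C 4) :=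
  lvl 4 3 (by norm_num) 0 M1 W1 R1 (by decide +kernel) (by decide +kernel) (by decide +kernel)
    (by decide +kernel) (by decide +kernel) (by decide +kernel)

set_option maxRecDepth 100000 in
theorem card_O : (O M1).card = 100 ∧ (O M2).card = 63 ∧ (O M3).card = 24 ∧ (O M4).card = 4 := by
  decide +kernel

theorem card_C4 : Nat.card (C 4) = 604800 := by
  rw [lvl1.2.1, lvl2.2.1, lvl3.2.1, lvl4.2.1, C_zero, card_O.1, card_O.2.1, card_O.2.2.1,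
    card_O.2.2.2]
  simp

/-! ### transitivity and suborbits -/

theorem U_apply (W : List (List (Fin 4))) (β x : Fin 100) :
    ((U W β x : Fin 100) : ℕ) = appW (W.getD β.val []) x.val := wordProd_apply _ _

def col (y : Fin 100) : Fin 3 := colL.getD y.val 0
def rep (c : Fin 3) : Fin 100 := repL.getD c.val 0

set_option maxRecDepth 100000 in
theorem WV_ok : ∀ y : Fin 100, (∀ i ∈ WV.getD y.val [], i.val < 3) ∧
    appW (WV.getD y.val []) (rep (col y)).val = y.val := by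
  decide +kernel

set_option maxRecDepth 100000 in
theorem W1_ok : ∀ y : Fin 100, appW (W1.getD y.val []) 0 = y.val := by
  decide +kernel

set_option maxRecDepth 100000 in
theorem col_count : ∀ c : Fin 3, (Finset.univ.filter (fun y : Fin 100 => col y = c)).card =
    (![1, 36, 63] : Fin 3 → ℕ) c := by
  decide +kernel

theorem col_zero : col 0 = 0 := by decide +kernel

theorem exists_mem_C4 (y : Fin 100) : ∃ g ∈ C 4, g 0 = y :=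
  ⟨U W1 y, lvl1.2.2 y, Fin.ext (by rw [U_apply]; exact W1_ok y)⟩

theorem C3_fix : ∀ g ∈ C 3, g 0 = 0 := by
  intro g hg
  have : g ∈ C 4 ⊓ MulAction.stabilizer P (0 : Fin 100) := by rw [lvl1.1]; exact hg
  exact this.2

theorem exists_mem_C3 (y y' : Fin 100) (h : col y = col y') : ∃ g ∈ C 3, g y = y' := by
  have h1 : ∀ z : Fin 100, U WV z ∈ C 3 ∧ U WV z (rep (col z)) = z := by
    intro z
    exact ⟨wordProd_mem_C 3 _ (WV_ok z).1, Fin.ext (by rw [U_apply]; exact (WV_ok z).2)⟩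
  refine ⟨U WV y' * (U WV y)⁻¹, (C 3).mul_mem (h1 y').1 ((C 3).inv_mem (h1 y).1), ?_⟩
  rw [Equiv.Perm.mul_apply]
  have h2 : (U WV y)⁻¹ y = rep (col y) := by
    rw [Equiv.Perm.inv_eq_iff_eq]
    exact (h1 y).2.symm
  rw [h2, h]
  exact (h1 y').2

/-! ### generation by elements of order 5 -/

set_option maxRecDepth 100000 in
theorem WX_ok : ∀ i : Fin 4, ∀ x : Fin 100,
    appW (WX.getD i.val [] ++ WX.getD i.val [] ++ WX.getD i.val [] ++ WX.getD i.val [] ++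
      WX.getD i.val []) x.val = x.val ∧
    appW (WY.getD i.val [] ++ WY.getD i.val [] ++ WY.getD i.val [] ++ WY.getD i.val [] ++
      WY.getD i.val []) x.val = x.val ∧
    appW (WX.getD i.val [] ++ WY.getD i.val []) x.val = tb (TT i) x.val := by
  decide +kernel

theorem gens_mem_of_five (N : Subgroup P) (hN : ∀ g ∈ C 4, g ^ 5 = 1 → g ∈ N) : C 4 ≤ N := by
  rw [C, Subgroup.closure_le]
  rintro g ⟨i, -, rfl⟩
  have hmem : ∀ w : List (Fin 4), wordProd gens w ∈ C 4 := fun w =>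
    wordProd_mem_C 4 w (fun j _ => j.2)
  have h5 : ∀ w : List (Fin 4), (∀ x : Fin 100, appW (w ++ w ++ w ++ w ++ w) x.val = x.val) →
      wordProd gens w ^ 5 = 1 := by
    intro w hw
    have h1 : wordProd gens w ^ 5 = wordProd gens (w ++ w ++ w ++ w ++ w) := by
      rw [wordProd_append, wordProd_append, wordProd_append, wordProd_append]
      simp only [pow_succ, pow_zero, one_mul]
    rw [h1]
    ext x
    rw [wordProd_apply, hw x]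
    rfl
  have hx := hN _ (hmem _) (h5 (WX.getD i.val []) (fun x => (WX_ok i x).1))
  have hy := hN _ (hmem _) (h5 (WY.getD i.val []) (fun x => (WX_ok i x).2.1))
  have hxy : gens i = wordProd gens (WX.getD i.val []) * wordProd gens (WY.getD i.val []) := by
    rw [← wordProd_append]
    ext x
    rw [wordProd_apply, (WX_ok i x).2.2]
    rfl
  show gens i ∈ N
  rw [hxy]
  exact N.mul_mem hx hy

end Cfsg.Agent.Lib.Helper63J2a
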