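import Cfsg.Agent.Lib.Helper63MJ3M

set_option autoImplicit false
set_option maxRecDepth 1000000
set_option maxHeartbeats 0

namespace Cfsg.Agent.Lib.Helper63MJ3P2

open Cfsg Cfsg.Spor Cfsg.Agent.Helper64J3 Cfsg.Agent.Lib.Helper63PCDefs Cfsg.Agent.Lib.Helper63PCCode Cfsg.Agent.Lib.Helper63MJ3M

def N0 : ℕ := 0x984c2311b4000004c32190000041c00001296000
def N1 : ℕ := 0x309406200830110986400200030300042040812
def N2 : ℕ := 0x4061180860506c2211080204020c050288420582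
def N3 : ℕ := 0x98fd051373caeba5eaf590d0681f8f67b91b3dd4
def N4 : ℕ := 0xa71fe480523a7936357e181a0102f8c627697700
def N5 : ℕ := 0x2cf49aa8041aa97135683e69d4c1ced4e5208e20e
def N6 : ℕ := 0x34949845aa2355eb02ae0dc53811ad4a4caa298cb
def N7 : ℕ := 0x2711fd730893c9090c1682c53cc0388ed6e985ccb
def N8 : ℕ := 0x2ce81cee806279410100917f35d823933af13bb91
def N9 : ℕ := 0x33978b8d181c45c0040c5a25367864f03a5ea7748
def N10 : ℕ := 0x25715b23299300010c978bc5b68d3c14936b5da43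
def N11 : ℕ := 0x34e428a6e4d278412182f05fa69907107a4560bd8
def N12 : ℕ := 0x15320bc7bebb1aed3a9cf3fe72a3b648e05e67f12
def N13 : ℕ := 0xca74baa7ed7c948abd5dffcccb5827b3107fcfc0
def N14 : ℕ := 0x8d4e0f7e56a598831dffa79095c04dfe722fe948
def N15 : ℕ := 0x141a9fdcd61d51ac2c97bee8738bb493ecea6491b
def N16 : ℕ := 0xe825d7973d7020daf0fbe7cced1b6a81c93ecd83
def N17 : ℕ := 0x990e67dcddad8e99546bfeb9911b24f86b0ff998
def N18 : ℕ := 0x53a9d1ffaaf4bc11e0fdf5e21aa02db8cfc27f09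
def N19 : ℕ := 0x3dba9ccff8b28fea46b75cfe23301e8df4bfa0baf
def N20 : ℕ := 0x27b4dbdb1632db95667fa83084a52351abbbc61d5
def N21 : ℕ := 0x5b43ca9e836f17b84e3bea3009c5470487fefc30
def N22 : ℕ := 0x25be0a57d53654c7762f3d7a62311e06bd2971f2c
def N23 : ℕ := 0x2fb54f987b9650ddc0e6ed80cce583d0ee8f9c355
def N24 : ℕ := 0x4bc8b7d198af63fe7d4b1cf3e95f6b211c296fc9
def N25 : ℕ := 0x2f97172f20a5ce5ffe4cd735e531becc723877963
def N26 : ℕ := 0x2cf0cba5a760bbdfd97cdae16ccda34baa432db96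
def N27 : ℕ := 0xa69ec254c9c71a7f0c31086ee557a8fe4278c6a2
def N28 : ℕ := 0x1441a47686d78b0291238d63f5a1d9e2b0b1a5bc1
def N29 : ℕ := 0x804010000200800010080200000020080401008
def N30 : ℕ := 0x26130c8000020007000944a58000004c2311b41a0
def N31 : ℕ := 0x100400008040000802000040200004010000201
def N32 : ℕ := 0xe2500160b0001308c00d06800130c80000201
def N33 : ℕ := 0x20081448202c048400711081a0104426000c80040
def N34 : ℕ := 0x1c4bf5e81cd30d7007c9ae9d4c3b8ec0066800b0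
def N35 : ℕ := 0xa0302094501022088042110240b0884012181000
def N36 : ℕ := 0x140c0112840b0241300c42906802120c82400200
def N37 : ℕ := 0x30201442042c168082711801a0504026090808040
def N38 : ℕ := 0x70288010580001846200034020884400180008
def N39 : ℕ := 0xba7b803b444003f416005003a7d7a2528001a0
def N40 : ℕ := 0x2497e656b023aad05d8240822475f854c8706034
def N41 : ℕ := 0x3a49091e6c84f7e5aa08058a94c96b40a19460c04
def N42 : ℕ := 0x2440ce98ce405162e996156b4652e2be97bdd5d30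
def N43 : ℕ := 0x30821453f09c223c7b25cb09f86abcfd4ffdb4f36
def N44 : ℕ := 0x2e84d3d18361dc8d0a28440829dbf0618697952a4
def N45 : ℕ := 0x892b4283a7c014089d0028257988a3e25f8eaa44
def N46 : ℕ := 0x2d1ad207478b22803500015d8af095cf58bf0816a
def N47 : ℕ := 0x2a499582cf8bd207630017727b4101f52098160c2
def N48 : ℕ := 0x35d384a56b9c7f2105dc41effd4829a0cc3768c19
def N49 : ℕ := 0x4c04000c88040c0c0102890204a1001406206804
def N50 : ℕ := 0x1d9300066960b02283897eb9875b5c01257927530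
def N51 : ℕ := 0x98042201b4080084820190008040c0a251216090
def N52 : ℕ := 0x4130c0280104a231081c0200805403040440800c
def N53 : ℕ := 0x25f3e192cc2c042472562fd9f2438b30d88f14e04
def N54 : ℕ := 0x1cfc76b2510102388e63c45cbcc2d55ea31d58950
def N55 : ℕ := 0x2e550e4f0959e5deae91815181185f80f62f94f8
def N56 : ℕ := 0x1154011c9776bb5ab9cf218e2141642ff8ecd262f
def N57 : ℕ := 0xf4beeedccfe71b885e37e6e23dba14d7ff7f3b4d
def N58 : ℕ := 0x33e9d91f730f4c873a3f2d6096bac01b5bfa45353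
def N59 : ℕ := 0x12761ff14dd151cccd6aee8d82dc9cabde59c5ee2
def N60 : ℕ := 0x15076e3ee0ce3a91953a17fab293b39d36e5bbbd4
def N61 : ℕ := 0x21e96fd53f9dcfe718ac49d4c4fa76493ffe8e748
def N62 : ℕ := 0x21eac676ffe9f5fa5b2c49dd64106b11ddb3a571e
def N63 : ℕ := 0x1a3757debced0c1247fbc3b12c424d60eeb8fcec3
def N64 : ℕ := 0x2447cdebbd592b3368f97bdb358b590488fbb29e8
def N65 : ℕ := 0x3a42a6fedd2c732e6658adf29589313e24ee26518
def N66 : ℕ := 0x110bf5dfb39594bdce425cb502ba46b53d9fd4c01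
def N67 : ℕ := 0x2a687fe99f760a57935f0b38a2172c76c3b378910
def N68 : ℕ := 0x330fa02ff98af346d44be8c284c915b44c586551a
def N69 : ℕ := 0x344c098ffb97616dbe7eeda7b650f57ed63cce478
def N70 : ℕ := 0x13820bf355425c49937ade95f4a34eadafe990c0d
def N71 : ℕ := 0x203166bce29c53c414fe10fd2cdd29657cf798111
def N72 : ℕ := 0x1ee80ee937d67f259dfd0f9ca9679c3a8ec9f449
def N73 : ℕ := 0x3b35538dd9db9632671dbbb8a9dafb923d3718a1b
def N74 : ℕ := 0x24658b33b0ffea1f4ee7fef25792ffd8cb86615db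
def N75 : ℕ := 0x3a7562909b7688850d60bb9406236b1251f9c7c83
def N76 : ℕ := 0x3c4d8c4239aa63e189a655718086cdd0de393ab92
def N77 : ℕ := 0x36fa2f1992ca338f5d0b74e414088ef59a714c239
def N78 : ℕ := 0x20081042042416840061080180d04426190c88000
def N79 : ℕ := 0xa030288430480208802230830130884432101008
def N80 : ℕ := 0x140c251212020241308444404802120484000201
def N81 : ℕ := 0x30201408240016808270008100d04026100c80040
def N82 : ℕ := 0x700014604820018400318301a0884032181000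
def N83 : ℕ := 0x14062500920b0240108406406802130486400200
def N84 : ℕ := 0x60a0406401840884c240a0250208c04060080200
def N85 : ℕ := 0x28161908a130011010283444825110880e008040
def N86 : ℕ := 0x58042218c240c20000504009444231381400008
def N87 : ℕ := 0x16030086008848804c34020051080c46030200001
def N88 : ℕ := 0xc14180ca010911018083444a011180c04048000
def N89 : ℕ := 0x1050203210c001c22000506289006220300401008
def N90 : ℕ := 0x140b04844098088848340a0201288846070280201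
def N91 : ℕ := 0x2c06110c21309100182824002240188c0e040040
def N92 : ℕ := 0x1cca0ee02b5faf26282ed7c007ac01e42291400b0
def N93 : ℕ := 0x3390c84eed6bc58cc714d0d3c2d67034005202416
def N94 : ℕ := 0x1249ed79fee3c5f4b614c9f8d5c7493a0047bace6
def N95 : ℕ := 0x3248147fde685a2b9adad83758124d979128d21ae
def N96 : ℕ := 0x1a0225df9a1da1c073ff1aae6961ed926a2d260a7
def N97 : ℕ := 0x179dc388621c09227d6bc3832d58a192c65c008a7
def N98 : ℕ := 0x7f21271278321394fb172d337a874b895c58a194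
def N99 : ℕ := 0x34b66e0c24505cd72b74255da6f52e15f3b0a7438
def N100 : ℕ := 0xd9d4141661e036ac961c723b4150550ea7a10e25
def N101 : ℕ := 0x6f3a2780f03e0145fb17a6764a954329843d0154
def N102 : ℕ := 0x3cde5c4f20f04497a9fe2c496ef50e96b220e5432
def N103 : ℕ := 0x3189f2d523580a1a9dffca69b7dd6ace176ce59a
def N104 : ℕ := 0x276bb8ee7e99f451b555527b91d5eccebcc931603
def N105 : ℕ := 0x1c4bd012face6d70075c4a054ebb8eccd6696000
def N106 : ℕ := 0x3af25792600aee3b33400580008a0ed012e61d6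
def N107 : ℕ := 0x260f5d88f008a308cbd02320204891c9262c67c90
def N108 : ℕ := 0x9c127a6a619723d0c979a9875a215510106080c
def N109 : ℕ := 0x2bc34a31d6a1949039c84d681608e239adc7b2f30
def N110 : ℕ := 0x1172c614ba7418ae2d3249a582401c4df5b27c554
def N111 : ℕ := 0x3c275d42f50e210dcf124a10b00193014a9a74c1a
def N112 : ℕ := 0x20c7eab89f0154f1995a006c040852788455f0db3
def N113 : ℕ := 0x115a7447ba5412c21f2109a102409e47b5a0be586
def N114 : ℕ := 0x3e2a49ca950ea2054dc26b30b04903c86ebe3788a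
def N115 : ℕ := 0x169e84d42040b0071359322f15534e8b614ba453a
def N116 : ℕ := 0x2e1181e6b8984080086b7d294721527bb550ba434
def N117 : ℕ := 0x5c091aede030820091e6d81e8441ed752a23143c
def N118 : ℕ := 0x38b011b7d0c04184031ac4983d0137d2aa5070637
def N119 : ℕ := 0x251585f4d0880880887811bf4501f6e0b042b04f6
def N120 : ℕ := 0x5e0353cd2110900190d49b12861aa4e1622734a6
def N121 : ℕ := 0x30bc0735d8c20184011be9ba350c81dbaac4722a6
def N122 : ℕ := 0x2f140536f818488088337c9f0620e4bb95522a0e6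
def N123 : ℕ := 0x4a0a5b69e13012019172431e025bc9d5680620be
def N124 : ℕ := 0x2fa30702a75e0f58733c3214d687789d4b8049140
def N125 : ℕ := 0x2a96d7f14b23b0fa1b25c2aa6ea68d222502aa58c
def N126 : ℕ := 0x39381262c521aee2cc31bb151a9c232f59a040812
def N127 : ℕ := 0x7248adc7a60a7b557a6746ca31240e74a10a0582
def N128 : ℕ := 0x3571064d2008a7617e32a1e9972884179e4833dd4
def N129 : ℕ := 0x1ce52309e4a194590bc85f15e24f948a92c197700
def N130 : ℕ := 0x38dda0313e7438e225de43eabe0132a932701ca72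
def N131 : ℕ := 0x3658b646050e252d6ab1c9dfc56822479a4e28dde
def N132 : ℕ := 0x1e8833c8a101545cafda72313a6610c293415659b
def N133 : ℕ := 0x381db8dfb095c8f0d065bd376eb75d6a714ffa033
def N134 : ℕ := 0xe48bfc95d6239121627fd21edb75b95f72fc94bc
def N135 : ℕ := 0x2547baf95c83abbe55a0b224d98d3333dc50500d0
def N136 : ℕ := 0x19ea741fa070fd13e22c1c444b5846f4368483402
def N137 : ℕ := 0x3f6a7edc63546176f91e5c4f5873bbc036f58ed90
def N138 : ℕ := 0x33aee759659a343adb3682ae79eee34a3bfeb7d38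
def N139 : ℕ := 0xb3e74396c975e325be09b7c1ffcc8cbfb7f74f15
def N140 : ℕ := 0x262fec574fc6eb326b4e596dd31ea9997b4354d52
def N141 : ℕ := 0x2bcf57da0928ed3e4f77cb8eea8af519764ef5db2
def N142 : ℕ := 0x3f1c160f6a7827152569de011e5909e9130d611de
def N143 : ℕ := 0xea0a393ac8ba6eb84b631cfb3caf1256341a7693
def N144 : ℕ := 0x299cb6a27cf1fce57e2cc51cb6b2da0e546e12ef0
def N145 : ℕ := 0x38ba29a919509433e1c1139b72a2bd7ac85488e0c
def N146 : ℕ := 0x4020000400008000100002008060000400000040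
def N147 : ℕ := 0x984c0011801a0004c00190008041c002500000b0
def N148 : ℕ := 0x309842006034110986432001030300448202416
def N149 : ℕ := 0x3afd7128153aee3b3359a002c08a0ef5e83ace6
def N150 : ℕ := 0x260f5c6ec546a708cbd66810905891c97e93121ae
def N151 : ℕ := 0x3012569c180d00a92ce76b34328505e92c0c5e506
def N152 : ℕ := 0x1ff36d2cddd79618297afd173758975416d41bc7a
def N153 : ℕ := 0x1dffc1375bfeeaaa05b65485b6abc66ab7d8b079d
def N154 : ℕ := 0x1ef6f5f6cbabef056a15813da69d88fdf2f336443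
def N155 : ℕ := 0x149ffdbe9061cf588d68f923a618a50f3a52598b2
def N156 : ℕ := 0xfda77a51af8b383153f5da1e6ebd0abb24ae378e
def N157 : ℕ := 0x1fbbe126eabfbc454896e899bed4baadb6637e2d3
def N158 : ℕ := 0xffed9b6ddf75d50ad329435b550335f3ec642ce8
def N159 : ℕ := 0x37629523bd826903dc2652f70723cff915fa5cd16
def N160 : ℕ := 0x10a772e614005df559bc8871a0a76d4f5e9d55dba
def N161 : ℕ := 0x2f61b335d400674414b10eb9d7b5ddbf68e2e0c7e
def N162 : ℕ := 0x11ee9734ba908405a48b2a5fe85dffaf1c3ad15a7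
def N163 : ℕ := 0x33345566f6323869b4a325e07fe17bef2ea5fe2a4
def N164 : ℕ := 0x397e9c8cf403a55d31a70f283e1db5bfd509d8a1f
def N165 : ℕ := 0x8a0125e8400e607e8489a0264e898ec2666800b0
def N166 : ℕ := 0x1ec0a58bdc959e589309a479867ae97ac83ab4000
def N167 : ℕ := 0x3199b8f31376bba614c03c89b2464d8d0c29c0830
def N168 : ℕ := 0x1a833a4728fe711759c035452035c4d5f329e600a
def N169 : ℕ := 0x2959c18a670f4c76e92d46222447ac0a6e6b008a3
def N170 : ℕ := 0x3761b0b145d1513edb10aacb54ab11bb1ccbea194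
def N171 : ℕ := 0x10ef1e5400ce3a32dbca14556a34e68792b9e7418
def N172 : ℕ := 0x33546548639dcf127b6c02a0ad0738da0e7d10e21
def N173 : ℕ := 0x352922394de3893e4d418ad9458a37a11dcd30154
def N174 : ℕ := 0xaee2c1728786b37cb0a31516a116256f39925412
def N175 : ℕ := 0xaf26ea31134cdfeb49ef796ede882560cf30e5d6
def N176 : ℕ := 0x1d1ee084abb203abfa34d7db1ff684cabc9cf6cb8
def N177 : ℕ := 0x22db8231ca27912cc615025b19be5cca8acaddde0
def N178 : ℕ := 0x36515c16396450359a68a14c23b73bb19071f6b2c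
def N179 : ℕ := 0x3cc10d82051c1042934956a2c4966744be240c957
def N180 : ℕ := 0x30462712e9446bd88500c2ab5cf2b8e120339859
def N181 : ℕ := 0x21282e0e2702a8469b83080f1630e1c302406873b
def N182 : ℕ := 0xa2f01c124a06524f542212de024e8bab048154cf
def N183 : ℕ := 0x142804cb2cc8747f27b8e854890186d0085261d9
def N184 : ℕ := 0x2f130edf6eec90d07a1f6fb9f242d400260000121
def N185 : ℕ := 0x5e0c59b273d381e0152ecdcbcc11a2884c20c024
def N186 : ℕ := 0x18b414e10f471522c093143f1552835530906180c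
def N187 : ℕ := 0x24178a4e4b4c52b47a0d2b2d306a444a021200321
def N188 : ℕ := 0x5c073db6b1db21a874bedec36cd18a1844044064
def N189 : ℕ := 0x18b806bb67678603505a7d9f961aa304308021804
def N190 : ℕ := 0x2f168c9527e8c2f44816469de22ad04a261200320
def N191 : ℕ := 0x22952c947f9d6a8c10ba15d6f1eaa480104400242
def N192 : ℕ := 0x25580f1247439d04a8ac419c1e75303a1308890c0
def N193 : ℕ := 0x16a106f0aa6c4328b519c2bd910c0695c26102218
def N194 : ℕ := 0x28d50c4e7f99a2a9163939d662cb2452184008441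
def N195 : ℕ := 0x3450a99b0e738c410a6764b8de3914b0120898008
def N196 : ℕ := 0x214987671baeeef161743ea873cc8b02bc8ec7793
def N197 : ℕ := 0x26130c8640000107000004a002c0004c0011b4000
def N198 : ℕ := 0x2e7834ccc92ee5a1ea8f071eb4c1e911a8a5a0506
def N199 : ℕ := 0x178da31bd131467c3748e0cd5472dd38ad3e34080
def N200 : ℕ := 0x23f81eb17a52b2ab8259149d384f5f0f498f42820
def N201 : ℕ := 0x36352416e4aef6c45acc239c37c94bd1c11560106
def N202 : ℕ := 0xdcd07909da5dc34a541c4fdd61a7d62e50ca4080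
def N203 : ℕ := 0x3f8bcb03b65822aecf601b13f392096262668844a
def N204 : ℕ := 0x3f2daa0f60ba415d34e4164ac7a51849d6ad0089
def N205 : ℕ := 0x14367254b4e154d69871c88317c66a107aa5ca001
def N206 : ℕ := 0x258f4f48b64c2886dd323217b0fa8d600f720900a
def N207 : ℕ := 0x1a5c08cb75c5ec4fe100643284283cf2a35522030
def N208 : ℕ := 0x1602a8d9c7682d78d8910c0142af3794514280424
def N209 : ℕ := 0x807c3caeefcdd78d8bd4faf60dc6732cb0fb217c
def N210 : ℕ := 0x3c8bf1efbb217cb912608d4b148d43d86df46dac8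
def N211 : ℕ := 0x4c26080901281c06230380001000c16110ca1009
def N212 : ℕ := 0x1d8ec235f3424b227908a44002c140e6ee66b5da1
def N213 : ℕ := 0x2b0d514bc18f1184f081480905a38849de27eb04
def N214 : ℕ := 0x4163f22d6b716930944029c120023325a94cd95a
def N215 : ℕ := 0xd8a42f4bbd6c862490880548080c4e4877424fab
def N216 : ℕ := 0x3b1c54ebdaa69144f091080005b281cddc4b69d5
def N217 : ℕ := 0xc7619ab96015f9389c522981208053173b40fd00
def N218 : ℕ := 0x1486c0e5dad483427900a45482c1c426eb52b5b2a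
def N219 : ℕ := 0x2a58b6f955351a0d294ccc0dbb399eac6dfdb8f91
def N220 : ℕ := 0x3e8021ca8041a69fb1c69db5a3e5acb368dcdce4b
def N221 : ℕ := 0xf2fb8fcb8d1167c67db16f226c4faf0b87c17b38
def N222 : ℕ := 0x31cb8a10aa5bab747d10cd02e1075b4c16e2f4391
def N223 : ℕ := 0x1032edd07b1e974f0fcc8329bca0f5d0c0004d9f4
def N224 : ℕ := 0xb000dc7c9456969d264624fae8075b9419d7a7a3
def N225 : ℕ := 0x1dc3ee5ef7df93ce84ed367e1f51425733b3c7026
def N226 : ℕ := 0x14b4db4d55733bef6bcd0af78e264495129579435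
def N227 : ℕ := 0x37a28a81ed742a02099550805655448960321e723
def N228 : ℕ := 0x2cbc78a2e47fd946bc678a672d549a20de79ec55e
def N229 : ℕ := 0x35799ae2e34b2ba20e855f7130ac43dfc48d5e47b
def N230 : ℕ := 0x31e113b38e5bab80aeab0ba775ef4d046b16fd8db
def N231 : ℕ := 0x2edb08e979051a86423a9937028d0bb66e5043484
def N232 : ℕ := 0x1cb27b9ebf41a5ef0bd4eba1124666d05e437287f
def N233 : ℕ := 0x3ce01ec9764eb49f110ccc01021f3aebbe830978c
def N234 : ℕ := 0x3c8e435366b92a598b8120a089779c920115c30ee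
def N235 : ℕ := 0xb0991d3d8e0b7fea78bafd27fcb69ba44ec8ad97
def N236 : ℕ := 0x1be1574b567c1b66efe43657874f0161f88533497
def N237 : ℕ := 0x3611842e18a4643c4b61f61978edc69b479787a9f
def N238 : ℕ := 0x262248fbd48166b87958d63d57573eec9f0acf546
def N239 : ℕ := 0x38d6e85e2b2013d5ddbf9443cbefa688123e68595
def N240 : ℕ := 0x18bbe8135e27a80eda0d3f71954a42b664d52ede6
def N241 : ℕ := 0x3f5edce684cd17e199de0c73288b1357cf053b13
def N242 : ℕ := 0x5f4c71b5d19863a490a051f1b4e46c48a4c790e5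
def N243 : ℕ := 0x1b27c9f6a0c7006e7272471e3770873900fad3ea2
def N244 : ℕ := 0x25dbc25ac539ebc8ab1b32f4c8c7bdef254cc013a
def N245 : ℕ := 0x108a373964c0c862b36c15f3a99c38ba2852a8e6
def N246 : ℕ := 0xbd2af95d3b292597e961b124132ddaa9d231f6d9
def N247 : ℕ := 0x3b5c1c1ed37349f1d700eec7c26fbeb56af840788
def N248 : ℕ := 0x205d22e41c18248a0d6ce0eee0566239349de2e9b
def N249 : ℕ := 0x2c8919acc2d59fa0960bd4f6feba073d803e7ae7f
def N250 : ℕ := 0x1fac50c7007ba53dc44bc6b1f60a82ddefcb7f44f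
def N251 : ℕ := 0x131cb52c018bc1d2dc378a12b9b2daf62bb9ea67a
def N252 : ℕ := 0x3ab605237452e182a1e67e19d75f4f5c61d546bac
def N253 : ℕ := 0x1c9438bcea006c8bf51541d0832b41d6584f941b1
def N254 : ℕ := 0x296c7ed770f2b38c1711d75a52679bbfbce04106b
def N255 : ℕ := 0x341df07ada1e94b06179adcb73a8b6efddd31917
def N256 : ℕ := 0xe53ec2a790e88595a999d9be931430f0da4351d7
def N257 : ℕ := 0x30e353a816b5e746fa28b7cc94adb97f03bab51f1
def N258 : ℕ := 0x3371dc73d4453a4758ae50c65327005e8a7ad36d6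
def N259 : ℕ := 0x2f03675c862b6d0f52f56332b8f7811202086d333
def N260 : ℕ := 0x84e38b9c87e41002f390846327ce7678d00d0d57
def N261 : ℕ := 0xd9cdf9bc3808ae74c5c3defdcbf01e1c519a07d8
def N262 : ℕ := 0x14891d069834217eebe2072171b1512958122ca21
def N263 : ℕ := 0x1e1f33f27bfe77428e862b3bff1124d4a3a57ad7f
def N264 : ℕ := 0x116f52090317d1e0682076018d132d681041e46b
def N265 : ℕ := 0x2858deaa203460e3436733107b91c8994ba4fc164
def N266 : ℕ := 0x2fe9863b6d82bdff7dd33186669a97d061f393922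
def N267 : ℕ := 0x365326742452fc339f6d8277a79a899d1f6eb247a
def N268 : ℕ := 0x1df3b4d1864b7834d55ac6cdfd07063a5edcf38a2
def N269 : ℕ := 0x3cffa0ade15c91b799e988342ce5eca18152c4163
def N270 : ℕ := 0x9dc39a4d78683d73df7ff8dcc161f9420d7835b9
def N271 : ℕ := 0x1272610a7a869757dffee1e4a5895585591830708
def N272 : ℕ := 0x80705f83e6c398461a8ad653f0f6cb76869543f3
def N273 : ℕ := 0x4f908d2867895c4603c227eb75cec261ec697893
def N274 : ℕ := 0x36a33a3bfae193111e8dbdb133cd45a625de5554b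
def N275 : ℕ := 0x22efbf314ba0debe38fb164920d469a7f3e02810e
def N276 : ℕ := 0x397191af449c229f1931c66e995d883a9eaa3461a
def N277 : ℕ := 0x1e26c6ce37d6a16b2b2162aebe4276985b70aa16b
def N278 : ℕ := 0x2058ced666df6d6e06fc4c5d83c3da69018d6a9c7
def N279 : ℕ := 0xfadc038cda6a787d83c313f638be8a86bef12223
def N280 : ℕ := 0x1c2898ada659a70324d33bda0023c2003e65373a3
def N281 : ℕ := 0xa449e11899d2052e3c32bd28b89de8d6da70fe3
def N282 : ℕ := 0x2fb92f7f56d4fd8f4b5d5aef00d43923e3f9f097c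
def N283 : ℕ := 0x96fa7539e7446d1e5939e7df7dd4d439980805f4
def N284 : ℕ := 0x7204f06bbc527d167bfbdf7e06428596bb939095
def N285 : ℕ := 0x35da176427a9d7be37e558af3c9c65e6a3af5a101
def N286 : ℕ := 0x2317e789a8352557539b709d258f02366c846d391
def N287 : ℕ := 0x11076eab80c45a2d202e12ef2868de8bcbf59cb2d
def N288 : ℕ := 0x1cb7db96be1632530da5de9f3455343dcce9c1d6
def N289 : ℕ := 0x2dcaa4c7887eacde68b61a1230119d9ad65c2662f
def N290 : ℕ := 0x914bd17bbe15f95a974a7f1f0c8d3c2448d8318f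
def N291 : ℕ := 0xbae046b17ef3bf80e77a6ae681ef5f588564bd49
def N292 : ℕ := 0xf67f0e6c51e0e6e1d42203d0311f6006c7541c9a
def N293 : ℕ := 0x2f5311570eb962fee6f87705ff86750f1788964d0
def N294 : ℕ := 0x335effe19154f31c62e12e3c2f699647ff29f083
def N295 : ℕ := 0x3ecc28414564ba80c99984d7045b45cc95f01a3f3
def N296 : ℕ := 0x219a37526477510fcd08c99292138f97273235d75
def N297 : ℕ := 0x2fc263cedc317dba22f533b551e4f01a08ce49ffd
def N298 : ℕ := 0x11bbcf3a0df7dd33116926709715ca41e707a7da0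
def N299 : ℕ := 0x3f2a0ac789b433c4f1b27d50fb78922c122da3708
def N300 : ℕ := 0x3fb4a72ff9dd399721ff9ac40937182427f1dda30
def N301 : ℕ := 0x11572314c9cb30c6c4cffad24f68d1b99e40de50f
def N302 : ℕ := 0x1cb1192446d5ff53d0acc9d8f8cb585fa359afd4c
def N303 : ℕ := 0x3cc10ea3c402610bf45275bcb8c5b64e03620a577
def N304 : ℕ := 0x10d63a942949b92f44556c718bf2c77ada88c3d6c
def N305 : ℕ := 0xb65353c475e891812a445c51f4c91c7a94e61ffd
def N306 : ℕ := 0x10a81fc8c465c8054282e7a4b3e454894d82d864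
def N307 : ℕ := 0xd9e62e7b1879715bcfb503c5c2cf8ad4144fee28
def N308 : ℕ := 0x38f10848feee9ce322d1b8db02d4f5238cbb8a7db
def N309 : ℕ := 0x10e44c68265844926415ca00e81c0156b3be48835
def N310 : ℕ := 0x22a074ffd9ba4f7a867777f2f1ec80a59607c876c
def N311 : ℕ := 0x360f0e84f131fa685d8df2229b70ee1fc509f1e1c
def N312 : ℕ := 0x6ef3c1a7a9a67d90d50a5f10d3b5ffb7f6b48ffc
def N313 : ℕ := 0x142e3a3b510f4b840401ab71b1e5b64e66e63ac8e
def N314 : ℕ := 0x12962619217ff95da9f36b3e7ad50d5a714c745eb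
def N315 : ℕ := 0x3f7ec696d1e7035764ae8bc185c75df3c119e042e
def N316 : ℕ := 0x361507acbee624fab168034876547ac54eae8b782
def N317 : ℕ := 0x3f1cac1c138dfba6395bbc1def0ee5f16d6121297
def N318 : ℕ := 0x1e0e792f6fcc8a66e45c0ddf379c2a5d5c4f87a1c
def N319 : ℕ := 0x1899a0620fca4da27321dab6c87877ffac7bfee28
def N320 : ℕ := 0x30ab88afed2aae79646cbe6f3ee3c45d12e114691
def N321 : ℕ := 0x3c66545bc171e9cbeda5c7c01755ec9c43c1af805
def N322 : ℕ := 0x326b8ca5fc2c25a067693114ee847ea45ad11fd53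
def N323 : ℕ := 0x1759cfddb5283cec0ff5ae0e6000adda680b54bdb
def N324 : ℕ := 0x3c9729a461c2c84b04fe9762550db546f8f13a14d
def N325 : ℕ := 0x1afaeada2f639a26d6f8bba50d56643dc29d3f557
def N326 : ℕ := 0x1566e51e8e8041cde58643284caa4c05dced189aa
def N327 : ℕ := 0x357a7e7449e15fe76c7f810826a12a2e8e7fd2c8e
def N328 : ℕ := 0x200175ac7493c9973288665490a3b8305c5b21ca9
def N329 : ℕ := 0x2f91ad51c92fa30b03fad3d84f56b71e2e9130772
def N330 : ℕ := 0x149b369ec5874d3814efd9d28f1febff658761e0c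
def N331 : ℕ := 0x12c50f01e5ed00ca3ec2dd5123893ba8d4f2a45be
def N332 : ℕ := 0x190dc144e853f97088c2dd582c2fa7ca68ed748d1
def N333 : ℕ := 0x913319812757c6c6fdd79db941c00fb6c7d121ad
def N334 : ℕ := 0x217069f69195407abe2c9981115a23b053275aae8
def N335 : ℕ := 0x2048c9aa616d0f9361c67711c1a96a1d8b8f6ac0
def N336 : ℕ := 0x23898f7528c6b654158e56216e0fd06316bf08e0c
def N337 : ℕ := 0x1ad3939c24c737080c2dc5e0030330b0a2e0dc15
def N338 : ℕ := 0x30b365ee84a86fe62123ad5232ceeffca4831b196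
def N339 : ℕ := 0x3cade4b15a751d037120dde8fd61dc9256cc7db20
def N340 : ℕ := 0x3b4fb9fce6ea79ed031b0090f62dfbf336eed885
def N341 : ℕ := 0x29d06bf469155ec5599a7a01e647ab700cbc9661e
def N342 : ℕ := 0x2bafb39bae6a6c5cbe8ffdabf09a7b9cd747a62df
def N343 : ℕ := 0x306ff66c1d5d68cce617865c594075bc8d3ddb007
def N344 : ℕ := 0x23eefd44765f31dfd1fc4c532e09bdb12f4a139f4
def N345 : ℕ := 0x13f1b12b5cdaa2307e8e8defa13c6fa320b2bf37e
def N346 : ℕ := 0x1cf065481544d7208fda67422444d32f65408013a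
def N347 : ℕ := 0x2950e9d5a4082841100bbc52705b341d05134af32
def N348 : ℕ := 0xf625621e6e2be51f2f2ac8fa3d7a749a2185b7ae
def N349 : ℕ := 0x23abd1c98074e4503c456e40004ec1404ef008835
def N350 : ℕ := 0x15e4fb97111f21ce78154a9bb99ed4e1eeb529417
def N351 : ℕ := 0xfa5f314aa9b913aca21535f8c21f96078f510a00
def N352 : ℕ := 0x2bd822f3988e545f8b4ba010402d41448d598d292
def N353 : ℕ := 0x3b3a735382ac4a8677eab55d631bae9d5124e10b
def N354 : ℕ := 0x28aa34129c6969c353dab9c3f5a9c426df9cd0d33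
def N355 : ℕ := 0x294f0cdecefb68c1b50279ea78b0445f137d8d26d
def N356 : ℕ := 0x20d0f9742b24c0d586696a0128048e3d1ede26469
def N357 : ℕ := 0x2e064bd66240a01f3a92a72e8550f8ad259167d9c
def N358 : ℕ := 0x210375115ec91d7b72fe0265faf5494e94c2c3121
def N359 : ℕ := 0xc503b87728becb88aff187ccb8388d4f7cc5b312
def N360 : ℕ := 0x10793cb1aebc761296ba61646baa6ab7d1e887da2
def N361 : ℕ := 0x34d4775a1a5dff2ab06519bbf2572d2338e230ed2
def N362 : ℕ := 0xcf52142f148708cbfb90393742fb86cdb2a3d60a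
def N363 : ℕ := 0x171ab81ba04a053890e625134846b54d0b5e98010
def N364 : ℕ := 0x31097d5faa6ca18a1939247ab28b7f65f4072c552
def N365 : ℕ := 0xc6a0b3dc938300b59e3710c4710e62f2264d985b
def N366 : ℕ := 0x17ad043eef2a9cf350f21f3e4d692bf5559b1a1f
def N367 : ℕ := 0x1cb5500250c18dede463b68346c6906a9aae1f6d9
def N368 : ℕ := 0x1867ae1f31296ba045a0f113b3f053cb52ecf2fc0
def N369 : ℕ := 0x386569d7a83ea3ca94b41bb7d0bbf7f7eb8fe4efc
def N370 : ℕ := 0x3f9a40d1d4cd941b2259e9f60faac38cf1fc41017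
def N371 : ℕ := 0x2f4852f7215cb515bb2df038a20ab536aa6678154
def N372 : ℕ := 0x3966abc6f04006905089d4189a72aa27159ca937
def N373 : ℕ := 0xac29542a07f16c6b28a150d2b88896c3550a0269
def N374 : ℕ := 0x30815120d233ab401052a98cf160b347d7a982287
def N375 : ℕ := 0x3a463861f4bbdd058cd072e9d605fb46e4a192223
def N376 : ℕ := 0x254793595772678012deffa2a864f5af26f3abbc8
def N377 : ℕ := 0xd870f015bb38d7c79ff766eddb5fc16be5e5a9d4
def N378 : ℕ := 0x3faf350fb625deeb17a1dabbfac87af8b6b5d262f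
def N379 : ℕ := 0x19c27d5816a425ff534c20ccb8c9bff271432f9e0
def N380 : ℕ := 0x39f08a0ca550289685a0050365a0856a169598fe7
def N381 : ℕ := 0x320522dd8c4805874345e528ca8e402e16d41554b
def N382 : ℕ := 0x2f89092b227dbe2685742118668d0056c78b09520
def N383 : ℕ := 0x4061088c20c04c22110c8404000c050209470480
def N384 : ℕ := 0x9804211110120084812100008000c0a011292020
def N385 : ℕ := 0x393817e9335d3ee2cc0798d53810232f192cc2416
def N386 : ℕ := 0x724822d6d4f97b5578eb336254240e76b2530480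
def N387 : ℕ := 0x9a43917ad6de2d3a2e5dec914eab8b44d4212020
def N388 : ℕ := 0x203c87e25779a6ca7857b155321c373c508cc0016
def N389 : ℕ := 0xf0512fc206b86bc4184f706a603c6650335a0482
def N390 : ℕ := 0x211485c9f23094d8dd2713c95ebc231d9deec2416
def N391 : ℕ := 0x35d1ef08abd13c27e13489439c248ed91a9fface6
def N392 : ℕ := 0x14f93263f65e1f7cde02d22561af255b0771521ae
def N393 : ℕ := 0x36de229c7d0fe3339f741a6a6e55d4917ccc260a7
def N394 : ℕ := 0x37986d53a771e44353e68841dd69be0a379f2a8b6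
def N395 : ℕ := 0x6b826e8967a06746c4293277b8793db63d3c35bc
def N396 : ℕ := 0x2e9f204d788be23f8ba45a4cad3066cb507e76635
def N397 : ℕ := 0x26d9cb5b8ee1fc66f3f68143454d38d33f09f0c74
def N398 : ℕ := 0x1489261c9d686e35fd6fd76ae5a5392ddd3b5c98a
def N399 : ℕ := 0x22d82d43f01997db9f94f8cb0c3cc337ee89e79a9
def N400 : ℕ := 0x356f65958c1cae5e86a47c7619eae78d981787c71
def N401 : ℕ := 0x413090600944223108180e008014030c8200184c
def N402 : ℕ := 0x4c261a0410288c06200381201000c16080881301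
def N403 : ℕ := 0x1098483400a041180046070000210582002184260
def N404 : ℕ := 0x2f57457039ecb10500414ba00683b5d4003a89afc
def N405 : ℕ := 0x34e0c42e47bd0c608012697180d366080c254a75f
def N406 : ℕ := 0x1897199589531b2416324c0830118873a984344e9
def N407 : ℕ := 0x252cb42dc23bcc159718fff663f5b7cbaea8aca21
def N408 : ℕ := 0x399f0b94548e4fc820141621e639c472374e2f553
def N409 : ℕ := 0x2670ef702101c90808858b41aecd0c9ed7cbdce88
def N410 : ℕ := 0x32b0edc680955523771b9709df7dd50c84d0c2fea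
def N411 : ℕ := 0xc1d31a81bc62a594ee473cdfb475a3914b03f1f7
def N412 : ℕ := 0xecba2270998fd732d7cc47cfd820f772e942ee8c
def N413 : ℕ := 0x33d9d986e0a70f6f43989b8f4d5955c6a1d21b97b
def N414 : ℕ := 0x20493027bacf0fde43b95ee8c9606c5497c785885
def N415 : ℕ := 0x1a4b21c6d559c912e4f628d259851d0073f0cab10
def N416 : ℕ := 0x1348cbb8d2fb219b7ca2863409334330da7a2d568
def N417 : ℕ := 0x32203675b25b4edf65291a6a4144cc569e41d4a0d
def N418 : ℕ := 0x791fd189a7bea74ca3ca88f3dcb8564a2be6e91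
def N419 : ℕ := 0x1647242afbf4edd5e3b23376ded007882861f2d70
def N420 : ℕ := 0x11c942971faa2ffab0644d4fd9b1e071bc2eb5514
def N421 : ℕ := 0x12702f82e811ff8a5ab3c32e29fc8c1c0faf74e12
def N422 : ℕ := 0x1c0f20f2b6f6b79461f07b4017fd150b49d578df2
def N423 : ℕ := 0x2c8e68c5f3efcbaa43e446fd2ddc2b1d51c3658e
def N424 : ℕ := 0x12193953e1b765af5e308baefab03c4e478db6883
def N425 : ℕ := 0x1993395411bc3fc452e870d9a5a8db0a5aaafddb
def N426 : ℕ := 0x7fda3449d6e665cabd7304b1d82ab7d47f10950b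
def N427 : ℕ := 0x234f7fbeba76e48a2b9dab4c611253cd500733dda
def N428 : ℕ := 0x4133da7c40182a754c0b2622ad85021b90720762
def N429 : ℕ := 0x100002000040000800010000200004000080001
def N430 : ℕ := 0x100002000040000800010000200004000080001
def N431 : ℕ := 0x100002000040000800010000200004000080001
def N432 : ℕ := 0x1afaeada2f639a26d6f8bba50d56643dc29d3f557
def N433 : ℕ := 0xf2fb8fcb8d1167c67db16f226c4faf0b87c17b38
def N434 : ℕ := 0x20100402008040100802010040200804010080201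
def N435 : ℕ := 0x20000400008000100002000040000800010000200
def N436 : ℕ := 0x3d97cf6c95013e2c13761a157c31ac80d1e3ed44a
def N437 : ℕ := 0x142e3a3b510f4b840401ab71b1e5b64e66e63ac8e
def N438 : ℕ := 0x100002000040000800010000200004000080001
def N439 : ℕ := 0x100002000040000800010000200004000080001
def N440 : ℕ := 0x320522dd8c4805874345e528ca8e402e16d41554b
def N441 : ℕ := 0x1f682970c62d7ecfd9edfb7d8fd5e08df82027185
def N442 : ℕ := 0x100002000040000800010000200004000080001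
def N443 : ℕ := 0x100002000040000800010000200004000080001
def N444 : ℕ := 0x39f08a0ca550289685a0050365a0856a169598fe7
def N445 : ℕ := 0x1047918c7efc68b3be36ed8fa9111a7d405c30abd
def N446 : ℕ := 0x20000400008000100002000040000800010000200
def N447 : ℕ := 0x20100402008040100802010040200804010080201
def N448 : ℕ := 0x1e70ef6d33bccc2f62356a559735f0c56bee85ebc
def N449 : ℕ := 0x100002000040000800010000200004000080001
def N450 : ℕ := 0x100002000040000800010000200004000080001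
def N451 : ℕ := 0x100002000040000800010000200004000080001
def N452 : ℕ := 0x142e3a3b510f4b840401ab71b1e5b64e66e63ac8e
def N453 : ℕ := 0x20100402008040100802010040200804010080201
def N454 : ℕ := 0x20000400008000100002000040000800010000200
def N455 : ℕ := 0x20100402008040100802010040200804010080201
def N456 : ℕ := 0x1f682970c62d7ecfd9edfb7d8fd5e08df82027185

def C : Cert where
  D := { p := 2, n := 7, pwL := [[], [6], [5], [6], [6], [], []], cmL := [[], [3, 4, 5], [6], [5], [5, 6], [], [], [], [], [3, 5], [], [], [6], [], [], [], [], [], [5, 6], [], [], [], [], [], [], [6], [], [], [], [], [], [], [], [], [], [], [], [], [], [], [], [], [], [], [], [], [], [], []] }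
  k := 0
  f := 42
  R := 5
  fus := [([[1], [3], [4], [5], [6]], [[3, 4], [3, 4, 5, 6], [1, 3, 4, 5], [1, 3, 6], [6]]), ([[0, 3, 4], [2, 4], [5], [6]], [[6], [2, 4, 6], [0, 3, 4], [0, 2, 3, 6]])]
  specs := [(0, [1], [1, 0]),
    (0, [1], [0, 0]),
    (0, [2], [1, 0]),
    (0, [3], [1, 0]),
    (0, [4], [1, 0]),
    (0, [5], [1, 0]),
    (0, [6], [1, 0]),
    (0, [2], [2, 0]),
    (0, [2], [0, 0]),
    (0, [3], [2, 0]),
    (0, [5], [2, 0]),
    (0, [3], [3, 0]),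
    (0, [3], [0, 0]),
    (0, [4], [3, 0]),
    (0, [2], [2, 1]),
    (0, [2], [1, 1]),
    (0, [3], [2, 1]),
    (0, [5], [5, 1]),
    (1, [3, 3], []),
    (1, [2, 2, 4], []),
    (1, [0, 0, 4], []),
    (1, [3, 1, 3, 1, 4], []),
    (2, [3, 3], []),
    (2, [2, 2], []),
    (2, [1, 0, 1, 0], [])]
  relV := [[0, (-2), 0, 0, 0, 0, 1, 0, 0, 0, (-1), (-1), (-1), 0, 0, 0, 0, 0, 0, 0, 0, 0, 0, 0, (-1), (-1), (-1), (-1), 0, 0, 0, 0, (-1), (-1), (-2), 0, 0, 0, 0, 0, (-1), (-3), 0, 0, 0, 0, 0, 0, (-2), 0, 0, 0, 0, 0, 0, 0, 0, 0, 0],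
    [0, 2, 0, 1, 1, 1, 0, 0, 0, 0, 0, 0, 0, 0, 0, 0, 0, 0, 0, 0, 0, 0, 0, 0, 1, 1, 1, 0, 0, 0, 0, 0, 1, 0, 1, 0, 0, 0, 0, 0, 2, 1, 0, 0, 0, 0, 0, 0, 2, 0, 0, 0, 0, 0, 0, 0, 0, 0, 0],
    [0, 0, 0, 1, 0, 1, 0, 0, 0, 0, 0, 0, 0, (-1), 0, 0, 0, 1, 1, 1, 0, 0, 0, 0, 0, 1, (-1), (-1), 0, 0, 0, 0, 0, (-1), 1, 0, 0, 0, 0, 0, 1, 0, 0, 0, 0, 0, 0, 0, 1, 0, 0, 0, 0, 0, 0, 0, 0, 0, 0],
    [0, 0, 0, 0, 0, 0, 0, 0, 0, 0, 0, 0, (-1), 0, 0, 0, 0, 0, 0, 0, 0, 0, 0, 0, 0, 1, 0, (-1), 0, 0, 0, 0, 0, (-1), 1, 0, 0, 0, 0, 0, 0, (-1), 0, 0, 0, 0, 0, 0, 0, 0, 0, 0, 0, 0, 0, 0, 0, 0, 0],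
    [0, 0, 0, 0, 0, 0, 0, 0, 0, 0, 0, 0, (-1), (-1), 0, 0, 0, 0, 0, 0, 0, 0, 0, 0, 0, (-1), (-1), 0, 0, 0, 0, 0, 0, 0, (-1), 0, 0, 0, 0, 0, 0, 0, 0, 0, 0, 0, 0, 0, (-1), 0, 0, 0, 0, 0, 0, 0, 0, 0, 0],
    [0, 0, 0, 0, 0, 0, 1, 0, 0, 0, 0, 0, 0, 0, 0, 0, 0, 0, 0, 0, 0, 0, 0, 0, 0, 0, (-1), (-1), 0, 0, 0, 0, 0, (-1), (-1), 0, 0, 0, 0, 0, 0, (-1), 0, 0, 0, 0, 0, 0, 0, 0, 0, 0, 0, 0, 0, 0, 0, 0, 0],
    [0, 0, 0, 0, 0, 0, 0, 0, 0, 0, 0, 0, 0, 0, 0, 0, 0, 0, 0, 0, 0, 0, 0, 0, 0, 0, 0, (-1), 0, 0, 0, 0, 0, 0, (-1), 0, 0, 0, 0, 0, 0, (-1), 0, 0, 0, 0, 0, 0, 0, 0, 0, 0, 0, 0, 0, 0, 0, 0, 0],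
    [0, 0, (-2), 0, 0, 1, 0, 0, 0, 0, 0, 0, 0, 0, 0, 0, 0, 0, 0, 0, (-1), 0, 0, 0, 0, 0, 0, 0, 0, 0, 0, 0, 0, 0, 0, 0, 0, 0, 0, 0, 0, 0, 0, 0, 0, 0, 0, 0, (-1), 0, 0, 0, 0, 0, 0, 0, 0, 0, 0],
    [0, 0, 2, 0, 0, 0, 1, 0, 0, 0, 0, 0, 0, 0, 0, 0, 0, 0, 0, 0, 0, 0, 0, 0, 0, 0, 0, 0, 0, 0, 0, 0, 0, 0, 0, 0, 0, 0, 0, 0, 0, 0, 0, 0, 0, 0, 0, 0, 1, 0, 0, 0, 0, 0, 0, 0, 0, 0, 0],
    [0, 0, 0, 0, 0, 0, 0, 0, 0, 0, 0, 0, 0, 0, 0, 0, 0, 0, 0, (-1), 0, 0, 0, 0, 0, 0, 0, 1, 0, 0, 0, 0, 0, 0, 0, 0, 0, 0, 0, 0, 0, 1, 0, 0, 0, 0, 0, 0, 0, 0, 0, 0, 0, 0, 0, 0, 0, 0, 0],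
    [0, 0, 0, 0, 0, 0, 0, 0, 0, 0, 0, 0, 0, 0, 0, 0, 0, 0, 0, 0, 0, 0, 0, 0, 0, 0, 0, 0, 0, 0, 0, 0, 0, 0, 0, 0, 0, 0, 0, 0, 0, 1, 0, 0, 0, 0, 0, 0, 0, 0, 0, 0, 0, 0, 0, 0, 0, 0, 0],
    [0, 0, 0, (-2), 0, 0, 1, 0, 0, 0, 0, 0, 0, 0, 0, 0, 0, 0, 0, 0, 0, 0, 0, 0, 0, 0, (-1), 0, 0, 0, 0, 0, 0, 0, 0, 0, 0, 0, 0, 0, (-1), (-2), 0, 0, 0, 0, 0, 0, 0, 0, 0, 0, 0, 0, 0, 0, 0, 0, 0],
    [0, 0, 0, 2, 0, 1, 0, 0, 0, 0, 0, 0, 0, 0, 0, 0, 0, 0, 0, 0, 0, 0, 0, 0, 0, 0, 0, 0, 0, 0, 0, 0, 0, 0, 0, 0, 0, 0, 0, 0, 1, 0, 0, 0, 0, 0, 0, 0, 0, 0, 0, 0, 0, 0, 0, 0, 0, 0, 0],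
    [0, 0, 0, 0, 0, 0, 1, 0, 0, 0, 0, 0, 0, 0, 0, 0, 0, 0, 0, 0, 0, 0, 0, 0, 0, 0, (-1), (-1), 0, 0, 0, 0, 0, 1, 0, 0, 0, 0, 0, 0, 0, (-1), 0, 0, 0, 0, 0, 0, 0, 0, 0, 0, 0, 0, 0, 0, 0, 0, 0],
    [0, 0, 0, 0, 0, 0, 0, 0, 0, (-2), 0, 0, 1, 0, 0, 0, 0, (-1), 0, (-1), 0, 0, 0, 0, (-1), 0, (-1), 0, 0, 0, 0, 0, 0, 0, 0, 0, 0, 0, 0, 0, (-1), (-1), 0, 0, 0, 0, 0, 0, 0, 0, 0, 0, 0, 0, 0, 0, 0, 0, 0],
    [0, 0, 0, 0, 0, 0, 0, 0, 0, 2, 1, 0, 1, 0, 0, 0, 0, 0, 0, 0, 1, 0, 0, 0, 1, 0, 1, 2, 0, 0, 0, 0, 0, 0, 0, 0, 0, 0, 0, 0, 1, 2, 0, 0, 0, 0, 0, 0, 1, 0, 0, 0, 0, 0, 0, 0, 0, 0, 0],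
    [0, 0, 0, 0, 0, 0, 0, 0, 0, 0, 0, 0, 0, 0, 0, 0, 0, 0, 0, 0, 0, 0, 0, 0, 0, 0, 1, 0, 0, 0, 0, 0, 0, 0, 0, 0, 0, 0, 0, 0, 0, 0, 0, 0, 0, 0, 0, 0, 0, 0, 0, 0, 0, 0, 0, 0, 0, 0, 0],
    [0, 0, 0, 0, 0, 0, 0, 0, 0, 0, 0, 0, (-2), 0, 0, 0, 0, 0, 0, 0, 0, 0, 0, 0, 0, 0, 0, 0, 0, 0, 0, 0, 0, 0, 0, 0, 0, 0, 0, 0, 0, (-1), 0, 0, 0, 0, 0, 0, (-1), 0, 0, 0, 0, 0, 0, 0, 0, 0, 0],
    [0, 0, 0, 0, 0, 0, 0, 0, (-1), 0, (-1), 0, 0, (-1), 0, 0, 0, 0, 0, 0, 0, 0, 0, 0, (-1), 0, 0, (-1), 0, 0, 0, 0, 0, 0, 0, 0, 0, 0, 0, 0, 1, 0, 0, 0, 0, 0, 0, 0, (-2), 0, 0, 0, (-2), 0, 0, 0, 0, 0, 0],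
    [0, 0, 0, 0, 0, 0, 0, 0, (-1), 0, (-1), (-1), (-1), 0, 0, 0, 0, 0, 0, 0, 0, 0, 0, 0, (-1), (-1), (-1), (-1), 0, 0, 0, 0, 0, (-1), (-2), 0, 0, 0, 0, 0, (-1), (-3), 0, 0, 0, 0, 0, 0, (-2), 0, 0, (-2), 0, (-1), 0, 0, 0, 0, 0],
    [0, 0, 0, 0, 0, 0, 0, 0, 1, 0, 0, 0, 0, 0, 0, 0, 0, 0, 0, 0, 0, 0, 0, 0, (-1), (-1), 0, 0, 0, 0, 0, 0, (-1), 0, (-1), 0, 0, 0, 0, 0, 0, 0, 0, 0, 0, 0, 0, 0, (-1), (-2), 0, 0, 0, (-1), 0, 0, 0, 0, 0],
    [0, 0, 0, 0, 0, 0, 0, 0, (-1), 0, 0, (-1), (-1), (-1), 0, 0, 0, 0, 0, 0, 0, 0, 0, 0, (-1), (-2), (-1), (-3), 0, 0, 0, 0, (-1), (-1), (-3), 0, 0, 0, 0, 0, 0, (-3), 0, 0, 0, 0, 0, 0, (-5), 0, (-2), 0, (-2), (-1), 0, 0, 0, 0, 0],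
    [(-1), 0, (-1), (-1), 0, 0, (-1), 0, 0, 0, 0, 0, 0, 0, 0, 0, (-1), (-1), 0, (-1), 0, 0, 0, 0, (-1), 0, (-1), (-1), 0, 0, 0, 0, 0, 0, 0, 0, 0, 0, 0, 0, (-1), (-1), 0, 0, 0, 0, 0, 0, (-1), 0, 0, 0, 0, 0, 0, 0, 0, (-2), 0],
    [(-1), 0, 0, (-1), (-1), 0, 0, 0, 0, 0, 0, 0, 0, 0, 0, 0, 0, 0, 0, 0, 0, 0, 0, 0, (-1), (-1), 0, (-1), 0, 0, 0, 0, (-1), (-1), (-2), 0, 0, 0, 0, 0, 0, 0, 0, 0, 0, 0, 0, 0, (-2), 0, 0, 0, 0, 0, 0, 0, (-2), 0, 0],
    [1, 0, 1, 1, 2, 0, 0, 0, 0, 0, 0, 0, 0, 0, 0, 0, 0, 1, (-1), 1, 0, 0, 0, 0, 1, 2, 2, 1, 0, 0, 0, 0, 1, 1, 3, 0, 0, 0, 0, 0, 1, 3, 0, 0, 0, 0, 0, 0, 1, 0, 0, 0, 0, 0, (-2), (-2), 0, 0, 0]]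
  lam := [[0, 0, 0, 0, 0, 0, 0, 0, 0, 0, 0, 0, 0, 0, 0, 0, 0, 0, 0, 0, 0, 0, 0, 0, 0, 0, 0, 0, 0, 0, 0, 0, 0, 0, 0, 0, 0, 0, 0, 0, 0, 0, 0, 0, 0, 0, 0, 0, 0, 0, 0, 0, 0, 0, 0, 0, 0, 0, 0],
    [0, 0, 0, 0, 0, 0, 0, 0, 0, 0, 0, 0, 0, 0, 0, 0, 0, 0, 0, 0, 0, 0, 0, 0, 0, 0, 0, 0, 0, 0, 0, 0, 0, 0, 0, 0, 0, 0, 0, 0, 0, 0, 0, 0, 0, 0, 0, 0, 0, 0, 0, 0, 0, 0, 0, 0, 0, 0, 0],
    [0, 0, 0, 0, 0, 0, 0, 0, 0, 0, 0, 0, 0, 0, 0, 0, 0, 0, 0, 0, 0, 0, 0, 0, 0, 0, 0, 0, 0, 0, 0, 0, 0, 0, 0, 0, 0, 0, 0, 0, 0, 0, 0, 0, 0, 0, 0, 0, 0, 0, 0, 0, 0, 0, 0, 0, 0, 0, 0],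
    [0, 0, 0, 0, 0, 0, 0, 0, 0, 1, 0, 0, 0, 0, 0, 0, 0, 0, 1, 0, 0, 0, 0, 0, 0, 0, 0, 0, 0, 0, 0, 0, 1, 0, 0, 0, 0, 0, 0, 0, 0, 0, 0, 0, 0, 0, 0, 0, 0, 0, 0, 0, 0, 0, 0, 0, 0, 0, 0],
    [0, 1, 0, 0, 0, 0, 0, 0, 0, 1, 0, 0, 0, 0, 0, 0, 0, 0, 0, 0, 0, 0, 0, 0, 0, 0, 0, 0, 0, 0, 0, 0, 0, 0, 0, 0, 0, 0, 0, 0, 0, 0, 0, 0, 0, 0, 0, 0, 0, 0, 0, 0, 0, 0, 0, 0, 0, 0, 0],
    [0, 0, 0, 0, 0, 0, 0, 0, 0, 0, 0, 0, 0, 0, 0, 0, 0, 0, 1, 0, 0, 0, 0, 0, 0, 0, 0, 0, 0, 0, 0, 0, 1, 0, 0, 0, 0, 0, 0, 0, 0, 0, 0, 0, 0, 0, 0, 0, 0, 0, 0, 0, 0, 0, 0, 0, 0, 0, 0],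
    [0, 0, 0, 0, 0, 0, 0, 0, 0, 0, 0, 0, 0, 0, 0, 0, 0, 0, 0, 0, 0, 0, 0, 0, 0, 0, 0, 0, 0, 0, 0, 0, 1, 0, 0, 0, 0, 0, 0, 0, 0, 0, 0, 0, 0, 0, 0, 0, 0, 0, 0, 0, 0, 0, 0, 0, 0, 0, 0]]
  j0 := 0
  mu := [0, 0, 0, 0, 0, 0, 0, 0, 0, 0, 0, 0, 0, 0, 0, 0, 0, 0, 0, 0, 0, 0, 0, 0, 0, 0, 0, 0, 0, 0, 0, 0, 0, 0, 0, 0, 0, 0, 0, 0, 0, 0, 0, 0, 0, 0, 0, 0, 0]
  y1 := [[(1, 1), (5, 1), (11, 1), (12, 1), (16, 1), (23, 1)],
    [],
    [(0, 1), (1, 1), (2, 1), (3, 1), (4, 1), (8, 1), (16, 1), (17, 1), (19, 1), (20, 1), (23, 1), (24, 1)],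
    [(2, 1), (7, 1), (8, 1), (10, 1), (13, 1), (14, 1), (15, 1), (17, 1), (19, 1), (21, 1)],
    [(0, 1), (1, 1), (2, 1), (7, 1), (8, 1), (10, 1), (11, 1), (12, 1), (13, 1), (14, 1), (15, 1), (20, 1), (21, 1)],
    [(8, 1), (10, 1), (11, 1), (12, 1), (16, 1), (17, 1)],
    [(8, 1), (10, 1), (17, 1)],
    [],
    [(0, 1), (5, 1), (6, 1), (8, 1), (13, 1), (17, 1), (18, 1), (20, 1), (21, 1)],
    [],
    [(0, 1), (3, 1), (7, 1), (10, 1), (12, 1), (13, 1), (15, 1), (17, 1), (19, 1), (20, 1)],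
    [(4, 1), (5, 1), (8, 1), (16, 1), (20, 1), (21, 1)],
    [(0, 1), (3, 1), (4, 1), (7, 1), (8, 1), (11, 1), (12, 1), (13, 1), (15, 1), (20, 1), (21, 1)],
    [(3, 1), (4, 1), (8, 1), (13, 1)],
    [],
    [],
    [(6, 1), (13, 1), (22, 1), (24, 1)],
    [(0, 1), (3, 1), (5, 1), (6, 1), (8, 1), (9, 1), (10, 1), (11, 1), (14, 1), (16, 1), (19, 1), (20, 1)],
    [],
    [(5, 1), (6, 1), (9, 1), (13, 1)],
    [(7, 1), (8, 1), (11, 1), (12, 1), (16, 1)],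
    [],
    [],
    [],
    [(4, 1), (7, 1), (8, 1), (10, 1), (11, 1), (12, 1), (15, 1), (16, 1), (17, 1), (19, 1), (21, 1)],
    [(0, 1), (4, 1), (5, 1), (7, 1), (10, 1), (11, 1), (12, 1), (13, 1), (15, 1), (16, 1), (17, 1), (20, 1), (21, 1)],
    [(16, 1)],
    [(5, 1), (6, 1), (10, 1), (13, 1)],
    [],
    [],
    [],
    [],
    [],
    [(5, 1), (6, 1), (8, 1), (10, 1), (16, 1), (17, 1)],
    [(5, 1), (13, 1)],
    [],
    [],
    [],
    [],
    [],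
    [(8, 1), (10, 1), (11, 1), (16, 1), (17, 1)],
    [(10, 1)],
    [],
    [],
    [],
    [],
    [],
    [],
    [(10, 1), (17, 1)]]
  y2 := [[(1, 1), (5, 1), (11, 1), (12, 1), (16, 1), (23, 1)],
    [],
    [(0, 1), (1, 1), (2, 1), (3, 1), (4, 1), (8, 1), (16, 1), (17, 1), (19, 1), (20, 1), (23, 1), (24, 1)],
    [(2, 1), (7, 1), (8, 1), (10, 1), (13, 1), (14, 1), (15, 1), (17, 1), (19, 1), (21, 1)],
    [(0, 1), (1, 1), (2, 1), (7, 1), (8, 1), (10, 1), (11, 1), (12, 1), (13, 1), (14, 1), (15, 1), (20, 1), (21, 1)],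
    [(8, 1), (10, 1), (11, 1), (12, 1), (16, 1), (17, 1)],
    [(8, 1), (10, 1), (17, 1)],
    [],
    [(0, 1), (5, 1), (6, 1), (8, 1), (13, 1), (17, 1), (18, 1), (20, 1), (21, 1)],
    [],
    [(0, 1), (3, 1), (7, 1), (10, 1), (12, 1), (13, 1), (15, 1), (17, 1), (19, 1), (20, 1)],
    [(4, 1), (5, 1), (8, 1), (16, 1), (20, 1), (21, 1)],
    [(0, 1), (3, 1), (4, 1), (7, 1), (8, 1), (11, 1), (12, 1), (13, 1), (15, 1), (20, 1), (21, 1)],
    [(3, 1), (4, 1), (8, 1), (13, 1)],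
    [],
    [],
    [(6, 1), (13, 1), (22, 1), (24, 1)],
    [(0, 1), (3, 1), (5, 1), (6, 1), (8, 1), (9, 1), (10, 1), (11, 1), (14, 1), (16, 1), (19, 1), (20, 1)],
    [],
    [(5, 1), (6, 1), (9, 1), (13, 1)],
    [(7, 1), (8, 1), (11, 1), (12, 1), (16, 1)],
    [],
    [],
    [],
    [(4, 1), (7, 1), (8, 1), (10, 1), (11, 1), (12, 1), (15, 1), (16, 1), (17, 1), (19, 1), (21, 1)],
    [(0, 1), (4, 1), (5, 1), (7, 1), (10, 1), (11, 1), (12, 1), (13, 1), (15, 1), (16, 1), (17, 1), (20, 1), (21, 1)],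
    [(16, 1)],
    [(5, 1), (6, 1), (10, 1), (13, 1)],
    [],
    [],
    [],
    [],
    [],
    [(5, 1), (6, 1), (8, 1), (10, 1), (16, 1), (17, 1)],
    [(5, 1), (13, 1)],
    [],
    [],
    [],
    [],
    [],
    [(8, 1), (10, 1), (11, 1), (16, 1), (17, 1)],
    [(10, 1)],
    [],
    [],
    [],
    [],
    [],
    [],
    [(10, 1), (17, 1)]]

theorem hC : C.check = true := by decide +kernel

def cx : ℕ → ℕ
  | 0 => N432
  | 1 => N436
  | 2 => N440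
  | 3 => N444
  | 4 => N448
  | 5 => N452
  | 6 => N456
  | _ => 0

def cg : ℕ → ℕ
  | 0 => N407
  | 1 => N428
  | _ => 0

theorem hpc : pcChkC mulC cOne nrm C.D cx = true := by decide +kernel

theorem hfus : fusChkC mulC cOne nrm C cx cg = true := by decide +kernel

theorem hinj : injChkC mulC cOne nrm C.D cx = true := by decide +kernel

section
variable {F : Type*} [Field F] (ω : F) [Om F ω]

theorem hN0 : Coded (sys ω) (GG ω) N0 := Coded.mul_of (cdY ω) (cdX ω) (by decide +kernel)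
theorem hN1 : Coded (sys ω) (GG ω) N1 := Coded.mul_of (hN0 ω) (cdY ω) (by decide +kernel)
theorem hN2 : Coded (sys ω) (GG ω) N2 := Coded.mul_of (hN1 ω) (cdY ω) (by decide +kernel)
theorem hN3 : Coded (sys ω) (GG ω) N3 := Coded.mul_of (hN2 ω) (cdX ω) (by decide +kernel)
theorem hN4 : Coded (sys ω) (GG ω) N4 := Coded.mul_of (hN3 ω) (cdY ω) (by decide +kernel)
theorem hN5 : Coded (sys ω) (GG ω) N5 := Coded.mul_of (hN4 ω) (cdX ω) (by decide +kernel)
theorem hN6 : Coded (sys ω) (GG ω) N6 := Coded.mul_of (hN5 ω) (cdY ω) (by decide +kernel)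
theorem hN7 : Coded (sys ω) (GG ω) N7 := Coded.mul_of (hN6 ω) (cdX ω) (by decide +kernel)
theorem hN8 : Coded (sys ω) (GG ω) N8 := Coded.mul_of (hN7 ω) (cdY ω) (by decide +kernel)
theorem hN9 : Coded (sys ω) (GG ω) N9 := Coded.mul_of (hN8 ω) (cdY ω) (by decide +kernel)
theorem hN10 : Coded (sys ω) (GG ω) N10 := Coded.mul_of (hN9 ω) (cdY ω) (by decide +kernel)
theorem hN11 : Coded (sys ω) (GG ω) N11 := Coded.mul_of (hN10 ω) (cdY ω) (by decide +kernel)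
theorem hN12 : Coded (sys ω) (GG ω) N12 := Coded.mul_of (hN11 ω) (cdX ω) (by decide +kernel)
theorem hN13 : Coded (sys ω) (GG ω) N13 := Coded.mul_of (hN12 ω) (cdY ω) (by decide +kernel)
theorem hN14 : Coded (sys ω) (GG ω) N14 := Coded.mul_of (hN13 ω) (cdY ω) (by decide +kernel)
theorem hN15 : Coded (sys ω) (GG ω) N15 := Coded.mul_of (hN14 ω) (cdY ω) (by decide +kernel)
theorem hN16 : Coded (sys ω) (GG ω) N16 := Coded.mul_of (hN15 ω) (cdY ω) (by decide +kernel)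
theorem hN17 : Coded (sys ω) (GG ω) N17 := Coded.mul_of (hN16 ω) (cdY ω) (by decide +kernel)
theorem hN18 : Coded (sys ω) (GG ω) N18 := Coded.mul_of (hN17 ω) (cdY ω) (by decide +kernel)
theorem hN19 : Coded (sys ω) (GG ω) N19 := Coded.mul_of (hN18 ω) (cdX ω) (by decide +kernel)
theorem hN20 : Coded (sys ω) (GG ω) N20 := Coded.mul_of (hN19 ω) (cdY ω) (by decide +kernel)
theorem hN21 : Coded (sys ω) (GG ω) N21 := Coded.mul_of (hN20 ω) (cdY ω) (by decide +kernel)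
theorem hN22 : Coded (sys ω) (GG ω) N22 := Coded.mul_of (hN21 ω) (cdY ω) (by decide +kernel)
theorem hN23 : Coded (sys ω) (GG ω) N23 := Coded.mul_of (hN22 ω) (cdY ω) (by decide +kernel)
theorem hN24 : Coded (sys ω) (GG ω) N24 := Coded.mul_of (hN23 ω) (cdX ω) (by decide +kernel)
theorem hN25 : Coded (sys ω) (GG ω) N25 := Coded.mul_of (hN24 ω) (cdY ω) (by decide +kernel)
theorem hN26 : Coded (sys ω) (GG ω) N26 := Coded.mul_of (hN25 ω) (cdY ω) (by decide +kernel)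
theorem hN27 : Coded (sys ω) (GG ω) N27 := Coded.mul_of (hN26 ω) (cdX ω) (by decide +kernel)
theorem hN28 : Coded (sys ω) (GG ω) N28 := Coded.inv_of (hN27 ω) (by decide +kernel)
theorem hN29 : Coded (sys ω) (GG ω) N29 := Coded.mul_of (cdY ω) (cdY ω) (by decide +kernel)
theorem hN30 : Coded (sys ω) (GG ω) N30 := Coded.mul_of (hN29 ω) (cdX ω) (by decide +kernel)
theorem hN31 : Coded (sys ω) (GG ω) N31 := Coded.mul_of (hN29 ω) (cdY ω) (by decide +kernel)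
theorem hN32 : Coded (sys ω) (GG ω) N32 := Coded.mul_of (hN31 ω) (cdX ω) (by decide +kernel)
theorem hN33 : Coded (sys ω) (GG ω) N33 := Coded.mul_of (hN32 ω) (cdY ω) (by decide +kernel)
theorem hN34 : Coded (sys ω) (GG ω) N34 := Coded.mul_of (hN33 ω) (cdX ω) (by decide +kernel)
theorem hN35 : Coded (sys ω) (GG ω) N35 := Coded.mul_of (hN33 ω) (cdY ω) (by decide +kernel)
theorem hN36 : Coded (sys ω) (GG ω) N36 := Coded.mul_of (hN35 ω) (cdY ω) (by decide +kernel)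
theorem hN37 : Coded (sys ω) (GG ω) N37 := Coded.mul_of (hN36 ω) (cdY ω) (by decide +kernel)
theorem hN38 : Coded (sys ω) (GG ω) N38 := Coded.mul_of (hN37 ω) (cdY ω) (by decide +kernel)
theorem hN39 : Coded (sys ω) (GG ω) N39 := Coded.mul_of (hN38 ω) (cdX ω) (by decide +kernel)
theorem hN40 : Coded (sys ω) (GG ω) N40 := Coded.mul_of (hN39 ω) (cdY ω) (by decide +kernel)
theorem hN41 : Coded (sys ω) (GG ω) N41 := Coded.mul_of (hN40 ω) (cdY ω) (by decide +kernel)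
theorem hN42 : Coded (sys ω) (GG ω) N42 := Coded.mul_of (hN41 ω) (cdX ω) (by decide +kernel)
theorem hN43 : Coded (sys ω) (GG ω) N43 := Coded.mul_of (hN42 ω) (cdY ω) (by decide +kernel)
theorem hN44 : Coded (sys ω) (GG ω) N44 := Coded.mul_of (hN43 ω) (cdX ω) (by decide +kernel)
theorem hN45 : Coded (sys ω) (GG ω) N45 := Coded.mul_of (hN44 ω) (cdY ω) (by decide +kernel)
theorem hN46 : Coded (sys ω) (GG ω) N46 := Coded.mul_of (hN45 ω) (cdY ω) (by decide +kernel)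
theorem hN47 : Coded (sys ω) (GG ω) N47 := Coded.mul_of (hN46 ω) (cdX ω) (by decide +kernel)
theorem hN48 : Coded (sys ω) (GG ω) N48 := Coded.mul_of (hN28 ω) (hN47 ω) (by decide +kernel)
theorem hN49 : Coded (sys ω) (GG ω) N49 := Coded.mul_of (hN30 ω) (cdY ω) (by decide +kernel)
theorem hN50 : Coded (sys ω) (GG ω) N50 := Coded.mul_of (hN49 ω) (cdX ω) (by decide +kernel)
theorem hN51 : Coded (sys ω) (GG ω) N51 := Coded.mul_of (hN2 ω) (cdY ω) (by decide +kernel)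
theorem hN52 : Coded (sys ω) (GG ω) N52 := Coded.mul_of (hN51 ω) (cdX ω) (by decide +kernel)
theorem hN53 : Coded (sys ω) (GG ω) N53 := Coded.mul_of (hN50 ω) (cdY ω) (by decide +kernel)
theorem hN54 : Coded (sys ω) (GG ω) N54 := Coded.mul_of (hN53 ω) (cdY ω) (by decide +kernel)
theorem hN55 : Coded (sys ω) (GG ω) N55 := Coded.mul_of (hN54 ω) (cdX ω) (by decide +kernel)
theorem hN56 : Coded (sys ω) (GG ω) N56 := Coded.mul_of (hN55 ω) (cdY ω) (by decide +kernel)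
theorem hN57 : Coded (sys ω) (GG ω) N57 := Coded.mul_of (hN56 ω) (cdX ω) (by decide +kernel)
theorem hN58 : Coded (sys ω) (GG ω) N58 := Coded.mul_of (hN57 ω) (cdY ω) (by decide +kernel)
theorem hN59 : Coded (sys ω) (GG ω) N59 := Coded.mul_of (hN58 ω) (cdY ω) (by decide +kernel)
theorem hN60 : Coded (sys ω) (GG ω) N60 := Coded.mul_of (hN59 ω) (cdY ω) (by decide +kernel)
theorem hN61 : Coded (sys ω) (GG ω) N61 := Coded.mul_of (hN60 ω) (cdY ω) (by decide +kernel)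
theorem hN62 : Coded (sys ω) (GG ω) N62 := Coded.mul_of (hN61 ω) (cdX ω) (by decide +kernel)
theorem hN63 : Coded (sys ω) (GG ω) N63 := Coded.mul_of (hN62 ω) (cdY ω) (by decide +kernel)
theorem hN64 : Coded (sys ω) (GG ω) N64 := Coded.mul_of (hN63 ω) (cdY ω) (by decide +kernel)
theorem hN65 : Coded (sys ω) (GG ω) N65 := Coded.mul_of (hN64 ω) (cdX ω) (by decide +kernel)
theorem hN66 : Coded (sys ω) (GG ω) N66 := Coded.mul_of (hN65 ω) (cdY ω) (by decide +kernel)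
theorem hN67 : Coded (sys ω) (GG ω) N67 := Coded.mul_of (hN66 ω) (cdY ω) (by decide +kernel)
theorem hN68 : Coded (sys ω) (GG ω) N68 := Coded.mul_of (hN67 ω) (cdY ω) (by decide +kernel)
theorem hN69 : Coded (sys ω) (GG ω) N69 := Coded.mul_of (hN68 ω) (cdX ω) (by decide +kernel)
theorem hN70 : Coded (sys ω) (GG ω) N70 := Coded.mul_of (hN69 ω) (cdY ω) (by decide +kernel)
theorem hN71 : Coded (sys ω) (GG ω) N71 := Coded.mul_of (hN70 ω) (cdY ω) (by decide +kernel)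
theorem hN72 : Coded (sys ω) (GG ω) N72 := Coded.mul_of (hN71 ω) (cdX ω) (by decide +kernel)
theorem hN73 : Coded (sys ω) (GG ω) N73 := Coded.mul_of (hN72 ω) (cdY ω) (by decide +kernel)
theorem hN74 : Coded (sys ω) (GG ω) N74 := Coded.mul_of (hN73 ω) (cdY ω) (by decide +kernel)
theorem hN75 : Coded (sys ω) (GG ω) N75 := Coded.mul_of (hN74 ω) (cdX ω) (by decide +kernel)
theorem hN76 : Coded (sys ω) (GG ω) N76 := Coded.mul_of (hN75 ω) (cdY ω) (by decide +kernel)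
theorem hN77 : Coded (sys ω) (GG ω) N77 := Coded.inv_of (hN76 ω) (by decide +kernel)
theorem hN78 : Coded (sys ω) (GG ω) N78 := Coded.mul_of (cdX ω) (cdY ω) (by decide +kernel)
theorem hN79 : Coded (sys ω) (GG ω) N79 := Coded.mul_of (hN78 ω) (cdY ω) (by decide +kernel)
theorem hN80 : Coded (sys ω) (GG ω) N80 := Coded.mul_of (hN79 ω) (cdY ω) (by decide +kernel)
theorem hN81 : Coded (sys ω) (GG ω) N81 := Coded.mul_of (hN80 ω) (cdY ω) (by decide +kernel)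
theorem hN82 : Coded (sys ω) (GG ω) N82 := Coded.mul_of (hN81 ω) (cdY ω) (by decide +kernel)
theorem hN83 : Coded (sys ω) (GG ω) N83 := Coded.mul_of (hN82 ω) (cdY ω) (by decide +kernel)
theorem hN84 : Coded (sys ω) (GG ω) N84 := Coded.mul_of (hN83 ω) (cdX ω) (by decide +kernel)
theorem hN85 : Coded (sys ω) (GG ω) N85 := Coded.mul_of (hN84 ω) (cdY ω) (by decide +kernel)
theorem hN86 : Coded (sys ω) (GG ω) N86 := Coded.mul_of (hN85 ω) (cdY ω) (by decide +kernel)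
theorem hN87 : Coded (sys ω) (GG ω) N87 := Coded.mul_of (hN86 ω) (cdY ω) (by decide +kernel)
theorem hN88 : Coded (sys ω) (GG ω) N88 := Coded.mul_of (hN87 ω) (cdY ω) (by decide +kernel)
theorem hN89 : Coded (sys ω) (GG ω) N89 := Coded.mul_of (hN88 ω) (cdY ω) (by decide +kernel)
theorem hN90 : Coded (sys ω) (GG ω) N90 := Coded.mul_of (hN89 ω) (cdY ω) (by decide +kernel)
theorem hN91 : Coded (sys ω) (GG ω) N91 := Coded.mul_of (hN90 ω) (cdY ω) (by decide +kernel)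
theorem hN92 : Coded (sys ω) (GG ω) N92 := Coded.mul_of (hN91 ω) (cdX ω) (by decide +kernel)
theorem hN93 : Coded (sys ω) (GG ω) N93 := Coded.mul_of (hN92 ω) (cdY ω) (by decide +kernel)
theorem hN94 : Coded (sys ω) (GG ω) N94 := Coded.mul_of (hN93 ω) (cdX ω) (by decide +kernel)
theorem hN95 : Coded (sys ω) (GG ω) N95 := Coded.mul_of (hN94 ω) (cdY ω) (by decide +kernel)
theorem hN96 : Coded (sys ω) (GG ω) N96 := Coded.mul_of (hN95 ω) (cdY ω) (by decide +kernel)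
theorem hN97 : Coded (sys ω) (GG ω) N97 := Coded.mul_of (hN96 ω) (cdX ω) (by decide +kernel)
theorem hN98 : Coded (sys ω) (GG ω) N98 := Coded.mul_of (hN97 ω) (cdY ω) (by decide +kernel)
theorem hN99 : Coded (sys ω) (GG ω) N99 := Coded.mul_of (hN98 ω) (cdY ω) (by decide +kernel)
theorem hN100 : Coded (sys ω) (GG ω) N100 := Coded.mul_of (hN99 ω) (cdY ω) (by decide +kernel)
theorem hN101 : Coded (sys ω) (GG ω) N101 := Coded.mul_of (hN100 ω) (cdY ω) (by decide +kernel)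
theorem hN102 : Coded (sys ω) (GG ω) N102 := Coded.mul_of (hN101 ω) (cdY ω) (by decide +kernel)
theorem hN103 : Coded (sys ω) (GG ω) N103 := Coded.mul_of (hN102 ω) (cdX ω) (by decide +kernel)
theorem hN104 : Coded (sys ω) (GG ω) N104 := Coded.mul_of (hN77 ω) (hN103 ω) (by decide +kernel)
theorem hN105 : Coded (sys ω) (GG ω) N105 := Coded.mul_of (hN78 ω) (cdX ω) (by decide +kernel)
theorem hN106 : Coded (sys ω) (GG ω) N106 := Coded.mul_of (hN1 ω) (cdX ω) (by decide +kernel)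
theorem hN107 : Coded (sys ω) (GG ω) N107 := Coded.mul_of (hN106 ω) (cdY ω) (by decide +kernel)
theorem hN108 : Coded (sys ω) (GG ω) N108 := Coded.mul_of (hN107 ω) (cdX ω) (by decide +kernel)
theorem hN109 : Coded (sys ω) (GG ω) N109 := Coded.mul_of (hN107 ω) (cdY ω) (by decide +kernel)
theorem hN110 : Coded (sys ω) (GG ω) N110 := Coded.mul_of (hN109 ω) (cdY ω) (by decide +kernel)
theorem hN111 : Coded (sys ω) (GG ω) N111 := Coded.mul_of (hN110 ω) (cdY ω) (by decide +kernel)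
theorem hN112 : Coded (sys ω) (GG ω) N112 := Coded.mul_of (hN111 ω) (cdY ω) (by decide +kernel)
theorem hN113 : Coded (sys ω) (GG ω) N113 := Coded.mul_of (hN112 ω) (cdY ω) (by decide +kernel)
theorem hN114 : Coded (sys ω) (GG ω) N114 := Coded.mul_of (hN113 ω) (cdY ω) (by decide +kernel)
theorem hN115 : Coded (sys ω) (GG ω) N115 := Coded.mul_of (hN54 ω) (cdY ω) (by decide +kernel)
theorem hN116 : Coded (sys ω) (GG ω) N116 := Coded.mul_of (hN115 ω) (cdX ω) (by decide +kernel)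
theorem hN117 : Coded (sys ω) (GG ω) N117 := Coded.mul_of (hN116 ω) (cdY ω) (by decide +kernel)
theorem hN118 : Coded (sys ω) (GG ω) N118 := Coded.mul_of (hN117 ω) (cdY ω) (by decide +kernel)
theorem hN119 : Coded (sys ω) (GG ω) N119 := Coded.mul_of (hN118 ω) (cdY ω) (by decide +kernel)
theorem hN120 : Coded (sys ω) (GG ω) N120 := Coded.mul_of (hN119 ω) (cdY ω) (by decide +kernel)
theorem hN121 : Coded (sys ω) (GG ω) N121 := Coded.mul_of (hN120 ω) (cdY ω) (by decide +kernel)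
theorem hN122 : Coded (sys ω) (GG ω) N122 := Coded.mul_of (hN121 ω) (cdY ω) (by decide +kernel)
theorem hN123 : Coded (sys ω) (GG ω) N123 := Coded.mul_of (hN122 ω) (cdY ω) (by decide +kernel)
theorem hN124 : Coded (sys ω) (GG ω) N124 := Coded.mul_of (hN123 ω) (cdX ω) (by decide +kernel)
theorem hN125 : Coded (sys ω) (GG ω) N125 := Coded.inv_of (hN124 ω) (by decide +kernel)
theorem hN126 : Coded (sys ω) (GG ω) N126 := Coded.mul_of (hN105 ω) (cdY ω) (by decide +kernel)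
theorem hN127 : Coded (sys ω) (GG ω) N127 := Coded.mul_of (hN126 ω) (cdY ω) (by decide +kernel)
theorem hN128 : Coded (sys ω) (GG ω) N128 := Coded.mul_of (hN127 ω) (cdX ω) (by decide +kernel)
theorem hN129 : Coded (sys ω) (GG ω) N129 := Coded.mul_of (hN128 ω) (cdY ω) (by decide +kernel)
theorem hN130 : Coded (sys ω) (GG ω) N130 := Coded.mul_of (hN129 ω) (cdY ω) (by decide +kernel)
theorem hN131 : Coded (sys ω) (GG ω) N131 := Coded.mul_of (hN130 ω) (cdY ω) (by decide +kernel)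
theorem hN132 : Coded (sys ω) (GG ω) N132 := Coded.mul_of (hN131 ω) (cdY ω) (by decide +kernel)
theorem hN133 : Coded (sys ω) (GG ω) N133 := Coded.mul_of (hN132 ω) (cdX ω) (by decide +kernel)
theorem hN134 : Coded (sys ω) (GG ω) N134 := Coded.mul_of (hN133 ω) (cdY ω) (by decide +kernel)
theorem hN135 : Coded (sys ω) (GG ω) N135 := Coded.mul_of (hN134 ω) (cdX ω) (by decide +kernel)
theorem hN136 : Coded (sys ω) (GG ω) N136 := Coded.mul_of (hN135 ω) (cdY ω) (by decide +kernel)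
theorem hN137 : Coded (sys ω) (GG ω) N137 := Coded.mul_of (hN136 ω) (cdX ω) (by decide +kernel)
theorem hN138 : Coded (sys ω) (GG ω) N138 := Coded.mul_of (hN137 ω) (cdY ω) (by decide +kernel)
theorem hN139 : Coded (sys ω) (GG ω) N139 := Coded.mul_of (hN138 ω) (cdY ω) (by decide +kernel)
theorem hN140 : Coded (sys ω) (GG ω) N140 := Coded.mul_of (hN139 ω) (cdY ω) (by decide +kernel)
theorem hN141 : Coded (sys ω) (GG ω) N141 := Coded.mul_of (hN140 ω) (cdY ω) (by decide +kernel)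
theorem hN142 : Coded (sys ω) (GG ω) N142 := Coded.mul_of (hN141 ω) (cdX ω) (by decide +kernel)
theorem hN143 : Coded (sys ω) (GG ω) N143 := Coded.mul_of (hN142 ω) (cdY ω) (by decide +kernel)
theorem hN144 : Coded (sys ω) (GG ω) N144 := Coded.mul_of (hN143 ω) (cdY ω) (by decide +kernel)
theorem hN145 : Coded (sys ω) (GG ω) N145 := Coded.mul_of (hN125 ω) (hN144 ω) (by decide +kernel)
theorem hN146 : Coded (sys ω) (GG ω) N146 := Coded.mul_of (hN31 ω) (cdY ω) (by decide +kernel)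
theorem hN147 : Coded (sys ω) (GG ω) N147 := Coded.mul_of (hN146 ω) (cdX ω) (by decide +kernel)
theorem hN148 : Coded (sys ω) (GG ω) N148 := Coded.mul_of (hN147 ω) (cdY ω) (by decide +kernel)
theorem hN149 : Coded (sys ω) (GG ω) N149 := Coded.mul_of (hN148 ω) (cdX ω) (by decide +kernel)
theorem hN150 : Coded (sys ω) (GG ω) N150 := Coded.mul_of (hN149 ω) (cdY ω) (by decide +kernel)
theorem hN151 : Coded (sys ω) (GG ω) N151 := Coded.inv_of (hN150 ω) (by decide +kernel)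
theorem hN152 : Coded (sys ω) (GG ω) N152 := Coded.mul_of (hN114 ω) (cdX ω) (by decide +kernel)
theorem hN153 : Coded (sys ω) (GG ω) N153 := Coded.mul_of (hN152 ω) (cdY ω) (by decide +kernel)
theorem hN154 : Coded (sys ω) (GG ω) N154 := Coded.mul_of (hN153 ω) (cdY ω) (by decide +kernel)
theorem hN155 : Coded (sys ω) (GG ω) N155 := Coded.mul_of (hN154 ω) (cdY ω) (by decide +kernel)
theorem hN156 : Coded (sys ω) (GG ω) N156 := Coded.mul_of (hN155 ω) (cdY ω) (by decide +kernel)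
theorem hN157 : Coded (sys ω) (GG ω) N157 := Coded.mul_of (hN156 ω) (cdY ω) (by decide +kernel)
theorem hN158 : Coded (sys ω) (GG ω) N158 := Coded.mul_of (hN157 ω) (cdY ω) (by decide +kernel)
theorem hN159 : Coded (sys ω) (GG ω) N159 := Coded.mul_of (hN158 ω) (cdX ω) (by decide +kernel)
theorem hN160 : Coded (sys ω) (GG ω) N160 := Coded.mul_of (hN159 ω) (cdY ω) (by decide +kernel)
theorem hN161 : Coded (sys ω) (GG ω) N161 := Coded.mul_of (hN160 ω) (cdX ω) (by decide +kernel)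
theorem hN162 : Coded (sys ω) (GG ω) N162 := Coded.mul_of (hN161 ω) (cdY ω) (by decide +kernel)
theorem hN163 : Coded (sys ω) (GG ω) N163 := Coded.mul_of (hN162 ω) (cdY ω) (by decide +kernel)
theorem hN164 : Coded (sys ω) (GG ω) N164 := Coded.mul_of (hN151 ω) (hN163 ω) (by decide +kernel)
theorem hN165 : Coded (sys ω) (GG ω) N165 := Coded.mul_of (hN81 ω) (cdX ω) (by decide +kernel)
theorem hN166 : Coded (sys ω) (GG ω) N166 := Coded.mul_of (hN35 ω) (cdX ω) (by decide +kernel)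
theorem hN167 : Coded (sys ω) (GG ω) N167 := Coded.mul_of (hN166 ω) (cdY ω) (by decide +kernel)
theorem hN168 : Coded (sys ω) (GG ω) N168 := Coded.mul_of (hN167 ω) (cdX ω) (by decide +kernel)
theorem hN169 : Coded (sys ω) (GG ω) N169 := Coded.mul_of (hN168 ω) (cdY ω) (by decide +kernel)
theorem hN170 : Coded (sys ω) (GG ω) N170 := Coded.mul_of (hN169 ω) (cdY ω) (by decide +kernel)
theorem hN171 : Coded (sys ω) (GG ω) N171 := Coded.mul_of (hN170 ω) (cdY ω) (by decide +kernel)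
theorem hN172 : Coded (sys ω) (GG ω) N172 := Coded.mul_of (hN171 ω) (cdY ω) (by decide +kernel)
theorem hN173 : Coded (sys ω) (GG ω) N173 := Coded.mul_of (hN172 ω) (cdY ω) (by decide +kernel)
theorem hN174 : Coded (sys ω) (GG ω) N174 := Coded.mul_of (hN173 ω) (cdY ω) (by decide +kernel)
theorem hN175 : Coded (sys ω) (GG ω) N175 := Coded.mul_of (hN174 ω) (cdX ω) (by decide +kernel)
theorem hN176 : Coded (sys ω) (GG ω) N176 := Coded.mul_of (hN175 ω) (cdY ω) (by decide +kernel)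
theorem hN177 : Coded (sys ω) (GG ω) N177 := Coded.mul_of (hN176 ω) (cdX ω) (by decide +kernel)
theorem hN178 : Coded (sys ω) (GG ω) N178 := Coded.mul_of (hN177 ω) (cdY ω) (by decide +kernel)
theorem hN179 : Coded (sys ω) (GG ω) N179 := Coded.mul_of (hN178 ω) (cdY ω) (by decide +kernel)
theorem hN180 : Coded (sys ω) (GG ω) N180 := Coded.mul_of (hN179 ω) (cdX ω) (by decide +kernel)
theorem hN181 : Coded (sys ω) (GG ω) N181 := Coded.mul_of (hN180 ω) (cdY ω) (by decide +kernel)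
theorem hN182 : Coded (sys ω) (GG ω) N182 := Coded.mul_of (hN181 ω) (cdY ω) (by decide +kernel)
theorem hN183 : Coded (sys ω) (GG ω) N183 := Coded.inv_of (hN182 ω) (by decide +kernel)
theorem hN184 : Coded (sys ω) (GG ω) N184 := Coded.mul_of (hN108 ω) (cdY ω) (by decide +kernel)
theorem hN185 : Coded (sys ω) (GG ω) N185 := Coded.mul_of (hN184 ω) (cdY ω) (by decide +kernel)
theorem hN186 : Coded (sys ω) (GG ω) N186 := Coded.mul_of (hN185 ω) (cdY ω) (by decide +kernel)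
theorem hN187 : Coded (sys ω) (GG ω) N187 := Coded.mul_of (hN186 ω) (cdY ω) (by decide +kernel)
theorem hN188 : Coded (sys ω) (GG ω) N188 := Coded.mul_of (hN187 ω) (cdY ω) (by decide +kernel)
theorem hN189 : Coded (sys ω) (GG ω) N189 := Coded.mul_of (hN188 ω) (cdY ω) (by decide +kernel)
theorem hN190 : Coded (sys ω) (GG ω) N190 := Coded.mul_of (hN189 ω) (cdY ω) (by decide +kernel)
theorem hN191 : Coded (sys ω) (GG ω) N191 := Coded.mul_of (hN190 ω) (cdX ω) (by decide +kernel)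
theorem hN192 : Coded (sys ω) (GG ω) N192 := Coded.mul_of (hN191 ω) (cdY ω) (by decide +kernel)
theorem hN193 : Coded (sys ω) (GG ω) N193 := Coded.mul_of (hN192 ω) (cdY ω) (by decide +kernel)
theorem hN194 : Coded (sys ω) (GG ω) N194 := Coded.mul_of (hN193 ω) (cdY ω) (by decide +kernel)
theorem hN195 : Coded (sys ω) (GG ω) N195 := Coded.mul_of (hN194 ω) (cdY ω) (by decide +kernel)
theorem hN196 : Coded (sys ω) (GG ω) N196 := Coded.mul_of (hN183 ω) (hN195 ω) (by decide +kernel)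
theorem hN197 : Coded (sys ω) (GG ω) N197 := Coded.inv_of (hN81 ω) (by decide +kernel)
theorem hN198 : Coded (sys ω) (GG ω) N198 := Coded.mul_of (hN167 ω) (cdY ω) (by decide +kernel)
theorem hN199 : Coded (sys ω) (GG ω) N199 := Coded.mul_of (hN198 ω) (cdY ω) (by decide +kernel)
theorem hN200 : Coded (sys ω) (GG ω) N200 := Coded.mul_of (hN199 ω) (cdY ω) (by decide +kernel)
theorem hN201 : Coded (sys ω) (GG ω) N201 := Coded.mul_of (hN200 ω) (cdY ω) (by decide +kernel)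
theorem hN202 : Coded (sys ω) (GG ω) N202 := Coded.mul_of (hN201 ω) (cdY ω) (by decide +kernel)
theorem hN203 : Coded (sys ω) (GG ω) N203 := Coded.mul_of (hN202 ω) (cdX ω) (by decide +kernel)
theorem hN204 : Coded (sys ω) (GG ω) N204 := Coded.mul_of (hN203 ω) (cdY ω) (by decide +kernel)
theorem hN205 : Coded (sys ω) (GG ω) N205 := Coded.mul_of (hN204 ω) (cdY ω) (by decide +kernel)
theorem hN206 : Coded (sys ω) (GG ω) N206 := Coded.mul_of (hN205 ω) (cdY ω) (by decide +kernel)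
theorem hN207 : Coded (sys ω) (GG ω) N207 := Coded.mul_of (hN206 ω) (cdX ω) (by decide +kernel)
theorem hN208 : Coded (sys ω) (GG ω) N208 := Coded.mul_of (hN207 ω) (cdY ω) (by decide +kernel)
theorem hN209 : Coded (sys ω) (GG ω) N209 := Coded.mul_of (hN208 ω) (cdX ω) (by decide +kernel)
theorem hN210 : Coded (sys ω) (GG ω) N210 := Coded.mul_of (hN197 ω) (hN209 ω) (by decide +kernel)
theorem hN211 : Coded (sys ω) (GG ω) N211 := Coded.mul_of (hN52 ω) (cdY ω) (by decide +kernel)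
theorem hN212 : Coded (sys ω) (GG ω) N212 := Coded.mul_of (hN211 ω) (cdX ω) (by decide +kernel)
theorem hN213 : Coded (sys ω) (GG ω) N213 := Coded.mul_of (hN212 ω) (cdY ω) (by decide +kernel)
theorem hN214 : Coded (sys ω) (GG ω) N214 := Coded.mul_of (hN213 ω) (cdY ω) (by decide +kernel)
theorem hN215 : Coded (sys ω) (GG ω) N215 := Coded.mul_of (hN214 ω) (cdY ω) (by decide +kernel)
theorem hN216 : Coded (sys ω) (GG ω) N216 := Coded.mul_of (hN215 ω) (cdY ω) (by decide +kernel)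
theorem hN217 : Coded (sys ω) (GG ω) N217 := Coded.mul_of (hN216 ω) (cdY ω) (by decide +kernel)
theorem hN218 : Coded (sys ω) (GG ω) N218 := Coded.mul_of (hN217 ω) (cdY ω) (by decide +kernel)
theorem hN219 : Coded (sys ω) (GG ω) N219 := Coded.mul_of (hN218 ω) (hN218 ω) (by decide +kernel)
theorem hN220 : Coded (sys ω) (GG ω) N220 := Coded.mul_of (hN219 ω) (hN219 ω) (by decide +kernel)
theorem hN221 : Coded (sys ω) (GG ω) N221 := Coded.mul_of (hN218 ω) (hN220 ω) (by decide +kernel)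
theorem hN222 : Coded (sys ω) (GG ω) N222 := Coded.inv_of (hN145 ω) (by decide +kernel)
theorem hN223 : Coded (sys ω) (GG ω) N223 := Coded.mul_of (hN196 ω) (hN164 ω) (by decide +kernel)
theorem hN224 : Coded (sys ω) (GG ω) N224 := Coded.mul_of (hN223 ω) (hN196 ω) (by decide +kernel)
theorem hN225 : Coded (sys ω) (GG ω) N225 := Coded.mul_of (hN224 ω) (hN164 ω) (by decide +kernel)
theorem hN226 : Coded (sys ω) (GG ω) N226 := Coded.mul_of (hN225 ω) (hN48 ω) (by decide +kernel)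
theorem hN227 : Coded (sys ω) (GG ω) N227 := Coded.mul_of (hN226 ω) (hN48 ω) (by decide +kernel)
theorem hN228 : Coded (sys ω) (GG ω) N228 := Coded.mul_of (hN227 ω) (hN145 ω) (by decide +kernel)
theorem hN229 : Coded (sys ω) (GG ω) N229 := Coded.mul_of (hN228 ω) (hN164 ω) (by decide +kernel)
theorem hN230 : Coded (sys ω) (GG ω) N230 := Coded.mul_of (hN229 ω) (hN210 ω) (by decide +kernel)
theorem hN231 : Coded (sys ω) (GG ω) N231 := Coded.mul_of (hN230 ω) (hN210 ω) (by decide +kernel)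
theorem hN232 : Coded (sys ω) (GG ω) N232 := Coded.mul_of (hN231 ω) (hN48 ω) (by decide +kernel)
theorem hN233 : Coded (sys ω) (GG ω) N233 := Coded.mul_of (hN232 ω) (hN48 ω) (by decide +kernel)
theorem hN234 : Coded (sys ω) (GG ω) N234 := Coded.mul_of (hN233 ω) (hN210 ω) (by decide +kernel)
theorem hN235 : Coded (sys ω) (GG ω) N235 := Coded.mul_of (hN234 ω) (hN210 ω) (by decide +kernel)
theorem hN236 : Coded (sys ω) (GG ω) N236 := Coded.mul_of (hN235 ω) (hN145 ω) (by decide +kernel)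
theorem hN237 : Coded (sys ω) (GG ω) N237 := Coded.mul_of (hN236 ω) (hN210 ω) (by decide +kernel)
theorem hN238 : Coded (sys ω) (GG ω) N238 := Coded.mul_of (hN237 ω) (hN196 ω) (by decide +kernel)
theorem hN239 : Coded (sys ω) (GG ω) N239 := Coded.mul_of (hN238 ω) (hN210 ω) (by decide +kernel)
theorem hN240 : Coded (sys ω) (GG ω) N240 := Coded.mul_of (hN239 ω) (hN164 ω) (by decide +kernel)
theorem hN241 : Coded (sys ω) (GG ω) N241 := Coded.mul_of (hN240 ω) (hN145 ω) (by decide +kernel)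
theorem hN242 : Coded (sys ω) (GG ω) N242 := Coded.mul_of (hN241 ω) (hN210 ω) (by decide +kernel)
theorem hN243 : Coded (sys ω) (GG ω) N243 := Coded.mul_of (hN242 ω) (hN164 ω) (by decide +kernel)
theorem hN244 : Coded (sys ω) (GG ω) N244 := Coded.mul_of (hN243 ω) (hN210 ω) (by decide +kernel)
theorem hN245 : Coded (sys ω) (GG ω) N245 := Coded.mul_of (hN244 ω) (hN145 ω) (by decide +kernel)
theorem hN246 : Coded (sys ω) (GG ω) N246 := Coded.mul_of (hN245 ω) (hN48 ω) (by decide +kernel)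
theorem hN247 : Coded (sys ω) (GG ω) N247 := Coded.mul_of (hN246 ω) (hN164 ω) (by decide +kernel)
theorem hN248 : Coded (sys ω) (GG ω) N248 := Coded.mul_of (hN247 ω) (hN145 ω) (by decide +kernel)
theorem hN249 : Coded (sys ω) (GG ω) N249 := Coded.mul_of (hN248 ω) (hN104 ω) (by decide +kernel)
theorem hN250 : Coded (sys ω) (GG ω) N250 := Coded.mul_of (hN249 ω) (hN196 ω) (by decide +kernel)
theorem hN251 : Coded (sys ω) (GG ω) N251 := Coded.mul_of (hN250 ω) (hN48 ω) (by decide +kernel)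
theorem hN252 : Coded (sys ω) (GG ω) N252 := Coded.mul_of (hN251 ω) (hN164 ω) (by decide +kernel)
theorem hN253 : Coded (sys ω) (GG ω) N253 := Coded.mul_of (hN222 ω) (hN252 ω) (by decide +kernel)
theorem hN254 : Coded (sys ω) (GG ω) N254 := Coded.inv_of (hN48 ω) (by decide +kernel)
theorem hN255 : Coded (sys ω) (GG ω) N255 := Coded.mul_of (hN104 ω) (hN145 ω) (by decide +kernel)
theorem hN256 : Coded (sys ω) (GG ω) N256 := Coded.mul_of (hN255 ω) (hN104 ω) (by decide +kernel)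
theorem hN257 : Coded (sys ω) (GG ω) N257 := Coded.mul_of (hN256 ω) (hN210 ω) (by decide +kernel)
theorem hN258 : Coded (sys ω) (GG ω) N258 := Coded.mul_of (hN257 ω) (hN104 ω) (by decide +kernel)
theorem hN259 : Coded (sys ω) (GG ω) N259 := Coded.mul_of (hN258 ω) (hN164 ω) (by decide +kernel)
theorem hN260 : Coded (sys ω) (GG ω) N260 := Coded.mul_of (hN259 ω) (hN164 ω) (by decide +kernel)
theorem hN261 : Coded (sys ω) (GG ω) N261 := Coded.mul_of (hN260 ω) (hN164 ω) (by decide +kernel)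
theorem hN262 : Coded (sys ω) (GG ω) N262 := Coded.mul_of (hN261 ω) (hN48 ω) (by decide +kernel)
theorem hN263 : Coded (sys ω) (GG ω) N263 := Coded.mul_of (hN262 ω) (hN104 ω) (by decide +kernel)
theorem hN264 : Coded (sys ω) (GG ω) N264 := Coded.mul_of (hN263 ω) (hN164 ω) (by decide +kernel)
theorem hN265 : Coded (sys ω) (GG ω) N265 := Coded.mul_of (hN264 ω) (hN164 ω) (by decide +kernel)
theorem hN266 : Coded (sys ω) (GG ω) N266 := Coded.mul_of (hN265 ω) (hN196 ω) (by decide +kernel)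
theorem hN267 : Coded (sys ω) (GG ω) N267 := Coded.mul_of (hN266 ω) (hN145 ω) (by decide +kernel)
theorem hN268 : Coded (sys ω) (GG ω) N268 := Coded.mul_of (hN267 ω) (hN104 ω) (by decide +kernel)
theorem hN269 : Coded (sys ω) (GG ω) N269 := Coded.mul_of (hN268 ω) (hN164 ω) (by decide +kernel)
theorem hN270 : Coded (sys ω) (GG ω) N270 := Coded.mul_of (hN269 ω) (hN196 ω) (by decide +kernel)
theorem hN271 : Coded (sys ω) (GG ω) N271 := Coded.mul_of (hN270 ω) (hN145 ω) (by decide +kernel)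
theorem hN272 : Coded (sys ω) (GG ω) N272 := Coded.mul_of (hN271 ω) (hN210 ω) (by decide +kernel)
theorem hN273 : Coded (sys ω) (GG ω) N273 := Coded.mul_of (hN272 ω) (hN164 ω) (by decide +kernel)
theorem hN274 : Coded (sys ω) (GG ω) N274 := Coded.mul_of (hN273 ω) (hN145 ω) (by decide +kernel)
theorem hN275 : Coded (sys ω) (GG ω) N275 := Coded.mul_of (hN254 ω) (hN274 ω) (by decide +kernel)
theorem hN276 : Coded (sys ω) (GG ω) N276 := Coded.inv_of (hN104 ω) (by decide +kernel)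
theorem hN277 : Coded (sys ω) (GG ω) N277 := Coded.mul_of (hN253 ω) (hN104 ω) (by decide +kernel)
theorem hN278 : Coded (sys ω) (GG ω) N278 := Coded.mul_of (hN277 ω) (hN164 ω) (by decide +kernel)
theorem hN279 : Coded (sys ω) (GG ω) N279 := Coded.mul_of (hN278 ω) (hN196 ω) (by decide +kernel)
theorem hN280 : Coded (sys ω) (GG ω) N280 := Coded.mul_of (hN279 ω) (hN145 ω) (by decide +kernel)
theorem hN281 : Coded (sys ω) (GG ω) N281 := Coded.mul_of (hN280 ω) (hN196 ω) (by decide +kernel)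
theorem hN282 : Coded (sys ω) (GG ω) N282 := Coded.mul_of (hN281 ω) (hN196 ω) (by decide +kernel)
theorem hN283 : Coded (sys ω) (GG ω) N283 := Coded.mul_of (hN282 ω) (hN145 ω) (by decide +kernel)
theorem hN284 : Coded (sys ω) (GG ω) N284 := Coded.mul_of (hN283 ω) (hN104 ω) (by decide +kernel)
theorem hN285 : Coded (sys ω) (GG ω) N285 := Coded.mul_of (hN284 ω) (hN210 ω) (by decide +kernel)
theorem hN286 : Coded (sys ω) (GG ω) N286 := Coded.mul_of (hN285 ω) (hN196 ω) (by decide +kernel)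
theorem hN287 : Coded (sys ω) (GG ω) N287 := Coded.mul_of (hN286 ω) (hN196 ω) (by decide +kernel)
theorem hN288 : Coded (sys ω) (GG ω) N288 := Coded.mul_of (hN287 ω) (hN210 ω) (by decide +kernel)
theorem hN289 : Coded (sys ω) (GG ω) N289 := Coded.mul_of (hN288 ω) (hN210 ω) (by decide +kernel)
theorem hN290 : Coded (sys ω) (GG ω) N290 := Coded.mul_of (hN289 ω) (hN210 ω) (by decide +kernel)
theorem hN291 : Coded (sys ω) (GG ω) N291 := Coded.mul_of (hN290 ω) (hN48 ω) (by decide +kernel)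
theorem hN292 : Coded (sys ω) (GG ω) N292 := Coded.mul_of (hN291 ω) (hN164 ω) (by decide +kernel)
theorem hN293 : Coded (sys ω) (GG ω) N293 := Coded.mul_of (hN292 ω) (hN210 ω) (by decide +kernel)
theorem hN294 : Coded (sys ω) (GG ω) N294 := Coded.mul_of (hN276 ω) (hN293 ω) (by decide +kernel)
theorem hN295 : Coded (sys ω) (GG ω) N295 := Coded.mul_of (hN145 ω) (hN104 ω) (by decide +kernel)
theorem hN296 : Coded (sys ω) (GG ω) N296 := Coded.mul_of (hN295 ω) (hN104 ω) (by decide +kernel)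
theorem hN297 : Coded (sys ω) (GG ω) N297 := Coded.mul_of (hN296 ω) (hN210 ω) (by decide +kernel)
theorem hN298 : Coded (sys ω) (GG ω) N298 := Coded.mul_of (hN297 ω) (hN104 ω) (by decide +kernel)
theorem hN299 : Coded (sys ω) (GG ω) N299 := Coded.mul_of (hN298 ω) (hN48 ω) (by decide +kernel)
theorem hN300 : Coded (sys ω) (GG ω) N300 := Coded.mul_of (hN280 ω) (hN164 ω) (by decide +kernel)
theorem hN301 : Coded (sys ω) (GG ω) N301 := Coded.mul_of (hN300 ω) (hN104 ω) (by decide +kernel)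
theorem hN302 : Coded (sys ω) (GG ω) N302 := Coded.mul_of (hN301 ω) (hN145 ω) (by decide +kernel)
theorem hN303 : Coded (sys ω) (GG ω) N303 := Coded.mul_of (hN302 ω) (hN104 ω) (by decide +kernel)
theorem hN304 : Coded (sys ω) (GG ω) N304 := Coded.mul_of (hN303 ω) (hN164 ω) (by decide +kernel)
theorem hN305 : Coded (sys ω) (GG ω) N305 := Coded.mul_of (hN304 ω) (hN164 ω) (by decide +kernel)
theorem hN306 : Coded (sys ω) (GG ω) N306 := Coded.mul_of (hN305 ω) (hN48 ω) (by decide +kernel)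
theorem hN307 : Coded (sys ω) (GG ω) N307 := Coded.mul_of (hN306 ω) (hN210 ω) (by decide +kernel)
theorem hN308 : Coded (sys ω) (GG ω) N308 := Coded.mul_of (hN307 ω) (hN48 ω) (by decide +kernel)
theorem hN309 : Coded (sys ω) (GG ω) N309 := Coded.mul_of (hN308 ω) (hN196 ω) (by decide +kernel)
theorem hN310 : Coded (sys ω) (GG ω) N310 := Coded.mul_of (hN309 ω) (hN196 ω) (by decide +kernel)
theorem hN311 : Coded (sys ω) (GG ω) N311 := Coded.mul_of (hN310 ω) (hN145 ω) (by decide +kernel)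
theorem hN312 : Coded (sys ω) (GG ω) N312 := Coded.mul_of (hN311 ω) (hN145 ω) (by decide +kernel)
theorem hN313 : Coded (sys ω) (GG ω) N313 := Coded.mul_of (hN312 ω) (hN312 ω) (by decide +kernel)
theorem hN314 : Coded (sys ω) (GG ω) N314 := Coded.inv_of (hN294 ω) (by decide +kernel)
theorem hN315 : Coded (sys ω) (GG ω) N315 := Coded.mul_of (hN275 ω) (hN275 ω) (by decide +kernel)
theorem hN316 : Coded (sys ω) (GG ω) N316 := Coded.mul_of (hN299 ω) (hN275 ω) (by decide +kernel)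
theorem hN317 : Coded (sys ω) (GG ω) N317 := Coded.mul_of (hN316 ω) (hN294 ω) (by decide +kernel)
theorem hN318 : Coded (sys ω) (GG ω) N318 := Coded.mul_of (hN317 ω) (hN294 ω) (by decide +kernel)
theorem hN319 : Coded (sys ω) (GG ω) N319 := Coded.mul_of (hN318 ω) (hN294 ω) (by decide +kernel)
theorem hN320 : Coded (sys ω) (GG ω) N320 := Coded.mul_of (hN319 ω) (hN294 ω) (by decide +kernel)
theorem hN321 : Coded (sys ω) (GG ω) N321 := Coded.mul_of (hN320 ω) (hN275 ω) (by decide +kernel)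
theorem hN322 : Coded (sys ω) (GG ω) N322 := Coded.mul_of (hN321 ω) (hN294 ω) (by decide +kernel)
theorem hN323 : Coded (sys ω) (GG ω) N323 := Coded.mul_of (hN322 ω) (hN294 ω) (by decide +kernel)
theorem hN324 : Coded (sys ω) (GG ω) N324 := Coded.mul_of (hN323 ω) (hN253 ω) (by decide +kernel)
theorem hN325 : Coded (sys ω) (GG ω) N325 := Coded.mul_of (hN324 ω) (hN294 ω) (by decide +kernel)
theorem hN326 : Coded (sys ω) (GG ω) N326 := Coded.mul_of (hN322 ω) (hN275 ω) (by decide +kernel)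
theorem hN327 : Coded (sys ω) (GG ω) N327 := Coded.mul_of (hN326 ω) (hN294 ω) (by decide +kernel)
theorem hN328 : Coded (sys ω) (GG ω) N328 := Coded.mul_of (hN327 ω) (hN294 ω) (by decide +kernel)
theorem hN329 : Coded (sys ω) (GG ω) N329 := Coded.mul_of (hN328 ω) (hN294 ω) (by decide +kernel)
theorem hN330 : Coded (sys ω) (GG ω) N330 := Coded.mul_of (hN329 ω) (hN294 ω) (by decide +kernel)
theorem hN331 : Coded (sys ω) (GG ω) N331 := Coded.mul_of (hN287 ω) (hN294 ω) (by decide +kernel)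
theorem hN332 : Coded (sys ω) (GG ω) N332 := Coded.mul_of (hN331 ω) (hN253 ω) (by decide +kernel)
theorem hN333 : Coded (sys ω) (GG ω) N333 := Coded.mul_of (hN332 ω) (hN294 ω) (by decide +kernel)
theorem hN334 : Coded (sys ω) (GG ω) N334 := Coded.mul_of (hN333 ω) (hN275 ω) (by decide +kernel)
theorem hN335 : Coded (sys ω) (GG ω) N335 := Coded.mul_of (hN334 ω) (hN275 ω) (by decide +kernel)
theorem hN336 : Coded (sys ω) (GG ω) N336 := Coded.mul_of (hN314 ω) (hN335 ω) (by decide +kernel)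
theorem hN337 : Coded (sys ω) (GG ω) N337 := Coded.mul_of (hN333 ω) (hN294 ω) (by decide +kernel)
theorem hN338 : Coded (sys ω) (GG ω) N338 := Coded.mul_of (hN337 ω) (hN275 ω) (by decide +kernel)
theorem hN339 : Coded (sys ω) (GG ω) N339 := Coded.mul_of (hN338 ω) (hN275 ω) (by decide +kernel)
theorem hN340 : Coded (sys ω) (GG ω) N340 := Coded.mul_of (hN339 ω) (hN294 ω) (by decide +kernel)
theorem hN341 : Coded (sys ω) (GG ω) N341 := Coded.mul_of (hN340 ω) (hN253 ω) (by decide +kernel)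
theorem hN342 : Coded (sys ω) (GG ω) N342 := Coded.mul_of (hN262 ω) (hN294 ω) (by decide +kernel)
theorem hN343 : Coded (sys ω) (GG ω) N343 := Coded.mul_of (hN342 ω) (hN275 ω) (by decide +kernel)
theorem hN344 : Coded (sys ω) (GG ω) N344 := Coded.mul_of (hN343 ω) (hN253 ω) (by decide +kernel)
theorem hN345 : Coded (sys ω) (GG ω) N345 := Coded.mul_of (hN344 ω) (hN294 ω) (by decide +kernel)
theorem hN346 : Coded (sys ω) (GG ω) N346 := Coded.mul_of (hN345 ω) (hN253 ω) (by decide +kernel)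
theorem hN347 : Coded (sys ω) (GG ω) N347 := Coded.mul_of (hN330 ω) (hN275 ω) (by decide +kernel)
theorem hN348 : Coded (sys ω) (GG ω) N348 := Coded.mul_of (hN347 ω) (hN253 ω) (by decide +kernel)
theorem hN349 : Coded (sys ω) (GG ω) N349 := Coded.mul_of (hN348 ω) (hN275 ω) (by decide +kernel)
theorem hN350 : Coded (sys ω) (GG ω) N350 := Coded.mul_of (hN349 ω) (hN294 ω) (by decide +kernel)
theorem hN351 : Coded (sys ω) (GG ω) N351 := Coded.mul_of (hN350 ω) (hN253 ω) (by decide +kernel)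
theorem hN352 : Coded (sys ω) (GG ω) N352 := Coded.mul_of (hN351 ω) (hN275 ω) (by decide +kernel)
theorem hN353 : Coded (sys ω) (GG ω) N353 := Coded.mul_of (hN352 ω) (hN294 ω) (by decide +kernel)
theorem hN354 : Coded (sys ω) (GG ω) N354 := Coded.mul_of (hN353 ω) (hN294 ω) (by decide +kernel)
theorem hN355 : Coded (sys ω) (GG ω) N355 := Coded.mul_of (hN354 ω) (hN294 ω) (by decide +kernel)
theorem hN356 : Coded (sys ω) (GG ω) N356 := Coded.mul_of (hN355 ω) (hN275 ω) (by decide +kernel)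
theorem hN357 : Coded (sys ω) (GG ω) N357 := Coded.mul_of (hN356 ω) (hN294 ω) (by decide +kernel)
theorem hN358 : Coded (sys ω) (GG ω) N358 := Coded.mul_of (hN357 ω) (hN253 ω) (by decide +kernel)
theorem hN359 : Coded (sys ω) (GG ω) N359 := Coded.mul_of (hN315 ω) (hN358 ω) (by decide +kernel)
theorem hN360 : Coded (sys ω) (GG ω) N360 := Coded.mul_of (hN315 ω) (hN253 ω) (by decide +kernel)
theorem hN361 : Coded (sys ω) (GG ω) N361 := Coded.mul_of (hN360 ω) (hN294 ω) (by decide +kernel)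
theorem hN362 : Coded (sys ω) (GG ω) N362 := Coded.mul_of (hN361 ω) (hN275 ω) (by decide +kernel)
theorem hN363 : Coded (sys ω) (GG ω) N363 := Coded.mul_of (hN362 ω) (hN253 ω) (by decide +kernel)
theorem hN364 : Coded (sys ω) (GG ω) N364 := Coded.mul_of (hN363 ω) (hN275 ω) (by decide +kernel)
theorem hN365 : Coded (sys ω) (GG ω) N365 := Coded.mul_of (hN363 ω) (hN294 ω) (by decide +kernel)
theorem hN366 : Coded (sys ω) (GG ω) N366 := Coded.mul_of (hN346 ω) (hN294 ω) (by decide +kernel)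
theorem hN367 : Coded (sys ω) (GG ω) N367 := Coded.mul_of (hN366 ω) (hN275 ω) (by decide +kernel)
theorem hN368 : Coded (sys ω) (GG ω) N368 := Coded.mul_of (hN367 ω) (hN294 ω) (by decide +kernel)
theorem hN369 : Coded (sys ω) (GG ω) N369 := Coded.mul_of (hN368 ω) (hN253 ω) (by decide +kernel)
theorem hN370 : Coded (sys ω) (GG ω) N370 := Coded.mul_of (hN369 ω) (hN294 ω) (by decide +kernel)
theorem hN371 : Coded (sys ω) (GG ω) N371 := Coded.mul_of (hN370 ω) (hN253 ω) (by decide +kernel)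
theorem hN372 : Coded (sys ω) (GG ω) N372 := Coded.mul_of (hN371 ω) (hN294 ω) (by decide +kernel)
theorem hN373 : Coded (sys ω) (GG ω) N373 := Coded.mul_of (hN372 ω) (hN275 ω) (by decide +kernel)
theorem hN374 : Coded (sys ω) (GG ω) N374 := Coded.mul_of (hN373 ω) (hN253 ω) (by decide +kernel)
theorem hN375 : Coded (sys ω) (GG ω) N375 := Coded.mul_of (hN374 ω) (hN294 ω) (by decide +kernel)
theorem hN376 : Coded (sys ω) (GG ω) N376 := Coded.mul_of (hN314 ω) (hN375 ω) (by decide +kernel)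
theorem hN377 : Coded (sys ω) (GG ω) N377 := Coded.mul_of (hN365 ω) (hN294 ω) (by decide +kernel)
theorem hN378 : Coded (sys ω) (GG ω) N378 := Coded.mul_of (hN364 ω) (hN364 ω) (by decide +kernel)
theorem hN379 : Coded (sys ω) (GG ω) N379 := Coded.mul_of (hN364 ω) (hN359 ω) (by decide +kernel)
theorem hN380 : Coded (sys ω) (GG ω) N380 := Coded.mul_of (hN377 ω) (hN377 ω) (by decide +kernel)
theorem hN381 : Coded (sys ω) (GG ω) N381 := Coded.mul_of (hN379 ω) (hN376 ω) (by decide +kernel)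
theorem hN382 : Coded (sys ω) (GG ω) N382 := Coded.mul_of (hN341 ω) (hN336 ω) (by decide +kernel)
theorem hN383 : Coded (sys ω) (GG ω) N383 := Coded.mul_of (hN148 ω) (cdY ω) (by decide +kernel)
theorem hN384 : Coded (sys ω) (GG ω) N384 := Coded.mul_of (hN383 ω) (cdY ω) (by decide +kernel)
theorem hN385 : Coded (sys ω) (GG ω) N385 := Coded.mul_of (hN34 ω) (cdY ω) (by decide +kernel)
theorem hN386 : Coded (sys ω) (GG ω) N386 := Coded.mul_of (hN385 ω) (cdY ω) (by decide +kernel)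
theorem hN387 : Coded (sys ω) (GG ω) N387 := Coded.mul_of (hN386 ω) (cdY ω) (by decide +kernel)
theorem hN388 : Coded (sys ω) (GG ω) N388 := Coded.mul_of (hN387 ω) (cdY ω) (by decide +kernel)
theorem hN389 : Coded (sys ω) (GG ω) N389 := Coded.mul_of (hN388 ω) (cdY ω) (by decide +kernel)
theorem hN390 : Coded (sys ω) (GG ω) N390 := Coded.mul_of (hN165 ω) (cdY ω) (by decide +kernel)
theorem hN391 : Coded (sys ω) (GG ω) N391 := Coded.mul_of (hN390 ω) (cdX ω) (by decide +kernel)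
theorem hN392 : Coded (sys ω) (GG ω) N392 := Coded.mul_of (hN391 ω) (cdY ω) (by decide +kernel)
theorem hN393 : Coded (sys ω) (GG ω) N393 := Coded.mul_of (hN392 ω) (cdY ω) (by decide +kernel)
theorem hN394 : Coded (sys ω) (GG ω) N394 := Coded.mul_of (hN393 ω) (cdY ω) (by decide +kernel)
theorem hN395 : Coded (sys ω) (GG ω) N395 := Coded.mul_of (hN394 ω) (cdY ω) (by decide +kernel)
theorem hN396 : Coded (sys ω) (GG ω) N396 := Coded.mul_of (hN395 ω) (cdY ω) (by decide +kernel)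
theorem hN397 : Coded (sys ω) (GG ω) N397 := Coded.mul_of (hN396 ω) (cdY ω) (by decide +kernel)
theorem hN398 : Coded (sys ω) (GG ω) N398 := Coded.mul_of (hN397 ω) (cdX ω) (by decide +kernel)
theorem hN399 : Coded (sys ω) (GG ω) N399 := Coded.mul_of (hN398 ω) (cdY ω) (by decide +kernel)
theorem hN400 : Coded (sys ω) (GG ω) N400 := Coded.inv_of (hN399 ω) (by decide +kernel)
theorem hN401 : Coded (sys ω) (GG ω) N401 := Coded.mul_of (hN384 ω) (cdX ω) (by decide +kernel)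
theorem hN402 : Coded (sys ω) (GG ω) N402 := Coded.mul_of (hN401 ω) (cdY ω) (by decide +kernel)
theorem hN403 : Coded (sys ω) (GG ω) N403 := Coded.mul_of (hN402 ω) (cdY ω) (by decide +kernel)
theorem hN404 : Coded (sys ω) (GG ω) N404 := Coded.mul_of (hN403 ω) (cdX ω) (by decide +kernel)
theorem hN405 : Coded (sys ω) (GG ω) N405 := Coded.mul_of (hN404 ω) (cdY ω) (by decide +kernel)
theorem hN406 : Coded (sys ω) (GG ω) N406 := Coded.mul_of (hN405 ω) (cdY ω) (by decide +kernel)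
theorem hN407 : Coded (sys ω) (GG ω) N407 := Coded.mul_of (hN400 ω) (hN406 ω) (by decide +kernel)
theorem hN408 : Coded (sys ω) (GG ω) N408 := Coded.mul_of (hN11 ω) (cdY ω) (by decide +kernel)
theorem hN409 : Coded (sys ω) (GG ω) N409 := Coded.mul_of (hN408 ω) (cdY ω) (by decide +kernel)
theorem hN410 : Coded (sys ω) (GG ω) N410 := Coded.mul_of (hN409 ω) (cdX ω) (by decide +kernel)
theorem hN411 : Coded (sys ω) (GG ω) N411 := Coded.mul_of (hN410 ω) (cdY ω) (by decide +kernel)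
theorem hN412 : Coded (sys ω) (GG ω) N412 := Coded.mul_of (hN411 ω) (cdY ω) (by decide +kernel)
theorem hN413 : Coded (sys ω) (GG ω) N413 := Coded.mul_of (hN412 ω) (cdY ω) (by decide +kernel)
theorem hN414 : Coded (sys ω) (GG ω) N414 := Coded.mul_of (hN413 ω) (cdX ω) (by decide +kernel)
theorem hN415 : Coded (sys ω) (GG ω) N415 := Coded.mul_of (hN414 ω) (cdY ω) (by decide +kernel)
theorem hN416 : Coded (sys ω) (GG ω) N416 := Coded.mul_of (hN415 ω) (cdY ω) (by decide +kernel)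
theorem hN417 : Coded (sys ω) (GG ω) N417 := Coded.mul_of (hN416 ω) (cdY ω) (by decide +kernel)
theorem hN418 : Coded (sys ω) (GG ω) N418 := Coded.mul_of (hN417 ω) (cdX ω) (by decide +kernel)
theorem hN419 : Coded (sys ω) (GG ω) N419 := Coded.mul_of (hN418 ω) (cdY ω) (by decide +kernel)
theorem hN420 : Coded (sys ω) (GG ω) N420 := Coded.mul_of (hN419 ω) (cdY ω) (by decide +kernel)
theorem hN421 : Coded (sys ω) (GG ω) N421 := Coded.mul_of (hN420 ω) (cdY ω) (by decide +kernel)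
theorem hN422 : Coded (sys ω) (GG ω) N422 := Coded.mul_of (hN421 ω) (cdY ω) (by decide +kernel)
theorem hN423 : Coded (sys ω) (GG ω) N423 := Coded.mul_of (hN422 ω) (cdY ω) (by decide +kernel)
theorem hN424 : Coded (sys ω) (GG ω) N424 := Coded.mul_of (hN423 ω) (cdY ω) (by decide +kernel)
theorem hN425 : Coded (sys ω) (GG ω) N425 := Coded.mul_of (hN424 ω) (cdX ω) (by decide +kernel)
theorem hN426 : Coded (sys ω) (GG ω) N426 := Coded.inv_of (hN425 ω) (by decide +kernel)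
theorem hN427 : Coded (sys ω) (GG ω) N427 := Coded.mul_of (hN389 ω) (cdX ω) (by decide +kernel)
theorem hN428 : Coded (sys ω) (GG ω) N428 := Coded.mul_of (hN426 ω) (hN427 ω) (by decide +kernel)
theorem hN429 : Coded (sys ω) (GG ω) N429 := Coded.mul_of (hN325 ω) (hN325 ω) (by decide +kernel)
theorem hN430 : Coded (sys ω) (GG ω) N430 := Coded.mul_of (hN429 ω) (hN429 ω) (by decide +kernel)
theorem hN431 : Coded (sys ω) (GG ω) N431 := Coded.mul_of (hN430 ω) (hN430 ω) (by decide +kernel)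
theorem hN432 : Coded (sys ω) (GG ω) N432 := Coded.mul_of (hN431 ω) (hN325 ω) (by decide +kernel)
theorem hN433 : Coded (sys ω) (GG ω) N433 := Coded.mul_of (hN382 ω) (hN382 ω) (by decide +kernel)
theorem hN434 : Coded (sys ω) (GG ω) N434 := Coded.mul_of (hN433 ω) (hN433 ω) (by decide +kernel)
theorem hN435 : Coded (sys ω) (GG ω) N435 := Coded.mul_of (hN434 ω) (hN434 ω) (by decide +kernel)
theorem hN436 : Coded (sys ω) (GG ω) N436 := Coded.mul_of (hN435 ω) (hN382 ω) (by decide +kernel)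
theorem hN437 : Coded (sys ω) (GG ω) N437 := Coded.mul_of (hN381 ω) (hN381 ω) (by decide +kernel)
theorem hN438 : Coded (sys ω) (GG ω) N438 := Coded.mul_of (hN437 ω) (hN437 ω) (by decide +kernel)
theorem hN439 : Coded (sys ω) (GG ω) N439 := Coded.mul_of (hN438 ω) (hN438 ω) (by decide +kernel)
theorem hN440 : Coded (sys ω) (GG ω) N440 := Coded.mul_of (hN439 ω) (hN381 ω) (by decide +kernel)
theorem hN441 : Coded (sys ω) (GG ω) N441 := Coded.mul_of (hN380 ω) (hN380 ω) (by decide +kernel)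
theorem hN442 : Coded (sys ω) (GG ω) N442 := Coded.mul_of (hN441 ω) (hN441 ω) (by decide +kernel)
theorem hN443 : Coded (sys ω) (GG ω) N443 := Coded.mul_of (hN442 ω) (hN442 ω) (by decide +kernel)
theorem hN444 : Coded (sys ω) (GG ω) N444 := Coded.mul_of (hN443 ω) (hN380 ω) (by decide +kernel)
theorem hN445 : Coded (sys ω) (GG ω) N445 := Coded.mul_of (hN378 ω) (hN378 ω) (by decide +kernel)
theorem hN446 : Coded (sys ω) (GG ω) N446 := Coded.mul_of (hN445 ω) (hN445 ω) (by decide +kernel)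
theorem hN447 : Coded (sys ω) (GG ω) N447 := Coded.mul_of (hN446 ω) (hN446 ω) (by decide +kernel)
theorem hN448 : Coded (sys ω) (GG ω) N448 := Coded.mul_of (hN447 ω) (hN378 ω) (by decide +kernel)
theorem hN449 : Coded (sys ω) (GG ω) N449 := Coded.mul_of (hN313 ω) (hN313 ω) (by decide +kernel)
theorem hN450 : Coded (sys ω) (GG ω) N450 := Coded.mul_of (hN449 ω) (hN449 ω) (by decide +kernel)
theorem hN451 : Coded (sys ω) (GG ω) N451 := Coded.mul_of (hN450 ω) (hN450 ω) (by decide +kernel)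
theorem hN452 : Coded (sys ω) (GG ω) N452 := Coded.mul_of (hN451 ω) (hN313 ω) (by decide +kernel)
theorem hN453 : Coded (sys ω) (GG ω) N453 := Coded.mul_of (hN221 ω) (hN221 ω) (by decide +kernel)
theorem hN454 : Coded (sys ω) (GG ω) N454 := Coded.mul_of (hN453 ω) (hN453 ω) (by decide +kernel)
theorem hN455 : Coded (sys ω) (GG ω) N455 := Coded.mul_of (hN454 ω) (hN454 ω) (by decide +kernel)
theorem hN456 : Coded (sys ω) (GG ω) N456 := Coded.mul_of (hN455 ω) (hN221 ω) (by decide +kernel)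

theorem hx : ∀ a < C.D.n, Coded (sys ω) (GG ω) (cx a) := by
  intro a ha
  have ha' : a < 7 := ha
  interval_cases a
  · exact hN432 ω
  · exact hN436 ω
  · exact hN440 ω
  · exact hN444 ω
  · exact hN448 ω
  · exact hN452 ω
  · exact hN456 ω

theorem hg : ∀ i < C.fus.length, Coded (sys ω) (GG ω) (cg i) := by
  intro a ha
  have ha' : a < 2 := ha
  interval_cases a
  · exact hN407 ω
  · exact hN428 ω

variable [Finite F]

theorem lb : LocalBound (GG ω) 2 0 :=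
  ub_code (sys ω) (GG ω) C (by norm_num [C]) hC cx cg (hx ω) (hg ω) hpc hfus hinj (by rw [card_GG]; norm_num [C])

end

end Cfsg.Agent.Lib.Helper63MJ3P2
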