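import Cfsg.Agent.Lib.Helper63MJ3M

set_option autoImplicit false
set_option maxRecDepth 1000000
set_option maxHeartbeats 0

namespace Cfsg.Agent.Lib.Helper63MJ3P3

open Cfsg Cfsg.Spor Cfsg.Agent.Helper64J3 Cfsg.Agent.Lib.Helper63PCDefs Cfsg.Agent.Lib.Helper63PCCode Cfsg.Agent.Lib.Helper63MJ3M

def N0 : ℕ := 0x20081042042416840061080180d04426190c88000
def N1 : ℕ := 0x1c4bd012face6d70075c4a054ebb8eccd6696000
def N2 : ℕ := 0x39381262c521aee2cc31bb151a9c232f59a040812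
def N3 : ℕ := 0x2aa45101041908e2811aa4fcba9c8f43e892e61d6
def N4 : ℕ := 0x16a260024321245e001db4879b41e8003ee7c90
def N5 : ℕ := 0x50a584c204844118bcf4b39c29878052d25f2f30
def N6 : ℕ := 0x2aa14309041900c2315be9c8aad88b02eda63c554
def N7 : ℕ := 0x393767eac5200eba72f7a9cbcb83039e41eb251c8
def N8 : ℕ := 0x2c6de8fd320093ba66caf612a9fae4c3f81947a11
def N9 : ℕ := 0x3acfb74d0ca4b2bf667416e21735a8baa20fa0f40
def N10 : ℕ := 0x3a5ad12be1349cffc665895f80e6358d056bfd140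
def N11 : ℕ := 0x27a1ab4afe53a85ccced9943be6561e6b3591419e
def N12 : ℕ := 0x804010000200800010080200000020080401008
def N13 : ℕ := 0x100400008040000802000040200004010000201
def N14 : ℕ := 0xe2500160b0001308c00d06800130c80000201
def N15 : ℕ := 0x4020000400008000100002008060000400000040
def N16 : ℕ := 0x984c0011801a0004c00190008041c002500000b0
def N17 : ℕ := 0x804010080001800000080001000020000401000
def N18 : ℕ := 0x100402008000000802010040000004010080200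
def N19 : ℕ := 0xe251296000001308c46d00000130c86400200
def N20 : ℕ := 0x20081448202c048400711081a0104426000c80040
def N21 : ℕ := 0x1c4bf5e81cd30d7007c9ae9d4c3b8ec0066800b0
def N22 : ℕ := 0x393817e9335d3ee2cc0798d53810232f192cc2416
def N23 : ℕ := 0x2aa45308821104e281134d553cc08f43cd747ace6
def N24 : ℕ := 0x16a261324200245e3b600f35db41e87d80121ae
def N25 : ℕ := 0x142339386c2c165ec5729e15321d2a6980f2035bc
def N26 : ℕ := 0xa030288430480208802230830130884432101008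
def N27 : ℕ := 0x1ec0a7b91ba84a589308e0a574c2e97a755eb41a0
def N28 : ℕ := 0x3199b6276a01bba614f91c9d3cda4d8d53afc6804
def N29 : ℕ := 0x2e783996ace497a1ea8e20973759e9114b71c0902
def N30 : ℕ := 0x178da7a25fbc987c374184b5b6aadd387c68a41a0
def N31 : ℕ := 0x23f812f6233729ab8269381da69f5f0f1eab86814
def N32 : ℕ := 0x36352dcced4257c45ac72583a6194bd12af5c0d00
def N33 : ℕ := 0xdcd013b561cd234a549e411e6ea7d62197e34120
def N34 : ℕ := 0x32f1a4f54b37b28f96b03489bed75b865f0d44814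
def N35 : ℕ := 0x14678865a067dea4b188b1e52dfd32e4a04eef976
def N36 : ℕ := 0x19c5794c17fcf1a8be0d5eb177deb2463523c4f8c
def N37 : ℕ := 0x1879a92903af2c291f5eabd7feda82eaeea65e971
def N38 : ℕ := 0x1f4eba6581d15fe10343d4d7ffb0a0fd8dda6cd3c
def N39 : ℕ := 0x1aa8f90c32cebbe40e5d3237adbea41d5491d5d0f
def N40 : ℕ := 0x31cbb21073dff258fc5afc127ff942986b41cbb1
def N41 : ℕ := 0xf2b3a24a1f785c5b3cbf573f6dd923daddca7d6e
def N42 : ℕ := 0x3edc944377a6accb8547e87fef2165f71b315b87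
def N43 : ℕ := 0x1b751b28069bf70c999f8657fdb716e3ea1246be0
def N44 : ℕ := 0x11af9e18045e5ff3970c1cdf898ceb27c144676b8
def N45 : ℕ := 0x156bdd52ed79c43edc01b6ea08c2c91071abfda33
def N46 : ℕ := 0x1a08ce02b765aca80b52081700e3e5a4a86608408
def N47 : ℕ := 0x2300bac0b76807a40bca0020707f780e1d0651009
def N48 : ℕ := 0x82a3a48bc89b2a4ab4108a61e0c0bb3638048211
def N49 : ℕ := 0x163978fd3701de8fa5f407ab5f5663df2d8056247
def N50 : ℕ := 0x26ce054d0e748349fc01cb7db96a7cd14492a18d2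
def N51 : ℕ := 0x3393616bc1aab27d191a796e77c7bf3024b4637b2
def N52 : ℕ := 0x4794afd5ab5ccc287bf4e8f9c3bd75c09969e6d4
def N53 : ℕ := 0x3ec7271f23621b217cd2a2ff636fce5b65307ac48
def N54 : ℕ := 0x3a28d730dfd1c59243ba206b393681bf898f8d46e
def N55 : ℕ := 0x984c2311b4000004c32190000041c00001296000
def N56 : ℕ := 0x309406200830110986400200030300042040812
def N57 : ℕ := 0x4061180860506c2211080204020c050288420582
def N58 : ℕ := 0x98042201b4080084820190008040c0a251216090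
def N59 : ℕ := 0x4130c0280104a231081c0200805403040440800c
def N60 : ℕ := 0x1a833e52081c7f1759ea95554a91c4d553d067530
def N61 : ℕ := 0x3af25792600aee3b33400580008a0ed012e61d6
def N62 : ℕ := 0x260f5d88f008a308cbd02320204891c9262c67c90
def N63 : ℕ := 0x9c127a6a619723d0c979a9875a215510106080c
def N64 : ℕ := 0x2bc34a31d6a1949039c84d681608e239adc7b2f30
def N65 : ℕ := 0x3f13a0f62df1322105e401ccf75177ab64d214604
def N66 : ℕ := 0x309842006034110986432001030300448202416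
def N67 : ℕ := 0x3afd7128153aee3b3359a002c08a0ef5e83ace6
def N68 : ℕ := 0x260f5c6ec546a708cbd66810905891c97e93121ae
def N69 : ℕ := 0x9c16a93f2ea723d0fa24beb39a2155308801908
def N70 : ℕ := 0x2bc3499d1b28c49039d2842c1200e23922d6e60a7
def N71 : ℕ := 0x3f13aca87a65ca2105e7920ea12977abc0b2408a7
def N72 : ℕ := 0x5e9d217c57893e522a4b06806ed6ae70c184a194
def N73 : ℕ := 0x29a9d903fda19d621eae6ae071fee217f33f5ed32
def N74 : ℕ := 0x377baf2def4298167fb8ff65e1e1ce86b4bf5dbc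
def N75 : ℕ := 0xee85fc38509edcf40c45f165b961d160e50e10de
def N76 : ℕ := 0x1395a2a8b8f125f0e49fc36c89314782b4e8a36b3
def N77 : ℕ := 0x574d9e46de5fa3b297b2e8a9b6f21480ae895eee
def N78 : ℕ := 0x2f130edf6eec90d07a1f6fb9f242d400260000121
def N79 : ℕ := 0x5e0c59b273d381e0152ecdcbcc11a2884c20c024
def N80 : ℕ := 0x18b414e10f471522c093143f1552835530906180c
def N81 : ℕ := 0x24178a4e4b4c52b47a0d2b2d306a444a021200321
def N82 : ℕ := 0x5c073db6b1db21a874bedec36cd18a1844044064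
def N83 : ℕ := 0x18b806bb67678603505a7d9f961aa304308021804
def N84 : ℕ := 0x396440ec77bee4502fe5b13b7391f33e7e8013d30
def N85 : ℕ := 0x3827811d85a36eab21e4fc24acf2defda6d6b4734
def N86 : ℕ := 0x1eb1aeebcd7bf22c3adc7649ea53e66117b233334
def N87 : ℕ := 0x2ddf989fb2ffe428a7fc87c2bdc1087eeed46c654
def N88 : ℕ := 0x3e7ff3ffe107378f32a2235a752b6cf4d2762c9e7
def N89 : ℕ := 0x2f168c9527e8c2f44816469de22ad04a261200320
def N90 : ℕ := 0x22952c947f9d6a8c10ba15d6f1eaa480104400242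
def N91 : ℕ := 0x25580f1247439d04a8ac419c1e75303a1308890c0
def N92 : ℕ := 0x16a106f0aa6c4328b519c2bd910c0695c26102218
def N93 : ℕ := 0x28d50c4e7f99a2a9163939d662cb2452184008441
def N94 : ℕ := 0x3450a99b0e738c410a6764b8de3914b0120898008
def N95 : ℕ := 0x3b09092fa40291e97d1b0dc2e494044ade099b068
def N96 : ℕ := 0x2f1300076d21e6d07a000fb486bad400261324321
def N97 : ℕ := 0x5e0c3d2ce70a61e014b4979829d1a2800c244844
def N98 : ℕ := 0x18b416fa722ab622c0bb698aa2da8355101841900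
def N99 : ℕ := 0x241786dd24a5f4b47a1b6690d6f2444a260124320
def N100 : ℕ := 0x5c07509ef643c1a875025fd98d518a104c20c844
def N101 : ℕ := 0x298a103a2fbc9a9db5c97f7efcedb407d0ebb9980
def N102 : ℕ := 0x2b33cc874737a9cfbc366fed5f77929aba3167308
def N103 : ℕ := 0x2b294012cc67a981bc3bff01c88eaa3cc272f4bae
def N104 : ℕ := 0x2b6786925968776d1dbe74c02b18956dbc604e9c5
def N105 : ℕ := 0x1f3114794dc86bde5e2439613eba6048bc1d52157
def N106 : ℕ := 0x2008140a240812840050188020c04426190008040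
def N107 : ℕ := 0xa0300810605822088060218141b0884420080008
def N108 : ℕ := 0x1ec0a232c73dd458930144dcf2bae97abd64001a0
def N109 : ℕ := 0x3199bed4797700a614f920148e9e4d8d5f8606034
def N110 : ℕ := 0x1a83341520e20e1759eaa0106aa5c4d5a0f98153a
def N111 : ℕ := 0x2959c540c698cb76e92116a88d57ac0ab837146a7
def N112 : ℕ := 0x11c92d302c5ccb13ce35cc224f2424305a0b32ea7
def N113 : ℕ := 0x32782e26c7bb91f359f3ba0189e504040245d21e6
def N114 : ℕ := 0x327d4e213c46030c14d260805c6fb530983a41818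
def N115 : ℕ := 0x3f440206e508c025a01805351b8d561c2e0de0703
def N116 : ℕ := 0x10a3a3d0fe31006c960849a4e3138e5325e3140c0
def N117 : ℕ := 0x285d7e7a34420221965349b0cc0b05fafc9e43800
def N118 : ℕ := 0x25c13fab6c9b9090d5c783df3e7ba8ceafc6dac00
def N119 : ℕ := 0x38fa28b7a6f77a973088f057f72c21abd5f27111a
def N120 : ℕ := 0xab98744650a84a15a8233ff83148c391cd57c878
def N121 : ℕ := 0x2f579378eca1405023644e5aa0ab950f979820d3f
def N122 : ℕ := 0x1ce0dc7f3c402aaa007b834846bfd299e6d91c587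
def N123 : ℕ := 0x119595cf040885a44a8173cb8a543e6b30d73f8a8
def N124 : ℕ := 0x539bc0d2057ad45af91b97daa0a8b1f0a0c13d52
def N125 : ℕ := 0x4c26080901281c06230380001000c16110ca1009
def N126 : ℕ := 0x1d8ec235f3424b227908a44002c140e6ee66b5da1
def N127 : ℕ := 0x2b0d514bc18f1184f081480905a38849de27eb04
def N128 : ℕ := 0x4163f22d6b716930944029c120023325a94cd95a
def N129 : ℕ := 0xd8a42f4bbd6c862490880548080c4e4877424fab
def N130 : ℕ := 0xd936fb509135ae55cb013106132d986872c9c639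
def N131 : ℕ := 0x5faed2668d6f351a78c41604c047b98c9ed91c5f
def N132 : ℕ := 0x1ebf59b60d2edeeb30f1c8a10982ef71f93119793
def N133 : ℕ := 0x6d6cfa649b5c1e86ab23a1261134d4cca0a976ea
def N134 : ℕ := 0x15462e764918f5590e0060910601502e991f0e286
def N135 : ℕ := 0x11a94dde28b7064305500411a0c20a95c7096b8da
def N136 : ℕ := 0xa7427ab0fd2ea61448901083410257260cd227b9
def N137 : ℕ := 0x2cf2ee0dae3286b57622046574fbad247dcd3b3ef
def N138 : ℕ := 0x1d9cd10376a2f25b86e10a253edd511ef79f262cf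
def N139 : ℕ := 0x4c65260b5f360709df5d9653bbf4d48dc8a80bfb
def N140 : ℕ := 0x1990424c34ca7e833796f824e717591122bde75f7
def N141 : ℕ := 0x5338949a48dcf4d6cfe9e23cc8acf120977bfe94
def N142 : ℕ := 0xf3c7964ab5d48fbdaef723a5d05515786b087b1a
def N143 : ℕ := 0x5e9df8ecc5ebce522a0c235dc016ae7309e78850
def N144 : ℕ := 0x29a9d7ff7e9ad0621e95ddd3883ae2177ec6f88f6
def N145 : ℕ := 0x377b5bfa6a77a8167dff23a632e1ce897fe425ae
def N146 : ℕ := 0x156e5de59dc4cdf924f5bfea8ee73335dfd5f60b7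
def N147 : ℕ := 0x33a4436e5ba8096f2a0ffc71d176465457f42aca4
def N148 : ℕ := 0x93723ffea913bccc3d6bfae78079c62ffd89313e
def N149 : ℕ := 0x22324ddb3a3c35d1c3ee2cefa807e96cffd8b5904
def N150 : ℕ := 0x2c046eeb8d8724d2346a8fb865e8491ff2f784b10
def N151 : ℕ := 0x208a888fbbd07caf48aa5bd95e1ccda33b72ecd62
def N152 : ℕ := 0x27da624ee2302afc74ad0df39b94b9990d314a562
def N153 : ℕ := 0x16b963d9fc02a71ba22aebbca17af739ec84940ae
def N154 : ℕ := 0xede0c3b3620d4ea54f35fd056c55e4d25be22885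
def N155 : ℕ := 0x3693e4c5863430b1663f605798d91b516997ca132
def N156 : ℕ := 0x4d95348d906245f06f1a7ae73725772c136454ac
def N157 : ℕ := 0x3d1a3d5c51096d2dc0419e5ea1a70f1b7f6da9f6
def N158 : ℕ := 0x2959c4caa1978776e90c508aa913ac0ad65c14e04
def N159 : ℕ := 0x3761b2891f72e83edb15829205ab11bb97c598950
def N160 : ℕ := 0x10ef180328ba6732dbe8b15102b4e68773f0a453a
def N161 : ℕ := 0x335460c2c403ce127b4554aaa05738dafa7a14c87
def N162 : ℕ := 0x641ef310403f4be0a4f88ee45dd248ce74614ceb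
def N163 : ℕ := 0x19a17d7287bd75df744d34e2b33eeb03dfb726f91
def N164 : ℕ := 0x1b0cfe427aaa32b63d040e5945f7da2931ef7f1bf
def N165 : ℕ := 0xa3e84491777f41a9fe54096e938e49b50e6fd75d
def N166 : ℕ := 0x387c15386f893f613dd071eb968ee775b3d37f087
def N167 : ℕ := 0x262673248773c14eb29e56f07d44f523551bdf9d3
def N168 : ℕ := 0x338641b51d2e10241a23129c6196b210eadc2c2b3
def N169 : ℕ := 0x2714b68a169cdc164d0cd8eabd8de87e8f96b128b
def N170 : ℕ := 0xd0f9c98b2f686c04b1deec7ca8a2ebf4d29fb2b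
def N171 : ℕ := 0x135ac81d8b39136254cc1a1b6aa52f78bf5da07e5
def N172 : ℕ := 0x152c77b50a5187fc051122ab385bc56ba8f70bf44
def N173 : ℕ := 0x15b406779bcaa721d2134b206c38ad7c22005b9de
def N174 : ℕ := 0x226c7d672914072d65002429a43187d85c319884d
def N175 : ℕ := 0x24d62660bd00ba6d818b68e86e8e1a92828c09181
def N176 : ℕ := 0x3017af0b0323e9f7ae337ca7e19810cee56dfc0d6
def N177 : ℕ := 0x32e1848cebd8188e1b544de81a24458d33bda6f60
def N178 : ℕ := 0x27494292add397efdc07ae9cf2f0fb113ce38d55b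
def N179 : ℕ := 0x303bc4ddf91ee4fbff72d23f9487137877237bc3b
def N180 : ℕ := 0x14bdb848fd8da19243adcfff33310ba55a6f797bf
def N181 : ℕ := 0x1b6a0e2192f94e613dcaddc3b2e0120a5d8fdd835
def N182 : ℕ := 0x33a16b61bc2eae31b50ef27a030c41f3d7777de9e
def N183 : ℕ := 0x3d9465d8baf476e1dfe4699751b7b7c2a0718cd02
def N184 : ℕ := 0x3f09a10602197a3bb00b5c67f1e8084f4b4a07ac4
def N185 : ℕ := 0x690f8ee7863c58435ae2b3481c49327a32a8c4f5
def N186 : ℕ := 0xb0341116223b14877adc808b6f035374eae88406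
def N187 : ℕ := 0x36e7d76bd5b02b301687890bfe2c7546f8ffa05be
def N188 : ℕ := 0x12e4d1ab327d4074ec6cd66d7ff2e7d0125ce8d05
def N189 : ℕ := 0x1ca79c2d17d89fd3141230f9f0dc495ae8a3512c5
def N190 : ℕ := 0x1e0bb114096728e0db3a6632a373137069e6e7875
def N191 : ℕ := 0x5bbce30cab2d4f303bb9f726c31f726d8116661d
def N192 : ℕ := 0x1103ac06bed5c171336496fc75168804383b4cab7
def N193 : ℕ := 0x92ca0be32fce9cb32a346e194a3ff196f03fc96a
def N194 : ℕ := 0xf36488a82a727794d2e973a10a359dc46924388e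
def N195 : ℕ := 0x4684d598d0fd73c8e60906f8ecf4b84dce694df6
def N196 : ℕ := 0x2e294077ab2a90b52a55670564e6f92a208fbaa59
def N197 : ℕ := 0x8838b868edeb2d61f2b5a0763b34397d1c3cfb25
def N198 : ℕ := 0x29a949b661e59637ef93c595319b70e49e7de5e88
def N199 : ℕ := 0x14bd508a586049834ec439d7168a563ce6002a067
def N200 : ℕ := 0x169334b124400f1b70ba74994383cb82a5614a145
def N201 : ℕ := 0x1f15f5b3849e398113a9e642ef3285b6aecc7f817
def N202 : ℕ := 0xd4f9ce9353c0c371e669b945a3592f40904d81e4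
def N203 : ℕ := 0x86309e5cbf584ad6a0b3e20da32d49899ccdc3
def N204 : ℕ := 0x16bb6099225aa6a58cb9887fcc587546281a8e7b0
def N205 : ℕ := 0x1d3cdb556c4dc8a2e3b857133a36d68302c0124a8
def N206 : ℕ := 0x2d5c4550e88045c499457e2bd5798f649569d1d50
def N207 : ℕ := 0x1affa7961933d506fb195e3db36c61e6b3a6c17d1
def N208 : ℕ := 0x33c0f8d9eccdea1ec1a33d267690dbd77fca2bfe7
def N209 : ℕ := 0x35a4068f474ae76a5002a1516e659bcf6cad08568
def N210 : ℕ := 0x23239771ae148e92a4e4ce55307583d12b0d1d06f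
def N211 : ℕ := 0x2cbe92cee64fb69e60a8a1e5e04d9bcf580daa77a
def N212 : ℕ := 0x10aa91509c7a0c321112db84bec610013d3058a9b
def N213 : ℕ := 0x2e7a39b157eb4441bb9f816569c31228ac0702887
def N214 : ℕ := 0x3cb4d417ff91eee33710d128d4d6b826b8a92df94
def N215 : ℕ := 0x18c7e56f30f1e9a8c8602e1afd5d9a577d60297fd
def N216 : ℕ := 0x6135559edd8f6e124ad07e07914f17b693af58a4
def N217 : ℕ := 0x3bc1cd5148800644afb708ef4073628083ce79dac

def C : Cert where
  D := { p := 3, n := 6, pwL := [[3, 3, 4, 4, 5, 5], [3, 3, 5, 5], [], [], [], []], cmL := [[], [2, 5], [3, 3], [5, 5], [5], [], [], [], [3, 4, 5, 5], [], [5], [], [], [], [], [], [], [], [], [], [], [], [], [], [], [], [], [], [], [], [], [], [], [], [], []] }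
  k := 0
  f := 254
  R := 6
  fus := [([[0], [1], [2], [3], [4], [5]], [[0, 0, 3, 4, 5, 5], [1, 1, 2, 3, 4, 4], [2, 3, 4, 4, 5, 5], [3, 3], [4, 4, 5], [5]])]
  specs := [(0, [0], [0, 0, 0]),
    (0, [1, 1], [1, 0]),
    (0, [1], [0, 0, 0]),
    (0, [2], [1, 0]),
    (0, [3], [1, 0]),
    (0, [4], [1, 0]),
    (0, [5], [1, 0]),
    (0, [2, 2], [2, 0]),
    (0, [2], [0, 0, 0]),
    (0, [3], [2, 0]),
    (0, [4], [2, 0]),
    (0, [3, 3], [3, 0]),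
    (0, [2, 2], [2, 1]),
    (1, [1, 1, 1, 5, 5, 5, 5, 3, 3, 3, 3], []),
    (1, [0, 0, 0, 5, 5, 5, 5, 4, 4, 4, 4, 3, 3, 3, 3], []),
    (1, [2, 0, 3, 3, 3, 3, 2, 2, 0, 0, 5, 5, 5, 5, 4, 4, 4, 4, 3, 3, 3, 3], []),
    (1, [3, 0, 5, 5, 5, 5, 3, 3, 0, 0, 5, 5, 5, 5, 4, 4, 4, 4, 3, 3, 3, 3], []),
    (1, [4, 0, 5, 5, 4, 4, 0, 0, 5, 5, 5, 5, 4, 4, 4, 4, 3, 3, 3, 3], []),
    (1, [2, 1, 5, 5, 5, 5, 4, 4, 3, 3, 2, 2, 1, 1, 5, 5, 5, 5, 3, 3, 3, 3], []),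
    (1, [3, 1, 3, 3, 1, 1, 5, 5, 5, 5, 3, 3, 3, 3], [])]
  relV := [[0, 0, 0, 2, 2, 2, 0, 0, 0, 0, 0, 0, 0, 0, 0, 0, 0, 0, 0, 0, 0, 0, 0, 2, 0, 0, 0, 0, 0, 3, 0, 0, 0, 0, 0, 2, 0, 0, 0, 0, 0, 0],
    [0, (-3), 0, 2, 0, 2, 0, 0, (-3), (-1), (-1), (-2), 0, 0, (-1), (-5), (-2), (-5), 0, 0, 0, (-1), (-3), (-1), 0, 0, 0, 0, (-1), (-3), 0, 0, 0, 0, 0, (-2), 0, 0, 0, 0, 0, 0],
    [0, 3, 3, 2, 0, 3, 0, 0, 0, 2, 2, 2, 0, 0, 1, 5, 6, 6, 0, 0, 0, 2, 12, 13, 0, 0, 0, 0, 0, 1, 0, 0, 0, 0, 0, 3, 0, 0, 0, 0, 0, 0],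
    [0, 0, 0, 1, 1, 2, 0, 0, 0, (-2), 0, 0, 0, 0, 0, 0, (-1), (-1), 0, 0, 0, 0, (-2), (-1), 0, 0, 0, 0, 0, 0, 0, 0, 0, 0, 0, 1, 0, 0, 0, 0, 0, 0],
    [0, 0, 0, 0, 0, 0, 0, 0, 0, 0, 0, (-2), 0, 0, 0, (-1), 0, (-2), 0, 0, 0, 0, 0, 1, 0, 0, 0, 0, 0, 0, 0, 0, 0, 0, 0, 0, 0, 0, 0, 0, 0, 0],
    [0, 0, 0, 0, 0, 1, 0, 0, 0, 0, 0, (-1), 0, 0, 0, 0, (-1), (-2), 0, 0, 0, 0, 0, 0, 0, 0, 0, 0, 0, 1, 0, 0, 0, 0, 0, 0, 0, 0, 0, 0, 0, 0],
    [0, 0, 0, 0, 0, 0, 0, 0, 0, 0, 0, 0, 0, 0, 0, 0, 0, (-1), 0, 0, 0, 0, 0, 0, 0, 0, 0, 0, 0, 0, 0, 0, 0, 0, 0, 0, 0, 0, 0, 0, 0, 0],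
    [0, 0, (-3), 0, 0, 0, 0, 0, 0, 0, 0, 0, 0, 0, 0, (-3), 0, 0, 0, 0, 0, (-2), 0, 0, 0, 0, 0, 0, 0, 0, 0, 0, 0, 0, 0, 0, 0, 0, 0, 0, 0, 0],
    [0, 0, 3, 3, 0, 1, 0, 0, 0, 0, 0, 0, 0, 0, 0, 2, 2, 2, 0, 0, 0, 2, 6, 8, 0, 0, 0, 0, 0, 0, 0, 0, 0, 0, 0, 2, 0, 0, 0, 0, 0, 0],
    [0, 0, 0, 0, 0, 0, 0, 0, 0, 0, 0, 0, 0, 0, 0, 0, 0, (-2), 0, 0, 0, 0, 0, (-4), 0, 0, 0, 0, 0, 0, 0, 0, 0, 0, 0, 0, 0, 0, 0, 0, 0, 0],
    [0, 0, 0, 0, 0, 0, 0, 0, 0, 0, 0, 0, 0, 0, 0, 0, 0, (-1), 0, 0, 0, 0, (-2), (-2), 0, 0, 0, 0, 0, 0, 0, 0, 0, 0, 0, 0, 0, 0, 0, 0, 0, 0],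
    [0, 0, 0, (-3), 0, 0, 0, 0, 0, 0, 0, 0, 0, 0, 0, 0, 0, 0, 0, 0, 0, 0, 0, (-3), 0, 0, 0, 0, 0, 0, 0, 0, 0, 0, 0, (-2), 0, 0, 0, 0, 0, 0],
    [0, 0, 0, 0, 0, 0, 0, 0, (-3), 0, 0, 0, 0, 0, 0, (-3), (-3), (-3), 0, 0, 0, (-1), (-3), (-3), 0, 0, 0, 0, (-1), (-3), 0, 0, 0, 0, 0, (-2), 0, 0, 0, 0, 0, 0],
    [0, 0, 0, 0, 0, 0, 0, (-1), (-6), (-4), (-4), (-2), 0, 0, (-1), (-7), (-4), (-11), 0, 0, 0, (-5), (-10), (-14), 0, 0, 0, 0, (-4), (-19), 0, 0, 0, 0, 0, (-6), 0, (-3), 0, (-4), 0, (-4)],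
    [(-1), 0, 0, (-3), (-3), (-3), 0, 0, 0, 0, 0, 0, 0, 0, 0, 0, 0, 0, 0, 0, 0, (-3), (-4), (-7), 0, 0, 0, 0, (-3), (-17), 0, 0, 0, 0, 0, (-7), (-3), 0, 0, (-4), (-4), (-4)],
    [(-1), 0, (-1), (-4), (-7), (-5), 0, 0, 0, 0, 0, 0, 0, 0, 0, (-2), (-2), (-1), 0, 0, 0, (-6), (-8), (-18), 0, 0, 0, 0, (-5), (-24), 0, 0, 0, 0, 0, (-11), (-3), 0, (-3), (-8), (-4), (-4)],
    [(-1), 0, 0, (-6), (-3), (-4), 0, 0, 0, 0, 0, 0, 0, 0, 0, 0, 0, 0, 0, 0, 0, (-4), (-8), (-21), 0, 0, 0, 0, (-3), (-19), 0, 0, 0, 0, 0, (-9), (-3), 0, 0, (-7), (-4), (-8)],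
    [(-1), 0, 0, (-3), (-6), (-4), 0, 0, 0, 0, 0, 0, 0, 0, 0, 0, 0, 0, 0, 0, 0, (-3), (-6), (-9), 0, 0, 0, 0, (-4), (-23), 0, 0, 0, 0, 0, (-9), (-3), 0, 0, (-4), (-7), (-6)],
    [0, 0, 0, 0, 0, 0, 0, (-1), (-7), (-7), (-6), (-4), 0, 0, (-1), (-9), (-6), (-16), 0, 0, 0, (-7), (-19), (-33), 0, 0, 0, 0, (-7), (-33), 0, 0, 0, 0, 0, (-10), 0, (-3), (-3), (-6), (-2), (-8)],
    [0, 0, 0, 0, 0, 0, 0, (-1), (-6), (-7), (-4), (-2), 0, 0, (-1), (-9), (-4), (-11), 0, 0, 0, (-6), (-18), (-14), 0, 0, 0, 0, (-4), (-19), 0, 0, 0, 0, 0, (-6), 0, (-3), 0, (-7), 0, (-4)]]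
  lam := [[0, 0, 0, 0, 0, 0, 0, 0, 0, 0, 0, 0, 0, 0, 0, 0, 0, 0, 0, 0, 0, 0, 0, 0, 0, 0, 0, 0, 0, 0, 0, 0, 0, 0, 0, 0, 0, 0, 0, 0, 0, 0],
    [0, 0, 0, 0, 0, 0, 0, 0, 0, 0, 0, 0, 0, 0, 0, 0, 0, 0, 0, 0, 0, 0, 0, 0, 0, 0, 0, 0, 0, 0, 0, 0, 0, 0, 0, 0, 0, 0, 0, 0, 0, 0],
    [0, 1, 0, 0, 0, 0, 0, 0, 0, 0, 2, 0, 0, 0, 0, 0, 0, 0, 0, 0, 0, 0, 0, 0, 0, 0, 0, 0, 0, 0, 0, 0, 0, 0, 0, 0, 0, 0, 0, 0, 0, 0],
    [0, 0, 0, 0, 0, 0, 0, 0, 0, 0, 0, 0, 0, 0, 0, 0, 0, 0, 0, 0, 0, 0, 0, 0, 0, 0, 0, 0, 0, 0, 0, 0, 0, 0, 0, 0, 0, 0, 0, 1, 0, 0],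
    [0, 0, 0, 0, 0, 0, 0, 0, 0, 0, 2, 0, 0, 0, 0, 0, 0, 0, 0, 0, 0, 0, 0, 0, 0, 0, 0, 0, 0, 0, 0, 0, 0, 0, 0, 0, 0, 0, 0, 0, 1, 0],
    [0, 0, 0, 0, 0, 0, 0, 0, 0, 0, 1, 0, 0, 0, 0, 0, 0, 0, 0, 0, 0, 0, 0, 0, 0, 0, 0, 0, 0, 0, 0, 0, 0, 0, 0, 0, 0, 0, 0, 0, 0, 0]]
  j0 := 0
  mu := [0, 0, 0, 0, 0, 0, 0, 0, 0, 0, 0, 0, 0, 0, 0, 0, 0, 0, 0, 0, 0, 0, 0, 0, 0, 0, 0, 0, 0, 0, 0, 0, 0, 0, 0, 0]
  y1 := [[(4, 2), (5, 2), (6, 2), (7, 2), (8, 1), (9, 2), (11, 1), (12, 2), (14, 2), (16, 2), (17, 1)],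
    [],
    [(0, 1), (4, 2), (5, 2), (6, 2), (7, 2), (9, 2), (10, 2), (11, 1), (12, 2), (14, 1), (15, 2)],
    [(0, 2), (1, 1), (2, 1), (3, 2), (4, 2), (5, 2), (6, 1), (10, 2), (12, 2), (13, 1), (19, 2)],
    [(1, 2), (2, 2), (3, 1), (4, 2), (5, 2), (7, 2), (8, 2), (9, 1), (10, 1), (11, 2), (12, 2), (13, 2), (14, 2), (16, 2), (17, 2), (19, 1)],
    [(4, 2), (5, 2), (7, 1), (8, 1), (12, 2), (14, 1), (16, 1), (17, 1)],
    [],
    [(0, 2), (1, 2), (2, 1), (3, 2), (6, 1), (7, 1), (8, 1), (9, 2), (10, 2), (11, 2), (12, 2), (14, 2), (16, 1), (19, 2)],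
    [(4, 2), (5, 1), (6, 2), (7, 1), (8, 1), (9, 1), (12, 1), (14, 1), (17, 2), (18, 2), (19, 1)],
    [(0, 1), (3, 1), (6, 2), (7, 1), (8, 2), (9, 2), (11, 2), (13, 1), (19, 2)],
    [],
    [(4, 1), (6, 2), (7, 1), (10, 2), (13, 2), (19, 1)],
    [],
    [],
    [(1, 1), (2, 2), (4, 2), (5, 1), (6, 1), (7, 2), (12, 2)],
    [(7, 1), (9, 2), (10, 2), (13, 2), (19, 1)],
    [(4, 2), (5, 2), (6, 2), (7, 2), (9, 2), (10, 1), (11, 2), (12, 2), (13, 1), (14, 1), (16, 1), (17, 1), (19, 2)],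
    [(6, 2)],
    [],
    [],
    [],
    [(7, 1)],
    [(9, 1), (10, 1)],
    [(6, 2), (9, 2)],
    [],
    [],
    [],
    [],
    [(7, 2), (11, 1), (12, 2)],
    [(4, 1), (5, 1), (6, 2), (7, 2), (8, 2), (9, 2), (11, 2)],
    [],
    [],
    [],
    [],
    [],
    [(11, 1)]]
  y2 := [[(4, 2), (5, 2), (6, 2), (7, 2), (8, 1), (9, 2), (11, 1), (12, 2), (14, 2), (16, 2), (17, 1)],
    [],
    [(0, 1), (4, 2), (5, 2), (6, 2), (7, 2), (9, 2), (10, 2), (11, 1), (12, 2), (14, 1), (15, 2)],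
    [(0, 2), (1, 1), (2, 1), (3, 2), (4, 2), (5, 2), (6, 1), (10, 2), (12, 2), (13, 1), (19, 2)],
    [(1, 2), (2, 2), (3, 1), (4, 2), (5, 2), (7, 2), (8, 2), (9, 1), (10, 1), (11, 2), (12, 2), (13, 2), (14, 2), (16, 2), (17, 2), (19, 1)],
    [(4, 2), (5, 2), (7, 1), (8, 1), (12, 2), (14, 1), (16, 1), (17, 1)],
    [],
    [(0, 2), (1, 2), (2, 1), (3, 2), (6, 1), (7, 1), (8, 1), (9, 2), (10, 2), (11, 2), (12, 2), (14, 2), (16, 1), (19, 2)],
    [(4, 2), (5, 1), (6, 2), (7, 1), (8, 1), (9, 1), (12, 1), (14, 1), (17, 2), (18, 2), (19, 1)],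
    [(0, 1), (3, 1), (6, 2), (7, 1), (8, 2), (9, 2), (11, 2), (13, 1), (19, 2)],
    [],
    [(4, 1), (6, 2), (7, 1), (10, 2), (13, 2), (19, 1)],
    [],
    [],
    [(1, 1), (2, 2), (4, 2), (5, 1), (6, 1), (7, 2), (12, 2)],
    [(7, 1), (9, 2), (10, 2), (13, 2), (19, 1)],
    [(4, 2), (5, 2), (6, 2), (7, 2), (9, 2), (10, 1), (11, 2), (12, 2), (13, 1), (14, 1), (16, 1), (17, 1), (19, 2)],
    [(6, 2)],
    [],
    [],
    [],
    [(7, 1)],
    [(9, 1), (10, 1)],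
    [(6, 2), (9, 2)],
    [],
    [],
    [],
    [],
    [(7, 2), (11, 1), (12, 2)],
    [(4, 1), (5, 1), (6, 2), (7, 2), (8, 2), (9, 2), (11, 2)],
    [],
    [],
    [],
    [],
    [],
    [(11, 1)]]

theorem hC : C.check = true := by decide +kernel

def cx : ℕ → ℕ
  | 0 => N217
  | 1 => N210
  | 2 => N202
  | 3 => N192
  | 4 => N165
  | 5 => cZeta
  | _ => 0

def cg : ℕ → ℕ
  | 0 => N25
  | _ => 0

theorem hpc : pcChkC mulC cOne nrm C.D cx = true := by decide +kernel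

theorem hfus : fusChkC mulC cOne nrm C cx cg = true := by decide +kernel

theorem hinj : injChkC mulC cOne nrm C.D cx = true := by decide +kernel

section
variable {F : Type*} [Field F] (ω : F) [Om F ω]

theorem hN0 : Coded (sys ω) (GG ω) N0 := Coded.mul_of (cdX ω) (cdY ω) (by decide +kernel)
theorem hN1 : Coded (sys ω) (GG ω) N1 := Coded.mul_of (hN0 ω) (cdX ω) (by decide +kernel)
theorem hN2 : Coded (sys ω) (GG ω) N2 := Coded.mul_of (hN1 ω) (cdY ω) (by decide +kernel)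
theorem hN3 : Coded (sys ω) (GG ω) N3 := Coded.mul_of (hN2 ω) (cdX ω) (by decide +kernel)
theorem hN4 : Coded (sys ω) (GG ω) N4 := Coded.mul_of (hN3 ω) (cdY ω) (by decide +kernel)
theorem hN5 : Coded (sys ω) (GG ω) N5 := Coded.mul_of (hN4 ω) (cdY ω) (by decide +kernel)
theorem hN6 : Coded (sys ω) (GG ω) N6 := Coded.mul_of (hN5 ω) (cdY ω) (by decide +kernel)
theorem hN7 : Coded (sys ω) (GG ω) N7 := Coded.mul_of (hN6 ω) (cdX ω) (by decide +kernel)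
theorem hN8 : Coded (sys ω) (GG ω) N8 := Coded.mul_of (hN7 ω) (cdY ω) (by decide +kernel)
theorem hN9 : Coded (sys ω) (GG ω) N9 := Coded.mul_of (hN8 ω) (cdY ω) (by decide +kernel)
theorem hN10 : Coded (sys ω) (GG ω) N10 := Coded.mul_of (hN9 ω) (cdY ω) (by decide +kernel)
theorem hN11 : Coded (sys ω) (GG ω) N11 := Coded.inv_of (hN10 ω) (by decide +kernel)
theorem hN12 : Coded (sys ω) (GG ω) N12 := Coded.mul_of (cdY ω) (cdY ω) (by decide +kernel)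
theorem hN13 : Coded (sys ω) (GG ω) N13 := Coded.mul_of (hN12 ω) (cdY ω) (by decide +kernel)
theorem hN14 : Coded (sys ω) (GG ω) N14 := Coded.mul_of (hN13 ω) (cdX ω) (by decide +kernel)
theorem hN15 : Coded (sys ω) (GG ω) N15 := Coded.mul_of (hN13 ω) (cdY ω) (by decide +kernel)
theorem hN16 : Coded (sys ω) (GG ω) N16 := Coded.mul_of (hN15 ω) (cdX ω) (by decide +kernel)
theorem hN17 : Coded (sys ω) (GG ω) N17 := Coded.mul_of (hN15 ω) (cdY ω) (by decide +kernel)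
theorem hN18 : Coded (sys ω) (GG ω) N18 := Coded.mul_of (hN17 ω) (cdY ω) (by decide +kernel)
theorem hN19 : Coded (sys ω) (GG ω) N19 := Coded.mul_of (hN18 ω) (cdX ω) (by decide +kernel)
theorem hN20 : Coded (sys ω) (GG ω) N20 := Coded.mul_of (hN14 ω) (cdY ω) (by decide +kernel)
theorem hN21 : Coded (sys ω) (GG ω) N21 := Coded.mul_of (hN20 ω) (cdX ω) (by decide +kernel)
theorem hN22 : Coded (sys ω) (GG ω) N22 := Coded.mul_of (hN21 ω) (cdY ω) (by decide +kernel)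
theorem hN23 : Coded (sys ω) (GG ω) N23 := Coded.mul_of (hN22 ω) (cdX ω) (by decide +kernel)
theorem hN24 : Coded (sys ω) (GG ω) N24 := Coded.mul_of (hN23 ω) (cdY ω) (by decide +kernel)
theorem hN25 : Coded (sys ω) (GG ω) N25 := Coded.mul_of (hN11 ω) (hN24 ω) (by decide +kernel)
theorem hN26 : Coded (sys ω) (GG ω) N26 := Coded.mul_of (hN0 ω) (cdY ω) (by decide +kernel)
theorem hN27 : Coded (sys ω) (GG ω) N27 := Coded.mul_of (hN26 ω) (cdX ω) (by decide +kernel)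
theorem hN28 : Coded (sys ω) (GG ω) N28 := Coded.mul_of (hN27 ω) (cdY ω) (by decide +kernel)
theorem hN29 : Coded (sys ω) (GG ω) N29 := Coded.mul_of (hN28 ω) (cdY ω) (by decide +kernel)
theorem hN30 : Coded (sys ω) (GG ω) N30 := Coded.mul_of (hN29 ω) (cdY ω) (by decide +kernel)
theorem hN31 : Coded (sys ω) (GG ω) N31 := Coded.mul_of (hN30 ω) (cdY ω) (by decide +kernel)
theorem hN32 : Coded (sys ω) (GG ω) N32 := Coded.mul_of (hN31 ω) (cdY ω) (by decide +kernel)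
theorem hN33 : Coded (sys ω) (GG ω) N33 := Coded.mul_of (hN32 ω) (cdY ω) (by decide +kernel)
theorem hN34 : Coded (sys ω) (GG ω) N34 := Coded.mul_of (hN33 ω) (cdY ω) (by decide +kernel)
theorem hN35 : Coded (sys ω) (GG ω) N35 := Coded.mul_of (hN34 ω) (cdX ω) (by decide +kernel)
theorem hN36 : Coded (sys ω) (GG ω) N36 := Coded.mul_of (hN35 ω) (cdY ω) (by decide +kernel)
theorem hN37 : Coded (sys ω) (GG ω) N37 := Coded.mul_of (hN36 ω) (cdY ω) (by decide +kernel)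
theorem hN38 : Coded (sys ω) (GG ω) N38 := Coded.mul_of (hN37 ω) (cdY ω) (by decide +kernel)
theorem hN39 : Coded (sys ω) (GG ω) N39 := Coded.mul_of (hN38 ω) (cdY ω) (by decide +kernel)
theorem hN40 : Coded (sys ω) (GG ω) N40 := Coded.mul_of (hN39 ω) (cdY ω) (by decide +kernel)
theorem hN41 : Coded (sys ω) (GG ω) N41 := Coded.mul_of (hN40 ω) (cdY ω) (by decide +kernel)
theorem hN42 : Coded (sys ω) (GG ω) N42 := Coded.mul_of (hN41 ω) (cdY ω) (by decide +kernel)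
theorem hN43 : Coded (sys ω) (GG ω) N43 := Coded.mul_of (hN42 ω) (cdY ω) (by decide +kernel)
theorem hN44 : Coded (sys ω) (GG ω) N44 := Coded.mul_of (hN43 ω) (cdX ω) (by decide +kernel)
theorem hN45 : Coded (sys ω) (GG ω) N45 := Coded.inv_of (hN44 ω) (by decide +kernel)
theorem hN46 : Coded (sys ω) (GG ω) N46 := Coded.mul_of (hN30 ω) (cdX ω) (by decide +kernel)
theorem hN47 : Coded (sys ω) (GG ω) N47 := Coded.mul_of (hN46 ω) (cdY ω) (by decide +kernel)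
theorem hN48 : Coded (sys ω) (GG ω) N48 := Coded.mul_of (hN47 ω) (cdY ω) (by decide +kernel)
theorem hN49 : Coded (sys ω) (GG ω) N49 := Coded.mul_of (hN48 ω) (cdX ω) (by decide +kernel)
theorem hN50 : Coded (sys ω) (GG ω) N50 := Coded.mul_of (hN49 ω) (cdY ω) (by decide +kernel)
theorem hN51 : Coded (sys ω) (GG ω) N51 := Coded.mul_of (hN50 ω) (cdY ω) (by decide +kernel)
theorem hN52 : Coded (sys ω) (GG ω) N52 := Coded.mul_of (hN51 ω) (cdY ω) (by decide +kernel)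
theorem hN53 : Coded (sys ω) (GG ω) N53 := Coded.mul_of (hN52 ω) (cdY ω) (by decide +kernel)
theorem hN54 : Coded (sys ω) (GG ω) N54 := Coded.mul_of (hN45 ω) (hN53 ω) (by decide +kernel)
theorem hN55 : Coded (sys ω) (GG ω) N55 := Coded.mul_of (cdY ω) (cdX ω) (by decide +kernel)
theorem hN56 : Coded (sys ω) (GG ω) N56 := Coded.mul_of (hN55 ω) (cdY ω) (by decide +kernel)
theorem hN57 : Coded (sys ω) (GG ω) N57 := Coded.mul_of (hN56 ω) (cdY ω) (by decide +kernel)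
theorem hN58 : Coded (sys ω) (GG ω) N58 := Coded.mul_of (hN57 ω) (cdY ω) (by decide +kernel)
theorem hN59 : Coded (sys ω) (GG ω) N59 := Coded.mul_of (hN58 ω) (cdX ω) (by decide +kernel)
theorem hN60 : Coded (sys ω) (GG ω) N60 := Coded.mul_of (hN28 ω) (cdX ω) (by decide +kernel)
theorem hN61 : Coded (sys ω) (GG ω) N61 := Coded.mul_of (hN56 ω) (cdX ω) (by decide +kernel)
theorem hN62 : Coded (sys ω) (GG ω) N62 := Coded.mul_of (hN61 ω) (cdY ω) (by decide +kernel)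
theorem hN63 : Coded (sys ω) (GG ω) N63 := Coded.mul_of (hN62 ω) (cdX ω) (by decide +kernel)
theorem hN64 : Coded (sys ω) (GG ω) N64 := Coded.mul_of (hN62 ω) (cdY ω) (by decide +kernel)
theorem hN65 : Coded (sys ω) (GG ω) N65 := Coded.mul_of (hN64 ω) (cdX ω) (by decide +kernel)
theorem hN66 : Coded (sys ω) (GG ω) N66 := Coded.mul_of (hN16 ω) (cdY ω) (by decide +kernel)
theorem hN67 : Coded (sys ω) (GG ω) N67 := Coded.mul_of (hN66 ω) (cdX ω) (by decide +kernel)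
theorem hN68 : Coded (sys ω) (GG ω) N68 := Coded.mul_of (hN67 ω) (cdY ω) (by decide +kernel)
theorem hN69 : Coded (sys ω) (GG ω) N69 := Coded.mul_of (hN68 ω) (cdX ω) (by decide +kernel)
theorem hN70 : Coded (sys ω) (GG ω) N70 := Coded.mul_of (hN68 ω) (cdY ω) (by decide +kernel)
theorem hN71 : Coded (sys ω) (GG ω) N71 := Coded.mul_of (hN70 ω) (cdX ω) (by decide +kernel)
theorem hN72 : Coded (sys ω) (GG ω) N72 := Coded.mul_of (hN71 ω) (cdY ω) (by decide +kernel)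
theorem hN73 : Coded (sys ω) (GG ω) N73 := Coded.mul_of (hN72 ω) (cdX ω) (by decide +kernel)
theorem hN74 : Coded (sys ω) (GG ω) N74 := Coded.mul_of (hN73 ω) (cdY ω) (by decide +kernel)
theorem hN75 : Coded (sys ω) (GG ω) N75 := Coded.mul_of (hN74 ω) (cdX ω) (by decide +kernel)
theorem hN76 : Coded (sys ω) (GG ω) N76 := Coded.mul_of (hN75 ω) (cdY ω) (by decide +kernel)
theorem hN77 : Coded (sys ω) (GG ω) N77 := Coded.inv_of (hN76 ω) (by decide +kernel)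
theorem hN78 : Coded (sys ω) (GG ω) N78 := Coded.mul_of (hN63 ω) (cdY ω) (by decide +kernel)
theorem hN79 : Coded (sys ω) (GG ω) N79 := Coded.mul_of (hN78 ω) (cdY ω) (by decide +kernel)
theorem hN80 : Coded (sys ω) (GG ω) N80 := Coded.mul_of (hN79 ω) (cdY ω) (by decide +kernel)
theorem hN81 : Coded (sys ω) (GG ω) N81 := Coded.mul_of (hN80 ω) (cdY ω) (by decide +kernel)
theorem hN82 : Coded (sys ω) (GG ω) N82 := Coded.mul_of (hN81 ω) (cdY ω) (by decide +kernel)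
theorem hN83 : Coded (sys ω) (GG ω) N83 := Coded.mul_of (hN82 ω) (cdY ω) (by decide +kernel)
theorem hN84 : Coded (sys ω) (GG ω) N84 := Coded.mul_of (hN83 ω) (cdX ω) (by decide +kernel)
theorem hN85 : Coded (sys ω) (GG ω) N85 := Coded.mul_of (hN84 ω) (cdY ω) (by decide +kernel)
theorem hN86 : Coded (sys ω) (GG ω) N86 := Coded.mul_of (hN85 ω) (cdX ω) (by decide +kernel)
theorem hN87 : Coded (sys ω) (GG ω) N87 := Coded.mul_of (hN86 ω) (cdY ω) (by decide +kernel)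
theorem hN88 : Coded (sys ω) (GG ω) N88 := Coded.mul_of (hN77 ω) (hN87 ω) (by decide +kernel)
theorem hN89 : Coded (sys ω) (GG ω) N89 := Coded.mul_of (hN83 ω) (cdY ω) (by decide +kernel)
theorem hN90 : Coded (sys ω) (GG ω) N90 := Coded.mul_of (hN89 ω) (cdX ω) (by decide +kernel)
theorem hN91 : Coded (sys ω) (GG ω) N91 := Coded.mul_of (hN90 ω) (cdY ω) (by decide +kernel)
theorem hN92 : Coded (sys ω) (GG ω) N92 := Coded.mul_of (hN91 ω) (cdY ω) (by decide +kernel)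
theorem hN93 : Coded (sys ω) (GG ω) N93 := Coded.mul_of (hN92 ω) (cdY ω) (by decide +kernel)
theorem hN94 : Coded (sys ω) (GG ω) N94 := Coded.mul_of (hN93 ω) (cdY ω) (by decide +kernel)
theorem hN95 : Coded (sys ω) (GG ω) N95 := Coded.inv_of (hN94 ω) (by decide +kernel)
theorem hN96 : Coded (sys ω) (GG ω) N96 := Coded.mul_of (hN69 ω) (cdY ω) (by decide +kernel)
theorem hN97 : Coded (sys ω) (GG ω) N97 := Coded.mul_of (hN96 ω) (cdY ω) (by decide +kernel)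
theorem hN98 : Coded (sys ω) (GG ω) N98 := Coded.mul_of (hN97 ω) (cdY ω) (by decide +kernel)
theorem hN99 : Coded (sys ω) (GG ω) N99 := Coded.mul_of (hN98 ω) (cdY ω) (by decide +kernel)
theorem hN100 : Coded (sys ω) (GG ω) N100 := Coded.mul_of (hN99 ω) (cdY ω) (by decide +kernel)
theorem hN101 : Coded (sys ω) (GG ω) N101 := Coded.mul_of (hN100 ω) (cdX ω) (by decide +kernel)
theorem hN102 : Coded (sys ω) (GG ω) N102 := Coded.mul_of (hN101 ω) (cdY ω) (by decide +kernel)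
theorem hN103 : Coded (sys ω) (GG ω) N103 := Coded.mul_of (hN102 ω) (cdX ω) (by decide +kernel)
theorem hN104 : Coded (sys ω) (GG ω) N104 := Coded.mul_of (hN103 ω) (cdY ω) (by decide +kernel)
theorem hN105 : Coded (sys ω) (GG ω) N105 := Coded.mul_of (hN95 ω) (hN104 ω) (by decide +kernel)
theorem hN106 : Coded (sys ω) (GG ω) N106 := Coded.mul_of (hN19 ω) (cdY ω) (by decide +kernel)
theorem hN107 : Coded (sys ω) (GG ω) N107 := Coded.mul_of (hN106 ω) (cdY ω) (by decide +kernel)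
theorem hN108 : Coded (sys ω) (GG ω) N108 := Coded.mul_of (hN107 ω) (cdX ω) (by decide +kernel)
theorem hN109 : Coded (sys ω) (GG ω) N109 := Coded.mul_of (hN108 ω) (cdY ω) (by decide +kernel)
theorem hN110 : Coded (sys ω) (GG ω) N110 := Coded.mul_of (hN109 ω) (cdX ω) (by decide +kernel)
theorem hN111 : Coded (sys ω) (GG ω) N111 := Coded.mul_of (hN110 ω) (cdY ω) (by decide +kernel)
theorem hN112 : Coded (sys ω) (GG ω) N112 := Coded.mul_of (hN111 ω) (cdX ω) (by decide +kernel)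
theorem hN113 : Coded (sys ω) (GG ω) N113 := Coded.mul_of (hN112 ω) (cdY ω) (by decide +kernel)
theorem hN114 : Coded (sys ω) (GG ω) N114 := Coded.mul_of (hN113 ω) (cdX ω) (by decide +kernel)
theorem hN115 : Coded (sys ω) (GG ω) N115 := Coded.mul_of (hN114 ω) (cdY ω) (by decide +kernel)
theorem hN116 : Coded (sys ω) (GG ω) N116 := Coded.mul_of (hN115 ω) (cdY ω) (by decide +kernel)
theorem hN117 : Coded (sys ω) (GG ω) N117 := Coded.mul_of (hN116 ω) (cdY ω) (by decide +kernel)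
theorem hN118 : Coded (sys ω) (GG ω) N118 := Coded.mul_of (hN117 ω) (cdX ω) (by decide +kernel)
theorem hN119 : Coded (sys ω) (GG ω) N119 := Coded.mul_of (hN118 ω) (cdY ω) (by decide +kernel)
theorem hN120 : Coded (sys ω) (GG ω) N120 := Coded.mul_of (hN119 ω) (cdX ω) (by decide +kernel)
theorem hN121 : Coded (sys ω) (GG ω) N121 := Coded.mul_of (hN120 ω) (cdY ω) (by decide +kernel)
theorem hN122 : Coded (sys ω) (GG ω) N122 := Coded.mul_of (hN121 ω) (cdY ω) (by decide +kernel)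
theorem hN123 : Coded (sys ω) (GG ω) N123 := Coded.mul_of (hN122 ω) (cdY ω) (by decide +kernel)
theorem hN124 : Coded (sys ω) (GG ω) N124 := Coded.inv_of (hN123 ω) (by decide +kernel)
theorem hN125 : Coded (sys ω) (GG ω) N125 := Coded.mul_of (hN59 ω) (cdY ω) (by decide +kernel)
theorem hN126 : Coded (sys ω) (GG ω) N126 := Coded.mul_of (hN125 ω) (cdX ω) (by decide +kernel)
theorem hN127 : Coded (sys ω) (GG ω) N127 := Coded.mul_of (hN126 ω) (cdY ω) (by decide +kernel)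
theorem hN128 : Coded (sys ω) (GG ω) N128 := Coded.mul_of (hN127 ω) (cdY ω) (by decide +kernel)
theorem hN129 : Coded (sys ω) (GG ω) N129 := Coded.mul_of (hN128 ω) (cdY ω) (by decide +kernel)
theorem hN130 : Coded (sys ω) (GG ω) N130 := Coded.mul_of (hN129 ω) (cdX ω) (by decide +kernel)
theorem hN131 : Coded (sys ω) (GG ω) N131 := Coded.mul_of (hN130 ω) (cdY ω) (by decide +kernel)
theorem hN132 : Coded (sys ω) (GG ω) N132 := Coded.mul_of (hN131 ω) (cdY ω) (by decide +kernel)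
theorem hN133 : Coded (sys ω) (GG ω) N133 := Coded.mul_of (hN132 ω) (cdY ω) (by decide +kernel)
theorem hN134 : Coded (sys ω) (GG ω) N134 := Coded.mul_of (hN133 ω) (cdX ω) (by decide +kernel)
theorem hN135 : Coded (sys ω) (GG ω) N135 := Coded.mul_of (hN134 ω) (cdY ω) (by decide +kernel)
theorem hN136 : Coded (sys ω) (GG ω) N136 := Coded.mul_of (hN135 ω) (cdY ω) (by decide +kernel)
theorem hN137 : Coded (sys ω) (GG ω) N137 := Coded.mul_of (hN136 ω) (cdX ω) (by decide +kernel)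
theorem hN138 : Coded (sys ω) (GG ω) N138 := Coded.mul_of (hN137 ω) (cdY ω) (by decide +kernel)
theorem hN139 : Coded (sys ω) (GG ω) N139 := Coded.mul_of (hN138 ω) (cdX ω) (by decide +kernel)
theorem hN140 : Coded (sys ω) (GG ω) N140 := Coded.mul_of (hN139 ω) (cdY ω) (by decide +kernel)
theorem hN141 : Coded (sys ω) (GG ω) N141 := Coded.mul_of (hN140 ω) (cdY ω) (by decide +kernel)
theorem hN142 : Coded (sys ω) (GG ω) N142 := Coded.mul_of (hN124 ω) (hN141 ω) (by decide +kernel)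
theorem hN143 : Coded (sys ω) (GG ω) N143 := Coded.mul_of (hN65 ω) (cdY ω) (by decide +kernel)
theorem hN144 : Coded (sys ω) (GG ω) N144 := Coded.mul_of (hN143 ω) (cdX ω) (by decide +kernel)
theorem hN145 : Coded (sys ω) (GG ω) N145 := Coded.mul_of (hN144 ω) (cdY ω) (by decide +kernel)
theorem hN146 : Coded (sys ω) (GG ω) N146 := Coded.mul_of (hN145 ω) (cdY ω) (by decide +kernel)
theorem hN147 : Coded (sys ω) (GG ω) N147 := Coded.mul_of (hN146 ω) (cdY ω) (by decide +kernel)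
theorem hN148 : Coded (sys ω) (GG ω) N148 := Coded.mul_of (hN147 ω) (cdY ω) (by decide +kernel)
theorem hN149 : Coded (sys ω) (GG ω) N149 := Coded.mul_of (hN148 ω) (cdX ω) (by decide +kernel)
theorem hN150 : Coded (sys ω) (GG ω) N150 := Coded.mul_of (hN149 ω) (cdY ω) (by decide +kernel)
theorem hN151 : Coded (sys ω) (GG ω) N151 := Coded.mul_of (hN150 ω) (cdY ω) (by decide +kernel)
theorem hN152 : Coded (sys ω) (GG ω) N152 := Coded.mul_of (hN151 ω) (cdX ω) (by decide +kernel)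
theorem hN153 : Coded (sys ω) (GG ω) N153 := Coded.mul_of (hN152 ω) (cdY ω) (by decide +kernel)
theorem hN154 : Coded (sys ω) (GG ω) N154 := Coded.mul_of (hN153 ω) (cdY ω) (by decide +kernel)
theorem hN155 : Coded (sys ω) (GG ω) N155 := Coded.mul_of (hN154 ω) (cdY ω) (by decide +kernel)
theorem hN156 : Coded (sys ω) (GG ω) N156 := Coded.mul_of (hN155 ω) (cdY ω) (by decide +kernel)
theorem hN157 : Coded (sys ω) (GG ω) N157 := Coded.inv_of (hN156 ω) (by decide +kernel)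
theorem hN158 : Coded (sys ω) (GG ω) N158 := Coded.mul_of (hN60 ω) (cdY ω) (by decide +kernel)
theorem hN159 : Coded (sys ω) (GG ω) N159 := Coded.mul_of (hN158 ω) (cdY ω) (by decide +kernel)
theorem hN160 : Coded (sys ω) (GG ω) N160 := Coded.mul_of (hN159 ω) (cdY ω) (by decide +kernel)
theorem hN161 : Coded (sys ω) (GG ω) N161 := Coded.mul_of (hN160 ω) (cdY ω) (by decide +kernel)
theorem hN162 : Coded (sys ω) (GG ω) N162 := Coded.mul_of (hN161 ω) (cdX ω) (by decide +kernel)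
theorem hN163 : Coded (sys ω) (GG ω) N163 := Coded.mul_of (hN157 ω) (hN162 ω) (by decide +kernel)
theorem hN164 : Coded (sys ω) (GG ω) N164 := Coded.mul_of (hN54 ω) (hN54 ω) (by decide +kernel)
theorem hN165 : Coded (sys ω) (GG ω) N165 := Coded.mul_of (hN54 ω) (hN164 ω) (by decide +kernel)
theorem hN166 : Coded (sys ω) (GG ω) N166 := Coded.mul_of (hN54 ω) (hN105 ω) (by decide +kernel)
theorem hN167 : Coded (sys ω) (GG ω) N167 := Coded.mul_of (hN166 ω) (hN163 ω) (by decide +kernel)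
theorem hN168 : Coded (sys ω) (GG ω) N168 := Coded.mul_of (hN167 ω) (hN142 ω) (by decide +kernel)
theorem hN169 : Coded (sys ω) (GG ω) N169 := Coded.mul_of (hN168 ω) (hN25 ω) (by decide +kernel)
theorem hN170 : Coded (sys ω) (GG ω) N170 := Coded.mul_of (hN169 ω) (hN88 ω) (by decide +kernel)
theorem hN171 : Coded (sys ω) (GG ω) N171 := Coded.mul_of (hN170 ω) (hN142 ω) (by decide +kernel)
theorem hN172 : Coded (sys ω) (GG ω) N172 := Coded.mul_of (hN171 ω) (hN25 ω) (by decide +kernel)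
theorem hN173 : Coded (sys ω) (GG ω) N173 := Coded.mul_of (hN172 ω) (hN142 ω) (by decide +kernel)
theorem hN174 : Coded (sys ω) (GG ω) N174 := Coded.mul_of (hN173 ω) (hN54 ω) (by decide +kernel)
theorem hN175 : Coded (sys ω) (GG ω) N175 := Coded.mul_of (hN174 ω) (hN105 ω) (by decide +kernel)
theorem hN176 : Coded (sys ω) (GG ω) N176 := Coded.mul_of (hN175 ω) (hN105 ω) (by decide +kernel)
theorem hN177 : Coded (sys ω) (GG ω) N177 := Coded.mul_of (hN176 ω) (hN25 ω) (by decide +kernel)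
theorem hN178 : Coded (sys ω) (GG ω) N178 := Coded.mul_of (hN177 ω) (hN54 ω) (by decide +kernel)
theorem hN179 : Coded (sys ω) (GG ω) N179 := Coded.mul_of (hN178 ω) (hN25 ω) (by decide +kernel)
theorem hN180 : Coded (sys ω) (GG ω) N180 := Coded.mul_of (hN179 ω) (hN142 ω) (by decide +kernel)
theorem hN181 : Coded (sys ω) (GG ω) N181 := Coded.mul_of (hN180 ω) (hN105 ω) (by decide +kernel)
theorem hN182 : Coded (sys ω) (GG ω) N182 := Coded.mul_of (hN181 ω) (hN25 ω) (by decide +kernel)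
theorem hN183 : Coded (sys ω) (GG ω) N183 := Coded.mul_of (hN182 ω) (hN142 ω) (by decide +kernel)
theorem hN184 : Coded (sys ω) (GG ω) N184 := Coded.mul_of (hN183 ω) (hN25 ω) (by decide +kernel)
theorem hN185 : Coded (sys ω) (GG ω) N185 := Coded.mul_of (hN184 ω) (hN54 ω) (by decide +kernel)
theorem hN186 : Coded (sys ω) (GG ω) N186 := Coded.mul_of (hN185 ω) (hN163 ω) (by decide +kernel)
theorem hN187 : Coded (sys ω) (GG ω) N187 := Coded.mul_of (hN186 ω) (hN163 ω) (by decide +kernel)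
theorem hN188 : Coded (sys ω) (GG ω) N188 := Coded.mul_of (hN187 ω) (hN142 ω) (by decide +kernel)
theorem hN189 : Coded (sys ω) (GG ω) N189 := Coded.mul_of (hN188 ω) (hN25 ω) (by decide +kernel)
theorem hN190 : Coded (sys ω) (GG ω) N190 := Coded.mul_of (hN189 ω) (hN142 ω) (by decide +kernel)
theorem hN191 : Coded (sys ω) (GG ω) N191 := Coded.mul_of (hN190 ω) (hN190 ω) (by decide +kernel)
theorem hN192 : Coded (sys ω) (GG ω) N192 := Coded.mul_of (hN190 ω) (hN191 ω) (by decide +kernel)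
theorem hN193 : Coded (sys ω) (GG ω) N193 := Coded.mul_of (hN105 ω) (hN25 ω) (by decide +kernel)
theorem hN194 : Coded (sys ω) (GG ω) N194 := Coded.mul_of (hN193 ω) (hN54 ω) (by decide +kernel)
theorem hN195 : Coded (sys ω) (GG ω) N195 := Coded.mul_of (hN194 ω) (hN105 ω) (by decide +kernel)
theorem hN196 : Coded (sys ω) (GG ω) N196 := Coded.mul_of (hN195 ω) (hN163 ω) (by decide +kernel)
theorem hN197 : Coded (sys ω) (GG ω) N197 := Coded.mul_of (hN196 ω) (hN142 ω) (by decide +kernel)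
theorem hN198 : Coded (sys ω) (GG ω) N198 := Coded.mul_of (hN197 ω) (hN105 ω) (by decide +kernel)
theorem hN199 : Coded (sys ω) (GG ω) N199 := Coded.mul_of (hN198 ω) (hN88 ω) (by decide +kernel)
theorem hN200 : Coded (sys ω) (GG ω) N200 := Coded.mul_of (hN199 ω) (hN105 ω) (by decide +kernel)
theorem hN201 : Coded (sys ω) (GG ω) N201 := Coded.mul_of (hN200 ω) (hN142 ω) (by decide +kernel)
theorem hN202 : Coded (sys ω) (GG ω) N202 := Coded.mul_of (hN201 ω) (hN105 ω) (by decide +kernel)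
theorem hN203 : Coded (sys ω) (GG ω) N203 := Coded.mul_of (hN88 ω) (hN54 ω) (by decide +kernel)
theorem hN204 : Coded (sys ω) (GG ω) N204 := Coded.mul_of (hN203 ω) (hN54 ω) (by decide +kernel)
theorem hN205 : Coded (sys ω) (GG ω) N205 := Coded.mul_of (hN204 ω) (hN163 ω) (by decide +kernel)
theorem hN206 : Coded (sys ω) (GG ω) N206 := Coded.mul_of (hN205 ω) (hN54 ω) (by decide +kernel)
theorem hN207 : Coded (sys ω) (GG ω) N207 := Coded.mul_of (hN206 ω) (hN25 ω) (by decide +kernel)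
theorem hN208 : Coded (sys ω) (GG ω) N208 := Coded.mul_of (hN207 ω) (hN142 ω) (by decide +kernel)
theorem hN209 : Coded (sys ω) (GG ω) N209 := Coded.mul_of (hN208 ω) (hN88 ω) (by decide +kernel)
theorem hN210 : Coded (sys ω) (GG ω) N210 := Coded.mul_of (hN209 ω) (hN88 ω) (by decide +kernel)
theorem hN211 : Coded (sys ω) (GG ω) N211 := Coded.mul_of (hN186 ω) (hN54 ω) (by decide +kernel)
theorem hN212 : Coded (sys ω) (GG ω) N212 := Coded.mul_of (hN211 ω) (hN105 ω) (by decide +kernel)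
theorem hN213 : Coded (sys ω) (GG ω) N213 := Coded.mul_of (hN212 ω) (hN142 ω) (by decide +kernel)
theorem hN214 : Coded (sys ω) (GG ω) N214 := Coded.mul_of (hN213 ω) (hN88 ω) (by decide +kernel)
theorem hN215 : Coded (sys ω) (GG ω) N215 := Coded.mul_of (hN214 ω) (hN163 ω) (by decide +kernel)
theorem hN216 : Coded (sys ω) (GG ω) N216 := Coded.mul_of (hN215 ω) (hN105 ω) (by decide +kernel)
theorem hN217 : Coded (sys ω) (GG ω) N217 := Coded.mul_of (hN216 ω) (hN88 ω) (by decide +kernel)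

theorem hx : ∀ a < C.D.n, Coded (sys ω) (GG ω) (cx a) := by
  intro a ha
  have ha' : a < 6 := ha
  interval_cases a
  · exact hN217 ω
  · exact hN210 ω
  · exact hN202 ω
  · exact hN192 ω
  · exact hN165 ω
  · exact cdZ ω

theorem hg : ∀ i < C.fus.length, Coded (sys ω) (GG ω) (cg i) := by
  intro a ha
  have ha' : a < 1 := ha
  interval_cases a
  · exact hN25 ω

variable [Finite F]

theorem lb : LocalBound (GG ω) 3 0 :=
  ub_code (sys ω) (GG ω) C (by norm_num [C]) hC cx cg (hx ω) (hg ω) hpc hfus hinj (by rw [card_GG]; norm_num [C])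

end

end Cfsg.Agent.Lib.Helper63MJ3P3
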