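import Cfsg.Agent.Lib.Helper17PCTab
import Cfsg.Agent.Lib.Helper63MM22M

set_option autoImplicit false
set_option maxRecDepth 1000000
set_option maxHeartbeats 0

namespace Cfsg.Agent.Lib.Helper63MM22P2

open Cfsg Cfsg.Agent.Lib.Helper63PCDefs Cfsg.Agent.Lib.Helper63PCTabDefs Cfsg.Agent.Lib.Helper63MM22M


local notation "KK" => K22

theorem h0 : Tabled KK 5 g0 := tb0
theorem h1 : Tabled KK 5 g1 := tb1
theorem h2 : Tabled KK 5 g2 := tb2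
def N22 : ℕ := 0xb94414d0f558d0a8c1f36cacc238c0
theorem h22 : Tabled KK 5 N22 := Cfsg.Agent.Lib.Helper17PCTab.Tabled.mul h2 h1 (by decide +kernel)
def N68 : ℕ := 0xbb28dabe625396438cc58c132b0500
theorem h68 : Tabled KK 5 N68 := Cfsg.Agent.Lib.Helper17PCTab.Tabled.mul h2 h2 (by decide +kernel)
def N122 : ℕ := 0xbb230450ed4b96192aa578873258c0
theorem h122 : Tabled KK 5 N122 := Cfsg.Agent.Lib.Helper17PCTab.Tabled.mul h2 h0 (by decide +kernel)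
def N123 : ℕ := 0xba5e7931630b90a8cccd816c4a5440
theorem h123 : Tabled KK 5 N123 := Cfsg.Agent.Lib.Helper17PCTab.Tabled.mul h122 h2 (by decide +kernel)
def N124 : ℕ := 0xb84ed2c1ebaba46a2a234d8889b040
theorem h124 : Tabled KK 5 N124 := Cfsg.Agent.Lib.Helper17PCTab.Tabled.mul h123 h0 (by decide +kernel)
def N149 : ℕ := 0xbce35a40d2610482bc2b4b5ca3d860
theorem h149 : Tabled KK 5 N149 := Cfsg.Agent.Lib.Helper17PCTab.Tabled.mul h1 h2 (by decide +kernel)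
def N188 : ℕ := 0xba60513e27b39152064d60e6b550c0
theorem h188 : Tabled KK 5 N188 := Cfsg.Agent.Lib.Helper17PCTab.Tabled.mul h122 h0 (by decide +kernel)
def N189 : ℕ := 0xbd8ad1b211a3852554874cd680bcc0
theorem h189 : Tabled KK 5 N189 := Cfsg.Agent.Lib.Helper17PCTab.Tabled.mul h188 h0 (by decide +kernel)
def N190 : ℕ := 0xbc5647a4aa1a27269ec280594ab8c0
theorem h190 : Tabled KK 5 N190 := Cfsg.Agent.Lib.Helper17PCTab.Tabled.mul h189 h1 (by decide +kernel)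
def N208 : ℕ := 0xbb475b3e3244c418158b39289538c0
theorem h208 : Tabled KK 5 N208 := Cfsg.Agent.Lib.Helper17PCTab.Tabled.mul h122 h1 (by decide +kernel)
def N236 : ℕ := 0xbae56744b413c6c4b606aa8f341020
theorem h236 : Tabled KK 5 N236 := Cfsg.Agent.Lib.Helper17PCTab.Tabled.mul h1 h1 (by decide +kernel)
def N263 : ℕ := 0xbac91624f42a2c668c327ce1553840
theorem h263 : Tabled KK 5 N263 := Cfsg.Agent.Lib.Helper17PCTab.Tabled.mul h124 h1 (by decide +kernel)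
def N264 : ℕ := 0xb96329bc8772181519b45c2b61a440
theorem h264 : Tabled KK 5 N264 := Cfsg.Agent.Lib.Helper17PCTab.Tabled.mul h263 h0 (by decide +kernel)
def N265 : ℕ := 0xbba5482e244a26d185472d6cc33c40
theorem h265 : Tabled KK 5 N265 := Cfsg.Agent.Lib.Helper17PCTab.Tabled.mul h264 h0 (by decide +kernel)
def N266 : ℕ := 0xba687a96517a20a33464759930ac40
theorem h266 : Tabled KK 5 N266 := Cfsg.Agent.Lib.Helper17PCTab.Tabled.mul h265 h0 (by decide +kernel)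
def N267 : ℕ := 0xbbdd23260c522ada4c513916128ec0
theorem h267 : Tabled KK 5 N267 := Cfsg.Agent.Lib.Helper17PCTab.Tabled.mul h266 h2 (by decide +kernel)
def N268 : ℕ := 0xba8f0a3eab6a0d3706cc9446548880
theorem h268 : Tabled KK 5 N268 := Cfsg.Agent.Lib.Helper17PCTab.Tabled.mul h267 h2 (by decide +kernel)
def N269 : ℕ := 0xbb60c8c8f5122964cdcb50ca60bc80
theorem h269 : Tabled KK 5 N269 := Cfsg.Agent.Lib.Helper17PCTab.Tabled.mul h268 h0 (by decide +kernel)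
def N270 : ℕ := 0xbd4ae7aa098987662db4386429a080
theorem h270 : Tabled KK 5 N270 := Cfsg.Agent.Lib.Helper17PCTab.Tabled.mul h269 h1 (by decide +kernel)
def N271 : ℕ := 0xbc4f065472b19eb288897511353420
theorem h271 : Tabled KK 5 N271 := Cfsg.Agent.Lib.Helper17PCTab.Tabled.mul h270 h2 (by decide +kernel)
def N272 : ℕ := 0xbda09a38e36998452cb28a26f15420
theorem h272 : Tabled KK 5 N272 := Cfsg.Agent.Lib.Helper17PCTab.Tabled.mul h271 h0 (by decide +kernel)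
def N273 : ℕ := 0xb8e65ac60aa3d044cacc389cd59820
theorem h273 : Tabled KK 5 N273 := Cfsg.Agent.Lib.Helper17PCTab.Tabled.mul h272 h1 (by decide +kernel)
def N274 : ℕ := 0xbd0f048d0e23eb29b42a2b0cb8d840
theorem h274 : Tabled KK 5 N274 := Cfsg.Agent.Lib.Helper17PCTab.Tabled.mul h273 h2 (by decide +kernel)
def N275 : ℕ := 0xb920a614e8b3d218ca6ea197568c40
theorem h275 : Tabled KK 5 N275 := Cfsg.Agent.Lib.Helper17PCTab.Tabled.mul h274 h0 (by decide +kernel)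
def N276 : ℕ := 0xbda878912b0bd92854485386d2ccc0
theorem h276 : Tabled KK 5 N276 := Cfsg.Agent.Lib.Helper17PCTab.Tabled.mul h275 h2 (by decide +kernel)
def N277 : ℕ := 0xb84e872a899be222ca0bb0daca90c0
theorem h277 : Tabled KK 5 N277 := Cfsg.Agent.Lib.Helper17PCTab.Tabled.mul h276 h0 (by decide +kernel)
def N278 : ℕ := 0xba5b0258e57306242c31a555393cc0
theorem h278 : Tabled KK 5 N278 := Cfsg.Agent.Lib.Helper17PCTab.Tabled.mul h277 h1 (by decide +kernel)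
def N279 : ℕ := 0xb95417d1a824ea2845233cace5b0c0
theorem h279 : Tabled KK 5 N279 := Cfsg.Agent.Lib.Helper17PCTab.Tabled.mul h278 h1 (by decide +kernel)
def N280 : ℕ := 0xb90ed816b614df1538c808d8ba2640
theorem h280 : Tabled KK 5 N280 := Cfsg.Agent.Lib.Helper17PCTab.Tabled.mul h279 h2 (by decide +kernel)
def N281 : ℕ := 0xb89a8184f54ce06a45562316f71640
theorem h281 : Tabled KK 5 N281 := Cfsg.Agent.Lib.Helper17PCTab.Tabled.mul h280 h0 (by decide +kernel)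
def N329 : ℕ := 0xba4646b2c798965ac24e506347a0c0
theorem h329 : Tabled KK 5 N329 := Cfsg.Agent.Lib.Helper17PCTab.Tabled.inv h190 (by decide +kernel)
def N330 : ℕ := 0xba16e79943934e125a09a16b314580
theorem h330 : Tabled KK 5 N330 := Cfsg.Agent.Lib.Helper17PCTab.Tabled.mul h329 h281 (by decide +kernel)
def N331 : ℕ := 0xbd20173c8d656668c9763a9251a040
theorem h331 : Tabled KK 5 N331 := Cfsg.Agent.Lib.Helper17PCTab.Tabled.mul h263 h1 (by decide +kernel)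
def N332 : ℕ := 0xba1d66a97594e0f498a23b09118680
theorem h332 : Tabled KK 5 N332 := Cfsg.Agent.Lib.Helper17PCTab.Tabled.inv h331 (by decide +kernel)
def N333 : ℕ := 0xb8ad51be644b8cca34314424a3aca0
theorem h333 : Tabled KK 5 N333 := Cfsg.Agent.Lib.Helper17PCTab.Tabled.mul h0 h2 (by decide +kernel)
def N334 : ℕ := 0xba6b1822d35b8613b284149466bca0
theorem h334 : Tabled KK 5 N334 := Cfsg.Agent.Lib.Helper17PCTab.Tabled.mul h333 h0 (by decide +kernel)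
def N335 : ℕ := 0xbcd5478aa781a4189123b350b638a0
theorem h335 : Tabled KK 5 N335 := Cfsg.Agent.Lib.Helper17PCTab.Tabled.mul h334 h1 (by decide +kernel)
def N336 : ℕ := 0xb9d09759517ada1a0e72ab050218a0
theorem h336 : Tabled KK 5 N336 := Cfsg.Agent.Lib.Helper17PCTab.Tabled.mul h335 h1 (by decide +kernel)
def N337 : ℕ := 0xbbd326550a32dd32069138a0d1d8a0
theorem h337 : Tabled KK 5 N337 := Cfsg.Agent.Lib.Helper17PCTab.Tabled.mul h336 h0 (by decide +kernel)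
def N338 : ℕ := 0xbaa14b1d2463453945ee40ea60aca0
theorem h338 : Tabled KK 5 N338 := Cfsg.Agent.Lib.Helper17PCTab.Tabled.mul h337 h1 (by decide +kernel)
def N339 : ℕ := 0xbb109928559b6d1818a4a39613bc60
theorem h339 : Tabled KK 5 N339 := Cfsg.Agent.Lib.Helper17PCTab.Tabled.mul h338 h2 (by decide +kernel)
def N340 : ℕ := 0xbce82832cb8b64640475491e7515c0
theorem h340 : Tabled KK 5 N340 := Cfsg.Agent.Lib.Helper17PCTab.Tabled.mul h339 h2 (by decide +kernel)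
def N341 : ℕ := 0xbc455226962b6035190b9bcf20b1c0
theorem h341 : Tabled KK 5 N341 := Cfsg.Agent.Lib.Helper17PCTab.Tabled.mul h340 h0 (by decide +kernel)
def N342 : ℕ := 0xb96ab7cc546348808d5689e50325c0
theorem h342 : Tabled KK 5 N342 := Cfsg.Agent.Lib.Helper17PCTab.Tabled.mul h341 h0 (by decide +kernel)
def N343 : ℕ := 0xbb22209492435e3ac1d45d9269a8e0
theorem h343 : Tabled KK 5 N343 := Cfsg.Agent.Lib.Helper17PCTab.Tabled.mul h342 h2 (by decide +kernel)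
def N344 : ℕ := 0xba164ab1e91b430898f2151532bac0
theorem h344 : Tabled KK 5 N344 := Cfsg.Agent.Lib.Helper17PCTab.Tabled.mul h343 h2 (by decide +kernel)
def N345 : ℕ := 0xba54770971ace902490179583336c0
theorem h345 : Tabled KK 5 N345 := Cfsg.Agent.Lib.Helper17PCTab.Tabled.mul h344 h1 (by decide +kernel)
def N346 : ℕ := 0xbd4e12bd4b6cdc8340914b07490ac0
theorem h346 : Tabled KK 5 N346 := Cfsg.Agent.Lib.Helper17PCTab.Tabled.mul h345 h0 (by decide +kernel)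
def N347 : ℕ := 0xbb52a355c344cb03d2cb0c45279180
theorem h347 : Tabled KK 5 N347 := Cfsg.Agent.Lib.Helper17PCTab.Tabled.mul h346 h2 (by decide +kernel)
def N348 : ℕ := 0xb8c562052734a3052da573ea8a4d80
theorem h348 : Tabled KK 5 N348 := Cfsg.Agent.Lib.Helper17PCTab.Tabled.mul h347 h1 (by decide +kernel)
def N349 : ℕ := 0xb99c950e358488b12187b16740b5e0
theorem h349 : Tabled KK 5 N349 := Cfsg.Agent.Lib.Helper17PCTab.Tabled.mul h348 h2 (by decide +kernel)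
def N350 : ℕ := 0xbc2d1118935c948751f549da11b0a0
theorem h350 : Tabled KK 5 N350 := Cfsg.Agent.Lib.Helper17PCTab.Tabled.mul h349 h2 (by decide +kernel)
def N351 : ℕ := 0xbad247414d44854b04b38d58333ce0
theorem h351 : Tabled KK 5 N351 := Cfsg.Agent.Lib.Helper17PCTab.Tabled.mul h350 h2 (by decide +kernel)
def N352 : ℕ := 0xbb5857c53670eb424d6251a080c8e0
theorem h352 : Tabled KK 5 N352 := Cfsg.Agent.Lib.Helper17PCTab.Tabled.mul h351 h1 (by decide +kernel)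
def N353 : ℕ := 0xbb949236b0a0df3620f628a418acc0
theorem h353 : Tabled KK 5 N353 := Cfsg.Agent.Lib.Helper17PCTab.Tabled.mul h352 h2 (by decide +kernel)
def N354 : ℕ := 0xbd0b5639f298c88504d04d97169c40
theorem h354 : Tabled KK 5 N354 := Cfsg.Agent.Lib.Helper17PCTab.Tabled.mul h353 h2 (by decide +kernel)
def N355 : ℕ := 0xbceb0b24af38d866a152a2e240b840
theorem h355 : Tabled KK 5 N355 := Cfsg.Agent.Lib.Helper17PCTab.Tabled.mul h354 h0 (by decide +kernel)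
def N356 : ℕ := 0xbbe2a752adb116684a6c2852740c40
theorem h356 : Tabled KK 5 N356 := Cfsg.Agent.Lib.Helper17PCTab.Tabled.mul h355 h1 (by decide +kernel)
def N357 : ℕ := 0xbb5331963071c26531ebaa29691040
theorem h357 : Tabled KK 5 N357 := Cfsg.Agent.Lib.Helper17PCTab.Tabled.mul h356 h1 (by decide +kernel)
def N358 : ℕ := 0xbc0ad1917599e8c33e4970ac854420
theorem h358 : Tabled KK 5 N358 := Cfsg.Agent.Lib.Helper17PCTab.Tabled.mul h332 h357 (by decide +kernel)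
def N359 : ℕ := 0xbaa333b16923aa3a49026943679a00
theorem h359 : Tabled KK 5 N359 := Cfsg.Agent.Lib.Helper17PCTab.Tabled.mul h68 h2 (by decide +kernel)
def N360 : ℕ := 0xb92622b62b338e878e89506d593200
theorem h360 : Tabled KK 5 N360 := Cfsg.Agent.Lib.Helper17PCTab.Tabled.mul h359 h0 (by decide +kernel)
def N361 : ℕ := 0xb98490aa71638b4921eb25aa71b600
theorem h361 : Tabled KK 5 N361 := Cfsg.Agent.Lib.Helper17PCTab.Tabled.mul h360 h0 (by decide +kernel)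
def N362 : ℕ := 0xb98ac8ae014b84f44a8a259a71d660
theorem h362 : Tabled KK 5 N362 := Cfsg.Agent.Lib.Helper17PCTab.Tabled.inv h361 (by decide +kernel)
def N363 : ℕ := 0xbada78951650d30130d50cdc4a3e40
theorem h363 : Tabled KK 5 N363 := Cfsg.Agent.Lib.Helper17PCTab.Tabled.mul h22 h2 (by decide +kernel)
def N364 : ℕ := 0xba8f5985a878e26a40565b88961640
theorem h364 : Tabled KK 5 N364 := Cfsg.Agent.Lib.Helper17PCTab.Tabled.mul h363 h0 (by decide +kernel)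
def N365 : ℕ := 0xba0822acf49a5c6ad9516b02f80e40
theorem h365 : Tabled KK 5 N365 := Cfsg.Agent.Lib.Helper17PCTab.Tabled.mul h364 h1 (by decide +kernel)
def N366 : ℕ := 0xbcc51634871a4aa81ab4405eeb2e40
theorem h366 : Tabled KK 5 N366 := Cfsg.Agent.Lib.Helper17PCTab.Tabled.mul h365 h0 (by decide +kernel)
def N367 : ℕ := 0xb8d0484caf5258613a478d1766d420
theorem h367 : Tabled KK 5 N367 := Cfsg.Agent.Lib.Helper17PCTab.Tabled.mul h366 h2 (by decide +kernel)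
def N368 : ℕ := 0xbbd72ac50285a8621c6c2b66a72420
theorem h368 : Tabled KK 5 N368 := Cfsg.Agent.Lib.Helper17PCTab.Tabled.mul h367 h1 (by decide +kernel)
def N369 : ℕ := 0xb8a6349564aa9a6931f443a303d820
theorem h369 : Tabled KK 5 N369 := Cfsg.Agent.Lib.Helper17PCTab.Tabled.mul h368 h1 (by decide +kernel)
def N370 : ℕ := 0xbd50b909b13292c9c0241d2c72bdc0
theorem h370 : Tabled KK 5 N370 := Cfsg.Agent.Lib.Helper17PCTab.Tabled.mul h369 h2 (by decide +kernel)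
def N371 : ℕ := 0xb9964a0d0d7aa412b271ad8e9809c0
theorem h371 : Tabled KK 5 N371 := Cfsg.Agent.Lib.Helper17PCTab.Tabled.mul h370 h0 (by decide +kernel)
def N372 : ℕ := 0xbb4f315565a26c1244d24406f629c0
theorem h372 : Tabled KK 5 N372 := Cfsg.Agent.Lib.Helper17PCTab.Tabled.mul h371 h1 (by decide +kernel)
def N373 : ℕ := 0xbd10b236c30a4513bdc59c94ca9a00
theorem h373 : Tabled KK 5 N373 := Cfsg.Agent.Lib.Helper17PCTab.Tabled.mul h372 h2 (by decide +kernel)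
def N374 : ℕ := 0xb86763d04a8a48f43203594d56ba40
theorem h374 : Tabled KK 5 N374 := Cfsg.Agent.Lib.Helper17PCTab.Tabled.mul h373 h2 (by decide +kernel)
def N375 : ℕ := 0xbc562404867a4ec9d64ab0dcda40a0
theorem h375 : Tabled KK 5 N375 := Cfsg.Agent.Lib.Helper17PCTab.Tabled.mul h374 h2 (by decide +kernel)
def N376 : ℕ := 0xbbec49c4ee625155b4a612a140c860
theorem h376 : Tabled KK 5 N376 := Cfsg.Agent.Lib.Helper17PCTab.Tabled.mul h375 h2 (by decide +kernel)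
def N377 : ℕ := 0xbba0590acb9d155219e83862c6a460
theorem h377 : Tabled KK 5 N377 := Cfsg.Agent.Lib.Helper17PCTab.Tabled.mul h376 h1 (by decide +kernel)
def N378 : ℕ := 0xbcca809e164d24f6d48b7458a30860
theorem h378 : Tabled KK 5 N378 := Cfsg.Agent.Lib.Helper17PCTab.Tabled.mul h377 h0 (by decide +kernel)
def N379 : ℕ := 0xbd984138ad0aa2f42e72818e9ad060
theorem h379 : Tabled KK 5 N379 := Cfsg.Agent.Lib.Helper17PCTab.Tabled.mul h378 h1 (by decide +kernel)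
def N380 : ℕ := 0xb860545a277a84b6246d24a9574cc0
theorem h380 : Tabled KK 5 N380 := Cfsg.Agent.Lib.Helper17PCTab.Tabled.mul h379 h2 (by decide +kernel)
def N381 : ℕ := 0xbbc91604545a909854c72b66eb0e40
theorem h381 : Tabled KK 5 N381 := Cfsg.Agent.Lib.Helper17PCTab.Tabled.mul h380 h2 (by decide +kernel)
def N382 : ℕ := 0xbae27694821a986b26147cdc8a8640
theorem h382 : Tabled KK 5 N382 := Cfsg.Agent.Lib.Helper17PCTab.Tabled.mul h381 h0 (by decide +kernel)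
def N383 : ℕ := 0xb8cf49be240a9b0a9ac25b90c49640
theorem h383 : Tabled KK 5 N383 := Cfsg.Agent.Lib.Helper17PCTab.Tabled.mul h382 h0 (by decide +kernel)
def N384 : ℕ := 0xb8571a8da882a663b244a08a97d9c0
theorem h384 : Tabled KK 5 N384 := Cfsg.Agent.Lib.Helper17PCTab.Tabled.mul h383 h2 (by decide +kernel)
def N385 : ℕ := 0xba0b2b5167aa446890336bc70629c0
theorem h385 : Tabled KK 5 N385 := Cfsg.Agent.Lib.Helper17PCTab.Tabled.mul h384 h1 (by decide +kernel)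
def N386 : ℕ := 0xb9c61534b1b41e694d025b295225c0
theorem h386 : Tabled KK 5 N386 := Cfsg.Agent.Lib.Helper17PCTab.Tabled.mul h385 h1 (by decide +kernel)
def N387 : ℕ := 0xbc6884ac7255586088ef291b69c1c0
theorem h387 : Tabled KK 5 N387 := Cfsg.Agent.Lib.Helper17PCTab.Tabled.mul h386 h1 (by decide +kernel)
def N388 : ℕ := 0xba8a30c58d35522a59d243e1359c80
theorem h388 : Tabled KK 5 N388 := Cfsg.Agent.Lib.Helper17PCTab.Tabled.mul h387 h2 (by decide +kernel)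
def N389 : ℕ := 0xb98727a0ac3d42e58a8d54269b4480
theorem h389 : Tabled KK 5 N389 := Cfsg.Agent.Lib.Helper17PCTab.Tabled.mul h388 h0 (by decide +kernel)
def N390 : ℕ := 0xbb2748a86b7a60e934c12d90715480
theorem h390 : Tabled KK 5 N390 := Cfsg.Agent.Lib.Helper17PCTab.Tabled.mul h389 h1 (by decide +kernel)
def N391 : ℕ := 0xbbe2c848684d02e58ad369944a94e0
theorem h391 : Tabled KK 5 N391 := Cfsg.Agent.Lib.Helper17PCTab.Tabled.mul h362 h390 (by decide +kernel)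
def N392 : ℕ := 0xba2ab21c7174ecc506126d1222bcc0
theorem h392 : Tabled KK 5 N392 := Cfsg.Agent.Lib.Helper17PCTab.Tabled.mul h208 h0 (by decide +kernel)
def N393 : ℕ := 0xbc5307b6aa20a8c5c916194ee0ccc0
theorem h393 : Tabled KK 5 N393 := Cfsg.Agent.Lib.Helper17PCTab.Tabled.mul h392 h1 (by decide +kernel)
def N394 : ℕ := 0xba8e898d2b7b8ac85a34a85a4908c0
theorem h394 : Tabled KK 5 N394 := Cfsg.Agent.Lib.Helper17PCTab.Tabled.mul h393 h1 (by decide +kernel)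
def N395 : ℕ := 0xbadb1154f09902c451454c86fb38c0
theorem h395 : Tabled KK 5 N395 := Cfsg.Agent.Lib.Helper17PCTab.Tabled.mul h394 h1 (by decide +kernel)
def N396 : ℕ := 0xbcd2742c23610546bcd0895d6aaa40
theorem h396 : Tabled KK 5 N396 := Cfsg.Agent.Lib.Helper17PCTab.Tabled.mul h395 h2 (by decide +kernel)
def N397 : ℕ := 0xb8dc65452d458b43c2620d56c79240
theorem h397 : Tabled KK 5 N397 := Cfsg.Agent.Lib.Helper17PCTab.Tabled.mul h396 h1 (by decide +kernel)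
def N398 : ℕ := 0xba0c2a85c9259537d0ed1ad8584640
theorem h398 : Tabled KK 5 N398 := Cfsg.Agent.Lib.Helper17PCTab.Tabled.mul h397 h0 (by decide +kernel)
def N399 : ℕ := 0xb904d58cce8daa784de9430aaa0640
theorem h399 : Tabled KK 5 N399 := Cfsg.Agent.Lib.Helper17PCTab.Tabled.mul h398 h0 (by decide +kernel)
def N400 : ℕ := 0xbb8af0a0505a9876a495350719da40
theorem h400 : Tabled KK 5 N400 := Cfsg.Agent.Lib.Helper17PCTab.Tabled.mul h399 h1 (by decide +kernel)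
def N401 : ℕ := 0xbadf5a18a2b282499db070e2c4a240
theorem h401 : Tabled KK 5 N401 := Cfsg.Agent.Lib.Helper17PCTab.Tabled.mul h400 h0 (by decide +kernel)
def N402 : ℕ := 0xb8a2d439f3a3064ac1612a4d63aa40
theorem h402 : Tabled KK 5 N402 := Cfsg.Agent.Lib.Helper17PCTab.Tabled.mul h401 h1 (by decide +kernel)
def N403 : ℕ := 0xbcccb51635459246844379dd483240
theorem h403 : Tabled KK 5 N403 := Cfsg.Agent.Lib.Helper17PCTab.Tabled.mul h402 h1 (by decide +kernel)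
def N404 : ℕ := 0xba1f16cd2e259413525558d90288e0
theorem h404 : Tabled KK 5 N404 := Cfsg.Agent.Lib.Helper17PCTab.Tabled.mul h403 h2 (by decide +kernel)
def N405 : ℕ := 0xb92351ade9159b2284ce4320aa4ce0
theorem h405 : Tabled KK 5 N405 := Cfsg.Agent.Lib.Helper17PCTab.Tabled.mul h404 h0 (by decide +kernel)
def N406 : ℕ := 0xb890f291b0958618a8e9aba7459980
theorem h406 : Tabled KK 5 N406 := Cfsg.Agent.Lib.Helper17PCTab.Tabled.mul h405 h2 (by decide +kernel)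
def N407 : ℕ := 0xbc267355112d1c17a4436ac9255980
theorem h407 : Tabled KK 5 N407 := Cfsg.Agent.Lib.Helper17PCTab.Tabled.mul h406 h1 (by decide +kernel)
def N408 : ℕ := 0xbc4cd5cc6821e8c28aca73e554c020
theorem h408 : Tabled KK 5 N408 := Cfsg.Agent.Lib.Helper17PCTab.Tabled.mul h407 h407 (by decide +kernel)
def N409 : ℕ := 0xb8df42ad2aab9ac9422239266b2020
theorem h409 : Tabled KK 5 N409 := Cfsg.Agent.Lib.Helper17PCTab.Tabled.mul h408 h408 (by decide +kernel)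
def N410 : ℕ := 0xba141a91718358e32656a15f310ce0
theorem h410 : Tabled KK 5 N410 := Cfsg.Agent.Lib.Helper17PCTab.Tabled.mul h391 h358 (by decide +kernel)
def N411 : ℕ := 0xbc16e89056904ed30d156153353e80
theorem h411 : Tabled KK 5 N411 := Cfsg.Agent.Lib.Helper17PCTab.Tabled.mul h410 h391 (by decide +kernel)
def N412 : ℕ := 0xbd4c19146a21d949c2c872571789a0
theorem h412 : Tabled KK 5 N412 := Cfsg.Agent.Lib.Helper17PCTab.Tabled.mul h411 h330 (by decide +kernel)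
def N413 : ℕ := 0xba96c7c66693834490b638aa880da0
theorem h413 : Tabled KK 5 N413 := Cfsg.Agent.Lib.Helper17PCTab.Tabled.mul h412 h358 (by decide +kernel)
def N414 : ℕ := 0xbd92e90890884ed428c56556f1ce80
theorem h414 : Tabled KK 5 N414 := Cfsg.Agent.Lib.Helper17PCTab.Tabled.mul h413 h330 (by decide +kernel)
def N415 : ℕ := 0xbc48d8086533a8144ed23d54f4ad80
theorem h415 : Tabled KK 5 N415 := Cfsg.Agent.Lib.Helper17PCTab.Tabled.mul h414 h391 (by decide +kernel)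
def N416 : ℕ := 0xb95544bd0481da1a985672e3298d80
theorem h416 : Tabled KK 5 N416 := Cfsg.Agent.Lib.Helper17PCTab.Tabled.mul h415 h358 (by decide +kernel)
def N417 : ℕ := 0xb922d9caaa4ba815c1e238cb632180
theorem h417 : Tabled KK 5 N417 := Cfsg.Agent.Lib.Helper17PCTab.Tabled.mul h416 h358 (by decide +kernel)
def N418 : ℕ := 0xba6a1548c27b58e5a093a0e16894e0
theorem h418 : Tabled KK 5 N418 := Cfsg.Agent.Lib.Helper17PCTab.Tabled.mul h417 h391 (by decide +kernel)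
def N419 : ℕ := 0xbcd6d78d1193287b24440c2aa299c0
theorem h419 : Tabled KK 5 N419 := Cfsg.Agent.Lib.Helper17PCTab.Tabled.mul h418 h330 (by decide +kernel)
def N424 : ℕ := 0xba2544d4a65b9ac792763c22a10c20
theorem h424 : Tabled KK 5 N424 := Cfsg.Agent.Lib.Helper17PCTab.Tabled.mul h408 h358 (by decide +kernel)
def N425 : ℕ := 0xbacac354569d02e78d096c08a944e0
theorem h425 : Tabled KK 5 N425 := Cfsg.Agent.Lib.Helper17PCTab.Tabled.mul h424 h391 (by decide +kernel)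
def N426 : ℕ := 0xbcc4eb5649430f47c5660c06a291a0
theorem h426 : Tabled KK 5 N426 := Cfsg.Agent.Lib.Helper17PCTab.Tabled.mul h425 h391 (by decide +kernel)
def N427 : ℕ := 0xb99ec44225a9c2d54d2b70c5624a80
theorem h427 : Tabled KK 5 N427 := Cfsg.Agent.Lib.Helper17PCTab.Tabled.mul h426 h330 (by decide +kernel)
def N428 : ℕ := 0xbad47a8e64805d4b18a9609e8945a0
theorem h428 : Tabled KK 5 N428 := Cfsg.Agent.Lib.Helper17PCTab.Tabled.mul h427 h330 (by decide +kernel)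
def N429 : ℕ := 0xbc27420e4929da1b4575708c853d80
theorem h429 : Tabled KK 5 N429 := Cfsg.Agent.Lib.Helper17PCTab.Tabled.mul h428 h391 (by decide +kernel)
def N430 : ℕ := 0xba4cd522d323a811146b3be158c980
theorem h430 : Tabled KK 5 N430 := Cfsg.Agent.Lib.Helper17PCTab.Tabled.mul h429 h358 (by decide +kernel)
def N431 : ℕ := 0xbce148d44651da1791037492b2d980
theorem h431 : Tabled KK 5 N431 := Cfsg.Agent.Lib.Helper17PCTab.Tabled.mul h430 h358 (by decide +kernel)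
def N432 : ℕ := 0xb992d2adf08ba8192aa83da6320980
theorem h432 : Tabled KK 5 N432 := Cfsg.Agent.Lib.Helper17PCTab.Tabled.mul h431 h358 (by decide +kernel)
def N433 : ℕ := 0xbc5e182c88ab58e908c5a59434cce0
theorem h433 : Tabled KK 5 N433 := Cfsg.Agent.Lib.Helper17PCTab.Tabled.mul h432 h391 (by decide +kernel)
def N434 : ℕ := 0xb964dad8495b2871c5060a9f0991c0
theorem h434 : Tabled KK 5 N434 := Cfsg.Agent.Lib.Helper17PCTab.Tabled.mul h433 h330 (by decide +kernel)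
def N435 : ℕ := 0xba5f49c072a85a752ec8610a6889c0
theorem h435 : Tabled KK 5 N435 := Cfsg.Agent.Lib.Helper17PCTab.Tabled.mul h434 h358 (by decide +kernel)
def N437 : ℕ := 0xbcd6ca91499342734603a09e82d9c0
theorem h437 : Tabled KK 5 N437 := Cfsg.Agent.Lib.Helper17PCTab.Tabled.mul h358 h391 (by decide +kernel)
def N439 : ℕ := 0xba5e12a0cbad187148906da638a9c0
theorem h439 : Tabled KK 5 N439 := Cfsg.Agent.Lib.Helper17PCTab.Tabled.mul h437 h358 (by decide +kernel)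
def N440 : ℕ := 0xbd4c75a230205d41292565a437cda0
theorem h440 : Tabled KK 5 N440 := Cfsg.Agent.Lib.Helper17PCTab.Tabled.mul h439 h391 (by decide +kernel)
def N446 : ℕ := 0xbd92754ccb8b1cd2c8880be1518a80
theorem h446 : Tabled KK 5 N446 := Cfsg.Agent.Lib.Helper17PCTab.Tabled.mul h411 h358 (by decide +kernel)
def N447 : ℕ := 0xbae0e1d4a9504ed7c66460ac891a80
theorem h447 : Tabled KK 5 N447 := Cfsg.Agent.Lib.Helper17PCTab.Tabled.mul h446 h358 (by decide +kernel)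
def N448 : ℕ := 0xba6c7921f01b1cd12ab30996489680
theorem h448 : Tabled KK 5 N448 := Cfsg.Agent.Lib.Helper17PCTab.Tabled.mul h447 h358 (by decide +kernel)
def N449 : ℕ := 0xb8ded82233a9e8c1153271944b2c20
theorem h449 : Tabled KK 5 N449 := Cfsg.Agent.Lib.Helper17PCTab.Tabled.mul h448 h391 (by decide +kernel)
def N451 : ℕ := 0xbc847a98b6451c120e696a9f05c580
theorem h451 : Tabled KK 5 N451 := Cfsg.Agent.Lib.Helper17PCTab.Tabled.mul h449 h330 (by decide +kernel)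
def N452 : ℕ := 0xbd9ee5c082ab4e1520d3a464919580
theorem h452 : Tabled KK 5 N452 := Cfsg.Agent.Lib.Helper17PCTab.Tabled.mul h451 h358 (by decide +kernel)
def N453 : ℕ := 0xbd481140733398d516cb3c5097ca80
theorem h453 : Tabled KK 5 N453 := Cfsg.Agent.Lib.Helper17PCTab.Tabled.mul h452 h391 (by decide +kernel)
def N454 : ℕ := 0xb986d9c1ebb068e54aa2644a9220e0
theorem h454 : Tabled KK 5 N454 := Cfsg.Agent.Lib.Helper17PCTab.Tabled.mul h453 h391 (by decide +kernel)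
def N455 : ℕ := 0xb8941b464485187499756947343dc0
theorem h455 : Tabled KK 5 N455 := Cfsg.Agent.Lib.Helper17PCTab.Tabled.mul h454 h330 (by decide +kernel)
def N456 : ℕ := 0xbc24724515585d44bc56614d350da0
theorem h456 : Tabled KK 5 N456 := Cfsg.Agent.Lib.Helper17PCTab.Tabled.mul h455 h391 (by decide +kernel)
def N457 : ℕ := 0xbad14ac55611da148e04715f391980
theorem h457 : Tabled KK 5 N457 := Cfsg.Agent.Lib.Helper17PCTab.Tabled.mul h456 h391 (by decide +kernel)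
def N458 : ℕ := 0xb9127114728b5cc9aed0a3d1532820
theorem h458 : Tabled KK 5 N458 := Cfsg.Agent.Lib.Helper17PCTab.Tabled.mul h457 h330 (by decide +kernel)
def N459 : ℕ := 0xbc90e35669150ec7c4b66a89058c20
theorem h459 : Tabled KK 5 N459 := Cfsg.Agent.Lib.Helper17PCTab.Tabled.mul h458 h358 (by decide +kernel)
def N460 : ℕ := 0xbd9f412a2ba9da184925711061cd80
theorem h460 : Tabled KK 5 N460 := Cfsg.Agent.Lib.Helper17PCTab.Tabled.mul h459 h330 (by decide +kernel)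
def N461 : ℕ := 0xbad0d19a0f13a81255493cec594580
theorem h461 : Tabled KK 5 N461 := Cfsg.Agent.Lib.Helper17PCTab.Tabled.mul h460 h358 (by decide +kernel)
def N462 : ℕ := 0xbbed49148819da1988ca74569ac180
theorem h462 : Tabled KK 5 N462 := Cfsg.Agent.Lib.Helper17PCTab.Tabled.mul h461 h358 (by decide +kernel)
def N463 : ℕ := 0xb8c81416aa351879c1f26c449b2dc0
theorem h463 : Tabled KK 5 N463 := Cfsg.Agent.Lib.Helper17PCTab.Tabled.mul h462 h391 (by decide +kernel)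
def N464 : ℕ := 0xb9aa7516d2785d49ac6864609209a0
theorem h464 : Tabled KK 5 N464 := Cfsg.Agent.Lib.Helper17PCTab.Tabled.mul h463 h391 (by decide +kernel)
def N465 : ℕ := 0xba2617c5642b98d49a433c2aa15a80
theorem h465 : Tabled KK 5 N465 := Cfsg.Agent.Lib.Helper17PCTab.Tabled.mul h464 h330 (by decide +kernel)
def N466 : ℕ := 0xb956d244439068e4d90f640ca9d4e0
theorem h466 : Tabled KK 5 N466 := Cfsg.Agent.Lib.Helper17PCTab.Tabled.mul h465 h391 (by decide +kernel)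
def N467 : ℕ := 0xb8cd49a92b231ae84a280d4afb08e0
theorem h467 : Tabled KK 5 N467 := Cfsg.Agent.Lib.Helper17PCTab.Tabled.mul h466 h358 (by decide +kernel)
def N468 : ℕ := 0xba8a723c499d1c1ac5166c8cb80d80
theorem h468 : Tabled KK 5 N468 := Cfsg.Agent.Lib.Helper17PCTab.Tabled.inv h330 (by decide +kernel)
def N469 : ℕ := 0xbd6d4520c51b9ac14c923c6097ac20
theorem h469 : Tabled KK 5 N469 := Cfsg.Agent.Lib.Helper17PCTab.Tabled.mul h358 h358 (by decide +kernel)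
def N480 : ℕ := 0xb91e150a32a9d9442d3375a03315a0
theorem h480 : Tabled KK 5 N480 := Cfsg.Agent.Lib.Helper17PCTab.Tabled.mul h447 h330 (by decide +kernel)
def N481 : ℕ := 0xbcd07ad966131cd192490c1ea2c680
theorem h481 : Tabled KK 5 N481 := Cfsg.Agent.Lib.Helper17PCTab.Tabled.mul h480 h330 (by decide +kernel)
def N482 : ℕ := 0xb896d358a991e8c1c6757408a43c20
theorem h482 : Tabled KK 5 N482 := Cfsg.Agent.Lib.Helper17PCTab.Tabled.mul h481 h391 (by decide +kernel)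
def N483 : ℕ := 0xba4944286b339ac84ad33bc5589420
theorem h483 : Tabled KK 5 N483 := Cfsg.Agent.Lib.Helper17PCTab.Tabled.mul h482 h358 (by decide +kernel)
def N484 : ℕ := 0xbce0e33e51534e1aa576a088828d80
theorem h484 : Tabled KK 5 N484 := Cfsg.Agent.Lib.Helper17PCTab.Tabled.mul h483 h330 (by decide +kernel)
def N485 : ℕ := 0xbaa418bcb65b98da8e663892881280
theorem h485 : Tabled KK 5 N485 := Cfsg.Agent.Lib.Helper17PCTab.Tabled.mul h484 h391 (by decide +kernel)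
def N498 : ℕ := 0xbd92c822b289c2d12df37114619680
theorem h498 : Tabled KK 5 N498 := Cfsg.Agent.Lib.Helper17PCTab.Tabled.mul h485 h358 (by decide +kernel)
def N499 : ℕ := 0xbc6ad920737b287116d0091664a9c0
theorem h499 : Tabled KK 5 N499 := Cfsg.Agent.Lib.Helper17PCTab.Tabled.mul h498 h391 (by decide +kernel)
def N506 : ℕ := 0xbc24e78c465b0f4b11090cea5545a0
theorem h506 : Tabled KK 5 N506 := Cfsg.Agent.Lib.Helper17PCTab.Tabled.mul h440 h358 (by decide +kernel)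
def N507 : ℕ := 0xba6cc5cc8a19c2d2c0c87564f88a80
theorem h507 : Tabled KK 5 N507 := Cfsg.Agent.Lib.Helper17PCTab.Tabled.mul h506 h330 (by decide +kernel)
def N508 : ℕ := 0xba0a71d611985d47a54664acb111a0
theorem h508 : Tabled KK 5 N508 := Cfsg.Agent.Lib.Helper17PCTab.Tabled.mul h507 h330 (by decide +kernel)
def N509 : ℕ := 0xbd8cd81522232879a2320bd551adc0
theorem h509 : Tabled KK 5 N509 := Cfsg.Agent.Lib.Helper17PCTab.Tabled.mul h468 h508 (by decide +kernel)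
def N542 : ℕ := 0xb8eb44413279da152e3371844b1580
theorem h542 : Tabled KK 5 N542 := Cfsg.Agent.Lib.Helper17PCTab.Tabled.mul h499 h499 (by decide +kernel)
def N557 : ℕ := 0xbc4949aeca31da19406873cb548980
theorem h557 : Tabled KK 5 N557 := Cfsg.Agent.Lib.Helper17PCTab.Tabled.mul h499 h509 (by decide +kernel)
def N558 : ℕ := 0xbc5ed51462a868e9a2cb61a044c8e0
theorem h558 : Tabled KK 5 N558 := Cfsg.Agent.Lib.Helper17PCTab.Tabled.mul h557 h509 (by decide +kernel)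
def N563 : ℕ := 0xbc8547a60341da18d94674ea559180
theorem h563 : Tabled KK 5 N563 := Cfsg.Agent.Lib.Helper17PCTab.Tabled.mul h499 h419 (by decide +kernel)
def N564 : ℕ := 0xba91478d69131aeb4646096b3810e0
theorem h564 : Tabled KK 5 N564 := Cfsg.Agent.Lib.Helper17PCTab.Tabled.mul h563 h435 (by decide +kernel)
def N573 : ℕ := 0xb8ead596227ba819a12a39246b4180
theorem h573 : Tabled KK 5 N573 := Cfsg.Agent.Lib.Helper17PCTab.Tabled.mul h467 h509 (by decide +kernel)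
def N574 : ℕ := 0xba82812d2e80e2c692563d5f429a60
theorem h574 : Tabled KK 5 N574 := Cfsg.Agent.Lib.Helper17PCTab.Tabled.mul h363 h2 (by decide +kernel)
def N575 : ℕ := 0xbc0e96aa2f60c440d26e458c55caa0
theorem h575 : Tabled KK 5 N575 := Cfsg.Agent.Lib.Helper17PCTab.Tabled.mul h574 h2 (by decide +kernel)
def N576 : ℕ := 0xbb12eb20f190db35902f818a2a2aa0
theorem h576 : Tabled KK 5 N576 := Cfsg.Agent.Lib.Helper17PCTab.Tabled.mul h575 h0 (by decide +kernel)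
def N577 : ℕ := 0xbc4a15412bb08d373d8d3d11220ea0
theorem h577 : Tabled KK 5 N577 := Cfsg.Agent.Lib.Helper17PCTab.Tabled.mul h576 h1 (by decide +kernel)
def N582 : ℕ := 0xbad0c19cae54a930b6264921678aa0
theorem h582 : Tabled KK 5 N582 := Cfsg.Agent.Lib.Helper17PCTab.Tabled.mul h577 h1 (by decide +kernel)
def N583 : ℕ := 0xba98622505148717cc2e5c2d469ea0
theorem h583 : Tabled KK 5 N583 := Cfsg.Agent.Lib.Helper17PCTab.Tabled.mul h582 h0 (by decide +kernel)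
def N584 : ℕ := 0xb88ce82d883c8816c5e555a839a6a0
theorem h584 : Tabled KK 5 N584 := Cfsg.Agent.Lib.Helper17PCTab.Tabled.mul h583 h0 (by decide +kernel)
def N585 : ℕ := 0xb9d4c688940ca1130ea8715335bec0
theorem h585 : Tabled KK 5 N585 := Cfsg.Agent.Lib.Helper17PCTab.Tabled.mul h584 h2 (by decide +kernel)
def N586 : ℕ := 0xb85882b9447c9b55c4d43a67018ac0
theorem h586 : Tabled KK 5 N586 := Cfsg.Agent.Lib.Helper17PCTab.Tabled.mul h585 h0 (by decide +kernel)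
def N587 : ℕ := 0xbd0f02564974d4cb19632a2226bc20
theorem h587 : Tabled KK 5 N587 := Cfsg.Agent.Lib.Helper17PCTab.Tabled.mul h236 h1 (by decide +kernel)
def N588 : ℕ := 0xba62b794f62090c80e8a936ae34c20
theorem h588 : Tabled KK 5 N588 := Cfsg.Agent.Lib.Helper17PCTab.Tabled.mul h587 h1 (by decide +kernel)
def N589 : ℕ := 0xb924782515609e38b8365aa662d1a0
theorem h589 : Tabled KK 5 N589 := Cfsg.Agent.Lib.Helper17PCTab.Tabled.mul h588 h2 (by decide +kernel)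
def N590 : ℕ := 0xbd661a2e51819433d88f4152c709a0
theorem h590 : Tabled KK 5 N590 := Cfsg.Agent.Lib.Helper17PCTab.Tabled.mul h589 h1 (by decide +kernel)
def N591 : ℕ := 0xbc52412267a30a30beaa93970b19a0
theorem h591 : Tabled KK 5 N591 := Cfsg.Agent.Lib.Helper17PCTab.Tabled.mul h590 h1 (by decide +kernel)
def N592 : ℕ := 0xb9d7534921141c322a259d9147b1a0
theorem h592 : Tabled KK 5 N592 := Cfsg.Agent.Lib.Helper17PCTab.Tabled.mul h591 h1 (by decide +kernel)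
def N593 : ℕ := 0xb8aa5b4d69640d178c813a28e549a0
theorem h593 : Tabled KK 5 N593 := Cfsg.Agent.Lib.Helper17PCTab.Tabled.mul h592 h0 (by decide +kernel)
def N594 : ℕ := 0xba68491eafb3911284465aa6c1c1a0
theorem h594 : Tabled KK 5 N594 := Cfsg.Agent.Lib.Helper17PCTab.Tabled.mul h593 h1 (by decide +kernel)
def N595 : ℕ := 0xbbe6282e859315121928a8cf60b9a0
theorem h595 : Tabled KK 5 N595 := Cfsg.Agent.Lib.Helper17PCTab.Tabled.mul h594 h1 (by decide +kernel)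
def N596 : ℕ := 0xbcab423d478b2069d9a5121c15a460
theorem h596 : Tabled KK 5 N596 := Cfsg.Agent.Lib.Helper17PCTab.Tabled.mul h595 h2 (by decide +kernel)
def N597 : ℕ := 0xb9dcd48ab320506a165052df1b3060
theorem h597 : Tabled KK 5 N597 := Cfsg.Agent.Lib.Helper17PCTab.Tabled.mul h596 h1 (by decide +kernel)
def N598 : ℕ := 0xb91b05a9d560532b1a933be2828860
theorem h598 : Tabled KK 5 N598 := Cfsg.Agent.Lib.Helper17PCTab.Tabled.mul h597 h0 (by decide +kernel)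
def N599 : ℕ := 0xbd63411db65a1f284c897154c30460
theorem h599 : Tabled KK 5 N599 := Cfsg.Agent.Lib.Helper17PCTab.Tabled.mul h598 h1 (by decide +kernel)
def N600 : ℕ := 0xbae892ba2d0a04434a16aa98f99c60
theorem h600 : Tabled KK 5 N600 := Cfsg.Agent.Lib.Helper17PCTab.Tabled.mul h599 h0 (by decide +kernel)
def N601 : ℕ := 0xb86b132c4c220b2a3c6d4d8f374140
theorem h601 : Tabled KK 5 N601 := Cfsg.Agent.Lib.Helper17PCTab.Tabled.mul h600 h2 (by decide +kernel)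
def N602 : ℕ := 0xb922db26a2820c374a8c09e657ad40
theorem h602 : Tabled KK 5 N602 := Cfsg.Agent.Lib.Helper17PCTab.Tabled.mul h601 h0 (by decide +kernel)
def N603 : ℕ := 0xbc035710d31a2d2895426b16f4d0e0
theorem h603 : Tabled KK 5 N603 := Cfsg.Agent.Lib.Helper17PCTab.Tabled.mul h602 h2 (by decide +kernel)
def N604 : ℕ := 0xb92cc941251d02e54e226d56f320e0
theorem h604 : Tabled KK 5 N604 := Cfsg.Agent.Lib.Helper17PCTab.Tabled.mul h586 h603 (by decide +kernel)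
def N673 : ℕ := 0xbd9c6785a2892703d569450aa60e40
theorem h673 : Tabled KK 5 N673 := Cfsg.Agent.Lib.Helper17PCTab.Tabled.mul h363 h1 (by decide +kernel)
def N674 : ℕ := 0xbc50d3da65811f572a423246c0ae80
theorem h674 : Tabled KK 5 N674 := Cfsg.Agent.Lib.Helper17PCTab.Tabled.mul h673 h2 (by decide +kernel)
def N675 : ℕ := 0xbc1a249913590f20d5c588d8f55a80
theorem h675 : Tabled KK 5 N675 := Cfsg.Agent.Lib.Helper17PCTab.Tabled.mul h674 h0 (by decide +kernel)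
def N676 : ℕ := 0xbcd8eb45a14bc7211607428cba9280
theorem h676 : Tabled KK 5 N676 := Cfsg.Agent.Lib.Helper17PCTab.Tabled.mul h675 h1 (by decide +kernel)
def N677 : ℕ := 0xba5c75218d23ed0ac841999632c680
theorem h677 : Tabled KK 5 N677 := Cfsg.Agent.Lib.Helper17PCTab.Tabled.mul h676 h0 (by decide +kernel)
def N678 : ℕ := 0xbb5628cdd550cd0385366150493e80
theorem h678 : Tabled KK 5 N678 := Cfsg.Agent.Lib.Helper17PCTab.Tabled.mul h677 h1 (by decide +kernel)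
def N679 : ℕ := 0xba8562b16e78e29940f56a0860ce80
theorem h679 : Tabled KK 5 N679 := Cfsg.Agent.Lib.Helper17PCTab.Tabled.mul h678 h0 (by decide +kernel)
def N680 : ℕ := 0xbb8879b45229909b55515858f80e80
theorem h680 : Tabled KK 5 N680 := Cfsg.Agent.Lib.Helper17PCTab.Tabled.mul h679 h1 (by decide +kernel)
def N681 : ℕ := 0xbc98a1ac969bc293c5c8141a5a9a80
theorem h681 : Tabled KK 5 N681 := Cfsg.Agent.Lib.Helper17PCTab.Tabled.mul h680 h1 (by decide +kernel)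
def N682 : ℕ := 0xbcc443c82d4bc7161696520d55ba00
theorem h682 : Tabled KK 5 N682 := Cfsg.Agent.Lib.Helper17PCTab.Tabled.mul h681 h2 (by decide +kernel)
def N683 : ℕ := 0xba54164c668bce51560d259cb95100
theorem h683 : Tabled KK 5 N683 := Cfsg.Agent.Lib.Helper17PCTab.Tabled.mul h682 h2 (by decide +kernel)
def N684 : ℕ := 0xbc483124ee2bd9552d060b6929c2c0
theorem h684 : Tabled KK 5 N684 := Cfsg.Agent.Lib.Helper17PCTab.Tabled.mul h683 h2 (by decide +kernel)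
def N685 : ℕ := 0xb942754594abc4b24ace19a134a1a0
theorem h685 : Tabled KK 5 N685 := Cfsg.Agent.Lib.Helper17PCTab.Tabled.mul h684 h2 (by decide +kernel)
def N686 : ℕ := 0xbd4ee30c2c43d564ac942c262945a0
theorem h686 : Tabled KK 5 N686 := Cfsg.Agent.Lib.Helper17PCTab.Tabled.mul h685 h0 (by decide +kernel)
def N687 : ℕ := 0xbb264894e930a16752aa0c8685bda0
theorem h687 : Tabled KK 5 N687 := Cfsg.Agent.Lib.Helper17PCTab.Tabled.mul h686 h1 (by decide +kernel)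
def N688 : ℕ := 0xba4757866e8a256229903aca6a09a0
theorem h688 : Tabled KK 5 N688 := Cfsg.Agent.Lib.Helper17PCTab.Tabled.mul h687 h1 (by decide +kernel)
def N689 : ℕ := 0xbc6b059c73121eca588e494d2505a0
theorem h689 : Tabled KK 5 N689 := Cfsg.Agent.Lib.Helper17PCTab.Tabled.mul h688 h0 (by decide +kernel)
def N690 : ℕ := 0xbccc40a6b45c8ac83a2f1a8e2b21a0
theorem h690 : Tabled KK 5 N690 := Cfsg.Agent.Lib.Helper17PCTab.Tabled.mul h689 h1 (by decide +kernel)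
def N691 : ℕ := 0xbac7584ca76482e309b423d164c540
theorem h691 : Tabled KK 5 N691 := Cfsg.Agent.Lib.Helper17PCTab.Tabled.mul h690 h2 (by decide +kernel)
def N692 : ℕ := 0xbb2b4790658ca0d4b8c75a2c114d40
theorem h692 : Tabled KK 5 N692 := Cfsg.Agent.Lib.Helper17PCTab.Tabled.mul h691 h0 (by decide +kernel)
def N693 : ℕ := 0xbc68742ea39c9e6135256583071140
theorem h693 : Tabled KK 5 N693 := Cfsg.Agent.Lib.Helper17PCTab.Tabled.mul h692 h0 (by decide +kernel)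
def N694 : ℕ := 0xbcd95145e13490da41433948e5a6c0
theorem h694 : Tabled KK 5 N694 := Cfsg.Agent.Lib.Helper17PCTab.Tabled.mul h693 h2 (by decide +kernel)
def N695 : ℕ := 0xb98efa4d046c85063ac1a8d2b8a8a0
theorem h695 : Tabled KK 5 N695 := Cfsg.Agent.Lib.Helper17PCTab.Tabled.mul h694 h2 (by decide +kernel)
def N696 : ℕ := 0xbb5e11d4e854a968c1843256274ca0
theorem h696 : Tabled KK 5 N696 := Cfsg.Agent.Lib.Helper17PCTab.Tabled.mul h695 h0 (by decide +kernel)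
def N697 : ℕ := 0xba824499e79c86c75a286ac54854a0
theorem h697 : Tabled KK 5 N697 := Cfsg.Agent.Lib.Helper17PCTab.Tabled.mul h696 h0 (by decide +kernel)
def N698 : ℕ := 0xbcdaf72862649360d0a7222b034560
theorem h698 : Tabled KK 5 N698 := Cfsg.Agent.Lib.Helper17PCTab.Tabled.mul h697 h2 (by decide +kernel)
def N699 : ℕ := 0xbb1e7411a38c9c5358229d609a2960
theorem h699 : Tabled KK 5 N699 := Cfsg.Agent.Lib.Helper17PCTab.Tabled.mul h698 h0 (by decide +kernel)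
def N700 : ℕ := 0xba8c33b9e5ab63608893a2d9282120
theorem h700 : Tabled KK 5 N700 := Cfsg.Agent.Lib.Helper17PCTab.Tabled.inv h699 (by decide +kernel)
def N701 : ℕ := 0xbc9c1b2625a29a8aae6231e0c79060
theorem h701 : Tabled KK 5 N701 := Cfsg.Agent.Lib.Helper17PCTab.Tabled.mul h149 h1 (by decide +kernel)
def N702 : ℕ := 0xbd0d1ac9b042acb730650888f4cce0
theorem h702 : Tabled KK 5 N702 := Cfsg.Agent.Lib.Helper17PCTab.Tabled.mul h701 h2 (by decide +kernel)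
def N703 : ℕ := 0xba225104cd9aaa34add0a11f6648e0
theorem h703 : Tabled KK 5 N703 := Cfsg.Agent.Lib.Helper17PCTab.Tabled.mul h702 h0 (by decide +kernel)
def N704 : ℕ := 0xbccb0252269284e60d2d43ed5584e0
theorem h704 : Tabled KK 5 N704 := Cfsg.Agent.Lib.Helper17PCTab.Tabled.mul h703 h0 (by decide +kernel)
def N705 : ℕ := 0xb9ac90a0ac255ee836628ae921a8e0
theorem h705 : Tabled KK 5 N705 := Cfsg.Agent.Lib.Helper17PCTab.Tabled.mul h704 h1 (by decide +kernel)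
def N706 : ℕ := 0xb9225819f47542db48ec4894344d60
theorem h706 : Tabled KK 5 N706 := Cfsg.Agent.Lib.Helper17PCTab.Tabled.mul h705 h2 (by decide +kernel)
def N707 : ℕ := 0xbd1479a63680c4d2b0817a0ce95560
theorem h707 : Tabled KK 5 N707 := Cfsg.Agent.Lib.Helper17PCTab.Tabled.mul h706 h1 (by decide +kernel)
def N708 : ℕ := 0xbc1f12d04668e6c53976386b249100
theorem h708 : Tabled KK 5 N708 := Cfsg.Agent.Lib.Helper17PCTab.Tabled.mul h707 h2 (by decide +kernel)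
def N709 : ℕ := 0xbb4e25427560cae7c9068d889a2c20
theorem h709 : Tabled KK 5 N709 := Cfsg.Agent.Lib.Helper17PCTab.Tabled.mul h708 h2 (by decide +kernel)
def N710 : ℕ := 0xbb046b44f358d48a39f56912594020
theorem h710 : Tabled KK 5 N710 := Cfsg.Agent.Lib.Helper17PCTab.Tabled.mul h709 h0 (by decide +kernel)
def N711 : ℕ := 0xbacd52344780ecf92293624aa74420
theorem h711 : Tabled KK 5 N711 := Cfsg.Agent.Lib.Helper17PCTab.Tabled.mul h710 h0 (by decide +kernel)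
def N712 : ℕ := 0xbc2b34b0c288c9473e475955643420
theorem h712 : Tabled KK 5 N712 := Cfsg.Agent.Lib.Helper17PCTab.Tabled.mul h711 h0 (by decide +kernel)
def N713 : ℕ := 0xbc5667408aa0d2fad82299da8648a0
theorem h713 : Tabled KK 5 N713 := Cfsg.Agent.Lib.Helper17PCTab.Tabled.mul h712 h2 (by decide +kernel)
def N714 : ℕ := 0xba9a194d75720ef30a2923214b0ca0
theorem h714 : Tabled KK 5 N714 := Cfsg.Agent.Lib.Helper17PCTab.Tabled.mul h713 h1 (by decide +kernel)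
def N715 : ℕ := 0xbd611191a69518f0a5475da6e120a0
theorem h715 : Tabled KK 5 N715 := Cfsg.Agent.Lib.Helper17PCTab.Tabled.mul h714 h1 (by decide +kernel)
def N716 : ℕ := 0xbca27b2e0d4506a13c26acdcc490a0
theorem h716 : Tabled KK 5 N716 := Cfsg.Agent.Lib.Helper17PCTab.Tabled.mul h715 h0 (by decide +kernel)
def N717 : ℕ := 0xba2b01486e552cf8b0ad3988958660
theorem h717 : Tabled KK 5 N717 := Cfsg.Agent.Lib.Helper17PCTab.Tabled.mul h716 h2 (by decide +kernel)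
def N718 : ℕ := 0xbb88509eb1124cf835161ae4a65260
theorem h718 : Tabled KK 5 N718 := Cfsg.Agent.Lib.Helper17PCTab.Tabled.mul h717 h1 (by decide +kernel)
def N719 : ℕ := 0xb88b658c95a242863e117494669e60
theorem h719 : Tabled KK 5 N719 := Cfsg.Agent.Lib.Helper17PCTab.Tabled.mul h718 h0 (by decide +kernel)
def N720 : ℕ := 0xbd5503b8ac59a48b4441234747a660
theorem h720 : Tabled KK 5 N720 := Cfsg.Agent.Lib.Helper17PCTab.Tabled.mul h719 h1 (by decide +kernel)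
def N721 : ℕ := 0xbae0169145498e27a2cca8e928ba60
theorem h721 : Tabled KK 5 N721 := Cfsg.Agent.Lib.Helper17PCTab.Tabled.mul h720 h0 (by decide +kernel)
def N722 : ℕ := 0xb96967560f6c8620b1675448941a60
theorem h722 : Tabled KK 5 N722 := Cfsg.Agent.Lib.Helper17PCTab.Tabled.mul h721 h1 (by decide +kernel)
def N723 : ℕ := 0xbb6c78aa90349cb4082f2912365660
theorem h723 : Tabled KK 5 N723 := Cfsg.Agent.Lib.Helper17PCTab.Tabled.mul h722 h0 (by decide +kernel)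
def N724 : ℕ := 0xbc554788655b9a19a13564890b18e0
theorem h724 : Tabled KK 5 N724 := Cfsg.Agent.Lib.Helper17PCTab.Tabled.mul h700 h723 (by decide +kernel)

def C : Cert where
  D := { p := 2, n := 7, pwL := [[], [5, 6], [4], [], [], [], []], cmL := [[], [3, 4], [4], [6], [], [6], [], [], [], [3, 4], [5], [5], [], [], [], [], [], [5, 6], [], [6], [], [], [], [], [], [6], [], [], [], [], [], [], [], [], [], [], [], [], [], [], [], [], [], [], [], [], [], [], []] }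
  k := 2
  f := 73
  R := 6
  fus := [([[0]], [[0, 1, 2, 4, 5]]), ([[0], [1, 2], [3], [4], [5], [6]], [[4, 6], [1, 2, 3, 4], [3, 5], [0, 4], [3, 6], [6]]), ([[0, 2], [1], [3], [4], [5], [6]], [[0, 2, 4], [1, 3, 4, 5], [0, 1, 2, 3, 4, 5, 6], [0, 2], [6], [5, 6]])]
  specs := [(0, [1], [1, 0]),
    (0, [1], [0, 0]),
    (0, [2], [1, 0]),
    (0, [3], [1, 0]),
    (0, [4], [1, 0]),
    (0, [5], [1, 0]),
    (0, [6], [1, 0]),
    (0, [2], [2, 0]),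
    (0, [2], [0, 0]),
    (0, [3], [2, 0]),
    (0, [6], [2, 0]),
    (0, [3], [3, 0]),
    (0, [3], [0, 0]),
    (0, [5], [3, 0]),
    (0, [5], [5, 0]),
    (0, [1], [1, 1]),
    (0, [2], [2, 1]),
    (0, [2], [1, 1]),
    (0, [3], [3, 1]),
    (1, [0, 0], []),
    (2, [4, 4], []),
    (2, [3, 3], []),
    (2, [1, 1, 5, 2], []),
    (2, [1, 0, 5, 4, 2, 1, 5, 2, 0], []),
    (2, [2, 0, 5, 2, 0], []),
    (3, [3, 3], []),
    (3, [2, 2], []),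
    (3, [1, 1, 5, 4], []),
    (3, [2, 0, 4, 2, 0], [])]
  relV := [[0, (-2), 0, 0, 0, 1, 1, 0, 0, 0, (-1), (-1), 0, 0, 0, 0, 0, 0, 0, 0, 0, 0, 0, 0, (-1), (-1), (-2), (-2), 0, 0, 0, 0, (-1), (-1), (-1), 0, 0, 0, 0, 0, (-1), (-3), 0, 0, 0, 0, 0, 0, 0, 0, 0, 0, 0, 0, 0, 0, 0, 0, 0, 0, 0, 0, 0, 0, 0, 0, 0],
    [0, 2, 0, 1, 1, 0, 0, 0, 0, 0, 0, 0, 0, 0, 0, 0, 0, 0, 0, 0, 0, 0, 0, 0, 1, 1, 0, 0, 0, 0, 0, 0, 1, 0, 0, 0, 0, 0, 0, 0, 0, 0, 0, 0, 0, 0, 0, 0, 1, 0, 0, 0, 0, 0, 0, 0, 0, 0, 0, 0, 0, 0, 0, 0, 0, 0, 0],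
    [0, 0, 0, 1, 1, 0, 0, 0, 0, 0, 0, (-1), 0, 0, 0, 0, 0, 1, 1, 0, 0, 0, 0, 0, 0, 0, 0, 1, 0, 0, 0, 0, 0, 2, 2, 0, 0, 0, 0, 0, 0, 0, 0, 0, 0, 0, 0, 0, 1, 0, 0, 0, 0, 0, 0, 0, 0, 0, 0, 0, 0, 0, 0, 0, 0, 0, 0],
    [0, 0, 0, 0, 0, 1, 0, 0, 0, 0, 0, 0, 0, (-1), 0, 0, 0, 0, 0, 0, 0, 0, 0, 0, 0, 1, (-1), (-1), 0, 0, 0, 0, 0, (-1), (-1), 0, 0, 0, 0, 0, 0, 0, 0, 0, 0, 0, 0, 0, 1, 0, 0, 0, 0, 0, 0, 0, 0, 0, 0, 0, 0, 0, 0, 0, 0, 0, 0],
    [0, 0, 0, 0, 0, 1, 0, 0, 0, 0, 0, 0, 0, 0, 0, 0, 0, 0, 0, 0, 0, 0, 0, 0, 0, (-1), (-1), 0, 0, 0, 0, 0, 0, (-1), (-1), 0, 0, 0, 0, 0, 0, (-1), 0, 0, 0, 0, 0, 0, 0, 0, 0, 0, 0, 0, 0, 0, 0, 0, 0, 0, 0, 0, 0, 0, 0, 0, 0],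
    [0, 0, 0, 0, 0, 0, 0, 0, 0, 0, 0, 0, 0, (-1), 0, 0, 0, 0, 0, 0, 0, 0, 0, 0, 0, 0, (-1), (-1), 0, 0, 0, 0, 0, (-1), (-1), 0, 0, 0, 0, 0, 0, 0, 0, 0, 0, 0, 0, 0, 0, 0, 0, 0, 0, 0, 0, 0, 0, 0, 0, 0, 0, 0, 0, 0, 0, 0, 0],
    [0, 0, 0, 0, 0, 0, 0, 0, 0, 0, 0, 0, 0, 0, 0, 0, 0, 0, 0, 0, 0, 0, 0, 0, 0, 0, 0, (-1), 0, 0, 0, 0, 0, 0, (-1), 0, 0, 0, 0, 0, 0, 0, 0, 0, 0, 0, 0, 0, 0, 0, 0, 0, 0, 0, 0, 0, 0, 0, 0, 0, 0, 0, 0, 0, 0, 0, 0],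
    [0, 0, (-2), 0, 1, 0, 0, 0, 0, 0, 0, 0, 0, 0, 0, 0, 0, 0, (-1), 0, 0, 0, 0, 0, 0, 0, 0, 0, 0, 0, 0, 0, (-1), 0, 0, 0, 0, 0, 0, 0, 0, 0, 0, 0, 0, 0, 0, 0, 0, 0, 0, 0, 0, 0, 0, 0, 0, 0, 0, 0, 0, 0, 0, 0, 0, 0, 0],
    [0, 0, 2, 0, 1, 0, 0, 0, 0, 0, 0, 0, 0, 0, 0, 0, 0, 0, 0, 0, 0, 0, 0, 0, 0, 0, 0, 0, 0, 0, 0, 0, 1, 0, 0, 0, 0, 0, 0, 0, 0, 0, 0, 0, 0, 0, 0, 0, 0, 0, 0, 0, 0, 0, 0, 0, 0, 0, 0, 0, 0, 0, 0, 0, 0, 0, 0],
    [0, 0, 0, 0, 0, 1, 1, 0, 0, 0, 0, 0, 0, 0, 0, 0, 0, 0, 0, 0, (-1), 0, 0, 0, 0, 1, 0, 0, 0, 0, 0, 0, 0, (-1), 0, 0, 0, 0, 0, 0, 0, 0, 0, 0, 0, 0, 0, 0, 1, 0, 0, 0, 0, 0, 0, 0, 0, 0, 0, 0, 0, 0, 0, 0, 0, 0, 0],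
    [0, 0, 0, 0, 0, 0, 0, 0, 0, 0, 0, 0, 0, 0, 0, 0, 0, 0, 0, 0, 0, 0, 0, 0, 0, 0, 0, 0, 0, 0, 0, 0, 0, 0, (-1), 0, 0, 0, 0, 0, 0, 0, 0, 0, 0, 0, 0, 0, 0, 0, 0, 0, 0, 0, 0, 0, 0, 0, 0, 0, 0, 0, 0, 0, 0, 0, 0],
    [0, 0, 0, (-2), 0, 0, 0, 0, 0, 0, 0, 0, 0, 0, 0, 0, 0, 0, 0, 0, 0, 0, 0, 0, 0, 0, 0, (-1), 0, 0, 0, 0, 0, 0, 0, 0, 0, 0, 0, 0, 0, 0, 0, 0, 0, 0, 0, 0, (-1), 0, 0, 0, 0, 0, 0, 0, 0, 0, 0, 0, 0, 0, 0, 0, 0, 0, 0],
    [0, 0, 0, 2, 0, 0, 1, 0, 0, 0, 0, 0, 0, 0, 0, 0, 0, 0, 0, 0, 0, 0, 0, 0, 0, 0, 0, 0, 0, 0, 0, 0, 0, 0, 0, 0, 0, 0, 0, 0, 0, 0, 0, 0, 0, 0, 0, 0, 1, 0, 0, 0, 0, 0, 0, 0, 0, 0, 0, 0, 0, 0, 0, 0, 0, 0, 0],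
    [0, 0, 0, 0, 0, 0, 0, 0, 0, 0, 0, 0, 0, 0, 0, 0, 0, 0, 0, 0, 0, 0, 0, 0, 0, 0, 0, (-1), 0, 0, 0, 0, 0, 0, 0, 0, 0, 0, 0, 0, 0, 1, 0, 0, 0, 0, 0, 0, 0, 0, 0, 0, 0, 0, 0, 0, 0, 0, 0, 0, 0, 0, 0, 0, 0, 0, 0],
    [0, 0, 0, 0, 0, (-2), 0, 0, 0, 0, 0, 0, 0, 0, 0, 0, 0, 0, 0, 0, 0, 0, 0, 0, 0, 0, 0, 0, 0, 0, 0, 0, 0, 0, 0, 0, 0, 0, 0, 0, 0, (-1), 0, 0, 0, 0, 0, 0, (-1), 0, 0, 0, 0, 0, 0, 0, 0, 0, 0, 0, 0, 0, 0, 0, 0, 0, 0],
    [0, 0, 0, 0, 0, 0, 0, 0, 0, 0, 0, 0, 1, 1, 0, 0, 0, 0, 0, 0, 0, 0, 0, 0, 0, 0, 0, 0, 0, 0, 0, 0, 0, 0, 0, 0, 0, 0, 0, 0, 0, 0, 0, 0, 0, 0, 0, 0, 0, 0, 0, 0, 0, 0, 0, 0, 0, 0, 0, 0, 0, 0, 0, 0, 0, 0, 0],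
    [0, 0, 0, 0, 0, 0, 0, 0, 0, (-2), 0, 1, 0, 0, 0, 0, 0, (-1), (-1), 0, 0, 0, 0, 0, (-1), (-1), (-1), 0, 0, 0, 0, 0, (-1), (-2), 0, 0, 0, 0, 0, 0, 0, (-1), 0, 0, 0, 0, 0, 0, (-1), 0, 0, 0, 0, 0, 0, 0, 0, 0, 0, 0, 0, 0, 0, 0, 0, 0, 0],
    [0, 0, 0, 0, 0, 0, 0, 0, 0, 2, 1, 1, 0, 0, 0, 0, 0, 0, 0, 1, 1, 0, 0, 0, 1, 1, 2, 0, 0, 0, 0, 0, 1, 1, 1, 0, 0, 0, 0, 0, 1, 3, 0, 0, 0, 0, 0, 0, 1, 0, 0, 0, 0, 0, 0, 0, 0, 0, 0, 0, 0, 0, 0, 0, 0, 0, 0],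
    [0, 0, 0, 0, 0, 0, 0, 0, 0, 0, (-2), 0, 0, 0, 0, 0, 0, 0, 0, 0, 0, 0, 0, 0, 0, 0, (-1), 0, 0, 0, 0, 0, 0, 0, 0, 0, 0, 0, 0, 0, (-1), 0, 0, 0, 0, 0, 0, 0, 0, 0, 0, 0, 0, 0, 0, 0, 0, 0, 0, 0, 0, 0, 0, 0, 0, 0, 0],
    [0, (-1), (-1), 0, (-1), (-1), 0, 0, (-1), (-1), (-1), (-1), 0, 0, 0, 0, (-1), (-1), (-1), (-2), (-2), 0, 0, 0, (-1), (-1), (-2), 0, 0, 0, 0, 0, (-3), (-5), (-4), 0, 0, 0, 0, 0, (-3), (-4), 0, 0, 0, 0, 0, 0, (-3), (-2), 0, 0, 0, 0, 0, 0, 0, 0, 0, 0, 0, 0, 0, 0, 0, 0, 0],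
    [0, 0, 0, 0, 0, 0, 0, 0, 0, 0, 0, 0, 0, 0, 0, 0, 0, 0, 0, 0, 0, 0, 0, 0, (-1), 0, 0, (-1), 0, 0, 0, 0, 0, 0, 0, 0, 0, 0, 0, 0, 1, 0, 0, 0, 0, 0, 0, 0, (-1), 0, 0, 0, 0, 0, 0, 0, 0, 0, 0, (-2), 0, 0, 0, 0, 0, 0, 0],
    [(-1), 0, 0, 0, (-1), 0, 0, 0, 0, 0, 0, 0, 0, 0, 0, 0, 0, 0, 0, 0, 0, 0, 0, 0, 0, 0, 0, 0, 0, 0, 0, 0, 0, 0, 0, 0, 0, 0, 0, 0, 0, 0, 0, 0, 0, 0, 0, 0, 0, 0, 0, 0, 0, 0, 0, 0, 0, 0, (-2), 0, 0, 0, 0, 0, 0, 0, 0],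
    [0, 0, 0, 0, 0, 0, 0, 0, 0, 0, (-1), (-1), 0, 0, 0, 0, 0, 1, 1, 0, (-1), 0, 0, 0, (-1), (-1), (-3), 0, 0, 0, 0, 0, (-1), 0, (-2), 0, 0, 0, 0, 0, (-1), (-3), 0, 0, 0, 0, 0, 0, 0, 0, 0, 0, 0, 0, 0, 0, (-2), (-1), 0, 0, (-1), 0, 0, 0, 0, 0, 0],
    [1, 1, 1, 0, 0, 0, 0, 0, 0, 0, (-1), 0, (-1), (-1), 0, 0, 0, 2, 1, 0, 0, 0, 0, 0, (-1), (-1), (-3), (-2), 0, 0, 0, 0, (-1), 2, 0, 0, 0, 0, 0, 0, 0, (-5), 0, 0, 0, 0, 0, 0, (-1), 0, 0, 0, 0, 0, 0, (-2), (-2), (-2), 0, (-1), (-2), 0, 0, 0, 0, 0, 0],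
    [1, 0, 0, 1, 0, 0, 0, 0, 0, 0, 0, 0, 0, 0, 0, 0, 0, 0, 0, 0, 0, 0, 0, 0, 0, (-1), (-1), 0, 0, 0, 0, 0, (-1), (-1), (-1), 0, 0, 0, 0, 0, (-1), (-2), 0, 0, 0, 0, 0, 0, (-1), 0, 0, 0, 0, 0, 0, (-2), 0, (-2), 0, 0, (-1), 0, 0, 0, 0, 0, 0],
    [(-1), 0, (-1), 0, 0, 0, 0, 0, 0, 0, 0, 0, 0, 0, 0, 0, (-1), 0, (-1), 0, 0, 0, 0, 0, 0, 0, 0, 0, 0, 0, 0, 0, 0, 0, 0, 0, 0, 0, 0, 0, 0, 0, 0, 0, 0, 0, 0, 0, 0, 0, 0, 0, 0, 0, 0, 0, 0, 0, 0, 0, 0, 0, 0, 0, (-2), 0, 0],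
    [(-1), (-1), (-1), (-1), (-1), (-1), (-1), 0, (-1), (-1), 0, (-1), 0, 0, 0, 0, (-1), (-2), (-1), (-1), (-1), 0, 0, 0, (-1), (-2), (-3), (-1), 0, 0, 0, 0, (-3), (-6), (-3), 0, 0, 0, 0, 0, (-3), (-3), 0, 0, 0, 0, 0, 0, (-5), 0, 0, 0, 0, 0, 0, 0, 0, 0, 0, 0, 0, 0, 0, (-2), 0, 0, 0],
    [0, 0, 0, 0, 0, 0, 0, 0, 0, 0, (-1), (-1), (-1), 0, 0, 0, 0, 0, 0, 0, 0, 0, 0, 0, (-1), (-1), (-1), (-2), 0, 0, 0, 0, (-1), 0, (-1), 0, 0, 0, 0, 0, (-2), (-3), 0, 0, 0, 0, 0, 0, (-1), 0, 0, 0, 0, 0, 0, 0, 0, 0, 0, 0, 0, 0, (-2), 0, 0, (-1), (-1)],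
    [(-1), (-2), (-1), 0, (-3), (-1), (-2), 0, (-1), 0, (-1), 0, 0, (-1), 0, 0, (-1), (-1), (-1), 0, 1, 0, 0, 0, (-1), 0, (-3), (-3), 0, 0, 0, 0, (-4), (-4), (-3), 0, 0, 0, 0, 0, (-2), (-2), 0, 0, 0, 0, 0, 0, (-3), 0, 0, 0, 0, 0, 0, 0, 0, 0, 0, 0, 0, (-2), 0, (-2), 0, (-1), 0]]
  lam := [[0, 0, 0, 0, 0, 0, 0, 0, 0, 0, 0, 0, 0, 0, 0, 0, 0, 0, 0, 0, 0, 0, 0, 0, 0, 0, 0, 0, 0, 0, 0, 0, 0, 0, 0, 0, 0, 0, 0, 0, 0, 0, 0, 0, 0, 0, 0, 0, 0, 0, 0, 0, 0, 0, 0, 0, 0, 0, 0, 0, 0, 0, 0, 0, 0, 0, 0],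
    [0, 0, 0, 0, 0, 0, 0, 0, 0, 0, 0, 0, 0, 0, 0, 0, 0, 0, 0, 0, 0, 0, 0, 0, 0, 0, 0, 0, 0, 0, 0, 0, 0, 0, 0, 0, 0, 0, 0, 0, 0, 0, 0, 0, 0, 0, 0, 0, 0, 0, 0, 0, 0, 0, 0, 0, 0, 0, 0, 0, 0, 0, 0, 0, 0, 0, 0],
    [0, 0, 0, 0, 0, 0, 0, 0, 0, 0, 0, 0, 0, 0, 0, 0, 0, 0, 0, 0, 0, 0, 0, 0, 0, 0, 0, 0, 0, 0, 0, 0, 0, 0, 0, 0, 0, 0, 0, 0, 0, 0, 0, 0, 0, 0, 0, 0, 0, 0, 0, 0, 0, 0, 0, 0, 0, 0, 0, 0, 0, 0, 0, 0, 0, 0, 0],
    [0, 0, 0, 0, 0, 0, 0, 0, 0, 0, 0, 0, 0, 0, 0, 0, 0, 0, 0, 0, 0, 0, 0, 0, 0, 0, 0, 0, 0, 0, 0, 0, 0, 0, 0, 0, 0, 0, 0, 0, 0, 0, 0, 0, 0, 0, 0, 0, 0, 0, 0, 0, 0, 0, 0, 0, 0, 0, 0, 1, 0, 0, 0, 0, 0, 1, 0],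
    [0, 0, 0, 0, 0, 0, 0, 0, 0, 0, 0, 0, 0, 0, 0, 0, 1, 0, 0, 0, 0, 0, 0, 0, 0, 0, 0, 0, 0, 0, 0, 0, 0, 0, 0, 0, 0, 0, 0, 0, 0, 0, 0, 0, 0, 0, 0, 0, 0, 0, 0, 0, 0, 0, 0, 0, 0, 0, 0, 0, 0, 0, 0, 0, 0, 0, 0],
    [0, 0, 0, 0, 0, 0, 0, 0, 0, 0, 0, 0, 0, 0, 0, 0, 0, 0, 0, 0, 0, 0, 0, 0, 0, 0, 0, 0, 0, 0, 0, 0, 0, 0, 0, 0, 0, 0, 0, 0, 0, 0, 0, 0, 0, 0, 0, 0, 0, 0, 0, 0, 0, 0, 0, 0, 0, 0, 0, 0, 0, 0, 0, 0, 0, 0, 1],
    [0, 0, 0, 0, 0, 0, 0, 0, 0, 0, 0, 0, 0, 0, 0, 0, 0, 0, 0, 0, 0, 0, 0, 0, 0, 0, 0, 0, 0, 0, 0, 0, 0, 0, 0, 0, 0, 0, 0, 0, 0, 0, 0, 0, 0, 0, 0, 0, 0, 0, 0, 0, 0, 0, 0, 0, 0, 0, 0, 0, 0, 0, 0, 0, 0, 1, 1]]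
  j0 := 1
  mu := [0, 1, 0, 0, 0, 0, 0, 0, 0, 0, 1, 1, 0, 0, 0, 0, 0, 1, 0, 0, 0, 0, 0, 0, 0, 0, 0, 0, 0, 0, 0, 0, 0, 0, 0, 0, 0, 0, 0, 0, 0, 0, 0, 0, 0, 0, 0, 0, 0]
  y1 := [[(0, 2), (1, 1), (4, 6), (6, 4), (7, 1), (8, 4), (11, 7), (12, 3), (13, 7), (15, 2), (16, 7), (17, 3), (18, 6), (19, 3), (20, 1), (21, 6), (23, 2), (24, 4), (25, 2), (26, 5)],
    [],
    [(0, 2), (1, 1), (4, 6), (6, 4), (8, 5), (11, 7), (12, 3), (13, 7), (15, 2), (16, 7), (17, 3), (18, 6), (19, 3), (20, 1), (21, 6), (23, 2), (24, 4), (25, 3), (26, 5)],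
    [(0, 7), (1, 7), (2, 2), (3, 7), (4, 6), (5, 6), (6, 5), (7, 6), (8, 5), (9, 2), (10, 6), (11, 1), (12, 1), (13, 4), (15, 1), (17, 2), (19, 4), (20, 1), (21, 4), (22, 6), (23, 4), (24, 2), (26, 2), (27, 5)],
    [(0, 2), (1, 1), (4, 6), (6, 4), (7, 1), (8, 6), (11, 7), (12, 3), (13, 7), (15, 2), (16, 7), (17, 3), (18, 6), (19, 3), (20, 1), (21, 7), (23, 2), (24, 4), (25, 2), (26, 5)],
    [(0, 1), (1, 5), (2, 7), (3, 2), (4, 4), (5, 1), (6, 4), (7, 6), (8, 2), (9, 2), (10, 3), (11, 7), (12, 1), (13, 3), (15, 1), (16, 5), (17, 6), (18, 1), (19, 6), (20, 4), (21, 4), (22, 6), (23, 4), (24, 2), (26, 2), (27, 5)],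
    [(3, 6), (4, 2), (6, 1), (10, 1), (11, 1), (12, 1)],
    [],
    [(0, 1), (1, 1), (3, 6), (4, 1), (5, 1), (7, 6), (8, 1), (9, 7), (10, 2), (11, 5), (12, 1), (13, 6), (15, 4), (16, 6), (17, 5), (19, 1), (21, 3), (22, 4), (23, 2), (24, 2), (25, 3), (26, 3), (27, 2), (28, 3)],
    [(0, 5), (1, 1), (2, 1), (3, 6), (4, 6), (5, 1), (6, 1), (7, 2), (8, 1), (9, 7), (10, 4), (11, 5), (13, 7), (15, 5), (16, 5), (17, 4), (18, 6), (19, 7), (20, 2), (21, 7), (22, 4), (23, 3), (24, 6), (25, 1), (26, 6), (27, 2), (28, 3)],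
    [(0, 1), (2, 3), (3, 3), (4, 6), (5, 2), (6, 3), (7, 3), (8, 5), (9, 2), (10, 2), (11, 1), (12, 4), (13, 7), (16, 2), (17, 1), (18, 6), (19, 5), (20, 2), (21, 7), (22, 6), (23, 3), (24, 6), (25, 3), (26, 7), (27, 5)],
    [(0, 2), (2, 2), (3, 3), (4, 3), (5, 2), (6, 3), (7, 6), (8, 2), (9, 2), (11, 7), (12, 6), (13, 3), (15, 6), (17, 2), (18, 6), (20, 6), (22, 6), (23, 1), (24, 2), (25, 1), (26, 2), (27, 5)],
    [(1, 6), (3, 1), (4, 7), (6, 1), (8, 2), (10, 7), (11, 7), (13, 7), (15, 1)],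
    [(1, 2), (3, 7), (4, 1), (6, 5), (8, 6), (10, 1), (11, 1), (13, 1)],
    [],
    [],
    [],
    [(0, 5), (1, 4), (2, 1), (3, 4), (4, 3), (5, 4), (6, 2), (7, 2), (10, 4), (11, 6), (13, 6), (15, 7), (16, 7), (17, 3), (18, 4), (19, 7), (20, 6), (21, 3), (23, 7), (24, 4), (25, 3), (26, 5)],
    [(7, 7), (8, 1)],
    [(2, 2), (3, 2), (4, 3), (5, 3), (6, 6), (7, 6), (8, 4), (9, 3), (10, 4), (11, 4), (12, 7), (13, 3), (15, 1), (16, 6), (17, 7), (18, 1), (19, 6), (20, 4), (21, 4), (22, 6), (23, 4), (24, 2), (26, 2), (27, 5)],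
    [(1, 7), (2, 1), (3, 2), (4, 7), (5, 6), (9, 7), (10, 3), (11, 1), (12, 1), (16, 1)],
    [],
    [],
    [],
    [(1, 3), (2, 1), (3, 4), (4, 2), (5, 4), (6, 1), (8, 2), (10, 3), (11, 2), (13, 1), (16, 3), (17, 4), (18, 7), (19, 6), (20, 5)],
    [(0, 7), (1, 1), (2, 1), (3, 3), (4, 4), (5, 2), (6, 5), (7, 6), (8, 4), (9, 2), (10, 2), (11, 6), (12, 1), (13, 3), (15, 1), (16, 5), (17, 6), (18, 1), (19, 6), (20, 4), (21, 4), (22, 6), (23, 4), (24, 2), (26, 2), (27, 5)],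
    [(1, 1), (2, 1), (3, 2), (4, 6), (5, 6), (6, 7), (8, 6), (10, 3), (11, 1), (13, 1), (16, 1)],
    [(6, 7), (10, 7)],
    [],
    [],
    [],
    [],
    [(0, 2), (1, 1), (4, 6), (6, 4), (7, 1), (8, 5), (11, 7), (12, 3), (13, 7), (15, 2), (16, 7), (17, 3), (18, 6), (19, 3), (20, 1), (21, 7), (23, 2), (24, 4), (25, 2), (26, 5)],
    [(1, 7), (2, 1), (3, 1), (4, 7), (5, 7), (6, 1), (10, 2), (16, 1)],
    [(10, 7)],
    [],
    [],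
    [],
    [],
    [],
    [(0, 6), (1, 3), (2, 7), (3, 4), (4, 6), (5, 4), (6, 3), (7, 2), (8, 4), (10, 7), (11, 3), (12, 2), (13, 5), (16, 5), (18, 1)],
    [(6, 7), (10, 1), (13, 1)],
    [],
    [],
    [],
    [],
    [],
    [],
    [(1, 2), (6, 7), (8, 6), (10, 1), (11, 1)]]
  y2 := [[(1, 4), (7, 4), (11, 4), (12, 4), (13, 4), (16, 4), (17, 4), (19, 4), (20, 4), (26, 4)],
    [(0, 4), (2, 2), (3, 2), (5, 2), (6, 2), (8, 2), (9, 4), (10, 6), (11, 7), (12, 4), (13, 3), (14, 1), (16, 6), (17, 4), (18, 6), (20, 2), (21, 4), (25, 4), (26, 4), (28, 4)],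
    [(1, 4), (8, 4), (11, 4), (12, 4), (13, 4), (16, 4), (17, 4), (19, 4), (20, 4), (25, 4), (26, 4)],
    [(0, 4), (1, 4), (3, 4), (6, 4), (8, 4), (11, 4), (12, 4), (15, 4), (20, 4), (27, 4)],
    [(1, 4), (7, 4), (11, 4), (12, 4), (13, 4), (16, 4), (17, 4), (19, 4), (20, 4), (21, 4), (26, 4)],
    [(0, 4), (1, 4), (2, 4), (5, 4), (10, 4), (11, 4), (12, 4), (13, 4), (15, 4), (16, 4), (18, 4), (27, 4)],
    [(6, 4), (10, 4), (11, 4), (12, 4)],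
    [],
    [(0, 4), (1, 4), (4, 4), (5, 4), (8, 4), (9, 4), (11, 4), (12, 4), (17, 4), (19, 4), (21, 4), (25, 4), (26, 4), (28, 4)],
    [(0, 4), (1, 4), (2, 4), (5, 4), (6, 4), (8, 4), (9, 4), (11, 4), (13, 4), (15, 4), (16, 4), (19, 4), (21, 4), (23, 4), (25, 4), (28, 4)],
    [(2, 6), (3, 6), (5, 2), (6, 6), (7, 4), (8, 6), (9, 4), (10, 6), (11, 3), (12, 4), (13, 7), (14, 1), (16, 6), (18, 6), (19, 4), (20, 2), (23, 4), (27, 4), (28, 4)],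
    [(0, 4), (2, 2), (3, 6), (4, 4), (5, 2), (6, 6), (8, 2), (9, 4), (10, 6), (11, 3), (12, 4), (13, 7), (14, 1), (16, 6), (17, 4), (18, 6), (20, 2), (21, 4), (23, 4), (26, 4), (27, 4), (28, 4)],
    [(3, 4), (4, 4), (6, 4), (10, 4), (11, 4), (13, 4), (15, 4)],
    [(3, 4), (4, 4), (6, 4), (10, 4), (11, 4), (13, 4)],
    [],
    [],
    [],
    [(2, 6), (3, 2), (4, 4), (5, 2), (6, 2), (8, 2), (9, 4), (10, 6), (11, 7), (12, 4), (13, 3), (14, 1), (15, 4), (16, 2), (18, 6), (19, 4), (20, 2), (23, 4), (28, 4)],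
    [(7, 4), (8, 4)],
    [(4, 4), (5, 4), (9, 4), (12, 4), (13, 4), (15, 4), (17, 4), (18, 4), (27, 4)],
    [(1, 4), (2, 4), (4, 4), (9, 4), (10, 4), (11, 4), (12, 4), (16, 4)],
    [],
    [],
    [],
    [(1, 4), (2, 4), (6, 4), (10, 4), (13, 4), (16, 4), (18, 4), (20, 4)],
    [(0, 4), (1, 4), (2, 4), (3, 4), (6, 4), (12, 4), (13, 4), (15, 4), (16, 4), (18, 4), (27, 4)],
    [(1, 4), (2, 4), (6, 4), (10, 4), (11, 4), (13, 4), (16, 4)],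
    [(6, 4), (10, 4)],
    [],
    [],
    [],
    [],
    [(1, 4), (7, 4), (8, 4), (11, 4), (12, 4), (13, 4), (16, 4), (17, 4), (19, 4), (20, 4), (21, 4), (26, 4)],
    [(1, 4), (2, 4), (3, 4), (4, 4), (5, 4), (6, 4), (16, 4)],
    [(10, 4)],
    [],
    [],
    [],
    [],
    [],
    [(1, 4), (2, 4), (6, 4), (10, 4), (11, 4), (13, 4), (16, 4), (18, 4)],
    [(6, 4), (10, 4), (13, 4)],
    [],
    [],
    [],
    [],
    [],
    [],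
    [(6, 4), (10, 4), (11, 4)]]

theorem hC : C.check = true := by decide +kernel

def tx : ℕ → ℕ
  | 0 => N573
  | 1 => N564
  | 2 => N558
  | 3 => N469
  | 4 => N542
  | 5 => N483
  | 6 => N409
  | _ => 0

def tg : ℕ → ℕ
  | 0 => g2
  | 1 => N604
  | 2 => N724
  | _ => 0

theorem hx : ∀ a < C.D.n, Tabled KK 5 (tx a) := by
  intro a ha
  have ha' : a < 7 := ha
  interval_cases a
  · exact h573
  · exact h564
  · exact h558
  · exact h469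
  · exact h542
  · exact h483
  · exact h409

theorem hg : ∀ i < C.fus.length, Tabled KK 5 (tg i) := by
  intro a ha
  have ha' : a < 3 := ha
  interval_cases a
  · exact h2
  · exact h604
  · exact h724

theorem hpc : pcChk 24 5 C.D tx = true := by decide +kernel

theorem hfus : fusChk 24 5 C tx tg = true := by decide +kernel

theorem hinj : injChk 24 5 C.D tx [2, 3] = true := by decide +kernel

theorem lb : LocalBound KK 2 2 :=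
  Cfsg.Agent.Lib.Helper17PCTab.ub_tab KK C (by norm_num [C]) hC 5 tx tg [2, 3] hx hg hpc hfus hinj (by rw [cardK]; norm_num [C])

end Cfsg.Agent.Lib.Helper63MM22P2
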