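import Cfsg.Agent.Lib.Helper17PCTab
import Cfsg.Agent.Lib.Helper63MM22M

set_option autoImplicit false
set_option maxRecDepth 1000000
set_option maxHeartbeats 0

namespace Cfsg.Agent.Lib.Helper63MM22P3

open Cfsg Cfsg.Agent.Lib.Helper63PCDefs Cfsg.Agent.Lib.Helper63PCTabDefs Cfsg.Agent.Lib.Helper63MM22M


local notation "KK" => K22

theorem h0 : Tabled KK 5 g0 := tb0
theorem h1 : Tabled KK 5 g1 := tb1
theorem h2 : Tabled KK 5 g2 := tb2
def N3 : ℕ := 0xb89102da95938cb52471791b361c20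
theorem h3 : Tabled KK 5 N3 := Cfsg.Agent.Lib.Helper17PCTab.Tabled.mul h0 h0 (by decide +kernel)
def N4 : ℕ := 0xbc9f4508cd5b8a944c35844ecb0c80
theorem h4 : Tabled KK 5 N4 := Cfsg.Agent.Lib.Helper17PCTab.Tabled.mul h3 h2 (by decide +kernel)
def N5 : ℕ := 0xbae958c1e61b941b250d91d8598880
theorem h5 : Tabled KK 5 N5 := Cfsg.Agent.Lib.Helper17PCTab.Tabled.mul h4 h0 (by decide +kernel)
def N6 : ℕ := 0xb8e4fb2d4c0ba29a1486ab453820e0
theorem h6 : Tabled KK 5 N6 := Cfsg.Agent.Lib.Helper17PCTab.Tabled.mul h5 h2 (by decide +kernel)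
def N7 : ℕ := 0xb85e66d64a43ac48268c18a712ace0
theorem h7 : Tabled KK 5 N7 := Cfsg.Agent.Lib.Helper17PCTab.Tabled.mul h6 h0 (by decide +kernel)
def N8 : ℕ := 0xbaa7458df06c44433036916a84b8e0
theorem h8 : Tabled KK 5 N8 := Cfsg.Agent.Lib.Helper17PCTab.Tabled.mul h7 h1 (by decide +kernel)
def N9 : ℕ := 0xbc2a174a665a0a4a59427a46d644e0
theorem h9 : Tabled KK 5 N9 := Cfsg.Agent.Lib.Helper17PCTab.Tabled.mul h8 h1 (by decide +kernel)
def N10 : ℕ := 0xb986a8beb47352408a059b24bb20e0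
theorem h10 : Tabled KK 5 N10 := Cfsg.Agent.Lib.Helper17PCTab.Tabled.mul h9 h1 (by decide +kernel)
def N11 : ℕ := 0xbd25044c618ad84514c9ad9ee134e0
theorem h11 : Tabled KK 5 N11 := Cfsg.Agent.Lib.Helper17PCTab.Tabled.mul h10 h1 (by decide +kernel)
def N12 : ℕ := 0xbc609b56436ad0611141a3dcc2cce0
theorem h12 : Tabled KK 5 N12 := Cfsg.Agent.Lib.Helper17PCTab.Tabled.mul h11 h0 (by decide +kernel)
def N13 : ℕ := 0xbb5217d2129aeca298438b988254e0
theorem h13 : Tabled KK 5 N13 := Cfsg.Agent.Lib.Helper17PCTab.Tabled.mul h12 h0 (by decide +kernel)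
def N14 : ℕ := 0xbc982ac5257a1ca08db68129332ce0
theorem h14 : Tabled KK 5 N14 := Cfsg.Agent.Lib.Helper17PCTab.Tabled.mul h13 h1 (by decide +kernel)
def N15 : ℕ := 0xb968d5c181acc8a15a4e49a2f1a0e0
theorem h15 : Tabled KK 5 N15 := Cfsg.Agent.Lib.Helper17PCTab.Tabled.mul h14 h1 (by decide +kernel)
def N16 : ℕ := 0xb8632426825bcca6b8a460e15b4ce0
theorem h16 : Tabled KK 5 N16 := Cfsg.Agent.Lib.Helper17PCTab.Tabled.mul h15 h1 (by decide +kernel)
def N17 : ℕ := 0xbae441b2349bd05b29a20c2a6724e0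
theorem h17 : Tabled KK 5 N17 := Cfsg.Agent.Lib.Helper17PCTab.Tabled.mul h16 h0 (by decide +kernel)
def N18 : ℕ := 0xbcc31b2d152bc6a918f42092e63600
theorem h18 : Tabled KK 5 N18 := Cfsg.Agent.Lib.Helper17PCTab.Tabled.mul h17 h2 (by decide +kernel)
def N19 : ℕ := 0xb9634110286bec762a559a5c332e00
theorem h19 : Tabled KK 5 N19 := Cfsg.Agent.Lib.Helper17PCTab.Tabled.mul h18 h0 (by decide +kernel)
def N20 : ℕ := 0xba1d25ce2c10d27a54b60988d53e00
theorem h20 : Tabled KK 5 N20 := Cfsg.Agent.Lib.Helper17PCTab.Tabled.mul h19 h1 (by decide +kernel)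
def N21 : ℕ := 0xba14b952211549098db66192573ce0
theorem h21 : Tabled KK 5 N21 := Cfsg.Agent.Lib.Helper17PCTab.Tabled.inv h20 (by decide +kernel)
def N22 : ℕ := 0xb94414d0f558d0a8c1f36cacc238c0
theorem h22 : Tabled KK 5 N22 := Cfsg.Agent.Lib.Helper17PCTab.Tabled.mul h2 h1 (by decide +kernel)
def N23 : ℕ := 0xbac339344770d2f22a352d988850c0
theorem h23 : Tabled KK 5 N23 := Cfsg.Agent.Lib.Helper17PCTab.Tabled.mul h22 h0 (by decide +kernel)
def N24 : ℕ := 0xb9d91a1424922cf9d569141ae50cc0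
theorem h24 : Tabled KK 5 N24 := Cfsg.Agent.Lib.Helper17PCTab.Tabled.mul h23 h1 (by decide +kernel)
def N25 : ℕ := 0xbc84199ecd7a295638c48a46a2ae00
theorem h25 : Tabled KK 5 N25 := Cfsg.Agent.Lib.Helper17PCTab.Tabled.mul h24 h2 (by decide +kernel)
def N26 : ℕ := 0xbbe3664a83aa26e12a0d0916539920
theorem h26 : Tabled KK 5 N26 := Cfsg.Agent.Lib.Helper17PCTab.Tabled.mul h25 h2 (by decide +kernel)
def N27 : ℕ := 0xbd43413e6b7218a89523b34c794080
theorem h27 : Tabled KK 5 N27 := Cfsg.Agent.Lib.Helper17PCTab.Tabled.mul h26 h2 (by decide +kernel)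
def N32 : ℕ := 0xbba836d8338204992a2ba98ec2bc80
theorem h32 : Tabled KK 5 N32 := Cfsg.Agent.Lib.Helper17PCTab.Tabled.mul h27 h0 (by decide +kernel)
def N33 : ℕ := 0xbc2a1938474a1aaa30931ade5b44c0
theorem h33 : Tabled KK 5 N33 := Cfsg.Agent.Lib.Helper17PCTab.Tabled.mul h32 h2 (by decide +kernel)
def N34 : ℕ := 0xb9de488eb49156a0ce0d159c9620c0
theorem h34 : Tabled KK 5 N34 := Cfsg.Agent.Lib.Helper17PCTab.Tabled.mul h33 h1 (by decide +kernel)
def N35 : ℕ := 0xbc88db09f541630628343b92b98cc0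
theorem h35 : Tabled KK 5 N35 := Cfsg.Agent.Lib.Helper17PCTab.Tabled.mul h34 h0 (by decide +kernel)
def N36 : ℕ := 0xbd52119c8cb2dd06d2517cc48514c0
theorem h36 : Tabled KK 5 N36 := Cfsg.Agent.Lib.Helper17PCTab.Tabled.mul h35 h1 (by decide +kernel)
def N37 : ℕ := 0xba9a7730b044ea122e91149f61a4c0
theorem h37 : Tabled KK 5 N37 := Cfsg.Agent.Lib.Helper17PCTab.Tabled.mul h21 h36 (by decide +kernel)
def N38 : ℕ := 0xbcd2d1c4b5710565328b849e641c20
theorem h38 : Tabled KK 5 N38 := Cfsg.Agent.Lib.Helper17PCTab.Tabled.mul h1 h0 (by decide +kernel)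
def N39 : ℕ := 0xbb9ab9412539074459559bcc264420
theorem h39 : Tabled KK 5 N39 := Cfsg.Agent.Lib.Helper17PCTab.Tabled.mul h38 h0 (by decide +kernel)
def N40 : ℕ := 0xb9e6943866a1256688255d62c829e0
theorem h40 : Tabled KK 5 N40 := Cfsg.Agent.Lib.Helper17PCTab.Tabled.mul h39 h2 (by decide +kernel)
def N41 : ℕ := 0xb9a2152e6d432b6494f21c1d4111e0
theorem h41 : Tabled KK 5 N41 := Cfsg.Agent.Lib.Helper17PCTab.Tabled.mul h40 h1 (by decide +kernel)
def N42 : ℕ := 0xba03280e33231471592d33a952ade0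
theorem h42 : Tabled KK 5 N42 := Cfsg.Agent.Lib.Helper17PCTab.Tabled.mul h41 h0 (by decide +kernel)
def N43 : ℕ := 0xb90d1121543b2160d5f3935651a5c0
theorem h43 : Tabled KK 5 N43 := Cfsg.Agent.Lib.Helper17PCTab.Tabled.mul h42 h2 (by decide +kernel)
def N44 : ℕ := 0xb9e4a0920bb3055315d48cd2343da0
theorem h44 : Tabled KK 5 N44 := Cfsg.Agent.Lib.Helper17PCTab.Tabled.mul h43 h2 (by decide +kernel)
def N45 : ℕ := 0xbd9549c6507b02e454cb3a462291a0
theorem h45 : Tabled KK 5 N45 := Cfsg.Agent.Lib.Helper17PCTab.Tabled.mul h44 h0 (by decide +kernel)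
def N46 : ℕ := 0xbbe8b49d52232662b910b0c41ac5a0
theorem h46 : Tabled KK 5 N46 := Cfsg.Agent.Lib.Helper17PCTab.Tabled.mul h45 h0 (by decide +kernel)
def N47 : ℕ := 0xb91701da8a8b128a98b27883371da0
theorem h47 : Tabled KK 5 N47 := Cfsg.Agent.Lib.Helper17PCTab.Tabled.mul h46 h0 (by decide +kernel)
def N48 : ℕ := 0xbc61213d743b065722aa20669359a0
theorem h48 : Tabled KK 5 N48 := Cfsg.Agent.Lib.Helper17PCTab.Tabled.mul h47 h0 (by decide +kernel)
def N49 : ℕ := 0xbd275b120e1242592a23599e7431a0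
theorem h49 : Tabled KK 5 N49 := Cfsg.Agent.Lib.Helper17PCTab.Tabled.mul h48 h1 (by decide +kernel)
def N50 : ℕ := 0xbb9f162e72b1cc5a8e8182082525a0
theorem h50 : Tabled KK 5 N50 := Cfsg.Agent.Lib.Helper17PCTab.Tabled.mul h49 h1 (by decide +kernel)
def N51 : ℕ := 0xbda21441f349d94516b2710461ada0
theorem h51 : Tabled KK 5 N51 := Cfsg.Agent.Lib.Helper17PCTab.Tabled.mul h50 h0 (by decide +kernel)
def N52 : ℕ := 0xba5cf55982a1d05899b30c96385480
theorem h52 : Tabled KK 5 N52 := Cfsg.Agent.Lib.Helper17PCTab.Tabled.mul h51 h2 (by decide +kernel)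
def N53 : ℕ := 0xbd02c8a50b29d4670c827ceb0b3640
theorem h53 : Tabled KK 5 N53 := Cfsg.Agent.Lib.Helper17PCTab.Tabled.mul h52 h2 (by decide +kernel)
def N54 : ℕ := 0xb95e87515531e230c24b609b649260
theorem h54 : Tabled KK 5 N54 := Cfsg.Agent.Lib.Helper17PCTab.Tabled.mul h53 h2 (by decide +kernel)
def N55 : ℕ := 0xbd5b2231e17584342cb15268681e60
theorem h55 : Tabled KK 5 N55 := Cfsg.Agent.Lib.Helper17PCTab.Tabled.mul h54 h1 (by decide +kernel)
def N56 : ℕ := 0xbba514a9af3d88580d01ad0c25b260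
theorem h56 : Tabled KK 5 N56 := Cfsg.Agent.Lib.Helper17PCTab.Tabled.mul h55 h0 (by decide +kernel)
def N57 : ℕ := 0xb9e21a564d659285960f718441aa60
theorem h57 : Tabled KK 5 N57 := Cfsg.Agent.Lib.Helper17PCTab.Tabled.mul h56 h0 (by decide +kernel)
def N58 : ℕ := 0xbb02f33a3255a901a16d388892d660
theorem h58 : Tabled KK 5 N58 := Cfsg.Agent.Lib.Helper17PCTab.Tabled.mul h57 h0 (by decide +kernel)
def N59 : ℕ := 0xba8f11b284858c80a6727b6a572c40
theorem h59 : Tabled KK 5 N59 := Cfsg.Agent.Lib.Helper17PCTab.Tabled.mul h58 h2 (by decide +kernel)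
def N60 : ℕ := 0xbc1f40a8d545869394448c96e64da0
theorem h60 : Tabled KK 5 N60 := Cfsg.Agent.Lib.Helper17PCTab.Tabled.mul h59 h2 (by decide +kernel)
def N61 : ℕ := 0xba284945e69d822624f582dc32a9a0
theorem h61 : Tabled KK 5 N61 := Cfsg.Agent.Lib.Helper17PCTab.Tabled.mul h60 h0 (by decide +kernel)
def N62 : ℕ := 0xb99c75428c90d6225501796334d9a0
theorem h62 : Tabled KK 5 N62 := Cfsg.Agent.Lib.Helper17PCTab.Tabled.mul h61 h1 (by decide +kernel)
def N63 : ℕ := 0xbc9f42197110d5574dac386c9820a0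
theorem h63 : Tabled KK 5 N63 := Cfsg.Agent.Lib.Helper17PCTab.Tabled.mul h62 h2 (by decide +kernel)
def N64 : ℕ := 0xb88eb74956a8c937a4b1a311033420
theorem h64 : Tabled KK 5 N64 := Cfsg.Agent.Lib.Helper17PCTab.Tabled.mul h63 h2 (by decide +kernel)
def N65 : ℕ := 0xbd68a7888898dc93c0365c5a691580
theorem h65 : Tabled KK 5 N65 := Cfsg.Agent.Lib.Helper17PCTab.Tabled.mul h64 h2 (by decide +kernel)
def N66 : ℕ := 0xbcd643d5cd48df0a1988558b210620
theorem h66 : Tabled KK 5 N66 := Cfsg.Agent.Lib.Helper17PCTab.Tabled.mul h65 h2 (by decide +kernel)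
def N67 : ℕ := 0xb9a4bb102c6c609a9de89a8b470c40
theorem h67 : Tabled KK 5 N67 := Cfsg.Agent.Lib.Helper17PCTab.Tabled.inv h66 (by decide +kernel)
def N68 : ℕ := 0xbb28dabe625396438cc58c132b0500
theorem h68 : Tabled KK 5 N68 := Cfsg.Agent.Lib.Helper17PCTab.Tabled.mul h2 h2 (by decide +kernel)
def N69 : ℕ := 0xb89260c687aca046958b9d9ea1b900
theorem h69 : Tabled KK 5 N69 := Cfsg.Agent.Lib.Helper17PCTab.Tabled.mul h68 h1 (by decide +kernel)
def N70 : ℕ := 0xb9dec74d2d0aac432c50a0e352c900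
theorem h70 : Tabled KK 5 N70 := Cfsg.Agent.Lib.Helper17PCTab.Tabled.mul h69 h1 (by decide +kernel)
def N71 : ℕ := 0xb868931ed1229cb7d50d6424598860
theorem h71 : Tabled KK 5 N71 := Cfsg.Agent.Lib.Helper17PCTab.Tabled.mul h70 h2 (by decide +kernel)
def N72 : ℕ := 0xbc6481328f3160b4b42eb4ce4aa860
theorem h72 : Tabled KK 5 N72 := Cfsg.Agent.Lib.Helper17PCTab.Tabled.mul h71 h1 (by decide +kernel)
def N73 : ℕ := 0xbbce155a491126b43a30a558669460
theorem h73 : Tabled KK 5 N73 := Cfsg.Agent.Lib.Helper17PCTab.Tabled.mul h72 h1 (by decide +kernel)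
def N74 : ℕ := 0xba5912d0e851aab0c1f3936c271060
theorem h74 : Tabled KK 5 N74 := Cfsg.Agent.Lib.Helper17PCTab.Tabled.mul h73 h1 (by decide +kernel)
def N75 : ℕ := 0xbaa336c987218af72c284d85585060
theorem h75 : Tabled KK 5 N75 := Cfsg.Agent.Lib.Helper17PCTab.Tabled.mul h74 h0 (by decide +kernel)
def N76 : ℕ := 0xb912c728a2799ab8d4679a290906c0
theorem h76 : Tabled KK 5 N76 := Cfsg.Agent.Lib.Helper17PCTab.Tabled.mul h75 h2 (by decide +kernel)
def N77 : ℕ := 0xbbe65891b4599d54c2c261c3250d00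
theorem h77 : Tabled KK 5 N77 := Cfsg.Agent.Lib.Helper17PCTab.Tabled.mul h76 h2 (by decide +kernel)
def N78 : ℕ := 0xbaca23b26d19a36555347864e81100
theorem h78 : Tabled KK 5 N78 := Cfsg.Agent.Lib.Helper17PCTab.Tabled.mul h77 h0 (by decide +kernel)
def N79 : ℕ := 0xb8c540bcb3218e98594d5c9d1ab100
theorem h79 : Tabled KK 5 N79 := Cfsg.Agent.Lib.Helper17PCTab.Tabled.mul h78 h0 (by decide +kernel)
def N80 : ℕ := 0xb916580cee4983614513a35957aa40
theorem h80 : Tabled KK 5 N80 := Cfsg.Agent.Lib.Helper17PCTab.Tabled.mul h79 h2 (by decide +kernel)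
def N81 : ℕ := 0xba6871102cb1a115d64e2cd4f1a1a0
theorem h81 : Tabled KK 5 N81 := Cfsg.Agent.Lib.Helper17PCTab.Tabled.mul h80 h2 (by decide +kernel)
def N82 : ℕ := 0xbb1524168b13e713b93008c96a99a0
theorem h82 : Tabled KK 5 N82 := Cfsg.Agent.Lib.Helper17PCTab.Tabled.mul h81 h1 (by decide +kernel)
def N83 : ℕ := 0xb8a501855433d09ac4eb612d3715a0
theorem h83 : Tabled KK 5 N83 := Cfsg.Agent.Lib.Helper17PCTab.Tabled.mul h82 h0 (by decide +kernel)
def N87 : ℕ := 0xbd2c72b2551cc8982c48538268bda0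
theorem h87 : Tabled KK 5 N87 := Cfsg.Agent.Lib.Helper17PCTab.Tabled.mul h83 h1 (by decide +kernel)
def N88 : ℕ := 0xb8ce872ad27cca28a615a04c45b1a0
theorem h88 : Tabled KK 5 N88 := Cfsg.Agent.Lib.Helper17PCTab.Tabled.mul h87 h0 (by decide +kernel)
def N89 : ℕ := 0xbbe9688ca614dc9391b24558b54020
theorem h89 : Tabled KK 5 N89 := Cfsg.Agent.Lib.Helper17PCTab.Tabled.mul h88 h2 (by decide +kernel)
def N90 : ℕ := 0xb998d822878aea9b49ee2a86224c20
theorem h90 : Tabled KK 5 N90 := Cfsg.Agent.Lib.Helper17PCTab.Tabled.mul h89 h1 (by decide +kernel)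
def N91 : ℕ := 0xb9c6f99596809496b8d5a111192c20
theorem h91 : Tabled KK 5 N91 := Cfsg.Agent.Lib.Helper17PCTab.Tabled.mul h90 h1 (by decide +kernel)
def N92 : ℕ := 0xbc28c69d4848a6e1c4367d57229880
theorem h92 : Tabled KK 5 N92 := Cfsg.Agent.Lib.Helper17PCTab.Tabled.mul h91 h2 (by decide +kernel)
def N93 : ℕ := 0xba5ea1c26b709b1a4888658c5386a0
theorem h93 : Tabled KK 5 N93 := Cfsg.Agent.Lib.Helper17PCTab.Tabled.mul h92 h2 (by decide +kernel)
def N94 : ℕ := 0xbbda7732d588e01592884994598a40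
theorem h94 : Tabled KK 5 N94 := Cfsg.Agent.Lib.Helper17PCTab.Tabled.mul h67 h93 (by decide +kernel)
def N95 : ℕ := 0xbca29809811a28b53e643b5d6a94c0
theorem h95 : Tabled KK 5 N95 := Cfsg.Agent.Lib.Helper17PCTab.Tabled.mul h24 h0 (by decide +kernel)
def N96 : ℕ := 0xb8d2469e2c2a213aad4193ad4788c0
theorem h96 : Tabled KK 5 N96 := Cfsg.Agent.Lib.Helper17PCTab.Tabled.mul h95 h0 (by decide +kernel)
def N97 : ℕ := 0xb9651a8e169a1ab4d0cc2044f3a9c0
theorem h97 : Tabled KK 5 N97 := Cfsg.Agent.Lib.Helper17PCTab.Tabled.mul h96 h2 (by decide +kernel)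
def N98 : ℕ := 0xbce2c09250522a63ad36289eda0dc0
theorem h98 : Tabled KK 5 N98 := Cfsg.Agent.Lib.Helper17PCTab.Tabled.mul h97 h0 (by decide +kernel)
def N99 : ℕ := 0xbc1e9196270b44665a759508a5a1c0
theorem h99 : Tabled KK 5 N99 := Cfsg.Agent.Lib.Helper17PCTab.Tabled.mul h98 h1 (by decide +kernel)
def N100 : ℕ := 0xb865164044334767a9c74d50b2ce80
theorem h100 : Tabled KK 5 N100 := Cfsg.Agent.Lib.Helper17PCTab.Tabled.mul h99 h2 (by decide +kernel)
def N101 : ℕ := 0xb9a27aa6429b58e2d9e40a16354280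
theorem h101 : Tabled KK 5 N101 := Cfsg.Agent.Lib.Helper17PCTab.Tabled.mul h100 h0 (by decide +kernel)
def N102 : ℕ := 0xb896f80625a8d0e390cc92933b3680
theorem h102 : Tabled KK 5 N102 := Cfsg.Agent.Lib.Helper17PCTab.Tabled.mul h101 h1 (by decide +kernel)
def N103 : ℕ := 0xbd6513890970e045ce857b1b609940
theorem h103 : Tabled KK 5 N103 := Cfsg.Agent.Lib.Helper17PCTab.Tabled.mul h102 h2 (by decide +kernel)
def N104 : ℕ := 0xba5b433e4b3d984896b04044e98d40
theorem h104 : Tabled KK 5 N104 := Cfsg.Agent.Lib.Helper17PCTab.Tabled.mul h103 h1 (by decide +kernel)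
def N105 : ℕ := 0xb9e900a1b21d8d59922b489cc2bd40
theorem h105 : Tabled KK 5 N105 := Cfsg.Agent.Lib.Helper17PCTab.Tabled.mul h104 h0 (by decide +kernel)
def N106 : ℕ := 0xb8d2d99ccead824a315282de544440
theorem h106 : Tabled KK 5 N106 := Cfsg.Agent.Lib.Helper17PCTab.Tabled.mul h105 h2 (by decide +kernel)
def N107 : ℕ := 0xbd606a0c2f25a6c4944e6ca283a960
theorem h107 : Tabled KK 5 N107 := Cfsg.Agent.Lib.Helper17PCTab.Tabled.mul h106 h2 (by decide +kernel)
def N108 : ℕ := 0xbbe2253609a224c33ab309c642d960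
theorem h108 : Tabled KK 5 N108 := Cfsg.Agent.Lib.Helper17PCTab.Tabled.mul h107 h1 (by decide +kernel)
def N109 : ℕ := 0xbd05338630b21552b0c978c9273560
theorem h109 : Tabled KK 5 N109 := Cfsg.Agent.Lib.Helper17PCTab.Tabled.mul h108 h0 (by decide +kernel)
def N110 : ℕ := 0xbc0866bc453c8759a68a8b83662160
theorem h110 : Tabled KK 5 N110 := Cfsg.Agent.Lib.Helper17PCTab.Tabled.mul h109 h1 (by decide +kernel)
def N111 : ℕ := 0xb9434444936d9d532a03131e74c960
theorem h111 : Tabled KK 5 N111 := Cfsg.Agent.Lib.Helper17PCTab.Tabled.mul h110 h1 (by decide +kernel)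
def N112 : ℕ := 0xbb68360824959104d4d32bcee54560
theorem h112 : Tabled KK 5 N112 := Cfsg.Agent.Lib.Helper17PCTab.Tabled.mul h111 h0 (by decide +kernel)
def N113 : ℕ := 0xb90e689689639f01cda80a852ad960
theorem h113 : Tabled KK 5 N113 := Cfsg.Agent.Lib.Helper17PCTab.Tabled.mul h112 h1 (by decide +kernel)
def N114 : ℕ := 0xbb0c8504f4b3a2dac06920a4f99560
theorem h114 : Tabled KK 5 N114 := Cfsg.Agent.Lib.Helper17PCTab.Tabled.mul h113 h0 (by decide +kernel)
def N115 : ℕ := 0xbd243290d553c4d425913cc3683960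
theorem h115 : Tabled KK 5 N115 := Cfsg.Agent.Lib.Helper17PCTab.Tabled.mul h114 h1 (by decide +kernel)
def N116 : ℕ := 0xba87199e4673cac83515a06c249160
theorem h116 : Tabled KK 5 N116 := Cfsg.Agent.Lib.Helper17PCTab.Tabled.mul h115 h0 (by decide +kernel)
def N117 : ℕ := 0xbba92828b663e6d189668d4893a020
theorem h117 : Tabled KK 5 N117 := Cfsg.Agent.Lib.Helper17PCTab.Tabled.mul h116 h2 (by decide +kernel)
def N118 : ℕ := 0xbd88b44683826ad919d329d4c13c20
theorem h118 : Tabled KK 5 N118 := Cfsg.Agent.Lib.Helper17PCTab.Tabled.mul h117 h1 (by decide +kernel)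
def N119 : ℕ := 0xb8d4e79492430ed5ced5a0a3032420
theorem h119 : Tabled KK 5 N119 := Cfsg.Agent.Lib.Helper17PCTab.Tabled.mul h118 h1 (by decide +kernel)
def N120 : ℕ := 0xba28458cf16b1f354032755262d840
theorem h120 : Tabled KK 5 N120 := Cfsg.Agent.Lib.Helper17PCTab.Tabled.mul h119 h2 (by decide +kernel)
def N121 : ℕ := 0xb88d56220a69dee9acb68907490520
theorem h121 : Tabled KK 5 N121 := Cfsg.Agent.Lib.Helper17PCTab.Tabled.inv h120 (by decide +kernel)
def N122 : ℕ := 0xbb230450ed4b96192aa578873258c0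
theorem h122 : Tabled KK 5 N122 := Cfsg.Agent.Lib.Helper17PCTab.Tabled.mul h2 h0 (by decide +kernel)
def N123 : ℕ := 0xba5e7931630b90a8cccd816c4a5440
theorem h123 : Tabled KK 5 N123 := Cfsg.Agent.Lib.Helper17PCTab.Tabled.mul h122 h2 (by decide +kernel)
def N124 : ℕ := 0xb84ed2c1ebaba46a2a234d8889b040
theorem h124 : Tabled KK 5 N124 := Cfsg.Agent.Lib.Helper17PCTab.Tabled.mul h123 h0 (by decide +kernel)
def N125 : ℕ := 0xbd5a3b24ef638b199a8b0911254040
theorem h125 : Tabled KK 5 N125 := Cfsg.Agent.Lib.Helper17PCTab.Tabled.mul h124 h0 (by decide +kernel)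
def N126 : ℕ := 0xbb0279d4a88bac66c84f1ae0a4d080
theorem h126 : Tabled KK 5 N126 := Cfsg.Agent.Lib.Helper17PCTab.Tabled.mul h125 h2 (by decide +kernel)
def N127 : ℕ := 0xbc4656b2d033a720a8883be89a8960
theorem h127 : Tabled KK 5 N127 := Cfsg.Agent.Lib.Helper17PCTab.Tabled.mul h126 h2 (by decide +kernel)
def N128 : ℕ := 0xbc28411c616a5f22a233b558653960
theorem h128 : Tabled KK 5 N128 := Cfsg.Agent.Lib.Helper17PCTab.Tabled.mul h127 h1 (by decide +kernel)
def N129 : ℕ := 0xb859175a8511ab224e0f1a8ed42560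
theorem h129 : Tabled KK 5 N129 := Cfsg.Agent.Lib.Helper17PCTab.Tabled.mul h128 h1 (by decide +kernel)
def N130 : ℕ := 0xb8a2f50d94499d04488509db59d960
theorem h130 : Tabled KK 5 N130 := Cfsg.Agent.Lib.Helper17PCTab.Tabled.mul h129 h0 (by decide +kernel)
def N131 : ℕ := 0xbd1a4b0628554f07944e64c6991960
theorem h131 : Tabled KK 5 N131 := Cfsg.Agent.Lib.Helper17PCTab.Tabled.mul h130 h1 (by decide +kernel)
def N132 : ℕ := 0xba9917d0e3856c56a568238d208a60
theorem h132 : Tabled KK 5 N132 := Cfsg.Agent.Lib.Helper17PCTab.Tabled.mul h131 h2 (by decide +kernel)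
def N133 : ℕ := 0xbc22871187155eb095a351a564d260
theorem h133 : Tabled KK 5 N133 := Cfsg.Agent.Lib.Helper17PCTab.Tabled.mul h132 h0 (by decide +kernel)
def N134 : ℕ := 0xb890332a2ca55cd4ac2784acf29260
theorem h134 : Tabled KK 5 N134 := Cfsg.Agent.Lib.Helper17PCTab.Tabled.mul h133 h0 (by decide +kernel)
def N135 : ℕ := 0xbb2c12410933e4d19c4e895545d660
theorem h135 : Tabled KK 5 N135 := Cfsg.Agent.Lib.Helper17PCTab.Tabled.mul h134 h1 (by decide +kernel)
def N136 : ℕ := 0xb9a281b24a6bc87b52690baab808a0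
theorem h136 : Tabled KK 5 N136 := Cfsg.Agent.Lib.Helper17PCTab.Tabled.mul h135 h2 (by decide +kernel)
def N137 : ℕ := 0xbb432b18953bc748acaa4245064dc0
theorem h137 : Tabled KK 5 N137 := Cfsg.Agent.Lib.Helper17PCTab.Tabled.mul h136 h2 (by decide +kernel)
def N138 : ℕ := 0xb9d048b462a3ecb0c1d592a6c31520
theorem h138 : Tabled KK 5 N138 := Cfsg.Agent.Lib.Helper17PCTab.Tabled.mul h137 h2 (by decide +kernel)
def N139 : ℕ := 0xb8a6e2c9018b14b254f6199b483d20
theorem h139 : Tabled KK 5 N139 := Cfsg.Agent.Lib.Helper17PCTab.Tabled.mul h138 h1 (by decide +kernel)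
def N140 : ℕ := 0xbc4682094d5b0b59d121759f091cc0
theorem h140 : Tabled KK 5 N140 := Cfsg.Agent.Lib.Helper17PCTab.Tabled.mul h139 h2 (by decide +kernel)
def N141 : ℕ := 0xbad01b386a3b0899566d8be05a08c0
theorem h141 : Tabled KK 5 N141 := Cfsg.Agent.Lib.Helper17PCTab.Tabled.mul h140 h0 (by decide +kernel)
def N142 : ℕ := 0xb9e2392c904b2d5414ca0b45474de0
theorem h142 : Tabled KK 5 N142 := Cfsg.Agent.Lib.Helper17PCTab.Tabled.mul h141 h2 (by decide +kernel)
def N143 : ℕ := 0xbc04698628951b51a8f6239692b1e0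
theorem h143 : Tabled KK 5 N143 := Cfsg.Agent.Lib.Helper17PCTab.Tabled.mul h142 h1 (by decide +kernel)
def N144 : ℕ := 0xbc8911c1abad26a125e83598509dc0
theorem h144 : Tabled KK 5 N144 := Cfsg.Agent.Lib.Helper17PCTab.Tabled.mul h143 h2 (by decide +kernel)
def N145 : ℕ := 0xbad8f39882196ca8a253686154d1c0
theorem h145 : Tabled KK 5 N145 := Cfsg.Agent.Lib.Helper17PCTab.Tabled.mul h144 h1 (by decide +kernel)
def N146 : ℕ := 0xb8da48aed0514e8655c27ce8934820
theorem h146 : Tabled KK 5 N146 := Cfsg.Agent.Lib.Helper17PCTab.Tabled.mul h145 h2 (by decide +kernel)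
def N147 : ℕ := 0xba9f660cf4416356a43020a465ba60
theorem h147 : Tabled KK 5 N147 := Cfsg.Agent.Lib.Helper17PCTab.Tabled.mul h146 h2 (by decide +kernel)
def N148 : ℕ := 0xbada274a35b0e067952aa050499d80
theorem h148 : Tabled KK 5 N148 := Cfsg.Agent.Lib.Helper17PCTab.Tabled.mul h121 h147 (by decide +kernel)
def N149 : ℕ := 0xbce35a40d2610482bc2b4b5ca3d860
theorem h149 : Tabled KK 5 N149 := Cfsg.Agent.Lib.Helper17PCTab.Tabled.mul h1 h2 (by decide +kernel)
def N150 : ℕ := 0xbb2ab6a626b12813a0b29b9427c060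
theorem h150 : Tabled KK 5 N150 := Cfsg.Agent.Lib.Helper17PCTab.Tabled.mul h149 h0 (by decide +kernel)
def N151 : ℕ := 0xbda713b28a091a8a88665ca0f495c0
theorem h151 : Tabled KK 5 N151 := Cfsg.Agent.Lib.Helper17PCTab.Tabled.mul h150 h2 (by decide +kernel)
def N152 : ℕ := 0xb8574ad9b0410e29bdca898a960e40
theorem h152 : Tabled KK 5 N152 := Cfsg.Agent.Lib.Helper17PCTab.Tabled.mul h151 h2 (by decide +kernel)
def N153 : ℕ := 0xbc0ae1c573aa4c2a28276b2c879240
theorem h153 : Tabled KK 5 N153 := Cfsg.Agent.Lib.Helper17PCTab.Tabled.mul h152 h1 (by decide +kernel)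
def N154 : ℕ := 0xbcec1234b41a18271e065be3552640
theorem h154 : Tabled KK 5 N154 := Cfsg.Agent.Lib.Helper17PCTab.Tabled.mul h153 h1 (by decide +kernel)
def N155 : ℕ := 0xb8d6574d9112087b56540992a6c1e0
theorem h155 : Tabled KK 5 N155 := Cfsg.Agent.Lib.Helper17PCTab.Tabled.mul h154 h2 (by decide +kernel)
def N156 : ℕ := 0xb88b43056c821d269ed11a544acde0
theorem h156 : Tabled KK 5 N156 := Cfsg.Agent.Lib.Helper17PCTab.Tabled.mul h155 h0 (by decide +kernel)
def N157 : ℕ := 0xbc06b689ca920c7291eca46750d920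
theorem h157 : Tabled KK 5 N157 := Cfsg.Agent.Lib.Helper17PCTab.Tabled.mul h156 h2 (by decide +kernel)
def N158 : ℕ := 0xbaa6fb50656d6275b2067045222120
theorem h158 : Tabled KK 5 N158 := Cfsg.Agent.Lib.Helper17PCTab.Tabled.mul h157 h1 (by decide +kernel)
def N159 : ℕ := 0xbb5c35aa223d6cc9c92579904a4020
theorem h159 : Tabled KK 5 N159 := Cfsg.Agent.Lib.Helper17PCTab.Tabled.mul h158 h2 (by decide +kernel)
def N160 : ℕ := 0xb890983dd3590cc195b68d14795420
theorem h160 : Tabled KK 5 N160 := Cfsg.Agent.Lib.Helper17PCTab.Tabled.mul h159 h1 (by decide +kernel)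
def N161 : ℕ := 0xbae2e188ca6120541c334dab27b680
theorem h161 : Tabled KK 5 N161 := Cfsg.Agent.Lib.Helper17PCTab.Tabled.mul h160 h2 (by decide +kernel)
def N162 : ℕ := 0xbb12642e15290678ca8a74daf106c0
theorem h162 : Tabled KK 5 N162 := Cfsg.Agent.Lib.Helper17PCTab.Tabled.mul h161 h2 (by decide +kernel)
def N163 : ℕ := 0xb94ca9b9300911411e35635e392ec0
theorem h163 : Tabled KK 5 N163 := Cfsg.Agent.Lib.Helper17PCTab.Tabled.mul h162 h0 (by decide +kernel)
def N164 : ℕ := 0xb85891150fa126730ed055572745a0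
theorem h164 : Tabled KK 5 N164 := Cfsg.Agent.Lib.Helper17PCTab.Tabled.mul h163 h2 (by decide +kernel)
def N165 : ℕ := 0xbd1483066b39043649af4c22e2daa0
theorem h165 : Tabled KK 5 N165 := Cfsg.Agent.Lib.Helper17PCTab.Tabled.mul h164 h2 (by decide +kernel)
def N166 : ℕ := 0xbae2db254c33a0343e8299427912a0
theorem h166 : Tabled KK 5 N166 := Cfsg.Agent.Lib.Helper17PCTab.Tabled.mul h165 h1 (by decide +kernel)
def N167 : ℕ := 0xb9a6a42e011bacf89eac688924d0a0
theorem h167 : Tabled KK 5 N167 := Cfsg.Agent.Lib.Helper17PCTab.Tabled.mul h166 h2 (by decide +kernel)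
def N168 : ℕ := 0xb8db089ac47b9079c8a1532895d440
theorem h168 : Tabled KK 5 N168 := Cfsg.Agent.Lib.Helper17PCTab.Tabled.mul h167 h2 (by decide +kernel)
def N169 : ℕ := 0xbbd5698d143ba326a444806ab31580
theorem h169 : Tabled KK 5 N169 := Cfsg.Agent.Lib.Helper17PCTab.Tabled.mul h168 h2 (by decide +kernel)
def N170 : ℕ := 0xb9ec40c1482ba62349b47d57148d80
theorem h170 : Tabled KK 5 N170 := Cfsg.Agent.Lib.Helper17PCTab.Tabled.mul h169 h0 (by decide +kernel)
def N171 : ℕ := 0xba16d1bec60c6a2250f35260593980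
theorem h171 : Tabled KK 5 N171 := Cfsg.Agent.Lib.Helper17PCTab.Tabled.mul h170 h1 (by decide +kernel)
def N172 : ℕ := 0xbc5aa40dc590a81a9cd64c08b9b1e0
theorem h172 : Tabled KK 5 N172 := Cfsg.Agent.Lib.Helper17PCTab.Tabled.inv h171 (by decide +kernel)
def N173 : ℕ := 0xbc48b95a83334a9441f3aa8e263820
theorem h173 : Tabled KK 5 N173 := Cfsg.Agent.Lib.Helper17PCTab.Tabled.mul h0 h1 (by decide +kernel)
def N174 : ℕ := 0xb8cef75488909495ce25a32c683420
theorem h174 : Tabled KK 5 N174 := Cfsg.Agent.Lib.Helper17PCTab.Tabled.mul h173 h1 (by decide +kernel)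
def N175 : ℕ := 0xba2d16d0eb719897946a242b298820
theorem h175 : Tabled KK 5 N175 := Cfsg.Agent.Lib.Helper17PCTab.Tabled.mul h174 h1 (by decide +kernel)
def N176 : ℕ := 0xbb8877a195499a5b482b8a853a0e00
theorem h176 : Tabled KK 5 N176 := Cfsg.Agent.Lib.Helper17PCTab.Tabled.mul h175 h2 (by decide +kernel)
def N177 : ℕ := 0xba4eb5448c199e1a16d570a6d92200
theorem h177 : Tabled KK 5 N177 := Cfsg.Agent.Lib.Helper17PCTab.Tabled.mul h176 h0 (by decide +kernel)
def N178 : ℕ := 0xbb276438f4534415d52f24a2329a00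
theorem h178 : Tabled KK 5 N178 := Cfsg.Agent.Lib.Helper17PCTab.Tabled.mul h177 h1 (by decide +kernel)
def N179 : ℕ := 0xba8875b0510b51598e14b3cc572640
theorem h179 : Tabled KK 5 N179 := Cfsg.Agent.Lib.Helper17PCTab.Tabled.mul h178 h2 (by decide +kernel)
def N180 : ℕ := 0xb86c29a906ab563216513d12e641e0
theorem h180 : Tabled KK 5 N180 := Cfsg.Agent.Lib.Helper17PCTab.Tabled.mul h179 h2 (by decide +kernel)
def N181 : ℕ := 0xbd451a1ec88367260c860a5cb2a9e0
theorem h181 : Tabled KK 5 N181 := Cfsg.Agent.Lib.Helper17PCTab.Tabled.mul h180 h0 (by decide +kernel)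
def N182 : ℕ := 0xbc0366566e9368312de88994539120
theorem h182 : Tabled KK 5 N182 := Cfsg.Agent.Lib.Helper17PCTab.Tabled.mul h181 h2 (by decide +kernel)
def N183 : ℕ := 0xbb94f24422614c3b221499eb25b520
theorem h183 : Tabled KK 5 N183 := Cfsg.Agent.Lib.Helper17PCTab.Tabled.mul h182 h1 (by decide +kernel)
def N184 : ℕ := 0xb8ab06cd56248e37d1c60ae2c41520
theorem h184 : Tabled KK 5 N184 := Cfsg.Agent.Lib.Helper17PCTab.Tabled.mul h183 h1 (by decide +kernel)
def N185 : ℕ := 0xb9206586aa2c9ae40df614587a4d20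
theorem h185 : Tabled KK 5 N185 := Cfsg.Agent.Lib.Helper17PCTab.Tabled.mul h184 h0 (by decide +kernel)
def N186 : ℕ := 0xb94d688a159c96fa390a230ed18520
theorem h186 : Tabled KK 5 N186 := Cfsg.Agent.Lib.Helper17PCTab.Tabled.mul h185 h0 (by decide +kernel)
def N187 : ℕ := 0xb9211730ad40eb250ac7585349bcc0
theorem h187 : Tabled KK 5 N187 := Cfsg.Agent.Lib.Helper17PCTab.Tabled.mul h172 h186 (by decide +kernel)
def N188 : ℕ := 0xba60513e27b39152064d60e6b550c0
theorem h188 : Tabled KK 5 N188 := Cfsg.Agent.Lib.Helper17PCTab.Tabled.mul h122 h0 (by decide +kernel)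
def N189 : ℕ := 0xbd8ad1b211a3852554874cd680bcc0
theorem h189 : Tabled KK 5 N189 := Cfsg.Agent.Lib.Helper17PCTab.Tabled.mul h188 h0 (by decide +kernel)
def N190 : ℕ := 0xbc5647a4aa1a27269ec280594ab8c0
theorem h190 : Tabled KK 5 N190 := Cfsg.Agent.Lib.Helper17PCTab.Tabled.mul h189 h1 (by decide +kernel)
def N191 : ℕ := 0xb8e056c66c921e75d0ca209d54d820
theorem h191 : Tabled KK 5 N191 := Cfsg.Agent.Lib.Helper17PCTab.Tabled.mul h190 h2 (by decide +kernel)
def N192 : ℕ := 0xbc8aa11213b21a649d6c1baafa4420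
theorem h192 : Tabled KK 5 N192 := Cfsg.Agent.Lib.Helper17PCTab.Tabled.mul h191 h0 (by decide +kernel)
def N193 : ℕ := 0xbd94c70cb08a04ba1933955ed39020
theorem h193 : Tabled KK 5 N193 := Cfsg.Agent.Lib.Helper17PCTab.Tabled.mul h192 h0 (by decide +kernel)
def N194 : ℕ := 0xbc1e924954736ab64ec229c7132020
theorem h194 : Tabled KK 5 N194 := Cfsg.Agent.Lib.Helper17PCTab.Tabled.mul h193 h1 (by decide +kernel)
def N195 : ℕ := 0xbd076415ec244eb48a1551a4e9b420
theorem h195 : Tabled KK 5 N195 := Cfsg.Agent.Lib.Helper17PCTab.Tabled.mul h194 h1 (by decide +kernel)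
def N196 : ℕ := 0xb92d53286f6c5109ad2ca49c711420
theorem h196 : Tabled KK 5 N196 := Cfsg.Agent.Lib.Helper17PCTab.Tabled.mul h195 h0 (by decide +kernel)
def N197 : ℕ := 0xbb6ac952c32c4c91426f238e85a820
theorem h197 : Tabled KK 5 N197 := Cfsg.Agent.Lib.Helper17PCTab.Tabled.mul h196 h0 (by decide +kernel)
def N198 : ℕ := 0xb8cf3512a2921c963da6b2e8584420
theorem h198 : Tabled KK 5 N198 := Cfsg.Agent.Lib.Helper17PCTab.Tabled.mul h197 h1 (by decide +kernel)
def N199 : ℕ := 0xbcad560dd44a14f3942299a3023560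
theorem h199 : Tabled KK 5 N199 := Cfsg.Agent.Lib.Helper17PCTab.Tabled.mul h198 h2 (by decide +kernel)
def N200 : ℕ := 0xba66e3c9517a185b4174a89a4184c0
theorem h200 : Tabled KK 5 N200 := Cfsg.Agent.Lib.Helper17PCTab.Tabled.mul h199 h2 (by decide +kernel)
def N201 : ℕ := 0xbbdd41566a0a0eb196d14b48c848c0
theorem h201 : Tabled KK 5 N201 := Cfsg.Agent.Lib.Helper17PCTab.Tabled.mul h200 h0 (by decide +kernel)
def N202 : ℕ := 0xb86916a5d39205682c6a791872d4c0
theorem h202 : Tabled KK 5 N202 := Cfsg.Agent.Lib.Helper17PCTab.Tabled.mul h201 h0 (by decide +kernel)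
def N203 : ℕ := 0xbca2a23e8eaa1a32da130b0e25a4c0
theorem h203 : Tabled KK 5 N203 := Cfsg.Agent.Lib.Helper17PCTab.Tabled.mul h202 h0 (by decide +kernel)
def N204 : ℕ := 0xbd4342c9a71a096888ce54d2b7c180
theorem h204 : Tabled KK 5 N204 := Cfsg.Agent.Lib.Helper17PCTab.Tabled.mul h203 h2 (by decide +kernel)
def N205 : ℕ := 0xb8e8e9a82d820a67da27aa56414980
theorem h205 : Tabled KK 5 N205 := Cfsg.Agent.Lib.Helper17PCTab.Tabled.mul h204 h0 (by decide +kernel)
def N206 : ℕ := 0xbc2a178cab32276a118d71e4254520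
theorem h206 : Tabled KK 5 N206 := Cfsg.Agent.Lib.Helper17PCTab.Tabled.mul h205 h2 (by decide +kernel)
def N207 : ℕ := 0xbb2ab6945699d0980c2e33e2a91280
theorem h207 : Tabled KK 5 N207 := Cfsg.Agent.Lib.Helper17PCTab.Tabled.inv h206 (by decide +kernel)
def N208 : ℕ := 0xbb475b3e3244c418158b39289538c0
theorem h208 : Tabled KK 5 N208 := Cfsg.Agent.Lib.Helper17PCTab.Tabled.mul h122 h1 (by decide +kernel)
def N209 : ℕ := 0xbca8c71c70b2481aada28a9e82ccc0
theorem h209 : Tabled KK 5 N209 := Cfsg.Agent.Lib.Helper17PCTab.Tabled.mul h208 h1 (by decide +kernel)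
def N210 : ℕ := 0xbd982546839a5cd286b093d0459cc0
theorem h210 : Tabled KK 5 N210 := Cfsg.Agent.Lib.Helper17PCTab.Tabled.mul h209 h0 (by decide +kernel)
def N211 : ℕ := 0xbcc507c9943a5555b4a3b208e0c4c0
theorem h211 : Tabled KK 5 N211 := Cfsg.Agent.Lib.Helper17PCTab.Tabled.mul h210 h0 (by decide +kernel)
def N212 : ℕ := 0xbd0858d84b7b91580e6a606476a4c0
theorem h212 : Tabled KK 5 N212 := Cfsg.Agent.Lib.Helper17PCTab.Tabled.mul h211 h1 (by decide +kernel)
def N213 : ℕ := 0xbae534b09089c352aa88136cf1b8c0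
theorem h213 : Tabled KK 5 N213 := Cfsg.Agent.Lib.Helper17PCTab.Tabled.mul h212 h1 (by decide +kernel)
def N214 : ℕ := 0xbc4442ac36a9d2a93cd09a1c3651a0
theorem h214 : Tabled KK 5 N214 := Cfsg.Agent.Lib.Helper17PCTab.Tabled.mul h213 h2 (by decide +kernel)
def N215 : ℕ := 0xbd9c6a4c5228d0a242290b17579da0
theorem h215 : Tabled KK 5 N215 := Cfsg.Agent.Lib.Helper17PCTab.Tabled.mul h214 h1 (by decide +kernel)
def N216 : ℕ := 0xb94222590b50e90755b2324ef9c580
theorem h216 : Tabled KK 5 N216 := Cfsg.Agent.Lib.Helper17PCTab.Tabled.mul h215 h2 (by decide +kernel)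
def N217 : ℕ := 0xbaced8982e23d30148b444ecaa8d80
theorem h217 : Tabled KK 5 N217 := Cfsg.Agent.Lib.Helper17PCTab.Tabled.mul h216 h1 (by decide +kernel)
def N218 : ℕ := 0xb91b49a0e11be25ac04e5d94991980
theorem h218 : Tabled KK 5 N218 := Cfsg.Agent.Lib.Helper17PCTab.Tabled.mul h217 h0 (by decide +kernel)
def N219 : ℕ := 0xb8d67a922a2be706a581a38d240ac0
theorem h219 : Tabled KK 5 N219 := Cfsg.Agent.Lib.Helper17PCTab.Tabled.mul h218 h2 (by decide +kernel)
def N220 : ℕ := 0xba8cc1516dac9d0384738a0854bec0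
theorem h220 : Tabled KK 5 N220 := Cfsg.Agent.Lib.Helper17PCTab.Tabled.mul h219 h1 (by decide +kernel)
def N221 : ℕ := 0xbd593444cb7c8434c0ed510ae0d2c0
theorem h221 : Tabled KK 5 N221 := Cfsg.Agent.Lib.Helper17PCTab.Tabled.mul h220 h0 (by decide +kernel)
def N222 : ℕ := 0xbbd464d4451c91063acb9b68189c80
theorem h222 : Tabled KK 5 N222 := Cfsg.Agent.Lib.Helper17PCTab.Tabled.mul h221 h2 (by decide +kernel)
def N223 : ℕ := 0xb8e6263d148492e5048532cf1ad9a0
theorem h223 : Tabled KK 5 N223 := Cfsg.Agent.Lib.Helper17PCTab.Tabled.mul h222 h2 (by decide +kernel)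
def N224 : ℕ := 0xbc0c850d27749819c5b4116d579160
theorem h224 : Tabled KK 5 N224 := Cfsg.Agent.Lib.Helper17PCTab.Tabled.mul h223 h2 (by decide +kernel)
def N225 : ℕ := 0xbb914288c92494d7866785aac88d60
theorem h225 : Tabled KK 5 N225 := Cfsg.Agent.Lib.Helper17PCTab.Tabled.mul h224 h0 (by decide +kernel)
def N226 : ℕ := 0xba6b31c10f2b2cda1dca344440c960
theorem h226 : Tabled KK 5 N226 := Cfsg.Agent.Lib.Helper17PCTab.Tabled.mul h225 h1 (by decide +kernel)
def N227 : ℕ := 0xbbc4e91ab41922d9a936406053b160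
theorem h227 : Tabled KK 5 N227 := Cfsg.Agent.Lib.Helper17PCTab.Tabled.mul h226 h1 (by decide +kernel)
def N228 : ℕ := 0xb8dd60a055612493b6747c0b151960
theorem h228 : Tabled KK 5 N228 := Cfsg.Agent.Lib.Helper17PCTab.Tabled.mul h227 h0 (by decide +kernel)
def N229 : ℕ := 0xbb1e238e454902d74575b50ca44e00
theorem h229 : Tabled KK 5 N229 := Cfsg.Agent.Lib.Helper17PCTab.Tabled.mul h228 h2 (by decide +kernel)
def N230 : ℕ := 0xba6d273026690f17aa05156681ae80
theorem h230 : Tabled KK 5 N230 := Cfsg.Agent.Lib.Helper17PCTab.Tabled.mul h229 h2 (by decide +kernel)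
def N231 : ℕ := 0xb9a7058acf722b19152708d8d51280
theorem h231 : Tabled KK 5 N231 := Cfsg.Agent.Lib.Helper17PCTab.Tabled.mul h230 h1 (by decide +kernel)
def N232 : ℕ := 0xbb83691aac8a1659b68f81c8a12460
theorem h232 : Tabled KK 5 N232 := Cfsg.Agent.Lib.Helper17PCTab.Tabled.mul h231 h2 (by decide +kernel)
def N233 : ℕ := 0xbc6159b9642a24d0a86cb3d22350e0
theorem h233 : Tabled KK 5 N233 := Cfsg.Agent.Lib.Helper17PCTab.Tabled.mul h232 h2 (by decide +kernel)
def N234 : ℕ := 0xb96ac7da0ba2263334248a452538e0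
theorem h234 : Tabled KK 5 N234 := Cfsg.Agent.Lib.Helper17PCTab.Tabled.mul h233 h0 (by decide +kernel)
def N235 : ℕ := 0xbc6a99b2d05b9b27a28a1048519cc0
theorem h235 : Tabled KK 5 N235 := Cfsg.Agent.Lib.Helper17PCTab.Tabled.mul h207 h234 (by decide +kernel)
def N236 : ℕ := 0xbae56744b413c6c4b606aa8f341020
theorem h236 : Tabled KK 5 N236 := Cfsg.Agent.Lib.Helper17PCTab.Tabled.mul h1 h1 (by decide +kernel)
def N237 : ℕ := 0xb8aa54ac6763dcd94c34b18888c140
theorem h237 : Tabled KK 5 N237 := Cfsg.Agent.Lib.Helper17PCTab.Tabled.mul h236 h2 (by decide +kernel)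
def N238 : ℕ := 0xbb0b435aa383d218b6471110e9ad40
theorem h238 : Tabled KK 5 N238 := Cfsg.Agent.Lib.Helper17PCTab.Tabled.mul h237 h0 (by decide +kernel)
def N239 : ℕ := 0xbc287208b55bcd298623621c96d940
theorem h239 : Tabled KK 5 N239 := Cfsg.Agent.Lib.Helper17PCTab.Tabled.mul h238 h0 (by decide +kernel)
def N240 : ℕ := 0xbad859c0ce93c81a255538ecd14500
theorem h240 : Tabled KK 5 N240 := Cfsg.Agent.Lib.Helper17PCTab.Tabled.mul h239 h2 (by decide +kernel)
def N241 : ℕ := 0xbc8e6a2c960be696350e2d62282860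
theorem h241 : Tabled KK 5 N241 := Cfsg.Agent.Lib.Helper17PCTab.Tabled.mul h240 h2 (by decide +kernel)
def N242 : ℕ := 0xb84cea94e453e8882596944536ac60
theorem h242 : Tabled KK 5 N242 := Cfsg.Agent.Lib.Helper17PCTab.Tabled.mul h241 h0 (by decide +kernel)
def N243 : ℕ := 0xba9d68c8c75beac6a20408a7449460
theorem h243 : Tabled KK 5 N243 := Cfsg.Agent.Lib.Helper17PCTab.Tabled.mul h242 h0 (by decide +kernel)
def N244 : ℕ := 0xbac266aab363e2875067b10a994040
theorem h244 : Tabled KK 5 N244 := Cfsg.Agent.Lib.Helper17PCTab.Tabled.mul h243 h2 (by decide +kernel)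
def N245 : ℕ := 0xbb0c72583583da3921d359531a2840
theorem h245 : Tabled KK 5 N245 := Cfsg.Agent.Lib.Helper17PCTab.Tabled.mul h244 h0 (by decide +kernel)
def N246 : ℕ := 0xbc161931a91bc88344553cd54b38a0
theorem h246 : Tabled KK 5 N246 := Cfsg.Agent.Lib.Helper17PCTab.Tabled.mul h245 h2 (by decide +kernel)
def N247 : ℕ := 0xb8ced3408a43e515d0a90d5d660a60
theorem h247 : Tabled KK 5 N247 := Cfsg.Agent.Lib.Helper17PCTab.Tabled.mul h246 h2 (by decide +kernel)
def N248 : ℕ := 0xba02458e4e8bcd43da6a6a44c816a0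
theorem h248 : Tabled KK 5 N248 := Cfsg.Agent.Lib.Helper17PCTab.Tabled.mul h247 h2 (by decide +kernel)
def N249 : ℕ := 0xbb8532b4275b1342290694071b3ea0
theorem h249 : Tabled KK 5 N249 := Cfsg.Agent.Lib.Helper17PCTab.Tabled.mul h248 h1 (by decide +kernel)
def N250 : ℕ := 0xbae4123923a30aa146a7999f66a200
theorem h250 : Tabled KK 5 N250 := Cfsg.Agent.Lib.Helper17PCTab.Tabled.mul h249 h2 (by decide +kernel)
def N251 : ℕ := 0xb8df544e42258ca09d654b5d48b200
theorem h251 : Tabled KK 5 N251 := Cfsg.Agent.Lib.Helper17PCTab.Tabled.mul h250 h1 (by decide +kernel)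
def N252 : ℕ := 0xb89cb625e1451aaa9466946643da00
theorem h252 : Tabled KK 5 N252 := Cfsg.Agent.Lib.Helper17PCTab.Tabled.mul h251 h1 (by decide +kernel)
def N253 : ℕ := 0xb8663b49d56122a5984d79d282d200
theorem h253 : Tabled KK 5 N253 := Cfsg.Agent.Lib.Helper17PCTab.Tabled.mul h252 h1 (by decide +kernel)
def N254 : ℕ := 0xbb06d3be6ea12c22a9750a51134a00
theorem h254 : Tabled KK 5 N254 := Cfsg.Agent.Lib.Helper17PCTab.Tabled.mul h253 h0 (by decide +kernel)
def N255 : ℕ := 0xbd1b548473910eb308ae6223653e00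
theorem h255 : Tabled KK 5 N255 := Cfsg.Agent.Lib.Helper17PCTab.Tabled.mul h254 h0 (by decide +kernel)
def N256 : ℕ := 0xbc983350f1591226da13ab9ea09500
theorem h256 : Tabled KK 5 N256 := Cfsg.Agent.Lib.Helper17PCTab.Tabled.mul h255 h2 (by decide +kernel)
def N257 : ℕ := 0xbc5f02d58d329c21ce493868bb1100
theorem h257 : Tabled KK 5 N257 := Cfsg.Agent.Lib.Helper17PCTab.Tabled.mul h256 h1 (by decide +kernel)
def N258 : ℕ := 0xbb69221de32ac228262e65aa69a900
theorem h258 : Tabled KK 5 N258 := Cfsg.Agent.Lib.Helper17PCTab.Tabled.mul h257 h1 (by decide +kernel)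
def N259 : ℕ := 0xb958f8343512c89a1903939533c6c0
theorem h259 : Tabled KK 5 N259 := Cfsg.Agent.Lib.Helper17PCTab.Tabled.mul h258 h2 (by decide +kernel)
def N260 : ℕ := 0xb8a41a148a4ae0664ed578e276a1c0
theorem h260 : Tabled KK 5 N260 := Cfsg.Agent.Lib.Helper17PCTab.Tabled.mul h259 h2 (by decide +kernel)
def N261 : ℕ := 0xba5e460a1132e9391dca0d50d2d860
theorem h261 : Tabled KK 5 N261 := Cfsg.Agent.Lib.Helper17PCTab.Tabled.mul h260 h2 (by decide +kernel)
def N262 : ℕ := 0xb95b47055024eac444eb49acf18a40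
theorem h262 : Tabled KK 5 N262 := Cfsg.Agent.Lib.Helper17PCTab.Tabled.mul h121 h261 (by decide +kernel)
def N263 : ℕ := 0xbac91624f42a2c668c327ce1553840
theorem h263 : Tabled KK 5 N263 := Cfsg.Agent.Lib.Helper17PCTab.Tabled.mul h124 h1 (by decide +kernel)
def N264 : ℕ := 0xb96329bc8772181519b45c2b61a440
theorem h264 : Tabled KK 5 N264 := Cfsg.Agent.Lib.Helper17PCTab.Tabled.mul h263 h0 (by decide +kernel)
def N265 : ℕ := 0xbba5482e244a26d185472d6cc33c40
theorem h265 : Tabled KK 5 N265 := Cfsg.Agent.Lib.Helper17PCTab.Tabled.mul h264 h0 (by decide +kernel)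
def N266 : ℕ := 0xba687a96517a20a33464759930ac40
theorem h266 : Tabled KK 5 N266 := Cfsg.Agent.Lib.Helper17PCTab.Tabled.mul h265 h0 (by decide +kernel)
def N267 : ℕ := 0xbbdd23260c522ada4c513916128ec0
theorem h267 : Tabled KK 5 N267 := Cfsg.Agent.Lib.Helper17PCTab.Tabled.mul h266 h2 (by decide +kernel)
def N268 : ℕ := 0xba8f0a3eab6a0d3706cc9446548880
theorem h268 : Tabled KK 5 N268 := Cfsg.Agent.Lib.Helper17PCTab.Tabled.mul h267 h2 (by decide +kernel)
def N269 : ℕ := 0xbb60c8c8f5122964cdcb50ca60bc80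
theorem h269 : Tabled KK 5 N269 := Cfsg.Agent.Lib.Helper17PCTab.Tabled.mul h268 h0 (by decide +kernel)
def N270 : ℕ := 0xbd4ae7aa098987662db4386429a080
theorem h270 : Tabled KK 5 N270 := Cfsg.Agent.Lib.Helper17PCTab.Tabled.mul h269 h1 (by decide +kernel)
def N271 : ℕ := 0xbc4f065472b19eb288897511353420
theorem h271 : Tabled KK 5 N271 := Cfsg.Agent.Lib.Helper17PCTab.Tabled.mul h270 h2 (by decide +kernel)
def N272 : ℕ := 0xbda09a38e36998452cb28a26f15420
theorem h272 : Tabled KK 5 N272 := Cfsg.Agent.Lib.Helper17PCTab.Tabled.mul h271 h0 (by decide +kernel)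
def N273 : ℕ := 0xb8e65ac60aa3d044cacc389cd59820
theorem h273 : Tabled KK 5 N273 := Cfsg.Agent.Lib.Helper17PCTab.Tabled.mul h272 h1 (by decide +kernel)
def N274 : ℕ := 0xbd0f048d0e23eb29b42a2b0cb8d840
theorem h274 : Tabled KK 5 N274 := Cfsg.Agent.Lib.Helper17PCTab.Tabled.mul h273 h2 (by decide +kernel)
def N275 : ℕ := 0xb920a614e8b3d218ca6ea197568c40
theorem h275 : Tabled KK 5 N275 := Cfsg.Agent.Lib.Helper17PCTab.Tabled.mul h274 h0 (by decide +kernel)
def N276 : ℕ := 0xbda878912b0bd92854485386d2ccc0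
theorem h276 : Tabled KK 5 N276 := Cfsg.Agent.Lib.Helper17PCTab.Tabled.mul h275 h2 (by decide +kernel)
def N277 : ℕ := 0xb84e872a899be222ca0bb0daca90c0
theorem h277 : Tabled KK 5 N277 := Cfsg.Agent.Lib.Helper17PCTab.Tabled.mul h276 h0 (by decide +kernel)
def N278 : ℕ := 0xba5b0258e57306242c31a555393cc0
theorem h278 : Tabled KK 5 N278 := Cfsg.Agent.Lib.Helper17PCTab.Tabled.mul h277 h1 (by decide +kernel)
def N279 : ℕ := 0xb95417d1a824ea2845233cace5b0c0
theorem h279 : Tabled KK 5 N279 := Cfsg.Agent.Lib.Helper17PCTab.Tabled.mul h278 h1 (by decide +kernel)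
def N280 : ℕ := 0xb90ed816b614df1538c808d8ba2640
theorem h280 : Tabled KK 5 N280 := Cfsg.Agent.Lib.Helper17PCTab.Tabled.mul h279 h2 (by decide +kernel)
def N281 : ℕ := 0xb89a8184f54ce06a45562316f71640
theorem h281 : Tabled KK 5 N281 := Cfsg.Agent.Lib.Helper17PCTab.Tabled.mul h280 h0 (by decide +kernel)
def N282 : ℕ := 0xb96167488d50eac41e2279a899ac20
theorem h282 : Tabled KK 5 N282 := Cfsg.Agent.Lib.Helper17PCTab.Tabled.mul h281 h281 (by decide +kernel)
def N285 : ℕ := 0xbbe0a9b2d558da1888a9448f4710c0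
theorem h285 : Tabled KK 5 N285 := Cfsg.Agent.Lib.Helper17PCTab.Tabled.mul h262 h187 (by decide +kernel)
def N286 : ℕ := 0xbda05985f588dac5a54221a8772240
theorem h286 : Tabled KK 5 N286 := Cfsg.Agent.Lib.Helper17PCTab.Tabled.mul h285 h235 (by decide +kernel)
def N287 : ℕ := 0xb9eaf1b28d13a014a2c45c9459c4c0
theorem h287 : Tabled KK 5 N287 := Cfsg.Agent.Lib.Helper17PCTab.Tabled.mul h286 h187 (by decide +kernel)
def N288 : ℕ := 0xba20b7054d20ea62a5f48b0479da40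
theorem h288 : Tabled KK 5 N288 := Cfsg.Agent.Lib.Helper17PCTab.Tabled.mul h287 h37 (by decide +kernel)
def N289 : ℕ := 0xba6b11984da3a123956ab04889bd80
theorem h289 : Tabled KK 5 N289 := Cfsg.Agent.Lib.Helper17PCTab.Tabled.mul h288 h37 (by decide +kernel)
def N290 : ℕ := 0xb9e0f718554cda1a11658b1481da40
theorem h290 : Tabled KK 5 N290 := Cfsg.Agent.Lib.Helper17PCTab.Tabled.mul h289 h148 (by decide +kernel)
def N291 : ℕ := 0xba2a29854d28e06258f1a496f72580
theorem h291 : Tabled KK 5 N291 := Cfsg.Agent.Lib.Helper17PCTab.Tabled.mul h290 h187 (by decide +kernel)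
def N293 : ℕ := 0xbda141996d8ceac7904a484a871e40
theorem h293 : Tabled KK 5 N293 := Cfsg.Agent.Lib.Helper17PCTab.Tabled.mul h291 h37 (by decide +kernel)
def N294 : ℕ := 0xb92a99b0ad50e1243e8b39a3670820
theorem h294 : Tabled KK 5 N294 := Cfsg.Agent.Lib.Helper17PCTab.Tabled.mul h293 h37 (by decide +kernel)
def N295 : ℕ := 0xbc609185edb4eb2594e8a188a70980
theorem h295 : Tabled KK 5 N295 := Cfsg.Agent.Lib.Helper17PCTab.Tabled.mul h294 h262 (by decide +kernel)
def N308 : ℕ := 0xba9af9c89543a0128a345b0e91d8c0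
theorem h308 : Tabled KK 5 N308 := Cfsg.Agent.Lib.Helper17PCTab.Tabled.mul h295 h187 (by decide +kernel)
def N309 : ℕ := 0xba6a4704f0a0db21594b29a2f9a180
theorem h309 : Tabled KK 5 N309 := Cfsg.Agent.Lib.Helper17PCTab.Tabled.mul h308 h187 (by decide +kernel)
def N310 : ℕ := 0xbbe071ca2d5cea1b212513144750c0
theorem h310 : Tabled KK 5 N310 := Cfsg.Agent.Lib.Helper17PCTab.Tabled.mul h309 h187 (by decide +kernel)
def N321 : ℕ := 0xbaea2985f08b9a6b10e54b10a1d240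
theorem h321 : Tabled KK 5 N321 := Cfsg.Agent.Lib.Helper17PCTab.Tabled.mul h310 h94 (by decide +kernel)
def N323 : ℕ := 0xbd9b4705f558e0c8a0e4148aa9a4c0
theorem h323 : Tabled KK 5 N323 := Cfsg.Agent.Lib.Helper17PCTab.Tabled.mul h321 h148 (by decide +kernel)

def C : Cert where
  D := { p := 3, n := 2, pwL := [[], []], cmL := [[], [], [], []] }
  k := 1
  f := 9
  R := 2
  fus := [([[0], [1]], [[0, 0], [1, 1]])]
  specs := [(0, [1, 1], [1, 0]),
    (1, [1, 1, 1], []),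
    (1, [0, 0, 0], [])]
  relV := [[0, (-3), 0, 0, 0, 0],
    [0, 0, 0, (-1), 0, (-3)],
    [(-1), 0, 0, 0, (-3), 0]]
  lam := [[0, 0, 0, 0, 0, 0],
    [0, 0, 0, 0, 0, 0]]
  j0 := 1
  mu := [0, 1, 0, 0]
  y1 := [[(2, 8)],
    [],
    [],
    [(1, 8)]]
  y2 := [[(2, 6)],
    [(0, 5)],
    [],
    [(1, 6)]]

theorem hC : C.check = true := by decide +kernel

def tx : ℕ → ℕ
  | 0 => N323
  | 1 => N282
  | _ => 0

def tg : ℕ → ℕ
  | 0 => N262
  | _ => 0

theorem hx : ∀ a < C.D.n, Tabled KK 5 (tx a) := by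
  intro a ha
  have ha' : a < 2 := ha
  interval_cases a
  · exact h323
  · exact h282

theorem hg : ∀ i < C.fus.length, Tabled KK 5 (tg i) := by
  intro a ha
  have ha' : a < 1 := ha
  interval_cases a
  · exact h262

theorem hpc : pcChk 24 5 C.D tx = true := by decide +kernel

theorem hfus : fusChk 24 5 C tx tg = true := by decide +kernel

theorem hinj : injChk 24 5 C.D tx [2] = true := by decide +kernel

theorem lb : LocalBound KK 3 1 :=
  Cfsg.Agent.Lib.Helper17PCTab.ub_tab KK C (by norm_num [C]) hC 5 tx tg [2] hx hg hpc hfus hinj (by rw [cardK]; norm_num [C])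

end Cfsg.Agent.Lib.Helper63MM22P3
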