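import Cfsg.Agent.Lib.Helper63MONM

/-! PC-MULT certificate: O'Nan group, p = 2. -/

set_option autoImplicit false
set_option maxRecDepth 1000000
set_option maxHeartbeats 0

namespace Cfsg.Agent.Lib.Helper63MONP2

open Cfsg Cfsg.Agent.Lib.Helper63PCDefs Cfsg.Agent.Lib.Helper63PCWordDefs Cfsg.Agent.Lib.Helper35TC
  Cfsg.Agent.Lib.Helper63MONM

def C : Cert where
  D := { p := 2, n := 9, pwL := [[4, 5, 7], [], [3, 6], [6], [7], [], [], [8], []], cmL := [[], [4], [3, 4], [5, 7, 8], [6, 8], [6, 8], [8], [], [], [], [], [3, 5, 6], [], [7, 8], [6], [], [8], [], [], [], [], [], [5, 8], [6], [], [8], [], [], [], [], [], [6], [], [], [], [], [], [], [], [], [], [8], [], [], [], [], [], [], [], [], [], [], [], [], [], [], [], [], [], [], [], [],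 [], [], [], [], [], [], [], [], [], [], [], [], [], [], [], [], [], [], []] }
  k := 0
  f := 146
  R := 8
  fus := [([[1], [2], [3], [4], [5], [6], [7], [8]], [[1, 4, 6, 7], [2, 4, 7, 8], [3, 5, 7, 8], [2, 3, 6, 7], [5, 8], [6, 8], [3], [6]]), ([[0, 2, 3, 4], [1, 2, 4], [5], [6], [7], [8]], [[1, 2, 4, 5, 6, 7, 8], [0, 1, 3, 5, 7, 8], [0, 1, 3, 5, 6, 7, 8], [1, 2, 4, 7, 8], [1, 2, 4, 6], [8]])]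
  specs := [(0, [0], [0, 0]),
    (0, [1], [1, 0]),
    (0, [1], [0, 0]),
    (0, [2], [1, 0]),
    (0, [3], [1, 0]),
    (0, [4], [1, 0]),
    (0, [5], [1, 0]),
    (0, [6], [1, 0]),
    (0, [7], [1, 0]),
    (0, [8], [1, 0]),
    (0, [2], [2, 0]),
    (0, [2], [0, 0]),
    (0, [3], [2, 0]),
    (0, [4], [2, 0]),
    (0, [5], [2, 0]),
    (0, [6], [2, 0]),
    (0, [7], [2, 0]),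
    (0, [8], [2, 0]),
    (0, [3], [3, 0]),
    (0, [3], [0, 0]),
    (0, [4], [3, 0]),
    (0, [5], [3, 0]),
    (0, [6], [3, 0]),
    (0, [7], [3, 0]),
    (0, [8], [3, 0]),
    (0, [4], [4, 0]),
    (0, [4], [0, 0]),
    (0, [5], [4, 0]),
    (0, [8], [4, 0]),
    (0, [5], [5, 0]),
    (0, [2], [2, 1]),
    (0, [2], [1, 1]),
    (0, [3], [2, 1]),
    (1, [6, 6, 7], []),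
    (1, [3, 3, 6, 7], []),
    (1, [2, 2, 5], []),
    (1, [1, 1, 5, 2, 5], []),
    (1, [1, 0, 5, 4, 2, 5, 1, 5, 2, 5, 0], []),
    (1, [3, 0, 7, 6, 7, 3, 6, 7, 0], []),
    (1, [3, 1, 7, 4, 3, 6, 7, 1, 5, 2, 5], []),
    (2, [4, 4, 5], []),
    (2, [3, 3], []),
    (2, [2, 2], []),
    (2, [0, 0, 5], []),
    (2, [4, 0, 5, 4, 5, 0, 5], [])]
  relV := [[0, 0, 0, 0, 1, 1, 0, 1, 0, 0, 0, 0, 0, 0, 0, 0, 0, 0, 0, 0, 0, 0, 0, 0, 0, 0, 0, 0, 0, 0, 0, 0, 0, 0, 0, 0, 0, 0, 0, 0, 0, 0, 0, 0, 0, 0, 0, 0, 0, 0, 0, 1, 0, 1, 0, 0, 0, 0, 0, 0, 1, 0, 1, 0, 0, 0, 0, 0, 0, 0, 0, 0, 0, 0, 0, 0, 0, 0, 0, 0, 1, 0, 0, 0, 0, 0, 0, 0, 0, 0, 0, 0, 0, 0, 0, 0, 0],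
    [0, (-2), 0, 0, 0, 0, 0, 0, 0, 0, 0, 0, 0, (-1), 0, 0, 0, 0, 0, 0, 0, 0, 0, 0, 0, 0, 0, 0, 0, 0, 0, 0, 0, 0, 0, 0, 0, 0, 0, 0, (-1), 0, 0, (-1), (-1), 0, 0, 0, 0, 0, 0, 0, 0, 0, 0, 0, 0, 0, 0, 0, 0, 0, 0, 0, 0, 0, 0, 0, 0, 0, (-1), 0, 0, 0, 0, 0, 0, 0, 0, 0, (-1), 0, 0, 0, 0, 0, 0, 0, 0, 0, 0, 0, 0, 0, 0, 0, 0],
    [0, 2, 0, 0, 1, 0, 0, 0, 0, 0, 0, 0, 0, 1, 1, 0, 1, 0, 0, 0, 0, 0, 0, 0, 0, 0, 0, 0, 0, 0, 0, 0, 0, 0, 0, 0, 0, 0, 0, 0, 1, 2, 2, 1, 1, 0, 0, 0, 0, 0, 0, 0, 2, 1, 0, 0, 0, 0, 0, 0, 1, 3, 4, 0, 0, 0, 0, 0, 0, 0, 1, 2, 0, 0, 0, 0, 0, 0, 0, 0, 3, 0, 0, 0, 0, 0, 0, 0, 0, 0, 0, 0, 0, 0, 0, 0, 0],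
    [0, 0, 0, 1, 0, 1, 1, 0, 0, 0, 0, 0, (-1), (-1), 0, 0, 0, 0, 0, 0, 0, 0, 1, 0, 0, 0, 0, 0, 0, 0, 0, 1, 1, 0, 1, 1, 0, 0, 0, 0, 0, (-1), 1, (-1), 1, 0, 0, 0, 0, 0, 1, 1, 1, 0, 0, 0, 0, 0, 0, 0, 1, 1, 2, 0, 0, 0, 0, 0, 0, 0, 0, (-2), 0, 0, 0, 0, 0, 0, 0, 0, 1, 0, 0, 0, 0, 0, 0, 0, 0, 0, 0, 0, 0, 0, 0, 0, 0],
    [0, 0, 0, 0, 0, 0, 0, 0, 0, 0, 0, 0, 0, 0, (-1), 0, (-1), (-1), 0, 0, 0, 0, 0, 0, 0, 0, 0, 0, 0, 0, 0, 1, 0, 0, 0, 0, 0, 0, 0, 0, 0, (-1), (-1), (-1), 0, 0, 0, 0, 0, 0, 0, 1, 0, 0, 0, 0, 0, 0, 0, 0, 0, 0, (-1), 0, 0, 0, 0, 0, 0, 0, 0, (-1), 0, 0, 0, 0, 0, 0, 0, 0, (-1), 0, 0, 0, 0, 0, 0, 0, 0, 0, 0, 0, 0, 0, 0, 0, 0],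
    [0, 0, 0, 0, 0, 0, 0, 1, 1, 0, 0, 0, 0, 0, 0, (-1), 0, (-1), 0, 0, 0, 0, 0, 0, 0, 0, 0, 0, 0, 0, 0, 0, 0, 0, 0, 0, 0, 0, 0, 0, 0, 0, (-1), (-1), 0, 0, 0, 0, 0, 0, 0, 0, 0, 0, 0, 0, 0, 0, 0, 0, 0, (-1), (-1), 0, 0, 0, 0, 0, 0, 0, 0, 1, 0, 0, 0, 0, 0, 0, 0, 0, 0, 0, 0, 0, 0, 0, 0, 0, 0, 0, 0, 0, 0, 0, 0, 0, 0],
    [0, 0, 0, 0, 0, 0, 1, 0, 0, 0, 0, 0, 0, 0, 0, (-1), 0, (-1), 0, 0, 0, 0, 0, 0, 0, 0, 0, 0, 0, 0, 0, 0, 0, 0, 0, 0, 0, 0, 0, 0, 0, (-1), 0, 0, (-1), 0, 0, 0, 0, 0, 0, 0, 0, 0, 0, 0, 0, 0, 0, 0, 0, 0, 1, 0, 0, 0, 0, 0, 0, 0, 0, 0, 0, 0, 0, 0, 0, 0, 0, 0, 0, 0, 0, 0, 0, 0, 0, 0, 0, 0, 0, 0, 0, 0, 0, 0, 0],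
    [0, 0, 0, 0, 0, 0, 0, 0, 0, 0, 0, 0, 0, 0, 0, 0, 0, (-1), 0, 0, 0, 0, 0, 0, 0, 0, 0, 0, 0, 0, 0, 0, 0, 0, 0, 0, 0, 0, 0, 0, 0, 0, (-1), 0, (-1), 0, 0, 0, 0, 0, 0, 0, 0, 0, 0, 0, 0, 0, 0, 0, 0, 0, 0, 0, 0, 0, 0, 0, 0, 0, 0, 0, 0, 0, 0, 0, 0, 0, 0, 0, 0, 0, 0, 0, 0, 0, 0, 0, 0, 0, 0, 0, 0, 0, 0, 0, 0],
    [0, 0, 0, 0, 0, 0, 0, 0, 1, 0, 0, 0, 0, 0, 0, 0, 0, 0, 0, 0, 0, 0, 0, 0, 0, 0, 0, 0, 0, 0, 0, 0, 0, 0, 0, 0, 0, 0, 0, 0, 0, 0, 0, (-1), (-1), 0, 0, 0, 0, 0, 0, 0, 0, 0, 0, 0, 0, 0, 0, 0, 0, 0, 0, 0, 0, 0, 0, 0, 0, 0, 0, 0, 0, 0, 0, 0, 0, 0, 0, 0, 0, 0, 0, 0, 0, 0, 0, 0, 0, 0, 0, 0, 0, 0, 0, 0, 0],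
    [0, 0, 0, 0, 0, 0, 0, 0, 0, 0, 0, 0, 0, 0, 0, 0, 0, 0, 0, 0, 0, 0, 0, 0, 0, 0, 0, 0, 0, 0, 0, 0, 0, 0, 0, 0, 0, 0, 0, 0, 0, 0, 0, 0, (-1), 0, 0, 0, 0, 0, 0, 0, 0, 0, 0, 0, 0, 0, 0, 0, 0, 0, 0, 0, 0, 0, 0, 0, 0, 0, 0, 0, 0, 0, 0, 0, 0, 0, 0, 0, 0, 0, 0, 0, 0, 0, 0, 0, 0, 0, 0, 0, 0, 0, 0, 0, 0],
    [0, 0, (-2), 1, 0, 0, 1, 0, 0, 0, 0, 0, 0, 0, 0, 0, 0, 0, 0, 0, 0, (-1), (-1), 0, 0, 0, 0, 0, 0, 0, (-1), (-1), (-1), (-1), 0, (-1), 0, 0, 0, 0, (-1), (-1), (-1), 0, (-1), 0, 0, 0, 0, 0, 0, (-1), (-1), 0, 0, 0, 0, 0, 0, 0, (-1), 0, 0, 0, 0, 0, 0, 0, 0, 0, 0, 0, 0, 0, 0, 0, 0, 0, 0, 0, 0, 0, 0, 0, 0, 0, 0, 0, 0, 0, 0, 0, 0, 0, 0, 0, 0],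
    [0, 0, 2, 1, 1, 0, 0, 0, 0, 0, 0, 0, 0, 0, 0, 0, 0, 0, 0, 0, 0, 0, 1, 1, 0, 1, 0, 0, 0, 0, 1, 1, 0, 1, 1, 1, 0, 0, 0, 0, 1, 1, 1, 2, 0, 0, 0, 0, 0, 0, 1, 1, 0, 2, 0, 0, 0, 0, 0, 0, 2, 1, 3, 0, 0, 0, 0, 0, 0, 0, 1, 3, 0, 0, 0, 0, 0, 0, 0, 0, 3, 0, 0, 0, 0, 0, 0, 0, 0, 0, 0, 0, 0, 0, 0, 0, 0],
    [0, 0, 0, 0, 0, 0, 0, 0, 0, 0, 0, 0, 0, 0, 0, 0, 0, 0, 0, 0, 0, 0, 0, (-1), 0, (-1), (-1), 0, 0, 0, 0, 1, (-1), (-1), (-1), 0, 0, 0, 0, 0, 0, (-1), 1, (-1), 0, 0, 0, 0, 0, 0, 0, (-1), 0, 0, 0, 0, 0, 0, 0, 0, 0, 0, 0, 0, 0, 0, 0, 0, 0, 0, 0, (-1), 0, 0, 0, 0, 0, 0, 0, 0, (-1), 0, 0, 0, 0, 0, 0, 0, 0, 0, 0, 0, 0, 0, 0, 0, 0],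
    [0, 0, 0, 0, 0, 1, 0, 0, 1, 0, 0, 0, 0, 0, 0, 0, 0, 0, 0, 0, 0, 0, 0, 0, (-1), 0, (-1), 0, 0, 0, 0, (-1), (-1), (-1), 0, 0, 0, 0, 0, 0, 0, (-1), 0, 0, 0, 0, 0, 0, 0, 0, 0, 0, 0, 1, 0, 0, 0, 0, 0, 0, 0, 2, 0, 0, 0, 0, 0, 0, 0, 0, 0, 0, 0, 0, 0, 0, 0, 0, 0, 0, 0, 0, 0, 0, 0, 0, 0, 0, 0, 0, 0, 0, 0, 0, 0, 0, 0],
    [0, 0, 0, 0, 0, 0, 1, 0, 0, 0, 0, 0, 0, 0, 0, 0, 0, 0, 0, 0, 0, 0, 0, 0, (-1), 0, (-1), 0, 0, 0, 0, 0, (-1), 0, 0, (-1), 0, 0, 0, 0, 0, (-1), 0, 0, (-1), 0, 0, 0, 0, 0, 0, 0, 0, 0, 0, 0, 0, 0, 0, 0, 0, 0, 1, 0, 0, 0, 0, 0, 0, 0, 0, 0, 0, 0, 0, 0, 0, 0, 0, 0, 0, 0, 0, 0, 0, 0, 0, 0, 0, 0, 0, 0, 0, 0, 0, 0, 0],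
    [0, 0, 0, 0, 0, 0, 0, 0, 0, 0, 0, 0, 0, 0, 0, 0, 0, 0, 0, 0, 0, 0, 0, 0, 0, 0, (-1), 0, 0, 0, 0, 0, 0, (-1), 0, (-1), 0, 0, 0, 0, 0, 0, (-1), 0, (-1), 0, 0, 0, 0, 0, 0, 0, 0, 0, 0, 0, 0, 0, 0, 0, 0, 0, 0, 0, 0, 0, 0, 0, 0, 0, 0, 0, 0, 0, 0, 0, 0, 0, 0, 0, 0, 0, 0, 0, 0, 0, 0, 0, 0, 0, 0, 0, 0, 0, 0, 0, 0],
    [0, 0, 0, 0, 0, 0, 0, 0, 1, 0, 0, 0, 0, 0, 0, 0, 0, 0, 0, 0, 0, 0, 0, 0, 0, 0, 0, 0, 0, 0, 0, 0, 0, 0, (-1), (-1), 0, 0, 0, 0, 0, 0, 0, (-1), (-1), 0, 0, 0, 0, 0, 0, 0, 0, 0, 0, 0, 0, 0, 0, 0, 0, 0, 0, 0, 0, 0, 0, 0, 0, 0, 0, 0, 0, 0, 0, 0, 0, 0, 0, 0, 0, 0, 0, 0, 0, 0, 0, 0, 0, 0, 0, 0, 0, 0, 0, 0, 0],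
    [0, 0, 0, 0, 0, 0, 0, 0, 0, 0, 0, 0, 0, 0, 0, 0, 0, 0, 0, 0, 0, 0, 0, 0, 0, 0, 0, 0, 0, 0, 0, 0, 0, 0, 0, (-1), 0, 0, 0, 0, 0, 0, 0, 0, (-1), 0, 0, 0, 0, 0, 0, 0, 0, 0, 0, 0, 0, 0, 0, 0, 0, 0, 0, 0, 0, 0, 0, 0, 0, 0, 0, 0, 0, 0, 0, 0, 0, 0, 0, 0, 0, 0, 0, 0, 0, 0, 0, 0, 0, 0, 0, 0, 0, 0, 0, 0, 0],
    [0, 0, 0, (-2), 0, 0, 1, 0, 0, 0, 0, 0, 0, 0, 0, 0, 0, 0, 0, 0, 0, 0, 0, 0, 0, 0, 0, 0, 0, 0, 0, 0, (-1), 0, (-1), (-1), 0, 0, 0, 0, 0, 0, 0, 0, 0, 0, 0, 0, 0, 0, (-1), (-2), (-1), (-1), 0, 0, 0, 0, 0, 0, 0, 0, 0, 0, 0, 0, 0, 0, 0, 0, (-1), (-1), 0, 0, 0, 0, 0, 0, 0, 0, (-1), 0, 0, 0, 0, 0, 0, 0, 0, 0, 0, 0, 0, 0, 0, 0, 0],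
    [0, 0, 0, 2, 0, 1, 0, 1, 1, 0, 0, 0, 0, 0, 0, 0, 0, 0, 0, 0, 0, 0, 0, 0, 0, 0, 0, 0, 0, 0, 0, 1, 1, 0, 1, 0, 0, 0, 0, 0, 0, 0, 0, 0, 0, 0, 0, 0, 0, 0, 1, 3, 1, 0, 0, 0, 0, 0, 0, 0, 1, 0, 0, 0, 0, 0, 0, 0, 0, 0, 1, 1, 0, 0, 0, 0, 0, 0, 0, 0, 2, 0, 0, 0, 0, 0, 0, 0, 0, 0, 0, 0, 0, 0, 0, 0, 0],
    [0, 0, 0, 0, 0, 0, 1, 0, 0, 0, 0, 0, 0, 0, 0, 0, 0, 0, 0, 0, 0, 0, 0, 0, 0, 0, 0, 0, 0, 0, 0, 0, 0, (-1), 0, (-1), 0, 0, 0, 0, 0, 1, 0, 1, 1, 0, 0, 0, 0, 0, 0, 0, 0, (-1), 0, 0, 0, 0, 0, 0, 0, 2, 1, 0, 0, 0, 0, 0, 0, 0, 0, 0, 0, 0, 0, 0, 0, 0, 0, 0, 1, 0, 0, 0, 0, 0, 0, 0, 0, 0, 0, 0, 0, 0, 0, 0, 0],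
    [0, 0, 0, 0, 0, 0, 0, 0, 0, 0, 0, 0, 0, 0, 0, 0, 0, 0, 0, 0, 0, 0, 0, 0, 0, 0, 0, 0, 0, 0, 0, 0, 0, (-1), 0, (-1), 0, 0, 0, 0, 0, 0, 0, 0, 0, 0, 0, 0, 0, 0, 0, (-1), 1, 0, 0, 0, 0, 0, 0, 0, 0, 1, 1, 0, 0, 0, 0, 0, 0, 0, 0, (-1), 0, 0, 0, 0, 0, 0, 0, 0, 0, 0, 0, 0, 0, 0, 0, 0, 0, 0, 0, 0, 0, 0, 0, 0, 0],
    [0, 0, 0, 0, 0, 0, 0, 0, 0, 0, 0, 0, 0, 0, 0, 0, 0, 0, 0, 0, 0, 0, 0, 0, 0, 0, 0, 0, 0, 0, 0, 0, 0, 0, 0, (-1), 0, 0, 0, 0, 0, 0, 0, 0, 0, 0, 0, 0, 0, 0, 0, (-1), 0, (-1), 0, 0, 0, 0, 0, 0, 0, 1, 1, 0, 0, 0, 0, 0, 0, 0, 0, (-1), 0, 0, 0, 0, 0, 0, 0, 0, 0, 0, 0, 0, 0, 0, 0, 0, 0, 0, 0, 0, 0, 0, 0, 0, 0],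
    [0, 0, 0, 0, 0, 0, 0, 0, 0, 0, 0, 0, 0, 0, 0, 0, 0, 0, 0, 0, 0, 0, 0, 0, 0, 0, 0, 0, 0, 0, 0, 0, 0, 0, 0, 0, 0, 0, 0, 0, 0, 0, 0, 0, 0, 0, 0, 0, 0, 0, 0, 0, (-1), 0, 0, 0, 0, 0, 0, 0, 0, 0, 0, 0, 0, 0, 0, 0, 0, 0, 0, 1, 0, 0, 0, 0, 0, 0, 0, 0, 0, 0, 0, 0, 0, 0, 0, 0, 0, 0, 0, 0, 0, 0, 0, 0, 0],
    [0, 0, 0, 0, 0, 0, 0, 0, 0, 0, 0, 0, 0, 0, 0, 0, 0, 0, 0, 0, 0, 0, 0, 0, 0, 0, 0, 0, 0, 0, 0, 0, 0, 0, 0, 0, 0, 0, 0, 0, 0, 0, 0, 0, 0, 0, 0, 0, 0, 0, 0, 0, 0, (-1), 0, 0, 0, 0, 0, 0, 0, 0, 0, 0, 0, 0, 0, 0, 0, 0, 0, (-1), 0, 0, 0, 0, 0, 0, 0, 0, 0, 0, 0, 0, 0, 0, 0, 0, 0, 0, 0, 0, 0, 0, 0, 0, 0],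
    [0, 0, 0, 0, (-2), 0, 0, 1, 0, 0, 0, 0, 0, 0, 0, 0, 0, 0, 0, 0, 0, 0, 0, 0, 0, 0, 0, 0, 0, 0, 0, 0, 0, 0, 0, 0, 0, 0, 0, 0, 0, 0, (-1), 0, (-1), 0, 0, 0, 0, 0, 0, 0, 0, 0, 0, 0, 0, 0, 0, 0, (-1), (-2), (-1), 0, 0, 0, 0, 0, 0, 0, 0, 0, 0, 0, 0, 0, 0, 0, 0, 0, (-1), 0, 0, 0, 0, 0, 0, 0, 0, 0, 0, 0, 0, 0, 0, 0, 0],
    [0, 0, 0, 0, 2, 0, 1, 0, 1, 0, 0, 0, 0, 0, 0, 0, 0, 0, 0, 0, 0, 0, 0, 0, 0, 0, 0, 0, 0, 0, 0, 0, 0, 0, 0, 0, 0, 0, 0, 0, 0, 1, 0, 1, 0, 0, 0, 0, 0, 0, 0, 0, 0, 0, 0, 0, 0, 0, 0, 0, 1, 0, 1, 0, 0, 0, 0, 0, 0, 0, 0, 1, 0, 0, 0, 0, 0, 0, 0, 0, 2, 0, 0, 0, 0, 0, 0, 0, 0, 0, 0, 0, 0, 0, 0, 0, 0],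
    [0, 0, 0, 0, 0, 0, 0, 0, 1, 0, 0, 0, 0, 0, 0, 0, 0, 0, 0, 0, 0, 0, 0, 0, 0, 0, 0, 0, 0, 0, 0, 0, 0, 0, 0, 0, 0, 0, 0, 0, 0, 0, (-1), 0, (-1), 0, 0, 0, 0, 0, 0, 1, 0, 1, 0, 0, 0, 0, 0, 0, 0, 0, 0, 0, 0, 0, 0, 0, 0, 0, 0, 0, 0, 0, 0, 0, 0, 0, 0, 0, 0, 0, 0, 0, 0, 0, 0, 0, 0, 0, 0, 0, 0, 0, 0, 0, 0],
    [0, 0, 0, 0, 0, 0, 0, 0, 0, 0, 0, 0, 0, 0, 0, 0, 0, 0, 0, 0, 0, 0, 0, 0, 0, 0, 0, 0, 0, 0, 0, 0, 0, 0, 0, 0, 0, 0, 0, 0, 0, 0, 0, 0, 0, 0, 0, 0, 0, 0, 0, 0, 0, 0, 0, 0, 0, 0, 0, 0, 0, 0, (-1), 0, 0, 0, 0, 0, 0, 0, 0, 0, 0, 0, 0, 0, 0, 0, 0, 0, 0, 0, 0, 0, 0, 0, 0, 0, 0, 0, 0, 0, 0, 0, 0, 0, 0],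
    [0, 0, 0, 0, 0, (-2), 0, 0, 0, 0, 0, 0, 0, 0, 0, 0, 0, 0, 0, 0, 0, 0, 0, 0, 0, 0, 0, 0, 0, 0, 0, 0, 0, 0, 0, 0, 0, 0, 0, 0, 0, 0, 0, 0, 0, 0, 0, 0, 0, 0, 0, (-1), 0, (-1), 0, 0, 0, 0, 0, 0, (-1), 0, (-1), 0, 0, 0, 0, 0, 0, 0, 0, 0, 0, 0, 0, 0, 0, 0, 0, 0, (-1), 0, 0, 0, 0, 0, 0, 0, 0, 0, 0, 0, 0, 0, 0, 0, 0],
    [0, 0, 0, 0, 0, 0, 0, 0, 0, 0, 0, (-2), 1, 0, 0, 1, 0, 0, 0, 0, 0, (-1), 0, (-1), (-1), 0, 0, 0, 0, 0, (-1), 0, (-1), (-1), 0, 0, 0, 0, 0, 0, 0, 0, 0, 0, 0, 0, 0, 0, 0, 0, (-1), 0, 0, 0, 0, 0, 0, 0, 0, 0, (-2), 0, 0, 0, 0, 0, 0, 0, 0, 0, 0, 0, 0, 0, 0, 0, 0, 0, 0, 0, 0, 0, 0, 0, 0, 0, 0, 0, 0, 0, 0, 0, 0, 0, 0, 0, 0],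
    [0, 0, 0, 0, 0, 0, 0, 0, 0, 0, 0, 2, 1, 0, 1, 1, 0, 0, 0, 0, 0, 0, 0, 0, 0, 0, 0, 0, 0, 0, 1, 0, 1, 1, 0, 0, 0, 0, 0, 0, 0, 0, 0, 0, 0, 0, 0, 0, 0, 0, 1, 1, 0, 0, 0, 0, 0, 0, 0, 0, 2, 0, 0, 0, 0, 0, 0, 0, 0, 0, 0, 0, 0, 0, 0, 0, 0, 0, 0, 0, 0, 0, 0, 0, 0, 0, 0, 0, 0, 0, 0, 0, 0, 0, 0, 0, 0],
    [0, 0, 0, 0, 0, 0, 0, 0, 0, 0, 0, 0, 0, 0, 0, 0, 0, 0, 0, 0, 0, 0, 0, 0, 0, 0, 0, 0, 0, 0, 0, 0, 1, 1, 0, 0, 0, 0, 0, 0, 0, 0, 0, 0, 0, 0, 0, 0, 0, 0, 0, 0, 0, 0, 0, 0, 0, 0, 0, 0, 0, 0, 0, 0, 0, 0, 0, 0, 0, 0, 0, 0, 0, 0, 0, 0, 0, 0, 0, 0, 0, 0, 0, 0, 0, 0, 0, 0, 0, 0, 0, 0, 0, 0, 0, 0, 0],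
    [0, 0, 0, 0, 0, 0, 0, 0, 0, 0, 0, 0, 0, 0, 0, 0, 0, 0, 0, 0, 0, 0, 0, 0, 0, 0, 0, 0, 0, 0, (-1), 0, 0, 0, 0, 0, 0, 0, 0, 0, 0, 0, 0, 0, 0, 0, 0, 0, 0, 0, 0, 0, 0, 0, 0, 0, 0, 0, 0, 0, (-1), 0, 0, 0, 0, 0, 0, 0, 0, 0, 1, 0, 0, 0, 0, 0, 0, 0, 0, 0, 1, 0, 0, 0, 0, 0, 0, (-2), (-1), 0, 0, 0, 0, 0, 0, 0, 0],
    [0, 0, 0, 0, 0, 0, 0, 0, 0, 0, 0, 0, 0, 0, 0, 0, 0, 0, 0, 0, (-1), (-1), 0, 0, (-1), (-1), 0, 0, 0, 0, (-2), 0, 0, (-2), (-1), (-1), 0, 0, 0, 0, 1, 0, 0, 0, 0, 0, 0, 0, 0, 0, 0, 0, 0, 0, 0, 0, 0, 0, 0, 0, (-3), (-1), (-1), 0, 0, 0, 0, 0, 0, 0, 0, (-1), 0, 0, 0, 0, 0, 0, 0, 0, 0, 0, 0, 0, (-2), 0, 0, (-1), (-1), 0, 0, 0, 0, 0, 0, 0, 0],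
    [0, 0, 0, 0, 0, 0, 0, 0, 0, 0, 0, 0, 0, 0, 0, 0, 0, 0, 0, 0, 0, 0, 0, 0, 0, 0, 0, 0, 0, 0, 0, 0, (-1), 0, (-1), (-1), 0, 0, 0, 0, 0, 0, 0, 0, 0, 0, 0, 0, 0, 0, (-1), (-2), (-1), (-1), 0, 0, 0, 0, 0, 0, 0, 0, (-1), 0, 0, 0, 0, 0, 0, 0, (-1), (-1), 0, 0, 0, 0, 0, 0, 0, 0, (-2), 0, 0, (-2), 0, 0, (-1), 0, 0, 0, 0, 0, 0, 0, 0, 0, 0],
    [0, 0, 0, 0, 0, 0, 0, 0, 0, 0, 0, 0, 0, 0, 0, 0, 0, 0, 0, 0, 0, 0, (-1), 0, 0, (-1), (-1), 0, 0, 0, 0, 0, (-1), 0, (-1), (-1), 0, 0, 0, 0, (-1), (-1), (-2), (-1), (-1), 0, 0, 0, 0, 0, (-1), (-3), (-2), (-1), 0, 0, 0, 0, 0, 0, 0, (-2), (-2), 0, 0, 0, 0, 0, 0, 0, (-2), (-4), 0, 0, 0, 0, 0, 0, 0, 0, (-5), 0, (-2), (-1), 0, 0, (-2), 0, 0, 0, 0, 0, 0, 0, 0, 0, 0],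
    [0, 0, 0, 0, 0, 0, 0, 0, 0, 0, 0, 0, 0, (-2), 0, (-1), (-2), (-1), 0, 0, 0, 0, 0, (-1), (-1), (-1), (-1), 0, 0, 0, 0, (-1), (-1), (-1), 0, (-1), 0, 0, 0, 0, (-2), (-3), (-5), (-1), (-2), 0, 0, 0, 0, 0, (-1), (-2), (-1), (-1), 0, 0, 0, 0, 0, 0, (-2), (-7), (-8), 0, 0, 0, 0, 0, 0, 0, (-5), (-6), 0, 0, 0, 0, 0, 0, 0, 0, (-11), (-2), (-2), (-2), 0, (-1), (-4), 0, 0, 0, 0, 0, 0, 0, 0, 0, 0],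
    [0, 0, 0, 0, 0, 0, 0, 0, 0, 0, 0, (-1), (-1), 0, 0, (-2), (-2), 0, 0, 0, (-1), (-1), (-1), (-1), (-1), 0, (-1), 0, 0, 0, (-3), (-3), (-2), (-3), (-1), (-1), 0, 0, 0, 0, 0, (-1), (-3), (-1), (-2), 0, 0, 0, 0, 0, (-1), (-2), 0, (-1), 0, 0, 0, 0, 0, 0, (-8), (-5), (-7), 0, 0, 0, 0, 0, 0, 0, (-1), (-3), 0, 0, 0, 0, 0, 0, 0, 0, (-1), (-2), 0, 0, (-2), 0, 0, (-2), (-3), 0, 0, 0, 0, 0, 0, 0, 0],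
    [0, 0, 0, 0, 0, 0, 0, 0, 0, 0, 0, 0, 0, 0, 0, 0, 0, 0, 0, 0, (-1), (-1), (-1), (-1), (-1), (-2), (-1), 0, 0, 0, (-2), (-2), (-1), (-3), (-2), (-3), 0, 0, 0, 0, 0, (-1), (-4), (-2), (-2), 0, 0, 0, 0, 0, (-1), (-3), (-2), (-3), 0, 0, 0, 0, 0, 0, (-5), (-3), (-6), 0, 0, 0, 0, 0, 0, 0, (-2), (-6), 0, 0, 0, 0, 0, 0, 0, 0, (-5), 0, (-2), (-1), (-2), (-1), (-2), (-1), (-2), 0, 0, 0, 0, 0, 0, 0, 0],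
    [0, 0, 0, 0, 0, 0, 0, 0, 0, 0, (-1), (-1), 0, (-1), 0, (-1), 0, 0, 0, 0, (-1), (-1), (-1), (-1), 0, (-1), 0, 0, 0, 0, (-1), 0, 0, (-1), 0, 0, 0, 0, 0, 0, (-1), (-1), (-2), (-1), 0, 0, 0, 0, 0, 0, (-1), 0, 0, (-1), 0, 0, 0, 0, 0, 0, (-3), (-2), (-3), 0, 0, 0, 0, 0, 0, 0, 0, (-2), 0, 0, 0, 0, 0, 0, 0, 0, (-2), 0, 0, 0, 0, 0, 0, 0, 0, 0, 0, 0, 0, (-2), (-1), 0, 0],
    [0, 0, 0, 0, 0, 0, 0, 0, 0, 0, (-1), (-1), 0, (-1), 0, 0, (-1), (-1), 0, 0, (-1), (-1), (-1), (-1), (-1), 0, (-1), 0, 0, 0, (-1), 0, 0, (-1), 0, 0, 0, 0, 0, 0, (-1), (-1), (-1), 0, 0, 0, 0, 0, 0, 0, (-1), 0, 0, (-1), 0, 0, 0, 0, 0, 0, (-1), 0, (-3), 0, 0, 0, 0, 0, 0, 0, (-2), (-1), 0, 0, 0, 0, 0, 0, 0, 0, (-4), 0, 0, 0, 0, 0, 0, 0, 0, 0, 0, 0, (-2), 0, 0, 0, 0],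
    [(-1), (-1), 0, (-1), 0, (-1), (-1), (-1), (-1), 0, (-1), 0, (-1), (-1), (-2), (-1), (-2), (-1), 0, 0, 0, 0, 0, 0, 0, 0, 0, 0, 0, 0, (-1), 0, (-2), (-1), (-2), 0, 0, 0, 0, 0, (-1), (-1), (-1), 0, (-1), 0, 0, 0, 0, 0, (-1), (-4), (-4), (-1), 0, 0, 0, 0, 0, 0, (-3), (-3), (-3), 0, 0, 0, 0, 0, 0, 0, (-3), (-1), 0, 0, 0, 0, 0, 0, 0, 0, (-6), 0, 0, 0, 0, 0, 0, 0, 0, 0, 0, (-2), 0, 0, 0, 0, 0],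
    [1, 0, 1, 1, 1, 0, 0, 0, 0, 0, (-1), (-1), 0, (-1), (-1), (-1), (-1), (-1), 0, 0, 0, (-1), 1, 2, (-1), 2, (-1), 0, 0, 0, 1, 2, 0, 0, 2, 1, 0, 0, 0, 0, 1, (-1), 1, 3, 0, 0, 0, 0, 0, 0, 0, 1, (-3), 2, 0, 0, 0, 0, 0, 0, 1, (-3), 0, 0, 0, 0, 0, 0, 0, 0, 0, 2, 0, 0, 0, 0, 0, 0, 0, 0, 0, 0, 0, 0, 0, 0, 0, 0, 0, (-2), 0, 0, 0, 0, (-1), 0, 0],
    [1, 0, 1, 1, 1, 0, 0, 1, 0, 0, (-2), (-2), 0, (-2), (-2), (-2), (-2), (-2), 0, 0, (-1), (-2), 0, 0, (-2), 1, (-1), 0, 0, 0, 0, 2, 0, (-1), 3, 2, 0, 0, 0, 0, 0, (-3), (-1), 2, 0, 0, 0, 0, 0, 0, (-1), 0, (-3), 0, 0, 0, 0, 0, 0, 0, (-3), (-6), (-3), 0, 0, 0, 0, 0, 0, 0, 0, (-2), 0, 0, 0, 0, 0, 0, 0, 0, (-3), 0, 0, 0, 0, 0, 0, 0, 0, (-2), 0, 0, 0, (-2), (-3), 0, 0]]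
  lam := [[0, 0, 0, 0, 0, 0, 0, 0, 0, 0, 0, 0, 0, 0, 0, 0, 0, 0, 0, 0, 0, 0, 0, 0, 0, 0, 0, 0, 0, 0, 0, 0, 0, 0, 0, 0, 0, 0, 0, 0, 0, 0, 0, 0, 0, 0, 0, 0, 0, 0, 0, 0, 0, 0, 0, 0, 0, 0, 0, 0, 0, 0, 0, 0, 0, 0, 0, 0, 0, 0, 0, 0, 0, 0, 0, 0, 0, 0, 0, 0, 0, 0, 0, 0, 0, 0, 0, 0, 0, 0, 0, 0, 0, 0, 0, 0, 0],
    [0, 0, 0, 0, 0, 0, 0, 0, 0, 0, 0, 0, 0, 0, 0, 0, 0, 0, 0, 0, 0, 0, 0, 0, 0, 0, 0, 0, 0, 0, 0, 0, 0, 0, 0, 0, 0, 0, 0, 0, 0, 0, 0, 0, 0, 0, 0, 0, 0, 0, 0, 0, 0, 0, 0, 0, 0, 0, 0, 0, 0, 0, 0, 0, 0, 0, 0, 0, 0, 0, 0, 0, 0, 0, 0, 0, 0, 0, 0, 0, 0, 0, 0, 0, 0, 0, 0, 0, 0, 0, 0, 0, 0, 0, 0, 0, 0],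
    [0, 0, 0, 0, 0, 0, 0, 0, 0, 0, 0, 0, 0, 0, 0, 0, 0, 0, 0, 0, 0, 0, 0, 0, 0, 0, 0, 0, 0, 0, 0, 0, 0, 0, 0, 0, 0, 0, 0, 0, 0, 0, 0, 0, 0, 0, 0, 0, 0, 0, 0, 0, 0, 0, 0, 0, 0, 0, 0, 0, 0, 0, 0, 0, 0, 0, 0, 0, 0, 0, 0, 0, 0, 0, 0, 0, 0, 0, 0, 0, 0, 0, 0, 0, 0, 0, 0, 0, 0, 0, 0, 0, 0, 0, 0, 0, 0],
    [0, 0, 0, 0, 0, 0, 0, 0, 0, 0, 0, 0, 0, 0, 0, 0, 0, 0, 0, 0, 0, 0, 0, 0, 0, 0, 0, 0, 0, 0, 0, 0, 0, 0, 0, 0, 0, 0, 0, 0, 1, 0, 0, 0, 0, 0, 0, 0, 0, 0, 0, 0, 0, 0, 0, 0, 0, 0, 0, 0, 0, 0, 0, 0, 0, 0, 0, 0, 0, 0, 0, 0, 0, 0, 0, 0, 0, 0, 0, 0, 0, 0, 0, 0, 0, 0, 0, 1, 0, 0, 0, 0, 0, 0, 0, 0, 0],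
    [0, 0, 1, 0, 0, 0, 0, 0, 0, 0, 0, 0, 0, 0, 0, 0, 0, 0, 0, 0, 0, 0, 0, 0, 0, 0, 0, 0, 0, 0, 0, 0, 0, 0, 0, 0, 0, 0, 0, 0, 1, 0, 0, 0, 0, 0, 0, 0, 0, 0, 0, 0, 0, 0, 0, 0, 0, 0, 0, 0, 0, 0, 0, 0, 0, 0, 0, 0, 0, 0, 0, 0, 0, 0, 0, 0, 0, 0, 0, 0, 0, 0, 0, 0, 0, 0, 0, 1, 0, 0, 0, 0, 0, 0, 0, 0, 0],
    [0, 0, 0, 0, 0, 0, 0, 0, 0, 0, 0, 0, 0, 0, 0, 0, 0, 0, 0, 0, 0, 0, 0, 0, 0, 0, 0, 0, 0, 0, 0, 0, 0, 0, 0, 0, 0, 0, 0, 0, 1, 0, 0, 0, 0, 0, 0, 0, 0, 0, 0, 0, 0, 0, 0, 0, 0, 0, 0, 0, 0, 0, 0, 0, 0, 0, 0, 0, 0, 0, 0, 0, 0, 0, 0, 0, 0, 0, 0, 0, 0, 0, 0, 1, 0, 0, 1, 0, 0, 0, 0, 0, 0, 0, 0, 0, 0],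
    [0, 0, 0, 0, 0, 0, 0, 0, 0, 0, 0, 0, 0, 0, 0, 0, 0, 0, 0, 0, 0, 0, 0, 0, 0, 0, 0, 0, 0, 0, 0, 0, 0, 0, 0, 0, 0, 0, 0, 0, 0, 0, 0, 0, 0, 0, 0, 0, 0, 0, 0, 0, 0, 0, 0, 0, 0, 0, 0, 0, 0, 0, 0, 0, 0, 0, 0, 0, 0, 0, 0, 0, 0, 0, 0, 0, 0, 0, 0, 0, 0, 0, 0, 0, 0, 0, 1, 0, 1, 0, 0, 0, 0, 0, 0, 0, 0],
    [0, 0, 0, 0, 0, 0, 0, 0, 0, 0, 0, 0, 0, 0, 0, 0, 0, 0, 0, 0, 0, 0, 0, 0, 0, 0, 0, 0, 0, 0, 0, 0, 0, 0, 0, 0, 0, 0, 0, 0, 1, 0, 0, 0, 0, 0, 0, 0, 0, 0, 0, 0, 0, 0, 0, 0, 0, 0, 0, 0, 0, 0, 0, 0, 0, 0, 0, 0, 0, 0, 0, 0, 0, 0, 0, 0, 0, 0, 0, 0, 0, 0, 0, 0, 0, 0, 0, 0, 0, 0, 0, 0, 0, 0, 0, 0, 0],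
    [0, 0, 0, 0, 0, 0, 0, 0, 0, 0, 0, 0, 0, 0, 0, 0, 0, 0, 0, 0, 0, 0, 0, 0, 0, 0, 0, 0, 0, 0, 0, 0, 0, 0, 0, 0, 0, 0, 0, 0, 0, 0, 0, 0, 0, 0, 0, 0, 0, 0, 0, 0, 0, 0, 0, 0, 0, 0, 0, 0, 0, 0, 0, 0, 0, 0, 0, 0, 0, 0, 0, 0, 0, 0, 0, 0, 0, 0, 0, 0, 0, 0, 0, 0, 0, 0, 1, 0, 0, 0, 0, 0, 0, 0, 0, 0, 0]]
  j0 := 0
  mu := [0, 0, 0, 0, 0, 0, 0, 0, 0, 0, 0, 0, 0, 0, 0, 0, 0, 0, 0, 0, 0, 0, 0, 0, 0, 0, 0, 0, 0, 0, 0, 0, 0, 0, 0, 0, 0, 0, 0, 0, 0, 0, 0, 0, 0, 0, 0, 0, 0, 0, 0, 0, 0, 0, 0, 0, 0, 0, 0, 0, 0, 0, 0, 0, 0, 0, 0, 0, 0, 0, 0, 0, 0, 0, 0, 0, 0, 0, 0, 0, 0]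
  y1 := [[(1, 1), (3, 1), (4, 1), (10, 1), (11, 1), (12, 1), (13, 1), (14, 1), (16, 1), (20, 1), (21, 1), (23, 1), (25, 1), (28, 1), (31, 1), (33, 1), (34, 1), (35, 1), (36, 1), (40, 1), (41, 1), (44, 1)],
    [(2, 1), (3, 1), (4, 1), (5, 1), (9, 1), (10, 1), (12, 1), (14, 1), (16, 1), (18, 1), (23, 1), (24, 1), (26, 1), (31, 1), (32, 1), (33, 1), (36, 1), (37, 1), (38, 1), (39, 1), (40, 1), (41, 1), (42, 1), (43, 1)],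
    [],
    [(1, 1), (2, 1), (4, 1), (6, 1), (7, 1), (11, 1), (12, 1), (13, 1), (19, 1), (20, 1), (21, 1), (23, 1), (24, 1), (25, 1), (28, 1), (32, 1), (33, 1), (34, 1), (37, 1), (39, 1)],
    [(0, 1), (1, 1), (2, 1), (4, 1), (9, 1), (10, 1), (11, 1), (12, 1), (15, 1), (16, 1), (18, 1), (19, 1), (21, 1), (22, 1), (23, 1), (25, 1), (28, 1), (30, 1), (31, 1), (32, 1), (34, 1), (36, 1), (37, 1), (39, 1), (41, 1), (43, 1), (44, 1)],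
    [(0, 1), (5, 1), (6, 1), (7, 1), (9, 1), (10, 1), (11, 1), (12, 1), (15, 1), (16, 1), (20, 1), (25, 1), (26, 1), (27, 1), (28, 1), (29, 1), (30, 1), (31, 1), (32, 1), (34, 1), (36, 1), (37, 1), (39, 1), (41, 1), (43, 1), (44, 1)],
    [(5, 1), (6, 1), (13, 1), (14, 1), (19, 1), (20, 1), (22, 1), (27, 1), (28, 1), (29, 1), (35, 1)],
    [(0, 1), (1, 1), (2, 1), (4, 1), (5, 1), (6, 1), (7, 1), (18, 1), (19, 1), (20, 1), (21, 1), (22, 1), (23, 1), (26, 1), (27, 1)],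
    [(0, 1), (1, 1), (2, 1), (4, 1), (5, 1), (6, 1), (7, 1), (18, 1), (19, 1), (20, 1), (21, 1), (22, 1), (23, 1), (25, 1), (26, 1), (29, 1)],
    [],
    [(0, 1), (2, 1), (6, 1), (8, 1), (19, 1), (20, 1), (23, 1), (29, 1), (31, 1), (33, 1), (38, 1), (41, 1)],
    [(0, 1), (1, 1), (2, 1), (4, 1), (5, 1), (7, 1), (8, 1), (14, 1), (15, 1), (17, 1), (18, 1), (19, 1), (21, 1), (22, 1), (27, 1), (29, 1), (31, 1), (37, 1), (38, 1), (39, 1), (41, 1), (43, 1), (44, 1)],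
    [(1, 1), (2, 1), (4, 1), (8, 1), (10, 1), (11, 1), (15, 1), (17, 1), (18, 1), (22, 1), (23, 1), (27, 1), (28, 1), (29, 1), (30, 1), (33, 1), (34, 1), (36, 1), (37, 1), (39, 1)],
    [(1, 1), (2, 1), (3, 1), (4, 1), (5, 1), (6, 1), (7, 1), (8, 1), (11, 1), (13, 1), (14, 1), (15, 1), (20, 1), (22, 1), (27, 1), (28, 1), (29, 1), (31, 1), (32, 1), (35, 1), (41, 1), (43, 1), (44, 1)],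
    [(1, 1), (2, 1), (4, 1), (5, 1), (7, 1), (8, 1), (9, 1), (10, 1), (11, 1), (15, 1), (16, 1), (17, 1), (18, 1), (20, 1), (24, 1), (25, 1), (26, 1), (30, 1), (31, 1), (34, 1), (35, 1), (36, 1), (37, 1), (39, 1)],
    [(5, 1), (7, 1), (8, 1), (9, 1), (20, 1), (21, 1), (23, 1), (25, 1), (26, 1), (27, 1), (28, 1)],
    [(0, 1), (1, 1), (2, 1), (6, 1), (7, 1), (8, 1), (9, 1), (12, 1), (13, 1), (14, 1), (18, 1), (21, 1), (22, 1), (23, 1), (26, 1), (27, 1), (28, 1), (32, 1), (35, 1), (41, 1), (43, 1), (44, 1)],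
    [(7, 1), (17, 1), (20, 1), (21, 1), (22, 1), (23, 1), (26, 1), (27, 1), (28, 1), (29, 1)],
    [],
    [],
    [(0, 1), (1, 1), (2, 1), (4, 1), (5, 1), (8, 1), (9, 1), (13, 1), (14, 1), (15, 1), (18, 1), (25, 1), (27, 1), (29, 1), (30, 1), (31, 1), (34, 1), (35, 1), (41, 1), (43, 1), (44, 1)],
    [(1, 1), (2, 1), (4, 1), (7, 1), (8, 1), (10, 1), (11, 1), (12, 1), (15, 1), (16, 1), (17, 1), (18, 1), (21, 1), (22, 1), (23, 1), (24, 1), (32, 1)],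
    [(0, 1), (2, 1), (3, 1), (4, 1), (6, 1), (9, 1), (10, 1), (12, 1), (13, 1), (15, 1), (19, 1), (23, 1), (24, 1), (26, 1), (27, 1), (30, 1), (32, 1), (36, 1)],
    [(6, 1), (8, 1), (9, 1), (12, 1), (13, 1), (15, 1), (17, 1), (18, 1), (19, 1), (20, 1), (22, 1), (24, 1), (25, 1), (26, 1), (29, 1), (34, 1), (35, 1), (36, 1), (37, 1), (39, 1)],
    [(5, 1), (6, 1), (8, 1), (9, 1), (14, 1), (15, 1), (20, 1), (21, 1), (23, 1), (25, 1), (26, 1), (27, 1), (28, 1), (32, 1)],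
    [(0, 1), (5, 1), (7, 1), (9, 1), (10, 1), (11, 1), (12, 1), (14, 1), (15, 1), (18, 1), (19, 1), (22, 1), (24, 1), (26, 1), (27, 1), (29, 1), (30, 1), (31, 1), (35, 1), (41, 1), (43, 1), (44, 1)],
    [(9, 1), (15, 1), (20, 1), (24, 1), (26, 1), (27, 1), (28, 1), (29, 1)],
    [],
    [],
    [],
    [(2, 1), (3, 1), (4, 1), (7, 1), (11, 1), (15, 1), (17, 1), (18, 1), (19, 1), (20, 1), (21, 1), (22, 1), (23, 1), (26, 1), (28, 1), (31, 1), (32, 1), (33, 1), (35, 1), (41, 1), (43, 1), (44, 1)],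
    [(0, 1), (7, 1), (10, 1), (11, 1), (12, 1), (13, 1), (14, 1), (15, 1), (16, 1), (17, 1), (18, 1), (22, 1), (26, 1), (27, 1), (28, 1), (30, 1), (31, 1), (32, 1), (34, 1), (35, 1), (36, 1), (37, 1), (39, 1), (41, 1), (43, 1), (44, 1)],
    [(21, 1), (22, 1), (23, 1), (24, 1), (32, 1)],
    [(21, 1), (22, 1), (23, 1), (24, 1)],
    [(8, 1), (9, 1), (16, 1), (17, 1)],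
    [(9, 1), (17, 1)],
    [],
    [],
    [],
    [],
    [],
    [(8, 1), (13, 1), (14, 1), (17, 1), (19, 1), (20, 1), (25, 1), (27, 1), (35, 1)],
    [(9, 1), (17, 1), (20, 1), (21, 1), (22, 1), (23, 1), (26, 1), (27, 1), (28, 1), (29, 1)],
    [(0, 1), (1, 1), (2, 1), (4, 1), (5, 1), (6, 1), (7, 1), (8, 1), (9, 1), (18, 1), (19, 1), (20, 1), (21, 1), (22, 1), (23, 1), (25, 1), (26, 1), (29, 1)],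
    [(9, 1)],
    [],
    [],
    [],
    [],
    [],
    [(2, 1), (3, 1), (4, 1), (7, 1), (8, 1), (9, 1), (11, 1), (13, 1), (14, 1), (15, 1), (16, 1), (23, 1), (25, 1), (27, 1), (31, 1), (41, 1), (43, 1), (44, 1)],
    [(9, 1), (13, 1), (14, 1), (17, 1), (18, 1), (19, 1), (20, 1), (24, 1), (25, 1), (26, 1), (27, 1), (28, 1), (29, 1)],
    [(0, 1), (1, 1), (2, 1), (4, 1), (5, 1), (6, 1), (7, 1), (9, 1), (13, 1), (14, 1), (20, 1), (23, 1), (26, 1), (27, 1), (29, 1)],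
    [(0, 1), (1, 1), (2, 1), (4, 1), (5, 1), (6, 1), (7, 1), (9, 1), (13, 1), (14, 1), (20, 1), (24, 1), (26, 1), (27, 1), (29, 1)],
    [],
    [],
    [],
    [],
    [],
    [],
    [(0, 1), (1, 1), (2, 1), (4, 1), (7, 1), (13, 1), (14, 1), (17, 1), (20, 1), (22, 1), (25, 1), (27, 1)],
    [(13, 1), (14, 1), (18, 1), (19, 1), (20, 1), (22, 1), (25, 1), (26, 1), (27, 1), (29, 1)],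
    [(28, 1)],
    [],
    [],
    [],
    [],
    [],
    [],
    [],
    [(0, 1), (1, 1), (3, 1), (5, 1), (6, 1), (11, 1), (15, 1), (20, 1), (21, 1), (22, 1), (23, 1), (25, 1), (26, 1), (28, 1), (29, 1), (31, 1), (32, 1), (35, 1), (41, 1), (43, 1), (44, 1)],
    [(0, 1), (1, 1), (2, 1), (4, 1), (5, 1), (6, 1), (7, 1), (9, 1), (13, 1), (14, 1), (20, 1), (26, 1), (27, 1), (29, 1)],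
    [],
    [],
    [],
    [],
    [],
    [],
    [],
    [],
    [(5, 1), (6, 1), (13, 1), (14, 1), (18, 1), (19, 1), (20, 1), (22, 1), (27, 1), (29, 1)]]
  y2 := [[(1, 1), (3, 1), (4, 1), (10, 1), (11, 1), (12, 1), (13, 1), (14, 1), (16, 1), (20, 1), (21, 1), (23, 1), (25, 1), (28, 1), (31, 1), (33, 1), (34, 1), (35, 1), (36, 1), (40, 1), (41, 1), (44, 1)],
    [(2, 1), (3, 1), (4, 1), (5, 1), (9, 1), (10, 1), (12, 1), (14, 1), (16, 1), (18, 1), (23, 1), (24, 1), (26, 1), (31, 1), (32, 1), (33, 1), (36, 1), (37, 1), (38, 1), (39, 1), (40, 1), (41, 1), (42, 1), (43, 1)],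
    [],
    [(1, 1), (2, 1), (4, 1), (6, 1), (7, 1), (11, 1), (12, 1), (13, 1), (19, 1), (20, 1), (21, 1), (23, 1), (24, 1), (25, 1), (28, 1), (32, 1), (33, 1), (34, 1), (37, 1), (39, 1)],
    [(0, 1), (1, 1), (2, 1), (4, 1), (9, 1), (10, 1), (11, 1), (12, 1), (15, 1), (16, 1), (18, 1), (19, 1), (21, 1), (22, 1), (23, 1), (25, 1), (28, 1), (30, 1), (31, 1), (32, 1), (34, 1), (36, 1), (37, 1), (39, 1), (41, 1), (43, 1), (44, 1)],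
    [(0, 1), (5, 1), (6, 1), (7, 1), (9, 1), (10, 1), (11, 1), (12, 1), (15, 1), (16, 1), (20, 1), (25, 1), (26, 1), (27, 1), (28, 1), (29, 1), (30, 1), (31, 1), (32, 1), (34, 1), (36, 1), (37, 1), (39, 1), (41, 1), (43, 1), (44, 1)],
    [(5, 1), (6, 1), (13, 1), (14, 1), (19, 1), (20, 1), (22, 1), (27, 1), (28, 1), (29, 1), (35, 1)],
    [(0, 1), (1, 1), (2, 1), (4, 1), (5, 1), (6, 1), (7, 1), (18, 1), (19, 1), (20, 1), (21, 1), (22, 1), (23, 1), (26, 1), (27, 1)],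
    [(0, 1), (1, 1), (2, 1), (4, 1), (5, 1), (6, 1), (7, 1), (18, 1), (19, 1), (20, 1), (21, 1), (22, 1), (23, 1), (25, 1), (26, 1), (29, 1)],
    [],
    [(0, 1), (2, 1), (6, 1), (8, 1), (19, 1), (20, 1), (23, 1), (29, 1), (31, 1), (33, 1), (38, 1), (41, 1)],
    [(0, 1), (1, 1), (2, 1), (4, 1), (5, 1), (7, 1), (8, 1), (14, 1), (15, 1), (17, 1), (18, 1), (19, 1), (21, 1), (22, 1), (27, 1), (29, 1), (31, 1), (37, 1), (38, 1), (39, 1), (41, 1), (43, 1), (44, 1)],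
    [(1, 1), (2, 1), (4, 1), (8, 1), (10, 1), (11, 1), (15, 1), (17, 1), (18, 1), (22, 1), (23, 1), (27, 1), (28, 1), (29, 1), (30, 1), (33, 1), (34, 1), (36, 1), (37, 1), (39, 1)],
    [(1, 1), (2, 1), (3, 1), (4, 1), (5, 1), (6, 1), (7, 1), (8, 1), (11, 1), (13, 1), (14, 1), (15, 1), (20, 1), (22, 1), (27, 1), (28, 1), (29, 1), (31, 1), (32, 1), (35, 1), (41, 1), (43, 1), (44, 1)],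
    [(1, 1), (2, 1), (4, 1), (5, 1), (7, 1), (8, 1), (9, 1), (10, 1), (11, 1), (15, 1), (16, 1), (17, 1), (18, 1), (20, 1), (24, 1), (25, 1), (26, 1), (30, 1), (31, 1), (34, 1), (35, 1), (36, 1), (37, 1), (39, 1)],
    [(5, 1), (7, 1), (8, 1), (9, 1), (20, 1), (21, 1), (23, 1), (25, 1), (26, 1), (27, 1), (28, 1)],
    [(0, 1), (1, 1), (2, 1), (6, 1), (7, 1), (8, 1), (9, 1), (12, 1), (13, 1), (14, 1), (18, 1), (21, 1), (22, 1), (23, 1), (26, 1), (27, 1), (28, 1), (32, 1), (35, 1), (41, 1), (43, 1), (44, 1)],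
    [(7, 1), (17, 1), (20, 1), (21, 1), (22, 1), (23, 1), (26, 1), (27, 1), (28, 1), (29, 1)],
    [],
    [],
    [(0, 1), (1, 1), (2, 1), (4, 1), (5, 1), (8, 1), (9, 1), (13, 1), (14, 1), (15, 1), (18, 1), (25, 1), (27, 1), (29, 1), (30, 1), (31, 1), (34, 1), (35, 1), (41, 1), (43, 1), (44, 1)],
    [(1, 1), (2, 1), (4, 1), (7, 1), (8, 1), (10, 1), (11, 1), (12, 1), (15, 1), (16, 1), (17, 1), (18, 1), (21, 1), (22, 1), (23, 1), (24, 1), (32, 1)],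
    [(0, 1), (2, 1), (3, 1), (4, 1), (6, 1), (9, 1), (10, 1), (12, 1), (13, 1), (15, 1), (19, 1), (23, 1), (24, 1), (26, 1), (27, 1), (30, 1), (32, 1), (36, 1)],
    [(6, 1), (8, 1), (9, 1), (12, 1), (13, 1), (15, 1), (17, 1), (18, 1), (19, 1), (20, 1), (22, 1), (24, 1), (25, 1), (26, 1), (29, 1), (34, 1), (35, 1), (36, 1), (37, 1), (39, 1)],
    [(5, 1), (6, 1), (8, 1), (9, 1), (14, 1), (15, 1), (20, 1), (21, 1), (23, 1), (25, 1), (26, 1), (27, 1), (28, 1), (32, 1)],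
    [(0, 1), (5, 1), (7, 1), (9, 1), (10, 1), (11, 1), (12, 1), (14, 1), (15, 1), (18, 1), (19, 1), (22, 1), (24, 1), (26, 1), (27, 1), (29, 1), (30, 1), (31, 1), (35, 1), (41, 1), (43, 1), (44, 1)],
    [(9, 1), (15, 1), (20, 1), (24, 1), (26, 1), (27, 1), (28, 1), (29, 1)],
    [],
    [],
    [],
    [(2, 1), (3, 1), (4, 1), (7, 1), (11, 1), (15, 1), (17, 1), (18, 1), (19, 1), (20, 1), (21, 1), (22, 1), (23, 1), (26, 1), (28, 1), (31, 1), (32, 1), (33, 1), (35, 1), (41, 1), (43, 1), (44, 1)],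
    [(0, 1), (7, 1), (10, 1), (11, 1), (12, 1), (13, 1), (14, 1), (15, 1), (16, 1), (17, 1), (18, 1), (22, 1), (26, 1), (27, 1), (28, 1), (30, 1), (31, 1), (32, 1), (34, 1), (35, 1), (36, 1), (37, 1), (39, 1), (41, 1), (43, 1), (44, 1)],
    [(21, 1), (22, 1), (23, 1), (24, 1), (32, 1)],
    [(21, 1), (22, 1), (23, 1), (24, 1)],
    [(8, 1), (9, 1), (16, 1), (17, 1)],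
    [(9, 1), (17, 1)],
    [],
    [],
    [],
    [],
    [],
    [(8, 1), (13, 1), (14, 1), (17, 1), (19, 1), (20, 1), (25, 1), (27, 1), (35, 1)],
    [(9, 1), (17, 1), (20, 1), (21, 1), (22, 1), (23, 1), (26, 1), (27, 1), (28, 1), (29, 1)],
    [(0, 1), (1, 1), (2, 1), (4, 1), (5, 1), (6, 1), (7, 1), (8, 1), (9, 1), (18, 1), (19, 1), (20, 1), (21, 1), (22, 1), (23, 1), (25, 1), (26, 1), (29, 1)],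
    [(9, 1)],
    [],
    [],
    [],
    [],
    [],
    [(2, 1), (3, 1), (4, 1), (7, 1), (8, 1), (9, 1), (11, 1), (13, 1), (14, 1), (15, 1), (16, 1), (23, 1), (25, 1), (27, 1), (31, 1), (41, 1), (43, 1), (44, 1)],
    [(9, 1), (13, 1), (14, 1), (17, 1), (18, 1), (19, 1), (20, 1), (24, 1), (25, 1), (26, 1), (27, 1), (28, 1), (29, 1)],
    [(0, 1), (1, 1), (2, 1), (4, 1), (5, 1), (6, 1), (7, 1), (9, 1), (13, 1), (14, 1), (20, 1), (23, 1), (26, 1), (27, 1), (29, 1)],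
    [(0, 1), (1, 1), (2, 1), (4, 1), (5, 1), (6, 1), (7, 1), (9, 1), (13, 1), (14, 1), (20, 1), (24, 1), (26, 1), (27, 1), (29, 1)],
    [],
    [],
    [],
    [],
    [],
    [],
    [(0, 1), (1, 1), (2, 1), (4, 1), (7, 1), (13, 1), (14, 1), (17, 1), (20, 1), (22, 1), (25, 1), (27, 1)],
    [(13, 1), (14, 1), (18, 1), (19, 1), (20, 1), (22, 1), (25, 1), (26, 1), (27, 1), (29, 1)],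
    [(28, 1)],
    [],
    [],
    [],
    [],
    [],
    [],
    [],
    [(0, 1), (1, 1), (3, 1), (5, 1), (6, 1), (11, 1), (15, 1), (20, 1), (21, 1), (22, 1), (23, 1), (25, 1), (26, 1), (28, 1), (29, 1), (31, 1), (32, 1), (35, 1), (41, 1), (43, 1), (44, 1)],
    [(0, 1), (1, 1), (2, 1), (4, 1), (5, 1), (6, 1), (7, 1), (9, 1), (13, 1), (14, 1), (20, 1), (26, 1), (27, 1), (29, 1)],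
    [],
    [],
    [],
    [],
    [],
    [],
    [],
    [],
    [(5, 1), (6, 1), (13, 1), (14, 1), (18, 1), (19, 1), (20, 1), (22, 1), (27, 1), (29, 1)]]

theorem hC : C.check = true := by decide +kernel

def xw : ℕ → WExp Gen
  | 0 => (.mul (.mul (.mul (.mul (.mul (.mul (.mul (.mul (.mul (.mul (.mul (.mul (.of .e) (.inv (.of .g))) (.of .d)) (.of .e)) (.of .c)) (.of .g)) (.of .d)) (.of .e)) (.of .c)) (.of .d)) (.of .c)) (.of .d)) (.of .e))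
  | 1 => (.mul (.mul (.mul (.mul (.mul (.of .d) (.of .c)) (.of .d)) (.of .c)) (.of .a)) (.of .g))
  | 2 => (.mul (.mul (.of .c) (.of .d)) (.of .a))
  | 3 => (.mul (.mul (.mul (.of .d) (.of .c)) (.of .d)) (.of .c))
  | 4 => (.mul (.mul (.of .g) (.of .c)) (.of .a))
  | 5 => (.mul (.mul (.mul (.mul (.mul (.of .d) (.of .c)) (.inv (.of .g))) (.of .d)) (.of .c)) (.of .g))
  | 6 => (.mul (.of .g) (.of .g))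
  | 7 => (.mul (.mul (.mul (.of .g) (.of .c)) (.of .g)) (.of .c))
  | 8 => (.of .a)
  | _ => .of .a

def gw : ℕ → WExp Gen
  | 0 => (.mul (.mul (.mul (.mul (.mul (.mul (.mul (.mul (.mul (.mul (.mul (.mul (.mul (.mul (.mul (.mul (.mul (.mul (.mul (.mul (.mul (.mul (.mul (.mul (.mul (.mul (.mul (.mul (.mul (.mul (.mul (.mul (.mul (.mul (.mul (.mul (.mul (.mul (.mul (.mul (.mul (.mul (.mul (.mul (.mul (.mul (.mul (.mul (.mul (.mul (.mul (.mul (.mul (.mul (.mul (.mul (.mul (.of .e) (.of .d)) (.of .c)) (.inv (.of .g))) (.of .d)) (.of .g)) (.of .e)) (.of .d)) (.of .c)) (.of .d)) (.inv (.of .g))) (.of .b)) (.of .a)) (.of .c)) (.of .b)) (.of .g)) (.of .b)) (.of .d)) (.of .c)) (.of .d)) (.of .d)) (.of .c)) (.of .d)) (.of .b)) (.inv (.of .g)))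 (.of .c)) (.of .g)) (.of .b)) (.of .d)) (.of .c)) (.of .d)) (.of .e)) (.of .d)) (.of .c)) (.of .d)) (.of .b)) (.inv (.of .g))) (.of .c)) (.of .g)) (.of .b)) (.of .d)) (.of .c)) (.of .d)) (.of .e)) (.of .d)) (.of .c)) (.of .d)) (.of .b)) (.inv (.of .g))) (.of .c)) (.of .g)) (.of .b)) (.of .d)) (.of .c)) (.of .d)) (.of .e)) (.of .f)) (.of .e))
  | 1 => (.mul (.mul (.mul (.mul (.mul (.of .g) (.of .e)) (.of .f)) (.of .d)) (.of .e)) (.of .c))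
  | _ => .of .a

theorem hpc : pcChkW isOne C.D xw = true := by decide +kernel

theorem hfus : fusChkW isOne C xw gw = true := by decide +kernel

theorem hinj : injChkW code C.D xw = true := by decide +kernel

theorem lb : LocalBound Cfsg.Spor.ON 2 0 :=
  ub_on C (by norm_num [C]) hC xw gw hpc hfus hinj (by norm_num [C])

end Cfsg.Agent.Lib.Helper63MONP2
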