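import Cfsg.Agent.Lib.Helper63MONM

/-! PC-MULT certificate: O'Nan group, p = 3. -/

set_option autoImplicit false
set_option maxRecDepth 1000000
set_option maxHeartbeats 0

namespace Cfsg.Agent.Lib.Helper63MONP3

open Cfsg Cfsg.Agent.Lib.Helper63PCDefs Cfsg.Agent.Lib.Helper63PCWordDefs Cfsg.Agent.Lib.Helper35TC
  Cfsg.Agent.Lib.Helper63MONM

def C : Cert where
  D := { p := 3, n := 4, pwL := [[], [], [], []], cmL := [[], [], [], [], [], [], [], [], [], [], [], [], [], [], [], []] }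
  k := 1
  f := 57
  R := 4
  fus := [([[0], [1], [2], [3]], [[0, 1, 1], [0, 0, 1, 1], [2, 2, 3], [2, 3]]), ([[0], [1], [2], [3]], [[0, 0, 1, 2], [0, 2, 3, 3], [0, 0, 1, 1, 3], [1, 2, 3]])]
  specs := [(0, [1, 1], [1, 0]),
    (1, [3, 3, 3], []),
    (1, [2, 2, 2], []),
    (1, [1, 1, 1], []),
    (1, [0, 0, 0], []),
    (1, [2, 0, 2, 2, 0, 0], []),
    (1, [3, 0, 3, 3, 0, 0], []),
    (2, [1, 0, 1, 1, 0, 0], []),
    (2, [2, 0, 2, 2, 0, 0], []),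
    (2, [2, 1, 2, 2, 1, 1], [])]
  relV := [[0, (-3), 0, 0, 0, 0, 0, 0, 0, 0, 0, 0, 0, 0, 0, 0, 0, 0, 0, 0, 0, 0, 0, 0],
    [0, 0, 0, 0, 0, 0, 0, 0, 0, 0, (-1), (-3), 0, 0, 0, 0, 0, 0, 0, (-3), 0, 0, 0, 0],
    [0, 0, 0, 0, 0, 0, 0, 0, 0, 0, (-1), (-6), 0, 0, 0, (-1), 0, 0, (-3), 0, 0, 0, 0, 0],
    [(-2), (-6), 0, 0, 0, (-1), 0, 0, 0, 0, 0, 0, 0, 0, 0, 0, 0, (-3), 0, 0, 0, 0, 0, 0],
    [0, (-3), 0, 0, 0, (-2), 0, 0, 0, 0, 0, 0, 0, 0, 0, 0, (-3), 0, 0, 0, 0, 0, 0, 0],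
    [0, (-3), (-1), (-1), 0, (-2), (-4), (-2), 0, 0, (-1), (-6), 0, 0, 0, (-1), (-3), 0, (-3), 0, 0, 0, 0, 0],
    [0, (-3), (-1), 0, 0, (-2), (-2), (-2), 0, 0, (-1), (-3), 0, 0, 0, 0, (-3), 0, 0, (-3), 0, 0, 0, 0],
    [(-2), (-7), (-10), (-7), 0, 0, (-4), (-2), 0, 0, (-2), (-5), 0, 0, 0, (-2), 0, 0, 0, 0, (-3), (-3), 0, 0],
    [(-3), (-14), (-9), (-8), 0, (-3), (-7), (-7), 0, 0, 0, (-1), 0, 0, 0, (-1), 0, 0, 0, 0, (-3), 0, (-3), 0],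
    [(-3), (-8), (-7), (-6), 0, (-1), (-3), (-2), 0, 0, 0, (-4), 0, 0, 0, (-3), 0, 0, 0, 0, 0, (-3), (-3), 0]]
  lam := [[0, 0, 0, 0, 0, 0, 0, 0, 0, 0, 0, 0, 0, 0, 0, 0, 0, 0, 0, 0, 0, 0, 0, 0],
    [0, 0, 0, 0, 0, 0, 0, 0, 0, 0, 0, 0, 0, 0, 0, 0, 0, 0, 0, 0, 0, 0, 0, 0],
    [0, 0, 0, 0, 0, 0, 0, 0, 0, 0, 0, 0, 0, 0, 0, 0, 0, 0, 0, 0, 0, 0, 0, 0],
    [0, 0, 0, 0, 0, 0, 0, 0, 0, 0, 0, 0, 0, 0, 0, 0, 0, 0, 0, 0, 0, 0, 0, 0]]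
  j0 := 1
  mu := [0, 1, 0, 0, 0, 0, 0, 0, 0, 0, 0, 1, 0, 0, 0, 0]
  y1 := [[(3, 4), (4, 4)],
    [],
    [(1, 1), (2, 7), (3, 8), (4, 5), (5, 4), (6, 7), (7, 4), (8, 2), (9, 8)],
    [(1, 4), (2, 2), (3, 1), (4, 7), (5, 3), (6, 8), (7, 5), (8, 6), (9, 8)],
    [],
    [(4, 4)],
    [(1, 5), (2, 1), (3, 1), (4, 7), (5, 4), (6, 7), (7, 5), (8, 6), (9, 8)],
    [(1, 7), (2, 3), (3, 7), (4, 6), (5, 3), (6, 7), (7, 8), (8, 5)],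
    [],
    [],
    [(1, 8)],
    [(1, 3), (2, 5), (3, 8), (4, 6), (5, 2), (6, 6), (7, 1)],
    [],
    [],
    [],
    [(1, 1), (2, 8)]]
  y2 := [[(3, 3), (4, 3)],
    [(0, 5)],
    [(1, 3), (2, 3), (3, 6), (4, 6), (5, 3), (6, 3), (7, 3), (8, 6), (9, 6)],
    [(1, 3), (2, 6), (3, 3), (4, 3), (6, 6), (7, 6), (9, 6)],
    [],
    [(4, 3)],
    [(1, 6), (2, 3), (3, 3), (4, 3), (5, 3), (6, 3), (7, 6), (9, 6)],
    [(1, 3), (3, 3), (6, 3), (7, 6), (8, 6)],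
    [],
    [],
    [(1, 6)],
    [(0, 5), (2, 6), (3, 6), (5, 6), (7, 3)],
    [],
    [],
    [],
    [(1, 3), (2, 6)]]

theorem hC : C.check = true := by decide +kernel

def xw : ℕ → WExp Gen
  | 0 => (.mul (.of .a) (.of .b))
  | 1 => (.mul (.mul (.mul (.inv (.of .g)) (.of .a)) (.of .b)) (.of .g))
  | 2 => (.mul (.of .f) (.of .e))
  | 3 => (.mul (.mul (.mul (.inv (.of .g)) (.of .f)) (.of .e)) (.of .g))
  | _ => .of .a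

def gw : ℕ → WExp Gen
  | 0 => (.mul (.mul (.inv (.mul (.mul (.mul (.mul (.mul (.mul (.mul (.mul (.mul (.mul (.mul (.mul (.mul (.mul (.mul (.mul (.mul (.mul (.mul (.mul (.mul (.mul (.mul (.mul (.mul (.mul (.mul (.mul (.mul (.mul (.mul (.mul (.mul (.mul (.mul (.mul (.mul (.mul (.mul (.mul (.of .b) (.of .a)) (.of .c)) (.of .b)) (.of .g)) (.of .d)) (.of .c)) (.of .b)) (.of .b)) (.of .c)) (.of .d)) (.inv (.of .g))) (.of .c)) (.of .g)) (.of .d)) (.of .c)) (.of .b)) (.of .g)) (.of .g)) (.of .b)) (.of .c)) (.of .d)) (.inv (.of .g))) (.of .c)) (.of .g)) (.of .d)) (.of .c)) (.of .b)) (.of .g)) (.of .g)) (.of .b)) (.of .c)) (.of .d)) (.inv (.of .g))) (.of .c)) (.of .g)) (.of .d)) (.of .c)) (.of .b)) (.of .g)) (.of .g))) (.mul (.mul (.mul (.mul (.mul (.of .g) (.of .d)) (.of .g)) (.of .c)) (.of .d)) (.of .c))) (.mul (.mul (.mul (.mul (.mul (.mul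 (.mul (.mul (.mul (.mul (.mul (.mul (.mul (.mul (.mul (.mul (.mul (.mul (.mul (.mul (.mul (.mul (.mul (.mul (.mul (.mul (.mul (.mul (.mul (.mul (.mul (.mul (.mul (.mul (.mul (.mul (.mul (.mul (.mul (.mul (.of .b) (.of .a)) (.of .c)) (.of .b)) (.of .g)) (.of .d)) (.of .c)) (.of .b)) (.of .b)) (.of .c)) (.of .d)) (.inv (.of .g))) (.of .c)) (.of .g)) (.of .d)) (.of .c)) (.of .b)) (.of .g)) (.of .g)) (.of .b)) (.of .c)) (.of .d)) (.inv (.of .g))) (.of .c)) (.of .g)) (.of .d)) (.of .c)) (.of .b)) (.of .g)) (.of .g)) (.of .b)) (.of .c)) (.of .d)) (.inv (.of .g))) (.of .c)) (.of .g)) (.of .d)) (.of .c)) (.of .b)) (.of .g)) (.of .g)))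
  | 1 => (.mul (.mul (.inv (.mul (.mul (.mul (.mul (.mul (.mul (.mul (.mul (.mul (.mul (.mul (.mul (.mul (.mul (.mul (.mul (.mul (.mul (.mul (.mul (.mul (.mul (.mul (.mul (.mul (.mul (.mul (.mul (.mul (.mul (.mul (.mul (.mul (.mul (.mul (.mul (.mul (.mul (.mul (.mul (.of .b) (.of .a)) (.of .c)) (.of .b)) (.of .g)) (.of .d)) (.of .c)) (.of .b)) (.of .b)) (.of .c)) (.of .d)) (.inv (.of .g))) (.of .c)) (.of .g)) (.of .d)) (.of .c)) (.of .b)) (.of .g)) (.of .g)) (.of .b)) (.of .c)) (.of .d)) (.inv (.of .g))) (.of .c)) (.of .g)) (.of .d)) (.of .c)) (.of .b)) (.of .g)) (.of .g)) (.of .b)) (.of .c)) (.of .d)) (.inv (.of .g))) (.of .c)) (.of .g)) (.of .d)) (.of .c)) (.of .b)) (.of .g)) (.of .g))) (.mul (.mul (.mul (.mul (.mul (.mul (.mul (.mul (.of .e) (.of .g)) (.of .d)) (.of .e)) (.inv (.of .g))) (.of .c)) (.of .d)) (.of .g)) (.of .e))) (.mul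 (.mul (.mul (.mul (.mul (.mul (.mul (.mul (.mul (.mul (.mul (.mul (.mul (.mul (.mul (.mul (.mul (.mul (.mul (.mul (.mul (.mul (.mul (.mul (.mul (.mul (.mul (.mul (.mul (.mul (.mul (.mul (.mul (.mul (.mul (.mul (.mul (.mul (.mul (.mul (.of .b) (.of .a)) (.of .c)) (.of .b)) (.of .g)) (.of .d)) (.of .c)) (.of .b)) (.of .b)) (.of .c)) (.of .d)) (.inv (.of .g))) (.of .c)) (.of .g)) (.of .d)) (.of .c)) (.of .b)) (.of .g)) (.of .g)) (.of .b)) (.of .c)) (.of .d)) (.inv (.of .g))) (.of .c)) (.of .g)) (.of .d)) (.of .c)) (.of .b)) (.of .g)) (.of .g)) (.of .b)) (.of .c)) (.of .d)) (.inv (.of .g))) (.of .c)) (.of .g)) (.of .d)) (.of .c)) (.of .b)) (.of .g)) (.of .g)))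
  | _ => .of .a

theorem hpc : pcChkW isOne C.D xw = true := by decide +kernel

theorem hfus : fusChkW isOne C xw gw = true := by decide +kernel

theorem hinj : injChkW code C.D xw = true := by decide +kernel

theorem lb : LocalBound Cfsg.Spor.ON 3 1 :=
  ub_on C (by norm_num [C]) hC xw gw hpc hfus hinj (by norm_num [C])

end Cfsg.Agent.Lib.Helper63MONP3
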