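import Cfsg.Agent.Lib.Helper63MONM

/-! PC-MULT certificate: O'Nan group, p = 7. -/

set_option autoImplicit false
set_option maxRecDepth 1000000
set_option maxHeartbeats 0

namespace Cfsg.Agent.Lib.Helper63MONP7

open Cfsg Cfsg.Agent.Lib.Helper63PCDefs Cfsg.Agent.Lib.Helper63PCWordDefs Cfsg.Agent.Lib.Helper35TC
  Cfsg.Agent.Lib.Helper63MONM

def C : Cert where
  D := { p := 7, n := 3, pwL := [[], [], []], cmL := [[], [2, 2, 2, 2], [], [], [], [], [], [], []] }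
  k := 0
  f := 181
  R := 3
  fus := [([[0], [1], [2]], [[0, 0, 0, 2, 2, 2], [1, 1, 1, 2, 2, 2, 2, 2, 2], [2, 2]])]
  specs := [(0, [1, 1, 1, 1, 1, 1], [1, 0]),
    (1, [1, 1, 1, 1, 1, 1, 1], []),
    (1, [0, 0, 0, 0, 0, 0, 0], []),
    (1, [1, 0, 2, 2, 2, 2, 2, 2, 2, 2, 2, 2, 2, 2, 2, 2, 2, 2, 2, 2, 2, 2, 2, 2, 2, 2, 1, 1, 1, 1, 1, 1, 0, 0, 0, 0, 0, 0], []),
    (1, [2, 0, 2, 2, 2, 2, 2, 2, 0, 0, 0, 0, 0, 0], []),
    (1, [2, 1, 2, 2, 2, 2, 2, 2, 1, 1, 1, 1, 1, 1], [])]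
  relV := [[0, (-7), 0, 0, 0, (-21), 0, 0, (-4), 0, 0, 0],
    [0, 0, 0, 0, (-2), (-63), 0, 0, (-6), 0, (-7), 0],
    [(-2), 0, (-63), 0, 0, 0, 0, 0, (-3), (-7), 0, 0],
    [(-2), (-8), (-75), 0, (-2), (-69), 0, 0, (-17), (-7), (-7), (-24)],
    [(-2), 0, (-68), 0, 0, 0, 0, 0, (-4), (-7), 0, (-7)],
    [0, 0, 0, 0, (-2), (-68), 0, 0, (-7), 0, (-7), (-7)]]
  lam := [[0, 0, 0, 0, 0, 0, 0, 0, 0, 0, 0, 0],
    [0, 0, 0, 0, 0, 0, 0, 0, 0, 0, 0, 0],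
    [0, 0, 0, 0, 0, 0, 0, 0, 0, 0, 0, 1]]
  j0 := 0
  mu := [0, 0, 0, 0, 0, 0, 0, 0, 0]
  y1 := [[(0, 3), (2, 3)],
    [(0, 6), (1, 4), (3, 6), (4, 1), (5, 4)],
    [(0, 6), (2, 3), (4, 4)],
    [],
    [(0, 6), (1, 3)],
    [(0, 6), (1, 3), (5, 4)],
    [],
    [],
    [(0, 5)]]
  y2 := [[(0, 3), (2, 3)],
    [(0, 6), (1, 4), (3, 6), (4, 1), (5, 4)],
    [(0, 6), (2, 3), (4, 4)],
    [],
    [(0, 6), (1, 3)],
    [(0, 6), (1, 3), (5, 4)],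
    [],
    [],
    [(0, 5)]]

theorem hC : C.check = true := by decide +kernel

def xw : ℕ → WExp Gen
  | 0 => (.mul (.mul (.mul (.mul (.mul (.mul (.mul (.mul (.mul (.mul (.mul (.mul (.mul (.mul (.mul (.mul (.mul (.mul (.mul (.mul (.mul (.mul (.mul (.mul (.mul (.mul (.mul (.mul (.mul (.mul (.mul (.mul (.mul (.mul (.mul (.mul (.mul (.mul (.mul (.mul (.mul (.of .c) (.of .d)) (.of .e)) (.of .b)) (.of .c)) (.of .d)) (.of .c)) (.of .d)) (.of .b)) (.of .c)) (.of .d)) (.of .e)) (.of .f)) (.of .c)) (.of .d)) (.of .e)) (.of .c)) (.of .d)) (.of .b)) (.of .c)) (.of .d)) (.of .e)) (.of .f)) (.of .d)) (.of .a)) (.of .b)) (.of .c)) (.of .d)) (.of .e)) (.of .b)) (.of .c)) (.of .d)) (.of .b)) (.of .c)) (.of .d)) (.of .e)) (.of .b)) (.of .c)) (.of .d)) (.of .c)) (.of .a)) (.of .b))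
  | 1 => (.mul (.mul (.mul (.mul (.mul (.mul (.mul (.mul (.mul (.mul (.mul (.mul (.mul (.mul (.mul (.mul (.mul (.mul (.mul (.mul (.mul (.of .e) (.of .d)) (.of .c)) (.of .d)) (.of .b)) (.of .c)) (.of .d)) (.of .e)) (.of .f)) (.of .d)) (.of .b)) (.of .c)) (.of .d)) (.of .e)) (.of .d)) (.of .b)) (.of .c)) (.of .d)) (.of .a)) (.of .b)) (.of .c)) (.of .d))
  | 2 => (.mul (.mul (.mul (.mul (.mul (.mul (.mul (.mul (.mul (.mul (.mul (.of .d) (.of .c)) (.of .d)) (.of .e)) (.of .f)) (.of .e)) (.of .d)) (.of .a)) (.of .b)) (.of .c)) (.of .b)) (.of .a))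
  | _ => .of .a

def gw : ℕ → WExp Gen
  | 0 => (.mul (.mul (.mul (.mul (.mul (.mul (.mul (.mul (.mul (.mul (.mul (.mul (.mul (.mul (.mul (.mul (.mul (.mul (.mul (.mul (.mul (.mul (.mul (.mul (.mul (.of .d) (.of .e)) (.of .c)) (.of .d)) (.of .c)) (.of .d)) (.of .e)) (.of .b)) (.of .c)) (.of .d)) (.of .a)) (.of .b)) (.of .c)) (.of .d)) (.of .e)) (.of .a)) (.of .b)) (.of .c)) (.of .d)) (.of .c)) (.of .d)) (.of .e)) (.of .f)) (.of .b)) (.of .c)) (.of .a))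
  | _ => .of .a

theorem hpc : pcChkW isOne C.D xw = true := by decide +kernel

theorem hfus : fusChkW isOne C xw gw = true := by decide +kernel

theorem hinj : injChkW code C.D xw = true := by decide +kernel

theorem lb : LocalBound Cfsg.Spor.ON 7 0 :=
  ub_on C (by norm_num [C]) hC xw gw hpc hfus hinj (by norm_num [C])

end Cfsg.Agent.Lib.Helper63MONP7
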