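import Mathlib
import Cfsg.Prelude.Def_KGroupFacts

/-!
# Project PC-MULT: vocabulary

Schur multipliers of concrete finite groups, prime by prime, from
* a power-commutator presentation of a Sylow `p`-subgroup (`PC`),
* a collector with central tails (`PC.step`, `PC.run`),
* fusion data,
* linear certificates over `ℤ`.
-/

set_option autoImplicit false

namespace Cfsg.Agent.Lib.Helper63PCDefs

/-- evaluation of a positive word -/
def evalW {Γ : Type*} [Monoid Γ] (x : ℕ → Γ) (w : List ℕ) : Γ := (w.map x).prod

/-- `k`-th word of a list of words -/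
def nthL (L : List (List ℕ)) (k : ℕ) : List ℕ := L.getD k []

/-- power-commutator data: `x_a ^ p = pw a`, `x_a x_b = x_b x_a (cm b a)` for `b < a < n` -/
structure PC where
  p : ℕ
  n : ℕ
  pwL : List (List ℕ)
  cmL : List (List ℕ)

def PC.pw (D : PC) (a : ℕ) : List ℕ := nthL D.pwL a

def PC.cm (D : PC) (b a : ℕ) : List ℕ := nthL D.cmL (b * D.n + a)

/-- the right hand side word of the relation with index `j = b * n + a` -/
def PC.corr (D : PC) (j : ℕ) : List ℕ :=
  if j / D.n = j % D.n then D.pw (j / D.n) else D.cm (j / D.n) (j % D.n)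

/-- the relations hold up to the tails `z (b * n + a)` -/
structure Sat {Γ : Type*} [Group Γ] (D : PC) (x z : ℕ → Γ) : Prop where
  pw : ∀ a, a < D.n → x a ^ D.p = evalW x (D.pw a) * z (a * D.n + a)
  cm : ∀ b a, b < a → a < D.n → x a * x b = x b * x a * evalW x (D.cm b a) * z (b * D.n + a)

/-- does the list start with `k` copies of `a`? -/
def isPre (a : ℕ) : ℕ → List ℕ → Bool
  | 0, _ => true
  | _ + 1, [] => false
  | k + 1, b :: l => (b == a) && isPre a k l

/-- rewrite the leftmost redex; returns the new word and the index of the tail produced -/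
def PC.step (D : PC) : List ℕ → Option (List ℕ × ℕ)
  | [] => none
  | a :: rest =>
    if (decide (a < D.n) && isPre a (D.p - 1) rest) = true then
      some (D.pw a ++ rest.drop (D.p - 1), a * D.n + a)
    else
      match rest.head? with
      | none => none
      | some b =>
        if (decide (b < a) && decide (a < D.n)) = true then
          some (b :: a :: (D.cm b a ++ rest.tail), b * D.n + a)
        else
          match D.step rest with
          | none => none
          | some r => some (a :: r.1, r.2)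

/-- iterate `step`, collecting the tails -/
def PC.run (D : PC) : ℕ → List ℕ → List ℕ → List ℕ × List ℕ
  | 0, w, L => (w, L)
  | f + 1, w, L =>
    match D.step w with
    | none => (w, L)
    | some r => D.run f r.1 (r.2 :: L)

/-- consistency relation: reduce `u ++ v` in two ways (leftmost first / first a step inside `v`) -/
def PC.consRel (D : PC) (f : ℕ) (u v : List ℕ) : Option (List ℕ × List ℕ) :=
  match D.step v with
  | none => none
  | some r =>
    if (D.run f (u ++ v) []).1 = (D.run f (u ++ r.1) [r.2]).1 then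
      some ((D.run f (u ++ v) []).2, (D.run f (u ++ r.1) [r.2]).2)
    else none

/-- fusion relation: `ρ` is a relator in the elements `Dw i`; `g (Dw i) g⁻¹ = (Ew i) * z (off + i)` -/
def PC.fusRel (D : PC) (f R : ℕ) (Dw Ew : List (List ℕ)) (off : ℕ) (ρ : List ℕ) :
    Option (List ℕ × List ℕ) :=
  if (ρ.all (fun i => decide (i < R)) &&
      (D.run f (ρ.flatMap (nthL Dw)) []).1.isEmpty &&
      (D.run f (ρ.flatMap (nthL Ew)) []).1.isEmpty) = true then
    some ((D.run f (ρ.flatMap (nthL Dw)) []).2,
      (D.run f (ρ.flatMap (nthL Ew)) []).2 ++ ρ.map (fun i => off + i))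
  else none

/-- the right hand sides only involve later generators -/
def PC.wordsOK (D : PC) : Bool :=
  (List.range D.n).all (fun a => (D.pw a).all (fun l => decide (a < l) && decide (l < D.n))) &&
  (List.range D.n).all (fun b => (List.range D.n).all (fun a =>
    (D.cm b a).all (fun l => decide (b < l) && decide (l < D.n))))

/-! ### integer vectors -/

/-- `∑ v_i • z (i0 + i)` -/
def dotZ {M : Type*} [AddCommGroup M] (z : ℕ → M) : ℕ → List ℤ → M
  | _, [] => 0
  | i, c :: v => c • z i + dotZ z (i + 1) v

def vadd (v w : List ℤ) : List ℤ := List.zipWith (fun a b => a + b) v w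

def vsmul (c : ℤ) (v : List ℤ) : List ℤ := v.map (fun a => c * a)

def vzero (N : ℕ) : List ℤ := List.replicate N 0

def vunit (N j : ℕ) : List ℤ := (List.range N).map (fun k => if k = j then 1 else 0)

def cnt (N : ℕ) (L : List ℕ) : List ℤ := (List.range N).map (fun k => (L.count k : ℤ))

def vsum (N : ℕ) (vs : List (List ℤ)) : List ℤ := vs.foldr vadd (vzero N)

def nthV (N : ℕ) (L : List (List ℤ)) (k : ℕ) : List ℤ := L.getD k (vzero N)

/-- local bound on the kernels of the stem extensions of `G`: the `p`-part is cyclic of order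
dividing `p ^ k` -/
def LocalBound.{u} (G : Type u) [Group G] (p k : ℕ) : Prop :=
  ∀ (Γ : Type u) [Group Γ] [Finite Γ] (σ : Γ →* G), Cfsg.IsStemExtension σ →
    (∃ ω ∈ σ.ker, ∀ a ∈ σ.ker, ∃ b ∈ σ.ker, ∃ j : ℕ, a = b ^ p * ω ^ j) ∧
    (∀ a ∈ σ.ker, ∃ b ∈ σ.ker, a ^ (p ^ k) = b ^ (p ^ (k + 1)))

/-! ### certificates -/

/-- a certificate for the prime `D.p`: fusion data, relation specifications, explicit relation
vectors, the splitting `lam`, and the linear combinations `y1`, `y2` -/
structure Cert where
  D : PC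
  k : ℕ
  f : ℕ
  R : ℕ
  fus : List (List (List ℕ) × List (List ℕ))
  specs : List (ℕ × List ℕ × List ℕ)
  relV : List (List ℤ)
  lam : List (List ℤ)
  j0 : ℕ
  mu : List ℤ
  y1 : List (List (ℕ × ℤ))
  y2 : List (List (ℕ × ℤ))

/-- number of variables: tails `b * n + a`, then `R` variables for each fusion element -/
def Cert.N (C : Cert) : ℕ := C.D.n * C.D.n + C.fus.length * C.R

def Cert.Dw (C : Cert) (gi : ℕ) : List (List ℕ) := (C.fus.getD gi ([], [])).1

def Cert.Ew (C : Cert) (gi : ℕ) : List (List ℕ) := (C.fus.getD gi ([], [])).2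

/-- the relation (as a pair of lists of variables) of a specification:
`(0, u, v)` = consistency relation, `(gi + 1, ρ, _)` = fusion relation -/
def Cert.rel (C : Cert) (s : ℕ × List ℕ × List ℕ) : Option (List ℕ × List ℕ) :=
  match s.1 with
  | 0 => C.D.consRel C.f s.2.1 s.2.2
  | gi + 1 => if gi < C.fus.length then
      C.D.fusRel C.f C.R (C.Dw gi) (C.Ew gi) (C.D.n * C.D.n + gi * C.R) s.2.1 else none

def Cert.vec (C : Cert) (s : ℕ × List ℕ × List ℕ) : List ℤ :=
  match C.rel s with
  | none => vzero C.N
  | some r =>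
    if (r.1.all (fun k => decide (k < C.N)) && r.2.all (fun k => decide (k < C.N))) = true then
      vadd (cnt C.N r.1) (vsmul (-1) (cnt C.N r.2))
    else vzero C.N

/-- the adjusted tail `e_j - ∑_{l ∈ corr j} lam_l` as a linear form -/
def Cert.yv (C : Cert) (j : ℕ) : List ℤ :=
  vadd (vunit C.N j) (vsmul (-1) (vsum C.N ((C.D.corr j).map (nthV C.N C.lam))))

def Cert.comb (C : Cert) (ys : List (ℕ × ℤ)) : List ℤ :=
  vsum C.N (ys.map fun t => vsmul t.2 (nthV C.N C.relV t.1))

def Cert.row1 (C : Cert) (j : ℕ) : Bool :=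
  (vadd (C.yv j) (vadd (vsmul (-(C.mu.getD j 0)) (C.yv C.j0))
    (vsmul (-1) (C.comb (C.y1.getD j []))))).all (fun c => c % (C.D.p : ℤ) == 0)

def Cert.row2 (C : Cert) (j : ℕ) : Bool :=
  (vadd (vsmul ((C.D.p : ℤ) ^ C.k) (C.yv j))
    (vsmul (-1) (C.comb (C.y2.getD j [])))).all (fun c => c % ((C.D.p : ℤ) ^ (C.k + 1)) == 0)

def Cert.check (C : Cert) : Bool :=
  C.D.wordsOK && decide (C.j0 < C.N) && C.lam.all (fun v => v.length == C.N) &&
  (C.relV == C.specs.map C.vec) &&
  (List.range C.D.n).all (fun b => (List.range C.D.n).all (fun a =>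
    decide (a < b) || (C.row1 (b * C.D.n + a) && C.row2 (b * C.D.n + a))))

/-- the correction `γ_l` of the `l`-th lift, as a linear form evaluated at `z` -/
def Cert.gam {M : Type*} [AddCommGroup M] (C : Cert) (z : ℕ → M) (l : ℕ) : M :=
  dotZ z 0 (nthV C.N C.lam l)

/-- the adjusted tail -/
def Cert.ytil {M : Type*} [AddCommGroup M] (C : Cert) (z : ℕ → M) (j : ℕ) : M :=
  z j - ((C.D.corr j).map (C.gam z)).sum

end Cfsg.Agent.Lib.Helper63PCDefs
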