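import Cfsg.Agent.Lib.Helper35TC
import Cfsg.Agent.Lib.Helper63PCTabDefs

/-!
# Project PC-MULT, part 3: vocabulary for word models

The group is given with an evaluation `ev : WExp α → G` of word expressions, a sound test `isOne` for
the triviality of a word and an invariant `code` of the element of a word.
-/

set_option autoImplicit false

namespace Cfsg.Agent.Lib.Helper63PCWordDefs

open Cfsg.Agent.Lib.Helper63PCDefs Cfsg.Agent.Lib.Helper63PCTabDefs Cfsg.Agent.Lib.Helper35TC

variable {α : Type}

/-- the word expression of a positive word in the `xw l` -/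
def wOf (xw : ℕ → WExp α) (w : List ℕ) : WExp α :=
  w.foldr (fun l acc => WExp.mul (xw l) acc) (WExp.pow (xw 0) 0)

/-- test for `e1 = e2` -/
def eqW (isOne : WExp α → Bool) (e1 e2 : WExp α) : Bool := isOne (WExp.mul e1 (WExp.inv e2))

/-- the power-commutator relations hold -/
def pcChkW (isOne : WExp α → Bool) (D : PC) (xw : ℕ → WExp α) : Bool :=
  (List.range D.n).all (fun a => eqW isOne (WExp.pow (xw a) D.p) (wOf xw (D.pw a))) &&
  (List.range D.n).all (fun b => (List.range D.n).all (fun a =>
    !(decide (b < a)) || eqW isOne (WExp.mul (xw a) (xw b)) (wOf xw (b :: a :: D.cm b a))))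

/-- the fusion relations `g * Dw i = Ew i * g` hold -/
def fusChkW (isOne : WExp α → Bool) (C : Cert) (xw gw : ℕ → WExp α) : Bool :=
  (List.range C.fus.length).all (fun gi =>
    decide ((C.Dw gi).length ≤ C.R) && decide ((C.Ew gi).length ≤ C.R) &&
    (List.range C.R).all (fun i =>
      eqW isOne (WExp.mul (gw gi) (wOf xw (nthL (C.Dw gi) i)))
        (WExp.mul (wOf xw (nthL (C.Ew gi) i)) (gw gi))))

/-- the `p ^ n` normal words give different elements -/
def injChkW (code : WExp α → ℕ) (D : PC) (xw : ℕ → WExp α) : Bool :=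
  nodupB ((List.range (D.p ^ D.n)).map (fun e => code (wOf xw (nfw D.p D.n e))))

end Cfsg.Agent.Lib.Helper63PCWordDefs
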