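import Cfsg.Agent.Lib.Helper63Prim

set_option autoImplicit false
set_option linter.style.haveILetI false
set_option linter.unusedSectionVars false

namespace Cfsg.Agent.Lib.Helper63Prim2

open MulAction Cfsg.Agent.Lib.Helper63Prim

section
variable {G : Type*} [Group G]

/-- `S` is invariant under conjugation by `N`. -/
def Inv (N S : Subgroup G) : Prop := ∀ n ∈ N, ∀ s ∈ S, n * s * n⁻¹ ∈ S

/-- Structure of a non-abelian, non-simple minimal normal subgroup: `N = T × M`, where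
`M = C_N(T)`, and every conjugate of `T` is `T` or lies in `M`. -/
theorem structure_min_normal [Finite G] (N : Subgroup G) (hN : N.Normal)
    (hmin : ∀ M : Subgroup G, M.Normal → M ≠ ⊥ → M ≤ N → M = N)
    (hC : N ⊓ Subgroup.centralizer (N : Set G) = ⊥)
    (S₀ : Subgroup G) (hS₀ : S₀ ≤ N) (hS₀inv : Inv N S₀) (hS₀1 : S₀ ≠ ⊥) (hS₀N : S₀ ≠ N) :
    ∃ T M : Subgroup G, T ≠ ⊥ ∧ M ≠ ⊥ ∧ T ≤ N ∧ M ≤ N ∧ Inv N T ∧
      (∀ m ∈ M, ∀ t ∈ T, t * m = m * t) ∧ (∀ n ∈ N, ∃ t ∈ T, ∃ m ∈ M, n = t * m) ∧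
      (∀ x, x ∈ T → x ∈ M → x = 1) ∧
      T ⊓ Subgroup.centralizer (T : Set G) = ⊥ ∧ M ⊓ Subgroup.centralizer (M : Set G) = ⊥ ∧
      (∀ g : G, (∀ t ∈ T, g * t * g⁻¹ ∈ T) ∨ (∀ t ∈ T, g * t * g⁻¹ ∈ M)) ∧
      (∃ g : G, ∀ t ∈ T, g * t * g⁻¹ ∈ M) := by
  classical
  obtain ⟨T, ⟨hT1, hT2, hT3⟩, hTS, hTmin⟩ := exists_minimal_subgroup
    (fun S : Subgroup G => S ≠ ⊥ ∧ S ≤ N ∧ Inv N S) S₀ ⟨hS₀1, hS₀, hS₀inv⟩
  have hTN : T ≠ N := by
    rintro rfl
    exact hS₀N (le_antisymm hS₀ hTS)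
  let cj : G → Subgroup G := fun g => T.map (MulAut.conj g).toMonoidHom
  have mem_cj : ∀ g x, x ∈ cj g ↔ ∃ t ∈ T, g * t * g⁻¹ = x := by
    intro g x
    simp only [cj, Subgroup.mem_map, MulEquiv.coe_toMonoidHom, MulAut.conj_apply]
  have cj_card : ∀ g, Nat.card (cj g) = Nat.card T := fun g =>
    Subgroup.card_map_of_injective (MulAut.conj g).injective
  have cj_le : ∀ g, cj g ≤ N := by
    intro g x hx
    obtain ⟨t, ht, rfl⟩ := (mem_cj g x).mp hx
    exact hN.conj_mem t (hT2 ht) g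
  have cj_inv : ∀ g, Inv N (cj g) := by
    intro g n hn x hx
    obtain ⟨t, ht, rfl⟩ := (mem_cj g x).mp hx
    rw [mem_cj]
    refine ⟨(g⁻¹ * n * g) * t * (g⁻¹ * n * g)⁻¹, hT3 _ ?_ t ht, by group⟩
    have := hN.conj_mem n hn g⁻¹
    simpa using this
  set M : Subgroup G := N ⊓ Subgroup.centralizer (T : Set G) with hM
  have hMcomm : ∀ m ∈ M, ∀ t ∈ T, t * m = m * t := by
    intro m hm t ht
    exact (Subgroup.mem_centralizer_iff.mp (Subgroup.mem_inf.mp hm).2) t ht
  have cj_alt : ∀ g, cj g = T ∨ cj g ≤ M := by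
    intro g
    by_cases hbot : cj g ⊓ T = ⊥
    · right
      intro a ha
      refine Subgroup.mem_inf.mpr ⟨cj_le g ha, ?_⟩
      rw [Subgroup.mem_centralizer_iff]
      intro b hb
      have h1 : a * b * a⁻¹ * b⁻¹ ∈ cj g ⊓ T := by
        refine Subgroup.mem_inf.mpr ⟨?_, ?_⟩
        · have h2 := cj_inv g b (hT2 hb) a⁻¹ ((cj g).inv_mem ha)
          have h3 := (cj g).mul_mem ha h2
          have e : a * (b * a⁻¹ * b⁻¹) = a * b * a⁻¹ * b⁻¹ := by group
          rwa [e] at h3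
        · exact T.mul_mem (hT3 a (cj_le g ha) b hb) (T.inv_mem hb)
      rw [hbot, Subgroup.mem_bot] at h1
      have h4 := congrArg (fun z => z * b * a) h1
      simp only [one_mul] at h4
      rw [← h4]; group
    · left
      have h1 : cj g ⊓ T = T := by
        apply hTmin _ ⟨hbot, inf_le_right.trans hT2, ?_⟩ inf_le_right
        intro n hn s hs
        exact Subgroup.mem_inf.mpr ⟨cj_inv g n hn s (Subgroup.mem_inf.mp hs).1,
          hT3 n hn s (Subgroup.mem_inf.mp hs).2⟩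
      have h2 : T ≤ cj g := by rw [← h1]; exact inf_le_left
      exact (Subgroup.eq_of_le_of_card_ge h2 (cj_card g).le).symm
  have hNTM : N ≤ T ⊔ M := by
    have h1 : Subgroup.normalClosure (T : Set G) = N := by
      apply hmin _ Subgroup.normalClosure_normal
      · intro h
        apply hT1
        rw [eq_bot_iff, ← h]
        exact Subgroup.le_normalClosure
      · exact Subgroup.normalClosure_le_normal hT2
    rw [← h1, Subgroup.normalClosure, Subgroup.closure_le]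
    intro x hx
    obtain ⟨t, ht, htx⟩ := Group.mem_conjugatesOfSet_iff.mp hx
    obtain ⟨c, rfl⟩ := isConj_iff.mp htx
    have h2 : c * t * c⁻¹ ∈ cj c := (mem_cj c _).mpr ⟨t, ht, rfl⟩
    rcases cj_alt c with h | h
    · rw [h] at h2
      exact (le_sup_left : T ≤ T ⊔ M) h2
    · exact (le_sup_right : M ≤ T ⊔ M) (h h2)
  have hMnorm : M ≤ Subgroup.normalizer (T : Set G) := by
    intro m hm
    rw [Subgroup.mem_normalizer_iff]
    intro h
    constructor
    · intro hh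
      exact hT3 m (Subgroup.mem_inf.mp hm).1 h hh
    · intro hh
      have := hT3 m⁻¹ (N.inv_mem (Subgroup.mem_inf.mp hm).1) _ hh
      simpa [mul_assoc] using this
  have hdec : ∀ n ∈ N, ∃ t ∈ T, ∃ m ∈ M, n = t * m := by
    intro n hn
    have h1 : n ∈ ((T ⊔ M : Subgroup G) : Set G) := hNTM hn
    rw [Subgroup.coe_mul_of_right_le_normalizer_left T M hMnorm] at h1
    obtain ⟨t, ht, m, hm, rfl⟩ := h1
    exact ⟨t, ht, m, hm, rfl⟩
  set Z : Subgroup G := T ⊓ Subgroup.centralizer (T : Set G) with hZdef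
  have hZ : Z = ⊥ := by
    by_contra hZ1
    have h1 : Z = T := by
      apply hTmin _ ⟨hZ1, inf_le_left.trans hT2, ?_⟩ inf_le_left
      intro n hn z hz
      refine Subgroup.mem_inf.mpr ⟨hT3 n hn z (Subgroup.mem_inf.mp hz).1, ?_⟩
      rw [Subgroup.mem_centralizer_iff]
      intro t ht
      have h2 : n⁻¹ * t * n ∈ T := by
        have := hT3 n⁻¹ (N.inv_mem hn) t ht
        simpa using this
      have h3 := (Subgroup.mem_centralizer_iff.mp (Subgroup.mem_inf.mp hz).2) _ h2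
      calc t * (n * z * n⁻¹) = n * ((n⁻¹ * t * n) * z) * n⁻¹ := by group
        _ = n * (z * (n⁻¹ * t * n)) * n⁻¹ := by rw [h3]
        _ = n * z * n⁻¹ * t := by group
    have h2 : T ≤ Subgroup.centralizer (T : Set G) := by
      rw [← h1]; exact (inf_le_right : Z ≤ _).trans (by rw [h1])
    have h3 : T ≤ N ⊓ Subgroup.centralizer (N : Set G) := by
      intro s hs
      refine Subgroup.mem_inf.mpr ⟨hT2 hs, ?_⟩
      rw [Subgroup.mem_centralizer_iff]
      intro n hn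
      obtain ⟨t, ht, m, hm, rfl⟩ := hdec n hn
      have e1 : t * s = s * t := (Subgroup.mem_centralizer_iff.mp (h2 hs)) t ht
      have e2 : s * m = m * s := hMcomm m hm s hs
      calc t * m * s = t * (m * s) := by group
        _ = t * (s * m) := by rw [e2]
        _ = (t * s) * m := by group
        _ = s * t * m := by rw [e1]
        _ = s * (t * m) := by group
    rw [hC] at h3
    exact hT1 (eq_bot_iff.mpr h3)
  have hTM : ∀ x, x ∈ T → x ∈ M → x = 1 := by
    intro x hxT hxM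
    have : x ∈ Z := Subgroup.mem_inf.mpr ⟨hxT, (Subgroup.mem_inf.mp hxM).2⟩
    rw [hZ, Subgroup.mem_bot] at this
    exact this
  obtain ⟨g, hg⟩ : ∃ g, cj g ≤ M := by
    by_contra hcon
    push Not at hcon
    have hall : ∀ g, cj g = T := fun g => (cj_alt g).resolve_right (hcon g)
    apply hTN
    apply hmin T _ hT1 hT2
    refine ⟨fun t ht g => ?_⟩
    rw [← hall g]
    exact (mem_cj g _).mpr ⟨t, ht, rfl⟩
  have hM1 : M ≠ ⊥ := by
    intro hbot
    apply hT1
    rw [eq_bot_iff]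
    intro t ht
    have h1 : g * t * g⁻¹ ∈ M := hg ((mem_cj g _).mpr ⟨t, ht, rfl⟩)
    rw [hbot, Subgroup.mem_bot] at h1
    rw [Subgroup.mem_bot]
    have := congrArg (fun z => g⁻¹ * z * g) h1
    simpa [mul_assoc] using this
  have hZM : M ⊓ Subgroup.centralizer (M : Set G) = ⊥ := by
    rw [eq_bot_iff, ← hC]
    intro z hz
    have hzM := (Subgroup.mem_inf.mp hz).1
    refine Subgroup.mem_inf.mpr ⟨(Subgroup.mem_inf.mp hzM).1, ?_⟩
    rw [Subgroup.mem_centralizer_iff]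
    intro n hn
    obtain ⟨t, ht, m, hm, rfl⟩ := hdec n hn
    have e1 : m * z = z * m := (Subgroup.mem_centralizer_iff.mp (Subgroup.mem_inf.mp hz).2) m hm
    have e2 : t * z = z * t := hMcomm z hzM t ht
    calc t * m * z = t * (m * z) := by group
      _ = t * (z * m) := by rw [e1]
      _ = (t * z) * m := by group
      _ = z * t * m := by rw [e2]
      _ = z * (t * m) := by group
  refine ⟨T, M, hT1, hM1, hT2, inf_le_left, hT3, hMcomm, hdec, hTM, hZ, hZM, ?_, ?_⟩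
  · intro g
    rcases cj_alt g with h | h
    · left
      intro t ht
      rw [← h]
      exact (mem_cj g _).mpr ⟨t, ht, rfl⟩
    · right
      intro t ht
      exact h ((mem_cj g _).mpr ⟨t, ht, rfl⟩)
  · exact ⟨g, fun t ht => hg ((mem_cj g _).mpr ⟨t, ht, rfl⟩)⟩

end

section
variable {G Ω : Type*} [Group G] [Finite G] [MulAction G Ω]

/-- If `N = A B` is transitive with `A`, `B` commuting and `B` intransitive, then some `x ∈ A` is
such that `x y` is a derangement for all `y ∈ B`. -/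
theorem jordan2 (N A B : Subgroup G) [IsPretransitive N Ω] [Nonempty Ω]
    (hAB : ∀ b ∈ B, ∀ a ∈ A, a * b = b * a) (hdec : ∀ n ∈ N, ∃ a ∈ A, ∃ b ∈ B, n = a * b)
    (hB : ¬ IsPretransitive B Ω) : ∃ x ∈ A, ∀ y ∈ B, ∀ ω : Ω, (x * y) • ω ≠ ω := by
  obtain ⟨α⟩ := ‹Nonempty Ω›
  let R : Subgroup G :=
    { carrier := {t | t ∈ A ∧ ∃ m ∈ B, (t * m) • α = α}
      one_mem' := ⟨A.one_mem, 1, B.one_mem, by simp⟩
      mul_mem' := by
        rintro t t' ⟨ht, m, hm, h⟩ ⟨ht', m', hm', h'⟩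
        refine ⟨A.mul_mem ht ht', m * m', B.mul_mem hm hm', ?_⟩
        have e : t * t' * (m * m') = (t * m) * (t' * m') := by
          calc t * t' * (m * m') = t * (t' * m) * m' := by group
            _ = t * (m * t') * m' := by rw [hAB m hm t' ht']
            _ = (t * m) * (t' * m') := by group
        rw [e, mul_smul, h', h]
      inv_mem' := by
        rintro t ⟨ht, m, hm, h⟩
        refine ⟨A.inv_mem ht, m⁻¹, B.inv_mem hm, ?_⟩
        have e : t⁻¹ * m⁻¹ = (t * m)⁻¹ := by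
          rw [hAB m hm t ht]; group
        rw [e, inv_smul_eq_iff, h] }
  have hRmem : ∀ t, t ∈ R ↔ t ∈ A ∧ ∃ m ∈ B, (t * m) • α = α := fun t => Iff.rfl
  have hRtop : R.subgroupOf A ≠ ⊤ := by
    intro htop
    have hall : ∀ t ∈ A, t ∈ R := by
      intro t ht
      have : (⟨t, ht⟩ : A) ∈ R.subgroupOf A := by rw [htop]; trivial
      exact this
    apply hB
    rw [isPretransitive_iff_base α]
    intro ω
    obtain ⟨n, rfl⟩ := exists_smul_eq N α ω
    obtain ⟨t, ht, m, hm, hn⟩ := hdec n n.2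
    obtain ⟨_, m', hm', h'⟩ := (hRmem t).mp (hall t ht)
    refine ⟨⟨m * m'⁻¹, B.mul_mem hm (B.inv_mem hm')⟩, ?_⟩
    change (m * m'⁻¹) • α = (n : G) • α
    rw [hn, hAB m hm t ht, mul_smul, mul_smul]
    congr 1
    rw [inv_smul_eq_iff, ← mul_smul, ← hAB m' hm' t ht, h']
  obtain ⟨x, hx⟩ := jordan (R.subgroupOf A) hRtop
  refine ⟨x, x.2, ?_⟩
  intro y hy ω hω
  obtain ⟨n, rfl⟩ := exists_smul_eq N α ω
  obtain ⟨t, ht, m, hm, hn⟩ := hdec n n.2
  apply hx ⟨t⁻¹, A.inv_mem ht⟩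
  rw [Subgroup.mem_subgroupOf]
  simp only [Subgroup.coe_mul, Subgroup.coe_inv, inv_inv]
  rw [hRmem]
  refine ⟨A.mul_mem (A.mul_mem (A.inv_mem ht) x.2) ht, m⁻¹ * y * m,
    B.mul_mem (B.mul_mem (B.inv_mem hm) hy) hm, ?_⟩
  have hω' : ((x : G) * y) • (t * m) • α = (t * m) • α := by
    rw [← hn]; exact hω
  have e : t⁻¹ * (x : G) * t * (m⁻¹ * y * m) = (t * m)⁻¹ * ((x : G) * y) * (t * m) := by
    have c1 : (t⁻¹ * (x : G) * t) * m⁻¹ = m⁻¹ * (t⁻¹ * (x : G) * t) :=
      hAB m⁻¹ (B.inv_mem hm) _ (A.mul_mem (A.mul_mem (A.inv_mem ht) x.2) ht)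
    have c2 : t * y = y * t := hAB y hy t ht
    calc t⁻¹ * (x : G) * t * (m⁻¹ * y * m) = ((t⁻¹ * (x : G) * t) * m⁻¹) * y * m := by group
      _ = (m⁻¹ * (t⁻¹ * (x : G) * t)) * y * m := by rw [c1]
      _ = m⁻¹ * t⁻¹ * (x : G) * (t * y) * m := by group
      _ = m⁻¹ * t⁻¹ * (x : G) * (y * t) * m := by rw [c2]
      _ = (t * m)⁻¹ * ((x : G) * y) * (t * m) := by group
  rw [e, mul_smul, mul_smul, hω', inv_smul_smul]

/-- The average number of fixed points on a coset of a transitive subgroup is `1`. -/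
theorem sum_fixedBy_coset [Finite Ω] [Nonempty Ω] (M : Subgroup G) [IsPretransitive M Ω]
    [Fintype M] (t : G) : ∑ m : M, Nat.card (fixedBy Ω (t * (m : G))) = Nat.card M := by
  classical
  haveI := Fintype.ofFinite Ω
  have h1 : ∀ m : M, Nat.card (fixedBy Ω (t * (m : G)))
      = (Finset.univ.filter (fun ω : Ω => (m : G) • ω = t⁻¹ • ω)).card := by
    intro m
    rw [Nat.card_eq_fintype_card, Fintype.card_subtype]
    congr 1
    ext ω
    simp only [Finset.mem_filter, Finset.mem_univ, true_and, mem_fixedBy, mul_smul]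
    rw [eq_inv_smul_iff]
  simp only [h1, Finset.card_filter]
  rw [Finset.sum_comm]
  have h2 : ∀ ω : Ω, (∑ m : M, if (m : G) • ω = t⁻¹ • ω then 1 else 0)
      = Nat.card (stabilizer M ω) := by
    intro ω
    rw [← Finset.card_filter]
    obtain ⟨m₀, hm₀⟩ := exists_smul_eq M ω (t⁻¹ • ω)
    rw [Nat.card_eq_fintype_card, ← Fintype.card_subtype]
    apply Fintype.card_congr
    refine ⟨fun m => ⟨m₀⁻¹ * m.1, ?_⟩, fun s => ⟨m₀ * s.1, ?_⟩, ?_, ?_⟩
    · rw [mem_stabilizer_iff, mul_smul, inv_smul_eq_iff, hm₀]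
      exact m.2
    · have hs : s.1 • ω = ω := s.2
      change (m₀ * s.1) • ω = t⁻¹ • ω
      rw [mul_smul, hs, hm₀]
    · intro m; simp
    · intro s; simp
  simp only [h2]
  have h3 : ∀ ω : Ω, Nat.card (stabilizer M ω) * Nat.card Ω = Nat.card M := by
    intro ω
    rw [← index_stabilizer_of_transitive M ω]
    exact Subgroup.card_mul_index _
  obtain ⟨ω₀⟩ := ‹Nonempty Ω›
  have hpos : 0 < Nat.card Ω := Nat.card_pos
  have h4 : ∀ ω : Ω, Nat.card (stabilizer M ω) = Nat.card (stabilizer M ω₀) := by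
    intro ω
    apply Nat.eq_of_mul_eq_mul_right hpos
    rw [h3, h3]
  rw [Finset.sum_congr rfl (fun ω _ => h4 ω), Finset.sum_const, Finset.card_univ, smul_eq_mul,
    ← Nat.card_eq_fintype_card, mul_comm, h3]

end

end Cfsg.Agent.Lib.Helper63Prim2
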