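import Mathlib
import Cfsg.Agent.Lib.Helper63RecA
import Cfsg.Agent.Lib.Helper63RecB

/-!
# Recognition of `PSL₂(q)`, `q ≡ 3 mod 4` a prime with `(q - 1) / 2` a prime power
-/

set_option autoImplicit false

namespace Cfsg.Agent.Lib.Helper63RecC

open MulAction Subgroup OnePoint Cfsg.Agent.Lib.Helper63RecA

variable {G Ω : Type*} [Group G] [MulAction G Ω] {q : ℕ} [Fact q.Prime]

/-- existence of an involution interchanging two points -/
theorem exists_swap [Finite G] (inf o : Ω) (m : ℕ) (hmodd : Odd m)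
    (hH : Nat.card (stabilizer G inf ⊓ stabilizer G o : Subgroup G) = m)
    (g : G) (hg1 : g • inf = o) (hg2 : g • o = inf) :
    ∃ t : G, t * t = 1 ∧ t • inf = o ∧ t • o = inf := by
  have hg : g * g ∈ (stabilizer G inf ⊓ stabilizer G o : Subgroup G) := by
    rw [Subgroup.mem_inf, mem_stabilizer_iff, mem_stabilizer_iff, mul_smul, mul_smul, hg1, hg2, hg1]
    exact ⟨rfl, rfl⟩
  have hgm : (g * g) ^ m = 1 := by
    have := pow_card_eq_one' (x := (⟨g * g, hg⟩ : (stabilizer G inf ⊓ stabilizer G o : Subgroup G)))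
    rw [hH] at this
    exact congrArg Subtype.val this
  obtain ⟨l, hl⟩ := hmodd
  have hfix : ∀ n : ℕ, (g * g) ^ n • inf = inf ∧ (g * g) ^ n • o = o := by
    intro n
    have := (stabilizer G inf ⊓ stabilizer G o : Subgroup G).pow_mem hg n
    rw [Subgroup.mem_inf, mem_stabilizer_iff, mem_stabilizer_iff] at this
    exact this
  have hgl : g ^ m = (g * g) ^ l * g := by
    rw [hl, pow_succ, pow_mul, pow_two]
  refine ⟨g ^ m, ?_, ?_, ?_⟩
  · rw [← pow_add, ← two_mul, pow_mul, pow_two, hgm]
  · rw [hgl, mul_smul, hg1, (hfix l).2]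
  · rw [hgl, mul_smul, hg2, (hfix l).1]


theorem main [Finite G] [IsSimpleGroup G] [Finite Ω] [IsPretransitive G Ω]
    (hfaith : ∀ g : G, (∀ ω : Ω, g • ω = ω) → g = 1)
    (hΩ : Nat.card Ω = q + 1) (m r k : ℕ) [Fact r.Prime] (hq : q = 2 * m + 1) (hmodd : Odd m)
    (hmr : m = r ^ k) (hm1 : 1 < m)
    (hG : Nat.card G = q * m * (q + 1))
    (x : G) (inf : Ω) (hxo : orderOf x = q) (hxinf : ∀ ω, x • ω = ω ↔ ω = inf)
    (hnorm : ∀ g : G, g • inf = inf → ∃ a : ℕ, g * x * g⁻¹ = x ^ a)
    (hpsl : Nat.card G ≤ Nat.card (Matrix.ProjectiveSpecialLinearGroup (Fin 2) (ZMod q))) :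
    Nonempty (G ≃* Matrix.ProjectiveSpecialLinearGroup (Fin 2) (ZMod q)) := by
  classical
  have hqp : q.Prime := Fact.out
  have hrp : r.Prime := Fact.out
  have hx : x ^ q = 1 := by rw [← hxo]; exact pow_orderOf_eq_one x
  obtain ⟨o, ho⟩ : ∃ o : Ω, o ≠ inf := by
    by_contra hcon
    push Not at hcon
    have : Nat.card Ω ≤ 1 :=
      Finite.card_le_one_iff_subsingleton.mpr ⟨fun a b => by rw [hcon a, hcon b]⟩
    omega
  have hxo' : x • o ≠ o := fun h => ho ((hxinf o).mp h)
  have hxi : x • inf = inf := (hxinf inf).mpr rfl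
  have hxin : ∀ n : ℕ, x ^ n • inf = inf := fun n =>
    (stabilizer G inf).pow_mem (mem_stabilizer_iff.mpr hxi) n
  obtain ⟨E, hE1, hE2⟩ := exists_equiv hΩ x o inf hxo hxi hxo'
  have hinj : Function.Injective (lab (q := q) x o) := lab_injective x o hxo hxo'
  have hsurj : ∀ ω, ω ≠ inf → ∃ i : ZMod q, lab x o i = ω := by
    intro ω hω
    obtain ⟨y, rfl⟩ := E.surjective ω
    cases y with
    | infty => exact absurd hE1 hω
    | coe y => exact ⟨y, (hE2 y).symm⟩
  have hlabne : ∀ i : ZMod q, lab x o i ≠ inf := lab_ne_inf x o inf hxi ho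
  have hst : ∀ ω : Ω, Nat.card (stabilizer G ω) = q * m := by
    intro ω
    have := card_stabilizer (G := G) ω
    rw [hΩ, hG] at this
    exact Nat.eq_of_mul_eq_mul_right (Nat.succ_pos q) this
  have hHc : Nat.card (stabilizer G inf ⊓ stabilizer G o : Subgroup G) = m := by
    have := card_two_stabilizer (G := G) inf o (by
      intro ω hω
      obtain ⟨i, hi⟩ := hsurj ω hω
      exact ⟨x ^ i.val, hxin _, hi⟩) ho
    rw [hΩ, hst, Nat.add_sub_cancel, mul_comm] at this
    exact Nat.eq_of_mul_eq_mul_left hqp.pos this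
  have hμex := exists_mult hfaith x o inf hx E hE1 hE2 hnorm
  obtain ⟨H, hHdef⟩ : ∃ H : Subgroup G, H = stabilizer G inf ⊓ stabilizer G o := ⟨_, rfl⟩
  rw [← hHdef] at hμex hHc
  obtain ⟨μ, hμi, hμ⟩ := hμex
  have hmemH : ∀ g : G, g ∈ H ↔ g • inf = inf ∧ g • o = o := by
    intro g
    rw [hHdef, Subgroup.mem_inf, mem_stabilizer_iff, mem_stabilizer_iff]
  haveI : IsCyclic H := isCyclic_of_subgroup_isDomain μ hμi
  have hroot : ∀ s : ZMod q, s ^ m = 1 → ∃ h ∈ H, ∀ i, h • lab x o i = lab x o (s * i) := by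
    intro s hs
    obtain ⟨h, hh⟩ := exists_of_root μ hμi s (by rw [hHc]; exact hs)
    exact ⟨h, h.2, fun i => by rw [hμ, hh]⟩
  -- the involution
  obtain ⟨g, hg1, hg2⟩ : ∃ g : G, g • inf = o ∧ g • o = inf := by
    obtain ⟨g1, hg1⟩ := exists_smul_eq G inf o
    have h1 : g1⁻¹ • inf ≠ inf := by
      intro h
      rw [inv_smul_eq_iff, hg1] at h
      exact ho h.symm
    obtain ⟨j, hj⟩ := hsurj _ h1
    refine ⟨g1 * x ^ j.val, ?_, ?_⟩
    · rw [mul_smul, hxin, hg1]
    · rw [mul_smul]
      have : x ^ j.val • o = g1⁻¹ • inf := hj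
      rw [this, smul_inv_smul]
  obtain ⟨t, ht2, hti, hto⟩ := exists_swap inf o m hmodd (hHdef ▸ hHc) g hg1 hg2
  have htinv : t⁻¹ = t := inv_eq_of_mul_eq_one_left ht2
  have htt : ∀ ω : Ω, t • t • ω = ω := fun ω => by rw [← mul_smul, ht2, one_smul]
  have hnofix : ∀ ω : Ω, t • ω ≠ ω := by
    intro ω hω
    have h1 := pow_card_eq_one' (x := (⟨t, hω⟩ : stabilizer G ω))
    rw [hst] at h1
    have h2 : t ^ (q * m) = 1 := congrArg Subtype.val h1
    have hodd : Odd (q * m) := by
      refine Odd.mul ?_ hmodd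
      rw [hq]; exact ⟨m, rfl⟩
    obtain ⟨l, hl⟩ := hodd
    rw [hl, pow_succ, pow_mul, pow_two, ht2, one_pow, one_mul] at h2
    rw [h2, one_smul] at hti
    exact ho hti.symm
  have hnormH : ∀ h ∈ H, t * h * t⁻¹ ∈ H := by
    intro h hh
    rw [hmemH] at hh ⊢
    rw [htinv, mul_smul, mul_smul, mul_smul, mul_smul, hti, hto, hh.1, hh.2, hti, hto]
    exact ⟨rfl, rfl⟩
  have hk : k ≠ 0 := by
    rintro rfl
    rw [pow_zero] at hmr
    omega
  have hrm : r ∣ m := by rw [hmr]; exact dvd_pow_self r hk
  have hr2 : r ≠ 2 := by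
    rintro rfl
    obtain ⟨l, hl⟩ := hmodd
    omega
  have hHc' : Nat.card H = r ^ k := by rw [hHc, hmr]
  have hinv : ∀ h ∈ H, t * h * t⁻¹ = h⁻¹ := by
    rcases fix_or_invert hr2 hHc' t ht2 hnormH with hfix | hinv
    · exfalso
      obtain ⟨Q, hQ⟩ := (IsPGroup.of_card hHc').exists_le_sylow
      have hnd : ¬ r ∣ q * (q + 1) := by
        intro h
        rcases hrp.dvd_mul.mp h with h | h
        · have h1 : r ∣ 1 := by
            have h3 : r ∣ 2 * m := Dvd.dvd.mul_left hrm 2
            have := (Nat.dvd_sub h h3)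
            have e : q - 2 * m = 1 := by omega
            rwa [e] at this
          exact hrp.one_lt.ne' (Nat.dvd_one.mp h1)
        · have h1 : r ∣ 2 := by
            have h3 : r ∣ 2 * m := Dvd.dvd.mul_left hrm 2
            have := (Nat.dvd_sub h h3)
            have e : q + 1 - 2 * m = 2 := by omega
            rwa [e] at this
          exact hr2 ((Nat.prime_dvd_prime_iff_eq hrp Nat.prime_two).mp h1)
      have hQc : Nat.card Q = r ^ k :=
        Cfsg.Agent.Lib.Helper63SylowNum3.card_sylow_eq_prime_pow Q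
          (by rw [hG, hmr]; ring) hnd
      have hQH : (Q : Subgroup G) = H :=
        (Subgroup.eq_of_le_of_card_ge hQ (by rw [hHc']; exact hQc.le)).symm
      have hcommH : ∀ a ∈ H, ∀ b ∈ H, a * b = b * a := by
        intro a ha b hb
        have := IsCyclic.commGroup.mul_comm (⟨a, ha⟩ : H) ⟨b, hb⟩
        exact congrArg Subtype.val this
      -- a nontrivial element of `H`
      obtain ⟨h1, hh1⟩ : ∃ h1 : H, μ h1 ≠ 1 := by
        by_contra hcon
        push Not at hcon
        have : Nat.card H ≤ 1 := Finite.card_le_one_iff_subsingleton.mpr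
          ⟨fun a b => hμi (by rw [hcon a, hcon b])⟩
        omega
      have hfixH : ∀ ω : Ω, (∀ h ∈ H, h • ω = ω) → ω = inf ∨ ω = o := by
        intro ω hω
        by_cases hωi : ω = inf
        · exact Or.inl hωi
        · right
          obtain ⟨i, rfl⟩ := hsurj ω hωi
          have h2 := hω h1 h1.2
          rw [hμ] at h2
          have h3 := hinj h2
          have h4 : (μ h1 - 1) * i = 0 := by rw [sub_mul, h3, one_mul, sub_self]
          rcases mul_eq_zero.mp h4 with h5 | h5
          · exact absurd (sub_eq_zero.mp h5) hh1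
          · rw [h5, lab_zero]
      have hcase : ∀ g : G, (∀ h ∈ H, g⁻¹ * h * g ∈ H) → g • inf = inf → g ∈ H := by
        intro g hgN hgi
        rw [hmemH]
        refine ⟨hgi, ?_⟩
        have h2 : ∀ h ∈ H, h • (g • o) = g • o := by
          intro h hh
          have h3 := ((hmemH _).mp (hgN h hh)).2
          rw [mul_smul, mul_smul, inv_smul_eq_iff] at h3
          exact h3
        rcases hfixH _ h2 with h3 | h3
        · exfalso
          apply ho
          exact smul_left_cancel g (h3.trans hgi.symm)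
        · exact h3
      have hNC : normalizer ((Q : Subgroup G) : Set G) ≤ centralizer ((Q : Subgroup G) : Set G) := by
        intro g hg
        rw [hQH] at hg ⊢
        have hgN : ∀ h ∈ H, g⁻¹ * h * g ∈ H := by
          intro h hh
          have := (Subgroup.mem_normalizer_iff''.mp hg h).mp hh
          exact this
        have h2 : ∀ h ∈ H, h • (g • inf) = g • inf := by
          intro h hh
          have h3 := ((hmemH _).mp (hgN h hh)).1
          rw [mul_smul, mul_smul, inv_smul_eq_iff] at h3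
          exact h3
        rw [Subgroup.mem_centralizer_iff]
        rcases hfixH _ h2 with h3 | h3
        · have hgH := hcase g hgN h3
          intro h hh
          exact hcommH h hh g hgH
        · have htg : t * g ∈ H := by
            apply hcase
            · intro h hh
              have e : (t * g)⁻¹ * h * (t * g) = g⁻¹ * (t * h * t⁻¹) * g := by
                rw [htinv, mul_inv_rev, htinv]; group
              rw [e]
              exact hgN _ (hnormH h hh)
            · rw [mul_smul, h3, hto]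
          intro h hh
          have h5 := hcommH h hh _ htg
          have h6 : t * h = h * t := by
            have := hfix h hh
            calc t * h = t * h * t⁻¹ * t := by group
              _ = h * t := by rw [this]
          have h7 : t * (h * g) = t * (g * h) := by
            calc t * (h * g) = (t * h) * g := by group
              _ = h * (t * g) := by rw [h6]; group
              _ = t * g * h := h5
              _ = t * (g * h) := by group
          exact mul_left_cancel h7
      have h8 := Cfsg.Agent.Lib.Helper63SylowNum3.card_eq_of_normalizer_le_centralizer r Q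
        (by rw [hQc, ← hmr]; omega) hNC
      rw [hQc, ← hmr, hG] at h8
      have : m * 1 < m * (q * (q + 1)) := by
        apply Nat.mul_lt_mul_of_pos_left
        · nlinarith [hqp.two_le]
        · omega
      nlinarith
    · exact hinv
  -- the action of `t`
  have hkey : ∀ s y z : ZMod q, s ^ m = 1 → t • lab x o y = lab x o z →
      t • lab x o (s * y) = lab x o (s⁻¹ * z) := by
    intro s y z hs hyz
    obtain ⟨h, hh, hact⟩ := hroot s hs
    have hs0 : s ≠ 0 := by
      rintro rfl
      rw [zero_pow (by omega)] at hs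
      exact zero_ne_one hs
    have h1 : t * h = h⁻¹ * t := by
      have := hinv h hh
      calc t * h = t * h * t⁻¹ * t := by group
        _ = h⁻¹ * t := by rw [this]
    rw [← hact, ← mul_smul, h1, mul_smul, hyz, inv_smul_eq_iff, hact, mul_inv_cancel_left₀ hs0]
  obtain ⟨c, hc⟩ : ∃ c : ZMod q, t • lab x o 1 = lab x o c := by
    have h1 : t • lab x o (1 : ZMod q) ≠ inf := by
      intro h
      rw [← hto] at h
      have h2 := smul_left_cancel t h
      exact one_ne_zero (hinj (h2.trans (lab_zero (q := q) x o).symm))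
    obtain ⟨c, hc⟩ := hsurj _ h1
    exact ⟨c, hc.symm⟩
  have hc0 : c ≠ 0 := by
    rintro rfl
    rw [lab_zero] at hc
    exact hlabne _ (smul_left_cancel t (hc.trans hti.symm))
  obtain ⟨l, hl⟩ := hmodd
  have hq2 : q / 2 = m := by omega
  have hpm : ∀ y : ZMod q, y ≠ 0 → y ^ m = 1 ∨ y ^ m = -1 := by
    intro y hy
    have := ZMod.pow_div_two_eq_neg_one_or_one q hy
    rwa [hq2] at this
  have hcm : c ^ m = -1 := by
    rcases hpm c hc0 with h | h
    · exfalso
      have hd2 : c ^ (l + 1) * c ^ (l + 1) = c := by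
        rw [← pow_add]
        have e : l + 1 + (l + 1) = m + 1 := by omega
        rw [e, pow_succ, h, one_mul]
      have hdm : (c ^ (l + 1)) ^ m = 1 := by
        rw [← pow_mul, mul_comm, pow_mul, h, one_pow]
      have hd0 : c ^ (l + 1) ≠ 0 := pow_ne_zero _ hc0
      have h1 := hkey _ 1 c hdm hc
      rw [mul_one] at h1
      have h2 : (c ^ (l + 1))⁻¹ * c = c ^ (l + 1) := by
        calc (c ^ (l + 1))⁻¹ * c = (c ^ (l + 1))⁻¹ * (c ^ (l + 1) * c ^ (l + 1)) := by rw [hd2]
          _ = c ^ (l + 1) := inv_mul_cancel_left₀ hd0 _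
      rw [h2] at h1
      exact hnofix _ h1
    · exact h
  have hnegm : (-c) ^ m = 1 := by
    rw [neg_pow, hcm, Odd.neg_one_pow ⟨l, hl⟩]; ring
  have he : ((-c) ^ (l + 1)) ^ 2 = -c := by
    rw [← pow_mul]
    have e : (l + 1) * 2 = m + 1 := by omega
    rw [e, pow_succ, hnegm, one_mul]
  have ht3 : ∀ y : ZMod q, y ≠ 0 → t • lab x o y = lab x o (c / y) := by
    intro y hy
    rcases hpm y hy with h | h
    · have h1 := hkey y 1 c h hc
      rw [mul_one] at h1
      rw [h1, div_eq_mul_inv, mul_comm]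
    · have hs : (c / y) ^ m = 1 := by
        rw [div_pow, hcm, h]
        exact div_self (by simp)
      have h1 := hkey (c / y) 1 c hs hc
      rw [mul_one] at h1
      have h2 : (c / y)⁻¹ * c = y := by
        field_simp
      rw [h2] at h1
      rw [← h1, htt]
  refine Cfsg.Agent.Lib.Helper63RecB.iso_of_data (by rw [Nat.card_zmod]; omega) hfaith E ?_ t c
    ((-c) ^ (l + 1)) he hc0 ?_ ?_ ?_ hpsl
  · intro b
    refine ⟨x ^ b.val, ?_, ?_⟩
    · rw [hE1, hxin]
    · intro y
      rw [hE2, hE2, pow_smul_lab x hx, ZMod.natCast_zmod_val]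
  · rw [hE1, hE2, lab_zero, hti]
  · rw [hE1, hE2, lab_zero, hto]
  · intro y hy
    rw [hE2, hE2, ht3 y hy]

end Cfsg.Agent.Lib.Helper63RecC
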