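import Mathlib
import Cfsg.Agent.Lib.Helper63RecC
import Cfsg.Agent.Lib.Helper63SylowNum2
import Cfsg.Agent.Lib.Helper6Transport
import Cfsg.Agent.S0243

/-!
# Recognition of `PSL₂(q)` from the order and the number of Sylow `q`-subgroups
-/

set_option autoImplicit false

namespace Cfsg.Agent.Lib.Helper63RecD

open MulAction Subgroup

theorem card_psl (q m : ℕ) [Fact q.Prime] (hq : q = 2 * m + 1) (hm : 0 < m) :
    Nat.card (Matrix.ProjectiveSpecialLinearGroup (Fin 2) (ZMod q)) = q * m * (q + 1) := by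
  have h := Cfsg.Agent.S0243.result (F := ZMod q) (q := q) (ZMod.card q) 2 le_rfl
  rw [Fin.prod_univ_two] at h
  have e1 : q - 1 = 2 * m := by omega
  have e2 : Nat.gcd 2 (2 * m) = 2 := Nat.gcd_eq_left (Dvd.intro m rfl)
  have e3 : q ^ 2 - q ^ ((0 : Fin 2) : ℕ) = 4 * m * (m + 1) := by
    have : q ^ 2 = 4 * m * (m + 1) + 1 := by rw [hq]; ring
    simp only [Fin.val_zero, pow_zero]
    omega
  have e4 : q ^ 2 - q ^ ((1 : Fin 2) : ℕ) = q * (2 * m) := by
    have : q ^ 2 = q * (2 * m) + q := by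
      conv_lhs => rw [pow_two]
      conv_lhs => rw [hq]
      rw [hq]; ring
    simp only [Fin.val_one, pow_one]
    omega
  rw [e1, e2, e3, e4] at h
  have h2 : (4 * m) * Nat.card (Matrix.ProjectiveSpecialLinearGroup (Fin 2) (ZMod q))
      = (4 * m) * (q * m * (q + 1)) := by
    have : q + 1 = 2 * (m + 1) := by omega
    rw [this]
    nlinarith [h]
  exact Nat.eq_of_mul_eq_mul_left (by omega) h2

theorem of_sylow {G : Type*} [Group G] [Finite G] [IsSimpleGroup G] {q : ℕ} [Fact q.Prime]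
    (m r k : ℕ) [Fact r.Prime] (hq : q = 2 * m + 1) (hmodd : Odd m) (hmr : m = r ^ k) (hm1 : 1 < m)
    (hG : Nat.card G = q * m * (q + 1)) (hn : Nat.card (Sylow q G) = q + 1) :
    Nonempty (G ≃* Matrix.ProjectiveSpecialLinearGroup (Fin 2) (ZMod q)) := by
  have hqp : q.Prime := Fact.out
  obtain ⟨P⟩ : Nonempty (Sylow q G) := inferInstance
  have hnd : ¬ q ∣ m * (q + 1) := by
    intro h
    rcases hqp.dvd_mul.mp h with h | h
    · have := Nat.le_of_dvd (by omega) h
      omega
    · have h1 : q ∣ 1 := (Nat.dvd_add_right (dvd_refl q)).mp h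
      exact hqp.one_lt.ne' (Nat.dvd_one.mp h1)
  have hPc : Nat.card P = q :=
    Cfsg.Agent.Lib.Helper63SylowNum2.card_sylow_eq_prime P (by rw [hG]; ring) hnd
  haveI : IsCyclic P := isCyclic_of_prime_card hPc
  obtain ⟨x0, hgen⟩ := IsCyclic.exists_generator (α := P)
  have hxo : orderOf (x0 : G) = q := by
    rw [Subgroup.orderOf_coe, orderOf_eq_card_of_forall_mem_zpowers hgen, hPc]
  have hx1 : (x0 : G) ≠ 1 := by
    intro h
    rw [h, orderOf_one] at hxo
    exact hqp.one_lt.ne hxo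
  have hn1 : Nat.card (Sylow q G) ≠ 1 := by rw [hn]; have := hqp.pos; omega
  refine Cfsg.Agent.Lib.Helper63RecC.main (Ω := Sylow q G)
    (Cfsg.Agent.Lib.Helper63SylowNum2.faithful hn1) hn m r k hq hmodd hmr hm1 hG (x0 : G) P hxo
    ?_ ?_ (by rw [hG, card_psl q m hq (by omega)])
  · intro Q
    have := Cfsg.Agent.Lib.Helper63SylowNum3.fixedBy_eq_singleton_of_mem P hPc x0 x0.2 hx1
    have h2 : Q ∈ fixedBy (Sylow q G) (x0 : G) ↔ Q ∈ ({P} : Set (Sylow q G)) := by rw [this]
    rw [mem_fixedBy, Set.mem_singleton_iff] at h2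
    exact h2
  · intro g hg
    rw [Sylow.smul_eq_iff_mem_normalizer] at hg
    have h1 : g * x0 * g⁻¹ ∈ (P : Subgroup G) := (hg x0).mp x0.2
    have h2 := hgen ⟨_, h1⟩
    rw [← mem_powers_iff_mem_zpowers] at h2
    obtain ⟨a, ha⟩ := h2
    exact ⟨a, by have := congrArg Subtype.val ha; simpa using this.symm⟩

/-- version for an arbitrary field with `q` elements -/
theorem of_sylow' {G : Type*} [Group G] [Finite G] [IsSimpleGroup G] {q : ℕ} [Fact q.Prime]
    (m r k : ℕ) [Fact r.Prime] (hq : q = 2 * m + 1) (hmodd : Odd m) (hmr : m = r ^ k) (hm1 : 1 < m)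
    (hG : Nat.card G = q * m * (q + 1)) (hn : Nat.card (Sylow q G) = q + 1)
    {F : Type*} [Field F] [Fintype F] (hF : Fintype.card F = q) :
    Nonempty (G ≃* Matrix.ProjectiveSpecialLinearGroup (Fin 2) F) := by
  obtain ⟨e⟩ := of_sylow m r k hq hmodd hmr hm1 hG hn
  obtain ⟨f⟩ := Cfsg.Agent.Lib.Helper6Transport.nonempty_pslEquiv (n := Fin 2) (F := ZMod q) (K := F)
    (by rw [ZMod.card, hF])
  exact ⟨e.trans f⟩


/-- the number of Sylow subgroups of a simple group, when Sylow's theorem leaves one possibility -/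
theorem card_sylow_of {G : Type*} [Group G] [Finite G] [IsSimpleGroup G] {q : ℕ} [Fact q.Prime]
    (N n : ℕ) (hG : Nat.card G = q * N) (hqN : ¬ q ∣ N) (hN : N ≠ 1)
    (h : ∀ d, d ∣ N → d % q = 1 → d = 1 ∨ d = n) : Nat.card (Sylow q G) = n := by
  have hqp : q.Prime := Fact.out
  obtain ⟨P⟩ : Nonempty (Sylow q G) := inferInstance
  have hPc : Nat.card P = q := Cfsg.Agent.Lib.Helper63SylowNum2.card_sylow_eq_prime P hG hqN
  have hidx : (P : Subgroup G).index = N := by
    have := (P : Subgroup G).card_mul_index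
    rw [hG, show Nat.card (P : Subgroup G) = q from hPc] at this
    exact Nat.eq_of_mul_eq_mul_left hqp.pos this
  have h1 : Nat.card (Sylow q G) ∣ N := hidx ▸ P.card_dvd_index
  have h2 : Nat.card (Sylow q G) % q = 1 := by
    have := card_sylow_modEq_one q G
    rw [Nat.ModEq, Nat.mod_eq_of_lt hqp.one_lt] at this
    exact this
  rcases h _ h1 h2 with h3 | h3
  · exfalso
    have hnorm : (P : Subgroup G).Normal := by
      rw [← Subgroup.normalizer_eq_top_iff, ← Subgroup.index_eq_one]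
      exact P.card_eq_index_normalizer.symm.trans h3
    rcases hnorm.eq_bot_or_eq_top with h4 | h4
    · rw [show Nat.card P = Nat.card (P : Subgroup G) from rfl, h4, Subgroup.card_bot] at hPc
      exact hqp.one_lt.ne hPc
    · rw [h4, Subgroup.index_top] at hidx
      exact hN hidx.symm
  · exact h3

end Cfsg.Agent.Lib.Helper63RecD
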