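import Mathlib
import Cfsg.Agent.Lib.Helper63SylowNum2

/-!
# Signs of semiregular permutations, with applications to simple groups
-/

set_option autoImplicit false

namespace Cfsg.Agent.Lib.Helper63RecE

open MulAction Subgroup

theorem cycleType_replicate {β : Type*} [Fintype β] [DecidableEq β] (σ : Equiv.Perm β) (L : ℕ)
    (h : ∀ x, σ x ≠ x → ∀ j : ℕ, (σ ^ j) x = x ↔ L ∣ j) :
    σ.cycleType = Multiset.replicate (Multiset.card σ.cycleType) L := by
  apply Multiset.eq_replicate_card.mpr
  intro n hn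
  rw [Equiv.Perm.cycleType_def, Multiset.mem_map] at hn
  obtain ⟨c, hc, hcard⟩ := hn
  have hc' : c ∈ σ.cycleFactorsFinset := hc
  have hcyc : c.IsCycle := (Equiv.Perm.mem_cycleFactorsFinset_iff.mp hc').1
  obtain ⟨x, hx⟩ := hcyc.nonempty_support
  have hcx : c x ≠ x := Equiv.Perm.mem_support.mp hx
  have hσx : σ x ≠ x :=
    Equiv.Perm.mem_support.mp (Equiv.Perm.mem_cycleFactorsFinset_support_le hc' hx)
  have hceq : c = σ.cycleOf x := Equiv.Perm.cycle_is_cycleOf hx hc'
  have hpow : ∀ j : ℕ, (c ^ j) x = (σ ^ j) x := by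
    intro j
    rw [hceq, Equiv.Perm.cycleOf_pow_apply_self]
  have hord : orderOf c = n := by rw [hcyc.orderOf]; exact hcard
  rw [← hord]
  apply Nat.dvd_antisymm
  · apply orderOf_dvd_of_pow_eq_one
    rw [hcyc.pow_eq_one_iff' hcx, hpow]
    exact (h x hσx L).mpr dvd_rfl
  · apply (h x hσx _).mp
    rw [← hpow, pow_orderOf_eq_one]
    rfl

theorem sign_semiregular {β : Type*} [Fintype β] [DecidableEq β] (σ : Equiv.Perm β) (L : ℕ)
    (hL : Even L) (hL0 : 0 < L)
    (h : ∀ x, σ x ≠ x → ∀ j : ℕ, (σ ^ j) x = x ↔ L ∣ j) :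
    Equiv.Perm.sign σ = (-1) ^ ((Fintype.card β - Fintype.card (Function.fixedPoints σ)) / L) := by
  have := Equiv.Perm.sign_of_cycleType_eq_replicate hL0 (cycleType_replicate σ L h)
  rw [this, if_neg (Nat.not_odd_iff_even.mpr hL)]

/-- In a nonabelian simple group the index of a cyclic subgroup of even order is even. -/
theorem even_card_div_orderOf {G : Type*} [Group G] [Finite G] [IsSimpleGroup G]
    (hnc : ¬ IsMulCommutative G) (g : G) (hg : Even (orderOf g)) :
    Even (Nat.card G / orderOf g) := by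
  classical
  haveI := Fintype.ofFinite G
  have h0 : 0 < orderOf g := orderOf_pos g
  have hg1 : g ≠ 1 := by
    rintro rfl
    rw [orderOf_one] at hg
    exact absurd hg (by decide)
  have hpow : ∀ (j : ℕ) (x : G), ((MulAction.toPerm g : Equiv.Perm G) ^ j) x = g ^ j * x := by
    intro j x
    induction j with
    | zero => simp
    | succ n ih => rw [pow_succ', Equiv.Perm.mul_apply, ih, pow_succ', mul_assoc]; rfl
  have hs := sign_semiregular (MulAction.toPerm g : Equiv.Perm G) (orderOf g) hg h0 (by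
    intro x _ j
    rw [hpow, mul_eq_right, orderOf_dvd_iff_pow_eq_one])
  rw [Cfsg.Agent.Lib.Helper63SylowNum2.sign_eq_one hnc] at hs
  have hfix : Fintype.card (Function.fixedPoints (MulAction.toPerm g : Equiv.Perm G)) = 0 := by
    rw [Fintype.card_eq_zero_iff]
    refine ⟨fun x => ?_⟩
    have h1 : g * x.1 = x.1 := x.2
    exact hg1 (mul_eq_right.mp h1)
  rw [hfix, Nat.sub_zero, ← Nat.card_eq_fintype_card] at hs
  by_contra hodd
  rw [Nat.not_even_iff_odd] at hodd
  rw [hodd.neg_one_pow] at hs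
  exact absurd hs (by decide)

/-- An element interchanging two points and acting semiregularly, with cycles of even length `L`,
on the remaining points of a set on which a nonabelian simple group acts: the number of these
cycles is odd. -/
theorem odd_of_swap {G Ω : Type*} [Group G] [Finite G] [IsSimpleGroup G] [MulAction G Ω] [Finite Ω]
    (hnc : ¬ IsMulCommutative G) (g : G) (a b : Ω) (hab : a ≠ b) (hga : g • a = b) (hgb : g • b = a)
    (L : ℕ) (hL : Even L) (hL0 : 0 < L)
    (h : ∀ ω : Ω, ω ≠ a → ω ≠ b → ∀ j : ℕ, g ^ j • ω = ω ↔ L ∣ j) :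
    Odd ((Nat.card Ω - 2) / L) := by
  classical
  haveI := Fintype.ofFinite Ω
  set σ : Equiv.Perm Ω := Equiv.swap a b * MulAction.toPerm g with hσ
  have hσa : σ a = a := by
    rw [hσ, Equiv.Perm.mul_apply, MulAction.toPerm_apply, hga, Equiv.swap_apply_right]
  have hσb : σ b = b := by
    rw [hσ, Equiv.Perm.mul_apply, MulAction.toPerm_apply, hgb, Equiv.swap_apply_left]
  have hinv : ∀ ω : Ω, ω ≠ a → ω ≠ b → g • ω ≠ a ∧ g • ω ≠ b := by
    intro ω h1 h2
    constructor
    · intro h3
      exact h2 (smul_left_cancel g (h3.trans hgb.symm))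
    · intro h3
      exact h1 (smul_left_cancel g (h3.trans hga.symm))
  have hσω : ∀ ω : Ω, ω ≠ a → ω ≠ b → σ ω = g • ω := by
    intro ω h1 h2
    rw [hσ, Equiv.Perm.mul_apply, MulAction.toPerm_apply,
      Equiv.swap_apply_of_ne_of_ne (hinv ω h1 h2).1 (hinv ω h1 h2).2]
  have hpow : ∀ (j : ℕ) (ω : Ω), ω ≠ a → ω ≠ b →
      (σ ^ j) ω = g ^ j • ω ∧ g ^ j • ω ≠ a ∧ g ^ j • ω ≠ b := by
    intro j ω h1 h2
    induction j with
    | zero => simp [h1, h2]
    | succ n ih =>
      obtain ⟨i1, i2, i3⟩ := ih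
      rw [pow_succ', Equiv.Perm.mul_apply, i1, hσω _ i2 i3, pow_succ', mul_smul]
      exact ⟨rfl, hinv _ i2 i3⟩
  have hL2 : 2 ≤ L := by
    obtain ⟨l, hl⟩ := hL
    omega
  have hs := sign_semiregular σ L hL hL0 (by
    intro x hx j
    have h1 : x ≠ a := fun h => hx (h ▸ hσa)
    have h2 : x ≠ b := fun h => hx (h ▸ hσb)
    rw [(hpow j x h1 h2).1]
    exact h x h1 h2 j)
  have hsign : Equiv.Perm.sign σ = -1 := by
    rw [hσ, Equiv.Perm.sign_mul, Equiv.Perm.sign_swap hab,
      Cfsg.Agent.Lib.Helper63SylowNum2.sign_eq_one hnc, mul_one]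
  have hfix : Fintype.card (Function.fixedPoints σ) = 2 := by
    have : (Function.fixedPoints σ) = ({a, b} : Set Ω) := by
      ext ω
      simp only [Function.mem_fixedPoints, Function.IsFixedPt, Set.mem_insert_iff,
        Set.mem_singleton_iff]
      constructor
      · intro h3
        by_contra hcon
        push Not at hcon
        rw [hσω ω hcon.1 hcon.2] at h3
        have h4 := (h ω hcon.1 hcon.2 1).mp (by rwa [pow_one])
        have := Nat.le_of_dvd one_pos h4
        omega
      · rintro (rfl | rfl)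
        · exact hσa
        · exact hσb
    rw [← Nat.card_eq_fintype_card, this]
    rw [Nat.card_coe_set_eq, Set.ncard_pair hab]
  rw [hsign, hfix, ← Nat.card_eq_fintype_card] at hs
  by_contra heven
  rw [Nat.not_odd_iff_even] at heven
  rw [heven.neg_one_pow] at hs
  exact absurd hs (by decide)

end Cfsg.Agent.Lib.Helper63RecE
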