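import Mathlib
import Cfsg.Agent.Lib.Helper63RecA
import Cfsg.Agent.Lib.Helper63RecB
import Cfsg.Agent.Lib.Helper63RecC
import Cfsg.Agent.Lib.Helper63RecE
import Cfsg.Agent.Lib.Helper63Syl22a

/-!
# Recognition of `PSL₂(q)`, `q ≡ 1 mod 4` a prime
-/

set_option autoImplicit false

namespace Cfsg.Agent.Lib.Helper63RecF

open MulAction Subgroup OnePoint Cfsg.Agent.Lib.Helper63RecA

variable {G Ω : Type*} [Group G] [MulAction G Ω] {q : ℕ} [Fact q.Prime]

omit [Fact q.Prime] in
/-- odd powers of an element interchanging two points interchange them -/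
theorem swap_pow (g : G) (a b : Ω) (hga : g • a = b) (hgb : g • b = a) (n : ℕ) (hn : Odd n) :
    g ^ n • a = b ∧ g ^ n • b = a := by
  obtain ⟨l, rfl⟩ := hn
  induction l with
  | zero => simp [hga, hgb]
  | succ k ih =>
    have e : 2 * (k + 1) + 1 = (2 * k + 1) + 1 + 1 := by ring
    rw [e, pow_succ, pow_succ, mul_smul, mul_smul, mul_smul, mul_smul, hga, hgb, hga]
    exact ih

/-- The Burnside transfer argument: a Sylow subgroup inside the two point stabiliser `H` is not
centralised by an element interchanging the two points. -/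
theorem no_central_sylow [Finite G] [IsSimpleGroup G] (inf o : Ω) (ho : o ≠ inf)
    (H : Subgroup G) (hmemH : ∀ g : G, g ∈ H ↔ g • inf = inf ∧ g • o = o)
    (hcommH : ∀ a ∈ H, ∀ b ∈ H, a * b = b * a)
    (hsemi : ∀ h ∈ H, ∀ ω : Ω, ω ≠ inf → ω ≠ o → h • ω = ω → h = 1)
    (t : G) (hti : t • inf = o) (hto : t • o = inf)
    (p : ℕ) [Fact p.Prime] (Q : Sylow p G) (hQH : (Q : Subgroup G) ≤ H)
    (hQ1 : Nat.card Q ≠ 1) (hQG : Nat.card Q ≠ Nat.card G)
    (hfix : ∀ h ∈ Q, t * h * t⁻¹ = h) : False := by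
  obtain ⟨h1, hh1Q, hh1⟩ : ∃ h1 ∈ (Q : Subgroup G), h1 ≠ 1 := by
    by_contra hcon
    push Not at hcon
    apply hQ1
    have : (Q : Subgroup G) = ⊥ := (Subgroup.eq_bot_iff_forall _).mpr hcon
    rw [show Nat.card Q = Nat.card (Q : Subgroup G) from rfl, this, Subgroup.card_bot]
  have hfixQ : ∀ ω : Ω, (∀ h ∈ Q, h • ω = ω) → ω = inf ∨ ω = o := by
    intro ω hω
    by_contra hcon
    push Not at hcon
    exact hh1 (hsemi h1 (hQH hh1Q) ω hcon.1 hcon.2 (hω h1 hh1Q))
  have hcase : ∀ g : G, (∀ h ∈ Q, g⁻¹ * h * g ∈ Q) → g • inf = inf → g ∈ H := by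
    intro g hgN hgi
    rw [hmemH]
    refine ⟨hgi, ?_⟩
    have h2 : ∀ h ∈ Q, h • (g • o) = g • o := by
      intro h hh
      have h3 := ((hmemH _).mp (hQH (hgN h hh))).2
      rw [mul_smul, mul_smul, inv_smul_eq_iff] at h3
      exact h3
    rcases hfixQ _ h2 with h3 | h3
    · exfalso
      apply ho
      exact smul_left_cancel g (h3.trans hgi.symm)
    · exact h3
  have hNC : normalizer ((Q : Subgroup G) : Set G) ≤ centralizer ((Q : Subgroup G) : Set G) := by
    intro g hg
    have hgN : ∀ h ∈ Q, g⁻¹ * h * g ∈ Q := by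
      intro h hh
      have := (Subgroup.mem_normalizer_iff''.mp hg h).mp hh
      exact this
    have h2 : ∀ h ∈ Q, h • (g • inf) = g • inf := by
      intro h hh
      have h3 := ((hmemH _).mp (hQH (hgN h hh))).1
      rw [mul_smul, mul_smul, inv_smul_eq_iff] at h3
      exact h3
    rw [Subgroup.mem_centralizer_iff]
    rcases hfixQ _ h2 with h3 | h3
    · have hgH := hcase g hgN h3
      intro h hh
      exact hcommH h (hQH hh) g hgH
    · have htg : t * g ∈ H := by
        apply hcase
        · intro h hh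
          have e : (t * g)⁻¹ * h * (t * g) = g⁻¹ * (t⁻¹ * h * t) * g := by group
          have e2 : t⁻¹ * h * t = h := by
            have := hfix h hh
            calc t⁻¹ * h * t = t⁻¹ * (t * h * t⁻¹) * t := by rw [this]
              _ = h := by group
          rw [e, e2]
          exact hgN h hh
        · rw [mul_smul, h3, hto]
      intro h hh
      have h5 := hcommH h (hQH hh) _ htg
      have h6 : t * h = h * t := by
        have := hfix h hh
        calc t * h = t * h * t⁻¹ * t := by group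
          _ = h * t := by rw [this]
      have h7 : t * (h * g) = t * (g * h) := by
        calc t * (h * g) = (t * h) * g := by group
          _ = h * (t * g) := by rw [h6]; group
          _ = t * g * h := h5
          _ = t * (g * h) := by group
      exact mul_left_cancel h7
  exact hQG (Cfsg.Agent.Lib.Helper63SylowNum3.card_eq_of_normalizer_le_centralizer p Q hQ1 hNC).symm


omit [MulAction G Ω] in
/-- An involution `t` normalising a cyclic group `H` inverts it, provided the `2`-elements of the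
coset `tH` are involutions and `t` centralises no Sylow subgroup of `H` for an odd prime. -/
theorem inverts {H : Subgroup G} [IsCyclic H] [Finite H] (t : G) (ht : t * t = 1)
    (hn : ∀ h ∈ H, t * h * t⁻¹ ∈ H)
    (hA : ∀ h ∈ H, (∃ n : ℕ, orderOf (t * h) = 2 ^ n) → (t * h) * (t * h) = 1)
    (hB : ∀ p : ℕ, p.Prime → p ≠ 2 → ∀ h ∈ H, orderOf h = p ^ ((Nat.card H).factorization p) →
      h ≠ 1 → t * h * t⁻¹ ≠ h) :
    ∀ h ∈ H, t * h * t⁻¹ = h⁻¹ := by
  obtain ⟨h0, hgen⟩ := IsCyclic.exists_generator (α := H)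
  set m := Nat.card H with hm
  have hm0 : m ≠ 0 := Nat.card_pos.ne'
  have htinv : t⁻¹ = t := inv_eq_of_mul_eq_one_left ht
  have hord : orderOf (h0 : G) = m := by
    rw [Subgroup.orderOf_coe, orderOf_eq_card_of_forall_mem_zpowers hgen]
  have hgen' : ∀ h ∈ H, ∃ n : ℕ, h = (h0 : G) ^ n := by
    intro h hh
    have h1 := hgen ⟨h, hh⟩
    rw [← mem_powers_iff_mem_zpowers] at h1
    obtain ⟨n, hn⟩ := h1
    exact ⟨n, by have := congrArg Subtype.val hn; simpa using this.symm⟩
  obtain ⟨j, hj⟩ := hgen' _ (hn h0 h0.2)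
  have hconj : ∀ n : ℕ, t * (h0 : G) ^ n * t⁻¹ = ((h0 : G) ^ n) ^ j := by
    intro n
    rw [← conj_pow, hj, ← pow_mul, ← pow_mul, mul_comm]
  have hjj : (h0 : G) ^ (j * j) = (h0 : G) ^ 1 := by
    have h1 := hconj j
    rw [← hj] at h1
    have h2 : t * (t * (h0 : G) * t⁻¹) * t⁻¹ = h0 := by
      have : t * (t * (h0 : G) * t⁻¹) * t⁻¹ = (t * t) * h0 * (t * t)⁻¹ := by group
      rw [this, ht]; simp
    rw [h2, hj, ← pow_mul] at h1
    rw [pow_one, ← h1]
  have hmod : (m : ℤ) ∣ ((j : ℤ) - 1) * ((j : ℤ) + 1) := by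
    have h1 := pow_eq_pow_iff_modEq.mp hjj
    rw [hord] at h1
    have h2 := (Nat.modEq_iff_dvd.mp h1.symm)
    have e : ((j : ℤ) - 1) * ((j : ℤ) + 1) = ((j * j : ℕ) : ℤ) - ((1 : ℕ) : ℤ) := by
      push_cast; ring
    rw [e]; exact h2
  have hdvd : m ∣ j + 1 := by
    rw [Nat.dvd_iff_prime_pow_dvd_dvd]
    intro p k hp hpk
    rcases Nat.eq_zero_or_pos k with rfl | hk
    · simp
    set K := m.factorization p with hK
    have hkK : k ≤ K := (hp.pow_dvd_iff_le_factorization hm0).mp hpk
    have hK0 : 0 < K := lt_of_lt_of_le hk hkK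
    have hpK : p ^ K ∣ m := Nat.ordProj_dvd m p
    refine (pow_dvd_pow p hkK).trans ?_
    have hpos : 0 < p ^ K := pow_pos hp.pos K
    have hdiv : m / p ^ K ∣ m := Nat.div_dvd_of_dvd hpK
    have hdiv0 : m / p ^ K ≠ 0 := by
      intro h
      rw [Nat.div_eq_zero_iff] at h
      rcases h with h | h
      · omega
      · exact absurd (Nat.le_of_dvd (Nat.pos_of_ne_zero hm0) hpK) (by omega)
    set h1 : G := (h0 : G) ^ (m / p ^ K) with hh1
    have hh1H : h1 ∈ H := H.pow_mem h0.2 _
    have hord1 : orderOf h1 = p ^ K := by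
      rw [hh1, orderOf_pow_of_dvd hdiv0 (by rw [hord]; exact hdiv), hord,
        Nat.div_div_self hpK hm0]
    have hc1 : t * h1 * t⁻¹ = h1 ^ j := hconj _
    by_cases hp2 : p = 2
    · subst hp2
      have hsq : (t * h1) * (t * h1) = h1 ^ (j + 1) := by
        calc (t * h1) * (t * h1) = (t * h1 * t) * h1 := by group
          _ = (t * h1 * t⁻¹) * h1 := by rw [htinv]
          _ = h1 ^ (j + 1) := by rw [hc1, pow_succ]
      have hpw : (t * h1) ^ (2 ^ (K + 1)) = 1 := by
        rw [pow_succ, mul_comm, pow_mul, pow_two, hsq, ← pow_mul, mul_comm, pow_mul, ← hord1,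
          pow_orderOf_eq_one, one_pow]
      obtain ⟨n, -, hn⟩ := (Nat.dvd_prime_pow Nat.prime_two).mp (orderOf_dvd_of_pow_eq_one hpw)
      have h3 := hA h1 hh1H ⟨n, hn⟩
      rw [hsq] at h3
      rw [← hord1]
      exact orderOf_dvd_of_pow_eq_one h3
    · have hpi : Prime (p : ℤ) := Nat.prime_iff_prime_int.mp hp
      have hd2 : ((p ^ K : ℕ) : ℤ) ∣ ((j : ℤ) - 1) * ((j : ℤ) + 1) :=
        (Int.natCast_dvd_natCast.mpr hpK).trans hmod
      by_cases hp1 : (p : ℤ) ∣ (j : ℤ) + 1
      · have hr3 : ¬ (p : ℤ) ∣ (j : ℤ) - 1 := by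
          intro h
          have h2 : (p : ℤ) ∣ 2 := by
            have := dvd_sub hp1 h
            have e : (j : ℤ) + 1 - ((j : ℤ) - 1) = 2 := by ring
            rwa [e] at this
          have h3 : p ∣ 2 := by exact_mod_cast h2
          exact hp2 ((Nat.prime_dvd_prime_iff_eq hp Nat.prime_two).mp h3)
        have hcop : IsCoprime ((p ^ K : ℕ) : ℤ) ((j : ℤ) - 1) := by
          push_cast
          exact IsCoprime.pow_left ((Prime.coprime_iff_not_dvd hpi).mpr hr3)
        have h4 : ((p ^ K : ℕ) : ℤ) ∣ (j : ℤ) + 1 := hcop.dvd_of_dvd_mul_left hd2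
        exact_mod_cast h4
      · exfalso
        have hcop : IsCoprime ((p ^ K : ℕ) : ℤ) ((j : ℤ) + 1) := by
          push_cast
          exact IsCoprime.pow_left ((Prime.coprime_iff_not_dvd hpi).mpr hp1)
        have h4 : ((p ^ K : ℕ) : ℤ) ∣ (j : ℤ) - 1 := hcop.dvd_of_dvd_mul_right hd2
        rw [← hord1] at h4
        have h5 : h1 ^ j = h1 := by
          have := orderOf_dvd_iff_zpow_eq_one.mp h4
          rw [zpow_sub, zpow_one, zpow_natCast] at this
          exact mul_inv_eq_one.mp this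
        refine hB p hp hp2 h1 hh1H hord1 ?_ (hc1.trans h5)
        intro h
        rw [h, orderOf_one] at hord1
        exact absurd hord1.symm (Nat.one_lt_pow hK0.ne' hp.one_lt).ne'
  have h5 : (h0 : G) ^ j = (h0 : G)⁻¹ := by
    have : (h0 : G) ^ (j + 1) = 1 := by
      rw [← hord] at hdvd
      exact orderOf_dvd_iff_pow_eq_one.mp hdvd
    rw [pow_succ] at this
    exact eq_inv_of_mul_eq_one_left this
  intro h hh
  obtain ⟨n, rfl⟩ := hgen' h hh
  rw [hconj, ← pow_mul, mul_comm, pow_mul, h5, inv_pow]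


theorem main1 [Finite G] [IsSimpleGroup G] [Finite Ω] [IsPretransitive G Ω]
    (hfaith : ∀ g : G, (∀ ω : Ω, g • ω = ω) → g = 1)
    (hΩ : Nat.card Ω = q + 1) (m : ℕ) (hq : q = 2 * m + 1) (hmeven : Even m) (hm1 : 1 < m)
    (hG : Nat.card G = q * m * (q + 1))
    (x : G) (inf : Ω) (hxo : orderOf x = q) (hxinf : ∀ ω, x • ω = ω ↔ ω = inf)
    (hnorm : ∀ g : G, g • inf = inf → ∃ a : ℕ, g * x * g⁻¹ = x ^ a)
    (ε : ZMod q) (hε1 : ε ^ m = -1) (hε2 : (ε - 1) ^ m = 1)
    (hpsl : Nat.card G ≤ Nat.card (Matrix.ProjectiveSpecialLinearGroup (Fin 2) (ZMod q))) :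
    Nonempty (G ≃* Matrix.ProjectiveSpecialLinearGroup (Fin 2) (ZMod q)) := by
  classical
  have hqp : q.Prime := Fact.out
  have hx : x ^ q = 1 := by rw [← hxo]; exact pow_orderOf_eq_one x
  obtain ⟨o, ho⟩ : ∃ o : Ω, o ≠ inf := by
    by_contra hcon
    push Not at hcon
    have : Nat.card Ω ≤ 1 :=
      Finite.card_le_one_iff_subsingleton.mpr ⟨fun a b => by rw [hcon a, hcon b]⟩
    omega
  have hxo' : x • o ≠ o := fun h => ho ((hxinf o).mp h)
  have hxi : x • inf = inf := (hxinf inf).mpr rfl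
  have hxin : ∀ n : ℕ, x ^ n • inf = inf := fun n =>
    (stabilizer G inf).pow_mem (mem_stabilizer_iff.mpr hxi) n
  obtain ⟨E, hE1, hE2⟩ := exists_equiv hΩ x o inf hxo hxi hxo'
  have hinj : Function.Injective (lab (q := q) x o) := lab_injective x o hxo hxo'
  have hsurj : ∀ ω, ω ≠ inf → ∃ i : ZMod q, lab x o i = ω := by
    intro ω hω
    obtain ⟨y, rfl⟩ := E.surjective ω
    cases y with
    | infty => exact absurd hE1 hω
    | coe y => exact ⟨y, (hE2 y).symm⟩
  have hlabne : ∀ i : ZMod q, lab x o i ≠ inf := lab_ne_inf x o inf hxi ho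
  have hlab0 : lab (q := q) x o 0 = o := lab_zero x o
  have hst : ∀ ω : Ω, Nat.card (stabilizer G ω) = q * m := by
    intro ω
    have := card_stabilizer (G := G) ω
    rw [hΩ, hG] at this
    exact Nat.eq_of_mul_eq_mul_right (Nat.succ_pos q) this
  have hHc : Nat.card (stabilizer G inf ⊓ stabilizer G o : Subgroup G) = m := by
    have := card_two_stabilizer (G := G) inf o (by
      intro ω hω
      obtain ⟨i, hi⟩ := hsurj ω hω
      exact ⟨x ^ i.val, hxin _, hi⟩) ho
    rw [hΩ, hst, Nat.add_sub_cancel, mul_comm] at this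
    exact Nat.eq_of_mul_eq_mul_left hqp.pos this
  have hμex := exists_mult hfaith x o inf hx E hE1 hE2 hnorm
  obtain ⟨H, hHdef⟩ : ∃ H : Subgroup G, H = stabilizer G inf ⊓ stabilizer G o := ⟨_, rfl⟩
  rw [← hHdef] at hμex hHc
  obtain ⟨μ, hμi, hμ⟩ := hμex
  have hmemH : ∀ g : G, g ∈ H ↔ g • inf = inf ∧ g • o = o := by
    intro g
    rw [hHdef, Subgroup.mem_inf, mem_stabilizer_iff, mem_stabilizer_iff]
  haveI : IsCyclic H := isCyclic_of_subgroup_isDomain μ hμi
  have hroot : ∀ s : ZMod q, s ^ m = 1 → ∃ h ∈ H, ∀ i, h • lab x o i = lab x o (s * i) := by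
    intro s hs
    obtain ⟨h, hh⟩ := exists_of_root μ hμi s (by rw [hHc]; exact hs)
    exact ⟨h, h.2, fun i => by rw [hμ, hh]⟩
  have hcommH : ∀ a ∈ H, ∀ b ∈ H, a * b = b * a := by
    intro a ha b hb
    have := IsCyclic.commGroup.mul_comm (⟨a, ha⟩ : H) ⟨b, hb⟩
    exact congrArg Subtype.val this
  have hsemi : ∀ h ∈ H, ∀ ω : Ω, ω ≠ inf → ω ≠ o → h • ω = ω → h = 1 := by
    intro h hh ω h1 h2 h3
    obtain ⟨i, rfl⟩ := hsurj ω h1
    have hi : i ≠ 0 := by
      rintro rfl
      exact h2 hlab0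
    have h4 := hμ ⟨h, hh⟩ i
    have h5 : lab x o (μ ⟨h, hh⟩ * i) = lab x o i := h4.symm.trans h3
    have h6 := hinj h5
    have h7 : μ ⟨h, hh⟩ = 1 := by
      have : (μ ⟨h, hh⟩ - 1) * i = 0 := by rw [sub_mul, h6, one_mul, sub_self]
      rcases mul_eq_zero.mp this with h8 | h8
      · exact sub_eq_zero.mp h8
      · exact absurd h8 hi
    have h8 : (⟨h, hh⟩ : H) = 1 := hμi (by rw [h7, map_one])
    exact congrArg Subtype.val h8
  obtain ⟨g, hg1, hg2⟩ : ∃ g : G, g • inf = o ∧ g • o = inf := by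
    obtain ⟨g1, hg1⟩ := exists_smul_eq G inf o
    have h1 : g1⁻¹ • inf ≠ inf := by
      intro h
      rw [inv_smul_eq_iff, hg1] at h
      exact ho h.symm
    obtain ⟨j, hj⟩ := hsurj _ h1
    refine ⟨g1 * x ^ j.val, ?_, ?_⟩
    · rw [mul_smul, hxin, hg1]
    · rw [mul_smul]
      have : x ^ j.val • o = g1⁻¹ • inf := hj
      rw [this, smul_inv_smul]
  have hnc : ¬ IsMulCommutative G := by
    intro hc
    apply hxo'
    rw [← hg1, ← mul_smul, hc.is_comm.comm x g, mul_smul, hxi]
  -- `2`-elements interchanging the two points are involutions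
  have hA : ∀ g : G, g • inf = o → g • o = inf → (∃ n : ℕ, orderOf g = 2 ^ n) → g * g = 1 := by
    intro g hg1 hg2 ⟨n, hn⟩
    by_contra hgg
    have hg2H : g * g ∈ H := by
      rw [hmemH, mul_smul, mul_smul, hg1, hg2, hg1]
      exact ⟨rfl, rfl⟩
    have hn2 : 2 ≤ n := by
      by_contra hlt
      have h1 : n ≤ 1 := by omega
      apply hgg
      have h2 : orderOf g ∣ 2 := by
        rw [hn]
        calc 2 ^ n ∣ 2 ^ 1 := pow_dvd_pow 2 h1
          _ = 2 := by norm_num
      rw [← pow_two]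
      exact orderOf_dvd_iff_pow_eq_one.mp h2
    have hper : ∀ ω : Ω, ω ≠ inf → ω ≠ o → ∀ j : ℕ, g ^ j • ω = ω ↔ 2 ^ n ∣ j := by
      intro ω h1 h2 j
      constructor
      · intro h3
        rcases Nat.even_or_odd' j with ⟨l, hl | hl⟩
        · have h4 : g ^ j = (g * g) ^ l := by rw [hl, pow_mul, pow_two]
          have h5 : g ^ j = 1 := by
            apply hsemi _ _ ω h1 h2 h3
            rw [h4]; exact H.pow_mem hg2H l
          rw [← hn]
          exact orderOf_dvd_of_pow_eq_one h5
        · exfalso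
          have h4 : g ^ (2 * j) = (g * g) ^ j := by rw [pow_mul, pow_two]
          have h5 : g ^ (2 * j) = 1 := by
            apply hsemi _ _ ω h1 h2
            · rw [two_mul, pow_add, mul_smul, h3, h3]
            · rw [h4]; exact H.pow_mem hg2H j
          have h6 : 2 ^ n ∣ 2 * j := by
            rw [← hn]; exact orderOf_dvd_of_pow_eq_one h5
          have h7 : 2 ^ 2 ∣ 2 * j := (pow_dvd_pow 2 hn2).trans h6
          omega
      · intro h3
        rw [← hn] at h3
        rw [orderOf_dvd_iff_pow_eq_one.mp h3, one_smul]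
    have hL : Even (2 ^ n) := (Nat.even_pow.mpr ⟨even_two, by omega⟩)
    have h1 := Cfsg.Agent.Lib.Helper63RecE.odd_of_swap hnc g inf o ho.symm hg1 hg2 (2 ^ n) hL
      (by positivity) hper
    have h2 := Cfsg.Agent.Lib.Helper63RecE.even_card_div_orderOf hnc g (by rw [hn]; exact hL)
    have h3 : 2 ^ n ∣ 2 * m := by
      rw [← hn]
      apply orderOf_dvd_of_pow_eq_one
      rw [pow_mul, pow_two]
      have := pow_card_eq_one' (x := (⟨g * g, hg2H⟩ : H))
      rw [hHc] at this
      exact congrArg Subtype.val this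
    obtain ⟨w, hw⟩ := h3
    have e1 : Nat.card Ω - 2 = 2 ^ n * w := by rw [hΩ, ← hw]; omega
    rw [e1, Nat.mul_div_cancel_left _ (by positivity)] at h1
    have e2 : Nat.card G = 2 ^ n * (w * (q * (m + 1))) := by
      rw [hG, ← mul_assoc, ← hw]
      have : q + 1 = 2 * (m + 1) := by omega
      rw [this]; ring
    rw [hn, e2, Nat.mul_div_cancel_left _ (by positivity)] at h2
    have h4 : Odd (w * (q * (m + 1))) := by
      refine h1.mul (Odd.mul ?_ hmeven.add_one)
      rw [hq]; exact ⟨m, rfl⟩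
    exact (Nat.not_even_iff_odd.mpr h4) h2
  -- the involution
  obtain ⟨t, ht2, hti, hto⟩ : ∃ t : G, t * t = 1 ∧ t • inf = o ∧ t • o = inf := by
    obtain ⟨n, b, hb, hnb⟩ := Nat.exists_eq_two_pow_mul_odd (orderOf_pos g).ne'
    have hsw := swap_pow g inf o hg1 hg2 b hb
    refine ⟨g ^ b, hA _ hsw.1 hsw.2 ⟨n, ?_⟩, hsw.1, hsw.2⟩
    have hb0 : b ≠ 0 := by
      rintro rfl
      exact absurd hb (by decide)
    rw [orderOf_pow_of_dvd hb0 (by rw [hnb]; exact Dvd.intro_left _ rfl), hnb,
      Nat.mul_div_cancel _ (Nat.pos_of_ne_zero hb0)]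
  have hnormH : ∀ t : G, t • inf = o → t • o = inf → ∀ h ∈ H, t * h * t⁻¹ ∈ H := by
    intro t hti hto h hh
    have h1 : t⁻¹ • inf = o := by rw [inv_smul_eq_iff, hto]
    have h2 : t⁻¹ • o = inf := by rw [inv_smul_eq_iff, hti]
    rw [hmemH] at hh ⊢
    rw [mul_smul, mul_smul, mul_smul, mul_smul, h1, h2, hh.1, hh.2, hti, hto]
    exact ⟨rfl, rfl⟩
  have hinv : ∀ h ∈ H, t * h * t⁻¹ = h⁻¹ := by
    apply inverts t ht2 (hnormH t hti hto)
    · intro h hh hn
      have hh' := (hmemH h).mp hh
      exact hA _ (by rw [mul_smul, hh'.1, hti]) (by rw [mul_smul, hh'.2, hto]) hn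
    · intro p hp hp2 h hh hord hh1 hfix
      haveI : Fact p.Prime := ⟨hp⟩
      rw [hHc] at hord
      have hm0 : m ≠ 0 := by omega
      have hzc : Nat.card (zpowers h) = p ^ m.factorization p := by rw [Nat.card_zpowers, hord]
      obtain ⟨Q, hQ⟩ := (IsPGroup.of_card hzc).exists_le_sylow
      have hpm : p ∣ m := by
        by_contra hnd
        rw [Nat.factorization_eq_zero_of_not_dvd hnd, pow_zero, orderOf_eq_one_iff] at hord
        exact hh1 hord
      have hnd : ¬ p ∣ (m / p ^ m.factorization p) * (q * (q + 1)) := by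
        intro hd
        rcases hp.dvd_mul.mp hd with hd | hd
        · exact Nat.not_dvd_ordCompl hp hm0 hd
        rcases hp.dvd_mul.mp hd with hd | hd
        · have h1 : p ∣ 1 := by
            have h3 : p ∣ 2 * m := Dvd.dvd.mul_left hpm 2
            have := (Nat.dvd_sub hd h3)
            have e : q - 2 * m = 1 := by omega
            rwa [e] at this
          exact hp.one_lt.ne' (Nat.dvd_one.mp h1)
        · have h1 : p ∣ 2 := by
            have h3 : p ∣ 2 * m := Dvd.dvd.mul_left hpm 2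
            have := (Nat.dvd_sub hd h3)
            have e : q + 1 - 2 * m = 2 := by omega
            rwa [e] at this
          exact hp2 ((Nat.prime_dvd_prime_iff_eq hp Nat.prime_two).mp h1)
      have hQc : Nat.card Q = p ^ m.factorization p :=
        Cfsg.Agent.Lib.Helper63SylowNum3.card_sylow_eq_prime_pow Q
          (by
            rw [hG]
            conv_lhs => rw [← Nat.ordProj_mul_ordCompl_eq_self m p]
            ring) hnd
      have hQz : (Q : Subgroup G) = zpowers h :=
        (Subgroup.eq_of_le_of_card_ge hQ (by rw [hzc]; exact hQc.le)).symm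
      refine no_central_sylow inf o ho H hmemH hcommH hsemi t hti hto p Q ?_ ?_ ?_ ?_
      · rw [hQz, Subgroup.zpowers_le]; exact hh
      · rw [hQc]
        intro h1
        rw [h1, orderOf_eq_one_iff] at hord
        exact hh1 hord
      · rw [hQc, hG]
        intro h1
        have h2 : p ^ m.factorization p ≤ m := Nat.ordProj_le p hm0
        have : m * 1 < m * (q * (q + 1)) := by
          apply Nat.mul_lt_mul_of_pos_left
          · nlinarith [hqp.two_le]
          · omega
        nlinarith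
      · intro k hk
        have hk' : k ∈ zpowers h := by rw [← hQz]; exact hk
        obtain ⟨i, rfl⟩ := Subgroup.mem_zpowers_iff.mp hk'
        rw [← conj_zpow, hfix]
  have hkey : ∀ t : G, (∀ h ∈ H, t * h * t⁻¹ = h⁻¹) → ∀ s y z : ZMod q, s ^ m = 1 →
      t • lab x o y = lab x o z → t • lab x o (s * y) = lab x o (s⁻¹ * z) := by
    intro t hinv s y z hs hyz
    obtain ⟨h, hh, hact⟩ := hroot s hs
    have hs0 : s ≠ 0 := by
      rintro rfl
      rw [zero_pow (by omega)] at hs
      exact zero_ne_one hs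
    have h1 : t * h = h⁻¹ * t := by
      have := hinv h hh
      calc t * h = t * h * t⁻¹ * t := by group
        _ = h⁻¹ * t := by rw [this]
    rw [← hact, ← mul_smul, h1, mul_smul, hyz, inv_smul_eq_iff, hact, mul_inv_cancel_left₀ hs0]
  have hq2 : q / 2 = m := by omega
  have hpm : ∀ y : ZMod q, y ≠ 0 → y ^ m = 1 ∨ y ^ m = -1 := by
    intro y hy
    have := ZMod.pow_div_two_eq_neg_one_or_one q hy
    rwa [hq2] at this
  have hneg1 : (-1 : ZMod q) ^ m = 1 := hmeven.neg_one_pow
  have hne11 : (-1 : ZMod q) ≠ 1 := by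
    intro h
    have h2 : ((2 : ℕ) : ZMod q) = 0 := by
      have : (1 : ZMod q) + 1 = 0 := by
        nth_rewrite 1 [← h]; ring
      push_cast
      rw [← this]; norm_num
    rw [ZMod.natCast_eq_zero_iff] at h2
    have := Nat.le_of_dvd (by norm_num) h2
    omega
  have himg : ∀ t : G, t • o = inf → ∀ y : ZMod q, y ≠ 0 → ∃ z : ZMod q, t • lab x o y = lab x o z := by
    intro t hto y hy
    have h1 : t • lab x o y ≠ inf := by
      intro h
      have h2 := smul_left_cancel t (h.trans hto.symm)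
      exact hy (hinj (h2.trans hlab0.symm))
    obtain ⟨c, hc⟩ := hsurj _ h1
    exact ⟨c, hc.symm⟩
  obtain ⟨c, hc⟩ := himg t hto 1 one_ne_zero
  have hc0 : c ≠ 0 := by
    rintro rfl
    rw [hlab0] at hc
    exact hlabne _ (smul_left_cancel t (hc.trans hti.symm))
  have htt : ∀ ω : Ω, t • t • ω = ω := fun ω => by rw [← mul_smul, ht2, one_smul]
  have hcm : c ^ m = 1 := by
    rcases hpm c hc0 with h | h
    · exact h
    · exfalso
      have ht3 : ∀ y : ZMod q, y ≠ 0 → t • lab x o y = lab x o (c / y) := by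
        intro y hy
        rcases hpm y hy with h' | h'
        · have h1 := hkey t hinv y 1 c h' hc
          rw [mul_one] at h1
          rw [h1, div_eq_mul_inv, mul_comm]
        · have hs : (c / y) ^ m = 1 := by
            rw [div_pow, h, h']
            exact div_self (by simp)
          have h1 := hkey t hinv (c / y) 1 c hs hc
          rw [mul_one] at h1
          have h2 : (c / y)⁻¹ * c = y := by
            field_simp
          rw [h2] at h1
          rw [← h1, htt]
      have ht1 : t ≠ 1 := by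
        rintro rfl
        rw [one_smul] at hti
        exact ho hti.symm
      have hord2 : orderOf t = 2 := orderOf_eq_prime (by rw [pow_two]; exact ht2) ht1
      have hpar := Cfsg.Agent.Lib.Helper63Syl22a.parity_involution hfaith hnc t hord2
      have hempty : IsEmpty (fixedBy Ω t) := by
        refine ⟨fun ⟨ω, hω⟩ => ?_⟩
        rw [mem_fixedBy] at hω
        by_cases h1 : ω = inf
        · rw [h1, hti] at hω
          exact ho hω
        · obtain ⟨y, rfl⟩ := hsurj ω h1
          by_cases hy : y = 0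
          · rw [hy, hlab0, hto] at hω
            exact ho hω.symm
          · rw [ht3 y hy] at hω
            have h2 := hinj hω
            have h3 : c = y * y := by
              field_simp at h2
              rw [h2]; ring
            have h4 : c ^ m = 1 := by
              rw [h3, ← pow_two, ← pow_mul]
              have : 2 * m = q - 1 := by omega
              rw [this]
              exact ZMod.pow_card_sub_one_eq_one hy
            rw [h] at h4
            exact hne11 h4
      have hz : Nat.card (fixedBy Ω t) = 0 := Nat.card_of_isEmpty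
      rw [hz, hΩ] at hpar
      obtain ⟨l, hl⟩ := hmeven
      omega
  obtain ⟨t', ht2', hti', hto', hinv', hc'⟩ : ∃ t' : G, t' * t' = 1 ∧ t' • inf = o ∧ t' • o = inf ∧
      (∀ h ∈ H, t' * h * t'⁻¹ = h⁻¹) ∧ t' • lab x o 1 = lab x o (-1) := by
    have hcm' : (-c) ^ m = 1 := by rw [neg_pow, hneg1, hcm, one_mul]
    obtain ⟨h, hh, hact⟩ := hroot (-c) hcm'
    have hh' := (hmemH h).mp hh
    refine ⟨t * h, ?_, by rw [mul_smul, hh'.1, hti], by rw [mul_smul, hh'.2, hto], ?_, ?_⟩
    · have := hinv h hh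
      calc t * h * (t * h) = (t * h * t⁻¹) * (t * t) * h := by group
        _ = 1 := by rw [this, ht2]; group
    · intro k hk
      have e : t * h * k * (t * h)⁻¹ = t * (h * k * h⁻¹) * t⁻¹ := by group
      have e2 : h * k * h⁻¹ = k := by rw [hcommH h hh k hk]; group
      rw [e, e2, hinv k hk]
    · rw [mul_smul, hact 1, hkey t hinv (-c) 1 c hcm' hc]
      congr 1
      field_simp
  have htt' : ∀ ω : Ω, t' • t' • ω = ω := fun ω => by rw [← mul_smul, ht2', one_smul]
  have hxlab : ∀ i : ZMod q, x • lab x o i = lab x o (i + 1) := by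
    intro i
    have := pow_smul_lab x hx o 1 i
    simpa using this
  have hxinv : ∀ i : ZMod q, x⁻¹ • lab x o i = lab x o (i - 1) := by
    intro i
    rw [inv_smul_eq_iff, hxlab, sub_add_cancel]
  obtain ⟨w, hwdef⟩ : ∃ w : G, w = t' * x := ⟨_, rfl⟩
  have hwact : ∀ ω : Ω, w • ω = t' • x • ω := fun ω => by rw [hwdef, mul_smul]
  have hw1 : w • inf = o := by rw [hwact, hxi, hti']
  have hw2 : w • o = lab x o (-1 : ZMod q) := by
    have h0 : x • o = lab x o (1 : ZMod q) := by
      have := hxlab 0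
      rwa [hlab0, zero_add] at this
    rw [hwact, h0, hc']
  have hw3 : w • lab x o (-1 : ZMod q) = inf := by
    rw [hwact, hxlab, neg_add_cancel, hlab0, hto']
  have hwww : w * w * w = 1 := by
    apply hsemi _ _ (lab x o (-1 : ZMod q)) (hlabne _)
    · intro h
      exact (neg_ne_zero.mpr one_ne_zero) (hinj (h.trans hlab0.symm))
    · rw [mul_smul, mul_smul, hw3, hw1, hw2]
    · rw [hmemH, mul_smul, mul_smul, mul_smul, mul_smul, hw1, hw2, hw3, hw1]
      exact ⟨rfl, rfl⟩
  have hε0 : ε ≠ 0 := by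
    rintro rfl
    rw [zero_pow (by omega)] at hε1
    exact (neg_ne_zero.mpr one_ne_zero) hε1.symm
  have hε10 : ε - 1 ≠ 0 := by
    intro h
    rw [h, zero_pow (by omega)] at hε2
    exact zero_ne_one hε2
  obtain ⟨n, hn⟩ := himg t' hto' ε hε0
  have hnε : n = -1 / ε := by
    have h1 : w • w • w • lab x o (ε - 1) = lab x o (ε - 1) := by
      rw [← mul_smul, ← mul_smul, hwww, one_smul]
    rw [hwact (lab x o (ε - 1)), hxlab, sub_add_cancel, hn, hwact (lab x o n), hxlab,
      hwact] at h1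
    -- `t' • x • t' • lab (n + 1) = lab (ε - 1)`
    have h2 : x • t' • lab x o (n + 1) = t' • lab x o (ε - 1) := by
      rw [← h1, htt']
    have h3 := hkey t' hinv' (ε - 1) 1 (-1) hε2 hc'
    rw [mul_one] at h3
    rw [h3] at h2
    have h4 : t' • lab x o (n + 1) = lab x o ((ε - 1)⁻¹ * -1 - 1) := by
      rw [← hxinv, ← h2, inv_smul_smul]
    have hs' : (-(ε - 1)⁻¹) ^ m = 1 := by
      rw [neg_pow, hneg1, inv_pow, hε2]; simp
    have h5 := hkey t' hinv' (-(ε - 1)⁻¹) ε n hs' hn
    have e1 : -(ε - 1)⁻¹ * ε = (ε - 1)⁻¹ * -1 - 1 := by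
      field_simp
      ring
    rw [e1, ← h4, htt'] at h5
    have h6 := hinj h5
    have e2 : (-(ε - 1)⁻¹)⁻¹ = -(ε - 1) := by
      rw [inv_neg, inv_inv]
    rw [e2] at h6
    have h7 : ε * n = -1 := by linear_combination h6
    field_simp
    linear_combination h7
  have ht3 : ∀ y : ZMod q, y ≠ 0 → t' • lab x o y = lab x o (-1 / y) := by
    intro y hy
    rcases hpm y hy with h | h
    · have h1 := hkey t' hinv' y 1 (-1) h hc'
      rw [mul_one] at h1
      rw [h1, div_eq_mul_inv, mul_comm]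
    · have hs : (y / ε) ^ m = 1 := by
        rw [div_pow, hε1, h]
        exact div_self (by simp)
      have h1 := hkey t' hinv' (y / ε) ε n hs hn
      have e1 : y / ε * ε = y := by field_simp
      have e2 : (y / ε)⁻¹ * n = -1 / y := by
        rw [hnε]; field_simp
      rw [e1, e2] at h1
      exact h1
  refine Cfsg.Agent.Lib.Helper63RecB.iso_of_data (by rw [Nat.card_zmod]; omega) hfaith E ?_ t' (-1)
    1 (by simp) (by simp) ?_ ?_ ?_ hpsl
  · intro b
    refine ⟨x ^ b.val, ?_, ?_⟩
    · rw [hE1, hxin]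
    · intro y
      rw [hE2, hE2, pow_smul_lab x hx, ZMod.natCast_zmod_val]
  · rw [hE1, hE2, hlab0, hti']
  · rw [hE1, hE2, hlab0, hto']
  · intro y hy
    rw [hE2, hE2, ht3 y hy]

end Cfsg.Agent.Lib.Helper63RecF
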