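import Mathlib
import Cfsg.Agent.Lib.Helper63RecD
import Cfsg.Agent.Lib.Helper63RecF

/-!
# Recognition of `PSL₂(q)`, `q ≡ 1 mod 4`, from the order and the number of Sylow `q`-subgroups
-/

set_option autoImplicit false

namespace Cfsg.Agent.Lib.Helper63RecG

open MulAction Subgroup

theorem of_sylow1 {G : Type*} [Group G] [Finite G] [IsSimpleGroup G] {q : ℕ} [Fact q.Prime]
    (m : ℕ) (hq : q = 2 * m + 1) (hmeven : Even m) (hm1 : 1 < m)
    (hG : Nat.card G = q * m * (q + 1)) (hn : Nat.card (Sylow q G) = q + 1)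
    (ε : ZMod q) (hε1 : ε ^ m = -1) (hε2 : (ε - 1) ^ m = 1)
    {F : Type*} [Field F] [Fintype F] (hF : Fintype.card F = q) :
    Nonempty (G ≃* Matrix.ProjectiveSpecialLinearGroup (Fin 2) F) := by
  have hqp : q.Prime := Fact.out
  obtain ⟨P⟩ : Nonempty (Sylow q G) := inferInstance
  have hnd : ¬ q ∣ m * (q + 1) := by
    intro h
    rcases hqp.dvd_mul.mp h with h | h
    · have := Nat.le_of_dvd (by omega) h
      omega
    · have h1 : q ∣ 1 := (Nat.dvd_add_right (dvd_refl q)).mp h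
      exact hqp.one_lt.ne' (Nat.dvd_one.mp h1)
  have hPc : Nat.card P = q :=
    Cfsg.Agent.Lib.Helper63SylowNum2.card_sylow_eq_prime P (by rw [hG]; ring) hnd
  haveI : IsCyclic P := isCyclic_of_prime_card hPc
  obtain ⟨x0, hgen⟩ := IsCyclic.exists_generator (α := P)
  have hxo : orderOf (x0 : G) = q := by
    rw [Subgroup.orderOf_coe, orderOf_eq_card_of_forall_mem_zpowers hgen, hPc]
  have hx1 : (x0 : G) ≠ 1 := by
    intro h
    rw [h, orderOf_one] at hxo
    exact hqp.one_lt.ne hxo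
  have hn1 : Nat.card (Sylow q G) ≠ 1 := by rw [hn]; have := hqp.pos; omega
  obtain ⟨e⟩ := Cfsg.Agent.Lib.Helper63RecF.main1 (Ω := Sylow q G)
    (Cfsg.Agent.Lib.Helper63SylowNum2.faithful hn1) hn m hq hmeven hm1 hG (x0 : G) P hxo
    (by
      intro Q
      have := Cfsg.Agent.Lib.Helper63SylowNum3.fixedBy_eq_singleton_of_mem P hPc x0 x0.2 hx1
      have h2 : Q ∈ fixedBy (Sylow q G) (x0 : G) ↔ Q ∈ ({P} : Set (Sylow q G)) := by rw [this]
      rw [mem_fixedBy, Set.mem_singleton_iff] at h2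
      exact h2)
    (by
      intro g hg
      rw [Sylow.smul_eq_iff_mem_normalizer] at hg
      have h1 : g * x0 * g⁻¹ ∈ (P : Subgroup G) := (hg x0).mp x0.2
      have h2 := hgen ⟨_, h1⟩
      rw [← mem_powers_iff_mem_zpowers] at h2
      obtain ⟨a, ha⟩ := h2
      exact ⟨a, by have := congrArg Subtype.val ha; simpa using this.symm⟩)
    ε hε1 hε2 (by rw [hG, Cfsg.Agent.Lib.Helper63RecD.card_psl q m hq (by omega)])
  obtain ⟨f⟩ := Cfsg.Agent.Lib.Helper6Transport.nonempty_pslEquiv (n := Fin 2) (F := ZMod q) (K := F)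
    (by rw [ZMod.card, hF])
  exact ⟨e.trans f⟩

end Cfsg.Agent.Lib.Helper63RecG
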