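import Cfsg.Agent.Lib.Helper63RuA

set_option autoImplicit false

/-! Relators of the generators of the Rudvalis group on 4060 points (part 0). -/

namespace Cfsg.Agent.Lib.Helper63RuR

open Cfsg.Agent.Lib.Helper63TCS Cfsg.Agent.Lib.Helper63RuA

def w0 : List ℕ := [0, 2, 0, 2]
set_option maxRecDepth 1000000 in
theorem w0_one : evW sys w0 = 1 :=
  evW_eq_one sys (by decide +kernel) (fun x => lk T0 (lk T2 (lk T0 (lk T2 (x))))) (fun _ => rfl) (by decide +kernel)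

def w1 : List ℕ := [0, 3, 0, 3]
set_option maxRecDepth 1000000 in
theorem w1_one : evW sys w1 = 1 :=
  evW_eq_one sys (by decide +kernel) (fun x => lk T0 (lk T3 (lk T0 (lk T3 (x))))) (fun _ => rfl) (by decide +kernel)

def w2 : List ℕ := [2, 2, 2, 2, 2]
set_option maxRecDepth 1000000 in
theorem w2_one : evW sys w2 = 1 :=
  evW_eq_one sys (by decide +kernel) (fun x => lk T2 (lk T2 (lk T2 (lk T2 (lk T2 (x)))))) (fun _ => rfl) (by decide +kernel)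

def w3 : List ℕ := [5, 1, 3, 4, 0, 2, 4, 0, 5, 1, 2]
set_option maxRecDepth 1000000 in
theorem w3_one : evW sys w3 = 1 :=
  evW_eq_one sys (by decide +kernel) (fun x => lk T5 (lk T1 (lk T3 (lk T4 (lk T0 (lk T2 (lk T4 (lk T0 (lk T5 (lk T1 (lk T2 (x)))))))))))) (fun _ => rfl) (by decide +kernel)

def w4 : List ℕ := [4, 3, 4, 2, 4, 4, 2, 5, 3, 5, 1, 2, 2]
set_option maxRecDepth 1000000 in
theorem w4_one : evW sys w4 = 1 :=
  evW_eq_one sys (by decide +kernel) (fun x => lk T4 (lk T3 (lk T4 (lk T2 (lk T4 (lk T4 (lk T2 (lk T5 (lk T3 (lk T5 (lk T1 (lk T2 (lk T2 (x)))))))))))))) (fun _ => rfl) (by decide +kernel)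

def w5 : List ℕ := [5, 5, 3, 0, 2, 4, 4, 1, 2, 2]
set_option maxRecDepth 1000000 in
theorem w5_one : evW sys w5 = 1 :=
  evW_eq_one sys (by decide +kernel) (fun x => lk T5 (lk T5 (lk T3 (lk T0 (lk T2 (lk T4 (lk T4 (lk T1 (lk T2 (lk T2 (x))))))))))) (fun _ => rfl) (by decide +kernel)

def w6 : List ℕ := [5, 3, 3, 5, 1, 2, 4, 2, 2, 4, 1, 2]
set_option maxRecDepth 1000000 in
theorem w6_one : evW sys w6 = 1 :=
  evW_eq_one sys (by decide +kernel) (fun x => lk T5 (lk T3 (lk T3 (lk T5 (lk T1 (lk T2 (lk T4 (lk T2 (lk T2 (lk T4 (lk T1 (lk T2 (x))))))))))))) (fun _ => rfl) (by decide +kernel)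

def w7 : List ℕ := [4, 1, 5, 5, 1, 2, 4, 4, 0, 5, 1, 2, 2]
set_option maxRecDepth 1000000 in
theorem w7_one : evW sys w7 = 1 :=
  evW_eq_one sys (by decide +kernel) (fun x => lk T4 (lk T1 (lk T5 (lk T5 (lk T1 (lk T2 (lk T4 (lk T4 (lk T0 (lk T5 (lk T1 (lk T2 (lk T2 (x)))))))))))))) (fun _ => rfl) (by decide +kernel)

def w8 : List ℕ := [4, 4, 4, 4]
set_option maxRecDepth 1000000 in
theorem w8_one : evW sys w8 = 1 :=
  evW_eq_one sys (by decide +kernel) (fun x => lk T4 (lk T4 (lk T4 (lk T4 (x))))) (fun _ => rfl) (by decide +kernel)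

def w9 : List ℕ := [6, 5, 7, 2, 6, 4, 7, 2, 2]
set_option maxRecDepth 1000000 in
theorem w9_one : evW sys w9 = 1 :=
  evW_eq_one sys (by decide +kernel) (fun x => lk T6 (lk T5 (lk T7 (lk T2 (lk T6 (lk T4 (lk T7 (lk T2 (lk T2 (x)))))))))) (fun _ => rfl) (by decide +kernel)

def w10 : List ℕ := [0, 0]
set_option maxRecDepth 1000000 in
theorem w10_one : evW sys w10 = 1 :=
  evW_eq_one sys (by decide +kernel) (fun x => lk T0 (lk T0 (x))) (fun _ => rfl) (by decide +kernel)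

def w11 : List ℕ := [6, 2, 7, 2, 7, 7, 7, 1, 2, 2, 4, 3, 4, 1, 2, 5]
set_option maxRecDepth 1000000 in
theorem w11_one : evW sys w11 = 1 :=
  evW_eq_one sys (by decide +kernel) (fun x => lk T6 (lk T2 (lk T7 (lk T2 (lk T7 (lk T7 (lk T7 (lk T1 (lk T2 (lk T2 (lk T4 (lk T3 (lk T4 (lk T1 (lk T2 (lk T5 (x))))))))))))))))) (fun _ => rfl) (by decide +kernel)

def w12 : List ℕ := [6, 5, 2, 2, 6, 0, 7, 3, 4, 2, 4, 1]
set_option maxRecDepth 1000000 in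
theorem w12_one : evW sys w12 = 1 :=
  evW_eq_one sys (by decide +kernel) (fun x => lk T6 (lk T5 (lk T2 (lk T2 (lk T6 (lk T0 (lk T7 (lk T3 (lk T4 (lk T2 (lk T4 (lk T1 (x))))))))))))) (fun _ => rfl) (by decide +kernel)

def w13 : List ℕ := [7, 0, 6, 1, 3, 5, 3, 4, 1, 4, 3, 5]
set_option maxRecDepth 1000000 in
theorem w13_one : evW sys w13 = 1 :=
  evW_eq_one sys (by decide +kernel) (fun x => lk T7 (lk T0 (lk T6 (lk T1 (lk T3 (lk T5 (lk T3 (lk T4 (lk T1 (lk T4 (lk T3 (lk T5 (x))))))))))))) (fun _ => rfl) (by decide +kernel)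

def w14 : List ℕ := [7, 5, 2, 2, 7, 1, 2, 5, 1, 2, 4, 1, 3]
set_option maxRecDepth 1000000 in
theorem w14_one : evW sys w14 = 1 :=
  evW_eq_one sys (by decide +kernel) (fun x => lk T7 (lk T5 (lk T2 (lk T2 (lk T7 (lk T1 (lk T2 (lk T5 (lk T1 (lk T2 (lk T4 (lk T1 (lk T3 (x)))))))))))))) (fun _ => rfl) (by decide +kernel)

def w15 : List ℕ := [7, 7, 0, 6, 6, 3, 3, 4, 1, 5, 2, 2]
set_option maxRecDepth 1000000 in
theorem w15_one : evW sys w15 = 1 :=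
  evW_eq_one sys (by decide +kernel) (fun x => lk T7 (lk T7 (lk T0 (lk T6 (lk T6 (lk T3 (lk T3 (lk T4 (lk T1 (lk T5 (lk T2 (lk T2 (x))))))))))))) (fun _ => rfl) (by decide +kernel)

def w16 : List ℕ := [6, 2, 7, 7, 4, 6, 4, 7, 3, 3, 5, 3, 4, 2, 5, 3, 4, 3]
set_option maxRecDepth 1000000 in
theorem w16_one : evW sys w16 = 1 :=
  evW_eq_one sys (by decide +kernel) (fun x => lk T6 (lk T2 (lk T7 (lk T7 (lk T4 (lk T6 (lk T4 (lk T7 (lk T3 (lk T3 (lk T5 (lk T3 (lk T4 (lk T2 (lk T5 (lk T3 (lk T4 (lk T3 (x))))))))))))))))))) (fun _ => rfl) (by decide +kernel)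

def w17 : List ℕ := [6, 3, 6, 4, 0, 7, 4, 7, 7, 1, 2, 4, 3, 4, 2, 2]
set_option maxRecDepth 1000000 in
theorem w17_one : evW sys w17 = 1 :=
  evW_eq_one sys (by decide +kernel) (fun x => lk T6 (lk T3 (lk T6 (lk T4 (lk T0 (lk T7 (lk T4 (lk T7 (lk T7 (lk T1 (lk T2 (lk T4 (lk T3 (lk T4 (lk T2 (lk T2 (x))))))))))))))))) (fun _ => rfl) (by decide +kernel)

def w18 : List ℕ := [7, 2, 4, 4, 3, 6, 1, 5, 3, 4, 2, 4, 2, 4]
set_option maxRecDepth 1000000 in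
theorem w18_one : evW sys w18 = 1 :=
  evW_eq_one sys (by decide +kernel) (fun x => lk T7 (lk T2 (lk T4 (lk T4 (lk T3 (lk T6 (lk T1 (lk T5 (lk T3 (lk T4 (lk T2 (lk T4 (lk T2 (lk T4 (x))))))))))))))) (fun _ => rfl) (by decide +kernel)

def w19 : List ℕ := [7, 4, 6, 1, 2, 7, 5, 6, 3, 5, 3, 5, 1, 4, 1, 5]
set_option maxRecDepth 1000000 in
theorem w19_one : evW sys w19 = 1 :=
  evW_eq_one sys (by decide +kernel) (fun x => lk T7 (lk T4 (lk T6 (lk T1 (lk T2 (lk T7 (lk T5 (lk T6 (lk T3 (lk T5 (lk T3 (lk T5 (lk T1 (lk T4 (lk T1 (lk T5 (x))))))))))))))))) (fun _ => rfl) (by decide +kernel)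

def w20 : List ℕ := [6, 1, 5, 6, 0, 4, 7, 4, 6, 1, 2, 5, 2, 2, 4, 1, 2]
set_option maxRecDepth 1000000 in
theorem w20_one : evW sys w20 = 1 :=
  evW_eq_one sys (by decide +kernel) (fun x => lk T6 (lk T1 (lk T5 (lk T6 (lk T0 (lk T4 (lk T7 (lk T4 (lk T6 (lk T1 (lk T2 (lk T5 (lk T2 (lk T2 (lk T4 (lk T1 (lk T2 (x)))))))))))))))))) (fun _ => rfl) (by decide +kernel)

def w21 : List ℕ := [6, 3, 6, 2, 0, 3, 7, 2, 7, 5, 5, 1, 5, 5]
set_option maxRecDepth 1000000 in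
theorem w21_one : evW sys w21 = 1 :=
  evW_eq_one sys (by decide +kernel) (fun x => lk T6 (lk T3 (lk T6 (lk T2 (lk T0 (lk T3 (lk T7 (lk T2 (lk T7 (lk T5 (lk T5 (lk T1 (lk T5 (lk T5 (x))))))))))))))) (fun _ => rfl) (by decide +kernel)

def w22 : List ℕ := [6, 5, 1, 2, 4, 7, 5, 1, 5, 3, 5, 2, 2, 5]
set_option maxRecDepth 1000000 in
theorem w22_one : evW sys w22 = 1 :=
  evW_eq_one sys (by decide +kernel) (fun x => lk T6 (lk T5 (lk T1 (lk T2 (lk T4 (lk T7 (lk T5 (lk T1 (lk T5 (lk T3 (lk T5 (lk T2 (lk T2 (lk T5 (x))))))))))))))) (fun _ => rfl) (by decide +kernel)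

def w23 : List ℕ := [7, 4, 3, 0, 4, 4, 7, 1, 3, 5, 1, 5, 1, 4, 2, 2]
set_option maxRecDepth 1000000 in
theorem w23_one : evW sys w23 = 1 :=
  evW_eq_one sys (by decide +kernel) (fun x => lk T7 (lk T4 (lk T3 (lk T0 (lk T4 (lk T4 (lk T7 (lk T1 (lk T3 (lk T5 (lk T1 (lk T5 (lk T1 (lk T4 (lk T2 (lk T2 (x))))))))))))))))) (fun _ => rfl) (by decide +kernel)

def w24 : List ℕ := [6, 4, 2, 0, 3, 5, 7, 3, 5, 1, 4, 1, 3, 5, 2, 5]
set_option maxRecDepth 1000000 in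
theorem w24_one : evW sys w24 = 1 :=
  evW_eq_one sys (by decide +kernel) (fun x => lk T6 (lk T4 (lk T2 (lk T0 (lk T3 (lk T5 (lk T7 (lk T3 (lk T5 (lk T1 (lk T4 (lk T1 (lk T3 (lk T5 (lk T2 (lk T5 (x))))))))))))))))) (fun _ => rfl) (by decide +kernel)

def w25 : List ℕ := [6, 1, 7, 0, 6, 0, 7, 1]
set_option maxRecDepth 1000000 in
theorem w25_one : evW sys w25 = 1 :=
  evW_eq_one sys (by decide +kernel) (fun x => lk T6 (lk T1 (lk T7 (lk T0 (lk T6 (lk T0 (lk T7 (lk T1 (x))))))))) (fun _ => rfl) (by decide +kernel)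

def w26 : List ℕ := [6, 3, 5, 0, 4, 2, 7, 5, 1, 4, 1, 2, 5, 1, 4]
set_option maxRecDepth 1000000 in
theorem w26_one : evW sys w26 = 1 :=
  evW_eq_one sys (by decide +kernel) (fun x => lk T6 (lk T3 (lk T5 (lk T0 (lk T4 (lk T2 (lk T7 (lk T5 (lk T1 (lk T4 (lk T1 (lk T2 (lk T5 (lk T1 (lk T4 (x)))))))))))))))) (fun _ => rfl) (by decide +kernel)

def w27 : List ℕ := [8, 8, 1, 2]
set_option maxRecDepth 1000000 in
theorem w27_one : evW sys w27 = 1 :=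
  evW_eq_one sys (by decide +kernel) (fun x => lk T8 (lk T8 (lk T1 (lk T2 (x))))) (fun _ => rfl) (by decide +kernel)

def w28 : List ℕ := [9, 2, 8, 2, 2]
set_option maxRecDepth 1000000 in
theorem w28_one : evW sys w28 = 1 :=
  evW_eq_one sys (by decide +kernel) (fun x => lk T9 (lk T2 (lk T8 (lk T2 (lk T2 (x)))))) (fun _ => rfl) (by decide +kernel)

def w29 : List ℕ := [9, 0, 8, 1, 3, 3]
set_option maxRecDepth 1000000 in
theorem w29_one : evW sys w29 = 1 :=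
  evW_eq_one sys (by decide +kernel) (fun x => lk T9 (lk T0 (lk T8 (lk T1 (lk T3 (lk T3 (x))))))) (fun _ => rfl) (by decide +kernel)

def w30 : List ℕ := [10, 5, 10, 8, 10, 4, 10, 2, 2, 5, 1, 5, 3, 5, 3, 7, 7, 3, 6, 3, 3]
set_option maxRecDepth 1000000 in
theorem w30_one : evW sys w30 = 1 :=
  evW_eq_one sys (by decide +kernel) (fun x => lk T10 (lk T5 (lk T10 (lk T8 (lk T10 (lk T4 (lk T10 (lk T2 (lk T2 (lk T5 (lk T1 (lk T5 (lk T3 (lk T5 (lk T3 (lk T7 (lk T7 (lk T3 (lk T6 (lk T3 (lk T3 (x)))))))))))))))))))))) (fun _ => rfl) (by decide +kernel)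

def w31 : List ℕ := [10, 10, 3, 8, 11, 11, 2, 4, 1, 2, 5, 2, 7, 3, 6, 1, 4, 9]
set_option maxRecDepth 1000000 in
theorem w31_one : evW sys w31 = 1 :=
  evW_eq_one sys (by decide +kernel) (fun x => lk T10 (lk T10 (lk T3 (lk T8 (lk T11 (lk T11 (lk T2 (lk T4 (lk T1 (lk T2 (lk T5 (lk T2 (lk T7 (lk T3 (lk T6 (lk T1 (lk T4 (lk T9 (x))))))))))))))))))) (fun _ => rfl) (by decide +kernel)

def w32 : List ℕ := [11, 7, 10, 4, 3, 9, 10, 1, 2, 2, 5, 5, 2, 5, 2, 4, 1, 7, 4, 6, 5, 6, 6]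
set_option maxRecDepth 1000000 in
theorem w32_one : evW sys w32 = 1 :=
  evW_eq_one sys (by decide +kernel) (fun x => lk T11 (lk T7 (lk T10 (lk T4 (lk T3 (lk T9 (lk T10 (lk T1 (lk T2 (lk T2 (lk T5 (lk T5 (lk T2 (lk T5 (lk T2 (lk T4 (lk T1 (lk T7 (lk T4 (lk T6 (lk T5 (lk T6 (lk T6 (x)))))))))))))))))))))))) (fun _ => rfl) (by decide +kernel)

def w33 : List ℕ := [9, 4, 8, 2, 5, 3, 4, 1, 4]
set_option maxRecDepth 1000000 in
theorem w33_one : evW sys w33 = 1 :=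
  evW_eq_one sys (by decide +kernel) (fun x => lk T9 (lk T4 (lk T8 (lk T2 (lk T5 (lk T3 (lk T4 (lk T1 (lk T4 (x)))))))))) (fun _ => rfl) (by decide +kernel)

def w34 : List ℕ := [11, 1, 3, 11, 2, 11, 4, 11, 1, 2, 5, 2, 5, 5, 6, 3, 7, 2, 4]
set_option maxRecDepth 1000000 in
theorem w34_one : evW sys w34 = 1 :=
  evW_eq_one sys (by decide +kernel) (fun x => lk T11 (lk T1 (lk T3 (lk T11 (lk T2 (lk T11 (lk T4 (lk T11 (lk T1 (lk T2 (lk T5 (lk T2 (lk T5 (lk T5 (lk T6 (lk T3 (lk T7 (lk T2 (lk T4 (x)))))))))))))))))))) (fun _ => rfl) (by decide +kernel)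

def w35 : List ℕ := [10, 5, 10, 2, 7, 11, 11, 1, 3, 3, 4, 2, 4, 1, 4, 2, 5, 7, 4, 6, 1]
set_option maxRecDepth 1000000 in
theorem w35_one : evW sys w35 = 1 :=
  evW_eq_one sys (by decide +kernel) (fun x => lk T10 (lk T5 (lk T10 (lk T2 (lk T7 (lk T11 (lk T11 (lk T1 (lk T3 (lk T3 (lk T4 (lk T2 (lk T4 (lk T1 (lk T4 (lk T2 (lk T5 (lk T7 (lk T4 (lk T6 (lk T1 (x)))))))))))))))))))))) (fun _ => rfl) (by decide +kernel)

def w36 : List ℕ := [11, 7, 4, 8, 4, 11, 3, 11, 1, 3, 5, 2, 5, 1, 3, 7, 3, 5, 2, 7, 9]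
set_option maxRecDepth 1000000 in
theorem w36_one : evW sys w36 = 1 :=
  evW_eq_one sys (by decide +kernel) (fun x => lk T11 (lk T7 (lk T4 (lk T8 (lk T4 (lk T11 (lk T3 (lk T11 (lk T1 (lk T3 (lk T5 (lk T2 (lk T5 (lk T1 (lk T3 (lk T7 (lk T3 (lk T5 (lk T2 (lk T7 (lk T9 (x)))))))))))))))))))))) (fun _ => rfl) (by decide +kernel)

def w37 : List ℕ := [11, 11, 5, 10, 2, 2, 5, 11, 2, 2, 4, 3, 5, 1, 5, 3, 4, 6, 6, 3, 6, 6, 9]
set_option maxRecDepth 1000000 in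
theorem w37_one : evW sys w37 = 1 :=
  evW_eq_one sys (by decide +kernel) (fun x => lk T11 (lk T11 (lk T5 (lk T10 (lk T2 (lk T2 (lk T5 (lk T11 (lk T2 (lk T2 (lk T4 (lk T3 (lk T5 (lk T1 (lk T5 (lk T3 (lk T4 (lk T6 (lk T6 (lk T3 (lk T6 (lk T6 (lk T9 (x)))))))))))))))))))))))) (fun _ => rfl) (by decide +kernel)

def w38 : List ℕ := [11, 9, 4, 8, 5, 8, 10, 4, 3, 7, 3, 3, 7, 9]
set_option maxRecDepth 1000000 in
theorem w38_one : evW sys w38 = 1 :=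
  evW_eq_one sys (by decide +kernel) (fun x => lk T11 (lk T9 (lk T4 (lk T8 (lk T5 (lk T8 (lk T10 (lk T4 (lk T3 (lk T7 (lk T3 (lk T3 (lk T7 (lk T9 (x))))))))))))))) (fun _ => rfl) (by decide +kernel)

def w39 : List ℕ := [11, 5, 8, 10, 4, 0, 5, 11, 1, 3, 3, 5, 2, 5, 3, 5, 2, 5, 7, 2, 6, 6, 5]
set_option maxRecDepth 1000000 in
theorem w39_one : evW sys w39 = 1 :=
  evW_eq_one sys (by decide +kernel) (fun x => lk T11 (lk T5 (lk T8 (lk T10 (lk T4 (lk T0 (lk T5 (lk T11 (lk T1 (lk T3 (lk T3 (lk T5 (lk T2 (lk T5 (lk T3 (lk T5 (lk T2 (lk T5 (lk T7 (lk T2 (lk T6 (lk T6 (lk T5 (x)))))))))))))))))))))))) (fun _ => rfl) (by decide +kernel)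

def w40 : List ℕ := [11, 9, 6, 2, 6, 5, 10, 1, 4, 1, 3, 4, 1, 3, 7, 3, 7]
set_option maxRecDepth 1000000 in
theorem w40_one : evW sys w40 = 1 :=
  evW_eq_one sys (by decide +kernel) (fun x => lk T11 (lk T9 (lk T6 (lk T2 (lk T6 (lk T5 (lk T10 (lk T1 (lk T4 (lk T1 (lk T3 (lk T4 (lk T1 (lk T3 (lk T7 (lk T3 (lk T7 (x)))))))))))))))))) (fun _ => rfl) (by decide +kernel)

def w41 : List ℕ := [11, 9, 6, 0, 2, 11, 6, 10, 1, 3, 5, 3, 5, 3, 7, 4, 3, 6, 4, 9]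
set_option maxRecDepth 1000000 in
theorem w41_one : evW sys w41 = 1 :=
  evW_eq_one sys (by decide +kernel) (fun x => lk T11 (lk T9 (lk T6 (lk T0 (lk T2 (lk T11 (lk T6 (lk T10 (lk T1 (lk T3 (lk T5 (lk T3 (lk T5 (lk T3 (lk T7 (lk T4 (lk T3 (lk T6 (lk T4 (lk T9 (x))))))))))))))))))))) (fun _ => rfl) (by decide +kernel)

def w42 : List ℕ := [10, 10, 5, 2, 11, 11, 4, 11, 1, 5, 3, 3, 4, 1, 3, 5, 7, 3, 6, 1, 3]
set_option maxRecDepth 1000000 in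
theorem w42_one : evW sys w42 = 1 :=
  evW_eq_one sys (by decide +kernel) (fun x => lk T10 (lk T10 (lk T5 (lk T2 (lk T11 (lk T11 (lk T4 (lk T11 (lk T1 (lk T5 (lk T3 (lk T3 (lk T4 (lk T1 (lk T3 (lk T5 (lk T7 (lk T3 (lk T6 (lk T1 (lk T3 (x)))))))))))))))))))))) (fun _ => rfl) (by decide +kernel)

def w43 : List ℕ := [11, 8, 6, 4, 9, 4, 10, 2, 4, 1, 3, 4, 1, 3, 7, 3, 7, 7, 1, 9]
set_option maxRecDepth 1000000 in
theorem w43_one : evW sys w43 = 1 :=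
  evW_eq_one sys (by decide +kernel) (fun x => lk T11 (lk T8 (lk T6 (lk T4 (lk T9 (lk T4 (lk T10 (lk T2 (lk T4 (lk T1 (lk T3 (lk T4 (lk T1 (lk T3 (lk T7 (lk T3 (lk T7 (lk T7 (lk T1 (lk T9 (x))))))))))))))))))))) (fun _ => rfl) (by decide +kernel)

def w44 : List ℕ := [11, 11, 5, 0, 4, 10, 10, 1, 5, 1, 4, 2, 5, 3, 6, 1, 5, 1]
set_option maxRecDepth 1000000 in
theorem w44_one : evW sys w44 = 1 :=
  evW_eq_one sys (by decide +kernel) (fun x => lk T11 (lk T11 (lk T5 (lk T0 (lk T4 (lk T10 (lk T10 (lk T1 (lk T5 (lk T1 (lk T4 (lk T2 (lk T5 (lk T3 (lk T6 (lk T1 (lk T5 (lk T1 (x))))))))))))))))))) (fun _ => rfl) (by decide +kernel)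

end Cfsg.Agent.Lib.Helper63RuR
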