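import Cfsg.Agent.Lib.Helper63RuA

set_option autoImplicit false

/-! Relators of the generators of the Rudvalis group on 4060 points (part 1). -/

namespace Cfsg.Agent.Lib.Helper63RuR

open Cfsg.Agent.Lib.Helper63TCS Cfsg.Agent.Lib.Helper63RuA

def w45 : List ℕ := [11, 1, 9, 6, 0, 10, 10, 1, 2, 5, 2, 4, 1, 4, 1, 4, 7, 7, 5, 1, 4]
set_option maxRecDepth 1000000 in
theorem w45_one : evW sys w45 = 1 :=
  evW_eq_one sys (by decide +kernel) (fun x => lk T11 (lk T1 (lk T9 (lk T6 (lk T0 (lk T10 (lk T10 (lk T1 (lk T2 (lk T5 (lk T2 (lk T4 (lk T1 (lk T4 (lk T1 (lk T4 (lk T7 (lk T7 (lk T5 (lk T1 (lk T4 (x)))))))))))))))))))))) (fun _ => rfl) (by decide +kernel)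

def w46 : List ℕ := [10, 5, 8, 0, 6, 0, 10, 1, 3, 3, 5, 5, 3, 4, 3, 4, 6, 5, 6, 1, 6]
set_option maxRecDepth 1000000 in
theorem w46_one : evW sys w46 = 1 :=
  evW_eq_one sys (by decide +kernel) (fun x => lk T10 (lk T5 (lk T8 (lk T0 (lk T6 (lk T0 (lk T10 (lk T1 (lk T3 (lk T3 (lk T5 (lk T5 (lk T3 (lk T4 (lk T3 (lk T4 (lk T6 (lk T5 (lk T6 (lk T1 (lk T6 (x)))))))))))))))))))))) (fun _ => rfl) (by decide +kernel)

def w47 : List ℕ := [10, 1, 4, 0, 8, 5, 11, 3, 4, 3, 4, 2, 4, 2, 5, 6, 4, 6, 5]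
set_option maxRecDepth 1000000 in
theorem w47_one : evW sys w47 = 1 :=
  evW_eq_one sys (by decide +kernel) (fun x => lk T10 (lk T1 (lk T4 (lk T0 (lk T8 (lk T5 (lk T11 (lk T3 (lk T4 (lk T3 (lk T4 (lk T2 (lk T4 (lk T2 (lk T5 (lk T6 (lk T4 (lk T6 (lk T5 (x)))))))))))))))))))) (fun _ => rfl) (by decide +kernel)

def w48 : List ℕ := [10, 10, 4, 4, 9, 11, 11, 5, 3, 4, 2, 5, 2, 4, 2, 5, 7, 7, 7, 7, 9]
set_option maxRecDepth 1000000 in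
theorem w48_one : evW sys w48 = 1 :=
  evW_eq_one sys (by decide +kernel) (fun x => lk T10 (lk T10 (lk T4 (lk T4 (lk T9 (lk T11 (lk T11 (lk T5 (lk T3 (lk T4 (lk T2 (lk T5 (lk T2 (lk T4 (lk T2 (lk T5 (lk T7 (lk T7 (lk T7 (lk T7 (lk T9 (x)))))))))))))))))))))) (fun _ => rfl) (by decide +kernel)

def w49 : List ℕ := [10, 10, 3, 4, 2, 11, 11, 2, 5, 1, 3, 4, 2, 5, 7, 7, 5, 2, 6, 4]
set_option maxRecDepth 1000000 in
theorem w49_one : evW sys w49 = 1 :=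
  evW_eq_one sys (by decide +kernel) (fun x => lk T10 (lk T10 (lk T3 (lk T4 (lk T2 (lk T11 (lk T11 (lk T2 (lk T5 (lk T1 (lk T3 (lk T4 (lk T2 (lk T5 (lk T7 (lk T7 (lk T5 (lk T2 (lk T6 (lk T4 (x))))))))))))))))))))) (fun _ => rfl) (by decide +kernel)

def w50 : List ℕ := [10, 10, 6, 8, 5, 6, 10, 2, 5, 2, 2, 4, 3, 5, 3, 6, 6, 2, 4, 1, 9]
set_option maxRecDepth 1000000 in
theorem w50_one : evW sys w50 = 1 :=
  evW_eq_one sys (by decide +kernel) (fun x => lk T10 (lk T10 (lk T6 (lk T8 (lk T5 (lk T6 (lk T10 (lk T2 (lk T5 (lk T2 (lk T2 (lk T4 (lk T3 (lk T5 (lk T3 (lk T6 (lk T6 (lk T2 (lk T4 (lk T1 (lk T9 (x)))))))))))))))))))))) (fun _ => rfl) (by decide +kernel)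

def w51 : List ℕ := [11, 4, 9, 6, 8, 2, 10, 1, 4, 2, 5, 3, 4, 3, 6, 2, 6, 1, 3, 9]
set_option maxRecDepth 1000000 in
theorem w51_one : evW sys w51 = 1 :=
  evW_eq_one sys (by decide +kernel) (fun x => lk T11 (lk T4 (lk T9 (lk T6 (lk T8 (lk T2 (lk T10 (lk T1 (lk T4 (lk T2 (lk T5 (lk T3 (lk T4 (lk T3 (lk T6 (lk T2 (lk T6 (lk T1 (lk T3 (lk T9 (x))))))))))))))))))))) (fun _ => rfl) (by decide +kernel)

def w52 : List ℕ := [11, 4, 7, 2, 4, 11, 4, 11, 3, 3, 5, 1, 4, 1, 3, 5, 2, 4, 7, 7, 5, 3, 5]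
set_option maxRecDepth 1000000 in
theorem w52_one : evW sys w52 = 1 :=
  evW_eq_one sys (by decide +kernel) (fun x => lk T11 (lk T4 (lk T7 (lk T2 (lk T4 (lk T11 (lk T4 (lk T11 (lk T3 (lk T3 (lk T5 (lk T1 (lk T4 (lk T1 (lk T3 (lk T5 (lk T2 (lk T4 (lk T7 (lk T7 (lk T5 (lk T3 (lk T5 (x)))))))))))))))))))))))) (fun _ => rfl) (by decide +kernel)

def w53 : List ℕ := [10, 5, 9, 4, 3, 5, 11, 1, 2, 5, 5, 2, 5, 2, 4, 1, 7, 3, 7, 5, 6, 3]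
set_option maxRecDepth 1000000 in
theorem w53_one : evW sys w53 = 1 :=
  evW_eq_one sys (by decide +kernel) (fun x => lk T10 (lk T5 (lk T9 (lk T4 (lk T3 (lk T5 (lk T11 (lk T1 (lk T2 (lk T5 (lk T5 (lk T2 (lk T5 (lk T2 (lk T4 (lk T1 (lk T7 (lk T3 (lk T7 (lk T5 (lk T6 (lk T3 (x))))))))))))))))))))))) (fun _ => rfl) (by decide +kernel)

def w54 : List ℕ := [10, 10, 7, 0, 6, 11, 11, 1, 3, 5, 3, 5, 3, 4, 3, 7, 3, 4]
set_option maxRecDepth 1000000 in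
theorem w54_one : evW sys w54 = 1 :=
  evW_eq_one sys (by decide +kernel) (fun x => lk T10 (lk T10 (lk T7 (lk T0 (lk T6 (lk T11 (lk T11 (lk T1 (lk T3 (lk T5 (lk T3 (lk T5 (lk T3 (lk T4 (lk T3 (lk T7 (lk T3 (lk T4 (x))))))))))))))))))) (fun _ => rfl) (by decide +kernel)

def w55 : List ℕ := [11, 3, 7, 8, 5, 6, 11, 1, 3, 3, 5, 1, 4, 1, 4, 1, 3, 7, 2, 7, 2, 4, 6]
set_option maxRecDepth 1000000 in
theorem w55_one : evW sys w55 = 1 :=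
  evW_eq_one sys (by decide +kernel) (fun x => lk T11 (lk T3 (lk T7 (lk T8 (lk T5 (lk T6 (lk T11 (lk T1 (lk T3 (lk T3 (lk T5 (lk T1 (lk T4 (lk T1 (lk T4 (lk T1 (lk T3 (lk T7 (lk T2 (lk T7 (lk T2 (lk T4 (lk T6 (x)))))))))))))))))))))))) (fun _ => rfl) (by decide +kernel)

def w56 : List ℕ := [10, 10, 4, 8, 5, 11, 11, 2, 2, 5, 1, 4, 1, 4, 3, 3, 6, 1, 7, 7, 3, 7]
set_option maxRecDepth 1000000 in
theorem w56_one : evW sys w56 = 1 :=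
  evW_eq_one sys (by decide +kernel) (fun x => lk T10 (lk T10 (lk T4 (lk T8 (lk T5 (lk T11 (lk T11 (lk T2 (lk T2 (lk T5 (lk T1 (lk T4 (lk T1 (lk T4 (lk T3 (lk T3 (lk T6 (lk T1 (lk T7 (lk T7 (lk T3 (lk T7 (x))))))))))))))))))))))) (fun _ => rfl) (by decide +kernel)

def w57 : List ℕ := [11, 1, 5, 6, 4, 2, 8, 10, 3, 4, 1, 4, 1, 3, 7, 2, 2, 7, 4, 1]
set_option maxRecDepth 1000000 in
theorem w57_one : evW sys w57 = 1 :=
  evW_eq_one sys (by decide +kernel) (fun x => lk T11 (lk T1 (lk T5 (lk T6 (lk T4 (lk T2 (lk T8 (lk T10 (lk T3 (lk T4 (lk T1 (lk T4 (lk T1 (lk T3 (lk T7 (lk T2 (lk T2 (lk T7 (lk T4 (lk T1 (x))))))))))))))))))))) (fun _ => rfl) (by decide +kernel)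

def w58 : List ℕ := [10, 1, 8, 6, 6, 0, 10, 2, 5, 1, 3, 5, 5, 6, 6, 5, 6, 2, 7, 9]
set_option maxRecDepth 1000000 in
theorem w58_one : evW sys w58 = 1 :=
  evW_eq_one sys (by decide +kernel) (fun x => lk T10 (lk T1 (lk T8 (lk T6 (lk T6 (lk T0 (lk T10 (lk T2 (lk T5 (lk T1 (lk T3 (lk T5 (lk T5 (lk T6 (lk T6 (lk T5 (lk T6 (lk T2 (lk T7 (lk T9 (x))))))))))))))))))))) (fun _ => rfl) (by decide +kernel)

def w59 : List ℕ := [10, 2, 5, 2, 2, 4, 11, 1, 3, 3, 4, 1, 4, 1, 3, 4, 7, 5, 7, 3, 7, 9]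
set_option maxRecDepth 1000000 in
theorem w59_one : evW sys w59 = 1 :=
  evW_eq_one sys (by decide +kernel) (fun x => lk T10 (lk T2 (lk T5 (lk T2 (lk T2 (lk T4 (lk T11 (lk T1 (lk T3 (lk T3 (lk T4 (lk T1 (lk T4 (lk T1 (lk T3 (lk T4 (lk T7 (lk T5 (lk T7 (lk T3 (lk T7 (lk T9 (x))))))))))))))))))))))) (fun _ => rfl) (by decide +kernel)

def w60 : List ℕ := [9, 6, 8, 2, 2, 5, 1, 5, 1, 5, 3, 5, 3, 4, 7, 3]
set_option maxRecDepth 1000000 in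
theorem w60_one : evW sys w60 = 1 :=
  evW_eq_one sys (by decide +kernel) (fun x => lk T9 (lk T6 (lk T8 (lk T2 (lk T2 (lk T5 (lk T1 (lk T5 (lk T1 (lk T5 (lk T3 (lk T5 (lk T3 (lk T4 (lk T7 (lk T3 (x))))))))))))))))) (fun _ => rfl) (by decide +kernel)

def w61 : List ℕ := [11, 4, 8, 6, 9, 0, 5, 10, 1, 2, 2, 4, 1, 3, 3, 4, 3, 7, 3, 3, 9]
set_option maxRecDepth 1000000 in
theorem w61_one : evW sys w61 = 1 :=
  evW_eq_one sys (by decide +kernel) (fun x => lk T11 (lk T4 (lk T8 (lk T6 (lk T9 (lk T0 (lk T5 (lk T10 (lk T1 (lk T2 (lk T2 (lk T4 (lk T1 (lk T3 (lk T3 (lk T4 (lk T3 (lk T7 (lk T3 (lk T3 (lk T9 (x)))))))))))))))))))))) (fun _ => rfl) (by decide +kernel)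

def w62 : List ℕ := [10, 4, 2, 2, 5, 3, 11, 3, 3, 5, 1, 3, 5, 3, 6, 2, 6, 1, 3, 9]
set_option maxRecDepth 1000000 in
theorem w62_one : evW sys w62 = 1 :=
  evW_eq_one sys (by decide +kernel) (fun x => lk T10 (lk T4 (lk T2 (lk T2 (lk T5 (lk T3 (lk T11 (lk T3 (lk T3 (lk T5 (lk T1 (lk T3 (lk T5 (lk T3 (lk T6 (lk T2 (lk T6 (lk T1 (lk T3 (lk T9 (x))))))))))))))))))))) (fun _ => rfl) (by decide +kernel)

def w63 : List ℕ := [11, 5, 7, 5, 0, 4, 9, 10, 2, 5, 3, 3, 4, 1, 5, 6, 1, 6, 1, 6, 9]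
set_option maxRecDepth 1000000 in
theorem w63_one : evW sys w63 = 1 :=
  evW_eq_one sys (by decide +kernel) (fun x => lk T11 (lk T5 (lk T7 (lk T5 (lk T0 (lk T4 (lk T9 (lk T10 (lk T2 (lk T5 (lk T3 (lk T3 (lk T4 (lk T1 (lk T5 (lk T6 (lk T1 (lk T6 (lk T1 (lk T6 (lk T9 (x)))))))))))))))))))))) (fun _ => rfl) (by decide +kernel)

def w64 : List ℕ := [11, 5, 8, 0, 5, 9, 0, 10, 1, 3, 5, 3, 3, 5, 5, 7, 7, 2, 2, 7, 5]
set_option maxRecDepth 1000000 in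
theorem w64_one : evW sys w64 = 1 :=
  evW_eq_one sys (by decide +kernel) (fun x => lk T11 (lk T5 (lk T8 (lk T0 (lk T5 (lk T9 (lk T0 (lk T10 (lk T1 (lk T3 (lk T5 (lk T3 (lk T3 (lk T5 (lk T5 (lk T7 (lk T7 (lk T2 (lk T2 (lk T7 (lk T5 (x)))))))))))))))))))))) (fun _ => rfl) (by decide +kernel)

def w65 : List ℕ := [11, 5, 1, 4, 4, 0, 6, 10, 3, 3, 5, 3, 5, 3, 5, 2, 6, 6, 1, 5]
set_option maxRecDepth 1000000 in
theorem w65_one : evW sys w65 = 1 :=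
  evW_eq_one sys (by decide +kernel) (fun x => lk T11 (lk T5 (lk T1 (lk T4 (lk T4 (lk T0 (lk T6 (lk T10 (lk T3 (lk T3 (lk T5 (lk T3 (lk T5 (lk T3 (lk T5 (lk T2 (lk T6 (lk T6 (lk T1 (lk T5 (x))))))))))))))))))))) (fun _ => rfl) (by decide +kernel)

def w66 : List ℕ := [11, 7, 1, 2, 4, 3, 6, 10, 1, 5, 1, 3, 3, 4, 2, 7, 7, 7, 4, 9]
set_option maxRecDepth 1000000 in
theorem w66_one : evW sys w66 = 1 :=
  evW_eq_one sys (by decide +kernel) (fun x => lk T11 (lk T7 (lk T1 (lk T2 (lk T4 (lk T3 (lk T6 (lk T10 (lk T1 (lk T5 (lk T1 (lk T3 (lk T3 (lk T4 (lk T2 (lk T7 (lk T7 (lk T7 (lk T4 (lk T9 (x))))))))))))))))))))) (fun _ => rfl) (by decide +kernel)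

def w67 : List ℕ := [11, 5, 1, 9, 4, 9, 5, 10, 4, 1, 5, 5, 1, 6, 1, 6, 6, 9]
set_option maxRecDepth 1000000 in
theorem w67_one : evW sys w67 = 1 :=
  evW_eq_one sys (by decide +kernel) (fun x => lk T11 (lk T5 (lk T1 (lk T9 (lk T4 (lk T9 (lk T5 (lk T10 (lk T4 (lk T1 (lk T5 (lk T5 (lk T1 (lk T6 (lk T1 (lk T6 (lk T6 (lk T9 (x))))))))))))))))))) (fun _ => rfl) (by decide +kernel)

def w68 : List ℕ := [10, 1, 5, 2, 6, 0, 10, 1, 2, 2, 4, 1, 5, 1, 4, 2, 2, 7, 3, 7, 5, 3, 9]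
set_option maxRecDepth 1000000 in
theorem w68_one : evW sys w68 = 1 :=
  evW_eq_one sys (by decide +kernel) (fun x => lk T10 (lk T1 (lk T5 (lk T2 (lk T6 (lk T0 (lk T10 (lk T1 (lk T2 (lk T2 (lk T4 (lk T1 (lk T5 (lk T1 (lk T4 (lk T2 (lk T2 (lk T7 (lk T3 (lk T7 (lk T5 (lk T3 (lk T9 (x)))))))))))))))))))))))) (fun _ => rfl) (by decide +kernel)

def w69 : List ℕ := [10, 10, 5, 0, 7, 4, 2, 10, 2, 5, 2, 5, 1, 5, 2, 7, 3, 6, 2, 6, 1, 9]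
set_option maxRecDepth 1000000 in
theorem w69_one : evW sys w69 = 1 :=
  evW_eq_one sys (by decide +kernel) (fun x => lk T10 (lk T10 (lk T5 (lk T0 (lk T7 (lk T4 (lk T2 (lk T10 (lk T2 (lk T5 (lk T2 (lk T5 (lk T1 (lk T5 (lk T2 (lk T7 (lk T3 (lk T6 (lk T2 (lk T6 (lk T1 (lk T9 (x))))))))))))))))))))))) (fun _ => rfl) (by decide +kernel)

def w70 : List ℕ := [11, 4, 8, 2, 4, 0, 8, 10, 2, 2, 4, 1, 3, 3, 5, 3, 7, 7, 3, 5, 2, 6]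
set_option maxRecDepth 1000000 in
theorem w70_one : evW sys w70 = 1 :=
  evW_eq_one sys (by decide +kernel) (fun x => lk T11 (lk T4 (lk T8 (lk T2 (lk T4 (lk T0 (lk T8 (lk T10 (lk T2 (lk T2 (lk T4 (lk T1 (lk T3 (lk T3 (lk T5 (lk T3 (lk T7 (lk T7 (lk T3 (lk T5 (lk T2 (lk T6 (x))))))))))))))))))))))) (fun _ => rfl) (by decide +kernel)

def w71 : List ℕ := [11, 2, 2, 5, 0, 9, 5, 10, 1, 2, 5, 5, 1, 4, 2, 4, 7, 2, 6, 6, 1, 9]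
set_option maxRecDepth 1000000 in
theorem w71_one : evW sys w71 = 1 :=
  evW_eq_one sys (by decide +kernel) (fun x => lk T11 (lk T2 (lk T2 (lk T5 (lk T0 (lk T9 (lk T5 (lk T10 (lk T1 (lk T2 (lk T5 (lk T5 (lk T1 (lk T4 (lk T2 (lk T4 (lk T7 (lk T2 (lk T6 (lk T6 (lk T1 (lk T9 (x))))))))))))))))))))))) (fun _ => rfl) (by decide +kernel)

def w72 : List ℕ := [11, 4, 7, 8, 6, 2, 8, 10, 1, 5, 1, 4, 1, 4, 2, 2, 6, 5, 5, 6, 4, 7, 9]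
set_option maxRecDepth 1000000 in
theorem w72_one : evW sys w72 = 1 :=
  evW_eq_one sys (by decide +kernel) (fun x => lk T11 (lk T4 (lk T7 (lk T8 (lk T6 (lk T2 (lk T8 (lk T10 (lk T1 (lk T5 (lk T1 (lk T4 (lk T1 (lk T4 (lk T2 (lk T2 (lk T6 (lk T5 (lk T5 (lk T6 (lk T4 (lk T7 (lk T9 (x)))))))))))))))))))))))) (fun _ => rfl) (by decide +kernel)

def w73 : List ℕ := [10, 7, 7, 0, 7, 2, 2, 10, 1, 3, 3, 5, 1, 5, 3, 5, 2, 2, 5, 7, 5, 1, 7, 9]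
set_option maxRecDepth 1000000 in
theorem w73_one : evW sys w73 = 1 :=
  evW_eq_one sys (by decide +kernel) (fun x => lk T10 (lk T7 (lk T7 (lk T0 (lk T7 (lk T2 (lk T2 (lk T10 (lk T1 (lk T3 (lk T3 (lk T5 (lk T1 (lk T5 (lk T3 (lk T5 (lk T2 (lk T2 (lk T5 (lk T7 (lk T5 (lk T1 (lk T7 (lk T9 (x))))))))))))))))))))))))) (fun _ => rfl) (by decide +kernel)

end Cfsg.Agent.Lib.Helper63RuR
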