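import Cfsg.Agent.Lib.Helper63RuA

set_option autoImplicit false

/-! Relators of the generators of the Rudvalis group on 4060 points (part 2). -/

namespace Cfsg.Agent.Lib.Helper63RuR

open Cfsg.Agent.Lib.Helper63TCS Cfsg.Agent.Lib.Helper63RuA

def w74 : List ℕ := [11, 7, 1, 6, 8, 6, 4, 10, 2, 2, 5, 5, 1, 5, 2, 6, 2, 7, 3, 5, 9]
set_option maxRecDepth 1000000 in
theorem w74_one : evW sys w74 = 1 :=
  evW_eq_one sys (by decide +kernel) (fun x => lk T11 (lk T7 (lk T1 (lk T6 (lk T8 (lk T6 (lk T4 (lk T10 (lk T2 (lk T2 (lk T5 (lk T5 (lk T1 (lk T5 (lk T2 (lk T6 (lk T2 (lk T7 (lk T3 (lk T5 (lk T9 (x)))))))))))))))))))))) (fun _ => rfl) (by decide +kernel)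

def w75 : List ℕ := [11, 7, 2, 6, 6, 3, 6, 11, 1, 3, 5, 1, 2, 5, 5, 2, 7, 5, 7, 4, 2, 9]
set_option maxRecDepth 1000000 in
theorem w75_one : evW sys w75 = 1 :=
  evW_eq_one sys (by decide +kernel) (fun x => lk T11 (lk T7 (lk T2 (lk T6 (lk T6 (lk T3 (lk T6 (lk T11 (lk T1 (lk T3 (lk T5 (lk T1 (lk T2 (lk T5 (lk T5 (lk T2 (lk T7 (lk T5 (lk T7 (lk T4 (lk T2 (lk T9 (x))))))))))))))))))))))) (fun _ => rfl) (by decide +kernel)

def w76 : List ℕ := [11, 5, 2, 4, 7, 2, 2, 10, 1, 3, 5, 1, 5, 3, 5, 1, 5, 3, 4, 7, 7, 5, 5, 7, 5]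
set_option maxRecDepth 1000000 in
theorem w76_one : evW sys w76 = 1 :=
  evW_eq_one sys (by decide +kernel) (fun x => lk T11 (lk T5 (lk T2 (lk T4 (lk T7 (lk T2 (lk T2 (lk T10 (lk T1 (lk T3 (lk T5 (lk T1 (lk T5 (lk T3 (lk T5 (lk T1 (lk T5 (lk T3 (lk T4 (lk T7 (lk T7 (lk T5 (lk T5 (lk T7 (lk T5 (x)))))))))))))))))))))))))) (fun _ => rfl) (by decide +kernel)

def w77 : List ℕ := [11, 4, 2, 4, 0, 4, 3, 10, 3, 3, 4, 1, 2, 4, 2, 4, 6, 5, 6, 2, 2, 9]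
set_option maxRecDepth 1000000 in
theorem w77_one : evW sys w77 = 1 :=
  evW_eq_one sys (by decide +kernel) (fun x => lk T11 (lk T4 (lk T2 (lk T4 (lk T0 (lk T4 (lk T3 (lk T10 (lk T3 (lk T3 (lk T4 (lk T1 (lk T2 (lk T4 (lk T2 (lk T4 (lk T6 (lk T5 (lk T6 (lk T2 (lk T2 (lk T9 (x))))))))))))))))))))))) (fun _ => rfl) (by decide +kernel)

def w78 : List ℕ := [11, 4, 3, 4, 4, 3, 4, 10, 3, 3, 5, 3, 5, 2, 4, 1, 5, 7, 5, 5, 1, 6]
set_option maxRecDepth 1000000 in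
theorem w78_one : evW sys w78 = 1 :=
  evW_eq_one sys (by decide +kernel) (fun x => lk T11 (lk T4 (lk T3 (lk T4 (lk T4 (lk T3 (lk T4 (lk T10 (lk T3 (lk T3 (lk T5 (lk T3 (lk T5 (lk T2 (lk T4 (lk T1 (lk T5 (lk T7 (lk T5 (lk T5 (lk T1 (lk T6 (x))))))))))))))))))))))) (fun _ => rfl) (by decide +kernel)

def w79 : List ℕ := [11, 9, 2, 4, 2, 0, 5, 10, 1, 2, 2, 5, 1, 3, 3, 5, 3, 3, 6, 1, 3, 4, 1, 9]
set_option maxRecDepth 1000000 in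
theorem w79_one : evW sys w79 = 1 :=
  evW_eq_one sys (by decide +kernel) (fun x => lk T11 (lk T9 (lk T2 (lk T4 (lk T2 (lk T0 (lk T5 (lk T10 (lk T1 (lk T2 (lk T2 (lk T5 (lk T1 (lk T3 (lk T3 (lk T5 (lk T3 (lk T3 (lk T6 (lk T1 (lk T3 (lk T4 (lk T1 (lk T9 (x))))))))))))))))))))))))) (fun _ => rfl) (by decide +kernel)

def w80 : List ℕ := [6, 6, 6, 6, 6, 6, 6, 6, 6, 6, 6, 6, 6]
set_option maxRecDepth 1000000 in
theorem w80_one : evW sys w80 = 1 :=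
  evW_eq_one sys (by decide +kernel) (fun x => lk T6 (lk T6 (lk T6 (lk T6 (lk T6 (lk T6 (lk T6 (lk T6 (lk T6 (lk T6 (lk T6 (lk T6 (lk T6 (x)))))))))))))) (fun _ => rfl) (by decide +kernel)

def w81 : List ℕ := [6, 7]
set_option maxRecDepth 1000000 in
theorem w81_one : evW sys w81 = 1 :=
  evW_eq_one sys (by decide +kernel) (fun x => lk T6 (lk T7 (x))) (fun _ => rfl) (by decide +kernel)

def w82 : List ℕ := [7, 0, 7, 0, 7, 0, 7, 0, 7, 0, 7, 0, 7, 0, 7, 0, 7, 0, 7, 0, 7, 0, 7, 0, 7, 0]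
set_option maxRecDepth 1000000 in
theorem w82_one : evW sys w82 = 1 :=
  evW_eq_one sys (by decide +kernel) (fun x => lk T7 (lk T0 (lk T7 (lk T0 (lk T7 (lk T0 (lk T7 (lk T0 (lk T7 (lk T0 (lk T7 (lk T0 (lk T7 (lk T0 (lk T7 (lk T0 (lk T7 (lk T0 (lk T7 (lk T0 (lk T7 (lk T0 (lk T7 (lk T0 (lk T7 (lk T0 (x))))))))))))))))))))))))))) (fun _ => rfl) (by decide +kernel)

def w83 : List ℕ := [6, 7, 0, 1]
set_option maxRecDepth 1000000 in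
theorem w83_one : evW sys w83 = 1 :=
  evW_eq_one sys (by decide +kernel) (fun x => lk T6 (lk T7 (lk T0 (lk T1 (x))))) (fun _ => rfl) (by decide +kernel)

def w84 : List ℕ := [7, 4, 7, 4, 7, 4, 7, 4, 7, 4, 7, 4, 7, 4, 7, 4, 7, 4, 7, 4, 7, 4, 7, 4, 7, 4]
set_option maxRecDepth 1000000 in
theorem w84_one : evW sys w84 = 1 :=
  evW_eq_one sys (by decide +kernel) (fun x => lk T7 (lk T4 (lk T7 (lk T4 (lk T7 (lk T4 (lk T7 (lk T4 (lk T7 (lk T4 (lk T7 (lk T4 (lk T7 (lk T4 (lk T7 (lk T4 (lk T7 (lk T4 (lk T7 (lk T4 (lk T7 (lk T4 (lk T7 (lk T4 (lk T7 (lk T4 (x))))))))))))))))))))))))))) (fun _ => rfl) (by decide +kernel)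

def w85 : List ℕ := [6, 7, 4, 5]
set_option maxRecDepth 1000000 in
theorem w85_one : evW sys w85 = 1 :=
  evW_eq_one sys (by decide +kernel) (fun x => lk T6 (lk T7 (lk T4 (lk T5 (x))))) (fun _ => rfl) (by decide +kernel)

def w86 : List ℕ := [7, 7, 7, 7, 7, 7, 7, 7, 7, 7, 7, 7, 7]
set_option maxRecDepth 1000000 in
theorem w86_one : evW sys w86 = 1 :=
  evW_eq_one sys (by decide +kernel) (fun x => lk T7 (lk T7 (lk T7 (lk T7 (lk T7 (lk T7 (lk T7 (lk T7 (lk T7 (lk T7 (lk T7 (lk T7 (lk T7 (x)))))))))))))) (fun _ => rfl) (by decide +kernel)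

def w87 : List ℕ := [6, 2, 6, 2, 6, 2, 6, 2, 6, 2, 6, 2, 6, 2, 6, 2, 6, 2, 6, 2, 6, 2, 6, 2, 6, 2]
set_option maxRecDepth 1000000 in
theorem w87_one : evW sys w87 = 1 :=
  evW_eq_one sys (by decide +kernel) (fun x => lk T6 (lk T2 (lk T6 (lk T2 (lk T6 (lk T2 (lk T6 (lk T2 (lk T6 (lk T2 (lk T6 (lk T2 (lk T6 (lk T2 (lk T6 (lk T2 (lk T6 (lk T2 (lk T6 (lk T2 (lk T6 (lk T2 (lk T6 (lk T2 (lk T6 (lk T2 (x))))))))))))))))))))))))))) (fun _ => rfl) (by decide +kernel)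

def w88 : List ℕ := [7, 6, 2, 3]
set_option maxRecDepth 1000000 in
theorem w88_one : evW sys w88 = 1 :=
  evW_eq_one sys (by decide +kernel) (fun x => lk T7 (lk T6 (lk T2 (lk T3 (x))))) (fun _ => rfl) (by decide +kernel)

def w89 : List ℕ := [10, 10, 10, 10, 10, 10, 10]
set_option maxRecDepth 1000000 in
theorem w89_one : evW sys w89 = 1 :=
  evW_eq_one sys (by decide +kernel) (fun x => lk T10 (lk T10 (lk T10 (lk T10 (lk T10 (lk T10 (lk T10 (x)))))))) (fun _ => rfl) (by decide +kernel)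

def w90 : List ℕ := [10, 11]
set_option maxRecDepth 1000000 in
theorem w90_one : evW sys w90 = 1 :=
  evW_eq_one sys (by decide +kernel) (fun x => lk T10 (lk T11 (x))) (fun _ => rfl) (by decide +kernel)

def w91 : List ℕ := [3, 10, 2, 3, 10, 2, 3, 10, 2, 3, 10, 2, 3, 10, 2, 3, 10, 2, 3, 10, 2]
set_option maxRecDepth 1000000 in
theorem w91_one : evW sys w91 = 1 :=
  evW_eq_one sys (by decide +kernel) (fun x => lk T3 (lk T10 (lk T2 (lk T3 (lk T10 (lk T2 (lk T3 (lk T10 (lk T2 (lk T3 (lk T10 (lk T2 (lk T3 (lk T10 (lk T2 (lk T3 (lk T10 (lk T2 (lk T3 (lk T10 (lk T2 (x)))))))))))))))))))))) (fun _ => rfl) (by decide +kernel)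

def w92 : List ℕ := [3, 11, 2, 6, 3, 11, 2, 6, 3, 11, 2, 6, 3, 11, 2, 6, 3, 11, 2, 6, 3, 11, 2, 6, 3, 11, 2, 6]
set_option maxRecDepth 1000000 in
theorem w92_one : evW sys w92 = 1 :=
  evW_eq_one sys (by decide +kernel) (fun x => lk T3 (lk T11 (lk T2 (lk T6 (lk T3 (lk T11 (lk T2 (lk T6 (lk T3 (lk T11 (lk T2 (lk T6 (lk T3 (lk T11 (lk T2 (lk T6 (lk T3 (lk T11 (lk T2 (lk T6 (lk T3 (lk T11 (lk T2 (lk T6 (lk T3 (lk T11 (lk T2 (lk T6 (x))))))))))))))))))))))))))))) (fun _ => rfl) (by decide +kernel)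

def w93 : List ℕ := [3, 10, 2, 3, 11, 2, 6, 7]
set_option maxRecDepth 1000000 in
theorem w93_one : evW sys w93 = 1 :=
  evW_eq_one sys (by decide +kernel) (fun x => lk T3 (lk T10 (lk T2 (lk T3 (lk T11 (lk T2 (lk T6 (lk T7 (x))))))))) (fun _ => rfl) (by decide +kernel)

def w94 : List ℕ := [7, 10, 3, 7, 10, 3, 7, 10, 3, 7, 10, 3, 7, 10, 3, 7, 10, 3, 7, 10, 3]
set_option maxRecDepth 1000000 in
theorem w94_one : evW sys w94 = 1 :=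
  evW_eq_one sys (by decide +kernel) (fun x => lk T7 (lk T10 (lk T3 (lk T7 (lk T10 (lk T3 (lk T7 (lk T10 (lk T3 (lk T7 (lk T10 (lk T3 (lk T7 (lk T10 (lk T3 (lk T7 (lk T10 (lk T3 (lk T7 (lk T10 (lk T3 (x)))))))))))))))))))))) (fun _ => rfl) (by decide +kernel)

def w95 : List ℕ := [2, 11, 6, 2, 2, 11, 6, 2, 2, 11, 6, 2, 2, 11, 6, 2, 2, 11, 6, 2, 2, 11, 6, 2, 2, 11, 6, 2]
set_option maxRecDepth 1000000 in
theorem w95_one : evW sys w95 = 1 :=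
  evW_eq_one sys (by decide +kernel) (fun x => lk T2 (lk T11 (lk T6 (lk T2 (lk T2 (lk T11 (lk T6 (lk T2 (lk T2 (lk T11 (lk T6 (lk T2 (lk T2 (lk T11 (lk T6 (lk T2 (lk T2 (lk T11 (lk T6 (lk T2 (lk T2 (lk T11 (lk T6 (lk T2 (lk T2 (lk T11 (lk T6 (lk T2 (x))))))))))))))))))))))))))))) (fun _ => rfl) (by decide +kernel)

def w96 : List ℕ := [7, 10, 3, 2, 11, 6, 2, 3]
set_option maxRecDepth 1000000 in
theorem w96_one : evW sys w96 = 1 :=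
  evW_eq_one sys (by decide +kernel) (fun x => lk T7 (lk T10 (lk T3 (lk T2 (lk T11 (lk T6 (lk T2 (lk T3 (x))))))))) (fun _ => rfl) (by decide +kernel)

def w97 : List ℕ := [6, 11, 6, 6, 11, 6, 6, 11, 6, 6, 11, 6, 6, 11, 6, 6, 11, 6, 6, 11, 6]
set_option maxRecDepth 1000000 in
theorem w97_one : evW sys w97 = 1 :=
  evW_eq_one sys (by decide +kernel) (fun x => lk T6 (lk T11 (lk T6 (lk T6 (lk T11 (lk T6 (lk T6 (lk T11 (lk T6 (lk T6 (lk T11 (lk T6 (lk T6 (lk T11 (lk T6 (lk T6 (lk T11 (lk T6 (lk T6 (lk T11 (lk T6 (x)))))))))))))))))))))) (fun _ => rfl) (by decide +kernel)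

def w98 : List ℕ := [7, 10, 7, 4, 7, 10, 7, 4, 7, 10, 7, 4, 7, 10, 7, 4, 7, 10, 7, 4, 7, 10, 7, 4, 7, 10, 7, 4]
set_option maxRecDepth 1000000 in
theorem w98_one : evW sys w98 = 1 :=
  evW_eq_one sys (by decide +kernel) (fun x => lk T7 (lk T10 (lk T7 (lk T4 (lk T7 (lk T10 (lk T7 (lk T4 (lk T7 (lk T10 (lk T7 (lk T4 (lk T7 (lk T10 (lk T7 (lk T4 (lk T7 (lk T10 (lk T7 (lk T4 (lk T7 (lk T10 (lk T7 (lk T4 (lk T7 (lk T10 (lk T7 (lk T4 (x))))))))))))))))))))))))))))) (fun _ => rfl) (by decide +kernel)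

def w99 : List ℕ := [6, 11, 6, 7, 10, 7, 4, 5]
set_option maxRecDepth 1000000 in
theorem w99_one : evW sys w99 = 1 :=
  evW_eq_one sys (by decide +kernel) (fun x => lk T6 (lk T11 (lk T6 (lk T7 (lk T10 (lk T7 (lk T4 (lk T5 (x))))))))) (fun _ => rfl) (by decide +kernel)

def w100 : List ℕ := [11, 7, 2, 0, 11, 7, 2, 0, 11, 7, 2, 0, 11, 7, 2, 0, 11, 7, 2, 0, 11, 7, 2, 0, 11, 7, 2, 0]
set_option maxRecDepth 1000000 in
theorem w100_one : evW sys w100 = 1 :=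
  evW_eq_one sys (by decide +kernel) (fun x => lk T11 (lk T7 (lk T2 (lk T0 (lk T11 (lk T7 (lk T2 (lk T0 (lk T11 (lk T7 (lk T2 (lk T0 (lk T11 (lk T7 (lk T2 (lk T0 (lk T11 (lk T7 (lk T2 (lk T0 (lk T11 (lk T7 (lk T2 (lk T0 (lk T11 (lk T7 (lk T2 (lk T0 (x))))))))))))))))))))))))))))) (fun _ => rfl) (by decide +kernel)

def w101 : List ℕ := [1, 3, 6, 10, 8, 1, 3, 6, 10, 8, 1, 3, 6, 10, 8, 1, 3, 6, 10, 8, 1, 3, 6, 10, 8, 1, 3, 6, 10, 8, 1, 3, 6, 10, 8]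
set_option maxRecDepth 1000000 in
theorem w101_one : evW sys w101 = 1 :=
  evW_eq_one sys (by decide +kernel) (fun x => lk T1 (lk T3 (lk T6 (lk T10 (lk T8 (lk T1 (lk T3 (lk T6 (lk T10 (lk T8 (lk T1 (lk T3 (lk T6 (lk T10 (lk T8 (lk T1 (lk T3 (lk T6 (lk T10 (lk T8 (lk T1 (lk T3 (lk T6 (lk T10 (lk T8 (lk T1 (lk T3 (lk T6 (lk T10 (lk T8 (lk T1 (lk T3 (lk T6 (lk T10 (lk T8 (x)))))))))))))))))))))))))))))))))))) (fun _ => rfl) (by decide +kernel)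

def w102 : List ℕ := [11, 7, 2, 0, 1, 3, 6, 10, 8, 9]
set_option maxRecDepth 1000000 in
theorem w102_one : evW sys w102 = 1 :=
  evW_eq_one sys (by decide +kernel) (fun x => lk T11 (lk T7 (lk T2 (lk T0 (lk T1 (lk T3 (lk T6 (lk T10 (lk T8 (lk T9 (x))))))))))) (fun _ => rfl) (by decide +kernel)

def w103 : List ℕ := [11, 8, 5, 6, 11, 8, 5, 6, 11, 8, 5, 6, 11, 8, 5, 6, 11, 8, 5, 6, 11, 8, 5, 6, 11, 8, 5, 6]
set_option maxRecDepth 1000000 in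
theorem w103_one : evW sys w103 = 1 :=
  evW_eq_one sys (by decide +kernel) (fun x => lk T11 (lk T8 (lk T5 (lk T6 (lk T11 (lk T8 (lk T5 (lk T6 (lk T11 (lk T8 (lk T5 (lk T6 (lk T11 (lk T8 (lk T5 (lk T6 (lk T11 (lk T8 (lk T5 (lk T6 (lk T11 (lk T8 (lk T5 (lk T6 (lk T11 (lk T8 (lk T5 (lk T6 (x))))))))))))))))))))))))))))) (fun _ => rfl) (by decide +kernel)

def w104 : List ℕ := [7, 4, 9, 10, 0, 7, 4, 9, 10, 0, 7, 4, 9, 10, 0, 7, 4, 9, 10, 0, 7, 4, 9, 10, 0, 7, 4, 9, 10, 0, 7, 4, 9, 10, 0]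
set_option maxRecDepth 1000000 in
theorem w104_one : evW sys w104 = 1 :=
  evW_eq_one sys (by decide +kernel) (fun x => lk T7 (lk T4 (lk T9 (lk T10 (lk T0 (lk T7 (lk T4 (lk T9 (lk T10 (lk T0 (lk T7 (lk T4 (lk T9 (lk T10 (lk T0 (lk T7 (lk T4 (lk T9 (lk T10 (lk T0 (lk T7 (lk T4 (lk T9 (lk T10 (lk T0 (lk T7 (lk T4 (lk T9 (lk T10 (lk T0 (lk T7 (lk T4 (lk T9 (lk T10 (lk T0 (x)))))))))))))))))))))))))))))))))))) (fun _ => rfl) (by decide +kernel)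

def w105 : List ℕ := [11, 8, 5, 6, 7, 4, 9, 10, 0, 1]
set_option maxRecDepth 1000000 in
theorem w105_one : evW sys w105 = 1 :=
  evW_eq_one sys (by decide +kernel) (fun x => lk T11 (lk T8 (lk T5 (lk T6 (lk T7 (lk T4 (lk T9 (lk T10 (lk T0 (lk T1 (x))))))))))) (fun _ => rfl) (by decide +kernel)

end Cfsg.Agent.Lib.Helper63RuR
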