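import Cfsg.Agent.Lib.Helper63TiP2A

set_option autoImplicit false
set_option maxRecDepth 1000000
set_option maxHeartbeats 0

namespace Cfsg.Agent.Lib.Helper63TiP2B

open Cfsg Cfsg.Agent.Lib.Helper63PCDefs Cfsg.Agent.Lib.Helper63PCTabDefs Cfsg.Agent.Lib.Helper63PCCode Cfsg.Agent.Lib.Helper63TiDefs Cfsg.Agent.Lib.Helper63TiM Cfsg.Agent.Lib.Helper63TiP2A

theorem h0 : Coded sys KK N0 := coded_comm gen0 gen1 inv0 inv1 (by decide +kernel)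
theorem h1 : Coded sys KK N1 := coded_comm gen0 gen2 inv0 inv2 (by decide +kernel)
theorem h2 : Coded sys KK N2 := coded_comm gen0 gen3 inv0 inv3 (by decide +kernel)
theorem h3 : Coded sys KK N3 := coded_comm gen0 gen4 inv0 inv4 (by decide +kernel)
theorem h4 : Coded sys KK N4 := coded_comm gen1 gen5 inv1 inv5 (by decide +kernel)
theorem h5 : Coded sys KK N5 := coded_comm gen1 gen6 inv1 inv6 (by decide +kernel)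
theorem h6 : Coded sys KK N6 := coded_comm gen1 gen7 inv1 inv7 (by decide +kernel)
theorem h7 : Coded sys KK N7 := coded_comm gen2 gen5 inv2 inv5 (by decide +kernel)
theorem h8 : Coded sys KK N8 := coded_comm gen2 gen6 inv2 inv6 (by decide +kernel)
theorem h9 : Coded sys KK N9 := coded_comm gen2 gen7 inv2 inv7 (by decide +kernel)
theorem h10 : Coded sys KK N10 := coded_comm gen3 gen7 inv3 inv7 (by decide +kernel)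
theorem h100 : Coded sys KK N100 := Coded.mul_of h3 h6 (by decide +kernel)
theorem h434 : Coded sys KK N434 := Coded.mul_of h9 h0 (by decide +kernel)
theorem h877 : Coded sys KK N877 := Coded.mul_of h4 h6 (by decide +kernel)
theorem h1122 : Coded sys KK N1122 := Coded.mul_of h434 h1 (by decide +kernel)
theorem h1123 : Coded sys KK N1123 := Coded.inv_of h1122 (by decide +kernel)
theorem h1124 : Coded sys KK N1124 := Coded.mul_of h1 h10 (by decide +kernel)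
theorem h1125 : Coded sys KK N1125 := Coded.mul_of h1124 h3 (by decide +kernel)
theorem h1126 : Coded sys KK N1126 := Coded.mul_of h1125 h3 (by decide +kernel)
theorem h1127 : Coded sys KK N1127 := Coded.mul_of h1126 h9 (by decide +kernel)
theorem h1128 : Coded sys KK N1128 := Coded.mul_of h1127 h2 (by decide +kernel)
theorem h1129 : Coded sys KK N1129 := Coded.mul_of h1128 h2 (by decide +kernel)
theorem h1132 : Coded sys KK N1132 := Coded.mul_of h1129 h0 (by decide +kernel)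
theorem h1133 : Coded sys KK N1133 := Coded.mul_of h1132 h8 (by decide +kernel)
theorem h1134 : Coded sys KK N1134 := Coded.mul_of h1133 h8 (by decide +kernel)
theorem h1135 : Coded sys KK N1135 := Coded.mul_of h1134 h0 (by decide +kernel)
theorem h1136 : Coded sys KK N1136 := Coded.mul_of h1135 h6 (by decide +kernel)
theorem h1137 : Coded sys KK N1137 := Coded.mul_of h1136 h7 (by decide +kernel)
theorem h1138 : Coded sys KK N1138 := Coded.mul_of h1137 h4 (by decide +kernel)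
theorem h1139 : Coded sys KK N1139 := Coded.mul_of h1138 h6 (by decide +kernel)
theorem h1140 : Coded sys KK N1140 := Coded.mul_of h1139 h9 (by decide +kernel)
theorem h1141 : Coded sys KK N1141 := Coded.mul_of h1140 h4 (by decide +kernel)
theorem h1142 : Coded sys KK N1142 := Coded.mul_of h1141 h5 (by decide +kernel)
theorem h1143 : Coded sys KK N1143 := Coded.mul_of h1142 h2 (by decide +kernel)
theorem h1144 : Coded sys KK N1144 := Coded.mul_of h1143 h0 (by decide +kernel)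
theorem h1145 : Coded sys KK N1145 := Coded.mul_of h1144 h3 (by decide +kernel)
theorem h1147 : Coded sys KK N1147 := Coded.mul_of h1145 h3 (by decide +kernel)
theorem h1148 : Coded sys KK N1148 := Coded.mul_of h1147 h2 (by decide +kernel)
theorem h1149 : Coded sys KK N1149 := Coded.mul_of h1148 h5 (by decide +kernel)
theorem h1150 : Coded sys KK N1150 := Coded.mul_of h1123 h1149 (by decide +kernel)
theorem h1151 : Coded sys KK N1151 := Coded.mul_of h100 h1 (by decide +kernel)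
theorem h1152 : Coded sys KK N1152 := Coded.mul_of h1151 h2 (by decide +kernel)
theorem h1153 : Coded sys KK N1153 := Coded.inv_of h1152 (by decide +kernel)
theorem h1154 : Coded sys KK N1154 := Coded.mul_of h877 h6 (by decide +kernel)
theorem h1155 : Coded sys KK N1155 := Coded.mul_of h1154 h5 (by decide +kernel)
theorem h1156 : Coded sys KK N1156 := Coded.mul_of h1155 h1 (by decide +kernel)
theorem h1157 : Coded sys KK N1157 := Coded.mul_of h1156 h7 (by decide +kernel)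
theorem h1158 : Coded sys KK N1158 := Coded.mul_of h1157 h3 (by decide +kernel)
theorem h1159 : Coded sys KK N1159 := Coded.mul_of h1158 h7 (by decide +kernel)
theorem h1160 : Coded sys KK N1160 := Coded.mul_of h1159 h5 (by decide +kernel)
theorem h1161 : Coded sys KK N1161 := Coded.mul_of h1160 h9 (by decide +kernel)
theorem h1162 : Coded sys KK N1162 := Coded.mul_of h1161 h7 (by decide +kernel)
theorem h1163 : Coded sys KK N1163 := Coded.mul_of h1162 h6 (by decide +kernel)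
theorem h1164 : Coded sys KK N1164 := Coded.mul_of h1163 h2 (by decide +kernel)
theorem h1165 : Coded sys KK N1165 := Coded.mul_of h1164 h2 (by decide +kernel)
theorem h1166 : Coded sys KK N1166 := Coded.mul_of h1165 h5 (by decide +kernel)
theorem h1167 : Coded sys KK N1167 := Coded.mul_of h1166 h9 (by decide +kernel)
theorem h1168 : Coded sys KK N1168 := Coded.mul_of h1167 h1 (by decide +kernel)
theorem h1169 : Coded sys KK N1169 := Coded.mul_of h1168 h0 (by decide +kernel)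
theorem h1170 : Coded sys KK N1170 := Coded.mul_of h1169 h10 (by decide +kernel)
theorem h1171 : Coded sys KK N1171 := Coded.mul_of h1170 h7 (by decide +kernel)
theorem h1172 : Coded sys KK N1172 := Coded.mul_of h1153 h1171 (by decide +kernel)
theorem h1173 : Coded sys KK N1173 := Coded.mul_of h6 h10 (by decide +kernel)
theorem h1174 : Coded sys KK N1174 := Coded.mul_of h1173 h0 (by decide +kernel)
theorem h1175 : Coded sys KK N1175 := Coded.inv_of h1174 (by decide +kernel)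
theorem h1176 : Coded sys KK N1176 := Coded.mul_of h8 h0 (by decide +kernel)
theorem h1177 : Coded sys KK N1177 := Coded.mul_of h1176 h9 (by decide +kernel)
theorem h1178 : Coded sys KK N1178 := Coded.mul_of h1177 h4 (by decide +kernel)
theorem h1179 : Coded sys KK N1179 := Coded.mul_of h1178 h6 (by decide +kernel)
theorem h1180 : Coded sys KK N1180 := Coded.mul_of h1179 h9 (by decide +kernel)
theorem h1181 : Coded sys KK N1181 := Coded.mul_of h1180 h2 (by decide +kernel)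
theorem h1182 : Coded sys KK N1182 := Coded.mul_of h1181 h8 (by decide +kernel)
theorem h1183 : Coded sys KK N1183 := Coded.mul_of h1182 h10 (by decide +kernel)
theorem h1184 : Coded sys KK N1184 := Coded.mul_of h1183 h5 (by decide +kernel)
theorem h1185 : Coded sys KK N1185 := Coded.mul_of h1184 h10 (by decide +kernel)
theorem h1186 : Coded sys KK N1186 := Coded.mul_of h1185 h10 (by decide +kernel)
theorem h1187 : Coded sys KK N1187 := Coded.mul_of h1186 h2 (by decide +kernel)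
theorem h1188 : Coded sys KK N1188 := Coded.mul_of h1187 h10 (by decide +kernel)
theorem h1189 : Coded sys KK N1189 := Coded.mul_of h1188 h3 (by decide +kernel)
theorem h1190 : Coded sys KK N1190 := Coded.mul_of h1189 h4 (by decide +kernel)
theorem h1193 : Coded sys KK N1193 := Coded.mul_of h1190 h9 (by decide +kernel)
theorem h1194 : Coded sys KK N1194 := Coded.mul_of h1193 h7 (by decide +kernel)
theorem h1195 : Coded sys KK N1195 := Coded.mul_of h1194 h2 (by decide +kernel)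
theorem h1196 : Coded sys KK N1196 := Coded.mul_of h1195 h6 (by decide +kernel)
theorem h1197 : Coded sys KK N1197 := Coded.mul_of h1196 h8 (by decide +kernel)
theorem h1198 : Coded sys KK N1198 := Coded.mul_of h1197 h8 (by decide +kernel)
theorem h1199 : Coded sys KK N1199 := Coded.mul_of h1198 h5 (by decide +kernel)
theorem h1200 : Coded sys KK N1200 := Coded.mul_of h1175 h1199 (by decide +kernel)
theorem h1203 : Coded sys KK N1203 := Coded.mul_of h0 h2 (by decide +kernel)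
theorem h1204 : Coded sys KK N1204 := Coded.mul_of h1203 h8 (by decide +kernel)
theorem h1205 : Coded sys KK N1205 := Coded.mul_of h1204 h6 (by decide +kernel)
theorem h1206 : Coded sys KK N1206 := Coded.mul_of h1205 h5 (by decide +kernel)
theorem h1207 : Coded sys KK N1207 := Coded.mul_of h1206 h10 (by decide +kernel)
theorem h1208 : Coded sys KK N1208 := Coded.mul_of h1207 h3 (by decide +kernel)
theorem h1209 : Coded sys KK N1209 := Coded.mul_of h1208 h9 (by decide +kernel)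
theorem h1210 : Coded sys KK N1210 := Coded.mul_of h1209 h0 (by decide +kernel)
theorem h1211 : Coded sys KK N1211 := Coded.mul_of h1210 h9 (by decide +kernel)
theorem h1212 : Coded sys KK N1212 := Coded.mul_of h1211 h0 (by decide +kernel)
theorem h1213 : Coded sys KK N1213 := Coded.mul_of h1212 h10 (by decide +kernel)
theorem h1214 : Coded sys KK N1214 := Coded.mul_of h1213 h0 (by decide +kernel)
theorem h1215 : Coded sys KK N1215 := Coded.mul_of h1214 h6 (by decide +kernel)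
theorem h1216 : Coded sys KK N1216 := Coded.mul_of h1215 h7 (by decide +kernel)
theorem h1217 : Coded sys KK N1217 := Coded.mul_of h1216 h4 (by decide +kernel)
theorem h1218 : Coded sys KK N1218 := Coded.mul_of h1217 h1 (by decide +kernel)
theorem h1219 : Coded sys KK N1219 := Coded.mul_of h1218 h3 (by decide +kernel)
theorem h1220 : Coded sys KK N1220 := Coded.mul_of h1219 h7 (by decide +kernel)
theorem h1221 : Coded sys KK N1221 := Coded.mul_of h1220 h4 (by decide +kernel)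
theorem h1222 : Coded sys KK N1222 := Coded.mul_of h1221 h7 (by decide +kernel)
theorem h1223 : Coded sys KK N1223 := Coded.mul_of h1222 h7 (by decide +kernel)
theorem h1224 : Coded sys KK N1224 := Coded.mul_of h1223 h0 (by decide +kernel)
theorem h1225 : Coded sys KK N1225 := Coded.mul_of h1224 h6 (by decide +kernel)
theorem h1226 : Coded sys KK N1226 := Coded.mul_of h1225 h4 (by decide +kernel)
theorem h1227 : Coded sys KK N1227 := Coded.mul_of h1226 h3 (by decide +kernel)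
theorem h1228 : Coded sys KK N1228 := Coded.mul_of h1227 h1227 (by decide +kernel)
theorem h1229 : Coded sys KK N1229 := Coded.mul_of h1228 h1228 (by decide +kernel)
theorem h1230 : Coded sys KK N1230 := Coded.mul_of h1229 h1229 (by decide +kernel)
theorem h1231 : Coded sys KK N1231 := Coded.mul_of h1200 h1172 (by decide +kernel)
theorem h1232 : Coded sys KK N1232 := Coded.inv_of h1231 (by decide +kernel)
theorem h1233 : Coded sys KK N1233 := Coded.mul_of h1172 h1200 (by decide +kernel)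
theorem h1234 : Coded sys KK N1234 := Coded.mul_of h1233 h1200 (by decide +kernel)
theorem h1235 : Coded sys KK N1235 := Coded.mul_of h1234 h1200 (by decide +kernel)
theorem h1236 : Coded sys KK N1236 := Coded.mul_of h1235 h1200 (by decide +kernel)
theorem h1237 : Coded sys KK N1237 := Coded.mul_of h1236 h1172 (by decide +kernel)
theorem h1238 : Coded sys KK N1238 := Coded.mul_of h1237 h1200 (by decide +kernel)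
theorem h1239 : Coded sys KK N1239 := Coded.mul_of h1238 h1150 (by decide +kernel)
theorem h1240 : Coded sys KK N1240 := Coded.mul_of h1239 h1150 (by decide +kernel)
theorem h1241 : Coded sys KK N1241 := Coded.mul_of h1240 h1200 (by decide +kernel)
theorem h1242 : Coded sys KK N1242 := Coded.mul_of h1241 h1150 (by decide +kernel)
theorem h1243 : Coded sys KK N1243 := Coded.mul_of h1242 h1150 (by decide +kernel)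
theorem h1244 : Coded sys KK N1244 := Coded.mul_of h1243 h1150 (by decide +kernel)
theorem h1245 : Coded sys KK N1245 := Coded.mul_of h1244 h1200 (by decide +kernel)
theorem h1246 : Coded sys KK N1246 := Coded.mul_of h1245 h1200 (by decide +kernel)
theorem h1247 : Coded sys KK N1247 := Coded.mul_of h1246 h1150 (by decide +kernel)
theorem h1248 : Coded sys KK N1248 := Coded.mul_of h1232 h1247 (by decide +kernel)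
theorem h1249 : Coded sys KK N1249 := Coded.mul_of h1150 h1150 (by decide +kernel)
theorem h1250 : Coded sys KK N1250 := Coded.inv_of h1249 (by decide +kernel)
theorem h1251 : Coded sys KK N1251 := Coded.mul_of h1231 h1200 (by decide +kernel)
theorem h1271 : Coded sys KK N1271 := Coded.mul_of h1247 h1200 (by decide +kernel)
theorem h1272 : Coded sys KK N1272 := Coded.mul_of h1271 h1150 (by decide +kernel)
theorem h1273 : Coded sys KK N1273 := Coded.mul_of h1272 h1200 (by decide +kernel)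
theorem h1274 : Coded sys KK N1274 := Coded.mul_of h1273 h1172 (by decide +kernel)
theorem h1275 : Coded sys KK N1275 := Coded.mul_of h1250 h1274 (by decide +kernel)
theorem h1276 : Coded sys KK N1276 := Coded.inv_of h1150 (by decide +kernel)
theorem h1299 : Coded sys KK N1299 := Coded.mul_of h1172 h1150 (by decide +kernel)
theorem h1300 : Coded sys KK N1300 := Coded.mul_of h1299 h1150 (by decide +kernel)
theorem h1301 : Coded sys KK N1301 := Coded.mul_of h1300 h1172 (by decide +kernel)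
theorem h1302 : Coded sys KK N1302 := Coded.mul_of h1301 h1150 (by decide +kernel)
theorem h1303 : Coded sys KK N1303 := Coded.mul_of h1302 h1172 (by decide +kernel)
theorem h1304 : Coded sys KK N1304 := Coded.mul_of h1303 h1150 (by decide +kernel)
theorem h1305 : Coded sys KK N1305 := Coded.mul_of h1276 h1304 (by decide +kernel)
theorem h1306 : Coded sys KK N1306 := Coded.mul_of h1251 h1150 (by decide +kernel)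
theorem h1307 : Coded sys KK N1307 := Coded.mul_of h1306 h1172 (by decide +kernel)
theorem h1308 : Coded sys KK N1308 := Coded.mul_of h1307 h1150 (by decide +kernel)
theorem h1309 : Coded sys KK N1309 := Coded.mul_of h1308 h1200 (by decide +kernel)
theorem h1310 : Coded sys KK N1310 := Coded.mul_of h1309 h1172 (by decide +kernel)
theorem h1311 : Coded sys KK N1311 := Coded.mul_of h1310 h1172 (by decide +kernel)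
theorem h1312 : Coded sys KK N1312 := Coded.mul_of h1311 h1200 (by decide +kernel)
theorem h1313 : Coded sys KK N1313 := Coded.mul_of h1312 h1150 (by decide +kernel)
theorem h1314 : Coded sys KK N1314 := Coded.mul_of h1313 h1172 (by decide +kernel)
theorem h1315 : Coded sys KK N1315 := Coded.mul_of h1314 h1200 (by decide +kernel)
theorem h1316 : Coded sys KK N1316 := Coded.mul_of h1315 h1200 (by decide +kernel)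
theorem h1317 : Coded sys KK N1317 := Coded.mul_of h1316 h1200 (by decide +kernel)
theorem h1318 : Coded sys KK N1318 := Coded.mul_of h1317 h1200 (by decide +kernel)
theorem h1319 : Coded sys KK N1319 := Coded.mul_of h1318 h1172 (by decide +kernel)
theorem h1320 : Coded sys KK N1320 := Coded.mul_of h1319 h1150 (by decide +kernel)
theorem h1321 : Coded sys KK N1321 := Coded.mul_of h1320 h1172 (by decide +kernel)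
theorem h1322 : Coded sys KK N1322 := Coded.mul_of h1321 h1200 (by decide +kernel)
theorem h1323 : Coded sys KK N1323 := Coded.mul_of h1322 h1200 (by decide +kernel)
theorem h1324 : Coded sys KK N1324 := Coded.mul_of h1323 h1150 (by decide +kernel)
theorem h1325 : Coded sys KK N1325 := Coded.mul_of h1324 h1150 (by decide +kernel)
theorem h1326 : Coded sys KK N1326 := Coded.mul_of h1325 h1200 (by decide +kernel)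
theorem h1327 : Coded sys KK N1327 := Coded.mul_of h1326 h1172 (by decide +kernel)
theorem h1328 : Coded sys KK N1328 := Coded.mul_of h1327 h1172 (by decide +kernel)
theorem h1329 : Coded sys KK N1329 := Coded.mul_of h1328 h1172 (by decide +kernel)
theorem h1330 : Coded sys KK N1330 := Coded.mul_of h1329 h1200 (by decide +kernel)
theorem h1331 : Coded sys KK N1331 := Coded.mul_of h1330 h1150 (by decide +kernel)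
theorem h1332 : Coded sys KK N1332 := Coded.mul_of h1331 h1172 (by decide +kernel)
theorem h1333 : Coded sys KK N1333 := Coded.mul_of h1332 h1332 (by decide +kernel)
theorem h1334 : Coded sys KK N1334 := Coded.mul_of h1333 h1333 (by decide +kernel)
theorem h1335 : Coded sys KK N1335 := Coded.mul_of h1275 h1275 (by decide +kernel)
theorem h1336 : Coded sys KK N1336 := Coded.mul_of h1335 h1305 (by decide +kernel)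
theorem h1337 : Coded sys KK N1337 := Coded.mul_of h1336 h1305 (by decide +kernel)
theorem h1338 : Coded sys KK N1338 := Coded.mul_of h1337 h1248 (by decide +kernel)
theorem h1339 : Coded sys KK N1339 := Coded.mul_of h1338 h1275 (by decide +kernel)
theorem h1340 : Coded sys KK N1340 := Coded.mul_of h1339 h1275 (by decide +kernel)
theorem h1341 : Coded sys KK N1341 := Coded.mul_of h1340 h1248 (by decide +kernel)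
theorem h1342 : Coded sys KK N1342 := Coded.mul_of h1341 h1248 (by decide +kernel)
theorem h1343 : Coded sys KK N1343 := Coded.mul_of h1342 h1275 (by decide +kernel)
theorem h1344 : Coded sys KK N1344 := Coded.mul_of h1343 h1248 (by decide +kernel)
theorem h1345 : Coded sys KK N1345 := Coded.mul_of h1344 h1305 (by decide +kernel)
theorem h1346 : Coded sys KK N1346 := Coded.mul_of h1345 h1305 (by decide +kernel)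
theorem h1347 : Coded sys KK N1347 := Coded.mul_of h1346 h1248 (by decide +kernel)
theorem h1348 : Coded sys KK N1348 := Coded.mul_of h1347 h1248 (by decide +kernel)
theorem h1349 : Coded sys KK N1349 := Coded.mul_of h1348 h1275 (by decide +kernel)
theorem h1350 : Coded sys KK N1350 := Coded.mul_of h1349 h1248 (by decide +kernel)
theorem h1351 : Coded sys KK N1351 := Coded.mul_of h1350 h1248 (by decide +kernel)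
theorem h1352 : Coded sys KK N1352 := Coded.mul_of h1351 h1248 (by decide +kernel)
theorem h1353 : Coded sys KK N1353 := Coded.mul_of h1349 h1305 (by decide +kernel)
theorem h1354 : Coded sys KK N1354 := Coded.mul_of h1353 h1275 (by decide +kernel)
theorem h1355 : Coded sys KK N1355 := Coded.mul_of h1354 h1248 (by decide +kernel)
theorem h1356 : Coded sys KK N1356 := Coded.mul_of h1355 h1355 (by decide +kernel)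
theorem h1357 : Coded sys KK N1357 := Coded.mul_of h1356 h1356 (by decide +kernel)
theorem h1358 : Coded sys KK N1358 := Coded.mul_of h1248 h1248 (by decide +kernel)
theorem h1359 : Coded sys KK N1359 := Coded.mul_of h1358 h1248 (by decide +kernel)
theorem h1360 : Coded sys KK N1360 := Coded.mul_of h1359 h1275 (by decide +kernel)
theorem h1361 : Coded sys KK N1361 := Coded.mul_of h1360 h1305 (by decide +kernel)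
theorem h1362 : Coded sys KK N1362 := Coded.mul_of h1361 h1305 (by decide +kernel)
theorem h1363 : Coded sys KK N1363 := Coded.mul_of h1362 h1275 (by decide +kernel)
theorem h1364 : Coded sys KK N1364 := Coded.mul_of h1363 h1275 (by decide +kernel)
theorem h1365 : Coded sys KK N1365 := Coded.mul_of h1364 h1275 (by decide +kernel)
theorem h1366 : Coded sys KK N1366 := Coded.mul_of h1365 h1275 (by decide +kernel)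
theorem h1367 : Coded sys KK N1367 := Coded.mul_of h1366 h1275 (by decide +kernel)
theorem h1368 : Coded sys KK N1368 := Coded.mul_of h1367 h1248 (by decide +kernel)
theorem h1369 : Coded sys KK N1369 := Coded.mul_of h1368 h1248 (by decide +kernel)
theorem h1370 : Coded sys KK N1370 := Coded.mul_of h1369 h1275 (by decide +kernel)
theorem h1371 : Coded sys KK N1371 := Coded.mul_of h1370 h1305 (by decide +kernel)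
theorem h1372 : Coded sys KK N1372 := Coded.mul_of h1371 h1275 (by decide +kernel)
theorem h1373 : Coded sys KK N1373 := Coded.mul_of h1372 h1248 (by decide +kernel)
theorem h1374 : Coded sys KK N1374 := Coded.mul_of h1373 h1275 (by decide +kernel)
theorem h1375 : Coded sys KK N1375 := Coded.mul_of h1374 h1248 (by decide +kernel)
theorem h1376 : Coded sys KK N1376 := Coded.mul_of h1375 h1305 (by decide +kernel)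
theorem h1377 : Coded sys KK N1377 := Coded.mul_of h1376 h1305 (by decide +kernel)
theorem h1378 : Coded sys KK N1378 := Coded.mul_of h1377 h1305 (by decide +kernel)
theorem h1379 : Coded sys KK N1379 := Coded.mul_of h1378 h1275 (by decide +kernel)
theorem h1380 : Coded sys KK N1380 := Coded.mul_of h1379 h1305 (by decide +kernel)
theorem h1381 : Coded sys KK N1381 := Coded.mul_of h1380 h1275 (by decide +kernel)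
theorem h1382 : Coded sys KK N1382 := Coded.mul_of h1381 h1381 (by decide +kernel)
theorem h1399 : Coded sys KK N1399 := Coded.mul_of h1308 h1275 (by decide +kernel)
theorem h1400 : Coded sys KK N1400 := Coded.mul_of h1399 h1248 (by decide +kernel)
theorem h1401 : Coded sys KK N1401 := Coded.mul_of h1400 h1275 (by decide +kernel)
theorem h1402 : Coded sys KK N1402 := Coded.mul_of h1401 h1248 (by decide +kernel)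
theorem h1403 : Coded sys KK N1403 := Coded.mul_of h1402 h1275 (by decide +kernel)
theorem h1404 : Coded sys KK N1404 := Coded.mul_of h1403 h1403 (by decide +kernel)
theorem h1405 : Coded sys KK N1405 := Coded.mul_of h1404 h1404 (by decide +kernel)
theorem h1409 : Coded sys KK N1409 := Coded.mul_of h1352 h1305 (by decide +kernel)
theorem h1410 : Coded sys KK N1410 := Coded.mul_of h1409 h1248 (by decide +kernel)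
theorem h1411 : Coded sys KK N1411 := Coded.mul_of h1410 h1275 (by decide +kernel)
theorem h1412 : Coded sys KK N1412 := Coded.mul_of h1411 h1305 (by decide +kernel)
theorem h1413 : Coded sys KK N1413 := Coded.mul_of h1412 h1305 (by decide +kernel)
theorem h1414 : Coded sys KK N1414 := Coded.mul_of h1413 h1248 (by decide +kernel)
theorem h1415 : Coded sys KK N1415 := Coded.mul_of h1414 h1305 (by decide +kernel)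
theorem h1416 : Coded sys KK N1416 := Coded.mul_of h1415 h1275 (by decide +kernel)
theorem h1417 : Coded sys KK N1417 := Coded.mul_of h1416 h1275 (by decide +kernel)
theorem h1418 : Coded sys KK N1418 := Coded.mul_of h1417 h1248 (by decide +kernel)
theorem h1419 : Coded sys KK N1419 := Coded.mul_of h1418 h1248 (by decide +kernel)
theorem h1420 : Coded sys KK N1420 := Coded.mul_of h1419 h1305 (by decide +kernel)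
theorem h1421 : Coded sys KK N1421 := Coded.mul_of h1420 h1248 (by decide +kernel)
theorem h1422 : Coded sys KK N1422 := Coded.mul_of h1421 h1275 (by decide +kernel)
theorem h1423 : Coded sys KK N1423 := Coded.mul_of h1422 h1275 (by decide +kernel)
theorem h1424 : Coded sys KK N1424 := Coded.mul_of h1423 h1305 (by decide +kernel)
theorem h1425 : Coded sys KK N1425 := Coded.mul_of h1424 h1275 (by decide +kernel)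
theorem h1426 : Coded sys KK N1426 := Coded.mul_of h1425 h1305 (by decide +kernel)
theorem h1427 : Coded sys KK N1427 := Coded.mul_of h1426 h1305 (by decide +kernel)
theorem h1428 : Coded sys KK N1428 := Coded.mul_of h1427 h1275 (by decide +kernel)
theorem h1429 : Coded sys KK N1429 := Coded.mul_of h1428 h1248 (by decide +kernel)
theorem h1430 : Coded sys KK N1430 := Coded.mul_of h1429 h1275 (by decide +kernel)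
theorem h1431 : Coded sys KK N1431 := Coded.mul_of h1430 h1275 (by decide +kernel)
theorem h1432 : Coded sys KK N1432 := Coded.mul_of h1431 h1275 (by decide +kernel)
theorem h1433 : Coded sys KK N1433 := Coded.mul_of h1432 h1248 (by decide +kernel)
theorem h1434 : Coded sys KK N1434 := Coded.mul_of h1433 h1433 (by decide +kernel)
theorem h1442 : Coded sys KK N1442 := Coded.mul_of h1357 h1305 (by decide +kernel)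
theorem h1443 : Coded sys KK N1443 := Coded.mul_of h1442 h1305 (by decide +kernel)
theorem h1444 : Coded sys KK N1444 := Coded.mul_of h1443 h1248 (by decide +kernel)
theorem h1445 : Coded sys KK N1445 := Coded.mul_of h1444 h1248 (by decide +kernel)
theorem h1446 : Coded sys KK N1446 := Coded.mul_of h1445 h1275 (by decide +kernel)
theorem h1447 : Coded sys KK N1447 := Coded.mul_of h1446 h1305 (by decide +kernel)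
theorem h1448 : Coded sys KK N1448 := Coded.mul_of h1447 h1305 (by decide +kernel)
theorem h1449 : Coded sys KK N1449 := Coded.mul_of h1448 h1305 (by decide +kernel)
theorem h1450 : Coded sys KK N1450 := Coded.mul_of h1449 h1305 (by decide +kernel)
theorem h1451 : Coded sys KK N1451 := Coded.mul_of h1450 h1275 (by decide +kernel)
theorem h1452 : Coded sys KK N1452 := Coded.mul_of h1451 h1275 (by decide +kernel)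
theorem h1453 : Coded sys KK N1453 := Coded.mul_of h1452 h1305 (by decide +kernel)
theorem h1454 : Coded sys KK N1454 := Coded.mul_of h1275 h1305 (by decide +kernel)
theorem h1455 : Coded sys KK N1455 := Coded.mul_of h1454 h1275 (by decide +kernel)
theorem h1456 : Coded sys KK N1456 := Coded.mul_of h1455 h1248 (by decide +kernel)
theorem h1471 : Coded sys KK N1471 := Coded.mul_of h1425 h1248 (by decide +kernel)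
theorem h1472 : Coded sys KK N1472 := Coded.mul_of h1471 h1275 (by decide +kernel)
theorem h1473 : Coded sys KK N1473 := Coded.mul_of h1472 h1472 (by decide +kernel)
theorem h1487 : Coded sys KK N1487 := Coded.mul_of h1413 h1275 (by decide +kernel)
theorem h1488 : Coded sys KK N1488 := Coded.mul_of h1487 h1275 (by decide +kernel)
theorem h1489 : Coded sys KK N1489 := Coded.mul_of h1488 h1275 (by decide +kernel)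
theorem h1490 : Coded sys KK N1490 := Coded.mul_of h1489 h1489 (by decide +kernel)
theorem h1491 : Coded sys KK N1491 := Coded.mul_of h1456 h1305 (by decide +kernel)
theorem h1492 : Coded sys KK N1492 := Coded.mul_of h1491 h1305 (by decide +kernel)
theorem h1493 : Coded sys KK N1493 := Coded.mul_of h1492 h1248 (by decide +kernel)
theorem h1494 : Coded sys KK N1494 := Coded.mul_of h1493 h1248 (by decide +kernel)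
theorem h1495 : Coded sys KK N1495 := Coded.mul_of h1494 h1248 (by decide +kernel)
theorem h1496 : Coded sys KK N1496 := Coded.mul_of h1495 h1275 (by decide +kernel)
theorem h1497 : Coded sys KK N1497 := Coded.mul_of h1496 h1248 (by decide +kernel)
theorem h1498 : Coded sys KK N1498 := Coded.mul_of h1497 h1275 (by decide +kernel)
theorem h1499 : Coded sys KK N1499 := Coded.mul_of h1498 h1275 (by decide +kernel)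
theorem h1500 : Coded sys KK N1500 := Coded.mul_of h1499 h1275 (by decide +kernel)
theorem h1501 : Coded sys KK N1501 := Coded.mul_of h1500 h1248 (by decide +kernel)
theorem h1502 : Coded sys KK N1502 := Coded.mul_of h1501 h1248 (by decide +kernel)
theorem h1503 : Coded sys KK N1503 := Coded.mul_of h1502 h1248 (by decide +kernel)
theorem h1504 : Coded sys KK N1504 := Coded.mul_of h1503 h1275 (by decide +kernel)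
theorem h1505 : Coded sys KK N1505 := Coded.mul_of h1504 h1275 (by decide +kernel)
theorem h1506 : Coded sys KK N1506 := Coded.mul_of h1505 h1305 (by decide +kernel)
theorem h1507 : Coded sys KK N1507 := Coded.mul_of h1506 h1305 (by decide +kernel)
theorem h1508 : Coded sys KK N1508 := Coded.mul_of h1507 h1275 (by decide +kernel)
theorem h1509 : Coded sys KK N1509 := Coded.mul_of h1508 h1248 (by decide +kernel)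
theorem h1510 : Coded sys KK N1510 := Coded.mul_of h1509 h1275 (by decide +kernel)
theorem h1511 : Coded sys KK N1511 := Coded.mul_of h1510 h1305 (by decide +kernel)
theorem h1512 : Coded sys KK N1512 := Coded.mul_of h1511 h1275 (by decide +kernel)
theorem h1513 : Coded sys KK N1513 := Coded.mul_of h1512 h1275 (by decide +kernel)
theorem h1514 : Coded sys KK N1514 := Coded.mul_of h1513 h1275 (by decide +kernel)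
theorem h1515 : Coded sys KK N1515 := Coded.mul_of h1514 h1305 (by decide +kernel)
theorem h1516 : Coded sys KK N1516 := Coded.mul_of h1305 h1305 (by decide +kernel)
theorem h1517 : Coded sys KK N1517 := Coded.mul_of h1516 h1248 (by decide +kernel)
theorem h1518 : Coded sys KK N1518 := Coded.mul_of h1517 h1305 (by decide +kernel)
theorem h1519 : Coded sys KK N1519 := Coded.mul_of h1518 h1275 (by decide +kernel)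
theorem h1520 : Coded sys KK N1520 := Coded.mul_of h1519 h1275 (by decide +kernel)
theorem h1521 : Coded sys KK N1521 := Coded.mul_of h1520 h1248 (by decide +kernel)
theorem h1528 : Coded sys KK N1528 := Coded.mul_of h1521 h1305 (by decide +kernel)
theorem h1529 : Coded sys KK N1529 := Coded.mul_of h1528 h1248 (by decide +kernel)
theorem h1530 : Coded sys KK N1530 := Coded.mul_of h1529 h1248 (by decide +kernel)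
theorem h1531 : Coded sys KK N1531 := Coded.mul_of h1530 h1275 (by decide +kernel)

def C : Cert where
  D := { p := 2, n := 11, pwL := [[2, 4, 6, 8, 9], [4, 5, 6, 8], [6, 7, 9, 10], [], [8, 9, 10], [], [10], [], [], [], []], cmL := [[], [2, 3, 5, 7, 9, 10], [5, 6, 7, 8], [4, 5, 6, 8, 9, 10], [5, 6, 7, 8, 9, 10], [7, 8], [9, 10], [8], [9], [10], [], [], [], [4, 5, 7, 8], [4, 5, 6, 8, 10], [7, 8, 10], [8, 9, 10], [7, 9], [9], [], [10], [], [], [], [], [5, 6, 8, 9], [7, 9, 10], [8, 9, 10], [9, 10], [9, 10], [10], [], [], [], [], [], [], [8, 10], [8, 9], [8, 9], [9, 10], [], [], [], [], [], [], [], [], [], [9], [10], [], [], [], [], [], [], [], [], [], [10], [], [], [], [], [], [], [], [], [], [], [], [], [], [], [], [], [], [], [], [], [], [], [], [], [], [], [], [], [], [], [], [], [], [], [], [], [], [], [], [], [],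 [], [], [], [], [], [], [], [], [], [], [], [], [], [], [], [], [], []] }
  k := 0
  f := 389
  R := 5
  fus := [([[0, 1, 4], [3], [5, 6, 10], [8], [9, 10]], [[1, 2, 4, 8, 9], [1, 3, 4, 6, 7, 8, 9, 10], [1, 3, 4, 6, 8, 9], [1, 3, 4, 6, 7, 8, 9], [5, 8]])]
  specs := [(0, [0], [0, 0]),
    (0, [1], [1, 0]),
    (0, [1], [0, 0]),
    (0, [2], [1, 0]),
    (0, [3], [1, 0]),
    (0, [4], [1, 0]),
    (0, [5], [1, 0]),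
    (0, [6], [1, 0]),
    (0, [7], [1, 0]),
    (0, [8], [1, 0]),
    (0, [9], [1, 0]),
    (0, [10], [1, 0]),
    (0, [2], [2, 0]),
    (0, [2], [0, 0]),
    (0, [3], [2, 0]),
    (0, [4], [2, 0]),
    (0, [5], [2, 0]),
    (0, [6], [2, 0]),
    (0, [7], [2, 0]),
    (0, [8], [2, 0]),
    (0, [9], [2, 0]),
    (0, [10], [2, 0]),
    (0, [3], [3, 0]),
    (0, [3], [0, 0]),
    (0, [4], [3, 0]),
    (0, [5], [3, 0]),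
    (0, [6], [3, 0]),
    (0, [7], [3, 0]),
    (0, [8], [3, 0]),
    (0, [9], [3, 0]),
    (0, [10], [3, 0]),
    (0, [4], [4, 0]),
    (0, [4], [0, 0]),
    (0, [5], [4, 0]),
    (0, [6], [4, 0]),
    (0, [7], [4, 0]),
    (0, [8], [4, 0]),
    (0, [9], [4, 0]),
    (0, [10], [4, 0]),
    (0, [5], [5, 0]),
    (0, [5], [0, 0]),
    (0, [6], [5, 0]),
    (0, [7], [5, 0]),
    (0, [8], [5, 0]),
    (0, [9], [5, 0]),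
    (0, [10], [5, 0]),
    (0, [6], [6, 0]),
    (0, [6], [0, 0]),
    (0, [7], [6, 0]),
    (0, [8], [6, 0]),
    (0, [1], [1, 1]),
    (0, [2], [2, 1]),
    (0, [2], [1, 1]),
    (1, [4, 4], []),
    (1, [3, 3], []),
    (1, [1, 1], []),
    (1, [0, 0, 2, 1], []),
    (1, [1, 0, 4, 1, 0, 2, 1], []),
    (1, [3, 0, 4, 3, 0, 2, 1], [])]
  relV := [[0, 0, 1, 0, 1, 0, 1, 0, 1, 1, 0, 0, 0, 0, 0, 0, 0, 0, 0, 0, 0, 0, 0, 0, 0, 0, 0, 0, 0, 0, 0, 0, 0, 0, 0, 0, 0, 0, 0, 0, 0, 0, 0, 0, 0, 0, 0, 0, 0, 1, 1, 1, 1, 0, 0, 0, 0, 0, 0, 0, 1, 1, 1, 1, 1, 1, 0, 0, 0, 0, 0, 0, 1, 1, 1, 1, 0, 0, 0, 0, 0, 0, 0, 0, 1, 1, 2, 3, 0, 0, 0, 0, 0, 0, 0, 0, 1, 3, 5, 0, 0, 0, 0, 0, 0, 0, 0, 0, 2, 5, 0, 0, 0, 0, 0, 0, 0, 0, 0, 0, 3, 0, 0, 0, 0, 0],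
    [0, (-2), 0, 0, 1, 1, 1, 0, 1, 0, 0, 0, 0, (-1), (-1), 0, (-1), 0, (-1), 0, (-1), (-1), 0, 0, (-1), (-1), (-2), (-1), (-1), (-1), (-2), 0, (-1), 0, 0, 0, (-1), (-1), (-1), (-2), (-2), (-1), (-2), (-3), 0, 0, 0, 0, (-1), (-2), (-2), (-2), (-1), (-1), (-1), 0, 0, 0, 0, 0, (-2), (-2), (-3), (-5), (-5), (-4), 0, 0, 0, 0, 0, 0, (-1), (-2), (-4), (-2), (-2), 0, 0, 0, 0, 0, 0, 0, (-2), (-4), (-3), (-8), 0, 0, 0, 0, 0, 0, 0, 0, (-4), (-6), (-10), 0, 0, 0, 0, 0, 0, 0, 0, 0, (-8), (-11), 0, 0, 0, 0, 0, 0, 0, 0, 0, 0, (-10), 0, 0, 0, 0, 0],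
    [0, 2, 1, 1, 0, 1, 0, 1, 0, 1, 1, 0, 0, 1, 0, 1, 0, 1, 0, 1, 1, 0, 0, 0, 1, 1, 0, 1, 1, 2, 0, 2, 1, 0, 0, 0, 1, 0, 1, 0, 0, 1, 2, 0, 0, 0, 0, 0, 1, 1, 0, 1, 1, 1, 0, 0, 0, 0, 0, 0, 3, 3, 2, 3, 4, 3, 0, 0, 0, 0, 0, 0, 2, 2, 3, 3, 3, 0, 0, 0, 0, 0, 0, 0, 4, 6, 6, 7, 0, 0, 0, 0, 0, 0, 0, 0, 5, 6, 5, 0, 0, 0, 0, 0, 0, 0, 0, 0, 6, 7, 0, 0, 0, 0, 0, 0, 0, 0, 0, 0, 9, 0, 0, 0, 0, 0],
    [0, 0, 0, 0, 1, 1, 0, 1, 1, 0, 0, 0, 0, 0, 0, 0, (-1), (-1), (-1), (-1), 0, 0, 0, 0, 0, 1, (-1), 1, (-1), 0, (-1), 0, 0, 0, 0, 0, 0, (-1), 0, 1, 0, (-1), 1, 1, 0, 0, 0, 0, 0, 1, 0, 0, 0, 0, 0, 0, 0, 0, 0, 0, 1, 2, 1, 2, 2, 2, 0, 0, 0, 0, 0, 0, 1, 1, 2, 0, 1, 0, 0, 0, 0, 0, 0, 0, 0, 3, 3, 4, 0, 0, 0, 0, 0, 0, 0, 0, 2, 2, 5, 0, 0, 0, 0, 0, 0, 0, 0, 0, 0, (-1), 0, 0, 0, 0, 0, 0, 0, 0, 0, 0, 0, 0, 0, 0, 0, 0],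
    [0, 0, 0, 0, 1, 1, 1, 0, 1, 0, 1, 0, 0, 0, 0, (-1), (-1), (-1), 0, (-1), (-1), (-1), 0, 0, 0, (-1), 0, 0, 0, 0, (-1), (-1), 0, 0, 0, 0, 0, 0, 0, (-1), 1, 0, 1, 0, 0, 0, 0, 0, 0, 0, 0, 2, 0, 1, (-1), 0, 0, 0, 0, 0, 0, (-1), 1, 0, 1, (-1), 0, 0, 0, 0, 0, 0, 0, 2, 2, 0, 2, 0, 0, 0, 0, 0, 0, 0, 0, 3, 1, 2, 0, 0, 0, 0, 0, 0, 0, 0, (-1), 0, 3, 0, 0, 0, 0, 0, 0, 0, 0, 0, 0, 2, 0, 0, 0, 0, 0, 0, 0, 0, 0, 0, 0, 0, 0, 0, 0, 0],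
    [0, 0, 0, 0, 0, 0, 0, 1, 1, 0, 1, 0, 0, 0, 0, 0, (-1), (-1), (-1), (-1), (-1), (-1), 0, 0, 0, 0, (-1), (-1), (-1), (-1), (-1), 0, 0, 0, 0, 0, 0, (-1), (-1), (-1), 0, 0, 0, (-1), 0, 0, 0, 0, 0, 1, 0, 1, 0, 1, 1, 0, 0, 0, 0, 0, 0, (-1), (-1), (-3), 0, (-3), 0, 0, 0, 0, 0, 0, 0, (-1), (-1), (-1), (-1), 0, 0, 0, 0, 0, 0, 0, (-1), (-1), (-1), (-1), 0, 0, 0, 0, 0, 0, 0, 0, (-2), (-2), (-3), 0, 0, 0, 0, 0, 0, 0, 0, 0, (-4), (-4), 0, 0, 0, 0, 0, 0, 0, 0, 0, 0, (-4), 0, 0, 0, 0, 0],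
    [0, 0, 0, 0, 0, 0, 0, 0, 1, 1, 1, 0, 0, 0, 0, 0, 0, 0, (-1), (-1), 0, 0, 0, 0, 0, 0, 0, (-1), 0, (-1), 0, 0, (-1), 0, 0, 0, 0, 0, (-1), 0, (-1), (-1), 0, (-1), 0, 0, 0, 0, 0, 0, 0, 0, 0, 0, 0, 0, 0, 0, 0, 0, 0, 0, 0, 0, 1, 1, 0, 0, 0, 0, 0, 0, 0, 0, 0, 0, 0, 0, 0, 0, 0, 0, 0, 0, 0, (-3), (-2), (-1), 0, 0, 0, 0, 0, 0, 0, 0, (-1), 2, 0, 0, 0, 0, 0, 0, 0, 0, 0, 0, (-2), 0, 0, 0, 0, 0, 0, 0, 0, 0, 0, 0, (-1), 0, 0, 0, 0, 0],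
    [0, 0, 0, 0, 0, 0, 0, 1, 0, 1, 0, 0, 0, 0, 0, 0, 0, 0, 0, 0, (-1), (-1), 0, 0, 0, 0, 0, 0, (-1), (-1), 0, 0, 0, 0, 0, 0, 0, 0, 0, (-1), (-1), 0, 0, 0, 0, 0, 0, 0, 0, 0, 0, 0, 0, 0, 0, 0, 0, 0, 0, 0, 0, (-1), (-1), (-1), 0, (-1), 0, 0, 0, 0, 0, 0, 0, 1, 0, 1, 1, 0, 0, 0, 0, 0, 0, 0, 0, (-2), (-2), (-2), 0, 0, 0, 0, 0, 0, 0, 0, 0, 0, (-1), 0, 0, 0, 0, 0, 0, 0, 0, 0, (-2), 0, 0, 0, 0, 0, 0, 0, 0, 0, 0, 0, (-2), 0, 0, 0, 0, 0],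
    [0, 0, 0, 0, 0, 0, 0, 0, 0, 1, 0, 0, 0, 0, 0, 0, 0, 0, 0, (-1), 0, 0, 0, 0, 0, 0, 0, 0, 0, (-1), (-1), (-1), 0, 0, 0, 0, 0, 0, 0, 0, (-1), (-1), 0, 0, 0, 0, 0, 0, 0, 0, 0, 0, 0, 0, 0, 0, 0, 0, 0, 0, 0, 0, (-1), (-1), (-1), (-1), 0, 0, 0, 0, 0, 0, 0, 0, 0, 0, 0, 0, 0, 0, 0, 0, 0, 0, 0, (-1), 0, 0, 0, 0, 0, 0, 0, 0, 0, 0, 0, (-2), (-1), 0, 0, 0, 0, 0, 0, 0, 0, 0, (-1), 0, 0, 0, 0, 0, 0, 0, 0, 0, 0, 0, (-1), 0, 0, 0, 0, 0],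
    [0, 0, 0, 0, 0, 0, 0, 0, 0, 0, 0, 0, 0, 0, 0, 0, 0, 0, 0, 0, (-1), 0, 0, 0, 0, 0, 0, 0, 0, 0, (-1), (-1), (-1), 0, 0, 0, 0, 0, 0, 0, 0, (-1), (-1), 0, 0, 0, 0, 0, 0, 0, 0, 0, 0, 0, 0, 0, 0, 0, 0, 0, 0, 0, 0, (-1), (-1), 0, 0, 0, 0, 0, 0, 0, 0, 0, 0, 0, 0, 0, 0, 0, 0, 0, 0, 0, 0, (-1), (-1), 0, 0, 0, 0, 0, 0, 0, 0, 0, 0, 1, 1, 0, 0, 0, 0, 0, 0, 0, 0, 0, 0, 0, 0, 0, 0, 0, 0, 0, 0, 0, 0, 0, (-1), 0, 0, 0, 0, 0],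
    [0, 0, 0, 0, 0, 0, 0, 0, 0, 0, 1, 0, 0, 0, 0, 0, 0, 0, 0, 0, 0, (-1), 0, 0, 0, 0, 0, 0, 0, 0, 0, (-1), 0, 0, 0, 0, 0, 0, 0, 0, 0, 0, (-1), 0, 0, 0, 0, 0, 0, 0, 0, 0, 0, 0, 0, 0, 0, 0, 0, 0, 0, 0, 0, 0, (-1), 0, 0, 0, 0, 0, 0, 0, 0, 0, 0, 0, 0, 0, 0, 0, 0, 0, 0, 0, 0, 0, (-1), 0, 0, 0, 0, 0, 0, 0, 0, 0, 0, 0, 0, 0, 0, 0, 0, 0, 0, 0, 0, 0, 0, 1, 0, 0, 0, 0, 0, 0, 0, 0, 0, 0, 0, 0, 0, 0, 0, 0],
    [0, 0, 0, 0, 0, 0, 0, 0, 0, 0, 0, 0, 0, 0, 0, 0, 0, 0, 0, 0, 0, 0, 0, 0, 0, 0, 0, 0, 0, 0, 0, 0, (-1), 0, 0, 0, 0, 0, 0, 0, 0, 0, 0, (-1), 0, 0, 0, 0, 0, 0, 0, 0, 0, 0, 0, 0, 0, 0, 0, 0, 0, 0, 0, 0, 0, (-1), 0, 0, 0, 0, 0, 0, 0, 0, 0, 0, 0, 0, 0, 0, 0, 0, 0, 0, 0, 0, 0, (-1), 0, 0, 0, 0, 0, 0, 0, 0, 0, 0, 0, 0, 0, 0, 0, 0, 0, 0, 0, 0, 0, (-1), 0, 0, 0, 0, 0, 0, 0, 0, 0, 0, 0, 0, 0, 0, 0, 0],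
    [0, 0, (-2), 0, 0, 0, 1, 1, 0, 1, 1, 0, 0, 0, 0, 0, 0, 0, 0, 0, 0, 0, 0, 0, 0, 0, 0, (-1), (-1), (-1), (-1), 0, 0, 0, 0, 0, 0, 0, 0, 0, 0, 0, 0, 0, 0, 0, 0, 0, 0, 0, 0, 0, 0, 0, 0, 0, 0, 0, 0, 0, (-1), (-1), (-1), 0, (-1), (-2), 0, 0, 0, 0, 0, 0, (-1), (-1), (-1), 0, (-2), 0, 0, 0, 0, 0, 0, 0, (-1), (-1), 0, (-3), 0, 0, 0, 0, 0, 0, 0, 0, (-1), 0, (-1), 0, 0, 0, 0, 0, 0, 0, 0, 0, (-1), (-1), 0, 0, 0, 0, 0, 0, 0, 0, 0, 0, (-2), 0, 0, 0, 0, 0],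
    [0, 0, 2, 0, 0, 1, 1, 1, 1, 0, 0, 0, 0, 0, 0, 0, 0, 0, 0, 0, 0, 0, 0, 0, 0, 0, 1, 0, 1, 0, 1, 1, 0, 0, 0, 0, 0, 0, 0, 0, 0, 0, 0, 0, 0, 0, 0, 0, 0, 0, 0, 0, 0, 0, 0, 0, 0, 0, 0, 0, 1, 1, 1, 1, 2, 0, 0, 0, 0, 0, 0, 0, 1, (-1), 2, 3, 2, 0, 0, 0, 0, 0, 0, 0, 2, 2, 2, 2, 0, 0, 0, 0, 0, 0, 0, 0, 2, 2, 4, 0, 0, 0, 0, 0, 0, 0, 0, 0, 2, 3, 0, 0, 0, 0, 0, 0, 0, 0, 0, 0, 3, 0, 0, 0, 0, 0],
    [0, 0, 0, 0, 0, 1, 1, 0, 1, 1, 0, 0, 0, 0, 0, 0, 0, 0, 0, 0, 0, 0, 0, 0, 0, 0, (-1), (-1), (-1), 0, (-1), (-1), (-1), 0, 0, 0, 0, 0, 1, 1, 1, 1, 0, 0, 0, 0, 0, 0, 0, 0, 0, 1, 0, 0, 1, 0, 0, 0, 0, 0, 0, 0, 0, (-1), 0, (-1), 0, 0, 0, 0, 0, 0, 0, (-1), 2, 2, 0, 0, 0, 0, 0, 0, 0, 0, 0, (-2), 2, 0, 0, 0, 0, 0, 0, 0, 0, 0, 1, 1, 2, 0, 0, 0, 0, 0, 0, 0, 0, 0, 1, 1, 0, 0, 0, 0, 0, 0, 0, 0, 0, 0, 0, 0, 0, 0, 0, 0],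
    [0, 0, 0, 0, 0, 0, 0, 1, 0, 1, 1, 0, 0, 0, 0, 0, 0, 0, 0, 0, 0, 0, 0, 0, 0, 0, 0, (-1), (-1), (-1), (-1), (-1), (-1), 0, 0, 0, 0, 0, 0, 0, 0, 0, 0, 0, 0, 0, 0, 0, 0, 1, 1, 1, 1, 0, 0, 0, 0, 0, 0, 0, 0, 0, 0, 1, (-1), 0, 0, 0, 0, 0, 0, 0, 0, 0, 0, 0, (-1), 0, 0, 0, 0, 0, 0, 0, 0, 0, 0, 2, 0, 0, 0, 0, 0, 0, 0, 0, 0, 0, 3, 0, 0, 0, 0, 0, 0, 0, 0, 0, (-1), (-2), 0, 0, 0, 0, 0, 0, 0, 0, 0, 0, (-1), 0, 0, 0, 0, 0],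
    [0, 0, 0, 0, 0, 0, 0, 0, 1, 1, 1, 0, 0, 0, 0, 0, 0, 0, 0, 0, 0, 0, 0, 0, 0, 0, 0, 0, 0, (-1), (-1), 0, 0, 0, 0, 0, 0, 0, 0, 0, 0, 0, 0, 0, 0, 0, 0, 0, 0, 0, 0, 0, 0, 0, 0, 0, 0, 0, 0, 0, 0, 1, 0, 1, 0, (-1), 0, 0, 0, 0, 0, 0, 0, (-1), 0, 0, (-1), 0, 0, 0, 0, 0, 0, 0, 0, 0, (-1), 0, 0, 0, 0, 0, 0, 0, 0, 0, 0, 0, 2, 0, 0, 0, 0, 0, 0, 0, 0, 0, 0, 1, 0, 0, 0, 0, 0, 0, 0, 0, 0, 0, 0, 0, 0, 0, 0, 0],
    [0, 0, 0, 0, 0, 0, 0, 0, 0, 1, 1, 0, 0, 0, 0, 0, 0, 0, 0, 0, 0, 0, 0, 0, 0, 0, 0, 0, 0, 0, 0, (-1), (-1), 0, 0, 0, 0, 0, 0, 0, 0, 0, 0, 0, 0, 0, 0, 0, 0, 0, 0, 0, 0, 0, 0, 0, 0, 0, 0, 0, 0, (-1), 0, 0, 0, 0, 0, 0, 0, 0, 0, 0, 0, 1, 1, 0, (-1), 0, 0, 0, 0, 0, 0, 0, 0, 0, 0, 1, 0, 0, 0, 0, 0, 0, 0, 0, 0, 0, 1, 0, 0, 0, 0, 0, 0, 0, 0, 0, 0, 0, 0, 0, 0, 0, 0, 0, 0, 0, 0, 0, 0, 0, 0, 0, 0, 0],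
    [0, 0, 0, 0, 0, 0, 0, 0, 0, 1, 1, 0, 0, 0, 0, 0, 0, 0, 0, 0, 0, 0, 0, 0, 0, 0, 0, 0, 0, 0, (-1), 0, 0, 0, 0, 0, 0, 0, 0, 0, 0, 0, 0, 0, 0, 0, 0, 0, 0, 0, 0, 0, 0, 0, 0, 0, 0, 0, 0, 0, 0, 0, (-1), (-1), (-1), 0, 0, 0, 0, 0, 0, 0, 0, (-1), (-1), (-1), 0, 0, 0, 0, 0, 0, 0, 0, 0, 0, (-1), 0, 0, 0, 0, 0, 0, 0, 0, 0, 0, (-2), (-1), 0, 0, 0, 0, 0, 0, 0, 0, 0, 0, 0, 0, 0, 0, 0, 0, 0, 0, 0, 0, 0, 0, 0, 0, 0, 0, 0],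
    [0, 0, 0, 0, 0, 0, 0, 0, 0, 0, 1, 0, 0, 0, 0, 0, 0, 0, 0, 0, 0, 0, 0, 0, 0, 0, 0, 0, 0, 0, 0, (-1), 0, 0, 0, 0, 0, 0, 0, 0, 0, 0, 0, 0, 0, 0, 0, 0, 0, 0, 0, 0, 0, 0, 0, 0, 0, 0, 0, 0, 0, 0, 0, (-1), (-1), (-1), 0, 0, 0, 0, 0, 0, 0, 0, (-1), (-1), (-1), 0, 0, 0, 0, 0, 0, 0, 0, (-1), (-1), (-1), 0, 0, 0, 0, 0, 0, 0, 0, 0, (-1), (-1), 0, 0, 0, 0, 0, 0, 0, 0, 0, 0, (-1), 0, 0, 0, 0, 0, 0, 0, 0, 0, 0, 0, 0, 0, 0, 0, 0],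
    [0, 0, 0, 0, 0, 0, 0, 0, 0, 0, 0, 0, 0, 0, 0, 0, 0, 0, 0, 0, 0, 0, 0, 0, 0, 0, 0, 0, 0, 0, 0, 0, (-1), 0, 0, 0, 0, 0, 0, 0, 0, 0, 0, 0, 0, 0, 0, 0, 0, 0, 0, 0, 0, 0, 0, 0, 0, 0, 0, 0, 0, 0, 0, 0, (-1), (-1), 0, 0, 0, 0, 0, 0, 0, 0, 0, (-1), (-1), 0, 0, 0, 0, 0, 0, 0, 0, 0, (-1), (-1), 0, 0, 0, 0, 0, 0, 0, 0, 0, (-1), (-1), 0, 0, 0, 0, 0, 0, 0, 0, 0, 0, 0, 0, 0, 0, 0, 0, 0, 0, 0, 0, 0, 0, 0, 0, 0, 0, 0],
    [0, 0, 0, 0, 0, 0, 0, 0, 0, 0, 0, 0, 0, 0, 0, 0, 0, 0, 0, 0, 0, 0, 0, 0, 0, 0, 0, 0, 0, 0, 0, 0, 0, 0, 0, 0, 0, 0, 0, 0, 0, 0, 0, 0, 0, 0, 0, 0, 0, 0, 0, 0, 0, 0, 0, 0, 0, 0, 0, 0, 0, 0, 0, 0, 0, (-1), 0, 0, 0, 0, 0, 0, 0, 0, 0, 0, (-1), 0, 0, 0, 0, 0, 0, 0, 0, 0, 0, (-1), 0, 0, 0, 0, 0, 0, 0, 0, 0, 0, (-1), 0, 0, 0, 0, 0, 0, 0, 0, 0, 0, 0, 0, 0, 0, 0, 0, 0, 0, 0, 0, 0, 0, 0, 0, 0, 0, 0],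
    [0, 0, 0, (-2), 0, 0, 0, 0, 0, 0, 0, 0, 0, 0, 0, 0, 0, 0, 0, 0, 0, 0, 0, 0, 0, 0, 0, 0, 0, 0, 0, 0, 0, 0, 0, 0, 0, (-1), (-1), (-1), 0, (-1), (-1), (-1), 0, 0, 0, 0, (-1), (-1), (-1), 0, 0, (-1), 0, 0, 0, 0, 0, 0, (-1), (-1), 0, (-3), (-2), (-3), 0, 0, 0, 0, 0, 0, (-1), 0, (-2), (-3), (-2), 0, 0, 0, 0, 0, 0, 0, 0, 0, 0, 0, 0, 0, 0, 0, 0, 0, 0, 0, (-3), (-2), (-6), 0, 0, 0, 0, 0, 0, 0, 0, 0, (-3), (-8), 0, 0, 0, 0, 0, 0, 0, 0, 0, 0, (-3), 0, 0, 0, 0, 0],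
    [0, 0, 0, 2, 1, 1, 1, 0, 1, 1, 1, 0, 0, 0, 0, 0, 0, 0, 0, 0, 0, 0, 0, 0, 0, (-1), 0, 0, 0, 0, 0, 0, 0, 0, 0, 0, 0, 1, 0, 1, 0, 1, 1, 0, 0, 0, 0, 0, 1, 0, 0, 0, 1, 0, 2, 0, 0, 0, 0, 0, 1, 2, 1, 1, 1, 1, 0, 0, 0, 0, 0, 0, 1, 0, 3, 2, 5, 0, 0, 0, 0, 0, 0, 0, 1, 1, 1, 3, 0, 0, 0, 0, 0, 0, 0, 0, 3, 2, 5, 0, 0, 0, 0, 0, 0, 0, 0, 0, 3, 5, 0, 0, 0, 0, 0, 0, 0, 0, 0, 0, 5, 0, 0, 0, 0, 0],
    [0, 0, 0, 0, 0, 0, 0, 0, 1, 0, 1, 0, 0, 0, 0, 0, 0, 0, 0, 0, 0, 0, 0, 0, 0, 0, 0, 0, 0, 0, 0, 0, 0, 0, 0, 0, 0, 0, (-1), (-1), (-1), (-1), (-1), (-1), 0, 0, 0, 0, 0, 0, 0, (-1), 1, 1, 0, 0, 0, 0, 0, 0, 0, 0, (-1), (-2), 1, (-2), 0, 0, 0, 0, 0, 0, 0, (-1), (-1), 0, 0, 0, 0, 0, 0, 0, 0, 0, 0, (-2), 1, (-4), 0, 0, 0, 0, 0, 0, 0, 0, (-1), (-1), (-3), 0, 0, 0, 0, 0, 0, 0, 0, 0, (-1), 0, 0, 0, 0, 0, 0, 0, 0, 0, 0, 0, (-1), 0, 0, 0, 0, 0],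
    [0, 0, 0, 0, 0, 0, 0, 0, 1, 1, 0, 0, 0, 0, 0, 0, 0, 0, 0, 0, 0, 0, 0, 0, 0, 0, 0, 0, 0, 0, 0, 0, 0, 0, 0, 0, 0, 0, 0, 0, (-1), (-1), 0, 0, 0, 0, 0, 0, 0, (-1), 0, (-1), 0, 0, (-1), 0, 0, 0, 0, 0, 0, 1, (-1), 1, 1, 1, 0, 0, 0, 0, 0, 0, 0, (-1), 0, 0, 0, 0, 0, 0, 0, 0, 0, 0, 0, 0, 0, 0, 0, 0, 0, 0, 0, 0, 0, 0, 0, 2, 0, 0, 0, 0, 0, 0, 0, 0, 0, 0, 0, 1, 0, 0, 0, 0, 0, 0, 0, 0, 0, 0, 0, 0, 0, 0, 0, 0],
    [0, 0, 0, 0, 0, 0, 0, 0, 1, 1, 0, 0, 0, 0, 0, 0, 0, 0, 0, 0, 0, 0, 0, 0, 0, 0, 0, 0, 0, 0, 0, 0, 0, 0, 0, 0, 0, 0, 0, 0, 0, 0, (-1), (-1), 0, 0, 0, 0, 0, 0, (-1), 0, (-1), 0, (-1), 0, 0, 0, 0, 0, 0, (-1), 0, (-1), (-1), (-1), 0, 0, 0, 0, 0, 0, 0, 0, 0, 0, 1, 0, 0, 0, 0, 0, 0, 0, 0, 0, 0, 0, 0, 0, 0, 0, 0, 0, 0, 0, 0, (-2), (-1), 0, 0, 0, 0, 0, 0, 0, 0, 0, 0, 0, 0, 0, 0, 0, 0, 0, 0, 0, 0, 0, 0, 0, 0, 0, 0, 0],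
    [0, 0, 0, 0, 0, 0, 0, 0, 0, 1, 1, 0, 0, 0, 0, 0, 0, 0, 0, 0, 0, 0, 0, 0, 0, 0, 0, 0, 0, 0, 0, 0, 0, 0, 0, 0, 0, 0, 0, 0, 0, (-1), 0, 0, 0, 0, 0, 0, 0, 0, 0, (-1), (-1), (-1), (-1), 0, 0, 0, 0, 0, 0, 0, (-1), (-1), (-1), 0, 0, 0, 0, 0, 0, 0, 0, (-1), (-1), (-1), 0, 0, 0, 0, 0, 0, 0, 0, 0, 1, 1, 1, 0, 0, 0, 0, 0, 0, 0, 0, 0, (-1), (-1), 0, 0, 0, 0, 0, 0, 0, 0, 0, 0, 0, 0, 0, 0, 0, 0, 0, 0, 0, 0, 0, 0, 0, 0, 0, 0, 0],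
    [0, 0, 0, 0, 0, 0, 0, 0, 0, 0, 0, 0, 0, 0, 0, 0, 0, 0, 0, 0, 0, 0, 0, 0, 0, 0, 0, 0, 0, 0, 0, 0, 0, 0, 0, 0, 0, 0, 0, 0, 0, 0, (-1), 0, 0, 0, 0, 0, 0, 0, 0, 0, (-1), (-1), 0, 0, 0, 0, 0, 0, 0, 0, 0, (-1), (-1), 0, 0, 0, 0, 0, 0, 0, 0, 0, (-1), (-1), 0, 0, 0, 0, 0, 0, 0, 0, 0, 0, 0, 0, 0, 0, 0, 0, 0, 0, 0, 0, 0, 0, 1, 0, 0, 0, 0, 0, 0, 0, 0, 0, 0, 1, 0, 0, 0, 0, 0, 0, 0, 0, 0, 0, 0, 0, 0, 0, 0, 0],
    [0, 0, 0, 0, 0, 0, 0, 0, 0, 0, 0, 0, 0, 0, 0, 0, 0, 0, 0, 0, 0, 0, 0, 0, 0, 0, 0, 0, 0, 0, 0, 0, 0, 0, 0, 0, 0, 0, 0, 0, 0, 0, 0, (-1), 0, 0, 0, 0, 0, 0, 0, 0, 0, (-1), (-1), 0, 0, 0, 0, 0, 0, 0, 0, 0, (-1), (-1), 0, 0, 0, 0, 0, 0, 0, 0, 0, (-1), (-1), 0, 0, 0, 0, 0, 0, 0, 0, 0, 0, 0, 0, 0, 0, 0, 0, 0, 0, 0, 0, (-1), (-1), 0, 0, 0, 0, 0, 0, 0, 0, 0, 0, 0, 0, 0, 0, 0, 0, 0, 0, 0, 0, 0, 0, 0, 0, 0, 0, 0],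
    [0, 0, 0, 0, 0, 0, 0, 0, 0, 0, 0, 0, 0, 0, 0, 0, 0, 0, 0, 0, 0, 0, 0, 0, 0, 0, 0, 0, 0, 0, 0, 0, 0, 0, 0, 0, 0, 0, 0, 0, 0, 0, 0, 0, 0, 0, 0, 0, 0, 0, 0, 0, 0, 0, (-1), 0, 0, 0, 0, 0, 0, 0, 0, 0, 0, (-1), 0, 0, 0, 0, 0, 0, 0, 0, 0, 0, (-1), 0, 0, 0, 0, 0, 0, 0, 0, 0, 0, 0, 0, 0, 0, 0, 0, 0, 0, 0, 0, 0, (-1), 0, 0, 0, 0, 0, 0, 0, 0, 0, 0, (-1), 0, 0, 0, 0, 0, 0, 0, 0, 0, 0, 0, 0, 0, 0, 0, 0],
    [0, 0, 0, 0, (-2), 0, 0, 0, 1, 1, 1, 0, 0, 0, 0, 0, 0, 0, 0, 0, 0, 0, 0, 0, 0, 0, 0, 0, 0, 0, 0, 0, 0, 0, 0, 0, 0, 0, 0, 0, 0, 0, 0, 0, 0, 0, 0, 0, 0, (-1), (-1), (-1), (-1), (-1), (-1), 0, 0, 0, 0, 0, (-1), (-1), (-1), (-1), (-2), (-2), 0, 0, 0, 0, 0, 0, (-1), (-1), (-1), (-2), (-1), 0, 0, 0, 0, 0, 0, 0, (-1), (-1), (-1), (-4), 0, 0, 0, 0, 0, 0, 0, 0, (-1), (-1), (-1), 0, 0, 0, 0, 0, 0, 0, 0, 0, (-1), (-4), 0, 0, 0, 0,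 0, 0, 0, 0, 0, 0, (-2), 0, 0, 0, 0, 0],
    [0, 0, 0, 0, 2, 1, 1, 1, 1, 1, 1, 0, 0, 0, 0, 0, 0, 0, 0, 0, 0, 0, 0, 0, 0, 0, (-1), 0, 0, 0, 0, 0, 0, 0, 0, 0, 0, 0, 0, 0, 0, 0, 0, 0, 0, 0, 0, 0, 0, 0, 1, (-1), 1, 0, (-1), 0, 0, 0, 0, 0, 1, 1, 1, 1, 1, 1, 0, 0, 0, 0, 0, 0, 1, (-1), 0, 2, 0, 0, 0, 0, 0, 0, 0, 0, 1, 0, 1, 1, 0, 0, 0, 0, 0, 0, 0, 0, 2, 3, 3, 0, 0, 0, 0, 0, 0, 0, 0, 0, 2, 6, 0, 0, 0, 0, 0, 0, 0, 0, 0, 0, 2, 0, 0, 0, 0, 0],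
    [0, 0, 0, 0, 0, 0, 0, 0, 0, 0, 0, 0, 0, 0, 0, 0, 0, 0, 0, 0, 0, 0, 0, 0, 0, 0, 0, 0, 0, 0, 0, 0, 0, 0, 0, 0, 0, 0, 0, 0, 0, 0, 0, 0, 0, 0, 0, 0, 0, 0, 0, (-1), (-1), 0, 0, 0, 0, 0, 0, 0, 0, 1, 0, 0, 1, 0, 0, 0, 0, 0, 0, 0, 0, (-1), (-1), 0, (-1), 0, 0, 0, 0, 0, 0, 0, 0, 0, 1, 0, 0, 0, 0, 0, 0, 0, 0, 0, 0, 1, (-1), 0, 0, 0, 0, 0, 0, 0, 0, 0, 0, 0, 0, 0, 0, 0, 0, 0, 0, 0, 0, 0, 0, 0, 0, 0, 0, 0],
    [0, 0, 0, 0, 0, 0, 0, 0, 0, 1, 0, 0, 0, 0, 0, 0, 0, 0, 0, 0, 0, 0, 0, 0, 0, 0, 0, 0, 0, 0, 0, 0, 0, 0, 0, 0, 0, 0, 0, 0, 0, 0, 0, 0, 0, 0, 0, 0, 0, 0, 0, 0, 0, (-1), (-1), 0, 0, 0, 0, 0, 0, (-1), 0, 0, 0, (-1), 0, 0, 0, 0, 0, 0, 0, 1, 1, 1, 1, 0, 0, 0, 0, 0, 0, 0, 0, 0, 0, 0, 0, 0, 0, 0, 0, 0, 0, 0, 0, 0, 0, 0, 0, 0, 0, 0, 0, 0, 0, 0, 0, 1, 0, 0, 0, 0, 0, 0, 0, 0, 0, 0, 0, 0, 0, 0, 0, 0],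
    [0, 0, 0, 0, 0, 0, 0, 0, 0, 0, 1, 0, 0, 0, 0, 0, 0, 0, 0, 0, 0, 0, 0, 0, 0, 0, 0, 0, 0, 0, 0, 0, 0, 0, 0, 0, 0, 0, 0, 0, 0, 0, 0, 0, 0, 0, 0, 0, 0, 0, 0, 0, (-1), 0, 0, 0, 0, 0, 0, 0, 0, 0, (-1), (-1), 0, (-1), 0, 0, 0, 0, 0, 0, 0, (-1), (-1), 0, (-1), 0, 0, 0, 0, 0, 0, 0, 0, 0, 1, 0, 0, 0, 0, 0, 0, 0, 0, 0, 0, 1, (-1), 0, 0, 0, 0, 0, 0, 0, 0, 0, 0, (-1), 0, 0, 0, 0, 0, 0, 0, 0, 0, 0, 0, 0, 0, 0, 0, 0],
    [0, 0, 0, 0, 0, 0, 0, 0, 0, 0, 0, 0, 0, 0, 0, 0, 0, 0, 0, 0, 0, 0, 0, 0, 0, 0, 0, 0, 0, 0, 0, 0, 0, 0, 0, 0, 0, 0, 0, 0, 0, 0, 0, 0, 0, 0, 0, 0, 0, 0, 0, 0, 0, (-1), 0, 0, 0, 0, 0, 0, 0, 0, 0, (-1), (-1), 0, 0, 0, 0, 0, 0, 0, 0, 0, (-1), (-1), 0, 0, 0, 0, 0, 0, 0, 0, 0, (-1), (-1), 0, 0, 0, 0, 0, 0, 0, 0, 0, 0, 0, 1, 0, 0, 0, 0, 0, 0, 0, 0, 0, 0, 1, 0, 0, 0, 0, 0, 0, 0, 0, 0, 0, 0, 0, 0, 0, 0, 0],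
    [0, 0, 0, 0, 0, 0, 0, 0, 0, 0, 0, 0, 0, 0, 0, 0, 0, 0, 0, 0, 0, 0, 0, 0, 0, 0, 0, 0, 0, 0, 0, 0, 0, 0, 0, 0, 0, 0, 0, 0, 0, 0, 0, 0, 0, 0, 0, 0, 0, 0, 0, 0, 0, 0, (-1), 0, 0, 0, 0, 0, 0, 0, 0, 0, (-1), (-1), 0, 0, 0, 0, 0, 0, 0, 0, 0, (-1), (-1), 0, 0, 0, 0, 0, 0, 0, 0, 0, (-1), (-1), 0, 0, 0, 0, 0, 0, 0, 0, 0, (-1), (-1), 0, 0, 0, 0, 0, 0, 0, 0, 0, 0, 0, 0, 0, 0, 0, 0, 0, 0, 0, 0, 0, 0, 0, 0, 0, 0, 0],
    [0, 0, 0, 0, 0, 0, 0, 0, 0, 0, 0, 0, 0, 0, 0, 0, 0, 0, 0, 0, 0, 0, 0, 0, 0, 0, 0, 0, 0, 0, 0, 0, 0, 0, 0, 0, 0, 0, 0, 0, 0, 0, 0, 0, 0, 0, 0, 0, 0, 0, 0, 0, 0, 0, 0, 0, 0, 0, 0, 0, 0, 0, 0, 0, 0, (-1), 0, 0, 0, 0, 0, 0, 0, 0, 0, 0, (-1), 0, 0, 0, 0, 0, 0, 0, 0, 0, 0, (-1), 0, 0, 0, 0, 0, 0, 0, 0, 0, 0, (-1), 0, 0, 0, 0, 0, 0, 0, 0, 0, 0, (-1), 0, 0, 0, 0, 0, 0, 0, 0, 0, 0, 0, 0, 0, 0, 0, 0],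
    [0, 0, 0, 0, 0, (-2), 0, 0, 0, 0, 0, 0, 0, 0, 0, 0, 0, 0, 0, 0, 0, 0, 0, 0, 0, 0, 0, 0, 0, 0, 0, 0, 0, 0, 0, 0, 0, 0, 0, 0, 0, 0, 0, 0, 0, 0, 0, 0, 0, 0, 0, 0, 0, 0, 0, 0, 0, 0, 0, 0, 0, 0, (-1), (-1), 0, 0, 0, 0, 0, 0, 0, 0, 0, 0, 0, 0, 0, 0, 0, 0, 0, 0, 0, 0, (-1), (-1), 0, 0, 0, 0, 0, 0, 0, 0, 0, 0, (-1), 0, 0, 0, 0, 0, 0, 0, 0, 0, 0, 0, 0, 0, 0, 0, 0, 0, 0, 0, 0, 0, 0, 0, 0, 0, 0, 0, 0, 0],
    [0, 0, 0, 0, 0, 2, 0, 1, 1, 0, 0, 0, 0, 0, 0, 0, 0, 0, 0, 0, 0, 0, 0, 0, 0, 0, 0, (-1), 0, 0, 0, 0, 0, 0, 0, 0, 0, 0, 0, 0, 0, 0, 0, 0, 0, 0, 0, 0, 0, (-1), 0, 0, (-1), (-1), (-1), 0, 0, 0, 0, 0, 0, 1, 0, 1, 1, 0, 0, 0, 0, 0, 0, 0, 0, 0, (-1), (-1), (-1), 0, 0, 0, 0, 0, 0, 0, 1, 1, 2, 2, 0, 0, 0, 0, 0, 0, 0, 0, 1, 2, 3, 0, 0, 0, 0, 0, 0, 0, 0, 0, 0, 1, 0, 0, 0, 0, 0, 0, 0, 0, 0, 0, 0, 0, 0, 0, 0, 0],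
    [0, 0, 0, 0, 0, 0, 0, 0, 0, 0, 1, 0, 0, 0, 0, 0, 0, 0, 0, 0, 0, 0, 0, 0, 0, 0, 0, 0, 0, 0, 0, 0, 0, 0, 0, 0, 0, 0, 0, 0, 0, 0, 0, 0, 0, 0, 0, 0, 0, 0, 0, 0, 0, 0, 0, 0, 0, 0, 0, 0, 0, 0, 0, 0, (-1), (-1), 0, 0, 0, 0, 0, 0, 0, 1, 1, 0, 0, 0, 0, 0, 0, 0, 0, 0, 0, 0, (-1), 0, 0, 0, 0, 0, 0, 0, 0, 0, 0, (-1), 0, 0, 0, 0, 0, 0, 0, 0, 0, 0, 0, (-1), 0, 0, 0, 0, 0, 0, 0, 0, 0, 0, 0, 0, 0, 0, 0, 0],
    [0, 0, 0, 0, 0, 0, 0, 0, 0, 0, 0, 0, 0, 0, 0, 0, 0, 0, 0, 0, 0, 0, 0, 0, 0, 0, 0, 0, 0, 0, 0, 0, 0, 0, 0, 0, 0, 0, 0, 0, 0, 0, 0, 0, 0, 0, 0, 0, 0, 0, 0, 0, 0, 0, 0, 0, 0, 0, 0, 0, 0, 0, 0, (-1), 0, 0, 0, 0, 0, 0, 0, 0, 0, 0, 0, 0, 0, 0, 0, 0, 0, 0, 0, 0, 0, 0, 0, 0, 0, 0, 0, 0, 0, 0, 0, 0, 0, 0, 0, 0, 0, 0, 0, 0, 0, 0, 0, 0, 0, 0, 0, 0, 0, 0, 0, 0, 0, 0, 0, 0, 0, 0, 0, 0, 0, 0],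
    [0, 0, 0, 0, 0, 0, 0, 0, 0, 0, 0, 0, 0, 0, 0, 0, 0, 0, 0, 0, 0, 0, 0, 0, 0, 0, 0, 0, 0, 0, 0, 0, 0, 0, 0, 0, 0, 0, 0, 0, 0, 0, 0, 0, 0, 0, 0, 0, 0, 0, 0, 0, 0, 0, 0, 0, 0, 0, 0, 0, 0, 0, 0, 0, (-1), 0, 0, 0, 0, 0, 0, 0, 0, 0, 0, 0, 0, 0, 0, 0, 0, 0, 0, 0, 0, (-1), (-1), 0, 0, 0, 0, 0, 0, 0, 0, 0, 0, (-1), 0, 0, 0, 0, 0, 0, 0, 0, 0, 0, 0, 0, 0, 0, 0, 0, 0, 0, 0, 0, 0, 0, 0, 0, 0, 0, 0, 0],
    [0, 0, 0, 0, 0, 0, 0, 0, 0, 0, 0, 0, 0, 0, 0, 0, 0, 0, 0, 0, 0, 0, 0, 0, 0, 0, 0, 0, 0, 0, 0, 0, 0, 0, 0, 0, 0, 0, 0, 0, 0, 0, 0, 0, 0, 0, 0, 0, 0, 0, 0, 0, 0, 0, 0, 0, 0, 0, 0, 0, 0, 0, 0, 0, 0, (-1), 0, 0, 0, 0, 0, 0, 0, 0, 0, 0, 0, 0, 0, 0, 0, 0, 0, 0, 0, 0, (-1), (-1), 0, 0, 0, 0, 0, 0, 0, 0, 0, (-1), (-1), 0, 0, 0, 0, 0, 0, 0, 0, 0, 0, 0, 0, 0, 0, 0, 0, 0, 0, 0, 0, 0, 0, 0, 0, 0, 0, 0],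
    [0, 0, 0, 0, 0, 0, 0, 0, 0, 0, 0, 0, 0, 0, 0, 0, 0, 0, 0, 0, 0, 0, 0, 0, 0, 0, 0, 0, 0, 0, 0, 0, 0, 0, 0, 0, 0, 0, 0, 0, 0, 0, 0, 0, 0, 0, 0, 0, 0, 0, 0, 0, 0, 0, 0, 0, 0, 0, 0, 0, 0, 0, 0, 0, 0, 0, 0, 0, 0, 0, 0, 0, 0, 0, 0, 0, 0, 0, 0, 0, 0, 0, 0, 0, 0, 0, 0, (-1), 0, 0, 0, 0, 0, 0, 0, 0, 0, 0, (-1), 0, 0, 0, 0, 0, 0, 0, 0, 0, 0, 0, 0, 0, 0, 0, 0, 0, 0, 0, 0, 0, 0, 0, 0, 0, 0, 0],
    [0, 0, 0, 0, 0, 0, (-2), 0, 0, 0, 1, 0, 0, 0, 0, 0, 0, 0, 0, 0, 0, 0, 0, 0, 0, 0, 0, 0, 0, 0, 0, 0, 0, 0, 0, 0, 0, 0, 0, 0, 0, 0, 0, 0, 0, 0, 0, 0, 0, 0, 0, 0, 0, 0, 0, 0, 0, 0, 0, 0, 0, 0, 0, 0, 0, 0, 0, 0, 0, 0, 0, 0, 0, 0, 0, (-1), (-1), 0, 0, 0, 0, 0, 0, 0, 0, 0, 0, 0, 0, 0, 0, 0, 0, 0, 0, 0, 0, 0, 0, 0, 0, 0, 0, 0, 0, 0, 0, 0, (-1), (-1), 0, 0, 0, 0, 0, 0, 0, 0, 0, 0, (-1), 0, 0, 0, 0, 0],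
    [0, 0, 0, 0, 0, 0, 2, 0, 0, 1, 1, 0, 0, 0, 0, 0, 0, 0, 0, 0, 0, 0, 0, 0, 0, 0, 0, 0, (-1), 0, 0, 0, 0, 0, 0, 0, 0, 0, 0, 0, 0, 0, 0, 0, 0, 0, 0, 0, 0, 0, (-1), 0, 0, (-1), (-1), 0, 0, 0, 0, 0, 0, 0, 0, 0, 0, 0, 0, 0, 0, 0, 0, 0, 0, 0, 1, 1, (-1), 0, 0, 0, 0, 0, 0, 0, 0, 0, 0, 0, 0, 0, 0, 0, 0, 0, 0, 0, 0, 0, 1, 0, 0, 0, 0, 0, 0, 0, 0, 0, 0, 2, 0, 0, 0, 0, 0, 0, 0, 0, 0, 0, 1, 0, 0, 0, 0, 0],
    [0, 0, 0, 0, 0, 0, 0, 0, 0, 0, 0, 0, 0, 0, 0, 0, 0, 0, 0, 0, 0, 0, 0, 0, 0, 0, 0, 0, 0, 0, 0, 0, 0, 0, 0, 0, 0, 0, 0, 0, 0, 0, 0, 0, 0, 0, 0, 0, 0, 0, 0, 0, 0, 0, 0, 0, 0, 0, 0, 0, 0, 0, 0, 0, 0, 0, 0, 0, 0, 0, 0, 0, 0, 0, (-1), 0, 0, 0, 0, 0, 0, 0, 0, 0, 0, 0, 1, 1, 0, 0, 0, 0, 0, 0, 0, 0, 0, 1, 1, 0, 0, 0, 0, 0, 0, 0, 0, 0, 0, 0, 0, 0, 0, 0, 0, 0, 0, 0, 0, 0, 0, 0, 0, 0, 0, 0],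
    [0, 0, 0, 0, 0, 0, 0, 0, 0, 0, 0, 0, 0, 0, 0, 0, 0, 0, 0, 0, 0, 0, 0, 0, 0, 0, 0, 0, 0, 0, 0, 0, 0, 0, 0, 0, 0, 0, 0, 0, 0, 0, 0, 0, 0, 0, 0, 0, 0, 0, 0, 0, 0, 0, 0, 0, 0, 0, 0, 0, 0, 0, 0, 0, 0, 0, 0, 0, 0, 0, 0, 0, 0, 0, 0, (-1), 0, 0, 0, 0, 0, 0, 0, 0, 0, 0, 0, 0, 0, 0, 0, 0, 0, 0, 0, 0, 0, 1, 1, 0, 0, 0, 0, 0, 0, 0, 0, 0, 0, 1, 0, 0, 0, 0, 0, 0, 0, 0, 0, 0, 0, 0, 0, 0, 0, 0],
    [0, 0, 0, 0, 0, 0, 0, 0, 0, 0, 0, 0, 0, 0, 0, 1, 1, 1, 0, 1, 0, 0, 0, 0, 0, 0, 0, 0, 0, 0, 0, 0, 0, 0, 0, 0, 0, 0, 0, 0, 0, 0, 0, 0, 0, 0, 0, 0, 0, 0, 0, 0, 0, 0, 0, 0, 0, 0, 0, 0, 0, 0, 1, 1, 0, 1, 0, 0, 0, 0, 0, 0, 0, 1, 0, 1, 0, 0, 0, 0, 0, 0, 0, 0, 1, 0, 1, 0, 0, 0, 0, 0, 0, 0, 0, 0, 1, 0, 1, 0, 0, 0, 0, 0, 0, 0, 0, 0, 1, 1, 0, 0, 0, 0, 0, 0, 0, 0, 0, 0, 1, 0, 0, 0, 0, 0],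
    [0, 0, 0, 0, 0, 0, 0, 0, 0, 0, 0, 0, 0, (-2), 0, 0, 0, 1, 1, 0, 1, 1, 0, 0, 0, 0, (-1), (-1), 0, (-1), (-1), 0, 0, 0, 0, 0, 0, 0, 0, 0, 0, 0, 0, 0, 0, 0, 0, 0, (-1), (-1), (-2), (-2), 0, (-2), (-2), 0, 0, 0, 0, 0, (-1), (-2), (-1), (-2), (-3), (-3), 0, 0, 0, 0, 0, 0, 0, 0, (-1), (-1), (-1), 0, 0, 0, 0, 0, 0, 0, (-1), (-3), (-1), (-3), 0, 0, 0, 0, 0, 0, 0, 0, (-2), (-3), (-1), 0, 0, 0, 0, 0, 0, 0, 0, 0, (-2), (-5), 0, 0, 0, 0, 0, 0, 0, 0, 0, 0, (-4), 0, 0, 0, 0, 0],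
    [0, 0, 0, 0, 0, 0, 0, 0, 0, 0, 0, 0, 0, 2, 0, 1, 1, 0, 1, 1, 0, 0, 0, 0, 0, 0, 1, 1, 1, 0, 1, 0, 0, 0, 0, 0, 0, 0, 0, 0, 0, 0, 0, 0, 0, 0, 0, 0, 1, 1, 2, 1, 0, 2, 1, 0, 0, 0, 0, 0, 1, 2, 3, 3, 3, 2, 0, 0, 0, 0, 0, 0, 0, 1, 2, 1, 1, 0, 0, 0, 0, 0, 0, 0, 2, 2, 2, 5, 0, 0, 0, 0, 0, 0, 0, 0, 3, 3, 7, 0, 0, 0, 0, 0, 0, 0, 0, 0, 4, 4, 0, 0, 0, 0, 0, 0, 0, 0, 0, 0, 5, 0, 0, 0, 0, 0],
    [0, 0, 0, 0, 0, 0, 0, 0, 0, 0, 0, 0, 0, 0, 0, 0, 0, 0, 0, 0, 0, 0, 0, 0, 0, 0, 0, 0, 0, 0, 0, 0, 0, 0, 0, 0, 0, 0, 0, 0, 0, 0, 0, 0, 0, 0, 0, 0, 0, 0, 0, 0, 0, 0, 0, 0, 0, 0, 0, 0, (-1), 0, 0, (-1), 0, 0, 0, 0, 0, 0, 0, 0, 0, 0, 0, 0, 0, 0, 0, 0, 0, 0, 0, 0, 0, 0, 0, 0, 0, 0, 0, 0, 0, 0, 0, 0, (-1), 0, 0, 0, 0, 0, 0, 0, 0, 0, 0, 0, 1, 1, 0, 0, 0, 0, 0, 0, 0, 0, 0, 0, 1, 0, 0, 0, 0, (-2)],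
    [0, 0, 0, 0, 0, 0, 0, 0, 0, 0, 0, 0, (-1), 0, (-1), (-1), 0, (-1), (-1), (-1), (-1), 0, 0, 0, 0, 0, 0, 0, 0, 0, 0, 0, 0, 0, 0, 0, (-1), (-2), (-1), (-2), (-1), (-1), (-1), (-1), 0, 0, 0, 0, (-2), (-1), (-2), (-1), 0, (-1), (-3), 0, 0, 0, 0, 0, (-1), (-1), 0, (-3), (-1), (-2), 0, 0, 0, 0, 0, 0, (-2), (-2), (-6), (-4), (-6), 0, 0, 0, 0, 0, 0, 0, (-2), (-4), (-3), (-4), 0, 0, 0, 0, 0, 0, 0, 0, (-5), (-2), (-8), 0, 0, 0, 0, 0, 0, 0, 0, 0, (-6), (-7), 0, 0, 0, 0, 0, 0, 0, 0, 0, 0, (-6), 0, 0, 0, (-2), 0],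
    [0, 0, 0, 0, 0, 0, 0, 0, 0, 0, 0, 0, (-1), 0, (-1), (-1), 0, (-1), (-1), (-1), (-1), (-1), 0, 0, 0, 0, 0, 0, 0, 0, 0, 0, 0, 0, 0, 0, 0, (-2), (-1), (-2), (-1), (-1), (-1), 0, 0, 0, 0, 0, (-2), (-1), (-2), (-1), 0, (-1), (-2), 0, 0, 0, 0, 0, (-1), (-1), 0, (-3), (-1), (-2), 0, 0, 0, 0, 0, 0, (-2), (-2), (-6), (-4), (-5), 0, 0, 0, 0, 0, 0, 0, (-2), (-4), (-3), (-5), 0, 0, 0, 0, 0, 0, 0, 0, (-6), (-2), (-9), 0, 0, 0, 0, 0, 0, 0, 0, 0, (-6), (-8), 0, 0, 0, 0, 0, 0, 0, 0, 0, 0, (-7), 0, (-2), 0, 0, 0],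
    [1, 1, 0, 0, 1, 0, 0, 0, 0, 0, 0, 0, (-1), 0, 0, 0, 1, 1, (-2), 0, (-1), (-1), 0, 0, 0, 0, (-2), 0, (-1), 0, (-1), 0, (-1), 0, 0, 0, 0, (-1), 1, (-1), (-2), 1, (-1), (-1), 0, 0, 0, 0, (-1), 1, (-3), (-3), 2, (-3), (-2), 0, 0, 0, 0, 0, 1, 1, 1, 1, 1, 2, 0, 0, 0, 0, 0, 0, 0, (-1), (-3), 0, (-1), 0, 0, 0, 0, 0, 0, 0, 0, (-4), 0, (-4), 0, 0, 0, 0, 0, 0, 0, 0, (-2), 0, (-6), 0, 0, 0, 0, 0, 0, 0, 0, 0, (-5), (-7), 0, 0, 0, 0, 0, 0, 0, 0, 0, 0, (-4), (-2), (-1), (-1), 0, 0],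
    [1, 1, 0, 1, 1, 0, 0, 0, 0, 0, 0, 0, (-2), (-1), (-1), 0, 2, 1, (-3), 0, (-1), (-2), 0, 0, 0, (-1), (-3), 0, (-2), (-1), (-1), (-1), (-1), 0, 0, 0, 0, (-2), (-1), (-3), (-4), (-1), (-2), 0, 0, 0, 0, 0, (-3), (-2), (-5), (-5), 1, (-4), (-4), 0, 0, 0, 0, 0, (-1), 1, 1, (-4), (-2), (-2), 0, 0, 0, 0, 0, 0, (-2), (-4), (-6), (-2), (-3), 0, 0, 0, 0, 0, 0, 0, (-2), (-10), (-4), (-9), 0, 0, 0, 0, 0, 0, 0, 0, (-8), (-6), (-16), 0, 0, 0, 0, 0, 0, 0, 0, 0, (-12), (-16), 0, 0, 0, 0, 0, 0, 0, 0, 0, 0, (-10), (-2), (-3), (-1), 0, (-1)],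
    [1, 1, 0, 0, 1, 0, 0, 0, 1, 0, 0, 0, (-2), (-1), (-2), (-1), 1, 0, (-3), 0, (-1), (-1), 0, 0, 0, (-1), (-3), 0, (-2), (-1), (-1), (-1), (-2), 0, 0, 0, (-1), (-3), (-1), (-3), (-4), (-2), (-2), (-2), 0, 0, 0, 0, (-4), (-3), (-6), (-5), 0, (-4), (-4), 0, 0, 0, 0, 0, (-2), 0, 0, (-6), (-3), (-3), 0, 0, 0, 0, 0, 0, (-3), (-5), (-7), (-4), (-6), 0, 0, 0, 0, 0, 0, 0, (-3), (-10), (-5), (-10), 0, 0, 0, 0, 0, 0, 0, 0, (-10), (-6), (-16), 0, 0, 0, 0, 0, 0, 0, 0, 0, (-14), (-15), 0, 0, 0, 0, 0, 0, 0, 0, 0, 0, (-13), (-2), (-1), (-1), (-2), (-1)]]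
  lam := [[0, 0, 0, 0, 0, 0, 0, 0, 0, 0, 0, 0, 0, 0, 0, 0, 0, 0, 0, 0, 0, 0, 0, 0, 0, 0, 0, 0, 0, 0, 0, 0, 0, 0, 0, 0, 0, 0, 0, 0, 0, 0, 0, 0, 0, 0, 0, 0, 0, 0, 0, 0, 0, 0, 0, 0, 0, 0, 0, 0, 0, 0, 0, 0, 0, 0, 0, 0, 0, 0, 0, 0, 0, 0, 0, 0, 0, 0, 0, 0, 0, 0, 0, 0, 0, 0, 0, 0, 0, 0, 0, 0, 0, 0, 0, 0, 0, 0, 0, 0, 0, 0, 0, 0, 0, 0, 0, 0, 0, 0, 0, 0, 0, 0, 0, 0, 0, 0, 0, 0, 0, 0, 0, 0, 0, 0],
    [0, 0, 0, 0, 0, 0, 0, 0, 0, 0, 0, 0, 0, 0, 0, 0, 0, 0, 0, 0, 0, 0, 0, 0, 0, 0, 0, 0, 0, 0, 0, 0, 0, 0, 0, 0, 0, 0, 0, 0, 0, 0, 0, 0, 0, 0, 0, 0, 0, 0, 0, 0, 0, 0, 0, 0, 0, 0, 0, 0, 0, 0, 0, 0, 0, 0, 0, 0, 0, 0, 0, 0, 0, 0, 0, 0, 0, 0, 0, 0, 0, 0, 0, 0, 0, 0, 0, 0, 0, 0, 0, 0, 0, 0, 0, 0, 0, 0, 0, 0, 0, 0, 0, 0, 0, 0, 0, 0, 0, 0, 0, 0, 0, 0, 0, 0, 0, 0, 0, 0, 0, 0, 0, 0, 0, 0],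
    [0, 1, 0, 0, 0, 0, 0, 0, 0, 0, 0, 0, 0, 0, 0, 0, 0, 0, 0, 0, 0, 0, 0, 0, 0, 1, 0, 0, 0, 0, 0, 0, 0, 0, 0, 0, 0, 0, 0, 0, 0, 0, 0, 0, 0, 0, 0, 0, 0, 0, 1, 0, 0, 0, 0, 0, 0, 0, 0, 0, 0, 0, 0, 0, 0, 0, 0, 0, 0, 0, 0, 0, 0, 0, 0, 0, 0, 0, 0, 0, 0, 0, 0, 0, 0, 0, 0, 0, 0, 0, 0, 0, 0, 0, 0, 0, 0, 0, 0, 0, 0, 0, 0, 0, 0, 0, 0, 0, 0, 0, 0, 0, 0, 0, 0, 0, 0, 0, 0, 0, 0, 0, 1, 1, 0, 1],
    [0, 0, 0, 0, 0, 0, 0, 0, 0, 0, 0, 0, 0, 0, 0, 0, 0, 0, 0, 0, 0, 0, 0, 0, 0, 1, 1, 0, 0, 0, 0, 0, 0, 0, 0, 0, 0, 0, 0, 0, 0, 0, 0, 0, 0, 0, 0, 0, 1, 0, 1, 0, 0, 0, 0, 0, 0, 0, 0, 0, 0, 0, 0, 0, 0, 0, 0, 0, 0, 0, 0, 0, 0, 0, 0, 0, 0, 0, 0, 0, 0, 0, 0, 0, 0, 0, 0, 0, 0, 0, 0, 0, 0, 0, 0, 0, 0, 0, 0, 0, 0, 0, 0, 0, 0, 0, 0, 0, 0, 0, 0, 0, 0, 0, 0, 0, 0, 0, 0, 0, 0, 0, 1, 1, 0, 0],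
    [0, 0, 0, 0, 0, 0, 0, 0, 0, 0, 0, 0, 0, 0, 1, 0, 0, 0, 0, 0, 0, 0, 0, 0, 0, 1, 0, 0, 0, 0, 0, 0, 0, 0, 0, 0, 0, 0, 0, 0, 0, 0, 0, 0, 0, 0, 0, 0, 0, 0, 1, 0, 0, 0, 0, 0, 0, 0, 0, 0, 0, 0, 0, 0, 0, 0, 0, 0, 0, 0, 0, 0, 1, 0, 0, 0, 0, 0, 0, 0, 0, 0, 0, 0, 0, 0, 0, 0, 0, 0, 0, 0, 0, 0, 0, 0, 0, 0, 0, 0, 0, 0, 0, 0, 0, 0, 0, 0, 0, 0, 0, 0, 0, 0, 0, 0, 0, 0, 0, 0, 0, 0, 0, 0, 0, 0],
    [0, 0, 0, 0, 0, 0, 0, 0, 0, 0, 0, 0, 0, 0, 0, 0, 0, 0, 0, 0, 0, 0, 0, 0, 0, 0, 0, 0, 0, 0, 0, 0, 0, 0, 0, 0, 0, 0, 0, 0, 0, 0, 0, 0, 0, 0, 0, 0, 1, 0, 0, 0, 0, 0, 0, 0, 0, 0, 0, 0, 0, 0, 0, 0, 0, 0, 0, 0, 0, 0, 0, 0, 0, 0, 0, 0, 0, 0, 0, 0, 0, 0, 0, 0, 0, 0, 0, 0, 0, 0, 0, 0, 0, 0, 0, 0, 0, 0, 0, 0, 0, 0, 0, 0, 0, 0, 0, 0, 0, 0, 0, 0, 0, 0, 0, 0, 0, 0, 0, 0, 0, 0, 0, 0, 0, 1],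
    [0, 0, 0, 0, 0, 0, 0, 0, 0, 0, 0, 0, 0, 0, 0, 0, 0, 0, 0, 0, 0, 0, 0, 0, 0, 1, 0, 0, 0, 0, 0, 0, 0, 0, 0, 0, 0, 0, 0, 0, 0, 0, 0, 0, 0, 0, 0, 0, 0, 0, 0, 0, 0, 0, 0, 0, 0, 0, 0, 0, 0, 0, 0, 0, 0, 0, 0, 0, 0, 0, 0, 0, 1, 0, 0, 0, 0, 0, 0, 0, 0, 0, 0, 0, 0, 0, 0, 0, 0, 0, 0, 0, 0, 0, 0, 0, 0, 0, 0, 0, 0, 0, 0, 0, 0, 0, 0, 0, 0, 0, 0, 0, 0, 0, 0, 0, 0, 0, 0, 0, 0, 0, 0, 0, 0, 1],
    [0, 0, 0, 0, 0, 0, 0, 0, 0, 0, 0, 0, 0, 0, 0, 0, 0, 0, 0, 0, 0, 0, 0, 0, 0, 0, 1, 0, 0, 0, 0, 0, 0, 0, 0, 0, 0, 0, 0, 0, 0, 0, 0, 0, 0, 0, 0, 0, 0, 0, 1, 0, 0, 0, 0, 0, 0, 0, 0, 0, 0, 0, 0, 0, 0, 0, 0, 0, 0, 0, 0, 0, 1, 0, 0, 0, 0, 0, 0, 0, 0, 0, 0, 0, 0, 0, 0, 0, 0, 0, 0, 0, 0, 0, 0, 0, 0, 0, 0, 0, 0, 0, 0, 0, 0, 0, 0, 0, 0, 0, 0, 0, 0, 0, 0, 0, 0, 0, 0, 0, 0, 0, 0, 0, 0, 0],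
    [0, 0, 0, 0, 0, 0, 0, 0, 0, 0, 0, 0, 0, 0, 0, 0, 0, 0, 0, 0, 0, 0, 0, 0, 0, 0, 0, 0, 0, 0, 0, 0, 0, 0, 0, 0, 0, 0, 0, 0, 0, 0, 0, 0, 0, 0, 0, 0, 1, 0, 1, 0, 0, 0, 0, 0, 0, 0, 0, 0, 0, 0, 0, 0, 0, 0, 0, 0, 0, 0, 0, 0, 1, 0, 0, 0, 0, 0, 0, 0, 0, 0, 0, 0, 0, 0, 0, 0, 0, 0, 0, 0, 0, 0, 0, 0, 0, 0, 0, 0, 0, 0, 0, 0, 0, 0, 0, 0, 0, 0, 0, 0, 0, 0, 0, 0, 0, 0, 0, 0, 0, 0, 0, 0, 0, 0],
    [0, 0, 0, 0, 0, 0, 0, 0, 0, 0, 0, 0, 0, 0, 0, 0, 0, 0, 0, 0, 0, 0, 0, 0, 0, 0, 0, 0, 0, 0, 0, 0, 0, 0, 0, 0, 0, 0, 0, 0, 0, 0, 0, 0, 0, 0, 0, 0, 0, 0, 1, 0, 0, 0, 0, 0, 0, 0, 0, 0, 0, 0, 0, 0, 0, 0, 0, 0, 0, 0, 0, 0, 0, 0, 0, 0, 0, 0, 0, 0, 0, 0, 0, 0, 0, 0, 0, 0, 0, 0, 0, 0, 0, 0, 0, 0, 0, 0, 0, 0, 0, 0, 0, 0, 0, 0, 0, 0, 0, 0, 0, 0, 0, 0, 0, 0, 0, 0, 0, 0, 0, 0, 0, 0, 0, 0],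
    [0, 0, 0, 0, 0, 0, 0, 0, 0, 0, 0, 0, 0, 0, 0, 0, 0, 0, 0, 0, 0, 0, 0, 0, 0, 0, 0, 0, 0, 0, 0, 0, 0, 0, 0, 0, 0, 0, 0, 0, 0, 0, 0, 0, 0, 0, 0, 0, 0, 0, 0, 0, 0, 0, 0, 0, 0, 0, 0, 0, 0, 0, 0, 0, 0, 0, 0, 0, 0, 0, 0, 0, 1, 0, 0, 0, 0, 0, 0, 0, 0, 0, 0, 0, 0, 0, 0, 0, 0, 0, 0, 0, 0, 0, 0, 0, 0, 0, 0, 0, 0, 0, 0, 0, 0, 0, 0, 0, 0, 0, 0, 0, 0, 0, 0, 0, 0, 0, 0, 0, 0, 0, 0, 0, 0, 0]]
  j0 := 0
  mu := [0, 0, 0, 0, 0, 0, 0, 0, 0, 0, 0, 0, 0, 0, 0, 0, 0, 0, 0, 0, 0, 0, 0, 0, 0, 0, 0, 0, 0, 0, 0, 0, 0, 0, 0, 0, 0, 0, 0, 0, 0, 0, 0, 0, 0, 0, 0, 0, 0, 0, 0, 0, 0, 0, 0, 0, 0, 0, 0, 0, 0, 0, 0, 0, 0, 0, 0, 0, 0, 0, 0, 0, 0, 0, 0, 0, 0, 0, 0, 0, 0, 0, 0, 0, 0, 0, 0, 0, 0, 0, 0, 0, 0, 0, 0, 0, 0, 0, 0, 0, 0, 0, 0, 0, 0, 0, 0, 0, 0, 0, 0, 0, 0, 0, 0, 0, 0, 0, 0, 0, 0]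
  y1 := [[(3, 1), (5, 1), (12, 1), (16, 1), (17, 1), (19, 1), (21, 1), (22, 1), (25, 1), (27, 1), (30, 1), (31, 1), (32, 1), (33, 1), (34, 1), (36, 1), (37, 1), (38, 1), (41, 1), (45, 1), (46, 1), (50, 1), (51, 1), (55, 1), (56, 1)],
    [],
    [(0, 1), (4, 1), (7, 1), (9, 1), (10, 1), (11, 1), (12, 1), (13, 1), (15, 1), (18, 1), (19, 1), (20, 1), (26, 1), (27, 1), (30, 1), (36, 1), (39, 1), (41, 1), (42, 1), (43, 1), (45, 1), (46, 1), (47, 1), (48, 1), (51, 1), (52, 1), (53, 1)],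
    [(8, 1), (9, 1), (10, 1), (15, 1), (16, 1), (20, 1), (22, 1), (24, 1), (27, 1), (29, 1), (30, 1), (35, 1), (36, 1), (38, 1), (39, 1), (40, 1), (42, 1), (43, 1), (48, 1), (51, 1), (52, 1), (54, 1), (55, 1), (57, 1), (58, 1)],
    [(7, 1), (9, 1), (10, 1), (11, 1), (14, 1), (16, 1), (17, 1), (18, 1), (22, 1), (23, 1), (33, 1), (35, 1), (40, 1), (41, 1), (42, 1), (43, 1), (46, 1), (48, 1), (49, 1)],
    [(0, 1), (1, 1), (2, 1), (3, 1), (4, 1), (5, 1), (6, 1), (7, 1), (10, 1), (14, 1), (16, 1), (17, 1), (18, 1), (21, 1), (24, 1), (25, 1), (26, 1), (28, 1), (29, 1), (33, 1), (34, 1), (36, 1), (37, 1), (38, 1), (42, 1), (43, 1), (44, 1), (47, 1), (48, 1), (49, 1), (51, 1), (52, 1), (54, 1), (55, 1), (57, 1), (58, 1)],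
    [(4, 1), (12, 1), (13, 1), (14, 1), (15, 1), (16, 1), (17, 1), (19, 1), (20, 1), (22, 1), (23, 1), (26, 1), (27, 1), (30, 1), (31, 1), (33, 1), (35, 1), (37, 1), (38, 1), (39, 1), (40, 1), (42, 1), (43, 1), (44, 1), (46, 1), (47, 1), (48, 1), (49, 1), (51, 1), (52, 1), (53, 1)],
    [(0, 1), (1, 1), (2, 1), (3, 1), (4, 1), (5, 1), (6, 1), (7, 1), (10, 1), (11, 1), (12, 1), (13, 1), (17, 1), (18, 1), (25, 1), (28, 1), (30, 1), (32, 1), (34, 1), (37, 1), (41, 1), (43, 1), (44, 1), (45, 1), (48, 1), (49, 1), (51, 1), (52, 1), (53, 1), (54, 1), (55, 1), (57, 1), (58, 1)],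
    [(11, 1), (13, 1), (14, 1), (15, 1), (16, 1), (19, 1), (20, 1), (24, 1), (28, 1), (31, 1), (34, 1), (36, 1), (38, 1), (39, 1), (42, 1), (44, 1), (47, 1), (48, 1), (49, 1)],
    [(3, 1), (4, 1), (5, 1), (9, 1), (10, 1), (12, 1), (16, 1), (17, 1), (24, 1), (26, 1), (27, 1), (31, 1), (33, 1), (34, 1), (36, 1), (38, 1), (39, 1), (40, 1), (41, 1), (42, 1), (43, 1), (45, 1), (49, 1), (51, 1), (52, 1), (53, 1)],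
    [(3, 1), (5, 1), (9, 1), (10, 1), (11, 1), (12, 1), (15, 1), (16, 1), (19, 1), (20, 1), (21, 1), (22, 1), (23, 1), (28, 1), (30, 1), (35, 1), (36, 1), (39, 1), (41, 1), (42, 1), (44, 1)],
    [],
    [(4, 1), (5, 1), (6, 1), (9, 1), (10, 1), (13, 1), (14, 1), (15, 1), (16, 1), (23, 1), (26, 1), (27, 1), (29, 1), (31, 1), (33, 1), (34, 1), (35, 1), (36, 1), (37, 1), (38, 1), (39, 1), (40, 1), (41, 1), (45, 1), (47, 1), (48, 1), (49, 1), (50, 1), (52, 1), (53, 1), (55, 1)],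
    [(0, 1), (1, 1), (2, 1), (3, 1), (4, 1), (5, 1), (6, 1), (8, 1), (12, 1), (14, 1), (16, 1), (17, 1), (18, 1), (19, 1), (20, 1), (21, 1), (25, 1), (26, 1), (28, 1), (30, 1), (32, 1), (40, 1), (42, 1), (45, 1), (48, 1), (51, 1), (52, 1), (55, 1), (56, 1), (57, 1)],
    [],
    [(3, 1), (6, 1), (7, 1), (8, 1), (9, 1), (10, 1), (11, 1), (12, 1), (14, 1), (15, 1), (16, 1), (18, 1), (19, 1), (20, 1), (23, 1), (29, 1), (31, 1), (32, 1), (35, 1), (40, 1), (42, 1), (43, 1), (44, 1), (47, 1), (50, 1), (53, 1)],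
    [(0, 1), (1, 1), (2, 1), (3, 1), (4, 1), (6, 1), (7, 1), (8, 1), (10, 1), (11, 1), (12, 1), (13, 1), (14, 1), (16, 1), (19, 1), (21, 1), (22, 1), (24, 1), (27, 1), (28, 1), (29, 1), (30, 1), (31, 1), (33, 1), (38, 1), (39, 1), (40, 1), (41, 1), (42, 1), (43, 1), (44, 1), (45, 1), (46, 1), (52, 1), (53, 1), (54, 1), (55, 1), (57, 1), (58, 1)],
    [(0, 1), (1, 1), (2, 1), (8, 1), (10, 1), (20, 1), (21, 1), (25, 1), (26, 1), (27, 1), (29, 1), (30, 1), (33, 1), (34, 1), (36, 1), (37, 1), (40, 1), (42, 1), (43, 1), (44, 1), (45, 1), (47, 1), (48, 1), (50, 1), (52, 1), (54, 1), (55, 1), (57, 1), (58, 1)],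
    [(3, 1), (4, 1), (5, 1), (6, 1), (7, 1), (8, 1), (9, 1), (10, 1), (12, 1), (13, 1), (15, 1), (20, 1), (26, 1), (28, 1), (30, 1), (32, 1), (33, 1), (34, 1), (36, 1), (37, 1), (38, 1), (39, 1), (40, 1), (41, 1), (42, 1), (45, 1), (50, 1)],
    [(4, 1), (8, 1), (9, 1), (10, 1), (11, 1), (13, 1), (15, 1), (18, 1), (20, 1), (21, 1), (22, 1), (23, 1), (24, 1), (25, 1), (26, 1), (28, 1), (30, 1), (32, 1), (34, 1), (35, 1), (37, 1), (40, 1), (43, 1), (44, 1), (48, 1), (49, 1), (50, 1)],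
    [(4, 1), (10, 1), (11, 1), (13, 1), (14, 1), (17, 1), (18, 1), (19, 1), (20, 1), (21, 1), (22, 1), (23, 1), (26, 1), (27, 1), (28, 1), (29, 1), (35, 1), (39, 1), (40, 1), (41, 1), (44, 1), (45, 1), (46, 1), (48, 1), (49, 1), (50, 1), (53, 1)],
    [(9, 1), (11, 1), (13, 1), (14, 1), (16, 1), (19, 1), (20, 1), (24, 1), (27, 1), (30, 1), (31, 1), (33, 1), (34, 1), (35, 1), (40, 1), (41, 1), (42, 1), (44, 1), (47, 1), (48, 1), (50, 1), (51, 1), (52, 1)],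
    [],
    [],
    [(0, 1), (2, 1), (4, 1), (5, 1), (7, 1), (8, 1), (10, 1), (15, 1), (18, 1), (19, 1), (24, 1), (25, 1), (26, 1), (27, 1), (29, 1), (35, 1), (36, 1), (38, 1), (46, 1), (47, 1), (49, 1), (50, 1), (51, 1), (54, 1), (56, 1), (57, 1)],
    [],
    [],
    [(0, 1), (1, 1), (2, 1), (4, 1), (6, 1), (7, 1), (9, 1), (17, 1), (19, 1), (21, 1), (22, 1), (23, 1), (25, 1), (31, 1), (33, 1), (35, 1), (36, 1), (39, 1), (41, 1), (45, 1), (46, 1), (49, 1), (51, 1), (52, 1), (54, 1), (55, 1), (57, 1), (58, 1)],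
    [(3, 1), (4, 1), (5, 1), (9, 1), (10, 1), (11, 1), (12, 1), (13, 1), (14, 1), (16, 1), (19, 1), (20, 1), (27, 1), (29, 1), (30, 1), (34, 1), (35, 1), (37, 1), (39, 1), (42, 1), (43, 1), (44, 1), (46, 1), (47, 1), (51, 1), (52, 1), (53, 1)],
    [(4, 1), (9, 1), (10, 1), (11, 1), (16, 1), (17, 1), (18, 1), (20, 1), (21, 1), (22, 1), (23, 1), (24, 1), (26, 1), (28, 1), (31, 1), (35, 1), (36, 1), (37, 1), (38, 1), (39, 1), (41, 1), (42, 1), (44, 1), (45, 1), (48, 1), (49, 1), (50, 1), (53, 1)],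
    [(3, 1), (4, 1), (5, 1), (11, 1), (12, 1), (13, 1), (14, 1), (18, 1), (19, 1), (26, 1), (28, 1), (34, 1), (36, 1), (39, 1), (42, 1), (43, 1), (47, 1), (49, 1), (50, 1), (53, 1)],
    [(3, 1), (5, 1), (9, 1), (10, 1), (12, 1), (15, 1), (16, 1), (21, 1), (22, 1), (23, 1), (28, 1), (29, 1), (35, 1), (39, 1), (41, 1), (42, 1)],
    [(3, 1), (5, 1), (9, 1), (10, 1), (12, 1), (13, 1), (14, 1), (20, 1), (22, 1), (23, 1), (24, 1), (26, 1), (28, 1), (29, 1), (30, 1), (31, 1), (35, 1), (36, 1), (37, 1), (38, 1), (42, 1), (43, 1), (44, 1), (47, 1), (48, 1), (49, 1)],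
    [],
    [],
    [],
    [(3, 1), (5, 1), (10, 1), (11, 1), (12, 1), (14, 1), (16, 1), (18, 1), (21, 1), (22, 1), (23, 1), (24, 1), (27, 1), (28, 1), (30, 1), (31, 1), (32, 1), (33, 1), (34, 1), (35, 1), (38, 1), (39, 1), (41, 1), (44, 1), (46, 1), (47, 1), (49, 1), (50, 1), (51, 1), (52, 1), (54, 1), (55, 1)],
    [(3, 1), (4, 1), (5, 1), (9, 1), (10, 1), (11, 1), (12, 1), (14, 1), (15, 1), (18, 1), (19, 1), (22, 1), (24, 1), (25, 1), (29, 1), (30, 1), (32, 1), (33, 1), (35, 1), (37, 1), (38, 1), (39, 1), (40, 1), (41, 1), (42, 1), (43, 1), (44, 1), (46, 1), (51, 1), (52, 1)],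
    [(0, 1), (1, 1), (2, 1), (4, 1), (6, 1), (9, 1), (13, 1), (14, 1), (15, 1), (16, 1), (19, 1), (20, 1), (21, 1), (22, 1), (23, 1), (25, 1), (27, 1), (31, 1), (33, 1), (34, 1), (36, 1), (38, 1), (40, 1), (41, 1), (44, 1), (45, 1), (46, 1), (47, 1), (48, 1), (49, 1), (50, 1), (53, 1), (54, 1), (55, 1), (57, 1), (58, 1)],
    [(0, 1), (1, 1), (2, 1), (6, 1), (9, 1), (11, 1), (13, 1), (14, 1), (15, 1), (17, 1), (19, 1), (20, 1), (28, 1), (30, 1), (31, 1), (34, 1), (40, 1), (41, 1), (43, 1), (44, 1), (45, 1), (46, 1), (48, 1), (50, 1), (51, 1), (52, 1), (53, 1), (54, 1), (55, 1), (57, 1), (58, 1)],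
    [(9, 1), (10, 1), (11, 1), (14, 1), (15, 1), (18, 1), (24, 1), (25, 1), (28, 1), (30, 1), (32, 1), (36, 1), (39, 1), (41, 1), (45, 1), (46, 1), (47, 1), (48, 1), (50, 1), (51, 1), (52, 1), (53, 1)],
    [(3, 1), (5, 1), (11, 1), (12, 1), (16, 1), (20, 1), (21, 1), (22, 1), (23, 1), (26, 1), (29, 1), (35, 1), (37, 1), (38, 1), (40, 1), (41, 1), (42, 1), (44, 1), (48, 1), (49, 1), (50, 1), (51, 1), (52, 1)],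
    [(9, 1), (10, 1), (13, 1), (14, 1), (16, 1), (21, 1), (24, 1), (27, 1), (29, 1), (30, 1), (31, 1), (33, 1), (34, 1), (35, 1), (36, 1), (37, 1), (38, 1), (40, 1), (41, 1), (42, 1), (45, 1), (47, 1), (48, 1), (49, 1), (50, 1), (51, 1), (52, 1)],
    [(11, 1), (17, 1), (19, 1), (30, 1), (34, 1), (36, 1), (45, 1), (49, 1)],
    [],
    [],
    [],
    [],
    [],
    [(4, 1), (13, 1), (16, 1), (18, 1), (22, 1), (23, 1), (24, 1), (27, 1), (32, 1), (34, 1), (36, 1), (37, 1), (38, 1), (39, 1), (44, 1), (45, 1), (46, 1), (48, 1), (51, 1), (52, 1)],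
    [],
    [(4, 1), (9, 1), (10, 1), (19, 1), (20, 1), (22, 1), (23, 1), (24, 1), (31, 1), (33, 1), (38, 1), (39, 1), (44, 1), (48, 1), (50, 1), (53, 1)],
    [(9, 1), (10, 1), (13, 1), (14, 1), (16, 1), (17, 1), (19, 1), (20, 1), (24, 1), (27, 1), (28, 1), (29, 1), (31, 1), (33, 1), (35, 1), (36, 1), (37, 1), (38, 1), (40, 1), (41, 1), (42, 1), (43, 1), (44, 1), (47, 1), (48, 1), (49, 1), (50, 1), (51, 1), (52, 1)],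
    [(17, 1), (19, 1), (20, 1), (21, 1), (34, 1), (37, 1), (42, 1), (43, 1), (44, 1), (45, 1), (48, 1)],
    [(3, 1), (5, 1), (9, 1), (10, 1), (12, 1), (13, 1), (14, 1), (22, 1), (23, 1), (24, 1), (26, 1), (28, 1), (29, 1), (30, 1), (31, 1), (35, 1), (36, 1), (38, 1), (42, 1), (43, 1), (44, 1), (47, 1), (48, 1), (49, 1)],
    [],
    [],
    [],
    [],
    [],
    [(13, 1), (17, 1), (18, 1), (20, 1), (32, 1), (33, 1), (36, 1), (38, 1), (39, 1), (41, 1), (46, 1), (47, 1), (53, 1)],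
    [(4, 1), (11, 1), (15, 1), (17, 1), (19, 1), (20, 1), (21, 1), (22, 1), (23, 1), (24, 1), (26, 1), (27, 1), (28, 1), (30, 1), (31, 1), (33, 1), (35, 1), (36, 1), (37, 1), (38, 1), (40, 1), (41, 1), (42, 1), (48, 1), (51, 1), (52, 1), (53, 1)],
    [(9, 1), (10, 1), (11, 1), (13, 1), (14, 1), (16, 1), (20, 1), (21, 1), (24, 1), (27, 1), (28, 1), (31, 1), (33, 1), (34, 1), (36, 1), (37, 1), (38, 1), (40, 1), (42, 1), (47, 1), (50, 1), (51, 1), (52, 1)],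
    [(42, 1)],
    [(3, 1), (5, 1), (9, 1), (10, 1), (11, 1), (12, 1), (13, 1), (14, 1), (20, 1), (21, 1), (22, 1), (23, 1), (24, 1), (26, 1), (28, 1), (31, 1), (35, 1), (37, 1), (45, 1), (47, 1), (49, 1)],
    [(17, 1), (19, 1), (20, 1), (21, 1), (34, 1), (36, 1), (37, 1), (45, 1), (49, 1)],
    [],
    [],
    [],
    [],
    [],
    [],
    [],
    [(13, 1), (14, 1), (15, 1), (16, 1), (17, 1), (20, 1), (24, 1), (26, 1), (30, 1), (31, 1), (34, 1), (38, 1), (39, 1), (42, 1), (44, 1), (45, 1), (47, 1), (48, 1)],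
    [(17, 1), (19, 1), (20, 1), (21, 1), (34, 1), (36, 1), (37, 1), (44, 1), (45, 1), (48, 1), (49, 1)],
    [(11, 1), (17, 1), (19, 1), (21, 1), (29, 1), (30, 1), (34, 1), (37, 1), (38, 1), (42, 1), (43, 1), (45, 1), (48, 1), (49, 1)],
    [(17, 1), (19, 1), (20, 1), (34, 1), (36, 1), (37, 1), (49, 1)],
    [],
    [],
    [],
    [],
    [],
    [],
    [],
    [(9, 1), (10, 1), (13, 1), (15, 1), (18, 1), (21, 1), (26, 1), (27, 1), (28, 1), (29, 1), (32, 1), (36, 1), (37, 1), (38, 1), (39, 1), (40, 1), (42, 1), (47, 1), (48, 1), (50, 1), (51, 1), (52, 1)],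
    [(3, 1), (5, 1), (9, 1), (10, 1), (11, 1), (12, 1), (13, 1), (14, 1), (17, 1), (19, 1), (22, 1), (23, 1), (24, 1), (26, 1), (28, 1), (31, 1), (34, 1), (35, 1), (36, 1), (43, 1), (44, 1), (45, 1), (47, 1)],
    [(3, 1), (5, 1), (9, 1), (10, 1), (11, 1), (12, 1), (13, 1), (14, 1), (20, 1), (21, 1), (22, 1), (23, 1), (24, 1), (26, 1), (28, 1), (30, 1), (31, 1), (35, 1), (47, 1)],
    [(3, 1), (5, 1), (9, 1), (10, 1), (12, 1), (13, 1), (14, 1), (22, 1), (23, 1), (24, 1), (26, 1), (28, 1), (29, 1), (31, 1), (35, 1), (36, 1), (42, 1), (43, 1), (44, 1), (47, 1), (48, 1), (49, 1)],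
    [],
    [],
    [],
    [],
    [],
    [],
    [],
    [],
    [(3, 1), (5, 1), (9, 1), (10, 1), (12, 1), (13, 1), (15, 1), (16, 1), (17, 1), (18, 1), (19, 1), (20, 1), (22, 1), (23, 1), (28, 1), (29, 1), (32, 1), (33, 1), (35, 1), (36, 1), (42, 1), (43, 1), (44, 1), (45, 1), (47, 1), (48, 1)],
    [(3, 1), (5, 1), (9, 1), (10, 1), (11, 1), (12, 1), (13, 1), (14, 1), (17, 1), (19, 1), (22, 1), (23, 1), (24, 1), (26, 1), (28, 1), (30, 1), (31, 1), (34, 1), (35, 1), (36, 1), (37, 1), (44, 1), (47, 1), (49, 1)],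
    [(3, 1), (5, 1), (9, 1), (10, 1), (12, 1), (13, 1), (14, 1), (22, 1), (23, 1), (24, 1), (26, 1), (28, 1), (29, 1), (31, 1), (35, 1), (36, 1), (42, 1), (43, 1), (44, 1), (45, 1), (47, 1), (48, 1), (49, 1)],
    [],
    [],
    [],
    [],
    [],
    [],
    [],
    [],
    [],
    [(11, 1), (13, 1), (14, 1), (17, 1), (19, 1), (20, 1), (21, 1), (24, 1), (26, 1), (29, 1), (31, 1), (33, 1), (35, 1), (37, 1), (38, 1), (40, 1), (41, 1), (42, 1), (43, 1), (44, 1)],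
    [(21, 1), (38, 1)],
    [],
    [],
    [],
    [],
    [],
    [],
    [],
    [],
    [],
    [],
    [(3, 1), (5, 1), (9, 1), (10, 1), (11, 1), (12, 1), (13, 1), (14, 1), (15, 1), (16, 1), (17, 1), (20, 1), (22, 1), (23, 1), (24, 1), (26, 1), (28, 1), (31, 1), (33, 1), (37, 1), (38, 1), (39, 1), (40, 1), (42, 1), (45, 1), (46, 1), (48, 1)]]
  y2 := [[(3, 1), (5, 1), (12, 1), (16, 1), (17, 1), (19, 1), (21, 1), (22, 1), (25, 1), (27, 1), (30, 1), (31, 1), (32, 1), (33, 1), (34, 1), (36, 1), (37, 1), (38, 1), (41, 1), (45, 1), (46, 1), (50, 1), (51, 1), (55, 1), (56, 1)],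
    [],
    [(0, 1), (4, 1), (7, 1), (9, 1), (10, 1), (11, 1), (12, 1), (13, 1), (15, 1), (18, 1), (19, 1), (20, 1), (26, 1), (27, 1), (30, 1), (36, 1), (39, 1), (41, 1), (42, 1), (43, 1), (45, 1), (46, 1), (47, 1), (48, 1), (51, 1), (52, 1), (53, 1)],
    [(8, 1), (9, 1), (10, 1), (15, 1), (16, 1), (20, 1), (22, 1), (24, 1), (27, 1), (29, 1), (30, 1), (35, 1), (36, 1), (38, 1), (39, 1), (40, 1), (42, 1), (43, 1), (48, 1), (51, 1), (52, 1), (54, 1), (55, 1), (57, 1), (58, 1)],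
    [(7, 1), (9, 1), (10, 1), (11, 1), (14, 1), (16, 1), (17, 1), (18, 1), (22, 1), (23, 1), (33, 1), (35, 1), (40, 1), (41, 1), (42, 1), (43, 1), (46, 1), (48, 1), (49, 1)],
    [(0, 1), (1, 1), (2, 1), (3, 1), (4, 1), (5, 1), (6, 1), (7, 1), (10, 1), (14, 1), (16, 1), (17, 1), (18, 1), (21, 1), (24, 1), (25, 1), (26, 1), (28, 1), (29, 1), (33, 1), (34, 1), (36, 1), (37, 1), (38, 1), (42, 1), (43, 1), (44, 1), (47, 1), (48, 1), (49, 1), (51, 1), (52, 1), (54, 1), (55, 1), (57, 1), (58, 1)],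
    [(4, 1), (12, 1), (13, 1), (14, 1), (15, 1), (16, 1), (17, 1), (19, 1), (20, 1), (22, 1), (23, 1), (26, 1), (27, 1), (30, 1), (31, 1), (33, 1), (35, 1), (37, 1), (38, 1), (39, 1), (40, 1), (42, 1), (43, 1), (44, 1), (46, 1), (47, 1), (48, 1), (49, 1), (51, 1), (52, 1), (53, 1)],
    [(0, 1), (1, 1), (2, 1), (3, 1), (4, 1), (5, 1), (6, 1), (7, 1), (10, 1), (11, 1), (12, 1), (13, 1), (17, 1), (18, 1), (25, 1), (28, 1), (30, 1), (32, 1), (34, 1), (37, 1), (41, 1), (43, 1), (44, 1), (45, 1), (48, 1), (49, 1), (51, 1), (52, 1), (53, 1), (54, 1), (55, 1), (57, 1), (58, 1)],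
    [(11, 1), (13, 1), (14, 1), (15, 1), (16, 1), (19, 1), (20, 1), (24, 1), (28, 1), (31, 1), (34, 1), (36, 1), (38, 1), (39, 1), (42, 1), (44, 1), (47, 1), (48, 1), (49, 1)],
    [(3, 1), (4, 1), (5, 1), (9, 1), (10, 1), (12, 1), (16, 1), (17, 1), (24, 1), (26, 1), (27, 1), (31, 1), (33, 1), (34, 1), (36, 1), (38, 1), (39, 1), (40, 1), (41, 1), (42, 1), (43, 1), (45, 1), (49, 1), (51, 1), (52, 1), (53, 1)],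
    [(3, 1), (5, 1), (9, 1), (10, 1), (11, 1), (12, 1), (15, 1), (16, 1), (19, 1), (20, 1), (21, 1), (22, 1), (23, 1), (28, 1), (30, 1), (35, 1), (36, 1), (39, 1), (41, 1), (42, 1), (44, 1)],
    [],
    [(4, 1), (5, 1), (6, 1), (9, 1), (10, 1), (13, 1), (14, 1), (15, 1), (16, 1), (23, 1), (26, 1), (27, 1), (29, 1), (31, 1), (33, 1), (34, 1), (35, 1), (36, 1), (37, 1), (38, 1), (39, 1), (40, 1), (41, 1), (45, 1), (47, 1), (48, 1), (49, 1), (50, 1), (52, 1), (53, 1), (55, 1)],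
    [(0, 1), (1, 1), (2, 1), (3, 1), (4, 1), (5, 1), (6, 1), (8, 1), (12, 1), (14, 1), (16, 1), (17, 1), (18, 1), (19, 1), (20, 1), (21, 1), (25, 1), (26, 1), (28, 1), (30, 1), (32, 1), (40, 1), (42, 1), (45, 1), (48, 1), (51, 1), (52, 1), (55, 1), (56, 1), (57, 1)],
    [],
    [(3, 1), (6, 1), (7, 1), (8, 1), (9, 1), (10, 1), (11, 1), (12, 1), (14, 1), (15, 1), (16, 1), (18, 1), (19, 1), (20, 1), (23, 1), (29, 1), (31, 1), (32, 1), (35, 1), (40, 1), (42, 1), (43, 1), (44, 1), (47, 1), (50, 1), (53, 1)],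
    [(0, 1), (1, 1), (2, 1), (3, 1), (4, 1), (6, 1), (7, 1), (8, 1), (10, 1), (11, 1), (12, 1), (13, 1), (14, 1), (16, 1), (19, 1), (21, 1), (22, 1), (24, 1), (27, 1), (28, 1), (29, 1), (30, 1), (31, 1), (33, 1), (38, 1), (39, 1), (40, 1), (41, 1), (42, 1), (43, 1), (44, 1), (45, 1), (46, 1), (52, 1), (53, 1), (54, 1), (55, 1), (57, 1), (58, 1)],
    [(0, 1), (1, 1), (2, 1), (8, 1), (10, 1), (20, 1), (21, 1), (25, 1), (26, 1), (27, 1), (29, 1), (30, 1), (33, 1), (34, 1), (36, 1), (37, 1), (40, 1), (42, 1), (43, 1), (44, 1), (45, 1), (47, 1), (48, 1), (50, 1), (52, 1), (54, 1), (55, 1), (57, 1), (58, 1)],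
    [(3, 1), (4, 1), (5, 1), (6, 1), (7, 1), (8, 1), (9, 1), (10, 1), (12, 1), (13, 1), (15, 1), (20, 1), (26, 1), (28, 1), (30, 1), (32, 1), (33, 1), (34, 1), (36, 1), (37, 1), (38, 1), (39, 1), (40, 1), (41, 1), (42, 1), (45, 1), (50, 1)],
    [(4, 1), (8, 1), (9, 1), (10, 1), (11, 1), (13, 1), (15, 1), (18, 1), (20, 1), (21, 1), (22, 1), (23, 1), (24, 1), (25, 1), (26, 1), (28, 1), (30, 1), (32, 1), (34, 1), (35, 1), (37, 1), (40, 1), (43, 1), (44, 1), (48, 1), (49, 1), (50, 1)],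
    [(4, 1), (10, 1), (11, 1), (13, 1), (14, 1), (17, 1), (18, 1), (19, 1), (20, 1), (21, 1), (22, 1), (23, 1), (26, 1), (27, 1), (28, 1), (29, 1), (35, 1), (39, 1), (40, 1), (41, 1), (44, 1), (45, 1), (46, 1), (48, 1), (49, 1), (50, 1), (53, 1)],
    [(9, 1), (11, 1), (13, 1), (14, 1), (16, 1), (19, 1), (20, 1), (24, 1), (27, 1), (30, 1), (31, 1), (33, 1), (34, 1), (35, 1), (40, 1), (41, 1), (42, 1), (44, 1), (47, 1), (48, 1), (50, 1), (51, 1), (52, 1)],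
    [],
    [],
    [(0, 1), (2, 1), (4, 1), (5, 1), (7, 1), (8, 1), (10, 1), (15, 1), (18, 1), (19, 1), (24, 1), (25, 1), (26, 1), (27, 1), (29, 1), (35, 1), (36, 1), (38, 1), (46, 1), (47, 1), (49, 1), (50, 1), (51, 1), (54, 1), (56, 1), (57, 1)],
    [],
    [],
    [(0, 1), (1, 1), (2, 1), (4, 1), (6, 1), (7, 1), (9, 1), (17, 1), (19, 1), (21, 1), (22, 1), (23, 1), (25, 1), (31, 1), (33, 1), (35, 1), (36, 1), (39, 1), (41, 1), (45, 1), (46, 1), (49, 1), (51, 1), (52, 1), (54, 1), (55, 1), (57, 1), (58, 1)],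
    [(3, 1), (4, 1), (5, 1), (9, 1), (10, 1), (11, 1), (12, 1), (13, 1), (14, 1), (16, 1), (19, 1), (20, 1), (27, 1), (29, 1), (30, 1), (34, 1), (35, 1), (37, 1), (39, 1), (42, 1), (43, 1), (44, 1), (46, 1), (47, 1), (51, 1), (52, 1), (53, 1)],
    [(4, 1), (9, 1), (10, 1), (11, 1), (16, 1), (17, 1), (18, 1), (20, 1), (21, 1), (22, 1), (23, 1), (24, 1), (26, 1), (28, 1), (31, 1), (35, 1), (36, 1), (37, 1), (38, 1), (39, 1), (41, 1), (42, 1), (44, 1), (45, 1), (48, 1), (49, 1), (50, 1), (53, 1)],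
    [(3, 1), (4, 1), (5, 1), (11, 1), (12, 1), (13, 1), (14, 1), (18, 1), (19, 1), (26, 1), (28, 1), (34, 1), (36, 1), (39, 1), (42, 1), (43, 1), (47, 1), (49, 1), (50, 1), (53, 1)],
    [(3, 1), (5, 1), (9, 1), (10, 1), (12, 1), (15, 1), (16, 1), (21, 1), (22, 1), (23, 1), (28, 1), (29, 1), (35, 1), (39, 1), (41, 1), (42, 1)],
    [(3, 1), (5, 1), (9, 1), (10, 1), (12, 1), (13, 1), (14, 1), (20, 1), (22, 1), (23, 1), (24, 1), (26, 1), (28, 1), (29, 1), (30, 1), (31, 1), (35, 1), (36, 1), (37, 1), (38, 1), (42, 1), (43, 1), (44, 1), (47, 1), (48, 1), (49, 1)],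
    [],
    [],
    [],
    [(3, 1), (5, 1), (10, 1), (11, 1), (12, 1), (14, 1), (16, 1), (18, 1), (21, 1), (22, 1), (23, 1), (24, 1), (27, 1), (28, 1), (30, 1), (31, 1), (32, 1), (33, 1), (34, 1), (35, 1), (38, 1), (39, 1), (41, 1), (44, 1), (46, 1), (47, 1), (49, 1), (50, 1), (51, 1), (52, 1), (54, 1), (55, 1)],
    [(3, 1), (4, 1), (5, 1), (9, 1), (10, 1), (11, 1), (12, 1), (14, 1), (15, 1), (18, 1), (19, 1), (22, 1), (24, 1), (25, 1), (29, 1), (30, 1), (32, 1), (33, 1), (35, 1), (37, 1), (38, 1), (39, 1), (40, 1), (41, 1), (42, 1), (43, 1), (44, 1), (46, 1), (51, 1), (52, 1)],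
    [(0, 1), (1, 1), (2, 1), (4, 1), (6, 1), (9, 1), (13, 1), (14, 1), (15, 1), (16, 1), (19, 1), (20, 1), (21, 1), (22, 1), (23, 1), (25, 1), (27, 1), (31, 1), (33, 1), (34, 1), (36, 1), (38, 1), (40, 1), (41, 1), (44, 1), (45, 1), (46, 1), (47, 1), (48, 1), (49, 1), (50, 1), (53, 1), (54, 1), (55, 1), (57, 1), (58, 1)],
    [(0, 1), (1, 1), (2, 1), (6, 1), (9, 1), (11, 1), (13, 1), (14, 1), (15, 1), (17, 1), (19, 1), (20, 1), (28, 1), (30, 1), (31, 1), (34, 1), (40, 1), (41, 1), (43, 1), (44, 1), (45, 1), (46, 1), (48, 1), (50, 1), (51, 1), (52, 1), (53, 1), (54, 1), (55, 1), (57, 1), (58, 1)],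
    [(9, 1), (10, 1), (11, 1), (14, 1), (15, 1), (18, 1), (24, 1), (25, 1), (28, 1), (30, 1), (32, 1), (36, 1), (39, 1), (41, 1), (45, 1), (46, 1), (47, 1), (48, 1), (50, 1), (51, 1), (52, 1), (53, 1)],
    [(3, 1), (5, 1), (11, 1), (12, 1), (16, 1), (20, 1), (21, 1), (22, 1), (23, 1), (26, 1), (29, 1), (35, 1), (37, 1), (38, 1), (40, 1), (41, 1), (42, 1), (44, 1), (48, 1), (49, 1), (50, 1), (51, 1), (52, 1)],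
    [(9, 1), (10, 1), (13, 1), (14, 1), (16, 1), (21, 1), (24, 1), (27, 1), (29, 1), (30, 1), (31, 1), (33, 1), (34, 1), (35, 1), (36, 1), (37, 1), (38, 1), (40, 1), (41, 1), (42, 1), (45, 1), (47, 1), (48, 1), (49, 1), (50, 1), (51, 1), (52, 1)],
    [(11, 1), (17, 1), (19, 1), (30, 1), (34, 1), (36, 1), (45, 1), (49, 1)],
    [],
    [],
    [],
    [],
    [],
    [(4, 1), (13, 1), (16, 1), (18, 1), (22, 1), (23, 1), (24, 1), (27, 1), (32, 1), (34, 1), (36, 1), (37, 1), (38, 1), (39, 1), (44, 1), (45, 1), (46, 1), (48, 1), (51, 1), (52, 1)],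
    [],
    [(4, 1), (9, 1), (10, 1), (19, 1), (20, 1), (22, 1), (23, 1), (24, 1), (31, 1), (33, 1), (38, 1), (39, 1), (44, 1), (48, 1), (50, 1), (53, 1)],
    [(9, 1), (10, 1), (13, 1), (14, 1), (16, 1), (17, 1), (19, 1), (20, 1), (24, 1), (27, 1), (28, 1), (29, 1), (31, 1), (33, 1), (35, 1), (36, 1), (37, 1), (38, 1), (40, 1), (41, 1), (42, 1), (43, 1), (44, 1), (47, 1), (48, 1), (49, 1), (50, 1), (51, 1), (52, 1)],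
    [(17, 1), (19, 1), (20, 1), (21, 1), (34, 1), (37, 1), (42, 1), (43, 1), (44, 1), (45, 1), (48, 1)],
    [(3, 1), (5, 1), (9, 1), (10, 1), (12, 1), (13, 1), (14, 1), (22, 1), (23, 1), (24, 1), (26, 1), (28, 1), (29, 1), (30, 1), (31, 1), (35, 1), (36, 1), (38, 1), (42, 1), (43, 1), (44, 1), (47, 1), (48, 1), (49, 1)],
    [],
    [],
    [],
    [],
    [],
    [(13, 1), (17, 1), (18, 1), (20, 1), (32, 1), (33, 1), (36, 1), (38, 1), (39, 1), (41, 1), (46, 1), (47, 1), (53, 1)],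
    [(4, 1), (11, 1), (15, 1), (17, 1), (19, 1), (20, 1), (21, 1), (22, 1), (23, 1), (24, 1), (26, 1), (27, 1), (28, 1), (30, 1), (31, 1), (33, 1), (35, 1), (36, 1), (37, 1), (38, 1), (40, 1), (41, 1), (42, 1), (48, 1), (51, 1), (52, 1), (53, 1)],
    [(9, 1), (10, 1), (11, 1), (13, 1), (14, 1), (16, 1), (20, 1), (21, 1), (24, 1), (27, 1), (28, 1), (31, 1), (33, 1), (34, 1), (36, 1), (37, 1), (38, 1), (40, 1), (42, 1), (47, 1), (50, 1), (51, 1), (52, 1)],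
    [(42, 1)],
    [(3, 1), (5, 1), (9, 1), (10, 1), (11, 1), (12, 1), (13, 1), (14, 1), (20, 1), (21, 1), (22, 1), (23, 1), (24, 1), (26, 1), (28, 1), (31, 1), (35, 1), (37, 1), (45, 1), (47, 1), (49, 1)],
    [(17, 1), (19, 1), (20, 1), (21, 1), (34, 1), (36, 1), (37, 1), (45, 1), (49, 1)],
    [],
    [],
    [],
    [],
    [],
    [],
    [],
    [(13, 1), (14, 1), (15, 1), (16, 1), (17, 1), (20, 1), (24, 1), (26, 1), (30, 1), (31, 1), (34, 1), (38, 1), (39, 1), (42, 1), (44, 1), (45, 1), (47, 1), (48, 1)],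
    [(17, 1), (19, 1), (20, 1), (21, 1), (34, 1), (36, 1), (37, 1), (44, 1), (45, 1), (48, 1), (49, 1)],
    [(11, 1), (17, 1), (19, 1), (21, 1), (29, 1), (30, 1), (34, 1), (37, 1), (38, 1), (42, 1), (43, 1), (45, 1), (48, 1), (49, 1)],
    [(17, 1), (19, 1), (20, 1), (34, 1), (36, 1), (37, 1), (49, 1)],
    [],
    [],
    [],
    [],
    [],
    [],
    [],
    [(9, 1), (10, 1), (13, 1), (15, 1), (18, 1), (21, 1), (26, 1), (27, 1), (28, 1), (29, 1), (32, 1), (36, 1), (37, 1), (38, 1), (39, 1), (40, 1), (42, 1), (47, 1), (48, 1), (50, 1), (51, 1), (52, 1)],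
    [(3, 1), (5, 1), (9, 1), (10, 1), (11, 1), (12, 1), (13, 1), (14, 1), (17, 1), (19, 1), (22, 1), (23, 1), (24, 1), (26, 1), (28, 1), (31, 1), (34, 1), (35, 1), (36, 1), (43, 1), (44, 1), (45, 1), (47, 1)],
    [(3, 1), (5, 1), (9, 1), (10, 1), (11, 1), (12, 1), (13, 1), (14, 1), (20, 1), (21, 1), (22, 1), (23, 1), (24, 1), (26, 1), (28, 1), (30, 1), (31, 1), (35, 1), (47, 1)],
    [(3, 1), (5, 1), (9, 1), (10, 1), (12, 1), (13, 1), (14, 1), (22, 1), (23, 1), (24, 1), (26, 1), (28, 1), (29, 1), (31, 1), (35, 1), (36, 1), (42, 1), (43, 1), (44, 1), (47, 1), (48, 1), (49, 1)],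
    [],
    [],
    [],
    [],
    [],
    [],
    [],
    [],
    [(3, 1), (5, 1), (9, 1), (10, 1), (12, 1), (13, 1), (15, 1), (16, 1), (17, 1), (18, 1), (19, 1), (20, 1), (22, 1), (23, 1), (28, 1), (29, 1), (32, 1), (33, 1), (35, 1), (36, 1), (42, 1), (43, 1), (44, 1), (45, 1), (47, 1), (48, 1)],
    [(3, 1), (5, 1), (9, 1), (10, 1), (11, 1), (12, 1), (13, 1), (14, 1), (17, 1), (19, 1), (22, 1), (23, 1), (24, 1), (26, 1), (28, 1), (30, 1), (31, 1), (34, 1), (35, 1), (36, 1), (37, 1), (44, 1), (47, 1), (49, 1)],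
    [(3, 1), (5, 1), (9, 1), (10, 1), (12, 1), (13, 1), (14, 1), (22, 1), (23, 1), (24, 1), (26, 1), (28, 1), (29, 1), (31, 1), (35, 1), (36, 1), (42, 1), (43, 1), (44, 1), (45, 1), (47, 1), (48, 1), (49, 1)],
    [],
    [],
    [],
    [],
    [],
    [],
    [],
    [],
    [],
    [(11, 1), (13, 1), (14, 1), (17, 1), (19, 1), (20, 1), (21, 1), (24, 1), (26, 1), (29, 1), (31, 1), (33, 1), (35, 1), (37, 1), (38, 1), (40, 1), (41, 1), (42, 1), (43, 1), (44, 1)],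
    [(21, 1), (38, 1)],
    [],
    [],
    [],
    [],
    [],
    [],
    [],
    [],
    [],
    [],
    [(3, 1), (5, 1), (9, 1), (10, 1), (11, 1), (12, 1), (13, 1), (14, 1), (15, 1), (16, 1), (17, 1), (20, 1), (22, 1), (23, 1), (24, 1), (26, 1), (28, 1), (31, 1), (33, 1), (37, 1), (38, 1), (39, 1), (40, 1), (42, 1), (45, 1), (46, 1), (48, 1)]]

theorem hC : C.check = true := by decide +kernel

theorem hpc : pcChkC (mulC 52) (oneC 52) (nrmC 52) C.D cx = true := by decide +kernel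

theorem hfus : fusChkC (mulC 52) (oneC 52) (nrmC 52) C cx cg = true := by decide +kernel

theorem hx : ∀ a < C.D.n, Coded sys KK (cx a) := by
  intro a ha
  have ha' : a < 11 := ha
  interval_cases a
  · exact h1531
  · exact h1515
  · exact h1490
  · exact h1473
  · exact h1453
  · exact h1434
  · exact h1405
  · exact h1382
  · exact h1357
  · exact h1334
  · exact h1230

theorem hg : ∀ i < C.fus.length, Coded sys KK (cg i) := by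
  intro a ha
  have ha' : a < 1 := ha
  interval_cases a
  · exact h1

end Cfsg.Agent.Lib.Helper63TiP2B
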