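import Mathlib

set_option autoImplicit false

namespace Cfsg.Agent.Lib.Helper64Coclique

open Finset

section frob

variable {G N : Type*} [Group G] [CommGroup N] (φ : G →* MulAut N)

/-- The counting identity behind "a Frobenius group acting with fixed-point-free kernel has a
complement with fixed points". -/
theorem frob_action (Q : Subgroup G) [Fintype Q] (y : G) (r : ℕ) (hr : 0 < r)
    (hnorm : ∀ i : ℕ, ∀ c ∈ Q, y ^ i * c * (y ^ i)⁻¹ ∈ Q)
    (hfree : ∀ i : ℕ, 0 < i → i < r → ∀ c ∈ Q, c * y ^ i = y ^ i * c → c = 1)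
    (S : Set N) (hSφ : ∀ (g : G) (w : N), w ∈ S → φ g w ∈ S)
    (hσ : ∀ w ∈ S, ∏ x : Q, φ (x : G) w = 1)
    (hν : ∀ w ∈ S, ∀ c : Q, ∏ i ∈ range r, φ ((c : G) * y ^ i * (c : G)⁻¹) w = 1)
    (v : N) (hv : v ∈ S) : v ^ (Fintype.card Q) = 1 := by
  have h1 : ∏ c : Q, ∏ i ∈ range r, φ ((c : G) * y ^ i * (c : G)⁻¹) v = 1 :=
    Finset.prod_eq_one (fun c _ => hν v hv c)
  rw [Finset.prod_comm] at h1
  obtain ⟨r', rfl⟩ : ∃ r', r = r' + 1 := ⟨r - 1, by omega⟩
  rw [Finset.prod_range_succ'] at h1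
  have h2 : ∏ i ∈ range r', ∏ c : Q, φ ((c : G) * y ^ (i + 1) * (c : G)⁻¹) v = 1 := by
    apply Finset.prod_eq_one
    intro i hi
    have hi' : i + 1 < r' + 1 := by simpa using hi
    -- the bijection c ↦ c y^i c⁻¹ y^{-i}
    let f : Q → Q := fun c => ⟨(c : G) * (y ^ (i + 1) * (c : G)⁻¹ * (y ^ (i + 1))⁻¹),
      Q.mul_mem c.2 (hnorm (i + 1) _ (Q.inv_mem c.2))⟩
    have hf : Function.Injective f := by
      intro c d hcd
      have h3 : (c : G) * (y ^ (i + 1) * (c : G)⁻¹ * (y ^ (i + 1))⁻¹) =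
          (d : G) * (y ^ (i + 1) * (d : G)⁻¹ * (y ^ (i + 1))⁻¹) := congrArg Subtype.val hcd
      have h4 : ((d : G)⁻¹ * c) * y ^ (i + 1) = y ^ (i + 1) * ((d : G)⁻¹ * c) := by
        have h5 : (c : G) * y ^ (i + 1) * (c : G)⁻¹ = (d : G) * y ^ (i + 1) * (d : G)⁻¹ := by
          have := congrArg (· * y ^ (i + 1)) h3
          simpa [mul_assoc] using this
        calc ((d : G)⁻¹ * c) * y ^ (i + 1)
            = (d : G)⁻¹ * ((c : G) * y ^ (i + 1) * (c : G)⁻¹) * c := by group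
          _ = (d : G)⁻¹ * ((d : G) * y ^ (i + 1) * (d : G)⁻¹) * c := by rw [h5]
          _ = y ^ (i + 1) * ((d : G)⁻¹ * c) := by group
      have h6 := hfree (i + 1) (Nat.succ_pos i) hi' _ (Q.mul_mem (Q.inv_mem d.2) c.2) h4
      apply Subtype.ext
      have : (c : G) = d := by
        have := congrArg ((d : G) * ·) h6
        simpa using this
      exact this
    have hfb : Function.Bijective f := Finite.injective_iff_bijective.mp hf
    have h7 : ∀ c : Q, φ ((c : G) * y ^ (i + 1) * (c : G)⁻¹) v =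
        φ ((f c : Q) : G) (φ (y ^ (i + 1)) v) := by
      intro c
      rw [← MulAut.mul_apply, ← map_mul]
      congr 2
      simp only [f]
      group
    rw [Finset.prod_congr rfl (fun c _ => h7 c)]
    rw [hfb.prod_comp (fun x : Q => φ (x : G) (φ (y ^ (i + 1)) v))]
    exact hσ _ (hSφ _ _ hv)
  rw [h2, one_mul] at h1
  simpa using h1

end frob

section config

variable {G : Type*} [Group G]

theorem orderOf_mul_of_commute {a b : G} {p q : ℕ} (hp : p.Prime) (hq : q.Prime) (hpq : p ≠ q)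
    (hab : Commute a b) (ha : orderOf a = p) (hb : orderOf b = q) : orderOf (a * b) = p * q := by
  rw [hab.orderOf_mul_eq_mul_orderOf_of_coprime
    (by rw [ha, hb]; exact (Nat.coprime_primes hp hq).mpr hpq), ha, hb]

theorem exists_pow_orderOf_eq_of_dvd [Finite G] {x : G} {q : ℕ} (hq : q ∣ orderOf x) :
    ∃ j : ℕ, orderOf (x ^ j) = q :=
  ⟨orderOf x / q, orderOf_pow_orderOf_div (orderOf_pos x).ne' hq⟩

theorem exists_pow_orderOf_eq [Finite G] {x : G} {q : ℕ} (hq : q.Prime) (hx : x ≠ 1) (k : ℕ)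
    (hk : x ^ (q ^ k) = 1) : ∃ j : ℕ, orderOf (x ^ j) = q := by
  apply exists_pow_orderOf_eq_of_dvd
  obtain ⟨j, _, hj⟩ := (Nat.dvd_prime_pow hq).mp (orderOf_dvd_of_pow_eq_one hk)
  rcases j with _ | j
  · exfalso; apply hx; simpa using hj
  · rw [hj, pow_succ]; exact Dvd.intro_left _ rfl

theorem config [Finite G] (N : Subgroup G) [N.Normal] (hNc : ∀ a ∈ N, ∀ b ∈ N, a * b = b * a)
    (p q r : ℕ) (hp : p.Prime) (hq : q.Prime) (hr : r.Prime) (hpq : p ≠ q) (hpr : p ≠ r)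
    (hqr : q ≠ r) (hpN : p ∣ Nat.card N) (Q : Subgroup G) (hQ : IsPGroup q Q) (hQ1 : Q ≠ ⊥)
    (y : G) (hy : orderOf y = r) (hyQ : ∀ c ∈ Q, y * c * y⁻¹ ∈ Q) :
    (∃ x : G, orderOf x = p * q) ∨ (∃ x : G, orderOf x = p * r) ∨ (∃ x : G, orderOf x = q * r) := by
  classical
  by_contra hcon
  push Not at hcon
  obtain ⟨h1, h2, h3⟩ := hcon
  let _ : CommGroup ↥N :=
    { (inferInstance : Group ↥N) with mul_comm := fun a b => Subtype.ext (hNc a a.2 b b.2) }
  let φ : G →* MulAut ↥N := MulAut.conjNormal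
  have hφ : ∀ (g : G) (w : ↥N), ((φ g w : ↥N) : G) = g * w * g⁻¹ := fun g w => rfl
  let S : Set ↥N := {w | w ^ p = 1}
  have hSφ : ∀ (g : G) (w : ↥N), w ∈ S → φ g w ∈ S := by
    intro g w hw
    change (φ g w) ^ p = 1
    rw [← map_pow, show w ^ p = 1 from hw, map_one]
  have K1 : ∀ (u : ↥N) (z : G) (s : ℕ), s.Prime → p ≠ s → u ∈ S → orderOf z = s → φ z u = u →
      (∀ x : G, orderOf x ≠ p * s) → u = 1 := by
    intro u z s hs hps hu hz hzu hno
    by_contra hu1
    have : Fact p.Prime := ⟨hp⟩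
    have ho : orderOf (u : G) = p := by
      rw [Subgroup.orderOf_coe]
      exact orderOf_eq_prime hu hu1
    have hc : Commute (u : G) z := by
      have h4 : z * u * z⁻¹ = u := by rw [← hφ, hzu]
      have h5 : z * u = u * z := by
        calc z * u = (z * u * z⁻¹) * z := by group
          _ = u * z := by rw [h4]
      exact h5.symm
    exact hno _ (orderOf_mul_of_commute hp hs hps hc ho hz)
  -- an element of order q in Q
  obtain ⟨x0, hx0Q, hx0⟩ : ∃ x0 ∈ Q, orderOf x0 = q := by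
    obtain ⟨x, hxQ, hx1⟩ := (Q.bot_or_exists_ne_one).resolve_left hQ1
    obtain ⟨k, hk⟩ := hQ ⟨x, hxQ⟩
    have hk' : x ^ (q ^ k) = 1 := by simpa using congrArg Subtype.val hk
    obtain ⟨j, hj⟩ := exists_pow_orderOf_eq hq hx1 k hk'
    exact ⟨x ^ j, Q.pow_mem hxQ j, hj⟩
  have hnorm : ∀ i : ℕ, ∀ c ∈ Q, y ^ i * c * (y ^ i)⁻¹ ∈ Q := by
    intro i
    induction i with
    | zero => intro c hc; simpa using hc
    | succ i ih =>
      intro c hc
      have := hyQ _ (ih c hc)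
      have h4 : y ^ (i + 1) * c * (y ^ (i + 1))⁻¹ = y * (y ^ i * c * (y ^ i)⁻¹) * y⁻¹ := by
        rw [pow_succ']; group
      rw [h4]; exact this
  have hfree : ∀ i : ℕ, 0 < i → i < r → ∀ c ∈ Q, c * y ^ i = y ^ i * c → c = 1 := by
    intro i hi0 hir c hc hcomm
    by_contra hc1
    obtain ⟨k, hk⟩ := hQ ⟨c, hc⟩
    have hk' : c ^ (q ^ k) = 1 := by simpa using congrArg Subtype.val hk
    obtain ⟨j, hj⟩ := exists_pow_orderOf_eq hq hc1 k hk'
    have hyi : orderOf (y ^ i) = r := by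
      rw [Nat.Coprime.orderOf_pow, hy]
      rw [hy]
      exact (Nat.Prime.coprime_iff_not_dvd hr).mpr (Nat.not_dvd_of_pos_of_lt hi0 hir)
    have hc' : Commute (c ^ j) (y ^ i) := (show Commute c (y ^ i) from hcomm).pow_left j
    exact h3 _ (orderOf_mul_of_commute hq hr hqr hc' hj hyi)
  have : Fintype Q := Fintype.ofFinite Q
  have hσ : ∀ w ∈ S, ∏ x : Q, φ (x : G) w = 1 := by
    intro w hw
    apply K1 _ x0 q hq hpq _ hx0 _ h1
    · change (∏ x : Q, φ (x : G) w) ^ p = 1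
      rw [← Finset.prod_pow]
      exact Finset.prod_eq_one (fun x _ => hSφ _ _ hw)
    · rw [map_prod]
      have h4 : ∀ x : Q, φ x0 (φ (x : G) w) = φ (((⟨x0, hx0Q⟩ : Q) * x : Q) : G) w := by
        intro x
        rw [← MulAut.mul_apply, ← map_mul]; rfl
      rw [Finset.prod_congr rfl (fun x _ => h4 x)]
      exact Equiv.prod_comp (Equiv.mulLeft (⟨x0, hx0Q⟩ : Q)) (fun x : Q => φ (x : G) w)
  have hν : ∀ w ∈ S, ∀ c : Q, ∏ i ∈ range r, φ ((c : G) * y ^ i * (c : G)⁻¹) w = 1 := by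
    intro w hw c
    set z : G := (c : G) * y * (c : G)⁻¹ with hz
    have hzo : orderOf z = r := by
      have := MulEquiv.orderOf_eq (MulAut.conj (c : G)) y
      rw [MulAut.conj_apply] at this
      rw [hz, this, hy]
    have hzi : ∀ i : ℕ, (c : G) * y ^ i * (c : G)⁻¹ = z ^ i := fun i => (conj_pow).symm
    simp only [hzi]
    apply K1 _ z r hr hpr _ hzo _ h2
    · change (∏ i ∈ range r, φ (z ^ i) w) ^ p = 1
      rw [← Finset.prod_pow]
      exact Finset.prod_eq_one (fun x _ => hSφ _ _ hw)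
    · rw [map_prod]
      have h4 : ∀ i : ℕ, φ z (φ (z ^ i) w) = φ (z ^ (i + 1)) w := by
        intro i
        rw [← MulAut.mul_apply, ← map_mul, pow_succ']
      rw [Finset.prod_congr rfl (fun i _ => h4 i)]
      have A := Finset.prod_range_succ (fun i => φ (z ^ i) w) r
      have B := Finset.prod_range_succ' (fun i => φ (z ^ i) w) r
      have hzr : z ^ r = 1 := by rw [← hzo]; exact pow_orderOf_eq_one z
      simp only [hzr, pow_zero] at A B
      rw [A] at B
      exact (mul_right_cancel B).symm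
  have : Fact p.Prime := ⟨hp⟩
  obtain ⟨v, hv⟩ := exists_prime_orderOf_dvd_card' p hpN
  have hvS : v ∈ S := by
    change v ^ p = 1
    rw [← hv]; exact pow_orderOf_eq_one v
  have hfin := frob_action φ Q y r hr.pos hnorm hfree S hSφ hσ hν v hvS
  have : Fact q.Prime := ⟨hq⟩
  obtain ⟨k, hk⟩ := IsPGroup.iff_card.mp hQ
  rw [← Nat.card_eq_fintype_card, hk] at hfin
  have h5 : p ∣ q ^ k := hv ▸ orderOf_dvd_of_pow_eq_one hfin
  exact hpq ((Nat.prime_dvd_prime_iff_eq hp hq).mp (hp.dvd_of_dvd_pow h5))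

end config

section lifting

variable {G : Type*} [Group G] [Finite G]

theorem exists_orderOf_lift {G' : Type*} [Group G'] (f : G →* G') (hf : Function.Surjective f)
    (m : ℕ) (h : ∃ x : G', orderOf x = m) : ∃ x : G, orderOf x = m := by
  obtain ⟨x, hx⟩ := h
  obtain ⟨g, rfl⟩ := hf x
  obtain ⟨j, hj⟩ := exists_pow_orderOf_eq_of_dvd (x := g) (q := m) (hx ▸ orderOf_map_dvd f g)
  exact ⟨_, hj⟩

theorem exists_orderOf_of_sup_eq_top (K M H : Subgroup G) [K.Normal] (hKM : K ≤ M)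
    (hH : H ⊔ K = ⊤) (q : ℕ) (hq : q.Prime) (hdvd : q ∣ Nat.card M / Nat.card K) :
    ∃ h ∈ H ⊓ M, orderOf h = q := by
  have hcard : Nat.card (↥M ⧸ K.subgroupOf M) = Nat.card M / Nat.card K := by
    have h1 := Subgroup.card_eq_card_quotient_mul_card_subgroup (K.subgroupOf M)
    have h2 : Nat.card (K.subgroupOf M) = Nat.card K :=
      Nat.card_congr (Subgroup.subgroupOfEquivOfLe hKM).toEquiv
    rw [h2] at h1
    rw [h1, Nat.mul_div_cancel _ Nat.card_pos]
  rw [← hcard] at hdvd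
  have : Fact q.Prime := ⟨hq⟩
  obtain ⟨mbar, hmbar⟩ := exists_prime_orderOf_dvd_card' q hdvd
  obtain ⟨m, rfl⟩ := QuotientGroup.mk_surjective mbar
  have hm : (m : G) ∈ ((H ⊔ K : Subgroup G) : Set G) := by rw [hH]; trivial
  rw [Subgroup.mul_normal, Set.mem_mul] at hm
  obtain ⟨y, hy, z, hz, hyz⟩ := hm
  have hyM : y ∈ M := by
    have : y = m * z⁻¹ := by rw [← hyz]; group
    rw [this]; exact M.mul_mem m.2 (M.inv_mem (hKM hz))
  have heq : (QuotientGroup.mk (⟨y, hyM⟩ : ↥M) : ↥M ⧸ K.subgroupOf M) = QuotientGroup.mk m := by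
    rw [QuotientGroup.eq, Subgroup.mem_subgroupOf]
    have : ((⟨y, hyM⟩ : ↥M)⁻¹ * m : ↥M).1 = z := by
      change y⁻¹ * (m : G) = z
      rw [← hyz]; group
    rw [this]; exact hz
  have h3 : q ∣ orderOf y := by
    have h4 := orderOf_map_dvd (QuotientGroup.mk' (K.subgroupOf M)) (⟨y, hyM⟩ : ↥M)
    rw [QuotientGroup.mk'_apply, heq, hmbar, Subgroup.orderOf_mk] at h4
    exact h4
  obtain ⟨j, hj⟩ := exists_pow_orderOf_eq_of_dvd h3
  exact ⟨y ^ j, ⟨H.pow_mem hy j, M.pow_mem hyM j⟩, hj⟩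

end lifting

section solvable

open scoped commutatorElement in
theorem exists_abelian_normal (G : Type*) [Group G] [hs : Group.IsSolvable G] [Nontrivial G] :
    ∃ A : Subgroup G, A.Normal ∧ A ≠ ⊥ ∧ ∀ a ∈ A, ∀ b ∈ A, a * b = b * a := by
  classical
  have h := hs.solvable
  have hk0 : Nat.find h ≠ 0 := by
    intro h0
    have := Nat.find_spec h
    rw [h0, derivedSeries_zero] at this
    exact top_ne_bot this
  obtain ⟨j, hj⟩ := Nat.exists_eq_succ_of_ne_zero hk0
  refine ⟨derivedSeries G j, derivedSeries_normal G j, ?_, ?_⟩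
  · exact Nat.find_min h (by omega)
  · intro a ha b hb
    have h1 := Nat.find_spec h
    rw [hj, Nat.succ_eq_add_one, derivedSeries_succ] at h1
    have h2 : ⁅a, b⁆ ∈ ⁅derivedSeries G j, derivedSeries G j⁆ :=
      Subgroup.commutator_mem_commutator ha hb
    rw [h1, Subgroup.mem_bot] at h2
    exact commutatorElement_eq_one_iff_mul_comm.mp h2

/-- In a solvable group whose order is divisible by `q` and `r`, some nontrivial `q`-subgroup is
normalized by an element of order `r`, or the other way round. -/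
theorem exists_normalized.{u} (n : ℕ) : ∀ (G : Type u) [Group G] [Finite G] [Group.IsSolvable G],
    Nat.card G = n → ∀ q r : ℕ, q.Prime → r.Prime → q ≠ r → q ∣ Nat.card G → r ∣ Nat.card G →
    ∃ (Q : Subgroup G) (y : G) (a b : ℕ), ((a = q ∧ b = r) ∨ (a = r ∧ b = q)) ∧ IsPGroup a Q ∧
      Q ≠ ⊥ ∧ orderOf y = b ∧ ∀ c ∈ Q, y * c * y⁻¹ ∈ Q := by
  induction n using Nat.strong_induction_on with
  | _ n ih =>
  intro G _ _ _ hn q r hq hr hqr hqG hrG
  have hnt : Nontrivial G := by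
    rw [← Finite.one_lt_card_iff_nontrivial]
    exact lt_of_lt_of_le hq.one_lt (Nat.le_of_dvd Nat.card_pos hqG)
  set M := commutator G with hM
  have hMlt : M < ⊤ := Group.IsSolvable.commutator_lt_top_of_nontrivial G
  have hMcard : Nat.card M < n := by
    rw [← hn]
    have h1 : Nat.card M ≠ Nat.card G := fun h => hMlt.ne (Subgroup.eq_top_of_card_eq M h)
    exact lt_of_le_of_ne (Subgroup.card_le_card_group M) h1
  have hidx : Nat.card M * (Nat.card G / Nat.card M) = Nat.card G :=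
    Nat.mul_div_cancel' (Subgroup.card_subgroup_dvd_card M)
  -- the Frattini step
  have frat : ∀ a b : ℕ, a.Prime → b.Prime → a ∣ Nat.card M → ¬ b ∣ Nat.card M → b ∣ Nat.card G →
      ∃ (Q : Subgroup G) (y : G), IsPGroup a Q ∧ Q ≠ ⊥ ∧ orderOf y = b ∧
        ∀ c ∈ Q, y * c * y⁻¹ ∈ Q := by
    intro a b ha hb haM hbM hbG
    have : Fact a.Prime := ⟨ha⟩
    obtain ⟨Q0⟩ : Nonempty (Sylow a M) := inferInstance
    have hF := Sylow.normalizer_sup_eq_top Q0
    have hb' : b ∣ Nat.card (⊤ : Subgroup G) / Nat.card M := by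
      rw [Subgroup.card_top]
      rw [← hidx] at hbG
      exact (Nat.Prime.dvd_mul hb).mp hbG |>.resolve_left hbM
    obtain ⟨y, hy, hyo⟩ := exists_orderOf_of_sup_eq_top M ⊤ _ le_top hF b hb hb'
    refine ⟨(Q0 : Subgroup M).map M.subtype, y, Q0.2.map _, ?_, hyo, ?_⟩
    · rw [Ne, Subgroup.map_eq_bot_iff_of_injective _ M.subtype_injective]
      exact Q0.ne_bot_of_dvd_card haM
    · intro c hc
      exact (Subgroup.mem_normalizer_iff.mp hy.1 c).mp hc
  by_cases hqM : q ∣ Nat.card M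
  · by_cases hrM : r ∣ Nat.card M
    · obtain ⟨Q, y, a, b, hab, hQ, hQ1, hy, hyQ⟩ :=
        ih (Nat.card M) hMcard M rfl q r hq hr hqr hqM hrM
      refine ⟨Q.map M.subtype, y, a, b, hab, hQ.map _, ?_, ?_, ?_⟩
      · rwa [Ne, Subgroup.map_eq_bot_iff_of_injective _ M.subtype_injective]
      · rw [Subgroup.orderOf_coe, hy]
      · rintro c ⟨c', hc', rfl⟩
        exact ⟨y * c' * y⁻¹, hyQ c' hc', rfl⟩
    · obtain ⟨Q, y, h1, h2, h3, h4⟩ := frat q r hq hr hqM hrM hrG
      exact ⟨Q, y, q, r, Or.inl ⟨rfl, rfl⟩, h1, h2, h3, h4⟩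
  · by_cases hrM : r ∣ Nat.card M
    · obtain ⟨Q, y, h1, h2, h3, h4⟩ := frat r q hr hq hrM hqM hqG
      exact ⟨Q, y, r, q, Or.inr ⟨rfl, rfl⟩, h1, h2, h3, h4⟩
    · -- both primes divide the order of the abelianization
      have hcardq : Nat.card G = Nat.card (G ⧸ M) * Nat.card M :=
        Subgroup.card_eq_card_quotient_mul_card_subgroup M
      have hq' : q ∣ Nat.card (G ⧸ M) := by
        rw [hcardq] at hqG
        exact (Nat.Prime.dvd_mul hq).mp hqG |>.resolve_right hqM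
      have hr' : r ∣ Nat.card (G ⧸ M) := by
        rw [hcardq] at hrG
        exact (Nat.Prime.dvd_mul hr).mp hrG |>.resolve_right hrM
      have : Fact q.Prime := ⟨hq⟩
      have : Fact r.Prime := ⟨hr⟩
      obtain ⟨x1, hx1⟩ := exists_prime_orderOf_dvd_card' q hq'
      obtain ⟨x2, hx2⟩ := exists_prime_orderOf_dvd_card' r hr'
      have hcomm : Commute x1 x2 := by
        have : ∀ a b : Abelianization G, a * b = b * a := mul_comm
        exact this x1 x2
      obtain ⟨w, hw⟩ := exists_orderOf_lift (QuotientGroup.mk' M) (QuotientGroup.mk'_surjective M)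
        (q * r) ⟨x1 * x2, orderOf_mul_of_commute hq hr hqr hcomm hx1 hx2⟩
      have hwr : orderOf (w ^ r) = q := by
        rw [orderOf_pow_of_dvd hr.ne_zero (hw ▸ Dvd.intro_left q rfl), hw,
          Nat.mul_div_cancel _ hr.pos]
      have hwq : orderOf (w ^ q) = r := by
        rw [orderOf_pow_of_dvd hq.ne_zero (hw ▸ Dvd.intro r rfl), hw,
          Nat.mul_div_cancel_left _ hq.pos]
      refine ⟨Subgroup.zpowers (w ^ r), w ^ q, q, r, Or.inl ⟨rfl, rfl⟩, ?_, ?_, hwq, ?_⟩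
      · apply IsPGroup.of_card (n := 1)
        rw [Nat.card_zpowers, hwr, pow_one]
      · rw [Ne, Subgroup.zpowers_eq_bot]
        intro h
        rw [h, orderOf_one] at hwr
        exact hq.one_lt.ne hwr
      · intro c hc
        obtain ⟨k, rfl⟩ := Subgroup.mem_zpowers_iff.mp hc
        have hc' : Commute (w ^ q) ((w ^ r) ^ k) := (Commute.pow_pow_self w q r).zpow_right k
        rw [hc'.eq, mul_inv_cancel_right]
        exact hc

/-- symmetric form of the conclusion -/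
def Adj (G : Type*) [Group G] (p q r : ℕ) : Prop :=
  ∃ a b : ℕ, (a = p ∨ a = q ∨ a = r) ∧ (b = p ∨ b = q ∨ b = r) ∧ a ≠ b ∧ ∃ x : G, orderOf x = a * b

theorem Adj.elim {G : Type*} [Group G] {p q r : ℕ} (h : Adj G p q r) :
    (∃ x : G, orderOf x = p * q) ∨ (∃ x : G, orderOf x = p * r) ∨ (∃ x : G, orderOf x = q * r) := by
  obtain ⟨a, b, ha, hb, hab, x, hx⟩ := h
  rcases ha with rfl | rfl | rfl <;> rcases hb with rfl | rfl | rfl
  · exact absurd rfl hab
  · exact Or.inl ⟨x, hx⟩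
  · exact Or.inr (Or.inl ⟨x, hx⟩)
  · exact Or.inl ⟨x, by rw [hx, mul_comm]⟩
  · exact absurd rfl hab
  · exact Or.inr (Or.inr ⟨x, hx⟩)
  · exact Or.inr (Or.inl ⟨x, by rw [hx, mul_comm]⟩)
  · exact Or.inr (Or.inr ⟨x, by rw [hx, mul_comm]⟩)
  · exact absurd rfl hab

theorem Adj.of_config {G : Type*} [Group G] {p q r p' q' r' : ℕ}
    (hp : p = p' ∨ p = q' ∨ p = r') (hq : q = p' ∨ q = q' ∨ q = r') (hr : r = p' ∨ r = q' ∨ r = r')
    (hpq : p ≠ q) (hpr : p ≠ r) (hqr : q ≠ r)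
    (h : (∃ x : G, orderOf x = p * q) ∨ (∃ x : G, orderOf x = p * r) ∨ (∃ x : G, orderOf x = q * r)) :
    Adj G p' q' r' := by
  rcases h with ⟨x, hx⟩ | ⟨x, hx⟩ | ⟨x, hx⟩
  · exact ⟨p, q, hp, hq, hpq, x, hx⟩
  · exact ⟨p, r, hp, hr, hpr, x, hx⟩
  · exact ⟨q, r, hq, hr, hqr, x, hx⟩

/-- one prime at the bottom, the two others anywhere -/
theorem adj_of_abelian_normal {G : Type*} [Group G] [Finite G] [Group.IsSolvable G]
    (A : Subgroup G) [A.Normal] (hAc : ∀ a ∈ A, ∀ b ∈ A, a * b = b * a)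
    (p q r : ℕ) (hp : p.Prime) (hq : q.Prime) (hr : r.Prime) (hpq : p ≠ q) (hpr : p ≠ r)
    (hqr : q ≠ r) (hpA : p ∣ Nat.card A) (hqG : q ∣ Nat.card G) (hrG : r ∣ Nat.card G) :
    (∃ x : G, orderOf x = p * q) ∨ (∃ x : G, orderOf x = p * r) ∨ (∃ x : G, orderOf x = q * r) := by
  obtain ⟨Q, y, a, b, hab, hQ, hQ1, hy, hyQ⟩ :=
    exists_normalized (Nat.card G) G rfl q r hq hr hqr hqG hrG
  rcases hab with ⟨rfl, rfl⟩ | ⟨rfl, rfl⟩
  · exact config A hAc p a b hp hq hr hpq hpr hqr hpA Q hQ hQ1 y hy hyQ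
  · have := config A hAc p a b hp hr hq hpr hpq hqr.symm hpA Q hQ hQ1 y hy hyQ
    rcases this with h | h | ⟨x, hx⟩
    · exact Or.inr (Or.inl h)
    · exact Or.inl h
    · exact Or.inr (Or.inr ⟨x, by rw [hx, mul_comm]⟩)

/-- **Lucido's three primes lemma**: in a finite solvable group, among three distinct prime divisors
of the order two are adjacent in the prime graph. -/
theorem solvable_three_primes.{u} (n : ℕ) : ∀ (G : Type u) [Group G] [Finite G]
    [Group.IsSolvable G], Nat.card G = n → ∀ p q r : ℕ, p.Prime → q.Prime → r.Prime → p ≠ q →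
    p ≠ r → q ≠ r → p ∣ Nat.card G → q ∣ Nat.card G → r ∣ Nat.card G → Adj G p q r := by
  induction n using Nat.strong_induction_on with
  | _ n ih =>
  intro G _ _ _ hn p q r hp hq hr hpq hpr hqr hpG hqG hrG
  have hnt : Nontrivial G := by
    rw [← Finite.one_lt_card_iff_nontrivial]
    exact lt_of_lt_of_le hq.one_lt (Nat.le_of_dvd Nat.card_pos hqG)
  obtain ⟨A, hAn, hA1, hAc⟩ := exists_abelian_normal G
  by_cases hpA : p ∣ Nat.card A
  · exact Adj.of_config (by simp) (by simp) (by simp) hpq hpr hqr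
      (adj_of_abelian_normal A hAc p q r hp hq hr hpq hpr hqr hpA hqG hrG)
  by_cases hqA : q ∣ Nat.card A
  · exact Adj.of_config (by simp) (by simp) (by simp) hpq.symm hqr hpr
      (adj_of_abelian_normal A hAc q p r hq hp hr hpq.symm hqr hpr hqA hpG hrG)
  by_cases hrA : r ∣ Nat.card A
  · exact Adj.of_config (by simp) (by simp) (by simp) hpr.symm hqr.symm hpq
      (adj_of_abelian_normal A hAc r p q hr hp hq hpr.symm hqr.symm hpq hrA hpG hqG)
  have hcard : Nat.card G = Nat.card (G ⧸ A) * Nat.card A :=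
    Subgroup.card_eq_card_quotient_mul_card_subgroup A
  have hlt : Nat.card (G ⧸ A) < n := by
    rw [← hn, hcard]
    have h1 : 1 < Nat.card A := by
      rw [Finite.one_lt_card_iff_nontrivial]
      exact (Subgroup.nontrivial_iff_ne_bot A).mpr hA1
    have h2 : 0 < Nat.card (G ⧸ A) := Nat.card_pos
    nlinarith
  have hd : ∀ s : ℕ, s.Prime → s ∣ Nat.card G → ¬ s ∣ Nat.card A → s ∣ Nat.card (G ⧸ A) := by
    intro s hs hsG hsA
    rw [hcard] at hsG
    exact (Nat.Prime.dvd_mul hs).mp hsG |>.resolve_right hsA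
  obtain ⟨a, b, ha, hb, hab, hx⟩ := ih _ hlt (G ⧸ A) rfl p q r hp hq hr hpq hpr hqr
    (hd p hp hpG hpA) (hd q hq hqG hqA) (hd r hr hrG hrA)
  exact ⟨a, b, ha, hb, hab,
    exists_orderOf_lift (QuotientGroup.mk' A) (QuotientGroup.mk'_surjective A) _ hx⟩

end solvable

end Cfsg.Agent.Lib.Helper64Coclique
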