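import Cfsg.Agent.Lib.Helper64J3Rep

/-!
# Tables of groups generated by three matrices (helper64)
-/

set_option autoImplicit false

namespace Cfsg.Agent.Helper64J3

open Cfsg.Spor

def h1 (r : ℕ) : ℕ := Nat.mod r 256
def h2 (r : ℕ) : ℕ := Nat.mod (Nat.shiftRight r 8) 256
def h3 (r : ℕ) : ℕ := Nat.mod (Nat.shiftRight r 16) 256
def hP (r : ℕ) : ℕ := Nat.mod (Nat.shiftRight r 24) 256
def hE (r : ℕ) : ℕ := Nat.mod (Nat.shiftRight r 32) 4
def hD (r : ℕ) : ℕ := Nat.shiftRight r 34

/-- the check for entry `i` of the table of the group generated by `s1`, `s2`, `s3`. -/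
def gt3OK (s1 s2 s3 : ℕ) (T X : ℕ → ℕ) (n i : ℕ) : Bool :=
  (Nat.blt (T i) (T (Nat.add i 1)) || Nat.beq (Nat.add i 1) n) &&
  Nat.blt (h1 (X i)) n && Nat.beq (mulC s1 (T i)) (T (h1 (X i))) &&
  Nat.blt (h2 (X i)) n && Nat.beq (mulC s2 (T i)) (T (h2 (X i))) &&
  Nat.blt (h3 (X i)) n && Nat.beq (mulC s3 (T i)) (T (h3 (X i))) &&
  (if Nat.beq (hD (X i)) 0 then Nat.beq (T i) cOne
   else
    Nat.blt (hP (X i)) n &&
    Nat.beq (Nat.add (hD (X (hP (X i)))) 1) (hD (X i)) &&
    Nat.beq (if Nat.beq (hE (X i)) 2 then h3 (X (hP (X i)))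
      else if Nat.beq (hE (X i)) 1 then h2 (X (hP (X i)))
      else h1 (X (hP (X i)))) i)

variable {F : Type*} [Field F] {ω : F} [Om F ω]

theorem gtab3_of_check {g1 g2 g3 : GL F9 F} {s1 s2 s3 : ℕ} {T X : ℕ → ℕ} {n i0 : ℕ}
    (hT : ∀ i, T i < P162) (hg1 : Rep ω g1 s1) (hg2 : Rep ω g2 s2) (hg3 : Rep ω g3 s3)
    (hi0 : i0 < n) (h0 : T i0 = cOne)
    (h : allB n (gt3OK s1 s2 s3 T X n) = true) : GTab ω (Subgroup.closure {g1, g2, g3}) T n := by
  rw [allB_iff] at h
  have hstep : ∀ i, i + 1 < n → T i < T (i + 1) := by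
    intro i hi
    have := h i (by omega)
    simp only [gt3OK, Bool.and_eq_true, Bool.or_eq_true, Nat.blt_eq, Nat.beq_eq] at this
    rcases this.1.1.1.1.1.1.1 with h1 | h1
    · exact h1
    · have : i + 1 = n := h1
      omega
  have hn1 : ∀ i < n, h1 (X i) < n ∧
      (g1 : Matrix F9 F9 F) * toMat ω (T i) = toMat ω (T (h1 (X i))) := by
    intro i hi
    have := h i hi
    simp only [gt3OK, Bool.and_eq_true, Nat.blt_eq, Nat.beq_eq] at this
    refine ⟨this.1.1.1.1.1.1.2, ?_⟩
    rw [hg1, ← toMat_mulC, this.1.1.1.1.1.2]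
  have hn2 : ∀ i < n, h2 (X i) < n ∧
      (g2 : Matrix F9 F9 F) * toMat ω (T i) = toMat ω (T (h2 (X i))) := by
    intro i hi
    have := h i hi
    simp only [gt3OK, Bool.and_eq_true, Nat.blt_eq, Nat.beq_eq] at this
    refine ⟨this.1.1.1.1.2, ?_⟩
    rw [hg2, ← toMat_mulC, this.1.1.1.2]
  have hn3 : ∀ i < n, h3 (X i) < n ∧
      (g3 : Matrix F9 F9 F) * toMat ω (T i) = toMat ω (T (h3 (X i))) := by
    intro i hi
    have := h i hi
    simp only [gt3OK, Bool.and_eq_true, Nat.blt_eq, Nat.beq_eq] at this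
    refine ⟨this.1.1.2, ?_⟩
    rw [hg3, ← toMat_mulC, this.1.2]
  have hclos := exists_eq_of_mem_closure ({g1, g2, g3} : Set (GL F9 F))
    (fun i : Fin n => toMat ω (T i.val)) ⟨i0, hi0⟩ (by simp only; rw [h0, toMat_cOne]) (by
      intro s hs i
      rcases hs with rfl | rfl | rfl
      · exact ⟨⟨_, (hn1 i.val i.isLt).1⟩, (hn1 i.val i.isLt).2⟩
      · exact ⟨⟨_, (hn2 i.val i.isLt).1⟩, (hn2 i.val i.isLt).2⟩
      · exact ⟨⟨_, (hn3 i.val i.isLt).1⟩, (hn3 i.val i.isLt).2⟩)
  have hreach : ∀ d, ∀ i < n, hD (X i) = d →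
      ∃ g ∈ Subgroup.closure ({g1, g2, g3} : Set (GL F9 F)), Rep ω g (T i) := by
    intro d
    induction d with
    | zero =>
      intro i hi hd
      have := h i hi
      simp only [gt3OK, Bool.and_eq_true, hd] at this
      have h2 : T i = cOne := by simpa using this.2
      exact ⟨1, Subgroup.one_mem _, Rep.one.cast h2.symm⟩
    | succ d ih =>
      intro i hi hd
      have := h i hi
      simp only [gt3OK, Bool.and_eq_true, hd] at this
      have h2 := this.2
      have hne : Nat.beq (d + 1) 0 = false := rfl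
      rw [hne] at h2
      simp only [Bool.false_eq_true, if_false, Bool.and_eq_true, Nat.blt_eq, Nat.beq_eq] at h2
      obtain ⟨⟨hp, hdp⟩, hnx⟩ := h2
      have hdp' : hD (X (hP (X i))) = d := by
        have : hD (X (hP (X i))) + 1 = d + 1 := hdp
        omega
      obtain ⟨g, hg, hr⟩ := ih _ hp hdp'
      by_cases he2 : hE (X i) = 2
      · rw [if_pos he2] at hnx
        refine ⟨g3 * g, Subgroup.mul_mem _ (Subgroup.subset_closure (by simp)) hg, ?_⟩
        have h3 := (hn3 _ hp).2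
        rw [hnx] at h3
        unfold Rep at *
        rw [Units.val_mul, hr, h3]
      · rw [if_neg he2] at hnx
        by_cases he : hE (X i) = 1
        · rw [if_pos he] at hnx
          refine ⟨g2 * g, Subgroup.mul_mem _ (Subgroup.subset_closure (by simp)) hg, ?_⟩
          have h3 := (hn2 _ hp).2
          rw [hnx] at h3
          unfold Rep at *
          rw [Units.val_mul, hr, h3]
        · rw [if_neg he] at hnx
          refine ⟨g1 * g, Subgroup.mul_mem _ (Subgroup.subset_closure (by simp)) hg, ?_⟩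
          have h3 := (hn1 _ hp).2
          rw [hnx] at h3
          unfold Rep at *
          rw [Units.val_mul, hr, h3]
  exact
    { lt := hT
      of_mem := fun g hg => by
        obtain ⟨i, hi⟩ := hclos g hg
        exact ⟨i.val, i.isLt, hi⟩
      mem := fun i hi => hreach _ i hi rfl
      inj := fun i hi j hj hij => inj_of_step _ n hstep i j hi hj hij }

end Cfsg.Agent.Helper64J3
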