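import Cfsg.Agent.Lib.Helper64J1Order
import Cfsg.Agent.Lib.Helper64J1Group

/-!
# Local data of `J1`: order, centralisers of elements of order 19, 11, 7, 5 (helper64)
-/

set_option autoImplicit false

namespace Cfsg.Agent.Helper64J1

open Cfsg.Spor

/-- the centraliser bound obtained from an orbit table of the fixed line and an element inducing
an automorphism of order `m`. -/
theorem cent_card_le {wa wb : List Bool} {ca cb cv cphi cL beta tab N r m p : ℕ}
    (hca : evC wa = ca) (hcb : evC wb = cb) (hp : 0 < p) (hord : ordOK ca p = true)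
    (hfix : fixOK ca cL cv cphi = true) (hv : mvC ca cv = cv) (hlead : leadOK cv = true)
    (hb : mvC cb cv = smC beta cv) (hbeta : beta % 11 ≠ 0)
    (hconj : mulC cb ca = mulC (powC ca r) cb)
    (horb : allLt N (orbOK tab N cv) = true)
    (hr : ∀ i < m, ∀ j < m, r ^ i ≡ r ^ j [MOD p] → i = j) :
    N * (m * Nat.card (Subgroup.centralizer {evW wa} ⊓ J1 : Subgroup GL7)) ≤ Nat.card J1 := by
  have hfld : Fact (Nat.Prime 11) := ⟨by norm_num⟩
  have ra : Rep (evW wa) ca := (rep_evW wa).cast hca
  have rb : Rep (evW wb) cb := (rep_evW wb).cast hcb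
  have h1 := orbit_bound tab N cv horb
  have hCS : (Subgroup.centralizer {evW wa} ⊓ J1 : Subgroup GL7) ≤ lineStab (toVec cv) ⊓ J1 := by
    intro c hc
    refine ⟨mem_lineStab_of_commute ra hfix hv hlead c ?_, hc.2⟩
    have := Subgroup.mem_centralizer_singleton_iff.mp hc.1
    exact this
  have hbS : evW wb ∈ (lineStab (toVec cv) ⊓ J1 : Subgroup GL7) := by
    refine ⟨?_, evW_mem wb⟩
    have hne : ((beta : ℕ) : ZMod 11) ≠ 0 := by
      intro h0
      rw [ZMod.natCast_eq_zero_iff] at h0
      exact hbeta (Nat.mod_eq_zero_of_dvd h0)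
    refine ⟨Units.mk0 _ hne, ?_⟩
    rw [rb, ← toVec_mvC, hb, toVec_smC]
    rfl
  have hconj' : evW wb * evW wa * (evW wb)⁻¹ = evW wa ^ r := by
    rw [mul_inv_eq_iff_eq_mul]
    exact (rb.mul ra).ext (((ra.pow r).mul rb).cast hconj.symm)
  have h2 := cent_bound (Subgroup.centralizer {evW wa} ⊓ J1 : Subgroup GL7) _ hCS (evW wa) (evW wb)
    hbS r m p hconj' (orderOf_of_ordOK ra hp hord) hr (by
      intro c hc
      exact Subgroup.mem_centralizer_singleton_iff.mp hc.1)
  calc N * (m * Nat.card (Subgroup.centralizer {evW wa} ⊓ J1 : Subgroup GL7))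
      ≤ N * Nat.card (lineStab (toVec cv) ⊓ J1 : Subgroup GL7) := Nat.mul_le_mul_left _ h2
    _ ≤ Nat.card J1 := h1

set_option maxRecDepth 100000 in
theorem cent19 : 1540 * (6 * Nat.card (Subgroup.centralizer {evW wA19} ⊓ J1 : Subgroup GL7)) ≤
    Nat.card J1 :=
  cent_card_le (wb := wB19) (ca := cA19) (cb := cB19) (cv := cV19) (cphi := cPhi19) (cL := cL19)
    (beta := beta19) (tab := tab19) (r := 8) (p := 19)
    (by decide +kernel) (by decide +kernel) (by norm_num) (by decide +kernel) (by decide +kernel)
    (by decide +kernel) (by decide +kernel) (by decide +kernel) (by decide +kernel)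
    (by decide +kernel) (by decide +kernel) (by decide +kernel)

set_option maxRecDepth 100000 in
theorem cent11 : 1596 * (10 * Nat.card (Subgroup.centralizer {evW wA11} ⊓ J1 : Subgroup GL7)) ≤
    Nat.card J1 :=
  cent_card_le (wb := wB11) (ca := cA11) (cb := cB11) (cv := cV11) (cphi := cPhi11) (cL := cL11)
    (beta := beta11) (tab := tab11) (r := 8) (p := 11)
    (by decide +kernel) (by decide +kernel) (by norm_num) (by decide +kernel) (by decide +kernel)
    (by decide +kernel) (by decide +kernel) (by decide +kernel) (by decide +kernel)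
    (by decide +kernel) (by decide +kernel) (by decide +kernel)

set_option maxRecDepth 100000 in
theorem cent7 : 4180 * (6 * Nat.card (Subgroup.centralizer {evW wA7} ⊓ J1 : Subgroup GL7)) ≤
    Nat.card J1 :=
  cent_card_le (wb := wB7) (ca := cA7) (cb := cB7) (cv := cV7) (cphi := cPhi7) (cL := cL7)
    (beta := beta7) (tab := tab7) (r := 3) (p := 7)
    (by decide +kernel) (by decide +kernel) (by norm_num) (by decide +kernel) (by decide +kernel)
    (by decide +kernel) (by decide +kernel) (by decide +kernel) (by decide +kernel)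
    (by decide +kernel) (by decide +kernel) (by decide +kernel)

set_option maxRecDepth 100000 in
theorem cent5 : 2926 * (2 * Nat.card (Subgroup.centralizer {evW wA5} ⊓ J1 : Subgroup GL7)) ≤
    Nat.card J1 :=
  cent_card_le (wb := wB5) (ca := cA5) (cb := cB5) (cv := cV5) (cphi := cPhi5) (cL := cL5)
    (beta := beta5) (tab := tab5) (r := 4) (p := 5)
    (by decide +kernel) (by decide +kernel) (by norm_num) (by decide +kernel) (by decide +kernel)
    (by decide +kernel) (by decide +kernel) (by decide +kernel) (by decide +kernel)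
    (by decide +kernel) (by decide +kernel) (by decide +kernel)

end Cfsg.Agent.Helper64J1
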