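import Cfsg.Agent.Lib.Helper64J1Data
import Cfsg.Agent.Lib.Helper64J1Tab

/-!
# The order of `J1` is at most 175560 (helper64)
-/

set_option autoImplicit false

namespace Cfsg.Agent.Helper64J1

open Cfsg.Spor

/-- order check: `c ^ n = 1` and `c ^ d ≠ 1` for the proper divisors `d` of `n`. -/
def ordOK (c n : ℕ) : Bool :=
  Nat.beq (powC c n) cOne &&
    allLt n fun d => Nat.beq d 0 || !(Nat.beq (Nat.mod n d) 0) || neC (powC c d) cOne

theorem orderOf_of_ordOK {g : GL7} {c n : ℕ} (hg : Rep g c) (hn : 0 < n)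
    (h : ordOK c n = true) : orderOf g = n := by
  simp only [ordOK, Bool.and_eq_true, Nat.beq_eq, allLt_iff, Bool.or_eq_true,
    Bool.not_eq_true'] at h
  obtain ⟨h1, h2⟩ := h
  have hpow : g ^ n = 1 := (hg.pow n).ext (Rep.one.cast h1.symm)
  have hdvd : orderOf g ∣ n := orderOf_dvd_of_pow_eq_one hpow
  by_contra hne
  have hlt : orderOf g < n := lt_of_le_of_ne (Nat.le_of_dvd hn hdvd) hne
  have hpos : 0 < orderOf g := Nat.pos_of_dvd_of_pos hdvd hn
  rcases h2 _ hlt with (h3 | h3) | h3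
  · omega
  · exact Nat.ne_of_beq_eq_false h3 (Nat.mod_eq_zero_of_dvd hdvd)
  · exact (hg.pow _).ne Rep.one h3 (pow_orderOf_eq_one g)

/-- transversal element number `i`. -/
def Uc (i : ℕ) : ℕ := Nat.mod (Nat.shiftRight Ubig (Nat.mul 196 i)) (Nat.pow 2 196)
/-- element number `i` of `19:6`. -/
def Kc (i : ℕ) : ℕ := Nat.mod (Nat.shiftRight Kbig (Nat.mul 196 i)) (Nat.pow 2 196)

def a19 : GL7 := evW wA19
def b19 : GL7 := evW wB19

theorem rep_a19 : Rep a19 cA19 := (rep_evW _).cast (by decide +kernel)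
theorem rep_b19 : Rep b19 cB19 := (rep_evW _).cast (by decide +kernel)
theorem a19_mem : a19 ∈ J1 := evW_mem _
theorem b19_mem : b19 ∈ J1 := evW_mem _

theorem orderOf_a19 : orderOf a19 = 19 := orderOf_of_ordOK rep_a19 (by norm_num) (by decide +kernel)
theorem orderOf_b19 : orderOf b19 = 6 := orderOf_of_ordOK rep_b19 (by norm_num) (by decide +kernel)

/-- the subgroup `19:6`. -/
def K0 : Subgroup GL7 := Subgroup.closure {a19, b19}

def kstepOK (s C i : ℕ) : Bool :=
  Nat.blt (Nat.mod (Nat.shiftRight C (Nat.mul 16 i)) 65536) 114 &&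
    Nat.beq (mulC s (Kc i)) (Kc (Nat.mod (Nat.shiftRight C (Nat.mul 16 i)) 65536))

set_option maxRecDepth 100000 in
theorem kstepA : allLt 114 (kstepOK cA19 KAbig) = true := by decide +kernel
set_option maxRecDepth 100000 in
theorem kstepB : allLt 114 (kstepOK cB19 KBbig) = true := by decide +kernel

theorem kstep {g : GL7} {s C : ℕ} (hg : Rep g s) (h : allLt 114 (kstepOK s C) = true)
    (i : Fin 114) : ∃ j : Fin 114, (g : Mat) * toMat (Kc i.val) = toMat (Kc j.val) := by
  rw [allLt_iff] at h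
  have := h i.val i.isLt
  simp only [kstepOK, Bool.and_eq_true, Nat.blt_eq, Nat.beq_eq] at this
  obtain ⟨h1, h2⟩ := this
  generalize Nat.mod (Nat.shiftRight C (Nat.mul 16 i.val)) 65536 = j at h1 h2
  exact ⟨⟨j, h1⟩, by rw [hg, ← toMat_mulC, h2]⟩

theorem Kc_zero : toMat (Kc 0) = 1 := by
  have : Kc 0 = cOne := by decide +kernel
  rw [this, toMat_cOne]

theorem K0_step : ∀ s ∈ ({a19, b19} : Set GL7), ∀ i : Fin 114,
    ∃ j : Fin 114, (s : Mat) * toMat (Kc i.val) = toMat (Kc j.val) := by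
  intro s hs i
  rcases hs with rfl | rfl
  · exact kstep rep_a19 kstepA i
  · exact kstep rep_b19 kstepB i

theorem card_K0 : Nat.card K0 = 114 := by
  have h1 : Nat.card K0 ≤ 114 := by
    have := card_closure_le {a19, b19} (fun j : Fin 114 => toMat (Kc j.val)) 0 Kc_zero K0_step
    rw [Nat.card_fin] at this
    exact this
  have ha : 19 ∣ Nat.card K0 := by
    have := Subgroup.orderOf_dvd_natCard K0 (x := a19) (Subgroup.subset_closure (by simp))
    rwa [orderOf_a19] at this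
  have hb : 6 ∣ Nat.card K0 := by
    have := Subgroup.orderOf_dvd_natCard K0 (x := b19) (Subgroup.subset_closure (by simp))
    rwa [orderOf_b19] at this
  have h114 : 114 ∣ Nat.card K0 := by
    have : Nat.Coprime 19 6 := by norm_num
    exact this.mul_dvd_of_dvd_of_dvd ha hb
  have hpos : 0 < Nat.card K0 := Nat.card_pos
  exact le_antisymm h1 (Nat.le_of_dvd hpos h114)

theorem Kc_mem (i : Fin 114) : ∃ g ∈ K0, (g : Mat) = toMat (Kc i.val) :=
  exists_mem_closure_eq {a19, b19} (fun j : Fin 114 => toMat (Kc j.val)) 0 Kc_zero K0_step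
    (by rw [Nat.card_fin]; exact card_K0.ge) i

theorem Kc_of_mem (g : GL7) (hg : g ∈ K0) : ∃ i : Fin 114, (g : Mat) = toMat (Kc i.val) :=
  exists_eq_of_mem_closure {a19, b19} (fun j : Fin 114 => toMat (Kc j.val)) 0 Kc_zero K0_step g hg

theorem Kc_mul (i j : Fin 114) : ∃ l : Fin 114, toMat (Kc i.val) * toMat (Kc j.val) = toMat (Kc l.val) := by
  obtain ⟨g, hg, hgi⟩ := Kc_mem i
  obtain ⟨h, hh, hhj⟩ := Kc_mem j
  obtain ⟨l, hl⟩ := Kc_of_mem (g * h) (K0.mul_mem hg hh)
  exact ⟨l, by rw [← hgi, ← hhj, ← Units.val_mul, hl]⟩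

def stepOK (s C i : ℕ) : Bool :=
  Nat.blt (Nat.mod (Nat.shiftRight C (Nat.mul 32 i)) 65536) 1540 &&
  Nat.blt (Nat.mod (Nat.shiftRight C (Nat.add (Nat.mul 32 i) 16)) 65536) 114 &&
  Nat.beq (mulC s (Uc i))
    (mulC (Uc (Nat.mod (Nat.shiftRight C (Nat.mul 32 i)) 65536))
      (Kc (Nat.mod (Nat.shiftRight C (Nat.add (Nat.mul 32 i) 16)) 65536)))

set_option maxRecDepth 100000 in
theorem stepX : allLt 1540 (stepOK cX CXbig) = true := by decide +kernel

set_option maxRecDepth 100000 in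
theorem stepY : allLt 1540 (stepOK cY CYbig) = true := by decide +kernel

theorem step {g : GL7} {s C : ℕ} (hg : Rep g s) (h : allLt 1540 (stepOK s C) = true)
    (p : Fin 1540 × Fin 114) : ∃ q : Fin 1540 × Fin 114,
      (g : Mat) * (toMat (Uc p.1.val) * toMat (Kc p.2.val)) =
        toMat (Uc q.1.val) * toMat (Kc q.2.val) := by
  rw [allLt_iff] at h
  have := h p.1.val p.1.isLt
  simp only [stepOK, Bool.and_eq_true, Nat.blt_eq, Nat.beq_eq] at this
  obtain ⟨⟨h1, h2⟩, h3⟩ := this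
  obtain ⟨l, hl⟩ := Kc_mul ⟨_, h2⟩ p.2
  refine ⟨(⟨_, h1⟩, l), ?_⟩
  have h4 := congrArg toMat h3
  rw [toMat_mulC, toMat_mulC] at h4
  rw [hg, ← mul_assoc, h4, mul_assoc, hl]

theorem Uc_zero : toMat (Uc 0) = 1 := by
  have : Uc 0 = cOne := by decide +kernel
  rw [this, toMat_cOne]

theorem card_J1_le : Nat.card J1 ≤ 175560 := by
  have := card_closure_le {jankoX, jankoY}
    (fun p : Fin 1540 × Fin 114 => toMat (Uc p.1.val) * toMat (Kc p.2.val)) (0, 0)
    (by simp only [Fin.val_zero]; rw [Uc_zero, Kc_zero, one_mul]) (by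
      intro s hs p
      rcases hs with rfl | rfl
      · exact step repX stepX p
      · exact step repY stepY p)
  rw [Nat.card_prod, Nat.card_fin, Nat.card_fin] at this
  exact this

end Cfsg.Agent.Helper64J1
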