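import Cfsg.Agent.Lib.Helper64J1Spec

/-!
# `J1` is simple (helper64)
-/

set_option autoImplicit false

namespace Cfsg.Agent.Helper64J1

open Cfsg.Spor

theorem simple_175560 {G : Type*} [Group G] [Finite G] (hcard : Nat.card G = 175560)
    (X Y a19 a11 : G) (hgen : Subgroup.closure {X, Y} = ⊤) (hY : Y ^ 5 = 1)
    (e19 : a19 = X ^ 3 * Y) (e11 : a11 = X * Y ^ 2)
    (h19 : orderOf a19 = 19) (h11 : orderOf a11 = 11) (h7 : orderOf X = 7)
    (C19 C11 C7 : Subgroup G)
    (hC19 : ∀ c, Commute c a19 → c ∈ C19) (k19 : Nat.card C19 ≤ 19)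
    (hC11 : ∀ c, Commute c a11 → c ∈ C11) (k11 : Nat.card C11 ≤ 11)
    (hC7 : ∀ c, Commute c X → c ∈ C7) (k7 : Nat.card C7 ≤ 7) : IsSimpleGroup G := by
  have p19 : Fact (Nat.Prime 19) := ⟨by norm_num⟩
  have p11 : Fact (Nat.Prime 11) := ⟨by norm_num⟩
  have p7 : Fact (Nat.Prime 7) := ⟨by norm_num⟩
  have f19 : (Nat.card G).factorization 19 = 1 := by
    rw [hcard]; exact factorization_eq_of_dvd (by norm_num) (by norm_num) (by norm_num) (by norm_num)
  have f11 : (Nat.card G).factorization 11 = 1 := by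
    rw [hcard]; exact factorization_eq_of_dvd (by norm_num) (by norm_num) (by norm_num) (by norm_num)
  have f7 : (Nat.card G).factorization 7 = 1 := by
    rw [hcard]; exact factorization_eq_of_dvd (by norm_num) (by norm_num) (by norm_num) (by norm_num)
  have hX : X ^ 7 = 1 := by rw [← h7]; exact pow_orderOf_eq_one X
  have hnt : Nontrivial G := by
    rw [← Finite.one_lt_card_iff_nontrivial, hcard]; norm_num
  refine ⟨fun N hN => ?_⟩
  have top_of : X ∈ N → Y ∈ N → N = ⊤ := by
    intro h1 h2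
    rw [eq_top_iff, ← hgen, Subgroup.closure_le]
    rintro z (rfl | rfl)
    · exact h1
    · exact h2
  have mem_iff : ∀ z : G, z ∈ N ↔ (QuotientGroup.mk' N z) = 1 := by
    intro z
    exact (QuotientGroup.eq_one_iff z).symm
  set φ := QuotientGroup.mk' N with hφ
  have qX : φ X ^ 7 = 1 := by rw [← map_pow, hX, map_one]
  have qY : φ Y ^ 5 = 1 := by rw [← map_pow, hY, map_one]
  have A : a19 ∈ N → N = ⊤ := by
    intro h
    rw [mem_iff, e19, map_mul, map_pow] at h
    have hy : φ Y = (φ X ^ 3)⁻¹ := eq_inv_of_mul_eq_one_right h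
    have h15 : φ X ^ 15 = 1 := by
      have := qY
      rw [hy, inv_pow, inv_eq_one, ← pow_mul] at this
      exact this
    have hx : φ X = 1 := by
      have : φ X ^ 15 = (φ X ^ 7) ^ 2 * φ X := by rw [← pow_mul, ← pow_succ]
      rw [h15, qX, one_pow, one_mul] at this
      exact this.symm
    have hy' : φ Y = 1 := by rw [hy, hx]; simp
    exact top_of ((mem_iff _).mpr hx) ((mem_iff _).mpr hy')
  have B : a11 ∈ N → N = ⊤ := by
    intro h
    rw [mem_iff, e11, map_mul, map_pow] at h
    have hx : φ X = (φ Y ^ 2)⁻¹ := eq_inv_of_mul_eq_one_left h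
    have h14 : φ Y ^ 14 = 1 := by
      have := qX
      rw [hx, inv_pow, inv_eq_one, ← pow_mul] at this
      exact this
    have hy : φ Y = 1 := by
      have e : φ Y ^ 15 = φ Y ^ 14 * φ Y := pow_succ _ _
      have e' : φ Y ^ 15 = (φ Y ^ 5) ^ 3 := by rw [← pow_mul]
      rw [e', qY, one_pow, h14, one_mul] at e
      exact e.symm
    have hx' : φ X = 1 := by rw [hx, hy]; simp
    exact top_of ((mem_iff _).mpr hx') ((mem_iff _).mpr hy)
  have C : X ∈ N → N = ⊤ := by
    intro h
    have hx : φ X = 1 := (mem_iff _).mp h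
    have h5 : a19 ^ 5 ∈ N := by
      rw [mem_iff, e19, map_pow, map_mul, map_pow, hx, one_pow, one_mul, qY]
    have ho : orderOf (a19 ^ 5) = 19 := by
      rw [Nat.Coprime.orderOf_pow (by rw [h19]; norm_num), h19]
    have hd : 19 ∣ Nat.card N := by
      rw [← ho]; exact Subgroup.orderOf_dvd_natCard N h5
    exact A (mem_normal_of_dvd 19 f19 N hd a19 h19)
  by_cases d19 : 19 ∣ Nat.card N
  · exact Or.inr (A (mem_normal_of_dvd 19 f19 N d19 a19 h19))
  by_cases d11 : 11 ∣ Nat.card N
  · exact Or.inr (B (mem_normal_of_dvd 11 f11 N d11 a11 h11))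
  by_cases d7 : 7 ∣ Nat.card N
  · exact Or.inr (C (mem_normal_of_dvd 7 f7 N d7 X h7))
  left
  have m19 := card_modEq_one_of_cent 19 a19 h19 C19 hC19 k19 N d19
  have m11 := card_modEq_one_of_cent 11 a11 h11 C11 hC11 k11 N d11
  have m7 := card_modEq_one_of_cent 7 X h7 C7 hC7 k7 N d7
  have hdvd : Nat.card N ∣ 175560 := hcard ▸ Subgroup.card_subgroup_dvd_card N
  have e1 : Nat.card N ∣ 9240 := by
    have hc : Nat.Coprime (Nat.card N) 19 :=
      ((Nat.Prime.coprime_iff_not_dvd (by norm_num)).mpr d19).symm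
    exact hc.dvd_of_dvd_mul_left (by norm_num; exact hdvd)
  have e2 : Nat.card N ∣ 840 := by
    have hc : Nat.Coprime (Nat.card N) 11 :=
      ((Nat.Prime.coprime_iff_not_dvd (by norm_num)).mpr d11).symm
    exact hc.dvd_of_dvd_mul_left (by norm_num; exact e1)
  have e3 : Nat.card N ∣ 120 := by
    have hc : Nat.Coprime (Nat.card N) 7 :=
      ((Nat.Prime.coprime_iff_not_dvd (by norm_num)).mpr d7).symm
    exact hc.dvd_of_dvd_mul_left (by norm_num; exact e2)
  have hmem : Nat.card N ∈ Nat.divisors 120 := Nat.mem_divisors.mpr ⟨e3, by norm_num⟩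
  have key : ∀ n ∈ Nat.divisors 120, n % 19 = 1 % 19 → n % 11 = 1 % 11 → n = 1 := by decide
  exact Subgroup.card_eq_one.mp (key _ hmem m19 m11)

theorem closure_evJ : Subgroup.closure {evJ [false], evJ [true]} = (⊤ : Subgroup J1) := by
  have hX : evW [false] = jankoX := by simp [evW]
  have hY : evW [true] = jankoY := by simp [evW]
  rw [eq_top_iff]
  rintro ⟨g, hg⟩ -
  have key : ∀ g (hg : g ∈ J1), (⟨g, hg⟩ : J1) ∈ Subgroup.closure {evJ [false], evJ [true]} := by
    intro g hg
    induction hg using Subgroup.closure_induction with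
    | mem x hx =>
      rcases hx with rfl | rfl
      · exact Subgroup.subset_closure (Or.inl (Subtype.ext hX.symm))
      · exact Subgroup.subset_closure (Or.inr (Subtype.ext hY.symm))
    | one => exact Subgroup.one_mem _
    | mul x y hx hy ihx ihy => exact Subgroup.mul_mem _ ihx ihy
    | inv x hx ih => exact Subgroup.inv_mem _ ih
  exact key g hg

theorem isSimpleGroup_J1 : IsSimpleGroup J1 := by
  refine simple_175560 card_J1 (evJ [false]) (evJ [true]) (evJ wA19) (evJ wA11) closure_evJ ?_ ?_ ?_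
    (by rw [orderOf_evJ, orderOf_A19]) (by rw [orderOf_evJ, orderOf_A11])
    (by rw [orderOf_evJ]; exact orderOf_A7)
    (centJ (evW wA19)) (centJ (evW wA11)) (centJ (evW wA7))
    (mem_centJ _) card_cent19 (mem_centJ _) card_cent11 (mem_centJ _) card_cent7
  · have : orderOf (evJ [true]) = 5 := by rw [orderOf_evJ]; exact orderOf_A5
    rw [← this]; exact pow_orderOf_eq_one _
  · apply Subtype.ext
    simp [evJ, evW, wA19, pow_succ, mul_assoc]
  · apply Subtype.ext
    simp [evJ, evW, wA11, pow_succ]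

end Cfsg.Agent.Helper64J1
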