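import Cfsg.Agent.Lib.Helper64J1Local

/-!
# The order and the spectrum of `J1` (helper64)
-/

set_option autoImplicit false

namespace Cfsg.Agent.Helper64J1

open Cfsg.Spor

def wE1 : List Bool := [false, true, false, true, true, true, true]
def wE2 : List Bool := [true, false, true, true, true, true, false]
def wE3 : List Bool := [false, false, true, false, false, true, true, true, true]
def wC1 : List Bool := [false, false, true, false, false, true, true, true, false, true, false, true, true, false, true, false, true, true, false]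
def wC2 : List Bool := [false, false, false, false, false, true, false, true, false, false, true, true, false, true, true, false, true, false, false, true]
def wA6 : List Bool := [false, true, true, true]
def wA10 : List Bool := [false, true]
def wA15 : List Bool := [false, false, true, true, false, true, false, true, true]

/-- an elementary abelian subgroup of order 8. -/
def EE : Subgroup GL7 := Subgroup.closure {evW wE1, evW wE2, evW wE3}

theorem EE_le : EE ≤ J1 := by
  unfold EE
  rw [Subgroup.closure_le]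
  rintro x (rfl | rfl | rfl) <;> exact evW_mem _

theorem mul_eq_of_codes {u v u' v' : List Bool} (h : mulC (evC u) (evC v) = mulC (evC u') (evC v')) :
    evW u * evW v = evW u' * evW v' :=
  ((rep_evW u).mul (rep_evW v)).ext (((rep_evW u').mul (rep_evW v')).cast h.symm)

theorem sq_eq_one_of_codes {u : List Bool} (h : mulC (evC u) (evC u) = cOne) : evW u ^ 2 = 1 := by
  rw [pow_two]
  exact ((rep_evW u).mul (rep_evW u)).ext (Rep.one.cast h.symm)

theorem EE_sq : ∀ x ∈ EE, x ^ 2 = 1 := by
  refine sq_eq_one_of_mem_closure _ ?_ ?_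
  · rintro x (rfl | rfl | rfl)
    · exact sq_eq_one_of_codes (by decide +kernel)
    · exact sq_eq_one_of_codes (by decide +kernel)
    · exact sq_eq_one_of_codes (by decide +kernel)
  · have h12 : evW wE1 * evW wE2 = evW wE2 * evW wE1 := mul_eq_of_codes (by decide +kernel)
    have h13 : evW wE1 * evW wE3 = evW wE3 * evW wE1 := mul_eq_of_codes (by decide +kernel)
    have h23 : evW wE2 * evW wE3 = evW wE3 * evW wE2 := mul_eq_of_codes (by decide +kernel)
    rintro x (rfl | rfl | rfl) y (rfl | rfl | rfl)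
    · rfl
    · exact h12
    · exact h13
    · exact h12.symm
    · rfl
    · exact h23
    · exact h13.symm
    · exact h23.symm
    · rfl

/-- codes of the eight elements. -/
def cE (i : ℕ) : ℕ :=
  mulC (mulC (powC (evC wE1) (i % 2)) (powC (evC wE2) (i / 2 % 2))) (powC (evC wE3) (i / 4))

theorem cE_ne : allLt 8 (fun i => allLt 8 fun j => Nat.beq i j || neC (cE i) (cE j)) = true := by
  decide +kernel

theorem card_EE_ge : 8 ≤ Nat.card EE := by
  have h := card_mul_le (⊥ : Subgroup GL7) EE bot_le
    (fun i : Fin 8 => evW wE1 ^ (i.val % 2) * evW wE2 ^ (i.val / 2 % 2) * evW wE3 ^ (i.val / 4))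
    (fun i => EE.mul_mem (EE.mul_mem
      (EE.pow_mem (Subgroup.subset_closure (by simp)) _)
      (EE.pow_mem (Subgroup.subset_closure (by simp)) _))
      (EE.pow_mem (Subgroup.subset_closure (by simp)) _)) (by
      intro i j hij
      rw [Subgroup.mem_bot, inv_mul_eq_one] at hij
      by_contra hne
      have h1 := cE_ne
      simp only [allLt_iff, Bool.or_eq_true, Nat.beq_eq] at h1
      rcases h1 i.val i.isLt j.val j.isLt with h2 | h2
      · exact hne (Fin.ext h2)
      · exact Rep.ne ((((rep_evW wE1).pow _).mul ((rep_evW wE2).pow _)).mul ((rep_evW wE3).pow _))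
          ((((rep_evW wE1).pow _).mul ((rep_evW wE2).pow _)).mul ((rep_evW wE3).pow _)) h2 hij)
  simpa using h

theorem orderOf_evW {w : List Bool} {n : ℕ} (hn : 0 < n) (h : ordOK (evC w) n = true) :
    orderOf (evW w) = n := orderOf_of_ordOK (rep_evW w) hn h

theorem orderOf_A19 : orderOf (evW wA19) = 19 := orderOf_evW (by norm_num) (by decide +kernel)
theorem orderOf_A11 : orderOf (evW wA11) = 11 := orderOf_evW (by norm_num) (by decide +kernel)
theorem orderOf_A7 : orderOf (evW wA7) = 7 := orderOf_evW (by norm_num) (by decide +kernel)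
theorem orderOf_A5 : orderOf (evW wA5) = 5 := orderOf_evW (by norm_num) (by decide +kernel)
theorem orderOf_A6 : orderOf (evW wA6) = 6 := orderOf_evW (by norm_num) (by decide +kernel)
theorem orderOf_A10 : orderOf (evW wA10) = 10 := orderOf_evW (by norm_num) (by decide +kernel)
theorem orderOf_A15 : orderOf (evW wA15) = 15 := orderOf_evW (by norm_num) (by decide +kernel)

theorem card_J1 : Nat.card J1 = 175560 := by
  have d (w : List Bool) : orderOf (evW w) ∣ Nat.card J1 :=
    Subgroup.orderOf_dvd_natCard J1 (evW_mem w)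
  have d19 := d wA19; rw [orderOf_A19] at d19
  have d11 := d wA11; rw [orderOf_A11] at d11
  have d7 := d wA7; rw [orderOf_A7] at d7
  have d15 := d wA15; rw [orderOf_A15] at d15
  have d8 : 8 ∣ Nat.card J1 := by
    have hp : IsPGroup 2 EE := by
      intro x
      exact ⟨1, Subtype.ext (by simpa using EE_sq x.1 x.2)⟩
    have hfact : Fact (Nat.Prime 2) := ⟨Nat.prime_two⟩
    obtain ⟨k, hk⟩ := IsPGroup.iff_card.mp hp
    have h8 := card_EE_ge
    rw [hk] at h8
    have hk3 : 3 ≤ k := by
      by_contra hlt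
      have : k ≤ 2 := by omega
      have := Nat.pow_le_pow_right (n := 2) (by norm_num) this
      omega
    have h1 : 8 ∣ Nat.card EE := by
      rw [hk]; exact pow_dvd_pow 2 hk3
    exact h1.trans (Subgroup.card_dvd_of_le EE_le)
  have c1 : 8 * 15 ∣ Nat.card J1 := Nat.Coprime.mul_dvd_of_dvd_of_dvd (by norm_num) d8 d15
  have c2 : 8 * 15 * 7 ∣ Nat.card J1 := Nat.Coprime.mul_dvd_of_dvd_of_dvd (by norm_num) c1 d7
  have c3 : 8 * 15 * 7 * 11 ∣ Nat.card J1 := Nat.Coprime.mul_dvd_of_dvd_of_dvd (by norm_num) c2 d11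
  have c4 : 8 * 15 * 7 * 11 * 19 ∣ Nat.card J1 :=
    Nat.Coprime.mul_dvd_of_dvd_of_dvd (by norm_num) c3 d19
  exact le_antisymm card_J1_le (Nat.le_of_dvd Nat.card_pos c4)

/-- the centraliser in `J1`, as a subgroup of `J1`. -/
def centJ (a : GL7) : Subgroup J1 := (Subgroup.centralizer {a} ⊓ J1 : Subgroup GL7).subgroupOf J1

theorem card_centJ (a : GL7) :
    Nat.card (centJ a) = Nat.card (Subgroup.centralizer {a} ⊓ J1 : Subgroup GL7) :=
  Nat.card_congr (Subgroup.subgroupOfEquivOfLe inf_le_right).toEquiv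

theorem mem_centJ {a : GL7} (ha : a ∈ J1) (c : J1) (hc : Commute c ⟨a, ha⟩) : c ∈ centJ a := by
  refine Subgroup.mem_subgroupOf.mpr ⟨Subgroup.mem_centralizer_singleton_iff.mpr ?_, c.2⟩
  exact congrArg Subtype.val hc.eq

theorem card_cent19 : Nat.card (centJ (evW wA19)) ≤ 19 := by
  have := cent19; rw [card_J1, ← card_centJ] at this; omega
theorem card_cent11 : Nat.card (centJ (evW wA11)) ≤ 11 := by
  have := cent11; rw [card_J1, ← card_centJ] at this; omega
theorem card_cent7 : Nat.card (centJ (evW wA7)) ≤ 7 := by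
  have := cent7; rw [card_J1, ← card_centJ] at this; omega
theorem card_cent5 : Nat.card (centJ (evW wA5)) ≤ 30 := by
  have := cent5; rw [card_J1, ← card_centJ] at this; omega

/-- word elements as members of `J1`. -/
def evJ (w : List Bool) : J1 := ⟨evW w, evW_mem w⟩

theorem coe_evJ (w : List Bool) : (evJ w : GL7) = evW w := rfl

theorem orderOf_evJ (w : List Bool) : orderOf (evJ w) = orderOf (evW w) :=
  (Subgroup.orderOf_coe (evJ w)).symm

theorem orderOf_mem (g : J1) : orderOf g ∈ ({1, 2, 3, 5, 6, 7, 10, 11, 15, 19} : Finset ℕ) := by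
  refine spectrum_175560 card_J1 (evJ wA19) (evJ wA11) (evJ wA7) (evJ wA5)
    (by rw [orderOf_evJ, orderOf_A19]) (by rw [orderOf_evJ, orderOf_A11])
    (by rw [orderOf_evJ, orderOf_A7]) (by rw [orderOf_evJ, orderOf_A5])
    (centJ (evW wA19)) (centJ (evW wA11)) (centJ (evW wA7)) (centJ (evW wA5))
    (mem_centJ _) card_cent19 (mem_centJ _) card_cent11 (mem_centJ _) card_cent7
    (mem_centJ _) card_cent5 (evJ wC1) (evJ wC2) ?_ ?_ ?_ (EE.subgroupOf J1) ?_ ?_ g
  · exact Subtype.ext (mul_eq_of_codes (by decide +kernel))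
  · exact Subtype.ext (mul_eq_of_codes (by decide +kernel))
  · intro h
    have h1 := congrArg Subtype.val h.eq
    rw [Subgroup.coe_mul, Subgroup.coe_mul, coe_evJ, coe_evJ] at h1
    exact Rep.ne ((rep_evW wC1).mul (rep_evW wC2)) ((rep_evW wC2).mul (rep_evW wC1))
      (by decide +kernel) h1
  · intro x hx
    exact Subtype.ext (by simpa using EE_sq x.1 (Subgroup.mem_subgroupOf.mp hx))
  · rw [Nat.card_congr (Subgroup.subgroupOfEquivOfLe EE_le).toEquiv]
    exact card_EE_ge

theorem exists_orderOf (n : ℕ) (hn : n ∈ ({1, 2, 3, 5, 6, 7, 10, 11, 15, 19} : Finset ℕ)) :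
    ∃ g : J1, orderOf g = n := by
  have h6 : orderOf (evJ wA6) = 6 := by rw [orderOf_evJ, orderOf_A6]
  simp only [Finset.mem_insert, Finset.mem_singleton] at hn
  rcases hn with rfl | rfl | rfl | rfl | rfl | rfl | rfl | rfl | rfl | rfl
  · exact ⟨1, orderOf_one⟩
  · exact ⟨evJ wA6 ^ 3, by rw [orderOf_pow_of_dvd (by norm_num) (by rw [h6]; norm_num), h6]⟩
  · exact ⟨evJ wA6 ^ 2, by rw [orderOf_pow_of_dvd (by norm_num) (by rw [h6]; norm_num), h6]⟩
  · exact ⟨evJ wA5, by rw [orderOf_evJ, orderOf_A5]⟩
  · exact ⟨evJ wA6, h6⟩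
  · exact ⟨evJ wA7, by rw [orderOf_evJ, orderOf_A7]⟩
  · exact ⟨evJ wA10, by rw [orderOf_evJ, orderOf_A10]⟩
  · exact ⟨evJ wA11, by rw [orderOf_evJ, orderOf_A11]⟩
  · exact ⟨evJ wA15, by rw [orderOf_evJ, orderOf_A15]⟩
  · exact ⟨evJ wA19, by rw [orderOf_evJ, orderOf_A19]⟩

end Cfsg.Agent.Helper64J1
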