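import Cfsg.Agent.Lib.Helper64J3Rep

set_option autoImplicit false

namespace Cfsg.Agent.Helper64J2

open Cfsg.Agent.Helper64J3

def iU : ℕ := 0x215
def iV : ℕ := 0x5db
def jU : ℕ := 0x3
noncomputable def jeRT_0 : ℕ := 0x4000080001007e38138d87e10138ec4c030c0fc01000020000401d0c03210178847e07168a4202900400008000100742b1f0bc62301d034402e0708401000020000401c0a4022e000281237158104c1b0040000800010068121e844040a180005a291a0a001000020000401980c20230e06c7e07100b8402d00400008000100621a02868723d018e84c0308854010000200004018804520f0309c4e3b158104a3c004000080001005c2e0c84074181a0d01628028400100002000040150682023020947c39030bc701300400008000100523f1483c3e3e000101a051e094010000200004012810443c1688c122e00008442d0040000800010044150c824520e0e0540c2f188e40100002000040108c04c080c84c122e06814302400400008000100422b0d0dc2e330e0541628030dc01000020000400f0cc343714830740d168a4700800400008000100363b110f0243b048dc4c030e8d401000020000400d8801c29168845a3615810521c0040000800010032221b8146e1d1a828402e1603401000020000400a86400100a0585a361300c281f00400008000100240813020560c018e85604150ec0100002000040080447c360209c6a0a168a4380900400008000100200a0c824343618000402e010040100002000040078940a1a030940623000085c0d004000080001001611008b864150188c1a050a0100100002000040058287a111e0d42c18058a014170040000800010010341f0bc04080b0600c2f1e86401000020000400203c7c36088787c39058a0123000400008000100061e070a46838050241a05180140100002000040000ec6e051788c6834030bc6833004000080001005401138d8560e050240002060840100002000040000800010000200004000080001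
noncomputable def jeRT_sel (q : ℕ) : ℕ := jeRT_0
noncomputable def jeRT (i : ℕ) : ℕ := cAt (jeRT_sel (Nat.div i 400)) (Nat.mod i 400)

end Cfsg.Agent.Helper64J2
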