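import Cfsg.Agent.Lib.Helper64J3Invol

/-!
# Fingerprints of the pairs (involution, element of order 17) in `3·J₃` (helper64)
-/

set_option autoImplicit false

namespace Cfsg.Agent.Helper64J3

def sqC (u : ℕ) : ℕ := mulC u u
def p3C (u : ℕ) : ℕ := mulC (sqC u) u
def p5C (u : ℕ) : ℕ := mulC (sqC (sqC u)) u
def p8C (u : ℕ) : ℕ := sqC (sqC (sqC u))
def p9C (u : ℕ) : ℕ := mulC (p8C u) u

/-- the code of a scalar matrix. -/
def isSc (c : ℕ) : Bool :=
  Nat.beq (Nat.mod c P162) cOne || Nat.beq (Nat.mod c P162) cZeta || Nat.beq (Nat.mod c P162) cZeta2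

/-- the relations satisfied by `(x, a)`, tested on `(t, a)`. -/
def fpA (t : ℕ) : Bool :=
  isSc (p5C (mulC t cAp2)) && isSc (p9C (mulC t cAp1)) && isSc (p8C (mulC t cAp8)) &&
    isSc (p3C (mulC (mulC (mulC t cAp1) (mulC t cAp3)) (mulC t cAp5)))

/-- the relations satisfied by `(x, a)`, tested on `(t, a ^ 3)`. -/
def fpB (t : ℕ) : Bool :=
  isSc (p5C (mulC t cAp6)) && isSc (p9C (mulC t cAp3)) && isSc (p8C (mulC t cAp4))

/-- `t` is conjugate to `x` or to `x₂` under a power of `a`. -/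
def inOrb (t : ℕ) : Bool :=
  !(allB 17 fun j => !(Nat.beq (mulC (powC cA j) cX) (mulC t (powC cA j)) ||
    Nat.beq (mulC (powC cA j) cX2) (mulC t (powC cA j))))

noncomputable def fpOK (i : ℕ) : Bool := (!(fpA (TT i)) || inOrb (TT i)) && !(fpB (TT i))

set_option maxRecDepth 100000 in
theorem fpcheck : allB 26163 fpOK = true := by decide +kernel

end Cfsg.Agent.Helper64J3
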