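import Cfsg.Agent.Lib.Helper64J3Simple
import Cfsg.Prelude.Def_Classical
import Cfsg.Prelude.Def_Sporadic

/-!
# `3·J₃` inside `SU₉(2)` (helper64)
-/

set_option autoImplicit false

namespace Cfsg.Agent.Helper64J3

open Cfsg.Spor

/-- entrywise square. -/
def frobC (c : ℕ) : ℕ := Nat.xor c (Nat.land (Nat.shiftRight c 9) ML)

theorem frobC_testBit_lo (c k j : ℕ) (hk : k < 9) (hj : j < 9) :
    (frobC c).testBit (18 * k + j) = (c.testBit (18 * k + j) ^^ c.testBit (18 * k + j + 9)) := by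
  show (c ^^^ ((c >>> 9) &&& ML)).testBit _ = _
  simp only [Nat.testBit_xor, Nat.testBit_and, Nat.testBit_shiftRight, ML_testBit]
  have h1 : decide ((18 * k + j) % 18 < 9 ∧ 18 * k + j < 162) = true :=
    decide_eq_true (by omega)
  have h3 : 9 + (18 * k + j) = 18 * k + j + 9 := by omega
  rw [h1, h3]
  simp

theorem frobC_testBit_hi (c k j : ℕ) (hj : j < 9) :
    (frobC c).testBit (18 * k + j + 9) = c.testBit (18 * k + j + 9) := by
  show (c ^^^ ((c >>> 9) &&& ML)).testBit _ = _
  simp only [Nat.testBit_xor, Nat.testBit_and, Nat.testBit_shiftRight, ML_testBit]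
  have h1 : decide ((18 * k + j + 9) % 18 < 9 ∧ 18 * k + j + 9 < 162) = false :=
    decide_eq_false (by omega)
  rw [h1]
  simp

theorem bF_sq {F : Type*} [Field F] (b : Bool) : bF F b ^ 2 = bF F b := by
  cases b <;> simp

section
variable {F : Type*} [Field F] (ω : F) [Om F ω]

omit [Om F ω] in
theorem add_sq' (h2 : (2 : F) = 0) (a b : F) : (a + b) ^ 2 = a ^ 2 + b ^ 2 := by
  linear_combination (a * b) * h2

omit [Om F ω] in
theorem sum_sq' (h2 : (2 : F) = 0) {ι : Type*} (s : Finset ι) (f : ι → F) :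
    (∑ i ∈ s, f i) ^ 2 = ∑ i ∈ s, f i ^ 2 := by
  classical
  induction s using Finset.induction_on with
  | empty => simp
  | insert a s ha ih => rw [Finset.sum_insert ha, Finset.sum_insert ha, add_sq' h2, ih]

theorem toMat_frobC (c : ℕ) : toMat ω (frobC c) = (toMat ω c).map (· ^ 2) := by
  ext w z
  rw [Matrix.map_apply, toMat_apply, toMat_apply]
  unfold ent
  rw [frobC_testBit_lo c _ _ (idx_lt w) (idx_lt z), frobC_testBit_hi c _ _ (idx_lt z), bF_xor ω,
    add_sq' (Om.two ω), mul_pow, bF_sq, bF_sq, sq_eq ω]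
  ring

omit [Om F ω] in
/-- a matrix `M` with `Mᵀ M⁽²⁾ = 1` preserves the Hermitian form. -/
theorem herm_preserved (h2 : (2 : F) = 0) {n : Type*} [Fintype n] [DecidableEq n]
    (M : Matrix n n F)
    (h : M.transpose * M.map (· ^ 2) = 1) (u v : n → F) :
    ∑ z, (M.mulVec u) z * ((M.mulVec v) z) ^ 2 = ∑ z, u z * (v z) ^ 2 := by
  have h1 : ∀ z, ((M.mulVec v) z) ^ 2 = ((M.map (· ^ 2)).mulVec (fun k => v k ^ 2)) z := by
    intro z
    simp only [Matrix.mulVec, dotProduct, Matrix.map_apply]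
    rw [sum_sq' h2]
    exact Finset.sum_congr rfl fun k _ => mul_pow _ _ _
  simp only [h1]
  have h2 : ∑ z, (M.mulVec u) z * ((M.map (· ^ 2)).mulVec (fun k => v k ^ 2)) z =
      (M.mulVec u) ⬝ᵥ ((M.map (· ^ 2)).mulVec (fun k => v k ^ 2)) := rfl
  rw [h2, dotProduct_comm, Matrix.dotProduct_mulVec, ← Matrix.mulVec_transpose,
    Matrix.mulVec_mulVec, h, Matrix.one_mulVec, dotProduct_comm]
  rfl

theorem unitary_of_codes {g : GL F9 F} {c t : ℕ} (hg : Rep ω g c) (ht : RepT ω g t)
    (h : mulC t (frobC c) = cOne) :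
    (g : Matrix F9 F9 F).transpose * (g : Matrix F9 F9 F).map (· ^ 2) = 1 := by
  rw [← ht, hg, ← toMat_frobC, ← toMat_mulC, h, toMat_cOne]

end

/-- an enumeration of the index set. -/
noncomputable def eF9 : Fin 9 ≃ F9 := (Fintype.equivFinOfCardEq (by decide : Fintype.card F9 = 9)).symm

section embed
variable (F : Type*) [Field F]

/-- reindexing of matrices, as a multiplicative equivalence. -/
noncomputable def reM : Matrix (Fin 9) (Fin 9) F ≃* Matrix F9 F9 F :=
  (Matrix.reindexAlgEquiv F F eF9).toMulEquiv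

theorem reM_apply (M : Matrix (Fin 9) (Fin 9) F) : reM F M = M.submatrix eF9.symm eF9.symm := rfl

/-- the embedding of `SU₉(2)` into `GL(F9, F)`. -/
noncomputable def jSU : Cfsg.SU 9 F 2 →* GL F9 F :=
  (Units.map (reM F).toMonoidHom).comp
    ((Matrix.SpecialLinearGroup.toGL).comp (Cfsg.SU 9 F 2).subtype)

theorem jSU_val (s : Cfsg.SU 9 F 2) :
    (jSU F s : Matrix F9 F9 F) = (s.1.1).submatrix eF9.symm eF9.symm := rfl

theorem jSU_injective : Function.Injective (jSU F) := by
  intro s s' h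
  have h1 := congrArg (fun g : GL F9 F => (g : Matrix F9 F9 F)) h
  simp only [jSU_val] at h1
  apply Subtype.ext
  apply Subtype.ext
  ext i j
  have := congrFun (congrFun h1 (eF9 i)) (eF9 j)
  simpa using this

variable {F}

theorem mem_range_jSU (ω : F) [Om F ω] (g : GL F9 F) (hdet : (g : Matrix F9 F9 F).det = 1)
    (hu : (g : Matrix F9 F9 F).transpose * (g : Matrix F9 F9 F).map (· ^ 2) = 1) :
    g ∈ (jSU F).range := by
  let M' : Matrix (Fin 9) (Fin 9) F := (g : Matrix F9 F9 F).submatrix eF9 eF9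
  have hdet' : M'.det = 1 := by rw [Matrix.det_submatrix_equiv_self, hdet]
  have hu' : M'.transpose * M'.map (· ^ 2) = 1 := by
    have : M'.transpose * M'.map (· ^ 2) =
        ((g : Matrix F9 F9 F).transpose * (g : Matrix F9 F9 F).map (· ^ 2)).submatrix eF9 eF9 := by
      rw [← Matrix.submatrix_mul_equiv _ _ eF9 eF9 eF9]
      rfl
    rw [this, hu, Matrix.submatrix_one_equiv]
  let s : Matrix.SpecialLinearGroup (Fin 9) F := ⟨M', hdet'⟩
  have hs : s ∈ Cfsg.SU 9 F 2 := by
    intro u v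
    exact herm_preserved (Om.two ω) M' hu' u v
  refine ⟨⟨s, hs⟩, ?_⟩
  apply Units.ext
  rw [jSU_val]
  ext i j
  simp [s, M']

end embed

section det
variable {F : Type*} [Field F] [Fintype F] (hF : Fintype.card F = 4) (ω : F) [Om F ω]
include hF

theorem det_eq_one_of_pow (g : GL F9 F) (n : ℕ) (hn : Nat.Coprime n 3) (hg : g ^ n = 1) :
    (g : Matrix F9 F9 F).det = 1 := by
  classical
  let d : Fˣ := Matrix.GeneralLinearGroup.det g
  have h1 : d ^ n = 1 := by
    show (Matrix.GeneralLinearGroup.det g) ^ n = 1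
    rw [← map_pow, hg, map_one]
  have h2 : d ^ 3 = 1 := by
    have h3 : Fintype.card Fˣ = 3 := by rw [Fintype.card_units, hF]
    have h4 := pow_card_eq_one (x := d)
    rwa [h3] at h4
  have h4 : orderOf d ∣ Nat.gcd n 3 :=
    Nat.dvd_gcd (orderOf_dvd_of_pow_eq_one h1) (orderOf_dvd_of_pow_eq_one h2)
  rw [hn.gcd_eq_one, Nat.dvd_one] at h4
  have h5 : d = 1 := orderOf_eq_one_iff.mp h4
  have h6 : ((d : Fˣ) : F) = (g : Matrix F9 F9 F).det := Matrix.GeneralLinearGroup.val_det_apply g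
  rw [← h6, h5, Units.val_one]

theorem GG_le_range : GG ω ≤ (jSU F).range := by
  have hX : (gX ω : Matrix F9 F9 F).det = 1 :=
    det_eq_one_of_pow hF (gX ω) 2 (by norm_num) (gX_sq ω)
  have hA : (gA ω : Matrix F9 F9 F).det = 1 :=
    det_eq_one_of_pow hF (gA ω) 17 (by norm_num) (by rw [← orderOf_gA ω]; exact pow_orderOf_eq_one _)
  have hY : (gY ω : Matrix F9 F9 F).det = 1 := by
    have : (gA ω : Matrix F9 F9 F) = (gX ω : Matrix F9 F9 F) * (gY ω : Matrix F9 F9 F) := rfl
    rw [this, Matrix.det_mul, hX, one_mul] at hA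
    exact hA
  unfold GG
  rw [Subgroup.closure_le]
  rintro z (rfl | rfl)
  · exact mem_range_jSU ω _ hX (unitary_of_codes ω (rep_gX ω) (repT_gX ω) (by decide +kernel))
  · exact mem_range_jSU ω _ hY (unitary_of_codes ω (rep_gY ω) (repT_gY ω) (by decide +kernel))

end det

/-- transfer of the centre and of the central quotient along an isomorphism. -/
theorem center_transfer {G H : Type*} [Group G] [Group H] (e : H ≃* G) :
    Nat.card (Subgroup.center H) = Nat.card (Subgroup.center G) ∧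
      Nonempty ((H ⧸ Subgroup.center H) ≃* (G ⧸ Subgroup.center G)) := by
  refine ⟨Nat.card_congr (Subgroup.centerCongr e).toEquiv, ⟨QuotientGroup.congr _ _ e ?_⟩⟩
  ext g
  simp only [Subgroup.mem_map, Subgroup.mem_center_iff]
  constructor
  · rintro ⟨h, hh, rfl⟩ g'
    obtain ⟨h', rfl⟩ := e.surjective g'
    show e h' * e h = e h * e h'
    rw [← map_mul, ← map_mul, hh]
  · intro hg
    refine ⟨e.symm g, fun h' => ?_, e.apply_symm_apply g⟩
    apply e.injective
    rw [map_mul, map_mul, e.apply_symm_apply]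
    exact hg _

theorem exists_unitary {F : Type} [Field F] [Fintype F] (hF : Fintype.card F = 4) (ω : F)
    (hω : ω ^ 2 + ω + 1 = 0) : ∃ H : Subgroup (Cfsg.SU 9 F 2),
      Nat.card (Subgroup.center H) = 3 ∧ Cfsg.IsJ3 (H ⧸ Subgroup.center H) := by
  have := om_of_card hF ω hω
  let H : Subgroup (Cfsg.SU 9 F 2) := (GG ω).comap (jSU F)
  have hmap : H.map (jSU F) = GG ω := Subgroup.map_comap_eq_self (GG_le_range hF ω)
  let e : H ≃* GG ω := (H.equivMapOfInjective (jSU F) (jSU_injective F)).trans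
    (MulEquiv.subgroupCongr hmap)
  obtain ⟨h1, ⟨e2⟩⟩ := center_transfer e
  refine ⟨H, by rw [h1]; exact card_center ω, ?_, ?_⟩
  · have := simple_quot ω
    exact e2.isSimpleGroup_congr.mpr this
  · rw [Nat.card_congr e2.toEquiv]
    exact card_quot ω

end Cfsg.Agent.Helper64J3
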