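import Cfsg.Agent.Lib.Helper64J3Invol2
import Cfsg.Agent.Lib.Helper64J3Fp
import Cfsg.Agent.Lib.Helper64J3Unitary
import Cfsg.Agent.Lib.Helper64J3OutA

/-!
# `Out(J₃)` has order two (helper64)
-/

set_option autoImplicit false

namespace Cfsg.Agent.Helper64J3

open Cfsg.Spor

section
variable {F : Type*} [Field F] (ω : F) [Om F ω]

/-! ### powers on codes -/

variable {ω}

theorem Rep.sq {g : GL F9 F} {u : ℕ} (h : Rep ω g u) : Rep ω (g ^ 2) (sqC u) := by
  rw [pow_two]; exact h.mul h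
theorem Rep.p3 {g : GL F9 F} {u : ℕ} (h : Rep ω g u) : Rep ω (g ^ 3) (p3C u) := by
  rw [show g ^ 3 = g ^ 2 * g from pow_succ g 2]; exact h.sq.mul h
theorem Rep.p5 {g : GL F9 F} {u : ℕ} (h : Rep ω g u) : Rep ω (g ^ 5) (p5C u) := by
  rw [show g ^ 5 = (g ^ 2) ^ 2 * g by rw [← pow_mul, ← pow_succ]]; exact h.sq.sq.mul h
theorem Rep.p8 {g : GL F9 F} {u : ℕ} (h : Rep ω g u) : Rep ω (g ^ 8) (p8C u) := by
  rw [show g ^ 8 = ((g ^ 2) ^ 2) ^ 2 by rw [← pow_mul, ← pow_mul]]; exact h.sq.sq.sq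
theorem Rep.p9 {g : GL F9 F} {u : ℕ} (h : Rep ω g u) : Rep ω (g ^ 9) (p9C u) := by
  rw [show g ^ 9 = g ^ 8 * g from pow_succ g 8]; exact h.p8.mul h

variable (ω)

theorem rep_gZ2 : Rep ω (gZ ω ^ 2) cZeta2 := ((rep_gZ ω).pow 2).cast (by decide +kernel)

theorem cZeta_lt : cZeta < P162 := by norm_num [cZeta, P162]
theorem cZeta2_lt : cZeta2 < P162 := by norm_num [cZeta2, P162]

variable [Finite F]

theorem center_eq : Subgroup.center (HH ω) = Subgroup.zpowers (z' ω) := by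
  symm
  refine Subgroup.eq_of_le_of_card_ge ?_ ?_
  · rw [Subgroup.zpowers_le]; exact z'_mem_center ω
  · rw [card_center, Nat.card_zpowers, orderOf_z']

theorem isSc_of_mem_center {h : HH ω} {c : ℕ} (hr : Rep ω (h : GL F9 F) c)
    (hh : h ∈ Subgroup.center (HH ω)) : isSc c = true := by
  rw [center_eq, ← mem_powers_iff_mem_zpowers] at hh
  obtain ⟨n, hn⟩ := hh
  have h3 : z' ω ^ (n % 3) = h := by
    have h0 := pow_mod_orderOf (z' ω) n
    rw [orderOf_z'] at h0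
    rw [h0]; exact hn
  have hlt : n % 3 < 3 := Nat.mod_lt _ (by norm_num)
  have h4 : (h : GL F9 F) = gZ ω ^ (n % 3) := by rw [← h3]; rfl
  rw [h4] at hr
  unfold isSc
  simp only [Bool.or_eq_true, Nat.beq_eq]
  generalize n % 3 = m at hr hlt
  interval_cases m
  · left; left
    have := hr.code_eq (by simpa using (Rep.one : Rep ω 1 cOne))
    rwa [Nat.mod_eq_of_lt cOne_lt] at this
  · left; right
    have := hr.code_eq (by simpa using rep_gZ ω)
    rwa [Nat.mod_eq_of_lt cZeta_lt] at this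
  · right
    have := hr.code_eq (rep_gZ2 ω)
    rwa [Nat.mod_eq_of_lt cZeta2_lt] at this

omit [Finite F] in
theorem mem_center_of_isSc {h : HH ω} {c : ℕ} (hr : Rep ω (h : GL F9 F) c)
    (hs : isSc c = true) : h ∈ Subgroup.center (HH ω) := by
  unfold isSc at hs
  simp only [Bool.or_eq_true, Nat.beq_eq] at hs
  have key : ∀ (g : HH ω) (d : ℕ), d < P162 → Rep ω (g : GL F9 F) d → Nat.mod c P162 = d → h = g := by
    intro g d hd hg hcd
    apply Subtype.ext
    apply Units.ext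
    rw [hr, hg, toMat_eq_iff, Nat.mod_eq_of_lt hd]
    exact hcd
  rcases hs with (hs | hs) | hs
  · rw [key 1 cOne cOne_lt Rep.one hs]; exact Subgroup.one_mem _
  · rw [key (z' ω) cZeta cZeta_lt (rep_gZ ω) hs]; exact z'_mem_center ω
  · rw [key (z' ω ^ 2) cZeta2 cZeta2_lt (rep_gZ2 ω) hs]
    exact Subgroup.pow_mem _ (z'_mem_center ω) 2

/-! ### the quotient -/

/-- `J₃`. -/
abbrev QQ : Type _ := HH ω ⧸ Subgroup.center (HH ω)

/-- the projection. -/
abbrev pr : HH ω →* QQ ω := QuotientGroup.mk' (Subgroup.center (HH ω))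

omit [Finite F] in
theorem pr_eq_one_iff (h : HH ω) : pr ω h = 1 ↔ h ∈ Subgroup.center (HH ω) :=
  QuotientGroup.eq_one_iff h

/-- an involution of `J₃` lifts to an involution of `3·J₃`. -/
theorem exists_lift_invol (q : QQ ω) (h2 : q * q = 1) (h1 : q ≠ 1) :
    ∃ t : HH ω, t * t = 1 ∧ t ≠ 1 ∧ pr ω t = q := by
  obtain ⟨h, rfl⟩ := QuotientGroup.mk'_surjective _ q
  have h3 : h * h ∈ Subgroup.center (HH ω) := by
    rw [← pr_eq_one_iff, map_mul]; exact h2
  have h4 : (h * h) ^ 3 = 1 := by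
    have h5 : (⟨h * h, h3⟩ : Subgroup.center (HH ω)) ^ 3 = 1 := by
      have h0 : (⟨h * h, h3⟩ : Subgroup.center (HH ω)) ^ Nat.card (Subgroup.center (HH ω)) = 1 :=
        pow_card_eq_one'
      rwa [card_center ω] at h0
    exact congrArg Subtype.val h5
  have h6 : pr ω (h ^ 3) = pr ω h := by
    rw [map_pow, pow_succ, pow_two, h2, one_mul]
  refine ⟨h ^ 3, ?_, ?_, h6⟩
  · rw [← h4, ← pow_two, ← pow_two, ← pow_mul, ← pow_mul]
  · intro h7
    rw [h7, map_one] at h6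
    exact h1 h6.symm

end


section
variable {F : Type*} [Field F] (ω : F) [Om F ω]

theorem rep_Ap1 : Rep ω (gA ω) cAp1 := (rep_gA ω).cast (by decide +kernel)
theorem rep_Ap2 : Rep ω (gA ω ^ 2) cAp2 := ((rep_gA ω).pow 2).cast (by decide +kernel)
theorem rep_Ap3 : Rep ω (gA ω ^ 3) cAp3 := ((rep_gA ω).pow 3).cast (by decide +kernel)
theorem rep_Ap5 : Rep ω (gA ω ^ 5) cAp5 := ((rep_gA ω).pow 5).cast (by decide +kernel)
theorem rep_Ap7 : Rep ω (gA ω ^ 7) cAp7 := ((rep_gA ω).pow 7).cast (by decide +kernel)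
theorem rep_Ap8 : Rep ω (gA ω ^ 8) cAp8 := ((rep_gA ω).pow 8).cast (by decide +kernel)
theorem rep_Bp2 : Rep ω ((gA ω ^ 3) ^ 2) cAp6 := (((rep_gA ω).pow 3).pow 2).cast (by decide +kernel)
theorem rep_Bp7 : Rep ω ((gA ω ^ 3) ^ 7) cAp4 := (((rep_gA ω).pow 3).pow 7).cast (by decide +kernel)

/-- the second involution. -/
def gX2 : GL F9 F := mkU ω cX2 cX2 (by decide +kernel) (by decide +kernel)
theorem rep_gX2 : Rep ω (gX2 ω) cX2 := rfl
theorem gX2_mem : gX2 ω ∈ GG ω := by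
  obtain ⟨g, hg, hr⟩ := inv_mem ω 4263 (by norm_num)
  have h : TT 4263 = cX2 := by decide +kernel
  rw [h] at hr
  rw [(rep_gX2 ω).ext hr]
  exact (GG ω).mul_mem ((GG ω).mul_mem hg (gX_mem ω)) ((GG ω).inv_mem hg)

/-- an element normalising `⟨a⟩`. -/
def gBn : GL F9 F := mkU ω cBn cBni (by decide +kernel) (by decide +kernel)
theorem rep_gBn : Rep ω (gBn ω) cBn := rfl
theorem gBn_mem : gBn ω ∈ GG ω := by
  obtain ⟨g, hg, hr⟩ := (ktab ω).mem 4682 (by norm_num)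
  have h : KT 4682 = cBn := by decide +kernel
  rw [h] at hr
  rw [(rep_gBn ω).ext hr]
  exact K0_le_GG ω hg
theorem gBn_conj : gBn ω * gA ω * (gBn ω)⁻¹ = gA ω ^ 2 := by
  rw [mul_inv_eq_iff_eq_mul]
  exact ((rep_gBn ω).mul (rep_gA ω)).ext (((rep_Ap2 ω).mul (rep_gBn ω)).cast (by decide +kernel))

def x2' : HH ω := ⟨gX2 ω, gX2_mem ω⟩
def bn' : HH ω := ⟨gBn ω, gBn_mem ω⟩

variable [Finite F]

theorem sc_of_rel {h : HH ω} {c : ℕ} (hr : Rep ω (h : GL F9 F) c) (h1 : pr ω h = 1) :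
    isSc c = true := isSc_of_mem_center ω hr ((pr_eq_one_iff ω h).mp h1)

omit [Finite F] in
theorem rel_of_sc {h : HH ω} {c : ℕ} (hr : Rep ω (h : GL F9 F) c) (hs : isSc c = true) :
    pr ω h = 1 := (pr_eq_one_iff ω h).mpr (mem_center_of_isSc ω hr hs)

omit [Finite F] in
theorem relQ1 : (pr ω (x' ω) * pr ω (a' ω) ^ 2) ^ 5 = 1 := by
  rw [← map_pow, ← map_mul, ← map_pow]
  exact rel_of_sc ω (h := (x' ω * a' ω ^ 2) ^ 5) ((rep_gX ω).mul (rep_Ap2 ω)).p5 (by decide +kernel)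
omit [Finite F] in
theorem relQ2 : (pr ω (x' ω) * pr ω (a' ω)) ^ 9 = 1 := by
  rw [← map_mul, ← map_pow]
  exact rel_of_sc ω (h := (x' ω * a' ω) ^ 9) ((rep_gX ω).mul (rep_Ap1 ω)).p9 (by decide +kernel)
omit [Finite F] in
theorem relQ3 : (pr ω (x' ω) * pr ω (a' ω) ^ 8) ^ 8 = 1 := by
  rw [← map_pow, ← map_mul, ← map_pow]
  exact rel_of_sc ω (h := (x' ω * a' ω ^ 8) ^ 8) ((rep_gX ω).mul (rep_Ap8 ω)).p8 (by decide +kernel)
omit [Finite F] in
theorem relQ3' : (pr ω (x' ω) * pr ω (a' ω) ^ 7) ^ 8 = 1 := by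
  rw [← map_pow, ← map_mul, ← map_pow]
  exact rel_of_sc ω (h := (x' ω * a' ω ^ 7) ^ 8) ((rep_gX ω).mul (rep_Ap7 ω)).p8 (by decide +kernel)
omit [Finite F] in
theorem relQ4 : (pr ω (x' ω) * pr ω (a' ω) * (pr ω (x' ω) * pr ω (a' ω) ^ 3) *
    (pr ω (x' ω) * pr ω (a' ω) ^ 5)) ^ 3 = 1 := by
  rw [← map_pow, ← map_pow, ← map_mul, ← map_mul, ← map_mul, ← map_mul, ← map_mul, ← map_pow]
  exact rel_of_sc ω (h := (x' ω * a' ω * (x' ω * a' ω ^ 3) * (x' ω * a' ω ^ 5)) ^ 3)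
    ((((rep_gX ω).mul (rep_Ap1 ω)).mul ((rep_gX ω).mul (rep_Ap3 ω))).mul
      ((rep_gX ω).mul (rep_Ap5 ω))).p3 (by decide +kernel)

theorem prx_ne_one : pr ω (x' ω) ≠ 1 := by
  intro h
  have := sc_of_rel ω (h := x' ω) (rep_gX ω) h
  exact absurd this (by decide +kernel)

omit [Finite F] in
theorem prx_sq : pr ω (x' ω) * pr ω (x' ω) = 1 := by
  rw [← map_mul]
  have : x' ω * x' ω = 1 := Subtype.ext (by rw [← pow_two]; exact gX_sq ω)
  rw [this, map_one]

/-- the image of the involution under an automorphism, with its code. -/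
theorem exists_code (φ : MulAut (QQ ω)) :
    ∃ t : HH ω, ∃ i < 26163, Rep ω (t : GL F9 F) (TT i) ∧ pr ω t = φ (pr ω (x' ω)) := by
  obtain ⟨t, h2, h1, ht⟩ := exists_lift_invol ω (φ (pr ω (x' ω)))
    (by rw [← map_mul, prx_sq, map_one])
    (by
      intro h
      apply prx_ne_one ω
      apply φ.injective
      rw [h, map_one])
  obtain ⟨i, hi, hr⟩ := invol_table ω t h2 h1
  exact ⟨t, i, hi, hr, ht⟩

theorem key3 (φ : MulAut (QQ ω)) : φ (pr ω (a' ω)) ≠ pr ω (a' ω) ^ 3 := by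
  intro ha
  obtain ⟨t, i, hi, hr, ht⟩ := exists_code ω φ
  have hc := (allB_iff _ _).mp fpcheck i hi
  have e1 : isSc (p5C (mulC (TT i) cAp6)) = true := by
    have h := congrArg φ (relQ1 ω)
    rw [map_pow, map_mul, map_pow, map_one, ha, ← ht, ← map_pow, ← map_pow, ← map_mul,
      ← map_pow] at h
    exact sc_of_rel ω (h := (t * (a' ω ^ 3) ^ 2) ^ 5) (hr.mul (rep_Bp2 ω)).p5 h
  have e2 : isSc (p9C (mulC (TT i) cAp3)) = true := by
    have h := congrArg φ (relQ2 ω)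
    rw [map_pow, map_mul, map_one, ha, ← ht, ← map_pow, ← map_mul, ← map_pow] at h
    exact sc_of_rel ω (h := (t * a' ω ^ 3) ^ 9) (hr.mul (rep_Ap3 ω)).p9 h
  have e3 : isSc (p8C (mulC (TT i) cAp4)) = true := by
    have h := congrArg φ (relQ3' ω)
    rw [map_pow, map_mul, map_pow, map_one, ha, ← ht, ← map_pow, ← map_pow, ← map_mul,
      ← map_pow] at h
    exact sc_of_rel ω (h := (t * (a' ω ^ 3) ^ 7) ^ 8) (hr.mul (rep_Bp7 ω)).p8 h
  simp [fpOK, fpB, e1, e2, e3] at hc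

theorem key1 (φ : MulAut (QQ ω)) (ha : φ (pr ω (a' ω)) = pr ω (a' ω)) :
    ∃ j : ℕ, pr ω (a' ω) ^ j * pr ω (x' ω) = φ (pr ω (x' ω)) * pr ω (a' ω) ^ j ∨
      pr ω (a' ω) ^ j * pr ω (x2' ω) = φ (pr ω (x' ω)) * pr ω (a' ω) ^ j := by
  obtain ⟨t, i, hi, hr, ht⟩ := exists_code ω φ
  have hc := (allB_iff _ _).mp fpcheck i hi
  have e1 : isSc (p5C (mulC (TT i) cAp2)) = true := by
    have h := congrArg φ (relQ1 ω)
    rw [map_pow, map_mul, map_pow, map_one, ha, ← ht, ← map_pow, ← map_mul, ← map_pow] at h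
    exact sc_of_rel ω (h := (t * a' ω ^ 2) ^ 5) (hr.mul (rep_Ap2 ω)).p5 h
  have e2 : isSc (p9C (mulC (TT i) cAp1)) = true := by
    have h := congrArg φ (relQ2 ω)
    rw [map_pow, map_mul, map_one, ha, ← ht, ← map_mul, ← map_pow] at h
    exact sc_of_rel ω (h := (t * a' ω) ^ 9) (hr.mul (rep_Ap1 ω)).p9 h
  have e3 : isSc (p8C (mulC (TT i) cAp8)) = true := by
    have h := congrArg φ (relQ3 ω)
    rw [map_pow, map_mul, map_pow, map_one, ha, ← ht, ← map_pow, ← map_mul, ← map_pow] at h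
    exact sc_of_rel ω (h := (t * a' ω ^ 8) ^ 8) (hr.mul (rep_Ap8 ω)).p8 h
  have e4 : isSc (p3C (mulC (mulC (mulC (TT i) cAp1) (mulC (TT i) cAp3)) (mulC (TT i) cAp5)))
      = true := by
    have h := congrArg φ (relQ4 ω)
    simp only [map_pow, map_mul, map_one, ha, ← ht] at h
    rw [← map_pow, ← map_pow, ← map_mul, ← map_mul, ← map_mul, ← map_mul, ← map_mul,
      ← map_pow] at h
    exact sc_of_rel ω (h := (t * a' ω * (t * a' ω ^ 3) * (t * a' ω ^ 5)) ^ 3)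
      (((hr.mul (rep_Ap1 ω)).mul (hr.mul (rep_Ap3 ω))).mul (hr.mul (rep_Ap5 ω))).p3 h
  have h5 : inOrb (TT i) = true := by
    simp only [fpOK, fpA, e1, e2, e3, e4, Bool.and_eq_true, Bool.or_eq_true, Bool.and_self,
      Bool.not_true, Bool.false_eq_true, false_or] at hc
    exact hc.1
  unfold inOrb at h5
  rw [Bool.not_eq_true', ← Bool.not_eq_true, allB_iff] at h5
  push Not at h5
  obtain ⟨j, -, hj⟩ := h5
  simp only [Bool.not_eq_true', Bool.not_eq_false', Bool.or_eq_true, Bool.not_eq_true,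
    Bool.not_eq_false] at hj
  refine ⟨j, ?_⟩
  rw [← ht, ← map_pow, ← map_mul, ← map_mul, ← map_mul]
  rcases hj with hj | hj
  · left
    congr 1
    apply Subtype.ext
    exact (((rep_gA ω).pow j).mul (rep_gX ω)).ext
      ((hr.mul ((rep_gA ω).pow j)).cast (Nat.eq_of_beq_eq_true hj).symm)
  · right
    congr 1
    apply Subtype.ext
    exact (((rep_gA ω).pow j).mul (rep_gX2 ω)).ext
      ((hr.mul ((rep_gA ω).pow j)).cast (Nat.eq_of_beq_eq_true hj).symm)

end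


section
variable {F : Type*} [Field F] (ω : F) [Om F ω]

/-- squaring, as a ring homomorphism. -/
def sqHom : F →+* F where
  toFun a := a ^ 2
  map_one' := one_pow 2
  map_mul' a b := mul_pow a b 2
  map_zero' := by simp
  map_add' a b := add_sq' (Om.two ω) a b

/-- the Frobenius map on matrices. -/
noncomputable def frobGL : GL F9 F →* GL F9 F := Matrix.GeneralLinearGroup.map (sqHom ω)

theorem rep_frobGL {g : GL F9 F} {c : ℕ} (h : Rep ω g c) : Rep ω (frobGL ω g) (frobC c) := by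
  unfold Rep
  rw [toMat_frobC, ← h]
  rfl

theorem frobGL_injective : Function.Injective (frobGL ω) := by
  intro g h hgh
  apply Units.ext
  ext i j
  have h1 : ((frobGL ω g : GL F9 F) : Matrix F9 F9 F) i j = ((frobGL ω h : GL F9 F) : Matrix F9 F9 F) i j := by
    rw [hgh]
  exact (sqHom ω).injective h1

def gG0 : GL F9 F := mkU ω cG0 cG0i (by decide +kernel) (by decide +kernel)
theorem rep_gG0 : Rep ω (gG0 ω) cG0 := rfl
theorem rep_gG0i : Rep ω (gG0 ω)⁻¹ cG0i := (rep_gG0 ω).inv (by decide +kernel)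

/-- the semilinear automorphism. -/
noncomputable def sig0 : GL F9 F →* GL F9 F :=
  (MulAut.conj (gG0 ω)⁻¹).toMonoidHom.comp (frobGL ω)

theorem sig0_apply (g : GL F9 F) : sig0 ω g = (gG0 ω)⁻¹ * frobGL ω g * gG0 ω := by
  show (gG0 ω)⁻¹ * frobGL ω g * (gG0 ω)⁻¹⁻¹ = _
  rw [inv_inv]

theorem rep_sig0 {g : GL F9 F} {c : ℕ} (h : Rep ω g c) :
    Rep ω (sig0 ω g) (mulC (mulC cG0i (frobC c)) cG0) := by
  rw [sig0_apply]
  exact ((rep_gG0i ω).mul (rep_frobGL ω h)).mul (rep_gG0 ω)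

theorem sig0_injective : Function.Injective (sig0 ω) :=
  (MulAut.conj (gG0 ω)⁻¹).injective.comp (frobGL_injective ω)

theorem sig0_gX : sig0 ω (gX ω) = gX2 ω :=
  (rep_sig0 ω (rep_gX ω)).ext ((rep_gX2 ω).cast (by decide +kernel))
theorem sig0_gA : sig0 ω (gA ω) = gA ω :=
  (rep_sig0 ω (rep_gA ω)).ext ((rep_gA ω).cast (by decide +kernel))
theorem sig0_gZ : sig0 ω (gZ ω) = gZ ω ^ 2 :=
  (rep_sig0 ω (rep_gZ ω)).ext ((rep_gZ2 ω).cast (by decide +kernel))

theorem sig0_mem : ∀ g ∈ GG ω, sig0 ω g ∈ GG ω := by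
  have h : GG ω ≤ (GG ω).comap (sig0 ω) := by
    conv_lhs => unfold GG
    rw [Subgroup.closure_le]
    rintro z (rfl | rfl)
    · show sig0 ω (gX ω) ∈ GG ω
      rw [sig0_gX]; exact gX2_mem ω
    · show sig0 ω (gY ω) ∈ GG ω
      have h1 : gY ω = (gX ω)⁻¹ * gA ω := by unfold gA; group
      rw [h1, map_mul, map_inv, sig0_gX, sig0_gA]
      exact (GG ω).mul_mem ((GG ω).inv_mem (gX2_mem ω)) (gA_mem ω)
  exact fun g hg => h hg

/-- the automorphism on `3·J₃`, as a homomorphism. -/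
noncomputable def sig1 : HH ω →* HH ω :=
  ((sig0 ω).comp (GG ω).subtype).codRestrict (GG ω) (fun g => sig0_mem ω g g.2)

theorem sig1_coe (g : HH ω) : ((sig1 ω g : HH ω) : GL F9 F) = sig0 ω g := rfl

theorem sig1_injective : Function.Injective (sig1 ω) := by
  intro g h hgh
  exact Subtype.ext (sig0_injective ω (congrArg Subtype.val hgh))

variable [Finite F]

/-- the automorphism of `3·J₃`. -/
noncomputable def sig2 : HH ω ≃* HH ω :=
  MulEquiv.ofBijective (sig1 ω) (Finite.injective_iff_bijective.mp (sig1_injective ω))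

theorem sig2_apply (g : HH ω) : sig2 ω g = sig1 ω g := rfl

/-- the automorphism of `J₃`. -/
noncomputable def sigQ : MulAut (QQ ω) :=
  QuotientGroup.congr (Subgroup.center (HH ω)) (Subgroup.center (HH ω)) (sig2 ω)
    (Subgroup.characteristic_iff_map_eq.mp inferInstance (sig2 ω))

theorem sigQ_pr (g : HH ω) : sigQ ω (pr ω g) = pr ω (sig2 ω g) := rfl

theorem sigQ_a : sigQ ω (pr ω (a' ω)) = pr ω (a' ω) := by
  rw [sigQ_pr]
  congr 1
  exact Subtype.ext (sig0_gA ω)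

theorem sigQ_x : sigQ ω (pr ω (x' ω)) = pr ω (x2' ω) := by
  rw [sigQ_pr]
  congr 1
  exact Subtype.ext (sig0_gX ω)

omit [Finite F] in
theorem closure_xa : Subgroup.closure ({x' ω, a' ω} : Set (HH ω)) = ⊤ := by
  have h1 : Subgroup.closure ({x' ω, y' ω} : Set (HH ω)) = ⊤ := closure_pair_top (gX ω) (gY ω)
  rw [eq_top_iff, ← h1, Subgroup.closure_le]
  rintro z (rfl | rfl)
  · exact Subgroup.subset_closure (by simp)
  · have h2 : y' ω = (x' ω)⁻¹ * a' ω := by rw [a'_eq]; group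
    rw [h2]
    exact Subgroup.mul_mem _ (Subgroup.inv_mem _ (Subgroup.subset_closure (by simp)))
      (Subgroup.subset_closure (by simp))

omit [Finite F] in
theorem closure_xaQ : Subgroup.closure ({pr ω (x' ω), pr ω (a' ω)} : Set (QQ ω)) = ⊤ := by
  have h2 := congrArg (Subgroup.map (pr ω)) (closure_xa ω)
  rw [MonoidHom.map_closure, Subgroup.map_top_of_surjective (pr ω) (QuotientGroup.mk'_surjective _),
    Set.image_pair] at h2
  exact h2

/-- an automorphism of `3·J₃` inducing the identity on `J₃` is the identity. -/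
theorem eq_of_pr_eq (τ : HH ω ≃* HH ω) (h : ∀ g, pr ω (τ g) = pr ω g) (g : HH ω) : τ g = g := by
  have hz : ∀ g, ∃ z ∈ Subgroup.center (HH ω), τ g = g * z := by
    intro g
    refine ⟨g⁻¹ * τ g, ?_, by group⟩
    rw [← pr_eq_one_iff, map_mul, map_inv, h, inv_mul_cancel]
  have hz3 : ∀ z ∈ Subgroup.center (HH ω), z ^ 3 = 1 := by
    intro z hz
    have h0 : (⟨z, hz⟩ : Subgroup.center (HH ω)) ^ Nat.card (Subgroup.center (HH ω)) = 1 :=
      pow_card_eq_one'
    rw [card_center ω] at h0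
    exact congrArg Subtype.val h0
  have hx : τ (x' ω) = x' ω := by
    obtain ⟨z, hzc, hzx⟩ := hz (x' ω)
    have h1 : x' ω ^ 2 = 1 := Subtype.ext (gX_sq ω)
    have h2 : (x' ω * z) ^ 2 = 1 := by rw [← hzx, ← map_pow, h1, map_one]
    have hcomm : Commute (x' ω) z := (Subgroup.mem_center_iff.mp hzc (x' ω))
    rw [hcomm.mul_pow, h1, one_mul] at h2
    have h3 : z = 1 := by
      calc z = z ^ 3 * (z ^ 2)⁻¹ := by group
        _ = 1 := by rw [hz3 z hzc, h2]; group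
    rw [hzx, h3, mul_one]
  have ha : τ (a' ω) = a' ω := by
    obtain ⟨z, hzc, hzx⟩ := hz (a' ω)
    have h1 : a' ω ^ 17 = 1 := by rw [← orderOf_a' ω]; exact pow_orderOf_eq_one _
    have h2 : (a' ω * z) ^ 17 = 1 := by rw [← hzx, ← map_pow, h1, map_one]
    have hcomm : Commute (a' ω) z := (Subgroup.mem_center_iff.mp hzc (a' ω))
    rw [hcomm.mul_pow, h1, one_mul] at h2
    have h3 : z = 1 := by
      calc z = (z ^ 3) ^ 6 * (z ^ 17)⁻¹ := by group
        _ = 1 := by rw [hz3 z hzc, h2]; group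
    rw [hzx, h3, mul_one]
  have h5 := mulAut_eq_one_of_closure (x' ω) (a' ω) (closure_xa ω) τ hx ha
  rw [h5]; rfl

theorem sigQ_not_inner : sigQ ω ∉ Cfsg.Inn (QQ ω) := by
  rintro ⟨q, hq⟩
  obtain ⟨g, rfl⟩ := QuotientGroup.mk'_surjective _ q
  let τ : HH ω ≃* HH ω := (MulAut.conj g)⁻¹ * sig2 ω
  have hτ : ∀ h, τ h = g⁻¹ * sig2 ω h * g := by
    intro h
    show (MulAut.conj g)⁻¹ (sig2 ω h) = _
    rw [← map_inv, MulAut.conj_apply, inv_inv]
  have h1 : ∀ h, pr ω (τ h) = pr ω h := by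
    intro h
    have h2 : sigQ ω (pr ω h) = pr ω g * pr ω h * (pr ω g)⁻¹ := by
      rw [← hq]; rfl
    rw [hτ, map_mul, map_mul, map_inv, ← sigQ_pr, h2]
    group
  have h3 := eq_of_pr_eq ω τ h1 (z' ω)
  rw [hτ] at h3
  have h4 : sig2 ω (z' ω) = z' ω ^ 2 := Subtype.ext (sig0_gZ ω)
  have h5 : g⁻¹ * z' ω ^ 2 * g = z' ω ^ 2 := by
    have := Subgroup.mem_center_iff.mp (Subgroup.pow_mem _ (z'_mem_center ω) 2) g
    rw [mul_assoc, ← this, inv_mul_cancel_left]
  rw [h4, h5] at h3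
  have h6 : z' ω = 1 := by
    calc z' ω = (z' ω)⁻¹ * z' ω ^ 2 := by group
      _ = 1 := by rw [h3]; group
  have h7 := orderOf_z' ω
  rw [h6, orderOf_one] at h7
  norm_num at h7

omit [Finite F] in
theorem orderOf_pra : orderOf (pr ω (a' ω)) = 17 := by
  have p17 : Fact (Nat.Prime 17) := ⟨by norm_num⟩
  have ha17 : a' ω ^ 17 = 1 := by rw [← orderOf_a' ω]; exact pow_orderOf_eq_one _
  refine orderOf_eq_prime (by rw [← map_pow, ha17, map_one]) ?_
  intro h
  have h7 := (pr_eq_one_iff ω _).mp h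
  have h8 := Subgroup.mem_center_iff.mp h7 (x' ω)
  exact gA_not_comm ω (congrArg Subtype.val h8).symm

theorem fact17 : (50232960 : ℕ).factorization 17 = 1 := by
  have h : (50232960 : ℕ) = 17 ^ 1 * 2954880 := by norm_num
  rw [h, Nat.factorization_mul (by norm_num) (by norm_num),
    Nat.Prime.factorization_pow (by norm_num)]
  simp [Nat.factorization_eq_zero_of_not_dvd (by norm_num : ¬ 17 ∣ 2954880)]

/-- `Out(J₃)` has order two. -/
theorem card_out_QQ : Nat.card (Cfsg.Out (QQ ω)) = 2 := by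
  have : Finite (QQ ω) := Nat.finite_of_card_ne_zero (by
    rw [show Nat.card (QQ ω) = 50232960 from card_quot ω]; norm_num)
  refine card_out_eq_two (sigQ ω) (sigQ_not_inner ω) ?_
  refine aut_dichotomy (pr ω (x' ω)) (pr ω (a' ω)) (pr ω (bn' ω)) (pr ω (x2' ω)) (sigQ ω)
    (closure_xaQ ω) ?_ (orderOf_pra ω) ?_ (sigQ_a ω) (sigQ_x ω) (key1 ω) (key3 ω)
  · rw [show Nat.card (QQ ω) = 50232960 from card_quot ω]; exact fact17
  · rw [← map_inv, ← map_mul, ← map_mul, ← map_pow]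
    congr 1
    exact Subtype.ext (gBn_conj ω)

theorem card_out_J3 : Nat.card (Cfsg.Out (J3 F ω)) = 2 := by
  unfold J3
  rw [threeJ3_eq ω]
  exact card_out_QQ ω

end

end Cfsg.Agent.Helper64J3
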