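import Cfsg.Agent.Lib.Helper64J2P315
import Cfsg.Agent.Lib.Helper64J2TabO
import Cfsg.Agent.Lib.Helper64J2OutA
import Cfsg.Agent.Lib.Helper64J3Out

/-!
# The outer automorphism group of the matrix model of `J₂` (helper64)
-/

set_option autoImplicit false

namespace Cfsg.Agent.Helper64J2

open Cfsg.Spor
open Cfsg.Agent.Helper64J3
open Cfsg.Agent.Lib.Helper34J2Perm
open Cfsg.Agent.Helper64J1 (factorization_eq_of_dvd)

def isOne (c : ℕ) : Bool := !(neC c cOne)

noncomputable def cX2 : ℕ := jRT 135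

/-- squares of the elements of order 4 of the point stabiliser are among the 315 involutions. -/
noncomputable def kpOK (i : ℕ) : Bool :=
  neC (sqC (sqC (jKT i))) cOne || isOne (sqC (jKT i)) ||
    (Nat.blt (jKP i) 315 && Nat.beq (sqC (jKT i)) (jRT (jKP i)))

set_option maxRecDepth 100000 in
theorem kpcheck : allB 1152 kpOK = true := by decide +kernel

/-- the relations satisfied by `(x, a)`, tested on `(t, a)`. -/
def fpA (t : ℕ) : Bool :=
  isOne (p3C (p5C (mulC t cAp1))) && isOne (sqC (p5C (mulC t cAp2))) &&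
    isOne (sqC (p5C (mulC t cAp3))) &&
    isOne (p3C (p5C (mulC (mulC (mulC t cAp1) (mulC t cAp2)) (mulC t cAp3))))

/-- `t` is conjugate to `x` or to `x₂` under a power of `a`. -/
noncomputable def inOrb (t : ℕ) : Bool :=
  !(allB 7 fun j => !(Nat.beq (mulC (powC cA j) cX) (mulC t (powC cA j)) ||
    Nat.beq (mulC (powC cA j) cX2) (mulC t (powC cA j))))

noncomputable def fpOK (i : ℕ) : Bool := !(fpA (jRT i)) || inOrb (jRT i)

set_option maxRecDepth 100000 in
theorem fpcheck : allB 315 fpOK = true := by decide +kernel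

set_option maxRecDepth 100000 in
theorem x2check : allB 7 (fun j => neC (mulC (powC cA j) cX) (mulC cX2 (powC cA j))) = true := by
  decide +kernel

section
variable {F : Type*} [Field F] (ω : F) [Om F ω]

theorem isOne_of_eq_one {h : GL F9 F} {c : ℕ} (hr : Rep ω h c) (h1 : h = 1) : isOne c = true := by
  by_contra hc
  have h2 : neC c cOne = true := by
    unfold isOne at hc
    simpa using hc
  exact hr.ne Rep.one h2 h1

theorem rep_Ap1 : Rep ω (gA ω) cAp1 := (rep_gA ω).cast (by decide +kernel)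
theorem rep_Ap2 : Rep ω (gA ω ^ 2) cAp2 := ((rep_gA ω).pow 2).cast (by decide +kernel)
theorem rep_Ap3 : Rep ω (gA ω ^ 3) cAp3 := ((rep_gA ω).pow 3).cast (by decide +kernel)

theorem rel1 : (gX ω * gA ω) ^ 15 = 1 :=
  (((rep_gX ω).mul (rep_gA ω)).pow 15).ext (Rep.one.cast (by decide +kernel))
theorem rel2 : (gX ω * gA ω ^ 2) ^ 10 = 1 :=
  (((rep_gX ω).mul (rep_Ap2 ω)).pow 10).ext (Rep.one.cast (by decide +kernel))
theorem rel3 : (gX ω * gA ω ^ 3) ^ 10 = 1 :=
  (((rep_gX ω).mul (rep_Ap3 ω)).pow 10).ext (Rep.one.cast (by decide +kernel))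
theorem rel4 : (gX ω * gA ω * (gX ω * gA ω ^ 2) * (gX ω * gA ω ^ 3)) ^ 15 = 1 :=
  (((((rep_gX ω).mul (rep_gA ω)).mul ((rep_gX ω).mul (rep_Ap2 ω))).mul
    ((rep_gX ω).mul (rep_Ap3 ω))).pow 15).ext (Rep.one.cast (by decide +kernel))

def gG0 : GL F9 F := mkU ω cG0 cG0i (by decide +kernel) (by decide +kernel)
theorem rep_gG0 : Rep ω (gG0 ω) cG0 := rfl
theorem rep_gG0i : Rep ω (gG0 ω)⁻¹ cG0i := (rep_gG0 ω).inv (by decide +kernel)

/-- the semilinear automorphism. -/
noncomputable def sig0 : GL F9 F →* GL F9 F :=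
  (MulAut.conj (gG0 ω)⁻¹).toMonoidHom.comp (frobGL ω)

theorem sig0_apply (g : GL F9 F) : sig0 ω g = (gG0 ω)⁻¹ * frobGL ω g * gG0 ω := by
  show (gG0 ω)⁻¹ * frobGL ω g * (gG0 ω)⁻¹⁻¹ = _
  rw [inv_inv]

theorem rep_sig0 {g : GL F9 F} {c : ℕ} (h : Rep ω g c) :
    Rep ω (sig0 ω g) (mulC (mulC cG0i (frobC c)) cG0) := by
  rw [sig0_apply]
  exact ((rep_gG0i ω).mul (rep_frobGL ω h)).mul (rep_gG0 ω)

theorem sig0_injective : Function.Injective (sig0 ω) :=
  (MulAut.conj (gG0 ω)⁻¹).injective.comp (frobGL_injective ω)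

theorem sig0_gA : sig0 ω (gA ω) = gA ω :=
  (rep_sig0 ω (rep_gA ω)).ext ((rep_gA ω).cast (by decide +kernel))

variable [Finite F]

theorem exists_of_code (c i j : ℕ) (hi : i < 525) (hj : j < 1152)
    (h : c = mulC (jUT i) (jKT j)) : ∃ g : HH ω, Rep ω g.1 c := by
  obtain ⟨g, hg, hg'⟩ := UK_mem ω i j hi hj
  refine ⟨⟨g, hg⟩, ?_⟩
  show (g : Matrix F9 F9 F) = _
  rw [hg', h, toMat_mulC]

/-- the second involution. -/
noncomputable def x2' : HH ω := sR ω 135

theorem rep_x2' : Rep ω (x2' ω).1 cX2 := rep_sR ω 135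

theorem sig0_gX : sig0 ω (gX ω) = (x2' ω).1 :=
  (rep_sig0 ω (rep_gX ω)).ext ((rep_x2' ω).cast (by decide +kernel))

theorem sig0_mem : ∀ g ∈ GG ω, sig0 ω g ∈ GG ω := by
  have h : GG ω ≤ (GG ω).comap (sig0 ω) := by
    conv_lhs => unfold GG
    rw [Subgroup.closure_le]
    rintro z (rfl | rfl)
    · show sig0 ω (gX ω) ∈ GG ω
      rw [sig0_gX]; exact (x2' ω).2
    · show sig0 ω (gY ω) ∈ GG ω
      have h1 : gY ω = (gX ω)⁻¹ * gA ω := by unfold gA; group
      rw [h1, map_mul, map_inv, sig0_gX, sig0_gA]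
      exact (GG ω).mul_mem ((GG ω).inv_mem (x2' ω).2) (gA_mem ω)
  exact fun g hg => h hg

noncomputable def sig1 : HH ω →* HH ω :=
  ((sig0 ω).comp (GG ω).subtype).codRestrict (GG ω) (fun g => sig0_mem ω g g.2)

theorem sig1_injective : Function.Injective (sig1 ω) := by
  intro g h hgh
  exact Subtype.ext (sig0_injective ω (congrArg Subtype.val hgh))

/-- the outer automorphism. -/
noncomputable def sig2 : MulAut (HH ω) :=
  MulEquiv.ofBijective (sig1 ω) (Finite.injective_iff_bijective.mp (sig1_injective ω))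

theorem sig2_a : sig2 ω (a' ω) = a' ω := Subtype.ext (sig0_gA ω)
theorem sig2_x : sig2 ω (x' ω) = x2' ω := Subtype.ext (sig0_gX ω)

omit [Finite F] in
theorem closure_xa : Subgroup.closure ({x' ω, a' ω} : Set (HH ω)) = ⊤ := by
  rw [eq_top_iff, ← closure_xy ω, Subgroup.closure_le]
  rintro z (rfl | rfl)
  · exact Subgroup.subset_closure (by simp)
  · have h2 : y' ω = (x' ω)⁻¹ * a' ω := by rw [a'_eq]; group
    rw [h2]
    exact Subgroup.mul_mem _ (Subgroup.inv_mem _ (Subgroup.subset_closure (by simp)))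
      (Subgroup.subset_closure (by simp))

theorem fact7 : (Nat.card (HH ω)).factorization 7 = 1 := by
  rw [card_GG]
  exact factorization_eq_of_dvd (by norm_num) (by norm_num) (by norm_num) (by norm_num)

theorem mem_powers_of_commute (c : HH ω) (h : c * a' ω = a' ω * c) : ∃ j : ℕ, a' ω ^ j = c := by
  have p7 : Fact (Nat.Prime 7) := ⟨by norm_num⟩
  have h1 := card_centralizer_le 7 (fact7 ω) (a' ω) (orderOf_a' ω) (by
    intro g hg
    have := orderOf_mem' ω g
    simp only [Set.mem_insert_iff, Set.mem_singleton_iff] at this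
    rcases this with h | h | h | h | h | h | h | h | h | h | h <;> rw [h] at hg ⊢ <;> omega)
  have h2 : Subgroup.zpowers (a' ω) ≤ Subgroup.centralizer ({a' ω} : Set (HH ω)) := by
    rw [Subgroup.zpowers_le, Subgroup.mem_centralizer_iff]
    intro z hz
    rw [Set.mem_singleton_iff.mp hz]
  have h3 : Subgroup.zpowers (a' ω) = Subgroup.centralizer ({a' ω} : Set (HH ω)) :=
    Subgroup.eq_of_le_of_card_ge h2 (by rw [Nat.card_zpowers, orderOf_a']; exact h1)
  have h4 : c ∈ Subgroup.zpowers (a' ω) := by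
    rw [h3, Subgroup.mem_centralizer_iff]
    intro z hz
    rw [Set.mem_singleton_iff.mp hz]
    exact h.symm
  exact Submonoid.mem_powers_iff _ _ |>.mp (mem_powers_iff_mem_zpowers.mpr h4)

theorem sig2_not_inner : sig2 ω ∉ Cfsg.Inn (HH ω) := by
  rintro ⟨c, hc⟩
  have hc' : ∀ g, c * g * c⁻¹ = sig2 ω g := fun g => by rw [← hc]; rfl
  have h1 : c * a' ω = a' ω * c := by
    have := hc' (a' ω)
    rw [sig2_a] at this
    calc c * a' ω = c * a' ω * c⁻¹ * c := by group
      _ = a' ω * c := by rw [this]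
  obtain ⟨j, rfl⟩ := mem_powers_of_commute ω c h1
  have h2 : a' ω ^ (j % 7) * x' ω = x2' ω * a' ω ^ (j % 7) := by
    have h3 : a' ω ^ (j % 7) = a' ω ^ j := by rw [← orderOf_a' ω]; exact pow_mod_orderOf _ _
    have := hc' (x' ω)
    rw [sig2_x] at this
    rw [h3, ← this]
    group
  have h4 := (allB_iff _ _).mp x2check (j % 7) (Nat.mod_lt _ (by norm_num))
  exact (((rep_gA ω).pow (j % 7)).mul (rep_gX ω)).ne ((rep_x2' ω).mul ((rep_gA ω).pow (j % 7))) h4
    (congrArg Subtype.val h2)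

theorem conj_sR (g : HH ω) (j : Fin 315) : ∃ j', g * sR ω j * g⁻¹ = sR ω j' := by
  obtain ⟨σ, hσ⟩ := Cfsg.Agent.Helper64ConjAct.exists_perm (sR ω) gidx piGen (closure_gens ω)
    (sR_conj ω) g
  exact ⟨σ j, hσ j⟩

/-- automorphisms preserve the class of 315 involutions. -/
theorem exists_code (φ : MulAut (HH ω)) : ∃ i : Fin 315, φ (x' ω) = sR ω i := by
  have p2 : Fact (Nat.Prime 2) := ⟨by norm_num⟩
  obtain ⟨w, hw⟩ := exists_of_code ω cW iW jW (by decide) (by decide) (by decide +kernel)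
  have hw2 : w ^ 2 = x' ω := Subtype.ext ((hw.pow 2).ext ((rep_gX ω).cast (by decide +kernel)))
  have hx2 : x' ω ^ 2 = 1 := Subtype.ext (gX_sq ω)
  have hx1 : x' ω ≠ 1 := by
    intro h
    exact (rep_gX ω).ne Rep.one (by decide +kernel) (congrArg Subtype.val h)
  have hw4 : (φ w) ^ (2 ^ 2) = 1 := by
    rw [← map_pow, show (2 ^ 2 : ℕ) = 2 * 2 from rfl, pow_mul, hw2, hx2, map_one]
  let C : Subgroup (HH ω) := (K0 ω).subgroupOf (GG ω)
  have hC : Nat.card C = 1152 := by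
    rw [Nat.card_congr (Subgroup.subgroupOfEquivOfLe (K0_le_GG ω)).toEquiv, (ktab ω).card]
  obtain ⟨g, hg⟩ := exists_conj_mem_of_ppow 2 C (by
    rw [hC, card_GG]
    rw [factorization_eq_of_dvd (k := 7) (by norm_num) (by norm_num) (by norm_num) (by norm_num),
      factorization_eq_of_dvd (k := 7) (by norm_num) (by norm_num) (by norm_num) (by norm_num)])
    (φ w) 2 hw4
  obtain ⟨i, hi, hr⟩ := (ktab ω).of_mem _ (Subgroup.mem_subgroupOf.mp hg)
  have hk := (allB_iff _ _).mp kpcheck i hi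
  set v := g * φ w * g⁻¹ with hv
  have hv2 : v ^ 2 = g * φ (x' ω) * g⁻¹ := by
    rw [hv, conj_pow, ← map_pow, hw2]
  have hv4 : (v ^ 2) ^ 2 = 1 := by
    rw [hv2, conj_pow, ← map_pow, hx2, map_one]; group
  have hv1 : v ^ 2 ≠ 1 := by
    intro h
    rw [hv2] at h
    apply hx1
    apply φ.injective
    rw [map_one]
    calc φ (x' ω) = g⁻¹ * (g * φ (x' ω) * g⁻¹) * g := by group
      _ = 1 := by rw [h]; group
  have r2 : Rep ω (v ^ 2).1 (sqC (jKT i)) := Rep.sq hr
  have r4 : Rep ω ((v ^ 2) ^ 2).1 (sqC (sqC (jKT i))) := Rep.sq r2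
  have e4 : neC (sqC (sqC (jKT i))) cOne = false := by
    have := isOne_of_eq_one ω r4 (congrArg Subtype.val hv4)
    unfold isOne at this
    simpa using this
  have e2 : isOne (sqC (jKT i)) = false := by
    by_contra h
    have h' : isOne (sqC (jKT i)) = true := by simpa using h
    unfold isOne neC at h'
    simp only [Bool.not_not, Nat.beq_eq] at h'
    apply hv1
    apply Subtype.ext
    apply Units.ext
    rw [r2]
    show _ = (1 : Matrix F9 F9 F)
    rw [← toMat_cOne ω]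
    exact (toMat_eq_iff ω).mpr h'
  simp only [kpOK, e4, e2, Bool.false_or, Bool.and_eq_true, Nat.blt_eq, Nat.beq_eq] at hk
  obtain ⟨hk1, hk2⟩ := hk
  have h5 : v ^ 2 = sR ω ⟨jKP i, hk1⟩ := Subtype.ext ((r2.cast hk2).ext (rep_sR ω ⟨jKP i, hk1⟩))
  obtain ⟨j', hj'⟩ := conj_sR ω g⁻¹ ⟨jKP i, hk1⟩
  refine ⟨j', ?_⟩
  rw [← hj', ← h5, hv2]
  group

theorem key1 (φ : MulAut (HH ω)) (ha : φ (a' ω) = a' ω) :
    ∃ j : ℕ, a' ω ^ j * x' ω = φ (x' ω) * a' ω ^ j ∨ a' ω ^ j * x2' ω = φ (x' ω) * a' ω ^ j := by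
  obtain ⟨i, hi⟩ := exists_code ω φ
  have hr := rep_sR ω i
  have hc := (allB_iff _ _).mp fpcheck i.val i.isLt
  have e1 : isOne (p3C (p5C (mulC (jRT i.val) cAp1))) = true := by
    have h : (x' ω * a' ω) ^ 15 = 1 := Subtype.ext (rel1 ω)
    have h := congrArg φ h
    rw [map_pow, map_mul, map_one, ha, hi] at h
    refine isOne_of_eq_one ω (h := ((sR ω i * a' ω).1 ^ 5) ^ 3)
      (Rep.p3 (Rep.p5 (hr.mul (rep_Ap1 ω)))) ?_
    rw [← pow_mul]
    exact congrArg Subtype.val h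
  have e2 : isOne (sqC (p5C (mulC (jRT i.val) cAp2))) = true := by
    have h : (x' ω * a' ω ^ 2) ^ 10 = 1 := Subtype.ext (rel2 ω)
    have h := congrArg φ h
    rw [map_pow, map_mul, map_pow, map_one, ha, hi] at h
    refine isOne_of_eq_one ω (h := ((sR ω i * a' ω ^ 2).1 ^ 5) ^ 2)
      (Rep.sq (Rep.p5 (hr.mul (rep_Ap2 ω)))) ?_
    rw [← pow_mul]
    exact congrArg Subtype.val h
  have e3 : isOne (sqC (p5C (mulC (jRT i.val) cAp3))) = true := by
    have h : (x' ω * a' ω ^ 3) ^ 10 = 1 := Subtype.ext (rel3 ω)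
    have h := congrArg φ h
    rw [map_pow, map_mul, map_pow, map_one, ha, hi] at h
    refine isOne_of_eq_one ω (h := ((sR ω i * a' ω ^ 3).1 ^ 5) ^ 2)
      (Rep.sq (Rep.p5 (hr.mul (rep_Ap3 ω)))) ?_
    rw [← pow_mul]
    exact congrArg Subtype.val h
  have e4 : isOne (p3C (p5C (mulC (mulC (mulC (jRT i.val) cAp1) (mulC (jRT i.val) cAp2))
      (mulC (jRT i.val) cAp3)))) = true := by
    have h : (x' ω * a' ω * (x' ω * a' ω ^ 2) * (x' ω * a' ω ^ 3)) ^ 15 = 1 :=
      Subtype.ext (rel4 ω)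
    have h := congrArg φ h
    simp only [map_pow, map_mul, map_one, ha, hi] at h
    refine isOne_of_eq_one ω
      (h := ((sR ω i * a' ω * (sR ω i * a' ω ^ 2) * (sR ω i * a' ω ^ 3)).1 ^ 5) ^ 3)
      (Rep.p3 (Rep.p5 (((hr.mul (rep_Ap1 ω)).mul (hr.mul (rep_Ap2 ω))).mul
        (hr.mul (rep_Ap3 ω))))) ?_
    rw [← pow_mul]
    exact congrArg Subtype.val h
  have h5 : inOrb (jRT i.val) = true := by
    simpa [fpOK, fpA, e1, e2, e3, e4] using hc
  unfold inOrb at h5
  rw [Bool.not_eq_true', ← Bool.not_eq_true, allB_iff] at h5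
  push Not at h5
  obtain ⟨j, -, hj⟩ := h5
  simp only [Bool.not_eq_true', Bool.not_eq_false', Bool.or_eq_true, Bool.not_eq_true,
    Bool.not_eq_false] at hj
  refine ⟨j, ?_⟩
  rw [hi]
  rcases hj with hj | hj
  · left
    apply Subtype.ext
    exact (((rep_gA ω).pow j).mul (rep_gX ω)).ext
      ((hr.mul ((rep_gA ω).pow j)).cast (Nat.eq_of_beq_eq_true hj).symm)
  · right
    apply Subtype.ext
    exact (((rep_gA ω).pow j).mul (rep_x2' ω)).ext
      ((hr.mul ((rep_gA ω).pow j)).cast (Nat.eq_of_beq_eq_true hj).symm)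

/-- `Out` of the model has order two. -/
theorem card_out_HH : Nat.card (Cfsg.Out (HH ω)) = 2 := by
  obtain ⟨b, hb⟩ := exists_of_code ω cB iB jB (by decide) (by decide) (by decide +kernel)
  refine card_out_eq_two (sig2 ω) (sig2_not_inner ω) ?_
  refine aut_dichotomy7 (x' ω) (a' ω) b (x2' ω) (sig2 ω) (closure_xa ω) (fact7 ω) (orderOf_a' ω)
    ?_ (sig2_a ω) (sig2_x ω) (key1 ω)
  apply Subtype.ext
  exact ((hb.mul (rep_gA ω)).mul (hb.inv (b := cBi) (by decide +kernel))).ext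
    ((rep_Ap3 ω).cast (by decide +kernel))

end

open Cfsg.Agent.Lib.Helper62F4 in
theorem card_out_P315 : Nat.card (Cfsg.Out P315) = 2 := by
  obtain ⟨e⟩ := equiv_J2M
  rw [← card_out_congr e]
  exact card_out_HH (F := F4) w

end Cfsg.Agent.Helper64J2
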