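import Cfsg.Agent.Lib.Helper64J3Rep

set_option autoImplicit false

namespace Cfsg.Agent.Helper64J3

def iU : ℕ := 0xae7
def iV : ℕ := 0xd70
def jU : ℕ := 0x1
noncomputable def eRT_0 : ℕ := 0xf938c7cadb4532525d22b7b0fd7863f3ca0c1d64fc547129a1f21cdce159b3bdd0d9595f1f5d9e1c5ea7f2d37c4971c6dae61a1cf74221e3774a14e32f907f6f70a13a176da738a267e33c37e3d524d90fc751d8a09cb7fcfab10d51d49ff8c905f3a153567046ea9893385555422d6eb45cba42d53f01d38cbb9291d6d9379cadc3c3c73ca2b1e616573de6515edd278525ea42ef199f03bc7284d3c60c4a407593aa6ef7964d78244f534965bf6d45ced1151f3643e881fe5e8545ff15904ec1f9b7ffd2b1a88254d599407efb5ca8b5bdf75358d4fcaa4b7e6141478716493643c77fb2af926a35f57b904c957f0ec9945775a9a3ce179ae0b1a713a9932b89e2a644b7ac7fdbaed72140cad68ea0868ceb942f9c0748caec46d66e0dff9be7393b75a6851e332e2a40a4df9d40ed9a8da3b3b2b6b0f9b8d66399b77c24a5c933fca7568dad3b64e22b201332f7f8d93ac33813f7c96a54d56b949557f5e245103fe2314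e52dee4b54ac9d5316249731bf3f897825ff82167f1ef2ab8d2b2752eaaa9bb9387a0175f9bb32a64eb1fad097f25a945dfe61051f4d5b3b671e1ac46420efeb06e9a3c50ea6a42dec3e0ab2a5daa6d6f8129a7e9386b1ff3ded4093f854d63aee93b92c5cc58d3eb1fc9a3c4d7d5f88cfe98641b21781ff4d0b8d9e7157f503b35b6c3ffa99b0e8ffc66db72a2d5ca03c220ff29c9bfe1d762009f496754d48c39fe36735efca1d6318fc97a8f55c14a9276f25e38c638c82cc88e24d45a27c33db9a1c6cf6a75fa920ffe8a1069cec46d10ff8751207437389353479cbbb3ccada36e8758c176e68d2c6f3fe338f78ad6c1697642297ab893500038004a002c0004c0011801a0004c00190000040100002000040000800010000200004000080001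
noncomputable def eRT_sel (q : ℕ) : ℕ := eRT_0
noncomputable def eRT (i : ℕ) : ℕ := cAt (eRT_sel (Nat.div i 400)) (Nat.mod i 400)

end Cfsg.Agent.Helper64J3
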