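import Cfsg.Agent.Lib.Helper64J3Orbit

/-!
# Codes of the defining generators of `3·J₃` (helper64)
-/

set_option autoImplicit false

namespace Cfsg.Agent.Helper64J3

open Cfsg.Spor

/-- the codes of `A_Z`, `E_Z`, `D_Z`, `B_Z`, `C_Z` (entry `9 * family + idx Z`). -/
def GENS : ℕ := 0x4c00038013000118004a0064001a0002c0000100118004c00680004a0003800b00064001300000400b000640004c004c001a000128004600038000100038004a002c0004c0011801a0004c0019000004004a00118019000038004c004c000b0006800001006800130001280190002c0004c00038004600004019000680000e002c0013000118004c001280001004c000b00011801a000640000e00128004c0000400000000000000000000000000000000000001ff000080008004000040000100010000800080000040040000080020000100008002000010004000001002000010000080100000800004001000008000040008000100080000080040000800100000400001000100040000400008000080100002000020000040020004000004000400080000080008001000001000400020000200080004000040000080004000040100002000040000800010000200004000080001000000000000000000000000000000000000007fc0001000100402001000100002001000000800010000080001020000080001000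100000401008000800004000080001804010000001000020000400008000200020000400001000100400201000100002000010000200020000080001020100080200000100100002010000200004000080001004000080001000040800000080000204020000400001000100002402000040004002000000200020000080001000100100002000040000800010000200004000080001004010000200004000080401008020000402008060000002008000100802000040200804010000201800010000001004020080401000020100402008020000402008040000802000040000800010080201804010000201004000000401000020100400008060100402008000100002000000200804010080200800010080201004000080401008000100400008020100400008040100802000040200800000080200804010080200004020080401000020000400000060100002008000000802000040200800010080001004010080200004000000401008020100400000060000400008000100802010040200004000080001004010000201004020000401000020000402000060000002008040000802010040000804010000001804010080201004000080001000000100002000060000402000040100002010000200800010080001804010000001004020080000008020100400000040100002000040000800010000200004000080001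

/-- code of a power of `ω`. -/
def pw (n : ZMod 3) : ℕ := if n = 0 then 1 else if n = 1 then 512 else 513

def dA (Z w z : F9) : ℕ := if w = z then pw (Z.1 * w.1 + Z.2 * w.2) else 0
def dE (Z w z : F9) : ℕ := if w = z then pw ((Z.1 - w.1) ^ 2 + (Z.2 - w.2) ^ 2) else 0
def dLam (Z z : F9) : ℕ :=
  if z = 0 then 1
  else if F9.div Z z = F9.I - F9.one then 512
  else if F9.div Z z = -F9.I - F9.one then 513
  else 1
def dD (Z w z : F9) : ℕ := if w = z + Z then dLam Z z else 0
def dB (Z w z : F9) : ℕ := if w = F9.mul Z z then 1 else 0
def dC (Z w z : F9) : ℕ :=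
  if z = 0 then (if w = 0 then 1 else 0)
  else if w = -F9.div Z z ∨ w = F9.mul F9.I (F9.div Z z) ∨ w = -F9.mul F9.I (F9.div Z z) then 1
  else 0

theorem keyA : ∀ Z w z : F9, dg (dA Z w z) 0 = dg (cAt GENS (idx Z)) (18 * idx w + idx z) := by
  decide +kernel
theorem keyE : ∀ Z w z : F9, dg (dE Z w z) 0 = dg (cAt GENS (9 + idx Z)) (18 * idx w + idx z) := by
  decide +kernel
theorem keyD : ∀ Z w z : F9, dg (dD Z w z) 0 = dg (cAt GENS (18 + idx Z)) (18 * idx w + idx z) := by
  decide +kernel
theorem keyB : ∀ Z w z : F9, dg (dB Z w z) 0 = dg (cAt GENS (27 + idx Z)) (18 * idx w + idx z) := by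
  decide +kernel
theorem keyC : ∀ Z w z : F9, dg (dC Z w z) 0 = dg (cAt GENS (36 + idx Z)) (18 * idx w + idx z) := by
  decide +kernel

section
variable {F : Type*} [Field F] (ω : F)

theorem ent_0 : ent ω 0 0 = 0 := by simp [ent]
theorem ent_1 : ent ω 1 0 = 1 := by
  have h0 : (1 : ℕ).testBit 0 = true := by decide
  have h9 : (1 : ℕ).testBit (0 + 9) = false := by decide
  unfold ent; rw [h0, h9]; simp
theorem ent_512 : ent ω 512 0 = ω := by
  have h0 : (512 : ℕ).testBit 0 = false := by decide
  have h9 : (512 : ℕ).testBit (0 + 9) = true := by decide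
  unfold ent; rw [h0, h9]; simp
theorem ent_513 : ent ω 513 0 = 1 + ω := by
  have h0 : (513 : ℕ).testBit 0 = true := by decide
  have h9 : (513 : ℕ).testBit (0 + 9) = true := by decide
  unfold ent; rw [h0, h9]; simp

theorem omegaPow_eq [Om F ω] (n : ZMod 3) : omegaPow F ω n = ent ω (pw n) 0 := by
  have h : n = 0 ∨ n = 1 ∨ n = 2 := by revert n; decide
  rcases h with rfl | rfl | rfl
  · have : pw 0 = 1 := by decide
    rw [this, ent_1]; simp [omegaPow]
  · have : pw 1 = 512 := by decide
    have h1 : (1 : ZMod 3).val = 1 := by decide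
    rw [this, ent_512]; simp [omegaPow, h1]
  · have : pw 2 = 513 := by decide
    have h1 : (2 : ZMod 3).val = 2 := by decide
    rw [this, ent_513]; simp only [omegaPow, h1]; rw [sq_eq ω, add_comm]

theorem j3A_eq [Om F ω] (Z : F9) : j3A F ω Z = toMat ω (cAt GENS (idx Z)) := by
  ext w z
  rw [toMat_apply, ← ent_congr ω (keyA Z w z)]
  unfold j3A dA
  rw [Matrix.diagonal_apply]
  split_ifs
  · exact omegaPow_eq ω _
  · exact (ent_0 ω).symm

theorem j3E_eq [Om F ω] (Z : F9) : j3E F ω Z = toMat ω (cAt GENS (9 + idx Z)) := by
  ext w z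
  rw [toMat_apply, ← ent_congr ω (keyE Z w z)]
  unfold j3E dE
  rw [Matrix.diagonal_apply]
  split_ifs
  · exact omegaPow_eq ω _
  · exact (ent_0 ω).symm

theorem j3Lam_eq [Om F ω] (Z z : F9) : j3Lam F ω Z z = ent ω (dLam Z z) 0 := by
  unfold j3Lam dLam
  split_ifs
  · exact (ent_1 ω).symm
  · exact (ent_512 ω).symm
  · rw [ent_513, sq_eq ω, add_comm]
  · exact (ent_1 ω).symm

theorem j3D_eq [Om F ω] (Z : F9) : j3D F ω Z = toMat ω (cAt GENS (18 + idx Z)) := by
  ext w z
  rw [toMat_apply, ← ent_congr ω (keyD Z w z)]
  unfold j3D dD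
  rw [Matrix.of_apply]
  split_ifs
  · exact j3Lam_eq ω _ _
  · exact (ent_0 ω).symm

theorem j3B_eq (Z : F9) : j3B F Z = toMat ω (cAt GENS (27 + idx Z)) := by
  ext w z
  rw [toMat_apply, ← ent_congr ω (keyB Z w z)]
  unfold j3B dB
  rw [Matrix.of_apply]
  split_ifs
  · exact (ent_1 ω).symm
  · exact (ent_0 ω).symm

theorem j3C_eq (Z : F9) : j3C F Z = toMat ω (cAt GENS (36 + idx Z)) := by
  ext w z
  rw [toMat_apply, ← ent_congr ω (keyC Z w z)]
  unfold j3C dC
  rw [Matrix.of_apply]
  split_ifs
  · exact (ent_1 ω).symm
  · exact (ent_0 ω).symm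
  · exact (ent_1 ω).symm
  · exact (ent_0 ω).symm

/-- every defining generator has one of the 43 codes. -/
theorem exists_code_of_mem_j3Gens [Om F ω] (M : Matrix F9 F9 F) (hM : M ∈ j3Gens F ω) :
    ∃ k < 45, k ≠ 27 ∧ k ≠ 36 ∧ M = toMat ω (cAt GENS k) := by
  have hpos : ∀ Z : F9, Z ≠ 0 → idx Z ≠ 0 := by decide
  rcases hM with (((⟨Z, rfl⟩ | ⟨Z, rfl⟩) | ⟨Z, rfl⟩) | ⟨Z, hZ, rfl⟩) | ⟨Z, hZ, rfl⟩
  · have := idx_lt Z
    exact ⟨idx Z, by omega, by omega, by omega, j3A_eq ω Z⟩
  · have := idx_lt Z
    exact ⟨9 + idx Z, by omega, by omega, by omega, j3E_eq ω Z⟩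
  · have := idx_lt Z
    exact ⟨18 + idx Z, by omega, by omega, by omega, j3D_eq ω Z⟩
  · have := idx_lt Z
    have := hpos Z hZ
    exact ⟨27 + idx Z, by omega, by omega, by omega, j3B_eq ω Z⟩
  · have := idx_lt Z
    have := hpos Z hZ
    exact ⟨36 + idx Z, by omega, by omega, by omega, j3C_eq ω Z⟩

end

end Cfsg.Agent.Helper64J3
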