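import Cfsg.Agent.Lib.Helper64J3Simple
import Cfsg.Agent.Lib.Helper64J3TabT
import Cfsg.Agent.Lib.Helper64J3TabC

/-!
# The involutions of `3·J₃` (helper64)

A table of the 26163 involutions, the centraliser of one of them (order 5760), and the proof that
the table is complete.
-/

set_option autoImplicit false

namespace Cfsg.Agent.Helper64J3

open Cfsg.Spor

def cC1 : ℕ := 0x94082111b211006008980c9808060a0c04800001
def cC1a : ℕ := 0x140c240096090241308806d02002120806400001
def cC1ai : ℕ := 0x140c240096090241308806d02002120806400001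
def wC1a : List Bool := [true, true, true, true, true, true, false, true, true, true]
def wC1b : List Bool := [false, true, true, true, true, true, true, false, true, true, true]
def cC2 : ℕ := 0x189641412104866039664476e5554854d930f529c
def cC2a : ℕ := 0x1540e359544e9dab7bcf56951a9e6db1e843a869a
def cC2ai : ℕ := 0x4e118559d6603ee7806cf3c838cc98efeb599235
def wC2a : List Bool := [true, false, true, true, true, false, true, true, true, true, true, false, true, false, true]
def wC2b : List Bool := [false, true, true, true, true, true, true, true, false, true, false, true, true, false, true]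
def cAp1 : ℕ := 0x20081042042416840061080180d04426190c88000
def cAp2 : ℕ := 0x39381262c521aee2cc31bb151a9c232f59a040812
def cAp3 : ℕ := 0x16a260024321245e001db4879b41e8003ee7c90
def cAp4 : ℕ := 0x30900200100c891000a09081c0c46232c0400121
def cAp5 : ℕ := 0x119390208946ab440e9191b59f046749406a89080
def cAp6 : ℕ := 0x3f22e9f04505f447afd861d891b346d14583c10a3
def cAp7 : ℕ := 0x1c34b24683628b509232efa808fe2665569aaec82
def cAp8 : ℕ := 0x129c30008f07cff1589b840d0f86624b6c50e75b1
def cAp9 : ℕ := 0xdb06bd0cc654c16a122f160995e215030e1c9983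
def cAp10 : ℕ := 0xbbddb968f02b7b1ff4aa4d417e0261f0ad3afc32
def cAp11 : ℕ := 0x319ccbb44e215cc23b7117cd1a6541da7f7766d81
def cAp12 : ℕ := 0x11ebd4c4020d266b8193c9891f2190262f89910
def cAp13 : ℕ := 0x5021204402452120862400815090080160801801
def cAp14 : ℕ := 0x8b390604d419e22cac123a50e5d028900c6c8012
def cAp15 : ℕ := 0x26044bd28341a0053d88cf7c875162fd0511e7ca0
def cAp16 : ℕ := 0x26130006400201070009400582c0004c2300001a0
def cG0 : ℕ := 0xfe5e1dbc295eec933b478de7dfa197dfcda33415
def cG0i : ℕ := 0xfe211db2e94a4c9573462ee7ac61871fca47358f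
def cX2 : ℕ := 0x4821002004209a110018010914a2512160808110
def cBn : ℕ := 0x28762a28e25b67e7704e6855f00ed5df8aaa69640
def cBni : ℕ := 0x3ce831407b6ad02e678349e36badd4be9e9c7a7ad

def tP (r : ℕ) : ℕ := Nat.mod r 65536
def tE (r : ℕ) : ℕ := Nat.mod (Nat.shiftRight r 16) 2
def tD (r : ℕ) : ℕ := Nat.shiftRight r 17

/-- entry `i` of the table of involutions is a conjugate (by a generator) of an earlier one. -/
noncomputable def invOK (i : ℕ) : Bool :=
  (Nat.blt (TT i) (TT (Nat.add i 1)) || Nat.beq (Nat.add i 1) 26163) &&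
  (if Nat.beq (tD (TX i)) 0 then Nat.beq (TT i) cX
   else Nat.blt (tP (TX i)) 26163 && Nat.beq (Nat.add (tD (TX (tP (TX i)))) 1) (tD (TX i)) &&
     (if Nat.beq (tE (TX i)) 1 then Nat.beq (mulC cY (TT (tP (TX i)))) (mulC (TT i) cY)
      else Nat.beq (mulC cX (TT (tP (TX i)))) (mulC (TT i) cX)))

set_option maxRecDepth 100000 in
theorem invcheck : allB 26163 invOK = true := by decide +kernel

set_option maxRecDepth 100000 in
theorem ccheck : allB 5760 (gtOK cC1 cC2 CT CX 5760) = true := by decide +kernel

/-- the involutions of the centraliser are in the table. -/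
noncomputable def cinvOK (i : ℕ) : Bool :=
  !(Nat.beq (Nat.mod (mulC (CT i) (CT i)) P162) cOne) || Nat.beq (CT i) cOne ||
    (Nat.blt (CP i) 26163 && Nat.beq (CT i) (TT (CP i)))

set_option maxRecDepth 100000 in
theorem cinvcheck : allB 5760 cinvOK = true := by decide +kernel

end Cfsg.Agent.Helper64J3
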