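import Cfsg.Agent.Lib.Helper64J3Invol

/-!
# The involutions of `3·J₃`: completeness of the table (helper64)
-/

set_option autoImplicit false

namespace Cfsg.Agent.Helper64J3

open Cfsg.Spor

/-! ### abstract lemmas -/

/-- the number of conjugates of `x` is at most the index of a subgroup centralising `x`. -/
theorem ncard_conj_le {G : Type*} [Group G] [Finite G] (x : G) (H : Subgroup G)
    (hH : ∀ h ∈ H, h * x = x * h) :
    (Set.range fun g : G => g * x * g⁻¹).ncard ≤ H.index := by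
  let f : G ⧸ H → G := Quotient.lift (fun g : G => g * x * g⁻¹) (by
    intro a b hab
    have h1 : a⁻¹ * b ∈ H := QuotientGroup.leftRel_apply.mp hab
    have h2 := hH _ h1
    show a * x * a⁻¹ = b * x * b⁻¹
    have h3 : b = a * (a⁻¹ * b) := by group
    rw [h3]
    generalize a⁻¹ * b = c at h2
    calc a * x * a⁻¹ = a * (x * c) * c⁻¹ * a⁻¹ := by group
      _ = a * (c * x) * c⁻¹ * a⁻¹ := by rw [h2]
      _ = _ := by group)
  have hsub : (Set.range fun g : G => g * x * g⁻¹) ⊆ Set.range f := by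
    rintro _ ⟨g, rfl⟩
    exact ⟨QuotientGroup.mk g, rfl⟩
  calc _ ≤ (Set.range f).ncard := Set.ncard_le_ncard hsub (Set.toFinite _)
    _ ≤ Nat.card (G ⧸ H) := by
        rw [← Set.image_univ, ← Set.ncard_univ]
        exact Set.ncard_image_le (Set.toFinite _)
    _ = H.index := rfl

/-- an element of order two is conjugate into any subgroup whose order has the full `2`-part. -/
theorem exists_conj_mem_of_sq {G : Type*} [Group G] [Finite G] (C : Subgroup G) (k : ℕ)
    (hG : (Nat.card G).factorization 2 = k) (hC : (Nat.card C).factorization 2 = k)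
    (u : G) (hu : u * u = 1) : ∃ g : G, g * u * g⁻¹ ∈ C := by
  have : Fact (Nat.Prime 2) := ⟨Nat.prime_two⟩
  obtain ⟨P⟩ : Nonempty (Sylow 2 C) := inferInstance
  have hP : Nat.card (P : Subgroup C) = 2 ^ k := by rw [← hC]; exact P.card_eq_multiplicity
  let P' : Subgroup G := (P : Subgroup C).map C.subtype
  have hP' : Nat.card P' = 2 ^ (Nat.card G).factorization 2 := by
    rw [hG, ← hP]
    exact Nat.card_congr
      ((P : Subgroup C).equivMapOfInjective C.subtype (Subgroup.subtype_injective C)).symm.toEquiv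
  let S : Sylow 2 G := Sylow.ofCard P' hP'
  have hz : IsPGroup 2 (Subgroup.zpowers u) := by
    intro ⟨y, hy⟩
    refine ⟨1, ?_⟩
    obtain ⟨n, rfl⟩ := Subgroup.mem_zpowers_iff.mp hy
    apply Subtype.ext
    show (u ^ n) ^ (2 ^ 1) = 1
    rw [pow_one, ← zpow_natCast, ← zpow_mul, mul_comm, zpow_mul, zpow_natCast, pow_two, hu, one_zpow]
  obtain ⟨R, hR⟩ := hz.exists_le_sylow
  obtain ⟨g, hg⟩ := MulAction.exists_smul_eq G R S
  refine ⟨g, ?_⟩
  have h1 : u ∈ (R : Subgroup G) := hR (Subgroup.mem_zpowers u)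
  have h2 : g * u * g⁻¹ ∈ ((g • R : Sylow 2 G) : Subgroup G) := by
    rw [Sylow.coe_subgroup_smul]
    exact ⟨u, h1, rfl⟩
  rw [hg] at h2
  obtain ⟨c, -, hc⟩ := (h2 : g * u * g⁻¹ ∈ P')
  rw [← hc]
  exact c.2

theorem fact2_GG : (150698880 : ℕ).factorization 2 = 7 := by
  have h : (150698880 : ℕ) = 2 ^ 7 * 1177335 := by norm_num
  rw [h, Nat.factorization_mul (by norm_num) (by norm_num), Nat.Prime.factorization_pow Nat.prime_two]
  simp [Nat.factorization_eq_zero_of_not_dvd (by norm_num : ¬ 2 ∣ 1177335)]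

theorem fact2_C0 : (5760 : ℕ).factorization 2 = 7 := by
  have h : (5760 : ℕ) = 2 ^ 7 * 45 := by norm_num
  rw [h, Nat.factorization_mul (by norm_num) (by norm_num), Nat.Prime.factorization_pow Nat.prime_two]
  simp [Nat.factorization_eq_zero_of_not_dvd (by norm_num : ¬ 2 ∣ 45)]

section
variable {F : Type*} [Field F] (ω : F) [Om F ω]

/-! ### the centraliser -/

def gC1 : GL F9 F := (evW (gX ω) (gY ω) wC1a)⁻¹ * evW (gX ω) (gY ω) wC1b
def gC2 : GL F9 F := (evW (gX ω) (gY ω) wC2a)⁻¹ * evW (gX ω) (gY ω) wC2b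

theorem rep_gC1 : Rep ω (gC1 ω) cC1 := by
  have h1 : Rep ω (evW (gX ω) (gY ω) wC1a) cC1a :=
    (rep_evW (rep_gX ω) (rep_gY ω) wC1a).cast (by decide +kernel)
  have h2 : Rep ω (evW (gX ω) (gY ω) wC1a)⁻¹ cC1ai := h1.inv (by decide +kernel)
  exact (h2.mul (rep_evW (rep_gX ω) (rep_gY ω) wC1b)).cast (by decide +kernel)

theorem rep_gC2 : Rep ω (gC2 ω) cC2 := by
  have h1 : Rep ω (evW (gX ω) (gY ω) wC2a) cC2a :=
    (rep_evW (rep_gX ω) (rep_gY ω) wC2a).cast (by decide +kernel)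
  have h2 : Rep ω (evW (gX ω) (gY ω) wC2a)⁻¹ cC2ai := h1.inv (by decide +kernel)
  exact (h2.mul (rep_evW (rep_gX ω) (rep_gY ω) wC2b)).cast (by decide +kernel)

theorem gC1_mem : gC1 ω ∈ GG ω :=
  (GG ω).mul_mem ((GG ω).inv_mem (evW_mem _ _ _)) (evW_mem _ _ _)
theorem gC2_mem : gC2 ω ∈ GG ω :=
  (GG ω).mul_mem ((GG ω).inv_mem (evW_mem _ _ _)) (evW_mem _ _ _)

/-- the centraliser `3 × 2^{1+4}:A₅` of the involution `gX`. -/
def C0 : Subgroup (GL F9 F) := Subgroup.closure {gC1 ω, gC2 ω}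

theorem ctab : GTab ω (C0 ω) CT 5760 :=
  gtab_of_check (fun _ => cAt_lt _ _) (rep_gC1 ω) (rep_gC2 ω) (i0 := 10) (by norm_num)
    (by decide +kernel) ccheck

theorem C0_le_GG : C0 ω ≤ GG ω := by
  unfold C0
  rw [Subgroup.closure_le]
  rintro z (rfl | rfl)
  · exact gC1_mem ω
  · exact gC2_mem ω

theorem C0_comm : ∀ c ∈ C0 ω, c * gX ω = gX ω * c := by
  have h : C0 ω ≤ Subgroup.centralizer {gX ω} := by
    unfold C0
    rw [Subgroup.closure_le]
    rintro z (rfl | rfl)
    · rw [SetLike.mem_coe, Subgroup.mem_centralizer_singleton_iff]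
      exact ((rep_gC1 ω).mul (rep_gX ω)).ext (((rep_gX ω).mul (rep_gC1 ω)).cast (by decide +kernel))
    · rw [SetLike.mem_coe, Subgroup.mem_centralizer_singleton_iff]
      exact ((rep_gC2 ω).mul (rep_gX ω)).ext (((rep_gX ω).mul (rep_gC2 ω)).cast (by decide +kernel))
  intro c hc
  exact Subgroup.mem_centralizer_singleton_iff.mp (h hc)

/-! ### the table of involutions -/

theorem TT_lt (i : ℕ) : TT i < P162 := cAt_lt _ _

theorem rep_conj_of_codes {s g : GL F9 F} {cs cp ci : ℕ} (hs : Rep ω s cs) (hg : Rep ω g cp)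
    (h : mulC cs cp = mulC ci cs) : Rep ω (s * g * s⁻¹) ci := by
  have h1 : ((s * g * s⁻¹ : GL F9 F) : Matrix F9 F9 F) * (s : Matrix F9 F9 F)
      = toMat ω ci * (s : Matrix F9 F9 F) := by
    rw [← Units.val_mul, inv_mul_cancel_right, Units.val_mul, hs, hg, ← toMat_mulC, h, toMat_mulC]
  have h2 := congrArg (· * ((s⁻¹ : GL F9 F) : Matrix F9 F9 F)) h1
  simp only [mul_assoc, ← Units.val_mul, mul_inv_cancel, Units.val_one, mul_one] at h2
  unfold Rep
  rw [mul_assoc]
  exact h2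

theorem inv_mem_aux : ∀ d, ∀ i < 26163, tD (TX i) = d →
    ∃ g ∈ GG ω, Rep ω (g * gX ω * g⁻¹) (TT i) := by
  have h := (allB_iff _ _).mp invcheck
  intro d
  induction d with
  | zero =>
    intro i hi hd
    have := h i hi
    simp only [invOK, Bool.and_eq_true, hd] at this
    have h2 : TT i = cX := by simpa using this.2
    exact ⟨1, Subgroup.one_mem _, by rw [h2]; simpa using rep_gX ω⟩
  | succ d ih =>
    intro i hi hd
    have := h i hi
    simp only [invOK, Bool.and_eq_true, hd] at this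
    have h2 := this.2
    have hne : Nat.beq (d + 1) 0 = false := rfl
    rw [hne] at h2
    simp only [Bool.false_eq_true, if_false, Bool.and_eq_true, Nat.blt_eq, Nat.beq_eq] at h2
    obtain ⟨⟨hp, hdp⟩, hnx⟩ := h2
    have hdp' : tD (TX (tP (TX i))) = d := by
      have : tD (TX (tP (TX i))) + 1 = d + 1 := hdp
      omega
    obtain ⟨g, hg, hr⟩ := ih _ hp hdp'
    by_cases he : tE (TX i) = 1
    · rw [if_pos he] at hnx
      refine ⟨gY ω * g, (GG ω).mul_mem (gY_mem ω) hg, ?_⟩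
      have h3 := rep_conj_of_codes ω (rep_gY ω) hr (Nat.eq_of_beq_eq_true hnx)
      have h4 : gY ω * g * gX ω * (gY ω * g)⁻¹ = gY ω * (g * gX ω * g⁻¹) * (gY ω)⁻¹ := by group
      rw [h4]; exact h3
    · rw [if_neg he] at hnx
      refine ⟨gX ω * g, (GG ω).mul_mem (gX_mem ω) hg, ?_⟩
      have h3 := rep_conj_of_codes ω (rep_gX ω) hr (Nat.eq_of_beq_eq_true hnx)
      have h4 : gX ω * g * gX ω * (gX ω * g)⁻¹ = gX ω * (g * gX ω * g⁻¹) * (gX ω)⁻¹ := by group
      rw [h4]; exact h3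

theorem inv_mem (i : ℕ) (hi : i < 26163) : ∃ g ∈ GG ω, Rep ω (g * gX ω * g⁻¹) (TT i) :=
  inv_mem_aux ω _ i hi rfl

theorem TT_inj (i j : ℕ) (hi : i < 26163) (hj : j < 26163) (h : TT i = TT j) : i = j := by
  have hc := (allB_iff _ _).mp invcheck
  refine inj_of_step TT 26163 ?_ i j hi hj h
  intro i hi
  have := hc i (by omega)
  simp only [invOK, Bool.and_eq_true, Bool.or_eq_true, Nat.blt_eq, Nat.beq_eq] at this
  rcases this.1 with h1 | h1
  · exact h1
  · have : i + 1 = 26163 := h1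
    omega

end


section
variable {F : Type*} [Field F] (ω : F) [Om F ω] [Finite F]

instance finite_HH : Finite (HH ω) :=
  Nat.finite_of_card_ne_zero (by rw [show Nat.card (HH ω) = 150698880 from card_GG ω]; norm_num)

/-- the centraliser inside `3·J₃`. -/
def C0' : Subgroup (HH ω) := (C0 ω).subgroupOf (GG ω)

omit [Finite F] in
theorem card_C0' : Nat.card (C0' ω) = 5760 := by
  unfold C0'
  rw [Nat.card_congr (Subgroup.subgroupOfEquivOfLe (C0_le_GG ω)).toEquiv, (ctab ω).card]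

theorem cOne_lt : cOne < P162 := by norm_num [cOne, P162]

/-- all involutions of `3·J₃` are conjugate. -/
theorem invol_conj (u : GL F9 F) (hu : u ∈ GG ω) (h2 : u * u = 1) (h1 : u ≠ 1) :
    ∃ g ∈ GG ω, u = g * gX ω * g⁻¹ := by
  obtain ⟨g, hg⟩ := exists_conj_mem_of_sq (C0' ω) 7
    (by rw [show Nat.card (HH ω) = 150698880 from card_GG ω]; exact fact2_GG)
    (by rw [card_C0']; exact fact2_C0) (⟨u, hu⟩ : HH ω) (Subtype.ext h2)
  have hg' : (g : GL F9 F) * u * (g : GL F9 F)⁻¹ ∈ C0 ω := Subgroup.mem_subgroupOf.mp hg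
  obtain ⟨i, hi, hr⟩ := (ctab ω).of_mem _ hg'
  have hc := (allB_iff _ _).mp cinvcheck i hi
  have hsq : (g : GL F9 F) * u * (g : GL F9 F)⁻¹ * ((g : GL F9 F) * u * (g : GL F9 F)⁻¹) = 1 := by
    calc _ = (g : GL F9 F) * (u * u) * (g : GL F9 F)⁻¹ := by group
      _ = 1 := by rw [h2]; group
  have h3 : Nat.mod (mulC (CT i) (CT i)) P162 = cOne := by
    have h4 := (hr.mul hr)
    rw [hsq] at h4
    have h5 := h4.code_eq Rep.one
    rw [Nat.mod_eq_of_lt cOne_lt] at h5
    exact h5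
  simp only [cinvOK, h3, Bool.or_eq_true, Bool.and_eq_true, Nat.blt_eq, Nat.beq_eq,
    Bool.not_eq_true'] at hc
  rcases hc with (hc | hc) | hc
  · exact absurd hc (by simp)
  · exfalso
    apply h1
    rw [hc] at hr
    have h6 := hr.ext Rep.one
    calc u = (g : GL F9 F)⁻¹ * ((g : GL F9 F) * u * (g : GL F9 F)⁻¹) * (g : GL F9 F) := by group
      _ = 1 := by rw [h6]; group
  · obtain ⟨hlt, heq⟩ := hc
    obtain ⟨k, hk, hkr⟩ := inv_mem ω (CP i) hlt
    rw [heq] at hr
    have h6 := hr.ext hkr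
    refine ⟨(g : GL F9 F)⁻¹ * k, (GG ω).mul_mem ((GG ω).inv_mem g.2) hk, ?_⟩
    calc u = (g : GL F9 F)⁻¹ * ((g : GL F9 F) * u * (g : GL F9 F)⁻¹) * (g : GL F9 F) := by group
      _ = _ := by rw [h6]; group

/-- the conjugates of `gX` in `3·J₃`. -/
def conjX : Set (HH ω) := Set.range fun g : HH ω => g * x' ω * g⁻¹

theorem ncard_conjX_le : (conjX ω).ncard ≤ 26163 := by
  have h := ncard_conj_le (x' ω) (C0' ω) (by
    intro h hh
    exact Subtype.ext (C0_comm ω _ (Subgroup.mem_subgroupOf.mp hh)))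
  have h2 := (C0' ω).card_mul_index
  rw [card_C0', show Nat.card (HH ω) = 150698880 from card_GG ω] at h2
  have h3 : (C0' ω).index = 26163 := by omega
  rw [h3] at h
  exact h

/-- the table of involutions is complete. -/
theorem conj_table (u : HH ω) (hu : u ∈ conjX ω) : ∃ i < 26163, Rep ω (u : GL F9 F) (TT i) := by
  have hm := inv_mem ω
  choose g hg hr using hm
  let τ : Fin 26163 → HH ω := fun i =>
    ⟨g i.val i.isLt, hg i.val i.isLt⟩ * x' ω * ⟨g i.val i.isLt, hg i.val i.isLt⟩⁻¹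
  have hτ : ∀ i : Fin 26163, Rep ω (τ i : GL F9 F) (TT i.val) := fun i => hr i.val i.isLt
  have hinj : Function.Injective τ := by
    intro i j hij
    have h1 := hτ i
    rw [hij] at h1
    have h2 := h1.code_eq (hτ j)
    rw [Nat.mod_eq_of_lt (TT_lt _), Nat.mod_eq_of_lt (TT_lt _)] at h2
    exact Fin.ext (TT_inj i.val j.val i.isLt j.isLt h2)
  have hsub : Set.range τ ⊆ conjX ω := by
    rintro _ ⟨i, rfl⟩
    exact ⟨_, rfl⟩
  have hcard : (Set.range τ).ncard = 26163 := by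
    rw [← Set.image_univ, Set.ncard_image_of_injective _ hinj, Set.ncard_univ, Nat.card_fin]
  have heq : Set.range τ = conjX ω :=
    Set.eq_of_subset_of_ncard_le hsub (by rw [hcard]; exact ncard_conjX_le ω) (Set.toFinite _)
  rw [← heq] at hu
  obtain ⟨i, rfl⟩ := hu
  exact ⟨i.val, i.isLt, hτ i⟩

theorem ncard_conjX : (conjX ω).ncard = 26163 := by
  apply le_antisymm (ncard_conjX_le ω)
  have hm := inv_mem ω
  choose g hg hr using hm
  let τ : Fin 26163 → HH ω := fun i =>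
    ⟨g i.val i.isLt, hg i.val i.isLt⟩ * x' ω * ⟨g i.val i.isLt, hg i.val i.isLt⟩⁻¹
  have hτ : ∀ i : Fin 26163, Rep ω (τ i : GL F9 F) (TT i.val) := fun i => hr i.val i.isLt
  have hinj : Function.Injective τ := by
    intro i j hij
    have h1 := hτ i
    rw [hij] at h1
    have h2 := h1.code_eq (hτ j)
    rw [Nat.mod_eq_of_lt (TT_lt _), Nat.mod_eq_of_lt (TT_lt _)] at h2
    exact Fin.ext (TT_inj i.val j.val i.isLt j.isLt h2)
  have hsub : Set.range τ ⊆ conjX ω := by
    rintro _ ⟨i, rfl⟩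
    exact ⟨_, rfl⟩
  have hcard : (Set.range τ).ncard = 26163 := by
    rw [← Set.image_univ, Set.ncard_image_of_injective _ hinj, Set.ncard_univ, Nat.card_fin]
  rw [← hcard]
  exact Set.ncard_le_ncard hsub (Set.toFinite _)

/-- every involution of `3·J₃` is in the table. -/
theorem invol_table (u : HH ω) (h2 : u * u = 1) (h1 : u ≠ 1) :
    ∃ i < 26163, Rep ω (u : GL F9 F) (TT i) := by
  obtain ⟨g, hg, hu⟩ := invol_conj ω u u.2 (congrArg Subtype.val h2)
    (fun h => h1 (Subtype.ext h))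
  exact conj_table ω u ⟨⟨g, hg⟩, Subtype.ext hu.symm⟩

end

end Cfsg.Agent.Helper64J3
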