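import Cfsg.Agent.Lib.Helper64J3Gens
import Cfsg.Agent.Lib.Helper64J3TabK
import Cfsg.Agent.Lib.Helper64J3TabU
import Cfsg.Agent.Lib.Helper64J3TabS

/-!
# The order of `3·J₃` (helper64)
-/

set_option autoImplicit false

namespace Cfsg.Agent.Helper64J3

open Cfsg.Spor
open Cfsg.Agent.Helper64J1 (card_mul_le)

def cX : ℕ := 0xe0012800b0001300046006800130006400001
def cY : ℕ := 0x4020080401000000100402000060000002008000
def cYi : ℕ := 0x804000080201800010000201000020080000008
def tX : ℕ := 0xe0012800b0001300046006800130006400001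
def tY : ℕ := 0x800000080200804010080200000020080400008
def cA : ℕ := 0x20081042042416840061080180d04426190c88000
def tA : ℕ := 0x2600000640020007038944a58000004c2311801a0
def cV0 : ℕ := 0x98cd
def cL : ℕ := 0x329369f64d62f5776d7b027181d24615534d01031
def cP : ℕ := 0x2620502cd00000000040b3502cd000009881
def cPhi : ℕ := 0x9881
def cH2 : ℕ := 0x1a757e47e84e9edeb2f85ff7de1be3c3ae6097e1a
def tH2 : ℕ := 0x16d9edebfb3db436a425fd155bc4c758acffedb34
def cH2a : ℕ := 0x26020902809408230101802000052030882001840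
def cH2ai : ℕ := 0x3058202218c061c00120d02288446211301c00008
def cZeta : ℕ := 0x20000400008000100002000040000800010000200
def cB : ℕ := 0x3030044820081284c231108020c00822000c88040
def PW : ℕ := 0x26000c8640020000038004a58000984c0011b41a0ba4c3b57a00681f80a589188990262c49a0acf4f88b390604d419e22cac123a50e5d028900c6c80121082621502910042050044a844040000400c008363c0025de81801f1132600cbb4c4019079132b84cc6732ed138857308edc45f3469950769fddd9b607bb80d1b456f36fea789a18fc5e83e0ca756c654cb59b6937abf0c9522d00c5c881320443cc61e793129c30008f07cff1589b840d0f86624b6c50e75b1a5eab41e845ce890e97d5b47f3e32dd8d4c7417d3aff997cfaec821823dbcc3bf44ae5a34222d5608464e4082251aad103a4646d67c119d2501aa2420120880001190480048920c0818004600081224321b5000984c004866048ed802ec9024681f600d74fb9381262c521aee2cc31bb151a9c232f59a04081240e0502890b0100309406206804130106400001020000400008000100002000040000800010000200984c00190008041c002500160b0001308c000068089745076b40007b3f1eeb1ea111fa4c23935419ebe1143e0c9f282dc45198266ca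10420634012910050212044024521208624008150900801608018018f47a624b068335de29e4c08f76c80017cf288570818c32dd89910b4e11e9889d68ef4a091bf96f362ef76e5a3c0adec7fd2a93505f80987c2b4ebf0ca0d6b19d26997e422a62c012b912a040c3f9b07cfaba5046002660d01e24e37081a1bd4c736d845ce9c34b24683628b509232efa808fe2665569aaec821775c232ffa5d97e300eb78d97e68dc81e8451aaf6a8c1301010a3592232e8cb92cef4339520190480c24008004032244002824207031188cb01000486d56a001324200bc4c3b7dbf35dbd0487dbed21ae24725fa4c9f241ebc51e63408a39f04464b30b0120081042042416840061080180d04426190c88000804010080201004020080401008020100402008040130c8000000107038944a002c098002311b400098112f4a0d068014f6233df21d458bf414479f282737c0987f3d3e95db87433cbcd912088dc682452048a2a040200480a2489448810200200182c06830011ebd4c4020d266b8193c9891f2190262f89910e61022665ae131db69be3d1333aed5ebbb23c0adf005d68dca6d814f58c3055bd2081813ad856997e36c1af433195305a848bc58265788540c3872660f87571188f9e4cb1200809cf0900977aa1e6f628bd5387d0489d6c5d2a1b6e5e7d01bb44d8eadfa5dbf22e9f04505f447afd861d891b346d14583c10a39ced444265582074b28de5f8372a4deb552a4032110180201090809148980500040c0023241624200005a8980090c8491780076d21e6d07a000fb9f243024858bf75d3e983d7623c538125f3e408c82416c0c0112080204a1308c44200830020880032201000100002000040000800010000200004000080001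
def cGi37 : ℕ := 0x130002c0004600680019000038004a001300001
def cGi31 : ℕ := 0x8000100080000080040000800100000400001
def cGi1 : ℕ := 0x20000402000040100002010000200800010080001
def cGi21 : ℕ := 0x4000080001804010000001000020000400008
def cGi9 : ℕ := 0x20000400008040100002000040200804010080001
def wH2a : List Bool := [true, true, true, true, false, true, true, true, true, true, true, false]
def wH2b : List Bool := [false, true, true, false, true, true, true, true, true, false, true, true, false]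

noncomputable def stepOK (s : ℕ) (C : ℕ → ℕ) (i : ℕ) : Bool :=
  Nat.blt (f1 (C i)) 20520 && Nat.blt (f2 (C i)) 7344 &&
  Nat.beq (mulC s (UT i)) (mulC (UT (f1 (C i))) (KT (f2 (C i))))

set_option maxRecDepth 100000 in
theorem kcheck : allB 7344 (gtOK cA cH2 KT KX 7344) = true := by decide +kernel

set_option maxRecDepth 100000 in
theorem stepX : allB 20520 (stepOK cX SX) = true := by decide +kernel

set_option maxRecDepth 100000 in
theorem stepY : allB 20520 (stepOK cY SY) = true := by decide +kernel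

set_option maxRecDepth 100000 in
theorem orbcheck : allB 20520 (orbOK tX tY OB 20520 cV0) = true := by decide +kernel

noncomputable def genOK (k : ℕ) : Bool :=
  Nat.beq k 27 || Nat.beq k 36 ||
  (Nat.blt (f1 (yAt GC k)) 20520 && Nat.blt (f2 (yAt GC k)) 7344 &&
  Nat.beq (cAt GENS k) (mulC (UT (f1 (yAt GC k))) (KT (f2 (yAt GC k)))))

theorem gencheck : allB 45 genOK = true := by decide +kernel

section
variable {F : Type*} [Field F] (ω : F) [Om F ω]

def gX : GL F9 F := mkU ω cX cX (by decide +kernel) (by decide +kernel)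
def gY : GL F9 F := mkU ω cY cYi (by decide +kernel) (by decide +kernel)

theorem rep_gX : Rep ω (gX ω) cX := rfl
theorem rep_gY : Rep ω (gY ω) cY := rfl

/-- the group generated by `gX`, `gY`. -/
def GG : Subgroup (GL F9 F) := Subgroup.closure {gX ω, gY ω}

theorem gX_mem : gX ω ∈ GG ω := Subgroup.subset_closure (by simp)
theorem gY_mem : gY ω ∈ GG ω := Subgroup.subset_closure (by simp)

def gA : GL F9 F := gX ω * gY ω
theorem rep_gA : Rep ω (gA ω) cA := ((rep_gX ω).mul (rep_gY ω)).cast (by decide +kernel)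
theorem gA_mem : gA ω ∈ GG ω := (GG ω).mul_mem (gX_mem ω) (gY_mem ω)

def gH2 : GL F9 F := (evW (gX ω) (gY ω) wH2a)⁻¹ * evW (gX ω) (gY ω) wH2b
theorem rep_gH2 : Rep ω (gH2 ω) cH2 := by
  have h1 : Rep ω (evW (gX ω) (gY ω) wH2a) cH2a :=
    (rep_evW (rep_gX ω) (rep_gY ω) wH2a).cast (by decide +kernel)
  have h2 : Rep ω (evW (gX ω) (gY ω) wH2a)⁻¹ cH2ai := h1.inv (by decide +kernel)
  exact (h2.mul (rep_evW (rep_gX ω) (rep_gY ω) wH2b)).cast (by decide +kernel)
theorem gH2_mem : gH2 ω ∈ GG ω :=
  (GG ω).mul_mem ((GG ω).inv_mem (evW_mem _ _ _)) (evW_mem _ _ _)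

/-- the stabiliser `3 × L₂(17)` of the line fixed by `gA`. -/
def K0 : Subgroup (GL F9 F) := Subgroup.closure {gA ω, gH2 ω}

theorem ktab : GTab ω (K0 ω) KT 7344 :=
  gtab_of_check (fun _ => cAt_lt _ _) (rep_gA ω) (rep_gH2 ω) (i0 := 13) (by norm_num) (by decide +kernel) kcheck

theorem K0_le_GG : K0 ω ≤ GG ω := by
  unfold K0
  rw [Subgroup.closure_le]
  rintro z (rfl | rfl)
  · exact gA_mem ω
  · exact gH2_mem ω

theorem step {g : GL F9 F} {s : ℕ} {C : ℕ → ℕ} (hg : Rep ω g s)
    (h : allB 20520 (stepOK s C) = true)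
    (p : Fin 20520 × Fin 7344) : ∃ q : Fin 20520 × Fin 7344,
      (g : Matrix F9 F9 F) * (toMat ω (UT p.1.val) * toMat ω (KT p.2.val)) =
        toMat ω (UT q.1.val) * toMat ω (KT q.2.val) := by
  rw [allB_iff] at h
  have := h p.1.val p.1.isLt
  simp only [stepOK, Bool.and_eq_true, Nat.blt_eq, Nat.beq_eq] at this
  obtain ⟨⟨h1, h2⟩, h3⟩ := this
  obtain ⟨l, hl, hl'⟩ := (ktab ω).mul _ p.2.val h2 p.2.isLt
  refine ⟨(⟨_, h1⟩, ⟨l, hl⟩), ?_⟩
  have h4 := congrArg (toMat ω) h3
  rw [toMat_mulC, toMat_mulC] at h4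
  rw [hg, ← mul_assoc, h4, mul_assoc, hl']

theorem UK_one : toMat ω (UT 3062) * toMat ω (KT 13) = 1 := by
  have h1 : UT 3062 = cOne := by decide +kernel
  have h2 : KT 13 = cOne := by decide +kernel
  rw [h1, h2, toMat_cOne, one_mul]

theorem UK_step : ∀ s ∈ ({gX ω, gY ω} : Set (GL F9 F)), ∀ p : Fin 20520 × Fin 7344,
    ∃ q : Fin 20520 × Fin 7344,
      (s : Matrix F9 F9 F) * (toMat ω (UT p.1.val) * toMat ω (KT p.2.val)) =
        toMat ω (UT q.1.val) * toMat ω (KT q.2.val) := by
  intro s hs p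
  rcases hs with rfl | rfl
  · exact step ω (rep_gX ω) stepX p
  · exact step ω (rep_gY ω) stepY p

theorem card_GG_le : Nat.card (GG ω) ≤ 150698880 := by
  have := card_closure_le ({gX ω, gY ω} : Set (GL F9 F))
    (fun p : Fin 20520 × Fin 7344 => toMat ω (UT p.1.val) * toMat ω (KT p.2.val))
    (⟨3062, by norm_num⟩, ⟨13, by norm_num⟩) (UK_one ω) (UK_step ω)
  rw [Nat.card_prod, Nat.card_fin, Nat.card_fin] at this
  exact this

theorem repT_gX : RepT ω (gX ω) tX := (rep_gX ω).repT (by decide +kernel)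
theorem repT_gY : RepT ω (gY ω) tY := (rep_gY ω).repT (by decide +kernel)
theorem repT_gA : RepT ω (gA ω) tA := (rep_gA ω).repT (by decide +kernel)
theorem repT_gH2 : RepT ω (gH2 ω) tH2 := (rep_gH2 ω).repT (by decide +kernel)

theorem orbtab : OrbTab ω (GG ω) OB 20520 cV0 :=
  orbTab_of_check (repT_gX ω) (repT_gY ω) orbcheck

/-- the stabiliser in `GG` of the line fixed by `gA`. -/
def S0 : Subgroup (GL F9 F) := lineStab (toVec ω cV0) ⊓ GG ω

theorem K0_le_S0 : K0 ω ≤ S0 ω := by
  refine le_inf ?_ (K0_le_GG ω)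
  unfold K0
  rw [Subgroup.closure_le]
  rintro z (rfl | rfl)
  · refine ⟨1, ?_⟩
    rw [← (repT_gA ω).mulVec]
    have : mulC cV0 tA = cV0 := by decide +kernel
    rw [this]; simp
  · obtain ⟨μ, hμ⟩ := toVec_wPow ω 2 cV0
    refine ⟨μ, ?_⟩
    rw [← (repT_gH2 ω).mulVec, ← hμ]
    have : mulC cV0 tH2 = wPow 2 cV0 := by decide +kernel
    rw [this]

variable [Finite F]

theorem card_GG : Nat.card (GG ω) = 150698880 := by
  refine le_antisymm (card_GG_le ω) ?_
  have h1 := (orbtab ω).card_le
  have h2 : Nat.card (K0 ω) ≤ Nat.card (S0 ω) := Subgroup.card_le_of_le (K0_le_S0 ω)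
  rw [(ktab ω).card] at h2
  calc 150698880 = 20520 * 7344 := by norm_num
    _ ≤ 20520 * Nat.card (S0 ω) := Nat.mul_le_mul_left _ h2
    _ ≤ _ := h1

theorem S0_eq_K0 : S0 ω = K0 ω := by
  symm
  refine Subgroup.eq_of_le_of_card_ge (K0_le_S0 ω) ?_
  have h1 := (orbtab ω).card_le
  rw [card_GG] at h1
  rw [(ktab ω).card]
  have : 20520 * Nat.card (S0 ω) ≤ 20520 * 7344 := by
    calc _ ≤ 150698880 := h1
      _ = _ := by norm_num
  exact Nat.le_of_mul_le_mul_left this (by norm_num)

theorem UK_mem (i j : ℕ) (hi : i < 20520) (hj : j < 7344) :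
    ∃ g ∈ GG ω, (g : Matrix F9 F9 F) = toMat ω (UT i) * toMat ω (KT j) :=
  exists_mem_closure_eq ({gX ω, gY ω} : Set (GL F9 F))
    (fun p : Fin 20520 × Fin 7344 => toMat ω (UT p.1.val) * toMat ω (KT p.2.val))
    (⟨3062, by norm_num⟩, ⟨13, by norm_num⟩) (UK_one ω) (UK_step ω)
    (by rw [Nat.card_prod, Nat.card_fin, Nat.card_fin]; exact (card_GG ω).ge) (⟨i, hi⟩, ⟨j, hj⟩)

theorem threeJ3_le : threeJ3 F ω ≤ GG ω := by
  unfold threeJ3
  rw [Subgroup.closure_le]
  intro g hg
  obtain ⟨k, hk, h27, h36, hM⟩ := exists_code_of_mem_j3Gens ω _ hg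
  have h := gencheck
  rw [allB_iff] at h
  have := h k hk
  simp only [genOK, Bool.or_eq_true, Bool.and_eq_true, Nat.blt_eq, Nat.beq_eq] at this
  rcases this with (h1 | h1) | ⟨⟨h1, h2⟩, h3⟩
  · exact absurd h1 h27
  · exact absurd h1 h36
  · obtain ⟨g', hg', hgg⟩ := UK_mem ω _ _ h1 h2
    have : g = g' := Units.ext (by rw [hM, hgg, h3, toMat_mulC])
    rw [this]; exact hg'

omit [Finite F] in
theorem mem_threeJ3_of_code (k : ℕ) (c' : ℕ) (h1 : mulC (cAt GENS k) c' = cOne)
    (h2 : mulC c' (cAt GENS k) = cOne) (hk : toMat ω (cAt GENS k) ∈ j3Gens F ω) :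
    mkU ω (cAt GENS k) c' h1 h2 ∈ threeJ3 F ω :=
  Subgroup.subset_closure hk

omit [Finite F] in
theorem GG_le : GG ω ≤ threeJ3 F ω := by
  have m37 := mem_threeJ3_of_code ω 37 cGi37 (by decide +kernel) (by decide +kernel) (by
    have := j3C_eq (F := F) ω ((1, 0) : F9)
    have e : 36 + idx ((1, 0) : F9) = 37 := by decide
    rw [e] at this
    rw [← this]
    exact Or.inr ⟨(1, 0), by decide, rfl⟩)
  have m31 := mem_threeJ3_of_code ω 31 cGi31 (by decide +kernel) (by decide +kernel) (by
    have := j3B_eq (F := F) ω ((1, 1) : F9)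
    have e : 27 + idx ((1, 1) : F9) = 31 := by decide
    rw [e] at this
    rw [← this]
    exact Or.inl (Or.inr ⟨(1, 1), by decide, rfl⟩))
  have m1 := mem_threeJ3_of_code ω 1 cGi1 (by decide +kernel) (by decide +kernel) (by
    have := j3A_eq (F := F) ω ((1, 0) : F9)
    have e : idx ((1, 0) : F9) = 1 := by decide
    rw [e] at this
    rw [← this]
    exact Or.inl (Or.inl (Or.inl (Or.inl ⟨(1, 0), rfl⟩))))
  have m21 := mem_threeJ3_of_code ω 21 cGi21 (by decide +kernel) (by decide +kernel) (by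
    have := j3D_eq (F := F) ω ((0, 1) : F9)
    have e : 18 + idx ((0, 1) : F9) = 21 := by decide
    rw [e] at this
    rw [← this]
    exact Or.inl (Or.inl (Or.inr ⟨(0, 1), rfl⟩)))
  have m9 := mem_threeJ3_of_code ω 9 cGi9 (by decide +kernel) (by decide +kernel) (by
    have := j3E_eq (F := F) ω ((0, 0) : F9)
    have e : 9 + idx ((0, 0) : F9) = 9 := by decide
    rw [e] at this
    rw [← this]
    exact Or.inl (Or.inl (Or.inl (Or.inr ⟨(0, 0), rfl⟩))))
  unfold GG
  rw [Subgroup.closure_le]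
  rintro z (rfl | rfl)
  · have : gX ω = mkU ω (cAt GENS 37) cGi37 (by decide +kernel) (by decide +kernel) *
        mkU ω (cAt GENS 31) cGi31 (by decide +kernel) (by decide +kernel) :=
      (rep_gX ω).ext (((rep_mkU _ _ _ _).mul (rep_mkU _ _ _ _)).cast (by decide +kernel))
    rw [this]
    exact Subgroup.mul_mem _ m37 m31
  · have : gY ω = mkU ω (cAt GENS 1) cGi1 (by decide +kernel) (by decide +kernel) *
        mkU ω (cAt GENS 21) cGi21 (by decide +kernel) (by decide +kernel) *
        mkU ω (cAt GENS 9) cGi9 (by decide +kernel) (by decide +kernel) :=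
      (rep_gY ω).ext ((((rep_mkU _ _ _ _).mul (rep_mkU _ _ _ _)).mul (rep_mkU _ _ _ _)).cast
        (by decide +kernel))
    rw [this]
    exact Subgroup.mul_mem _ (Subgroup.mul_mem _ m1 m21) m9

theorem threeJ3_eq : threeJ3 F ω = GG ω := le_antisymm (threeJ3_le ω) (GG_le ω)

theorem card_threeJ3 : Nat.card (threeJ3 F ω) = 150698880 := by
  rw [threeJ3_eq, card_GG]

end

end Cfsg.Agent.Helper64J3
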