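import Cfsg.Agent.Lib.Helper64J3Order
import Cfsg.Agent.Lib.Helper64J3Group

/-!
# The centre of `3·J₃` and the simplicity of `J₃` (helper64)
-/

set_option autoImplicit false

namespace Cfsg.Agent.Helper64J3

open Cfsg.Spor
open Cfsg.Agent.Helper64J1 (factorization_eq_of_dvd)

def cZeta2 : ℕ := 0x20100402008040100802010040200804010080201

/-- position of `c` in the table of the powers of `gB`. -/
def findP (c : ℕ) : ℕ → ℕ
  | 0 => 0
  | p + 1 => if Nat.beq (cAt PW p) c then p else findP c p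

noncomputable def centOK (j : ℕ) : Bool :=
  neC (mulC (KT j) cA) (mulC cA (KT j)) ||
    (Nat.blt (findP (KT j) 51) 51 && Nat.beq (cAt PW (findP (KT j) 51)) (KT j))

set_option maxRecDepth 100000 in
theorem centcheck : allB 7344 centOK = true := by decide +kernel

theorem pwcheck : allB 51 (fun p => Nat.beq (powC cB p) (cAt PW p)) = true := by decide +kernel

theorem numeric_17 : ∀ r k : ℕ, r.Prime → r ≠ 17 → 0 < k → r ^ k ∣ 50232960 →
    ¬ r ^ k ≡ 1 [MOD 17] := by
  intro r k hr h17 hk hdvd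
  have hrd : r ∣ 2 ^ 7 * 3 ^ 5 * 5 * 17 * 19 := by
    have : r ∣ r ^ k := dvd_pow_self r hk.ne'
    exact (this.trans hdvd).trans (by norm_num)
  have hcases : r = 2 ∨ r = 3 ∨ r = 5 ∨ r = 19 := by
    rcases (Nat.Prime.dvd_mul hr).mp hrd with h | h
    · rcases (Nat.Prime.dvd_mul hr).mp h with h | h
      · rcases (Nat.Prime.dvd_mul hr).mp h with h | h
        · rcases (Nat.Prime.dvd_mul hr).mp h with h | h
          · left
            exact (Nat.prime_dvd_prime_iff_eq hr (by norm_num)).mp (hr.dvd_of_dvd_pow h)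
          · right; left
            exact (Nat.prime_dvd_prime_iff_eq hr (by norm_num)).mp (hr.dvd_of_dvd_pow h)
        · right; right; left
          exact (Nat.prime_dvd_prime_iff_eq hr (by norm_num)).mp h
      · exact absurd ((Nat.prime_dvd_prime_iff_eq hr (by norm_num)).mp h) h17
    · right; right; right
      exact (Nat.prime_dvd_prime_iff_eq hr (by norm_num)).mp h
  have bound : ∀ q e : ℕ, ¬ q ^ (e + 1) ∣ 50232960 → q ^ k ∣ 50232960 → k ≤ e := by
    intro q e h1 h2
    by_contra hlt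
    exact h1 ((pow_dvd_pow q (by omega)).trans h2)
  rcases hcases with rfl | rfl | rfl | rfl
  · have := bound 2 7 (by norm_num) hdvd
    interval_cases k <;> decide
  · have := bound 3 5 (by norm_num) hdvd
    interval_cases k <;> decide
  · have := bound 5 1 (by norm_num) hdvd
    interval_cases k
    decide
  · have := bound 19 1 (by norm_num) hdvd
    interval_cases k
    decide

theorem closure_pair_top {G : Type*} [Group G] (x y : G) :
    Subgroup.closure ({⟨x, Subgroup.subset_closure (by simp)⟩,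
      ⟨y, Subgroup.subset_closure (by simp)⟩} : Set (Subgroup.closure ({x, y} : Set G))) = ⊤ := by
  rw [eq_top_iff]
  rintro ⟨g, hg⟩ -
  have key : ∀ g (hg : g ∈ Subgroup.closure ({x, y} : Set G)),
      (⟨g, hg⟩ : Subgroup.closure ({x, y} : Set G)) ∈
        Subgroup.closure ({⟨x, Subgroup.subset_closure (by simp)⟩,
          ⟨y, Subgroup.subset_closure (by simp)⟩} : Set (Subgroup.closure ({x, y} : Set G))) := by
    intro g hg
    induction hg using Subgroup.closure_induction with
    | mem z hz =>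
      rcases hz with rfl | rfl
      · exact Subgroup.subset_closure (Or.inl rfl)
      · exact Subgroup.subset_closure (Or.inr rfl)
    | one => exact Subgroup.one_mem _
    | mul a b ha hb iha ihb => exact Subgroup.mul_mem _ iha ihb
    | inv a ha ih => exact Subgroup.inv_mem _ ih
  exact key g hg

section
variable {F : Type*} [Field F] (ω : F) [Om F ω]

/-- the scalar `ω`. -/
def gZ : GL F9 F := mkU ω cZeta cZeta2 (by decide +kernel) (by decide +kernel)
theorem rep_gZ : Rep ω (gZ ω) cZeta := rfl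

theorem gZ_val : (gZ ω : Matrix F9 F9 F) = ω • (1 : Matrix F9 F9 F) := by
  have h : wM cOne = cZeta := by decide +kernel
  rw [rep_gZ ω, ← h, toMat_wM, toMat_cOne]

theorem gZ_comm (g : GL F9 F) : g * gZ ω = gZ ω * g := by
  apply Units.ext
  rw [Units.val_mul, Units.val_mul, gZ_val]
  simp

theorem gZ_mem_K0 : gZ ω ∈ K0 ω := by
  obtain ⟨g, hg, hr⟩ := (ktab ω).mem 3688 (by norm_num)
  have h : KT 3688 = cZeta := by decide +kernel
  rw [h] at hr
  rw [(rep_gZ ω).ext hr]
  exact hg

theorem gZ_mem : gZ ω ∈ GG ω := K0_le_GG ω (gZ_mem_K0 ω)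

def gB : GL F9 F := gA ω * gZ ω
theorem rep_gB : Rep ω (gB ω) cB := ((rep_gA ω).mul (rep_gZ ω)).cast (by decide +kernel)
theorem gB_mem : gB ω ∈ GG ω := (GG ω).mul_mem (gA_mem ω) (gZ_mem ω)

theorem orderOf_gZ : orderOf (gZ ω) = 3 :=
  orderOf_of_ordOK (rep_gZ ω) (by norm_num) (by decide +kernel)
theorem orderOf_gA : orderOf (gA ω) = 17 :=
  orderOf_of_ordOK (rep_gA ω) (by norm_num) (by decide +kernel)
theorem orderOf_gB : orderOf (gB ω) = 51 :=
  orderOf_of_ordOK (rep_gB ω) (by norm_num) (by decide +kernel)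
theorem gX_sq : gX ω ^ 2 = 1 := ((rep_gX ω).pow 2).ext (Rep.one.cast (by decide +kernel))
theorem gY_pow : gY ω ^ 9 = 1 := ((rep_gY ω).pow 9).ext (Rep.one.cast (by decide +kernel))

theorem gA_not_comm : gA ω * gX ω ≠ gX ω * gA ω :=
  ((rep_gA ω).mul (rep_gX ω)).ne ((rep_gX ω).mul (rep_gA ω)) (by decide +kernel)
theorem gB_not_comm : gB ω * gX ω ≠ gX ω * gB ω :=
  ((rep_gB ω).mul (rep_gX ω)).ne ((rep_gX ω).mul (rep_gB ω)) (by decide +kernel)

variable [Finite F]

/-- the centraliser of `gA` is generated by `gB`. -/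
theorem mem_zpowers_of_commute (c : GL F9 F) (hc : c ∈ GG ω) (hcomm : Commute c (gA ω)) :
    c ∈ Subgroup.zpowers (gB ω) := by
  have h1 : c ∈ lineStab (toVec ω cV0) :=
    mem_lineStab_of_commute (L := cL) (P := cP) (φ := cPhi) (rep_gA ω) (repT_gA ω)
      (by decide +kernel) (by decide +kernel) (by decide +kernel) c hcomm
  have h2 : c ∈ K0 ω := by
    rw [← S0_eq_K0]
    exact ⟨h1, hc⟩
  obtain ⟨j, hj, hr⟩ := (ktab ω).of_mem c h2
  have h3 := centcheck
  rw [allB_iff] at h3
  have h4 := h3 j hj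
  simp only [centOK, Bool.or_eq_true, Bool.and_eq_true, Nat.blt_eq, Nat.beq_eq] at h4
  rcases h4 with h4 | ⟨h4, h5⟩
  · exact absurd hcomm.eq ((hr.mul (rep_gA ω)).ne ((rep_gA ω).mul hr) h4)
  · have h6 := pwcheck
    rw [allB_iff] at h6
    have h7 := h6 _ h4
    rw [Nat.beq_eq] at h7
    have h8 : Rep ω (gB ω ^ findP (KT j) 51) (KT j) := ((rep_gB ω).pow _).cast (h7.trans h5)
    rw [hr.ext h8]
    exact Subgroup.pow_mem _ (Subgroup.mem_zpowers _) _

/-- elements of `GG` as a group. -/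
abbrev HH : Type _ := ↥(GG ω)

def x' : HH ω := ⟨gX ω, gX_mem ω⟩
def y' : HH ω := ⟨gY ω, gY_mem ω⟩
def a' : HH ω := ⟨gA ω, gA_mem ω⟩
def b' : HH ω := ⟨gB ω, gB_mem ω⟩
def z' : HH ω := ⟨gZ ω, gZ_mem ω⟩

omit [Finite F] in
theorem a'_eq : a' ω = x' ω * y' ω := rfl
omit [Finite F] in
theorem b'_eq : b' ω = a' ω * z' ω := rfl

theorem mem_zpowers_b' (c : HH ω) (hc : Commute c (a' ω)) : c ∈ Subgroup.zpowers (b' ω) := by
  have h1 := mem_zpowers_of_commute ω c.1 c.2 (congrArg Subtype.val hc.eq)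
  obtain ⟨k, hk⟩ := Subgroup.mem_zpowers_iff.mp h1
  exact Subgroup.mem_zpowers_iff.mpr ⟨k, Subtype.ext (by rw [Subgroup.coe_zpow]; exact hk)⟩

omit [Finite F] in
theorem z'_mem_center : z' ω ∈ Subgroup.center (HH ω) := by
  rw [Subgroup.mem_center_iff]
  intro g
  exact Subtype.ext (gZ_comm ω g.1)

omit [Finite F] in
theorem orderOf_z' : orderOf (z' ω) = 3 := by
  rw [← Subgroup.orderOf_coe]; exact orderOf_gZ ω
omit [Finite F] in
theorem orderOf_a' : orderOf (a' ω) = 17 := by
  rw [← Subgroup.orderOf_coe]; exact orderOf_gA ω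
omit [Finite F] in
theorem orderOf_b' : orderOf (b' ω) = 51 := by
  rw [← Subgroup.orderOf_coe]; exact orderOf_gB ω

theorem card_center : Nat.card (Subgroup.center (HH ω)) = 3 := by
  have h1 : Subgroup.center (HH ω) ≤ Subgroup.zpowers (b' ω) := by
    intro z hz
    exact mem_zpowers_b' ω z ((Subgroup.mem_center_iff.mp hz (a' ω)).symm)
  have h3 : 3 ∣ Nat.card (Subgroup.center (HH ω)) := by
    have := Subgroup.orderOf_dvd_natCard _ (z'_mem_center ω)
    rwa [orderOf_z'] at this
  have h4 : Nat.card (Subgroup.center (HH ω)) ∣ 51 := by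
    have := Subgroup.card_dvd_of_le h1
    rwa [Nat.card_zpowers, orderOf_b'] at this
  have h5 : Nat.card (Subgroup.center (HH ω)) ≠ 51 := by
    intro h
    have h6 : Subgroup.center (HH ω) = Subgroup.zpowers (b' ω) :=
      Subgroup.eq_of_le_of_card_ge h1 (by rw [Nat.card_zpowers, orderOf_b', h])
    have h7 : b' ω ∈ Subgroup.center (HH ω) := by rw [h6]; exact Subgroup.mem_zpowers _
    have h8 := Subgroup.mem_center_iff.mp h7 (x' ω)
    exact gB_not_comm ω (congrArg Subtype.val h8).symm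
  have hmem : Nat.card (Subgroup.center (HH ω)) ∈ Nat.divisors 51 :=
    Nat.mem_divisors.mpr ⟨h4, by norm_num⟩
  have key : ∀ n ∈ Nat.divisors 51, 3 ∣ n → n ≠ 51 → n = 3 := by decide
  exact key _ hmem h3 h5

theorem card_quot : Nat.card (HH ω ⧸ Subgroup.center (HH ω)) = 50232960 := by
  have h := Subgroup.card_eq_card_quotient_mul_card_subgroup (Subgroup.center (HH ω))
  rw [card_center, card_GG] at h
  omega

theorem simple_quot : IsSimpleGroup (HH ω ⧸ Subgroup.center (HH ω)) := by
  have p17 : Fact (Nat.Prime 17) := ⟨by norm_num⟩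
  set Z := Subgroup.center (HH ω) with hZ
  set φ := QuotientGroup.mk' Z with hφ
  have hsurj : Function.Surjective φ := QuotientGroup.mk'_surjective Z
  have mem_iff : ∀ z : HH ω, z ∈ Z ↔ φ z = 1 := fun z => (QuotientGroup.eq_one_iff z).symm
  have ha_ne : φ (a' ω) ≠ 1 := by
    intro h
    have h7 := (mem_iff _).mpr h
    have h8 := Subgroup.mem_center_iff.mp h7 (x' ω)
    exact gA_not_comm ω (congrArg Subtype.val h8).symm
  have ha17 : a' ω ^ 17 = 1 := by rw [← orderOf_a' ω]; exact pow_orderOf_eq_one _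
  have ho : orderOf (φ (x' ω) * φ (y' ω)) = 17 := by
    rw [← map_mul, ← a'_eq]
    exact orderOf_eq_prime (by rw [← map_pow, ha17, map_one]) ha_ne
  refine simple_of_self_centralizing 17 ?_ (φ (x' ω)) (φ (y' ω)) ?_ 2 9 ?_ ?_ (by norm_num) ho
    (Subgroup.zpowers (φ (x' ω) * φ (y' ω))) ?_ (by rw [Nat.card_zpowers, ho]) ?_
  · rw [card_quot]
    exact factorization_eq_of_dvd (by norm_num) (by norm_num) (by norm_num) (by norm_num)
  · have h1 : Subgroup.closure ({x' ω, y' ω} : Set (HH ω)) = ⊤ :=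
      closure_pair_top (gX ω) (gY ω)
    have h2 := congrArg (Subgroup.map φ) h1
    rw [MonoidHom.map_closure, Subgroup.map_top_of_surjective φ hsurj, Set.image_pair] at h2
    exact h2
  · rw [← map_pow]
    have : x' ω ^ 2 = 1 := Subtype.ext (gX_sq ω)
    rw [this, map_one]
  · rw [← map_pow]
    have : y' ω ^ 9 = 1 := Subtype.ext (gY_pow ω)
    rw [this, map_one]
  · intro cbar hc
    obtain ⟨c, rfl⟩ := hsurj cbar
    rw [← map_mul, ← a'_eq] at hc ⊢
    have h1 : φ (c * a' ω) = φ (a' ω * c) := by rw [map_mul, map_mul]; exact hc.eq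
    have h2 : (a' ω * c)⁻¹ * (c * a' ω) ∈ Z := by
      rw [mem_iff, map_mul, map_inv, h1, inv_mul_cancel]
    set z := (a' ω * c)⁻¹ * (c * a' ω) with hz
    have hzc : ∀ g : HH ω, g * z = z * g := Subgroup.mem_center_iff.mp h2
    have h3 : c * a' ω * c⁻¹ = a' ω * z := by
      have : c * a' ω = a' ω * c * z := by rw [hz]; group
      rw [this, mul_assoc (a' ω) c z, hzc c, mul_assoc, mul_assoc, mul_inv_cancel, mul_one]
    have h4 : z ^ 17 = 1 := by
      have h5 : (c * a' ω * c⁻¹) ^ 17 = 1 := by rw [conj_pow, ha17]; group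
      rw [h3, (show Commute (a' ω) z from hzc (a' ω)).mul_pow, ha17, one_mul] at h5
      exact h5
    have h6 : z ^ 3 = 1 := by
      have := pow_card_eq_one' (G := Z) (x := ⟨z, h2⟩)
      rw [card_center] at this
      exact congrArg Subtype.val this
    have h7 : z = 1 := by
      have e : z ^ 18 = z ^ 17 * z := pow_succ _ _
      have e' : z ^ 18 = (z ^ 3) ^ 6 := by rw [← pow_mul]
      rw [e', h6, one_pow, h4, one_mul] at e
      exact e.symm
    have h8 : Commute c (a' ω) := by
      have : c * a' ω = a' ω * c * z := by rw [hz]; group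
      rw [h7, mul_one] at this
      exact this
    obtain ⟨k, hk⟩ := Subgroup.mem_zpowers_iff.mp (mem_zpowers_b' ω c h8)
    rw [← hk, map_zpow, b'_eq, map_mul, (mem_iff _).mp (z'_mem_center ω), mul_one]
    exact Subgroup.zpow_mem _ (Subgroup.mem_zpowers _) _
  · rw [card_quot]
    exact numeric_17

theorem main_threeJ3 : Nat.card ↥(Subgroup.center ↥(threeJ3 F ω)) = 3 ∧
    Nat.card ↥(threeJ3 F ω) = 150698880 ∧ Nat.card (J3 F ω) = 50232960 ∧
    IsSimpleGroup (J3 F ω) := by
  unfold J3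
  rw [threeJ3_eq ω]
  exact ⟨card_center ω, card_GG ω, card_quot ω, simple_quot ω⟩

end

/-- the hypotheses hold in a field with four elements. -/
theorem om_of_card {F : Type*} [Field F] [Fintype F] (hF : Fintype.card F = 4) (ω : F)
    (hω : ω ^ 2 + ω + 1 = 0) : Om F ω := by
  refine ⟨?_, hω⟩
  have h4 : ((4 : ℕ) : F) = 0 := by rw [← hF]; exact Nat.cast_card_eq_zero F
  have h5 : (2 : F) * 2 = 0 := by
    have : ((4 : ℕ) : F) = 2 * 2 := by norm_num
    rw [← this, h4]
  exact mul_self_eq_zero.mp h5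

end Cfsg.Agent.Helper64J3
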