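import Mathlib
import Cfsg.Agent.Lib.Helper35TC

/-!
# Evaluation of words (`WExp`) on codes (helper64)

A group `T` whose elements are represented by natural numbers (`Rep g c`), with a product on codes.
A word is evaluated on codes; inverses are handled by carrying a flag (`true` = the inverse is
wanted), every generator coming with the code of its inverse.
-/

set_option autoImplicit false

namespace Cfsg.Agent.Helper64WEval

open Cfsg.Agent.Lib.Helper35TC

variable {α : Type}

/-- power on codes. -/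
def powN (mulC : ℕ → ℕ → ℕ) (one : ℕ) (a : ℕ) : ℕ → ℕ
  | 0 => one
  | n + 1 => mulC (powN mulC one a n) a

/-- the code of a word (`false`) or of its inverse (`true`). -/
def ev (mulC : ℕ → ℕ → ℕ) (one : ℕ) (cd : α → ℕ × ℕ) : WExp α → Bool → ℕ
  | .of a, b => match b with
    | false => (cd a).1
    | true => (cd a).2
  | .mul x y, b => match b with
    | false => mulC (ev mulC one cd x false) (ev mulC one cd y false)
    | true => mulC (ev mulC one cd y true) (ev mulC one cd x true)
  | .inv x, b => ev mulC one cd x (!b)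
  | .pow x n, b => powN mulC one (ev mulC one cd x b) n

theorem rep_powN {T : Type*} [Group T] (Rep : T → ℕ → Prop) (mulC : ℕ → ℕ → ℕ) (one : ℕ)
    (hmul : ∀ g h a b, Rep g a → Rep h b → Rep (g * h) (mulC a b)) (hone : Rep 1 one)
    (g : T) (a : ℕ) (h : Rep g a) (n : ℕ) : Rep (g ^ n) (powN mulC one a n) := by
  induction n with
  | zero => simpa [powN] using hone
  | succ n ih => rw [pow_succ]; exact hmul _ _ _ _ ih h

theorem rep_ev {T : Type*} [Group T] (Rep : T → ℕ → Prop) (mulC : ℕ → ℕ → ℕ) (one : ℕ)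
    (hmul : ∀ g h a b, Rep g a → Rep h b → Rep (g * h) (mulC a b)) (hone : Rep 1 one)
    (cd : α → ℕ × ℕ) (f : α → T) (h1 : ∀ a, Rep (f a) (cd a).1) (h2 : ∀ a, Rep (f a)⁻¹ (cd a).2)
    (e : WExp α) :
    Rep (FreeGroup.lift f e.eval) (ev mulC one cd e false) ∧
      Rep (FreeGroup.lift f e.eval)⁻¹ (ev mulC one cd e true) := by
  induction e with
  | of a => simpa [WExp.eval, ev] using ⟨h1 a, h2 a⟩
  | mul x y ihx ihy =>
    simp only [WExp.eval, ev, map_mul, mul_inv_rev]
    exact ⟨hmul _ _ _ _ ihx.1 ihy.1, hmul _ _ _ _ ihy.2 ihx.2⟩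
  | inv x ih =>
    simp only [WExp.eval, ev, map_inv, inv_inv, Bool.not_false, Bool.not_true]
    exact ⟨ih.2, ih.1⟩
  | pow x n ih =>
    simp only [WExp.eval, ev, map_pow, ← inv_pow]
    exact ⟨rep_powN Rep mulC one hmul hone _ _ ih.1 n, rep_powN Rep mulC one hmul hone _ _ ih.2 n⟩

end Cfsg.Agent.Helper64WEval
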