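import Cfsg.Prelude
import Cfsg.Agent.S1446
import Cfsg.Agent.Lib.Helper30SZ

set_option autoImplicit false
open Cfsg

namespace Cfsg.Agent.Lib.Helper66BG15ab

open Subgroup

universe u
variable {G : Type u} [Group G]

/-- `Ω₁(Z(P))` as a subgroup of the ambient group -/
def omZ (r : ℕ) (P : Subgroup G) : Subgroup G where
  carrier := {z | z ∈ P ∧ (∀ x ∈ P, z * x = x * z) ∧ z ^ r = 1}
  one_mem' := ⟨one_mem _, fun x _ => by rw [one_mul, mul_one], one_pow _⟩
  mul_mem' := by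
    rintro a b ⟨ha, hac, har⟩ ⟨hb, hbc, hbr⟩
    refine ⟨mul_mem ha hb, ?_, ?_⟩
    · intro x hx
      rw [mul_assoc, hbc x hx, ← mul_assoc, hac x hx, mul_assoc]
    · have : Commute a b := hac b hb
      rw [this.mul_pow, har, hbr, one_mul]
  inv_mem' := by
    rintro a ⟨ha, hac, har⟩
    refine ⟨inv_mem ha, ?_, by rw [inv_pow, har, inv_one]⟩
    intro x hx
    have : Commute a x := hac x hx
    exact this.inv_left.eq

theorem mem_omZ {r : ℕ} {P : Subgroup G} {z : G} :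
    z ∈ omZ r P ↔ z ∈ P ∧ (∀ x ∈ P, z * x = x * z) ∧ z ^ r = 1 := Iff.rfl

theorem omZ_le (r : ℕ) (P : Subgroup G) : omZ r P ≤ P := fun _ h => h.1

theorem normalizer_le_omZ (r : ℕ) (P : Subgroup G) :
    normalizer (P : Set G) ≤ normalizer (omZ r P : Set G) := by
  rw [le_normalizer_iff]
  rintro g hg z ⟨hz, hzc, hzr⟩
  refine ⟨(mem_normalizer_iff.mp hg z).mp hz, ?_, by rw [conj_pow, hzr]; group⟩
  intro x hx
  have hx' : g⁻¹ * x * g ∈ P := by
    rw [mem_normalizer_iff.mp hg]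
    have : g * (g⁻¹ * x * g) * g⁻¹ = x := by group
    rw [this]; exact hx
  have h1 := hzc _ hx'
  calc g * z * g⁻¹ * x = g * (z * (g⁻¹ * x * g)) * g⁻¹ := by group
    _ = g * ((g⁻¹ * x * g) * z) * g⁻¹ := by rw [h1]
    _ = x * (g * z * g⁻¹) := by group

theorem isMulCommutative_omZ (r : ℕ) (P : Subgroup G) : IsMulCommutative (omZ r P) :=
  ⟨⟨fun a b => Subtype.ext (a.2.2.1 b b.2.1)⟩⟩

theorem omZ_ne_bot [Finite G] {r : ℕ} [Fact r.Prime] {P : Subgroup G} (hP : IsPGroup r P)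
    (hP1 : P ≠ ⊥) : omZ r P ≠ ⊥ := by
  have hnt : Nontrivial P := (nontrivial_iff_ne_bot _).mpr hP1
  have hcn : Nontrivial (center P) := hP.center_nontrivial
  have hcp : IsPGroup r (center P) := hP.to_subgroup _
  obtain ⟨e, he0, he⟩ := hcp.nontrivial_iff_card.mp hcn
  obtain ⟨z, hz⟩ := exists_prime_orderOf_dvd_card' (G := center P) r
    (by rw [he]; exact dvd_pow_self r he0.ne')
  intro hbot
  have hmem : ((z : P) : G) ∈ omZ r P := by
    refine ⟨(z : P).2, ?_, ?_⟩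
    · intro x hx
      have := (mem_center_iff.mp z.2) ⟨x, hx⟩
      exact (congrArg Subtype.val this).symm
    · have := pow_orderOf_eq_one z
      rw [hz] at this
      exact congrArg (fun y : center P => ((y : P) : G)) this
  rw [hbot, mem_bot] at hmem
  have hz1 : z = 1 := Subtype.ext (Subtype.ext hmem)
  rw [hz1, orderOf_one] at hz
  exact (Fact.out : r.Prime).one_lt.ne hz

theorem mem_map_conj {P : Subgroup G} {g z : G} :
    z ∈ P.map (MulAut.conj g).toMonoidHom ↔ g⁻¹ * z * g ∈ P := by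
  rw [mem_map_equiv, MulAut.conj_symm_apply]

theorem inv_conj_pow (g z : G) (r : ℕ) : (g⁻¹ * z * g) ^ r = g⁻¹ * z ^ r * g := by
  have := conj_pow (a := g⁻¹) (b := z) (i := r)
  rw [inv_inv] at this
  exact this

theorem card_omZ_conj (r : ℕ) (P : Subgroup G) (g : G) :
    Nat.card (omZ r (P.map (MulAut.conj g).toMonoidHom)) = Nat.card (omZ r P) := by
  have h : omZ r (P.map (MulAut.conj g).toMonoidHom) = (omZ r P).map (MulAut.conj g).toMonoidHom := by
    ext z
    rw [mem_omZ, mem_map_conj, mem_map_conj, mem_omZ]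
    constructor
    · rintro ⟨h1, h2, h3⟩
      refine ⟨h1, ?_, by rw [inv_conj_pow, h3]; group⟩
      intro x hx
      have hx' : g * x * g⁻¹ ∈ P.map (MulAut.conj g).toMonoidHom := by
        rw [mem_map_conj]
        have : g⁻¹ * (g * x * g⁻¹) * g = x := by group
        rw [this]; exact hx
      have h4 := h2 _ hx'
      calc g⁻¹ * z * g * x = g⁻¹ * (z * (g * x * g⁻¹)) * g := by group
        _ = g⁻¹ * ((g * x * g⁻¹) * z) * g := by rw [h4]
        _ = x * (g⁻¹ * z * g) := by group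
    · rintro ⟨h1, h2, h3⟩
      refine ⟨h1, ?_, ?_⟩
      · intro x hx
        have h4 := h2 _ (mem_map_conj.mp hx)
        calc z * x = g * ((g⁻¹ * z * g) * (g⁻¹ * x * g)) * g⁻¹ := by group
          _ = g * ((g⁻¹ * x * g) * (g⁻¹ * z * g)) * g⁻¹ := by rw [h4]
          _ = x * z := by group
      · rw [inv_conj_pow] at h3
        have : z ^ r = g * (g⁻¹ * z ^ r * g) * g⁻¹ := by group
        rw [this, h3]; group
  rw [h, card_map_of_injective (MulAut.conj g).injective]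

/-- the order of `Ω₁(Z(P))` is at least `r ^ 3` -/
theorem card_omZ_ge [Finite G] {Ms K U P : Subgroup G} {r : ℕ} [Fact r.Prime]
    (hK1 : K ≠ ⊥) (hU1 : U ≠ ⊥) (hUK : U ⊓ K = ⊥) (hKU : K ≤ normalizer (U : Set G))
    (hfree : ∀ k ∈ K, k ≠ 1 → U ⊓ centralizer ({k} : Set G) = ⊥)
    (hsolv : Group.IsSolvable ↥(U ⊔ K)) (hodd : Odd (Nat.card ↥(U ⊔ K)))
    (hcop : (Nat.card ↥(U ⊔ K)).Coprime (Nat.card Ms))
    (hCU : Ms ⊓ centralizer (U : Set G) = ⊥)
    (hpr : ∀ k ∈ K, k ≠ 1 → Ms ⊓ centralizer ({k} : Set G) = Ms ⊓ centralizer (K : Set G))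
    (hP : P ≤ Ms) (hPr : IsPGroup r P) (hP1 : P ≠ ⊥) (hUP : U ≤ normalizer (P : Set G))
    (hKP : K ≤ normalizer (P : Set G)) : r ^ 3 ≤ Nat.card (omZ r P) := by
  have hr : r.Prime := Fact.out
  have hZMs : omZ r P ≤ Ms := (omZ_le r P).trans hP
  have hZ1 : omZ r P ≠ ⊥ := omZ_ne_bot hPr hP1
  have hZn : Group.IsNilpotent (omZ r P) := by
    have := isMulCommutative_omZ r P
    let _ : CommGroup (omZ r P) := { (inferInstance : Group (omZ r P)) with
      mul_comm := this.is_comm.comm }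
    infer_instance
  have hinf : ∀ X : Subgroup G, omZ r P ⊓ X = omZ r P ⊓ (Ms ⊓ X) := by
    intro X
    rw [← inf_assoc, inf_eq_left.mpr hZMs]
  obtain ⟨h1, h2, -⟩ := Cfsg.Agent.S1446.result U K (omZ r P) hU1 hK1 hUK hKU hfree hsolv hodd hZ1 hZn
    (hUP.trans (normalizer_le_omZ r P)) (hKP.trans (normalizer_le_omZ r P))
    (Cfsg.Agent.Lib.Helper30SZ.coprime_of_le hcop hZMs)
    (by rw [hinf, hCU, inf_bot_eq])
    (by
      intro x hx hx1
      rw [hinf, hpr x hx hx1, ← hinf])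
  have hK3 : 3 ≤ Nat.card K := by
    have hoddK : Odd (Nat.card K) :=
      Odd.of_dvd_nat hodd (card_dvd_of_le (le_sup_right : K ≤ U ⊔ K))
    have h2' := h1.two_le
    rcases Nat.lt_or_ge (Nat.card K) 3 with h | h
    · exfalso
      have : Nat.card K = 2 := by omega
      rw [this] at hoddK
      exact absurd hoddK (by decide)
    · exact h
  have hCp : IsPGroup r (omZ r P ⊓ centralizer (K : Set G) : Subgroup G) :=
    hPr.to_le (inf_le_left.trans (omZ_le r P))
  obtain ⟨j, hj⟩ := IsPGroup.iff_card.mp hCp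
  have hj0 : j ≠ 0 := by
    intro h0
    rw [hj, h0, pow_zero, one_pow] at h2
    exact hZ1 (card_eq_one.mp h2)
  rw [h2, hj, ← pow_mul]
  exact Nat.pow_le_pow_right hr.pos (by
    have : 1 ≤ j := Nat.pos_of_ne_zero hj0
    nlinarith)

theorem not_pRankLE_of [Finite G] {r : ℕ} [Fact r.Prime] {P M : Subgroup G} (hPM : P ≤ M)
    (hZ : r ^ 3 ≤ Nat.card (omZ r P)) : ¬ PRankLE r 2 M := by
  have hr : r.Prime := Fact.out
  intro h
  have hle : omZ r P ≤ M := (omZ_le r P).trans hPM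
  have h1 := h ((omZ r P).subgroupOf M)
    ⟨⟨fun a b => Subtype.ext (Subtype.ext ((mem_subgroupOf.mp a.2).2.1 _ (mem_subgroupOf.mp b.2).1))⟩⟩
    (by
      intro a ha
      exact Subtype.ext (mem_subgroupOf.mp ha).2.2)
  rw [Cfsg.Agent.Lib.Helper30SZ.card_subgroupOf_of_le hle] at h1
  have h2 : r ^ 2 < r ^ 3 := Nat.pow_lt_pow_right hr.one_lt (by norm_num)
  omega

theorem ideal_of [Finite G] {r : ℕ} [Fact r.Prime] {P : Subgroup G} (hPr : IsPGroup r P)
    (hidx : ¬ r ∣ P.index) (hZ : r ^ 3 ≤ Nat.card (omZ r P)) : IsIdealPrime r G := by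
  have hr : r.Prime := Fact.out
  have h23 : r ^ 2 < r ^ 3 := Nat.pow_lt_pow_right hr.one_lt (by norm_num)
  refine ⟨hr, ?_, ?_⟩
  · intro h
    have h1 := h (omZ r P) (isMulCommutative_omZ r P) (fun a ha => ha.2.2)
    omega
  · intro P' A hAP hA hAc
    obtain ⟨g, hg⟩ := MulAction.exists_smul_eq G (hPr.toSylow hidx) P'
    have hP' : (P' : Subgroup G) = P.map (MulAut.conj g).toMonoidHom := by
      rw [← hg]
      rfl
    have hZ' : r ^ 3 ≤ Nat.card (omZ r (P' : Subgroup G)) := by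
      rw [hP', card_omZ_conj]; exact hZ
    have hAN : A ≤ normalizer (omZ r (P' : Subgroup G) : Set G) :=
      hAP.trans (le_normalizer.trans (normalizer_le_omZ r _))
    have hmem := fun x => Cfsg.Agent.Lib.Helper30SZ.mem_sup_iff (x := x) hAN
    refine ⟨omZ r (P' : Subgroup G) ⊔ A, sup_le (omZ_le r _) hAP, ⟨⟨⟨?_⟩⟩, ?_⟩, ?_⟩
    · rintro ⟨x, hx⟩ ⟨y, hy⟩
      apply Subtype.ext
      obtain ⟨n, hn, a, ha, rfl⟩ := (hmem x).mp hx
      obtain ⟨n', hn', a', ha', rfl⟩ := (hmem y).mp hy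
      have e1 : Commute n a := hn.2.1 a (hAP ha)
      have e2 : Commute n a' := hn.2.1 a' (hAP ha')
      have e3 : Commute n n' := hn.2.1 n' hn'.1
      have e4 : Commute n' a := hn'.2.1 a (hAP ha)
      have e5 : Commute n' a' := hn'.2.1 a' (hAP ha')
      have e6 : Commute a a' := congrArg Subtype.val (hA.1.is_comm.comm ⟨a, ha⟩ ⟨a', ha'⟩)
      exact ((e3.mul_right e2).mul_left (e4.symm.mul_right e6)).eq
    · intro x hx
      obtain ⟨n, hn, a, ha, rfl⟩ := (hmem x).mp hx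
      have e1 : Commute n a := hn.2.1 a (hAP ha)
      rw [e1.mul_pow, hn.2.2, hA.2 a ha, one_mul]
    · refine lt_of_le_of_ne le_sup_right ?_
      intro heq
      have h1 : Nat.card (omZ r (P' : Subgroup G)) ≤ Nat.card A := by
        apply Nat.le_of_dvd Nat.card_pos
        apply card_dvd_of_le
        rw [heq]
        exact le_sup_left
      omega

/-- pure form of `all_beta` -/
theorem pure_all_beta [Finite G] {M Ms K U : Subgroup G} (hMsM : Ms ≤ M)
    (hMsn : Group.IsNilpotent Ms) (hMs1 : Ms ≠ ⊥)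
    (hK1 : K ≠ ⊥) (hU1 : U ≠ ⊥) (hUK : U ⊓ K = ⊥) (hKU : K ≤ normalizer (U : Set G))
    (hfree : ∀ k ∈ K, k ≠ 1 → U ⊓ centralizer ({k} : Set G) = ⊥)
    (hsolv : Group.IsSolvable ↥(U ⊔ K)) (hodd : Odd (Nat.card ↥(U ⊔ K)))
    (hUMs : U ≤ normalizer (Ms : Set G)) (hKMs : K ≤ normalizer (Ms : Set G))
    (hcop : (Nat.card ↥(U ⊔ K)).Coprime (Nat.card Ms))
    (hCU : Ms ⊓ centralizer (U : Set G) = ⊥)
    (hpr : ∀ k ∈ K, k ≠ 1 → Ms ⊓ centralizer ({k} : Set G) = Ms ⊓ centralizer (K : Set G))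
    (hHall : ∀ r : ℕ, r.Prime → r ∣ Nat.card Ms → ¬ r ∣ Ms.index) :
    (Nat.card K).Prime ∧ ∀ r : ℕ, r.Prime → r ∣ Nat.card Ms → r ∈ beta M := by
  constructor
  · exact (Cfsg.Agent.S1446.result U K Ms hU1 hK1 hUK hKU hfree hsolv hodd hMs1 hMsn hUMs hKMs hcop
      hCU hpr).1
  · intro r hr hrd
    have : Fact r.Prime := ⟨hr⟩
    obtain ⟨P₀⟩ : Nonempty (Sylow r Ms) := inferInstance
    have hP₀n : (P₀ : Subgroup Ms).Normal := inferInstance
    have hP₀c : (P₀ : Subgroup Ms).Characteristic := P₀.characteristic_of_normal hP₀n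
    obtain ⟨P, hPdef⟩ : ∃ P : Subgroup G, P = (P₀ : Subgroup Ms).map Ms.subtype := ⟨_, rfl⟩
    have hPMs : P ≤ Ms := by rw [hPdef]; exact map_subtype_le _
    have hNP : normalizer (Ms : Set G) ≤ normalizer (P : Set G) := by
      rw [hPdef]
      exact Cfsg.Agent.Lib.Helper30SZ.normalizer_le_normalizer_map_of_characteristic _
    have hPr : IsPGroup r P := by
      rw [hPdef]; exact P₀.2.map _
    have hcardP : Nat.card P = Nat.card P₀ := by
      rw [hPdef]; exact card_map_of_injective Ms.subtype_injective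
    have hP1 : P ≠ ⊥ := by
      intro h
      have h1 : r ∣ Nat.card P₀ := P₀.dvd_card_of_dvd_card hrd
      rw [← hcardP, h, card_bot] at h1
      exact hr.one_lt.ne' (Nat.dvd_one.mp h1)
    have hidx : ¬ r ∣ P.index := by
      have h1 : P.index = (P₀ : Subgroup Ms).index * Ms.index := by
        rw [hPdef, index_map_subtype]
      rw [h1]
      intro h
      rcases (Nat.Prime.dvd_mul hr).mp h with h | h
      · exact P₀.not_dvd_index h
      · exact hHall r hr hrd h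
    have hZ := card_omZ_ge hK1 hU1 hUK hKU hfree hsolv hodd hcop hCU hpr hPMs hPr hP1
      (hUMs.trans hNP) (hKMs.trans hNP)
    exact ⟨⟨hr, not_pRankLE_of (hPMs.trans hMsM) hZ⟩, ideal_of hPr hidx hZ⟩

end Cfsg.Agent.Lib.Helper66BG15ab
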