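import Mathlib

set_option autoImplicit false

namespace Cfsg.Agent.Lib.Helper66Coprime

open scoped Pointwise

variable {P N : Type*} [Group P] [Group N] [MulDistribMulAction P N]

theorem sylow_mem_smul_iff {q : ℕ} (x : P) (Q : Sylow q N) (z : N) :
    z ∈ x • Q ↔ x⁻¹ • z ∈ Q := by
  change z ∈ ((x • Q : Sylow q N) : Subgroup N) ↔ _
  rw [Sylow.pointwise_smul_def, Subgroup.mem_pointwise_smul_iff_inv_smul_mem]
  rfl

theorem sylow_mem_conj_smul_iff {q : ℕ} (n : N) (Q : Sylow q N) (z : N) :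
    z ∈ n • Q ↔ n⁻¹ * z * n ∈ Q := by
  rw [Sylow.smul_def, sylow_mem_smul_iff]
  simp

theorem smul_conj_smul {q : ℕ} (x : P) (n : N) (Q : Sylow q N) :
    x • (n • Q) = (x • n) • (x • Q) := by
  apply SetLike.ext
  intro z
  rw [sylow_mem_smul_iff, sylow_mem_conj_smul_iff, sylow_mem_conj_smul_iff, sylow_mem_smul_iff]
  simp [smul_mul', smul_inv']

/-- A `p`-group acting on a finite `p'`-group fixes some Sylow `q`-subgroup. -/
theorem exists_fixed_sylow [Finite N] {p : ℕ} [Fact p.Prime] (hP : IsPGroup p P)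
    (hN : ¬ p ∣ Nat.card N) (q : ℕ) [Fact q.Prime] : ∃ Q : Sylow q N, ∀ x : P, x • Q = Q := by
  have h1 : ¬ p ∣ Nat.card (Sylow q N) := by
    intro h
    obtain ⟨Q0⟩ : Nonempty (Sylow q N) := inferInstance
    apply hN
    refine h.trans ?_
    rw [Sylow.card_eq_index_normalizer Q0]
    exact Subgroup.index_dvd_card _
  obtain ⟨Q, hQ⟩ := hP.nonempty_fixed_point_of_prime_not_dvd_card (Sylow q N) h1
  exact ⟨Q, fun x => hQ x⟩

/-- Two fixed Sylow `q`-subgroups are conjugate by a fixed element. -/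
theorem exists_fixed_conj [Finite N] {p : ℕ} [Fact p.Prime] (hP : IsPGroup p P)
    (hN : ¬ p ∣ Nat.card N) (q : ℕ) [Fact q.Prime] (Q₁ Q₂ : Sylow q N)
    (h₁ : ∀ x : P, x • Q₁ = Q₁) (h₂ : ∀ x : P, x • Q₂ = Q₂) :
    ∃ n : N, (∀ x : P, x • n = n) ∧ n • Q₁ = Q₂ := by
  let T : SubMulAction P N :=
    { carrier := {n | n • Q₁ = Q₂}
      smul_mem' := by
        intro x n hn
        have hn' : n • Q₁ = Q₂ := hn
        change (x • n) • Q₁ = Q₂
        calc (x • n) • Q₁ = (x • n) • (x • Q₁) := by rw [h₁]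
          _ = x • (n • Q₁) := (smul_conj_smul x n Q₁).symm
          _ = Q₂ := by rw [hn', h₂] }
  obtain ⟨n₀, hn₀⟩ := MulAction.exists_smul_eq N Q₁ Q₂
  have hcard : Nat.card T = Nat.card (MulAction.stabilizer N Q₁) := by
    symm
    refine Nat.card_congr ⟨fun s => ⟨n₀ * s.1, ?_⟩, fun t => ⟨n₀⁻¹ * t.1, ?_⟩, ?_, ?_⟩
    · change (n₀ * s.1) • Q₁ = Q₂
      rw [mul_smul, MulAction.mem_stabilizer_iff.1 s.2, hn₀]
    · rw [MulAction.mem_stabilizer_iff, mul_smul]
      have : t.1 • Q₁ = Q₂ := t.2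
      rw [this, ← hn₀, inv_smul_smul]
    · intro s; ext; simp
    · intro t; ext; simp
  have h1 : ¬ p ∣ Nat.card T := by
    rw [hcard]
    intro h
    exact hN (h.trans (Subgroup.card_subgroup_dvd_card _))
  obtain ⟨n, hn⟩ := hP.nonempty_fixed_point_of_prime_not_dvd_card T h1
  refine ⟨n.1, fun x => ?_, n.2⟩
  have := hn x
  exact congrArg Subtype.val this

/-- A `p`-group acting on a finite group of order divisible by `p` has a nontrivial fixed point. -/
theorem exists_fixed_ne_one [Finite N] {p : ℕ} [Fact p.Prime] (hP : IsPGroup p P)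
    (hN : p ∣ Nat.card N) : ∃ n : N, n ≠ 1 ∧ ∀ x : P, x • n = n := by
  have h1 : (1 : N) ∈ MulAction.fixedPoints P N := fun x => smul_one x
  obtain ⟨b, hb, hne⟩ := hP.exists_fixed_point_of_prime_dvd_card_of_fixed_point N hN h1
  exact ⟨b, hne.symm, fun x => hb x⟩

end Cfsg.Agent.Lib.Helper66Coprime
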