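import Mathlib

set_option autoImplicit false

namespace Cfsg.Agent.Lib.Helper66Subnormal

variable {G : Type*} [Group G]

/-- `B` is a minimal normal subgroup of `K` (both subgroups of the ambient `G`). -/
def MinNormIn (B K : Subgroup G) : Prop :=
  B ≤ K ∧ B ≠ ⊥ ∧ K ≤ Subgroup.normalizer (B : Set G) ∧
    ∀ C : Subgroup G, C ≤ B → K ≤ Subgroup.normalizer (C : Set G) → C = ⊥ ∨ C = B

theorem exists_minNormIn [Finite G] (X K : Subgroup G) (hXK : X ≤ K) (hX : X ≠ ⊥)
    (hn : K ≤ Subgroup.normalizer (X : Set G)) : ∃ B : Subgroup G, B ≤ X ∧ MinNormIn B K := by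
  let S : Set (Subgroup G) := {C | C ≤ X ∧ C ≠ ⊥ ∧ K ≤ Subgroup.normalizer (C : Set G)}
  have hS : S.Nonempty := ⟨X, le_rfl, hX, hn⟩
  obtain ⟨B, hB, hmin⟩ := (Set.toFinite S).exists_minimal hS
  refine ⟨B, hB.1, hB.1.trans hXK, hB.2.1, hB.2.2, ?_⟩
  intro C hC hKC
  by_cases hC0 : C = ⊥
  · exact Or.inl hC0
  · right
    have hCS : C ∈ S := ⟨hC.trans hB.1, hC0, hKC⟩
    exact le_antisymm hC (hmin hCS hC)

theorem conj_mem_of_mem_normalizer {K : Subgroup G} {g x : G}
    (hg : g ∈ Subgroup.normalizer (K : Set G)) (hx : x ∈ K) : g * x * g⁻¹ ∈ K :=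
  (Subgroup.mem_normalizer_iff.1 hg x).1 hx

theorem conj_inv_mem_of_mem_normalizer {K : Subgroup G} {g x : G}
    (hg : g ∈ Subgroup.normalizer (K : Set G)) (hx : x ∈ K) : g⁻¹ * x * g ∈ K := by
  have := conj_mem_of_mem_normalizer (Subgroup.inv_mem _ hg) hx
  simpa using this

theorem MinNormIn.conj {B K : Subgroup G} (h : MinNormIn B K) {g : G}
    (hg : g ∈ Subgroup.normalizer (K : Set G)) :
    MinNormIn (B.map (MulAut.conj g).toMonoidHom) K := by
  obtain ⟨hBK, hB0, hKB, hmin⟩ := h
  refine ⟨?_, ?_, ?_, ?_⟩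
  · rintro _ ⟨b, hb, rfl⟩
    exact conj_mem_of_mem_normalizer hg (hBK hb)
  · intro h0
    exact hB0 ((Subgroup.map_eq_bot_iff_of_injective _ (MulAut.conj g).injective).1 h0)
  · rw [Subgroup.le_normalizer_iff]
    rintro k hk _ ⟨b, hb, rfl⟩
    refine ⟨(g⁻¹ * k * g) * b * (g⁻¹ * k * g)⁻¹, ?_, ?_⟩
    · exact conj_mem_of_mem_normalizer (hKB (conj_inv_mem_of_mem_normalizer hg hk)) hb
    · simp only [MulEquiv.coe_toMonoidHom, MulAut.conj_apply]; group
  · intro C hC hKC
    have h1 : C.map (MulAut.conj g⁻¹).toMonoidHom ≤ B := by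
      rintro _ ⟨c, hc, rfl⟩
      obtain ⟨b, hb, hbc⟩ := hC hc
      simp only [MulEquiv.coe_toMonoidHom, MulAut.conj_apply] at hbc ⊢
      rw [← hbc]
      have : g⁻¹ * (g * b * g⁻¹) * g⁻¹⁻¹ = b := by group
      rw [this]; exact hb
    have h2 : K ≤ Subgroup.normalizer ((C.map (MulAut.conj g⁻¹).toMonoidHom : Subgroup G) : Set G) := by
      rw [Subgroup.le_normalizer_iff]
      rintro k hk _ ⟨c, hc, rfl⟩
      refine ⟨(g * k * g⁻¹) * c * (g * k * g⁻¹)⁻¹, ?_, ?_⟩
      · exact conj_mem_of_mem_normalizer (hKC (conj_mem_of_mem_normalizer hg hk)) hc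
      · simp only [MulEquiv.coe_toMonoidHom, MulAut.conj_apply]; group
    have hback : (C.map (MulAut.conj g⁻¹).toMonoidHom).map (MulAut.conj g).toMonoidHom = C := by
      rw [Subgroup.map_map]
      have : (MulAut.conj g).toMonoidHom.comp (MulAut.conj g⁻¹).toMonoidHom = MonoidHom.id G := by
        ext y; simp [mul_assoc]
      rw [this, Subgroup.map_id]
    rcases hmin _ h1 h2 with h3 | h3
    · left
      rw [← hback, h3, Subgroup.map_bot]
    · right
      rw [← hback, h3]

theorem subgroupOf_isSubnormal_of_le {H K K' : Subgroup G} (hK : K' ≤ K)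
    (h : (H.subgroupOf K).IsSubnormal) : (H.subgroupOf K').IsSubnormal := by
  have := h.comap (Subgroup.inclusion hK)
  have e : (H.subgroupOf K).comap (Subgroup.inclusion hK) = H.subgroupOf K' := by
    ext x
    simp [Subgroup.mem_subgroupOf]
  rwa [e] at this

/-- Wielandt: a minimal normal subgroup normalizes every subnormal subgroup (relative form). -/
theorem minNormIn_le_normalizer_aux [Finite G] : ∀ (n : ℕ) (K H M : Subgroup G), Nat.card K = n →
    H ≤ K → (H.subgroupOf K).IsSubnormal → MinNormIn M K →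
    M ≤ Subgroup.normalizer (H : Set G) := by
  intro n
  induction n using Nat.strong_induction_on with
  | _ n ih =>
    intro K H M hn hHK hsub hM
    obtain ⟨hMK, hM0, hKM, hmin⟩ := hM
    by_cases hEq : H = K
    · subst hEq
      exact hMK.trans Subgroup.le_normalizer
    have hne : H.subgroupOf K ≠ ⊤ := by
      intro h
      rw [Subgroup.subgroupOf_eq_top] at h
      exact hEq (le_antisymm hHK h)
    obtain ⟨K'', hK''n, hle, hlt⟩ := hsub.exists_normal_and_le_and_lt_top_of_ne hne
    set K' := K''.map K.subtype with hK'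
    have hK'K : K' ≤ K := Subgroup.map_subtype_le K''
    have hK'ne : K' ≠ K := by
      intro h
      have : K'' = ⊤ := by
        rw [eq_top_iff]
        intro x _
        have hx : (x : G) ∈ K' := by rw [h]; exact x.2
        obtain ⟨y, hy, hyx⟩ := hx
        have : y = x := Subtype.ext hyx
        rwa [← this]
      exact hlt.ne this
    have hHK' : H ≤ K' := by
      intro x hx
      exact ⟨⟨x, hHK hx⟩, hle (by simpa [Subgroup.mem_subgroupOf] using hx), rfl⟩
    have hKK' : K ≤ Subgroup.normalizer (K' : Set G) := by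
      rw [Subgroup.le_normalizer_iff]
      rintro k hk _ ⟨y, hy, rfl⟩
      exact ⟨⟨k, hk⟩ * y * ⟨k, hk⟩⁻¹, hK''n.conj_mem y hy _, by simp⟩
    have hsub' : (H.subgroupOf K').IsSubnormal := subgroupOf_isSubnormal_of_le hK'K hsub
    have hcard : Nat.card K' < n := by
      rw [← hn]
      refine lt_of_le_of_ne (Subgroup.card_le_of_le hK'K) ?_
      intro h
      exact hK'ne (Subgroup.eq_of_le_of_card_ge hK'K h.ge)
    have hKinf : K ≤ Subgroup.normalizer ((M ⊓ K' : Subgroup G) : Set G) :=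
      (le_inf hKM hKK').trans Subgroup.inf_normalizer_le_normalizer_inf
    rcases hmin (M ⊓ K') inf_le_left hKinf with h0 | h1
    · -- M and K' commute
      rw [Subgroup.le_normalizer_iff]
      intro m hm x hx
      have hxK' : x ∈ K' := hHK' hx
      have h1 : m * x * m⁻¹ * x⁻¹ ∈ M ⊓ K' := by
        constructor
        · have : x * m⁻¹ * x⁻¹ ∈ M :=
            conj_mem_of_mem_normalizer (hKM (hK'K hxK')) (M.inv_mem hm)
          have e : m * x * m⁻¹ * x⁻¹ = m * (x * m⁻¹ * x⁻¹) := by group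
          rw [e]; exact M.mul_mem hm this
        · have : m * x * m⁻¹ ∈ K' := conj_mem_of_mem_normalizer (hKK' (hMK hm)) hxK'
          exact K'.mul_mem this (K'.inv_mem hxK')
      rw [h0, Subgroup.mem_bot] at h1
      have : m * x * m⁻¹ = x := by
        have e : m * x * m⁻¹ = (m * x * m⁻¹ * x⁻¹) * x := by group
        rw [e, h1, one_mul]
      rw [this]; exact hx
    · have hMK' : M ≤ K' := by rw [← h1]; exact inf_le_right
      obtain ⟨B, hBM, hB⟩ := exists_minNormIn M K' hMK' hM0 (hK'K.trans hKM)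
      let J : Subgroup G := Subgroup.closure {x | ∃ g ∈ K, ∃ b ∈ B, x = g * b * g⁻¹}
      have hJM : J ≤ M := by
        rw [Subgroup.closure_le]
        rintro _ ⟨g, hg, b, hb, rfl⟩
        exact conj_mem_of_mem_normalizer (hKM hg) (hBM hb)
      have hKJ : K ≤ Subgroup.normalizer (J : Set G) := by
        rw [Subgroup.le_normalizer_closure_iff]
        rintro k hk _ ⟨g, hg, b, hb, rfl⟩
        apply Subgroup.subset_closure
        exact ⟨k * g, K.mul_mem hk hg, b, hb, by group⟩
      have hBJ : B ≤ J := by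
        intro b hb
        apply Subgroup.subset_closure
        exact ⟨1, K.one_mem, b, hb, by simp⟩
      have hJ0 : J ≠ ⊥ := by
        intro h
        apply hB.2.1
        rw [eq_bot_iff, ← h]; exact hBJ
      have hJeq : J = M := by
        rcases hmin J hJM hKJ with h | h
        · exact absurd h hJ0
        · exact h
      rw [← hJeq, Subgroup.closure_le]
      rintro _ ⟨g, hg, b, hb, rfl⟩
      have hconj := hB.conj (hKK' hg)
      have := ih (Nat.card K') hcard K' H _ rfl hHK' hsub' hconj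
      exact this ⟨b, hb, by simp⟩

/-- `M` is a minimal normal subgroup of `G`. -/
def IsMinNormal (M : Subgroup G) : Prop :=
  M.Normal ∧ M ≠ ⊥ ∧ ∀ C : Subgroup G, C.Normal → C ≤ M → C = ⊥ ∨ C = M

theorem IsMinNormal.minNormIn {M : Subgroup G} (h : IsMinNormal M) : MinNormIn M ⊤ := by
  obtain ⟨hn, h0, hmin⟩ := h
  refine ⟨le_top, h0, ?_, ?_⟩
  · rw [Subgroup.normalizer_eq_top_iff.2 hn]
  · intro C hC hCn
    exact hmin C (Subgroup.normalizer_eq_top_iff.1 (top_le_iff.1 hCn)) hC

theorem MinNormIn.isMinNormal {M : Subgroup G} (h : MinNormIn M ⊤) : IsMinNormal M := by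
  obtain ⟨_, h0, hn, hmin⟩ := h
  refine ⟨Subgroup.normalizer_eq_top_iff.1 (top_le_iff.1 hn), h0, ?_⟩
  intro C hC hCM
  exact hmin C hCM (by rw [Subgroup.normalizer_eq_top_iff.2 hC])

theorem exists_isMinNormal_le [Finite G] (X : Subgroup G) [hX : X.Normal] (h0 : X ≠ ⊥) :
    ∃ M : Subgroup G, M ≤ X ∧ IsMinNormal M := by
  obtain ⟨B, hB, hBm⟩ := exists_minNormIn X ⊤ le_top h0
    (by rw [Subgroup.normalizer_eq_top_iff.2 hX])
  exact ⟨B, hB, hBm.isMinNormal⟩

/-- Wielandt: a minimal normal subgroup of a finite group normalizes every subnormal subgroup. -/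
theorem IsMinNormal.le_normalizer_of_isSubnormal [Finite G] {M H : Subgroup G}
    (hM : IsMinNormal M) (hH : H.IsSubnormal) : M ≤ Subgroup.normalizer (H : Set G) :=
  minNormIn_le_normalizer_aux _ ⊤ H M rfl le_top hH.subgroupOf hM.minNormIn

end Cfsg.Agent.Lib.Helper66Subnormal
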