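import Cfsg.Agent.Lib.Helper66Wf9

set_option autoImplicit false
set_option linter.unusedSectionVars false

/-! B-G 3.8: cyclic fixed points force the kernel to act as an abelian group. Part 1. -/

namespace Cfsg.Agent.Lib.Helper66Wf10

open Cfsg.Agent.Lib.Helper36Frob Cfsg.Agent.Lib.Helper66Wf1 Cfsg.Agent.Lib.Helper66Wf2
  Cfsg.Agent.Lib.Helper66Wf4 Cfsg.Agent.Lib.Helper66Wf7 Cfsg.Agent.Lib.Helper66Wf8

section abstract

variable {G V : Type*} [Group G] [Finite G] [AddCommGroup V] [DistribMulAction G V]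

/-- the restricted action on an invariant subgroup -/
@[reducible] def subAct (T : AddSubgroup V) (hT : ∀ g : G, ∀ t ∈ T, g • t ∈ T) :
    DistribMulAction G ↥T where
  smul g t := ⟨g • (t : V), hT g t t.2⟩
  one_smul _ := Subtype.ext (one_smul _ _)
  mul_smul _ _ _ := Subtype.ext (mul_smul _ _ _)
  smul_zero _ := Subtype.ext (smul_zero _)
  smul_add _ _ _ := Subtype.ext (smul_add _ _ _)

/-- the elements killed by `ℓ` -/
def tor (V : Type*) [AddCommGroup V] (ℓ : ℕ) : AddSubgroup V where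
  carrier := {v | ℓ • v = 0}
  add_mem' := by
    intro a b ha hb
    change ℓ • (a + b) = 0
    rw [smul_add, ha, hb, add_zero]
  zero_mem' := smul_zero ℓ
  neg_mem' := by
    intro a ha
    change ℓ • (-a) = 0
    rw [smul_neg, ha, neg_zero]

lemma mem_tor {ℓ : ℕ} {v : V} : v ∈ tor V ℓ ↔ ℓ • v = 0 := Iff.rfl

lemma smul_mem_tor {ℓ : ℕ} (g : G) {v : V} (hv : v ∈ tor V ℓ) : g • v ∈ tor V ℓ := by
  rw [mem_tor] at hv ⊢
  rw [smul_comm, hv, smul_zero]

/-- the kernel acts as an abelian group on the `ℓ`-torsion -/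
theorem comm_on_tor [Finite V] {K R : Subgroup G} (hnil : Group.IsNilpotent K)
    (hRK : ∀ r ∈ R, ∀ k ∈ K, r * k * r⁻¹ ∈ K)
    (hfpf : ∀ r ∈ R, r ≠ 1 → ∀ k ∈ K, r * k = k * r → k = 1)
    (hcopK : (Nat.card V).Coprime (Nat.card K)) (hcopR : (Nat.card V).Coprime (Nat.card R))
    (h0 : (fix K : AddSubgroup V) = ⊥) {ℓ : ℕ} (hℓ : ℓ.Prime)
    (hle : Nat.card ↥(tor V ℓ ⊓ fix R) ≤ ℓ) :
    ∀ k₁ ∈ K, ∀ k₂ ∈ K, ∀ v ∈ tor V ℓ, (k₁ * k₂) • v = (k₂ * k₁) • v := by
  by_cases hT : tor V ℓ = ⊥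
  · intro k₁ _ k₂ _ v hv
    rw [hT, AddSubgroup.mem_bot] at hv
    rw [hv, smul_zero, smul_zero]
  have hcard := thmM0 hnil hRK hfpf hcopK hcopR _ (tor V ℓ) rfl
    (fun g _ t ht => smul_mem_tor g ht) (fun g _ t ht => smul_mem_tor g ht)
    (by rw [h0, inf_bot_eq])
  have hne : tor V ℓ ⊓ fix R ≠ ⊥ := by
    intro hbot
    rw [hbot, AddSubgroup.card_bot, one_pow] at hcard
    exact hT (AddSubgroup.card_eq_one.mp hcard)
  have hprime : Nat.card ↥(tor V ℓ ⊓ fix R) = ℓ := by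
    apply le_antisymm hle
    obtain ⟨v, hv, hv0⟩ : ∃ v ∈ tor V ℓ ⊓ fix R, v ≠ 0 := by
      by_contra hall
      push Not at hall
      apply hne
      rw [eq_bot_iff]
      intro w hw
      exact (AddSubgroup.mem_bot).mpr (hall w hw)
    have : Fact ℓ.Prime := ⟨hℓ⟩
    have hord : addOrderOf (⟨v, hv⟩ : ↥(tor V ℓ ⊓ fix R)) = ℓ := by
      apply addOrderOf_eq_prime
      · apply Subtype.ext
        exact hv.1
      · intro h
        exact hv0 (congrArg Subtype.val h)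
    have hd := addOrderOf_dvd_natCard (⟨v, hv⟩ : ↥(tor V ℓ ⊓ fix R))
    rw [hord] at hd
    exact Nat.le_of_dvd Nat.card_pos hd
  let _ := subAct (G := G) (tor V ℓ) (fun g t ht => smul_mem_tor g ht)
  have hcardfix : Nat.card ↥(fix R : AddSubgroup ↥(tor V ℓ)) = Nat.card ↥(tor V ℓ ⊓ fix R) :=
    Nat.card_congr
      { toFun := fun x => ⟨(x.1 : V), x.1.2, fun r hr => congrArg Subtype.val (x.2 r hr)⟩
        invFun := fun y => ⟨⟨(y : V), y.2.1⟩, fun r hr => Subtype.ext (y.2.2 r hr)⟩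
        left_inv := fun _ => rfl
        right_inv := fun _ => rfl }
  have key := smul_comm_of_frob (V := ↥(tor V ℓ)) hnil hRK hfpf
    (Nat.Coprime.of_dvd_right (AddSubgroup.card_addSubgroup_dvd_card _) hcopK.symm)
    (by rw [hcardfix, hprime]; exact hℓ)
  intro k₁ hk₁ k₂ hk₂ v hv
  exact congrArg Subtype.val (key k₁ hk₁ k₂ hk₂ ⟨v, hv⟩)

/-- an element of coprime order fixing all elements of prime order acts trivially -/
theorem trivial_of_tor [Finite V] {c : G}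
    (hcop : (Nat.card V).Coprime (Nat.card (Subgroup.zpowers c)))
    (h : ∀ ℓ : ℕ, ℓ.Prime → ∀ v ∈ tor V ℓ, c • v = v) (v : V) : c • v = v := by
  have hTB : Inv (Subgroup.zpowers c) (⊤ : AddSubgroup V) := fun _ _ _ _ => AddSubgroup.mem_top _
  obtain ⟨hs1, -⟩ := split_step (E := (⊥ : Subgroup G)) hcop hTB (by
    intro e he
    rw [Subgroup.mem_bot] at he
    rw [he, map_one, one_smul])
  have hker : (⊤ ⊓ (prj (Subgroup.zpowers c) : V →+ V).ker) = ⊥ := by
    by_contra hne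
    have hc1 : Nat.card ↥(⊤ ⊓ (prj (Subgroup.zpowers c) : V →+ V).ker) ≠ 1 := by
      intro h1
      exact hne (AddSubgroup.card_eq_one.mp h1)
    obtain ⟨ℓ, hℓ, hdvd⟩ := Nat.exists_prime_and_dvd hc1
    have : Fact ℓ.Prime := ⟨hℓ⟩
    obtain ⟨x, hx⟩ := exists_prime_addOrderOf_dvd_card' ℓ hdvd
    have hx0 : (x : V) ≠ 0 := by
      intro h0
      have : x = 0 := Subtype.ext h0
      rw [this, addOrderOf_zero] at hx
      exact hℓ.one_lt.ne hx
    have hxt : (x : V) ∈ tor V ℓ := by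
      have := addOrderOf_nsmul_eq_zero x
      rw [hx] at this
      exact congrArg Subtype.val this
    have hfix : (x : V) ∈ (fix (Subgroup.zpowers c) : AddSubgroup V) :=
      mem_fix_zpowers (h ℓ hℓ _ hxt)
    have := ker_inf_fix hcop (⊤ : AddSubgroup V)
    have hmem : (x : V) ∈ (⊤ ⊓ (prj (Subgroup.zpowers c) : V →+ V).ker) ⊓
        fix (Subgroup.zpowers c) := ⟨x.2, hfix⟩
    rw [this] at hmem
    exact hx0 ((AddSubgroup.mem_bot).mp hmem)
  rw [hker, AddSubgroup.card_bot, mul_one] at hs1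
  have htop : (⊤ : AddSubgroup V) ≤ ⊤ ⊓ fix (Subgroup.zpowers c) := by
    rw [AddSubgroup.eq_of_le_of_card_ge (inf_le_left : ⊤ ⊓ fix (Subgroup.zpowers c) ≤
      (⊤ : AddSubgroup V)) hs1.le]
  exact (htop (AddSubgroup.mem_top v)).2 c (Subgroup.mem_zpowers c)

end abstract

end Cfsg.Agent.Lib.Helper66Wf10
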