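import Cfsg.Agent.Lib.Helper97AschMain
import Cfsg.Agent.Lib.Helper98AschAlt

set_option autoImplicit false

/-! PART D of ASCH-GEN, pieces D1, D2, D6, D7. -/

namespace Cfsg.Agent.Lib.Helper67AschD

open Cfsg Cfsg.Geo Matrix
open Cfsg.Agent.Lib.Helper97AschBase Cfsg.Agent.Lib.Helper98AschDefs Cfsg.Agent.Lib.Helper98AschBasic
open Cfsg.Agent.Lib.Helper97AschTransv
open scoped MatrixGroups Kronecker

variable {n : ℕ} {F : Type*} [Field F]

/-- [D1] -/
theorem notSL_decomp {t m : ℕ} (D : Fin t → Submodule F (Fin n → F)) (hD : IsMDecomposition m D) :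
    ¬ specialLinear (Fin n) F ≤ decompositionStabilizer D := by
  intro hle
  have hn := hD.two_le
  let i0 : Fin t := ⟨0, by omega⟩
  let i1 : Fin t := ⟨1, by omega⟩
  have h01 : i0 ≠ i1 := by
    intro h
    have := congrArg Fin.val h
    simp [i0, i1] at this
  have hne : ∀ i, D i ≠ ⊥ := by
    intro i h
    have := hD.finrank_eq i
    have hpos := hD.pos
    rw [h, finrank_bot] at this
    omega
  obtain ⟨d0, hd0, hd00⟩ := Submodule.exists_mem_ne_zero_of_ne_bot (hne i0)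
  obtain ⟨d1, hd1, hd10⟩ := Submodule.exists_mem_ne_zero_of_ne_bot (hne i1)
  let W : Submodule F (Fin n → F) := ⨆ j, ⨆ (_ : j ≠ i1), D j
  have hdisj : Disjoint (D i1) W := hD.indep i1
  have hd1W : d1 ∉ W := by
    intro h
    exact hd10 (Submodule.disjoint_def.mp hdisj d1 hd1 h)
  have hDW : ∀ j, j ≠ i1 → D j ≤ W := fun j hj => le_iSup₂_of_le j hj le_rfl
  obtain ⟨φ, hφ0, hφ1⟩ := exists_functional hd1W
  have hφu : φ ⬝ᵥ d0 = 0 := hφ0 d0 (hDW i0 h01 hd0)
  obtain ⟨σ, hσ⟩ := hle (tv_mem_SL d0 φ hφu)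
  have h2 : d1 + d0 ∈ D (σ i1) := by
    rw [← hσ i1]
    refine ⟨d1, hd1, ?_⟩
    rw [Matrix.toLin'_apply, tv_mulVec, hφ1, one_smul]
  by_cases hj : σ i1 = i1
  · rw [hj] at h2
    have h3 : d0 ∈ D i1 := ((D i1).add_mem_iff_right hd1).mp h2
    exact hd00 (Submodule.disjoint_def.mp hdisj d0 h3 (hDW i0 h01 hd0))
  · have h3 : d1 + d0 ∈ W := hDW _ hj h2
    exact hd1W ((W.add_mem_iff_left (hDW i0 h01 hd0)).mp h3)

/-- [D2] -/
theorem notSL_subalg (hn : 3 ≤ n) {r : ℕ} (hr : 1 < r) (K : Subalgebra F (Matrix (Fin n) (Fin n) F))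
    (hK : IsFieldSubalgebra r K) : ¬ specialLinear (Fin n) F ≤ subalgebraNormalizer K := by
  intro hle
  let i0 : Fin n := ⟨0, by omega⟩
  let i1 : Fin n := ⟨1, by omega⟩
  have h01 : i1 ≠ i0 := by
    intro h
    have := congrArg Fin.val h
    simp [i0, i1] at this
  let u : Fin n → F := Pi.single i0 1
  let φ : Fin n → F := Pi.single i1 1
  have hφ : ∀ v : Fin n → F, φ ⬝ᵥ v = v i1 := fun v => by simp [φ]
  have hu0 : u ≠ 0 := by
    intro h0
    have := congrFun h0 i0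
    simp [u] at this
  have hφu : φ ⬝ᵥ u = 0 := by rw [hφ]; simp [u, h01]
  have ht := hle (tv_mem_SL u φ hφu)
  have hzero : ∀ k ∈ K, ∀ v : Fin n → F, v ≠ 0 → k *ᵥ v = 0 → k = 0 := by
    intro k hk v hv hkv
    by_contra hk0
    obtain ⟨k', hk', hkk'⟩ := hK.inv k hk hk0
    rw [hK.comm k hk k' hk'] at hkk'
    apply hv
    have := congrArg (fun M => M *ᵥ v) hkk'
    simp only [← Matrix.mulVec_mulVec, hkv, Matrix.mulVec_zero, Matrix.one_mulVec] at this
    exact this.symm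
  have hcomm : ∀ k ∈ K, ∀ v, (tv u φ hφu : Matrix (Fin n) (Fin n) F) *ᵥ (k *ᵥ v) =
      k *ᵥ ((tv u φ hφu : Matrix (Fin n) (Fin n) F) *ᵥ v) := by
    intro k hk
    have hk2 := (ht k).mp hk
    obtain ⟨v, hv0, hv1, hv2⟩ : ∃ v : Fin n → F, v ≠ 0 ∧ v i1 = 0 ∧ (k *ᵥ v) i1 = 0 := by
      let L : (Fin n → F) →ₗ[F] F × F :=
        (LinearMap.proj i1).prod ((LinearMap.proj i1) ∘ₗ Matrix.toLin' k)
      have hL : LinearMap.ker L ≠ ⊥ := by
        apply LinearMap.ker_ne_bot_of_finrank_lt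
        rw [Module.finrank_prod, Module.finrank_self, Module.finrank_fin_fun]
        omega
      obtain ⟨v, hv, hv0⟩ := Submodule.exists_mem_ne_zero_of_ne_bot hL
      rw [LinearMap.mem_ker] at hv
      have h1 := congrArg Prod.fst hv
      have h2 := congrArg Prod.snd hv
      exact ⟨v, hv0, by simpa [L] using h1, by simpa [L, Matrix.toLin'_apply] using h2⟩
    have htv : (tv u φ hφu : Matrix (Fin n) (Fin n) F) *ᵥ v = v := by
      rw [tv_mulVec, hφ, hv1, zero_smul, add_zero]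
    have htv' : (((tv u φ hφu)⁻¹ : GL (Fin n) F) : Matrix (Fin n) (Fin n) F) *ᵥ v = v := by
      conv_lhs => rw [← htv]
      simp
    have h3 : ((tv u φ hφu : Matrix (Fin n) (Fin n) F) * k *
        (((tv u φ hφu)⁻¹ : GL (Fin n) F) : Matrix (Fin n) (Fin n) F) - k) *ᵥ v = 0 := by
      rw [Matrix.sub_mulVec, ← Matrix.mulVec_mulVec, htv', ← Matrix.mulVec_mulVec, tv_mulVec, hφ, hv2,
        zero_smul, add_zero, sub_self]
    have h4 := sub_eq_zero.mp (hzero _ (K.sub_mem hk2 hk) v hv0 h3)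
    intro w
    conv_rhs => rw [← h4]
    rw [← Matrix.mulVec_mulVec, ← Matrix.mulVec_mulVec, inv_mulVec_mulVec]
  have hsc : ∀ k ∈ K, k ∈ (⊥ : Subalgebra F (Matrix (Fin n) (Fin n) F)) := by
    intro k hk
    have h1 := hcomm k hk φ
    rw [tv_mulVec, tv_mulVec, Matrix.mulVec_add, Matrix.mulVec_smul] at h1
    have h2 : φ ⬝ᵥ φ = 1 := by rw [hφ]; simp [φ]
    rw [h2, one_smul] at h1
    have h3 : k *ᵥ u = (φ ⬝ᵥ k *ᵥ φ) • u := (add_left_cancel h1).symm
    have h4 : (k - algebraMap F _ (φ ⬝ᵥ k *ᵥ φ)) *ᵥ u = 0 := by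
      rw [Matrix.sub_mulVec, h3, Algebra.algebraMap_eq_smul_one, Matrix.smul_mulVec, Matrix.one_mulVec,
        sub_self]
    have h5 := sub_eq_zero.mp (hzero _ (K.sub_mem hk (K.algebraMap_mem _)) u hu0 h4)
    rw [h5]
    exact Subalgebra.algebraMap_mem _ _
  have hbot : K = ⊥ := eq_bot_iff.mpr hsc
  have hfr := hK.finrank_eq
  have : Nonempty (Fin n) := ⟨i0⟩
  rw [hbot, Subalgebra.finrank_bot] at hfr
  omega

/-- [D6] -/
theorem decomp_card {t m : ℕ} (D : Fin t → Submodule F (Fin n → F)) (hD : IsMDecomposition m D) :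
    n = t * m := by
  classical
  have hint : DirectSum.IsInternal D :=
    DirectSum.isInternal_submodule_of_iSupIndep_of_iSup_eq_top hD.indep hD.iSup_eq_top
  have e := LinearEquiv.ofBijective (DirectSum.coeLinearMap D) hint
  have h1 := e.finrank_eq
  rw [Module.finrank_directSum, Module.finrank_fin_fun] at h1
  rw [← h1]
  simp [hD.finrank_eq]

theorem dvd_of_field_module {K V : Type*} [Field K] [AddCommGroup V] [Module K V] [Finite V]
    (q r n : ℕ) (hq : 1 < q) (hK : Nat.card K = q ^ r) (hV : Nat.card V = q ^ n) : r ∣ n := by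
  have h1 := Module.natCard_eq_pow_finrank (K := K) (V := V)
  rw [hK, hV, ← pow_mul] at h1
  exact ⟨_, Nat.pow_right_injective hq h1⟩

theorem dvd_of_isField_module {K V : Type*} [Ring K] [AddCommGroup V] [inst : Module K V] [Finite V]
    (hF : IsField K)
    (q r n : ℕ) (hq : 1 < q) (hK : Nat.card K = q ^ r) (hV : Nat.card V = q ^ n) : r ∣ n :=
  @dvd_of_field_module K V hF.toField _ inst _ q r n hq hK hV

/-- [D7] -/
theorem field_dvd [Finite F] {r : ℕ} (K : Subalgebra F (Matrix (Fin n) (Fin n) F)) (hK : IsFieldSubalgebra r K) :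
    r ∣ n := by
  classical
  rcases Nat.eq_zero_or_pos n with rfl | hn
  · exact dvd_zero r
  have : NeZero n := ⟨hn.ne'⟩
  have : Fintype F := Fintype.ofFinite F
  let f : K →+* Module.End F (Fin n → F) :=
    (((Matrix.toLinAlgEquiv' : Matrix (Fin n) (Fin n) F ≃ₐ[F] _) : _ →ₐ[F] _).comp K.val).toRingHom
  let inst : Module K (Fin n → F) := Module.compHom (Fin n → F) f
  have hF : IsField K := by
    refine ⟨exists_pair_ne K, fun a b => Subtype.ext (hK.comm a a.2 b b.2), ?_⟩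
    intro a ha
    obtain ⟨y, hy, hxy⟩ := hK.inv a a.2 (fun h => ha (Subtype.ext h))
    exact ⟨⟨y, hy⟩, Subtype.ext hxy⟩
  apply dvd_of_isField_module (K := K) (V := Fin n → F) hF (Fintype.card F) r n Fintype.one_lt_card
  · rw [Module.natCard_eq_pow_finrank (K := F), Nat.card_eq_fintype_card, hK.finrank_eq]
  · rw [Nat.card_eq_fintype_card]
    simp

end Cfsg.Agent.Lib.Helper67AschD
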