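import Cfsg.Agent.Lib.Helper62F4

set_option autoImplicit false

/-! Explicit data for `L_2(11) < SU_5(2)`: the normaliser `11:5` of a Singer-type cycle is not maximal. -/

namespace Cfsg.Agent.Lib.Helper67SU5Data

open Cfsg.Agent.Lib.Helper62F4 Matrix

/-- `5 × 5` matrices over the model of the field with four elements -/
abbrev M5 := Matrix (Fin 5) (Fin 5) F4

/-- `w ^ 2 = w + 1` -/
def W : F4 := ⟨true, true⟩

/-- entrywise square -/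
def sqM (M : M5) : M5 := M.map (fun x => x ^ 2)

/-- the powers of the element of order 11 -/
def Ap : Fin 11 → M5 := ![
  !![1, 0, 0, 0, 0; 0, 1, 0, 0, 0; 0, 0, 1, 0, 0; 0, 0, 0, 1, 0; 0, 0, 0, 0, 1],
  !![0, 0, w, 1, W; 0, 1, 0, 1, W; w, 0, 0, w, 1; 1, 1, w, W, 1; W, W, 1, 1, 1],
  !![0, W, 1, W, 0; W, w, 1, 1, 1; 1, 1, 1, w, w; W, 1, w, 0, 0; 0, 1, w, 0, 1],
  !![1, 0, 1, W, 0; 0, 0, w, 1, w; 1, w, W, 1, 1; W, 1, 1, 1, W; 0, w, 1, W, 0],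
  !![1, W, W, 1, 1; W, 0, 0, w, 1; W, 0, 1, 0, 1; 1, w, 0, 0, w; 1, 1, 1, w, W],
  !![W, 1, 1, 1, w; 1, 1, W, W, 1; 1, W, 0, 0, w; 1, W, 0, 1, 0; w, 1, w, 0, 0],
  !![w, 1, 1, 1, W; 1, 1, w, w, 1; 1, w, 0, 0, W; 1, w, 0, 1, 0; W, 1, W, 0, 0],
  !![1, w, w, 1, 1; w, 0, 0, W, 1; w, 0, 1, 0, 1; 1, W, 0, 0, W; 1, 1, 1, W, w],
  !![1, 0, 1, w, 0; 0, 0, W, 1, W; 1, W, w, 1, 1; w, 1, 1, 1, w; 0, W, 1, w, 0],
  !![0, w, 1, w, 0; w, W, 1, 1, 1; 1, 1, 1, W, W; w, 1, W, 0, 0; 0, 1, W, 0, 1],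
  !![0, 0, W, 1, w; 0, 1, 0, 1, w; W, 0, 0, W, 1; 1, 1, W, w, 1; w, w, 1, 1, 1]]

/-- the powers of the element of order 5 -/
def Bp : Fin 5 → M5 := ![
  !![1, 0, 0, 0, 0; 0, 1, 0, 0, 0; 0, 0, 1, 0, 0; 0, 0, 0, 1, 0; 0, 0, 0, 0, 1],
  !![0, 0, 0, 0, 1; 1, 0, 0, 0, 0; 0, 1, 0, 0, 0; 0, 0, 1, 0, 0; 0, 0, 0, 1, 0],
  !![0, 0, 0, 1, 0; 0, 0, 0, 0, 1; 1, 0, 0, 0, 0; 0, 1, 0, 0, 0; 0, 0, 1, 0, 0],
  !![0, 0, 1, 0, 0; 0, 0, 0, 1, 0; 0, 0, 0, 0, 1; 1, 0, 0, 0, 0; 0, 1, 0, 0, 0],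
  !![0, 1, 0, 0, 0; 0, 0, 1, 0, 0; 0, 0, 0, 1, 0; 0, 0, 0, 0, 1; 1, 0, 0, 0, 0]]

/-- the extra involution -/
def Cm : M5 := !![0, 1, 0, 0, 0; 1, 0, 0, 0, 0; 0, 0, 0, 0, 1; 0, 0, 0, 1, 0; 0, 0, 1, 0, 0]

/-- an involution outside -/
def Tm : M5 := !![0, 1, 0, 0, 0; 1, 0, 0, 0, 0; 0, 0, 1, 0, 0; 0, 0, 0, 1, 0; 0, 0, 0, 0, 1]

/-- the cyclic basis -/
def Pm : M5 := !![1, 0, 0, 1, 1; 0, 0, W, 0, W; 0, w, 1, 1, W; 0, 1, W, W, 1; 0, W, 0, 0, 1]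

/-- its inverse -/
def Pinv : M5 := !![1, w, 1, 0, W; 0, 0, w, W, w; 0, w, 1, w, 0; 0, w, 0, w, W; 0, 0, 1, w, 0]

/-- the invariant set of 66 vectors, as a bit mask -/
def MASK : ℕ := 20437404769635530872469170514065510817425991435182327184197324744197024606655061810439111241103971922425236060578962374500018472911980971870481730538339677101248786393074345871278054953792196233821572101581505273429803684962819528428791012710771795917576047542522458865541115736939914801014964242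

/-- code of a field element -/
def enc (x : F4) : ℕ := (cond x.a 1 0) + (cond x.b 2 0)

/-- membership in the invariant set -/
def SS (v : Fin 5 → F4) : Bool :=
  Nat.testBit MASK (enc (v 0) + 4 * enc (v 1) + 16 * enc (v 2) + 64 * enc (v 3) + 256 * enc (v 4))

/-- the hermitian form -/
def hf (u v : Fin 5 → F4) : F4 :=
  u 0 * v 0 ^ 2 + u 1 * v 1 ^ 2 + u 2 * v 2 ^ 2 + u 3 * v 3 ^ 2 + u 4 * v 4 ^ 2

/-- first basis vector -/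
def e0 : Fin 5 → F4 := ![1, 0, 0, 0, 0]

theorem Ap_zero : Ap 0 = 1 := by decide +kernel
theorem Ap_succ : ∀ k : Fin 10, Ap k.succ = Ap k.castSucc * Ap 1 := by decide +kernel
theorem Ap_last : Ap 10 * Ap 1 = 1 := by decide +kernel
theorem Ap_last' : Ap 1 * Ap 10 = 1 := by decide +kernel
theorem Ap_one_ne : Ap 1 ≠ 1 := by decide +kernel
theorem Ap_unitary : (Ap 1)ᵀ * sqM (Ap 1) = 1 := by decide +kernel
theorem Bp_zero : Bp 0 = 1 := by decide +kernel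
theorem Bp_succ : ∀ k : Fin 4, Bp k.succ = Bp k.castSucc * Bp 1 := by decide +kernel
theorem Bp_last : Bp 4 * Bp 1 = 1 := by decide +kernel
theorem Bp_last' : Bp 1 * Bp 4 = 1 := by decide +kernel
theorem Bp_unitary : (Bp 1)ᵀ * sqM (Bp 1) = 1 := by decide +kernel
theorem Cm_sq : Cm * Cm = 1 := by decide +kernel
theorem Cm_unitary : Cmᵀ * sqM Cm = 1 := by decide +kernel
theorem Tm_sq : Tm * Tm = 1 := by decide +kernel
theorem Tm_unitary : Tmᵀ * sqM Tm = 1 := by decide +kernel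
theorem Pm_inv : Pm * Pinv = 1 := by decide +kernel
theorem Pm_col : ∀ (j : Fin 5) (i : Fin 5), Pm i j = (Ap (Fin.castLE (by norm_num) j) *ᵥ e0) i := by
  decide +kernel
theorem trace_Ap : ∀ k : Fin 11, (Ap k).trace = (Ap 1).trace →
    ∃ j : Fin 5, Bp j * Ap 1 = Ap k * Bp j := by decide +kernel
theorem Cm_not : (Cm * Ap 1 * Cm) * Ap 1 ≠ Ap 1 * (Cm * Ap 1 * Cm) := by decide +kernel

theorem SS_A : ∀ a b c d e : F4, SS (Ap 1 *ᵥ ![a, b, c, d, e]) = SS ![a, b, c, d, e] := by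
  decide +kernel
theorem SS_B : ∀ a b c d e : F4, SS (Bp 1 *ᵥ ![a, b, c, d, e]) = SS ![a, b, c, d, e] := by
  decide +kernel
theorem SS_C : ∀ a b c d e : F4, SS (Cm *ᵥ ![a, b, c, d, e]) = SS ![a, b, c, d, e] := by
  decide +kernel
theorem SS_T : ∃ a b c d e : F4, SS (Tm *ᵥ ![a, b, c, d, e]) ≠ SS ![a, b, c, d, e] := by
  decide +kernel

theorem brute : ∀ a b c d e : F4,
    hf ![a, b, c, d, e] ![a, b, c, d, e] = hf e0 e0 →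
    hf ![a, b, c, d, e] (Ap 1 *ᵥ ![a, b, c, d, e]) = hf e0 (Ap 1 *ᵥ e0) →
    hf ![a, b, c, d, e] (Ap 2 *ᵥ ![a, b, c, d, e]) = hf e0 (Ap 2 *ᵥ e0) →
    hf ![a, b, c, d, e] (Ap 3 *ᵥ ![a, b, c, d, e]) = hf e0 (Ap 3 *ᵥ e0) →
    hf ![a, b, c, d, e] (Ap 4 *ᵥ ![a, b, c, d, e]) = hf e0 (Ap 4 *ᵥ e0) →
    ∃ (s : F4) (i : Fin 11), ![a, b, c, d, e] = s • (Ap i *ᵥ e0) := by
  decide +kernel

theorem pow_five : ∀ s : F4, s ^ 5 = 1 → s = 1 := by decide +kernel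

end Cfsg.Agent.Lib.Helper67SU5Data
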