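import Mathlib
import Cfsg.Agent.Lib.Helper58SylDefs
import Cfsg.Agent.Lib.Helper49Transp

set_option autoImplicit false

/-! PROJECT 58, piece `mat`. -/

namespace Cfsg.Agent.Lib.Helper67SylMat

open Cfsg.Agent.Lib.Helper49Orth Cfsg.Agent.Lib.Helper49Transp Cfsg.Agent.Lib.Helper58SylDefs
open scoped Matrix

theorem lemK_aux {G : Type*} [Group G] (S P N R : Subgroup G) (X : Set G)
    (hS : S = Subgroup.closure X) (hnorm : ∀ s ∈ S, ∀ n ∈ N, s * n * s⁻¹ ∈ N) (hR : R ≤ S)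
    (hX : ∀ x ∈ X, ∃ r ∈ R, x * r ∈ N) (hRP : R ⊓ P ≤ N) (hNP : N ≤ P) : S ⊓ P ≤ N := by
  have key : ∀ s ∈ Subgroup.closure X, ∃ r ∈ R, s * r ∈ N := by
    intro s hs
    induction hs using Subgroup.closure_induction with
    | mem x hx => exact hX x hx
    | one => exact ⟨1, one_mem _, by simp⟩
    | mul x y hx hy ihx ihy =>
      obtain ⟨r, hr, h1⟩ := ihx
      obtain ⟨r', hr', h2⟩ := ihy
      refine ⟨r' * r, mul_mem hr' hr, ?_⟩
      have h3 := mul_mem (hnorm x (hS ▸ hx) _ h2) h1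
      have e : x * (y * r') * x⁻¹ * (x * r) = x * y * (r' * r) := by group
      rwa [e] at h3
    | inv x hx ih =>
      obtain ⟨r, hr, h1⟩ := ih
      refine ⟨r⁻¹, inv_mem hr, ?_⟩
      have h3 := hnorm r (hR hr) _ (inv_mem h1)
      have e : r * (x * r)⁻¹ * r⁻¹ = x⁻¹ * r⁻¹ := by group
      rwa [e] at h3
  intro s hs
  obtain ⟨hsS, hsP⟩ := Subgroup.mem_inf.mp hs
  obtain ⟨r, hr, h1⟩ := key s (hS ▸ hsS)
  have hrP : r ∈ P := by
    have := mul_mem (inv_mem hsP) (hNP h1)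
    rwa [inv_mul_cancel_left] at this
  have hrN : r ∈ N := hRP (Subgroup.mem_inf.mpr ⟨hr, hrP⟩)
  have := mul_mem h1 (inv_mem hrN)
  rwa [mul_inv_cancel_right] at this

theorem sq_one_of_closure {G : Type*} [Group G] {k : Set G}
    (hcomm : ∀ x ∈ k, ∀ y ∈ k, x * y = y * x) (hsq : ∀ x ∈ k, x * x = 1) :
    ∀ x ∈ Subgroup.closure k, x * x = 1 := by
  have hc := Subgroup.isMulCommutative_closure hcomm
  intro x hx
  induction hx using Subgroup.closure_induction with
  | mem x hx => exact hsq x hx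
  | one => simp
  | mul x y hx hy ihx ihy =>
    have e : y * x = x * y := by
      have := hc.is_comm.comm ⟨y, hy⟩ ⟨x, hx⟩
      exact congrArg Subtype.val this
    calc x * y * (x * y) = x * (y * x) * y := by group
      _ = (x * x) * (y * y) := by rw [e]; group
      _ = 1 := by rw [ihx, ihy, one_mul]
  | inv x hx ih =>
    calc x⁻¹ * x⁻¹ = (x * x)⁻¹ := by group
      _ = 1 := by rw [ih, inv_one]

theorem comm_of_invol {G : Type*} [Group G] {a b : G} (ha : a * a = 1) (hb : b * b = 1)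
    (hab : (a * b) * (a * b) = 1) : a * b = b * a := by
  have h1 : a⁻¹ = a := inv_eq_of_mul_eq_one_left ha
  have h2 : b⁻¹ = b := inv_eq_of_mul_eq_one_left hb
  have h3 : (a * b)⁻¹ = a * b := inv_eq_of_mul_eq_one_left hab
  calc a * b = (a * b)⁻¹ := h3.symm
    _ = b⁻¹ * a⁻¹ := mul_inv_rev _ _
    _ = b * a := by rw [h1, h2]

variable {F : Type*} [Field F] [Fintype F]

theorem mat_thm (h2 : (2 : F) ≠ 0) {ι : Type} [Fintype ι] [DecidableEq ι]
    (Q : QuadraticForm F (ι → F)) (S : Subgroup (OG Q)) (Z : Set (ι → F)) (h : Good Q S Z) :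
    S ⊓ Cfsg.Omega F ⇑Q
      = Subgroup.closure {y | y ∈ S ∧ y ∈ Cfsg.Omega F ⇑Q ∧ y * y = 1} := by
  obtain ⟨V, Y, hV, hY, hS, ⟨a₁, ha₁, b₁, hb₁, a₂, ha₂, b₂, hb₂, sa₁, sb₁, sa₂, sb₂, p1, p2, p3, p4,
    hall⟩, -, -⟩ := h
  set N : Subgroup (OG Q) :=
    Subgroup.closure {y | y ∈ S ∧ y ∈ Cfsg.Omega F ⇑Q ∧ y * y = 1} with hN
  have hrS : ∀ v ∈ V, reflO' Q v ∈ S := by
    intro v hv
    rw [hS]
    exact Subgroup.subset_closure (Or.inl ⟨v, hv, rfl⟩)
  have hrr : ∀ v ∈ V, reflO' Q v * reflO' Q v = 1 := by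
    intro v hv
    rw [reflO'_eq Q (hV v hv), reflO_mul_self]
  have hsq2 : ∀ v ∈ V, ∀ w ∈ V, QuadraticMap.polar ⇑Q v w = 0 →
      (reflO' Q v * reflO' Q w) * (reflO' Q v * reflO' Q w) = 1 := by
    intro v hv w hw hp
    rw [reflO'_eq Q (hV v hv), reflO'_eq Q (hV w hw), ← pow_two]
    exact reflO_comm Q (hV v hv) (hV w hw) hp
  -- the key claim
  have hC : ∀ v ∈ V, ∀ w ∈ V, QuadraticMap.polar ⇑Q v w = 0 → IsSquare (Q v * Q w) →
      reflO' Q v * reflO' Q w ∈ N := by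
    intro v hv w hw hp hs
    apply Subgroup.subset_closure
    refine ⟨mul_mem (hrS v hv) (hrS w hw), ?_, hsq2 v hv w hw hp⟩
    rw [reflO'_eq Q (hV v hv), reflO'_eq Q (hV w hw)]
    exact reflO_mul_reflO_mem Q h2 (hV v hv) (hV w hw) hs
  have hchain : ∀ u ∈ V, ∀ v ∈ V, ∀ w ∈ V, reflO' Q u * reflO' Q v ∈ N →
      reflO' Q v * reflO' Q w ∈ N → reflO' Q u * reflO' Q w ∈ N := by
    intro u _ v hv w _ h1 h3
    have := mul_mem h1 h3
    have e : reflO' Q u * reflO' Q v * (reflO' Q v * reflO' Q w) =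
        reflO' Q u * (reflO' Q v * reflO' Q v) * reflO' Q w := by group
    rwa [e, hrr v hv, mul_one] at this
  apply le_antisymm
  · refine lemK_aux S (Cfsg.Omega F ⇑Q) N (Subgroup.closure {reflO' Q a₁, reflO' Q b₂})
      (reflO' Q '' V ∪ Y) hS ?_ ?_ ?_ ?_ ?_
    · intro s hs n hn
      induction hn using Subgroup.closure_induction with
      | mem y hy =>
        apply Subgroup.subset_closure
        refine ⟨mul_mem (mul_mem hs hy.1) (inv_mem hs), ?_, ?_⟩
        · exact (inferInstance : (Cfsg.Omega F ⇑Q).Normal).conj_mem y hy.2.1 s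
        · calc s * y * s⁻¹ * (s * y * s⁻¹) = s * (y * y) * s⁻¹ := by group
            _ = 1 := by rw [hy.2.2]; group
      | one => simp
      | mul x y _ _ ihx ihy =>
        have := mul_mem ihx ihy
        have e : s * x * s⁻¹ * (s * y * s⁻¹) = s * (x * y) * s⁻¹ := by group
        rwa [e] at this
      | inv x _ ih =>
        have := inv_mem ih
        have e : (s * x * s⁻¹)⁻¹ = s * x⁻¹ * s⁻¹ := by group
        rwa [e] at this
    · rw [Subgroup.closure_le]
      rintro x (rfl | rfl)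
      · exact hrS a₁ ha₁
      · exact hrS b₂ hb₂
    · rintro x (⟨v, hv, rfl⟩ | hy)
      · by_cases hsv : IsSquare (Q v)
        · refine ⟨reflO' Q a₁, Subgroup.subset_closure (Or.inl rfl), ?_⟩
          rcases hall v hv with ⟨q1, -⟩ | ⟨q1, -⟩
          · exact hC v hv a₁ ha₁ q1 (hsv.mul sa₁)
          · refine hchain v hv a₂ ha₂ a₁ ha₁ (hC v hv a₂ ha₂ q1 (hsv.mul sa₂)) ?_
            exact hC a₂ ha₂ a₁ ha₁ (by rw [QuadraticMap.polar_comm]; exact p1) (sa₂.mul sa₁)
        · refine ⟨reflO' Q b₂, Subgroup.subset_closure (Or.inr rfl), ?_⟩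
          rcases hall v hv with ⟨-, q1⟩ | ⟨-, q1⟩
          · refine hchain v hv b₁ hb₁ b₂ hb₂ (hC v hv b₁ hb₁ q1 (isSquare_mul_of_not hsv sb₁)) ?_
            exact hC b₁ hb₁ b₂ hb₂ p4 (isSquare_mul_of_not sb₁ sb₂)
          · exact hC v hv b₂ hb₂ q1 (isSquare_mul_of_not hsv sb₂)
      · refine ⟨1, one_mem _, ?_⟩
        rw [mul_one]
        apply Subgroup.subset_closure
        refine ⟨?_, (hY x hy).1, (hY x hy).2⟩
        rw [hS]
        exact Subgroup.subset_closure (Or.inr hy)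
    · intro r hr
      obtain ⟨hrR, hrP⟩ := Subgroup.mem_inf.mp hr
      apply Subgroup.subset_closure
      refine ⟨?_, hrP, ?_⟩
      · have : Subgroup.closure {reflO' Q a₁, reflO' Q b₂} ≤ S := by
          rw [Subgroup.closure_le]
          rintro x (rfl | rfl)
          · exact hrS a₁ ha₁
          · exact hrS b₂ hb₂
        exact this hrR
      · have hab : reflO' Q a₁ * reflO' Q b₂ = reflO' Q b₂ * reflO' Q a₁ := by
          exact comm_of_invol (hrr a₁ ha₁) (hrr b₂ hb₂) (hsq2 a₁ ha₁ b₂ hb₂ p2)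
        refine sq_one_of_closure ?_ ?_ r hrR
        · rintro x (rfl | rfl) y (rfl | rfl)
          · rfl
          · exact hab
          · exact hab.symm
          · rfl
        · rintro x (rfl | rfl)
          · exact hrr a₁ ha₁
          · exact hrr b₂ hb₂
    · rw [hN, Subgroup.closure_le]
      intro y hy
      exact hy.2.1
  · rw [hN, Subgroup.closure_le]
    intro y hy
    exact Subgroup.mem_inf.mpr ⟨hy.1, hy.2.1⟩

end Cfsg.Agent.Lib.Helper67SylMat
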