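import Cfsg.Agent.Lib.Helper67U3Cert
import Cfsg.Agent.Lib.Helper62F9

set_option autoImplicit false

/-! Explicit data for `SU_3(3)`: the normaliser of a subgroup of order 7 is not maximal. -/

namespace Cfsg.Agent.Lib.Helper67U33Data

open Cfsg.Agent.Lib.Helper62F9 Matrix Cfsg Cfsg.Geo Cfsg.Agent.Lib.Helper67U3Cert Cfsg.Agent.Lib.Helper67UField

/-- the powers of the element of order 7 -/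
def Ap : Fin 7 → M3 F9 := ![
  !![⟨1, 0⟩, ⟨0, 0⟩, ⟨0, 0⟩; ⟨0, 0⟩, ⟨1, 0⟩, ⟨0, 0⟩; ⟨0, 0⟩, ⟨0, 0⟩, ⟨1, 0⟩],
  !![⟨0, 0⟩, ⟨0, 0⟩, ⟨1, 0⟩; ⟨1, 1⟩, ⟨1, 1⟩, ⟨0, 0⟩; ⟨2, 1⟩, ⟨1, 2⟩, ⟨0, 0⟩],
  !![⟨2, 1⟩, ⟨1, 2⟩, ⟨0, 0⟩; ⟨0, 2⟩, ⟨0, 2⟩, ⟨1, 1⟩; ⟨2, 0⟩, ⟨2, 0⟩, ⟨2, 1⟩],
  !![⟨2, 0⟩, ⟨2, 0⟩, ⟨2, 1⟩; ⟨2, 2⟩, ⟨0, 2⟩, ⟨0, 2⟩; ⟨2, 0⟩, ⟨2, 1⟩, ⟨2, 0⟩],
  !![⟨2, 0⟩, ⟨2, 1⟩, ⟨2, 0⟩; ⟨2, 0⟩, ⟨0, 1⟩, ⟨2, 2⟩; ⟨2, 2⟩, ⟨0, 1⟩, ⟨2, 0⟩],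
  !![⟨2, 2⟩, ⟨0, 1⟩, ⟨2, 0⟩; ⟨1, 1⟩, ⟨0, 1⟩, ⟨2, 0⟩; ⟨0, 0⟩, ⟨1, 2⟩, ⟨2, 2⟩],
  !![⟨0, 0⟩, ⟨1, 2⟩, ⟨2, 2⟩; ⟨0, 0⟩, ⟨1, 2⟩, ⟨1, 1⟩; ⟨1, 0⟩, ⟨0, 0⟩, ⟨0, 0⟩]]

/-- the powers of the element of order 3 -/
def Bp : Fin 3 → M3 F9 := ![
  !![⟨1, 0⟩, ⟨0, 0⟩, ⟨0, 0⟩; ⟨0, 0⟩, ⟨1, 0⟩, ⟨0, 0⟩; ⟨0, 0⟩, ⟨0, 0⟩, ⟨1, 0⟩],
  !![⟨2, 0⟩, ⟨0, 1⟩, ⟨2, 1⟩; ⟨1, 1⟩, ⟨2, 1⟩, ⟨0, 0⟩; ⟨0, 1⟩, ⟨1, 0⟩, ⟨2, 2⟩],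
  !![⟨2, 0⟩, ⟨1, 2⟩, ⟨0, 2⟩; ⟨0, 2⟩, ⟨2, 2⟩, ⟨1, 0⟩; ⟨2, 2⟩, ⟨0, 0⟩, ⟨2, 1⟩]]

/-- the extra element -/
def Cm : M3 F9 := !![⟨0, 0⟩, ⟨0, 0⟩, ⟨0, 1⟩; ⟨0, 0⟩, ⟨2, 0⟩, ⟨0, 0⟩; ⟨0, 2⟩, ⟨0, 0⟩, ⟨0, 0⟩]
/-- its inverse -/
def Ci : M3 F9 := !![⟨0, 0⟩, ⟨0, 0⟩, ⟨0, 1⟩; ⟨0, 0⟩, ⟨2, 0⟩, ⟨0, 0⟩; ⟨0, 2⟩, ⟨0, 0⟩, ⟨0, 0⟩]
/-- an element outside -/
def Tm : M3 F9 := !![⟨1, 0⟩, ⟨0, 0⟩, ⟨0, 0⟩; ⟨0, 0⟩, ⟨1, 1⟩, ⟨1, 1⟩; ⟨0, 0⟩, ⟨2, 1⟩, ⟨1, 2⟩]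
/-- its inverse -/
def Ti : M3 F9 := !![⟨1, 0⟩, ⟨0, 0⟩, ⟨0, 0⟩; ⟨0, 0⟩, ⟨1, 2⟩, ⟨2, 2⟩; ⟨0, 0⟩, ⟨1, 2⟩, ⟨1, 1⟩]
/-- the cyclic basis -/
def Pm : M3 F9 := !![⟨1, 0⟩, ⟨0, 0⟩, ⟨2, 1⟩; ⟨0, 0⟩, ⟨1, 1⟩, ⟨0, 2⟩; ⟨0, 0⟩, ⟨2, 1⟩, ⟨2, 0⟩]
/-- its inverse -/
def Pinv : M3 F9 := !![⟨1, 0⟩, ⟨2, 2⟩, ⟨1, 2⟩; ⟨0, 0⟩, ⟨1, 2⟩, ⟨2, 2⟩; ⟨0, 0⟩, ⟨0, 2⟩, ⟨1, 0⟩]

/-- the invariant set, as a bit mask -/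
def MASK : ℕ := 0x400044410080000000000400c01400010000041000080080000000000084208000008008000000a022000000080010000400400020800000000002000000800000001001000010000004000000041000000000000000208000

/-- membership in the invariant set -/
def SS (x y z : F9) : Bool := Nat.testBit MASK (x.re.val + 3 * x.im.val + 9 * (y.re.val + 3 * y.im.val) + 81 * (z.re.val + 3 * z.im.val))

theorem SS_A : ∀ x y z, SS (act (Ap 1) x y z 0) (act (Ap 1) x y z 1) (act (Ap 1) x y z 2) = SS x y z := by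
  decide +kernel
theorem SS_B : ∀ x y z, SS (act (Bp 1) x y z 0) (act (Bp 1) x y z 1) (act (Bp 1) x y z 2) = SS x y z := by
  decide +kernel
theorem SS_C : ∀ x y z, SS (act Cm x y z 0) (act Cm x y z 1) (act Cm x y z 2) = SS x y z := by
  decide +kernel
theorem SS_s : ∀ s : F9, s ^ 3 = 1 → ∀ x y z, SS (s * x) (s * y) (s * z) = SS x y z := by
  decide +kernel
theorem brute : ∀ x y z : F9, hf3 3 x y z x y z = 1 →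
    hf3 3 x y z (act (Ap 1) x y z 0) (act (Ap 1) x y z 1) (act (Ap 1) x y z 2) = (Ap 1 0 0) ^ 3 →
    hf3 3 x y z (act (Ap 2) x y z 0) (act (Ap 2) x y z 1) (act (Ap 2) x y z 2) = (Ap 2 0 0) ^ 3 →
    det3 x y z (act (Ap 1) x y z 0) (act (Ap 1) x y z 1) (act (Ap 1) x y z 2)
      (act (Ap 2) x y z 0) (act (Ap 2) x y z 1) (act (Ap 2) x y z 2) =
      det3 (Pm 0 0) (Pm 1 0) (Pm 2 0) (Pm 0 1) (Pm 1 1) (Pm 2 1) (Pm 0 2) (Pm 1 2) (Pm 2 2) →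
    ∃ (s : F9) (i : Fin 7), x = s * Ap i 0 0 ∧ y = s * Ap i 1 0 ∧ z = s * Ap i 2 0 := by
  decide +kernel

/-- the data -/
def dat : Dat F9 3 where
  Ap := Ap
  Bp := Bp
  Cm := Cm
  Ci := Ci
  Tm := Tm
  Ti := Ti
  Pm := Pm
  Pinv := Pinv
  SS := SS
  Ap_zero := by decide +kernel
  Ap_succ := by decide +kernel
  Ap_last := by decide +kernel
  Ap_last' := by decide +kernel
  Ap_one_ne := by decide +kernel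
  Ap_unitary := by decide +kernel
  Ap_det := by rw [Matrix.det_fin_three]; decide +kernel
  Bp_zero := by decide +kernel
  Bp_succ := by decide +kernel
  Bp_last := by decide +kernel
  Bp_last' := by decide +kernel
  Bp_unitary := by decide +kernel
  Bp_det := by rw [Matrix.det_fin_three]; decide +kernel
  Cm_inv := by decide +kernel
  Cm_inv' := by decide +kernel
  Cm_unitary := by decide +kernel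
  Cm_det := by rw [Matrix.det_fin_three]; decide +kernel
  Tm_inv := by decide +kernel
  Tm_inv' := by decide +kernel
  Tm_unitary := by decide +kernel
  Tm_det := by rw [Matrix.det_fin_three]; decide +kernel
  Pm_inv := by decide +kernel
  Pm_col := by decide +kernel
  trace_Ap := by decide +kernel
  Cm_not := by decide +kernel
  SS_A := SS_A
  SS_B := SS_B
  SS_C := SS_C
  SS_T := ⟨⟨1, 2⟩, ⟨0, 2⟩, ⟨1, 1⟩, by decide +kernel⟩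
  SS_s := SS_s
  brute := brute

theorem cert : Cert 3 F9 3 7 := by
  apply dat.cert (by rw [card_F9]; norm_num)
  rw [Matrix.card_GL_field, card_F9, Fin.prod_univ_three]
  norm_num

/-- `SU_3(3)`: the normaliser of a field of degree 3 is not maximal -/
theorem field_three {F : Type*} [Field F] [Fintype F] (hF : Fintype.card F = 9)
    (K : Subalgebra F (Matrix (Fin 3) (Fin 3) F)) (hK : IsFieldSubalgebra 3 K)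
    (hs : IsAdjointClosedFor (hermForm 3 F 3) K) :
    ¬ IsMaximalIn (GU 3 F 3 ⊓ specialLinear (Fin 3) F)
      (subalgebraNormalizer K ⊓ (GU 3 F 3 ⊓ specialLinear (Fin 3) F)) := by
  have ψ : F ≃+* F9 := FiniteField.ringEquivOfCardEq (by rw [hF, card_F9])
  exact not_maximal_of_cert (ℓ := 7) (by rw [hF]; norm_num) (by norm_num) (by norm_num) (by norm_num)
    (by norm_num) (cert.transport ψ) K hK hs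

end Cfsg.Agent.Lib.Helper67U33Data
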