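import Mathlib

set_option autoImplicit false

namespace Cfsg.Agent.Lib.Helper68GL

open Matrix Subgroup

variable {F : Type*} [Field F] {n : ℕ}

theorem inv_mulVec_mulVec (a : GL (Fin n) F) (v : Fin n → F) :
    (↑a⁻¹ : Matrix (Fin n) (Fin n) F) *ᵥ ((a : Matrix (Fin n) (Fin n) F) *ᵥ v) = v := by
  rw [mulVec_mulVec, ← GeneralLinearGroup.coe_mul, inv_mul_cancel, GeneralLinearGroup.coe_one,
    one_mulVec]

theorem mulVec_inv_mulVec (a : GL (Fin n) F) (v : Fin n → F) :
    (a : Matrix (Fin n) (Fin n) F) *ᵥ ((↑a⁻¹ : Matrix (Fin n) (Fin n) F) *ᵥ v) = v := by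
  rw [mulVec_mulVec, ← GeneralLinearGroup.coe_mul, mul_inv_cancel, GeneralLinearGroup.coe_one,
    one_mulVec]

theorem vecMul_inv_vecMul (a : GL (Fin n) F) (v : Fin n → F) :
    (v ᵥ* (↑a⁻¹ : Matrix (Fin n) (Fin n) F)) ᵥ* (a : Matrix (Fin n) (Fin n) F) = v := by
  rw [vecMul_vecMul, ← GeneralLinearGroup.coe_mul, inv_mul_cancel, GeneralLinearGroup.coe_one,
    vecMul_one]

theorem vecMul_vecMul_inv (a : GL (Fin n) F) (v : Fin n → F) :
    (v ᵥ* (a : Matrix (Fin n) (Fin n) F)) ᵥ* (↑a⁻¹ : Matrix (Fin n) (Fin n) F) = v := by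
  rw [vecMul_vecMul, ← GeneralLinearGroup.coe_mul, mul_inv_cancel, GeneralLinearGroup.coe_one,
    vecMul_one]

/-- the stabilizer of the line spanned by the column vector `w` -/
def Bor (w : Fin n → F) : Subgroup (GL (Fin n) F) where
  carrier := {g | ∃ c : F, (g : Matrix (Fin n) (Fin n) F) *ᵥ w = c • w}
  mul_mem' := by
    rintro a b ⟨c, hc⟩ ⟨c', hc'⟩
    refine ⟨c' * c, ?_⟩
    rw [GeneralLinearGroup.coe_mul, ← mulVec_mulVec, hc', mulVec_smul, hc, smul_smul]
  one_mem' := ⟨1, by simp⟩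
  inv_mem' := by
    rintro a ⟨c, hc⟩
    refine ⟨c⁻¹, ?_⟩
    have h := inv_mulVec_mulVec a w
    rw [hc, mulVec_smul] at h
    by_cases hc0 : c = 0
    · rw [hc0, zero_smul] at h
      rw [← h]; simp
    · calc (↑a⁻¹ : Matrix (Fin n) (Fin n) F) *ᵥ w
          = c⁻¹ • (c • ((↑a⁻¹ : Matrix (Fin n) (Fin n) F) *ᵥ w)) := by
            rw [smul_smul, inv_mul_cancel₀ hc0, one_smul]
        _ = c⁻¹ • w := by rw [h]

theorem mem_Bor {w : Fin n → F} {g : GL (Fin n) F} :
    g ∈ Bor w ↔ ∃ c : F, (g : Matrix (Fin n) (Fin n) F) *ᵥ w = c • w := Iff.rfl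

/-- the stabilizer of the line spanned by the row vector `f` -/
def BorL (f : Fin n → F) : Subgroup (GL (Fin n) F) where
  carrier := {g | ∃ c : F, f ᵥ* (g : Matrix (Fin n) (Fin n) F) = c • f}
  mul_mem' := by
    rintro a b ⟨c, hc⟩ ⟨c', hc'⟩
    refine ⟨c * c', ?_⟩
    rw [GeneralLinearGroup.coe_mul, ← vecMul_vecMul, hc, smul_vecMul, hc', smul_smul]
  one_mem' := ⟨1, by simp⟩
  inv_mem' := by
    rintro a ⟨c, hc⟩
    refine ⟨c⁻¹, ?_⟩
    have h := vecMul_vecMul_inv a f
    rw [hc, smul_vecMul] at h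
    by_cases hc0 : c = 0
    · rw [hc0, zero_smul] at h
      rw [← h]; simp
    · calc f ᵥ* (↑a⁻¹ : Matrix (Fin n) (Fin n) F)
          = c⁻¹ • (c • (f ᵥ* (↑a⁻¹ : Matrix (Fin n) (Fin n) F))) := by
            rw [smul_smul, inv_mul_cancel₀ hc0, one_smul]
        _ = c⁻¹ • f := by rw [h]

theorem mem_BorL {f : Fin n → F} {g : GL (Fin n) F} :
    g ∈ BorL f ↔ ∃ c : F, f ᵥ* (g : Matrix (Fin n) (Fin n) F) = c • f := Iff.rfl

theorem bor_pair {u : GL (Fin n) F} {w : Fin n → F}
    (hu : ∀ (v : Fin n → F) (c : F), (u : Matrix (Fin n) (Fin n) F) *ᵥ v = c • v → ∃ c' : F, v = c' • w)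
    (g : GL (Fin n) F) (hg : g⁻¹ * u * g ∈ Bor w) : g ∈ Bor w := by
  obtain ⟨c, hc⟩ := hg
  apply hu _ c
  rw [GeneralLinearGroup.coe_mul, GeneralLinearGroup.coe_mul, ← mulVec_mulVec, ← mulVec_mulVec] at hc
  have := congrArg (fun v => (g : Matrix (Fin n) (Fin n) F) *ᵥ v) hc
  simp only [mulVec_inv_mulVec, mulVec_smul] at this
  exact this

theorem borL_pair {u : GL (Fin n) F} {f : Fin n → F}
    (hu : ∀ (v : Fin n → F) (c : F), v ᵥ* (u : Matrix (Fin n) (Fin n) F) = c • v → ∃ c' : F, v = c' • f)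
    (g : GL (Fin n) F) (hg : g⁻¹ * u * g ∈ BorL f) : g ∈ BorL f := by
  obtain ⟨c, hc⟩ := hg
  rw [← inv_mem_iff]
  apply hu _ c
  rw [GeneralLinearGroup.coe_mul, GeneralLinearGroup.coe_mul, ← vecMul_vecMul, ← vecMul_vecMul] at hc
  have := congrArg (fun v => v ᵥ* (↑g⁻¹ : Matrix (Fin n) (Fin n) F)) hc
  simp only [vecMul_vecMul_inv, smul_vecMul] at this
  exact this

/-- the upper shift matrix -/
def shiftM (F : Type*) [Field F] (n : ℕ) : Matrix (Fin n) (Fin n) F :=
  Matrix.of fun i j => if (i : ℕ) + 1 = (j : ℕ) then 1 else 0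

theorem shiftM_mulVec (v : Fin n → F) (i : Fin n) :
    (shiftM F n *ᵥ v) i = if h : (i : ℕ) + 1 < n then v ⟨i + 1, h⟩ else 0 := by
  simp only [mulVec, dotProduct, shiftM, of_apply, ite_mul, one_mul, zero_mul]
  split_ifs with h
  · rw [Finset.sum_eq_single (⟨i + 1, h⟩ : Fin n)]
    · simp
    · intro b _ hb
      rw [if_neg]
      intro e
      exact hb (Fin.ext e.symm)
    · simp
  · apply Finset.sum_eq_zero
    intro b _
    rw [if_neg]
    intro e
    exact h (e ▸ b.2)

theorem vecMul_shiftM (v : Fin n → F) (j : Fin n) :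
    (v ᵥ* shiftM F n) j = if h : 0 < (j : ℕ) then v ⟨j - 1, by omega⟩ else 0 := by
  simp only [vecMul, dotProduct, shiftM, of_apply, mul_ite, mul_one, mul_zero]
  split_ifs with h
  · rw [Finset.sum_eq_single (⟨j - 1, by omega⟩ : Fin n)]
    · rw [if_pos]; simp only []; omega
    · intro b _ hb
      rw [if_neg]
      intro e
      apply hb
      apply Fin.ext
      simp only []
      omega
    · simp
  · apply Finset.sum_eq_zero
    intro b _
    rw [if_neg]
    omega

theorem det_one_add_shiftM : (1 + shiftM F n).det = 1 := by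
  rw [Matrix.det_of_upperTriangular]
  · apply Finset.prod_eq_one
    intro i _
    simp [shiftM]
  · intro i j hij
    simp only [id] at hij
    have h1 : i ≠ j := ne_of_gt hij
    have h2 : ¬ ((i : ℕ) + 1 = (j : ℕ)) := by
      have : (j : ℕ) < (i : ℕ) := hij
      omega
    simp [shiftM, h1, h2]

/-- the regular unipotent element -/
def regU (F : Type*) [Field F] (n : ℕ) : SpecialLinearGroup (Fin n) F :=
  ⟨1 + shiftM F n, det_one_add_shiftM⟩

theorem regU_right (hn : 0 < n) (v : Fin n → F) (c : F)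
    (h : (1 + shiftM F n) *ᵥ v = c • v) : ∃ c' : F, v = c' • (Pi.single ⟨0, hn⟩ 1 : Fin n → F) := by
  have h1 : ∀ i : Fin n, (if h : (i : ℕ) + 1 < n then v ⟨i + 1, h⟩ else 0) = (c - 1) * v i := by
    intro i
    have := congrFun h i
    rw [add_mulVec, one_mulVec, Pi.add_apply, shiftM_mulVec, Pi.smul_apply, smul_eq_mul] at this
    rw [sub_mul, one_mul, ← this]; ring
  have h2 : ∀ i : Fin n, (i : ℕ) ≠ 0 → v i = 0 := by
    by_cases hc : c - 1 = 0
    · intro i hi
      have := h1 ⟨i - 1, by omega⟩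
      rw [hc, zero_mul, dif_pos (by simp only []; omega)] at this
      convert this using 2
      apply Fin.ext; simp only []; omega
    · have h3 : ∀ k : ℕ, ∀ i : Fin n, n ≤ (i : ℕ) + k → v i = 0 := by
        intro k
        induction k with
        | zero => intro i hi; exact absurd i.2 (by omega)
        | succ k ih =>
          intro i hi
          have := h1 i
          split_ifs at this with h4
          · rw [ih ⟨i + 1, h4⟩ (by simp only []; omega)] at this
            exact (mul_eq_zero.mp this.symm).resolve_left hc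
          · exact (mul_eq_zero.mp this.symm).resolve_left hc
      intro i _
      exact h3 n i (by omega)
  refine ⟨v ⟨0, hn⟩, ?_⟩
  funext i
  by_cases hi : (i : ℕ) = 0
  · have : i = ⟨0, hn⟩ := Fin.ext hi
    rw [this]; simp
  · have : i ≠ ⟨0, hn⟩ := fun e => hi (congrArg Fin.val e)
    rw [h2 i hi]; simp [this]

theorem regU_left (hn : 0 < n) (v : Fin n → F) (c : F)
    (h : v ᵥ* (1 + shiftM F n) = c • v) :
    ∃ c' : F, v = c' • (Pi.single ⟨n - 1, by omega⟩ 1 : Fin n → F) := by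
  have h1 : ∀ j : Fin n, (if h : 0 < (j : ℕ) then v ⟨j - 1, by omega⟩ else 0) = (c - 1) * v j := by
    intro j
    have := congrFun h j
    rw [vecMul_add, vecMul_one, Pi.add_apply, vecMul_shiftM, Pi.smul_apply, smul_eq_mul] at this
    rw [sub_mul, one_mul, ← this]; ring
  have h2 : ∀ i : Fin n, (i : ℕ) ≠ n - 1 → v i = 0 := by
    by_cases hc : c - 1 = 0
    · intro i hi
      have := h1 ⟨i + 1, by omega⟩
      rw [hc, zero_mul, dif_pos (by simp only []; omega)] at this
      convert this using 2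
      apply Fin.ext; simp only []; omega
    · have h3 : ∀ k : ℕ, ∀ i : Fin n, (i : ℕ) = k → v i = 0 := by
        intro k
        induction k with
        | zero =>
          intro i hi
          have := h1 i
          rw [dif_neg (by omega)] at this
          exact (mul_eq_zero.mp this.symm).resolve_left hc
        | succ k ih =>
          intro i hi
          have := h1 i
          rw [dif_pos (by omega), ih ⟨i - 1, by omega⟩ (by simp only []; omega)] at this
          exact (mul_eq_zero.mp this.symm).resolve_left hc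
      intro i _
      exact h3 i i rfl
  refine ⟨v ⟨n - 1, by omega⟩, ?_⟩
  funext i
  by_cases hi : (i : ℕ) = n - 1
  · have : i = ⟨n - 1, by omega⟩ := Fin.ext hi
    rw [this]; simp
  · have : i ≠ ⟨n - 1, by omega⟩ := fun e => hi (congrArg Fin.val e)
    rw [h2 i hi]; simp [this]

end Cfsg.Agent.Lib.Helper68GL
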