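import Mathlib

set_option autoImplicit false

namespace Cfsg.Agent.Lib.Helper68Nil

open Subgroup

variable {Γ : Type*} [Group Γ]

/-- covers of `H` by subgroups containing `Z` and not containing `H` -/
def IsCov (Z H : Subgroup Γ) (𝓨 : Finset (Subgroup Γ)) : Prop :=
  (∀ Y ∈ 𝓨, Z ≤ Y ∧ ¬ H ≤ Y) ∧ ∀ g ∈ H, ∃ Y ∈ 𝓨, g ∈ Y

def IsNilMinCov (Z H : Subgroup Γ) (𝓧 : Finset (Subgroup Γ)) : Prop :=
  IsCov Z H 𝓧 ∧ (∀ 𝓨, IsCov Z H 𝓨 → 𝓧.card ≤ 𝓨.card) ∧ ∀ X ∈ 𝓧, Group.IsNilpotent ↥X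

/-- the exchange principle -/
theorem exchange {Z H : Subgroup Γ} {𝓧 : Finset (Subgroup Γ)} (h : IsNilMinCov Z H 𝓧)
    (φ : Subgroup Γ → Subgroup Γ) (hφ : ∀ X ∈ 𝓧, X ≤ φ X ∧ ¬ H ≤ φ X) {X₀ : Subgroup Γ}
    (hX₀ : X₀ ∈ 𝓧) : ∃ g ∈ H, g ∈ X₀ ∧ ∀ X ∈ 𝓧, X ≠ X₀ → g ∉ φ X := by
  classical
  by_contra hcon
  push_neg at hcon
  have hcov : IsCov Z H ((𝓧.erase X₀).image φ) := by
    constructor
    · intro Y hY
      obtain ⟨X, hX, rfl⟩ := Finset.mem_image.mp hY
      have hX' := Finset.mem_of_mem_erase hX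
      exact ⟨(h.1.1 X hX').1.trans (hφ X hX').1, (hφ X hX').2⟩
    · intro g hg
      obtain ⟨X₁, hX₁, hgX₁⟩ := h.1.2 g hg
      by_cases e : X₁ = X₀
      · obtain ⟨X, hX, hne, hgX⟩ := hcon g hg (e ▸ hgX₁)
        exact ⟨φ X, Finset.mem_image_of_mem _ (Finset.mem_erase.mpr ⟨hne, hX⟩), hgX⟩
      · exact ⟨φ X₁, Finset.mem_image_of_mem _ (Finset.mem_erase.mpr ⟨e, hX₁⟩), (hφ X₁ hX₁).1 hgX₁⟩
  have h1 := h.2.1 _ hcov
  have h2 : ((𝓧.erase X₀).image φ).card ≤ (𝓧.erase X₀).card := Finset.card_image_le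
  have h3 : (𝓧.erase X₀).card < 𝓧.card := Finset.card_erase_lt_of_mem hX₀
  omega

theorem eq_of_le {Z H : Subgroup Γ} {𝓧 : Finset (Subgroup Γ)} (h : IsNilMinCov Z H 𝓧)
    {X X' M : Subgroup Γ} (hX : X ∈ 𝓧) (hX' : X' ∈ 𝓧) (hM : ¬ H ≤ M) (hXM : X ≤ M)
    (hX'M : X' ≤ M) : X = X' := by
  classical
  by_contra hne
  obtain ⟨g, -, hgX, hg⟩ := exchange h (fun Y => if Y ≤ M then M else Y) (by
    intro Y hY
    by_cases hYM : Y ≤ M
    · rw [if_pos hYM]; exact ⟨hYM, hM⟩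
    · rw [if_neg hYM]; exact ⟨le_refl _, (h.1.1 Y hY).2⟩) hX
  have := hg X' hX' (Ne.symm hne)
  rw [if_pos hX'M] at this
  exact this (hXM hgX)

theorem exists_common {Z H : Subgroup Γ} {𝓧 : Finset (Subgroup Γ)} (h : IsNilMinCov Z H 𝓧)
    {M : Subgroup Γ} (hM : ¬ H ≤ M) {x x' : Γ} (hx : x ∈ H) (hx' : x' ∈ H)
    (h1 : ∀ X : Subgroup Γ, Group.IsNilpotent ↥X → x ∈ X → X ≤ M)
    (h2 : ∀ X : Subgroup Γ, Group.IsNilpotent ↥X → x' ∈ X → X ≤ M) :
    ∃ X : Subgroup Γ, Group.IsNilpotent ↥X ∧ x ∈ X ∧ x' ∈ X := by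
  obtain ⟨X, hX, hxX⟩ := h.1.2 x hx
  obtain ⟨X', hX', hxX'⟩ := h.1.2 x' hx'
  have e := eq_of_le h hX hX' hM (h1 X (h.2.2 X hX) hxX) (h2 X' (h.2.2 X' hX') hxX')
  exact ⟨X, h.2.2 X hX, hxX, e ▸ hxX'⟩

/-- In a nilpotent group, elements with coprime powers in the centre commute. -/
theorem commute_of_coprime_pow (X : Type*) [Group X] [Group.IsNilpotent X] :
    ∀ (x y : X) (a b : ℕ), a.Coprime b → x ^ a ∈ center X → y ^ b ∈ center X → Commute x y := by
  apply Group.nilpotent_center_quotient_ind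
    (P := fun X _ _ => ∀ (x y : X) (a b : ℕ), a.Coprime b → x ^ a ∈ center X → y ^ b ∈ center X →
      Commute x y) X
  · intro G _ _ x y _ _ _ _ _
    exact Subsingleton.elim _ _
  · intro G _ _ ih x y a b hab hx hy
    have h1 : Commute (x : G ⧸ center G) (y : G ⧸ center G) := by
      apply ih _ _ a b hab
      · rw [← QuotientGroup.mk_pow, (QuotientGroup.eq_one_iff _).mpr hx]; exact one_mem _
      · rw [← QuotientGroup.mk_pow, (QuotientGroup.eq_one_iff _).mpr hy]; exact one_mem _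
    set z := x * y * x⁻¹ * y⁻¹ with hz
    have hzc : z ∈ center G := by
      rw [← QuotientGroup.eq_one_iff, hz, QuotientGroup.mk_mul, QuotientGroup.mk_mul,
        QuotientGroup.mk_mul, QuotientGroup.mk_inv, QuotientGroup.mk_inv, h1.eq]
      group
    have hzc' : ∀ w : G, w * z = z * w := fun w => mem_center_iff.mp hzc w
    have e1 : ∀ k : ℕ, x ^ k * y = z ^ k * y * x ^ k := by
      intro k
      induction k with
      | zero => simp
      | succ k ih =>
        have hzk : ∀ w : G, w * z ^ k = z ^ k * w :=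
          fun w => mem_center_iff.mp (pow_mem hzc k) w
        calc x ^ (k + 1) * y = x * (x ^ k * y) := by rw [pow_succ', mul_assoc]
          _ = x * (z ^ k * y * x ^ k) := by rw [ih]
          _ = z ^ k * (x * y) * x ^ k := by rw [mul_assoc (z ^ k), ← mul_assoc x, hzk x]; group
          _ = z ^ k * (z * y * x) * x ^ k := by rw [hz]; group
          _ = z ^ (k + 1) * y * x ^ (k + 1) := by rw [pow_succ, pow_succ']; group
    have e2 : ∀ k : ℕ, x * y ^ k = z ^ k * y ^ k * x := by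
      intro k
      induction k with
      | zero => simp
      | succ k ih =>
        have hzk : ∀ w : G, w * z ^ k = z ^ k * w :=
          fun w => mem_center_iff.mp (pow_mem hzc k) w
        calc x * y ^ (k + 1) = (x * y ^ k) * y := by rw [pow_succ, mul_assoc]
          _ = z ^ k * y ^ k * (x * y) := by rw [ih]; group
          _ = z ^ k * y ^ k * (z * y * x) := by rw [hz]; group
          _ = z ^ k * (y ^ k * z) * y * x := by group
          _ = z ^ (k + 1) * y ^ (k + 1) * x := by rw [hzc' (y ^ k), pow_succ, pow_succ]; group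
    have hza : z ^ a = 1 := by
      have := e1 a
      rw [← mem_center_iff.mp hx y] at this
      have h2 : z ^ a * (y * x ^ a) = 1 * (y * x ^ a) := by rw [one_mul, ← mul_assoc]; exact this.symm
      exact mul_right_cancel h2
    have hzb : z ^ b = 1 := by
      have := e2 b
      rw [mem_center_iff.mp hy x] at this
      have h2 : z ^ b * (y ^ b * x) = 1 * (y ^ b * x) := by rw [one_mul, ← mul_assoc]; exact this.symm
      exact mul_right_cancel h2
    have hz1 : z = 1 := by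
      have h3 : orderOf z ∣ 1 := by
        rw [← Nat.coprime_iff_gcd_eq_one.mp hab]
        exact Nat.dvd_gcd (orderOf_dvd_of_pow_eq_one hza) (orderOf_dvd_of_pow_eq_one hzb)
      exact orderOf_eq_one_iff.mp (Nat.dvd_one.mp h3)
    have : x * y = z * (y * x) := by rw [hz]; group
    rw [hz1, one_mul] at this
    exact this

theorem mul_comm_of_coprime_pow {X : Subgroup Γ} (hX : Group.IsNilpotent ↥X) {x y : Γ}
    (hx : x ∈ X) (hy : y ∈ X) {a b : ℕ} (hab : a.Coprime b) (hxa : x ^ a ∈ center Γ)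
    (hyb : y ^ b ∈ center Γ) : x * y = y * x := by
  have h := commute_of_coprime_pow ↥X ⟨x, hx⟩ ⟨y, hy⟩ a b hab
    (by
      rw [mem_center_iff]; intro w; apply Subtype.ext
      simpa using mem_center_iff.mp hxa w)
    (by
      rw [mem_center_iff]; intro w; apply Subtype.ext
      simpa using mem_center_iff.mp hyb w)
  exact congrArg Subtype.val h.eq

/-- a nilpotent subgroup containing an element with a "unique fixed point" `M` lies in `M` -/
theorem le_of_unique_fixed {X M : Subgroup Γ} (hX : Group.IsNilpotent ↥X) {u : Γ} (huX : u ∈ X)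
    (huM : u ∈ M) (h : ∀ g ∈ X, g⁻¹ * u * g ∈ M → g ∈ M) : X ≤ M := by
  have hnc := Group.normalizerCondition_of_isNilpotent (G := ↥X)
  rw [normalizerCondition_iff_only_full_group_self_normalizing] at hnc
  rw [← subgroupOf_eq_top]
  apply hnc
  apply le_antisymm _ le_normalizer
  intro g hg
  rw [mem_subgroupOf]
  apply h _ g.2
  have hg' := inv_mem hg
  rw [mem_normalizer_iff] at hg'
  have := (hg' ⟨u, huX⟩).mp (by rw [mem_subgroupOf]; exact huM)
  rw [mem_subgroupOf] at this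
  simpa using this

/-- transfer of a nilpotent minimal cover of a subgroup of `Γ ⧸ Z` to `Γ` -/
theorem transfer (Z : Subgroup Γ) [Z.Normal] (hZ : Z ≤ center Γ) (G : Subgroup (Γ ⧸ Z))
    (𝓐 : Finset (Subgroup ↥G))
    (h : ((∀ A ∈ 𝓐, A ≠ ⊤) ∧ (∀ g : ↥G, ∃ A ∈ 𝓐, g ∈ A)) ∧
      (∀ 𝓑 : Finset (Subgroup ↥G), (∀ A ∈ 𝓑, A ≠ ⊤) ∧ (∀ g : ↥G, ∃ A ∈ 𝓑, g ∈ A) →
        𝓐.card ≤ 𝓑.card) ∧ (∀ A ∈ 𝓐, Group.IsNilpotent ↥A)) :
    ∃ 𝓧, IsNilMinCov Z (G.comap (QuotientGroup.mk' Z)) 𝓧 := by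
  classical
  set π := QuotientGroup.mk' Z with hπ
  have hπs : Function.Surjective π := QuotientGroup.mk'_surjective Z
  let Φ : Subgroup ↥G → Subgroup Γ := fun A => (A.map G.subtype).comap π
  let Ψ : Subgroup Γ → Subgroup ↥G := fun Y => (Y.map π).subgroupOf G
  have memΦ : ∀ (A : Subgroup ↥G) (x : Γ) (hx : π x ∈ G), x ∈ Φ A ↔ (⟨π x, hx⟩ : ↥G) ∈ A := by
    intro A x hx
    simp only [Φ, mem_comap, mem_map]
    constructor
    · rintro ⟨a, ha, hax⟩
      have : a = ⟨π x, hx⟩ := Subtype.ext hax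
      rwa [← this]
    · intro h
      exact ⟨_, h, rfl⟩
  refine ⟨𝓐.image Φ, ⟨?_, ?_⟩, ?_, ?_⟩
  · intro Y hY
    obtain ⟨A, hA, rfl⟩ := Finset.mem_image.mp hY
    constructor
    · intro z hz
      have h1 : π z = 1 := (QuotientGroup.eq_one_iff z).mpr hz
      have h2 : π z ∈ G := h1 ▸ one_mem G
      rw [memΦ A z h2]
      have : (⟨π z, h2⟩ : ↥G) = 1 := Subtype.ext h1
      rw [this]; exact one_mem A
    · intro hle
      apply h.1.1 A hA
      rw [eq_top_iff]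
      intro g _
      obtain ⟨x, hx⟩ := hπs g.1
      have hxG : π x ∈ G := hx ▸ g.2
      have := (memΦ A x hxG).mp (hle (mem_comap.mpr hxG))
      have e : (⟨π x, hxG⟩ : ↥G) = g := Subtype.ext hx
      rwa [e] at this
  · intro x hx
    have hxG : π x ∈ G := mem_comap.mp hx
    obtain ⟨A, hA, hxA⟩ := h.1.2 ⟨π x, hxG⟩
    exact ⟨Φ A, Finset.mem_image_of_mem _ hA, (memΦ A x hxG).mpr hxA⟩
  · intro 𝓨 h𝓨
    have h1 : (∀ A ∈ 𝓨.image Ψ, A ≠ ⊤) ∧ (∀ g : ↥G, ∃ A ∈ 𝓨.image Ψ, g ∈ A) := by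
      constructor
      · intro B hB
        obtain ⟨Y, hY, rfl⟩ := Finset.mem_image.mp hB
        intro htop
        apply (h𝓨.1 Y hY).2
        intro x hx
        have hxG : π x ∈ G := mem_comap.mp hx
        have : (⟨π x, hxG⟩ : ↥G) ∈ Ψ Y := by rw [htop]; exact mem_top _
        simp only [Ψ, mem_subgroupOf, mem_map] at this
        obtain ⟨y, hy, hyx⟩ := this
        have h3 : y⁻¹ * x ∈ Z := QuotientGroup.eq.mp hyx
        have : x = y * (y⁻¹ * x) := by group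
        rw [this]
        exact mul_mem hy ((h𝓨.1 Y hY).1 h3)
      · intro g
        obtain ⟨x, hx⟩ := hπs g.1
        have hxG : π x ∈ G := hx ▸ g.2
        obtain ⟨Y, hY, hxY⟩ := h𝓨.2 x (mem_comap.mpr hxG)
        refine ⟨Ψ Y, Finset.mem_image_of_mem _ hY, ?_⟩
        simp only [Ψ, mem_subgroupOf, mem_map]
        exact ⟨x, hxY, hx⟩
    calc (𝓐.image Φ).card ≤ 𝓐.card := Finset.card_image_le
      _ ≤ (𝓨.image Ψ).card := h.2.1 _ h1
      _ ≤ 𝓨.card := Finset.card_image_le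
  · intro X hX
    obtain ⟨A, hA, rfl⟩ := Finset.mem_image.mp hX
    haveI := h.2.2 A hA
    haveI : Group.IsNilpotent ↥(A.map G.subtype) :=
      Group.nilpotent_of_mulEquiv (A.equivMapOfInjective G.subtype G.subtype_injective)
    apply Subgroup.isNilpotent_of_ker_le_center (π.subgroupComap (A.map G.subtype))
    intro x hx
    rw [MonoidHom.mem_ker] at hx
    have h1 : π x.1 = 1 := congrArg Subtype.val hx
    have h2 : x.1 ∈ center Γ := hZ ((QuotientGroup.eq_one_iff x.1).mp h1)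
    rw [mem_center_iff]
    intro w
    exact Subtype.ext (mem_center_iff.mp h2 w.1)

end Cfsg.Agent.Lib.Helper68Nil
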