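import Mathlib
import Cfsg.Agent.Lib.Helper68Nil
import Cfsg.Agent.Lib.Helper68GL

set_option autoImplicit false

namespace Cfsg.Agent.Lib.Helper68GLn

open Matrix Subgroup Cfsg.Agent.Lib.Helper68Nil Cfsg.Agent.Lib.Helper68GL

variable {F : Type*} [Field F] {n : ℕ}

theorem mem_Bor_single {g : GL (Fin n) F} {j : Fin n} :
    g ∈ Bor (Pi.single j 1 : Fin n → F) ↔ ∀ i, i ≠ j → g i j = 0 := by
  rw [mem_Bor]
  constructor
  · rintro ⟨c, hc⟩ i hi
    have := congrFun hc i
    rw [mulVec_single_one] at this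
    simpa [hi] using this
  · intro h
    refine ⟨g j j, ?_⟩
    rw [mulVec_single_one]
    funext i
    by_cases hi : i = j
    · subst hi; simp
    · simp [hi, h i hi]

theorem mem_BorL_single {g : GL (Fin n) F} {i : Fin n} :
    g ∈ BorL (Pi.single i 1 : Fin n → F) ↔ ∀ j, j ≠ i → g i j = 0 := by
  rw [mem_BorL]
  constructor
  · rintro ⟨c, hc⟩ j hj
    have := congrFun hc j
    rw [single_one_vecMul] at this
    simpa [hj] using this
  · intro h
    refine ⟨g i i, ?_⟩
    rw [single_one_vecMul]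
    funext j
    by_cases hj : j = i
    · subst hj; simp
    · simp [hj, h j hj]

/-- transvections as elements of `SL` -/
def tvSL (i j : Fin n) (h : i ≠ j) : SpecialLinearGroup (Fin n) F :=
  ⟨transvection i j 1, det_transvection_of_ne i j h 1⟩

theorem no_cover_ge_three (hn : 3 ≤ n) (Z H : Subgroup (GL (Fin n) F))
    (hH : (SpecialLinearGroup.toGL : SpecialLinearGroup (Fin n) F →* GL (Fin n) F).range ≤ H)
    (𝓧 : Finset (Subgroup (GL (Fin n) F))) (h : IsNilMinCov Z H 𝓧) : False := by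
  have hn0 : 0 < n := by omega
  set i0 : Fin n := ⟨0, hn0⟩ with hi0
  set i1 : Fin n := ⟨1, by omega⟩ with hi1
  set il : Fin n := ⟨n - 1, by omega⟩ with hil
  have h01 : i1 ≠ i0 := by intro e; simpa [hi0, hi1] using congrArg Fin.val e
  have hl1 : il ≠ i1 := by
    intro e
    have := congrArg Fin.val e
    simp only [hil, hi1] at this
    omega
  set u : GL (Fin n) F := SpecialLinearGroup.toGL (regU F n) with hu
  set m : GL (Fin n) F := SpecialLinearGroup.toGL (tvSL il i1 hl1) with hm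
  set u' : GL (Fin n) F := m * u * m⁻¹ with hu'
  have huH : u ∈ H := hH ⟨_, rfl⟩
  have hu'H : u' ∈ H := hH ⟨tvSL il i1 hl1 * regU F n * (tvSL il i1 hl1)⁻¹, by simp [hu', hu, hm]⟩
  have hM : ¬ H ≤ Bor (Pi.single i0 1 : Fin n → F) := by
    intro hle
    have h1 : SpecialLinearGroup.toGL (tvSL (F := F) i1 i0 h01) ∈ Bor (Pi.single i0 1 : Fin n → F) :=
      hle (hH ⟨_, rfl⟩)
    rw [mem_Bor_single] at h1
    have : (transvection i1 i0 (1 : F)) i1 i0 = 0 := h1 i1 h01
    simp [transvection, h01] at this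
  have hpR : ∀ g : GL (Fin n) F, g⁻¹ * u * g ∈ Bor (Pi.single i0 1 : Fin n → F) →
      g ∈ Bor (Pi.single i0 1 : Fin n → F) := bor_pair (fun v c hv => regU_right hn0 v c hv)
  have hpL : ∀ g : GL (Fin n) F, g⁻¹ * u * g ∈ BorL (Pi.single il 1 : Fin n → F) →
      g ∈ BorL (Pi.single il 1 : Fin n → F) := borL_pair (fun v c hv => regU_left hn0 v c hv)
  have huM : u ∈ Bor (Pi.single i0 1 : Fin n → F) := by
    rw [mem_Bor_single]
    intro i hi
    show (1 + shiftM F n) i i0 = 0
    rw [Matrix.add_apply, Matrix.one_apply_ne hi]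
    simp [shiftM, hi0]
  have huL : u ∈ BorL (Pi.single il 1 : Fin n → F) := by
    rw [mem_BorL_single]
    intro j hj
    have : ¬ (n - 1 + 1 = (j : ℕ)) := by have := j.2; omega
    show (1 + shiftM F n) il j = 0
    rw [Matrix.add_apply, Matrix.one_apply_ne hj.symm]
    simp [shiftM, hil, this]
  have hmM : m ∈ Bor (Pi.single i0 1 : Fin n → F) := by
    rw [mem_Bor_single]
    intro i hi
    show (transvection il i1 (1 : F)) i i0 = 0
    simp [transvection, hi, h01]
  have hmL : m ∉ BorL (Pi.single il 1 : Fin n → F) := by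
    rw [mem_BorL_single]
    intro hc
    have : (transvection il i1 (1 : F)) il i1 = 0 := hc i1 hl1.symm
    simp [transvection, hl1] at this
  obtain ⟨X, hXn, huX, hu'X⟩ := exists_common h hM huH hu'H
    (fun X hX hx => le_of_unique_fixed hX hx huM (fun g _ => hpR g))
    (fun X hX hx => le_of_unique_fixed hX hx (mul_mem (mul_mem hmM huM) (inv_mem hmM))
      (fun g _ hg => by
        have : (m⁻¹ * g)⁻¹ * u * (m⁻¹ * g) ∈ Bor (Pi.single i0 1 : Fin n → F) := by
          have e : (m⁻¹ * g)⁻¹ * u * (m⁻¹ * g) = g⁻¹ * u' * g := by rw [hu']; group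
          rw [e]; exact hg
        have h2 := hpR _ this
        have e : g = m * (m⁻¹ * g) := by group
        rw [e]; exact mul_mem hmM h2))
  have h3 : X ≤ BorL (Pi.single il 1 : Fin n → F) :=
    le_of_unique_fixed hXn huX huL (fun g _ => hpL g)
  have h4 : (m⁻¹)⁻¹ * u * m⁻¹ ∈ BorL (Pi.single il 1 : Fin n → F) := by
    rw [inv_inv]; exact h3 hu'X
  exact hmL (inv_mem_iff.mp (hpL _ h4))

end Cfsg.Agent.Lib.Helper68GLn
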