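import Mathlib
import Cfsg.Agent.Lib.Helper68Nil
import Cfsg.Agent.Lib.Helper68GL
import Cfsg.Agent.Lib.Helper68GLn

set_option autoImplicit false

namespace Cfsg.Agent.Lib.Helper68GL2

open Matrix Subgroup Cfsg.Agent.Lib.Helper68Nil Cfsg.Agent.Lib.Helper68GL
  Cfsg.Agent.Lib.Helper68GLn

variable {F : Type*} [Field F]

/-- the transvection with axis `w` -/
def tv (w : Fin 2 → F) : SpecialLinearGroup (Fin 2) F :=
  ⟨!![1 - w 0 * w 1, w 0 ^ 2; -(w 1) ^ 2, 1 + w 0 * w 1], by rw [det_fin_two_of]; ring⟩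

theorem tv_mulVec (w v : Fin 2 → F) :
    (tv w : Matrix (Fin 2) (Fin 2) F) *ᵥ v = v + (w 0 * v 1 - w 1 * v 0) • w := by
  funext i
  fin_cases i
  · simp [tv, mulVec, dotProduct, Fin.sum_univ_two]; ring
  · simp [tv, mulVec, dotProduct, Fin.sum_univ_two]; ring

theorem tv_right {w : Fin 2 → F} (hw : w ≠ 0) (v : Fin 2 → F) (c : F)
    (h : (tv w : Matrix (Fin 2) (Fin 2) F) *ᵥ v = c • v) : ∃ c' : F, v = c' • w := by
  rw [tv_mulVec] at h
  set D := w 0 * v 1 - w 1 * v 0 with hD
  have h0 := congrFun h 0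
  have h1 := congrFun h 1
  simp only [Pi.add_apply, Pi.smul_apply, smul_eq_mul] at h0 h1
  by_cases hc : c = 1
  · subst hc
    have hD0 : D = 0 := by
      by_contra hne
      apply hw
      funext i
      fin_cases i
      · have : D * w 0 = 0 := by linear_combination h0
        simpa [hne] using this
      · have : D * w 1 = 0 := by linear_combination h1
        simpa [hne] using this
    by_cases hw0 : w 0 = 0
    · have hw1 : w 1 ≠ 0 := by
        intro hw1
        apply hw
        funext i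
        fin_cases i
        · exact hw0
        · exact hw1
      refine ⟨v 1 / w 1, ?_⟩
      funext i
      fin_cases i
      · have : w 1 * v 0 = 0 := by rw [hD, hw0] at hD0; linear_combination -hD0
        have hv0 : v 0 = 0 := (mul_eq_zero.mp this).resolve_left hw1
        simp [hv0, hw0]
      · simp; field_simp
    · refine ⟨v 0 / w 0, ?_⟩
      funext i
      fin_cases i
      · simp; field_simp
      · simp; field_simp; rw [hD] at hD0; linear_combination hD0
  · have hc' : c - 1 ≠ 0 := sub_ne_zero.mpr hc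
    refine ⟨D / (c - 1), ?_⟩
    funext i
    fin_cases i
    · simp; field_simp; linear_combination -h0
    · simp; field_simp; linear_combination -h1

theorem tv_mem_Bor (w : Fin 2 → F) : SpecialLinearGroup.toGL (tv w) ∈ Bor w := by
  refine ⟨1, ?_⟩
  show (tv w : Matrix (Fin 2) (Fin 2) F) *ᵥ w = _
  rw [tv_mulVec]
  simp [mul_comm]

theorem tv_pow (w : Fin 2 → F) (k : ℕ) :
    ((tv w : Matrix (Fin 2) (Fin 2) F)) ^ k =
      !![1 - k * (w 0 * w 1), k * w 0 ^ 2; -(k * (w 1) ^ 2), 1 + k * (w 0 * w 1)] := by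
  induction k with
  | zero => ext i j; fin_cases i <;> fin_cases j <;> simp
  | succ k ih =>
    rw [pow_succ, ih]
    ext i j
    fin_cases i <;> fin_cases j <;> simp [tv, Matrix.mul_apply, Fin.sum_univ_two] <;> ring

theorem tv_pow_char (w : Fin 2 → F) (p : ℕ) [CharP F p] :
    (SpecialLinearGroup.toGL (tv w)) ^ p = 1 := by
  apply Units.ext
  rw [Units.val_pow_eq_pow_val]
  show ((tv w : Matrix (Fin 2) (Fin 2) F)) ^ p = 1
  rw [tv_pow]
  ext i j
  fin_cases i <;> fin_cases j <;> simp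

theorem not_le_Bor {H : Subgroup (GL (Fin 2) F)}
    (hH : (SpecialLinearGroup.toGL : SpecialLinearGroup (Fin 2) F →* GL (Fin 2) F).range ≤ H)
    {w : Fin 2 → F} (hw : w ≠ 0) : ¬ H ≤ Bor w := by
  intro hle
  have h0 : SpecialLinearGroup.toGL (tv (Pi.single 0 1 : Fin 2 → F)) ∈ Bor w := hle (hH ⟨_, rfl⟩)
  have h1 : SpecialLinearGroup.toGL (tv (Pi.single 1 1 : Fin 2 → F)) ∈ Bor w := hle (hH ⟨_, rfl⟩)
  obtain ⟨c, hc⟩ := h0
  obtain ⟨c', hc'⟩ := h1
  obtain ⟨a, ha⟩ := tv_right (w := (Pi.single 0 1 : Fin 2 → F))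
    (by intro e; simpa using congrFun e 0) w c hc
  obtain ⟨b, hb⟩ := tv_right (w := (Pi.single 1 1 : Fin 2 → F))
    (by intro e; simpa using congrFun e 1) w c' hc'
  apply hw
  funext i
  fin_cases i
  · rw [hb]; simp
  · rw [ha]; simp

theorem mem_center_of_scalar {g : GL (Fin 2) F} {c : F}
    (h : (g : Matrix (Fin 2) (Fin 2) F) = c • (1 : Matrix (Fin 2) (Fin 2) F)) :
    g ∈ center (GL (Fin 2) F) := by
  rw [mem_center_iff]
  intro x
  apply Units.ext
  rw [Units.val_mul, Units.val_mul, h]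
  simp

theorem nil_le_Bor {X : Subgroup (GL (Fin 2) F)} (hX : Group.IsNilpotent ↥X) {w : Fin 2 → F}
    (hw : w ≠ 0) (h : SpecialLinearGroup.toGL (tv w) ∈ X) : X ≤ Bor w :=
  le_of_unique_fixed hX h (tv_mem_Bor w) (fun g _ => bor_pair (fun v c hv => tv_right hw v c hv) g)

end Cfsg.Agent.Lib.Helper68GL2
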