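import Mathlib
import Cfsg.Agent.Lib.Helper68Nil
import Cfsg.Agent.Lib.Helper68GL
import Cfsg.Agent.Lib.Helper68GLn
import Cfsg.Agent.Lib.Helper68GL2

set_option autoImplicit false

namespace Cfsg.Agent.Lib.Helper68GL2A

open Matrix Subgroup Cfsg.Agent.Lib.Helper68Nil Cfsg.Agent.Lib.Helper68GL
  Cfsg.Agent.Lib.Helper68GLn Cfsg.Agent.Lib.Helper68GL2

variable {F : Type*} [Field F]

/-- the diagonal element `diag(a, a⁻¹)` -/
def dg (a : F) (ha : a ≠ 0) : SpecialLinearGroup (Fin 2) F :=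
  ⟨!![a, 0; 0, a⁻¹], by rw [det_fin_two_of]; field_simp; ring⟩

theorem dg_pow (a : F) (ha : a ≠ 0) (k : ℕ) :
    ((dg a ha : Matrix (Fin 2) (Fin 2) F)) ^ k = !![a ^ k, 0; 0, (a⁻¹) ^ k] := by
  induction k with
  | zero => ext i j; fin_cases i <;> fin_cases j <;> simp
  | succ k ih =>
    rw [pow_succ, ih]
    ext i j
    fin_cases i <;> fin_cases j <;> simp [dg, Matrix.mul_apply, Fin.sum_univ_two, pow_succ]

theorem dg_pow_eq_one (a : F) (ha : a ≠ 0) (r : ℕ) (har : a ^ r = 1) :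
    (SpecialLinearGroup.toGL (dg a ha)) ^ r = 1 := by
  apply Units.ext
  rw [Units.val_pow_eq_pow_val]
  show ((dg a ha : Matrix (Fin 2) (Fin 2) F)) ^ r = 1
  rw [dg_pow, inv_pow, har]
  ext i j
  fin_cases i <;> fin_cases j <;> simp

theorem entry_mul (A B : GL (Fin 2) F) (i j : Fin 2) :
    (A * B) i j = A i 0 * B 0 j + A i 1 * B 1 j := by
  show ((A : Matrix (Fin 2) (Fin 2) F) * (B : Matrix (Fin 2) (Fin 2) F)) i j = _
  rw [Matrix.mul_apply, Fin.sum_univ_two]

theorem det_ne (g : GL (Fin 2) F) : g 0 0 * g 1 1 - g 0 1 * g 1 0 ≠ 0 := by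
  have := GeneralLinearGroup.det_ne_zero g
  rwa [det_fin_two] at this

/-- a nilpotent subgroup containing `diag(a,a⁻¹)`, `a` of odd order, is diagonal -/
theorem nil_le_of_dg {X : Subgroup (GL (Fin 2) F)} (hX : Group.IsNilpotent ↥X) {a : F} (ha : a ≠ 0)
    {r : ℕ} (hr : Odd r) (har : a ^ r = 1) (ha2 : a ≠ a⁻¹)
    (h : SpecialLinearGroup.toGL (dg a ha) ∈ X) :
    X ≤ Bor (Pi.single 0 1 : Fin 2 → F) ⊓ Bor (Pi.single 1 1 : Fin 2 → F) := by
  set d : GL (Fin 2) F := SpecialLinearGroup.toGL (dg a ha) with hd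
  have d00 : d 0 0 = a := rfl
  have d01 : d 0 1 = 0 := rfl
  have d10 : d 1 0 = 0 := rfl
  have d11 : d 1 1 = a⁻¹ := rfl
  have memM : ∀ g : GL (Fin 2) F,
      g ∈ Bor (Pi.single 0 1 : Fin 2 → F) ⊓ Bor (Pi.single 1 1 : Fin 2 → F) ↔
        g 1 0 = 0 ∧ g 0 1 = 0 := by
    intro g
    rw [mem_inf, mem_Bor_single, mem_Bor_single]
    constructor
    · rintro ⟨h1, h2⟩
      exact ⟨h1 1 (by decide), h2 0 (by decide)⟩
    · rintro ⟨h1, h2⟩
      constructor
      · intro i hi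
        fin_cases i
        · exact absurd rfl hi
        · exact h1
      · intro i hi
        fin_cases i
        · exact h2
        · exact absurd rfl hi
  have hsub : a - a⁻¹ ≠ 0 := sub_ne_zero.mpr ha2
  apply le_of_unique_fixed hX h ((memM d).mpr ⟨d10, d01⟩)
  intro g hgX hg
  set d' := g⁻¹ * d * g with hd'
  have e : g * d' = d * g := by rw [hd']; group
  obtain ⟨e10, e01⟩ := (memM d').mp hg
  have E00 := congrArg (fun A : GL (Fin 2) F => A 0 0) e
  have E01 := congrArg (fun A : GL (Fin 2) F => A 0 1) e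
  have E10 := congrArg (fun A : GL (Fin 2) F => A 1 0) e
  have E11 := congrArg (fun A : GL (Fin 2) F => A 1 1) e
  simp only [entry_mul, e10, e01, d00, d01, d10, d11, mul_zero, zero_mul, add_zero, zero_add]
    at E00 E01 E10 E11
  have hdet := det_ne g
  rw [memM]
  by_cases hx : g 0 0 = 0
  · exfalso
    rw [hx, zero_mul, zero_sub, neg_ne_zero] at hdet
    have hy : g 0 1 ≠ 0 := left_ne_zero_of_mul hdet
    have hz : g 1 0 ≠ 0 := right_ne_zero_of_mul hdet
    have hβ : d' 1 1 = a := by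
      apply mul_left_cancel₀ hy; rw [E01]; ring
    have hw : g 1 1 = 0 := by
      rw [hβ] at E11
      have : g 1 1 * (a - a⁻¹) = 0 := by linear_combination E11
      exact (mul_eq_zero.mp this).resolve_right hsub
    have hgg : g ^ 2 ∈ center (GL (Fin 2) F) := by
      apply mem_center_of_scalar (c := g 0 1 * g 1 0)
      rw [pow_two]
      ext i j
      have := entry_mul g g i j
      fin_cases i <;> fin_cases j <;> simp_all
      ring
    have hdr : d ^ r ∈ center (GL (Fin 2) F) := by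
      rw [hd, dg_pow_eq_one a ha r har]; exact one_mem _
    have hcomm := mul_comm_of_coprime_pow hX hgX h
      (Nat.coprime_two_left.mpr hr) hgg hdr
    have C01 := congrArg (fun A : GL (Fin 2) F => A 0 1) hcomm
    simp only [entry_mul, d00, d01, d10, d11, hx, hw, mul_zero, zero_mul, add_zero, zero_add] at C01
    apply ha2
    apply mul_left_cancel₀ hy
    rw [C01]; ring
  · have hα : d' 0 0 = a := by
      apply mul_left_cancel₀ hx; rw [E00]; ring
    have hz : g 1 0 = 0 := by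
      rw [hα] at E10
      have : g 1 0 * (a - a⁻¹) = 0 := by linear_combination E10
      exact (mul_eq_zero.mp this).resolve_right hsub
    refine ⟨hz, ?_⟩
    rw [hz, mul_zero, sub_zero] at hdet
    have hw : g 1 1 ≠ 0 := right_ne_zero_of_mul hdet
    have hβ : d' 1 1 = a⁻¹ := by
      apply mul_left_cancel₀ hw; rw [E11]; ring
    rw [hβ] at E01
    have : g 0 1 * (a - a⁻¹) = 0 := by linear_combination -E01
    exact (mul_eq_zero.mp this).resolve_right hsub

theorem caseA {Z H : Subgroup (GL (Fin 2) F)}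
    (hH : (SpecialLinearGroup.toGL : SpecialLinearGroup (Fin 2) F →* GL (Fin 2) F).range ≤ H)
    {𝓧 : Finset (Subgroup (GL (Fin 2) F))} (h : IsNilMinCov Z H 𝓧)
    {a : F} (ha : a ≠ 0) {r : ℕ} (hr : Odd r) (har : a ^ r = 1) (ha2 : a ≠ a⁻¹)
    (p : ℕ) [CharP F p] (hpr : p.Coprime r) : False := by
  have he0 : (Pi.single 0 1 : Fin 2 → F) ≠ 0 := by intro e; simpa using congrFun e 0
  obtain ⟨X, hXn, huX, hdX⟩ := exists_common h (not_le_Bor hH he0)
    (x := SpecialLinearGroup.toGL (tv (Pi.single 0 1 : Fin 2 → F)))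
    (x' := SpecialLinearGroup.toGL (dg a ha)) (hH ⟨_, rfl⟩) (hH ⟨_, rfl⟩)
    (fun X hX hx => nil_le_Bor hX he0 hx)
    (fun X hX hx => (nil_le_of_dg hX ha hr har ha2 hx).trans inf_le_left)
  have hcomm := mul_comm_of_coprime_pow hXn huX hdX hpr
    (by rw [tv_pow_char]; exact one_mem _) (by rw [dg_pow_eq_one a ha r har]; exact one_mem _)
  have C01 := congrArg (fun A : GL (Fin 2) F => A 0 1) hcomm
  simp only [entry_mul] at C01
  have t00 : (SpecialLinearGroup.toGL (tv (Pi.single 0 1 : Fin 2 → F))) 0 0 = 1 := by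
    show (tv (Pi.single 0 1 : Fin 2 → F) : Matrix (Fin 2) (Fin 2) F) 0 0 = 1
    simp [tv]
  have t01 : (SpecialLinearGroup.toGL (tv (Pi.single 0 1 : Fin 2 → F))) 0 1 = 1 := by
    show (tv (Pi.single 0 1 : Fin 2 → F) : Matrix (Fin 2) (Fin 2) F) 0 1 = 1
    simp [tv]
  have t11 : (SpecialLinearGroup.toGL (tv (Pi.single 0 1 : Fin 2 → F))) 1 1 = 1 := by
    show (tv (Pi.single 0 1 : Fin 2 → F) : Matrix (Fin 2) (Fin 2) F) 1 1 = 1
    simp [tv]
  have d00 : (SpecialLinearGroup.toGL (dg a ha)) 0 0 = a := rfl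
  have d01 : (SpecialLinearGroup.toGL (dg a ha)) 0 1 = 0 := rfl
  have d11 : (SpecialLinearGroup.toGL (dg a ha)) 1 1 = a⁻¹ := rfl
  rw [t00, t01, t11, d00, d01, d11] at C01
  apply ha2
  linear_combination -C01

end Cfsg.Agent.Lib.Helper68GL2A
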