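import Mathlib
import Cfsg.Agent.Lib.Helper68Nil
import Cfsg.Agent.Lib.Helper68GL
import Cfsg.Agent.Lib.Helper68GLn
import Cfsg.Agent.Lib.Helper68GL2
import Cfsg.Agent.Lib.Helper68GL2A

set_option autoImplicit false

namespace Cfsg.Agent.Lib.Helper68GL2B

open Matrix Subgroup Cfsg.Agent.Lib.Helper68Nil Cfsg.Agent.Lib.Helper68GL
  Cfsg.Agent.Lib.Helper68GLn Cfsg.Agent.Lib.Helper68GL2 Cfsg.Agent.Lib.Helper68GL2A

variable {F : Type*} [Field F]

theorem entry10_ne {g : GL (Fin 2) F} (hg : ∀ w : Fin 2 → F, w ≠ 0 → g ∉ Bor w) : g 1 0 ≠ 0 := by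
  intro hz
  apply hg (Pi.single 0 1) (by intro e; simpa using congrFun e 0)
  rw [mem_Bor_single]
  intro i hi
  fin_cases i
  · exact absurd rfl hi
  · exact hz

/-- an element of `GL₂(q)`, `q` odd, without eigenvectors has scalar `(q+1)`-st power -/
theorem pow_card_add_one_mem_center [Fintype F] (hF : ringChar F ≠ 2) (g : GL (Fin 2) F)
    (hg : ∀ w : Fin 2 → F, w ≠ 0 → g ∉ Bor w) :
    g ^ (Fintype.card F + 1) ∈ center (GL (Fin 2) F) := by
  classical
  have h2 : (2 : F) ≠ 0 := Ring.two_ne_zero hF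
  set A : Matrix (Fin 2) (Fin 2) F := (g : Matrix (Fin 2) (Fin 2) F) with hA
  set s : F := (A 0 0 - A 1 1) / 2 with hs
  set t : F := (A 0 0 + A 1 1) / 2 with ht
  set y : F := A 0 1 with hy
  set z : F := A 1 0 with hz
  set c : F := s ^ 2 + y * z with hc
  have hx : A 0 0 = t + s := by rw [hs, ht]; field_simp; ring
  have hw : A 1 1 = t - s := by rw [hs, ht]; field_simp; ring
  set h : Matrix (Fin 2) (Fin 2) F := !![s, y; z, -s] with hh
  have hAh : A = t • (1 : Matrix (Fin 2) (Fin 2) F) + h := by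
    ext i j
    fin_cases i <;> fin_cases j <;> simp [hh, hx, hw, hy, hz]
    ring
  have hhh : h * h = c • (1 : Matrix (Fin 2) (Fin 2) F) := by
    ext i j
    fin_cases i <;> fin_cases j <;> simp [hh, hc, Matrix.mul_apply, Fin.sum_univ_two] <;> ring
  have hz0 : z ≠ 0 := entry10_ne hg
  have hcs : ¬ IsSquare c := by
    rintro ⟨e, he⟩
    apply hg ![s + e, z] (by intro e'; exact hz0 (by simpa using congrFun e' 1))
    refine ⟨t + e, ?_⟩
    funext i
    fin_cases i
    · simp only [mulVec, dotProduct, Fin.sum_univ_two]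
      show A 0 0 * (s + e) + A 0 1 * z = (t + e) * (s + e)
      rw [hx, ← hy]; linear_combination he
    · simp only [mulVec, dotProduct, Fin.sum_univ_two]
      show A 1 0 * (s + e) + A 1 1 * z = (t + e) * z
      rw [hw, ← hz]; ring
  have hc0 : c ≠ 0 := by
    intro h0; apply hcs; rw [h0]; exact ⟨0, by simp⟩
  have hce : c ^ (Fintype.card F / 2) = -1 :=
    (FiniteField.pow_dichotomy hF hc0).resolve_left (fun h1 => hcs ((FiniteField.isSquare_iff hF hc0).mpr h1))
  have hq : Fintype.card F = 2 * (Fintype.card F / 2) + 1 := by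
    have := FiniteField.odd_card_of_char_ne_two hF
    omega
  have hhq : h ^ (Fintype.card F) = -h := by
    conv_lhs => rw [hq]
    rw [pow_succ, pow_mul, pow_two, hhh, smul_pow, one_pow, hce]
    simp
  have hAq : A ^ (Fintype.card F) = t • (1 : Matrix (Fin 2) (Fin 2) F) - h := by
    obtain ⟨p, hp⟩ := CharP.exists F
    obtain ⟨k, hpp, hk⟩ := FiniteField.card F p
    haveI : Fact p.Prime := ⟨hpp⟩
    have hcomm : Commute (t • (1 : Matrix (Fin 2) (Fin 2) F)) h := by
      rw [commute_iff_eq]; simp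
    have e1 : (t • (1 : Matrix (Fin 2) (Fin 2) F) + h) ^ (p ^ (k : ℕ))
        = (t • (1 : Matrix (Fin 2) (Fin 2) F)) ^ (p ^ (k : ℕ)) + h ^ (p ^ (k : ℕ)) :=
      add_pow_char_pow_of_commute p k hcomm
    rw [← hk] at e1
    rw [hAh, e1, hhq, smul_pow, one_pow, FiniteField.pow_card, sub_eq_add_neg]
  apply mem_center_of_scalar (c := t ^ 2 - c)
  rw [Units.val_pow_eq_pow_val]
  show A ^ (Fintype.card F + 1) = _
  rw [pow_succ, hAq]
  conv_lhs => rw [hAh]
  rw [sub_mul, mul_add, mul_add, hhh]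
  simp only [smul_mul_assoc, one_mul, mul_smul_comm, mul_one, smul_smul]
  rw [sub_smul, pow_two]
  abel

theorem diag_of_nil {X : Subgroup (GL (Fin 2) F)} (hX : Group.IsNilpotent ↥X) {a : F} (ha : a ≠ 0)
    (ha2 : a ≠ a⁻¹) (hd : SpecialLinearGroup.toGL (dg a ha) ∈ X) {x : GL (Fin 2) F} (hx : x ∈ X)
    {k m : ℕ} (hkm : k.Coprime m) (hdk : (SpecialLinearGroup.toGL (dg a ha)) ^ k ∈ center (GL (Fin 2) F))
    (hxm : x ^ m ∈ center (GL (Fin 2) F)) : x 1 0 = 0 ∧ x 0 1 = 0 := by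
  have hcomm := mul_comm_of_coprime_pow hX hd hx hkm hdk hxm
  have d00 : (SpecialLinearGroup.toGL (dg a ha)) 0 0 = a := rfl
  have d01 : (SpecialLinearGroup.toGL (dg a ha)) 0 1 = 0 := rfl
  have d10 : (SpecialLinearGroup.toGL (dg a ha)) 1 0 = 0 := rfl
  have d11 : (SpecialLinearGroup.toGL (dg a ha)) 1 1 = a⁻¹ := rfl
  have hsub : a - a⁻¹ ≠ 0 := sub_ne_zero.mpr ha2
  have C01 := congrArg (fun A : GL (Fin 2) F => A 0 1) hcomm
  have C10 := congrArg (fun A : GL (Fin 2) F => A 1 0) hcomm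
  simp only [entry_mul, d00, d01, d10, d11, mul_zero, zero_mul, add_zero, zero_add] at C01 C10
  constructor
  · have : x 1 0 * (a - a⁻¹) = 0 := by linear_combination -C10
    exact (mul_eq_zero.mp this).resolve_right hsub
  · have : x 0 1 * (a - a⁻¹) = 0 := by linear_combination C01
    exact (mul_eq_zero.mp this).resolve_right hsub

theorem sq_mem {H : Subgroup (GL (Fin 2) F)}
    (hH : (SpecialLinearGroup.toGL : SpecialLinearGroup (Fin 2) F →* GL (Fin 2) F).range ≤ H)
    (hZH : center (GL (Fin 2) F) ≤ H) (y : GL (Fin 2) F) : y * y ∈ H := by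
  set Y : Matrix (Fin 2) (Fin 2) F := (y : Matrix (Fin 2) (Fin 2) F) with hY
  have hdet : Y.det ≠ 0 := GeneralLinearGroup.det_ne_zero y
  let σ : SpecialLinearGroup (Fin 2) F := ⟨(Y.det)⁻¹ • (Y * Y), by
    rw [det_smul, det_mul, Fintype.card_fin]; field_simp⟩
  let z : GL (Fin 2) F := GeneralLinearGroup.mkOfDetNeZero (Y.det • (1 : Matrix (Fin 2) (Fin 2) F)) (by
    rw [det_smul, det_one, Fintype.card_fin]; simp [hdet])
  have hz : z ∈ center (GL (Fin 2) F) := mem_center_of_scalar (c := Y.det) rfl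
  have e : y * y = z * SpecialLinearGroup.toGL σ := by
    apply Units.ext
    show Y * Y = (Y.det • (1 : Matrix (Fin 2) (Fin 2) F)) * ((Y.det)⁻¹ • (Y * Y))
    rw [smul_mul_assoc, one_mul, smul_smul, mul_inv_cancel₀ hdet, one_smul]
  rw [e]
  exact mul_mem (hZH hz) (hH ⟨_, rfl⟩)

end Cfsg.Agent.Lib.Helper68GL2B
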