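import Mathlib
import Cfsg.Agent.Lib.Helper68Nil
import Cfsg.Agent.Lib.Helper68GL
import Cfsg.Agent.Lib.Helper68GLn
import Cfsg.Agent.Lib.Helper68GL2
import Cfsg.Agent.Lib.Helper68GL2A
import Cfsg.Agent.Lib.Helper68GL2B

set_option autoImplicit false

namespace Cfsg.Agent.Lib.Helper68GL2C

open Matrix Subgroup Cfsg.Agent.Lib.Helper68Nil Cfsg.Agent.Lib.Helper68GL
  Cfsg.Agent.Lib.Helper68GLn Cfsg.Agent.Lib.Helper68GL2 Cfsg.Agent.Lib.Helper68GL2A
  Cfsg.Agent.Lib.Helper68GL2B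

variable {F : Type*} [Field F] [Fintype F]

theorem caseB (hF : ringChar F ≠ 2) {m : ℕ} (hm : Odd m) (hqm : Fintype.card F + 1 = 2 * m)
    {i : F} (hi : i * i = -1)
    {H : Subgroup (GL (Fin 2) F)}
    (hH : (SpecialLinearGroup.toGL : SpecialLinearGroup (Fin 2) F →* GL (Fin 2) F).range ≤ H)
    (hZH : center (GL (Fin 2) F) ≤ H)
    {𝓧 : Finset (Subgroup (GL (Fin 2) F))} (h : IsNilMinCov (center (GL (Fin 2) F)) H 𝓧) :
    False := by
  classical
  have h2 : (2 : F) ≠ 0 := Ring.two_ne_zero hF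
  have hi0 : i ≠ 0 := by
    intro e; rw [e, mul_zero] at hi
    exact neg_ne_zero.mpr one_ne_zero hi.symm
  have hinv : i⁻¹ = -i := by
    apply mul_left_cancel₀ hi0
    rw [mul_inv_cancel₀ hi0, mul_neg, hi, neg_neg]
  have hi2 : i ≠ i⁻¹ := by
    rw [hinv]
    intro e
    have : (2 : F) * i = 0 := by linear_combination e
    exact (mul_ne_zero h2 hi0) this
  set d : GL (Fin 2) F := SpecialLinearGroup.toGL (dg i hi0) with hd
  have hd2 : d ^ 2 ∈ center (GL (Fin 2) F) := by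
    apply mem_center_of_scalar (c := -1)
    rw [Units.val_pow_eq_pow_val]
    show ((dg i hi0 : Matrix (Fin 2) (Fin 2) F)) ^ 2 = _
    rw [dg_pow, hinv]
    ext a b
    fin_cases a <;> fin_cases b <;> simp [pow_two, hi]
  obtain ⟨Xd, hXd, hdXd⟩ := h.1.2 d (hH ⟨_, rfl⟩)
  have hXdn := h.2.2 Xd hXd
  -- the key consequence of nilpotency
  have K3 : ∀ y : GL (Fin 2) F, (∀ w : Fin 2 → F, w ≠ 0 → y ∉ Bor w) → y * y ∈ Xd →
      y 0 0 + y 1 1 = 0 := by
    intro y hy hyy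
    have h1 : (y * y) ^ m ∈ center (GL (Fin 2) F) := by
      rw [← pow_two, ← pow_mul, ← hqm]
      exact pow_card_add_one_mem_center hF y hy
    have h3 := (diag_of_nil hXdn hi0 hi2 hdXd hyy (Nat.coprime_two_left.mpr hm) hd2 h1).1
    rw [entry_mul] at h3
    have : y 1 0 * (y 0 0 + y 1 1) = 0 := by linear_combination h3
    exact (mul_eq_zero.mp this).resolve_left (entry10_ne hy)
  let φ : Subgroup (GL (Fin 2) F) → Subgroup (GL (Fin 2) F) := fun Y =>
    if h : ∃ w : Fin 2 → F, w ≠ 0 ∧ Y ≤ Bor w then Bor h.choose else Y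
  have hφ : ∀ X ∈ 𝓧, X ≤ φ X ∧ ¬ H ≤ φ X := by
    intro X hX
    by_cases hw : ∃ w : Fin 2 → F, w ≠ 0 ∧ X ≤ Bor w
    · simp only [φ, dif_pos hw]
      exact ⟨hw.choose_spec.2, not_le_Bor hH hw.choose_spec.1⟩
    · simp only [φ, dif_neg hw]
      exact ⟨le_refl _, (h.1.1 X hX).2⟩
  obtain ⟨g, hgH, hgXd, hg⟩ := exchange h φ hφ hXd
  -- `g` has no eigenvector
  have hnoeig : ∀ w : Fin 2 → F, w ≠ 0 → g ∉ Bor w := by
    intro w hw hgw
    obtain ⟨Xw, hXw, htXw⟩ := h.1.2 (SpecialLinearGroup.toGL (tv w)) (hH ⟨_, rfl⟩)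
    have hXwn := h.2.2 Xw hXw
    have hle : Xw ≤ Bor w := nil_le_Bor hXwn hw htXw
    have hne : Xw ≠ Xd := by
      intro e
      rw [e] at htXw
      have hpodd : Odd (ringChar F) :=
        (CharP.char_is_prime F (ringChar F)).odd_of_ne_two hF
      have h3 := diag_of_nil hXdn hi0 hi2 hdXd htXw (Nat.coprime_two_left.mpr hpodd) hd2
        (by rw [tv_pow_char w (ringChar F)]; exact one_mem _)
      have a1 : -(w 1) ^ 2 = 0 := h3.1
      have a2 : (w 0) ^ 2 = 0 := h3.2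
      apply hw
      funext j
      fin_cases j
      · simpa using a2
      · simpa using a1
    have hex : ∃ w' : Fin 2 → F, w' ≠ 0 ∧ Xw ≤ Bor w' := ⟨w, hw, hle⟩
    apply hg Xw hXw hne
    simp only [φ, dif_pos hex]
    obtain ⟨c, hc⟩ := hex.choose_spec.2 htXw
    obtain ⟨c', hc'⟩ := tv_right hw _ c hc
    obtain ⟨l, hl⟩ := hgw
    refine ⟨l, ?_⟩
    rw [hc', mulVec_smul, hl, smul_comm]
  have htr : g 0 0 + g 1 1 = 0 := K3 g hnoeig (mul_mem hgXd hgXd)
  -- the element `1 + g`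
  set A : Matrix (Fin 2) (Fin 2) F := (g : Matrix (Fin 2) (Fin 2) F) with hA
  have hdet : (1 + A).det ≠ 0 := by
    intro h0
    obtain ⟨v, hv, hv0⟩ := Matrix.exists_mulVec_eq_zero_iff.mpr h0
    apply hnoeig v hv
    refine ⟨-1, ?_⟩
    rw [add_mulVec, one_mulVec] at hv0
    rw [neg_smul, one_smul]
    exact eq_neg_of_add_eq_zero_right hv0
  set y : GL (Fin 2) F := GeneralLinearGroup.mkOfDetNeZero (1 + A) hdet with hy
  have hyA : (y : Matrix (Fin 2) (Fin 2) F) = 1 + A := rfl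
  have hynoeig : ∀ w : Fin 2 → F, w ≠ 0 → y ∉ Bor w := by
    rintro w hw ⟨c, hc⟩
    apply hnoeig w hw
    refine ⟨c - 1, ?_⟩
    rw [hyA, add_mulVec, one_mulVec] at hc
    rw [sub_smul, one_smul, ← hc]; abel
  have hcomm : Commute g y := by
    rw [commute_iff_eq]
    apply Units.ext
    show A * (1 + A) = (1 + A) * A
    rw [mul_add, add_mul, mul_one, one_mul]
  have hg2 : g ^ 2 ∈ center (GL (Fin 2) F) := by
    apply mem_center_of_scalar (c := g 0 0 * g 0 0 + g 0 1 * g 1 0)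
    rw [pow_two]
    have h11 : g 1 1 = - g 0 0 := by linear_combination htr
    ext a b
    have := entry_mul g g a b
    fin_cases a <;> fin_cases b <;> simp_all <;> ring
  set s : GL (Fin 2) F := g * (y * y) with hs
  have hsH : s ∈ H := mul_mem hgH (sq_mem hH hZH y)
  obtain ⟨Xs, hXs, hsXs⟩ := h.1.2 s hsH
  obtain ⟨k, hk⟩ := hm
  have hy1 : (y * y) ^ m ∈ center (GL (Fin 2) F) := by
    rw [← pow_two, ← pow_mul, ← hqm]
    exact pow_card_add_one_mem_center hF y hynoeig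
  have hsm : s ^ m = g * ((g ^ 2) ^ k * (y * y) ^ m) := by
    rw [hs, (hcomm.mul_right hcomm).mul_pow]
    have e : g ^ m = g * (g ^ 2) ^ k := by rw [hk, pow_succ', pow_mul]
    rw [e, mul_assoc]
  have hgXs : g ∈ Xs := by
    have e : g = s ^ m * ((g ^ 2) ^ k * (y * y) ^ m)⁻¹ := by rw [hsm]; group
    rw [e]
    exact mul_mem (pow_mem hsXs m)
      (inv_mem ((h.1.1 Xs hXs).1 (mul_mem (pow_mem hg2 k) hy1)))
  have hXsd : Xs = Xd := by
    by_contra hne
    exact hg Xs hXs hne ((hφ Xs hXs).1 hgXs)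
  have hyyXd : y * y ∈ Xd := by
    have e : y * y = g⁻¹ * s := by rw [hs]; group
    rw [e]
    exact mul_mem (inv_mem hgXd) (hXsd ▸ hsXs)
  have := K3 y hynoeig hyyXd
  have y00 : y 0 0 = 1 + g 0 0 := by
    show (1 + A) 0 0 = _
    simp [hA]
  have y11 : y 1 1 = 1 + g 1 1 := by
    show (1 + A) 1 1 = _
    simp [hA]
  rw [y00, y11] at this
  apply h2
  linear_combination this - htr

end Cfsg.Agent.Lib.Helper68GL2C
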