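import Mathlib
import Cfsg.Agent.Lib.Helper69AltCover

set_option autoImplicit false

/-!
The triple cover of the alternating group of degree seven as a permutation group on 63 points.
-/

namespace Cfsg.Agent.Lib.Helper69TripleA7

open Cfsg Cfsg.Agent.Lib.Helper69AltCover
open scoped commutatorElement

/-- a map given by a table -/
def tab (l : List ℕ) (i : Fin 63) : Fin 63 := Fin.ofNat 63 (l.getD i.val 0)

def x0l : List ℕ := [5, 8, 12, 1, 0, 4, 18, 6, 3, 2, 15, 10, 9, 27, 13, 11, 17, 31, 7, 20, 26, 41, 21, 24, 34, 28, 19, 14, 32, 38, 29, 16, 25, 33, 23, 42, 45, 37, 30, 36, 47, 22, 50, 46, 43, 39, 44, 48, 40, 49, 35, 56, 54, 52, 53, 51, 55, 59, 57, 58, 60, 61, 62]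

def x0r : List ℕ := [4, 3, 9, 8, 5, 0, 7, 18, 1, 12, 11, 15, 2, 14, 27, 10, 31, 16, 6, 26, 19, 22, 41, 34, 23, 32, 20, 13, 25, 30, 38, 17, 28, 33, 24, 50, 39, 37, 29, 45, 48, 21, 35, 44, 46, 36, 43, 40, 47, 49, 42, 55, 53, 54, 52, 56, 51, 58, 59, 57, 60, 61, 62]

def x0 : Equiv.Perm (Fin 63) :=
  ⟨tab x0l, tab x0r, by intro i; revert i; decide +kernel, by intro i; revert i; decide +kernel⟩

def x1l : List ℕ := [0, 1, 2, 10, 6, 7, 4, 5, 11, 13, 3, 8, 14, 9, 12, 15, 17, 16, 18, 20, 19, 23, 29, 21, 30, 28, 37, 27, 25, 22, 24, 33, 49, 31, 46, 36, 35, 26, 44, 40, 39, 43, 48, 41, 38, 54, 34, 52, 42, 32, 53, 51, 47, 50, 45, 55, 56, 57, 58, 59, 60, 61, 62]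

def x1r : List ℕ := [0, 1, 2, 10, 6, 7, 4, 5, 11, 13, 3, 8, 14, 9, 12, 15, 17, 16, 18, 20, 19, 23, 29, 21, 30, 28, 37, 27, 25, 22, 24, 33, 49, 31, 46, 36, 35, 26, 44, 40, 39, 43, 48, 41, 38, 54, 34, 52, 42, 32, 53, 51, 47, 50, 45, 55, 56, 57, 58, 59, 60, 61, 62]

def x1 : Equiv.Perm (Fin 63) :=
  ⟨tab x1l, tab x1r, by intro i; revert i; decide +kernel, by intro i; revert i; decide +kernel⟩

def x2l : List ℕ := [0, 1, 2, 8, 5, 4, 19, 20, 3, 12, 16, 17, 9, 25, 28, 31, 10, 11, 26, 6, 7, 22, 21, 24, 23, 13, 18, 32, 14, 30, 29, 15, 27, 33, 34, 42, 39, 37, 38, 36, 48, 41, 35, 56, 55, 45, 51, 47, 40, 49, 50, 46, 59, 58, 57, 44, 43, 54, 53, 52, 60, 61, 62]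

def x2r : List ℕ := [0, 1, 2, 8, 5, 4, 19, 20, 3, 12, 16, 17, 9, 25, 28, 31, 10, 11, 26, 6, 7, 22, 21, 24, 23, 13, 18, 32, 14, 30, 29, 15, 27, 33, 34, 42, 39, 37, 38, 36, 48, 41, 35, 56, 55, 45, 51, 47, 40, 49, 50, 46, 59, 58, 57, 44, 43, 54, 53, 52, 60, 61, 62]

def x2 : Equiv.Perm (Fin 63) :=
  ⟨tab x2l, tab x2r, by intro i; revert i; decide +kernel, by intro i; revert i; decide +kernel⟩

def x3l : List ℕ := [0, 1, 2, 12, 8, 9, 11, 13, 4, 5, 14, 6, 3, 7, 10, 15, 29, 22, 18, 21, 23, 19, 17, 20, 25, 24, 38, 27, 30, 16, 28, 34, 41, 46, 31, 36, 35, 44, 26, 40, 39, 32, 48, 49, 37, 45, 33, 47, 42, 43, 50, 51, 52, 53, 54, 55, 56, 62, 61, 60, 59, 58, 57]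

def x3r : List ℕ := [0, 1, 2, 12, 8, 9, 11, 13, 4, 5, 14, 6, 3, 7, 10, 15, 29, 22, 18, 21, 23, 19, 17, 20, 25, 24, 38, 27, 30, 16, 28, 34, 41, 46, 31, 36, 35, 44, 26, 40, 39, 32, 48, 49, 37, 45, 33, 47, 42, 43, 50, 51, 52, 53, 54, 55, 56, 62, 61, 60, 59, 58, 57]

def x3 : Equiv.Perm (Fin 63) :=
  ⟨tab x3l, tab x3r, by intro i; revert i; decide +kernel, by intro i; revert i; decide +kernel⟩

def x4l : List ℕ := [0, 1, 2, 8, 5, 4, 7, 6, 3, 12, 11, 10, 9, 14, 13, 15, 17, 16, 18, 20, 19, 39, 36, 40, 48, 28, 26, 27, 25, 35, 42, 31, 32, 33, 47, 29, 22, 37, 50, 21, 23, 45, 30, 54, 53, 41, 52, 34, 24, 49, 38, 59, 46, 44, 43, 58, 57, 56, 55, 51, 60, 61, 62]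

def x4r : List ℕ := [0, 1, 2, 8, 5, 4, 7, 6, 3, 12, 11, 10, 9, 14, 13, 15, 17, 16, 18, 20, 19, 39, 36, 40, 48, 28, 26, 27, 25, 35, 42, 31, 32, 33, 47, 29, 22, 37, 50, 21, 23, 45, 30, 54, 53, 41, 52, 34, 24, 49, 38, 59, 46, 44, 43, 58, 57, 56, 55, 51, 60, 61, 62]

def x4 : Equiv.Perm (Fin 63) :=
  ⟨tab x4l, tab x4r, by intro i; revert i; decide +kernel, by intro i; revert i; decide +kernel⟩

def zzl : List ℕ := [2, 0, 1, 4, 9, 12, 13, 14, 5, 3, 6, 7, 8, 10, 11, 18, 19, 20, 27, 25, 28, 24, 23, 30, 29, 16, 32, 15, 17, 21, 22, 26, 31, 37, 38, 39, 40, 49, 41, 48, 42, 34, 36, 46, 43, 47, 44, 50, 35, 33, 45, 55, 53, 54, 52, 56, 51, 59, 57, 58, 61, 62, 60]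

def zzr : List ℕ := [1, 2, 0, 9, 3, 8, 10, 11, 12, 4, 13, 14, 5, 6, 7, 27, 25, 28, 15, 16, 17, 29, 30, 22, 21, 19, 31, 18, 20, 24, 23, 32, 26, 49, 41, 48, 42, 33, 34, 35, 36, 38, 40, 44, 46, 50, 43, 45, 39, 37, 47, 56, 54, 52, 53, 51, 55, 58, 59, 57, 62, 60, 61]

def zz : Equiv.Perm (Fin 63) :=
  ⟨tab zzl, tab zzr, by intro i; revert i; decide +kernel, by intro i; revert i; decide +kernel⟩

theorem zz_pow : zz ^ 3 = 1 := by decide +kernel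
theorem zz_ne : zz ≠ 1 := by decide +kernel
theorem orderOf_zz : orderOf zz = 3 := orderOf_eq_prime zz_pow zz_ne

/-- the five generators -/
def xs : ℕ → Equiv.Perm (Fin 63)
  | 0 => x0
  | 1 => x1
  | 2 => x2
  | 3 => x3
  | _ => x4

theorem xs_comm : ∀ i : Fin 5, zz * xs i.val = xs i.val * zz := by decide +kernel
theorem xs_zero : xs 0 ^ 3 = 1 := by decide +kernel
theorem xs_sq : ∀ i : Fin 5, 1 ≤ i.val → xs i.val ^ 2 = 1 := by decide +kernel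
theorem xs_adj : ∀ i : Fin 4, (xs i.val * xs (i.val + 1)) ^ 3 = 1 := by decide +kernel
theorem xs_far : ∀ i j : Fin 5, i.val + 1 < j.val →
    (xs i.val * xs j.val) ^ 2 = 1 ∨ (xs i.val * xs j.val) ^ 2 = zz := by decide +kernel
theorem xs_witness : ⁅xs 0, xs 2 * xs 3⁆ = zz⁻¹ := by decide +kernel
theorem xs_one_ne : xs 1 ≠ 1 ∧ xs 1 ≠ zz ∧ xs 1 ≠ zz⁻¹ := by decide +kernel

/-- the family of generators -/
def X (n : ℕ) (i : Fin (n - 2)) : Equiv.Perm (Fin 63) := xs i.val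

/-- the central subgroup -/
def Z : Subgroup (Equiv.Perm (Fin 63)) := Subgroup.zpowers zz

theorem hZX (n : ℕ) (hn : n ≤ 7) : ∀ z ∈ Z, ∀ i, z * X n i = X n i * z := by
  intro z hz i
  obtain ⟨k, rfl⟩ := Subgroup.mem_zpowers_iff.1 hz
  have h : Commute zz (X n i) := xs_comm ⟨i.val, by omega⟩
  exact (h.zpow_left k)

theorem hZZ : ∀ z ∈ Z, ∀ w ∈ Z, z * w = w * z := by
  intro z hz w hw
  obtain ⟨k, rfl⟩ := Subgroup.mem_zpowers_iff.1 hz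
  obtain ⟨l, rfl⟩ := Subgroup.mem_zpowers_iff.1 hw
  exact ((Commute.refl zz).zpow_zpow k l)

theorem h0 (n : ℕ) : ∀ i : Fin (n - 2), i.val = 0 → X n i ^ 3 ∈ Z := by
  intro i hi
  unfold X
  rw [hi, xs_zero]
  exact Subgroup.one_mem _

theorem h1 (n : ℕ) (hn : n ≤ 7) : ∀ i : Fin (n - 2), 1 ≤ i.val → X n i ^ 2 ∈ Z := by
  intro i hi
  have := xs_sq ⟨i.val, by omega⟩ hi
  unfold X
  rw [this]
  exact Subgroup.one_mem _

theorem h2 (n : ℕ) (hn : n ≤ 7) : ∀ i j : Fin (n - 2), j.val = i.val + 1 →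
    (X n i * X n j) ^ 3 ∈ Z := by
  intro i j hij
  have := xs_adj ⟨i.val, by omega⟩
  unfold X
  rw [hij, this]
  exact Subgroup.one_mem _

theorem h3 (n : ℕ) (hn : n ≤ 7) : ∀ i j : Fin (n - 2), i.val + 1 < j.val →
    (X n i * X n j) ^ 2 ∈ Z := by
  intro i j hij
  unfold X
  rcases xs_far ⟨i.val, by omega⟩ ⟨j.val, by omega⟩ hij with h | h
  · rw [h]
    exact Subgroup.one_mem _
  · rw [h]
    exact Subgroup.mem_zpowers _

theorem mem_Z {w : Equiv.Perm (Fin 63)} (hw : w ∈ Z) : w = 1 ∨ w = zz ∨ w = zz⁻¹ := by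
  obtain ⟨k, rfl⟩ := Subgroup.mem_zpowers_iff.1 hw
  have h3 : zz ^ (3 : ℤ) = 1 := by exact_mod_cast zz_pow
  have hk : zz ^ k = zz ^ (k % 3) := by
    conv_lhs => rw [← Int.mul_ediv_add_emod k 3, zpow_add, zpow_mul, h3, one_zpow, one_mul]
  have h1 : 0 ≤ k % 3 := Int.emod_nonneg _ (by norm_num)
  have h2 : k % 3 < 3 := Int.emod_lt_of_pos _ (by norm_num)
  rw [hk]
  have hcases : k % 3 = 0 ∨ k % 3 = 1 ∨ k % 3 = 2 := by omega
  rcases hcases with h | h | h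
  · left; rw [h, zpow_zero]
  · right; left; rw [h, zpow_one]
  · right; right
    rw [h, eq_inv_iff_mul_eq_one]
    calc zz ^ (2 : ℤ) * zz = zz ^ (3 : ℤ) := by
          rw [show (3 : ℤ) = 2 + 1 by norm_num, zpow_add, zpow_one]
      _ = 1 := h3

theorem hne (n : ℕ) (hn : 4 ≤ n) : ∃ i, X n i ∉ Z := by
  refine ⟨⟨1, by omega⟩, fun h => ?_⟩
  rcases mem_Z h with h | h | h
  · exact xs_one_ne.1 h
  · exact xs_one_ne.2.1 h
  · exact xs_one_ne.2.2 h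

theorem a_mem (n : ℕ) (hn : 6 ≤ n) : xs 0 ∈ YY (X n) Z := X_mem (X n) Z ⟨0, by omega⟩

theorem b_mem (n : ℕ) (hn : 6 ≤ n) : xs 2 * xs 3 ∈ YY (X n) Z :=
  Subgroup.mul_mem _ (X_mem (X n) Z ⟨2, by omega⟩) (X_mem (X n) Z ⟨3, by omega⟩)

theorem witness_mem : ⁅xs 0, xs 2 * xs 3⁆ ∈ Z := by
  rw [xs_witness]
  exact Subgroup.inv_mem _ (Subgroup.mem_zpowers _)

theorem orderOf_witness : orderOf ⁅xs 0, xs 2 * xs 3⁆ = 3 := by
  rw [xs_witness, orderOf_inv, orderOf_zz]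

/-- three divides the order of the multiplier of the alternating groups of degree 6 and 7 -/
theorem three_dvd (n : ℕ) (hn : 6 ≤ n) (hn' : n ≤ 7) {A : Type*} [CommGroup A]
    (hA : HasSchurMultiplier (alternatingGroup (Fin n)) A) : 3 ∣ Nat.card A := by
  have := dvd_card_mult (by omega) (hZX n hn') hZZ (h0 n) (h1 n hn') (h2 n hn') (h3 n hn')
    (hne n (by omega)) hA (a_mem n hn) (b_mem n hn) witness_mem
  rwa [orderOf_witness] at this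

/-- the triple cover as an abstract central extension -/
theorem exists_ext (n : ℕ) (hn : 6 ≤ n) (hn' : n ≤ 7) :
    ∃ (Y : Type) (_ : Group Y) (ξ : Y →* alternatingGroup (Fin n)), Function.Surjective ξ ∧
      ξ.ker ≤ Subgroup.center Y ∧ ∃ a b : Y, ⁅a, b⁆ ∈ ξ.ker ∧ orderOf ⁅a, b⁆ = 3 := by
  obtain ⟨ξ, hξ, hker⟩ := exists_central_ext (by omega) (hZX n hn') hZZ (h0 n) (h1 n hn')
    (h2 n hn') (h3 n hn') (hne n (by omega))
  refine ⟨YY (X n) Z, inferInstance, ξ, hξ, hker ▸ subgroupOf_le_center (hZX n hn') hZZ,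
    ⟨_, a_mem n hn⟩, ⟨_, b_mem n hn⟩, ?_, ?_⟩
  · rw [hker]
    exact witness_mem
  · refine Eq.trans ?_ orderOf_witness
    exact (Subgroup.orderOf_coe (⁅(⟨_, a_mem n hn⟩ : YY (X n) Z), ⟨_, b_mem n hn⟩⁆)).symm

end Cfsg.Agent.Lib.Helper69TripleA7
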