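import Mathlib

/-!
PROJECT 61, PART H, piece `CW` (Chevalley-Warning for a quadratic map).
-/

set_option autoImplicit false

namespace Cfsg.Agent.Lib.Helper6HigCW

open MvPolynomial

theorem zmod2_cases (a : ZMod 2) : a = 0 ∨ a = 1 := by
  revert a; decide

/-- a function with a biadditive polarisation is a polynomial of degree at most 2 -/
theorem exists_poly {σ : Type*} [Fintype σ] [DecidableEq σ] (g : (σ → ZMod 2) → ZMod 2)
    (β : (σ → ZMod 2) →+ (σ → ZMod 2) →+ ZMod 2) (hg : ∀ x y, g (x + y) = g x + g y + β x y) :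
    ∃ f : MvPolynomial σ (ZMod 2), f.totalDegree ≤ 2 ∧ ∀ x, eval x f = g x := by
  have hg0 : g 0 = 0 := by
    have := hg 0 0
    simp only [add_zero, map_zero] at this
    have h2 : g 0 + g 0 = g 0 + 0 := by rw [add_zero]; exact this.symm
    exact add_left_cancel h2
  have hgs : ∀ (i : σ) (a : ZMod 2), g (Pi.single i a) = g (Pi.single i 1) * a := by
    intro i a
    rcases zmod2_cases a with rfl | rfl
    · simp [hg0]
    · simp
  have hβs : ∀ (j i : σ) (a b : ZMod 2), β (Pi.single j a) (Pi.single i b) =
      β (Pi.single j 1) (Pi.single i 1) * a * b := by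
    intro j i a b
    rcases zmod2_cases a with rfl | rfl
    · simp
    · rcases zmod2_cases b with rfl | rfl
      · simp
      · simp
  have key : ∀ I : Finset σ, ∃ f : MvPolynomial σ (ZMod 2), f.totalDegree ≤ 2 ∧
      ∀ x, eval x f = g (fun j => if j ∈ I then x j else 0) := by
    intro I
    induction I using Finset.induction_on with
    | empty =>
      refine ⟨0, by simp, fun x => ?_⟩
      have : (fun j : σ => if j ∈ (∅ : Finset σ) then x j else 0) = 0 := by
        ext j; simp
      rw [this, hg0]; simp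
    | insert i I hi ih =>
      obtain ⟨f, hf, hfe⟩ := ih
      refine ⟨f + C (g (Pi.single i 1)) * X i +
        ∑ j ∈ I, C (β (Pi.single j 1) (Pi.single i 1)) * X j * X i, ?_, fun x => ?_⟩
      · refine (totalDegree_add _ _).trans (max_le ((totalDegree_add _ _).trans (max_le hf ?_)) ?_)
        · refine (totalDegree_mul _ _).trans ?_
          rw [totalDegree_C, totalDegree_X]
          norm_num
        · refine (totalDegree_finsetSum _ _).trans ?_
          apply Finset.sup_le
          intro j _
          refine (totalDegree_mul _ _).trans ?_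
          have := totalDegree_mul (C (β (Pi.single j 1) (Pi.single i 1))) (X j : MvPolynomial σ (ZMod 2))
          rw [totalDegree_C, totalDegree_X] at this
          rw [totalDegree_X]
          omega
      · have e1 : (fun j => if j ∈ insert i I then x j else 0) =
            (fun j => if j ∈ I then x j else 0) + Pi.single i (x i) := by
          ext j
          by_cases hji : j = i
          · subst hji
            simp [hi]
          · simp [hji, Finset.mem_insert]
        have e2 : (fun j => if j ∈ I then x j else 0) = ∑ j ∈ I, Pi.single j (x j) := by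
          ext k
          rw [Finset.sum_apply]
          simp only [Pi.single_apply]
          rw [Finset.sum_ite_eq]
        rw [e1, hg, ← hfe, hgs i (x i)]
        have e3 : β (fun j => if j ∈ I then x j else 0) (Pi.single i (x i)) =
            ∑ j ∈ I, β (Pi.single j 1) (Pi.single i 1) * x j * x i := by
          rw [e2, map_sum, AddMonoidHom.finsetSum_apply]
          exact Finset.sum_congr rfl (fun j _ => hβs j i _ _)
        rw [e3]
        simp only [map_add, map_mul, eval_C, eval_X, map_sum]
  obtain ⟨f, hf, hfe⟩ := key Finset.univ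
  exact ⟨f, hf, fun x => by rw [hfe]; simp⟩

theorem CW_mod {V W : Type*} [AddCommGroup V] [AddCommGroup W] [Finite V] [Finite W]
    [Module (ZMod 2) V] [Module (ZMod 2) W] (s : V → W) (B : V →+ V →+ W)
    (hs : ∀ u v, s (u + v) = s u + s v + B u v) (hcard : Nat.card W ^ 2 < Nat.card V) :
    ∃ v : V, v ≠ 0 ∧ s v = 0 := by
  classical
  have : Fintype V := Fintype.ofFinite V
  have : Fintype W := Fintype.ofFinite W
  set a := Module.finrank (ZMod 2) V with ha
  set b := Module.finrank (ZMod 2) W with hb
  have hcV : Nat.card V = 2 ^ a := by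
    rw [Nat.card_eq_fintype_card, Module.card_eq_pow_finrank (K := ZMod 2), ZMod.card]
  have hcW : Nat.card W = 2 ^ b := by
    rw [Nat.card_eq_fintype_card, Module.card_eq_pow_finrank (K := ZMod 2), ZMod.card]
  have hab : 2 * b < a := by
    rw [hcV, hcW, ← pow_mul, mul_comm] at hcard
    exact (Nat.pow_lt_pow_iff_right (by norm_num)).1 hcard
  let eV : V ≃ₗ[ZMod 2] (Fin a → ZMod 2) := (Module.finBasis (ZMod 2) V).equivFun
  let eW : W ≃ₗ[ZMod 2] (Fin b → ZMod 2) := (Module.finBasis (ZMod 2) W).equivFun
  let eVs : (Fin a → ZMod 2) →+ V := eV.symm.toAddEquiv.toAddMonoidHom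
  have heVs : ∀ x, eVs x = eV.symm x := fun _ => rfl
  let evk : Fin b → (W →+ ZMod 2) := fun k =>
    (Pi.evalAddMonoidHom (fun _ : Fin b => ZMod 2) k).comp eW.toAddEquiv.toAddMonoidHom
  have hevk : ∀ k w, evk k w = eW w k := fun _ _ => rfl
  let g : Fin b → (Fin a → ZMod 2) → ZMod 2 := fun k x => evk k (s (eVs x))
  let β : Fin b → ((Fin a → ZMod 2) →+ (Fin a → ZMod 2) →+ ZMod 2) := fun k =>
    ((B.comp eVs).compl₂ eVs).compr₂ (evk k)
  have hβ : ∀ k x y, β k x y = evk k (B (eVs x) (eVs y)) := fun _ _ _ => rfl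
  have hgk : ∀ k x y, g k (x + y) = g k x + g k y + β k x y := by
    intro k x y
    rw [hβ]
    show evk k (s (eVs (x + y))) = evk k (s (eVs x)) + evk k (s (eVs y)) + _
    rw [map_add, hs, map_add, map_add]
  choose f hf hfe using fun k => exists_poly (g k) (β k) (hgk k)
  have hsum : ∑ k ∈ Finset.univ, (f k).totalDegree < Fintype.card (Fin a) := by
    rw [Fintype.card_fin]
    refine lt_of_le_of_lt (Finset.sum_le_sum (fun k _ => hf k)) ?_
    simp only [Finset.sum_const, Finset.card_univ, Fintype.card_fin, smul_eq_mul]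
    omega
  have hdvd := char_dvd_card_solutions_of_sum_lt (K := ZMod 2) 2 hsum
  have hs0 : s 0 = 0 := by
    have := hs 0 0
    simp only [add_zero, map_zero] at this
    have h2 : s 0 + s 0 = s 0 + 0 := by rw [add_zero]; exact this.symm
    exact add_left_cancel h2
  have h0 : ∀ k ∈ Finset.univ, eval (0 : Fin a → ZMod 2) (f k) = 0 := by
    intro k _
    rw [hfe]
    show evk k (s (eVs 0)) = 0
    rw [map_zero, hs0, map_zero]
  rw [Fintype.card_eq_nat_card] at hdvd
  have hne' : Nonempty { x : Fin a → ZMod 2 // ∀ i ∈ Finset.univ, eval x (f i) = 0 } := ⟨⟨0, h0⟩⟩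
  have hpos : 0 < Nat.card { x : Fin a → ZMod 2 // ∀ i ∈ Finset.univ, eval x (f i) = 0 } :=
    Nat.card_pos
  have h1 : 1 < Nat.card { x : Fin a → ZMod 2 // ∀ i ∈ Finset.univ, eval x (f i) = 0 } := by
    have := Nat.le_of_dvd hpos hdvd
    omega
  have hnt := Finite.one_lt_card_iff_nontrivial.1 h1
  obtain ⟨⟨x, hx⟩, hne⟩ := exists_ne (⟨0, h0⟩ :
    { x : Fin a → ZMod 2 // ∀ i ∈ Finset.univ, eval x (f i) = 0 })
  refine ⟨eVs x, ?_, ?_⟩
  · intro h
    apply hne
    apply Subtype.ext
    show x = 0
    rw [heVs] at h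
    exact (LinearEquiv.map_eq_zero_iff eV.symm).1 h
  · apply (LinearEquiv.map_eq_zero_iff eW).1
    ext k
    have := hx k (Finset.mem_univ k)
    rw [hfe] at this
    exact this

theorem CW {V W : Type*} [AddCommGroup V] [AddCommGroup W] [Finite V] [Finite W]
    (hV : ∀ v : V, v + v = 0) (hW : ∀ w : W, w + w = 0) (s : V → W) (B : V →+ V →+ W)
    (hs : ∀ u v, s (u + v) = s u + s v + B u v) (hcard : Nat.card W ^ 2 < Nat.card V) :
    ∃ v : V, v ≠ 0 ∧ s v = 0 :=
  @CW_mod V W _ _ _ _
    (AddCommGroup.zmodModule (n := 2) (fun x => by rw [two_nsmul]; exact hV x))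
    (AddCommGroup.zmodModule (n := 2) (fun x => by rw [two_nsmul]; exact hW x)) s B hs hcard

end Cfsg.Agent.Lib.Helper6HigCW
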