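import Mathlib
import Cfsg.Prelude.Def_GeometricClasses
import Cfsg.Agent.Lib.Helper87EluTools
import Cfsg.Agent.Lib.Helper6ImpPERM

set_option autoImplicit false

/-! Project 94 wave 3 (row S5958), piece I-L5. -/

namespace Cfsg.Agent.Lib.Helper6ImpL5

open Module Cfsg.Geo Cfsg.Agent.Lib.Helper87EluB1 Cfsg.Agent.Lib.Helper87EluB4
  Cfsg.Agent.Lib.Helper6ImpPERM

section core

variable {F : Type*} [Field F] {V : Type*} [AddCommGroup V] [Module F V]
variable {t : ℕ} (r : ℕ) (f : Module.End F V) (d : Fin t → V) (σ : Equiv.Perm (Fin t))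

theorem pow_mem_span (hfd : ∀ j, f (d j) ∈ Submodule.span F {d (σ j)}) (k : ℕ) (j : Fin t) :
    (f ^ k) (d j) ∈ Submodule.span F {d ((σ ^ k) j)} := by
  induction k with
  | zero => simp
  | succ k ih =>
    rw [pow_succ' f, Module.End.mul_apply]
    obtain ⟨c, hc⟩ := Submodule.mem_span_singleton.1 ih
    rw [← hc, map_smul, pow_succ', Equiv.Perm.mul_apply]
    exact Submodule.smul_mem _ _ (hfd _)

theorem sigma_pow' (hf : f ^ r = 1) (hli : LinearIndependent F d)
    (hfd : ∀ j, f (d j) ∈ Submodule.span F {d (σ j)}) : σ ^ r = 1 := by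
  ext j
  by_contra h
  have h' : (σ ^ r) j ≠ j := fun h0 => h (by rw [h0]; rfl)
  have h1 := pow_mem_span f d σ hfd r j
  rw [hf, Module.End.one_apply, ← Set.image_singleton] at h1
  exact hli.notMem_span_image (s := {(σ ^ r) j}) (x := j)
    (fun h2 => h' (Set.mem_singleton_iff.1 h2).symm) h1

theorem pow_ne [Fact r.Prime] (hσ : σ ^ r = 1) (j : Fin t) (hj : σ j ≠ j) (k : ℕ) (hk0 : 0 < k)
    (hk : k < r) : (σ ^ k) j ≠ j := by
  intro h
  have h1 : Function.IsPeriodicPt σ k j := by
    rw [Function.IsPeriodicPt, Function.IsFixedPt, Equiv.Perm.iterate_eq_pow]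
    exact h
  have h2 : Function.IsPeriodicPt σ r j := by
    rw [Function.IsPeriodicPt, Function.IsFixedPt, Equiv.Perm.iterate_eq_pow, hσ]
    rfl
  have h3 := h2.gcd h1
  have hcop : Nat.gcd r k = 1 := Nat.coprime_of_lt_prime hk0.ne' hk Fact.out
  rw [hcop] at h3
  exact hj h3

/-- the orbit of `j` -/
def orb (j : Fin t) : Finset (Fin t) := (Finset.range r).image fun k => (σ ^ k) j

theorem pow_mem_orb (hr0 : 0 < r) (hσ : σ ^ r = 1) (j : Fin t) (m : ℕ) : (σ ^ m) j ∈ orb r σ j := by
  rw [pow_eq_pow_mod m hσ]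
  exact Finset.mem_image.2 ⟨m % r, Finset.mem_range.2 (Nat.mod_lt _ hr0), rfl⟩

theorem orb_stable (hr0 : 0 < r) (hσ : σ ^ r = 1) (j i : Fin t) :
    σ i ∈ orb r σ j ↔ i ∈ orb r σ j := by
  constructor
  · intro h
    obtain ⟨k, -, hk⟩ := Finset.mem_image.1 h
    have h1 : i = (σ ^ (r - 1 + k)) j := by
      rw [pow_add, Equiv.Perm.mul_apply, hk, ← Equiv.Perm.mul_apply, ← pow_succ,
        Nat.sub_add_cancel hr0, hσ]
      rfl
    rw [h1]
    exact pow_mem_orb r σ hr0 hσ j _
  · intro h
    obtain ⟨k, -, rfl⟩ := Finset.mem_image.1 h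
    rw [← Equiv.Perm.mul_apply, ← pow_succ']
    exact pow_mem_orb r σ hr0 hσ j _

theorem exists_fixed [FiniteDimensional F V] [Fintype F] [Fact r.Prime]
    (hr : ¬ r ∣ Fintype.card F) (hf : f ^ r = 1) (hli : LinearIndependent F d)
    (hfd : ∀ j, f (d j) ∈ Submodule.span F {d (σ j)})
    (hc : 1 < orderOf (Fintype.card F : ZMod r)) (j : Fin t) :
    ∃ u : V, u ≠ 0 ∧ u ∈ Module.End.eigenspace f 1 ∧
      u ∈ Submodule.span F (d '' (orb r σ j : Set (Fin t))) := by
  have hr0 : 0 < r := (Fact.out : r.Prime).pos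
  have hσ : σ ^ r = 1 := sigma_pow' r f d σ hf hli hfd
  have hmem : ∀ k, (f ^ k) (d j) ∈ Submodule.span F (d '' (orb r σ j : Set (Fin t))) := by
    intro k
    refine Submodule.span_mono ?_ (pow_mem_span f d σ hfd k j)
    rw [Set.singleton_subset_iff]
    exact ⟨_, Finset.mem_coe.2 (pow_mem_orb r σ hr0 hσ j k), rfl⟩
  by_cases hj : σ j = j
  · refine ⟨d j, hli.ne_zero j, ?_, by simpa using hmem 0⟩
    have hWinv : (Submodule.span F {d j}).map f ≤ Submodule.span F {d j} := by
      rw [Submodule.map_span, Submodule.span_le, Set.image_singleton, Set.singleton_subset_iff]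
      have := hfd j
      rwa [hj] at this
    obtain ⟨k, hk⟩ := finrank_congr r hr f hf _ hWinv
    rw [finrank_span_singleton (hli.ne_zero j)] at hk
    have hk0 : k = 0 := by
      by_contra h0
      have : orderOf (Fintype.card F : ZMod r) ≤ orderOf (Fintype.card F : ZMod r) * k :=
        Nat.le_mul_of_pos_right _ (Nat.pos_of_ne_zero h0)
      omega
    rw [hk0, mul_zero, add_zero] at hk
    have h1 : Submodule.span F {d j} ⊓ Module.End.eigenspace f 1 = Submodule.span F {d j} :=
      Submodule.eq_of_le_of_finrank_eq inf_le_left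
        (by rw [← hk, finrank_span_singleton (hli.ne_zero j)])
    have h2 : d j ∈ Submodule.span F {d j} ⊓ Module.End.eigenspace f 1 := by
      rw [h1]
      exact Submodule.mem_span_singleton_self _
    exact h2.2
  · refine ⟨(∑ k ∈ Finset.range r, f ^ k) (d j), ?_, ?_, ?_⟩
    · intro h0
      rw [LinearMap.sum_apply, Finset.range_eq_Ico, Finset.sum_eq_sum_Ico_succ_bot hr0, pow_zero,
        Module.End.one_apply, add_eq_zero_iff_eq_neg] at h0
      apply hli.notMem_span_image (s := {i | i ≠ j}) (x := j) (fun h => h rfl)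
      rw [h0]
      apply Submodule.neg_mem
      apply Submodule.sum_mem
      intro k hk
      rw [Finset.mem_Ico] at hk
      refine Submodule.span_mono ?_ (pow_mem_span f d σ hfd k j)
      rw [Set.singleton_subset_iff]
      exact ⟨_, pow_ne r σ hσ j hj k (by omega) hk.2, rfl⟩
    · rw [mem_E, ← Module.End.mul_apply, mul_norm r f hf]
    · rw [LinearMap.sum_apply]
      exact Submodule.sum_mem _ fun k _ => hmem k

theorem key [FiniteDimensional F V] [Fintype F] [Fact r.Prime]
    (hr : ¬ r ∣ Fintype.card F) (hf : f ^ r = 1) (hli : LinearIndependent F d)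
    (hfd : ∀ j, f (d j) ∈ Submodule.span F {d (σ j)})
    (hc : 1 < orderOf (Fintype.card F : ZMod r)) (m : ℕ) :
    ∀ A : Finset (Fin t), A.card = m → (∀ i, σ i ∈ A ↔ i ∈ A) →
      A.card ≤ r * finrank F ↥(Module.End.eigenspace f 1 ⊓
        Submodule.span F (d '' (A : Set (Fin t)))) := by
  have hr0 : 0 < r := (Fact.out : r.Prime).pos
  have hσ : σ ^ r = 1 := sigma_pow' r f d σ hf hli hfd
  induction m using Nat.strong_induction_on with
  | _ m ih =>
    intro A hm hA
    rcases A.eq_empty_or_nonempty with rfl | ⟨j, hjA⟩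
    · simp
    have hpowA : ∀ k, (σ ^ k) j ∈ A := by
      intro k
      induction k with
      | zero => simpa using hjA
      | succ k ihk =>
        rw [pow_succ', Equiv.Perm.mul_apply]
        exact (hA _).2 ihk
    have hOA : orb r σ j ⊆ A := by
      intro i hi
      obtain ⟨k, -, rfl⟩ := Finset.mem_image.1 hi
      exact hpowA k
    have hjO : j ∈ orb r σ j := by simpa using pow_mem_orb r σ hr0 hσ j 0
    have hOcard : (orb r σ j).card ≤ r := by
      have := Finset.card_image_le (s := Finset.range r) (f := fun k => (σ ^ k) j)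
      rwa [Finset.card_range] at this
    have hlt : (A \ orb r σ j).card < A.card :=
      Finset.card_lt_card (Finset.sdiff_ssubset hOA ⟨j, hjO⟩)
    have hst : ∀ i, σ i ∈ A \ orb r σ j ↔ i ∈ A \ orb r σ j := by
      intro i
      rw [Finset.mem_sdiff, Finset.mem_sdiff, hA i, orb_stable r σ hr0 hσ j i]
    have h1 := ih _ (hm ▸ hlt) (A \ orb r σ j) rfl hst
    obtain ⟨u, hu0, huE, huO⟩ := exists_fixed r f d σ hr hf hli hfd hc j
    have hdisj : (Module.End.eigenspace f 1 ⊓
        Submodule.span F (d '' ((A \ orb r σ j : Finset (Fin t)) : Set (Fin t)))) ⊓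
        Submodule.span F {u} = ⊥ := by
      rw [← disjoint_iff]
      refine (hli.disjoint_span_image (s := ((A \ orb r σ j : Finset (Fin t)) : Set (Fin t)))
        (t := (orb r σ j : Set (Fin t))) ?_).mono inf_le_right ?_
      · rw [Finset.disjoint_coe]
        exact Finset.sdiff_disjoint
      · rw [Submodule.span_le, Set.singleton_subset_iff]
        exact huO
    have h2 := finrank_sup_of_disjoint _ _ hdisj
    rw [finrank_span_singleton hu0] at h2
    have hle : (Module.End.eigenspace f 1 ⊓
        Submodule.span F (d '' ((A \ orb r σ j : Finset (Fin t)) : Set (Fin t)))) ⊔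
        Submodule.span F {u} ≤ Module.End.eigenspace f 1 ⊓
        Submodule.span F (d '' (A : Set (Fin t))) := by
      apply sup_le
      · apply inf_le_inf_left
        apply Submodule.span_mono
        apply Set.image_mono
        exact Finset.coe_subset.2 Finset.sdiff_subset
      · rw [Submodule.span_le, Set.singleton_subset_iff]
        refine ⟨huE, Submodule.span_mono (Set.image_mono (Finset.coe_subset.2 hOA)) huO⟩
    have h3 := Submodule.finrank_mono hle
    rw [h2] at h3
    have h4 := Finset.card_le_card_sdiff_add_card (s := A) (t := orb r σ j)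
    calc A.card ≤ (A \ orb r σ j).card + (orb r σ j).card := h4
      _ ≤ r * finrank F ↥(Module.End.eigenspace f 1 ⊓
        Submodule.span F (d '' ((A \ orb r σ j : Finset (Fin t)) : Set (Fin t)))) + r :=
          Nat.add_le_add h1 hOcard
      _ = r * (finrank F ↥(Module.End.eigenspace f 1 ⊓
        Submodule.span F (d '' ((A \ orb r σ j : Finset (Fin t)) : Set (Fin t)))) + 1) := by ring
      _ ≤ _ := Nat.mul_le_mul_left _ h3

end core

variable {F : Type*} [Field F] {n : ℕ}
variable {a t : ℕ} (r : ℕ) [Fact r.Prime] (f : Module.End F (Fin n → F)) (hf : f ^ r = 1)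
  (D : Fin t → Submodule F (Fin n → F)) (hD : IsMDecomposition a D) (σ : Equiv.Perm (Fin t))
  (hσ : ∀ j, (D j).map f = D (σ j))

include hf hD hσ in
/-- piece I-L5 -/
theorem l5 [Fintype F] (hr : ¬ r ∣ Fintype.card F) (ha : a = 1)
    (hc : 1 < orderOf (Fintype.card F : ZMod r)) :
    n ≤ r * finrank F ↥(Module.End.eigenspace f 1) := by
  subst ha
  have hex : ∀ j, ∃ v : Fin n → F, v ≠ 0 ∧ D j = Submodule.span F {v} := by
    intro j
    have hne : D j ≠ ⊥ := by
      intro h
      have := hD.finrank_eq j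
      rw [h, finrank_bot] at this
      omega
    obtain ⟨v, hv, hv0⟩ := Submodule.exists_mem_ne_zero_of_ne_bot hne
    refine ⟨v, hv0, (Submodule.eq_of_le_of_finrank_eq ?_ ?_).symm⟩
    · rw [Submodule.span_le, Set.singleton_subset_iff]
      exact hv
    · rw [finrank_span_singleton hv0, hD.finrank_eq j]
  choose d hd0 hdD using hex
  have hli : LinearIndependent F d := hD.indep.linearIndependent D
    (fun j => by rw [hdD j]; exact Submodule.mem_span_singleton_self _) hd0
  have hfd : ∀ j, f (d j) ∈ Submodule.span F {d (σ j)} := by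
    intro j
    rw [← hdD (σ j), ← hσ j]
    apply Submodule.mem_map_of_mem
    rw [hdD j]
    exact Submodule.mem_span_singleton_self _
  have hspan : Submodule.span F (Set.range d) = ⊤ := by
    rw [← hD.iSup_eq_top, Submodule.span_range_eq_iSup]
    exact iSup_congr fun j => (hdD j).symm
  have hn : n = t := by
    have h1 := finrank_span_eq_card hli
    rw [hspan, finrank_top, Module.finrank_fin_fun, Fintype.card_fin] at h1
    exact h1
  have h1 := key r f d σ hr hf hli hfd hc _ Finset.univ rfl (fun i => by simp)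
  rw [Finset.card_univ, Fintype.card_fin] at h1
  exact hn.le.trans (h1.trans (Nat.mul_le_mul_left _ (Submodule.finrank_mono inf_le_left)))

end Cfsg.Agent.Lib.Helper6ImpL5
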