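import Mathlib
import Cfsg.Agent.Lib.Helper6SL2Hom

set_option autoImplicit false

namespace Cfsg.Agent.Lib.Helper6SL2HomP

open Cfsg.Agent.Lib.Helper6Transport Cfsg.Agent.Lib.Helper6SL2Hom

/-- Prime field version of `exists_hom_of_entries`: only the transvections with entry `1`
have to be checked. -/
theorem exists_hom_of_entries_zmod (p : ℕ) [Fact p.Prime] {H : Type*} [Group H]
    (f0 : ZMod p → ZMod p → ZMod p → ZMod p → H) (h1 : f0 1 0 0 1 = 1)
    (hX : ∀ a b c d, a * d - b * c = 1 →
      f0 a (a + b) c (c + d) = f0 a b c d * f0 1 1 0 1)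
    (hY : ∀ a b c d, a * d - b * c = 1 →
      f0 (a + b) b (c + d) d = f0 a b c d * f0 1 0 1 1) :
    ∃ φ : Matrix.SpecialLinearGroup (Fin 2) (ZMod p) →* H,
      ∀ g, φ g = f0 (g 0 0) (g 0 1) (g 1 0) (g 1 1) := by
  let f : Matrix.SpecialLinearGroup (Fin 2) (ZMod p) → H :=
    fun g => f0 (g 0 0) (g 0 1) (g 1 0) (g 1 1)
  have hf1 : f 1 = 1 := by
    simp only [f]
    simpa using h1
  have hdet : ∀ g : Matrix.SpecialLinearGroup (Fin 2) (ZMod p),
      g 0 0 * g 1 1 - g 0 1 * g 1 0 = 1 := by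
    intro g
    have := g.2
    rwa [Matrix.det_fin_two] at this
  have hmul := map_mul_of_generators f _ (closure_SL2_zmod p) hf1 (by
    rintro g s (rfl | rfl)
    · have h := hX _ _ _ _ (hdet g)
      simp only [f, Matrix.SpecialLinearGroup.coe_mul, T01_entries, Matrix.mul_apply,
        Fin.sum_univ_two]
      simpa using h
    · have h := hY _ _ _ _ (hdet g)
      simp only [f, Matrix.SpecialLinearGroup.coe_mul, T10_entries, Matrix.mul_apply,
        Fin.sum_univ_two]
      simpa using h)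
  exact ⟨{ toFun := f, map_one' := hf1, map_mul' := hmul }, fun g => rfl⟩

end Cfsg.Agent.Lib.Helper6SL2HomP
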