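import Mathlib
import Cfsg.Agent.S0255

/-!
# Project 8, piece `sl32`: `PSL₂(7) ≃* SL₃(2)`
-/

set_option autoImplicit false

namespace Cfsg.Agent.Lib.Helper6P8sl32

/-- piece `sl32` -/
theorem psl27_sl32 {F : Type*} [Field F] [Fintype F] (hF : Fintype.card F = 7) :
    Nonempty (Matrix.ProjectiveSpecialLinearGroup (Fin 2) F ≃*
      Matrix.SpecialLinearGroup (Fin 3) (ZMod 2)) := by
  have : Fact (Nat.Prime 2) := ⟨by norm_num⟩
  obtain ⟨e⟩ := Cfsg.Agent.S0255.result (F := F) (K := ZMod 2) hF (ZMod.card 2)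
  have hc : Subgroup.center (Matrix.SpecialLinearGroup (Fin 3) (ZMod 2)) = ⊥ := by
    rw [← Subgroup.card_eq_one, Cfsg.Agent.S0243.card_center_SL (F := ZMod 2) 3 (by norm_num),
      ZMod.card]
    rfl
  exact ⟨e.trans ((QuotientGroup.quotientMulEquivOfEq hc).trans QuotientGroup.quotientBot)⟩

end Cfsg.Agent.Lib.Helper6P8sl32
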