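import Mathlib
import Cfsg.Agent.Lib.Helper63SylowNum3

/-!
# Project 8, piece `ti`: Sylow 3-subgroups of a simple group of order 360 are TI
-/

set_option autoImplicit false

namespace Cfsg.Agent.Lib.Helper6P8ti

open MulAction Subgroup

theorem arith {k n i : ℕ} (h40 : k * i = 40) (hi : 6 ≤ i) (hn1 : n ≠ 1) (hn3 : n % 3 = 1)
    (hnd : n ∣ k) : k = 4 ∧ n = 4 := by
  have hk6 : k ≤ 6 := by nlinarith
  have hk0 : 0 < k := by
    rcases Nat.eq_zero_or_pos k with h0 | h0
    · rw [h0] at h40; omega
    · exact h0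
  have hkd : k ∣ 40 := ⟨_, h40.symm⟩
  have hnk := Nat.le_of_dvd hk0 hnd
  clear h40 hi
  interval_cases k <;> interval_cases n <;> simp_all

variable {G : Type*} [Group G] [Finite G] [IsSimpleGroup G]

/-- piece `ti` -/
theorem sylow3_ti (h : Nat.card G = 360)
    (hidx : ∀ H : Subgroup G, H ≠ ⊤ → 6 ≤ H.index) (P Q : Sylow 3 G) (hPQ : P ≠ Q) :
    (P : Subgroup G) ⊓ (Q : Subgroup G) = ⊥ := by
  by_contra hD
  have : Fact (Nat.Prime 3) := ⟨Nat.prime_three⟩
  have : Fact (Nat.Prime 2) := ⟨Nat.prime_two⟩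
  set D := (P : Subgroup G) ⊓ (Q : Subgroup G) with hDdef
  set C := centralizer (D : Set G) with hC
  have hcardP : ∀ P : Sylow 3 G, Nat.card (P : Subgroup G) = 3 ^ 2 := fun P =>
    Cfsg.Agent.Lib.Helper63SylowNum3.card_sylow_eq_prime_pow (m := 40) P (by rw [h]; norm_num)
      (by norm_num)
  have hcomm : ∀ P : Sylow 3 G, ∀ x ∈ (P : Subgroup G), ∀ y ∈ (P : Subgroup G),
      x * y = y * x := by
    intro P x hx y hy
    have := IsPGroup.isMulCommutative_of_card_eq_prime_sq (hcardP P)
    exact congrArg Subtype.val (this.is_comm.comm (⟨x, hx⟩ : (P : Subgroup G)) ⟨y, hy⟩)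
  have hPC : (P : Subgroup G) ≤ C := fun x hx =>
    mem_centralizer_iff.2 (fun d hd => hcomm P d hd.1 x hx)
  have hQC : (Q : Subgroup G) ≤ C := fun x hx =>
    mem_centralizer_iff.2 (fun d hd => hcomm Q d hd.2 x hx)
  have hnormal : ∀ V : Subgroup G, V.Normal → Nat.card V ≠ 1 → Nat.card V ≠ 360 → False := by
    intro V hV h1 h2
    rcases hV.eq_bot_or_eq_top with h' | h'
    · rw [h', card_bot] at h1; exact h1 rfl
    · rw [h', card_top, h] at h2; exact h2 rfl
  have hCtop : C ≠ ⊤ := by
    intro hT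
    have hDn : D.Normal := by
      constructor
      intro d hd g
      have hg : g ∈ C := by rw [hT]; exact mem_top g
      have := mem_centralizer_iff.1 hg d hd
      rw [← this, mul_inv_cancel_right]
      exact hd
    apply hnormal D hDn
    · rwa [Ne, card_eq_one]
    · intro h360
      have := Nat.le_of_dvd Nat.card_pos (card_dvd_of_le (inf_le_left : D ≤ (P : Subgroup G)))
      rw [h360, hcardP P] at this
      omega
  have hCi := hidx C hCtop
  have hCc := C.card_mul_index
  rw [h] at hCc
  set P' : Sylow 3 C := P.subtype hPC with hP'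
  set Q' : Sylow 3 C := Q.subtype hQC with hQ'
  have hPQ' : P' ≠ Q' := fun h' => hPQ (Sylow.subtype_injective h')
  have hcardP' : Nat.card (P' : Subgroup C) = 9 := by
    rw [hP', Sylow.coe_subtype, Nat.card_congr (subgroupOfEquivOfLe hPC).toEquiv, hcardP P]
    norm_num
  have hn1 : Nat.card (Sylow 3 C) ≠ 1 := by
    intro h1
    have := (Nat.card_eq_one_iff_unique.1 h1).1
    exact hPQ' (Subsingleton.elim _ _)
  have hn3 : Nat.card (Sylow 3 C) % 3 = 1 := card_sylow_modEq_one 3 C
  have hnd := Sylow.card_dvd_index P'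
  have hPi := (P' : Subgroup C).card_mul_index
  rw [hcardP'] at hPi
  have hNi : Nat.card (Sylow 3 C) = (normalizer ((P' : Subgroup C) : Set C)).index :=
    Sylow.card_eq_index_normalizer P'
  have hNc := (normalizer ((P' : Subgroup C) : Set C)).card_mul_index
  rw [← hNi] at hNc
  -- arithmetic
  obtain ⟨hk, hn⟩ : (P' : Subgroup C).index = 4 ∧ Nat.card (Sylow 3 C) = 4 := by
    apply arith (i := C.index) _ hCi hn1 hn3 hnd
    rw [← hPi] at hCc
    nlinarith
  rw [hk] at hPi
  rw [hn, ← hPi] at hNc
  have hNP : (P' : Subgroup C) = normalizer ((P' : Subgroup C) : Set C) :=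
    eq_of_le_of_card_ge le_normalizer (by rw [hcardP']; omega)
  have hNC : normalizer ((P' : Subgroup C) : Set C) ≤ centralizer ((P' : Subgroup C) : Set C) := by
    rw [← hNP]
    intro x hx
    rw [mem_centralizer_iff]
    intro y hy
    rw [hP', Sylow.coe_subtype] at hx
    have hy' : y ∈ (P' : Subgroup C) := hy
    rw [hP', Sylow.coe_subtype] at hy'
    exact Subtype.ext (hcomm P _ (mem_subgroupOf.1 hy') _ (mem_subgroupOf.1 hx))
  have hcompl := MonoidHom.ker_transferSylow_isComplement' P' hNC
  have hcard := hcompl.card_mul_card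
  set V' := (MonoidHom.transferSylow P' hNC).ker with hV'
  have hV'n : V'.Normal := inferInstance
  rw [hcardP', ← hPi] at hcard
  have hV'c : Nat.card V' = 4 := by omega
  set V := V'.map C.subtype with hV
  have hVc : Nat.card V = 2 ^ 2 := by
    rw [hV, card_map_of_injective C.subtype_injective, hV'c]
    norm_num
  have hCN : C ≤ normalizer (V : Set G) := by
    have := le_normalizer_map (H := V') C.subtype
    rw [normalizer_eq_top_iff.2 hV'n, ← MonoidHom.range_eq_map, range_subtype] at this
    exact this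
  obtain ⟨K, hKc, hVK⟩ := Sylow.exists_subgroup_card_pow_succ (p := 2) (n := 2)
    (by rw [h]; norm_num) hVc
  have hKN : K ≤ normalizer (V : Set G) := by
    rw [← normal_subgroupOf_iff_le_normalizer hVK]
    apply normal_of_index_eq_two
    have h1 := (V.subgroupOf K).card_mul_index
    rw [Nat.card_congr (subgroupOfEquivOfLe hVK).toEquiv, hVc, hKc] at h1
    omega
  have h9 : 9 ∣ Nat.card (normalizer (V : Set G)) := by
    have := card_dvd_of_le (hPC.trans hCN)
    rwa [hcardP P] at this
  have h8 : 8 ∣ Nat.card (normalizer (V : Set G)) := by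
    have := card_dvd_of_le hKN
    rwa [hKc] at this
  have h72 : 9 * 8 ∣ Nat.card (normalizer (V : Set G)) :=
    Nat.Coprime.mul_dvd_of_dvd_of_dvd (by norm_num) h9 h8
  have hNtop : normalizer (V : Set G) = ⊤ := by
    by_contra hne
    have h6 := hidx _ hne
    have h1 := (normalizer (V : Set G)).card_mul_index
    rw [h] at h1
    have h2 := Nat.le_of_dvd Nat.card_pos h72
    nlinarith
  apply hnormal V (normalizer_eq_top_iff.1 hNtop)
  · rw [hVc]; norm_num
  · rw [hVc]; norm_num

end Cfsg.Agent.Lib.Helper6P8ti
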