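import Mathlib

/-!
# `PGL₂(K)` acting on the projective line `OnePoint K`
-/

set_option autoImplicit false

namespace Cfsg.Agent.Lib.Helper6PGL2

open Matrix MatrixGroups OnePoint

variable {K : Type*} [Field K] [DecidableEq K]

theorem scalar_smul (u : Kˣ) (c : OnePoint K) :
    GeneralLinearGroup.scalar (Fin 2) u • c = c := by
  cases c with
  | infty => simp [smul_infty_eq_ite]
  | coe c => simp [smul_some_eq_ite]

/-- The Möbius action of `PGL₂(K)` on `OnePoint K`. -/
instance pglAction : MulAction (ProjGenLinGroup (Fin 2) K) (OnePoint K) :=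
  ProjGenLinGroup.mulActionOfGL scalar_smul

theorem mk_smul (g : GL (Fin 2) K) (c : OnePoint K) :
    (ProjGenLinGroup.mk g : ProjGenLinGroup (Fin 2) K) • c = g • c := rfl

/-- `GL₂` element from four entries with non-zero determinant. -/
noncomputable def mkGL (a b c d : K) (h : a * d - b * c ≠ 0) : GL (Fin 2) K :=
  GeneralLinearGroup.mkOfDetNeZero !![a, b; c, d] (by rwa [det_fin_two_of])

omit [DecidableEq K] in
@[simp] theorem mkGL_00 (a b c d : K) (h) : (mkGL a b c d h) 0 0 = a := rfl
omit [DecidableEq K] in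
@[simp] theorem mkGL_01 (a b c d : K) (h) : (mkGL a b c d h) 0 1 = b := rfl
omit [DecidableEq K] in
@[simp] theorem mkGL_10 (a b c d : K) (h) : (mkGL a b c d h) 1 0 = c := rfl
omit [DecidableEq K] in
@[simp] theorem mkGL_11 (a b c d : K) (h) : (mkGL a b c d h) 1 1 = d := rfl

theorem exists_smul_infty (c : OnePoint K) :
    ∃ g : ProjGenLinGroup (Fin 2) K, g • (∞ : OnePoint K) = c := by
  cases c with
  | infty => exact ⟨1, one_smul _ _⟩
  | coe t =>
    refine ⟨ProjGenLinGroup.mk (mkGL t (-1) 1 0 (by simp)), ?_⟩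
    rw [mk_smul, smul_infty_eq_ite]
    simp

omit [DecidableEq K] in
/-- The image of `PGL₂(F₀)` in `PGL₂(K)`, for a subfield `F₀` of `K`. -/
def pglSub (F₀ : Subfield K) : Subgroup (ProjGenLinGroup (Fin 2) K) :=
  (ProjGenLinGroup.map (n := Fin 2) F₀.subtype).range

omit [DecidableEq K] in
/-- The image of `PSL₂(F₀)` (equivalently of `SL₂(F₀)`) in `PGL₂(K)`, for a subfield `F₀`. -/
def pslSub (F₀ : Subfield K) : Subgroup (ProjGenLinGroup (Fin 2) K) :=
  ((ProjGenLinGroup.map (n := Fin 2) F₀.subtype).comp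
    (ProjectiveSpecialLinearGroup.toPGL (n := Fin 2) (R := F₀))).range

end Cfsg.Agent.Lib.Helper6PGL2
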