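import Cfsg.Agent.Lib.Helper6PGL2Fix

/-!
# `PGL₂(F)` acting on the projective line over the quadratic extension: a pole action
-/

set_option autoImplicit false

namespace Cfsg.Agent.Lib.Helper6PGL2Ext

open Matrix MatrixGroups OnePoint MulAction Polynomial
open Cfsg.Agent.Lib.Helper6PGL2 Cfsg.Agent.Lib.Helper6PGL2Fix Cfsg.Agent.Lib.Helper6Pole

/-- The projective line over `E` (a type synonym of `OnePoint E`, to carry actions of `PGL₂` of
subfields). -/
def Line (E : Type*) := OnePoint E

instance lineFinite (E : Type*) [Finite E] : Finite (Line E) :=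
  inferInstanceAs (Finite (Option E))

instance lineNonempty (E : Type*) : Nonempty (Line E) := ⟨(∞ : OnePoint E)⟩

section

variable {F E : Type*} [Field F] [Field E] [Algebra F E]

theorem map_injective :
    Function.Injective (ProjGenLinGroup.map (n := Fin 2) (algebraMap F E)) := by
  rw [injective_iff_map_eq_one]
  intro x hx
  induction x using ProjGenLinGroup.induction_on with
  | mk g =>
    rw [ProjGenLinGroup.map_mk, mk_eq_one_iff] at hx
    simp only [GeneralLinearGroup.map_apply] at hx
    rw [mk_eq_one_iff]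
    obtain ⟨h1, h2, h3⟩ := hx
    exact ⟨(map_eq_zero _).1 h1, (map_eq_zero _).1 h2, (algebraMap F E).injective h3⟩

variable [DecidableEq E]

/-- `PGL₂(F)` acts on the projective line over an extension `E`. -/
noncomputable instance lineAction : MulAction (ProjGenLinGroup (Fin 2) F) (Line E) :=
  MulAction.compHom (OnePoint E) (ProjGenLinGroup.map (n := Fin 2) (algebraMap F E))

theorem line_smul (x : ProjGenLinGroup (Fin 2) F) (c : Line E) :
    x • c = ((ProjGenLinGroup.map (n := Fin 2) (algebraMap F E) x • (show OnePoint E from c) :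
      OnePoint E) : Line E) := rfl

theorem exists_fixed
    (hroot : ∀ a b c : F, a ≠ 0 →
      ∃ t : E, algebraMap F E a * t ^ 2 + algebraMap F E b * t + algebraMap F E c = 0)
    (x : ProjGenLinGroup (Fin 2) F) : ∃ ω : OnePoint E,
      ProjGenLinGroup.map (n := Fin 2) (algebraMap F E) x • ω = ω := by
  induction x using ProjGenLinGroup.induction_on with
  | mk g =>
    rw [ProjGenLinGroup.map_mk]
    by_cases h : g 1 0 = 0
    · refine ⟨∞, ?_⟩
      rw [mk_smul, smul_infty_eq_self_iff, GeneralLinearGroup.map_apply, h, map_zero]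
    · obtain ⟨t, ht⟩ := hroot (g 1 0) (g 1 1 - g 0 0) (- g 0 1) h
      refine ⟨(t : OnePoint E), ?_⟩
      rw [mk_smul, ← GeneralLinearGroup.fixpointPolynomial_aeval_eq_zero_iff]
      simp only [GeneralLinearGroup.fixpointPolynomial, GeneralLinearGroup.map_apply, map_sub,
        map_add, map_mul, aeval_C, aeval_X, map_pow, Algebra.algebraMap_self_apply]
      simp only [map_sub, map_neg] at ht
      linear_combination ht

/-- `PGL₂(F)` on the projective line over `E` is a pole action as soon as quadratic polynomials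
over `F` have roots in `E`. -/
theorem isPoleAction (p : ℕ) [Fact p.Prime] [CharP E p]
    (hroot : ∀ a b c : F, a ≠ 0 →
      ∃ t : E, algebraMap F E a * t ^ 2 + algebraMap F E b * t + algebraMap F E c = 0) :
    IsPoleAction (ProjGenLinGroup (Fin 2) F) (Line E) p Eˣ := by
  set φ := ProjGenLinGroup.map (n := Fin 2) (algebraMap F E) with hφ
  have hinj : Function.Injective φ := map_injective
  have hfix : ∀ x : ProjGenLinGroup (Fin 2) F, fixedBy (Line E) x = fixedBy (OnePoint E) (φ x) :=
    fun x => rfl
  have hne : ∀ x : ProjGenLinGroup (Fin 2) F, x ≠ 1 → φ x ≠ 1 :=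
    fun x hx h1 => hx (hinj (by rw [h1, map_one]))
  have hpow : ∀ x : ProjGenLinGroup (Fin 2) F, x ^ p = 1 ↔ φ x ^ p = 1 := by
    intro x
    rw [← map_pow]
    exact ⟨fun h => by rw [h, map_one], fun h => hinj (by rw [h, map_one])⟩
  refine ⟨fun x hx => ?_, fun x hx => ?_, fun ω => ?_⟩
  · obtain ⟨ω, hω⟩ := exists_fixed hroot x
    rw [hfix]; exact (fix_of_fixed p _ (hne x hx) ω hω).1
  · obtain ⟨ω, hω⟩ := exists_fixed hroot x
    rw [hfix, hpow]; exact (fix_of_fixed p _ (hne x hx) ω hω).2
  · obtain ⟨μ, hμ⟩ := exists_mu p (show OnePoint E from ω)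
    let ψ : stabilizer (ProjGenLinGroup (Fin 2) F) ω →*
        stabilizer (ProjGenLinGroup (Fin 2) E) (show OnePoint E from ω) :=
      { toFun := fun x => ⟨φ x.1, x.2⟩
        map_one' := Subtype.ext (map_one φ)
        map_mul' := fun x y => Subtype.ext (map_mul φ x.1 y.1) }
    refine ⟨μ.comp ψ, fun x => ?_⟩
    rw [MonoidHom.comp_apply, hμ]
    constructor
    · intro hx
      have := congrArg Subtype.val hx
      apply Subtype.ext
      simpa using (hpow x.1).2 (by simpa [ψ] using this)
    · intro hx
      have := congrArg Subtype.val hx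
      apply Subtype.ext
      simpa [ψ] using (hpow x.1).1 (by simpa using this)

end

section Finite

variable (F : Type*) [Field F] [Finite F] (p : ℕ) [Fact p.Prime] [CharP F p]

theorem exists_root_quadratic (a b c : F) (ha : a ≠ 0) :
    ∃ t : FiniteField.Extension F p 2,
      algebraMap F _ a * t ^ 2 + algebraMap F _ b * t + algebraMap F _ c = 0 := by
  set f : F[X] := C a * X ^ 2 + C b * X + C c with hf
  have hdeg : f.natDegree = 2 := natDegree_quadratic ha
  obtain ⟨g, hg, hgf⟩ := exists_irreducible_of_natDegree_pos (f := f) (by omega)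
  have hf0 : f ≠ 0 := fun h => by rw [h] at hdeg; simp at hdeg
  have hg2 : g.natDegree ≤ 2 := hdeg ▸ natDegree_le_of_dvd hgf hf0
  have hg1 : 0 < g.natDegree := hg.natDegree_pos
  have hdvd : g.natDegree ∣ 2 := by
    interval_cases g.natDegree <;> norm_num
  have h1 := hg.natDegree_dvd_iff_dvd_X_pow_card_pow_sub_X.1 hdvd
  have h2 : (g.map (algebraMap F (FiniteField.Extension F p 2))).Splits := by
    refine Splits.of_dvd ?_ ?_ (map_dvd (algebraMap _ (FiniteField.Extension F p 2)) h1)
    · apply IsSplittingField.splits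
    · exact map_ne_zero (FiniteField.X_pow_card_pow_sub_X_ne_zero _ two_ne_zero Finite.one_lt_card)
  obtain ⟨t, ht⟩ := h2.exists_eval_eq_zero (by
    rw [degree_map]; exact (degree_pos_of_irreducible hg).ne')
  refine ⟨t, ?_⟩
  obtain ⟨k, hk⟩ := hgf
  have h3 : aeval t f = 0 := by
    rw [hk, map_mul, aeval_def, ← eval_map, ht, zero_mul]
  simpa [hf] using h3

end Finite

end Cfsg.Agent.Lib.Helper6PGL2Ext
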