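import Cfsg.Agent.Lib.Helper6Pole
import Cfsg.Agent.Lib.Helper6PGL2

/-!
# Fixed points of elements of `PGL₂(K)` on the projective line
-/

set_option autoImplicit false

namespace Cfsg.Agent.Lib.Helper6PGL2Fix

open Matrix MatrixGroups OnePoint MulAction Cfsg.Agent.Lib.Helper6PGL2
open scoped Pointwise

variable {K : Type*} [Field K]

theorem mk_eq_one_iff (g : GL (Fin 2) K) :
    (ProjGenLinGroup.mk g : ProjGenLinGroup (Fin 2) K) = 1 ↔
      g 0 1 = 0 ∧ g 1 0 = 0 ∧ g 0 0 = g 1 1 := by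
  rw [ProjGenLinGroup.mk_eq_one, GeneralLinearGroup.mem_center_iff_val_mem_range_scalar]
  constructor
  · rintro ⟨a, ha⟩
    have h := fun i j => congrFun (congrFun ha i) j
    refine ⟨?_, ?_, ?_⟩
    · simpa using (h 0 1).symm
    · simpa using (h 1 0).symm
    · have h0 := h 0 0
      have h1 := h 1 1
      simp at h0 h1
      change (g.val 0 0) = g.val 1 1
      rw [← h0, ← h1]
  · rintro ⟨h01, h10, h00⟩
    refine ⟨g 0 0, ?_⟩
    ext i j
    fin_cases i <;> fin_cases j <;> simp [h01, h10, h00]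

theorem det_upper (g : GL (Fin 2) K) (h : g 1 0 = 0) : g 0 0 ≠ 0 ∧ g 1 1 ≠ 0 := by
  have hd := g.det_ne_zero
  rw [det_fin_two] at hd
  have h' : g.val 1 0 = 0 := h
  rw [h', mul_zero, sub_zero] at hd
  exact ⟨left_ne_zero_of_mul hd, right_ne_zero_of_mul hd⟩

theorem pow_upper (M : Matrix (Fin 2) (Fin 2) K) (h : M 1 0 = 0) (k : ℕ) :
    (M ^ k) 1 0 = 0 ∧ (M ^ k) 0 0 = M 0 0 ^ k ∧ (M ^ k) 1 1 = M 1 1 ^ k := by
  induction k with
  | zero => simp
  | succ k ih =>
    obtain ⟨h1, h2, h3⟩ := ih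
    rw [pow_succ]
    refine ⟨?_, ?_, ?_⟩
    · simp [Matrix.mul_apply, Fin.sum_univ_two, h1, h]
    · simp [Matrix.mul_apply, Fin.sum_univ_two, h2, h, pow_succ]
    · simp [Matrix.mul_apply, Fin.sum_univ_two, h1, h3, pow_succ]

theorem pow_upper_eq (M : Matrix (Fin 2) (Fin 2) K) (h : M 1 0 = 0) (h' : M 0 0 = M 1 1) (k : ℕ) :
    (M ^ k) 0 1 = k * M 0 0 ^ (k - 1) * M 0 1 := by
  induction k with
  | zero => simp
  | succ k ih =>
    rw [pow_succ]
    have h2 := (pow_upper M h k).2.1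
    simp only [Matrix.mul_apply, Fin.sum_univ_two, h2, ih, ← h']
    rcases k with _ | k
    · simp
    · simp only [Nat.add_sub_cancel]
      push_cast
      ring

theorem pow_char_eq_one_iff (p : ℕ) [Fact p.Prime] [CharP K p] (g : GL (Fin 2) K)
    (h : g 1 0 = 0) :
    (ProjGenLinGroup.mk g : ProjGenLinGroup (Fin 2) K) ^ p = 1 ↔ g 0 0 = g 1 1 := by
  rw [← map_pow, mk_eq_one_iff]
  have hv : ∀ i j, (g ^ p) i j = (g.val ^ p) i j := fun i j => by
    rw [← Units.val_pow_eq_pow_val]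
  rw [hv, hv, hv, hv]
  obtain ⟨h1, h2, h3⟩ := pow_upper g.val h p
  rw [h1, h2, h3]
  constructor
  · rintro ⟨-, -, h4⟩
    exact frobenius_inj K p h4
  · intro h4
    refine ⟨?_, rfl, ?_⟩
    · rw [pow_upper_eq g.val h h4, CharP.cast_eq_zero K p]; ring
    · change g.val 0 0 ^ p = g.val 1 1 ^ p
      have : g.val 0 0 = g.val 1 1 := h4
      rw [this]

variable [DecidableEq K]

theorem smul_coe_upper (g : GL (Fin 2) K) (h : g 1 0 = 0) (t : K) :
    g • (t : OnePoint K) = ((g 0 0 * t + g 0 1) / g 1 1 : K) := by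
  rw [smul_some_eq_ite, h, zero_mul, zero_add, if_neg (det_upper g h).2]

theorem fixedBy_upper_eq (g : GL (Fin 2) K) (h : g 1 0 = 0)
    (hne : (ProjGenLinGroup.mk g : ProjGenLinGroup (Fin 2) K) ≠ 1) (h' : g 0 0 = g 1 1) :
    fixedBy (OnePoint K) (ProjGenLinGroup.mk g : ProjGenLinGroup (Fin 2) K) = {∞} := by
  ext c
  rw [mem_fixedBy, mk_smul, Set.mem_singleton_iff]
  cases c with
  | infty => simp [smul_infty_eq_self_iff, h]
  | coe t =>
    rw [smul_coe_upper g h]
    simp only [coe_eq_coe, coe_ne_infty, iff_false]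
    intro h2
    rw [div_eq_iff (det_upper g h).2, h'] at h2
    apply hne
    rw [mk_eq_one_iff]
    refine ⟨?_, h, h'⟩
    linear_combination h2

theorem fixedBy_upper_ne (g : GL (Fin 2) K) (h : g 1 0 = 0) (h' : g 0 0 ≠ g 1 1) :
    fixedBy (OnePoint K) (ProjGenLinGroup.mk g : ProjGenLinGroup (Fin 2) K) =
      {∞, ((g 0 1 / (g 1 1 - g 0 0) : K) : OnePoint K)} := by
  have h3 : g 1 1 - g 0 0 ≠ 0 := sub_ne_zero.2 (Ne.symm h')
  ext c
  rw [mem_fixedBy, mk_smul, Set.mem_insert_iff, Set.mem_singleton_iff]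
  cases c with
  | infty => simp [smul_infty_eq_self_iff, h]
  | coe t =>
    rw [smul_coe_upper g h]
    simp only [coe_eq_coe, coe_ne_infty, false_or]
    rw [div_eq_iff (det_upper g h).2, eq_div_iff h3]
    constructor
    · intro h2; linear_combination -h2
    · intro h2; linear_combination -h2

/-- Elements fixing `∞`. -/
theorem fix_infty (p : ℕ) [Fact p.Prime] [CharP K p] (x : ProjGenLinGroup (Fin 2) K) (hx : x ≠ 1)
    (h : x • (∞ : OnePoint K) = ∞) :
    ((fixedBy (OnePoint K) x).ncard = 1 ∨ (fixedBy (OnePoint K) x).ncard = 2) ∧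
      ((fixedBy (OnePoint K) x).ncard = 1 ↔ x ^ p = 1) := by
  induction x using ProjGenLinGroup.induction_on with
  | mk g =>
    rw [mk_smul, smul_infty_eq_self_iff] at h
    rw [pow_char_eq_one_iff p g h]
    by_cases h' : g 0 0 = g 1 1
    · rw [fixedBy_upper_eq g h hx h']
      simp [h']
    · rw [fixedBy_upper_ne g h h', Set.ncard_pair (infty_ne_coe _)]
      simp [h']

/-- Elements with a fixed point. -/
theorem fix_of_fixed (p : ℕ) [Fact p.Prime] [CharP K p] (x : ProjGenLinGroup (Fin 2) K)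
    (hx : x ≠ 1) (ω : OnePoint K) (h : x • ω = ω) :
    ((fixedBy (OnePoint K) x).ncard = 1 ∨ (fixedBy (OnePoint K) x).ncard = 2) ∧
      ((fixedBy (OnePoint K) x).ncard = 1 ↔ x ^ p = 1) := by
  obtain ⟨γ, rfl⟩ := exists_smul_infty ω
  have h1 : (γ⁻¹ * x * γ) • (∞ : OnePoint K) = ∞ := by
    rw [mul_smul, mul_smul, h, inv_smul_smul]
  have h2 : γ⁻¹ * x * γ ≠ 1 := by
    intro h3
    apply hx
    have : x = γ * (γ⁻¹ * x * γ) * γ⁻¹ := by group
    rw [this, h3]; group
  have h3 := fix_infty p _ h2 h1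
  have h4 : fixedBy (OnePoint K) (γ⁻¹ * x * γ) = γ⁻¹ • fixedBy (OnePoint K) x := by
    rw [smul_fixedBy, inv_inv]
  rw [h4, Set.ncard_smul_set] at h3
  have h5 : (γ⁻¹ * x * γ) ^ p = 1 ↔ x ^ p = 1 := by
    have : (γ⁻¹ * x * γ) ^ p = γ⁻¹ * x ^ p * γ := by
      have := conj_pow (a := γ⁻¹) (b := x) (i := p)
      simpa using this
    rw [this]
    constructor
    · intro h6
      have : x ^ p = γ * (γ⁻¹ * x ^ p * γ) * γ⁻¹ := by group
      rw [this, h6]; group
    · intro h6; rw [h6]; group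
  rwa [h5] at h3

omit [DecidableEq K] in
/-- ratio of the diagonal entries, a function on `PGL₂`. -/
noncomputable def ratio (x : ProjGenLinGroup (Fin 2) K) : K :=
  (ProjGenLinGroup.mk_surjective x).choose 0 0 / (ProjGenLinGroup.mk_surjective x).choose 1 1

omit [DecidableEq K] in
theorem ratio_mk (g : GL (Fin 2) K) :
    ratio (ProjGenLinGroup.mk g : ProjGenLinGroup (Fin 2) K) = g 0 0 / g 1 1 := by
  have h := (ProjGenLinGroup.mk_surjective
    (ProjGenLinGroup.mk g : ProjGenLinGroup (Fin 2) K)).choose_spec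
  rw [ProjGenLinGroup.mk_eq_mk_iff] at h
  obtain ⟨u, hu⟩ := h
  unfold ratio
  set o := (ProjGenLinGroup.mk_surjective
    (ProjGenLinGroup.mk g : ProjGenLinGroup (Fin 2) K)).choose
  have h0 : g 0 0 = o 0 0 * u := by
    rw [← hu]; simp [Matrix.mul_apply, Fin.sum_univ_two]
  have h1 : g 1 1 = o 1 1 * u := by
    rw [← hu]; simp [Matrix.mul_apply, Fin.sum_univ_two]
  rw [h0, h1, mul_div_mul_right _ _ u.ne_zero]

theorem ratio_ne_zero (x : stabilizer (ProjGenLinGroup (Fin 2) K) (∞ : OnePoint K)) :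
    ratio x.1 ≠ 0 := by
  obtain ⟨x, hx⟩ := x
  induction x using ProjGenLinGroup.induction_on with
  | mk g =>
    rw [mem_stabilizer_iff, mk_smul, smul_infty_eq_self_iff] at hx
    rw [ratio_mk]
    exact div_ne_zero (det_upper g hx).1 (det_upper g hx).2

/-- The homomorphism `[[a,b],[0,d]] ↦ a/d` on the stabiliser of `∞`. -/
noncomputable def muInfty : stabilizer (ProjGenLinGroup (Fin 2) K) (∞ : OnePoint K) →* Kˣ :=
  MonoidHom.mk' (fun x => Units.mk0 (ratio x.1) (ratio_ne_zero x)) (by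
    rintro ⟨x, hx⟩ ⟨y, hy⟩
    induction x using ProjGenLinGroup.induction_on with
    | mk g =>
      induction y using ProjGenLinGroup.induction_on with
      | mk h =>
        rw [mem_stabilizer_iff, mk_smul, smul_infty_eq_self_iff] at hx hy
        apply Units.ext
        simp only [Subgroup.coe_mul, Units.val_mk0, Units.val_mul]
        rw [← map_mul, ratio_mk, ratio_mk, ratio_mk]
        have h0 : (g * h) 0 0 = g 0 0 * h 0 0 := by
          simp [Matrix.mul_apply, Fin.sum_univ_two, hy]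
        have h1 : (g * h) 1 1 = g 1 1 * h 1 1 := by
          simp [Matrix.mul_apply, Fin.sum_univ_two, hx]
        rw [h0, h1, mul_div_mul_comm])

theorem muInfty_mk (g : GL (Fin 2) K)
    (hg : (ProjGenLinGroup.mk g : ProjGenLinGroup (Fin 2) K) ∈
      stabilizer (ProjGenLinGroup (Fin 2) K) (∞ : OnePoint K)) :
    ((muInfty ⟨_, hg⟩ : Kˣ) : K) = g 0 0 / g 1 1 := by
  simp [muInfty, ratio_mk]

theorem muInfty_eq_one_iff (p : ℕ) [Fact p.Prime] [CharP K p]
    (x : stabilizer (ProjGenLinGroup (Fin 2) K) (∞ : OnePoint K)) :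
    muInfty x = 1 ↔ x ^ p = 1 := by
  obtain ⟨x, hx⟩ := x
  induction x using ProjGenLinGroup.induction_on with
  | mk g =>
    have hx' := hx
    rw [mem_stabilizer_iff, mk_smul, smul_infty_eq_self_iff] at hx'
    rw [Units.ext_iff, muInfty_mk, Units.val_one, div_eq_one_iff_eq (det_upper g hx').2,
      ← pow_char_eq_one_iff p g hx', Subtype.ext_iff]
    simp

theorem exists_mu (p : ℕ) [Fact p.Prime] [CharP K p] (ω : OnePoint K) :
    ∃ μ : stabilizer (ProjGenLinGroup (Fin 2) K) ω →* Kˣ, ∀ x, μ x = 1 ↔ x ^ p = 1 := by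
  obtain ⟨γ, rfl⟩ := exists_smul_infty ω
  let e := stabilizerEquivStabilizer (G := ProjGenLinGroup (Fin 2) K) (g := γ)
    (a := (∞ : OnePoint K)) rfl
  refine ⟨muInfty.comp e.symm.toMonoidHom, fun x => ?_⟩
  rw [MonoidHom.comp_apply, muInfty_eq_one_iff p]
  change (e.symm x) ^ p = 1 ↔ _
  rw [← map_pow, MulEquiv.map_eq_one_iff]

end Cfsg.Agent.Lib.Helper6PGL2Fix
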