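import Mathlib

/-!
# Pole actions (abstract setting for Dickson's theorem on subgroups of `PGL₂(q)`)

`IsPoleAction Γ Ω p A`: the group `Γ` acts on `Ω` so that every non-identity element fixes one or
two points, exactly one iff it is killed by `p`, and every point stabiliser has a homomorphism to
the group `A` whose kernel consists of the elements killed by `p`.
-/

set_option autoImplicit false

namespace Cfsg.Agent.Lib.Helper6Pole

open MulAction

/-- Abstract axioms satisfied by a subgroup of `PGL₂(F)` acting on the projective line over the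
quadratic extension of `F`. -/
structure IsPoleAction (Γ Ω : Type*) [Group Γ] [MulAction Γ Ω] (p : ℕ) (A : Type*) [CommGroup A] :
    Prop where
  fix : ∀ x : Γ, x ≠ 1 → (fixedBy Ω x).ncard = 1 ∨ (fixedBy Ω x).ncard = 2
  fix_one : ∀ x : Γ, x ≠ 1 → ((fixedBy Ω x).ncard = 1 ↔ x ^ p = 1)
  stab : ∀ ω : Ω, ∃ μ : stabilizer Γ ω →* A, ∀ x, μ x = 1 ↔ x ^ p = 1

/-- Pull back a pole action along an injective homomorphism. -/
theorem IsPoleAction.comap {Γ Γ' Ω A : Type*} [Group Γ] [Group Γ'] [MulAction Γ Ω] [CommGroup A]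
    {p : ℕ} (h : IsPoleAction Γ Ω p A) (φ : Γ' →* Γ) (hφ : Function.Injective φ) :
    letI := MulAction.compHom Ω φ
    IsPoleAction Γ' Ω p A := by
  letI := MulAction.compHom Ω φ
  have hfix : ∀ x : Γ', fixedBy Ω x = fixedBy Ω (φ x) := fun x => rfl
  have hne : ∀ x : Γ', x ≠ 1 → φ x ≠ 1 := fun x hx h1 => hx (hφ (by rw [h1, map_one]))
  have hpow : ∀ x : Γ', x ^ p = 1 ↔ φ x ^ p = 1 := by
    intro x
    rw [← map_pow]
    exact ⟨fun h => by rw [h, map_one], fun h => hφ (by rw [h, map_one])⟩
  refine ⟨fun x hx => ?_, fun x hx => ?_, fun ω => ?_⟩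
  · rw [hfix]; exact h.fix _ (hne x hx)
  · rw [hfix, hpow]; exact h.fix_one _ (hne x hx)
  · obtain ⟨μ, hμ⟩ := h.stab ω
    let ψ : stabilizer Γ' ω →* stabilizer Γ ω :=
      { toFun := fun x => ⟨φ x.1, x.2⟩
        map_one' := Subtype.ext (map_one φ)
        map_mul' := fun x y => Subtype.ext (map_mul φ x.1 y.1) }
    refine ⟨μ.comp ψ, fun x => ?_⟩
    rw [MonoidHom.comp_apply, hμ]
    constructor
    · intro hx
      have := congrArg Subtype.val hx
      apply Subtype.ext
      simpa using (hpow x.1).2 (by simpa [ψ] using this)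
    · intro hx
      have := congrArg Subtype.val hx
      apply Subtype.ext
      simpa [ψ] using (hpow x.1).1 (by simpa using this)

end Cfsg.Agent.Lib.Helper6Pole
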