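import Mathlib

set_option autoImplicit false

namespace Cfsg.Agent.Lib.Helper6Simple

variable {G : Type*} [Group G]

/-- a simple group of order > 2 has no subgroup of index 2 -/
theorem no_index_two [Finite G] [IsSimpleGroup G] (hgt : 2 < Nat.card G) (H : Subgroup G) :
    H.index ≠ 2 := by
  intro h
  have hn : H.Normal := Subgroup.normal_of_index_eq_two h
  rcases hn.eq_bot_or_eq_top with h1 | h1
  · rw [h1, Subgroup.index_bot] at h
    omega
  · rw [h1, Subgroup.index_top] at h
    omega

/-- a simple group with a proper subgroup of index `k` embeds in `Perm (Fin k)` -/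
theorem exists_embedding [Finite G] [IsSimpleGroup G] (H : Subgroup G) (hH : H ≠ ⊤) :
    ∃ f : G →* Equiv.Perm (Fin H.index), Function.Injective f := by
  classical
  let φ := MulAction.toPermHom G (G ⧸ H)
  have hinj : Function.Injective φ := by
    rw [← MonoidHom.ker_eq_bot_iff]
    rcases (MonoidHom.normal_ker φ).eq_bot_or_eq_top with h | h
    · exact h
    · exfalso
      apply hH
      rw [← Subgroup.normalCore_eq_ker] at h
      exact top_le_iff.1 (h ▸ H.normalCore_le)
  have e : (G ⧸ H) ≃ Fin H.index := Finite.equivFinOfCardEq (Subgroup.index_eq_card H).symm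
  exact ⟨(e.permCongrHom.toMonoidHom).comp φ, e.permCongrHom.injective.comp hinj⟩

/-- a hom from a group without subgroups of index 2 to a symmetric group lands in the
alternating group -/
theorem mem_alternating_of_no_index_two (hno : ∀ H : Subgroup G, H.index ≠ 2)
    {k : ℕ} (f : G →* Equiv.Perm (Fin k)) (g : G) : f g ∈ alternatingGroup (Fin k) := by
  classical
  let s : G →* ℤˣ := Equiv.Perm.sign.comp f
  have h1 : s.ker.index = Nat.card s.range := Subgroup.index_ker s
  have h2 : Nat.card s.range ∣ 2 := by
    have := Subgroup.card_subgroup_dvd_card s.range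
    rwa [Nat.card_eq_fintype_card (α := ℤˣ), Fintype.card_units_int] at this
  have h3 : s.ker.index = 1 := by
    rcases (Nat.dvd_prime Nat.prime_two).1 h2 with h | h
    · rw [h1, h]
    · exact absurd (h1.trans h) (hno _)
  rw [Subgroup.index_eq_one] at h3
  have h4 : g ∈ s.ker := h3 ▸ Subgroup.mem_top g
  rw [Equiv.Perm.mem_alternatingGroup]
  exact h4

/-- order bound: `2 |G|` divides `k!` -/
theorem two_mul_card_dvd_factorial [Finite G] [IsSimpleGroup G] (hgt : 2 < Nat.card G)
    (H : Subgroup G) (hH : H ≠ ⊤) : 2 * Nat.card G ∣ (H.index).factorial := by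
  classical
  obtain ⟨f, hf⟩ := exists_embedding H hH
  have hle : f.range ≤ alternatingGroup (Fin H.index) := by
    rintro _ ⟨g, rfl⟩
    exact mem_alternating_of_no_index_two (no_index_two hgt) f g
  have h1 : Nat.card f.range = Nat.card G := (Nat.card_congr (MonoidHom.ofInjective hf).toEquiv).symm
  have h2 := Subgroup.card_dvd_of_le hle
  have hidx : 1 < H.index := by
    have h0 : H.index ≠ 0 := Subgroup.index_ne_zero_of_finite
    have h1 : H.index ≠ 1 := fun h => hH (Subgroup.index_eq_one.1 h)
    omega
  have : Nontrivial (Fin H.index) := Fin.nontrivial_iff_two_le.2 hidx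
  have h3 := two_mul_nat_card_alternatingGroup (α := Fin H.index)
  rw [Nat.card_eq_fintype_card (α := Equiv.Perm (Fin H.index)), Fintype.card_perm,
    Fintype.card_fin] at h3
  rw [← h3, ← h1]
  exact Nat.mul_dvd_mul_left 2 h2

end Cfsg.Agent.Lib.Helper6Simple
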