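import Mathlib

/-!
# Solubilizers: general lemmas
-/

set_option autoImplicit false

namespace Cfsg.Agent.Lib.Helper6Sol

variable {G G' : Type*} [Group G] [Group G']

/-- `x` and `y` generate a solvable subgroup -/
def Sol (x y : G) : Prop := Group.IsSolvable (Subgroup.closure ({x, y} : Set G))

theorem sol_map_iff (φ : G ≃* G') (x y : G) : Sol (φ x) (φ y) ↔ Sol x y := by
  have h : Subgroup.closure ({φ x, φ y} : Set G') =
      (Subgroup.closure ({x, y} : Set G)).map φ.toMonoidHom := by
    rw [MonoidHom.map_closure, Set.image_pair]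
    rfl
  have e := (Subgroup.closure ({x, y} : Set G)).equivMapOfInjective φ.toMonoidHom φ.injective
  unfold Sol
  rw [h]
  constructor
  · intro h1
    exact Group.isSolvable_of_isSolvable_injective (f := e.toMonoidHom) e.injective
  · intro h1
    exact Group.isSolvable_of_isSolvable_injective (f := e.symm.toMonoidHom) e.symm.injective

theorem card_sol_equiv (φ : G ≃* G') (x : G) :
    Nat.card {y' : G' // Sol (φ x) y'} = Nat.card {y : G // Sol x y} := by
  symm
  apply Nat.card_congr
  exact φ.toEquiv.subtypeEquiv (fun y => (sol_map_iff φ x y).symm)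

theorem sol_of_mem {H : Subgroup G} (hH : Group.IsSolvable H) {x y : G} (hx : x ∈ H) (hy : y ∈ H) :
    Sol x y := by
  have hle : Subgroup.closure ({x, y} : Set G) ≤ H := by
    rw [Subgroup.closure_le]
    rintro z (rfl | rfl)
    · exact hx
    · exact hy
  exact Group.isSolvable_of_isSolvable_injective (f := Subgroup.inclusion hle)
    (Subgroup.inclusion_injective hle)

theorem exists_abelian_normal (H : Type*) [Group H] [hs : Group.IsSolvable H] [Nontrivial H] :
    ∃ N : Subgroup H, N.Normal ∧ N ≠ ⊥ ∧ ∀ a ∈ N, ∀ b ∈ N, a * b = b * a := by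
  classical
  obtain ⟨h⟩ := hs
  have h0 : Nat.find h ≠ 0 := by
    intro h0
    have := Nat.find_spec h
    rw [h0, derivedSeries_zero] at this
    exact top_ne_bot this
  obtain ⟨k, hk⟩ := Nat.exists_eq_succ_of_ne_zero h0
  refine ⟨derivedSeries H k, derivedSeries_normal H k, ?_, ?_⟩
  · exact Nat.find_min h (by omega)
  · intro a ha b hb
    have := Nat.find_spec h
    rw [hk, Nat.succ_eq_add_one, derivedSeries_succ] at this
    have h1 := Subgroup.commutator_mem_commutator ha hb
    rw [this, Subgroup.mem_bot, commutatorElement_eq_one_iff_mul_comm] at h1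
    exact h1

theorem exists_of_sol {x y : G} (h : Sol x y) (hx : x ≠ 1) :
    ∃ n : G, n ≠ 1 ∧ Commute (x * n * x⁻¹) n ∧ Commute (y * n * y⁻¹) n := by
  unfold Sol at h
  set H := Subgroup.closure ({x, y} : Set G) with hH
  have hxH : x ∈ H := Subgroup.subset_closure (by simp)
  have hyH : y ∈ H := Subgroup.subset_closure (by simp)
  have : Nontrivial H := ⟨⟨⟨x, hxH⟩, 1, fun h => hx (congrArg Subtype.val h)⟩⟩
  obtain ⟨N, hN, hNb, hcomm⟩ := exists_abelian_normal H
  obtain ⟨⟨n, hn⟩, hn1'⟩ := Subgroup.ne_bot_iff_exists_ne_one.1 hNb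
  have hn1 : n ≠ 1 := fun h => hn1' (Subtype.ext h)
  refine ⟨(n : G), fun h => hn1 (Subtype.ext h), ?_, ?_⟩
  · have := hcomm _ (hN.conj_mem n hn ⟨x, hxH⟩) n hn
    exact congrArg Subtype.val this
  · have := hcomm _ (hN.conj_mem n hn ⟨y, hyH⟩) n hn
    exact congrArg Subtype.val this

theorem ncard_three {α : Type*} [Finite α] {X Y W U : Set α} (hXY : X ∩ Y = U) (hXW : X ∩ W = U)
    (hYW : Y ∩ W = U) : (X ∪ Y ∪ W).ncard + 2 * U.ncard = X.ncard + Y.ncard + W.ncard := by
  have h1 := Set.ncard_union_add_ncard_inter X Y (Set.toFinite _) (Set.toFinite _)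
  have h2 := Set.ncard_union_add_ncard_inter (X ∪ Y) W (Set.toFinite _) (Set.toFinite _)
  rw [Set.union_inter_distrib_right, hXW, hYW, Set.union_self] at h2
  rw [hXY] at h1
  omega

end Cfsg.Agent.Lib.Helper6Sol
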