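import Mathlib
import Cfsg.Agent.Lib.Helper6Sol
import Cfsg.Agent.Lib.Helper6DkMin

/-!
# Solubilizers in `SL₂(F)`, characteristic 2
-/

set_option autoImplicit false

namespace Cfsg.Agent.Lib.Helper6Sol

open Matrix Cfsg.Agent.Lib.Helper46SL2 Cfsg.Agent.Lib.Helper41SL2 Cfsg.Agent.Lib.Helper41Dk
  Cfsg.Agent.Lib.Helper6DkCor

local notation "SL2" => Matrix.SpecialLinearGroup (Fin 2)

variable {F : Type*} [Field F] [CharP F 2]

theorem four_eq_zero : (4 : F) = 0 := by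
  have : (4 : F) = 2 * 2 := by norm_num
  rw [this, CharTwo.two_eq_zero, mul_zero]

theorem neg_one_eq_one : (-1 : SL2 F) = 1 := by
  apply ext2 <;> rw [Cfsg.Agent.Lib.Helper46SL2.neg_apply, CharTwo.neg_eq]

theorem not_mem_center {n : SL2 F} (hn : n ≠ 1) : n ∉ Subgroup.center (SL2 F) := by
  rw [mem_center_iff_eq, neg_one_eq_one, or_self]
  exact hn

theorem center_eq_bot : Subgroup.center (SL2 F) = ⊥ := by
  rw [eq_bot_iff]
  intro n hn
  rw [Subgroup.mem_bot]
  by_contra h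
  exact not_mem_center h hn

theorem tr_sq_ne_four {n : SL2 F} (h : tr n ≠ 0) : tr n ^ 2 ≠ 4 := by
  rw [four_eq_zero]
  exact pow_ne_zero 2 h

theorem sq_eq_one_iff_tr {y : SL2 F} : y * y = 1 ↔ tr y = 0 := by
  constructor
  · intro h
    by_contra ht
    have h1 : ∀ i j, tr y * y i j = 0 := by
      intro i j
      have := sq_eq y i j
      rw [h] at this
      have h2 : tr y * y i j = (1 : SL2 F) i j + (1 : SL2 F) i j := by linear_combination -this
      rw [h2, CharTwo.add_self_eq_zero]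
    have h00 := (mul_eq_zero.1 (h1 0 0)).resolve_left ht
    have h01 := (mul_eq_zero.1 (h1 0 1)).resolve_left ht
    have := det2 y
    rw [h00, h01] at this
    simp at this
  · intro h
    rw [sq_eq_neg_one_of_tr_eq_zero h, neg_one_eq_one]

/-- `g` normalizes the centralizer of `n` -/
def RR (g n : SL2 F) : Prop := Commute (g * n * g⁻¹) n

omit [CharP F 2] in
theorem RR_conj (c g n : SL2 F) (h : RR g n) : RR (c * g * c⁻¹) (c * n * c⁻¹) := by
  unfold RR at *
  have : c * g * c⁻¹ * (c * n * c⁻¹) * (c * g * c⁻¹)⁻¹ = c * (g * n * g⁻¹) * c⁻¹ := by group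
  rw [this]
  exact (Commute.conj_iff c).2 h

omit [CharP F 2] in
theorem mem_Bor_of_RR {g : SL2 F} {b : F} (hb : b ≠ 0) (h : RR g (uu b)) : g ∈ Bor F := by
  have h1 := ((commute_uu_iff hb).1 h).1
  rw [conj_uu_10] at h1
  rw [mem_Bor]
  have h2 : b * g 1 0 ^ 2 = 0 := by linear_combination -h1
  exact pow_eq_zero_iff (two_ne_zero) |>.1 ((mul_eq_zero.1 h2).resolve_left hb)

theorem exists_conj_Bor {n : SL2 F} (hn : n ≠ 1) (ht : tr n = 0) :
    ∃ c : SL2 F, ∀ g, RR g n → c * g * c⁻¹ ∈ Bor F := by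
  obtain ⟨b, hb, hc⟩ := exists_isConj_uu (not_mem_center hn) (by rw [ht, CharTwo.two_eq_zero])
  obtain ⟨c, hc⟩ := isConj_iff.1 hc
  refine ⟨c, fun g hg => ?_⟩
  have := RR_conj c g n hg
  rw [hc] at this
  exact mem_Bor_of_RR hb this

omit [CharP F 2] in
theorem cases_of_RR {g n : SL2 F} (ht : tr n ^ 2 ≠ 4) (h : RR g n) :
    g * n * g⁻¹ = n ∨ g * n * g⁻¹ = n⁻¹ :=
  eq_or_eq_inv_of_commute ht h (tr_conj n g)

theorem sol_of_RR [Finite F] {n A B : SL2 F} (hn : n ≠ 1) (hA : RR A n) (hB : RR B n) : Sol A B := by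
  by_cases ht : tr n = 0
  · obtain ⟨c, hc⟩ := exists_conj_Bor hn ht
    have := sol_of_mem solvable_Bor (hc A hA) (hc B hB)
    exact (sol_map_iff (MulAut.conj c) A B).1 this
  · have ht' := tr_sq_ne_four ht
    exact sol_of_mem (solvable_normalizer ht')
      ((mem_normalizer_centralizer_iff ht').2 (cases_of_RR ht' hA))
      ((mem_normalizer_centralizer_iff ht').2 (cases_of_RR ht' hB))

theorem sol_iff [Finite F] {A B : SL2 F} (hA : A ≠ 1) :
    Sol A B ↔ ∃ n : SL2 F, n ≠ 1 ∧ RR A n ∧ RR B n :=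
  ⟨fun h => exists_of_sol h hA, fun ⟨_, hn, h1, h2⟩ => sol_of_RR hn h1 h2⟩

end Cfsg.Agent.Lib.Helper6Sol
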