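import Mathlib
import Cfsg.Agent.Lib.Helper6Sol2
import Cfsg.Agent.Lib.Helper41Dk18

/-!
# Solubilizers in `SL₂(F)`, characteristic 2: involutions
-/

set_option autoImplicit false

namespace Cfsg.Agent.Lib.Helper6Sol

open Matrix Cfsg.Agent.Lib.Helper46SL2 Cfsg.Agent.Lib.Helper41SL2 Cfsg.Agent.Lib.Helper41Dk
  Cfsg.Agent.Lib.Helper6DkCor

local notation "SL2" => Matrix.SpecialLinearGroup (Fin 2)

variable {F : Type*} [Field F]

theorem RR_of_inverts {g n : SL2 F} (h : g * n * g⁻¹ = n⁻¹) : RR g n := by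
  unfold RR; rw [h]; exact (Commute.refl n).inv_left

theorem RR_of_commute {g n : SL2 F} (h : g * n * g⁻¹ = n) : RR g n := by
  unfold RR; rw [h]

theorem tr_mul_self (X : SL2 F) : tr (X * X) = tr X ^ 2 - 2 := by
  have h0 := sq_eq X 0 0
  have h1 := sq_eq X 1 1
  simp only [one_00, one_11] at h0 h1
  simp only [tr] at *
  rw [h0, h1]
  ring

variable [CharP F 2]

theorem commute_of_RR_invol {A n : SL2 F} (hA : A * A = 1) (hn : n * n = 1) (h : RR A n) :
    Commute A n := by
  have hAi : A⁻¹ = A := inv_eq_of_mul_eq_one_left hA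
  have hni : n⁻¹ = n := inv_eq_of_mul_eq_one_left hn
  unfold RR at h
  rw [hAi] at h
  have hc : A * n * A * n = n * (A * n * A) := h
  have h1 : (A * n * (A * n)) * (A * n * (A * n)) = 1 := by
    calc (A * n * (A * n)) * (A * n * (A * n)) = (A * n * A * n) * (A * n * A) * n := by group
      _ = n * (A * n * A) * (A * n * A) * n := by rw [hc]
      _ = n * (A * n * (A * A) * n * A) * n := by group
      _ = n * (A * (n * n) * A) * n := by rw [hA]; group
      _ = 1 := by rw [hn, mul_one, hA, mul_one, hn]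
  have h2 := sq_eq_one_iff_tr.1 h1
  rw [tr_mul_self, (CharTwo.two_eq_zero : (2 : F) = 0), sub_zero] at h2
  have h3 : tr (A * n) = 0 := pow_eq_zero_iff (two_ne_zero) |>.1 h2
  have h4 := sq_eq_one_iff_tr.2 h3
  show A * n = n * A
  calc A * n = (A * n) * (A * n * (A * n)) * (n⁻¹ * A⁻¹) * (n⁻¹ * A⁻¹) := by group
    _ = n * A := by rw [h4, hni, hAi]; calc A * n * 1 * (n * A) * (n * A) = A * (n * n) * A * (n * A) := by group
                      _ = n * A := by rw [hn, mul_one, hA, one_mul]

theorem tr_uu (b : F) : tr (uu b) = 0 := by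
  simp only [tr, uu_00, uu_11]
  exact CharTwo.add_self_eq_zero 1

theorem mem_UU_of_Bor_of_tr' {g : SL2 F} (hg : g ∈ Bor F) (ht : tr g = 0) : g ∈ UU F :=
  mem_UU_of_Bor_of_tr hg (by rw [ht, CharTwo.two_eq_zero])

theorem tr_of_mem_UU {g : SL2 F} (hg : g ∈ UU F) : tr g = 0 := by
  rw [eq_uu_of_mem hg, tr_uu]

theorem sol_uu_iff [Finite F] {b : F} (hb : b ≠ 0) (B : SL2 F) :
    Sol (uu b) B ↔ B ∈ ((Bor F : Set (SL2 F)) ∪ {y | tr y = 0} ∪ {y | tr (uu b * y) = 0}) := by
  have hA1 : uu b ≠ 1 := uu_ne_one hb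
  have hAA : uu b * uu b = 1 := sq_eq_one_iff_tr.2 (tr_uu b)
  have hAi : (uu b)⁻¹ = uu b := inv_eq_of_mul_eq_one_left hAA
  rw [sol_iff hA1]
  constructor
  · rintro ⟨n, hn, hAn, hBn⟩
    by_cases ht : tr n = 0
    · have hnn : n * n = 1 := sq_eq_one_iff_tr.2 ht
      have hc := commute_of_RR_invol hAA hnn hAn
      have h1 := ((commute_uu_iff hb).1 hc.symm).1
      have h2 : n ∈ UU F := mem_UU_of_Bor_of_tr' h1 ht
      have h3 := eq_uu_of_mem h2
      have h4 : n 0 1 ≠ 0 := by
        intro h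
        rw [h, uu_zero] at h3
        exact hn h3
      rw [h3] at hBn
      exact Or.inl (Or.inl (mem_Bor_of_RR h4 hBn))
    · have ht' := tr_sq_ne_four ht
      rcases cases_of_RR ht' hAn with h | h
      · exfalso
        have hc : Commute n (uu b) := by
          show n * uu b = uu b * n
          calc n * uu b = (uu b * n * (uu b)⁻¹) * uu b := by rw [h]
            _ = uu b * n := by group
        obtain ⟨h1, h2⟩ := (commute_uu_iff hb).1 hc
        apply ht
        simp only [tr]
        rw [h2]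
        exact CharTwo.add_self_eq_zero _
      · rcases cases_of_RR ht' hBn with h' | h'
        · refine Or.inr ?_
          apply tr_eq_zero_of_inverts ht'
          calc uu b * B * n * (uu b * B)⁻¹ = uu b * (B * n * B⁻¹) * (uu b)⁻¹ := by group
            _ = n⁻¹ := by rw [h', h]
        · exact Or.inl (Or.inr (tr_eq_zero_of_inverts ht' h'))
  · rintro ((hB | hB) | hB)
    · refine ⟨uu b, hA1, RR_of_commute (by group), ?_⟩
      exact UU_comm (conj_mem_UU_of_upper hB (uu_mem b)) (uu_mem b)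
    · have hBB : B * B = 1 := sq_eq_one_iff_tr.2 hB
      have hBi : B⁻¹ = B := inv_eq_of_mul_eq_one_left hBB
      by_cases h1 : uu b * B = 1
      · have hBA : B = uu b := by rw [← hAi]; exact (inv_eq_of_mul_eq_one_right h1).symm
        exact ⟨uu b, hA1, RR_of_commute (by group), by rw [hBA]; exact RR_of_commute (by group)⟩
      · refine ⟨uu b * B, h1, RR_of_inverts ?_, RR_of_inverts ?_⟩
        · rw [_root_.mul_inv_rev, hAi, hBi]
          calc uu b * (uu b * B) * uu b = (uu b * uu b) * B * uu b := by group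
            _ = B * uu b := by rw [hAA, one_mul]
        · rw [_root_.mul_inv_rev, hAi, hBi]
          calc B * (uu b * B) * B = B * uu b * (B * B) := by group
            _ = B * uu b := by rw [hBB, mul_one]
    · have hX : uu b * B * (uu b * B) = 1 := sq_eq_one_iff_tr.2 hB
      by_cases h1 : B = 1
      · exact ⟨uu b, hA1, RR_of_commute (by group), by rw [h1]; exact RR_of_commute (by group)⟩
      · refine ⟨B, h1, RR_of_inverts ?_, RR_of_commute (by group)⟩
        rw [hAi]
        calc uu b * B * uu b = (uu b * B * (uu b * B)) * B⁻¹ := by group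
          _ = B⁻¹ := by rw [hX, one_mul]

theorem diag_eq_of_tr {y : SL2 F} (h : tr y = 0) : y 1 1 = y 0 0 := by
  have h1 : y 0 0 + y 1 1 = 0 := h
  exact (CharTwo.add_eq_zero.1 h1).symm

theorem card_tr_zero [Fintype F] : Nat.card {y : SL2 F // tr y = 0} = Fintype.card F ^ 2 := by
  have hbij : Function.Bijective (fun y : {y : SL2 F // tr y = 0} => ((y.1 0 1, y.1 1 0) : F × F)) := by
    constructor
    · rintro ⟨y, hy⟩ ⟨y', hy'⟩ h
      simp only [Prod.mk.injEq] at h
      obtain ⟨h01, h10⟩ := h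
      have e := diag_eq_of_tr hy
      have e' := diag_eq_of_tr hy'
      have d := det2 y
      have d' := det2 y'
      rw [e] at d
      rw [e', ← h01, ← h10] at d'
      have h00 : y 0 0 = y' 0 0 := by
        apply CharTwo.sq_injective (R := F)
        show y 0 0 ^ 2 = y' 0 0 ^ 2
        linear_combination d - d'
      apply Subtype.ext
      exact ext2 h00 h01 h10 (by rw [e, e', h00])
    · rintro ⟨b, c⟩
      obtain ⟨s, hs⟩ := FiniteField.isSquare_of_char_two (ringChar.eq F 2) (1 + b * c)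
      refine ⟨⟨mk2 s b c s (by rw [← hs]; ring), ?_⟩, rfl⟩
      show s + s = 0
      exact CharTwo.add_self_eq_zero s
  rw [Nat.card_congr (Equiv.ofBijective _ hbij), Nat.card_prod, Nat.card_eq_fintype_card, sq]

theorem card_sol_uu [Fintype F] {b : F} (hb : b ≠ 0) :
    Nat.card {B : SL2 F // Sol (uu b) B} = 3 * Fintype.card F * (Fintype.card F - 1) := by
  have hfin : Finite (SL2 F) := inferInstance
  have hset : {B : SL2 F | Sol (uu b) B} =
      ((Bor F : Set (SL2 F)) ∪ {y | tr y = 0} ∪ {y | tr (uu b * y) = 0}) := by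
    ext B
    exact sol_uu_iff hb B
  have hXY : (Bor F : Set (SL2 F)) ∩ {y | tr y = 0} = (UU F : Set (SL2 F)) := by
    ext y
    constructor
    · rintro ⟨h1, h2⟩
      exact mem_UU_of_Bor_of_tr' h1 h2
    · intro h
      exact ⟨h.2.1, tr_of_mem_UU h⟩
  have hXW : (Bor F : Set (SL2 F)) ∩ {y | tr (uu b * y) = 0} = (UU F : Set (SL2 F)) := by
    ext y
    constructor
    · rintro ⟨h1, h2⟩
      have h3 : uu b * y ∈ UU F :=
        mem_UU_of_Bor_of_tr' ((Bor F).mul_mem (show uu b ∈ Bor F from rfl) h1) h2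
      have h4 := (UU F).mul_mem ((UU F).inv_mem (uu_mem b)) h3
      rwa [inv_mul_cancel_left] at h4
    · intro h
      exact ⟨h.2.1, tr_of_mem_UU ((UU F).mul_mem (uu_mem b) h)⟩
  have hYW : ({y | tr y = 0} : Set (SL2 F)) ∩ {y | tr (uu b * y) = 0} = (UU F : Set (SL2 F)) := by
    ext y
    constructor
    · rintro ⟨h1, h2⟩
      have h1' : tr y = 0 := h1
      have h2' : tr (uu b * y) = 0 := h2
      have h3 : b * y 1 0 = 0 := by
        simp only [tr, mul_00, mul_11, uu_00, uu_01, uu_10, uu_11] at h1' h2'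
        linear_combination h2' - h1'
      exact mem_UU_of_Bor_of_tr' ((mul_eq_zero.1 h3).resolve_left hb) h1'
    · intro h
      exact ⟨tr_of_mem_UU h, tr_of_mem_UU ((UU F).mul_mem (uu_mem b) h)⟩
  have key := ncard_three hXY hXW hYW
  rw [← hset] at key
  have c1 : (Bor F : Set (SL2 F)).ncard = Fintype.card F * (Fintype.card F - 1) := by
    rw [← card_Bor]; exact (Nat.card_coe_set_eq _).symm
  have c2 : ({y | tr y = 0} : Set (SL2 F)).ncard = Fintype.card F ^ 2 := by
    rw [← card_tr_zero]; exact (Nat.card_coe_set_eq _).symm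
  have c3 : ({y | tr (uu b * y) = 0} : Set (SL2 F)).ncard = Fintype.card F ^ 2 := by
    rw [← card_tr_zero, ← Nat.card_coe_set_eq]
    exact Nat.card_congr ((Equiv.mulLeft (uu b)).subtypeEquiv (fun y => Iff.rfl))
  have c4 : (UU F : Set (SL2 F)).ncard = Fintype.card F := by
    rw [← card_UU]; exact (Nat.card_coe_set_eq _).symm
  have c5 : Nat.card {B : SL2 F // Sol (uu b) B} = {B : SL2 F | Sol (uu b) B}.ncard :=
    Nat.card_coe_set_eq _
  rw [c1, c2, c3, c4] at key
  rw [c5]
  obtain ⟨k, hk⟩ : ∃ k, Fintype.card F = k + 1 := ⟨Fintype.card F - 1, by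
    have := Fintype.card_pos (α := F); omega⟩
  rw [hk] at key ⊢
  rw [Nat.add_sub_cancel] at key ⊢
  nlinarith [key]

end Cfsg.Agent.Lib.Helper6Sol
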