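import Mathlib
import Cfsg.Agent.Lib.Helper6Sol3

/-!
# Solubilizers in `SL₂(F)`, characteristic 2: semisimple elements
-/

set_option autoImplicit false

namespace Cfsg.Agent.Lib.Helper6Sol

open Matrix Cfsg.Agent.Lib.Helper46SL2 Cfsg.Agent.Lib.Helper41SL2 Cfsg.Agent.Lib.Helper41Dk
  Cfsg.Agent.Lib.Helper6DkCor

local notation "SL2" => Matrix.SpecialLinearGroup (Fin 2)

variable {F : Type*} [Field F]

/-- the Weyl element -/
def ww (F : Type*) [Field F] : SL2 F := mk2 0 1 (-1) 0 (by ring)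

theorem ww_conj_10 (y : SL2 F) : (ww F * y * (ww F)⁻¹) 1 0 = - y 0 1 := by
  have e10 : (ww F) 1 0 = -1 := rfl
  have e11 : (ww F) 1 1 = 0 := rfl
  simp only [mul_10, mul_11, inv_00, inv_10, e10, e11]
  ring

variable [CharP F 2]

theorem mem_normalizer_of_RR_ss {A B n : SL2 F} (hA1 : A ≠ 1) (htA : tr A ≠ 0) (hn : tr n ≠ 0)
    (hAn : RR A n) (hBn : RR B n) :
    B ∈ Subgroup.normalizer ((Subgroup.centralizer {A} : Subgroup (SL2 F)) : Set (SL2 F)) := by
  have ht' := tr_sq_ne_four hn
  have hn1 : n ≠ 1 := by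
    rintro rfl
    apply hn
    rw [tr_one]; exact CharTwo.two_eq_zero
  rcases cases_of_RR ht' hAn with h | h
  · have hc : n * A = A * n := by
      calc n * A = (A * n * A⁻¹) * A := by rw [h]
        _ = A * n := by group
    rw [← centralizer_eq_of_commute (not_mem_center hA1) (not_mem_center hn1) hc]
    exact (mem_normalizer_centralizer_iff ht').2 (cases_of_RR ht' hBn)
  · exact absurd (tr_eq_zero_of_inverts ht' h) htA

omit [CharP F 2] in
theorem self_mem_normalizer (A : SL2 F) :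
    A ∈ Subgroup.normalizer ((Subgroup.centralizer {A} : Subgroup (SL2 F)) : Set (SL2 F)) :=
  centralizer_le_normalizer A (mem_centralizer_iff.2 rfl)

theorem sol_nonSplit_iff [Finite F] {A : SL2 F} (hNS : NonSplit (tr A)) (B : SL2 F) :
    Sol A B ↔
      B ∈ Subgroup.normalizer ((Subgroup.centralizer {A} : Subgroup (SL2 F)) : Set (SL2 F)) := by
  have htA : tr A ≠ 0 := by
    intro h
    apply hNS.sq_ne_four
    rw [h, four_eq_zero]; ring
  have hA1 : A ≠ 1 := by
    rintro rfl
    apply htA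
    rw [tr_one]; exact CharTwo.two_eq_zero
  constructor
  · intro h
    obtain ⟨n, hn, hAn, hBn⟩ := (sol_iff hA1).1 h
    by_cases ht : tr n = 0
    · exfalso
      obtain ⟨c, hc⟩ := exists_conj_Bor hn ht
      have h1 := hc A hAn
      have h2 := diag_of_mem_Bor h1
      have h3 : (c * A * c⁻¹) 0 0 ≠ 0 := by
        intro h0; rw [h0, zero_mul] at h2; exact zero_ne_one h2
      apply (nonSplit_iff.1 hNS) _ h3
      rw [← tr_conj A c]
      simp only [tr]
      congr 1
      exact (eq_inv_of_mul_eq_one_right h2).symm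
    · exact mem_normalizer_of_RR_ss hA1 htA ht hAn hBn
  · intro h
    exact sol_of_mem (solvable_normalizer (tr_sq_ne_four htA)) (self_mem_normalizer A) h

theorem card_sol_nonSplit [Fintype F] {A : SL2 F} (hNS : NonSplit (tr A)) :
    Nat.card {B : SL2 F // Sol A B} = 2 * (Fintype.card F + 1) := by
  rw [← card_centralizer_nonSplit hNS, ← card_normalizer_centralizer hNS.sq_ne_four]
  exact Nat.card_congr (Equiv.subtypeEquivRight (fun B => sol_nonSplit_iff hNS B))

theorem eq_one_of_sq_eq_one {a : F} (h : a ^ 2 = 1) : a = 1 := by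
  apply CharTwo.sq_injective (R := F)
  show a ^ 2 = 1 ^ 2
  rw [h, one_pow]

theorem tr_dg_ne_zero {a : F} (ha : a ≠ 0) (h1 : a ^ 2 ≠ 1) : tr (dg a ha) ≠ 0 := by
  rw [tr_dg]
  intro h
  apply h1
  have h2 : a * (a + a⁻¹) = 0 := by rw [h, mul_zero]
  rw [mul_add, mul_inv_cancel₀ ha] at h2
  have h3 := CharTwo.add_eq_zero.1 h2
  rw [sq, h3]

omit [CharP F 2] in
theorem commute_dg_iff {a : F} (ha : a ≠ 0) (h1 : a ^ 2 ≠ 1) {y : SL2 F} :
    y * dg a ha = dg a ha * y ↔ y 0 1 = 0 ∧ y 1 0 = 0 := by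
  have e00 : (dg a ha) 0 0 = a := rfl
  have e01 : (dg a ha) 0 1 = 0 := rfl
  have e10 : (dg a ha) 1 0 = 0 := rfl
  have e11 : (dg a ha) 1 1 = a⁻¹ := rfl
  have hne : a - a⁻¹ ≠ 0 := by
    intro h
    apply h1
    have h2 : a * (a - a⁻¹) = 0 := by rw [h, mul_zero]
    rw [mul_sub, mul_inv_cancel₀ ha] at h2
    linear_combination h2
  constructor
  · intro h
    have h01 := congrArg (fun B : SL2 F => B 0 1) h
    have h10 := congrArg (fun B : SL2 F => B 1 0) h
    simp only [mul_01, mul_10, e00, e01, e10, e11] at h01 h10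
    constructor
    · have : (a - a⁻¹) * y 0 1 = 0 := by linear_combination -h01
      exact (mul_eq_zero.1 this).resolve_left hne
    · have : (a - a⁻¹) * y 1 0 = 0 := by linear_combination h10
      exact (mul_eq_zero.1 this).resolve_left hne
  · rintro ⟨h01, h10⟩
    apply ext2 <;> simp only [mul_00, mul_01, mul_10, mul_11, e00, e01, e10, e11, h01, h10] <;> ring

omit [CharP F 2] in
theorem not_inverts_dg {a : F} (ha : a ≠ 0) (h1 : a ^ 2 ≠ 1) {y : SL2 F} (h0 : y 0 0 ≠ 0) :
    y * dg a ha * y⁻¹ ≠ (dg a ha)⁻¹ := by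
  intro h
  have e00 : (dg a ha) 0 0 = a := rfl
  have e01 : (dg a ha) 0 1 = 0 := rfl
  have e10 : (dg a ha) 1 0 = 0 := rfl
  have e11 : (dg a ha) 1 1 = a⁻¹ := rfl
  have h2 : y * dg a ha = (dg a ha)⁻¹ * y := by
    calc y * dg a ha = y * dg a ha * y⁻¹ * y := by group
      _ = (dg a ha)⁻¹ * y := by rw [h]
  have h00 := congrArg (fun B : SL2 F => B 0 0) h2
  simp only [mul_00, inv_00, inv_01, e00, e01, e10, e11] at h00
  have h3 : (a - a⁻¹) * y 0 0 = 0 := by linear_combination h00
  have hne : a - a⁻¹ ≠ 0 := by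
    intro h
    apply h1
    have h2 : a * (a - a⁻¹) = 0 := by rw [h, mul_zero]
    rw [mul_sub, mul_inv_cancel₀ ha] at h2
    linear_combination h2
  exact h0 ((mul_eq_zero.1 h3).resolve_left hne)

theorem sol_dg_iff [Finite F] {a : F} (ha : a ≠ 0) (h1 : a ^ 2 ≠ 1) (B : SL2 F) :
    Sol (dg a ha) B ↔ B ∈ ((Bor F : Set (SL2 F)) ∪ {y | y 0 1 = 0} ∪
      (Subgroup.normalizer ((Subgroup.centralizer {dg a ha} : Subgroup (SL2 F)) : Set (SL2 F)) :
        Set (SL2 F))) := by
  have e00 : (dg a ha) 0 0 = a := rfl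
  have e01 : (dg a ha) 0 1 = 0 := rfl
  have e10 : (dg a ha) 1 0 = 0 := rfl
  have e11 : (dg a ha) 1 1 = a⁻¹ := rfl
  have htA := tr_dg_ne_zero ha h1
  have hA1 : dg a ha ≠ 1 := by
    intro h
    apply htA
    rw [h, tr_one]; exact CharTwo.two_eq_zero
  constructor
  · intro h
    obtain ⟨n, hn, hAn, hBn⟩ := (sol_iff hA1).1 h
    by_cases ht : tr n = 0
    · have hc : dg a ha * n * (dg a ha)⁻¹ * n = n * (dg a ha * n * (dg a ha)⁻¹) := hAn
      have h00 := congrArg (fun B : SL2 F => B 0 0) hc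
      simp only [mul_00, mul_01, mul_10, mul_11, inv_00, inv_01, inv_10, inv_11, e00, e01, e10, e11]
        at h00
      have h4 : a ^ 4 ≠ 1 := by
        intro h4
        apply h1
        apply eq_one_of_sq_eq_one
        rw [← h4]; ring
      have h5 : (a ^ 4 - 1) * (n 0 1 * n 1 0) = 0 := by
        have : a ^ 2 * (a⁻¹ * a⁻¹) = 1 := by field_simp
        linear_combination a ^ 2 * h00 + (n 0 1 * n 1 0) * this
      rcases mul_eq_zero.1 ((mul_eq_zero.1 h5).resolve_left (sub_ne_zero.2 h4)) with h6 | h6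
      · -- lower triangular
        have hm : ww F * n * (ww F)⁻¹ ∈ UU F := by
          apply mem_UU_of_Bor_of_tr'
          · rw [mem_Bor, ww_conj_10, h6, neg_zero]
          · rw [tr_conj, ht]
        have h7 := eq_uu_of_mem hm
        have h8 : (ww F * n * (ww F)⁻¹) 0 1 ≠ 0 := by
          intro h
          rw [h, uu_zero] at h7
          apply hn
          have : n = (ww F)⁻¹ * (ww F * n * (ww F)⁻¹) * ww F := by group
          rw [this, h7]; group
        have h9 := RR_conj (ww F) B n hBn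
        rw [h7] at h9
        have h10 := mem_Bor_of_RR h8 h9
        rw [mem_Bor, ww_conj_10] at h10
        exact Or.inl (Or.inr (neg_eq_zero.1 h10))
      · have hm : n ∈ UU F := mem_UU_of_Bor_of_tr' h6 ht
        have h7 := eq_uu_of_mem hm
        have h8 : n 0 1 ≠ 0 := by
          intro h
          rw [h, uu_zero] at h7
          exact hn h7
        rw [h7] at hBn
        exact Or.inl (Or.inl (mem_Bor_of_RR h8 hBn))
    · exact Or.inr (mem_normalizer_of_RR_ss hA1 htA ht hAn hBn)
  · rintro ((hB | hB) | hB)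
    · exact sol_of_mem solvable_Bor (show dg a ha ∈ Bor F from rfl) hB
    · apply (sol_map_iff (MulAut.conj (ww F)) (dg a ha) B).1
      apply sol_of_mem solvable_Bor
      · rw [MulAut.conj_apply, mem_Bor, ww_conj_10, e01, neg_zero]
      · have hB' : B 0 1 = 0 := hB
        rw [MulAut.conj_apply, mem_Bor, ww_conj_10, hB', neg_zero]
    · exact sol_of_mem (solvable_normalizer (tr_sq_ne_four htA)) (self_mem_normalizer _) hB

theorem card_sol_dg [Fintype F] {a : F} (ha : a ≠ 0) (h1 : a ^ 2 ≠ 1) :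
    Nat.card {B : SL2 F // Sol (dg a ha) B} = 2 * Fintype.card F * (Fintype.card F - 1) := by
  have hfin : Finite (SL2 F) := inferInstance
  have htA := tr_dg_ne_zero ha h1
  have ht' := tr_sq_ne_four htA
  have hset : {B : SL2 F | Sol (dg a ha) B} = ((Bor F : Set (SL2 F)) ∪ {y | y 0 1 = 0} ∪
      (Subgroup.normalizer ((Subgroup.centralizer {dg a ha} : Subgroup (SL2 F)) : Set (SL2 F)) :
        Set (SL2 F))) := by
    ext B
    exact sol_dg_iff ha h1 B
  have hC : ∀ y : SL2 F, y ∈ (Subgroup.centralizer {dg a ha} : Subgroup (SL2 F)) ↔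
      y 0 1 = 0 ∧ y 1 0 = 0 := by
    intro y
    rw [mem_centralizer_iff, commute_dg_iff ha h1]
  have hN : ∀ y : SL2 F, y 0 0 ≠ 0 →
      y ∈ Subgroup.normalizer ((Subgroup.centralizer {dg a ha} : Subgroup (SL2 F)) : Set (SL2 F)) →
      y ∈ (Subgroup.centralizer {dg a ha} : Subgroup (SL2 F)) := by
    intro y h0 hy
    rcases (mem_normalizer_centralizer_iff ht').1 hy with h | h
    · rw [mem_centralizer_iff]
      calc y * dg a ha = y * dg a ha * y⁻¹ * y := by group
        _ = dg a ha * y := by rw [h]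
    · exact absurd h (not_inverts_dg ha h1 h0)
  have hXY : (Bor F : Set (SL2 F)) ∩ {y | y 0 1 = 0} =
      ((Subgroup.centralizer {dg a ha} : Subgroup (SL2 F)) : Set (SL2 F)) := by
    ext y
    constructor
    · rintro ⟨h2, h3⟩
      exact (hC y).2 ⟨h3, h2⟩
    · intro h
      exact ⟨((hC y).1 h).2, ((hC y).1 h).1⟩
  have hXW : (Bor F : Set (SL2 F)) ∩
      (Subgroup.normalizer ((Subgroup.centralizer {dg a ha} : Subgroup (SL2 F)) : Set (SL2 F)) :
        Set (SL2 F)) = ((Subgroup.centralizer {dg a ha} : Subgroup (SL2 F)) : Set (SL2 F)) := by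
    ext y
    constructor
    · rintro ⟨h2, h3⟩
      apply hN y _ h3
      intro h0
      have := diag_of_mem_Bor h2
      rw [h0, zero_mul] at this
      exact zero_ne_one this
    · intro h
      exact ⟨((hC y).1 h).2, centralizer_le_normalizer _ h⟩
  have hYW : ({y | y 0 1 = 0} : Set (SL2 F)) ∩
      (Subgroup.normalizer ((Subgroup.centralizer {dg a ha} : Subgroup (SL2 F)) : Set (SL2 F)) :
        Set (SL2 F)) = ((Subgroup.centralizer {dg a ha} : Subgroup (SL2 F)) : Set (SL2 F)) := by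
    ext y
    constructor
    · rintro ⟨h2, h3⟩
      apply hN y _ h3
      intro h0
      have h2' : y 0 1 = 0 := h2
      have := det2 y
      rw [h0, h2'] at this
      simp at this
    · intro h
      exact ⟨((hC y).1 h).1, centralizer_le_normalizer _ h⟩
  have key := ncard_three hXY hXW hYW
  rw [← hset] at key
  have c1 : (Bor F : Set (SL2 F)).ncard = Fintype.card F * (Fintype.card F - 1) := by
    rw [← card_Bor]; exact (Nat.card_coe_set_eq _).symm
  have c2 : ({y | y 0 1 = 0} : Set (SL2 F)).ncard = Fintype.card F * (Fintype.card F - 1) := by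
    rw [← card_Bor, ← Nat.card_coe_set_eq]
    apply Nat.card_congr
    refine (MulAut.conj (ww F)).toEquiv.subtypeEquiv (fun y => ?_)
    show y 0 1 = 0 ↔ (ww F * y * (ww F)⁻¹) 1 0 = 0
    rw [ww_conj_10, neg_eq_zero]
  have c4 : ((Subgroup.centralizer {dg a ha} : Subgroup (SL2 F)) : Set (SL2 F)).ncard =
      Fintype.card F - 1 := by
    rw [← card_centralizer_split ha h1 (tr_dg a ha)]; exact (Nat.card_coe_set_eq _).symm
  have c3 : (Subgroup.normalizer ((Subgroup.centralizer {dg a ha} : Subgroup (SL2 F)) : Set (SL2 F)) :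
        Set (SL2 F)).ncard = 2 * (Fintype.card F - 1) := by
    rw [← card_centralizer_split ha h1 (tr_dg a ha), ← card_normalizer_centralizer ht']
    exact (Nat.card_coe_set_eq _).symm
  have c5 : Nat.card {B : SL2 F // Sol (dg a ha) B} = {B : SL2 F | Sol (dg a ha) B}.ncard :=
    Nat.card_coe_set_eq _
  rw [c1, c2, c3, c4] at key
  rw [c5]
  nlinarith [key]

end Cfsg.Agent.Lib.Helper6Sol
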