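import Mathlib
import Cfsg.Agent.Lib.Helper6Sol

/-!
# Solubilizers: abstract lemmas for the odd characteristic case
-/

set_option autoImplicit false

namespace Cfsg.Agent.Lib.Helper6Sol

variable {G : Type*} [Group G]

theorem exists_normal_of_sol {x y : G} (h : Sol x y) (hx : x ≠ 1) :
    ∃ N : Subgroup G, N ≠ ⊥ ∧ (∀ a ∈ N, ∀ b ∈ N, a * b = b * a) ∧
      ∀ h ∈ Subgroup.closure ({x, y} : Set G), ∀ a ∈ N, h * a * h⁻¹ ∈ N := by
  unfold Sol at h
  set H := Subgroup.closure ({x, y} : Set G) with hH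
  have hxH : x ∈ H := Subgroup.subset_closure (by simp)
  have : Nontrivial H := ⟨⟨⟨x, hxH⟩, 1, fun h => hx (congrArg Subtype.val h)⟩⟩
  obtain ⟨N, hN, hNb, hcomm⟩ := exists_abelian_normal H
  refine ⟨N.map H.subtype, ?_, ?_, ?_⟩
  · intro h0
    apply hNb
    exact (Subgroup.map_eq_bot_iff_of_injective N H.subtype_injective).1 h0
  · rintro _ ⟨a, ha, rfl⟩ _ ⟨b, hb, rfl⟩
    exact congrArg Subtype.val (hcomm a ha b hb)
  · rintro k hk _ ⟨a, ha, rfl⟩
    exact ⟨⟨k, hk⟩ * a * ⟨k, hk⟩⁻¹, hN.conj_mem a ha ⟨k, hk⟩, rfl⟩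

theorem comm_of_conj_pow_fix (g c : G) (k : ℕ) (h : ((MulAut.conj g) ^ k) c = c) :
    g ^ k * c = c * g ^ k := by
  rw [← map_pow, MulAut.conj_apply, mul_inv_eq_iff_eq_mul] at h
  exact h

theorem sq_or_cube_of_normalizes
    (A1 : ∀ g : G, g ^ 4 = 1 → g ^ 2 = 1)
    (A2 : ∀ a b g : G, a ^ 2 = 1 → b ^ 2 = 1 → a ≠ 1 → b ≠ 1 → a ≠ b → a * b = b * a →
        g * a = a * g → g * b = b * g → g = 1 ∨ g = a ∨ g = b ∨ g = a * b)
    (N : Subgroup G) (hexp : ∀ a ∈ N, a ^ 2 = 1) (hcomm : ∀ a ∈ N, ∀ b ∈ N, a * b = b * a)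
    {a b : G} (ha : a ∈ N) (hb : b ∈ N) (ha1 : a ≠ 1) (hb1 : b ≠ 1) (hab : a ≠ b)
    {g : G} (hg : ∀ c ∈ N, g * c * g⁻¹ ∈ N) : g ^ 2 = 1 ∨ g ^ 3 = 1 := by
  set φ := MulAut.conj g with hφ
  have hφN : ∀ c ∈ N, φ c ∈ N := fun c hc => by rw [hφ, MulAut.conj_apply]; exact hg c hc
  have hmem : ∀ a' ∈ N, ∀ b' ∈ N, a' ≠ 1 → b' ≠ 1 → a' ≠ b' → ∀ k : G, k * a' = a' * k →
      k * b' = b' * k → (k = 1 ∨ k = a' ∨ k = b' ∨ k = a' * b') ∧ k ∈ N := by
    intro a' ha' b' hb' h1 h2 h3 k hk1 hk2
    have := A2 a' b' k (hexp a' ha') (hexp b' hb') h1 h2 h3 (hcomm a' ha' b' hb') hk1 hk2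
    refine ⟨this, ?_⟩
    rcases this with rfl | rfl | rfl | rfl
    · exact N.one_mem
    · exact ha'
    · exact hb'
    · exact N.mul_mem ha' hb'
  have hsq : ∀ c ∈ N, c * c = 1 := fun c hc => by rw [← sq]; exact hexp c hc
  have hfour : g ^ 2 ∈ N → g ^ 2 = 1 := by
    intro h
    apply A1
    have := hexp _ h
    rw [← pow_mul] at this
    exact this
  have hne1 : ∀ c, c ≠ 1 → φ c ≠ 1 := fun c hc h => hc ((map_eq_one_iff φ φ.injective).1 h)
  by_cases haa : φ a = a
  · have hb' := hφN b hb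
    have hb'1 := hne1 b hb1
    have hb'a : φ b ≠ a := by
      intro h
      rw [← haa] at h
      exact hab (φ.injective h).symm
    have hga : g ^ 1 * a = a * g ^ 1 := comm_of_conj_pow_fix g a 1 (by rw [pow_one]; exact haa)
    rw [pow_one] at hga
    rcases (hmem a ha b hb ha1 hb1 hab (φ b) (hcomm _ hb' _ ha) (hcomm _ hb' _ hb)).1 with
      h | h | h | h
    · exact absurd h hb'1
    · exact absurd h hb'a
    · left
      have hgb : g ^ 1 * b = b * g ^ 1 := comm_of_conj_pow_fix g b 1 (by rw [pow_one]; exact h)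
      rw [pow_one] at hgb
      exact hexp g (hmem a ha b hb ha1 hb1 hab g hga hgb).2
    · left
      apply hfour
      refine (hmem a ha b hb ha1 hb1 hab (g ^ 2) ?_ ?_).2
      · apply comm_of_conj_pow_fix
        rw [sq, MulAut.mul_apply, haa, haa]
      · apply comm_of_conj_pow_fix
        rw [sq, MulAut.mul_apply, h, map_mul, haa, h, ← mul_assoc, hsq a ha, one_mul]
  · set a' := φ a with ha'def
    have ha' : a' ∈ N := hφN a ha
    have ha'1 : a' ≠ 1 := hne1 a ha1
    have haa' : a ≠ a' := fun h => haa h.symm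
    have ha'' := hφN a' ha'
    have ha''1 := hne1 a' ha'1
    have ha''a' : φ a' ≠ a' := by
      intro h
      exact haa (φ.injective h)
    rcases (hmem a ha a' ha' ha1 ha'1 haa' (φ a') (hcomm _ ha'' _ ha) (hcomm _ ha'' _ ha')).1 with
      h | h | h | h
    · exact absurd h ha''1
    · left
      apply hfour
      refine (hmem a ha a' ha' ha1 ha'1 haa' (g ^ 2) ?_ ?_).2
      · apply comm_of_conj_pow_fix
        rw [sq, MulAut.mul_apply, ← ha'def, h]
      · apply comm_of_conj_pow_fix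
        rw [sq, MulAut.mul_apply, h]
    · exact absurd h ha''a'
    · right
      have e1 : φ (a * a') = a := by
        rw [map_mul, ← ha'def, h, hcomm a ha a' ha', ← mul_assoc, hsq a' ha', one_mul]
      have h3a : (φ ^ 3) a = a := by
        rw [pow_succ, pow_succ, pow_one, MulAut.mul_apply, MulAut.mul_apply, ← ha'def, h, e1]
      have h3a' : (φ ^ 3) a' = a' := by
        rw [pow_succ, pow_succ, pow_one, MulAut.mul_apply, MulAut.mul_apply, h, e1]
      have hfix : φ (g ^ 3) = g ^ 3 := by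
        rw [hφ, MulAut.conj_apply]; group
      rcases (hmem a ha a' ha' ha1 ha'1 haa' (g ^ 3) (comm_of_conj_pow_fix g a 3 h3a)
        (comm_of_conj_pow_fix g a' 3 h3a')).1 with h' | h' | h' | h'
      · exact h'
      · rw [h'] at hfix
        exact absurd hfix haa
      · rw [h'] at hfix
        exact absurd hfix ha''a'
      · rw [h', e1] at hfix
        exfalso
        apply ha'1
        have : a * 1 = a * a' := by rw [mul_one]; exact hfix
        exact (mul_left_cancel this).symm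

theorem closure_pair_mul (x y : G) :
    Subgroup.closure ({x, x * y} : Set G) = Subgroup.closure ({x, y} : Set G) := by
  apply le_antisymm
  · rw [Subgroup.closure_le]
    rintro z (rfl | rfl)
    · exact Subgroup.subset_closure (by simp)
    · exact Subgroup.mul_mem _ (Subgroup.subset_closure (by simp)) (Subgroup.subset_closure (by simp))
  · rw [Subgroup.closure_le]
    rintro z (rfl | rfl)
    · exact Subgroup.subset_closure (by simp)
    · have h1 : x ∈ Subgroup.closure ({x, x * z} : Set G) := Subgroup.subset_closure (by simp)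
      have h2 : x * z ∈ Subgroup.closure ({x, x * z} : Set G) := Subgroup.subset_closure (by simp)
      have := Subgroup.mul_mem _ (Subgroup.inv_mem _ h1) h2
      rwa [inv_mul_cancel_left] at this

theorem sol_mul_iff (x y : G) : Sol x (x * y) ↔ Sol x y := by
  unfold Sol
  rw [closure_pair_mul]

theorem sol_comm (x y : G) : Sol x y ↔ Sol y x := by
  unfold Sol
  rw [Set.pair_comm]

theorem sol_map {G' : Type*} [Group G'] (f : G →* G') {x y : G} (h : Sol x y) : Sol (f x) (f y) := by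
  unfold Sol at *
  have h1 : Subgroup.closure ({f x, f y} : Set G') =
      (Subgroup.closure ({x, y} : Set G)).map f := by
    rw [MonoidHom.map_closure, Set.image_pair]
  rw [h1]
  exact Group.isSolvable_of_surjective
    (f := (f.subgroupMap (Subgroup.closure ({x, y} : Set G))))
    (f.subgroupMap_surjective _)

end Cfsg.Agent.Lib.Helper6Sol
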