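import Mathlib
import Cfsg.Agent.Lib.Helper6SolB1
import Cfsg.Agent.Lib.Helper6Sol4

/-!
# Solubilizers in `PSL₂(F)`, odd characteristic: the structural dichotomy
-/

set_option autoImplicit false

namespace Cfsg.Agent.Lib.Helper6Sol

open Matrix Cfsg.Agent.Lib.Helper46SL2 Cfsg.Agent.Lib.Helper41SL2 Cfsg.Agent.Lib.Helper41Dk
  Cfsg.Agent.Lib.Helper6DkCor

local notation "SL2" => Matrix.SpecialLinearGroup (Fin 2)
local notation "PSL2" => Matrix.ProjectiveSpecialLinearGroup (Fin 2)

variable {F : Type*} [Field F]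

theorem RR_neg {g n : SL2 F} (h : RR g n) : RR g (-n) := by
  unfold RR at *
  have h' : g * n * g⁻¹ * n = n * (g * n * g⁻¹) := h
  show g * -n * g⁻¹ * -n = -n * (g * -n * g⁻¹)
  simp only [mul_neg, neg_mul, neg_neg]
  exact h'

theorem neg_not_mem_center {n : SL2 F} (hn : n ∉ Subgroup.center (SL2 F)) :
    -n ∉ Subgroup.center (SL2 F) := by
  rw [mem_center_iff_eq] at *
  rintro (h | h)
  · exact hn (Or.inr (by rw [← h, neg_neg]))
  · exact hn (Or.inl (neg_injective h))

theorem exists_conj_Bor' {n : SL2 F} (hn : n ∉ Subgroup.center (SL2 F)) (ht : tr n ^ 2 = 4) :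
    ∃ c : SL2 F, ∀ g, RR g n → c * g * c⁻¹ ∈ Bor F := by
  have key : ∀ n : SL2 F, n ∉ Subgroup.center (SL2 F) → tr n = 2 →
      ∃ c : SL2 F, ∀ g, RR g n → c * g * c⁻¹ ∈ Bor F := by
    intro n hn ht
    obtain ⟨b, hb, hc⟩ := exists_isConj_uu hn ht
    obtain ⟨c, hc⟩ := isConj_iff.1 hc
    refine ⟨c, fun g hg => ?_⟩
    have := RR_conj c g n hg
    rw [hc] at this
    exact mem_Bor_of_RR hb this
  have h5 : (tr n - 2) * (tr n + 2) = 0 := by linear_combination ht
  rcases mul_eq_zero.1 h5 with h6 | h6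
  · exact key n hn (by linear_combination h6)
  · obtain ⟨c, hc⟩ := key (-n) (neg_not_mem_center hn) (by rw [tr_neg]; linear_combination -h6)
    exact ⟨c, fun g hg => hc g (RR_neg hg)⟩

theorem sol_of_RR' [Finite F] {n A B : SL2 F} (hn : n ∉ Subgroup.center (SL2 F)) (hA : RR A n)
    (hB : RR B n) : Sol A B := by
  by_cases ht : tr n ^ 2 = 4
  · obtain ⟨c, hc⟩ := exists_conj_Bor' hn ht
    have := sol_of_mem solvable_Bor (hc A hA) (hc B hB)
    exact (sol_map_iff (MulAut.conj c) A B).1 this
  · exact sol_of_mem (solvable_normalizer ht)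
      ((mem_normalizer_centralizer_iff ht).2 (cases_of_RR ht hA))
      ((mem_normalizer_centralizer_iff ht).2 (cases_of_RR ht hB))

theorem tr_eq_zero_of_sq {k : SL2 F} (h : k * k = -1) : tr k = 0 := by
  by_contra ht
  have h1 : ∀ i j, tr k * k i j = 0 := by
    intro i j
    have := sq_eq k i j
    rw [h, Cfsg.Agent.Lib.Helper46SL2.neg_apply] at this
    linear_combination -this
  have h00 := (mul_eq_zero.1 (h1 0 0)).resolve_left ht
  have h01 := (mul_eq_zero.1 (h1 0 1)).resolve_left ht
  have := det2 k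
  rw [h00, h01] at this
  simp at this

theorem ne_neg_self (h2 : (2 : F) ≠ 0) (X : SL2 F) : X ≠ -X := by
  intro h
  have h1 : ∀ i j, X i j = 0 := by
    intro i j
    have := congrArg (fun B : SL2 F => B i j) h
    simp only [Cfsg.Agent.Lib.Helper46SL2.neg_apply] at this
    have h3 : 2 * X i j = 0 := by linear_combination this
    exact (mul_eq_zero.1 h3).resolve_left h2
  have := det2 X
  rw [h1 0 0, h1 0 1] at this
  simp at this

theorem no_order_four (h2 : (2 : F) ≠ 0) (hsq : ¬ IsSquare (2 : F)) (h : PSL2 F) (h4 : h ^ 4 = 1) :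
    h ^ 2 = 1 := by
  obtain ⟨g, rfl⟩ := QuotientGroup.mk_surjective h
  rw [mk_pow_eq_one_iff, mem_center_iff_eq] at h4 ⊢
  have e : g ^ 4 = (g * g) * (g * g) := by
    rw [show (4 : ℕ) = 2 + 2 from rfl, pow_add, sq]
  rw [e] at h4
  rw [sq]
  rcases h4 with h4 | h4
  · exact (sq_eq_one_iff' h2).1 h4
  · exfalso
    have h5 := tr_eq_zero_of_sq h4
    rw [tr_mul_self] at h5
    exact hsq ⟨tr g, by linear_combination -h5⟩

/-- lifts of involutions -/
theorem sq_eq_neg_one_of_proj (h2 : (2 : F) ≠ 0) {n : SL2 F}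
    (h : (QuotientGroup.mk n : PSL2 F) ^ 2 = 1) (h1 : (QuotientGroup.mk n : PSL2 F) ≠ 1) :
    n * n = -1 := by
  rw [mk_pow_eq_one_iff, mem_center_iff_eq, sq] at h
  rw [Ne, mk_eq_one_iff, mem_center_iff_eq] at h1
  rcases h with h | h
  · exact absurd ((sq_eq_one_iff' h2).1 h) h1
  · exact h

theorem mk_commute_iff (a b : SL2 F) :
    (QuotientGroup.mk a : PSL2 F) * QuotientGroup.mk b = QuotientGroup.mk b * QuotientGroup.mk a ↔
      b * a = a * b ∨ b * a = -(a * b) := by
  rw [← QuotientGroup.mk_mul, ← QuotientGroup.mk_mul, mk_eq_mk_iff]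

theorem central_of_commute_anti (h2 : (2 : F) ≠ 0) {n m k : SL2 F} (hnm : n * m = -(m * n))
    (hn : n ∉ Subgroup.center (SL2 F)) (h1 : k * n = n * k) (h3 : k * m = m * k) :
    k ∈ Subgroup.center (SL2 F) := by
  by_contra hk
  have hc := centralizer_eq_of_commute hn hk h1
  have hm : m ∈ (Subgroup.centralizer {k} : Subgroup (SL2 F)) := mem_centralizer_iff.2 h3.symm
  rw [hc, mem_centralizer_iff] at hm
  rw [hm] at hnm
  exact ne_neg_self h2 _ hnm

theorem klein_self_centralizing (h2 : (2 : F) ≠ 0) (a b g : PSL2 F) (ha : a ^ 2 = 1) (hb : b ^ 2 = 1)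
    (ha1 : a ≠ 1) (hb1 : b ≠ 1) (hab : a ≠ b) (hc : a * b = b * a) (hga : g * a = a * g)
    (hgb : g * b = b * g) : g = 1 ∨ g = a ∨ g = b ∨ g = a * b := by
  obtain ⟨n, rfl⟩ := QuotientGroup.mk_surjective a
  obtain ⟨m, rfl⟩ := QuotientGroup.mk_surjective b
  obtain ⟨k, rfl⟩ := QuotientGroup.mk_surjective g
  have hnn := sq_eq_neg_one_of_proj h2 ha ha1
  have hmm := sq_eq_neg_one_of_proj h2 hb hb1
  have hnZ : n ∉ Subgroup.center (SL2 F) := by rwa [Ne, mk_eq_one_iff] at ha1
  have hni : n⁻¹ = -n := by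
    apply inv_eq_of_mul_eq_one_left
    rw [neg_mul, hnn, neg_neg]
  have hmi : m⁻¹ = -m := by
    apply inv_eq_of_mul_eq_one_left
    rw [neg_mul, hmm, neg_neg]
  have hnm : n * m = -(m * n) := by
    rcases (mk_commute_iff n m).1 hc with h | h
    · exfalso
      have h3 : (n * m) * (n * m) = 1 := by
        calc (n * m) * (n * m) = n * (m * n) * m := by group
          _ = n * (n * m) * m := by rw [h]
          _ = (n * n) * (m * m) := by group
          _ = 1 := by rw [hnn, hmm]; simp
      apply hab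
      rcases (sq_eq_one_iff' h2).1 h3 with h4 | h4
      · have : m = n⁻¹ := (inv_eq_of_mul_eq_one_right h4).symm
        rw [this, hni, mk_neg]
      · have : m = n := by
          have h5 : n * (-m) = 1 := by rw [mul_neg, h4, neg_neg]
          have h6 : -m = n⁻¹ := (inv_eq_of_mul_eq_one_right h5).symm
          rw [hni] at h6
          exact neg_injective h6
        rw [this]
    · rw [h, neg_neg]
  have hmn : m * n = -(n * m) := by rw [hnm, neg_neg]
  have fin : ∀ q0 : SL2 F, (k * q0) * n = n * (k * q0) → (k * q0) * m = m * (k * q0) →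
      (QuotientGroup.mk k : PSL2 F) = (QuotientGroup.mk q0)⁻¹ := by
    intro q0 h1 h3
    have := central_of_commute_anti h2 hnm hnZ h1 h3
    rw [← mk_eq_one_iff, QuotientGroup.mk_mul] at this
    exact eq_inv_of_mul_eq_one_left this
  have hai : (QuotientGroup.mk n : PSL2 F)⁻¹ = QuotientGroup.mk n := by
    rw [← QuotientGroup.mk_inv, hni, mk_neg]
  have hbi : (QuotientGroup.mk m : PSL2 F)⁻¹ = QuotientGroup.mk m := by
    rw [← QuotientGroup.mk_inv, hmi, mk_neg]
  rcases (mk_commute_iff k n).1 hga with h1 | h1 <;> rcases (mk_commute_iff k m).1 hgb with h3 | h3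
  · left
    have := fin 1 (by rw [mul_one, h1]) (by rw [mul_one, h3])
    rw [this]; simp
  · right; left
    rw [fin n ?_ ?_, hai]
    · rw [mul_assoc, ← mul_assoc n k n, h1, mul_assoc]
    · calc k * n * m = k * (n * m) := by group
        _ = -(k * m * n) := by rw [hnm, mul_neg, mul_assoc]
        _ = m * k * n := by
            have : k * m = -(m * k) := by rw [h3, neg_neg]
            rw [this, neg_mul, neg_neg]
        _ = m * (k * n) := by group
  · right; right; left
    rw [fin m ?_ ?_, hbi]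
    · calc k * m * n = k * (m * n) := by group
        _ = -(k * n * m) := by rw [hmn, mul_neg, mul_assoc]
        _ = n * k * m := by
            have : k * n = -(n * k) := by rw [h1, neg_neg]
            rw [this, neg_mul, neg_neg]
        _ = n * (k * m) := by group
    · rw [mul_assoc, ← mul_assoc m k m, h3, mul_assoc]
  · right; right; right
    have hkn : k * n = -(n * k) := by rw [h1, neg_neg]
    have hkm : k * m = -(m * k) := by rw [h3, neg_neg]
    rw [fin (n * m) ?_ ?_, QuotientGroup.mk_mul, _root_.mul_inv_rev, hai, hbi, hc]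
    · calc k * (n * m) * n = k * n * (m * n) := by group
        _ = -(k * n * (n * m)) := by rw [hmn, mul_neg]
        _ = n * k * (n * m) := by rw [hkn, neg_mul, neg_neg]
        _ = n * (k * (n * m)) := by group
    · calc k * (n * m) * m = k * (n * m) * m := rfl
        _ = -(k * (m * n) * m) := by rw [hnm, mul_neg, neg_mul]
        _ = -(k * m * (n * m)) := by group
        _ = m * k * (n * m) := by rw [hkm, neg_mul, neg_neg]
        _ = m * (k * (n * m)) := by group

end Cfsg.Agent.Lib.Helper6Sol
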