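import Mathlib
import Cfsg.Prelude.Def_Involutions
import Cfsg.Agent.Lib.Helper6Inv

set_option autoImplicit false

namespace Cfsg.Agent.Lib.Helper6StrEmb

open Cfsg.Agent.Lib.Helper6Inv

variable {G : Type*} [Group G]

/-- a finite subgroup has odd order iff it has no involution -/
theorem odd_card_iff_no_involution [Finite G] (K : Subgroup G) :
    Odd (Nat.card K) ↔ ∀ t ∈ K, orderOf t ≠ 2 := by
  constructor
  · intro h t ht h2
    have h4 : orderOf (⟨t, ht⟩ : K) = 2 := by
      rw [← h2]; exact Subgroup.orderOf_mk t ht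
    have h5 : 2 ∣ Nat.card K := h4 ▸ orderOf_dvd_natCard _
    exact (Nat.not_even_iff_odd.2 h) (even_iff_two_dvd.2 h5)
  · intro h
    by_contra hodd
    rw [Nat.not_odd_iff_even, even_iff_two_dvd] at hodd
    obtain ⟨x, hx⟩ := exists_prime_orderOf_dvd_card' (G := K) 2 hodd
    apply h x.1 x.2
    rw [← hx]
    exact (Subgroup.orderOf_coe x)

theorem orderOf_conj (g t : G) : orderOf (g * t * g⁻¹) = orderOf t := by
  have := (MulAut.conj g).orderOf_eq t
  simpa using this

theorem stronglyEmbedded_iff [Finite G] (H : Subgroup G) :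
    Cfsg.IsStronglyEmbedded H ↔ H ≠ ⊤ ∧ Even (Nat.card H) ∧
      ∀ g : G, g ∉ H → ∀ t ∈ H, orderOf t = 2 → g * t * g⁻¹ ∉ H := by
  unfold Cfsg.IsStronglyEmbedded
  refine and_congr_right fun _ => and_congr_right fun _ => forall_congr' fun g =>
    imp_congr_right fun _ => ?_
  rw [odd_card_iff_no_involution]
  constructor
  · intro h t ht h2 hmem
    refine h (g * t * g⁻¹) ?_ ?_
    · rw [Subgroup.mem_inf]
      refine ⟨hmem, ?_⟩
      rw [Subgroup.mem_map]
      exact ⟨t, ht, by simp⟩
    · rw [orderOf_conj, h2]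
  · intro h t ht h2
    rw [Subgroup.mem_inf, Subgroup.mem_map] at ht
    obtain ⟨h1, y, hy, rfl⟩ := ht
    simp only [MulEquiv.coe_toMonoidHom, MulAut.conj_apply] at h1 h2
    rw [orderOf_conj] at h2
    exact h y hy h2 h1

end Cfsg.Agent.Lib.Helper6StrEmb
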