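import Mathlib
import Cfsg.Agent.Lib.Helper6SL2HomP

set_option autoImplicit false

namespace Cfsg.Agent.Lib.Helper6U33

open Cfsg.Agent.Lib.Helper6SL2Hom Cfsg.Agent.Lib.Helper6SL2HomP Cfsg.Agent.Lib.Helper6Transport

instance fact3 : Fact (Nat.Prime 3) := ⟨by norm_num⟩

instance factIrr : Fact (∀ r : ZMod 3, r ^ 2 ≠ -1 + 0 * r) := ⟨by decide⟩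

/-- the field with nine elements -/
abbrev F9 := QuadraticAlgebra (ZMod 3) (-1) 0

instance fintypeF9 : Fintype F9 := Fintype.ofEquiv (ZMod 3 × ZMod 3) (QuadraticAlgebra.equivProd _ _).symm

theorem card_F9 : Fintype.card F9 = 9 := by
  rw [Fintype.card_congr (QuadraticAlgebra.equivProd (-1 : ZMod 3) 0), Fintype.card_prod, ZMod.card]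

abbrev S3 := Matrix.SpecialLinearGroup (Fin 3) F9

def X0 : S3 := ⟨!![⟨1, 0⟩, ⟨0, 0⟩, ⟨0, 0⟩; ⟨0, 0⟩, ⟨1, 0⟩, ⟨0, 0⟩; ⟨0, 0⟩, ⟨0, 0⟩, ⟨1, 0⟩], by decide +kernel⟩
def X1 : S3 := ⟨!![⟨0, 0⟩, ⟨1, 1⟩, ⟨1, 1⟩; ⟨0, 0⟩, ⟨1, 1⟩, ⟨2, 2⟩; ⟨0, 1⟩, ⟨0, 0⟩, ⟨0, 0⟩], by decide +kernel⟩
def X2 : S3 := ⟨!![⟨2, 1⟩, ⟨0, 2⟩, ⟨0, 1⟩; ⟨1, 2⟩, ⟨0, 2⟩, ⟨0, 1⟩; ⟨0, 0⟩, ⟨2, 1⟩, ⟨2, 1⟩], by decide +kernel⟩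
def X3 : S3 := ⟨!![⟨2, 0⟩, ⟨2, 2⟩, ⟨0, 1⟩; ⟨2, 0⟩, ⟨0, 2⟩, ⟨1, 1⟩; ⟨2, 2⟩, ⟨1, 0⟩, ⟨2, 0⟩], by decide +kernel⟩
def X4 : S3 := ⟨!![⟨2, 0⟩, ⟨2, 0⟩, ⟨2, 1⟩; ⟨2, 1⟩, ⟨0, 1⟩, ⟨1, 0⟩; ⟨0, 2⟩, ⟨1, 2⟩, ⟨2, 0⟩], by decide +kernel⟩
def X5 : S3 := ⟨!![⟨2, 2⟩, ⟨1, 1⟩, ⟨0, 0⟩; ⟨0, 1⟩, ⟨0, 1⟩, ⟨2, 2⟩; ⟨0, 2⟩, ⟨0, 2⟩, ⟨2, 2⟩], by decide +kernel⟩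
def X6 : S3 := ⟨!![⟨0, 0⟩, ⟨0, 0⟩, ⟨0, 2⟩; ⟨1, 2⟩, ⟨1, 2⟩, ⟨0, 0⟩; ⟨1, 2⟩, ⟨2, 1⟩, ⟨0, 0⟩], by decide +kernel⟩
def D1 : S3 := ⟨!![⟨1, 0⟩, ⟨0, 0⟩, ⟨0, 0⟩; ⟨0, 0⟩, ⟨1, 0⟩, ⟨0, 0⟩; ⟨0, 0⟩, ⟨0, 0⟩, ⟨1, 0⟩], by decide +kernel⟩
def D2 : S3 := ⟨!![⟨2, 1⟩, ⟨2, 0⟩, ⟨0, 1⟩; ⟨1, 0⟩, ⟨1, 0⟩, ⟨2, 2⟩; ⟨1, 0⟩, ⟨1, 2⟩, ⟨0, 2⟩], by decide +kernel⟩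
def D3 : S3 := ⟨!![⟨2, 2⟩, ⟨1, 0⟩, ⟨1, 0⟩; ⟨2, 0⟩, ⟨1, 0⟩, ⟨1, 1⟩; ⟨0, 2⟩, ⟨2, 1⟩, ⟨0, 1⟩], by decide +kernel⟩
def D4 : S3 := ⟨!![⟨2, 2⟩, ⟨1, 0⟩, ⟨1, 0⟩; ⟨2, 0⟩, ⟨1, 0⟩, ⟨1, 1⟩; ⟨0, 2⟩, ⟨2, 1⟩, ⟨0, 1⟩], by decide +kernel⟩
def D5 : S3 := ⟨!![⟨2, 1⟩, ⟨2, 0⟩, ⟨0, 1⟩; ⟨1, 0⟩, ⟨1, 0⟩, ⟨2, 2⟩; ⟨1, 0⟩, ⟨1, 2⟩, ⟨0, 2⟩], by decide +kernel⟩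
def D6 : S3 := ⟨!![⟨1, 0⟩, ⟨0, 0⟩, ⟨0, 0⟩; ⟨0, 0⟩, ⟨1, 0⟩, ⟨0, 0⟩; ⟨0, 0⟩, ⟨0, 0⟩, ⟨1, 0⟩], by decide +kernel⟩
def V1 : S3 := ⟨!![⟨1, 0⟩, ⟨0, 1⟩, ⟨1, 1⟩; ⟨0, 2⟩, ⟨1, 0⟩, ⟨2, 1⟩; ⟨1, 2⟩, ⟨2, 2⟩, ⟨0, 0⟩], by decide +kernel⟩
def V2 : S3 := ⟨!![⟨0, 0⟩, ⟨1, 1⟩, ⟨2, 2⟩; ⟨1, 2⟩, ⟨1, 0⟩, ⟨1, 0⟩; ⟨2, 1⟩, ⟨1, 0⟩, ⟨1, 0⟩], by decide +kernel⟩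
def V3 : S3 := ⟨!![⟨0, 0⟩, ⟨2, 1⟩, ⟨2, 2⟩; ⟨2, 2⟩, ⟨1, 0⟩, ⟨0, 2⟩; ⟨2, 1⟩, ⟨0, 1⟩, ⟨1, 0⟩], by decide +kernel⟩
def V4 : S3 := ⟨!![⟨0, 0⟩, ⟨2, 1⟩, ⟨2, 2⟩; ⟨2, 2⟩, ⟨1, 0⟩, ⟨0, 2⟩; ⟨2, 1⟩, ⟨0, 1⟩, ⟨1, 0⟩], by decide +kernel⟩
def V5 : S3 := ⟨!![⟨0, 0⟩, ⟨1, 1⟩, ⟨2, 2⟩; ⟨1, 2⟩, ⟨1, 0⟩, ⟨1, 0⟩; ⟨2, 1⟩, ⟨1, 0⟩, ⟨1, 0⟩], by decide +kernel⟩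
def V6 : S3 := ⟨!![⟨1, 0⟩, ⟨0, 1⟩, ⟨1, 1⟩; ⟨0, 2⟩, ⟨1, 0⟩, ⟨2, 1⟩; ⟨1, 2⟩, ⟨2, 2⟩, ⟨0, 0⟩], by decide +kernel⟩

def Xp (c : ZMod 7) : S3 := (![X0, X1, X2, X3, X4, X5, X6] : Fin 7 → S3) c
def Hh (c : ZMod 7) : S3 := (![X0, D1, D2, D3, D4, D5, D6] : Fin 7 → S3) c
def Vv (c : ZMod 7) : S3 := (![X0, V1, V2, V3, V4, V5, V6] : Fin 7 → S3) c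
def inv7 (c : ZMod 7) : ZMod 7 := (![0, 1, 4, 5, 2, 3, 6] : Fin 7 → ZMod 7) c

def f0 (a b c d : ZMod 7) : S3 :=
  if c = 0 then Hh a * Xp (b * inv7 a)
  else Xp (a * inv7 c) * Vv c * Xp (d * inv7 c)

theorem f0_one : f0 1 0 0 1 = 1 := by decide +kernel

theorem f0_X : ∀ a b c d : ZMod 7, a * d - b * c = 1 →
    f0 a (a + b) c (c + d) = f0 a b c d * f0 1 1 0 1 := by decide +kernel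

theorem f0_Y : ∀ a b c d : ZMod 7, a * d - b * c = 1 →
    f0 (a + b) b (c + d) d = f0 a b c d * f0 1 0 1 1 := by decide +kernel

theorem f0_neg : f0 (-1) 0 0 (-1) = 1 := by decide +kernel

theorem f0_ncomm : f0 1 1 0 1 * f0 1 0 1 1 ≠ f0 1 0 1 1 * f0 1 1 0 1 := by decide +kernel

/-- the matrix form of unitarity -/
def IsU {F : Type*} [Field F] (M : Matrix.SpecialLinearGroup (Fin 3) F) : Prop :=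
  (M.1).transpose * (M.1).map (fun x => x ^ 3) = 1

instance (M : S3) : Decidable (IsU M) := by unfold IsU; infer_instance

theorem Xp_isU : ∀ c, IsU (Xp c) := by decide +kernel
theorem Hh_isU : ∀ c, IsU (Hh c) := by decide +kernel
theorem Vv_isU : ∀ c, IsU (Vv c) := by decide +kernel

end Cfsg.Agent.Lib.Helper6U33
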