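import Cfsg.Agent.Lib.Helper17BG36Thompson
import Cfsg.Agent.Lib.Helper56Iso2
import Cfsg.Agent.Lib.Helper66Fpf
import Cfsg.Agent.Lib.Helper30SZ

set_option autoImplicit false
set_option linter.unusedSectionVars false

/-! Project 87 (S1444), piece `caseB_class2` (helper70). -/

namespace Cfsg.Agent.Lib.Helper70BG36Class2

open Subgroup

theorem normalizer_le_normalizer_center {G : Type*} [Group G] (Q : Subgroup G) :
    normalizer (Q : Set G) ≤ normalizer ((Q ⊓ centralizer (Q : Set G) : Subgroup G) : Set G) := by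
  rw [le_normalizer_iff]
  rintro x hx z ⟨hzQ, hzC⟩
  refine ⟨(mem_normalizer_iff.mp hx z).mp hzQ, ?_⟩
  show x * z * x⁻¹ ∈ centralizer (Q : Set G)
  have hzC' : z ∈ centralizer (Q : Set G) := hzC
  rw [mem_centralizer_iff]
  intro q hq
  have hq' : x⁻¹ * q * x ∈ Q := by
    have := (mem_normalizer_iff.mp (inv_mem hx) q).mp hq
    simpa using this
  have h1 : x⁻¹ * q * x * z = z * (x⁻¹ * q * x) := (mem_centralizer_iff.mp hzC') _ hq'
  calc q * (x * z * x⁻¹) = x * (x⁻¹ * q * x * z) * x⁻¹ := by group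
    _ = x * (z * (x⁻¹ * q * x)) * x⁻¹ := by rw [h1]
    _ = x * z * x⁻¹ * q := by group

/-- PIECE `caseB_class2` -/
theorem exists_c {G : Type*} [Group G] [Finite G] {r : ℕ} (hr : r.Prime) {Q A R : Subgroup G}
    (hAQ : A ≤ normalizer (Q : Set G)) (hRQ : R ≤ normalizer (Q : Set G))
    (hRA : R ≤ normalizer (A : Set G))
    (hQs : Group.IsSolvable Q) (hQA' : (Nat.card Q).Coprime (Nat.card A)) (hQr : (Nat.card Q).Coprime r)
    (hR : Nat.card R = r) (hfpf : ∀ x ∈ R, x ≠ 1 → ∀ a ∈ A, x * a = a * x → a = 1)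
    (hQnc : ¬ ∀ a ∈ Q, ∀ b ∈ Q, a * b = b * a) (hQA : ⁅Q, A⁆ = Q)
    (hQmin : ∀ X ≤ Q, X ≠ Q → A ≤ normalizer (X : Set G) → R ≤ normalizer (X : Set G) →
        A ≤ centralizer (X : Set G))
    (hZ : IsZGroup ↥(Q ⊓ centralizer (R : Set G))) :
    ⁅Q, Q⁆ ≤ centralizer (Q : Set G) ∧
    (∀ a ∈ Q ⊓ centralizer (R : Set G), ∀ b ∈ Q ⊓ centralizer (R : Set G), a * b = b * a) ∧
    ∃ c ∈ Q ⊓ centralizer (R : Set G), c ∉ centralizer (Q : Set G) := by
  have hQ1 : Q ≠ ⊥ := by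
    rintro rfl
    apply hQnc
    intro a ha b hb
    rw [mem_bot] at ha hb
    rw [ha, hb]
  have hlt : ⁅Q, Q⁆ < Q := Cfsg.Agent.Lib.Helper66Fpf.comm_lt hQs hQ1
  have hAQ' : A ≤ centralizer ((⁅Q, Q⁆ : Subgroup G) : Set G) :=
    hQmin _ hlt.le hlt.ne
      (Cfsg.Agent.Lib.Helper30SZ.le_normalizer_commutator hAQ hAQ)
      (Cfsg.Agent.Lib.Helper30SZ.le_normalizer_commutator hRQ hRQ)
  have h1 : ⁅A, ⁅Q, Q⁆⁆ = ⊥ := commutator_eq_bot_iff_le_centralizer.2 hAQ'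
  have h2 : ⁅⁅A, ⁅Q, Q⁆⁆, Q⁆ = ⊥ := by
    rw [h1]
    exact Subgroup.commutator_bot_left Q
  have h3 : ⁅⁅⁅Q, Q⁆, Q⁆, A⁆ = ⊥ := by
    rw [eq_bot_iff]
    calc ⁅⁅⁅Q, Q⁆, Q⁆, A⁆ ≤ ⁅⁅Q, Q⁆, A⁆ := commutator_mono (commutator_mono hlt.le le_rfl) le_rfl
      _ = ⊥ := by rw [commutator_comm, h1]
  have h4 : ⁅⁅Q, A⁆, ⁅Q, Q⁆⁆ = ⊥ := commutator_commutator_eq_bot_of_rotate h2 h3
  rw [hQA] at h4
  have hcl : ⁅Q, Q⁆ ≤ centralizer (Q : Set G) := by
    rw [← commutator_eq_bot_iff_le_centralizer, commutator_comm]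
    exact h4
  have h5 : ⁅⁅Q, Q⁆, Q⁆ = ⊥ := commutator_eq_bot_iff_le_centralizer.2 hcl
  refine ⟨hcl, ?_, ?_⟩
  · have hnil : Group.IsNilpotent ↥(Q ⊓ centralizer (R : Set G)) := by
      apply Cfsg.Agent.Lib.Helper56Iso2.isNilpotent_of_comm3
      rw [eq_bot_iff, ← h5]
      exact commutator_mono (commutator_mono inf_le_left inf_le_left) inf_le_left
    have hcyc : IsCyclic ↥(Q ⊓ centralizer (R : Set G)) := inferInstance
    have hcomm := IsCyclic.isMulCommutative (α := ↥(Q ⊓ centralizer (R : Set G)))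
    intro a ha b hb
    exact congrArg Subtype.val (hcomm.is_comm.comm (⟨a, ha⟩ : ↥(Q ⊓ centralizer (R : Set G))) ⟨b, hb⟩)
  · by_contra hcon
    push Not at hcon
    have hfix : Q ⊓ centralizer (R : Set G) ≤ Q ⊓ centralizer (Q : Set G) :=
      fun c hc => ⟨hc.1, hcon c hc⟩
    have hN := normalizer_le_normalizer_center Q
    have h6 := Cfsg.Agent.Lib.Helper17BG36Thompson.comm_le_of_fixed_le hr hAQ hRQ hRA
      (Z := Q ⊓ centralizer (Q : Set G)) inf_le_left (le_normalizer.trans hN) (hAQ.trans hN)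
      (hRQ.trans hN) hR hfpf hQA' hQr hfix
    rw [hQA] at h6
    apply hQnc
    intro a ha b hb
    exact ((mem_centralizer_iff.mp (h6 hb).2) a ha)

end Cfsg.Agent.Lib.Helper70BG36Class2
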