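import Mathlib

set_option autoImplicit false

namespace Cfsg.Agent.Lib.Helper70Frobenius

universe u

/-- If all fibres of `f` have `k` elements then `#α = #β * k`. -/
theorem card_eq_of_fibers {α β : Type*} [Finite α] [Finite β] (f : α → β) (k : ℕ)
    (h : ∀ b, Nat.card {a // f a = b} = k) : Nat.card α = Nat.card β * k := by
  classical
  have := Fintype.ofFinite β
  rw [← Nat.card_congr (Equiv.sigmaFiberEquiv f), Nat.card_sigma]
  simp [h, Nat.card_eq_fintype_card]

/-- If `d` divides all fibres of `f` then `d ∣ #α`. -/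
theorem dvd_card_of_fibers {α β : Type*} [Finite α] [Finite β] (f : α → β) (d : ℕ)
    (h : ∀ b, d ∣ Nat.card {a // f a = b}) : d ∣ Nat.card α := by
  classical
  have := Fintype.ofFinite β
  rw [← Nat.card_congr (Equiv.sigmaFiberEquiv f), Nat.card_sigma]
  exact Finset.dvd_sum (fun b _ => h b)

variable {G : Type u} [Group G]

/-- class size times centralizer order. -/
theorem card_class_mul_card_centralizer [Finite G] (c : G) :
    Nat.card G = Nat.card {y : G // IsConj c y} * Nat.card (Subgroup.centralizer ({c} : Set G)) := by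
  refine card_eq_of_fibers (fun g : G => (⟨g * c * g⁻¹, isConj_iff.mpr ⟨g, rfl⟩⟩ : {y : G // IsConj c y})) _ ?_
  rintro ⟨y, hy⟩
  obtain ⟨g0, hg0⟩ := isConj_iff.mp hy
  refine Nat.card_congr ?_
  refine
    { toFun := fun g => ⟨g0⁻¹ * g.1, ?_⟩
      invFun := fun z => ⟨g0 * z.1, ?_⟩
      left_inv := ?_
      right_inv := ?_ }
  · have h1 : g.1 * c * g.1⁻¹ = y := congrArg Subtype.val g.2
    rw [Subgroup.mem_centralizer_singleton_iff]
    have h1' : g.1 * c * g.1⁻¹ = g0 * c * g0⁻¹ := h1.trans hg0.symm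
    have : g0⁻¹ * (g.1 * c * g.1⁻¹) * g.1 = g0⁻¹ * (g0 * c * g0⁻¹) * g.1 := by rw [h1']
    simpa [mul_assoc] using this
  · have hz := Subgroup.mem_centralizer_singleton_iff.mp z.2
    apply Subtype.ext
    show g0 * z.1 * c * (g0 * z.1)⁻¹ = y
    rw [← hg0, mul_assoc g0, hz]
    simp [mul_assoc]
  · intro g; simp
  · intro z; simp

/-- number of `n`-th roots is a class function. -/
theorem card_roots_conj (n : ℕ) (c g : G) :
    Nat.card {x : G // x ^ n = g * c * g⁻¹} = Nat.card {x : G // x ^ n = c} := by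
  refine Nat.card_congr ?_
  refine
    { toFun := fun x => ⟨g⁻¹ * x.1 * g, ?_⟩
      invFun := fun x => ⟨g * x.1 * g⁻¹, ?_⟩
      left_inv := ?_
      right_inv := ?_ }
  · have := conj_pow (a := g⁻¹) (b := x.1) (i := n)
    rw [inv_inv] at this
    rw [this, x.2]; simp [mul_assoc]
  · rw [conj_pow, x.2]
  · intro x; simp [mul_assoc]
  · intro x; simp [mul_assoc]

/-- `#{x | x^n ∼ c} = h(c) * #{x | x^n = c}`. -/
theorem card_roots_class [Finite G] (n : ℕ) (c : G) :
    Nat.card {x : G // IsConj c (x ^ n)} =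
      Nat.card {y : G // IsConj c y} * Nat.card {x : G // x ^ n = c} := by
  refine card_eq_of_fibers
    (fun x : {x : G // IsConj c (x ^ n)} => (⟨x.1 ^ n, x.2⟩ : {y : G // IsConj c y})) _ ?_
  rintro ⟨y, hy⟩
  obtain ⟨g0, hg0⟩ := isConj_iff.mp hy
  rw [← card_roots_conj n c g0, hg0]
  refine Nat.card_congr ?_
  refine
    { toFun := fun x => ⟨x.1.1, congrArg Subtype.val x.2⟩
      invFun := fun x => ⟨⟨x.1, by rw [x.2]; exact hy⟩, Subtype.ext x.2⟩
      left_inv := fun x => rfl
      right_inv := fun x => rfl }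

/-- roots of `c` lie in the centralizer of `c`. -/
theorem card_roots_centralizer (n : ℕ) (c : G) :
    Nat.card {x : G // x ^ n = c} =
      Nat.card {x : Subgroup.centralizer ({c} : Set G) //
        x ^ n = ⟨c, Subgroup.mem_centralizer_singleton_iff.mpr rfl⟩} := by
  refine Nat.card_congr ?_
  refine
    { toFun := fun x => ⟨⟨x.1, ?_⟩, ?_⟩
      invFun := fun x => ⟨x.1.1, congrArg Subtype.val x.2⟩
      left_inv := fun x => rfl
      right_inv := fun x => rfl }
  · rw [Subgroup.mem_centralizer_singleton_iff]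
    have hx : x.1 ^ n = c := x.2
    calc x.1 * c = x.1 * x.1 ^ n := by rw [hx]
      _ = x.1 ^ n * x.1 := by rw [← pow_succ', ← pow_succ]
      _ = c * x.1 := by rw [hx]
  · apply Subtype.ext; exact x.2

/-- for central `c` the class is a singleton. -/
theorem card_roots_class_central (n : ℕ) (c : G) (hc : c ∈ Subgroup.center G) :
    Nat.card {x : G // IsConj c (x ^ n)} = Nat.card {x : G // x ^ n = c} := by
  refine Nat.card_congr (Equiv.subtypeEquivRight ?_)
  intro x
  constructor
  · intro h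
    obtain ⟨g, hg⟩ := isConj_iff.mp h
    rw [← hg, (Subgroup.mem_center_iff.mp hc g)]; simp
  · intro h; rw [h]

/-- The weak form `R(G)`. -/
def WeakForm (G : Type u) [Group G] : Prop :=
  ∀ (n : ℕ) (c : G), Nat.gcd n (Nat.card G) ∣ Nat.card {x : G // IsConj c (x ^ n)}

/-- The strong form for `c` follows from the weak form for the centralizer of `c`. -/
theorem strong_of_weak_centralizer [Finite G] (c : G)
    (h : WeakForm (Subgroup.centralizer ({c} : Set G))) (n : ℕ) :
    Nat.gcd (Nat.card {y : G // IsConj c y} * n) (Nat.card G) ∣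
      Nat.card {x : G // IsConj c (x ^ n)} := by
  have hc : (⟨c, Subgroup.mem_centralizer_singleton_iff.mpr rfl⟩ :
      Subgroup.centralizer ({c} : Set G)) ∈ Subgroup.center (Subgroup.centralizer ({c} : Set G)) := by
    rw [Subgroup.mem_center_iff]
    intro g
    apply Subtype.ext
    exact (Subgroup.mem_centralizer_singleton_iff.mp g.2)
  have h1 := h n ⟨c, Subgroup.mem_centralizer_singleton_iff.mpr rfl⟩
  rw [card_roots_class_central n _ hc, ← card_roots_centralizer] at h1
  rw [card_roots_class, card_class_mul_card_centralizer c, Nat.gcd_mul_left]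
  exact Nat.mul_dvd_mul_left _ h1

/-- divisibility for conjugation invariant target sets. -/
theorem dvd_card_roots_invariant [Finite G] (n d : ℕ) (D : G → Prop)
    (hD : ∀ g y, D y → D (g * y * g⁻¹))
    (h : ∀ c, D c → d ∣ Nat.card {x : G // IsConj c (x ^ n)}) :
    d ∣ Nat.card {x : G // D (x ^ n)} := by
  refine dvd_card_of_fibers (fun x : {x : G // D (x ^ n)} => ConjClasses.mk (x.1 ^ n)) d ?_
  intro b
  obtain ⟨c, rfl⟩ := ConjClasses.exists_rep b
  by_cases hc : D c
  · have : Nat.card {a : {x : G // D (x ^ n)} // ConjClasses.mk (a.1 ^ n) = ConjClasses.mk c} =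
        Nat.card {x : G // IsConj c (x ^ n)} := by
      refine Nat.card_congr ?_
      refine
        { toFun := fun a => ⟨a.1.1, (ConjClasses.mk_eq_mk_iff_isConj.mp a.2).symm⟩
          invFun := fun x => ⟨⟨x.1, ?_⟩, ConjClasses.mk_eq_mk_iff_isConj.mpr x.2.symm⟩
          left_inv := fun x => rfl
          right_inv := fun x => rfl }
      obtain ⟨g, hg⟩ := isConj_iff.mp x.2
      rw [← hg]; exact hD g c hc
    rw [this]; exact h c hc
  · have : IsEmpty {a : {x : G // D (x ^ n)} // ConjClasses.mk (a.1 ^ n) = ConjClasses.mk c} := by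
      constructor
      rintro ⟨⟨x, hx⟩, hxc⟩
      obtain ⟨g, hg⟩ := isConj_iff.mp (ConjClasses.mk_eq_mk_iff_isConj.mp hxc)
      apply hc
      rw [← hg]; exact hD g _ hx
    simp

theorem weak_coprime_step [Finite G] (a b : ℕ) (hab : Nat.Coprime a b)
    (ha : ∀ c : G, Nat.gcd a (Nat.card G) ∣ Nat.card {x : G // IsConj c (x ^ a)})
    (hb : ∀ c : G, Nat.gcd b (Nat.card G) ∣ Nat.card {x : G // IsConj c (x ^ b)})
    (c : G) (hc : c ∈ Subgroup.center G) :
    Nat.gcd (a * b) (Nat.card G) ∣ Nat.card {x : G // IsConj c (x ^ (a * b))} := by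
  rw [card_roots_class_central _ c hc]
  have hinv : ∀ k : ℕ, ∀ g y : G, y ^ k = c → (g * y * g⁻¹) ^ k = c := by
    intro k g y hy
    rw [conj_pow, hy, (Subgroup.mem_center_iff.mp hc g)]; simp
  have h1 : Nat.gcd a (Nat.card G) ∣ Nat.card {x : G // x ^ (a * b) = c} := by
    have := dvd_card_roots_invariant a (Nat.gcd a (Nat.card G)) (fun y : G => y ^ b = c) (hinv b)
      (fun c _ => ha c)
    simpa only [← pow_mul] using this
  have h2 : Nat.gcd b (Nat.card G) ∣ Nat.card {x : G // x ^ (a * b) = c} := by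
    have := dvd_card_roots_invariant b (Nat.gcd b (Nat.card G)) (fun y : G => y ^ a = c) (hinv a)
      (fun c _ => hb c)
    simpa only [← pow_mul, mul_comm b a] using this
  rw [Nat.gcd_comm, Nat.Coprime.gcd_mul _ hab, Nat.gcd_comm _ a, Nat.gcd_comm _ b]
  refine Nat.Coprime.mul_dvd_of_dvd_of_dvd ?_ h1 h2
  exact Nat.Coprime.coprime_dvd_left (Nat.gcd_dvd_left _ _)
    (Nat.Coprime.coprime_dvd_right (Nat.gcd_dvd_left _ _) hab)

theorem orderOf_root [Finite G] (p e : ℕ) (hp : p.Prime) (x c : G) (hx : x ^ (p ^ e) = c)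
    (hpc : p ∣ orderOf c) : orderOf x = p ^ e * orderOf c := by
  have h1 : orderOf c = orderOf x / Nat.gcd (orderOf x) (p ^ e) := by
    rw [← hx, orderOf_pow]
  obtain ⟨j, hj, hd⟩ := (Nat.dvd_prime_pow hp).mp (Nat.gcd_dvd_right (orderOf x) (p ^ e))
  have h2 : orderOf x = orderOf c * p ^ j := by
    rw [h1, hd, ← hd]; exact (Nat.div_mul_cancel (Nat.gcd_dvd_left _ _)).symm
  have h3 : j = e := by
    by_contra hne
    have hlt : j + 1 ≤ e := by omega
    have d1 : p ^ (j + 1) ∣ p ^ e := pow_dvd_pow p hlt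
    have d2 : p ^ (j + 1) ∣ orderOf x := by
      rw [h2, pow_succ, mul_comm]; exact Nat.mul_dvd_mul_right hpc _
    have d3 : p ^ (j + 1) ∣ p ^ j := by rw [← hd]; exact Nat.dvd_gcd d2 d1
    have := (Nat.pow_dvd_pow_iff_le_right hp.one_lt).mp d3
    omega
  rw [h2, h3, mul_comm]

theorem card_pow_eq_one_cyclic (C : Type*) [Group C] [IsCyclic C] [Finite C] (d : ℕ) :
    Nat.card {y : C // y ^ d = 1} = Nat.gcd (Nat.card C) d := by
  let _ : CommGroup C := IsCyclic.commGroup
  rw [← IsCyclic.card_powMonoidHom_ker C d]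
  rfl

theorem prime_pow_dvd_card_roots [Finite G] (p e : ℕ) (hp : p.Prime) (c : G)
    (hpc : p ∣ orderOf c) : p ^ e ∣ Nat.card {x : G // x ^ (p ^ e) = c} := by
  refine dvd_card_of_fibers (fun x : {x : G // x ^ (p ^ e) = c} => Subgroup.zpowers x.1) _ ?_
  intro H
  by_cases hH : Nonempty {a : {x : G // x ^ (p ^ e) = c} // Subgroup.zpowers a.1 = H}
  · obtain ⟨⟨⟨x0, hx0⟩, hx0H⟩⟩ := hH
    simp only at hx0H
    subst hx0H
    have ho : orderOf x0 = p ^ e * orderOf c := orderOf_root p e hp x0 c hx0 hpc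
    have hcard : Nat.card {y : Subgroup.zpowers x0 // y ^ (p ^ e) = 1} = p ^ e := by
      rw [card_pow_eq_one_cyclic, Nat.card_zpowers, ho]
      exact Nat.gcd_eq_right (Dvd.intro _ rfl)
    have hcomm : ∀ y ∈ Subgroup.zpowers x0, Commute x0 y := by
      intro y hy
      obtain ⟨k, hk⟩ := Subgroup.mem_zpowers_iff.mp hy
      rw [← hk]; exact (Commute.refl x0).zpow_right k
    have hpow : ∀ y : {y : Subgroup.zpowers x0 // y ^ (p ^ e) = 1}, (x0 * y.1.1) ^ (p ^ e) = c := by
      intro y
      have hy' : y.1.1 ^ (p ^ e) = 1 := by exact_mod_cast congrArg Subtype.val y.2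
      rw [(hcomm _ y.1.2).mul_pow, hx0, hy', mul_one]
    suffices hsuff : Nat.card {y : Subgroup.zpowers x0 // y ^ (p ^ e) = 1} =
        Nat.card {a : {x : G // x ^ (p ^ e) = c} // Subgroup.zpowers a.1 = Subgroup.zpowers x0} by
      rw [← hsuff, hcard]
    refine Nat.card_congr ?_
    refine
      { toFun := fun y => ⟨⟨x0 * y.1.1, hpow y⟩, ?_⟩
        invFun := fun a => ⟨⟨x0⁻¹ * a.1.1, ?_⟩, ?_⟩
        left_inv := ?_
        right_inv := ?_ }
    · show Subgroup.zpowers (x0 * y.1.1) = Subgroup.zpowers x0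
      apply Subgroup.eq_of_le_of_card_ge
      · rw [Subgroup.zpowers_le]
        exact mul_mem (Subgroup.mem_zpowers x0) y.1.2
      · rw [Nat.card_zpowers, Nat.card_zpowers, ho, orderOf_root p e hp _ c (hpow y) hpc]
    · have h1 : a.1.1 ∈ Subgroup.zpowers a.1.1 := Subgroup.mem_zpowers _
      rw [a.2] at h1
      exact mul_mem (inv_mem (Subgroup.mem_zpowers x0)) h1
    · have h1 : a.1.1 ∈ Subgroup.zpowers a.1.1 := Subgroup.mem_zpowers _
      rw [a.2] at h1
      apply Subtype.ext
      show (x0⁻¹ * a.1.1) ^ (p ^ e) = 1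
      rw [((hcomm _ h1).inv_left).mul_pow, inv_pow, hx0, a.1.2]; simp
    · intro y; simp
    · intro a; simp
  · have : IsEmpty {a : {x : G // x ^ (p ^ e) = c} // Subgroup.zpowers a.1 = H} :=
      not_nonempty_iff.mp hH
    simp

/-- central elements of order prime to `p`. -/
def centerPrime (G : Type u) [Group G] (p : ℕ) (hp : p.Prime) : Subgroup G where
  carrier := {c | c ∈ Subgroup.center G ∧ ¬ p ∣ orderOf c}
  one_mem' := ⟨one_mem _, by rw [orderOf_one]; exact hp.one_lt.ne' ∘ Nat.dvd_one.mp⟩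
  mul_mem' := by
    rintro a b ⟨ha, ha'⟩ ⟨hb, hb'⟩
    refine ⟨mul_mem ha hb, ?_⟩
    intro h
    have hcomm : Commute a b := (Subgroup.mem_center_iff.mp hb a)
    have := h.trans hcomm.orderOf_mul_dvd_mul_orderOf
    rcases (Nat.Prime.dvd_mul hp).mp this with h1 | h1
    · exact ha' h1
    · exact hb' h1
  inv_mem' := by
    rintro a ⟨ha, ha'⟩
    exact ⟨inv_mem ha, by rwa [orderOf_inv]⟩

theorem mem_centerPrime {p : ℕ} {hp : p.Prime} {c : G} :
    c ∈ centerPrime G p hp ↔ c ∈ Subgroup.center G ∧ ¬ p ∣ orderOf c := Iff.rfl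

theorem not_dvd_card_centerPrime [Finite G] (p : ℕ) (hp : p.Prime) :
    ¬ p ∣ Nat.card (centerPrime G p hp) := by
  intro h
  have : Fact p.Prime := ⟨hp⟩
  obtain ⟨x, hx⟩ := exists_prime_orderOf_dvd_card' p h
  have h2 := x.2.2
  rw [← Subgroup.orderOf_coe] at hx
  exact h2 (by rw [hx])

theorem card_roots_translate [Finite G] (p e : ℕ) (hp : p.Prime) (c : G)
    (hc : c ∈ centerPrime G p hp) :
    Nat.card {x : G // x ^ (p ^ e) = c} = Nat.card {x : G // x ^ (p ^ e) = 1} := by
  obtain ⟨hc1, hc2⟩ := hc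
  have hcop : Nat.Coprime (p ^ e) (orderOf c) :=
    Nat.Coprime.pow_left e ((Nat.Prime.coprime_iff_not_dvd hp).mpr hc2)
  obtain ⟨k, hk⟩ := exists_pow_eq_self_of_coprime hcop
  have hk' : (c ^ k) ^ (p ^ e) = c := by rw [← pow_mul, mul_comm, pow_mul, hk]
  have hcen : c ^ k ∈ Subgroup.center G := pow_mem hc1 k
  have hcomm : ∀ x : G, Commute x (c ^ k) := fun x => (Subgroup.mem_center_iff.mp hcen x)
  refine Nat.card_congr ?_
  refine
    { toFun := fun x => ⟨x.1 * (c ^ k)⁻¹, ?_⟩
      invFun := fun x => ⟨x.1 * c ^ k, ?_⟩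
      left_inv := ?_
      right_inv := ?_ }
  · rw [((hcomm x.1).inv_right).mul_pow, x.2, inv_pow, hk']; simp
  · rw [(hcomm x.1).mul_pow, x.2, hk']; simp
  · intro x; simp
  · intro x; simp

theorem weak_prime_pow_step [Finite G] (p e : ℕ) (hp : p.Prime)
    (hnc : ∀ c : G, c ∉ Subgroup.center G →
      Nat.gcd (p ^ e) (Nat.card G) ∣ Nat.card {x : G // IsConj c (x ^ (p ^ e))})
    (c : G) (hc : c ∈ Subgroup.center G) :
    Nat.gcd (p ^ e) (Nat.card G) ∣ Nat.card {x : G // IsConj c (x ^ (p ^ e))} := by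
  have hcase1 : ∀ c : G, c ∈ Subgroup.center G → p ∣ orderOf c →
      Nat.gcd (p ^ e) (Nat.card G) ∣ Nat.card {x : G // IsConj c (x ^ (p ^ e))} := by
    intro c hc hpc
    rw [card_roots_class_central _ c hc]
    exact (Nat.gcd_dvd_left _ _).trans (prime_pow_dvd_card_roots p e hp c hpc)
  by_cases hpc : p ∣ orderOf c
  · exact hcase1 c hc hpc
  · have hcW : c ∈ centerPrime G p hp := ⟨hc, hpc⟩
    rw [card_roots_class_central _ c hc, card_roots_translate p e hp c hcW]
    set d := Nat.gcd (p ^ e) (Nat.card G) with hd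
    -- complement part
    have h1 : d ∣ Nat.card {x : G // ¬ (x ^ (p ^ e) ∈ centerPrime G p hp)} := by
      refine dvd_card_roots_invariant (p ^ e) d (fun y => ¬ y ∈ centerPrime G p hp) ?_ ?_
      · intro g y hy hy'
        apply hy
        obtain ⟨h1, h2⟩ := hy'
        have : g * y * g⁻¹ = y := by
          have h3 := Subgroup.mem_center_iff.mp h1 g
          have h4 : g * (g * y * g⁻¹) = g * y := by rw [h3]; simp
          exact mul_left_cancel h4
        rw [this] at h1 h2
        exact ⟨h1, h2⟩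
      · intro c' hc'
        by_cases hcc : c' ∈ Subgroup.center G
        · apply hcase1 c' hcc
          by_contra hcon
          exact hc' ⟨hcc, hcon⟩
        · exact hnc c' hcc
    have h2 : Nat.card {x : G // x ^ (p ^ e) ∈ centerPrime G p hp} =
        Nat.card (centerPrime G p hp) * Nat.card {x : G // x ^ (p ^ e) = 1} := by
      refine card_eq_of_fibers (fun x : {x : G // x ^ (p ^ e) ∈ centerPrime G p hp} =>
        (⟨x.1 ^ (p ^ e), x.2⟩ : centerPrime G p hp)) _ ?_
      rintro ⟨w, hw⟩
      rw [← card_roots_translate p e hp w hw]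
      refine Nat.card_congr ?_
      refine
        { toFun := fun x => ⟨x.1.1, congrArg Subtype.val x.2⟩
          invFun := fun x => ⟨⟨x.1, by rw [x.2]; exact hw⟩, Subtype.ext x.2⟩
          left_inv := fun x => rfl
          right_inv := fun x => rfl }
    have h3 : Nat.card G = Nat.card {x : G // x ^ (p ^ e) ∈ centerPrime G p hp} +
        Nat.card {x : G // ¬ (x ^ (p ^ e) ∈ centerPrime G p hp)} := by
      classical
      rw [← Nat.card_sum]
      exact Nat.card_congr (Equiv.sumCompl _).symm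
    have h4 : d ∣ Nat.card G := Nat.gcd_dvd_right _ _
    have h5 : d ∣ Nat.card (centerPrime G p hp) * Nat.card {x : G // x ^ (p ^ e) = 1} := by
      rw [← h2]
      rw [h3] at h4
      exact (Nat.dvd_add_left h1).mp h4
    have h6 : Nat.Coprime d (Nat.card (centerPrime G p hp)) := by
      refine Nat.Coprime.coprime_dvd_left (Nat.gcd_dvd_left _ _) ?_
      exact Nat.Coprime.pow_left e
        ((Nat.Prime.coprime_iff_not_dvd hp).mpr (not_dvd_card_centerPrime p hp))
    exact h6.dvd_of_dvd_mul_left h5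

theorem weakForm_aux : ∀ (k : ℕ) (G : Type u) [Group G] [Finite G], Nat.card G = k → WeakForm G := by
  intro k
  induction k using Nat.strong_induction_on with
  | _ k ih =>
  intro G _ _ hk
  have hnc : ∀ (n : ℕ) (c : G), c ∉ Subgroup.center G →
      Nat.gcd n (Nat.card G) ∣ Nat.card {x : G // IsConj c (x ^ n)} := by
    intro n c hc
    have hlt : Nat.card (Subgroup.centralizer ({c} : Set G)) < k := by
      rw [← hk]
      refine lt_of_le_of_ne (Subgroup.card_le_card_group _) ?_
      intro heq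
      have htop := Subgroup.eq_top_of_card_eq _ heq
      apply hc
      rw [Subgroup.mem_center_iff]
      intro g
      have : g ∈ Subgroup.centralizer ({c} : Set G) := by rw [htop]; trivial
      exact (Subgroup.mem_centralizer_singleton_iff.mp this)
    have h1 := strong_of_weak_centralizer c (ih _ hlt _ rfl) n
    refine dvd_trans ?_ h1
    exact Nat.gcd_dvd_gcd_of_dvd_left _ (Dvd.intro_left _ rfl)
  intro n
  induction n using Nat.recOnPrimeCoprime with
  | zero =>
    intro c
    by_cases hc : c = 1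
    · subst hc
      simp
    · have : IsEmpty {x : G // IsConj c (x ^ 0)} := by
        constructor
        rintro ⟨x, hx⟩
        rw [pow_zero, isConj_one_left] at hx
        exact hc hx
      have h0 : Nat.card {x : G // IsConj c (x ^ 0)} = 0 := Nat.card_of_isEmpty
      rw [h0]
      exact dvd_zero _
  | prime_pow p e hp =>
    intro c
    by_cases hc : c ∈ Subgroup.center G
    · exact weak_prime_pow_step p e hp (hnc _) c hc
    · exact hnc _ c hc
  | coprime a b _ _ hab iha ihb =>
    intro c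
    by_cases hc : c ∈ Subgroup.center G
    · exact weak_coprime_step a b hab iha ihb c hc
    · exact hnc _ c hc

theorem weakForm (G : Type u) [Group G] [Finite G] : WeakForm G := weakForm_aux _ G rfl

/-- M. Hall, Theorem 9.1.1 (Frobenius). -/
theorem frobenius_class (G : Type u) [Group G] [Finite G] (c : G) (n : ℕ) :
    Nat.gcd (Nat.card {y : G // IsConj c y} * n) (Nat.card G) ∣
      Nat.card {x : G // IsConj c (x ^ n)} :=
  strong_of_weak_centralizer c (weakForm _) n

/-- general form for invariant sets. -/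
theorem frobenius_invariant (G : Type u) [Group G] [Finite G] (n : ℕ) (D : G → Prop)
    (hD : ∀ g y, D y → D (g * y * g⁻¹)) :
    Nat.gcd n (Nat.card G) ∣ Nat.card {x : G // D (x ^ n)} :=
  dvd_card_roots_invariant n _ D hD (fun c _ => weakForm G n c)

/-- Frobenius' theorem. -/
theorem frobenius (G : Type u) [Group G] [Finite G] (m : ℕ) (hm : m ∣ Nat.card G) :
    m ∣ Nat.card {g : G // g ^ m = 1} := by
  have h := frobenius_invariant G m (fun y => y = 1) (by rintro g y rfl; simp)
  rwa [Nat.gcd_eq_left hm] at h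

end Cfsg.Agent.Lib.Helper70Frobenius
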