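import Mathlib
import Cfsg.Prelude.Def_Transfer
import Cfsg.Prelude.Def_CaseTheorems
import Cfsg.Agent.Lib.Helper37Cores

/-! Project 8 (helper29), piece `compl`. -/

set_option autoImplicit false

namespace Cfsg.Agent.Lib.Helper70P8compl

open MulAction Subgroup

/-- piece `compl` -/
theorem sup_oddCore_of_compl {G : Type*} [Group G] [Finite G] (H : Subgroup G) (hH : H.index = 2)
    (hc : Cfsg.HasNormalPComplement 2 H) (P : Sylow 2 G) :
    (P : Subgroup G) ⊔ Cfsg.oddCore G = ⊤ := by
  have : Fact (Nat.Prime 2) := ⟨Nat.prime_two⟩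
  obtain ⟨P₀, N, hN, hNP⟩ := hc
  have hHn : H.Normal := Subgroup.normal_of_index_eq_two hH
  set K : Subgroup G := N.map H.subtype with hK
  have hKsub : K.IsSubnormal := Subgroup.IsSubnormal.trans' hN.isSubnormal hHn.isSubnormal
  have hKcard : Nat.card K = Nat.card N :=
    Subgroup.card_map_of_injective H.subtype_injective
  have hmul : Nat.card N * Nat.card (P₀ : Subgroup H) = Nat.card H := hNP.card_mul_card
  have hNidx : Nat.card N = (P₀ : Subgroup H).index := by
    have h1 := (P₀ : Subgroup H).card_mul_index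
    rw [← hmul, mul_comm] at h1
    exact (Nat.eq_of_mul_eq_mul_right Nat.card_pos h1).symm
  have hNodd : (Nat.card N).Coprime 2 := by
    rw [hNidx]
    exact ((Nat.Prime.coprime_iff_not_dvd Nat.prime_two).2 P₀.not_dvd_index).symm
  have hKle : K ≤ Cfsg.oddCore G :=
    Cfsg.Agent.Lib.Helper37Cores.le_pPrimeCore_of_isSubnormal hKsub (by rw [hKcard]; exact hNodd)
  obtain ⟨n, hn⟩ := P₀.2.exists_card_eq
  have hKidx : K.index = 2 ^ (n + 1) := by
    have h1 := K.card_mul_index
    have h2 := H.card_mul_index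
    rw [hKcard, ← h2, hH, ← hmul, mul_assoc] at h1
    have h3 := Nat.eq_of_mul_eq_mul_left Nat.card_pos h1
    rw [h3, pow_succ]
    congr 1
  have hPidx : ((P : Subgroup G).index).Coprime (2 ^ (n + 1)) :=
    Nat.Coprime.pow_right _
      ((Nat.Prime.coprime_iff_not_dvd Nat.prime_two).2 P.not_dvd_index).symm
  have hsup : (P : Subgroup G) ⊔ K = ⊤ := by
    apply Subgroup.index_eq_one.1
    have h1 : ((P : Subgroup G) ⊔ K).index ∣ (P : Subgroup G).index :=
      Subgroup.index_dvd_of_le le_sup_left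
    have h2 : ((P : Subgroup G) ⊔ K).index ∣ 2 ^ (n + 1) :=
      hKidx ▸ Subgroup.index_dvd_of_le le_sup_right
    exact Nat.eq_one_of_dvd_coprimes hPidx h1 h2
  exact top_le_iff.1 (hsup ▸ sup_le_sup_left hKle _)

end Cfsg.Agent.Lib.Helper70P8compl
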