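import Mathlib
import Cfsg.Prelude.Def_Transfer
import Cfsg.Prelude.Def_CaseTheorems
import Cfsg.Agent.S3031

/-! Project 8 (helper29), piece `cyc2`. -/

set_option autoImplicit false

namespace Cfsg.Agent.Lib.Helper70P8cyc2

open MulAction Subgroup

/-- piece `cyc2` -/
theorem compl_of_cyclic {H : Type*} [Group H] [Finite H] (P : Sylow 2 H)
    (hP : IsCyclic (P : Subgroup H)) : Cfsg.HasNormalPComplement 2 H := by
  have : Fact (Nat.Prime 2) := ⟨Nat.prime_two⟩
  by_cases hdiv : 2 ∣ Nat.card H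
  · exact Cfsg.Agent.S3031.result hdiv (fun q hq _ => hq.two_le) P (Or.inl hP)
  · refine ⟨P, ⊤, inferInstance, ?_⟩
    have h1 : Nat.card (P : Subgroup H) = 1 := by
      rw [Sylow.card_eq_multiplicity, Nat.factorization_eq_zero_of_not_dvd hdiv, pow_zero]
    rw [Subgroup.card_eq_one.1 h1]
    exact Subgroup.isComplement'_top_bot

end Cfsg.Agent.Lib.Helper70P8cyc2
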