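import Mathlib

/-! Project 8 (helper29), piece `indep`. -/

set_option autoImplicit false

namespace Cfsg.Agent.Lib.Helper70P8indep

/-- piece `indep` -/
theorem indep {G : Type*} [Group G] (u v hh : G) (hu : u ≠ 1) (hu3 : u ^ 3 = 1) (huv : u * v = v * u)
    (hhu : hh * u * hh⁻¹ = v) (hhv : hh * v * hh⁻¹ = u⁻¹) (a b : ZMod 3)
    (hab : u ^ a.val * v ^ b.val = 1) : a = 0 ∧ b = 0 := by
  have : Fact (Nat.Prime 3) := ⟨by norm_num⟩
  have hA : a.val < 3 := ZMod.val_lt a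
  have hB : b.val < 3 := ZMod.val_lt b
  suffices h : a.val = 0 ∧ b.val = 0 from
    ⟨(ZMod.val_eq_zero a).1 h.1, (ZMod.val_eq_zero b).1 h.2⟩
  generalize a.val = A at hab hA ⊢
  generalize b.val = B at hab hB ⊢
  -- conjugate by hh
  have h2 : v ^ A * (u⁻¹) ^ B = 1 := by
    have h := congrArg (fun x => hh * x * hh⁻¹) hab
    simp only [mul_one, mul_inv_cancel] at h
    have h3 : hh * (u ^ A * v ^ B) * hh⁻¹ = (hh * u * hh⁻¹) ^ A * (hh * v * hh⁻¹) ^ B := by
      rw [conj_pow, conj_pow]; group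
    rw [h3, hhu, hhv] at h
    exact h
  have h4 : v ^ A = u ^ B := by
    rw [inv_pow] at h2
    exact mul_inv_eq_one.1 h2
  have h5 : u ^ A = (v ^ B)⁻¹ := eq_inv_of_mul_eq_one_left hab
  have h6 : u ^ (A * A + B * B) = 1 := by
    rw [pow_add, pow_mul, h5, inv_pow, ← pow_mul, mul_comm B A, pow_mul, h4, ← pow_mul,
      inv_mul_cancel]
  have h7 : orderOf u = 3 := orderOf_eq_prime hu3 hu
  have h8 : 3 ∣ A * A + B * B := h7 ▸ orderOf_dvd_of_pow_eq_one h6
  clear hab h2 h4 h5 h6 h7 huv hhu hhv hu hu3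
  interval_cases A <;> interval_cases B <;> first | exact ⟨rfl, rfl⟩ | (exfalso; revert h8; decide)

end Cfsg.Agent.Lib.Helper70P8indep
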