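import Mathlib
import Cfsg.Prelude.Def_Transfer
import Cfsg.Prelude.Def_CaseTheorems
import Cfsg.Agent.Lib.Helper2Residual

/-! Project 8 (helper29), piece `res`. -/

set_option autoImplicit false

namespace Cfsg.Agent.Lib.Helper70P8res

open MulAction Subgroup

/-- piece `res` -/
theorem residual_top {G : Type*} [Group G] [Finite G] (hG : ∀ H : Subgroup G, H.index ≠ 2) :
    Cfsg.pResidual 2 G = ⊤ := by
  have : Fact (Nat.Prime 2) := ⟨Nat.prime_two⟩
  have hN : (Cfsg.pResidual 2 G).Normal := Cfsg.Agent.Lib.Helper2Residual.pResidual_normal 2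
  obtain ⟨k, hk⟩ := Cfsg.Agent.Lib.Helper2Residual.index_pResidual (G := G) Nat.prime_two
  rcases Nat.eq_zero_or_pos k with h0 | h0
  · subst h0
    exact Subgroup.index_eq_one.1 (by simpa using hk)
  · exfalso
    obtain ⟨j, rfl⟩ : ∃ j, k = j + 1 := ⟨k - 1, by omega⟩
    have hcard : Nat.card (G ⧸ Cfsg.pResidual 2 G) = 2 ^ (j + 1) := hk
    obtain ⟨K, hK⟩ := Sylow.exists_subgroup_card_pow_prime (G := G ⧸ Cfsg.pResidual 2 G) 2 (n := j)
      (by rw [hcard]; exact pow_dvd_pow 2 (Nat.le_succ j))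
    have hidx : K.index = 2 := by
      have h1 := K.card_mul_index
      rw [hK, hcard, pow_succ] at h1
      exact Nat.eq_of_mul_eq_mul_left (by positivity) h1
    apply hG (K.comap (QuotientGroup.mk' (Cfsg.pResidual 2 G)))
    rw [Subgroup.index_comap_of_surjective _ (QuotientGroup.mk'_surjective _), hidx]

end Cfsg.Agent.Lib.Helper70P8res
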