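import Mathlib

/-! Project 8 (helper29), piece `swap`. -/

set_option autoImplicit false

namespace Cfsg.Agent.Lib.Helper70P8swap

open MulAction Subgroup

variable {G : Type*} [Group G] [Finite G] [IsSimpleGroup G]

/-- piece `swap` -/
theorem exists_swap
    (hreg : ∀ P Q Q' : Sylow 3 G, Q ≠ P → Q' ≠ P → ∃ x ∈ (P : Subgroup G), x • Q = Q')
    (P Q : Sylow 3 G) (hQ : Q ≠ P) : ∃ t : G, t • P = Q ∧ t • Q = P := by
  have : Fact (Nat.Prime 3) := ⟨by norm_num⟩
  obtain ⟨g, hg⟩ := MulAction.exists_smul_eq G P Q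
  have h1 : g • Q ≠ Q := by
    intro h
    apply hQ
    have : g • Q = g • P := by rw [h, hg]
    exact smul_left_cancel g this
  obtain ⟨x, hxQ, hx⟩ := hreg Q (g • Q) P h1 hQ.symm
  refine ⟨x * g, ?_, ?_⟩
  · rw [mul_smul, hg]
    exact Sylow.smul_eq_iff_mem_normalizer.mpr (le_normalizer hxQ)
  · rw [mul_smul, hx]

end Cfsg.Agent.Lib.Helper70P8swap
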