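import Mathlib
import Cfsg.Prelude.Def_Solvable
import Cfsg.Agent.Lib.Helper71ZaDefs
import Cfsg.Agent.Lib.Helper76ZaZ12
import Cfsg.Agent.Lib.Helper1FpfSylow

/-! Project 71 (Zassenhaus), pieces ODD and PC. -/

set_option autoImplicit false

namespace Cfsg.Agent.Lib.Helper70ZaODD_PC

open Cfsg.Agent.Lib.Helper71ZaDefs Subgroup

/-! ## ODD -/
theorem solvable_of_fc_odd {H : Type*} [Group H] [Finite H] (h : FC H)
    (hodd : ¬ 2 ∣ Nat.card H) : Group.IsSolvable H := by
  obtain ⟨p, hp, d, ρ, hd, hρ⟩ := h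
  have : Nonempty (Fin d) := Fin.pos_iff_nonempty.1 hd
  have hcyc : ∀ A : Subgroup H, (∀ a ∈ A, ∀ b ∈ A, a * b = b * a) → IsCyclic A :=
    fun A hA => Cfsg.Agent.Lib.Helper76ZaZ12.zg_cyc hρ A hA
  have hZ : IsZGroup H := by
    refine ⟨fun q hq P => ?_⟩
    have : Fact q.Prime := ⟨hq⟩
    have huniq := Cfsg.Agent.Lib.Helper1FpfSylow.unique_of_abelian_cyclic (P := P) P.isPGroup' (by
      intro E hE
      have h1 : IsCyclic (E.map (P : Subgroup H).subtype) := by
        apply hcyc
        rintro _ ⟨a, ha, rfl⟩ _ ⟨b, hb, rfl⟩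
        have := hE.is_comm.comm (⟨a, ha⟩ : E) ⟨b, hb⟩
        have h2 : a * b = b * a := congrArg Subtype.val this
        rw [← map_mul, ← map_mul, h2]
      exact (E.equivMapOfInjective _ (P : Subgroup H).subtype_injective).isCyclic.mpr h1)
    rcases Cfsg.Agent.Lib.Helper1UniqInv.main q P.isPGroup' huniq with h | ⟨h2, -⟩
    · exact h
    · subst h2
      have h1 : Nat.card (P : Subgroup H) = 1 := by
        rw [Sylow.card_eq_multiplicity, Nat.factorization_eq_zero_of_not_dvd hodd, pow_zero]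
      have : Subsingleton (P : Subgroup H) := (Nat.card_eq_one_iff_unique.1 h1).1
      exact isCyclic_of_subsingleton
  infer_instance

/-! ## PC : perfect core -/
theorem exists_perfect_core {G : Type*} [Group G] [Finite G] (hns : ¬ Group.IsSolvable G) :
    ∃ S : Subgroup G, S.Normal ∧ S ≠ ⊥ ∧ commutator S = ⊤ := by
  obtain ⟨S, ⟨n, rfl⟩, hmin⟩ := (wellFounded_lt (α := Subgroup G)).has_min
    (Set.range (derivedSeries G)) ⟨_, ⟨0, rfl⟩⟩
  have hle : derivedSeries G (n + 1) ≤ derivedSeries G n :=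
    derivedSeries_antitone G (Nat.le_succ n)
  have heq : derivedSeries G (n + 1) = derivedSeries G n :=
    eq_of_le_of_not_lt hle (hmin _ ⟨n + 1, rfl⟩)
  refine ⟨derivedSeries G n, inferInstance, ?_, ?_⟩
  · intro h
    exact hns ((Group.isSolvable_def G).2 ⟨n, h⟩)
  · apply Subgroup.map_injective (derivedSeries G n).subtype_injective
    rw [commutator_def, Subgroup.map_commutator, ← MonoidHom.range_eq_map, Subgroup.range_subtype]
    exact heq

end Cfsg.Agent.Lib.Helper70ZaODD_PC
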