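import Mathlib
import Cfsg.Agent.Lib.Helper24Fpf

/-! Hughes--Thompson--Kegel: if `H` is a proper normal subgroup of the finite group `G` and all
elements outside `H` have `p`-th power `1`, then `H` is nilpotent. -/

set_option autoImplicit false

namespace Cfsg.Agent.Lib.Helper71Kegel

universe u

theorem eq_of_pow_eq {X : Type*} [Group X] {a b : X} {p i : ℕ} (ha : a ^ p = 1) (hb : b ^ p = 1)
    (hab : a ^ i = b ^ i) (hc : Nat.Coprime i p) : a = b := by
  have h1 := Nat.gcd_eq_gcd_ab i p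
  rw [hc.gcd_eq_one] at h1
  have h2 : ∀ c : X, c ^ p = 1 → c = (c ^ i) ^ (Nat.gcdA i p) := by
    intro c hc'
    calc c = c ^ ((1 : ℕ) : ℤ) := by simp
      _ = c ^ ((i : ℤ) * Nat.gcdA i p + (p : ℤ) * Nat.gcdB i p) := by rw [h1]
      _ = (c ^ i) ^ (Nat.gcdA i p) := by
        rw [zpow_add, zpow_mul, zpow_mul, zpow_natCast, zpow_natCast, hc', one_zpow, mul_one]
  rw [h2 a ha, h2 b hb, hab]

/-- The averaging argument. -/
theorem key {W X : Type*} [CommGroup W] [Group X] (ρ : X →* MulAut W) (S : Subgroup X) [Finite S]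
    (x : X) (hx : ∀ g ∈ S, x * g * x⁻¹ ∈ S) (p : ℕ) (hp : p.Prime)
    (hpow : ∀ g ∈ S, (g * x) ^ p = 1)
    (hnorm : ∀ g ∈ S, ∀ w : W, ∏ i ∈ Finset.range p, ρ ((g * x) ^ i) w = 1)
    (w : W) (t : X) (ht : t ∈ S) : ρ t (w ^ Nat.card S) = w ^ Nat.card S := by
  classical
  have := Fintype.ofFinite S
  have hxi : ∀ (i : ℕ), ∀ g ∈ S, x ^ i * g * (x ^ i)⁻¹ ∈ S := by
    intro i
    induction i with
    | zero => intro g hg; simpa using hg
    | succ n ih =>
      intro g hg
      have h1 := hx _ (ih g hg)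
      have h2 : x ^ (n + 1) * g * (x ^ (n + 1))⁻¹ = x * (x ^ n * g * (x ^ n)⁻¹) * x⁻¹ := by
        rw [pow_succ']; group
      rw [h2]; exact h1
  have hmem : ∀ (i : ℕ), ∀ g ∈ S, (g * x) ^ i * (x ^ i)⁻¹ ∈ S := by
    intro i
    induction i with
    | zero => intro g _; simp
    | succ n ih =>
      intro g hg
      have h2 : (g * x) ^ (n + 1) * (x ^ (n + 1))⁻¹ =
          ((g * x) ^ n * (x ^ n)⁻¹) * (x ^ n * g * (x ^ n)⁻¹) := by
        rw [pow_succ, pow_succ]; group
      rw [h2]; exact S.mul_mem (ih g hg) (hxi n g hg)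
  let f : ℕ → S → S := fun i g => ⟨(g * x) ^ i * (x ^ i)⁻¹, hmem i g g.2⟩
  have hbij : ∀ i, 0 < i → i < p → Function.Bijective (f i) := by
    intro i h0 hi
    apply Finite.injective_iff_bijective.mp
    intro g h hgh
    have h1 : ((g : X) * x) ^ i * (x ^ i)⁻¹ = ((h : X) * x) ^ i * (x ^ i)⁻¹ :=
      congrArg Subtype.val hgh
    have h2 : ((g : X) * x) ^ i = ((h : X) * x) ^ i := mul_right_cancel h1
    have h3 := eq_of_pow_eq (hpow g g.2) (hpow h h.2) h2
      (Nat.Coprime.symm (Nat.coprime_of_lt_prime h0.ne' hi hp))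
    exact Subtype.ext (mul_right_cancel h3)
  let τ : W → W := fun u => ∏ s : S, ρ s u
  have hτ : ∀ u, ρ t (τ u) = τ u := by
    intro u
    simp only [τ, map_prod]
    rw [← Equiv.prod_comp (Equiv.mulLeft (⟨t, ht⟩ : S)) (fun s : S => ρ s u)]
    refine Finset.prod_congr rfl fun s _ => ?_
    simp [map_mul]
  have h2 : ∏ g : S, ∏ i ∈ Finset.range p, ρ (((g : X) * x) ^ i) w = 1 :=
    Finset.prod_eq_one fun g _ => hnorm g g.2 w
  obtain ⟨k, rfl⟩ := Nat.exists_eq_succ_of_ne_zero hp.ne_zero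
  rw [Finset.prod_comm, Finset.prod_range_succ'] at h2
  have h3 : ∏ g : S, ρ (((g : X) * x) ^ 0) w = w ^ Nat.card S := by
    simp [Nat.card_eq_fintype_card]
  have h4 : ∀ i ∈ Finset.range k, ∏ g : S, ρ (((g : X) * x) ^ (i + 1)) w =
      τ (ρ (x ^ (i + 1)) w) := by
    intro i hi
    show _ = ∏ s : S, ρ s (ρ (x ^ (i + 1)) w)
    rw [← (hbij (i + 1) (Nat.succ_pos i) (Nat.succ_lt_succ (Finset.mem_range.mp hi))).prod_comp
      (fun s : S => ρ s (ρ (x ^ (i + 1)) w))]
    refine Finset.prod_congr rfl fun g _ => ?_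
    rw [← MulAut.mul_apply, ← map_mul]
    congr 2
    show _ = ((g : X) * x) ^ (i + 1) * (x ^ (i + 1))⁻¹ * x ^ (i + 1)
    group
  rw [h3, Finset.prod_congr rfl h4] at h2
  have h5 : w ^ Nat.card S = (∏ i ∈ Finset.range k, τ (ρ (x ^ (i + 1)) w))⁻¹ :=
    eq_inv_of_mul_eq_one_right h2
  rw [h5, map_inv, map_prod]
  congr 1
  exact Finset.prod_congr rfl fun i _ => hτ _

/-- `H` is a proper normal subgroup and all elements outside `H` have `p`-th power `1`. -/
structure HT (p : ℕ) {G : Type*} [Group G] (H : Subgroup G) : Prop where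
  normal : H.Normal
  ne_top : H ≠ ⊤
  pow : ∀ y, y ∉ H → y ^ p = 1

theorem HT.centralizes' {G : Type*} [Group G] {p : ℕ} (hp : p.Prime) {H : Subgroup G}
    (h : HT p H) (B S : Subgroup G) [B.Normal] [Finite S] [Finite B] (hBH : B ≤ H)
    (hBc : ∀ a ∈ B, ∀ b ∈ B, a * b = b * a) (x : G)
    (hxS : ∀ g ∈ S, ∃ g' ∈ S, ∀ w ∈ B, (x * g * x⁻¹) * w * (x * g * x⁻¹)⁻¹ = g' * w * g'⁻¹)
    (hSx : ∀ g ∈ S, g * x ∉ H) (hcop : (Nat.card S).Coprime (Nat.card B)) :
    S ≤ Subgroup.centralizer (B : Set G) := by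
  classical
  let _ : CommGroup B :=
    { (inferInstance : Group B) with mul_comm := fun a b => Subtype.ext (hBc a a.2 b b.2) }
  have hid : ∀ (y : G) (w : B) (n : ℕ),
      ((∏ i ∈ Finset.range n, (MulAut.conjNormal (y ^ i) : MulAut B) w : B) : G) * y ^ n =
        ((w : G) * y) ^ n := by
    intro y w n
    induction n with
    | zero => simp
    | succ n ih =>
      rw [Finset.prod_range_succ, pow_succ ((w : G) * y), ← ih]
      show ((∏ i ∈ Finset.range n, (MulAut.conjNormal (y ^ i) : MulAut B) w : B) : G) *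
        ((MulAut.conjNormal (y ^ n) : MulAut B) w : G) * y ^ (n + 1) = _
      rw [MulAut.conjNormal_apply, pow_succ]
      group
  have key1 := key (MonoidHom.id (MulAut B)) (S.map (MulAut.conjNormal : G →* MulAut B))
    (MulAut.conjNormal x) (by
      rintro _ ⟨g, hg, rfl⟩
      obtain ⟨g', hg', hgg⟩ := hxS g hg
      refine ⟨g', hg', ?_⟩
      rw [← map_inv, ← map_mul, ← map_mul]
      ext w
      rw [MulAut.conjNormal_apply, MulAut.conjNormal_apply, hgg w w.2]) p hp
    (by
      rintro _ ⟨g, hg, rfl⟩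
      rw [← map_mul, ← map_pow, h.pow _ (hSx g hg), map_one])
    (by
      rintro _ ⟨g, hg, rfl⟩ w
      have h1 : (w : G) * (g * x) ∉ H := by
        intro h2
        apply hSx g hg
        have := H.mul_mem (H.inv_mem (hBH w.2)) h2
        rwa [inv_mul_cancel_left] at this
      have h2 := hid (g * x) w p
      rw [h.pow _ h1, h.pow _ (hSx g hg), mul_one] at h2
      have h3 : ∏ i ∈ Finset.range p, (MulAut.conjNormal ((g * x) ^ i) : MulAut B) w = 1 :=
        Subtype.ext h2
      rw [← h3]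
      refine Finset.prod_congr rfl fun i _ => ?_
      rw [MonoidHom.id_apply, ← map_mul, ← map_pow])
  have hcop' : (Nat.card (S.map (MulAut.conjNormal : G →* MulAut B))).Coprime (Nat.card B) :=
    Nat.Coprime.coprime_dvd_left (Subgroup.card_map_dvd S _) hcop
  rw [Subgroup.le_centralizer_iff]
  intro w hw
  apply Cfsg.Agent.Lib.Helper24ThompsonFinal.mem_of_pow_mem_coprime _ w hcop'
  · intro v hv
    have h1 := congrArg Subtype.val (key1 ⟨w, hw⟩ (MulAut.conjNormal v) ⟨v, hv, rfl⟩)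
    generalize Nat.card (S.map (MulAut.conjNormal : G →* MulAut B)) = m at h1 ⊢
    have h2 : v * w ^ m * v⁻¹ = w ^ m := h1
    calc v * w ^ m = (v * w ^ m * v⁻¹) * v := by group
      _ = w ^ m * v := by rw [h2]
  · have : w ^ Nat.card B = 1 := by
      have := pow_card_eq_one' (G := B) (x := ⟨w, hw⟩)
      exact congrArg Subtype.val this
    rw [this]
    exact one_mem _

theorem HT.centralizes {G : Type*} [Group G] {p : ℕ} (hp : p.Prime) {H : Subgroup G}
    (h : HT p H) (B S : Subgroup G) [B.Normal] [Finite S] [Finite B] (hBH : B ≤ H)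
    (hBc : ∀ a ∈ B, ∀ b ∈ B, a * b = b * a) (x : G) (hxS : ∀ g ∈ S, x * g * x⁻¹ ∈ S)
    (hSx : ∀ g ∈ S, g * x ∉ H) (hcop : (Nat.card S).Coprime (Nat.card B)) :
    S ≤ Subgroup.centralizer (B : Set G) :=
  h.centralizes' hp B S hBH hBc x (fun g hg => ⟨_, hxS g hg, fun _ _ => rfl⟩) hSx hcop

/-- The elements of order dividing `q` in the centre of `N`. -/
def omegaZ {G : Type*} [Group G] (q : ℕ) (N : Subgroup G) : Subgroup G where
  carrier := {x | x ∈ N ∧ (∀ n ∈ N, n * x = x * n) ∧ x ^ q = 1}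
  one_mem' := ⟨N.one_mem, by simp, one_pow q⟩
  mul_mem' := by
    rintro x y ⟨hx, hxc, hxq⟩ ⟨hy, hyc, hyq⟩
    refine ⟨N.mul_mem hx hy, fun n hn => ?_, ?_⟩
    · rw [← mul_assoc, hxc n hn, mul_assoc, hyc n hn, mul_assoc]
    · rw [(show Commute x y from (hyc x hx)).mul_pow, hxq, hyq, one_mul]
  inv_mem' := by
    rintro x ⟨hx, hxc, hxq⟩
    refine ⟨N.inv_mem hx, fun n hn => ?_, by rw [inv_pow, hxq, inv_one]⟩
    have := hxc n hn
    calc n * x⁻¹ = x⁻¹ * (x * n) * x⁻¹ := by group
      _ = x⁻¹ * (n * x) * x⁻¹ := by rw [this]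
      _ = x⁻¹ * n := by group

theorem omegaZ_normal {G : Type*} [Group G] (q : ℕ) (N : Subgroup G) [hNn : N.Normal] :
    (omegaZ q N).Normal := by
  refine ⟨fun x hx g => ?_⟩
  obtain ⟨hx, hxc, hxq⟩ := hx
  refine ⟨hNn.conj_mem x hx g, fun n hn => ?_, by rw [conj_pow, hxq]; group⟩
  have h1 : g⁻¹ * n * g⁻¹⁻¹ ∈ N := hNn.conj_mem n hn g⁻¹
  have h2 := hxc _ h1
  calc n * (g * x * g⁻¹) = g * ((g⁻¹ * n * g⁻¹⁻¹) * x) * g⁻¹ := by group
    _ = g * (x * (g⁻¹ * n * g⁻¹⁻¹)) * g⁻¹ := by rw [h2]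
    _ = g * x * g⁻¹ * n := by group

theorem HT.exists_normalizing {G : Type*} [Group G] [Finite G] {p : ℕ} {H : Subgroup G}
    (h : HT p H) (q : ℕ) [Fact q.Prime] (S : Sylow q H) :
    ∃ x, x ∉ H ∧ x ∈ Subgroup.normalizer (((S : Subgroup H).map H.subtype : Subgroup G) : Set G) := by
  have := h.normal
  by_contra hcon
  push Not at hcon
  have h1 : Subgroup.normalizer (((S : Subgroup H).map H.subtype : Subgroup G) : Set G) ≤ H := by
    intro x hx
    by_contra hxH
    exact hcon x hxH hx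
  have h2 := Sylow.normalizer_sup_eq_top S
  rw [sup_eq_right.mpr h1] at h2
  exact h.ne_top h2

open Cfsg.Agent.Lib.Helper24Fpf in
theorem HT.center_ne_bot {G : Type*} [Group G] [Finite G] {p : ℕ} (hp : p.Prime)
    {H : Subgroup G} (h : HT p H) (N : Subgroup G) [hNn : N.Normal] (hNH : N ≤ H)
    (hnil : Group.IsNilpotent N) (hne : N ≠ ⊥) : Subgroup.center H ≠ ⊥ := by
  classical
  have hHn := h.normal
  have hnt : Nontrivial N := (Subgroup.nontrivial_iff_ne_bot N).mpr hne
  obtain ⟨a, -, haZ, ha1⟩ :=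
    Cfsg.Agent.Lib.Helper3Nilp.normal_inf_center_ne_bot (G := N) ⊤ top_ne_bot
  have hord : orderOf a ≠ 1 := by rwa [Ne, orderOf_eq_one_iff]
  obtain ⟨q, hq, hqd⟩ := Nat.exists_prime_and_dvd hord
  have := Fact.mk hq
  have hbq : orderOf (a ^ (orderOf a / q)) = q :=
    orderOf_pow_orderOf_div (orderOf_pos a).ne' hqd
  have hbZ : a ^ (orderOf a / q) ∈ Subgroup.center N := (Subgroup.center N).pow_mem haZ _
  generalize a ^ (orderOf a / q) = b at hbq hbZ
  let B : Subgroup G :=
    { carrier := {x | x ∈ N ∧ (∀ n ∈ N, n * x = x * n) ∧ x ^ q = 1}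
      one_mem' := ⟨N.one_mem, by simp, one_pow q⟩
      mul_mem' := by
        rintro x y ⟨hx, hxc, hxq⟩ ⟨hy, hyc, hyq⟩
        refine ⟨N.mul_mem hx hy, fun n hn => ?_, ?_⟩
        · rw [← mul_assoc, hxc n hn, mul_assoc, hyc n hn, mul_assoc]
        · rw [(show Commute x y from (hyc x hx)).mul_pow, hxq, hyq, one_mul]
      inv_mem' := by
        rintro x ⟨hx, hxc, hxq⟩
        refine ⟨N.inv_mem hx, fun n hn => ?_, by rw [inv_pow, hxq, inv_one]⟩
        have := hxc n hn
        calc n * x⁻¹ = x⁻¹ * (x * n) * x⁻¹ := by group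
          _ = x⁻¹ * (n * x) * x⁻¹ := by rw [this]
          _ = x⁻¹ * n := by group }
  have hBn : B.Normal := by
    refine ⟨fun x hx g => ?_⟩
    obtain ⟨hx, hxc, hxq⟩ := hx
    refine ⟨hNn.conj_mem x hx g, fun n hn => ?_, by rw [conj_pow, hxq]; group⟩
    have h1 : g⁻¹ * n * g⁻¹⁻¹ ∈ N := hNn.conj_mem n hn g⁻¹
    have h2 := hxc _ h1
    calc n * (g * x * g⁻¹) = g * ((g⁻¹ * n * g⁻¹⁻¹) * x) * g⁻¹ := by group
      _ = g * (x * (g⁻¹ * n * g⁻¹⁻¹)) * g⁻¹ := by rw [h2]
      _ = g * x * g⁻¹ * n := by group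
  have hBH : B ≤ H := fun x hx => hNH hx.1
  have hBp : IsPGroup q B := fun x => ⟨1, Subtype.ext (by simpa using x.2.2.2)⟩
  have hBc : ∀ x ∈ B, ∀ y ∈ B, x * y = y * x := fun x hx y hy => hy.2.1 x hx.1
  have hbB : (b : G) ∈ B := by
    refine ⟨b.2, fun n hn => ?_, ?_⟩
    · have := (Subgroup.mem_center_iff.mp hbZ) ⟨n, hn⟩
      exact congrArg Subtype.val this
    · have : b ^ q = 1 := by rw [← hbq]; exact pow_orderOf_eq_one b
      exact congrArg Subtype.val this
  have hb1 : (b : G) ≠ 1 := by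
    intro h'
    have : b = 1 := Subtype.ext h'
    rw [this, orderOf_one] at hbq
    exact hq.one_lt.ne hbq
  let Q : Sylow q H := default
  have hBHp : IsPGroup q (B.subgroupOf H) := by
    intro x
    refine ⟨1, Subtype.ext (Subtype.ext ?_)⟩
    have := x.2.2.2
    simpa using this
  have hBQ : B.subgroupOf H ≤ Q := normal_le_sylow (B.subgroupOf H) hBHp Q
  have hQnil : Group.IsNilpotent (Q : Subgroup H) := Q.isPGroup'.isNilpotent
  have hne' : (B.subgroupOf H).subgroupOf (Q : Subgroup H) ≠ ⊥ := by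
    intro h'
    have hbH : (⟨b, hBH hbB⟩ : H) ∈ B.subgroupOf H := hbB
    have : (⟨⟨b, hBH hbB⟩, hBQ hbH⟩ : (Q : Subgroup H)) ∈
        (B.subgroupOf H).subgroupOf (Q : Subgroup H) := hbH
    rw [h', Subgroup.mem_bot] at this
    apply hb1
    exact congrArg (fun t : (Q : Subgroup H) => ((t : H) : G)) this
  obtain ⟨z, hzB, hzZ, hz1⟩ :=
    Cfsg.Agent.Lib.Helper3Nilp.normal_inf_center_ne_bot (G := (Q : Subgroup H))
      ((B.subgroupOf H).subgroupOf (Q : Subgroup H)) hne'
  have hzB' : ((z : H) : G) ∈ B := hzB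
  have htop : Subgroup.centralizer ({(z : H)} : Set H) = ⊤ := by
    apply eq_top_of_sylow_le
    intro s _
    by_cases hsq : s = q
    · subst hsq
      refine ⟨Q, fun x hx => ?_⟩
      rw [Subgroup.mem_centralizer_singleton_iff]
      have := (Subgroup.mem_center_iff.mp hzZ) ⟨x, hx⟩
      exact (congrArg Subtype.val this)
    · let P : Sylow s H := default
      obtain ⟨x, hxH, hxP⟩ := h.exists_normalizing s P
      refine ⟨P, fun y hy => ?_⟩
      have h1 := h.centralizes hp B ((P : Subgroup H).map H.subtype) hBH hBc x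
        (fun g hg => (Subgroup.mem_normalizer_iff.mp hxP g).mp hg)
        (by
          rintro _ ⟨g, -, rfl⟩ h2
          apply hxH
          have := H.mul_mem (H.inv_mem g.2) h2
          rwa [Subgroup.subtype_apply, inv_mul_cancel_left] at this)
        (IsPGroup.coprime_card_of_ne s q hsq _ _ (P.isPGroup'.map _) hBp)
      rw [Subgroup.mem_centralizer_singleton_iff]
      have h2 : (y : G) ∈ (P : Subgroup H).map H.subtype := ⟨y, hy, rfl⟩
      exact Subtype.ext ((h1 h2) z hzB').symm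
  intro hbot
  have hzc : (z : H) ∈ Subgroup.center H := by
    rw [Subgroup.mem_center_iff]
    intro g
    have : g ∈ Subgroup.centralizer ({(z : H)} : Set H) := by rw [htop]; trivial
    rw [Subgroup.mem_centralizer_singleton_iff] at this
    exact this
  rw [hbot, Subgroup.mem_bot] at hzc
  exact hz1 (Subtype.ext hzc)

theorem HT.subgroupOf {G : Type*} [Group G] {p : ℕ} {H : Subgroup G} (h : HT p H)
    (L : Subgroup G) (hL : ¬ L ≤ H) : HT p (H.subgroupOf L) where
  normal := by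
    have := h.normal
    infer_instance
  ne_top := by
    rw [Ne, Subgroup.subgroupOf_eq_top]; exact hL
  pow := fun y hy => Subtype.ext (h.pow y hy)

theorem HT.map_mk {G : Type*} [Group G] {p : ℕ} {H : Subgroup G} (h : HT p H)
    (Z : Subgroup G) [Z.Normal] (hZ : Z ≤ H) : HT p (H.map (QuotientGroup.mk' Z)) where
  normal := h.normal.map _ (QuotientGroup.mk'_surjective Z)
  ne_top := by
    intro htop
    apply h.ne_top
    have := Subgroup.comap_map_eq_self (f := QuotientGroup.mk' Z) (H := H)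
      (by rw [QuotientGroup.ker_mk']; exact hZ)
    rw [htop, Subgroup.comap_top] at this
    exact this.symm
  pow := by
    intro y hy
    obtain ⟨g, rfl⟩ := QuotientGroup.mk'_surjective Z y
    rw [← map_pow, h.pow g (fun hg => hy ⟨g, hg, rfl⟩), map_one]

theorem nilpotent_of_le {G : Type*} [Group G] (H L : Subgroup G) (D : Subgroup H)
    (hD : ∀ d ∈ D, (d : G) ∈ L) (hnil : Group.IsNilpotent (H.subgroupOf L)) :
    Group.IsNilpotent D := by
  let f : D →* (H.subgroupOf L) :=
    { toFun := fun d => ⟨⟨((d : H) : G), hD d d.2⟩, (d : H).2⟩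
      map_one' := rfl
      map_mul' := fun _ _ => rfl }
  apply Subgroup.isNilpotent_of_ker_le_center f
  intro d hd
  have h1 : f d = 1 := hd
  have h2 : ((d : H) : G) = 1 := congrArg (fun t : (H.subgroupOf L) => ((t : L) : G)) h1
  have h3 : d = 1 := Subtype.ext (Subtype.ext h2)
  rw [h3]
  exact Subgroup.one_mem _

theorem mem_of_pow_mem {G : Type*} [Group G] {p : ℕ} (hp : p.Prime) (H : Subgroup G) (x : G)
    (hx : x ^ p = 1) (j : ℕ) (hj : x ^ j ∈ H) (hne : x ^ j ≠ 1) : x ∈ H := by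
  have hc : Nat.Coprime j p := by
    rw [Nat.coprime_comm, Nat.Prime.coprime_iff_not_dvd hp]
    rintro ⟨m, rfl⟩
    apply hne
    rw [pow_mul, hx, one_pow]
  apply Cfsg.Agent.Lib.Helper24ThompsonFinal.mem_of_pow_mem_coprime H x hc hj
  rw [hx]; exact H.one_mem

open Cfsg Cfsg.Agent.Lib.Helper11Frobenius Cfsg.Agent.Lib.Helper24Functor
  Cfsg.Agent.Lib.Helper24Thompson Cfsg.Agent.Lib.Helper24ThompsonOdd Cfsg.Agent.Lib.Helper24Fpf in
theorem nilpotent_aux (p : ℕ) (hp : p.Prime) : ∀ (n : ℕ) (G : Type u) [Group G] [Finite G]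
    (H : Subgroup G), Nat.card G = n → HT p H → Group.IsNilpotent H := by
  intro n
  induction n using Nat.strong_induction_on with
  | _ n ih =>
  intro G _ _ H hn h
  have hHn := h.normal
  have key : ∀ N : Subgroup G, N.Normal → N ≤ H → Group.IsNilpotent N → N ≠ ⊥ →
      Group.IsNilpotent H := by
    intro N hNn hNH hnil hne
    have hZ := h.center_ne_bot hp N hNH hnil hne
    have hZn : ((Subgroup.center H).map H.subtype).Normal := inferInstance
    have hZH : (Subgroup.center H).map H.subtype ≤ H := Subgroup.map_subtype_le _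
    have hZne : (Subgroup.center H).map H.subtype ≠ ⊥ := by
      rw [Ne, Subgroup.map_eq_bot_iff_of_injective _ H.subtype_injective]; exact hZ
    generalize hZdef : (Subgroup.center H).map H.subtype = Z at hZn hZH hZne
    have hlt : Nat.card (G ⧸ Z) < n := by
      rw [← hn, ← Subgroup.index_eq_card, ← Z.card_mul_index]
      have h1 : 1 < Nat.card Z := (Subgroup.one_lt_card_iff_ne_bot _).mpr hZne
      have h2 : 0 < Z.index := Nat.pos_of_ne_zero Z.index_ne_zero_of_finite
      nlinarith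
    have hq : Group.IsNilpotent (H.map (QuotientGroup.mk' Z)) :=
      ih _ hlt (G ⧸ Z) _ rfl (h.map_mk Z hZH)
    apply Subgroup.isNilpotent_of_ker_le_center ((QuotientGroup.mk' Z).subgroupMap H)
    intro y hy
    have h1 : (QuotientGroup.mk' Z).subgroupMap H y = 1 := hy
    have h2 : QuotientGroup.mk' Z (y : G) = 1 := congrArg Subtype.val h1
    have h3 : (y : G) ∈ Z := by
      rwa [← QuotientGroup.ker_mk' Z, MonoidHom.mem_ker]
    rw [← hZdef] at h3
    obtain ⟨y', hy', hyy⟩ := h3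
    have : y' = y := Subtype.ext hyy
    rwa [← this]
  have sub : ∀ L : Subgroup G, ¬ L ≤ H → L ≠ ⊤ → Group.IsNilpotent (H.subgroupOf L) := by
    intro L hL hne
    refine ih _ ?_ L (H.subgroupOf L) rfl (h.subgroupOf L hL)
    rw [← hn]
    exact lt_of_le_of_ne (Subgroup.card_le_card_group L)
      (fun h' => hne (Subgroup.eq_top_of_card_eq L h'))
  by_cases hodd : ∃ q, q.Prime ∧ q ≠ 2 ∧ q ∣ Nat.card H
  swap
  · push Not at hodd
    have : Fact (Nat.Prime 2) := ⟨Nat.prime_two⟩
    have h2 : Nat.card H = 2 ^ (Nat.card H).primeFactorsList.length :=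
      Nat.eq_prime_pow_of_unique_prime_dvd Nat.card_pos.ne' (fun {d} hd hdvd => by
        by_contra hne
        exact hodd d hd hne hdvd)
    exact (IsPGroup.of_card h2).isNilpotent
  obtain ⟨q, hq, hq2, hqd⟩ := hodd
  have := Fact.mk hq
  let P : Sylow q H := default
  obtain ⟨x, hxH, hxP⟩ := h.exists_normalizing q P
  have hPne : (P : Subgroup H) ≠ ⊥ := by
    intro h'
    have h1 := P.not_dvd_index
    rw [h', Subgroup.index_bot] at h1
    exact h1 hqd
  let φ : H →* H := (MulAut.conjNormal x : MulAut H).toMonoidHom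
  have hφinj : Function.Injective φ := (MulAut.conjNormal x : MulAut H).injective
  have hφ : ∀ y : H, ((φ y : H) : G) = x * y * x⁻¹ := fun y => MulAut.conjNormal_apply x y
  have hP : (P : Subgroup H).map φ = P := by
    apply Subgroup.eq_of_le_of_card_ge
    · rintro _ ⟨w, hw, rfl⟩
      have h1 : (w : G) ∈ (P : Subgroup H).map H.subtype := ⟨w, hw, rfl⟩
      obtain ⟨w', hw', hww⟩ := (Subgroup.mem_normalizer_iff.mp hxP _).mp h1
      have : φ w = w' := Subtype.ext (by rw [hφ]; exact hww.symm)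
      rw [this]; exact hw'
    · rw [Subgroup.card_map_of_injective hφinj]
  by_contra hnot
  have step : ∀ (W : ∀ (Q : Type u) [Group Q], Subgroup Q), IsCharPFunctor.{u} q W →
      ∀ b : Bool, HasNPC q (loc b (inducedFunctor W (P : Subgroup H))) := by
    intro W hW b
    have hUφ : (inducedFunctor W (P : Subgroup H)).map φ = inducedFunctor W (P : Subgroup H) := by
      rw [← ind_map hW φ (P : Subgroup H) P.isPGroup' hφinj.injOn, hP]
    have hUne : inducedFunctor W (P : Subgroup H) ≠ ⊥ :=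
      ind_ne_bot hW (P : Subgroup H) P.isPGroup' hPne
    have hUp : IsPGroup q (inducedFunctor W (P : Subgroup H)) := P.isPGroup'.to_le (ind_le _)
    generalize inducedFunctor W (P : Subgroup H) = U at hUφ hUne hUp
    have hxU : x ∈ Subgroup.normalizer ((U.map H.subtype : Subgroup G) : Set G) := by
      apply Subgroup.mem_normalizer_fintype
      rintro _ ⟨w, hw, rfl⟩
      refine ⟨φ w, ?_, hφ w⟩
      rw [SetLike.mem_coe, ← hUφ]
      exact ⟨w, hw, rfl⟩
    by_cases htop : Subgroup.normalizer ((U.map H.subtype : Subgroup G) : Set G) = ⊤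
    · exfalso
      apply hnot
      exact key (U.map H.subtype) (Subgroup.normalizer_eq_top_iff.mp htop)
        (Subgroup.map_subtype_le _) (hUp.map _).isNilpotent
        (by rw [Ne, Subgroup.map_eq_bot_iff_of_injective _ H.subtype_injective]; exact hUne)
    · apply hasNPC_of_nilpotent q
      apply nilpotent_of_le H _ (loc b U) _ (sub _ (fun hle => hxH (hle hxU)) htop)
      intro d hd
      have h1 := loc_le_normalizer b U hd
      apply Subgroup.mem_normalizer_fintype
      rintro _ ⟨w, hw, rfl⟩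
      exact ⟨d * w * d⁻¹, (Subgroup.mem_normalizer_iff.mp h1 w).mp hw, rfl⟩
  have hnpc : HasNPC q H := thompson_odd_A hq2 H P (step fJA (isChar_fJA q) true)
    (by have := step fZ (isChar_fZ q) false; rwa [ind_fZ] at this)
  obtain ⟨K, hKn, hK1, k, hK2⟩ := hnpc
  have hK'n : (K.map H.subtype).Normal := by
    refine ⟨?_⟩
    rintro _ ⟨y, hy, rfl⟩ g
    refine ⟨(MulAut.conjNormal g : MulAut H) y, ?_, MulAut.conjNormal_apply g y⟩
    rw [SetLike.mem_coe, mem_iff_coprime K hK1 k hK2] at hy ⊢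
    rwa [MulEquiv.orderOf_eq]
  have hKtop : K ≠ ⊤ := by
    intro h'
    rw [h', Subgroup.card_top] at hK1
    exact (Nat.Prime.coprime_iff_not_dvd hq).mp hK1.symm hqd
  by_cases hKbot : K = ⊥
  · apply hnot
    have : Nat.card H = q ^ k := by rw [← hK2, hKbot, Subgroup.index_bot]
    exact (IsPGroup.of_card this).isNilpotent
  · apply hnot
    have hxL : x ∈ K.map H.subtype ⊔ Subgroup.zpowers x :=
      Subgroup.mem_sup_right (Subgroup.mem_zpowers x)
    have hLtop : K.map H.subtype ⊔ Subgroup.zpowers x ≠ ⊤ := by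
      intro htop
      apply hKtop
      rw [eq_top_iff]
      intro y _
      have h1 : (y : G) ∈ K.map H.subtype ⊔ Subgroup.zpowers x := by rw [htop]; trivial
      obtain ⟨k', hk', c, hc, hkc⟩ := Subgroup.mem_sup_of_normal_left.mp h1
      obtain ⟨j, rfl⟩ := mem_powers_iff_mem_zpowers.mpr hc
      have hk'H : k' ∈ H := Subgroup.map_subtype_le _ hk'
      have h2 : x ^ j ∈ H := by
        have := H.mul_mem (H.inv_mem hk'H) y.2
        rwa [← hkc, inv_mul_cancel_left] at this
      have h3 : x ^ j = 1 := by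
        by_contra hne
        exact hxH (mem_of_pow_mem hp H x (h.pow x hxH) j h2 hne)
      have hkc' : k' = y := by
        have : k' * x ^ j = y := hkc
        rwa [h3, mul_one] at this
      obtain ⟨y', hy', hyy⟩ := hk'
      have : y' = y := Subtype.ext (hyy.trans hkc')
      rwa [← this]
    have hKnil : Group.IsNilpotent K :=
      nilpotent_of_le H (K.map H.subtype ⊔ Subgroup.zpowers x) K
        (fun d hd => Subgroup.mem_sup_left (Subgroup.mem_map_of_mem H.subtype hd))
        (sub _ (fun hle => hxH (hle hxL)) hLtop)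
    exact key (K.map H.subtype) hK'n (Subgroup.map_subtype_le _)
      (Group.nilpotent_of_mulEquiv (K.equivMapOfInjective H.subtype H.subtype_injective))
      (by rw [Ne, Subgroup.map_eq_bot_iff_of_injective _ H.subtype_injective]; exact hKbot)

/-- **Hughes--Thompson--Kegel**. -/
theorem nilpotent_of_HT {G : Type u} [Group G] [Finite G] {p : ℕ} (hp : p.Prime) (H : Subgroup G)
    (h : HT p H) : Group.IsNilpotent H := nilpotent_aux p hp _ G H rfl h

/-- **Hughes--Thompson**: the index is `p` unless `G` is a `p`-group. -/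
theorem HT.index_eq {G : Type u} [Group G] [Finite G] {p : ℕ} (hp : p.Prime) {H : Subgroup G}
    (h : HT p H) (hG : ¬ IsPGroup p G) : H.index = p := by
  classical
  have hHn := h.normal
  have hnil := nilpotent_of_HT hp H h
  have hpF : Fact p.Prime := ⟨hp⟩
  obtain ⟨q, hq, hqd, hqp⟩ : ∃ q, q.Prime ∧ q ∣ Nat.card G ∧ q ≠ p := by
    by_contra hcon
    push Not at hcon
    apply hG
    exact IsPGroup.of_card
      (Nat.eq_prime_pow_of_unique_prime_dvd Nat.card_pos.ne' (fun {d} hd hdd => hcon d hd hdd))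
  have hqF : Fact q.Prime := ⟨hq⟩
  obtain ⟨u, hu⟩ := exists_prime_orderOf_dvd_card' (G := G) q hqd
  have huH : u ∈ H := by
    by_contra hc
    have h1 : q ∣ p := hu ▸ orderOf_dvd_of_pow_eq_one (h.pow u hc)
    exact hqp ((Nat.prime_dvd_prime_iff_eq hq hp).mp h1)
  let Q : Sylow q H := default
  have hQn : (Q : Subgroup H).Normal := inferInstance
  have hQne : (Q : Subgroup H) ≠ ⊥ := by
    intro h'
    have h1 := Q.not_dvd_index
    rw [h', Subgroup.index_bot] at h1
    apply h1
    have h2 := orderOf_dvd_natCard (⟨u, huH⟩ : H)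
    rwa [Subgroup.orderOf_mk, hu] at h2
  obtain ⟨a, haQ, haZ, ha1⟩ :=
    Cfsg.Agent.Lib.Helper3Nilp.normal_inf_center_ne_bot (G := H) (Q : Subgroup H) hQne
  have hqa : q ∣ orderOf a := by
    obtain ⟨m, hm⟩ := (IsPGroup.iff_orderOf.mp Q.isPGroup') ⟨a, haQ⟩
    rw [Subgroup.orderOf_mk] at hm
    rw [hm]
    apply dvd_pow_self
    rintro rfl
    rw [pow_zero, orderOf_eq_one_iff] at hm
    exact ha1 hm
  have hbq : orderOf (a ^ (orderOf a / q)) = q :=
    orderOf_pow_orderOf_div (orderOf_pos a).ne' hqa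
  have hbZ : a ^ (orderOf a / q) ∈ Subgroup.center H := (Subgroup.center H).pow_mem haZ _
  generalize a ^ (orderOf a / q) = v at hbq hbZ
  have hvB : (v : G) ∈ omegaZ q H := by
    refine ⟨v.2, fun n hn => ?_, ?_⟩
    · have := (Subgroup.mem_center_iff.mp hbZ) ⟨n, hn⟩
      exact congrArg Subtype.val this
    · have : v ^ q = 1 := by rw [← hbq]; exact pow_orderOf_eq_one v
      exact congrArg Subtype.val this
  have hvq : orderOf (v : G) = q := by rw [Subgroup.orderOf_coe, hbq]
  have hBn : (omegaZ q H).Normal := omegaZ_normal q H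
  have hBH : omegaZ q H ≤ H := fun x hx => hx.1
  have hBp : IsPGroup q (omegaZ q H) := fun x => ⟨1, Subtype.ext (by simpa using x.2.2.2)⟩
  have hBc : ∀ x ∈ omegaZ q H, ∀ y ∈ omegaZ q H, x * y = y * x :=
    fun x hx y hy => hy.2.1 x hx.1
  by_contra hidx
  have hpow : ∀ y : G ⧸ H, y ^ p = 1 := by
    intro y
    obtain ⟨g, rfl⟩ := QuotientGroup.mk'_surjective H y
    by_cases hg : g ∈ H
    · have h1 : QuotientGroup.mk' H g = 1 := (QuotientGroup.eq_one_iff g).mpr hg
      rw [h1, one_pow]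
    · rw [← map_pow, h.pow g hg, map_one]
  have hpg : IsPGroup p (G ⧸ H) := fun y => ⟨1, by rw [pow_one]; exact hpow y⟩
  have hnt : Nontrivial (G ⧸ H) := by
    rw [← Finite.one_lt_card_iff_nontrivial, ← Subgroup.index_eq_card]
    have h1 : H.index ≠ 1 := Subgroup.index_eq_one.not.mpr h.ne_top
    have h2 : H.index ≠ 0 := H.index_ne_zero_of_finite
    omega
  have hcn := hpg.center_nontrivial
  obtain ⟨bq, hbq1⟩ := exists_ne (1 : Subgroup.center (G ⧸ H))
  obtain ⟨b, hb⟩ := QuotientGroup.mk'_surjective H (bq : G ⧸ H)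
  have hb1 : QuotientGroup.mk' H b ≠ 1 := by
    rw [hb]
    intro h'
    exact hbq1 (Subtype.ext h')
  have hbc : ∀ y : G ⧸ H, y * QuotientGroup.mk' H b = QuotientGroup.mk' H b * y := by
    intro y
    rw [hb]
    exact (Subgroup.mem_center_iff.mp bq.2) y
  have hbH : b ∉ H := fun h' => hb1 ((QuotientGroup.eq_one_iff b).mpr h')
  have hbo : orderOf (QuotientGroup.mk' H b) = p := orderOf_eq_prime (hpow _) hb1
  obtain ⟨xq, hxq⟩ : ∃ xq : G ⧸ H, xq ∉ Subgroup.zpowers (QuotientGroup.mk' H b) := by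
    by_contra hcon
    push Not at hcon
    apply hidx
    have h1 : Subgroup.zpowers (QuotientGroup.mk' H b) = ⊤ := (Subgroup.eq_top_iff' _).mpr hcon
    rw [Subgroup.index_eq_card, ← Subgroup.card_top, ← h1, Nat.card_zpowers, hbo]
  obtain ⟨x, rfl⟩ := QuotientGroup.mk'_surjective H xq
  have hbo' : orderOf b = p := by
    apply orderOf_eq_prime (h.pow b hbH)
    rintro rfl
    exact hbH H.one_mem
  have hcent := h.centralizes' hp (omegaZ q H) (Subgroup.zpowers b) hBH hBc x
    (by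
      intro g hg
      refine ⟨g, hg, fun w hw => ?_⟩
      have hgc : ∀ y : G ⧸ H, y * QuotientGroup.mk' H g = QuotientGroup.mk' H g * y := by
        obtain ⟨j, rfl⟩ := hg
        intro y
        rw [map_zpow]
        exact ((show Commute y (QuotientGroup.mk' H b) from hbc y).zpow_right j)
      have h0 : g⁻¹ * (x * g * x⁻¹) ∈ H := by
        rw [← QuotientGroup.eq_one_iff]
        show QuotientGroup.mk' H (g⁻¹ * (x * g * x⁻¹)) = 1
        rw [map_mul, map_mul, map_mul, map_inv, map_inv, hgc]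
        group
      have h1 := hw.2.1 _ h0
      calc x * g * x⁻¹ * w * (x * g * x⁻¹)⁻¹
          = g * ((g⁻¹ * (x * g * x⁻¹)) * w) * (x * g * x⁻¹)⁻¹ := by group
        _ = g * (w * (g⁻¹ * (x * g * x⁻¹))) * (x * g * x⁻¹)⁻¹ := by rw [h1]
        _ = g * w * g⁻¹ := by group)
    (by
      intro g hg hgx
      apply hxq
      have h1 : QuotientGroup.mk' H (g * x) = 1 := (QuotientGroup.eq_one_iff _).mpr hgx
      rw [map_mul] at h1
      rw [eq_inv_of_mul_eq_one_right h1]
      apply Subgroup.inv_mem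
      obtain ⟨j, rfl⟩ := hg
      exact ⟨j, (map_zpow _ _ _).symm⟩)
    (by
      rw [Nat.card_zpowers, hbo']
      obtain ⟨m, hm⟩ := IsPGroup.iff_card.mp hBp
      rw [hm]
      exact Nat.Coprime.pow_right _ ((Nat.coprime_primes hp hq).mpr hqp.symm))
  have hcomm : (v : G) * b = b * v := (hcent (Subgroup.mem_zpowers b)) v hvB
  have hbv : b * v ∉ H := by
    intro h'
    apply hbH
    have := H.mul_mem h' (H.inv_mem v.2)
    rwa [mul_inv_cancel_right] at this
  have h1 := h.pow _ hbv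
  rw [(show Commute b (v : G) from hcomm.symm).mul_pow, h.pow b hbH, one_mul] at h1
  have h2 : q ∣ p := hvq ▸ orderOf_dvd_of_pow_eq_one h1
  exact hqp ((Nat.prime_dvd_prime_iff_eq hq hp).mp h2)

end Cfsg.Agent.Lib.Helper71Kegel
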