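import Mathlib
import Cfsg.Agent.S0078
import Cfsg.Agent.S0023
import Cfsg.Agent.Lib.Helper31Nilpotent
import Cfsg.Agent.Lib.Helper72Class
import Cfsg.Agent.Lib.Helper30Coprime
import Cfsg.Agent.Lib.Helper2Residual

set_option autoImplicit false

universe u

namespace Cfsg.Agent.Lib.Helper71MaxNil

open Cfsg.Agent.Lib.Helper72Pi Cfsg.Agent.Lib.Helper72Class

theorem mem_smul_sylow {G : Type*} [Group G] {p : ℕ} (P : Sylow p G) (g x : G) :
    x ∈ ((g • P : Sylow p G) : Subgroup G) ↔ g⁻¹ * x * g ∈ (P : Subgroup G) := by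
  rw [Sylow.coe_subgroup_smul, Subgroup.mem_pointwise_smul_iff_inv_smul_mem]
  simp [MulAut.smul_def, mul_assoc]

theorem normalizer_eq {G : Type*} [Group G] (M : Subgroup G) (hmax : IsCoatom M)
    (hcore : M.normalCore = ⊥) (X : Subgroup G) (hXM : X ≤ M) (hne : X ≠ ⊥)
    (hn : M ≤ Subgroup.normalizer (X : Set G)) : Subgroup.normalizer (X : Set G) = M := by
  rcases hmax.le_iff.mp hn with h | h
  · exfalso
    have h1 : X.Normal := Subgroup.normalizer_eq_top_iff.mp h
    have h2 : X ≤ M.normalCore := Subgroup.normal_le_normalCore.mpr hXM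
    rw [hcore] at h2
    exact hne (le_bot_iff.mp h2)
  · exact h

/-- The `p`-part of a nilpotent subgroup, in ambient terms. -/
theorem exists_pPart {G : Type*} [Group G] (M : Subgroup G) [Finite M]
    (hnil : Group.IsNilpotent M) (p : ℕ) [Fact p.Prime] :
    ∃ X : Subgroup G, X ≤ M ∧ IsPGroup p X ∧ (∀ x ∈ M, ∀ k : ℕ, x ^ p ^ k = 1 → x ∈ X) ∧
      (∀ m ∈ M, ∃ u ∈ X, ∃ v ∈ M, m = u * v ∧ ∀ x ∈ X, v * x = x * v) ∧
      (p ∣ Nat.card M → X ≠ ⊥) := by
  have hp : p.Prime := Fact.out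
  let PM : Sylow p M := default
  have hmemP : ∀ y : M, (∃ k : ℕ, orderOf y = p ^ k) → y ∈ PM := by
    rintro y ⟨k, hk⟩
    exact Helper31Nilpotent.mem_sylow_of_orderOf PM y hk
  refine ⟨(PM : Subgroup M).map M.subtype, ?_, PM.isPGroup'.map _, ?_, ?_, ?_⟩
  · rintro _ ⟨x, -, rfl⟩; exact x.2
  · intro x hx k hk
    have h1 : orderOf (⟨x, hx⟩ : M) ∣ p ^ k := by
      rw [Subgroup.orderOf_mk]; exact orderOf_dvd_of_pow_eq_one hk
    obtain ⟨j, -, hj⟩ := (Nat.dvd_prime_pow hp).mp h1
    exact ⟨⟨x, hx⟩, hmemP _ ⟨j, hj⟩, rfl⟩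
  · intro m hm
    obtain ⟨y, z, -, -, hyz, hy, hz⟩ :=
      exists_pi_split ({p} : Set ℕ) (⟨m, hm⟩ : M) (orderOf_pos _).ne'
    have hy' := (isPiElt_singleton_iff hp y (orderOf_pos y).ne').mp hy
    have hz' := (isPiElt_compl_singleton_iff hp z).mp hz
    refine ⟨y, ⟨y, hmemP y hy', rfl⟩, z, z.2, ?_, ?_⟩
    · have := congrArg Subtype.val hyz
      exact this.symm
    · rintro _ ⟨x, hx, rfl⟩
      obtain ⟨j, hj⟩ := (IsPGroup.iff_orderOf.mp PM.isPGroup') ⟨x, hx⟩
      rw [Subgroup.orderOf_mk] at hj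
      have := Helper31Nilpotent.coprime_commute M z x (by rw [hj]; exact hz'.pow_right j)
      exact congrArg Subtype.val this
  · intro hd hbot
    have h1 : (PM : Subgroup M) ≠ ⊥ := PM.ne_bot_of_dvd_card hd
    apply h1
    rwa [Subgroup.map_eq_bot_iff_of_injective _ M.subtype_injective] at hbot

/-- Data available in the core-free situation for a prime dividing `|M|`. -/
structure Data {G : Type*} [Group G] (M : Subgroup G) (p : ℕ) [Fact p.Prime] (P : Sylow p G) :
    Prop where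
  le : (P : Subgroup G) ≤ M
  ne_bot : (P : Subgroup G) ≠ ⊥
  mem : ∀ x ∈ M, ∀ k : ℕ, x ^ p ^ k = 1 → x ∈ P
  split : ∀ m ∈ M, ∃ u ∈ P, ∃ v ∈ M, m = u * v ∧ ∀ x ∈ P, v * x = x * v
  norm : ∀ X : Subgroup G, X ≤ M → X ≠ ⊥ → M ≤ Subgroup.normalizer (X : Set G) →
    Subgroup.normalizer (X : Set G) = M

theorem Data.normalizes {G : Type*} [Group G] [Finite G] {M : Subgroup G} {p : ℕ} [Fact p.Prime]
    {P : Sylow p G} (h : Data M p P) (D : Subgroup G) (hDP : D ≤ P)
    (hPD : (P : Subgroup G) ≤ Subgroup.normalizer (D : Set G)) :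
    M ≤ Subgroup.normalizer (D : Set G) := by
  intro m hm
  obtain ⟨u, hu, v, -, rfl, hv⟩ := h.split m hm
  apply Subgroup.mem_normalizer_fintype
  intro d hd
  have h1 : v * d = d * v := hv d (hDP hd)
  have h2 : u * v * d * (u * v)⁻¹ = u * d * u⁻¹ := by
    calc u * v * d * (u * v)⁻¹ = u * (v * d) * v⁻¹ * u⁻¹ := by group
      _ = u * d * u⁻¹ := by rw [h1]; group
  rw [h2]
  exact (Subgroup.mem_normalizer_iff.mp (hPD hu) d).mp hd

theorem Data.le_of_isPGroup {G : Type*} [Group G] {M : Subgroup G} {p : ℕ} [Fact p.Prime]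
    {P : Sylow p G} (h : Data M p P) (R : Subgroup G) (hR : IsPGroup p R) (hRM : R ≤ M) :
    R ≤ P := by
  intro x hx
  obtain ⟨k, hk⟩ := hR ⟨x, hx⟩
  apply h.mem x (hRM hx) k
  have := congrArg Subtype.val hk
  simpa using this

theorem exists_data {G : Type*} [Group G] [Finite G] (M : Subgroup G) (hmax : IsCoatom M)
    (hnil : Group.IsNilpotent M) (hcore : M.normalCore = ⊥) (p : ℕ) [Fact p.Prime]
    (hpM : p ∣ Nat.card M) : ∃ P : Sylow p G, Data M p P := by
  obtain ⟨X, hXM, hXp, hmem, hsplit, hne⟩ := exists_pPart M hnil p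
  have hXne := hne hpM
  have hMX : M ≤ Subgroup.normalizer (X : Set G) := by
    intro m hm
    apply Subgroup.mem_normalizer_fintype
    intro x hx
    obtain ⟨k, hk⟩ := hXp ⟨x, hx⟩
    have hk' : x ^ p ^ k = 1 := by
      have := congrArg Subtype.val hk
      simpa using this
    apply hmem _ (M.mul_mem (M.mul_mem hm (hXM hx)) (M.inv_mem hm)) k
    rw [conj_pow, hk']; group
  have hN := normalizer_eq M hmax hcore X hXM hXne hMX
  obtain ⟨P, hP⟩ := hXp.exists_le_sylow
  have hXP : X = P := by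
    by_contra hne'
    have hlt : X < P := lt_of_le_of_ne hP hne'
    obtain ⟨g, hgP, hgX, hgN⟩ :=
      Helper30Coprime.exists_mem_normalizer_not_mem P.isPGroup'.isNilpotent hlt
    rw [hN] at hgN
    obtain ⟨k, hk⟩ := P.isPGroup' ⟨g, hgP⟩
    apply hgX
    apply hmem g hgN k
    have := congrArg Subtype.val hk
    simpa using this
  refine ⟨P, ?_, ?_, ?_, ?_, ?_⟩
  · rw [← hXP]; exact hXM
  · rw [← hXP]; exact hXne
  · intro x hx k hk
    have := hmem x hx k hk
    rw [hXP] at this; exact this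
  · intro m hm
    obtain ⟨u, hu, v, hv, e, hc⟩ := hsplit m hm
    rw [hXP] at hu hc
    exact ⟨u, hu, v, hv, e, hc⟩
  · intro Y hY1 hY2 hY3
    exact normalizer_eq M hmax hcore Y hY1 hY2 hY3

/-- `p ∤ |G : M|`. -/
theorem Data.not_dvd_index {G : Type*} [Group G] [Finite G] {M : Subgroup G} {p : ℕ}
    [Fact p.Prime] {P : Sylow p G} (h : Data M p P) : ¬ p ∣ M.index :=
  fun hd => P.not_dvd_index (hd.trans (Subgroup.index_dvd_of_le h.le))

theorem center_ne_bot {G : Type*} [Group G] [Finite G] {p : ℕ} [Fact p.Prime] (P : Sylow p G)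
    (hne : (P : Subgroup G) ≠ ⊥) :
    (P : Subgroup G) ⊓ Subgroup.centralizer (P : Set G) ≠ ⊥ := by
  have : Nontrivial (P : Subgroup G) := (Subgroup.nontrivial_iff_ne_bot _).mpr hne
  have hc := P.isPGroup'.center_nontrivial
  obtain ⟨z, hz⟩ := exists_ne (1 : Subgroup.center (P : Subgroup G))
  intro hbot
  apply hz
  have h1 : ((z : (P : Subgroup G)) : G) ∈
      (P : Subgroup G) ⊓ Subgroup.centralizer (P : Set G) := by
    refine Subgroup.mem_inf.mpr ⟨(z : (P : Subgroup G)).2, ?_⟩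
    rw [Subgroup.mem_centralizer_iff]
    intro x hx
    have := Subgroup.mem_center_iff.mp z.2 ⟨x, hx⟩
    exact congrArg Subtype.val this
  rw [hbot, Subgroup.mem_bot] at h1
  apply Subtype.ext
  apply Subtype.ext
  exact h1

/-- `p`-normality when the Sylow subgroup has class at most two. -/
theorem Data.eq_of_center_le {G : Type*} [Group G] [Finite G] {M : Subgroup G} {p : ℕ}
    [Fact p.Prime] {P : Sylow p G} (h : Data M p P)
    (hcl : ∀ x ∈ P, ∀ y ∈ P, ∀ z ∈ P, (x * y * x⁻¹ * y⁻¹) * z = z * (x * y * x⁻¹ * y⁻¹))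
    (Q : Sylow p G)
    (hQ : (P : Subgroup G) ⊓ Subgroup.centralizer (P : Set G) ≤ (Q : Subgroup G)) : Q = P := by
  set Z := (P : Subgroup G) ⊓ Subgroup.centralizer (P : Set G) with hZ
  have hZne : Z ≠ ⊥ := center_ne_bot P h.ne_bot
  have hZP : Z ≤ P := inf_le_left
  have hPZ : (P : Subgroup G) ≤ Subgroup.normalizer (Z : Set G) := by
    intro x hx
    apply Subgroup.mem_normalizer_fintype
    intro z hz
    have h1 := (Subgroup.mem_centralizer_iff.mp hz.2) x hx
    have h2 : x * z * x⁻¹ = z := by rw [h1]; group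
    rw [h2]; exact hz
  have hNZ := h.norm Z (hZP.trans h.le) hZne (h.normalizes Z hZP hPZ)
  -- class two for `Q`
  obtain ⟨g, hg⟩ := MulAction.exists_smul_eq G P Q
  have hQmem : ∀ x ∈ Q, g⁻¹ * x * g ∈ P := by
    intro x hx
    rw [← hg] at hx
    exact (mem_smul_sylow P g x).mp hx
  have hclQ : ∀ x ∈ Q, ∀ y ∈ Q, ∀ z ∈ Q,
      (x * y * x⁻¹ * y⁻¹) * z = z * (x * y * x⁻¹ * y⁻¹) := by
    intro x hx y hy z hz
    have h1 := hcl _ (hQmem x hx) _ (hQmem y hy) _ (hQmem z hz)
    have e1 : (x * y * x⁻¹ * y⁻¹) * z = g * ((g⁻¹ * x * g) * (g⁻¹ * y * g) * (g⁻¹ * x * g)⁻¹ *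
        (g⁻¹ * y * g)⁻¹ * (g⁻¹ * z * g)) * g⁻¹ := by group
    have e2 : z * (x * y * x⁻¹ * y⁻¹) = g * ((g⁻¹ * z * g) * ((g⁻¹ * x * g) * (g⁻¹ * y * g) *
        (g⁻¹ * x * g)⁻¹ * (g⁻¹ * y * g)⁻¹)) * g⁻¹ := by group
    rw [e1, e2, h1]
  have hZQ : (Q : Subgroup G) ⊓ Subgroup.centralizer (Q : Set G) ≤ P := by
    apply h.le_of_isPGroup _ (Q.isPGroup'.to_le inf_le_left)
    rw [← hNZ]
    refine le_trans ?_ (Subgroup.centralizer_le_normalizer _)
    intro x hx
    rw [Subgroup.mem_centralizer_iff]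
    intro z hz
    exact (Subgroup.mem_centralizer_iff.mp hx.2) z (hQ hz)
  set D := (P : Subgroup G) ⊓ Q with hD
  have hZD : Z ≤ D := le_inf hZP hQ
  have hDne : D ≠ ⊥ := fun hb => hZne (le_bot_iff.mp (hb ▸ hZD))
  have hPD : (P : Subgroup G) ≤ Subgroup.normalizer (D : Set G) := by
    intro x hx
    apply Subgroup.mem_normalizer_fintype
    intro d hd
    have hc : x * d * x⁻¹ * d⁻¹ ∈ Z := by
      refine Subgroup.mem_inf.mpr ⟨?_, ?_⟩
      · exact (P : Subgroup G).mul_mem ((P : Subgroup G).mul_mem ((P : Subgroup G).mul_mem hx hd.1)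
          ((P : Subgroup G).inv_mem hx)) ((P : Subgroup G).inv_mem hd.1)
      · rw [Subgroup.mem_centralizer_iff]
        intro z hz
        exact (hcl x hx d hd.1 z hz).symm
    have e : x * d * x⁻¹ = (x * d * x⁻¹ * d⁻¹) * d := by group
    rw [e]
    exact D.mul_mem (hZD hc) hd
  have hQD : (Q : Subgroup G) ≤ Subgroup.normalizer (D : Set G) := by
    intro x hx
    apply Subgroup.mem_normalizer_fintype
    intro d hd
    have hcQ : x * d * x⁻¹ * d⁻¹ ∈ (Q : Subgroup G) :=
      (Q : Subgroup G).mul_mem ((Q : Subgroup G).mul_mem ((Q : Subgroup G).mul_mem hx hd.2)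
          ((Q : Subgroup G).inv_mem hx)) ((Q : Subgroup G).inv_mem hd.2)
    have hc : x * d * x⁻¹ * d⁻¹ ∈ (Q : Subgroup G) ⊓ Subgroup.centralizer (Q : Set G) := by
      refine Subgroup.mem_inf.mpr ⟨hcQ, ?_⟩
      rw [Subgroup.mem_centralizer_iff]
      intro z hz
      exact (hclQ x hx d hd.2 z hz).symm
    have e : x * d * x⁻¹ = (x * d * x⁻¹ * d⁻¹) * d := by group
    rw [e]
    exact D.mul_mem ⟨hZQ hc, hcQ⟩ hd
  have hND := h.norm D (inf_le_left.trans h.le) hDne (h.normalizes D inf_le_left hPD)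
  rw [hND] at hQD
  have hQP : (Q : Subgroup G) ≤ P := h.le_of_isPGroup _ Q.isPGroup' hQD
  exact Sylow.ext (Q.is_maximal' P.isPGroup' hQP).symm

/-- `O^p` of a nilpotent group has order prime to `p`. -/
theorem card_pResidual_coprime_of_nilpotent (L : Type*) [Group L] [Finite L]
    [Group.IsNilpotent L] (p : ℕ) [Fact p.Prime] :
    (Nat.card (Cfsg.pResidual p L)).Coprime p := by
  have hp : p.Prime := Fact.out
  obtain ⟨K, hmem, -, hcop, -⟩ := exists_pPrime_subgroup (L := L) p (by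
    intro y hy hd
    let P : Sylow p L := default
    apply P.not_dvd_index
    refine hd.trans (Subgroup.index_dvd_of_le ?_)
    intro x hx
    rw [Subgroup.mem_centralizer_singleton_iff]
    obtain ⟨j, hj⟩ := (IsPGroup.iff_orderOf.mp P.isPGroup') ⟨x, hx⟩
    rw [Subgroup.orderOf_mk] at hj
    exact Helper31Nilpotent.coprime_commute L x y (by rw [hj]; exact (hy.pow_right j).symm))
  have hle : Cfsg.pResidual p L ≤ K := by
    unfold Cfsg.pResidual
    rw [Subgroup.closure_le]
    intro g hg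
    exact (hmem g).mpr hg
  exact Nat.Coprime.coprime_dvd_left (Subgroup.card_dvd_of_le hle) hcop

/-- If a normal subgroup meets a Sylow `p`-subgroup trivially, its order is prime to `p`. -/
theorem coprime_card_of_inf_sylow {G : Type*} [Group G] [Finite G] {p : ℕ} [Fact p.Prime]
    (P : Sylow p G) (N : Subgroup G) [hN : N.Normal] (h : (P : Subgroup G) ⊓ N = ⊥) :
    (Nat.card N).Coprime p := by
  have hp : p.Prime := Fact.out
  rw [Nat.coprime_comm, Nat.Prime.coprime_iff_not_dvd hp]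
  intro hd
  obtain ⟨x, hx⟩ := exists_prime_orderOf_dvd_card' p hd
  have hZ : IsPGroup p (Subgroup.zpowers (x : G)) := by
    apply IsPGroup.of_card (n := 1)
    rw [Nat.card_zpowers, Subgroup.orderOf_coe, hx, pow_one]
  obtain ⟨Q, hQ⟩ := hZ.exists_le_sylow
  obtain ⟨g, hg⟩ := MulAction.exists_smul_eq G P Q
  have h1 : (x : G) ∈ Q := hQ (Subgroup.mem_zpowers _)
  rw [← hg] at h1
  have h1' := (mem_smul_sylow P g x).mp h1
  have h2 : g⁻¹ * (x : G) * g⁻¹⁻¹ ∈ N := hN.conj_mem _ x.2 g⁻¹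
  have h3 : g⁻¹ * (x : G) * g⁻¹⁻¹ ∈ (P : Subgroup G) ⊓ N := by
    refine ⟨?_, h2⟩
    rw [inv_inv]; exact h1'
  rw [h, Subgroup.mem_bot] at h3
  have h4 : (x : G) = 1 := by
    have : (x : G) = g * (g⁻¹ * (x : G) * g⁻¹⁻¹) * g⁻¹ := by group
    rw [this, h3]; group
  have h5 : x = 1 := Subtype.ext h4
  rw [h5, orderOf_one] at hx
  exact hp.one_lt.ne hx

/-- Normal `p`-complement in the class two case. -/
theorem Data.card_pResidual_coprime {G : Type*} [Group G] [Finite G] {M : Subgroup G} {p : ℕ}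
    [Fact p.Prime] {P : Sylow p G} (h : Data M p P) (hnil : Group.IsNilpotent M)
    (hcl : ∀ x ∈ P, ∀ y ∈ P, ∀ z ∈ P, (x * y * x⁻¹ * y⁻¹) * z = z * (x * y * x⁻¹ * y⁻¹)) :
    (Nat.card (Cfsg.pResidual p G)).Coprime p := by
  have hZP : (P : Subgroup G) ⊓ Subgroup.centralizer (P : Set G) ≤ P := inf_le_left
  have hPZ : (P : Subgroup G) ≤ Subgroup.normalizer
      (((P : Subgroup G) ⊓ Subgroup.centralizer (P : Set G) : Subgroup G) : Set G) := by
    intro x hx
    apply Subgroup.mem_normalizer_fintype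
    intro z hz
    have h1 := (Subgroup.mem_centralizer_iff.mp hz.2) x hx
    have h2 : x * z * x⁻¹ = z := by rw [h1]; group
    rw [h2]; exact hz
  have hNZ := h.norm _ (hZP.trans h.le) (center_ne_bot P h.ne_bot) (h.normalizes _ hZP hPZ)
  have key := Cfsg.Agent.S0078.result P (fun Q hQ => by rw [h.eq_of_center_le hcl Q hQ]) M hNZ.le
  have hbot : (P : Subgroup G) ⊓ (Cfsg.pResidual p M).map M.subtype = ⊥ := by
    apply (Subgroup.disjoint_of_coprime_natCard _).eq_bot
    rw [Subgroup.card_map_of_injective M.subtype_injective]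
    obtain ⟨k, hk⟩ := IsPGroup.iff_card.mp P.isPGroup'
    rw [hk]
    exact ((card_pResidual_coprime_of_nilpotent M p).pow_right k).symm
  rw [hbot] at key
  have := Helper2Residual.pResidual_normal (G := G) p
  exact coprime_card_of_inf_sylow P _ key

/-- Final step: normal `p`-complements for all primes dividing `|M|` give solvability. -/
theorem solvable_of_npc {G : Type*} [Group G] [Finite G] (M : Subgroup G) (hmax : IsCoatom M)
    (hnil : Group.IsNilpotent M)
    (hHall : ∀ p : ℕ, p.Prime → p ∣ Nat.card M → ¬ p ∣ M.index)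
    (hNPC : ∀ p : ℕ, p.Prime → p ∣ Nat.card M → (Nat.card (Cfsg.pResidual p G)).Coprime p) :
    Group.IsSolvable G := by
  set K : Subgroup G := ⨅ (p : {p : ℕ // p.Prime ∧ p ∣ Nat.card M}), Cfsg.pResidual p.1 G with hK
  have hKn : K.Normal :=
    Subgroup.normal_iInf_normal fun p => Helper2Residual.pResidual_normal p.1
  have hcop : (Nat.card M).Coprime (Nat.card K) := by
    apply Nat.coprime_of_dvd
    intro p hp h1 h2
    have hle : K ≤ Cfsg.pResidual p G :=
      iInf_le (fun p : {p : ℕ // p.Prime ∧ p ∣ Nat.card M} => Cfsg.pResidual p.1 G) ⟨p, hp, h1⟩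
    have h3 : p ∣ Nat.card (Cfsg.pResidual p G) := h2.trans (Subgroup.card_dvd_of_le hle)
    have := hNPC p hp h1
    exact hp.one_lt.ne' (Nat.Coprime.eq_one_of_dvd this.symm h3)
  have hidx : M.index ≠ 1 := by rw [Ne, Subgroup.index_eq_one]; exact hmax.1
  obtain ⟨q, hq, hqd⟩ := Nat.exists_prime_and_dvd hidx
  have : Fact q.Prime := ⟨hq⟩
  have hqM : ¬ q ∣ Nat.card M := fun h => hHall q hq h hqd
  have hqG : q ∣ Nat.card G := hqd.trans (Subgroup.index_dvd_card M)
  obtain ⟨x, hx⟩ := exists_prime_orderOf_dvd_card' q hqG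
  have hxK : x ∈ K := by
    rw [hK, Subgroup.mem_iInf]
    rintro ⟨p, hp, hpM⟩
    apply Helper2Residual.mem_pResidual_of_coprime
    rw [hx]
    exact (Nat.coprime_primes hq hp).mpr (by rintro rfl; exact hqM hpM)
  have hqK : q ∣ Nat.card K := by
    have := orderOf_dvd_natCard (⟨x, hxK⟩ : K)
    rwa [Subgroup.orderOf_mk, hx] at this
  have hMK : M ≤ Subgroup.normalizer (K : Set G) := by
    rw [Subgroup.normalizer_eq_top]; exact le_top
  have hsolvM : Group.IsSolvable M := inferInstance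
  obtain ⟨Q', hQ'⟩ := Cfsg.Agent.S0023.result M K hMK hcop (Or.inl hsolvM) q
  set Q := (Q' : Subgroup K).map K.subtype with hQ
  have hQne : Q ≠ ⊥ := by
    intro hbot
    rw [hQ, Subgroup.map_eq_bot_iff_of_injective _ K.subtype_injective] at hbot
    exact Q'.ne_bot_of_dvd_card hqK hbot
  have hQq : IsPGroup q Q := Q'.isPGroup'.map _
  have hQM : ¬ Q ≤ M := by
    intro hle
    have h1 : Q ≤ M ⊓ K := le_inf hle (Subgroup.map_subtype_le _)
    rw [(Subgroup.disjoint_of_coprime_natCard hcop).eq_bot] at h1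
    exact hQne (le_bot_iff.mp h1)
  have htop : M ⊔ Q = ⊤ := by
    apply hmax.2
    exact lt_of_le_of_ne le_sup_left (fun h => hQM (h ▸ le_sup_right))
  have hQn : Q.Normal := by
    rw [← Subgroup.normalizer_eq_top_iff, eq_top_iff, ← htop]
    exact sup_le hQ' Subgroup.le_normalizer
  rw [Group.isSolvable_iff_subgroup_quotient Q]
  refine ⟨?_, ?_⟩
  · have := hQq.isNilpotent
    infer_instance
  · apply Group.isSolvable_of_surjective (f := (QuotientGroup.mk' Q).comp M.subtype)
    intro y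
    obtain ⟨g, rfl⟩ := QuotientGroup.mk'_surjective Q y
    have hg : g ∈ M ⊔ Q := htop ▸ Subgroup.mem_top g
    obtain ⟨m, hm, c, hc, rfl⟩ := Subgroup.mem_sup_of_normal_right.mp hg
    refine ⟨⟨m, hm⟩, ?_⟩
    simp only [MonoidHom.comp_apply, Subgroup.coe_subtype, map_mul]
    have : QuotientGroup.mk' Q c = 1 := (QuotientGroup.eq_one_iff c).mpr hc
    rw [this, mul_one]

theorem isCoatom_map_mk {G : Type*} [Group G] (M N : Subgroup G) [N.Normal] (hNM : N ≤ M)
    (hmax : IsCoatom M) : IsCoatom (M.map (QuotientGroup.mk' N)) := by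
  have hs : Function.Surjective (QuotientGroup.mk' N) := QuotientGroup.mk'_surjective N
  have hcm : (M.map (QuotientGroup.mk' N)).comap (QuotientGroup.mk' N) = M := by
    rw [Subgroup.comap_map_eq, QuotientGroup.ker_mk', sup_eq_left.mpr hNM]
  constructor
  · intro h
    rw [h, Subgroup.comap_top] at hcm
    exact hmax.1 hcm.symm
  · intro H hH
    have h1 : M ≤ H.comap (QuotientGroup.mk' N) := by
      rw [← hcm]; exact Subgroup.comap_mono hH.le
    rcases hmax.le_iff.mp h1 with h2 | h2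
    · rw [← Subgroup.map_comap_eq_self_of_surjective hs H, h2,
        Subgroup.map_top_of_surjective _ hs]
    · exfalso
      apply hH.ne
      rw [← Subgroup.map_comap_eq_self_of_surjective hs H, h2]

/-- Reduction to the core-free case. -/
theorem solvable_of_coreFree (Φ : ∀ (G : Type u) [Group G], Subgroup G → Prop)
    (hquot : ∀ (G : Type u) [Group G] [Finite G] (M N : Subgroup G) [N.Normal], N ≤ M →
      Group.IsNilpotent M → Φ G M → Φ (G ⧸ N) (M.map (QuotientGroup.mk' N)))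
    (hcf : ∀ (G : Type u) [Group G] [Finite G] (M : Subgroup G), IsCoatom M →
      Group.IsNilpotent M → M.normalCore = ⊥ → Φ G M → Group.IsSolvable G) :
    ∀ (n : ℕ) (G : Type u) [Group G] [Finite G] (M : Subgroup G), Nat.card G = n → IsCoatom M →
      Group.IsNilpotent M → Φ G M → Group.IsSolvable G := by
  intro n
  induction n using Nat.strong_induction_on with
  | _ n ih =>
    intro G _ _ M hn hmax hnil hΦ
    by_cases hcore : M.normalCore = ⊥
    · exact hcf G M hmax hnil hcore hΦ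
    · have hle : M.normalCore ≤ M := Subgroup.normalCore_le M
      have hlt : Nat.card (G ⧸ M.normalCore) < n := by
        rw [← hn]
        have h1 := Subgroup.card_eq_card_quotient_mul_card_subgroup M.normalCore
        have h2 : 1 < Nat.card M.normalCore := by
          rw [Finite.one_lt_card_iff_nontrivial]
          exact (Subgroup.nontrivial_iff_ne_bot _).2 hcore
        have h3 : 0 < Nat.card (G ⧸ M.normalCore) := Nat.card_pos
        rw [h1]
        nlinarith
      have hnil' : Group.IsNilpotent (M.map (QuotientGroup.mk' M.normalCore)) :=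
        Group.nilpotent_of_surjective ((QuotientGroup.mk' M.normalCore).subgroupMap M)
          (MonoidHom.subgroupMap_surjective _ _)
      have h1 := ih _ hlt (G ⧸ M.normalCore) (M.map (QuotientGroup.mk' M.normalCore)) rfl
        (isCoatom_map_mk M _ hle hmax) hnil' (hquot G M _ hle hnil hΦ)
      rw [Group.isSolvable_iff_subgroup_quotient M.normalCore]
      refine ⟨?_, h1⟩
      have : Group.IsSolvable M := inferInstance
      exact Group.isSolvable_of_isSolvable_injective (f := Subgroup.inclusion hle)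
        (Subgroup.inclusion_injective hle)

end Cfsg.Agent.Lib.Helper71MaxNil
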