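import Mathlib
import Cfsg.Agent.Lib.Helper71NCCDefs
import Cfsg.Agent.Lib.H71NccB1
import Cfsg.Agent.Lib.H71NccB2
import Cfsg.Agent.Lib.H71NccB3
import Cfsg.Agent.Lib.H71NccB4
import Cfsg.Agent.Lib.H71NccB5

/-!
# Project NCC (S3921): `PSL₂(q)` is `NCC` for `q = 9` or `q ≥ 5` a prime `2^k ± 1` (assembly)
-/

set_option autoImplicit false

namespace Cfsg.Agent.Lib.Helper71NCC

local notation "PSL2" => Matrix.ProjectiveSpecialLinearGroup (Fin 2)

theorem ncc_psl2 {F : Type*} [Field F] [Fintype F] (h5 : 5 ≤ Fintype.card F)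
    (hq : Fintype.card F = 9 ∨ ((Fintype.card F).Prime ∧
      ∃ k : ℕ, Fintype.card F = 2 ^ k + 1 ∨ Fintype.card F = 2 ^ k - 1)) : NCC (PSL2 F) := by
  classical
  obtain ⟨p, hchar⟩ := CharP.exists F
  haveI := hchar
  haveI hpF : Fact p.Prime := ⟨CharP.char_is_prime F p⟩
  obtain ⟨n, hp, hcard⟩ := FiniteField.card F p
  -- `q = 9` or `q = p`
  have hq' : Fintype.card F = 9 ∨ Fintype.card F = p := by
    rcases hq with hq | ⟨hq, -⟩
    · exact Or.inl hq
    · right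
      rw [hcard] at hq ⊢
      have h1 : (n : ℕ) = 1 := Nat.Prime.eq_one_of_pow hq
      rw [h1, pow_one]
  have hp2 : p ≠ 2 := by
    rintro rfl
    rcases hq' with h | h
    · rw [hcard] at h
      have h2 : 2 ∣ 9 := by
        rw [← h]
        exact dvd_pow_self 2 n.ne_zero
      omega
    · omega
  have h2 : (2 : F) ≠ 0 := by
    intro h
    have h3 : ((2 : ℕ) : F) = 0 := by exact_mod_cast h
    rw [CharP.cast_eq_zero_iff F p] at h3
    exact hp2 ((Nat.prime_dvd_prime_iff_eq hp Nat.prime_two).1 h3)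
  intro H hH c hc
  have hHc : ∀ y ∈ H, y * c = c * y := Subgroup.mem_centralizer_iff.1 hc
  by_cases hc1 : c = 1
  · rw [hc1]; exact H.one_mem
  by_cases hc2 : c ^ 2 = 1
  · have ho : orderOf c = 2 := orderOf_eq_prime hc2 hc1
    exact H71NccB2.inv_case h2 c ho (H71NccB1.cit_psl2 h5 hq c ho) H hH hHc
  -- `H` is commutative
  have hcomm : ∀ x ∈ H, ∀ y ∈ H, x * y = y * x := fun x hx y hy =>
    H71NccB3.comm_of_commute h2 c x y hc2 (hHc x hx) (hHc y hy)
  -- some Sylow subgroup of `H` is not cyclic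
  have hex : ∃ (r : ℕ) (_ : Fact r.Prime) (R : Sylow r ↥H), ¬ IsCyclic ↥(R : Subgroup ↥H) := by
    by_contra hno
    push Not at hno
    haveI : IsZGroup ↥H := ⟨fun r hr R => hno r ⟨hr⟩ R⟩
    haveI : IsMulCommutative ↥H := ⟨⟨fun x y => Subtype.ext (hcomm x.1 x.2 y.1 y.2)⟩⟩
    letI : CommGroup ↥H := { (inferInstance : Group ↥H) with
      mul_comm := fun x y => Subtype.ext (hcomm x.1 x.2 y.1 y.2) }
    exact hH inferInstance
  obtain ⟨r, hr, R, hRc⟩ := hex
  haveI := hr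
  set R' : Subgroup (PSL2 F) := (R : Subgroup ↥H).map H.subtype with hR'
  have eR : ↥(R : Subgroup ↥H) ≃* ↥R' :=
    (R : Subgroup ↥H).equivMapOfInjective H.subtype H.subtype_injective
  have hR'H : R' ≤ H := by
    rintro _ ⟨y, -, rfl⟩
    exact y.2
  have hR'p : IsPGroup r ↥R' := R.2.map H.subtype
  have hR'c : ¬ IsCyclic ↥R' := fun hcy =>
    hRc (isCyclic_of_surjective eR.symm eR.symm.surjective)
  have hR'cc : ∀ y ∈ R', y * c = c * y := fun y hy => hHc y (hR'H hy)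
  by_cases hr2 : r = 2
  · subst hr2
    exact absurd (H71NccB2.two_case h2 R' hR'p
      (fun x hx y hy => hcomm x (hR'H hx) y (hR'H hy)) hR'c c hR'cc) hc2
  by_cases hrp : r = p
  · subst hrp
    exact hR'H (H71NccB5.p_case r hp2 hq' R' hR'p hR'c c hR'cc)
  · exact absurd (H71NccB4.isCyclic_of_isPGroup p r hr2 hrp R' hR'p) hR'c

end Cfsg.Agent.Lib.Helper71NCC
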