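import Mathlib

set_option autoImplicit false

namespace Cfsg.Agent.Lib.Helper71PAct

/-- A `p`-group acting by automorphisms and leaving invariant a nontrivial finite `p`-subgroup `W`
fixes a nonidentity element of `W`. -/
theorem exists_fixed_ne_one {A P : Type*} [Group A] [Group P] {p : ℕ} [Fact p.Prime]
    (hA : IsPGroup p A) (φ : A →* MulAut P) (W : Subgroup P) [Finite W] (hW : IsPGroup p W)
    (hne : W ≠ ⊥) (hinv : ∀ a : A, ∀ w ∈ W, φ a w ∈ W) :
    ∃ w ∈ W, w ≠ 1 ∧ ∀ a : A, φ a w = w := by
  letI : MulAction A W :=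
    { smul := fun a w => ⟨φ a w, hinv a w w.2⟩
      one_smul := by
        intro w
        apply Subtype.ext
        show φ 1 (w : P) = w
        simp
      mul_smul := by
        intro a b w
        apply Subtype.ext
        show φ (a * b) (w : P) = φ a (φ b w)
        simp }
  haveI : Nontrivial W := (Subgroup.nontrivial_iff_ne_bot W).2 hne
  have hdvd : p ∣ Nat.card W := by
    obtain ⟨n, hn0, hn⟩ := hW.nontrivial_iff_card.mp inferInstance
    exact hn.symm ▸ dvd_pow_self _ (ne_of_gt hn0)
  have h1 : (1 : W) ∈ MulAction.fixedPoints A W := by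
    intro a
    apply Subtype.ext
    show φ a ((1 : W) : P) = ((1 : W) : P)
    simp
  obtain ⟨b, hb, hb1⟩ := hA.exists_fixed_point_of_prime_dvd_card_of_fixed_point W hdvd h1
  refine ⟨b, b.2, fun h => hb1 (Subtype.ext h.symm), fun a => ?_⟩
  exact congrArg Subtype.val (hb a)

end Cfsg.Agent.Lib.Helper71PAct
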