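import Mathlib
import Cfsg.Agent.Lib.Helper71ZaDefs
import Cfsg.Agent.Lib.Helper91ZaG4c
import Cfsg.Agent.Lib.Helper91ZaG5
import Cfsg.Agent.Lib.Helper28ZaG8
import Cfsg.Agent.Lib.Helper76ZaTR
import Cfsg.Agent.Lib.Helper75ZaSYL
import Cfsg.Agent.Lib.Helper75ZaG1
import Cfsg.Agent.Lib.Helper75ZaG2
import Cfsg.Agent.Lib.Helper75ZaG3
import Cfsg.Agent.Lib.Helper91ZaG6
import Cfsg.Agent.Lib.Helper28ZaG7a
import Cfsg.Agent.Lib.Helper28ZaG7b

set_option autoImplicit false

namespace Cfsg.Agent.Lib.Helper71ZaAsmB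

open Cfsg.Agent.Lib.Helper71ZaDefs Cfsg.Agent.Lib.Helper91ZaG4c Cfsg.Agent.Lib.Helper91ZaG5 Cfsg.Agent.Lib.Helper28ZaG8 Cfsg.Agent.Lib.Helper76ZaTR
  Cfsg.Agent.Lib.Helper75ZaSYL Cfsg.Agent.Lib.Helper75ZaG1 Cfsg.Agent.Lib.Helper75ZaG2
  Cfsg.Agent.Lib.Helper75ZaG3 Cfsg.Agent.Lib.Helper91ZaG6 Cfsg.Agent.Lib.Helper28ZaG7a
  Cfsg.Agent.Lib.Helper28ZaG7b Subgroup

variable {H : Type*} [Group H] [Finite H]

theorem normal_closure3 : (closure {y : H | orderOf y = 3}).Normal := by
  constructor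
  intro n hn g
  have hmap : (closure {y : H | orderOf y = 3}).map (MulAut.conj g).toMonoidHom ≤
      closure {y : H | orderOf y = 3} := by
    rw [MonoidHom.map_closure, closure_le]
    rintro _ ⟨y, hy, rfl⟩
    apply Subgroup.subset_closure
    show orderOf (MulAut.conj g y) = 3
    rw [(MulAut.conj g).orderOf_eq y]
    exact hy
  exact hmap ⟨n, hn, rfl⟩

theorem card_of_surj {D A : Type*} [Group D] [Group A] (f : D →* A)
    (hf : Function.Surjective f) : Nat.card D = Nat.card A * Nat.card f.ker := by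
  rw [Subgroup.card_eq_card_quotient_mul_card_subgroup f.ker,
    Nat.card_congr (QuotientGroup.quotientKerEquivOfSurjective f hf).toEquiv]

theorem card_A4 : Nat.card (alternatingGroup (Fin 4)) = 12 := by
  have := two_mul_card_alternatingGroup (α := Fin 4)
  rw [Nat.card_eq_fintype_card]
  simp only [Fintype.card_perm, Fintype.card_fin] at this
  have h4 : Nat.factorial 4 = 24 := rfl
  omega

theorem exists_A5 (hZ : ZG H) (hperf : commutator H = ⊤) (hne : Nontrivial H) :
    ∃ (L : Subgroup H) (_ : L.Normal) (f : L →* alternatingGroup (Fin 5)),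
      Function.Surjective f ∧ Nat.card f.ker = 2 := by
  obtain ⟨x, y, hx, hy, hxy⟩ := exists_noncomm hZ hperf hne
  have hN : (closure {y : H | orderOf y = 3}).Normal := normal_closure3
  have hLx := Lx_eq_closure hZ hx
  have hne' : (Iset x).Nonempty := by
    by_contra hcon
    rw [Set.not_nonempty_iff_eq_empty] at hcon
    have h1 := mem_Lx hZ hx hy
    rw [hcon, Set.empty_union, mem_closure_singleton] at h1
    obtain ⟨n, rfl⟩ := h1
    exact hxy ((Commute.refl x).zpow_right n).eq
  obtain ⟨i₁, h₁, i₂, h₂, hL⟩ := exists_Lx_eq hZ hx hne'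
  have hbin : Bin (closure {y : H | orderOf y = 3}) := by
    rw [← hLx, hL]
    exact hZ.three x i₁ i₂ hx h₁ h₂
  have hxL : x ∈ closure {y : H | orderOf y = 3} := subset_closure hx
  have hyL : y ∈ closure {y : H | orderOf y = 3} := subset_closure hy
  rcases bin_gen3 hbin _ (closure_closure_coe_preimage (k := {y : H | orderOf y = 3}))
    (fun s hs => by rw [← Subgroup.orderOf_coe]; exact hs)
    ⟨⟨x, hxL⟩, ⟨y, hyL⟩, fun h => hxy (congrArg Subtype.val h)⟩ with ⟨f, hf, hk⟩ | ⟨f, hf, hk⟩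
  · exfalso
    have hc := card_of_surj f hf
    rw [hk, card_A4] at hc
    exact not_A4 hperf _ hc x y hxL hyL hx hy hxy
  · exact ⟨_, hN, f, hf, hk⟩

theorem eq_top_of_quotient_solvable (hperf : commutator H = ⊤) (N : Subgroup H) [N.Normal]
    (hs : Group.IsSolvable (H ⧸ N)) : N = ⊤ := by
  rw [eq_top_iff]
  intro g _
  have := hom_eq_one_of_perfect hperf hs (QuotientGroup.mk' N) g
  exact (QuotientGroup.eq_one_iff g).mp this

theorem eq_top_of_A5 (hZ : ZG H) (hperf : commutator H = ⊤) (L : Subgroup H) [L.Normal]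
    (f : L →* alternatingGroup (Fin 5)) (hf : Function.Surjective f) (hk : Nat.card f.ker = 2) :
    L = ⊤ := by
  obtain ⟨M, hMn, hMc, hLM, hsup, -, hcyc⟩ := centralizer_structure hZ L f hf hk
  have htop : L ⊔ M = ⊤ := by
    rw [hsup]
    rcases index_sup_centralizer hZ L f hf hk with h | h
    · exact index_eq_one.mp h
    · have hn : (L ⊔ centralizer (L : Set H)).Normal := normal_of_index_eq_two h
      apply eq_top_of_quotient_solvable hperf
      have hc : Nat.card (H ⧸ (L ⊔ centralizer (L : Set H))) = 2 := h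
      have : Fact (Nat.Prime 2) := ⟨Nat.prime_two⟩
      have := isCyclic_of_prime_card hc
      exact Group.isSolvable_of_comm (fun a b => (IsCyclic.commGroup.mul_comm a b))
  apply eq_top_of_quotient_solvable hperf
  have hMs : Group.IsSolvable M := solvable_of_sylow_cyclic hcyc
  have hsurj : Function.Surjective ((QuotientGroup.mk' L).comp M.subtype) := by
    intro q
    obtain ⟨g, rfl⟩ := QuotientGroup.mk'_surjective L q
    have hg : g ∈ L ⊔ M := htop ▸ mem_top g
    rw [mem_sup_of_normal_left] at hg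
    obtain ⟨l, hl, m, hm, rfl⟩ := hg
    refine ⟨⟨m, hm⟩, ?_⟩
    simp only [MonoidHom.comp_apply, Subgroup.subtype_apply, QuotientGroup.mk'_apply]
    rw [QuotientGroup.eq]
    have : m⁻¹ * (l * m) ∈ L := by
      have := (inferInstance : L.Normal).conj_mem l hl m⁻¹
      simpa [mul_assoc] using this
    exact this
  exact Group.isSolvable_of_surjective hsurj

theorem main_group (hZ : ZG H) (hperf : commutator H = ⊤) (hne : Nontrivial H) :
    Nonempty (H ≃* Matrix.SpecialLinearGroup (Fin 2) (ZMod 5)) := by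
  obtain ⟨L, hL, f, hf, hk⟩ := exists_A5 hZ hperf hne
  have htop := eq_top_of_A5 hZ hperf L f hf hk
  subst htop
  let e : H ≃* (⊤ : Subgroup H) := Subgroup.topEquiv.symm
  apply equiv_SL25 hperf (f.comp e.toMonoidHom) (hf.comp e.surjective)
  have h1 : (f.comp e.toMonoidHom).ker = f.ker.comap e.toMonoidHom := rfl
  rw [h1, ← hk]
  have h2 : f.ker.comap e.toMonoidHom = f.ker.map e.symm.toMonoidHom :=
    (Subgroup.map_equiv_eq_comap_symm e.symm f.ker).symm
  rw [h2]
  exact Subgroup.card_map_of_injective e.symm.injective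

end Cfsg.Agent.Lib.Helper71ZaAsmB
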