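import Mathlib
import Cfsg.Agent.Lib.Helper71ZaDefs
import Cfsg.Agent.Lib.Helper71ZaAsmA
import Cfsg.Agent.Lib.Helper71ZaAsmB
import Cfsg.Agent.Lib.Helper36ZaLIN1
import Cfsg.Agent.Lib.Helper36ZaLIN2
import Cfsg.Agent.Lib.Helper36ZaLIN3
import Cfsg.Agent.Lib.Helper70ZaODD_PC

set_option autoImplicit false

namespace Cfsg.Agent.Lib.Helper71ZaMain

open Cfsg.Agent.Lib.Helper71ZaDefs Cfsg.Agent.Lib.Helper91ZaG4c Cfsg.Agent.Lib.Helper91ZaG5 Cfsg.Agent.Lib.Helper28ZaG8 Cfsg.Agent.Lib.Helper76ZaTR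
  Cfsg.Agent.Lib.Helper75ZaSYL Cfsg.Agent.Lib.Helper75ZaG1 Cfsg.Agent.Lib.Helper75ZaG2
  Cfsg.Agent.Lib.Helper75ZaG3 Cfsg.Agent.Lib.Helper91ZaG6 Cfsg.Agent.Lib.Helper28ZaG7a
  Cfsg.Agent.Lib.Helper28ZaG7b Cfsg.Agent.Lib.Helper36ZaLIN1 Cfsg.Agent.Lib.Helper36ZaLIN2
  Cfsg.Agent.Lib.Helper36ZaLIN3 Cfsg.Agent.Lib.Helper70ZaODD_PC
  Cfsg.Agent.Lib.Helper71ZaAsmA Cfsg.Agent.Lib.Helper71ZaAsmB Subgroup

variable {H : Type*} [Group H] [Finite H]

theorem even_of_perfect (h : FC H) (hperf : commutator H = ⊤) (hne : Nontrivial H) :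
    2 ∣ Nat.card H := by
  by_contra hodd
  have hs := solvable_of_fc_odd h hodd
  obtain ⟨a, ha⟩ := exists_ne (1 : H)
  exact ha (hom_eq_one_of_perfect hperf hs (MonoidHom.id H) a)

/-- Zassenhaus -/
theorem main (h : FC H) (hperf : commutator H = ⊤) (hne : Nontrivial H) :
    Nonempty (H ≃* Matrix.SpecialLinearGroup (Fin 2) (ZMod 5)) :=
  main_group (zg_of_fc h (even_of_perfect h hperf hne)) hperf hne

/-- structure of the non-solvable case -/
theorem structure_nonsolvable (h : FC H) (hns : ¬ Group.IsSolvable H) :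
    ∃ S M : Subgroup H, S.Normal ∧ M.Normal ∧ ((S ⊔ M).index = 1 ∨ (S ⊔ M).index = 2) ∧
      S ⊓ M = ⊥ ∧ (∀ s ∈ S, ∀ x ∈ M, s * x = x * s) ∧
      Nonempty (S ≃* Matrix.SpecialLinearGroup (Fin 2) (ZMod 5)) ∧
      (∀ (p : ℕ) [Fact p.Prime] (P : Sylow p M), IsCyclic P) ∧ (Nat.card M).Coprime 30 := by
  have heven : 2 ∣ Nat.card H := by
    by_contra hodd
    exact hns (solvable_of_fc_odd h hodd)
  have hZ := zg_of_fc h heven
  obtain ⟨S, hSn, hSne, hSperf⟩ := exists_perfect_core hns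
  have hFS : FC S := fc_of_injective h S.subtype S.subtype_injective
  have hSnt : Nontrivial S := (Subgroup.nontrivial_iff_ne_bot S).mpr hSne
  have hZS := zg_of_fc hFS (even_of_perfect hFS hSperf hSnt)
  obtain ⟨L, hL, f, hf, hk⟩ := exists_A5 hZS hSperf hSnt
  have htop := eq_top_of_A5 hZS hSperf L f hf hk
  subst htop
  let e : S ≃* (⊤ : Subgroup S) := Subgroup.topEquiv.symm
  have hk' : Nat.card (f.comp e.toMonoidHom).ker = 2 := by
    have h1 : (f.comp e.toMonoidHom).ker = f.ker.comap e.toMonoidHom := rfl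
    rw [h1, ← hk]
    have h2 : f.ker.comap e.toMonoidHom = f.ker.map e.symm.toMonoidHom :=
      (Subgroup.map_equiv_eq_comap_symm e.symm f.ker).symm
    rw [h2]
    exact Subgroup.card_map_of_injective e.symm.injective
  have hf' : Function.Surjective (f.comp e.toMonoidHom) := hf.comp e.surjective
  obtain ⟨M, hMn, hMc, hLM, hsup, hcop, hcyc⟩ := centralizer_structure hZ S _ hf' hk'
  refine ⟨S, M, hSn, hMn, ?_, hLM, ?_, main hFS hSperf hSnt, hcyc, hcop⟩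
  · rw [hsup]
    exact index_sup_centralizer hZ S _ hf' hk'
  · intro s hs x hx
    exact (mem_centralizer_iff.mp (hMc hx) s hs)

end Cfsg.Agent.Lib.Helper71ZaMain
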