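import Mathlib
import Cfsg.Prelude.Def_Transfer
import Cfsg.Agent.Lib.Helper72Pi
import Cfsg.Agent.Lib.Helper72Class

set_option autoImplicit false

namespace Cfsg.Agent.Lib.Helper72Cyclic

open Cfsg.Agent.Lib.Helper72Pi Cfsg.Agent.Lib.Helper72Class

/-- elementwise form of the dichotomy for coprime action on a cyclic `p`-group -/
theorem cyclic_dichotomy {G : Type*} [Group G] {p : ℕ} [Fact p.Prime] {P K : Subgroup G}
    [IsCyclic P] (hP : IsPGroup p P) (hKP : K ≤ Subgroup.normalizer (P : Set G))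
    (hPK : (Nat.card P).Coprime (Nat.card K)) :
    (∀ k ∈ K, ∀ g ∈ P, k * g * k⁻¹ * g⁻¹ = 1) ∨
      (∀ g ∈ P, ∃ k ∈ K, ∃ q ∈ P, k * q * k⁻¹ * q⁻¹ = g) := by
  let _ := MulDistribMulAction.compHom P (P.normalizerMonoidHom.comp (Subgroup.inclusion hKP))
  refine (IsPGroup.smul_mul_inv_trivial_or_surjective hP hPK).imp (fun h ↦ ?_) fun h ↦ ?_
  · exact fun k hk g hg ↦ Subtype.ext_iff.mp (h ⟨g, hg⟩ ⟨k, hk⟩)
  · intro g hg
    obtain ⟨k, q, hkq⟩ := h ⟨g, hg⟩
    exact ⟨k, k.2, q, q.2, Subtype.ext_iff.mp hkq⟩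

/-- a coprime group of automorphisms of a cyclic `p`-group whose commutators avoid some element
acts trivially -/
theorem centralizes_of_commutators_mem {G : Type*} [Group G] {p : ℕ} [Fact p.Prime]
    {P K R : Subgroup G} [IsCyclic P] (hP : IsPGroup p P)
    (hKP : K ≤ Subgroup.normalizer (P : Set G)) (hPK : (Nat.card P).Coprime (Nat.card K))
    (hR : ¬ P ≤ R) (hcomm : ∀ k ∈ K, ∀ q ∈ P, k * q * k⁻¹ * q⁻¹ ∈ R) :
    ∀ k ∈ K, ∀ g ∈ P, k * g = g * k := by
  rcases cyclic_dichotomy hP hKP hPK with h | h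
  · intro k hk g hg
    have := h k hk g hg
    calc k * g = (k * g * k⁻¹ * g⁻¹) * g * k := by group
      _ = g * k := by rw [this]; group
  · exfalso
    obtain ⟨g, hg, hgR⟩ := SetLike.not_le_iff_exists.mp hR
    obtain ⟨k, hk, q, hq, hkq⟩ := h g hg
    exact hgR (hkq ▸ hcomm k hk q hq)

/-- a coprime group of automorphisms of a cyclic `p`-group fixing a non-identity element acts
trivially -/
theorem centralizes_of_fixes {G : Type*} [Group G] {p : ℕ} [Fact p.Prime]
    {P K : Subgroup G} [IsCyclic P] (hP : IsPGroup p P)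
    (hKP : K ≤ Subgroup.normalizer (P : Set G)) (hPK : (Nat.card P).Coprime (Nat.card K))
    (u0 : G) (hu0 : u0 ∈ P) (hu1 : u0 ≠ 1) (hfix : ∀ k ∈ K, k * u0 = u0 * k) :
    ∀ k ∈ K, ∀ g ∈ P, k * g = g * k := by
  rcases cyclic_dichotomy hP hKP hPK with h | h
  · intro k hk g hg
    have := h k hk g hg
    calc k * g = (k * g * k⁻¹ * g⁻¹) * g * k := by group
      _ = g * k := by rw [this]; group
  · exfalso
    obtain ⟨⟨g, hg⟩, hgen⟩ := IsCyclic.exists_generator (α := P)
    have hgen' : ∀ w ∈ P, ∃ i : ℤ, g ^ i = w := by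
      intro w hw
      obtain ⟨i, hi⟩ := Subgroup.mem_zpowers_iff.mp (hgen ⟨w, hw⟩)
      exact ⟨i, by simpa using congrArg Subtype.val hi⟩
    obtain ⟨k, hk, q, hq, hkq⟩ := h g hg
    have hkg : k * g * k⁻¹ ∈ P := (Subgroup.mem_normalizer_iff.mp (hKP hk) g).mp hg
    obtain ⟨a, ha⟩ := hgen' _ hkg
    have hconj : ∀ i : ℤ, k * g ^ i * k⁻¹ = g ^ (a * i) := by
      intro i
      have h1 : k * g ^ i * k⁻¹ = (k * g * k⁻¹) ^ i := by
        rw [conj_zpow]
      rw [h1, ← ha, ← zpow_mul]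
    obtain ⟨j, hj⟩ := hgen' q hq
    obtain ⟨i, hi⟩ := hgen' u0 hu0
    have e1 : g ^ ((a - 1) * j) = g := by
      have : k * q * k⁻¹ * q⁻¹ = g ^ ((a - 1) * j) := by
        rw [← hj, hconj j, ← zpow_neg, ← zpow_add]
        congr 1; ring
      rw [← this, hkq]
    have e2 : g ^ ((a - 1) * i) = 1 := by
      have h2 : k * u0 * k⁻¹ * u0⁻¹ = 1 := by
        rw [hfix k hk]; group
      have : k * u0 * k⁻¹ * u0⁻¹ = g ^ ((a - 1) * i) := by
        rw [← hi, hconj i, ← zpow_neg, ← zpow_add]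
        congr 1; ring
      rw [← this, h2]
    apply hu1
    calc u0 = g ^ i := hi.symm
      _ = (g ^ ((a - 1) * j)) ^ i := by rw [e1]
      _ = (g ^ ((a - 1) * i)) ^ j := by rw [← zpow_mul, ← zpow_mul]; congr 1; ring
      _ = 1 := by rw [e2, one_zpow]

/-- reduce the statement "`Y ∩ N(P)` centralises `P`" to the `p'`-elements -/
theorem normalizer_centralizes_of_pPrime {G : Type*} [Group G] [Finite G] {p : ℕ} [Fact p.Prime]
    (P : Sylow p G) [IsCyclic (P : Subgroup G)] (Y : Subgroup G)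
    (h : ∀ y ∈ Y, y ∈ Subgroup.normalizer ((P : Subgroup G) : Set G) → (orderOf y).Coprime p →
      ∀ g ∈ (P : Subgroup G), y * g = g * y) :
    ∀ y ∈ Y, y ∈ Subgroup.normalizer ((P : Subgroup G) : Set G) →
      ∀ g ∈ (P : Subgroup G), y * g = g * y := by
  have hp : p.Prime := Fact.out
  intro y hyY hyN g hg
  obtain ⟨u, z, hu, hz, huz, hup, hzp⟩ := exists_pi_split ({p} : Set ℕ) y (orderOf_pos y).ne'
  have hzY : z ∈ Y := by
    obtain ⟨j, rfl⟩ := hz
    exact Y.zpow_mem hyY j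
  have hzN : z ∈ Subgroup.normalizer ((P : Subgroup G) : Set G) := by
    obtain ⟨j, rfl⟩ := hz
    exact Subgroup.zpow_mem _ hyN j
  have huN : u ∈ Subgroup.normalizer ((P : Subgroup G) : Set G) := by
    obtain ⟨j, rfl⟩ := hu
    exact Subgroup.zpow_mem _ hyN j
  have huZ : IsPGroup p (Subgroup.zpowers u) := by
    rw [IsPGroup.iff_card, Nat.card_zpowers]
    exact (isPiElt_singleton_iff hp u (orderOf_pos u).ne').mp hup
  have huP : u ∈ (P : Subgroup G) := by
    have h1 : Subgroup.zpowers u ⊓ Subgroup.normalizer ((P : Subgroup G) : Set G) =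
        Subgroup.zpowers u ⊓ (P : Subgroup G) := huZ.inf_normalizer_sylow P
    have h2 : u ∈ Subgroup.zpowers u ⊓ Subgroup.normalizer ((P : Subgroup G) : Set G) :=
      ⟨Subgroup.mem_zpowers u, huN⟩
    rw [h1] at h2
    exact h2.2
  have hcommP : u * g = g * u := by
    have hc : IsMulCommutative (P : Subgroup G) := inferInstance
    have := (isMulCommutative_iff.mp hc) (⟨u, huP⟩ : (P : Subgroup G)) ⟨g, hg⟩
    exact congrArg Subtype.val this
  have hzg := h z hzY hzN ((isPiElt_compl_singleton_iff hp z).mp hzp) g hg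
  rw [← huz]
  calc u * z * g = u * (z * g) := by group
    _ = u * (g * z) := by rw [hzg]
    _ = (u * g) * z := by group
    _ = g * u * z := by rw [hcommP]
    _ = g * (u * z) := by group

/-- a normal complement of a Sylow `p`-subgroup consists of the `p'`-elements -/
theorem mem_iff_coprime_of_normal_complement {X : Type*} [Group X] [Finite X] {p : ℕ}
    [Fact p.Prime] (Q : Sylow p X) (N : Subgroup X) [N.Normal]
    (hc : N.IsComplement' (Q : Subgroup X)) (x : X) : x ∈ N ↔ (orderOf x).Coprime p := by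
  have hp : p.Prime := Fact.out
  have hNcard : Nat.card N = (Q : Subgroup X).index := hc.index_eq_card.symm
  have hNcop : (Nat.card N).Coprime p := by
    rw [hNcard, Nat.coprime_comm, Nat.Prime.coprime_iff_not_dvd hp]
    exact Q.not_dvd_index
  constructor
  · intro hx
    have h1 : orderOf x ∣ Nat.card N := by
      have := orderOf_dvd_natCard (⟨x, hx⟩ : N)
      rwa [Subgroup.orderOf_mk] at this
    exact Nat.Coprime.coprime_dvd_left h1 hNcop
  · intro hx
    rw [← QuotientGroup.eq_one_iff, ← orderOf_eq_one_iff]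
    have h1 : orderOf ((x : X) : X ⧸ N) ∣ orderOf x := orderOf_map_dvd (QuotientGroup.mk' N) x
    have h2 : orderOf ((x : X) : X ⧸ N) ∣ Nat.card Q := by
      have h3 : Nat.card (X ⧸ N) = Nat.card Q := hc.symm.index_eq_card
      rw [← h3]
      exact orderOf_dvd_natCard _
    obtain ⟨k, hk⟩ := IsPGroup.iff_card.mp Q.isPGroup'
    rw [hk] at h2
    exact Nat.eq_one_of_dvd_coprimes (Nat.Coprime.pow_right k hx) h1 h2

/-- If the elements of order prime to `p` form a subgroup, it is a normal `p`-complement. -/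
theorem hasNormalPComplement_of_pPrime_elements {X : Type*} [Group X] [Finite X] {p : ℕ}
    [Fact p.Prime] (K : Subgroup X) (hK : ∀ x : X, x ∈ K ↔ (orderOf x).Coprime p) :
    Cfsg.HasNormalPComplement p X := by
  have hp : p.Prime := Fact.out
  have hn : K.Normal := by
    refine ⟨fun x hx g => ?_⟩
    rw [hK] at hx ⊢
    rw [orderOf_conj]; exact hx
  have h1 : ¬ p ∣ Nat.card K := by
    intro hdvd
    obtain ⟨x, hx⟩ := exists_prime_orderOf_dvd_card' p hdvd
    have h1 : (orderOf (x : X)).Coprime p := (hK x).mp x.2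
    rw [Subgroup.orderOf_coe, hx] at h1
    exact hp.one_lt.ne' ((Nat.coprime_self p).mp h1)
  have h2 : IsPGroup p (X ⧸ K) := by
    intro g
    obtain ⟨x, rfl⟩ := QuotientGroup.mk_surjective g
    have hox : orderOf x ≠ 0 := (orderOf_pos x).ne'
    obtain ⟨k, m, hm, hkm⟩ := Nat.exists_eq_pow_mul_and_not_dvd hox p hp.ne_one
    refine ⟨k, ?_⟩
    rw [← QuotientGroup.mk_pow, QuotientGroup.eq_one_iff, hK]
    have : orderOf (x ^ p ^ k) = m := by
      rw [orderOf_pow, hkm]
      have : Nat.gcd (p ^ k * m) (p ^ k) = p ^ k := Nat.gcd_eq_right (Dvd.intro _ rfl)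
      rw [this, Nat.mul_div_cancel_left _ (pow_pos hp.pos _)]
    rw [this]
    exact ((Nat.Prime.coprime_iff_not_dvd hp).mpr hm).symm
  obtain ⟨P⟩ : Nonempty (Sylow p X) := inferInstance
  refine ⟨P, K, hn, ?_⟩
  obtain ⟨j, hj⟩ := h2.exists_card_eq
  have hidx : K.index = p ^ j := by rw [Subgroup.index, hj]
  have hcard : Nat.card X = Nat.card K * p ^ j := by
    rw [← hidx, Subgroup.card_mul_index]
  have hK0 : Nat.card K ≠ 0 := Nat.card_pos.ne'
  have hPcard : Nat.card P = p ^ j := by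
    rw [Sylow.card_eq_multiplicity, hcard, Nat.factorization_mul hK0 (pow_ne_zero _ hp.ne_zero)]
    simp [Nat.factorization_eq_zero_of_not_dvd h1, hp.factorization_self]
  apply Subgroup.isComplement'_of_coprime
  · rw [hPcard, hcard]
  · rw [hPcard]
    exact Nat.Coprime.pow_right _ ((Nat.Prime.coprime_iff_not_dvd hp).mpr h1).symm

/-- Burnside's transfer theorem inside a subgroup `Y` containing the Sylow subgroup `P`. -/
theorem burnside_in_subgroup {G : Type*} [Group G] [Finite G] {p : ℕ} [Fact p.Prime]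
    (P : Sylow p G) (Y : Subgroup G) (hPY : (P : Subgroup G) ≤ Y)
    (h : ∀ y ∈ Y, y ∈ Subgroup.normalizer ((P : Subgroup G) : Set G) →
      ∀ g ∈ (P : Subgroup G), y * g = g * y) :
    ∃ M : Subgroup G, (∀ g : G, g ∈ M ↔ g ∈ Y ∧ (orderOf g).Coprime p) ∧
      (∀ a ∈ Y, ∀ b ∈ Y, a * b * a⁻¹ * b⁻¹ ∈ M) ∧ M.relIndex Y = Nat.card P := by
  let PY : Sylow p Y := P.subtype hPY
  have hmemPY : ∀ g : Y, g ∈ (PY : Subgroup Y) ↔ (g : G) ∈ (P : Subgroup G) := fun g => Iff.rfl
  have hN : Subgroup.normalizer ((PY : Subgroup Y) : Set Y) ≤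
      Subgroup.centralizer ((PY : Subgroup Y) : Set Y) := by
    intro y hy
    rw [Subgroup.mem_centralizer_iff]
    intro g hg
    have hyN : (y : G) ∈ Subgroup.normalizer ((P : Subgroup G) : Set G) := by
      rw [Subgroup.mem_normalizer_iff]
      intro n
      constructor
      · intro hn
        exact (Subgroup.mem_normalizer_iff.mp hy ⟨n, hPY hn⟩).mp hn
      · intro hn
        have hnY : n ∈ Y := by
          have h1 : n = (y : G)⁻¹ * ((y : G) * n * (y : G)⁻¹) * y := by group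
          rw [h1]
          exact Y.mul_mem (Y.mul_mem (Y.inv_mem y.2) (hPY hn)) y.2
        exact (Subgroup.mem_normalizer_iff.mp hy ⟨n, hnY⟩).mpr hn
    apply Subtype.ext
    exact (h y y.2 hyN g hg).symm
  let f := MonoidHom.transferSylow PY hN
  have hc : f.ker.IsComplement' (PY : Subgroup Y) := MonoidHom.ker_transferSylow_isComplement' PY hN
  have hmem := mem_iff_coprime_of_normal_complement PY f.ker hc
  refine ⟨f.ker.map Y.subtype, ?_, ?_, ?_⟩
  · intro g
    constructor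
    · rintro ⟨w, hw, rfl⟩
      refine ⟨w.2, ?_⟩
      have := (hmem w).mp hw
      rwa [← Subgroup.orderOf_coe] at this
    · rintro ⟨hgY, hg⟩
      refine ⟨⟨g, hgY⟩, (hmem _).mpr ?_, rfl⟩
      rwa [Subgroup.orderOf_mk]
  · intro a ha b hb
    refine ⟨⟨a, ha⟩ * ⟨b, hb⟩ * ⟨a, ha⟩⁻¹ * ⟨b, hb⟩⁻¹, ?_, rfl⟩
    have hcomm : ∀ s t : (PY : Subgroup Y), s * t = t * s :=
      fun s t => Subtype.ext (hN (Subgroup.le_normalizer t.2) s s.2)
    show f _ = 1
    rw [map_mul, map_mul, map_mul, map_inv, map_inv, hcomm (f ⟨a, ha⟩) (f ⟨b, hb⟩)]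
    group
  · have e1 : (f.ker.map Y.subtype).subgroupOf Y = f.ker :=
      Subgroup.comap_map_eq_self_of_injective (Subgroup.subtype_injective Y) _
    rw [Subgroup.relIndex, e1, hc.symm.index_eq_card]
    exact Nat.card_congr (Subgroup.subgroupOfEquivOfLe hPY).toEquiv

end Cfsg.Agent.Lib.Helper72Cyclic
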