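import Mathlib
import Cfsg.Agent.Lib.Helper72Pi
import Cfsg.Agent.Lib.Helper72Class
import Cfsg.Agent.Lib.Helper72Frob

set_option autoImplicit false

namespace Cfsg.Agent.Lib.Helper72PElt

open Cfsg.Agent.Lib.Helper72Pi Cfsg.Agent.Lib.Helper72Class Cfsg.Agent.Lib.Helper72Frob
open scoped Pointwise

theorem card_mul_le_of_le_fiber {α β : Type*} [Finite α] [Finite β] (f : α → β) (n : ℕ)
    (h : ∀ b, n ≤ Nat.card {a // f a = b}) : Nat.card β * n ≤ Nat.card α := by
  classical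
  haveI := Fintype.ofFinite β
  rw [← Nat.card_congr (Equiv.sigmaFiberEquiv f), Nat.card_sigma]
  calc Nat.card β * n = ∑ _b : β, n := by simp [Nat.card_eq_fintype_card]
    _ ≤ ∑ b, Nat.card {a // f a = b} := Finset.sum_le_sum fun b _ => h b

/-- elements of a `p`-subgroup have `p`-power order -/
theorem isP_of_mem {G : Type*} [Group G] {p : ℕ} [Fact p.Prime] {U : Subgroup G}
    (hU : IsPGroup p U) {g : G} (hg : g ∈ U) : ∃ k : ℕ, orderOf g = p ^ k := by
  obtain ⟨k, hk⟩ := hU ⟨g, hg⟩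
  have h1 : g ^ p ^ k = 1 := by
    have := congrArg Subtype.val hk
    simpa using this
  obtain ⟨m, _, hm⟩ := (Nat.dvd_prime_pow Fact.out).mp (orderOf_dvd_of_pow_eq_one h1)
  exact ⟨m, hm⟩

theorem exists_sylow_of_isP {G : Type*} [Group G] {p : ℕ} [Fact p.Prime] {g : G}
    (hg : ∃ k : ℕ, orderOf g = p ^ k) : ∃ P : Sylow p G, g ∈ P := by
  obtain ⟨k, hk⟩ := hg
  have h1 : IsPGroup p (Subgroup.zpowers g) := IsPGroup.of_card (n := k) (by rw [Nat.card_zpowers, hk])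
  obtain ⟨P, hP⟩ := h1.exists_le_sylow
  exact ⟨P, hP (Subgroup.mem_zpowers g)⟩

theorem isP_mul_of_commute {G : Type*} [Group G] {p : ℕ} [Fact p.Prime] {x y : G}
    (hc : Commute x y) (hx : ∃ k : ℕ, orderOf x = p ^ k) (hy : ∃ k : ℕ, orderOf y = p ^ k) :
    ∃ k : ℕ, orderOf (x * y) = p ^ k := by
  obtain ⟨a, ha⟩ := hx
  obtain ⟨b, hb⟩ := hy
  have h1 : (x * y) ^ p ^ (a + b) = 1 := by
    rw [hc.mul_pow, pow_add, pow_mul, ← ha, pow_orderOf_eq_one, one_pow, one_mul, mul_comm,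
      pow_mul, ← hb, pow_orderOf_eq_one, one_pow]
  obtain ⟨m, _, hm⟩ := (Nat.dvd_prime_pow Fact.out).mp (orderOf_dvd_of_pow_eq_one h1)
  exact ⟨m, hm⟩

theorem isP_inv {G : Type*} [Group G] {p : ℕ} {x : G}
    (hx : ∃ k : ℕ, orderOf x = p ^ k) : ∃ k : ℕ, orderOf x⁻¹ = p ^ k := by
  rwa [orderOf_inv]

/-- the image of a `p`-element is a `p`-element -/
theorem isP_map {G H : Type*} [Group G] [Group H] {p : ℕ} [Fact p.Prime] (f : G →* H) {x : G}
    (hx : ∃ k : ℕ, orderOf x = p ^ k) : ∃ k : ℕ, orderOf (f x) = p ^ k := by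
  obtain ⟨a, ha⟩ := hx
  obtain ⟨m, _, hm⟩ := (Nat.dvd_prime_pow Fact.out).mp (ha ▸ orderOf_map_dvd f x)
  exact ⟨m, hm⟩

/-- a `p`-element of a quotient lifts to a `p`-element -/
theorem exists_isP_lift {G : Type*} [Group G] [Finite G] {p : ℕ} [Fact p.Prime] (N : Subgroup G)
    [N.Normal] (y : G ⧸ N) (hy : ∃ k : ℕ, orderOf y = p ^ k) :
    ∃ x : G, (x : G ⧸ N) = y ∧ ∃ k : ℕ, orderOf x = p ^ k := by
  have hp : p.Prime := Fact.out
  obtain ⟨g, rfl⟩ := QuotientGroup.mk_surjective y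
  obtain ⟨u, v, hu, hv, huv, huπ, hvπ⟩ := exists_pi_split ({p} : Set ℕ) g (orderOf_pos g).ne'
  refine ⟨u, ?_, (isPiElt_singleton_iff hp u (orderOf_pos u).ne').mp huπ⟩
  have hv1 : (v : G ⧸ N) = 1 := by
    rw [← orderOf_eq_one_iff]
    have h1 : orderOf (v : G ⧸ N) ∣ orderOf v := orderOf_map_dvd (QuotientGroup.mk' N) v
    have h2 : orderOf (v : G ⧸ N) ∣ orderOf (g : G ⧸ N) := by
      obtain ⟨i, rfl⟩ := hv
      have : ((g ^ i : G) : G ⧸ N) = (g : G ⧸ N) ^ i := rfl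
      rw [this]
      exact orderOf_dvd_of_pow_eq_one (by
        rw [← zpow_natCast, ← zpow_mul, mul_comm, zpow_mul, zpow_natCast, pow_orderOf_eq_one,
          one_zpow])
    obtain ⟨k, hk⟩ := hy
    rw [hk] at h2
    have h3 : (orderOf v).Coprime p := (isPiElt_compl_singleton_iff hp v).mp hvπ
    exact Nat.eq_one_of_dvd_coprimes (h3.pow_right k) h1 h2
  rw [← huv, QuotientGroup.mk_mul, hv1, mul_one]

/-- `|P ∩ N| · |P̄| = |P|` for Sylow subgroups of `G` and `G/N`. -/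
theorem card_inf_mul {G : Type*} [Group G] [Finite G] {p : ℕ} [Fact p.Prime] (N : Subgroup G)
    [N.Normal] (P₁ P : Sylow p G) (Pbar : Sylow p (G ⧸ N)) :
    Nat.card ((P₁ : Subgroup G) ⊓ N : Subgroup G) * Nat.card (Pbar : Subgroup (G ⧸ N)) =
      Nat.card (P : Subgroup G) := by
  set f : (P₁ : Subgroup G) →* G ⧸ N := (QuotientGroup.mk' N).comp (P₁ : Subgroup G).subtype with hf
  have h1 : f.range = (P₁ : Subgroup G).map (QuotientGroup.mk' N) := by
    rw [hf, MonoidHom.range_comp, Subgroup.range_subtype]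
  have h2 : f.ker = N.subgroupOf (P₁ : Subgroup G) := by
    rw [hf, ← MonoidHom.comap_ker, QuotientGroup.ker_mk']
    rfl
  have h3 := Subgroup.card_mul_index f.ker
  rw [Subgroup.index_ker, h1, h2] at h3
  have h4 : Nat.card (N.subgroupOf (P₁ : Subgroup G)) =
      Nat.card ((P₁ : Subgroup G) ⊓ N : Subgroup G) := by
    rw [← Subgroup.card_map_of_injective (Subgroup.subtype_injective (P₁ : Subgroup G)),
      Subgroup.subgroupOf_map_subtype, inf_comm]
  have h5 : Nat.card ((P₁ : Subgroup G).map (QuotientGroup.mk' N)) =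
      Nat.card (Pbar : Subgroup (G ⧸ N)) := by
    have := (P₁.mapSurjective (QuotientGroup.mk'_surjective N)).card_eq_multiplicity
    rw [Sylow.coe_mapSurjective] at this
    rw [this, Pbar.card_eq_multiplicity]
  rw [h4, h5] at h3
  rw [h3, P₁.card_eq_multiplicity, P.card_eq_multiplicity]

/-- a central `p`-element lies in every Sylow `p`-subgroup -/
theorem mem_sylow_of_central {G : Type*} [Group G] [Finite G] {p : ℕ} [Fact p.Prime] {n : G}
    (hn : n ∈ Subgroup.center G) (hp : ∃ k : ℕ, orderOf n = p ^ k) (P : Sylow p G) : n ∈ P := by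
  obtain ⟨Q, hQ⟩ := exists_sylow_of_isP hp
  obtain ⟨g, hg⟩ := MulAction.exists_smul_eq G P Q
  have h1 : n ∈ (g • P : Sylow p G) := hg ▸ hQ
  have h2 : n ∈ MulAut.conj g • (P : Subgroup G) := h1
  obtain ⟨h, hh, hhn⟩ := (mem_conj_smul_iff _ _ _).mp h2
  have h3 : h = n := by
    have h4 : g * n = n * g := (Subgroup.mem_center_iff.mp hn g)
    have : h = g⁻¹ * n * g := by rw [← hhn]; group
    rw [this, mul_assoc, ← h4]; group
  exact h3 ▸ hh

end Cfsg.Agent.Lib.Helper72PElt
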