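import Mathlib
import Cfsg.Agent.Lib.Helper72Pi
import Cfsg.Agent.Lib.Helper72Class
import Cfsg.Agent.Lib.Helper72PElt

set_option autoImplicit false

namespace Cfsg.Agent.Lib.Helper72Idx

open Cfsg.Agent.Lib.Helper72Pi Cfsg.Agent.Lib.Helper72Class Cfsg.Agent.Lib.Helper72PElt

/-- class sizes in quotients divide class sizes -/
theorem idx_quot_dvd {G : Type*} [Group G] (N : Subgroup G) [N.Normal] (x : G) :
    (Subgroup.centralizer ({(x : G ⧸ N)} : Set (G ⧸ N))).index ∣
      (Subgroup.centralizer ({x} : Set G)).index := by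
  have h1 : (Subgroup.centralizer ({x} : Set G)).map (QuotientGroup.mk' N) ≤
      Subgroup.centralizer ({(x : G ⧸ N)} : Set (G ⧸ N)) := by
    rintro _ ⟨g, hg, rfl⟩
    have hg' : g * x = x * g := Subgroup.mem_centralizer_singleton_iff.mp hg
    rw [Subgroup.mem_centralizer_singleton_iff]
    change ((g : G ⧸ N)) * (x : G ⧸ N) = (x : G ⧸ N) * (g : G ⧸ N)
    rw [← QuotientGroup.mk_mul, ← QuotientGroup.mk_mul, hg']
  exact (Subgroup.index_dvd_of_le h1).trans
    (Subgroup.index_map_dvd _ (QuotientGroup.mk'_surjective N))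

theorem relIndex_sup_eq {G : Type*} [Group G] [Finite G] (H N : Subgroup G) [N.Normal] :
    H.relIndex (H ⊔ N) = H.relIndex N := by
  have h1 : (H ⊓ N).relIndex N * Nat.card (H ⊓ N : Subgroup G) = Nat.card N := by
    rw [← Subgroup.relIndex_bot_left, ← Subgroup.relIndex_bot_left, mul_comm]
    exact Subgroup.relIndex_mul_relIndex _ _ _ bot_le inf_le_right
  have h2 : (H ⊓ N).relIndex H * Nat.card (H ⊓ N : Subgroup G) = Nat.card H := by
    rw [← Subgroup.relIndex_bot_left, ← Subgroup.relIndex_bot_left, mul_comm]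
    exact Subgroup.relIndex_mul_relIndex _ _ _ bot_le inf_le_left
  have h3 : N.relIndex (H ⊔ N) * Nat.card N = Nat.card (H ⊔ N : Subgroup G) := by
    rw [← Subgroup.relIndex_bot_left, ← Subgroup.relIndex_bot_left, mul_comm]
    exact Subgroup.relIndex_mul_relIndex _ _ _ bot_le le_sup_right
  have h4 : H.relIndex (H ⊔ N) * Nat.card H = Nat.card (H ⊔ N : Subgroup G) := by
    rw [← Subgroup.relIndex_bot_left, ← Subgroup.relIndex_bot_left, mul_comm]
    exact Subgroup.relIndex_mul_relIndex _ _ _ bot_le le_sup_left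
  rw [Subgroup.inf_relIndex_right] at h1
  rw [Subgroup.inf_relIndex_left] at h2
  rw [Subgroup.relIndex_sup_right] at h3
  have hpos : 0 < Nat.card H := Nat.card_pos
  apply Nat.eq_of_mul_eq_mul_right hpos
  rw [h4, ← h3, ← h1, ← h2]
  ring

/-- `|N : N ∩ H|` divides `|G : H|` for normal `N` -/
theorem relIndex_dvd_index {G : Type*} [Group G] [Finite G] (H N : Subgroup G) [N.Normal] :
    H.relIndex N ∣ H.index := by
  rw [← relIndex_sup_eq]
  exact Subgroup.relIndex_dvd_index_of_le le_sup_left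

/-- the centralizer computed inside a subgroup -/
theorem centralizer_subtype {G : Type*} [Group G] (Y : Subgroup G) (x : Y) :
    Subgroup.centralizer ({x} : Set Y) =
      (Subgroup.centralizer ({(x : G)} : Set G)).subgroupOf Y := by
  ext g
  rw [Subgroup.mem_centralizer_singleton_iff, Subgroup.mem_subgroupOf,
    Subgroup.mem_centralizer_singleton_iff]
  constructor
  · intro h; exact congrArg Subtype.val h
  · intro h; exact Subtype.ext h

theorem idx_subtype {G : Type*} [Group G] (Y : Subgroup G) (x : Y) :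
    (Subgroup.centralizer ({x} : Set Y)).index =
      (Subgroup.centralizer ({(x : G)} : Set G)).relIndex Y := by
  rw [centralizer_subtype]; rfl

/-- class sizes in normal subgroups divide class sizes -/
theorem idx_normal_dvd {G : Type*} [Group G] [Finite G] (N : Subgroup G) [N.Normal] (x : N) :
    (Subgroup.centralizer ({x} : Set N)).index ∣
      (Subgroup.centralizer ({(x : G)} : Set G)).index := by
  rw [idx_subtype]; exact relIndex_dvd_index _ _

/-- a `p`-subgroup `U` of `H` lies in a Sylow subgroup `P` of `G` with `P ∩ H` Sylow in `H` -/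
theorem exists_sylow_inf {G : Type*} [Group G] [Finite G] (p : ℕ) [Fact p.Prime]
    (H U : Subgroup G) (hU : IsPGroup p U) (hUH : U ≤ H) :
    ∃ P : Sylow p G, U ≤ P ∧
      Nat.card ((P : Subgroup G) ⊓ H : Subgroup G) = p ^ (Nat.card H).factorization p := by
  have hU' : IsPGroup p (U.subgroupOf H) :=
    hU.comap_of_injective H.subtype Subtype.coe_injective
  obtain ⟨S, hS⟩ := hU'.exists_le_sylow
  have hS1 : IsPGroup p ((S : Subgroup H).map H.subtype) := S.isPGroup'.map _
  obtain ⟨P, hP⟩ := hS1.exists_le_sylow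
  refine ⟨P, ?_, ?_⟩
  · intro u hu
    exact hP ⟨⟨u, hUH hu⟩, hS (by simpa [Subgroup.mem_subgroupOf] using hu), rfl⟩
  · have h1 : IsPGroup p ((P : Subgroup G).subgroupOf H) :=
      P.isPGroup'.comap_of_injective H.subtype Subtype.coe_injective
    have h2 : (S : Subgroup H) ≤ (P : Subgroup G).subgroupOf H := by
      intro s hs
      rw [Subgroup.mem_subgroupOf]
      exact hP ⟨s, hs, rfl⟩
    have h3 : (P : Subgroup G).subgroupOf H = S := S.is_maximal' h1 h2
    rw [← S.card_eq_multiplicity, ← h3,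
      ← Subgroup.card_map_of_injective (Subgroup.subtype_injective H),
      Subgroup.subgroupOf_map_subtype]

/-- if `p ^ 2 ∤ |G : H|`, a `p`-subgroup `U` of `H` lies in a Sylow subgroup `P` of `G` with
`|P : P ∩ H| ≤ p`. -/
theorem exists_sylow_card_le {G : Type*} [Group G] [Finite G] (p : ℕ) [Fact p.Prime]
    (H U : Subgroup G) (hU : IsPGroup p U) (hUH : U ≤ H) (hH : ¬ p ^ 2 ∣ H.index) :
    ∃ P : Sylow p G, U ≤ P ∧
      Nat.card (P : Subgroup G) ≤ p * Nat.card ((P : Subgroup G) ⊓ H : Subgroup G) := by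
  have hp : p.Prime := Fact.out
  obtain ⟨P, hUP, hP⟩ := exists_sylow_inf p H U hU hUH
  refine ⟨P, hUP, ?_⟩
  rw [hP, P.card_eq_multiplicity, ← Subgroup.card_mul_index H,
    Nat.factorization_mul Nat.card_pos.ne' (Subgroup.index_ne_zero_of_finite),
    Finsupp.add_apply, pow_add, mul_comm]
  apply Nat.mul_le_mul_right
  have h1 : H.index.factorization p ≤ 1 := by
    by_contra hcon
    push_neg at hcon
    exact hH ((Nat.Prime.pow_dvd_iff_le_factorization hp Subgroup.index_ne_zero_of_finite).mpr hcon)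
  calc p ^ H.index.factorization p ≤ p ^ 1 := Nat.pow_le_pow_right hp.pos h1
    _ = p := pow_one p

/-- a subgroup of index at most `p` in a `p`-group contains all `p`-th powers and commutators -/
theorem pow_comm_mem_of_card_le {G : Type*} [Group G] [Finite G] (p : ℕ) [Fact p.Prime]
    (T S : Subgroup G) (hT : IsPGroup p T) (hST : S ≤ T) (hcard : Nat.card T ≤ p * Nat.card S) :
    (∀ u ∈ T, u ^ p ∈ S) ∧ (∀ u ∈ T, ∀ v ∈ T, u * v * u⁻¹ * v⁻¹ ∈ S) ∧
      ∀ u ∈ T, ∀ s ∈ S, u * s * u⁻¹ ∈ S := by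
  have hp : p.Prime := Fact.out
  set S' := S.subgroupOf T with hS'
  have h1 : S'.index * Nat.card S = Nat.card T := by
    have : S.relIndex T * Nat.card S = Nat.card T := by
      rw [← Subgroup.relIndex_bot_left, ← Subgroup.relIndex_bot_left, mul_comm]
      exact Subgroup.relIndex_mul_relIndex _ _ _ bot_le hST
    exact this
  have hpos : 0 < Nat.card S := Nat.card_pos
  have h2 : S'.index ≤ p := by
    rw [← h1] at hcard
    exact Nat.le_of_mul_le_mul_right hcard hpos
  obtain ⟨k, hk⟩ := IsPGroup.iff_card.mp hT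
  have h3 : S'.index ∣ p ^ k := by rw [← hk]; exact ⟨_, h1.symm⟩
  obtain ⟨j, _, hj⟩ := (Nat.dvd_prime_pow hp).mp h3
  have hj1 : j ≤ 1 := by
    by_contra hcon
    push_neg at hcon
    have : p ^ 2 ≤ p ^ j := Nat.pow_le_pow_right hp.pos hcon
    have h4 : p < p ^ 2 := by
      calc p = p ^ 1 := (pow_one p).symm
        _ < p ^ 2 := Nat.pow_lt_pow_right hp.one_lt (by norm_num)
    omega
  rcases Nat.le_one_iff_eq_zero_or_eq_one.mp hj1 with rfl | rfl
  · rw [pow_zero, Subgroup.index_eq_one, hS', Subgroup.subgroupOf_eq_top] at hj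
    refine ⟨fun u hu => hj (T.pow_mem hu p), fun u hu v hv => hj ?_, fun u hu s hs => hj ?_⟩
    · exact T.mul_mem (T.mul_mem (T.mul_mem hu hv) (T.inv_mem hu)) (T.inv_mem hv)
    · exact T.mul_mem (T.mul_mem hu (hST hs)) (T.inv_mem hu)
  · rw [pow_one] at hj
    have hk0 : k ≠ 0 := by
      rintro rfl
      rw [pow_zero] at h3
      have := Nat.le_of_dvd Nat.one_pos h3
      rw [hj] at this
      exact absurd hp.one_lt (not_lt_of_ge this)
    have hn : S'.Normal := by
      apply Subgroup.normal_of_index_eq_minFac_card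
      rw [hj, hk, Nat.Prime.pow_minFac hp hk0]
    have hq : Nat.card (T ⧸ S') = p := hj
    have hcyc : IsCyclic (T ⧸ S') := isCyclic_of_prime_card hq
    refine ⟨?_, ?_, ?_⟩
    · intro u hu
      have h5 : ((⟨u, hu⟩ : T) : T ⧸ S') ^ p = 1 := by
        rw [← hq]; exact pow_card_eq_one'
      rw [← QuotientGroup.mk_pow, QuotientGroup.eq_one_iff] at h5
      exact h5
    · intro u hu v hv
      have h5 : ((⟨u, hu⟩ * ⟨v, hv⟩ * ⟨u, hu⟩⁻¹ * ⟨v, hv⟩⁻¹ : T) : T ⧸ S') = 1 := by
        simp only [QuotientGroup.mk_mul, QuotientGroup.mk_inv]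
        obtain ⟨g, hg⟩ := hcyc.exists_generator
        obtain ⟨a, ha⟩ := Subgroup.mem_zpowers_iff.mp (hg ((⟨u, hu⟩ : T) : T ⧸ S'))
        obtain ⟨b, hb⟩ := Subgroup.mem_zpowers_iff.mp (hg ((⟨v, hv⟩ : T) : T ⧸ S'))
        rw [← ha, ← hb]
        group
      rw [QuotientGroup.eq_one_iff] at h5
      exact h5
    · intro u hu s hs
      have := hn.conj_mem ⟨s, hST hs⟩ (by simpa [hS', Subgroup.mem_subgroupOf] using hs) ⟨u, hu⟩
      simpa [hS', Subgroup.mem_subgroupOf] using this

/-- between a subgroup and an overgroup of prime index there is nothing -/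
theorem le_of_card_le_of_not_mem {G : Type*} [Group G] [Finite G] (p : ℕ) [Fact p.Prime]
    (T S L : Subgroup G) (hT : IsPGroup p T) (hSL : S ≤ L) (hLT : L ≤ T)
    (hcard : Nat.card T ≤ p * Nat.card S) (m : G) (hmL : m ∈ L) (hmS : m ∉ S) : L = T := by
  have hp : p.Prime := Fact.out
  have h1 : S.relIndex L * Nat.card S = Nat.card L := by
    rw [← Subgroup.relIndex_bot_left, ← Subgroup.relIndex_bot_left, mul_comm]
    exact Subgroup.relIndex_mul_relIndex _ _ _ bot_le hSL
  have h2 : L.relIndex T * Nat.card L = Nat.card T := by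
    rw [← Subgroup.relIndex_bot_left, ← Subgroup.relIndex_bot_left, mul_comm]
    exact Subgroup.relIndex_mul_relIndex _ _ _ bot_le hLT
  obtain ⟨k, hk⟩ := IsPGroup.iff_card.mp hT
  have h3 : S.relIndex L ∣ p ^ k := by
    rw [← hk, ← h2, ← h1]
    exact ⟨L.relIndex T * Nat.card S, by ring⟩
  obtain ⟨j, _, hj⟩ := (Nat.dvd_prime_pow hp).mp h3
  have hj0 : j ≠ 0 := by
    rintro rfl
    rw [pow_zero, Subgroup.relIndex_eq_one] at hj
    exact hmS (hj hmL)
  have h4 : p ≤ S.relIndex L := by
    rw [hj]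
    calc p = p ^ 1 := (pow_one p).symm
      _ ≤ p ^ j := Nat.pow_le_pow_right hp.pos (Nat.pos_of_ne_zero hj0)
  have hpos : 0 < Nat.card S := Nat.card_pos
  have h5 : L.relIndex T * S.relIndex L ≤ p := by
    rw [← h2, ← h1, ← mul_assoc] at hcard
    exact Nat.le_of_mul_le_mul_right hcard hpos
  have h6 : L.relIndex T ≤ 1 := by
    by_contra hcon
    push_neg at hcon
    have : 2 * p ≤ L.relIndex T * S.relIndex L := Nat.mul_le_mul hcon h4
    have := hp.pos
    omega
  have h7 : L.relIndex T ≠ 0 := by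
    intro h0
    rw [h0, zero_mul] at h2
    exact Nat.card_pos.ne h2
  have h8 : L.relIndex T = 1 := by omega
  exact le_antisymm hLT (Subgroup.relIndex_eq_one.mp h8)

end Cfsg.Agent.Lib.Helper72Idx
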