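import Mathlib
import Cfsg.Agent.Lib.Helper72Pi

set_option autoImplicit false

namespace Cfsg.Agent.Lib.Helper72MaxClass

open Cfsg.Agent.Lib.Helper72Pi

universe u

theorem card_le_of_fiber_coset {X T : Type*} [Group X] [Finite X] [Finite T] (N D : Subgroup X)
    (f : N → T) (h : ∀ c c' : N, f c = f c' → (c : X)⁻¹ * c' ∈ D) :
    Nat.card N ≤ Nat.card T * Nat.card D := by
  apply card_le_mul_of_fiber_le f
  intro t
  by_cases hne : Nonempty {c // f c = t}
  · obtain ⟨c0⟩ := hne
    apply Nat.card_le_card_of_injective (fun c : {c // f c = t} =>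
      (⟨(c0.1 : X)⁻¹ * c.1, h c0.1 c.1 (c0.2.trans c.2.symm)⟩ : D))
    intro c c' hcc
    have h1 : (c0.1 : X)⁻¹ * c.1 = (c0.1 : X)⁻¹ * c'.1 := congrArg Subtype.val hcc
    exact Subtype.ext (Subtype.ext (mul_left_cancel h1))
  · rw [not_nonempty_iff] at hne
    simp

theorem card_lt_of_lt {X : Type*} [Group X] [Finite X] {H K : Subgroup X} (h : H < K) :
    Nat.card H < Nat.card K := by
  by_contra hcon
  exact h.ne (Subgroup.eq_of_le_of_card_ge h.le (not_lt.mp hcon))

theorem card_map_mk_mul {X : Type*} [Group X] [Finite X] (Z N : Subgroup X) [Z.Normal]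
    (hZN : Z ≤ N) : Nat.card (N.map (QuotientGroup.mk' Z)) * Nat.card Z = Nat.card N := by
  have h1 : (N.map (QuotientGroup.mk' Z)).index = N.index :=
    Subgroup.index_map_eq N (QuotientGroup.mk'_surjective Z) (by rw [QuotientGroup.ker_mk']; exact hZN)
  have h2 := Subgroup.card_mul_index (N.map (QuotientGroup.mk' Z))
  have h3 := Subgroup.card_mul_index N
  have h4 : Nat.card X = Nat.card (X ⧸ Z) * Nat.card Z :=
    Subgroup.card_eq_card_quotient_mul_card_subgroup Z
  have hpos : 0 < N.index := Nat.pos_of_ne_zero Subgroup.index_ne_zero_of_finite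
  apply Nat.eq_of_mul_eq_mul_right hpos
  rw [h3, h4, ← h2, h1]
  ring

/-- commutation in the quotient by a normal subgroup -/
theorem comm_mem_of_mk_comm {X : Type*} [Group X] (Z : Subgroup X) [Z.Normal] (c a : X)
    (h : (c : X ⧸ Z) * (a : X ⧸ Z) = (a : X ⧸ Z) * (c : X ⧸ Z)) :
    c * a * c⁻¹ * a⁻¹ ∈ Z ∧ c⁻¹ * a * c * a⁻¹ ∈ Z := by
  constructor
  · rw [← QuotientGroup.eq_one_iff]
    simp only [QuotientGroup.mk_mul, QuotientGroup.mk_inv]
    rw [h]; group
  · rw [← QuotientGroup.eq_one_iff]
    simp only [QuotientGroup.mk_mul, QuotientGroup.mk_inv]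
    have : (c : X ⧸ Z)⁻¹ * (a : X ⧸ Z) * (c : X ⧸ Z) = (c : X ⧸ Z)⁻¹ * ((a : X ⧸ Z) * (c : X ⧸ Z)) := by
      group
    rw [this, ← h]; group

/-- **Suzuki's lemma**: a `p`-group with a self-centralising subgroup of order `p ^ 2` has maximal
class. -/
theorem suzuki (p : ℕ) [Fact p.Prime] : ∀ (m : ℕ) (X : Type u) [Group X] [Finite X],
    Nat.card X = p ^ (m + 2) → ∀ A : Subgroup X, Nat.card A = p ^ 2 →
      Subgroup.centralizer (A : Set X) ≤ A → Group.nilpotencyClass X = m + 1 := by
  have hp : p.Prime := Fact.out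
  intro m
  induction m with
  | zero =>
    intro X _ _ hX A hA hC
    have hXp : IsPGroup p X := IsPGroup.of_card hX
    haveI : Group.IsNilpotent X := hXp.isNilpotent
    have hcomm : IsMulCommutative X := IsPGroup.isMulCommutative_of_card_eq_prime_sq hX
    have h1 : Group.nilpotencyClass X ≤ 1 := Group.IsNilpotent.nilpotencyClass_le_one_iff.mpr hcomm
    have h2 : Group.nilpotencyClass X ≠ 0 := by
      intro h0
      rw [Group.nilpotencyClass_zero_iff_subsingleton] at h0
      have : Nat.card X = 1 := Nat.card_eq_one_iff_unique.mpr ⟨h0, ⟨1⟩⟩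
      rw [hX] at this
      have h3 : 1 < p ^ (0 + 2) := Nat.one_lt_pow (by norm_num) hp.one_lt
      omega
    omega
  | succ m ih =>
    intro X _ _ hX A hA hC
    have hXp : IsPGroup p X := IsPGroup.of_card hX
    haveI : Group.IsNilpotent X := hXp.isNilpotent
    haveI : Nontrivial X := by
      rw [← Finite.one_lt_card_iff_nontrivial, hX]
      exact Nat.one_lt_pow (by omega) hp.one_lt
    set Z := Subgroup.center X with hZ
    have hZA : Z ≤ A := (Subgroup.center_le_centralizer _).trans hC
    have hAtop : A ≠ ⊤ := by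
      intro h
      have : Nat.card A = Nat.card X := by rw [h, Subgroup.card_top]
      rw [hA, hX] at this
      have := Nat.pow_right_injective hp.two_le this
      omega
    have hZne : Z ≠ A := by
      intro h
      have h1 : Subgroup.centralizer (A : Set X) = ⊤ := by
        rw [Subgroup.centralizer_eq_top_iff_subset, ← h]
      rw [h1] at hC
      exact hAtop (top_le_iff.mp hC)
    have hZlt : Z < A := lt_of_le_of_ne hZA hZne
    have hZcard : Nat.card Z = p := by
      obtain ⟨k, hk⟩ := IsPGroup.iff_card.mp (hXp.to_subgroup Z)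
      have h1 : Nat.card Z < p ^ 2 := hA ▸ card_lt_of_lt hZlt
      have h2 : 1 < Nat.card Z := by
        haveI := hXp.center_nontrivial
        exact Finite.one_lt_card_iff_nontrivial.mpr inferInstance
      rw [hk] at h1 h2
      have h3 : k < 2 := (Nat.pow_lt_pow_iff_right hp.one_lt).mp h1
      have h4 : k ≠ 0 := by
        rintro rfl
        simp at h2
      have : k = 1 := by omega
      rw [hk, this, pow_one]
    set N := Subgroup.normalizer (A : Set X) with hN
    have hnc : NormalizerCondition X := Group.normalizerCondition_of_isNilpotent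
    have hAN : A < N := hnc A (lt_top_iff_ne_top.mpr hAtop)
    obtain ⟨a, haA, haZ⟩ := SetLike.exists_of_lt hZlt
    have hCa : Subgroup.centralizer ({a} : Set X) ≤ A := by
      intro c hc
      apply hC
      -- A = ⟨a⟩ Z
      set S := Subgroup.zpowers a ⊔ Z with hS
      have hSA : S ≤ A := sup_le (Subgroup.zpowers_le.mpr haA) hZA
      have hZS : Z < S := by
        refine lt_of_le_of_ne le_sup_right ?_
        intro h
        apply haZ
        rw [h]
        exact (le_sup_left : Subgroup.zpowers a ≤ S) (Subgroup.mem_zpowers a)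
      have hSeq : S = A := by
        apply Subgroup.eq_of_le_of_card_ge hSA
        obtain ⟨k, hk⟩ := IsPGroup.iff_card.mp (hXp.to_subgroup S)
        have h1 := card_lt_of_lt hZS
        rw [hZcard, hk] at h1
        have h2 : 1 < k := by
          have : p ^ 1 < p ^ k := by rwa [pow_one]
          exact (Nat.pow_lt_pow_iff_right hp.one_lt).mp this
        rw [hA, hk]
        exact Nat.pow_le_pow_right hp.pos h2
      have hSc : S ≤ Subgroup.centralizer ({c} : Set X) := by
        apply sup_le
        · rw [Subgroup.zpowers_le, Subgroup.mem_centralizer_singleton_iff]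
          exact (Subgroup.mem_centralizer_singleton_iff.mp hc).symm
        · exact Subgroup.center_le_centralizer _
      rw [Subgroup.mem_centralizer_iff]
      intro h hh
      have : h ∈ S := by rw [hSeq]; exact hh
      exact Subgroup.mem_centralizer_singleton_iff.mp (hSc this)
    -- order of N
    have hNcard : Nat.card N = p ^ 3 := by
      let T := {w : X // w ∈ A ∧ w ∉ Z}
      let f : N → T := fun c => ⟨(c : X) * a * (c : X)⁻¹,
        (Subgroup.mem_normalizer_iff.mp c.2 a).mp haA, by
          intro h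
          apply haZ
          have h1 := (inferInstance : Z.Normal).conj_mem' _ h (c : X)
          have h2 : (c : X)⁻¹ * ((c : X) * a * (c : X)⁻¹) * (c : X) = a := by group
          rwa [h2] at h1⟩
      have h1 : Nat.card N ≤ Nat.card T * Nat.card A := by
        apply card_le_of_fiber_coset N A f
        intro c c' hcc
        apply hCa
        rw [Subgroup.mem_centralizer_singleton_iff]
        have h2 : (c : X) * a * (c : X)⁻¹ = (c' : X) * a * (c' : X)⁻¹ := congrArg Subtype.val hcc
        calc (c : X)⁻¹ * c' * a = (c : X)⁻¹ * ((c' : X) * a * (c' : X)⁻¹) * c' := by group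
          _ = (c : X)⁻¹ * ((c : X) * a * (c : X)⁻¹) * c' := by rw [h2]
          _ = a * ((c : X)⁻¹ * c') := by group
      have h2 : Nat.card T < Nat.card A := by
        classical
        haveI := Fintype.ofFinite T
        haveI := Fintype.ofFinite A
        rw [Nat.card_eq_fintype_card, Nat.card_eq_fintype_card]
        apply Fintype.card_lt_of_injective_of_notMem (fun w : T => (⟨w.1, w.2.1⟩ : A)) (b := 1)
        · intro w w' hww
          have h5 : (⟨w.1, w.2.1⟩ : A) = ⟨w'.1, w'.2.1⟩ := hww
          have h6 : (w : X) = (w' : X) := congrArg (fun t : A => (t : X)) h5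
          exact Subtype.ext h6
        · rintro ⟨w, hw⟩
          have : (w : X) = 1 := congrArg Subtype.val hw
          exact w.2.2 (this ▸ Z.one_mem)
      obtain ⟨k, hk⟩ := IsPGroup.iff_card.mp (hXp.to_subgroup N)
      have h3 := card_lt_of_lt hAN
      rw [hA] at h1 h2 h3
      have h4 : Nat.card N < p ^ 4 := by
        have hpos : 0 < p ^ 2 := pow_pos hp.pos 2
        calc Nat.card N ≤ Nat.card T * p ^ 2 := h1
          _ < p ^ 2 * p ^ 2 := Nat.mul_lt_mul_of_pos_right h2 hpos
          _ = p ^ 4 := by ring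
      rw [hk] at h3 h4
      have h5 := (Nat.pow_lt_pow_iff_right hp.one_lt).mp h3
      have h6 := (Nat.pow_lt_pow_iff_right hp.one_lt).mp h4
      have : k = 3 := by omega
      rw [hk, this]
    have hZN : Z ≤ N := hZA.trans hAN.le
    have hNbar : Nat.card (N.map (QuotientGroup.mk' Z)) = p ^ 2 := by
      have := card_map_mk_mul Z N hZN
      rw [hZcard, hNcard] at this
      apply Nat.eq_of_mul_eq_mul_right hp.pos
      rw [this]; ring
    have hXbar : Nat.card (X ⧸ Z) = p ^ (m + 2) := by
      have := Subgroup.card_eq_card_quotient_mul_card_subgroup Z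
      rw [hZcard, hX] at this
      apply Nat.eq_of_mul_eq_mul_right hp.pos
      rw [← this]; ring
    have hCbar : Subgroup.centralizer ((N.map (QuotientGroup.mk' Z) : Subgroup (X ⧸ Z)) : Set (X ⧸ Z)) ≤
        N.map (QuotientGroup.mk' Z) := by
      intro x hx
      obtain ⟨c, rfl⟩ := QuotientGroup.mk_surjective x
      rw [Subgroup.mem_centralizer_iff] at hx
      have key : ∀ a' ∈ A, c * a' * c⁻¹ * a'⁻¹ ∈ Z ∧ c⁻¹ * a' * c * a'⁻¹ ∈ Z := by
        intro a' ha'
        apply comm_mem_of_mk_comm
        exact (hx (a' : X ⧸ Z) ⟨a', hAN.le ha', rfl⟩).symm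
      refine ⟨c, ?_, rfl⟩
      show c ∈ Subgroup.normalizer (A : Set X)
      rw [Subgroup.mem_normalizer_iff]
      intro h
      constructor
      · intro hh
        have h1 := hZA (key h hh).1
        have h2 : c * h * c⁻¹ = (c * h * c⁻¹ * h⁻¹) * h := by group
        rw [h2]; exact A.mul_mem h1 hh
      · intro hh
        have h1 := hZA (key _ hh).2
        have h2 : h = (c⁻¹ * (c * h * c⁻¹) * c * (c * h * c⁻¹)⁻¹) * (c * h * c⁻¹) := by group
        rw [h2]; exact A.mul_mem h1 hh
    have := ih (X ⧸ Z) hXbar _ hNbar hCbar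
    rw [Group.nilpotencyClass_eq_quotient_center_plus_one, this]

end Cfsg.Agent.Lib.Helper72MaxClass
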