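import Mathlib
import Cfsg.Agent.Lib.Helper72Pi

set_option autoImplicit false

namespace Cfsg.Agent.Lib.Helper72PiCount

open Cfsg.Agent.Lib.Helper72Pi

/-- orbit-stabiliser, counted as pairs -/
theorem card_orbit_pairs {K X : Type*} [Group K] [Finite K] [Finite X] [MulAction K X] (x0 : X) :
    Nat.card {z : X × K // z.1 ∈ MulAction.orbit K x0 ∧ z.2 • z.1 = z.1} = Nat.card K := by
  classical
  let f : {z : X × K // z.1 ∈ MulAction.orbit K x0 ∧ z.2 • z.1 = z.1} → MulAction.orbit K x0 :=
    fun z => ⟨z.1.1, z.2.1⟩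
  have hfib : ∀ x : MulAction.orbit K x0,
      Nat.card {a // f a = x} = Nat.card (MulAction.stabilizer K x0) := by
    intro x
    have e1 : {a // f a = x} ≃ MulAction.stabilizer K (x : X) :=
      { toFun := fun a => ⟨a.1.1.2, by
          have h1 : a.1.1.1 = (x : X) := congrArg Subtype.val a.2
          have h2 := a.1.2.2
          rw [h1] at h2
          exact h2⟩
        invFun := fun k => ⟨⟨((x : X), (k : K)), x.2, k.2⟩, rfl⟩
        left_inv := by
          rintro ⟨⟨⟨y, k⟩, hy, hk⟩, ha⟩
          have h1 : y = (x : X) := congrArg Subtype.val ha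
          subst h1
          rfl
        right_inv := by
          rintro ⟨k, hk⟩
          rfl }
    rw [Nat.card_congr e1]
    exact Nat.card_congr (MulAction.stabilizerEquivStabilizerOfOrbitRel (G := K) x.2).toEquiv
  rw [card_eq_mul_of_fiber_eq f _ hfib, ← Nat.card_prod]
  exact Nat.card_congr (MulAction.orbitProdStabilizerEquivGroup K x0)

/-- pairs `(x, y)` with `x` in a fixed conjugacy class and `y` commuting with `x` -/
theorem card_class_pairs {K : Type*} [Group K] [Finite K] (x0 : K) :
    Nat.card {z : K × K // ConjClasses.mk z.1 = ConjClasses.mk x0 ∧ Commute z.1 z.2} =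
      Nat.card K := by
  haveI : Finite (ConjAct K) := ‹Finite K›
  have h := card_orbit_pairs (K := ConjAct K) (X := K) x0
  have hK : Nat.card (ConjAct K) = Nat.card K := rfl
  rw [← hK, ← h]
  refine Nat.card_congr
    { toFun := fun z => ⟨(z.1.1, ConjAct.toConjAct z.1.2), ?_, ?_⟩
      invFun := fun z => ⟨(z.1.1, ConjAct.ofConjAct z.1.2), ?_, ?_⟩
      left_inv := fun z => rfl
      right_inv := fun z => rfl }
  · rw [ConjAct.mem_orbit_conjAct]
    exact ConjClasses.mk_eq_mk_iff_isConj.mp z.2.1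
  · show ConjAct.toConjAct z.1.2 • z.1.1 = z.1.1
    rw [ConjAct.toConjAct_smul]
    rw [← z.2.2.eq]; group
  · have := z.2.1
    rw [ConjAct.mem_orbit_conjAct] at this
    exact ConjClasses.mk_eq_mk_iff_isConj.mpr this
  · have h2 : z.1.2 • z.1.1 = z.1.1 := z.2.2
    rw [ConjAct.smul_def] at h2
    show z.1.1 * ConjAct.ofConjAct z.1.2 = ConjAct.ofConjAct z.1.2 * z.1.1
    have := mul_inv_eq_iff_eq_mul.mp h2
    exact this.symm

/-- Burnside counting restricted to `π`-elements -/
theorem card_commPairs {K : Type*} [Group K] [Finite K] (π : Set ℕ) :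
    Nat.card {z : K × K // IsPiElt π z.1 ∧ Commute z.1 z.2} =
      Nat.card {C : ConjClasses K // IsPiClass π C} * Nat.card K := by
  let f : {z : K × K // IsPiElt π z.1 ∧ Commute z.1 z.2} → {C : ConjClasses K // IsPiClass π C} :=
    fun z => ⟨ConjClasses.mk z.1.1, (isPiClass_mk_iff π _).mpr z.2.1⟩
  apply card_eq_mul_of_fiber_eq f
  rintro ⟨C, hC⟩
  obtain ⟨x0, rfl⟩ := ConjClasses.exists_rep C
  rw [← card_class_pairs x0]
  refine Nat.card_congr
    { toFun := fun a => ⟨a.1.1, congrArg Subtype.val a.2, a.1.2.2⟩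
      invFun := fun z => ⟨⟨z.1, ?_, z.2.2⟩, Subtype.ext z.2.1⟩
      left_inv := fun a => rfl
      right_inv := fun z => rfl }
  rw [← isPiClass_mk_iff, z.2.1]
  exact hC

end Cfsg.Agent.Lib.Helper72PiCount
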