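import Mathlib
import Cfsg.Agent.Lib.Helper61HigDefs
import Cfsg.Agent.Lib.Helper73HigSplit
import Cfsg.Agent.Lib.Helper3HigBasic
import Cfsg.Agent.Lib.Helper97HigZcoord
import Cfsg.Agent.Lib.Helper40HigCOORD

set_option autoImplicit false

namespace Cfsg.Agent.Lib.Helper73HigCoordM

open Subgroup
open Cfsg.Agent.Lib.Helper61HigDefs
open Cfsg.Agent.Lib.Helper73HigSplit
open Cfsg.Agent.Lib.Helper3HigBasic Cfsg.Agent.Lib.Helper97HigZcoord Cfsg.Agent.Lib.Helper40HigCOORD

universe u v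

theorem coord_abs {F : Type} [Field F] [Fintype F] [CharP F 2] {Q : Type u} [CommGroup Q] [Finite Q]
    (ηQ : Q ≃* Q) (l : F)
    (htr : ∀ y y' : Q, y ≠ 1 → y' ≠ 1 → ∃ i : ℕ, (⇑ηQ)^[i] y = y')
    (hl : ∀ t : F, t ≠ 0 → ∃ i : ℕ, l ^ i = t)
    (hcard : Nat.card Q = Fintype.card F) (hF : 2 < Fintype.card F)
    (bQ : Q →* Multiplicative (F →+ F))
    (hβ : ∀ y t, Multiplicative.toAdd (bQ (ηQ y)) (l * t) = l * Multiplicative.toAdd (bQ y) t)
    (hne : ∃ y t, Multiplicative.toAdd (bQ y) t ≠ 0) :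
    ∃ (iQ : Q → F) (τ : F ≃+* F), τ ≠ RingEquiv.refl F ∧ Function.Bijective iQ ∧
      (∀ y y', iQ (y * y') = iQ y + iQ y') ∧
      ∀ y t, Multiplicative.toAdd (bQ y) t = iQ y * τ t := by
  let ξ : Additive Q ≃+ Additive Q := MulEquiv.toAdditive ηQ
  have hξk : ∀ (k : ℕ) (y : Q), (⇑ξ)^[k] (Additive.ofMul y) = Additive.ofMul ((⇑ηQ)^[k] y) := by
    intro k
    induction k with
    | zero => intro y; rfl
    | succ k ih =>
      intro y
      rw [Function.iterate_succ_apply', ih, Function.iterate_succ_apply']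
      rfl
  let β : Additive Q →+ F →+ F := MonoidHom.toAdditiveLeft bQ
  have hβdef : ∀ y : Q, β (Additive.ofMul y) = Multiplicative.toAdd (bQ y) := fun _ => rfl
  obtain ⟨i, τ, hτ, hi⟩ := COORD (V := Additive Q) ξ l
    (by
      intro v w hv hw
      obtain ⟨k, hk⟩ := htr (Additive.toMul v) (Additive.toMul w) hv hw
      refine ⟨k, ?_⟩
      have := hξk k (Additive.toMul v)
      rw [hk] at this
      exact this)
    hl hcard hF β
    (by
      intro v t
      exact hβ (Additive.toMul v) t)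
    (by
      intro h0
      obtain ⟨y, t, hyt⟩ := hne
      apply hyt
      rw [← hβdef, h0]
      rfl)
  refine ⟨fun y => i (Additive.ofMul y), τ, hτ, ?_, ?_, ?_⟩
  · exact i.bijective.comp Additive.ofMul.bijective
  · intro y y'
    exact map_add i (Additive.ofMul y) (Additive.ofMul y')
  · intro y t
    exact hi (Additive.ofMul y) t

variable {P : Type u} {A : Type v} [Group P] [Group A] {f : A →* MulAut P}

/-- piece `coordM` -/
theorem coordM (h : HS f) {F : Type} [Field F] [Fintype F] [CharP F 2] (c : ZCoord f F)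
    {D M : Subgroup P} (hD : DH f D) (hM : RegOver f (centralizer (D : Set P)) M) :
    ∃ (iM : M → F) (τ : F ≃+* F), τ ≠ RingEquiv.refl F ∧ Function.Surjective iM ∧
      (∀ g g' : M, iM (g * g') = iM g + iM g') ∧
      (∀ g : M, iM g = 0 ↔ (g : P) ∈ centralizer (D : Set P)) ∧
      ∀ (g : M), ∀ d ∈ D, c.i (d⁻¹ * (g : P)⁻¹ * d * g) = iM g * τ (c.i (d * d)) := by
  classical
  haveI := h.fin
  have hcen : ∀ z : P, z * z = 1 → ∀ x, z * x = x * z := fun z hz x => invol_central h hz x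
  have hi1 : c.i 1 = 0 := by
    have := c.add 1 1 (by simp) (by simp)
    rw [mul_one] at this
    exact left_eq_add.1 this
  have hmul2 : ∀ z z' : P, z * z = 1 → z' * z' = 1 → (z * z') * (z * z') = 1 := by
    intro z z' hz hz'
    calc (z * z') * (z * z') = z * (z' * z) * z' := by group
      _ = z * (z * z') * z' := by rw [hcen z' hz' z]
      _ = (z * z) * (z' * z') := by group
      _ = 1 := by rw [hz, hz', one_mul]
  have hinj : ∀ z z' : P, z * z = 1 → z' * z' = 1 → c.i z = c.i z' → z = z' := by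
    intro z z' hz hz' he
    have h2 : c.i (z * z') = 0 := by
      rw [c.add z z' hz hz', he]; exact CharTwo.add_self_eq_zero _
    have h3 := c.inj _ (hmul2 z z' hz hz') h2
    calc z = z * (z' * z') := by rw [hz', mul_one]
      _ = (z * z') * z' := by group
      _ = z' := by rw [h3, one_mul]
  have hsqsurj : ∀ z : P, z * z = 1 → ∃ d ∈ D, d * d = z := by
    intro z hz
    by_cases hz1 : z = 1
    · exact ⟨1, D.one_mem, by rw [hz1, mul_one]⟩
    · obtain ⟨d₀, hd₀, hd₀ne⟩ := hD.ne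
      obtain ⟨a, ha, _⟩ := h.reg (d₀ * d₀) z hd₀ne (hD.sq d₀ hd₀) hz1 hz
      exact ⟨f a d₀, hD.inv a d₀ hd₀, by rw [← map_mul]; exact ha⟩
  have hsel : ∀ t : F, ∃ d ∈ D, c.i (d * d) = t := by
    intro t
    obtain ⟨z, hz, hzt⟩ := c.surj t
    obtain ⟨d, hd, hdz⟩ := hsqsurj z hz
    exact ⟨d, hd, by rw [hdz, hzt]⟩
  choose dsel hdselD hdsel using hsel
  have hW1 : ∀ d ∈ D, ∀ g g' : P, d⁻¹ * (g * g')⁻¹ * d * (g * g')
      = (d⁻¹ * g⁻¹ * d * g) * (d⁻¹ * g'⁻¹ * d * g') := by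
    intro d hd g g'
    have hc := hcen _ (hD.cen d hd g)
    calc d⁻¹ * (g * g')⁻¹ * d * (g * g')
        = (d⁻¹ * g'⁻¹ * d * g') * g'⁻¹ * ((d⁻¹ * g⁻¹ * d * g) * g') := by group
      _ = (d⁻¹ * g'⁻¹ * d * g') * g'⁻¹ * (g' * (d⁻¹ * g⁻¹ * d * g)) := by rw [hc g']
      _ = (d⁻¹ * g'⁻¹ * d * g') * (d⁻¹ * g⁻¹ * d * g) := by group
      _ = _ := (hc _).symm
  have hW2 : ∀ d ∈ D, ∀ d' : P, ∀ g : P, (d * d')⁻¹ * g⁻¹ * (d * d') * g
      = (d⁻¹ * g⁻¹ * d * g) * (d'⁻¹ * g⁻¹ * d' * g) := by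
    intro d hd d' g
    have hc := hcen _ (hD.cen d hd g)
    calc (d * d')⁻¹ * g⁻¹ * (d * d') * g
        = d'⁻¹ * ((d⁻¹ * g⁻¹ * d * g) * (g⁻¹ * d' * g)) := by group
      _ = d'⁻¹ * ((g⁻¹ * d' * g) * (d⁻¹ * g⁻¹ * d * g)) := by rw [hc]
      _ = (d'⁻¹ * g⁻¹ * d' * g) * (d⁻¹ * g⁻¹ * d * g) := by group
      _ = _ := (hc _).symm
  have hsqmul : ∀ d ∈ D, ∀ d' ∈ D, (d * d') * (d * d') = (d * d) * (d' * d') := by
    intro d hd d' hd'
    calc (d * d') * (d * d') = d * (d' * d) * d' := by group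
      _ = d * (d * d') * d' := by rw [hD.comm d' hd' d hd]
      _ = _ := by group
  have hK' : ∀ g : P, ∀ d ∈ D, ∀ d' ∈ D, d * d = d' * d' →
      d⁻¹ * g⁻¹ * d * g = d'⁻¹ * g⁻¹ * d' * g := by
    intro g d hd d' hd' he
    have hz : (d * d'⁻¹) * (d * d'⁻¹) = 1 := by
      rw [hsqmul d hd d'⁻¹ (D.inv_mem hd'), he]; group
    have hzc := hcen _ hz
    have e : d = (d * d'⁻¹) * d' := by group
    have h1 := hW2 (d * d'⁻¹) (D.mul_mem hd (D.inv_mem hd')) d' g
    rw [← e] at h1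
    rw [h1]
    have h2 : (d * d'⁻¹)⁻¹ * g⁻¹ * (d * d'⁻¹) * g = 1 := by
      calc (d * d'⁻¹)⁻¹ * g⁻¹ * (d * d'⁻¹) * g = (d * d'⁻¹)⁻¹ * g⁻¹ * ((d * d'⁻¹) * g) := by group
        _ = (d * d'⁻¹)⁻¹ * g⁻¹ * (g * (d * d'⁻¹)) := by rw [hzc g]
        _ = 1 := by group
    rw [h2, one_mul]
  have hK : ∀ g : P, ∀ d ∈ D, c.i (d⁻¹ * g⁻¹ * d * g)
      = c.i ((dsel (c.i (d * d)))⁻¹ * g⁻¹ * dsel (c.i (d * d)) * g) := by
    intro g d hd
    rw [hK' g d hd _ (hdselD _)]
    exact hinj _ _ (hD.sq d hd) (hD.sq _ (hdselD _)) (hdsel _).symm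
  -- the bimultiplicative map
  let Bh : M →* Multiplicative (F →+ F) := MonoidHom.mk'
    (fun g => Multiplicative.ofAdd (AddMonoidHom.mk'
      (fun t => c.i ((dsel t)⁻¹ * (g : P)⁻¹ * dsel t * g)) (by
        intro t t'
        have h1 := hK g (dsel t * dsel t') (D.mul_mem (hdselD t) (hdselD t'))
        rw [hsqmul _ (hdselD t) _ (hdselD t'), c.add _ _ (hD.sq _ (hdselD t)) (hD.sq _ (hdselD t')),
          hdsel, hdsel] at h1
        rw [← h1, hW2 _ (hdselD t), c.add _ _ (hD.cen _ (hdselD t) _) (hD.cen _ (hdselD t') _)])))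
    (by
      intro g g'
      apply Multiplicative.toAdd.injective
      ext t
      change c.i ((dsel t)⁻¹ * ((g : P) * (g' : P))⁻¹ * dsel t * ((g : P) * (g' : P))) = _
      rw [hW1 _ (hdselD t), c.add _ _ (hD.cen _ (hdselD t) _) (hD.cen _ (hdselD t) _)]
      rfl)
  have hBh : ∀ (g : M) (t : F), Multiplicative.toAdd (Bh g) t
      = c.i ((dsel t)⁻¹ * (g : P)⁻¹ * dsel t * g) := fun _ _ => rfl
  have hBhd : ∀ (g : M), ∀ d ∈ D, Multiplicative.toAdd (Bh g) (c.i (d * d))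
      = c.i (d⁻¹ * (g : P)⁻¹ * d * g) := by
    intro g d hd
    rw [hBh, ← hK _ d hd]
  obtain ⟨n, hn2, hn⟩ := exists_q h
  have hpow4 : 4 ≤ 2 ^ n := by
    calc 4 = 2 ^ 2 := by norm_num
      _ ≤ 2 ^ n := Nat.pow_le_pow_right (by norm_num) hn2
  haveI : Finite A := Nat.finite_of_card_ne_zero (by omega)
  have hgen : ∀ a : A, ∃ k : ℕ, c.a₀ ^ k = a := by
    intro a
    have := (mem_powers_iff_mem_zpowers).2 (c.gen a)
    exact Submonoid.mem_powers_iff _ _ |>.1 this
  have hCinv : Inv f (centralizer (D : Set P)) := by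
    intro a x hx
    rw [mem_centralizer_iff] at hx ⊢
    intro d hd
    have h1 := hx (f a⁻¹ d) (hD.inv a⁻¹ d hd)
    have h2 := congrArg (f a) h1
    rwa [map_mul, map_mul, apply_inv] at h2
  have hsq' : ∀ g : M, g * g ∈ (centralizer (D : Set P)).subgroupOf M := by
    intro g
    rw [Subgroup.mem_subgroupOf]
    exact mem_centralizer_iff.2 (fun d hd => (hD.sqc d hd g).symm)
  haveI : ((centralizer (D : Set P)).subgroupOf M).Normal := normal_of_sq hsq'
  letI := commQ ((centralizer (D : Set P)).subgroupOf M) hsq'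
  have hC'inv : Inv (res f M hM.inv) ((centralizer (D : Set P)).subgroupOf M) :=
    fun a x hx => hCinv a x hx
  have hcm1 : ∀ (g d : P), d * g = g * d → d⁻¹ * g⁻¹ * d * g = 1 := by
    intro g d hdg
    calc d⁻¹ * g⁻¹ * d * g = d⁻¹ * g⁻¹ * (d * g) := by group
      _ = 1 := by rw [hdg]; group
  let ηQ : (M ⧸ (centralizer (D : Set P)).subgroupOf M) ≃* (M ⧸ (centralizer (D : Set P)).subgroupOf M) :=
    quo (res f M hM.inv) _ hC'inv c.a₀
  let bQ : (M ⧸ (centralizer (D : Set P)).subgroupOf M) →* Multiplicative (F →+ F) :=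
    QuotientGroup.lift _ Bh (by
      intro x hx
      apply Multiplicative.toAdd.injective
      ext t
      have hx' : (x : P) ∈ centralizer (D : Set P) := hx
      rw [hBh, hcm1 (x : P) _ (mem_centralizer_iff.1 hx' _ (hdselD t)), hi1]
      rfl)
  have hbQ : ∀ g : M, bQ (QuotientGroup.mk g) = Bh g := fun _ => rfl
  have hηk : ∀ (k : ℕ) (g : M), (⇑ηQ)^[k] (QuotientGroup.mk g)
      = QuotientGroup.mk (res f M hM.inv (c.a₀ ^ k) g) := by
    intro k
    induction k with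
    | zero => intro g; simp
    | succ k ih =>
      intro g
      rw [Function.iterate_succ_apply', ih, pow_succ', map_mul]
      rfl
  have hmk1 : ∀ g : M, (QuotientGroup.mk g : M ⧸ (centralizer (D : Set P)).subgroupOf M) = 1
      ↔ (g : P) ∈ centralizer (D : Set P) := fun g => QuotientGroup.eq_one_iff g
  have hmkeq : ∀ g g' : M, (QuotientGroup.mk g : M ⧸ (centralizer (D : Set P)).subgroupOf M)
      = QuotientGroup.mk g' ↔ (g : P)⁻¹ * g' ∈ centralizer (D : Set P) := fun g g' => QuotientGroup.eq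
  have htrA : ∀ g g' : M, (g : P) ∉ centralizer (D : Set P) → (g' : P) ∉ centralizer (D : Set P) →
      ∃ a : A, (QuotientGroup.mk (res f M hM.inv a g) : M ⧸ (centralizer (D : Set P)).subgroupOf M)
        = QuotientGroup.mk g' := by
    intro g g' hg hg'
    obtain ⟨a, ha⟩ := hM.tr g g.2 g' g'.2 hg hg'
    refine ⟨a, ?_⟩
    rw [eq_comm, hmkeq]
    exact ha
  have htr : ∀ y y' : M ⧸ (centralizer (D : Set P)).subgroupOf M, y ≠ 1 → y' ≠ 1 →
      ∃ i : ℕ, (⇑ηQ)^[i] y = y' := by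
    intro y y'
    induction y using QuotientGroup.induction_on with
    | H g =>
      induction y' using QuotientGroup.induction_on with
      | H g' =>
        intro hy hy'
        obtain ⟨a, ha⟩ := htrA g g' (fun hh => hy ((hmk1 g).2 hh)) (fun hh => hy' ((hmk1 g').2 hh))
        obtain ⟨k, rfl⟩ := hgen a
        exact ⟨k, by rw [hηk]; exact ha⟩
  obtain ⟨g₀, hg₀M, hg₀C⟩ := hM.ne
  have hnotC : ∀ (a : A) (x : P), x ∉ centralizer (D : Set P) → f a x ∉ centralizer (D : Set P) := by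
    intro a x hx hax
    apply hx
    have := hCinv a⁻¹ _ hax
    rwa [inv_apply] at this
  have hcardQ : Nat.card (M ⧸ (centralizer (D : Set P)).subgroupOf M) = Nat.card A + 1 := by
    let φ : A → {y : M ⧸ (centralizer (D : Set P)).subgroupOf M // y ≠ 1} := fun a =>
      ⟨QuotientGroup.mk (res f M hM.inv a ⟨g₀, hg₀M⟩), fun hh => hnotC a g₀ hg₀C ((hmk1 _).1 hh)⟩
    have hφ : Function.Bijective φ := by
      constructor
      · intro a b hab
        have h1 := (hmkeq _ _).1 (congrArg Subtype.val hab)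
        have h3 : (f a g₀)⁻¹ * f b g₀ ∈ centralizer (D : Set P) := h1
        have h4 := hCinv a⁻¹ _ h3
        rw [map_mul, map_inv, inv_apply] at h4
        have h5 : f a⁻¹ (f b g₀) = f (a⁻¹ * b) g₀ := by rw [map_mul]; rfl
        rw [h5] at h4
        have h6 := fpf_coset h hCinv hg₀C h4
        exact inv_mul_eq_one.1 h6
      · rintro ⟨y, hy⟩
        induction y using QuotientGroup.induction_on with
        | H g' =>
          obtain ⟨a, ha⟩ := htrA ⟨g₀, hg₀M⟩ g' hg₀C (fun hh => hy ((hmk1 g').2 hh))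
          exact ⟨a, Subtype.ext ha⟩
    rw [← Nat.card_congr (Equiv.optionSubtypeNe (1 : M ⧸ (centralizer (D : Set P)).subgroupOf M)),
      Finite.card_option, Nat.card_eq_of_bijective φ hφ]
  have hcardF := zcoord_card h c
  obtain ⟨iQ, τ, hτ, hbij, hadd, hval⟩ := coord_abs ηQ c.l htr (zcoord_gen h c)
    (by rw [hcardQ, hcardF]) (by rw [hcardF]; omega) bQ
    (by
      intro y t
      induction y using QuotientGroup.induction_on with
      | H g =>
        have e1 : ηQ (QuotientGroup.mk g) = QuotientGroup.mk (res f M hM.inv c.a₀ g) := rfl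
        rw [e1, hbQ, hbQ]
        have e2 : c.l * t = c.i (f c.a₀ (dsel t) * f c.a₀ (dsel t)) := by
          rw [← map_mul, c.equi _ (hD.sq _ (hdselD t)), hdsel]
        rw [e2, hBhd _ _ (hD.inv _ _ (hdselD t)), hBh, ← c.equi _ (hD.cen _ (hdselD t) _)]
        simp only [res_apply, map_mul, map_inv])
    (by
      have hg₀C' := hg₀C
      rw [mem_centralizer_iff] at hg₀C'
      push Not at hg₀C'
      obtain ⟨d, hd, hdg⟩ := hg₀C'
      refine ⟨QuotientGroup.mk ⟨g₀, hg₀M⟩, c.i (d * d), ?_⟩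
      rw [hbQ, hBhd _ d hd]
      intro h0
      have h1 := c.inj _ (hD.cen d hd g₀) h0
      apply hdg
      calc d * g₀ = g₀ * d * (d⁻¹ * g₀⁻¹ * d * g₀) := by group
        _ = g₀ * d := by rw [h1, mul_one])
  have hiQ1 : iQ 1 = 0 := by
    have := hadd 1 1
    rw [mul_one] at this
    exact left_eq_add.1 this
  refine ⟨fun g => iQ (QuotientGroup.mk g), τ, hτ, ?_, ?_, ?_, ?_⟩
  · exact hbij.2.comp (QuotientGroup.mk_surjective)
  · intro g g'
    exact hadd (QuotientGroup.mk g) (QuotientGroup.mk g')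
  · intro g
    rw [← hmk1]
    constructor
    · intro h0
      exact hbij.1 (h0.trans hiQ1.symm)
    · intro h0
      change iQ (QuotientGroup.mk g) = 0
      rw [h0, hiQ1]
  · intro g d hd
    rw [← hBhd g d hd, ← hbQ]
    exact hval _ _

end Cfsg.Agent.Lib.Helper73HigCoordM
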