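import Mathlib
import Cfsg.Prelude.Def_Local
import Cfsg.Agent.Lib.Helper38PSolv
import Cfsg.Agent.Lib.Helper38HH

set_option autoImplicit false

namespace Cfsg.Agent.Lib.Helper73PCompl

open Cfsg

/-- Subgroups of `p`-solvable groups are `p`-solvable. -/
theorem isPSolvable_subgroup {G : Type*} [Group G] {p : ℕ} [Fact p.Prime] (B : Subgroup G)
    (h : IsPSolvable p G) : IsPSolvable p B := by
  obtain ⟨n, H, h0, hn, hmono, hnorm, hfac⟩ := h
  refine ⟨n, fun i => (H i).subgroupOf B, ?_, ?_, ?_, ?_, ?_⟩
  · simp [h0]
  · simp [hn]
  · intro i j hij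
    exact Subgroup.comap_mono (hmono hij)
  · intro i
    exact (hnorm i).subgroupOf B
  · intro i
    have : (H i.castSucc).Normal := hnorm _
    have hdvd : ((H i.castSucc).subgroupOf B).relIndex ((H i.succ).subgroupOf B) ∣
        (H i.castSucc).relIndex (H i.succ) := by
      rw [← Subgroup.inf_subgroupOf_right (H i.succ) B,
        Subgroup.relIndex_subgroupOf (inf_le_right : H i.succ ⊓ B ≤ B)]
      exact Cfsg.Agent.Lib.Helper38HH.relIndex_dvd_of_le_right_normal _ inf_le_left
    rcases hfac i with ⟨m, hm⟩ | hc
    · left
      rw [hm] at hdvd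
      obtain ⟨k, _, hk⟩ := (Nat.dvd_prime_pow Fact.out).1 hdvd
      exact ⟨k, hk⟩
    · right
      exact Nat.Coprime.coprime_dvd_left hdvd hc

/-- A finite `p`-solvable group has a `p`-complement. -/
theorem exists_pComplement {p : ℕ} [Fact p.Prime] : ∀ (n : ℕ) {G : Type*} [Group G] [Finite G],
    Nat.card G = n → IsPSolvable p G →
    ∃ K : Subgroup G, (Nat.card K).Coprime p ∧ ∃ j : ℕ, K.index = p ^ j := by
  intro n
  induction n using Nat.strong_induction_on with
  | _ n ih =>
    intro G _ _ hcard h
    by_cases htriv : Subsingleton G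
    · refine ⟨⊤, ?_, 0, ?_⟩
      · rw [Subgroup.card_top, Nat.card_eq_one_iff_unique.mpr ⟨htriv, ⟨1⟩⟩]
        exact Nat.coprime_one_left p
      · simp
    · have hnt : Nontrivial G := not_subsingleton_iff_nontrivial.mp htriv
      obtain ⟨N, hN, hNbot, hNp⟩ := Cfsg.Agent.Lib.Helper38PSolv.exists_normal_of_isPSolvable h
      have hlt : Nat.card (G ⧸ N) < n := by
        rw [← hcard, ← Subgroup.index_eq_card, ← N.card_mul_index]
        have h1 : 1 < Nat.card N := by
          rw [Subgroup.one_lt_card_iff_ne_bot]; exact hNbot
        have h2 : 0 < N.index := Nat.pos_of_ne_zero Subgroup.FiniteIndex.index_ne_zero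
        nlinarith
      obtain ⟨Kb, hKb, j, hj⟩ := ih _ hlt rfl
        (Cfsg.Agent.Lib.Helper38PSolv.isPSolvable_quotient N h)
      set K := Kb.comap (QuotientGroup.mk' N) with hK
      have hKidx : K.index = p ^ j := by
        rw [hK, Subgroup.index_comap_of_surjective _ (QuotientGroup.mk'_surjective N), hj]
      have hNK : N ≤ K := by
        intro x hx
        rw [hK, Subgroup.mem_comap]
        have : (QuotientGroup.mk' N) x = 1 := (QuotientGroup.eq_one_iff x).mpr hx
        rw [this]; exact Kb.one_mem
      have hrel : N.relIndex K = Nat.card Kb := by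
        have h1 := Subgroup.relIndex_mul_index hNK
        have h2 := Kb.card_mul_index
        rw [← Subgroup.index_eq_card, hj] at h2
        rw [hKidx, ← h2] at h1
        exact Nat.eq_of_mul_eq_mul_right (pow_pos (Fact.out : p.Prime).pos j) h1
      rcases hNp with hNp | hNp
      · -- `N` is a `p`-group: Schur-Zassenhaus inside `K`
        obtain ⟨a, ha⟩ := hNp.exists_card_eq
        have hcardN' : Nat.card (N.subgroupOf K) = p ^ a := by
          rw [← ha]
          exact Nat.card_congr (Subgroup.subgroupOfEquivOfLe hNK).toEquiv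
        have hidx' : (N.subgroupOf K).index = Nat.card Kb := hrel
        have hcop : Nat.Coprime (Nat.card (N.subgroupOf K)) (N.subgroupOf K).index := by
          rw [hcardN', hidx']
          exact (Nat.Coprime.pow_right a hKb).symm
        obtain ⟨C, hC⟩ := Subgroup.exists_right_complement'_of_coprime hcop
        refine ⟨C.map K.subtype, ?_, a + j, ?_⟩
        · rw [Subgroup.card_map_of_injective K.subtype_injective]
          have : Nat.card C = (N.subgroupOf K).index := hC.symm.index_eq_card.symm
          rw [this, hidx']; exact hKb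
        · rw [Subgroup.index_map_subtype, hKidx, hC.index_eq_card, hcardN', pow_add]
      · refine ⟨K, ?_, j, hKidx⟩
        have h1 : Nat.card K = Nat.card N * Nat.card Kb := by
          rw [← hrel]
          have := (N.subgroupOf K).card_mul_index
          rw [← this]
          congr 1
          exact Nat.card_congr (Subgroup.subgroupOfEquivOfLe hNK).toEquiv
        rw [h1]
        exact Nat.Coprime.mul_left hNp hKb

end Cfsg.Agent.Lib.Helper73PCompl
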