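import Mathlib

set_option autoImplicit false

/-! Project 243 wave 2 (S2292), piece `cabel`: normal form in a group generated by commuting
one-parameter subgroups. -/

namespace Cfsg.Agent.Lib.Helper73SpCabel

theorem abel_nf {B : Type*} [Fintype B] {R : Type*} [AddGroup R] {G : Type*} [Group G] (φ : B → R → G)
    (hadd : ∀ b s t, φ b (s + t) = φ b s * φ b t) (hc : ∀ b b' s t, Commute (φ b s) (φ b' t))
    (q : G) (hq : q ∈ Subgroup.closure {g | ∃ b t, g = φ b t}) :
    ∃ (l : List B) (c : B → R), l.Nodup ∧ q = (l.map fun b => φ b (c b)).prod := by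
  classical
  have h0 : ∀ b, φ b 0 = 1 := by
    intro b
    have := hadd b 0 0
    rw [add_zero] at this
    exact (mul_eq_left.mp this.symm)
  have hmul : ∀ (l : List B) (c c' : B → R),
      (l.map fun b => φ b (c b)).prod * (l.map fun b => φ b (c' b)).prod =
        (l.map fun b => φ b (c b + c' b)).prod := by
    intro l c c'
    induction l with
    | nil => simp
    | cons a l ih =>
      simp only [List.map_cons, List.prod_cons]
      have hcomm : Commute (l.map fun b => φ b (c b)).prod (φ a (c' a)) := by
        apply Commute.list_prod_left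
        intro x hx
        obtain ⟨b, _, rfl⟩ := List.mem_map.mp hx
        exact hc _ _ _ _
      rw [← ih, hadd]
      calc φ a (c a) * (l.map fun b => φ b (c b)).prod * (φ a (c' a) * (l.map fun b => φ b (c' b)).prod)
          = φ a (c a) * ((l.map fun b => φ b (c b)).prod * φ a (c' a)) *
              (l.map fun b => φ b (c' b)).prod := by group
        _ = φ a (c a) * (φ a (c' a) * (l.map fun b => φ b (c b)).prod) *
              (l.map fun b => φ b (c' b)).prod := by rw [hcomm.eq]
        _ = _ := by group
  have hone : ∀ l : List B, (l.map fun b => φ b ((0 : B → R) b)).prod = 1 := by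
    intro l
    apply List.prod_eq_one
    intro x hx
    obtain ⟨b, _, rfl⟩ := List.mem_map.mp hx
    exact h0 b
  have hgen : ∀ (l : List B), l.Nodup → ∀ (b : B) (t : R),
      (l.map fun b' => φ b' ((Pi.single b t : B → R) b')).prod = if b ∈ l then φ b t else 1 := by
    intro l hl b t
    induction l with
    | nil => simp
    | cons a l ih =>
      rw [List.nodup_cons] at hl
      simp only [List.map_cons, List.prod_cons]
      rw [ih hl.2]
      by_cases hab : a = b
      · subst hab
        rw [Pi.single_eq_same, if_neg hl.1, mul_one, if_pos List.mem_cons_self]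
      · rw [Pi.single_eq_of_ne hab, h0, one_mul]
        by_cases hbl : b ∈ l
        · rw [if_pos hbl, if_pos (List.mem_cons_of_mem _ hbl)]
        · rw [if_neg hbl, if_neg]
          intro h
          rcases List.mem_cons.mp h with h | h
          · exact hab h.symm
          · exact hbl h
  have key : ∃ c : B → R, q = ((Finset.univ : Finset B).toList.map fun b => φ b (c b)).prod := by
    induction hq using Subgroup.closure_induction with
    | mem x hx =>
      obtain ⟨b, t, rfl⟩ := hx
      refine ⟨Pi.single b t, ?_⟩
      rw [hgen _ (Finset.nodup_toList _), if_pos (by simp)]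
    | one => exact ⟨0, (hone _).symm⟩
    | mul x y _ _ hx hy =>
      obtain ⟨c, rfl⟩ := hx
      obtain ⟨c', rfl⟩ := hy
      exact ⟨fun b => c b + c' b, hmul _ _ _⟩
    | inv x _ hx =>
      obtain ⟨c, rfl⟩ := hx
      refine ⟨fun b => - c b, ?_⟩
      apply inv_eq_of_mul_eq_one_right
      rw [hmul]
      have : (fun b => φ b (c b + - c b)) = fun b => φ b ((0 : B → R) b) := by
        funext b
        simp
      rw [this, hone]
  obtain ⟨c, hc'⟩ := key
  exact ⟨_, c, Finset.nodup_toList _, hc'⟩

end Cfsg.Agent.Lib.Helper73SpCabel
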