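import Cfsg.Agent.Lib.Helper74BG36D
import Cfsg.Agent.Lib.Helper17BG36Thompson
import Cfsg.Agent.Lib.Helper36BG36M
import Cfsg.Agent.Lib.Helper87BG36red
import Cfsg.Agent.Lib.Helper2Coprime
import Cfsg.Agent.Lib.Helper56Iso2
import Cfsg.Agent.Lib.Helper66Fpf

set_option autoImplicit false
set_option linter.unusedSectionVars false

/-! The abstract key lemma for the hard case of B-G Theorem 3.6. -/

namespace Cfsg.Agent.Lib.Helper74BG36

open Cfsg.Agent.Lib.Helper36Frob Subgroup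

lemma conj_mem_centralizer {G : Type*} [Group G] {Q : Subgroup G} {g h : G}
    (hg : g ∈ normalizer (Q : Set G)) (hh : h ∈ centralizer (Q : Set G)) :
    g * h * g⁻¹ ∈ centralizer (Q : Set G) := by
  rw [mem_centralizer_iff] at hh ⊢
  intro q hq
  have h1 := hh _ (conj_mem' hg hq)
  calc q * (g * h * g⁻¹) = g * ((g⁻¹ * q * g) * h) * g⁻¹ := by group
    _ = g * (h * (g⁻¹ * q * g)) * g⁻¹ := by rw [h1]
    _ = g * h * g⁻¹ * q := by group

lemma mem_normalizer_centralizer {G : Type*} [Group G] {Q : Subgroup G} {g : G}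
    (hg : g ∈ normalizer (Q : Set G)) : g ∈ normalizer ((centralizer (Q : Set G) : Subgroup G) : Set G) := by
  rw [mem_normalizer_iff]
  intro h
  constructor
  · exact conj_mem_centralizer hg
  · intro hh
    have := conj_mem_centralizer ((normalizer (Q : Set G)).inv_mem hg) hh
    have e : g⁻¹ * (g * h * g⁻¹) * g⁻¹⁻¹ = h := by group
    rwa [e] at this

lemma mem_normalizer_commutator {G : Type*} [Group G] {H K : Subgroup G} {g : G}
    (h1 : g ∈ normalizer (H : Set G)) (h2 : g ∈ normalizer (K : Set G)) :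
    g ∈ normalizer ((⁅H, K⁆ : Subgroup G) : Set G) := by
  rw [← cj_eq_iff]
  have e : cj g ⁅H, K⁆ = ⁅cj g H, cj g K⁆ := by
    unfold cj
    exact map_commutator _ _ _
  rw [e, cj_eq_iff.mpr h1, cj_eq_iff.mpr h2]

theorem exists_c {G : Type*} [Group G] [Finite G] {r : ℕ} (hr : r.Prime) {Q A R : Subgroup G}
    (hAQ : A ≤ normalizer (Q : Set G)) (hRQ : R ≤ normalizer (Q : Set G))
    (hRA : R ≤ normalizer (A : Set G))
    (hQs : Group.IsSolvable Q) (hQA' : (Nat.card Q).Coprime (Nat.card A)) (hQr : (Nat.card Q).Coprime r)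
    (hR : Nat.card R = r) (hfpf : ∀ x ∈ R, x ≠ 1 → ∀ a ∈ A, x * a = a * x → a = 1)
    (hQnc : ¬ ∀ a ∈ Q, ∀ b ∈ Q, a * b = b * a) (hQA : ⁅Q, A⁆ = Q)
    (hQmin : ∀ X ≤ Q, X ≠ Q → A ≤ normalizer (X : Set G) → R ≤ normalizer (X : Set G) →
        A ≤ centralizer (X : Set G))
    (hZ : IsZGroup ↥(Q ⊓ centralizer (R : Set G))) :
    ⁅Q, Q⁆ ≤ centralizer (Q : Set G) ∧
    (∀ a ∈ Q ⊓ centralizer (R : Set G), ∀ b ∈ Q ⊓ centralizer (R : Set G), a * b = b * a) ∧
    ∃ c ∈ Q ⊓ centralizer (R : Set G), c ∉ centralizer (Q : Set G) := by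
  have hQ1 : Q ≠ ⊥ := by
    rintro rfl
    apply hQnc
    intro a ha b hb
    rw [mem_bot.mp ha, mem_bot.mp hb]
  have hQ'lt : ⁅Q, Q⁆ < Q := Cfsg.Agent.Lib.Helper66Fpf.comm_lt hQs hQ1
  have hAQ' : A ≤ centralizer ((⁅Q, Q⁆ : Subgroup G) : Set G) :=
    hQmin _ hQ'lt.le hQ'lt.ne (fun a ha => mem_normalizer_commutator (hAQ ha) (hAQ ha))
      (fun x hx => mem_normalizer_commutator (hRQ hx) (hRQ hx))
  have hcl : ⁅Q, Q⁆ ≤ centralizer (Q : Set G) := by
    have h1 : ⁅⁅Q, ⁅Q, Q⁆⁆, A⁆ = ⊥ := by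
      rw [commutator_eq_bot_iff_le_centralizer]
      exact (commutator_mono le_rfl hQ'lt.le).trans (le_centralizer_iff.mp hAQ')
    have h2 : ⁅⁅⁅Q, Q⁆, A⁆, Q⁆ = ⊥ := by
      have : ⁅⁅Q, Q⁆, A⁆ = ⊥ := by
        rw [commutator_eq_bot_iff_le_centralizer]; exact le_centralizer_iff.mp hAQ'
      rw [this]; exact commutator_bot_left Q
    have h3 := commutator_commutator_eq_bot_of_rotate h1 h2
    rw [commutator_comm A Q, hQA, commutator_eq_bot_iff_le_centralizer] at h3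
    exact le_centralizer_iff.mp h3
  refine ⟨hcl, ?_, ?_⟩
  · have hnil : Group.IsNilpotent ↥Q :=
      Cfsg.Agent.Lib.Helper56Iso2.isNilpotent_of_comm3
        ((commutator_eq_bot_iff_le_centralizer).mpr hcl)
    have hnil2 : Group.IsNilpotent ↥(Q ⊓ centralizer (R : Set G)) :=
      Subgroup.isNilpotent_of_ker_le_center
        (Subgroup.inclusion (inf_le_left : Q ⊓ centralizer (R : Set G) ≤ Q))
        (by rw [(MonoidHom.ker_eq_bot_iff _).mpr (Subgroup.inclusion_injective _)]; exact bot_le)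
    have hcyc : IsCyclic ↥(Q ⊓ centralizer (R : Set G)) := inferInstance
    obtain ⟨g, hg⟩ := hcyc.exists_generator
    intro a ha b hb
    obtain ⟨i, hi⟩ := mem_zpowers_iff.mp (hg ⟨a, ha⟩)
    obtain ⟨j, hj⟩ := mem_zpowers_iff.mp (hg ⟨b, hb⟩)
    have h1 : (⟨a, ha⟩ : ↥(Q ⊓ centralizer (R : Set G))) * ⟨b, hb⟩ = ⟨b, hb⟩ * ⟨a, ha⟩ := by
      rw [← hi, ← hj]; exact zpow_mul_comm g i j
    exact congrArg Subtype.val h1
  · by_contra hcon
    push Not at hcon
    have hfix : Q ⊓ centralizer (R : Set G) ≤ Q ⊓ centralizer (Q : Set G) :=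
      fun c hc => ⟨hc.1, hcon c hc⟩
    have hN : ∀ g ∈ normalizer (Q : Set G),
        g ∈ normalizer ((Q ⊓ centralizer (Q : Set G) : Subgroup G) : Set G) :=
      fun g hg => mem_normalizer_inf hg (mem_normalizer_centralizer hg)
    have h1 := Cfsg.Agent.Lib.Helper17BG36Thompson.comm_le_of_fixed_le hr hAQ hRQ hRA
      (inf_le_left : Q ⊓ centralizer (Q : Set G) ≤ Q) (fun g hg => hN g (le_normalizer hg))
      (fun g hg => hN g (hAQ hg)) (fun g hg => hN g (hRQ hg)) hR hfpf hQA' hQr hfix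
    rw [hQA] at h1
    apply hQnc
    intro a ha b hb
    exact ((mem_centralizer_iff.mp (h1 hb).2) a ha)

variable {G V : Type*} [Group G] [Finite G] [AddCommGroup V] [DistribMulAction G V]

theorem nonabelian_case [Finite V] {r : ℕ} (hr : r.Prime) {Q A R : Subgroup G}
    (hAQ : A ≤ normalizer (Q : Set G)) (hRQ : R ≤ normalizer (Q : Set G))
    (hRA : R ≤ normalizer (A : Set G))
    (hcop : (Nat.card Q).Coprime (Nat.card V))
    (hQs : Group.IsSolvable Q) (hQA' : (Nat.card Q).Coprime (Nat.card A)) (hQr : (Nat.card Q).Coprime r)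
    (hR : Nat.card R = r) (hfpf : ∀ x ∈ R, x ≠ 1 → ∀ a ∈ A, x * a = a * x → a = 1)
    (hQnc : ¬ ∀ a ∈ Q, ∀ b ∈ Q, a * b = b * a) (hQA : ⁅Q, A⁆ = Q)
    (hQmin : ∀ X ≤ Q, X ≠ Q → A ≤ normalizer (X : Set G) → R ≤ normalizer (X : Set G) →
        A ≤ centralizer (X : Set G))
    (hfaith : ∀ g ∈ Q, (∀ v : V, g • v = v) → g = 1)
    (hZ : IsZGroup ↥(Q ⊓ centralizer (R : Set G)))
    (hcyc : Cyc (fix R : AddSubgroup V)) : False := by
  obtain ⟨hcl, hab, c, hc, hcZ⟩ := exists_c hr hAQ hRQ hRA hQs hQA' hQr hR hfpf hQnc hQA hQmin hZ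
  obtain ⟨M, hMQ, hM1, hRM, hQM, hfM, hcM, hgen⟩ := Cfsg.Agent.Lib.Helper36BG36M.exists_M hr hRQ hQr hR hcl hab hc hcZ
  have hcR : ∀ x ∈ R, c * x = x * c := by
    intro x hx
    exact ((mem_centralizer_iff.mp hc.2) x hx).symm
  have h1 := acts_trivially (V := V) hRM hfM
    (Nat.Coprime.coprime_dvd_left (Subgroup.card_dvd_of_le hMQ) hcop) hcyc hcM hcR hQM hgen
  apply hM1
  rw [Subgroup.eq_bot_iff_forall]
  intro m hm
  exact hfaith m (hMQ hm) (h1 m hm)

/-- the abstract key lemma. -/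
theorem key_abs [Finite V]
    {p r : ℕ} (hp : p.Prime) (hr : r.Prime) (hp2 : p ≠ 2) (hr2 : r ≠ 2)
    (hVp : ∀ v : V, p • v = 0) (L A R : Subgroup G)
    (hAL : A ≤ normalizer (L : Set G)) (hRL : R ≤ normalizer (L : Set G))
    (hRA : R ≤ normalizer (A : Set G))
    (hLs : Group.IsSolvable L) (hLp : (Nat.card L).Coprime p) (hLr : (Nat.card L).Coprime r)
    (hA : IsPGroup p A) (hA1 : A ≠ ⊥) (hR : Nat.card R = r)
    (hCA : A ⊓ centralizer (R : Set G) = ⊥) (hCAL : A ⊓ centralizer (L : Set G) = ⊥)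
    (hfaith : ∀ g ∈ L, (∀ v : V, g • v = v) → g = 1)
    (hZ : IsZGroup ↥(L ⊓ centralizer (R : Set G)))
    (hcyc : Cyc (fix R : AddSubgroup V)) : False := by
  have : Fact p.Prime := ⟨hp⟩
  obtain ⟨A₁, Q, hA₁A, hA₁1, hRA₁, hAmin, hQL, hAQ, hRQ, hQA, hQ1, hQmin⟩ :=
    Cfsg.Agent.Lib.Helper87BG36red.exists_min_pair (p := p) L A R hAL hRL hRA hLs hLp hA hA1 hCAL
  have hfpf : ∀ x ∈ R, x ≠ 1 → ∀ a ∈ A₁, x * a = a * x → a = 1 :=
    fun x hx hx1 a ha h => fpf_of_prime hr hR hCA x hx hx1 a (hA₁A ha) h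
  have hA₁p : IsPGroup p A₁ := hA.to_le hA₁A
  have hVcard : ∃ n, Nat.card V = p ^ n := by
    have h1 : IsPGroup p (Multiplicative V) := by
      intro g
      refine ⟨1, ?_⟩
      rw [pow_one]
      exact congrArg Multiplicative.ofAdd (hVp (Multiplicative.toAdd g))
    obtain ⟨n, hn⟩ := (IsPGroup.iff_card).mp h1
    exact ⟨n, hn⟩
  obtain ⟨n, hn⟩ := hVcard
  have hQp : (Nat.card Q).Coprime p :=
    Nat.Coprime.coprime_dvd_left (Subgroup.card_dvd_of_le hQL) hLp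
  have hQr : (Nat.card Q).Coprime r :=
    Nat.Coprime.coprime_dvd_left (Subgroup.card_dvd_of_le hQL) hLr
  have hcop : (Nat.card Q).Coprime (Nat.card V) := by
    rw [hn]; exact Nat.Coprime.pow_right n hQp
  have hQA' : (Nat.card Q).Coprime (Nat.card A₁) := by
    obtain ⟨k, hk⟩ := (IsPGroup.iff_card).mp hA₁p
    rw [hk]; exact Nat.Coprime.pow_right k hQp
  have hQs : Group.IsSolvable Q :=
    Group.isSolvable_of_isSolvable_injective (f := Subgroup.inclusion hQL) (Subgroup.inclusion_injective hQL)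
  have hZQ : IsZGroup ↥(Q ⊓ centralizer (R : Set G)) :=
    IsZGroup.of_injective (f := Subgroup.inclusion (inf_le_inf_right _ hQL))
      (Subgroup.inclusion_injective _)
  have hfaithQ : ∀ g ∈ Q, (∀ v : V, g • v = v) → g = 1 := fun g hg => hfaith g (hQL hg)
  by_cases hQc : ∀ a ∈ Q, ∀ b ∈ Q, a * b = b * a
  · have hCQA : Q ⊓ centralizer (A₁ : Set G) = ⊥ := by
      have : IsMulCommutative Q := ⟨⟨fun a b => Subtype.ext (hQc a a.2 b b.2)⟩⟩
      have h := (Cfsg.Agent.Lib.Helper2Coprime.abelian_decomposition A₁ Q hAQ hQA'.symm).1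
      rw [hQA] at h
      rwa [inf_eq_left.mpr inf_le_left] at h
    have hQirr : ∀ X ≤ Q, X ≠ Q → A₁ ≤ normalizer (X : Set G) → R ≤ normalizer (X : Set G) →
        X = ⊥ := by
      intro X hXQ hXne hAX hRX
      have h1 := hQmin X hXQ hXne hAX hRX
      rw [eq_bot_iff, ← hCQA]
      exact le_inf hXQ (le_centralizer_iff.mp h1)
    have hW : (nrm Q : V →+ V).ker ≠ ⊥ := by
      intro h0
      apply hQ1
      rw [Subgroup.eq_bot_iff_forall]
      intro g hg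
      exact hfaithQ g hg (smul_eq_of_ker_eq_bot hcop h0 g hg)
    exact abelian_case hp hr hp2 hr2 hVp hAQ hRQ hRA₁ hcop hA₁p hA₁1 hR hfpf hAmin hQc hQA hQirr
      hW hcyc
  · exact nonabelian_case hr hAQ hRQ hRA₁ hcop hQs hQA' hQr hR hfpf hQc hQA hQmin hfaithQ hZQ hcyc

end Cfsg.Agent.Lib.Helper74BG36
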