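import Mathlib
import Cfsg.Prelude.Def_Characters

/-!
PROJECT 74 = BRAUER-SUZUKI-WALL (rows S3282, S0508).  Vocabulary.

`BSW t s K` : the hypotheses of S3282.  `H = C t = K ∪ K s`, `k = |K|` (even), `K` abelian T.I. with normaliser `H`,
`s` inverts `K`, `t` the only involution of `K`, all involutions of `G` conjugate.
`inKK K g` : `g` lies in a conjugate of `K` (this contains `1`, all involutions, all elements commuting with an involution).
`psi g`    : number of pairs of involutions `(u, v)` with `u * v = g` (`v = u * g`).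
`RT K g`   : `g` outside the conjugates of `K`, inverted by an involution.   `NN K g` : outside, not inverted.
`cc K χ φ = ⟨χ|_K, 1⟩ - ⟨χ|_K, φ⟩`.
`CD ...`   : the purely combinatorial data extracted from the character table.
-/

set_option autoImplicit false

namespace Cfsg.Agent.Lib.Helper74BSWDefs

open scoped ComplexConjugate

variable {G : Type*} [Group G]

/-- centraliser of an element -/
abbrev C (g : G) : Subgroup G := Subgroup.centralizer ({g} : Set G)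

/-- conjugate subgroup `x A x⁻¹` -/
abbrev cj (x : G) (A : Subgroup G) : Subgroup G := A.map (MulAut.conj x).toMonoidHom

/-- normaliser -/
abbrev Nm (A : Subgroup G) : Subgroup G := Subgroup.normalizer (A : Set G)

/-- the hypotheses of S3282 -/
structure BSW (t s : G) (K : Subgroup G) : Prop where
  ht : orderOf t = 2
  hab : ∀ a ∈ K, ∀ b ∈ K, a * b = b * a
  hKH : K ≤ C t
  htK : t ∈ K
  hs : orderOf s = 2
  hsH : s ∈ C t
  hsK : s ∉ K
  hH : K ⊔ Subgroup.zpowers s = C t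
  hCK : K ⊓ C s = Subgroup.zpowers t
  hinv : ∀ x ∈ K, s * x * s⁻¹ = x⁻¹
  hTI : ∀ g : G, g ∉ C t → K ⊓ cj g K = ⊥
  hconj : ∀ x y : G, orderOf x = 2 → orderOf y = 2 → IsConj x y

/-- `g` lies in a conjugate of `K` -/
def inKK (K : Subgroup G) (g : G) : Prop := ∃ x : G, x * g * x⁻¹ ∈ K

/-- number of ways of writing `g` as a product of two involutions -/
noncomputable def psi (g : G) : ℕ := Nat.card {u : G // orderOf u = 2 ∧ orderOf (u * g) = 2}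

/-- number of involutions -/
noncomputable def nI (G : Type*) [Group G] : ℕ := Nat.card {u : G // orderOf u = 2}

/-- outside the conjugates of `K`, and inverted by an involution -/
def RT (K : Subgroup G) (g : G) : Prop := ¬ inKK K g ∧ psi g ≠ 0

/-- outside the conjugates of `K`, and not inverted by an involution -/
def NN (K : Subgroup G) (g : G) : Prop := ¬ inKK K g ∧ psi g = 0

/-- `⟨χ|_K, 1⟩ - ⟨χ|_K, φ⟩` -/
noncomputable def cc (K : Subgroup G) [Fintype K] (χ : G → ℂ) (φ : K →* ℂˣ) : ℂ :=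
  (Nat.card K : ℂ)⁻¹ * ∑ x : K, χ x * (1 - conj ((φ x : ℂˣ) : ℂ))

noncomputable instance dualFintype {K : Type*} [Group K] [Finite K] : Fintype (K →* ℂˣ) :=
  Fintype.ofFinite _

/-- the conclusion of S3282 -/
def Concl (G : Type*) [Group G] : Prop :=
  ∃ Q D : Subgroup G, 2 * Nat.card G = Nat.card ↥Q * (Nat.card ↥Q + 1) * (Nat.card ↥Q - 1) ∧
      (∀ x ∈ Q, x ≠ 1 → Subgroup.centralizer ({x} : Set G) = Q) ∧
      IsMulCommutative ↥D ∧ 2 * Nat.card ↥D + 1 = Nat.card ↥Q ∧ Q ⊓ D = ⊥ ∧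
      Subgroup.normalizer (Q : Set G) = Q ⊔ D ∧
      ∀ X : Subgroup G, X ≤ D → X ≠ ⊥ →
        Subgroup.normalizer (X : Set G) = Subgroup.normalizer (D : Set G) ∧
        ∃ u : G, orderOf u = 2 ∧ u ∉ D ∧ (∀ d ∈ D, u * d * u⁻¹ = d⁻¹) ∧
          Subgroup.normalizer (D : Set G) = D ⊔ Subgroup.zpowers u

/-- the two outcomes of the character theory (`k = |K|`) -/
def PlusCase (K : Subgroup G) : Prop :=
  Nat.card G = 2 * Nat.card K * (2 * Nat.card K + 1) * (Nat.card K + 1) ∧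
    ∀ g : G, ¬ inKK K g → ((Nat.card K : ℤ) ∣ (psi g : ℤ) - 1)

def MinusCase (K : Subgroup G) : Prop :=
  Nat.card G = 2 * Nat.card K * (2 * Nat.card K - 1) * (Nat.card K - 1) ∧
    ∀ g : G, ¬ inKK K g → (Nat.card K - 1) ∣ psi g

section comb

variable {X P : Type*} [Fintype X] [Fintype P]

/-- the value at `t` -/
def vv (τ : P → ℤ) (c : X → P → ℤ) (x : X) : ℤ := - ∑ φ, c x φ * τ φ

/-- The combinatorial data.  `X = Irr G`, `x0 = 1_G`, `P` = non-principal linear characters of `K`, `inv φ = φ⁻¹`,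
`τ φ = φ t`, `c χ φ = cc K χ φ`, `d χ = χ 1`, `k = |K|`, `N = |G|`. -/
structure CD [DecidableEq X] [DecidableEq P]
    (x0 : X) (inv : P → P) (τ : P → ℤ) (c : X → P → ℤ) (d : X → ℤ) (k N : ℕ) : Prop where
  hk2 : 2 ≤ k
  hke : Even k
  cardP : Fintype.card P = k - 1
  inv_inv : ∀ φ, inv (inv φ) = φ
  eps : ∃! ε, inv ε = ε
  τ_sq : ∀ φ, τ φ = 1 ∨ τ φ = -1
  τ_inv : ∀ φ, τ (inv φ) = τ φ
  τ_sum : ∑ φ, τ φ = -1
  τ_mix : 6 ≤ k → ∃ φ φ', inv φ ≠ φ ∧ inv φ' ≠ φ' ∧ τ φ ≠ τ φ'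
  c_inv : ∀ x φ, c x (inv φ) = c x φ
  gram : ∀ φ φ', ∑ x, c x φ * c x φ' = 2 + (if φ = φ' then 1 else 0) + (if φ = inv φ' then 1 else 0)
  c0 : ∀ φ, c x0 φ = 1
  dpos : ∀ x, 0 < d x
  d0 : d x0 = 1
  dsum : ∀ φ, ∑ x, c x φ * d x = 0
  dmod : ∀ x, ∃ m : ℤ, d x = k * m - ∑ φ, c x φ
  ord : ∀ φ, (∑ x, (c x φ : ℚ) * (vv τ c x : ℚ) ^ 2 / (d x : ℚ)) * N = 4 * (k : ℚ) ^ 3
  hN : ∃ I : ℕ, Odd I ∧ N = 2 * k * I
  sq : ∑ x, d x ^ 2 = N

/-- the shape of the matrix `c` (the standard configuration) -/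
structure ShapeA [DecidableEq X] [DecidableEq P] (x0 : X) (inv : P → P) (c : X → P → ℤ)
    (ε : P) (x1 x2 x3 : X) (e1 e2 e3 : ℤ) (z : P → X) (b : P → ℤ) : Prop where
  he1 : e1 = 1 ∨ e1 = -1
  he2 : e2 = 1 ∨ e2 = -1
  he3 : e3 = 1 ∨ e3 = -1
  hb : ∀ φ, b φ = 1 ∨ b φ = -1
  n01 : x0 ≠ x1
  n02 : x0 ≠ x2
  n03 : x0 ≠ x3
  n12 : x1 ≠ x2
  n13 : x1 ≠ x3
  n23 : x2 ≠ x3
  z_ne : ∀ φ, φ ≠ ε → z φ ≠ x0 ∧ z φ ≠ x1 ∧ z φ ≠ x2 ∧ z φ ≠ x3
  z_eq : ∀ φ φ', φ ≠ ε → φ' ≠ ε → (z φ = z φ' ↔ φ' = φ ∨ φ' = inv φ)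
  c_eps : ∀ x, c x ε = (if x = x0 then 1 else 0) + (if x = x1 then e1 else 0)
    + (if x = x2 then e2 else 0) + (if x = x3 then e3 else 0)
  c_ne : ∀ φ, φ ≠ ε → ∀ x, c x φ = (if x = x0 then 1 else 0) + (if x = x1 then e1 else 0)
    + (if x = z φ then b φ else 0)

/-- the output of the combinatorial analysis -/
def CombOut (x0 : X) (τ : P → ℤ) (c : X → P → ℤ) (d : X → ℤ) (k N : ℕ) : Prop :=
  ∃ σ : ℤ, (σ = 1 ∨ σ = -1) ∧ (N : ℤ) = 2 * k * (2 * k + σ) * (k + σ) ∧ ∃ x1 : X,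
    ∀ f : X → ℂ, f x0 = 1 → (∀ φ, ∑ x, (c x φ : ℂ) * f x = 0) →
      ∑ x, (vv τ c x : ℂ) ^ 2 * f x / (d x : ℂ)
        = 1 + f x1 / (2 * k + σ) + (k - 1) * σ * (1 + σ * f x1) / (k + σ)

end comb

end Cfsg.Agent.Lib.Helper74BSWDefs
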