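import Cfsg.Agent.Lib.Helper40Sylow
import Cfsg.Prelude.Def_HallClasses

set_option autoImplicit false
set_option linter.unusedSectionVars false

namespace Cfsg.Agent.Lib.Helper74Pronormal

open Subgroup Cfsg.Agent.Lib.Helper40Sylow

variable {G : Type*} [Group G]

/-- the pronormality condition for `H` at the element `g` -/
def PAt (H : Subgroup G) (g : G) : Prop := ∃ x ∈ H ⊔ cj g H, cj g H = cj x H

/-- relative pronormality: `H` is pronormal with respect to conjugation by elements of `X` -/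
def Prn (X H : Subgroup G) : Prop := ∀ g ∈ X, PAt H g

theorem isPronormal_iff (H : Subgroup G) : Cfsg.IsPronormal H ↔ ∀ g, PAt H g := Iff.rfl

theorem isPronormal_iff_prn_top (H : Subgroup G) : Cfsg.IsPronormal H ↔ Prn ⊤ H :=
  ⟨fun h g _ => h g, fun h g => h g (mem_top g)⟩

theorem Prn.mono {X Y H : Subgroup G} (hXY : X ≤ Y) (h : Prn Y H) : Prn X H :=
  fun g hg => h g (hXY hg)

theorem cj_sup (g : G) (H K : Subgroup G) : cj g (H ⊔ K) = cj g H ⊔ cj g K :=
  Subgroup.map_sup _ _ _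

theorem map_cj {Q : Type*} [Group Q] (f : G →* Q) (g : G) (H : Subgroup G) :
    (cj g H).map f = cj (f g) (H.map f) := by
  ext y
  constructor
  · rintro ⟨_, ⟨x, hx, rfl⟩, rfl⟩
    exact ⟨f x, ⟨x, hx, rfl⟩, by simp⟩
  · rintro ⟨_, ⟨x, hx, rfl⟩, rfl⟩
    exact ⟨_, ⟨x, hx, rfl⟩, by simp⟩

theorem cj_comap {Q : Type*} [Group Q] (f : G →* Q) (g : G) (K : Subgroup Q) :
    cj g (K.comap f) = (cj (f g) K).comap f := by
  ext y
  rw [mem_cj, mem_comap, mem_comap, mem_cj]
  simp

/-- reduction: left multiplication by an element of the join -/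
theorem PAt.of_mul {H : Subgroup G} {y g : G} (hy : y ∈ H ⊔ cj (y * g) H) (h : PAt H g) :
    PAt H (y * g) := by
  obtain ⟨z, hz, hze⟩ := h
  have h1 : cj g H ≤ H ⊔ cj (y * g) H := by
    have h2 : cj g H = cj y⁻¹ (cj (y * g) H) := by rw [← cj_mul, inv_mul_cancel_left]
    rw [h2]
    calc cj y⁻¹ (cj (y * g) H) ≤ cj y⁻¹ (H ⊔ cj (y * g) H) := cj_mono le_sup_right
      _ = H ⊔ cj (y * g) H := cj_eq_self_of_mem (inv_mem hy)
  refine ⟨y * z, mul_mem hy ((sup_le le_sup_left h1) hz), ?_⟩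
  rw [cj_mul, cj_mul, hze]

theorem PAt.of_mul' {H : Subgroup G} {y g g' : G} (hg : g' = y * g) (hy : y ∈ H ⊔ cj g' H)
    (h : PAt H g) : PAt H g' := by
  subst hg
  exact h.of_mul hy

theorem PAt.mul_right {H : Subgroup G} {g n : G} (hn : cj n H = H) (h : PAt H g) :
    PAt H (g * n) := by
  unfold PAt at h ⊢
  rw [cj_mul, hn]
  exact h

theorem PAt.of_cj {H : Subgroup G} {u a : G} (h : PAt (cj u H) (u * a * u⁻¹)) : PAt H a := by
  obtain ⟨z, hz, hze⟩ := h
  have e1 : cj (u * a * u⁻¹) (cj u H) = cj u (cj a H) := by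
    rw [← cj_mul, ← cj_mul, inv_mul_cancel_right]
  rw [e1] at hz hze
  rw [← cj_sup, mem_cj] at hz
  refine ⟨_, hz, ?_⟩
  apply cj_injective u
  rw [hze, ← cj_mul, ← cj_mul]
  congr 1
  group

theorem isPronormal_map {Q : Type*} [Group Q] (f : G →* Q) (hf : Function.Surjective f)
    {H : Subgroup G} (h : Cfsg.IsPronormal H) : Cfsg.IsPronormal (H.map f) := by
  intro q
  obtain ⟨g, rfl⟩ := hf q
  obtain ⟨x, hx, hxe⟩ := h g
  refine ⟨f x, ?_, ?_⟩
  · show f x ∈ H.map f ⊔ cj (f g) (H.map f)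
    rw [← map_cj, ← Subgroup.map_sup]
    exact mem_map_of_mem f hx
  · show cj (f g) (H.map f) = cj (f x) (H.map f)
    rw [← map_cj, ← map_cj]
    exact congrArg (Subgroup.map f) hxe

theorem isPronormal_comap {Q : Type*} [Group Q] (f : G →* Q) (hf : Function.Surjective f)
    {K : Subgroup Q} (h : Cfsg.IsPronormal K) : Cfsg.IsPronormal (K.comap f) := by
  intro g
  obtain ⟨x, hx, hxe⟩ := h (f g)
  have h1 : (K.comap f ⊔ cj g (K.comap f)).map f = K ⊔ cj (f g) K := by
    rw [Subgroup.map_sup, map_cj, Subgroup.map_comap_eq_self_of_surjective hf]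
  have hx' : x ∈ (K.comap f ⊔ cj g (K.comap f)).map f := by rw [h1]; exact hx
  obtain ⟨x', hx', rfl⟩ := hx'
  refine ⟨x', hx', ?_⟩
  show cj g (K.comap f) = cj x' (K.comap f)
  rw [cj_comap, cj_comap]
  exact congrArg (Subgroup.comap f) hxe

theorem isPronormal_iff_prn_map (X : Subgroup G) (K : Subgroup X) :
    Cfsg.IsPronormal K ↔ Prn X (K.map X.subtype) := by
  constructor
  · intro h g hg
    obtain ⟨x, hx, hxe⟩ := h ⟨g, hg⟩
    refine ⟨x, ?_, ?_⟩
    · have := mem_map_of_mem X.subtype hx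
      rw [Subgroup.map_sup] at this
      erw [map_cj] at this
      exact this
    · have := congrArg (Subgroup.map X.subtype) hxe
      erw [map_cj, map_cj] at this
      exact this
  · intro h g
    obtain ⟨x, hx, hxe⟩ := h g g.2
    have e : ∀ y : X, cj (y : G) (K.map X.subtype) = (cj y K).map X.subtype := by
      intro y
      rw [map_cj]; rfl
    rw [e, ← Subgroup.map_sup] at hx
    obtain ⟨x', hx', rfl⟩ := hx
    refine ⟨x', hx', ?_⟩
    apply Subgroup.map_injective X.subtype_injective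
    show (cj g K).map X.subtype = (cj x' K).map X.subtype
    rw [← e, ← e]
    exact hxe

section Core

variable [Finite G] {p : ℕ} [Fact p.Prime]

theorem cj_normal (A : Subgroup G) [hA : A.Normal] (g : G) : cj g A = A :=
  mem_normalizer_iff_cj.1 (by rw [normalizer_eq_top_iff.2 hA]; exact mem_top g)

/-- ambient form of "overgroups of Sylow subgroups of `X` are pronormal in `X`" -/
def WIn (p : ℕ) (X : Subgroup G) : Prop :=
  ∀ H : Subgroup G, H ≤ X → (∃ S, IsSylowIn p S X ∧ S ≤ H) → Prn X H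

/-- ambient form of the same property for `N_G(T)/T` -/
def WQ (p : ℕ) (T : Subgroup G) : Prop :=
  ∀ M : Subgroup G, T ≤ M → M ≤ normalizer (T : Set G) →
    (∃ S, IsSylowIn p S (normalizer (T : Set G)) ∧ S ≤ M) → Prn (normalizer (T : Set G)) M

theorem core_aux (A : Subgroup G) [A.Normal] (T : Subgroup G) (hT : IsSylowIn p T A)
    (hWA : WIn p A) (hN : WQ p T) (H S : Subgroup G) (hS : IsSylowIn p S ⊤) (hSH : S ≤ H)
    (hSA : S ⊓ A = T) (a : G) (ha : a ∈ A) : PAt H a := by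
  have hTB : T ≤ H ⊓ A := by rw [← hSA]; exact inf_le_inf_right A hSH
  have hTsB : IsSylowIn p T (H ⊓ A) := hT.of_le hTB inf_le_right
  have hHB : ∀ h ∈ H, cj h (H ⊓ A) = H ⊓ A := by
    intro h hh
    rw [cj_inf, cj_eq_self_of_mem hh, cj_normal]
  -- step 1
  obtain ⟨x, hx, hxe⟩ := hWA (H ⊓ A) inf_le_right ⟨T, hT, hTB⟩ a ha
  have hxA : x ∈ A := by
    have : H ⊓ A ⊔ cj a (H ⊓ A) ≤ A := by
      apply sup_le inf_le_right
      calc cj a (H ⊓ A) ≤ cj a A := cj_mono inf_le_right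
        _ = A := cj_normal A a
    exact this hx
  have hxJ : x ∈ H ⊔ cj a H := (sup_le_sup inf_le_left (cj_mono inf_le_left)) hx
  refine PAt.of_mul' (y := x) (g := x⁻¹ * a) (by group) hxJ ?_
  have hc1A : x⁻¹ * a ∈ A := mul_mem (inv_mem hxA) ha
  have hc1B : cj (x⁻¹ * a) (H ⊓ A) = H ⊓ A := by rw [cj_mul, hxe, cj_inv_cj]
  generalize x⁻¹ * a = c1 at hc1A hc1B
  -- step 2
  have h2 : IsSylowIn p (cj c1 T) (H ⊓ A) := by
    have := hTsB.cj c1
    rwa [hc1B] at this
  obtain ⟨b, hb, hbe⟩ := hTsB.exists_conj_eq h2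
  refine PAt.of_mul' (y := b⁻¹) (g := b * c1) (by group) (mem_sup_left (inv_mem hb.1)) ?_
  have hc2A : b * c1 ∈ A := mul_mem hb.2 hc1A
  have hc2B : cj (b * c1) (H ⊓ A) = H ⊓ A := by rw [cj_mul, hc1B, cj_eq_self_of_mem hb]
  have hc2T : cj (b * c1) T = T := by rw [cj_mul, hbe]
  generalize b * c1 = c at hc2A hc2B hc2T
  -- step 3 : Frattini
  have hfr : H = (H ⊓ A) ⊔ (H ⊓ normalizer (T : Set G)) := by
    apply le_antisymm
    · intro h hh
      have h3 : IsSylowIn p (cj h T) (H ⊓ A) := by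
        have := hTsB.cj h
        rwa [hHB h hh] at this
      obtain ⟨b', hb', hbe'⟩ := hTsB.exists_conj_eq h3
      have h4 : b' * h ∈ H ⊓ normalizer (T : Set G) :=
        ⟨mul_mem hb'.1 hh, mem_normalizer_iff_cj.2 (by rw [cj_mul, hbe'])⟩
      have h5 : h = b'⁻¹ * (b' * h) := by group
      rw [h5]
      exact mul_mem (mem_sup_left (inv_mem hb')) (mem_sup_right h4)
    · exact sup_le inf_le_left inf_le_left
  have hSN : S ≤ normalizer (T : Set G) := by
    intro s hs
    rw [mem_normalizer_iff_cj, ← hSA, cj_inf, cj_eq_self_of_mem hs, cj_normal]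
  have hM := hN (H ⊓ normalizer (T : Set G)) (le_inf (hTB.trans inf_le_left) le_normalizer)
    inf_le_right ⟨S, hS.of_le hSN le_top, le_inf hSH hSN⟩
  obtain ⟨y, hy, hye⟩ := hM c (mem_normalizer_iff_cj.2 hc2T)
  have hyJ : y ∈ H ⊔ cj c H := (sup_le_sup inf_le_left (cj_mono inf_le_left)) hy
  have hHnB : H ≤ normalizer ((H ⊓ A : Subgroup G) : Set G) :=
    fun h hh => mem_normalizer_iff_cj.2 (hHB h hh)
  have hyB : y ∈ normalizer ((H ⊓ A : Subgroup G) : Set G) := by
    have : H ⊔ cj c H ≤ normalizer ((H ⊓ A : Subgroup G) : Set G) := by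
      apply sup_le hHnB
      calc cj c H ≤ cj c (normalizer ((H ⊓ A : Subgroup G) : Set G)) := cj_mono hHnB
        _ = normalizer ((cj c (H ⊓ A) : Subgroup G) : Set G) := (normalizer_cj c _).symm
        _ = normalizer ((H ⊓ A : Subgroup G) : Set G) := by rw [hc2B]
    exact this hyJ
  refine ⟨y, hyJ, ?_⟩
  calc cj c H = cj c ((H ⊓ A) ⊔ (H ⊓ normalizer (T : Set G))) := by rw [← hfr]
    _ = cj y ((H ⊓ A) ⊔ (H ⊓ normalizer (T : Set G))) := by
        rw [cj_sup, cj_sup, hc2B, hye, mem_normalizer_iff_cj.1 hyB]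
    _ = cj y H := by rw [← hfr]

theorem core (A : Subgroup G) [A.Normal] (T : Subgroup G) (hT : IsSylowIn p T A)
    (hWA : WIn p A) (hN : WQ p T) (H S : Subgroup G) (hS : IsSylowIn p S ⊤) (hSH : S ≤ H)
    (a : G) (ha : a ∈ A) : PAt H a := by
  have h1 : IsSylowIn p (S ⊓ A) A :=
    hS.inf_normal le_top (by rw [normalizer_eq_top_iff.2 inferInstance])
  obtain ⟨u, hu, hue⟩ := hT.exists_conj_eq h1
  apply PAt.of_cj (u := u)
  have h2 : IsSylowIn p (cj u S) ⊤ := by
    have := hS.cj u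
    rwa [cj_normal ⊤] at this
  refine core_aux A T hT hWA hN (cj u H) (cj u S) h2 (cj_mono hSH) ?_ _ ?_
  · rw [← hue, cj_inf, cj_normal A]
  · exact mul_mem (mul_mem hu ha) (inv_mem hu)

/-- the property "overgroups of Sylow `p`-subgroups are pronormal" -/
def WAll (p : ℕ) (G : Type*) [Group G] : Prop :=
  ∀ K : Subgroup G, (∃ P : Sylow p G, (P : Subgroup G) ≤ K) → Cfsg.IsPronormal K

theorem exists_sylow_of_isSylowIn_top {S : Subgroup G} (hS : IsSylowIn p S ⊤) :
    ∃ P : Sylow p G, (P : Subgroup G) = S :=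
  ⟨IsPGroup.toSylow hS.2.1 (by have := hS.2.2; rwa [relIndex_top_right] at this), rfl⟩

theorem wAll_iff : WAll p G ↔ ∀ H S : Subgroup G, IsSylowIn p S ⊤ → S ≤ H → ∀ g, PAt H g := by
  constructor
  · intro h H S hS hSH
    obtain ⟨P, rfl⟩ := exists_sylow_of_isSylowIn_top hS
    exact h H ⟨P, hSH⟩
  · rintro h K ⟨P, hP⟩
    exact h K P (isSylowIn_top P) hP

theorem wIn_of_wAll (A : Subgroup G) (hA : WAll p A) : WIn p A := by
  rintro H hHA ⟨S, hS, hSH⟩
  have h1 := hA (H.subgroupOf A) ⟨hS.toSylow, by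
    rw [IsSylowIn.coe_toSylow]; exact comap_mono hSH⟩
  rw [isPronormal_iff_prn_map, subgroupOf_map_subtype, inf_of_le_left hHA] at h1
  exact h1

theorem wQ_of_wAll_quot (T : Subgroup G) [(T.subgroupOf (normalizer (T : Set G))).Normal]
    (h : WAll p (↥(normalizer (T : Set G)) ⧸ T.subgroupOf (normalizer (T : Set G)))) :
    WQ p T := by
  rintro M hTM hMN ⟨S, hS, hSM⟩
  have hsurj := QuotientGroup.mk'_surjective (T.subgroupOf (normalizer (T : Set G)))
  have h1 := h ((M.subgroupOf (normalizer (T : Set G))).map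
    (QuotientGroup.mk' (T.subgroupOf (normalizer (T : Set G)))))
    ⟨hS.toSylow.mapSurjective hsurj, by
      rw [Sylow.coe_mapSurjective, IsSylowIn.coe_toSylow]
      exact map_mono (comap_mono hSM)⟩
  have h2 := isPronormal_comap _ hsurj h1
  have h3 : T.subgroupOf (normalizer (T : Set G)) ≤ M.subgroupOf (normalizer (T : Set G)) :=
    comap_mono hTM
  rw [comap_map_eq, QuotientGroup.ker_mk', sup_of_le_left h3,
    isPronormal_iff_prn_map, subgroupOf_map_subtype, inf_of_le_left hMN] at h2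
  exact h2

theorem wAll_quot_of_wQ (T : Subgroup G) [(T.subgroupOf (normalizer (T : Set G))).Normal]
    (hTp : IsPGroup p T) (h : WQ p T) :
    WAll p (↥(normalizer (T : Set G)) ⧸ T.subgroupOf (normalizer (T : Set G))) := by
  rintro K ⟨P, hPK⟩
  have hsurj := QuotientGroup.mk'_surjective (T.subgroupOf (normalizer (T : Set G)))
  have hker : IsPGroup p (QuotientGroup.mk' (T.subgroupOf (normalizer (T : Set G)))).ker := by
    rw [QuotientGroup.ker_mk']
    exact hTp.comap_subtype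
  have hT1 : T.subgroupOf (normalizer (T : Set G)) ≤
      K.comap (QuotientGroup.mk' (T.subgroupOf (normalizer (T : Set G)))) := by
    conv_lhs => rw [← QuotientGroup.ker_mk' (T.subgroupOf (normalizer (T : Set G)))]
    exact ker_le_comap _ _
  have h1 := h ((K.comap (QuotientGroup.mk' (T.subgroupOf (normalizer (T : Set G))))).map
    (normalizer (T : Set G)).subtype) (by
      have := map_mono (f := (normalizer (T : Set G)).subtype) hT1
      rwa [subgroupOf_map_subtype, inf_of_le_left le_normalizer] at this)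
    (map_subtype_le _)
    ⟨_, isSylowIn_of_sylow (P.comapOfKerIsPGroup _ hker
      (by rw [MonoidHom.range_eq_top.2 hsurj]; exact le_top)), by
      rw [Sylow.coe_comapOfKerIsPGroup]
      exact map_mono (comap_mono hPK)⟩
  rw [← isPronormal_iff_prn_map] at h1
  have h2 := isPronormal_map _ hsurj h1
  rwa [map_comap_eq_self_of_surjective hsurj] at h2

/-- a Sylow subgroup of `G` meeting the normal subgroup `A` in the given Sylow subgroup `T` -/
theorem exists_sylow_inf_eq (A : Subgroup G) [A.Normal] (T : Subgroup G)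
    (hT : IsSylowIn p T A) :
    ∃ S, IsSylowIn p S ⊤ ∧ S ⊓ A = T ∧ S ≤ normalizer (T : Set G) := by
  obtain ⟨S, hS, hTS⟩ := exists_isSylowIn_ge (H := ⊤) hT.2.1 le_top
  have hSA : S ⊓ A = T :=
    (hT.eq_of_le (hS.2.1.to_le inf_le_left) inf_le_right (le_inf hTS hT.1)).symm
  refine ⟨S, hS, hSA, ?_⟩
  intro s hs
  rw [mem_normalizer_iff_cj, ← hSA, cj_inf, cj_eq_self_of_mem hs, cj_normal]

theorem wQ_of_wAll (A : Subgroup G) [A.Normal] (T : Subgroup G) (hT : IsSylowIn p T A)
    (h : WAll p G) : WQ p T := by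
  rintro M hTM hMN ⟨S1, hS1, hS1M⟩
  obtain ⟨S, hS, -, hSN⟩ := exists_sylow_inf_eq A T hT
  obtain ⟨x, -, hx⟩ := hS1.exists_conj_eq (hS.of_le hSN le_top)
  have h1 : IsSylowIn p S1 ⊤ := by
    have := hS.cj x
    rwa [hx, cj_normal ⊤] at this
  intro g _
  exact wAll_iff.1 h M S1 h1 hS1M g

end Core

end Cfsg.Agent.Lib.Helper74Pronormal
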