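import Mathlib
import Cfsg.Prelude.Def_PLocal

set_option autoImplicit false

namespace Cfsg.Agent.Lib.Helper74Regular

open Subgroup
open scoped commutatorElement

theorem powerClosure_map {G G' : Type*} [Group G] [Group G'] (p n : ℕ) (f : G →* G')
    (D : Subgroup G) :
    Cfsg.powerClosure p n (D.map f) = (Cfsg.powerClosure p n D).map f := by
  unfold Cfsg.powerClosure
  rw [MonoidHom.map_closure]
  congr 1
  ext y
  constructor
  · rintro ⟨_, ⟨x, hx, rfl⟩, rfl⟩
    exact ⟨x ^ p ^ n, ⟨x, hx, rfl⟩, map_pow f x _⟩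
  · rintro ⟨_, ⟨x, hx, rfl⟩, rfl⟩
    exact ⟨f x, ⟨x, hx, rfl⟩, map_pow f x _⟩

theorem regular_subgroup {G : Type*} [Group G] {p : ℕ} (hG : Cfsg.IsRegularPGroup p G)
    (L : Subgroup G) : Cfsg.IsRegularPGroup p L := by
  refine ⟨hG.1.to_subgroup L, ?_⟩
  intro a b n
  obtain ⟨c, hc, heq⟩ := hG.2 a b n
  have h1 : closure ({(a : G), (b : G)} : Set G) = (closure ({a, b} : Set L)).map L.subtype := by
    rw [MonoidHom.map_closure, Set.image_pair]
    rfl
  rw [h1, ← Subgroup.map_commutator, powerClosure_map] at hc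
  obtain ⟨c', hc', rfl⟩ := hc
  refine ⟨c', hc', ?_⟩
  apply Subtype.ext
  simpa using heq

theorem commutator_closure_pair_le {G : Type*} [Group G] (W : Subgroup G) [W.Normal] (a b : G)
    (hab : Commute (a : G ⧸ W) (b : G ⧸ W)) :
    ⁅closure ({a, b} : Set G), closure ({a, b} : Set G)⁆ ≤ W := by
  have hc : IsMulCommutative (closure ({(a : G ⧸ W), (b : G ⧸ W)} : Set (G ⧸ W))) := by
    apply Subgroup.isMulCommutative_closure
    rintro x (rfl | rfl) y (rfl | rfl)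
    · rfl
    · exact hab
    · exact hab.symm
    · rfl
  have hmap : ∀ g ∈ closure ({a, b} : Set G),
      (g : G ⧸ W) ∈ closure ({(a : G ⧸ W), (b : G ⧸ W)} : Set (G ⧸ W)) := by
    intro g hg
    have h1 : (closure ({a, b} : Set G)).map (QuotientGroup.mk' W) =
        closure ({(a : G ⧸ W), (b : G ⧸ W)} : Set (G ⧸ W)) := by
      rw [MonoidHom.map_closure, Set.image_pair]
      rfl
    rw [← h1]
    exact ⟨g, hg, rfl⟩
  rw [Subgroup.commutator_le]
  intro g₁ h₁ g₂ h₂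
  rw [← QuotientGroup.eq_one_iff]
  have h3 : (⟨(g₁ : G ⧸ W), hmap g₁ h₁⟩ : closure ({(a : G ⧸ W), (b : G ⧸ W)} : Set (G ⧸ W))) *
      ⟨(g₂ : G ⧸ W), hmap g₂ h₂⟩ = ⟨(g₂ : G ⧸ W), hmap g₂ h₂⟩ * ⟨(g₁ : G ⧸ W), hmap g₁ h₁⟩ :=
    mul_comm' _ _
  have h4 : (g₁ : G ⧸ W) * (g₂ : G ⧸ W) = (g₂ : G ⧸ W) * (g₁ : G ⧸ W) := congrArg Subtype.val h3
  have h5 : ((⁅g₁, g₂⁆ : G) : G ⧸ W) = ⁅(g₁ : G ⧸ W), (g₂ : G ⧸ W)⁆ :=
    map_commutatorElement (QuotientGroup.mk' W) g₁ g₂
  rw [h5, commutatorElement_eq_one_iff_mul_comm]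
  exact h4

theorem eq_one_of_mem_powerClosure {G : Type*} [Group G] {p n : ℕ} {D : Subgroup G}
    (hD : ∀ z ∈ D, z ^ p ^ n = 1) {c : G} (hc : c ∈ Cfsg.powerClosure p n D) : c = 1 := by
  have : Cfsg.powerClosure p n D ≤ ⊥ := by
    unfold Cfsg.powerClosure
    rw [Subgroup.closure_le]
    rintro y ⟨x, hx, rfl⟩
    exact hD x hx
  exact Subgroup.mem_bot.mp (this hc)

/-- a proper normal subgroup containing `x` in a noncyclic nilpotent group -/
theorem exists_normal_coatom {G : Type*} [Group G] [Finite G] {p : ℕ} [Fact p.Prime]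
    (hG : IsPGroup p G) (x : G) (hx : zpowers x ≠ ⊤) :
    ∃ M : Subgroup G, M.Normal ∧ M ≠ ⊤ ∧ x ∈ M := by
  rcases eq_top_or_exists_le_coatom (zpowers x) with h | ⟨M, hM, hle⟩
  · exact absurd h hx
  · have := hG.isNilpotent
    exact ⟨M, Group.normalizerCondition_of_isNilpotent.normal_of_coatom M hM, hM.1,
      hle (mem_zpowers x)⟩

theorem card_lt_of_ne_top {G : Type*} [Group G] [Finite G] {M : Subgroup G} (hM : M ≠ ⊤) :
    Nat.card M < Nat.card G := by
  rcases lt_or_eq_of_le (Subgroup.card_le_card_group M) with h | h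
  · exact h
  · exact absurd (Subgroup.eq_top_of_card_eq M h) hM

theorem comm_of_zpowers_eq_top {G : Type*} [Group G] {x : G} (hx : zpowers x = ⊤) (a b : G) :
    Commute a b := by
  have ha : a ∈ zpowers x := hx ▸ mem_top a
  have hb : b ∈ zpowers x := hx ▸ mem_top b
  obtain ⟨i, rfl⟩ := mem_zpowers_iff.mp ha
  obtain ⟨j, rfl⟩ := mem_zpowers_iff.mp hb
  exact zpow_mul_comm x i j

theorem omega_mul.{u} {p : ℕ} [Fact p.Prime] (k : ℕ) : ∀ (n : ℕ) (G : Type u) [Group G] [Finite G],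
    Nat.card G = n → Cfsg.IsRegularPGroup p G →
    ∀ x y : G, x ^ p ^ k = 1 → y ^ p ^ k = 1 → (x * y) ^ p ^ k = 1 := by
  intro n
  induction n using Nat.strong_induction_on with
  | _ n ih =>
    intro G _ _ hn hG x y hx hy
    by_cases hK : closure ({x, y} : Set G) = ⊤
    swap
    · have hxK : x ∈ closure ({x, y} : Set G) := subset_closure (by simp)
      have hyK : y ∈ closure ({x, y} : Set G) := subset_closure (by simp)
      have := ih _ (hn ▸ card_lt_of_ne_top hK) (closure ({x, y} : Set G)) rfl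
        (regular_subgroup hG _) ⟨x, hxK⟩ ⟨y, hyK⟩ (Subtype.ext hx) (Subtype.ext hy)
      exact congrArg Subtype.val this
    by_cases hcyc : zpowers x = ⊤
    · rw [(comm_of_zpowers_eq_top hcyc x y).mul_pow, hx, hy, one_mul]
    obtain ⟨M, hMn, hMtop, hxM⟩ := exists_normal_coatom hG.1 x hcyc
    have hnt : Nontrivial G := by
      by_contra h
      have : Subsingleton G := not_nontrivial_iff_subsingleton.mp h
      exact hcyc (Subsingleton.elim _ _)
    have hnil := hG.1.isNilpotent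
    have hcomm_lt : commutator G ≠ ⊤ := (Group.IsSolvable.commutator_lt_top_of_nontrivial G).ne
    -- the omega subgroup of the commutator subgroup
    have hIH := ih _ (hn ▸ card_lt_of_ne_top hcomm_lt) (commutator G) rfl
      (regular_subgroup hG _)
    let W : Subgroup G :=
      { carrier := {z | z ∈ commutator G ∧ z ^ p ^ k = 1}
        mul_mem' := by
          rintro a b ⟨ha, ha'⟩ ⟨hb, hb'⟩
          refine ⟨mul_mem ha hb, ?_⟩
          exact congrArg Subtype.val (hIH ⟨a, ha⟩ ⟨b, hb⟩ (Subtype.ext ha') (Subtype.ext hb'))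
        one_mem' := ⟨one_mem _, one_pow _⟩
        inv_mem' := by
          rintro a ⟨ha, ha'⟩
          exact ⟨inv_mem ha, by rw [inv_pow, ha', inv_one]⟩ }
    have hWn : W.Normal := by
      constructor
      rintro a ⟨ha, ha'⟩ g
      refine ⟨(inferInstance : (commutator G).Normal).conj_mem a ha g, ?_⟩
      rw [conj_pow, ha']; group
    have hxyW : ⁅x, y⁆ ∈ W := by
      refine ⟨Subgroup.commutator_mem_commutator (mem_top x) (mem_top y), ?_⟩
      have h1 : y * x⁻¹ * y⁻¹ ∈ M := hMn.conj_mem _ (inv_mem hxM) y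
      have h2 : (y * x⁻¹ * y⁻¹) ^ p ^ k = 1 := by
        rw [conj_pow, inv_pow, hx]; group
      have := ih _ (hn ▸ card_lt_of_ne_top hMtop) M rfl (regular_subgroup hG _)
        ⟨x, hxM⟩ ⟨_, h1⟩ (Subtype.ext hx) (Subtype.ext h2)
      have h3 : (x * (y * x⁻¹ * y⁻¹)) ^ p ^ k = 1 := congrArg Subtype.val this
      rw [commutatorElement_def]
      rw [← h3]
      congr 1
      group
    have hcommQ : Commute (x : G ⧸ W) (y : G ⧸ W) := by
      have h5 : ((⁅x, y⁆ : G) : G ⧸ W) = ⁅(x : G ⧸ W), (y : G ⧸ W)⁆ :=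
        map_commutatorElement (QuotientGroup.mk' W) x y
      rw [(QuotientGroup.eq_one_iff _).mpr hxyW] at h5
      exact commutatorElement_eq_one_iff_mul_comm.mp h5.symm
    have hle := commutator_closure_pair_le W x y hcommQ
    obtain ⟨c, hc, heq⟩ := hG.2 x y k
    have hc1 : c = 1 := eq_one_of_mem_powerClosure (fun z hz => (hle hz).2) hc
    rw [heq, hx, hy, hc1]; simp

/-- the subgroup of elements of order dividing `p ^ k` in a regular `p`-group -/
def omegaSub {G : Type*} [Group G] [Finite G] {p : ℕ} [Fact p.Prime]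
    (hG : Cfsg.IsRegularPGroup p G) (k : ℕ) : Subgroup G where
  carrier := {z | z ^ p ^ k = 1}
  mul_mem' := fun {a b} ha hb => omega_mul k _ G rfl hG a b ha hb
  one_mem' := one_pow _
  inv_mem' := fun {a} ha => by
    show a⁻¹ ^ p ^ k = 1
    rw [inv_pow, show a ^ p ^ k = 1 from ha, inv_one]

theorem mem_omegaSub {G : Type*} [Group G] [Finite G] {p : ℕ} [Fact p.Prime]
    (hG : Cfsg.IsRegularPGroup p G) (k : ℕ) (z : G) : z ∈ omegaSub hG k ↔ z ^ p ^ k = 1 := Iff.rfl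

instance omegaSub_characteristic {G : Type*} [Group G] [Finite G] {p : ℕ} [Fact p.Prime]
    (hG : Cfsg.IsRegularPGroup p G) (k : ℕ) : (omegaSub hG k).Characteristic := by
  rw [Subgroup.characteristic_iff_le_comap]
  intro ϕ z hz
  rw [Subgroup.mem_comap, mem_omegaSub]
  rw [mem_omegaSub] at hz
  show (ϕ z) ^ p ^ k = 1
  rw [← map_pow, hz, map_one]

theorem pow_eq_of_inv_mul {G : Type*} [Group G] [Finite G] {p : ℕ} [Fact p.Prime]
    (hG : Cfsg.IsRegularPGroup p G) (k : ℕ) (x y : G) (h : (x⁻¹ * y) ^ p ^ k = 1) :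
    x ^ p ^ k = y ^ p ^ k := by
  have hz : ((x⁻¹ * y : G) : G ⧸ omegaSub hG k) = 1 := (QuotientGroup.eq_one_iff _).mpr h
  have hcomm : Commute (x : G ⧸ omegaSub hG k) ((x⁻¹ * y : G) : G ⧸ omegaSub hG k) := by
    rw [hz]; exact Commute.one_right _
  have hle := commutator_closure_pair_le (omegaSub hG k) x (x⁻¹ * y) hcomm
  obtain ⟨c, hc, heq⟩ := hG.2 x (x⁻¹ * y) k
  have hc1 : c = 1 := eq_one_of_mem_powerClosure (fun z hz => hle hz) hc
  rw [h, hc1, mul_one, mul_one, mul_inv_cancel_left] at heq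
  exact heq.symm

theorem inv_mul_pow_of_pow_eq.{u} {p : ℕ} [Fact p.Prime] (k : ℕ) :
    ∀ (n : ℕ) (G : Type u) [Group G] [Finite G],
    Nat.card G = n → Cfsg.IsRegularPGroup p G →
    ∀ x y : G, x ^ p ^ k = y ^ p ^ k → (x⁻¹ * y) ^ p ^ k = 1 := by
  intro n
  induction n using Nat.strong_induction_on with
  | _ n ih =>
    intro G _ _ hn hG x y hxy
    by_cases hcyc : zpowers x = ⊤
    · rw [(comm_of_zpowers_eq_top hcyc x⁻¹ y).mul_pow, inv_pow, hxy, inv_mul_cancel]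
    obtain ⟨M, hMn, hMtop, hxM⟩ := exists_normal_coatom hG.1 x hcyc
    have h1 : y * x * y⁻¹ ∈ M := hMn.conj_mem _ hxM y
    have h2 : x ^ p ^ k = (y * x * y⁻¹) ^ p ^ k := by
      rw [conj_pow, hxy]; group
    have h3 := ih _ (hn ▸ card_lt_of_ne_top hMtop) M rfl (regular_subgroup hG _)
      ⟨x, hxM⟩ ⟨_, h1⟩ (Subtype.ext h2)
    have h4 : (x⁻¹ * (y * x * y⁻¹)) ^ p ^ k = 1 := congrArg Subtype.val h3
    have h5 : ⁅x⁻¹, y⁆ ∈ omegaSub hG k := by
      rw [mem_omegaSub, commutatorElement_def, ← h4]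
      congr 1
      group
    have hcommQ : Commute ((x⁻¹ : G) : G ⧸ omegaSub hG k) (y : G ⧸ omegaSub hG k) := by
      have h6 : ((⁅x⁻¹, y⁆ : G) : G ⧸ omegaSub hG k) =
          ⁅((x⁻¹ : G) : G ⧸ omegaSub hG k), (y : G ⧸ omegaSub hG k)⁆ :=
        map_commutatorElement (QuotientGroup.mk' (omegaSub hG k)) x⁻¹ y
      rw [(QuotientGroup.eq_one_iff _).mpr h5] at h6
      exact commutatorElement_eq_one_iff_mul_comm.mp h6.symm
    have hle := commutator_closure_pair_le (omegaSub hG k) x⁻¹ y hcommQ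
    obtain ⟨c, hc, heq⟩ := hG.2 x⁻¹ y k
    have hc1 : c = 1 := eq_one_of_mem_powerClosure (fun z hz => hle hz) hc
    rw [heq, hc1, inv_pow, hxy]; simp

theorem pow_eq_iff {G : Type*} [Group G] [Finite G] {p : ℕ} [Fact p.Prime]
    (hG : Cfsg.IsRegularPGroup p G) (k : ℕ) (x y : G) :
    x ^ p ^ k = y ^ p ^ k ↔ (x⁻¹ * y) ^ p ^ k = 1 :=
  ⟨inv_mul_pow_of_pow_eq k _ G rfl hG x y, pow_eq_of_inv_mul hG k x y⟩

end Cfsg.Agent.Lib.Helper74Regular
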