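import Cfsg.Agent.Lib.Helper75HallB
set_option autoImplicit false

namespace Cfsg.Agent.Lib.Helper75Hall

open MulAction Subgroup
open scoped Pointwise

universe u v

theorem exists_conj_mem_sylow {Y : Type*} [Group Y] [Finite Y] (P : Sylow 7 Y) {u : Y}
    (hu : u ^ 7 = 1) : ∃ g : Y, g * u * g⁻¹ ∈ P := by
  have hp : IsPGroup 7 (zpowers u) := by
    have hu' : u ^ 7 ^ 1 = 1 := by rw [pow_one]; exact hu
    obtain ⟨j, -, hj⟩ := (Nat.dvd_prime_pow (by norm_num : Nat.Prime 7)).1
      (orderOf_dvd_of_pow_eq_one hu')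
    exact IsPGroup.of_card (n := j) (by rw [Nat.card_zpowers, hj])
  obtain ⟨Q, hQ⟩ := hp.exists_le_sylow
  obtain ⟨g, hg⟩ := exists_smul_eq Y Q P
  refine ⟨g, ?_⟩
  rw [← hg]
  have hu : u ∈ (Q : Subgroup Y) := hQ (mem_zpowers u)
  have := Subgroup.smul_mem_pointwise_smul u (MulAut.conj g) (Q : Subgroup Y) hu
  rw [MulAut.smul_def, MulAut.conj_apply] at this
  exact this

section
variable {Y : Type u} [Group Y] {Ω : Type v} [Fintype Ω] [MulAction Y Ω] {ω0 : Ω} {P : Sylow 7 Y}

theorem Config.seven_dvd_of_normal [Finite Y] (h : Config Y Ω ω0 P) {M : Subgroup Y} [M.Normal]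
    (hM : M ≠ ⊥) : 7 ∣ Nat.card M := by
  by_contra h7
  have h15 := h.dvd_card_of_normal hM
  have h5 : 5 ∣ Nat.card M := Dvd.dvd.trans (by norm_num) h15
  obtain ⟨Q5⟩ : Nonempty (Sylow 5 M) := inferInstance
  have hQcard : Nat.card Q5 = 5 := by
    obtain ⟨n, hn⟩ := Q5.2.exists_card_eq
    have hd1 : 5 ∣ Nat.card Q5 := Q5.dvd_card_of_dvd_card h5
    have hd2 : Nat.card Q5 ∣ Nat.card Y :=
      (card_subgroup_dvd_card _).trans (card_subgroup_dvd_card M)
    have hn0 : n ≠ 0 := by
      rintro rfl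
      rw [hn] at hd1
      norm_num at hd1
    have hn2 : n < 2 := by
      by_contra hge
      push Not at hge
      apply h.not_25_dvd
      refine Dvd.dvd.trans ?_ hd2
      rw [hn]
      exact pow_dvd_pow 5 hge
    have : n = 1 := by omega
    rw [hn, this, pow_one]
  set Q : Subgroup Y := (Q5 : Subgroup M).map M.subtype with hQ
  have hQc : Nat.card Q = 5 := by
    rw [hQ, card_map_of_injective M.subtype_injective]; exact hQcard
  have hfr := Sylow.normalizer_sup_eq_top Q5
  have hidx : M.index ∣ Nat.card (normalizer (Q : Set Y)) := by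
    have := relIndex_sup_right (normalizer (Q : Set Y)) M
    rw [hfr, relIndex_top_right] at this
    rw [this]; exact relIndex_dvd_card _ _
  have h7Y : 7 ∣ Nat.card Y := by rw [← h.card_P]; exact card_subgroup_dvd_card _
  have h7i : 7 ∣ M.index := by
    rw [← M.index_mul_card] at h7Y
    exact ((Nat.Prime.dvd_mul (by norm_num)).1 h7Y).resolve_right h7
  obtain ⟨u, hu⟩ := exists_prime_orderOf_dvd_card' 7 (h7i.trans hidx)
  have hu7 : (u : Y) ^ 7 = 1 := by
    have := pow_orderOf_eq_one u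
    rw [hu] at this
    exact congrArg Subtype.val this
  have hu1 : (u : Y) ≠ 1 := by
    intro e
    have : u = 1 := Subtype.ext e
    rw [this, orderOf_one] at hu
    omega
  -- generator of Q
  obtain ⟨v, hvQ, hv1⟩ : ∃ v ∈ Q, v ≠ 1 := by
    by_contra hcon
    push Not at hcon
    have : Q = ⊥ := (eq_bot_iff_forall _).2 hcon
    rw [this, card_bot] at hQc
    omega
  have hv5 : v ^ 5 = 1 := by
    have := pow_card_eq_one' (G := Q) (x := ⟨v, hvQ⟩)
    rw [hQc] at this
    exact congrArg Subtype.val this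
  have hvo : orderOf v = 5 := by
    rcases (Nat.dvd_prime (by norm_num : Nat.Prime 5)).1 (orderOf_dvd_of_pow_eq_one hv5) with h1 | h1
    · exact absurd (orderOf_eq_one_iff.1 h1) hv1
    · exact h1
  have hzv : zpowers v = Q := by
    apply Subgroup.eq_of_le_of_card_ge
    · rw [zpowers_le]; exact hvQ
    · rw [hQc, Nat.card_zpowers, hvo]
  have hconj : (u : Y) * v * (u : Y)⁻¹ ∈ zpowers v := by
    rw [hzv]; exact (mem_normalizer_iff.1 u.2 v).1 hvQ
  have hcomm := commute_of_normalizes hvo hu7 hconj (by decide)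
  obtain ⟨g, hg⟩ := exists_conj_mem_sylow P hu7
  have hx1 : g * (u : Y) * g⁻¹ ≠ 1 := by
    intro e
    apply hu1
    have : (u : Y) = g⁻¹ * (g * (u : Y) * g⁻¹) * g := by group
    rw [this, e]; group
  have hc : (g * v * g⁻¹) * (g * (u : Y) * g⁻¹) = (g * (u : Y) * g⁻¹) * (g * v * g⁻¹) := by
    have e1 : (g * v * g⁻¹) * (g * (u : Y) * g⁻¹) = g * (v * (u : Y)) * g⁻¹ := by group
    have e2 : (g * (u : Y) * g⁻¹) * (g * v * g⁻¹) = g * ((u : Y) * v) * g⁻¹ := by group
    rw [e1, e2, hcomm]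
  have h5' : (g * v * g⁻¹) ^ 5 = 1 := by
    rw [conj_pow, hv5]; group
  have := h.eq_one_of_centralizer_pow_five (h.comm_of_comm hg hx1 hc) h5'
  apply hv1
  have e : v = g⁻¹ * (g * v * g⁻¹) * g := by group
  rw [e, this]; group

theorem Config.le_of_normal [Finite Y] (h : Config Y Ω ω0 P) {M : Subgroup Y} [hMn : M.Normal]
    (hM : M ≠ ⊥) : (P : Subgroup Y) ≤ M := by
  obtain ⟨u, hu⟩ := exists_prime_orderOf_dvd_card' 7 (h.seven_dvd_of_normal hM)
  have hu7 : (u : Y) ^ 7 = 1 := by
    have := pow_orderOf_eq_one u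
    rw [hu] at this
    exact congrArg Subtype.val this
  have hu1 : (u : Y) ≠ 1 := by
    intro e
    have : u = 1 := Subtype.ext e
    rw [this, orderOf_one] at hu
    omega
  obtain ⟨g, hg⟩ := exists_conj_mem_sylow P hu7
  have hx1 : g * (u : Y) * g⁻¹ ≠ 1 := by
    intro e
    apply hu1
    have : (u : Y) = g⁻¹ * (g * (u : Y) * g⁻¹) * g := by group
    rw [this, e]; group
  rw [← h.eq_zpowers hg hx1, zpowers_le]
  exact hMn.conj_mem _ u.2 g

theorem Config.restrict [Finite Y] (h : Config Y Ω ω0 P) {M : Subgroup Y} [hMn : M.Normal]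
    (hM : M ≠ ⊥) : Config M Ω ω0 (P.subtype (h.le_of_normal hM)) where
  card := h.card
  faithful := by
    intro g hg
    exact Subtype.ext (h.faithful g hg)
  trans := h.transitive_of_normal hM
  fix0 := by
    intro g hg
    exact h.fix0 g hg
  fix1 := by
    intro ω hω
    apply h.fix1
    intro g hg
    exact hω ⟨g, h.le_of_normal hM hg⟩ hg
  norm := by
    intro g hg
    have h1 := mem_normalizer_iff.1 (h.norm g hg)
    refine mem_normalizer_iff.2 ?_
    intro x
    exact h1 x

end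

end Cfsg.Agent.Lib.Helper75Hall
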