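import Cfsg.Agent.Lib.Helper95Basic

set_option autoImplicit false

namespace Cfsg.Agent.Lib.Helper95SL

open Matrix Module Cfsg.Agent.Lib.Helper95Basic

variable {ι : Type} [Fintype ι] [DecidableEq ι] {F : Type*} [Field F]

/-- elementary transvection -/
noncomputable def el (i j : ι) (hij : i ≠ j) (c : F) : GL ι F :=
  tv (c • Pi.single i 1) (LinearMap.proj j) (by simp [hij])

lemma el_mulVec (i j : ι) (hij : i ≠ j) (c : F) (x : ι → F) :
    ((el i j hij c : GL ι F) : Matrix ι ι F) *ᵥ x = x + (x j * c) • Pi.single i 1 := by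
  simp [el, smul_smul]

lemma el_mulVec_apply (i j : ι) (hij : i ≠ j) (c : F) (x : ι → F) (k : ι) :
    (((el i j hij c : GL ι F) : Matrix ι ι F) *ᵥ x) k = if k = i then x i + x j * c else x k := by
  rw [el_mulVec]
  by_cases h : k = i
  · subst h; simp
  · simp [h]

lemma toGL_transvection (i j : ι) (hij : i ≠ j) (c : F) :
    Matrix.SpecialLinearGroup.toGL (Matrix.SpecialLinearGroup.transvection hij c) = el i j hij c := by
  apply gl_ext
  intro x
  ext k
  rw [el_mulVec_apply]
  simp only [Matrix.SpecialLinearGroup.coe_GL_coe_matrix, Matrix.SpecialLinearGroup.transvection_coe, Matrix.add_mulVec, Matrix.one_mulVec,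
    Pi.add_apply, Matrix.single_mulVec]
  by_cases h : k = i
  · subst h; simp [mul_comm]
  · simp [h]

lemma toGL_diag2n (i j : ι) (hij : i ≠ j) (c : F) (hc : c ≠ 0) :
    Matrix.SpecialLinearGroup.toGL (Matrix.SpecialLinearGroup.diag2n hij c hc) =
      el i j hij c * el j i hij.symm (-c⁻¹) * el i j hij c * el i j hij (-1) * el j i hij.symm 1 *
        el i j hij (-1) := by
  apply gl_ext
  intro x
  simp only [mul_mulVec]
  ext k
  have h0 : (((Matrix.SpecialLinearGroup.toGL (Matrix.SpecialLinearGroup.diag2n hij c hc) : GL ι F) :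
      Matrix ι ι F) *ᵥ x) k = (if k = i then c else if k = j then c⁻¹ else 1) * x k := by
    simp [Matrix.SpecialLinearGroup.diag2n_coe, Matrix.mulVec_diagonal]
  rw [h0]
  by_cases h1 : k = i
  · subst h1
    simp only [el_mulVec_apply, hij, hij.symm, if_true, if_false]
    field_simp
    ring
  · by_cases h2 : k = j
    · subst h2
      simp only [el_mulVec_apply, hij, hij.symm, if_true, if_false]
      field_simp
      ring
    · simp only [el_mulVec_apply, h1, h2, if_false, one_mul]

/-- A subgroup of `GL` containing all transvections contains the special linear group. -/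
theorem specialLinear_le_of_tv [Nontrivial ι] (G : Subgroup (GL ι F))
    (hG : ∀ (a : ι → F) (ℓ : Dual F (ι → F)) (h : ℓ a = 0), tv a ℓ h ∈ G) :
    Cfsg.Geo.specialLinear ι F ≤ G := by
  intro g hg
  rw [mem_specialLinear_iff] at hg
  have hg' : g = Matrix.SpecialLinearGroup.toGL ⟨(g : Matrix ι ι F), hg⟩ := by
    apply Units.ext
    rfl
  rw [hg']
  refine Matrix.SpecialLinearGroup.diagonal_transvection_induction'
    (fun A => Matrix.SpecialLinearGroup.toGL A ∈ G) _ ?_ ?_ ?_
  · intro i j hij c hc
    show Matrix.SpecialLinearGroup.toGL _ ∈ G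
    rw [toGL_diag2n]
    have h : ∀ (a b : ι) (hab : a ≠ b) (d : F), el a b hab d ∈ G := fun a b hab d => hG _ _ _
    exact G.mul_mem (G.mul_mem (G.mul_mem (G.mul_mem (G.mul_mem (h _ _ _ _) (h _ _ _ _)) (h _ _ _ _))
      (h _ _ _ _)) (h _ _ _ _)) (h _ _ _ _)
  · intro i j hij a
    show Matrix.SpecialLinearGroup.toGL _ ∈ G
    rw [toGL_transvection]
    exact hG _ _ _
  · intro A B hA hB
    show Matrix.SpecialLinearGroup.toGL _ ∈ G
    rw [map_mul]
    exact G.mul_mem hA hB

end Cfsg.Agent.Lib.Helper95SL
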