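import Mathlib
import Cfsg.Agent.Lib.Helper95SL

set_option autoImplicit false

/-! PROJECT 75 (S5634, case `m = 1`: the monomial group is maximal in `SL_n(q)`): vocabulary. -/

namespace Cfsg.Agent.Lib.Helper75MonDefs

open Matrix Cfsg.Agent.Lib.Helper95Basic Cfsg.Agent.Lib.Helper95SL

variable {ι : Type} [Fintype ι] [DecidableEq ι] {F : Type*} [Field F]

/-- `g` is monomial, with underlying permutation `σ` : column `j` is supported in row `σ j`. -/
def MonoW (g : GL ι F) (σ : Equiv.Perm ι) : Prop :=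
  ∀ i j, (g : Matrix ι ι F) i j ≠ 0 → i = σ j

/-- `g` is a monomial matrix -/
def IsMono (g : GL ι F) : Prop := ∃ σ : Equiv.Perm ι, MonoW g σ

theorem gl_inv_mul_apply (g : GL ι F) (i j : ι) :
    ∑ k, ((g⁻¹ : GL ι F) : Matrix ι ι F) i k * (g : Matrix ι ι F) k j = if i = j then 1 else 0 := by
  have h : ((g⁻¹ : GL ι F) : Matrix ι ι F) * (g : Matrix ι ι F) = 1 := by
    rw [← Units.val_mul, inv_mul_cancel, Units.val_one]
  have := congrFun (congrFun h i) j
  rwa [Matrix.mul_apply, Matrix.one_apply] at this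

theorem gl_mul_inv_apply (g : GL ι F) (i j : ι) :
    ∑ k, (g : Matrix ι ι F) i k * ((g⁻¹ : GL ι F) : Matrix ι ι F) k j = if i = j then 1 else 0 := by
  have h : (g : Matrix ι ι F) * ((g⁻¹ : GL ι F) : Matrix ι ι F) = 1 := by
    rw [← Units.val_mul, mul_inv_cancel, Units.val_one]
  have := congrFun (congrFun h i) j
  rwa [Matrix.mul_apply, Matrix.one_apply] at this

theorem MonoW.one : MonoW (1 : GL ι F) 1 := by
  intro i j h
  by_contra hne
  apply h
  rw [Units.val_one, Matrix.one_apply_ne (by simpa using hne)]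

theorem MonoW.mul {g h : GL ι F} {σ τ : Equiv.Perm ι} (hg : MonoW g σ) (hh : MonoW h τ) :
    MonoW (g * h) (σ * τ) := by
  intro i j hne
  rw [Units.val_mul, Matrix.mul_apply] at hne
  obtain ⟨k, -, hk⟩ := Finset.exists_ne_zero_of_sum_ne_zero hne
  have h1 := hg i k (left_ne_zero_of_mul hk)
  have h2 := hh k j (right_ne_zero_of_mul hk)
  rw [h1, h2]; rfl

theorem MonoW.apply_ne_zero {g : GL ι F} {σ : Equiv.Perm ι} (hg : MonoW g σ) (j : ι) :
    (g : Matrix ι ι F) (σ j) j ≠ 0 := by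
  intro h0
  have h := gl_inv_mul_apply g j j
  rw [if_pos rfl] at h
  have : ∑ k, ((g⁻¹ : GL ι F) : Matrix ι ι F) j k * (g : Matrix ι ι F) k j = 0 := by
    apply Finset.sum_eq_zero
    intro k _
    by_cases hk : (g : Matrix ι ι F) k j = 0
    · rw [hk, mul_zero]
    · rw [hg k j hk, h0, mul_zero]
  rw [this] at h
  exact zero_ne_one h

theorem MonoW.inv {g : GL ι F} {σ : Equiv.Perm ι} (hg : MonoW g σ) : MonoW g⁻¹ σ⁻¹ := by
  intro i l hne
  by_contra hil
  apply hne
  have h := gl_inv_mul_apply g i (σ⁻¹ l)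
  rw [if_neg hil] at h
  rw [Finset.sum_eq_single l] at h
  · have h2 := hg.apply_ne_zero (σ⁻¹ l)
    rw [show σ (σ⁻¹ l) = l by simp] at h2
    exact (mul_eq_zero.1 h).resolve_right h2
  · intro k _ hk
    by_cases hk0 : (g : Matrix ι ι F) k (σ⁻¹ l) = 0
    · rw [hk0, mul_zero]
    · exact absurd (by rw [hg k _ hk0]; simp) hk
  · intro h; exact absurd (Finset.mem_univ _) h

/-- the group of monomial matrices -/
def Mon (ι : Type) [Fintype ι] [DecidableEq ι] (F : Type*) [Field F] : Subgroup (GL ι F) where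
  carrier := {g | IsMono g}
  mul_mem' := by
    rintro a b ⟨σ, hσ⟩ ⟨τ, hτ⟩
    exact ⟨σ * τ, hσ.mul hτ⟩
  one_mem' := ⟨1, MonoW.one⟩
  inv_mem' := by
    rintro a ⟨σ, hσ⟩
    exact ⟨σ⁻¹, hσ.inv⟩

theorem mem_Mon {g : GL ι F} : g ∈ Mon ι F ↔ IsMono g := Iff.rfl

/-- the diagonal matrix with entries `d` -/
def dg (d : ι → Fˣ) : GL ι F :=
  ⟨Matrix.diagonal (fun i => (d i : F)), Matrix.diagonal (fun i => ((d i)⁻¹ : Fˣ)),
    by rw [Matrix.diagonal_mul_diagonal]; simp, by rw [Matrix.diagonal_mul_diagonal]; simp⟩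

theorem dg_coe (d : ι → Fˣ) : (dg d : Matrix ι ι F) = Matrix.diagonal (fun i => (d i : F)) := rfl

theorem dg_apply (d : ι → Fˣ) (i j : ι) : (dg d : Matrix ι ι F) i j = if i = j then (d i : F) else 0 := by
  rw [dg_coe, Matrix.diagonal_apply]

theorem dg_mulVec (d : ι → Fˣ) (x : ι → F) (i : ι) : ((dg d : Matrix ι ι F) *ᵥ x) i = d i * x i := by
  rw [dg_coe, Matrix.mulVec_diagonal]

theorem dg_mul (d d' : ι → Fˣ) : dg d * dg d' = dg (d * d') := by
  apply Units.ext
  rw [Units.val_mul, dg_coe, dg_coe, dg_coe, Matrix.diagonal_mul_diagonal]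
  rfl

theorem dg_inv (d : ι → Fˣ) : (dg d)⁻¹ = dg d⁻¹ := rfl

theorem dg_one : dg (1 : ι → Fˣ) = 1 := by
  apply Units.ext
  rw [dg_coe]; simp

theorem det_dg (d : ι → Fˣ) : (dg d : Matrix ι ι F).det = ∏ i, (d i : F) := by
  rw [dg_coe, Matrix.det_diagonal]

theorem dg_monoW (d : ι → Fˣ) : MonoW (dg d) 1 := by
  intro i j h
  rw [dg_apply] at h
  by_contra hne
  exact h (if_neg (by simpa using hne))

theorem dg_mem_Mon (d : ι → Fˣ) : dg d ∈ Mon ι F := ⟨1, dg_monoW d⟩

/-- left and right multiplication by diagonal matrices -/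
theorem dg_mul_apply (d : ι → Fˣ) (g : GL ι F) (i j : ι) :
    ((dg d * g : GL ι F) : Matrix ι ι F) i j = d i * (g : Matrix ι ι F) i j := by
  rw [Units.val_mul, dg_coe, Matrix.diagonal_mul]

theorem mul_dg_apply (d : ι → Fˣ) (g : GL ι F) (i j : ι) :
    ((g * dg d : GL ι F) : Matrix ι ι F) i j = (g : Matrix ι ι F) i j * d j := by
  rw [Units.val_mul, dg_coe, Matrix.mul_diagonal]

/-- `diag(1,..,η,..,1)` with `η` at position `i` -/
def d1 (i : ι) (η : Fˣ) : GL ι F := dg (Function.update 1 i η)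

/-- `diag(1,..,η,..,η⁻¹,..,1)` with `η` at position `i`, `η⁻¹` at position `j` -/
def h2 (i j : ι) (η : Fˣ) : GL ι F := d1 i η * d1 j η⁻¹

theorem det_d1 (i : ι) (η : Fˣ) : (d1 i η : Matrix ι ι F).det = η := by
  rw [d1, det_dg, Finset.prod_eq_single i]
  · simp
  · intro b _ hb; simp [Function.update_of_ne hb]
  · intro h; exact absurd (Finset.mem_univ _) h

theorem det_h2 (i j : ι) (η : Fˣ) : (h2 i j η : Matrix ι ι F).det = 1 := by
  rw [h2, Units.val_mul, Matrix.det_mul, det_d1, det_d1]; simp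

theorem d1_mulVec (i : ι) (η : Fˣ) (x : ι → F) (k : ι) :
    ((d1 i η : Matrix ι ι F) *ᵥ x) k = if k = i then (η : F) * x k else x k := by
  rw [d1, dg_mulVec]
  by_cases h : k = i
  · subst h; simp
  · simp [Function.update_of_ne h, h]

theorem d1_mem_Mon (i : ι) (η : Fˣ) : d1 i η ∈ Mon ι F := dg_mem_Mon _

theorem h2_mem_Mon (i j : ι) (η : Fˣ) : h2 i j η ∈ Mon ι F :=
  (Mon ι F).mul_mem (d1_mem_Mon _ _) (d1_mem_Mon _ _)

theorem h2_mem_SL (i j : ι) (η : Fˣ) : h2 i j η ∈ Cfsg.Geo.specialLinear ι F := by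
  rw [mem_specialLinear_iff, det_h2]

/-- the permutation matrix sending `e j` to `e (σ j)` -/
def pm (σ : Equiv.Perm ι) : GL ι F :=
  ⟨(σ⁻¹).permMatrix F, σ.permMatrix F,
    by rw [← Matrix.permMatrix_mul]; simp, by rw [← Matrix.permMatrix_mul]; simp⟩

theorem pm_apply (σ : Equiv.Perm ι) (i j : ι) :
    ((pm σ : GL ι F) : Matrix ι ι F) i j = if i = σ j then 1 else 0 := by
  change ((σ⁻¹).permMatrix F) i j = _
  rw [Equiv.Perm.permMatrix, PEquiv.toMatrix_apply]
  simp only [Equiv.toPEquiv_apply, Option.mem_def, Option.some.injEq]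
  by_cases h : i = σ j
  · rw [if_pos h, if_pos (by rw [h]; simp)]
  · rw [if_neg h, if_neg (fun h' => h (by rw [← h']; simp))]

theorem pm_mulVec (σ : Equiv.Perm ι) (x : ι → F) (i : ι) :
    (((pm σ : GL ι F) : Matrix ι ι F) *ᵥ x) i = x (σ⁻¹ i) := by
  rw [Matrix.mulVec, dotProduct, Finset.sum_eq_single (σ⁻¹ i)]
  · rw [pm_apply, if_pos (by simp), one_mul]
  · intro b _ hb
    rw [pm_apply, if_neg (fun h => hb (by rw [h]; simp)), zero_mul]
  · intro h; exact absurd (Finset.mem_univ _) h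

theorem pm_mul (σ τ : Equiv.Perm ι) : (pm (σ * τ) : GL ι F) = pm σ * pm τ := by
  apply gl_ext
  intro x
  funext i
  rw [mul_mulVec, pm_mulVec, pm_mulVec, pm_mulVec]
  simp

theorem pm_one : (pm (1 : Equiv.Perm ι) : GL ι F) = 1 := by
  apply gl_ext
  intro x
  funext i
  rw [pm_mulVec]; simp

theorem pm_inv (σ : Equiv.Perm ι) : (pm σ : GL ι F)⁻¹ = pm σ⁻¹ := by
  rw [inv_eq_iff_mul_eq_one, ← pm_mul, mul_inv_cancel, pm_one]

theorem det_pm (σ : Equiv.Perm ι) : ((pm σ : GL ι F) : Matrix ι ι F).det = ((Equiv.Perm.sign σ : ℤ) : F) := by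
  change ((σ⁻¹).permMatrix F).det = _
  rw [Matrix.det_permutation, Equiv.Perm.sign_inv]

theorem pm_monoW (σ : Equiv.Perm ι) : MonoW (pm σ : GL ι F) σ := by
  intro i j h
  rw [pm_apply] at h
  by_contra hne
  exact h (if_neg hne)

theorem pm_mem_Mon (σ : Equiv.Perm ι) : (pm σ : GL ι F) ∈ Mon ι F := ⟨σ, pm_monoW σ⟩

/-- entries of products with permutation matrices -/
theorem pm_mul_apply (σ : Equiv.Perm ι) (g : GL ι F) (i j : ι) :
    ((pm σ * g : GL ι F) : Matrix ι ι F) i j = (g : Matrix ι ι F) (σ⁻¹ i) j := by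
  rw [Units.val_mul, Matrix.mul_apply, Finset.sum_eq_single (σ⁻¹ i)]
  · rw [pm_apply, if_pos (by simp), one_mul]
  · intro b _ hb
    rw [pm_apply, if_neg (fun h => hb (by rw [h]; simp)), zero_mul]
  · intro h; exact absurd (Finset.mem_univ _) h

theorem mul_pm_apply (σ : Equiv.Perm ι) (g : GL ι F) (i j : ι) :
    ((g * pm σ : GL ι F) : Matrix ι ι F) i j = (g : Matrix ι ι F) i (σ j) := by
  rw [Units.val_mul, Matrix.mul_apply, Finset.sum_eq_single (σ j)]
  · rw [pm_apply, if_pos rfl, mul_one]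
  · intro b _ hb
    rw [pm_apply, if_neg hb, mul_zero]
  · intro h; exact absurd (Finset.mem_univ _) h

/-- `X` contains no root element `1 + c E_ij` -/
def NoRoot (X : Subgroup (GL ι F)) : Prop :=
  ∀ (i j : ι) (hij : i ≠ j) (c : F), c ≠ 0 → el i j hij c ∉ X

theorem el_apply (i j : ι) (hij : i ≠ j) (c : F) (a b : ι) :
    (el i j hij c : Matrix ι ι F) a b = (if a = b then 1 else 0) + (if a = i ∧ b = j then c else 0) := by
  have h := el_mulVec_apply i j hij c (Pi.single b 1) a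
  rw [Matrix.mulVec_single_one] at h
  change (el i j hij c : Matrix ι ι F) a b = _ at h
  rw [h]
  by_cases ha : a = i
  · subst ha
    by_cases hb : b = j
    · subst hb
      simp [hij]
    · by_cases hab : a = b
      · subst hab; simp [hb, hij]
      · simp [hb, hab, Pi.single_apply, Ne.symm hb]
  · by_cases hab : a = b
    · subst hab; simp [ha]
    · simp [ha, hab, Pi.single_apply]

/-- column `j` of `g` -/
theorem mulVec_single_apply (g : GL ι F) (i j : ι) :
    ((g : Matrix ι ι F) *ᵥ Pi.single j 1) i = (g : Matrix ι ι F) i j := by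
  rw [Matrix.mulVec_single_one]; rfl

/-- hypotheses of the `GL` version: `X` contains all monomial matrices and no root element -/
structure PH (X : Subgroup (GL ι F)) : Prop where
  mon : Mon ι F ≤ X
  nr : NoRoot X

/-- the `GL` version for the index type `ι` -/
def PP (ι : Type) [Fintype ι] [DecidableEq ι] (F : Type*) [Field F] : Prop :=
  ∀ X : Subgroup (GL ι F), PH X → X ≤ Mon ι F

/-- hypotheses of the `SL` version -/
structure SH (G : Subgroup (GL ι F)) : Prop where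
  le : G ≤ Cfsg.Geo.specialLinear ι F
  mon : Mon ι F ⊓ Cfsg.Geo.specialLinear ι F ≤ G
  nr : NoRoot G

/-- column `k` of `y` is supported in row `l` -/
def ColAt (y : GL ι F) (k l : ι) : Prop := ∀ a, a ≠ l → (y : Matrix ι ι F) a k = 0

/-- the permutation matrix of `π` acting on `Option (Fin m)` (fixing `none`) -/
def pmo {m : ℕ} (π : Equiv.Perm (Fin m)) : GL (Option (Fin m)) F := pm (Equiv.optionCongr π)

/-- `X` contains all the homologies `1 + (η - 1) u vᵀ`, where `vᵀ u = 1` -/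
def Hm (X : Subgroup (GL ι F)) (u v : ι → F) : Prop :=
  v ⬝ᵥ u = 1 ∧ ∀ η : Fˣ, ∃ y ∈ X, (y : Matrix ι ι F) = 1 + ((η : F) - 1) • Matrix.vecMulVec u v

/-- `X` contains `1 + u wᵀ` -/
def Tv (X : Subgroup (GL ι F)) (u w : ι → F) : Prop :=
  ∃ z ∈ X, (z : Matrix ι ι F) = 1 + Matrix.vecMulVec u w

/-- `y` is block diagonal-or-triangular: the rows in `p` vanish on the columns outside `p` -/
def LowZ (p : ι → Prop) (y : GL ι F) : Prop := ∀ a b, p a → ¬ p b → (y : Matrix ι ι F) a b = 0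

/-- the rows outside `p` vanish on the columns in `p` -/
def UpZ (p : ι → Prop) (y : GL ι F) : Prop := ∀ a b, ¬ p a → p b → (y : Matrix ι ι F) a b = 0

/-- `C` is the `p`-block of `y` -/
def IsBlk (p : ι → Prop) [DecidablePred p] (y : GL ι F) (C : GL {a // p a} F) : Prop :=
  ∀ a b : {a // p a}, (C : Matrix {a // p a} {a // p a} F) a b = (y : Matrix ι ι F) a b

end Cfsg.Agent.Lib.Helper75MonDefs
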