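import Mathlib
import Cfsg.Agent.S2119
import Cfsg.Agent.Lib.Helper29P29aut6a
import Cfsg.Agent.Lib.Helper75P29aut6b

set_option autoImplicit false

/-! PROJECT 29, piece `ext6`: a group with a subgroup `A6` of index two with trivial centralizer, in
which some element outside centralizes an element of order three, is `S6`. -/

namespace Cfsg.Agent.Lib.Helper75P29ext6

open MulAction Subgroup

/-- piece `ext6` -/
theorem s6_of_index_two {G : Type*} [Group G] [Finite G] (N : Subgroup G) (hN : N.index = 2)
    (f : N ≃* alternatingGroup (Fin 6)) (hC : centralizer (N : Set G) = ⊥)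
    (t x : G) (ht : t ∉ N) (hx : x ∈ N) (hx3 : orderOf x = 3) (hcomm : t * x = x * t) :
    Nonempty (G ≃* Equiv.Perm (Fin 6)) := by
  classical
  have hn : N.Normal := Subgroup.normal_of_index_eq_two hN
  let κ : Equiv.Perm (Fin 6) →* MulAut (alternatingGroup (Fin 6)) := MulAut.conjNormal
  have hκ : Function.Injective κ := by
    rw [injective_iff_map_eq_one]
    exact fun σ h => Cfsg.Agent.S2119.inj 6 (by norm_num) σ h
  let Φ : G →* MulAut (alternatingGroup (Fin 6)) :=
    (MulAut.congr f).toMonoidHom.comp MulAut.conjNormal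
  have hΦ : ∀ (g : G) (a : N), Φ g (f a) = f (MulAut.conjNormal g a) := by
    intro g a
    change f (MulAut.conjNormal g (f.symm (f a))) = _
    rw [MulEquiv.symm_apply_apply]
  have hinj : Function.Injective Φ := by
    rw [injective_iff_map_eq_one]
    intro g hg
    have hgC : g ∈ centralizer (N : Set G) := by
      rw [mem_centralizer_iff]
      intro n hnN
      have h1 : f (MulAut.conjNormal g ⟨n, hnN⟩) = f ⟨n, hnN⟩ := by rw [← hΦ, hg]; rfl
      have h2 : g * n * g⁻¹ = n := by
        have := congrArg Subtype.val (f.injective h1)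
        rwa [MulAut.conjNormal_apply] at this
      calc n * g = (g * n * g⁻¹) * g := by rw [h2]
        _ = g * n := by group
    rw [hC, mem_bot] at hgC
    exact hgC
  have h1 : ∀ g ∈ N, Φ g ∈ κ.range := by
    intro g hg
    refine ⟨(f ⟨g, hg⟩ : Equiv.Perm (Fin 6)), ?_⟩
    ext1 a
    obtain ⟨a, rfl⟩ := f.surjective a
    rw [hΦ]
    have h2 : (MulAut.conjNormal g a : N) = ⟨g, hg⟩ * a * ⟨g, hg⟩⁻¹ := by
      apply Subtype.ext
      rw [MulAut.conjNormal_apply]
      rfl
    rw [h2, map_mul, map_mul, map_inv]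
    apply Subtype.ext
    rw [MulAut.conjNormal_apply]
    rfl
  have h2 : Φ t ∈ κ.range := by
    obtain ⟨σ, hσ⟩ := Cfsg.Agent.Lib.Helper29P29aut6a.aut6_of_preserve (Φ t) (fun g hg =>
      Cfsg.Agent.Lib.Helper75P29aut6b.preserve_of_fix (Φ t) (f ⟨x, hx⟩)
        (by rw [f.orderOf_eq, Subgroup.orderOf_mk, hx3])
        (by
          rw [hΦ]
          congr 1
          apply Subtype.ext
          rw [MulAut.conjNormal_apply]
          change t * x * t⁻¹ = x
          rw [hcomm]; group) g hg)
    exact ⟨σ, hσ⟩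
  have hrange : ∀ g, Φ g ∈ κ.range := by
    intro g
    by_cases hg : g ∈ N
    · exact h1 g hg
    · have h3 : t⁻¹ * g ∈ N := by
        rw [Subgroup.mul_mem_iff_of_index_two hN, inv_mem_iff]
        exact ⟨fun h => absurd h ht, fun h => absurd h hg⟩
      have h4 : Φ g = Φ t * Φ (t⁻¹ * g) := by rw [← map_mul]; congr 1; group
      rw [h4]
      exact mul_mem h2 (h1 _ h3)
  let Ψ : G →* κ.range := Φ.codRestrict κ.range hrange
  let θ : G →* Equiv.Perm (Fin 6) := (MonoidHom.ofInjective hκ).symm.toMonoidHom.comp Ψ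
  have hθ : Function.Injective θ := by
    apply (MonoidHom.ofInjective hκ).symm.injective.comp
    intro a b hab
    exact hinj (congrArg Subtype.val hab)
  have hcardG : Nat.card G = Nat.card (Equiv.Perm (Fin 6)) := by
    rw [← N.card_mul_index, hN, Nat.card_congr f.toEquiv, mul_comm,
      two_mul_nat_card_alternatingGroup]
  have hbij : Function.Bijective θ := hθ.bijective_of_nat_card_le (by rw [hcardG])
  exact ⟨MulEquiv.ofBijective θ hbij⟩

end Cfsg.Agent.Lib.Helper75P29ext6
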