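import Mathlib
import Cfsg.Agent.Lib.Helper7SL

set_option autoImplicit false

/-! PROJECT 29, piece `sl168` -/

namespace Cfsg.Agent.Lib.Helper75P29sl168

/-- piece `sl168` -/
theorem card_sl32 : Nat.card (Matrix.SpecialLinearGroup (Fin 3) (ZMod 2)) = 168 := by
  have : Fact (Nat.Prime 2) := ⟨Nat.prime_two⟩
  have h := Cfsg.Agent.Lib.Helper7SL.card_GL_eq_card_SL_mul_card_units (n := Fin 3) (R := ZMod 2)
  rw [Matrix.card_GL_field, Nat.card_units, Nat.card_eq_fintype_card (α := ZMod 2), ZMod.card] at h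
  simp only [Fin.prod_univ_three, Fin.val_zero, Fin.val_one, Fin.val_two] at h
  generalize Nat.card (Matrix.SpecialLinearGroup (Fin 3) (ZMod 2)) = c at h ⊢
  norm_num at h
  omega

end Cfsg.Agent.Lib.Helper75P29sl168
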