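import Mathlib
import Cfsg.Agent.Lib.Helper92HHDefs
import Cfsg.Agent.Lib.H92HHLA

set_option autoImplicit false

namespace Cfsg.Agent.Lib.Helper75WCrit

open Polynomial Cfsg.Agent.Lib.Helper92HHDefs

variable {K V : Type*} [Field K] [AddCommGroup V] [Module K V]

/-- the arithmetic of the critical case (after `H92HHCrit.crit`). -/
theorem crit2 [IsAlgClosed K] [FiniteDimensional K V] [Nontrivial V] (Y : (Module.End K V)ˣ)
    (N : ℕ)
    (hineq : N * Module.finrank K (commutant (Y : Module.End K V))
      ≤ (Module.finrank K V) ^ 2 + (N - 1))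
    (hY : ¬ IsSc (Y : Module.End K V)) :
    minDegOn (Y : Module.End K V) ⊤ N ∨
      (Module.finrank K V = N - 1 ∧ minDegOn (Y : Module.End K V) ⊤ (N - 1)) := by
  classical
  set d := Module.finrank K V with hd
  set c := Module.finrank K (commutant (Y : Module.End K V)) with hc
  have hint : IsIntegral K (Y : Module.End K V) := Algebra.IsIntegral.isIntegral _
  have hP0 : minpoly K (Y : Module.End K V) ≠ 0 := minpoly.ne_zero hint
  have hPa : aeval (Y : Module.End K V) (minpoly K (Y : Module.End K V)) = 0 := minpoly.aeval _ _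
  set s := (minpoly K (Y : Module.End K V)).natDegree with hs
  have hLA : d ^ 2 ≤ s * c := Cfsg.Agent.Lib.H92HHLA.sq_finrank_le _ _ hP0 hPa
  have hsd : s ≤ d := by
    have h1 := Polynomial.natDegree_le_of_dvd (LinearMap.minpoly_dvd_charpoly (Y : Module.End K V))
      (LinearMap.charpoly_monic _).ne_zero
    rwa [LinearMap.charpoly_natDegree] at h1
  have hmin : minDegOn (Y : Module.End K V) ⊤ s := by
    intro f hf hfu
    have h1 : aeval (Y : Module.End K V) f = 0 := LinearMap.ext (fun u => hfu u trivial)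
    exact Polynomial.natDegree_le_of_dvd (minpoly.dvd K _ h1) hf
  have hs0 : 0 < s := minpoly.natDegree_pos hint
  have hs1 : s ≠ 1 := by
    intro h1
    obtain ⟨a, ha⟩ := (minpoly.natDegree_eq_one_iff (A := K) (x := (Y : Module.End K V))).1 h1
    apply hY
    refine ⟨a, ?_⟩
    rw [← ha, Algebra.algebraMap_eq_smul_one]
  by_cases hsN : N ≤ s
  · left
    intro f hf hfu
    exact hsN.trans (hmin f hf hfu)
  · right
    obtain ⟨k, hk⟩ : ∃ k, N = s + k + 1 := ⟨N - s - 1, by omega⟩
    have hN1 : N - 1 = s + k := by omega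
    rw [hN1] at hineq
    have h2 : N * d ^ 2 ≤ s * (d ^ 2 + (s + k)) := by
      calc N * d ^ 2 ≤ N * (s * c) := Nat.mul_le_mul_left _ hLA
        _ = s * (N * c) := by ring
        _ ≤ s * (d ^ 2 + (s + k)) := Nat.mul_le_mul_left _ hineq
    rw [hk] at h2
    have h3 : (k + 1) * d ^ 2 ≤ s * (s + k) := by nlinarith
    have hsd2 : s ^ 2 ≤ d ^ 2 := Nat.pow_le_pow_left hsd 2
    have hk0 : k = 0 := by
      by_contra hk0
      have hk1 : 1 ≤ k := Nat.one_le_iff_ne_zero.mpr hk0
      have h4 : (k + 1) * s ^ 2 ≤ s * (s + k) := (Nat.mul_le_mul_left _ hsd2).trans h3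
      have h5 : k * s * s ≤ k * s := by nlinarith
      have h6 : 2 ≤ s := by omega
      have h7 : 0 < k * s := Nat.mul_pos (by omega) hs0
      have h8 : k * s * 2 ≤ k * s * s := Nat.mul_le_mul_left _ h6
      omega
    subst hk0
    have h7 : d ^ 2 ≤ s ^ 2 := by nlinarith
    have h8 : d ≤ s := by
      by_contra hcon
      push Not at hcon
      have := Nat.pow_lt_pow_left hcon (two_ne_zero)
      omega
    rw [hN1]
    refine ⟨by omega, ?_⟩
    simpa using hmin

end Cfsg.Agent.Lib.Helper75WCrit
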