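import Mathlib
import Cfsg.Agent.Lib.Helper54DefOneComb

set_option autoImplicit false
set_option linter.unusedVariables false
set_option linter.unusedSectionVars false

namespace Cfsg.Agent.Lib.Helper76D1CombA

open Cfsg.Agent.Lib.Helper59BLCoh Cfsg.Agent.Lib.Helper54DefOneComb

/-- piece `combA` -/
theorem combA {ι Λ : Type*} [Fintype ι] [Finite Λ] [Nonempty Λ] (R : Λ → Λ → Prop)
    (hR : Equivalence R) (e t : ℕ)
    (ht : Nat.card (Quotient (⟨R, hR⟩ : Setoid Λ)) = t)
    (D : Λ → ι → ℤ) (deg : ι → ℤ) (hdeg : ∀ i, 0 < deg i)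
    (hgram : ∀ l l', ∑ i, D l i * D l' i = (e : ℤ) + open Classical in if R l l' then 1 else 0)
    (h0 : ∀ l l', ∑ i, (D l i - D l' i) * deg i = 0) :
    ∃ (δ : ℤ) (ζ : Λ → ι) (A : ι → ℤ) (a₀ : ℤ), (δ = 1 ∨ δ = -1) ∧
      (∀ l i, D l i = A i - δ * (open Classical in if i = ζ l then 1 else 0)) ∧
      (∀ l l', ζ l = ζ l' ↔ R l l') ∧ (∀ l, A (ζ l) = a₀) ∧ (t : ℤ) * a₀ - δ ≠ 0 := by
  classical
  obtain ⟨l₀⟩ := (inferInstance : Nonempty Λ)
  have hrel : ∀ l l', R l l' → D l = D l' := by
    intro l l' hl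
    have e1 := hgram l l
    have e2 := hgram l l'
    have e3 := hgram l' l'
    rw [if_pos (hR.refl _)] at e1 e3
    rw [if_pos hl] at e2
    have h5 : ∑ i, (D l i - D l' i) ^ 2 = 0 := by
      have : ∀ i, (D l i - D l' i) ^ 2 = D l i * D l i - 2 * (D l i * D l' i) + D l' i * D l' i :=
        fun i => by ring
      simp_rw [this]
      rw [Finset.sum_add_distrib, Finset.sum_sub_distrib, ← Finset.mul_sum, e1, e2, e3]
      ring
    have h6 := (Finset.sum_eq_zero_iff_of_nonneg (fun i _ => sq_nonneg (D l i - D l' i))).1 h5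
    funext i
    have := h6 i (Finset.mem_univ _)
    have h7 : D l i - D l' i = 0 := by simpa using this
    linarith
  by_cases hall : ∀ l l', R l l'
  · -- one class
    have ht1 : t = 1 := by
      rw [← ht]
      have : Subsingleton (Quotient (⟨R, hR⟩ : Setoid Λ)) := by
        constructor
        intro x y
        induction x using Quotient.inductionOn with
        | h a =>
          induction y using Quotient.inductionOn with
          | h b => exact Quotient.sound (hall a b)
      have : Nonempty (Quotient (⟨R, hR⟩ : Setoid Λ)) := ⟨Quotient.mk _ l₀⟩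
      exact Nat.card_eq_one_iff_unique.2 ⟨inferInstance, inferInstance⟩
    have hD : ∀ l, D l = D l₀ := fun l => hrel l l₀ (hall l l₀)
    obtain ⟨x0, hx0⟩ : ∃ x0, D l₀ x0 ≠ 0 := by
      by_contra hcon
      push Not at hcon
      have h5 := hgram l₀ l₀
      rw [if_pos (hR.refl l₀)] at h5
      simp only [hcon, mul_zero, Finset.sum_const_zero] at h5
      omega
    refine ⟨1, fun _ => x0, fun i => D l₀ i + (if i = x0 then 1 else 0), D l₀ x0 + 1, Or.inl rfl,
      ?_, ?_, ?_, ?_⟩
    · intro l i
      rw [hD l]; ring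
    · intro l l'
      simp [hall l l']
    · intro l
      simp
    · rw [ht1]
      intro h
      apply hx0
      push_cast at h
      linarith
  · push Not at hall
    obtain ⟨l₁, l₂, h12⟩ := hall
    have ht2 : 2 ≤ t := by rw [← ht]; exact two_le_card R hR l₁ l₂ h12
    have hsym : ∀ {l l'}, ¬ R l l' → ¬ R l' l := fun h h' => h (hR.symm h')
    have h2' : ∀ l l', ¬ R l l' → ∑ i, (D l i - D l' i) ^ 2 = 2 := by
      intro l l' hl
      have e1 := hgram l l
      have e2 := hgram l l'
      have e3 := hgram l' l'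
      rw [if_pos (hR.refl _)] at e1 e3
      rw [if_neg hl] at e2
      have : ∀ i, (D l i - D l' i) ^ 2 = D l i * D l i - 2 * (D l i * D l' i) + D l' i * D l' i :=
        fun i => by ring
      simp_rw [this]
      rw [Finset.sum_add_distrib, Finset.sum_sub_distrib, ← Finset.mul_sum, e1, e2, e3]
      ring
    have h1' : ∀ l l' l'', ¬ R l l' → ¬ R l l'' → ¬ R l' l'' →
        ∑ i, (D l i - D l' i) * (D l i - D l'' i) = 1 := by
      intro l l' l'' hl hl' hl''
      have e1 := hgram l l
      have e2 := hgram l l''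
      have e3 := hgram l' l
      have e4 := hgram l' l''
      rw [if_pos (hR.refl _)] at e1
      rw [if_neg hl'] at e2
      rw [if_neg (hsym hl)] at e3
      rw [if_neg hl''] at e4
      have : ∀ i, (D l i - D l' i) * (D l i - D l'' i)
          = D l i * D l i - D l i * D l'' i - D l' i * D l i + D l' i * D l'' i :=
        fun i => by ring
      simp_rw [this]
      rw [Finset.sum_add_distrib, Finset.sum_sub_distrib, Finset.sum_sub_distrib, e1, e2, e3, e4]
      ring
    obtain ⟨δ, ζ, A, hδ, hD, hζ⟩ := coherence R hR D deg hdeg hrel h2' h1' h0 l₁ l₂ h12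
    have hδ2 : δ * δ = 1 := by rcases hδ with h | h <;> rw [h] <;> norm_num
    have hdiag : ∀ l, ∑ i, A i ^ 2 = e + 2 * δ * A (ζ l) := by
      intro l
      have h5 := hgram l l
      rw [if_pos (hR.refl l)] at h5
      have h6 : ∑ i, D l i * D l i = ∑ i, A i ^ 2 - 2 * δ * A (ζ l) + 1 := by
        have : ∀ i, D l i * D l i = A i ^ 2 - 2 * δ * (if i = ζ l then A i else 0)
            + (if i = ζ l then 1 else 0) := by
          intro i
          rw [hD]
          split_ifs
          · linear_combination hδ2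
          · ring
        simp_rw [this]
        rw [Finset.sum_add_distrib, Finset.sum_sub_distrib, ← Finset.mul_sum]
        simp
      linarith
    have hAd : ∀ l, A (ζ l) = A (ζ l₁) := by
      intro l
      have e1 := hdiag l
      have e2 := hdiag l₁
      have e3 : δ * A (ζ l) = δ * A (ζ l₁) := by linarith
      have e4 : δ * (δ * A (ζ l)) = δ * (δ * A (ζ l₁)) := by rw [e3]
      rwa [← mul_assoc, ← mul_assoc, hδ2, one_mul, one_mul] at e4
    refine ⟨δ, ζ, A, A (ζ l₁), hδ, ?_, hζ, hAd, ?_⟩
    · intro l i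
      rw [hD l i]
    · intro h
      have h5 : (t : ℤ) * A (ζ l₁) = δ := by linarith
      have h6 : (t : ℤ) ∣ 1 := by
        refine ⟨A (ζ l₁) * δ, ?_⟩
        rw [← mul_assoc, h5, hδ2]
      have h7 : (t : ℤ) ≤ 1 := Int.le_of_dvd one_pos h6
      have h8 : (2 : ℤ) ≤ t := by exact_mod_cast ht2
      omega

end Cfsg.Agent.Lib.Helper76D1CombA
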