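import Mathlib

set_option autoImplicit false
set_option linter.unusedVariables false
set_option linter.unusedSectionVars false

namespace Cfsg.Agent.Lib.Helper76D1CombB

universe u

/-- piece `combB` -/
theorem combB {ι : Type u} {Λ : Type*} [Fintype ι] [Finite Λ] [Nonempty Λ] (R : Λ → Λ → Prop)
    (hR : Equivalence R) (e t : ℕ)
    (ht : Nat.card (Quotient (⟨R, hR⟩ : Setoid Λ)) = t)
    (D : Λ → ι → ℤ)
    (hgram : ∀ l, ∑ i, D l i * D l i = (e : ℤ) + 1)
    (δ : ℤ) (ζ : Λ → ι) (A : ι → ℤ) (a₀ : ℤ) (hδ : δ = 1 ∨ δ = -1)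
    (hD : ∀ l i, D l i = A i - δ * (open Classical in if i = ζ l then 1 else 0))
    (hζ : ∀ l l', ζ l = ζ l' ↔ R l l') (hA : ∀ l, A (ζ l) = a₀) (hκ : (t : ℤ) * a₀ - δ ≠ 0) :
    ∃ (I : Type u) (_ : Fintype I) (v : I → ι → ℤ) (a : I → ℤ),
      (∀ i, a i ≠ 0) ∧
      (∀ i x, v i x ≠ 0 → ∃ l, D l x ≠ 0) ∧
      (∀ i j l, ∑ x, (a j * v i x - a i * v j x) * D l x = 0) ∧
      (∑ i, ∑ j, ∑ x, (a j * v i x - a i * v j x) ^ 2
        ≤ 2 * ((Fintype.card I : ℤ) - 1) * ((t : ℤ) * e + 1)) ∧
      (∀ y : ι → ℤ, (∀ l, ∑ x, y x * D l x = 0) → (∀ x, y x ≠ 0 → ∃ l, D l x ≠ 0) →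
        ∃ c : I → ℤ, (∀ x, y x = ∑ i, c i * v i x) ∧ ∑ i, c i * a i = 0) := by
  classical
  have := Fintype.ofFinite Λ
  obtain ⟨l₀⟩ : Nonempty Λ := inferInstance
  obtain ⟨Z, hZ⟩ : ∃ Z : Finset ι, Z = Finset.univ.image ζ := ⟨_, rfl⟩
  have hmemZ : ∀ x, x ∈ Z ↔ ∃ l, ζ l = x := by
    intro x; rw [hZ]; simp
  have hZcard : (Z.card : ℤ) = t := by
    have h1 : Function.Injective (Quotient.lift (s := (⟨R, hR⟩ : Setoid Λ)) ζ
        (fun a b h => (hζ a b).mpr h)) := by
      intro q q'
      refine Quotient.inductionOn₂ q q' ?_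
      intro a b h
      exact Quotient.sound ((hζ a b).mp h)
    have h2 : Z = (Finset.univ : Finset (Quotient (⟨R, hR⟩ : Setoid Λ))).image
        (Quotient.lift (s := (⟨R, hR⟩ : Setoid Λ)) ζ (fun a b h => (hζ a b).mpr h)) := by
      ext x
      rw [hmemZ]
      simp only [Finset.mem_image, Finset.mem_univ, true_and]
      constructor
      · rintro ⟨l, rfl⟩
        exact ⟨Quotient.mk _ l, rfl⟩
      · rintro ⟨q, rfl⟩
        refine Quotient.inductionOn q ?_
        intro l
        exact ⟨l, rfl⟩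
    rw [h2, Finset.card_image_of_injective _ h1, Finset.card_univ, ← Nat.card_eq_fintype_card, ht]
  obtain ⟨SF, hSF⟩ : ∃ SF : Finset ι, SF = Finset.univ.filter (fun x => A x ≠ 0 ∧ x ∉ Z) :=
    ⟨_, rfl⟩
  have hmemSF : ∀ x, x ∈ SF ↔ A x ≠ 0 ∧ x ∉ Z := by
    intro x; rw [hSF]; simp
  have hdisj : Disjoint Z SF := by
    rw [Finset.disjoint_left]
    intro x hx hx'
    exact ((hmemSF x).mp hx').2 hx
  have split : ∀ f : ι → ℤ, (∀ x, x ∉ Z → A x = 0 → f x = 0) →
      ∑ x, f x = ∑ x ∈ Z, f x + ∑ x ∈ SF, f x := by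
    intro f hf
    rw [← Finset.sum_union hdisj]
    symm
    apply Finset.sum_subset (Finset.subset_univ _)
    intro x _ hx
    rw [Finset.mem_union, not_or] at hx
    apply hf x hx.1
    by_contra hne
    exact hx.2 ((hmemSF x).mpr ⟨hne, hx.1⟩)
  have hδ2 : δ * δ = 1 := by rcases hδ with rfl | rfl <;> norm_num
  have hδ0 : δ ≠ 0 := by rcases hδ with rfl | rfl <;> norm_num
  have hDZ : ∀ l x, x ∉ Z → D l x = A x := by
    intro l x hx
    rw [hD, if_neg, mul_zero, sub_zero]
    rintro rfl
    exact hx ((hmemZ _).mpr ⟨l, rfl⟩)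
  have hAZ : ∀ x ∈ Z, A x = a₀ := by
    intro x hx
    obtain ⟨l, rfl⟩ := (hmemZ x).mp hx
    exact hA l
  have hζZ : ∀ l, ζ l ∈ Z := fun l => (hmemZ _).mpr ⟨l, rfl⟩
  have hind : ∀ l, ∑ x ∈ Z, (if x = ζ l then (1 : ℤ) else 0) = 1 := by
    intro l
    rw [Finset.sum_ite_eq', if_pos (hζZ l)]
  have ht1 : (1 : ℤ) ≤ t := by
    rw [← hZcard]
    have : 0 < Z.card := Finset.card_pos.mpr ⟨_, hζZ l₀⟩
    exact_mod_cast this
  -- the sum of `D l` over `Z`
  have hsumZ : ∀ l, ∑ x ∈ Z, D l x = (t : ℤ) * a₀ - δ := by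
    intro l
    have : ∀ x ∈ Z, D l x = a₀ - δ * (if x = ζ l then 1 else 0) := by
      intro x hx
      rw [hD, hAZ x hx]
    rw [Finset.sum_congr rfl this, Finset.sum_sub_distrib, ← Finset.mul_sum, hind,
      Finset.sum_const, nsmul_eq_mul, hZcard, mul_one]
  -- the Gram relation
  obtain ⟨nc, hnc⟩ : ∃ nc : ℤ, nc = ∑ x ∈ SF, A x * A x := ⟨_, rfl⟩
  have hgram' : (e : ℤ) = nc + t * (a₀ * a₀) - 2 * a₀ * δ := by
    have h1 := hgram l₀
    rw [split (fun x => D l₀ x * D l₀ x) (by
      intro x hx hx0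
      show D l₀ x * D l₀ x = 0
      rw [hDZ l₀ x hx, hx0, mul_zero])] at h1
    have h2 : ∑ x ∈ SF, D l₀ x * D l₀ x = nc := by
      rw [hnc]
      apply Finset.sum_congr rfl
      intro x hx
      rw [hDZ l₀ x ((hmemSF x).mp hx).2]
    have h3 : ∑ x ∈ Z, D l₀ x * D l₀ x = t * (a₀ * a₀) - 2 * a₀ * δ + 1 := by
      have : ∀ x ∈ Z, D l₀ x * D l₀ x
          = a₀ * a₀ + (1 - 2 * a₀ * δ) * (if x = ζ l₀ then 1 else 0) := by
        intro x hx
        rw [hD, hAZ x hx]
        split_ifs
        · linear_combination hδ2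
        · ring
      rw [Finset.sum_congr rfl this, Finset.sum_add_distrib, Finset.sum_const, nsmul_eq_mul,
        hZcard, ← Finset.mul_sum, hind]
      ring
    rw [h2, h3] at h1
    linarith
  obtain ⟨κ, hκdef⟩ : ∃ κ : ℤ, κ = (t : ℤ) * a₀ - δ := ⟨_, rfl⟩
  rw [← hκdef] at hκ
  have hte : (t : ℤ) * e + 1 = t * nc + κ * κ := by
    rw [hgram', hκdef]
    linear_combination (-1 : ℤ) * hδ2
  -- the family
  obtain ⟨v, hv0, hv1⟩ : ∃ v : Option SF → ι → ℤ, (∀ x, v none x = if x ∈ Z then 1 else 0) ∧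
      (∀ (s : SF) x, v (some s) x = if x = s.1 then 1 else 0) :=
    ⟨fun i x => i.elim (if x ∈ Z then 1 else 0) (fun s => if x = s.1 then 1 else 0),
      fun _ => rfl, fun _ _ => rfl⟩
  obtain ⟨a, ha0, ha1⟩ : ∃ a : Option SF → ℤ, a none = κ ∧ (∀ s : SF, a (some s) = A s.1) :=
    ⟨fun i => i.elim κ (fun s => A s.1), rfl, fun _ => rfl⟩
  have hsum0 : ∀ f : ι → ℤ, ∑ x, v none x * f x = ∑ x ∈ Z, f x := by
    intro f
    simp only [hv0, ite_mul, one_mul, zero_mul]
    rw [Finset.sum_ite_mem, Finset.univ_inter]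
  have hsum1 : ∀ (s : SF) (f : ι → ℤ), ∑ x, v (some s) x * f x = f s.1 := by
    intro s f
    simp only [hv1, ite_mul, one_mul, zero_mul]
    rw [Finset.sum_ite_eq', if_pos (Finset.mem_univ _)]
  have hva : ∀ i l, ∑ x, v i x * D l x = a i := by
    intro i l
    cases i with
    | none => rw [hsum0, hsumZ, ha0, hκdef]
    | some s => rw [hsum1, ha1, hDZ l _ ((hmemSF _).mp s.2).2]
  obtain ⟨w, hw0, hw1⟩ : ∃ w : Option SF → ℤ, w none = t ∧ (∀ s : SF, w (some s) = 1) :=
    ⟨fun i => i.elim (t : ℤ) (fun _ => 1), rfl, fun _ => rfl⟩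
  have hG : ∀ i j, ∑ x, v i x * v j x = if i = j then w i else 0 := by
    intro i j
    cases i with
    | none =>
      rw [hsum0]
      cases j with
      | none =>
        rw [if_pos rfl, hw0, ← hZcard]
        rw [Finset.sum_congr rfl (fun x hx => by rw [hv0, if_pos hx])]
        simp
      | some s =>
        rw [if_neg (by simp)]
        apply Finset.sum_eq_zero
        intro x hx
        rw [hv1, if_neg]
        rintro rfl
        exact ((hmemSF _).mp s.2).2 hx
    | some s =>
      rw [hsum1]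
      cases j with
      | none =>
        rw [if_neg (by simp), hv0, if_neg ((hmemSF _).mp s.2).2]
      | some s' =>
        rw [hv1, hw1]
        by_cases h : s = s'
        · rw [if_pos (by rw [h]), if_pos (by rw [h])]
        · rw [if_neg (fun h' => h (Subtype.ext h')), if_neg (fun h' => h (Option.some.inj h'))]
  refine ⟨Option SF, inferInstance, v, a, ?_, ?_, ?_, ?_, ?_⟩
  · intro i
    cases i with
    | none => rw [ha0]; exact hκ
    | some s => rw [ha1]; exact ((hmemSF _).mp s.2).1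
  · intro i x hx
    cases i with
    | none =>
      rw [hv0] at hx
      have hxZ : x ∈ Z := by
        by_contra h
        rw [if_neg h] at hx
        exact hx rfl
      obtain ⟨l, rfl⟩ := (hmemZ x).mp hxZ
      by_cases h1 : a₀ - δ = 0
      · -- then `t ≥ 2`
        have ha₀ : a₀ = δ := by linarith
        by_contra hcon
        push Not at hcon
        have hall : ∀ l', ζ l' = ζ l := by
          intro l'
          by_contra hne
          have := hcon l'
          rw [hD, hA, if_neg (fun h => hne h.symm), mul_zero, sub_zero, ha₀] at this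
          exact hδ0 this
        have hZ1 : Z = {ζ l} := by
          ext x
          rw [hmemZ, Finset.mem_singleton]
          constructor
          · rintro ⟨l', rfl⟩; exact hall l'
          · rintro rfl; exact ⟨l, rfl⟩
        have : (t : ℤ) = 1 := by rw [← hZcard, hZ1]; simp
        apply hκ
        rw [hκdef, this, ha₀]; ring
      · refine ⟨l, ?_⟩
        rw [hD, hA, if_pos rfl, mul_one]
        exact h1
    | some s =>
      rw [hv1] at hx
      have hxs : x = s.1 := by
        by_contra h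
        rw [if_neg h] at hx
        exact hx rfl
      refine ⟨l₀, ?_⟩
      rw [hxs, hDZ l₀ _ ((hmemSF _).mp s.2).2]
      exact ((hmemSF _).mp s.2).1
  · intro i j l
    have : ∀ x, (a j * v i x - a i * v j x) * D l x
        = a j * (v i x * D l x) - a i * (v j x * D l x) := by
      intro x; ring
    rw [Finset.sum_congr rfl (fun x _ => this x), Finset.sum_sub_distrib, ← Finset.mul_sum,
      ← Finset.mul_sum, hva, hva]
    ring
  · -- the inequality
    have hexp : ∀ i j, ∑ x, (a j * v i x - a i * v j x) ^ 2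
        = w i * (a j * a j) + (a i * a i) * w j
          - (if i = j then 2 * (a i * a j) * w i else 0) := by
      intro i j
      have : ∀ x, (a j * v i x - a i * v j x) ^ 2 = a j * a j * (v i x * v i x)
          + a i * a i * (v j x * v j x) - 2 * (a i * a j) * (v i x * v j x) := by
        intro x; ring
      rw [Finset.sum_congr rfl (fun x _ => this x), Finset.sum_sub_distrib,
        Finset.sum_add_distrib, ← Finset.mul_sum, ← Finset.mul_sum, ← Finset.mul_sum, hG, hG, hG,
        if_pos rfl, if_pos rfl]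
      split_ifs <;> ring
    simp only [hexp]
    have hW : ∑ i, w i = t + SF.card := by
      rw [Fintype.sum_option, hw0]
      simp [hw1]
    have hA2 : ∑ i, a i * a i = κ * κ + nc := by
      rw [Fintype.sum_option, ha0]
      simp only [ha1]
      rw [hnc, Finset.sum_coe_sort SF (fun x => A x * A x)]
    have hAW : ∑ i, a i * a i * w i = κ * κ * t + nc := by
      rw [Fintype.sum_option, ha0, hw0]
      simp only [ha1, hw1, mul_one]
      rw [hnc, Finset.sum_coe_sort SF (fun x => A x * A x)]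
    have htotal : ∑ i, ∑ j, (w i * (a j * a j) + (a i * a i) * w j
          - (if i = j then 2 * (a i * a j) * w i else 0))
        = 2 * ((∑ i, w i) * (∑ j, a j * a j)) - 2 * ∑ i, a i * a i * w i := by
      have e1 : ∑ i, ∑ j, w i * (a j * a j) = (∑ i, w i) * (∑ j, a j * a j) :=
        (Finset.sum_mul_sum _ _ _ _).symm
      have e2 : ∑ i, ∑ j, (a i * a i) * w j = (∑ j, a j * a j) * (∑ i, w i) :=
        (Finset.sum_mul_sum _ _ _ _).symm
      have e3 : ∑ i, ∑ j, (if i = j then 2 * (a i * a j) * w i else 0)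
          = 2 * ∑ i, a i * a i * w i := by
        simp only [Finset.sum_ite_eq, Finset.mem_univ, if_true]
        rw [Finset.mul_sum]
        apply Finset.sum_congr rfl
        intro i _
        ring
      simp only [Finset.sum_sub_distrib, Finset.sum_add_distrib]
      rw [e1, e2, e3]
      ring
    rw [htotal, hW, hA2, hAW, hte, Fintype.card_option, Fintype.card_coe]
    have hnc0 : 0 ≤ nc := by
      rw [hnc]
      exact Finset.sum_nonneg (fun x _ => mul_self_nonneg _)
    push_cast
    by_cases hN : SF.card = 0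
    · have hSe : SF = ∅ := Finset.card_eq_zero.mp hN
      have hnc1 : nc = 0 := by rw [hnc, hSe]; simp
      have hN' : (SF.card : ℤ) = 0 := by exact_mod_cast hN
      rw [hN', hnc1]
      apply le_of_eq
      ring
    · have hN1 : (1 : ℤ) ≤ SF.card := by
        have : 0 < SF.card := Nat.pos_of_ne_zero hN
        exact_mod_cast this
      have h3 : 0 ≤ nc * ((SF.card : ℤ) - 1) * ((t : ℤ) - 1) :=
        mul_nonneg (mul_nonneg hnc0 (by linarith)) (by linarith)
      nlinarith [h3]
  · intro y hy hsupp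
    obtain ⟨yA, hyA⟩ : ∃ yA : ℤ, yA = ∑ x, y x * A x := ⟨_, rfl⟩
    have h1 : ∀ l, y (ζ l) = δ * yA := by
      intro l
      have h0 := hy l
      have h2 : ∀ x, y x * D l x = y x * A x - δ * (if x = ζ l then y x else 0) := by
        intro x
        rw [hD]
        split_ifs <;> ring
      rw [Finset.sum_congr rfl (fun x _ => h2 x), Finset.sum_sub_distrib, ← Finset.mul_sum,
        Finset.sum_ite_eq', if_pos (Finset.mem_univ _), ← hyA] at h0
      have h3 : δ * yA = δ * δ * y (ζ l) := by linear_combination δ * h0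
      rw [hδ2, one_mul] at h3
      exact h3.symm
    obtain ⟨η, hη⟩ : ∃ η : ℤ, η = δ * yA := ⟨_, rfl⟩
    have hyZ : ∀ x ∈ Z, y x = η := by
      intro x hx
      obtain ⟨l, rfl⟩ := (hmemZ x).mp hx
      rw [h1, hη]
    have hy0 : ∀ x, x ∉ Z → A x = 0 → y x = 0 := by
      intro x hx hx0
      by_contra hne
      obtain ⟨l, hl⟩ := hsupp x hne
      rw [hDZ l x hx] at hl
      exact hl hx0
    refine ⟨fun i => i.elim η (fun s => y s.1), ?_, ?_⟩
    · intro x
      rw [Fintype.sum_option]
      simp only [Option.elim, hv0, hv1]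
      rw [Finset.sum_coe_sort SF (fun s => y s * if x = s then 1 else 0)]
      simp only [mul_ite, mul_one, mul_zero]
      rw [Finset.sum_ite_eq]
      by_cases hxZ : x ∈ Z
      · rw [if_pos hxZ, if_neg (fun h => ((hmemSF x).mp h).2 hxZ), add_zero, hyZ x hxZ]
      · rw [if_neg hxZ, zero_add]
        by_cases hxS : x ∈ SF
        · rw [if_pos hxS]
        · rw [if_neg hxS]
          apply hy0 x hxZ
          by_contra hne
          exact hxS ((hmemSF x).mpr ⟨hne, hxZ⟩)
    · rw [Fintype.sum_option]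
      simp only [Option.elim, ha0, ha1]
      rw [Finset.sum_coe_sort SF (fun s => y s * A s)]
      have h4 := split (fun x => y x * A x) (by
        intro x hx hx0
        show y x * A x = 0
        rw [hx0, mul_zero])
      rw [← hyA] at h4
      have h5 : ∑ x ∈ Z, y x * A x = t * (η * a₀) := by
        rw [Finset.sum_congr rfl (fun x hx => by rw [hyZ x hx, hAZ x hx]), Finset.sum_const,
          nsmul_eq_mul, hZcard]
      have h6 : yA = δ * η := by
        rw [hη, ← mul_assoc, hδ2, one_mul]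
      rw [h5] at h4
      rw [hκdef]
      linear_combination h6 - h4

end Cfsg.Agent.Lib.Helper76D1CombB
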