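import Mathlib
import Cfsg.Agent.Lib.Helper81D1Defs

set_option autoImplicit false
set_option linter.unusedVariables false
set_option linter.unusedSectionVars false

namespace Cfsg.Agent.Lib.Helper76D1Deg

open Cfsg
open Cfsg.Agent.Lib.Helper81Local Cfsg.Agent.Lib.Helper81Rank Cfsg.Agent.Lib.Helper84Subsec
  Cfsg.Agent.Lib.Helper84Subsec2 Cfsg.Agent.Lib.Helper84Contrib Cfsg.Agent.Lib.Helper80Trace
  Cfsg.Agent.Lib.Helper80Brauer Cfsg.Agent.Lib.Helper80Transport Cfsg.Agent.Lib.Helper82Quot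
  Cfsg.Agent.Lib.Helper82Major Cfsg.Agent.Lib.Helper78Sec Cfsg.Agent.Lib.Helper81D1Defs
open scoped ComplexConjugate

universe u

section B

variable {G : Type u} [Group G] [Fintype G] {p : ℕ} [Fact p.Prime] {M : Ideal AlgInt}

/-- a combination of irreducible characters vanishing on the `p`-singular elements is orthogonal
to `Ind (ζ - ξ)` when `ζ`, `ξ` agree on the `p`-regular elements. -/
theorem key {H : Subgroup G} [Fintype H] (f : IrrCharacter G → ℂ)
    (hf : ∀ g : G, p ∣ orderOf g → ∑ χ : IrrCharacter G, f χ * (χ : G → ℂ) g = 0)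
    (ζ ξ : IrrCharacter H)
    (hreg : ∀ y : H, ¬ p ∣ orderOf y → (ζ : H → ℂ) y = (ξ : H → ℂ) y) :
    ∑ χ : IrrCharacter G, f χ * ((nA χ ζ : ℂ) - nA χ ξ) = 0 := by
  have h1 : ∀ η : IrrCharacter H, ∑ χ : IrrCharacter G, f χ * (nA χ η : ℂ)
      = (Nat.card H : ℂ)⁻¹ * ∑ h : H, (∑ χ : IrrCharacter G, f χ * (χ : G → ℂ) h)
          * conj ((η : H → ℂ) h) := by
    intro η
    simp only [← nA_spec, AA, classInner]
    simp only [Finset.sum_mul, Finset.mul_sum]
    rw [Finset.sum_comm]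
    apply Finset.sum_congr rfl
    intro h _
    apply Finset.sum_congr rfl
    intro χ _
    ring
  simp only [mul_sub]
  rw [Finset.sum_sub_distrib, h1, h1, sub_eq_zero]
  congr 1
  apply Finset.sum_congr rfl
  intro h _
  by_cases hp : p ∣ orderOf h
  · rw [hf (h : G) (by rwa [Subgroup.orderOf_coe])]
    simp
  · rw [hreg h hp]

variable {B : Set (IrrCharacter G)} {P : Subgroup G}
  [Fintype (Subgroup.centralizer (P : Set G))]
  {e : Set (IrrCharacter (Subgroup.centralizer (P : Set G)))}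
  {u : Subgroup.centralizer (P : Set G)}

/-- piece `deg` -/
theorem deg_sum (h : Ctx p M B P e u) (hcb : CB p e u)
    {ζ ξ : IrrCharacter (Subgroup.centralizer (P : Set G))} (hζ : ζ ∈ e) (hξ : ξ ∈ e) :
    ∑ χ : IrrCharacter G, ((nA χ ζ : ℤ) - nA χ ξ) * (charDegree (χ : G → ℂ) : ℤ) = 0 := by
  classical
  have hp : p.Prime := Fact.out
  have h1 := key (p := p) (fun χ : IrrCharacter G => (χ : G → ℂ) 1) (by
    intro g hg
    have hg1 : g ≠ 1 := by
      rintro rfl
      rw [orderOf_one] at hg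
      exact hp.one_lt.ne' (Nat.dvd_one.1 hg)
    have h2 := Cfsg.Agent.Lib.Helper81Second3.sum_irr_one_mul_conj g
    rw [if_neg hg1] at h2
    have h3 := congrArg conj h2
    rw [map_zero, map_sum] at h3
    rw [← h3]
    apply Finset.sum_congr rfl
    intro χ _
    rw [map_mul, Complex.conj_conj, ← Cfsg.Agent.Lib.Helper81Base.charDegree_eq, map_natCast]) ζ ξ (hcb.reg ζ hζ ξ hξ)
  have h4 : ((∑ χ : IrrCharacter G, ((nA χ ζ : ℤ) - nA χ ξ) * (charDegree (χ : G → ℂ) : ℤ) : ℤ) : ℂ)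
      = 0 := by
    rw [← h1]
    push_cast
    apply Finset.sum_congr rfl
    intro χ _
    rw [Cfsg.Agent.Lib.Helper81Base.charDegree_eq]
    ring
  exact_mod_cast h4

/-- piece `orthN` -/
theorem orthN (h : Ctx p M B P e u) (hcb : CB p e u)
    {ζ ξ : IrrCharacter (Subgroup.centralizer (P : Set G))} (hζ : ζ ∈ e) (hξ : ξ ∈ e)
    (ψ : IrrCharacter G) :
    ∑ χ : IrrCharacter G, N p ψ χ * ((nA χ ζ : ℤ) - nA χ ξ) = 0 := by
  classical
  have h1 := key (p := p) (fun χ : IrrCharacter G => (N p ψ χ : ℂ)) (by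
    intro g hg
    have h2 := congrFun (tld_eq_sum (p := p) ψ) g
    rw [tld_def] at h2
    simp only [if_pos hg, Finset.sum_apply, Pi.smul_apply, smul_eq_mul] at h2
    exact h2.symm) ζ ξ (hcb.reg ζ hζ ξ hξ)
  have h4 : ((∑ χ : IrrCharacter G, N p ψ χ * ((nA χ ζ : ℤ) - nA χ ξ) : ℤ) : ℂ) = 0 := by
    rw [← h1]
    push_cast
    rfl
  exact_mod_cast h4

end B

end Cfsg.Agent.Lib.Helper76D1Deg
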