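import Mathlib

set_option autoImplicit false
set_option linter.unusedVariables false
set_option linter.unusedSectionVars false

namespace Cfsg.Agent.Lib.Helper76D1Fourier

open scoped ComplexConjugate

theorem geom (p : ℕ) (z : ℂ) (hz : z ^ p = 1) :
    ∑ t ∈ Finset.range p, z ^ t = if z = 1 then (p : ℂ) else 0 := by
  split_ifs with h
  · subst h; simp
  · have := mul_neg_geom_sum z p
    rw [hz, sub_self] at this
    exact (mul_eq_zero.mp this).resolve_left (sub_ne_zero.mpr (Ne.symm h))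

/-- `∑_{t<p} (u^t - 1)(w^t - 1)` for nontrivial `p`-th roots of unity -/
theorem geom2 (p : ℕ) (u w : ℂ) (hu : u ^ p = 1) (hw : w ^ p = 1) (hu1 : u ≠ 1) (hw1 : w ≠ 1) :
    ∑ t ∈ Finset.range p, (u ^ t - 1) * (w ^ t - 1)
      = (if u * w = 1 then (p : ℂ) else 0) + p := by
  have h : ∀ t, (u ^ t - 1) * (w ^ t - 1) = (u * w) ^ t - u ^ t - w ^ t + 1 := by
    intro t; rw [mul_pow]; ring
  simp only [h, Finset.sum_add_distrib, Finset.sum_sub_distrib]
  rw [geom p _ (by rw [mul_pow, hu, hw, one_mul]), geom p u hu, geom p w hw, if_neg hu1,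
    if_neg hw1]
  simp

theorem mod_mem_Ioo {p : ℕ} (hp : p.Prime) {r t : ℕ} (hr : 0 < r ∧ r < p) (ht : 0 < t ∧ t < p) :
    0 < (r * t) % p ∧ (r * t) % p < p := by
  refine ⟨Nat.pos_of_ne_zero ?_, Nat.mod_lt _ hp.pos⟩
  intro h
  have h1 : p ∣ r * t := Nat.dvd_of_mod_eq_zero h
  rcases (Nat.Prime.dvd_mul hp).mp h1 with h2 | h2
  · exact absurd (Nat.le_of_dvd hr.1 h2) (by omega)
  · exact absurd (Nat.le_of_dvd ht.1 h2) (by omega)

theorem mod_inj {p : ℕ} (hp : p.Prime) {r r' t : ℕ} (hr : r < p) (hr' : r' < p)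
    (ht : 0 < t ∧ t < p) (h : (r * t) % p = (r' * t) % p) : r = r' := by
  have hc : Nat.gcd p t = 1 := by
    rw [← Nat.coprime_iff_gcd_eq_one, Nat.Prime.coprime_iff_not_dvd hp]
    intro h2
    exact absurd (Nat.le_of_dvd ht.1 h2) (by omega)
  have h1 : r ≡ r' [MOD p] := Nat.ModEq.cancel_right_of_coprime hc h
  unfold Nat.ModEq at h1
  rwa [Nat.mod_eq_of_lt hr, Nat.mod_eq_of_lt hr'] at h1

/-- piece `fourier` -/
theorem fourier_gram {X Λ : Type*} [Fintype X] [Fintype Λ] (p : ℕ) (hp : p.Prime)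
    (a : Λ → ℂ) (ha : ∀ l, a l ^ p = 1) (hinj : Function.Injective a)
    (hcard : Fintype.card Λ = p) (n : X → Λ → ℤ) (E : Finset ℕ) (hE : ∀ r ∈ E, 0 < r ∧ r < p)
    (horth : ∀ t s : ℕ, 0 < t → t < p → 0 < s → s < p →
      ∑ χ : X, (∑ l, (n χ l : ℂ) * a l ^ t) * conj (∑ l, (n χ l : ℂ) * a l ^ s)
        = open Classical in if ∃ r ∈ E, (r * t) % p = s then (p : ℂ) else 0)
    (l₁ l l' : Λ) (h1 : a l₁ = 1) (hl : l ≠ l₁) (hl' : l' ≠ l₁) :
    ∑ χ : X, (n χ l - n χ l₁) * (n χ l' - n χ l₁)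
      = (E.card : ℤ) + open Classical in if ∃ r ∈ E, a l' ^ r = a l then 1 else 0 := by
  classical
  have : Fact p.Prime := ⟨hp⟩
  have hp0 : (p : ℂ) ≠ 0 := Nat.cast_ne_zero.mpr hp.ne_zero
  have hnorm : ∀ l, a l * conj (a l) = 1 := by
    intro l
    rw [Complex.mul_conj, Complex.normSq_eq_norm_sq,
      Complex.norm_eq_one_of_pow_eq_one (ha l) hp.ne_zero]
    simp
  have hcp : ∀ l, conj (a l) ^ p = 1 := by
    intro l; rw [← map_pow, ha, map_one]
  obtain ⟨dd, hdd⟩ : ∃ dd : X → ℕ → ℂ, ∀ χ t, dd χ t = ∑ l, (n χ l : ℂ) * a l ^ t :=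
    ⟨_, fun _ _ => rfl⟩
  simp only [← hdd] at horth
  -- Fourier inversion
  have hinv : ∀ χ l, ∑ t ∈ Finset.range p, dd χ t * conj (a l) ^ t = p * n χ l := by
    intro χ l
    simp only [hdd, Finset.sum_mul]
    rw [Finset.sum_comm]
    have : ∀ l'', ∑ t ∈ Finset.range p, (n χ l'' : ℂ) * a l'' ^ t * conj (a l) ^ t
        = if l'' = l then (p : ℂ) * (n χ l'' : ℂ) else 0 := by
      intro l''
      simp only [mul_assoc, ← mul_pow, ← Finset.mul_sum]
      rw [geom p _ (by rw [mul_pow, ha, hcp, one_mul])]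
      by_cases h : l'' = l
      · subst h; rw [if_pos (hnorm _), if_pos rfl, mul_comm]
      · rw [if_neg, if_neg h, mul_zero]
        intro h1
        apply h
        apply hinj
        calc a l'' = a l'' * conj (a l) * a l := by
              rw [mul_assoc, mul_comm (conj _), hnorm, mul_one]
          _ = a l := by rw [h1, one_mul]
    rw [Finset.sum_congr rfl (fun l'' _ => this l''), Finset.sum_ite_eq',
      if_pos (Finset.mem_univ _)]
  obtain ⟨T, hT⟩ : ∃ T : Finset ℕ, T = Finset.Ioo 0 p := ⟨_, rfl⟩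
  have hmemT : ∀ t, t ∈ T ↔ 0 < t ∧ t < p := by
    intro t; rw [hT, Finset.mem_Ioo]
  have hrangeT : ∀ f : ℕ → ℂ, f 0 = 0 → ∑ t ∈ Finset.range p, f t = ∑ t ∈ T, f t := by
    intro f hf
    symm
    apply Finset.sum_subset
    · intro t ht
      exact Finset.mem_range.mpr ((hmemT t).mp ht).2
    · intro t ht ht'
      have : t = 0 := by
        rw [Finset.mem_range] at ht
        rw [hmemT] at ht'
        omega
      rw [this, hf]
  have hDl : ∀ χ l, (p : ℂ) * ((n χ l : ℂ) - n χ l₁)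
      = ∑ t ∈ T, dd χ t * (conj (a l) ^ t - 1) := by
    intro χ l
    rw [← hrangeT _ (by simp)]
    simp only [mul_sub, mul_one, Finset.sum_sub_distrib]
    rw [hinv]
    have := hinv χ l₁
    rw [h1] at this
    simp only [map_one, one_pow, mul_one] at this
    rw [this]
  -- orthogonality summed against a function
  have key : ∀ t ∈ T, ∀ g : ℕ → ℂ, ∑ s ∈ T, g s * (∑ χ, dd χ t * conj (dd χ s))
      = p * ∑ r ∈ E, g ((r * t) % p) := by
    intro t ht g
    have ht' := (hmemT t).mp ht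
    have h2 : ∀ s ∈ T, g s * (∑ χ, dd χ t * conj (dd χ s))
        = if s ∈ E.image (fun r => (r * t) % p) then p * g s else 0 := by
      intro s hs
      have hs' := (hmemT s).mp hs
      rw [horth t s ht'.1 ht'.2 hs'.1 hs'.2]
      by_cases h : ∃ r ∈ E, (r * t) % p = s
      · rw [if_pos h, if_pos (Finset.mem_image.mpr h), mul_comm]
      · rw [if_neg h, if_neg (fun h' => h (Finset.mem_image.mp h')), mul_zero]
    rw [Finset.sum_congr rfl h2, Finset.sum_ite_mem]
    have h3 : T ∩ E.image (fun r => (r * t) % p) = E.image (fun r => (r * t) % p) := by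
      apply Finset.inter_eq_right.mpr
      intro s hs
      obtain ⟨r, hr, rfl⟩ := Finset.mem_image.mp hs
      exact (hmemT _).mpr (mod_mem_Ioo hp (hE r hr) ht')
    rw [h3, Finset.sum_image, Finset.mul_sum]
    intro r hr r' hr' h
    exact mod_inj hp (hE r hr).2 (hE r' hr').2 ht' h
  have hal1 : ∀ k, k ≠ l₁ → a k ≠ 1 := by
    intro k hk h
    exact hk (hinj (h.trans h1.symm))
  have hu1 : conj (a l) ≠ 1 := by
    intro h
    apply hal1 l hl
    have := hnorm l
    rwa [h, mul_one] at this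
  have hord : orderOf (a l') = p := orderOf_eq_prime (ha l') (hal1 l' hl')
  have hw1 : ∀ r ∈ E, a l' ^ r ≠ 1 := by
    intro r hr h
    have h2 := orderOf_dvd_of_pow_eq_one h
    rw [hord] at h2
    exact absurd (Nat.le_of_dvd (hE r hr).1 h2) (by have := (hE r hr).2; omega)
  have hmain : (p : ℂ) * p * ∑ χ, ((n χ l : ℂ) - n χ l₁) * ((n χ l' : ℂ) - n χ l₁)
      = p * p * ((E.card : ℂ) + if ∃ r ∈ E, a l' ^ r = a l then 1 else 0) := by
    have h2 : ∀ χ, (p : ℂ) * p * (((n χ l : ℂ) - n χ l₁) * ((n χ l' : ℂ) - n χ l₁))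
        = ∑ t ∈ T, ∑ s ∈ T, ((conj (a l) ^ t - 1) * (a l' ^ s - 1))
            * (dd χ t * conj (dd χ s)) := by
      intro χ
      have e1 : (p : ℂ) * ((n χ l' : ℂ) - n χ l₁)
          = conj ((p : ℂ) * ((n χ l' : ℂ) - n χ l₁)) := by
        simp
      calc (p : ℂ) * p * (((n χ l : ℂ) - n χ l₁) * ((n χ l' : ℂ) - n χ l₁))
          = ((p : ℂ) * ((n χ l : ℂ) - n χ l₁)) * ((p : ℂ) * ((n χ l' : ℂ) - n χ l₁)) := by ring
        _ = ((p : ℂ) * ((n χ l : ℂ) - n χ l₁)) * conj ((p : ℂ) * ((n χ l' : ℂ) - n χ l₁)) := by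
            rw [← e1]
        _ = (∑ t ∈ T, dd χ t * (conj (a l) ^ t - 1))
              * conj (∑ s ∈ T, dd χ s * (conj (a l') ^ s - 1)) := by
            rw [hDl, hDl]
        _ = _ := by
            rw [map_sum, Finset.sum_mul_sum]
            apply Finset.sum_congr rfl; intro t _
            apply Finset.sum_congr rfl; intro s _
            simp only [map_mul, map_sub, map_pow, map_one, Complex.conj_conj]
            ring
    rw [Finset.mul_sum, Finset.sum_congr rfl (fun χ _ => h2 χ), Finset.sum_comm]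
    have h3 : ∀ t ∈ T, ∑ χ, ∑ s ∈ T, ((conj (a l) ^ t - 1) * (a l' ^ s - 1))
            * (dd χ t * conj (dd χ s))
        = p * ∑ r ∈ E, (conj (a l) ^ t - 1) * ((a l' ^ r) ^ t - 1) := by
      intro t ht
      rw [Finset.sum_comm]
      rw [Finset.sum_congr rfl (fun s _ => (Finset.mul_sum _ _ _).symm)]
      rw [key t ht (fun s => (conj (a l) ^ t - 1) * (a l' ^ s - 1))]
      congr 1
      apply Finset.sum_congr rfl
      intro r _
      show (conj (a l) ^ t - 1) * (a l' ^ ((r * t) % p) - 1) = _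
      rw [← pow_eq_pow_mod _ (ha l'), pow_mul]
    rw [Finset.sum_congr rfl h3, ← Finset.mul_sum, Finset.sum_comm]
    have h4 : ∀ r ∈ E, ∑ t ∈ T, (conj (a l) ^ t - 1) * ((a l' ^ r) ^ t - 1)
        = p * ((if a l' ^ r = a l then 1 else 0) + 1) := by
      intro r hr
      rw [← hrangeT _ (by simp), geom2 p _ _ (hcp l)
        (by rw [← pow_mul, mul_comm, pow_mul, ha, one_pow]) hu1 (hw1 r hr)]
      by_cases h : a l' ^ r = a l
      · rw [if_pos h, if_pos (by rw [h, mul_comm, hnorm])]; ring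
      · rw [if_neg h, if_neg]
        · ring
        · intro h5
          apply h
          calc a l' ^ r = a l * conj (a l) * a l' ^ r := by rw [hnorm, one_mul]
            _ = a l := by rw [mul_assoc, h5, mul_one]
    rw [Finset.sum_congr rfl h4, ← Finset.mul_sum, Finset.sum_add_distrib]
    have h5 : ∑ r ∈ E, (if a l' ^ r = a l then (1 : ℂ) else 0)
        = if ∃ r ∈ E, a l' ^ r = a l then 1 else 0 := by
      by_cases h : ∃ r ∈ E, a l' ^ r = a l
      · rw [if_pos h]
        obtain ⟨r₀, hr₀, hr₀'⟩ := h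
        have : ∀ r ∈ E, (if a l' ^ r = a l then (1 : ℂ) else 0) = if r = r₀ then 1 else 0 := by
          intro r hr
          by_cases hrr : r = r₀
          · rw [if_pos hrr, if_pos (by rw [hrr, hr₀'])]
          · rw [if_neg hrr, if_neg]
            intro h6
            apply hrr
            apply pow_injOn_Iio_orderOf (x := a l')
            · rw [hord]; exact (hE r hr).2
            · rw [hord]; exact (hE r₀ hr₀).2
            · show a l' ^ r = a l' ^ r₀
              rw [h6, hr₀']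
        rw [Finset.sum_congr rfl this, Finset.sum_ite_eq', if_pos hr₀]
      · rw [if_neg h]
        apply Finset.sum_eq_zero
        intro r hr
        rw [if_neg (fun h' => h ⟨r, hr, h'⟩)]
    rw [h5]
    simp only [Finset.sum_const, nsmul_eq_mul, mul_one]
    ring
  have hfin := mul_left_cancel₀ (mul_ne_zero hp0 hp0) hmain
  apply Int.cast_injective (α := ℂ)
  push_cast
  rw [hfin]

end Cfsg.Agent.Lib.Helper76D1Fourier
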