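import Mathlib
import Cfsg.Agent.Lib.Helper76SylowCount
import Cfsg.Agent.Lib.Helper79PGroup
import Cfsg.Agent.Lib.Helper1UniqInv
import Cfsg.Agent.S0015
import Cfsg.Agent.S0016

set_option autoImplicit false

/-! Normal four-subgroups of 2-groups: a finite 2-group has a normal elementary abelian subgroup of
order 4 or a cyclic (normal) subgroup of index at most 2. -/

namespace Cfsg.Agent.Lib.Helper76FourGroup

open Subgroup

variable {P : Type*} [Group P]

theorem card_mul_relIndex_le {H K : Subgroup P} (h : H ≤ K) :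
    Nat.card H * H.relIndex K = Nat.card K := by
  rw [← Subgroup.relIndex_bot_left, ← Subgroup.relIndex_bot_left,
    Subgroup.relIndex_mul_relIndex _ _ _ bot_le h]

theorem card_sup_of_commute (A B : Subgroup P)
    (hc : A ≤ Subgroup.centralizer (B : Set P)) (hd : A ⊓ B = ⊥) :
    Nat.card ↥(A ⊔ B) = Nat.card A * Nat.card B := by
  have h1 := Cfsg.Agent.Lib.Helper76SylowCount.relIndex_sup_of_le_normalizer A B
    (hc.trans (Subgroup.centralizer_le_normalizer _))
  have h2 := card_mul_relIndex_le (le_sup_right : B ≤ A ⊔ B)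
  rw [h1, ← Subgroup.inf_relIndex_right, inf_comm, hd, Subgroup.relIndex_bot_left] at h2
  rw [← h2, mul_comm]

theorem zpow_eq_iff (a : P) (m : ℕ) (ha : orderOf a = 2 ^ m) (u v : ℤ) :
    a ^ u = a ^ v ↔ (2:ℤ) ^ m ∣ u - v := by
  rw [zpow_eq_zpow_iff_modEq, ha, Int.modEq_iff_dvd, ← dvd_neg, neg_sub]
  push_cast
  rfl

theorem zpow_eq_one_iff' (a : P) (m : ℕ) (ha : orderOf a = 2 ^ m) (u : ℤ) :
    a ^ u = 1 ↔ (2:ℤ) ^ m ∣ u := by
  have := zpow_eq_iff a m ha u 0
  simpa using this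

theorem conj_zpow_eq (a y : P) (r : ℤ) (h : y * a * y⁻¹ = a ^ r) (t : ℤ) :
    y * a ^ t * y⁻¹ = a ^ (r * t) := by
  rw [← conj_zpow, h, ← zpow_mul]

theorem conj_mul_eq (a y y' : P) (r r' : ℤ) (h : y * a * y⁻¹ = a ^ r) (h' : y' * a * y'⁻¹ = a ^ r') :
    (y * y') * a * (y * y')⁻¹ = a ^ (r * r') := by
  have e : (y * y') * a * (y * y')⁻¹ = y * (y' * a * y'⁻¹) * y⁻¹ := by group
  rw [e, h', conj_zpow_eq a y r h]

theorem conj_pow_eq (a y : P) (r : ℤ) (h : y * a * y⁻¹ = a ^ r) (j : ℕ) :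
    y ^ j * a * (y ^ j)⁻¹ = a ^ (r ^ j) := by
  induction j with
  | zero => simp
  | succ j ih =>
    have := conj_mul_eq a y (y ^ j) r (r ^ j) h ih
    rwa [← pow_succ', ← pow_succ'] at this

theorem odd_of_conj (a y : P) (k : ℕ) (ha : orderOf a = 2 ^ (k + 1)) (r : ℤ)
    (h : y * a * y⁻¹ = a ^ r) : Odd r := by
  by_contra hr
  rw [Int.not_odd_iff_even] at hr
  obtain ⟨j, rfl⟩ := hr
  have h1 : (y * a * y⁻¹) ^ (2 ^ k) = 1 := by
    rw [h, ← zpow_natCast, ← zpow_mul]
    have : (j + j) * ((2 ^ k : ℕ) : ℤ) = ((2 ^ (k + 1) : ℕ) : ℤ) * j := by push_cast; ring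
    rw [this, zpow_mul, zpow_natCast, ← ha, pow_orderOf_eq_one, one_zpow]
  rw [conj_pow] at h1
  have h2 : a ^ (2 ^ k) = 1 := by
    have : a ^ (2 ^ k) = y⁻¹ * (y * a ^ (2 ^ k) * y⁻¹) * y := by group
    rw [this, h1]; group
  have h3 := orderOf_dvd_of_pow_eq_one h2
  rw [ha] at h3
  have := (Nat.pow_dvd_pow_iff_le_right (by norm_num : 1 < 2)).mp h3
  omega

theorem nt_sq (k : ℕ) (r : ℤ) (h1 : (2:ℤ) ^ (k + 2) ∣ r ^ 2 - 1) :
    (2:ℤ) ^ (k + 2) ∣ r - 1 ∨ (2:ℤ) ^ (k + 2) ∣ r + 1 ∨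
      (1 ≤ k ∧ (2:ℤ) ^ (k + 2) ∣ r - 1 - 2 ^ (k + 1)) ∨
      (1 ≤ k ∧ (2:ℤ) ^ (k + 2) ∣ r + 1 - 2 ^ (k + 1)) := by
  have hodd : Odd r := by
    by_contra h
    rw [Int.not_odd_iff_even] at h
    obtain ⟨j, rfl⟩ := h
    have h2 : (2:ℤ) ∣ (j + j) ^ 2 - 1 := (dvd_pow_self 2 (by omega)).trans h1
    have e : (j + j) ^ 2 - 1 = 2 * (2 * (j * j)) - 1 := by ring
    rw [e] at h2
    omega
  obtain ⟨j, rfl⟩ := hodd
  have e : (2 * j + 1) ^ 2 - 1 = 2 ^ 2 * (j * (j + 1)) := by ring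
  rw [e, pow_add, mul_comm ((2:ℤ) ^ k)] at h1
  have h2 : (2:ℤ) ^ k ∣ j * (j + 1) := (mul_dvd_mul_iff_left (by norm_num)).mp h1
  have hp : Prime (2:ℤ) := Int.prime_two
  have h3 : (2:ℤ) ^ k ∣ j ∨ (2:ℤ) ^ k ∣ j + 1 := by
    rcases Int.even_or_odd j with hj | hj
    · left
      apply hp.pow_dvd_of_dvd_mul_right k _ h2
      intro h
      obtain ⟨c, hc⟩ := hj
      omega
    · right
      apply hp.pow_dvd_of_dvd_mul_left k _ h2
      intro h
      obtain ⟨c, hc⟩ := hj
      omega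
  rcases h3 with ⟨c, hc⟩ | ⟨c, hc⟩
  · rcases Int.even_or_odd c with ⟨d, hd⟩ | ⟨d, hd⟩
    · left
      refine ⟨d, ?_⟩
      rw [hc, hd]; ring
    · rcases Nat.eq_zero_or_pos k with rfl | hk
      · right; left
        refine ⟨d + 1, ?_⟩
        rw [hc, hd]; ring
      · right; right; left
        refine ⟨hk, d, ?_⟩
        rw [hc, hd]; ring
  · have hj : j = 2 ^ k * c - 1 := by linarith
    rcases Int.even_or_odd c with ⟨d, hd⟩ | ⟨d, hd⟩
    · right; left
      refine ⟨d, ?_⟩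
      rw [hj, hd]; ring
    · rcases Nat.eq_zero_or_pos k with rfl | hk
      · left
        refine ⟨d, ?_⟩
        rw [hj, hd]; ring
      · right; right; right
        refine ⟨hk, d, ?_⟩
        rw [hj, hd]; ring

theorem sq_mul_zpow (a x : P) (r s : ℤ) (hr : x * a * x⁻¹ = a ^ r) (hs : x ^ 2 = a ^ s) (t : ℤ) :
    (x * a ^ t) ^ 2 = a ^ (r * t + s + t) := by
  rw [zpow_add, zpow_add, ← conj_zpow_eq a x r hr, ← hs, pow_two, pow_two]; group

theorem modular_involution (l : ℕ) (a x : P) (ha : orderOf a = 2 ^ (l + 3)) (r s : ℤ)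
    (hr : x * a * x⁻¹ = a ^ r) (hs : x ^ 2 = a ^ s)
    (hrM : (2:ℤ) ^ (l + 3) ∣ r - 1 - 2 ^ (l + 2)) : ∃ t : ℤ, (x * a ^ t) ^ 2 = 1 := by
  have h2 : (2:ℤ) ^ (l + 3) ∣ s * (r - 1) := by
    have e1 : x * x ^ 2 * x⁻¹ = x ^ 2 := by group
    rw [hs, conj_zpow_eq a x r hr, zpow_eq_iff a _ ha] at e1
    have : s * (r - 1) = r * s - s := by ring
    rwa [this]
  have h4 : (2:ℤ) ^ (l + 3) ∣ s * 2 ^ (l + 2) := by
    have e : s * 2 ^ (l + 2) = s * (r - 1) - s * (r - 1 - 2 ^ (l + 2)) := by ring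
    rw [e]
    exact dvd_sub h2 (Dvd.dvd.mul_left hrM s)
  have h5 : (2:ℤ) ∣ s := by
    have e : (2:ℤ) ^ (l + 3) = 2 * 2 ^ (l + 2) := by ring
    rw [e] at h4
    exact (mul_dvd_mul_iff_right (by positivity)).mp h4
  obtain ⟨c, hc⟩ := h5
  obtain ⟨w, hw⟩ := hrM
  refine ⟨-c * (1 - 2 ^ (l + 1)), ?_⟩
  rw [sq_mul_zpow a x r s hr hs, zpow_eq_one_iff' a _ ha]
  have hr' : r = 2 ^ (l + 3) * w + 1 + 2 ^ (l + 2) := by linarith
  refine ⟨w * (-c * (1 - 2 ^ (l + 1))) + c * 2 ^ l, ?_⟩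
  rw [hr', hc]; ring

theorem mem_zpowers_of_sq_eq_one {b y : P} (hb : b ^ 2 = 1) (hy : y ∈ zpowers b) : y = 1 ∨ y = b := by
  obtain ⟨i, rfl⟩ := mem_zpowers_iff.mp hy
  rcases Int.even_or_odd i with ⟨j, rfl⟩ | ⟨j, rfl⟩
  · left
    rw [← two_mul, zpow_mul, zpow_ofNat, hb, one_zpow]
  · right
    rw [zpow_add, zpow_mul, zpow_ofNat, hb, one_zpow, one_mul, zpow_one]

theorem four_group_of (b z : P) (hb2 : b ^ 2 = 1) (hz2 : z ^ 2 = 1) (hz1 : z ≠ 1)
    (hzc : ∀ g : P, g * z * g⁻¹ = z) (hbz' : b ∉ zpowers z)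
    (hconjb : ∀ g : P, g * b * g⁻¹ ∈ zpowers b ⊔ zpowers z) :
    (zpowers b ⊔ zpowers z).Normal ∧ Nat.card ↥(zpowers b ⊔ zpowers z) = 4 ∧
      ∀ v ∈ zpowers b ⊔ zpowers z, v ^ 2 = 1 := by
  have hzn : (zpowers z).Normal := by
    constructor
    intro x hx g
    obtain ⟨i, rfl⟩ := mem_zpowers_iff.mp hx
    rw [← conj_zpow, hzc]
    exact zpow_mem_zpowers z i
  have hbz : b * z = z * b := by
    have := hzc b
    rwa [mul_inv_eq_iff_eq_mul] at this
  have hdec : ∀ v ∈ zpowers b ⊔ zpowers z, ∃ y ∈ zpowers b, ∃ w ∈ zpowers z, y * w = v := by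
    intro v hv
    rw [← SetLike.mem_coe, Subgroup.mul_normal] at hv
    exact Set.mem_mul.mp hv
  refine ⟨?_, ?_, ?_⟩
  · constructor
    intro v hv g
    obtain ⟨y, hy, w, hw, rfl⟩ := hdec v hv
    have e : g * (y * w) * g⁻¹ = (g * y * g⁻¹) * (g * w * g⁻¹) := by group
    rw [e]
    refine mul_mem ?_ (le_sup_right (a := zpowers b) (hzn.conj_mem w hw g))
    rcases mem_zpowers_of_sq_eq_one hb2 hy with rfl | rfl
    · simp
    · exact hconjb g
  · rw [card_sup_of_commute, Nat.card_zpowers, Nat.card_zpowers, orderOf_eq_prime hb2,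
      orderOf_eq_prime hz2 hz1]
    · rintro rfl
      exact hbz' (one_mem _)
    · rw [zpowers_le, mem_centralizer_iff]
      intro h hh
      obtain ⟨i, rfl⟩ := mem_zpowers_iff.mp hh
      exact ((Commute.zpow_right (show Commute b z from hbz) i).symm : Commute (z ^ i) b)
    · rw [eq_bot_iff]
      rintro y ⟨hy1, hy2⟩
      rcases mem_zpowers_of_sq_eq_one hb2 hy1 with rfl | rfl
      · exact one_mem _
      · exact absurd hy2 hbz'
  · intro v hv
    obtain ⟨y, hy, w, hw, rfl⟩ := hdec v hv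
    have hc : Commute y w := by
      obtain ⟨i, rfl⟩ := mem_zpowers_iff.mp hy
      obtain ⟨j, rfl⟩ := mem_zpowers_iff.mp hw
      exact Commute.zpow_zpow hbz i j
    rw [hc.mul_pow]
    rcases mem_zpowers_of_sq_eq_one hb2 hy with rfl | rfl <;>
    rcases mem_zpowers_of_sq_eq_one hz2 hw with rfl | rfl <;> simp [hb2, hz2]

theorem normal_four_of_modular (l : ℕ) (a b : P) (ha : orderOf a = 2 ^ (l + 3))
    (hAn : (zpowers a).Normal) (hCA : ∀ y, y * a = a * y → y ∈ zpowers a)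
    (hb : b ∉ zpowers a) (hb2 : b ^ 2 = 1) (r : ℤ) (hr : b * a * b⁻¹ = a ^ r)
    (hrM : (2:ℤ) ^ (l + 3) ∣ r - 1 - 2 ^ (l + 2)) :
    ∃ V : Subgroup P, V.Normal ∧ Nat.card V = 4 ∧ ∀ v ∈ V, v ^ 2 = 1 := by
  have hex : ∀ g : P, ∃ q : ℤ, g * a * g⁻¹ = a ^ q := by
    intro g
    obtain ⟨q, hq⟩ := mem_zpowers_iff.mp (hAn.conj_mem a (mem_zpowers a) g)
    exact ⟨q, hq.symm⟩
  have hzdef : a ^ (2 ^ (l + 2)) = a ^ ((2:ℤ) ^ (l + 2)) := by
    rw [← zpow_natCast]; push_cast; rfl
  have hz2 : (a ^ (2 ^ (l + 2))) ^ 2 = 1 := by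
    rw [← pow_mul, ← pow_succ, ← ha, pow_orderOf_eq_one]
  have hz1 : a ^ (2 ^ (l + 2)) ≠ 1 := by
    intro h
    have h3 := orderOf_dvd_of_pow_eq_one h
    rw [ha] at h3
    have := (Nat.pow_dvd_pow_iff_le_right (by norm_num : 1 < 2)).mp h3
    omega
  have hzc : ∀ g : P, g * a ^ (2 ^ (l + 2)) * g⁻¹ = a ^ (2 ^ (l + 2)) := by
    intro g
    obtain ⟨q, hq⟩ := hex g
    obtain ⟨j, hj⟩ := odd_of_conj a g (l + 2) ha q hq
    rw [hzdef, conj_zpow_eq a g q hq, zpow_eq_iff a _ ha]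
    refine ⟨j, ?_⟩
    rw [hj]; ring
  generalize hz : a ^ (2 ^ (l + 2)) = z at *
  have hzA : z ∈ zpowers a := hz ▸ Subgroup.pow_mem _ (mem_zpowers a) _
  have hconjb : ∀ g : P, g * b * g⁻¹ ∈ zpowers b ⊔ zpowers z := by
    intro g
    obtain ⟨q', hq'⟩ := hex g⁻¹
    rw [inv_inv] at hq'
    have h1 : (g * b * g⁻¹) * a * (g * b * g⁻¹)⁻¹ = a ^ r := by
      have e : (g * b * g⁻¹) * a * (g * b * g⁻¹)⁻¹ = g * (b * (g⁻¹ * a * g) * b⁻¹) * g⁻¹ := by group
      rw [e, hq', conj_zpow_eq a b r hr, mul_comm r q', zpow_mul, ← hq', ← conj_zpow]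
      congr 1
      group
    have h2 : (b⁻¹ * (g * b * g⁻¹)) * a = a * (b⁻¹ * (g * b * g⁻¹)) := by
      have e1 : (g * b * g⁻¹) * a = a ^ r * (g * b * g⁻¹) := by
        rw [← h1]; group
      have e2 : b⁻¹ * a ^ r = a * b⁻¹ := by
        rw [← hr]; group
      rw [mul_assoc, e1, ← mul_assoc, e2, mul_assoc]
    obtain ⟨i, hi⟩ := mem_zpowers_iff.mp (hCA _ h2)
    have hy : g * b * g⁻¹ = b * a ^ i := by rw [hi]; group
    have hy2 : (b * a ^ i) ^ 2 = 1 := by
      rw [← hy, conj_pow, hb2]; group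
    have hb2' : b ^ 2 = a ^ (0:ℤ) := by rw [hb2, zpow_zero]
    rw [sq_mul_zpow a b r 0 hr hb2', zpow_eq_one_iff' a _ ha] at hy2
    obtain ⟨w, hw⟩ := hrM
    have h3 : (2:ℤ) ^ (l + 3) ∣ 2 * (i * (1 + 2 ^ (l + 1))) := by
      have e : 2 * (i * (1 + 2 ^ (l + 1))) = (r * i + 0 + i) - 2 ^ (l + 3) * (w * i) := by
        have hr' : r = 2 ^ (l + 3) * w + 1 + 2 ^ (l + 2) := by linarith
        rw [hr']; ring
      rw [e]
      exact dvd_sub hy2 (Dvd.intro _ rfl)
    have h4 : (2:ℤ) ^ (l + 2) ∣ i * (1 + 2 ^ (l + 1)) := by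
      have e : (2:ℤ) ^ (l + 3) = 2 * 2 ^ (l + 2) := by ring
      rw [e] at h3
      exact (mul_dvd_mul_iff_left (by norm_num)).mp h3
    have h5 : (2:ℤ) ^ (l + 2) ∣ i := by
      apply Int.prime_two.pow_dvd_of_dvd_mul_right _ _ h4
      intro h7
      have e : (1:ℤ) + 2 ^ (l + 1) = 1 + 2 * 2 ^ l := by ring
      rw [e] at h7
      omega
    obtain ⟨j, hj⟩ := h5
    rw [hy, hj, zpow_mul, ← hzdef]
    exact mul_mem (le_sup_left (b := zpowers z) (mem_zpowers b))
      (le_sup_right (a := zpowers b) (zpow_mem_zpowers z j))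
  exact ⟨_, four_group_of b z hb2 hz2 hz1 hzc (fun h => hb ((zpowers_le.mpr hzA) h)) hconjb⟩

/-- last power of `y` outside a subgroup -/
theorem exists_pow_notMem_sq_mem (hP : IsPGroup 2 P) (A : Subgroup P) (y : P) (hy : y ∉ A) :
    ∃ j : ℕ, y ^ (2 ^ j) ∉ A ∧ (y ^ (2 ^ j)) ^ 2 ∈ A := by
  obtain ⟨k, hk⟩ := hP y
  have hex : ∃ i, y ^ (2 ^ i) ∈ A := ⟨k, by rw [hk]; exact one_mem _⟩
  classical
  have hmin := @Nat.find_min _ _ hex
  have hspec := Nat.find_spec hex
  have hi0 : Nat.find hex ≠ 0 := by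
    intro h0
    rw [h0] at hspec
    simp only [pow_zero, pow_one] at hspec
    exact hy hspec
  obtain ⟨j, hj⟩ : ∃ j, Nat.find hex = j + 1 := ⟨Nat.find hex - 1, by omega⟩
  refine ⟨j, hmin (by omega), ?_⟩
  rw [← pow_mul, ← pow_succ, ← hj]
  exact hspec

theorem cyclic_case [Finite P] (hP : IsPGroup 2 P) (a : P) (hAn : (zpowers a).Normal)
    (hCA : ∀ y, y * a = a * y → y ∈ zpowers a) :
    (zpowers a).index ≤ 2 ∨ ∃ V : Subgroup P, V.Normal ∧ Nat.card V = 4 ∧ ∀ v ∈ V, v ^ 2 = 1 := by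
  have hex : ∀ g : P, ∃ q : ℤ, g * a * g⁻¹ = a ^ q := by
    intro g
    obtain ⟨q, hq⟩ := mem_zpowers_iff.mp (hAn.conj_mem a (mem_zpowers a) g)
    exact ⟨q, hq.symm⟩
  obtain ⟨m, hm⟩ := IsPGroup.iff_orderOf.mp hP a
  by_cases hidx : (zpowers a).index ≤ 2
  · exact Or.inl hidx
  right
  have hi1 : (zpowers a).index ≠ 1 := by omega
  have hi2 : (zpowers a).index ≠ 2 := by omega
  obtain ⟨u, hu⟩ : ∃ u, u ∉ zpowers a := by
    by_contra h
    push Not at h
    exact hi1 (Subgroup.index_eq_one.mpr ((Subgroup.eq_top_iff' _).mpr h))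
  obtain ⟨v, hv, hvu⟩ : ∃ v, v ∉ zpowers a ∧ v * u ∉ zpowers a := by
    by_contra h
    push Not at h
    apply hi2
    rw [Subgroup.index_eq_two_iff]
    refine ⟨u, fun b => ?_⟩
    by_cases hb : b ∈ zpowers a
    · right
      refine ⟨hb, fun hbu => hu ?_⟩
      have := (zpowers a).mul_mem ((zpowers a).inv_mem hb) hbu
      simpa using this
    · left
      exact ⟨h b hb, hb⟩
  -- m ≥ 2
  have hm2 : 2 ≤ m := by
    by_contra hlt
    apply hu
    apply hCA
    obtain ⟨q, hq⟩ := hex u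
    rw [← mul_inv_eq_iff_eq_mul, hq]
    have hm' : m = 0 ∨ m = 1 := by omega
    rcases hm' with rfl | rfl
    · rw [pow_zero, orderOf_eq_one_iff] at hm
      rw [hm]; simp
    · obtain ⟨j, hj⟩ := odd_of_conj a u 0 hm q hq
      have := (zpow_eq_iff a 1 hm q 1).mpr ⟨j, by rw [hj]; ring⟩
      rwa [zpow_one] at this
  obtain ⟨k, rfl⟩ : ∃ k, m = k + 2 := ⟨m - 2, by omega⟩
  -- element outside with exponent 1 mod 4
  obtain ⟨y, hy, r₀, hr₀, h4⟩ : ∃ y, y ∉ zpowers a ∧ ∃ r : ℤ, y * a * y⁻¹ = a ^ r ∧ (4:ℤ) ∣ r - 1 := by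
    obtain ⟨q, hq⟩ := hex u
    obtain ⟨q', hq'⟩ := hex v
    obtain ⟨j, hj⟩ := odd_of_conj a u (k + 1) hm q hq
    obtain ⟨j', hj'⟩ := odd_of_conj a v (k + 1) hm q' hq'
    by_cases h1 : (4:ℤ) ∣ q - 1
    · exact ⟨u, hu, q, hq, h1⟩
    by_cases h2 : (4:ℤ) ∣ q' - 1
    · exact ⟨v, hv, q', hq', h2⟩
    refine ⟨v * u, hvu, q' * q, conj_mul_eq a v u q' q hq' hq, ?_⟩
    obtain ⟨c, hc⟩ : ∃ c, j = 2 * c + 1 := by
      rcases Int.even_or_odd' j with ⟨c, hc | hc⟩
      · exfalso; apply h1; exact ⟨c, by rw [hj, hc]; ring⟩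
      · exact ⟨c, hc⟩
    obtain ⟨c', hc'⟩ : ∃ c, j' = 2 * c + 1 := by
      rcases Int.even_or_odd' j' with ⟨c, hc | hc⟩
      · exfalso; apply h2; exact ⟨c, by rw [hj', hc]; ring⟩
      · exact ⟨c, hc⟩
    refine ⟨4 * c * c' + 3 * c + 3 * c' + 2, ?_⟩
    rw [hj, hj', hc, hc']; ring
  obtain ⟨j, hx, hx2⟩ := exists_pow_notMem_sq_mem hP _ y hy
  have hxr := conj_pow_eq a y r₀ hr₀ (2 ^ j)
  have h4' : (4:ℤ) ∣ r₀ ^ (2 ^ j) - 1 := by
    have := sub_dvd_pow_sub_pow r₀ 1 (2 ^ j)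
    rw [one_pow] at this
    exact h4.trans this
  generalize y ^ (2 ^ j) = x at *
  generalize r₀ ^ (2 ^ j) = r at *
  obtain ⟨s, hs⟩ := mem_zpowers_iff.mp hx2
  have hsq : (2:ℤ) ^ (k + 2) ∣ r ^ 2 - 1 := by
    have e1 := conj_pow_eq a x r hxr 2
    rw [← hs] at e1
    have e2 : a ^ s * a * (a ^ s)⁻¹ = a ^ (1:ℤ) := by
      rw [zpow_one, ← zpow_add_one, ← zpow_neg, ← zpow_add]
      simp
    rw [e2, zpow_eq_iff a _ hm] at e1
    rw [← dvd_neg, neg_sub]
    exact e1
  have hne : ¬ (2:ℤ) ^ (k + 2) ∣ r - 1 := by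
    intro h
    apply hx
    apply hCA
    rw [← mul_inv_eq_iff_eq_mul, hxr]
    have := (zpow_eq_iff a _ hm r 1).mpr h
    rwa [zpow_one] at this
  have h4N : (4:ℤ) ∣ (2:ℤ) ^ (k + 2) := ⟨2 ^ k, by ring⟩
  rcases nt_sq k r hsq with h | h | ⟨hk, h⟩ | ⟨hk, h⟩
  · exact absurd h hne
  · exfalso
    have h5 := h4N.trans h
    omega
  · obtain ⟨l, rfl⟩ : ∃ l, k = l + 1 := ⟨k - 1, by omega⟩
    obtain ⟨t, ht⟩ := modular_involution l a x hm r s hxr hs.symm h
    refine normal_four_of_modular l a (x * a ^ t) hm hAn hCA ?_ ht r ?_ h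
    · intro hmem
      apply hx
      have := (zpowers a).mul_mem hmem ((zpowers a).inv_mem (zpow_mem_zpowers a t))
      simpa using this
    · rw [← hxr]; group
  · exfalso
    obtain ⟨l, rfl⟩ : ∃ l, k = l + 1 := ⟨k - 1, by omega⟩
    have h5 := h4N.trans h
    have e : (2:ℤ) ^ (l + 1 + 1) = 4 * 2 ^ l := by ring
    rw [e] at h5
    omega

theorem exists_central_involution [Finite P] (h2 : IsPGroup 2 P)
    (N : Subgroup P) [N.Normal] (hN : N ≠ ⊥) :
    ∃ z ∈ N, z ∈ Subgroup.center P ∧ orderOf z = 2 := by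
  have hp : Fact (Nat.Prime 2) := ⟨Nat.prime_two⟩
  obtain ⟨z₀, hz₀N, hz₀1, hz₀c⟩ := Helper79PGroup.exists_ne_one_mem_center_of_normal h2 N hN
  obtain ⟨j, hj⟩ := IsPGroup.iff_orderOf.mp h2 z₀
  have hj0 : j ≠ 0 := by
    rintro rfl
    rw [pow_zero, orderOf_eq_one_iff] at hj
    exact hz₀1 hj
  obtain ⟨i, rfl⟩ : ∃ i, j = i + 1 := ⟨j - 1, by omega⟩
  refine ⟨z₀ ^ (2 ^ i), N.pow_mem hz₀N _, Subgroup.pow_mem _ hz₀c _, ?_⟩
  rw [orderOf_pow_of_dvd (by positivity) (by rw [hj]; exact pow_dvd_pow 2 (by omega)), hj, pow_succ]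
  exact Nat.mul_div_cancel_left 2 (by positivity)

theorem quaternion_not_comm (n : ℕ) (hn : 1 ≤ n) :
    ∃ x y : QuaternionGroup (2 ^ n), x * y ≠ y * x := by
  refine ⟨QuaternionGroup.a 1, QuaternionGroup.xa 0, ?_⟩
  rw [QuaternionGroup.a_mul_xa, QuaternionGroup.xa_mul_a]
  intro h
  have h1 : (0 : ZMod (2 * 2 ^ n)) - 1 = 0 + 1 := by injection h
  have h2 : ((2 : ℕ) : ZMod (2 * 2 ^ n)) = 0 := by
    have : (2 : ZMod (2 * 2 ^ n)) = (0 + 1) - (0 - 1) := by ring
    push_cast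
    rw [this, h1, sub_self]
  rw [ZMod.natCast_eq_zero_iff] at h2
  have h3 := Nat.le_of_dvd (by norm_num) h2
  have h4 : 2 ^ 1 ≤ 2 ^ n := Nat.pow_le_pow_right (by norm_num) hn
  omega

/-- a noncyclic abelian 2-group has two distinct involutions -/
theorem exists_two_involutions [Finite P] (hP : IsPGroup 2 P) (hc : ∀ x y : P, x * y = y * x)
    (hnc : ¬ IsCyclic P) : ∃ s t : P, s ≠ t ∧ orderOf s = 2 ∧ orderOf t = 2 := by
  have hp : Fact (Nat.Prime 2) := ⟨Nat.prime_two⟩
  by_contra h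
  push Not at h
  have huniq : ∀ H K : Subgroup P, Nat.card H = 2 → Nat.card K = 2 → H = K := by
    have key : ∀ H K : Subgroup P, Nat.card H = 2 → Nat.card K = 2 → H ≤ K := by
      intro H K hH hK
      obtain ⟨s, hs1, hsu⟩ := (Nat.card_eq_two_iff' (1 : H)).mp hH
      obtain ⟨t, ht1, htu⟩ := (Nat.card_eq_two_iff' (1 : K)).mp hK
      have os : orderOf (s : P) = 2 := by
        rw [Subgroup.orderOf_coe]
        apply orderOf_eq_prime _ hs1
        rw [← hH]; exact pow_card_eq_one'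
      have ot : orderOf (t : P) = 2 := by
        rw [Subgroup.orderOf_coe]
        apply orderOf_eq_prime _ ht1
        rw [← hK]; exact pow_card_eq_one'
      have hst : (s : P) = t := by
        by_contra hne
        exact h _ _ hne os ot
      intro x hx
      by_cases hx1 : (⟨x, hx⟩ : H) = 1
      · have : x = 1 := congrArg Subtype.val hx1
        rw [this]; exact one_mem _
      · have := hsu ⟨x, hx⟩ hx1
        have hxs : x = s := congrArg Subtype.val this
        rw [hxs, hst]; exact t.2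
    intro H K hH hK
    exact le_antisymm (key H K hH hK) (key K H hK hH)
  rcases Cfsg.Agent.S0016.result 2 hP huniq with h1 | ⟨_, n, ⟨e⟩⟩
  · exact hnc h1
  · rcases Nat.eq_zero_or_pos n with rfl | hn
    · apply hnc
      have hc1 : IsCyclic (QuaternionGroup (2 ^ 0)) := QuaternionGroup.quaternionGroup_one_isCyclic
      exact isCyclic_of_injective e.toMonoidHom e.injective
    · obtain ⟨x, y, hxy⟩ := quaternion_not_comm n hn
      apply hxy
      have := hc (e.symm x) (e.symm y)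
      rw [← map_mul, ← map_mul] at this
      exact e.symm.injective this

theorem normal_four_of_noncyclic_normal_abelian [Finite P] (hP : IsPGroup 2 P) (A : Subgroup P)
    [hAn : A.Normal] (hA : IsMulCommutative A) (hnc : ¬ IsCyclic A) :
    ∃ V : Subgroup P, V.Normal ∧ V ≤ A ∧ Nat.card V = 4 ∧ ∀ v ∈ V, v ^ 2 = 1 := by
  have hp : Fact (Nat.Prime 2) := ⟨Nat.prime_two⟩
  have hcomm : ∀ x ∈ A, ∀ y ∈ A, x * y = y * x := fun x hx y hy =>
    Helper79PGroup.comm_of_mem hA hx hy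
  let W : Subgroup P :=
    { carrier := {x | x ∈ A ∧ x ^ 2 = 1}
      mul_mem' := by
        rintro x y ⟨hx, hx2⟩ ⟨hy, hy2⟩
        refine ⟨A.mul_mem hx hy, ?_⟩
        rw [(show Commute x y from hcomm x hx y hy).mul_pow, hx2, hy2, one_mul]
      one_mem' := ⟨A.one_mem, one_pow 2⟩
      inv_mem' := by
        rintro x ⟨hx, hx2⟩
        exact ⟨A.inv_mem hx, by rw [inv_pow, hx2, inv_one]⟩ }
  have hWmem : ∀ x, x ∈ W ↔ x ∈ A ∧ x ^ 2 = 1 := fun x => Iff.rfl
  have hWn : W.Normal := by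
    constructor
    rintro x ⟨hx, hx2⟩ g
    exact ⟨hAn.conj_mem x hx g, by rw [conj_pow, hx2]; group⟩
  obtain ⟨s, t, hst, hs, ht⟩ := exists_two_involutions (hP.to_subgroup A)
    (fun x y => Subtype.ext (hcomm x x.2 y y.2)) hnc
  have hsW : (s : P) ∈ W := ⟨s.2, by
    have := pow_orderOf_eq_one s
    rw [hs] at this
    exact congrArg Subtype.val this⟩
  have htW : (t : P) ∈ W := ⟨t.2, by
    have := pow_orderOf_eq_one t
    rw [ht] at this
    exact congrArg Subtype.val this⟩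
  have hs1 : (s : P) ≠ 1 := by
    intro h
    have : s = 1 := Subtype.ext h
    rw [this, orderOf_one] at hs
    norm_num at hs
  have ht1 : (t : P) ≠ 1 := by
    intro h
    have : t = 1 := Subtype.ext h
    rw [this, orderOf_one] at ht
    norm_num at ht
  have hWne : W ≠ ⊥ := by
    intro h
    rw [h] at hsW
    exact hs1 (Subgroup.mem_bot.mp hsW)
  obtain ⟨z, hzW, hzc, hzo⟩ := exists_central_involution hP W hWne
  have hz2 : z ^ 2 = 1 := by rw [← hzo]; exact pow_orderOf_eq_one z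
  have hz1 : z ≠ 1 := by
    rintro rfl
    rw [orderOf_one] at hzo
    norm_num at hzo
  have hzconj : ∀ g : P, g * z * g⁻¹ = z := by
    intro g
    rw [Subgroup.mem_center_iff.mp hzc g]; group
  obtain ⟨w, hwW, hwz⟩ : ∃ w ∈ W, w ∉ zpowers z := by
    by_cases h : (s : P) ∈ zpowers z
    · refine ⟨t, htW, fun h' => ?_⟩
      rcases mem_zpowers_of_sq_eq_one hz2 h with h1 | h1
      · exact hs1 h1
      · rcases mem_zpowers_of_sq_eq_one hz2 h' with h2 | h2
        · exact ht1 h2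
        · exact hst (Subtype.ext (h1.trans h2.symm))
    · exact ⟨s, hsW, h⟩
  have hZn : (zpowers z).Normal := by
    constructor
    intro x hx g
    obtain ⟨i, rfl⟩ := mem_zpowers_iff.mp hx
    rw [← conj_zpow, hzconj]
    exact zpow_mem_zpowers z i
  have hWbn : (W.map (QuotientGroup.mk' (zpowers z))).Normal :=
    Subgroup.Normal.map hWn _ (QuotientGroup.mk'_surjective _)
  have hWbne : W.map (QuotientGroup.mk' (zpowers z)) ≠ ⊥ := by
    intro h
    have : QuotientGroup.mk' (zpowers z) w ∈ W.map (QuotientGroup.mk' (zpowers z)) :=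
      Subgroup.mem_map_of_mem _ hwW
    rw [h, Subgroup.mem_bot, QuotientGroup.mk'_apply, QuotientGroup.eq_one_iff] at this
    exact hwz this
  obtain ⟨yb, hybW, hyb1, hybc⟩ := Helper79PGroup.exists_ne_one_mem_center_of_normal
    (hP.to_quotient (zpowers z)) _ hWbne
  obtain ⟨y, hyW, rfl⟩ := hybW
  have hyz : y ∉ zpowers z := by
    intro h
    apply hyb1
    rw [QuotientGroup.mk'_apply, QuotientGroup.eq_one_iff]
    exact h
  have hconj : ∀ g : P, g * y * g⁻¹ ∈ zpowers y ⊔ zpowers z := by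
    intro g
    have h1 := Subgroup.mem_center_iff.mp hybc (QuotientGroup.mk' (zpowers z) g)
    rw [← map_mul, ← map_mul, QuotientGroup.mk'_apply, QuotientGroup.mk'_apply, QuotientGroup.eq] at h1
    have e : g * y * g⁻¹ = y * (g * ((g * y)⁻¹ * (y * g)) * g⁻¹)⁻¹ := by group
    rw [e]
    exact mul_mem (le_sup_left (b := zpowers z) (mem_zpowers y))
      (le_sup_right (a := zpowers y) (inv_mem (hZn.conj_mem _ h1 g)))
  obtain ⟨h1, h2, h3⟩ := four_group_of y z hyW.2 hz2 hz1 hzconj hyz hconj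
  exact ⟨_, h1, sup_le (zpowers_le.mpr hyW.1) (zpowers_le.mpr hzW.1), h2, h3⟩

/-- **Normal four-group lemma.** A finite 2-group has a normal elementary abelian subgroup of order 4,
or a self-centralizing cyclic normal subgroup of index at most 2. -/
theorem normal_four_or_cyclic_index_le_two [Finite P] (hP : IsPGroup 2 P) :
    (∃ V : Subgroup P, V.Normal ∧ Nat.card V = 4 ∧ ∀ v ∈ V, v ^ 2 = 1) ∨
      ∃ a : P, (zpowers a).Normal ∧ (zpowers a).index ≤ 2 ∧ ∀ y, y * a = a * y → y ∈ zpowers a := by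
  have hp : Fact (Nat.Prime 2) := ⟨Nat.prime_two⟩
  have hnil : Group.IsNilpotent P := hP.isNilpotent
  obtain ⟨A, hAmax⟩ := (Set.toFinite {M : Subgroup P | M.Normal ∧ IsMulCommutative M}).exists_maximal
    ⟨⊥, inferInstance, inferInstance⟩
  have hAn : A.Normal := hAmax.prop.1
  have hAc : IsMulCommutative A := hAmax.prop.2
  have hCA : centralizer (A : Set P) = A :=
    Cfsg.Agent.S0015.result A (fun M hMn hMc hle => hAmax.eq_of_ge ⟨hMn, hMc⟩ hle)
  by_cases hcyc : IsCyclic A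
  · obtain ⟨⟨a, haA⟩, hgen⟩ := hcyc.exists_generator
    have hAa : A = zpowers a := by
      apply le_antisymm
      · intro x hx
        obtain ⟨j, hj⟩ := mem_zpowers_iff.mp (hgen ⟨x, hx⟩)
        refine mem_zpowers_iff.mpr ⟨j, ?_⟩
        have := congrArg Subtype.val hj
        simpa using this
      · rw [zpowers_le]; exact haA
    have hC : ∀ y, y * a = a * y → y ∈ zpowers a := by
      intro y hy
      rw [← hAa, ← hCA, mem_centralizer_iff]
      intro h hh
      rw [SetLike.mem_coe, hAa] at hh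
      obtain ⟨i, rfl⟩ := mem_zpowers_iff.mp hh
      exact ((Commute.zpow_right (show Commute y a from hy) i).symm : Commute (a ^ i) y)
    rcases cyclic_case hP a (hAa ▸ hAn) hC with h | h
    · exact Or.inr ⟨a, hAa ▸ hAn, h, hC⟩
    · exact Or.inl h
  · obtain ⟨V, h1, _, h2, h3⟩ := normal_four_of_noncyclic_normal_abelian hP A hAc hcyc
    exact Or.inl ⟨V, h1, h2, h3⟩

theorem relIndex_le_index [Finite P] (H K : Subgroup P) : H.relIndex K ≤ H.index := by
  rw [← Subgroup.relIndex_top_right H]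
  exact Subgroup.relIndex_le_of_le_right le_top Subgroup.index_ne_zero_of_finite

/-- exponent-2 subgroups of a group with a cyclic subgroup of index at most 2 have order at most 4 -/
theorem card_le_four_of_cyclic_index_le_two [Finite P] (a : P) (hi : (zpowers a).index ≤ 2)
    (E : Subgroup P) (hE : ∀ e ∈ E, e ^ 2 = 1) : Nat.card E ≤ 4 := by
  have h1 : Nat.card ↥(E ⊓ zpowers a : Subgroup P) ≤ 2 := by
    have h2 := Helper1UniqInv.card_le_of_pow_eq_one (A := ↥(zpowers a)) (E.subgroupOf (zpowers a))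
      (n := 2) (by norm_num) (by
        intro x hx
        exact Subtype.ext (hE x (Subgroup.mem_subgroupOf.mp hx)))
    have h3 : Nat.card ↥(E.subgroupOf (zpowers a)) = Nat.card ↥(E ⊓ zpowers a : Subgroup P) := by
      rw [← Subgroup.inf_subgroupOf_right]
      exact Nat.card_congr (Subgroup.subgroupOfEquivOfLe inf_le_right).toEquiv
    rwa [h3] at h2
  have h4 := card_mul_relIndex_le (inf_le_left : E ⊓ zpowers a ≤ E)
  rw [Subgroup.inf_relIndex_left] at h4
  have h5 := (relIndex_le_index (zpowers a) E).trans hi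
  rw [← h4]
  calc Nat.card ↥(E ⊓ zpowers a : Subgroup P) * (zpowers a).relIndex E ≤ 2 * 2 :=
        Nat.mul_le_mul h1 h5
    _ = 4 := by norm_num

/-- structure of a normal four-group of a 2-group -/
theorem normal_four_structure [Finite P] (hP : IsPGroup 2 P) (V : Subgroup P) [hVn : V.Normal]
    (hV4 : Nat.card V = 4) (hVe : ∀ v ∈ V, v ^ 2 = 1) :
    ∃ z u : P, (∀ g : P, g * z * g⁻¹ = z) ∧ z ^ 2 = 1 ∧ z ≠ 1 ∧ u ^ 2 = 1 ∧ u ∉ zpowers z ∧
      V = zpowers u ⊔ zpowers z ∧ (∀ v ∈ V, v = 1 ∨ v = z ∨ v = u ∨ v = u * z) ∧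
      ∀ t : P, t * u * t⁻¹ = u ∨ t * u * t⁻¹ = u * z := by
  have hVne : V ≠ ⊥ := by
    rintro rfl
    rw [Subgroup.card_bot] at hV4
    norm_num at hV4
  obtain ⟨z, hzV, hzc, hzo⟩ := exists_central_involution hP V hVne
  have hz2 : z ^ 2 = 1 := by rw [← hzo]; exact pow_orderOf_eq_one z
  have hz1 : z ≠ 1 := by
    rintro rfl
    rw [orderOf_one] at hzo
    norm_num at hzo
  have hzconj : ∀ g : P, g * z * g⁻¹ = z := by
    intro g
    rw [Subgroup.mem_center_iff.mp hzc g]; group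
  obtain ⟨u, huV, huz⟩ : ∃ u ∈ V, u ∉ zpowers z := by
    by_contra h
    push Not at h
    have h1 : V ≤ zpowers z := h
    have h2 := Subgroup.card_le_of_le h1
    rw [hV4, Nat.card_zpowers, hzo] at h2
    norm_num at h2
  have hu2 := hVe u huV
  have hu1 : u ≠ 1 := by
    rintro rfl
    exact huz (one_mem _)
  have huzc : u * z = z * u := by
    have := hzconj u
    rwa [mul_inv_eq_iff_eq_mul] at this
  have hzn : (zpowers z).Normal := by
    constructor
    intro x hx g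
    obtain ⟨i, rfl⟩ := mem_zpowers_iff.mp hx
    rw [← conj_zpow, hzconj]
    exact zpow_mem_zpowers z i
  have hcard : Nat.card ↥(zpowers u ⊔ zpowers z) = 4 := by
    rw [card_sup_of_commute, Nat.card_zpowers, Nat.card_zpowers, orderOf_eq_prime hu2 hu1, hzo]
    · rw [zpowers_le, mem_centralizer_iff]
      intro h hh
      obtain ⟨i, rfl⟩ := mem_zpowers_iff.mp hh
      exact ((Commute.zpow_right (show Commute u z from huzc) i).symm : Commute (z ^ i) u)
    · rw [eq_bot_iff]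
      rintro y ⟨hy1, hy2⟩
      rcases mem_zpowers_of_sq_eq_one hu2 hy1 with rfl | rfl
      · exact one_mem _
      · exact absurd hy2 huz
  have hVeq : V = zpowers u ⊔ zpowers z :=
    (Subgroup.eq_of_le_of_card_ge (sup_le (zpowers_le.mpr huV) (zpowers_le.mpr hzV))
      (by rw [hcard, hV4])).symm
  have hlist : ∀ v ∈ V, v = 1 ∨ v = z ∨ v = u ∨ v = u * z := by
    intro v hv
    rw [hVeq, ← SetLike.mem_coe, Subgroup.mul_normal] at hv
    obtain ⟨y, hy, w, hw, rfl⟩ := Set.mem_mul.mp hv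
    rcases mem_zpowers_of_sq_eq_one hu2 hy with rfl | rfl <;>
    rcases mem_zpowers_of_sq_eq_one hz2 hw with rfl | rfl <;> simp
  refine ⟨z, u, hzconj, hz2, hz1, hu2, huz, hVeq, hlist, fun t => ?_⟩
  rcases hlist _ (hVn.conj_mem u huV t) with h | h | h | h
  · exfalso
    apply hu1
    have : u = t⁻¹ * (t * u * t⁻¹) * t := by group
    rw [this, h]; group
  · exfalso
    apply huz
    have e : u = t⁻¹ * (t * u * t⁻¹) * t := by group
    have e2 := hzconj t⁻¹
    rw [inv_inv] at e2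
    rw [e, h, e2]
    exact mem_zpowers z
  · exact Or.inl h
  · exact Or.inr h

/-- In a 2-group of rank at least 3 there is a subgroup `Q` of index at most 2 all of whose involutions
are centralized by an elementary abelian subgroup of order 8. -/
theorem exists_index_le_two_rank_three [Finite P] (hP : IsPGroup 2 P) (E₁ : Subgroup P)
    (hE8 : Nat.card E₁ = 8) (hEe : ∀ e ∈ E₁, e ^ 2 = 1) :
    ∃ Q : Subgroup P, Q.index ≤ 2 ∧ ∀ x ∈ Q, x ^ 2 = 1 →
      ∃ E : Subgroup P, Nat.card E = 8 ∧ (∀ e ∈ E, e ^ 2 = 1) ∧ ∀ e ∈ E, e * x = x * e := by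
  have hp : Fact (Nat.Prime 2) := ⟨Nat.prime_two⟩
  rcases normal_four_or_cyclic_index_le_two hP with ⟨V, hVn, hV4, hVe⟩ | ⟨a, _, hai, _⟩
  swap
  · have := card_le_four_of_cyclic_index_le_two a hai E₁ hEe
    omega
  obtain ⟨z, u, hzc, hz2, hz1, hu2, huz, hVeq, hlist, hconj⟩ := normal_four_structure hP V hV4 hVe
  have hzcomm : ∀ g : P, g * z = z * g := by
    intro g
    have := hzc g
    rwa [mul_inv_eq_iff_eq_mul] at this
  have huV : u ∈ V := hVeq ▸ le_sup_left (b := zpowers z) (mem_zpowers u)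
  refine ⟨centralizer {u}, ?_, ?_⟩
  · by_cases hQ : centralizer ({u} : Set P) = ⊤
    · rw [hQ, Subgroup.index_top]; norm_num
    · obtain ⟨s, hs⟩ : ∃ s, s ∉ centralizer ({u} : Set P) := by
        by_contra h
        push Not at h
        exact hQ ((Subgroup.eq_top_iff' _).mpr h)
      apply le_of_eq
      rw [Subgroup.index_eq_two_iff]
      refine ⟨s, fun b => ?_⟩
      have key : ∀ t, t ∉ centralizer ({u} : Set P) → t * u * t⁻¹ = u * z := by
        intro t ht
        rcases hconj t with h | h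
        · exfalso
          apply ht
          rw [mem_centralizer_singleton_iff]
          rwa [mul_inv_eq_iff_eq_mul] at h
        · exact h
      by_cases hb : b ∈ centralizer ({u} : Set P)
      · right
        refine ⟨hb, fun hbs => hs ?_⟩
        have := mul_mem (inv_mem hb) hbs
        simpa using this
      · left
        refine ⟨?_, hb⟩
        rw [mem_centralizer_singleton_iff, ← mul_inv_eq_iff_eq_mul]
        have e : b * s * u * (b * s)⁻¹ = b * (s * u * s⁻¹) * b⁻¹ := by group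
        rw [e, key s hs]
        have e2 : b * (u * z) * b⁻¹ = (b * u * b⁻¹) * (b * z * b⁻¹) := by group
        rw [e2, key b hb, hzc, mul_assoc, ← pow_two, hz2, mul_one]
  · intro x hxQ hx2
    have hxu : x * u = u * x := mem_centralizer_singleton_iff.mp hxQ
    have hcommV : ∀ y : P, y * u = u * y → ∀ v ∈ V, v * y = y * v := by
      intro y hy v hv
      rcases hlist v hv with rfl | rfl | rfl | rfl
      · simp
      · exact (hzcomm y).symm
      · exact hy.symm
      · rw [mul_assoc, ← hzcomm y, ← mul_assoc, ← hy, mul_assoc]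
    have hxV := hcommV x hxu
    by_cases hx : x ∈ V
    · -- x ∈ V
      have hdec : ∀ e ∈ (E₁ ⊓ centralizer {u}) ⊔ V, ∃ d ∈ E₁ ⊓ centralizer {u}, ∃ v ∈ V, d * v = e := by
        intro e he
        rw [← SetLike.mem_coe, Subgroup.mul_normal] at he
        exact Set.mem_mul.mp he
      have hFe : ∀ e ∈ (E₁ ⊓ centralizer {u}) ⊔ V, e ^ 2 = 1 := by
        intro e he
        obtain ⟨d, hd, v, hv, rfl⟩ := hdec e he
        have hc : Commute d v := (hcommV d (mem_centralizer_singleton_iff.mp hd.2) v hv).symm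
        rw [hc.mul_pow, hEe d hd.1, hVe v hv, one_mul]
      have hFx : ∀ e ∈ (E₁ ⊓ centralizer {u}) ⊔ V, e * x = x * e := by
        intro e he
        obtain ⟨d, hd, v, hv, rfl⟩ := hdec e he
        have h1 : d * x = x * d := (hcommV d (mem_centralizer_singleton_iff.mp hd.2) x hx).symm
        have h2 : v * x = x * v := hxV v hv
        rw [mul_assoc, h2, ← mul_assoc, h1, mul_assoc]
      obtain ⟨j, hj⟩ := IsPGroup.iff_card.mp (hP.to_subgroup ((E₁ ⊓ centralizer {u}) ⊔ V))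
      have hj3 : 3 ≤ j := by
        by_contra hlt
        have hV' : Nat.card V ≤ Nat.card ↥((E₁ ⊓ centralizer {u}) ⊔ V) :=
          Subgroup.card_le_of_le le_sup_right
        have hF4 : Nat.card ↥((E₁ ⊓ centralizer {u}) ⊔ V) ≤ 4 := by
          rw [hj]
          calc 2 ^ j ≤ 2 ^ 2 := Nat.pow_le_pow_right (by norm_num) (by omega)
            _ = 4 := by norm_num
        have hFV : V = (E₁ ⊓ centralizer {u}) ⊔ V :=
          Subgroup.eq_of_le_of_card_ge le_sup_right (by rw [hV4]; exact hF4)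
        have hDV : E₁ ⊓ centralizer {u} ≤ V := by
          rw [hFV]; exact le_sup_left
        have hD4 : 4 ≤ Nat.card ↥(E₁ ⊓ centralizer {u} : Subgroup P) := by
          have h4 := card_mul_relIndex_le (inf_le_left : E₁ ⊓ centralizer {u} ≤ E₁)
          rw [Subgroup.inf_relIndex_left, hE8] at h4
          have h5 : (centralizer ({u} : Set P)).relIndex E₁ ≤ 2 := by
            refine (relIndex_le_index _ E₁).trans ?_
            by_cases hQ : centralizer ({u} : Set P) = ⊤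
            · rw [hQ, Subgroup.index_top]; norm_num
            · obtain ⟨s, hs⟩ : ∃ s, s ∉ centralizer ({u} : Set P) := by
                by_contra h
                push Not at h
                exact hQ ((Subgroup.eq_top_iff' _).mpr h)
              apply le_of_eq
              rw [Subgroup.index_eq_two_iff]
              refine ⟨s, fun b => ?_⟩
              have key : ∀ t, t ∉ centralizer ({u} : Set P) → t * u * t⁻¹ = u * z := by
                intro t ht
                rcases hconj t with h | h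
                · exfalso
                  apply ht
                  rw [mem_centralizer_singleton_iff]
                  rwa [mul_inv_eq_iff_eq_mul] at h
                · exact h
              by_cases hb : b ∈ centralizer ({u} : Set P)
              · right
                refine ⟨hb, fun hbs => hs ?_⟩
                have := mul_mem (inv_mem hb) hbs
                simpa using this
              · left
                refine ⟨?_, hb⟩
                rw [mem_centralizer_singleton_iff, ← mul_inv_eq_iff_eq_mul]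
                have e : b * s * u * (b * s)⁻¹ = b * (s * u * s⁻¹) * b⁻¹ := by group
                rw [e, key s hs]
                have e2 : b * (u * z) * b⁻¹ = (b * u * b⁻¹) * (b * z * b⁻¹) := by group
                rw [e2, key b hb, hzc, mul_assoc, ← pow_two, hz2, mul_one]
          by_contra hlt4
          push Not at hlt4
          have : Nat.card ↥(E₁ ⊓ centralizer {u} : Subgroup P) * (centralizer ({u} : Set P)).relIndex E₁
              ≤ 3 * 2 := Nat.mul_le_mul (by omega) h5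
          omega
        have hDeq : E₁ ⊓ centralizer {u} = V :=
          Subgroup.eq_of_le_of_card_ge hDV (by rw [hV4]; exact hD4)
        have huE : u ∈ E₁ := (hDeq ▸ huV : u ∈ E₁ ⊓ centralizer {u}).1
        have hEQ : E₁ ≤ centralizer {u} := by
          intro e he
          rw [mem_centralizer_singleton_iff]
          have h1 := hEe e he
          have h3 := hEe (e * u) (E₁.mul_mem he huE)
          have ie : e⁻¹ = e := by rw [inv_eq_iff_mul_eq_one, ← pow_two]; exact h1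
          have iu : u⁻¹ = u := by rw [inv_eq_iff_mul_eq_one, ← pow_two]; exact hu2
          have ieu : (e * u)⁻¹ = e * u := by rw [inv_eq_iff_mul_eq_one, ← pow_two]; exact h3
          rw [← ieu, mul_inv_rev, ie, iu]
        have : E₁ ⊓ centralizer {u} = E₁ := inf_eq_left.mpr hEQ
        rw [this] at hDeq
        rw [hDeq, hV4] at hE8
        norm_num at hE8
      obtain ⟨K, hK⟩ := Sylow.exists_subgroup_card_pow_prime (G := ↥((E₁ ⊓ centralizer {u}) ⊔ V)) 2
        (n := 3) (by rw [hj]; exact pow_dvd_pow 2 hj3)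
      refine ⟨K.map (Subgroup.subtype _), ?_, ?_, ?_⟩
      · rw [Subgroup.card_map_of_injective (Subgroup.subtype_injective _), hK]; norm_num
      · rintro _ ⟨e, _, rfl⟩
        exact hFe e e.2
      · rintro _ ⟨e, _, rfl⟩
        exact hFx e e.2
    · have hx1 : x ≠ 1 := by
        rintro rfl
        exact hx (one_mem _)
      have hdec : ∀ e ∈ zpowers x ⊔ V, ∃ y ∈ zpowers x, ∃ v ∈ V, y * v = e := by
        intro e he
        rw [← SetLike.mem_coe, Subgroup.mul_normal] at he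
        exact Set.mem_mul.mp he
      refine ⟨zpowers x ⊔ V, ?_, ?_, ?_⟩
      · rw [card_sup_of_commute, Nat.card_zpowers, orderOf_eq_prime hx2 hx1, hV4]
        · rw [zpowers_le, mem_centralizer_iff]
          exact fun v hv => hxV v hv
        · rw [eq_bot_iff]
          rintro y ⟨hy1, hy2⟩
          rcases mem_zpowers_of_sq_eq_one hx2 hy1 with rfl | rfl
          · exact one_mem _
          · exact absurd hy2 hx
      · intro e he
        obtain ⟨y, hy, v, hv, rfl⟩ := hdec e he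
        rcases mem_zpowers_of_sq_eq_one hx2 hy with rfl | rfl
        · rw [one_mul]; exact hVe v hv
        · have hc : Commute y v := (hxV v hv).symm
          rw [hc.mul_pow, hx2, hVe v hv, one_mul]
      · intro e he
        obtain ⟨y, hy, v, hv, rfl⟩ := hdec e he
        rcases mem_zpowers_of_sq_eq_one hx2 hy with rfl | rfl
        · rw [one_mul]; exact hxV v hv
        · rw [mul_assoc, hxV v hv]

/-- elements of `A ⊔ B` are products when `A` normalizes `B` -/
theorem exists_mul_of_mem_sup (A B : Subgroup P) (hn : ∀ a ∈ A, ∀ b ∈ B, a * b * a⁻¹ ∈ B) :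
    ∀ v ∈ A ⊔ B, ∃ a ∈ A, ∃ b ∈ B, a * b = v := by
  intro v hv
  rw [Subgroup.sup_eq_closure] at hv
  induction hv using Subgroup.closure_induction with
  | mem x hx =>
    rcases hx with hx | hx
    · exact ⟨x, hx, 1, one_mem _, mul_one x⟩
    · exact ⟨1, one_mem _, x, hx, one_mul x⟩
  | one => exact ⟨1, one_mem _, 1, one_mem _, one_mul 1⟩
  | mul x y _ _ hx hy =>
    obtain ⟨a, ha, b, hb, rfl⟩ := hx
    obtain ⟨a', ha', b', hb', rfl⟩ := hy
    refine ⟨a * a', mul_mem ha ha', (a'⁻¹ * b * a'⁻¹⁻¹) * b', mul_mem (hn _ (inv_mem ha') b hb) hb', ?_⟩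
    group
  | inv x _ hx =>
    obtain ⟨a, ha, b, hb, rfl⟩ := hx
    refine ⟨a⁻¹, inv_mem ha, a * b⁻¹ * a⁻¹, hn a ha _ (inv_mem hb), ?_⟩
    group

theorem index_centralizer_le_two (z u : P) (hzc : ∀ g : P, g * z * g⁻¹ = z) (hz2 : z ^ 2 = 1)
    (hconj : ∀ t : P, t * u * t⁻¹ = u ∨ t * u * t⁻¹ = u * z) :
    (centralizer ({u} : Set P)).index ≤ 2 := by
  by_cases hQ : centralizer ({u} : Set P) = ⊤
  · rw [hQ, Subgroup.index_top]; norm_num
  · obtain ⟨s, hs⟩ : ∃ s, s ∉ centralizer ({u} : Set P) := by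
      by_contra h
      push Not at h
      exact hQ ((Subgroup.eq_top_iff' _).mpr h)
    apply le_of_eq
    rw [Subgroup.index_eq_two_iff]
    refine ⟨s, fun b => ?_⟩
    have key : ∀ t, t ∉ centralizer ({u} : Set P) → t * u * t⁻¹ = u * z := by
      intro t ht
      rcases hconj t with h | h
      · exfalso
        apply ht
        rw [mem_centralizer_singleton_iff]
        rwa [mul_inv_eq_iff_eq_mul] at h
      · exact h
    by_cases hb : b ∈ centralizer ({u} : Set P)
    · right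
      refine ⟨hb, fun hbs => hs ?_⟩
      have := mul_mem (inv_mem hb) hbs
      simpa using this
    · left
      refine ⟨?_, hb⟩
      rw [mem_centralizer_singleton_iff, ← mul_inv_eq_iff_eq_mul]
      have e : b * s * u * (b * s)⁻¹ = b * (s * u * s⁻¹) * b⁻¹ := by group
      rw [e, key s hs]
      have e2 : b * (u * z) * b⁻¹ = (b * u * b⁻¹) * (b * z * b⁻¹) := by group
      rw [e2, key b hb, hzc, mul_assoc, ← pow_two, hz2, mul_one]

end Cfsg.Agent.Lib.Helper76FourGroup
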