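import Mathlib
import Cfsg.Agent.S0493
import Cfsg.Agent.S0494
import Cfsg.Agent.Lib.Helper28ZaG8
import Cfsg.Agent.Lib.Helper70ZaODD_PC
import Cfsg.Agent.Lib.Helper76ZaTR

set_option autoImplicit false

namespace Cfsg.Agent.Lib.Helper76Ord120

open Subgroup

universe u

/-- extension of solvable by solvable -/
theorem solvable_of_normal {G : Type*} [Group G] (N : Subgroup G) [N.Normal]
    (h1 : Group.IsSolvable N) (h2 : Group.IsSolvable (G ⧸ N)) : Group.IsSolvable G :=
  Group.isSolvable_of_ker_le_range N.subtype (QuotientGroup.mk' N) (by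
    rw [QuotientGroup.ker_mk', Subgroup.range_subtype])

theorem exists_normal_of_not_simple {G : Type*} [Group G] [Nontrivial G]
    (h : ¬ IsSimpleGroup G) : ∃ N : Subgroup G, N.Normal ∧ N ≠ ⊥ ∧ N ≠ ⊤ := by
  by_contra hcon
  push Not at hcon
  exact h ⟨fun N hN => by
    by_cases hb : N = ⊥
    · exact Or.inl hb
    · exact Or.inr (hcon N hN hb)⟩

theorem card_lt_of_ne_top {G : Type*} [Group G] [Finite G] (N : Subgroup G) (h : N ≠ ⊤) :
    Nat.card N < Nat.card G := by
  have h1 := Subgroup.card_le_card_group N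
  rcases h1.lt_or_eq with h2 | h2
  · exact h2
  · exact absurd (Subgroup.eq_top_of_card_eq N h2) h

theorem card_quot_lt_of_ne_bot {G : Type*} [Group G] [Finite G] (N : Subgroup G) (h : N ≠ ⊥) :
    Nat.card (G ⧸ N) < Nat.card G := by
  have h1 := N.card_mul_index
  have h2 : 1 < Nat.card N := by
    rw [Finite.one_lt_card_iff_nontrivial]
    exact (Subgroup.nontrivial_iff_ne_bot N).mpr h
  have h3 : 0 < N.index := Nat.pos_of_ne_zero Subgroup.index_ne_zero_of_finite
  rw [← h1]
  show N.index < _
  nlinarith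

theorem solvable_of_card_lt_aux : ∀ n : ℕ, n < 60 → ∀ (G : Type u) [Group G] [Finite G],
    Nat.card G = n → Group.IsSolvable G := by
  intro n
  induction n using Nat.strong_induction_on with
  | _ n ih =>
    intro hn G _ _ hG
    by_cases ht : Subsingleton G
    · infer_instance
    rw [not_subsingleton_iff_nontrivial] at ht
    by_cases hs : IsSimpleGroup G
    · by_cases hc : IsCyclic G
      · exact Group.isSolvable_of_comm (fun a b => hc.isMulCommutative.is_comm.comm a b)
      · have := Cfsg.Agent.S0493.result hc (by omega)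
        omega
    · obtain ⟨N, hN, hb, htop⟩ := exists_normal_of_not_simple hs
      have h1 := card_lt_of_ne_top N htop
      have h2 := card_quot_lt_of_ne_bot N hb
      exact solvable_of_normal N (ih _ (hG ▸ h1) (by omega) N rfl)
        (ih _ (hG ▸ h2) (by omega) (G ⧸ N) rfl)

theorem solvable_of_card_lt {G : Type*} [Group G] [Finite G] (h : Nat.card G < 60) :
    Group.IsSolvable G := solvable_of_card_lt_aux _ h G rfl

/-- a non-solvable group of order `60` is `A₅` -/
theorem equiv_A5 {G : Type*} [Group G] [Finite G] (h : Nat.card G = 60)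
    (hns : ¬ Group.IsSolvable G) : Nonempty (G ≃* alternatingGroup (Fin 5)) := by
  have : Nontrivial G := by
    rw [← Finite.one_lt_card_iff_nontrivial, h]; norm_num
  have hs : IsSimpleGroup G := by
    by_contra hs
    obtain ⟨N, hN, hb, htop⟩ := exists_normal_of_not_simple hs
    have h1 := card_lt_of_ne_top N htop
    have h2 := card_quot_lt_of_ne_bot N hb
    exact hns (solvable_of_normal N (solvable_of_card_lt (by omega))
      (solvable_of_card_lt (by omega)))
  exact Cfsg.Agent.S0494.result h

theorem q8_invol : ∀ g : QuaternionGroup 2, g ^ 2 = 1 → g ≠ 1 → g = QuaternionGroup.a 2 := by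
  decide

theorem q8_pow : ∀ g : QuaternionGroup 2, g ≠ 1 →
    g = QuaternionGroup.a 2 ∨ g ^ 2 = QuaternionGroup.a 2 := by
  decide

theorem not_solvable_of_perfect {L : Type*} [Group L] [Nontrivial L] (h : commutator L = ⊤) :
    ¬ Group.IsSolvable L := by
  intro hs
  obtain ⟨a, ha⟩ := exists_ne (1 : L)
  exact ha (Cfsg.Agent.Lib.Helper76ZaTR.hom_eq_one_of_perfect h hs (MonoidHom.id L) a)

theorem perfect_case {G : Type*} [Group G] [Finite G] (hc : Nat.card G = 120)
    (hperf : commutator G = ⊤)
    (hQ : ∀ P : Sylow 2 G, Nonempty ((P : Subgroup G) ≃* QuaternionGroup 2)) :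
    Nonempty (G ≃* Matrix.SpecialLinearGroup (Fin 2) (ZMod 5)) := by
  have : Fact (Nat.Prime 5) := ⟨by norm_num⟩
  have : Fact (Nat.Prime 2) := ⟨Nat.prime_two⟩
  have hnt : Nontrivial G := by
    rw [← Finite.one_lt_card_iff_nontrivial, hc]; norm_num
  have hns := not_solvable_of_perfect hperf
  obtain ⟨P5⟩ : Nonempty (Sylow 5 G) := inferInstance
  have hP5 : Nat.card P5 = 5 := by
    rw [Sylow.card_eq_multiplicity, hc]
    have : (120 : ℕ).factorization 5 = 1 := by
      have h1 : (120 : ℕ) = 5 ^ 1 * 24 := by norm_num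
      rw [h1, Nat.factorization_mul (by norm_num) (by norm_num)]
      simp [Nat.Prime.factorization_self (by norm_num : Nat.Prime 5),
        Nat.factorization_eq_zero_of_not_dvd (by norm_num : ¬ 5 ∣ 24)]
    rw [this, pow_one]
  have hidx : (P5 : Subgroup G).index = 24 := by
    have := (P5 : Subgroup G).card_mul_index
    rw [hP5, hc] at this
    omega
  have hn1 : Nat.card (Sylow 5 G) ∣ 24 := hidx ▸ Sylow.card_dvd_index P5
  have hn2 : Nat.card (Sylow 5 G) ≡ 1 [MOD 5] := card_sylow_modEq_one 5 G
  have hn : Nat.card (Sylow 5 G) ≤ 6 := by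
    have h3 := Nat.le_of_dvd (by norm_num) hn1
    unfold Nat.ModEq at hn2
    generalize Nat.card (Sylow 5 G) = n at *
    interval_cases n <;> omega
  obtain ⟨K, hK⟩ : ∃ K : Subgroup G, K = (MulAction.toPermHom G (Sylow 5 G)).ker := ⟨_, rfl⟩
  have hKn : K.Normal := by rw [hK]; infer_instance
  have hKmem : ∀ g : G, g ∈ K ↔ ∀ s : Sylow 5 G, g • s = s := by
    intro g
    rw [hK, MonoidHom.mem_ker]
    constructor
    · intro h s
      have := congrArg (fun σ : Equiv.Perm (Sylow 5 G) => σ s) h
      simpa using this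
    · intro h
      ext1 s
      simpa using h s
  -- the involution lies in `K`
  obtain ⟨P⟩ : Nonempty (Sylow 2 G) := inferInstance
  obtain ⟨e⟩ := hQ P
  have hP8 : Nat.card P = 8 := by
    rw [Nat.card_congr e.toEquiv, Nat.card_eq_fintype_card, QuaternionGroup.card]
  obtain ⟨z, hz⟩ : ∃ z : P, z = e.symm (QuaternionGroup.a 2) := ⟨_, rfl⟩
  have hz1 : z ≠ 1 := by
    rw [hz]
    intro h
    rw [MulEquiv.map_eq_one_iff] at h
    revert h
    decide
  have hzK : (z : G) ∈ K := by
    rw [hKmem]
    intro s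
    have h1 := (MulAction.stabilizer P s).card_mul_index
    rw [MulAction.index_stabilizer, hP8] at h1
    have h2 : (MulAction.orbit P s).ncard ≤ 6 := by
      refine le_trans ?_ hn
      rw [← Nat.card_coe_set_eq]
      exact Nat.card_le_card_of_injective _ Subtype.val_injective
    have h3 : 1 < Nat.card (MulAction.stabilizer P s) := by
      by_contra hcon
      have : Nat.card (MulAction.stabilizer P s) ≤ 1 := by omega
      nlinarith
    rw [Finite.one_lt_card_iff_nontrivial] at h3
    obtain ⟨g, hg⟩ := exists_ne (1 : MulAction.stabilizer P s)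
    have hg1 : e g.1 ≠ 1 := by
      intro h
      rw [MulEquiv.map_eq_one_iff] at h
      exact hg (Subtype.ext h)
    have hzs : z ∈ MulAction.stabilizer P s := by
      rcases q8_pow _ hg1 with h | h
      · have : z = g.1 := by rw [hz, ← h, MulEquiv.symm_apply_apply]
        rw [this]; exact g.2
      · have : z = g.1 ^ 2 := by rw [hz, ← h, ← map_pow, MulEquiv.symm_apply_apply]
        rw [this]; exact pow_mem g.2 2
    exact hzs
  have hKtop : K ≠ ⊤ := by
    intro htop
    have hnorm : (P5 : Subgroup G).Normal := by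
      rw [← normalizer_eq_top_iff, eq_top_iff]
      intro g _
      exact Sylow.smul_eq_iff_mem_normalizer.mp ((hKmem g).mp (htop ▸ mem_top g) P5)
    apply hns
    apply solvable_of_normal (P5 : Subgroup G)
    · exact solvable_of_card_lt (by rw [hP5]; norm_num)
    · apply solvable_of_card_lt
      show (P5 : Subgroup G).index < 60
      rw [hidx]; norm_num
  have hqns : ¬ Group.IsSolvable (G ⧸ K) := by
    intro hs
    apply hKtop
    rw [eq_top_iff]
    intro g _
    have := Cfsg.Agent.Lib.Helper76ZaTR.hom_eq_one_of_perfect hperf hs (QuotientGroup.mk' K) g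
    exact (QuotientGroup.eq_one_iff g).mp this
  have hq60 : 60 ≤ K.index := by
    by_contra hcon
    exact hqns (solvable_of_card_lt (by show K.index < 60; omega))
  have hK2 : 1 < Nat.card K := by
    rw [Finite.one_lt_card_iff_nontrivial]
    exact ⟨⟨⟨z, hzK⟩, 1, fun h => hz1 (Subtype.ext (congrArg (fun k : K => (k : G)) h))⟩⟩
  have hmul := K.card_mul_index
  rw [hc] at hmul
  have hKcard : Nat.card K = 2 ∧ K.index = 60 := by
    have h1 : Nat.card K ≤ 2 := by
      by_contra hcon
      have : 3 ≤ Nat.card K := by omega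
      nlinarith
    have h2 : Nat.card K = 2 := by omega
    rw [h2] at hmul
    exact ⟨h2, by omega⟩
  obtain ⟨e'⟩ := equiv_A5 (G := G ⧸ K) hKcard.2 hqns
  apply Cfsg.Agent.Lib.Helper28ZaG8.equiv_SL25 hperf (e'.toMonoidHom.comp (QuotientGroup.mk' K))
    (e'.surjective.comp (QuotientGroup.mk'_surjective K))
  have : (e'.toMonoidHom.comp (QuotientGroup.mk' K)).ker = K := by
    ext g
    rw [MonoidHom.mem_ker]
    show e' (QuotientGroup.mk g) = 1 ↔ _
    rw [MulEquiv.map_eq_one_iff, QuotientGroup.eq_one_iff]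
  rw [this]
  exact hKcard.1

open Cfsg.Agent.Lib.Helper28ZaG8 in
theorem part_one {G : Type*} [Group G] [Finite G] (hc : Nat.card G = 120)
    (hns : ¬ Group.IsSolvable G)
    (hQ : ∀ P : Sylow 2 G, Nonempty ((P : Subgroup G) ≃* QuaternionGroup 2)) :
    Nonempty (G ≃* Matrix.SpecialLinearGroup (Fin 2) (ZMod 5)) := by
  have : Fact (Nat.Prime 2) := ⟨Nat.prime_two⟩
  obtain ⟨L, hLn, hLb, hLp⟩ := Cfsg.Agent.Lib.Helper70ZaODD_PC.exists_perfect_core hns
  have hLnt : Nontrivial L := (nontrivial_iff_ne_bot L).mpr hLb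
  have hLns := not_solvable_of_perfect hLp
  have h60 : 60 ≤ Nat.card L := by
    by_contra h
    exact hLns (solvable_of_card_lt (by omega))
  have hdvd : Nat.card L ∣ 120 := hc ▸ Subgroup.card_subgroup_dvd_card L
  have hcases : Nat.card L = 60 ∨ Nat.card L = 120 := by
    obtain ⟨k, hk⟩ := hdvd
    have hk2 : k ≤ 2 := by
      by_contra hcon
      have : 3 ≤ k := by omega
      nlinarith
    interval_cases k <;> omega
  rcases hcases with h | h
  · exfalso
    obtain ⟨e⟩ := equiv_A5 h hLns
    obtain ⟨V, hVdef⟩ : ∃ V : Subgroup G, V = (W5.map e.symm.toMonoidHom).map L.subtype :=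
      ⟨_, rfl⟩
    have hV : Nat.card V = 4 := by
      rw [hVdef, card_map_of_injective L.subtype_injective,
        card_map_of_injective e.symm.injective, card_W5]
    have hVp : IsPGroup 2 V := IsPGroup.of_card (n := 2) (by rw [hV]; norm_num)
    obtain ⟨P, hP⟩ := hVp.exists_le_sylow
    obtain ⟨e2⟩ := hQ P
    have key : ∀ x : alternatingGroup (Fin 5), x ∈ W5 → x ^ 2 = 1 → x ≠ 1 →
        ∃ hx : ((e.symm x : L) : G) ∈ (P : Subgroup G),
          e2 ⟨_, hx⟩ = QuaternionGroup.a 2 := by
      intro x hxW hx2 hx1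
      have hxV : ((e.symm x : L) : G) ∈ V := by
        rw [hVdef]
        exact ⟨e.symm x, ⟨x, hxW, rfl⟩, rfl⟩
      refine ⟨hP hxV, ?_⟩
      apply q8_invol
      · rw [← map_pow]
        have : (⟨((e.symm x : L) : G), hP hxV⟩ : (P : Subgroup G)) ^ 2 = 1 := by
          apply Subtype.ext
          show ((e.symm x : L) : G) ^ 2 = 1
          rw [← Subgroup.coe_pow, ← map_pow, hx2, map_one, Subgroup.coe_one]
        rw [this, map_one]
      · intro h1
        rw [MulEquiv.map_eq_one_iff] at h1
        have h2 : ((e.symm x : L) : G) = 1 := congrArg Subtype.val h1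
        have h3 : e.symm x = 1 := Subtype.ext h2
        rw [MulEquiv.map_eq_one_iff] at h3
        exact hx1 h3
    obtain ⟨hu, hu'⟩ := key u5 (Or.inr (Or.inl rfl)) (by decide) (by decide)
    obtain ⟨hv, hv'⟩ := key v5 (Or.inr (Or.inr (Or.inl rfl))) (by decide) (by decide)
    have h1 := e2.injective (hu'.trans hv'.symm)
    have h2 : ((e.symm u5 : L) : G) = ((e.symm v5 : L) : G) :=
      congrArg (fun k : (P : Subgroup G) => (k : G)) h1
    have h3 : u5 = v5 := e.symm.injective (Subtype.ext h2)
    revert h3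
    decide
  · have hLtop : L = ⊤ := eq_top_of_card_eq L (by rw [h, hc])
    have hperf : commutator G = ⊤ := by
      have := Subgroup.map_subtype_commutator L
      rw [hLp, ← MonoidHom.range_eq_map, range_subtype, hLtop] at this
      rw [_root_.commutator_def]
      exact this.symm
    exact perfect_case hc hperf hQ

end Cfsg.Agent.Lib.Helper76Ord120
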