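import Mathlib
import Cfsg.Agent.S3377
import Cfsg.Agent.Lib.Helper28ZaG8

set_option autoImplicit false

namespace Cfsg.Agent.Lib.Helper76Pres120

open Subgroup

abbrev rels3 : Set (FreeGroup (Fin 3)) :=
  {FreeGroup.of (0 : Fin 3) ^ 3, FreeGroup.of (1 : Fin 3) ^ 5, FreeGroup.of (2 : Fin 3) ^ 2,
        (FreeGroup.of (2 : Fin 3))⁻¹ * FreeGroup.of 0 * FreeGroup.of 2 * (FreeGroup.of (0 : Fin 3))⁻¹,
        (FreeGroup.of (2 : Fin 3))⁻¹ * FreeGroup.of 1 * FreeGroup.of 2 * (FreeGroup.of (1 : Fin 3))⁻¹,
        (FreeGroup.of (0 : Fin 3) * FreeGroup.of 1) ^ 2 * (FreeGroup.of (2 : Fin 3))⁻¹}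

abbrev rels2 : Set (FreeGroup (Fin 2)) :=
  {FreeGroup.of (0 : Fin 2) ^ 3, FreeGroup.of (1 : Fin 2) ^ 5,
        (FreeGroup.of (0 : Fin 2) * FreeGroup.of 1) ^ 2}

abbrev PP := PresentedGroup rels3
abbrev QQ := PresentedGroup rels2

def x : PP := PresentedGroup.of 0
def y : PP := PresentedGroup.of 1
def z : PP := PresentedGroup.of 2

theorem hx : x ^ 3 = 1 := by
  have : PresentedGroup.mk rels3 (FreeGroup.of (0 : Fin 3) ^ 3) = 1 :=
    PresentedGroup.one_of_mem (by simp)
  rw [map_pow] at this
  exact this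

theorem hy : y ^ 5 = 1 := by
  have : PresentedGroup.mk rels3 (FreeGroup.of (1 : Fin 3) ^ 5) = 1 :=
    PresentedGroup.one_of_mem (by simp)
  rw [map_pow] at this
  exact this

theorem hz : z ^ 2 = 1 := by
  have : PresentedGroup.mk rels3 (FreeGroup.of (2 : Fin 3) ^ 2) = 1 :=
    PresentedGroup.one_of_mem (by simp)
  rw [map_pow] at this
  exact this

theorem hzx : z⁻¹ * x * z * x⁻¹ = 1 := by
  have : PresentedGroup.mk rels3 ((FreeGroup.of (2 : Fin 3))⁻¹ * FreeGroup.of 0 * FreeGroup.of 2 *
      (FreeGroup.of (0 : Fin 3))⁻¹) = 1 :=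
    PresentedGroup.one_of_mem (by simp)
  simp only [map_mul, map_inv] at this
  exact this

theorem hzy : z⁻¹ * y * z * y⁻¹ = 1 := by
  have : PresentedGroup.mk rels3 ((FreeGroup.of (2 : Fin 3))⁻¹ * FreeGroup.of 1 * FreeGroup.of 2 *
      (FreeGroup.of (1 : Fin 3))⁻¹) = 1 :=
    PresentedGroup.one_of_mem (by simp)
  simp only [map_mul, map_inv] at this
  exact this

theorem hxy : (x * y) ^ 2 * z⁻¹ = 1 := by
  have : PresentedGroup.mk rels3 ((FreeGroup.of (0 : Fin 3) * FreeGroup.of 1) ^ 2 *
      (FreeGroup.of (2 : Fin 3))⁻¹) = 1 :=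
    PresentedGroup.one_of_mem (by simp)
  simp only [map_mul, map_inv, map_pow] at this
  exact this

theorem mem_of_gens (H : Subgroup PP) (h1 : x ∈ H) (h2 : y ∈ H) (h3 : z ∈ H) (g : PP) : g ∈ H := by
  apply PresentedGroup.generated_by rels3 H
  intro j
  fin_cases j
  · exact h1
  · exact h2
  · exact h3

/-! ### the model -/
abbrev SL25 := Matrix.SpecialLinearGroup (Fin 2) (ZMod 5)

def mX : SL25 := ⟨!![0, -1; 1, -1], by rw [Matrix.det_fin_two_of]; decide⟩
def mY : SL25 := ⟨!![1, 1; 0, 1], by rw [Matrix.det_fin_two_of]; decide⟩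
def mZ : SL25 := ⟨!![-1, 0; 0, -1], by rw [Matrix.det_fin_two_of]; decide⟩

theorem model_rels : ∀ r ∈ rels3, FreeGroup.lift ![mX, mY, mZ] r = 1 := by
  intro r hr
  simp only [Set.mem_insert_iff, Set.mem_singleton_iff] at hr
  rcases hr with rfl | rfl | rfl | rfl | rfl | rfl <;>
    simp only [map_mul, map_inv, map_pow, FreeGroup.lift_apply_of, Matrix.cons_val_zero,
      Matrix.cons_val_one, Matrix.cons_val] <;> decide

theorem z_ne_one : z ≠ 1 := by
  intro h
  have h1 : PresentedGroup.toGroup model_rels z = mZ := PresentedGroup.toGroup.of model_rels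
  rw [h, map_one] at h1
  revert h1
  decide

/-! ### `z` is central -/
theorem z_comm (g : PP) : g * z = z * g := by
  have : g ∈ centralizer {z} := by
    apply mem_of_gens
    · rw [mem_centralizer_singleton_iff]
      have := hzx
      have h2 : z⁻¹ * x * z = x := by rwa [mul_inv_eq_one] at this
      calc x * z = z * (z⁻¹ * x * z) := by group
        _ = z * x := by rw [h2]
    · rw [mem_centralizer_singleton_iff]
      have := hzy
      have h2 : z⁻¹ * y * z = y := by rwa [mul_inv_eq_one] at this
      calc y * z = z * (z⁻¹ * y * z) := by group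
        _ = z * y := by rw [h2]
    · rw [mem_centralizer_singleton_iff]
  exact mem_centralizer_singleton_iff.mp this

instance : (zpowers z).Normal := by
  constructor
  intro n hn g
  obtain ⟨k, rfl⟩ := mem_zpowers_iff.mp hn
  have h : Commute g (z ^ k) := (show Commute g z from z_comm g).zpow_right k
  have : g * z ^ k * g⁻¹ = z ^ k := by rw [h.eq, mul_inv_cancel_right]
  rw [this]
  exact hn

/-! ### the map to the `(2,3,5)` group -/
theorem down_rels : ∀ r ∈ rels3,
    FreeGroup.lift ![(PresentedGroup.of 0 : QQ), PresentedGroup.of 1, 1] r = 1 := by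
  have q1 : (PresentedGroup.of 0 : QQ) ^ 3 = 1 := by
    have : PresentedGroup.mk rels2 (FreeGroup.of (0 : Fin 2) ^ 3) = 1 :=
      PresentedGroup.one_of_mem (by simp)
    rw [map_pow] at this
    exact this
  have q2 : (PresentedGroup.of 1 : QQ) ^ 5 = 1 := by
    have : PresentedGroup.mk rels2 (FreeGroup.of (1 : Fin 2) ^ 5) = 1 :=
      PresentedGroup.one_of_mem (by simp)
    rw [map_pow] at this
    exact this
  have q3 : ((PresentedGroup.of 0 : QQ) * PresentedGroup.of 1) ^ 2 = 1 := by
    have : PresentedGroup.mk rels2 ((FreeGroup.of (0 : Fin 2) * FreeGroup.of 1) ^ 2) = 1 :=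
      PresentedGroup.one_of_mem (by simp)
    rw [map_pow, map_mul] at this
    exact this
  intro r hr
  simp only [Set.mem_insert_iff, Set.mem_singleton_iff] at hr
  rcases hr with rfl | rfl | rfl | rfl | rfl | rfl <;>
    simp only [map_mul, map_inv, map_pow, FreeGroup.lift_apply_of, Matrix.cons_val_zero,
      Matrix.cons_val_one, Matrix.cons_val] <;> simp [q1, q2, q3]

def down : PP →* QQ := PresentedGroup.toGroup down_rels

theorem down_x : down x = PresentedGroup.of 0 := PresentedGroup.toGroup.of down_rels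
theorem down_y : down y = PresentedGroup.of 1 := PresentedGroup.toGroup.of down_rels
theorem down_z : down z = 1 := PresentedGroup.toGroup.of down_rels

theorem down_surjective : Function.Surjective down := by
  rw [← MonoidHom.range_eq_top, eq_top_iff]
  intro g _
  apply PresentedGroup.generated_by rels2
  intro j
  fin_cases j
  · exact ⟨x, down_x⟩
  · exact ⟨y, down_y⟩

theorem up_rels : ∀ r ∈ rels2,
    FreeGroup.lift ![(QuotientGroup.mk x : PP ⧸ zpowers z), QuotientGroup.mk y] r = 1 := by
  intro r hr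
  simp only [Set.mem_insert_iff, Set.mem_singleton_iff] at hr
  rcases hr with rfl | rfl | rfl <;>
    simp only [map_mul, map_inv, map_pow, FreeGroup.lift_apply_of, Matrix.cons_val_zero,
      Matrix.cons_val_one, Matrix.cons_val]
  · rw [← QuotientGroup.mk_pow, hx]; rfl
  · rw [← QuotientGroup.mk_pow, hy]; rfl
  · rw [← QuotientGroup.mk_mul, ← QuotientGroup.mk_pow, QuotientGroup.eq_one_iff]
    have := hxy
    rw [mul_inv_eq_one] at this
    rw [this]
    exact mem_zpowers z

def up : QQ →* PP ⧸ zpowers z := PresentedGroup.toGroup up_rels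

theorem up_down : up.comp down = QuotientGroup.mk' (zpowers z) := by
  apply PresentedGroup.ext
  intro j
  fin_cases j
  · show up (down x) = _
    rw [down_x]
    exact PresentedGroup.toGroup.of up_rels
  · show up (down y) = _
    rw [down_y]
    exact PresentedGroup.toGroup.of up_rels
  · show up (down z) = QuotientGroup.mk z
    rw [down_z, map_one]
    exact ((QuotientGroup.eq_one_iff z).mpr (mem_zpowers z)).symm

theorem ker_down : down.ker = zpowers z := by
  apply le_antisymm
  · intro g hg
    have h1 : up (down g) = QuotientGroup.mk g := DFunLike.congr_fun up_down g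
    rw [MonoidHom.mem_ker.mp hg, map_one] at h1
    exact (QuotientGroup.eq_one_iff g).mp h1.symm
  · rw [zpowers_le]
    exact down_z

theorem card_ker_down : Nat.card down.ker = 2 := by
  rw [ker_down, Nat.card_zpowers]
  exact orderOf_eq_prime hz z_ne_one

/-! ### perfectness -/
theorem perfect : commutator PP = ⊤ := by
  have key : ∀ (A : Type) [CommGroup A] (a b c : A), a ^ 3 = 1 → b ^ 5 = 1 → c ^ 2 = 1 →
      (a * b) ^ 2 * c⁻¹ = 1 → a = 1 ∧ b = 1 ∧ c = 1 := by
    intro A _ a b c ha hb hc habc
    have h1 : (a * b) ^ 2 = c := by rwa [mul_inv_eq_one] at habc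
    have h2 : a ^ 4 * b ^ 4 = 1 := by
      rw [← mul_pow]
      have : (a * b) ^ 4 = ((a * b) ^ 2) ^ 2 := by rw [← pow_mul]
      rw [this, h1, hc]
    have h3 : a * b ^ 4 = 1 := by
      have : a ^ 4 = a := by rw [pow_succ, ha, one_mul]
      rwa [this] at h2
    have h4 : a = b := by
      have : a * b ^ 4 * b = b := by rw [h3, one_mul]
      rw [mul_assoc, ← pow_succ, hb, mul_one] at this
      exact this
    subst h4
    have h5 : a = 1 := by
      have : a ^ 6 = a ^ 5 * a := pow_succ a 5
      have h6 : a ^ 6 = 1 := by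
        have : a ^ 6 = (a ^ 3) ^ 2 := by rw [← pow_mul]
        rw [this, ha, one_pow]
      rw [h6, hb, one_mul] at this
      exact this.symm
    subst h5
    refine ⟨rfl, rfl, ?_⟩
    rw [← h1]; simp
  obtain ⟨h1, h2, h3⟩ := key (Abelianization PP) (Abelianization.of x) (Abelianization.of y)
    (Abelianization.of z) (by rw [← map_pow, hx, map_one]) (by rw [← map_pow, hy, map_one])
    (by rw [← map_pow, hz, map_one])
    (by rw [← map_mul, ← map_pow, ← map_inv, ← map_mul, hxy, map_one])
  rw [eq_top_iff]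
  intro g _
  apply mem_of_gens
  · rw [← Abelianization.ker_of]; exact h1
  · rw [← Abelianization.ker_of]; exact h2
  · rw [← Abelianization.ker_of]; exact h3

theorem part_two : Nonempty (PP ≃* SL25) := by
  obtain ⟨e⟩ := Cfsg.Agent.S3377.result
  have hker : (e.toMonoidHom.comp down).ker = down.ker := by
    ext g
    rw [MonoidHom.mem_ker, MonoidHom.mem_ker]
    show e (down g) = 1 ↔ _
    rw [MulEquiv.map_eq_one_iff]
  have hsurj : Function.Surjective (e.toMonoidHom.comp down) := e.surjective.comp down_surjective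
  have hfin : Finite PP := by
    apply Nat.finite_of_card_ne_zero
    rw [← down.ker.card_mul_index, card_ker_down, Subgroup.index_ker,
      MonoidHom.range_eq_top.mpr down_surjective, Nat.card_congr (Subgroup.topEquiv.toEquiv),
      Nat.card_congr e.toEquiv]
    have : Nat.card (alternatingGroup (Fin 5)) ≠ 0 := Nat.card_pos.ne'
    omega
  exact Cfsg.Agent.Lib.Helper28ZaG8.equiv_SL25 perfect (e.toMonoidHom.comp down) hsurj
    (by rw [hker, card_ker_down])

end Cfsg.Agent.Lib.Helper76Pres120
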