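import Cfsg.Agent.Lib.Helper96SpTv

set_option autoImplicit false

/-! PROJECT 3 = ASCH-SP, PART D, piece D_quad. -/

namespace Cfsg.Agent.Lib.Helper76SpDQuad

open Cfsg Cfsg.Geo Matrix
open Cfsg.Agent.Lib.Helper97GBase Cfsg.Agent.Lib.Helper96SpDefs Cfsg.Agent.Lib.Helper96SpTv
open scoped MatrixGroups

variable {ι : Type} [Fintype ι] [DecidableEq ι] {F : Type*} [Field F]
variable {f : (ι → F) → (ι → F) → F}

lemma quad_tv (hf : IsSymplecticForm f) {Q : (ι → F) → F} (hQ : IsNondegenerateQuadraticForm Q)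
    (hpol : ∀ u v, QuadraticMap.polar Q u v = f u v) (v : ι → F) (c : F) (x : ι → F) :
    Q ((tv hf v c : Matrix ι ι F) *ᵥ x) = Q x + (f x v) ^ 2 * (c + c ^ 2 * Q v) := by
  rw [tv_mulVec]
  have h1 := hpol x ((c * f x v) • v)
  rw [QuadraticMap.polar, hf.bilinear.smul_right, hQ.smul] at h1
  linear_combination h1

/-- [D_quad] -/
theorem notSp_quad (hf : IsSymplecticForm f) (h2 : (2 : F) = 0) (hn : 3 ≤ Fintype.card ι) {Q : (ι → F) → F}
    (hQ : IsNondegenerateQuadraticForm Q) (hpol : ∀ u v, QuadraticMap.polar Q u v = f u v) :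
    ∃ v c, tv hf v c ∉ quadSimilarityGroup Q := by
  by_contra hcon
  push Not at hcon
  have hpol' : ∀ u v, f u v = Q (u + v) - Q u - Q v := fun u v => (hpol u v).symm
  -- no singular vectors
  have step1 : ∀ v : ι → F, v ≠ 0 → Q v ≠ 0 := by
    intro v hv hQv
    obtain ⟨μ, hμ⟩ := hcon v 1
    obtain ⟨x0, hx0⟩ := (hf.nondegenerate v hv).1
    have h3 : ∀ x, (f x v) ^ 2 = ((μ : F) - 1) * Q x := by
      intro x
      have := hμ x
      rw [quad_tv hf hQ hpol, hQv] at this
      linear_combination this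
    have hμ1 : (μ : F) - 1 ≠ 0 := by
      intro h
      have := h3 x0
      rw [h, zero_mul] at this
      exact hx0 (pow_eq_zero_iff (two_ne_zero) |>.mp this)
    have h4 : ((μ : F) - 1) * f x0 v = 0 := by
      rw [hpol' x0 v]
      have e1 := h3 (x0 + v)
      have e2 := h3 x0
      have e3 := h3 v
      rw [hf.bilinear.add_left] at e1
      linear_combination (-1 : F) * e1 + e2 + e3 + (f x0 v * f v v) * h2
    rcases mul_eq_zero.mp h4 with h | h
    · exact hμ1 h
    · exact hx0 h
  have step2 : ∀ v : ι → F, v ≠ 0 → Q v = 1 := by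
    intro v hv
    obtain ⟨μ, hμ⟩ := hcon v 1
    obtain ⟨x0, hx0⟩ := (hf.nondegenerate v hv).1
    have hQv := step1 v hv
    have h3 := hμ v
    rw [quad_tv hf hQ hpol, hf.alternating] at h3
    have hμ1 : (μ : F) = 1 := by
      have : ((μ : F) - 1) * Q v = 0 := by linear_combination -h3
      rcases mul_eq_zero.mp this with h | h
      · linear_combination h
      · exact absurd h hQv
    have h4 := hμ x0
    rw [quad_tv hf hQ hpol, hμ1] at h4
    have h5 : (f x0 v) ^ 2 * (1 + Q v) = 0 := by linear_combination h4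
    rcases mul_eq_zero.mp h5 with h | h
    · exact absurd (pow_eq_zero_iff (two_ne_zero) |>.mp h) hx0
    · linear_combination h - h2
  obtain ⟨i, j, k, hij, hik, hjk⟩ := Fintype.two_lt_card_iff.mp hn
  set a : ι → F := Pi.single i 1 with ha
  set b : ι → F := Pi.single j 1 with hb
  set d : ι → F := Pi.single k 1 with hd
  have ne : ∀ (w : ι → F) (l : ι), w l ≠ 0 → w ≠ 0 := by
    intro w l hw h
    exact hw (by rw [h]; rfl)
  have ea := step2 a (ne a i (by simp [ha]))
  have eb := step2 b (ne b j (by simp [hb]))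
  have ed := step2 d (ne d k (by simp [hd]))
  have eab := step2 (a + b) (ne _ i (by simp [ha, hb, hij]))
  have ead := step2 (a + d) (ne _ i (by simp [ha, hd, hik]))
  have ebd := step2 (b + d) (ne _ j (by simp [hb, hd, hjk]))
  have eabd := step2 (a + (b + d)) (ne _ i (by simp [ha, hb, hd, hij, hik]))
  have h1 := hpol' a b
  have h3 := hpol' a d
  have h4 := hpol' a (b + d)
  rw [hf.bilinear.add_right, h1, h3, ea, eb, ed, eab, ead, ebd, eabd] at h4
  have : (1 : F) = 0 := by linear_combination -h4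
  exact one_ne_zero this

end Cfsg.Agent.Lib.Helper76SpDQuad
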