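import Cfsg.Agent.Lib.Helper96SpTv

set_option autoImplicit false

/-! PROJECT 3 = ASCH-SP, PART D, piece D_subfield. -/

namespace Cfsg.Agent.Lib.Helper76SpDSubfield

open Cfsg Cfsg.Geo Matrix
open Cfsg.Agent.Lib.Helper97GBase Cfsg.Agent.Lib.Helper96SpDefs Cfsg.Agent.Lib.Helper96SpTv
open scoped MatrixGroups

variable {ι : Type} [Fintype ι] [DecidableEq ι] {F : Type*} [Field F]
variable {f : (ι → F) → (ι → F) → F}

/-- [D_subfield] take `v = P e_i`: then `P⁻¹ (tv v c) P = 1 + c e_i b^T` has diagonal `1`. -/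
theorem notSp_subfield [Finite F] [Nonempty ι] (hf : IsSymplecticForm f) {F₀ : Subfield F} (hF₀ : F₀ ≠ ⊤)
    (P : GL ι F) : ∃ v c, tv hf v c ∉ subfieldSubgroup F₀ P := by
  obtain ⟨i⟩ := ‹Nonempty ι›
  set v : ι → F := (P : Matrix ι ι F) *ᵥ Pi.single i 1 with hv
  have hv0 : v ≠ 0 := by
    intro h
    have h1 : (P : Matrix ι ι F) *ᵥ Pi.single i 1 = (P : Matrix ι ι F) *ᵥ 0 := by
      rw [Matrix.mulVec_zero]; exact h
    have h2 := congrFun (mulVec_injective P h1) i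
    simp at h2
  obtain ⟨x0, hx0⟩ := (hf.nondegenerate v hv0).1
  obtain ⟨j, hj⟩ : ∃ j, f ((P : Matrix ι ι F) *ᵥ Pi.single j 1) v ≠ 0 := by
    by_contra hcon
    push Not at hcon
    apply hx0
    have h1 : x0 = ∑ j, ((((P⁻¹ : GL ι F) : Matrix ι ι F) *ᵥ x0) j) • ((P : Matrix ι ι F) *ᵥ Pi.single j 1) := by
      conv_lhs => rw [← mulVec_inv_mulVec P x0, pi_eq_sum_univ' (((P⁻¹ : GL ι F) : Matrix ι ι F) *ᵥ x0)]
      rw [Matrix.mulVec_sum]
      exact Finset.sum_congr rfl (fun j _ => Matrix.mulVec_smul _ _ _)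
    rw [h1, bil_sum_left hf.bilinear]
    apply Finset.sum_eq_zero
    intro j _
    rw [hf.bilinear.smul_left, hcon j, mul_zero]
  obtain ⟨t, ht⟩ : ∃ t : F, t ∉ F₀ := by
    by_contra hcon
    push Not at hcon
    exact hF₀ (eq_top_iff.mpr (fun a _ => hcon a))
  have hij : j ≠ i := by
    rintro rfl
    exact hj (hf.alternating v)
  refine ⟨v, t / f ((P : Matrix ι ι F) *ᵥ Pi.single j 1) v, ?_⟩
  intro hmem
  obtain ⟨g, hg, hgt⟩ := hmem
  have hgt' : P * g * P⁻¹ = tv hf v (t / f ((P : Matrix ι ι F) *ᵥ Pi.single j 1) v) := hgt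
  obtain ⟨_, ⟨m, rfl⟩, z, hz, hgz⟩ := Subgroup.mem_sup_of_normal_right.mp hg
  obtain ⟨c, hc⟩ := (mem_scalars_iff z).mp hz
  have hentry : ∀ a b, (g : Matrix ι ι F) a b = ((m a b : F₀) : F) * c := by
    intro a b
    rw [← hgz, Units.val_mul, hc, Matrix.mul_smul, mul_one]
    simp [mul_comm]
  have hcol : ∀ k, (g : Matrix ι ι F) *ᵥ Pi.single k 1 = Pi.single k 1 +
      ((t / f ((P : Matrix ι ι F) *ᵥ Pi.single j 1) v) * f ((P : Matrix ι ι F) *ᵥ Pi.single k 1) v) •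
        Pi.single i 1 := by
    intro k
    have e1 : g = P⁻¹ * tv hf v (t / f ((P : Matrix ι ι F) *ᵥ Pi.single j 1) v) * P := by
      rw [← hgt']; group
    rw [e1, Units.val_mul, Units.val_mul, ← Matrix.mulVec_mulVec, ← Matrix.mulVec_mulVec, tv_mulVec,
      Matrix.mulVec_add, Matrix.mulVec_smul, inv_mulVec_mulVec, hv, inv_mulVec_mulVec]
  have hgik : ∀ a k, (g : Matrix ι ι F) a k = ((g : Matrix ι ι F) *ᵥ Pi.single k 1) a := by
    intro a k
    simp
  have h1 : (g : Matrix ι ι F) i i = 1 := by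
    rw [hgik, hcol, ← hv, hf.alternating]
    simp
  have h2 : (g : Matrix ι ι F) i j = t := by
    rw [hgik, hcol, div_mul_cancel₀ _ hj]
    simp [hij.symm]
  rw [hentry] at h1 h2
  have hc0 : ((m i i : F₀) : F) ≠ 0 := by
    intro h
    rw [h, zero_mul] at h1
    exact zero_ne_one h1
  have hcF : (c : F) ∈ F₀ := by
    have : (c : F) = ((m i i : F₀) : F)⁻¹ := eq_inv_of_mul_eq_one_right h1
    rw [this]
    exact F₀.inv_mem (m i i).2
  exact ht (h2 ▸ F₀.mul_mem (m i j).2 hcF)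

end Cfsg.Agent.Lib.Helper76SpDSubfield
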