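import Mathlib
import Cfsg.Prelude.Def_Characters
import Cfsg.Agent.Lib.Helper5Galois
import Cfsg.Agent.Lib.Helper82Schur
import Cfsg.Agent.Lib.Helper4Char
import Cfsg.Agent.Lib.Helper83Char

set_option autoImplicit false

namespace Cfsg.Agent.Lib.Helper79GalConj

open Cfsg
open scoped ComplexConjugate

variable {G : Type*} [Group G] [Fintype G]

/-- a class function of norm one, positive at the identity, satisfying the functional equation
of irreducible characters, is an irreducible character. -/
theorem isIrrCharacter_of_functional_equation (f : G → ℂ) (hcl : IsClassFunction G f)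
    (hnorm : classInner f f = 1) (d : ℕ) (hd : f 1 = d)
    (hfe : ∀ a b : G, (∑ x : G, f (a * (x * b * x⁻¹))) * f 1 = (Nat.card G : ℂ) * f a * f b) :
    IsIrrCharacter G f := by
  classical
  have hn0 : (Nat.card G : ℂ) ≠ 0 := Helper4Char.card_ne_zero
  -- some irreducible constituent
  obtain ⟨θ, hθ⟩ : ∃ θ : IrrCharacter G, classInner f (θ : G → ℂ) ≠ 0 := by
    by_contra hcon
    push Not at hcon
    have : f = 0 := Helper4Char.eq_zero_of_classInner_irr_eq_zero f hcl
      (fun χ hχ => hcon ⟨χ, hχ⟩)
    rw [this, Helper4Char.classInner_zero_left] at hnorm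
    exact zero_ne_one hnorm
  have hθ1 : (θ : G → ℂ) 1 ≠ 0 := Helper82Schur.irr_one_ne_zero θ
  set c := classInner f (θ : G → ℂ) with hc
  have hS : ∑ a : G, f a * conj ((θ : G → ℂ) a) = (Nat.card G : ℂ) * c := by
    rw [hc]; unfold classInner; field_simp
  -- key identity
  have key : ∀ b : G, f b * (θ : G → ℂ) 1 = (θ : G → ℂ) b * f 1 := by
    intro b
    have h1 : ∑ a : G, (∑ x : G, f (a * (x * b * x⁻¹))) * conj ((θ : G → ℂ) a) =
        (Nat.card G : ℂ) * ((Nat.card G : ℂ) * c) * (θ : G → ℂ) b / (θ : G → ℂ) 1 := by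
      have h2 : ∀ x : G, ∑ a : G, f (a * (x * b * x⁻¹)) * conj ((θ : G → ℂ) a) =
          ∑ a : G, f a * conj ((θ : G → ℂ) (a * (x * b⁻¹ * x⁻¹))) := by
        intro x
        refine Fintype.sum_equiv (Equiv.mulRight (x * b * x⁻¹)) _ _ fun a => ?_
        simp only [Equiv.coe_mulRight]
        congr 3
        group
      simp only [Finset.sum_mul]
      rw [Finset.sum_comm, Finset.sum_congr rfl (fun x _ => h2 x), Finset.sum_comm]
      have h3 : ∀ a : G, ∑ x : G, f a * conj ((θ : G → ℂ) (a * (x * b⁻¹ * x⁻¹))) =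
          f a * conj ((θ : G → ℂ) a) * ((Nat.card G : ℂ) * (θ : G → ℂ) b / (θ : G → ℂ) 1) := by
        intro a
        rw [← Finset.mul_sum, ← map_sum, Helper82Schur.irr_sum_mul_conj θ a b⁻¹]
        obtain ⟨k, -, hk⟩ := Helper83Char.irr_one θ.2
        rw [Helper83Char.irr_inv θ.2 b]
        simp only [map_div₀, map_mul, Complex.conj_conj, map_natCast, hk]
        ring
      rw [Finset.sum_congr rfl (fun a _ => h3 a), ← Finset.sum_mul, hS]
      ring
    have h4 : (∑ a : G, (∑ x : G, f (a * (x * b * x⁻¹))) * conj ((θ : G → ℂ) a)) * f 1 =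
        (Nat.card G : ℂ) * ((Nat.card G : ℂ) * c) * f b := by
      rw [Finset.sum_mul]
      have : ∀ a : G, (∑ x : G, f (a * (x * b * x⁻¹))) * conj ((θ : G → ℂ) a) * f 1 =
          (Nat.card G : ℂ) * f b * (f a * conj ((θ : G → ℂ) a)) := by
        intro a
        rw [mul_right_comm, hfe a b]; ring
      rw [Finset.sum_congr rfl (fun a _ => this a), ← Finset.mul_sum, hS]
      ring
    rw [h1] at h4
    have h5 : (Nat.card G : ℂ) * ((Nat.card G : ℂ) * c) ≠ 0 := mul_ne_zero hn0 (mul_ne_zero hn0 hθ)
    field_simp at h4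
    linear_combination -h4
  obtain ⟨k, hk0, hk⟩ := Helper83Char.irr_one θ.2
  have hf : f = ((d : ℂ) / (k : ℂ)) • (θ : G → ℂ) := by
    funext b
    have := key b
    rw [hk, hd] at this
    have hk' : (k : ℂ) ≠ 0 := by exact_mod_cast hk0.ne'
    simp only [Pi.smul_apply, smul_eq_mul]
    field_simp
    linear_combination this
  have hdk : ((d : ℂ) / (k : ℂ)) * conj ((d : ℂ) / (k : ℂ)) = 1 := by
    have := hnorm
    rw [hf, Helper4Char.classInner_smul_left, Helper4Char.classInner_smul_right,
      Helper4Char.classInner_irr_self θ.2, mul_one] at this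
    exact this
  have hk' : (k : ℂ) ≠ 0 := by exact_mod_cast hk0.ne'
  have hdk' : d = k := by
    simp only [map_div₀, map_natCast] at hdk
    field_simp at hdk
    have h8 : d ^ 2 = k ^ 2 := by exact_mod_cast hdk
    exact Nat.pow_left_injective (n := 2) (by norm_num) h8
  rw [hf, hdk', div_self hk', one_smul]
  exact θ.2

omit [Fintype G] in
theorem pow_bijective [Finite G] (m : ℕ) (hm : m.Coprime (Nat.card G)) :
    Function.Bijective (fun g : G => g ^ m) := (powCoprime hm.symm).bijective

/-- Galois conjugates of irreducible characters are irreducible characters. -/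
theorem isIrrCharacter_pow {χ : G → ℂ} (hχ : IsIrrCharacter G χ) (m : ℕ)
    (hm : m.Coprime (Nat.card G)) : IsIrrCharacter G (fun g => χ (g ^ m)) := by
  classical
  have hχ' := hχ
  obtain ⟨k, ρ, hirr, rfl⟩ := hχ
  have hn : 0 < Nat.card G := Nat.card_pos
  obtain ⟨ψ, hψ⟩ := Helper5Galois.exists_ringHom_of_coprime (Nat.card G) hn m hm
  have hG : ∀ g : G, g ^ Nat.card G = 1 := fun g => pow_card_eq_one'
  have happ := Helper5Galois.apply_charK ρ (Nat.card G) hn hG ψ m hψ
  apply isIrrCharacter_of_functional_equation _ _ _ k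
  · simp
  · intro a b
    have h1 := Helper82Schur.irr_sum_mul_conj ⟨ρ.character, hχ'⟩ a b
    have h0 : ρ.character 1 ≠ 0 := Helper82Schur.irr_one_ne_zero ⟨ρ.character, hχ'⟩
    simp only at h1
    have h2 : (∑ x : G, Helper5Galois.charK ρ (a * (x * b * x⁻¹))) * Helper5Galois.charK ρ 1 =
        (Nat.card G : Helper5Galois.K) * Helper5Galois.charK ρ a * Helper5Galois.charK ρ b := by
      apply Subtype.ext
      push_cast
      simp only [Helper5Galois.charK_coe]
      rw [h1]
      field_simp
    have h3 := congrArg ψ h2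
    simp only [map_mul, map_sum, map_natCast, happ] at h3
    exact h3
  · intro g h
    simp only [conj_pow]
    exact Representation.char_conj ρ _ _
  · have h1 := Helper4Char.classInner_irr_self hχ'
    unfold classInner at h1 ⊢
    rw [← h1]
    congr 1
    exact Fintype.sum_equiv (powCoprime hm.symm) _ _ (fun g => rfl)

end Cfsg.Agent.Lib.Helper79GalConj
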