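import Mathlib
import Cfsg.Prelude.Def_Characters
import Cfsg.Prelude.Def_CharExt
import Cfsg.Agent.Lib.Helper77Glaub4
import Cfsg.Agent.Lib.Helper79GalConj
import Cfsg.Agent.S0867

set_option autoImplicit false

/-!
# The canonical extension: Galois invariance
-/

namespace Cfsg.Agent.Lib.Helper77Cyc1

open Module Representation
open scoped ComplexConjugate
open Cfsg.Agent.Lib.Helper4Eigen Cfsg.Agent.Lib.Helper4Char Cfsg.Agent.Lib.Helper4Char2
  Cfsg.Agent.Lib.Helper4Char3 Cfsg.Agent.Lib.Helper4Char4 Cfsg.Agent.Lib.Helper4Perm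
  Cfsg.Agent.Lib.Helper77Glaub Cfsg.Agent.Lib.Helper77Glaub2 Cfsg.Agent.Lib.Helper77Glaub3
  Cfsg.Agent.Lib.Helper77Glaub4 Cfsg.Agent.Lib.Helper19Lin Cfsg.Agent.Lib.Helper19Det

section DetPow

variable {G : Type*} [Group G] [Finite G]

/-- the power map on a cyclic subgroup -/
def zpw (g : G) (m : ℕ) : Subgroup.zpowers g →* Subgroup.zpowers g where
  toFun a := a ^ m
  map_one' := one_pow m
  map_mul' a b := by
    obtain ⟨a, i, rfl⟩ := a
    obtain ⟨b, j, rfl⟩ := b
    apply Subtype.ext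
    exact ((Commute.refl g).zpow_zpow i j).mul_pow m

theorem detChar_pow {χ : G → ℂ} (hχ : Cfsg.IsCharacter G χ) (m : ℕ)
    (hψ : Cfsg.IsCharacter G (fun g => χ (g ^ m))) :
    Cfsg.detChar (fun g => χ (g ^ m)) = (Cfsg.detChar χ) ^ m := by
  funext g
  have h1 := detChar_comp (Subgroup.zpowers g).subtype hψ
  have hχA : Cfsg.IsCharacter (Subgroup.zpowers g) (fun a => χ ((Subgroup.zpowers g).subtype a)) :=
    IsCharacter.comp _ hχ
  have h2 := detChar_comp (zpw g m) hχA
  have h3 := detChar_comp (Subgroup.zpowers g).subtype hχ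
  have h4 : (fun a : Subgroup.zpowers g => χ (((Subgroup.zpowers g).subtype a) ^ m))
      = fun a => χ ((Subgroup.zpowers g).subtype (zpw g m a)) := rfl
  rw [h4, h2, h3] at h1
  have h5 := congrFun h1 ⟨g, Subgroup.mem_zpowers g⟩
  obtain ⟨f, hf⟩ := exists_detHom hχ
  change Cfsg.detChar χ (g ^ m) = Cfsg.detChar (fun g => χ (g ^ m)) g at h5
  rw [← h5, Pi.pow_apply, hf, homFun_apply, homFun_apply, map_pow]
  simp

end DetPow

section Canonical

variable {Γ : Type*} [Group Γ] [Finite Γ] (G : Subgroup Γ) [hG : G.Normal]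

/-- uniqueness of the canonical extension -/
theorem canonical_unique {χh χh' : Γ → ℂ} (hχh : Cfsg.IsIrrCharacter Γ χh)
    (hχh' : Cfsg.IsIrrCharacter Γ χh') (hres : Cfsg.IsIrrCharacter G (fun g : G => χh g))
    (heq : ∀ g : G, χh' g = χh g)
    (hcop : (Nat.card G).Coprime G.index) (hdet : (Cfsg.detOrder χh).Coprime G.index)
    (hdet' : (Cfsg.detOrder χh').Coprime G.index) : χh' = χh := by
  have : Fintype G := Fintype.ofFinite _
  obtain ⟨d, hd, hdG⟩ := irr_degree_nat hres
  obtain ⟨χ₁, -, huniq⟩ := Cfsg.Agent.S0867.result G (fun g : G => χh g) hres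
    (fun g n => IsIrrCharacter.isClassFunction hχh _ _) d hd
    (Nat.Coprime.symm (Nat.Coprime.mul_left
      (hcop.coprime_dvd_left (detOrder_dvd_card (IsIrrCharacter.isCharacter hres)))
      (hcop.coprime_dvd_left hdG)))
  rw [huniq χh hχh (fun _ => rfl) hdet.symm, huniq χh' hχh' heq hdet'.symm]

theorem canonical_pow {χh : Γ → ℂ} (hχh : Cfsg.IsIrrCharacter Γ χh)
    (hres : Cfsg.IsIrrCharacter G (fun g : G => χh g))
    (hcop : (Nat.card G).Coprime G.index) (hdet : (Cfsg.detOrder χh).Coprime G.index)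
    (j : ℕ) (hj1 : j ≡ 1 [MOD Nat.card G]) (hj : j.Coprime (Nat.card Γ)) (x : Γ) :
    χh (x ^ j) = χh x := by
  cases nonempty_fintype Γ
  have h1 : Cfsg.IsIrrCharacter Γ (fun g => χh (g ^ j)) :=
    Cfsg.Agent.Lib.Helper79GalConj.isIrrCharacter_pow hχh j hj
  have h2 : Cfsg.detOrder (fun g => χh (g ^ j)) ∣ Cfsg.detOrder χh := by
    unfold Cfsg.detOrder
    rw [detChar_pow (IsIrrCharacter.isCharacter hχh) j (IsIrrCharacter.isCharacter h1)]
    exact orderOf_pow_dvd j
  have h3 := canonical_unique G hχh h1 hres (fun g => by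
    have : ((g : Γ)) ^ j = g := by
      have e : (g : Γ) ^ j = (g : Γ) ^ 1 := by
        rw [pow_eq_pow_iff_modEq]
        refine hj1.of_dvd ?_
        rw [Subgroup.orderOf_coe]
        exact orderOf_dvd_natCard g
      rw [e, pow_one]
    change χh ((g : Γ) ^ j) = χh g
    rw [this]) hcop hdet (hdet.coprime_dvd_left h2)
  exact congrFun h3 x

/-- independence of the generator -/
theorem canonical_gen {χh : Γ → ℂ} (hχh : Cfsg.IsIrrCharacter Γ χh)
    (hres : Cfsg.IsIrrCharacter G (fun g : G => χh g))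
    (hcop : (Nat.card G).Coprime G.index) (hdet : (Cfsg.detOrder χh).Coprime G.index)
    (c s : Γ) (hc : c ∈ G) (hcs : Commute c s) (hs : s ^ G.index = 1) (k : ℕ)
    (hk : k.Coprime G.index) : χh (c * s ^ k) = χh (c * s) := by
  obtain ⟨j, hj1, hjk⟩ := Nat.chineseRemainder hcop 1 k
  have hjG : j.Coprime (Nat.card G) := by
    have := hj1.gcd_eq
    rw [Nat.Coprime, this]; simp
  have hjn : j.Coprime G.index := by
    have := hjk.gcd_eq
    rw [Nat.Coprime, this]; exact hk
  have hj : j.Coprime (Nat.card Γ) := by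
    rw [← Subgroup.card_mul_index G]
    exact Nat.Coprime.mul_right hjG hjn
  rw [← canonical_pow G hχh hres hcop hdet j hj1 hj (c * s), hcs.mul_pow]
  have e1 : c ^ j = c := by
    have e : c ^ j = c ^ 1 := by
      rw [pow_eq_pow_iff_modEq]
      refine hj1.of_dvd ?_
      have := orderOf_dvd_natCard (⟨c, hc⟩ : G)
      rwa [Subgroup.orderOf_mk] at this
    rw [e, pow_one]
  have e2 : s ^ j = s ^ k := by
    rw [pow_eq_pow_iff_modEq]
    exact hjk.of_dvd (orderOf_dvd_of_pow_eq_one hs)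
  rw [e1, e2]

end Canonical

end Cfsg.Agent.Lib.Helper77Cyc1
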