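import Mathlib
import Cfsg.Prelude.Def_Characters
import Cfsg.Agent.Lib.Helper77Glaub
import Cfsg.Agent.S0001

set_option autoImplicit false

/-!
# Coprime action of solvable groups: invariant characters and invariant classes
-/

namespace Cfsg.Agent.Lib.Helper77Glaub2

open Module Representation
open scoped ComplexConjugate
open Cfsg.Agent.Lib.Helper4Eigen Cfsg.Agent.Lib.Helper4Char Cfsg.Agent.Lib.Helper4Char2
  Cfsg.Agent.Lib.Helper4Char3 Cfsg.Agent.Lib.Helper4Char4 Cfsg.Agent.Lib.Helper4Perm
  Cfsg.Agent.Lib.Helper77Glaub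

section Classes

variable {G C S : Type*} [Group G] [Group C] [Group S]

/-- Invariance of a conjugacy class under an action by automorphisms. -/
def InvC (φ : S →* MulAut G) (K : ConjClasses G) : Prop :=
  ∀ (s : S) (g : G), ConjClasses.mk g = K → ConjClasses.mk (φ s g) = K

variable [Fintype G] [Fintype C]
  (p : ℕ) [Fact p.Prime] (hS : IsPGroup p S) {φ : S →* MulAut G} {ι : C →* G}
  (h : IsFix φ ι) (hp : ¬ p ∣ Nat.card G)

include hS h hp

/-- Fixed points which are conjugate in `G` are conjugate in the group of fixed points. -/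
theorem conj_of_conj {c c' : C} (hc : IsConj (ι c) (ι c')) : IsConj c c' := by
  classical
  by_contra hcon
  have s3 := sum_fix p hS h (fun x => if x * ι c * x⁻¹ = ι c' then (1 : ℂ) else 0)
    (fun s x => by
      have : φ s x * ι c * (φ s x)⁻¹ = ι c' ↔ x * ι c * x⁻¹ = ι c' := by
        constructor
        · intro hx
          apply (φ s).injective
          rw [map_mul, map_mul, map_inv, h.apply, h.apply, hx]
        · intro hx
          have := congrArg (φ s) hx
          rwa [map_mul, map_mul, map_inv, h.apply, h.apply] at this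
      simp only [this])
    (fun x => by split_ifs; exacts [isIntegral_one, isIntegral_zero])
  have s4 : ∑ d : C, (if ι d * ι c * (ι d)⁻¹ = ι c' then (1 : ℂ) else 0) = 0 := by
    refine Finset.sum_eq_zero (fun d _ => ?_)
    rw [if_neg]
    intro hd
    rw [← map_inv, ← map_mul, ← map_mul] at hd
    exact hcon (isConj_iff.mpr ⟨d, h.inj hd⟩)
  rw [s4, sub_zero, ← col_orth_count, col_orth, if_pos hc] at s3
  have h1 := PDvd.nat_dvd (Fact.out : p.Prime).ne_zero s3
  exact hp (h1.trans (Subgroup.card_subgroup_dvd_card _))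

/-- An invariant conjugacy class contains a fixed point. -/
theorem exists_fixed_in_class {K : ConjClasses G} (hK : InvC φ K) :
    ∃ c : C, ConjClasses.mk (ι c) = K := by
  classical
  by_contra hcon
  push Not at hcon
  have s3 := sum_fix p hS h (fun x => if ConjClasses.mk x = K then (1 : ℂ) else 0)
    (fun s x => by
      have : ConjClasses.mk (φ s x) = K ↔ ConjClasses.mk x = K := by
        constructor
        · intro hx
          have := hK s⁻¹ _ hx
          simpa using this
        · exact hK s x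
      simp only [this])
    (fun x => by split_ifs; exacts [isIntegral_one, isIntegral_zero])
  have s4 : ∑ d : C, (if ConjClasses.mk (ι d) = K then (1 : ℂ) else 0) = 0 :=
    Finset.sum_eq_zero (fun d _ => if_neg (hcon d))
  rw [s4, sub_zero, Finset.sum_boole] at s3
  have h1 := PDvd.nat_dvd (Fact.out : p.Prime).ne_zero s3
  apply hp
  refine h1.trans ?_
  have h2 := card_isConj_mul_card_centralizer (rep K)
  have h3 : (Finset.univ.filter (fun x : G => ConjClasses.mk x = K)).card
      = Nat.card {x // IsConj (rep K) x} := by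
    rw [Nat.card_eq_fintype_card, Fintype.card_subtype]
    congr 1
    ext x
    simp only [Finset.mem_filter, Finset.mem_univ, true_and]
    exact mk_eq_iff_isConj_rep K x
  rw [h3]
  exact Dvd.intro _ h2

end Classes

section FixSub

variable {G S : Type*} [Group G] [Group S]

/-- The subgroup of fixed points of an action by automorphisms. -/
def fixSub (φ : S →* MulAut G) : Subgroup G where
  carrier := {g | ∀ s, φ s g = g}
  one_mem' := fun s => map_one _
  mul_mem' := fun {a b} ha hb s => by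
    rw [map_mul, ha s, hb s]
  inv_mem' := fun {a} ha s => by
    rw [map_inv, ha s]

theorem mem_fixSub {φ : S →* MulAut G} {g : G} : g ∈ fixSub φ ↔ ∀ s, φ s g = g := Iff.rfl

theorem isFix_fixSub (φ : S →* MulAut G) : IsFix φ (fixSub φ).subtype where
  inj := Subtype.val_injective
  fix g := ⟨fun hg => ⟨⟨g, hg⟩, rfl⟩, by rintro ⟨c, rfl⟩; exact c.2⟩

end FixSub

section Equivariance

variable {G C : Type*} [Group G] [Group C] [Fintype C]

theorem classInner_comp_mulEquiv (b : C ≃* C) (f1 f2 : C → ℂ) :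
    Cfsg.classInner (fun c => f1 (b c)) (fun c => f2 (b c)) = Cfsg.classInner f1 f2 := by
  unfold Cfsg.classInner
  congr 1
  exact Fintype.sum_equiv b.toEquiv _ _ (fun c => rfl)

theorem mlt_comp (ι : C →* G) (a : G ≃* G) (b : C ≃* C) (hab : ∀ c, ι (b c) = a (ι c))
    (χ : G → ℂ) (γ : C → ℂ) : mlt ι (fun g => χ (a g)) (fun c => γ (b c)) = mlt ι χ γ := by
  unfold mlt
  have : (fun c => χ (a (ι c))) = fun c => (fun c => χ (ι c)) (b c) := by
    funext c
    simp only [hab]
  rw [this, classInner_comp_mulEquiv b (fun c => χ (ι c)) γ]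

end Equivariance

section Step

variable {G S T : Type*} [Group G] [Group S] [Group T]
  (p : ℕ) [Fact p.Prime] (hT : IsPGroup p T) (φ : S →* MulAut G) (φT : T →* MulAut G)
  (hTS : ∀ t, ∃ s, φT t = φ s) (hN : ∀ s t, ∃ t', φ s * φT t = φT t' * φ s)
  (hp : ¬ p ∣ Nat.card G)

include hN in
theorem fixSub_invariant (s : S) (b : G) (hb : b ∈ fixSub φT) : φ s b ∈ fixSub φT := by
  intro t
  obtain ⟨t', ht'⟩ := hN s⁻¹ t
  have h1 : φT t * φ s = φ s * φT t' := by
    have : φ s * (φ s⁻¹ * φT t) * φ s = φ s * (φT t' * φ s⁻¹) * φ s := by rw [ht']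
    simpa [mul_assoc] using this
  have h2 := congrArg (fun a : MulAut G => a b) h1
  simp only [MulAut.mul_apply] at h2
  rw [h2, hb t']

include hTS in
theorem inv_of_inv {χ : G → ℂ} (hi : Inv φ χ) : Inv φT χ := by
  intro t g
  obtain ⟨s, hs⟩ := hTS t
  rw [hs]
  exact hi s g

include hTS in
theorem invC_of_invC {K : ConjClasses G} (hi : InvC φ K) : InvC φT K := by
  intro t g
  obtain ⟨s, hs⟩ := hTS t
  rw [hs]
  exact hi s g

include hN in
theorem inv_comp {χ : G → ℂ} (hi : Inv φT χ) (s : S) : Inv φT (fun g => χ (φ s g)) := by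
  intro t g
  obtain ⟨t', ht'⟩ := hN s t
  have h2 := congrArg (fun a : MulAut G => a g) ht'
  simp only [MulAut.mul_apply] at h2
  change χ (φ s (φT t g)) = χ (φ s g)
  rw [h2, hi]

/-- The action induced on the fixed points of the normal subgroup `T`. -/
def fixAct : S →* MulAut (fixSub φT) := resAct φ (fixSub φT) (fixSub_invariant φ φT hN)

include hT hTS hp in
/-- Reduction step for characters. -/
theorem card_inv_irr_step [Fintype G] [Fintype (fixSub φT)] :
    Nat.card {χ : Cfsg.IrrCharacter G // Inv φ χ.1}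
      = Nat.card {β : Cfsg.IrrCharacter (fixSub φT) // Inv (fixAct φ φT hN) β.1} := by
  have hfix := isFix_fixSub φT
  set ι := (fixSub φT).subtype with hι
  set ψ := fixAct φ φT hN with hψ
  have hab : ∀ (s : S) (c : fixSub φT), ι (ψ s c) = φ s (ι c) := fun s c => rfl
  have hex : ∀ χ : {χ : Cfsg.IrrCharacter G // Inv φ χ.1},
      ∃ β : Cfsg.IrrCharacter (fixSub φT), ¬ p ∣ mlt ι χ.1.1 β.1 := fun χ =>
    exists_corr p hT hfix hp χ.1.2 (inv_of_inv φ φT hTS χ.2)
  choose f hf using hex
  have hfinv : ∀ χ, Inv ψ (f χ).1 := by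
    intro χ s
    have h1 : (⟨fun c => (f χ).1 (ψ s c), IsIrrCharacter.comp_mulEquiv (ψ s) (f χ).2⟩ :
        Cfsg.IrrCharacter (fixSub φT)) = f χ := by
      apply corr_unique p hT hfix hp χ.1.2 (inv_of_inv φ φT hTS χ.2) _ _ _ (hf χ)
      have h2 := mlt_comp ι (φ s) (ψ s) (hab s) χ.1.1 (f χ).1
      have h3 : (fun g => χ.1.1 (φ s g)) = χ.1.1 := funext (fun g => χ.2 s g)
      rw [h3] at h2
      change ¬ p ∣ mlt ι χ.1.1 (fun c => (f χ).1 (ψ s c))
      rw [h2]
      exact hf χ
    intro c
    exact congrFun (congrArg Subtype.val h1) c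
  refine Nat.card_eq_of_bijective (fun χ => ⟨f χ, hfinv χ⟩) ⟨?_, ?_⟩
  · intro χ χ' he
    have he' : f χ = f χ' := congrArg Subtype.val he
    apply Subtype.ext
    apply Subtype.ext
    refine corr_inj p hT hfix hp χ.1.2 (inv_of_inv φ φT hTS χ.2) χ'.1.2
      (inv_of_inv φ φT hTS χ'.2) (f χ).2 (hf χ) ?_
    rw [he']
    exact hf χ'
  · rintro ⟨β, hβ⟩
    obtain ⟨χ, hχi, hχ⟩ := corr_surj p hT hfix hp β
    have hχS : Inv φ χ.1 := by
      intro s
      have h1 : (fun g => χ.1 (φ s g)) = χ.1 := by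
        refine corr_inj p hT hfix hp (IsIrrCharacter.comp_mulEquiv (φ s) χ.2)
          (inv_comp φ φT hN hχi s) χ.2 hχi β.2 ?_ hχ
        have h2 := mlt_comp ι (φ s) (ψ s) (hab s) χ.1 β.1
        have h3 : (fun c => β.1 (ψ s c)) = β.1 := funext (fun c => hβ s c)
        rw [h3] at h2
        rw [h2]
        exact hχ
      exact fun g => congrFun h1 g
    refine ⟨⟨χ, hχS⟩, ?_⟩
    apply Subtype.ext
    exact corr_unique p hT hfix hp χ.2 hχi _ _ (hf ⟨χ, hχS⟩) hχ

include hT hTS hp in
/-- Reduction step for classes. -/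
theorem card_inv_classes_step [Fintype G] [Fintype (fixSub φT)] :
    Nat.card {L : ConjClasses (fixSub φT) // InvC (fixAct φ φT hN) L}
      = Nat.card {K : ConjClasses G // InvC φ K} := by
  have hfix := isFix_fixSub φT
  set ι := (fixSub φT).subtype with hι
  set ψ := fixAct φ φT hN with hψ
  have hab : ∀ (s : S) (c : fixSub φT), ι (ψ s c) = φ s (ι c) := fun s c => rfl
  have hwd : ∀ L : {L : ConjClasses (fixSub φT) // InvC ψ L}, InvC φ (ConjClasses.map ι L.1) := by
    rintro ⟨L, hL⟩ s g hg
    obtain ⟨b, rfl⟩ := ConjClasses.exists_rep L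
    change ConjClasses.mk g = ConjClasses.mk (ι b) at hg
    change ConjClasses.mk (φ s g) = ConjClasses.mk (ι b)
    have h1 : IsConj (φ s g) (φ s (ι b)) :=
      (φ s).toMonoidHom.map_isConj (ConjClasses.mk_eq_mk_iff_isConj.mp hg)
    have h2 : ConjClasses.mk (ψ s b) = ConjClasses.mk b := hL s b rfl
    have h3 : IsConj (ι (ψ s b)) (ι b) := ι.map_isConj (ConjClasses.mk_eq_mk_iff_isConj.mp h2)
    rw [hab] at h3
    exact ConjClasses.mk_eq_mk_iff_isConj.mpr (h1.trans h3)
  refine Nat.card_eq_of_bijective (fun L => ⟨ConjClasses.map ι L.1, hwd L⟩) ⟨?_, ?_⟩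
  · rintro ⟨L, hL⟩ ⟨L', hL'⟩ he
    have he' : ConjClasses.map ι L = ConjClasses.map ι L' := congrArg Subtype.val he
    apply Subtype.ext
    obtain ⟨b, rfl⟩ := ConjClasses.exists_rep L
    obtain ⟨b', rfl⟩ := ConjClasses.exists_rep L'
    change ConjClasses.mk (ι b) = ConjClasses.mk (ι b') at he'
    exact ConjClasses.mk_eq_mk_iff_isConj.mpr
      (conj_of_conj p hT hfix hp (ConjClasses.mk_eq_mk_iff_isConj.mp he'))
  · rintro ⟨K, hK⟩
    obtain ⟨b, hb⟩ := exists_fixed_in_class p hT hfix hp (invC_of_invC φ φT hTS hK)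
    refine ⟨⟨ConjClasses.mk b, ?_⟩, Subtype.ext hb⟩
    intro s b' hb'
    have h1 : ConjClasses.mk (ι b') = K := by
      rw [← hb]
      exact ConjClasses.mk_eq_mk_iff_isConj.mpr (ι.map_isConj (ConjClasses.mk_eq_mk_iff_isConj.mp hb'))
    have h2 := hK s _ h1
    rw [← hab, ← hb] at h2
    exact ConjClasses.mk_eq_mk_iff_isConj.mpr
      (conj_of_conj p hT hfix hp (ConjClasses.mk_eq_mk_iff_isConj.mp h2))

end Step

section Choice

variable {G S : Type*} [Group G] [Group S]

/-- For a nontrivial coprime action of a finite solvable group there is a `p`-group `T` of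
automorphisms, contained in and normalised by the image of `S`, acting nontrivially. -/
theorem exists_normal_p_action [Finite G] [Finite S] [Group.IsSolvable S] (φ : S →* MulAut G)
    (hφ : ∃ s, φ s ≠ 1) (hcop : (Nat.card G).Coprime (Nat.card S)) :
    ∃ (p : ℕ) (T : Subgroup φ.range), p.Prime ∧ IsPGroup p T ∧
      (∀ t : T, ∃ s, (φ.range.subtype.comp T.subtype) t = φ s) ∧
      (∀ (s : S) (t : T), ∃ t' : T, φ s * (φ.range.subtype.comp T.subtype) t
        = (φ.range.subtype.comp T.subtype) t' * φ s) ∧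
      ¬ p ∣ Nat.card G ∧ fixSub (φ.range.subtype.comp T.subtype) ≠ ⊤ := by
  have : Nontrivial φ.range := by
    obtain ⟨s, hs⟩ := hφ
    exact ⟨⟨⟨φ s, s, rfl⟩, 1, fun e => hs (congrArg Subtype.val e)⟩⟩
  have : Group.IsSolvable φ.range := Group.isSolvable_of_surjective φ.rangeRestrict_surjective
  obtain ⟨p, T, hp, hTn, hTne, hTp, -⟩ := Cfsg.Agent.S0001.exists_normal_pgroup φ.range
  refine ⟨p, T, hp, hTp, ?_, ?_, ?_, ?_⟩
  · intro t
    obtain ⟨s, hs⟩ := t.1.2
    exact ⟨s, hs.symm⟩
  · intro s t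
    refine ⟨⟨⟨φ s, s, rfl⟩ * t.1 * ⟨φ s, s, rfl⟩⁻¹, hTn.conj_mem t.1 t.2 _⟩, ?_⟩
    change φ s * t.1.1 = (φ s * t.1.1 * (φ s)⁻¹) * φ s
    group
  · intro hd
    have : Fact p.Prime := ⟨hp⟩
    have h1 : p ∣ Nat.card T := by
      obtain ⟨n, hn⟩ := IsPGroup.iff_card.mp hTp
      have hn0 : n ≠ 0 := by
        rintro rfl
        rw [pow_zero] at hn
        exact hTne (Subgroup.card_eq_one.mp hn)
      rw [hn]
      exact dvd_pow_self p hn0
    have h2 : Nat.card T ∣ Nat.card S :=
      (Subgroup.card_subgroup_dvd_card T).trans (Subgroup.card_range_dvd φ)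
    exact hp.one_lt.ne' (Nat.eq_one_of_dvd_coprimes hcop hd (h1.trans h2))
  · intro htop
    apply hTne
    rw [Subgroup.eq_bot_iff_forall]
    intro t ht
    apply Subtype.ext
    ext g
    have hg : g ∈ fixSub (φ.range.subtype.comp T.subtype) := htop ▸ Subgroup.mem_top g
    exact hg ⟨t, ht⟩

end Choice

section Count

universe u v

theorem card_inv_irr_eq_aux (S : Type v) [Group S] [Finite S] [Group.IsSolvable S] :
    ∀ (n : ℕ) (G : Type u) [Group G] [Finite G] (φ : S →* MulAut G), Nat.card G = n →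
      (Nat.card G).Coprime (Nat.card S) →
      Nat.card {χ : Cfsg.IrrCharacter G // Inv φ χ.1} = Nat.card {K : ConjClasses G // InvC φ K} := by
  intro n
  induction n using Nat.strong_induction_on with
  | _ n ih =>
  intro G _ _ φ hn hcop
  by_cases hφ : ∃ s, φ s ≠ 1
  · obtain ⟨p, T, hp, hTp, hTS, hN, hpG, hne⟩ := exists_normal_p_action φ hφ hcop
    have : Fact p.Prime := ⟨hp⟩
    cases nonempty_fintype G
    have : Fintype (fixSub (φ.range.subtype.comp T.subtype)) := Fintype.ofFinite _
    rw [card_inv_irr_step p hTp φ _ hTS hN hpG, ← card_inv_classes_step p hTp φ _ hTS hN hpG]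
    refine ih (Nat.card (fixSub (φ.range.subtype.comp T.subtype))) ?_ _ _ rfl ?_
    · rw [← hn]
      exact Cfsg.Agent.Lib.Helper1Basic.card_lt_card_of_ne_top hne
    · exact Nat.Coprime.coprime_dvd_left (Subgroup.card_subgroup_dvd_card _) hcop
  · push Not at hφ
    have h1 : ∀ χ : Cfsg.IrrCharacter G, Inv φ χ.1 := fun χ s g => by rw [hφ s]; rfl
    have h2 : ∀ K : ConjClasses G, InvC φ K := fun K s g hg => by rw [hφ s]; exact hg
    rw [Nat.card_congr (Equiv.subtypeUnivEquiv h1), Nat.card_congr (Equiv.subtypeUnivEquiv h2)]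
    cases nonempty_fintype G
    exact card_irr_eq_card_conjClasses

/-- Coprime action of a finite solvable group: the number of invariant irreducible characters
equals the number of invariant conjugacy classes. -/
theorem card_inv_irr_eq {S : Type v} [Group S] [Finite S] [Group.IsSolvable S]
    {G : Type u} [Group G] [Finite G] (φ : S →* MulAut G)
    (hcop : (Nat.card G).Coprime (Nat.card S)) :
    Nat.card {χ : Cfsg.IrrCharacter G // Inv φ χ.1} = Nat.card {K : ConjClasses G // InvC φ K} :=
  card_inv_irr_eq_aux S _ G φ rfl hcop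

end Count

end Cfsg.Agent.Lib.Helper77Glaub2
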