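import Mathlib
import Cfsg.Prelude.Def_Characters
import Cfsg.Agent.Lib.Helper77Glaub5
import Cfsg.Agent.Lib.Helper19Det

set_option autoImplicit false

/-!
# Invariant characters above an invariant character: solvable quotient
-/

namespace Cfsg.Agent.Lib.Helper77Glaub6

open Module Representation
open scoped ComplexConjugate
open Cfsg.Agent.Lib.Helper4Eigen Cfsg.Agent.Lib.Helper4Char Cfsg.Agent.Lib.Helper4Char2
  Cfsg.Agent.Lib.Helper4Char3 Cfsg.Agent.Lib.Helper4Char4 Cfsg.Agent.Lib.Helper4Perm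
  Cfsg.Agent.Lib.Helper77Glaub Cfsg.Agent.Lib.Helper77Glaub2 Cfsg.Agent.Lib.Helper77Glaub3
  Cfsg.Agent.Lib.Helper77Glaub5 Cfsg.Agent.Lib.Helper19Lin Cfsg.Agent.Lib.Helper19Det

section Homs

theorem finite_hom (A : Type*) [Group A] [Finite A] : Finite (A →* ℂˣ) := by
  have : NeZero (Nat.card A) := ⟨Nat.card_pos.ne'⟩
  let F : (A →* ℂˣ) → (A → rootsOfUnity (Nat.card A) ℂ) := fun f a =>
    ⟨f a, by rw [mem_rootsOfUnity, ← map_pow, pow_card_eq_one', map_one]⟩
  refine Finite.of_injective F ?_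
  intro f g h
  ext a
  have := congrArg Subtype.val (congrFun h a)
  exact congrArg Units.val this

theorem exists_hom_ne_one {A : Type*} [Group A] [Finite A] (h : ∀ a b : A, a * b = b * a)
    {a : A} (ha : a ≠ 1) : ∃ f : A →* ℂˣ, f a ≠ 1 := by
  let _ : CommGroup A := { (inferInstance : Group A) with mul_comm := h }
  exact CommGroup.exists_apply_ne_one_of_hasEnoughRootsOfUnity A ℂ ha

end Homs

section Lam

variable {M : Type*} [Group M]

/-- the linear characters that are trivial on `N` -/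
def Lam (N : Subgroup M) : Subgroup (M →* ℂˣ) := (res N).ker

theorem mem_Lam {N : Subgroup M} {f : M →* ℂˣ} : f ∈ Lam N ↔ ∀ n ∈ N, f n = 1 := by
  constructor
  · intro h n hn
    exact DFunLike.congr_fun (MonoidHom.mem_ker.mp h) ⟨n, hn⟩
  · intro h
    apply MonoidHom.mem_ker.mpr
    ext n
    rw [res_apply, h n n.2]
    rfl

theorem sum_Lam [Finite M] (N : Subgroup M) [N.Normal] (hab : ∀ x y : M, x * y * x⁻¹ * y⁻¹ ∈ N)
    [Fintype (Lam N)] [DecidablePred (· ∈ N)] (x : M) :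
    ∑ f : Lam N, ((f.1 x : ℂˣ) : ℂ) = if x ∈ N then (Nat.card (Lam N) : ℂ) else 0 := by
  split_ifs with hx
  · rw [Finset.sum_congr rfl (fun f _ => by rw [mem_Lam.mp f.2 x hx])]
    simp
  · have hcomm : ∀ a b : M ⧸ N, a * b = b * a := by
      intro a b
      obtain ⟨a, rfl⟩ := QuotientGroup.mk_surjective a
      obtain ⟨b, rfl⟩ := QuotientGroup.mk_surjective b
      rw [← QuotientGroup.mk_mul, ← QuotientGroup.mk_mul, QuotientGroup.eq]
      have := hab b⁻¹ a⁻¹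
      simpa [mul_assoc] using this
    have hne : (x : M ⧸ N) ≠ 1 := by
      rwa [Ne, QuotientGroup.eq_one_iff]
    obtain ⟨g, hg⟩ := exists_hom_ne_one hcomm hne
    let f₀ : Lam N := ⟨g.comp (QuotientGroup.mk' N), mem_Lam.mpr (fun n hn => by
      rw [MonoidHom.comp_apply, QuotientGroup.mk'_apply, (QuotientGroup.eq_one_iff n).mpr hn,
        map_one])⟩
    have h1 : ∑ f : Lam N, ((f.1 x : ℂˣ) : ℂ) = ((f₀.1 x : ℂˣ) : ℂ) * ∑ f : Lam N, ((f.1 x : ℂˣ) : ℂ) := by
      rw [Finset.mul_sum]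
      refine (Fintype.sum_equiv (Equiv.mulLeft f₀) _ _ (fun f => ?_)).symm
      simp
    have h2 : ((f₀.1 x : ℂˣ) : ℂ) ≠ 1 := by
      intro h
      apply hg
      exact Units.ext h
    have h3 : (1 - ((f₀.1 x : ℂˣ) : ℂ)) * ∑ f : Lam N, ((f.1 x : ℂˣ) : ℂ) = 0 := by
      rw [sub_mul, one_mul, ← h1, sub_self]
    rcases mul_eq_zero.mp h3 with h | h
    · exact absurd (sub_eq_zero.mp h).symm h2
    · exact h

end Lam

section MulPerm

variable {M : Type*} [Group M]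

/-- multiplication of irreducible characters by linear characters -/
@[reducible] noncomputable def mulAct : MulAction (M →* ℂˣ) (Cfsg.IrrCharacter M) where
  smul f ψ := ⟨homFun f * ψ.1, isIrr_homFun_mul f ψ.2⟩
  one_smul ψ := Subtype.ext (by
    change homFun 1 * ψ.1 = ψ.1
    rw [map_one, one_mul])
  mul_smul f g ψ := Subtype.ext (by
    change homFun (f * g) * ψ.1 = homFun f * (homFun g * ψ.1)
    rw [map_mul, mul_assoc])

noncomputable def mulPerm : (M →* ℂˣ) →* Equiv.Perm (Cfsg.IrrCharacter M) :=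
  @MulAction.toPermHom _ _ _ mulAct

theorem mulPerm_apply (f : M →* ℂˣ) (ψ : Cfsg.IrrCharacter M) (x : M) :
    (mulPerm f ψ).1 x = ((f x : ℂˣ) : ℂ) * ψ.1 x := rfl

theorem mulPerm_val (f : M →* ℂˣ) (ψ : Cfsg.IrrCharacter M) :
    (mulPerm f ψ).1 = homFun f * ψ.1 := rfl

variable [Fintype M]

theorem classInner_res_ne_zero (N : Subgroup M) [Fintype N] (ψ ψ' : Cfsg.IrrCharacter M)
    (θ : Cfsg.IrrCharacter N) (h : mlt N.subtype ψ.1 θ.1 ≠ 0) (h' : mlt N.subtype ψ'.1 θ.1 ≠ 0) :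
    Cfsg.classInner (fun n : N => ψ.1 n) (fun n : N => ψ'.1 n) ≠ 0 := by
  classical
  have hψc := IsIrrCharacter.isCharacter ψ.2
  have hψ'c := IsIrrCharacter.isCharacter ψ'.2
  have h1 := classFunction_eq_sum (fun n : N => ψ.1 n)
    (IsCharacter.isClassFunction (IsCharacter.restrict N hψc))
  have h2 : Cfsg.classInner (fun n : N => ψ.1 n) (fun n : N => ψ'.1 n)
      = ((∑ η : Cfsg.IrrCharacter N, mlt N.subtype ψ.1 η.1 * mlt N.subtype ψ'.1 η.1 : ℕ) : ℂ) := by
    conv_lhs => rw [h1]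
    rw [classInner_sum_left]
    push_cast
    refine Finset.sum_congr rfl (fun η _ => ?_)
    rw [classInner_smul_left]
    have e1 := mlt_spec N.subtype hψc (IsIrrCharacter.isCharacter η.2)
    have e2 := mlt_spec' N.subtype hψ'c (IsIrrCharacter.isCharacter η.2)
    change Cfsg.classInner (fun n : N => ψ.1 n) η.1 = _ at e1
    change Cfsg.classInner η.1 (fun n : N => ψ'.1 n) = _ at e2
    rw [e1, e2]
  rw [h2]
  have h3 : 0 < ∑ η : Cfsg.IrrCharacter N, mlt N.subtype ψ.1 η.1 * mlt N.subtype ψ'.1 η.1 :=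
    Finset.sum_pos' (fun _ _ => Nat.zero_le _)
      ⟨θ, Finset.mem_univ _, Nat.mul_pos (Nat.pos_of_ne_zero h) (Nat.pos_of_ne_zero h')⟩
  exact_mod_cast h3.ne'

/-- transitivity of the linear characters of an abelian quotient -/
theorem exists_lam_mul (N : Subgroup M) [N.Normal] [Fintype N]
    (hab : ∀ x y : M, x * y * x⁻¹ * y⁻¹ ∈ N) (ψ ψ' : Cfsg.IrrCharacter M)
    (θ : Cfsg.IrrCharacter N) (h : mlt N.subtype ψ.1 θ.1 ≠ 0) (h' : mlt N.subtype ψ'.1 θ.1 ≠ 0) :
    ∃ f ∈ Lam N, mulPerm f ψ = ψ' := by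
  classical
  have : Finite (M →* ℂˣ) := finite_hom M
  have : Fintype (Lam N) := Fintype.ofFinite _
  by_contra hcon
  push Not at hcon
  have h0 : ∀ f : Lam N, Cfsg.classInner (mulPerm f.1 ψ).1 ψ'.1 = 0 := fun f =>
    classInner_irr_ne (mulPerm f.1 ψ).2 ψ'.2 (fun he => hcon f.1 f.2 (Subtype.ext he))
  have h1 : ∑ f : Lam N, ∑ x : M, (mulPerm f.1 ψ).1 x * conj (ψ'.1 x) = 0 := by
    refine Finset.sum_eq_zero (fun f _ => ?_)
    rw [sum_mul_conj, h0 f, mul_zero]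
  rw [Finset.sum_comm] at h1
  have h2 : ∀ x : M, ∑ f : Lam N, (mulPerm f.1 ψ).1 x * conj (ψ'.1 x)
      = if x ∈ N then (Nat.card (Lam N) : ℂ) * (ψ.1 x * conj (ψ'.1 x)) else 0 := by
    intro x
    have := sum_Lam N hab x
    simp only [mulPerm_apply, mul_assoc]
    rw [← Finset.sum_mul, this]
    split_ifs <;> simp
  rw [Finset.sum_congr rfl (fun x _ => h2 x), ← Finset.sum_filter] at h1
  have h3 : ∑ x ∈ Finset.univ.filter (· ∈ N), (Nat.card (Lam N) : ℂ) * (ψ.1 x * conj (ψ'.1 x))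
      = ∑ n : N, (Nat.card (Lam N) : ℂ) * (ψ.1 n * conj (ψ'.1 n)) := by
    refine (Finset.sum_subtype _ (fun x => by simp) _)
  rw [h3, ← Finset.mul_sum, sum_mul_conj (fun n : N => ψ.1 n) (fun n : N => ψ'.1 n)] at h1
  have h4 := classInner_res_ne_zero N ψ ψ' θ h h'
  have h5 : (Nat.card (Lam N) : ℂ) ≠ 0 := by exact_mod_cast Nat.card_pos.ne'
  have h6 : (Nat.card N : ℂ) ≠ 0 := by exact_mod_cast Nat.card_pos.ne'
  exact (mul_ne_zero h5 (mul_ne_zero h6 h4)) h1

end MulPerm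

section AbelianStep

variable {S M : Type*} [Group S] [Group M] [Finite M]

omit [Finite M] in
theorem mlt_mulPerm (N : Subgroup M) [Fintype N] {f : M →* ℂˣ} (hf : f ∈ Lam N)
    (ψ : Cfsg.IrrCharacter M) (θ : N → ℂ) :
    mlt N.subtype (mulPerm f ψ).1 θ = mlt N.subtype ψ.1 θ := by
  unfold mlt
  have : (fun c : N => (mulPerm f ψ).1 (N.subtype c)) = fun c : N => ψ.1 (N.subtype c) := by
    funext c
    rw [mulPerm_apply, mem_Lam.mp hf (N.subtype c) c.2]
    simp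
  rw [this]

/-- The abelian step. -/
theorem abelian_step (φ : S →* MulAut M) (N : Subgroup M) [hN : N.Normal]
    (hNS : ∀ s, ∀ x ∈ N, φ s x ∈ N) [Fintype N]
    (hab : ∀ x y : M, x * y * x⁻¹ * y⁻¹ ∈ N)
    (hcop : (N.index).Coprime (Nat.card S)) (θ : Cfsg.IrrCharacter N)
    (hθ : Inv (resAct φ N hNS) θ.1) :
    ∃ ψ : Cfsg.IrrCharacter M, Inv φ ψ.1 ∧ mlt N.subtype ψ.1 θ.1 ≠ 0 := by
  classical
  cases nonempty_fintype M
  set fS : S →* Equiv.Perm (Cfsg.IrrCharacter M) := permHom.comp φ with hfS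
  set U : Subgroup (Equiv.Perm (Cfsg.IrrCharacter M)) := (Lam N).map mulPerm with hU
  obtain ⟨ψ₀, hψ₀⟩ := exists_over N.subtype N.subtype_injective θ.2
  have hmS : ∀ (s : S) (ψ : Cfsg.IrrCharacter M),
      mlt N.subtype (fS s ψ).1 θ.1 = mlt N.subtype ψ.1 θ.1 := by
    intro s ψ
    have h1 := mlt_comp N.subtype (φ s⁻¹) (resAct φ N hNS s⁻¹) (fun c => rfl) ψ.1 θ.1
    have h2 : (fun x => θ.1 (resAct φ N hNS s⁻¹ x)) = θ.1 := funext (fun x => hθ s⁻¹ x)
    rw [h2] at h1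
    rw [← h1]
    congr 1
    funext x
    change ψ.1 ((φ s)⁻¹ x) = _
    rw [← map_inv]
  have hrel : ∀ (s : S) (f : M →* ℂˣ),
      fS s * mulPerm f * (fS s)⁻¹ = mulPerm (f.comp (φ s)⁻¹.toMonoidHom) := by
    intro s f
    rw [mul_inv_eq_iff_eq_mul]
    ext ψ x
    change (fS s (mulPerm f ψ)).1 x = (mulPerm (f.comp (φ s)⁻¹.toMonoidHom) (fS s ψ)).1 x
    rw [mulPerm_apply]
    change (mulPerm f ψ).1 ((φ s)⁻¹ x) = _ * ψ.1 ((φ s)⁻¹ x)
    rw [mulPerm_apply]
    rfl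
  have hAU : fS.range ≤ Subgroup.normalizer (U : Set (Equiv.Perm (Cfsg.IrrCharacter M))) := by
    apply Cfsg.Agent.Lib.Helper1Basic.le_normalizer_of_forall_conj_mem
    rintro _ ⟨s, rfl⟩ _ ⟨f, hf, rfl⟩
    rw [hrel]
    refine ⟨_, mem_Lam.mpr (fun n hn => ?_), rfl⟩
    have : (φ s)⁻¹ n ∈ N := by
      rw [← map_inv]; exact hNS _ _ hn
    exact mem_Lam.mp hf _ this
  have hpowU : ∀ u : U, u ^ N.index = 1 := by
    rintro ⟨_, f, hf, rfl⟩
    apply Subtype.ext
    change mulPerm f ^ N.index = 1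
    rw [← map_pow, pow_index_eq_one_of_res_eq_one N f (MonoidHom.mem_ker.mp hf), map_one]
  have hcop' : (Nat.card fS.range).Coprime (Nat.card U) := by
    apply Nat.Coprime.symm
    apply Nat.coprime_of_dvd
    intro p hp hpU hpA
    have : Fact p.Prime := ⟨hp⟩
    obtain ⟨u, hu⟩ := exists_prime_orderOf_dvd_card' p hpU
    have h1 : p ∣ N.index := by
      rw [← hu]; exact orderOf_dvd_of_pow_eq_one (hpowU u)
    have h2 : p ∣ Nat.card S := hpA.trans (Subgroup.card_range_dvd fS)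
    exact hp.one_lt.ne' (Nat.eq_one_of_dvd_coprimes hcop h1 h2)
  have hsolv' : Group.IsSolvable fS.range ∨ Group.IsSolvable U := by
    right
    apply Group.isSolvable_of_comm
    rintro ⟨_, f, hf, rfl⟩ ⟨_, g, hg, rfl⟩
    apply Subtype.ext
    change mulPerm f * mulPerm g = mulPerm g * mulPerm f
    rw [← map_mul, ← map_mul, mul_comm f g]
  obtain ⟨u, ⟨f, hf, rfl⟩, hfix⟩ := Cfsg.Agent.Lib.Helper1Glauberman.exists_fixed_rel
    (Ω := Cfsg.IrrCharacter M) hAU hcop' hsolv' ψ₀ (by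
      rintro _ ⟨s, rfl⟩
      obtain ⟨f, hf, hfe⟩ := exists_lam_mul N hab ψ₀ (fS s ψ₀) θ hψ₀ (by rw [hmS]; exact hψ₀)
      exact ⟨mulPerm f, ⟨f, hf, rfl⟩, hfe.symm⟩)
  refine ⟨mulPerm f ψ₀, fun s x => ?_, by rw [mlt_mulPerm N hf]; exact hψ₀⟩
  have h1 : fS s (mulPerm f ψ₀) = mulPerm f ψ₀ := hfix (fS s) ⟨s, rfl⟩
  exact (permHom_eq_self_iff _ _).mp h1 x

end AbelianStep

section Solvable

variable {S G : Type*} [Group S] [Group G] [Finite G]

theorem exists_inv_over_solv_aux (φ : S →* MulAut G) :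
    ∀ (k : ℕ) (N : Subgroup G) (_ : N.Normal) (hNS : ∀ s, ∀ x ∈ N, φ s x ∈ N) [Fintype N]
      (θ : Cfsg.IrrCharacter N), derivedSeries G k ≤ N → (N.index).Coprime (Nat.card S) →
      Inv (resAct φ N hNS) θ.1 →
      ∃ χ : Cfsg.IrrCharacter G, Inv φ χ.1 ∧ mlt N.subtype χ.1 θ.1 ≠ 0 := by
  classical
  cases nonempty_fintype G
  intro k
  induction k with
  | zero =>
    intro N hN hNS _ θ hD hcop hθ
    have hNtop : N = ⊤ := top_le_iff.mp hD
    exact abelian_step φ N hNS (fun x y => by rw [hNtop]; trivial) hcop θ hθ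
  | succ k ih =>
    intro N hN hNS _ θ hD hcop hθ
    set D := derivedSeries G k with hDdef
    set M : Subgroup G := N ⊔ D with hM
    have hMn : M.Normal := inferInstance
    have hNM : N ≤ M := le_sup_left
    have hMS : ∀ s, ∀ x ∈ M, φ s x ∈ M := by
      intro s x hx
      have h1 : M.map (φ s).toMonoidHom ≤ M := by
        rw [hM, Subgroup.map_sup]
        refine sup_le_sup ?_ ?_
        · rintro _ ⟨n, hn, rfl⟩
          exact hNS s n hn
        · exact Subgroup.characteristic_iff_map_le.mp inferInstance (φ s)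
      exact h1 ⟨x, hx, rfl⟩
    set N' : Subgroup M := N.subgroupOf M with hN'
    have hN'n : N'.Normal := inferInstance
    set φM := resAct φ M hMS with hφM
    have hNS' : ∀ s, ∀ x ∈ N', φM s x ∈ N' := fun s x hx =>
      Subgroup.mem_subgroupOf.mpr (hNS s x (Subgroup.mem_subgroupOf.mp hx))
    have hab : ∀ x y : M, x * y * x⁻¹ * y⁻¹ ∈ N' := by
      rintro ⟨x, hx⟩ ⟨y, hy⟩
      rw [Subgroup.mem_subgroupOf]
      change x * y * x⁻¹ * y⁻¹ ∈ N
      obtain ⟨n, hn, d, hd, rfl⟩ := Subgroup.mem_sup_of_normal_left.mp hx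
      obtain ⟨n', hn', d', hd', rfl⟩ := Subgroup.mem_sup_of_normal_left.mp hy
      rw [← QuotientGroup.eq_one_iff]
      have e1 : ((n : G) : G ⧸ N) = 1 := (QuotientGroup.eq_one_iff n).mpr hn
      have e2 : ((n' : G) : G ⧸ N) = 1 := (QuotientGroup.eq_one_iff n').mpr hn'
      have e3 : ((d * d' * d⁻¹ * d'⁻¹ : G) : G ⧸ N) = 1 := by
        rw [QuotientGroup.eq_one_iff]
        apply hD
        rw [← commutatorElement_def]
        exact Subgroup.commutator_mem_commutator hd hd'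
      simp only [QuotientGroup.mk_mul, QuotientGroup.mk_inv, e1, e2, one_mul] at e3 ⊢
      exact e3
    have hcop1 : (N'.index).Coprime (Nat.card S) :=
      Nat.Coprime.coprime_dvd_left (Subgroup.relIndex_dvd_index_of_le hNM) hcop
    have hcop2 : (M.index).Coprime (Nat.card S) :=
      Nat.Coprime.coprime_dvd_left (Subgroup.index_dvd_of_le hNM) hcop
    let e : N' ≃* N := Subgroup.subgroupOfEquivOfLe hNM
    have : Fintype N' := Fintype.ofFinite _
    have : Fintype M := Fintype.ofFinite _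
    let θ' : Cfsg.IrrCharacter N' :=
      ⟨θ.1 ∘ e, Cfsg.Agent.Lib.Helper83Char.irr_comp_mulEquiv e θ.2⟩
    have hθ' : Inv (resAct φM N' hNS') θ'.1 := fun s x => hθ s (e x)
    obtain ⟨ψ, hψi, hψm⟩ := abelian_step φM N' hNS' hab hcop1 θ' hθ'
    obtain ⟨χ, hχi, hχm⟩ := ih M hMn hMS ψ le_sup_right hcop2 hψi
    refine ⟨χ, hχi, ?_⟩
    have hχc := IsIrrCharacter.isCharacter χ.2
    have h1 := mlt_comp_eq_sum M.subtype N'.subtype hχc (IsIrrCharacter.isCharacter θ'.2)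
    have h2 : 0 < ∑ γ : Cfsg.IrrCharacter M, mlt M.subtype χ.1 γ.1 * mlt N'.subtype γ.1 θ'.1 :=
      Finset.sum_pos' (fun _ _ => Nat.zero_le _)
        ⟨ψ, Finset.mem_univ _, Nat.mul_pos (Nat.pos_of_ne_zero hχm) (Nat.pos_of_ne_zero hψm)⟩
    rw [← h1] at h2
    have h3 : mlt (M.subtype.comp N'.subtype) χ.1 θ'.1 = mlt N.subtype χ.1 θ.1 := by
      unfold mlt
      rw [← classInner_comp_equiv e (fun c : N => χ.1 (N.subtype c)) θ.1]
      rfl
    rw [h3] at h2
    exact h2.ne'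

/-- Let `S` act on `G`, `N` an invariant normal subgroup of index prime to `|S|` with `G/N`
solvable.  Every invariant irreducible character of `N` lies under an invariant irreducible
character of `G`. -/
theorem exists_inv_over_solv (φ : S →* MulAut G) (N : Subgroup G) [hN : N.Normal]
    (hNS : ∀ s, ∀ x ∈ N, φ s x ∈ N) [Fintype N] (hcop : (N.index).Coprime (Nat.card S))
    (hsolv : Group.IsSolvable (G ⧸ N)) (θ : Cfsg.IrrCharacter N)
    (hθ : Inv (resAct φ N hNS) θ.1) :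
    ∃ χ : Cfsg.IrrCharacter G, Inv φ χ.1 ∧ mlt N.subtype χ.1 θ.1 ≠ 0 := by
  obtain ⟨k, hk⟩ := hsolv.solvable
  refine exists_inv_over_solv_aux φ k N hN hNS θ ?_ hcop hθ
  have h1 := map_derivedSeries_eq (QuotientGroup.mk'_surjective N) k
  rw [hk] at h1
  intro x hx
  rw [← QuotientGroup.eq_one_iff]
  have : (QuotientGroup.mk' N) x ∈ (derivedSeries G k).map (QuotientGroup.mk' N) := ⟨x, hx, rfl⟩
  rw [h1] at this
  exact Subgroup.mem_bot.mp this

end Solvable

end Cfsg.Agent.Lib.Helper77Glaub6
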