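import Mathlib
import Cfsg.Prelude.Def_Characters
import Cfsg.Agent.Lib.Helper77Glaub7
import Cfsg.Agent.Lib.Helper19Ratio

set_option autoImplicit false

/-!
# Central covers attached to an invariant character, and invariant characters above
-/

namespace Cfsg.Agent.Lib.Helper77Glaub8

open Module Representation
open scoped ComplexConjugate
open Cfsg.Agent.Lib.Helper4Eigen Cfsg.Agent.Lib.Helper4Char Cfsg.Agent.Lib.Helper4Char2
  Cfsg.Agent.Lib.Helper4Char3 Cfsg.Agent.Lib.Helper4Char4 Cfsg.Agent.Lib.Helper4Perm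
  Cfsg.Agent.Lib.Helper77Glaub Cfsg.Agent.Lib.Helper77Glaub2 Cfsg.Agent.Lib.Helper77Glaub3
  Cfsg.Agent.Lib.Helper77Glaub4 Cfsg.Agent.Lib.Helper77Glaub5 Cfsg.Agent.Lib.Helper77Glaub6
  Cfsg.Agent.Lib.Helper77Glaub7 Cfsg.Agent.Lib.Helper19Lin Cfsg.Agent.Lib.Helper19Det
  Cfsg.Agent.Lib.Helper19Ext Cfsg.Agent.Lib.Helper19Ext2 Cfsg.Agent.Lib.Helper19Ext3
  Cfsg.Agent.Lib.Helper19Ratio

universe u v

section Deflate

theorem exists_deflate_surj {A B : Type*} [Group A] [Group B] [Finite A] (f : A →* B)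
    (hf : Function.Surjective f) {χ : A → ℂ} (hχ : Cfsg.IsIrrCharacter A χ)
    (hker : ∀ a, f a = 1 → χ a = χ 1) :
    ∃ ψ : B → ℂ, Cfsg.IsIrrCharacter B ψ ∧ ∀ a, ψ (f a) = χ a := by
  obtain ⟨ψ, hψ⟩ := Cfsg.Agent.Lib.Helper82Quot.exists_deflate f.ker ⟨χ, hχ⟩
    (fun a ha => hker a (MonoidHom.mem_ker.mp ha))
  let e := QuotientGroup.quotientKerEquivOfSurjective f hf
  refine ⟨ψ.1 ∘ e.symm, Cfsg.Agent.Lib.Helper83Char.irr_comp_mulEquiv e.symm ψ.2, fun a => ?_⟩
  have h1 : e.symm (f a) = (a : A ⧸ f.ker) := by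
    rw [MulEquiv.symm_apply_eq]
    rfl
  change ψ.1 (e.symm (f a)) = χ a
  rw [h1]
  exact congrFun (congrArg Subtype.val hψ) a

end Deflate

section Cover

variable {G : Type u} {N : Type v} [Group G] [Group N] [Finite G] [Finite N]

/-- The finite central cover attached to an invariant irreducible character. -/
theorem exists_cover (ι : N →* G) (hι : Function.Injective ι) (c : G →* MulAut N)
    (hc : ∀ (g : G) (n : N), ι (c g n) = g * ι n * g⁻¹) {ϑ : N → ℂ}
    (hϑ : Cfsg.IsIrrCharacter N ϑ) (hinv : ∀ g n, ϑ (c g n) = ϑ n) :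
    ∃ (E : Type u) (_ : Group E) (_ : Finite E) (π : E →* G) (D : N →* E) (τ : E → ℂ),
      Function.Surjective π ∧ π.ker ≤ Subgroup.center E ∧ Function.Injective D ∧
      (∀ n, π (D n) = ι n) ∧ (∀ x n, D (c (π x) n) = x * D n * x⁻¹) ∧
      (∀ n, τ (D n) = ϑ n) ∧
      (∀ L : Subgroup E, D.range ≤ L → Cfsg.IsIrrCharacter L (fun l => τ l)) ∧
      (∀ x y, τ (x * y * x⁻¹) = τ y) := by
  classical
  obtain ⟨d, ρ, hρ, rfl⟩ := hϑ
  have hnt := nontrivial_of_irreducible ρ
  have hd : 0 < d := by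
    have := finrank_pos_of_irreducible ρ
    rwa [Module.finrank_fin_fun] at this
  have hk : 0 < Nat.card N := Nat.card_pos
  have hδ : ∀ a, udet (Fin d → ℂ) (scal (Fin d → ℂ) a) = a ^ d := by
    intro a
    rw [udet_scal, Module.finrank_fin_fun]
  have hrk : ∀ n, udet (Fin d → ℂ) (urep ρ n) ^ Nat.card N = 1 := by
    intro n
    rw [← map_pow, ← map_pow, pow_card_eq_one', map_one, map_one]
  have hfin : Finite {a : ℂˣ // a ^ (d * Nat.card N) = 1} := by
    have : NeZero (d * Nat.card N) := ⟨(Nat.mul_pos hd hk).ne'⟩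
    exact (inferInstance : Finite (rootsOfUnity (d * Nat.card N) ℂ))
  have hsurj := surj_of_invariant ρ c hinv
  have hschur := schur_units ρ
  have hfinΓ := finite_fg c (urep ρ) (scal (Fin d → ℂ)) (udet (Fin d → ℂ)) d (Nat.card N)
    hschur hδ hfin
  have hprs := prF_surjective c (urep ρ) (scal (Fin d → ℂ)) (udet (Fin d → ℂ)) d (Nat.card N)
    scal_central hsurj hδ hd hk units_div
  refine ⟨fg c (urep ρ) (udet (Fin d → ℂ)) (Nat.card N), inferInstance, hfinΓ,
    prF c (urep ρ) (udet (Fin d → ℂ)) (Nat.card N),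
    diagF ι c (urep ρ) (udet (Fin d → ℂ)) (Nat.card N) hι hc hrk,
    (ofU (sndF c (urep ρ) (udet (Fin d → ℂ)) (Nat.card N))).character,
    hprs, ker_prF_le_center c (urep ρ) (scal (Fin d → ℂ)) (udet (Fin d → ℂ)) (Nat.card N)
      scal_central hschur, diagF_injective _ _ _ _ _ _ _ _, fun n => rfl,
    diagF_conj _ _ _ _ _ _ _ _, ?_, ?_, ?_⟩
  · exact (isIrr_of_ext (diagF ι c (urep ρ) (udet (Fin d → ℂ)) (Nat.card N) hι hc hrk) ρ
      (sndF c (urep ρ) (udet (Fin d → ℂ)) (Nat.card N)) (fun n => rfl)).2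
  · intro L hL
    let DL : N →* L := (diagF ι c (urep ρ) (udet (Fin d → ℂ)) (Nat.card N) hι hc hrk).codRestrict L
      (fun n => hL ⟨n, rfl⟩)
    exact (isIrr_of_ext DL ρ
      ((sndF c (urep ρ) (udet (Fin d → ℂ)) (Nat.card N)).comp L.subtype) (fun n => rfl)).1
  · intro x y
    exact Representation.char_conj _ _ _

end Cover

section CentralExt

variable {X : Type u} {Q : Type v} [Group X] [Finite X] [Group Q]

/-- Let `p : X → Q` be a central extension and `R` a normal Hall subgroup of `Q`, with `Q/R` or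
`R` solvable.  For every irreducible character of the preimage `Y` of `R` there is an
`X`-invariant irreducible character of `Y` with the same central character on the kernel. -/
theorem exists_inv_central_ext (p : X →* Q) (hp : Function.Surjective p)
    (hker : p.ker ≤ Subgroup.center X) (R : Subgroup Q) [hR : R.Normal]
    (hcop : (Nat.card R).Coprime R.index)
    (hsolv : Group.IsSolvable (Q ⧸ R) ∨ Group.IsSolvable R)
    (β₀ : Cfsg.IrrCharacter (R.comap p)) :
    ∃ β : Cfsg.IrrCharacter (R.comap p),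
      (∀ (x : X) (y : R.comap p), β.1 (MulAut.conjNormal x y) = β.1 y) ∧
      ∀ y : R.comap p, p y = 1 → β.1 y * β₀.1 1 = β₀.1 y * β.1 1 := by
  classical
  have : Finite Q := Finite.of_surjective p hp
  let Y : Subgroup X := R.comap p
  have : Fintype Y := Fintype.ofFinite _
  set f : Y →* R := p.subgroupComap R with hf
  have hfs : Function.Surjective f := MonoidHom.subgroupComap_surjective_of_surjective p R hp
  set Z : Subgroup Y := f.ker with hZ
  have hZmem : ∀ y : Y, y ∈ Z ↔ p y = 1 := by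
    intro y
    rw [hZ, MonoidHom.mem_ker]
    constructor
    · intro h; exact congrArg Subtype.val h
    · intro h; exact Subtype.ext h
  have hcen : ∀ y : Y, y ∈ Z → ∀ x : X, x * y = y * x := fun y hy x =>
    Subgroup.mem_center_iff.mp (hker (MonoidHom.mem_ker.mpr ((hZmem y).mp hy))) x
  have hZc : Z ≤ Subgroup.center Y := by
    intro z hz
    rw [Subgroup.mem_center_iff]
    intro g
    exact Subtype.ext (hcen z hz g)
  obtain ⟨μ, hμ⟩ := central_char hZc β₀.2
  obtain ⟨T, hT⟩ := Subgroup.exists_right_complement'_of_coprime (N := R) hcop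
  have hsup : R ⊔ T = ⊤ := hT.sup_eq_top
  have hTcard : R.index = Nat.card T := hT.symm.index_eq_card
  let a : X →* MulAut Y := MulAut.conjNormal
  have hle : p.ker ≤ a.ker := by
    intro x hx
    rw [MonoidHom.mem_ker]
    ext y
    change ((MulAut.conjNormal x y : Y) : X) = y
    rw [MulAut.conjNormal_apply, ← Subgroup.mem_center_iff.mp (hker hx) y, mul_assoc,
      mul_inv_cancel, mul_one]
  let abar : Q →* MulAut Y := p.liftOfSurjective hp ⟨a, hle⟩
  have habar : ∀ x, abar (p x) = a x := fun x =>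
    MonoidHom.liftOfRightInverse_comp_apply p _ _ ⟨a, hle⟩ x
  let φ : T →* MulAut Y := abar.comp T.subtype
  have hZS : ∀ s, ∀ z ∈ Z, φ s z = z := by
    intro s z hz
    obtain ⟨x, hx⟩ := hp s
    change abar (s : Q) z = z
    rw [← hx, habar]
    apply Subtype.ext
    change ((MulAut.conjNormal x z : Y) : X) = z
    rw [MulAut.conjNormal_apply, hcen z hz x, mul_assoc, mul_inv_cancel, mul_one]
  have hZidx : Z.index = Nat.card R := by
    rw [hZ, Subgroup.index_ker, MonoidHom.range_eq_top.mpr hfs]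
    exact Nat.card_congr Subgroup.topEquiv.toEquiv
  have hcop' : (Z.index).Coprime (Nat.card T) := by
    rw [hZidx, ← hTcard]; exact hcop
  obtain ⟨β, hβi, hβz⟩ : ∃ β : Cfsg.IrrCharacter Y, Inv φ β.1 ∧ ∀ z : Z, β.1 z = β.1 1 * μ z := by
    rcases hsolv with h | h
    · have : Group.IsSolvable T :=
        Group.isSolvable_of_isSolvable_injective
          (f := hT.symm.QuotientMulEquiv.symm.toMonoidHom) (MulEquiv.injective _)
      exact exists_inv_central φ Z hZc hZS μ hcop'
    · have hZn : Z.Normal := normal_of_le_center hZc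
      have : Fintype Z := Fintype.ofFinite _
      have hs : Group.IsSolvable (Y ⧸ Z) :=
        Group.isSolvable_of_isSolvable_injective (QuotientGroup.kerLift_injective f)
      obtain ⟨β, hβi, hβm⟩ := exists_inv_over_solv φ Z
        (fun s z hz => by rw [hZS s z hz]; exact hz) hcop' hs
        ⟨homFun μ, isIrrCharacter_homFun μ⟩ (fun s z => by
          refine congrArg (homFun μ) ?_
          exact Subtype.ext (hZS s z z.2))
      exact ⟨β, hβi, over_central hZc β.2 μ hβm⟩
  refine ⟨β, ?_, ?_⟩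
  · intro x y
    obtain ⟨r, hr, s, hs, hrs⟩ := exists_mul_of_sup_eq_top R T hsup (p x)
    obtain ⟨y₀, hy₀⟩ := hp r
    have hy₀Y : y₀ ∈ Y := by
      change p y₀ ∈ R
      rw [hy₀]; exact hr
    have h1 : a x = a y₀ * φ ⟨s, hs⟩ := by
      rw [← habar x, ← hrs, map_mul, ← hy₀, habar]
      rfl
    change β.1 (a x y) = β.1 y
    rw [h1, MulAut.mul_apply]
    have h2 : a y₀ (φ ⟨s, hs⟩ y) = (⟨y₀, hy₀Y⟩ : Y) * (φ ⟨s, hs⟩ y) * (⟨y₀, hy₀Y⟩ : Y)⁻¹ := by
      apply Subtype.ext
      change ((MulAut.conjNormal y₀ (φ ⟨s, hs⟩ y) : Y) : X) = _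
      rw [MulAut.conjNormal_apply]
      rfl
    rw [h2, IsIrrCharacter.isClassFunction β.2, hβi]
  · intro y hy
    have hyZ : y ∈ Z := (hZmem y).mpr hy
    have h1 := hβz ⟨y, hyZ⟩
    have h2 := hμ ⟨y, hyZ⟩
    change β.1 y = _ at h1
    change β₀.1 y = _ at h2
    rw [h1, h2]
    ring

end CentralExt

end Cfsg.Agent.Lib.Helper77Glaub8
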