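import Mathlib
import Cfsg.Prelude.Def_Characters
import Cfsg.Agent.Lib.Helper77Glaub5
import Cfsg.Agent.Lib.Helper77Glaub8
import Cfsg.Agent.Lib.Helper77Cyc1
import Cfsg.Agent.Lib.Helper19Gal2
import Cfsg.Agent.Lib.Helper19Fact
import Cfsg.Agent.Lib.Helper5Cliff2
import Cfsg.Agent.S0867

set_option autoImplicit false

/-!
# Relative Glauberman correspondence above a normal Sylow subgroup: general tools
-/

namespace Cfsg.Agent.Lib.Helper77Rel1

open Module Representation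
open scoped ComplexConjugate
open Cfsg.Agent.Lib.Helper4Eigen Cfsg.Agent.Lib.Helper4Char Cfsg.Agent.Lib.Helper4Char2
  Cfsg.Agent.Lib.Helper4Char3 Cfsg.Agent.Lib.Helper4Char4 Cfsg.Agent.Lib.Helper4Perm
  Cfsg.Agent.Lib.Helper77Glaub Cfsg.Agent.Lib.Helper77Glaub2 Cfsg.Agent.Lib.Helper77Glaub3

section QuotAct

variable {T S : Type*} [Group T] [Group S]

theorem map_eq_of_invariant (φ : S →* MulAut T) (N : Subgroup T)
    (hN : ∀ s, ∀ n ∈ N, φ s n ∈ N) (s : S) : N.map ((φ s : T ≃* T) : T →* T) = N := by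
  ext x
  constructor
  · rintro ⟨n, hn, rfl⟩
    exact hN s n hn
  · intro hx
    refine ⟨φ s⁻¹ x, hN s⁻¹ x hx, ?_⟩
    change φ s (φ s⁻¹ x) = x
    rw [map_inv]; simp

/-- The action induced on the quotient by an invariant normal subgroup. -/
def quotAct (φ : S →* MulAut T) (N : Subgroup T) [N.Normal]
    (hN : ∀ s, ∀ n ∈ N, φ s n ∈ N) : S →* MulAut (T ⧸ N) where
  toFun s := QuotientGroup.congr N N (φ s) (map_eq_of_invariant φ N hN s)
  map_one' := by
    ext x
    induction x using QuotientGroup.induction_on with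
    | H t => simp
  map_mul' a b := by
    ext x
    induction x using QuotientGroup.induction_on with
    | H t => simp

theorem quotAct_mk (φ : S →* MulAut T) (N : Subgroup T) [N.Normal]
    (hN : ∀ s, ∀ n ∈ N, φ s n ∈ N) (s : S) (t : T) :
    quotAct φ N hN s (t : T ⧸ N) = ((φ s t : T) : T ⧸ N) := rfl

theorem quotAct_fixed_iff (φ : S →* MulAut T) (N : Subgroup T) [N.Normal]
    (hN : ∀ s, ∀ n ∈ N, φ s n ∈ N) (t : T) :
    ((t : T ⧸ N) ∈ fixSub (quotAct φ N hN)) ↔ ∀ s, φ s t * t⁻¹ ∈ N := by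
  rw [mem_fixSub]
  refine forall_congr' (fun s => ?_)
  rw [quotAct_mk, QuotientGroup.eq_iff_div_mem, div_eq_mul_inv]

end QuotAct

section StabSub

variable {X Q : Type*} [Group X] [Group Q]

/-- The stabiliser of a function under an action by automorphisms. -/
def stabSub (c : X →* MulAut Q) (θ : Q → ℂ) : Subgroup X where
  carrier := {x | ∀ q, θ (c x q) = θ q}
  one_mem' := fun q => by simp
  mul_mem' := fun {a b} ha hb q => by
    rw [map_mul, MulAut.mul_apply, ha, hb]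
  inv_mem' := fun {a} ha q => by
    have := ha (c a⁻¹ q)
    rw [← MulAut.mul_apply, ← map_mul, mul_inv_cancel, map_one, MulAut.one_apply] at this
    exact this.symm

theorem mem_stabSub {c : X →* MulAut Q} {θ : Q → ℂ} {x : X} :
    x ∈ stabSub c θ ↔ ∀ q, θ (c x q) = θ q := Iff.rfl

end StabSub

section Canon

variable {G N : Type*} [Group G] [Group N] [Finite G] [Finite N]
  (ι : N →* G) (hι : Function.Injective ι) (c : G →* MulAut N)
  (hc : ∀ (g : G) (n : N), ι (c g n) = g * ι n * g⁻¹)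

omit [Finite N] in
include hι hc in
/-- The canonical extension, for an injective homomorphism with normal image. -/
theorem canon {ϑ : N → ℂ} (hϑ : Cfsg.IsIrrCharacter N ϑ) (hinv : ∀ g n, ϑ (c g n) = ϑ n)
    (hcop : (Nat.card N).Coprime ι.range.index) :
    ∃ χ : G → ℂ, Cfsg.IsIrrCharacter G χ ∧ (∀ n, χ (ι n) = ϑ n) ∧
      (Cfsg.detOrder χ).Coprime ι.range.index ∧
      ∀ χ' : G → ℂ, Cfsg.IsIrrCharacter G χ' → (∀ n, χ' (ι n) = ϑ n) →
        (Cfsg.detOrder χ').Coprime ι.range.index → χ' = χ := by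
  have hnorm := Cfsg.Agent.Lib.Helper19Det.range_normal ι c hc
  set e : N ≃* ι.range := MonoidHom.ofInjective hι with he
  have hecoe : ∀ n, ((e n : ι.range) : G) = ι n := fun n => rfl
  have hϑ' : Cfsg.IsIrrCharacter ι.range (fun y => ϑ (e.symm y)) :=
    Cfsg.Agent.Lib.Helper83Char.irr_comp_mulEquiv e.symm hϑ
  have : Fintype ι.range := Fintype.ofFinite _
  obtain ⟨d, hd, hdN⟩ := irr_degree_nat hϑ'
  have hcard : Nat.card ι.range = Nat.card N := (Nat.card_congr e.toEquiv).symm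
  have hinv' : ∀ (g : G) (n : ι.range),
      (fun y => ϑ (e.symm y)) ⟨g * n * g⁻¹, hnorm.conj_mem (n : G) n.2 g⟩
        = (fun y => ϑ (e.symm y)) n := by
    intro g n
    obtain ⟨m, rfl⟩ := e.surjective n
    have h1 : (⟨g * (e m : G) * g⁻¹, hnorm.conj_mem _ (e m).2 g⟩ : ι.range) = e (c g m) := by
      apply Subtype.ext
      change g * (e m : G) * g⁻¹ = ((e (c g m) : ι.range) : G)
      rw [hecoe, hecoe, hc]
    simp only [h1, MulEquiv.symm_apply_apply, hinv]
  obtain ⟨χ, ⟨hχ, hχN, hχd⟩, huniq⟩ := Cfsg.Agent.S0867.result ι.range (fun y => ϑ (e.symm y)) hϑ'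
    hinv' d hd (Nat.Coprime.symm (Nat.Coprime.mul_left
      (hcop.coprime_dvd_left (hcard ▸ Cfsg.Agent.Lib.Helper77Glaub4.detOrder_dvd_card
        (IsIrrCharacter.isCharacter hϑ')))
      (hcop.coprime_dvd_left (hcard ▸ hdN))))
  refine ⟨χ, hχ, fun n => ?_, ?_, fun χ' hχ' hχ'N hcop' => ?_⟩
  · have := hχN (e n)
    rw [hecoe] at this
    simpa using this
  · rw [hχd]
    exact hcop.coprime_dvd_left (hcard ▸ Cfsg.Agent.Lib.Helper77Glaub4.detOrder_dvd_card
        (IsIrrCharacter.isCharacter hϑ'))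
  · refine huniq χ' hχ' (fun n => ?_) hcop'.symm
    obtain ⟨m, rfl⟩ := e.surjective n
    rw [hecoe, hχ'N]
    simp

omit [Finite N] in
theorem detOrder_comp_mulEquiv (a : G ≃* G) {χ : G → ℂ} (hχ : Cfsg.IsCharacter G χ) :
    Cfsg.detOrder (fun g => χ (a g)) = Cfsg.detOrder χ := by
  unfold Cfsg.detOrder
  have h1 := Cfsg.Agent.Lib.Helper19Det.detChar_comp a.toMonoidHom hχ
  have h2 : (fun g => χ (a g)) = fun g => χ (a.toMonoidHom g) := rfl
  rw [h2, h1]
  let F : (G → ℂ) →* (G → ℂ) :=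
    { toFun := fun f => fun g => f (a.toMonoidHom g)
      map_one' := rfl
      map_mul' := fun _ _ => rfl }
  have hF : Function.Injective F := by
    intro f1 f2 h
    funext g
    have := congrFun h (a.symm g)
    simpa [F] using this
  exact orderOf_injective F hF (Cfsg.detChar χ)

end Canon

section Trans

variable {G C D : Type*} [Group G] [Group C] [Group D] [Fintype C] [Fintype D]

theorem mlt_trans_ne_zero (ι : C →* G) (j : D →* C) {χ : G → ℂ} (hχ : Cfsg.IsCharacter G χ)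
    {γ : C → ℂ} (hγ : Cfsg.IsIrrCharacter C γ) {η : D → ℂ} (hη : Cfsg.IsCharacter D η)
    (h1 : mlt ι χ γ ≠ 0) (h2 : mlt j γ η ≠ 0) : mlt (ι.comp j) χ η ≠ 0 := by
  rw [mlt_comp_eq_sum ι j hχ hη]
  intro h0
  have := (Finset.sum_eq_zero_iff.mp h0) ⟨γ, hγ⟩ (Finset.mem_univ _)
  rcases Nat.mul_eq_zero.mp this with h | h
  · exact h1 h
  · exact h2 h

end Trans

/-- The data of the relative correspondence: a `p`-group `S` acts on `K`, which has the normal
Sylow `p`-subgroup `Q`, and `C / Q` is the group of fixed points of `S` on `K / Q`. -/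
structure Dat (p : ℕ) (K C Q S : Type*) [Group K] [Group C] [Group Q] [Group S] where
  ι : C →* K
  j : Q →* C
  cK : K →* MulAut Q
  φK : S →* MulAut K
  φC : S →* MulAut C
  φQ : S →* MulAut Q
  hι : Function.Injective ι
  hj : Function.Injective j
  hcK : ∀ k q, ι (j (cK k q)) = k * ι (j q) * k⁻¹
  hφC : ∀ s c, ι (φC s c) = φK s (ι c)
  hφQ : ∀ s q, j (φQ s q) = φC s (j q)
  hC : ∀ k, (∃ c, ι c = k) ↔ ∀ s, ∃ q, φK s k * k⁻¹ = ι (j q)
  hS : IsPGroup p S
  hQ : ∃ a, Nat.card Q = p ^ a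
  hKQ : ¬ p * Nat.card Q ∣ Nat.card K

namespace Dat

variable {p : ℕ} {K C Q S : Type*} [Group K] [Group C] [Group Q] [Group S]
  (d : Dat p K C Q S)

/-- the embedding of `Q` in `K` -/
def jK : Q →* K := d.ι.comp d.j

theorem jK_apply (q : Q) : d.jK q = d.ι (d.j q) := rfl

theorem hjK : Function.Injective d.jK := d.hι.comp d.hj

theorem hcK' (k : K) (q : Q) : d.jK (d.cK k q) = k * d.jK q * k⁻¹ := d.hcK k q

/-- the conjugation action of `C` on `Q` -/
def cC : C →* MulAut Q := d.cK.comp d.ι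

theorem cC_apply (c : C) : d.cC c = d.cK (d.ι c) := rfl

theorem hcC (c : C) (q : Q) : d.j (d.cC c q) = c * d.j q * c⁻¹ := by
  apply d.hι
  rw [cC_apply, d.hcK, map_mul, map_mul, map_inv]

theorem hφQK (s : S) (q : Q) : d.jK (d.φQ s q) = d.φK s (d.jK q) := by
  rw [jK_apply, d.hφQ, d.hφC, jK_apply]

theorem normal : d.jK.range.Normal := Cfsg.Agent.Lib.Helper19Det.range_normal d.jK d.cK d.hcK'

theorem hNS (s : S) (n : K) (hn : n ∈ d.jK.range) : d.φK s n ∈ d.jK.range := by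
  obtain ⟨q, rfl⟩ := hn
  exact ⟨d.φQ s q, d.hφQK s q⟩

theorem cK_jK (q₀ q : Q) : d.cK (d.jK q₀) q = q₀ * q * q₀⁻¹ := by
  apply d.hjK
  rw [d.hcK', map_mul, map_mul, map_inv]

theorem cK_φK (s : S) (k : K) (q : Q) :
    d.cK (d.φK s k) (d.φQ s q) = d.φQ s (d.cK k q) := by
  apply d.hjK
  rw [d.hcK', d.hφQK, d.hφQK, d.hcK', map_mul, map_mul, map_inv]

theorem card_range : Nat.card d.jK.range = Nat.card Q :=
  (Nat.card_congr (MonoidHom.ofInjective d.hjK).toEquiv).symm

theorem not_dvd_index : ¬ p ∣ d.jK.range.index := by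
  intro h
  apply d.hKQ
  rw [← d.jK.range.index_mul_card, d.card_range]
  exact Nat.mul_dvd_mul_right h _

theorem coprime_index [Fact p.Prime] : (Nat.card Q).Coprime d.jK.range.index := by
  obtain ⟨a, ha⟩ := d.hQ
  rw [ha]
  exact Nat.Coprime.pow_left a ((Nat.Prime.coprime_iff_not_dvd Fact.out).mpr d.not_dvd_index)

instance instNormal : d.jK.range.Normal := d.normal

/-- the action on `K / Q` -/
def φbar : S →* MulAut (K ⧸ d.jK.range) := quotAct d.φK d.jK.range d.hNS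

theorem φbar_mk (s : S) (k : K) : d.φbar s (k : K ⧸ d.jK.range) = ((d.φK s k : K) : K ⧸ d.jK.range) :=
  rfl

theorem fix_iff (k : K) : ((k : K ⧸ d.jK.range) ∈ fixSub d.φbar) ↔ ∃ c, d.ι c = k := by
  rw [d.hC]
  refine (quotAct_fixed_iff d.φK d.jK.range d.hNS k).trans (forall_congr' (fun s => ?_))
  constructor
  · rintro ⟨q, hq⟩
    exact ⟨q, hq.symm⟩
  · rintro ⟨q, hq⟩
    exact ⟨q, hq.symm⟩

/-- the projection of `C` onto the group of fixed points -/
def πC : C →* fixSub d.φbar :=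
  ((QuotientGroup.mk' d.jK.range).comp d.ι).codRestrict (fixSub d.φbar)
    (fun c => (d.fix_iff (d.ι c)).mpr ⟨c, rfl⟩)

theorem πC_coe (c : C) : ((d.πC c : fixSub d.φbar) : K ⧸ d.jK.range) = (d.ι c : K ⧸ d.jK.range) := rfl

theorem πC_surjective : Function.Surjective d.πC := by
  rintro ⟨y, hy⟩
  induction y using QuotientGroup.induction_on with
  | H k =>
    obtain ⟨c, rfl⟩ := (d.fix_iff k).mp hy
    exact ⟨c, rfl⟩

theorem πC_eq_one_iff (c : C) : d.πC c = 1 ↔ ∃ q, d.j q = c := by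
  rw [← Subtype.coe_inj, πC_coe, Subgroup.coe_one, QuotientGroup.eq_one_iff]
  constructor
  · rintro ⟨q, hq⟩
    exact ⟨q, d.hι hq⟩
  · rintro ⟨q, rfl⟩
    exact ⟨q, rfl⟩

theorem πC_φC (s : S) (c : C) : d.πC (d.φC s c) = d.πC c := by
  apply Subtype.ext
  rw [πC_coe, πC_coe, d.hφC, ← φbar_mk]
  exact (d.fix_iff (d.ι c)).mpr ⟨c, rfl⟩ s

theorem mk_eq_one_iff (k : K) : QuotientGroup.mk' d.jK.range k = 1 ↔ ∃ q, d.jK q = k := by
  rw [QuotientGroup.mk'_apply, QuotientGroup.eq_one_iff]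
  rfl

theorem not_dvd_card_quot : ¬ p ∣ Nat.card (K ⧸ d.jK.range) := d.not_dvd_index

end Dat

section Under

/-- An invariant irreducible character has an invariant constituent on a normal subgroup of
index prime to `p`. -/
theorem exists_inv_under_hom {S G N : Type*} [Group S] [Finite S] [Group G] [Finite G] [Group N]
    [Fintype N] (p : ℕ) [Fact p.Prime] (hS : IsPGroup p S)
    (ι : N →* G) (hι : Function.Injective ι) (c : G →* MulAut N)
    (hc : ∀ (g : G) (n : N), ι (c g n) = g * ι n * g⁻¹)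
    (φG : S →* MulAut G) (φN : S →* MulAut N) (hφ : ∀ s n, ι (φN s n) = φG s (ι n))
    (hidx : ¬ p ∣ ι.range.index) (χ : Cfsg.IrrCharacter G) (hχ : Inv φG χ.1) :
    ∃ θ : Cfsg.IrrCharacter N, mlt ι χ.1 θ.1 ≠ 0 ∧ Inv φN θ.1 := by
  have hnorm := Cfsg.Agent.Lib.Helper19Det.range_normal ι c hc
  have hNS : ∀ s, ∀ x ∈ ι.range, φG s x ∈ ι.range := by
    rintro s _ ⟨n, rfl⟩
    exact ⟨φN s n, hφ s n⟩
  have : Fintype ι.range := Fintype.ofFinite _
  have hcop : (ι.range.index).Coprime (Nat.card S) := by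
    obtain ⟨k, hk⟩ := IsPGroup.iff_card.mp hS
    rw [hk]
    exact Nat.Coprime.pow_right k
      ((Nat.Prime.coprime_iff_not_dvd Fact.out).mpr hidx).symm
  have hnil : Group.IsNilpotent S := hS.isNilpotent
  obtain ⟨θ', h1, h2⟩ := Cfsg.Agent.Lib.Helper77Glaub5.exists_inv_under φG ι.range hNS hcop
    (Or.inl inferInstance) χ hχ
  set e : N ≃* ι.range := MonoidHom.ofInjective hι with he
  refine ⟨⟨fun n => θ'.1 (e n), Cfsg.Agent.Lib.Helper83Char.irr_comp_mulEquiv e θ'.2⟩, ?_, ?_⟩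
  · have h3 : mlt ι χ.1 (fun n => θ'.1 (e n)) = mlt ι.range.subtype χ.1 θ'.1 := by
      unfold mlt
      rw [← classInner_comp_equiv e (fun c => χ.1 (ι.range.subtype c)) θ'.1]
      rfl
    rw [h3]
    exact h1
  · intro s n
    have h4 : e (φN s n) = resAct φG ι.range hNS s (e n) := by
      apply Subtype.ext
      exact hφ s n
    change θ'.1 (e (φN s n)) = θ'.1 (e n)
    rw [h4]
    exact h2 s (e n)

end Under

namespace Dat

variable {p : ℕ} {K C Q S : Type*} [Group K] [Group C] [Group Q] [Group S]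
  (d : Dat p K C Q S)

theorem jK_mem_stabSub {θ : Q → ℂ} (hθ : Cfsg.IsClassFunction Q θ) (q₀ : Q) :
    d.jK q₀ ∈ stabSub d.cK θ := by
  intro q
  rw [d.cK_jK]
  exact hθ q q₀

/-- Invariant characters of `Q` that are conjugate in `K` are conjugate in `C`. -/
theorem conj_fixed [Finite K] [Fact p.Prime] {θ θ' : Q → ℂ} (hθ : Cfsg.IsClassFunction Q θ)
    (hθS : Inv d.φQ θ) (hθ'S : Inv d.φQ θ') (k₀ : K) (h : ∀ q, θ' q = θ (d.cK k₀ q)) :
    ∃ c : C, ∀ q, θ' q = θ (d.cC c q) := by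
  classical
  have : Fintype (K ⧸ d.jK.range) := Fintype.ofFinite _
  have : Fintype (fixSub d.φbar) := Fintype.ofFinite _
  set T := stabSub d.cK θ with hT
  set Tb : Subgroup (K ⧸ d.jK.range) := T.map (QuotientGroup.mk' d.jK.range) with hTb
  have key : ∀ k : K, ((k : K ⧸ d.jK.range) * (k₀ : K ⧸ d.jK.range)⁻¹ ∈ Tb) ↔
      ∀ q, θ (d.cK k q) = θ' q := by
    intro k
    have e1 : (k : K ⧸ d.jK.range) * (k₀ : K ⧸ d.jK.range)⁻¹
        = ((k * k₀⁻¹ : K) : K ⧸ d.jK.range) := rfl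
    rw [e1]
    have e2 : (((k * k₀⁻¹ : K) : K ⧸ d.jK.range) ∈ Tb) ↔ k * k₀⁻¹ ∈ T := by
      constructor
      · rintro ⟨t, ht, hte⟩
        have h1 : t⁻¹ * (k * k₀⁻¹) ∈ d.jK.range := QuotientGroup.eq.mp hte
        obtain ⟨q₀, hq₀⟩ := h1
        have h2 : k * k₀⁻¹ = t * d.jK q₀ := by rw [hq₀]; group
        rw [h2]
        exact T.mul_mem ht (d.jK_mem_stabSub hθ q₀)
      · intro hk
        exact ⟨_, hk, rfl⟩
    rw [e2]
    constructor
    · intro hk q
      have := hk (d.cK k₀ q)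
      rw [← MulAut.mul_apply, ← map_mul, inv_mul_cancel_right] at this
      rw [this, h]
    · intro hk q
      rw [map_mul, MulAut.mul_apply, hk, h, ← MulAut.mul_apply, ← map_mul, mul_inv_cancel,
        map_one, MulAut.one_apply]
  have A : ∀ (s : S) (k : K), (∀ q, θ (d.cK k q) = θ' q) → ∀ q, θ (d.cK (d.φK s k) q) = θ' q := by
    intro s k hk q
    obtain ⟨q', rfl⟩ := (d.φQ s).surjective q
    rw [d.cK_φK, hθS, hθ'S, hk]
  set F : K ⧸ d.jK.range → ℂ := fun y => if y * (k₀ : K ⧸ d.jK.range)⁻¹ ∈ Tb then 1 else 0 with hF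
  have hFinv : Inv d.φbar F := by
    intro s y
    induction y using QuotientGroup.induction_on with
    | H k =>
      rw [d.φbar_mk]
      have : (((d.φK s k : K) : K ⧸ d.jK.range) * (k₀ : K ⧸ d.jK.range)⁻¹ ∈ Tb) ↔
          ((k : K ⧸ d.jK.range) * (k₀ : K ⧸ d.jK.range)⁻¹ ∈ Tb) := by
        rw [key, key]
        constructor
        · intro hk
          have := A s⁻¹ _ hk
          rwa [map_inv, MulAut.inv_apply_self] at this
        · exact A s k
      simp only [hF, this]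
  have h1 := sum_fix p d.hS (isFix_fixSub d.φbar) F hFinv
    (fun y => by simp only [hF]; split_ifs; exacts [isIntegral_one, isIntegral_zero])
  have h2 : ∑ y, F y = (Nat.card Tb : ℂ) := by
    rw [← Equiv.sum_comp (Equiv.mulRight (k₀ : K ⧸ d.jK.range))]
    simp only [hF, Equiv.coe_mulRight, mul_inv_cancel_right]
    rw [Finset.sum_boole, Nat.card_eq_fintype_card, ← Fintype.card_subtype]
  by_contra hcon
  push Not at hcon
  have h3 : ∑ y : fixSub d.φbar, F ((fixSub d.φbar).subtype y) = 0 := by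
    refine Finset.sum_eq_zero (fun y _ => ?_)
    obtain ⟨c, rfl⟩ := d.πC_surjective y
    change F (d.ι c : K ⧸ d.jK.range) = 0
    simp only [hF]
    rw [if_neg]
    rw [key]
    intro hk
    obtain ⟨q, hq⟩ := hcon c
    exact hq (hk q).symm
  rw [h2, h3, sub_zero] at h1
  have h4 := PDvd.nat_dvd (Fact.out : p.Prime).ne_zero h1
  exact d.not_dvd_card_quot (h4.trans (Subgroup.card_subgroup_dvd_card Tb))

end Dat

end Cfsg.Agent.Lib.Helper77Rel1
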