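import Mathlib

set_option autoImplicit false

/-!
Integral Gram determinants: an integral `k × r` matrix of rank `r` without zero rows has
Gram determinant at least `k - r + 1`.
-/

namespace Cfsg.Agent.Lib.Helper78Det

open Matrix

variable {ι R : Type*} [Fintype R] [DecidableEq R]

/-- Gram matrix of the rows in `s`. -/
def gram (Y : ι → R → ℤ) (s : Finset ι) : Matrix R R ℤ := ∑ i ∈ s, vecMulVec (Y i) (Y i)

/-- the same matrix over the reals. -/
def gramR (Y : ι → R → ℤ) (s : Finset ι) : Matrix R R ℝ := (gram Y s).map (Int.cast : ℤ → ℝ)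

omit [Fintype R] [DecidableEq R] in
theorem gramR_eq (Y : ι → R → ℤ) (s : Finset ι) :
    gramR Y s = ∑ i ∈ s, vecMulVec (fun r => (Y i r : ℝ)) (fun r => (Y i r : ℝ)) := by
  ext a b
  unfold gramR gram
  simp [Matrix.sum_apply, vecMulVec_apply]

omit [DecidableEq R] in
theorem gramR_psd (Y : ι → R → ℤ) (s : Finset ι) : (gramR Y s).PosSemidef := by
  rw [gramR_eq]
  apply posSemidef_sum
  intro i _
  have := posSemidef_vecMulVec_self_star (fun r => (Y i r : ℝ))
  simpa using this

theorem det_gramR (Y : ι → R → ℤ) (s : Finset ι) : (gramR Y s).det = ((gram Y s).det : ℝ) := by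
  unfold gramR
  exact ((Int.castRingHom ℝ).map_det (gram Y s)).symm

omit [DecidableEq R] in
theorem gram_mulVec (Y : ι → R → ℤ) (s : Finset ι) (w : R → ℤ) :
    gram Y s *ᵥ w = ∑ i ∈ s, (Y i ⬝ᵥ w) • Y i := by
  unfold gram
  rw [Matrix.sum_mulVec]
  apply Finset.sum_congr rfl
  intro i _
  rw [vecMulVec_mulVec]
  ext r
  simp [mul_comm]

omit [DecidableEq R] in
theorem dot_gram (Y : ι → R → ℤ) (s : Finset ι) (w : R → ℤ) :
    w ⬝ᵥ (gram Y s *ᵥ w) = ∑ i ∈ s, (Y i ⬝ᵥ w) ^ 2 := by
  rw [gram_mulVec, dotProduct_sum]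
  apply Finset.sum_congr rfl
  intro i _
  rw [dotProduct_smul, smul_eq_mul, dotProduct_comm w, sq]

omit [Fintype R] [DecidableEq R] in
theorem gram_insert [DecidableEq ι] (Y : ι → R → ℤ) (s : Finset ι) {i : ι} (hi : i ∈ s) :
    gram Y s = gram Y (s.erase i) + vecMulVec (Y i) (Y i) := by
  unfold gram
  rw [Finset.sum_erase_add _ _ hi]

/-- adding a nonzero row increases the determinant. -/
theorem det_lt [DecidableEq ι] (Y : ι → R → ℤ) (s : Finset ι) {i : ι} (hi : i ∈ s)
    (hY : Y i ≠ 0) (hdet : (gram Y (s.erase i)).det ≠ 0) :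
    (gram Y (s.erase i)).det + 1 ≤ (gram Y s).det := by
  have hpd : (gramR Y (s.erase i)).PosDef := by
    rw [(gramR_psd Y _).posDef_iff_det_ne_zero, det_gramR]
    exact_mod_cast hdet
  set A := gramR Y (s.erase i) with hA
  set v : R → ℝ := fun r => (Y i r : ℝ) with hv
  have hv0 : v ≠ 0 := by
    intro h
    apply hY
    funext r
    have := congrFun h r
    simpa [hv] using this
  have e1 : gramR Y s = A + replicateCol Unit v * replicateRow Unit v := by
    rw [hA, gramR_eq, gramR_eq, ← vecMulVec_eq Unit, Finset.sum_erase_add _ _ hi]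
  have hu : IsUnit A.det := isUnit_iff_ne_zero.2 hpd.det_pos.ne'
  have e2 := det_add_replicateCol_mul_replicateRow (ι := Unit) hu v v
  rw [← e1, det_gramR] at e2
  have e3 : (1 + replicateRow Unit v * A⁻¹ * replicateCol Unit v).det
      = 1 + v ⬝ᵥ (A⁻¹ *ᵥ v) := by
    rw [det_unique]
    simp only [Matrix.add_apply, Matrix.one_apply_eq, Matrix.mul_apply, replicateRow_apply,
      replicateCol_apply, dotProduct, mulVec, Finset.sum_mul, Finset.mul_sum]
    congr 1
    rw [Finset.sum_comm]
    apply Finset.sum_congr rfl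
    intro a _
    apply Finset.sum_congr rfl
    intro b _
    ring
  rw [e3] at e2
  have hpos : 0 < v ⬝ᵥ (A⁻¹ *ᵥ v) := by
    have := hpd.inv.dotProduct_mulVec_pos hv0
    simpa using this
  have h4 : ((gram Y (s.erase i)).det : ℝ) < ((gram Y s).det : ℝ) := by
    rw [e2, ← det_gramR]
    nlinarith [hpd.det_pos]
  have h5 : (gram Y (s.erase i)).det < (gram Y s).det := by exact_mod_cast h4
  omega

theorem det_pos_of_ne (Y : ι → R → ℤ) (s : Finset ι) (hdet : (gram Y s).det ≠ 0) :
    0 < (gram Y s).det := by
  have hpd : (gramR Y s).PosDef := by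
    rw [(gramR_psd Y _).posDef_iff_det_ne_zero, det_gramR]
    exact_mod_cast hdet
  have := hpd.det_pos
  rw [det_gramR] at this
  exact_mod_cast this

/-- if every row is essential then there are at most `|R|` rows. -/
theorem card_le_of_essential [DecidableEq ι] (Y : ι → R → ℤ) (s : Finset ι)
    (hdet : (gram Y s).det ≠ 0) (hess : ∀ i ∈ s, (gram Y (s.erase i)).det = 0) :
    s.card ≤ Fintype.card R := by
  have hli : LinearIndependent ℤ (fun i : s => Y i) := by
    rw [Fintype.linearIndependent_iff]
    intro c hc i0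
    obtain ⟨w, hw0, hw⟩ := exists_mulVec_eq_zero_iff.2 (hess i0 i0.2)
    have h1 : ∑ i ∈ s.erase (i0 : ι), (Y i ⬝ᵥ w) ^ 2 = 0 := by
      rw [← dot_gram, hw, dotProduct_zero]
    have h2 : ∀ i ∈ s.erase (i0 : ι), Y i ⬝ᵥ w = 0 := by
      intro i hi
      have := (Finset.sum_eq_zero_iff_of_nonneg (fun j _ => sq_nonneg (Y j ⬝ᵥ w))).1 h1 i hi
      exact pow_eq_zero_iff (two_ne_zero) |>.1 this
    have h3 : Y i0 ⬝ᵥ w ≠ 0 := by
      intro h0
      apply hdet
      apply exists_mulVec_eq_zero_iff.1
      refine ⟨w, hw0, ?_⟩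
      rw [gram_mulVec]
      apply Finset.sum_eq_zero
      intro i hi
      by_cases hii : i = i0
      · rw [hii, h0, zero_smul]
      · rw [h2 i (Finset.mem_erase.2 ⟨hii, hi⟩), zero_smul]
    have h4 : (∑ i : s, c i • Y i) ⬝ᵥ w = 0 := by rw [hc, zero_dotProduct]
    rw [sum_dotProduct, Finset.sum_eq_single i0] at h4
    · rw [smul_dotProduct, smul_eq_mul] at h4
      exact (mul_eq_zero.1 h4).resolve_right h3
    · intro i _ hi
      rw [smul_dotProduct, h2 i (Finset.mem_erase.2 ⟨fun h => hi (Subtype.ext h), i.2⟩), smul_zero]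
    · intro h
      exact absurd (Finset.mem_univ _) h
  have := hli.fintype_card_le_finrank
  rw [Module.finrank_fintype_fun_eq_card, Fintype.card_coe] at this
  exact this

/-- **Main lemma**: an integral matrix of full column rank without zero rows has Gram
determinant at least (number of rows) - (number of columns) + 1. -/
theorem card_le_det [DecidableEq ι] (Y : ι → R → ℤ) :
    ∀ s : Finset ι, (∀ i ∈ s, Y i ≠ 0) → (gram Y s).det ≠ 0 →
      (s.card : ℤ) + 1 ≤ (gram Y s).det + Fintype.card R := by
  intro s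
  induction s using Finset.strongInduction with
  | H s ih =>
    intro hY hdet
    by_cases hess : ∀ i ∈ s, (gram Y (s.erase i)).det = 0
    · have h1 := card_le_of_essential Y s hdet hess
      have h2 := det_pos_of_ne Y s hdet
      omega
    · push Not at hess
      obtain ⟨i, hi, hne⟩ := hess
      have h1 := ih (s.erase i) (Finset.erase_ssubset hi)
        (fun j hj => hY j (Finset.mem_of_mem_erase hj)) hne
      have h2 := det_lt Y s hi (hY i hi) hne
      have h3 := Finset.card_erase_add_one hi
      omega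

section special

variable {κ J : Type*} [Fintype κ] [Fintype J] [DecidableEq J]

/-- determinant of the bordered matrix `[[1 + e J, t], [tᵀ, d]]`. -/
theorem det_border (e : ℚ) (he : 0 ≤ e) (t : J → ℚ) (d : ℚ) :
    (fromBlocks (of fun j j' : J => e + if j = j' then 1 else 0) (of fun j (_ : Unit) => t j)
      (of fun (_ : Unit) j => t j) (of fun (_ : Unit) (_ : Unit) => d)).det
      = (1 + e * Fintype.card J) * d - (1 + e * Fintype.card J) * ∑ j, t j ^ 2
        + e * (∑ j, t j) ^ 2 := by
  set P : ℚ := 1 + e * Fintype.card J with hP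
  have hP0 : P ≠ 0 := by
    have : 0 < P := by positivity
    exact this.ne'
  set A : Matrix J J ℚ := of fun j j' : J => e + if j = j' then 1 else 0 with hA
  set A' : Matrix J J ℚ := of fun j j' : J => (if j = j' then 1 else 0) - e / P with hA'
  have h1 : A * A' = 1 := by
    ext j j'
    simp only [hA, hA', Matrix.mul_apply, of_apply, Matrix.one_apply]
    have : ∀ x : J, (e + if j = x then 1 else 0) * ((if x = j' then 1 else 0) - e / P)
        = e * (if x = j' then 1 else 0) - e * (e / P) + (if j = x then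
          ((if x = j' then 1 else 0) - e / P) else 0) := by
      intro x
      split_ifs <;> ring
    simp only [this, Finset.sum_add_distrib, Finset.sum_sub_distrib, Finset.sum_const,
      Finset.card_univ, nsmul_eq_mul, ← Finset.mul_sum, Finset.sum_ite_eq, Finset.sum_ite_eq',
      Finset.mem_univ, if_true]
    have : e * 1 - (Fintype.card J : ℚ) * (e * (e / P)) - e / P = 0 := by
      field_simp
      rw [hP]
      ring
    split_ifs <;> linarith
  let _ : Invertible A := invertibleOfRightInverse A A' h1
  have h2 : ⅟A = A' := invOf_eq_right_inv h1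
  rw [det_fromBlocks₁₁, h2]
  have h3 : A.det = P := by
    have : A = 1 + replicateCol Unit (fun _ : J => e) * replicateRow Unit (fun _ : J => (1 : ℚ)) := by
      ext j j'
      simp only [hA, of_apply, Matrix.add_apply, Matrix.one_apply, Matrix.mul_apply,
        replicateCol_apply, replicateRow_apply, Finset.univ_unique, Finset.sum_singleton, mul_one]
      ring
    rw [this, det_one_add_replicateCol_mul_replicateRow, hP]
    simp [dotProduct, mul_comm]
  rw [h3]
  have h4 : ((of fun (_ : Unit) (_ : Unit) => d) - (of fun (_ : Unit) j => t j) * A' *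
      (of fun j (_ : Unit) => t j)).det
      = d - (∑ j, t j ^ 2 - e / P * (∑ j, t j) ^ 2) := by
    rw [det_unique]
    simp only [Matrix.sub_apply, of_apply, Matrix.mul_apply, hA']
    congr 1
    have : ∀ x : J, (∑ x_1 : J, t x_1 * ((if x_1 = x then 1 else 0) - e / P)) * t x
        = t x ^ 2 - e / P * ((∑ j, t j) * t x) := by
      intro x
      have : ∀ y : J, t y * ((if y = x then 1 else 0) - e / P)
          = (if y = x then t y else 0) - e / P * t y := by
        intro y
        split_ifs <;> ring
      simp only [this, Finset.sum_sub_distrib, Finset.sum_ite_eq', Finset.mem_univ, if_true,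
        ← Finset.mul_sum]
      ring
    simp only [this, Finset.sum_sub_distrib, ← Finset.mul_sum]
    ring
  rw [h4]
  field_simp
  ring

/-- **Corollary.** Integral vectors `a j` with Gram matrix `1 + e J`, no common zero coordinate.
Then the (integral) squared distance form `N x` of `x` to their span, normalised by the
determinant `1 + e |J|`, is `0` or at least `|κ| - |J|`. -/
theorem main [DecidableEq κ] (a : J → κ → ℤ) (e : ℤ) (he : 0 ≤ e)
    (hgram : ∀ j j', ∑ i, a j i * a j' i = e + if j = j' then 1 else 0)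
    (hrow : ∀ i, ∃ j, a j i ≠ 0) (x : κ → ℤ) :
    (1 + e * Fintype.card J) * ∑ i, x i ^ 2
        - (1 + e * Fintype.card J) * ∑ j, (∑ i, a j i * x i) ^ 2
        + e * (∑ j, ∑ i, a j i * x i) ^ 2 = 0 ∨
    (Fintype.card κ : ℤ) ≤ (1 + e * Fintype.card J) * ∑ i, x i ^ 2
        - (1 + e * Fintype.card J) * ∑ j, (∑ i, a j i * x i) ^ 2
        + e * (∑ j, ∑ i, a j i * x i) ^ 2 + Fintype.card J := by
  set Y : κ → (J ⊕ Unit) → ℤ := fun i => Sum.elim (fun j => a j i) (fun _ => x i) with hY
  have hG : gram Y Finset.univ = fromBlocks (of fun j j' : J => e + if j = j' then 1 else 0)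
      (of fun j (_ : Unit) => ∑ i, a j i * x i) (of fun (_ : Unit) j => ∑ i, a j i * x i)
      (of fun (_ : Unit) (_ : Unit) => ∑ i, x i ^ 2) := by
    ext r r'
    unfold gram
    rw [Matrix.sum_apply]
    rcases r with j | u <;> rcases r' with j' | u'
    · simp only [hY, vecMulVec_apply, Sum.elim_inl, fromBlocks_apply₁₁, of_apply, hgram]
    · simp only [hY, vecMulVec_apply, Sum.elim_inl, Sum.elim_inr, fromBlocks_apply₁₂, of_apply]
    · simp only [hY, vecMulVec_apply, Sum.elim_inl, Sum.elim_inr, fromBlocks_apply₂₁, of_apply,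
        mul_comm]
    · simp only [hY, vecMulVec_apply, Sum.elim_inr, fromBlocks_apply₂₂, of_apply, sq]
  have hdet : (gram Y Finset.univ).det = (1 + e * Fintype.card J) * ∑ i, x i ^ 2
        - (1 + e * Fintype.card J) * ∑ j, (∑ i, a j i * x i) ^ 2
        + e * (∑ j, ∑ i, a j i * x i) ^ 2 := by
    have h1 := det_border (J := J) (e : ℚ) (by exact_mod_cast he)
      (fun j => ((∑ i, a j i * x i : ℤ) : ℚ)) ((∑ i, x i ^ 2 : ℤ) : ℚ)
    have h2 : ((gram Y Finset.univ).det : ℚ) = (fromBlocks
        (of fun j j' : J => (e : ℚ) + if j = j' then 1 else 0)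
        (of fun j (_ : Unit) => ((∑ i, a j i * x i : ℤ) : ℚ))
        (of fun (_ : Unit) j => ((∑ i, a j i * x i : ℤ) : ℚ))
        (of fun (_ : Unit) (_ : Unit) => ((∑ i, x i ^ 2 : ℤ) : ℚ))).det := by
      rw [hG]
      rw [show (((fromBlocks (of fun j j' : J => e + if j = j' then 1 else 0)
        (of fun j (_ : Unit) => ∑ i, a j i * x i) (of fun (_ : Unit) j => ∑ i, a j i * x i)
        (of fun (_ : Unit) (_ : Unit) => ∑ i, x i ^ 2)).det : ℤ) : ℚ)
        = (Int.castRingHom ℚ) _ from rfl, RingHom.map_det]
      congr 1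
      ext r r'
      rcases r with j | u <;> rcases r' with j' | u'
      · simp only [RingHom.mapMatrix_apply, map_apply, fromBlocks_apply₁₁, of_apply,
          Int.coe_castRingHom]
        split_ifs <;> push_cast <;> rfl
      · simp
      · simp
      · simp
    rw [h1] at h2
    exact_mod_cast h2
  rw [← hdet]
  by_cases h0 : (gram Y Finset.univ).det = 0
  · exact Or.inl h0
  · right
    have h := card_le_det Y Finset.univ (fun i _ => by
      obtain ⟨j, hj⟩ := hrow i
      intro h
      apply hj
      have := congrFun h (Sum.inl j)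
      simpa [hY] using this) h0
    rw [Finset.card_univ, Fintype.card_sum, Fintype.card_unit] at h
    push_cast at h
    linarith

end special

end Cfsg.Agent.Lib.Helper78Det
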