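import Mathlib
import Cfsg.Agent.Lib.Helper58SylDefs

set_option autoImplicit false

namespace Cfsg.Agent.Lib.Helper78Sylmonwd

open Cfsg.Agent.Lib.Helper58SylDefs
open Matrix

variable {F : Type*} [Field F]

/-- the diagonal matrices. -/
noncomputable def Bm (n : ℕ) : (Fin n → Fˣ) →* GL (Fin n) F :=
  (Units.map ((Matrix.diagonalRingHom (Fin n) F : (Fin n → F) →+* Matrix (Fin n) (Fin n) F) :
    (Fin n → F) →* Matrix (Fin n) (Fin n) F)).comp
    (MulEquiv.piUnits (M := fun _ : Fin n => F)).symm.toMonoidHom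

theorem coe_Bm (n : ℕ) (d : Fin n → Fˣ) :
    ((Bm n d : GL (Fin n) F) : Matrix (Fin n) (Fin n) F) = Matrix.diagonal (fun i => (d i : F)) :=
  rfl

/-- the permutation matrices. -/
noncomputable def Pmm (n : ℕ) : Equiv.Perm (Fin n) →* GL (Fin n) F :=
  MonoidHom.toHomUnits (Matrix.permMatrixHom (n := Fin n) (R := F))

theorem coe_Pmm (n : ℕ) (π : Equiv.Perm (Fin n)) :
    ((Pmm n π : GL (Fin n) F) : Matrix (Fin n) (Fin n) F) = (π⁻¹).permMatrix F := rfl

theorem Pmm_apply (n : ℕ) (π : Equiv.Perm (Fin n)) (i j : Fin n) :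
    ((Pmm n π : GL (Fin n) F) : Matrix (Fin n) (Fin n) F) i j = if π⁻¹ i = j then 1 else 0 := by
  rw [coe_Pmm]
  simp [PEquiv.toMatrix_apply, Equiv.toPEquiv_apply]

/-- piece `monwd` -/
theorem exists_wd_mon (n : ℕ) :
    ∃ W : WD (GL (Fin n) F) Fˣ n,
      (∀ d, Matrix.GeneralLinearGroup.det (W.B d) = ∏ i, d i) ∧
      (∀ π, Equiv.Perm.sign π = 1 → Matrix.GeneralLinearGroup.det (W.Pm π) = 1) ∧
      (∀ π, Equiv.Perm.sign π = -1 → Matrix.GeneralLinearGroup.det (W.Pm π) = -1) := by
  refine ⟨⟨Bm n, Pmm n, ?_, ?_⟩, ?_, ?_, ?_⟩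
  · intro π d
    rw [mul_inv_eq_iff_eq_mul]
    apply Units.ext
    ext i j
    simp only [Units.val_mul, coe_Bm, Matrix.mul_diagonal, Matrix.diagonal_mul, Pmm_apply]
    split_ifs with h
    · rw [h]
      ring
    · ring
  · intro d π h
    have h1 : ∀ i j, (d i : F) * (if π⁻¹ i = j then 1 else 0) = (1 : Matrix (Fin n) (Fin n) F) i j := by
      intro i j
      have := congrArg (fun g : GL (Fin n) F => (g : Matrix (Fin n) (Fin n) F) i j) h
      simpa only [Units.val_mul, coe_Bm, Matrix.diagonal_mul, Pmm_apply, Units.val_one] using this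
    have h2 : ∀ i, π⁻¹ i = i := by
      intro i
      by_contra hne
      have := h1 i (π⁻¹ i)
      rw [if_pos rfl, mul_one, Matrix.one_apply_ne (Ne.symm hne)] at this
      exact (d i).ne_zero this
    constructor
    · funext i
      have := h1 i i
      rw [if_pos (h2 i), mul_one, Matrix.one_apply_eq] at this
      exact Units.ext this
    · have : π⁻¹ = 1 := Equiv.ext h2
      simpa using this
  · intro d
    apply Units.ext
    simp only [Matrix.GeneralLinearGroup.val_det_apply, coe_Bm, Matrix.det_diagonal]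
    simp
  · intro π h
    apply Units.ext
    simp only [Matrix.GeneralLinearGroup.val_det_apply, coe_Pmm, Matrix.det_permutation]
    simp [h]
  · intro π h
    apply Units.ext
    simp only [Matrix.GeneralLinearGroup.val_det_apply, coe_Pmm, Matrix.det_permutation]
    simp [h]

end Cfsg.Agent.Lib.Helper78Sylmonwd
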