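import Mathlib
import Cfsg.Prelude.Def_Characters
import Cfsg.Agent.Lib.Helper82Schur
import Cfsg.Agent.Lib.Helper82Linear
import Cfsg.Agent.Lib.Helper4Char

set_option autoImplicit false

namespace Cfsg.Agent.Lib.Helper79Central

open Cfsg Representation

variable {G : Type*} [Group G]

/-- a central element acts as the scalar `χ z / χ 1`. -/
theorem irr_central_mul {χ : G → ℂ} (hχ : IsIrrCharacter G χ) {z : G}
    (hz : z ∈ Subgroup.center G) (g : G) : χ (z * g) = χ z / χ 1 * χ g := by
  obtain ⟨n, ρ, hirr, rfl⟩ := hχ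
  have := hirr
  obtain ⟨c, hc⟩ := Helper82Schur.schur_scalar ρ (ρ z) (by
    intro h
    have h1 : ρ z * ρ h = ρ h * ρ z := by
      rw [← map_mul, ← map_mul, Subgroup.mem_center_iff.mp hz h]
    exact h1)
  have h1 : ρ.character 1 ≠ 0 := Helper82Schur.char_one_ne_zero ρ
  have h2 : ρ.character z = c * ρ.character 1 := by
    unfold Representation.character
    rw [hc, map_one]
    simp [LinearMap.trace_id]
  have h3 : ρ.character (z * g) = c * ρ.character g := by
    unfold Representation.character
    rw [map_mul, hc]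
    have : (c • (LinearMap.id : (Fin n → ℂ) →ₗ[ℂ] (Fin n → ℂ))) * ρ g = c • ρ g := by
      ext v; simp
    rw [this, map_smul, smul_eq_mul]
  rw [h3, h2]
  field_simp

/-- the central character `z ↦ χ z / χ 1` on a central subgroup as a homomorphism. -/
noncomputable def centralHom {χ : G → ℂ} (hχ : IsIrrCharacter G χ) (N : Subgroup G)
    (hN : N ≤ Subgroup.center G) : N →* ℂˣ :=
  MonoidHom.toHomUnits
    { toFun := fun n => χ n / χ 1
      map_one' := by
        have : χ 1 ≠ 0 := Helper82Schur.irr_one_ne_zero ⟨χ, hχ⟩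
        simp [this]
      map_mul' := fun a b => by
        rw [Subgroup.coe_mul, irr_central_mul hχ (hN a.2)]
        ring }

theorem centralHom_apply {χ : G → ℂ} (hχ : IsIrrCharacter G χ) (N : Subgroup G)
    (hN : N ≤ Subgroup.center G) (n : N) : ((centralHom hχ N hN n : ℂˣ) : ℂ) = χ n / χ 1 := rfl

/-- if `ψ` is an irreducible constituent of the restriction of `χ` to the central subgroup `N`
then `χ n = χ 1 * ψ n`. -/
theorem irr_restrict_central [Fintype G] {χ : G → ℂ} (hχ : IsIrrCharacter G χ) (N : Subgroup G)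
    [Fintype N] (hN : N ≤ Subgroup.center G) {ψ : N → ℂ} (hψ : IsIrrCharacter N ψ)
    (hover : classInner (fun n : N => χ n) ψ ≠ 0) (n : N) : χ n = χ 1 * ψ n := by
  have h1 : χ 1 ≠ 0 := Helper82Schur.irr_one_ne_zero ⟨χ, hχ⟩
  have hl := Helper82Linear.isIrrCharacter_of_hom (centralHom hχ N hN)
  have he : (fun n : N => χ n) = χ 1 • (fun n : N => ((centralHom hχ N hN n : ℂˣ) : ℂ)) := by
    funext n
    simp only [Pi.smul_apply, smul_eq_mul, centralHom_apply]
    field_simp
  by_cases hne : (fun n : N => ((centralHom hχ N hN n : ℂˣ) : ℂ)) = ψ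
  · rw [← hne]
    simp only [centralHom_apply]
    field_simp
  · exfalso
    apply hover
    rw [he, Helper4Char.classInner_smul_left, Helper4Char.classInner_irr_ne hl hψ hne, mul_zero]

/-- conversely, the inner product is zero or `χ 1`. -/
theorem irr_central_mul' [Fintype G] {χ : G → ℂ} (hχ : IsIrrCharacter G χ) (N : Subgroup G)
    [Fintype N] (hN : N ≤ Subgroup.center G) {ψ : N → ℂ} (hψ : IsIrrCharacter N ψ)
    (hover : classInner (fun n : N => χ n) ψ ≠ 0) (n : N) (g : G) :
    χ (n * g) = ψ n * χ g := by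
  have h1 : χ 1 ≠ 0 := Helper82Schur.irr_one_ne_zero ⟨χ, hχ⟩
  rw [irr_central_mul hχ (hN n.2), irr_restrict_central hχ N hN hψ hover n]
  field_simp

end Cfsg.Agent.Lib.Helper79Central
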