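import Mathlib
import Cfsg.Prelude.Def_Characters
import Cfsg.Agent.Lib.Helper79Galois
import Cfsg.Agent.Lib.Helper4Eigen
import Cfsg.Agent.Lib.Helper4Char

set_option autoImplicit false

namespace Cfsg.Agent.Lib.Helper79Zeros

open Cfsg

theorem galois_prod_aux (n : ℕ) (hn : 0 < n) (K : Type) [Field K] [Algebra ℚ K] [NeZero n]
    [IsCyclotomicExtension {n} ℚ K] :
    ∃ (Φ : Type) (_ : Fintype Φ) (_ : Nonempty Φ) (k : Φ → ℕ), (∀ φ, (k φ).Coprime n) ∧
      ∀ (m : ℕ) (μ : Fin m → ℂ), (∀ i, μ i ^ n = 1) → ∑ i, μ i ≠ 0 →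
        1 ≤ ∏ φ : Φ, ‖∑ i, μ i ^ (k φ)‖ := by
  classical
  have hζK : IsPrimitiveRoot (IsCyclotomicExtension.zeta n ℚ K) n :=
    IsCyclotomicExtension.zeta_spec n ℚ K
  set ζK := IsCyclotomicExtension.zeta n ℚ K with hζKdef
  have : FiniteDimensional ℚ K := IsCyclotomicExtension.finiteDimensional {n} ℚ K
  let φ₀ : K →ₐ[ℚ] ℂ := IsAlgClosed.lift
  have hζ : IsPrimitiveRoot (φ₀ ζK) n := hζK.map_of_injective φ₀.injective
  set ζ := φ₀ ζK with hζdef
  have hk : ∀ φ : K →ₐ[ℚ] ℂ, ∃ k : ℕ, k.Coprime n ∧ ζ ^ k = φ ζK := by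
    intro φ
    have h1 : IsPrimitiveRoot (φ ζK) n := hζK.map_of_injective φ.injective
    obtain ⟨k, -, hk1, hk2⟩ := (hζ.isPrimitiveRoot_iff).mp h1
    exact ⟨k, hk1, hk2⟩
  choose k hk1 hk2 using hk
  refine ⟨K →ₐ[ℚ] ℂ, inferInstance, ⟨φ₀⟩, k, hk1, ?_⟩
  intro m μ hμ hsum
  have hex : ∀ i, ∃ a : ℕ, ζ ^ a = μ i := by
    intro i
    obtain ⟨a, -, ha⟩ := hζ.eq_pow_of_pow_eq_one (hμ i)
    exact ⟨a, ha⟩
  choose a ha using hex
  let α : K := ∑ i, ζK ^ (a i)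
  have hφα : ∀ φ : K →ₐ[ℚ] ℂ, φ α = ∑ i, μ i ^ (k φ) := by
    intro φ
    simp only [α, map_sum, map_pow, ← hk2 φ, ← ha]
    refine Finset.sum_congr rfl fun i _ => ?_
    rw [← pow_mul, ← pow_mul, mul_comm]
  have hα0 : α ≠ 0 := by
    intro h0
    apply hsum
    have : φ₀ α = ∑ i, μ i := by
      simp only [α, map_sum, map_pow, ← ha, hζdef]
    rw [← this, h0, map_zero]
  have hαint : IsIntegral ℤ α := by
    refine IsIntegral.sum _ fun i _ => IsIntegral.pow ?_ _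
    exact hζK.isIntegral hn
  have hnorm := Algebra.norm_eq_prod_embeddings ℚ ℂ α
  have hint : IsIntegral ℤ (Algebra.norm ℚ α) := Algebra.isIntegral_norm ℚ hαint
  obtain ⟨N, hN⟩ := IsIntegrallyClosed.isIntegral_iff.mp hint
  have hN0 : N ≠ 0 := by
    rintro rfl
    rw [map_zero] at hN
    exact hα0 (Algebra.norm_eq_zero_iff.mp hN.symm)
  rw [← norm_prod]
  have : ∏ φ : K →ₐ[ℚ] ℂ, ∑ i, μ i ^ (k φ) = (N : ℂ) := by
    rw [← Finset.prod_congr rfl (fun φ _ => hφα φ), ← hnorm, ← hN]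
    simp
  rw [this, Complex.norm_intCast]
  have : (1 : ℤ) ≤ |N| := Int.one_le_abs hN0
  exact_mod_cast this

/-- the product of the absolute values of the Galois conjugates of a nonzero sum of roots of
unity is at least one. -/
theorem galois_prod (n : ℕ) (hn : 0 < n) :
    ∃ (Φ : Type) (_ : Fintype Φ) (_ : Nonempty Φ) (k : Φ → ℕ), (∀ φ, (k φ).Coprime n) ∧
      ∀ (m : ℕ) (μ : Fin m → ℂ), (∀ i, μ i ^ n = 1) → ∑ i, μ i ≠ 0 →
        1 ≤ ∏ φ : Φ, ‖∑ i, μ i ^ (k φ)‖ := by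
  have : NeZero n := ⟨hn.ne'⟩
  exact @galois_prod_aux n hn (CyclotomicField n ℚ) _ (CyclotomicField.algebra n ℚ) _ inferInstance

variable {G : Type*} [Group G] [Fintype G]

/-- Burnside/Thompson averaging: on a subset `S` stable under coprime power maps, the number of
non-zeros of a character is at most the sum of the `r`-th powers of its absolute values. -/
theorem card_nonzero_le_sum_rep [DecidableEq G] {m : ℕ} (ρ : Representation ℂ G (Fin m → ℂ))
    (S : Finset G) (hS : ∀ k : ℕ, k.Coprime (Nat.card G) → ∀ g, g ^ k ∈ S ↔ g ∈ S) (r : ℕ) :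
    ((S.filter (fun g => ρ.character g ≠ 0)).card : ℝ) ≤ ∑ g ∈ S, ‖ρ.character g‖ ^ r := by
  classical
  obtain ⟨Φ, _, hne, k, hk, hΦ⟩ := galois_prod (Nat.card G) Nat.card_pos
  have hcard : (0 : ℝ) < Fintype.card Φ := by exact_mod_cast Fintype.card_pos
  have h1 : ∀ φ : Φ, ∑ g ∈ S, ‖ρ.character (g ^ k φ)‖ ^ r = ∑ g ∈ S, ‖ρ.character g‖ ^ r := by
    intro φ
    refine Finset.sum_equiv (powCoprime (hk φ).symm) ?_ ?_
    · intro g
      rw [powCoprime_apply, hS _ (hk φ)]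
    · intro g _
      rfl
  have h2 : ∀ g ∈ S, (if ρ.character g ≠ 0 then (Fintype.card Φ : ℝ) else 0) ≤
      ∑ φ : Φ, ‖ρ.character (g ^ k φ)‖ ^ r := by
    intro g _
    split_ifs with h0
    · obtain ⟨μ, hμ1, -, hμ3, hμ4, -⟩ := Helper4Eigen.exists_eigenvalues ρ g
      have hμn : ∀ i, μ i ^ Nat.card G = 1 := by
        intro i
        obtain ⟨c, hc⟩ := orderOf_dvd_natCard g
        rw [hc, pow_mul, hμ1, one_pow]
      have hp := hΦ _ μ hμn (by rw [← hμ4]; exact h0)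
      have hp' : 1 ≤ ∏ φ : Φ, ‖ρ.character (g ^ k φ)‖ ^ r := by
        rw [Finset.prod_pow]
        apply one_le_pow₀
        simpa only [hμ3] using hp
      have := Helper79Galois.card_le_sum_of_one_le_prod Finset.univ
        (fun φ : Φ => ‖ρ.character (g ^ k φ)‖ ^ r) (fun _ _ => by positivity) hp'
      simpa using this
    · positivity
  have h3 : (Fintype.card Φ : ℝ) * ∑ g ∈ S, ‖ρ.character g‖ ^ r =
      ∑ g ∈ S, ∑ φ : Φ, ‖ρ.character (g ^ k φ)‖ ^ r := by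
    rw [Finset.sum_comm, Finset.sum_congr rfl (fun φ _ => h1 φ)]
    simp
  have h4 : ∑ g ∈ S, (if ρ.character g ≠ 0 then (Fintype.card Φ : ℝ) else 0) =
      (Fintype.card Φ : ℝ) * ((S.filter (fun g => ρ.character g ≠ 0)).card : ℝ) := by
    rw [← Finset.sum_filter, Finset.sum_const]
    simp [mul_comm]
  have h5 := Finset.sum_le_sum h2
  rw [h4, ← h3] at h5
  exact le_of_mul_le_mul_left h5 hcard

theorem card_nonzero_le_sum [DecidableEq G] {χ : G → ℂ} (hχ : IsCharacter G χ)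
    (S : Finset G) (hS : ∀ k : ℕ, k.Coprime (Nat.card G) → ∀ g, g ^ k ∈ S ↔ g ∈ S) (r : ℕ) :
    ((S.filter (fun g => χ g ≠ 0)).card : ℝ) ≤ ∑ g ∈ S, ‖χ g‖ ^ r := by
  obtain ⟨m, ρ, rfl⟩ := hχ
  exact card_nonzero_le_sum_rep ρ S hS r

omit [Fintype G] in
theorem pow_mem_iff [Finite G] (H : Subgroup G) (k : ℕ) (hk : k.Coprime (Nat.card G)) (g : G) :
    g ^ k ∈ H ↔ g ∈ H := by
  constructor
  · intro h
    have hko : k.Coprime (orderOf g) := hk.coprime_dvd_right (orderOf_dvd_natCard g)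
    obtain ⟨m, hm⟩ := exists_pow_eq_self_of_coprime hko
    rw [← hm]
    exact H.pow_mem h m
  · exact fun h => H.pow_mem h k

theorem sum_normSq {χ : G → ℂ} (hχ : IsIrrCharacter G χ) :
    ∑ g : G, ‖χ g‖ ^ 2 = (Nat.card G : ℝ) := by
  have h := Helper4Char.classInner_irr_self hχ
  unfold classInner at h
  have h0 : (Nat.card G : ℂ) ≠ 0 := Helper4Char.card_ne_zero
  have h1 : ∑ g : G, χ g * (starRingEnd ℂ) (χ g) = (Nat.card G : ℂ) := by
    field_simp at h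
    exact h
  have h2 : ∑ g : G, χ g * (starRingEnd ℂ) (χ g) = ((∑ g : G, ‖χ g‖ ^ 2 : ℝ) : ℂ) := by
    push_cast
    refine Finset.sum_congr rfl fun g _ => ?_
    rw [Complex.mul_conj, Complex.normSq_eq_norm_sq]
    push_cast; rfl
  rw [h2] at h1
  exact_mod_cast h1

end Cfsg.Agent.Lib.Helper79Zeros
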