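import Mathlib
import Cfsg.Prelude.Def_Characters
import Cfsg.Agent.Lib.Helper4Char
import Cfsg.Agent.Lib.Helper4Char4
import Cfsg.Agent.Lib.Helper83Char
import Cfsg.Agent.Lib.Helper79Zeros

set_option autoImplicit false

namespace Cfsg.Agent.Lib.Helper79Coset

open Cfsg
open Cfsg.Agent.Lib.Helper4Char Cfsg.Agent.Lib.Helper4Char4
open scoped ComplexConjugate

variable {G : Type*} [Group G] [Fintype G]

open scoped Classical in
/-- indicator function of a subgroup -/
noncomputable def ind (N : Subgroup G) : G → ℂ := fun x => if x ∈ N then 1 else 0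

omit [Fintype G] in
theorem ind_of_mem {N : Subgroup G} {x : G} (h : x ∈ N) : ind N x = 1 := by simp [ind, h]

omit [Fintype G] in
theorem ind_of_not_mem {N : Subgroup G} {x : G} (h : x ∉ N) : ind N x = 0 := by simp [ind, h]

omit [Fintype G] in
theorem ind_isClassFunction (N : Subgroup G) [N.Normal] : IsClassFunction G (ind N) := by
  intro g h
  have hiff : h * g * h⁻¹ ∈ N ↔ g ∈ N := Subgroup.Normal.mem_comm_iff inferInstance |>.trans (by
    rw [inv_mul_cancel_left])
  by_cases hg : g ∈ N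
  · rw [ind_of_mem hg, ind_of_mem (hiff.mpr hg)]
  · rw [ind_of_not_mem hg, ind_of_not_mem (fun h' => hg (hiff.mp h'))]

omit [Fintype G] in
theorem ind_mul_right (N : Subgroup G) {x : G} (hx : x ∈ N) (y : G) : ind N (y * x) = ind N y := by
  have hiff : y * x ∈ N ↔ y ∈ N := N.mul_mem_cancel_right hx
  by_cases hg : y ∈ N
  · rw [ind_of_mem hg, ind_of_mem (hiff.mpr hg)]
  · rw [ind_of_not_mem hg, ind_of_not_mem (fun h' => hg (hiff.mp h'))]

theorem sum_ind (N : Subgroup G) : ∑ x : G, ind N x = (Nat.card N : ℂ) := by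
  classical
  unfold ind
  rw [Finset.sum_ite, Finset.sum_const, Finset.sum_const_zero, add_zero, nsmul_eq_mul, mul_one,
    Nat.card_eq_fintype_card, Fintype.card_subtype]

theorem sum_ind_mul (N : Subgroup G) [Fintype N] (f : G → ℂ) :
    ∑ x : G, ind N x * f x = ∑ n : N, f n := by
  classical
  unfold ind
  simp only [ite_mul, one_mul, zero_mul]
  rw [← Finset.sum_filter]
  exact Finset.sum_subtype (Finset.univ.filter (fun g => g ∈ N)) (by simp) f

/-- average over the coset `N g` -/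
noncomputable def avg (N : Subgroup G) (φ : G → ℂ) : G → ℂ :=
  fun g => (Nat.card N : ℂ)⁻¹ * ∑ x : G, ind N x * φ (x * g)

theorem card_ne_zero' (N : Subgroup G) : (Nat.card N : ℂ) ≠ 0 := by
  exact_mod_cast (Nat.card_pos (α := N)).ne'

theorem avg_mul_left (N : Subgroup G) (φ : G → ℂ) {x : G} (hx : x ∈ N) (g : G) :
    avg N φ (x * g) = avg N φ g := by
  unfold avg
  congr 1
  refine Fintype.sum_equiv (Equiv.mulRight x) _ _ ?_
  intro y
  simp only [Equiv.coe_mulRight, ind_mul_right N hx, mul_assoc]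

theorem avg_avg (N : Subgroup G) (φ : G → ℂ) : avg N (avg N φ) = avg N φ := by
  funext g
  show (Nat.card N : ℂ)⁻¹ * ∑ x : G, ind N x * avg N φ (x * g) = avg N φ g
  have : ∀ x : G, ind N x * avg N φ (x * g) = ind N x * avg N φ g := by
    intro x
    by_cases hx : x ∈ N
    · rw [avg_mul_left N φ hx]
    · rw [ind_of_not_mem hx, zero_mul, zero_mul]
  rw [Finset.sum_congr rfl (fun x _ => this x)]
  rw [← Finset.sum_mul, sum_ind, inv_mul_cancel_left₀ (card_ne_zero' N)]

theorem avg_smul (N : Subgroup G) (c : ℂ) (φ : G → ℂ) : avg N (c • φ) = c • avg N φ := by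
  funext g
  simp only [avg, Pi.smul_apply, smul_eq_mul, Finset.mul_sum]
  refine Finset.sum_congr rfl fun x _ => ?_
  ring

theorem avg_sum (N : Subgroup G) {ι : Type*} (s : Finset ι) (φ : ι → G → ℂ) :
    avg N (∑ i ∈ s, φ i) = ∑ i ∈ s, avg N (φ i) := by
  funext g
  simp only [avg, Finset.sum_apply, Finset.mul_sum]
  rw [Finset.sum_comm]

theorem avg_irr (N : Subgroup G) [N.Normal] {ψ : G → ℂ} (hψ : IsIrrCharacter G ψ) :
    avg N ψ = ψ ∨ avg N ψ = 0 := by
  have h1 : ψ 1 ≠ 0 := Helper83Char.irr_one_ne_zero hψ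
  set c : ℂ := (Nat.card N : ℂ)⁻¹ * ((∑ x : G, ind N x * ψ x) / ψ 1) with hc
  have hav : avg N ψ = c • ψ := by
    funext g
    simp only [avg, Pi.smul_apply, smul_eq_mul]
    rw [Helper83Char.irr_key hψ (ind N) (ind_isClassFunction N) g, hc]
    ring
  have hidem := avg_avg N ψ
  rw [hav, avg_smul, hav] at hidem
  have h2 := congrFun hidem 1
  simp only [Pi.smul_apply, smul_eq_mul] at h2
  have h3 : c * (c - 1) = 0 := by
    have : (c * (c - 1)) * ψ 1 = 0 := by linear_combination h2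
    exact (mul_eq_zero.mp this).resolve_right h1
  rcases mul_eq_zero.mp h3 with h | h
  · right; rw [hav, h, zero_smul]
  · left; rw [hav, sub_eq_zero.mp h, one_smul]

/-- the coset average of a character over a normal subgroup is a character. -/
theorem avg_isCharacter (N : Subgroup G) [N.Normal] {φ : G → ℂ} (hφ : IsCharacter G φ) :
    IsCharacter G (avg N φ) := by
  obtain ⟨m, hm, -⟩ := IsCharacter.eq_sum_nat hφ
  rw [hm, avg_sum]
  apply IsCharacter.sum
  intro χ _
  rw [avg_smul]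
  rcases avg_irr N χ.2 with h | h
  · rw [h]; exact IsCharacter.natCast_smul _ (IsIrrCharacter.isCharacter χ.2)
  · rw [h, smul_zero]; exact IsCharacter.zero

/-- `cosetNorm N χ g = |N|⁻¹ ∑_{n ∈ N} |χ (n g)|²`. -/
noncomputable def cosetNorm (N : Subgroup G) (χ : G → ℂ) : G → ℂ :=
  avg N (fun g => χ g * conj (χ g))

theorem cosetNorm_isCharacter (N : Subgroup G) [N.Normal] {χ : G → ℂ} (hχ : IsCharacter G χ) :
    IsCharacter G (cosetNorm N χ) :=
  avg_isCharacter N (IsCharacter.mul hχ (IsCharacter.conj hχ))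

theorem cosetNorm_eq (N : Subgroup G) [Fintype N] (χ : G → ℂ) (g : G) :
    cosetNorm N χ g = (((Nat.card N : ℝ)⁻¹ * ∑ n : N, ‖χ (n * g)‖ ^ 2 : ℝ) : ℂ) := by
  unfold cosetNorm avg
  rw [sum_ind_mul N (fun x => χ (x * g) * conj (χ (x * g)))]
  push_cast
  congr 1
  refine Finset.sum_congr rfl fun n _ => ?_
  rw [Complex.mul_conj, Complex.normSq_eq_norm_sq]
  push_cast; rfl

theorem cosetNorm_eq_zero_iff (N : Subgroup G) (χ : G → ℂ) (g : G) :
    cosetNorm N χ g = 0 ↔ ∀ n : N, χ (n * g) = 0 := by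
  classical
  have := Fintype.ofFinite N
  rw [cosetNorm_eq]
  have hN : (0 : ℝ) < (Nat.card N : ℝ) := by exact_mod_cast Nat.card_pos
  rw [Complex.ofReal_eq_zero, mul_eq_zero, or_iff_right (inv_ne_zero hN.ne'),
    Finset.sum_eq_zero_iff_of_nonneg (fun _ _ => by positivity)]
  simp

theorem norm_cosetNorm (N : Subgroup G) [Fintype N] (χ : G → ℂ) (g : G) :
    ‖cosetNorm N χ g‖ = (Nat.card N : ℝ)⁻¹ * ∑ n : N, ‖χ (n * g)‖ ^ 2 := by
  rw [cosetNorm_eq, Complex.norm_real, Real.norm_of_nonneg (by positivity)]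

theorem sum_norm_cosetNorm (N : Subgroup G) {χ : G → ℂ} (hχ : IsIrrCharacter G χ) :
    ∑ g : G, ‖cosetNorm N χ g‖ = (Nat.card G : ℝ) := by
  classical
  have := Fintype.ofFinite N
  simp only [norm_cosetNorm]
  rw [← Finset.mul_sum, Finset.sum_comm]
  have : ∀ n : N, ∑ g : G, ‖χ (n * g)‖ ^ 2 = (Nat.card G : ℝ) := by
    intro n
    rw [← Helper79Zeros.sum_normSq hχ]
    exact Fintype.sum_equiv (Equiv.mulLeft (n : G)) _ _ (fun g => rfl)
  simp only [this, Finset.sum_const, Finset.card_univ, nsmul_eq_mul]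
  rw [← Nat.card_eq_fintype_card]
  have hN : (Nat.card N : ℝ) ≠ 0 := by exact_mod_cast (Nat.card_pos (α := N)).ne'
  field_simp

theorem cosetNorm_one (N : Subgroup G) [Fintype N] (χ : G → ℂ) :
    cosetNorm N χ 1 = classInner (fun n : N => χ n) (fun n : N => χ n) := by
  unfold cosetNorm avg classInner
  rw [sum_ind_mul N (fun x => χ (x * 1) * conj (χ (x * 1)))]
  simp only [mul_one]

end Cfsg.Agent.Lib.Helper79Coset
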