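import Mathlib
import Cfsg.Prelude.Def_Blocks
import Cfsg.Agent.Lib.Helper81Block
import Cfsg.Agent.Lib.Helper82Schur
import Cfsg.Agent.Lib.Helper4Equiv
import Cfsg.Agent.Lib.Helper4Char3
import Cfsg.Agent.Lib.Helper82Linear

/-!
# Functions on `G` invariant under a normal subgroup `N`, and characters restricting irreducibly
-/

set_option autoImplicit false
set_option linter.unusedSectionVars false

namespace Cfsg.Agent.Lib.Helper79Graded

open Cfsg Cfsg.Agent.Lib.Helper81Local Cfsg.Agent.Lib.Helper81Base Cfsg.Agent.Lib.Helper81Block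

variable {G N : Type*} [Group G] [Group N] [Fintype G] [Fintype N] (ι : N →* G)

/-- invariance under conjugation by the image of `ι`. -/
def Inv (a : G → ℂ) : Prop := ∀ (n : N) (x : G), a (ι n * x * (ι n)⁻¹) = a x

/-- A representation whose character is an irreducible character is irreducible. -/
theorem isIrreducible_of_char' {D : Type*} [Group D] [Finite D] {V : Type*} [AddCommGroup V]
    [Module ℂ V] [FiniteDimensional ℂ V] (τ : Representation ℂ D V)
    (h : Cfsg.IsIrrCharacter D τ.character) : τ.IsIrreducible := by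
  obtain ⟨m, τ', hτ', hchar⟩ := h
  obtain ⟨E⟩ := Cfsg.Agent.Lib.Helper4Equiv.equiv_of_char_eq τ' τ hchar
  exact Cfsg.Agent.Lib.Helper4Char.isIrreducible_of_equiv E hτ'

/-- an invariant element of the group algebra acts as a scalar. -/
theorem exists_scalar (χ : IrrCharacter G) (hres : IsIrrCharacter N (fun n => (χ : G → ℂ) (ι n)))
    {a : G → ℂ} (ha : Inv ι a) :
    ∃ (d : ℕ) (ρ : Representation ℂ G (Fin d → ℂ)), ρ.IsIrreducible ∧ ρ.character = (χ : G → ℂ) ∧
      ∑ x, a x • ρ x = om a χ • LinearMap.id := by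
  obtain ⟨d, ρ, hirr, hρ⟩ := χ.2
  refine ⟨d, ρ, hirr, hρ, ?_⟩
  have hτ : Representation.IsIrreducible (k := ℂ) (G := N) (ρ.comp ι) := by
    apply isIrreducible_of_char'
    have : Representation.character (k := ℂ) (G := N) (ρ.comp ι)
        = fun n => (χ : G → ℂ) (ι n) := by
      funext n
      rw [← hρ]
      rfl
    rw [this]
    exact hres
  obtain ⟨c, hc⟩ := Cfsg.Agent.Lib.Helper82Schur.schur_scalar
    (ρ.comp ι : Representation ℂ N (Fin d → ℂ)) (∑ x, a x • ρ x) (by
    intro n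
    change (∑ x, a x • ρ x) ∘ₗ ρ (ι n) = ρ (ι n) ∘ₗ (∑ x, a x • ρ x)
    rw [← Module.End.mul_eq_comp, ← Module.End.mul_eq_comp, Finset.sum_mul, Finset.mul_sum]
    rw [← Equiv.sum_comp (MulAut.conj (ι n)).toEquiv]
    apply Finset.sum_congr rfl
    intro x _
    have e1 : (MulAut.conj (ι n)).toEquiv x = ι n * x * (ι n)⁻¹ := by simp [MulAut.conj_apply]
    rw [e1, ha, smul_mul_assoc, mul_smul_comm, ← map_mul, ← map_mul]
    congr 2
    group)
  rw [hc]
  congr 1
  have hne : (χ : G → ℂ) 1 ≠ 0 := irr_one_ne_zero χ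
  have h1 := congrArg (LinearMap.trace ℂ (Fin d → ℂ)) hc
  rw [map_sum] at h1
  simp only [map_smul, smul_eq_mul] at h1
  have h2 : LinearMap.trace ℂ (Fin d → ℂ) LinearMap.id = (χ : G → ℂ) 1 := by
    rw [← hρ, Representation.character, map_one]
    rfl
  rw [h2] at h1
  unfold om
  rw [← Finset.sum_div, eq_div_iff hne, ← h1]
  apply Finset.sum_congr rfl
  intro x _
  rw [← hρ]
  rfl

theorem sum_inv_mul (χ : IrrCharacter G) (hres : IsIrrCharacter N (fun n => (χ : G → ℂ) (ι n)))
    {a : G → ℂ} (ha : Inv ι a) (y : G) :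
    ∑ h, a h * (χ : G → ℂ) (h * y) = om a χ * (χ : G → ℂ) y := by
  obtain ⟨d, ρ, hirr, hρ, hc⟩ := exists_scalar ι χ hres ha
  have := congrArg (fun T : Module.End ℂ (Fin d → ℂ) => LinearMap.trace ℂ (Fin d → ℂ) (T * ρ y)) hc
  simp only [Finset.sum_mul, map_sum, smul_mul_assoc, map_smul, smul_eq_mul] at this
  have e : ∀ h, LinearMap.trace ℂ (Fin d → ℂ) (ρ h * ρ y) = (χ : G → ℂ) (h * y) := by
    intro h
    rw [← hρ, Representation.character, ρ.map_mul]
  simp only [e] at this
  rw [this, ← hρ]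
  rfl

theorem om_isIntegral (χ : IrrCharacter G)
    (hres : IsIrrCharacter N (fun n => (χ : G → ℂ) (ι n)))
    {a : G → ℂ} (ha : Inv ι a) (z : G → ℤ) (hz : ∀ x, a x = z x) : IsIntegral ℤ (om a χ) := by
  obtain ⟨d, ρ, hirr, hρ, hc⟩ := exists_scalar ι χ hres ha
  have := Cfsg.Agent.Lib.Helper82Schur.nontrivial_of_irreducible ρ
  apply Cfsg.Agent.Lib.Helper4Char3.isIntegral_of_int_comb ρ z
  rw [← hc]
  apply Finset.sum_congr rfl
  intro x _
  rw [hz]

theorem om_conv' (χ : IrrCharacter G) (hres : IsIrrCharacter N (fun n => (χ : G → ℂ) (ι n)))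
    {α : G → ℂ} (hα : Inv ι α) (β : G → ℂ) :
    om (conv α β) χ = om α χ * om β χ := by
  have hom : om α χ = ∑ g, α g * (χ : G → ℂ) g / (χ : G → ℂ) 1 := rfl
  unfold om conv
  have h1 : ∀ g, (∑ h, α h * β (h⁻¹ * g)) * (χ : G → ℂ) g / (χ : G → ℂ) 1
      = ∑ h, α h * β (h⁻¹ * g) * (χ : G → ℂ) g / (χ : G → ℂ) 1 := by
    intro g
    rw [Finset.sum_mul, Finset.sum_div]
  rw [Finset.sum_congr rfl fun g _ => h1 g, Finset.sum_comm]
  have h2 : ∀ h, ∑ g, α h * β (h⁻¹ * g) * (χ : G → ℂ) g / (χ : G → ℂ) 1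
      = ∑ k, α h * β k * (χ : G → ℂ) (h * k) / (χ : G → ℂ) 1 := by
    intro h
    apply Fintype.sum_equiv (Equiv.mulLeft h⁻¹)
    intro g
    simp
  rw [Finset.sum_congr rfl fun g _ => h2 g, Finset.sum_comm]
  have h3 : ∀ k, ∑ h, α h * β k * (χ : G → ℂ) (h * k) / (χ : G → ℂ) 1
      = (∑ h, α h * (χ : G → ℂ) h / (χ : G → ℂ) 1) * (β k * (χ : G → ℂ) k / (χ : G → ℂ) 1) := by
    intro k
    have := sum_inv_mul ι χ hres hα k
    calc ∑ h, α h * β k * (χ : G → ℂ) (h * k) / (χ : G → ℂ) 1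
        = β k / (χ : G → ℂ) 1 * ∑ h, α h * (χ : G → ℂ) (h * k) := by
          rw [Finset.mul_sum]
          apply Finset.sum_congr rfl
          intro h _
          ring
      _ = _ := by
          rw [this, hom]
          ring
  rw [Finset.sum_congr rfl fun g _ => h3 g, ← Finset.mul_sum]

/-- the size of the `N`-orbit of `y`. -/
noncomputable def kk (y : G) : ℕ := ((Subgroup.centralizer ({y} : Set G)).comap ι).index

open Classical in
/-- the indicator function of the `N`-orbit of `y`. -/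
noncomputable def orb (y : G) : G → ℂ := fun x => if ∃ n : N, ι n * y * (ι n)⁻¹ = x then 1 else 0

theorem card_orb (y : G) : Nat.card {x : G // ∃ n : N, ι n * y * (ι n)⁻¹ = x} = kk ι y := by
  let _ : MulAction N G := MulAction.compHom G (MulAut.conj.comp ι)
  have hsm : ∀ (n : N) (x : G), n • x = ι n * x * (ι n)⁻¹ := fun _ _ => rfl
  have h1 := MulAction.index_stabilizer (G := N) (x := y)
  have h2 : MulAction.stabilizer N y = (Subgroup.centralizer ({y} : Set G)).comap ι := by
    ext n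
    rw [MulAction.mem_stabilizer_iff, hsm, Subgroup.mem_comap, Subgroup.mem_centralizer_singleton_iff,
      mul_inv_eq_iff_eq_mul]
  rw [h2] at h1
  unfold kk
  rw [h1, ← Nat.card_coe_set_eq]
  rfl

theorem kk_pos (y : G) : 0 < kk ι y := by
  unfold kk
  exact Nat.pos_of_ne_zero Subgroup.index_ne_zero_of_finite

theorem sum_orb_mul (y : G) {f : G → ℂ} (hf : Inv ι f) :
    ∑ x, orb ι y x * f x = (kk ι y : ℂ) * f y := by
  classical
  have h1 : ∀ x, orb ι y x * f x = if ∃ n : N, ι n * y * (ι n)⁻¹ = x then f y else 0 := by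
    intro x
    unfold orb
    split_ifs with h
    · obtain ⟨n, rfl⟩ := h
      rw [one_mul, hf]
    · rw [zero_mul]
  rw [Finset.sum_congr rfl fun x _ => h1 x, ← Finset.sum_filter, Finset.sum_const, nsmul_eq_mul,
    ← card_orb, Nat.card_eq_fintype_card, Fintype.card_subtype]

theorem orb_inv (y : G) : Inv ι (orb ι y) := by
  classical
  intro n x
  unfold orb
  have : (∃ m : N, ι m * y * (ι m)⁻¹ = ι n * x * (ι n)⁻¹) ↔ ∃ m : N, ι m * y * (ι m)⁻¹ = x := by
    constructor
    · rintro ⟨m, hm⟩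
      refine ⟨n⁻¹ * m, ?_⟩
      rw [map_mul, map_inv, mul_inv_rev, inv_inv]
      calc (ι n)⁻¹ * ι m * y * ((ι m)⁻¹ * ι n) = (ι n)⁻¹ * (ι m * y * (ι m)⁻¹) * ι n := by group
        _ = x := by rw [hm]; group
    · rintro ⟨m, rfl⟩
      refine ⟨n * m, ?_⟩
      rw [map_mul]
      group
  rw [if_congr this rfl rfl]

/-- the augmentation. -/
noncomputable def eps (a : G → ℂ) : ℂ := ∑ x, a x

theorem eps_orb (y : G) : eps (orb ι y) = (kk ι y : ℂ) := by
  have := sum_orb_mul ι y (f := fun _ => 1) (fun _ _ => rfl)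
  simpa [eps] using this

theorem om_orb (χ : IrrCharacter G) (y : G) :
    om (orb ι y) χ = (kk ι y : ℂ) * ((χ : G → ℂ) y / (χ : G → ℂ) 1) := by
  have := sum_orb_mul ι y (f := fun x => (χ : G → ℂ) x / (χ : G → ℂ) 1) (fun n x => by
    beta_reduce
    rw [irr_conj])
  rw [← this]
  unfold om
  apply Finset.sum_congr rfl
  intro x _
  ring

theorem eps_conv (a b : G → ℂ) : eps (conv a b) = eps a * eps b := by
  unfold eps conv
  rw [Finset.sum_comm, Finset.sum_mul]
  apply Finset.sum_congr rfl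
  intro h _
  rw [← Finset.mul_sum]
  congr 1
  exact Fintype.sum_equiv (Equiv.mulLeft h⁻¹) _ _ (fun g => rfl)

/-- integer valued invariant functions supported on the coset of `g`. -/
structure IsGr (a : G → ℂ) (g : G) : Prop where
  inv : Inv ι a
  int : ∃ z : G → ℤ, ∀ x, a x = z x
  supp : ∀ x, a x ≠ 0 → ∃ n : N, x = g * ι n

theorem IsGr.congr {a : G → ℂ} {g g' : G} (h : IsGr ι a g) (m : N) (hg : g' = g * ι m) :
    IsGr ι a g' := by
  refine ⟨h.inv, h.int, fun x hx => ?_⟩
  obtain ⟨n, rfl⟩ := h.supp x hx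
  refine ⟨m⁻¹ * n, ?_⟩
  rw [hg, map_mul, map_inv]
  group

section normal

variable (c : G →* MulAut N) (hc : ∀ (g : G) (n : N), ι (c g n) = g * ι n * g⁻¹)

include hc

theorem isGr_orb (y : G) : IsGr ι (orb ι y) y := by
  classical
  refine ⟨orb_inv ι y, ⟨fun x => if ∃ n : N, ι n * y * (ι n)⁻¹ = x then 1 else 0, fun x => ?_⟩,
    fun x hx => ?_⟩
  · unfold orb
    by_cases h : ∃ n : N, ι n * y * (ι n)⁻¹ = x
    · beta_reduce
      rw [if_pos h, if_pos h]; simp
    · beta_reduce
      rw [if_neg h, if_neg h]; simp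
  · unfold orb at hx
    split_ifs at hx with h
    · obtain ⟨n, rfl⟩ := h
      refine ⟨c y⁻¹ n * n⁻¹, ?_⟩
      rw [map_mul, hc, map_inv]
      group
    · exact absurd rfl hx

theorem IsGr.conv {a b : G → ℂ} {g h : G} (ha : IsGr ι a g) (hb : IsGr ι b h) :
    IsGr ι (conv a b) (g * h) := by
  refine ⟨?_, ?_, ?_⟩
  · intro n x
    unfold Helper81Block.conv
    symm
    apply Fintype.sum_equiv (MulAut.conj (ι n)).toEquiv
    intro k
    have e1 : (MulAut.conj (ι n)).toEquiv k = ι n * k * (ι n)⁻¹ := by simp [MulAut.conj_apply]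
    rw [e1, ha.inv]
    congr 1
    have : (ι n * k * (ι n)⁻¹)⁻¹ * (ι n * x * (ι n)⁻¹) = ι n * (k⁻¹ * x) * (ι n)⁻¹ := by group
    rw [this, hb.inv]
  · obtain ⟨za, hza⟩ := ha.int
    obtain ⟨zb, hzb⟩ := hb.int
    refine ⟨fun x => ∑ k, za k * zb (k⁻¹ * x), fun x => ?_⟩
    unfold Helper81Block.conv
    push_cast
    apply Finset.sum_congr rfl
    intro k _
    rw [hza, hzb]
  · intro x hx
    unfold Helper81Block.conv at hx
    obtain ⟨k, -, hk⟩ := Finset.exists_ne_zero_of_sum_ne_zero hx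
    obtain ⟨n, hn⟩ := ha.supp k (left_ne_zero_of_mul hk)
    obtain ⟨m, hm⟩ := hb.supp _ (right_ne_zero_of_mul hk)
    refine ⟨c h⁻¹ n * m, ?_⟩
    rw [map_mul, hc]
    have : x = k * (k⁻¹ * x) := by group
    rw [this, hm, hn]
    group

end normal

section congruence

variable {M : Ideal AlgInt} [M.IsPrime] (hι : Function.Injective ι)
  (c : G →* MulAut N) (hc : ∀ (g : G) (n : N), ι (c g n) = g * ι n * g⁻¹)

include hι hc

/-- the key congruence. -/
theorem om_mul_congr (χ : IrrCharacter G) (θ : IrrCharacter N) (hθ : θ ∈ principalBlock M N)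
    (hres : ∀ n, (χ : G → ℂ) (ι n) = (θ : N → ℂ) n) {a b : G → ℂ} {g h : G}
    (ha : IsGr ι a g) (hb : IsGr ι b h) (m : N) (hgh : g * h = ι m) :
    MemLocalIdeal M (om a χ * om b χ - eps a * eps b) := by
  have hres' : IsIrrCharacter N (fun n => (χ : G → ℂ) (ι n)) := by
    have : (fun n => (χ : G → ℂ) (ι n)) = (θ : N → ℂ) := funext hres
    rw [this]
    exact θ.2
  rw [← om_conv' ι χ hres' ha.inv, ← eps_conv]
  have hf := IsGr.conv ι c hc ha hb
  set f := conv a b with hfdef
  set F : N → ℂ := fun w => f (ι w) with hF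
  have hcl : IsClassFunction N F := by
    intro w k
    simp only [hF]
    rw [map_mul, map_mul, map_inv, hf.inv]
  have hloc : ∀ w, MemLocalRing M (F w) := by
    intro w
    obtain ⟨z, hz⟩ := hf.int
    simp only [hF]
    rw [hz]
    exact memLocalRing_intCast _
  have hsupp : ∀ x, x ∉ Set.range ι → f x = 0 := by
    intro x hx
    by_contra hne
    obtain ⟨n, hn⟩ := hf.supp x hne
    apply hx
    refine ⟨m * n, ?_⟩
    rw [map_mul, ← hgh, hn]
  have h1 : om f χ = om F θ := by
    unfold om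
    symm
    apply Fintype.sum_of_injective ι hι
    · intro x hx
      rw [hsupp x hx, zero_mul, zero_div]
    · intro w
      rw [← hres, ← hres, map_one]
  have h2 : eps f = om F (Cfsg.Agent.Lib.Helper82Linear.irrOne N) := by
    unfold om eps
    symm
    apply Fintype.sum_of_injective ι hι
    · intro x hx
      exact hsupp x hx
    · intro w
      simp [Cfsg.Agent.Lib.Helper82Linear.irrOne, hF]
  rw [h1, h2]
  have := om_congr (M := M) hcl hloc (χ := Cfsg.Agent.Lib.Helper82Linear.irrOne N) (ψ := θ) hθ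
  have h3 := memLocalIdeal_neg this
  rwa [neg_sub] at h3

end congruence

end Cfsg.Agent.Lib.Helper79Graded
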