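import Mathlib
import Cfsg.Prelude.Def_Blocks
import Cfsg.Agent.Lib.Helper79Graded
import Cfsg.Agent.Lib.Helper79Teich
import Cfsg.Agent.Lib.Helper19Det

/-!
# Twisting an extension of a principal block character into the principal block
-/

set_option autoImplicit false
set_option linter.unusedSectionVars false

namespace Cfsg.Agent.Lib.Helper79Graded2

open Cfsg Cfsg.Agent.Lib.Helper81Local Cfsg.Agent.Lib.Helper81Base Cfsg.Agent.Lib.Helper81Block
open Cfsg.Agent.Lib.Helper79Graded Cfsg.Agent.Lib.Helper79Teich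

variable {M : Ideal AlgInt} {p : ℕ}

theorem cancel_nat (hM : IsPModular p M) {k : ℕ} (hk : ¬ p ∣ k) {x : ℂ}
    (h : MemLocalIdeal M ((k : ℂ) * x)) : MemLocalIdeal M x := by
  have := hM.2.1.isPrime
  have h1 : MemLocalRing M ((k : ℂ)⁻¹) := memLocalRing_inv (memLocalRing_natCast k)
    (by rw [memLocalIdeal_natCast_iff hM]; exact hk)
  have hk0 : (k : ℂ) ≠ 0 := by
    intro h0
    apply hk
    have : k = 0 := by exact_mod_cast h0
    rw [this]
    exact dvd_zero p
  have := memLocalIdeal_mul h1 h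
  rwa [← mul_assoc, inv_mul_cancel₀ hk0, one_mul] at this

variable {G N : Type*} [Group G] [Group N] [Fintype G] [Fintype N] (ι : N →* G)

theorem eps_local [M.IsPrime] {a : G → ℂ} {g : G} (ha : IsGr ι a g) : MemLocalRing M (eps a) := by
  obtain ⟨z, hz⟩ := ha.int
  unfold eps
  apply memLocalRing_sum
  intro x _
  rw [hz]
  exact memLocalRing_intCast _

section twist

variable (hM : IsPModular p M) (hι : Function.Injective ι)
  (c : G →* MulAut N) (hc : ∀ (g : G) (n : N), ι (c g n) = g * ι n * g⁻¹)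
  (χ : IrrCharacter G) (θ : IrrCharacter N) (hθ : θ ∈ principalBlock M N)
  (hres : ∀ n, (χ : G → ℂ) (ι n) = (θ : N → ℂ) n)
  (hgood : ∀ g : G, ∃ (d : G) (n : N), d = g * ι n ∧ ¬ p ∣ kk ι d)

include hres in
theorem res_irr : IsIrrCharacter N (fun n => (χ : G → ℂ) (ι n)) := by
  have : (fun n => (χ : G → ℂ) (ι n)) = (θ : N → ℂ) := funext hres
  rw [this]
  exact θ.2

include hres in
theorem om_local [M.IsPrime] {a : G → ℂ} {g : G} (ha : IsGr ι a g) : MemLocalRing M (om a χ) := by
  obtain ⟨z, hz⟩ := ha.int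
  exact memLocalRing_of_isIntegral (om_isIntegral ι χ (res_irr ι χ θ hres) ha.inv z hz)

include hM hι hc hθ hres hgood in
theorem om_orb_unit {d : G} (hd : ¬ p ∣ kk ι d) : ¬ MemLocalIdeal M (om (orb ι d) χ) := by
  have := hM.2.1.isPrime
  intro hmem
  obtain ⟨d', n, hd', hk'⟩ := hgood d⁻¹
  have h1 := om_mul_congr (M := M) ι hι c hc χ θ hθ hres (isGr_orb ι c hc d) (isGr_orb ι c hc d') n
    (by rw [hd']; group)
  have h2 := memLocalIdeal_mul_right hmem (om_local (M := M) ι χ θ hres (isGr_orb ι c hc d'))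
  have h3 := memLocalIdeal_sub h2 h1
  rw [sub_sub_cancel, eps_orb, eps_orb, ← Nat.cast_mul, memLocalIdeal_natCast_iff hM] at h3
  rcases (Nat.Prime.dvd_mul hM.1).mp h3 with h | h
  · exact hd h
  · exact hk' h

include hM hι hc hθ hres hgood in
theorem om_congr_orb {a : G → ℂ} {g d : G} (ha : IsGr ι a g) (n : N) (hdg : d = g * ι n) :
    MemLocalIdeal M (om a χ * (kk ι d : ℂ) - om (orb ι d) χ * eps a) := by
  have := hM.2.1.isPrime
  obtain ⟨d', n', hd', hk'⟩ := hgood g⁻¹
  have h1 := om_mul_congr (M := M) ι hι c hc χ θ hθ hres ha (isGr_orb ι c hc d') n'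
    (by rw [hd']; group)
  have h2 := om_mul_congr (M := M) ι hι c hc χ θ hθ hres (isGr_orb ι c hc d) (isGr_orb ι c hc d')
    (c g n * n') (by rw [hd', hdg, map_mul, hc]; group)
  rw [eps_orb] at h1
  rw [eps_orb, eps_orb] at h2
  have h3 := memLocalIdeal_sub (memLocalIdeal_mul (memLocalRing_natCast (M := M) (kk ι d)) h1)
    (memLocalIdeal_mul (eps_local (M := M) ι ha) h2)
  have h4 : MemLocalIdeal M ((om a χ * (kk ι d : ℂ) - om (orb ι d) χ * eps a)
      * om (orb ι d') χ) := by
    convert h3 using 1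
    ring
  rcases memLocalIdeal_or_of_mul
    (memLocalRing_sub (memLocalRing_mul (om_local (M := M) ι χ θ hres ha) (memLocalRing_natCast _))
      (memLocalRing_mul (om_local (M := M) ι χ θ hres (isGr_orb ι c hc d))
        (eps_local (M := M) ι ha)))
    (om_local (M := M) ι χ θ hres (isGr_orb ι c hc d')) h4 with h | h
  · exact h
  · exact absurd h (om_orb_unit ι hM hι c hc χ θ hθ hres hgood hk')

include hM hι hc hθ hres hgood in
/-- **Twisting into the principal block.** -/
theorem exists_twist :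
    ∃ χ' : IrrCharacter G, (∀ n, (χ' : G → ℂ) (ι n) = (θ : N → ℂ) n) ∧
      ∀ y : G, MemLocalIdeal M ((kk ι y : ℂ) * ((χ' : G → ℂ) y / (χ' : G → ℂ) 1 - 1)) := by
  have := hM.2.1.isPrime
  choose d nd hd hk using hgood
  have hgood' : ∀ g : G, ∃ (d : G) (n : N), d = g * ι n ∧ ¬ p ∣ kk ι d :=
    fun g => ⟨d g, nd g, hd g, hk g⟩
  set u : G → ℂ := fun g => (χ : G → ℂ) (d g) / (χ : G → ℂ) 1 with hu
  have hkinv : ∀ g, MemLocalRing M ((kk ι (d g) : ℂ)⁻¹) := fun g =>
    memLocalRing_inv (memLocalRing_natCast _) (by rw [memLocalIdeal_natCast_iff hM]; exact hk g)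
  have hk0 : ∀ g, (kk ι (d g) : ℂ) ≠ 0 := fun g => by
    exact_mod_cast (kk_pos ι (d g)).ne'
  have hu0 : ∀ g, MemLocalRing M (u g) := by
    intro g
    have h1 := om_local (M := M) ι χ θ hres (isGr_orb ι c hc (d g))
    rw [om_orb] at h1
    have := memLocalRing_mul (hkinv g) h1
    rwa [← mul_assoc, inv_mul_cancel₀ (hk0 g), one_mul] at this
  have hu1 : ∀ {a : G → ℂ} {g : G}, IsGr ι a g → MemLocalIdeal M (om a χ - u g * eps a) := by
    intro a g ha
    have h1 := om_congr_orb ι hM hι c hc χ θ hθ hres hgood' ha (nd g) (hd g)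
    rw [om_orb] at h1
    apply cancel_nat hM (hk g)
    convert h1 using 1
    simp only [hu]
    ring
  have hu2 : ∀ g h, MemLocalIdeal M (u (g * h) - u g * u h) := by
    intro g h
    have hgr : IsGr ι (conv (orb ι (d g)) (orb ι (d h))) (g * h) := by
      have h1 := IsGr.conv ι c hc (isGr_orb ι c hc (d g)) (isGr_orb ι c hc (d h))
      apply h1.congr ι ((c h⁻¹ (nd g) * nd h)⁻¹)
      rw [hd g, hd h, map_inv, map_mul, hc]
      group
    have h1 := hu1 hgr
    rw [om_conv' ι χ (res_irr ι χ θ hres) (orb_inv ι _), eps_conv, om_orb, om_orb, eps_orb,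
      eps_orb] at h1
    apply cancel_nat hM (hk g)
    apply cancel_nat hM (hk h)
    have := memLocalIdeal_neg h1
    convert this using 1
    simp only [hu]
    ring
  have hk1 : kk ι (1 : G) = 1 := by
    unfold kk
    have : Subgroup.centralizer ({1} : Set G) = ⊤ := by
      ext x
      simp [Subgroup.mem_centralizer_singleton_iff]
    rw [this, Subgroup.comap_top, Subgroup.index_top]
  have hu3 : ∀ n : N, MemLocalIdeal M (u (ι n) - 1) := by
    intro n
    have hgr : IsGr ι (orb ι (1 : G)) (ι n) := (isGr_orb ι c hc 1).congr ι n (by rw [one_mul])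
    have h1 := hu1 hgr
    rw [om_orb, eps_orb, hk1, div_self (irr_one_ne_zero χ)] at h1
    have := memLocalIdeal_neg h1
    convert this using 1
    push_cast
    ring
  obtain ⟨β, hβ1, hβ2, hβ3⟩ := exists_lift hM u hu0 hu2 (by
    have := hu3 1
    rwa [map_one] at this)
  have hβι : ∀ n, β (ι n) = 1 := fun n => hβ3 _ (hu3 n)
  refine ⟨⟨Cfsg.Agent.Lib.Helper19Lin.homFun β⁻¹ * (χ : G → ℂ),
    Cfsg.Agent.Lib.Helper19Det.isIrr_homFun_mul β⁻¹ χ.2⟩, ?_, ?_⟩
  · intro n
    change ((β⁻¹ (ι n) : ℂˣ) : ℂ) * (χ : G → ℂ) (ι n) = _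
    rw [MonoidHom.inv_apply, hβι, hres]
    simp
  · intro y
    change MemLocalIdeal M ((kk ι y : ℂ) * (((β⁻¹ y : ℂˣ) : ℂ) * (χ : G → ℂ) y /
      (((β⁻¹ 1 : ℂˣ) : ℂ) * (χ : G → ℂ) 1) - 1))
    have h1 := hu1 (isGr_orb ι c hc y)
    rw [om_orb, eps_orb] at h1
    have h2 := memLocalIdeal_mul_right (hβ1 y) (memLocalRing_natCast (M := M) (kk ι y))
    have h3 := memLocalIdeal_sub h1 h2
    have hinv : MemLocalRing M ((β⁻¹ y : ℂˣ) : ℂ) := by
      have : β⁻¹ y = β y⁻¹ := by rw [MonoidHom.inv_apply, map_inv]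
      rw [this]
      exact memLocalRing_of_isIntegral (hβ2 _)
    have h4 := memLocalIdeal_mul hinv h3
    convert h4 using 1
    rw [map_one, Units.val_one, one_mul, MonoidHom.inv_apply, Units.val_inv_eq_inv_val]
    have hb0 : ((β y : ℂˣ) : ℂ) ≠ 0 := Units.ne_zero _
    field_simp
    ring

end twist

theorem relIndex_dvd_index' {J : Type*} [Group J] [Finite J] (C K : Subgroup J) [K.Normal] :
    C.relIndex K ∣ C.index := by
  have h1 : C.relIndex (C ⊔ K) * (C ⊔ K).index = C.index := Subgroup.relIndex_mul_index le_sup_left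
  have h2 : K.relIndex (C ⊔ K) = K.relIndex C := Subgroup.relIndex_sup_right C K
  have h3 : (C ⊓ K).relIndex C * C.relIndex (C ⊔ K) = (C ⊓ K).relIndex (C ⊔ K) :=
    Subgroup.relIndex_mul_relIndex _ _ _ inf_le_left le_sup_left
  have h4 : (C ⊓ K).relIndex K * K.relIndex (C ⊔ K) = (C ⊓ K).relIndex (C ⊔ K) :=
    Subgroup.relIndex_mul_relIndex _ _ _ inf_le_right le_sup_right
  rw [Subgroup.inf_relIndex_left] at h3
  rw [Subgroup.inf_relIndex_right, h2] at h4
  have h5 : K.relIndex C ≠ 0 := Subgroup.index_ne_zero_of_finite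
  have h6 : C.relIndex (C ⊔ K) = C.relIndex K := by
    apply Nat.eq_of_mul_eq_mul_left (Nat.pos_of_ne_zero h5)
    rw [h3, ← h4, mul_comm]
  rw [← h1, h6]
  exact dvd_mul_right _ _

section restrict

variable (hM : IsPModular p M)
  (c : G →* MulAut N) (hc : ∀ (g : G) (n : N), ι (c g n) = g * ι n * g⁻¹)

include hc in
theorem kk_dvd (J : Subgroup G) (hJ : ∀ n, ι n ∈ J) (y : J) :
    kk ι (y : G) ∣ (Subgroup.centralizer ({y} : Set J)).index := by
  set ιJ : N →* J := ι.codRestrict J hJ with hιJ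
  have h1 : (Subgroup.centralizer ({(y : G)} : Set G)).comap ι
      = (Subgroup.centralizer ({y} : Set J)).comap ιJ := by
    ext n
    rw [Subgroup.mem_comap, Subgroup.mem_comap, Subgroup.mem_centralizer_singleton_iff,
      Subgroup.mem_centralizer_singleton_iff, Subtype.ext_iff]
    rfl
  have hn : ιJ.range.Normal := by
    constructor
    rintro _ ⟨n, rfl⟩ g
    refine ⟨c (g : G) n, ?_⟩
    apply Subtype.ext
    change ι (c (g : G) n) = _
    rw [hc]
    rfl
  unfold kk
  rw [h1, Subgroup.index_comap]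
  exact relIndex_dvd_index' _ _

include hM hc in
/-- a character satisfying the orbit congruences restricts into the principal block of every
intermediate subgroup. -/
theorem restrict_mem_principal (χ : IrrCharacter G)
    (hres : IsIrrCharacter N (fun n => (χ : G → ℂ) (ι n)))
    (hcong : ∀ y : G, MemLocalIdeal M ((kk ι y : ℂ) * ((χ : G → ℂ) y / (χ : G → ℂ) 1 - 1)))
    (J : Subgroup G) (hJ : ∀ n, ι n ∈ J) :
    ∃ ξ : IrrCharacter J, ξ ∈ principalBlock M J ∧ ∀ y : J, (ξ : J → ℂ) y = (χ : G → ℂ) y := by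
  have := hM.2.1.isPrime
  obtain ⟨d, ρ, hirr, hρ⟩ := χ.2
  have hτ : Representation.IsIrreducible (k := ℂ) (G := N) (ρ.comp ι) := by
    apply isIrreducible_of_char'
    have : Representation.character (k := ℂ) (G := N) (ρ.comp ι)
        = fun n => (χ : G → ℂ) (ι n) := by
      funext n
      rw [← hρ]
      rfl
    rw [this]
    exact hres
  have hσ : Representation.IsIrreducible (k := ℂ) (G := J) (ρ.comp J.subtype) :=
    Cfsg.Agent.Lib.Helper19Ext2.isIrreducible_of_res (ι.codRestrict J hJ)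
      (ρ.comp ι : Representation ℂ N (Fin d → ℂ)) (ρ.comp J.subtype : Representation ℂ J (Fin d → ℂ))
      (fun n => rfl)
  have hξ : IsIrrCharacter J (fun y : J => (χ : G → ℂ) y) := by
    refine ⟨d, (ρ.comp J.subtype : Representation ℂ J (Fin d → ℂ)), hσ, ?_⟩
    funext y
    rw [← hρ]
    rfl
  refine ⟨⟨_, hξ⟩, ?_, fun y => rfl⟩
  intro y
  obtain ⟨r, hr⟩ := kk_dvd ι c hc J hJ y
  have h1 := memLocalIdeal_mul (memLocalRing_natCast (M := M) r) (hcong (y : G))
  have h2 := memLocalIdeal_neg h1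
  convert h2 using 1
  unfold centralChar
  rw [hr]
  push_cast
  simp only [div_one, mul_one]
  change _ - _ * (χ : G → ℂ) (y : G) / (χ : G → ℂ) ((1 : J) : G) = _
  rw [Subgroup.coe_one]
  ring

end restrict

end Cfsg.Agent.Lib.Helper79Graded2
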