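import Mathlib
import Cfsg.Prelude.Def_Blocks
import Cfsg.Agent.Lib.Helper81Reg
import Cfsg.Agent.Lib.Helper21Cover
import Cfsg.Agent.Lib.Helper20Orbit
import Cfsg.Agent.Lib.Helper87Sylow

set_option autoImplicit false

/-! Height zero characters of a block of a normal subgroup which are stable under a Sylow
subgroup of the stabilizer of the block. -/

namespace Cfsg.Agent.Lib.Helper81Stable

open Cfsg
open Cfsg.Agent.Lib.Helper81Local Cfsg.Agent.Lib.Helper81Base Cfsg.Agent.Lib.Helper81BB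
  Cfsg.Agent.Lib.Helper81Block Cfsg.Agent.Lib.Helper81Orth2 Cfsg.Agent.Lib.Helper81Defect
  Cfsg.Agent.Lib.Helper81Reg
open scoped ComplexConjugate

section unit

variable {G : Type*} [Group G] [Fintype G] {p : ℕ} {M : Ideal AlgInt}

/-- the expansion of `1` used in the proof that `c(χ, χ)` is a unit. -/
theorem one_eq_sum (hp : p.Prime) (M : Ideal AlgInt) [M.IsPrime] (χ : IrrCharacter G) (P : Subgroup G) [Fintype P]
    (hP : IsPGroup p P) (kk : IrrCharacter G → ℕ)
    (hkk : ∀ τ : IrrCharacter G, ∑ u : P, (τ : G → ℂ) u = (Nat.card P : ℂ) * kk τ) :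
    (1 : ℂ) = ∑ τ : IrrCharacter G, ((Nat.card P : ℂ) / (Nat.card G : ℂ)) *
      (((τ : G → ℂ) 1 / (χ : G → ℂ) 1) * (kk τ : ℂ)) * creg p (τ : G → ℂ) (χ : G → ℂ) := by
  classical
  have : Fact p.Prime := ⟨hp⟩
  have hχ1 := irr_one_ne_zero χ
  have hG0 := Cfsg.Agent.Lib.Helper81Base.card_ne_zero (G := G)
  have hL : ∑ u : P, areg p (χ : G → ℂ) (u : G) = (χ : G → ℂ) 1 := by
    rw [Finset.sum_eq_single (1 : P)]
    · have h1 : ¬ p ∣ orderOf (1 : G) := by
        rw [orderOf_one]; exact hp.one_lt.ne' ∘ Nat.dvd_one.mp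
      simp only [areg, Subgroup.coe_one, h1, not_false_eq_true, if_true]
      obtain ⟨n, _, hn⟩ := irr_one χ
      rw [hn, Complex.conj_natCast]
    · intro u _ hu
      have hdvd : p ∣ orderOf (u : G) := by
        obtain ⟨k, hk⟩ := (IsPGroup.iff_orderOf.mp hP) u
        rw [Subgroup.orderOf_coe, hk]
        rcases Nat.eq_zero_or_pos k with rfl | hk0
        · rw [pow_zero, orderOf_eq_one_iff] at hk
          exact absurd hk hu
        · exact dvd_pow_self p hk0.ne'
      simp only [areg]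
      rw [if_neg (not_not.mpr hdvd)]
    · intro h; exact absurd (Finset.mem_univ _) h
  have hR : ∑ u : P, areg p (χ : G → ℂ) (u : G)
      = ∑ τ : IrrCharacter G, (Nat.card G : ℂ)⁻¹ * ((τ : G → ℂ) 1 *
          creg p (τ : G → ℂ) (χ : G → ℂ) * ((Nat.card P : ℂ) * kk τ)) := by
    have h1 : ∀ u : P, areg p (χ : G → ℂ) (u : G)
        = ∑ τ : IrrCharacter G, (Nat.card G : ℂ)⁻¹ * ((τ : G → ℂ) 1 *
          creg p (τ : G → ℂ) (χ : G → ℂ) * conj ((τ : G → ℂ) u)) := by
      intro u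
      rw [Cfsg.Agent.Lib.Helper81Block.inversion (areg_isSC (M := M) χ).1 (u : G), Finset.mul_sum]
      apply Finset.sum_congr rfl
      intro τ _
      rw [om_bridge]
      unfold creg
      ring
    simp only [h1]
    rw [Finset.sum_comm]
    apply Finset.sum_congr rfl
    intro τ _
    rw [← Finset.mul_sum, ← Finset.mul_sum, ← map_sum, hkk]
    simp
  rw [hL] at hR
  have : (1 : ℂ) = (∑ τ : IrrCharacter G, (Nat.card G : ℂ)⁻¹ * ((τ : G → ℂ) 1 *
        creg p (τ : G → ℂ) (χ : G → ℂ) * ((Nat.card P : ℂ) * kk τ)))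
        / (χ : G → ℂ) 1 := by rw [← hR, div_self hχ1]
  rw [this, Finset.sum_div]
  apply Finset.sum_congr rfl
  intro τ _
  field_simp

open scoped Classical in
/-- the weighted number of height zero characters of a block is a unit. -/
theorem unit_sum (hM : IsPModular p M) {b : Set (IrrCharacter G)} (hb : IsPBlock M b)
    {χ : IrrCharacter G} (hχ : χ ∈ b) (h0 : blockHeight p b (χ : G → ℂ) = 0)
    (P : Subgroup G) [Fintype P] (hP : Nat.card P = p ^ (Nat.card G).factorization p)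
    (kk : IrrCharacter G → ℕ)
    (hkk : ∀ τ : IrrCharacter G, ∑ u : P, (τ : G → ℂ) u = (Nat.card P : ℂ) * kk τ) :
    ¬ MemLocalIdeal M (∑ τ : IrrCharacter G,
      if τ ∈ b ∧ blockHeight p b (τ : G → ℂ) = 0 then ((τ : G → ℂ) 1 / (χ : G → ℂ) 1) * (kk τ : ℂ)
      else 0) := by
  intro hS
  have hMp := hM.2.1.isPrime
  have : Fact p.Prime := ⟨hM.1⟩
  have hPp : IsPGroup p P := IsPGroup.of_card hP
  apply not_memLocalIdeal_one (M := M)
  have hu : MemLocalRing M ((Nat.card P : ℂ) / (Nat.card G : ℂ)) := by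
    apply memLocalRing_natDiv hM Nat.card_pos.ne'
    rw [hP, Nat.Prime.factorization_pow hM.1]
    simp
  set c := creg p (χ : G → ℂ) (χ : G → ℂ) with hc
  have hcm : MemLocalRing M c := creg_mem χ χ
  have h1 := one_eq_sum hM.1 M χ P hPp kk hkk
  have h2 : (1 : ℂ) = ((Nat.card P : ℂ) / (Nat.card G : ℂ)) * c * (∑ τ : IrrCharacter G,
      if τ ∈ b ∧ blockHeight p b (τ : G → ℂ) = 0 then ((τ : G → ℂ) 1 / (χ : G → ℂ) 1) * (kk τ : ℂ)
      else 0) + ∑ τ : IrrCharacter G, (((Nat.card P : ℂ) / (Nat.card G : ℂ)) *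
      (((τ : G → ℂ) 1 / (χ : G → ℂ) 1) * (kk τ : ℂ)) * creg p (τ : G → ℂ) (χ : G → ℂ)
      - ((Nat.card P : ℂ) / (Nat.card G : ℂ)) * c *
        (if τ ∈ b ∧ blockHeight p b (τ : G → ℂ) = 0 then
          ((τ : G → ℂ) 1 / (χ : G → ℂ) 1) * (kk τ : ℂ) else 0)) := by
    rw [Finset.sum_sub_distrib, ← h1, ← Finset.mul_sum]
    ring
  rw [h2]
  apply memLocalIdeal_add
  · exact memLocalIdeal_mul (memLocalRing_mul hu hcm) hS
  · apply memLocalIdeal_sum
    intro τ _
    by_cases hτ : τ ∈ b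
    · by_cases hh : blockHeight p b (τ : G → ℂ) = 0
      · rw [if_pos ⟨hτ, hh⟩]
        have h3 := creg_congr (p := p) χ (isPBlock_sameBlock hb hτ hχ)
        have h4 : ((Nat.card P : ℂ) / (Nat.card G : ℂ)) *
            (((τ : G → ℂ) 1 / (χ : G → ℂ) 1) * (kk τ : ℂ)) * creg p (τ : G → ℂ) (χ : G → ℂ)
            - ((Nat.card P : ℂ) / (Nat.card G : ℂ)) * c *
              (((τ : G → ℂ) 1 / (χ : G → ℂ) 1) * (kk τ : ℂ))
            = (((Nat.card P : ℂ) / (Nat.card G : ℂ)) *
            (((τ : G → ℂ) 1 / (χ : G → ℂ) 1) * (kk τ : ℂ))) * (creg p (τ : G → ℂ) (χ : G → ℂ) - c) := by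
          ring
        rw [h4]
        apply memLocalIdeal_mul _ h3
        exact memLocalRing_mul hu (memLocalRing_mul (deg_div_mem hM hτ h0) (memLocalRing_natCast _))
      · rw [if_neg (fun h => hh h.2), mul_zero, sub_zero]
        apply memLocalIdeal_mul_right _ (creg_mem τ χ)
        apply memLocalIdeal_mul hu
        exact memLocalIdeal_mul_right (deg_div_mem_ideal hM h0 hh) (memLocalRing_natCast _)
    · rw [if_neg (fun h => hτ h.1), mul_zero, sub_zero, creg_eq_zero hM, mul_zero]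
      · exact memLocalIdeal_zero
      · intro hs
        exact hτ (isPBlock_mem_of_sameBlock hb hχ (sameBlock_symm hs))

end unit

section stable

variable {G : Type*} [Group G] [Fintype G] {p : ℕ} [Fact p.Prime] {M : Ideal AlgInt}

open Cfsg.Agent.Lib.Helper21Cover Cfsg.Agent.Lib.Helper87Sylow

omit [Fact p.Prime] in
theorem cjI_one_apply (N : Subgroup G) [Fintype N] (hN : N.Normal) (τ : IrrCharacter N) (g : G) :
    (cjI hN τ g : N → ℂ) 1 = (τ : N → ℂ) 1 := by
  rw [cjI_apply]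
  have : (⟨g * ((1 : N) : G) * g⁻¹, hN.conj_mem _ (1 : N).2 g⟩ : N) = 1 :=
    Subtype.ext (by simp)
  rw [this]

omit [Fact p.Prime] in
theorem blockHeight_cjI (N : Subgroup G) [Fintype N] (hN : N.Normal) (b : Set (IrrCharacter N))
    (τ : IrrCharacter N) (g : G) :
    blockHeight p b (cjI hN τ g : N → ℂ) = blockHeight p b (τ : N → ℂ) := by
  rw [blockHeight_def, blockHeight_def]
  unfold charDegree
  rw [cjI_one_apply]

/-- A `p`-subgroup `Q` stabilizing the block `b` of the normal subgroup `N`, with `Q ∩ N` a Sylow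
subgroup of `N`, fixes some height zero character in `b`. -/
theorem exists_height_zero_fixed (hM : IsPModular p M) (N : Subgroup G) [hN : N.Normal] [Fintype N]
    {b : Set (IrrCharacter N)} (hb : IsPBlock M b) (Q : Subgroup G) (hQ : IsPGroup p Q)
    (hQb : ∀ g ∈ Q, ∀ θ ∈ b, cjI hN θ g ∈ b) (hQN : SylIn p (Q ⊓ N) N) :
    ∃ θ ∈ b, blockHeight p b (θ : N → ℂ) = 0 ∧ ∀ g ∈ Q, cjI hN θ g = θ := by
  classical
  have hMp := hM.2.1.isPrime
  obtain ⟨χ, hχ, h0⟩ := exists_height_zero (p := p) (isPBlock_nonempty hb)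
  set P : Subgroup N := (Q ⊓ N).subgroupOf N with hPdef
  have : Fintype P := Fintype.ofFinite _
  have hPc : Nat.card P = p ^ (Nat.card N).factorization p := by
    rw [hPdef, card_subgroupOf_of_le hQN.1]; exact hQN.2
  have hPmem : ∀ x : N, x ∈ P ↔ (x : G) ∈ Q := by
    intro x
    rw [hPdef, Subgroup.mem_subgroupOf, Subgroup.mem_inf]
    exact ⟨fun h => h.1, fun h => ⟨h, x.2⟩⟩
  choose kk hkk using fun τ : IrrCharacter N => sum_subgroup τ P
  have hunit := unit_sum hM hb hχ h0 P hPc kk hkk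
  let _ : MulAction Q (IrrCharacter N) :=
    { smul := fun q θ => cjI hN θ ((q : G)⁻¹)
      one_smul := fun θ => by
        show cjI hN θ (((1 : Q) : G)⁻¹) = θ
        simp [cjI_one]
      mul_smul := fun q q' θ => by
        show cjI hN θ (((q * q' : Q) : G)⁻¹) = cjI hN (cjI hN θ ((q' : G)⁻¹)) ((q : G)⁻¹)
        rw [cjI_cjI]; simp }
  have hsm : ∀ (q : Q) (θ : IrrCharacter N), q • θ = cjI hN θ ((q : G)⁻¹) := fun _ _ => rfl
  have hkkinv : ∀ g ∈ Q, ∀ τ : IrrCharacter N, kk (cjI hN τ g) = kk τ := by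
    intro g hg τ
    have h1 : ∑ u : P, (cjI hN τ g : N → ℂ) u = ∑ u : P, (τ : N → ℂ) u := by
      let e : P ≃ P :=
        { toFun := fun u => ⟨⟨g * (u : N) * g⁻¹, hN.conj_mem _ (u : N).2 g⟩, by
            rw [hPmem]
            exact Q.mul_mem (Q.mul_mem hg ((hPmem _).1 u.2)) (Q.inv_mem hg)⟩
          invFun := fun u => ⟨⟨g⁻¹ * (u : N) * g, by
            have := hN.conj_mem _ (u : N).2 g⁻¹
            simpa using this⟩, by
            rw [hPmem]
            exact Q.mul_mem (Q.mul_mem (Q.inv_mem hg) ((hPmem _).1 u.2)) hg⟩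
          left_inv := fun u => by
            apply Subtype.ext; apply Subtype.ext
            simp only
            group
          right_inv := fun u => by
            apply Subtype.ext; apply Subtype.ext
            simp only
            group }
      apply Fintype.sum_equiv e
      intro u
      rw [cjI_apply]
      rfl
    rw [hkk, hkk] at h1
    have hP0 : (Nat.card P : ℂ) ≠ 0 := by exact_mod_cast Nat.card_pos.ne'
    exact_mod_cast mul_left_cancel₀ hP0 h1
  have hmem : ∀ g ∈ Q, ∀ τ : IrrCharacter N, cjI hN τ g ∈ b ↔ τ ∈ b := by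
    intro g hg τ
    constructor
    · intro h
      have := hQb g⁻¹ (Q.inv_mem hg) _ h
      rwa [cjI_cjI, mul_inv_cancel, cjI_one] at this
    · exact hQb g hg τ
  set W : IrrCharacter N → ℂ := fun τ =>
    if τ ∈ b ∧ blockHeight p b (τ : N → ℂ) = 0 then ((τ : N → ℂ) 1 / (χ : N → ℂ) 1) * (kk τ : ℂ)
    else 0 with hW
  have hinv : ∀ (q : Q) (τ : IrrCharacter N), W (q • τ) = W τ := by
    intro q τ
    have hq : (q : G)⁻¹ ∈ Q := Q.inv_mem q.2
    simp only [hW, hsm, hmem _ hq, blockHeight_cjI, cjI_one_apply, hkkinv _ hq]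
  have hS : ∀ τ, MemLocalRing M (W τ) := by
    intro τ
    simp only [hW]
    split_ifs with h
    · exact memLocalRing_mul (deg_div_mem hM h.1 h0) (memLocalRing_natCast _)
    · exact MemLocalIdeal.memLocalRing memLocalIdeal_zero
  have h1 := Cfsg.Agent.Lib.Helper20Orbit.sum_sub_fixed_mem hM (P := Q) hQ W hinv hS
  by_contra hcon
  push Not at hcon
  apply hunit
  have hEq : (∑ τ : IrrCharacter N, W τ) = ∑ x : IrrCharacter N,
      (if x ∈ MulAction.fixedPoints Q (IrrCharacter N) then 0 else W x) := ?_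
  · show MemLocalIdeal M (∑ τ : IrrCharacter N, W τ)
    rw [hEq]
    convert h1
  apply Finset.sum_congr rfl
  intro τ _
  simp only [hW]
  by_cases hfix : τ ∈ MulAction.fixedPoints Q (IrrCharacter N)
  · rw [if_pos hfix]
    by_cases hτ : τ ∈ b ∧ blockHeight p b (τ : N → ℂ) = 0
    · exfalso
      obtain ⟨g, hg, hne⟩ := hcon τ hτ.1 hτ.2
      apply hne
      have := hfix ⟨g⁻¹, Q.inv_mem hg⟩
      rw [hsm] at this
      simpa using this
    · rw [if_neg hτ]
  · rw [if_neg hfix]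

end stable

end Cfsg.Agent.Lib.Helper81Stable
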