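import Mathlib
import Cfsg.Prelude.Def_Blocks
import Cfsg.Agent.Lib.Helper81Stable
import Cfsg.Agent.Lib.Helper81Reg2
import Cfsg.Agent.Lib.Helper21FR
import Cfsg.Agent.Lib.Helper20IndBlock
import Cfsg.Agent.S0148

set_option autoImplicit false

/-! If the block `B` of `G` covers the block `b` of the normal subgroup `N`, then every member of
`b` lies under a member of `B`. -/

namespace Cfsg.Agent.Lib.Helper81Under

open Cfsg
open Cfsg.Agent.Lib.Helper81Local Cfsg.Agent.Lib.Helper81Base Cfsg.Agent.Lib.Helper81BB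
  Cfsg.Agent.Lib.Helper81Block Cfsg.Agent.Lib.Helper81Orth2 Cfsg.Agent.Lib.Helper81Defect
  Cfsg.Agent.Lib.Helper81Reg Cfsg.Agent.Lib.Helper81Reg2 Cfsg.Agent.Lib.Helper81Stable
  Cfsg.Agent.Lib.Helper21Cover Cfsg.Agent.Lib.Helper21FR Cfsg.Agent.Lib.Helper87Sylow
open scoped ComplexConjugate

variable {G : Type*} [Group G] [Fintype G] {p : ℕ} {M : Ideal AlgInt} {N : Subgroup G} [Fintype N]

/-- conjugation invariance of the regular pairing. -/
theorem creg_cjI (hN : N.Normal) (θ β : IrrCharacter N) (g : G) :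
    creg p (cjI hN θ g : N → ℂ) (cjI hN β g : N → ℂ) = creg p (θ : N → ℂ) (β : N → ℂ) := by
  have := hN
  unfold creg Cfsg.Agent.Lib.Helper20Center.om areg
  rw [cjI_one_apply]
  congr 1
  apply Fintype.sum_equiv (MulAut.conjNormal g : N ≃* N).toEquiv
  intro n
  have ho : orderOf ((MulAut.conjNormal g : N ≃* N).toEquiv n) = orderOf n :=
    (MulAut.conjNormal g : N ≃* N).orderOf_eq n
  rw [ho]
  rfl

/-- the stabilizer of a set of characters of a normal subgroup. -/
def stabSub (hN : N.Normal) (b : Set (IrrCharacter N)) : Subgroup G where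
  carrier := {g | ∀ θ, cjI hN θ g ∈ b ↔ θ ∈ b}
  one_mem' := fun θ => by rw [cjI_one]
  mul_mem' := by
    intro a c ha hc θ
    rw [← cjI_cjI, hc, ha]
  inv_mem' := by
    intro a ha θ
    rw [← ha (cjI hN θ a⁻¹), cjI_cjI, inv_mul_cancel, cjI_one]

theorem isStab_stabSub [M.IsPrime] (hN : N.Normal) {b : Set (IrrCharacter N)} (hb : IsPBlock M b) :
    IsStab hN b (stabSub hN b) := by
  intro g
  constructor
  · intro h θ hθ
    exact (h θ).2 hθ
  · intro h θ
    refine ⟨fun hθ => ?_, h θ⟩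
    obtain ⟨θ₀, hθ₀⟩ := isPBlock_nonempty hb
    have h1 := isPBlock_eq_blockOf hb (h θ₀ hθ₀)
    have h2 := isPBlock_eq_blockOf (isPBlock_image hN hb g) (⟨θ₀, hθ₀, rfl⟩ :
      cjI hN θ₀ g ∈ (fun θ => cjI hN θ g) '' b)
    rw [h1, ← h2] at hθ
    obtain ⟨θ', hθ', he⟩ := hθ
    have : θ' = θ := (Cfsg.Agent.Lib.Helper21Cover.cjEquiv hN g).injective he
    rwa [← this]

open scoped Classical in
/-- the orbit of a character under a subgroup. -/
noncomputable def orb (hN : N.Normal) (T : Subgroup G) (α : IrrCharacter N) :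
    Finset (IrrCharacter N) :=
  Finset.univ.filter (fun θ => ∃ g ∈ T, θ = cjI hN α g)

theorem mem_orb {hN : N.Normal} {T : Subgroup G} {α θ : IrrCharacter N} :
    θ ∈ orb hN T α ↔ ∃ g ∈ T, θ = cjI hN α g := by
  classical
  simp [orb]

theorem self_mem_orb (hN : N.Normal) (T : Subgroup G) (α : IrrCharacter N) : α ∈ orb hN T α :=
  mem_orb.2 ⟨1, T.one_mem, (cjI_one hN α).symm⟩

theorem sum_orb_cjI {hN : N.Normal} {T : Subgroup G} (α : IrrCharacter N) {g : G} (hg : g ∈ T)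
    (f : IrrCharacter N → ℂ) :
    ∑ β ∈ orb hN T α, f (cjI hN β g) = ∑ β ∈ orb hN T α, f β := by
  apply Finset.sum_nbij' (fun β => cjI hN β g) (fun β => cjI hN β g⁻¹)
  · intro β hβ
    obtain ⟨x, hx, rfl⟩ := mem_orb.1 hβ
    exact mem_orb.2 ⟨x * g, T.mul_mem hx hg, by rw [cjI_cjI]⟩
  · intro β hβ
    obtain ⟨x, hx, rfl⟩ := mem_orb.1 hβ
    exact mem_orb.2 ⟨x * g⁻¹, T.mul_mem hx (T.inv_mem hg), by rw [cjI_cjI]⟩
  · intro β _
    rw [cjI_cjI, mul_inv_cancel, cjI_one]
  · intro β _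
    rw [cjI_cjI, inv_mul_cancel, cjI_one]
  · intro β _
    rfl

/-- the orbit of a character fixed by a Sylow subgroup has length prime to `p`. -/
theorem not_dvd_card_orb [Fact p.Prime] (hN : N.Normal) {T Q : Subgroup G} (hQ : SylIn p Q T)
    {α : IrrCharacter N} (hfix : ∀ g ∈ Q, cjI hN α g = α) : ¬ p ∣ (orb hN T α).card := by
  classical
  let _ : MulAction T (IrrCharacter N) :=
    { smul := fun q θ => cjI hN θ ((q : G)⁻¹)
      one_smul := fun θ => by
        show cjI hN θ (((1 : T) : G)⁻¹) = θ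
        simp [cjI_one]
      mul_smul := fun q q' θ => by
        show cjI hN θ (((q * q' : T) : G)⁻¹) = cjI hN (cjI hN θ ((q' : G)⁻¹)) ((q : G)⁻¹)
        rw [cjI_cjI]; simp }
  have hsm : ∀ (q : T) (θ : IrrCharacter N), q • θ = cjI hN θ ((q : G)⁻¹) := fun _ _ => rfl
  have : Fintype T := Fintype.ofFinite _
  have h1 := MulAction.card_orbit_mul_card_stabilizer_eq_card_group T α
  have h2 : Fintype.card (MulAction.orbit T α) = (orb hN T α).card := by
    apply Fintype.card_of_subtype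
    intro θ
    rw [mem_orb]
    constructor
    · rintro ⟨g, hg, rfl⟩
      exact ⟨⟨g⁻¹, T.inv_mem hg⟩, by show (⟨g⁻¹, T.inv_mem hg⟩ : T) • α = _; rw [hsm]; simp⟩
    · rintro ⟨q, rfl⟩
      exact ⟨(q : G)⁻¹, T.inv_mem q.2, rfl⟩
  have h3 : Q.subgroupOf T ≤ MulAction.stabilizer T α := by
    intro q hq
    rw [MulAction.mem_stabilizer_iff, hsm]
    exact hfix _ (Q.inv_mem (Subgroup.mem_subgroupOf.1 hq))
  have h4 := Subgroup.card_dvd_of_le h3
  rw [card_subgroupOf_of_le hQ.1, hQ.2] at h4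
  intro hd
  rw [h2, ← Nat.card_eq_fintype_card, ← Nat.card_eq_fintype_card] at h1
  have h5 : p ^ ((Nat.card T).factorization p + 1) ∣ Nat.card T := by
    rw [pow_succ, mul_comm]
    have h6 := mul_dvd_mul hd h4
    rwa [h1] at h6
  exact Nat.pow_succ_factorization_not_dvd Nat.card_pos.ne' Fact.out h5

/-- the sum of the regular pairings with the orbit of a stable height zero character is a unit. -/
theorem orbit_sum_unit [Fact p.Prime] (hM : IsPModular p M) (hN : N.Normal) {b : Set (IrrCharacter N)}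
    (hb : IsPBlock M b) {T Q : Subgroup G} (hT : IsStab hN b T) (hQ : SylIn p Q T)
    {θ₁ : IrrCharacter N} (hθ₁ : θ₁ ∈ b) (h0 : blockHeight p b (θ₁ : N → ℂ) = 0)
    (hfix : ∀ g ∈ Q, cjI hN θ₁ g = θ₁) {θ : IrrCharacter N} (hθ : θ ∈ b) :
    ¬ MemLocalIdeal M (∑ β ∈ orb hN T θ₁, creg p (θ : N → ℂ) (β : N → ℂ)) := by
  have hMp := hM.2.1.isPrime
  intro hmem
  set c := creg p (θ₁ : N → ℂ) (θ₁ : N → ℂ) with hc
  have h1 : MemLocalIdeal M (∑ β ∈ orb hN T θ₁, (creg p (θ : N → ℂ) (β : N → ℂ) - c)) := by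
    apply memLocalIdeal_sum
    intro β hβ
    obtain ⟨g, hg, rfl⟩ := mem_orb.1 hβ
    have hβb : cjI hN θ₁ g ∈ b := (hT g).1 hg θ₁ hθ₁
    have := creg_congr (p := p) (cjI hN θ₁ g) (isPBlock_sameBlock hb hθ hβb)
    rwa [creg_cjI] at this
  rw [Finset.sum_sub_distrib, Finset.sum_const, nsmul_eq_mul] at h1
  have h2 := memLocalIdeal_sub hmem h1
  rw [sub_sub_cancel] at h2
  rcases memLocalIdeal_or_of_mul (memLocalRing_natCast _) (creg_mem θ₁ θ₁) h2 with h3 | h3
  · exact not_dvd_card_orb hN hQ hfix ((memLocalIdeal_natCast_iff hM).1 h3)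
  · exact creg_self_unit hM hb hθ₁ h0 h3

/-- a character of `N` whose regular pairing with the restriction of a member of `B` does not
vanish lies under a member of `B`. -/
theorem exists_over_of_creg_ne_zero (hM : IsPModular p M) {B : Set (IrrCharacter G)}
    (hB : IsPBlock M B) {χ : IrrCharacter G} (hχ : χ ∈ B) (β : IrrCharacter N)
    (h : creg p (β : N → ℂ) (fun n : N => (χ : G → ℂ) n) ≠ 0) : ∃ ψ ∈ B, Over ψ β := by
  classical
  have hMp := hM.2.1.isPrime
  by_contra hcon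
  push Not at hcon
  apply h
  have hθ : IsCharacter G (indFun N (β : N → ℂ)) :=
    Cfsg.Agent.S0148.result N _ (Cfsg.Agent.Lib.Helper4Char.IsIrrCharacter.isCharacter β.2)
  obtain ⟨m, hm, hm'⟩ := Cfsg.Agent.Lib.Helper4Char4.IsCharacter.eq_sum_nat hθ
  have h1 := Cfsg.Agent.Lib.Helper20IndBlock.sum_mul_indFun N
    (areg_isSC (M := M) (p := p) χ).1 (β : N → ℂ)
  have h2 : ∑ y : G, areg p (χ : G → ℂ) y * indFun N (β : N → ℂ) y = 0 := by
    rw [hm]
    simp only [Finset.sum_apply, Pi.smul_apply, smul_eq_mul, Finset.mul_sum]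
    rw [Finset.sum_comm]
    apply Finset.sum_eq_zero
    intro ψ _
    by_cases hψ : ψ ∈ B
    · have h3 : m ψ = 0 := by
        have h4 := hm' ψ
        rw [Cfsg.Agent.Lib.Helper32Ind.frobenius N _ _
          (Cfsg.Agent.Lib.Helper4Char.IsIrrCharacter.isClassFunction ψ.2),
          ← Cfsg.Agent.Lib.Helper4Char.classInner_conj_symm] at h4
        have h5 := hcon ψ hψ
        unfold Over at h5
        push Not at h5
        rw [h5, map_zero] at h4
        exact_mod_cast h4.symm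
      simp [h3]
    · have h3 : creg p (ψ : G → ℂ) (χ : G → ℂ) = 0 := by
        apply creg_eq_zero hM
        intro hs
        exact hψ (isPBlock_mem_of_sameBlock hB hχ (sameBlock_symm hs))
      unfold creg Cfsg.Agent.Lib.Helper20Center.om at h3
      rw [div_eq_zero_iff] at h3
      rcases h3 with h3 | h3
      · have : ∑ y : G, areg p (χ : G → ℂ) y * ((m ψ : ℂ) * (ψ : G → ℂ) y)
            = (m ψ : ℂ) * ∑ y : G, areg p (χ : G → ℂ) y * (ψ : G → ℂ) y := by
          rw [Finset.mul_sum]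
          apply Finset.sum_congr rfl
          intro y _
          ring
        rw [this, h3, mul_zero]
      · exact absurd h3 (irr_one_ne_zero ψ)
  rw [h2] at h1
  have hG0 : (Nat.card G : ℂ) ≠ 0 := by exact_mod_cast Nat.card_pos.ne'
  have hN0 : (Nat.card N : ℂ) ≠ 0 := by exact_mod_cast Nat.card_pos.ne'
  have h3 : ∑ n : N, areg p (χ : G → ℂ) n * (β : N → ℂ) n = 0 := by
    rcases mul_eq_zero.1 h1.symm with h4 | h4
    · exact absurd h4 (mul_ne_zero (inv_ne_zero hN0) hG0)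
    · exact h4
  unfold creg Cfsg.Agent.Lib.Helper20Center.om
  rw [div_eq_zero_iff]
  left
  rw [← h3]
  apply Finset.sum_congr rfl
  intro n _
  simp only [areg, Subgroup.orderOf_coe]

/-- the linking lemma. -/
theorem exists_over_of_link (hM : IsPModular p M) (hN : N.Normal) {b : Set (IrrCharacter N)}
    (hb : IsPBlock M b) {T : Subgroup G} (hT : IsStab hN b T) {B : Set (IrrCharacter G)}
    (hB : IsPBlock M B) {χ : IrrCharacter G} (hχ : χ ∈ B) {α γ : IrrCharacter N} (hα : α ∈ b)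
    (hγ : γ ∈ b) (hover : Over χ α)
    (hV : ∑ θ ∈ orb hN T α, ∑ β ∈ orb hN T γ,
      (θ : N → ℂ) 1 * creg p (θ : N → ℂ) (β : N → ℂ) ≠ 0) : ∃ ψ ∈ B, Over ψ γ := by
  classical
  have hMp := hM.2.1.isPrime
  have hres : IsCharacter N (fun n : N => (χ : G → ℂ) n) :=
    Cfsg.Agent.Lib.Helper4Char4.IsCharacter.restrict N
      (Cfsg.Agent.Lib.Helper4Char.IsIrrCharacter.isCharacter χ.2)
  obtain ⟨m, hm, hm'⟩ := Cfsg.Agent.Lib.Helper4Char4.IsCharacter.eq_sum_nat hres
  have horbb : ∀ {δ : IrrCharacter N}, δ ∈ b → ∀ β ∈ orb hN T δ, β ∈ b := by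
    intro δ hδ β hβ
    obtain ⟨g, hg, rfl⟩ := mem_orb.1 hβ
    exact (hT g).1 hg δ hδ
  have key : ∑ β ∈ orb hN T γ, (β : N → ℂ) 1 * creg p (β : N → ℂ) (fun n : N => (χ : G → ℂ) n)
      = (m α : ℂ) * ∑ θ ∈ orb hN T α, ∑ β ∈ orb hN T γ,
        (θ : N → ℂ) 1 * creg p (θ : N → ℂ) (β : N → ℂ) := by
    have h1 : ∀ β : IrrCharacter N, (β : N → ℂ) 1 * creg p (β : N → ℂ) (fun n : N => (χ : G → ℂ) n)
        = ∑ θ : IrrCharacter N, (m θ : ℂ) * ((θ : N → ℂ) 1 * creg p (θ : N → ℂ) (β : N → ℂ)) := by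
      intro β
      rw [hm, creg_sum, Finset.mul_sum]
      apply Finset.sum_congr rfl
      intro θ _
      rw [← creg_symm β θ]
      ring
    simp only [h1]
    rw [Finset.sum_comm, Finset.mul_sum, ← Finset.sum_subset (Finset.subset_univ (orb hN T α))]
    · apply Finset.sum_congr rfl
      intro θ hθ
      obtain ⟨g, hg, rfl⟩ := mem_orb.1 hθ
      have hmm : m (cjI hN α g) = m α := by
        have h2 := Cfsg.Agent.Lib.Helper5Clifford.classInner_cj_cj hN
          (fun n : N => (χ : G → ℂ) n) (α : N → ℂ) g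
        rw [Cfsg.Agent.Lib.Helper5Clifford.cj_res hN
          (Cfsg.Agent.Lib.Helper4Char.IsIrrCharacter.isClassFunction χ.2)] at h2
        have h3 : ((cjI hN α g : IrrCharacter N) : N → ℂ)
            = Cfsg.Agent.Lib.Helper5Clifford.cj hN (α : N → ℂ) g := rfl
        rw [← h3, hm', hm'] at h2
        exact_mod_cast h2
      rw [hmm, Finset.mul_sum]
    · intro θ _ hθ
      by_cases hθb : θ ∈ b
      · have hm0 : m θ = 0 := by
          by_contra hne
          apply hθ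
          have hov : Over χ θ := by
            unfold Over
            rw [hm' θ]
            exact_mod_cast hne
          obtain ⟨g, rfl⟩ := over_conj hN hover hov
          refine mem_orb.2 ⟨g, ?_, rfl⟩
          by_contra hg
          exact disjoint_of_not_mem hT hb hg _ hθb ⟨α, hα, rfl⟩
        simp [hm0]
      · apply Finset.sum_eq_zero
        intro β hβ
        rw [creg_eq_zero hM, mul_zero, mul_zero]
        intro hs
        exact hθb (isPBlock_mem_of_sameBlock hb (horbb hγ β hβ) (sameBlock_symm hs))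
  have hmα : (m α : ℂ) ≠ 0 := by
    rw [← hm' α]
    exact hover
  have hne : ∑ β ∈ orb hN T γ, (β : N → ℂ) 1 * creg p (β : N → ℂ) (fun n : N => (χ : G → ℂ) n) ≠ 0 := by
    rw [key]
    exact mul_ne_zero hmα hV
  obtain ⟨β, hβ, hβne⟩ := Finset.exists_ne_zero_of_sum_ne_zero hne
  obtain ⟨ψ, hψ, hov⟩ := exists_over_of_creg_ne_zero hM hB hχ β (right_ne_zero_of_mul hβne)
  obtain ⟨g, hg, rfl⟩ := mem_orb.1 hβ
  refine ⟨ψ, hψ, ?_⟩
  have := over_cjI hN hov g⁻¹
  rwa [cjI_cjI, mul_inv_cancel, cjI_one] at this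

/-- **Every member of a covered block lies under the covering block.** -/
theorem exists_over_of_covers [Fact p.Prime] (hM : IsPModular p M) [hN : N.Normal]
    {B : Set (IrrCharacter G)} (hB : IsPBlock M B) {b : Set (IrrCharacter N)} (hb : IsPBlock M b)
    (hcov : ∃ χ ∈ B, ∃ θ ∈ b, Over χ θ) {θ : IrrCharacter N} (hθ : θ ∈ b) :
    ∃ χ ∈ B, Over χ θ := by
  classical
  have hMp := hM.2.1.isPrime
  set T := stabSub hN b with hTdef
  have hT : IsStab hN b T := isStab_stabSub hN hb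
  have hNT : N ≤ T := by
    intro g hg
    rw [hT g]
    intro δ hδ
    have : cjI hN δ g = δ := by
      apply Subtype.ext
      funext n
      rw [cjI_apply]
      exact irr_conj δ n (⟨g, hg⟩ : N)
    rw [this]
    exact hδ
  obtain ⟨Q, hQ⟩ := exists_sylIn (p := p) T
  have hQN : SylIn p (Q ⊓ N) N := by
    apply hQ.inf_normal hNT
    rintro n _ _ ⟨x, hx, rfl⟩
    exact hN.conj_mem x hx n
  obtain ⟨θ₁, hθ₁, h0, hfix⟩ := exists_height_zero_fixed hM N hb Q hQ.isPGroup
    (fun g hg δ hδ => (hT g).1 (hQ.1 hg) δ hδ) hQN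
  -- the linking numbers with `θ₁` do not vanish
  have hV : ∀ α ∈ b, ∑ δ ∈ orb hN T α, ∑ β ∈ orb hN T θ₁,
      (δ : N → ℂ) 1 * creg p (δ : N → ℂ) (β : N → ℂ) ≠ 0 := by
    intro α hα
    have h1 : ∀ δ ∈ orb hN T α, ∑ β ∈ orb hN T θ₁, (δ : N → ℂ) 1 * creg p (δ : N → ℂ) (β : N → ℂ)
        = (α : N → ℂ) 1 * ∑ β ∈ orb hN T θ₁, creg p (α : N → ℂ) (β : N → ℂ) := by
      intro δ hδ
      obtain ⟨g, hg, rfl⟩ := mem_orb.1 hδ
      rw [← Finset.mul_sum, cjI_one_apply]
      congr 1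
      rw [← sum_orb_cjI θ₁ hg (fun β => creg p (cjI hN α g : N → ℂ) (β : N → ℂ))]
      apply Finset.sum_congr rfl
      intro β _
      exact creg_cjI hN α β g
    rw [Finset.sum_congr rfl h1, Finset.sum_const, nsmul_eq_mul]
    apply mul_ne_zero
    · have : 0 < (orb hN T α).card := Finset.card_pos.2 ⟨α, self_mem_orb hN T α⟩
      exact_mod_cast this.ne'
    · apply mul_ne_zero (irr_one_ne_zero α)
      intro h2
      apply orbit_sum_unit hM hN hb hT hQ hθ₁ h0 hfix hα
      rw [h2]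
      exact memLocalIdeal_zero
  obtain ⟨χ₀, hχ₀, α, hα, hov⟩ := hcov
  obtain ⟨ψ₁, hψ₁, hov₁⟩ := exists_over_of_link hM hN hb hT hB hχ₀ hα hθ₁ hov (hV α hα)
  apply exists_over_of_link hM hN hb hT hB hψ₁ hθ₁ hθ hov₁
  have := hV θ hθ
  rw [Finset.sum_comm] at this
  refine fun h => this (Eq.trans ?_ h)
  apply Finset.sum_congr rfl
  intro δ _
  apply Finset.sum_congr rfl
  intro β _
  exact creg_symm β δ

end Cfsg.Agent.Lib.Helper81Under
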