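import Mathlib
import Cfsg.Prelude.Def_Blocks
import Cfsg.Prelude.Def_BlockRank
import Cfsg.Agent.Lib.Helper78Maj
import Cfsg.Agent.Lib.Helper20Major
import Cfsg.Agent.Lib.Helper32Virt
import Cfsg.Agent.Lib.Helper19Det
import Cfsg.Agent.Lib.Helper82Linear
import Cfsg.Agent.S0178
import Cfsg.Agent.S0970
import Cfsg.Agent.Lib.Helper81Under
import Cfsg.Agent.Lib.Helper21Cover4
import Cfsg.Agent.Lib.Helper19Gal2
import Cfsg.Agent.Lib.Helper72Pi

/-!
# Blocks with abelian defect groups and normal subgroups of `p`-power index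
-/

set_option autoImplicit false
set_option linter.unusedSectionVars false

namespace Cfsg.Agent.Lib.Helper79PExt

open Cfsg
open scoped ComplexConjugate

section nonvanish

variable {G : Type*} [Group G] [Fintype G] {p : ℕ} [Fact p.Prime] {M : Ideal AlgInt}

/-- every character of a block with abelian defect group `P` is nonzero somewhere on the
`p`-section of each element of `P`. -/
theorem exists_ne_zero_of_mem_defect (hM : IsPModular p M)
    {B : Set (IrrCharacter G)} (hB : IsPBlock M B) {P : Subgroup G} (hP : IsDefectGroup p M B P)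
    (hab : ∀ x ∈ P, ∀ y ∈ P, x * y = y * x) {χ : IrrCharacter G} (hχ : χ ∈ B) {u : G}
    (hu : u ∈ P) :
    ∃ c : G, c * u = u * c ∧ ¬ p ∣ orderOf c ∧ (χ : G → ℂ) (u * c) ≠ 0 := by
  classical
  have hPr := hM.2.1.isPrime
  have hp : p.Prime := hM.1
  have hcardP := Cfsg.Agent.Lib.Helper20DefCard.card_defectGroup hM hB hP
  obtain ⟨k, -, hk⟩ : ∃ k, k ≤ blockDefect p B ∧ orderOf u = p ^ k := by
    apply (Nat.dvd_prime_pow hp).mp
    rw [← hcardP]
    have := orderOf_dvd_natCard (⟨u, hu⟩ : P)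
    rwa [Subgroup.orderOf_mk] at this
  set H : Subgroup G := Subgroup.centralizer ({u} : Set G) with hH
  have hzP : Subgroup.zpowers u ≤ P := by
    rw [Subgroup.zpowers_le]
    exact hu
  have hPC : P ≤ Subgroup.centralizer ((Subgroup.zpowers u : Subgroup G) : Set G) := by
    intro x hx
    rw [Subgroup.mem_centralizer_iff]
    intro y hy
    exact hab y (hzP hy) x hx
  obtain ⟨b, hind, hbD⟩ := Cfsg.Agent.Lib.Helper20Major.exists_block_induced_defectGroup hM
    (P := Subgroup.zpowers u) (H := H)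
    (Cfsg.Agent.Lib.Helper20Major.isPGroup_zpowers hk)
    (Cfsg.Agent.Lib.Helper20Major.zpowers_le_centralizer u)
    (Cfsg.Agent.Lib.Helper20Major.centralizer_zpowers_le u)
    (Cfsg.Agent.Lib.Helper20Major.centralizer_singleton_le_normalizer u) hB hP hzP hPC
  have hPH : P ≤ H := hPC.trans (Cfsg.Agent.Lib.Helper20Major.centralizer_zpowers_le u)
  have hd : blockDefect p b = blockDefect p B := by
    have h1 := Cfsg.Agent.Lib.Helper20DefCard.card_defectGroup hM hind.1 hbD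
    have h2 : Nat.card (P.subgroupOf H) = Nat.card P :=
      Nat.card_congr (Subgroup.subgroupOfEquivOfLe hPH).toEquiv
    rw [h2, hcardP] at h1
    exact (Nat.pow_right_injective hp.two_le h1).symm
  obtain ⟨ψ, hψ, h0⟩ := Cfsg.Agent.Lib.Helper81Defect.exists_height_zero (p := p)
    (Cfsg.Agent.Lib.Helper81Block.isPBlock_nonempty hB)
  have huH : u ∈ H := Subgroup.mem_centralizer_singleton_iff.mpr rfl
  have hne := Cfsg.Agent.Lib.Helper78Maj.mm_ne_zero hM (z := (⟨u, huH⟩ : H)) ⟨k, hk⟩ hH hind hd hχ hψ h0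
  by_contra hcon
  push Not at hcon
  apply hne
  unfold Cfsg.Agent.Lib.Helper84Subsec.mm Cfsg.Agent.Lib.Helper81Rank.regInner
  rw [Finset.sum_eq_zero, mul_zero]
  intro y _
  split_ifs with hy
  · rfl
  · have hz : Cfsg.Agent.Lib.Helper84Subsec.fp b u (χ : G → ℂ) y = 0 := by
      unfold Cfsg.Agent.Lib.Helper84Subsec.fp
      rw [Cfsg.Agent.Lib.Helper81Subsec.blockPart_eq_delta_reg hM
        (Cfsg.Agent.Lib.Helper81Subsec.isBlockUnion_of_isPBlock hind.1) _ hy,
        Finset.sum_eq_zero, mul_zero]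
      intro c _
      split_ifs with hc
      · rfl
      · have h1 : (c : G) * u = u * c := Subgroup.mem_centralizer_singleton_iff.mp c.2
        have h2 : ¬ p ∣ orderOf (c : G) := by
          rwa [Subgroup.orderOf_coe]
        rw [hcon c h1 h2, zero_mul]
    change Cfsg.Agent.Lib.Helper84Subsec.fp b u (χ : G → ℂ) y * _ = 0
    rw [hz, zero_mul]

end nonvanish

section res

theorem irr_one_of_comm {Q : Type*} [Group Q] [Finite Q] (hQ : ∀ a b : Q, a * b = b * a)
    (β : IrrCharacter Q) : (β : Q → ℂ) 1 = 1 := by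
  have h0 := Cfsg.Agent.Lib.Helper81Base.irr_one_ne_zero β
  obtain ⟨n, ρ, hirr, hρ⟩ := β.2
  have h1 := Cfsg.Agent.S0178.result ρ ⊤ (fun a _ b _ => hQ a b)
  rw [Subgroup.index_top, Module.finrank_fin_fun] at h1
  rw [← hρ, Representation.char_one, Module.finrank_fin_fun] at h0 ⊢
  have h2 : n ≠ 0 := by
    intro h
    apply h0
    rw [h]
    simp
  have h3 : n = 1 := by omega
  rw [h3]
  simp

variable {G : Type*} [Group G] [Fintype G] (N : Subgroup G) [hN : N.Normal] [Fintype N]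

theorem norm_res_eq (χ : G → ℂ) :
    classInner (fun n : N => χ n) (fun n : N => χ n)
      = ∑ β : IrrCharacter (G ⧸ N), conj ((β : G ⧸ N → ℂ) 1) *
          classInner (fun g : G => (β : G ⧸ N → ℂ) (g : G ⧸ N) * χ g) χ := by
  classical
  have := Fintype.ofFinite (G ⧸ N)
  have h1 : ∀ g : G, ∑ β : IrrCharacter (G ⧸ N),
      (β : G ⧸ N → ℂ) (g : G ⧸ N) * conj ((β : G ⧸ N → ℂ) 1)
        = if g ∈ N then (N.index : ℂ) else 0 := by
    intro g
    rw [Cfsg.Agent.Lib.Helper4Char2.col_orth]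
    by_cases hg : g ∈ N
    · have e : (g : G ⧸ N) = 1 := (QuotientGroup.eq_one_iff g).mpr hg
      rw [if_pos hg, e, if_pos (IsConj.refl 1)]
      have : Subgroup.centralizer ({1} : Set (G ⧸ N)) = ⊤ := by
        rw [eq_top_iff]
        intro x _
        rw [Subgroup.mem_centralizer_singleton_iff]
        simp
      rw [this, Subgroup.card_top]
      rfl
    · rw [if_neg hg, if_neg]
      intro h
      apply hg
      rw [isConj_one_left] at h
      exact (QuotientGroup.eq_one_iff g).mp h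
  have h2 : ∀ f : G → ℂ, ∑ g : G, (if g ∈ N then f g else 0) = ∑ n : N, f n := by
    intro f
    rw [← Finset.sum_filter]
    exact Finset.sum_subtype _ (by simp) f
  unfold classInner
  have h3 : ∑ β : IrrCharacter (G ⧸ N), conj ((β : G ⧸ N → ℂ) 1) *
      ((Nat.card G : ℂ)⁻¹ * ∑ g : G, (β : G ⧸ N → ℂ) (g : G ⧸ N) * χ g * conj (χ g))
      = (Nat.card G : ℂ)⁻¹ * ∑ g : G, (χ g * conj (χ g)) *
        ∑ β : IrrCharacter (G ⧸ N), (β : G ⧸ N → ℂ) (g : G ⧸ N) * conj ((β : G ⧸ N → ℂ) 1) := by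
    simp only [Finset.mul_sum]
    rw [Finset.sum_comm]
    apply Finset.sum_congr rfl
    intro g _
    apply Finset.sum_congr rfl
    intro β _
    ring
  rw [h3]
  have h4 : ∀ g : G, (χ g * conj (χ g)) * (if g ∈ N then (N.index : ℂ) else 0)
      = if g ∈ N then (N.index : ℂ) * (χ g * conj (χ g)) else 0 := by
    intro g
    split_ifs
    · ring
    · ring
  have h8 : ∑ g : G, (χ g * conj (χ g)) *
        ∑ β : IrrCharacter (G ⧸ N), (β : G ⧸ N → ℂ) (g : G ⧸ N) * conj ((β : G ⧸ N → ℂ) 1)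
      = (N.index : ℂ) * ∑ n : N, χ n * conj (χ n) := by
    rw [Finset.sum_congr rfl fun g _ => by rw [h1 g, h4 g], h2, ← Finset.mul_sum]
  rw [h8, ← mul_assoc]
  congr 1
  have h5 : (Nat.card G : ℂ) = (Nat.card N : ℂ) * (N.index : ℂ) := by
    rw [← Nat.cast_mul, N.card_mul_index]
  have h6 : (N.index : ℂ) ≠ 0 := by
    exact_mod_cast Subgroup.index_ne_zero_of_finite
  have h7 : (Nat.card N : ℂ) ≠ 0 := by
    exact_mod_cast Nat.card_pos.ne'
  rw [h5]
  field_simp

/-- if `G/N` is abelian and no nontrivial linear character of `G/N` fixes `χ`, then `χ`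
restricts irreducibly to `N`. -/
theorem isIrr_res_of_free (hQ : ∀ a b : G ⧸ N, a * b = b * a) (χ : IrrCharacter G)
    (hfree : ∀ f : G →* ℂˣ, (∀ n ∈ N, f n = 1) →
      (∀ g, ((f g : ℂˣ) : ℂ) * (χ : G → ℂ) g = (χ : G → ℂ) g) → f = 1) :
    IsIrrCharacter N (fun n : N => (χ : G → ℂ) n) := by
  classical
  have hnorm : classInner (fun n : N => (χ : G → ℂ) n) (fun n : N => (χ : G → ℂ) n) = 1 := by
    rw [norm_res_eq, Finset.sum_eq_single (Cfsg.Agent.Lib.Helper82Linear.irrOne (G ⧸ N))]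
    · have : (fun g : G => ((Cfsg.Agent.Lib.Helper82Linear.irrOne (G ⧸ N) : IrrCharacter (G ⧸ N))
          : G ⧸ N → ℂ) (g : G ⧸ N) * (χ : G → ℂ) g) = (χ : G → ℂ) := by
        funext g
        exact one_mul _
      rw [this, Cfsg.Agent.Lib.Helper4Char.classInner_irr_self χ.2, mul_one]
      exact map_one _
    · intro β _ hβ
      have hb1 := irr_one_of_comm hQ β
      set f : G →* ℂˣ := (Cfsg.Agent.Lib.Helper82Linear.homOfLinear β hb1).comp
        (QuotientGroup.mk' N) with hf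
      have hfg : ∀ g : G, ((f g : ℂˣ) : ℂ) = (β : G ⧸ N → ℂ) (g : G ⧸ N) := fun g =>
        Cfsg.Agent.Lib.Helper82Linear.homOfLinear_apply β hb1 _
      have e : (fun g : G => (β : G ⧸ N → ℂ) (g : G ⧸ N) * (χ : G → ℂ) g)
          = Cfsg.Agent.Lib.Helper19Lin.homFun f * (χ : G → ℂ) := by
        funext g
        rw [Pi.mul_apply, Cfsg.Agent.Lib.Helper19Lin.homFun_apply, hfg]
      rw [e, Cfsg.Agent.Lib.Helper4Char.classInner_irr_ne
        (Cfsg.Agent.Lib.Helper19Det.isIrr_homFun_mul f χ.2) χ.2, mul_zero]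
      intro h
      apply hβ
      have h1 : f = 1 := by
        apply hfree f
        · intro n hn
          rw [hf, MonoidHom.comp_apply]
          have : QuotientGroup.mk' N n = 1 := (QuotientGroup.eq_one_iff n).mpr hn
          rw [this, map_one]
        · intro g
          have := congrFun h g
          rwa [Pi.mul_apply, Cfsg.Agent.Lib.Helper19Lin.homFun_apply] at this
      apply Subtype.ext
      funext x
      obtain ⟨g, rfl⟩ := QuotientGroup.mk_surjective x
      rw [← hfg, h1]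
      rfl
    · intro h
      exact absurd (Finset.mem_univ _) h
  have hchar : IsCharacter N (fun n : N => (χ : G → ℂ) n) := by
    obtain ⟨d, ρ, -, hρ⟩ := χ.2
    refine ⟨d, (ρ.comp N.subtype : Representation ℂ N (Fin d → ℂ)), ?_⟩
    funext n
    rw [← hρ]
    rfl
  rcases Cfsg.Agent.Lib.Helper32Virt.gen_norm_one (Cfsg.Agent.Lib.Helper32Virt.gen_of_char hchar)
    hnorm with h | h
  · exact h
  · exfalso
    obtain ⟨d, hd⟩ := Cfsg.Agent.Lib.Helper81Base.irr_one (⟨_, h⟩ : IrrCharacter N)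
    obtain ⟨e, he0, he⟩ := Cfsg.Agent.Lib.Helper81Base.irr_one χ
    have h2 : -(χ : G → ℂ) 1 = (d : ℂ) := hd.2
    rw [he] at h2
    have h4 : ((e + d : ℕ) : ℂ) = 0 := by
      push_cast
      rw [← h2]
      ring
    have h5 : e + d = 0 := by exact_mod_cast h4
    omega

end res

section main

open Cfsg.Agent.Lib.Helper21Cover

variable {G : Type*} [Group G] [Fintype G] {p : ℕ} [Fact p.Prime] {M : Ideal AlgInt}
  (hM : IsPModular p M) (N : Subgroup G) [hN : N.Normal] [Fintype N]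
  (hNi : ∃ k : ℕ, N.index = p ^ k) (b : Set (IrrCharacter N)) (hb : IsPBlock M b)
  (hstab : ∀ g : G, StabilizesBlock N b g) (B : Set (IrrCharacter G)) (hB : IsPBlock M B)
  (hcov : ∃ χ ∈ B, ∃ θ ∈ b, classInner (fun n : N => (χ : G → ℂ) n) (θ : N → ℂ) ≠ 0)
  (P : Subgroup G) (hPD : IsDefectGroup p M B P) (hPab : ∀ x ∈ P, ∀ y ∈ P, x * y = y * x)

include hstab in
theorem cjI_mem (g : G) {θ : IrrCharacter N} (hθ : θ ∈ b) : cjI hN θ g ∈ b := by
  obtain ⟨χ', hχ', hc⟩ := (hstab g⁻¹).2 θ hθ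
  have : cjI hN θ g = χ' := by
    apply Subtype.ext
    funext n
    rw [cjI_apply]
    refine (hc ⟨g * n * g⁻¹, hN.conj_mem n n.2 g⟩ n ?_).symm
    change (n : G) = g⁻¹ * (g * n * g⁻¹) * g⁻¹⁻¹
    group
  rw [this]
  exact hχ'

include hM hNi hb hB hcov in
theorem eq_of_covers {B' : Set (IrrCharacter G)} (hB' : IsPBlock M B')
    (hcov' : ∃ χ ∈ B', ∃ θ ∈ b, classInner (fun n : N => (χ : G → ℂ) n) (θ : N → ℂ) ≠ 0) :
    B' = B :=
  (unique_covering hM hNi hb).unique ⟨hB', hcov'⟩ ⟨hB, hcov⟩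

include hM hNi hb hstab hB hcov hPD in
theorem sup_eq_top_and_defect :
    N ⊔ P = ⊤ ∧ IsDefectGroup p M b ((P ⊓ N).subgroupOf N) := by
  have h := Cfsg.Agent.S0970.result p M hM N b hb (by
    intro g θ hθ θ' h'
    have : θ' = cjI hN θ g := by
      apply Subtype.ext
      funext n
      rw [cjI_apply]
      exact h' n
    rw [this]
    exact cjI_mem N b hstab g hθ) B hB hcov (by
    intro B' hB' hcov'
    rw [eq_of_covers hM N hNi b hb B hB hcov hB' hcov']) P hPD
  refine ⟨?_, h.2.1⟩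
  obtain ⟨k, hk⟩ := hNi
  have h1 : (P ⊔ N).index ∣ p ^ k := by
    rw [← hk]
    exact Subgroup.index_dvd_of_le le_sup_right
  obtain ⟨j, -, hj⟩ := (Nat.dvd_prime_pow hM.1).mp h1
  have hj0 : j = 0 := by
    by_contra hne
    apply h.1
    rw [hj]
    exact dvd_pow_self p hne
  rw [hj0, pow_zero, Subgroup.index_eq_one] at hj
  rw [sup_comm]
  exact hj

theorem exists_mul_of_sup (hsup : N ⊔ P = ⊤) (g : G) : ∃ n ∈ N, ∃ u ∈ P, g = n * u := by
  have hg : g ∈ N ⊔ P := by
    rw [hsup]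
    exact Subgroup.mem_top g
  rw [← SetLike.mem_coe, Subgroup.normal_mul] at hg
  obtain ⟨n, hn, u, hu, rfl⟩ := hg
  exact ⟨n, hn, u, hu, rfl⟩

include hPab in
theorem quot_comm (hsup : N ⊔ P = ⊤) (x y : G ⧸ N) : x * y = y * x := by
  obtain ⟨g, rfl⟩ := QuotientGroup.mk_surjective x
  obtain ⟨h, rfl⟩ := QuotientGroup.mk_surjective y
  obtain ⟨n, hn, u, hu, rfl⟩ := exists_mul_of_sup N P hsup g
  obtain ⟨m, hm, v, hv, rfl⟩ := exists_mul_of_sup N P hsup h
  have e1 : ((n * u : G) : G ⧸ N) = (u : G ⧸ N) := by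
    rw [QuotientGroup.mk_mul, (QuotientGroup.eq_one_iff n).mpr hn, one_mul]
  have e2 : ((m * v : G) : G ⧸ N) = (v : G ⧸ N) := by
    rw [QuotientGroup.mk_mul, (QuotientGroup.eq_one_iff m).mpr hm, one_mul]
  rw [e1, e2, ← QuotientGroup.mk_mul, ← QuotientGroup.mk_mul, hPab u hu v hv]

include hM hNi hB hPD hPab in
theorem free_of_mem (hsup : N ⊔ P = ⊤) {χ : IrrCharacter G} (hχ : χ ∈ B) (f : G →* ℂˣ)
    (hfN : ∀ n ∈ N, f n = 1)
    (hfχ : ∀ g, ((f g : ℂˣ) : ℂ) * (χ : G → ℂ) g = (χ : G → ℂ) g) : f = 1 := by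
  ext g
  obtain ⟨n, hn, u, hu, rfl⟩ := exists_mul_of_sup N P hsup g
  obtain ⟨c, -, hc, hne⟩ := exists_ne_zero_of_mem_defect hM hB hPD hPab hχ hu
  have hcN : c ∈ N := by
    by_contra h
    exact hc (singular_of_not_mem hM.1 hNi h)
  have h1 := hfχ (u * c)
  have h2 : ((f (u * c) : ℂˣ) : ℂ) = 1 := by
    have := mul_right_cancel₀ hne (h1.trans (one_mul _).symm)
    exact this
  rw [map_mul, hfN c hcN, mul_one] at h2
  rw [map_mul, hfN n hn, one_mul, h2]
  rfl

include hM hNi hB hPD hPab in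
theorem isIrr_res (hsup : N ⊔ P = ⊤) {χ : IrrCharacter G} (hχ : χ ∈ B) :
    IsIrrCharacter N (fun n : N => (χ : G → ℂ) n) :=
  isIrr_res_of_free N (quot_comm N P hPab hsup) χ
    (free_of_mem hM N hNi B hB P hPD hPab hsup hχ)

include hM hb hstab hB hcov in
theorem under_mem {χ : IrrCharacter G} (hχ : χ ∈ B) {θ : IrrCharacter N} (hθ : Over χ θ) :
    θ ∈ b := by
  have := hM.2.1.isPrime
  have h1 := Cfsg.Agent.Lib.Helper21Cover4.mem_orb_of_mem hN hB hb hcov hχ hθ
  obtain ⟨g, θ', hθ', rfl⟩ := (mem_orb hN _ _).1 h1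
  exact cjI_mem N b hstab g hθ'

include hM hNi hb hstab hB hcov hPD hPab in
/-- a character of `G` lies in `B` and restricts to `θ ∈ b` iff it lies over `θ`. -/
theorem mem_and_res_iff (hsup : N ⊔ P = ⊤) {θ : IrrCharacter N} (hθ : θ ∈ b)
    (χ : IrrCharacter G) :
    (χ ∈ B ∧ ∀ n : N, (χ : G → ℂ) n = (θ : N → ℂ) n) ↔ Over χ θ := by
  have := hM.2.1.isPrime
  constructor
  · rintro ⟨-, h⟩
    unfold Over
    have : (fun n : N => (χ : G → ℂ) n) = (θ : N → ℂ) := funext h
    rw [this, Cfsg.Agent.Lib.Helper4Char.classInner_irr_self θ.2]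
    exact one_ne_zero
  · intro h
    have hχ : χ ∈ B := by
      have h1 := eq_of_covers hM N hNi b hb B hB hcov
        (Cfsg.Agent.Lib.Helper81Block.isPBlock_blockOf (M := M) χ)
        ⟨χ, Cfsg.Agent.Lib.Helper81Block.self_mem_blockOf χ, θ, hθ, h⟩
      rw [← h1]
      exact Cfsg.Agent.Lib.Helper81Block.self_mem_blockOf χ
    refine ⟨hχ, ?_⟩
    have hirr := isIrr_res hM N hNi B hB P hPD hPab hsup hχ
    by_contra hne
    apply h
    apply Cfsg.Agent.Lib.Helper4Char.classInner_irr_ne hirr θ.2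
    intro e
    exact hne (fun n => congrFun e n)

theorem card_conjClasses_of_comm {Q : Type*} [Group Q] (hQ : ∀ a b : Q, a * b = b * a) :
    Nat.card (ConjClasses Q) = Nat.card Q := by
  refine (Nat.card_congr (Equiv.ofBijective (ConjClasses.mk : Q → ConjClasses Q)
    ⟨?_, ConjClasses.mk_surjective⟩)).symm
  intro a c h
  rw [ConjClasses.mk_eq_mk_iff_isConj, isConj_iff] at h
  obtain ⟨x, hx⟩ := h
  rw [← hx, hQ x a, mul_assoc, mul_inv_cancel, mul_one]

include hM hNi hb hstab hB hcov hPD hPab in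
theorem card_ext (hsup : N ⊔ P = ⊤) {θ : IrrCharacter N} (hθ : θ ∈ b) :
    Nat.card {χ : IrrCharacter G // χ ∈ B ∧ ∀ n : N, (χ : G → ℂ) n = (θ : N → ℂ) n}
      = N.index := by
  have hiff := mem_and_res_iff hM N hNi b hb hstab B hB hcov P hPD hPab hsup hθ
  obtain ⟨χ₀, hχ₀, hov⟩ := Cfsg.Agent.Lib.Helper81Under.exists_over_of_covers hM hB hb hcov hθ
  have hres := ((hiff χ₀).mpr hov).2
  have hc : ∀ (g : G) (n : N), N.subtype (MulAut.conjNormal g n) = g * N.subtype n * g⁻¹ :=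
    fun g n => MulAut.conjNormal_apply g n
  have hbij := Cfsg.Agent.Lib.Helper19Gal2.gallagher N.subtype N.subtype_injective
    MulAut.conjNormal hc θ.2 χ₀.2 hres
  have e1 : {χ : IrrCharacter G // χ ∈ B ∧ ∀ n : N, (χ : G → ℂ) n = (θ : N → ℂ) n} ≃
      ↥{ψ : G → ℂ | IsIrrCharacter G ψ ∧ classInner (fun n => ψ (N.subtype n)) (θ : N → ℂ) ≠ 0} :=
    { toFun := fun x => ⟨x.1.1, x.1.2, (hiff x.1).mp x.2⟩
      invFun := fun y => ⟨⟨y.1, y.2.1⟩, (hiff ⟨y.1, y.2.1⟩).mpr y.2.2⟩
      left_inv := fun x => rfl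
      right_inv := fun y => rfl }
  have e2 := Set.BijOn.equiv _ hbij
  have e3 : ↥{β : G → ℂ | IsIrrCharacter G β ∧ ∀ n : N, β (N.subtype n) = β 1} ≃
      {χ : IrrCharacter G // ∀ n ∈ N, (χ : G → ℂ) n = (χ : G → ℂ) 1} :=
    { toFun := fun x => ⟨⟨x.1, x.2.1⟩, fun n hn => x.2.2 ⟨n, hn⟩⟩
      invFun := fun y => ⟨y.1.1, y.1.2, fun n => y.2 n n.2⟩
      left_inv := fun x => rfl
      right_inv := fun y => rfl }
  have := Fintype.ofFinite (G ⧸ N)
  rw [Nat.card_congr e1, ← Nat.card_congr e2, Nat.card_congr e3,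
    ← Nat.card_congr (Cfsg.Agent.Lib.Helper82Quot.irrQuotEquiv N),
    Cfsg.Agent.Lib.Helper4Char2.card_irr_eq_card_conjClasses,
    card_conjClasses_of_comm (quot_comm N P hPab hsup)]
  rfl

include hM hNi hb hstab hB hcov hPD hPab in
theorem card_block (hsup : N ⊔ P = ⊤) : Nat.card B = N.index * Nat.card b := by
  have hirr : ∀ χ : B, IsIrrCharacter N (fun n : N => ((χ : IrrCharacter G) : G → ℂ) n) :=
    fun χ => isIrr_res hM N hNi B hB P hPD hPab hsup χ.2
  have hmem : ∀ χ : B, (⟨_, hirr χ⟩ : IrrCharacter N) ∈ b := by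
    intro χ
    apply under_mem hM N b hb hstab B hB hcov χ.2
    unfold Over
    rw [Cfsg.Agent.Lib.Helper4Char.classInner_irr_self (hirr χ)]
    exact one_ne_zero
  set r : B → b := fun χ => ⟨⟨_, hirr χ⟩, hmem χ⟩ with hr
  rw [Cfsg.Agent.Lib.Helper72Pi.card_eq_mul_of_fiber_eq r N.index, mul_comm]
  rintro ⟨θ, hθ⟩
  rw [← card_ext hM N hNi b hb hstab B hB hcov P hPD hPab hsup hθ]
  apply Nat.card_congr
  exact
    { toFun := fun x => ⟨x.1.1, x.1.2, fun n => by
        have := congrArg (fun t : b => ((t : IrrCharacter N) : N → ℂ) n) x.2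
        exact this⟩
      invFun := fun y => ⟨⟨y.1, y.2.1⟩, by
        apply Subtype.ext
        apply Subtype.ext
        funext n
        exact y.2.2 n⟩
      left_inv := fun x => rfl
      right_inv := fun y => rfl }

include hM hNi hb hstab hB hcov hPD hPab in
theorem blockRank_eq (hsup : N ⊔ P = ⊤) : blockRank p B = blockRank p b := by
  classical
  set L : (G → ℂ) →ₗ[ℂ] (N → ℂ) := LinearMap.funLeft ℂ ℂ (Subtype.val : N → G) with hL
  have hLp : ∀ f : G → ℂ, L (pRegularPart p f) = pRegularPart p (fun n : N => f n) := by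
    intro f
    funext n
    rw [hL, LinearMap.funLeft_apply, Cfsg.Agent.Lib.Helper81Rank.pRegularPart_apply,
      Cfsg.Agent.Lib.Helper81Rank.pRegularPart_apply, Subgroup.orderOf_coe]
  set SB := Submodule.span ℂ ((fun χ : IrrCharacter G => pRegularPart p (χ : G → ℂ)) '' B) with hSB
  set Sb := Submodule.span ℂ ((fun θ : IrrCharacter N => pRegularPart p (θ : N → ℂ)) '' b) with hSb
  have hmap : Submodule.map L SB = Sb := by
    rw [hSB, hSb, Submodule.map_span]
    congr 1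
    ext f
    constructor
    · rintro ⟨_, ⟨χ, hχ, rfl⟩, rfl⟩
      have hirr := isIrr_res hM N hNi B hB P hPD hPab hsup hχ
      refine ⟨⟨_, hirr⟩, ?_, (hLp _).symm⟩
      apply under_mem hM N b hb hstab B hB hcov hχ
      unfold Over
      rw [Cfsg.Agent.Lib.Helper4Char.classInner_irr_self hirr]
      exact one_ne_zero
    · rintro ⟨θ, hθ, rfl⟩
      obtain ⟨χ₀, hχ₀, hov⟩ := Cfsg.Agent.Lib.Helper81Under.exists_over_of_covers hM hB hb hcov hθ
      have hres := ((mem_and_res_iff hM N hNi b hb hstab B hB hcov P hPD hPab hsup hθ χ₀).mpr hov).2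
      refine ⟨_, ⟨χ₀, hχ₀, rfl⟩, ?_⟩
      beta_reduce
      rw [hLp]
      congr 1
      funext n
      exact hres n
  have hvan : ∀ f ∈ SB, ∀ g : G, g ∉ N → f g = 0 := by
    intro f hf
    induction hf using Submodule.span_induction with
    | mem x hx =>
      obtain ⟨χ, -, rfl⟩ := hx
      intro g hg
      beta_reduce
      rw [Cfsg.Agent.Lib.Helper81Rank.pRegularPart_apply, if_neg]
      rw [not_not]
      exact singular_of_not_mem hM.1 hNi hg
    | zero => intro g _; rfl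
    | add x y _ _ hx hy =>
      intro g hg
      rw [Pi.add_apply, hx g hg, hy g hg, add_zero]
    | smul a x _ hx =>
      intro g hg
      rw [Pi.smul_apply, hx g hg, smul_zero]
  have hinj : Function.Injective (L.domRestrict SB) := by
    rw [← LinearMap.ker_eq_bot, LinearMap.ker_eq_bot']
    rintro ⟨f, hf⟩ h0
    apply Subtype.ext
    funext g
    by_cases hg : g ∈ N
    · exact congrFun h0 ⟨g, hg⟩
    · exact hvan f hf g hg
  unfold blockRank
  rw [← hSB, ← hSb, ← hmap, ← LinearMap.range_domRestrict, LinearMap.finrank_range_of_inj hinj]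

end main

end Cfsg.Agent.Lib.Helper79PExt
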