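import Mathlib
import Cfsg.Prelude.Def_Blocks
import Cfsg.Prelude.Def_Transfer
import Cfsg.Agent.Lib.Helper84Contrib
import Cfsg.Agent.Lib.Helper82Linear
import Cfsg.Agent.Lib.Helper83Char
import Cfsg.Agent.Lib.Helper11Frobenius
import Cfsg.Agent.Lib.Helper3PGroup
import Cfsg.Agent.S0081

/-!
# Linear characters of a Sylow subgroup and `p'`-degree characters of the principal block
-/

set_option autoImplicit false
set_option linter.unusedSectionVars false

namespace Cfsg.Agent.Lib.Helper79PrinLin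

open Cfsg
open Cfsg.Agent.Lib.Helper4Char Cfsg.Agent.Lib.Helper4Char2 Cfsg.Agent.Lib.Helper4Char4
open Cfsg.Agent.Lib.Helper32Virt Cfsg.Agent.Lib.Helper84Contrib Cfsg.Agent.Lib.Helper82Linear
open Cfsg.Agent.Lib.Helper20Local Cfsg.Agent.Lib.Helper20Block
open Cfsg.Agent.Lib.Helper11Frobenius
open scoped ComplexConjugate

variable {G : Type*} [Group G] [Fintype G] {M : Ideal Cfsg.AlgInt} {p : ℕ} [Fact p.Prime]

/-- every linear character of a Sylow `p`-subgroup lies under a character of `p'`-degree of the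
principal block. -/
theorem exists_pprime_over (hM : IsPModular p M) (P : Sylow p G) [Fintype P] (μ : P → ℂ)
    (hμ : IsIrrCharacter P μ) (hμ1 : μ 1 = 1) :
    ∃ χ ∈ principalBlock M G, ¬ p ∣ charDegree (χ : G → ℂ) ∧
      classInner (fun x : P => (χ : G → ℂ) x) μ ≠ 0 := by
  classical
  have hp : p.Prime := Fact.out
  have hPr := IsPModular.isPrime hM
  have hmem : irrOne G ∈ principalBlock M G := sameBlock_refl hPr _
  have hB : IsPBlock M (principalBlock M G) := ⟨irrOne G, rfl⟩
  have hm : ∀ ψ : IrrCharacter G, ∃ n : ℤ, classInner (fun x : P => (ψ : G → ℂ) x) μ = n :=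
    fun ψ => gen_inner_int
      (gen_of_char (IsCharacter.restrict (P : Subgroup G) (IsIrrCharacter.isCharacter ψ.2)))
      (gen_of_irr hμ)
  choose m hm using hm
  have hcardP : Nat.card P = p ^ (Nat.card G).factorization p := P.card_eq_multiplicity
  have hcardP0 : (Nat.card P : ℂ) ≠ 0 := by exact_mod_cast Nat.card_pos.ne'
  -- compute the inner product in two ways
  have e1 : classInner (fun x : P => tld p ((irrOne G : IrrCharacter G) : G → ℂ) x) μ = 1 := by
    unfold classInner
    rw [Finset.sum_eq_single (1 : P)]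
    · have h1 : ¬ p ∣ orderOf (((1 : P) : G)) := by
        rw [OneMemClass.coe_one, orderOf_one]
        exact hp.one_lt.ne' ∘ Nat.dvd_one.mp
      have h2 : tld p ((irrOne G : IrrCharacter G) : G → ℂ) ((1 : P) : G)
          = ((p ^ (Nat.card G).factorization p : ℕ) : ℂ) * 1 := if_neg h1
      beta_reduce
      rw [h2, hμ1, map_one, mul_one, mul_one, ← hcardP]
      exact inv_mul_cancel₀ hcardP0
    · intro x _ hx
      have h1 : p ∣ orderOf (x : G) := by
        rw [Subgroup.orderOf_coe]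
        obtain ⟨k, hk⟩ := (IsPGroup.iff_orderOf.mp P.isPGroup' x)
        rw [hk]
        rcases Nat.eq_zero_or_pos k with rfl | hk0
        · rw [pow_zero, orderOf_eq_one_iff] at hk
          exact absurd hk hx
        · exact dvd_pow_self p hk0.ne'
      have h2 : tld p ((irrOne G : IrrCharacter G) : G → ℂ) (x : G) = 0 := if_pos h1
      beta_reduce
      rw [h2, zero_mul]
    · intro h
      exact absurd (Finset.mem_univ _) h
  have e2 : classInner (fun x : P => tld p ((irrOne G : IrrCharacter G) : G → ℂ) x) μ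
      = ∑ ψ : IrrCharacter G, (N p (irrOne G) ψ : ℂ) * (m ψ : ℂ) := by
    have h1 : (fun x : P => tld p ((irrOne G : IrrCharacter G) : G → ℂ) x)
        = ∑ ψ : IrrCharacter G, (N p (irrOne G) ψ : ℂ) • (fun x : P => (ψ : G → ℂ) x) := by
      funext x
      rw [tld_eq_sum]
      simp only [Finset.sum_apply, Pi.smul_apply]
    rw [h1, classInner_sum_left]
    apply Finset.sum_congr rfl
    intro ψ _
    rw [classInner_smul_left, hm]
  have e3 : ∑ ψ : IrrCharacter G, N p (irrOne G) ψ * m ψ = 1 := by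
    have := e2.symm.trans e1
    exact_mod_cast this
  have e4 : ∃ ψ : IrrCharacter G, ¬ (p : ℤ) ∣ N p (irrOne G) ψ * m ψ := by
    by_contra hcon
    push Not at hcon
    have h1 : (p : ℤ) ∣ 1 := by
      rw [← e3]
      exact Finset.dvd_sum (fun ψ _ => hcon ψ)
    have h2 : (p : ℤ) = 1 ∨ (p : ℤ) = -1 := by
      rcases Int.isUnit_iff.mp (isUnit_of_dvd_one h1) with h | h
      · exact Or.inl h
      · exact Or.inr h
    have h3 := hp.one_lt
    omega
  obtain ⟨ψ, hψ⟩ := e4
  refine ⟨ψ, ?_, ?_, ?_⟩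
  · by_contra hnot
    apply hψ
    rw [N_eq_zero_of_not_mem hM hB hmem hnot, zero_mul]
    exact dvd_zero _
  · intro hd
    apply hψ
    have h1 := pow_dvd_N' (p := p) (irrOne G) ψ
    have h2 : 1 ≤ (charDegree (ψ : G → ℂ)).factorization p :=
      (hp.dvd_iff_one_le_factorization
        (Cfsg.Agent.Lib.Helper83Char.charDegree_pos ψ.2).ne').mp hd
    exact Dvd.dvd.mul_right ((dvd_pow_self (p : ℤ) (by omega)).trans h1) _
  · rw [hm]
    intro h0
    apply hψ
    have : m ψ = 0 := by exact_mod_cast h0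
    rw [this, mul_zero]
    exact dvd_zero _

/-- a normal `p`-complement of a normal subgroup with `p`-group quotient is one of the group. -/
theorem hasNPC_of_normal {G : Type*} [Group G] [Finite G] {p : ℕ} [Fact p.Prime]
    (N : Subgroup G) [hN : N.Normal] (a : ℕ) (hpow : ∀ g : G, g ^ p ^ a ∈ N)
    (h : HasNPC p N) : HasNPC p G := by
  obtain ⟨K, hK, h1, k, h2⟩ := h
  have hp : IsPGroup p (G ⧸ N) := by
    intro q
    obtain ⟨n, rfl⟩ := QuotientGroup.mk_surjective q
    refine ⟨a, ?_⟩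
    rw [← QuotientGroup.mk_pow, QuotientGroup.eq_one_iff]
    exact hpow n
  obtain ⟨j, hj⟩ := IsPGroup.iff_card.mp hp
  refine ⟨K.map N.subtype, ?_, ?_, k + j, ?_⟩
  · constructor
    intro x hx g
    obtain ⟨y, hy, rfl⟩ := hx
    have hy' := (mem_iff_coprime K h1 k h2 y).mp hy
    refine ⟨⟨g * y * g⁻¹, hN.conj_mem _ y.2 g⟩, ?_, rfl⟩
    rw [SetLike.mem_coe, mem_iff_coprime K h1 k h2]
    have e1 : orderOf (⟨g * y * g⁻¹, hN.conj_mem _ y.2 g⟩ : N) = orderOf (g * (y : G) * g⁻¹) :=
      (Subgroup.orderOf_coe _).symm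
    have e2 : orderOf (g * (y : G) * g⁻¹) = orderOf (y : G) := (MulAut.conj g).orderOf_eq _
    rw [e1, e2, Subgroup.orderOf_coe]
    exact hy'
  · rw [Nat.card_congr (K.equivMapOfInjective N.subtype N.subtype_injective).symm.toEquiv]
    exact h1
  · rw [Subgroup.index_map_subtype, h2, Subgroup.index_eq_card N, hj, pow_add]

/-- If every linear character of a Sylow `p`-subgroup extends to `G`, then `G` has a normal
`p`-complement (via Tate's theorem). -/
theorem hasNPC_of_ext {G : Type*} [Group G] [Finite G] {p : ℕ} [Fact p.Prime] (P : Sylow p G)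
    (hext : ∀ μ : P →* ℂˣ, ∃ f : G →* ℂˣ, ∀ x : P, f x = μ x) : HasNPC p G := by
  have hp : p.Prime := Fact.out
  set a := (Nat.card G).factorization p with ha
  set u := Nat.card G / p ^ a with hu
  have hau : p ^ a * u = Nat.card G := Nat.ordProj_mul_ordCompl_eq_self _ p
  have hup : ¬ p ∣ u := Nat.not_dvd_ordCompl hp Nat.card_pos.ne'
  let N : Subgroup G := ⨅ f : {f : G →* ℂˣ // ∀ g, f g ^ p ^ a = 1}, f.1.ker
  have hN : N.Normal := Subgroup.normal_iInf_normal (fun f => inferInstance)
  have hpow : ∀ g : G, g ^ p ^ a ∈ N := by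
    intro g
    rw [Subgroup.mem_iInf]
    intro f
    rw [MonoidHom.mem_ker, map_pow]
    exact f.2 g
  apply hasNPC_of_normal N a hpow
  rw [hasNPC_iff]
  apply Cfsg.Agent.S0081.result P N
  rintro x ⟨hxN, hxP⟩
  refine ⟨⟨x, hxP⟩, Cfsg.Agent.Lib.Helper3PGroup.commutator_le_frattini P.isPGroup' ?_, rfl⟩
  by_contra hcon
  -- a linear character of `P` not killing `x`
  have h1 : (Abelianization.of (⟨x, hxP⟩ : P)) ≠ 1 := by
    intro h
    apply hcon
    have := (QuotientGroup.eq_one_iff (N := commutator P) (⟨x, hxP⟩ : P)).mp h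
    exact this
  obtain ⟨φ, hφ⟩ := CommGroup.exists_apply_ne_one_of_hasEnoughRootsOfUnity
    (Abelianization P) ℂ h1
  obtain ⟨f, hf⟩ := hext (φ.comp Abelianization.of)
  have hfx : f x ≠ 1 := by
    have := hf ⟨x, hxP⟩
    rw [show f x = f ((⟨x, hxP⟩ : P) : G) from rfl, this]
    exact hφ
  apply hfx
  have h2 : f x ^ u = 1 := by
    have hmem : ∀ g, (f ^ u) g ^ p ^ a = 1 := by
      intro g
      rw [MonoidHom.pow_apply, ← pow_mul, mul_comm, hau, ← map_pow, pow_card_eq_one', map_one]
    have := (Subgroup.mem_iInf.mp hxN) ⟨f ^ u, hmem⟩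
    rw [MonoidHom.mem_ker, MonoidHom.pow_apply] at this
    exact this
  have h3 : f x ^ p ^ a = 1 := by
    have h4 : (⟨x, hxP⟩ : P) ^ p ^ a = 1 := by
      rw [← P.card_eq_multiplicity]
      exact pow_card_eq_one'
    have h5 : x ^ p ^ a = 1 := congrArg Subtype.val h4
    rw [← map_pow, h5, map_one]
  have hco : Nat.Coprime u (p ^ a) :=
    Nat.Coprime.pow_right a ((Nat.Prime.coprime_iff_not_dvd hp).mpr hup).symm
  have h6 := pow_gcd_eq_one.mpr ⟨h2, h3⟩
  rwa [hco.gcd_eq_one, pow_one] at h6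

/-- Isaacs--Smith: if all `p'`-degree characters of the principal block are linear, then `G` has
a normal `p`-complement. -/
theorem hasNPC_of_linear (hM : IsPModular p M)
    (hlin : ∀ χ ∈ principalBlock M G, ¬ p ∣ charDegree (χ : G → ℂ) → (χ : G → ℂ) 1 = 1) :
    HasNPC p G := by
  classical
  obtain ⟨P⟩ : Nonempty (Sylow p G) := inferInstance
  apply hasNPC_of_ext P
  intro μ
  have : Fintype P := Fintype.ofFinite _
  have hμ := isIrrCharacter_of_hom μ
  obtain ⟨χ, hχ, hdeg, hne⟩ := exists_pprime_over hM P (fun x => ((μ x : ℂˣ) : ℂ)) hμ (by simp)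
  have h1 := hlin χ hχ hdeg
  refine ⟨homOfLinear χ h1, ?_⟩
  have hres : IsIrrCharacter P (fun x : P => (χ : G → ℂ) x) :=
    isIrrCharacter_of_hom ((homOfLinear χ h1).comp (P : Subgroup G).subtype)
  have heq : (fun x : P => (χ : G → ℂ) x) = (fun x => ((μ x : ℂˣ) : ℂ)) := by
    by_contra hcon
    exact hne (classInner_irr_ne hres hμ hcon)
  intro x
  apply Units.ext
  rw [homOfLinear_apply]
  exact congrFun heq x

end Cfsg.Agent.Lib.Helper79PrinLin
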