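import Mathlib
import Cfsg.Prelude.Def_Blocks
import Cfsg.Prelude.Def_Local
import Cfsg.Agent.Lib.Helper21Cover3
import Cfsg.Agent.Lib.Helper21CoverQ
import Cfsg.Agent.Lib.Helper14CoreB
import Cfsg.Agent.Lib.Helper80PSolv
import Cfsg.Agent.S0915

/-!
# The principal block and quotients by normal `p'`-subgroups
-/

set_option autoImplicit false
set_option linter.unusedSectionVars false

namespace Cfsg.Agent.Lib.Helper79PrinQuot

open Cfsg
open Cfsg.Agent.Lib.Helper82Quot Cfsg.Agent.Lib.Helper82Linear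
open Cfsg.Agent.Lib.Helper20Local

variable {G : Type*} [Group G] [Finite G] {M : Ideal Cfsg.AlgInt} {p : ℕ} [Fact p.Prime]

theorem inflate_mem_principal_iff (hM : IsPModular p M) (N : Subgroup G) [N.Normal]
    (hp : ¬ p ∣ Nat.card N) (ψ : IrrCharacter (G ⧸ N)) :
    inflate N ψ ∈ principalBlock M G ↔ ψ ∈ principalBlock M (G ⧸ N) := by
  have := Fintype.ofFinite G
  have := Fintype.ofFinite N
  have := Fintype.ofFinite (G ⧸ N)
  have hPr := IsPModular.isPrime hM
  constructor
  · intro h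
    exact Cfsg.Agent.Lib.Helper21CoverQ.sameBlock_of_inflate hM hp (χ := irrOne (G ⧸ N)) h
  · intro h
    exact Cfsg.Agent.Lib.Helper21Cover3.sameBlock_inflate (χ := irrOne (G ⧸ N)) h

theorem ker_of_mem_principal (hM : IsPModular p M) (N : Subgroup G) [N.Normal]
    (hp : ¬ p ∣ Nat.card N) {χ : IrrCharacter G} (h : χ ∈ principalBlock M G) :
    ∀ n ∈ N, (χ : G → ℂ) n = (χ : G → ℂ) 1 := by
  have := Fintype.ofFinite G
  have := Fintype.ofFinite N
  exact Cfsg.Agent.Lib.Helper21Cover2.ker_of_sameBlock hM hp (χ := irrOne G) h (fun _ _ => rfl)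

theorem mem_principal_iff (hM : IsPModular p M) (N : Subgroup G) [N.Normal]
    (hp : ¬ p ∣ Nat.card N) (χ : IrrCharacter G) :
    χ ∈ principalBlock M G ↔ ∃ ψ ∈ principalBlock M (G ⧸ N), inflate N ψ = χ := by
  constructor
  · intro h
    obtain ⟨ψ, hψ⟩ := exists_deflate N χ (ker_of_mem_principal hM N hp h)
    refine ⟨ψ, ?_, hψ⟩
    rw [← inflate_mem_principal_iff hM N hp, hψ]
    exact h
  · rintro ⟨ψ, hψ, rfl⟩
    exact (inflate_mem_principal_iff hM N hp ψ).mpr hψ

theorem not_dvd_card_pPrimeCore : ¬ p ∣ Nat.card (pPrimeCore p G) := by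
  have := Cfsg.Agent.Lib.Helper14CoreB.card_pPrimeCore_coprime (G := G) p
  exact fun hd => (Nat.Prime.coprime_iff_not_dvd Fact.out).1 this.symm hd

/-- Fong: the principal block of a `p`-solvable group. -/
theorem mem_principal_iff_of_pSolvable (hM : IsPModular p M) (hs : IsPSolvable p G)
    (χ : IrrCharacter G) :
    χ ∈ principalBlock M G ↔ ∀ n ∈ pPrimeCore p G, (χ : G → ℂ) n = (χ : G → ℂ) 1 := by
  constructor
  · intro h
    exact ker_of_mem_principal hM _ not_dvd_card_pPrimeCore h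
  · intro h
    obtain ⟨ψ, hψ⟩ := exists_deflate (pPrimeCore p G) χ h
    rw [← hψ, inflate_mem_principal_iff hM _ not_dvd_card_pPrimeCore]
    exact Cfsg.Agent.S0915.result p M hM
      (Cfsg.Agent.Lib.Helper80PSolv.isPSolvable_quotient Fact.out hs _)
      (Cfsg.Agent.Lib.Helper14CoreB.pPrimeCore_quotient_eq_bot p) (irrOne _) ψ

end Cfsg.Agent.Lib.Helper79PrinQuot
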