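import Mathlib
import Cfsg.Prelude.Def_GeometricClasses

set_option autoImplicit false

namespace Cfsg.Agent.Lib.Helper7AschDefs

open Cfsg Cfsg.Geo Matrix

variable {F : Type*} [Field F]

/-- the matrix acting as `X` in the `i`-th tensor slot of the tensor power indexed by functions
`Fin t → Fin d`. -/
def slot {d t : ℕ} (i : Fin t) (X : Matrix (Fin d) (Fin d) F) :
    Matrix (Fin t → Fin d) (Fin t → Fin d) F :=
  Matrix.of fun a b => if ∀ j, j ≠ i → a j = b j then X (a i) (b i) else 0

lemma slot_apply {d t : ℕ} (i : Fin t) (X : Matrix (Fin d) (Fin d) F) (a b : Fin t → Fin d) :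
    slot i X a b = if ∀ j, j ≠ i → a j = b j then X (a i) (b i) else 0 := rfl

end Cfsg.Agent.Lib.Helper7AschDefs
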