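import Cfsg.Agent.Lib.LeadAutDefs
import Cfsg.Agent.Lib.LeadChevMisc
import Cfsg.Agent.Lib.Helper22ChevBruhat
import Cfsg.Agent.Lib.Helper23RG2

set_option autoImplicit false
set_option linter.unusedSectionVars false

namespace Cfsg.Agent.Lib.Helper7AutA6

open Subgroup Cfsg.Agent.Lib.Helper23Grp Cfsg.Agent.Lib.Helper23RG Cfsg.Agent.Lib.Helper23RG.RG
  Cfsg.Agent.Lib.Helper23Weyl Cfsg.Agent.Lib.LeadAutDefs

variable {𝔾 K R I : Type*} [Group 𝔾] [Field K] [Fintype R] [DecidableEq R] {S : RG 𝔾 K R I}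

/-- elements of `P_i` lie in `B ∪ B n_i B` -/
theorem par_union (ok : S.Ok) (i : I) {g : 𝔾} (hg : g ∈ Par S i) :
    g ∈ S.B ∨ ∃ b1 ∈ S.B, ∃ b2 ∈ S.B, g = b1 * S.nn i * b2 := by
  obtain ⟨P, hP⟩ := exists_subgroup_union ok i
  have hmem : ∀ g, g ∈ P ↔ (g ∈ S.B ∨ ∃ b1 ∈ S.B, ∃ b2 ∈ S.B, g = b1 * S.nn i * b2) := by
    intro g
    rw [← SetLike.mem_coe, hP, Set.mem_union, DoubleCoset.mem_doubleCoset]; rfl
  have hle : Par S i ≤ P := by
    unfold Par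
    refine sup_le (fun b hb => (hmem b).2 (Or.inl hb)) ?_
    rw [zpowers_le]
    exact (hmem _).2 (Or.inr ⟨1, S.B.one_mem, 1, S.B.one_mem, by group⟩)
  exact (hmem g).1 (hle hg)

/-- `n_k ∉ B` -/
theorem nn_not_mem_B (h : AData S) (k : I) : S.nn k ∉ S.B := by
  intro hB
  have ok := h.ok
  have hH : S.nn k ∈ S.H := by
    rw [← B_inf_N ok h.hUN]
    exact ⟨hB, nn_mem_N k⟩
  have e := Mon_unique ok h.hBV (Mon_H ok _ hH) (Mon_nn ok k)
  have e2 := congrArg (fun π : Equiv.Perm R => π (S.simple k)) e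
  simp only [Equiv.Perm.coe_one, id_eq, reflPerm_apply, ok.refl_simple] at e2
  have := ok.pos_simple k
  rw [e2] at this
  exact not_pos_neg_simple ok k this

/-- A6 -/
theorem nn_mem_par (h : AData S) {i k : I} (hk : S.nn k ∈ Par S i) : k = i := by
  have ok := h.ok
  rcases par_union ok i hk with hB | ⟨b1, hb1, b2, hb2, e⟩
  · exact absurd hB (nn_not_mem_B h k)
  · have h1 := bruhat_uniq ok h.hBV h.hUN (nn_mem_N i) (nn_mem_N k) hb1 hb2 e
    exact (h.inj (simple_eq_of_mem_B ok h.hBV h.hUN (H_le_B h1))).symm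

end Cfsg.Agent.Lib.Helper7AutA6
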