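import Cfsg.Agent.Lib.Helper52BGDefs
import Cfsg.Agent.Lib.Helper14QdFus
import Cfsg.Agent.S1241

/-!
Bender-Glauberman 9.6, piece P1 (transfer): a Sylow subgroup lies in the derived subgroup of a
subgroup containing the normalizers of all `p`-subgroups above an `SCN` subgroup.
-/

set_option autoImplicit false
open Cfsg

namespace Cfsg.Agent.Lib.Helper7BGTransfer

open Subgroup
open scoped commutatorElement
open Cfsg.Agent.Lib.Helper30Trans
open Cfsg.Agent.Lib.Helper24BG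
open Cfsg.Agent.Lib.Helper37Cores

universe u
variable {G : Type u} [Group G] [Finite G] {p : ℕ} [Fact p.Prime]

omit [Finite G] in
theorem not_involves_qd_of_odd (hodd : Odd (Nat.card G)) : ¬ Involves ↥(qd p) G := by
  intro h
  obtain ⟨K, f, hf⟩ := Cfsg.Agent.Lib.Helper24Section.involves_iff.1 h
  have h1 : Nat.card ↥(qd p) ∣ Nat.card K := Subgroup.card_dvd_of_surjective f hf
  have h2 : Nat.card ↥(qd p) ∣ Nat.card G := h1.trans (card_subgroup_dvd_card K)
  have h3 : Nat.card ↥(qd p) = p * (p ^ 2 - 1) * p ^ 2 := by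
    have := Cfsg.Agent.Lib.Helper51Qd.card_qdOver (F := ZMod p)
    rw [ZMod.card] at this
    exact this
  have h4 : Even (p * (p ^ 2 - 1) * p ^ 2) := by
    rcases Nat.even_or_odd p with hp | hp
    · exact (hp.mul_right _).mul_right _
    · have : Even (p ^ 2 - 1) := Nat.Odd.sub_odd hp.pow odd_one
      exact (this.mul_left _).mul_right _
  rw [h3] at h2
  exact (Nat.not_even_iff_odd.mpr hodd) (h4.trans_dvd h2)

omit [Finite G] in
theorem mem_comm_iff {X : Subgroup G} {x : G} (hx : x ∈ X) :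
    x ∈ ⁅X, X⁆ ↔ Abelianization.of (⟨x, hx⟩ : X) = 1 := by
  rw [← MonoidHom.mem_ker, Abelianization.ker_of, ← map_subtype_commutator]
  constructor
  · rintro ⟨y, hy, hyx⟩
    have : y = ⟨x, hx⟩ := Subtype.ext hyx
    exact this ▸ hy
  · intro h
    exact ⟨_, h, rfl⟩

theorem mem_normalizer_of_cj_le {g : G} {R : Subgroup G} (h : cj g R ≤ R) :
    g ∈ normalizer (R : Set G) := by
  have he : cj g R = R := Subgroup.eq_of_le_of_card_ge h (by rw [card_cj])
  rw [mem_normalizer_iff]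
  intro x
  constructor
  · intro hx
    rw [← he]
    exact conj_mem_cj hx
  · intro hx
    rw [← he, mem_cj] at hx
    have : g⁻¹ * (g * x * g⁻¹) * g = x := by group
    rwa [this] at hx

theorem syl_le_commutator (hG : IsMinSimpleOddOrder G) (P : Sylow p G) {A X : Subgroup G}
    (hA : IsSCN (P : Subgroup G) A) (hX : X ≠ ⊤) (hPX : (P : Subgroup G) ≤ X)
    (hN : ∀ R : Subgroup G, IsPGroup p R → A ≤ R → normalizer (R : Set G) ≤ X) :
    (P : Subgroup G) ≤ ⁅X, X⁆ := by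
  by_cases hP1 : (P : Subgroup G) = ⊥
  · rw [hP1]; exact bot_le
  have hp2 : p ≠ 2 := ne_two hG P.2 hP1
  obtain ⟨Z, hZ⟩ : ∃ Z, Z = centerThompsonAOf (P : Subgroup G) := ⟨_, rfl⟩
  have hZ1 : Z ≠ ⊥ := hZ ▸ Cfsg.Agent.Lib.Helper14WBasic.centerThompsonAOf_ne_bot P.2 hP1
  have hZP : Z ≤ P := hZ ▸ Cfsg.Agent.Lib.Helper14WBasic.centerThompsonAOf_le _
  have hZtop : Z ≠ ⊤ := pgroup_ne_top hG (P.2.to_le hZP)
  obtain ⟨N, hNd⟩ : ∃ N, N = normalizer (Z : Set G) := ⟨_, rfl⟩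
  have hNtop : N ≠ ⊤ := hNd ▸ norm_ne_top hG hZ1 hZtop
  have hPN : (P : Subgroup G) ≤ N := by
    rw [hNd, hZ]
    exact le_normalizer.trans
      (Cfsg.Agent.Lib.Helper14WBasic.normalizer_le_normalizer_centerThompsonAOf _)
  have hNs := sol hG hNtop
  have hNo := odd_sub hG N
  have hPsN : IsSyl p (P : Subgroup G) N := (isSyl_top P).mono hPN le_top
  have hApp : A ≤ ppOf p N := ab_le_ppOf hNs hNo hPsN hA.1 (scn_comm hA) hA.2.1
  obtain ⟨R, hR⟩ : ∃ R, R = (P : Subgroup G) ⊓ ppOf p N := ⟨_, rfl⟩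
  have hRP : R ≤ P := hR ▸ inf_le_left
  have hRpp : R ≤ ppOf p N := hR ▸ inf_le_right
  have hRp : IsPGroup p R := P.2.to_le hRP
  have hAR : A ≤ R := hR ▸ le_inf hA.1 hApp
  have hNR : normalizer (R : Set G) ≤ X := hN R hRp hAR
  have hfac : ∀ y ∈ N, ∃ d ∈ coreOf p N, ∃ n ∈ X ⊓ N, y = d * n := by
    intro y hy
    have hpp : ∀ z ∈ N, cj z R ≤ ppOf p N := by
      intro z hz
      have h2 : cj z (ppOf p N) = ppOf p N :=
        cj_eq_self_of_mem_normalizer (le_normalizer_ppOf N hz)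
      rw [← h2]
      exact cj_mono hRpp
    have h1 : cj y R ≤ coreOf p N ⊔ P := (hpp y hy).trans (ppOf_le_sup hPsN)
    obtain ⟨c, hc, hcq⟩ := Cfsg.Agent.Lib.Helper37Sylow.exists_conj_mem P (coreOf p N ⊔ P)
      le_sup_right (cj y R) (hRp.map _) h1
    have hcN : c ∈ N := (sup_le (coreOf_le p N) hPN) hc
    have h3 : cj (c * y) R ≤ R := by
      have h4 : cj (c * y) R ≤ (P : Subgroup G) ⊓ ppOf p N := by
        refine le_inf ?_ (hpp _ (N.mul_mem hcN hy))
        rw [cj_mul]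
        rintro _ ⟨q, hq, rfl⟩
        exact hcq q hq
      rwa [← hR] at h4
    have h5 : c * y ∈ normalizer (R : Set G) := mem_normalizer_of_cj_le h3
    have h6 : c⁻¹ ∈ coreOf p N ⊔ P := inv_mem hc
    rw [Cfsg.Agent.Lib.Helper30SZ.mem_sup_iff (hPN.trans (le_normalizer_coreOf p N))] at h6
    obtain ⟨d, hd, r, hr, hcdr⟩ := h6
    refine ⟨d, hd, r * (c * y), ⟨X.mul_mem (hPX hr) (hNR h5),
      N.mul_mem (hPN hr) (N.mul_mem hcN hy)⟩, ?_⟩
    rw [← mul_assoc, ← hcdr]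
    group
  have hKX : ⁅X, X⁆ ≤ X := by
    rw [commutator_le]
    intro a ha b hb
    rw [commutatorElement_def]
    exact X.mul_mem (X.mul_mem (X.mul_mem ha hb) (X.inv_mem ha)) (X.inv_mem hb)
  have hperf : commutator G = ⊤ := by
    rcases hG.2.1.eq_bot_or_eq_top_of_normal (commutator G) inferInstance with h0 | h0
    · exfalso
      apply hG.2.2.1
      refine ⟨⟨fun x y => ?_⟩⟩
      have : ⁅x, y⁆ ∈ commutator G := commutator_mem_commutator (mem_top x) (mem_top y)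
      rw [h0, mem_bot, commutatorElement_eq_one_iff_mul_comm] at this
      exact this
    · exact h0
  intro g hgP
  by_contra hgK
  have hkey := Cfsg.Agent.S1241.result (p := p) X ⁅X, X⁆ hKX
    (by
      rw [normal_subgroupOf_iff_le_normalizer hKX, ← map_subtype_commutator]
      exact le_normalizer_map_subtype _)
    (by
      intro x hx y hy
      have := commutator_mem_commutator hx hy
      rwa [commutatorElement_def] at this)
    (by
      rw [Nat.Prime.coprime_iff_not_dvd Fact.out]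
      intro hdvd
      exact P.not_dvd_index (hdvd.trans (index_dvd_of_le hPX)))
    g (hPX hgP) hgK
    (by
      obtain ⟨k, hk⟩ := P.2 ⟨g, hgP⟩
      exact (exists_orderOf_eq_prime_pow_iff (p := p)).mpr ⟨k, congrArg Subtype.val hk⟩)
    (by
      intro m a hv
      obtain ⟨u, hu⟩ : ∃ u, u = g ^ m := ⟨_, rfl⟩
      rw [← hu] at hv ⊢
      have huP : u ∈ (P : Subgroup G) := hu ▸ zpow_mem hgP m
      obtain ⟨k, hk⟩ : ∃ k : ℕ, u ^ p ^ k = 1 := by
        obtain ⟨k, hk⟩ := P.2 ⟨u, huP⟩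
        exact ⟨k, congrArg Subtype.val hk⟩
      have hconj : ∀ b : G, (b * u * b⁻¹) ^ p ^ k = 1 := by
        intro b
        rw [conj_pow, hk]
        group
      obtain ⟨n, hnX, hn⟩ := Cfsg.Agent.Lib.Helper37Sylow.exists_conj_mem P X hPX
        (zpowers (a * u * a⁻¹))
        (Cfsg.Agent.Lib.Helper30Thompson.isPGroup_zpowers_of_pow (hconj a)) (by rwa [zpowers_le])
      have hnv : n * (a * u * a⁻¹) * n⁻¹ ∈ (P : Subgroup G) := hn _ (mem_zpowers _)
      have hc := Cfsg.Agent.Lib.Helper14QdFus.csf_ZJA hp2 (not_involves_qd_of_odd hG.1) P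
      rw [Cfsg.Agent.Lib.Helper39Control.csf_iff_set] at hc
      obtain ⟨y, hy, hyu⟩ := hc {u} (n * a) (mem_top _) (by
        rintro x hx
        rw [Set.mem_singleton_iff] at hx
        subst hx
        exact huP) (by
        rintro _ ⟨x, hx, rfl⟩
        rw [Set.mem_singleton_iff] at hx
        subst hx
        have : n * a * x * (n * a)⁻¹ = n * (a * x * a⁻¹) * n⁻¹ := by group
        show n * a * x * (n * a)⁻¹ ∈ (P : Subgroup G)
        rw [this]
        exact hnv)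
      rw [Cfsg.Agent.Lib.Helper24Thompson.ind_fZJA] at hy
      have hyN : y ∈ N := by rw [hNd, hZ]; exact hy.2
      have hyu' : y * u * y⁻¹ = n * (a * u * a⁻¹) * n⁻¹ := by
        rw [hyu u rfl]
        group
      obtain ⟨d, hd, n1, hn1, rfl⟩ := hfac y hyN
      have huX : u ∈ X := hPX huP
      have hu1X : n1 * u * n1⁻¹ ∈ X := X.mul_mem (X.mul_mem hn1.1 huX) (X.inv_mem hn1.1)
      have hu1N : n1 * u * n1⁻¹ ∈ N := N.mul_mem (N.mul_mem hn1.2 (hPN huP)) (N.inv_mem hn1.2)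
      have hs : d * (n1 * u * n1⁻¹) * d⁻¹ = n * (a * u * a⁻¹) * n⁻¹ := by
        rw [← hyu']
        group
      have hsX : d * (n1 * u * n1⁻¹) * d⁻¹ ∈ X := by
        rw [hs]
        exact hPX hnv
      have hwc : d * (n1 * u * n1⁻¹) * d⁻¹ * (n1 * u * n1⁻¹)⁻¹ ∈ coreOf p N := by
        have h1 : (n1 * u * n1⁻¹) * d⁻¹ * (n1 * u * n1⁻¹)⁻¹ ∈ coreOf p N :=
          (mem_normalizer_iff.mp (le_normalizer_coreOf p N hu1N) _).mp (inv_mem hd)
        have h2 := mul_mem hd h1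
        have h3 : d * (n1 * u * n1⁻¹ * d⁻¹ * (n1 * u * n1⁻¹)⁻¹) =
            d * (n1 * u * n1⁻¹) * d⁻¹ * (n1 * u * n1⁻¹)⁻¹ := by group
        rwa [h3] at h2
      -- the abelianization
      obtain ⟨φ, hφ⟩ : ∃ φ : X →* Abelianization X, φ = Abelianization.of := ⟨_, rfl⟩
      have hφs : φ ⟨_, hsX⟩ = φ ⟨_, hu1X⟩ := by
        have e1 : (φ ⟨_, hsX⟩ * (φ ⟨_, hu1X⟩)⁻¹) ^ p ^ k = 1 := by
          rw [mul_pow, inv_pow, ← map_pow, ← map_pow]
          have a1 : (⟨_, hsX⟩ : X) ^ p ^ k = 1 := by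
            apply Subtype.ext
            show (d * (n1 * u * n1⁻¹) * d⁻¹) ^ p ^ k = 1
            rw [conj_pow, hconj]
            group
          have a2 : (⟨_, hu1X⟩ : X) ^ p ^ k = 1 := Subtype.ext (hconj n1)
          rw [a1, a2]
          simp
        have e2 : (φ ⟨_, hsX⟩ * (φ ⟨_, hu1X⟩)⁻¹) ^ Nat.card (coreOf p N) = 1 := by
          rw [← map_inv, ← map_mul, ← map_pow]
          have a3 : ((⟨_, hsX⟩ : X) * (⟨_, hu1X⟩ : X)⁻¹) ^ Nat.card (coreOf p N) = 1 := by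
            apply Subtype.ext
            show (d * (n1 * u * n1⁻¹) * d⁻¹ * (n1 * u * n1⁻¹)⁻¹) ^ Nat.card (coreOf p N) = 1
            have := pow_card_eq_one' (x := (⟨_, hwc⟩ : coreOf p N))
            exact congrArg Subtype.val this
          rw [a3, map_one]
        have e3 := pow_gcd_eq_one.mpr ⟨e1, e2⟩
        have e4 : Nat.gcd (p ^ k) (Nat.card (coreOf p N)) = 1 :=
          Nat.Coprime.pow_left k (card_coreOf_coprime p N).symm
        rw [e4, pow_one] at e3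
        exact mul_inv_eq_one.mp e3
      rw [mem_comm_iff (X.mul_mem hv (X.inv_mem huX)), ← hφ]
      have f1 : (⟨a * u * a⁻¹ * u⁻¹, X.mul_mem hv (X.inv_mem huX)⟩ : X) =
          (⟨_, hv⟩ : X) * (⟨u, huX⟩ : X)⁻¹ := rfl
      have f2 : (⟨_, hsX⟩ : X) = (⟨n, hnX⟩ : X) * ⟨_, hv⟩ * (⟨n, hnX⟩ : X)⁻¹ := Subtype.ext hs
      have f3 : (⟨_, hu1X⟩ : X) = (⟨n1, hn1.1⟩ : X) * ⟨u, huX⟩ * (⟨n1, hn1.1⟩ : X)⁻¹ := rfl
      rw [f2, f3, map_mul, map_mul, map_mul, map_mul, map_inv, map_inv, mul_comm, inv_mul_cancel_left,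
        mul_comm (φ ⟨n1, hn1.1⟩), mul_inv_cancel_right] at hφs
      rw [f1, map_mul, map_inv, hφs, mul_inv_cancel])
  exact hkey (by rw [hperf]; exact mem_top g)

end Cfsg.Agent.Lib.Helper7BGTransfer
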