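import Mathlib
import Cfsg.Agent.Lib.Helper7C6Two

set_option autoImplicit false

namespace Cfsg.Agent.Lib.Helper7C6Plus

open Cfsg Cfsg.Geo Matrix Cfsg.Agent.Lib.Helper97GBase Cfsg.Agent.Lib.Helper97GCore
  Cfsg.Agent.Lib.Helper7C6Asm Cfsg.Agent.Lib.Helper7C6Card Cfsg.Agent.Lib.Helper7C6Type
  Cfsg.Agent.Lib.Helper7C6Two
open scoped MatrixGroups commutatorElement

variable {ι : Type} [Fintype ι] [DecidableEq ι] {F : Type*} [Field F]

/-- two anticommuting isometries of square `-1` force plus type. -/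
lemma plus_of_quaternion (h2 : (2 : F) ≠ 0) {Q : (ι → F) → F} (hQ : IsNondegenerateQuadraticForm Q)
    {X Y : Matrix ι ι F} (hX : X * X = -1) (hY : Y * Y = -1) (hXY : Y * X = -(X * Y))
    (hQX : ∀ v, Q (X *ᵥ v) = Q v) (hQY : ∀ v, Q (Y *ᵥ v) = Q v) {a b : F}
    (hab : a ^ 2 + b ^ 2 = -1) : IsPlusTypeOn Q ⊤ := by
  set P := QuadraticMap.polar Q with hP
  have hB : IsBilinearForm P := hQ.polar_bilinear
  have hPX : ∀ u v, P (X *ᵥ u) (X *ᵥ v) = P u v := by
    intro u v
    simp only [hP, QuadraticMap.polar]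
    rw [← Matrix.mulVec_add, hQX, hQX, hQX]
  have hPY : ∀ u v, P (Y *ᵥ u) (Y *ᵥ v) = P u v := by
    intro u v
    simp only [hP, QuadraticMap.polar]
    rw [← Matrix.mulVec_add, hQY, hQY, hQY]
  have hPsymm : ∀ u v, P u v = P v u := fun u v => QuadraticMap.polar_comm Q u v
  have hneg : ∀ u v, P (-u) v = - P u v := by
    intro u v
    have := hB.smul_left (-1) u v
    rw [neg_one_smul, neg_one_mul] at this
    exact this
  have hXX : ∀ v, X *ᵥ (X *ᵥ v) = -v := by
    intro v; rw [Matrix.mulVec_mulVec, hX, Matrix.neg_mulVec, Matrix.one_mulVec]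
  have hYY : ∀ v, Y *ᵥ (Y *ᵥ v) = -v := by
    intro v; rw [Matrix.mulVec_mulVec, hY, Matrix.neg_mulVec, Matrix.one_mulVec]
  have hYX : ∀ v, Y *ᵥ (X *ᵥ v) = -(X *ᵥ (Y *ᵥ v)) := by
    intro v; rw [Matrix.mulVec_mulVec, hXY, Matrix.neg_mulVec, Matrix.mulVec_mulVec]
  have hzero : ∀ v, P (X *ᵥ v) (Y *ᵥ v) = 0 := by
    intro v
    have e1 : P (X *ᵥ v) (Y *ᵥ v) = - P v (X *ᵥ (Y *ᵥ v)) := by
      rw [← hPX (X *ᵥ v) (Y *ᵥ v), hXX, hneg]
    have e2 : P (X *ᵥ v) (Y *ᵥ v) = P v (X *ᵥ (Y *ᵥ v)) := by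
      rw [← hPY (X *ᵥ v) (Y *ᵥ v), hYY, hYX, hneg, hPsymm, hneg, neg_neg]
    have e3 : (2 : F) * P (X *ᵥ v) (Y *ᵥ v) = 0 := by
      have : P (X *ᵥ v) (Y *ᵥ v) + P (X *ᵥ v) (Y *ᵥ v) = 0 := by
        nth_rewrite 1 [e1]
        rw [e2, neg_add_cancel]
      rw [two_mul]; exact this
    exact (mul_eq_zero.mp e3).resolve_left h2
  set J : Matrix ι ι F := a • X + b • Y with hJ
  have hJv : ∀ v, J *ᵥ v = a • (X *ᵥ v) + b • (Y *ᵥ v) := by
    intro v
    rw [hJ, Matrix.add_mulVec, Matrix.smul_mulVec, Matrix.smul_mulVec]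
  have hQJ : ∀ v, Q (J *ᵥ v) = - Q v := by
    intro v
    have e1 : P (a • (X *ᵥ v)) (b • (Y *ᵥ v)) =
        Q (a • (X *ᵥ v) + b • (Y *ᵥ v)) - Q (a • (X *ᵥ v)) - Q (b • (Y *ᵥ v)) := rfl
    rw [hB.smul_left, hB.smul_right, hzero, mul_zero, mul_zero, hQ.smul, hQ.smul, hQX, hQY] at e1
    rw [hJv]
    linear_combination -e1 + (Q v) * hab
  have hJJ : J * J = 1 := by
    have h1 : (1 : Matrix ι ι F) = (-(a ^ 2 + b ^ 2)) • (1 : Matrix ι ι F) := by
      rw [hab, neg_neg, one_smul]
    rw [hJ]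
    simp only [add_mul, mul_add, Matrix.smul_mul, Matrix.mul_smul, hX, hY, hXY]
    conv_rhs => rw [h1]
    module
  set W : Matrix ι ι F := X * Y with hW
  have hWJ : W * J = -(J * W) := by
    rw [hJ, hW]
    simp only [add_mul, mul_add, Matrix.smul_mul, Matrix.mul_smul]
    have e1 : X * Y * X = Y := by
      rw [mul_assoc, hXY, mul_neg, ← mul_assoc, hX, neg_mul, one_mul, neg_neg]
    have e2 : X * Y * Y = -X := by rw [mul_assoc, hY, mul_neg, mul_one]
    have e3 : X * (X * Y) = -Y := by rw [← mul_assoc, hX, neg_mul, one_mul]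
    have e4 : Y * (X * Y) = X := by
      rw [← mul_assoc, hXY, neg_mul, mul_assoc, hY, mul_neg, mul_one, neg_neg]
    rw [e1, e2, e3, e4]
    module
  have hWW : W * W = -1 := by
    rw [hW]
    have : X * Y * (X * Y) = X * (Y * X) * Y := by simp only [mul_assoc]
    rw [this, hXY, mul_neg, neg_mul, ← mul_assoc, hX, neg_mul, one_mul, neg_mul, hY, neg_neg]
  let Up : Submodule F (ι → F) := LinearMap.ker (Matrix.toLin' (J - 1))
  let Um : Submodule F (ι → F) := LinearMap.ker (Matrix.toLin' (J + 1))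
  have hUp : ∀ v, v ∈ Up ↔ J *ᵥ v = v := by
    intro v
    simp only [Up, LinearMap.mem_ker, Matrix.toLin'_apply, Matrix.sub_mulVec, Matrix.one_mulVec,
      sub_eq_zero]
  have hUm : ∀ v, v ∈ Um ↔ J *ᵥ v = -v := by
    intro v
    simp only [Um, LinearMap.mem_ker, Matrix.toLin'_apply, Matrix.add_mulVec, Matrix.one_mulVec,
      add_eq_zero_iff_eq_neg]
  have hWinj : Function.Injective (Matrix.toLin' W) := by
    intro u v huv
    have := congrArg (fun t => W *ᵥ t) huv
    simp only [Matrix.toLin'_apply, Matrix.mulVec_mulVec, hWW, Matrix.neg_mulVec,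
      Matrix.one_mulVec] at this
    exact neg_injective this
  have hmap : Up.map (Matrix.toLin' W) = Um := by
    ext v
    constructor
    · rintro ⟨u, hu, rfl⟩
      rw [hUm, Matrix.toLin'_apply, Matrix.mulVec_mulVec]
      have hu' := (hUp u).mp hu
      have e : J * W = -(W * J) := by rw [hWJ, neg_neg]
      rw [e, Matrix.neg_mulVec, ← Matrix.mulVec_mulVec, hu']
    · intro hv
      have hv' := (hUm v).mp hv
      refine ⟨-(W *ᵥ v), ?_, ?_⟩
      · show -(W *ᵥ v) ∈ Up
        rw [hUp, Matrix.mulVec_neg, Matrix.mulVec_mulVec]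
        have e : J * W = -(W * J) := by rw [hWJ, neg_neg]
        rw [e, Matrix.neg_mulVec, ← Matrix.mulVec_mulVec, hv', Matrix.mulVec_neg, neg_neg]
      · rw [Matrix.toLin'_apply, Matrix.mulVec_neg, Matrix.mulVec_mulVec, hWW, Matrix.neg_mulVec,
          Matrix.one_mulVec, neg_neg]
  have hfin : Module.finrank F Um = Module.finrank F Up := by
    rw [← hmap]
    exact (Submodule.equivMapOfInjective _ hWinj Up).finrank_eq.symm
  have hcompl : IsCompl Up Um := by
    constructor
    · rw [Submodule.disjoint_def]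
      intro v h1 h3
      have e1 := (hUp v).mp h1
      have e2 := (hUm v).mp h3
      rw [e1] at e2
      have e3 : (2 : F) • v = 0 := by
        rw [two_smul]
        nth_rewrite 1 [e2]
        exact neg_add_cancel v
      exact (smul_eq_zero.mp e3).resolve_left h2
    · rw [codisjoint_iff, eq_top_iff]
      intro v _
      have hJJv : J *ᵥ (J *ᵥ v) = v := by rw [Matrix.mulVec_mulVec, hJJ, Matrix.one_mulVec]
      have e : v = (2 : F)⁻¹ • (v + J *ᵥ v) + (2 : F)⁻¹ • (v - J *ᵥ v) := by
        rw [← smul_add]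
        have : v + J *ᵥ v + (v - J *ᵥ v) = (2 : F) • v := by rw [two_smul]; abel
        rw [this, smul_smul, inv_mul_cancel₀ h2, one_smul]
      rw [e]
      apply Submodule.add_mem_sup
      · apply Submodule.smul_mem
        rw [hUp, Matrix.mulVec_add, hJJv, add_comm]
      · apply Submodule.smul_mem
        rw [hUm, Matrix.mulVec_sub, hJJv]; abel
  refine ⟨Up, le_top, ?_, ?_⟩
  · intro v hv
    have e1 := (hUp v).mp hv
    have e2 := hQJ v
    rw [e1] at e2
    have e3 : (2 : F) * Q v = 0 := by linear_combination e2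
    exact (mul_eq_zero.mp e3).resolve_left h2
  · have := Submodule.finrank_add_eq_of_isCompl hcompl
    rw [hfin] at this
    rw [finrank_top, ← this, two_mul]

lemma chi_mul_comm [Nonempty ι] {N : Subgroup (GL ι F)} (hcomm : ⁅N, N⁆ ≤ scalars ι F) (x g : N) :
    matHom N g * matHom N x = chi hcomm x g • (matHom N x * matHom N g) := by
  have h1 := chi_spec hcomm x g
  have hg1 : matHom N g⁻¹ * matHom N g = 1 := by rw [← map_mul, inv_mul_cancel, map_one]
  have := congrArg (fun t => t * matHom N g) h1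
  simp only [mul_assoc, hg1, mul_one, Matrix.smul_mul] at this
  exact this

lemma matHom_ne_zero [Nonempty ι] {N : Subgroup (GL ι F)} (x : N) : matHom N x ≠ 0 := by
  intro h0
  have h1 : matHom N x * matHom N x⁻¹ = 1 := by rw [← map_mul, mul_inv_cancel, map_one]
  rw [h0, zero_mul] at h1
  exact zero_ne_one h1

lemma chi_one_iff [Nonempty ι] {N : Subgroup (GL ι F)} (hcomm : ⁅N, N⁆ ≤ scalars ι F) (x g : N) :
    chi hcomm x g = 1 ↔ g * x = x * g := by
  constructor
  · intro h
    have := chi_mul_comm hcomm x g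
    rw [h, one_smul] at this
    apply Subtype.ext
    apply Units.ext
    exact this
  · intro h
    have h1 := chi_mul_comm hcomm x g
    rw [← map_mul, ← map_mul, h] at h1
    have h2 : (1 - chi hcomm x g) • matHom N (x * g) = 0 := by
      rw [sub_smul, one_smul, ← h1, sub_self]
    rcases smul_eq_zero.mp h2 with h3 | h3
    · exact (sub_eq_zero.mp h3).symm
    · exact absurd h3 (matHom_ne_zero _)

lemma chi_pm [Nonempty ι] {N : Subgroup (GL ι F)} (hcomm : ⁅N, N⁆ ≤ scalars ι F)
    (hsc : ∀ x ∈ N, x ∈ scalars ι F → (x : Matrix ι ι F) = 1 ∨ (x : Matrix ι ι F) = -1) (x g : N) :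
    chi hcomm x g = 1 ∨ chi hcomm x g = -1 := by
  have hc : ⁅(g : GL ι F), (x : GL ι F)⁆ ∈ N := by
    rw [commutatorElement_def]
    exact N.mul_mem (N.mul_mem (N.mul_mem g.2 x.2) (N.inv_mem g.2)) (N.inv_mem x.2)
  have h1 := chi_spec hcomm x g
  have h2 : ((⁅(g : GL ι F), (x : GL ι F)⁆ : GL ι F) : Matrix ι ι F) =
      chi hcomm x g • (1 : Matrix ι ι F) := by
    rw [commutatorElement_def]
    have hx1 : matHom N x * matHom N x⁻¹ = 1 := by rw [← map_mul, mul_inv_cancel, map_one]
    have := congrArg (fun t => t * matHom N x⁻¹) h1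
    simp only [Matrix.smul_mul, hx1] at this
    exact this
  obtain ⟨i⟩ := ‹Nonempty ι›
  rcases hsc _ hc (hcomm (Subgroup.commutator_mem_commutator g.2 x.2)) with h | h
  · left
    rw [h] at h2
    have := congrFun (congrFun h2 i) i
    simpa using this.symm
  · right
    rw [h] at h2
    have := congrFun (congrFun h2 i) i
    simpa using this.symm

lemma sq_pm [Finite F] [Nonempty ι] {N : Subgroup (GL ι F)}
    (hsq : ∀ x ∈ N, x ^ 2 ∈ scalars ι F)
    (hsc : ∀ x ∈ N, x ∈ scalars ι F → (x : Matrix ι ι F) = 1 ∨ (x : Matrix ι ι F) = -1) (x : N) :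
    matHom N x * matHom N x = 1 ∨ matHom N x * matHom N x = -1 := by
  have := hsc _ (N.pow_mem x.2 2) (hsq x x.2)
  rw [pow_two, Units.val_mul] at this
  exact this

/-- an absolutely irreducible group of extraspecial type in dimension `> 2` contains a quaternion
group. -/
theorem exists_quaternion [Finite F] [Nonempty ι] {N : Subgroup (GL ι F)}
    (habs : ActsAbsolutelyIrreducibly (matrixSet N)) (hcomm : ⁅N, N⁆ ≤ scalars ι F)
    (hns : ¬ N ≤ scalars ι F)
    (hsc : ∀ x ∈ N, x ∈ scalars ι F → (x : Matrix ι ι F) = 1 ∨ (x : Matrix ι ι F) = -1)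
    (hn : 2 < Fintype.card ι) :
    ∃ x y : N, matHom N x * matHom N x = -1 ∧ matHom N y * matHom N y = -1 ∧
      matHom N y * matHom N x = -(matHom N x * matHom N y) := by
  classical
  have : Finite (GL ι F) := inferInstance
  have : Fintype N := Fintype.ofFinite N
  obtain ⟨h2, hsq, -, -, -, -, hanti⟩ := extraspecial_of_pm habs hcomm hns hsc
  have hne : (1 : F) ≠ -1 := by
    intro h
    apply h2
    linear_combination h
  -- non scalar elements have a partner with character -1
  have hpart : ∀ x : N, (x : GL ι F) ∉ scalars ι F → ∃ y : N, chi hcomm x y = -1 := by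
    intro x hx
    by_contra hcon
    push Not at hcon
    apply hx
    apply mem_scalars_of_comm habs
    intro y hy
    have h1 : chi hcomm x ⟨y, hy⟩ = 1 := (chi_pm hcomm hsc x ⟨y, hy⟩).resolve_right (hcon _)
    exact (congrArg Subtype.val ((chi_one_iff hcomm x ⟨y, hy⟩).mp h1)).symm
  have hsymm : ∀ x g : N, chi hcomm x g = chi hcomm g x := by
    intro x g
    rcases chi_pm hcomm hsc x g with h | h
    · rw [h, (chi_one_iff hcomm g x).mpr ((chi_one_iff hcomm x g).mp h).symm]
    · rcases chi_pm hcomm hsc g x with h' | h'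
      · exfalso
        rw [(chi_one_iff hcomm x g).mpr ((chi_one_iff hcomm g x).mp h').symm] at h
        exact hne h
      · rw [h, h']
  have hself : ∀ x : N, chi hcomm x x = 1 := fun x => (chi_one_iff hcomm x x).mpr rfl
  obtain ⟨x₀, hx₀⟩ : ∃ x : N, (x : GL ι F) ∉ scalars ι F := by
    by_contra hcon
    push Not at hcon
    exact hns (fun x hx => hcon ⟨x, hx⟩)
  obtain ⟨y₀, hy₀⟩ := hpart x₀ hx₀
  have hy₀' : chi hcomm y₀ x₀ = -1 := by rw [hsymm, hy₀]
  let ws : Fin 4 → N := ![1, x₀, y₀, x₀ * y₀]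
  -- correction
  have hcorr : ∀ h : N, ∃ i : Fin 4, chi hcomm x₀ (h * ws i) = 1 ∧ chi hcomm y₀ (h * ws i) = 1 := by
    intro h
    rcases chi_pm hcomm hsc x₀ h with h1 | h1 <;> rcases chi_pm hcomm hsc y₀ h with h3 | h3
    · exact ⟨0, by simp [ws, h1], by simp [ws, h3]⟩
    · exact ⟨1, by simp [ws, map_mul, h1, hself], by simp [ws, map_mul, h3, hy₀']⟩
    · exact ⟨2, by simp [ws, map_mul, h1, hy₀], by simp [ws, map_mul, h3, hself]⟩
    · exact ⟨3, by simp [ws, map_mul, h1, hy₀, hself], by simp [ws, map_mul, h3, hy₀', hself]⟩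
  -- an element outside the quaternion algebra
  let b : Fin 4 → Matrix ι ι F := fun i => matHom N (ws i)⁻¹
  obtain ⟨g, hg⟩ : ∃ g : N, matHom N g ∉ Submodule.span F (Set.range b) := by
    by_contra hcon
    push Not at hcon
    have hle : Submodule.span F (matrixSet N) ≤ Submodule.span F (Set.range b) := by
      rw [Submodule.span_le]
      rintro _ ⟨x, hx, rfl⟩
      exact hcon ⟨x, hx⟩
    have hN0 : (Fintype.card N : F) ≠ 0 := by
      rw [← Nat.card_eq_fintype_card]; exact card_ne_zero habs hcomm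
    rw [span_eq_top habs hN0] at hle
    have h1 : Module.finrank F (Submodule.span F (Set.range b)) ≤ 4 := by
      have := finrank_range_le_card (R := F) b
      simpa [Set.finrank] using this
    rw [top_le_iff.mp hle, finrank_top, Module.finrank_matrix, Module.finrank_self, mul_one] at h1
    nlinarith
  obtain ⟨i, hi1, hi2⟩ := hcorr g
  set c : N := g * ws i with hc
  have hcs : (c : GL ι F) ∉ scalars ι F := by
    intro hs
    obtain ⟨s, hs'⟩ := (mem_scalars_iff _).mp hs
    apply hg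
    have e : g = c * (ws i)⁻¹ := by rw [hc]; group
    have e2 : matHom N g = (s : F) • b i := by
      rw [e, map_mul]
      have : matHom N c = (s : F) • (1 : Matrix ι ι F) := hs'
      rw [this, Matrix.smul_mul, one_mul]
    rw [e2]
    exact Submodule.smul_mem _ _ (Submodule.subset_span ⟨i, rfl⟩)
  obtain ⟨d', hd'⟩ := hpart c hcs
  obtain ⟨j, hj1, hj2⟩ := hcorr d'
  set d : N := d' * ws j with hd
  have hcx : chi hcomm c x₀ = 1 := by rw [hsymm]; exact hi1
  have hcy : chi hcomm c y₀ = 1 := by rw [hsymm]; exact hi2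
  have hcw : chi hcomm c (ws j) = 1 := by
    fin_cases j <;> simp [ws, map_mul, hcx, hcy]
  have hcd : chi hcomm c d = -1 := by rw [hd, map_mul, hd', hcw, mul_one]
  -- an element u of square -1 commuting with x₀, y₀
  obtain ⟨u, hu1, hu2, hu3⟩ : ∃ u : N, chi hcomm x₀ u = 1 ∧ chi hcomm y₀ u = 1 ∧
      matHom N u * matHom N u = -1 := by
    rcases sq_pm hsq hsc c with hc2 | hc2
    · rcases sq_pm hsq hsc d with hd2 | hd2
      · refine ⟨c * d, by rw [map_mul, hi1, hj1, one_mul], by rw [map_mul, hi2, hj2, one_mul], ?_⟩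
        have h1 := chi_mul_comm hcomm c d
        rw [hcd, neg_smul, one_smul] at h1
        rw [map_mul]
        calc matHom N c * matHom N d * (matHom N c * matHom N d)
            = matHom N c * (matHom N d * matHom N c) * matHom N d := by simp only [mul_assoc]
          _ = -((matHom N c * matHom N c) * (matHom N d * matHom N d)) := by
              rw [h1]; simp only [mul_neg, neg_mul, mul_assoc]
          _ = -1 := by rw [hc2, hd2, one_mul]
      · exact ⟨d, hj1, hj2, hd2⟩
    · exact ⟨c, hi1, hi2, hc2⟩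
  have hux : matHom N u * matHom N x₀ = matHom N x₀ * matHom N u := by
    have := chi_mul_comm hcomm x₀ u
    rwa [hu1, one_smul] at this
  have huy : matHom N u * matHom N y₀ = matHom N y₀ * matHom N u := by
    have := chi_mul_comm hcomm y₀ u
    rwa [hu2, one_smul] at this
  have hyx : matHom N y₀ * matHom N x₀ = -(matHom N x₀ * matHom N y₀) := by
    have := chi_mul_comm hcomm x₀ y₀
    rwa [hy₀, neg_smul, one_smul] at this
  -- adjust x₀ and y₀
  obtain ⟨x, hx1, hx2, hx3⟩ : ∃ x : N, matHom N x * matHom N x = -1 ∧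
      matHom N y₀ * matHom N x = -(matHom N x * matHom N y₀) ∧
      matHom N u * matHom N x = matHom N x * matHom N u := by
    rcases sq_pm hsq hsc x₀ with h | h
    · refine ⟨x₀ * u, ?_, ?_, ?_⟩
      · rw [map_mul]
        calc matHom N x₀ * matHom N u * (matHom N x₀ * matHom N u)
            = matHom N x₀ * (matHom N u * matHom N x₀) * matHom N u := by simp only [mul_assoc]
          _ = (matHom N x₀ * matHom N x₀) * (matHom N u * matHom N u) := by
              rw [hux]; simp only [mul_assoc]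
          _ = -1 := by rw [h, hu3, one_mul]
      · rw [map_mul, ← mul_assoc, hyx, neg_mul, mul_assoc, mul_assoc, huy]
      · rw [map_mul, ← mul_assoc, hux]
    · exact ⟨x₀, h, hyx, hux⟩
  rcases sq_pm hsq hsc y₀ with h | h
  · refine ⟨x, y₀ * u, hx1, ?_, ?_⟩
    · rw [map_mul]
      calc matHom N y₀ * matHom N u * (matHom N y₀ * matHom N u)
          = matHom N y₀ * (matHom N u * matHom N y₀) * matHom N u := by simp only [mul_assoc]
        _ = (matHom N y₀ * matHom N y₀) * (matHom N u * matHom N u) := by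
            rw [huy]; simp only [mul_assoc]
        _ = -1 := by rw [h, hu3, one_mul]
    · rw [map_mul, mul_assoc, hx3, ← mul_assoc, hx2, neg_mul, mul_assoc]
  · exact ⟨x, y₀, hx1, h, hx2⟩

/-- **plus type**: a quadratic form fixed by an absolutely irreducible group of extraspecial type in
dimension `> 2` is of plus type. -/
theorem plus_type [Finite F] [Nonempty ι] {N : Subgroup (GL ι F)}
    (habs : ActsAbsolutelyIrreducibly (matrixSet N)) (hcomm : ⁅N, N⁆ ≤ scalars ι F)
    (hns : ¬ N ≤ scalars ι F)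
    (hsc : ∀ x ∈ N, x ∈ scalars ι F → (x : Matrix ι ι F) = 1 ∨ (x : Matrix ι ι F) = -1)
    (hn : 2 < Fintype.card ι) {Q : (ι → F) → F} (hQ : IsNondegenerateQuadraticForm Q)
    (hfix : FixesQuadForm (matrixSet N) Q) : IsPlusTypeOn Q ⊤ := by
  have : Fintype F := Fintype.ofFinite F
  obtain ⟨h2, -⟩ := extraspecial_of_pm habs hcomm hns hsc
  obtain ⟨x, y, hx, hy, hxy⟩ := exists_quaternion habs hcomm hns hsc hn
  obtain ⟨p, hchar⟩ := CharP.exists F
  have hp : Fact p.Prime := ⟨CharP.char_is_prime F p⟩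
  have : NeZero p := ⟨hp.out.ne_zero⟩
  obtain ⟨a, b, hab⟩ := CharP.sq_add_sq F p (-1)
  exact plus_of_quaternion h2 hQ hx hy hxy (fun v => hfix _ ⟨x, x.2, rfl⟩ v)
    (fun v => hfix _ ⟨y, y.2, rfl⟩ v) (a := (a : F)) (b := (b : F)) (by simpa using hab)

end Cfsg.Agent.Lib.Helper7C6Plus
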