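import Mathlib
import Cfsg.Agent.Lib.Helper58SylDefs
import Cfsg.Agent.Lib.Helper84SylExistswd

set_option autoImplicit false

namespace Cfsg.Agent.Lib.Helper7SylGlwd

open Cfsg.Agent.Lib.Helper58SylDefs Cfsg.Agent.Lib.Helper84SylExistswd
open Matrix

variable {F : Type*} [Field F]

/-- `M ↦ diag(M, 1)` -/
def up (α β : Type) [Fintype α] [DecidableEq α] [Fintype β] [DecidableEq β] :
    Matrix α α F →* Matrix (α ⊕ β) (α ⊕ β) F where
  toFun M := Matrix.fromBlocks M 0 0 1
  map_one' := Matrix.fromBlocks_one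
  map_mul' a b := by simp [Matrix.fromBlocks_multiply]

/-- block diagonal matrices, as a monoid hom -/
def bG (k : ℕ) : (Fin k → GL (Fin 2) F) →* Matrix (Fin 2 × Fin k) (Fin 2 × Fin k) F where
  toFun d := Matrix.blockDiagonal (fun i => ((d i : GL (Fin 2) F) : Matrix (Fin 2) (Fin 2) F))
  map_one' := by
    have : (fun i : Fin k => (((1 : Fin k → GL (Fin 2) F) i : GL (Fin 2) F) :
        Matrix (Fin 2) (Fin 2) F)) = 1 := by
      funext i; rfl
    rw [this, Matrix.blockDiagonal_one]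
  map_mul' a b := by
    rw [← Matrix.blockDiagonal_mul]
    rfl

theorem bG_mulVec (k : ℕ) (d : Fin k → GL (Fin 2) F) (v : Fin 2 × Fin k → F) (a : Fin 2)
    (i : Fin k) : (bG k d *ᵥ v) (a, i)
      = (((d i : GL (Fin 2) F) : Matrix (Fin 2) (Fin 2) F) *ᵥ (fun a' => v (a', i))) a :=
  blockDiagonal_mulVec' (fun i => ((d i : GL (Fin 2) F) : Matrix (Fin 2) (Fin 2) F)) v a i

theorem pH_mulVec (k : ℕ) (π : Equiv.Perm (Fin k)) (v : Fin 2 × Fin k → F) (a : Fin 2)
    (i : Fin k) : (pHom (F := F) (ι₀ := Fin 2) k π *ᵥ v) (a, i) = v (a, π⁻¹ i) :=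
  pmMat_mulVec π v (a, i)

theorem conj_mat (k : ℕ) (π : Equiv.Perm (Fin k)) (d : Fin k → GL (Fin 2) F) :
    pHom (F := F) (ι₀ := Fin 2) k π * bG k d
      = bG k (fun i => d (π⁻¹ i)) * pHom (F := F) (ι₀ := Fin 2) k π := by
  apply Matrix.mulVec_injective
  funext v x
  obtain ⟨a, i⟩ := x
  rw [← Matrix.mulVec_mulVec, ← Matrix.mulVec_mulVec, pH_mulVec, bG_mulVec, bG_mulVec]
  congr 2
  funext a'
  rw [pH_mulVec]

theorem inj_mat (k : ℕ) (d : Fin k → GL (Fin 2) F) (π : Equiv.Perm (Fin k))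
    (h : bG k d * pHom (F := F) (ι₀ := Fin 2) k π = 1) : d = 1 ∧ π = 1 := by
  have key : ∀ (v : Fin 2 × Fin k → F) (a : Fin 2) (i : Fin k),
      (((d i : GL (Fin 2) F) : Matrix (Fin 2) (Fin 2) F) *ᵥ (fun a' => v (a', π⁻¹ i))) a
        = v (a, i) := by
    intro v a i
    have h1 : ((bG k d * pHom (F := F) (ι₀ := Fin 2) k π) *ᵥ v) (a, i) = v (a, i) := by
      rw [h, Matrix.one_mulVec]
    rw [← Matrix.mulVec_mulVec, bG_mulVec] at h1
    rw [← h1]
    congr 2
    funext a'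
    rw [pH_mulVec]
  have hπ : ∀ i, π⁻¹ i = i := by
    intro i
    by_contra hne
    have := key (fun x => if x.2 = i then 1 else 0) 0 i
    simp only [hne, if_false, if_true] at this
    have h0 : (fun _ : Fin 2 => (0 : F)) = 0 := rfl
    rw [h0, Matrix.mulVec_zero] at this
    simp at this
  have hπ1 : π = 1 := by
    have : π⁻¹ = 1 := Equiv.ext hπ
    exact inv_eq_one.mp this
  refine ⟨?_, hπ1⟩
  funext i
  apply Units.ext
  apply Matrix.mulVec_injective
  funext w a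
  have := key (fun x => w x.1) a i
  show (((d i : GL (Fin 2) F) : Matrix (Fin 2) (Fin 2) F) *ᵥ w) a
    = ((1 : Matrix (Fin 2) (Fin 2) F) *ᵥ w) a
  rw [Matrix.one_mulVec]
  exact this

theorem det_pm (k : ℕ) (π : Equiv.Perm (Fin k)) :
    (pHom (F := F) (ι₀ := Fin 2) k π).det = 1 := by
  have h : pHom (F := F) (ι₀ := Fin 2) k π
      = Equiv.Perm.permMatrix F (Equiv.prodCongrRight (fun _ : Fin 2 => π⁻¹)) := by
    ext x y
    show (if y = (x.1, π⁻¹ x.2) then (1 : F) else 0) = _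
    simp [Equiv.Perm.permMatrix, PEquiv.toMatrix_apply, Equiv.toPEquiv_apply, eq_comm]
    rfl
  rw [h, Matrix.det_permutation, Equiv.Perm.sign_prodCongrRight]
  simp

theorem exists_wd_gl (k j : ℕ) :
    ∃ W : WD (GL ((Fin 2 × Fin k) ⊕ Fin j) F) (GL (Fin 2) F) k,
      (∀ d, Matrix.GeneralLinearGroup.det (W.B d) = ∏ i, Matrix.GeneralLinearGroup.det (d i)) ∧
      (∀ π, Matrix.GeneralLinearGroup.det (W.Pm π) = 1) ∧
      (1 ≤ j → (2 : F) ≠ 0 → ∃ z : GL ((Fin 2 × Fin k) ⊕ Fin j) F, z * z = 1 ∧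
        Matrix.GeneralLinearGroup.det z = -1 ∧ (∀ d, z * W.B d = W.B d * z) ∧
        (∀ π, z * W.Pm π = W.Pm π * z) ∧ ∀ d π, z ≠ W.B d * W.Pm π) := by
  let U := up (F := F) (Fin 2 × Fin k) (Fin j)
  have hUinj : Function.Injective U := by
    intro a b hab
    exact (Matrix.fromBlocks_inj.1 hab).1
  refine ⟨⟨(U.comp (bG k)).toHomUnits, (U.comp (pHom (F := F) (ι₀ := Fin 2) k)).toHomUnits,
    ?_, ?_⟩, ?_, ?_, ?_⟩
  · intro π d
    rw [mul_inv_eq_iff_eq_mul]
    apply Units.ext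
    show U (pHom (F := F) (ι₀ := Fin 2) k π) * U (bG k d)
      = U (bG k (fun i => d (π⁻¹ i))) * U (pHom (F := F) (ι₀ := Fin 2) k π)
    rw [← map_mul, ← map_mul, conj_mat]
  · intro d π h
    apply inj_mat k d π
    apply hUinj
    rw [map_mul, map_one]
    exact congrArg Units.val h
  · intro d
    apply Units.ext
    show (Matrix.fromBlocks (bG k d) 0 0 (1 : Matrix (Fin j) (Fin j) F)).det = _
    rw [Matrix.det_fromBlocks_zero₂₁, Matrix.det_one, mul_one, Units.coe_prod]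
    exact Matrix.det_blockDiagonal (fun i => ((d i : GL (Fin 2) F) : Matrix (Fin 2) (Fin 2) F))
  · intro π
    apply Units.ext
    show (Matrix.fromBlocks (pHom (F := F) (ι₀ := Fin 2) k π) 0 0
      (1 : Matrix (Fin j) (Fin j) F)).det = _
    rw [Matrix.det_fromBlocks_zero₂₁, Matrix.det_one, mul_one, det_pm]
    rfl
  · intro hj h2
    let l₀ : Fin j := ⟨0, hj⟩
    let Dg : Matrix (Fin j) (Fin j) F := Matrix.diagonal (fun l => if l = l₀ then -1 else 1)
    have hDD : Dg * Dg = 1 := by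
      rw [Matrix.diagonal_mul_diagonal, ← Matrix.diagonal_one]
      congr 1
      funext l
      split_ifs <;> simp
    let zM : Matrix ((Fin 2 × Fin k) ⊕ Fin j) ((Fin 2 × Fin k) ⊕ Fin j) F :=
      Matrix.fromBlocks 1 0 0 Dg
    have hzz : zM * zM = 1 := by
      simp only [zM, Matrix.fromBlocks_multiply]
      simp [hDD]
    have hcomm : ∀ M : Matrix (Fin 2 × Fin k) (Fin 2 × Fin k) F, zM * U M = U M * zM := by
      intro M
      show Matrix.fromBlocks 1 0 0 Dg * Matrix.fromBlocks M 0 0 1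
        = Matrix.fromBlocks M 0 0 1 * Matrix.fromBlocks 1 0 0 Dg
      simp [Matrix.fromBlocks_multiply]
    refine ⟨⟨zM, zM, hzz, hzz⟩, Units.ext hzz, ?_, ?_, ?_, ?_⟩
    · apply Units.ext
      show zM.det = _
      simp only [zM, Dg]
      rw [Matrix.det_fromBlocks_zero₂₁, Matrix.det_one, one_mul, Matrix.det_diagonal,
        Finset.prod_ite_eq' Finset.univ l₀ (fun _ => (-1 : F))]
      simp
    · intro d
      exact Units.ext (hcomm _)
    · intro π
      exact Units.ext (hcomm _)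
    · intro d π h
      have h1 : zM = U (bG k d) * U (pHom (F := F) (ι₀ := Fin 2) k π) := congrArg Units.val h
      rw [← map_mul] at h1
      have h3 : Dg = 1 := (Matrix.fromBlocks_inj.1 h1).2.2.2
      have h4 := congrFun (congrFun h3 l₀) l₀
      simp only [Dg, Matrix.diagonal_apply_eq, if_true, Matrix.one_apply_eq] at h4
      apply h2
      linear_combination -h4

end Cfsg.Agent.Lib.Helper7SylGlwd
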