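import Mathlib
import Cfsg.Agent.Lib.Helper81D1Defs

set_option autoImplicit false
set_option linter.unusedVariables false
set_option linter.unusedSectionVars false

/-! PROJECT 81, piece `ctx`. -/

namespace Cfsg.Agent.Lib.Helper81D1Ctx

open Cfsg
open Cfsg.Agent.Lib.Helper81Local Cfsg.Agent.Lib.Helper80Trace Cfsg.Agent.Lib.Helper78MajP
  Cfsg.Agent.Lib.Helper81D1Defs
open scoped ComplexConjugate

universe u

variable {G : Type u} [Group G] [Fintype G] {p : ℕ} [Fact p.Prime] {M : Ideal AlgInt}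

/-- piece `ctx` -/
theorem ctx_exists (hM : IsPModular p M) {B : Set (IrrCharacter G)} (hB : IsPBlock M B)
    (hd : blockDefect p B = 1) :
    ∃ (P : Subgroup G) (e : Set (IrrCharacter (Subgroup.centralizer (P : Set G))))
      (u : Subgroup.centralizer (P : Set G)), Ctx p M B P e u := by
  classical
  have hp : p.Prime := Fact.out
  obtain ⟨D, hD⟩ := Cfsg.Agent.Lib.Helper20Induced.exists_defectGroup hM hB
  obtain ⟨e, hmax⟩ := Cfsg.Agent.Lib.Helper80Corr.exists_maximal_of_defectGroup hM hB hD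
  have hcard : Nat.card D = p := by
    rw [Cfsg.Agent.Lib.Helper20DefCard.card_defectGroup hM hB hD, hd, pow_one]
  have hnt : Nontrivial D := by
    rw [← Finite.one_lt_card_iff_nontrivial, hcard]
    exact hp.one_lt
  obtain ⟨w', hw'⟩ := exists_ne (1 : D)
  set w : G := (w' : G) with hw
  have hwD : w ∈ D := w'.2
  have hwo : orderOf w = p := by
    rw [hw, Subgroup.orderOf_coe]
    have h1 : orderOf w' ∣ p := by rw [← hcard]; exact orderOf_dvd_natCard w'
    rcases (Nat.dvd_prime hp).1 h1 with h2 | h2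
    · exact absurd (orderOf_eq_one_iff.1 h2) hw'
    · exact h2
  have hzp : D = Subgroup.zpowers w := by
    symm
    apply Subgroup.eq_of_le_of_card_ge (by rw [Subgroup.zpowers_le]; exact hwD)
    rw [Nat.card_zpowers, hwo, hcard]
  have hDC : D ≤ Subgroup.centralizer (D : Set G) := by
    intro a ha
    rw [Subgroup.mem_centralizer_iff]
    intro b hb
    rw [hzp] at ha
    have hb' : b ∈ Subgroup.zpowers w := by rw [← hzp]; exact hb
    obtain ⟨i, rfl⟩ := ha
    obtain ⟨j, rfl⟩ := hb'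
    exact (((Commute.refl w).zpow_zpow j i)).eq
  have hH : ∀ t : ℕ, t.Coprime p →
      Subgroup.centralizer (D : Set G) = Subgroup.centralizer ({w ^ t} : Set G) := by
    intro t ht
    rw [← centralizer_zpowers, zpowers_pow_eq (by rw [hwo]; exact ht), ← hzp]
  have hH1 : Subgroup.centralizer (D : Set G) = Subgroup.centralizer ({w} : Set G) := by
    have := hH 1 (Nat.coprime_one_left p)
    rwa [pow_one] at this
  have hdef0 := Cfsg.Agent.Lib.Helper80Abel.isDefectGroup_of_abelian hM hmax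
    (Relation.ReflTransGen.refl) hDC
  have hsub : D.subgroupOf (Subgroup.centralizer (D : Set G))
      = Subgroup.zpowers (⟨w, hDC hwD⟩ : Subgroup.centralizer (D : Set G)) := by
    ext a
    rw [Subgroup.mem_subgroupOf, Subgroup.mem_zpowers_iff]
    constructor
    · intro ha
      have ha' : (a : G) ∈ Subgroup.zpowers w := hzp ▸ ha
      rw [Subgroup.mem_zpowers_iff] at ha'
      obtain ⟨k, hk⟩ := ha'
      exact ⟨k, Subtype.ext (by rw [Subgroup.coe_zpow]; exact hk)⟩
    · rintro ⟨k, rfl⟩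
      rw [Subgroup.coe_zpow]
      exact Subgroup.zpow_mem _ hwD k
  refine ⟨D, e, ⟨w, hDC hwD⟩, ⟨hM, hmax, hcard, hwo, hzp, ?_, hH, ?_, hd, ?_, ?_⟩⟩
  · intro h
    apply Subtype.ext
    exact (Subgroup.mem_centralizer_iff.1 h.2 w hwD).symm
  · exact isInducedBlock_of_pairOf hM w ⟨1, by rw [hwo, pow_one]⟩ _ hH1 hmax.1.1.2 hB hmax.1.2.2
  · have h2 := Cfsg.Agent.Lib.Helper20DefCard.card_defectGroup hM hmax.1.1.2 hdef0
    rw [Cfsg.Agent.Lib.Helper87Sylow.card_subgroupOf_of_le hDC, hcard] at h2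
    have h3 : p ^ 1 = p ^ blockDefect p e := by rw [pow_one]; exact h2
    exact (Nat.pow_right_injective hp.two_le h3).symm
  · rw [← hsub]; exact hdef0

end Cfsg.Agent.Lib.Helper81D1Ctx

namespace Cfsg.Agent.Lib.Helper81D1Ctx

open Cfsg
open Cfsg.Agent.Lib.Helper81Local Cfsg.Agent.Lib.Helper80Trace Cfsg.Agent.Lib.Helper78MajP
  Cfsg.Agent.Lib.Helper81D1Defs Cfsg.Agent.Lib.Helper78Sec Cfsg.Agent.Lib.Helper80Brauer
  Cfsg.Agent.Lib.Helper80Transport
open scoped ComplexConjugate

universe u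

variable {G : Type u} [Group G] [Fintype G] {p : ℕ} [Fact p.Prime] {M : Ideal AlgInt}
variable {B : Set (IrrCharacter G)} {P : Subgroup G}
  {e : Set (IrrCharacter (Subgroup.centralizer (P : Set G)))}
  {u : Subgroup.centralizer (P : Set G)}

theorem gc_isClassFunction' (y : IrrCharacter G → ℤ) : IsClassFunction G (gc y) := by
  intro g h
  unfold gc
  apply Finset.sum_congr rfl
  intro χ _
  rw [Cfsg.Agent.Lib.Helper81Base.irr_conj]

/-- piece `vanD` (the other pieces enter as hypotheses) -/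
theorem vanD (h : Ctx p M B P e u) (y : IrrCharacter G → ℤ)
    (hA : ∀ t : ℕ, t.Coprime p → SP p ((u : G) ^ t) (pfun P e) (gc y) = 0)
    (hBv : ∀ x : G, (∃ k : ℕ, orderOf x = p ^ k) → x ≠ 1 →
      ∀ b' : Set (IrrCharacter (Subgroup.centralizer ({x} : Set G))),
      IsInducedBlock M (Subgroup.centralizer ({x} : Set G)) b' B →
      ∃ g : G, g * x * g⁻¹ ∈ P ∧
        cjf g (ext (Subgroup.centralizer ({x} : Set G)) (blockCoeff b')) = pfun P e)
    (hCv : ∀ x : G, (∃ k : ℕ, orderOf x = p ^ k) →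
      (∀ b' : Set (IrrCharacter (Subgroup.centralizer ({x} : Set G))),
        IsInducedBlock M (Subgroup.centralizer ({x} : Set G)) b' B →
          SP p x (ext (Subgroup.centralizer ({x} : Set G)) (blockCoeff b')) (gc y) = 0) →
      ∀ s : G, s * x = x * s → ¬ p ∣ orderOf s → gc y (x * s) = 0)
    (g : G) (hg : p ∣ orderOf g) : gc y g = 0 := by
  classical
  have hp : p.Prime := Fact.out
  obtain ⟨x, s, hxs, hcomm, hx, hs⟩ := Cfsg.Agent.Lib.Helper81Orth.exists_ppart hp g
  have hx1 : x ≠ 1 := by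
    rintro rfl
    rw [one_mul] at hxs
    rw [hxs] at hs
    exact hs hg
  rw [← hxs]
  apply hCv x hx _ s hcomm.symm.eq hs
  intro b' hb'
  obtain ⟨g₀, hg₀, hcj⟩ := hBv x hx hx1 b' hb'
  rw [← SP_cj g₀ x _ (gc_isClassFunction' y), hcj]
  rw [h.hzp] at hg₀
  have hfin : IsOfFinOrder (u : G) := isOfFinOrder_of_finite _
  obtain ⟨t, ht⟩ := (hfin.mem_powers_iff_mem_zpowers).2 hg₀
  simp only at ht
  rw [← ht]
  apply hA
  rw [Nat.coprime_comm, hp.coprime_iff_not_dvd]
  intro hpt
  apply hx1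
  have h1 : (u : G) ^ t = 1 := by
    rw [← h.hu] at hpt
    exact orderOf_dvd_iff_pow_eq_one.1 hpt
  rw [h1] at ht
  have h2 : g₀ * x * g₀⁻¹ = 1 := ht.symm
  have h3 : x = g₀⁻¹ * (g₀ * x * g₀⁻¹) * g₀ := by group
  rw [h3, h2]; group

end Cfsg.Agent.Lib.Helper81D1Ctx
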