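import Mathlib
import Cfsg.Agent.Lib.Helper81D1Defs

set_option autoImplicit false
set_option linter.unusedVariables false
set_option linter.unusedSectionVars false

/-! PROJECT 81, pieces `ddC`, `vanA`. -/

namespace Cfsg.Agent.Lib.Helper81D1DdC

open Cfsg
open Cfsg.Agent.Lib.Helper81Local Cfsg.Agent.Lib.Helper81Rank Cfsg.Agent.Lib.Helper84Subsec
  Cfsg.Agent.Lib.Helper84Subsec2 Cfsg.Agent.Lib.Helper84Contrib Cfsg.Agent.Lib.Helper80Trace
  Cfsg.Agent.Lib.Helper80Brauer Cfsg.Agent.Lib.Helper80Transport Cfsg.Agent.Lib.Helper82Quot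
  Cfsg.Agent.Lib.Helper82Major Cfsg.Agent.Lib.Helper78Sec Cfsg.Agent.Lib.Helper81D1Defs
open scoped ComplexConjugate

universe u

variable {G : Type u} [Group G] [Fintype G] {p : ℕ} [Fact p.Prime] {M : Ideal AlgInt}
variable {B : Set (IrrCharacter G)} {P : Subgroup G}
  [Fintype (Subgroup.centralizer (P : Set G))]
  {e : Set (IrrCharacter (Subgroup.centralizer (P : Set G)))}
  {u : Subgroup.centralizer (P : Set G)}

/-- the `(u^t, e)`-part of a class function on `p`-regular elements. -/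
theorem fp_reg (h : Ctx p M B P e u) (hcb : CB p e u)
    {θ : IrrCharacter (Subgroup.centralizer (P : Set G))} (hθ : θ ∈ e) (φ : G → ℂ) (t : ℕ)
    (s : Subgroup.centralizer (P : Set G)) (hs : ¬ p ∣ orderOf s) :
    fp e ((u : G) ^ t) φ s
      = (open Classical in ∑ ζ : IrrCharacter (Subgroup.centralizer (P : Set G)),
          if ζ ∈ e then AA φ (ζ : Subgroup.centralizer (P : Set G) → ℂ)
            * Helper84Subsec2.lam (ζ : Subgroup.centralizer (P : Set G) → ℂ) u ^ t else 0)
        * (θ : Subgroup.centralizer (P : Set G) → ℂ) s := by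
  classical
  have hzt : ∀ k : Subgroup.centralizer (P : Set G), k * u ^ t = u ^ t * k := by
    intro k
    exact ((show Commute k u from h.hcen k).pow_right t)
  have h1 := fp_eq e φ hzt
  rw [Subgroup.coe_pow] at h1
  rw [h1, Finset.sum_apply, Finset.sum_mul]
  apply Finset.sum_congr rfl
  intro ζ _
  rw [Pi.smul_apply, smul_eq_mul]
  split_ifs with hζ
  · rw [lam_pow ζ h.hcen, hcb.reg ζ hζ θ hθ s hs]
    ring
  · ring

theorem fp_reg_irr (h : Ctx p M B P e u) (hcb : CB p e u)
    {θ : IrrCharacter (Subgroup.centralizer (P : Set G))} (hθ : θ ∈ e) (χ : IrrCharacter G) (t : ℕ)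
    (s : Subgroup.centralizer (P : Set G)) (hs : ¬ p ∣ orderOf s) :
    fp e ((u : G) ^ t) (χ : G → ℂ) s
      = dd e u χ t * (θ : Subgroup.centralizer (P : Set G) → ℂ) s := by
  classical
  rw [fp_reg h hcb hθ _ t s hs]
  congr 1
  unfold dd
  apply Finset.sum_congr rfl
  intro ζ _
  split_ifs
  · rw [nA_spec]
  · rfl

/-- piece `ddC` -/
theorem ddC (h : Ctx p M B P e u) (hcb : CB p e u) {n : G} (hn : n ∈ pstab P e) {r : ℕ}
    (hr : n * (u : G) * n⁻¹ = (u : G) ^ r) (χ : IrrCharacter G) (t : ℕ) (ht : t.Coprime p) :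
    dd e u χ (r * t) = dd e u χ t := by
  classical
  have hp : p.Prime := Fact.out
  have hMp := h.hM.2.1.isPrime
  obtain ⟨θ, hθ⟩ := Cfsg.Agent.Lib.Helper81Block.isPBlock_nonempty h.hmax.1.1.2
  have hθ1 : (θ : Subgroup.centralizer (P : Set G) → ℂ) 1 ≠ 0 :=
    Cfsg.Agent.Lib.Helper81Base.irr_one_ne_zero θ
  have h1reg : ¬ p ∣ orderOf (1 : Subgroup.centralizer (P : Set G)) := by
    rw [orderOf_one]; exact hp.one_lt.ne' ∘ Nat.dvd_one.1
  have hrc : r.Coprime p := by
    rw [Nat.coprime_comm, hp.coprime_iff_not_dvd]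
    intro hpr
    have h1 : (u : G) ^ r = 1 := by
      rw [← h.hu] at hpr
      exact orderOf_dvd_iff_pow_eq_one.1 hpr
    rw [h1] at hr
    have h2 : (u : G) = 1 := by
      have h3 : (u : G) = n⁻¹ * (n * (u : G) * n⁻¹) * n := by group
      rw [h3, hr]; group
    have h4 := h.hu
    rw [h2, orderOf_one] at h4
    exact hp.one_lt.ne h4
  have hχ := Cfsg.Agent.Lib.Helper4Char.IsIrrCharacter.isClassFunction χ.2
  have e1 := Cfsg.Agent.Lib.Helper78Sub.sum_ext_eq_fp (h.hH t ht) e hχ 1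
  have e2 := Cfsg.Agent.Lib.Helper78Sub.sum_ext_eq_fp (h.hH (r * t) (Nat.Coprime.mul_left hrc ht))
    e hχ 1
  rw [fp_reg_irr h hcb hθ χ _ 1 h1reg] at e1 e2
  have hE : ∀ c : G, ext (Subgroup.centralizer (P : Set G)) (blockCoeff e) (n * c * n⁻¹)
      = ext (Subgroup.centralizer (P : Set G)) (blockCoeff e) c := by
    intro c
    have h5 := congrFun (Cfsg.Agent.Lib.Helper80Stab.mem_stabFun.1 hn).2 (n * c * n⁻¹)
    unfold cjf at h5
    have h6 : n⁻¹ * (n * c * n⁻¹) * n = c := by group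
    rw [h6] at h5
    exact h5.symm
  have hpow : (u : G) ^ (r * t) = n * (u : G) ^ t * n⁻¹ := by
    rw [pow_mul, ← hr, conj_pow]
  have e3 : ∑ c : G, ext (Subgroup.centralizer (P : Set G)) (blockCoeff e) c *
        (χ : G → ℂ) (c * ((u : G) ^ (r * t) * ((1 : Subgroup.centralizer (P : Set G)) : G)))
      = ∑ c : G, ext (Subgroup.centralizer (P : Set G)) (blockCoeff e) c *
        (χ : G → ℂ) (c * ((u : G) ^ t * ((1 : Subgroup.centralizer (P : Set G)) : G))) := by
    symm
    apply Fintype.sum_equiv (MulAut.conj n).toEquiv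
    intro c
    simp only [MulEquiv.toEquiv_eq_coe, EquivLike.coe_coe, MulAut.conj_apply]
    rw [hE c, hpow]
    congr 1
    have : n * c * n⁻¹ * (n * (u : G) ^ t * n⁻¹ * ((1 : Subgroup.centralizer (P : Set G)) : G))
        = n * (c * ((u : G) ^ t * ((1 : Subgroup.centralizer (P : Set G)) : G))) * n⁻¹ := by
      simp only [Subgroup.coe_one, mul_one]
      group
    rw [this, Cfsg.Agent.Lib.Helper81Base.irr_conj]
  rw [e3, e1] at e2
  exact (mul_right_cancel₀ hθ1 e2).symm

theorem sum_roots_pow (p : ℕ) (hp : p.Prime) (t : ℕ) (ht : t.Coprime p) :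
    ∑ x ∈ Polynomial.nthRootsFinset p (1 : ℂ), x ^ t = 0 := by
  have hprim := Complex.isPrimitiveRoot_exp p hp.ne_zero
  set ω := Complex.exp (2 * Real.pi * Complex.I / p) with hω
  have hωt : ω ^ t ≠ 1 := by
    have := (hprim.pow_of_coprime t ht).ne_one hp.one_lt
    exact this
  have hmem : ∀ x : ℂ, x ∈ Polynomial.nthRootsFinset p (1 : ℂ) ↔ x ^ p = 1 := fun x =>
    Polynomial.mem_nthRootsFinset hp.pos 1
  have h1 : ∑ x ∈ Polynomial.nthRootsFinset p (1 : ℂ), x ^ t = ∑ x ∈ Polynomial.nthRootsFinset p (1 : ℂ), (ω * x) ^ t := by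
    symm
    apply Finset.sum_bij (fun x _ => ω * x)
    · intro x hx
      rw [hmem] at hx ⊢
      rw [mul_pow, hx, hprim.pow_eq_one, one_mul]
    · intro x _ y _ hxy
      exact mul_left_cancel₀ (hprim.ne_zero hp.ne_zero) hxy
    · intro y hy
      refine ⟨ω⁻¹ * y, ?_, ?_⟩
      · rw [hmem] at hy ⊢
        rw [mul_pow, hy, inv_pow, hprim.pow_eq_one]; simp
      · rw [← mul_assoc, mul_inv_cancel₀ (hprim.ne_zero hp.ne_zero), one_mul]
    · intro x _; rfl
  simp only [mul_pow] at h1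
  rw [← Finset.mul_sum] at h1
  have h2 : (1 - ω ^ t) * ∑ x ∈ Polynomial.nthRootsFinset p (1 : ℂ), x ^ t = 0 := by
    rw [sub_mul, one_mul, ← h1, sub_self]
  rcases mul_eq_zero.1 h2 with h3 | h3
  · exact absurd (sub_eq_zero.1 h3).symm hωt
  · exact h3

/-- the central characters of the members of `e` run over all `p`-th roots of unity. -/
theorem sum_lam_pow (h : Ctx p M B P e u) (hcb : CB p e u) (t : ℕ) (ht : t.Coprime p) :
    (open Classical in ∑ ζ : IrrCharacter (Subgroup.centralizer (P : Set G)),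
      if ζ ∈ e then Helper84Subsec2.lam (ζ : Subgroup.centralizer (P : Set G) → ℂ) u ^ t else 0)
      = 0 := by
  classical
  have hp : p.Prime := Fact.out
  have hup : u ^ p = 1 := by
    apply Subtype.ext
    rw [Subgroup.coe_pow, Subgroup.coe_one, ← h.hu]
    exact pow_orderOf_eq_one _
  set S := Finset.univ.filter (fun ζ : IrrCharacter (Subgroup.centralizer (P : Set G)) => ζ ∈ e)
    with hS
  have hScard : S.card = p := by
    rw [← hcb.card, Nat.card_eq_fintype_card, Fintype.card_subtype]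
  have hinj : Set.InjOn
      (fun ζ : IrrCharacter (Subgroup.centralizer (P : Set G)) =>
        Helper84Subsec2.lam (ζ : Subgroup.centralizer (P : Set G) → ℂ) u) S := by
    intro ζ hζ ξ hξ hh
    exact hcb.inj ζ (Finset.mem_filter.1 hζ).2 ξ (Finset.mem_filter.1 hξ).2 hh
  have himg : S.image (fun ζ : IrrCharacter (Subgroup.centralizer (P : Set G)) =>
        Helper84Subsec2.lam (ζ : Subgroup.centralizer (P : Set G) → ℂ) u)
      = Polynomial.nthRootsFinset p (1 : ℂ) := by
    apply Finset.eq_of_subset_of_card_le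
    · intro w hw
      obtain ⟨ζ, -, rfl⟩ := Finset.mem_image.1 hw
      rw [Polynomial.mem_nthRootsFinset hp.pos]
      exact lam_pow_eq_one ζ h.hcen hup
    · rw [Finset.card_image_of_injOn hinj, hScard,
        (Complex.isPrimitiveRoot_exp p hp.ne_zero).card_nthRootsFinset]
  rw [← Finset.sum_filter, ← sum_roots_pow p hp t ht, ← himg, Finset.sum_image hinj]

/-- piece `vanA` -/
theorem vanA (h : Ctx p M B P e u) (hcb : CB p e u) (y : IrrCharacter G → ℤ)
    (hy : ∀ ζ ∈ e, ∀ ξ ∈ e, ∑ χ : IrrCharacter G, y χ * ((nA χ ζ : ℤ) - nA χ ξ) = 0)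
    (t : ℕ) (ht : t.Coprime p) :
    SP p ((u : G) ^ t) (pfun P e) (gc y) = 0 := by
  classical
  have hp : p.Prime := Fact.out
  have hMp := h.hM.2.1.isPrime
  obtain ⟨θ, hθ⟩ := Cfsg.Agent.Lib.Helper81Block.isPBlock_nonempty h.hmax.1.1.2
  have hcl : IsClassFunction G (gc y) := by
    intro g k
    unfold gc
    apply Finset.sum_congr rfl
    intro χ _
    rw [Cfsg.Agent.Lib.Helper81Base.irr_conj]
  have hzo : ∃ k : ℕ, orderOf ((u : G) ^ t) = p ^ k := by
    refine ⟨1, ?_⟩
    rw [pow_one, Nat.Coprime.orderOf_pow (by rw [h.hu]; exact ht.symm), h.hu]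
  have hAA : ∀ ζ : IrrCharacter (Subgroup.centralizer (P : Set G)),
      AA (gc y) (ζ : Subgroup.centralizer (P : Set G) → ℂ)
        = ((∑ χ : IrrCharacter G, y χ * (nA χ ζ : ℤ) : ℤ) : ℂ) := by
    intro ζ
    unfold AA
    have e2 : (fun k : Subgroup.centralizer (P : Set G) => gc y (k : G))
        = ∑ χ : IrrCharacter G, (y χ : ℂ) •
          (fun k : Subgroup.centralizer (P : Set G) => (χ : G → ℂ) (k : G)) := by
      funext c
      simp [gc, Finset.sum_apply]
    rw [e2, Cfsg.Agent.Lib.Helper4Char.classInner_sum_left]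
    push_cast
    apply Finset.sum_congr rfl
    intro χ _
    rw [Cfsg.Agent.Lib.Helper4Char.classInner_smul_left, ← nA_spec]
    rfl
  have hconst : ∀ ζ ∈ e, AA (gc y) (ζ : Subgroup.centralizer (P : Set G) → ℂ)
      = AA (gc y) (θ : Subgroup.centralizer (P : Set G) → ℂ) := by
    intro ζ hζ
    rw [hAA, hAA]
    have h1 := hy ζ hζ θ hθ
    simp only [mul_sub] at h1
    rw [Finset.sum_sub_distrib] at h1
    have h2 : ∑ χ : IrrCharacter G, y χ * (nA χ ζ : ℤ) = ∑ χ : IrrCharacter G, y χ * (nA χ θ : ℤ) := by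
      linarith
    rw [h2]
  funext g
  rw [Pi.zero_apply]
  by_cases hg : ∃ k : G, IsPPart p (k * g * k⁻¹) ((u : G) ^ t)
  · obtain ⟨k, s, hs1, hs2, -, hs3⟩ := hg
    rw [← SP_isClassFunction ((u : G) ^ t) (pfun P e) (gc y) g k, ← hs1]
    have hsH : s ∈ Subgroup.centralizer (P : Set G) := by
      rw [h.hH t ht, Subgroup.mem_centralizer_singleton_iff]
      exact hs2.symm.eq
    have hs3' : ¬ p ∣ orderOf (⟨s, hsH⟩ : Subgroup.centralizer (P : Set G)) := by
      rw [← Subgroup.orderOf_coe]; exact hs3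
    have h3 := Cfsg.Agent.Lib.Helper78Sub.SP_apply hp hzo (h.hH t ht) e hcl ⟨s, hsH⟩ hs3'
    simp only at h3
    rw [show pfun P e = ext (Subgroup.centralizer (P : Set G)) (blockCoeff e) from rfl, h3,
      fp_reg h hcb hθ _ t _ hs3']
    have h4 : (∑ ζ : IrrCharacter (Subgroup.centralizer (P : Set G)),
          if ζ ∈ e then AA (gc y) (ζ : Subgroup.centralizer (P : Set G) → ℂ)
            * Helper84Subsec2.lam (ζ : Subgroup.centralizer (P : Set G) → ℂ) u ^ t else 0)
        = AA (gc y) (θ : Subgroup.centralizer (P : Set G) → ℂ) *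
          ∑ ζ : IrrCharacter (Subgroup.centralizer (P : Set G)),
            if ζ ∈ e then Helper84Subsec2.lam (ζ : Subgroup.centralizer (P : Set G) → ℂ) u ^ t
            else 0 := by
      rw [Finset.mul_sum]
      apply Finset.sum_congr rfl
      intro ζ _
      split_ifs with hζ
      · rw [hconst ζ hζ]
      · simp
    rw [h4, sum_lam_pow h hcb t ht, mul_zero, zero_mul]
  · exact SP_eq_zero hg

end Cfsg.Agent.Lib.Helper81D1DdC
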