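import Mathlib
import Cfsg.Agent.Lib.Helper81D1Defs

set_option autoImplicit false
set_option linter.unusedVariables false
set_option linter.unusedSectionVars false

/-! PROJECT 81, piece `quot`. -/

namespace Cfsg.Agent.Lib.Helper81D1Quot

open Cfsg
open Cfsg.Agent.Lib.Helper81Local Cfsg.Agent.Lib.Helper82Quot Cfsg.Agent.Lib.Helper81D1Defs
  Cfsg.Agent.Lib.Helper81Block
open scoped ComplexConjugate

universe u

variable {K : Type u} [Group K] [Fintype K] {p : ℕ} [Fact p.Prime] {M : Ideal AlgInt}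

/-- piece `quot` -/
theorem quot_block (hM : IsPModular p M) {b : Set (IrrCharacter K)} (hb : IsPBlock M b)
    (Z : Subgroup K) [Z.Normal] [Fintype (K ⧸ Z)] (hZc : Z ≤ Subgroup.center K)
    (hZ : Nat.card Z = p) :
    ∃ β : Set (IrrCharacter (K ⧸ Z)), IsPBlock M β ∧ (∀ ψ ∈ β, inflate Z ψ ∈ b) ∧
      blockDefect p β + 1 = blockDefect p b ∧ blockRank p β = blockRank p b := by
  classical
  have hp : p.Prime := Fact.out
  have hMp := hM.2.1.isPrime
  have hZp : IsPGroup p Z := IsPGroup.of_card (n := 1) (by rw [hZ, pow_one])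
  obtain ⟨β, hβ, hβb, hβD⟩ := Cfsg.Agent.Lib.Helper21Quot2.exists_dominated hM Z hZp hb
  refine ⟨β, hβ, hβb, ?_, ?_⟩
  · obtain ⟨P, hP⟩ := Cfsg.Agent.Lib.Helper20Induced.exists_defectGroup hM hb
    have hZP : Z ≤ P := Cfsg.Agent.Lib.Helper20Brauer.le_defectGroup_of_normal hM Z hZp hb hP
    have hDbar : IsDefectGroup p M β (P.map (QuotientGroup.mk' Z)) := (hβD _).2 ⟨P, hP, rfl⟩
    have h1 := Cfsg.Agent.Lib.Helper20DefCard.card_defectGroup hM hb hP
    have h2 := Cfsg.Agent.Lib.Helper20DefCard.card_defectGroup hM hβ hDbar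
    have h3 : (P.map (QuotientGroup.mk' Z)).index = P.index := by
      rw [Subgroup.index_map, QuotientGroup.ker_mk', sup_eq_left.2 hZP,
        MonoidHom.range_eq_top.2 (QuotientGroup.mk'_surjective Z), Subgroup.index_top, mul_one]
    have h4 := Subgroup.card_mul_index P
    have h5 := Subgroup.card_mul_index (P.map (QuotientGroup.mk' Z))
    have h6 := Subgroup.card_eq_card_quotient_mul_card_subgroup Z
    rw [h3] at h5
    have hidx : 0 < P.index := Nat.pos_of_ne_zero Subgroup.index_ne_zero_of_finite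
    have h7 : Nat.card P = Nat.card (P.map (QuotientGroup.mk' Z)) * p := by
      apply Nat.eq_of_mul_eq_mul_right hidx
      rw [h4, h6, ← h5, hZ]
      ring
    rw [h1, h2, ← pow_succ] at h7
    exact (Nat.pow_right_injective hp.two_le h7).symm
  · obtain ⟨χ₀, hχ₀⟩ := isPBlock_nonempty hβ
    have hsup : Z ⊔ Subgroup.centralizer (Z : Set K) = ⊤ := by
      rw [eq_top_iff]
      refine le_trans ?_ le_sup_right
      intro g _
      rw [Subgroup.mem_centralizer_iff]
      intro x hx
      exact (Subgroup.mem_center_iff.1 (hZc hx) g).symm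
    have h1 := Cfsg.Agent.Lib.Helper21Rank.blockRank_inflate Z hM hZp hsup χ₀
    rw [← isPBlock_eq_blockOf hβ hχ₀, ← isPBlock_eq_blockOf hb (hβb χ₀ hχ₀)] at h1
    exact h1.symm

end Cfsg.Agent.Lib.Helper81D1Quot
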