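import Mathlib
import Cfsg.Agent.Lib.Helper81D1Defs

set_option autoImplicit false
set_option linter.unusedVariables false
set_option linter.unusedSectionVars false

/-! PROJECT 81, pieces `vanC`, `vanB`. -/

namespace Cfsg.Agent.Lib.Helper81D1VanC

open Cfsg
open Cfsg.Agent.Lib.Helper81Local Cfsg.Agent.Lib.Helper81Rank Cfsg.Agent.Lib.Helper84Subsec
  Cfsg.Agent.Lib.Helper84Subsec2 Cfsg.Agent.Lib.Helper84Contrib Cfsg.Agent.Lib.Helper80Trace
  Cfsg.Agent.Lib.Helper80Brauer Cfsg.Agent.Lib.Helper80Transport Cfsg.Agent.Lib.Helper82Quot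
  Cfsg.Agent.Lib.Helper82Major Cfsg.Agent.Lib.Helper78Sec Cfsg.Agent.Lib.Helper81D1Defs
  Cfsg.Agent.Lib.Helper81Subsec Cfsg.Agent.Lib.Helper81Block
open scoped ComplexConjugate

universe u

variable {G : Type u} [Group G] [Fintype G] {p : ℕ} [Fact p.Prime] {M : Ideal AlgInt}
variable {B : Set (IrrCharacter G)}

theorem gc_isClassFunction (y : IrrCharacter G → ℤ) : IsClassFunction G (gc y) := by
  intro g h
  unfold gc
  apply Finset.sum_congr rfl
  intro χ _
  rw [Cfsg.Agent.Lib.Helper81Base.irr_conj]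

/-- piece `vanC` -/
theorem vanC (hM : IsPModular p M) (hB : IsPBlock M B) (y : IrrCharacter G → ℤ)
    (hyB : ∀ χ, χ ∉ B → y χ = 0) (x : G) (hx : ∃ k : ℕ, orderOf x = p ^ k)
    (hloc : ∀ b' : Set (IrrCharacter (Subgroup.centralizer ({x} : Set G))),
      IsInducedBlock M (Subgroup.centralizer ({x} : Set G)) b' B →
        SP p x (ext (Subgroup.centralizer ({x} : Set G)) (blockCoeff b')) (gc y) = 0)
    (s : G) (hs : s * x = x * s) (hs' : ¬ p ∣ orderOf s) : gc y (x * s) = 0 := by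
  classical
  have hp : p.Prime := Fact.out
  have hMp := hM.2.1.isPrime
  let _ : Fintype (Subgroup.centralizer ({x} : Set G)) := Fintype.ofFinite _
  set C := Subgroup.centralizer ({x} : Set G) with hC
  set s₀ : C := ⟨s, Subgroup.mem_centralizer_singleton_iff.mpr hs⟩ with hs₀
  have hs₀' : ¬ p ∣ orderOf s₀ := by
    rw [← Subgroup.orderOf_coe]; exact hs'
  set F : IrrCharacter C → ℂ := fun ζ => ∑ χ : IrrCharacter G, (y χ : ℂ) *
    (classInner (fun c : C => (χ : G → ℂ) (x * (c : G))) (ζ : C → ℂ) * (ζ : C → ℂ) s₀) with hF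
  have h1 : gc y (x * s) = ∑ ζ : IrrCharacter C, if ζ ∈ overSet M x B then F ζ else 0 := by
    unfold gc
    have e : ∀ χ : IrrCharacter G, (y χ : ℂ) * (χ : G → ℂ) (x * s)
        = (y χ : ℂ) * ∑ ζ : IrrCharacter C, if ζ ∈ overSet M x B then
          classInner (fun c : C => (χ : G → ℂ) (x * (c : G))) (ζ : C → ℂ) * (ζ : C → ℂ) s₀
          else 0 := by
      intro χ
      by_cases hχ : χ ∈ B
      · have := blockPart_overSet hM hB x hx χ s₀ hs₀'
        rw [if_pos hχ, blockPart_apply] at this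
        rw [this]
      · rw [hyB χ hχ]; simp
    simp only [e, Finset.mul_sum]
    rw [Finset.sum_comm]
    apply Finset.sum_congr rfl
    intro ζ _
    split_ifs
    · rfl
    · simp
  rw [h1]
  apply sum_union_eq_zero (isBlockUnion_overSet x B)
  intro b' hb' hsub
  obtain ⟨ψ, hψ⟩ := isPBlock_nonempty hb'
  have hind : IsInducedBlock M C b' B := by
    have h2 : ψ ∈ overSet M x B := hsub hψ
    have h3 : b' = blockOf M (ψ : C → ℂ) := isPBlock_eq_blockOf hb' hψ
    rw [h3]
    exact h2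
  have h4 := congrFun (hloc b' hind) (x * (s₀ : G))
  rw [Cfsg.Agent.Lib.Helper78Sub.SP_apply hp hx rfl b' (gc_isClassFunction y) s₀ hs₀'] at h4
  unfold fp at h4
  rw [blockPart_apply] at h4
  rw [Pi.zero_apply] at h4
  refine Eq.trans ?_ h4
  apply Finset.sum_congr rfl
  intro ζ _
  split_ifs
  · rw [hF]
    simp only
    have e2 : (fun c : C => gc y (x * (c : G)))
        = ∑ χ : IrrCharacter G, (y χ : ℂ) • (fun c : C => (χ : G → ℂ) (x * (c : G))) := by
      funext c
      simp [gc, Finset.sum_apply]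
    rw [e2, Cfsg.Agent.Lib.Helper4Char.classInner_sum_left, Finset.sum_mul]
    apply Finset.sum_congr rfl
    intro χ _
    rw [Cfsg.Agent.Lib.Helper4Char.classInner_smul_left]
    ring
  · rfl

variable {P : Subgroup G} {e : Set (IrrCharacter (Subgroup.centralizer (P : Set G)))}
  {u : Subgroup.centralizer (P : Set G)}

/-- piece `vanB` -/
theorem vanB (h : Ctx p M B P e u) {x : G} (hx : ∃ k : ℕ, orderOf x = p ^ k) (hx1 : x ≠ 1)
    {b' : Set (IrrCharacter (Subgroup.centralizer ({x} : Set G)))}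
    (hb' : IsInducedBlock M (Subgroup.centralizer ({x} : Set G)) b' B) :
    ∃ g : G, g * x * g⁻¹ ∈ P ∧
      cjf g (ext (Subgroup.centralizer ({x} : Set G)) (blockCoeff b')) = pfun P e := by
  classical
  have hp : p.Prime := Fact.out
  obtain ⟨f, hf, hpf⟩ := Cfsg.Agent.Lib.Helper83Klein3.exists_pair_of_subsection h.hM hx hb'
  obtain ⟨y, hy⟩ := Cfsg.Agent.Lib.Helper80Conj.exists_conj_le_maximal h.hM h.hmax
    (a := ⟨Subgroup.zpowers x, f⟩) hf
  have hcard : Nat.card P ≤ Nat.card (Cfsg.Agent.Lib.Helper80Conj.cjPair y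
      (⟨Subgroup.zpowers x, f⟩ : BrauerPairIdx G)).1 := by
    rw [Cfsg.Agent.Lib.Helper80Conj.cjPair_fst, Cfsg.Agent.Lib.Helper87Sylow.card_cj, h.hP,
      Nat.card_zpowers]
    obtain ⟨k, hk⟩ := hx
    rw [hk]
    have hk0 : k ≠ 0 := by
      rintro rfl
      rw [pow_zero] at hk
      exact hx1 (orderOf_eq_one_iff.1 hk)
    exact Nat.le_self_pow hk0 p
  have heq := Cfsg.Agent.Lib.Helper80Abel.eq_of_ple_of_card h.hM hy hcard
  refine ⟨y, ?_, ?_⟩
  · have h1 := congrArg Sigma.fst heq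
    rw [Cfsg.Agent.Lib.Helper80Conj.cjPair_fst] at h1
    simp only at h1
    rw [← h1, Cfsg.Agent.Lib.Helper87Sylow.mem_cj]
    have : y⁻¹ * (y * x * y⁻¹) * y = x := by group
    rw [this]
    exact Subgroup.mem_zpowers x
  · have h2 := congrArg Cfsg.Agent.Lib.Helper80Conj.pairFun heq
    rw [Cfsg.Agent.Lib.Helper80Conj.pairFun_cjPair] at h2
    rw [← hpf]
    exact h2

end Cfsg.Agent.Lib.Helper81D1VanC
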