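import Mathlib
import Cfsg.Agent.Lib.Helper81D1Defs

set_option autoImplicit false
set_option linter.unusedVariables false
set_option linter.unusedSectionVars false

/-!
PROJECT 81, part E: basic facts on `lift` (coefficient vectors transported by inflation).
-/

namespace Cfsg.Agent.Lib.Helper82D1LiftBase

open Cfsg
open Cfsg.Agent.Lib.Helper81Local Cfsg.Agent.Lib.Helper81Rank Cfsg.Agent.Lib.Helper84Subsec
  Cfsg.Agent.Lib.Helper84Subsec2 Cfsg.Agent.Lib.Helper84Contrib Cfsg.Agent.Lib.Helper80Trace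
  Cfsg.Agent.Lib.Helper80Brauer Cfsg.Agent.Lib.Helper80Transport Cfsg.Agent.Lib.Helper82Quot
  Cfsg.Agent.Lib.Helper82Major Cfsg.Agent.Lib.Helper78Sec Cfsg.Agent.Lib.Helper81D1Defs
open scoped ComplexConjugate

section abs

variable {K : Type*} [Group K] [Fintype K]

theorem lift_inflate (Z : Subgroup K) [Z.Normal] [Fintype (K ⧸ Z)]
    (m : IrrCharacter (K ⧸ Z) → ℤ) (ψ : IrrCharacter (K ⧸ Z)) :
    lift Z m (inflate Z ψ) = m ψ := by
  classical
  unfold lift
  rw [Finset.sum_eq_single ψ]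
  · simp
  · intro ψ' _ hne
    rw [if_neg]
    intro h
    exact hne (inflate_injective Z h)
  · intro h; exact absurd (Finset.mem_univ _) h

theorem lift_add (Z : Subgroup K) [Z.Normal] [Fintype (K ⧸ Z)]
    (m n : IrrCharacter (K ⧸ Z) → ℤ) : lift Z (m + n) = lift Z m + lift Z n := by
  classical
  funext ζ
  simp only [lift, Pi.add_apply]
  rw [← Finset.sum_add_distrib]
  apply Finset.sum_congr rfl
  intro ψ _
  split_ifs <;> simp

theorem lift_smul (Z : Subgroup K) [Z.Normal] [Fintype (K ⧸ Z)] (c : ℤ)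
    (m : IrrCharacter (K ⧸ Z) → ℤ) : lift Z (c • m) = c • lift Z m := by
  classical
  funext ζ
  simp only [lift, Pi.smul_apply, smul_eq_mul]
  rw [Finset.mul_sum]
  apply Finset.sum_congr rfl
  intro ψ _
  split_ifs <;> simp

theorem lift_zero (Z : Subgroup K) [Z.Normal] [Fintype (K ⧸ Z)] :
    lift Z (0 : IrrCharacter (K ⧸ Z) → ℤ) = 0 := by
  classical
  funext ζ
  simp [lift]

theorem lift_sub (Z : Subgroup K) [Z.Normal] [Fintype (K ⧸ Z)]
    (m n : IrrCharacter (K ⧸ Z) → ℤ) : lift Z (m - n) = lift Z m - lift Z n := by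
  classical
  funext ζ
  simp only [lift, Pi.sub_apply]
  rw [← Finset.sum_sub_distrib]
  apply Finset.sum_congr rfl
  intro ψ _
  split_ifs <;> simp

theorem lift_sum (Z : Subgroup K) [Z.Normal] [Fintype (K ⧸ Z)] {I : Type*} (s : Finset I)
    (w : I → IrrCharacter (K ⧸ Z) → ℤ) : lift Z (∑ i ∈ s, w i) = ∑ i ∈ s, lift Z (w i) := by
  classical
  induction s using Finset.induction_on with
  | empty => simp [lift_zero]
  | insert a s ha ih => rw [Finset.sum_insert ha, Finset.sum_insert ha, lift_add, ih]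

end abs

section loc

variable {G : Type*} [Group G] [Fintype G] {p : ℕ} [Fact p.Prime] {M : Ideal AlgInt}
variable {H : Subgroup G} [Fintype H]

theorem FF_lift (b : Set (IrrCharacter H)) (Z : Subgroup H) [Z.Normal] [Fintype (H ⧸ Z)]
    (m : IrrCharacter (H ⧸ Z) → ℤ) (hmb : ∀ ψ, m ψ ≠ 0 → inflate Z ψ ∈ b) :
    FF b (lift Z m) = fun h : H => gc m (h : H ⧸ Z) := by
  classical
  funext h
  unfold FF gc
  rw [Finset.sum_apply]
  simp only [Pi.smul_apply, smul_eq_mul]
  have h1 : ∀ ξ : IrrCharacter H, (if ξ ∈ b then ((lift Z m ξ : ℤ) : ℂ) else 0) * (ξ : H → ℂ) h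
      = ∑ ψ : IrrCharacter (H ⧸ Z), if inflate Z ψ = ξ then
          (m ψ : ℂ) * (ψ : H ⧸ Z → ℂ) (h : H ⧸ Z) else 0 := by
    intro ξ
    unfold lift
    by_cases hξ : ξ ∈ b
    · rw [if_pos hξ]
      push_cast
      rw [Finset.sum_mul]
      apply Finset.sum_congr rfl
      intro ψ _
      split_ifs with h2
      · rw [← h2, inflate_apply]
      · simp
    · rw [if_neg hξ, zero_mul]
      symm
      apply Finset.sum_eq_zero
      intro ψ _
      split_ifs with h2
      · have : m ψ = 0 := by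
          by_contra h3
          exact hξ (h2 ▸ hmb ψ h3)
        rw [this]; simp
      · rfl
  simp only [h1]
  rw [Finset.sum_comm]
  apply Finset.sum_congr rfl
  intro ψ _
  rw [Finset.sum_ite_eq]
  simp

theorem yy_zero (b : Set (IrrCharacter H)) (z : H) (t : ℕ) (χ : IrrCharacter G) :
    yy p b z t χ 0 = 0 := by
  have := yy_smul (p := p) b z t χ 0 0
  simpa using this

theorem yy_sum (b : Set (IrrCharacter H)) (z : H) (t : ℕ) (χ : IrrCharacter G) {I : Type*}
    (s : Finset I) (w : I → IrrCharacter H → ℤ) :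
    yy p b z t χ (∑ i ∈ s, w i) = ∑ i ∈ s, yy p b z t χ (w i) := by
  classical
  induction s using Finset.induction_on with
  | empty => simp [yy_zero]
  | insert a s ha ih => rw [Finset.sum_insert ha, Finset.sum_insert ha, yy_add, ih]

end loc

end Cfsg.Agent.Lib.Helper82D1LiftBase
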