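import Mathlib
import Cfsg.Agent.Lib.Helper81D1Defs
import Cfsg.Agent.Lib.Helper82D1LiftBase

set_option autoImplicit false
set_option linter.unusedVariables false
set_option linter.unusedSectionVars false

/-!
PROJECT 81, piece `liftA`: divisibility by `p` of `bet (single ζ) (lift m)` when `gc m` vanishes
on the `p`-singular elements of the quotient.
-/

namespace Cfsg.Agent.Lib.Helper82D1LiftA

open Cfsg
open Cfsg.Agent.Lib.Helper81Local Cfsg.Agent.Lib.Helper81Rank Cfsg.Agent.Lib.Helper84Subsec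
  Cfsg.Agent.Lib.Helper84Subsec2 Cfsg.Agent.Lib.Helper84Contrib Cfsg.Agent.Lib.Helper80Trace
  Cfsg.Agent.Lib.Helper80Brauer Cfsg.Agent.Lib.Helper80Transport Cfsg.Agent.Lib.Helper82Quot
  Cfsg.Agent.Lib.Helper82Major Cfsg.Agent.Lib.Helper78Sec Cfsg.Agent.Lib.Helper81D1Defs
  Cfsg.Agent.Lib.Helper82D1LiftBase
open scoped ComplexConjugate

universe u

section abs

variable {K : Type*} [Group K]

theorem centralizer_inv (x : K) :
    Subgroup.centralizer ({x⁻¹} : Set K) = Subgroup.centralizer ({x} : Set K) := by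
  ext g
  rw [Subgroup.mem_centralizer_singleton_iff, Subgroup.mem_centralizer_singleton_iff]
  exact (Commute.inv_right_iff (a := g) (b := x))

theorem cent_card [Finite K] (Z : Subgroup K) [Z.Normal] (h : K) :
    ∃ n : ℕ, Nat.card Z * Nat.card (Subgroup.centralizer ({(h : K ⧸ Z)} : Set (K ⧸ Z)))
      = n * Nat.card (Subgroup.centralizer ({h} : Set K)) := by
  set C := Subgroup.centralizer ({(h : K ⧸ Z)} : Set (K ⧸ Z)) with hC
  set E := C.comap (QuotientGroup.mk' Z) with hE
  have hle : Subgroup.centralizer ({h} : Set K) ≤ E := by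
    intro g hg
    rw [hE, Subgroup.mem_comap, hC, Subgroup.mem_centralizer_singleton_iff]
    have := Subgroup.mem_centralizer_singleton_iff.1 hg
    have h2 := congrArg (QuotientGroup.mk' Z) this
    simpa using h2
  have hidx : E.index = C.index :=
    Subgroup.index_comap_of_surjective C (QuotientGroup.mk'_surjective Z)
  have h1 := E.card_mul_index
  have h2 := C.card_mul_index
  have h3 := Subgroup.card_eq_card_quotient_mul_card_subgroup Z
  have h4 : Nat.card E = Nat.card Z * Nat.card C := by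
    have h5 : Nat.card E * C.index = (Nat.card Z * Nat.card C) * C.index := by
      rw [← hidx, h1, h3, ← h2, hidx]; ring
    exact Nat.eq_of_mul_eq_mul_right (Nat.pos_of_ne_zero C.index_ne_zero_of_finite) h5
  obtain ⟨n, hn⟩ := Subgroup.card_dvd_of_le hle
  exact ⟨n, by rw [← h4, hn]; ring⟩

theorem gc_inv [Fintype K] (m : IrrCharacter K → ℤ) (x : K) : gc m x⁻¹ = conj (gc m x) := by
  unfold gc
  rw [map_sum]
  apply Finset.sum_congr rfl
  intro χ _
  rw [map_mul, map_intCast, Cfsg.Agent.Lib.Helper81Base.irr_inv]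

theorem gc_conj [Fintype K] (m : IrrCharacter K → ℤ) (x g : K) : gc m (g * x * g⁻¹) = gc m x := by
  unfold gc
  apply Finset.sum_congr rfl
  intro χ _
  rw [Cfsg.Agent.Lib.Helper81Base.irr_conj]

end abs

variable {G : Type u} [Group G] [Fintype G] {p : ℕ} [Fact p.Prime] {M : Ideal AlgInt}
variable {H : Subgroup G} [Fintype H]

/-- piece `liftA` -/
theorem liftA (hM : IsPModular p M) {b : Set (IrrCharacter H)} (hb : IsPBlock M b)
    (hd : blockDefect p b = 2) (Z : Subgroup H) [Z.Normal] [Fintype (H ⧸ Z)]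
    (hZc : Z ≤ Subgroup.center H) (hZ : Nat.card Z = p)
    (m : IrrCharacter (H ⧸ Z) → ℤ) (hmb : ∀ ψ, m ψ ≠ 0 → inflate Z ψ ∈ b)
    (hv : ∀ g : H ⧸ Z, p ∣ orderOf g → gc m g = 0) (ζ : IrrCharacter H) :
    (p : ℤ) ∣ bet p b (Pi.single ζ 1) (lift Z m) := by
  classical
  have hMp := hM.2.1.isPrime
  have hp : p.Prime := Fact.out
  by_cases hζ : ζ ∈ b
  swap
  · rw [bet_single_of_not_mem hζ]; exact dvd_zero _
  rw [← memLocalIdeal_intCast_iff hM, bet_single_of_mem hζ, FF_lift b Z m hmb, hd]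
  set α : H → ℂ := fun y => if ¬ p ∣ orderOf y then (ζ : H → ℂ) y * conj (gc m (y : H ⧸ Z)) else 0
    with hα
  have hcl : IsClassFunction H α := by
    intro g h
    have ho : orderOf (h * g * h⁻¹) = orderOf g := (MulAut.conj h).orderOf_eq _
    simp only [hα]
    rw [ho, Cfsg.Agent.Lib.Helper81Base.irr_conj]
    have : ((h * g * h⁻¹ : H) : H ⧸ Z) = (h : H ⧸ Z) * (g : H ⧸ Z) * (h : H ⧸ Z)⁻¹ := by
      simp
    rw [this, gc_conj]
  have hloc : ∀ h : H, MemLocalRing M ((p : ℂ) * α h /
      (Nat.card (Subgroup.centralizer ({h} : Set H)) : ℂ)) := by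
    intro h
    obtain ⟨n, hn⟩ := cent_card Z h
    rw [hZ] at hn
    have hc1 : (Nat.card (Subgroup.centralizer ({h} : Set H)) : ℂ) ≠ 0 := by
      exact_mod_cast Nat.card_pos.ne'
    have hc2 : (Nat.card (Subgroup.centralizer ({(h : H ⧸ Z)} : Set (H ⧸ Z))) : ℂ) ≠ 0 := by
      exact_mod_cast Nat.card_pos.ne'
    have hn' : (p : ℂ) * (Nat.card (Subgroup.centralizer ({(h : H ⧸ Z)} : Set (H ⧸ Z))) : ℂ)
        = (n : ℂ) * (Nat.card (Subgroup.centralizer ({h} : Set H)) : ℂ) := by
      exact_mod_cast hn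
    have e1 : (p : ℂ) * α h / (Nat.card (Subgroup.centralizer ({h} : Set H)) : ℂ)
        = (n : ℂ) * (α h /
          (Nat.card (Subgroup.centralizer ({(h : H ⧸ Z)} : Set (H ⧸ Z))) : ℂ)) := by
      field_simp
      linear_combination (α h) * hn'
    rw [e1]
    apply memLocalRing_mul (memLocalRing_natCast _)
    simp only [hα]
    split_ifs with ho
    · rw [zero_div]; exact MemLocalIdeal.memLocalRing memLocalIdeal_zero
    · rw [mul_div_assoc]
      apply memLocalRing_mul
        (memLocalRing_of_isIntegral (Cfsg.Agent.Lib.Helper81BB.irr_integral ζ h))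
      have h5 := Cfsg.Agent.Lib.Helper84KleinB.vanish_div hM Finset.univ
        (fun χ : IrrCharacter (H ⧸ Z) => χ) (fun χ => (m χ : ℂ))
        (fun i _ => memLocalRing_intCast _) (fun y hy => hv y hy) ((h : H ⧸ Z)⁻¹)
      rw [centralizer_inv] at h5
      rw [← gc_inv]
      exact h5
  have hsum : regInner p (ζ : H → ℂ) (fun h : H => gc m (h : H ⧸ Z))
      = ∑ C : ConjClasses H, α (Quotient.out C) /
        (Nat.card (Subgroup.centralizer ({Quotient.out C} : Set H)) : ℂ) := by
    unfold regInner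
    have : ∑ y : H, (if ¬ p ∣ orderOf y then (ζ : H → ℂ) y * conj (gc m (y : H ⧸ Z)) else 0)
        = ∑ y : H, α y := rfl
    rw [this, Cfsg.Agent.Lib.Helper81Block.sum_classfn hcl, Finset.mul_sum]
    apply Finset.sum_congr rfl
    intro C _
    have h6 := Cfsg.Agent.Lib.Helper81Block.card_centralizer_mul_index (Quotient.out C : H)
    have hc1 : (Nat.card (Subgroup.centralizer ({(Quotient.out C : H)} : Set H)) : ℂ) ≠ 0 := by
      exact_mod_cast Nat.card_pos.ne'
    have hH : (Nat.card H : ℂ) ≠ 0 := Cfsg.Agent.Lib.Helper81Base.card_ne_zero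
    have hi : ((Subgroup.centralizer ({(Quotient.out C : H)} : Set H)).index : ℂ) ≠ 0 := by
      intro h0
      rw [h0, mul_zero] at h6
      exact hH h6.symm
    rw [← h6]
    field_simp
  rw [hsum]
  have e2 : (p : ℂ) ^ 2 * ∑ C : ConjClasses H, α (Quotient.out C) /
        (Nat.card (Subgroup.centralizer ({Quotient.out C} : Set H)) : ℂ)
      = (∑ C : ConjClasses H, (p : ℂ) * α (Quotient.out C) /
        (Nat.card (Subgroup.centralizer ({Quotient.out C} : Set H)) : ℂ)) * (p : ℂ) := by
    rw [Finset.mul_sum, Finset.sum_mul]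
    apply Finset.sum_congr rfl
    intro C _
    ring
  rw [e2]
  exact memLocalIdeal_mul (memLocalRing_sum _ _ (fun C _ => hloc _)) (memLocalIdeal_p hM)

end Cfsg.Agent.Lib.Helper82D1LiftA
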