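import Mathlib
import Cfsg.Agent.Lib.Helper81D1Defs
import Cfsg.Agent.Lib.Helper82D1LiftBase

set_option autoImplicit false
set_option linter.unusedVariables false
set_option linter.unusedSectionVars false

/-!
PROJECT 81, piece `liftB`: `bet (lift m) (lift m) ≤ p |m|^2`.
-/

namespace Cfsg.Agent.Lib.Helper82D1LiftB

open Cfsg
open Cfsg.Agent.Lib.Helper81Local Cfsg.Agent.Lib.Helper81Rank Cfsg.Agent.Lib.Helper84Subsec
  Cfsg.Agent.Lib.Helper84Subsec2 Cfsg.Agent.Lib.Helper84Contrib Cfsg.Agent.Lib.Helper80Trace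
  Cfsg.Agent.Lib.Helper80Brauer Cfsg.Agent.Lib.Helper80Transport Cfsg.Agent.Lib.Helper82Quot
  Cfsg.Agent.Lib.Helper82Major Cfsg.Agent.Lib.Helper78Sec Cfsg.Agent.Lib.Helper81D1Defs
  Cfsg.Agent.Lib.Helper82D1LiftBase
open scoped ComplexConjugate

universe u

section abs

variable {K : Type*} [Group K]

/-- the quotient map by a central subgroup of order `p` is injective on `p`-regular elements. -/
theorem reg_inj [Finite K] {p : ℕ} (hp : p.Prime) (Z : Subgroup K) [Z.Normal]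
    (hZc : Z ≤ Subgroup.center K) (hZ : Nat.card Z = p) {h h' : K}
    (hh : ¬ p ∣ orderOf h) (hh' : ¬ p ∣ orderOf h') (e : (h : K ⧸ Z) = (h' : K ⧸ Z)) : h = h' := by
  have hz : h⁻¹ * h' ∈ Z := QuotientGroup.eq.1 e
  set z := h⁻¹ * h' with hzdef
  have hc : Commute h z := (Subgroup.mem_center_iff.1 (hZc hz) h)
  have e1 : h' = h * z := by rw [hzdef]; group
  set n := orderOf h * orderOf h' with hn
  have h1 : h' ^ n = 1 := by rw [hn, pow_mul', pow_orderOf_eq_one, one_pow]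
  have h2 : h ^ n = 1 := by rw [hn, pow_mul, pow_orderOf_eq_one, one_pow]
  have h3 : z ^ n = 1 := by
    rw [e1, hc.mul_pow, h2, one_mul] at h1
    exact h1
  have h4 : orderOf z ∣ n := orderOf_dvd_of_pow_eq_one h3
  have h5 : orderOf z ∣ p := by
    have : orderOf (⟨z, hz⟩ : Z) ∣ Nat.card Z := orderOf_dvd_natCard _
    rw [hZ, Subgroup.orderOf_mk] at this
    exact this
  rcases (Nat.dvd_prime hp).1 h5 with h6 | h6
  · rw [orderOf_eq_one_iff] at h6
    rw [e1, h6, mul_one]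
  · exfalso
    rw [h6, hn] at h4
    rcases (Nat.Prime.dvd_mul hp).1 h4 with h7 | h7
    · exact hh h7
    · exact hh' h7

theorem sum_gc_sq [Fintype K] (m : IrrCharacter K → ℤ) :
    ∑ x : K, ‖gc m x‖ ^ 2 = (Nat.card K : ℝ) * ∑ ψ : IrrCharacter K, ((m ψ : ℤ) : ℝ) ^ 2 := by
  classical
  apply Complex.ofReal_injective
  push_cast
  have h1 : ∀ x : K, ((‖gc m x‖ : ℂ)) ^ 2 = ∑ χ : IrrCharacter K, ∑ ψ : IrrCharacter K,
      (m χ : ℂ) * (m ψ : ℂ) * ((χ : K → ℂ) x * conj ((ψ : K → ℂ) x)) := by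
    intro x
    rw [← Complex.mul_conj']
    unfold gc
    rw [map_sum, Finset.sum_mul_sum]
    apply Finset.sum_congr rfl
    intro χ _
    apply Finset.sum_congr rfl
    intro ψ _
    rw [map_mul, map_intCast]
    ring
  simp only [h1]
  rw [Finset.sum_comm, Finset.mul_sum]
  apply Finset.sum_congr rfl
  intro χ _
  rw [Finset.sum_comm]
  simp only [← Finset.mul_sum, Cfsg.Agent.Lib.Helper81Base.irr_orth]
  rw [Finset.sum_eq_single χ]
  · simp; ring
  · intro ψ _ hne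
    rw [if_neg (Ne.symm hne), mul_zero]
  · intro h; exact absurd (Finset.mem_univ _) h

end abs

variable {G : Type u} [Group G] [Fintype G] {p : ℕ} [Fact p.Prime] {M : Ideal AlgInt}
variable {H : Subgroup G} [Fintype H]

/-- piece `liftB` -/
theorem liftB (hM : IsPModular p M) {b : Set (IrrCharacter H)} (hb : IsPBlock M b)
    (hd : blockDefect p b = 2) (Z : Subgroup H) [Z.Normal] [Fintype (H ⧸ Z)]
    (hZc : Z ≤ Subgroup.center H) (hZ : Nat.card Z = p)
    (m : IrrCharacter (H ⧸ Z) → ℤ) (hmb : ∀ ψ, m ψ ≠ 0 → inflate Z ψ ∈ b) :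
    bet p b (lift Z m) (lift Z m) ≤ p * ∑ ψ, m ψ ^ 2 := by
  classical
  have hp : p.Prime := Fact.out
  have h1 := bet_cast (p := p) b (lift Z m) (lift Z m)
  rw [regInner_self, FF_lift b Z m hmb, hd] at h1
  have h2 : ((bet p b (lift Z m) (lift Z m) : ℤ) : ℝ) = (p : ℝ) ^ 2 *
      ((Nat.card H : ℝ)⁻¹ * ∑ y : H, if ¬ p ∣ orderOf y then ‖gc m (y : H ⧸ Z)‖ ^ 2 else 0) := by
    apply Complex.ofReal_injective
    rw [Complex.ofReal_intCast, h1]
    push_cast
    rfl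
  have h3 : ∑ y : H, (if ¬ p ∣ orderOf y then ‖gc m (y : H ⧸ Z)‖ ^ 2 else 0)
      ≤ ∑ x : H ⧸ Z, ‖gc m x‖ ^ 2 := by
    rw [← Finset.sum_filter]
    have hinj : Set.InjOn (fun y : H => (y : H ⧸ Z))
        (Finset.univ.filter (fun y : H => ¬ p ∣ orderOf y) : Finset H) := by
      intro y hy y' hy' e
      simp only [Finset.coe_filter, Finset.mem_univ, true_and, Set.mem_ofPred_eq] at hy hy'
      exact reg_inj hp Z hZc hZ hy hy' e
    rw [← Finset.sum_image (f := fun x : H ⧸ Z => ‖gc m x‖ ^ 2) hinj]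
    apply Finset.sum_le_sum_of_subset_of_nonneg (Finset.subset_univ _)
    intro x _ _
    positivity
  rw [sum_gc_sq] at h3
  have h4 : (Nat.card H : ℝ) = (Nat.card (H ⧸ Z) : ℝ) * (p : ℝ) := by
    have := Subgroup.card_eq_card_quotient_mul_card_subgroup Z
    rw [hZ] at this
    exact_mod_cast this
  have hq : (0 : ℝ) < (Nat.card (H ⧸ Z) : ℝ) := by exact_mod_cast Nat.card_pos
  have hp0 : (0 : ℝ) < (p : ℝ) := by exact_mod_cast hp.pos
  have h5 : ((bet p b (lift Z m) (lift Z m) : ℤ) : ℝ)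
      ≤ (p : ℝ) * ∑ ψ : IrrCharacter (H ⧸ Z), ((m ψ : ℤ) : ℝ) ^ 2 := by
    rw [h2, h4]
    calc (p : ℝ) ^ 2 * (((Nat.card (H ⧸ Z) : ℝ) * (p : ℝ))⁻¹ *
          ∑ y : H, if ¬ p ∣ orderOf y then ‖gc m (y : H ⧸ Z)‖ ^ 2 else 0)
        ≤ (p : ℝ) ^ 2 * (((Nat.card (H ⧸ Z) : ℝ) * (p : ℝ))⁻¹ *
          ((Nat.card (H ⧸ Z) : ℝ) * ∑ ψ : IrrCharacter (H ⧸ Z), ((m ψ : ℤ) : ℝ) ^ 2)) := by
          apply mul_le_mul_of_nonneg_left _ (by positivity)
          exact mul_le_mul_of_nonneg_left h3 (by positivity)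
      _ = _ := by field_simp
  exact_mod_cast h5

end Cfsg.Agent.Lib.Helper82D1LiftB
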