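import Mathlib
import Cfsg.Agent.Lib.Helper81D1Defs
import Cfsg.Agent.Lib.Helper82D1LiftBase

set_option autoImplicit false
set_option linter.unusedVariables false
set_option linter.unusedSectionVars false

/-!
PROJECT 81, piece `liftC`: nonvanishing of `yy` transfers to lifts of the vectors `N(ψ, ·)`.
-/

namespace Cfsg.Agent.Lib.Helper82D1LiftC

open Cfsg
open Cfsg.Agent.Lib.Helper81Local Cfsg.Agent.Lib.Helper81Rank Cfsg.Agent.Lib.Helper84Subsec
  Cfsg.Agent.Lib.Helper84Subsec2 Cfsg.Agent.Lib.Helper84Contrib Cfsg.Agent.Lib.Helper80Trace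
  Cfsg.Agent.Lib.Helper80Brauer Cfsg.Agent.Lib.Helper80Transport Cfsg.Agent.Lib.Helper82Quot
  Cfsg.Agent.Lib.Helper82Major Cfsg.Agent.Lib.Helper78Sec Cfsg.Agent.Lib.Helper81D1Defs
  Cfsg.Agent.Lib.Helper82D1LiftBase
open scoped ComplexConjugate

universe u

variable {G : Type u} [Group G] [Fintype G] {p : ℕ} [Fact p.Prime] {M : Ideal AlgInt}
variable {H : Subgroup G} [Fintype H]

/-- piece `liftC` -/
theorem liftC (hM : IsPModular p M) {b : Set (IrrCharacter H)} (hb : IsPBlock M b)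
    (Z : Subgroup H) [Z.Normal] [Fintype (H ⧸ Z)]
    (hZc : Z ≤ Subgroup.center H) (hZ : Nat.card Z = p)
    {β : Set (IrrCharacter (H ⧸ Z))} (hβ : IsPBlock M β) (hβb : ∀ ψ ∈ β, inflate Z ψ ∈ b)
    {z : H} (hz : ∀ h : H, h * z = z * h) (χ : IrrCharacter G) {ξ : IrrCharacter H} (hξ : ξ ∈ b)
    (hne : yy p b z 1 χ (Pi.single ξ 1) ≠ 0) :
    ∃ ψ ∈ β, yy p b z 1 χ (lift Z (fun ψ' => N p ψ ψ')) ≠ 0 := by
  classical
  have hMp := hM.2.1.isPrime
  have hp : p.Prime := Fact.out
  have hp0 : (p : ℂ) ≠ 0 := by exact_mod_cast hp.ne_zero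
  by_contra hcon
  push Not at hcon
  apply hne
  set f : H → ℂ := fp b ((z : G) ^ 1) (χ : G → ℂ) with hf
  rw [yy_eq_fp b hz, FF_single, if_pos hξ]
  -- step 1: orthogonality to the inflated characters
  have h1 : ∀ ψ ∈ β, regInner p f (inflate Z ψ : H → ℂ) = 0 := by
    intro ψ hψ
    have h2 := hcon ψ hψ
    have hmb : ∀ ψ', (fun ψ' => N p ψ ψ') ψ' ≠ 0 → inflate Z ψ' ∈ b := by
      intro ψ' h3
      apply hβb
      by_contra h4
      exact h3 (N_eq_zero_of_not_mem hM hβ hψ h4)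
    rw [yy_eq_fp b hz, FF_lift b Z _ hmb] at h2
    have h3 : regInner p f (fun h : H => gc (fun ψ' => N p ψ ψ') (h : H ⧸ Z)) = 0 := by
      rcases mul_eq_zero.1 h2 with h4 | h4
      · exact absurd h4 (pow_ne_zero _ hp0)
      · exact h4
    have h4 : gc (fun ψ' => N p ψ ψ') = tld p (ψ : H ⧸ Z → ℂ) := by
      rw [tld_eq_sum]
      funext x
      unfold gc
      rw [Finset.sum_apply]
      rfl
    rw [h4] at h3
    set c : ℕ := p ^ (Nat.card (H ⧸ Z)).factorization p with hc
    have hc0 : (c : ℂ) ≠ 0 := by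
      rw [hc]; push_cast; exact pow_ne_zero _ hp0
    have h5 : regInner p f (fun h : H => tld p (ψ : H ⧸ Z → ℂ) (h : H ⧸ Z))
        = (c : ℂ) * regInner p f (inflate Z ψ : H → ℂ) := by
      unfold regInner
      rw [mul_left_comm]
      congr 1
      rw [Finset.mul_sum]
      apply Finset.sum_congr rfl
      intro y _
      split_ifs with hy
      · simp
      · have hy' : ¬ p ∣ orderOf (y : H ⧸ Z) :=
          fun h => hy (h.trans (orderOf_map_dvd (QuotientGroup.mk' Z) y))
        rw [tld_def]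
        simp only
        rw [if_neg hy', map_mul, map_natCast, inflate_apply]
        ring
    rw [h5] at h3
    rcases mul_eq_zero.1 h3 with h6 | h6
    · exact absurd h6 hc0
    · exact h6
  -- step 2: the span argument
  have hQ : IsPGroup p Z := IsPGroup.of_card (n := 1) (by rw [hZ, pow_one])
  have hC : ∃ k : ℕ, (Subgroup.centralizer (Z : Set H)).index = p ^ k := by
    refine ⟨0, ?_⟩
    have : Subgroup.centralizer (Z : Set H) = ⊤ := by
      rw [eq_top_iff]
      intro g _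
      rw [Subgroup.mem_centralizer_iff]
      intro x hx
      exact (Subgroup.mem_center_iff.1 (hZc hx) g).symm
    rw [this, Subgroup.index_top, pow_zero]
  obtain ⟨ψ₀, hψ₀⟩ := Cfsg.Agent.Lib.Helper81Block.isPBlock_nonempty hβ
  have h2 := Cfsg.Agent.Lib.Helper21Rank.reg_mem_span Z hM hQ hC ξ
  have h3 : classInner (pRegularPart p (ξ : H → ℂ)) f = 0 := by
    refine Submodule.span_induction (p := fun F _ => classInner F f = 0) ?_ ?_ ?_ ?_ h2
    · rintro _ ⟨χ', hχ', rfl⟩
      have h4 : SameBlock M (inflate Z ψ₀ : H → ℂ) (inflate Z χ' : H → ℂ) :=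
        Cfsg.Agent.Lib.Helper81Block.sameBlock_trans
          (Cfsg.Agent.Lib.Helper81Block.isPBlock_sameBlock hb (hβb ψ₀ hψ₀) hξ)
          (Cfsg.Agent.Lib.Helper81Block.sameBlock_symm hχ')
      have h5 := Cfsg.Agent.Lib.Helper21Cover3.sameBlock_of_inflate_pgroup hM hQ hC h4
      have h6 : χ' ∈ β := Cfsg.Agent.Lib.Helper81Block.isPBlock_mem_of_sameBlock hβ hψ₀ h5
      show classInner (pRegularPart p (inflate Z χ' : H → ℂ)) f = 0
      rw [classInner_pRegularPart, ← regInner_conj_symm, h1 χ' h6, map_zero]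
    · exact Cfsg.Agent.Lib.Helper4Char.classInner_zero_left _
    · intro x y _ _ hx hy
      rw [Cfsg.Agent.Lib.Helper4Char.classInner_add_left, hx, hy, add_zero]
    · intro a x _ hx
      rw [Cfsg.Agent.Lib.Helper4Char.classInner_smul_left, hx, mul_zero]
  rw [classInner_pRegularPart] at h3
  rw [← regInner_conj_symm, h3, map_zero, mul_zero]

end Cfsg.Agent.Lib.Helper82D1LiftC
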