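import Mathlib
import Cfsg.Agent.Lib.Helper81D1Defs
import Cfsg.Agent.Lib.Helper82D1LiftBase

set_option autoImplicit false
set_option linter.unusedVariables false
set_option linter.unusedSectionVars false

/-!
PROJECT 81, piece `liftD`: linearity of `yy ∘ lift`.
-/

namespace Cfsg.Agent.Lib.Helper82D1LiftD

open Cfsg
open Cfsg.Agent.Lib.Helper81Local Cfsg.Agent.Lib.Helper81Rank Cfsg.Agent.Lib.Helper84Subsec
  Cfsg.Agent.Lib.Helper84Subsec2 Cfsg.Agent.Lib.Helper84Contrib Cfsg.Agent.Lib.Helper80Trace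
  Cfsg.Agent.Lib.Helper80Brauer Cfsg.Agent.Lib.Helper80Transport Cfsg.Agent.Lib.Helper82Quot
  Cfsg.Agent.Lib.Helper82Major Cfsg.Agent.Lib.Helper78Sec Cfsg.Agent.Lib.Helper81D1Defs
  Cfsg.Agent.Lib.Helper82D1LiftBase
open scoped ComplexConjugate

universe u

variable {G : Type u} [Group G] [Fintype G] {p : ℕ} [Fact p.Prime] {M : Ideal AlgInt}
variable {H : Subgroup G} [Fintype H]

/-- piece `liftD` -/
theorem yy_lift_sum (b : Set (IrrCharacter H)) (z : H) (t : ℕ) (χ : IrrCharacter G)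
    (Z : Subgroup H) [Z.Normal] [Fintype (H ⧸ Z)] {I : Type*} [Fintype I] (c : I → ℤ)
    (v : I → IrrCharacter (H ⧸ Z) → ℤ) :
    yy p b z t χ (lift Z (fun ψ => ∑ i, c i * v i ψ))
      = ∑ i, (c i : ℂ) * yy p b z t χ (lift Z (v i)) := by
  have e : (fun ψ => ∑ i, c i * v i ψ) = ∑ i, c i • v i := by
    funext ψ
    simp [Finset.sum_apply]
  rw [e, lift_sum, yy_sum]
  apply Finset.sum_congr rfl
  intro i _
  rw [lift_smul, yy_smul]

/-- piece `liftD` (second statement) -/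
theorem yy_lift_sub (b : Set (IrrCharacter H)) (z : H) (t : ℕ) (χ : IrrCharacter G)
    (Z : Subgroup H) [Z.Normal] [Fintype (H ⧸ Z)] (c c' : ℤ)
    (v v' : IrrCharacter (H ⧸ Z) → ℤ) :
    yy p b z t χ (lift Z (fun ψ => c * v ψ - c' * v' ψ))
      = (c : ℂ) * yy p b z t χ (lift Z v) - (c' : ℂ) * yy p b z t χ (lift Z v') := by
  have e : (fun ψ => c * v ψ - c' * v' ψ) = c • v - c' • v' := by
    funext ψ
    simp
  rw [e, lift_sub, yy_sub, lift_smul, lift_smul, yy_smul, yy_smul]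

end Cfsg.Agent.Lib.Helper82D1LiftD
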