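import Mathlib
import Cfsg.Prelude.Def_Blocks
import Cfsg.Prelude.Def_BlockRank
import Cfsg.Agent.Lib.Helper81DefOne
import Cfsg.Agent.Lib.Helper81Rank

set_option autoImplicit false

namespace Cfsg.Agent.Lib.Helper81RankOne

open Cfsg
open Cfsg.Agent.Lib.Helper81Local Cfsg.Agent.Lib.Helper81Base Cfsg.Agent.Lib.Helper81BB
  Cfsg.Agent.Lib.Helper81Defect Cfsg.Agent.Lib.Helper81Reg Cfsg.Agent.Lib.Helper84Contrib
  Cfsg.Agent.Lib.Helper81Height Cfsg.Agent.Lib.Helper81DefOne Cfsg.Agent.Lib.Helper81Rank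
open scoped ComplexConjugate

variable {G : Type*} [Group G] [Fintype G] {p : ℕ} [Fact p.Prime] {M : Ideal AlgInt}

omit [Fintype G] [Fact p.Prime] in
/-- in a set of rank one the restrictions to the regular elements are proportional. -/
theorem proportional {B : Set (IrrCharacter G)} (hl : blockRank p B = 1) {χ ψ : IrrCharacter G}
    (hχ : χ ∈ B) (hψ : ψ ∈ B) (x : G) (hx : ¬ p ∣ orderOf x) (y : G) (hy : ¬ p ∣ orderOf y) :
    (ψ : G → ℂ) x * (χ : G → ℂ) y = (χ : G → ℂ) x * (ψ : G → ℂ) y := by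
  classical
  unfold blockRank at hl
  obtain ⟨v, _, hv⟩ := finrank_eq_one_iff'.1 hl
  have h1 : ∀ τ ∈ B, ∃ c : ℂ, ∀ z : G, ¬ p ∣ orderOf z → (τ : G → ℂ) z = c * (v : G → ℂ) z := by
    intro τ hτ
    obtain ⟨c, hc⟩ := hv ⟨pRegularPart p (τ : G → ℂ), Submodule.subset_span ⟨τ, hτ, rfl⟩⟩
    refine ⟨c, fun z hz => ?_⟩
    have h2 := congrFun (congrArg Subtype.val hc) z
    simp only [Submodule.coe_smul, Pi.smul_apply, smul_eq_mul] at h2
    rw [pRegularPart_apply, if_pos hz] at h2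
    exact h2.symm
  obtain ⟨c, hc⟩ := h1 χ hχ
  obtain ⟨c', hc'⟩ := h1 ψ hψ
  rw [hc x hx, hc y hy, hc' x hx, hc' y hy]
  ring

/-- **Blocks of rank one.**  There are integers `n`, positive integers `d` such that with
`φ = ∑ n ψ`, `χ = d_χ φ` on the regular elements, and `∑ d² = p^d`. -/
theorem rank_one (hM : IsPModular p M) {B : Set (IrrCharacter G)} [DecidablePred (· ∈ B)]
    (hB : IsPBlock M B) (hl : blockRank p B = 1) :
    ∃ (n : IrrCharacter G → ℤ) (d : IrrCharacter G → ℕ),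
      (∀ χ ∈ B, ∀ x : G, ¬ p ∣ orderOf x → (χ : G → ℂ) x
        = (d χ : ℂ) * ∑ ψ : IrrCharacter G, (if ψ ∈ B then (n ψ : ℂ) * (ψ : G → ℂ) x else 0)) ∧
      (∑ χ : IrrCharacter G, (if χ ∈ B then d χ ^ 2 else 0)) = p ^ blockDefect p B := by
  classical
  have hMp := hM.2.1.isPrime
  have hp : p.Prime := Fact.out
  have hne := Cfsg.Agent.Lib.Helper81Block.isPBlock_nonempty hB
  have h1reg : ¬ p ∣ orderOf (1 : G) := by
    rw [orderOf_one]; exact hp.one_lt.ne' ∘ Nat.dvd_one.mp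
  -- the generator of the ideal of degrees
  set v : IrrCharacter G → ℤ := fun χ => if χ ∈ B then (charDegree (χ : G → ℂ) : ℤ) else 0 with hv
  obtain ⟨g, hg⟩ : ∃ g : ℕ, Ideal.span (Set.range v) = Ideal.span {(g : ℤ)} :=
    ⟨(Submodule.IsPrincipal.generator (Ideal.span (Set.range v))).natAbs, by
      rw [Int.span_natAbs, Ideal.span_singleton_generator]⟩
  obtain ⟨n, hn⟩ : ∃ n : IrrCharacter G → ℤ, ∑ χ, n χ * v χ = (g : ℤ) := by
    rw [← Ideal.mem_span_range_iff_exists_fun, hg]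
    exact Ideal.mem_span_singleton_self _
  have hdvd : ∀ χ ∈ B, g ∣ charDegree (χ : G → ℂ) := by
    intro χ hχ
    have h1 : v χ ∈ Ideal.span (Set.range v) := Ideal.subset_span ⟨χ, rfl⟩
    rw [hg, Ideal.mem_span_singleton] at h1
    simp only [hv, if_pos hχ] at h1
    exact_mod_cast h1
  have hg0 : g ≠ 0 := by
    rintro rfl
    obtain ⟨χ, hχ⟩ := hne
    have := hdvd χ hχ
    rw [zero_dvd_iff] at this
    exact (charDegree_pos χ).ne' this
  set d : IrrCharacter G → ℕ := fun χ => charDegree (χ : G → ℂ) / g with hd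
  have hdg : ∀ χ ∈ B, d χ * g = charDegree (χ : G → ℂ) := fun χ hχ => Nat.div_mul_cancel (hdvd χ hχ)
  set φ : G → ℂ := fun x => ∑ ψ : IrrCharacter G, (if ψ ∈ B then (n ψ : ℂ) * (ψ : G → ℂ) x else 0)
    with hφ
  have hgC : (g : ℂ) ≠ 0 := by exact_mod_cast hg0
  -- `χ(1) φ = g χ` on the regular elements
  have hφχ : ∀ χ ∈ B, ∀ x : G, ¬ p ∣ orderOf x → (χ : G → ℂ) 1 * φ x = (g : ℂ) * (χ : G → ℂ) x := by
    intro χ hχ x hx
    have h1 : (g : ℂ) = ∑ ψ : IrrCharacter G, (n ψ : ℂ) * (v ψ : ℂ) := by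
      have := congrArg (fun z : ℤ => (z : ℂ)) hn
      simp only [Int.cast_sum, Int.cast_mul, Int.cast_natCast] at this
      exact this.symm
    rw [h1, hφ, Finset.mul_sum, Finset.sum_mul]
    apply Finset.sum_congr rfl
    intro ψ _
    by_cases hψ : ψ ∈ B
    · simp only [hv, if_pos hψ, Int.cast_natCast]
      rw [charDegree_eq]
      have := proportional hl hχ hψ x hx 1 h1reg
      linear_combination (n ψ : ℂ) * this
    · simp [hv, hψ]
  have hmain : ∀ χ ∈ B, ∀ x : G, ¬ p ∣ orderOf x → (χ : G → ℂ) x = (d χ : ℂ) * φ x := by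
    intro χ hχ x hx
    have h1 := hφχ χ hχ x hx
    have h2 : (χ : G → ℂ) 1 = (d χ : ℂ) * (g : ℂ) := by
      rw [← charDegree_eq, ← hdg χ hχ]; push_cast; ring
    rw [h2] at h1
    apply mul_left_cancel₀ hgC
    rw [← h1]; ring
  refine ⟨n, d, hmain, ?_⟩
  -- the integer `w`
  set a := (Nat.card G).factorization p with ha
  set n' : IrrCharacter G → ℤ := fun ψ => if ψ ∈ B then n ψ else 0 with hn'
  set w : ℤ := ∑ ψ : IrrCharacter G, ∑ ψ' : IrrCharacter G, n' ψ * n' ψ' * N p ψ ψ' with hw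
  have hGC : (Nat.card G : ℂ) ≠ 0 := Cfsg.Agent.Lib.Helper81Base.card_ne_zero
  have hφ' : ∀ x, φ x = ∑ ψ : IrrCharacter G, (n' ψ : ℂ) * (ψ : G → ℂ) x := by
    intro x
    rw [hφ]
    apply Finset.sum_congr rfl
    intro ψ _
    by_cases hψ : ψ ∈ B <;> simp [hn', hψ]
  have hW : ((p ^ a : ℕ) : ℂ) * ∑ x : G, (if ¬ p ∣ orderOf x then φ x * conj (φ x) else 0)
      = (Nat.card G : ℂ) * (w : ℂ) := by
    have h1 : ∀ x : G, (if ¬ p ∣ orderOf x then φ x * conj (φ x) else 0)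
        = ∑ ψ : IrrCharacter G, ∑ ψ' : IrrCharacter G, ((n' ψ : ℂ) * (n' ψ' : ℂ)) *
          (if ¬ p ∣ orderOf x then (ψ : G → ℂ) x * conj ((ψ' : G → ℂ) x) else 0) := by
      intro x
      split_ifs with hx
      · simp
      · rw [hφ' x, map_sum, Finset.sum_mul_sum]
        apply Finset.sum_congr rfl
        intro ψ _
        apply Finset.sum_congr rfl
        intro ψ' _
        rw [map_mul, map_intCast]
        ring
    have hwC : (w : ℂ) = ∑ ψ : IrrCharacter G, ∑ ψ' : IrrCharacter G,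
        (n' ψ : ℂ) * (n' ψ' : ℂ) * (N p ψ ψ' : ℂ) := by
      rw [hw]; push_cast; rfl
    simp only [h1]
    rw [Finset.sum_comm, Finset.mul_sum, hwC, Finset.mul_sum]
    apply Finset.sum_congr rfl
    intro ψ _
    rw [Finset.sum_comm, Finset.mul_sum, Finset.mul_sum]
    apply Finset.sum_congr rfl
    intro ψ' _
    rw [← Finset.mul_sum, mul_left_comm, sum_reg_eq_N]
    ring
  clear_value w
  have hN : ∀ χ ∈ B, ∀ ψ ∈ B, N p χ ψ = (d χ : ℤ) * (d ψ : ℤ) * w := by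
    intro χ hχ ψ hψ
    have h1 := sum_reg_eq_N (p := p) χ ψ
    have h2 : ∑ x : G, (if ¬ p ∣ orderOf x then (χ : G → ℂ) x * conj ((ψ : G → ℂ) x) else 0)
        = ((d χ : ℂ) * (d ψ : ℂ)) * ∑ x : G, (if ¬ p ∣ orderOf x then φ x * conj (φ x) else 0) := by
      rw [Finset.mul_sum]
      apply Finset.sum_congr rfl
      intro x _
      split_ifs with hx
      · simp
      · rw [hmain χ hχ x hx, hmain ψ hψ x hx, map_mul, Complex.conj_natCast]
        ring
    rw [h2, mul_left_comm, hW] at h1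
    have h3 : (N p χ ψ : ℂ) = (d χ : ℂ) * (d ψ : ℂ) * (w : ℂ) := by
      apply mul_left_cancel₀ hGC
      rw [← h1]; ring
    exact_mod_cast h3
  have hd0 : ∀ χ ∈ B, d χ ≠ 0 := by
    intro χ hχ h0
    have := hdg χ hχ
    rw [h0, zero_mul] at this
    exact (charDegree_pos χ).ne' this.symm
  obtain ⟨χ, hχ, h0⟩ := exists_height_zero (p := p) hne
  have hwpos : 0 < w := by
    have h1 := N_self_pos (p := p) χ
    rw [hN χ hχ χ hχ] at h1
    have h2 : (0 : ℤ) < (d χ : ℤ) * (d χ : ℤ) := by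
      have : 0 < d χ := Nat.pos_of_ne_zero (hd0 χ hχ)
      positivity
    exact (pos_iff_pos_of_mul_pos h1).1 h2
  set S : ℕ := ∑ χ : IrrCharacter G, (if χ ∈ B then d χ ^ 2 else 0) with hS
  have hwS : w * (S : ℤ) = (p : ℤ) ^ a := by
    have h1 := sum_N_sq (p := p) χ
    have h2 : ∑ ψ : IrrCharacter G, N p χ ψ * N p χ ψ
        = ((d χ : ℤ) * (d χ : ℤ) * w) * (w * (S : ℤ)) := by
      rw [hS]
      push_cast
      rw [Finset.mul_sum, Finset.mul_sum]
      apply Finset.sum_congr rfl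
      intro ψ _
      by_cases hψ : ψ ∈ B
      · rw [hN χ hχ ψ hψ, if_pos hψ]; ring
      · rw [N_eq_zero_of_not_mem hM hB hχ hψ, if_neg hψ]; ring
    rw [h2, hN χ hχ χ hχ, mul_comm ((p : ℤ) ^ a)] at h1
    refine mul_left_cancel₀ ?_ h1
    have : (d χ : ℤ) ≠ 0 := by exact_mod_cast hd0 χ hχ
    exact mul_ne_zero (mul_ne_zero this this) hwpos.ne'
  obtain ⟨w', hw'⟩ : ∃ w' : ℕ, w = (w' : ℤ) := ⟨w.toNat, (Int.toNat_of_nonneg hwpos.le).symm⟩
  have hwS' : w' * S = p ^ a := by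
    rw [hw'] at hwS
    exact_mod_cast hwS
  obtain ⟨j, hja, hj⟩ := (Nat.dvd_prime_pow hp).1 (Dvd.intro _ hwS')
  -- `p ∤ d χ`
  set m := minVal p B with hm
  have hχm : (charDegree (χ : G → ℂ)).factorization p = m := by
    have h1 := minVal_le (p := p) hχ
    rw [blockHeight_def] at h0
    omega
  have hpg : p ^ m ∣ g := by
    have h1 : ((p ^ m : ℕ) : ℤ) ∣ (g : ℤ) := by
      rw [← hn]
      apply Finset.dvd_sum
      intro ψ _
      apply Dvd.dvd.mul_left
      by_cases hψ : ψ ∈ B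
      · simp only [hv, if_pos hψ]
        have h2 : p ^ m ∣ charDegree (ψ : G → ℂ) :=
          (pow_dvd_pow p (minVal_le (p := p) hψ)).trans (Nat.ordProj_dvd _ _)
        exact_mod_cast h2
      · simp [hv, hψ]
    exact_mod_cast h1
  have hpd : ¬ p ∣ d χ := by
    intro h
    have h1 : p ^ (m + 1) ∣ charDegree (χ : G → ℂ) := by
      rw [← hdg χ hχ, pow_succ, mul_comm]
      exact mul_dvd_mul h hpg
    rw [← hχm] at h1
    exact Nat.pow_succ_factorization_not_dvd (charDegree_pos χ).ne' hp h1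
  obtain ⟨k, hk, hpk⟩ := N_height_zero hM hB hχ h0 hχ
  rw [hχm, hN χ hχ χ hχ, hw', hj] at hk
  have hpZ : Prime (p : ℤ) := Nat.prime_iff_prime_int.1 hp
  have hp0 : (p : ℤ) ≠ 0 := hpZ.ne_zero
  have hjm : j = m := by
    rcases lt_trichotomy j m with h | h | h
    · exfalso
      obtain ⟨t, ht⟩ : ∃ t, m = j + (t + 1) := ⟨m - j - 1, by omega⟩
      rw [ht] at hk
      have h1 : (d χ : ℤ) * (d χ : ℤ) = (p : ℤ) * ((p : ℤ) ^ t * k) := by
        apply mul_left_cancel₀ (pow_ne_zero j hp0)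
        push_cast at hk
        rw [mul_comm, hk]; ring
      have h2 : (p : ℤ) ∣ (d χ : ℤ) * (d χ : ℤ) := ⟨_, h1⟩
      rcases hpZ.dvd_or_dvd h2 with h3 | h3 <;> exact hpd (by exact_mod_cast h3)
    · exact h
    · exfalso
      obtain ⟨t, ht⟩ : ∃ t, j = m + (t + 1) := ⟨j - m - 1, by omega⟩
      rw [ht] at hk
      apply hpk
      refine ⟨(d χ : ℤ) * (d χ : ℤ) * (p : ℤ) ^ t, ?_⟩
      apply mul_left_cancel₀ (pow_ne_zero m hp0)
      push_cast at hk
      rw [← hk]; ring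
  have hma : m + blockDefect p B = a := by
    have h1 := minVal_le_card (p := p) hne
    rw [blockDefect_def]
    omega
  rw [hj, hjm, ← hma, pow_add] at hwS'
  exact Nat.eq_of_mul_eq_mul_left (pow_pos hp.pos m) hwS'

end Cfsg.Agent.Lib.Helper81RankOne
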