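import Mathlib
import Cfsg.Agent.Lib.Helper81D1Defs
import Cfsg.Agent.Lib.Helper81RankOne

set_option autoImplicit false
set_option linter.unusedVariables false
set_option linter.unusedSectionVars false

/-! PROJECT 81, piece `cbA`. -/

namespace Cfsg.Agent.Lib.Helper86D1CbA

open Cfsg
open Cfsg.Agent.Lib.Helper81Local Cfsg.Agent.Lib.Helper81Rank Cfsg.Agent.Lib.Helper84Subsec
  Cfsg.Agent.Lib.Helper84Subsec2 Cfsg.Agent.Lib.Helper84Contrib Cfsg.Agent.Lib.Helper80Trace
  Cfsg.Agent.Lib.Helper80Brauer Cfsg.Agent.Lib.Helper80Transport Cfsg.Agent.Lib.Helper82Quot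
  Cfsg.Agent.Lib.Helper82Major Cfsg.Agent.Lib.Helper78Sec Cfsg.Agent.Lib.Helper81D1Defs
  Cfsg.Agent.Lib.Helper81Defect Cfsg.Agent.Lib.Helper78MajP
open scoped ComplexConjugate

variable {K : Type*} [Group K] [Fintype K] {p : ℕ} [Fact p.Prime] {M : Ideal AlgInt}

/-- piece `cbA` -/
theorem cbA (hM : IsPModular p M) {c : Set (IrrCharacter K)} (hc : IsPBlock M c) {u : K}
    (hcen : ∀ h : K, h * u = u * h) (hu : orderOf u = p)
    (hD : IsDefectGroup p M c (Subgroup.zpowers u)) :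
    blockRank p c = 1 ∧ Nat.card c = p ∧
    (∀ ζ ∈ c, ∀ ξ ∈ c, ∀ y : K, ¬ p ∣ orderOf y → (ζ : K → ℂ) y = (ξ : K → ℂ) y) ∧
    (∀ ζ ∈ c, ∀ ξ ∈ c, (p : ℂ) * regInner p (ζ : K → ℂ) (ξ : K → ℂ) = 1) := by
  classical
  have hp : p.Prime := Fact.out
  have hPr := IsPModular.isPrime hM
  obtain ⟨e, hmax⟩ := Cfsg.Agent.Lib.Helper80Corr.exists_maximal_of_defectGroup hM hc hD
  have hab : ∀ x ∈ Subgroup.zpowers u, ∀ y ∈ Subgroup.zpowers u, x * y = y * x := by
    intro x hx y hy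
    obtain ⟨i, rfl⟩ := Subgroup.mem_zpowers_iff.1 hx
    obtain ⟨j, rfl⟩ := Subgroup.mem_zpowers_iff.1 hy
    exact ((Commute.refl u).zpow_zpow i j).eq
  have hst : pstab (Subgroup.zpowers u) e
      ≤ Subgroup.centralizer ((Subgroup.zpowers u : Subgroup K) : Set K) := by
    intro h _
    rw [Subgroup.mem_centralizer_iff]
    intro x hx
    obtain ⟨i, rfl⟩ := Subgroup.mem_zpowers_iff.1 hx
    have : Commute u h := (hcen h).symm
    exact (this.zpow_left i).eq
  have hrank := Cfsg.Agent.Lib.Helper78AbNil.blockRank_of_abelian hM hmax hab hst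
  have hcard := Cfsg.Agent.Lib.Helper20DefCard.card_defectGroup hM hc hD
  have hd : blockDefect p c = 1 := by
    rw [Nat.card_zpowers, hu] at hcard
    have h1 : p ^ 1 = p ^ blockDefect p c := by rw [pow_one]; exact hcard
    exact (Nat.pow_right_injective hp.two_le h1).symm
  have hne := Cfsg.Agent.Lib.Helper81Block.isPBlock_nonempty hc
  set a := (Nat.card K).factorization p with ha
  have hfacts := fun χ (hχ : χ ∈ c) =>
    Cfsg.Agent.Lib.Helper78AbNil.facts_of_abelian hM hmax hab hst hχ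
  have hheight : ∀ χ ∈ c, blockHeight p c (χ : K → ℂ) = 0 := by
    intro χ hχ
    have h1 := (hfacts χ hχ).1
    have h2 : blockDefect p c = a - minVal p c := blockDefect_def c
    have h3 := minVal_le_card (p := p) hne
    rw [blockHeight_def]
    omega
  have hp0 : (0 : ℝ) < p := by exact_mod_cast hp.pos
  -- the norm
  have hnorm : ∀ χ ∈ c, (p : ℂ) * regInner p (χ : K → ℂ) (χ : K → ℂ) = 1 := by
    intro χ hχ
    obtain ⟨k, hk1, hk2⟩ := N_height_zero hM hc hχ (hheight χ hχ) hχ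
    have h1 := (hfacts χ hχ).1
    have h2 := (hfacts χ hχ).2
    rw [hd, pow_one] at h2
    rw [hd] at h1
    have h3 := Cfsg.Agent.Lib.Helper78AbNil.regInner_eq_N (p := p) χ χ
    rw [← Cfsg.Agent.Lib.Helper78AbNil.mr_one hM hmax hχ] at h3 ⊢
    have h4 : (p : ℝ) ^ a * mr p M (Subgroup.zpowers u) e χ 1 = (N p χ χ : ℝ) := by
      exact_mod_cast h3
    have h5 : (charDegree (χ : K → ℂ)).factorization p = a - 1 := by omega
    have h6 : (p : ℝ) ^ a = (p : ℝ) ^ (a - 1) * p := by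
      rw [← pow_succ]; congr 1; omega
    have hpos := Cfsg.Agent.Lib.Helper81Height.N_self_pos (p := p) χ
    rw [hk1, h5] at hpos
    have hk0 : 0 < k := by
      have : (0 : ℤ) < (p : ℤ) ^ (a - 1) := by
        have : (0 : ℤ) < (p : ℤ) := by exact_mod_cast hp.pos
        positivity
      exact (pos_iff_pos_of_mul_pos hpos).1 this
    rw [hk1, h5, h6] at h4
    push_cast at h4
    have h7 : (0 : ℝ) < (p : ℝ) ^ (a - 1) := by positivity
    have h8 : (p : ℝ) * mr p M (Subgroup.zpowers u) e χ 1 = (k : ℝ) := by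
      apply mul_left_cancel₀ h7.ne'
      rw [← h4]; ring
    have h9 : (k : ℝ) ≤ 1 := by rw [← h8]; exact h2
    have h10 : k ≤ 1 := by exact_mod_cast h9
    have h11 : k = 1 := by omega
    rw [h11] at h8
    exact_mod_cast h8
  have h1reg : ¬ p ∣ orderOf (1 : K) := by
    rw [orderOf_one]
    intro h
    exact hp.one_lt.ne' (Nat.dvd_one.1 h)
  have hreg : ∀ ζ ∈ c, ∀ ξ ∈ c, ∀ y : K, ¬ p ∣ orderOf y → (ζ : K → ℂ) y = (ξ : K → ℂ) y := by
    intro ζ hζ ξ hξ
    obtain ⟨n, hn0, hn⟩ := Cfsg.Agent.Lib.Helper81Base.irr_one ζ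
    obtain ⟨m, hm0, hm⟩ := Cfsg.Agent.Lib.Helper81Base.irr_one ξ
    have hprop : ∀ y, ¬ p ∣ orderOf y → (m : ℂ) * (ζ : K → ℂ) y = n * (ξ : K → ℂ) y := by
      intro y hy
      have := Cfsg.Agent.Lib.Helper81RankOne.proportional hrank hζ hξ 1 h1reg y hy
      rw [hn, hm] at this
      exact this
    have h2 : (m : ℂ) ^ 2 * regInner p (ζ : K → ℂ) (ζ : K → ℂ)
        = (n : ℂ) ^ 2 * regInner p (ξ : K → ℂ) (ξ : K → ℂ) := by
      unfold regInner
      rw [mul_left_comm, mul_left_comm ((n : ℂ) ^ 2)]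
      congr 1
      rw [Finset.mul_sum, Finset.mul_sum]
      apply Finset.sum_congr rfl
      intro y _
      split_ifs with hy
      · simp
      · have h3 := hprop y hy
        have h4 : (m : ℂ) * conj ((ζ : K → ℂ) y) = n * conj ((ξ : K → ℂ) y) := by
          have := congrArg conj h3
          simpa using this
        calc (m : ℂ) ^ 2 * ((ζ : K → ℂ) y * conj ((ζ : K → ℂ) y))
            = ((m : ℂ) * (ζ : K → ℂ) y) * ((m : ℂ) * conj ((ζ : K → ℂ) y)) := by ring
          _ = ((n : ℂ) * (ξ : K → ℂ) y) * ((n : ℂ) * conj ((ξ : K → ℂ) y)) := by rw [h3, h4]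
          _ = _ := by ring
    have h3 : (m : ℂ) ^ 2 = (n : ℂ) ^ 2 := by
      have e1 := hnorm ζ hζ
      have e2 := hnorm ξ hξ
      have h5 : (m : ℂ) ^ 2 * ((p : ℂ) * regInner p (ζ : K → ℂ) (ζ : K → ℂ))
          = (n : ℂ) ^ 2 * ((p : ℂ) * regInner p (ξ : K → ℂ) (ξ : K → ℂ)) := by
        linear_combination (p : ℂ) * h2
      rw [e1, e2] at h5
      simpa using h5
    have h4 : m = n := by
      have h5 : m ^ 2 = n ^ 2 := by exact_mod_cast h3
      exact Nat.pow_left_injective (n := 2) (by norm_num) h5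
    intro y hy
    have h6 := hprop y hy
    rw [h4] at h6
    exact mul_left_cancel₀ (by exact_mod_cast hn0.ne') h6
  refine ⟨hrank, ?_, hreg, ?_⟩
  · have h1 := blockRank_eq hM (Cfsg.Agent.Lib.Helper81Subsec.isBlockUnion_of_isPBlock hc)
    rw [hrank] at h1
    have h2 : (p : ℂ) = (Nat.card c : ℂ) := by
      rw [Cfsg.Agent.Lib.Helper81Height.card_eq_sum_ite c]
      push_cast
      calc (p : ℂ) = (p : ℂ) * ((1 : ℕ) : ℂ) := by simp
        _ = _ := by
          rw [h1, Finset.mul_sum]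
          apply Finset.sum_congr rfl
          intro ψ _
          split_ifs with hψ
          · exact hnorm ψ hψ
          · simp
    exact_mod_cast h2.symm
  · intro ζ hζ ξ hξ
    rw [Cfsg.Agent.Lib.Helper78Sub.regInner_congr_left (hreg ζ hζ ξ hξ)]
    exact hnorm ξ hξ

end Cfsg.Agent.Lib.Helper86D1CbA
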