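import Mathlib
import Cfsg.Agent.Lib.Helper81D1Defs

set_option autoImplicit false
set_option linter.unusedVariables false
set_option linter.unusedSectionVars false

/-! PROJECT 81, pieces `cbB`, `cbC`. -/

namespace Cfsg.Agent.Lib.Helper86D1CbB

open Cfsg
open Cfsg.Agent.Lib.Helper81Local Cfsg.Agent.Lib.Helper81Rank Cfsg.Agent.Lib.Helper84Subsec
  Cfsg.Agent.Lib.Helper84Subsec2 Cfsg.Agent.Lib.Helper84Contrib Cfsg.Agent.Lib.Helper80Trace
  Cfsg.Agent.Lib.Helper80Brauer Cfsg.Agent.Lib.Helper80Transport Cfsg.Agent.Lib.Helper82Quot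
  Cfsg.Agent.Lib.Helper82Major Cfsg.Agent.Lib.Helper78Sec Cfsg.Agent.Lib.Helper81D1Defs
open scoped ComplexConjugate

variable {K : Type*} [Group K] [Fintype K] {p : ℕ} [Fact p.Prime]

omit [Fact p.Prime] in
/-- values at `u^i y` -/
theorem irr_pow_mul {u : K} (hcen : ∀ h : K, h * u = u * h) (ψ : IrrCharacter K) (i : ℕ) (y : K) :
    (ψ : K → ℂ) (u ^ i * y) = ((ψ : K → ℂ) u / (ψ : K → ℂ) 1) ^ i * (ψ : K → ℂ) y := by
  induction i with
  | zero => simp
  | succ i ih =>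
    rw [pow_succ', mul_assoc, Cfsg.Agent.Lib.Helper81Subsec.irr_central_mul ψ hcen, ih]
    ring

omit [Fact p.Prime] in
theorem norm_lam {u : K} (hcen : ∀ h : K, h * u = u * h) (ψ : IrrCharacter K) :
    ‖(ψ : K → ℂ) u / (ψ : K → ℂ) 1‖ = 1 := by
  have h := Cfsg.Agent.Lib.Helper81Subsec.irr_central_norm ψ hcen 1
  rw [mul_one] at h
  rw [norm_div, h, div_self]
  exact norm_ne_zero_iff.2 (Cfsg.Agent.Lib.Helper81Base.irr_one_ne_zero ψ)

/-- the cosets `u^i R` of the set of regular elements are disjoint -/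
theorem reg_disj {u : K} (hcen : ∀ h : K, h * u = u * h) (hu : orderOf u = p) (g : K) {i j : ℕ}
    (hi : i < p) (hj : j < p) (hij : i ≤ j) (h1 : ¬ p ∣ orderOf ((u ^ i)⁻¹ * g))
    (h2 : ¬ p ∣ orderOf ((u ^ j)⁻¹ * g)) : i = j := by
  have hp : p.Prime := Fact.out
  by_contra hne
  have hlt : i < j := lt_of_le_of_ne hij hne
  set k := j - i with hk
  have hk0 : 0 < k := by omega
  have hkp : k < p := by omega
  have e1 : (u ^ i)⁻¹ * g = u ^ k * ((u ^ j)⁻¹ * g) := by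
    have : u ^ j = u ^ k * u ^ i := by rw [← pow_add]; congr 1; omega
    rw [this]
    group
  have hcop : Nat.Coprime k p := by
    rw [Nat.coprime_comm]
    exact (Nat.Prime.coprime_iff_not_dvd hp).2 (fun h => by
      have := Nat.le_of_dvd hk0 h
      omega)
  have ho : orderOf (u ^ k) = p := by
    rw [Nat.Coprime.orderOf_pow (by rw [hu]; exact hcop.symm), hu]
  have hcomm : Commute (u ^ k) ((u ^ j)⁻¹ * g) :=
    ((show Commute ((u ^ j)⁻¹ * g) u from hcen _).pow_right k).symm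
  have hc2 : Nat.Coprime (orderOf (u ^ k)) (orderOf ((u ^ j)⁻¹ * g)) := by
    rw [ho]
    exact (Nat.Prime.coprime_iff_not_dvd hp).2 h2
  apply h1
  rw [e1, hcomm.orderOf_mul_eq_mul_orderOf_of_coprime hc2, ho]
  exact dvd_mul_right _ _

open Classical in
/-- sums over the union of the cosets `u^i R` -/
theorem sum_S {u : K} (hcen : ∀ h : K, h * u = u * h) (hu : orderOf u = p) (F : K → ℂ) :
    ∑ g : K, (if ∃ i < p, ¬ p ∣ orderOf ((u ^ i)⁻¹ * g) then F g else 0)
      = ∑ i ∈ Finset.range p, ∑ y : K, (if ¬ p ∣ orderOf y then F (u ^ i * y) else 0) := by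
  have h1 : ∀ i : ℕ, ∑ y : K, (if ¬ p ∣ orderOf y then F (u ^ i * y) else 0)
      = ∑ g : K, (if ¬ p ∣ orderOf ((u ^ i)⁻¹ * g) then F g else 0) := by
    intro i
    apply Fintype.sum_equiv (Equiv.mulLeft (u ^ i))
    intro y
    simp
  simp_rw [h1]
  rw [Finset.sum_comm]
  apply Finset.sum_congr rfl
  intro g _
  split_ifs with hg
  · obtain ⟨i, hi, hig⟩ := hg
    rw [Finset.sum_eq_single_of_mem i (Finset.mem_range.2 hi), if_pos hig]
    intro j hj hji
    rw [if_neg]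
    intro hjg
    apply hji
    rw [Finset.mem_range] at hj
    rcases le_total i j with h | h
    · exact (reg_disj hcen hu g hi hj h hig hjg).symm
    · exact reg_disj hcen hu g hj hi h hjg hig
  · symm
    apply Finset.sum_eq_zero
    intro i hi
    rw [if_neg]
    intro h
    exact hg ⟨i, Finset.mem_range.1 hi, h⟩

/-- piece `cbB` -/
theorem cbB {c : Set (IrrCharacter K)} {u : K}
    (hcen : ∀ h : K, h * u = u * h) (hu : orderOf u = p)
    (hnorm : ∀ ζ ∈ c, ∀ ξ ∈ c, (p : ℂ) * regInner p (ζ : K → ℂ) (ξ : K → ℂ) = 1) :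
    ∀ ζ ∈ c, ∀ ξ ∈ c,
      (ζ : K → ℂ) u / (ζ : K → ℂ) 1 = (ξ : K → ℂ) u / (ξ : K → ℂ) 1 → ζ = ξ := by
  classical
  have hp : p.Prime := Fact.out
  intro ζ hζ ξ hξ hlam
  by_contra hne
  have hK : (Nat.card K : ℂ) ≠ 0 := by exact_mod_cast Nat.card_pos.ne'
  -- sums over `S`
  have hS : ∀ ψ ∈ c, (ζ : K → ℂ) u / (ζ : K → ℂ) 1 = (ψ : K → ℂ) u / (ψ : K → ℂ) 1 →
      ∑ g : K, (if ∃ i < p, ¬ p ∣ orderOf ((u ^ i)⁻¹ * g) then
        (ζ : K → ℂ) g * conj ((ψ : K → ℂ) g) else 0) = Nat.card K := by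
    intro ψ hψ hl
    rw [sum_S hcen hu]
    have h1 : ∀ i ∈ Finset.range p, ∑ y : K, (if ¬ p ∣ orderOf y then
        (ζ : K → ℂ) (u ^ i * y) * conj ((ψ : K → ℂ) (u ^ i * y)) else 0)
        = (Nat.card K : ℂ) * regInner p (ζ : K → ℂ) (ψ : K → ℂ) := by
      intro i _
      unfold regInner
      rw [mul_inv_cancel_left₀ hK]
      apply Finset.sum_congr rfl
      intro y _
      split_ifs with hy
      · rfl
      · rw [irr_pow_mul hcen, irr_pow_mul hcen, ← hl, map_mul, map_pow]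
        have h2 : ((ζ : K → ℂ) u / (ζ : K → ℂ) 1) * conj ((ζ : K → ℂ) u / (ζ : K → ℂ) 1) = 1 := by
          rw [Complex.mul_conj, Complex.normSq_eq_norm_sq, norm_lam hcen]
          simp
        calc _ = (((ζ : K → ℂ) u / (ζ : K → ℂ) 1) * conj ((ζ : K → ℂ) u / (ζ : K → ℂ) 1)) ^ i
              * ((ζ : K → ℂ) y * conj ((ψ : K → ℂ) y)) := by ring
          _ = _ := by rw [h2, one_pow, one_mul]
    rw [Finset.sum_congr rfl h1, Finset.sum_const, Finset.card_range, nsmul_eq_mul]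
    have h3 := hnorm ζ hζ ψ hψ
    linear_combination (Nat.card K : ℂ) * h3
  -- `ζ` vanishes off `S`
  have hself := Cfsg.Agent.Lib.Helper4Char.classInner_irr_self ζ.2
  unfold classInner at hself
  have hself' : ∑ g : K, (ζ : K → ℂ) g * conj ((ζ : K → ℂ) g) = Nat.card K := by
    have := congrArg (fun z => (Nat.card K : ℂ) * z) hself
    simpa [mul_inv_cancel_left₀ hK] using this
  have hoff : ∑ g : K, (if ∃ i < p, ¬ p ∣ orderOf ((u ^ i)⁻¹ * g) then 0 else
      Complex.normSq ((ζ : K → ℂ) g)) = 0 := by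
    have h1 : ((∑ g : K, (if ∃ i < p, ¬ p ∣ orderOf ((u ^ i)⁻¹ * g) then 0 else
      Complex.normSq ((ζ : K → ℂ) g)) : ℝ) : ℂ) = 0 := by
      push_cast
      have h2 := hS ζ hζ rfl
      have h3 : ∑ g : K, (ζ : K → ℂ) g * conj ((ζ : K → ℂ) g)
          - ∑ g : K, (if ∃ i < p, ¬ p ∣ orderOf ((u ^ i)⁻¹ * g) then
            (ζ : K → ℂ) g * conj ((ζ : K → ℂ) g) else 0) = 0 := by rw [hself', h2, sub_self]
      rw [← h3, ← Finset.sum_sub_distrib]
      apply Finset.sum_congr rfl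
      intro g _
      split_ifs with hg
      · simp
      · rw [Complex.mul_conj]; simp
    exact_mod_cast h1
  have hvan : ∀ g : K, (¬ ∃ i < p, ¬ p ∣ orderOf ((u ^ i)⁻¹ * g)) → (ζ : K → ℂ) g = 0 := by
    intro g hg
    have h1 := (Finset.sum_eq_zero_iff_of_nonneg (fun g _ => by
      split_ifs
      · exact le_rfl
      · exact Complex.normSq_nonneg _)).1 hoff g (Finset.mem_univ g)
    rw [if_neg hg] at h1
    exact Complex.normSq_eq_zero.1 h1
  have h0 := Cfsg.Agent.Lib.Helper4Char.classInner_irr_ne ζ.2 ξ.2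
    (fun h => hne (Subtype.ext h))
  unfold classInner at h0
  have h1 : ∑ g : K, (ζ : K → ℂ) g * conj ((ξ : K → ℂ) g) = Nat.card K := by
    rw [← hS ξ hξ hlam]
    apply Finset.sum_congr rfl
    intro g _
    split_ifs with hg
    · rfl
    · rw [hvan g hg, zero_mul]
  rw [h1, inv_mul_cancel₀ hK] at h0
  exact one_ne_zero h0

end Cfsg.Agent.Lib.Helper86D1CbB
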