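import Mathlib
import Cfsg.Agent.Lib.Helper81D1Defs
import Cfsg.Agent.Lib.Helper86D1CbB

set_option autoImplicit false
set_option linter.unusedVariables false
set_option linter.unusedSectionVars false

/-! PROJECT 81, piece `cbC`. -/

namespace Cfsg.Agent.Lib.Helper86D1CbC

open Cfsg
open Cfsg.Agent.Lib.Helper81Rank Cfsg.Agent.Lib.Helper81D1Defs Cfsg.Agent.Lib.Helper86D1CbB
open scoped ComplexConjugate

variable {K : Type*} [Group K] [Fintype K] {p : ℕ} [Fact p.Prime]

/-- piece `cbC`: the central characters of the members of `c` at `u` are exactly the `p`-th roots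
of unity. -/
theorem cbC {c : Set (IrrCharacter K)} {u : K} (h : CB p c u) :
    (∀ ζ ∈ c, ((ζ : K → ℂ) u / (ζ : K → ℂ) 1) ^ p = 1) ∧
    (∀ w : ℂ, w ^ p = 1 → ∃ ζ ∈ c, (ζ : K → ℂ) u / (ζ : K → ℂ) 1 = w) := by
  classical
  have hp : p.Prime := Fact.out
  have h1 : ∀ ζ : IrrCharacter K, ((ζ : K → ℂ) u / (ζ : K → ℂ) 1) ^ p = 1 := by
    intro ζ
    have h2 := irr_pow_mul h.central ζ p 1
    rw [← h.order, pow_orderOf_eq_one, h.order, one_mul] at h2
    have h3 := Cfsg.Agent.Lib.Helper81Base.irr_one_ne_zero ζ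
    exact (mul_right_cancel₀ h3 (by rw [one_mul]; exact h2)).symm
  refine ⟨fun ζ _ => h1 ζ, ?_⟩
  set cF : Finset (IrrCharacter K) := Finset.univ.filter (· ∈ c) with hcF
  have hcard : cF.card = p := by
    rw [← h.card, Nat.card_eq_fintype_card, Fintype.card_subtype]
  set f : IrrCharacter K → ℂ := fun ζ => (ζ : K → ℂ) u / (ζ : K → ℂ) 1 with hf
  have hinj : Set.InjOn f cF := by
    intro ζ hζ ξ hξ hfe
    rw [hcF, Finset.coe_filter] at hζ hξ
    exact h.inj ζ hζ.2 ξ hξ.2 hfe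
  have himg : (cF.image f).card = p := by
    rw [Finset.card_image_of_injOn hinj, hcard]
  have hsub : cF.image f ⊆ Polynomial.nthRootsFinset p (1 : ℂ) := by
    intro w hw
    obtain ⟨ζ, _, rfl⟩ := Finset.mem_image.1 hw
    rw [Polynomial.mem_nthRootsFinset hp.pos]
    exact h1 ζ
  have hroots : (Polynomial.nthRootsFinset p (1 : ℂ)).card = p :=
    (Complex.isPrimitiveRoot_exp p hp.ne_zero).card_nthRootsFinset
  have heq : cF.image f = Polynomial.nthRootsFinset p (1 : ℂ) :=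
    Finset.eq_of_subset_of_card_le hsub (by rw [himg, hroots])
  intro w hw
  have hw' : w ∈ cF.image f := by
    rw [heq, Polynomial.mem_nthRootsFinset hp.pos]
    exact hw
  obtain ⟨ζ, hζ, rfl⟩ := Finset.mem_image.1 hw'
  rw [hcF, Finset.mem_filter] at hζ
  exact ⟨ζ, hζ.2, rfl⟩

end Cfsg.Agent.Lib.Helper86D1CbC
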