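import Mathlib
import Cfsg.Agent.Lib.Helper81D1Defs

set_option autoImplicit false
set_option linter.unusedVariables false
set_option linter.unusedSectionVars false

/-! PROJECT 81, piece `ddA`. -/

namespace Cfsg.Agent.Lib.Helper86D1DdA

open Cfsg
open Cfsg.Agent.Lib.Helper81Local Cfsg.Agent.Lib.Helper81Rank Cfsg.Agent.Lib.Helper84Subsec
  Cfsg.Agent.Lib.Helper84Subsec2 Cfsg.Agent.Lib.Helper84Contrib Cfsg.Agent.Lib.Helper80Trace
  Cfsg.Agent.Lib.Helper80Brauer Cfsg.Agent.Lib.Helper80Transport Cfsg.Agent.Lib.Helper82Quot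
  Cfsg.Agent.Lib.Helper82Major Cfsg.Agent.Lib.Helper78Sec Cfsg.Agent.Lib.Helper81D1Defs
open scoped ComplexConjugate

universe u

variable {G : Type u} [Group G] [Fintype G] {p : ℕ} [Fact p.Prime] {M : Ideal AlgInt}

variable {B : Set (IrrCharacter G)} {P : Subgroup G}
  [Fintype (Subgroup.centralizer (P : Set G))]
  {e : Set (IrrCharacter (Subgroup.centralizer (P : Set G)))}
  {u : Subgroup.centralizer (P : Set G)}

/-- piece `ddA` -/
theorem ddA (h : Ctx p M B P e u) (hcb : CB p e u)
    {θ : IrrCharacter (Subgroup.centralizer (P : Set G))} (hθ : θ ∈ e) (χ : IrrCharacter G) (t : ℕ) :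
    dd e u χ t = yy p e u t χ (Pi.single θ 1) ∧
    (∀ s : Subgroup.centralizer (P : Set G), ¬ p ∣ orderOf s →
      fp e ((u : G) ^ t) (χ : G → ℂ) s
        = dd e u χ t * (θ : Subgroup.centralizer (P : Set G) → ℂ) s) ∧
    (∀ ψ : IrrCharacter G, (p : ℂ) * mm p e ((u : G) ^ t) (χ : G → ℂ) (ψ : G → ℂ)
        = dd e u χ t * conj (dd e u ψ t)) := by
  classical
  have hzt : ∀ x : Subgroup.centralizer (P : Set G), x * u ^ t = u ^ t * x := by
    intro x
    exact ((show Commute x u from h.hcen x).pow_right t)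
  have hfp : ∀ (χ : IrrCharacter G) (s : Subgroup.centralizer (P : Set G)), ¬ p ∣ orderOf s →
      fp e ((u : G) ^ t) (χ : G → ℂ) s
        = dd e u χ t * (θ : Subgroup.centralizer (P : Set G) → ℂ) s := by
    intro χ s hs
    have h1 := fp_eq e (χ : G → ℂ) hzt
    rw [Subgroup.coe_pow] at h1
    rw [h1]
    unfold dd
    rw [Finset.sum_apply, Finset.sum_mul]
    apply Finset.sum_congr rfl
    intro ζ _
    rw [Pi.smul_apply, smul_eq_mul]
    split_ifs with hζ
    · rw [lam_pow ζ h.hcen, nA_spec, hcb.reg ζ hζ θ hθ s hs]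
      ring
    · simp
  refine ⟨?_, hfp χ, ?_⟩
  · unfold dd yy
    apply Finset.sum_congr rfl
    intro ζ _
    split_ifs with hζ
    · have h1 := bet_single_of_mem (p := p) hζ (Pi.single θ 1)
      rw [FF_single, if_pos hθ, h.hde, pow_one, hcb.norm ζ hζ θ hθ] at h1
      push_cast
      rw [h1, mul_one]
    · rw [bet_single_of_not_mem hζ]
      simp
  · intro ψ
    unfold mm regInner
    have h1 : ∑ y : Subgroup.centralizer (P : Set G), (if ¬ p ∣ orderOf y then
        fp e ((u : G) ^ t) (χ : G → ℂ) y * conj (fp e ((u : G) ^ t) (ψ : G → ℂ) y) else 0)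
        = (dd e u χ t * conj (dd e u ψ t)) * ∑ y : Subgroup.centralizer (P : Set G),
          (if ¬ p ∣ orderOf y then (θ : Subgroup.centralizer (P : Set G) → ℂ) y
            * conj ((θ : Subgroup.centralizer (P : Set G) → ℂ) y) else 0) := by
      rw [Finset.mul_sum]
      apply Finset.sum_congr rfl
      intro y _
      split_ifs with hy
      · simp
      · rw [hfp χ y hy, hfp ψ y hy, map_mul]
        ring
    rw [h1]
    have h2 := hcb.norm θ hθ θ hθ
    unfold regInner at h2
    linear_combination (dd e u χ t * conj (dd e u ψ t)) * h2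

end Cfsg.Agent.Lib.Helper86D1DdA
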