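import Mathlib
import Cfsg.Agent.Lib.Helper81D1Defs
import Cfsg.Agent.Lib.Helper86D1DdA

set_option autoImplicit false
set_option linter.unusedVariables false
set_option linter.unusedSectionVars false

/-! PROJECT 81, piece `ddB`. -/

namespace Cfsg.Agent.Lib.Helper86D1DdB

open Cfsg
open Cfsg.Agent.Lib.Helper81Local Cfsg.Agent.Lib.Helper81Rank Cfsg.Agent.Lib.Helper84Subsec
  Cfsg.Agent.Lib.Helper84Subsec2 Cfsg.Agent.Lib.Helper84Contrib Cfsg.Agent.Lib.Helper80Trace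
  Cfsg.Agent.Lib.Helper80Brauer Cfsg.Agent.Lib.Helper80Transport Cfsg.Agent.Lib.Helper82Quot
  Cfsg.Agent.Lib.Helper82Major Cfsg.Agent.Lib.Helper78Sec Cfsg.Agent.Lib.Helper81D1Defs
  Cfsg.Agent.Lib.Helper86D1DdA
open scoped ComplexConjugate

universe u

variable {G : Type u} [Group G] [Fintype G] {p : ℕ} [Fact p.Prime] {M : Ideal AlgInt}

/-- `fp_eq_zero` for a subgroup equal to the centralizer -/
theorem fp_eq_zero' (hM : IsPModular p M) {H : Subgroup G} (x : G)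
    (hx : ∃ k : ℕ, orderOf x = p ^ k) (hH : H = Subgroup.centralizer ({x} : Set G))
    {b : Set (IrrCharacter H)} {B : Set (IrrCharacter G)} (hind : IsInducedBlock M H b B)
    {χ : IrrCharacter G} (hχ : χ ∉ B) (s : H) (hs : ¬ p ∣ orderOf s) :
    fp b x (χ : G → ℂ) s = 0 := by
  subst hH
  exact fp_eq_zero hM x hx hind hχ s hs

variable {B : Set (IrrCharacter G)} {P : Subgroup G}
  [Fintype (Subgroup.centralizer (P : Set G))]
  {e : Set (IrrCharacter (Subgroup.centralizer (P : Set G)))}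
  {u : Subgroup.centralizer (P : Set G)}

theorem orderOf_pow_u (h : Ctx p M B P e u) {t : ℕ} (ht : t.Coprime p) :
    orderOf ((u : G) ^ t) = p := by
  rw [Nat.Coprime.orderOf_pow (by rw [h.hu]; exact ht.symm), h.hu]

theorem exists_mem (hcb : CB p e u) : ∃ θ, θ ∈ e := by
  have hp : p.Prime := Fact.out
  by_contra hcon
  push Not at hcon
  have h1 : e = ∅ := Set.eq_empty_iff_forall_notMem.2 hcon
  have h2 := hcb.card
  rw [h1] at h2
  simp at h2
  exact hp.ne_zero h2.symm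

/-- piece `ddB` -/
theorem ddB (h : Ctx p M B P e u) (hcb : CB p e u) (t : ℕ) (ht : t.Coprime p) :
    (∑ χ : IrrCharacter G, dd e u χ t * conj (dd e u χ t) = p) ∧
    (∀ χ : IrrCharacter G, χ ∉ B → dd e u χ t = 0) ∧
    (∀ χ : IrrCharacter G, χ ∈ B → dd e u χ t ≠ 0) := by
  classical
  have hp : p.Prime := Fact.out
  have hM := h.hM
  have hPr := IsPModular.isPrime hM
  obtain ⟨θ, hθ⟩ := exists_mem hcb
  have ho : ∃ k : ℕ, orderOf ((u : G) ^ t) = p ^ k := ⟨1, by rw [pow_one, orderOf_pow_u h ht]⟩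
  have h1reg : ¬ p ∣ orderOf (1 : Subgroup.centralizer (P : Set G)) := by
    rw [orderOf_one]
    intro hd
    exact hp.one_lt.ne' (Nat.dvd_one.1 hd)
  have hθ1 := Cfsg.Agent.Lib.Helper81Base.irr_one_ne_zero θ
  have hp0 : (p : ℂ) ≠ 0 := by exact_mod_cast hp.ne_zero
  refine ⟨?_, ?_, ?_⟩
  · have h1 := sum_yy_mul_conj hM
      (Cfsg.Agent.Lib.Helper81Subsec.isBlockUnion_of_isPBlock h.hmax.1.1.2) h.hcen t ho
      (h.hH t ht) (Pi.single θ 1) (Pi.single θ 1)
    have h2 := bet_single_of_mem (p := p) hθ (Pi.single θ 1)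
    rw [FF_single, if_pos hθ, h.hde, pow_one, hcb.norm θ hθ θ hθ] at h2
    rw [h2, h.hde, pow_one, mul_one] at h1
    rw [← h1]
    apply Finset.sum_congr rfl
    intro χ _
    rw [(ddA h hcb hθ χ t).1]
  · intro χ hχ
    have h1 := fp_eq_zero' hM ((u : G) ^ t) ho (h.hH t ht) h.hind hχ 1 h1reg
    rw [(ddA h hcb hθ χ t).2.1 1 h1reg] at h1
    exact (mul_eq_zero.1 h1).resolve_right hθ1
  · intro χ hχ hzero
    obtain ⟨ψ, hψ, h0⟩ := Cfsg.Agent.Lib.Helper81Defect.exists_height_zero (p := p)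
      (⟨χ, hχ⟩ : ∃ χ, χ ∈ B)
    have h1 := Cfsg.Agent.Lib.Helper78Maj.mm_ne_zero (z := u ^ t) hM
      (by rw [Subgroup.coe_pow]; exact ho) (by rw [Subgroup.coe_pow]; exact h.hH t ht) h.hind
      (by rw [h.hde, h.hdB]) hχ hψ h0
    rw [Subgroup.coe_pow] at h1
    have h2 := (ddA h hcb hθ χ t).2.2 ψ
    rw [hzero, zero_mul] at h2
    exact h1 ((mul_eq_zero.1 h2).resolve_left hp0)

end Cfsg.Agent.Lib.Helper86D1DdB
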