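import Mathlib
import Cfsg.Agent.Lib.Helper81D1Defs
import Cfsg.Agent.Lib.Helper86D1DdA
import Cfsg.Agent.Lib.Helper86D1DdB
import Cfsg.Agent.Lib.Helper78MajP

set_option autoImplicit false
set_option linter.unusedVariables false
set_option linter.unusedSectionVars false

/-! PROJECT 81, piece `ddD`. -/

namespace Cfsg.Agent.Lib.Helper86D1DdD

open Cfsg
open Cfsg.Agent.Lib.Helper81Local Cfsg.Agent.Lib.Helper81Rank Cfsg.Agent.Lib.Helper84Subsec
  Cfsg.Agent.Lib.Helper84Subsec2 Cfsg.Agent.Lib.Helper84Contrib Cfsg.Agent.Lib.Helper80Trace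
  Cfsg.Agent.Lib.Helper80Brauer Cfsg.Agent.Lib.Helper80Transport Cfsg.Agent.Lib.Helper82Quot
  Cfsg.Agent.Lib.Helper82Major Cfsg.Agent.Lib.Helper78Sec Cfsg.Agent.Lib.Helper81D1Defs
  Cfsg.Agent.Lib.Helper86D1DdA Cfsg.Agent.Lib.Helper86D1DdB Cfsg.Agent.Lib.Helper78MajP
  Cfsg.Agent.Lib.Helper80Conj Cfsg.Agent.Lib.Helper78Sub Cfsg.Agent.Lib.Helper4Char
open scoped ComplexConjugate

universe u

variable {G : Type u} [Group G] [Fintype G] {p : ℕ} [Fact p.Prime] {M : Ideal AlgInt}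

variable {B : Set (IrrCharacter G)} {P : Subgroup G}
  [Fintype (Subgroup.centralizer (P : Set G))]
  {e : Set (IrrCharacter (Subgroup.centralizer (P : Set G)))}
  {u : Subgroup.centralizer (P : Set G)}

theorem isZ_pow (h : Ctx p M B P e u) (t : ℕ) : IsZ P ((u : G) ^ t) := by
  have hu : (u : G) ∈ P := by
    have h1 : ∀ g : G, g ∈ Subgroup.zpowers (u : G) → g ∈ P := by
      intro g hg
      exact h.hzp.symm ▸ hg
    exact h1 _ (Subgroup.mem_zpowers _)
  refine ⟨P.pow_mem hu t, ?_⟩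
  intro y hy
  have h1 : y * (u : G) = (u : G) * y := by
    have := u.2
    rw [Subgroup.mem_centralizer_iff] at this
    exact this y hy
  exact ((show Commute y (u : G) from h1).pow_right t)

theorem Fu_eq (h : Ctx p M B P e u) {t : ℕ} (ht : t.Coprime p) (ψ : G → ℂ) :
    Fu p M P e ψ ((u : G) ^ t)
      = SP p ((u : G) ^ t) (ext (Subgroup.centralizer (P : Set G)) (blockCoeff e)) ψ := by
  have hM := h.hM
  have hz := isZ_pow h t
  have h1 := fz_spec hM h.hmax.1.1 hz.zpowers_le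
  have h2 : (⟨Subgroup.zpowers ((u : G) ^ t), fz p M P e (Subgroup.zpowers ((u : G) ^ t))⟩ :
      BrauerPairIdx G) = ⟨P, e⟩ := by
    apply Cfsg.Agent.Lib.Helper80Abel.eq_of_ple_of_card hM h1
    show Nat.card P ≤ Nat.card (Subgroup.zpowers ((u : G) ^ t))
    rw [Nat.card_zpowers, orderOf_pow_u h ht, h.hP]
  have h3 := congrArg pairFun h2
  unfold Fu
  have h4 : pfun (Subgroup.zpowers ((u : G) ^ t)) (fz p M P e (Subgroup.zpowers ((u : G) ^ t)))
      = pfun P e := h3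
  rw [h4]

/-- piece `ddD` -/
theorem ddD (h : Ctx p M B P e u) (hcb : CB p e u) {t s : ℕ} (ht : t.Coprime p) (hs : s.Coprime p)
    (hts : ¬ ∃ n ∈ pstab P e, n * (u : G) ^ t * n⁻¹ = (u : G) ^ s) :
    ∑ χ : IrrCharacter G, dd e u χ t * conj (dd e u χ s) = 0 := by
  classical
  have hp : p.Prime := Fact.out
  have hM := h.hM
  have hPr := IsPModular.isPrime hM
  obtain ⟨θ, hθ⟩ := exists_mem hcb
  obtain ⟨ψ, hψ⟩ := Cfsg.Agent.Lib.Helper81Block.isPBlock_nonempty h.hmax.1.2.1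
  have hp0 : (p : ℂ) ≠ 0 := by exact_mod_cast hp.ne_zero
  have hot : ∃ k : ℕ, orderOf ((u : G) ^ t) = p ^ k := ⟨1, by rw [pow_one, orderOf_pow_u h ht]⟩
  have hos : ∃ k : ℕ, orderOf ((u : G) ^ s) = p ^ k := ⟨1, by rw [pow_one, orderOf_pow_u h hs]⟩
  have h0 : classInner (Fu p M P e (ψ : G → ℂ) ((u : G) ^ s))
      (Fu p M P e (ψ : G → ℂ) ((u : G) ^ t)) = 0 := by
    rcases Fu_cases hM h.hmax (isZ_pow h t) (isZ_pow h s) ψ with h1 | ⟨-, h1⟩
    · exact h1
    · exact absurd h1 hts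
  rw [Fu_eq h ht, Fu_eq h hs,
    Cfsg.Agent.Lib.Helper4Char4.classInner_eq_sum _ _ (SP_isClassFunction _ _ _)] at h0
  have hψc := IsIrrCharacter.isClassFunction ψ.2
  have hterm : ∀ χ : IrrCharacter G,
      classInner (SP p ((u : G) ^ s) (ext (Subgroup.centralizer (P : Set G)) (blockCoeff e))
          (ψ : G → ℂ)) (χ : G → ℂ)
        * classInner (χ : G → ℂ) (SP p ((u : G) ^ t)
          (ext (Subgroup.centralizer (P : Set G)) (blockCoeff e)) (ψ : G → ℂ))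
      = ((p : ℂ)⁻¹ * (p : ℂ)⁻¹ * (dd e u ψ s * conj (dd e u ψ t)))
          * (dd e u χ t * conj (dd e u χ s)) := by
    intro χ
    have hχc := IsIrrCharacter.isClassFunction χ.2
    rw [← classInner_conj_symm, classInner_SP_eq_mm hM hos (h.hH s hs) h.hmax.1.1.2 hψc hχc,
      classInner_SP_eq_mm hM hot (h.hH t ht) h.hmax.1.1.2 hψc hχc]
    have e1 := (ddA h hcb hθ χ t).2.2 ψ
    have e2 := (ddA h hcb hθ χ s).2.2 ψ
    have e1' : mm p e ((u : G) ^ t) (χ : G → ℂ) (ψ : G → ℂ)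
        = (p : ℂ)⁻¹ * (dd e u χ t * conj (dd e u ψ t)) := by
      rw [← e1]; field_simp
    have e2' : mm p e ((u : G) ^ s) (χ : G → ℂ) (ψ : G → ℂ)
        = (p : ℂ)⁻¹ * (dd e u χ s * conj (dd e u ψ s)) := by
      rw [← e2]; field_simp
    rw [e1', e2']
    simp only [map_mul, map_inv₀, Complex.conj_natCast, Complex.conj_conj]
    ring
  rw [Finset.sum_congr rfl (fun χ _ => hterm χ), ← Finset.mul_sum] at h0
  have hn1 := (ddB h hcb t ht).2.2 ψ hψ
  have hn2 := (ddB h hcb s hs).2.2 ψ hψ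
  have hc : ((p : ℂ)⁻¹ * (p : ℂ)⁻¹ * (dd e u ψ s * conj (dd e u ψ t))) ≠ 0 := by
    apply mul_ne_zero (mul_ne_zero (inv_ne_zero hp0) (inv_ne_zero hp0))
    apply mul_ne_zero hn2
    exact (map_ne_zero _).2 hn1
  exact (mul_eq_zero.1 h0).resolve_left hc

end Cfsg.Agent.Lib.Helper86D1DdD
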