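import Mathlib
import Cfsg.Agent.Lib.Helper81D1Defs
import Cfsg.Agent.Lib.Helper57D1Count
import Cfsg.Agent.Lib.Helper57D1RelR
import Cfsg.Agent.Lib.Helper5D1Nconst
import Cfsg.Agent.Lib.Helper76D1CombA
import Cfsg.Agent.Lib.Helper76D1CombB
import Cfsg.Agent.Lib.Helper76D1Fourier
import Cfsg.Agent.Lib.Helper76D1Deg
import Cfsg.Agent.Lib.Helper81D1Ctx
import Cfsg.Agent.Lib.Helper81D1DdC
import Cfsg.Agent.Lib.Helper81D1Quot
import Cfsg.Agent.Lib.Helper81D1RelE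
import Cfsg.Agent.Lib.Helper81D1VanC
import Cfsg.Agent.Lib.Helper82D1LiftA
import Cfsg.Agent.Lib.Helper82D1LiftB
import Cfsg.Agent.Lib.Helper82D1LiftC
import Cfsg.Agent.Lib.Helper82D1LiftD
import Cfsg.Agent.Lib.Helper86D1CbA
import Cfsg.Agent.Lib.Helper86D1CbB
import Cfsg.Agent.Lib.Helper86D1CbC
import Cfsg.Agent.Lib.Helper86D1DdA
import Cfsg.Agent.Lib.Helper86D1DdB
import Cfsg.Agent.Lib.Helper86D1DdD

/-!
# Blocks of defect one (lattice form) and the key lemma for `k(B) ≤ p^2` (helper81, project 81)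

Assembly of the pieces proved by helpers 5, 57, 76, 81, 82, 86.
* `defect_one`: the lattice structure of a block of defect one.
* `key`: a subsection `(z, b)` with `z` of order `p` and `b` of defect two sees at most `p^2`
  characters.
-/

set_option autoImplicit false
set_option linter.unusedVariables false
set_option linter.unusedSectionVars false

namespace Cfsg.Agent.Lib.Helper81D1Main

open Cfsg
open Cfsg.Agent.Lib.Helper81Local Cfsg.Agent.Lib.Helper81Rank Cfsg.Agent.Lib.Helper84Subsec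
  Cfsg.Agent.Lib.Helper84Subsec2 Cfsg.Agent.Lib.Helper84Contrib Cfsg.Agent.Lib.Helper80Trace
  Cfsg.Agent.Lib.Helper80Brauer Cfsg.Agent.Lib.Helper80Transport Cfsg.Agent.Lib.Helper82Quot
  Cfsg.Agent.Lib.Helper82Major Cfsg.Agent.Lib.Helper78Sec Cfsg.Agent.Lib.Helper81D1Defs
open Cfsg.Agent.Lib.Helper57D1Count (count_pairs)
open Cfsg.Agent.Lib.Helper57D1RelR (relR)
open Cfsg.Agent.Lib.Helper5D1Nconst (nconst')
open Cfsg.Agent.Lib.Helper76D1CombA (combA)
open Cfsg.Agent.Lib.Helper76D1CombB (combB)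
open Cfsg.Agent.Lib.Helper76D1Fourier (fourier_gram)
open Cfsg.Agent.Lib.Helper76D1Deg (deg_sum orthN)
open Cfsg.Agent.Lib.Helper81D1Ctx (ctx_exists vanD)
open Cfsg.Agent.Lib.Helper81D1DdC (ddC vanA)
open Cfsg.Agent.Lib.Helper81D1Quot (quot_block)
open Cfsg.Agent.Lib.Helper81D1RelE (relE ddE)
open Cfsg.Agent.Lib.Helper81D1VanC (vanB vanC)
open Cfsg.Agent.Lib.Helper82D1LiftA (liftA)
open Cfsg.Agent.Lib.Helper82D1LiftB (liftB)
open Cfsg.Agent.Lib.Helper82D1LiftC (liftC)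
open Cfsg.Agent.Lib.Helper82D1LiftD (yy_lift_sum yy_lift_sub)
open Cfsg.Agent.Lib.Helper86D1CbA (cbA)
open Cfsg.Agent.Lib.Helper86D1CbB (cbB)
open Cfsg.Agent.Lib.Helper86D1CbC (cbC)
open Cfsg.Agent.Lib.Helper86D1DdB (ddB)
open Cfsg.Agent.Lib.Helper86D1DdD (ddD)
open scoped ComplexConjugate

universe u

/-! ## Part A: blocks with a central defect group of order `p` -/

section A

variable {K : Type*} [Group K] [Fintype K] {p : ℕ} [Fact p.Prime] {M : Ideal AlgInt}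

theorem cb_of_defect (hM : IsPModular p M) {c : Set (IrrCharacter K)} (hc : IsPBlock M c) {u : K}
    (hcen : ∀ h : K, h * u = u * h) (hu : orderOf u = p)
    (hD : IsDefectGroup p M c (Subgroup.zpowers u)) : CB p c u := by
  obtain ⟨h1, h2, h3, h4⟩ := cbA hM hc hcen hu hD
  exact ⟨hcen, hu, h1, h2, h3, h4, cbB hcen hu h4⟩

end A

/-! ## Part B: the local context and the generalized decomposition numbers -/

section B

variable {G : Type u} [Group G] [Fintype G] {p : ℕ} [Fact p.Prime] {M : Ideal AlgInt}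

variable {B : Set (IrrCharacter G)} {P : Subgroup G}
  [Fintype (Subgroup.centralizer (P : Set G))]
  {e : Set (IrrCharacter (Subgroup.centralizer (P : Set G)))}
  {u : Subgroup.centralizer (P : Set G)}

theorem ctx_cb (h : Ctx p M B P e u) : CB p e u :=
  cb_of_defect h.hM h.hmax.1.1.2 h.hcen (by rw [← h.hu]; exact (Subgroup.orderOf_coe u).symm) h.hdef

theorem dd_orth (h : Ctx p M B P e u) (hcb : CB p e u) (t s : ℕ) (ht0 : 0 < t) (htp : t < p)
    (hs0 : 0 < s) (hsp : s < p) :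
    ∑ χ : IrrCharacter G, dd e u χ t * conj (dd e u χ s)
      = open Classical in if ∃ r ∈ EE p P e (u : G), (r * t) % p = s then (p : ℂ) else 0 :=
  ddE h hcb (fun t ht => (ddB h hcb t ht).1) (fun n hn r hr χ t ht => ddC h hcb hn hr χ t ht)
    (fun t s ht hs hts => ddD h hcb ht hs hts) t s ht0 htp hs0 hsp

theorem nconst (h : Ctx p M B P e u) (hcb : CB p e u) (χ : IrrCharacter G) :
    (χ ∉ B → ∀ ζ ∈ e, ∀ ξ ∈ e, nA χ ζ = nA χ ξ) ∧
    (χ ∈ B → ∀ ξ ∈ e, ∃ ζ ∈ e, nA χ ζ ≠ nA χ ξ) :=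
  nconst' h hcb (cbC hcb).1 (fun t ht => (ddB h hcb t ht).2) χ

/-- completeness: a generalized character of `B` orthogonal to all `Ind (ζ - ξ)` vanishes on the
`p`-singular elements. -/
theorem van (h : Ctx p M B P e u) (hcb : CB p e u) (y : IrrCharacter G → ℤ)
    (hyB : ∀ χ, χ ∉ B → y χ = 0)
    (hy : ∀ ζ ∈ e, ∀ ξ ∈ e, ∑ χ : IrrCharacter G, y χ * ((nA χ ζ : ℤ) - nA χ ξ) = 0)
    (g : G) (hg : p ∣ orderOf g) : gc y g = 0 :=
  vanD h y (fun t ht => vanA h hcb y hy t ht) (fun x hx hx1 b' hb' => vanB h hx hx1 hb')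
    (fun x hx hloc s hs hs' => vanC h.hM h.hmax.1.2.1 y hyB x hx hloc s hs hs') g hg

end B

/-! ## Part C: abstract lemmas -/

section C

end C

/-! ## Part D: assembly of the structure theorem for blocks of defect one -/

section D

variable {G : Type u} [Group G] [Fintype G] {p : ℕ} [Fact p.Prime] {M : Ideal AlgInt}

/-- **Structure of a block of defect one** (lattice form). -/
theorem defect_one (hM : IsPModular p M) {B : Set (IrrCharacter G)} (hB : IsPBlock M B)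
    (hd : blockDefect p B = 1) :
    ∃ (I : Type u) (_ : Fintype I) (v : I → IrrCharacter G → ℤ) (a : I → ℤ),
      (∀ i, a i ≠ 0) ∧
      (∀ i χ, χ ∉ B → v i χ = 0) ∧
      (∀ i j g, p ∣ orderOf g → gc (fun χ => a j * v i χ - a i * v j χ) g = 0) ∧
      (∑ i, ∑ j, ∑ χ, (a j * v i χ - a i * v j χ) ^ 2
        ≤ 2 * ((Fintype.card I : ℤ) - 1) * p) ∧
      (∀ ψ ∈ B, ∃ c : I → ℤ, (∀ χ, N p ψ χ = ∑ i, c i * v i χ) ∧ ∑ i, c i * a i = 0) := by
  classical
  have hp : p.Prime := Fact.out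
  obtain ⟨P, e, u, h⟩ := ctx_exists hM hB hd
  let _ : Fintype (Subgroup.centralizer (P : Set G)) := Fintype.ofFinite _
  have hcb := ctx_cb h
  obtain ⟨hroot, hsurj⟩ := cbC hcb
  -- the index type
  let Λ₀ := {ζ : IrrCharacter (Subgroup.centralizer (P : Set G)) // ζ ∈ e}
  let a₀ : Λ₀ → ℂ := fun l => Helper84Subsec2.lam (l.1 : Subgroup.centralizer (P : Set G) → ℂ) u
  have ha₀ : ∀ l, a₀ l ^ p = 1 := fun l => hroot l.1 l.2
  have hinj₀ : Function.Injective a₀ := fun l l' hll => Subtype.ext (hcb.inj l.1 l.2 l'.1 l'.2 hll)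
  have hcard₀ : Fintype.card Λ₀ = p := by
    rw [← Nat.card_eq_fintype_card]; exact hcb.card
  obtain ⟨ζ₁, hζ₁e, hζ₁⟩ := hsurj 1 (one_pow p)
  let l₁ : Λ₀ := ⟨ζ₁, hζ₁e⟩
  have hl₁ : a₀ l₁ = 1 := hζ₁
  obtain ⟨hE1, hE2, hE3, hE4⟩ := relE h
  let n₀ : IrrCharacter G → Λ₀ → ℤ := fun χ l => (nA χ l.1 : ℤ)
  have hdd : ∀ χ t, dd e u χ t = ∑ l : Λ₀, (n₀ χ l : ℂ) * a₀ l ^ t := by
    intro χ t
    unfold dd
    rw [← Finset.sum_filter]
    exact Finset.sum_subtype _ (by simp) _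
  have horth : ∀ t s : ℕ, 0 < t → t < p → 0 < s → s < p →
      ∑ χ : IrrCharacter G, (∑ l, (n₀ χ l : ℂ) * a₀ l ^ t) * conj (∑ l, (n₀ χ l : ℂ) * a₀ l ^ s)
        = if ∃ r ∈ EE p P e (u : G), (r * t) % p = s then (p : ℂ) else 0 := by
    intro t s h1 h2 h3 h4
    have := dd_orth h hcb t s h1 h2 h3 h4
    simp only [hdd] at this
    convert this
  obtain ⟨hR, hcl⟩ := relR p hp a₀ ha₀ hinj₀ hcard₀ (EE p P e (u : G)) hE1 hE2 hE3 hE4
  let Λ := {l : Λ₀ // a₀ l ≠ 1}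
  let R : Λ → Λ → Prop := fun l l' => ∃ r ∈ EE p P e (u : G), a₀ l'.1 ^ r = a₀ l.1
  let D : Λ → IrrCharacter G → ℤ := fun l χ => n₀ χ l.1 - n₀ χ l₁
  have hne1 : ∀ l : Λ, l.1 ≠ l₁ := fun l hl => l.2 (by rw [hl]; exact hl₁)
  have hgram : ∀ l l' : Λ, ∑ χ, D l χ * D l' χ
      = ((EE p P e (u : G)).card : ℤ) + if R l l' then 1 else 0 := by
    intro l l'
    have := fourier_gram p hp a₀ ha₀ hinj₀ hcard₀ n₀ (EE p P e (u : G)) hE1 horth l₁ l.1 l'.1 hl₁
      (hne1 l) (hne1 l')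
    convert this
  have hΛ : Nonempty Λ := by
    obtain ⟨w, hw⟩ : ∃ w : ℂ, w ^ p = 1 ∧ w ≠ 1 := by
      have := Complex.isPrimitiveRoot_exp p hp.ne_zero
      exact ⟨_, this.pow_eq_one, this.ne_one hp.one_lt⟩
    obtain ⟨ζ, hζe, hζ⟩ := hsurj w hw.1
    exact ⟨⟨⟨ζ, hζe⟩, by show Helper84Subsec2.lam _ _ ≠ 1; unfold Helper84Subsec2.lam; rw [hζ]; exact hw.2⟩⟩
  set t := Nat.card (Quotient (⟨R, hR⟩ : Setoid Λ)) with ht
  have hte : (t : ℤ) * ((EE p P e (u : G)).card : ℤ) + 1 = p := by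
    have h1 : t * (EE p P e (u : G)).card = p - 1 := hcl
    have h2 : 1 ≤ p := hp.pos
    zify [h2] at h1
    linarith
  have hdeg0 : ∀ l l' : Λ, ∑ χ, (D l χ - D l' χ) * (charDegree (χ : G → ℂ) : ℤ) = 0 := by
    intro l l'
    have := deg_sum h hcb l.1.2 l'.1.2
    rw [← this]
    apply Finset.sum_congr rfl
    intro χ _
    simp only [D, n₀]
    ring
  obtain ⟨δ, ζ, A, α, hδ, hD, hζ, hA, hκ⟩ := combA R hR (EE p P e (u : G)).card t ht.symm D
    (fun χ => (charDegree (χ : G → ℂ) : ℤ))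
    (fun χ => by exact_mod_cast Cfsg.Agent.Lib.Helper81Base.charDegree_pos χ)
    (fun l l' => by convert hgram l l') hdeg0
  obtain ⟨I, hI, v, a, h1, h2, h3, h4, h5⟩ := combB R hR (EE p P e (u : G)).card t ht.symm D
    (fun l => by rw [hgram l l, if_pos (hR.refl l)]) δ ζ A α hδ hD hζ hA hκ
  have hsupp : ∀ χ, (∃ l, D l χ ≠ 0) ↔ χ ∈ B := by
    intro χ
    constructor
    · rintro ⟨l, hl⟩
      by_contra hχ
      apply hl
      have := (nconst h hcb χ).1 hχ l.1.1 l.1.2 ζ₁ hζ₁e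
      simp only [D, n₀, l₁]
      rw [this]; ring
    · intro hχ
      obtain ⟨ξ, hξe, hξ⟩ := (nconst h hcb χ).2 hχ ζ₁ hζ₁e
      have hξ1 : a₀ ⟨ξ, hξe⟩ ≠ 1 := by
        intro h1
        apply hξ
        have : (⟨ξ, hξe⟩ : Λ₀) = l₁ := hinj₀ (h1.trans hl₁.symm)
        have h2 : ξ = ζ₁ := congrArg Subtype.val this
        rw [h2]
      refine ⟨⟨⟨ξ, hξe⟩, hξ1⟩, ?_⟩
      simp only [D, n₀, l₁]
      intro h0
      apply hξ
      have : (nA χ ξ : ℤ) = nA χ ζ₁ := by linarith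
      exact_mod_cast this
  -- from orthogonality to all `D l` to the hypothesis of `van`
  have hconv : ∀ y : IrrCharacter G → ℤ, (∀ l, ∑ χ, y χ * D l χ = 0) →
      ∀ ζ ∈ e, ∀ ξ ∈ e, ∑ χ : IrrCharacter G, y χ * ((nA χ ζ : ℤ) - nA χ ξ) = 0 := by
    intro y hy
    have key : ∀ ζ ∈ e, ∑ χ : IrrCharacter G, y χ * ((nA χ ζ : ℤ) - nA χ ζ₁) = 0 := by
      intro ζ' hζ'
      by_cases h1 : a₀ ⟨ζ', hζ'⟩ = 1
      · have : (⟨ζ', hζ'⟩ : Λ₀) = l₁ := hinj₀ (h1.trans hl₁.symm)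
        have h2 : ζ' = ζ₁ := congrArg Subtype.val this
        rw [h2]; simp
      · exact hy ⟨⟨ζ', hζ'⟩, h1⟩
    intro ζ' hζ' ξ' hξ'
    have e1 := key ζ' hζ'
    have e2 := key ξ' hξ'
    have : ∀ χ : IrrCharacter G, y χ * ((nA χ ζ' : ℤ) - nA χ ξ')
        = y χ * ((nA χ ζ' : ℤ) - nA χ ζ₁) - y χ * ((nA χ ξ' : ℤ) - nA χ ζ₁) := fun χ => by ring
    simp only [this]
    rw [Finset.sum_sub_distrib, e1, e2, sub_zero]
  refine ⟨I, hI, v, a, h1, ?_, ?_, ?_, ?_⟩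
  · intro i χ hχ
    by_contra hv
    exact hχ ((hsupp χ).1 (h2 i χ hv))
  · intro i j g hg
    apply van h hcb _ _ (hconv _ (h3 i j)) g hg
    intro χ hχ
    have e1 : v i χ = 0 := by
      by_contra hv
      exact hχ ((hsupp χ).1 (h2 i χ hv))
    have e2 : v j χ = 0 := by
      by_contra hv
      exact hχ ((hsupp χ).1 (h2 j χ hv))
    rw [e1, e2]; ring
  · rw [hte] at h4
    exact h4
  · intro ψ hψ
    apply h5 (fun χ => N p ψ χ)
    · intro l
      exact orthN h hcb l.1.2 hζ₁e ψ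
    · intro χ hχ
      rw [hsupp]
      by_contra hχB
      exact hχ (N_eq_zero_of_not_mem hM hB hψ hχB)

end D


/-! ## Part E: central extensions by a group of order `p` -/

section E0

variable {K : Type u} [Group K] [Fintype K] {p : ℕ} [Fact p.Prime] {M : Ideal AlgInt}

end E0

section E

variable {G : Type u} [Group G] [Fintype G] {p : ℕ} [Fact p.Prime] {M : Ideal AlgInt}
variable {H : Subgroup G} [Fintype H]

/-- **Key lemma**: a subsection `(z, b)` with `z` of order `p` and `b` of defect two sees at most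
`p^2` characters. -/
theorem key (hM : IsPModular p M) {z : H} (hH : H = Subgroup.centralizer ({(z : G)} : Set G))
    (hz : orderOf (z : G) = p) {b : Set (IrrCharacter H)} (hb : IsPBlock M b)
    (hd : blockDefect p b = 2) (X : Set (IrrCharacter G))
    (hX : ∀ χ ∈ X, ∃ ξ ∈ b, yy p b z 1 χ (Pi.single ξ 1) ≠ 0) : Nat.card X ≤ p ^ 2 := by
  classical
  have hp : p.Prime := Fact.out
  have hcen : ∀ h : H, h * z = z * h := Cfsg.Agent.Lib.Helper78Maj.central_of_eq hH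
  set Z : Subgroup H := Subgroup.zpowers z with hZdef
  have hZc : Z ≤ Subgroup.center H := by
    rw [hZdef, Subgroup.zpowers_le, Subgroup.mem_center_iff]
    exact hcen
  have hZn : Z.Normal := ⟨fun n hn g => by
    have := Subgroup.mem_center_iff.1 (hZc hn) g
    rw [this, mul_inv_cancel_right]; exact hn⟩
  have hMp := hM.2.1.isPrime
  let _ : Fintype (H ⧸ Z) := Fintype.ofFinite _
  have hZ : Nat.card Z = p := by
    rw [hZdef, Nat.card_zpowers, ← hz, Subgroup.orderOf_coe]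
  obtain ⟨β, hβ, hβb, hβd, -⟩ := quot_block hM hb Z hZc hZ
  have hβ1 : blockDefect p β = 1 := by omega
  obtain ⟨I, hI, v, a, h1, h2, h3, h4, h5⟩ := defect_one hM hβ hβ1
  rcases Set.eq_empty_or_nonempty X with hXe | ⟨χ₀, hχ₀⟩
  · rw [hXe]; simp
  -- the family
  let mb : I × I → IrrCharacter (H ⧸ Z) → ℤ := fun q ψ => a q.2 * v q.1 ψ - a q.1 * v q.2 ψ
  have hmb : ∀ q ψ, mb q ψ ≠ 0 → inflate Z ψ ∈ b := by
    intro q ψ hq
    apply hβb
    by_contra hψ
    apply hq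
    simp only [mb]
    rw [h2 q.1 ψ hψ, h2 q.2 ψ hψ]; ring
  have hdiv : ∀ q ∈ (Finset.univ : Finset (I × I)), ∀ ζ,
      (p : ℤ) ∣ bet p b (Pi.single ζ 1) (lift Z (mb q)) := by
    intro q _ ζ
    exact liftA hM hb hd Z hZc hZ (mb q) (hmb q) (fun g hg => h3 q.1 q.2 g hg) ζ
  -- nonvanishing
  have hnz : ∀ χ ∈ X, ∃ s' ⊆ (Finset.univ : Finset (I × I)), 2 * (Fintype.card I - 1) ≤ s'.card ∧
      ∀ q ∈ s', yy p b z 1 χ (lift Z (mb q)) ≠ 0 := by
    intro χ hχ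
    obtain ⟨ξ, hξ, hne⟩ := hX χ hχ
    obtain ⟨ψ, hψ, hne'⟩ := liftC hM hb Z hZc hZ hβ hβb hcen χ hξ hne
    obtain ⟨c, hc1, hc2⟩ := h5 ψ hψ
    let f : I → ℂ := fun i => yy p b z 1 χ (lift Z (v i))
    let r : I → ℂ := fun i => f i / (a i : ℂ)
    have ha : ∀ i, (a i : ℂ) ≠ 0 := fun i => by exact_mod_cast h1 i
    have hfm : ∀ q : I × I, yy p b z 1 χ (lift Z (mb q))
        = (a q.1 : ℂ) * (a q.2 : ℂ) * (r q.1 - r q.2) := by
      intro q
      simp only [mb, r, f]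
      rw [yy_lift_sub]
      field_simp [ha q.1, ha q.2]
    have hex : ∃ i₀ j₀, r i₀ ≠ r j₀ := by
      by_contra hcon
      push Not at hcon
      apply hne'
      have e1 : (fun ψ' => N p ψ ψ') = fun ψ' => ∑ i, c i * v i ψ' := funext hc1
      rw [e1, yy_lift_sum]
      by_cases hIe : IsEmpty I
      · simp
      · rw [not_isEmpty_iff] at hIe
        obtain ⟨j⟩ := hIe
        have e2 : ∀ i, (c i : ℂ) * yy p b z 1 χ (lift Z (v i)) = ((c i * a i : ℤ) : ℂ) * r j := by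
          intro i
          rw [← hcon i j]
          simp only [r, f]
          push_cast
          field_simp [ha i]
        simp only [e2]
        rw [← Finset.sum_mul, ← Int.cast_sum, hc2]
        simp
    obtain ⟨i₀, j₀, hij⟩ := hex
    refine ⟨Finset.univ.filter (fun q : I × I => r q.1 ≠ r q.2), Finset.subset_univ _, ?_, ?_⟩
    · convert count_pairs r i₀ j₀ hij
    · intro q hq
      rw [hfm]
      exact mul_ne_zero (mul_ne_zero (ha _) (ha _)) (sub_ne_zero.2 (Finset.mem_filter.1 hq).2)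
  have hmain := card_mul_le hM (Cfsg.Agent.Lib.Helper81Subsec.isBlockUnion_of_isPBlock hb) X hcen
    (k := 1) (by rw [hz, pow_one]) hH Finset.univ (fun q => lift Z (mb q)) (p : ℤ) hdiv
    (2 * (Fintype.card I - 1)) hnz
  -- `I` has at least two elements
  have hI2 : 2 ≤ Fintype.card I := by
    obtain ⟨s', -, -, hs'⟩ := hnz χ₀ hχ₀
    by_contra hlt
    push Not at hlt
    have hsub : Subsingleton I := Fintype.card_le_one_iff_subsingleton.1 (by omega)
    obtain ⟨ξ, hξ, hne⟩ := hX χ₀ hχ₀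
    obtain ⟨ψ, hψ, hne'⟩ := liftC hM hb Z hZc hZ hβ hβb hcen χ₀ hξ hne
    obtain ⟨c, hc1, hc2⟩ := h5 ψ hψ
    apply hne'
    have e1 : (fun ψ' => N p ψ ψ') = fun ψ' => ∑ i, c i * v i ψ' := funext hc1
    rw [e1, yy_lift_sum]
    apply Finset.sum_eq_zero
    intro i _
    have : c i * a i = 0 := by
      rw [← hc2]
      exact (Finset.sum_eq_single (f := fun i => c i * a i) i
        (fun j _ hj => absurd (Subsingleton.elim j i) hj)
        (fun h => absurd (Finset.mem_univ i) h)).symm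
    rcases mul_eq_zero.1 this with h0 | h0
    · rw [h0]; simp
    · exact absurd h0 (h1 i)
  have hsum : ∑ q : I × I, bet p b (lift Z (mb q)) (lift Z (mb q))
      ≤ (p : ℤ) * (2 * ((Fintype.card I : ℤ) - 1) * p) := by
    calc ∑ q : I × I, bet p b (lift Z (mb q)) (lift Z (mb q))
        ≤ ∑ q : I × I, (p : ℤ) * ∑ ψ, mb q ψ ^ 2 :=
          Finset.sum_le_sum (fun q _ => liftB hM hb hd Z hZc hZ (mb q) (hmb q))
      _ = (p : ℤ) * ∑ i, ∑ j, ∑ ψ, (a j * v i ψ - a i * v j ψ) ^ 2 := by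
          rw [← Finset.mul_sum, Fintype.sum_prod_type]
      _ ≤ _ := mul_le_mul_of_nonneg_left h4 (by positivity)
  rw [hd] at hmain
  have hc : ((2 * (Fintype.card I - 1) : ℕ) : ℤ) = 2 * ((Fintype.card I : ℤ) - 1) := by
    have : 1 ≤ Fintype.card I := by omega
    push_cast [this]
    ring
  rw [hc] at hmain
  have hpos : (0 : ℤ) < 2 * ((Fintype.card I : ℤ) - 1) := by
    have : (2 : ℤ) ≤ Fintype.card I := by exact_mod_cast hI2
    linarith
  have hp0 : (0 : ℤ) < p := by exact_mod_cast hp.pos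
  have hfin : 2 * ((Fintype.card I : ℤ) - 1) * (Nat.card X : ℤ) * (p : ℤ) ^ 2
      ≤ 2 * ((Fintype.card I : ℤ) - 1) * (p : ℤ) ^ 2 * (p : ℤ) ^ 2 := by
    calc _ ≤ (p : ℤ) ^ 2 * ∑ q : I × I, bet p b (lift Z (mb q)) (lift Z (mb q)) := hmain
      _ ≤ (p : ℤ) ^ 2 * ((p : ℤ) * (2 * ((Fintype.card I : ℤ) - 1) * p)) :=
          mul_le_mul_of_nonneg_left hsum (by positivity)
      _ = _ := by ring
  have h6 : (Nat.card X : ℤ) ≤ (p : ℤ) ^ 2 := by
    have h7 : (0 : ℤ) < 2 * ((Fintype.card I : ℤ) - 1) * (p : ℤ) ^ 2 := by positivity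
    have h8 : 2 * ((Fintype.card I : ℤ) - 1) * (p : ℤ) ^ 2 * (Nat.card X : ℤ)
        ≤ 2 * ((Fintype.card I : ℤ) - 1) * (p : ℤ) ^ 2 * (p : ℤ) ^ 2 := by linarith
    exact le_of_mul_le_mul_left h8 h7
  exact_mod_cast h6

end E

end Cfsg.Agent.Lib.Helper81D1Main
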