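import Mathlib
import Cfsg.Agent.Lib.Helper81D1Defs

set_option autoImplicit false
set_option linter.unusedVariables false
set_option linter.unusedSectionVars false

/-! PROJECT 81, pieces `relE`, `ddE`. -/

namespace Cfsg.Agent.Lib.Helper81D1RelE

open Cfsg
open Cfsg.Agent.Lib.Helper81Local Cfsg.Agent.Lib.Helper81Rank Cfsg.Agent.Lib.Helper84Subsec
  Cfsg.Agent.Lib.Helper84Subsec2 Cfsg.Agent.Lib.Helper80Trace Cfsg.Agent.Lib.Helper81D1Defs
open scoped ComplexConjugate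

universe u

variable {G : Type u} [Group G] [Fintype G] {p : ℕ} [Fact p.Prime] {M : Ideal AlgInt}
variable {B : Set (IrrCharacter G)} {P : Subgroup G}
  {e : Set (IrrCharacter (Subgroup.centralizer (P : Set G)))}
  {u : Subgroup.centralizer (P : Set G)}

theorem mem_EE {r : ℕ} : r ∈ EE p P e (u : G) ↔
    r < p ∧ ∃ n ∈ pstab P e, n * (u : G) * n⁻¹ = (u : G) ^ r := by
  classical
  unfold EE
  rw [Finset.mem_filter, Finset.mem_range]

theorem pow_mod (h : Ctx p M B P e u) (a : ℕ) : (u : G) ^ (a % p) = (u : G) ^ a := by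
  conv_lhs => rw [← h.hu]
  exact pow_mod_orderOf _ _

/-- an element of the stabilizer acts on `P` as a power map. -/
theorem exists_pow (h : Ctx p M B P e u) {n : G} (hn : n ∈ pstab P e) :
    ∃ r : ℕ, r < p ∧ n * (u : G) * n⁻¹ = (u : G) ^ r := by
  have hp : p.Prime := Fact.out
  have hnN : n ∈ Subgroup.normalizer (P : Set G) := (Cfsg.Agent.Lib.Helper80Stab.mem_stabFun.1 hn).1
  have hle : Subgroup.zpowers (u : G) ≤ P := le_of_eq h.hzp.symm
  have hle' : P ≤ Subgroup.zpowers (u : G) := le_of_eq h.hzp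
  have huP : (u : G) ∈ P := hle (Subgroup.mem_zpowers _)
  have h1 : n * (u : G) * n⁻¹ ∈ Subgroup.zpowers (u : G) :=
    hle' ((Subgroup.mem_normalizer_iff.1 hnN (u : G)).1 huP)
  have hfin : IsOfFinOrder (u : G) := isOfFinOrder_of_finite _
  obtain ⟨k, hk⟩ := (hfin.mem_powers_iff_mem_zpowers).2 h1
  simp only at hk
  exact ⟨k % p, Nat.mod_lt _ hp.pos, by rw [pow_mod h, hk]⟩

theorem u_ne_one (h : Ctx p M B P e u) : (u : G) ≠ 1 := by
  have hp : p.Prime := Fact.out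
  intro h1
  have h2 := h.hu
  rw [h1, orderOf_one] at h2
  exact hp.one_lt.ne h2

/-- piece `relE` -/
theorem relE (h : Ctx p M B P e u) :
    (∀ r ∈ EE p P e (u : G), 0 < r ∧ r < p) ∧ 1 ∈ EE p P e (u : G) ∧
    (∀ r ∈ EE p P e (u : G), ∀ r' ∈ EE p P e (u : G), (r * r') % p ∈ EE p P e (u : G)) ∧
    (∀ r ∈ EE p P e (u : G), ∃ r' ∈ EE p P e (u : G), (r * r') % p = 1) := by
  have hp : p.Prime := Fact.out
  refine ⟨?_, ?_, ?_, ?_⟩
  · intro r hr
    obtain ⟨h1, n, hn, h2⟩ := mem_EE.1 hr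
    refine ⟨Nat.pos_of_ne_zero ?_, h1⟩
    rintro rfl
    rw [pow_zero] at h2
    apply u_ne_one h
    have h3 : (u : G) = n⁻¹ * (n * (u : G) * n⁻¹) * n := by group
    rw [h3, h2]; group
  · exact mem_EE.2 ⟨hp.one_lt, 1, Subgroup.one_mem _, by simp⟩
  · intro r hr r' hr'
    obtain ⟨-, n, hn, h2⟩ := mem_EE.1 hr
    obtain ⟨-, n', hn', h2'⟩ := mem_EE.1 hr'
    refine mem_EE.2 ⟨Nat.mod_lt _ hp.pos, n * n', Subgroup.mul_mem _ hn hn', ?_⟩
    rw [pow_mod h, pow_mul, ← h2, conj_pow, ← h2']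
    group
  · intro r hr
    obtain ⟨-, n, hn, h2⟩ := mem_EE.1 hr
    obtain ⟨r', hr', h3⟩ := exists_pow h (Subgroup.inv_mem _ hn)
    refine ⟨r', mem_EE.2 ⟨hr', n⁻¹, Subgroup.inv_mem _ hn, h3⟩, ?_⟩
    have h4 : (u : G) ^ (r * r') = (u : G) ^ 1 := by
      rw [pow_mul, ← h2, conj_pow, ← h3, pow_one]
      group
    have h5 := pow_eq_pow_iff_modEq.1 h4
    rw [h.hu] at h5
    rw [h5, Nat.mod_eq_of_lt hp.one_lt]

variable [Fintype (Subgroup.centralizer (P : Set G))]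

theorem dd_mod (h : Ctx p M B P e u) (χ : IrrCharacter G) (a : ℕ) :
    dd e u χ (a % p) = dd e u χ a := by
  classical
  have hup : u ^ p = 1 := by
    apply Subtype.ext
    rw [Subgroup.coe_pow, Subgroup.coe_one, ← h.hu]
    exact pow_orderOf_eq_one _
  unfold dd
  apply Finset.sum_congr rfl
  intro ζ _
  split_ifs
  · congr 1
    have h1 := lam_pow_eq_one ζ h.hcen hup
    conv_rhs => rw [← Nat.div_add_mod a p, pow_add, pow_mul, h1, one_pow, one_mul]
  · rfl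

/-- piece `ddE` (the other pieces enter as hypotheses) -/
theorem ddE (h : Ctx p M B P e u) (hcb : CB p e u)
    (hB : ∀ t : ℕ, t.Coprime p → ∑ χ : IrrCharacter G, dd e u χ t * conj (dd e u χ t) = p)
    (hC : ∀ n ∈ pstab P e, ∀ r : ℕ, n * (u : G) * n⁻¹ = (u : G) ^ r →
      ∀ (χ : IrrCharacter G) (t : ℕ), t.Coprime p → dd e u χ (r * t) = dd e u χ t)
    (hD : ∀ t s : ℕ, t.Coprime p → s.Coprime p →
      (¬ ∃ n ∈ pstab P e, n * (u : G) ^ t * n⁻¹ = (u : G) ^ s) →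
      ∑ χ : IrrCharacter G, dd e u χ t * conj (dd e u χ s) = 0)
    (t s : ℕ) (ht0 : 0 < t) (htp : t < p) (hs0 : 0 < s) (hsp : s < p) :
    ∑ χ : IrrCharacter G, dd e u χ t * conj (dd e u χ s)
      = open Classical in if ∃ r ∈ EE p P e (u : G), (r * t) % p = s then (p : ℂ) else 0 := by
  classical
  have hp : p.Prime := Fact.out
  have hcop : ∀ a : ℕ, 0 < a → a < p → a.Coprime p := fun a h0 h1 =>
    ((Nat.coprime_comm.1 ((Nat.Prime.coprime_iff_not_dvd hp).2 (Nat.not_dvd_of_pos_of_lt h0 h1))))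
  have htc := hcop t ht0 htp
  have hsc := hcop s hs0 hsp
  split_ifs with hex
  · obtain ⟨r, hr, hrt⟩ := hex
    obtain ⟨-, n, hn, h2⟩ := mem_EE.1 hr
    have h3 : ∀ χ : IrrCharacter G, dd e u χ s = dd e u χ t := by
      intro χ
      rw [← hrt, dd_mod h, hC n hn r h2 χ t htc]
    simp only [h3]
    exact hB t htc
  · apply hD t s htc hsc
    rintro ⟨n, hn, h2⟩
    apply hex
    obtain ⟨r, hr, h3⟩ := exists_pow h hn
    refine ⟨r, mem_EE.2 ⟨hr, n, hn, h3⟩, ?_⟩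
    have h4 : (u : G) ^ (r * t) = (u : G) ^ s := by
      rw [pow_mul, ← h3, conj_pow, h2]
    have h5 := pow_eq_pow_iff_modEq.1 h4
    rw [h.hu] at h5
    rw [h5, Nat.mod_eq_of_lt hsp]

end Cfsg.Agent.Lib.Helper81D1RelE
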