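import Mathlib
import Cfsg.Agent.Lib.Helper81D1Main
import Cfsg.Agent.S4716

set_option autoImplicit false
set_option linter.unusedVariables false
set_option linter.unusedSectionVars false

namespace Cfsg.Agent.Lib.Helper81D1Top

open Cfsg
open Cfsg.Agent.Lib.Helper81Local Cfsg.Agent.Lib.Helper81Rank Cfsg.Agent.Lib.Helper84Subsec
  Cfsg.Agent.Lib.Helper84Subsec2 Cfsg.Agent.Lib.Helper84Contrib Cfsg.Agent.Lib.Helper80Trace
  Cfsg.Agent.Lib.Helper82Quot Cfsg.Agent.Lib.Helper78MajP
  Cfsg.Agent.Lib.Helper82Major Cfsg.Agent.Lib.Helper81D1Defs Cfsg.Agent.Lib.Helper81D1Main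
open Cfsg.Agent.Lib.Helper81D1Quot (quot_block)
open scoped ComplexConjugate

universe u

variable {G : Type u} [Group G] [Fintype G] {p : ℕ} [Fact p.Prime] {M : Ideal AlgInt}

/-- a major subsection `(z, b)` with `z` of order `p`. -/
theorem exists_major (hM : IsPModular p M) {B : Set (IrrCharacter G)} (hB : IsPBlock M B)
    (hd : 1 ≤ blockDefect p B) :
    ∃ (H : Subgroup G) (z : H) (b : Set (IrrCharacter H)),
      H = Subgroup.centralizer ({(z : G)} : Set G) ∧ orderOf (z : G) = p ∧
      IsInducedBlock M H b B ∧ blockDefect p b = blockDefect p B := by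
  classical
  have hp : p.Prime := Fact.out
  obtain ⟨D, hD⟩ := Cfsg.Agent.Lib.Helper20Induced.exists_defectGroup hM hB
  obtain ⟨e, hmax⟩ := Cfsg.Agent.Lib.Helper80Corr.exists_maximal_of_defectGroup hM hB hD
  have hcard := Cfsg.Agent.Lib.Helper20DefCard.card_defectGroup hM hB hD
  have hDp : IsPGroup p D := hmax.1.1.1
  have hnt : Nontrivial D := by
    rw [← Finite.one_lt_card_iff_nontrivial, hcard]
    exact Nat.one_lt_pow (by omega) hp.one_lt
  have hcnt : Nontrivial (Subgroup.center D) := hDp.center_nontrivial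
  have hdvd : p ∣ Nat.card (Subgroup.center D) := by
    obtain ⟨n, hn⟩ := (hDp.to_subgroup (Subgroup.center D)).exists_card_eq
    have h1 : 1 < Nat.card (Subgroup.center D) := Finite.one_lt_card_iff_nontrivial.2 hcnt
    rw [hn] at h1 ⊢
    have : n ≠ 0 := by rintro rfl; simp at h1
    exact dvd_pow_self p this
  obtain ⟨w, hw⟩ := exists_prime_orderOf_dvd_card' (G := Subgroup.center D) p hdvd
  set z : G := ((w : D) : G) with hz
  have hzo : orderOf z = p := by
    rw [hz, Subgroup.orderOf_coe, Subgroup.orderOf_coe, hw]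
  have hZ : IsZ D z := by
    refine ⟨(w : D).2, fun y hy => ?_⟩
    have := Subgroup.mem_center_iff.1 w.2 ⟨y, hy⟩
    exact congrArg Subtype.val this
  refine ⟨Subgroup.centralizer ((Subgroup.zpowers z : Subgroup G) : Set G),
    ⟨z, mem_centralizer_zpowers_self z⟩, fz p M D e (Subgroup.zpowers z), centralizer_zpowers z, hzo,
    fz_induced hM hmax hZ, fz_defect hM hmax hZ⟩

/-- `S4716` for a subgroup equal to the centralizer. -/
theorem sq_le (hM : IsPModular p M) {B : Set (IrrCharacter G)} (hB : IsPBlock M B)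
    (hh : ∀ χ ∈ B, blockHeight p B (χ : G → ℂ) = 0) {H : Subgroup G} {y : G}
    (hH : H = Subgroup.centralizer ({y} : Set G)) (hy : ∃ k : ℕ, orderOf y = p ^ k)
    {b : Set (IrrCharacter H)} (hind : IsInducedBlock M H b B)
    (hbd : blockDefect p b = blockDefect p B) :
    Nat.card B ^ 2 ≤ p ^ (2 * blockDefect p B) * blockRank p b := by
  subst hH
  exact Cfsg.Agent.S4716.result p M hM B hB _ rfl hh y hy b hind hbd

theorem blockRank_le_card {K : Type*} [Group K] [Finite K] (β : Set (IrrCharacter K)) :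
    blockRank p β ≤ Nat.card β := by
  classical
  let _ : Fintype K := Fintype.ofFinite K
  unfold blockRank
  have hfin : (β : Set (IrrCharacter K)).Finite := Set.toFinite _
  have h1 := finrank_span_le_card
    (R := ℂ) ((fun χ : IrrCharacter K => pRegularPart p (χ : K → ℂ)) '' β)
  refine h1.trans ?_
  rw [Set.toFinset_card, ← Nat.card_eq_fintype_card]
  exact Nat.card_image_le hfin

/-- the bound. -/
def bd (p d : ℕ) : ℕ := if d ≤ 2 then p ^ d else p ^ (2 * d - 2)

theorem main (hM : IsPModular p M) : ∀ (d : ℕ) (G : Type u) [Group G] [Fintype G]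
    (B : Set (IrrCharacter G)), IsPBlock M B → blockDefect p B = d → Nat.card B ≤ bd p d := by
  intro d
  induction d using Nat.strong_induction_on with
  | _ d ih =>
    intro G _ _ B hB hd
    classical
    have hp : p.Prime := Fact.out
    have hMp := hM.2.1.isPrime
    rcases Nat.eq_zero_or_pos d with h0 | hpos
    · subst h0
      obtain ⟨χ, rfl⟩ := (Cfsg.Agent.Lib.Helper81Defect.blockDefect_eq_zero_iff hM hB).1 hd
      simp [bd]
    obtain ⟨H, z, b, hH, hz, hind, hbd⟩ := exists_major hM hB (by omega)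
    let _ : Fintype H := Fintype.ofFinite H
    have hb : IsPBlock M b := hind.1
    have hcen : ∀ h : H, h * z = z * h := Cfsg.Agent.Lib.Helper78Maj.central_of_eq hH
    by_cases hht : ∃ χ ∈ B, 0 < blockHeight p B (χ : G → ℂ)
    · obtain ⟨χ, hχ, hχh⟩ := hht
      have h1 := Cfsg.Agent.Lib.Helper81Height.height_add_two_le hM hB hχ hχh
      have h2 := Cfsg.Agent.Lib.Helper81Height.two_mul_card_le hM hB hχ hχh
      rw [hd] at h1 h2
      unfold bd
      rw [if_neg (by omega)]
      omega
    push Not at hht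
    have hh : ∀ χ ∈ B, blockHeight p B (χ : G → ℂ) = 0 := fun χ hχ => by
      have := hht χ hχ; omega
    by_cases hd2 : d = 2
    · -- the key lemma
      subst hd2
      have hzk : z ^ (p ^ 1) = 1 := by
        apply Subtype.ext
        rw [Subgroup.coe_pow, Subgroup.coe_one, pow_one, ← hz]
        exact pow_orderOf_eq_one _
      obtain ⟨ψ₀, hψ₀, h0⟩ := Cfsg.Agent.Lib.Helper81Defect.exists_height_zero (p := p)
        (Cfsg.Agent.Lib.Helper81Block.isPBlock_nonempty hB)
      obtain ⟨ξ, hξ, hu⟩ := exists_unit hM hind hcen hzk hψ₀ h0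
      have := key hM hH hz hb (by rw [hbd, hd]) B (fun χ hχ => ⟨ξ, hξ,
        yy_ne_zero hM (Cfsg.Agent.Lib.Helper81Subsec.isBlockUnion_of_isPBlock hb) hB hbd hcen hψ₀ hχ
          _ hu⟩)
      simpa [bd] using this
    -- the inductive step
    set Z : Subgroup H := Subgroup.zpowers z with hZdef
    have hZc : Z ≤ Subgroup.center H := by
      rw [hZdef, Subgroup.zpowers_le, Subgroup.mem_center_iff]
      exact hcen
    have hZn : Z.Normal := ⟨fun n hn g => by
      have := Subgroup.mem_center_iff.1 (hZc hn) g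
      rw [this, mul_inv_cancel_right]; exact hn⟩
    let _ : Fintype (H ⧸ Z) := Fintype.ofFinite _
    have hZ : Nat.card Z = p := by
      rw [hZdef, Nat.card_zpowers, ← hz, Subgroup.orderOf_coe]
    obtain ⟨β, hβ, -, hβd, hβr⟩ := quot_block hM hb Z hZc hZ
    have hβd' : blockDefect p β = d - 1 := by omega
    have h1 := ih (d - 1) (by omega) (H ⧸ Z) β hβ hβd'
    have h2 := sq_le hM hB hh hH ⟨1, by rw [hz, pow_one]⟩ hind hbd
    rw [← hβr, hd] at h2
    have h3 : Nat.card B ^ 2 ≤ p ^ (2 * d) * bd p (d - 1) :=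
      h2.trans (Nat.mul_le_mul_left _ ((blockRank_le_card β).trans h1))
    have h4 : p ^ (2 * d) * bd p (d - 1) ≤ (bd p d) ^ 2 := by
      unfold bd
      by_cases h5 : d = 1
      · subst h5; simp
      by_cases h6 : d = 3
      · subst h6
        norm_num
        rw [← pow_add, ← pow_mul]
      · rw [if_neg (by omega), if_neg (by omega), ← pow_add, ← pow_mul]
        apply Nat.pow_le_pow_right hp.pos
        omega
    exact (Nat.pow_le_pow_iff_left (by norm_num)).1 (h3.trans h4)

end Cfsg.Agent.Lib.Helper81D1Top
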