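import Cfsg.Agent.Lib.Helper91StarBASIC

/-!
# Project 80, piece B-BASIC: alias file

The content lives in `Cfsg.Agent.Lib.Helper91StarBASIC`; this namespace only re-exports the names.
-/

namespace Cfsg.Agent.Lib.Helper91StarBBASIC

export Cfsg.Agent.Lib.Helper91StarBASIC (rv_pt fn_ptA ptA_mul ptA_one ptA_pow ptA_mul_inv ptA_inv_mul fn_ptA_mul fn_mul_ptA fn_conj mem_Fix_iff' mem_Fix_iff Fix_mono fn_sum eq_sum_smul_ptA mem_mA_iff evA_add evA_sub evA_zero evA_sum evA_smul evA_eq_ev evA_mul_comm rv_pfun fn_pfA pfA_idem pfA_supp ext_res_of_supp pfA_comm pfA_mul_ne mem_Fix_of_supp exists_suppAlg BrZ.add BrZ.sub BrZ.mono brZ_of_mem_mA brZ_mul_supp )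

end Cfsg.Agent.Lib.Helper91StarBBASIC
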