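import Mathlib
import Cfsg.Prelude.Def_Solvable

set_option autoImplicit false
open scoped Pointwise

namespace Cfsg.Agent.Lib.Helper82Frob

variable {G : Type*} [Group G]

theorem mem_conj_smul {H : Subgroup G} {g x : G} :
    x ∈ MulAut.conj g • H ↔ g⁻¹ * x * g ∈ H := by
  rw [Subgroup.mem_pointwise_smul_iff_inv_smul_mem]
  simp [MulAut.smul_def]

/-- in a subgroup of prime order, an element commuting with one non-identity element
commutes with all. -/
theorem commute_all_of_prime_card {P : Subgroup G} {p : ℕ} [hp : Fact p.Prime]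
    (hP : Nat.card P = p) {x : G} (hx : x ∈ P) (hx1 : x ≠ 1) {h : G} (hc : h * x = x * h) :
    ∀ y ∈ P, h * y = y * h := by
  intro y hy
  have h1 : (⟨y, hy⟩ : P) ∈ Subgroup.zpowers (⟨x, hx⟩ : P) :=
    mem_zpowers_of_prime_card hP (by simpa [Subtype.ext_iff] using hx1)
  obtain ⟨k, hk⟩ := Subgroup.mem_zpowers_iff.mp h1
  have h2 : x ^ k = y := by
    have := congrArg Subtype.val hk
    simpa using this
  rw [← h2]
  exact ((Commute.zpow_right (show Commute h x from hc) k)).eq

theorem frobenius_of_prime_kernel [Finite G] {P H : Subgroup G} [P.Normal] {p : ℕ}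
    [hp : Fact p.Prime] (hP : Nat.card P = p) (hc : Subgroup.IsComplement' P H) (hH : H ≠ ⊥)
    (hC : ∀ h ∈ H, (∀ x ∈ P, h * x = x * h) → h = 1) :
    Cfsg.IsFrobeniusComplement H ∧ Nat.card ↥(Cfsg.frobeniusKernel H) = p := by
  have hdisj : ∀ x, x ∈ P → x ∈ H → x = 1 := by
    intro x hxP hxH
    have : x ∈ P ⊓ H := ⟨hxP, hxH⟩
    rw [hc.disjoint.eq_bot] at this
    exact this
  have hdec : ∀ g : G, ∃ x ∈ P, ∃ h ∈ H, g = x * h := by
    intro g
    obtain ⟨⟨x, h⟩, hxh, -⟩ := (Subgroup.isComplement_iff_existsUnique.mp hc) g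
    exact ⟨x.1, x.2, h.1, h.2, hxh.symm⟩
  have hfix : ∀ h ∈ H, ∀ x ∈ P, x ≠ 1 → h * x = x * h → h = 1 := by
    intro h hh x hx hx1 hcomm
    exact hC h hh (commute_all_of_prime_card hP hx hx1 hcomm)
  refine ⟨⟨hH, ?_, ?_⟩, ?_⟩
  · intro htop
    have : P = ⊥ := by
      rw [eq_bot_iff]
      intro x hx
      exact hdisj x hx (by rw [htop]; exact Subgroup.mem_top x)
    rw [this] at hP
    simp at hP
    exact hp.out.one_lt.ne hP
  · intro g hg
    rw [eq_bot_iff]
    intro y hy
    obtain ⟨hy1, hy2⟩ := Subgroup.mem_inf.mp hy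
    rw [mem_conj_smul] at hy2
    obtain ⟨x, hx, h', hh', rfl⟩ := hdec g
    have hx1 : x ≠ 1 := by
      rintro rfl
      apply hg
      simpa using hh'
    -- h := x⁻¹ y x ∈ H
    have h3 : x⁻¹ * y * x ∈ H := by
      have := H.mul_mem (H.mul_mem hh' hy2) (H.inv_mem hh')
      have e : h' * ((x * h')⁻¹ * y * (x * h')) * h'⁻¹ = x⁻¹ * y * x := by group
      rwa [e] at this
    have h4 : y⁻¹ * (x⁻¹ * y * x) ∈ H := H.mul_mem (H.inv_mem hy1) h3
    have h5 : y⁻¹ * (x⁻¹ * y * x) ∈ P := by
      have h6 : y⁻¹ * x⁻¹ * y ∈ P := by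
        have := ‹P.Normal›.conj_mem x⁻¹ (P.inv_mem hx) y⁻¹
        simpa using this
      have := P.mul_mem h6 hx
      have e : y⁻¹ * x⁻¹ * y * x = y⁻¹ * (x⁻¹ * y * x) := by group
      rwa [e] at this
    have h7 := hdisj _ h5 h4
    have h8 : y * x = x * y := by
      have : x⁻¹ * y * x = y := by
        have := congrArg (fun t => y * t) h7
        simpa using this
      calc y * x = x * (x⁻¹ * y * x) := by group
        _ = x * y := by rw [this]
    exact hfix y hy1 x hx hx1 h8
  · have hset : Cfsg.frobeniusKernel H = (P : Set G) := by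
      ext y
      simp only [Cfsg.frobeniusKernel, Set.mem_ofPred_eq, SetLike.mem_coe]
      constructor
      · rintro (rfl | hy)
        · exact P.one_mem
        · by_contra hyP
          obtain ⟨x, hx, h, hh, rfl⟩ := hdec y
          have hh1 : h ≠ 1 := by
            rintro rfl
            apply hyP
            simpa using hx
          -- the map u ↦ u h u⁻¹ h⁻¹ on P is injective, hence surjective
          let f : P → P := fun u => ⟨u * h * u⁻¹ * h⁻¹, by
            have h1 : h * (u : G)⁻¹ * h⁻¹ ∈ P := ‹P.Normal›.conj_mem _ (P.inv_mem u.2) h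
            have := P.mul_mem u.2 h1
            have e : (u : G) * (h * (u : G)⁻¹ * h⁻¹) = u * h * (u : G)⁻¹ * h⁻¹ := by group
            rwa [e] at this⟩
          have hinj : Function.Injective f := by
            intro u v huv
            have h1 : (u : G) * h * (u : G)⁻¹ * h⁻¹ = v * h * (v : G)⁻¹ * h⁻¹ :=
              congrArg Subtype.val huv
            have h2 : h * ((v : G)⁻¹ * u) = ((v : G)⁻¹ * u) * h := by
              have h3 : (u : G) * h * (u : G)⁻¹ = v * h * (v : G)⁻¹ := mul_right_cancel h1
              calc h * ((v : G)⁻¹ * u) = (v : G)⁻¹ * (v * h * (v : G)⁻¹) * u := by group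
                _ = (v : G)⁻¹ * (u * h * (u : G)⁻¹) * u := by rw [h3]
                _ = ((v : G)⁻¹ * u) * h := by group
            by_contra hne
            have h4 : (v : G)⁻¹ * u ≠ 1 := by
              intro h5
              apply hne
              ext
              exact (inv_mul_eq_one.mp h5).symm
            exact hh1 (hfix h hh _ (P.mul_mem (P.inv_mem v.2) u.2) h4 h2)
          obtain ⟨u, hu⟩ := (Finite.injective_iff_surjective.mp hinj) ⟨x, hx⟩
          have hu' : (u : G) * h * (u : G)⁻¹ * h⁻¹ = x := congrArg Subtype.val hu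
          apply hy u
          rw [mem_conj_smul, ← hu']
          have e : (u : G)⁻¹ * ((u : G) * h * (u : G)⁻¹ * h⁻¹ * h) * u = h := by group
          rw [e]
          exact hh
      · intro hyP
        by_cases hy1 : y = 1
        · left; exact hy1
        · right
          intro g hg
          rw [mem_conj_smul] at hg
          have h1 : g⁻¹ * y * g ∈ P := by
            have := ‹P.Normal›.conj_mem y hyP g⁻¹
            simpa using this
          have h2 := hdisj _ h1 hg
          apply hy1
          have : y = g * (g⁻¹ * y * g) * g⁻¹ := by group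
          rw [this, h2]
          simp
    rw [hset]
    exact hP

end Cfsg.Agent.Lib.Helper82Frob
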