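import Mathlib

set_option autoImplicit false

/-!
# Modular tools (valuation ring of `ℂ`) and the dimension lemma for trivial intersection subgroups
-/

namespace Cfsg.Agent.Lib.Helper82TI

section Fix

variable {F : Type*} [Field F] {p : ℕ} [hp : Fact p.Prime] [CharP F p]
  {P : Type*} [Group P] [Finite P]

/-- left translation of functions on `P`. -/
def tr (F : Type*) {P : Type*} [Group P] (g : P) (c : P → F) : P → F := fun x => c (g⁻¹ * x)

omit [Field F] [Finite P] in
theorem tr_one (c : P → F) : tr F 1 c = c := by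
  funext x; simp [tr]

omit [Field F] [Finite P] in
theorem tr_mul (g h : P) (c : P → F) : tr F (g * h) c = tr F g (tr F h c) := by
  funext x; simp [tr, mul_assoc]

/-- a nonzero translation invariant subspace of `P → F` contains a nonzero invariant function,
`P` a `p`-group and `F` of characteristic `p`. -/
theorem exists_invariant (hP : IsPGroup p P) (R : Submodule F (P → F))
    (hstab : ∀ g : P, ∀ c ∈ R, tr F g c ∈ R) (c₀ : P → F) (hc₀ : c₀ ∈ R) (hne : c₀ ≠ 0) :
    ∃ e ∈ R, e ≠ 0 ∧ ∀ g : P, tr F g e = e := by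
  classical
  let _ := ZMod.algebra F p
  let T : P → ((P → F) →ₗ[ZMod p] (P → F)) := fun g => LinearMap.funLeft (ZMod p) F (fun x => g⁻¹ * x)
  have hT : ∀ g c, T g c = tr F g c := fun g c => rfl
  let S : Submodule (ZMod p) (P → F) := Submodule.span (ZMod p) (Set.range fun g : P => tr F g c₀)
  have hSstab : ∀ g : P, ∀ c ∈ S, tr F g c ∈ S := by
    intro g c hc
    have : S.map (T g) ≤ S := by
      rw [Submodule.map_span, Submodule.span_le]
      rintro _ ⟨_, ⟨h, rfl⟩, rfl⟩
      apply Submodule.subset_span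
      exact ⟨g * h, by rw [hT]; exact tr_mul g h c₀⟩
    exact this ⟨c, hc, rfl⟩
  have hSR : S ≤ R.restrictScalars (ZMod p) := by
    rw [Submodule.span_le]
    rintro _ ⟨g, rfl⟩
    exact hstab g c₀ hc₀
  have hc₀S : c₀ ∈ S := Submodule.subset_span ⟨1, tr_one c₀⟩
  have hfinS : Module.Finite (ZMod p) S := Module.Finite.span_of_finite (ZMod p) (Set.finite_range _)
  have hfin : Finite S := Module.finite_of_finite (ZMod p)
  let _ : MulAction P S :=
    { smul := fun g c => ⟨tr F g c.1, hSstab g c.1 c.2⟩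
      one_smul := fun c => Subtype.ext (tr_one c.1)
      mul_smul := fun g h c => Subtype.ext (tr_mul g h c.1) }
  have hsmul : ∀ (g : P) (c : S), ((g • c : S) : P → F) = tr F g c.1 := fun _ _ => rfl
  have hnt : Nontrivial S := ⟨⟨⟨c₀, hc₀S⟩, 0, fun h => hne (congrArg Subtype.val h)⟩⟩
  have hdvd : p ∣ Nat.card S := by
    have := Fintype.ofFinite S
    have h1 : Fintype.card S = Fintype.card (ZMod p) ^ Module.finrank (ZMod p) S :=
      Module.card_eq_pow_finrank
    rw [Nat.card_eq_fintype_card, h1, ZMod.card]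
    exact dvd_pow_self p (Module.finrank_pos (R := ZMod p) (M := S)).ne'
  have h0 : (0 : S) ∈ MulAction.fixedPoints P S := by
    intro g
    apply Subtype.ext
    rw [hsmul]
    funext x
    simp [tr]
  obtain ⟨b, hb, hb0⟩ := hP.exists_fixed_point_of_prime_dvd_card_of_fixed_point S hdvd h0
  refine ⟨b.1, hSR b.2, fun h => hb0 (Subtype.ext h.symm), fun g => ?_⟩
  have := hb g
  rw [← hsmul, this]

end Fix

section LocalRing

open IsLocalRing

/-- In the group ring of a `p`-group over a local ring of residue characteristic `p`, every element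
that is nonzero modulo the maximal ideal has a left multiple congruent to a unit times the sum of
all group elements. -/
theorem exists_conv (O : Type*) [CommRing O] [IsLocalRing O] (p : ℕ) [hp : Fact p.Prime]
    (hpO : (p : O) ∈ maximalIdeal O) {P : Type*} [Group P] [Fintype P] (hP : IsPGroup p P)
    (c : P → O) (x₀ : P) (hx₀ : c x₀ ∉ maximalIdeal O) :
    ∃ (d : P → O) (u : O), u ∉ maximalIdeal O ∧
      ∀ x, (∑ g, d g * c (g⁻¹ * x)) - u ∈ maximalIdeal O := by
  classical
  have hchar : CharP (ResidueField O) p := by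
    rw [CharP.charP_iff_prime_eq_zero hp.out]
    have : ((p : O) : O) ∈ maximalIdeal O := hpO
    rw [← residue_eq_zero_iff, map_natCast] at this
    exact this
  set cb : P → ResidueField O := fun x => residue O (c x) with hcb
  have hcb0 : cb ≠ 0 := by
    intro h
    apply hx₀
    rw [← residue_eq_zero_iff]
    exact congrFun h x₀
  let R : Submodule (ResidueField O) (P → ResidueField O) :=
    Submodule.span _ (Set.range fun g : P => tr (ResidueField O) g cb)
  have hstab : ∀ g : P, ∀ e ∈ R, tr (ResidueField O) g e ∈ R := by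
    intro g e he
    let T : (P → ResidueField O) →ₗ[ResidueField O] (P → ResidueField O) :=
      LinearMap.funLeft _ _ (fun x => g⁻¹ * x)
    have : R.map T ≤ R := by
      rw [Submodule.map_span, Submodule.span_le]
      rintro _ ⟨_, ⟨h, rfl⟩, rfl⟩
      apply Submodule.subset_span
      exact ⟨g * h, tr_mul g h cb⟩
    exact this ⟨e, he, rfl⟩
  obtain ⟨e, heR, he0, hinv⟩ := exists_invariant hP R hstab cb
    (Submodule.subset_span ⟨1, tr_one cb⟩) hcb0
  obtain ⟨a, ha⟩ := (Submodule.mem_span_range_iff_exists_fun _).mp heR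
  choose d hd using fun g => residue_surjective (R := O) (a g)
  obtain ⟨u, hu⟩ := residue_surjective (R := O) (e 1)
  have hconst : ∀ x, e x = e 1 := by
    intro x
    have := congrFun (hinv x) x
    simp only [tr, inv_mul_cancel] at this
    exact this.symm
  refine ⟨d, u, ?_, fun x => ?_⟩
  · rw [← residue_eq_zero_iff, hu]
    intro h1
    apply he0
    funext x
    rw [hconst x, h1]; rfl
  · rw [← residue_eq_zero_iff, map_sub, map_sum, hu, ← hconst x, ← ha]
    simp only [map_mul, hd, Finset.sum_apply, Pi.smul_apply, smul_eq_mul, tr, hcb, sub_self]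

end LocalRing

section Valuation

/-- a valuation subring of `ℂ` in which the prime `p` is not a unit. -/
theorem exists_valuationSubring (p : ℕ) (hp : p.Prime) :
    ∃ B : ValuationSubring ℂ, (p : ℂ) ∈ B.nonunits := by
  let A : Subring ℂ := (Int.castRingHom ℂ).range
  let pA : A := ⟨(p : ℂ), ⟨(p : ℤ), by simp⟩⟩
  have hI : Ideal.span {pA} ≠ ⊤ := by
    intro h
    rw [Ideal.span_singleton_eq_top] at h
    obtain ⟨⟨b, ⟨n, hn⟩⟩, hb⟩ := isUnit_iff_exists_inv.mp h
    have h1 : (p : ℂ) * b = 1 := congrArg Subtype.val hb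
    rw [← hn] at h1
    have h2 : (p : ℤ) * n = 1 := by
      have : (((p : ℤ) * n : ℤ) : ℂ) = ((1 : ℤ) : ℂ) := by
        push_cast
        simpa using h1
      exact_mod_cast this
    have h3 : (p : ℤ) ∣ 1 := ⟨n, h2.symm⟩
    have h4 : p ∣ 1 := by exact_mod_cast h3
    exact hp.one_lt.ne' (Nat.dvd_one.mp h4)
  obtain ⟨B, -, hB⟩ := Ideal.image_subset_nonunits_valuationSubring (Ideal.span {pA}) hI
  exact ⟨B, hB ⟨pA, Ideal.subset_span rfl, rfl⟩⟩

variable (B : ValuationSubring ℂ)

/-- An ultrametric gauge on a complex vector space relative to the valuation of `B`. -/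
structure Gauge (W : Type*) [AddCommGroup W] [Module ℂ W] where
  /-- the gauge function -/
  N : W → B.ValueGroup
  add_le : ∀ a b, N (a + b) ≤ max (N a) (N b)
  smul_le : ∀ (c : ℂ) a, N (c • a) ≤ B.valuation c * N a

variable {B} {W : Type*} [AddCommGroup W] [Module ℂ W]

theorem Gauge.zero (γ : Gauge B W) : γ.N 0 = 0 := by
  have := γ.smul_le 0 0
  simpa using this

theorem Gauge.neg_le (γ : Gauge B W) (a : W) : γ.N (-a) ≤ γ.N a := by
  have := γ.smul_le (-1) a
  simpa using this

theorem Gauge.sum_lt (γ : Gauge B W) {ι : Type*} (s : Finset ι) (a : ι → W) (r : B.ValueGroup)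
    (hr : 0 < r) (h : ∀ i ∈ s, γ.N (a i) < r) : γ.N (∑ i ∈ s, a i) < r := by
  classical
  induction s using Finset.induction_on with
  | empty => simpa [γ.zero] using hr
  | insert i s hi ih =>
    rw [Finset.sum_insert hi]
    refine lt_of_le_of_lt (γ.add_le _ _) (max_lt (h i (Finset.mem_insert_self i s)) ?_)
    exact ih fun j hj => h j (Finset.mem_insert_of_mem hj)

/-- **Freeness criterion.** If the trace `∑ x, ρ x y` over a `p`-group is as large as `y` for an
invariant ultrametric gauge of residue characteristic `p`, the translates of `y` are linearly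
independent. -/
theorem linearIndependent_of_gauge (p : ℕ) [hp : Fact p.Prime] (hpB : (p : ℂ) ∈ B.nonunits)
    {P : Type*} [Group P] [Fintype P] (hP : IsPGroup p P) (ρ : P →* (W →ₗ[ℂ] W)) (γ : Gauge B W)
    (hinv : ∀ x a, γ.N (ρ x a) ≤ γ.N a) (y : W)
    (h1 : γ.N y ≤ γ.N (∑ x, ρ x y)) (h0 : γ.N (∑ x, ρ x y) ≠ 0) :
    LinearIndependent ℂ (fun x => ρ x y) := by
  classical
  rw [Fintype.linearIndependent_iff]
  intro c hc
  by_contra hcon
  push Not at hcon
  obtain ⟨x₁, hx₁⟩ := hcon
  obtain ⟨x₀, -, hmax⟩ := Finset.exists_max_image Finset.univ (fun x => B.valuation (c x))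
    ⟨x₁, Finset.mem_univ _⟩
  have hv0 : B.valuation (c x₀) ≠ 0 := by
    intro h
    have h2 := hmax x₁ (Finset.mem_univ _)
    rw [h] at h2
    exact (B.valuation.ne_zero_iff.mpr hx₁) (le_antisymm h2 zero_le)
  have hc0 : c x₀ ≠ 0 := B.valuation.ne_zero_iff.mp hv0
  have hmem : ∀ x, c x / c x₀ ∈ B := by
    intro x
    rw [← B.valuation_le_one_iff, map_div₀]
    exact div_le_one_of_le₀ (hmax x (Finset.mem_univ _)) zero_le
  let cB : P → B := fun x => ⟨c x / c x₀, hmem x⟩
  have hcB0 : cB x₀ ∉ IsLocalRing.maximalIdeal B := by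
    have : cB x₀ = 1 := Subtype.ext (div_self hc0)
    rw [this]
    exact fun h => (Ideal.ne_top_iff_one _).mp (IsLocalRing.maximalIdeal.isMaximal B).ne_top h
  have hpO : (p : B) ∈ IsLocalRing.maximalIdeal B := by
    rw [← ValuationSubring.coe_mem_nonunits_iff]
    simpa using hpB
  obtain ⟨d, u, hu, hd⟩ := exists_conv B p hpO hP cB x₀ hcB0
  have hc' : ∑ x, ((cB x : B) : ℂ) • ρ x y = 0 := by
    have : ∑ x, ((cB x : B) : ℂ) • ρ x y = (c x₀)⁻¹ • ∑ x, c x • ρ x y := by
      rw [Finset.smul_sum]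
      refine Finset.sum_congr rfl fun x _ => ?_
      rw [smul_smul]
      congr 1
      change c x / c x₀ = _
      rw [div_eq_inv_mul]
    rw [this, hc, smul_zero]
  have hconv : ∑ z, (((∑ g, d g * cB (g⁻¹ * z) : B)) : ℂ) • ρ z y = 0 := by
    have h2 : ∑ g, ((d g : B) : ℂ) • ρ g (∑ x, ((cB x : B) : ℂ) • ρ x y) = 0 := by
      rw [hc']; simp
    rw [← h2]
    have h3 : ∀ g, ((d g : B) : ℂ) • ρ g (∑ x, ((cB x : B) : ℂ) • ρ x y) =
        ∑ z, (((d g * cB (g⁻¹ * z) : B)) : ℂ) • ρ z y := by
      intro g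
      rw [map_sum, Finset.smul_sum]
      rw [← Equiv.sum_comp (Equiv.mulLeft g⁻¹)]
      refine Finset.sum_congr rfl fun z _ => ?_
      rw [map_smul, smul_smul, Equiv.coe_mulLeft, ← Module.End.mul_apply, ← map_mul,
        mul_inv_cancel_left]
      rfl
    rw [Finset.sum_congr rfl fun g _ => h3 g, Finset.sum_comm]
    refine Finset.sum_congr rfl fun z _ => ?_
    rw [← Finset.sum_smul]
    congr 1
    push_cast
    rfl
  let e : P → B := fun z => (∑ g, d g * cB (g⁻¹ * z)) - u
  have he : ∀ z, B.valuation ((e z : B) : ℂ) < 1 := fun z =>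
    (B.valuation_lt_one_iff _).mp (hd z)
  have hvu : B.valuation ((u : B) : ℂ) = 1 :=
    (B.valuation_eq_one_iff u).mp (IsLocalRing.notMem_maximalIdeal.mp hu)
  have hu0 : ((u : B) : ℂ) ≠ 0 := by
    intro h
    rw [h, map_zero] at hvu
    exact zero_ne_one hvu
  have hrel : ((u : B) : ℂ) • ∑ z, ρ z y = - ∑ z, ((e z : B) : ℂ) • ρ z y := by
    rw [eq_neg_iff_add_eq_zero, Finset.smul_sum, ← Finset.sum_add_distrib, ← hconv]
    refine Finset.sum_congr rfl fun z _ => ?_
    rw [← add_smul]
    congr 1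
    simp only [e]
    push_cast
    ring
  set r := γ.N (∑ x, ρ x y) with hr
  have hrpos : 0 < r := zero_lt_iff.mpr h0
  have hlt : γ.N (∑ z, ((e z : B) : ℂ) • ρ z y) < r := by
    apply γ.sum_lt _ _ _ hrpos
    intro z _
    calc γ.N (((e z : B) : ℂ) • ρ z y) ≤ B.valuation ((e z : B) : ℂ) * γ.N (ρ z y) := γ.smul_le _ _
      _ ≤ B.valuation ((e z : B) : ℂ) * r := by
          gcongr
          exact (hinv z y).trans h1
      _ < r := mul_lt_of_lt_one_left hrpos (he z)
  have hle : r ≤ γ.N (((u : B) : ℂ) • ∑ z, ρ z y) := by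
    have h4 : ∑ z, ρ z y = ((u : B) : ℂ)⁻¹ • (((u : B) : ℂ) • ∑ z, ρ z y) := by
      rw [smul_smul, inv_mul_cancel₀ hu0, one_smul]
    calc r = γ.N (((u : B) : ℂ)⁻¹ • (((u : B) : ℂ) • ∑ z, ρ z y)) := by rw [← h4]
      _ ≤ B.valuation (((u : B) : ℂ)⁻¹) * γ.N (((u : B) : ℂ) • ∑ z, ρ z y) := γ.smul_le _ _
      _ = γ.N (((u : B) : ℂ) • ∑ z, ρ z y) := by rw [map_inv₀, hvu, inv_one, one_mul]
  rw [hrel] at hle
  exact absurd (hle.trans (γ.neg_le _)) (not_le.mpr hlt)

end Valuation

section Main

open scoped Pointwise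

variable {B : ValuationSubring ℂ} {G : Type*} [Group G] [Fintype G]

/-- the invariant gauge attached to a representation on `Fin n → ℂ`. -/
noncomputable def repGauge (B : ValuationSubring ℂ) {n : ℕ} (ρ : Representation ℂ G (Fin n → ℂ)) :
    Gauge B (Fin n → ℂ) where
  N u := Finset.univ.sup (fun gi : G × Fin n => B.valuation ((ρ gi.1 u) gi.2))
  add_le a b := by
    apply Finset.sup_le
    intro gi _
    rw [map_add, Pi.add_apply]
    exact (B.valuation.map_add _ _).trans (max_le_max
      (Finset.le_sup (f := fun gi : G × Fin n => B.valuation ((ρ gi.1 a) gi.2)) (Finset.mem_univ gi))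
      (Finset.le_sup (f := fun gi : G × Fin n => B.valuation ((ρ gi.1 b) gi.2)) (Finset.mem_univ gi)))
  smul_le c a := by
    apply Finset.sup_le
    intro gi _
    rw [map_smul, Pi.smul_apply, smul_eq_mul, map_mul]
    gcongr
    exact Finset.le_sup (f := fun gi : G × Fin n => B.valuation ((ρ gi.1 a) gi.2)) (Finset.mem_univ gi)

theorem repGauge_inv {n : ℕ} (ρ : Representation ℂ G (Fin n → ℂ)) (g : G) (a : Fin n → ℂ) :
    (repGauge B ρ).N (ρ g a) ≤ (repGauge B ρ).N a := by
  apply Finset.sup_le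
  intro gi _
  have : ρ gi.1 (ρ g a) = ρ (gi.1 * g) a := by rw [map_mul]; rfl
  rw [this]
  exact Finset.le_sup (f := fun gi : G × Fin n => B.valuation ((ρ gi.1 a) gi.2))
    (Finset.mem_univ (gi.1 * g, gi.2))

theorem repGauge_ne_zero {n : ℕ} (ρ : Representation ℂ G (Fin n → ℂ)) {w : Fin n → ℂ}
    (hw : w ≠ 0) : (repGauge B ρ).N w ≠ 0 := by
  obtain ⟨i, hi⟩ := Function.ne_iff.mp hw
  intro h
  have h1 := Finset.le_sup (f := fun gi : G × Fin n => B.valuation ((ρ gi.1 w) gi.2))
    (Finset.mem_univ ((1 : G), i))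
  have h2 : (repGauge B ρ).N w = Finset.univ.sup
    (fun gi : G × Fin n => B.valuation ((ρ gi.1 w) gi.2)) := rfl
  rw [← h2, h] at h1
  simp only [map_one, Module.End.one_apply] at h1
  exact (B.valuation.ne_zero_iff.mpr hi) (le_antisymm h1 zero_le)

variable {W : Type*} [AddCommGroup W] [Module ℂ W]

/-- If `P ≤ H` acts freely on the cosets of `H` other than `H`, and `w` is an `H`-fixed vector with
`∑ g, ρ g w = 0`, then for some `g` the `P`-trace of `ρ g w` is as large as `w`. -/
theorem exists_trace_large (P H : Subgroup G) [Fintype P] (hPH : P ≤ H)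
    (hfree : ∀ x ∈ P, x ≠ 1 → ∀ g, g ∉ H → g⁻¹ * x * g ∉ H)
    (ρ : Representation ℂ G W) (γ : Gauge B W) (w : W) (hw : γ.N w ≠ 0)
    (hfix : ∀ h ∈ H, ρ h w = w) (hsum : ∑ g, ρ g w = 0) :
    ∃ g : G, γ.N w ≤ γ.N (∑ x : P, ρ x (ρ g w)) := by
  classical
  by_contra hcon
  push Not at hcon
  set r := γ.N w with hr
  have hrpos : 0 < r := zero_lt_iff.mpr hw
  have key : ∀ S : Finset G, (∀ x ∈ P, ∀ h ∈ H, ∀ g ∈ S, x * g * h ∈ S) → (∀ g ∈ S, g ∉ H) →
      ∃ a : W, γ.N a < r ∧ ∑ g ∈ S, ρ g w = (Fintype.card H : ℂ) • a := by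
    intro S
    induction S using Finset.strongInduction with
    | H S ih =>
      intro hstab hS
      rcases S.eq_empty_or_nonempty with rfl | ⟨g, hg⟩
      · exact ⟨0, by rw [γ.zero]; exact hrpos, by simp⟩
      · let φ : P × H → G := fun xh => (xh.1 : G) * g * (xh.2 : G)
        have hφ : Function.Injective φ := by
          rintro ⟨x, h⟩ ⟨x', h'⟩ heq
          simp only [φ] at heq
          have h1 : g⁻¹ * ((x' : G)⁻¹ * x) * g = (h' : G) * (h : G)⁻¹ := by
            have : (x : G) * g = x' * g * h' * (h : G)⁻¹ := by rw [← heq]; group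
            calc g⁻¹ * ((x' : G)⁻¹ * x) * g = g⁻¹ * (x' : G)⁻¹ * ((x : G) * g) := by group
              _ = g⁻¹ * (x' : G)⁻¹ * (x' * g * h' * (h : G)⁻¹) := by rw [this]
              _ = _ := by group
          have h2 : (x' : G)⁻¹ * x = 1 := by
            by_contra hne
            apply hfree _ (P.mul_mem (P.inv_mem x'.2) x.2) hne g (hS g hg)
            rw [h1]
            exact H.mul_mem h'.2 (H.inv_mem h.2)
          have h3 : (x : G) = x' := (inv_mul_eq_one.mp h2).symm
          have h4 : (h : G) = h' := by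
            rw [h3] at heq
            exact mul_left_cancel heq
          exact Prod.ext (Subtype.ext h3) (Subtype.ext h4)
        let D : Finset G := Finset.univ.image φ
        have hDS : D ⊆ S := by
          intro z hz
          obtain ⟨⟨x, h⟩, -, rfl⟩ := Finset.mem_image.mp hz
          exact hstab x x.2 h h.2 g hg
        have hgD : g ∈ D := Finset.mem_image.mpr ⟨(1, 1), Finset.mem_univ _, by simp [φ]⟩
        have hlt : S \ D ⊂ S := by
          refine Finset.ssubset_iff_subset_ne.mpr ⟨Finset.sdiff_subset, fun h => ?_⟩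
          have : g ∈ S \ D := by rw [h]; exact hg
          exact (Finset.mem_sdiff.mp this).2 hgD
        obtain ⟨a, ha, hsa⟩ := ih (S \ D) hlt (by
          intro x hx h hh s hs
          obtain ⟨hsS, hsD⟩ := Finset.mem_sdiff.mp hs
          refine Finset.mem_sdiff.mpr ⟨hstab x hx h hh s hsS, fun hmem => hsD ?_⟩
          obtain ⟨⟨x', h'⟩, -, heq⟩ := Finset.mem_image.mp hmem
          refine Finset.mem_image.mpr ⟨(⟨x⁻¹ * x', P.mul_mem (P.inv_mem hx) x'.2⟩,
            ⟨h' * h⁻¹, H.mul_mem h'.2 (H.inv_mem hh)⟩), Finset.mem_univ _, ?_⟩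
          simp only [φ] at heq ⊢
          calc x⁻¹ * (x' : G) * g * ((h' : G) * h⁻¹) = x⁻¹ * ((x' : G) * g * h') * h⁻¹ := by group
            _ = x⁻¹ * (x * s * h) * h⁻¹ := by rw [heq]
            _ = s := by group)
          (fun s hs => hS s (Finset.mem_sdiff.mp hs).1)
        refine ⟨a + ∑ x : P, ρ x (ρ g w), lt_of_le_of_lt (γ.add_le _ _) (max_lt ha (hcon g)), ?_⟩
        rw [← Finset.sum_sdiff hDS, hsa, smul_add]
        congr 1
        rw [Finset.sum_image (fun a _ b _ h => hφ h), Fintype.sum_prod_type, Finset.smul_sum]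
        refine Finset.sum_congr rfl fun x _ => ?_
        have : ∀ h : H, ρ (φ (x, h)) w = ρ x (ρ g w) := by
          intro h
          simp only [φ, map_mul, Module.End.mul_apply, hfix h h.2]
        rw [Finset.sum_congr rfl fun h _ => this h, Finset.sum_const, Finset.card_univ,
          Nat.cast_smul_eq_nsmul]
  obtain ⟨a, ha, hsa⟩ := key (Finset.univ.filter (· ∉ H)) (by
      intro x hx h hh g hg
      simp only [Finset.mem_filter, Finset.mem_univ, true_and] at hg ⊢
      intro hmem
      apply hg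
      have : g = x⁻¹ * (x * g * h) * h⁻¹ := by group
      rw [this]
      exact H.mul_mem (H.mul_mem (H.inv_mem (hPH hx)) hmem) (H.inv_mem hh))
    (by intro g hg; simpa using hg)
  have h1 : ∑ g ∈ Finset.univ.filter (· ∈ H), ρ g w = (Fintype.card H : ℂ) • w := by
    rw [Finset.sum_congr rfl fun g hg => hfix g (by simpa using hg), Finset.sum_const,
      ← Fintype.card_subtype, Nat.cast_smul_eq_nsmul]
  rw [← Finset.sum_filter_add_sum_filter_not Finset.univ (· ∈ H), h1, hsa, ← smul_add] at hsum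
  have hH : (Fintype.card H : ℂ) ≠ 0 := by exact_mod_cast Fintype.card_ne_zero
  have h2 : w + a = 0 := (smul_eq_zero.mp hsum).resolve_left hH
  have h3 : w = -a := eq_neg_of_add_eq_zero_left h2
  have h4 : r ≤ γ.N a := by rw [hr, h3]; exact γ.neg_le a
  exact absurd h4 (not_le.mpr ha)

/-- **Dimension lemma.** Let `P ≤ H` be a `p`-subgroup acting freely on the cosets of `H` other
than `H`. A representation having a nonzero `H`-fixed vector `w` with `∑ g, ρ g w = 0` has dimension
at least `|P|`. -/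
theorem card_le_of_fixed (p : ℕ) [Fact p.Prime] (P H : Subgroup G) (hP : IsPGroup p P)
    (hPH : P ≤ H) (hfree : ∀ x ∈ P, x ≠ 1 → ∀ g, g ∉ H → g⁻¹ * x * g ∉ H) {n : ℕ}
    (ρ : Representation ℂ G (Fin n → ℂ)) (w : Fin n → ℂ) (hw : w ≠ 0)
    (hfix : ∀ h ∈ H, ρ h w = w) (hsum : ∑ g, ρ g w = 0) : Nat.card P ≤ n := by
  classical
  obtain ⟨B, hB⟩ := exists_valuationSubring p Fact.out
  have := Fintype.ofFinite P
  obtain ⟨g, hg⟩ := exists_trace_large P H hPH hfree ρ (repGauge B ρ) w
    (repGauge_ne_zero ρ hw) hfix hsum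
  have hli := linearIndependent_of_gauge p hB hP (ρ.comp P.subtype) (repGauge B ρ)
    (fun x a => repGauge_inv ρ x a) (ρ g w) ((repGauge_inv ρ g w).trans hg) (by
      intro h0
      have h1 : (repGauge B ρ).N w ≤ 0 := by
        refine hg.trans (le_of_eq ?_)
        exact h0
      exact repGauge_ne_zero ρ hw (le_antisymm h1 zero_le))
  have h2 := hli.fintype_card_le_finrank
  rw [Nat.card_eq_fintype_card]
  simpa using h2

omit [Fintype G] in
/-- a Sylow `p`-subgroup with the trivial intersection property acts freely on the nontrivial cosets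
of any subgroup containing its normalizer. -/
theorem free_of_TI [Finite G] (p : ℕ) [Fact p.Prime] (P : Sylow p G)
    (hTI : ∀ g : G, g ∉ Subgroup.normalizer ((P : Subgroup G) : Set G) →
      (P : Subgroup G) ⊓ (MulAut.conj g • (P : Subgroup G)) = ⊥)
    (H : Subgroup G) (hH : Subgroup.normalizer ((P : Subgroup G) : Set G) ≤ H) :
    ∀ x ∈ (P : Subgroup G), x ≠ 1 → ∀ g, g ∉ H → g⁻¹ * x * g ∉ H := by
  intro x hx hx1 g hg hmem
  have hPH : (P : Subgroup G) ≤ H := Subgroup.le_normalizer.trans hH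
  set y : H := ⟨g⁻¹ * x * g, hmem⟩ with hy
  have hQ : IsPGroup p (Subgroup.zpowers y) := by
    obtain ⟨k, hk⟩ := P.2 ⟨x, hx⟩
    have hxk : x ^ p ^ k = 1 := congrArg Subtype.val hk
    have hyk : y ^ p ^ k = 1 := by
      apply Subtype.ext
      rw [Subgroup.coe_pow, hy]
      change (g⁻¹ * x * g) ^ p ^ k = 1
      have : (g⁻¹ * x * g) ^ p ^ k = g⁻¹ * x ^ p ^ k * g := by
        have := conj_pow (a := g⁻¹) (b := x) (i := p ^ k)
        simpa using this
      rw [this, hxk]; group
    obtain ⟨j, -, hj⟩ := (Nat.dvd_prime_pow Fact.out).mp (orderOf_dvd_of_pow_eq_one hyk)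
    exact IsPGroup.of_card (n := j) (by rw [Nat.card_zpowers, hj])
  obtain ⟨S, hS⟩ := hQ.exists_le_sylow
  obtain ⟨h, hh⟩ := MulAction.exists_smul_eq H (P.subtype hPH) S
  have hyS : y ∈ (S : Subgroup H) := hS (Subgroup.mem_zpowers y)
  rw [← hh, Sylow.smul_subtype, Sylow.coe_subtype, Subgroup.mem_subgroupOf] at hyS
  have hyS' : (y : G) ∈ MulAut.conj (h : G) • (P : Subgroup G) := hyS
  rw [Subgroup.mem_pointwise_smul_iff_inv_smul_mem] at hyS'
  have h1 : (g * h)⁻¹ * x * (g * h) ∈ (P : Subgroup G) := by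
    have : (g * h)⁻¹ * x * (g * h) = (MulAut.conj (h : G))⁻¹ • (y : G) := by
      simp only [hy, MulAut.smul_def, MulAut.conj_inv_apply]
      group
    rw [this]; exact hyS'
  by_cases hk : g * h ∈ Subgroup.normalizer ((P : Subgroup G) : Set G)
  · apply hg
    have : g = g * h * (h : G)⁻¹ := by group
    rw [this]
    exact H.mul_mem (hH hk) (H.inv_mem h.2)
  · have h2 := hTI (g * h) hk
    have h3 : x ∈ (P : Subgroup G) ⊓ (MulAut.conj (g * h) • (P : Subgroup G)) := by
      rw [Subgroup.mem_inf]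
      refine ⟨hx, ?_⟩
      rw [Subgroup.mem_pointwise_smul_iff_inv_smul_mem]
      have : (MulAut.conj (g * (h : G)))⁻¹ • x = (g * h)⁻¹ * x * (g * h) := by
        simp only [MulAut.smul_def, MulAut.conj_inv_apply]
      rw [this]; exact h1
    rw [h2, Subgroup.mem_bot] at h3
    exact hx1 h3

end Main

end Cfsg.Agent.Lib.Helper82TI
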