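import Mathlib
import Cfsg.Prelude.Def_Characters
import Cfsg.Agent.Lib.Helper83Char
import Cfsg.Agent.Lib.Helper83FS
import Cfsg.Agent.Lib.Helper19Ind

set_option autoImplicit false

/-! Frobenius-Schur averages of induced characters. -/

namespace Cfsg.Agent.Lib.Helper83FS2

open Representation Cfsg.Agent.Lib.Helper83Char Cfsg.Agent.Lib.Helper83FS
open scoped ComplexConjugate Matrix

section two

variable {G : Type*} [Group G] [Fintype G] {n : ℕ} (ρ' ρ : Representation ℂ G (Fin n → ℂ))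

/-- The averaged bilinear pairing of two representations. -/
noncomputable def T2 (A : Matrix (Fin n) (Fin n) ℂ) : Matrix (Fin n) (Fin n) ℂ :=
  ∑ g : G, M ρ' g * A * (M ρ g)ᵀ

theorem M_T2 (h : G) (A : Matrix (Fin n) (Fin n) ℂ) :
    M ρ' h * T2 ρ' ρ A * (M ρ h)ᵀ = T2 ρ' ρ A := by
  simp only [T2, Finset.mul_sum, Finset.sum_mul]
  refine Fintype.sum_equiv (Equiv.mulLeft h) _ _ fun g => ?_
  simp only [Equiv.coe_mulLeft, M_mul, Matrix.transpose_mul, Matrix.mul_assoc]

theorem M_T2' (h : G) (A : Matrix (Fin n) (Fin n) ℂ) :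
    T2 ρ' ρ A * (M ρ h⁻¹)ᵀ = M ρ' h * T2 ρ' ρ A := by
  conv_lhs => rw [← M_T2 ρ' ρ h A]
  rw [Matrix.mul_assoc, ← Matrix.transpose_mul, M_inv_mul, Matrix.transpose_one, Matrix.mul_one]

/-- `T2 A` as an intertwining map from the contragredient. -/
noncomputable def T2map (A : Matrix (Fin n) (Fin n) ℂ) : IntertwiningMap (contra ρ) ρ' where
  toLinearMap := Matrix.toLin' (T2 ρ' ρ A)
  isIntertwining' g := by
    rw [contra_apply, ← Matrix.toLin'_mul, M_T2', Matrix.toLin'_mul, toLin'_M]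

theorem T2_eq_zero (hsum : ∑ g : G, ρ'.character g * ρ.character g = 0)
    (A : Matrix (Fin n) (Fin n) ℂ) : T2 ρ' ρ A = 0 := by
  have hG : (Nat.card G : ℂ) ≠ 0 := by exact_mod_cast Nat.card_pos.ne'
  have : Invertible (Nat.card G : ℂ) := invertibleOfNonzero hG
  have hfr : Module.finrank ℂ (IntertwiningMap (contra ρ) ρ') = 0 := by
    have h := card_inv_mul_sum_char_mul_char_eq_finrank (contra ρ) ρ'
    have h3 : ∑ g : G, ρ'.character g * (contra ρ).character g⁻¹ =
        ∑ g : G, ρ'.character g * ρ.character g := by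
      refine Finset.sum_congr rfl fun g _ => ?_
      rw [contra_character, inv_inv]
    rw [h3, hsum] at h
    simp only [mul_zero] at h
    exact_mod_cast h.symm
  have hss : Subsingleton (IntertwiningMap (contra ρ) ρ') := Module.finrank_zero_iff.1 hfr
  have h : T2map ρ' ρ A = 0 := Subsingleton.elim _ _
  have h1 := congrArg IntertwiningMap.toLinearMap h
  have h2 : Matrix.toLin' (T2 ρ' ρ A) = 0 := h1
  have h3 := congrArg LinearMap.toMatrix' h2
  rwa [LinearMap.toMatrix'_toLin', map_zero] at h3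

omit [Fintype G] in
theorem entry_single2 (B' B : Matrix (Fin n) (Fin n) ℂ) (i j a b : Fin n) :
    (B' * Matrix.single j i (1 : ℂ) * Bᵀ) a b = B' a j * B b i := by
  rw [Matrix.mul_apply]
  simp only [Matrix.mul_apply, Matrix.single_apply, Matrix.transpose_apply]
  rw [Finset.sum_eq_single i]
  · rw [Finset.sum_eq_single j]
    · simp
    · intro c _ hc
      simp [hc.symm]
    · simp
  · intro c _ hc
    have : ∀ x : Fin n, ¬ (j = x ∧ i = c) := fun x h => hc h.2.symm
    simp [this]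
  · simp

theorem sum_trace_zero (hsum : ∑ g : G, ρ'.character g * ρ.character g = 0)
    (A : Matrix (Fin n) (Fin n) ℂ) : ∑ g : G, (A * M ρ' g * M ρ g).trace = 0 := by
  have h1 : ∀ g : G, (A * M ρ' g * M ρ g).trace =
      ∑ i, ∑ k, ∑ j, A i j * (M ρ' g j k * M ρ g k i) := by
    intro g
    rw [Matrix.trace]
    simp only [Matrix.diag_apply, Matrix.mul_apply, mul_assoc]
    refine Finset.sum_congr rfl fun i _ => ?_
    simp only [Finset.mul_sum]
    exact Finset.sum_comm
  simp_rw [h1]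
  rw [Finset.sum_comm]
  refine Finset.sum_eq_zero fun i _ => ?_
  rw [Finset.sum_comm]
  refine Finset.sum_eq_zero fun k _ => ?_
  rw [Finset.sum_comm]
  refine Finset.sum_eq_zero fun j _ => ?_
  rw [← Finset.mul_sum]
  have h2 := congrFun (congrFun (T2_eq_zero ρ' ρ hsum (Matrix.single k i (1 : ℂ))) j) k
  simp only [T2, Matrix.sum_apply, entry_single2, Matrix.zero_apply] at h2
  rw [h2, mul_zero]

end two

section induced

variable {G : Type*} [Group G] [Fintype G]

/-- The Frobenius-Schur average of an induced function, first reduction. -/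
theorem fs_ind_eq (I : Subgroup G) (ψ : I → ℂ) :
    (Nat.card G : ℂ)⁻¹ * ∑ g : G, Cfsg.indFun I ψ (g * g) =
      (Nat.card I : ℂ)⁻¹ * ∑ h : G, Cfsg.extendByZero I ψ (h * h) := by
  have hG : (Nat.card G : ℂ) ≠ 0 := by exact_mod_cast Nat.card_pos.ne'
  simp_rw [Cfsg.Agent.Lib.Helper19Ind.indFun_apply]
  rw [← Finset.mul_sum, Finset.sum_comm]
  have h1 : ∀ x : G, ∑ g : G, Cfsg.extendByZero I ψ (x⁻¹ * (g * g) * x) =
      ∑ h : G, Cfsg.extendByZero I ψ (h * h) := by
    intro x
    refine Fintype.sum_equiv (MulAut.conj x⁻¹).toEquiv _ _ fun g => ?_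
    congr 1
    simp only [MulEquiv.toEquiv_eq_coe, MulEquiv.coe_toEquiv, MulAut.conj_apply, inv_inv]
    group
  simp_rw [h1]
  rw [Finset.sum_const, Finset.card_univ, nsmul_eq_mul, ← Nat.card_eq_fintype_card]
  field_simp

theorem inner_sum_zero (N : Subgroup G) [hN : N.Normal] (I : Subgroup G) (hNI : N ≤ I)
    [Fintype N] (φ : N → ℂ) (hφ : Cfsg.IsIrrCharacter N φ)
    (hφreal : ∀ n, conj (φ n) = φ n) (ψ : I → ℂ) (hψ : Cfsg.IsCharacter I ψ)
    (hres : ∀ n : N, ψ (Subgroup.inclusion hNI n) = φ n) (h : G)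
    (hh : (fun n : N => φ (MulAut.conjNormal h⁻¹ n)) ≠ φ) :
    ∑ n : N, Cfsg.extendByZero I ψ ((h * n) * (h * n)) = 0 := by
  have hform : ∀ n : N, (h * (n : G)) * (h * n) =
      (h * h) * ((MulAut.conjNormal h⁻¹ n : N) : G) * n := by
    intro n
    rw [MulAut.conjNormal_apply]
    group
  by_cases hI : h * h ∈ I
  · obtain ⟨k, ρ, rfl⟩ := hψ
    set Y : Representation ℂ N (Fin k → ℂ) := ρ.comp (Subgroup.inclusion hNI) with hY
    set Y' : Representation ℂ N (Fin k → ℂ) :=
      Y.comp (MulAut.conjNormal h⁻¹ : N ≃* N).toMonoidHom with hY'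
    have hYc : ∀ n : N, Y.character n = φ n := fun n => hres n
    have hY'c : ∀ n : N, Y'.character n = φ (MulAut.conjNormal h⁻¹ n) := fun n => hres _
    have hsum : ∑ n : N, Y'.character n * Y.character n = 0 := by
      have h1 := classInner_irr_ne (irr_comp_mulEquiv (MulAut.conjNormal h⁻¹ : N ≃* N) hφ) hφ hh
      rw [Cfsg.classInner] at h1
      have hNc : (Nat.card N : ℂ) ≠ 0 := by exact_mod_cast Nat.card_pos.ne'
      have h2 := (mul_eq_zero.1 h1).resolve_left (inv_ne_zero hNc)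
      rw [← h2]
      refine Finset.sum_congr rfl fun n _ => ?_
      rw [hYc, hY'c, hφreal]
      rfl
    have h3 := sum_trace_zero Y' Y hsum (M ρ ⟨h * h, hI⟩)
    rw [← h3]
    refine Finset.sum_congr rfl fun n _ => ?_
    have e : (h * (n : G)) * (h * n) = (((⟨h * h, hI⟩ : I) *
        Subgroup.inclusion hNI (MulAut.conjNormal h⁻¹ n) * Subgroup.inclusion hNI n : I) : G) := by
      rw [hform]
      rfl
    rw [e, Cfsg.Agent.Lib.Helper19Ind.extendByZero_coe, char_eq_trace, M_mul, M_mul]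
    rfl
  · refine Finset.sum_eq_zero fun n _ => ?_
    apply Cfsg.Agent.Lib.Helper19Ind.extendByZero_of_not_mem
    rw [hform, mul_assoc]
    intro h2
    apply hI
    have h3 : ((MulAut.conjNormal h⁻¹ n : N) : G) * n ∈ I :=
      I.mul_mem (hNI (MulAut.conjNormal h⁻¹ n).2) (hNI n.2)
    exact (I.mul_mem_cancel_right h3).1 h2

theorem fs_ind_inertia (N : Subgroup G) [hN : N.Normal] (I : Subgroup G) (hNI : N ≤ I)
    [Fintype N] [Fintype I] (φ : N → ℂ) (hφ : Cfsg.IsIrrCharacter N φ)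
    (hφreal : ∀ n, conj (φ n) = φ n) (ψ : I → ℂ) (hψ : Cfsg.IsCharacter I ψ)
    (hres : ∀ n : N, ψ (Subgroup.inclusion hNI n) = φ n)
    (hI : ∀ h : G, h ∉ I → (fun n : N => φ (MulAut.conjNormal h⁻¹ n)) ≠ φ) :
    (Nat.card G : ℂ)⁻¹ * ∑ g : G, Cfsg.indFun I ψ (g * g) =
      (Nat.card I : ℂ)⁻¹ * ∑ x : I, ψ (x * x) := by
  classical
  rw [fs_ind_eq]
  congr 1
  have hNc : (Nat.card N : ℂ) ≠ 0 := by exact_mod_cast Nat.card_pos.ne'
  set F : G → ℂ := fun h => if h ∈ I then 0 else Cfsg.extendByZero I ψ (h * h) with hF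
  have hsplit : ∑ h : G, Cfsg.extendByZero I ψ (h * h) = ∑ x : I, ψ (x * x) + ∑ h : G, F h := by
    have e2 : ∑ x : I, ψ (x * x) = ∑ x : I, Cfsg.extendByZero I ψ ((x : G) * x) := by
      refine Finset.sum_congr rfl fun x _ => ?_
      have : ((x : G) * x) = ((x * x : I) : G) := rfl
      rw [this, Cfsg.Agent.Lib.Helper19Ind.extendByZero_coe]
    rw [e2, sum_subgroup I (fun g => Cfsg.extendByZero I ψ (g * g)), ← Finset.sum_add_distrib]
    refine Finset.sum_congr rfl fun h _ => ?_
    simp only [hF]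
    split_ifs <;> simp
  have hzero : ∑ h : G, F h = 0 := by
    have h1 : ∀ n : N, ∑ h : G, F h = ∑ h : G, F (h * n) := fun n =>
      (Fintype.sum_equiv (Equiv.mulRight (n : G)) _ _ fun h => rfl).symm
    have h2 : (Nat.card N : ℂ) * ∑ h : G, F h = ∑ n : N, ∑ h : G, F (h * n) := by
      rw [← Finset.sum_congr rfl (fun n _ => h1 n), Finset.sum_const, Finset.card_univ,
        nsmul_eq_mul, Nat.card_eq_fintype_card]
    rw [Finset.sum_comm] at h2
    have h3 : ∀ h : G, ∑ n : N, F (h * n) = 0 := by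
      intro h
      by_cases hh : h ∈ I
      · refine Finset.sum_eq_zero fun n _ => ?_
        simp only [hF]
        rw [if_pos (I.mul_mem hh (hNI n.2))]
      · have h4 : ∀ n : N, F (h * n) = Cfsg.extendByZero I ψ ((h * n) * (h * n)) := by
          intro n
          simp only [hF]
          rw [if_neg]
          intro h5
          exact hh ((I.mul_mem_cancel_right (hNI n.2)).1 h5)
        simp_rw [h4]
        exact inner_sum_zero N I hNI φ hφ hφreal ψ hψ hres h (hI h hh)
    simp_rw [h3] at h2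
    rw [Finset.sum_const_zero] at h2
    exact (mul_eq_zero.1 h2).resolve_left hNc
  rw [hsplit, hzero, add_zero]

end induced

end Cfsg.Agent.Lib.Helper83FS2
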