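import Mathlib
import Cfsg.Prelude.Def_Characters
import Cfsg.Agent.Lib.Helper4Char4
import Cfsg.Agent.Lib.Helper82Mult
import Cfsg.Agent.Lib.Helper19Cliff
import Cfsg.Agent.Lib.Helper19Gal2
import Cfsg.Agent.Lib.Helper19Lin
import Cfsg.Agent.Lib.Helper83Char
import Cfsg.Agent.S0146
import Cfsg.Agent.S0148

set_option autoImplicit false
open Cfsg
open scoped ComplexConjugate

namespace Cfsg.Agent.Lib.Helper83MinNormal
open Cfsg.Agent.Lib.Helper4Char Cfsg.Agent.Lib.Helper4Char2 Cfsg.Agent.Lib.Helper4Char4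
open Cfsg.Agent.Lib.Helper19Cliff Cfsg.Agent.Lib.Helper19Lin

theorem hom_mul_conj {G : Type*} [Group G] [Finite G] (f : G →* ℂˣ) (g : G) :
    (f g : ℂ) * conj (f g : ℂ) = 1 := by
  have h1 : ((f g : ℂˣ) : ℂ) ^ (Nat.card G) = 1 := by
    rw [← Units.val_pow_eq_pow_val, ← map_pow, pow_card_eq_one', map_one, Units.val_one]
  have h2 : ‖((f g : ℂˣ) : ℂ)‖ = 1 := Complex.norm_eq_one_of_pow_eq_one h1 Nat.card_pos.ne'
  rw [Complex.mul_conj, Complex.normSq_eq_norm_sq, h2]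
  simp

theorem mul_linear_irr {G : Type*} [Group G] [Fintype G] (f : G →* ℂˣ) {χ : G → ℂ}
    (hχ : Cfsg.IsIrrCharacter G χ) : Cfsg.IsIrrCharacter G (homFun f * χ) := by
  rw [isIrrCharacter_iff]
  refine ⟨IsCharacter.mul (isCharacter_homFun f) (IsIrrCharacter.isCharacter hχ), ?_⟩
  rw [← classInner_irr_self hχ, Cfsg.classInner, Cfsg.classInner]
  congr 1
  refine Finset.sum_congr rfl fun g _ => ?_
  rw [Pi.mul_apply, map_mul, homFun_apply]
  have := hom_mul_conj f g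
  linear_combination (χ g * conj (χ g)) * this

section Correspondence

variable {G T H : Type*} [Group G] [Group T] [Group H] [Fintype G] [Fintype T] [Fintype H]
  (ι₂ : T →* G) (hι₂ : Function.Injective ι₂) (ι₁ : H →* T) (hι₁ : Function.Injective ι₁)
  (c : G →* MulAut H)
  (hc : ∀ (g : G) (n : H), ι₂ (ι₁ (c g n)) = g * ι₂ (ι₁ n) * g⁻¹)
  {ϑ : H → ℂ} (hϑ : IsIrrCharacter H ϑ)
  (hT : ∀ g : G, g ∈ ι₂.range ↔ ∀ n : H, ϑ (c g n) = ϑ n)

include hι₂ hι₁ hc hϑ hT in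
theorem ind_inj {ψ ψ' : T → ℂ} (hψ : IsIrrCharacter T ψ) (hψ' : IsIrrCharacter T ψ')
    (h : classInner (fun n => ψ (ι₁ n)) ϑ ≠ 0) (h' : classInner (fun n => ψ' (ι₁ n)) ϑ ≠ 0)
    (heq : ind ι₂ ψ = ind ι₂ ψ') : ψ = ψ' := by
  classical
  by_contra hne
  have hχ := ind_inertia_isIrr ι₂ hι₂ ι₁ hι₁ c hc hϑ hT hψ h
  set χ := ind ι₂ ψ with hχdef
  have hχc := IsIrrCharacter.isCharacter hχ
  have hresc : IsCharacter T (fun t => χ (ι₂ t)) := IsCharacter.comp ι₂ hχc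
  have h1 := classInner_res_ind_inertia ι₂ hι₂ ι₁ hι₁ c hc hϑ hT hψ h
  have h2 := classInner_res_eq_sum ι₁ (fun t => χ (ι₂ t)) (IsCharacter.isClassFunction hresc) ϑ
  rw [← hχdef] at h1
  rw [h1] at h2
  -- natural number versions
  choose a ha using fun ξ : IrrCharacter T =>
    IsCharacter.classInner_nat hresc (IsIrrCharacter.isCharacter ξ.2)
  choose b hb using fun ξ : IrrCharacter T =>
    IsCharacter.classInner_nat (IsCharacter.comp ι₁ (IsIrrCharacter.isCharacter ξ.2))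
      (IsIrrCharacter.isCharacter hϑ)
  simp_rw [ha, hb] at h2
  have haψ : a ⟨ψ, hψ⟩ = 1 := by
    have h3 := ha ⟨ψ, hψ⟩
    rw [← classInner_conj_symm, ← frobenius ι₂ ψ χ (IsCharacter.isClassFunction hχc), ← hχdef,
      classInner_irr_self hχ, map_one] at h3
    exact_mod_cast h3.symm
  have haψ' : a ⟨ψ', hψ'⟩ = 1 := by
    have h3 := ha ⟨ψ', hψ'⟩
    rw [← classInner_conj_symm, ← frobenius ι₂ ψ' χ (IsCharacter.isClassFunction hχc), ← heq,
      classInner_irr_self hχ, map_one] at h3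
    exact_mod_cast h3.symm
  have hbψ' : b ⟨ψ', hψ'⟩ ≠ 0 := by
    intro h0
    apply h'
    rw [hb ⟨ψ', hψ'⟩, h0, Nat.cast_zero]
  rw [hb ⟨ψ, hψ⟩] at h2
  have h3 : b ⟨ψ, hψ⟩ = ∑ ξ : IrrCharacter T, a ξ * b ξ := by exact_mod_cast h2
  have hne' : (⟨ψ, hψ⟩ : IrrCharacter T) ≠ ⟨ψ', hψ'⟩ := fun h => hne (congrArg Subtype.val h)
  have h4 : ∑ ξ ∈ ({⟨ψ, hψ⟩, ⟨ψ', hψ'⟩} : Finset (IrrCharacter T)), a ξ * b ξ ≤
      ∑ ξ : IrrCharacter T, a ξ * b ξ :=
    Finset.sum_le_sum_of_subset (Finset.subset_univ _)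
  rw [Finset.sum_pair hne', haψ, haψ', ← h3] at h4
  omega

end Correspondence

section main

variable {G : Type*} [Group G] [Fintype G]

theorem card_ext_le (I : Subgroup G) (ν : I → ℂ) (hν : Cfsg.IsCharacter I ν) (hν1 : ν 1 = 1) :
    Nat.card {χ : Cfsg.IrrCharacter G // ∀ x : I, (χ : G → ℂ) x = ν x} ≤ I.index := by
  classical
  have : Fintype I := Fintype.ofFinite _
  obtain ⟨f, hf⟩ := exists_hom_of_linear hν hν1
  have hνirr : Cfsg.IsIrrCharacter I ν := hf ▸ isIrrCharacter_homFun f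
  have hθ := Cfsg.Agent.S0148.result I ν hν
  obtain ⟨m, hm, hsum⟩ := Cfsg.Agent.Lib.Helper82Mult.exists_mult hθ
  have hdeg := Cfsg.Agent.Lib.Helper82Mult.degree_eq_sum_mult hθ m hsum
  have hd : Cfsg.charDegree (Cfsg.indFun I ν) = I.index := by
    rw [Cfsg.charDegree, Cfsg.Agent.Lib.Helper82Mult.indFun_one, hν1, mul_one]
    simp
  rw [hd] at hdeg
  rw [hdeg, Nat.card_eq_fintype_card, Fintype.card_subtype, Finset.card_eq_sum_ones]
  calc ∑ χ ∈ Finset.univ.filter (fun χ : Cfsg.IrrCharacter G => ∀ x : I, (χ : G → ℂ) x = ν x), 1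
      ≤ ∑ χ ∈ Finset.univ.filter (fun χ : Cfsg.IrrCharacter G => ∀ x : I, (χ : G → ℂ) x = ν x),
        m χ * Cfsg.charDegree (χ : G → ℂ) := by
        refine Finset.sum_le_sum fun χ hχ => ?_
        have hχ' := (Finset.mem_filter.1 hχ).2
        have h1 : m χ = 1 := by
          have h2 := hm χ
          rw [Cfsg.Agent.S0146.result I ν _ (IsIrrCharacter.isClassFunction χ.2)] at h2
          have h3 : (fun h : I => (χ : G → ℂ) h) = ν := funext hχ'
          rw [h3, classInner_irr_self hνirr] at h2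
          exact_mod_cast h2.symm
        rw [h1, one_mul]
        exact Cfsg.Agent.Lib.Helper83Char.charDegree_pos χ.2
    _ ≤ _ := Finset.sum_le_sum_of_subset (Finset.subset_univ _)

theorem le_commutator (N : Subgroup G) (hN : N.Normal)
    (hmin : ∀ M : Subgroup G, M.Normal → M ≤ N → M = ⊥ ∨ M = N)
    (hna : ¬ IsMulCommutative ↥N) : N ≤ commutator G := by
  have h1 : (⁅N, N⁆ : Subgroup G).Normal := Subgroup.commutator_normal N N
  have h2 : ⁅N, N⁆ ≤ N := Subgroup.commutator_le_left N N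
  rcases hmin _ h1 h2 with h | h
  · exfalso
    apply hna
    refine ⟨⟨fun a b => ?_⟩⟩
    have := Subgroup.commutator_eq_bot_iff_le_centralizer.1 h
    have h3 := Subgroup.mem_centralizer_iff.1 (this a.2) b b.2
    exact Subtype.ext h3.symm
  · rw [commutator_def, ← h]
    exact Subgroup.commutator_mono le_top le_top

theorem key (N : Subgroup G) [hN : N.Normal] (hperf : N ≤ commutator G)
    (φ : Cfsg.IrrCharacter ↥N) (I : Subgroup G)
    (hI : ∀ g : G, g ∈ I ↔ ∀ n n' : ↥N, (n' : G) = g * (n : G) * g⁻¹ →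
      (φ : ↥N → ℂ) n' = (φ : ↥N → ℂ) n) (hNI : N ≤ I) [Fintype N] [Fintype I]
    (ψ : Cfsg.IrrCharacter ↥I)
    (hψ : ∀ n : ↥N, (ψ : ↥I → ℂ) (Subgroup.inclusion hNI n) = (φ : ↥N → ℂ) n) :
    Cfsg.IsIrrCharacter G (Cfsg.indFun I ψ) ∧
    ∀ f f₀ : G →* ℂˣ, homFun f * Cfsg.indFun I ψ = homFun f₀ * Cfsg.indFun I ψ →
      ∀ x : I, f x = f₀ x := by
  classical
  have hc : ∀ (g : G) (n : N), I.subtype (Subgroup.inclusion hNI (MulAut.conjNormal g n)) =
      g * I.subtype (Subgroup.inclusion hNI n) * g⁻¹ := by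
    intro g n
    simp [MulAut.conjNormal_apply]
  have hT : ∀ g : G, g ∈ I.subtype.range ↔
      ∀ n : N, (φ : ↥N → ℂ) (MulAut.conjNormal g n) = (φ : ↥N → ℂ) n := by
    intro g
    rw [Subgroup.range_subtype, hI]
    constructor
    · intro h n
      exact h n _ (by simp [MulAut.conjNormal_apply])
    · intro h n n' hn
      have : n' = MulAut.conjNormal g n := by
        apply Subtype.ext
        rw [hn, MulAut.conjNormal_apply]
      rw [this, h]
  have hι₁ : Function.Injective (Subgroup.inclusion hNI) := Subgroup.inclusion_injective hNI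
  have hres : (fun n : N => (ψ : ↥I → ℂ) (Subgroup.inclusion hNI n)) = (φ : ↥N → ℂ) := funext hψ
  have hover : Cfsg.classInner (fun n : N => (ψ : ↥I → ℂ) (Subgroup.inclusion hNI n))
      (φ : ↥N → ℂ) ≠ 0 := by
    rw [hres, classInner_irr_self φ.2]; exact one_ne_zero
  have hirr := ind_inertia_isIrr I.subtype I.subtype_injective (Subgroup.inclusion hNI) hι₁
    MulAut.conjNormal hc φ.2 hT ψ.2 hover
  rw [ind_subtype] at hirr
  refine ⟨hirr, ?_⟩
  intro f f₀ hff x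
  set μ : G →* ℂˣ := f * f₀⁻¹ with hμ
  have hμχ : Cfsg.indFun I ψ * homFun μ = Cfsg.indFun I ψ := by
    funext g
    have h1 := congrFun hff g
    simp only [Pi.mul_apply, homFun_apply] at h1 ⊢
    rw [hμ, MonoidHom.mul_apply, MonoidHom.inv_apply, Units.val_mul, Units.val_inv_eq_inv_val]
    have h0 : ((f₀ g : ℂˣ) : ℂ) ≠ 0 := Units.ne_zero _
    field_simp
    linear_combination h1
  set ψ' : I → ℂ := homFun (μ.comp I.subtype) * (ψ : ↥I → ℂ) with hψ'
  have hψ'irr : Cfsg.IsIrrCharacter I ψ' := mul_linear_irr _ ψ.2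
  have hμN : ∀ n : N, μ (n : G) = 1 := by
    intro n
    have : (n : G) ∈ μ.ker := Abelianization.commutator_subset_ker μ (hperf n.2)
    exact this
  have hres' : (fun n : N => ψ' (Subgroup.inclusion hNI n)) = (φ : ↥N → ℂ) := by
    funext n
    rw [hψ', Pi.mul_apply, homFun_apply, hψ]
    have : (μ.comp I.subtype) (Subgroup.inclusion hNI n) = 1 := hμN n
    rw [this]
    simp
  have hover' : Cfsg.classInner (fun n : N => ψ' (Subgroup.inclusion hNI n))
      (φ : ↥N → ℂ) ≠ 0 := by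
    rw [hres', classInner_irr_self φ.2]; exact one_ne_zero
  have hind : ind I.subtype (ψ : ↥I → ℂ) = ind I.subtype ψ' := by
    have h1 := ind_mul_res I.subtype (ψ : ↥I → ℂ) (homFun μ)
      (IsCharacter.isClassFunction (isCharacter_homFun μ))
    have h2 : ((ψ : ↥I → ℂ) * fun n : I => homFun μ (I.subtype n)) = ψ' := by
      rw [hψ', mul_comm]
      rfl
    rw [h2, ind_subtype, ind_subtype, hμχ] at h1
    rw [ind_subtype, ind_subtype, h1]
  have heq := ind_inj I.subtype I.subtype_injective (Subgroup.inclusion hNI) hι₁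
    MulAut.conjNormal hc φ.2 hT ψ.2 hψ'irr hover hover' hind
  -- Gallagher
  have hc' : ∀ (g : I) (n : N), Subgroup.inclusion hNI ((MulAut.conjNormal.comp I.subtype) g n) =
      g * Subgroup.inclusion hNI n * g⁻¹ := by
    intro g n
    apply Subtype.ext
    simp [MulAut.conjNormal_apply]
  have hgal := (Cfsg.Agent.Lib.Helper19Gal2.gallagher (Subgroup.inclusion hNI) hι₁
    (MulAut.conjNormal.comp I.subtype) hc' φ.2 ψ.2 hψ).injOn
  have hm1 : homFun (μ.comp I.subtype) ∈ {β : I → ℂ | Cfsg.IsIrrCharacter I β ∧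
      ∀ n : N, β (Subgroup.inclusion hNI n) = β 1} := by
    refine ⟨isIrrCharacter_homFun _, fun n => ?_⟩
    rw [homFun_apply, homFun_apply, map_one]
    have : (μ.comp I.subtype) (Subgroup.inclusion hNI n) = 1 := hμN n
    rw [this]
  have hm2 : homFun (1 : I →* ℂˣ) ∈ {β : I → ℂ | Cfsg.IsIrrCharacter I β ∧
      ∀ n : N, β (Subgroup.inclusion hNI n) = β 1} := by
    refine ⟨isIrrCharacter_homFun _, fun n => ?_⟩
    rw [homFun_apply, homFun_apply]
    simp
  have h3 := hgal hm1 hm2 (by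
    show homFun (μ.comp I.subtype) * (ψ : ↥I → ℂ) = homFun (1 : I →* ℂˣ) * (ψ : ↥I → ℂ)
    rw [← hψ', ← heq, map_one, one_mul])
  have h4 := homFun_injective h3
  have h5 : μ (x : G) = 1 := by
    have := congrArg (fun k : I →* ℂˣ => k x) h4
    exact this
  rw [hμ, MonoidHom.mul_apply, MonoidHom.inv_apply, mul_inv_eq_one] at h5
  exact h5

end main

theorem count {G : Type*} [Group G] [Fintype G] (I : Subgroup G) (χ₀ : G → ℂ)
    (hχ₀ : Cfsg.IsIrrCharacter G χ₀) (d : ℕ) (hd : Cfsg.charDegree χ₀ = d)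
    (hkey : ∀ f f₀ : G →* ℂˣ, homFun f * χ₀ = homFun f₀ * χ₀ → ∀ x : I, f x = f₀ x)
    (A B : Cfsg.IrrCharacter G → Prop)
    (hAB : ∀ lam : Cfsg.IrrCharacter G, Cfsg.charDegree (lam : G → ℂ) = 1 → A lam →
      ∀ h : Cfsg.IsIrrCharacter G ((lam : G → ℂ) * χ₀), B ⟨(lam : G → ℂ) * χ₀, h⟩) :
    Nat.card {χ : Cfsg.IrrCharacter G // Cfsg.charDegree (χ : G → ℂ) = 1 ∧ A χ} ≤
      I.index * Nat.card {χ : Cfsg.IrrCharacter G // Cfsg.charDegree (χ : G → ℂ) = d ∧ B χ} := by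
  classical
  have hlin : ∀ lam : {χ : Cfsg.IrrCharacter G // Cfsg.charDegree (χ : G → ℂ) = 1 ∧ A χ},
      (lam.1 : G → ℂ) 1 = 1 := by
    intro lam
    rw [← Cfsg.Agent.Lib.Helper83Char.charDegree_cast lam.1.2, lam.2.1, Nat.cast_one]
  choose f hf using fun lam : {χ : Cfsg.IrrCharacter G // Cfsg.charDegree (χ : G → ℂ) = 1 ∧ A χ} =>
    exists_hom_of_linear (IsIrrCharacter.isCharacter lam.1.2) (hlin lam)
  have hirr : ∀ lam : {χ : Cfsg.IrrCharacter G // Cfsg.charDegree (χ : G → ℂ) = 1 ∧ A χ},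
      Cfsg.IsIrrCharacter G ((lam.1 : G → ℂ) * χ₀) := by
    intro lam
    rw [← hf lam]
    exact mul_linear_irr _ hχ₀
  let F : {χ : Cfsg.IrrCharacter G // Cfsg.charDegree (χ : G → ℂ) = 1 ∧ A χ} →
      {χ : Cfsg.IrrCharacter G // Cfsg.charDegree (χ : G → ℂ) = d ∧ B χ} :=
    fun lam => ⟨⟨(lam.1 : G → ℂ) * χ₀, hirr lam⟩, by
      rw [← hd, Cfsg.charDegree, Cfsg.charDegree]
      show ⌊(((lam.1 : G → ℂ) * χ₀) 1).re⌋₊ = _
      rw [Pi.mul_apply, hlin lam, one_mul], hAB lam.1 lam.2.1 lam.2.2 (hirr lam)⟩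
  rw [Nat.card_eq_fintype_card, Nat.card_eq_fintype_card]
  have h1 := Finset.card_le_mul_card_image (f := F) Finset.univ I.index (by
    intro a ha
    obtain ⟨lam₀, -, rfl⟩ := Finset.mem_image.1 ha
    have h2 := card_ext_le I (fun x : I => (lam₀.1 : G → ℂ) x)
      (IsCharacter.restrict I (IsIrrCharacter.isCharacter lam₀.1.2)) (hlin lam₀)
    refine le_trans ?_ h2
    rw [Nat.card_eq_fintype_card, ← Fintype.card_subtype]
    refine Fintype.card_le_of_injective (fun lam => ⟨lam.1.1, fun x => ?_⟩) ?_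
    · have h3 : (lam.1.1 : G → ℂ) * χ₀ = (lam₀.1 : G → ℂ) * χ₀ :=
        congrArg (fun z => (z.1 : G → ℂ)) lam.2
      rw [← hf lam.1, ← hf lam₀] at h3
      have h4 := hkey _ _ h3 x
      rw [← hf lam.1, ← hf lam₀, homFun_apply, homFun_apply, h4]
    · intro a b hab
      apply Subtype.ext
      apply Subtype.ext
      exact congrArg (fun z => z.1) hab)
  refine le_trans h1 (Nat.mul_le_mul_left _ ?_)
  exact Finset.card_le_univ _

theorem degree_ind {G : Type*} [Group G] [Fintype G] (N I : Subgroup G) (hNI : N ≤ I)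
    (φ : Cfsg.IrrCharacter ↥N) (ψ : Cfsg.IrrCharacter ↥I)
    (hψ : ∀ n : ↥N, (ψ : ↥I → ℂ) (Subgroup.inclusion hNI n) = (φ : ↥N → ℂ) n) :
    Cfsg.charDegree (Cfsg.indFun I ψ) = Cfsg.charDegree (φ : ↥N → ℂ) * I.index := by
  have h1 : (ψ : ↥I → ℂ) 1 = (φ : ↥N → ℂ) 1 := by
    rw [← hψ 1, map_one]
  rw [Cfsg.charDegree, Cfsg.Agent.Lib.Helper82Mult.indFun_one, h1,
    ← Cfsg.Agent.Lib.Helper83Char.charDegree_cast φ.2]
  have : ((I.index : ℂ) * (Cfsg.charDegree (φ : ↥N → ℂ) : ℂ)) =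
      ((Cfsg.charDegree (φ : ↥N → ℂ) * I.index : ℕ) : ℂ) := by push_cast; ring
  rw [this, Complex.natCast_re, Nat.floor_natCast]

end Cfsg.Agent.Lib.Helper83MinNormal
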