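import Mathlib
import Cfsg.Prelude.Def_Characters
import Cfsg.Prelude.Def_Blocks
import Cfsg.Agent.Lib.Helper4Perm
import Cfsg.Agent.Lib.Helper4Odd
import Cfsg.Agent.Lib.Helper19Cliff
import Cfsg.Agent.Lib.Helper82Quot
import Cfsg.Agent.Lib.Helper82Linear
import Cfsg.Agent.Lib.Helper82Irr

set_option autoImplicit false

/-!
Real classes / real characters: counting tools.
-/

namespace Cfsg.Agent.Lib.Helper83Real

open Cfsg Cfsg.Agent.Lib.Helper4Char Cfsg.Agent.Lib.Helper4Char2 Cfsg.Agent.Lib.Helper4Char4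
open scoped ComplexConjugate

variable {G : Type*} [Group G] [Finite G]

/-- If the trivial character is a constituent of `χ|_N` (`N` normal, `χ` irreducible), then
`N ≤ ker χ`. -/
theorem ker_of_sum_ne_zero (N : Subgroup G) [N.Normal] {χ : G → ℂ} (hχ : IsIrrCharacter G χ)
    (h : ∑ᶠ n : N, χ n ≠ 0) : ∀ n ∈ N, χ n = χ 1 := by
  classical
  have := Fintype.ofFinite G
  have : Fintype N := Fintype.ofFinite N
  rw [finsum_eq_sum_of_fintype] at h
  have hc : ∀ (g : G) (n : N), N.subtype (MulAut.conjNormal g n) = g * N.subtype n * g⁻¹ := by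
    intro g n
    simp [MulAut.conjNormal_apply]
  have h1 : classInner (fun n : N => χ (N.subtype n)) (fun _ => (1 : ℂ)) ≠ 0 := by
    unfold classInner
    simp only [map_one, mul_one, Subgroup.coe_subtype]
    exact mul_ne_zero (inv_ne_zero (Nat.cast_ne_zero.mpr Nat.card_pos.ne')) h
  have h2 := Cfsg.Agent.Lib.Helper19Cliff.clifford_invariant N.subtype N.subtype_injective
    MulAut.conjNormal hc hχ (Cfsg.Agent.Lib.Helper82Linear.isIrrCharacter_one (G := N))
    (fun _ _ => rfl) h1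
  intro n hn
  have h3 := congrFun h2 ⟨n, hn⟩
  have h4 := congrFun h2 1
  simp only [Subgroup.coe_subtype, Pi.smul_apply, smul_eq_mul, mul_one, OneMemClass.coe_one]
    at h3 h4
  rw [h3, h4]

/-- The type of real irreducible characters. -/
abbrev RI (G : Type*) [Group G] := {χ : IrrCharacter G // ∀ g : G, ((χ : G → ℂ) g).im = 0}

/-- The type of real classes. -/
abbrev RC (G : Type*) [Group G] :=
  {C : ConjClasses G // ∀ g : G, ConjClasses.mk g = C → IsConj g g⁻¹}

omit [Finite G] in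
theorem isConj_inv_map {H : Type*} [Group H] (f : G →* H) {g : G} (h : IsConj g g⁻¹) :
    IsConj (f g) (f g)⁻¹ := by
  have := MonoidHom.map_isConj f h
  rwa [map_inv] at this

omit [Finite G] in
theorem isConj_inv_of_isConj {a b : G} (h : IsConj a b) (ha : IsConj a a⁻¹) : IsConj b b⁻¹ := by
  have h4 : IsConj a⁻¹ b⁻¹ := by
    obtain ⟨c, hc⟩ := isConj_iff.mp h
    exact isConj_iff.mpr ⟨c, by rw [← hc]; group⟩
  exact h.symm.trans (ha.trans h4)

/-- If real classes of `G/N` lift to real classes of `G` and `N` contains a nontrivial real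
element, then some real irreducible character of `G` does not contain `N` in its kernel. -/
theorem exists_real_irr_not_ker (N : Subgroup G) [N.Normal]
    (hlift : ∀ x : G, IsConj (x : G ⧸ N) (x : G ⧸ N)⁻¹ →
      ∃ y : G, (y : G ⧸ N) = (x : G ⧸ N) ∧ IsConj y y⁻¹)
    (hn : ∃ n ∈ N, n ≠ 1 ∧ IsConj n n⁻¹) :
    ∃ χ : IrrCharacter G, (∀ g : G, ((χ : G → ℂ) g).im = 0) ∧
      ∃ n ∈ N, (χ : G → ℂ) n ≠ (χ : G → ℂ) 1 := by
  classical
  by_contra hcon
  push Not at hcon
  have := Fintype.ofFinite G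
  have : Fintype (G ⧸ N) := Fintype.ofFinite _
  have e1 := Cfsg.Agent.Lib.Helper4Perm.card_real_irr_eq_card_real_classes (G := G)
  have e2 := Cfsg.Agent.Lib.Helper4Perm.card_real_irr_eq_card_real_classes (G := G ⧸ N)
  -- deflation
  have hdef : ∀ χ : RI G, ∃ ψ : IrrCharacter (G ⧸ N), Cfsg.Agent.Lib.Helper82Quot.inflate N ψ = χ.1 :=
    fun χ => Cfsg.Agent.Lib.Helper82Quot.exists_deflate N χ.1 (hcon χ.1 χ.2)
  choose d hd using hdef
  have hdreal : ∀ χ : RI G, ∀ g : G ⧸ N, ((d χ : G ⧸ N → ℂ) g).im = 0 := by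
    intro χ g
    obtain ⟨g, rfl⟩ := QuotientGroup.mk_surjective g
    have := χ.2 g
    rw [← hd χ, Cfsg.Agent.Lib.Helper82Quot.inflate_apply] at this
    exact this
  let f : RI G → RI (G ⧸ N) := fun χ => ⟨d χ, hdreal χ⟩
  have hf : Function.Injective f := by
    intro χ ψ h
    have h1 : d χ = d ψ := congrArg Subtype.val h
    apply Subtype.ext
    rw [← hd χ, ← hd ψ, h1]
  have c1 : Nat.card (RI G) ≤ Nat.card (RI (G ⧸ N)) := Nat.card_le_card_of_injective f hf
  -- classes
  have hmapreal : ∀ C : RC G, ∀ g : G ⧸ N,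
      ConjClasses.mk g = ConjClasses.map (QuotientGroup.mk' N) C.1 → IsConj g g⁻¹ := by
    intro C g hg
    obtain ⟨C, hC⟩ := C
    obtain ⟨a, rfl⟩ := ConjClasses.mk_surjective C
    have ha := hC a rfl
    have h1 : ConjClasses.mk g = ConjClasses.mk (QuotientGroup.mk' N a) := hg
    rw [ConjClasses.mk_eq_mk_iff_isConj] at h1
    exact isConj_inv_of_isConj h1.symm (isConj_inv_map (QuotientGroup.mk' N) ha)
  let k : RC G → RC (G ⧸ N) := fun C => ⟨ConjClasses.map (QuotientGroup.mk' N) C.1, hmapreal C⟩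
  have hk : Function.Surjective k := by
    rintro ⟨C, hC⟩
    obtain ⟨a, rfl⟩ := ConjClasses.mk_surjective C
    obtain ⟨x, rfl⟩ := QuotientGroup.mk_surjective a
    obtain ⟨y, hy1, hy2⟩ := hlift x (hC _ rfl)
    refine ⟨⟨ConjClasses.mk y, ?_⟩, ?_⟩
    · intro g hg
      rw [ConjClasses.mk_eq_mk_iff_isConj] at hg
      exact isConj_inv_of_isConj hg.symm hy2
    · apply Subtype.ext
      show ConjClasses.mk (QuotientGroup.mk' N y) = _
      rw [QuotientGroup.mk'_apply, hy1]
  have hk2 : ¬ Function.Injective k := by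
    intro hinj
    obtain ⟨n, hnN, hn1, hnr⟩ := hn
    have hr : ∀ a : G, IsConj a a⁻¹ → ∀ g : G, ConjClasses.mk g = ConjClasses.mk a → IsConj g g⁻¹ := by
      intro a ha g hg
      rw [ConjClasses.mk_eq_mk_iff_isConj] at hg
      exact isConj_inv_of_isConj hg.symm ha
    have h1 : k ⟨ConjClasses.mk n, hr n hnr⟩ = k ⟨ConjClasses.mk 1, hr 1 (by simp)⟩ := by
      apply Subtype.ext
      show ConjClasses.mk (QuotientGroup.mk' N n) = ConjClasses.mk (QuotientGroup.mk' N 1)
      rw [QuotientGroup.mk'_apply, (QuotientGroup.eq_one_iff n).mpr hnN, map_one]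
    have h2 := congrArg Subtype.val (hinj h1)
    simp only at h2
    rw [ConjClasses.mk_eq_mk_iff_isConj, isConj_comm, isConj_one_right] at h2
    exact hn1 h2
  have : Fintype (RC G) := Fintype.ofFinite _
  have : Fintype (RC (G ⧸ N)) := Fintype.ofFinite _
  have c2 := Fintype.card_lt_of_surjective_not_injective k hk hk2
  rw [← Nat.card_eq_fintype_card, ← Nat.card_eq_fintype_card] at c2
  have e1' : Nat.card (RI G) = Nat.card (RC G) := e1
  have e2' : Nat.card (RI (G ⧸ N)) = Nat.card (RC (G ⧸ N)) := e2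
  omega

/-- Real classes lift through a normal subgroup of odd order. -/
theorem lift_real_of_odd (N : Subgroup G) [N.Normal] (hodd : Odd (Nat.card N)) (x : G)
    (h : IsConj (x : G ⧸ N) (x : G ⧸ N)⁻¹) :
    ∃ y : G, (y : G ⧸ N) = (x : G ⧸ N) ∧ IsConj y y⁻¹ := by
  classical
  obtain ⟨c, hc⟩ := isConj_iff.mp h
  obtain ⟨t, rfl⟩ := QuotientGroup.mk_surjective c
  let Ω := {y : G // (y : G ⧸ N) = (x : G ⧸ N)}
  have hmem : ∀ y : Ω, ((t * (y : G)⁻¹ * t⁻¹ : G) : G ⧸ N) = (x : G ⧸ N) := by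
    intro y
    have h1 : ((t * (y : G)⁻¹ * t⁻¹ : G) : G ⧸ N) = ((t : G ⧸ N) * (x : G ⧸ N) * (t : G ⧸ N)⁻¹)⁻¹ := by
      rw [QuotientGroup.mk_mul, QuotientGroup.mk_mul, QuotientGroup.mk_inv, QuotientGroup.mk_inv, y.2]
      group
    rw [h1, hc, inv_inv]
  have hmem' : ∀ y : Ω, ((t⁻¹ * (y : G)⁻¹ * t : G) : G ⧸ N) = (x : G ⧸ N) := by
    intro y
    have h1 : ((t⁻¹ * (y : G)⁻¹ * t : G) : G ⧸ N) = (t : G ⧸ N)⁻¹ * (x : G ⧸ N)⁻¹ * (t : G ⧸ N) := by
      rw [QuotientGroup.mk_mul, QuotientGroup.mk_mul, QuotientGroup.mk_inv, QuotientGroup.mk_inv, y.2]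
    rw [h1, ← hc]
    group
  let σ : Equiv.Perm Ω :=
    { toFun := fun y => ⟨t * (y : G)⁻¹ * t⁻¹, hmem y⟩
      invFun := fun y => ⟨t⁻¹ * (y : G)⁻¹ * t, hmem' y⟩
      left_inv := by
        intro y
        apply Subtype.ext
        simp only
        group
      right_inv := by
        intro y
        apply Subtype.ext
        simp only
        group }
  have hσ : ∀ (n : ℕ) (y : Ω), (((σ ^ n) y : Ω) : G)
      = t ^ n * (if Even n then (y : G) else (y : G)⁻¹) * (t ^ n)⁻¹ := by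
    intro n
    induction n with
    | zero => intro y; simp
    | succ n ih =>
      intro y
      rw [pow_succ', Equiv.Perm.mul_apply]
      show t * (((σ ^ n) y : Ω) : G)⁻¹ * t⁻¹ = _
      rw [ih y]
      by_cases hn : Even n
      · have hn1 : ¬ Even (n + 1) := by
          rw [Nat.even_add_one]; exact not_not.mpr hn
        rw [if_pos hn, if_neg hn1, pow_succ']
        group
      · have hn1 : Even (n + 1) := by
          rw [Nat.even_add_one]; exact hn
        rw [if_neg hn, if_pos hn1, pow_succ']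
        group
  have : Finite Ω := Subtype.finite
  have : Fintype Ω := Fintype.ofFinite Ω
  have hcard : Fintype.card Ω = Nat.card N := by
    rw [← Nat.card_eq_fintype_card]
    apply Nat.card_congr
    refine ⟨fun y => ⟨x⁻¹ * (y : G), ?_⟩, fun n => ⟨x * (n : G), ?_⟩, ?_, ?_⟩
    · rw [← QuotientGroup.eq]; exact y.2.symm
    · rw [QuotientGroup.mk_mul, (QuotientGroup.eq_one_iff (n : G)).mpr n.2, mul_one]
    · intro y; apply Subtype.ext; simp
    · intro n; apply Subtype.ext; simp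
  obtain ⟨a, m, hm, hom⟩ := Nat.exists_eq_two_pow_mul_odd (orderOf_pos σ).ne'
  have hτ : (σ ^ m) ^ 2 ^ a = 1 := by
    rw [← pow_mul, mul_comm, ← hom, pow_orderOf_eq_one]
  haveI : Fact (Nat.Prime 2) := ⟨Nat.prime_two⟩
  have hnd : ¬ 2 ∣ Fintype.card Ω := by
    rw [hcard]
    exact hodd.not_two_dvd_nat
  obtain ⟨y, hy⟩ := Equiv.Perm.exists_fixed_point_of_prime hnd hτ
  refine ⟨y, y.2, ?_⟩
  have h2 := hσ m y
  rw [hy, if_neg (Nat.not_even_iff_odd.mpr hm)] at h2
  rw [isConj_comm, isConj_iff]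
  exact ⟨t ^ m, h2.symm⟩

omit [Finite G] in
/-- Real classes lift through a complemented normal subgroup. -/
theorem lift_real_of_compl (N H : Subgroup G) [N.Normal] (hsup : N ⊔ H = ⊤) (hinf : N ⊓ H = ⊥)
    (x : G) (h : IsConj (x : G ⧸ N) (x : G ⧸ N)⁻¹) :
    ∃ y : G, (y : G ⧸ N) = (x : G ⧸ N) ∧ IsConj y y⁻¹ := by
  obtain ⟨c, hc⟩ := isConj_iff.mp h
  obtain ⟨t, rfl⟩ := QuotientGroup.mk_surjective c
  have hdec : ∀ g : G, ∃ n ∈ N, ∃ k ∈ H, g = n * k := by
    intro g
    have hg : g ∈ N ⊔ H := by rw [hsup]; trivial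
    rw [Subgroup.mem_sup_of_normal_left] at hg
    obtain ⟨n, hn, k, hk, rfl⟩ := hg
    exact ⟨n, hn, k, hk, rfl⟩
  obtain ⟨n1, hn1, y, hy, rfl⟩ := hdec x
  obtain ⟨n2, hn2, s, hs, rfl⟩ := hdec t
  have e1 : ((n1 * y : G) : G ⧸ N) = (y : G ⧸ N) := by
    rw [QuotientGroup.mk_mul, (QuotientGroup.eq_one_iff n1).mpr hn1, one_mul]
  have e2 : ((n2 * s : G) : G ⧸ N) = (s : G ⧸ N) := by
    rw [QuotientGroup.mk_mul, (QuotientGroup.eq_one_iff n2).mpr hn2, one_mul]
  rw [e1, e2] at hc
  refine ⟨y, e1.symm, ?_⟩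
  rw [isConj_iff]
  refine ⟨s, ?_⟩
  have h3 : ((s * y * s⁻¹ : G) : G ⧸ N) = ((y⁻¹ : G) : G ⧸ N) := by
    rw [QuotientGroup.mk_mul, QuotientGroup.mk_mul, QuotientGroup.mk_inv, QuotientGroup.mk_inv, hc]
  rw [QuotientGroup.eq] at h3
  have h4 : (s * y * s⁻¹)⁻¹ * y⁻¹ ∈ N ⊓ H :=
    ⟨h3, H.mul_mem (H.inv_mem (H.mul_mem (H.mul_mem hs hy) (H.inv_mem hs))) (H.inv_mem hy)⟩
  rw [hinf, Subgroup.mem_bot] at h4
  exact (inv_mul_eq_one.mp h4)

omit [Finite G] in
/-- A `2`-element acting nontrivially on a normal subgroup inverts a nontrivial element of it. -/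
theorem exists_real_of_two_element (M : Subgroup G) [M.Normal] (t : G) (k : ℕ)
    (ht : t ^ 2 ^ k = 1) (hnc : ∃ m ∈ M, t * m * t⁻¹ ≠ m) :
    ∃ m ∈ M, m ≠ 1 ∧ IsConj m m⁻¹ := by
  classical
  have hex : ∃ j : ℕ, ∀ m ∈ M, t ^ 2 ^ j * m * (t ^ 2 ^ j)⁻¹ = m := ⟨k, by intro m _; simp [ht]⟩
  have hj0 : Nat.find hex ≠ 0 := by
    intro h0
    have := Nat.find_spec hex
    rw [h0] at this
    obtain ⟨m, hm, hne⟩ := hnc
    apply hne
    simpa using this m hm
  obtain ⟨j, hj⟩ := Nat.exists_eq_succ_of_ne_zero hj0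
  have h1 := Nat.find_spec hex
  have h2 := Nat.find_min hex (m := j) (by omega)
  rw [hj] at h1
  push Not at h2
  obtain ⟨n, hn, hne⟩ := h2
  set s := t ^ 2 ^ j with hs
  have hs2 : t ^ 2 ^ (j + 1) = s * s := by
    rw [hs, ← pow_add, pow_succ, mul_two]
  have h3 : s * s * n * (s * s)⁻¹ = n := by
    have := h1 n hn
    rwa [Nat.succ_eq_add_one, hs2] at this
  refine ⟨n⁻¹ * (s * n * s⁻¹), M.mul_mem (M.inv_mem hn) (‹M.Normal›.conj_mem n hn s), ?_, ?_⟩
  · intro h
    apply hne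
    exact (inv_mul_eq_one.mp h).symm
  · rw [isConj_iff]
    refine ⟨s, ?_⟩
    have h4 : s * (n⁻¹ * (s * n * s⁻¹)) * s⁻¹ = (s * n * s⁻¹)⁻¹ * (s * s * n * (s * s)⁻¹) := by
      group
    rw [h4, h3]
    group

/-- If `p ∤ χ(1)` and `M ≤ P'` for a `p`-subgroup `P`, the trivial character is a constituent
of `χ|_M`. -/
theorem sum_ne_zero_of_not_dvd (p : ℕ) [Fact p.Prime] (P M : Subgroup G) (hP : IsPGroup p P)
    (hM : M ≤ ⁅P, P⁆) {χ : G → ℂ} (hχ : IsCharacter G χ) (hdeg : ¬ p ∣ charDegree χ) :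
    ∑ᶠ m : M, χ m ≠ 0 := by
  classical
  have : Fintype P := Fintype.ofFinite P
  have : Fintype M := Fintype.ofFinite M
  rw [finsum_eq_sum_of_fintype]
  have hcomm : ⁅P, P⁆ = (commutator P).map P.subtype := (Subgroup.map_subtype_commutator P).symm
  have hMP : M ≤ P := by
    rw [hcomm] at hM
    exact hM.trans (Subgroup.map_subtype_le _)
  let ι : M →* P := Subgroup.inclusion hMP
  have hιc : ∀ x : M, ι x ∈ commutator P := by
    intro x
    have hx := hM x.2
    rw [hcomm] at hx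
    obtain ⟨y, hy, hyx⟩ := hx
    have : ι x = y := Subtype.ext hyx.symm
    rw [this]; exact hy
  obtain ⟨m, hm, -⟩ := IsCharacter.eq_sum_nat (IsCharacter.restrict P hχ)
  have hd : ∀ ψ : IrrCharacter P, ((charDegree (ψ : P → ℂ) : ℕ) : ℂ) = (ψ : P → ℂ) 1 :=
    fun ψ => Cfsg.Agent.Lib.Helper82Irr.irr_charDegree_cast ψ
  have h1 : charDegree χ = ∑ ψ : IrrCharacter P, m ψ * charDegree (ψ : P → ℂ) := by
    have h2 := congrFun hm 1
    simp only [OneMemClass.coe_one, Finset.sum_apply, Pi.smul_apply, smul_eq_mul] at h2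
    rw [← Cfsg.Agent.Lib.Helper82Irr.charDegree_cast hχ] at h2
    simp only [← hd] at h2
    exact_mod_cast h2
  have h3 : ∃ ψ : IrrCharacter P, ¬ p ∣ m ψ * charDegree (ψ : P → ℂ) := by
    by_contra hcon
    push Not at hcon
    apply hdeg
    rw [h1]
    exact Finset.dvd_sum (fun ψ _ => hcon ψ)
  obtain ⟨ψ0, hψ0⟩ := h3
  have hm0 : m ψ0 ≠ 0 := by
    intro h; apply hψ0; rw [h, zero_mul]; exact dvd_zero p
  have hd0 : charDegree (ψ0 : P → ℂ) = 1 := by
    have h4 : charDegree (ψ0 : P → ℂ) ∣ Nat.card P :=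
      Cfsg.Agent.Lib.Helper4Odd.irr_degree_dvd_card ψ0 _ (hd ψ0).symm
    obtain ⟨k, hk⟩ := hP.exists_card_eq
    rw [hk, Nat.dvd_prime_pow (Fact.out : p.Prime)] at h4
    obtain ⟨j, -, hj⟩ := h4
    rcases Nat.eq_zero_or_pos j with h0 | h0
    · rw [hj, h0, pow_zero]
    · exfalso
      apply hψ0
      rw [hj]
      exact Dvd.dvd.mul_left (dvd_pow_self p h0.ne') _
  have hn : ∀ ψ : IrrCharacter P, ∃ n : ℕ, ∑ x : M, (ψ : P → ℂ) (ι x) = ((Nat.card M * n : ℕ) : ℂ) := by
    intro ψ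
    obtain ⟨n, hn⟩ := IsCharacter.classInner_nat
      (IsCharacter.comp ι (IsIrrCharacter.isCharacter ψ.2)) (IsCharacter.one (G := M))
    refine ⟨n, ?_⟩
    unfold classInner at hn
    simp only [Pi.one_apply, map_one, mul_one] at hn
    have hc : (Nat.card M : ℂ) ≠ 0 := Nat.cast_ne_zero.mpr Nat.card_pos.ne'
    push_cast
    rw [← hn, mul_inv_cancel_left₀ hc]
  choose n hn using hn
  have h5 : ∑ x : M, χ x = ((∑ ψ : IrrCharacter P, m ψ * (Nat.card M * n ψ) : ℕ) : ℂ) := by
    have h6 : ∀ x : M, χ x = ∑ ψ : IrrCharacter P, (m ψ : ℂ) * (ψ : P → ℂ) (ι x) := by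
      intro x
      have := congrFun hm (ι x)
      simp only [Finset.sum_apply, Pi.smul_apply, smul_eq_mul] at this
      exact this
    simp only [h6]
    rw [Finset.sum_comm]
    push_cast
    refine Finset.sum_congr rfl fun ψ _ => ?_
    rw [← Finset.mul_sum, hn ψ]
    push_cast
    rfl
  rw [h5]
  have h7 : n ψ0 ≠ 0 := by
    intro h0
    have h8 := hn ψ0
    have h9 : ∀ x : M, (ψ0 : P → ℂ) (ι x) = 1 := fun x =>
      Cfsg.Agent.Lib.Helper82Linear.irr_linear_eq_one_of_mem_commutator ψ0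
        (by rw [← hd ψ0, hd0]; simp) (hιc x)
    simp only [h9, h0, mul_zero, Nat.cast_zero, Finset.sum_const, Finset.card_univ, nsmul_eq_mul,
      mul_one] at h8
    have : Fintype.card M ≠ 0 := Fintype.card_ne_zero
    exact this (by exact_mod_cast h8)
  have h10 : 0 < ∑ ψ : IrrCharacter P, m ψ * (Nat.card M * n ψ) := by
    apply Finset.sum_pos'
    · intro ψ _; exact Nat.zero_le _
    · exact ⟨ψ0, Finset.mem_univ _, Nat.mul_pos (Nat.pos_of_ne_zero hm0)
        (Nat.mul_pos Nat.card_pos (Nat.pos_of_ne_zero h7))⟩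
  exact_mod_cast h10.ne'

/-- Orbit sums for a `p`-group action: an invariant integral function vanishing at the fixed
points has sum divisible by `p`. -/
theorem sum_eq_p_mul {X : Type*} [Fintype X] {P : Type*} [Group P] [Finite P] [MulAction P X]
    (p : ℕ) [Fact p.Prime] (hP : IsPGroup p P) (f : X → ℂ)
    (hz : ∀ x : X, (∀ g : P, g • x = x) → f x = 0)
    (hf : ∀ (g : P) (x : X), f (g • x) = f x) (hint : ∀ x, IsIntegral ℤ (f x)) :
    ∃ α : ℂ, IsIntegral ℤ α ∧ ∑ x, f x = p * α := by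
  classical
  let R := MulAction.orbitRel P X
  have key : ∀ q : Quotient R, ∃ β : ℂ, IsIntegral ℤ β ∧
      ∑ y ∈ Finset.univ.filter (fun y => Quotient.mk R y = q), f y = p * β := by
    intro q
    obtain ⟨a, rfl⟩ := Quotient.exists_rep q
    have h1 : ∀ y ∈ Finset.univ.filter (fun y => Quotient.mk R y = Quotient.mk R a), f y = f a := by
      intro y hy
      rw [Finset.mem_filter] at hy
      have h2 : y ∈ MulAction.orbit P a := (MulAction.orbitRel_apply).mp (Quotient.exact hy.2)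
      obtain ⟨g, rfl⟩ := h2
      exact hf g a
    rw [Finset.sum_congr rfl h1, Finset.sum_const, nsmul_eq_mul]
    by_cases hfix : ∀ g : P, g • a = a
    · exact ⟨0, isIntegral_zero, by rw [hz a hfix]; simp⟩
    · have h3 : (Finset.univ.filter (fun y => Quotient.mk R y = Quotient.mk R a)).card
          = Nat.card (MulAction.orbit P a) := by
        rw [Nat.card_eq_fintype_card, ← Set.toFinset_card]
        congr 1
        ext y
        rw [Finset.mem_filter, Set.mem_toFinset]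
        constructor
        · intro hy; exact (MulAction.orbitRel_apply).mp (Quotient.exact hy.2)
        · intro hy; exact ⟨Finset.mem_univ _, Quotient.sound ((MulAction.orbitRel_apply).mpr hy)⟩
      obtain ⟨k, hk⟩ := hP.card_orbit a
      have hk0 : k ≠ 0 := by
        intro h0
        apply hfix
        intro g
        rw [h0, pow_zero, Nat.card_eq_one_iff_unique] at hk
        have := hk.1
        have h4 : (⟨g • a, MulAction.mem_orbit a g⟩ : MulAction.orbit P a)
            = ⟨a, MulAction.mem_orbit_self a⟩ := Subsingleton.elim _ _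
        exact congrArg Subtype.val h4
      obtain ⟨j, rfl⟩ := Nat.exists_eq_succ_of_ne_zero hk0
      refine ⟨(p : ℂ) ^ j * f a, ?_, ?_⟩
      · exact ((isIntegral_algebraMap (R := ℤ) (A := ℂ) (x := (p : ℤ))).pow j |>.mul (hint a)
          |> fun h => by simpa using h)
      · rw [h3, hk, Nat.succ_eq_add_one]
        push_cast
        ring
  choose β hβ1 hβ2 using key
  refine ⟨∑ q, β q, IsIntegral.sum _ (fun q _ => hβ1 q), ?_⟩
  rw [← Finset.sum_fiberwise Finset.univ (fun y => Quotient.mk R y) f, Finset.mul_sum]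
  exact Finset.sum_congr rfl fun q _ => hβ2 q

/-- If a `p`-subgroup `P` has no nontrivial fixed point on the normal subgroup `N`, every
irreducible character not containing `N` in its kernel has degree divisible by `p`. -/
theorem dvd_degree_of_fixed_point_free (p : ℕ) [Fact p.Prime] (N P : Subgroup G) [N.Normal]
    (hP : IsPGroup p P) (hfix : ∀ n ∈ N, (∀ x ∈ P, x * n * x⁻¹ = n) → n = 1)
    {χ : G → ℂ} (hχ : IsIrrCharacter G χ) (hker : ∃ n ∈ N, χ n ≠ χ 1) : p ∣ charDegree χ := by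
  classical
  have : Fintype N := Fintype.ofFinite N
  have h0 : ∑ n : N, χ n = 0 := by
    by_contra h
    obtain ⟨n, hn, hne⟩ := hker
    apply hne
    apply ker_of_sum_ne_zero N hχ _ n hn
    rw [finsum_eq_sum_of_fintype]
    exact h
  letI act : MulAction P N := MulAction.compHom N ((MulAut.conjNormal (H := N)).comp P.subtype)
  have hsm : ∀ (g : P) (n : N), ((g • n : N) : G) = (g : G) * n * (g : G)⁻¹ := by
    intro g n
    show ((MulAut.conjNormal (g : G) n : N) : G) = _
    simp [MulAut.conjNormal_apply]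
  have hchar := IsIrrCharacter.isCharacter hχ
  obtain ⟨α, hα1, hα2⟩ := sum_eq_p_mul (X := N) (P := P) p hP
    (fun n : N => if n = 1 then 0 else χ n)
    (by
      intro n hn
      rw [if_pos]
      apply Subtype.ext
      apply hfix n n.2
      intro x hx
      rw [← hsm ⟨x, hx⟩ n, hn ⟨x, hx⟩])
    (by
      intro g n
      have h1 : g • n = 1 ↔ n = 1 := by
        constructor
        · intro h
          have h2 := congrArg Subtype.val h
          rw [hsm] at h2
          apply Subtype.ext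
          simp only [OneMemClass.coe_one] at h2 ⊢
          have h3 : (n : G) = (g : G)⁻¹ * ((g : G) * n * (g : G)⁻¹) * (g : G) := by group
          rw [h3, h2]; group
        · rintro rfl
          apply Subtype.ext
          rw [hsm]; simp
      by_cases hn : n = 1
      · rw [if_pos hn, if_pos (h1.mpr hn)]
      · rw [if_neg hn, if_neg (fun h => hn (h1.mp h)), hsm]
        exact (IsCharacter.isClassFunction hchar) _ _)
    (by
      intro n
      split_ifs
      · exact isIntegral_zero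
      · exact IsCharacter.isIntegral hchar _)
  have h1 : ∑ n : N, χ n = χ 1 + ∑ n : N, (if n = 1 then 0 else χ n) := by
    rw [← Finset.add_sum_erase Finset.univ (fun n : N => χ n) (Finset.mem_univ (1 : N))]
    rw [← Finset.add_sum_erase Finset.univ (fun n : N => if n = 1 then 0 else χ n)
      (Finset.mem_univ (1 : N))]
    simp only [OneMemClass.coe_one, if_true, zero_add]
    congr 1
    refine Finset.sum_congr rfl fun n hn => ?_
    rw [if_neg (Finset.ne_of_mem_erase hn)]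
  rw [h0, hα2] at h1
  have hp0 : (p : ℂ) ≠ 0 := Nat.cast_ne_zero.mpr (Fact.out : p.Prime).ne_zero
  apply Cfsg.Agent.Lib.Helper4Char3.dvd_of_isIntegral_div _ _ (Fact.out : p.Prime).ne_zero
  have h2 : ((charDegree χ : ℕ) : ℂ) / (p : ℂ) = -α := by
    rw [Cfsg.Agent.Lib.Helper82Irr.charDegree_cast hchar]
    field_simp
    linear_combination -h1
  rw [h2]
  exact hα1.neg

end Cfsg.Agent.Lib.Helper83Real
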