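import Mathlib
import Cfsg.Prelude.Def_Characters
import Cfsg.Agent.Lib.Helper83Char
import Cfsg.Agent.Lib.Helper83FS
import Cfsg.Agent.Lib.Helper83FS2
import Cfsg.Agent.Lib.Helper83Real
import Cfsg.Agent.Lib.Helper19Ind
import Cfsg.Agent.Lib.Helper19Cliff
import Cfsg.Agent.Lib.Helper19Det

set_option autoImplicit false

/-! Strongly real induced characters. -/

namespace Cfsg.Agent.Lib.Helper83SR

open Cfsg Cfsg.Agent.Lib.Helper83Char Cfsg.Agent.Lib.Helper83FS Cfsg.Agent.Lib.Helper83FS2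
  Cfsg.Agent.Lib.Helper4Char Cfsg.Agent.Lib.Helper4Char2 Cfsg.Agent.Lib.Helper4Char4
open scoped ComplexConjugate

section FS

variable {G : Type*} [Group G] [Fintype G]

/-- The Frobenius–Schur indicator of a linear character induced from its inertia group, when an
involution inverts it, is `1`. -/
theorem fs_ind_inverted (N : Subgroup G) [hN : N.Normal] (T : Subgroup G) (hNT : N ≤ T)
    [Fintype N] [Fintype T] (lam : N →* ℂˣ) (lt : T →* ℂˣ)
    (hres : ∀ n : N, lt (Subgroup.inclusion hNT n) = lam n)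
    (hT : ∀ g : G, g ∈ T ↔ ∀ n : N, lam (MulAut.conjNormal g n) = lam n)
    (z : G) (hz2 : z * z = 1)
    (hz : ∀ t : T, ∃ t' : T, (t' : G) = z * t * z⁻¹ ∧ lt t' = (lt t)⁻¹) :
    (Nat.card G : ℂ)⁻¹ * ∑ g : G, Cfsg.indFun T (fun t => ((lt t : ℂˣ) : ℂ)) (g * g) = 1 := by
  classical
  rw [fs_ind_eq]
  have hTc : (Nat.card T : ℂ) ≠ 0 := by exact_mod_cast Nat.card_pos.ne'
  have hNc : (Nat.card N : ℂ) ≠ 0 := by exact_mod_cast Nat.card_pos.ne'
  have hzinv : z⁻¹ = z := inv_eq_of_mul_eq_one_left hz2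
  set ψ : T → ℂ := fun t => ((lt t : ℂˣ) : ℂ) with hψ
  -- `z` inverts `lam`
  have hzlam : ∀ n : N, lam (MulAut.conjNormal z n) = (lam n)⁻¹ := by
    intro n
    obtain ⟨t', ht', hlt⟩ := hz (Subgroup.inclusion hNT n)
    have : t' = Subgroup.inclusion hNT (MulAut.conjNormal z n) := by
      apply Subtype.ext
      rw [ht']
      simp [MulAut.conjNormal_apply]
    rw [← hres, ← this, hlt, hres]
  set F : G → ℂ := fun h => if z⁻¹ * h ∈ T then 0 else Cfsg.extendByZero T ψ (h * h) with hF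
  have hfirst : ∀ t : T, Cfsg.extendByZero T ψ ((z * t) * (z * t)) = 1 := by
    intro t
    obtain ⟨t', ht', hlt⟩ := hz t
    have e : (z * (t : G)) * (z * t) = ((t' * t : T) : G) := by
      rw [Subgroup.coe_mul, ht', hzinv]
      group
    rw [e, Cfsg.Agent.Lib.Helper19Ind.extendByZero_coe]
    simp only [hψ]
    rw [map_mul, hlt, inv_mul_cancel]
    rfl
  have hsplit : ∑ h : G, Cfsg.extendByZero T ψ (h * h) = (Nat.card T : ℂ) + ∑ h : G, F h := by
    have e2 : (Nat.card T : ℂ) = ∑ t : T, Cfsg.extendByZero T ψ ((z * (t : G)) * (z * t)) := by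
      simp only [hfirst]
      rw [Finset.sum_const, Finset.card_univ, nsmul_eq_mul, mul_one, Nat.card_eq_fintype_card]
    rw [e2, sum_subgroup T (fun g => Cfsg.extendByZero T ψ ((z * g) * (z * g)))]
    rw [← Equiv.sum_comp (Equiv.mulLeft z⁻¹)
      (fun g => if g ∈ T then Cfsg.extendByZero T ψ ((z * g) * (z * g)) else 0),
      ← Finset.sum_add_distrib]
    refine Finset.sum_congr rfl fun h _ => ?_
    simp only [hF, Equiv.coe_mulLeft, mul_inv_cancel_left]
    split_ifs <;> simp
  have hinner : ∀ h : G, z⁻¹ * h ∉ T →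
      ∑ n : N, Cfsg.extendByZero T ψ ((h * n) * (h * n)) = 0 := by
    intro h hh
    have hform : ∀ n : N, (h * (n : G)) * (h * n) =
        (h * h) * ((MulAut.conjNormal h⁻¹ n : N) : G) * n := by
      intro n
      rw [MulAut.conjNormal_apply]
      group
    by_cases hI : h * h ∈ T
    · let f' : N →* ℂˣ := (lam.comp (MulAut.conjNormal h⁻¹ : N ≃* N).toMonoidHom) * lam
      have hf' : ((Units.coeHom ℂ).comp f' : N →* ℂ) ≠ 1 := by
        intro h1
        apply hh
        rw [hT]
        intro n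
        have h2 : ∀ m : N, lam (MulAut.conjNormal h⁻¹ m) * lam m = 1 := by
          intro m
          have h3 := DFunLike.congr_fun h1 m
          simp only [MonoidHom.comp_apply, MonoidHom.one_apply, Units.coeHom_apply,
            Units.val_eq_one] at h3
          exact h3
        have h4 := h2 (MulAut.conjNormal h n)
        have h5 : MulAut.conjNormal h⁻¹ (MulAut.conjNormal h n) = n := by
          rw [← MulAut.mul_apply, ← map_mul, inv_mul_cancel, map_one, MulAut.one_apply]
        rw [h5] at h4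
        rw [map_mul, MulAut.mul_apply, hzinv, hzlam]
        exact (eq_inv_of_mul_eq_one_left h4).symm ▸ rfl
      have h6 := sum_hom_units_eq_zero ((Units.coeHom ℂ).comp f') hf'
      have h7 : ∀ n : N, Cfsg.extendByZero T ψ ((h * n) * (h * n)) =
          ψ ⟨h * h, hI⟩ * ((Units.coeHom ℂ).comp f') n := by
        intro n
        have e : (h * (n : G)) * (h * n) = (((⟨h * h, hI⟩ : T) *
            Subgroup.inclusion hNT (MulAut.conjNormal h⁻¹ n) * Subgroup.inclusion hNT n : T) : G) := by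
          rw [hform]
          rfl
        rw [e, Cfsg.Agent.Lib.Helper19Ind.extendByZero_coe]
        simp only [hψ]
        rw [map_mul, map_mul, hres, hres]
        simp only [f', MonoidHom.comp_apply, Units.coeHom_apply, MonoidHom.mul_apply, Units.val_mul,
          mul_assoc]
        rfl
      simp only [h7]
      rw [← Finset.mul_sum, h6, mul_zero]
    · refine Finset.sum_eq_zero fun n _ => ?_
      apply Cfsg.Agent.Lib.Helper19Ind.extendByZero_of_not_mem
      rw [hform, mul_assoc]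
      intro h2
      apply hI
      have h3 : ((MulAut.conjNormal h⁻¹ n : N) : G) * n ∈ T :=
        T.mul_mem (hNT (MulAut.conjNormal h⁻¹ n).2) (hNT n.2)
      exact (T.mul_mem_cancel_right h3).1 h2
  have hzero : ∑ h : G, F h = 0 := by
    have h1 : ∀ n : N, ∑ h : G, F h = ∑ h : G, F (h * n) := fun n =>
      (Fintype.sum_equiv (Equiv.mulRight (n : G)) _ _ fun h => rfl).symm
    have h2 : (Nat.card N : ℂ) * ∑ h : G, F h = ∑ n : N, ∑ h : G, F (h * n) := by
      rw [← Finset.sum_congr rfl (fun n _ => h1 n), Finset.sum_const, Finset.card_univ,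
        nsmul_eq_mul, Nat.card_eq_fintype_card]
    rw [Finset.sum_comm] at h2
    have h3 : ∀ h : G, ∑ n : N, F (h * n) = 0 := by
      intro h
      by_cases hh : z⁻¹ * h ∈ T
      · refine Finset.sum_eq_zero fun n _ => ?_
        simp only [hF]
        rw [if_pos]
        rw [← mul_assoc]
        exact T.mul_mem hh (hNT n.2)
      · have h4 : ∀ n : N, F (h * n) = Cfsg.extendByZero T ψ ((h * n) * (h * n)) := by
          intro n
          simp only [hF]
          rw [if_neg]
          intro h5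
          rw [← mul_assoc] at h5
          exact hh ((T.mul_mem_cancel_right (hNT n.2)).1 h5)
        simp_rw [h4]
        exact hinner h hh
    simp_rw [h3] at h2
    rw [Finset.sum_const_zero] at h2
    exact (mul_eq_zero.1 h2).resolve_left hNc
  rw [hsplit, hzero, add_zero, inv_mul_cancel₀ hTc]

end FS

section Ind

open Cfsg.Agent.Lib.Helper19Cliff Cfsg.Agent.Lib.Helper19Lin

variable {G : Type*} [Group G] [Fintype G] (N : Subgroup G) [hN : N.Normal] (T : Subgroup G)
    (hNT : N ≤ T) [Fintype N] [Fintype T] (lam : N →* ℂˣ)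
    (hT : ∀ g : G, g ∈ T ↔ ∀ n : N, lam (MulAut.conjNormal g n) = lam n)

theorem irr_homFun {H : Type*} [Group H] (f : H →* ℂˣ) : IsIrrCharacter H (homFun f) :=
  Cfsg.Agent.Lib.Helper82Linear.isIrrCharacter_of_hom f

omit [Fintype G] [Fintype N] [Fintype T] in
theorem hc_aux (g : G) (n : N) :
    T.subtype (Subgroup.inclusion hNT (MulAut.conjNormal g n)) =
      g * T.subtype (Subgroup.inclusion hNT n) * g⁻¹ := by
  simp [MulAut.conjNormal_apply]

omit [Fintype G] [Fintype N] [Fintype T] in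
include hT in
theorem hT_aux (g : G) : g ∈ T.subtype.range ↔
    ∀ n : N, homFun lam (MulAut.conjNormal g n) = homFun lam n := by
  rw [Subgroup.range_subtype, hT]
  simp only [homFun_apply, Units.val_inj]

omit [Fintype G] [Fintype T] hN in
theorem inner_aux (μ : T →* ℂˣ) (hμ : ∀ n : N, μ (Subgroup.inclusion hNT n) = lam n) :
    classInner (fun n => homFun μ (Subgroup.inclusion hNT n)) (homFun lam) = 1 := by
  have : (fun n => homFun μ (Subgroup.inclusion hNT n)) = homFun lam := by
    funext n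
    rw [homFun_apply, homFun_apply, hμ]
  rw [this]
  exact Cfsg.Agent.Lib.Helper4Char.classInner_irr_self (irr_homFun lam)

include hT in
theorem ind_irr (μ : T →* ℂˣ) (hμ : ∀ n : N, μ (Subgroup.inclusion hNT n) = lam n) :
    IsIrrCharacter G (ind T.subtype (homFun μ)) := by
  refine ind_inertia_isIrr T.subtype T.subtype_injective (Subgroup.inclusion hNT)
    (Subgroup.inclusion_injective hNT) MulAut.conjNormal (hc_aux N T hNT)
    (irr_homFun lam) (hT_aux N T lam hT)
    (irr_homFun μ) ?_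
  rw [inner_aux N T hNT lam μ hμ]
  exact one_ne_zero

include hT in
theorem ind_res_inner (μ : T →* ℂˣ) (hμ : ∀ n : N, μ (Subgroup.inclusion hNT n) = lam n) :
    classInner (fun n : N => ind T.subtype (homFun μ) (n : G)) (homFun lam) = 1 := by
  have h := classInner_res_ind_inertia T.subtype T.subtype_injective (Subgroup.inclusion hNT)
    (Subgroup.inclusion_injective hNT) MulAut.conjNormal (hc_aux N T hNT)
    (irr_homFun lam) (hT_aux N T lam hT)
    (irr_homFun μ)
    (by rw [inner_aux N T hNT lam μ hμ]; exact one_ne_zero)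
  rw [inner_aux N T hNT lam μ hμ] at h
  exact h

include hT in
theorem ind_not_ker (hlam : lam ≠ 1) (μ : T →* ℂˣ)
    (hμ : ∀ n : N, μ (Subgroup.inclusion hNT n) = lam n) :
    ∃ n ∈ N, ind T.subtype (homFun μ) n ≠ ind T.subtype (homFun μ) 1 := by
  by_contra hcon
  push Not at hcon
  have h1 := ind_res_inner N T hNT lam hT μ hμ
  have h2 : (fun n : N => ind T.subtype (homFun μ) (n : G))
      = (ind T.subtype (homFun μ) 1) • (fun _ : N => (1 : ℂ)) := by
    funext n
    rw [hcon n n.2]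
    simp
  rw [h2, classInner_smul_left, Cfsg.Agent.Lib.Helper4Char.classInner_irr_ne
    (Cfsg.Agent.Lib.Helper82Linear.isIrrCharacter_one (G := N))
    (irr_homFun lam), mul_zero] at h1
  · exact zero_ne_one h1
  · intro h3
    apply hlam
    ext n
    have := congrFun h3 n
    simp only [MonoidHom.one_apply, Units.val_one]
    exact this.symm

include hT in
/-- Injectivity of the Clifford correspondence on linear extensions. -/
theorem ind_injective (μ μ' : T →* ℂˣ) (hμ : ∀ n : N, μ (Subgroup.inclusion hNT n) = lam n)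
    (hμ' : ∀ n : N, μ' (Subgroup.inclusion hNT n) = lam n)
    (h : ind T.subtype (homFun μ) = ind T.subtype (homFun μ')) : μ = μ' := by
  classical
  by_contra hne
  set χ := ind T.subtype (homFun μ) with hχdef
  have hχ : IsIrrCharacter G χ := ind_irr N T hNT lam hT μ hμ
  have hχc := IsIrrCharacter.isCharacter hχ
  have hirr : ∀ ν : T →* ℂˣ, IsIrrCharacter T (homFun ν) := fun ν => irr_homFun ν
  have hfr : ∀ ν : T →* ℂˣ, ind T.subtype (homFun ν) = χ →
      classInner (fun t : T => χ (T.subtype t)) (homFun ν) = 1 := by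
    intro ν hν
    have h1 := frobenius T.subtype (homFun ν) χ (IsIrrCharacter.isClassFunction hχ)
    rw [hν, Cfsg.Agent.Lib.Helper4Char.classInner_irr_self hχ] at h1
    rw [← classInner_conj_symm, ← h1, map_one]
  have h1 := ind_res_inner N T hNT lam hT μ hμ
  have h2 := classInner_res_eq_sum (Subgroup.inclusion hNT) (fun t : T => χ (T.subtype t))
    (IsCharacter.isClassFunction (IsCharacter.comp T.subtype hχc)) (homFun lam)
  have h3 : (fun n : N => (fun t : T => χ (T.subtype t)) (Subgroup.inclusion hNT n))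
      = fun n : N => χ (n : G) := rfl
  rw [h3, h1] at h2
  have hterm : ∀ ξ : IrrCharacter T, classInner (fun t : T => χ (T.subtype t)) ξ *
      classInner (fun n => (ξ : T → ℂ) (Subgroup.inclusion hNT n)) (homFun lam)
      = ((nip (fun t : T => χ (T.subtype t)) ξ *
          nip (fun n => (ξ : T → ℂ) (Subgroup.inclusion hNT n)) (homFun lam) : ℕ) : ℂ) := by
    intro ξ
    rw [nip_spec (IsCharacter.comp T.subtype hχc) (IsIrrCharacter.isCharacter ξ.2),
      nip_spec (IsCharacter.comp (Subgroup.inclusion hNT) (IsIrrCharacter.isCharacter ξ.2))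
        (IsIrrCharacter.isCharacter (irr_homFun lam))]
    push_cast
    rfl
  simp only [hterm] at h2
  have h4 : 1 = ∑ ξ : IrrCharacter T, nip (fun t : T => χ (T.subtype t)) ξ *
      nip (fun n => (ξ : T → ℂ) (Subgroup.inclusion hNT n)) (homFun lam) := by
    exact_mod_cast h2
  have hone : ∀ ν : T →* ℂˣ, (∀ n : N, ν (Subgroup.inclusion hNT n) = lam n) →
      ind T.subtype (homFun ν) = χ →
      nip (fun t : T => χ (T.subtype t)) ((⟨homFun ν, hirr ν⟩ : IrrCharacter T) : T → ℂ) *
      nip (fun n => ((⟨homFun ν, hirr ν⟩ : IrrCharacter T) : T → ℂ) (Subgroup.inclusion hNT n))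
        (homFun lam) = 1 := by
    intro ν hν1 hν2
    have h5 := hterm ⟨homFun ν, hirr ν⟩
    rw [hfr ν hν2, inner_aux N T hNT lam ν hν1, one_mul] at h5
    exact_mod_cast h5.symm
  have hne' : (⟨homFun μ, hirr μ⟩ : IrrCharacter T) ≠ ⟨homFun μ', hirr μ'⟩ := by
    intro h5
    exact hne (homFun_injective (congrArg Subtype.val h5))
  have h6 := Finset.sum_le_sum_of_subset (f := fun ξ : IrrCharacter T =>
      nip (fun t : T => χ (T.subtype t)) ξ *
      nip (fun n => (ξ : T → ℂ) (Subgroup.inclusion hNT n)) (homFun lam))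
    (Finset.subset_univ ({⟨homFun μ, hirr μ⟩, ⟨homFun μ', hirr μ'⟩} : Finset (IrrCharacter T)))
  rw [Finset.sum_pair hne', hone μ hμ rfl, hone μ' hμ' h.symm, ← h4] at h6
  omega

omit hN [Fintype N] in
theorem ind_one (μ : T →* ℂˣ) :
    ind T.subtype (homFun μ) 1 = (Nat.card T : ℂ)⁻¹ * (Nat.card G : ℂ) := by
  classical
  rw [ind_apply]
  congr 1
  have : ∀ x : G, (∑ n : T, if T.subtype n = x⁻¹ * 1 * x then homFun μ n else 0) = 1 := by
    intro x
    rw [Finset.sum_eq_single (1 : T)]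
    · simp [homFun_apply]
    · intro n _ hn
      rw [if_neg]
      intro h
      apply hn
      apply Subtype.ext
      simpa using h
    · intro h; exact absurd (Finset.mem_univ _) h
  simp only [this]
  rw [Finset.sum_const, Finset.card_univ, nsmul_eq_mul, mul_one, Nat.card_eq_fintype_card]

omit hN [Fintype N] in
/-- At most `|G:T|` linear characters have a given restriction to `T`. -/
theorem card_le_of_res (μ : T →* ℂˣ) (𝒦 : Finset (IrrCharacter G))
    (h𝒦 : ∀ κ ∈ 𝒦, (κ : G → ℂ) 1 = 1 ∧ ∀ t : T, (κ : G → ℂ) t = homFun μ t) (d : ℕ)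
    (hd : ind T.subtype (homFun μ) 1 = d) : 𝒦.card ≤ d := by
  classical
  have hc := ind_isCharacter T.subtype
    (IsIrrCharacter.isCharacter (irr_homFun μ))
  obtain ⟨m, hm1, hm2⟩ := IsCharacter.eq_sum_nat hc
  have h1 : ∀ κ ∈ 𝒦, m κ = 1 := by
    intro κ hκ
    have h2 := hm2 κ
    rw [frobenius T.subtype _ _ (IsIrrCharacter.isClassFunction κ.2)] at h2
    have h3 : (fun t : T => (κ : G → ℂ) (T.subtype t)) = homFun μ := funext (h𝒦 κ hκ).2
    rw [h3, Cfsg.Agent.Lib.Helper4Char.classInner_irr_self (irr_homFun μ)] at h2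
    exact_mod_cast h2.symm
  have h4 := congrFun hm1 1
  simp only [Finset.sum_apply, Pi.smul_apply, smul_eq_mul] at h4
  rw [hd] at h4
  have h5 : ∀ χ : IrrCharacter G, (χ : G → ℂ) 1 = ((charDegree (χ : G → ℂ) : ℕ) : ℂ) := fun χ =>
    (Cfsg.Agent.Lib.Helper82Irr.irr_charDegree_cast χ).symm
  simp only [h5] at h4
  have h6 : d = ∑ χ : IrrCharacter G, m χ * charDegree (χ : G → ℂ) := by exact_mod_cast h4
  rw [h6]
  calc 𝒦.card = ∑ κ ∈ 𝒦, 1 := by simp
    _ = ∑ κ ∈ 𝒦, m κ * charDegree (κ : G → ℂ) := by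
        refine Finset.sum_congr rfl fun κ hκ => ?_
        rw [h1 κ hκ, one_mul]
        have := h5 κ
        rw [(h𝒦 κ hκ).1] at this
        exact_mod_cast this
    _ ≤ ∑ χ : IrrCharacter G, m χ * charDegree (χ : G → ℂ) :=
        Finset.sum_le_sum_of_subset (Finset.subset_univ _)

end Ind

section Data

variable {G : Type*} [Group G] [Finite G]

/-- The projection onto a complement. -/
theorem exists_proj (N P : Subgroup G) [hN : N.Normal] (hdisj : N ⊓ P = ⊥) (hprod : N ⊔ P = ⊤) :
    ∃ π : G →* G, (∀ g, π g ∈ P) ∧ (∀ g, g * (π g)⁻¹ ∈ N) ∧ (∀ u ∈ P, π u = u) ∧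
      (∀ n ∈ N, π n = 1) := by
  have hinj : Function.Injective ((QuotientGroup.mk' N).comp P.subtype) := by
    rw [injective_iff_map_eq_one]
    intro u hu
    rw [MonoidHom.comp_apply, QuotientGroup.mk'_apply, QuotientGroup.eq_one_iff] at hu
    have : (u : G) ∈ N ⊓ P := ⟨hu, u.2⟩
    rw [hdisj, Subgroup.mem_bot] at this
    exact Subtype.ext this
  have hsurj : Function.Surjective ((QuotientGroup.mk' N).comp P.subtype) := by
    intro x
    obtain ⟨g, rfl⟩ := QuotientGroup.mk_surjective x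
    have hg : g ∈ N ⊔ P := by rw [hprod]; trivial
    rw [Subgroup.mem_sup_of_normal_left] at hg
    obtain ⟨n, hn, u, hu, rfl⟩ := hg
    refine ⟨⟨u, hu⟩, ?_⟩
    rw [MonoidHom.comp_apply, QuotientGroup.mk'_apply, QuotientGroup.mk_mul,
      (QuotientGroup.eq_one_iff n).mpr hn, one_mul]
    rfl
  let e : P ≃* G ⧸ N := MulEquiv.ofBijective _ ⟨hinj, hsurj⟩
  have he : ∀ u : P, e u = ((u : G) : G ⧸ N) := fun u => rfl
  let π : G →* G := P.subtype.comp (e.symm.toMonoidHom.comp (QuotientGroup.mk' N))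
  have hπ : ∀ g, π g = ((e.symm (g : G ⧸ N) : P) : G) := fun g => rfl
  have hmk : ∀ g, ((π g : G) : G ⧸ N) = (g : G ⧸ N) := by
    intro g
    rw [hπ, ← he, MulEquiv.apply_symm_apply]
  refine ⟨π, fun g => by rw [hπ]; exact (e.symm _).2, ?_, ?_, ?_⟩
  · intro g
    have h1 := hmk g
    rw [QuotientGroup.eq] at h1
    have h2 : g * (π g)⁻¹ = π g * ((π g)⁻¹ * g) * (π g)⁻¹ := by group
    rw [h2]
    exact hN.conj_mem _ h1 _
  · intro u hu
    rw [hπ]
    have : e.symm ((u : G) : G ⧸ N) = ⟨u, hu⟩ := by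
      rw [MulEquiv.symm_apply_eq, he]
    rw [this]
  · intro n hn
    rw [hπ, (QuotientGroup.eq_one_iff n).mpr hn, map_one]
    rfl

theorem exists_data (N P : Subgroup G) [hN : N.Normal] (hcomm : ∀ a ∈ N, ∀ b ∈ N, a * b = b * a)
    (hP : IsPGroup 2 P) (hP1 : P ≠ ⊥) (hdisj : N ⊓ P = ⊥) (hprod : N ⊔ P = ⊤)
    (hmin : N ≠ ⊥ ∧ ∀ M : Subgroup G, M.Normal → M ≠ ⊥ → N ≤ M) :
    ∃ (T : Subgroup G) (hNT : N ≤ T) (lam : N →* ℂˣ) (lt : T →* ℂˣ) (z : G),
      lam ≠ 1 ∧ (∀ n : N, lt (Subgroup.inclusion hNT n) = lam n) ∧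
      (∀ g : G, g ∈ T ↔ ∀ n : N, lam (MulAut.conjNormal g n) = lam n) ∧ z * z = 1 ∧
      (∀ t : T, ∃ t' : T, (t' : G) = z * t * z⁻¹ ∧ lt t' = (lt t)⁻¹) ∧
      (∀ n ∈ N, (∀ x ∈ P, x * n * x⁻¹ = n) → n = 1) := by
  classical
  obtain ⟨π, hπP, hπN, hπu, hπn⟩ := exists_proj N P hdisj hprod
  -- the central involution
  have hnt : Nontrivial P := (Subgroup.nontrivial_iff_ne_bot P).mpr hP1
  have hcnt := hP.center_nontrivial
  have h2 : 2 ∣ Nat.card (Subgroup.center P) := by
    obtain ⟨k, hk⟩ := (hP.to_subgroup (Subgroup.center P)).exists_card_eq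
    have h1 : 1 < Nat.card (Subgroup.center P) := Finite.one_lt_card
    rw [hk] at h1 ⊢
    rcases Nat.eq_zero_or_pos k with h0 | h0
    · rw [h0, pow_zero] at h1; omega
    · exact dvd_pow_self 2 h0.ne'
  haveI : Fact (Nat.Prime 2) := ⟨Nat.prime_two⟩
  obtain ⟨z0, hz0⟩ := exists_prime_orderOf_dvd_card' 2 h2
  set z : G := ((z0 : P) : G) with hzdef
  have hzP : z ∈ P := (z0 : P).2
  have hz2 : z * z = 1 := by
    have h1 := pow_orderOf_eq_one z0
    rw [hz0, pow_two] at h1
    have h3 := congrArg (fun x : Subgroup.center P => ((x : P) : G)) h1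
    simpa using h3
  have hz1 : z ≠ 1 := by
    intro h1
    have h3 : z0 = 1 := Subtype.ext (Subtype.ext h1)
    rw [h3, orderOf_one] at hz0
    omega
  have hzc : ∀ u ∈ P, u * z = z * u := by
    intro u hu
    have h1 := (Subgroup.mem_center_iff.mp z0.2) ⟨u, hu⟩
    exact congrArg Subtype.val h1
  have hzinv : z⁻¹ = z := inv_eq_of_mul_eq_one_left hz2
  have hdec : ∀ g : G, ∃ n ∈ N, ∃ u ∈ P, g = n * u := by
    intro g
    refine ⟨g * (π g)⁻¹, hπN g, π g, hπP g, by group⟩
  have hnormal_of : ∀ M : Subgroup G, (∀ n ∈ N, ∀ m ∈ M, n * m * n⁻¹ ∈ M) →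
      (∀ x ∈ P, ∀ m ∈ M, x * m * x⁻¹ ∈ M) → M.Normal := by
    intro M h1 h2
    refine ⟨fun m hm g => ?_⟩
    obtain ⟨n, hn, x, hx, rfl⟩ := hdec g
    have : n * x * m * (n * x)⁻¹ = n * (x * m * x⁻¹) * n⁻¹ := by group
    rw [this]
    exact h1 n hn _ (h2 x hx m hm)
  -- `C_N(z) = 1`
  have hCn : (N ⊓ Subgroup.centralizer ({z} : Set G)).Normal := by
    apply hnormal_of
    · intro n hn m hm
      have h1 : n * m = m * n := hcomm n hn m hm.1
      have h3 : n * m * n⁻¹ = m := by rw [h1]; group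
      rw [h3]; exact hm
    · intro x hx m hm
      refine Subgroup.mem_inf.mpr ⟨hN.conj_mem m hm.1 x, ?_⟩
      rw [Subgroup.mem_centralizer_singleton_iff]
      have h1 := Subgroup.mem_centralizer_singleton_iff.mp hm.2
      have h3 := hzc x hx
      have h4 : x⁻¹ * z = z * x⁻¹ := by
        have := hzc x⁻¹ (P.inv_mem hx)
        exact this
      calc x * m * x⁻¹ * z = x * m * (x⁻¹ * z) := by group
        _ = x * (m * z) * x⁻¹ := by rw [h4]; group
        _ = (x * z) * m * x⁻¹ := by rw [h1]; group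
        _ = z * (x * m * x⁻¹) := by rw [h3]; group
  have hC : N ⊓ Subgroup.centralizer ({z} : Set G) = ⊥ := by
    by_contra hne
    have h1 := hmin.2 _ hCn hne
    have hzN : ∀ n ∈ N, n * z = z * n := fun n hn =>
      Subgroup.mem_centralizer_singleton_iff.mp (h1 hn).2
    have hZn : (Subgroup.zpowers z).Normal := by
      refine ⟨fun m hm g => ?_⟩
      have hgz : g * z = z * g := by
        obtain ⟨n, hn, u, hu, rfl⟩ := hdec g
        rw [mul_assoc, hzc u hu, ← mul_assoc, hzN n hn, mul_assoc]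
      obtain ⟨k, rfl⟩ := Subgroup.mem_zpowers_iff.mp hm
      have : g * z ^ k * g⁻¹ = z ^ k := by
        have hc : Commute g z := hgz
        rw [(hc.zpow_right k).eq]; group
      rw [this]
      exact Subgroup.zpow_mem_zpowers z k
    have h3 : Subgroup.zpowers z ≠ ⊥ := by
      rw [Ne, Subgroup.zpowers_eq_bot]; exact hz1
    have h4 := hmin.2 _ hZn h3
    have h5 : N ≤ N ⊓ P := le_inf le_rfl (h4.trans ((Subgroup.zpowers_le).mpr hzP))
    rw [hdisj, le_bot_iff] at h5
    exact hmin.1 h5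
  have hfixz : ∀ n ∈ N, z * n * z⁻¹ = n → n = 1 := by
    intro n hn h1
    have h3 : n ∈ N ⊓ Subgroup.centralizer ({z} : Set G) := by
      refine Subgroup.mem_inf.mpr ⟨hn, ?_⟩
      rw [Subgroup.mem_centralizer_singleton_iff]
      rw [mul_inv_eq_iff_eq_mul] at h1
      exact h1.symm
    rwa [hC, Subgroup.mem_bot] at h3
  have hinvz : ∀ n ∈ N, z * n * z⁻¹ = n⁻¹ := by
    intro n hn
    have hn' : z * n * z⁻¹ ∈ N := hN.conj_mem n hn z
    have h1 : n * (z * n * z⁻¹) = 1 := by
      apply hfixz _ (N.mul_mem hn hn')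
      have e : z * (n * (z * n * z⁻¹)) * z⁻¹ = (z * n * z⁻¹) * ((z * z) * n * (z * z)⁻¹) := by group
      rw [e, hz2]
      simp only [one_mul, inv_one, mul_one]
      exact hcomm _ hn' _ hn
    exact (eq_inv_of_mul_eq_one_right h1)
  -- the linear character
  obtain ⟨n0, hn0, hn01⟩ : ∃ n ∈ N, n ≠ 1 := by
    by_contra hcon
    push Not at hcon
    exact hmin.1 ((Subgroup.eq_bot_iff_forall N).mpr hcon)
  obtain ⟨lam, hlam⟩ : ∃ lam : N →* ℂˣ, lam ⟨n0, hn0⟩ ≠ 1 := by
    let _ : CommGroup N := { (inferInstance : Group N) with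
      mul_comm := fun a b => Subtype.ext (hcomm a a.2 b b.2) }
    exact CommGroup.exists_apply_ne_one_of_hasEnoughRootsOfUnity N ℂ
      (fun h => hn01 (congrArg Subtype.val h))
  have hlam1 : lam ≠ 1 := fun h => hlam (by rw [h]; rfl)
  let T : Subgroup G :=
    { carrier := {g | ∀ n : N, lam (MulAut.conjNormal g n) = lam n}
      mul_mem' := by
        intro a b ha hb n
        rw [map_mul, MulAut.mul_apply, ha, hb]
      one_mem' := by intro n; rw [map_one, MulAut.one_apply]
      inv_mem' := by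
        intro a ha n
        have h1 := ha (MulAut.conjNormal a⁻¹ n)
        rw [← MulAut.mul_apply, ← map_mul, mul_inv_cancel, map_one, MulAut.one_apply] at h1
        exact h1.symm }
  have hTmem : ∀ g : G, g ∈ T ↔ ∀ n : N, lam (MulAut.conjNormal g n) = lam n := fun g => Iff.rfl
  have hNT : N ≤ T := by
    intro m hm n
    congr 1
    apply Subtype.ext
    rw [MulAut.conjNormal_apply, hcomm m hm n n.2]
    group
  have hzlam : ∀ n : N, lam (MulAut.conjNormal z n) = (lam n)⁻¹ := by
    intro n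
    rw [← map_inv]
    congr 1
    apply Subtype.ext
    rw [MulAut.conjNormal_apply, hinvz n n.2]
    rfl
  have hπT : ∀ t ∈ T, π t ∈ T := by
    intro t ht
    have e : π t = (t * (π t)⁻¹)⁻¹ * t := by group
    rw [e]
    exact T.mul_mem (T.inv_mem (hNT (hπN t))) ht
  let lt : T →* ℂˣ := MonoidHom.mk' (fun t => lam ⟨(t : G) * (π t)⁻¹, hπN t⟩) (by
    intro a b
    have h1 := hπT a a.2 ⟨(b : G) * (π b)⁻¹, hπN b⟩
    rw [← h1, ← map_mul]
    congr 1
    apply Subtype.ext
    show (a : G) * (b : G) * (π ((a : G) * (b : G)))⁻¹ = ((a : G) * (π a)⁻¹) *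
      ((MulAut.conjNormal (π (a : G)) (⟨(b : G) * (π b)⁻¹, hπN b⟩ : N) : N) : G)
    rw [MulAut.conjNormal_apply, map_mul]
    group)
  have hlt : ∀ t : T, lt t = lam ⟨(t : G) * (π t)⁻¹, hπN t⟩ := fun t => rfl
  refine ⟨T, hNT, lam, lt, z, hlam1, ?_, hTmem, hz2, ?_, ?_⟩
  · intro n
    rw [hlt]
    congr 1
    apply Subtype.ext
    simp only [Subgroup.coe_inclusion]
    rw [hπn n n.2]
    group
  · intro t
    have htz : z * t * z⁻¹ ∈ T := by
      intro n
      rw [map_mul, map_mul, MulAut.mul_apply, MulAut.mul_apply, hzlam, t.2, hzinv, hzlam, inv_inv]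
    refine ⟨⟨z * t * z⁻¹, htz⟩, rfl, ?_⟩
    rw [hlt, hlt, ← hzlam]
    congr 1
    apply Subtype.ext
    rw [MulAut.conjNormal_apply]
    simp only [map_mul, map_inv]
    rw [hπu z hzP]
    have h1 := hzc (π t) (hπP t)
    have h3 : z * π (t : G) * z⁻¹ = π (t : G) := by rw [← h1]; group
    rw [h3]
    have h4 : (π (t : G))⁻¹ * z⁻¹ = z⁻¹ * (π (t : G))⁻¹ := by
      rw [← mul_inv_rev, ← mul_inv_rev, h1]
    calc z * (t : G) * z⁻¹ * (π (t : G))⁻¹ = z * (t : G) * (z⁻¹ * (π (t : G))⁻¹) := by group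
      _ = z * ((t : G) * (π (t : G))⁻¹) * z⁻¹ := by rw [← h4]; group
  · intro n hn hx
    exact hfixz n hn (hx z hzP)

end Data

end Cfsg.Agent.Lib.Helper83SR
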