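import Mathlib
import Cfsg.Agent.Lib.Helper70SzDegArithM
import Cfsg.Agent.Lib.Helper70SzDegArithS

set_option autoImplicit false

namespace Cfsg.Agent.Lib.Helper84SzDegArithMain

open Cfsg.Agent.Lib.Helper70SzDegArithM Cfsg.Agent.Lib.Helper70SzDegArithS

theorem onT (q d e mm bb : ℕ) (hd : 2 * d ^ 2 = q) (he : q = e + 1) (hd2 : 2 ≤ d) (hm : mm ≤ 1)
    (h : q ^ 2 + 1 = e * (d * bb) + e * mm + 2) : mm = 1 ∧ bb = 2 * d := by
  have he0 : 0 < e := by nlinarith
  have h1 : e * (d * bb + mm) = e * (e + 2) := by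
    subst he; nlinarith [h]
  have h2 : d * bb + mm = e + 2 := Nat.eq_of_mul_eq_mul_left he0 h1
  have h3 : d * bb + mm = 2 * d ^ 2 + 1 := by omega
  interval_cases mm
  · exfalso
    have h4 : d ∣ 2 * d ^ 2 + 1 := ⟨bb, by omega⟩
    have h5 : d ∣ 2 * d ^ 2 := ⟨2 * d, by ring⟩
    have h6 : d ∣ 1 := (Nat.dvd_add_right h5).1 h4
    have := Nat.le_of_dvd one_pos h6
    omega
  · refine ⟨rfl, ?_⟩
    have h4 : d * bb = d * (2 * d) := by nlinarith
    exact Nat.eq_of_mul_eq_mul_left (by omega) h4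

theorem cop_q (q n M : ℕ) (hn : q = 2 ^ n) (hM : Odd M) : Nat.Coprime M (q ^ 2) := by
  rw [hn]
  exact Nat.Coprime.pow_right _ (Nat.Coprime.pow_right _ (Nat.coprime_two_right.2 hM))

theorem onA (q d e n bb dg : ℕ) (hn : q = 2 ^ n) (hd : 2 * d ^ 2 = q) (he : q = e + 1)
    (hd2 : 2 ≤ d) (hev : 2 ∣ d) (hdg : dg = e * (d * bb) + e * 1 + 0)
    (hdv : dg ∣ (q ^ 2 + 1) * q ^ 2 * e) :
    ((bb : ℤ) - 2 * d) ^ 2 = 4 ∨ 9 ≤ ((bb : ℤ) - 2 * d) ^ 2 := by
  have he0 : 0 < e := by nlinarith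
  have h1 : (d * bb + 1) * e ∣ ((q ^ 2 + 1) * q ^ 2) * e := by
    have : dg = (d * bb + 1) * e := by rw [hdg]; ring
    rwa [this] at hdv
  have h2 := Nat.dvd_of_mul_dvd_mul_right he0 h1
  have hodd : Odd (d * bb + 1) := by
    obtain ⟨k, rfl⟩ := hev
    exact ⟨k * bb, by ring⟩
  have h3 : d * bb + 1 ∣ q ^ 2 + 1 := (cop_q q n _ hn hodd).dvd_of_dvd_mul_right h2
  have h4 : ((d * bb + 1 : ℕ) : ℤ) ∣ ((q ^ 2 + 1 : ℕ) : ℤ) := Int.natCast_dvd_natCast.2 h3
  have e1 : 2 * (d : ℤ) ^ 2 + 1 + d * ((bb : ℤ) - 2 * d) = ((d * bb + 1 : ℕ) : ℤ) := by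
    push_cast; ring
  have e2 : (2 * (d : ℤ) ^ 2) ^ 2 + 1 = ((q ^ 2 + 1 : ℕ) : ℤ) := by
    rw [← hd]; push_cast; ring
  exact arithM d hd2 _ (by rw [e1]; positivity) (by rw [e1, e2]; exact h4)

theorem onS (q d e n bb dg : ℕ) (hn : q = 2 ^ n) (hd : 2 * d ^ 2 = q) (he : q = e + 1)
    (hd2 : 2 ≤ d) (hdg : dg = e * (d * bb) + e * 1 + 1)
    (hdv : dg ∣ (q ^ 2 + 1) * q ^ 2 * e) (h1 : ((bb : ℤ) - 2 * d) ^ 2 = 1) : False := by
  have hcop : Nat.Coprime dg e := by
    have : dg = 1 + e * (d * bb + 1) := by rw [hdg]; ring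
    rw [this]
    simp
  have hq4 : q ^ 2 + 1 = 4 * d ^ 4 + 1 := by rw [← hd]; ring
  have key : ∀ A : ℕ, Odd A → A ∣ dg → A ∣ 4 * d ^ 4 + 1 := by
    intro A hA hAd
    have h2 := hAd.trans hdv
    have h3 := (hcop.coprime_dvd_left hAd).dvd_of_dvd_mul_right h2
    have h4 := (cop_q q n _ hn hA).dvd_of_dvd_mul_right h3
    rwa [hq4] at h4
  have hd3 : 1 ≤ d ^ 2 := Nat.one_le_pow _ _ (by omega)
  have hd4 : 2 * d ^ 2 ≤ 4 * d ^ 3 := by nlinarith [hd3]
  have he2 : e + 1 = 2 * d ^ 2 := by omega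
  have h2 : (bb : ℤ) - 2 * d = 1 ∨ (bb : ℤ) - 2 * d = -1 := by
    have : ((bb : ℤ) - 2 * d - 1) * ((bb : ℤ) - 2 * d + 1) = 0 := by linear_combination h1
    rcases mul_eq_zero.1 this with h | h
    · left; linarith
    · right; linarith
  rcases h2 with h | h
  · have hb : bb = 2 * d + 1 := by omega
    apply (arithS d hd2).1
    apply key
    · exact ⟨2 * d ^ 3 + d ^ 2 - 1, by omega⟩
    · refine ⟨d, ?_⟩
      obtain ⟨A, hA⟩ : ∃ A, A + 1 = 4 * d ^ 3 + 2 * d ^ 2 := ⟨4 * d ^ 3 + 2 * d ^ 2 - 1, by omega⟩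
      have hA' : 4 * d ^ 3 + 2 * d ^ 2 - 1 = A := by omega
      rw [hA', hdg, hb]
      zify at hA he2 ⊢
      have e1 : (e : ℤ) = 2 * d ^ 2 - 1 := by linarith
      have e2 : (A : ℤ) = 4 * d ^ 3 + 2 * d ^ 2 - 1 := by linarith
      rw [e1, e2]; ring
  · have hb : bb + 1 = 2 * d := by omega
    apply (arithS d hd2).2
    apply key
    · exact ⟨2 * d ^ 3 - d ^ 2, by omega⟩
    · refine ⟨d, ?_⟩
      obtain ⟨A, hA⟩ : ∃ A, A + 2 * d ^ 2 = 4 * d ^ 3 + 1 := ⟨4 * d ^ 3 - 2 * d ^ 2 + 1, by omega⟩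
      have hA' : 4 * d ^ 3 - 2 * d ^ 2 + 1 = A := by omega
      rw [hA', hdg]
      zify at hA he2 hb ⊢
      have e1 : (e : ℤ) = 2 * d ^ 2 - 1 := by linarith
      have e2 : (A : ℤ) = 4 * d ^ 3 - 2 * d ^ 2 + 1 := by linarith
      have e3 : (bb : ℤ) = 2 * d - 1 := by linarith
      rw [e1, e2, e3]; ring

set_option maxHeartbeats 1600000 in
theorem arithMain {X : Type*} [Fintype X] [DecidableEq X] (q d : ℕ) (hq : 4 ≤ q)
    (hq2 : ∃ n : ℕ, q = 2 ^ n) (hd : 2 * d ^ 2 = q) (x₁ xs : X) (T : Finset X)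
    (m b l deg : X → ℕ) (hm1 : m x₁ = 0) (hm : ∀ x, m x ≤ 1) (hmm : ∑ x, m x ^ 2 = q)
    (hBB : ∑ x, (d * b x) ^ 2 = q + q ^ 2 * (q - 1)) (hmB : ∑ x, m x * (d * b x) = q * (q - 1))
    (hTc : T.card = q / 2 - 1) (hT : ∀ x ∈ T, l x = 2 ∧ deg x = q ^ 2 + 1)
    (h1T : x₁ ∉ T) (hsT : xs ∉ T) (hs1 : xs ≠ x₁) (hl1 : l x₁ = 1) (hls : l xs = 1)
    (hl0 : ∀ x, x ∉ T → x ≠ x₁ → x ≠ xs → l x = 0)
    (hdeg : ∀ x, deg x = (q - 1) * (d * b x) + (q - 1) * m x + l x)
    (hdvd : ∀ x, deg x ∣ (q ^ 2 + 1) * q ^ 2 * (q - 1)) (hdeg1 : deg x₁ = 1) :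
    Set.range deg = {1, q ^ 2, q ^ 2 + 1, (q - 1) * (q + 1 + 2 * d), (q - 1) * (q + 1 - 2 * d),
      (q - 1) * d} := by
  obtain ⟨n, hn⟩ := hq2
  obtain ⟨e, he⟩ : ∃ e, q = e + 1 := ⟨q - 1, by omega⟩
  have he' : q - 1 = e := by omega
  rw [he'] at hBB hmB hdvd
  simp only [he'] at hdeg
  rw [he']
  have hd2 : 2 ≤ d := by
    by_contra h
    have : d ≤ 1 := by omega
    have : d ^ 2 ≤ 1 := by nlinarith
    omega
  have he0 : 0 < e := by omega
  have hev : 2 ∣ d := by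
    have hn2 : 2 ≤ n := by
      by_contra h
      have : n ≤ 1 := by omega
      have : 2 ^ n ≤ 2 ^ 1 := Nat.pow_le_pow_right (by norm_num) this
      omega
    obtain ⟨k, rfl⟩ : ∃ k, n = k + 2 := ⟨n - 2, by omega⟩
    have h1 : d ^ 2 = 2 * 2 ^ k := by
      have : 2 ^ (k + 2) = 2 * (2 * 2 ^ k) := by ring
      omega
    exact Nat.Prime.dvd_of_dvd_pow Nat.prime_two ⟨_, h1⟩
  -- pointwise facts
  have P1 : ∀ x ∈ T, m x = 1 ∧ b x = 2 * d := by
    intro x hx
    have h1 := hdeg x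
    rw [(hT x hx).1, (hT x hx).2] at h1
    exact onT q d e _ _ hd he hd2 (hm x) h1
  have P2 : ∀ x, x ∉ T → x ≠ xs → m x = 1 →
      ((b x : ℤ) - 2 * d) ^ 2 = 4 ∨ 9 ≤ ((b x : ℤ) - 2 * d) ^ 2 := by
    intro x hxT hxs hmx
    have hx1 : x ≠ x₁ := by rintro rfl; omega
    have h1 := hdeg x
    rw [hl0 x hxT hx1 hxs, hmx] at h1
    exact onA q d e n _ _ hn hd he hd2 hev h1 (hdvd x)
  have P3 : b x₁ = 0 := by
    have h1 := hdeg x₁
    rw [hdeg1, hl1, hm1] at h1
    have h2 : e * (d * b x₁) = 0 := by omega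
    rcases Nat.mul_eq_zero.1 h2 with h | h
    · omega
    · rcases Nat.mul_eq_zero.1 h with h | h
      · omega
      · exact h
  -- the sums
  obtain ⟨D, hD⟩ : ∃ D : ℤ, D = (d : ℤ) := ⟨_, rfl⟩
  have hD2 : 2 ≤ D := by rw [hD]; exact_mod_cast hd2
  have hqD : (q : ℤ) = 2 * D ^ 2 := by rw [hD, ← hd]; push_cast; ring
  have heD : (e : ℤ) = 2 * D ^ 2 - 1 := by
    have : (q : ℤ) = e + 1 := by exact_mod_cast he
    linarith
  have hmsq : ∀ x, (m x : ℤ) ^ 2 = m x := by
    intro x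
    have := hm x
    interval_cases (m x) <;> simp
  have S1 : ∑ x, (m x : ℤ) = 2 * D ^ 2 := by
    have := congrArg (Nat.cast : ℕ → ℤ) hmm
    push_cast at this
    rw [← hqD, ← this]
    exact Finset.sum_congr rfl (fun x _ => (hmsq x).symm)
  have S2 : ∑ x, (b x : ℤ) ^ 2 = 2 + 4 * D ^ 2 * (2 * D ^ 2 - 1) := by
    have := congrArg (Nat.cast : ℕ → ℤ) hBB
    push_cast at this
    simp_rw [mul_pow, ← Finset.mul_sum] at this
    rw [hqD, heD, ← hD] at this
    have hD0 : D ^ 2 ≠ 0 := by positivity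
    apply mul_left_cancel₀ hD0
    rw [this]; ring
  have S3 : ∑ x, (m x : ℤ) * b x = 2 * D * (2 * D ^ 2 - 1) := by
    have := congrArg (Nat.cast : ℕ → ℤ) hmB
    push_cast at this
    have h2 : ∑ x, (m x : ℤ) * ((d : ℤ) * b x) = D * ∑ x, (m x : ℤ) * b x := by
      rw [Finset.mul_sum]
      exact Finset.sum_congr rfl (fun x _ => by rw [hD]; ring)
    rw [h2, hqD, heD] at this
    have hD0 : D ≠ 0 := by positivity
    apply mul_left_cancel₀ hD0
    rw [this]; ring
  have SC : ∑ x, ((b x : ℤ) - m x * (2 * D)) ^ 2 = 4 * D ^ 2 + 2 := by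
    have h1 : ∀ x, ((b x : ℤ) - m x * (2 * D)) ^ 2
        = (b x : ℤ) ^ 2 - 4 * D * ((m x : ℤ) * b x) + 4 * D ^ 2 * (m x : ℤ) := by
      intro x
      linear_combination (4 * D ^ 2) * hmsq x
    simp_rw [h1]
    rw [Finset.sum_add_distrib, Finset.sum_sub_distrib, ← Finset.mul_sum, ← Finset.mul_sum,
      S1, S2, S3]
    ring
  have ST : ∑ x, (if x ∈ T then (1 : ℤ) else 0) = D ^ 2 - 1 := by
    rw [Finset.sum_ite_mem, Finset.univ_inter, Finset.sum_const, hTc]
    have h1 : q / 2 = d ^ 2 := by omega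
    have h2 : 1 ≤ d ^ 2 := Nat.one_le_pow _ _ (by omega)
    rw [h1, hD]
    simp [Nat.cast_sub h2]
  have SS : ∀ c : ℤ, ∑ x, (if x = xs then c else 0) = c := by
    intro c
    rw [Finset.sum_ite_eq' Finset.univ xs (fun _ => c)]
    simp
  -- m xs = 1
  have hms : m xs = 1 := by
    by_contra h
    have h0 : m xs = 0 := by have := hm xs; omega
    have hpt : ∀ x, 4 * ((m x : ℤ) - (if x ∈ T then (1 : ℤ) else 0))
        ≤ ((b x : ℤ) - m x * (2 * D)) ^ 2 := by
      intro x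
      by_cases hxT : x ∈ T
      · rw [if_pos hxT, (P1 x hxT).1]
        have := sq_nonneg ((b x : ℤ) - ((1 : ℕ) : ℤ) * (2 * D))
        simpa using this
      · rw [if_neg hxT]
        have hmx := hm x
        rcases Nat.eq_zero_or_pos (m x) with h1 | h1
        · rw [h1]
          have := sq_nonneg ((b x : ℤ) - ((0 : ℕ) : ℤ) * (2 * D))
          simpa using this
        · have h1' : m x = 1 := by omega
          have hxs : x ≠ xs := by rintro rfl; omega
          have := P2 x hxT hxs h1'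
          rw [h1', ← hD] at *
          push_cast
          rcases this with h | h <;> linarith
    have hsum := Finset.sum_le_sum (fun x (_ : x ∈ Finset.univ) => hpt x)
    rw [← Finset.mul_sum, Finset.sum_sub_distrib, S1, ST, SC] at hsum
    linarith
  -- the excess function
  obtain ⟨a, ha⟩ : ∃ a : X → ℤ, ∀ x, a x = (m x : ℤ) - (if x ∈ T then (1 : ℤ) else 0)
      - (if x = xs then (1 : ℤ) else 0) := ⟨_, fun _ => rfl⟩
  have Sa : ∑ x, a x = D ^ 2 := by
    simp_rw [ha]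
    rw [Finset.sum_sub_distrib, Finset.sum_sub_distrib, S1, ST, SS]
    ring
  have a1 : ∀ x ∈ T, a x = 0 := by
    intro x hx
    have hxs : x ≠ xs := by rintro rfl; exact hsT hx
    rw [ha, if_pos hx, if_neg hxs, (P1 x hx).1]; simp
  have a2 : a xs = 0 := by
    rw [ha, if_neg hsT, if_pos rfl, hms]; simp
  have a3 : ∀ x, x ∉ T → x ≠ xs → a x = m x := by
    intro x hx hxs
    rw [ha, if_neg hx, if_neg hxs]; simp
  have hg0 : ∀ x, 0 ≤ ((b x : ℤ) - m x * (2 * D)) ^ 2 - 4 * a x := by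
    intro x
    by_cases hxT : x ∈ T
    · rw [a1 x hxT]; have := sq_nonneg ((b x : ℤ) - m x * (2 * D)); linarith
    · by_cases hxs : x = xs
      · subst hxs; rw [a2]; have := sq_nonneg ((b x : ℤ) - m x * (2 * D)); linarith
      · rw [a3 x hxT hxs]
        have hmx := hm x
        rcases Nat.eq_zero_or_pos (m x) with h1 | h1
        · rw [h1]; have := sq_nonneg ((b x : ℤ) - ((0 : ℕ) : ℤ) * (2 * D)); simpa using this
        · have h1' : m x = 1 := by omega
          have := P2 x hxT hxs h1'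
          rw [h1', ← hD] at *
          push_cast
          rcases this with h | h <;> linarith
  have hgsum : ∑ x, (((b x : ℤ) - m x * (2 * D)) ^ 2 - 4 * a x) = 2 := by
    rw [Finset.sum_sub_distrib, ← Finset.mul_sum, SC, Sa]; ring
  have hg2 : ∀ x, ((b x : ℤ) - m x * (2 * D)) ^ 2 - 4 * a x ≤ 2 := by
    intro x
    have := Finset.single_le_sum (f := fun x => ((b x : ℤ) - m x * (2 * D)) ^ 2 - 4 * a x)
      (fun i _ => hg0 i) (Finset.mem_univ x)
    rw [hgsum] at this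
    exact this
  have hA : ∀ x, x ∉ T → x ≠ xs → m x = 1 → ((b x : ℤ) - 2 * D) ^ 2 = 4 := by
    intro x hxT hxs hmx
    have h1 := hg2 x
    rw [a3 x hxT hxs, hmx] at h1
    have h2 := P2 x hxT hxs hmx
    rw [← hD] at h2
    push_cast at h1
    rcases h2 with h | h
    · exact h
    · exfalso; linarith
  have hbs : b xs = 2 * d := by
    have h1 := hg2 xs
    rw [a2, hms] at h1
    push_cast at h1
    have h1' : ((b xs : ℤ) - 2 * D) ^ 2 ≤ 2 := by
      have e1 : ((b xs : ℤ) - 1 * (2 * D)) ^ 2 - 4 * 0 = ((b xs : ℤ) - 2 * D) ^ 2 := by ring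
      rw [← e1]; exact h1
    obtain ⟨t, ht⟩ : ∃ t : ℤ, t = (b xs : ℤ) - 2 * D := ⟨_, rfl⟩
    rw [← ht] at h1'
    have h2 : -1 ≤ (b xs : ℤ) - 2 * D := by
      rw [← ht]
      clear * - h1'
      nlinarith
    have h3 : (b xs : ℤ) - 2 * D ≤ 1 := by
      rw [← ht]
      clear * - h1'
      nlinarith
    have h4 : ((b xs : ℤ) - 2 * D) ^ 2 ≠ 1 := by
      intro h
      have h5 := hdeg xs
      rw [hls, hms] at h5
      rw [hD] at h
      exact onS q d e n _ _ hn hd he hd2 h5 (hdvd xs) h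
    have h5 : (b xs : ℤ) - 2 * D = 0 := by
      by_contra h
      apply h4
      have : (b xs : ℤ) - 2 * D = 1 ∨ (b xs : ℤ) - 2 * D = -1 := by omega
      rcases this with h | h <;> rw [h] <;> norm_num
    rw [hD] at h5
    omega
  have hxT0 : ∀ x, m x = 0 → x ∉ T ∧ x ≠ xs := by
    intro x hx
    refine ⟨fun h => ?_, ?_⟩
    · have := (P1 x h).1; omega
    · rintro rfl; omega
  have hB : ∀ x, m x = 0 → b x ≤ 1 := by
    intro x hx
    have h1 := hg2 x
    rw [a3 x (hxT0 x hx).1 (hxT0 x hx).2, hx] at h1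
    push_cast at h1
    have h1' : (b x : ℤ) ^ 2 ≤ 2 := by
      have e1 : ((b x : ℤ) - 0 * (2 * D)) ^ 2 - 4 * 0 = (b x : ℤ) ^ 2 := by ring
      rw [← e1]; exact h1
    have h2 : (b x : ℤ) ≤ 1 := by
      clear h1
      by_contra hcon
      have h3 : 2 ≤ (b x : ℤ) := by omega
      have h4 : (4 : ℤ) ≤ (b x : ℤ) ^ 2 := by
        calc (4 : ℤ) = 2 ^ 2 := by norm_num
          _ ≤ (b x : ℤ) ^ 2 := pow_le_pow_left₀ (by norm_num) h3 2
      omega
    exact_mod_cast h2
  have hB' : ∀ x, m x = 0 → x ≠ x₁ → b x = 1 ∧ deg x = e * d := by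
    intro x hx hx1
    have h1 := hdeg x
    rw [hl0 x (hxT0 x hx).1 hx1 (hxT0 x hx).2, hx] at h1
    have h2 := hB x hx
    have h3 : deg x ≠ 0 := by
      intro h0
      have := hdvd x
      rw [h0, zero_dvd_iff] at this
      have hq0 : 0 < (q ^ 2 + 1) * q ^ 2 * e := by positivity
      omega
    have h4 : b x = 1 := by
      rcases Nat.eq_zero_or_pos (b x) with h | h
      · rw [h] at h1; simp at h1; omega
      · omega
    rw [h4] at h1
    exact ⟨h4, by rw [h1]; ring⟩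
  -- existence of the three remaining kinds
  have E0 : ∃ x, m x = 0 ∧ x ≠ x₁ := by
    by_contra hno
    have hall : ∀ x, ((b x : ℤ) - m x * (2 * D)) ^ 2 - 4 * a x = 0 := by
      intro x
      by_cases hxT : x ∈ T
      · rw [a1 x hxT, (P1 x hxT).1, (P1 x hxT).2, hD]; push_cast; ring
      · by_cases hxs : x = xs
        · subst hxs; rw [a2, hms, hbs, hD]; push_cast; ring
        · rw [a3 x hxT hxs]
          have hmx := hm x
          rcases Nat.eq_zero_or_pos (m x) with h1 | h1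
          · have hx1 : x = x₁ := by
              by_contra h; exact hno ⟨x, h1, h⟩
            rw [hx1, hm1, P3]; simp
          · have h1' : m x = 1 := by omega
            have := hA x hxT hxs h1'
            rw [h1']; push_cast; linarith
    rw [Finset.sum_congr rfl (fun x _ => hall x)] at hgsum
    simp at hgsum
  have S4 : ∑ x, (m x : ℤ) * ((b x : ℤ) - 2 * D) = -2 * D := by
    simp_rw [mul_sub]
    rw [Finset.sum_sub_distrib, S3, ← Finset.sum_mul, S1]; ring
  have hpm : ∀ x, x ∉ T → x ≠ xs → m x = 1 →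
      (b x : ℤ) - 2 * D = 2 ∨ (b x : ℤ) - 2 * D = -2 := by
    intro x hxT hxs hmx
    have h := hA x hxT hxs hmx
    have : ((b x : ℤ) - 2 * D - 2) * ((b x : ℤ) - 2 * D + 2) = 0 := by linear_combination h
    rcases mul_eq_zero.1 this with h | h
    · left; linarith
    · right; linarith
  have Esign : ∀ s : ℤ, (s = 2 ∨ s = -2) →
      ∃ x, x ∉ T ∧ x ≠ xs ∧ m x = 1 ∧ (b x : ℤ) - 2 * D = s := by
    intro s hs
    by_contra hno
    have hall : ∀ x, (m x : ℤ) * ((b x : ℤ) - 2 * D) = (-s) * a x := by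
      intro x
      by_cases hxT : x ∈ T
      · rw [a1 x hxT, (P1 x hxT).2, hD]; push_cast; ring
      · by_cases hxs : x = xs
        · subst hxs; rw [a2, hbs, hD]; push_cast; ring
        · rw [a3 x hxT hxs]
          have hmx := hm x
          rcases Nat.eq_zero_or_pos (m x) with h1 | h1
          · rw [h1]; simp
          · have h1' : m x = 1 := by omega
            have h2 := hpm x hxT hxs h1'
            have h3 : (b x : ℤ) - 2 * D ≠ s := fun h => hno ⟨x, hxT, hxs, h1', h⟩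
            rw [h1']; push_cast
            rcases hs with rfl | rfl <;> rcases h2 with h | h
            · exact absurd h h3
            · rw [h]; ring
            · rw [h]; ring
            · exact absurd h h3
    rw [Finset.sum_congr rfl (fun x _ => hall x), ← Finset.mul_sum, Sa] at S4
    rcases hs with rfl | rfl <;> nlinarith
  have degP : ∀ x, x ∉ T → x ≠ xs → m x = 1 → (b x : ℤ) - 2 * D = 2 →
      deg x = e * (q + 1 + 2 * d) := by
    intro x hxT hxs hmx h
    have hx1 : x ≠ x₁ := by rintro rfl; omega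
    have h1 := hdeg x
    rw [hl0 x hxT hx1 hxs, hmx] at h1
    have hb : b x = 2 * d + 2 := by rw [hD] at h; omega
    rw [h1, hb, ← hd]; ring
  have degM : ∀ x, x ∉ T → x ≠ xs → m x = 1 → (b x : ℤ) - 2 * D = -2 →
      deg x = e * (q + 1 - 2 * d) := by
    intro x hxT hxs hmx h
    have hx1 : x ≠ x₁ := by rintro rfl; omega
    have h1 := hdeg x
    rw [hl0 x hxT hx1 hxs, hmx] at h1
    have hb : b x + 2 = 2 * d := by rw [hD] at h; omega
    have h2 : d * b x + 2 * d = q := by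
      have : d * (b x + 2) = d * (2 * d) := by rw [hb]
      nlinarith
    have h3 : q + 1 - 2 * d = d * b x + 1 := by omega
    rw [h1, h3]; ring
  have degS : deg xs = q ^ 2 := by
    have h1 := hdeg xs
    rw [hls, hms, hbs] at h1
    rw [h1]
    have : d * (2 * d) = e + 1 := by rw [← he, ← hd]; ring
    rw [this, he]; ring
  have hTne : T.Nonempty := by
    rw [← Finset.card_pos, hTc]
    have h1 : q / 2 = d ^ 2 := by omega
    have h2 : 4 ≤ d ^ 2 := by nlinarith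
    omega
  ext v
  simp only [Set.mem_range, Set.mem_insert_iff, Set.mem_singleton_iff]
  constructor
  · rintro ⟨x, rfl⟩
    by_cases hxT : x ∈ T
    · right; right; left; exact (hT x hxT).2
    · by_cases hxs : x = xs
      · subst hxs; right; left; exact degS
      · have hmx := hm x
        rcases Nat.eq_zero_or_pos (m x) with h1 | h1
        · by_cases hx1 : x = x₁
          · subst hx1; left; exact hdeg1
          · right; right; right; right; right; exact (hB' x h1 hx1).2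
        · have h1' : m x = 1 := by omega
          rcases hpm x hxT hxs h1' with h | h
          · right; right; right; left; exact degP x hxT hxs h1' h
          · right; right; right; right; left; exact degM x hxT hxs h1' h
  · rintro (rfl | rfl | rfl | rfl | rfl | rfl)
    · exact ⟨x₁, hdeg1⟩
    · exact ⟨xs, degS⟩
    · obtain ⟨x, hx⟩ := hTne
      exact ⟨x, (hT x hx).2⟩
    · obtain ⟨x, h1, h2, h3, h4⟩ := Esign 2 (Or.inl rfl)
      exact ⟨x, degP x h1 h2 h3 h4⟩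
    · obtain ⟨x, h1, h2, h3, h4⟩ := Esign (-2) (Or.inr rfl)
      exact ⟨x, degM x h1 h2 h3 h4⟩
    · obtain ⟨x, h1, h2⟩ := E0
      exact ⟨x, (hB' x h1 h2).2⟩

end Cfsg.Agent.Lib.Helper84SzDegArithMain
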