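import Mathlib
import Cfsg.Agent.Lib.Helper86Mono

set_option autoImplicit false

namespace Cfsg.Agent.Lib.Helper86Act

open MulAction Cfsg.Agent.Lib.Helper86Mono

variable {G X : Type*} [Group G] [MulAction (G × G) X]

theorem nrm_rgt_nrm {γ : X → G} (hγ : Triv γ) (b : G) (y : X) :
    nrm hγ (((1 : G), b) • (nrm hγ y).1) = nrm hγ (((1 : G), b) • y) := by
  have h1 : ((1 : G), b) • (nrm hγ y).1 = ((γ y)⁻¹, (1 : G)) • ((1 : G), b) • y := by
    show ((1 : G), b) • ((γ y)⁻¹, (1 : G)) • y = _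
    rw [smul_smul, smul_smul]
    simp
  rw [h1, nrm_smul]

/-- an invariant part of the transversal on which a `p`-subgroup of the right factor has no fixed
point has cardinality divisible by `p`. -/
theorem dvd_card_of_no_fixed [Finite X] {p : ℕ} [Fact p.Prime] {C : Subgroup G} (hC : IsPGroup p C)
    {γ : X → G} (hγ : Triv γ) (B : Set X)
    (hB : ∀ a : G, ∀ b ∈ C, ∀ w ∈ B, (a, b) • w ∈ B)
    (hno : ∀ w ∈ B, ∃ b ∈ C, ∀ a : G, (a, b) • w ≠ w) :
    p ∣ Nat.card {w : X0 γ // w.1 ∈ B} := by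
  have hmem : ∀ (b : C) (w : {w : X0 γ // w.1 ∈ B}),
      (nrm hγ (((1 : G), (b : G)) • w.1.1)).1 ∈ B := by
    intro b w
    exact hB _ 1 C.one_mem _ (hB 1 b b.2 _ w.2)
  letI : MulAction C {w : X0 γ // w.1 ∈ B} :=
    { smul := fun b w => ⟨nrm hγ (((1 : G), (b : G)) • w.1.1), hmem b w⟩
      one_smul := fun w => by
        apply Subtype.ext
        show nrm hγ (((1 : G), (1 : G)) • w.1.1) = w.1
        have : (((1 : G), (1 : G)) : G × G) = 1 := rfl
        rw [this, one_smul, nrm_coe]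
      mul_smul := fun b b' w => by
        apply Subtype.ext
        show nrm hγ (((1 : G), (b : G) * (b' : G)) • w.1.1) =
          nrm hγ (((1 : G), (b : G)) • (nrm hγ (((1 : G), (b' : G)) • w.1.1)).1)
        rw [nrm_rgt_nrm, smul_smul]
        simp }
  have h1 := hC.card_modEq_card_fixedPoints {w : X0 γ // w.1 ∈ B}
  have h2 : IsEmpty (fixedPoints C {w : X0 γ // w.1 ∈ B}) := by
    constructor
    rintro ⟨w, hw⟩
    obtain ⟨b, hb, hba⟩ := hno w.1.1 w.2
    have h3 := congrArg (fun z : {w : X0 γ // w.1 ∈ B} => z.1.1) (hw ⟨b, hb⟩)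
    have h4 : ((γ (((1 : G), b) • w.1.1))⁻¹, (1 : G)) • ((1 : G), b) • w.1.1 = w.1.1 := h3
    rw [smul_smul] at h4
    apply hba (γ (((1 : G), b) • w.1.1))⁻¹
    simpa using h4
  have h5 : Nat.card (fixedPoints C {w : X0 γ // w.1 ∈ B}) = 0 := Nat.card_of_isEmpty
  rw [h5] at h1
  exact (Nat.modEq_zero_iff_dvd).1 h1

end Cfsg.Agent.Lib.Helper86Act
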