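import Cfsg.Agent.Lib.Helper27BG16basic
import Cfsg.Agent.Lib.Helper27BG16fhall
import Cfsg.Agent.Lib.Helper56BG15Defs
import Cfsg.Agent.Lib.Helper30SZ
import Cfsg.Agent.Lib.Helper86BG15centhall
import Cfsg.Agent.S1374

/-!
PROJECT 15, piece `fusionhall` (B-G 15.4(b)), relative to `bg152`.
-/

set_option autoImplicit false
set_option linter.style.haveILetI false
open Cfsg

namespace Cfsg.Agent.Lib.Helper86BG15fusionhall

open Subgroup
open Cfsg.Agent.Lib.Helper30Trans Cfsg.Agent.Lib.Helper24BG Cfsg.Agent.Lib.Helper56BG15Defs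
  Cfsg.Agent.Lib.Helper27BG16basic Cfsg.Agent.Lib.Helper27BG16fhall Cfsg.Agent.Lib.Helper2BGa
  Cfsg.Agent.Lib.Helper2BGb Cfsg.Agent.Lib.Helper2BGc Cfsg.Agent.Lib.Helper86BG15centhall

universe u
variable {G : Type u} [Group G] [Finite G]

omit [Finite G] in
theorem hall_primes {H Y : Subgroup G} (h : (Nat.card H).Coprime (H.relIndex Y)) :
    ∀ p : ℕ, p.Prime → p ∣ Nat.card H → ¬ p ∣ H.relIndex Y := by
  intro p hp h1 h2
  exact Nat.Prime.not_coprime_iff_dvd.2 ⟨p, hp, h1, h2⟩ h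

/-- a normal Hall subgroup of a normal subgroup is normal -/
theorem le_normalizer_of_normal_hall {M Y H : Subgroup G} (hHY : H ≤ Y)
    (hMY : M ≤ normalizer (Y : Set G)) (hYH : Y ≤ normalizer (H : Set G))
    (hHall : (Nat.card H).Coprime (H.relIndex Y)) : M ≤ normalizer (H : Set G) := by
  have key : ∀ m ∈ M, cj m H ≤ H := by
    intro m hm
    apply le_of_relIndex_coprime (Z := Y) _ hYH
    · intro p hp hd
      rw [card_cj] at hd
      exact hall_primes hHall p hp hd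
    · calc cj m H ≤ cj m Y := cj_mono hHY
        _ = Y := cj_eq_self_of_mem_normalizer (hMY hm)
  intro m hm
  rw [mem_normalizer_iff]
  intro a
  constructor
  · intro ha
    exact key m hm (conj_mem_cj ha)
  · intro ha
    have := key m⁻¹ (M.inv_mem hm) (conj_mem_cj (k := m⁻¹) ha)
    have h3 : m⁻¹ * (m * a * m⁻¹) * m⁻¹⁻¹ = a := by group
    rwa [h3] at this

/-- `Y = Q D`, `Q` normal, `D` nilpotent: a Hall subgroup of `Y` containing `Q` is normal in `Y`. -/
theorem le_normalizer_of_ge {Y Q D H : Subgroup G} (hQD : IsComplIn Q D Y)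
    (hYQ : Y ≤ normalizer (Q : Set G)) (hD : Group.IsNilpotent D) (hQH : Q ≤ H) (hHY : H ≤ Y)
    (hHall : (Nat.card H).Coprime (H.relIndex Y)) : Y ≤ normalizer (H : Set G) := by
  obtain ⟨hQY, hDY, hint, hfac⟩ := hQD
  -- Dedekind
  have hded : ∀ h ∈ H, ∃ a ∈ Q, ∃ b ∈ H ⊓ D, h = a * b := by
    intro h hh
    obtain ⟨a, ha, b, hb, rfl⟩ := hfac h (hHY hh)
    refine ⟨a, ha, b, mem_inf.2 ⟨?_, hb⟩, rfl⟩
    have := H.mul_mem (H.inv_mem (hQH ha)) hh
    rwa [inv_mul_cancel_left] at this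
  -- `H ⊓ D` is a Hall subgroup of `D`
  have hHD : ∀ p : ℕ, p.Prime → p ∣ Nat.card (H ⊓ D : Subgroup G) →
      ¬ p ∣ (H ⊓ D).relIndex D := by
    intro p hp hd hi
    apply hall_primes hHall p hp (hd.trans (card_dvd_of_le inf_le_left))
    rw [inf_relIndex_right] at hi
    -- `|D : H ∩ D|` divides `|Y : H|`
    have h1 : H.relIndex D = H.relIndex Y := by
      have c1 := Cfsg.Agent.Lib.Helper31BGS.card_compl (A := Q) (B := D) (M := Y)
        ⟨hQY, hDY, hint, hfac⟩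
      have c2 := Cfsg.Agent.Lib.Helper31BGS.card_compl (A := Q) (B := H ⊓ D) (M := H)
        ⟨hQH, inf_le_left, by
          rw [eq_bot_iff, ← hint]
          exact inf_le_inf_left _ inf_le_right, hded⟩
      have c3 := card_mul_relIndex hHY
      have c4 := card_mul_relIndex (inf_le_right : H ⊓ D ≤ D)
      rw [inf_relIndex_right] at c4
      have c5 : Nat.card H * H.relIndex D = Nat.card H * H.relIndex Y := by
        rw [c3, ← c1, ← c4, ← c2, mul_assoc]
      exact Nat.eq_of_mul_eq_mul_left Nat.card_pos c5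
    rwa [h1] at hi
  have hDn : D ≤ normalizer ((H ⊓ D : Subgroup G) : Set G) :=
    le_normalizer.trans (normalizer_le_normalizer_hall hD inf_le_right hHD)
  have key : ∀ y ∈ Y, ∀ h ∈ H, y * h * y⁻¹ ∈ H := by
    intro y hy h hh
    obtain ⟨a, ha, b, hb, rfl⟩ := hfac y hy
    obtain ⟨c, hc, d, hd, rfl⟩ := hded h hh
    have h1 : b * c * b⁻¹ ∈ Q := by
      have := hYQ (hDY hb)
      rw [mem_normalizer_iff] at this
      exact (this c).1 hc
    have h2 : b * d * b⁻¹ ∈ H ⊓ D := by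
      have := hDn hb
      rw [mem_normalizer_iff] at this
      exact (this d).1 hd
    have h3 : a * b * (c * d) * (a * b)⁻¹ = a * ((b * c * b⁻¹) * (b * d * b⁻¹)) * a⁻¹ := by group
    rw [h3]
    exact H.mul_mem (H.mul_mem (hQH ha) (H.mul_mem (hQH h1) (mem_inf.1 h2).1)) (H.inv_mem (hQH ha))
  intro y hy
  rw [mem_normalizer_iff]
  intro a
  constructor
  · intro ha
    exact key y hy a ha
  · intro ha
    have := key y⁻¹ (Y.inv_mem hy) _ ha
    have h3 : y⁻¹ * (y * a * y⁻¹) * y⁻¹⁻¹ = a := by group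
    rwa [h3] at this

/-- conjugacy in `M` -/
theorem exists_conj_mem (hG : IsMinSimpleOddOrder G) {M : Subgroup G} (hM : IsCoatom M)
    {x : G} (hx : x ∈ sigmaCore M) (hx1 : x ≠ 1) {g : G} (hg : g * x * g⁻¹ ∈ M) :
    ∃ m ∈ M, m * x * m⁻¹ = g * x * g⁻¹ := by
  obtain ⟨-, R, -, hR, hall⟩ := Cfsg.Agent.S1374.result hG M hM x hx hx1
  have hxg : x ∈ M.map (MulAut.conj g⁻¹).toMonoidHom := by
    have : x ∈ cj g⁻¹ M := by
      rw [mem_cj, inv_inv]
      exact hg
    exact this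
  obtain ⟨r, ⟨hrR, hr⟩, -⟩ := hall g⁻¹ hxg
  have hrx : r * x = x * r := by
    have := hR.2.1 hrR
    rw [mem_centralizer_singleton_iff] at this
    exact this
  have hMne : M ≠ ⊥ := by
    intro hb
    rw [hb] at hx
    have := sigmaCore_le (⊥ : Subgroup G) hx
    rw [mem_bot] at this
    exact hx1 this
  have hNM : normalizer (M : Set G) = M := norm_eq hG hM hMne le_rfl le_normalizer
  have hgr : g * r ∈ M := by
    rw [← hNM]
    have h1 : cj (g * r) M = M := by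
      rw [cj_mul]
      have : cj r M = cj g⁻¹ M := hr
      rw [this]
      have := cj_inv_cj g⁻¹ M
      rwa [inv_inv] at this
    rw [mem_normalizer_iff]
    intro a
    constructor
    · intro ha
      rw [← h1]
      exact conj_mem_cj ha
    · intro ha
      rw [← h1, mem_cj] at ha
      have h3 : (g * r)⁻¹ * (g * r * a * (g * r)⁻¹) * (g * r) = a := by group
      rwa [h3] at ha
  refine ⟨g * r, hgr, ?_⟩
  calc g * r * x * (g * r)⁻¹ = g * (r * x) * r⁻¹ * g⁻¹ := by group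
    _ = g * (x * r) * r⁻¹ * g⁻¹ := by rw [hrx]
    _ = g * x * g⁻¹ := by group

/-- piece `fusionhall`, relative form: `bg152` enters as the hypothesis `h152`. -/
theorem fusion_hall_of (hG : IsMinSimpleOddOrder G) {M H : Subgroup G} (hM : IsCoatom M)
    (hH : H ≤ sigmaCore M) (hH1 : H ≠ ⊥)
    (hHall : (Nat.card H).Coprime (H.relIndex (sigmaCore M)))
    (h152 : fittingHallOf M ≠ sigmaCore M → ∃ (q : ℕ) (Q : Subgroup G), q.Prime ∧
      Q ≤ sigmaCore M ∧ M ≤ normalizer (Q : Set G) ∧ IsPGroup q Q ∧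
      ¬ q ∣ Q.relIndex (sigmaCore M) ∧
      ∀ D : Subgroup G, IsComplIn Q D (sigmaCore M) → Group.IsNilpotent D) :
    ∀ x ∈ H, ∀ g : G, g * x * g⁻¹ ∈ H →
      ∃ n ∈ M ⊓ normalizer (H : Set G), n * x * n⁻¹ = g * x * g⁻¹ := by
  intro x hxH g hgH
  have hMsM : sigmaCore M ≤ M := sigmaCore_le M
  have hMn := le_normalizer_sigmaCore M
  by_cases hx1 : x = 1
  · subst hx1
    exact ⟨1, one_mem _, by group⟩
  obtain ⟨m, hmM, hm⟩ := exists_conj_mem hG hM (hH hxH) hx1 (hMsM (hH hgH))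
  by_cases hnil : fittingHallOf M = sigmaCore M
  · have hnil' := (fittingHallOf_eq_sigmaCore_iff hG hM).1 hnil
    exact ⟨m, mem_inf.2 ⟨hmM, normalizer_le_normalizer_hall hnil' hH (hall_primes hHall)
      (hMn hmM)⟩, hm⟩
  obtain ⟨q, Q, hq, hQMs, hMQ, hQp, hQsyl, hDnil⟩ := h152 hnil
  haveI : Fact q.Prime := ⟨hq⟩
  -- a complement
  have hQcop : (Nat.card Q).Coprime (Q.relIndex (sigmaCore M)) := by
    obtain ⟨k, hk⟩ := (IsPGroup.iff_card).1 hQp
    rw [hk]
    exact Nat.Coprime.pow_left _ ((Nat.Prime.coprime_iff_not_dvd hq).2 hQsyl)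
  obtain ⟨D, hDMs, hQD, hcard, hDcop, hsup⟩ := exists_compl hQMs (hMsM.trans hMQ) hQcop
  have hcompl : IsComplIn Q D (sigmaCore M) := by
    refine ⟨hQMs, hDMs, hQD, ?_⟩
    intro y hy
    rw [← hsup, Cfsg.Agent.Lib.Helper30SZ.mem_sup_iff ((hDMs.trans hMsM).trans hMQ)] at hy
    exact hy
  have hD := hDnil D hcompl
  -- Hall subgroups above `Q` are normal in `M`
  have hnorm : ∀ H' : Subgroup G, Q ≤ H' → H' ≤ sigmaCore M →
      (Nat.card H').Coprime (H'.relIndex (sigmaCore M)) → M ≤ normalizer (H' : Set G) := by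
    intro H' h1 h2 h3
    exact le_normalizer_of_normal_hall h2 hMn
      (le_normalizer_of_ge hcompl (hMsM.trans hMQ) hD h1 h2 h3) h3
  by_cases hqH : q ∣ Nat.card H
  · -- `Q ≤ H`
    have hQH : Q ≤ H := by
      obtain ⟨S, hS, -⟩ := exists_isSyl_ge (p := q) (bot_le : (⊥ : Subgroup G) ≤ H) IsPGroup.of_bot
      have hS' : IsSyl q S (sigmaCore M) := by
        apply isSyl_of_not_dvd (hS.1.trans hH) hS.2.1
        rw [← relIndex_mul_relIndex S H (sigmaCore M) hS.1 hH]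
        intro hd'
        rcases (Nat.Prime.dvd_mul hq).1 hd' with h | h
        · exact IsSyl.not_dvd_relIndex hS h
        · exact hall_primes hHall q hq hqH h
      have hQ' : IsSyl q Q (sigmaCore M) := isSyl_of_not_dvd hQMs hQp hQsyl
      obtain ⟨y, hy, hyQ⟩ := isSyl_conj hS' hQ'
      rw [cj_eq_self_of_mem_normalizer (hMQ (hMsM hy))] at hyQ
      rw [hyQ]
      exact hS.1
    exact ⟨m, mem_inf.2 ⟨hmM, hnorm H hQH hH hHall hmM⟩, hm⟩
  · -- `q ∤ |H|`
    have hHQcop : (Nat.card H).Coprime (Nat.card Q) := by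
      obtain ⟨k, hk⟩ := (IsPGroup.iff_card).1 hQp
      rw [hk]
      exact Nat.Coprime.pow_right _ ((Nat.Prime.coprime_iff_not_dvd hq).2 hqH).symm
    have hHnQ : H ≤ normalizer (Q : Set G) := (hH.trans hMsM).trans hMQ
    have hQHle : Q ⊔ H ≤ sigmaCore M := sup_le hQMs hH
    have hcQH := Cfsg.Agent.Lib.Helper30SZ.card_sup hHnQ hHQcop
    have hQHhall : (Nat.card (Q ⊔ H : Subgroup G)).Coprime ((Q ⊔ H).relIndex (sigmaCore M)) := by
      rw [hcQH]
      apply Nat.Coprime.mul_left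
      · exact Nat.Coprime.coprime_dvd_right (relIndex_dvd_of_le_left _ le_sup_left) hQcop
      · exact Nat.Coprime.coprime_dvd_right (relIndex_dvd_of_le_left _ le_sup_right) hHall
    have hMQH := hnorm (Q ⊔ H) le_sup_left hQHle hQHhall
    have hcjle : cj m H ≤ Q ⊔ H := by
      calc cj m H ≤ cj m (Q ⊔ H) := cj_mono le_sup_right
        _ = Q ⊔ H := cj_eq_self_of_mem_normalizer (hMQH hmM)
    have hQsol : Group.IsSolvable Q := by
      haveI := hQp.isNilpotent
      infer_instance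
    obtain ⟨v, hvQ, hv⟩ := Cfsg.Agent.Lib.Helper30SZ.sz_conj hHnQ hHQcop (Or.inr hQsol) hcjle
      (card_cj m H)
    -- `n = v⁻¹ m` normalises `H`
    have hn : ∀ a : G, a ∈ H ↔ (v⁻¹ * m) * a * (v⁻¹ * m)⁻¹ ∈ H := by
      intro a
      have h1 := hv (m * a * m⁻¹)
      have h2 : v⁻¹ * (m * a * m⁻¹) * v = (v⁻¹ * m) * a * (v⁻¹ * m)⁻¹ := by group
      rw [h2] at h1
      rw [← h1, mem_cj]
      have h3 : m⁻¹ * (m * a * m⁻¹) * m = a := by group
      rw [h3]
    have hvM : v ∈ M := hMsM (hQMs hvQ)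
    refine ⟨v⁻¹ * m, mem_inf.2 ⟨M.mul_mem (M.inv_mem hvM) hmM, ?_⟩, ?_⟩
    · rw [mem_normalizer_iff]
      exact hn
    · set x' := (v⁻¹ * m) * x * (v⁻¹ * m)⁻¹ with hx'
      have hx'H : x' ∈ H := (hn x).1 hxH
      have hy : g * x * g⁻¹ = v * x' * v⁻¹ := by
        rw [← hm, hx']; group
      have h1 : v * x' * v⁻¹ * x'⁻¹ ∈ Q := by
        have h2 : x' * v⁻¹ * x'⁻¹ ∈ Q := by
          have := hHnQ hx'H
          rw [mem_normalizer_iff] at this
          exact (this v⁻¹).1 (Q.inv_mem hvQ)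
        have h3 : v * x' * v⁻¹ * x'⁻¹ = v * (x' * v⁻¹ * x'⁻¹) := by group
        rw [h3]
        exact Q.mul_mem hvQ h2
      have h2 : v * x' * v⁻¹ * x'⁻¹ ∈ H := by
        rw [← hy]
        exact H.mul_mem hgH (H.inv_mem hx'H)
      have h3 := Cfsg.Agent.Lib.Helper30SZ.eq_one_of_mem_of_mem hHQcop h1 h2
      rw [hy]
      exact (mul_inv_eq_one.1 h3).symm

end Cfsg.Agent.Lib.Helper86BG15fusionhall
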