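import Mathlib
import Cfsg.Agent.Lib.Helper86Mono
import Cfsg.Agent.Lib.Helper86Burnside

set_option autoImplicit false

namespace Cfsg.Agent.Lib.Helper86Eval

open MulAction Cfsg.Agent.Lib.Helper86Mono

/-- construction of maps equivariant on an invariant subset. -/
theorem exists_equivariant_on {H X Y : Type*} [Group H] [MulAction H X] [MulAction H Y] [Nonempty Y]
    (A : Set X) (hA : ∀ (g : H), ∀ x ∈ A, g • x ∈ A)
    (h : ∀ x ∈ A, ∃ y : Y, ∀ g : H, g • x = x → g • y = y) :
    ∃ f : X → Y, ∀ (g : H), ∀ x ∈ A, f (g • x) = g • f x := by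
  classical
  have h' : ∀ x : X, ∃ y : Y, x ∈ A → ∀ g : H, g • x = x → g • y = y := by
    intro x
    by_cases hx : x ∈ A
    · obtain ⟨y, hy⟩ := h x hx
      exact ⟨y, fun _ => hy⟩
    · exact ⟨Classical.arbitrary Y, fun hx' => absurd hx' hx⟩
  choose y hy using h'
  have h1 : ∀ x : X, ∃ g : H, g • (Quotient.mk (orbitRel H X) x).out = x := by
    intro x
    have h2 : (orbitRel H X).r x (Quotient.mk (orbitRel H X) x).out :=
      (orbitRel H X).symm (Quotient.mk_out (s := orbitRel H X) x)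
    exact h2
  choose γ hγ using h1
  refine ⟨fun x => γ x • y (Quotient.mk (orbitRel H X) x).out, fun g x hx => ?_⟩
  have h3 : Quotient.mk (orbitRel H X) (g • x) = Quotient.mk (orbitRel H X) x :=
    Quotient.sound (s := orbitRel H X) ⟨g, rfl⟩
  have h4 := hγ (g • x)
  simp only [h3] at h4 ⊢
  have hout : (Quotient.mk (orbitRel H X) x).out ∈ A := by
    have h7 := hA (γ x)⁻¹ x hx
    have e : (γ x)⁻¹ • x = (Quotient.mk (orbitRel H X) x).out := by
      rw [inv_smul_eq_iff, hγ x]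
    rwa [e] at h7
  have h5 : ((g * γ x)⁻¹ * γ (g • x)) • (Quotient.mk (orbitRel H X) x).out =
      (Quotient.mk (orbitRel H X) x).out := by
    rw [mul_smul, h4, inv_smul_eq_iff, mul_smul, hγ x]
  have h6 := hy _ hout _ h5
  rw [mul_smul, inv_smul_eq_iff, mul_smul] at h6
  exact h6

variable {G X A : Type*} [Group G] [MulAction (G × G) X] [CommGroup A]

omit [MulAction (G × G) X] in
theorem finprod_ite_const [Finite X] (γ : X → G) (B : Set X) (c : A) :
    ∏ᶠ w : X0 γ, (open Classical in if w.1 ∈ B then c else 1) =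
      c ^ Nat.card {w : X0 γ // w.1 ∈ B} := by
  classical
  haveI := Fintype.ofFinite (X0 γ)
  rw [finprod_eq_prod_of_fintype, Finset.prod_ite, Finset.prod_const, Finset.prod_const_one, mul_one,
    Nat.card_eq_fintype_card, Fintype.card_subtype]

/-- evaluation of the transfer at `x` on a part of the biset where `lam` is stable on `⟨x⟩`. -/
theorem eval_of_stab [Finite X] (lam : G →* A) {γ : X → G} (hγ : Triv γ) (x : G) (B : Set X)
    (hB : ∀ a b : G, b ∈ Subgroup.zpowers x → ∀ w ∈ B, (a, b) • w ∈ B)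
    (hst : ∀ w ∈ B, ∀ a b : G, b ∈ Subgroup.zpowers x → (a, b) • w = w → lam a = lam b) :
    ∏ᶠ w : X0 γ, (open Classical in if w.1 ∈ B then lam (γ (((1 : G), x) • w.1)) else 1) =
      (lam x)⁻¹ ^ Nat.card {w : X0 γ // w.1 ∈ B} := by
  classical
  let H : Subgroup (G × G) := (⊤ : Subgroup G).prod (Subgroup.zpowers x)
  let χ : G × G →* A := (lam.comp (MonoidHom.fst G G)) * (lam.comp (MonoidHom.snd G G))⁻¹
  have hχ : ∀ a b : G, χ (a, b) = lam a * (lam b)⁻¹ := fun a b => rfl
  letI : MulAction H A := MulAction.compHom A (χ.comp H.subtype)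
  have hsm : ∀ (h : H) (c : A), h • c = χ h.1 * c := fun h c => rfl
  obtain ⟨g, hg⟩ := exists_equivariant_on (H := H) (X := X) (Y := A) B
    (fun h w hw => hB h.1.1 h.1.2 h.2.2 w hw) (fun w hw => ⟨1, fun h hfix => by
      rw [hsm, mul_one]
      have := hst w hw h.1.1 h.1.2 h.2.2 hfix
      show lam h.1.1 * (lam h.1.2)⁻¹ = 1
      rw [this, mul_inv_cancel]⟩)
  have hg' : ∀ a b : G, b ∈ Subgroup.zpowers x → ∀ w ∈ B, g ((a, b) • w) = lam a * (lam b)⁻¹ * g w :=
    fun a b hb w hw => hg ⟨(a, b), Subgroup.mem_top _, hb⟩ w hw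
  have hx : x ∈ Subgroup.zpowers x := Subgroup.mem_zpowers x
  have hhat : ∀ w : X0 γ, (hat hγ (rgt x) (eqv_rgt x) w).1 ∈ B ↔ w.1 ∈ B := by
    intro w
    constructor
    · intro h
      have h1 : (γ ((rgt x : X ≃ X) w.1), (1 : G)) • (hat hγ (rgt x) (eqv_rgt x) w).1 =
          (rgt x : X ≃ X) w.1 := smul_nrm hγ _
      have h2 := hB (γ ((rgt x : X ≃ X) w.1)) 1 (one_mem _) _ h
      rw [h1, rgt_apply] at h2
      have h3 := hB 1 x⁻¹ (inv_mem hx) _ h2
      rw [smul_smul] at h3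
      have e1 : ((1 : G), x⁻¹) * ((1 : G), x) = 1 := by
        ext <;> simp
      rwa [e1, one_smul] at h3
    · intro h
      exact hB _ 1 (one_mem _) _ (hB 1 x hx _ h)
  let G₁ : X0 γ → A := fun w => if w.1 ∈ B then g w.1 else 1
  have key : ∀ w : X0 γ, (if w.1 ∈ B then lam (γ (((1 : G), x) • w.1)) else 1) =
      (if w.1 ∈ B then (lam x)⁻¹ else 1) * (G₁ w * (G₁ (hat hγ (rgt x) (eqv_rgt x) w))⁻¹) := by
    intro w
    by_cases hw : w.1 ∈ B
    · have hw' := (hhat w).2 hw
      simp only [G₁, if_pos hw, if_pos hw']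
      have h1 : (γ ((rgt x : X ≃ X) w.1), (1 : G)) • (hat hγ (rgt x) (eqv_rgt x) w).1 =
          (rgt x : X ≃ X) w.1 := smul_nrm hγ _
      have h2 := hg' (γ ((rgt x : X ≃ X) w.1)) 1 (one_mem _) _ hw'
      rw [h1, rgt_apply, hg' 1 x hx _ hw] at h2
      simp only [map_one, inv_one, mul_one, one_mul] at h2
      rw [← mul_assoc, h2]
      simp
    · have hw' : ¬ (hat hγ (rgt x) (eqv_rgt x) w).1 ∈ B := fun h => hw ((hhat w).1 h)
      simp only [G₁, if_neg hw, if_neg hw']
      simp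
  rw [finprod_congr key, finprod_mul_distrib (Set.toFinite _) (Set.toFinite _),
    finprod_mul_distrib (Set.toFinite _) (Set.toFinite _), finprod_inv_distrib,
    finprod_comp_equiv (hat hγ (rgt x) (eqv_rgt x)) (f := G₁), mul_inv_cancel, mul_one]
  exact finprod_ite_const γ B _

end Cfsg.Agent.Lib.Helper86Eval
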