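import Mathlib
import Cfsg.Agent.Lib.Helper3PGroup

set_option autoImplicit false

namespace Cfsg.Agent.Lib.Helper86Wreath

open Subgroup MulAction

theorem card_sylow_perm (p : ℕ) [Fact p.Prime] (W : Sylow p (Equiv.Perm (Fin (p ^ 2)))) :
    Nat.card W = p ^ (p + 1) := by
  have hp : p.Prime := Fact.out
  have h1 : padicValNat p (Nat.factorial p) = 1 := by
    have := padicValNat_factorial_mul (p := p) 1
    simpa using this
  rw [Sylow.card_eq_multiplicity, Nat.card_perm, Nat.card_eq_fintype_card, Fintype.card_fin,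
    Nat.factorization_def _ hp, pow_two, padicValNat_factorial_mul, h1, add_comm]

theorem exists_surj_of_index {G : Type*} [Group G] [Finite G] {p : ℕ} [Fact p.Prime]
    (hG : IsPGroup p G) (M : Subgroup G) (hM : M.index = p ^ 2)
    (hK : p ^ (p + 1) ≤ M.normalCore.index) :
    ∃ (W : Sylow p (Equiv.Perm (Fin (p ^ 2))))
      (f : G →* ↥(W : Subgroup (Equiv.Perm (Fin (p ^ 2))))), Function.Surjective f := by
  have hcard : Nat.card (G ⧸ M) = p ^ 2 := hM
  have e : (G ⧸ M) ≃ Fin (p ^ 2) := Finite.equivFinOfCardEq hcard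
  let ρ : G →* Equiv.Perm (Fin (p ^ 2)) :=
    (Equiv.permCongrHom e).toMonoidHom.comp (MulAction.toPermHom G (G ⧸ M))
  have hker : ρ.ker = M.normalCore := by
    rw [Subgroup.normalCore_eq_ker]
    ext g
    simp [ρ, MonoidHom.mem_ker]
  have hr : IsPGroup p ρ.range := hG.of_surjective ρ.rangeRestrict ρ.rangeRestrict_surjective
  obtain ⟨W, hW⟩ := hr.exists_le_sylow
  have hcr : Nat.card ρ.range = M.normalCore.index := by rw [← hker, Subgroup.index_ker]
  have heq : ρ.range = W := Subgroup.eq_of_le_of_card_ge hW (by rw [card_sylow_perm, hcr]; exact hK)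
  refine ⟨W, ρ.codRestrict W (fun g => hW ⟨g, rfl⟩), fun w => ?_⟩
  have hw : (w : Equiv.Perm (Fin (p ^ 2))) ∈ ρ.range := by rw [heq]; exact w.2
  obtain ⟨g, hg⟩ := hw
  exact ⟨g, Subtype.ext hg⟩

/-- an invariant subgroup of `C ^ ι` not contained in the kernel of the product map is everything. -/
theorem eq_top_of_prod_ne_one {G ι C : Type*} [Group G] [MulAction G ι] [Finite ι]
    [IsPretransitive G ι] {p : ℕ} [Fact p.Prime] (hG : IsPGroup p G) [CommGroup C]
    (hC : Nat.card C = p) (V : Subgroup (ι → C))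
    (hV : ∀ (t : G), ∀ v ∈ V, (fun c => v (t • c)) ∈ V) (v₀ : ι → C) (hv₀ : v₀ ∈ V)
    (hne : ∏ᶠ c, v₀ c ≠ 1) : V = ⊤ := by
  classical
  by_contra hVt
  have hp : p.Prime := Fact.out
  haveI : Finite C := Nat.finite_of_card_ne_zero (by rw [hC]; exact hp.ne_zero)
  haveI := Fintype.ofFinite ι
  have hCp : ∀ c : C, c ^ p = 1 := fun c => by rw [← hC]; exact pow_card_eq_one'
  have hE : IsPGroup p (ι → C) := fun e => ⟨1, by
    funext c
    simp [hCp]⟩
  obtain ⟨U, hU, hVU⟩ := (eq_top_or_exists_le_coatom V).resolve_left hVt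
  have hUi : Nat.card ((ι → C) ⧸ U) = p := Cfsg.Agent.Lib.Helper3PGroup.coatom_index hE hU
  let iso : ((ι → C) ⧸ U) ≃* C := mulEquivOfPrimeCardEq hUi hC
  let χ₀ : (ι → C) →* C := iso.toMonoidHom.comp (QuotientGroup.mk' U)
  have hχ₀ : ∀ e, χ₀ e = 1 ↔ e ∈ U := by
    intro e
    show iso (QuotientGroup.mk' U e) = 1 ↔ _
    rw [map_eq_one_iff iso iso.injective]
    exact QuotientGroup.eq_one_iff e
  let 𝒜 : Subgroup ((ι → C) →* C) :=
    { carrier := {χ | ∀ v ∈ V, χ v = 1}
      mul_mem' := fun {a b} ha hb v hv => by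
        rw [MonoidHom.mul_apply, ha v hv, hb v hv, one_mul]
      one_mem' := fun v _ => rfl
      inv_mem' := fun {a} ha v hv => by
        rw [MonoidHom.inv_apply, ha v hv, inv_one] }
  let sh : G → (ι → C) →* (ι → C) := fun t =>
    { toFun := fun e c => e (t • c), map_one' := rfl, map_mul' := fun _ _ => rfl }
  have hsh : ∀ t e c, sh t e c = e (t • c) := fun _ _ _ => rfl
  letI : MulAction G 𝒜 :=
    { smul := fun t χ => ⟨χ.1.comp (sh t), fun v hv => χ.2 _ (hV t v hv)⟩
      one_smul := fun χ => Subtype.ext (MonoidHom.ext fun e => by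
        show χ.1 (sh 1 e) = χ.1 e
        congr 1
        funext c
        rw [hsh, one_smul])
      mul_smul := fun t t' χ => Subtype.ext (MonoidHom.ext fun e => by
        show χ.1 (sh (t * t') e) = χ.1 (sh t' (sh t e))
        congr 1
        funext c
        rw [hsh, hsh, hsh, mul_smul]) }
  have hsm : ∀ (t : G) (χ : 𝒜) e, (t • χ).1 e = χ.1 (sh t e) := fun _ _ _ => rfl
  haveI : Finite ((ι → C) →* C) := Finite.of_injective _ DFunLike.coe_injective
  have hAp : IsPGroup p 𝒜 := fun χ => ⟨1, by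
    apply Subtype.ext
    apply MonoidHom.ext
    intro e
    simp [hCp]⟩
  have hAne : Nat.card 𝒜 ≠ 1 := by
    intro h1
    have h2 : 𝒜 = ⊥ := Subgroup.card_eq_one.1 h1
    have h3 : χ₀ ∈ 𝒜 := fun v hv => (hχ₀ v).2 (hVU hv)
    rw [h2, Subgroup.mem_bot] at h3
    apply hU.1
    rw [eq_top_iff]
    intro e _
    rw [← hχ₀, h3]
    rfl
  have hdvd : p ∣ Nat.card 𝒜 := hAp.card_eq_or_dvd.resolve_left hAne
  have hfix1 : (1 : 𝒜) ∈ fixedPoints G 𝒜 := fun t => Subtype.ext (MonoidHom.ext fun e => rfl)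
  obtain ⟨χ, hχfix, hχ1⟩ := hG.exists_fixed_point_of_prime_dvd_card_of_fixed_point 𝒜 hdvd hfix1
  have hχsh : ∀ t e, χ.1 (sh t e) = χ.1 e := fun t e => by
    rw [← hsm, hχfix t]
  obtain ⟨c₀⟩ : Nonempty ι := by
    by_contra hemp
    rw [not_nonempty_iff] at hemp
    exact hne (finprod_of_isEmpty _)
  let κ : C →* C := χ.1.comp (MonoidHom.mulSingle (fun _ : ι => C) c₀)
  have hκ : ∀ c a, χ.1 (Pi.mulSingle c a) = κ a := by
    intro c a
    obtain ⟨t, rfl⟩ := exists_smul_eq G c₀ c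
    rw [← hχsh t]
    show _ = χ.1 (Pi.mulSingle c₀ a)
    congr 1
    funext c
    rw [hsh]
    by_cases hc : c = c₀
    · subst hc; simp
    · rw [Pi.mulSingle_eq_of_ne hc, Pi.mulSingle_eq_of_ne]
      intro h
      exact hc (smul_left_cancel t h)
  have hχκ : ∀ e : ι → C, χ.1 e = κ (∏ c, e c) := by
    intro e
    conv_lhs => rw [← Finset.univ_prod_mulSingle e]
    rw [map_prod, map_prod]
    exact Finset.prod_congr rfl fun c _ => hκ c _
  haveI : Fact (Nat.card C).Prime := ⟨by rw [hC]; exact hp⟩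
  rcases κ.ker.eq_bot_or_eq_top_of_prime_card with h | h
  · apply hne
    rw [finprod_eq_prod_of_fintype]
    have h1 : ∏ c, v₀ c ∈ κ.ker := by
      rw [MonoidHom.mem_ker, ← hχκ]
      exact χ.2 v₀ hv₀
    rwa [h, Subgroup.mem_bot] at h1
  · apply hχ1
    apply Subtype.ext
    apply MonoidHom.ext
    intro e
    symm
    rw [hχκ]
    have : ∏ c, e c ∈ κ.ker := by rw [h]; exact Subgroup.mem_top _
    exact this

/-- the wreath product quotient from an equivariant family of characters with nontrivial norm. -/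
theorem wreath_of_family {G : Type*} [Group G] [Finite G] {p : ℕ} [Fact p.Prime]
    (hG : IsPGroup p G) (H : Subgroup G) [hHn : H.Normal] (hH : H.index = p) {C : Type*}
    [CommGroup C] (hC : Nat.card C = p) (τ : G ⧸ H → (H →* C))
    (hτ : ∀ (t : G) (c : G ⧸ H) (h h' : H), (h' : G) = t * h * t⁻¹ → τ (t • c) h' = τ c h)
    (x₀ : H) (hx₀ : ∏ᶠ c, τ c x₀ ≠ 1) :
    ∃ (W : Sylow p (Equiv.Perm (Fin (p ^ 2))))
      (f : G →* ↥(W : Subgroup (Equiv.Perm (Fin (p ^ 2))))), Function.Surjective f := by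
  classical
  have hp : p.Prime := Fact.out
  let Θ : H →* (G ⧸ H → C) := MonoidHom.pi τ
  have hΘ : ∀ h c, Θ h c = τ c h := fun _ _ => rfl
  have htop : Θ.range = ⊤ := by
    apply eq_top_of_prod_ne_one hG hC Θ.range _ (Θ x₀) ⟨x₀, rfl⟩ hx₀
    rintro t _ ⟨h, rfl⟩
    refine ⟨⟨t⁻¹ * h * t, by simpa using hHn.conj_mem h h.2 t⁻¹⟩, ?_⟩
    funext c
    rw [hΘ, hΘ]
    symm
    apply hτ
    simp [mul_assoc]
  have hsurj : Function.Surjective Θ := MonoidHom.range_eq_top.1 htop
  let μ : H →* C := τ ((1 : G) : G ⧸ H)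
  have hμs : Function.Surjective μ := by
    intro a
    obtain ⟨h, hh⟩ := hsurj (fun _ => a)
    exact ⟨h, by rw [← hΘ, hh]⟩
  have hμi : μ.ker.index = p := by
    rw [Subgroup.index_ker, MonoidHom.range_eq_top.2 hμs, Subgroup.card_top, hC]
  let M : Subgroup G := μ.ker.map H.subtype
  have hMi : M.index = p ^ 2 := by
    rw [Subgroup.index_map_subtype, hμi, hH, pow_two]
  apply exists_surj_of_index hG M hMi
  have hMH : M ≤ H := Subgroup.map_subtype_le _
  have hKH : M.normalCore ≤ H := (Subgroup.normalCore_le M).trans hMH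
  have h1 : M.normalCore.subgroupOf H ≤ Θ.ker := by
    intro k hk
    rw [MonoidHom.mem_ker]
    funext c
    rw [hΘ]
    induction c using QuotientGroup.induction_on with
    | H t =>
      have h2 : t⁻¹ * (k : G) * t⁻¹⁻¹ ∈ M := hk t⁻¹
      obtain ⟨m, hm, hmk⟩ := h2
      have h3 := hτ t ((1 : G) : G ⧸ H) m k (by
        have : (m : G) = t⁻¹ * (k : G) * t⁻¹⁻¹ := hmk
        rw [this]; group)
      have h4 : t • ((1 : G) : G ⧸ H) = (t : G ⧸ H) := by
        rw [MulAction.Quotient.smul_coe, smul_eq_mul, mul_one]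
      rw [h4] at h3
      rw [h3]
      exact hm
  have h2 : Θ.ker.index = p ^ p := by
    rw [Subgroup.index_ker, htop, Subgroup.card_top, Nat.card_fun, hC]
    congr 1
  have h3 : p ^ p ∣ M.normalCore.relIndex H := by
    rw [← h2]
    exact Subgroup.index_dvd_of_le h1
  have h4 := Subgroup.relIndex_mul_index hKH
  rw [hH] at h4
  have h5 : p ^ (p + 1) ∣ M.normalCore.index := by
    rw [← h4, pow_succ]
    exact Nat.mul_dvd_mul_right h3 p
  exact Nat.le_of_dvd (Nat.pos_of_ne_zero Subgroup.index_ne_zero_of_finite) h5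

end Cfsg.Agent.Lib.Helper86Wreath
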