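import Mathlib
import Cfsg.Agent.Lib.Helper86Eval
import Cfsg.Agent.Lib.Helper86Wreath

set_option autoImplicit false

namespace Cfsg.Agent.Lib.Helper86Block

open MulAction Cfsg.Agent.Lib.Helper86Mono Cfsg.Agent.Lib.Helper86Eval
open Cfsg.Agent.Lib.Helper86Wreath

variable {G X A : Type*} [Group G] [MulAction (G × G) X] [CommGroup A]

/-- the part of the monomial determinant supported on `B`. -/
noncomputable def Tw (B : Set X) (ν : G → A) (γ : X → G) (g : X → X) : A :=
  ∏ᶠ w : X0 γ, (open Classical in if w.1 ∈ B then ν (γ (g w.1)) else 1)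

theorem Tw_comp [Finite X] (lam : G →* A) {γ : X → G} (hγ : Triv γ) (B B' : Set X) (e : X ≃ X)
    (he : Eqv (G := G) e) (g : X → X) (hg : Eqv (G := G) g)
    (hB' : ∀ (a : G) (w : X), (a, (1 : G)) • w ∈ B' ↔ w ∈ B') (hBB' : ∀ w, w ∈ B ↔ e w ∈ B') :
    Tw B lam γ (fun x => g (e x)) = Tw B lam γ e * Tw B' lam γ g := by
  classical
  unfold Tw
  rw [← finprod_comp_equiv (hat hγ e he)
    (f := fun w : X0 γ => if w.1 ∈ B' then lam (γ (g w.1)) else 1),
    ← finprod_mul_distrib (Set.toFinite _) (Set.toFinite _)]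
  apply finprod_congr
  intro w
  have h1 : (hat hγ e he w).1 ∈ B' ↔ w.1 ∈ B := by
    rw [hBB']
    exact hB' _ _
  by_cases hw : w.1 ∈ B
  · rw [if_pos hw, if_pos hw, if_pos (h1.2 hw), cocycle hγ e he g hg, map_mul]
  · rw [if_neg hw, if_neg hw, if_neg (fun h => hw (h1.1 h)), one_mul]

omit [MulAction (G × G) X] in
theorem prod_fiberwise [Finite X] {κ : Type*} [Finite κ] (γ : X → G) (cl : X → κ)
    (f : X0 γ → A) :
    ∏ᶠ k : κ, ∏ᶠ w : X0 γ, (open Classical in if cl w.1 = k then f w else 1) = ∏ᶠ w : X0 γ, f w := by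
  classical
  haveI := Fintype.ofFinite κ
  haveI := Fintype.ofFinite (X0 γ)
  simp only [finprod_eq_prod_of_fintype]
  rw [Finset.prod_comm]
  apply Finset.prod_congr rfl
  intro w _
  rw [Finset.prod_ite_eq]
  simp

/-- the part of the transfer supported on points whose stabilizers project into a maximal subgroup
`H` is trivial on `H` if there is no wreath product quotient. -/
theorem block_trivial [Finite G] [Finite X] {p : ℕ} [Fact p.Prime] (hG : IsPGroup p G)
    (hC : Nat.card A = p) (lam : G →* A) {γ : X → G} (hγ : Triv γ)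
    (hnw : ¬ ∃ (W : Sylow p (Equiv.Perm (Fin (p ^ 2))))
      (f : G →* ↥(W : Subgroup (Equiv.Perm (Fin (p ^ 2))))), Function.Surjective f)
    (H : Subgroup G) [hHn : H.Normal] (hH : H.index = p) (𝔅 : Set X)
    (hinv : ∀ (g : G × G) (w : X), w ∈ 𝔅 → g • w ∈ 𝔅)
    (hstab : ∀ w ∈ 𝔅, ∀ a b : G, (a, b) • w = w → b ∈ H) :
    (∀ c₀ : A, ∏ᶠ w : X0 γ, (open Classical in if w.1 ∈ 𝔅 then c₀ else 1) = 1) ∧
    ∀ x ∈ H, Tw 𝔅 lam γ (fun w => ((1 : G), x) • w) = 1 := by
  classical
  have hp : p.Prime := Fact.out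
  have hinv' : ∀ (g : G × G) (w : X), g • w ∈ 𝔅 ↔ w ∈ 𝔅 := fun g w =>
    ⟨fun h => by simpa using hinv g⁻¹ _ h, hinv g w⟩
  letI : MulAction (G × G) (G ⧸ H) := MulAction.compHom _ (MonoidHom.snd G G)
  have hact : ∀ (g : G × G) (c : G ⧸ H), g • c = g.2 • c := fun _ _ => rfl
  obtain ⟨β, hβ⟩ := exists_equivariant_on (H := G × G) (X := X) (Y := G ⧸ H) 𝔅
    (fun g w hw => hinv g w hw)
    (fun w hw => ⟨((1 : G) : G ⧸ H), fun g hfix => by
      rw [hact, MulAction.Quotient.smul_coe, smul_eq_mul, mul_one]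
      exact (QuotientGroup.eq_one_iff _).2 (hstab w hw g.1 g.2 hfix)⟩)
  let Y : G ⧸ H → Set X := fun c => {w | w ∈ 𝔅 ∧ β w = c}
  have hYl : ∀ c (a : G) (w : X), (a, (1 : G)) • w ∈ Y c ↔ w ∈ Y c := by
    intro c a w
    constructor
    · rintro ⟨h1, h2⟩
      have h3 := (hinv' _ _).1 h1
      rw [hβ _ _ h3, hact, one_smul] at h2
      exact ⟨h3, h2⟩
    · rintro ⟨h1, h2⟩
      refine ⟨hinv _ _ h1, ?_⟩
      rw [hβ _ _ h1, hact, one_smul]; exact h2
  have hYr : ∀ c (t : G) (w : X), w ∈ Y c ↔ (rgt t : X ≃ X) w ∈ Y (t • c) := by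
    intro c t w
    rw [rgt_apply]
    constructor
    · rintro ⟨h1, h2⟩
      refine ⟨hinv _ _ h1, ?_⟩
      rw [hβ _ _ h1, hact, h2]
    · rintro ⟨h1, h2⟩
      have h3 := (hinv' _ _).1 h1
      rw [hβ _ _ h3, hact] at h2
      exact ⟨h3, smul_left_cancel t h2⟩
  have hHc : ∀ (h : H) (c : G ⧸ H), (h : G) • c = c := by
    intro h c
    induction c using QuotientGroup.induction_on with
    | H t =>
      rw [MulAction.Quotient.smul_coe, smul_eq_mul, QuotientGroup.eq]
      have := hHn.conj_mem (h⁻¹ : H) (h⁻¹).2 t⁻¹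
      simpa [mul_assoc] using this
  let τ : G ⧸ H → (H →* A) := fun c =>
    MonoidHom.mk' (fun h => Tw (Y c) lam γ (fun w => ((1 : G), (h : G)) • w))
    (fun h h' => by
      have h1 := Tw_comp lam hγ (Y c) (Y c) (rgt (h' : G)) (eqv_rgt _)
        (fun w => ((1 : G), (h : G)) • w) (eqv_right _) (hYl c)
        (fun w => by have := hYr c h' w; rwa [hHc] at this)
      have h2 : (fun w : X => ((1 : G), (h : G)) • (rgt (h' : G) : X ≃ X) w) =
          fun w => ((1 : G), ((h * h' : H) : G)) • w := by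
        funext w; rw [rgt_apply, smul_smul]; simp
      rw [h2] at h1
      rw [h1, mul_comm]; rfl)
  have hτ : ∀ (t : G) (c : G ⧸ H) (h h' : H), (h' : G) = t * h * t⁻¹ → τ (t • c) h' = τ c h := by
    intro t c h h' hh
    have h1 := Tw_comp lam hγ (Y c) (Y c) (rgt (h : G)) (eqv_rgt _) (fun w => ((1 : G), t) • w)
      (eqv_right _) (hYl c) (fun w => by have := hYr c h w; rwa [hHc] at this)
    have h2 := Tw_comp lam hγ (Y c) (Y (t • c)) (rgt t) (eqv_rgt _)
      (fun w => ((1 : G), (h' : G)) • w) (eqv_right _) (hYl _) (hYr c t)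
    have h3 : (fun w : X => ((1 : G), t) • (rgt (h : G) : X ≃ X) w) =
        fun w => ((1 : G), (h' : G)) • (rgt t : X ≃ X) w := by
      funext w; rw [rgt_apply, rgt_apply, smul_smul, smul_smul, hh]; simp
    rw [h3, h2] at h1
    have h4 : Tw (Y c) lam γ (rgt t : X ≃ X) = Tw (Y c) lam γ (fun w => ((1 : G), t) • w) := rfl
    rw [h4, mul_comm] at h1
    exact mul_right_cancel h1
  have hdec : ∀ f : X0 γ → A, ∏ᶠ c : G ⧸ H, ∏ᶠ w : X0 γ, (if w.1 ∈ Y c then f w else 1) =
      ∏ᶠ w : X0 γ, (if w.1 ∈ 𝔅 then f w else 1) := by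
    intro f
    rw [← prod_fiberwise γ β (fun w => if w.1 ∈ 𝔅 then f w else 1)]
    apply finprod_congr; intro c
    apply finprod_congr; intro w
    by_cases h1 : w.1 ∈ 𝔅 <;> by_cases h2 : β w.1 = c <;> simp [Y, h1, h2]
  refine ⟨?_, ?_⟩
  · intro c₀
    rw [← hdec (fun _ => c₀)]
    let g : G ⧸ H → A := fun c => ∏ᶠ w : X0 γ, (if w.1 ∈ Y c then c₀ else 1)
    have hg : ∀ (t : G) c, g (t • c) = g c := by
      intro t c
      show ∏ᶠ w : X0 γ, (if w.1 ∈ Y (t • c) then c₀ else 1) = _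
      rw [← finprod_comp_equiv (hat hγ (rgt t) (eqv_rgt t))]
      apply finprod_congr; intro w
      have : (hat hγ (rgt t) (eqv_rgt t) w).1 ∈ Y (t • c) ↔ w.1 ∈ Y c := by
        rw [hYr c t]; exact hYl _ _ _
      simp only [this]
    have hg1 : ∀ c, g c = g ((1 : G) : G ⧸ H) := by
      intro c
      induction c using QuotientGroup.induction_on with
      | H t =>
        rw [← hg t ((1 : G) : G ⧸ H)]; congr 1; rw [MulAction.Quotient.smul_coe, smul_eq_mul, mul_one]
    show ∏ᶠ c, g c = 1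
    haveI := Fintype.ofFinite (G ⧸ H)
    rw [finprod_congr hg1, finprod_eq_prod_of_fintype, Finset.prod_const, Finset.card_univ,
      ← Nat.card_eq_fintype_card]
    have h5 : Nat.card (G ⧸ H) = Nat.card A := by rw [hC]; exact hH
    rw [h5]
    exact pow_card_eq_one'
  · intro x hx
    by_contra hne
    apply hnw
    apply wreath_of_family hG H hH hC τ hτ ⟨x, hx⟩
    have h6 := hdec (fun w => lam (γ (((1 : G), x) • w.1)))
    intro h7
    apply hne
    have h8 : ∀ c, τ c ⟨x, hx⟩ =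
        ∏ᶠ w : X0 γ, (if w.1 ∈ Y c then lam (γ (((1 : G), x) • w.1)) else 1) := fun c => by
      show Tw (Y c) lam γ (fun w => ((1 : G), x) • w) = _
      unfold Tw
      apply finprod_congr; intro w
      by_cases hw : w.1 ∈ Y c
      · rw [if_pos hw, if_pos hw]
      · rw [if_neg hw, if_neg hw]
    unfold Tw
    rw [← h6, ← finprod_congr h8]
    exact h7

omit [MulAction (G × G) X] [CommGroup A] in
theorem orderOf_lt_of_mem [Finite G] {x b : G} {H : Subgroup G} (hb : b ∈ Subgroup.zpowers x)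
    (hbH : b ∈ H) (hx : x ∉ H) : orderOf b < orderOf x := by
  have h1 : orderOf b ∣ orderOf x := orderOf_dvd_of_mem_zpowers hb
  have h2 : orderOf b ≤ orderOf x := Nat.le_of_dvd (orderOf_pos x) h1
  rcases lt_or_eq_of_le h2 with h | h
  · exact h
  · exfalso
    have h3 : Subgroup.zpowers b = Subgroup.zpowers x :=
      Subgroup.eq_of_le_of_card_ge (Subgroup.zpowers_le.2 hb)
        (by rw [Nat.card_zpowers, Nat.card_zpowers, h])
    apply hx
    have h4 : x ∈ Subgroup.zpowers b := by rw [h3]; exact Subgroup.mem_zpowers x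
    exact (Subgroup.zpowers_le.2 hbH) h4

/-- evaluation of the biset transfer of a character of order `p`, in the absence of wreath product
quotients. -/
theorem eval_total [Finite G] [Finite X] {p : ℕ} [Fact p.Prime] (hG : IsPGroup p G)
    (hC : Nat.card A = p) (lam : G →* A) {γ : X → G} (hγ : Triv γ)
    (hnw : ¬ ∃ (W : Sylow p (Equiv.Perm (Fin (p ^ 2))))
      (f : G →* ↥(W : Subgroup (Equiv.Perm (Fin (p ^ 2))))), Function.Surjective f) (x : G)
    (h1 : ∀ w : X, (∀ b : G, ∃ a : G, (a, b) • w = w) → ∀ a b : G, (a, b) • w = w → lam a = lam b)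
    (h2 : ∀ (w : X) (a b : G), (a, b) • w = w → orderOf b < orderOf x → lam a = lam b) :
    T lam γ (fun w => ((1 : G), x) • w) = (lam x)⁻¹ ^ Nat.card (X0 γ) := by
  let cl : X → Quotient (orbitRel (G × G) X) := fun w => Quotient.mk _ w
  have hcl : ∀ (g : G × G) w, cl (g • w) = cl w :=
    fun g w => Quotient.sound (s := orbitRel (G × G) X) ⟨g, rfl⟩
  have e1 := prod_fiberwise γ cl (fun w => lam (γ (((1 : G), x) • w.1)))
  have e2 := prod_fiberwise γ cl (fun _ => (lam x)⁻¹)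
  unfold T
  rw [← e1, ← finprod_const_X0, ← e2]
  apply finprod_congr
  intro o
  obtain ⟨w₀, rfl⟩ := Quotient.exists_rep o
  let 𝔅 : Set X := {w | cl w = cl w₀}
  have hinv : ∀ (g : G × G) w, w ∈ 𝔅 → g • w ∈ 𝔅 := fun g w hw => (hcl g w).trans hw
  have hrep : ∀ w ∈ 𝔅, ∃ g : G × G, g • w₀ = w := by
    intro w hw
    have h3 : (orbitRel (G × G) X).r w w₀ := Quotient.exact hw
    exact h3
  by_cases htop : ∀ b : G, ∃ a : G, (a, b) • w₀ = w₀
  · have htop' : ∀ w ∈ 𝔅, ∀ b : G, ∃ a : G, (a, b) • w = w := by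
      intro w hw b
      obtain ⟨g, rfl⟩ := hrep w hw
      obtain ⟨a, ha⟩ := htop (g.2⁻¹ * b * g.2)
      refine ⟨g.1 * a * g.1⁻¹, ?_⟩
      have h3 : ((g.1 * a * g.1⁻¹, b) : G × G) * g = g * (a, g.2⁻¹ * b * g.2) := by
        ext <;> simp [mul_assoc]
      rw [smul_smul, h3, mul_smul, ha]
    have h4 := eval_of_stab lam hγ x 𝔅 (fun a b _ w hw => hinv _ w hw)
      (fun w hw a b _ hfix => h1 w (htop' w hw) a b hfix)
    rw [← finprod_ite_const] at h4
    exact h4
  · push_neg at htop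
    obtain ⟨b₀, hb₀⟩ := htop
    let P : Subgroup G := (stabilizer (G × G) w₀).map (MonoidHom.snd G G)
    have hP : P ≠ ⊤ := by
      intro h
      have h3 : b₀ ∈ P := by rw [h]; exact Subgroup.mem_top _
      obtain ⟨⟨a, b⟩, hab, rfl⟩ := h3
      exact hb₀ a hab
    obtain ⟨H, hH, hPH⟩ := (eq_top_or_exists_le_coatom P).resolve_left hP
    haveI hHn : H.Normal := Cfsg.Agent.Lib.Helper3PGroup.coatom_normal hG hH
    have hHi := Cfsg.Agent.Lib.Helper3PGroup.coatom_index hG hH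
    have hstab : ∀ w ∈ 𝔅, ∀ a b : G, (a, b) • w = w → b ∈ H := by
      intro w hw a b hfix
      obtain ⟨g, rfl⟩ := hrep w hw
      have h3 : (g⁻¹ * (a, b) * g) • w₀ = w₀ := by
        rw [mul_smul, mul_smul, hfix, inv_smul_smul]
      have h4 : g.2⁻¹ * b * g.2 ∈ H := hPH ⟨_, h3, rfl⟩
      have h5 := hHn.conj_mem _ h4 g.2
      simpa [mul_assoc] using h5
    obtain ⟨hi, hii⟩ := block_trivial hG hC lam hγ hnw H hHi 𝔅 hinv hstab
    refine Eq.trans ?_ (hi (lam x)⁻¹).symm
    by_cases hx : x ∈ H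
    · exact hii x hx
    · have h4 := eval_of_stab lam hγ x 𝔅 (fun a b _ w hw => hinv _ w hw)
        (fun w hw a b hb hfix => h2 w a b hfix (orderOf_lt_of_mem hb (hstab w hw a b hfix) hx))
      rw [← finprod_ite_const, hi] at h4
      exact h4

end Cfsg.Agent.Lib.Helper86Block
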