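import Mathlib
import Cfsg.Agent.Lib.Helper89Fusion2
import Cfsg.Agent.Lib.Helper87KNorm
import Cfsg.Agent.Lib.Helper87NormSys

set_option autoImplicit false

/-! `p`-stability of a saturated fusion system versus its normalizer systems (helper86). -/

namespace Cfsg.Agent.Lib.Helper86PStab

open Cfsg Cfsg.FusionSystem Cfsg.Agent.Lib.Helper87Fusion Cfsg.Agent.Lib.Helper86Group
  Cfsg.Agent.Lib.Helper86Fusion Cfsg.Agent.Lib.Helper86Fusion2 Cfsg.Agent.Lib.Helper86Fusion3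
  Cfsg.Agent.Lib.Helper87Fusion2 Cfsg.Agent.Lib.Helper89Fusion Cfsg.Agent.Lib.Helper87NormSys

section core

variable {X : Type*} [Group X] {p : ℕ}

/-- `O_p(A)` as a subgroup of the ambient group. -/
def coreIn (p : ℕ) (A : Subgroup X) : Subgroup X := (pCore p ↥A).map A.subtype

theorem coreIn_le (A : Subgroup X) : coreIn p A ≤ A := by
  rintro _ ⟨a, -, rfl⟩
  exact a.2

theorem coreIn_isPGroup (A : Subgroup X) : IsPGroup p (coreIn p A) :=
  (Cfsg.Agent.Lib.Helper86Group.pCore_isPGroup p A).map _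

theorem coreIn_conj {A : Subgroup X} {a x : X} (ha : a ∈ A) (hx : x ∈ coreIn p A) :
    a * x * a⁻¹ ∈ coreIn p A := by
  obtain ⟨y, hy, rfl⟩ := hx
  exact ⟨⟨a, ha⟩ * y * ⟨a, ha⟩⁻¹,
    (Cfsg.Agent.Lib.Helper87Fusion3.pCore_normal p A).conj_mem y hy _, rfl⟩

theorem le_coreIn {A B : Subgroup X} (hBA : B ≤ A) (hB : IsPGroup p B)
    (hn : ∀ a ∈ A, ∀ b ∈ B, a * b * a⁻¹ ∈ B) : B ≤ coreIn p A := by
  intro b hb
  refine ⟨⟨b, hBA hb⟩, le_pCore (N := B.subgroupOf A) ⟨fun n hn' g => ?_⟩ ?_ ?_, rfl⟩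
  · exact hn g g.2 n hn'
  · exact hB.comap_subtype
  · exact hb

theorem coreIn_inf_le {A B : Subgroup X} (h : B ≤ A) : coreIn p A ⊓ B ≤ coreIn p B :=
  le_coreIn inf_le_right ((coreIn_isPGroup A).to_le inf_le_left)
    (fun _ ha _ hb => ⟨coreIn_conj (h ha) hb.1, B.mul_mem (B.mul_mem ha hb.2) (B.inv_mem ha)⟩)

theorem map_coreIn_le {Y : Type*} [Group Y] (e : X →* Y) (A : Subgroup X) :
    (coreIn p A).map e ≤ coreIn p (A.map e) :=
  le_coreIn (Subgroup.map_mono (coreIn_le A)) ((coreIn_isPGroup A).map e) (by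
    rintro _ ⟨a, ha, rfl⟩ _ ⟨b, hb, rfl⟩
    exact ⟨a * b * a⁻¹, coreIn_conj ha hb, by simp⟩)

theorem mem_coreIn_of_equiv {Y : Type*} [Group Y] (c : X ≃* Y) {A : Subgroup X} {A' : Subgroup Y}
    (h1 : ∀ x, x ∈ A ↔ c x ∈ A') {x : X} (hx : c x ∈ coreIn p A') : x ∈ coreIn p A := by
  have hA : A'.map c.symm.toMonoidHom = A := by
    ext y
    constructor
    · rintro ⟨z, hz, rfl⟩
      rw [h1]
      simpa using hz
    · intro hy
      exact ⟨c y, (h1 y).1 hy, by simp⟩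
  have := map_coreIn_le (p := p) c.symm.toMonoidHom A' ⟨c x, hx, rfl⟩
  rw [hA] at this
  simpa using this

theorem normal_le_sylow [Finite X] [Fact p.Prime] {N : Subgroup X} (hN : N.Normal)
    (hp : IsPGroup p N) (R : Sylow p X) : N ≤ R := by
  obtain ⟨R', hR'⟩ := hp.exists_le_sylow
  obtain ⟨g, rfl⟩ := MulAction.exists_smul_eq X R' R
  intro x hx
  rw [Sylow.coe_subgroup_smul, Subgroup.mem_pointwise_smul_iff_inv_smul_mem]
  apply hR'
  have := hN.conj_mem x hx g⁻¹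
  simpa [MulAut.smul_def] using this

/-- the quadratic action condition of the statements -/
def Quad {Q : Type*} [Group Q] (χ : MulAut Q) : Prop :=
  ∀ a : Q, (χ a⁻¹) * a * (χ a⁻¹) * (χ (χ a)) = 1

theorem Quad.congr {Q Q' : Type*} [Group Q] [Group Q'] (e : Q ≃* Q') {χ : MulAut Q} (h : Quad χ) :
    Quad (MulAut.congr e χ) := by
  intro b
  obtain ⟨a, rfl⟩ := e.surjective b
  have := congrArg e (h a)
  simpa [MulAut.congr] using this

end core

variable {Ω : Type*} [Group Ω] {S : Subgroup Ω}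

/-- the automorphisms of `Q` induced by the elements of `Aut_F(P)` stabilising `Q`. -/
def resAut (F : FusionSystem S) {P Q : Subgroup Ω} (hP : P ≤ S) (hQP : Q ≤ P) :
    Subgroup (MulAut Q) where
  carrier := {χ | ∃ f, IsMap F P f ∧ f '' (P : Set Ω) = (P : Set Ω) ∧
    ∀ x : Q, f x = ((χ x : Q) : Ω)}
  one_mem' := ⟨id, isMap_id F hP, Set.image_id _, fun x => rfl⟩
  mul_mem' := by
    rintro χ ψ ⟨f, hf, hfP, hfχ⟩ ⟨g, hg, hgP, hgψ⟩
    refine ⟨fun x => f (g x), hg.comp hf (fun x hx => IsMap.mem_image hgP hx), ?_, fun x => ?_⟩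
    · conv_rhs => rw [← hfP, ← hgP]
      rw [Set.image_image]
    · show f (g x) = ((χ (ψ x) : Q) : Ω)
      rw [hgψ, hfχ]
  inv_mem' := by
    rintro χ ⟨f, hf, hfP, hfχ⟩
    obtain ⟨g, hg, hgf, hfg, hgP⟩ := hf.inv hfP
    refine ⟨g, hg, hgP, fun x => ?_⟩
    have := hgf ((χ⁻¹ x : Q) : Ω) (hQP (χ⁻¹ x).2)
    rw [hfχ] at this
    simpa using this

theorem mem_resAut {F : FusionSystem S} {P Q : Subgroup Ω} {hP : P ≤ S} {hQP : Q ≤ P}
    {χ : MulAut Q} : χ ∈ resAut F hP hQP ↔ ∃ f, IsMap F P f ∧ f '' (P : Set Ω) = (P : Set Ω) ∧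
    ∀ x : Q, f x = ((χ x : Q) : Ω) := Iff.rfl

theorem resAut_self (F : FusionSystem S) {Q : Subgroup Ω} (hQ : Q ≤ S) :
    resAut F hQ le_rfl = F.autGroup Q := by
  ext χ
  constructor
  · rintro ⟨f, hf, -, hfχ⟩
    exact (mem_autGroup_iff_isMap F hQ χ (fun x => (hfχ x).symm)).2 hf
  · intro h
    exact ⟨totA χ, (mem_autGroup_iff_totA F hQ χ).1 h, totA_image χ, fun x => totA_apply χ x⟩

/-- stability of the pair `(P, Q)` -/
def Stab (p : ℕ) (F : FusionSystem S) {P Q : Subgroup Ω} (hP : P ≤ S) (hQP : Q ≤ P) : Prop :=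
  ∀ χ ∈ resAut F hP hQP, Quad χ → χ ∈ coreIn p (resAut F hP hQP)

theorem congr_mem_resAut {F : FusionSystem S} {P Q P' Q' : Subgroup Ω} {φ : Ω → Ω}
    (hφ : IsMap F P φ) (hP' : φ '' (P : Set Ω) = (P' : Set Ω)) (hQP : Q ≤ P) (hP'S : P' ≤ S)
    (hQP' : Q' ≤ P') (e : Q ≃* Q') (he : ∀ x : Q, ((e x : Q') : Ω) = φ x) {χ : MulAut Q}
    (hχ : χ ∈ resAut F hφ.le hQP) : MulAut.congr e χ ∈ resAut F hP'S hQP' := by
  obtain ⟨f, hf, hfP, hfχ⟩ := hχ
  obtain ⟨φ', hφ', hφ'φ, hφφ', hφ'P⟩ := hφ.inv hP'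
  refine ⟨fun y => φ (f (φ' y)), ?_, ?_, fun y => ?_⟩
  · exact (hφ'.comp hf (fun y hy => IsMap.mem_image hφ'P hy)).comp hφ
      (fun y hy => IsMap.mem_image hfP (IsMap.mem_image hφ'P hy))
  · conv_rhs => rw [← hP', ← hfP, ← hφ'P]
    rw [Set.image_image, Set.image_image]
  · obtain ⟨x, rfl⟩ := e.surjective y
    show φ (f (φ' ((e x : Q') : Ω))) = _
    rw [he, hφ'φ x (hQP x.2), hfχ, ← he]
    simp [MulAut.congr]

theorem stab_transport {p : ℕ} {F : FusionSystem S} {P Q P' Q' : Subgroup Ω} {φ : Ω → Ω}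
    (hφ : IsMap F P φ) (hP' : φ '' (P : Set Ω) = (P' : Set Ω)) (hQP : Q ≤ P)
    (hQ' : φ '' (Q : Set Ω) = (Q' : Set Ω)) (hP'S : P' ≤ S) (hQP' : Q' ≤ P')
    (h : Stab p F hP'S hQP') : Stab p F hφ.le hQP := by
  intro χ hχ hq
  obtain ⟨e, he⟩ := exists_mulEquiv (hφ.restrict hQP) hQ'
  obtain ⟨φ', hφ', hφ'φ, hφφ', hφ'P⟩ := hφ.inv hP'
  refine mem_coreIn_of_equiv (MulAut.congr e) (fun ψ => ⟨fun hψ => ?_, fun hψ => ?_⟩)
    (h _ (congr_mem_resAut hφ hP' hQP hP'S hQP' e he hχ) (hq.congr e))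
  · exact congr_mem_resAut hφ hP' hQP hP'S hQP' e he hψ
  · have he' : ∀ y : Q', ((e.symm y : Q) : Ω) = φ' y := by
      intro y
      obtain ⟨x, rfl⟩ := e.surjective y
      rw [he, hφ'φ x (hQP x.2)]
      simp
    have := congr_mem_resAut hφ' hφ'P hQP' hφ.le hQP e.symm he' hψ
    have h2 : MulAut.congr e.symm (MulAut.congr e ψ) = ψ := by
      ext x
      simp [MulAut.congr]
    rwa [h2] at this

/-- `T1`: stability at the fully normalized subgroups gives stability everywhere. -/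
theorem stable_all [Finite S] {p : ℕ} (F : FusionSystem S)
    (H : ∀ Q : Subgroup Ω, F.IsFullyNormalized Q → ∀ χ : MulAut ↥Q, χ ∈ F.autGroup Q → Quad χ →
      χ ∈ coreIn p (F.autGroup Q)) {Q : Subgroup Ω} (hQ : Q ≤ S) {χ : MulAut Q}
    (hχ : χ ∈ F.autGroup Q) (hq : Quad χ) : χ ∈ coreIn p (F.autGroup Q) := by
  obtain ⟨Q', hQQ', hQ'⟩ := exists_fullyNormalized_conj F hQ
  obtain ⟨φ, hφ, hφQ⟩ := isConj_iff.1 hQQ'
  have h1 : Stab p F hQ'.1 le_rfl := by
    intro ψ hψ hq'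
    rw [resAut_self] at hψ ⊢
    exact H Q' hQ' ψ hψ hq'
  have h2 := stab_transport hφ hφQ le_rfl hφQ hQ'.1 le_rfl h1
  have h3 := h2 χ (by rw [resAut_self]; exact hχ) hq
  rwa [resAut_self] at h3

theorem inn_le_coreIn {p : ℕ} (hS : IsPGroup p S) (F : FusionSystem S) {P : Subgroup Ω}
    (hP : P ≤ S) : Inn P ≤ coreIn p (F.autGroup P) := by
  refine le_coreIn (inn_le_autGroup F hP)
    ((autInducedBy_isPGroup hS P).to_le (inn_le_autInducedBy hP)) ?_
  intro a _ b hb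
  obtain ⟨u, hu, hub⟩ := (mem_inn_iff b).1 hb
  refine (mem_inn_iff _).2 ⟨(a ⟨u, hu⟩ : P), (a ⟨u, hu⟩).2, fun x => ?_⟩
  have h1 : b (a⁻¹ x) = ⟨u, hu⟩ * (a⁻¹ x) * ⟨u, hu⟩⁻¹ := Subtype.ext (hub _)
  show ((a (b (a⁻¹ x)) : P) : Ω) = _
  rw [h1]
  simp

theorem coreIn_le_autInducedBy [Finite S] {p : ℕ} [Fact p.Prime] {F : FusionSystem S}
    {P : Subgroup Ω} (h : F.IsFullyAutomized p P) : coreIn p (F.autGroup P) ≤ autInducedBy S P := by
  have : Finite P := finite_of_le h.1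
  obtain ⟨R, hR⟩ := h.2
  rintro _ ⟨a, ha, rfl⟩
  have h1 : a ∈ (R : Subgroup (F.autGroup P)) :=
    normal_le_sylow (Cfsg.Agent.Lib.Helper87Fusion3.pCore_normal p _)
      (Cfsg.Agent.Lib.Helper86Group.pCore_isPGroup p _) R ha
  rw [hR] at h1
  exact h1

/-- the preimage in `N_S(P)` of `O_p(Aut_F(P))` -/
def star (p : ℕ) (F : FusionSystem S) (P : Subgroup Ω) : Subgroup Ω where
  carrier := {x | x ∈ S ∧ ∃ α ∈ coreIn p (F.autGroup P), ∀ u : P, ((α u : P) : Ω) = x * u * x⁻¹}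
  one_mem' := ⟨S.one_mem, 1, one_mem _, fun u => by simp⟩
  mul_mem' := by
    rintro x y ⟨hx, α, hα, hαx⟩ ⟨hy, β, hβ, hβy⟩
    refine ⟨S.mul_mem hx hy, α * β, mul_mem hα hβ, fun u => ?_⟩
    show ((α (β u) : P) : Ω) = _
    rw [hαx, hβy]; group
  inv_mem' := by
    rintro x ⟨hx, α, hα, hαx⟩
    refine ⟨S.inv_mem hx, α⁻¹, inv_mem hα, fun u => ?_⟩
    have := hαx (α⁻¹ u)
    rw [show α (α⁻¹ u) = u by simp] at this
    rw [this]; group

theorem mem_star {p : ℕ} {F : FusionSystem S} {P : Subgroup Ω} {x : Ω} :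
    x ∈ star p F P ↔ x ∈ S ∧ ∃ α ∈ coreIn p (F.autGroup P),
      ∀ u : P, ((α u : P) : Ω) = x * u * x⁻¹ := Iff.rfl

theorem star_le (p : ℕ) (F : FusionSystem S) (P : Subgroup Ω) : star p F P ≤ S := fun _ h => h.1

theorem le_star {p : ℕ} (hS : IsPGroup p S) (F : FusionSystem S) {P : Subgroup Ω} (hP : P ≤ S) :
    P ≤ star p F P := by
  intro x hx
  refine ⟨hP hx, MulAut.conj (⟨x, hx⟩ : P), inn_le_coreIn hS F hP ?_, fun u => rfl⟩
  exact (mem_inn_iff _).2 ⟨x, hx, fun u => rfl⟩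

theorem centralizerIn_le_star (p : ℕ) (F : FusionSystem S) (P : Subgroup Ω) :
    centralizerIn S P ≤ star p F P := by
  intro x hx
  obtain ⟨hxS, hxc⟩ := mem_centralizerIn.1 hx
  refine ⟨hxS, 1, one_mem _, fun u => ?_⟩
  have := hxc u u.2
  show (u : Ω) = x * u * x⁻¹
  rw [← this, mul_inv_cancel_right]

/-- every element of `Aut_F(P)` extends to an element of `Aut_F(P*)`. -/
theorem extend_star [Finite S] {p : ℕ} [Fact p.Prime] (hS : IsPGroup p S) {F : FusionSystem S}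
    {P : Subgroup Ω} (haut : F.IsFullyAutomized p P) (hrec : F.IsReceptive P) {f : Ω → Ω} (hf : IsMap F P f)
    (hfP : f '' (P : Set Ω) = (P : Set Ω)) :
    ∃ f', IsMap F (star p F P) f' ∧ f' '' (star p F P : Set Ω) = (star p F P : Set Ω) ∧
      ∀ x ∈ P, f' x = f x := by
  obtain ⟨β, hβ, hβf⟩ := hf.exists_aut hfP
  have key : ∀ g ∈ star p F P, ∀ α ∈ coreIn p (F.autGroup P),
      (∀ u : P, ((α u : P) : Ω) = g * u * g⁻¹) →
      ∀ x : P, (((β * α * β⁻¹) (β x) : P) : Ω) = f (g * x * g⁻¹) := by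
    intro g _ α _ hαg x
    have h1 : (β * α * β⁻¹) (β x) = β (α x) := by simp
    rw [h1, hβf, hαg]
  obtain ⟨f', hf', hf'f⟩ := isReceptive_extend (N := star p F P) hrec hf hfP (by
    rintro g hg
    obtain ⟨hgS, α, hα, hαg⟩ := id hg
    refine ⟨hgS, mem_normalizer_of_aut α hαg, ?_⟩
    have h1 : β * α * β⁻¹ ∈ autInducedBy S P := coreIn_le_autInducedBy haut (coreIn_conj hβ hα)
    obtain ⟨h, hh, hh'⟩ := (mem_autInducedBy_iff S P _).1 h1
    refine ⟨h, hh, fun x hx => ?_⟩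
    rw [← key g hg α hα hαg ⟨x, hx⟩, hh', hβf])
  have hPle : P ≤ star p F P := le_star hS F haut.1
  refine ⟨f', hf', ?_, hf'f⟩
  apply image_eq_of_card_le hf' (star_le p F P) ?_ le_rfl
  intro g hg
  obtain ⟨hgS, α, hα, hαg⟩ := id hg
  refine ⟨hf'.mem hg, β * α * β⁻¹, coreIn_conj hβ hα, fun u => ?_⟩
  obtain ⟨v, rfl⟩ := β.surjective u
  rw [key g hg α hα hαg v, hβf, ← hf'f v v.2]
  have hgv : g * v * g⁻¹ ∈ P := by rw [← hαg]; exact (α v).2
  rw [← hf'f _ hgv, hf'.map_conj hg (hPle v.2)]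

theorem resAut_le_star [Finite S] {p : ℕ} [Fact p.Prime] (hS : IsPGroup p S) {F : FusionSystem S}
    {P Q : Subgroup Ω} (haut : F.IsFullyAutomized p P) (hrec : F.IsReceptive P) (hQP : Q ≤ P) :
    resAut F haut.1 hQP ≤ resAut F (star_le p F P) (hQP.trans (le_star hS F haut.1)) := by
  rintro χ ⟨f, hf, hfP, hfχ⟩
  obtain ⟨f', hf', hf'P, hf'f⟩ := extend_star hS haut hrec hf hfP
  exact ⟨f', hf', hf'P, fun x => by rw [hf'f x (hQP x.2), hfχ]⟩

theorem centric_radical_of_star_eq [Finite S] {p : ℕ} [Fact p.Prime] (hS : IsPGroup p S)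
    {F : FusionSystem S} {P : Subgroup Ω} (haut : F.IsFullyAutomized p P) (hrec : F.IsReceptive P)
    (h : star p F P = P) : F.IsCentric P ∧ F.IsRadical p P := by
  refine ⟨centric_of_centralizerIn_le hS F P haut hrec ((centralizerIn_le_star p F P).trans h.le),
    haut.1, le_antisymm ?_ (inn_le_coreIn hS F haut.1)⟩
  intro α hα
  obtain ⟨g, hg, hgα⟩ := (mem_autInducedBy_iff S P α).1 (coreIn_le_autInducedBy haut hα)
  have h1 : g ∈ star p F P := ⟨hg, α, hα, hgα⟩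
  rw [h] at h1
  exact (mem_inn_iff α).2 ⟨g, h1, hgα⟩

theorem autGroup_normalizerSystem {F : FusionSystem S} {P Q : Subgroup Ω} (hP : P ≤ S)
    (hQP : Q ≤ P) {N : FusionSystem (normalizerIn S P)} (hN : F.IsNormalizerSystem P N) :
    N.autGroup Q = resAut F hP hQP := by
  have hPN : P ≤ normalizerIn S P := le_normalizerIn hP
  have hQN : Q ≤ normalizerIn S P := hQP.trans hPN
  ext χ
  rw [mem_autGroup_iff N hQN, hN Q, mem_normalizerHom_iff]
  have hsup : Q ⊔ P = P := sup_eq_right.2 hQP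
  constructor
  · rintro ⟨h1, h2, h3, f', hf', hf'f, hf'P⟩
    rw [hsup] at hf'
    exact ⟨f', hf', hf'P, fun x => by rw [hf'f x x.2, tot_apply]; rfl⟩
  · rintro ⟨f, hf, hfP, hfχ⟩
    have h0 : ∀ x ∈ Q, f x = tot (Q.subtype.comp χ.toMonoidHom) x := by
      intro x hx
      rw [tot_of_mem _ hx]
      exact hfχ ⟨x, hx⟩
    refine ⟨(hf.restrict hQP).congr h0, hQN, fun x hx => ?_, f, by rw [hsup]; exact hf, h0, hfP⟩
    rw [← h0 x hx]
    exact hPN (IsMap.mem_image hfP (hQP hx))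

theorem autGroup_normalizerSystem_le {F : FusionSystem S} {R Q : Subgroup Ω}
    {N : FusionSystem (normalizerIn S R)} (hN : F.IsNormalizerSystem R N)
    (hQ : Q ≤ normalizerIn S R) : N.autGroup Q ≤ F.autGroup Q := by
  intro χ hχ
  rw [mem_autGroup_iff N hQ, hN Q] at hχ
  exact (mem_autGroup_iff F (hQ.trans (normalizerIn_le S R)) χ).2 hχ.1

theorem forward [Finite S] {p : ℕ} (F : FusionSystem S)
    (H : ∀ Q : Subgroup Ω, F.IsFullyNormalized Q → ∀ χ : MulAut ↥Q, χ ∈ F.autGroup Q → Quad χ →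
      χ ∈ coreIn p (F.autGroup Q)) {R Q : Subgroup Ω}
    {N : FusionSystem (normalizerIn S R)} (hN : F.IsNormalizerSystem R N)
    (hQ : Q ≤ normalizerIn S R) {χ : MulAut Q} (hχ : χ ∈ N.autGroup Q) (hq : Quad χ) :
    χ ∈ coreIn p (N.autGroup Q) :=
  coreIn_inf_le (autGroup_normalizerSystem_le hN hQ)
    ⟨stable_all F H (hQ.trans (normalizerIn_le S R)) (autGroup_normalizerSystem_le hN hQ hχ) hq, hχ⟩

theorem backward_aux [Finite S] {p : ℕ} [Fact p.Prime] (hS : IsPGroup p S) {F : FusionSystem S}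
    (hF : F.IsSaturated p)
    (H : ∀ R : Subgroup Ω, F.IsFullyNormalized R → F.IsCentric R → F.IsRadical p R →
      ∀ N : FusionSystem (normalizerIn S R), F.IsNormalizerSystem R N →
      ∀ Q : Subgroup Ω, N.IsFullyNormalized Q → ∀ χ : MulAut ↥Q, χ ∈ N.autGroup Q → Quad χ →
      χ ∈ coreIn p (N.autGroup Q)) :
    ∀ (n : ℕ) (P Q : Subgroup Ω) (hP : P ≤ S) (hQP : Q ≤ P), Nat.card S - Nat.card P = n →
      Stab p F hP hQP := by
  intro n
  induction n using Nat.strong_induction_on with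
  | _ n ih =>
    intro P Q hP hQP hn
    obtain ⟨P', hPP', hP'⟩ := exists_fullyNormalized_conj F hP
    obtain ⟨φ, hφ, hφP⟩ := isConj_iff.1 hPP'
    obtain ⟨Q', hQ'⟩ := hφ.exists_image_of_le hQP
    have hQP' : Q' ≤ P' := by
      intro y hy
      obtain ⟨x, hx, rfl⟩ := IsMap.exists_of_mem_image hQ' hy
      exact IsMap.mem_image hφP (hQP hx)
    refine stab_transport hφ hφP hQP hQ' hP'.1 hQP' ?_
    obtain ⟨-, haut, hrec⟩ := saturated_fullyNormalized hS hF hP'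
    by_cases hstar : star p F P' = P'
    · obtain ⟨hc, hr⟩ := centric_radical_of_star_eq hS haut hrec hstar
      obtain ⟨N, hN⟩ : ∃ N, F.IsNormalizerSystem P' N :=
        ⟨_, normData_isNormalizerSystem F P' hP'.1⟩
      have : Finite (normalizerIn S P') := finite_of_le (normalizerIn_le S P')
      intro χ hχ hq
      rw [← autGroup_normalizerSystem hP'.1 hQP' hN] at hχ ⊢
      exact stable_all N (H P' hP' hc hr N hN) (hQP'.trans (le_normalizerIn hP'.1)) hχ hq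
    · have hlt : P' < star p F P' := lt_of_le_of_ne (le_star hS F hP'.1) (Ne.symm hstar)
      have : Finite (star p F P') := finite_of_le (star_le p F P')
      have hcard : Nat.card P' < Nat.card (star p F P') := card_lt_card_of_lt hlt
      have hcard2 : Nat.card (star p F P') ≤ Nat.card S := Subgroup.card_le_of_le (star_le p F P')
      have hcard3 : Nat.card P = Nat.card P' := (isConj_card_eq hPP').symm
      have h1 := ih (Nat.card S - Nat.card (star p F P')) (by omega) (star p F P') Q'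
        (star_le p F P') (hQP'.trans hlt.le) rfl
      intro χ hχ hq
      have h2 := resAut_le_star hS haut hrec hQP' hχ
      exact coreIn_inf_le (resAut_le_star hS haut hrec hQP') ⟨h1 χ h2 hq, hχ⟩

theorem backward [Finite S] {p : ℕ} [Fact p.Prime] (hS : IsPGroup p S) {F : FusionSystem S}
    (hF : F.IsSaturated p)
    (H : ∀ R : Subgroup Ω, F.IsFullyNormalized R → F.IsCentric R → F.IsRadical p R →
      ∀ N : FusionSystem (normalizerIn S R), F.IsNormalizerSystem R N →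
      ∀ Q : Subgroup Ω, N.IsFullyNormalized Q → ∀ χ : MulAut ↥Q, χ ∈ N.autGroup Q → Quad χ →
      χ ∈ coreIn p (N.autGroup Q)) {Q : Subgroup Ω} (hQ : Q ≤ S) {χ : MulAut Q}
    (hχ : χ ∈ F.autGroup Q) (hq : Quad χ) : χ ∈ coreIn p (F.autGroup Q) := by
  have h := backward_aux hS hF H _ Q Q hQ le_rfl rfl χ (by rw [resAut_self]; exact hχ) hq
  rwa [resAut_self] at h

end Cfsg.Agent.Lib.Helper86PStab
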