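import Mathlib
import Cfsg.Agent.Lib.Helper3PGroup
import Cfsg.Agent.Lib.Helper71Frattini
import Cfsg.Agent.Lib.Helper86Group

set_option autoImplicit false

namespace Cfsg.Agent.Lib.Helper86Transfer

open Subgroup MulAction


theorem transfer_apply_of_mem_normal {G : Type*} [Group G] {H : Subgroup G} [hn : H.Normal]
    [H.FiniteIndex] {A : Type*} [CommGroup A] (ϕ : H →* A) [inst : Fintype (G ⧸ H)]
    (g : G) (hg : g ∈ H) :
    MonoidHom.transfer ϕ g = ∏ q : G ⧸ H, ϕ ⟨q.out⁻¹ * g * q.out, by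
      have := hn.conj_mem g hg q.out⁻¹
      simpa using this⟩ := by
  have hi : inst = H.fintypeQuotientOfFiniteIndex := Subsingleton.elim _ _
  subst hi
  let T : H.LeftTransversal := ⟨Set.range Quotient.out, isComplement_range_left Quotient.out_eq'⟩
  rw [MonoidHom.transfer_def ϕ T g]
  unfold leftTransversals.diff
  refine Finset.prod_congr rfl fun q _ => ?_
  congr 1
  apply Subtype.ext
  have hq : g⁻¹ • q = q := by
    induction q using QuotientGroup.induction_on with
    | H x =>
      show ((g⁻¹ * x : G) : G ⧸ H) = x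
      rw [QuotientGroup.eq]
      have := hn.conj_mem g hg x⁻¹
      simpa [mul_assoc] using this
  have h1 : ∀ q : G ⧸ H, (T.2.leftQuotientEquiv q : G) = q.out :=
    fun q => IsComplement.leftQuotientEquiv_apply Quotient.out_eq' q
  simp only [smul_apply_eq_smul_apply_inv_smul, hq, h1, smul_eq_mul, mul_assoc]



theorem prod_eq_of_orbits {Y X A : Type*} [Group Y] [Finite Y] [MulAction Y X] [Fintype X] [CommGroup A]
    (f : X → A) (x₀ : X) (hfix : ∀ y : Y, y • x₀ = x₀)
    (h : ∀ x, x ≠ x₀ → ∀ [Fintype (Y ⧸ stabilizer Y x)],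
      ∏ c : Y ⧸ stabilizer Y x, f (c.out • x) = 1) :
    ∏ x, f x = f x₀ := by
  classical
  have : Fintype (orbitRel.Quotient Y X) := Fintype.ofFinite _
  have : ∀ ω : orbitRel.Quotient Y X, Fintype (Y ⧸ stabilizer Y ω.out) := fun ω => Fintype.ofFinite _
  have hs : ∀ (ω : orbitRel.Quotient Y X) (c : Y ⧸ stabilizer Y ω.out),
      (selfEquivSigmaOrbitsQuotientStabilizer Y X).symm ⟨ω, c⟩ = c.out • ω.out := by
    intro ω c
    conv_lhs => rw [← c.out_eq']
    rfl
  rw [← (selfEquivSigmaOrbitsQuotientStabilizer Y X).symm.prod_comp, Fintype.prod_sigma]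
  simp only [hs]
  have hout : (Quotient.mk'' x₀ : orbitRel.Quotient Y X).out = x₀ := by
    have h1 : (Quotient.mk'' x₀ : orbitRel.Quotient Y X).out ∈ orbit Y x₀ := by
      have := Quotient.out_eq' (Quotient.mk'' x₀ : orbitRel.Quotient Y X)
      exact (@Quotient.eq'' _ (orbitRel Y X) _ _).1 this
    obtain ⟨y, hy⟩ := h1
    rw [← hy]; exact hfix y
  rw [Fintype.prod_eq_single (Quotient.mk'' x₀ : orbitRel.Quotient Y X)]
  · have hsub : Subsingleton (Y ⧸ stabilizer Y (Quotient.mk'' x₀ : orbitRel.Quotient Y X).out) := by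
      rw [hout]
      have : stabilizer Y x₀ = ⊤ := by
        ext y; simp [hfix y]
      rw [this]
      exact QuotientGroup.subsingleton_quotient_top
    rw [Fintype.prod_subsingleton _ ((1 : Y) : Y ⧸ stabilizer Y (Quotient.mk'' x₀ : orbitRel.Quotient Y X).out)]
    rw [hout, hfix]
  · intro ω hω
    apply h
    intro hx
    apply hω
    rw [← hx]
    exact (Quotient.out_eq' ω).symm



theorem exists_hom_ne_one {p : ℕ} [Fact p.Prime] {N : Type*} [Group N] [Finite N]
    (hN : IsPGroup p N) [Nontrivial N] : ∃ μ : N →* Multiplicative (ZMod p), μ ≠ 1 := by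
  obtain ⟨M, hM⟩ : ∃ M : Subgroup N, IsCoatom M := by
    obtain h | ⟨M, hM, -⟩ := eq_top_or_exists_le_coatom (⊥ : Subgroup N)
    · exact absurd h bot_ne_top
    · exact ⟨M, hM⟩
  have hn := Helper3PGroup.coatom_normal hN hM
  have hi := Helper3PGroup.coatom_index hN hM
  have hc : Nat.card (N ⧸ M) = p := hi
  have hc2 : Nat.card (Multiplicative (ZMod p)) = p := by
    simp
  let e := mulEquivOfPrimeCardEq hc hc2
  refine ⟨e.toMonoidHom.comp (QuotientGroup.mk' M), fun h => ?_⟩
  have hx : ∃ x : N, x ∉ M := by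
    by_contra hcon
    simp only [not_exists, not_not] at hcon
    exact hM.1 (eq_top_iff.2 fun x _ => hcon x)
  obtain ⟨x, hx⟩ := hx
  apply hx
  have h1 := DFunLike.congr_fun h x
  simp only [MonoidHom.comp_apply, MonoidHom.one_apply] at h1
  have h2 : QuotientGroup.mk' M x = 1 := by
    apply e.injective
    rw [map_one]; exact h1
  exact (QuotientGroup.eq_one_iff x).1 h2

theorem exists_invariant_hom {p : ℕ} [Fact p.Prime] {Y N : Type*} [Group Y] [Finite Y] [Group N] [Finite N]
    (hY : IsPGroup p Y) (hN : IsPGroup p N) [Nontrivial N] (σ : Y →* MulAut N) :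
    ∃ μ : N →* Multiplicative (ZMod p), μ ≠ 1 ∧ ∀ y n, μ (σ y n) = μ n := by
  let act : MulAction Y (N →* Multiplicative (ZMod p)) :=
    { smul := fun y μ => μ.comp (σ y⁻¹).toMonoidHom
      one_smul := fun μ => by
        ext n
        show μ (σ 1⁻¹ n) = μ n
        simp
      mul_smul := fun y z μ => by
        ext n
        show μ (σ (y * z)⁻¹ n) = μ (σ z⁻¹ (σ y⁻¹ n))
        simp }
  have hsm : ∀ (y : Y) (μ : N →* Multiplicative (ZMod p)) (n : N), (y • μ) n = μ (σ y⁻¹ n) :=
    fun _ _ _ => rfl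
  have hP : IsPGroup p (N →* Multiplicative (ZMod p)) := by
    intro μ
    refine ⟨1, ?_⟩
    ext n
    rw [pow_one, MonoidHom.pow_apply]
    have : (μ n) ^ p = 1 := by
      have h := pow_card_eq_one' (x := μ n)
      simpa using h
    rw [this]; rfl
  have hfin : Finite (N →* Multiplicative (ZMod p)) := Finite.of_injective _ DFunLike.coe_injective
  obtain ⟨μ₀, hμ₀⟩ := exists_hom_ne_one hN
  have hdvd : p ∣ Nat.card (N →* Multiplicative (ZMod p)) := by
    rcases hP.card_eq_or_dvd with h | h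
    · exfalso
      have := (Nat.card_eq_one_iff_unique.1 h).1
      exact hμ₀ (Subsingleton.elim _ _)
    · exact h
  have hone : (1 : N →* Multiplicative (ZMod p)) ∈ fixedPoints Y (N →* Multiplicative (ZMod p)) := by
    intro y
    ext n
    rw [hsm]; rfl
  obtain ⟨μ, hμ, hne⟩ := hY.exists_fixed_point_of_prime_dvd_card_of_fixed_point _ hdvd hone
  refine ⟨μ, hne.symm, fun y n => ?_⟩
  have := DFunLike.congr_fun (hμ y⁻¹) n
  rw [hsm, inv_inv] at this
  exact this

theorem frattini_le_ker {p : ℕ} [hp : Fact p.Prime] {G A : Type*} [Group G] [Finite G] [CommGroup A]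
    (hA : ∀ a : A, a ^ p = 1) (φ : G →* A) : frattini G ≤ φ.ker := by
  apply Helper71Frattini.frattini_le_of_elem_quot p hp.out
  · intro x y
    rw [MonoidHom.mem_ker]
    simp [mul_comm (φ x)]
  · intro x
    rw [MonoidHom.mem_ker, map_pow, hA]

end Cfsg.Agent.Lib.Helper86Transfer
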