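import Mathlib
import Cfsg.Agent.Lib.Helper86Transfer

set_option autoImplicit false

namespace Cfsg.Agent.Lib.Helper86Tate

open Subgroup MulAction Cfsg
open Cfsg.Agent.Lib.Helper86Group Cfsg.Agent.Lib.Helper86Transfer

section core

variable (p : ℕ) {G X : Type*} [Group G] [Group X] {H : Subgroup G} (ρ : X →* MulAut H)

/-- `[H, O^p(X)]` -/
def comm1 : Subgroup H :=
  Subgroup.closure {y | ∃ a ∈ pResidual p X, ∃ h : H, y = h⁻¹ * ρ a h}

variable {p ρ}

theorem gen_mem {a : X} (ha : a ∈ pResidual p X) (h : H) : h⁻¹ * ρ a h ∈ comm1 p ρ :=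
  Subgroup.subset_closure ⟨a, ha, h, rfl⟩

theorem comm1_inv (x : X) {w : H} (hw : w ∈ comm1 p ρ) : ρ x w ∈ comm1 p ρ := by
  induction hw using Subgroup.closure_induction with
  | mem y hy =>
    obtain ⟨a, ha, h, rfl⟩ := hy
    have h1 := gen_mem (ρ := ρ) ((pResidual_normal p X).conj_mem a ha x) (ρ x h)
    have h2 : ρ x (h⁻¹ * ρ a h) = (ρ x h)⁻¹ * ρ (x * a * x⁻¹) (ρ x h) := by
      simp [map_mul]
    rw [h2]; exact h1
  | one => rw [map_one]; exact one_mem _
  | mul a b _ _ iha ihb => rw [map_mul]; exact mul_mem iha ihb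
  | inv a _ iha => rw [map_inv]; exact inv_mem iha

variable (p ρ)

/-- the action of `X` on `[H, O^p(X)]` -/
def res : X →* MulAut (comm1 p ρ) where
  toFun x :=
    { toFun := fun w => ⟨ρ x w, comm1_inv x w.2⟩
      invFun := fun w => ⟨ρ x⁻¹ w, comm1_inv x⁻¹ w.2⟩
      left_inv := fun w => by
        apply Subtype.ext
        simp
      right_inv := fun w => by
        apply Subtype.ext
        simp
      map_mul' := fun a b => by
        apply Subtype.ext
        simp }
  map_one' := by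
    ext w
    simp
  map_mul' x y := by
    ext w
    simp

variable {p ρ}

@[simp] theorem res_coe (x : X) (w : comm1 p ρ) : ((res p ρ x w : comm1 p ρ) : H) = ρ x w := rfl

theorem hom_eq_one_of_invariant [Finite X] {A : Type*} [CommGroup A] (hA : ∀ a : A, a ^ p = 1)
    (ν : comm1 p ρ →* A) (hν : ∀ x w, ν (res p ρ x w) = ν w) : ∀ w, ν w = 1 := by
  have h1 : ∀ a : X, a ∈ pResidual p X → ∀ (h : H) (hm : h⁻¹ * ρ a h ∈ comm1 p ρ), ν ⟨_, hm⟩ = 1 := by
    intro a ha
    induction ha using Subgroup.closure_induction with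
    | mem a ha =>
      intro h hm
      have hcop : Nat.Coprime (orderOf a) p := ha
      have haO : ∀ k : ℕ, a ^ k ∈ pResidual p X := fun k => pow_mem (Subgroup.subset_closure ha) k
      have hk : ∀ k : ℕ, ν ⟨h⁻¹ * ρ (a ^ k) h, gen_mem (haO k) h⟩ = (ν ⟨_, hm⟩) ^ k := by
        intro k
        induction k with
        | zero =>
          have : (⟨h⁻¹ * ρ (a ^ 0) h, gen_mem (haO 0) h⟩ : comm1 p ρ) = 1 := by
            apply Subtype.ext; simp
          rw [this, map_one, pow_zero]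
        | succ k ih =>
          have : (⟨h⁻¹ * ρ (a ^ (k + 1)) h, gen_mem (haO (k + 1)) h⟩ : comm1 p ρ)
              = ⟨_, hm⟩ * res p ρ a ⟨h⁻¹ * ρ (a ^ k) h, gen_mem (haO k) h⟩ := by
            apply Subtype.ext
            simp [pow_succ', map_mul, mul_assoc]
          rw [this, map_mul, hν, ih, pow_succ']
      have h2 : (ν ⟨_, hm⟩) ^ orderOf a = 1 := by
        rw [← hk]
        have : (⟨h⁻¹ * ρ (a ^ orderOf a) h, gen_mem (haO _) h⟩ : comm1 p ρ) = 1 := by
          apply Subtype.ext; simp [pow_orderOf_eq_one]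
        rw [this, map_one]
      have h3 := orderOf_dvd_of_pow_eq_one h2
      have h4 := orderOf_dvd_of_pow_eq_one (hA (ν ⟨_, hm⟩))
      have h5 := Nat.dvd_gcd h3 h4
      rw [hcop.gcd_eq_one, Nat.dvd_one, orderOf_eq_one_iff] at h5
      exact h5
    | one =>
      intro h hm
      have : (⟨h⁻¹ * ρ 1 h, hm⟩ : comm1 p ρ) = 1 := by
        apply Subtype.ext; simp
      rw [this, map_one]
    | mul a b ha hb iha ihb =>
      intro h hm
      have : (⟨h⁻¹ * ρ (a * b) h, hm⟩ : comm1 p ρ)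
          = ⟨h⁻¹ * ρ b h, gen_mem hb h⟩ * ⟨(ρ b h)⁻¹ * ρ a (ρ b h), gen_mem ha _⟩ := by
        apply Subtype.ext
        simp [map_mul, mul_assoc]
      rw [this, map_mul, iha, ihb, one_mul]
    | inv a ha iha =>
      intro h hm
      have : (⟨h⁻¹ * ρ a⁻¹ h, hm⟩ : comm1 p ρ)
          = (⟨(ρ a⁻¹ h)⁻¹ * ρ a (ρ a⁻¹ h), gen_mem ha _⟩ : comm1 p ρ)⁻¹ := by
        apply Subtype.ext
        simp
      rw [this, map_inv, iha, inv_one]
  rintro ⟨w, hw⟩
  induction hw using Subgroup.closure_induction with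
  | mem y hy =>
    obtain ⟨a, ha, h, rfl⟩ := hy
    exact h1 a ha h _
  | one => exact map_one ν
  | mul a b ha hb iha ihb =>
    have : (⟨a * b, mul_mem ha hb⟩ : comm1 p ρ) = ⟨a, ha⟩ * ⟨b, hb⟩ := rfl
    rw [this, map_mul, iha, ihb, one_mul]
  | inv a ha iha =>
    have : (⟨a⁻¹, inv_mem ha⟩ : comm1 p ρ) = (⟨a, ha⟩ : comm1 p ρ)⁻¹ := rfl
    rw [this, map_inv, iha, inv_one]

theorem core [Fact p.Prime] [Finite G] [Finite X] (hG : IsPGroup p G) [hn : H.Normal] (hH : H ≠ ⊤)
    (ι : G →* X) (hι : ∀ g (h : H), ((ρ (ι g) h : H) : G) = g * h * g⁻¹)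
    (hconj : ∀ x (h : H), x * ι h * x⁻¹ = ι (ρ x h : H))
    (hO : ∀ x : X, ∃ g : G, ∃ a ∈ pResidual p X, x = ι g * a)
    (ha : ∀ x : X, x ∉ ι.range → ∀ g, x⁻¹ * ι g * x ∈ ι.range → g ∈ H)
    (hb : ∀ a ∈ pResidual p X, ∀ h : H, (h : G)⁻¹ * (ρ a h : H) ∈ frattini G) :
    comm1 p ρ = ⊥ := by
  classical
  by_contra hne
  have hnt : Nontrivial (comm1 p ρ) := (Subgroup.nontrivial_iff_ne_bot _).2 hne
  have hN : IsPGroup p (comm1 p ρ) := (hG.to_subgroup H).to_subgroup _
  obtain ⟨μ, hμ1, hμ⟩ := exists_invariant_hom hG hN ((res p ρ).comp ι)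
  have hμ' : ∀ g w, μ (res p ρ (ι g) w) = μ w := hμ
  have hZ : ∀ z : Multiplicative (ZMod p), z ^ p = 1 := by
    intro z
    have h := pow_card_eq_one' (x := z)
    simpa using h
  have hfr : ∀ w : comm1 p ρ, ((w : H) : G) ∈ frattini G := by
    rintro ⟨w, hw⟩
    induction hw using Subgroup.closure_induction with
    | mem y hy =>
      obtain ⟨a, ha, h, rfl⟩ := hy
      exact hb a ha h
    | one => exact one_mem _
    | mul a b _ _ iha ihb => exact mul_mem iha ihb
    | inv a _ iha => exact inv_mem iha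
  -- the key vanishing statement coming from the transfer
  have hindex : ∀ z : Multiplicative (ZMod p), z ^ H.index = 1 := by
    intro z
    obtain ⟨n, hn'⟩ := hG.index H
    have hn0 : n ≠ 0 := by
      rintro rfl
      rw [pow_zero, Subgroup.index_eq_one] at hn'
      exact hH hn'
    obtain ⟨m, rfl⟩ := Nat.exists_eq_succ_of_ne_zero hn0
    rw [hn', pow_succ', pow_mul, hZ, one_pow]
  have hconjH : ∀ (g : G) (w : comm1 p ρ) (hm : g⁻¹ * ((w : H) : G) * g ∈ H),
      (⟨g⁻¹ * ((w : H) : G) * g, hm⟩ : H) = (res p ρ (ι g)⁻¹ w : comm1 p ρ) := by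
    intro g w hm
    apply Subtype.ext
    rw [res_coe, ← map_inv, hι]
    simp
  have hkc : ∀ k y : H, ρ (ι (k : G))⁻¹ y = k⁻¹ * y * k := by
    intro k y
    apply Subtype.ext
    rw [← map_inv, hι]
    simp
  have htr : ∀ a ∈ pResidual p X, ∀ w : comm1 p ρ, ∀ [Fintype (G ⧸ H)],
      ∏ q : G ⧸ H, μ (res p ρ a (res p ρ (ι q.out)⁻¹ w)) = 1 := by
    intro a haO w _
    let lam : H →* Multiplicative (ZMod p) := MonoidHom.mk' (fun h => μ ⟨h⁻¹ * ρ a h, gen_mem haO h⟩) (by
      intro h k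
      have h1 : (⟨(h * k)⁻¹ * ρ a (h * k), gen_mem haO (h * k)⟩ : comm1 p ρ)
          = res p ρ (ι (k : G))⁻¹ ⟨h⁻¹ * ρ a h, gen_mem haO h⟩ * ⟨k⁻¹ * ρ a k, gen_mem haO k⟩ := by
        apply Subtype.ext
        show (h * k)⁻¹ * ρ a (h * k) = ρ (ι (k : G))⁻¹ (h⁻¹ * ρ a h) * (k⁻¹ * ρ a k)
        rw [hkc]
        simp [mul_assoc]
      rw [h1, map_mul, ← map_inv, hμ'])
    have hlam : ∀ h, lam h = μ ⟨h⁻¹ * ρ a h, gen_mem haO h⟩ := fun _ => rfl
    have h1 : MonoidHom.transfer lam ((w : H) : G) = 1 :=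
      frattini_le_ker hZ (MonoidHom.transfer lam) (hfr w)
    rw [transfer_apply_of_mem_normal lam _ (w : H).2] at h1
    have h2 : ∀ q : G ⧸ H, ∀ hm, lam ⟨q.out⁻¹ * ((w : H) : G) * q.out, hm⟩
        = (μ w)⁻¹ * μ (res p ρ a (res p ρ (ι q.out)⁻¹ w)) := by
      intro q hm
      rw [hconjH q.out w hm, hlam]
      have : (⟨((res p ρ (ι q.out)⁻¹ w : comm1 p ρ) : H)⁻¹ * ρ a (res p ρ (ι q.out)⁻¹ w : comm1 p ρ),
          gen_mem haO _⟩ : comm1 p ρ)
          = (res p ρ (ι q.out)⁻¹ w)⁻¹ * res p ρ a (res p ρ (ι q.out)⁻¹ w) := by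
        apply Subtype.ext
        simp
      rw [this, map_mul, map_inv, ← map_inv ι, hμ']
    simp only [h2] at h1
    rw [Finset.prod_mul_distrib, Finset.prod_const, Finset.card_univ, ← Nat.card_eq_fintype_card] at h1
    have h3 : Nat.card (G ⧸ H) = H.index := rfl
    rw [h3, hindex, one_mul] at h1
    exact h1
  -- the trace
  let R : Subgroup X := ι.range
  have : Fintype (X ⧸ R) := Fintype.ofFinite _
  let F : comm1 p ρ → X ⧸ R → Multiplicative (ZMod p) := fun w c => μ (res p ρ c.out⁻¹ w)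
  have hF : ∀ w (x : X), F w (x : X ⧸ R) = μ (res p ρ x⁻¹ w) := by
    intro w x
    obtain ⟨⟨r, g, rfl⟩, hr⟩ := QuotientGroup.mk_out_eq_mul R x
    show μ (res p ρ (x : X ⧸ R).out⁻¹ w) = _
    rw [hr]
    simp only [mul_inv_rev, map_mul, MulAut.mul_apply]
    rw [← map_inv ι, hμ']
  let Tr : comm1 p ρ →* Multiplicative (ZMod p) := MonoidHom.mk' (fun w => ∏ c, F w c) (by
    intro a b
    simp only [F, map_mul, Finset.prod_mul_distrib])
  have hTr : ∀ w, Tr w = ∏ c, F w c := fun _ => rfl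
  have hTrinv : ∀ x w, Tr (res p ρ x w) = Tr w := by
    intro x w
    rw [hTr, hTr, ← Equiv.prod_comp (MulAction.toPerm x⁻¹ : Equiv.Perm (X ⧸ R)) (F w)]
    refine Fintype.prod_congr _ _ fun c => ?_
    induction c using QuotientGroup.induction_on with
    | H y =>
      have : (MulAction.toPerm x⁻¹ : Equiv.Perm (X ⧸ R)) (y : X ⧸ R) = ((x⁻¹ * y : X) : X ⧸ R) := rfl
      rw [this, hF, hF]
      simp [map_mul]
  have hTr1 : ∀ w, Tr w = 1 := hom_eq_one_of_invariant hZ Tr hTrinv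
  letI : MulAction G (X ⧸ R) := MulAction.compHom _ ι
  have hsm : ∀ (g : G) (x : X), g • (x : X ⧸ R) = ((ι g * x : X) : X ⧸ R) := fun _ _ => rfl
  have hTr2 : ∀ w, Tr w = μ w := by
    intro w
    rw [hTr, prod_eq_of_orbits (Y := G) (F w) ((1 : X) : X ⧸ R)]
    · rw [hF]; simp
    · intro g
      rw [hsm, QuotientGroup.eq]
      exact ⟨g⁻¹, by simp⟩
    · intro c
      induction c using QuotientGroup.induction_on with
      | H x =>
        intro hc _
        have hx : x ∉ ι.range := by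
          intro hx
          apply hc
          rw [QuotientGroup.eq]
          exact mul_mem (inv_mem hx) (one_mem _)
        have hstab : stabilizer G (x : X ⧸ R) = H := by
          ext g
          rw [mem_stabilizer_iff, hsm, QuotientGroup.eq]
          constructor
          · intro hg
            have h1 : x⁻¹ * ι g⁻¹ * x ∈ ι.range := by
              have : x⁻¹ * ι g⁻¹ * x = (ι g * x)⁻¹ * x := by simp
              rw [this]; exact hg
            have := ha x hx g⁻¹ h1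
            simpa using this
          · intro hg
            have h1 := hconj x⁻¹ (⟨g, hg⟩ : H)⁻¹
            refine ⟨_, h1.symm.trans ?_⟩
            simp
        obtain ⟨g, a, haO, hxa⟩ := hO x⁻¹
        have key : ∀ K : Subgroup G, K = H → ∀ [Fintype (G ⧸ K)],
            ∏ d : G ⧸ K, F w (d.out • (x : X ⧸ R)) = 1 := by
          rintro K rfl _
          rw [← htr a haO w]
          refine Fintype.prod_congr _ _ fun d => ?_
          rw [hsm, hF, mul_inv_rev, hxa, map_mul, map_mul, MulAut.mul_apply, MulAut.mul_apply, hμ']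
        exact key _ hstab
  apply hμ1
  ext w
  rw [← hTr2, hTr1]
  rfl

end core

end Cfsg.Agent.Lib.Helper86Tate
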