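import Mathlib
import Cfsg.Agent.Lib.Helper86Tate
import Cfsg.Agent.Lib.Helper87Fusion

set_option autoImplicit false

namespace Cfsg.Agent.Lib.Helper86Tate2

open Subgroup MulAction Cfsg Cfsg.FusionSystem
open Cfsg.Agent.Lib.Helper86Group Cfsg.Agent.Lib.Helper86Transfer Cfsg.Agent.Lib.Helper86Tate
open Cfsg.Agent.Lib.Helper87Fusion

theorem core' {Ω : Type*} [Group Ω] {S P : Subgroup Ω} [Finite S] {p : ℕ} [Fact p.Prime]
    (hS : IsPGroup p S)
    (hPS : P ≤ S) (hne : P ≠ S) (hnorm : ∀ s ∈ S, ∀ x ∈ P, s * x * s⁻¹ ∈ P)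
    (A : Subgroup (MulAut P)) (hSA : autInducedBy S P ≤ A)
    (R : Sylow p A) (hR : (R : Subgroup A) = (autInducedBy S P).subgroupOf A)
    (ha : ∀ α ∈ A, ∀ g ∈ S, ∀ g' ∈ S, (∀ (x : P) (hx : g * x * g⁻¹ ∈ P),
      ((α ⟨g * x * g⁻¹, hx⟩ : P) : Ω) = g' * (α x : P) * g'⁻¹) → g ∉ P → α ∈ autInducedBy S P)
    (hb : ∀ α ∈ A, ∀ x : P, ∀ h : (x : Ω)⁻¹ * (α x : P) ∈ S, (⟨_, h⟩ : S) ∈ frattini S) :
    A ≤ autInducedBy S P := by
  have hPfin : Finite P := Finite.of_injective (Subgroup.inclusion hPS) (Subgroup.inclusion_injective hPS)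
  have hn : (P.subgroupOf S).Normal := by
    constructor
    intro x hx s
    exact hnorm s s.2 x hx
  have hH : P.subgroupOf S ≠ ⊤ := by
    intro h
    rw [Subgroup.subgroupOf_eq_top] at h
    exact hne (le_antisymm hPS h)
  let e : P.subgroupOf S ≃* P := Subgroup.subgroupOfEquivOfLe hPS
  have he : ∀ h : P.subgroupOf S, ((e h : P) : Ω) = ((h : S) : Ω) := fun _ => rfl
  have he' : ∀ x : P, (((e.symm x : P.subgroupOf S) : S) : Ω) = x := fun _ => rfl
  let c : S →* MulAut P := (MulAut.congr e).toMonoidHom.comp (MulAut.conjNormal (H := P.subgroupOf S))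
  have hc : ∀ (s : S) (x : P), ((c s x : P) : Ω) = s * x * (s : Ω)⁻¹ := by
    intro s x
    rfl
  have hcS : ∀ s : S, c s ∈ autInducedBy S P := fun s =>
    (mem_autInducedBy_iff S P _).2 ⟨s, s.2, hc s⟩
  let ι : S →* A := c.codRestrict A (fun s => hSA (hcS s))
  have hι0 : ∀ s : S, ((ι s : A) : MulAut P) = c s := fun _ => rfl
  let ρ : A →* MulAut (P.subgroupOf S) := (MulAut.congr e.symm).toMonoidHom.comp A.subtype
  have hρ : ∀ (a : A) (h : P.subgroupOf S), ρ a h = e.symm ((a : MulAut P) (e h)) := fun _ _ => rfl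
  have hrange : ∀ x : A, x ∈ ι.range ↔ (x : MulAut P) ∈ autInducedBy S P := by
    intro x
    constructor
    · rintro ⟨s, rfl⟩
      exact hcS s
    · intro hx
      obtain ⟨g, hg, hgx⟩ := (mem_autInducedBy_iff S P _).1 hx
      refine ⟨⟨g, hg⟩, ?_⟩
      apply Subtype.ext
      ext y
      rw [hι0, hc, hgx]
  have hO : ∀ x : A, ∃ g : S, ∃ a ∈ pResidual p A, x = ι g * a := by
    intro x
    obtain ⟨a, haO, b, hbR, hx⟩ := exists_mul_of_pResidual_sylow R x⁻¹
    have hb' : b ∈ (R : Subgroup A) := hbR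
    rw [hR, Subgroup.mem_subgroupOf, ← hrange] at hb'
    obtain ⟨g, rfl⟩ := hb'
    refine ⟨g⁻¹, a⁻¹, inv_mem haO, ?_⟩
    rw [map_inv, ← mul_inv_rev, ← hx, inv_inv]
  have hcore : comm1 p ρ = ⊥ := by
    apply core hS hH ι
    · intro g h
      apply Subtype.ext
      rw [hρ, he', hι0, hc, he]
      rfl
    · intro x h
      apply Subtype.ext
      ext y
      rw [hι0, hc, hρ, he']
      show (((x : MulAut P) (c (h : S) ((x : MulAut P)⁻¹ y)) : P) : Ω) = _
      have h1 : c (h : S) ((x : MulAut P)⁻¹ y) = e h * (x : MulAut P)⁻¹ y * (e h)⁻¹ := by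
        apply Subtype.ext
        rw [hc]
        rfl
      rw [h1]
      simp
    · exact hO
    · intro x hx g hg
      obtain ⟨g', hg'⟩ := hg
      by_contra hgH
      apply hx
      have h1 : (x⁻¹ : A) ∈ ι.range := by
        rw [hrange]
        apply ha _ (x⁻¹ : A).2 g g.2 g' g'.2 _ hgH
        intro y hy
        have h2 : x⁻¹ * ι g = ι g' * x⁻¹ := by
          rw [hg']; group
        have h3 := congrArg (fun z : A => (((z : MulAut P) y : P) : Ω)) h2
        simp only [Subgroup.coe_mul, MulAut.mul_apply, hι0, hc] at h3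
        rw [← h3]
        congr 2
      simpa using inv_mem h1
    · intro a _ h
      have hm : ((e h : P) : Ω)⁻¹ * (((a : MulAut P) (e h) : P) : Ω) ∈ S :=
        ((h : S)⁻¹ * ((ρ a h : P.subgroupOf S) : S)).2
      exact hb a a.2 (e h) hm
  intro α hα
  obtain ⟨g, a, haO, hx⟩ := hO ⟨α, hα⟩
  have ha1 : a = 1 := by
    apply Subtype.ext
    ext y
    have h1 := gen_mem (ρ := ρ) haO (e.symm y)
    rw [hcore, Subgroup.mem_bot, inv_mul_eq_one] at h1
    have h2 := congrArg (fun z : P.subgroupOf S => ((z : S) : Ω)) h1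
    simp only [hρ, he', MulEquiv.apply_symm_apply] at h2
    exact h2.symm
  rw [ha1, mul_one] at hx
  have := (hrange ⟨α, hα⟩).1 ⟨g, hx.symm⟩
  exact this

end Cfsg.Agent.Lib.Helper86Tate2
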