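import Mathlib
import Cfsg.Agent.Lib.Helper86Tate2
import Cfsg.Agent.Lib.Helper86Fusion2

set_option autoImplicit false

namespace Cfsg.Agent.Lib.Helper86Tate3

open Subgroup MulAction Cfsg Cfsg.FusionSystem
open Cfsg.Agent.Lib.Helper86Group Cfsg.Agent.Lib.Helper86Tate2
open Cfsg.Agent.Lib.Helper87Fusion Cfsg.Agent.Lib.Helper86Fusion Cfsg.Agent.Lib.Helper86Fusion2

theorem sylow_of_le {M : Type*} [Group M] {p : ℕ} {T B A : Subgroup M} (hTB : T ≤ B) (hBA : B ≤ A)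
    (R : Sylow p A) (hR : (R : Subgroup A) = T.subgroupOf A) :
    ∃ R' : Sylow p B, (R' : Subgroup B) = T.subgroupOf B := by
  have hT : IsPGroup p T := by
    have h1 : IsPGroup p (T.subgroupOf A) := hR ▸ R.isPGroup'
    exact h1.of_equiv (Subgroup.subgroupOfEquivOfLe (hTB.trans hBA))
  refine ⟨{ toSubgroup := T.subgroupOf B
            isPGroup' := hT.of_equiv (Subgroup.subgroupOfEquivOfLe hTB).symm
            is_maximal' := ?_ }, rfl⟩
  intro Q' hQ' hle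
  have hK : IsPGroup p ((Q'.map B.subtype).subgroupOf A) :=
    (hQ'.map B.subtype).comap_of_injective A.subtype A.subtype_injective
  have hRK : (R : Subgroup A) ≤ (Q'.map B.subtype).subgroupOf A := by
    rw [hR]
    intro x hx
    exact ⟨⟨x, hTB hx⟩, hle hx, rfl⟩
  have h1 := R.is_maximal' hK hRK
  apply le_antisymm _ hle
  intro q hq
  have h2 : (⟨q, hBA q.2⟩ : A) ∈ (Q'.map B.subtype).subgroupOf A := ⟨q, hq, rfl⟩
  rw [h1] at h2
  have h3 : (⟨q, hBA q.2⟩ : A) ∈ (R : Subgroup A) := h2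
  rw [hR] at h3
  exact h3

theorem eq_top_of_sylow_le {X : Type*} [Group X] [Finite X] {p : ℕ} [Fact p.Prime] (K : Subgroup X)
    [K.Normal] (R : Sylow p X) (hRK : (R : Subgroup X) ≤ K)
    (hN : Subgroup.normalizer ((R : Subgroup X) : Set X) ≤ K) : K = ⊤ := by
  have h := Sylow.normalizer_sup_eq_top (R.subtype hRK)
  rw [Sylow.coe_subtype, Subgroup.map_subgroupOf_eq_of_le hRK] at h
  rw [← h]
  exact (sup_le hN le_rfl).antisymm le_sup_right |>.symm

/-- automorphisms in `Aut_F(P)` which normalize `Q`. -/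
def stabAut {Ω : Type*} [Group Ω] {S : Subgroup Ω} (F : FusionSystem S) (P Q : Subgroup Ω) :
    Subgroup (MulAut P) where
  carrier := {α | α ∈ F.autGroup P ∧ ∀ x : P, (x : Ω) ∈ Q ↔ ((α x : P) : Ω) ∈ Q}
  mul_mem' := by
    rintro a b ⟨ha, ha'⟩ ⟨hb, hb'⟩
    refine ⟨mul_mem ha hb, fun x => ?_⟩
    rw [hb' x, ha' (b x)]
    rfl
  one_mem' := ⟨one_mem _, fun x => Iff.rfl⟩
  inv_mem' := by
    rintro a ⟨ha, ha'⟩
    refine ⟨inv_mem ha, fun x => ?_⟩
    rw [ha' (a⁻¹ x)]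
    simp

theorem conj_of_normalizes {Ω : Type*} [Group Ω] {S : Subgroup Ω} [Finite S] {p : ℕ} [Fact p.Prime]
    (hS : IsPGroup p S) (F : FusionSystem S) (hF : F.IsSaturated p)
    (hInn : ∀ f, IsMap F S f → ∃ s ∈ S, ∀ x ∈ S, f x = s * x * s⁻¹)
    (Q : Subgroup Ω) (hQ1 : ∀ x ∈ S, ∀ y ∈ S, x * y * x⁻¹ * y⁻¹ ∈ Q)
    (hQ2 : ∀ x ∈ Q, ∃ h : x ∈ S, (⟨x, h⟩ : S) ∈ frattini S) :
    ∀ (n : ℕ) (P : Subgroup Ω), Q ≤ P → P ≤ S → Nat.card S - Nat.card P = n →
      ∀ f, IsMap F P f → f '' (Q : Set Ω) = Q → ∃ s ∈ S, ∀ x ∈ P, f x = s * x * s⁻¹ := by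
  have hnormal : ∀ P' : Subgroup Ω, Q ≤ P' → P' ≤ S → ∀ s ∈ S, ∀ x ∈ P', s * x * s⁻¹ ∈ P' := by
    intro P' hQP hPS s hs x hx
    have h1 := hQP (hQ1 s hs x (hPS hx))
    have h2 : s * x * s⁻¹ = (s * x * s⁻¹ * x⁻¹) * x := by group
    rw [h2]; exact mul_mem h1 hx
  have hNS : ∀ P' : Subgroup Ω, Q ≤ P' → P' ≤ S → normalizerIn S P' = S := by
    intro P' hQP hPS
    refine le_antisymm (normalizerIn_le S P') fun s hs => mem_normalizerIn.2 ⟨hs, fun x => ⟨fun hx =>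
      hnormal P' hQP hPS s hs x hx, fun hx => ?_⟩⟩
    have := hnormal P' hQP hPS s⁻¹ (inv_mem hs) _ hx
    simpa [mul_assoc] using this
  have hFN : ∀ P' : Subgroup Ω, Q ≤ P' → P' ≤ S → F.IsFullyNormalized P' := by
    intro P' hQP hPS
    refine ⟨hPS, fun Q' _ => ?_⟩
    rw [hNS P' hQP hPS]
    exact Subgroup.card_le_of_le (normalizerIn_le S Q')
  have hQS : Q ≤ S := fun x hx => (hQ2 x hx).1
  intro n
  induction n using Nat.strong_induction_on with
  | _ n ih =>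
  intro P hQP hPS hn f hf hfQ
  by_cases hPeq : P = S
  · subst hPeq
    exact hInn f hf
  obtain ⟨-, hauto, hrec⟩ := saturated_fullyNormalized hS hF (hFN P hQP hPS)
  -- the image of `f` is `P`
  have hfP : f '' (P : Set Ω) = P := by
    obtain ⟨P', hP'⟩ := hf.exists_image
    have hQP' : Q ≤ P' := by
      intro y hy
      have : y ∈ f '' (Q : Set Ω) := by rw [hfQ]; exact hy
      obtain ⟨x, hx, rfl⟩ := this
      exact IsMap.mem_image hP' (hQP hx)
    have hP'S : P' ≤ S := hf.image_le hP'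
    obtain ⟨-, hauto', hrec'⟩ := saturated_fullyNormalized hS hF (hFN P' hQP' hP'S)
    obtain ⟨g, hg, hgP, -⟩ := exists_normalizer_map hS F P' P hauto' hrec' (isConj_iff.2 ⟨f, hf, hP'⟩)
    rw [hNS P hQP hPS] at hg
    obtain ⟨u, hu, hgu⟩ := hInn g hg
    rw [hP', ← hgP]
    ext y
    constructor
    · rintro ⟨x, hx, rfl⟩
      rw [hgu x (hPS hx)]
      exact hnormal P hQP hPS u hu x hx
    · intro hy
      refine ⟨u⁻¹ * y * u, ?_, ?_⟩
      · have := hnormal P hQP hPS u⁻¹ (inv_mem hu) y hy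
        simpa using this
      · rw [hgu _ (mul_mem (mul_mem (inv_mem hu) (hPS hy)) hu)]
        group
  obtain ⟨α, hαF, hα⟩ := hf.exists_aut hfP
  have hαΓ : α ∈ stabAut F P Q := by
    refine ⟨hαF, fun x => ?_⟩
    rw [hα]
    constructor
    · intro hx
      have : f x ∈ f '' (Q : Set Ω) := ⟨x, hx, rfl⟩
      rw [hfQ] at this; exact this
    · intro hx
      have : f x ∈ f '' (Q : Set Ω) := by rw [hfQ]; exact hx
      obtain ⟨x', hx', hxx⟩ := this
      rw [← hf.inj (hQP hx') x.2 hxx]; exact hx'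
  have hSA : autInducedBy S P ≤ stabAut F P Q := by
    intro β hβ
    refine ⟨autInducedBy_le_autGroup F hPS hβ, fun x => ?_⟩
    obtain ⟨g, hg, hgx⟩ := (mem_autInducedBy_iff S P β).1 hβ
    rw [hgx]
    constructor
    · exact fun hx => hnormal Q le_rfl hQS g hg x hx
    · intro hx
      have := hnormal Q le_rfl hQS g⁻¹ (inv_mem hg) _ hx
      simpa [mul_assoc] using this
  obtain ⟨-, R₀, hR₀⟩ := hauto
  have hnz : ∀ g ∈ S, g ∈ Subgroup.normalizer (P : Set Ω) := by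
    intro g hg
    have : g ∈ normalizerIn S P := by rw [hNS P hQP hPS]; exact hg
    exact this.2
  obtain ⟨R, hR⟩ := sylow_of_le hSA (fun β hβ => hβ.1) R₀ hR₀
  have ha : ∀ β ∈ stabAut F P Q, ∀ g ∈ S, ∀ g' ∈ S, (∀ (x : P) (hx : g * x * g⁻¹ ∈ P),
      ((β ⟨g * x * g⁻¹, hx⟩ : P) : Ω) = g' * (β x : P) * g'⁻¹) → g ∉ P → β ∈ autInducedBy S P := by
    intro β hβ g hg g' hg' hrel hgP
    let fβ : Ω → Ω := tot (P.subtype.comp β.toMonoidHom)
    have hfβ : ∀ x : P, ((β x : P) : Ω) = fβ x :=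
      fun x => (tot_apply (P.subtype.comp β.toMonoidHom) x).symm
    have hmap : IsMap F P fβ := (mem_autGroup_iff_isMap F hPS β hfβ).1 hβ.1
    have himg : fβ '' (P : Set Ω) = P := by
      ext y
      constructor
      · rintro ⟨x, hx, rfl⟩
        rw [← hfβ ⟨x, hx⟩]; exact (β ⟨x, hx⟩).2
      · intro hy
        refine ⟨(β⁻¹ ⟨y, hy⟩ : P), (β⁻¹ ⟨y, hy⟩ : P).2, ?_⟩
        rw [← hfβ]; simp
    obtain ⟨N, f', hN, hf', hagree⟩ := receptive_extend hrec hmap himg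
    have hPN : P ≤ N := by
      intro y hy
      rw [hN]
      exact ⟨hPS hy, hnz y (hPS hy), fβ y, hmap.mem hy, fun x hx => hmap.map_conj hy hx⟩
    have hgN : g ∈ N := by
      rw [hN]
      refine ⟨hg, hnz g hg, g', hg', fun x hx => ?_⟩
      have hx' := hnormal P hQP hPS g hg x hx
      rw [← hfβ ⟨x, hx⟩, ← hrel ⟨x, hx⟩ hx', hfβ]
    have hNS' : N ≤ S := hf'.le
    have : Finite N := finite_of_le hNS'
    have hlt : Nat.card P < Nat.card N :=
      card_lt_card_of_lt (lt_of_le_of_ne hPN (fun h => hgP (h ▸ hgN)))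
    have hle : Nat.card N ≤ Nat.card S := Subgroup.card_le_of_le hNS'
    have hf'Q : f' '' (Q : Set Ω) = Q := by
      ext y
      constructor
      · rintro ⟨x, hx, rfl⟩
        rw [hagree x (hQP hx), ← hfβ ⟨x, hQP hx⟩]
        exact (hβ.2 ⟨x, hQP hx⟩).1 hx
      · intro hy
        have h1 : β (β⁻¹ ⟨y, hQP hy⟩) = ⟨y, hQP hy⟩ := by simp
        refine ⟨(β⁻¹ ⟨y, hQP hy⟩ : P), (hβ.2 _).2 (by rw [h1]; exact hy), ?_⟩
        rw [hagree _ (β⁻¹ ⟨y, hQP hy⟩ : P).2, ← hfβ, h1]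
    obtain ⟨u, hu, hfu⟩ := ih (Nat.card S - Nat.card N) (by omega) N (hQP.trans hPN) hNS' rfl f' hf' hf'Q
    exact (mem_autInducedBy_iff S P β).2
      ⟨u, hu, fun x => by rw [hfβ, ← hagree x x.2, hfu x (hPN x.2)]⟩
  have hb : ∀ β ∈ stabAut F P Q, ∀ x : P, (x : Ω)⁻¹ * (β x : P) ∈ Q := by
    let K : Subgroup (stabAut F P Q) :=
      { carrier := {β | ∀ x : P, (x : Ω)⁻¹ * (((β : MulAut P) x : P) : Ω) ∈ Q}
        mul_mem' := by
          intro a b ha hb x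
          have h1 : (x : Ω)⁻¹ * ((((a * b : stabAut F P Q) : MulAut P) x : P) : Ω)
              = ((x : Ω)⁻¹ * (((b : MulAut P) x : P) : Ω))
                * ((((b : MulAut P) x : P) : Ω)⁻¹ * (((a : MulAut P) ((b : MulAut P) x) : P) : Ω)) := by
            simp [mul_assoc]
          rw [h1]; exact mul_mem (hb x) (ha _)
        one_mem' := by
          intro x
          simp
        inv_mem' := by
          intro a ha x
          have h1 : (x : Ω)⁻¹ * ((((a⁻¹ : stabAut F P Q) : MulAut P) x : P) : Ω)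
              = (((((a : MulAut P)⁻¹ x : P) : Ω))⁻¹ * (((a : MulAut P) ((a : MulAut P)⁻¹ x) : P) : Ω))⁻¹ := by
            simp
          rw [h1]; exact inv_mem (ha _) }
    have hKmem : ∀ β : stabAut F P Q, β ∈ K ↔ ∀ x : P, (x : Ω)⁻¹ * (((β : MulAut P) x : P) : Ω) ∈ Q :=
      fun _ => Iff.rfl
    have hKn : K.Normal := by
      constructor
      intro n hn g x
      have h1 := (g.2.2 (((g : MulAut P)⁻¹ x)⁻¹ * (n : MulAut P) ((g : MulAut P)⁻¹ x))).1 (hn _)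
      have h2 : (x : Ω)⁻¹ * ((((g * n * g⁻¹ : stabAut F P Q) : MulAut P) x : P) : Ω)
          = (((g : MulAut P) (((g : MulAut P)⁻¹ x)⁻¹ * (n : MulAut P) ((g : MulAut P)⁻¹ x)) : P) : Ω) := by
        simp
      rw [h2]; exact h1
    have hPfin : Finite P := finite_of_le hPS
    have hRK : (R : Subgroup (stabAut F P Q)) ≤ K := by
      rw [hR]
      intro β hβ x
      obtain ⟨g, hg, hgx⟩ := (mem_autInducedBy_iff S P _).1 hβ
      have hgx' : (((β : MulAut P) x : P) : Ω) = g * x * g⁻¹ := hgx x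
      rw [hgx']
      have := hQ1 (x : Ω)⁻¹ (inv_mem (hPS x.2)) g hg
      simpa [mul_assoc] using this
    have hNK : Subgroup.normalizer ((R : Subgroup (stabAut F P Q)) : Set (stabAut F P Q)) ≤ K := by
      intro β hβ
      apply hRK
      rw [hR, Subgroup.mem_subgroupOf]
      obtain ⟨g₀, hg₀, hg₀P⟩ := SetLike.exists_of_lt (lt_of_le_of_ne hPS hPeq)
      obtain ⟨γ, hγ, hγx⟩ := exists_conjAut hg₀ (hnz g₀ hg₀)
      have h1 : (⟨γ, hSA hγ⟩ : stabAut F P Q) ∈ (R : Subgroup (stabAut F P Q)) := by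
        rw [hR, Subgroup.mem_subgroupOf]; exact hγ
      have h2 := (Subgroup.mem_normalizer_iff.1 hβ _).1 h1
      have h2' : β * ⟨γ, hSA hγ⟩ * β⁻¹ ∈ (R : Subgroup (stabAut F P Q)) := h2
      rw [hR, Subgroup.mem_subgroupOf] at h2'
      obtain ⟨g', hg', hgx'⟩ := (mem_autInducedBy_iff S P _).1 h2'
      apply ha β β.2 g₀ hg₀ g' hg' _ hg₀P
      intro x hx
      rw [← hgx']
      have h3 : (⟨g₀ * x * g₀⁻¹, hx⟩ : P) = γ x := Subtype.ext (hγx x).symm
      rw [h3]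
      simp
    have htop := eq_top_of_sylow_le K R hRK hNK
    intro β hβ x
    have : (⟨β, hβ⟩ : stabAut F P Q) ∈ K := by rw [htop]; trivial
    exact this x
  have hfin := core' hS hPS hPeq (hnormal P hQP hPS) (stabAut F P Q) hSA R hR ha (by
    intro β hβ x h
    exact (hQ2 _ (hb β hβ x)).2)
  obtain ⟨s, hs, hsx⟩ := (mem_autInducedBy_iff S P α).1 (hfin hαΓ)
  exact ⟨s, hs, fun x hx => by rw [← hα ⟨x, hx⟩, hsx]⟩

end Cfsg.Agent.Lib.Helper86Tate3
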