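import Mathlib
import Cfsg.Agent.Lib.Helper86Block
import Cfsg.Agent.Lib.Helper86Stable

set_option autoImplicit false

namespace Cfsg.Agent.Lib.Helper86Yoshida

open Subgroup MulAction Cfsg Cfsg.FusionSystem
open Cfsg.Agent.Lib.Helper86Graph Cfsg.Agent.Lib.Helper86Burnside Cfsg.Agent.Lib.Helper86Biset
open Cfsg.Agent.Lib.Helper86Mono Cfsg.Agent.Lib.Helper86Stable Cfsg.Agent.Lib.Helper86Block
open Cfsg.Agent.Lib.Helper87Fusion

theorem exists_triv {G X : Type*} [Group G] [MulAction (G × G) X]
    (hfree : ∀ (a : G) (x : X), (a, (1 : G)) • x = x → a = 1) : ∃ γ : X → G, Triv γ := by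
  letI : MulAction G X := MulAction.compHom X (MonoidHom.inl G G)
  obtain ⟨γ, hγ⟩ := exists_equivariant (H := G) (X := X) (Y := G) (fun x => ⟨1, fun g hfix => by
    rw [hfree g x hfix]; simp⟩)
  exact ⟨γ, fun a x => hγ a x⟩

universe u
variable {Ω : Type u} [Group Ω] {S : Subgroup Ω}

/-- **Yoshida**: a character of order `p` invariant under `Aut_F(S)` is stable under the whole
system, if `S` has no wreath product quotient. -/
theorem stable_of_no_wreath [Finite S] {p : ℕ} [Fact p.Prime] (hS : IsPGroup p S)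
    (F : FusionSystem S) (hF : F.IsSaturated p) {C : Type*} [CommGroup C] (hC : Nat.card C = p)
    (lam : S →* C) (hinv : ∀ f : Ω → Ω, IsMap F S f → ∀ u : S, lam (lift f u) = lam u)
    (hnw : ¬ ∃ (W : Sylow p (Equiv.Perm (Fin (p ^ 2))))
      (f : S →* ↥(W : Subgroup (Equiv.Perm (Fin (p ^ 2))))), Function.Surjective f) :
    ∀ (P : Subgroup Ω) (f : Ω → Ω), IsMap F P f → ∀ u : S, (u : Ω) ∈ P →
      lam (lift f u) = lam u := by
  obtain ⟨X, _, _, hg, hst, hp⟩ := exists_charBiset hS F hF
  obtain ⟨γ, hγ⟩ : ∃ γ : X → S, Triv γ := exists_triv (fun a x h => free_of_graph hg h)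
  let V : S → C := fun b => T lam γ (fun x : X => ((1 : S), b) • x)
  have hVst : ∀ (P : Subgroup Ω) (f : Ω → Ω), IsMap F P f → ∀ u : S, (u : Ω) ∈ P →
      V (lift f u) = V u := by
    intro P f hf u hu
    obtain ⟨e, he, heu⟩ := right_stable hst hf
    exact (T_eq_of_intertwine lam ⊤ (fun d _ s => map_mul lam d s) (fun d _ s => map_mul lam s d)
      hγ e he u (lift f u) (heu u hu) (fun _ => Subgroup.mem_top _) (fun _ => Subgroup.mem_top _)).symm
  have hm : ¬ p ∣ Nat.card (X0 γ) := by
    intro hdvd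
    apply hp
    rw [← card_X0 hγ, mul_comm]
    exact Nat.mul_dvd_mul_left _ hdvd
  have hcop : (Nat.card C).Coprime (Nat.card (X0 γ)) := by
    rw [hC]
    exact (Nat.Prime.coprime_iff_not_dvd Fact.out).2 hm
  have hgr : ∀ (w : X) (a b : S), (a, b) • w = w → ∃ (P' : Subgroup Ω) (f' : Ω → Ω), IsMap F P' f' ∧
      (b : Ω) ∈ P' ∧ a = lift f' b ∧ ∀ a' b' : S, (a', b') • w = w → (b' : Ω) ∈ P' := by
    intro w a b hfix
    obtain ⟨P', f', hf', hE⟩ := hg w
    obtain ⟨hb, hab⟩ := (hE (a, b)).1 hfix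
    exact ⟨P', f', hf', hb, Subtype.ext (by rw [lift_coe (hf'.mem hb)]; exact hab),
      fun a' b' h => ((hE (a', b')).1 h).1⟩
  have main : ∀ n : ℕ, ∀ u : S, orderOf u ≤ n → ∀ (P : Subgroup Ω) (f : Ω → Ω), IsMap F P f →
      (u : Ω) ∈ P → lam (lift f u) = lam u := by
    intro n
    induction n with
    | zero =>
      intro u hu
      exact absurd hu (by have := orderOf_pos u; omega)
    | succ n ih =>
      intro u hu P f hf huP
      have hev : ∀ x : S, orderOf x ≤ n + 1 → V x = (lam x)⁻¹ ^ Nat.card (X0 γ) := by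
        intro x hx
        apply eval_total hS hC lam hγ hnw x
        · intro w htop a b hfix
          obtain ⟨P', f', hf', hb, hab, hall⟩ := hgr w a b hfix
          have hP' : P' = S := le_antisymm hf'.le (fun s hs => by
            obtain ⟨a', ha'⟩ := htop ⟨s, hs⟩
            exact hall _ _ ha')
          rw [hP'] at hf'
          rw [hab]
          exact hinv f' hf' b
        · intro w a b hfix hlt
          obtain ⟨P', f', hf', hb, hab, -⟩ := hgr w a b hfix
          rw [hab]
          exact ih b (by omega) P' f' hf' hb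
      have h1 := hVst P f hf u huP
      have ho : orderOf (lift f u) ≤ n + 1 := by
        have h2 := orderOf_map_dvd (homOf hf) (⟨u, huP⟩ : ↥(P.subgroupOf S))
        rw [homOf_apply] at h2
        have h3 : orderOf (⟨u, huP⟩ : ↥(P.subgroupOf S)) = orderOf u := Subgroup.orderOf_mk u huP
        rw [h3] at h2
        exact (Nat.le_of_dvd (orderOf_pos u) h2).trans hu
      rw [hev u hu, hev _ ho, inv_pow, inv_pow, inv_inj] at h1
      exact (powCoprime hcop).injective h1
  exact fun P f hf u hu => main _ u le_rfl P f hf hu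

end Cfsg.Agent.Lib.Helper86Yoshida
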