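import Cfsg.Prelude
import Cfsg.Agent.Lib.Helper30SZ
import Cfsg.Agent.Lib.Helper17BG36Thompson
import Cfsg.Agent.Lib.Helper56Iso2
import Cfsg.Agent.Lib.Helper66Fpf

set_option autoImplicit false
open Cfsg Subgroup

namespace Cfsg.Agent.Lib.Helper87BG36class2

theorem le_normalizer_inf {G : Type*} [Group G] (A B C : Subgroup G)
    (hB : A ≤ normalizer (B : Set G)) (hC : A ≤ normalizer (C : Set G)) :
    A ≤ normalizer ((B ⊓ C : Subgroup G) : Set G) := by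
  intro a ha
  have h1 := hB ha
  have h2 := hC ha
  rw [mem_normalizer_iff] at h1 h2 ⊢
  intro x
  rw [mem_inf, mem_inf, h1 x, h2 x]

theorem normalizer_le_normalizer_centralizer {G : Type*} [Group G] (U : Subgroup G) :
    normalizer (U : Set G) ≤ normalizer ((centralizer (U : Set G) : Subgroup G) : Set G) := by
  intro n hn
  rw [mem_normalizer_iff] at hn ⊢
  have key : ∀ m : G, (∀ h, h ∈ U ↔ m * h * m⁻¹ ∈ U) → ∀ x, x ∈ centralizer (U : Set G) →
      m * x * m⁻¹ ∈ centralizer (U : Set G) := by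
    intro m hm x hx
    rw [mem_centralizer_iff] at hx ⊢
    intro u hu
    have h1 : m⁻¹ * u * m ∈ U := by
      rw [hm]; simpa [mul_assoc] using hu
    have h2 := hx _ h1
    calc u * (m * x * m⁻¹) = m * ((m⁻¹ * u * m) * x) * m⁻¹ := by group
      _ = m * (x * (m⁻¹ * u * m)) * m⁻¹ := by rw [h2]
      _ = m * x * m⁻¹ * u := by group
  intro x
  constructor
  · exact key n hn x
  · intro hx
    have hn' : ∀ h, h ∈ U ↔ n⁻¹ * h * n⁻¹⁻¹ ∈ U := by
      intro h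
      rw [hn (n⁻¹ * h * n⁻¹⁻¹)]
      simp [mul_assoc]
    have := key n⁻¹ hn' _ hx
    simpa [mul_assoc] using this

theorem exists_c {G : Type*} [Group G] [Finite G] {r : ℕ} (hr : r.Prime) {Q A R : Subgroup G}
    (hAQ : A ≤ normalizer (Q : Set G)) (hRQ : R ≤ normalizer (Q : Set G))
    (hRA : R ≤ normalizer (A : Set G))
    (hQs : Group.IsSolvable Q) (hQA' : (Nat.card Q).Coprime (Nat.card A)) (hQr : (Nat.card Q).Coprime r)
    (hR : Nat.card R = r) (hfpf : ∀ x ∈ R, x ≠ 1 → ∀ a ∈ A, x * a = a * x → a = 1)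
    (hQnc : ¬ ∀ a ∈ Q, ∀ b ∈ Q, a * b = b * a) (hQA : ⁅Q, A⁆ = Q)
    (hQmin : ∀ X ≤ Q, X ≠ Q → A ≤ normalizer (X : Set G) → R ≤ normalizer (X : Set G) →
        A ≤ centralizer (X : Set G))
    (hZ : IsZGroup ↥(Q ⊓ centralizer (R : Set G))) :
    ⁅Q, Q⁆ ≤ centralizer (Q : Set G) ∧
    (∀ a ∈ Q ⊓ centralizer (R : Set G), ∀ b ∈ Q ⊓ centralizer (R : Set G), a * b = b * a) ∧
    ∃ c ∈ Q ⊓ centralizer (R : Set G), c ∉ centralizer (Q : Set G) := by
  have hQ1 : Q ≠ ⊥ := by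
    intro h
    apply hQnc
    intro a ha b hb
    rw [h, mem_bot] at ha hb
    rw [ha, hb]
  have hlt : ⁅Q, Q⁆ < Q := Cfsg.Agent.Lib.Helper66Fpf.comm_lt hQs hQ1
  have hAQ' : A ≤ centralizer ((⁅Q, Q⁆ : Subgroup G) : Set G) :=
    hQmin _ hlt.le hlt.ne (Cfsg.Agent.Lib.Helper30SZ.le_normalizer_commutator hAQ hAQ)
      (Cfsg.Agent.Lib.Helper30SZ.le_normalizer_commutator hRQ hRQ)
  have h1 : ⁅⁅A, ⁅Q, Q⁆⁆, Q⁆ = ⊥ := by
    have : ⁅A, ⁅Q, Q⁆⁆ = ⊥ := by
      rw [Subgroup.commutator_eq_bot_iff_le_centralizer]; exact hAQ'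
    rw [this, Subgroup.commutator_bot_left]
  have h2 : ⁅⁅⁅Q, Q⁆, Q⁆, A⁆ = ⊥ := by
    rw [Subgroup.commutator_eq_bot_iff_le_centralizer]
    have h3 : ⁅⁅Q, Q⁆, Q⁆ ≤ ⁅Q, Q⁆ := Subgroup.commutator_mono hlt.le le_rfl
    exact h3.trans (le_centralizer_iff.mp hAQ')
  have h3 : ⁅⁅Q, A⁆, ⁅Q, Q⁆⁆ = ⊥ := Subgroup.commutator_commutator_eq_bot_of_rotate h1 h2
  rw [hQA] at h3
  have hcl : ⁅Q, Q⁆ ≤ centralizer (Q : Set G) := by
    have := (Subgroup.commutator_eq_bot_iff_le_centralizer).mp h3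
    exact le_centralizer_iff.mp this
  refine ⟨hcl, ?_, ?_⟩
  · have hbot : ⁅⁅Q, Q⁆, Q⁆ = ⊥ := by
      rw [Subgroup.commutator_eq_bot_iff_le_centralizer]; exact hcl
    have hnil' : Group.IsNilpotent ↥(Q ⊓ centralizer (R : Set G)) := by
      apply Cfsg.Agent.Lib.Helper56Iso2.isNilpotent_of_comm3
      rw [eq_bot_iff, ← hbot]
      exact Subgroup.commutator_mono (Subgroup.commutator_mono inf_le_left inf_le_left) inf_le_left
    have hcyc : IsCyclic ↥(Q ⊓ centralizer (R : Set G)) := inferInstance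
    intro a ha b hb
    have := hcyc.isMulCommutative.is_comm.comm (⟨a, ha⟩ : ↥(Q ⊓ centralizer (R : Set G))) ⟨b, hb⟩
    exact congrArg Subtype.val this
  · by_contra hcon
    push Not at hcon
    have hfix : Q ⊓ centralizer (R : Set G) ≤ Q ⊓ centralizer (Q : Set G) :=
      fun c hc => ⟨hc.1, hcon c hc⟩
    have hn : ∀ B : Subgroup G, B ≤ normalizer (Q : Set G) →
        B ≤ normalizer ((Q ⊓ centralizer (Q : Set G) : Subgroup G) : Set G) := fun B hB =>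
      le_normalizer_inf _ _ _ hB (hB.trans (normalizer_le_normalizer_centralizer Q))
    have := Cfsg.Agent.Lib.Helper17BG36Thompson.comm_le_of_fixed_le hr hAQ hRQ hRA
      (inf_le_left : Q ⊓ centralizer (Q : Set G) ≤ Q) (hn Q le_normalizer) (hn A hAQ) (hn R hRQ)
      hR hfpf hQA' hQr hfix
    rw [hQA] at this
    apply hQnc
    intro a ha b hb
    exact ((mem_centralizer_iff.mp (this hb).2) a ha)

end Cfsg.Agent.Lib.Helper87BG36class2
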