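import Mathlib
import Cfsg.Agent.Lib.Helper14QdSec
import Cfsg.Agent.Lib.Helper14QdFus
import Cfsg.Agent.Lib.Helper87Sylow
import Cfsg.Agent.Lib.Helper87Realized

set_option autoImplicit false
set_option linter.unusedSectionVars false
set_option linter.unusedSimpArgs false

namespace Cfsg.Agent.Lib.Helper88QdSec

open Cfsg Cfsg.Agent.Lib.Helper24Section Cfsg.Agent.Lib.Helper51Qd Cfsg.Agent.Lib.Helper14QdSec
  Cfsg.Agent.Lib.Helper87Sylow

variable {G : Type*} [Group G]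

/-- A natural pair modulo a subgroup `Z`. -/
structure SecPair (p : ℕ) (Z : Subgroup G) (s t v w : G) : Prop where
  ns : ∀ z ∈ Z, s * z * s⁻¹ ∈ Z
  nt : ∀ z ∈ Z, t * z * t⁻¹ ∈ Z
  nv : ∀ z ∈ Z, v * z * v⁻¹ ∈ Z
  nw : ∀ z ∈ Z, w * z * w⁻¹ ∈ Z
  hv1 : v ∉ Z
  hvp : v ^ p ∈ Z
  hwp : w ^ p ∈ Z
  hvw : (w * v)⁻¹ * (v * w) ∈ Z
  sv : v⁻¹ * (s * v * s⁻¹) ∈ Z
  sw : (w * v)⁻¹ * (s * w * s⁻¹) ∈ Z
  tv : (v * w)⁻¹ * (t * v * t⁻¹) ∈ Z
  tw : w⁻¹ * (t * w * t⁻¹) ∈ Z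

theorem SecPair.map {p : ℕ} {Z : Subgroup G} {s t v w : G} (h : SecPair p Z s t v w)
    {G' : Type*} [Group G'] (φ : G →* G') (hv : φ v ∉ Z.map φ) :
    SecPair p (Z.map φ) (φ s) (φ t) (φ v) (φ w) where
  ns := by rintro _ ⟨z, hz, rfl⟩; exact ⟨_, h.ns z hz, by simp⟩
  nt := by rintro _ ⟨z, hz, rfl⟩; exact ⟨_, h.nt z hz, by simp⟩
  nv := by rintro _ ⟨z, hz, rfl⟩; exact ⟨_, h.nv z hz, by simp⟩
  nw := by rintro _ ⟨z, hz, rfl⟩; exact ⟨_, h.nw z hz, by simp⟩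
  hv1 := hv
  hvp := ⟨_, h.hvp, by simp⟩
  hwp := ⟨_, h.hwp, by simp⟩
  hvw := ⟨_, h.hvw, by simp⟩
  sv := ⟨_, h.sv, by simp⟩
  sw := ⟨_, h.sw, by simp⟩
  tv := ⟨_, h.tv, by simp⟩
  tw := ⟨_, h.tw, by simp⟩

theorem SecPair.map_injective {p : ℕ} {Z : Subgroup G} {s t v w : G} (h : SecPair p Z s t v w)
    {G' : Type*} [Group G'] (φ : G →* G') (hφ : Function.Injective φ) :
    SecPair p (Z.map φ) (φ s) (φ t) (φ v) (φ w) :=
  h.map φ (by
    rintro ⟨z, hz, hzv⟩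
    exact h.hv1 (hφ hzv ▸ hz))

/-- restriction to a subgroup containing the four elements -/
theorem SecPair.restrict {p : ℕ} {Z : Subgroup G} {s t v w : G} (h : SecPair p Z s t v w)
    (X : Subgroup G) (hs : s ∈ X) (ht : t ∈ X) (hv : v ∈ X) (hw : w ∈ X) :
    SecPair p (Z.subgroupOf X) (⟨s, hs⟩ : X) ⟨t, ht⟩ ⟨v, hv⟩ ⟨w, hw⟩ where
  ns := fun z hz => Subgroup.mem_subgroupOf.2 (h.ns z (Subgroup.mem_subgroupOf.1 hz))
  nt := fun z hz => Subgroup.mem_subgroupOf.2 (h.nt z (Subgroup.mem_subgroupOf.1 hz))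
  nv := fun z hz => Subgroup.mem_subgroupOf.2 (h.nv z (Subgroup.mem_subgroupOf.1 hz))
  nw := fun z hz => Subgroup.mem_subgroupOf.2 (h.nw z (Subgroup.mem_subgroupOf.1 hz))
  hv1 := fun hz => h.hv1 (Subgroup.mem_subgroupOf.1 hz)
  hvp := Subgroup.mem_subgroupOf.2 h.hvp
  hwp := Subgroup.mem_subgroupOf.2 h.hwp
  hvw := Subgroup.mem_subgroupOf.2 h.hvw
  sv := Subgroup.mem_subgroupOf.2 h.sv
  sw := Subgroup.mem_subgroupOf.2 h.sw
  tv := Subgroup.mem_subgroupOf.2 h.tv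
  tw := Subgroup.mem_subgroupOf.2 h.tw

/-- a natural pair modulo `Z` gives a section `Qd(p)`. -/
theorem SecPair.involves [Finite G] {p : ℕ} [Fact p.Prime] (hp : p ≠ 2) {Z : Subgroup G}
    {s t v w : G} (h : SecPair p Z s t v w) : Involves ↥(qd p) G := by
  have hn : ∀ {g : G}, (∀ z ∈ Z, g * z * g⁻¹ ∈ Z) → g ∈ Subgroup.normalizer (Z : Set G) :=
    fun hg => Cfsg.Agent.Lib.Helper87Realized.mem_normalizer_of_conj_mem hg
  set X := Subgroup.normalizer (Z : Set G) with hX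
  have h' := h.restrict X (hn h.ns) (hn h.nt) (hn h.nv) (hn h.nw)
  have hZn : (Z.subgroupOf X).Normal := Subgroup.normal_in_normalizer
  set π := QuotientGroup.mk' (Z.subgroupOf X) with hπ
  have key : ∀ {a b : X}, a⁻¹ * b ∈ Z.subgroupOf X → π b = π a := by
    intro a b hab
    exact ((QuotientGroup.eq).2 hab).symm
  have one : ∀ {a : X}, a ∈ Z.subgroupOf X → π a = 1 := by
    intro a ha
    exact (QuotientGroup.eq_one_iff a).2 ha
  have hN : NatPair p (π ⟨s, hn h.ns⟩) (π ⟨t, hn h.nt⟩) (π ⟨v, hn h.nv⟩) (π ⟨w, hn h.nw⟩) := by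
    refine ⟨?_, ?_, ?_, ?_, ?_, ?_, ?_, ?_⟩
    · intro h1
      exact h'.hv1 ((QuotientGroup.eq_one_iff _).1 h1)
    · rw [← map_pow]; exact one h'.hvp
    · rw [← map_pow]; exact one h'.hwp
    · show _ * _ = _ * _
      rw [← map_mul, ← map_mul]; exact key h'.hvw
    · rw [← map_inv, ← map_mul, ← map_mul]; exact key h'.sv
    · rw [← map_inv, ← map_mul, ← map_mul, ← map_mul]; exact key h'.sw
    · rw [← map_inv, ← map_mul, ← map_mul, ← map_mul]; exact key h'.tv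
    · rw [← map_inv, ← map_mul, ← map_mul]; exact key h'.tw
  exact Involves.trans (Involves.trans (involves_qd hp hN) (involves_quotient _)) (involves_subgroup X)

/-- the bundled data: a natural pair modulo `Z ≤ Q`, with `v, w ∈ Q` and `s, t ∈ N(Q)`. -/
structure QData (p : ℕ) (Q Z : Subgroup G) (s t v w : G) : Prop where
  sec : SecPair p Z s t v w
  hZ : Z ≤ Q
  hs : s ∈ Subgroup.normalizer (Q : Set G)
  ht : t ∈ Subgroup.normalizer (Q : Set G)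
  hv : v ∈ Q
  hw : w ∈ Q

theorem QData.map_injective {p : ℕ} {Q Z : Subgroup G} {s t v w : G} (h : QData p Q Z s t v w)
    {G' : Type*} [Group G'] (φ : G →* G') (hφ : Function.Injective φ) :
    QData p (Q.map φ) (Z.map φ) (φ s) (φ t) (φ v) (φ w) where
  sec := h.sec.map_injective φ hφ
  hZ := Subgroup.map_mono h.hZ
  hs := Subgroup.le_normalizer_map φ ⟨s, h.hs, rfl⟩
  ht := Subgroup.le_normalizer_map φ ⟨t, h.ht, rfl⟩
  hv := ⟨v, h.hv, rfl⟩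
  hw := ⟨w, h.hw, rfl⟩

/-- lifting a normal `p`-subgroup through a surjection, with a Frattini argument. -/
theorem exists_lift [Finite G] {p : ℕ} [Fact p.Prime] {H : Type*} [Group H] (f : G →* H)
    (hf : Function.Surjective f) (T : Subgroup H) [hTn : T.Normal] (hT : IsPGroup p T) :
    ∃ V₀ : Subgroup G, IsPGroup p V₀ ∧ (∀ τ ∈ T, ∃ y ∈ V₀, f y = τ) ∧
      (∀ σ : H, ∃ k ∈ Subgroup.normalizer (V₀ : Set G), f k = σ) := by
  obtain ⟨PK⟩ : Nonempty (Sylow p G) := inferInstance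
  have hTX : T ≤ (PK.mapSurjective hf : Subgroup H) := hT.le_sylow_of_normal _
  set V : Subgroup G := T.comap f with hV
  have hVn : V.Normal := hTn.comap f
  have hsyl : SylIn p ((PK : Subgroup G) ⊓ V) V := (sylow_sylIn PK).inf_normal le_top (by
    intro n _ y hy
    rw [mem_cj] at hy
    have := hVn.conj_mem _ hy n
    simpa [mul_assoc] using this)
  have hlift : ∀ τ ∈ T, ∃ y ∈ (PK : Subgroup G) ⊓ V, f y = τ := by
    intro τ hτ
    have h1 := hTX hτ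
    rw [Sylow.coe_mapSurjective] at h1
    obtain ⟨y, hy, rfl⟩ := h1
    exact ⟨y, ⟨hy, hτ⟩, rfl⟩
  refine ⟨(PK : Subgroup G) ⊓ V, hsyl.isPGroup, hlift, fun σ => ?_⟩
  obtain ⟨k₀, rfl⟩ := hf σ
  have h1 : cj k₀ ((PK : Subgroup G) ⊓ V) ≤ V := by
    intro y hy
    rw [mem_cj] at hy
    have := hVn.conj_mem _ hy.2 k₀
    simpa [mul_assoc] using this
  obtain ⟨n, hn, hle⟩ := hsyl.exists_conj_le h1 (isPGroup_cj hsyl.isPGroup)
  rw [cj_cj] at hle
  have h2 : n * k₀ ∈ Subgroup.normalizer (((PK : Subgroup G) ⊓ V : Subgroup G) : Set G) :=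
    Cfsg.Agent.Lib.Helper87Realized.mem_normalizer_of_conj_mem
      (fun q hq => hle (conj_mem_cj hq))
  obtain ⟨y, hy, hfy⟩ := hlift (f n)⁻¹ (T.inv_mem hn)
  refine ⟨y * (n * k₀), Subgroup.mul_mem _ (Subgroup.le_normalizer hy) h2, ?_⟩
  rw [map_mul, map_mul, hfy]
  group

/-- pulling a natural pair back through a homomorphism. -/
theorem qdata_of_natPair {p : ℕ} {H : Type*} [Group H] (f : G →* H) {V₀ : Subgroup G}
    {s t v w : G} (hN : NatPair p (f s) (f t) (f v) (f w))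
    (hs : s ∈ Subgroup.normalizer (V₀ : Set G)) (ht : t ∈ Subgroup.normalizer (V₀ : Set G))
    (hv : v ∈ V₀) (hw : w ∈ V₀) : QData p V₀ (V₀ ⊓ f.ker) s t v w := by
  have cs : ∀ {g x : G}, g ∈ Subgroup.normalizer (V₀ : Set G) → x ∈ V₀ → g * x * g⁻¹ ∈ V₀ :=
    fun hg hx => (Subgroup.mem_normalizer_iff.1 hg _).1 hx
  have ck : ∀ (g : G) {x : G}, x ∈ f.ker → g * x * g⁻¹ ∈ f.ker :=
    fun g x hx => (MonoidHom.normal_ker f).conj_mem x hx g
  have hvn := Subgroup.le_normalizer hv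
  have hwn := Subgroup.le_normalizer hw
  refine ⟨⟨fun z hz => ⟨cs hs hz.1, ck s hz.2⟩, fun z hz => ⟨cs ht hz.1, ck t hz.2⟩,
    fun z hz => ⟨cs hvn hz.1, ck v hz.2⟩, fun z hz => ⟨cs hwn hz.1, ck w hz.2⟩, ?_, ?_, ?_, ?_,
    ?_, ?_, ?_, ?_⟩, inf_le_left, hs, ht, hv, hw⟩
  · intro h
    exact hN.hv1 (MonoidHom.mem_ker.1 h.2)
  · exact Subgroup.mem_inf.2 ⟨V₀.pow_mem hv p, MonoidHom.mem_ker.2 (by rw [map_pow, hN.hvp])⟩
  · exact Subgroup.mem_inf.2 ⟨V₀.pow_mem hw p, MonoidHom.mem_ker.2 (by rw [map_pow, hN.hwp])⟩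
  · refine Subgroup.mem_inf.2 ⟨V₀.mul_mem (V₀.inv_mem (V₀.mul_mem hw hv)) (V₀.mul_mem hv hw), MonoidHom.mem_ker.2 ?_⟩
    rw [map_mul, map_inv, map_mul, map_mul, hN.hvw.eq, inv_mul_cancel]
  · refine Subgroup.mem_inf.2 ⟨V₀.mul_mem (V₀.inv_mem hv) (cs hs hv), MonoidHom.mem_ker.2 ?_⟩
    rw [map_mul, map_inv, map_mul, map_mul, map_inv, hN.sv, inv_mul_cancel]
  · refine Subgroup.mem_inf.2 ⟨V₀.mul_mem (V₀.inv_mem (V₀.mul_mem hw hv)) (cs hs hw), MonoidHom.mem_ker.2 ?_⟩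
    rw [map_mul, map_inv, map_mul, map_mul, map_mul, map_inv, hN.sw,
      inv_mul_cancel]
  · refine Subgroup.mem_inf.2 ⟨V₀.mul_mem (V₀.inv_mem (V₀.mul_mem hv hw)) (cs ht hv), MonoidHom.mem_ker.2 ?_⟩
    rw [map_mul, map_inv, map_mul, map_mul, map_mul, map_inv, hN.tv,
      inv_mul_cancel]
  · refine Subgroup.mem_inf.2 ⟨V₀.mul_mem (V₀.inv_mem hw) (cs ht hw), MonoidHom.mem_ker.2 ?_⟩
    rw [map_mul, map_inv, map_mul, map_mul, map_inv, hN.tw, inv_mul_cancel]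

section qd

variable {p : ℕ} [Fact p.Prime]

/-- upper transvection -/
def sMat (p : ℕ) : Matrix.SpecialLinearGroup (Fin 2) (ZMod p) :=
  ⟨!![1, 1; 0, 1], by simp [Matrix.det_fin_two]⟩

/-- lower transvection -/
def tMat (p : ℕ) : Matrix.SpecialLinearGroup (Fin 2) (ZMod p) :=
  ⟨!![1, 0; 1, 1], by simp [Matrix.det_fin_two]⟩

theorem mk_one_pow (b : Fin 2 → ZMod p) : (mk 1 b : ↥(qdOver (ZMod p))) ^ p = 1 := by
  have h1 : (mk 1 b : ↥(qdOver (ZMod p))) = tra (Multiplicative.ofAdd b) := rfl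
  rw [h1, ← map_pow, ← ofAdd_nsmul]
  have h2 : p • b = 0 := by
    ext i
    simp
  rw [h2]
  exact mk_one_zero

theorem natPair_qd : NatPair p (mk (sMat p) 0 : ↥(qdOver (ZMod p))) (mk (tMat p) 0)
    (mk 1 ![1, 0]) (mk 1 ![0, 1]) := by
  refine ⟨?_, mk_one_pow _, mk_one_pow _, ?_, ?_, ?_, ?_, ?_⟩
  · intro h
    rw [← mk_one_zero] at h
    have := congrFun (mk_injective h).2 0
    simp at this
  · show _ * _ = _ * _
    rw [mk_mul_mk, mk_mul_mk]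
    congr 1
    simp [add_comm]
  · rw [Cfsg.Agent.Lib.Helper14QdFus.conj_mk]
    congr 1
    ext i
    fin_cases i <;> simp [sMat, Matrix.mulVec, dotProduct, Fin.sum_univ_two]
  · rw [Cfsg.Agent.Lib.Helper14QdFus.conj_mk, mk_mul_mk]
    congr 1
    · simp
    · ext i
      fin_cases i <;> simp [sMat, Matrix.mulVec, dotProduct, Fin.sum_univ_two]
  · rw [Cfsg.Agent.Lib.Helper14QdFus.conj_mk, mk_mul_mk]
    congr 1
    · simp
    · ext i
      fin_cases i <;> simp [tMat, Matrix.mulVec, dotProduct, Fin.sum_univ_two]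
  · rw [Cfsg.Agent.Lib.Helper14QdFus.conj_mk]
    congr 1
    ext i
    fin_cases i <;> simp [tMat, Matrix.mulVec, dotProduct, Fin.sum_univ_two]

/-- **Step 2.** A section `Qd(p)` gives the bundled data on a `p`-subgroup. -/
theorem exists_qdata [Finite G] (h : Involves ↥(qd p) G) :
    ∃ (Q Z : Subgroup G) (s t v w : G), IsPGroup p Q ∧ QData p Q Z s t v w := by
  obtain ⟨K, f, hf⟩ := involves_iff.1 h
  change K →* ↥(qdOver (ZMod p)) at f
  have hTn : ((blk : ↥(qdOver (ZMod p)) →* _).ker).Normal := MonoidHom.normal_ker _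
  obtain ⟨V₀, hV₀, hlift, hfr⟩ := exists_lift (p := p) f hf (blk : ↥(qdOver (ZMod p)) →* _).ker
    ker_blk_isPGroup
  obtain ⟨s, hs, hfs⟩ := hfr (mk (sMat p) 0)
  obtain ⟨t, ht, hft⟩ := hfr (mk (tMat p) 0)
  obtain ⟨v, hv, hfv⟩ := hlift (mk 1 ![1, 0]) ((mem_ker_blk_iff' _).2 ⟨_, rfl⟩)
  obtain ⟨w, hw, hfw⟩ := hlift (mk 1 ![0, 1]) ((mem_ker_blk_iff' _).2 ⟨_, rfl⟩)
  have hN : NatPair p (f s) (f t) (f v) (f w) := by
    rw [hfs, hft, hfv, hfw]; exact natPair_qd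
  have hD := (qdata_of_natPair f hN hs ht hv hw).map_injective K.subtype K.subtype_injective
  exact ⟨_, _, _, _, _, _, hV₀.map _, hD⟩

end qd

theorem conj_mul_eq {Q : Subgroup G} {c s x : G} (hc : c ∈ Subgroup.centralizer (Q : Set G))
    (hs : s ∈ Subgroup.normalizer (Q : Set G)) (hx : x ∈ Q) :
    (c * s) * x * (c * s)⁻¹ = s * x * s⁻¹ := by
  have h1 : s * x * s⁻¹ ∈ Q := (Subgroup.mem_normalizer_iff.1 hs _).1 hx
  have h2 := Subgroup.mem_centralizer_iff.1 hc _ h1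
  calc (c * s) * x * (c * s)⁻¹ = c * (s * x * s⁻¹) * c⁻¹ := by group
    _ = (s * x * s⁻¹) * c * c⁻¹ := by rw [h2]
    _ = _ := by group

/-- **Step 3.** Enlarging `Q` to a `p`-centric subgroup. -/
theorem exists_centric [Finite G] {p : ℕ} [Fact p.Prime] {Q Z : Subgroup G} {s t v w : G}
    (hQ : IsPGroup p Q) (h : QData p Q Z s t v w) :
    ∃ (Q₁ M : Subgroup G) (s' t' : G), SylIn p Q₁ M ∧
      Subgroup.centralizer (Q₁ : Set G) ≤ M ∧ QData p Q₁ Z s' t' v w := by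
  set C := Subgroup.centralizer (Q : Set G) with hC
  set M := Q ⊔ C with hM
  obtain ⟨Q₁, hQQ₁, hsyl⟩ := exists_sylIn_ge (p := p) (le_sup_left : Q ≤ M) hQ
  have hnorm : Q ≤ Subgroup.normalizer ((C : Subgroup G) : Set G) := by
    intro q hq
    rw [Subgroup.mem_normalizer_iff_map_conj_eq]
    have h2 := cj_centralizer q Q
    rw [cj_of_mem hq] at h2
    exact h2
  have key : ∀ s ∈ Subgroup.normalizer (Q : Set G), ∃ c ∈ C,
      c * s ∈ Subgroup.normalizer (Q₁ : Set G) := by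
    intro s hs
    have hsQ : cj s Q = Q := (Subgroup.mem_normalizer_iff_map_conj_eq).1 hs
    have hsM : cj s M = M := by
      have h2 := cj_centralizer s Q
      rw [hsQ] at h2
      have h3 : cj s (Q ⊔ C) = cj s Q ⊔ cj s C := Subgroup.map_sup _ _ _
      rw [hM, h3, hsQ, h2]
    have h1 : cj s Q₁ ≤ M := by
      rw [← hsM]; exact cj_mono hsyl.1
    obtain ⟨m, hm, hmX⟩ := hsyl.exists_conj_le h1 (isPGroup_cj hsyl.isPGroup)
    have h2 : m ∈ ((Q ⊔ C : Subgroup G) : Set G) := hm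
    rw [Subgroup.coe_mul_of_left_le_normalizer_right _ _ hnorm] at h2
    obtain ⟨q, hq, c, hc, rfl⟩ := h2
    refine ⟨c, hc, ?_⟩
    rw [← cj_cj] at hmX
    have h3 := cj_mono (g := q⁻¹) hmX
    rw [cj_cj, inv_mul_cancel, cj_one, cj_of_mem (Subgroup.inv_mem _ (hQQ₁ hq)), cj_cj] at h3
    exact Cfsg.Agent.Lib.Helper87Realized.mem_normalizer_of_conj_mem
      (fun x hx => h3 (conj_mem_cj hx))
  obtain ⟨c, hc, hcs⟩ := key s h.hs
  obtain ⟨d, hd, hdt⟩ := key t h.ht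
  refine ⟨Q₁, M, c * s, d * t, hsyl,
    (Subgroup.centralizer_le (by exact_mod_cast hQQ₁)).trans le_sup_right, ?_, h.hZ.trans hQQ₁,
    hcs, hdt, hQQ₁ h.hv, hQQ₁ h.hw⟩
  have hS := h.sec
  refine ⟨fun z hz => ?_, fun z hz => ?_, hS.nv, hS.nw, hS.hv1, hS.hvp, hS.hwp, hS.hvw, ?_, ?_, ?_,
    ?_⟩
  · rw [conj_mul_eq hc h.hs (h.hZ hz)]; exact hS.ns z hz
  · rw [conj_mul_eq hd h.ht (h.hZ hz)]; exact hS.nt z hz
  · rw [conj_mul_eq hc h.hs h.hv]; exact hS.sv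
  · rw [conj_mul_eq hc h.hs h.hw]; exact hS.sw
  · rw [conj_mul_eq hd h.ht h.hv]; exact hS.tv
  · rw [conj_mul_eq hd h.ht h.hw]; exact hS.tw

end Cfsg.Agent.Lib.Helper88QdSec
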