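import Mathlib
import Cfsg.Agent.Lib.Helper88QdSec
import Cfsg.Agent.Lib.Helper87ModelQ
import Cfsg.Agent.Lib.Helper90ModelUnique
import Cfsg.Agent.Lib.Helper87GroupFusion
import Cfsg.Agent.Lib.Helper87Free

set_option autoImplicit false
set_option linter.unusedSectionVars false
set_option linter.unusedSimpArgs false

namespace Cfsg.Agent.Lib.Helper88QdFree

open Cfsg Cfsg.FusionSystem Cfsg.Agent.Lib.Helper24Section Cfsg.Agent.Lib.Helper88QdSec
  Cfsg.Agent.Lib.Helper87Sylow Cfsg.Agent.Lib.Helper87Fusion Cfsg.Agent.Lib.Helper87Fusion3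
  Cfsg.Agent.Lib.Helper87Realized Cfsg.Agent.Lib.Helper87GroupFusion

variable {G : Type*} [Group G] [Finite G]

/-- the inclusion `N_S(Q) → N_G(Q)` -/
abbrev incl (S Q : Subgroup G) : normalizerIn S Q →* ↥(Subgroup.normalizer (Q : Set G)) :=
  Subgroup.inclusion (normalizerIn_le_normalizer S Q)

theorem coe_iot_incl (S Q : Subgroup G) {x : G} (hx : x ∈ normalizerIn S Q) :
    ((iot (incl S Q) x : ↥(Subgroup.normalizer (Q : Set G))) : G) = x := by
  rw [iot_of_mem _ hx]; rfl

/-- the normalizer system of `F_S(G)` at `Q` is realized by `N_G(Q)`. -/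
theorem normSys_realized {S Q : Subgroup G} (hQ : Q ≤ S)
    {N : FusionSystem (normalizerIn S Q)} (hN : (groupFusionSystem S).IsNormalizerSystem Q N) :
    N.IsRealizedBy (incl S Q) := by
  apply Cfsg.Agent.Lib.Helper87Free.realized_of_isMap_iff
    (Subgroup.inclusion_injective (normalizerIn_le_normalizer S Q))
  intro P f
  rw [isMap_normalizer_iff hN]
  constructor
  · rintro ⟨-, hP, hfP, f', hf', hff', hf'Q⟩
    refine ⟨hP, hfP, ?_⟩
    obtain ⟨-, g, hg⟩ := isMap_group_iff.1 hf'
    have hgn : g ∈ Subgroup.normalizer (Q : Set G) := by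
      apply mem_normalizer_of_conj_mem
      intro q hq
      rw [← (hg q (Subgroup.mem_sup_right hq)).1]
      have : f' q ∈ f' '' (Q : Set G) := ⟨q, hq, rfl⟩
      rw [hf'Q] at this
      exact this
    refine ⟨⟨g, hgn⟩, fun x hx => ?_⟩
    apply Subtype.ext
    rw [Subgroup.coe_mul, Subgroup.coe_mul, Subgroup.coe_inv, coe_iot_incl S Q (hfP x hx),
      coe_iot_incl S Q (hP hx), ← hff' x hx]
    exact (hg x (Subgroup.mem_sup_left hx)).1
  · rintro ⟨hP, hfP, ⟨g, hgn⟩, hg⟩
    have hg' : ∀ x ∈ P, f x = g * x * g⁻¹ := by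
      intro x hx
      have := congrArg Subtype.val (hg x hx)
      rw [Subgroup.coe_mul, Subgroup.coe_mul, Subgroup.coe_inv, coe_iot_incl S Q (hfP x hx),
        coe_iot_incl S Q (hP hx)] at this
      exact this
    have hPS : P ≤ S := hP.trans (normalizerIn_le S Q)
    have hgQ : cj g Q = Q := (Subgroup.mem_normalizer_iff_map_conj_eq).1 hgn
    refine ⟨isMap_group_iff.2 ⟨hPS, g, fun x hx => ⟨hg' x hx, ?_⟩⟩, hP, hfP,
      fun x => g * x * g⁻¹, isMap_group_iff.2 ⟨sup_le hPS hQ, g, fun x hx => ⟨rfl, ?_⟩⟩,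
      fun x hx => (hg' x hx).symm, ?_⟩
    · rw [← hg' x hx]; exact normalizerIn_le S Q (hfP x hx)
    · have h1 : cj g (P ⊔ Q) ≤ S := by
        have h3 : cj g (P ⊔ Q) = cj g P ⊔ cj g Q := Subgroup.map_sup _ _ _
        rw [h3, hgQ]
        refine sup_le ?_ hQ
        rintro _ ⟨x, hx, rfl⟩
        show g * x * g⁻¹ ∈ S
        rw [← hg' x hx]; exact normalizerIn_le S Q (hfP x hx)
      exact h1 (conj_mem_cj hx)
    · have : ((cj g Q : Subgroup G) : Set G) = (Q : Set G) := by rw [hgQ]
      exact this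

variable {p : ℕ} [Fact p.Prime]

/-- the standard model of the normalizer system at a fully normalized self-centralizing `Q`. -/
theorem normSys_model (P : Sylow p G) {Q : Subgroup G}
    (hfn : (groupFusionSystem (P : Subgroup G)).IsFullyNormalized Q)
    (hc : centralizerIn (P : Subgroup G) Q ≤ Q)
    {N : FusionSystem (normalizerIn (P : Subgroup G) Q)}
    (hN : (groupFusionSystem (P : Subgroup G)).IsNormalizerSystem Q N) :
    N.IsSaturated p ∧ N.IsModel p
      (↥(Subgroup.normalizer (Q : Set G)) ⧸ pPrimeCore p ↥(Subgroup.normalizer (Q : Set G)))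
      ((QuotientGroup.mk' (pPrimeCore p ↥(Subgroup.normalizer (Q : Set G)))).comp
        (incl (P : Subgroup G) Q)) := by
  have hQ : Q ≤ P := hfn.1
  have hι := normSys_realized hQ hN
  have hsyl := (fullyNormalized_iff P hQ).1 hfn
  obtain ⟨T, hT⟩ := (sylIn_iff hsyl.1).1 hsyl
  have hT' : (T : Subgroup ↥(Subgroup.normalizer (Q : Set G))) = (incl (P : Subgroup G) Q).range := by
    rw [hT, Subgroup.inclusion_range]
  refine ⟨saturated_of_realized hι T hT', ?_⟩
  apply Cfsg.Agent.Lib.Helper87ModelQ.model_of_realized hι T hT' (R := Q) (le_normalizerIn hQ)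
  · have h1 : hat (incl (P : Subgroup G) Q) Q = Q.subgroupOf (Subgroup.normalizer (Q : Set G)) := by
      ext y
      rw [mem_hat, Subgroup.mem_subgroupOf]
      constructor
      · rintro ⟨x, hx, hxN, rfl⟩
        rw [coe_iot_incl _ _ hxN]; exact hx
      · intro hy
        refine ⟨y, hy, le_normalizerIn hQ hy, ?_⟩
        apply Subtype.ext
        rw [coe_iot_incl _ _ (le_normalizerIn hQ hy)]
    rw [h1]
    exact Subgroup.normal_in_normalizer
  · intro x hx
    exact hc ⟨normalizerIn_le _ _ hx.1, hx.2⟩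

end Cfsg.Agent.Lib.Helper88QdFree
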