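import Mathlib
import Cfsg.Agent.Lib.Helper86Series

set_option autoImplicit false

/-! Membership in `stabChain` from forward invariance only (finite case) (helper89). -/

namespace Cfsg.Agent.Lib.Helper89Stab

open Cfsg.Agent.Lib.Helper86Series

theorem mem_stabChain_of {P : Type*} [Group P] [Finite P] (C : ℕ → Subgroup P) (α : MulAut P)
    (h1 : ∀ i, ∀ x ∈ C i, α x ∈ C i) (h2 : ∀ i, ∀ x ∈ C (i + 1), x⁻¹ * α x ∈ C i) :
    α ∈ stabChain C := by
  refine ⟨fun i x hx => ⟨h1 i x hx, ?_⟩, h2⟩
  have hinj : Function.Injective (fun t : C i => (⟨α t, h1 i t t.2⟩ : C i)) := by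
    intro s t hst
    exact Subtype.ext (α.injective (congrArg Subtype.val hst))
  obtain ⟨t, ht⟩ := (Finite.injective_iff_surjective.1 hinj) ⟨x, hx⟩
  have : α t = x := congrArg Subtype.val ht
  rw [← this, MulAut.inv_apply_self]
  exact t.2

end Cfsg.Agent.Lib.Helper89Stab
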