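import Mathlib
import Cfsg.Agent.Lib.Helper89Transvection

set_option autoImplicit false

/-! The inverting element of `Helper89Transvection.exists_inversion` commutes with the
transvections, when these act on a commutative group with centres `⟨z⟩`, `⟨y⟩` (helper89). -/

namespace Cfsg.Agent.Lib.Helper89Transv2

open Cfsg.Agent.Lib.Helper89Transvection

theorem exists_fix {E : Type*} [Group E] (hc : ∀ a b : E, a * b = b * a) {p : ℕ}
    [hp : Fact p.Prime] {y z : E} (hz : z ^ p = 1) {u : MulAut E} {a : ℕ}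
    (hu2 : u y = y * z ^ a) (ha : ¬ p ∣ a) (x : E) {n : ℕ} (hx : u x = x * z ^ n) :
    ∃ i : ℕ, u (x * y ^ i) = x * y ^ i := by
  obtain ⟨j, hj⟩ := exists_mul_add_one_dvd (p := p) ha
  refine ⟨j * n, ?_⟩
  have h1 : z ^ n * z ^ (a * (j * n)) = 1 := by
    rw [← pow_add]
    apply pow_eq_one_of_dvd' hz
    have : n + a * (j * n) = (a * j + 1) * n := by ring
    rw [this]
    exact Dvd.dvd.mul_right hj n
  have hyz : Commute y (z ^ a) := hc _ _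
  rw [map_mul, map_pow, hx, hu2, hyz.mul_pow, ← pow_mul]
  calc x * z ^ n * (y ^ (j * n) * z ^ (a * (j * n)))
      = x * (z ^ n * y ^ (j * n)) * z ^ (a * (j * n)) := by simp only [mul_assoc]
    _ = x * (y ^ (j * n) * z ^ n) * z ^ (a * (j * n)) := by rw [hc (z ^ n)]
    _ = x * y ^ (j * n) * (z ^ n * z ^ (a * (j * n))) := by simp only [mul_assoc]
    _ = x * y ^ (j * n) := by rw [h1, mul_one]

theorem exists_inversion_comm {E : Type*} [Group E] (hc : ∀ a b : E, a * b = b * a) {p : ℕ}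
    [hp : Fact p.Prime] {y z : E} (hy : y ^ p = 1) (hz : z ^ p = 1) {u u' : MulAut E} {a b : ℕ}
    (hu : ∀ x, ∃ n : ℕ, u x = x * z ^ n) (hu' : ∀ x, ∃ n : ℕ, u' x = x * y ^ n)
    (hu1 : u z = z) (hu2 : u y = y * z ^ a) (hu'1 : u' y = y) (hu'2 : u' z = z * y ^ b)
    (ha : ¬ p ∣ a) (hb : ¬ p ∣ b) :
    ∃ τ ∈ Subgroup.closure {u, u'}, τ y = y⁻¹ ∧ τ z = z⁻¹ ∧
      (∀ m, u m = m → u' m = m → τ m = m) ∧ (∀ x, τ (u x) = u (τ x)) ∧
      ∀ x, ∃ i j : ℕ, ∃ m, u m = m ∧ u' m = m ∧ m = x * y ^ i * z ^ j := by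
  obtain ⟨τ, hτ, hτy, hτz, hτm⟩ := exists_inversion hy hz (hc y z) hu1 hu2 hu'1 hu'2 ha hb
  have hdec : ∀ x, ∃ i j : ℕ, ∃ m, u m = m ∧ u' m = m ∧ m = x * y ^ i * z ^ j := by
    intro x
    obtain ⟨n, hn⟩ := hu x
    obtain ⟨i, hi⟩ := exists_fix hc hz hu2 ha x hn
    obtain ⟨n', hn'⟩ := hu' (x * y ^ i)
    obtain ⟨j, hj⟩ := exists_fix hc hy hu'2 hb (x * y ^ i) hn'
    exact ⟨i, j, _, by rw [map_mul, hi, map_pow, hu1], hj, rfl⟩
  refine ⟨τ, hτ, hτy, hτz, hτm, fun x => ?_, hdec⟩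
  let K : Subgroup E := MonoidHom.eqLocus (τ * u).toMonoidHom (u * τ).toMonoidHom
  have hK : ∀ x, x ∈ K ↔ τ (u x) = u (τ x) := fun x => Iff.rfl
  have hyK : y ∈ K := by
    rw [hK, hu2, map_mul, map_pow, hτy, hτz, map_inv, hu2, mul_inv_rev, inv_pow, hc]
  have hzK : z ∈ K := by
    rw [hK, hu1, hτz, map_inv, hu1]
  obtain ⟨i, j, m, hm1, hm2, hm⟩ := hdec x
  have hmK : m ∈ K := by
    rw [hK, hm1, hτm m hm1 hm2, hm1]
  have hx : x = m * (z ^ j)⁻¹ * (y ^ i)⁻¹ := by rw [hm]; group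
  rw [← hK, hx]
  exact K.mul_mem (K.mul_mem hmK (K.inv_mem (K.pow_mem hzK j))) (K.inv_mem (K.pow_mem hyK i))

end Cfsg.Agent.Lib.Helper89Transv2
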