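import Mathlib
import Cfsg.Agent.Lib.Helper89Stab
import Cfsg.Agent.Lib.Helper89Transv2

set_option autoImplicit false

/-! Abelian `p`-group `P`, a group `G` of automorphisms with a maximal `p`-subgroup `T` centralizing
a subgroup `Z` of index `p`; some `g ∈ G` moves `Z`.  Then `T` has order `p` and `T`, `gTg⁻¹` are
generated by opposite "transvections" (helper89). -/

namespace Cfsg.Agent.Lib.Helper89AbsT

open Cfsg.Agent.Lib.Helper86Series Cfsg.Agent.Lib.Helper89Stab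
  Cfsg.Agent.Lib.Helper89Transvection Cfsg.Agent.Lib.Helper89Transv2

theorem normal_of_comm' {P : Type*} [Group P] (hc : ∀ a b : P, a * b = b * a) (H : Subgroup P) :
    H.Normal :=
  ⟨fun n hn g => by rw [hc g n, mul_inv_cancel_right]; exact hn⟩

/-- decomposition with respect to a normal subgroup of prime index -/
theorem exists_pow_mul {P : Type*} [Group P] {p : ℕ} [hp : Fact p.Prime] (H : Subgroup P)
    [H.Normal] (hH : H.index = p) {x₀ : P} (hx₀ : x₀ ∉ H) (x : P) :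
    ∃ k : ℕ, ∃ h ∈ H, x = x₀ ^ k * h := by
  have hcard : Nat.card (P ⧸ H) = p := hH
  have h1 : (x₀ : P ⧸ H) ≠ 1 := fun h => hx₀ ((QuotientGroup.eq_one_iff _).1 h)
  obtain ⟨k, hk⟩ := mem_powers_of_prime_card hcard h1 (g' := (x : P ⧸ H))
  refine ⟨k, (x₀ ^ k)⁻¹ * x, ?_, by group⟩
  have hk' : ((x₀ ^ k : P) : P ⧸ H) = (x : P ⧸ H) := hk
  exact QuotientGroup.eq.1 hk'

theorem lemmaX {P : Type*} [Group P] [Finite P] {p : ℕ} [hp : Fact p.Prime] (hP : IsPGroup p P)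
    (G T : Subgroup (MulAut P)) (hTG : T ≤ G)
    (hTmax : ∀ Q : Subgroup (MulAut P), Q ≤ G → IsPGroup p Q → T ≤ Q → Q ≤ T)
    (Z : Subgroup P) (hTZ : ∀ t ∈ T, ∀ ζ ∈ Z, t ζ = ζ) (hTP : ∀ t ∈ T, ∀ x, x⁻¹ * t x ∈ Z)
    (s : MulAut P) (hs : s ∈ G) (W : Subgroup P) (hWZ : W ≤ Z) (hsW : ∀ ω ∈ W, s ω = ω)
    (hsP : ∀ x, x⁻¹ * s x ∈ W) : s ∈ T := by
  let C : ℕ → Subgroup P := fun i => match i with
    | 0 => ⊥
    | 1 => W
    | 2 => Z
    | _ => ⊤
  have hTC : T ≤ stabChain C := by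
    intro t ht
    apply mem_stabChain_of
    · intro i x hx
      rcases i with _ | _ | _ | i
      · have : x = 1 := Subgroup.mem_bot.1 hx
        rw [this, map_one]; exact Subgroup.one_mem _
      · rw [hTZ t ht x (hWZ hx)]; exact hx
      · rw [hTZ t ht x hx]; exact hx
      · exact Subgroup.mem_top _
    · intro i x hx
      rcases i with _ | _ | _ | i
      · rw [hTZ t ht x (hWZ hx), inv_mul_cancel]; exact Subgroup.one_mem _
      · rw [hTZ t ht x hx, inv_mul_cancel]; exact Subgroup.one_mem _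
      · exact hTP t ht x
      · exact Subgroup.mem_top _
  have hsC : s ∈ stabChain C := by
    apply mem_stabChain_of
    · intro i x hx
      rcases i with _ | _ | _ | i
      · have : x = 1 := Subgroup.mem_bot.1 hx
        rw [this, map_one]; exact Subgroup.one_mem _
      · rw [hsW x hx]; exact hx
      · have e : s x = x * (x⁻¹ * s x) := by group
        rw [e]
        exact Z.mul_mem hx (hWZ (hsP x))
      · exact Subgroup.mem_top _
    · intro i x hx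
      rcases i with _ | _ | _ | i
      · rw [hsW x hx, inv_mul_cancel]; exact Subgroup.one_mem _
      · exact hsP x
      · exact hWZ (hsP x)
      · exact Subgroup.mem_top _
  have hQ : T ⊔ Subgroup.zpowers s ≤ T := by
    apply hTmax _ (sup_le hTG (by rwa [Subgroup.zpowers_le])) _ le_sup_left
    exact (stabChain_isPGroup hP C rfl 3 rfl).to_le (sup_le hTC (by rwa [Subgroup.zpowers_le]))
  exact hQ ((le_sup_right : Subgroup.zpowers s ≤ _) (Subgroup.mem_zpowers s))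

theorem absT {P : Type*} [Group P] [Finite P] {p : ℕ} [hp : Fact p.Prime] (hP : IsPGroup p P)
    (hc : ∀ a b : P, a * b = b * a) (G T : Subgroup (MulAut P)) (hTG : T ≤ G)
    (hTmax : ∀ Q : Subgroup (MulAut P), Q ≤ G → IsPGroup p Q → T ≤ Q → Q ≤ T)
    (Z : Subgroup P) (hZ : Z.index = p) (hTZ : ∀ t ∈ T, ∀ ζ ∈ Z, t ζ = ζ)
    (hTP : ∀ t ∈ T, ∀ x, x⁻¹ * t x ∈ Z)
    (u : MulAut P) (huT : u ∈ T) (hu1 : u ≠ 1) (g : MulAut P) (hg : g ∈ G)
    (hgZ : ∃ ζ ∈ Z, g ζ ∉ Z) :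
    ∃ (z : P) (a b : ℕ), z ∈ Z ∧ z ^ p = 1 ∧ g z ∉ Z ∧ g⁻¹ z ∉ Z ∧
      (∀ x, ∃ n : ℕ, u x = x * z ^ n) ∧ (∀ x, ∃ n : ℕ, (g * u * g⁻¹) x = x * (g z) ^ n) ∧
      u z = z ∧ u (g z) = g z * z ^ a ∧ (g * u * g⁻¹) (g z) = g z ∧
      (g * u * g⁻¹) z = z * (g z) ^ b ∧ ¬ p ∣ a ∧ ¬ p ∣ b ∧ (∀ x, u x = x ↔ x ∈ Z) ∧
      (∀ t ∈ T, t ∈ Subgroup.zpowers u) ∧ u ^ p = 1 ∧ ∃ x₀, z = x₀⁻¹ * u x₀ := by
  have hpp := hp.out
  have hZn : Z.Normal := normal_of_comm' hc Z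
  obtain ⟨ζ₀, hζ₀, hgζ₀⟩ := hgZ
  obtain ⟨x₀, hx₀⟩ : ∃ x₀, x₀ ∉ Z := ⟨_, hgζ₀⟩
  have hdec := fun {v : P} (hv : v ∉ Z) (x : P) => exists_pow_mul Z hZ hv x
  have hpowZ : ∀ x : P, x ^ p ∈ Z := fun x => by
    have := Z.pow_index_mem x
    rwa [hZ] at this
  -- an element of `T` fixing some element outside `Z` is trivial
  have htriv : ∀ t ∈ T, ∀ v, v ∉ Z → t v = v → t = 1 := by
    intro t ht v hv htv
    ext x
    obtain ⟨k, ζ, hζ, rfl⟩ := hdec hv x
    rw [map_mul, map_pow, htv, hTZ t ht ζ hζ]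
    rfl
  have hfix : ∀ x, u x = x ↔ x ∈ Z := by
    intro x
    constructor
    · intro hx
      by_contra hxZ
      exact hu1 (htriv u huT x hxZ hx)
    · exact hTZ u huT x
  -- the "cocycle"
  have hform : ∀ t ∈ T, ∀ x, ∃ n : ℕ, t x = x * (x₀⁻¹ * t x₀) ^ n := by
    intro t ht x
    obtain ⟨k, ζ, hζ, rfl⟩ := hdec hx₀ x
    refine ⟨k, ?_⟩
    have e : t x₀ = x₀ * (x₀⁻¹ * t x₀) := by group
    rw [map_mul, map_pow, hTZ t ht ζ hζ]
    nth_rewrite 1 [e]
    rw [(show Commute x₀ (x₀⁻¹ * t x₀) from hc _ _).mul_pow, mul_assoc, mul_assoc,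
      hc _ ζ]
  obtain ⟨z, hz⟩ : ∃ z, z = x₀⁻¹ * u x₀ := ⟨_, rfl⟩
  have hzZ : z ∈ Z := hz ▸ hTP u huT x₀
  have hu : ∀ x, ∃ n : ℕ, u x = x * z ^ n := by
    intro x
    rw [hz]
    exact hform u huT x
  have huz : u z = z := hTZ u huT z hzZ
  have hgi : g⁻¹ ∈ G := G.inv_mem hg
  -- conjugation formulas
  have hconj : ∀ (h : MulAut P) (t : MulAut P) (x : P),
      x⁻¹ * (h * t * h⁻¹) x = h ((h⁻¹ x)⁻¹ * t (h⁻¹ x)) := by
    intro h t x
    rw [MulAut.mul_apply, MulAut.mul_apply, map_mul, map_inv, MulAut.apply_inv_self]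
  -- key: `s ∈ T` moving `P` into `Z ∩ gZ` is trivial
  have hkey : ∀ s ∈ T, g⁻¹ (x₀⁻¹ * s x₀) ∈ Z → s = 1 := by
    intro s hs hsx
    have h1 : g⁻¹ * s * g⁻¹⁻¹ ∈ T := by
      refine lemmaX hP G T hTG hTmax Z hTZ hTP _ (G.mul_mem (G.mul_mem hgi (hTG hs))
        (G.inv_mem hgi)) (Z ⊓ Z.comap g.toMonoidHom) inf_le_left ?_ ?_
      · rintro ω ⟨-, hω⟩
        have hω' : g ω ∈ Z := hω
        rw [MulAut.mul_apply, MulAut.mul_apply, inv_inv, hTZ s hs _ hω', MulAut.inv_apply_self]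
      · intro x
        rw [hconj, inv_inv]
        obtain ⟨n, hn⟩ := hform s hs (g x)
        rw [hn, inv_mul_cancel_left, map_pow]
        refine Subgroup.pow_mem _ (Subgroup.mem_inf.2 ⟨hsx, ?_⟩) n
        show g (g⁻¹ (x₀⁻¹ * s x₀)) ∈ Z
        rw [MulAut.apply_inv_self]
        exact hTP s hs x₀
    apply htriv s hs (g ζ₀) hgζ₀
    have h2 := hTZ _ h1 ζ₀ hζ₀
    rw [MulAut.mul_apply, MulAut.mul_apply, inv_inv] at h2
    have h3 := congrArg g h2
    rwa [MulAut.apply_inv_self] at h3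
  have hA : g⁻¹ z ∉ Z := by
    intro h
    exact hu1 (hkey u huT (hz ▸ h))
  have hup : u ^ p = 1 := by
    apply hkey _ (T.pow_mem huT p)
    have h1 : ∀ k : ℕ, (u ^ k) x₀ = x₀ * z ^ k := by
      intro k
      induction k with
      | zero => simp
      | succ k ih =>
        rw [pow_succ', MulAut.mul_apply, ih, map_mul, map_pow, huz, pow_succ', ← mul_assoc]
        congr 1
        rw [hz]; group
    rw [h1, inv_mul_cancel_left, map_pow]
    exact hpowZ _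
  have hzp : z ^ p = 1 := by
    have h1 : ∀ k : ℕ, (u ^ k) x₀ = x₀ * z ^ k := by
      intro k
      induction k with
      | zero => simp
      | succ k ih =>
        rw [pow_succ', MulAut.mul_apply, ih, map_mul, map_pow, huz, pow_succ', ← mul_assoc]
        congr 1
        rw [hz]; group
    have h2 := h1 p
    rw [hup, MulAut.one_apply] at h2
    exact (mul_eq_left.1 h2.symm)
  have hu' : ∀ x, ∃ n : ℕ, (g * u * g⁻¹) x = x * (g z) ^ n := by
    intro x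
    obtain ⟨n, hn⟩ := hu (g⁻¹ x)
    refine ⟨n, ?_⟩
    rw [MulAut.mul_apply, MulAut.mul_apply, hn, map_mul, map_pow, MulAut.apply_inv_self]
  have hB : g z ∉ Z := by
    intro h
    have h1 : g * u * g⁻¹ ∈ T := by
      refine lemmaX hP G T hTG hTmax Z hTZ hTP _ (G.mul_mem (G.mul_mem hg (hTG huT)) hgi)
        (Z ⊓ Z.comap (g⁻¹).toMonoidHom) inf_le_left ?_ ?_
      · rintro ω ⟨-, hω⟩
        have hω' : g⁻¹ ω ∈ Z := hω
        rw [MulAut.mul_apply, MulAut.mul_apply, hTZ u huT _ hω', MulAut.apply_inv_self]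
      · intro x
        obtain ⟨n, hn⟩ := hu' x
        rw [hn, inv_mul_cancel_left]
        refine Subgroup.pow_mem _ (Subgroup.mem_inf.2 ⟨h, ?_⟩) n
        show g⁻¹ (g z) ∈ Z
        rw [MulAut.inv_apply_self]
        exact hzZ
    have h2 : ∀ ζ ∈ Z, g⁻¹ ζ ∈ Z := by
      intro ζ hζ
      rw [← hfix]
      have h3 := hTZ _ h1 ζ hζ
      rw [MulAut.mul_apply, MulAut.mul_apply] at h3
      have h4 := congrArg (fun v => g⁻¹ v) h3
      simp only [MulAut.inv_apply_self] at h4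
      exact h4
    have hinj : Function.Injective (fun t : Z => (⟨g⁻¹ t, h2 t t.2⟩ : Z)) := by
      intro s t hst
      exact Subtype.ext ((g⁻¹).injective (congrArg Subtype.val hst))
    obtain ⟨t, ht⟩ := (Finite.injective_iff_surjective.1 hinj) ⟨ζ₀, hζ₀⟩
    have h5 : g⁻¹ (t : P) = ζ₀ := congrArg Subtype.val ht
    apply hgζ₀
    rw [← h5, MulAut.apply_inv_self]
    exact t.2
  obtain ⟨a, ha⟩ := hu (g z)
  obtain ⟨b, hb⟩ := hu' z
  have hgzp : (g z) ^ p = 1 := by rw [← map_pow, hzp, map_one]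
  refine ⟨z, a, b, hzZ, hzp, hB, hA, hu, hu', huz, ha, ?_, hb, ?_, ?_, hfix, ?_, hup, x₀, hz⟩
  · rw [MulAut.mul_apply, MulAut.mul_apply, MulAut.inv_apply_self, huz]
  · intro h
    rw [pow_eq_one_of_dvd' hzp h, mul_one] at ha
    exact hB ((hfix _).1 ha)
  · intro h
    rw [pow_eq_one_of_dvd' hgzp h, mul_one, MulAut.mul_apply, MulAut.mul_apply] at hb
    have h4 := congrArg (fun v => g⁻¹ v) hb
    simp only [MulAut.inv_apply_self] at h4
    exact hA ((hfix _).1 h4)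
  · intro t ht
    obtain ⟨k, ζ, hζ, hk⟩ := hdec hA (g⁻¹ (x₀⁻¹ * t x₀))
    have h1 : (u ^ k)⁻¹ * t = 1 := by
      apply hkey _ (T.mul_mem (T.inv_mem (T.pow_mem huT k)) ht)
      have h2 : ∀ k : ℕ, (u ^ k) x₀ = x₀ * z ^ k := by
        intro k
        induction k with
        | zero => simp
        | succ k ih =>
          rw [pow_succ', MulAut.mul_apply, ih, map_mul, map_pow, huz, pow_succ', ← mul_assoc]
          congr 1
          rw [hz]; group
      have h3 : (u ^ k)⁻¹ x₀ = x₀ * (z ^ k)⁻¹ := by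
        have h4 : (u ^ k) (x₀ * (z ^ k)⁻¹) = x₀ := by
          rw [map_mul, h2, map_inv, hTZ _ (T.pow_mem huT k) _ (Z.pow_mem hzZ k)]
          group
        nth_rewrite 1 [← h4]
        rw [MulAut.inv_apply_self]
      have e : t x₀ = x₀ * (x₀⁻¹ * t x₀) := by group
      have e3 : ((u ^ k)⁻¹ * t) x₀ = x₀ * (z ^ k)⁻¹ * (x₀⁻¹ * t x₀) := by
        rw [MulAut.mul_apply, e, map_mul (u ^ k)⁻¹, h3,
          hTZ _ (T.inv_mem (T.pow_mem huT k)) _ (hTP t ht x₀)]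
        group
      have e2 : x₀⁻¹ * (x₀ * (z ^ k)⁻¹ * (x₀⁻¹ * t x₀)) = (z ^ k)⁻¹ * (x₀⁻¹ * t x₀) := by group
      rw [e3, e2, map_mul, hk, map_inv, map_pow, inv_mul_cancel_left]
      exact hζ
    have h2 : t = u ^ k := by
      rw [inv_mul_eq_one] at h1
      exact h1.symm
    rw [h2]
    exact Subgroup.pow_mem _ (Subgroup.mem_zpowers u) k

end Cfsg.Agent.Lib.Helper89AbsT
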