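import Mathlib
import Cfsg.Agent.Lib.Helper79PGroup
import Cfsg.Agent.Lib.Helper89AbsT

set_option autoImplicit false

/-! `p`-groups with an abelian subgroup of index `p` (helper89). -/

namespace Cfsg.Agent.Lib.Helper89AbIdx

open Cfsg.Agent.Lib.Helper79PGroup Cfsg.Agent.Lib.Helper89AbsT

theorem card_le_card_map_mul {A : Type*} [Group A] [Finite A] (φ : A →* A) (H : Subgroup A) :
    Nat.card H ≤ Nat.card (H.map φ) * Nat.card φ.ker := by
  have h1 := (φ.domRestrict H).ker.card_mul_index
  rw [Subgroup.index_ker, MonoidHom.domRestrict_range] at h1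
  rw [← h1, mul_comm]
  apply Nat.mul_le_mul_left
  apply Nat.card_le_card_of_injective
    (fun y : (φ.domRestrict H).ker => (⟨y.1.1, y.2⟩ : φ.ker))
  intro a b hab
  apply Subtype.ext
  apply Subtype.ext
  exact congrArg (fun v : φ.ker => (v : A)) hab

variable {G : Type*} [Group G]

/-- iterated commutators with `x` do not vanish too early when the centre has order `p` -/
theorem lcs_ne_bot [Finite G] {p : ℕ} [hp : Fact p.Prime] (A : Subgroup G) [A.Normal]
    (hA : IsMulCommutative A) (hidx : A.index = p) (hZ : Nat.card (Subgroup.center G) = p)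
    {n : ℕ} (hn : Nat.card G = p ^ n) (h2 : 2 ≤ n) :
    (⊤ : Subgroup G).lowerCentralSeries (n - 2) ≠ ⊥ := by
  have hpp := hp.out
  obtain ⟨x, hx⟩ : ∃ x, x ∉ A := by
    by_contra hcon
    push Not at hcon
    have : A = ⊤ := eq_top_iff.2 fun y _ => hcon y
    rw [this, Subgroup.index_top] at hidx
    exact hpp.one_lt.ne hidx
  have hsup := sup_zpowers_eq_top_of_index_prime hpp hidx hx
  let φ : A →* A := (commMap A hA x).codRestrict A
    (fun a => commMap_range_le A hA x ⟨a, rfl⟩)
  have hφ : ∀ a : A, ((φ a : A) : G) = (a : G) * x * (a : G)⁻¹ * x⁻¹ := fun a => rfl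
  have hker : Nat.card φ.ker ≤ p := by
    rw [← hZ]
    apply Nat.card_le_card_of_injective
      (fun y : φ.ker => (⟨y.1.1, by
        have h1 : y.1 ∈ (commMap A hA x).ker := by
          rw [MonoidHom.mem_ker]
          have := y.2
          rw [MonoidHom.mem_ker] at this
          exact congrArg Subtype.val this
        rw [commMap_ker A hA x hsup] at h1
        exact h1⟩ : Subgroup.center G))
    intro a b hab
    apply Subtype.ext
    apply Subtype.ext
    exact congrArg (fun v : Subgroup.center G => (v : G)) hab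
  let B : ℕ → Subgroup A := fun k => Nat.rec (motive := fun _ => Subgroup A) ⊤ (fun _ H => H.map φ) k
  have hB0 : B 0 = ⊤ := rfl
  have hBs : ∀ k, B (k + 1) = (B k).map φ := fun k => rfl
  have hcard : ∀ k, Nat.card A ≤ Nat.card (B k) * p ^ k := by
    intro k
    induction k with
    | zero => rw [hB0, Subgroup.card_top]; simp
    | succ k ih =>
      calc Nat.card A ≤ Nat.card (B k) * p ^ k := ih
        _ ≤ (Nat.card ((B k).map φ) * Nat.card φ.ker) * p ^ k :=
          Nat.mul_le_mul_right _ (card_le_card_map_mul φ (B k))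
        _ ≤ (Nat.card ((B k).map φ) * p) * p ^ k :=
          Nat.mul_le_mul_right _ (Nat.mul_le_mul_left _ hker)
        _ = Nat.card (B (k + 1)) * p ^ (k + 1) := by rw [hBs, pow_succ]; ring
  have hle : ∀ k, ∀ b ∈ B k, (b : G) ∈ (⊤ : Subgroup G).lowerCentralSeries k := by
    intro k
    induction k with
    | zero => intro b _; exact Subgroup.mem_top _
    | succ k ih =>
      intro b hb
      rw [hBs] at hb
      obtain ⟨c, hc, rfl⟩ := hb
      rw [hφ, Subgroup.lowerCentralSeries_succ]
      exact Subgroup.commutator_mem_commutator (ih c hc) (Subgroup.mem_top x)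
  have hAcard : Nat.card A * p = p ^ n := by
    rw [← hn, ← hidx]; exact A.card_mul_index
  intro hbot
  have hBbot : Nat.card (B (n - 2)) = 1 := by
    rw [Subgroup.card_eq_one, eq_bot_iff]
    intro b hb
    have := hle _ b hb
    rw [hbot, Subgroup.mem_bot] at this
    rw [Subgroup.mem_bot]
    exact Subtype.ext this
  have h3 := hcard (n - 2)
  rw [hBbot, one_mul] at h3
  obtain ⟨m, rfl⟩ : ∃ m, n = m + 2 := ⟨n - 2, by omega⟩
  have h4 : Nat.card A * p ≤ p ^ m * p := Nat.mul_le_mul_right _ (by simpa using h3)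
  rw [hAcard, ← pow_succ] at h4
  have := (Nat.pow_le_pow_iff_right hpp.one_lt).1 h4
  omega

end Cfsg.Agent.Lib.Helper89AbIdx
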