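import Mathlib
import Cfsg.Agent.Lib.Helper89Normal
import Cfsg.Agent.Lib.Helper89AbsT
import Cfsg.Agent.S5234
import Cfsg.Agent.Lib.Helper88QuotSat

set_option autoImplicit false

/-! Tools for essential subgroups: `Aut_S(P)` is a maximal `p`-subgroup of `Aut_F(P)`;
elements of `N_S(P)` stabilizing an `Aut_F(P)`-invariant chain lie in `P`; automorphisms of central
subgroups extend to `S`; `p`-elements of `Aut_F(S)` act trivially on `Z(S)` (helper89). -/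

namespace Cfsg.Agent.Lib.Helper89HType

open Cfsg Cfsg.FusionSystem Cfsg.Agent.Lib.Helper87Fusion Cfsg.Agent.Lib.Helper86Group
  Cfsg.Agent.Lib.Helper86Fusion Cfsg.Agent.Lib.Helper86Fusion2 Cfsg.Agent.Lib.Helper86Fusion3
  Cfsg.Agent.Lib.Helper86Fusion4 Cfsg.Agent.Lib.Helper86Series
  Cfsg.Agent.Lib.Helper87Fusion2
  Cfsg.Agent.Lib.Helper89Fusion Cfsg.Agent.Lib.Helper89Fusion2 Cfsg.Agent.Lib.Helper89Normal
  Cfsg.Agent.Lib.Helper89Stab Cfsg.Agent.Lib.Helper89AbsT Cfsg.Agent.Lib.Helper89Transvection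
  Cfsg.Agent.Lib.Helper89Transv2
open Cfsg.Agent.Lib.Helper87Fusion3 hiding pCore_normal pCore_isPGroup le_pCore isNormal_iff
  stronglyClosed_iff
open Cfsg.Agent.S5234 (receptive_of_conj)

variable {Ω : Type*} [Group Ω] {S : Subgroup Ω}

theorem autS_max [Finite S] {p : ℕ} [Fact p.Prime] (hS : IsPGroup p S) {F : FusionSystem S}
    (hF : F.IsSaturated p) {P : Subgroup Ω} (hP : F.IsFullyNormalized P) :
    ∀ Q : Subgroup (MulAut P), Q ≤ F.autGroup P → IsPGroup p Q → autInducedBy S P ≤ Q →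
      Q ≤ autInducedBy S P := by
  intro Q hQ hQp hle q hq
  obtain ⟨-, ⟨-, R, hR⟩, -⟩ := saturated_fullyNormalized hS hF hP
  have h1 : (R : Subgroup (F.autGroup P)) ≤ Q.subgroupOf (F.autGroup P) := by
    rw [hR]
    intro x hx
    rw [Subgroup.mem_subgroupOf] at hx ⊢
    exact hle hx
  have h2 : Q.subgroupOf (F.autGroup P) = (R : Subgroup (F.autGroup P)) :=
    R.is_maximal' hQp.comap_subtype h1
  have h3 : (⟨q, hQ hq⟩ : F.autGroup P) ∈ Q.subgroupOf (F.autGroup P) := by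
    rw [Subgroup.mem_subgroupOf]; exact hq
  rw [h2, hR, Subgroup.mem_subgroupOf] at h3
  exact h3

theorem mem_of_stabilizes [Finite S] {p : ℕ} [Fact p.Prime] (hS : IsPGroup p S)
    {F : FusionSystem S} {P : Subgroup Ω} (hc : F.IsCentric P) (hr : F.IsRadical p P)
    (D : ℕ → Subgroup P) (h0 : D 0 = ⊥) (N : ℕ) (hN : D N = ⊤)
    (hA : ∀ γ ∈ F.autGroup P, ∀ j, ∀ x ∈ D j, γ x ∈ D j) {g : Ω} (hg : g ∈ normalizerIn S P)
    (hgD : ∀ (r : MulAut P), (∀ x : P, ((r x : P) : Ω) = g * x * g⁻¹) →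
      ∀ j, ∀ x ∈ D (j + 1), x⁻¹ * r x ∈ D j) : g ∈ P := by
  by_contra hgP
  have hPS := hc.1
  obtain ⟨r, hr', hrg⟩ := exists_conjAut hg.1 hg.2
  have hrA := autInducedBy_le_autGroup F hPS hr'
  have h1 := mem_pCore_of_stabChain hS hPS D h0 N hN hA hrA (hgD r hrg)
  have h2 := mem_inn_of_mem_pCore_of_radical hr (isConj_refl F hPS) h1
  exact conjAut_not_mem_inn (IsCentric_self hc) hg.1 hgP hPS hrg h2

/-- automorphisms (in `F`) of a central subgroup of `S` extend to `S` -/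
theorem extend_central [Finite S] {p : ℕ} [Fact p.Prime] (hS : IsPGroup p S) {F : FusionSystem S}
    (hF : F.IsSaturated p) {Q : Subgroup Ω} (hQS : Q ≤ S) (hQ : ∀ s ∈ S, ∀ x ∈ Q, s * x * s⁻¹ = x)
    {f : Ω → Ω} (hf : IsMap F Q f) (hfQ : f '' (Q : Set Ω) = (Q : Set Ω)) :
    ∃ γ, IsMap F S γ ∧ γ '' (S : Set Ω) = (S : Set Ω) ∧ ∀ x ∈ Q, γ x = f x := by
  have hrec : F.IsReceptive Q :=
    receptive_of_conj hS hF hQS (fun s hs x hx => by rw [hQ s hs x hx]; exact hx)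
  obtain ⟨N, γ, hN, hγ, hγf⟩ := receptive_extend hrec hf hfQ
  have hSN : S ≤ N := by
    intro g hg
    rw [hN]
    refine ⟨hg, mem_normalizer_of_conj_mem (fun x hx => by rw [hQ g hg x hx]; exact hx)
      (fun x hx => by
        have := hQ g⁻¹ (S.inv_mem hg) x hx
        rw [inv_inv] at this
        rw [this]; exact hx), 1, S.one_mem, fun x hx => ?_⟩
    rw [hQ g hg x hx]; simp
  have hγS : IsMap F S γ := hγ.restrict hSN
  exact ⟨γ, hγS, image_eq_of_card_le hγS le_rfl (fun x hx => hγS.mem hx) le_rfl, hγf⟩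

theorem aut_center_mem {Z : Subgroup Ω} (hZ : ∀ x, x ∈ Z ↔ x ∈ S ∧ ∀ s ∈ S, s * x = x * s)
    (β : MulAut S) (x : S) (hx : (x : Ω) ∈ Z) : ((β x : S) : Ω) ∈ Z := by
  rw [hZ]
  refine ⟨(β x).2, fun s hs => ?_⟩
  have h1 := ((hZ _).1 hx).2 ((β⁻¹ ⟨s, hs⟩ : S) : Ω) (β⁻¹ ⟨s, hs⟩).2
  have h2 : β⁻¹ ⟨s, hs⟩ * x = x * β⁻¹ ⟨s, hs⟩ := Subtype.ext h1
  have h3 := congrArg β h2
  rw [map_mul, map_mul, MulAut.apply_inv_self] at h3
  exact congrArg Subtype.val h3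

theorem isMap_center_mem [Finite S] {F : FusionSystem S} {Z : Subgroup Ω}
    (hZ : ∀ x, x ∈ Z ↔ x ∈ S ∧ ∀ s ∈ S, s * x = x * s) {γ : Ω → Ω} (hγ : IsMap F S γ)
    {x : Ω} (hx : x ∈ Z) : γ x ∈ Z := by
  have hγS : γ '' (S : Set Ω) = (S : Set Ω) :=
    image_eq_of_card_le hγ le_rfl (fun x hx => hγ.mem hx) le_rfl
  obtain ⟨c, -, hc⟩ := hγ.exists_aut hγS
  have := aut_center_mem hZ c ⟨x, ((hZ x).1 hx).1⟩ hx
  rwa [hc] at this

/-- an `F`-automorphism of `S` acting trivially on `D` and on `Z(S)/D` is trivial on `Z(S)` -/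
theorem fix_center_of_unipotent [Finite S] {p : ℕ} [hp : Fact p.Prime] (hS : IsPGroup p S)
    {F : FusionSystem S} (hF : F.IsSaturated p) {Z D : Subgroup Ω}
    (hZ : ∀ x, x ∈ Z ↔ x ∈ S ∧ ∀ s ∈ S, s * x = x * s) (hDp : ∀ d ∈ D, d ^ p = 1)
    {γ : Ω → Ω} (hγ : IsMap F S γ) (hγD : ∀ d ∈ D, γ d = d) (hγZ : ∀ ζ ∈ Z, ζ⁻¹ * γ ζ ∈ D) :
    ∀ ζ ∈ Z, γ ζ = ζ := by
  intro ζ hζ
  have hγS : γ '' (S : Set Ω) = (S : Set Ω) :=
    image_eq_of_card_le hγ le_rfl (fun x hx => hγ.mem hx) le_rfl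
  obtain ⟨c, hcA, hc⟩ := hγ.exists_aut hγS
  obtain ⟨ζ', hζ'⟩ : ∃ ζ' : S, (ζ' : Ω) = ζ := ⟨⟨ζ, ((hZ ζ).1 hζ).1⟩, rfl⟩
  obtain ⟨e, m, hm, ho⟩ := Nat.exists_eq_pow_mul_and_not_dvd (orderOf_pos c).ne' p hp.out.ne_one
  obtain ⟨-, ⟨-, R, hR⟩, -⟩ := saturated_fullyNormalized hS hF (fullyNormalized_self F)
  obtain ⟨β, hβ⟩ := exists_conj_mem_sylow R ((⟨c, hcA⟩ : F.autGroup S) ^ m) e (by
    apply Subtype.ext
    show (c ^ m) ^ p ^ e = 1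
    rw [← pow_mul, mul_comm, ← ho, pow_orderOf_eq_one])
  have hβ' : β * (⟨c, hcA⟩ : F.autGroup S) ^ m * β⁻¹ ∈ (R : Subgroup (F.autGroup S)) := hβ
  rw [hR, Subgroup.mem_subgroupOf] at hβ'
  obtain ⟨s, hs, hsβ⟩ := (mem_autInducedBy_iff S S _).1 hβ'
  have h1 : (c ^ m) ζ' = ζ' := by
    have h2 := hsβ ((β : MulAut S) ζ')
    have h3 : (((β * (⟨c, hcA⟩ : F.autGroup S) ^ m * β⁻¹ : F.autGroup S) : MulAut S))
        ((β : MulAut S) ζ') = (β : MulAut S) ((c ^ m) ζ') := by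
      show (β : MulAut S) ((c ^ m) ((β : MulAut S)⁻¹ ((β : MulAut S) ζ'))) = _
      rw [MulAut.inv_apply_self]
    rw [h3] at h2
    have h4 := ((hZ _).1 (aut_center_mem hZ (β : MulAut S) ζ' (hζ' ▸ hζ))).2 s hs
    rw [h4, mul_inv_cancel_right] at h2
    exact (β : MulAut S).injective (Subtype.ext h2)
  have hd : c (ζ'⁻¹ * c ζ') = ζ'⁻¹ * c ζ' := by
    apply Subtype.ext
    rw [hc]
    apply hγD
    show (ζ' : Ω)⁻¹ * ((c ζ' : S) : Ω) ∈ D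
    rw [hc, hζ']
    exact hγZ ζ hζ
  have hdp : (ζ'⁻¹ * c ζ') ^ p = 1 := by
    apply Subtype.ext
    show ((ζ' : Ω)⁻¹ * ((c ζ' : S) : Ω)) ^ p = 1
    rw [hc, hζ']
    exact hDp _ (hγZ ζ hζ)
  have hk : ∀ k : ℕ, (c ^ k) ζ' = ζ' * (ζ'⁻¹ * c ζ') ^ k := by
    intro k
    induction k with
    | zero => simp
    | succ k ih =>
      rw [pow_succ', MulAut.mul_apply, ih, map_mul, map_pow, hd, pow_succ', ← mul_assoc,
        mul_inv_cancel_left]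
  have h2 : (c ^ p) ζ' = ζ' := by rw [hk, hdp, mul_one]
  have hcop : IsCoprime (p : ℤ) (m : ℤ) :=
    Nat.isCoprime_iff_coprime.2 ((Nat.Prime.coprime_iff_not_dvd hp.out).2 hm)
  obtain ⟨a, b, hab⟩ := hcop
  let H : Subgroup (MulAut S) := MulAction.stabilizer (MulAut S) ζ'
  have hH : ∀ α : MulAut S, α ∈ H ↔ α ζ' = ζ' := fun α => Iff.rfl
  have h3 : c ∈ H := by
    have e1 : c = (c ^ p) ^ a * (c ^ m) ^ b := by
      rw [← zpow_natCast c p, ← zpow_natCast c m, ← zpow_mul, ← zpow_mul, ← zpow_add,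
        mul_comm (p : ℤ), mul_comm (m : ℤ), hab, zpow_one]
    rw [e1]
    exact H.mul_mem (H.zpow_mem ((hH _).2 h2) a) (H.zpow_mem ((hH _).2 h1) b)
  have h4 := congrArg Subtype.val ((hH c).1 h3)
  rw [hc, hζ'] at h4
  exact h4

/-- `P` is abelian, contains `Z` with index `p`, is centric, fully normalized, proper, and
`[P, N_S(P)] ≤ D`. -/
structure HType (F : FusionSystem S) (p : ℕ) (Z D P : Subgroup Ω) : Prop where
  fn : F.IsFullyNormalized P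
  cen : F.IsCentric P
  ne : P ≠ S
  comm : ∀ a ∈ P, ∀ b ∈ P, a * b = b * a
  le : Z ≤ P
  idx : (Z.subgroupOf P).index = p
  comD : ∀ s ∈ normalizerIn S P, ∀ x ∈ P, x⁻¹ * (s * x * s⁻¹) ∈ D

theorem HType.base [Finite S] {p : ℕ} [hp : Fact p.Prime] (hS : IsPGroup p S)
    {F : FusionSystem S} (hF : F.IsSaturated p) {Z D P : Subgroup Ω}
    (hZ : ∀ x, x ∈ Z ↔ x ∈ S ∧ ∀ s ∈ S, s * x = x * s) (hDZ : D ≤ Z) (h : HType F p Z D P)
    {g : MulAut P} (hgA : g ∈ F.autGroup P) (hgZ : ∃ ζ : P, (ζ : Ω) ∈ Z ∧ ((g ζ : P) : Ω) ∉ Z)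
    {s : Ω} (hs : s ∈ normalizerIn S P) (hsP : s ∉ P) {u : MulAut P}
    (hu : ∀ x : P, ((u x : P) : Ω) = s * x * s⁻¹) :
    ∃ (z : P) (a b : ℕ), (z : Ω) ∈ Z ∧ z ^ p = 1 ∧ ((g z : P) : Ω) ∉ Z ∧ ((g⁻¹ z : P) : Ω) ∉ Z ∧
      (∀ x, ∃ n : ℕ, u x = x * z ^ n) ∧ (∀ x, ∃ n : ℕ, (g * u * g⁻¹) x = x * (g z) ^ n) ∧
      u z = z ∧ u (g z) = g z * z ^ a ∧ (g * u * g⁻¹) (g z) = g z ∧
      (g * u * g⁻¹) z = z * (g z) ^ b ∧ ¬ p ∣ a ∧ ¬ p ∣ b ∧ (∀ x : P, u x = x ↔ (x : Ω) ∈ Z) ∧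
      (∀ t ∈ autInducedBy S P, t ∈ Subgroup.zpowers u) ∧ u ^ p = 1 ∧ ∃ x₀, z = x₀⁻¹ * u x₀ := by
  have hPS := h.fn.1
  have : Finite P := finite_of_le hPS
  have hnorm : ∀ t ∈ autInducedBy S P, ∃ s' ∈ normalizerIn S P,
      ∀ x : P, ((t x : P) : Ω) = s' * x * s'⁻¹ := by
    intro t ht
    obtain ⟨s', hs', hts'⟩ := (mem_autInducedBy_iff S P t).1 ht
    refine ⟨s', ⟨hs', ?_⟩, hts'⟩
    apply Cfsg.Agent.Lib.Helper88QuotSat.mem_normalizer_of_conj_mem' hPS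
    intro q hq
    rw [← hts' ⟨q, hq⟩]
    exact (t ⟨q, hq⟩).2
  obtain ⟨ζ, hζ, hgζ⟩ := hgZ
  exact absT (hS.to_le hPS) (fun a b => Subtype.ext (h.comm a a.2 b b.2)) (F.autGroup P)
    (autInducedBy S P) (autInducedBy_le_autGroup F hPS) (autS_max hS hF h.fn) (Z.subgroupOf P)
    h.idx
    (by
      intro t ht ζ hζ
      obtain ⟨s', hs', hts'⟩ := hnorm t ht
      apply Subtype.ext
      have hζ' : (ζ : Ω) ∈ Z := hζ
      rw [hts', ((hZ _).1 hζ').2 s' hs'.1, mul_inv_cancel_right])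
    (by
      intro t ht x
      obtain ⟨s', hs', hts'⟩ := hnorm t ht
      rw [Subgroup.mem_subgroupOf]
      show (x : Ω)⁻¹ * ((t x : P) : Ω) ∈ Z
      rw [hts']
      exact hDZ (h.comD s' hs' x x.2))
    u ((mem_autInducedBy_iff S P u).2 ⟨s, hs.1, hu⟩)
    (by
      intro h1
      apply conjAut_not_mem_inn (IsCentric_self h.cen) hs.1 hsP hPS hu
      rw [h1]
      exact Subgroup.one_mem _)
    g hgA ⟨ζ, hζ, hgζ⟩

theorem eq_zpowers_of_card_prime {D : Subgroup Ω} {p : ℕ} [hp : Fact p.Prime]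
    (hD : Nat.card D = p) {w : Ω} (hw : w ∈ D) (hw1 : w ≠ 1) : D = Subgroup.zpowers w := by
  have : Finite D := Nat.finite_of_card_ne_zero (by rw [hD]; exact hp.out.ne_zero)
  have hle : Subgroup.zpowers w ≤ D := by rwa [Subgroup.zpowers_le]
  have h1 : Nat.card (Subgroup.zpowers w) ∣ p := hD ▸ Subgroup.card_dvd_of_le hle
  have h2 : Nat.card (Subgroup.zpowers w) = p := by
    rcases (Nat.dvd_prime hp.out).1 h1 with h | h
    · exfalso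
      rw [Nat.card_zpowers, orderOf_eq_one_iff] at h
      exact hw1 h
    · exact h
  exact (Subgroup.eq_of_le_of_card_ge hle (by rw [h2, hD])).symm

theorem HType.torus [Finite S] {p : ℕ} [hp : Fact p.Prime] (hS : IsPGroup p S)
    {F : FusionSystem S} (hF : F.IsSaturated p) (hp2 : p ≠ 2) {Z D P : Subgroup Ω}
    (hZ : ∀ x, x ∈ Z ↔ x ∈ S ∧ ∀ s ∈ S, s * x = x * s) (hDZ : D ≤ Z) (hDcard : Nat.card D = p)
    (h : HType F p Z D P) {g : Ω → Ω} (hg : IsMap F P g) (hgP : g '' (P : Set Ω) = (P : Set Ω))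
    (hgZ : ∃ ζ ∈ Z, g ζ ∉ Z) :
    ∃ τ, IsMap F S τ ∧ (∀ d ∈ D, τ d = d⁻¹) ∧ (∀ ζ ∈ Z, ζ⁻¹ * τ ζ ∈ D) ∧
      (∀ ζ ∈ Z, τ ζ = ζ ↔ ∃ ζ' ∈ Z, g ζ' = ζ) ∧
      (∀ ζ ∈ Z, ∃ d ∈ D, ∃ ω ∈ Z, τ ω = ω ∧ ζ = d * ω) := by
  have hpp := hp.out
  have hPS := h.fn.1
  have hZS : Z ≤ S := h.le.trans hPS
  have : Finite P := finite_of_le hPS
  obtain ⟨s, hs, hsP⟩ := SetLike.exists_of_lt
    (Cfsg.Agent.Lib.Helper86Alperin.lt_normalizerIn hS (lt_of_le_of_ne hPS h.ne))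
  obtain ⟨u, hu', hu⟩ := exists_conjAut hs.1 hs.2
  have huA := autInducedBy_le_autGroup F hPS hu'
  obtain ⟨g', hg'A, hg'⟩ := hg.exists_aut hgP
  obtain ⟨ζ₀, hζ₀, hgζ₀⟩ := hgZ
  obtain ⟨z, a, b, hzZ, hzp, hgz, -, hu_, hu'_, huz, hua, hu'y, hu'z, hpa, hpb, hfix, -, -, x₀,
    hzx₀⟩ := h.base hS hF hZ hDZ hg'A ⟨⟨ζ₀, h.le hζ₀⟩, hζ₀, by rw [hg']; exact hgζ₀⟩ hs hsP hu
  have hcP : ∀ a b : P, a * b = b * a := fun a b => Subtype.ext (h.comm a a.2 b b.2)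
  have hyp : (g' z) ^ p = 1 := by rw [← map_pow, hzp, map_one]
  obtain ⟨τ, hτcl, hτy, hτz, hτm, -, hdec⟩ := exists_inversion_comm hcP hyp hzp hu_ hu'_ huz hua
    hu'y hu'z hpa hpb
  have hτA : τ ∈ F.autGroup P := by
    refine (Subgroup.closure_le _).2 ?_ hτcl
    intro x hx
    rcases hx with rfl | hx
    · exact huA
    · rw [Set.mem_singleton_iff] at hx
      subst hx
      exact Subgroup.mul_mem _ (Subgroup.mul_mem _ hg'A huA) (Subgroup.inv_mem _ hg'A)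
  have hzD : (z : Ω) ∈ D := by
    rw [hzx₀]
    show (x₀ : Ω)⁻¹ * ((u x₀ : P) : Ω) ∈ D
    rw [hu]
    exact h.comD s hs x₀ x₀.2
  have hz1 : z ≠ 1 := by
    intro h1
    apply hgz
    rw [h1, map_one]
    exact Z.one_mem
  have hzo : orderOf z = p := orderOf_eq_prime hzp hz1
  have hDz : D = Subgroup.zpowers (z : Ω) :=
    eq_zpowers_of_card_prime hDcard hzD (fun h1 => hz1 (Subtype.ext h1))
  have hfix' : ∀ x : P, (g' * u * g'⁻¹) x = x ↔ ((g'⁻¹ x : P) : Ω) ∈ Z := by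
    intro x
    rw [← hfix, MulAut.mul_apply, MulAut.mul_apply]
    constructor
    · intro h1
      have h2 := congrArg (fun v => g'⁻¹ v) h1
      simp only [MulAut.inv_apply_self] at h2
      exact h2
    · intro h1
      rw [h1, MulAut.apply_inv_self]
  -- action of `τ` on `Z`
  have hτZ : ∀ ζ : P, (ζ : Ω) ∈ Z → ∃ (j : ℕ) (m : P), u m = m ∧ (g' * u * g'⁻¹) m = m ∧
      m = ζ * z ^ j ∧ τ ζ = ζ * z ^ (2 * j) := by
    intro ζ hζ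
    obtain ⟨i, j, m, hm1, hm2, hm⟩ := hdec ζ
    have hyi : u ((g' z) ^ i) = (g' z) ^ i := by
      rw [hfix]
      have e : (g' z) ^ i = ζ⁻¹ * m * (z ^ j)⁻¹ := by rw [hm]; group
      rw [e]
      exact Z.mul_mem (Z.mul_mem (Z.inv_mem hζ) ((hfix m).1 hm1)) (Z.inv_mem (Z.pow_mem hzZ j))
    have hi : (g' z) ^ i = 1 := by
      rw [map_pow, hua, (show Commute (g' z) (z ^ a) from hcP _ _).mul_pow, mul_eq_left,
        ← pow_mul, ← orderOf_dvd_iff_pow_eq_one, hzo] at hyi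
      rcases (Nat.Prime.dvd_mul hpp).1 hyi with h1 | h1
      · exact absurd h1 hpa
      · exact pow_eq_one_of_dvd' hyp h1
    rw [hi, mul_one] at hm
    refine ⟨j, m, hm1, hm2, hm, ?_⟩
    have e : ζ = m * (z ^ j)⁻¹ := by rw [hm]; group
    nth_rewrite 1 [e]
    rw [map_mul, hτm m hm1 hm2, map_inv, map_pow, hτz, inv_pow, inv_inv, hm, two_mul, pow_add,
      mul_assoc]
  have hτM : IsMap F P (totA τ) := (mem_autGroup_iff_totA F hPS τ).1 hτA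
  have hτMZ : IsMap F Z (totA τ) := hτM.restrict h.le
  have hτmem : ∀ x ∈ Z, totA τ x ∈ Z := by
    intro x hx
    obtain ⟨j, m, -, -, -, h4⟩ := hτZ ⟨x, h.le hx⟩ hx
    rw [totA_of_mem τ (h.le hx), h4]
    exact Z.mul_mem hx (Z.pow_mem hzZ _)
  obtain ⟨τ', hτ', -, hττ'⟩ := extend_central hS hF hZS
    (fun s hs x hx => by rw [((hZ x).1 hx).2 s hs, mul_inv_cancel_right]) hτMZ
    (image_eq_of_card_le hτMZ hZS hτmem le_rfl)
  refine ⟨τ', hτ', ?_, ?_, ?_, ?_⟩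
  · intro d hd
    rw [hττ' d (hDZ hd)]
    rw [hDz] at hd
    obtain ⟨k, rfl⟩ := hd
    have e : (z : Ω) ^ k = ((z ^ k : P) : Ω) := (Subgroup.coe_zpow _ _ _).symm
    show totA τ ((z : Ω) ^ k) = ((z : Ω) ^ k)⁻¹
    rw [e, totA_apply, map_zpow, hτz, inv_zpow]
    rfl
  · intro ζ hζ
    obtain ⟨j, m, -, -, -, h4⟩ := hτZ ⟨ζ, h.le hζ⟩ hζ
    rw [hττ' ζ hζ, totA_of_mem τ (h.le hζ), h4]
    show ζ⁻¹ * (ζ * (z : Ω) ^ (2 * j)) ∈ D
    rw [inv_mul_cancel_left]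
    exact D.pow_mem hzD _
  · intro ζ hζ
    obtain ⟨j, m, h1, h2, h3, h4⟩ := hτZ ⟨ζ, h.le hζ⟩ hζ
    rw [hττ' ζ hζ, totA_of_mem τ (h.le hζ)]
    constructor
    · intro h5
      have h6 : τ ⟨ζ, h.le hζ⟩ = ⟨ζ, h.le hζ⟩ := Subtype.ext h5
      rw [h4, mul_eq_left, ← orderOf_dvd_iff_pow_eq_one, hzo] at h6
      have h7 : p ∣ j := by
        rcases (Nat.Prime.dvd_mul hpp).1 h6 with h8 | h8
        · exact absurd ((Nat.prime_dvd_prime_iff_eq hpp Nat.prime_two).1 h8) hp2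
        · exact h8
      rw [pow_eq_one_of_dvd' hzp h7, mul_one] at h3
      rw [h3] at h2
      refine ⟨_, (hfix' _).1 h2, ?_⟩
      rw [← hg', MulAut.apply_inv_self]
    · rintro ⟨ζ', hζ', hgζ'⟩
      have h5 : (g' * u * g'⁻¹) ⟨ζ, h.le hζ⟩ = ⟨ζ, h.le hζ⟩ := by
        rw [hfix']
        have : (⟨ζ, h.le hζ⟩ : P) = g' ⟨ζ', h.le hζ'⟩ := Subtype.ext (by rw [hg']; exact hgζ'.symm)
        rw [this, MulAut.inv_apply_self]
        exact hζ'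
      rw [hτm _ ((hfix _).2 hζ) h5]
  · intro ζ hζ
    obtain ⟨j, m, h1, h2, h3, -⟩ := hτZ ⟨ζ, h.le hζ⟩ hζ
    have hmZ := (hfix m).1 h1
    refine ⟨((z : Ω) ^ j)⁻¹, D.inv_mem (D.pow_mem hzD j), m, hmZ, ?_, ?_⟩
    · rw [hττ' _ hmZ, totA_apply, hτm m h1 h2]
    · rw [h3]
      show ζ = ((z : Ω) ^ j)⁻¹ * (ζ * (z : Ω) ^ j)
      rw [h.comm ζ (h.le hζ) _ (P.pow_mem z.2 j), inv_mul_cancel_left]

end Cfsg.Agent.Lib.Helper89HType
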