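import Mathlib
import Cfsg.Agent.Lib.Helper89HType

set_option autoImplicit false

/-! `p` odd.  If every essential subgroup either normalizes `Z = Z(S)` or is of "H-type"
(abelian, `|P : Z| = p`, `[P, N_S(P)] ≤ D`, `|D| = p`), and some H-type subgroup has an
`F`-automorphism moving `Z`, then `Z = D × W` with `W` normal in `F` (helper89). -/

namespace Cfsg.Agent.Lib.Helper89CL

open Cfsg Cfsg.FusionSystem Cfsg.Agent.Lib.Helper87Fusion Cfsg.Agent.Lib.Helper86Group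
  Cfsg.Agent.Lib.Helper86Fusion Cfsg.Agent.Lib.Helper86Fusion2 Cfsg.Agent.Lib.Helper86Fusion3
  Cfsg.Agent.Lib.Helper86Fusion4 Cfsg.Agent.Lib.Helper86Sub
  Cfsg.Agent.Lib.Helper87Fusion2
  Cfsg.Agent.Lib.Helper89Fusion Cfsg.Agent.Lib.Helper89Fusion2 Cfsg.Agent.Lib.Helper89HType
open Cfsg.Agent.Lib.Helper87Fusion3 hiding pCore_normal pCore_isPGroup le_pCore isNormal_iff
  stronglyClosed_iff

variable {Ω : Type*} [Group Ω] {S : Subgroup Ω}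

theorem exists_normal_complement [Finite S] {p : ℕ} [hp : Fact p.Prime] (hS : IsPGroup p S)
    {F : FusionSystem S} (hF : F.IsSaturated p) (hp2 : p ≠ 2) {Z D : Subgroup Ω}
    (hZ : ∀ x, x ∈ Z ↔ x ∈ S ∧ ∀ s ∈ S, s * x = x * s) (hDZ : D ≤ Z) (hDcard : Nat.card D = p)
    (hDinv : ∀ γ, IsMap F S γ → ∀ d ∈ D, γ d ∈ D)
    (hess : ∀ P, F.IsEssential p P → Z ≤ P ∧
      ((∀ f, IsMap F P f → f '' (P : Set Ω) = (P : Set Ω) → ∀ ζ ∈ Z, f ζ ∈ Z) ∨ HType F p Z D P))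
    {P₁ : Subgroup Ω} (hP₁ : HType F p Z D P₁) {g₁ : Ω → Ω} (hg₁ : IsMap F P₁ g₁)
    (hg₁P : g₁ '' (P₁ : Set Ω) = (P₁ : Set Ω)) (hg₁Z : ∃ ζ ∈ Z, g₁ ζ ∉ Z) :
    ∃ W : Subgroup Ω, F.IsNormal W ∧ W ≤ Z ∧ ∀ ζ ∈ Z, ∃ d ∈ D, ∃ ω ∈ W, ζ = d * ω := by
  have hZS : Z ≤ S := fun x hx => ((hZ x).1 hx).1
  have hDS : D ≤ S := hDZ.trans hZS
  have hcenS : ∀ s ∈ S, ∀ x ∈ Z, s * x * s⁻¹ = x := fun s hs x hx => by
    rw [((hZ x).1 hx).2 s hs, mul_inv_cancel_right]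
  have hDp : ∀ d ∈ D, d ^ p = 1 := by
    intro d hd
    have : (⟨d, hd⟩ : D) ^ p = 1 := by rw [← hDcard]; exact pow_card_eq_one'
    exact congrArg Subtype.val this
  obtain ⟨τ, hτ, hτD, hτZ, hτfix, hτdec⟩ := hP₁.torus hS hF hp2 hZ hDZ hDcard hg₁ hg₁P hg₁Z
  have hK : ∀ τ₁ τ₂, IsMap F S τ₁ → (∀ d ∈ D, τ₁ d = d⁻¹) → (∀ ζ ∈ Z, ζ⁻¹ * τ₁ ζ ∈ D) →
      IsMap F S τ₂ → (∀ d ∈ D, τ₂ d = d⁻¹) → (∀ ζ ∈ Z, ζ⁻¹ * τ₂ ζ ∈ D) →
      ∀ ζ ∈ Z, τ₂ (τ₁ ζ) = ζ := by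
    intro τ₁ τ₂ h1 h1D h1Z h2 h2D h2Z
    apply fix_center_of_unipotent hS hF hZ hDp (h1.comp h2 (fun x hx => h1.mem hx))
    · intro d hd
      rw [h1D d hd, h2D _ (D.inv_mem hd), inv_inv]
    · intro ζ hζ
      have e : τ₁ ζ = ζ * (ζ⁻¹ * τ₁ ζ) := by group
      rw [e, h2.map_mul (hZS hζ) (hDS (h1Z ζ hζ)), h2D _ (h1Z ζ hζ), ← mul_assoc]
      exact D.mul_mem (h2Z ζ hζ) (D.inv_mem (h1Z ζ hζ))
  have hK2 : ∀ τ₂, IsMap F S τ₂ → (∀ d ∈ D, τ₂ d = d⁻¹) → (∀ ζ ∈ Z, ζ⁻¹ * τ₂ ζ ∈ D) →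
      ∀ ζ ∈ Z, τ₂ ζ = τ ζ := by
    intro τ₂ h2 h2D h2Z ζ hζ
    have h3 := hK τ τ₂ hτ hτD hτZ h2 h2D h2Z (τ ζ) (isMap_center_mem hZ hτ hζ)
    rwa [hK τ τ hτ hτD hτZ hτ hτD hτZ ζ hζ] at h3
  let W : Subgroup Ω :=
    { carrier := {x | x ∈ Z ∧ τ x = x}
      one_mem' := ⟨Z.one_mem, hτ.map_one⟩
      mul_mem' := by
        rintro a b ⟨ha, ha'⟩ ⟨hb, hb'⟩
        exact ⟨Z.mul_mem ha hb, by rw [hτ.map_mul (hZS ha) (hZS hb), ha', hb']⟩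
      inv_mem' := by
        rintro a ⟨ha, ha'⟩
        exact ⟨Z.inv_mem ha, by rw [hτ.map_inv (hZS ha), ha']⟩ }
  have hW : ∀ x, x ∈ W ↔ x ∈ Z ∧ τ x = x := fun x => Iff.rfl
  have hWZ : W ≤ Z := fun x hx => hx.1
  have hIS : ∀ γ, IsMap F S γ → ∀ ω ∈ W, γ ω ∈ W := by
    intro γ hγ ω hω
    have hγS : γ '' (S : Set Ω) = (S : Set Ω) :=
      image_eq_of_card_le hγ le_rfl (fun x hx => hγ.mem hx) le_rfl
    obtain ⟨γ', hγ', h1, h2, -⟩ := hγ.inv hγS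
    have hτ' : IsMap F S (fun x => γ' (τ (γ x))) :=
      (hγ.comp hτ (fun x hx => hγ.mem hx)).comp hγ' (fun x hx => hτ.mem (hγ.mem hx))
    have h3 := hK2 _ hτ'
      (by
        intro d hd
        show γ' (τ (γ d)) = d⁻¹
        rw [hτD _ (hDinv γ hγ d hd), hγ'.map_inv (hγ.mem (hDS hd)), h1 d (hDS hd)])
      (by
        intro ζ hζ
        show ζ⁻¹ * γ' (τ (γ ζ)) ∈ D
        have hγζ := isMap_center_mem hZ hγ hζ
        have e : τ (γ ζ) = γ ζ * ((γ ζ)⁻¹ * τ (γ ζ)) := by group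
        rw [e, hγ'.map_mul (hZS hγζ) (hDS (hτZ _ hγζ)), h1 ζ (hZS hζ), inv_mul_cancel_left]
        exact hDinv γ' hγ' _ (hτZ _ hγζ))
      ω hω.1
    rw [hω.2] at h3
    have h4 : γ' (τ (γ ω)) = ω := h3
    refine ⟨isMap_center_mem hZ hγ hω.1, ?_⟩
    have h5 := congrArg γ h4
    rwa [h2 _ (hτ.mem (hγ.mem (hZS hω.1)))] at h5
  have hpres : ∀ P f, Z ≤ P → IsMap F P f → (∀ ζ ∈ Z, f ζ ∈ Z) → ∀ ω ∈ W, f ω ∈ W := by
    intro P f hZP hf hfZ ω hω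
    have hfZ' : IsMap F Z f := hf.restrict hZP
    obtain ⟨γ, hγ, -, hγf⟩ := extend_central hS hF hZS hcenS hfZ'
      (image_eq_of_card_le hfZ' hZS hfZ le_rfl)
    rw [← hγf ω hω.1]
    exact hIS γ hγ ω hω
  refine ⟨W, ?_, hWZ, ?_⟩
  · apply normal_of_aut_invariant hS F hF
    intro P hP
    have hmain : Z ≤ P ∧ ∀ f, IsMap F P f → f '' (P : Set Ω) = (P : Set Ω) → ∀ ω ∈ W, f ω ∈ W := by
      rcases hP with rfl | hP
      · exact ⟨hZS, fun f hf _ => hIS f hf⟩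
      · obtain ⟨hZP, hcase⟩ := hess P hP
        refine ⟨hZP, fun f hf hfP => ?_⟩
        rcases hcase with hcase | hH
        · exact hpres P f hZP hf (hcase f hf hfP)
        · by_cases hmove : ∃ g, IsMap F P g ∧ g '' (P : Set Ω) = (P : Set Ω) ∧ ∃ ζ ∈ Z, g ζ ∉ Z
          · obtain ⟨g, hg, hgP, hgZ⟩ := hmove
            have hC1 : ∀ h, IsMap F P h → h '' (P : Set Ω) = (P : Set Ω) → ∀ ω ∈ W,
                ∃ ζ' ∈ Z, h ζ' = ω := by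
              intro h hh hhP ω hω
              by_cases hm : ∃ ζ ∈ Z, h ζ ∉ Z
              · obtain ⟨τh, h1, h2, h3, h4, -⟩ := hH.torus hS hF hp2 hZ hDZ hDcard hh hhP hm
                rw [← h4 ω hω.1, hK2 τh h1 h2 h3 ω hω.1]
                exact hω.2
              · push Not at hm
                have h1 := image_eq_of_card_le (hh.restrict hZP) hZS hm le_rfl
                obtain ⟨ζ', hζ', h2⟩ := IsMap.exists_of_mem_image h1 hω.1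
                exact ⟨ζ', hζ', h2⟩
            intro ω hω
            obtain ⟨f', hf', h1, h2, hf'P⟩ := hf.inv hfP
            obtain ⟨ζ', hζ', h3⟩ := hC1 f' hf' hf'P ω hω
            have hfω : f ω = ζ' := by rw [← h3, h2 _ (hZP hζ')]
            obtain ⟨τg, t1, t2, t3, t4, -⟩ := hH.torus hS hF hp2 hZ hDZ hDcard hg hgP hgZ
            refine ⟨hfω ▸ hζ', ?_⟩
            rw [← hK2 τg t1 t2 t3 _ (hfω ▸ hζ'), t4 _ (hfω ▸ hζ')]
            have hcomp : IsMap F P (fun x => f' (g x)) :=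
              hg.comp hf' (fun x hx => IsMap.mem_image hgP hx)
            obtain ⟨ζ'', hζ'', h4⟩ := hC1 _ hcomp (by
              have e : (fun x => f' (g x)) '' (P : Set Ω) = f' '' (g '' (P : Set Ω)) :=
                (Set.image_image f' g _).symm
              rw [e, hgP, hf'P]) ω hω
            refine ⟨ζ'', hζ'', ?_⟩
            have h5 : f' (g ζ'') = ω := h4
            rw [← h5, h2 _ (IsMap.mem_image hgP (hZP hζ''))]
          · push Not at hmove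
            exact hpres P f hZP hf (hmove f hf hfP)
    refine ⟨hWZ.trans hmain.1, fun f hf hfP => ?_⟩
    exact image_eq_of_card_le (hf.restrict (hWZ.trans hmain.1)) (hWZ.trans hZS)
      (hmain.2 f hf hfP) le_rfl
  · intro ζ hζ
    obtain ⟨d, hd, ω, hω, h1, h2⟩ := hτdec ζ hζ
    exact ⟨d, hd, ω, ⟨hω, h1⟩, h2⟩

end Cfsg.Agent.Lib.Helper89CL
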