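import Mathlib
import Cfsg.Agent.Lib.Helper3Class2
import Cfsg.Agent.Lib.Helper79PGroup
import Cfsg.Agent.Lib.Helper89PCube

set_option autoImplicit false

/-! Structure of a `p`-group `P` with `|P'| = p` having a non-central element `y` with elementary
abelian centralizer and an element `w` of order `p` outside this centralizer:
`P = ⟨w, y⟩ × A` (helper89). -/

namespace Cfsg.Agent.Lib.Helper89GenExtra

open scoped commutatorElement Pointwise
open Cfsg.Agent.Lib.Helper3Class2 Cfsg.Agent.Lib.Helper79PGroup Cfsg.Agent.Lib.Helper89PCube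
  Cfsg.Agent.Lib.Helper3PGroup

theorem exists_complement_aux {Z : Type*} [CommGroup Z] [Finite Z] {p : ℕ} [hp : Fact p.Prime]
    (hexp : ∀ a : Z, a ^ p = 1) (c : Z) (hc1 : c ≠ 1) :
    ∃ A : Subgroup Z, c ∉ A ∧ ∀ g, ∃ a ∈ A, ∃ k : ℤ, g = a * c ^ k := by
  let S : Set (Subgroup Z) := {M | c ∉ M}
  obtain ⟨A, hAS, hAmax⟩ := (Set.toFinite S).exists_maximal
    ⟨⊥, fun h => hc1 (Subgroup.mem_bot.1 h)⟩
  refine ⟨A, hAS, fun g => ?_⟩
  by_cases hg : g ∈ A
  · exact ⟨g, hg, 0, by simp⟩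
  have hlt : A < A ⊔ Subgroup.zpowers g := by
    refine lt_of_le_of_ne le_sup_left ?_
    intro h
    apply hg
    rw [h]
    exact (le_sup_right : Subgroup.zpowers g ≤ _) (Subgroup.mem_zpowers g)
  have hcs : c ∈ A ⊔ Subgroup.zpowers g := by
    by_contra hcs
    exact absurd (hAmax hcs hlt.le) (not_le_of_gt hlt)
  rw [Subgroup.mem_sup] at hcs
  obtain ⟨a, ha, z, hz, haz⟩ := hcs
  obtain ⟨i, rfl⟩ := Subgroup.mem_zpowers_iff.mp hz
  have hpi : ¬ (p : ℤ) ∣ i := by
    rintro ⟨k, rfl⟩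
    apply hAS
    rw [← haz, zpow_mul, zpow_natCast, hexp, one_zpow, mul_one]
    exact ha
  have hcop : IsCoprime i (p : ℤ) :=
    ((Prime.coprime_iff_not_dvd (Nat.prime_iff_prime_int.mp hp.out)).mpr hpi).symm
  obtain ⟨s, t, hst⟩ := hcop
  have hgi : g ^ i = a⁻¹ * c := by rw [← haz]; group
  refine ⟨(a⁻¹) ^ s, A.zpow_mem (A.inv_mem ha) s, s, ?_⟩
  rw [← mul_zpow, ← hgi, ← zpow_mul, mul_comm i s]
  have : s * i = 1 - t * p := by linarith
  rw [this, zpow_sub, zpow_one, zpow_mul, zpow_natCast, hexp, inv_one, mul_one]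

theorem exists_complement {Z : Type*} [inst : Group Z] [Finite Z] {p : ℕ} [hp : Fact p.Prime]
    (hcomm : ∀ a b : Z, a * b = b * a)
    (hexp : ∀ a : Z, a ^ p = 1) (c : Z) (hc1 : c ≠ 1) :
    ∃ A : Subgroup Z, c ∉ A ∧ ∀ g, ∃ a ∈ A, ∃ k : ℤ, g = a * c ^ k :=
  @exists_complement_aux Z { inst with mul_comm := hcomm } _ p hp hexp c hc1

theorem card_sup_le {G : Type*} [Group G] [Finite G] (H N : Subgroup G) [N.Normal] :
    Nat.card (H ⊔ N : Subgroup G) ≤ Nat.card H * Nat.card N := by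
  have h1 : Nat.card (H ⊔ N : Subgroup G) = Nat.card ((H : Set G) * (N : Set G) : Set G) := by
    rw [← Subgroup.mul_normal]; rfl
  rw [h1]
  exact Set.natCard_mul_le

theorem comm_of_commutator_eq {G : Type*} [Group G] {g h y : G} (e : ⁅g, y⁆ = ⁅h, y⁆) :
    h⁻¹ * g * y = y * (h⁻¹ * g) := by
  have h3 : g * y * g⁻¹ = h * y * h⁻¹ := by
    rw [commutatorElement_def, commutatorElement_def] at e
    exact mul_right_cancel e
  calc h⁻¹ * g * y = h⁻¹ * (g * y * g⁻¹) * g := by group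
    _ = h⁻¹ * (h * y * h⁻¹) * g := by rw [h3]
    _ = y * (h⁻¹ * g) := by group

theorem ge_decomp {P : Type*} [Group P] [Finite P] {p : ℕ} [hp : Fact p.Prime] (hP : IsPGroup p P)
    (hD : Nat.card (commutator P) = p) (y w : P) (hw : w ^ p = 1) (hwy : w * y ≠ y * w)
    (hMc : ∀ a b : P, a * y = y * a → b * y = y * b → a * b = b * a)
    (hMp : ∀ a : P, a * y = y * a → a ^ p = 1) :
    ∃ E A : Subgroup P, w ∈ E ∧ y ∈ E ∧ Nat.card E = p ^ 3 ∧ (p ≠ 2 → ∀ g ∈ E, g ^ p = 1) ∧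
      (∀ a ∈ A, a ^ p = 1) ∧ (∀ a ∈ A, ∀ b ∈ A, a * b = b * a) ∧ Nonempty (P ≃* E × A) := by
  have hpp := hp.out
  have hy : y ^ p = 1 := hMp y rfl
  set c := ⁅w, y⁆ with hc
  have hmemD : ∀ a b : P, ⁅a, b⁆ ∈ commutator P := fun a b =>
    Subgroup.commutator_mem_commutator (Subgroup.mem_top _) (Subgroup.mem_top _)
  have hcD : c ∈ commutator P := hmemD w y
  have hc1 : c ≠ 1 := by
    intro h
    rw [hc, commutatorElement_eq_one_iff_mul_comm] at h
    exact hwy h
  have hc1' : ⁅y, w⁆ ≠ 1 := by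
    intro h
    rw [commutatorElement_eq_one_iff_mul_comm] at h
    exact hwy h.symm
  have hDcen : commutator P ≤ Subgroup.center P := le_center_of_normal_of_card_eq_prime hP _ hD
  have hcomm : ∀ d ∈ commutator P, ∀ g : P, Commute d g := fun d hd g =>
    (Subgroup.mem_center_iff.1 (hDcen hd) g).symm
  have hDpow : ∀ e ∈ commutator P, e ≠ 1 → ∀ d ∈ commutator P, ∃ k : ℕ, d = e ^ k := by
    intro e he he1 d hd
    have h1 : (⟨d, hd⟩ : commutator P) ∈ Subgroup.zpowers (⟨e, he⟩ : commutator P) :=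
      mem_zpowers_of_prime_card hD (fun h => he1 (congrArg Subtype.val h))
    rw [← mem_powers_iff_mem_zpowers] at h1
    obtain ⟨k, hk⟩ := h1
    exact ⟨k, (congrArg Subtype.val hk).symm⟩
  have hDp : ∀ d ∈ commutator P, d ^ p = 1 := by
    intro d hd
    have : (⟨d, hd⟩ : commutator P) ^ p = 1 := by rw [← hD]; exact pow_card_eq_one'
    exact congrArg Subtype.val this
  have hco : orderOf c = p := orderOf_eq_prime (hDp c hcD) hc1
  have hco' : orderOf ⁅y, w⁆ = p := orderOf_eq_prime (hDp _ (hmemD y w)) hc1'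
  have key1 : ∀ g : P, ∃ i : ℕ, (w ^ i)⁻¹ * g * y = y * ((w ^ i)⁻¹ * g) := by
    intro g
    obtain ⟨i, hi⟩ := hDpow c hcD hc1 ⁅g, y⁆ (hmemD g y)
    exact ⟨i, comm_of_commutator_eq (hi.trans (commutator_pow_left w y (hcomm c hcD w) i).symm)⟩
  have key2 : ∀ m : P, m * y = y * m → ∃ j : ℕ, (y ^ j)⁻¹ * m ∈ Subgroup.center P := by
    intro m hm
    obtain ⟨j, hj⟩ := hDpow ⁅y, w⁆ (hmemD y w) hc1' ⁅m, w⁆ (hmemD m w)
    have h1 := comm_of_commutator_eq
      (hj.trans (commutator_pow_left y w (hcomm _ (hmemD y w) y) j).symm)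
    have h2 : (y ^ j)⁻¹ * m * y = y * ((y ^ j)⁻¹ * m) := by
      have e1 : Commute ((y ^ j)⁻¹) y := ((Commute.refl y).pow_left j).inv_left
      exact (e1.mul_left hm).eq
    refine ⟨j, Subgroup.mem_center_iff.2 (fun g => ?_)⟩
    obtain ⟨i, hi⟩ := key1 g
    have h3 := hMc _ _ h2 hi
    have h4 : Commute ((y ^ j)⁻¹ * m) (w ^ i) := Commute.pow_right h1 i
    have e : g = w ^ i * ((w ^ i)⁻¹ * g) := by group
    rw [e]
    exact ((h4.mul_right h3).eq).symm
  have hdec : ∀ g : P, ∃ i j : ℕ, ∃ a ∈ Subgroup.center P, g = w ^ i * (y ^ j * a) := by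
    intro g
    obtain ⟨i, hi⟩ := key1 g
    obtain ⟨j, hj⟩ := key2 _ hi
    exact ⟨i, j, _, hj, by group⟩
  obtain ⟨A₀, hcA₀, hA₀⟩ := exists_complement (Z := Subgroup.center P) (p := p)
    (fun a b => Subtype.ext (Subgroup.mem_center_iff.1 b.2 a))
    (fun a => Subtype.ext (hMp a (Subgroup.mem_center_iff.1 a.2 y).symm)) ⟨c, hDcen hcD⟩
    (fun h => hc1 (congrArg Subtype.val h))
  have hE₂n : (Subgroup.zpowers y ⊔ commutator P).Normal := normal_of_commutator_le le_sup_right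
  set E : Subgroup P := Subgroup.zpowers w ⊔ (Subgroup.zpowers y ⊔ commutator P) with hE
  have hwE : w ∈ E := (le_sup_left : Subgroup.zpowers w ≤ _) (Subgroup.mem_zpowers w)
  have hyE : y ∈ E := (le_sup_right : _ ≤ Subgroup.zpowers w ⊔ (Subgroup.zpowers y ⊔ commutator P))
      ((le_sup_left : Subgroup.zpowers y ≤ _) (Subgroup.mem_zpowers y))
  have hDE : commutator P ≤ E := le_sup_right.trans le_sup_right
  have hEform : ∀ g ∈ E, ∃ i j : ℕ, ∃ d ∈ commutator P, g = w ^ i * (y ^ j * d) := by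
    intro g hg
    rw [hE, Subgroup.mem_sup_of_normal_right] at hg
    obtain ⟨a, ha, b, hb, rfl⟩ := hg
    rw [Subgroup.mem_sup_of_normal_right] at hb
    obtain ⟨b', hb', d, hd, rfl⟩ := hb
    rw [← mem_powers_iff_mem_zpowers] at ha hb'
    obtain ⟨i, rfl⟩ := ha
    obtain ⟨j, rfl⟩ := hb'
    exact ⟨i, j, d, hd, rfl⟩
  have hA : ∀ a ∈ A₀.map (Subgroup.center P).subtype, a ∈ Subgroup.center P := by
    rintro _ ⟨a, -, rfl⟩
    exact a.2
  have hcA : c ∉ A₀.map (Subgroup.center P).subtype := by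
    rintro ⟨a, ha, hac⟩
    apply hcA₀
    have : a = ⟨c, hDcen hcD⟩ := Subtype.ext hac
    rwa [← this]
  have hEA : ∀ g ∈ E, g ∈ A₀.map (Subgroup.center P).subtype → g = 1 := by
    intro g hg hgA
    obtain ⟨i, j, d, hd, rfl⟩ := hEform g hg
    have hgc := Subgroup.mem_center_iff.1 (hA _ hgA)
    have h1 : Commute (y ^ j * d) y := ((Commute.refl y).pow_left j).mul_left (hcomm d hd y)
    have h2 : Commute (w ^ i) y := by
      have e : w ^ i = (w ^ i * (y ^ j * d)) * (y ^ j * d)⁻¹ := by group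
      rw [e]
      exact Commute.mul_left (hgc y).symm h1.inv_left
    have h3 : c ^ i = 1 := by
      rw [← commutator_pow_left w y (hcomm c hcD w) i, commutatorElement_eq_one_iff_commute]
      exact h2
    have h4 : w ^ i = 1 := by
      rw [← orderOf_dvd_iff_pow_eq_one, hco] at h3
      obtain ⟨k, rfl⟩ := h3
      rw [pow_mul, hw, one_pow]
    rw [h4, one_mul] at hgc hgA ⊢
    have h5 : Commute (y ^ j) w := by
      have e : y ^ j = (y ^ j * d) * d⁻¹ := by group
      rw [e]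
      exact Commute.mul_left (hgc w).symm (hcomm d hd w).inv_left
    have h6 : ⁅y, w⁆ ^ j = 1 := by
      rw [← commutator_pow_left y w (hcomm _ (hmemD y w) y) j,
        commutatorElement_eq_one_iff_commute]
      exact h5
    have h7 : y ^ j = 1 := by
      rw [← orderOf_dvd_iff_pow_eq_one, hco'] at h6
      obtain ⟨k, rfl⟩ := h6
      rw [pow_mul, hy, one_pow]
    rw [h7, one_mul] at hgA ⊢
    by_contra hd1
    obtain ⟨k, hk⟩ := hDpow d hd hd1 c hcD
    exact hcA (hk ▸ Subgroup.pow_mem _ hgA k)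
  refine ⟨E, A₀.map (Subgroup.center P).subtype, hwE, hyE, ?_, ?_, ?_, ?_, ?_⟩
  · have hle : Nat.card E ≤ p ^ 3 := by
      have h1 := card_sup_le (Subgroup.zpowers w) (Subgroup.zpowers y ⊔ commutator P)
      have h2 := card_sup_le (Subgroup.zpowers y) (commutator P)
      rw [Nat.card_zpowers] at h1 h2
      rw [hD] at h2
      have h3 : orderOf w ≤ p := Nat.le_of_dvd hpp.pos (orderOf_dvd_of_pow_eq_one hw)
      have h4 : orderOf y ≤ p := Nat.le_of_dvd hpp.pos (orderOf_dvd_of_pow_eq_one hy)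
      calc Nat.card E ≤ orderOf w * Nat.card (Subgroup.zpowers y ⊔ commutator P : Subgroup P) := h1
        _ ≤ p * (p * p) := Nat.mul_le_mul h3 (h2.trans (Nat.mul_le_mul h4 le_rfl))
        _ = p ^ 3 := by ring
    obtain ⟨n, hn⟩ := IsPGroup.iff_card.mp (hP.to_subgroup E)
    rw [hn] at hle ⊢
    have hn3 : n ≤ 3 := (Nat.pow_le_pow_iff_right hpp.one_lt).1 hle
    have hn2 : ¬ n ≤ 2 := by
      intro h
      have := comm_of_card_dvd_sq (p := p) (E := E) (by rw [hn]; exact pow_dvd_pow p h)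
        ⟨w, hwE⟩ ⟨y, hyE⟩
      exact hwy (congrArg Subtype.val this)
    have : n = 3 := by omega
    rw [this]
  · intro hp2 g hg
    obtain ⟨i, j, d, hd, rfl⟩ := hEform g hg
    have h2p : 2 < p := lt_of_le_of_ne hpp.two_le (Ne.symm hp2)
    have hch : p ∣ p.choose 2 := hpp.dvd_choose_self (by norm_num) h2p
    rw [mul_pow_class2 _ _ (hcomm _ (hmemD _ _) _) (hcomm _ (hmemD _ _) _),
      ((hcomm d hd (y ^ j)).symm).mul_pow, hDp d hd, ← pow_mul, ← pow_mul, mul_comm i, mul_comm j,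
      pow_mul, pow_mul, hw, hy, one_pow, one_pow]
    obtain ⟨k, hk⟩ := hch
    rw [hk, pow_mul, hDp _ (hmemD _ _), one_pow]
    simp
  · intro a ha
    exact hMp a (Subgroup.mem_center_iff.1 (hA a ha) y).symm
  · intro a _ b hb
    exact Subgroup.mem_center_iff.1 (hA b hb) a
  · let f : E × (A₀.map (Subgroup.center P).subtype) →* P :=
      MonoidHom.noncommCoprod E.subtype (A₀.map (Subgroup.center P).subtype).subtype
        (fun e a => Subgroup.mem_center_iff.1 (hA a a.2) e)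
    have hf : ∀ e a, f (e, a) = (e : P) * (a : P) := fun e a => rfl
    have hinj : Function.Injective f := by
      rw [injective_iff_map_eq_one]
      rintro ⟨e, a⟩ h
      rw [hf] at h
      have h1 : (e : P) = (a : P)⁻¹ := eq_inv_of_mul_eq_one_left h
      have h2 : (e : P) = 1 := hEA e e.2 (h1 ▸ Subgroup.inv_mem _ a.2)
      have h3 : (a : P) = 1 := by rw [h2, one_mul] at h; exact h
      exact Prod.ext (Subtype.ext h2) (Subtype.ext h3)
    have hsurj : Function.Surjective f := by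
      intro g
      obtain ⟨i, j, a, ha, rfl⟩ := hdec g
      obtain ⟨a₀, ha₀, k, hk⟩ := hA₀ ⟨a, ha⟩
      have hk' : a = (a₀ : P) * c ^ k := by
        have := congrArg Subtype.val hk
        simpa using this
      refine ⟨(⟨w ^ i * (y ^ j * c ^ k), E.mul_mem (E.pow_mem hwE i)
        (E.mul_mem (E.pow_mem hyE j) (E.zpow_mem (hDE hcD) k))⟩, ⟨a₀, a₀, ha₀, rfl⟩), ?_⟩
      rw [hf, hk']
      have := Subgroup.mem_center_iff.1 a₀.2 (c ^ k)
      show w ^ i * (y ^ j * c ^ k) * (a₀ : P) = _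
      rw [mul_assoc, mul_assoc, this]
    exact ⟨(MulEquiv.ofBijective f ⟨hinj, hsurj⟩).symm⟩

end Cfsg.Agent.Lib.Helper89GenExtra
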