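import Mathlib

set_option autoImplicit false

namespace Cfsg.Agent.Lib.Helper89Unip

/-- `f` takes values in `n • M` -/
def Dv {M : Type*} [AddCommGroup M] (n : ℕ) (f : AddMonoid.End M) : Prop := ∀ y, ∃ w, f y = n • w

variable {M : Type*} [AddCommGroup M]

theorem mul_ap (f g : AddMonoid.End M) (y : M) : (f * g) y = f (g y) := rfl
theorem add_ap (f g : AddMonoid.End M) (y : M) : (f + g) y = f y + g y := rfl
theorem one_ap (y : M) : (1 : AddMonoid.End M) y = y := rfl

theorem Dv.mul_left {n : ℕ} {f : AddMonoid.End M} (h : Dv n f) (g : AddMonoid.End M) :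
    Dv n (g * f) := by
  intro y
  obtain ⟨w, hw⟩ := h y
  exact ⟨g w, by rw [mul_ap, hw, map_nsmul]⟩

theorem Dv.mul_right {n : ℕ} {f : AddMonoid.End M} (h : Dv n f) (g : AddMonoid.End M) :
    Dv n (f * g) := fun y => h (g y)

theorem Dv.add {n : ℕ} {f g : AddMonoid.End M} (hf : Dv n f) (hg : Dv n g) : Dv n (f + g) := by
  intro y
  obtain ⟨w, hw⟩ := hf y
  obtain ⟨w', hw'⟩ := hg y
  exact ⟨w + w', by rw [add_ap, hw, hw', nsmul_add]⟩

theorem Dv.zero (n : ℕ) : Dv n (0 : AddMonoid.End M) := fun _ => ⟨0, by simp⟩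

theorem Dv.sum {n : ℕ} {ι : Type*} (s : Finset ι) (f : ι → AddMonoid.End M)
    (h : ∀ i ∈ s, Dv n (f i)) : Dv n (∑ i ∈ s, f i) := by
  classical
  induction s using Finset.induction_on with
  | empty => simpa using Dv.zero n
  | insert a s ha ih =>
    rw [Finset.sum_insert ha]
    exact (h a (Finset.mem_insert_self a s)).add (ih (fun i hi => h i (Finset.mem_insert_of_mem hi)))

theorem Dv.mul {a b : ℕ} {f g : AddMonoid.End M} (hf : Dv a f) (hg : Dv b g) : Dv (a * b) (f * g) := by
  intro y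
  obtain ⟨w, hw⟩ := hg y
  obtain ⟨w', hw'⟩ := hf w
  exact ⟨w', by rw [mul_ap, hw, map_nsmul, hw', mul_nsmul]⟩

theorem Dv.natCast (a : ℕ) : Dv a (a : AddMonoid.End M) := fun y => ⟨y, by simp⟩

/-- the key computation: a unipotent automorphism `1 + N` of order `p ≥ 5` with `N² ≡ 0 mod p`
satisfies `N ≡ 0 mod p`, when the elements killed by `p` are divisible by `p`. -/
theorem key {p : ℕ} (hp : p.Prime) (h5 : 5 ≤ p) (N : AddMonoid.End M) (h1 : (N + 1) ^ p = 1)
    (h2 : Dv p (N * N)) (h3 : ∀ u : M, p • u = 0 → ∃ w, u = p • w) : Dv p N := by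
  obtain ⟨q, rfl⟩ : ∃ q, p = q + 2 := ⟨p - 2, by omega⟩
  have hsum := (Commute.one_right N).add_pow (q + 2)
  rw [h1, Finset.sum_range_succ', Finset.sum_range_succ'] at hsum
  simp only [one_pow, mul_one, pow_zero, Nat.choose_zero_right, Nat.cast_one, zero_add, pow_one,
    Nat.choose_one_right] at hsum
  have hrest : Dv ((q + 2) * (q + 2))
      (∑ k ∈ Finset.range (q + 1), N ^ (k + 1 + 1) * (((q + 2).choose (k + 1 + 1) : ℕ) : AddMonoid.End M)) := by
    apply Dv.sum
    intro k hk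
    rw [Finset.mem_range] at hk
    by_cases hkq : k = q
    · subst hkq
      rw [Nat.choose_self, Nat.cast_one, mul_one]
      have e : N ^ (k + 1 + 1) = N ^ (k - 2) * ((N * N) * (N * N)) := by
        have : k + 1 + 1 = (k - 2) + 4 := by omega
        rw [this, pow_add]
        simp only [pow_succ, pow_zero, one_mul, mul_assoc]
      rw [e]
      exact (h2.mul h2).mul_left _
    · have hdvd : (q + 2) ∣ (q + 2).choose (k + 1 + 1) :=
        hp.dvd_choose_self (by omega) (by omega)
      obtain ⟨c, hc⟩ := hdvd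
      have e : N ^ (k + 1 + 1) * (((q + 2).choose (k + 1 + 1) : ℕ) : AddMonoid.End M) =
          N ^ k * ((N * N) * (((q + 2 : ℕ) : AddMonoid.End M))) * (c : AddMonoid.End M) := by
        rw [hc, Nat.cast_mul, pow_succ, pow_succ]
        simp only [mul_assoc]
      rw [e]
      exact ((h2.mul (Dv.natCast (q + 2))).mul_left _).mul_right _
  intro y
  obtain ⟨w, hw⟩ := hrest y
  have h4 := congrArg (fun f : AddMonoid.End M => f y) hsum
  simp only [add_ap, one_ap] at h4
  rw [hw] at h4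
  have h5' : (N * (((q + 2 : ℕ)) : AddMonoid.End M)) y = (q + 2) • N y := by
    rw [mul_ap, AddMonoid.End.natCast_apply, map_nsmul]
  rw [h5'] at h4
  have h6 : (q + 2) • (N y + (q + 2) • w) = 0 := by
    rw [nsmul_add, ← mul_nsmul]
    have : y = (((q + 2) * (q + 2)) • w + (q + 2) • N y) + y := h4
    have h7 : ((q + 2) * (q + 2)) • w + (q + 2) • N y = 0 := by
      have h8 : 0 + y = (((q + 2) * (q + 2)) • w + (q + 2) • N y) + y := by rw [zero_add]; exact this
      exact (add_right_cancel h8).symm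
    rw [add_comm]; exact h7
  obtain ⟨w', hw'⟩ := h3 _ h6
  refine ⟨w' - w, ?_⟩
  rw [nsmul_sub, ← hw']
  abel

/-- multiplicative version -/
theorem key_mul {P : Type*} [CommGroup P] {p : ℕ} (hp : p.Prime) (h5 : 5 ≤ p) (t : MulAut P)
    (h1 : t ^ p = 1) (h2 : ∀ y : P, ∃ w : P, (y⁻¹ * t y)⁻¹ * t (y⁻¹ * t y) = w ^ p)
    (h3 : ∀ u : P, u ^ p = 1 → ∃ w : P, u = w ^ p) : ∀ y : P, ∃ w : P, y⁻¹ * t y = w ^ p := by
  let τ : AddMonoid.End (Additive P) := MonoidHom.toAdditive t.toMonoidHom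
  have hτ : ∀ y : Additive P, τ y = Additive.ofMul (t y.toMul) := fun y => rfl
  have hpow : ∀ n : ℕ, ∀ y : Additive P, (τ ^ n) y = Additive.ofMul ((t ^ n) y.toMul) := by
    intro n
    induction n with
    | zero => intro y; rfl
    | succ n ih =>
      intro y
      rw [pow_succ, mul_ap, ih, hτ, pow_succ]
      rfl
  have hN : ∀ y : Additive P, (τ - 1) y = Additive.ofMul (y.toMul⁻¹ * t y.toMul) := by
    intro y
    have : (τ - 1) y = τ y - y := rfl
    rw [this, hτ, sub_eq_neg_add]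
    rfl
  have := key (M := Additive P) hp h5 (τ - 1) (by
      rw [sub_add_cancel]
      ext y
      rw [hpow, h1]
      rfl) (by
      intro y
      obtain ⟨w, hw⟩ := h2 y.toMul
      refine ⟨Additive.ofMul w, ?_⟩
      rw [mul_ap, hN, hN]
      show Additive.ofMul _ = Additive.ofMul (w ^ p)
      rw [← hw]
      rfl) (by
      intro u hu
      obtain ⟨w, hw⟩ := h3 u.toMul (by
        have : Additive.ofMul (u.toMul ^ p) = 0 := hu
        exact this)
      exact ⟨Additive.ofMul w, by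
        show u = Additive.ofMul (w ^ p)
        rw [← hw]; rfl⟩)
  intro y
  obtain ⟨w, hw⟩ := this (Additive.ofMul y)
  rw [hN] at hw
  exact ⟨w.toMul, hw⟩

end Cfsg.Agent.Lib.Helper89Unip
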