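import Mathlib
import Cfsg.Prelude.Def_FusionSystem

set_option autoImplicit false

/-!
# Vocabulary of project HS (S5259: an exotic fusion system on a Sylow `p`-subgroup of `SL₃(K)` has `O_p(F) = 1`)

Everything is *ambient*: `Ω` is a group, `S : Subgroup Ω`, `K` a field.
* `IsHeis φ S`: `φ : K → K → K → Ω` is a bijection of `K³` onto `S` with
  `φ a b c * φ a' b' c' = φ (a + a') (b + b') (c + c' + a * b')` (Heisenberg coordinates).
* `ZS S = S ⊓ centralizer S` is the centre of `S`, equal to `{φ 0 0 c}`.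
* `Cx S x = S ⊓ centralizer {x}` is `C_S(x)`.
-/

namespace Cfsg.Agent.Lib.Helper89Hs

variable {Ω : Type*} [Group Ω] {K : Type*} [Field K]

/-- Heisenberg coordinates on `S` -/
structure IsHeis (φ : K → K → K → Ω) (S : Subgroup Ω) : Prop where
  mem : ∀ a b c, φ a b c ∈ S
  surj : ∀ s ∈ S, ∃ a b c, φ a b c = s
  inj : ∀ a b c a' b' c', φ a b c = φ a' b' c' → a = a' ∧ b = b' ∧ c = c'
  mul : ∀ a b c a' b' c', φ a b c * φ a' b' c' = φ (a + a') (b + b') (c + c' + a * b')

/-- the centre of `S` -/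
def ZS (S : Subgroup Ω) : Subgroup Ω := S ⊓ Subgroup.centralizer (S : Set Ω)

/-- `C_S(x)` -/
def Cx (S : Subgroup Ω) (x : Ω) : Subgroup Ω := S ⊓ Subgroup.centralizer ({x} : Set Ω)

end Cfsg.Agent.Lib.Helper89Hs
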