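import Mathlib
import Cfsg.Agent.Lib.Helper89HsDefs

set_option autoImplicit false

namespace Cfsg.Agent.Lib.Helper89Hs

variable {Ω : Type*} [Group Ω] {K : Type*} [Field K] {φ : K → K → K → Ω} {S : Subgroup Ω}

/-! **Calc.** Pure calculus in Heisenberg coordinates (PURE MATHLIB). Everything follows from `h.mul`, `h.inj`, `h.surj`, `ring`,
`field_simp`. -/

namespace IsHeis

theorem ext3 (φ : K → K → K → Ω) {a b c a' b' c' : K} (h1 : a = a') (h2 : b = b') (h3 : c = c') :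
    φ a b c = φ a' b' c' := by rw [h1, h2, h3]

theorem one (h : IsHeis φ S) : φ 0 0 0 = 1 := by
  have := h.mul 0 0 0 0 0 0
  rw [ext3 φ (add_zero (0 : K)) (add_zero (0 : K)) (show (0 : K) + 0 + 0 * 0 = 0 by ring)] at this
  exact mul_eq_left.mp this

theorem inv (h : IsHeis φ S) (a b c : K) : (φ a b c)⁻¹ = φ (-a) (-b) (-c + a * b) := by
  apply inv_eq_of_mul_eq_one_right
  rw [h.mul, ← h.one]
  exact ext3 φ (by ring) (by ring) (by ring)

theorem conj (h : IsHeis φ S) (a b c a' b' c' : K) :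
    φ a b c * φ a' b' c' * (φ a b c)⁻¹ = φ a' b' (c' + a * b' - a' * b) := by
  rw [h.inv, h.mul, h.mul]
  exact ext3 φ (by ring) (by ring) (by ring)

theorem comm_iff (h : IsHeis φ S) (a b c a' b' c' : K) :
    φ a b c * φ a' b' c' = φ a' b' c' * φ a b c ↔ a * b' = a' * b := by
  rw [h.mul, h.mul]
  constructor
  · intro he
    have := (h.inj _ _ _ _ _ _ he).2.2
    linear_combination this
  · intro he
    exact ext3 φ (by ring) (by ring) (by linear_combination he)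

theorem mem_ZS_iff (h : IsHeis φ S) (x : Ω) : x ∈ ZS S ↔ ∃ c, x = φ 0 0 c := by
  unfold ZS
  rw [Subgroup.mem_inf, Subgroup.mem_centralizer_iff]
  constructor
  · rintro ⟨hx, hc⟩
    obtain ⟨a, b, c, rfl⟩ := h.surj x hx
    have h1 := (h.comm_iff 0 1 0 a b c).mp (hc _ (h.mem 0 1 0))
    have h2 := (h.comm_iff 1 0 0 a b c).mp (hc _ (h.mem 1 0 0))
    refine ⟨c, ext3 φ ?_ ?_ rfl⟩
    · linear_combination -h1
    · linear_combination h2
  · rintro ⟨c, rfl⟩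
    refine ⟨h.mem _ _ _, fun s hs => ?_⟩
    obtain ⟨a, b, c', rfl⟩ := h.surj s hs
    rw [h.comm_iff]
    ring

theorem not_mem_ZS_iff (h : IsHeis φ S) (a b c : K) : φ a b c ∉ ZS S ↔ a ≠ 0 ∨ b ≠ 0 := by
  rw [h.mem_ZS_iff]
  constructor
  · intro hn
    by_contra hcon
    push Not at hcon
    exact hn ⟨c, ext3 φ hcon.1 hcon.2 rfl⟩
  · rintro hab ⟨c', hc'⟩
    obtain ⟨h1, h2, -⟩ := h.inj _ _ _ _ _ _ hc'
    rcases hab with hab | hab
    · exact hab h1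
    · exact hab h2

/-- `[x, s] ∈ Z(S)` -/
theorem conj_mul_mem (h : IsHeis φ S) {s x : Ω} (hs : s ∈ S) (hx : x ∈ S) :
    x⁻¹ * (s * x * s⁻¹) ∈ ZS S := by
  obtain ⟨a, b, c, rfl⟩ := h.surj s hs
  obtain ⟨a', b', c', rfl⟩ := h.surj x hx
  rw [h.conj, h.inv, h.mul, h.mem_ZS_iff]
  exact ⟨_, ext3 φ (by ring) (by ring) rfl⟩

/-- the `S`-class of a non-central `x` is the whole coset `x Z(S)` -/
theorem exists_conj (h : IsHeis φ S) {x z : Ω} (hx : x ∈ S) (hxZ : x ∉ ZS S) (hz : z ∈ ZS S) :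
    ∃ s ∈ S, s * x * s⁻¹ = x * z := by
  obtain ⟨a', b', c', rfl⟩ := h.surj x hx
  obtain ⟨d, rfl⟩ := (h.mem_ZS_iff z).mp hz
  rcases (h.not_mem_ZS_iff a' b' c').mp hxZ with ha | hb
  · refine ⟨φ 0 (-d / a') 0, h.mem _ _ _, ?_⟩
    rw [h.conj, h.mul]
    refine ext3 φ (by ring) (by ring) ?_
    field_simp
    ring
  · refine ⟨φ (d / b') 0 0, h.mem _ _ _, ?_⟩
    rw [h.conj, h.mul]
    refine ext3 φ (by ring) (by ring) ?_
    field_simp
    ring

/-- `C_S(x)` is abelian for non-central `x` -/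
theorem comm_of_comm (h : IsHeis φ S) {x y y' : Ω} (hx : x ∈ S) (hxZ : x ∉ ZS S) (hy : y ∈ S)
    (hy' : y' ∈ S) (h1 : y * x = x * y) (h2 : y' * x = x * y') : y * y' = y' * y := by
  obtain ⟨a, b, c, rfl⟩ := h.surj x hx
  obtain ⟨a1, b1, c1, rfl⟩ := h.surj y hy
  obtain ⟨a2, b2, c2, rfl⟩ := h.surj y' hy'
  rw [h.comm_iff] at h1 h2 ⊢
  rcases (h.not_mem_ZS_iff a b c).mp hxZ with ha | hb
  · apply mul_left_cancel₀ ha
    linear_combination (-a1) * h2 + a2 * h1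
  · apply mul_left_cancel₀ hb
    linear_combination b2 * h1 - b1 * h2

/-- an element commuting with two non-commuting elements is central -/
theorem mem_ZS_of_comm (h : IsHeis φ S) {x y w : Ω} (hx : x ∈ S) (hy : y ∈ S) (hw : w ∈ S)
    (hxy : x * y ≠ y * x) (h1 : w * x = x * w) (h2 : w * y = y * w) : w ∈ ZS S := by
  obtain ⟨a, b, c, rfl⟩ := h.surj x hx
  obtain ⟨a', b', c', rfl⟩ := h.surj y hy
  obtain ⟨u, v, c'', rfl⟩ := h.surj w hw
  rw [h.comm_iff] at h1 h2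
  rw [Ne, h.comm_iff] at hxy
  have hdet : a * b' - a' * b ≠ 0 := sub_ne_zero.mpr hxy
  rw [h.mem_ZS_iff]
  refine ⟨c'', ext3 φ ?_ ?_ rfl⟩
  · apply mul_left_cancel₀ hdet
    linear_combination a * h2 - a' * h1
  · apply mul_left_cancel₀ hdet
    linear_combination b * h2 - b' * h1

theorem ZS_ne (h : IsHeis φ S) : ZS S ≠ S := by
  intro he
  have h1 : φ 1 0 0 ∈ ZS S := by rw [he]; exact h.mem _ _ _
  exact (h.not_mem_ZS_iff 1 0 0).mpr (Or.inl one_ne_zero) h1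

theorem mem_Cx {x v : Ω} : v ∈ Cx S x ↔ v ∈ S ∧ v * x = x * v := by
  unfold Cx
  rw [Subgroup.mem_inf, Subgroup.mem_centralizer_singleton_iff]

theorem Cx_eq_of_mem (h : IsHeis φ S) {x w : Ω} (hx : x ∈ S) (hxZ : x ∉ ZS S) (hw : w ∈ Cx S x)
    (hwZ : w ∉ ZS S) : Cx S x = Cx S w := by
  rw [mem_Cx] at hw
  ext v
  rw [mem_Cx, mem_Cx]
  constructor
  · rintro ⟨hv, hvx⟩
    exact ⟨hv, h.comm_of_comm hx hxZ hv hw.1 hvx hw.2⟩
  · rintro ⟨hv, hvw⟩
    exact ⟨hv, h.comm_of_comm hw.1 hwZ hv hx hvw hw.2.symm⟩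

/-- two distinct centralisers of non-central elements meet in the centre
(if `w` is in both and non-central then `Cx S x = Cx S w = Cx S y` by `comm_of_comm`) -/
theorem inter_le (h : IsHeis φ S) {x y : Ω} (hx : x ∈ S) (hxZ : x ∉ ZS S) (hy : y ∈ S)
    (hyZ : y ∉ ZS S) (hne : Cx S x ≠ Cx S y) : Cx S x ⊓ Cx S y ≤ ZS S := by
  intro w hw
  by_contra hwZ
  exact hne ((h.Cx_eq_of_mem hx hxZ hw.1 hwZ).trans (h.Cx_eq_of_mem hy hyZ hw.2 hwZ).symm)

end IsHeis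

end Cfsg.Agent.Lib.Helper89Hs
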