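import Mathlib

set_option autoImplicit false

namespace Cfsg.Agent.Lib.Helper89Hs

/-- **Orbit** (PURE MATHLIB). `G` a group of automorphisms of the finite group `A`, `T ≤ G` of index prime to `p`, `Z ≤ A` fixed
pointwise by `T`, such that `T` is transitive on every coset `a Z`, `a ∉ Z`. If `Z` is not `G`-invariant, then a `G`-invariant
`p`-subgroup `Q ≤ Z` is trivial.
Proof. Let `O` be the `G`-orbit of `z₀`. (1) `O * Q ⊆ O`: let `a = h z₀ ∈ O`, `u ∈ Q`; put `k = h * g⁻¹`, `a' = k⁻¹ a = g z₀ ∉ Z`,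
`u' = k⁻¹ u ∈ Q ≤ Z`; choose `t ∈ T` with `t a' = a' * u'`; then `(k * t * k⁻¹) a = a * u`. (2) So `Q` acts freely on `O` by right
multiplication and `Nat.card Q ∣ Nat.card O` (`O` is a union of left cosets of `Q`). (3) `T ≤ Stab_G(z₀)`, so
`Nat.card O = [G : Stab_G(z₀)]` divides `T.relIndex G` (`MulAction.index_stabilizer`/`card_orbit_mul_card_stabilizer_eq_card_group`,
`Subgroup.relIndex_mul_relIndex`). (4) If `Q ≠ ⊥` then `p ∣ Nat.card Q` (`IsPGroup.exists_card_eq`): contradiction. -/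
theorem orbit_lemma {A : Type*} [Group A] [Finite A] {p : ℕ} [Fact p.Prime]
    (G T : Subgroup (MulAut A)) (hTG : T ≤ G) (hidx : ¬ p ∣ T.relIndex G) (Z Q : Subgroup A)
    (hQZ : Q ≤ Z) (hQp : IsPGroup p Q) (hQ : ∀ g ∈ G, ∀ u ∈ Q, g u ∈ Q)
    (hfix : ∀ t ∈ T, ∀ z ∈ Z, t z = z) (htr : ∀ a, a ∉ Z → ∀ z ∈ Z, ∃ t ∈ T, t a = a * z)
    (g : MulAut A) (hg : g ∈ G) (z₀ : A) (hz₀ : z₀ ∈ Z) (hgz : g z₀ ∉ Z) : Q = ⊥ := by
  classical
  by_contra hne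
  have hO : ∀ a ∈ MulAction.orbit ↥G z₀, ∀ u ∈ Q, a * u ∈ MulAction.orbit ↥G z₀ := by
    rintro a ⟨h, rfl⟩ u hu
    obtain ⟨t, ht, hta⟩ := htr (g z₀) hgz ((((h : MulAut A) * g⁻¹)⁻¹) u)
      (hQZ (hQ _ (G.inv_mem (G.mul_mem h.2 (G.inv_mem hg))) u hu))
    refine ⟨⟨(h : MulAut A) * g⁻¹ * t * g,
      G.mul_mem (G.mul_mem (G.mul_mem h.2 (G.inv_mem hg)) (hTG ht)) hg⟩, ?_⟩
    show ((h : MulAut A) * g⁻¹ * t * g) z₀ = (h : MulAut A) z₀ * u
    simp only [MulAut.mul_apply]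
    rw [hta, map_mul, map_mul]
    simp
  let _ : MulAction ↥Q ↥(MulAction.orbit ↥G z₀) :=
    { smul := fun q a => ⟨a.1 * (q.1)⁻¹, hO a.1 a.2 _ (Q.inv_mem q.2)⟩
      one_smul := fun a => Subtype.ext (by
        show a.1 * ((1 : ↥Q) : A)⁻¹ = a.1
        simp)
      mul_smul := fun q r a => Subtype.ext (by
        show a.1 * ((q * r : ↥Q) : A)⁻¹ = a.1 * (r : A)⁻¹ * (q : A)⁻¹
        simp [mul_assoc]) }
  have h1 := hQp.card_modEq_card_fixedPoints ↥(MulAction.orbit ↥G z₀)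
  have h2 : IsEmpty (MulAction.fixedPoints ↥Q ↥(MulAction.orbit ↥G z₀)) := by
    constructor
    rintro ⟨a, ha⟩
    apply hne
    rw [Subgroup.eq_bot_iff_forall]
    intro u hu
    have h3 := congrArg Subtype.val (ha ⟨u, hu⟩)
    have h4 : a.1 * u⁻¹ = a.1 := h3
    simpa using h4
  rw [@Nat.card_of_isEmpty _ h2] at h1
  have h5 : p ∣ Nat.card ↥(MulAction.orbit ↥G z₀) := (Nat.modEq_zero_iff_dvd).mp h1
  apply hidx
  refine h5.trans ?_
  have h6 : (MulAction.stabilizer ↥G z₀).index = Nat.card ↥(MulAction.orbit ↥G z₀) := by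
    rw [MulAction.index_stabilizer]
    rfl
  rw [← h6]
  apply Subgroup.index_dvd_of_le
  intro t ht
  rw [Subgroup.mem_subgroupOf] at ht
  rw [MulAction.mem_stabilizer_iff]
  exact hfix _ ht z₀ hz₀

end Cfsg.Agent.Lib.Helper89Hs
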