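import Mathlib
import Cfsg.Agent.S5090

set_option autoImplicit false

namespace Cfsg.Agent.Lib.Helper89Hs

universe u

/-- **Cons.** A saturated fusion system with a normal centric subgroup is realizable (model theorem `Cfsg.Agent.S5090.result`; unfold
`IsConstrained`, `IsModel`, `IsRealizable`). -/
theorem realizable_of_normal_centric {Ω : Type u} [Group Ω] {S : Subgroup Ω} [Finite S] {p : ℕ}
    [Fact p.Prime] (hS : IsPGroup p S) {F : Cfsg.FusionSystem S} (hF : F.IsSaturated p)
    {Q : Subgroup Ω} (hn : F.IsNormal Q) (hc : F.IsCentric Q) : F.IsRealizable p := by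
  obtain ⟨G, _, ι, hfin, hr, hT, -⟩ := Cfsg.Agent.S5090.result p hS F ⟨hF, Q, hn, hc⟩
  exact ⟨G, _, hfin, ι, hr, hT⟩

end Cfsg.Agent.Lib.Helper89Hs
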