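import Mathlib
import Cfsg.Agent.Lib.Helper89HsDefs
import Cfsg.Agent.Lib.Helper50Syl

set_option autoImplicit false

namespace Cfsg.Agent.Lib.Helper89Hs

variable {Ω : Type*} [Group Ω] {K : Type*} [Field K] {S : Subgroup Ω} {p : ℕ}

/-- the upper unitriangular matrix with entries `a, b, c` -/
def uMat (a b c : K) : Matrix.SpecialLinearGroup (Fin 3) K :=
  ⟨!![1, a, c; 0, 1, b; 0, 0, 1], by simp [Matrix.det_fin_three]⟩

theorem uMat_mul (a b c a' b' c' : K) :
    uMat a b c * uMat a' b' c' = uMat (a + a') (b + b') (c + c' + a * b') := by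
  apply Subtype.ext
  rw [Matrix.SpecialLinearGroup.coe_mul]
  show !![1, a, c; 0, 1, b; 0, 0, 1] * !![1, a', c'; 0, 1, b'; 0, 0, 1]
    = !![1, a + a', c + c' + a * b'; 0, 1, b + b'; 0, 0, 1]
  ext i j
  fin_cases i <;> fin_cases j <;> simp [Matrix.mul_apply, Fin.sum_univ_three] <;> ring

theorem uMat_mem [Finite K] (a b c : K) : uMat a b c ∈ Helper50Syl.U K (1 : Equiv.Perm (Fin 3)) := by
  rw [Helper50Syl.mem_U]
  refine ⟨fun i j hij => ?_, fun i => ?_⟩
  · have hij' : j < i := hij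
    fin_cases i <;> fin_cases j <;> first | rfl | (exfalso; revert hij'; decide)
  · fin_cases i <;> rfl

theorem eq_uMat [Finite K] (m : Matrix.SpecialLinearGroup (Fin 3) K)
    (hm : m ∈ Helper50Syl.U K (1 : Equiv.Perm (Fin 3))) : uMat (m 0 1) (m 1 2) (m 0 2) = m := by
  rw [Helper50Syl.mem_U] at hm
  obtain ⟨h1, h2⟩ := hm
  apply Subtype.ext
  ext i j
  fin_cases i <;> fin_cases j
  · exact (h2 0).symm
  · rfl
  · rfl
  · exact (h1 1 0 (by decide)).symm
  · exact (h2 1).symm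
  · rfl
  · exact (h1 2 0 (by decide)).symm
  · exact (h1 2 1 (by decide)).symm
  · exact (h2 2).symm

theorem uMat_inj (a b c a' b' c' : K) (h : uMat a b c = uMat a' b' c') :
    a = a' ∧ b = b' ∧ c = c' := by
  have h1 := congrArg (fun m : Matrix.SpecialLinearGroup (Fin 3) K => m 0 1) h
  have h2 := congrArg (fun m : Matrix.SpecialLinearGroup (Fin 3) K => m 1 2) h
  have h3 := congrArg (fun m : Matrix.SpecialLinearGroup (Fin 3) K => m 0 2) h
  exact ⟨h1, h2, h3⟩

/-- **Coord.** A group isomorphic to a Sylow `p`-subgroup of `SL₃(K)` (`K` finite of characteristic `p`) has Heisenberg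
coordinates.
Sketch: `Helper50Syl.exists_sylow p (e := 1)` (read its statement) gives a Sylow `p`-subgroup `T₀` equal to the group `U` of upper
(or lower) unitriangular matrices (`Helper50Syl.mem_U`). All Sylow `p`-subgroups are conjugate (`Sylow.equiv` /
`MulAction.exists_smul_eq`, `Sylow.equivSMul`), so there is `e' : S ≃* T₀`. Put `u a b c := !![1, a, c; 0, 1, b; 0, 0, 1]` (transpose it if
`U` is lower triangular, and then swap the roles so that the multiplication law below holds), an element of `T₀`, and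
`φ a b c := ((e'.symm ⟨u a b c, _⟩ : S) : Ω)`.
`u a b c * u a' b' c' = u (a + a') (b + b') (c + c' + a * b')` by `Matrix.mul_fin_three`/`ext i j; fin_cases i <;> fin_cases j <;> simp`. -/
theorem exists_heis [Fintype K] [Fact p.Prime] [CharP K p]
    (T : Sylow p (Matrix.SpecialLinearGroup (Fin 3) K))
    (e : ↥S ≃* ↥(T : Subgroup (Matrix.SpecialLinearGroup (Fin 3) K))) :
    ∃ φ : K → K → K → Ω, IsHeis φ S := by
  obtain ⟨P, hP⟩ := Helper50Syl.exists_sylow (F := K) p (1 : Equiv.Perm (Fin 3))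
  have hu : ∀ a b c : K, uMat a b c ∈ (P : Subgroup (Matrix.SpecialLinearGroup (Fin 3) K)) := by
    intro a b c
    rw [hP]
    exact uMat_mem a b c
  let e' : ↥S ≃* ↥(P : Subgroup (Matrix.SpecialLinearGroup (Fin 3) K)) := e.trans (Sylow.equiv T P)
  refine ⟨fun a b c => ((e'.symm ⟨uMat a b c, hu a b c⟩ : ↥S) : Ω), ?_, ?_, ?_, ?_⟩
  · intro a b c
    exact (e'.symm ⟨uMat a b c, hu a b c⟩).2
  · intro s hs
    have hm : ((e' ⟨s, hs⟩ : ↥(P : Subgroup (Matrix.SpecialLinearGroup (Fin 3) K))) :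
        Matrix.SpecialLinearGroup (Fin 3) K) ∈ Helper50Syl.U K (1 : Equiv.Perm (Fin 3)) := by
      rw [← hP]
      exact (e' ⟨s, hs⟩).2
    obtain ⟨m, hmdef⟩ : ∃ m : ↥(P : Subgroup (Matrix.SpecialLinearGroup (Fin 3) K)),
        m = e' ⟨s, hs⟩ := ⟨_, rfl⟩
    rw [← hmdef] at hm
    refine ⟨m.1 0 1, m.1 1 2, m.1 0 2, ?_⟩
    have h1 : (⟨uMat (m.1 0 1) (m.1 1 2) (m.1 0 2), hu _ _ _⟩ :
        ↥(P : Subgroup (Matrix.SpecialLinearGroup (Fin 3) K))) = m := Subtype.ext (eq_uMat _ hm)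
    rw [h1, hmdef, MulEquiv.symm_apply_apply]
  · intro a b c a' b' c' h
    have h1 := e'.symm.injective (Subtype.ext h)
    exact uMat_inj _ _ _ _ _ _ (congrArg Subtype.val h1)
  · intro a b c a' b' c'
    rw [← Subgroup.coe_mul, ← map_mul]
    congr 2
    exact Subtype.ext (uMat_mul a b c a' b' c')

end Cfsg.Agent.Lib.Helper89Hs
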