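import Mathlib
import Cfsg.Agent.S0063

set_option autoImplicit false
set_option linter.unusedSectionVars false
set_option linter.unusedVariables false

/-! `p`-groups of maximal class: the centre and the second centre (helper89). -/

namespace Cfsg.Agent.Lib.Helper89MaxCl

variable {G : Type*} [Group G] [Finite G] {p n : ℕ} [hp : Fact p.Prime]

theorem card_center_eq (hG : Nat.card G = p ^ n) (hn : 3 ≤ n)
    (hc : n - 1 ≤ Group.nilpotencyClass G) : Nat.card (Subgroup.center G) = p := by
  have hpp := hp.out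
  have hpG : IsPGroup p G := IsPGroup.of_card hG
  have hnil : Group.IsNilpotent G := hpG.isNilpotent
  obtain ⟨k, hk0, hk⟩ := IsPGroup.card_center_eq_prime_pow hG (by omega)
  have hmul := (Subgroup.center G).card_mul_index
  rw [hk, hG] at hmul
  have hkm : k ≤ n := by
    have h1 : p ^ k ∣ p ^ n := Dvd.intro _ hmul
    exact (Nat.pow_dvd_pow_iff_le_right hpp.one_lt).1 h1
  have hidx : Nat.card (G ⧸ Subgroup.center G) = p ^ (n - k) := by
    have h2 : p ^ k * (Subgroup.center G).index = p ^ k * p ^ (n - k) := by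
      rw [hmul, ← pow_add]; congr 1; omega
    exact Nat.eq_of_mul_eq_mul_left (pow_pos hpp.pos k) h2
  have hq := Group.nilpotencyClass_quotient_center (G := G)
  by_cases hj : 1 < n - k
  · have h3 := Cfsg.Agent.S0063.result p (n - k) hidx hj
    have : k = 1 := by omega
    rw [hk, this, pow_one]
  · exfalso
    have hcyc : IsCyclic (G ⧸ Subgroup.center G) := by
      apply isCyclic_of_card_dvd_prime (p := p)
      rw [hidx]
      have : n - k = 0 ∨ n - k = 1 := by omega
      rcases this with h | h <;> rw [h] <;> simp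
    have hcomm : IsMulCommutative G := isMulCommutative_of_isCyclic_quotient_center_self G
    have := Group.IsNilpotent.nilpotencyClass_le_one_iff.2 hcomm
    omega

theorem card_quot (hG : Nat.card G = p ^ n) (hn : 3 ≤ n)
    (hc : n - 1 ≤ Group.nilpotencyClass G) :
    Nat.card (G ⧸ Subgroup.center G) = p ^ (n - 1) := by
  have hpp := hp.out
  have hmul := (Subgroup.center G).card_mul_index
  rw [card_center_eq hG hn hc, hG] at hmul
  have e : p ^ n = p * p ^ (n - 1) := by
    rw [← pow_succ']; congr 1; omega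
  rw [e] at hmul
  exact Nat.eq_of_mul_eq_mul_left hpp.pos hmul

theorem card_center_quot (hG : Nat.card G = p ^ n) (hn : 4 ≤ n)
    (hc : n - 1 ≤ Group.nilpotencyClass G) :
    Nat.card (Subgroup.center (G ⧸ Subgroup.center G)) = p := by
  apply card_center_eq (card_quot hG (by omega) hc) (by omega)
  rw [Group.nilpotencyClass_quotient_center]
  omega

theorem mem_Z2_iff {t : G} : t ∈ Subgroup.upperCentralSeries G 2 ↔
    ∀ s : G, t * s * t⁻¹ * s⁻¹ ∈ Subgroup.center G := by
  rw [Subgroup.mem_upperCentralSeries_succ_iff, Subgroup.upperCentralSeries_one]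
  rfl

theorem mk_mem_center {t : G} (ht : t ∈ Subgroup.upperCentralSeries G 2) :
    (QuotientGroup.mk t : G ⧸ Subgroup.center G) ∈ Subgroup.center (G ⧸ Subgroup.center G) := by
  rw [Subgroup.mem_center_iff]
  intro y
  obtain ⟨s, rfl⟩ := QuotientGroup.mk_surjective y
  have h1 := mem_Z2_iff.1 ht s
  rw [← QuotientGroup.mk_mul, ← QuotientGroup.mk_mul]
  apply QuotientGroup.eq.2
  have e : (s * t)⁻¹ * (t * s) = s⁻¹ * (t⁻¹ * (t * s * t⁻¹ * s⁻¹) * t) * s := by group
  rw [e]
  have h2 : t⁻¹ * (t * s * t⁻¹ * s⁻¹) * t = t * s * t⁻¹ * s⁻¹ := by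
    rw [mul_assoc, ← Subgroup.mem_center_iff.1 h1 t, inv_mul_cancel_left]
  rw [h2]
  have h3 : s⁻¹ * (t * s * t⁻¹ * s⁻¹) * s = t * s * t⁻¹ * s⁻¹ := by
    rw [mul_assoc, ← Subgroup.mem_center_iff.1 h1 s, inv_mul_cancel_left]
  rw [h3]
  exact h1

theorem Z2_decomp (hG : Nat.card G = p ^ n) (hn : 4 ≤ n)
    (hc : n - 1 ≤ Group.nilpotencyClass G) {t : G} (ht : t ∈ Subgroup.upperCentralSeries G 2)
    (htZ : t ∉ Subgroup.center G) {u : G} (hu : u ∈ Subgroup.upperCentralSeries G 2) :
    ∃ k : ℕ, ∃ ζ ∈ Subgroup.center G, u = t ^ k * ζ := by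
  have hcard := card_center_quot hG hn hc
  set T : Subgroup.center (G ⧸ Subgroup.center G) := ⟨_, mk_mem_center ht⟩ with hT
  have hT1 : T ≠ 1 := by
    intro hh
    apply htZ
    have := congrArg Subtype.val hh
    exact (QuotientGroup.eq_one_iff t).1 this
  have htop := zpowers_eq_top_of_prime_card hcard hT1
  have hU : (⟨_, mk_mem_center hu⟩ : Subgroup.center (G ⧸ Subgroup.center G)) ∈
      Subgroup.zpowers T := by
    rw [htop]; trivial
  obtain ⟨k, hk⟩ := (mem_powers_iff_mem_zpowers).2 hU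
  have hk' : (QuotientGroup.mk t : G ⧸ Subgroup.center G) ^ k = QuotientGroup.mk u :=
    congrArg Subtype.val hk
  rw [← QuotientGroup.mk_pow] at hk'
  refine ⟨k, (t ^ k)⁻¹ * u, QuotientGroup.eq.1 hk', ?_⟩
  group

theorem index_centralizer (hG : Nat.card G = p ^ n) (hn : 4 ≤ n)
    (hc : n - 1 ≤ Group.nilpotencyClass G) {t : G} (ht : t ∈ Subgroup.upperCentralSeries G 2)
    (htZ : t ∉ Subgroup.center G) :
    (Subgroup.centralizer ((Subgroup.upperCentralSeries G 2 : Subgroup G) : Set G)).index = p := by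
  have hpp := hp.out
  have hcard := card_center_eq hG (by omega) hc
  have hcen := mem_Z2_iff.1 ht
  let ψ : G →* Subgroup.center G := MonoidHom.mk' (fun s => ⟨t * s * t⁻¹ * s⁻¹, hcen s⟩) (by
    intro a b
    apply Subtype.ext
    show t * (a * b) * t⁻¹ * (a * b)⁻¹ = (t * a * t⁻¹ * a⁻¹) * (t * b * t⁻¹ * b⁻¹)
    have e : t * (a * b) * t⁻¹ * (a * b)⁻¹ = t * a * t⁻¹ * ((t * b * t⁻¹ * b⁻¹) * a⁻¹) := by group
    rw [e, ← Subgroup.mem_center_iff.1 (hcen b) a⁻¹]
    group)
  have hker : ψ.ker = Subgroup.centralizer ((Subgroup.upperCentralSeries G 2 : Subgroup G) : Set G) := by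
    ext s
    rw [MonoidHom.mem_ker, Subgroup.mem_centralizer_iff]
    constructor
    · intro e u hu
      have e' : t * s * t⁻¹ * s⁻¹ = 1 := congrArg Subtype.val e
      have e2 : t * s = s * t := by
        have := mul_inv_eq_one.1 e'
        exact mul_inv_eq_iff_eq_mul.1 this
      obtain ⟨k, ζ, hζ, rfl⟩ := Z2_decomp hG hn hc ht htZ hu
      have e3 : Commute (t ^ k) s := (show Commute t s from e2).pow_left k
      rw [mul_assoc, ← Subgroup.mem_center_iff.1 hζ s, ← mul_assoc, e3.eq, mul_assoc]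
    · intro h
      apply Subtype.ext
      show t * s * t⁻¹ * s⁻¹ = 1
      rw [h t ht]
      group
  rw [← hker, Subgroup.index_ker]
  have h1 : Nat.card ψ.range ∣ p := by
    rw [← hcard]
    exact Subgroup.card_subgroup_dvd_card _
  rcases (Nat.dvd_prime hpp).1 h1 with h | h
  · exfalso
    apply htZ
    rw [Subgroup.card_eq_one] at h
    rw [Subgroup.mem_center_iff]
    intro s
    have h2 : ψ s ∈ ψ.range := ⟨s, rfl⟩
    rw [h, Subgroup.mem_bot] at h2
    have e' : t * s * t⁻¹ * s⁻¹ = 1 := congrArg Subtype.val h2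
    have := mul_inv_eq_one.1 e'
    exact (mul_inv_eq_iff_eq_mul.1 this).symm
  · exact h

end Cfsg.Agent.Lib.Helper89MaxCl
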