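import Cfsg.Agent.Lib.Helper89PCube
import Cfsg.Agent.Lib.Helper11SmallExp
import Cfsg.Agent.Lib.Helper3PGroup
import Cfsg.Agent.Lib.Helper41Dic

set_option autoImplicit false
universe u
open Cfsg

namespace Cfsg.Agent.Lib.Helper89PCube2

open Cfsg.Agent.Lib.Helper89PCube

/-- the hypothesis: no characteristic chain `1 < A₁ < A₂ < P` -/
def NoChain (p : ℕ) (P : Type*) [Group P] : Prop :=
  ∀ A₁ A₂ : Subgroup P, A₁ ≤ A₂ → Nat.card A₁ = p → Nat.card A₂ = p ^ 2 →
    (∀ γ : MulAut P, ∀ x ∈ A₁, γ x ∈ A₁) → (∀ γ : MulAut P, ∀ x ∈ A₂, γ x ∈ A₂) → False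

theorem exp_of_pow_hom {P : Type*} [Group P] {p : ℕ} [hp : Fact p.Prime]
    (hcard : Nat.card P = p ^ 3) (hno : NoChain p P) (φ : P →* P) (hφ : ∀ x, φ x = x ^ p) :
    ∀ x : P, x ^ p = 1 := by
  have hpp := hp.out
  have hfin : Finite P := Nat.finite_of_card_ne_zero (by rw [hcard]; exact pow_ne_zero _ hpp.ne_zero)
  have hKc : ∀ γ : MulAut P, ∀ x ∈ φ.ker, γ x ∈ φ.ker := by
    intro γ x hx
    rw [MonoidHom.mem_ker, hφ] at hx ⊢
    rw [← map_pow, hx, map_one]
  have hRc : ∀ γ : MulAut P, ∀ x ∈ φ.range, γ x ∈ φ.range := by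
    rintro γ _ ⟨y, rfl⟩
    exact ⟨γ y, by rw [hφ, hφ, map_pow]⟩
  have hmul : Nat.card φ.ker * Nat.card φ.range = p ^ 3 := by
    rw [← Subgroup.index_ker, Subgroup.card_mul_index, hcard]
  obtain ⟨k, hk, hk'⟩ := (Nat.dvd_prime_pow hpp).1 (Dvd.intro_left _ hmul : Nat.card φ.range ∣ p ^ 3)
  have hcauchy : ∀ R : Subgroup P, p ∣ Nat.card R → ∃ r ∈ R, r ≠ 1 ∧ r ∈ φ.ker := by
    intro R hR
    obtain ⟨r, hr⟩ := exists_prime_orderOf_dvd_card' (G := R) p hR
    refine ⟨r, r.2, fun h => ?_, ?_⟩
    · have : r = 1 := Subtype.ext h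
      rw [this, orderOf_one] at hr
      exact hpp.one_lt.ne hr
    · rw [MonoidHom.mem_ker, hφ]
      have := pow_orderOf_eq_one r
      rw [hr] at this
      exact congrArg Subtype.val this
  have hpos : 0 < p := hpp.pos
  interval_cases k
  · -- range trivial
    intro x
    rw [pow_zero] at hk'
    have := (Nat.card_eq_one_iff_unique.1 hk').1
    have h1 : (⟨φ x, ⟨x, rfl⟩⟩ : φ.range) = 1 := Subsingleton.elim _ _
    rw [← hφ]
    exact congrArg Subtype.val h1
  · exfalso
    rw [pow_one] at hk'
    have hK : Nat.card φ.ker = p ^ 2 := by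
      rw [hk'] at hmul
      have e : p ^ 3 = p ^ 2 * p := by ring
      rw [e] at hmul
      exact Nat.eq_of_mul_eq_mul_right hpos hmul
    refine hno φ.range φ.ker ?_ hk' hK hRc hKc
    intro r hr
    rw [MonoidHom.mem_ker, hφ]
    have h1 : (⟨r, hr⟩ : φ.range) ^ p = 1 := by
      rw [← hk']; exact pow_card_eq_one'
    exact congrArg Subtype.val h1
  · exfalso
    have hK : Nat.card φ.ker = p := by
      rw [hk'] at hmul
      have e : p ^ 3 = p * p ^ 2 := by ring
      rw [e] at hmul
      exact Nat.eq_of_mul_eq_mul_right (by positivity) hmul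
    refine hno φ.ker φ.range ?_ hK hk' hKc hRc
    obtain ⟨r, hrR, hr1, hrK⟩ := hcauchy φ.range (by rw [hk']; exact dvd_pow_self p (by norm_num))
    have hz : Subgroup.zpowers r = φ.ker := by
      apply Subgroup.eq_of_le_of_card_ge (by rwa [Subgroup.zpowers_le])
      rw [hK, Nat.card_zpowers]
      have h1 : orderOf r ∣ p := by
        rw [orderOf_dvd_iff_pow_eq_one, ← hφ]; exact hrK
      rcases (Nat.dvd_prime hpp).1 h1 with h | h
      · exact absurd (orderOf_eq_one_iff.1 h) hr1
      · exact h.ge
    rw [← hz, Subgroup.zpowers_le]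
    exact hrR
  · exfalso
    have hK : Nat.card φ.ker = 1 := by
      rw [hk'] at hmul
      have : Nat.card φ.ker * p ^ 3 = 1 * p ^ 3 := by rw [hmul, one_mul]
      exact Nat.eq_of_mul_eq_mul_right (by positivity) this
    obtain ⟨r, -, hr1, hrK⟩ := hcauchy ⊤ (by
      rw [Subgroup.card_top, hcard]; exact dvd_pow_self p (by norm_num))
    have := (Nat.card_eq_one_iff_unique.1 hK).1
    have h1 : (⟨r, hrK⟩ : φ.ker) = 1 := Subsingleton.elim _ _
    exact hr1 (congrArg Subtype.val h1)

theorem center_cases {P : Type*} [Group P] (hZ : Nat.card (Subgroup.center P) = 2) {z : P}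
    (hz : z ∈ Subgroup.center P) (hz1 : z ≠ 1) : ∀ c ∈ Subgroup.center P, c = 1 ∨ c = z := by
  intro c hc
  by_contra hcon
  push Not at hcon
  have hfin : Finite (Subgroup.center P) := Nat.finite_of_card_ne_zero (by rw [hZ]; norm_num)
  have h3 : 3 ≤ Nat.card (Subgroup.center P) := by
    have hinj : Function.Injective (fun i : Fin 3 => (![⟨1, Subgroup.one_mem _⟩, ⟨z, hz⟩, ⟨c, hc⟩] i : Subgroup.center P)) := by
      intro i j hij
      fin_cases i <;> fin_cases j <;> simp_all [Subtype.ext_iff]
    have := Nat.card_le_card_of_injective _ hinj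
    simpa using this
  omega

/-- in a nonabelian group of order 8, an element outside a cyclic subgroup of order 4 inverts it -/
theorem inverts {P : Type*} [Group P] (hcard : Nat.card P = 2 ^ 3)
    (hE : Cfsg.IsExtraspecial 2 P) {a y : P} (ha : orderOf a = 4) (hy : y ∉ Subgroup.zpowers a) :
    y * a * y⁻¹ = a⁻¹ := by
  have hfin : Finite P := Nat.finite_of_card_ne_zero (by rw [hcard]; norm_num)
  obtain ⟨⟨hP, hfr, hcomm⟩, hZ⟩ := hE
  have : Fact (Nat.Prime 2) := ⟨Nat.prime_two⟩
  have ha2 : a ^ 2 ∈ Subgroup.center P := by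
    rw [← hfr]; exact Cfsg.Agent.Lib.Helper3PGroup.pow_mem_frattini hP a
  have ha2' : a ^ 2 ≠ 1 := by
    intro h
    have := orderOf_dvd_of_pow_eq_one h
    rw [ha] at this
    omega
  have hc : y * a * y⁻¹ * a⁻¹ ∈ Subgroup.center P := by
    rw [← hcomm]
    exact Subgroup.commutator_mem_commutator (Subgroup.mem_top y) (Subgroup.mem_top a)
  -- the centre is `{1, a ^ 2}`
  have hcen : ∀ c ∈ Subgroup.center P, c = 1 ∨ c = a ^ 2 := by
    intro c hc
    by_contra hcon
    push Not at hcon
    have h3 : 3 ≤ Nat.card (Subgroup.center P) := by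
      have hinj : Function.Injective (fun i : Fin 3 => (![⟨1, Subgroup.one_mem _⟩, ⟨a ^ 2, ha2⟩, ⟨c, hc⟩] i : Subgroup.center P)) := by
        intro i j hij
        fin_cases i <;> fin_cases j <;> simp_all [Subtype.ext_iff]
      have := Nat.card_le_card_of_injective _ hinj
      simpa using this
    omega
  rcases hcen _ hc with h | h
  · exfalso
    -- `a` commutes with `y`, so the centralizer of `a` is everything
    have hcomm' : y * a = a * y := by
      have : y * a * y⁻¹ = a := by
        have := congrArg (· * a) h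
        simpa using this
      calc y * a = y * a * y⁻¹ * y := by group
        _ = a * y := by rw [this]
    have hle : Subgroup.zpowers a < Subgroup.centralizer {a} := by
      refine lt_of_le_of_ne ?_ ?_
      · rw [Subgroup.zpowers_le]
        exact Subgroup.mem_centralizer_singleton_iff.2 rfl
      · intro e
        apply hy
        rw [e]
        exact Subgroup.mem_centralizer_singleton_iff.2 hcomm'
    have h4 : Nat.card (Subgroup.zpowers a) = 4 := by rw [Nat.card_zpowers, ha]
    have h5 := Subgroup.card_dvd_of_le hle.le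
    have h6 := Subgroup.card_subgroup_dvd_card (Subgroup.centralizer {a})
    have h7 : Nat.card (Subgroup.zpowers a) < Nat.card (Subgroup.centralizer {a}) := by
      by_contra hge
      exact hle.ne (Subgroup.eq_of_le_of_card_ge hle.le (not_lt.1 hge))
    rw [h4] at h5 h7
    rw [hcard] at h6
    have h8 : Nat.card (Subgroup.centralizer {a}) = 8 := by
      have h9 : Nat.card (Subgroup.centralizer {a}) ≤ 8 := Nat.le_of_dvd (by norm_num) h6
      obtain ⟨m, hm⟩ := h5
      omega
    have h9 : Subgroup.centralizer {a} = ⊤ :=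
      Subgroup.eq_top_of_card_eq _ (by rw [h8, hcard]; norm_num)
    have h10 : a ∈ Subgroup.center P := by
      rw [Subgroup.mem_center_iff]
      intro g
      have : g ∈ Subgroup.centralizer {a} := h9 ▸ Subgroup.mem_top g
      exact Subgroup.mem_centralizer_singleton_iff.1 this
    rcases hcen a h10 with h11 | h11
    · rw [h11, orderOf_one] at ha; omega
    · have : a = 1 := by
        have h12 : a * 1 = a * a := by rw [mul_one, ← pow_two]; exact h11
        exact (mul_left_cancel h12).symm
      rw [this, orderOf_one] at ha; omega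
  · have h4 : a ^ 4 = 1 := by rw [← ha]; exact pow_orderOf_eq_one a
    have : y * a * y⁻¹ = a ^ 2 * a := by
      have := congrArg (· * a) h
      simpa using this
    rw [this, eq_inv_iff_mul_eq_one]
    calc a ^ 2 * a * a = a ^ 4 := by group
      _ = 1 := h4

theorem struct {P : Type*} [Group P] {p : ℕ} [hp : Fact p.Prime]
    (hcard : Nat.card P = p ^ 3) (hno : NoChain p P) :
    ((∀ a b : P, a * b = b * a) ∧ ∀ x : P, x ^ p = 1) ∨
      (Odd p ∧ Cfsg.IsExtraspecial p P ∧ ∀ x : P, x ^ p = 1) ∨
      (p = 2 ∧ Nonempty (P ≃* QuaternionGroup 2)) := by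
  have hpp := hp.out
  have hfin : Finite P := Nat.finite_of_card_ne_zero (by rw [hcard]; exact pow_ne_zero _ hpp.ne_zero)
  by_cases hab : ∀ a b : P, a * b = b * a
  · left
    refine ⟨hab, ?_⟩
    exact exp_of_pow_hom hcard hno
      { toFun := fun x => x ^ p
        map_one' := one_pow p
        map_mul' := fun x y => (show Commute x y from hab x y).mul_pow p } (fun x => rfl)
  right
  push Not at hab
  have hE := isExtraspecial_of_card_cube hcard hab
  obtain ⟨⟨hP, hfr, hcomm⟩, hZ⟩ := id hE
  rcases hpp.eq_two_or_odd' with h2 | hodd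
  · right
    subst h2
    refine ⟨rfl, ?_⟩
    have hsq : ∀ x : P, x ^ 2 ∈ Subgroup.center P := fun x => by
      rw [← hfr]; exact Cfsg.Agent.Lib.Helper3PGroup.pow_mem_frattini hP x
    have hZ2 : ∀ c ∈ Subgroup.center P, c ^ 2 = 1 := by
      intro c hc
      have h1 : (⟨c, hc⟩ : Subgroup.center P) ^ 2 = 1 := by
        rw [← hZ]; exact pow_card_eq_one'
      exact congrArg Subtype.val h1
    have hord : ∀ a : P, a ^ 2 ≠ 1 → orderOf a = 4 := by
      intro a ha
      have := orderOf_eq_prime_pow (p := 2) (n := 1) (x := a) (by simpa using ha)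
        (by
          have := hZ2 _ (hsq a)
          rw [← pow_mul] at this
          simpa using this)
      simpa using this
    -- an element of order four
    obtain ⟨a, ha⟩ : ∃ a : P, a ^ 2 ≠ 1 := by
      by_contra hcon
      push Not at hcon
      obtain ⟨x, y, hxy⟩ := hab
      apply hxy
      have h1 := hcon (x * y)
      have hx := hcon x
      have hy := hcon y
      have hx' : x⁻¹ = x := by rw [inv_eq_iff_mul_eq_one, ← pow_two]; exact hx
      have hy' : y⁻¹ = y := by rw [inv_eq_iff_mul_eq_one, ← pow_two]; exact hy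
      have h2 : (x * y)⁻¹ = x * y := by rw [inv_eq_iff_mul_eq_one, ← pow_two]; exact h1
      rw [mul_inv_rev, hx', hy'] at h2
      exact h2.symm
    have hoa := hord a ha
    have h4 : Nat.card (Subgroup.zpowers a) = 4 := by rw [Nat.card_zpowers, hoa]
    have hidx : (Subgroup.zpowers a).index = 2 := by
      have := (Subgroup.zpowers a).card_mul_index
      rw [h4, hcard] at this
      omega
    have hcen : ∀ c ∈ Subgroup.center P, c ∈ Subgroup.zpowers a := by
      intro c hc
      by_contra hcz
      have h1 := inverts hcard hE hoa hcz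
      have h2 : c * a * c⁻¹ = a := by
        rw [← (Subgroup.mem_center_iff.1 hc a)]; group
      rw [h2] at h1
      apply ha
      rw [pow_two]
      exact eq_inv_iff_mul_eq_one.1 h1
    by_cases huniq : ∀ x : P, x ^ 2 = 1 → x ∈ Subgroup.center P
    · -- quaternion
      obtain ⟨b, hb⟩ : ∃ b : P, b ∉ Subgroup.zpowers a := by
        by_contra hcon
        push Not at hcon
        have : Subgroup.zpowers a = ⊤ := (Subgroup.eq_top_iff' _).2 hcon
        rw [this, Subgroup.index_top] at hidx
        omega
      have hb2 : b ^ 2 ≠ 1 := fun h => hb (hcen b (huniq b h))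
      have hab2 : b ^ 2 = a ^ 2 := by
        -- both are the nontrivial central element
        rcases center_cases hZ (hsq a) ha _ (hsq b) with h | h
        · exact absurd h hb2
        · exact h
      obtain ⟨e⟩ := Cfsg.Agent.Lib.Helper41Dic.nonempty_equiv_quaternion 2 (⊤ : Subgroup P) a b
        (Subgroup.mem_top _) (Subgroup.mem_top _) (by rw [hoa]) hab2 (inverts hcard hE hoa hb) hb
        (by rw [Subgroup.card_top, hcard]; norm_num)
      exact ⟨Subgroup.topEquiv.symm.trans e⟩
    · exfalso
      push Not at huniq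
      obtain ⟨t, ht, htc⟩ := huniq
      have ha4 : a ^ 4 = 1 := by rw [← hoa]; exact pow_orderOf_eq_one a
      have htz : t ∉ Subgroup.zpowers a := by
        intro h
        obtain ⟨k, hk⟩ := (Subgroup.mem_zpowers_iff).1 h
        -- `t` commutes with `a`; use the square
        have h1 : (a ^ 2) ^ k = 1 := by
          rw [← zpow_natCast a 2, ← zpow_mul, mul_comm, zpow_mul, hk, zpow_natCast]; exact ht
        rcases Int.even_or_odd k with ⟨m, hm⟩ | ⟨m, hm⟩
        · apply htc
          rw [← hk, hm, ← two_mul, zpow_mul, zpow_ofNat]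
          exact Subgroup.zpow_mem _ (hsq a) m
        · apply ha
          rw [hm, zpow_add, zpow_one, zpow_mul, zpow_ofNat, ← pow_mul] at h1
          norm_num at h1
          rw [ha4, one_zpow, one_mul] at h1
          exact h1
      have hinv := inverts hcard hE hoa htz
      have htinv : t⁻¹ = t := by rw [inv_eq_iff_mul_eq_one, ← pow_two]; exact ht
      have hsub : ∀ x : P, x ^ 2 ≠ 1 → x ∈ Subgroup.zpowers a := by
        intro x hx
        by_contra hxz
        apply hx
        have h1 : t * x ∈ Subgroup.zpowers a :=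
          (Subgroup.mul_mem_iff_of_index_two hidx).2 ⟨fun h => absurd h htz, fun h => absurd h hxz⟩
        obtain ⟨k, hk⟩ := (Subgroup.mem_zpowers_iff).1 h1
        have hx' : x = t * a ^ k := by
          rw [hk, ← mul_assoc, ← pow_two, ht, one_mul]
        have h2 : t * a ^ k * t⁻¹ = (a ^ k)⁻¹ := by
          have := conj_zpow (a := t) (b := a) (i := k)
          rw [← this, hinv, inv_zpow]
        rw [htinv] at h2
        rw [hx', pow_two]
        calc t * a ^ k * (t * a ^ k) = (t * a ^ k * t) * a ^ k := by group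
          _ = 1 := by rw [h2]; group
      have hC : Subgroup.closure {x : P | x ^ 2 ≠ 1} = Subgroup.zpowers a := by
        apply le_antisymm
        · rw [Subgroup.closure_le]
          exact fun x hx => hsub x hx
        · rw [Subgroup.zpowers_le]
          exact Subgroup.subset_closure ha
      refine hno (Subgroup.center P) (Subgroup.closure {x : P | x ^ 2 ≠ 1}) ?_ hZ
        (by rw [hC, h4]; norm_num) ?_ ?_
      · rw [hC]; exact hcen
      · intro γ x hx
        rw [Subgroup.mem_center_iff] at hx ⊢
        intro g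
        have := congrArg γ (hx (γ⁻¹ g))
        rw [map_mul, map_mul, MulAut.apply_inv_self] at this
        exact this
      · intro γ x hx
        have hmap : (Subgroup.closure {x : P | x ^ 2 ≠ 1}).map γ.toMonoidHom ≤
            Subgroup.closure {x : P | x ^ 2 ≠ 1} := by
          rw [MonoidHom.map_closure, Subgroup.closure_le]
          rintro _ ⟨y, hy, rfl⟩
          apply Subgroup.subset_closure
          show (γ y) ^ 2 ≠ 1
          rw [← map_pow]
          intro h
          exact hy ((map_eq_one_iff γ γ.injective).1 h)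
        exact hmap ⟨x, hx, rfl⟩
  · left
    refine ⟨hodd, hE, ?_⟩
    have hmul : ∀ x y : P, (x * y) ^ p = x ^ p * y ^ p := by
      intro x y
      have hc : y * x * y⁻¹ * x⁻¹ ∈ Subgroup.center P := by
        rw [← hcomm]
        exact Subgroup.commutator_mem_commutator (Subgroup.mem_top y) (Subgroup.mem_top x)
      have h1 := Cfsg.Agent.Lib.Helper11SmallExp.mul_pow_of_class_two x y (y * x * y⁻¹ * x⁻¹)
        (by group) ((Subgroup.mem_center_iff.1 hc x).symm) ((Subgroup.mem_center_iff.1 hc y).symm) p
      rw [h1]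
      have h2 : (y * x * y⁻¹ * x⁻¹) ^ p = 1 := by
        have h3 : (⟨_, hc⟩ : Subgroup.center P) ^ p = 1 := by
          rw [← hZ]; exact pow_card_eq_one'
        exact congrArg Subtype.val h3
      have h3 : p ∣ p.choose 2 := hpp.dvd_choose_self (by norm_num) (by
        rcases hodd with ⟨m, hm⟩
        have := hpp.two_le
        omega)
      obtain ⟨m, hm⟩ := h3
      rw [hm, pow_mul, h2, one_pow, mul_one]
    exact exp_of_pow_hom hcard hno
      { toFun := fun x => x ^ p
        map_one' := one_pow p
        map_mul' := hmul } (fun x => rfl)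

end Cfsg.Agent.Lib.Helper89PCube2
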