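import Mathlib
import Cfsg.Prelude.Def_Transfer

set_option autoImplicit false

/-!
# Vocabulary of project RK (S5289: `p ≥ 5`, `S` of `p`-rank 2 is resistant unless `S = p^{1+2}_+`)

Everything is *ambient*: `G` is a group, `S Om Q Z C : Subgroup G`.
* `Rk2 p S`: every elementary abelian subgroup of `S` has order `≤ p ^ 2`.
* `EndOn S β`: the function `β : G → G` induces an injective endomorphism of `S`.
* `Cg Z a b`: `a = b * ζ` with `ζ ∈ Z` (congruence modulo `Z`).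
* `Frame p S Om Q Z`: `Om = Ω₁(S) = {x ∈ S | x ^ p = 1}` has order `p ^ 3`, `Z = Z(Om)` has order `p` and is
  central in `S`, `Om / Z` is abelian, `Z < Q < Om` with `|Q| = p ^ 2`, `[S, Q] ≤ Z`, `[S, Om] ≤ Q`.
* `IsC S Om Z C`: `C = C_S(Om / Z)`.
* `InY S Om c`: `c ∈ C_S(Om)`.
-/

namespace Cfsg.Agent.Lib.Helper89Rk

variable {G : Type*} [Group G]

/-- every elementary abelian subgroup of `S` has order at most `p ^ 2` -/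
def Rk2 (p : ℕ) (S : Subgroup G) : Prop :=
  ∀ E : Subgroup G, E ≤ S → Cfsg.IsElementaryAbelian p E → Nat.card E ≤ p ^ 2

/-- `β` induces an injective endomorphism of `S` -/
structure EndOn (S : Subgroup G) (β : G → G) : Prop where
  mem : ∀ x ∈ S, β x ∈ S
  mul : ∀ x ∈ S, ∀ y ∈ S, β (x * y) = β x * β y
  inj : ∀ x ∈ S, ∀ y ∈ S, β x = β y → x = y

/-- `a ≡ b` modulo `Z` -/
def Cg (Z : Subgroup G) (a b : G) : Prop := ∃ ζ ∈ Z, a = b * ζ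

/-- the structure of `Ω₁(S)` when it has order `p ^ 3` -/
structure Frame (p : ℕ) (S Om Q Z : Subgroup G) : Prop where
  mem_Om : ∀ x, x ∈ Om ↔ x ∈ S ∧ x ^ p = 1
  Z_le : Z ≤ Q
  Q_le : Q ≤ Om
  cardZ : Nat.card Z = p
  cardQ : Nat.card Q = p ^ 2
  cardOm : Nat.card Om = p ^ 3
  mem_Z : ∀ x, x ∈ Z ↔ x ∈ Om ∧ ∀ w ∈ Om, w * x = x * w
  central : ∀ ζ ∈ Z, ∀ s ∈ S, s * ζ = ζ * s
  comm : ∀ a ∈ Om, ∀ b ∈ Om, a * b * a⁻¹ * b⁻¹ ∈ Z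
  actQ : ∀ s ∈ S, ∀ q ∈ Q, s * q * s⁻¹ * q⁻¹ ∈ Z
  actOm : ∀ s ∈ S, ∀ w ∈ Om, s * w * s⁻¹ * w⁻¹ ∈ Q

/-- `C = C_S(Om / Z)` -/
def IsC (S Om Z C : Subgroup G) : Prop :=
  ∀ s, s ∈ C ↔ s ∈ S ∧ ∀ w ∈ Om, s * w * s⁻¹ * w⁻¹ ∈ Z

/-- `c ∈ C_S(Om)` -/
def InY (S Om : Subgroup G) (c : G) : Prop := c ∈ S ∧ ∀ v ∈ Om, c * v = v * c

end Cfsg.Agent.Lib.Helper89Rk
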