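import Mathlib
import Cfsg.Agent.Lib.Helper89RkDefs

set_option autoImplicit false

namespace Cfsg.Agent.Lib.Helper89Rk

variable {G : Type*} [Group G] {S Om Q Z C : Subgroup G} {p : ℕ}

theorem Cg.refl (Z : Subgroup G) (a : G) : Cg Z a a := by
  exact ⟨1, Z.one_mem, (mul_one a).symm⟩

theorem Cg.symm {a b : G} (h : Cg Z a b) : Cg Z b a := by
  obtain ⟨ζ, hζ, rfl⟩ := h
  exact ⟨ζ⁻¹, Z.inv_mem hζ, by group⟩

theorem Cg.trans {a b c : G} (h1 : Cg Z a b) (h2 : Cg Z b c) : Cg Z a c := by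
  obtain ⟨ζ, hζ, rfl⟩ := h1
  obtain ⟨ξ, hξ, rfl⟩ := h2
  exact ⟨ξ * ζ, Z.mul_mem hξ hζ, by group⟩

theorem cg_iff {a b : G} : Cg Z a b ↔ b⁻¹ * a ∈ Z := by
  constructor
  · rintro ⟨ζ, hζ, rfl⟩
    simpa using hζ
  · intro h
    exact ⟨b⁻¹ * a, h, by group⟩

theorem cg_mul_right (a : G) {ζ : G} (hζ : ζ ∈ Z) : Cg Z (a * ζ) a := by
  exact ⟨ζ, hζ, rfl⟩

theorem Cg.mem_iff {a b : G} (h : Cg Z a b) {H : Subgroup G} (hZH : Z ≤ H) : a ∈ H ↔ b ∈ H := by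
  obtain ⟨ζ, hζ, rfl⟩ := h
  exact Subgroup.mul_mem_cancel_right H (hZH hζ)

theorem Cg.mul (hc : ∀ ζ ∈ Z, ∀ s ∈ S, s * ζ = ζ * s) {a b c d : G} (h1 : Cg Z a b) (h2 : Cg Z c d)
    (hd : d ∈ S) : Cg Z (a * c) (b * d) := by
  obtain ⟨ζ, hζ, rfl⟩ := h1
  obtain ⟨ξ, hξ, rfl⟩ := h2
  refine ⟨ζ * ξ, Z.mul_mem hζ hξ, ?_⟩
  calc b * ζ * (d * ξ) = b * (ζ * d) * ξ := by group
    _ = b * (d * ζ) * ξ := by rw [hc ζ hζ d hd]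
    _ = b * d * (ζ * ξ) := by group

theorem Cg.pow (hc : ∀ ζ ∈ Z, ∀ s ∈ S, s * ζ = ζ * s) {a b : G} (h : Cg Z a b) (hb : b ∈ S) (n : ℕ) :
    Cg Z (a ^ n) (b ^ n) := by
  induction n with
  | zero => simpa using Cg.refl Z 1
  | succ n ih =>
    rw [pow_succ, pow_succ]
    exact Cg.mul hc ih h hb

theorem Cg.inv (hc : ∀ ζ ∈ Z, ∀ s ∈ S, s * ζ = ζ * s) {a b : G} (h : Cg Z a b) (hb : b ∈ S) :
    Cg Z a⁻¹ b⁻¹ := by
  obtain ⟨ζ, hζ, rfl⟩ := h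
  refine ⟨ζ⁻¹, Z.inv_mem hζ, ?_⟩
  rw [hc ζ hζ b hb, mul_inv_rev]

theorem Cg.conj (hc : ∀ ζ ∈ Z, ∀ s ∈ S, s * ζ = ζ * s) {a b s : G} (h : Cg Z a b) (hs : s ∈ S) :
    Cg Z (s * a * s⁻¹) (s * b * s⁻¹) := by
  obtain ⟨ζ, hζ, rfl⟩ := h
  refine ⟨ζ, hζ, ?_⟩
  have h1 : s⁻¹ * ζ = ζ * s⁻¹ := hc ζ hζ s⁻¹ (S.inv_mem hs)
  calc s * (b * ζ) * s⁻¹ = s * b * (ζ * s⁻¹) := by group
    _ = s * b * (s⁻¹ * ζ) := by rw [h1]
    _ = s * b * s⁻¹ * ζ := by group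

theorem Frame.Om_le (fr : Frame p S Om Q Z) : Om ≤ S := by
  intro x hx
  exact ((fr.mem_Om x).1 hx).1

theorem Frame.pow_p (fr : Frame p S Om Q Z) {w : G} (hw : w ∈ Om) : w ^ p = 1 := by
  exact ((fr.mem_Om w).1 hw).2

theorem Frame.conj_mem_Om (fr : Frame p S Om Q Z) {s w : G} (hs : s ∈ S) (hw : w ∈ Om) :
    s * w * s⁻¹ ∈ Om := by
  have h := Om.mul_mem (fr.Q_le (fr.actOm s hs w hw)) hw
  simpa using h

theorem Frame.conj_mem_Q (fr : Frame p S Om Q Z) {s q : G} (hs : s ∈ S) (hq : q ∈ Q) :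
    s * q * s⁻¹ ∈ Q := by
  have h := Q.mul_mem (fr.Z_le (fr.actQ s hs q hq)) hq
  simpa using h

theorem Frame.cg_conj_Q (fr : Frame p S Om Q Z) {s q : G} (hs : s ∈ S) (hq : q ∈ Q) :
    Cg Z (s * q * s⁻¹) q := by
  have hz := fr.actQ s hs q hq
  have hqS : q ∈ S := fr.Om_le (fr.Q_le hq)
  refine ⟨s * q * s⁻¹ * q⁻¹, hz, ?_⟩
  rw [fr.central _ hz q hqS]
  group

theorem Frame.cg_comm (fr : Frame p S Om Q Z) {a b : G} (ha : a ∈ Om) (hb : b ∈ Om) :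
    Cg Z (a * b) (b * a) := by
  have hz := fr.comm a ha b hb
  have hS : b * a ∈ S := fr.Om_le (Om.mul_mem hb ha)
  refine ⟨a * b * a⁻¹ * b⁻¹, hz, ?_⟩
  rw [fr.central _ hz _ hS]
  group

theorem Frame.cg_mul_pow (fr : Frame p S Om Q Z) {a b : G} (ha : a ∈ Om) (hb : b ∈ Om) (n : ℕ) :
    Cg Z ((a * b) ^ n) (a ^ n * b ^ n) := by
  have hc := fr.central
  have hle := fr.Om_le
  induction n with
  | zero => simpa using Cg.refl Z 1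
  | succ n ih =>
    -- (ab)^(n+1) = (ab)^n * (a * b) ≡ a^n b^n a b ≡ a^n a b^n b
    have h1 : Cg Z ((a * b) ^ n * (a * b)) (a ^ n * b ^ n * (a * b)) :=
      Cg.mul hc ih (Cg.refl Z _) (hle (Om.mul_mem ha hb))
    have h2 : Cg Z (b ^ n * a) (a * b ^ n) := fr.cg_comm (Om.pow_mem hb n) ha
    have h3 : Cg Z (a ^ n * (b ^ n * a)) (a ^ n * (a * b ^ n)) :=
      Cg.mul hc (Cg.refl Z _) h2 (hle (Om.mul_mem ha (Om.pow_mem hb n)))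
    have h4 : Cg Z (a ^ n * (b ^ n * a) * b) (a ^ n * (a * b ^ n) * b) :=
      Cg.mul hc h3 (Cg.refl Z _) (hle hb)
    rw [pow_succ, pow_succ, pow_succ]
    have e1 : a ^ n * b ^ n * (a * b) = a ^ n * (b ^ n * a) * b := by group
    have e2 : a ^ n * a * (b ^ n * b) = a ^ n * (a * b ^ n) * b := by group
    rw [e2]
    rw [e1] at h1
    exact h1.trans h4

end Cfsg.Agent.Lib.Helper89Rk
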