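import Mathlib
import Cfsg.Agent.Lib.Helper89RkDefs
import Cfsg.Agent.Lib.Helper89RkCg

set_option autoImplicit false

namespace Cfsg.Agent.Lib.Helper89Rk

variable {G : Type*} [Group G] {S Om Q Z C : Subgroup G} {p : ℕ}

/-- `t ∉ H`, `t ^ p = 1`: `t ^ i ∈ H` forces `p ∣ i`. -/
theorem coords_dvd_of_pow_mem [Fact p.Prime] {H : Subgroup G} {t : G} (ht : t ∉ H) (htp : t ^ p = 1)
    (i : ℕ) (hi : t ^ i ∈ H) : p ∣ i := by
  by_contra hnd
  have hp : p.Prime := Fact.out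
  have hcop : Nat.Coprime i p := ((Nat.Prime.coprime_iff_not_dvd hp).mpr hnd).symm
  apply ht
  have h1 : t ^ (Nat.gcd i p) ∈ H := by
    have hz : t ^ ((Nat.gcd i p : ℕ) : ℤ) ∈ H := by
      rw [Nat.gcd_eq_gcd_ab, zpow_add, zpow_mul, zpow_mul, zpow_natCast, zpow_natCast, htp, one_zpow,
        mul_one]
      exact H.zpow_mem hi _
    rwa [zpow_natCast] at hz
  rw [hcop, pow_one] at h1
  exact h1

/-- index `p`: coset representatives are the powers of `t`. -/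
theorem coords_index_p [Fact p.Prime] {H K : Subgroup G} (hHK : H ≤ K) (hH : Nat.card H ≠ 0)
    (hcard : Nat.card K = p * Nat.card H) {t : G} (htK : t ∈ K) (ht : t ∉ H) (htp : t ^ p = 1) :
    ∀ k ∈ K, ∃ i : ℕ, ∃ h ∈ H, k = t ^ i * h := by
  have hp : p.Prime := Fact.out
  have hfinH : Finite H := Nat.finite_of_card_ne_zero hH
  have hfinK : Finite K := Nat.finite_of_card_ne_zero (by rw [hcard]; exact mul_ne_zero hp.ne_zero hH)
  let f : Fin p × H → K := fun a => ⟨t ^ (a.1 : ℕ) * a.2.1, K.mul_mem (K.pow_mem htK _) (hHK a.2.2)⟩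
  have aux : ∀ (i j : ℕ) (h h' : G), i < p → j < p → i ≤ j → h ∈ H → h' ∈ H →
      t ^ i * h = t ^ j * h' → i = j := by
    intro i j h h' hi hj hij hh hh' e
    obtain ⟨d, rfl⟩ := Nat.exists_eq_add_of_le hij
    have e2 : t ^ d = h * h'⁻¹ := by
      rw [pow_add, mul_assoc] at e
      have := mul_left_cancel e
      rw [this]; group
    have := coords_dvd_of_pow_mem ht htp d (by rw [e2]; exact H.mul_mem hh (H.inv_mem hh'))
    have hd : d = 0 := Nat.eq_zero_of_dvd_of_lt this (by omega)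
    omega
  have hinj : Function.Injective f := by
    rintro ⟨i, h⟩ ⟨j, h'⟩ e
    have e' : t ^ (i : ℕ) * h.1 = t ^ (j : ℕ) * h'.1 := congrArg Subtype.val e
    have hij : (i : ℕ) = j := by
      rcases Nat.le_total i j with hle | hle
      · exact aux i j h h' i.2 j.2 hle h.2 h'.2 e'
      · exact (aux j i h' h j.2 i.2 hle h'.2 h.2 e'.symm).symm
    have hij' : i = j := Fin.ext hij
    subst hij'
    have := mul_left_cancel e'
    rw [Subtype.ext this]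
  have hbij : Function.Bijective f := by
    rw [Nat.bijective_iff_injective_and_card]
    refine ⟨hinj, ?_⟩
    rw [Nat.card_prod, hcard]
    simp
  intro k hk
  obtain ⟨⟨i, h⟩, e⟩ := hbij.2 ⟨k, hk⟩
  exact ⟨i, h.1, h.2, (congrArg Subtype.val e).symm⟩

/-- coordinates in `Om` -/
theorem Frame.coords [Fact p.Prime] (fr : Frame p S Om Q Z) {y z : G} (hy : y ∈ Om) (hyQ : y ∉ Q)
    (hz : z ∈ Q) (hzZ : z ∉ Z) :
    (∀ w ∈ Om, ∃ i j : ℕ, ∃ ζ ∈ Z, w = y ^ i * z ^ j * ζ) ∧ (∀ q ∈ Q, ∃ j : ℕ, ∃ ζ ∈ Z, q = z ^ j * ζ) ∧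
      (∀ i : ℕ, y ^ i ∈ Q → p ∣ i) ∧ (∀ j : ℕ, z ^ j ∈ Z → p ∣ j) := by
  have hp : p.Prime := Fact.out
  have hyp : y ^ p = 1 := ((fr.mem_Om y).mp hy).2
  have hzp : z ^ p = 1 := ((fr.mem_Om z).mp (fr.Q_le hz)).2
  have hQ : ∀ q ∈ Q, ∃ j : ℕ, ∃ ζ ∈ Z, q = z ^ j * ζ :=
    coords_index_p fr.Z_le (by rw [fr.cardZ]; exact hp.ne_zero)
      (by rw [fr.cardQ, fr.cardZ]; ring) hz hzZ hzp
  have hOm : ∀ w ∈ Om, ∃ i : ℕ, ∃ q ∈ Q, w = y ^ i * q :=
    coords_index_p fr.Q_le (by rw [fr.cardQ]; exact pow_ne_zero _ hp.ne_zero)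
      (by rw [fr.cardQ, fr.cardOm]; ring) hy hyQ hyp
  refine ⟨?_, hQ, coords_dvd_of_pow_mem hyQ hyp, coords_dvd_of_pow_mem hzZ hzp⟩
  intro w hw
  obtain ⟨i, q, hq, rfl⟩ := hOm w hw
  obtain ⟨j, ζ, hζ, rfl⟩ := hQ q hq
  exact ⟨i, j, ζ, hζ, by group⟩

theorem Frame.exists_yz [Fact p.Prime] (fr : Frame p S Om Q Z) :
    ∃ y z : G, y ∈ Om ∧ y ∉ Q ∧ z ∈ Q ∧ z ∉ Z := by
  have hp : p.Prime := Fact.out
  have h1 : ∃ y ∈ Om, y ∉ Q := by
    by_contra hcon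
    push Not at hcon
    have : Om = Q := le_antisymm hcon fr.Q_le
    have h2 := fr.cardOm
    rw [this, fr.cardQ] at h2
    exact absurd (Nat.pow_right_injective hp.two_le h2) (by norm_num)
  have h2 : ∃ z ∈ Q, z ∉ Z := by
    by_contra hcon
    push Not at hcon
    have : Q = Z := le_antisymm hcon fr.Z_le
    have h2 := fr.cardQ
    rw [this, fr.cardZ] at h2
    have h3 : p ^ 1 = p ^ 2 := by rw [pow_one]; exact h2
    exact absurd (Nat.pow_right_injective hp.two_le h3) (by norm_num)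
  obtain ⟨y, hy, hyQ⟩ := h1
  obtain ⟨z, hz, hzZ⟩ := h2
  exact ⟨y, z, hy, hyQ, hz, hzZ⟩

end Cfsg.Agent.Lib.Helper89Rk
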