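import Mathlib
import Cfsg.Agent.Lib.Helper89RkDefs
import Cfsg.Agent.Lib.Helper89RkCg

set_option autoImplicit false

namespace Cfsg.Agent.Lib.Helper89Rk

variable {G : Type*} [Group G] {S Om Q Z C : Subgroup G} {p : ℕ}

/-- `C = C_S(Om / Z)` is a subgroup, normal in `S`, containing `Om` -/
theorem Frame.exists_C (fr : Frame p S Om Q Z) : ∃ C : Subgroup G, IsC S Om Z C := by
  refine ⟨{ carrier := {s | s ∈ S ∧ ∀ w ∈ Om, s * w * s⁻¹ * w⁻¹ ∈ Z}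
            one_mem' := ⟨S.one_mem, fun w _ => by simp⟩
            mul_mem' := ?_
            inv_mem' := ?_ }, fun s => Iff.rfl⟩
  · rintro s t ⟨hs, hs'⟩ ⟨ht, ht'⟩
    refine ⟨S.mul_mem hs ht, fun w hw => ?_⟩
    have h1 := hs' (t * w * t⁻¹) (fr.conj_mem_Om ht hw)
    have h2 := ht' w hw
    have e : s * t * w * (s * t)⁻¹ * w⁻¹ =
        (s * (t * w * t⁻¹) * s⁻¹ * (t * w * t⁻¹)⁻¹) * (t * w * t⁻¹ * w⁻¹) := by group
    rw [e]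
    exact Z.mul_mem h1 h2
  · rintro s ⟨hs, hs'⟩
    refine ⟨S.inv_mem hs, fun w hw => ?_⟩
    have hw' : s⁻¹ * w * s ∈ Om := by
      have := fr.conj_mem_Om (S.inv_mem hs) hw
      rwa [inv_inv] at this
    have h1 := Z.inv_mem (hs' _ hw')
    have e : s⁻¹ * w * s⁻¹⁻¹ * w⁻¹ = (s * (s⁻¹ * w * s) * s⁻¹ * (s⁻¹ * w * s)⁻¹)⁻¹ := by group
    rw [e]
    exact h1

theorem IsC.le (hC : IsC S Om Z C) : C ≤ S := fun s hs => ((hC s).1 hs).1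

theorem IsC.Om_le (hC : IsC S Om Z C) (fr : Frame p S Om Q Z) : Om ≤ C := fun w hw =>
  (hC w).2 ⟨fr.Om_le hw, fun v hv => fr.comm w hw v hv⟩

theorem IsC.conj_mem (hC : IsC S Om Z C) (fr : Frame p S Om Q Z) {s c : G} (hs : s ∈ S) (hc : c ∈ C) :
    s * c * s⁻¹ ∈ C := by
  obtain ⟨hcS, hc'⟩ := (hC c).1 hc
  refine (hC _).2 ⟨S.mul_mem (S.mul_mem hs hcS) (S.inv_mem hs), fun w hw => ?_⟩
  have hw' : s⁻¹ * w * s ∈ Om := by
    have := fr.conj_mem_Om (S.inv_mem hs) hw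
    rwa [inv_inv] at this
  have h1 := hc' _ hw'
  have h2 := fr.central _ h1 s hs
  have e : s * c * s⁻¹ * w * (s * c * s⁻¹)⁻¹ * w⁻¹ =
      s * (c * (s⁻¹ * w * s) * c⁻¹ * (s⁻¹ * w * s)⁻¹) * s⁻¹ := by group
  rw [e, h2, mul_inv_cancel_right]
  exact h1

theorem IsC.cg_conj (hC : IsC S Om Z C) {c w : G} (hc : c ∈ C) (hw : w ∈ Om) :
    Cg Z (c * w * c⁻¹) w := by
  rw [cg_iff]
  have h1 := Z.inv_mem (((hC c).1 hc).2 w⁻¹ (Om.inv_mem hw))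
  have e : w⁻¹ * (c * w * c⁻¹) = (c * w⁻¹ * c⁻¹ * w⁻¹⁻¹)⁻¹ := by group
  rw [e]
  exact h1

theorem IsC.of_inY (hC : IsC S Om Z C) {c : G} (hc : InY S Om c) : c ∈ C := by
  refine (hC c).2 ⟨hc.1, fun w hw => ?_⟩
  rw [hc.2 w hw, mul_inv_cancel_right, mul_inv_cancel]
  exact Z.one_mem

end Cfsg.Agent.Lib.Helper89Rk
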