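import Mathlib
import Cfsg.Agent.Lib.Helper89RkDefs
import Cfsg.Agent.Lib.Helper89RkCg
import Cfsg.Agent.Lib.Helper89RkExC

set_option autoImplicit false

namespace Cfsg.Agent.Lib.Helper89Rk

variable {G : Type*} [Group G] {S Om Q Z C : Subgroup G} {p : ℕ}

/-- `s ∈ S` centralising one `y ∈ Om \ Q` modulo `Z` lies in `C`: the set `{w ∈ Om | [s, w] ∈ Z}` is a subgroup
containing `Q` (`Frame.actQ`) and `y`, so it has order `> p ^ 2`. -/
theorem IsC.mem_of_gen [Fact p.Prime] (hC : IsC S Om Z C) (fr : Frame p S Om Q Z) {s y : G} (hs : s ∈ S)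
    (hy : y ∈ Om) (hyQ : y ∉ Q) (h : s * y * s⁻¹ * y⁻¹ ∈ Z) : s ∈ C := by
  have hpp : p.Prime := Fact.out
  have hOS := fr.Om_le
  let H : Subgroup G :=
    { carrier := {w | w ∈ Om ∧ s * w * s⁻¹ * w⁻¹ ∈ Z}
      mul_mem' := by
        rintro a b ⟨ha, ha'⟩ ⟨hb, hb'⟩
        refine ⟨Om.mul_mem ha hb, ?_⟩
        have h1 := fr.central _ hb' a⁻¹ (S.inv_mem (hOS ha))
        have h2 : s * (a * b) * s⁻¹ * (a * b)⁻¹
            = (s * a * s⁻¹ * a⁻¹) * (s * b * s⁻¹ * b⁻¹) := by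
          calc s * (a * b) * s⁻¹ * (a * b)⁻¹
              = s * a * s⁻¹ * ((s * b * s⁻¹ * b⁻¹) * a⁻¹) := by group
            _ = s * a * s⁻¹ * (a⁻¹ * (s * b * s⁻¹ * b⁻¹)) := by rw [h1]
            _ = _ := by group
        rw [h2]
        exact Z.mul_mem ha' hb'
      one_mem' := ⟨Om.one_mem, by simp⟩
      inv_mem' := by
        rintro a ⟨ha, ha'⟩
        refine ⟨Om.inv_mem ha, ?_⟩
        have h1 := fr.central _ (Z.inv_mem ha') a⁻¹ (S.inv_mem (hOS ha))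
        have h2 : s * a⁻¹ * s⁻¹ * a⁻¹⁻¹ = (s * a * s⁻¹ * a⁻¹)⁻¹ := by
          calc s * a⁻¹ * s⁻¹ * a⁻¹⁻¹ = (a⁻¹ * (s * a * s⁻¹ * a⁻¹)⁻¹) * a := by group
            _ = ((s * a * s⁻¹ * a⁻¹)⁻¹ * a⁻¹) * a := by rw [h1]
            _ = _ := by group
        rw [h2]
        exact Z.inv_mem ha' }
  have hHO : H ≤ Om := fun w hw => hw.1
  have hQH : Q ≤ H := fun q hq => ⟨fr.Q_le hq, fr.actQ s hs q hq⟩
  have hyH : y ∈ H := ⟨hy, h⟩
  haveI : Finite Om := Nat.finite_of_card_ne_zero (by rw [fr.cardOm]; exact pow_ne_zero _ hpp.ne_zero)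
  haveI : Finite H := Finite.of_injective (Subgroup.inclusion hHO) (Subgroup.inclusion_injective hHO)
  have d1 : Nat.card Q ∣ Nat.card H := Subgroup.card_dvd_of_le hQH
  have d2 : Nat.card H ∣ Nat.card Om := Subgroup.card_dvd_of_le hHO
  rw [fr.cardOm] at d2
  rw [fr.cardQ] at d1
  obtain ⟨k, hk, hkc⟩ := (Nat.dvd_prime_pow hpp).1 d2
  rw [hkc] at d1
  have hk2 : 2 ≤ k := (Nat.pow_dvd_pow_iff_le_right hpp.one_lt).1 d1
  have hk3 : k ≠ 2 := by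
    rintro rfl
    have : Q = H := Subgroup.eq_of_le_of_card_ge hQH (by rw [hkc, fr.cardQ])
    exact hyQ (this ▸ hyH)
  have hk' : k = 3 := by omega
  have hHeq : H = Om := Subgroup.eq_of_le_of_card_ge hHO (by rw [hkc, fr.cardOm, hk'])
  refine (hC s).2 ⟨hs, fun w hw => ?_⟩
  have : w ∈ H := hHeq ▸ hw
  exact this.2

/-- the fixed points of `x ∈ S \ C` on `Om / Z` are in `Q / Z` -/
theorem IsC.fix_in_Q [Fact p.Prime] (hC : IsC S Om Z C) (fr : Frame p S Om Q Z) {x t : G} (hx : x ∈ S)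
    (hxC : x ∉ C) (ht : t ∈ Om) (h : x * t * x⁻¹ * t⁻¹ ∈ Z) : t ∈ Q := by
  by_contra htQ
  exact hxC (hC.mem_of_gen fr hx ht htQ h)

end Cfsg.Agent.Lib.Helper89Rk
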