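import Mathlib
import Cfsg.Agent.Lib.Helper89RkDefs
import Cfsg.Agent.Lib.Helper89RkCg
import Cfsg.Agent.Lib.Helper89RkExC
import Cfsg.Agent.Lib.Helper89RkCoords
import Cfsg.Agent.Lib.Helper89RkMemC

set_option autoImplicit false

namespace Cfsg.Agent.Lib.Helper89Rk

variable {G : Type*} [Group G] {S Om Q Z C : Subgroup G} {p : ℕ}

/-- any `s ∈ S` -/
theorem Frame.act_s [Fact p.Prime] (fr : Frame p S Om Q Z) {s y z : G} (hs : s ∈ S)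
    (hy : y ∈ Om) (hyQ : y ∉ Q) (hz : z ∈ Q) (hzZ : z ∉ Z) :
    ∃ a : ℕ, Cg Z (s * y * s⁻¹) (y * z ^ a) := by
  obtain ⟨-, hQ, -, -⟩ := fr.coords hy hyQ hz hzZ
  obtain ⟨j, ζ, hζ, hj⟩ := hQ _ (fr.actOm s hs y hy)
  refine ⟨j, ?_⟩
  have hyS : y ∈ S := fr.Om_le hy
  have hzO : z ^ j ∈ Om := Om.pow_mem (fr.Q_le hz) j
  have h1 : s * y * s⁻¹ = z ^ j * y * ζ := by
    have : s * y * s⁻¹ = (s * y * s⁻¹ * y⁻¹) * y := by group
    rw [this, hj, mul_assoc, mul_assoc, ← fr.central ζ hζ y hyS]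
  rw [h1]
  exact (cg_mul_right _ hζ).trans (fr.cg_comm hzO hy)

/-- `g ∈ S \ C` acts on `Om / Z` as a transvection -/
theorem IsC.act_g [Fact p.Prime] (hC : IsC S Om Z C) (fr : Frame p S Om Q Z) {g y z : G} (hg : g ∈ S)
    (hgC : g ∉ C) (hy : y ∈ Om) (hyQ : y ∉ Q) (hz : z ∈ Q) (hzZ : z ∉ Z) :
    ∃ a : ℕ, ¬ p ∣ a ∧ Cg Z (g * y * g⁻¹) (y * z ^ a) := by
  obtain ⟨a, ha⟩ := fr.act_s hg hy hyQ hz hzZ
  refine ⟨a, ?_, ha⟩
  rintro ⟨c, rfl⟩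
  apply hgC
  apply hC.mem_of_gen fr hg hy hyQ
  rw [pow_mul, fr.pow_p (fr.Q_le hz), one_pow, mul_one] at ha
  obtain ⟨ζ, hζ, h⟩ := ha
  rw [h, fr.central ζ hζ y (fr.Om_le hy)]
  simpa using hζ

theorem Frame.act_pow (fr : Frame p S Om Q Z) {g y z : G} {a : ℕ} (hg : g ∈ S) (hy : y ∈ Om) (hz : z ∈ Q)
    (h : Cg Z (g * y * g⁻¹) (y * z ^ a)) (k : ℕ) :
    Cg Z (g ^ k * y * (g ^ k)⁻¹) (y * z ^ (a * k)) := by
  induction k with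
  | zero => simpa using Cg.refl Z y
  | succ k ih =>
    have hzS : ∀ n : ℕ, z ^ n ∈ S := fun n => S.pow_mem (fr.Om_le (fr.Q_le hz)) n
    have hyS : y ∈ S := fr.Om_le hy
    have h1 : g ^ (k + 1) * y * (g ^ (k + 1))⁻¹ = g * (g ^ k * y * (g ^ k)⁻¹) * g⁻¹ := by
      rw [pow_succ']; group
    rw [h1]
    have h2 := Cg.conj fr.central ih hg
    refine h2.trans ?_
    have h3 : g * (y * z ^ (a * k)) * g⁻¹ = (g * y * g⁻¹) * (g * z ^ (a * k) * g⁻¹) := by group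
    rw [h3]
    have h4 : Cg Z (g * z ^ (a * k) * g⁻¹) (z ^ (a * k)) := fr.cg_conj_Q hg (Q.pow_mem hz _)
    have h5 := Cg.mul fr.central h h4 (hzS _)
    have h6 : y * z ^ a * z ^ (a * k) = y * z ^ (a * (k + 1)) := by
      rw [mul_assoc, ← pow_add]; congr 2; ring
    rwa [h6] at h5

end Cfsg.Agent.Lib.Helper89Rk
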