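import Mathlib
import Cfsg.Agent.Lib.Helper89RkDefs
import Cfsg.Agent.Lib.Helper89RkCg

set_option autoImplicit false

namespace Cfsg.Agent.Lib.Helper89Rk

variable {G : Type*} [Group G] {S Om Q Z C : Subgroup G} {p : ℕ}

variable {β : G → G}

theorem EndOn.map_one (h : EndOn S β) : β 1 = 1 := by
  have h1 := h.mul 1 S.one_mem 1 S.one_mem
  rw [mul_one] at h1
  exact mul_eq_left.1 h1.symm

theorem EndOn.map_inv (h : EndOn S β) {x : G} (hx : x ∈ S) : β x⁻¹ = (β x)⁻¹ := by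
  have h1 := h.mul x hx x⁻¹ (S.inv_mem hx)
  rw [mul_inv_cancel, h.map_one] at h1
  exact (inv_eq_of_mul_eq_one_right h1.symm).symm

theorem EndOn.map_pow (h : EndOn S β) {x : G} (hx : x ∈ S) (n : ℕ) : β (x ^ n) = (β x) ^ n := by
  induction n with
  | zero => rw [pow_zero, pow_zero, h.map_one]
  | succ n ih => rw [pow_succ, pow_succ, h.mul _ (S.pow_mem hx n) _ hx, ih]

theorem EndOn.map_conj (h : EndOn S β) {x y : G} (hx : x ∈ S) (hy : y ∈ S) :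
    β (x * y * x⁻¹) = β x * β y * (β x)⁻¹ := by
  rw [h.mul _ (S.mul_mem hx hy) _ (S.inv_mem hx), h.mul _ hx _ hy, h.map_inv hx]

theorem EndOn.surj [Finite S] (h : EndOn S β) {y : G} (hy : y ∈ S) : ∃ x ∈ S, β x = y := by
  let f : S → S := fun x => ⟨β x, h.mem x x.2⟩
  have hinj : Function.Injective f := by
    intro a b hab
    exact Subtype.ext (h.inj a a.2 b b.2 (congrArg Subtype.val hab))
  obtain ⟨x, hx⟩ := (Finite.injective_iff_surjective.1 hinj) ⟨y, hy⟩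
  exact ⟨x, x.2, congrArg Subtype.val hx⟩

theorem EndOn.mem_Om (h : EndOn S β) (fr : Frame p S Om Q Z) {w : G} (hw : w ∈ Om) : β w ∈ Om := by
  obtain ⟨h1, h2⟩ := (fr.mem_Om w).1 hw
  exact (fr.mem_Om _).2 ⟨h.mem w h1, by rw [← h.map_pow h1, h2, h.map_one]⟩

theorem EndOn.surj_Om [Finite S] (h : EndOn S β) (fr : Frame p S Om Q Z) {w : G} (hw : w ∈ Om) :
    ∃ v ∈ Om, β v = w := by
  obtain ⟨h1, h2⟩ := (fr.mem_Om w).1 hw
  obtain ⟨v, hv, hvw⟩ := h.surj h1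
  refine ⟨v, (fr.mem_Om v).2 ⟨hv, ?_⟩, hvw⟩
  apply h.inj _ (S.pow_mem hv p) _ S.one_mem
  rw [h.map_pow hv, hvw, h2, h.map_one]

/-- `Z = Z(Om)` is invariant -/
theorem EndOn.mem_Z [Finite S] (h : EndOn S β) (fr : Frame p S Om Q Z) {ζ : G} (hζ : ζ ∈ Z) :
    β ζ ∈ Z := by
  obtain ⟨h1, h2⟩ := (fr.mem_Z ζ).1 hζ
  refine (fr.mem_Z _).2 ⟨h.mem_Om fr h1, ?_⟩
  intro w hw
  obtain ⟨v, hv, rfl⟩ := h.surj_Om fr hw
  rw [← h.mul _ (fr.Om_le hv) _ (fr.Om_le h1), ← h.mul _ (fr.Om_le h1) _ (fr.Om_le hv), h2 v hv]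

theorem EndOn.cg [Finite S] (h : EndOn S β) (fr : Frame p S Om Q Z) {a b : G} (hab : Cg Z a b)
    (hb : b ∈ S) : Cg Z (β a) (β b) := by
  obtain ⟨ζ, hζ, rfl⟩ := hab
  exact ⟨β ζ, h.mem_Z fr hζ, h.mul _ hb _ (fr.Om_le (fr.Q_le (fr.Z_le hζ)))⟩

/-- `C_S(Om)` is invariant -/
theorem EndOn.inY [Finite S] (h : EndOn S β) (fr : Frame p S Om Q Z) {c : G} (hc : InY S Om c) :
    InY S Om (β c) := by
  refine ⟨h.mem c hc.1, ?_⟩
  intro v hv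
  obtain ⟨u, hu, rfl⟩ := h.surj_Om fr hv
  rw [← h.mul _ hc.1 _ (fr.Om_le hu), ← h.mul _ (fr.Om_le hu) _ hc.1, hc.2 u hu]

end Cfsg.Agent.Lib.Helper89Rk
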