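import Mathlib
import Cfsg.Agent.Lib.Helper89RkDefs
import Cfsg.Agent.Lib.Helper89RkCg
import Cfsg.Agent.Lib.Helper73HallPetrescu
import Cfsg.Agent.Lib.Helper3OmegaRank

set_option autoImplicit false

namespace Cfsg.Agent.Lib.Helper89Rk

variable {G : Type*} [Group G] {S Om Q Z C : Subgroup G} {p : ℕ}

theorem Frame.powmul_conj (fr : Frame p S Om Q Z) {s w : G} (hs : s ∈ S) (hw : w ∈ Om) :
    s * w * s⁻¹ ∈ Om := by
  have h1 : s * w * s⁻¹ * w⁻¹ ∈ Om := fr.Q_le (fr.actOm s hs w hw)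
  have := Om.mul_mem h1 hw
  simpa using this

/-- the subgroup `⟨x⟩ Om` -/
def Frame.powmulD (fr : Frame p S Om Q Z) {x : G} (hx : x ∈ S) : Subgroup G where
  carrier := {g | ∃ n : ℤ, ∃ u ∈ Om, g = x ^ n * u}
  one_mem' := ⟨0, 1, Om.one_mem, by simp⟩
  mul_mem' := by
    rintro _ _ ⟨n, u, hu, rfl⟩ ⟨m, v, hv, rfl⟩
    refine ⟨n + m, x ^ (-m) * u * (x ^ (-m))⁻¹ * v,
      Om.mul_mem (fr.powmul_conj (S.zpow_mem hx _) hu) hv, ?_⟩
    rw [zpow_add, zpow_neg]; group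
  inv_mem' := by
    rintro _ ⟨n, u, hu, rfl⟩
    refine ⟨-n, x ^ n * u⁻¹ * (x ^ n)⁻¹, fr.powmul_conj (S.zpow_mem hx _) (Om.inv_mem hu), ?_⟩
    rw [zpow_neg]; group

theorem Frame.powmul_comm_le (fr : Frame p S Om Q Z) {x : G} (hx : x ∈ S) :
    ⁅fr.powmulD hx, fr.powmulD hx⁆ ≤ Om := by
  rw [Subgroup.commutator_le]
  rintro _ ⟨n, u, hu, rfl⟩ _ ⟨m, v, hv, rfl⟩
  rw [commutatorElement_def]
  -- move the powers of `x` to the left
  have e : x ^ n * u * (x ^ m * v) * (x ^ n * u)⁻¹ * (x ^ m * v)⁻¹ =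
      (x ^ (n + m) * (x ^ (-m) * u * (x ^ (-m))⁻¹ * v * u⁻¹) * (x ^ (n + m))⁻¹) *
        (x ^ m * v⁻¹ * (x ^ m)⁻¹) := by
    rw [zpow_add, zpow_neg]; group
  rw [e]
  exact Om.mul_mem (fr.powmul_conj (S.zpow_mem hx _) (Om.mul_mem (Om.mul_mem
    (fr.powmul_conj (S.zpow_mem hx _) hu) hv) (Om.inv_mem hu)))
    (fr.powmul_conj (S.zpow_mem hx _) (Om.inv_mem hv))

theorem Frame.powmul_lcs (fr : Frame p S Om Q Z) {D : Subgroup G} (hD : D ≤ S) (hDD : ⁅D, D⁆ ≤ Om) :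
    D.lowerCentralSeries 4 = ⊥ := by
  have h1 : D.lowerCentralSeries 1 ≤ Om := by
    rw [Subgroup.lowerCentralSeries_succ, Subgroup.lowerCentralSeries_zero]; exact hDD
  have h2 : D.lowerCentralSeries 2 ≤ Q := by
    rw [Subgroup.lowerCentralSeries_succ]
    refine (Subgroup.commutator_mono h1 hD).trans ?_
    rw [Subgroup.commutator_le]
    intro w hw s hs
    have := Q.inv_mem (fr.actOm s hs w hw)
    rw [commutatorElement_def]
    convert this using 1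
    group
  have h3 : D.lowerCentralSeries 3 ≤ Z := by
    rw [Subgroup.lowerCentralSeries_succ]
    refine (Subgroup.commutator_mono h2 hD).trans ?_
    rw [Subgroup.commutator_le]
    intro w hw s hs
    have := Z.inv_mem (fr.actQ s hs w hw)
    rw [commutatorElement_def]
    convert this using 1
    group
  rw [eq_bot_iff, Subgroup.lowerCentralSeries_succ]
  refine (Subgroup.commutator_mono h3 hD).trans ?_
  rw [Subgroup.commutator_le]
  intro ζ hζ s hs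
  rw [commutatorElement_def, Subgroup.mem_bot, ← fr.central ζ hζ s hs]
  group

/-- `D = ⟨x⟩ Om` has order `≤ p ^ 4`, so class `≤ 3 < p - 1`; `[D, D] ≤ Om` has exponent `p`;
`Helper73HallPetrescu.mul_pow_prime_pow` (with `n = 1`) gives `(x w) ^ p = x ^ p w ^ p c` with `c = 1`.
(`Helper3OmegaRank.class_le_of_card` bounds the class.) -/
theorem Frame.pow_mul [Finite S] [Fact p.Prime] (hS : IsPGroup p S) (hp : 5 ≤ p) (fr : Frame p S Om Q Z)
    {x w : G} (hx : x ∈ S) (hxp : x ^ p ∈ Om) (hw : w ∈ Om) : (x * w) ^ p = x ^ p := by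
  have hOmS : Om ≤ S := fun u hu => ((fr.mem_Om u).mp hu).1
  have hDS : fr.powmulD hx ≤ S := by
    rintro _ ⟨n, u, hu, rfl⟩
    exact S.mul_mem (S.zpow_mem hx _) (hOmS hu)
  have hlcs : (fr.powmulD hx).lowerCentralSeries (p - 1) = ⊥ := by
    rw [eq_bot_iff, ← fr.powmul_lcs hDS (fr.powmul_comm_le hx)]
    exact Subgroup.lowerCentralSeries_antitone _ (by omega)
  have hxD : x ∈ fr.powmulD hx := ⟨1, 1, Om.one_mem, by simp⟩
  have hwD : w ∈ fr.powmulD hx := ⟨0, w, hw, by simp⟩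
  obtain ⟨c, hc, e⟩ := Cfsg.Agent.Lib.Helper73HallPetrescu.mul_pow_prime_pow (Fact.out : p.Prime)
    (fr.powmulD hx) hlcs hxD hwD 1
  have hc1 : c = 1 := by
    have hle : Subgroup.closure {y : G | ∃ t ∈ ⁅fr.powmulD hx, fr.powmulD hx⁆, y = t ^ (p ^ 1)} ≤ ⊥ := by
      rw [Subgroup.closure_le]
      rintro _ ⟨t, ht, rfl⟩
      have := ((fr.mem_Om t).mp (fr.powmul_comm_le hx ht)).2
      simpa using this
    simpa using hle hc
  rw [pow_one, hc1, mul_one, ((fr.mem_Om w).mp hw).2, mul_one] at e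
  exact e

end Cfsg.Agent.Lib.Helper89Rk
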