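import Mathlib
import Cfsg.Agent.Lib.Helper89RkDefs

set_option autoImplicit false

namespace Cfsg.Agent.Lib.Helper89Rk

variable {G : Type*} [Group G] {S Om Q Z C : Subgroup G} {p : ℕ}

theorem powmem_bezout [Fact p.Prime] (n : ℕ) {a b : ℕ} (hab : ¬ a ≡ b [MOD p]) :
    ∃ u v : ℤ, u * ((a : ℤ) - b) + v * ((p ^ n : ℕ) : ℤ) = 1 := by
  have hp : Prime (p : ℤ) := Nat.prime_iff_prime_int.1 Fact.out
  have h1 : ¬ (p : ℤ) ∣ (a : ℤ) - b := by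
    intro h
    apply hab
    exact (Nat.modEq_iff_dvd.2 h).symm
  have h2 : IsCoprime (p : ℤ) ((a : ℤ) - b) := (Prime.coprime_iff_not_dvd hp).2 h1
  have h3 : IsCoprime ((a : ℤ) - b) ((p : ℤ) ^ n) := (h2.pow_left (m := n)).symm
  obtain ⟨u, v, huv⟩ := h3
  exact ⟨u, v, by push_cast; exact huv⟩

/-- same for an element of `p`-power order -/
theorem mem_of_pow_mem' [Fact p.Prime] {H : Subgroup G} {t : G} {n : ℕ} (ht : t ^ p ^ n = 1) {a b : ℕ}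
    (h : t ^ a * (t ^ b)⁻¹ ∈ H) (hab : ¬ a ≡ b [MOD p]) : t ∈ H := by
  obtain ⟨u, v, huv⟩ := powmem_bezout n hab
  have h1 : t ^ ((a : ℤ) - b) = t ^ a * (t ^ b)⁻¹ := by
    rw [zpow_sub, zpow_natCast, zpow_natCast]
  have h2 : t = (t ^ ((a : ℤ) - b)) ^ u := by
    have h3 : t ^ (1 : ℤ) = t ^ (((a : ℤ) - b) * u + ((p ^ n : ℕ) : ℤ) * v) := by
      congr 1
      linear_combination -huv
    rw [zpow_one, zpow_add, zpow_mul, zpow_mul, zpow_natCast, ht, one_zpow, mul_one] at h3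
    exact h3
  rw [h2, h1]
  exact H.zpow_mem h u

/-- if `t ^ p = 1`, `t ^ a ≡ t ^ b` modulo `H` and `a ≢ b (mod p)` then `t ∈ H` -/
theorem mem_of_pow_mem [Fact p.Prime] {H : Subgroup G} {t : G} (ht : t ^ p = 1) {a b : ℕ}
    (h : t ^ a * (t ^ b)⁻¹ ∈ H) (hab : ¬ a ≡ b [MOD p]) : t ∈ H :=
  mem_of_pow_mem' (n := 1) (by rw [pow_one]; exact ht) h hab

/-- solving `y₀ ^ a = y₀ ^ b * y₁` in the cyclic group generated by `y₁` -/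
theorem exists_pow_solve [Fact p.Prime] {y₁ : G} {n : ℕ} (ht : y₁ ^ p ^ n = 1) {a b : ℕ}
    (hab : ¬ a ≡ b [MOD p]) : ∃ e : ℕ, (y₁ ^ e) ^ a = (y₁ ^ e) ^ b * y₁ := by
  obtain ⟨u, v, huv⟩ := powmem_bezout n hab
  have hN : (0 : ℤ) < ((p ^ n : ℕ) : ℤ) := by
    have : 0 < p ^ n := pow_pos (Fact.out : p.Prime).pos n
    exact_mod_cast this
  have ht' : y₁ ^ (((p ^ n : ℕ) : ℤ)) = 1 := by rw [zpow_natCast, ht]
  obtain ⟨e, he⟩ : ∃ e : ℕ, y₁ ^ e = y₁ ^ u := by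
    refine ⟨(u % ((p ^ n : ℕ) : ℤ)).toNat, ?_⟩
    rw [zpow_eq_zpow_emod u ht', ← zpow_natCast, Int.toNat_of_nonneg (Int.emod_nonneg _ hN.ne')]
  refine ⟨e, ?_⟩
  rw [he, ← zpow_natCast, ← zpow_natCast, ← zpow_mul, ← zpow_mul]
  have h3 : u * (a : ℤ) = u * (b : ℤ) + 1 + ((p ^ n : ℕ) : ℤ) * (-v) := by
    linear_combination huv
  rw [h3, zpow_add, zpow_add, zpow_one, zpow_mul y₁ ((p ^ n : ℕ) : ℤ) (-v), ht', one_zpow, mul_one]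

end Cfsg.Agent.Lib.Helper89Rk
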