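import Mathlib
import Cfsg.Agent.Lib.Helper89RkDefs
import Cfsg.Agent.Lib.Helper89RkCg
import Cfsg.Agent.Lib.Helper89RkEnd
import Cfsg.Agent.Lib.Helper89RkExC
import Cfsg.Agent.Lib.Helper89RkMemC
import Cfsg.Agent.Lib.Helper89RkPowMul
import Cfsg.Agent.Lib.Helper89RkPowmem

set_option autoImplicit false

namespace Cfsg.Agent.Lib.Helper89Rk

variable {G : Type*} [Group G] {S Om Q Z C : Subgroup G} {p : ℕ}

/-- the eigenvalue argument.  `t = x ^ p`; `β t = (x ^ k w) ^ p = (x ^ k) ^ p = t ^ k` (`Frame.pow_mul`); `t ∈ Q`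
(`IsC.fix_in_Q`, `t` commutes with `x`); `t ^ k ≡ t ^ μ₂` modulo `Z` so `t ∈ Z` (`mem_of_pow_mem`); `t ^ k = t ^ μ₀` so
`t = 1` (`mem_of_pow_mem` with `H = ⊥`); then `x ∈ Om ≤ C`. -/
theorem eig [Finite S] [Fact p.Prime] (hS : IsPGroup p S) (hp : 5 ≤ p) (fr : Frame p S Om Q Z)
    (hC : IsC S Om Z C) {β : G → G} (hβ : EndOn S β) {x w : G} {k μ₂ μ₀ : ℕ} (hx : x ∈ S) (hxC : x ∉ C)
    (hxp : x ^ p ∈ Om) (hw : w ∈ Om) (hβx : β x = x ^ k * w) (hQ : ∀ q ∈ Q, Cg Z (β q) (q ^ μ₂))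
    (hZ : ∀ ζ ∈ Z, β ζ = ζ ^ μ₀) (h2 : ¬ k ≡ μ₂ [MOD p]) (h0 : ¬ k ≡ μ₀ [MOD p]) : False := by
  have hxk : x ^ k ∈ S := S.pow_mem hx k
  have hxkp : (x ^ k) ^ p ∈ Om := by
    rw [← pow_mul, mul_comm, pow_mul]
    exact Om.pow_mem hxp k
  have hβt : β (x ^ p) = (x ^ p) ^ k := by
    rw [hβ.map_pow hx, hβx, fr.pow_mul hS hp hxk hxkp hw, ← pow_mul, mul_comm, pow_mul]
  have htp : (x ^ p) ^ p = 1 := fr.pow_p hxp
  have htQ : x ^ p ∈ Q := by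
    apply hC.fix_in_Q fr hx hxC hxp
    have h1 : x * x ^ p * x⁻¹ * (x ^ p)⁻¹ = 1 := by
      rw [← pow_succ', pow_succ]
      group
    rw [h1]
    exact Z.one_mem
  have htZ : x ^ p ∈ Z := by
    obtain ⟨ζ, hζ, h1⟩ := hQ _ htQ
    rw [hβt] at h1
    apply mem_of_pow_mem htp (a := k) (b := μ₂) _ h2
    have h3 : (x ^ p) ^ k * ((x ^ p) ^ μ₂)⁻¹ = ζ := by
      rw [h1, fr.central ζ hζ _ (S.pow_mem (S.pow_mem hx p) μ₂)]
      group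
    rw [h3]
    exact hζ
  have ht1 : x ^ p = 1 := by
    have h1 := hZ _ htZ
    rw [hβt] at h1
    have h3 : x ^ p ∈ (⊥ : Subgroup G) := by
      apply mem_of_pow_mem htp (a := k) (b := μ₀) _ h0
      rw [h1, mul_inv_cancel]
      exact Subgroup.one_mem _
    exact Subgroup.mem_bot.1 h3
  exact hxC (hC.Om_le fr ((fr.mem_Om x).2 ⟨hx, ht1⟩))

end Cfsg.Agent.Lib.Helper89Rk
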