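import Mathlib
import Cfsg.Agent.Lib.Helper89RkDefs
import Cfsg.Agent.Lib.Helper89RkCg
import Cfsg.Agent.Lib.Helper3RankCop

set_option autoImplicit false

namespace Cfsg.Agent.Lib.Helper89Rk

variable {G : Type*} [Group G] {S Om Q Z C : Subgroup G} {p : ℕ}

/-- transport of the rank hypothesis to the type `↥S` -/
theorem Rk2.pRankLE (hrk : Rk2 p S) : Cfsg.PRankLE p 2 S := by
  intro E hE1 hE2
  rw [← Subgroup.card_map_of_injective (K := E) S.subtype_injective]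
  apply hrk
  · rintro _ ⟨a, _, rfl⟩
    exact a.2
  refine ⟨⟨⟨?_⟩⟩, ?_⟩
  · rintro ⟨_, a, ha, rfl⟩ ⟨_, b, hb, rfl⟩
    apply Subtype.ext
    have h1 : a * b = b * a := congrArg Subtype.val (hE1.is_comm.comm ⟨a, ha⟩ ⟨b, hb⟩)
    show (a : G) * (b : G) = (b : G) * (a : G)
    exact congrArg Subtype.val h1
  · rintro _ ⟨a, ha, rfl⟩
    have := hE2 a ha
    exact congrArg Subtype.val this

theorem Frame.mem_subgroupOf (fr : Frame p S Om Q Z) (x : S) : x ∈ Om.subgroupOf S ↔ x ^ p = 1 := by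
  rw [Subgroup.mem_subgroupOf, fr.mem_Om]
  constructor
  · rintro ⟨_, h⟩
    exact Subtype.ext (by simpa using h)
  · intro h
    exact ⟨x.2, by simpa using congrArg Subtype.val h⟩

theorem Frame.card_subgroupOf (fr : Frame p S Om Q Z) : Nat.card (Om.subgroupOf S) = p ^ 3 := by
  rw [Nat.card_congr (Subgroup.subgroupOfEquivOfLe fr.Om_le).toEquiv, fr.cardOm]

theorem inY_iff_mem_centralizer (hle : Om ≤ S) (c : S) :
    InY S Om (c : G) ↔ c ∈ Subgroup.centralizer (Om.subgroupOf S : Set S) := by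
  rw [Subgroup.mem_centralizer_iff]
  constructor
  · rintro ⟨_, h⟩ v hv
    exact Subtype.ext (h v.1 hv).symm
  · intro h
    refine ⟨c.2, fun v hv => ?_⟩
    exact (congrArg Subtype.val (h ⟨v, hle hv⟩ hv)).symm

/-- `C_S(Om)` is cyclic (`Helper3RankCop.basic` with `X = ↥S`) -/
theorem Frame.Y_cyclic [Finite S] [Fact p.Prime] (hS : IsPGroup p S) (hp : 5 ≤ p) (hrk : Rk2 p S)
    (fr : Frame p S Om Q Z) : ∃ c₀, InY S Om c₀ ∧ ∀ c, InY S Om c → ∃ n : ℕ, c = c₀ ^ n := by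
  obtain ⟨-, -, -, hcyc, -, -⟩ := Helper3RankCop.basic hS (by omega) hrk.pRankLE (Om.subgroupOf S)
    fr.mem_subgroupOf fr.card_subgroupOf
  obtain ⟨g, hg⟩ := hcyc.exists_generator
  refine ⟨g.1.1, (inY_iff_mem_centralizer fr.Om_le g.1).2 g.2, fun c hc => ?_⟩
  have hc' := (inY_iff_mem_centralizer fr.Om_le ⟨c, hc.1⟩).1 hc
  obtain ⟨n, hn⟩ := mem_powers_iff_mem_zpowers.mpr (hg ⟨⟨c, hc.1⟩, hc'⟩)
  refine ⟨n, ?_⟩
  have := congrArg (fun t => (t.1.1 : G)) hn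
  simpa using this.symm

theorem Frame.Y_comm [Finite S] [Fact p.Prime] (hS : IsPGroup p S) (hp : 5 ≤ p) (hrk : Rk2 p S)
    (fr : Frame p S Om Q Z) {c c' : G} (hc : InY S Om c) (hc' : InY S Om c') : c * c' = c' * c := by
  obtain ⟨c₀, -, h⟩ := fr.Y_cyclic hS hp hrk
  obtain ⟨n, rfl⟩ := h c hc
  obtain ⟨m, rfl⟩ := h c' hc'
  rw [← pow_add, ← pow_add, add_comm]

theorem InY.mul {c c' : G} (hc : InY S Om c) (hc' : InY S Om c') : InY S Om (c * c') := by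
  refine ⟨S.mul_mem hc.1 hc'.1, fun v hv => ?_⟩
  rw [mul_assoc, hc'.2 v hv, ← mul_assoc, hc.2 v hv, mul_assoc]

theorem InY.inv {c : G} (hc : InY S Om c) : InY S Om c⁻¹ := by
  refine ⟨S.inv_mem hc.1, fun v hv => ?_⟩
  have h := hc.2 v hv
  calc c⁻¹ * v = c⁻¹ * (v * c) * c⁻¹ := by group
    _ = c⁻¹ * (c * v) * c⁻¹ := by rw [h]
    _ = v * c⁻¹ := by group

theorem InY.pow {c : G} (hc : InY S Om c) (n : ℕ) : InY S Om (c ^ n) := by
  induction n with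
  | zero => exact ⟨by simp, fun v _ => by simp⟩
  | succ n ih =>
    rw [pow_succ]
    exact ih.mul hc

theorem InY.conj (fr : Frame p S Om Q Z) {c s : G} (hc : InY S Om c) (hs : s ∈ S) :
    InY S Om (s * c * s⁻¹) := by
  refine ⟨S.mul_mem (S.mul_mem hs hc.1) (S.inv_mem hs), fun v hv => ?_⟩
  have h1 : s⁻¹ * v * s⁻¹⁻¹ ∈ Om := fr.conj_mem_Om (S.inv_mem hs) hv
  have h := hc.2 _ h1
  calc s * c * s⁻¹ * v = s * (c * (s⁻¹ * v * s⁻¹⁻¹)) * s⁻¹ := by group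
    _ = s * ((s⁻¹ * v * s⁻¹⁻¹) * c) * s⁻¹ := by rw [h]
    _ = v * (s * c * s⁻¹) := by group

theorem InY.of_mem_Z (fr : Frame p S Om Q Z) {ζ : G} (hζ : ζ ∈ Z) : InY S Om ζ := by
  refine ⟨fr.Om_le (fr.Q_le (fr.Z_le hζ)), fun v hv => ?_⟩
  exact (((fr.mem_Z ζ).1 hζ).2 v hv).symm

/-- `C_S(Om) ∩ Om = Z` -/
theorem InY.mem_Z (fr : Frame p S Om Q Z) {c : G} (hc : InY S Om c) (hcO : c ∈ Om) : c ∈ Z := by
  exact (fr.mem_Z c).2 ⟨hcO, fun w hw => (hc.2 w hw).symm⟩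

end Cfsg.Agent.Lib.Helper89Rk
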