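import Mathlib
import Cfsg.Agent.Lib.Helper89RkDefs
import Cfsg.Agent.Lib.Helper89RkCg
import Cfsg.Agent.Lib.Helper89RkExC
import Cfsg.Agent.Lib.Helper89RkYcyc
import Cfsg.Agent.Lib.Helper3RankCop

set_option autoImplicit false

namespace Cfsg.Agent.Lib.Helper89Rk

open scoped commutatorElement

variable {G : Type*} [Group G] {S Om Q Z C : Subgroup G} {p : ℕ}

/-- `C = Om * C_S(Om)` (last clause of `Helper3RankCop.basic` with `X = ↥S`) -/
theorem IsC.decomp [Finite S] [Fact p.Prime] (hS : IsPGroup p S) (hp : 5 ≤ p) (hrk : Rk2 p S)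
    (fr : Frame p S Om Q Z) (hC : IsC S Om Z C) {s : G} (hs : s ∈ C) :
    ∃ w ∈ Om, ∃ c, InY S Om c ∧ s = w * c := by
  obtain ⟨-, -, -, -, -, hlast⟩ := Helper3RankCop.basic hS (by omega) hrk.pRankLE (Om.subgroupOf S)
    fr.mem_subgroupOf fr.card_subgroupOf
  obtain ⟨hsS, hsZ⟩ := (hC s).1 hs
  haveI : (Om.subgroupOf S).Characteristic :=
    Helper3RankCop.char_of_mem_iff (p := p) _ fr.mem_subgroupOf
  have h := hlast ⟨s, hsS⟩ (by
    intro w hw
    have hwO : (w : G) ∈ Om := hw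
    have h1 : (w : G) * s * (w : G)⁻¹ * s⁻¹ ∈ Z := by
      have := Z.inv_mem (hsZ w hwO)
      have e : (s * (w : G) * s⁻¹ * (w : G)⁻¹)⁻¹ = (w : G) * s * (w : G)⁻¹ * s⁻¹ := by group
      rwa [e] at this
    have h2 := InY.of_mem_Z fr h1
    refine ⟨?_, ?_⟩
    · show ((⁅w, (⟨s, hsS⟩ : S)⁆ : S) : G) ∈ Om
      exact fr.Q_le (fr.Z_le h1)
    · exact (inY_iff_mem_centralizer fr.Om_le _).1 h2)
  rw [Subgroup.mem_sup_of_normal_left] at h
  obtain ⟨w, hw, c, hc, hwc⟩ := h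
  exact ⟨w.1, hw, c.1, (inY_iff_mem_centralizer fr.Om_le c).2 hc,
    (congrArg Subtype.val hwc).symm⟩

end Cfsg.Agent.Lib.Helper89Rk
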