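import Mathlib
import Cfsg.Agent.Lib.Helper89RkDefs
import Cfsg.Agent.Lib.Helper89RkCg
import Cfsg.Agent.Lib.Helper89RkEnd
import Cfsg.Agent.Lib.Helper89RkExC
import Cfsg.Agent.Lib.Helper89RkCdecomp
import Cfsg.Agent.Lib.Helper89RkYcyc
import Cfsg.Agent.Lib.Helper89RkPowmem

set_option autoImplicit false

namespace Cfsg.Agent.Lib.Helper89Rk

variable {G : Type*} [Group G] {S Om Q Z C : Subgroup G} {p : ℕ}

/-- `C_S(Om) ≤ Z(S)`.  For `c'` in `Y = C_S(Om)` put `d = g c' g⁻¹ ∈ Y`.  Then `d ^ κ = β d = β g (c' ^ κ) (β g)⁻¹ =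
(g ^ k c' g ^ (-k)) ^ κ` (`c ∈ C = Om Y` centralises `Y`), so `d = g ^ k c' g ^ (-k)` (`κ` is prime to `p`, `Y` abelian
`p`-group), i.e. `g ^ k` and `g` induce the same map on `c'`; as `k ≢ 1 (mod p)` and `g` has `p`-power order, `g`
centralises `c'` (`mem_of_pow_mem'` with `H` = centraliser of `c'`). -/
theorem Y_central [Finite S] [Fact p.Prime] (hS : IsPGroup p S) (hp : 5 ≤ p) (hrk : Rk2 p S)
    (fr : Frame p S Om Q Z) (hC : IsC S Om Z C) {β : G → G} (hβ : EndOn S β) {g c : G} {k κ : ℕ}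
    (hg : g ∈ S) (hc : c ∈ C) (hβg : β g = g ^ k * c) (hk : ¬ k ≡ 1 [MOD p]) (hκ1 : κ ≡ 1 [MOD p])
    (hκ : ∀ c, InY S Om c → β c = c ^ κ) : ∀ c', InY S Om c' → g * c' = c' * g := by
  intro c' hc'
  have hpp : p.Prime := Fact.out
  have hgk : g ^ k ∈ S := S.pow_mem hg k
  have hd : InY S Om (g * c' * g⁻¹) := hc'.conj fr hg
  have hd' : InY S Om (g ^ k * c' * (g ^ k)⁻¹) := hc'.conj fr hgk
  obtain ⟨w₁, hw₁, y₁, hy₁, rfl⟩ := hC.decomp hS hp hrk fr hc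
  -- `c` centralises `c' ^ κ`
  have hcc : (w₁ * y₁) * c' ^ κ * (w₁ * y₁)⁻¹ = c' ^ κ := by
    have h1 : c' ^ κ * w₁ = w₁ * c' ^ κ := (hc'.pow κ).2 w₁ hw₁
    have h2 : y₁ * c' ^ κ = c' ^ κ * y₁ := fr.Y_comm hS hp hrk hy₁ (hc'.pow κ)
    rw [mul_assoc w₁, h2, ← mul_assoc, ← h1]
    group
  have h1 : (g * c' * g⁻¹) ^ κ = (g ^ k * c' * (g ^ k)⁻¹) ^ κ := by
    rw [← hκ _ hd, hβ.map_conj hg hc'.1, hκ _ hc', hβg, conj_pow]
    calc g ^ k * (w₁ * y₁) * c' ^ κ * (g ^ k * (w₁ * y₁))⁻¹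
        = g ^ k * ((w₁ * y₁) * c' ^ κ * (w₁ * y₁)⁻¹) * (g ^ k)⁻¹ := by group
      _ = g ^ k * c' ^ κ * (g ^ k)⁻¹ := by rw [hcc]
  have hu : g * c' * g⁻¹ * (g ^ k * c' * (g ^ k)⁻¹)⁻¹ = 1 := by
    have hcomm : Commute (g * c' * g⁻¹) (g ^ k * c' * (g ^ k)⁻¹)⁻¹ :=
      fr.Y_comm hS hp hrk hd hd'.inv
    have huS : g * c' * g⁻¹ * (g ^ k * c' * (g ^ k)⁻¹)⁻¹ ∈ S := (hd.mul hd'.inv).1
    obtain ⟨n, hn⟩ := hS ⟨_, huS⟩
    have hn' : (g * c' * g⁻¹ * (g ^ k * c' * (g ^ k)⁻¹)⁻¹) ^ p ^ n = 1 := by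
      simpa using congrArg Subtype.val hn
    have h3 : g * c' * g⁻¹ * (g ^ k * c' * (g ^ k)⁻¹)⁻¹ ∈ (⊥ : Subgroup G) := by
      apply mem_of_pow_mem' hn' (a := κ) (b := 0)
      · rw [hcomm.mul_pow, h1, inv_pow, mul_inv_cancel, pow_zero, inv_one, mul_one]
        exact Subgroup.one_mem _
      · intro h4
        have h5 : 1 ≡ 0 [MOD p] := hκ1.symm.trans h4
        have h6 : p ∣ 1 := (Nat.modEq_zero_iff_dvd.1 h5)
        exact hpp.one_lt.ne' (Nat.dvd_one.1 h6)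
    exact Subgroup.mem_bot.1 h3
  have heq : g * c' * g⁻¹ = g ^ k * c' * (g ^ k)⁻¹ := mul_inv_eq_one.1 hu
  obtain ⟨n, hn⟩ := hS ⟨g, hg⟩
  have hn' : g ^ p ^ n = 1 := by simpa using congrArg Subtype.val hn
  have hmem : g ∈ Subgroup.centralizer ({c'} : Set G) := by
    apply mem_of_pow_mem' hn' (a := k) (b := 1) _ hk
    rw [Subgroup.mem_centralizer_iff]
    intro h hh
    rw [Set.mem_singleton_iff] at hh
    subst hh
    rw [pow_one]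
    have h2 : g ^ k * g⁻¹ = g⁻¹ * g ^ k := by
      have : Commute (g ^ k) g⁻¹ := ((Commute.refl g).pow_left k).inv_right
      exact this
    have h3 : g ^ k * h = g * h * g⁻¹ * g ^ k := by
      rw [heq]
      group
    calc h * (g ^ k * g⁻¹) = g⁻¹ * (g * h * g⁻¹ * g ^ k) := by rw [h2]; group
      _ = g⁻¹ * (g ^ k * h) := by rw [h3]
      _ = g ^ k * g⁻¹ * h := by rw [h2]; group
  rw [Subgroup.mem_centralizer_iff] at hmem
  exact (hmem c' rfl).symm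

end Cfsg.Agent.Lib.Helper89Rk
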