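import Mathlib
import Cfsg.Agent.Lib.Helper89RkDefs
import Cfsg.Agent.Lib.Helper89RkCg
import Cfsg.Agent.Lib.Helper89RkEnd
import Cfsg.Agent.Lib.Helper89RkExC
import Cfsg.Agent.Lib.Helper89RkCdecomp
import Cfsg.Agent.Lib.Helper89RkYcyc
import Cfsg.Agent.Lib.Helper89RkPowmem
import Cfsg.Agent.Lib.Helper89RkYcentral

set_option autoImplicit false

namespace Cfsg.Agent.Lib.Helper89Rk

variable {G : Type*} [Group G] {S Om Q Z C : Subgroup G} {p : ℕ}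

/-- an eigenvector modulo `Om`.  `c = w₁ y₁` (`IsC.decomp`); choose `y₀ = y₁ ^ e` with `y₀ ^ k = y₀ ^ κ * y₁`
(`exists_pow_solve`); `x = g * y₀`.  As `y₀` commutes with `g` (`Y_central`) and with `Om`:
`β x = g ^ k w₁ y₁ y₀ ^ κ = g ^ k y₀ ^ k w₁ = x ^ k w₁`. -/
theorem exists_eig [Finite S] [Fact p.Prime] (hS : IsPGroup p S) (hp : 5 ≤ p) (hrk : Rk2 p S)
    (fr : Frame p S Om Q Z) (hC : IsC S Om Z C) {β : G → G} (hβ : EndOn S β) {g c : G} {k κ : ℕ}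
    (hg : g ∈ S) (hgC : g ∉ C) (hc : c ∈ C) (hβg : β g = g ^ k * c) (hk : ¬ k ≡ 1 [MOD p])
    (hκ1 : κ ≡ 1 [MOD p]) (hκ : ∀ c, InY S Om c → β c = c ^ κ) :
    ∃ x ∈ S, x ∉ C ∧ ∃ w ∈ Om, β x = x ^ k * w := by
  have hcen := Y_central hS hp hrk fr hC hβ hg hc hβg hk hκ1 hκ
  obtain ⟨w₁, hw₁, y₁, hy₁, rfl⟩ := hC.decomp hS hp hrk fr hc
  obtain ⟨n, hn⟩ := hS ⟨y₁, hy₁.1⟩
  have hn' : y₁ ^ p ^ n = 1 := by simpa using congrArg Subtype.val hn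
  have hkκ : ¬ k ≡ κ [MOD p] := fun h => hk (h.trans hκ1)
  obtain ⟨e, he⟩ := exists_pow_solve hn' hkκ
  have hy₀ : InY S Om (y₁ ^ e) := hy₁.pow e
  refine ⟨g * y₁ ^ e, S.mul_mem hg hy₀.1, ?_, w₁, hw₁, ?_⟩
  · intro hx
    apply hgC
    have h1 : g = g * y₁ ^ e * (y₁ ^ e)⁻¹ := by group
    rw [h1]
    exact C.mul_mem hx (C.inv_mem (hC.of_inY hy₀))
  · have hcomm : Commute g (y₁ ^ e) := hcen _ hy₀
    rw [hβ.mul g hg _ hy₀.1, hβg, hκ _ hy₀, hcomm.mul_pow, he]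
    have h1 : (y₁ ^ e) ^ κ * y₁ * w₁ = w₁ * ((y₁ ^ e) ^ κ * y₁) := ((hy₀.pow κ).mul hy₁).2 w₁ hw₁
    have h2 : (y₁ ^ e) ^ κ * y₁ = y₁ * (y₁ ^ e) ^ κ := by
      rw [← pow_mul, ← pow_succ, ← pow_succ']
    rw [mul_assoc (g ^ k) _ w₁, h1, h2]
    group

end Cfsg.Agent.Lib.Helper89Rk
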