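import Mathlib
import Cfsg.Agent.Lib.Helper89RkDefs
import Cfsg.Agent.Lib.Helper89RkCg
import Cfsg.Agent.Lib.Helper89RkExC
import Cfsg.Agent.Lib.Helper89RkCoords
import Cfsg.Agent.Lib.Helper89RkMemC
import Cfsg.Agent.Lib.Helper89RkActG

set_option autoImplicit false

namespace Cfsg.Agent.Lib.Helper89Rk

variable {G : Type*} [Group G] {S Om Q Z C : Subgroup G} {p : ℕ}

theorem Frame.mul_inv_mem_of_cg (fr : Frame p S Om Q Z) {a y : G} (hy : y ∈ S) (h : Cg Z a y) :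
    a * y⁻¹ ∈ Z := by
  obtain ⟨ζ, hζ, rfl⟩ := h
  rw [fr.central ζ hζ y hy, mul_inv_cancel_right]
  exact hζ

/-- `S = ⟨g⟩ C`: given `s`, with `g y g⁻¹ ≡ y z ^ a`, `s y s⁻¹ ≡ y z ^ b`, choose `k` with `a k ≡ b (mod p)`; then
`(g ^ k)⁻¹ * s` centralises `y` modulo `Z`, so it is in `C` (`IsC.mem_of_gen`). -/
theorem IsC.gen [Fact p.Prime] (hC : IsC S Om Z C) (fr : Frame p S Om Q Z) {g : G} (hg : g ∈ S)
    (hgC : g ∉ C) : ∀ s ∈ S, ∃ k : ℕ, ∃ c ∈ C, s = g ^ k * c := by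
  intro s hs
  have hp : p.Prime := Fact.out
  obtain ⟨y, z, hy, hyQ, hz, hzZ⟩ := fr.exists_yz
  obtain ⟨a, ha, hga⟩ := hC.act_g fr hg hgC hy hyQ hz hzZ
  obtain ⟨b, hsb⟩ := fr.act_s hs hy hyQ hz hzZ
  obtain ⟨a', -, ha'⟩ := Nat.exists_mul_mod_eq_one_of_coprime
    ((Nat.Prime.coprime_iff_not_dvd hp).2 ha).symm hp.one_lt
  have hzp : z ^ p = 1 := fr.pow_p (fr.Q_le hz)
  have hk : z ^ (a * (a' * b)) = z ^ b := by
    rw [← mul_assoc, pow_mul, pow_eq_pow_mod (a * a') hzp, ha', pow_one]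
  have h1 := fr.act_pow hg hy hz hga (a' * b)
  rw [hk] at h1
  obtain ⟨ζ, hζ, h2⟩ := hsb.trans h1.symm
  have hgk : g ^ (a' * b) ∈ S := S.pow_mem hg _
  refine ⟨a' * b, (g ^ (a' * b))⁻¹ * s, ?_, by group⟩
  refine hC.mem_of_gen fr (S.mul_mem (S.inv_mem hgk) hs) hy hyQ ?_
  have e : (g ^ (a' * b))⁻¹ * s * y * ((g ^ (a' * b))⁻¹ * s)⁻¹ * y⁻¹ =
      (g ^ (a' * b))⁻¹ * (s * y * s⁻¹) * g ^ (a' * b) * y⁻¹ := by group
  rw [e, h2]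
  have h3 := fr.central ζ hζ _ hgk
  have e2 : (g ^ (a' * b))⁻¹ * (g ^ (a' * b) * y * (g ^ (a' * b))⁻¹ * ζ) * g ^ (a' * b) * y⁻¹ =
      y * ((g ^ (a' * b))⁻¹ * (ζ * g ^ (a' * b))) * y⁻¹ := by group
  rw [e2, ← h3, inv_mul_cancel_left, fr.central ζ hζ y (fr.Om_le hy), mul_inv_cancel_right]
  exact hζ

theorem IsC.pow_p_mem [Fact p.Prime] (hC : IsC S Om Z C) (fr : Frame p S Om Q Z) {g : G} (hg : g ∈ S) :
    g ^ p ∈ C := by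
  obtain ⟨y, z, hy, hyQ, hz, hzZ⟩ := fr.exists_yz
  obtain ⟨a, hga⟩ := fr.act_s hg hy hyQ hz hzZ
  have hzp : z ^ p = 1 := fr.pow_p (fr.Q_le hz)
  have h1 := fr.act_pow hg hy hz hga p
  rw [mul_comm a p, pow_mul, hzp, one_pow, mul_one] at h1
  exact hC.mem_of_gen fr (S.pow_mem hg _) hy hyQ (fr.mul_inv_mem_of_cg (fr.Om_le hy) h1)

end Cfsg.Agent.Lib.Helper89Rk
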