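import Mathlib
import Cfsg.Agent.Lib.Helper89RkDefs

set_option autoImplicit false

namespace Cfsg.Agent.Lib.Helper89Rk

variable {G : Type*} [Group G] {S Om Q Z C : Subgroup G} {p : ℕ}

/-- arithmetic for `App1` -/
theorem nt1 [Fact p.Prime] {l l' k : ℕ} (hl : l * l' ≡ 1 [MOD p]) (hl2 : ¬ l * l ≡ 1 [MOD p])
    (hk : l' ≡ k * l [MOD p]) : ¬ k ≡ 1 [MOD p] ∧ ¬ k ≡ l' [MOD p] := by
  simp only [← ZMod.natCast_eq_natCast_iff] at *
  push_cast at *
  constructor
  · intro h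
    apply hl2
    rw [h, one_mul] at hk
    rw [← hl, hk]
  · intro h
    apply hl2
    rw [h, mul_comm, hl] at hk
    rw [hk, mul_one] at hl
    rw [hl, mul_one]

/-- arithmetic for `App2` -/
theorem nt2 [Fact p.Prime] {l l' k m : ℕ} (hl : l * l' ≡ 1 [MOD p]) (hl2 : ¬ l * l ≡ 1 [MOD p])
    (hm : l * m ≡ l' [MOD p]) (hk : m ≡ k * l [MOD p]) : ¬ k ≡ m [MOD p] ∧ ¬ k ≡ l' [MOD p] := by
  simp only [← ZMod.natCast_eq_natCast_iff] at *
  push_cast at *
  constructor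
  · intro h
    apply hl2
    have hm0 : (m : ZMod p) ≠ 0 := by
      intro h0
      rw [h0, mul_zero] at hm
      rw [← hm, mul_zero] at hl
      exact zero_ne_one hl
    have h1 : (m : ZMod p) * ((l : ZMod p) - 1) = 0 := by
      rw [h] at hk
      linear_combination -hk
    have h2 : (l : ZMod p) = 1 := by
      rcases mul_eq_zero.1 h1 with h3 | h3
      · exact absurd h3 hm0
      · linear_combination h3
    rw [h2, mul_one]
  · intro h
    apply hl2
    rw [h, mul_comm, hl] at hk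
    rw [hk, mul_one] at hm
    rw [← hm] at hl
    exact hl

theorem nt3 [Fact p.Prime] (hp : 5 ≤ p) :
    ∃ l' : ℕ, 2 * l' ≡ 1 [MOD p] ∧ ¬ 2 * 2 ≡ 1 [MOD p] := by
  have hodd : p % 2 = 1 := by
    rcases (Fact.out : p.Prime).eq_two_or_odd with h | h
    · omega
    · exact h
  refine ⟨(p + 1) / 2, ?_, ?_⟩
  · have h1 : 2 * ((p + 1) / 2) = 1 + p * 1 := by omega
    rw [h1]
    unfold Nat.ModEq
    rw [Nat.add_mul_mod_self_left]
  · unfold Nat.ModEq
    rw [Nat.mod_eq_of_lt (by omega : 2 * 2 < p), Nat.mod_eq_of_lt (by omega : 1 < p)]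
    norm_num

theorem nt4 [Fact p.Prime] : (p - 1) * (p - 1) ≡ 1 [MOD p] := by
  have h2 : 2 ≤ p := (Fact.out : p.Prime).two_le
  obtain ⟨q, rfl⟩ : ∃ q, p = q + 2 := ⟨p - 2, by omega⟩
  have h1 : (q + 2 - 1) * (q + 2 - 1) = 1 + (q + 2) * q := by
    have : q + 2 - 1 = q + 1 := by omega
    rw [this]
    ring
  rw [h1]
  unfold Nat.ModEq
  rw [Nat.add_mul_mod_self_left]

end Cfsg.Agent.Lib.Helper89Rk
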