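import Mathlib
import Cfsg.Agent.Lib.Helper89RkDefs
import Cfsg.Agent.Lib.Helper89RkCg
import Cfsg.Agent.Lib.Helper89RkEnd
import Cfsg.Agent.Lib.Helper89RkExC
import Cfsg.Agent.Lib.Helper89RkCoords
import Cfsg.Agent.Lib.Helper89RkActG

set_option autoImplicit false

namespace Cfsg.Agent.Lib.Helper89Rk

variable {G : Type*} [Group G] {S Om Q Z C : Subgroup G} {p : ℕ}

/-- the weight of `β` on `S / C`: compare `β (g y g⁻¹) ≡ y ^ μ₁ z ^ (μ₂ a)` with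
`β g * β y * (β g)⁻¹ ≡ g ^ k y ^ μ₁ g ^ (-k) ≡ y ^ μ₁ z ^ (a k μ₁)` modulo `Z`. -/
theorem weight_S [Finite S] [Fact p.Prime] (fr : Frame p S Om Q Z) (hC : IsC S Om Z C) {β : G → G}
    (hβ : EndOn S β) {g y z c : G} {a k μ₁ μ₂ : ℕ} (hg : g ∈ S) (hy : y ∈ Om) (hyQ : y ∉ Q) (hz : z ∈ Q)
    (hzZ : z ∉ Z) (hc : c ∈ C) (ha : ¬ p ∣ a) (hgy : Cg Z (g * y * g⁻¹) (y * z ^ a))
    (hβy : Cg Z (β y) (y ^ μ₁)) (hβz : Cg Z (β z) (z ^ μ₂)) (hβg : β g = g ^ k * c) :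
    μ₂ ≡ k * μ₁ [MOD p] := by
  have hp : p.Prime := Fact.out
  have hcen := fr.central
  have hle := fr.Om_le
  have hyS : y ∈ S := hle hy
  have hzOm : z ∈ Om := fr.Q_le hz
  have hzS : z ∈ S := hle hzOm
  have hcS : c ∈ S := hC.le hc
  -- right hand side
  have R1 : Cg Z (β (g * y * g⁻¹)) (β (y * z ^ a)) :=
    hβ.cg fr hgy (S.mul_mem hyS (S.pow_mem hzS a))
  have R2 : β (y * z ^ a) = β y * (β z) ^ a := by
    rw [hβ.mul y hyS _ (S.pow_mem hzS a), hβ.map_pow hzS]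
  have R3 : Cg Z (β y * (β z) ^ a) (y ^ μ₁ * (z ^ μ₂) ^ a) :=
    Cg.mul hcen hβy (Cg.pow hcen hβz (S.pow_mem hzS _) a) (S.pow_mem (S.pow_mem hzS _) _)
  have R : Cg Z (β (g * y * g⁻¹)) (y ^ μ₁ * (z ^ μ₂) ^ a) := by
    rw [R2] at R1
    exact R1.trans R3
  -- left hand side
  have L1 : β (g * y * g⁻¹) = β g * β y * (β g)⁻¹ := hβ.map_conj hg hyS
  have hsS : g ^ k * c ∈ S := S.mul_mem (S.pow_mem hg k) hcS
  have L2 : Cg Z ((g ^ k * c) * β y * (g ^ k * c)⁻¹) ((g ^ k * c) * y ^ μ₁ * (g ^ k * c)⁻¹) :=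
    Cg.conj hcen hβy hsS
  have L3 : (g ^ k * c) * y ^ μ₁ * (g ^ k * c)⁻¹ = g ^ k * (c * y ^ μ₁ * c⁻¹) * (g ^ k)⁻¹ := by
    group
  have L4 : Cg Z (c * y ^ μ₁ * c⁻¹) (y ^ μ₁) := hC.cg_conj hc (Om.pow_mem hy _)
  have L5 : Cg Z (g ^ k * (c * y ^ μ₁ * c⁻¹) * (g ^ k)⁻¹) (g ^ k * y ^ μ₁ * (g ^ k)⁻¹) :=
    Cg.conj hcen L4 (S.pow_mem hg k)
  have L6 : g ^ k * y ^ μ₁ * (g ^ k)⁻¹ = (g ^ k * y * (g ^ k)⁻¹) ^ μ₁ := (conj_pow).symm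
  have L7 : Cg Z (g ^ k * y * (g ^ k)⁻¹) (y * z ^ (a * k)) := fr.act_pow hg hy hz hgy k
  have L8 : Cg Z ((g ^ k * y * (g ^ k)⁻¹) ^ μ₁) ((y * z ^ (a * k)) ^ μ₁) :=
    Cg.pow hcen L7 (S.mul_mem hyS (S.pow_mem hzS _)) μ₁
  have L9 : Cg Z ((y * z ^ (a * k)) ^ μ₁) (y ^ μ₁ * (z ^ (a * k)) ^ μ₁) :=
    fr.cg_mul_pow hy (Om.pow_mem hzOm _) μ₁
  have L : Cg Z (β (g * y * g⁻¹)) (y ^ μ₁ * (z ^ (a * k)) ^ μ₁) := by
    rw [L1, hβg]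
    rw [L3] at L2
    rw [L6] at L5
    exact ((L2.trans L5).trans L8).trans L9
  have key : Cg Z (y ^ μ₁ * (z ^ μ₂) ^ a) (y ^ μ₁ * (z ^ (a * k)) ^ μ₁) := R.symm.trans L
  rw [cg_iff, ← pow_mul, ← pow_mul] at key
  have key2 : (z ^ (a * k * μ₁))⁻¹ * z ^ (μ₂ * a) ∈ Z := by
    have e : (y ^ μ₁ * z ^ (a * k * μ₁))⁻¹ * (y ^ μ₁ * z ^ (μ₂ * a)) =
        (z ^ (a * k * μ₁))⁻¹ * z ^ (μ₂ * a) := by group
    rwa [e] at key
  have hdiv := (fr.coords hy hyQ hz hzZ).2.2.2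
  have hmod : a * μ₂ ≡ a * (k * μ₁) [MOD p] := by
    rcases le_total (a * k * μ₁) (μ₂ * a) with hle' | hle'
    · have e : (z ^ (a * k * μ₁))⁻¹ * z ^ (μ₂ * a) = z ^ (μ₂ * a - a * k * μ₁) := by
        rw [pow_sub _ hle', (Commute.pow_pow_self z _ _).inv_right.eq]
      rw [e] at key2
      have := hdiv _ key2
      have h2 := (Nat.modEq_iff_dvd' hle').2 this
      have e1 : a * μ₂ = μ₂ * a := by ring
      have e2 : a * (k * μ₁) = a * k * μ₁ := by ring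
      rw [e1, e2]
      exact h2.symm
    · have key3 := Z.inv_mem key2
      have e : ((z ^ (a * k * μ₁))⁻¹ * z ^ (μ₂ * a))⁻¹ = z ^ (a * k * μ₁ - μ₂ * a) := by
        rw [pow_sub _ hle', mul_inv_rev, inv_inv, (Commute.pow_pow_self z _ _).inv_left.eq]
      rw [e] at key3
      have := hdiv _ key3
      have h2 := (Nat.modEq_iff_dvd' hle').2 this
      have e1 : a * μ₂ = μ₂ * a := by ring
      have e2 : a * (k * μ₁) = a * k * μ₁ := by ring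
      rw [e1, e2]
      exact h2
  exact Nat.ModEq.cancel_left_of_coprime
    (by rw [Nat.coprime_comm.1 ((Nat.Prime.coprime_iff_not_dvd hp).2 ha) |>.symm.gcd_eq_one]) hmod

end Cfsg.Agent.Lib.Helper89Rk
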