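import Mathlib
import Cfsg.Agent.Lib.Helper89RkDefs
import Cfsg.Agent.Lib.Helper89RkCg
import Cfsg.Agent.Lib.Helper89RkCoords

set_option autoImplicit false

namespace Cfsg.Agent.Lib.Helper89Rk

variable {G : Type*} [Group G] {S Om Q Z C : Subgroup G} {p : ℕ}

/-- `a b = c b a`, `c` commuting with `a`, `b`: `a b ^ n = c ^ n b ^ n a`. -/
theorem commgen_pow_right {a b c : G} (h : a * b = c * b * a) (hcb : Commute c b) (n : ℕ) :
    a * b ^ n = c ^ n * b ^ n * a := by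
  induction n with
  | zero => simp
  | succ n ih =>
    calc a * b ^ (n + 1) = (a * b ^ n) * b := by rw [pow_succ, mul_assoc]
      _ = c ^ n * b ^ n * (a * b) := by rw [ih]; simp only [mul_assoc]
      _ = c ^ n * (b ^ n * c) * b * a := by rw [h]; simp only [mul_assoc]
      _ = c ^ n * (c * b ^ n) * b * a := by rw [(hcb.pow_right n).eq]
      _ = c ^ (n + 1) * b ^ (n + 1) * a := by rw [pow_succ, pow_succ]; simp only [mul_assoc]

/-- `a b = c b a`, `c` commuting with `a`, `b`: `a ^ m b = c ^ m b a ^ m`. -/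
theorem commgen_pow_left {a b c : G} (h : a * b = c * b * a) (hca : Commute c a) (m : ℕ) :
    a ^ m * b = c ^ m * b * a ^ m := by
  induction m with
  | zero => simp
  | succ m ih =>
    calc a ^ (m + 1) * b = a ^ m * (a * b) := by rw [pow_succ, mul_assoc]
      _ = (a ^ m * c) * b * a := by rw [h]; simp only [mul_assoc]
      _ = c * (a ^ m * b) * a := by rw [← (hca.pow_right m).eq]; simp only [mul_assoc]
      _ = c * c ^ m * b * (a ^ m * a) := by rw [ih]; simp only [mul_assoc]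
      _ = c ^ (m + 1) * b * a ^ (m + 1) := by rw [← pow_succ, ← pow_succ']

theorem Frame.commgen_central (fr : Frame p S Om Q Z) {ζ s : G} (hζ : ζ ∈ Z) (hs : s ∈ Om) :
    Commute ζ s :=
  (fr.central ζ hζ s (((fr.mem_Om s).mp hs).1)).symm

/-- bilinearity of the commutator in `Om` -/
theorem Frame.comm_pow (fr : Frame p S Om Q Z) {a b : G} (ha : a ∈ Om) (hb : b ∈ Om) (m n : ℕ) :
    a ^ m * b ^ n * (a ^ m)⁻¹ * (b ^ n)⁻¹ = (a * b * a⁻¹ * b⁻¹) ^ (m * n) := by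
  set c := a * b * a⁻¹ * b⁻¹ with hc
  have hcZ : c ∈ Z := fr.comm a ha b hb
  have h : a * b = c * b * a := by rw [hc]; group
  have h1 := commgen_pow_right h (fr.commgen_central hcZ hb) n
  have h2 := commgen_pow_left h1 ((fr.commgen_central hcZ ha).pow_left n) m
  rw [h2, ← pow_mul, mul_comm n m]
  group

/-- the commutator only depends on the classes modulo `Z` -/
theorem Frame.comm_congr (fr : Frame p S Om Q Z) {a a' b b' : G} (ha : a' ∈ Om) (hb : b' ∈ Om)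
    (h1 : Cg Z a a') (h2 : Cg Z b b') : a * b * a⁻¹ * b⁻¹ = a' * b' * a'⁻¹ * b'⁻¹ := by
  obtain ⟨ζ, hζ, rfl⟩ := h1
  obtain ⟨ξ, hξ, rfl⟩ := h2
  have c1 : Commute ζ a' := fr.commgen_central hζ ha
  have c2 : Commute ζ b' := fr.commgen_central hζ hb
  have c3 : Commute ξ a' := fr.commgen_central hξ ha
  have c4 : Commute ξ b' := fr.commgen_central hξ hb
  have c5 : Commute ζ ξ := fr.commgen_central hζ (fr.Q_le (fr.Z_le hξ))
  have e1 : a' * ζ * (b' * ξ) = a' * b' * (ζ * ξ) := by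
    rw [mul_assoc a', ← mul_assoc ζ, c2.eq]; simp only [mul_assoc]
  have e2 : (a' * ζ)⁻¹ = ζ⁻¹ * a'⁻¹ := by rw [mul_inv_rev]
  have e3 : (b' * ξ)⁻¹ = ξ⁻¹ * b'⁻¹ := by rw [mul_inv_rev]
  rw [e1, e2, e3]
  have e4 : a' * b' * (ζ * ξ) * (ζ⁻¹ * a'⁻¹) * (ξ⁻¹ * b'⁻¹) =
      a' * b' * (ξ * a'⁻¹ * ξ⁻¹) * b'⁻¹ := by
    rw [c5.eq]; group
  rw [e4, (c3.inv_right).eq]
  group

/-- `[y, z]` generates `Z` -/
theorem Frame.comm_gen [Fact p.Prime] (fr : Frame p S Om Q Z) {y z : G} (hy : y ∈ Om) (hyQ : y ∉ Q)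
    (hz : z ∈ Q) (hzZ : z ∉ Z) :
    y * z * y⁻¹ * z⁻¹ ≠ 1 ∧ ∀ ζ ∈ Z, ∃ l : ℕ, ζ = (y * z * y⁻¹ * z⁻¹) ^ l := by
  have hzOm : z ∈ Om := fr.Q_le hz
  have hne : y * z * y⁻¹ * z⁻¹ ≠ 1 := by
    intro h
    have hyz : Commute y z := by
      unfold Commute SemiconjBy
      have : y * z = (y * z * y⁻¹ * z⁻¹) * (z * y) := by group
      rw [this, h, one_mul]
    apply hzZ
    rw [fr.mem_Z]
    refine ⟨hzOm, fun w hw => ?_⟩
    obtain ⟨i, j, ζ, hζ, rfl⟩ := (fr.coords hy hyQ hz hzZ).1 w hw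
    have c1 : Commute (y ^ i) z := hyz.pow_left i
    have c2 : Commute (z ^ j) z := (Commute.refl z).pow_left j
    have c3 : Commute ζ z := fr.commgen_central hζ hzOm
    exact ((c1.mul_left c2).mul_left c3).eq
  refine ⟨hne, fun ζ hζ => ?_⟩
  have hcZ : y * z * y⁻¹ * z⁻¹ ∈ Z := fr.comm y hy z hzOm
  have hne' : (⟨y * z * y⁻¹ * z⁻¹, hcZ⟩ : Z) ≠ 1 := by
    intro h
    exact hne (congrArg Subtype.val h)
  have := mem_powers_of_prime_card (G := Z) (g' := ⟨ζ, hζ⟩) fr.cardZ hne'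
  obtain ⟨l, hl⟩ := this
  exact ⟨l, (congrArg Subtype.val hl).symm⟩

end Cfsg.Agent.Lib.Helper89Rk
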