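import Mathlib
import Cfsg.Agent.Lib.Helper89RkDefs
import Cfsg.Agent.Lib.Helper89RkCg
import Cfsg.Agent.Lib.Helper89RkEnd
import Cfsg.Agent.Lib.Helper89RkCoords
import Cfsg.Agent.Lib.Helper89RkCommGen

set_option autoImplicit false

namespace Cfsg.Agent.Lib.Helper89Rk

variable {G : Type*} [Group G] {S Om Q Z C : Subgroup G} {p : ℕ}

/-- the weight of `β` on `Z = ⟨[y, z]⟩` -/
theorem weight_Z [Finite S] [Fact p.Prime] (fr : Frame p S Om Q Z) {β : G → G}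
    (hβ : EndOn S β) {y z : G} {μ₁ μ₂ : ℕ} (hy : y ∈ Om) (hyQ : y ∉ Q) (hz : z ∈ Q)
    (hzZ : z ∉ Z) (hβy : Cg Z (β y) (y ^ μ₁)) (hβz : Cg Z (β z) (z ^ μ₂)) :
    ∀ ζ ∈ Z, β ζ = ζ ^ (μ₁ * μ₂) := by
  intro ζ hζ
  have hle := fr.Om_le
  have hzOm : z ∈ Om := fr.Q_le hz
  have hyS : y ∈ S := hle hy
  have hzS : z ∈ S := hle hzOm
  obtain ⟨-, hgen⟩ := fr.comm_gen hy hyQ hz hzZ
  obtain ⟨l, rfl⟩ := hgen ζ hζ
  have hcS : y * z * y⁻¹ * z⁻¹ ∈ S :=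
    S.mul_mem (S.mul_mem (S.mul_mem hyS hzS) (S.inv_mem hyS)) (S.inv_mem hzS)
  have hβc : β (y * z * y⁻¹ * z⁻¹) = (y * z * y⁻¹ * z⁻¹) ^ (μ₁ * μ₂) := by
    rw [hβ.mul _ (S.mul_mem (S.mul_mem hyS hzS) (S.inv_mem hyS)) _ (S.inv_mem hzS),
      hβ.map_conj hyS hzS, hβ.map_inv hzS,
      fr.comm_congr (Om.pow_mem hy μ₁) (Om.pow_mem hzOm μ₂) hβy hβz, fr.comm_pow hy hzOm]
  rw [hβ.map_pow hcS, hβc, ← pow_mul, ← pow_mul, mul_comm]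

/-- the weight of `β` on `Q / Z` -/
theorem weight_Q [Finite S] [Fact p.Prime] (fr : Frame p S Om Q Z) {β : G → G}
    (hβ : EndOn S β) {z : G} {μ₂ : ℕ} (hz : z ∈ Q) (hzZ : z ∉ Z) (hβz : Cg Z (β z) (z ^ μ₂)) :
    ∀ q ∈ Q, Cg Z (β q) (q ^ μ₂) := by
  intro q hq
  have hle := fr.Om_le
  have hzOm : z ∈ Om := fr.Q_le hz
  have hzS : z ∈ S := hle hzOm
  obtain ⟨y, -, hy, hyQ, -, -⟩ := fr.exists_yz
  obtain ⟨-, hQ, -, -⟩ := fr.coords hy hyQ hz hzZ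
  obtain ⟨j, ζ, hζ, rfl⟩ := hQ q hq
  have h0 : Cg Z (z ^ j * ζ) (z ^ j) := cg_mul_right _ hζ
  have h1 : Cg Z (β (z ^ j * ζ)) (β (z ^ j)) := hβ.cg fr h0 (S.pow_mem hzS j)
  rw [hβ.map_pow hzS] at h1
  have h2 : Cg Z ((β z) ^ j) ((z ^ μ₂) ^ j) := Cg.pow fr.central hβz (S.pow_mem hzS _) j
  have h3 : Cg Z ((z ^ j * ζ) ^ μ₂) ((z ^ j) ^ μ₂) := Cg.pow fr.central h0 (S.pow_mem hzS _) μ₂
  have e : (z ^ μ₂) ^ j = (z ^ j) ^ μ₂ := by rw [← pow_mul, ← pow_mul, mul_comm]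
  rw [e] at h2
  exact (h1.trans h2).trans h3.symm

/-- two weights on `Z` agree modulo `p` -/
theorem weight_unique [Fact p.Prime] (fr : Frame p S Om Q Z) {β : G → G} {m n : ℕ}
    (h1 : ∀ ζ ∈ Z, β ζ = ζ ^ m) (h2 : ∀ ζ ∈ Z, β ζ = ζ ^ n) : m ≡ n [MOD p] := by
  have hp : p.Prime := Fact.out
  have hnt : Nontrivial Z := by
    haveI : Finite Z := Nat.finite_of_card_ne_zero (by rw [fr.cardZ]; exact hp.ne_zero)
    rw [← Finite.one_lt_card_iff_nontrivial, fr.cardZ]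
    exact hp.one_lt
  obtain ⟨ζ, hζ⟩ := exists_ne (1 : Z)
  have hord : orderOf ζ = p := by
    have hdvd : orderOf ζ ∣ p := by
      rw [← fr.cardZ]; exact orderOf_dvd_natCard ζ
    rcases (Nat.dvd_prime hp).1 hdvd with h | h
    · exact absurd (orderOf_eq_one_iff.1 h) hζ
    · exact h
  have h := (h1 ζ ζ.2).symm.trans (h2 ζ ζ.2)
  have h' : ζ ^ m = ζ ^ n := Subtype.ext (by simpa using h)
  rw [pow_eq_pow_iff_modEq, hord] at h'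
  exact h'

end Cfsg.Agent.Lib.Helper89Rk
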