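import Mathlib
import Cfsg.Agent.Lib.Helper89RkDefs
import Cfsg.Agent.Lib.Helper89RkCg
import Cfsg.Agent.Lib.Helper89RkEnd
import Cfsg.Agent.Lib.Helper89RkYcyc

set_option autoImplicit false

namespace Cfsg.Agent.Lib.Helper89Rk

variable {G : Type*} [Group G] {S Om Q Z C : Subgroup G} {p : ℕ}

/-- `β` acts on the cyclic group `C_S(Om)` as a power map `c ↦ c ^ κ`, and `κ ≡ 1 (mod p)` if `β` is trivial on `Z` -/
theorem Y_power [Finite S] [Fact p.Prime] (hS : IsPGroup p S) (hp : 5 ≤ p) (hrk : Rk2 p S)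
    (fr : Frame p S Om Q Z) {β : G → G} (hβ : EndOn S β) (hβZ : ∀ ζ ∈ Z, β ζ = ζ) :
    ∃ κ : ℕ, κ ≡ 1 [MOD p] ∧ ∀ c, InY S Om c → β c = c ^ κ := by
  obtain ⟨c₀, hc₀, hgen⟩ := fr.Y_cyclic hS hp hrk
  obtain ⟨κ, hκ⟩ := hgen _ (hβ.inY fr hc₀)
  have hpow : ∀ c, InY S Om c → β c = c ^ κ := by
    intro c hc
    obtain ⟨n, rfl⟩ := hgen c hc
    rw [hβ.map_pow hc₀.1, hκ, ← pow_mul, ← pow_mul, mul_comm]
  refine ⟨κ, ?_, hpow⟩
  -- a non-trivial element of `Z`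
  have hZnt : Nontrivial Z := by
    have : 1 < Nat.card Z := by rw [fr.cardZ]; omega
    have hfin : Finite Z := Nat.finite_of_card_ne_zero (by omega)
    exact (Finite.one_lt_card_iff_nontrivial (α := Z)).mp this
  obtain ⟨⟨ζ, hζ⟩, hne⟩ := exists_ne (1 : Z)
  have hζ1 : ζ ≠ 1 := fun h => hne (Subtype.ext h)
  have hζp : ζ ^ p = 1 := fr.pow_p (fr.Q_le (fr.Z_le hζ))
  have hord : orderOf ζ = p := orderOf_eq_prime hζp hζ1
  have h1 : ζ ^ κ = ζ ^ 1 := by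
    rw [pow_one, ← hpow ζ (InY.of_mem_Z fr hζ), hβZ ζ hζ]
  have := pow_eq_pow_iff_modEq.mp h1
  rwa [hord] at this

end Cfsg.Agent.Lib.Helper89Rk
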