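import Mathlib
import Cfsg.Agent.Lib.Helper89RkDefs
import Cfsg.Agent.Lib.Helper89RkCg
import Cfsg.Agent.Lib.Helper89RkEnd
import Cfsg.Agent.Lib.Helper89RkExC
import Cfsg.Agent.Lib.Helper89RkCoords
import Cfsg.Agent.Lib.Helper89RkActG
import Cfsg.Agent.Lib.Helper89RkGen
import Cfsg.Agent.Lib.Helper89RkWeightS
import Cfsg.Agent.Lib.Helper89RkWeightZ
import Cfsg.Agent.Lib.Helper89RkYpower
import Cfsg.Agent.Lib.Helper89RkPowOm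
import Cfsg.Agent.Lib.Helper89RkExEig
import Cfsg.Agent.Lib.Helper89RkEig
import Cfsg.Agent.Lib.Helper89RkNT

set_option autoImplicit false

namespace Cfsg.Agent.Lib.Helper89Rk

variable {G : Type*} [Group G] {S Om Q Z C : Subgroup G} {p : ℕ}

/-- no automorphism of `S` acts on `Om / Z` as `diag(l, l⁻¹)` (`l² ≠ 1`) and trivially on `Z`, if `C ≠ S`.
`β g = g ^ k c` (`IsC.gen`), `a` from `IsC.act_g`, `l' ≡ k l` (`weight_S`), `nt1`, `κ` from `Y_power`, `x` from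
`exists_eig`, `x ^ p ∈ Om` (`pow_mem_Om`), `weight_Q`, then `eig` with `μ₂ = l'`, `μ₀ = 1`. -/
theorem app1 [Finite S] [Fact p.Prime] (hS : IsPGroup p S) (hp : 5 ≤ p) (hrk : Rk2 p S)
    (fr : Frame p S Om Q Z) (hC : IsC S Om Z C) {β : G → G} (hβ : EndOn S β) {g y z : G} {l l' : ℕ}
    (hg : g ∈ S) (hgC : g ∉ C) (hy : y ∈ Om) (hyQ : y ∉ Q) (hz : z ∈ Q) (hzZ : z ∉ Z)
    (hβy : Cg Z (β y) (y ^ l)) (hβz : Cg Z (β z) (z ^ l')) (hβZ : ∀ ζ ∈ Z, β ζ = ζ)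
    (hl : l * l' ≡ 1 [MOD p]) (hl2 : ¬ l * l ≡ 1 [MOD p]) : False := by
  obtain ⟨k, c, hc, hβg⟩ := hC.gen fr hg hgC (β g) (hβ.mem g hg)
  obtain ⟨a, ha, hga⟩ := hC.act_g fr hg hgC hy hyQ hz hzZ
  have hw := weight_S fr hC hβ hg hy hyQ hz hzZ hc ha hga hβy hβz hβg
  obtain ⟨hk1, hkl'⟩ := nt1 hl hl2 hw
  obtain ⟨κ, hκ1, hκ⟩ := Y_power hS hp hrk fr hβ hβZ
  obtain ⟨x, hx, hxC, w, hw', hβx⟩ := exists_eig hS hp hrk fr hC hβ hg hgC hc hβg hk1 hκ1 hκ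
  have hxp := pow_mem_Om hS hp hrk fr hC hβ hx hw' hβx hk1 hκ1 hκ
  have hQ := weight_Q fr hβ hz hzZ hβz
  exact eig hS hp fr hC hβ hx hxC hxp hw' hβx hQ (μ₀ := 1)
    (fun ζ hζ => by rw [hβZ ζ hζ, pow_one]) hkl' hk1

end Cfsg.Agent.Lib.Helper89Rk
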