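import Mathlib
import Cfsg.Agent.Lib.Helper89RkDefs
import Cfsg.Agent.Lib.Helper89RkCg
import Cfsg.Agent.Lib.Helper89RkEnd
import Cfsg.Agent.Lib.Helper89RkExC
import Cfsg.Agent.Lib.Helper89RkCoords
import Cfsg.Agent.Lib.Helper89RkActG
import Cfsg.Agent.Lib.Helper89RkGen
import Cfsg.Agent.Lib.Helper89RkWeightS
import Cfsg.Agent.Lib.Helper89RkWeightZ
import Cfsg.Agent.Lib.Helper89RkEig
import Cfsg.Agent.Lib.Helper89RkNT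

set_option autoImplicit false

namespace Cfsg.Agent.Lib.Helper89Rk

variable {G : Type*} [Group G] {S Om Q Z C : Subgroup G} {p : ℕ}

/-- the case `C = Om`: no automorphism of `S` normalising `Q` has weight `l` on some `y ∈ Om \ Q` and `l⁻¹` on `Z`
(`l² ≠ 1`), if `Om ≠ S`.  Take `z ∈ Q \ Z`; `β z ≡ z ^ m` (`Frame.coords`); `l m ≡ l'` (`weight_Z`, `weight_unique`);
`β g = g ^ k c`, `c ∈ Om` (`IsC.gen`); `m ≡ k l` (`weight_S`); `nt2`; `g ^ p ∈ Om` (`IsC.pow_p_mem`); `eig` with `x = g`. -/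
theorem app2 [Finite S] [Fact p.Prime] (hS : IsPGroup p S) (hp : 5 ≤ p)
    (fr : Frame p S Om Q Z) (hC : IsC S Om Z Om) {β : G → G} (hβ : EndOn S β) {g y : G} {l l' : ℕ}
    (hg : g ∈ S) (hgC : g ∉ Om) (hy : y ∈ Om) (hyQ : y ∉ Q) (hβQ : ∀ q ∈ Q, β q ∈ Q)
    (hβy : Cg Z (β y) (y ^ l)) (hβZ : ∀ ζ ∈ Z, β ζ = ζ ^ l')
    (hl : l * l' ≡ 1 [MOD p]) (hl2 : ¬ l * l ≡ 1 [MOD p]) : False := by
  obtain ⟨-, z, -, -, hz, hzZ⟩ := fr.exists_yz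
  obtain ⟨m, ζ, hζ, hm⟩ := (fr.coords hy hyQ hz hzZ).2.1 (β z) (hβQ z hz)
  have hβz : Cg Z (β z) (z ^ m) := ⟨ζ, hζ, hm⟩
  have hlm : l * m ≡ l' [MOD p] :=
    weight_unique fr (weight_Z fr hβ hy hyQ hz hzZ hβy hβz) hβZ
  obtain ⟨k, c, hc, hβg⟩ := hC.gen fr hg hgC (β g) (hβ.mem g hg)
  obtain ⟨a, ha, hgy⟩ := hC.act_g fr hg hgC hy hyQ hz hzZ
  have hk : m ≡ k * l [MOD p] := weight_S fr hC hβ hg hy hyQ hz hzZ hc ha hgy hβy hβz hβg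
  obtain ⟨h2, h0⟩ := nt2 hl hl2 hlm hk
  exact eig hS hp fr hC hβ hg hgC (hC.pow_p_mem fr hg) hc hβg (weight_Q fr hβ hz hzZ hβz) hβZ h2 h0

end Cfsg.Agent.Lib.Helper89Rk
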