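import Mathlib
import Cfsg.Agent.Lib.Helper89RkDefs
import Cfsg.Agent.Lib.Helper79PGroup

set_option autoImplicit false

namespace Cfsg.Agent.Lib.Helper89Rk

variable {G : Type*} [Group G] {S Om Q Z C : Subgroup G} {p : ℕ}

/-- a `p`-group acts trivially on a normal section of order `p` -/
theorem section_trivial [Finite S] [Fact p.Prime] (hS : IsPGroup p S) {H K : Subgroup G} (hKH : K ≤ H)
    (hHS : H ≤ S) (hH : ∀ s ∈ S, ∀ h ∈ H, s * h * s⁻¹ ∈ H) (hK : ∀ s ∈ S, ∀ k ∈ K, s * k * s⁻¹ ∈ K)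
    (hcard : Nat.card H = p * Nat.card K) : ∀ s ∈ S, ∀ h ∈ H, s * h * s⁻¹ * h⁻¹ ∈ K := by
  intro s hs h hh
  have hK'n : (K.subgroupOf S).Normal := ⟨fun k hk s => by
      rw [Subgroup.mem_subgroupOf] at hk ⊢
      exact hK s s.2 k hk⟩
  have hH'n : (H.subgroupOf S).Normal := ⟨fun k hk s => by
      rw [Subgroup.mem_subgroupOf] at hk ⊢
      exact hH s s.2 k hk⟩
  have hHbn : ((H.subgroupOf S).map (QuotientGroup.mk' (K.subgroupOf S))).Normal :=
    hH'n.map _ (QuotientGroup.mk'_surjective _)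
  have hfinK : Finite K := Finite.of_injective (Subgroup.inclusion (hKH.trans hHS))
    (Subgroup.inclusion_injective _)
  have hrel : K.relIndex H = p := by
    have h1 := Subgroup.relIndex_mul_relIndex ⊥ K H bot_le hKH
    rw [Subgroup.relIndex_bot_left, Subgroup.relIndex_bot_left, hcard, mul_comm] at h1
    exact Nat.eq_of_mul_eq_mul_right Nat.card_pos h1
  have hcardHb : Nat.card ((H.subgroupOf S).map (QuotientGroup.mk' (K.subgroupOf S))) = p := by
    rw [← Subgroup.relIndex_ker, QuotientGroup.ker_mk', Subgroup.relIndex_subgroupOf hHS, hrel]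
  have hSb : IsPGroup p (S ⧸ K.subgroupOf S) := hS.to_quotient _
  have hcen := Helper79PGroup.le_center_of_normal_of_card_eq_prime hSb _ hcardHb
  have h1 : QuotientGroup.mk' (K.subgroupOf S) ⟨h, hHS hh⟩ ∈ Subgroup.center (S ⧸ K.subgroupOf S) :=
    hcen (Subgroup.mem_map_of_mem _ (by rw [Subgroup.mem_subgroupOf]; exact hh))
  have h2 := Subgroup.mem_center_iff.1 h1 (QuotientGroup.mk' (K.subgroupOf S) ⟨s, hs⟩)
  have h3 : QuotientGroup.mk' (K.subgroupOf S)
      ((⟨s, hs⟩ : S) * ⟨h, hHS hh⟩ * (⟨s, hs⟩ : S)⁻¹ * (⟨h, hHS hh⟩ : S)⁻¹) = 1 := by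
    rw [map_mul, map_mul, map_mul, h2, map_inv, map_inv]
    group
  rw [← MonoidHom.mem_ker, QuotientGroup.ker_mk', Subgroup.mem_subgroupOf] at h3
  exact h3

end Cfsg.Agent.Lib.Helper89Rk
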