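import Mathlib
import Cfsg.Agent.Lib.Helper89RkDefs
import Cfsg.Agent.Lib.Helper3PGroup

set_option autoImplicit false

namespace Cfsg.Agent.Lib.Helper89Rk

variable {G : Type*} [Group G] {S Om Q Z C : Subgroup G} {p : ℕ}

/-- abelian `p`-group: `|H / Φ(H)| ≤ |H / H^p| = |Ω₁(H)|` -/
theorem frattini_index_le {H : Type*} [Group H] [Finite H] [Fact p.Prime] (hH : IsPGroup p H)
    (hc : ∀ a b : H, a * b = b * a) (W : Subgroup H) (hW : ∀ x, x ∈ W ↔ x ^ p = 1)
    (hcard : Nat.card W = p ^ 2) : (frattini H).index ≤ p ^ 2 := by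
  let φ : H →* H :=
    { toFun := fun x => x ^ p
      map_one' := one_pow p
      map_mul' := fun a b => (show Commute a b from hc a b).mul_pow p }
  have hker : φ.ker = W := by
    ext x
    rw [MonoidHom.mem_ker, hW]
    rfl
  have hle : φ.range ≤ frattini H := by
    rintro _ ⟨x, rfl⟩
    exact Helper3PGroup.pow_mem_frattini hH x
  have h1 : φ.range.index = p ^ 2 := by
    have h2 := Subgroup.card_mul_index φ.range
    have h3 := Subgroup.card_mul_index φ.ker
    rw [Subgroup.index_ker, hker, hcard] at h3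
    rw [← h3, mul_comm] at h2
    exact Nat.eq_of_mul_eq_mul_right Nat.card_pos h2
  rw [← h1]
  exact Nat.le_of_dvd (Nat.pos_of_ne_zero (Subgroup.index_ne_zero_of_finite)) (Subgroup.index_dvd_of_le hle)

end Cfsg.Agent.Lib.Helper89Rk
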