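import Mathlib
import Cfsg.Agent.Lib.Helper89RkDefs

set_option autoImplicit false

namespace Cfsg.Agent.Lib.Helper89Rk

variable {G : Type*} [Group G] {S Om Q Z C : Subgroup G} {p : ℕ}

/-- a multiplicative map inverting two generators of a group of order `p ^ 2` inverts it -/
theorem inverts_W {W L : Subgroup G} [Fact p.Prime] (hLW : L ≤ W) (hL : Nat.card L = p)
    (hW : Nat.card W = p ^ 2) {τ : G → G} (hτ : ∀ a ∈ W, ∀ b ∈ W, τ (a * b) = τ a * τ b) {y z : G}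
    (hz : z ∈ L) (hz1 : z ≠ 1) (hy : y ∈ W) (hyL : y ∉ L) (hτy : τ y = y⁻¹) (hτz : τ z = z⁻¹) :
    ∀ w ∈ W, τ w = w⁻¹ := by
  have hp : p.Prime := Fact.out
  have hWfin : Finite W := Nat.finite_of_card_ne_zero (by rw [hW]; exact pow_ne_zero 2 hp.ne_zero)
  have hLfin : Finite L := Nat.finite_of_card_ne_zero (by rw [hL]; exact hp.ne_zero)
  have hcomm : ∀ a ∈ W, ∀ b ∈ W, a * b = b * a := fun a ha b hb =>
    congrArg Subtype.val
      ((IsPGroup.isMulCommutative_of_card_eq_prime_sq hW).is_comm.comm (⟨a, ha⟩ : W) ⟨b, hb⟩)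
  have hτ1 : τ 1 = 1 := by
    have h1 := hτ 1 W.one_mem 1 W.one_mem
    rw [mul_one] at h1
    exact (mul_eq_left.1 h1.symm)
  let K : Subgroup G :=
    { carrier := {w | w ∈ W ∧ τ w = w⁻¹}
      one_mem' := ⟨W.one_mem, by rw [hτ1, inv_one]⟩
      mul_mem' := by
        rintro a b ⟨ha, ha'⟩ ⟨hb, hb'⟩
        refine ⟨W.mul_mem ha hb, ?_⟩
        rw [hτ a ha b hb, ha', hb', hcomm a ha b hb, mul_inv_rev]
      inv_mem' := by
        rintro a ⟨ha, ha'⟩
        refine ⟨W.inv_mem ha, ?_⟩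
        have h1 := hτ a ha a⁻¹ (W.inv_mem ha)
        rw [mul_inv_cancel, hτ1, ha'] at h1
        rw [inv_inv]
        exact (inv_mul_eq_one.1 h1.symm).symm }
  have hKW : K ≤ W := fun w hw => hw.1
  have hzK : z ∈ K := ⟨hLW hz, hτz⟩
  have hyK : y ∈ K := ⟨hy, hτy⟩
  have hLK : L ≤ K := by
    have h1 : Nat.card ↥(L ⊓ K) ∣ p := hL ▸ Subgroup.card_dvd_of_le (inf_le_left : L ⊓ K ≤ L)
    rcases (Nat.dvd_prime hp).1 h1 with h2 | h2
    · exfalso
      have h3 : L ⊓ K = ⊥ := Subgroup.card_eq_one.1 h2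
      have h4 : z ∈ L ⊓ K := ⟨hz, hzK⟩
      rw [h3, Subgroup.mem_bot] at h4
      exact hz1 h4
    · have h3 : L ⊓ K = L := Subgroup.eq_of_le_of_card_ge inf_le_left (by rw [h2, hL])
      exact h3 ▸ inf_le_right
  have hKfin : Finite K := Finite.of_injective (Subgroup.inclusion hKW) (Subgroup.inclusion_injective hKW)
  have hK : K = W := by
    have h1 : Nat.card K ∣ p ^ 2 := hW ▸ Subgroup.card_dvd_of_le hKW
    obtain ⟨i, hi, hKi⟩ := (Nat.dvd_prime_pow hp).1 h1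
    have h2 : p ∣ Nat.card K := hL ▸ Subgroup.card_dvd_of_le hLK
    interval_cases i
    · rw [hKi, pow_zero, Nat.dvd_one] at h2
      exact absurd h2 hp.one_lt.ne'
    · exfalso
      have h3 : L = K := Subgroup.eq_of_le_of_card_ge hLK (by rw [hKi, hL, pow_one])
      exact hyL (h3 ▸ hyK)
    · exact Subgroup.eq_of_le_of_card_ge hKW (by rw [hKi, hW])
  intro w hw
  have : w ∈ K := hK ▸ hw
  exact this.2

end Cfsg.Agent.Lib.Helper89Rk
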