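import Mathlib
import Cfsg.Agent.Lib.Helper89RkDefs
import Cfsg.Agent.Lib.Helper89Omega

set_option autoImplicit false

namespace Cfsg.Agent.Lib.Helper89Rk

variable {G : Type*} [Group G] {S Om Q Z C : Subgroup G} {p : ℕ}

/-- a `p`-group (`p` odd) with an automorphism inverting all elements of order `p` is abelian.
Let `τ₁ = τ ^ (p ^ k)` be the `p'`-part of `τ` (an odd power: it still inverts `Ω₁`); `τ₁ ^ 2` is a `p'`-automorphism
fixing `Ω₁` so `τ₁ ^ 2 = 1` (`Helper89Omega.aut_fix_of_fix_small`); `τ₁` has no fixed point `≠ 1` (a fixed point has a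
power of order `p`, which is fixed and inverted); so `x ↦ x⁻¹ * τ₁ x` is injective, hence surjective, and `τ₁`
inverts every `x⁻¹ * τ₁ x`. -/
theorem abelian_of_inverting {E : Type*} [Group E] [Finite E] [Fact p.Prime] (hp2 : p ≠ 2)
    (hE : IsPGroup p E) (τ : MulAut E) (h : ∀ x, x ^ p = 1 → τ x = x⁻¹) : ∀ a b : E, a * b = b * a := by
  have hp : p.Prime := Fact.out
  have hodd : Odd p := hp.odd_of_ne_two hp2
  obtain ⟨k, m, hm, hkm⟩ := Nat.exists_eq_pow_mul_and_not_dvd (orderOf_pos τ).ne' p hp.ne_one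
  have hsq : ∀ x : E, x ^ p = 1 → (τ ^ 2) x = x := by
    intro x hx
    rw [pow_two, MulAut.mul_apply, h x hx, h x⁻¹ (by rw [inv_pow, hx, inv_one]), inv_inv]
  have hev : ∀ (i : ℕ) (x : E), x ^ p = 1 → ((τ ^ 2) ^ i) x = x := by
    intro i x hx
    induction i with
    | zero => simp
    | succ i ih => rw [pow_succ, MulAut.mul_apply, hsq x hx, ih]
  obtain ⟨i, hi⟩ := hodd.pow (n := k)
  set τ₁ : MulAut E := τ ^ (p ^ k) with hτ₁
  have hinv : ∀ x : E, x ^ p = 1 → τ₁ x = x⁻¹ := by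
    intro x hx
    rw [hτ₁, hi, pow_succ, pow_mul, MulAut.mul_apply, h x hx,
      hev i x⁻¹ (by rw [inv_pow, hx, inv_one])]
  have hfix2 : ∀ x : E, x ^ p = 1 → (τ₁ ^ 2) x = x := by
    intro x hx
    rw [pow_two, MulAut.mul_apply, hinv x hx, hinv x⁻¹ (by rw [inv_pow, hx, inv_one]), inv_inv]
  have hord : orderOf (τ₁ ^ 2) ∣ m := by
    apply orderOf_dvd_of_pow_eq_one
    rw [hτ₁, ← pow_mul, ← pow_mul, show p ^ k * (2 * m) = (p ^ k * m) * 2 by ring, ← hkm, pow_mul,
      pow_orderOf_eq_one, one_pow]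
  have hcop : (orderOf (τ₁ ^ 2)).Coprime p :=
    Nat.Coprime.coprime_dvd_left hord ((Nat.Prime.coprime_iff_not_dvd hp).2 hm).symm
  have hch : p ∣ p.choose 2 := by
    apply hp.dvd_choose_self (by norm_num)
    have := hp.two_le
    omega
  have hall : ∀ x : E, (τ₁ ^ 2) x = x := by
    intro x
    exact Cfsg.Agent.Lib.Helper89Omega.aut_fix_of_fix_small p p dvd_rfl hch (τ₁ ^ 2) hcop hcop ⊤
      (fun g => by
        obtain ⟨j, hj⟩ := hE (g : E)
        exact ⟨j, Subtype.ext (by simpa using hj)⟩)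
      (fun _ _ => Subgroup.mem_top _) (fun x _ hx => hfix2 x hx) x (Subgroup.mem_top _)
  have hfpf : ∀ x : E, τ₁ x = x → x = 1 := by
    intro x hx
    by_contra hne
    classical
    have hex := hE x
    set j := Nat.find hex with hjdef
    have hj : x ^ p ^ j = 1 := Nat.find_spec hex
    have hj0 : j ≠ 0 := by
      intro h0
      rw [h0] at hj
      simp at hj
      exact hne hj
    obtain ⟨j', hj'⟩ : ∃ j', j = j' + 1 := ⟨j - 1, by omega⟩
    have hy1 : x ^ p ^ j' ≠ 1 := Nat.find_min hex (by omega)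
    have hyp : (x ^ p ^ j') ^ p = 1 := by
      rw [← pow_mul, ← pow_succ, ← hj', hj]
    have h1 : τ₁ (x ^ p ^ j') = x ^ p ^ j' := by rw [map_pow, hx]
    have h2 := hinv _ hyp
    rw [h1] at h2
    have h3 : (x ^ p ^ j') ^ 2 = 1 := by
      rw [pow_two]
      exact eq_inv_iff_mul_eq_one.1 h2
    obtain ⟨i', hi'⟩ := hodd
    generalize x ^ p ^ j' = y at hy1 hyp h3
    rw [hi', pow_succ, pow_mul, h3, one_pow, one_mul] at hyp
    exact hy1 hyp
  have hinj : Function.Injective (fun x : E => x⁻¹ * τ₁ x) := by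
    intro x y hxy
    have hxy' : x⁻¹ * τ₁ x = y⁻¹ * τ₁ y := hxy
    have h1 : τ₁ (y * x⁻¹) = y * x⁻¹ := by
      rw [map_mul, map_inv]
      calc τ₁ y * (τ₁ x)⁻¹ = y * (y⁻¹ * τ₁ y) * (τ₁ x)⁻¹ := by group
        _ = y * (x⁻¹ * τ₁ x) * (τ₁ x)⁻¹ := by rw [hxy']
        _ = y * x⁻¹ := by group
    have h2 := hfpf _ h1
    exact (mul_inv_eq_one.1 h2).symm
  have hsurj : Function.Surjective (fun x : E => x⁻¹ * τ₁ x) := Finite.surjective_of_injective hinj
  have hinvall : ∀ g : E, τ₁ g = g⁻¹ := by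
    intro g
    obtain ⟨x, rfl⟩ := hsurj g
    have h2 : τ₁ (τ₁ x) = x := by
      have := hall x
      rwa [pow_two, MulAut.mul_apply] at this
    show τ₁ (x⁻¹ * τ₁ x) = (x⁻¹ * τ₁ x)⁻¹
    rw [map_mul, map_inv, h2, mul_inv_rev, inv_inv]
  intro a b
  have h1 := hinvall (a * b)
  rw [map_mul, hinvall a, hinvall b, mul_inv_rev] at h1
  have h2 := congrArg (fun t => t⁻¹) h1
  simp only [mul_inv_rev, inv_inv] at h2
  exact h2.symm

end Cfsg.Agent.Lib.Helper89Rk
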