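import Mathlib
import Cfsg.Agent.Lib.Helper89RkDefs
import Cfsg.Agent.Lib.Helper89RkSect

set_option autoImplicit false

namespace Cfsg.Agent.Lib.Helper89Rk

variable {G : Type*} [Group G] {S Om Q Z C : Subgroup G} {p : ℕ}

/-- a normal subgroup of order `p ^ 2` of a `p`-group `T` contains a central subgroup `L` of order `p`
with `[W, T] ≤ L`. -/
theorem exists_line {T W : Subgroup G} [Finite T] [Fact p.Prime] (hT : IsPGroup p T) (hWT : W ≤ T)
    (hn : ∀ t ∈ T, ∀ w ∈ W, t * w * t⁻¹ ∈ W) (hcard : Nat.card W = p ^ 2) :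
    ∃ L : Subgroup G, L ≤ W ∧ Nat.card L = p ∧ (∀ t ∈ T, ∀ l ∈ L, t * l * t⁻¹ = l) ∧
      ∀ t ∈ T, ∀ w ∈ W, w⁻¹ * (t * w * t⁻¹) ∈ L := by
  have hp : p.Prime := Fact.out
  have hW'n : (W.subgroupOf T).Normal := ⟨fun k hk s => by
      rw [Subgroup.mem_subgroupOf] at hk ⊢
      exact hn s s.2 k hk⟩
  have hfinW : Finite W := Finite.of_injective (Subgroup.inclusion hWT)
    (Subgroup.inclusion_injective _)
  have hne : W.subgroupOf T ≠ ⊥ := by
    intro h
    rw [Subgroup.subgroupOf_eq_bot, disjoint_iff, inf_eq_left.2 hWT] at h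
    rw [h, Subgroup.card_bot] at hcard
    have := hp.one_lt
    nlinarith
  obtain ⟨b, hbW, hb1, hbZ⟩ := Helper79PGroup.exists_ne_one_mem_center_of_normal hT _ hne
  rw [Subgroup.mem_subgroupOf] at hbW
  have hb1' : (b : G) ≠ 1 := fun h => hb1 (Subtype.ext h)
  have hbc : ∀ t ∈ T, t * (b : G) = b * t := by
    intro t ht
    have := Subgroup.mem_center_iff.1 hbZ ⟨t, ht⟩
    exact congrArg Subtype.val this
  have hbpp : (b : G) ^ (p ^ 2) = 1 := by
    have := pow_card_eq_one' (G := W) (x := ⟨b, hbW⟩)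
    rw [hcard] at this
    exact congrArg Subtype.val this
  -- an element of order `p`
  obtain ⟨c, hcW, hc1, hcp, hcc⟩ : ∃ c ∈ W, c ≠ 1 ∧ c ^ p = 1 ∧ ∀ t ∈ T, t * c = c * t := by
    by_cases h : (b : G) ^ p = 1
    · exact ⟨b, hbW, hb1', h, hbc⟩
    · refine ⟨(b : G) ^ p, W.pow_mem hbW p, h, by rw [← pow_mul, ← sq, hbpp], ?_⟩
      intro t ht
      exact ((Commute.pow_right (hbc t ht) p)).eq
  have hord : orderOf c = p := orderOf_eq_prime hcp hc1
  have hLW : Subgroup.zpowers c ≤ W := by rwa [Subgroup.zpowers_le]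
  have hLc : ∀ t ∈ T, ∀ l ∈ Subgroup.zpowers c, t * l * t⁻¹ = l := by
    intro t ht l hl
    obtain ⟨k, rfl⟩ := Subgroup.mem_zpowers_iff.1 hl
    have : Commute t (c ^ k) := Commute.zpow_right (hcc t ht) k
    rw [this.eq, mul_inv_cancel_right]
  have hLcard : Nat.card (Subgroup.zpowers c) = p := by rw [Nat.card_zpowers, hord]
  refine ⟨Subgroup.zpowers c, hLW, hLcard, hLc, ?_⟩
  intro t ht w hw
  have h1 := section_trivial hT hLW hWT hn
    (fun s hs k hk => by rw [hLc s hs k hk]; exact hk) (by rw [hLcard, hcard, sq]) t ht w hw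
  have h2 := hLc w⁻¹ (T.inv_mem (hWT hw)) _ h1
  have h3 : w⁻¹ * (t * w * t⁻¹) = w⁻¹ * (t * w * t⁻¹ * w⁻¹) * w⁻¹⁻¹ := by group
  rw [h3, h2]
  exact h1

end Cfsg.Agent.Lib.Helper89Rk
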