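import Mathlib
import Cfsg.Agent.Lib.Helper89RkDefs

set_option autoImplicit false

namespace Cfsg.Agent.Lib.Helper89Rk

variable {G : Type*} [Group G] {S Om Q Z C : Subgroup G} {p : ℕ}

/-- an automorphism fixing `L` and one element of `V` outside `L` fixes `V` -/
theorem transv_fix {P : Type*} [Group P] [Finite P] [Fact p.Prime] (L V : Subgroup P) (hLV : L ≤ V)
    (hL : Nat.card L = p) (hV : Nat.card V = p ^ 2) (u : MulAut P)
    (huL : ∀ l ∈ L, u l = l) {x : P} (hxV : x ∈ V) (hxL : x ∉ L) (hux : u x = x) :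
    ∀ v ∈ V, u v = v := by
  have hp : p.Prime := Fact.out
  let K : Subgroup P :=
    { carrier := {v | v ∈ V ∧ u v = v}
      one_mem' := ⟨V.one_mem, map_one u⟩
      mul_mem' := by
        rintro a b ⟨ha, ha'⟩ ⟨hb, hb'⟩
        exact ⟨V.mul_mem ha hb, by rw [map_mul, ha', hb']⟩
      inv_mem' := by
        rintro a ⟨ha, ha'⟩
        exact ⟨V.inv_mem ha, by rw [map_inv, ha']⟩ }
  have hLK : L ≤ K := fun l hl => ⟨hLV hl, huL l hl⟩
  have hKV : K ≤ V := fun v hv => hv.1
  have hxK : x ∈ K := ⟨hxV, hux⟩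
  have h1 : Nat.card L ∣ Nat.card K := Subgroup.card_dvd_of_le hLK
  have h2 : Nat.card K ∣ Nat.card V := Subgroup.card_dvd_of_le hKV
  rw [hV] at h2
  rw [hL] at h1
  obtain ⟨i, hi, hKi⟩ := (Nat.dvd_prime_pow hp).1 h2
  have hKeq : K = V := by
    apply Subgroup.eq_of_le_of_card_ge hKV
    rw [hV, hKi]
    have hi2 : i = 2 := by
      by_contra hne
      have hi1 : i = 0 ∨ i = 1 := by omega
      rcases hi1 with rfl | rfl
      · rw [hKi, pow_zero] at h1
        exact hp.one_lt.ne' (Nat.dvd_one.1 h1)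
      · have : L = K := Subgroup.eq_of_le_of_card_ge hLK (by rw [hKi, hL, pow_one])
        exact hxL (this ▸ hxK)
    rw [hi2]
  intro v hv
  have : v ∈ K := hKeq ▸ hv
  exact this.2

/-- transvection data: `V` elementary abelian of order `p ^ 2`, `L < V` of order `p`, `u` centralises `L` and `V / L`
but not `V`, `α` normalises `V` and moves `z ∈ L` out of `L`. -/
theorem transv_data {P : Type*} [Group P] [Finite P] [Fact p.Prime] (L V : Subgroup P) (hLV : L ≤ V)
    (hL : Nat.card L = p) (hV : Nat.card V = p ^ 2) (hexp : ∀ v ∈ V, v ^ p = 1) (u α : MulAut P)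
    (hαV : ∀ v ∈ V, α v ∈ V) (huL : ∀ l ∈ L, u l = l) (huV : ∀ v ∈ V, v⁻¹ * u v ∈ L)
    (hne : ∃ v ∈ V, u v ≠ v) {z : P} (hz : z ∈ L) (hαz : α z ∉ L) :
    ∃ a b : ℕ, ¬ p ∣ a ∧ ¬ p ∣ b ∧ u z = z ∧ u (α z) = α z * z ^ a ∧ (α * u * α⁻¹) (α z) = α z ∧
      (α * u * α⁻¹) z = z * (α z) ^ b ∧ Commute (α z) z := by
  have hp : p.Prime := Fact.out
  have hz1 : z ≠ 1 := by
    rintro rfl
    exact hαz (by rw [map_one]; exact L.one_mem)
  have hpowL : ∀ l ∈ L, ∃ a : ℕ, z ^ a = l := by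
    intro l hl
    have := mem_powers_of_prime_card (G := L) hL (g := ⟨z, hz⟩) (g' := ⟨l, hl⟩)
      (by intro h; exact hz1 (congrArg Subtype.val h))
    obtain ⟨a, ha⟩ := this
    exact ⟨a, by simpa using congrArg Subtype.val ha⟩
  have hzV : z ∈ V := hLV hz
  have hαzV : α z ∈ V := hαV z hzV
  have hcomm : Commute (α z) z := by
    have := (IsPGroup.isMulCommutative_of_card_eq_prime_sq (G := V) hV).is_comm.comm
      ⟨α z, hαzV⟩ ⟨z, hzV⟩
    exact congrArg Subtype.val this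
  have hzp : z ^ p = 1 := hexp z hzV
  -- preimage of `z`
  obtain ⟨w, hwV, hw⟩ : ∃ w ∈ V, α w = z := by
    let φ : V → V := fun v => ⟨α v, hαV v v.2⟩
    have hinj : Function.Injective φ := by
      intro v v' h
      exact Subtype.ext (α.injective (congrArg Subtype.val h))
    obtain ⟨w, hw⟩ := (Finite.injective_iff_surjective.1 hinj) ⟨z, hzV⟩
    exact ⟨w, w.2, congrArg Subtype.val hw⟩
  have hwL : w ∉ L := by
    intro hwL
    have hw1 : w ≠ 1 := by
      rintro rfl
      exact hz1 (by rw [← hw, map_one])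
    have := mem_powers_of_prime_card (G := L) hL (g := ⟨w, hwL⟩) (g' := ⟨z, hz⟩)
      (by intro h; exact hw1 (congrArg Subtype.val h))
    obtain ⟨i, hi⟩ := this
    have hi' : w ^ i = z := by simpa using congrArg Subtype.val hi
    apply hαz
    rw [← hi', map_pow, hw]
    exact L.pow_mem hz i
  obtain ⟨v₀, hv₀V, hv₀⟩ := hne
  obtain ⟨a, ha⟩ := hpowL _ (huV (α z) hαzV)
  obtain ⟨b, hb⟩ := hpowL _ (huV w hwV)
  have hpow_dvd : ∀ c : ℕ, p ∣ c → z ^ c = 1 := by
    rintro c ⟨d, rfl⟩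
    rw [pow_mul, hzp, one_pow]
  refine ⟨a, b, ?_, ?_, huL z hz, ?_, ?_, ?_, hcomm⟩
  · intro hpa
    rw [hpow_dvd a hpa] at ha
    have : u (α z) = α z := by
      have := ha.symm
      rwa [inv_mul_eq_one, eq_comm] at this
    exact hv₀ (transv_fix L V hLV hL hV u huL hαzV hαz this v₀ hv₀V)
  · intro hpb
    rw [hpow_dvd b hpb] at hb
    have : u w = w := by
      have := hb.symm
      rwa [inv_mul_eq_one, eq_comm] at this
    exact hv₀ (transv_fix L V hLV hL hV u huL hwV hwL this v₀ hv₀V)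
  · rw [ha, mul_inv_cancel_left]
  · simp only [MulAut.mul_apply, MulAut.inv_apply_self]
    rw [huL z hz]
  · have hw' : α⁻¹ z = w := by rw [← hw, MulAut.inv_apply_self]
    simp only [MulAut.mul_apply]
    rw [hw', ← map_pow, hb, ← hw, ← map_mul, mul_inv_cancel_left]

end Cfsg.Agent.Lib.Helper89Rk
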