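import Mathlib
import Cfsg.Agent.Lib.Helper89RkDefs
import Cfsg.Agent.Lib.Helper89Transvection

set_option autoImplicit false

namespace Cfsg.Agent.Lib.Helper89Rk

variable {G : Type*} [Group G] {S Om Q Z C : Subgroup G} {p : ℕ}

open Cfsg.Agent.Lib.Helper89Transvection in
theorem torus_w {E : Type*} [Group E] {y z : E}
    (hy : y ^ p = 1) (hz : z ^ p = 1) (hyz : Commute y z) {u u' : MulAut E} {a n : ℕ}
    (hu1 : u z = z) (hu2 : u y = y * z ^ a) (hj1 : u' y = y) (hj2 : u' z = z * y ^ n)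
    (hn : p ∣ a * n + 1) : (u * u' * u) z = y ^ n ∧ (u * u' * u) y = z ^ a := by
  have hzn : z ^ (a * n + 1) = 1 := pow_eq_one_of_dvd' hz hn
  have hyn : y ^ (a * n + 1) = 1 := pow_eq_one_of_dvd' hy hn
  constructor
  · rw [MulAut.mul_apply, MulAut.mul_apply, hu1, hj2, map_mul, map_pow, hu1, hu2,
      (hyz.pow_right a).mul_pow, ← pow_mul]
    calc z * (y ^ n * z ^ (a * n)) = y ^ n * (z ^ (a * n) * z) := by
          rw [← mul_assoc, ← mul_assoc, ((hyz.pow_left n).eq).symm, mul_assoc, mul_assoc,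
            ← pow_succ, ← pow_succ']
      _ = y ^ n := by rw [← pow_succ, hzn, mul_one]
  · rw [MulAut.mul_apply, MulAut.mul_apply, hu2, map_mul, map_pow, hj1, hj2,
      ((hyz.symm).pow_right n).mul_pow, ← pow_mul]
    have e : y * (z ^ a * y ^ (n * a)) = y ^ (a * n + 1) * z ^ a := by
      rw [← mul_assoc, (hyz.pow_right a).eq, mul_assoc, ← pow_succ', mul_comm n a]
      exact ((hyz.pow_right a).pow_left (a * n + 1)).eq.symm
    rw [e, hyn, one_mul, map_pow, hu1]

theorem torus_pow {E : Type*} [Group E] {y z : E} {u : MulAut E} {a : ℕ}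
    (hu1 : u z = z) (hu2 : u y = y * z ^ a) (k : ℕ) :
    (u ^ k) z = z ∧ (u ^ k) y = y * z ^ (a * k) := by
  induction k with
  | zero => simp
  | succ k ih =>
    refine ⟨?_, ?_⟩
    · rw [pow_succ, MulAut.mul_apply, hu1, ih.1]
    · rw [pow_succ, MulAut.mul_apply, hu2, map_mul, map_pow, ih.1, ih.2, mul_assoc, ← pow_add,
        Nat.mul_succ]

theorem torus_pow_congr {E : Type*} [Group E] {x : E} (hx : x ^ p = 1) {m n : ℕ}
    (h : m ≡ n [MOD p]) : x ^ m = x ^ n := by
  have h' : m % p = n % p := h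
  rw [← Nat.div_add_mod m p, ← Nat.div_add_mod n p, pow_add, pow_add, pow_mul, pow_mul, hx,
    one_pow, one_pow, h']

/-- two transvections with different centres generate a group containing the torus element
`diag(l, l⁻¹)`.  Generalises (and can copy the proof of) `Helper89Transvection.exists_inversion`:
with `w k = u ^ k * u' ^ j * u ^ k` (`a * k * b * j ≡ -1`) one has `w k z = y ^ (b j)`, `w k y = z ^ (a k)`;
take `τ = w k * w 1` for a suitable `k`. -/
theorem exists_torus {E : Type*} [Group E] [hp : Fact p.Prime] {y z : E}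
    (hy : y ^ p = 1) (hz : z ^ p = 1) (hyz : Commute y z) {u u' : MulAut E} {a b : ℕ}
    (hu1 : u z = z) (hu2 : u y = y * z ^ a) (hu'1 : u' y = y) (hu'2 : u' z = z * y ^ b)
    (ha : ¬ p ∣ a) (hb : ¬ p ∣ b) {l l' : ℕ} (hl : l * l' ≡ 1 [MOD p]) :
    ∃ τ ∈ Subgroup.closure {u, u'}, τ y = y ^ l ∧ τ z = z ^ l' := by
  have hlZ : ((l : ZMod p)) * (l' : ZMod p) = 1 := by
    have := (ZMod.natCast_eq_natCast_iff _ _ p).2 hl
    push_cast at this
    exact this
  have hl0 : ¬ p ∣ l := by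
    intro h
    rw [← ZMod.natCast_eq_zero_iff] at h
    rw [h, zero_mul] at hlZ
    exact zero_ne_one hlZ
  -- exponents
  obtain ⟨j1, hj1⟩ := Cfsg.Agent.Lib.Helper89Transvection.exists_mul_add_one_dvd (p := p) (c := a * b)
    (fun h => (hp.out.dvd_mul.1 h).elim ha hb)
  obtain ⟨k2, hk2⟩ : ∃ k2 : ℕ, p ∣ k2 + l := by
    refine ⟨(-(l : ZMod p)).val, ?_⟩
    rw [← ZMod.natCast_eq_zero_iff]
    push_cast
    rw [ZMod.natCast_val, ZMod.cast_id', id_eq]
    ring
  have hk20 : ¬ p ∣ k2 := fun h => hl0 ((Nat.dvd_add_right h).1 hk2)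
  obtain ⟨j2, hj2⟩ := Cfsg.Agent.Lib.Helper89Transvection.exists_mul_add_one_dvd (p := p)
    (c := a * k2 * b)
    (fun h => (hp.out.dvd_mul.1 h).elim (fun h => (hp.out.dvd_mul.1 h).elim ha hk20) hb)
  have E0 : (a : ZMod p) * b * j1 + 1 = 0 := by
    have := (ZMod.natCast_eq_zero_iff _ p).2 hj1
    push_cast at this
    exact this
  have E1 : (a : ZMod p) * k2 * b * j2 + 1 = 0 := by
    have := (ZMod.natCast_eq_zero_iff _ p).2 hj2
    push_cast at this
    exact this
  have E2 : (k2 : ZMod p) + l = 0 := by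
    have := (ZMod.natCast_eq_zero_iff _ p).2 hk2
    push_cast at this
    exact this
  obtain ⟨p1a, p1b⟩ := torus_pow (u := u') (y := z) (z := y) (a := b) hu'1 hu'2 j1
  obtain ⟨p2a, p2b⟩ := torus_pow (u := u') (y := z) (z := y) (a := b) hu'1 hu'2 j2
  obtain ⟨p3a, p3b⟩ := torus_pow (u := u) (y := y) (z := z) (a := a) hu1 hu2 k2
  obtain ⟨w1z, w1y⟩ := torus_w hy hz hyz hu1 hu2 p1a p1b (by rwa [← mul_assoc])
  obtain ⟨w2z, w2y⟩ := torus_w hy hz hyz p3a p3b p2a p2b (by
    have : a * k2 * (b * j2) + 1 = a * k2 * b * j2 + 1 := by ring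
    rwa [this])
  have hu : u ∈ Subgroup.closure {u, u'} := Subgroup.subset_closure (by simp)
  have hu' : u' ∈ Subgroup.closure {u, u'} := Subgroup.subset_closure (by simp)
  refine ⟨(u * u' ^ j1 * u) * (u ^ k2 * u' ^ j2 * u ^ k2), ?_, ?_, ?_⟩
  · exact Subgroup.mul_mem _
      (Subgroup.mul_mem _ (Subgroup.mul_mem _ hu (Subgroup.pow_mem _ hu' j1)) hu)
      (Subgroup.mul_mem _ (Subgroup.mul_mem _ (Subgroup.pow_mem _ hu k2) (Subgroup.pow_mem _ hu' j2))
        (Subgroup.pow_mem _ hu k2))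
  · rw [MulAut.mul_apply, w2y, map_pow, w1z, ← pow_mul]
    apply torus_pow_congr hy
    rw [← ZMod.natCast_eq_natCast_iff]
    push_cast
    linear_combination (k2 : ZMod p) * E0 - E2
  · rw [MulAut.mul_apply, w2z, map_pow, w1y, ← pow_mul]
    apply torus_pow_congr hz
    rw [← ZMod.natCast_eq_natCast_iff]
    push_cast
    linear_combination (-((a : ZMod p) * (b * j2))) * hlZ - (l' : ZMod p) * E1
      + (l' : ZMod p) * ((a : ZMod p) * (b * j2)) * E2

end Cfsg.Agent.Lib.Helper89Rk
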