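import Mathlib
import Cfsg.Agent.Lib.Helper89RkDefs
import Cfsg.Agent.Lib.Helper89RkTorus
import Cfsg.Agent.Lib.Helper89RkTdata

set_option autoImplicit false

namespace Cfsg.Agent.Lib.Helper89Rk

variable {G : Type*} [Group G] {S Om Q Z C : Subgroup G} {p : ℕ}

/-- exact version (`N = ⊥`) -/
theorem TD_exact {P : Type*} [Group P] [Finite P] [Fact p.Prime] (L V : Subgroup P) (hLV : L ≤ V)
    (hL : Nat.card L = p) (hV : Nat.card V = p ^ 2) (hexp : ∀ v ∈ V, v ^ p = 1) (u α : MulAut P)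
    (hαV : ∀ v ∈ V, α v ∈ V) (huL : ∀ l ∈ L, u l = l) (huV : ∀ v ∈ V, v⁻¹ * u v ∈ L)
    (hne : ∃ v ∈ V, u v ≠ v) {z : P} (hz : z ∈ L) (hαz : α z ∉ L) {l l' : ℕ}
    (hl : l * l' ≡ 1 [MOD p]) :
    ∃ τ ∈ Subgroup.closure {u, α * u * α⁻¹}, τ (α z) = (α z) ^ l ∧ τ z = z ^ l' := by
  obtain ⟨a, b, ha, hb, h1, h2, h3, h4, h5⟩ :=
    transv_data L V hLV hL hV hexp u α hαV huL huV hne hz hαz
  exact exists_torus (hexp _ (hαV z (hLV hz))) (hexp _ (hLV hz)) h5 h1 h2 h3 h4 ha hb hl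

theorem card_map_mk' {P : Type*} [Group P] [Finite P] (N L : Subgroup P) [N.Normal] (hNL : N ≤ L) :
    Nat.card (L.map (QuotientGroup.mk' N)) * Nat.card N = Nat.card L := by
  let f : L →* P ⧸ N := (QuotientGroup.mk' N).comp L.subtype
  have hr : f.range = L.map (QuotientGroup.mk' N) := by
    rw [MonoidHom.range_comp, Subgroup.range_subtype]
  have hk : f.ker = N.subgroupOf L := by
    ext x
    rw [MonoidHom.mem_ker, Subgroup.mem_subgroupOf]
    exact QuotientGroup.eq_one_iff _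
  have h1 := Subgroup.card_mul_index f.ker
  rw [Subgroup.index_ker, hr, hk, Nat.card_congr (Subgroup.subgroupOfEquivOfLe hNL).toEquiv] at h1
  rw [← h1, mul_comm]

/-- the same modulo a normal subgroup `N` invariant under `u` and `α`: apply `TD_exact` in `P ⧸ N` to the induced
automorphisms (`QuotientGroup.congr`); the map `γ ↦ γ̄` is a homomorphism on the stabiliser of `N` in `MulAut P`, so
`closure {ū, ᾱ ū ᾱ⁻¹}` is the image of `closure {u, α u α⁻¹}` (`MonoidHom.map_closure`). -/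
theorem TD_mod {P : Type*} [Group P] [Finite P] [Fact p.Prime] (N L V : Subgroup P) [N.Normal]
    (hNL : N ≤ L) (hLV : L ≤ V) (hL : Nat.card L = p * Nat.card N) (hV : Nat.card V = p * Nat.card L)
    (hexp : ∀ v ∈ V, v ^ p ∈ N) (u α : MulAut P) (hαN : ∀ n ∈ N, α n ∈ N) (hαV : ∀ v ∈ V, α v ∈ V)
    (huN : ∀ n ∈ N, u n ∈ N) (huL : ∀ l ∈ L, l⁻¹ * u l ∈ N) (huV : ∀ v ∈ V, v⁻¹ * u v ∈ L)
    (hne : ∃ v ∈ V, v⁻¹ * u v ∉ N) {z : P} (hz : z ∈ L) (hαz : α z ∉ L) {l l' : ℕ}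
    (hl : l * l' ≡ 1 [MOD p]) :
    ∃ τ ∈ Subgroup.closure {u, α * u * α⁻¹}, ((α z) ^ l)⁻¹ * τ (α z) ∈ N ∧ (z ^ l')⁻¹ * τ z ∈ N := by
  have hmap : ∀ γ : MulAut P, (∀ n ∈ N, γ n ∈ N) → N.map (γ : P ≃* P).toMonoidHom = N := by
    intro γ h
    apply Subgroup.eq_of_le_of_card_ge
    · rintro _ ⟨n, hn, rfl⟩
      exact h n hn
    · rw [Subgroup.card_map_of_injective (MulEquiv.injective γ)]
  let ub : MulAut (P ⧸ N) := QuotientGroup.congr N N u (hmap u huN)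
  let αb : MulAut (P ⧸ N) := QuotientGroup.congr N N α (hmap α hαN)
  have hub : ∀ x : P, ((u x : P) : P ⧸ N) = ub (x : P ⧸ N) := fun x => rfl
  have hαb : ∀ x : P, ((α x : P) : P ⧸ N) = αb (x : P ⧸ N) := fun x => rfl
  -- the relation "`τ` induces `τb`"
  have Rmul : ∀ (τ σ : MulAut P) (τb σb : MulAut (P ⧸ N)),
      (∀ x : P, ((τ x : P) : P ⧸ N) = τb (x : P ⧸ N)) →
      (∀ x : P, ((σ x : P) : P ⧸ N) = σb (x : P ⧸ N)) →
      ∀ x : P, (((τ * σ) x : P) : P ⧸ N) = (τb * σb) (x : P ⧸ N) := by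
    intro τ σ τb σb h1 h2 x
    rw [MulAut.mul_apply, MulAut.mul_apply, h1, h2]
  have Rinv : ∀ (τ : MulAut P) (τb : MulAut (P ⧸ N)),
      (∀ x : P, ((τ x : P) : P ⧸ N) = τb (x : P ⧸ N)) →
      ∀ x : P, (((τ⁻¹) x : P) : P ⧸ N) = (τb⁻¹) (x : P ⧸ N) := by
    intro τ τb h1 x
    apply τb.injective
    rw [← h1, MulAut.apply_inv_self, MulAut.apply_inv_self]
  have lift : ∀ τb ∈ Subgroup.closure {ub, αb * ub * αb⁻¹},
      ∃ τ ∈ Subgroup.closure {u, α * u * α⁻¹}, ∀ x : P, ((τ x : P) : P ⧸ N) = τb (x : P ⧸ N) := by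
    intro τb hτb
    induction hτb using Subgroup.closure_induction with
    | mem x hx =>
      rcases hx with rfl | hx
      · exact ⟨u, Subgroup.subset_closure (by simp), hub⟩
      · rw [Set.mem_singleton_iff] at hx
        subst hx
        exact ⟨α * u * α⁻¹, Subgroup.subset_closure (by simp),
          Rmul _ _ _ _ (Rmul _ _ _ _ hαb hub) (Rinv _ _ hαb)⟩
    | one => exact ⟨1, Subgroup.one_mem _, fun x => rfl⟩
    | mul x y _ _ hx hy =>
      obtain ⟨τ, h1, h2⟩ := hx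
      obtain ⟨σ, h3, h4⟩ := hy
      exact ⟨τ * σ, Subgroup.mul_mem _ h1 h3, Rmul _ _ _ _ h2 h4⟩
    | inv x _ hx =>
      obtain ⟨τ, h1, h2⟩ := hx
      exact ⟨τ⁻¹, Subgroup.inv_mem _ h1, Rinv _ _ h2⟩
  have hNpos : 0 < Nat.card N := Nat.card_pos
  have cL : Nat.card (L.map (QuotientGroup.mk' N)) = p := by
    have h := card_map_mk' N L hNL
    rw [hL] at h
    exact Nat.eq_of_mul_eq_mul_right hNpos h
  have cV : Nat.card (V.map (QuotientGroup.mk' N)) = p ^ 2 := by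
    have h := card_map_mk' N V (hNL.trans hLV)
    rw [hV, hL] at h
    apply Nat.eq_of_mul_eq_mul_right hNpos
    rw [h]; ring
  obtain ⟨τb, hτb, h1, h2⟩ := TD_exact (p := p) (L.map (QuotientGroup.mk' N)) (V.map (QuotientGroup.mk' N))
    (Subgroup.map_mono hLV) cL cV
    (by
      rintro _ ⟨v, hv, rfl⟩
      show ((v : P ⧸ N)) ^ p = 1
      rw [← QuotientGroup.mk_pow]
      exact (QuotientGroup.eq_one_iff _).2 (hexp v hv))
    ub αb
    (by
      rintro _ ⟨v, hv, rfl⟩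
      exact ⟨α v, hαV v hv, rfl⟩)
    (by
      rintro _ ⟨x, hx, rfl⟩
      show ub (x : P ⧸ N) = (x : P ⧸ N)
      rw [← hub]
      exact (QuotientGroup.eq.2 (huL x hx)).symm)
    (by
      rintro _ ⟨v, hv, rfl⟩
      exact ⟨v⁻¹ * u v, huV v hv, rfl⟩)
    (by
      obtain ⟨v, hv, hvn⟩ := hne
      refine ⟨(v : P ⧸ N), ⟨v, hv, rfl⟩, ?_⟩
      intro h
      rw [← hub] at h
      exact hvn (QuotientGroup.eq.1 h.symm))
    (z := (z : P ⧸ N)) ⟨z, hz, rfl⟩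
    (by
      rintro ⟨x, hx, hxe⟩
      have hxe' : ((x : P) : P ⧸ N) = ((α z : P) : P ⧸ N) := hxe
      have := QuotientGroup.eq.1 hxe'
      have h3 := L.mul_mem hx (hNL this)
      rw [mul_inv_cancel_left] at h3
      exact hαz h3)
    hl
  obtain ⟨τ, hτ, hτR⟩ := lift τb hτb
  refine ⟨τ, hτ, ?_, ?_⟩
  · apply QuotientGroup.eq.1
    rw [hτR, hαb, h1, QuotientGroup.mk_pow, hαb]
  · apply QuotientGroup.eq.1
    rw [hτR, h2, QuotientGroup.mk_pow]

end Cfsg.Agent.Lib.Helper89Rk
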