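import Mathlib
import Cfsg.Agent.Lib.Helper89RkDefs
import Cfsg.Agent.Lib.Helper89RkSect
import Cfsg.Agent.Lib.Helper3RankCop
import Cfsg.Agent.Lib.Helper89PCube

set_option autoImplicit false

namespace Cfsg.Agent.Lib.Helper89Rk

variable {G : Type*} [Group G] {S Om Q Z C : Subgroup G} {p : ℕ}

/-- the centre of `Om` (use `Helper3RankCop.basic` with `X = ↥S`, or `Helper89PCube.isExtraspecial_of_card_cube`;
`Om` is not abelian because of `Rk2`) -/
theorem exists_frameZ [Finite S] [Fact p.Prime] (hS : IsPGroup p S) (hp : 5 ≤ p) (hrk : Rk2 p S)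
    (hOm : ∀ x, x ∈ Om ↔ x ∈ S ∧ x ^ p = 1) (hcard : Nat.card Om = p ^ 3) :
    ∃ Z : Subgroup G, Nat.card Z = p ∧ (∀ x, x ∈ Z ↔ x ∈ Om ∧ ∀ w ∈ Om, w * x = x * w) ∧
      (∀ ζ ∈ Z, ∀ s ∈ S, s * ζ = ζ * s) ∧ ∀ a ∈ Om, ∀ b ∈ Om, a * b * a⁻¹ * b⁻¹ ∈ Z := by
  have hpp : p.Prime := Fact.out
  have hOmS : Om ≤ S := fun x hx => ((hOm x).1 hx).1
  have hnc : ∃ a b : Om, a * b ≠ b * a := by
    by_contra hcon
    push Not at hcon
    have h1 := hrk Om hOmS ⟨⟨⟨hcon⟩⟩, fun a ha => ((hOm a).1 ha).2⟩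
    rw [hcard] at h1
    have := Nat.pow_lt_pow_right hpp.one_lt (show 2 < 3 by norm_num)
    omega
  have hZc := Helper89PCube.card_center_of_card_cube hcard hnc
  have hconjOm : ∀ s ∈ S, ∀ w ∈ Om, s * w * s⁻¹ ∈ Om := by
    intro s hs w hw
    rw [hOm]
    refine ⟨S.mul_mem (S.mul_mem hs (hOmS hw)) (S.inv_mem hs), ?_⟩
    rw [conj_pow, ((hOm w).1 hw).2, mul_one, mul_inv_cancel]
  have hmem : ∀ x, x ∈ (Subgroup.center Om).map Om.subtype ↔
      x ∈ Om ∧ ∀ w ∈ Om, w * x = x * w := by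
    intro x
    constructor
    · rintro ⟨z, hz, rfl⟩
      refine ⟨z.2, fun w hw => ?_⟩
      exact congrArg Subtype.val (Subgroup.mem_center_iff.mp hz ⟨w, hw⟩)
    · rintro ⟨hx1, hx2⟩
      refine ⟨⟨x, hx1⟩, ?_, rfl⟩
      rw [SetLike.mem_coe, Subgroup.mem_center_iff]
      intro w
      exact Subtype.ext (hx2 w w.2)
  have hcardZ : Nat.card ((Subgroup.center Om).map Om.subtype) = p := by
    rw [Subgroup.card_map_of_injective Om.subtype_injective, hZc]
  refine ⟨(Subgroup.center Om).map Om.subtype, hcardZ, hmem, ?_, ?_⟩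
  · intro ζ hζ s hs
    have hinv : ∀ s ∈ S, ∀ h ∈ (Subgroup.center Om).map Om.subtype,
        s * h * s⁻¹ ∈ (Subgroup.center Om).map Om.subtype := by
      intro s hs h hh
      rw [hmem] at hh ⊢
      refine ⟨hconjOm s hs h hh.1, fun w hw => ?_⟩
      have h1 := hh.2 (s⁻¹ * w * s) (by simpa using hconjOm s⁻¹ (S.inv_mem hs) w hw)
      calc w * (s * h * s⁻¹) = s * ((s⁻¹ * w * s) * h) * s⁻¹ := by group
        _ = s * (h * (s⁻¹ * w * s)) * s⁻¹ := by rw [h1]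
        _ = s * h * s⁻¹ * w := by group
    have := section_trivial hS (H := (Subgroup.center Om).map Om.subtype) (K := ⊥) bot_le
      (fun x hx => hOmS ((hmem x).1 hx).1) hinv
      (by
        intro s _ k hk
        rw [Subgroup.mem_bot] at hk ⊢
        rw [hk]; group)
      (by rw [hcardZ, Subgroup.card_bot, mul_one]) s hs ζ hζ
    rw [Subgroup.mem_bot] at this
    calc s * ζ = (s * ζ * s⁻¹ * ζ⁻¹) * (ζ * s) := by group
      _ = ζ * s := by rw [this, one_mul]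
  · intro a ha b hb
    have hidx := (Subgroup.center Om).card_mul_index
    rw [hcard, hZc] at hidx
    have hq : Nat.card (Om ⧸ Subgroup.center Om) = p ^ 2 := by
      have : p * (Subgroup.center Om).index = p * p ^ 2 := by rw [hidx]; ring
      exact Nat.eq_of_mul_eq_mul_left hpp.pos this
    have hqc := Helper89PCube.comm_of_card_dvd_sq (p := p) (E := Om ⧸ Subgroup.center Om)
      (by rw [hq])
    refine ⟨(⟨a, ha⟩ : Om) * ⟨b, hb⟩ * (⟨a, ha⟩ : Om)⁻¹ * (⟨b, hb⟩ : Om)⁻¹, ?_, rfl⟩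
    rw [SetLike.mem_coe, ← QuotientGroup.eq_one_iff]
    simp only [QuotientGroup.mk_mul, QuotientGroup.mk_inv]
    rw [hqc (QuotientGroup.mk ⟨a, ha⟩) (QuotientGroup.mk ⟨b, hb⟩)]
    group

end Cfsg.Agent.Lib.Helper89Rk
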