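import Mathlib
import Cfsg.Agent.Lib.Helper89RkDefs
import Cfsg.Agent.Lib.Helper89RkSect
import Cfsg.Agent.Lib.Helper89RkFrameZ
import Cfsg.Agent.Lib.Helper3RankTwo

set_option autoImplicit false

namespace Cfsg.Agent.Lib.Helper89Rk

variable {G : Type*} [Group G] {S Om Q Z C : Subgroup G} {p : ℕ}

/-- existence of the frame: `Z` from `exists_frameZ`; `Q` an `S`-invariant subgroup of order `p ^ 2` of `Om`
(`Helper3RankTwo.exists_normal_sq` in `↥S`); `Z ≤ Q` since `Q ∩ Z(Om) ≠ 1`; the last two fields from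
`section_trivial`. -/
theorem exists_frame [Finite S] [Fact p.Prime] (hS : IsPGroup p S) (hp : 5 ≤ p) (hrk : Rk2 p S)
    (hOm : ∀ x, x ∈ Om ↔ x ∈ S ∧ x ^ p = 1) (hcard : Nat.card Om = p ^ 3) :
    ∃ Q Z : Subgroup G, Frame p S Om Q Z := by
  have hpp : p.Prime := Fact.out
  have hOmS : Om ≤ S := fun x hx => ((hOm x).1 hx).1
  obtain ⟨Z, hcardZ, hmemZ, hcentral, hcomm⟩ := exists_frameZ hS hp hrk hOm hcard
  have hconjOm : ∀ s ∈ S, ∀ w ∈ Om, s * w * s⁻¹ ∈ Om := by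
    intro s hs w hw
    rw [hOm]
    refine ⟨S.mul_mem (S.mul_mem hs (hOmS hw)) (S.inv_mem hs), ?_⟩
    rw [conj_pow, ((hOm w).1 hw).2, mul_one, mul_inv_cancel]
  haveI hN : (Om.subgroupOf S).Normal := by
    constructor
    intro n hn g
    rw [Subgroup.mem_subgroupOf] at hn ⊢
    exact hconjOm g g.2 n hn
  have hcardN : Nat.card (Om.subgroupOf S) = p ^ 3 := by
    rw [← hcard]
    exact Nat.card_congr (Subgroup.subgroupOfEquivOfLe hOmS).toEquiv
  obtain ⟨B, hBn, ⟨hBc, hBe⟩, hBcard⟩ := Helper3RankTwo.exists_normal_sq hS (Om.subgroupOf S)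
    (by
      intro a ha
      rw [Subgroup.mem_subgroupOf] at ha
      exact Subtype.ext ((hOm a).1 ha).2)
    (by
      rw [hcardN]
      calc p = p ^ 1 := (pow_one p).symm
        _ < p ^ 3 := Nat.pow_lt_pow_right hpp.one_lt (by norm_num))
  have hcardQ : Nat.card (B.map S.subtype) = p ^ 2 := by
    rw [Subgroup.card_map_of_injective S.subtype_injective, hBcard]
  have hQOm : B.map S.subtype ≤ Om := by
    rintro _ ⟨x, hx, rfl⟩
    rw [hOm]
    exact ⟨x.2, congrArg Subtype.val (hBe x hx)⟩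
  have hQinv : ∀ s ∈ S, ∀ h ∈ B.map S.subtype, s * h * s⁻¹ ∈ B.map S.subtype := by
    rintro s hs _ ⟨x, hx, rfl⟩
    exact ⟨⟨s, hs⟩ * x * (⟨s, hs⟩ : S)⁻¹, hBn.conj_mem x hx ⟨s, hs⟩, rfl⟩
  have hZinv : ∀ s ∈ S, ∀ k ∈ Z, s * k * s⁻¹ ∈ Z := by
    intro s hs k hk
    rw [hcentral k hk s hs, mul_inv_cancel_right]
    exact hk
  have hZQ : Z ≤ B.map S.subtype := by
    have hBne : B ≠ ⊥ := by
      rintro rfl
      rw [Subgroup.card_bot] at hBcard
      have := Nat.one_lt_pow (n := 2) (by norm_num) hpp.one_lt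
      omega
    obtain ⟨x, hxB, hxZ, hx1, hxp⟩ := Helper3PGroup.exists_central_order_p hS B hBne
    have hxZ' : (x : G) ∈ Z := by
      rw [hmemZ]
      refine ⟨(hOm _).2 ⟨x.2, congrArg Subtype.val hxp⟩, fun w hw => ?_⟩
      exact congrArg Subtype.val (Subgroup.mem_center_iff.mp hxZ ⟨w, hOmS hw⟩)
    intro ζ hζ
    have := mem_zpowers_of_prime_card (G := Z) hcardZ (g := ⟨x, hxZ'⟩) (g' := ⟨ζ, hζ⟩)
      (by
        intro h
        have h' : (x : G) = 1 := congrArg Subtype.val h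
        exact hx1 (Subtype.ext h'))
    obtain ⟨i, hi⟩ := this
    have hi' : (x : G) ^ i = ζ := by simpa using congrArg Subtype.val hi
    rw [← hi']
    have hxQ : (x : G) ∈ B.map S.subtype := ⟨x, hxB, rfl⟩
    exact Subgroup.zpow_mem _ hxQ i
  refine ⟨B.map S.subtype, Z, ⟨hOm, hZQ, hQOm, hcardZ, hcardQ, hcard, hmemZ, hcentral, hcomm, ?_, ?_⟩⟩
  · exact section_trivial hS hZQ (hQOm.trans hOmS) hQinv hZinv (by rw [hcardQ, hcardZ]; ring)
  · exact section_trivial hS hQOm hOmS hconjOm hQinv (by rw [hcardQ, hcard]; ring)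

end Cfsg.Agent.Lib.Helper89Rk
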