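import Mathlib
import Cfsg.Agent.Lib.Helper89RkDefs
import Cfsg.Agent.Lib.Helper89RkLine

set_option autoImplicit false

namespace Cfsg.Agent.Lib.Helper89Rk

variable {G : Type*} [Group G] {S Om Q Z C : Subgroup G} {p : ℕ}

/-- `E ⊴ T` elementary abelian of order `p ^ 2`, self-centralising in the `p`-group `T`: `|T| ≤ p ^ 3`.
(With `L`, from `exists_line`, `z` a generator of `L`, `y ∈ E \ L`: `t * y * t⁻¹ = y * z ^ a(t)`, and `t ↦ a(t)` is
a homomorphism to `ZMod p` with kernel `C_T(E) = E`.) -/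
theorem card_le_cube {T E : Subgroup G} [Finite T] [Fact p.Prime] (hT : IsPGroup p T) (hET : E ≤ T)
    (hn : ∀ t ∈ T, ∀ e ∈ E, t * e * t⁻¹ ∈ E) (hcard : Nat.card E = p ^ 2) (hexp : ∀ e ∈ E, e ^ p = 1)
    (hcen : ∀ t ∈ T, (∀ e ∈ E, t * e = e * t) → t ∈ E) : Nat.card T ≤ p ^ 3 := by
  have hp : p.Prime := Fact.out
  obtain ⟨L, hLE, hLc, hLcen, hLcomm⟩ := exists_line hT hET hn hcard
  have hfE : Finite E := Nat.finite_of_card_ne_zero (by rw [hcard]; exact pow_ne_zero _ hp.ne_zero)
  have hfL : Finite L := Nat.finite_of_card_ne_zero (by rw [hLc]; exact hp.ne_zero)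
  obtain ⟨y, hyE, hyL⟩ : ∃ y ∈ E, y ∉ L := by
    by_contra hcon
    push Not at hcon
    have hle : E ≤ L := hcon
    have h1 := Subgroup.card_le_of_le hle
    rw [hcard, hLc] at h1
    nlinarith [hp.two_le]
  let φ : T →* L := MonoidHom.mk'
    (fun t => ⟨y⁻¹ * ((t : G) * y * (t : G)⁻¹), hLcomm t t.2 y hyE⟩) (by
      intro s t
      apply Subtype.ext
      have hl := hLcen s s.2 _ (hLcomm t t.2 y hyE)
      show y⁻¹ * (((s : G) * (t : G)) * y * ((s : G) * (t : G))⁻¹) =
        (y⁻¹ * ((s : G) * y * (s : G)⁻¹)) * (y⁻¹ * ((t : G) * y * (t : G)⁻¹))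
      calc y⁻¹ * (((s : G) * (t : G)) * y * ((s : G) * (t : G))⁻¹)
          = y⁻¹ * ((s : G) * y * (s : G)⁻¹) *
            ((s : G) * (y⁻¹ * ((t : G) * y * (t : G)⁻¹)) * (s : G)⁻¹) := by group
        _ = _ := by rw [hl])
  have hker : ∀ t : T, t ∈ φ.ker → (t : G) ∈ E := by
    intro t ht
    have h1 : y⁻¹ * ((t : G) * y * (t : G)⁻¹) = 1 := congrArg Subtype.val (MonoidHom.mem_ker.1 ht)
    have hty : (t : G) * y = y * (t : G) := by
      have h2 : (t : G) * y * (t : G)⁻¹ = y := by
        rw [inv_mul_eq_one] at h1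
        exact h1.symm
      exact mul_inv_eq_iff_eq_mul.1 h2
    apply hcen t t.2
    -- the subgroup of `E` commuting with `t`
    let K : Subgroup G := E ⊓ Subgroup.centralizer {(t : G)}
    have hKE : K ≤ E := inf_le_left
    have hLK : L ≤ K := by
      intro l hl
      refine Subgroup.mem_inf.2 ⟨hLE hl, ?_⟩
      rw [Subgroup.mem_centralizer_iff]
      intro h hh
      rw [Set.mem_singleton_iff] at hh
      subst hh
      exact mul_inv_eq_iff_eq_mul.1 (hLcen t t.2 l hl)
    have hyK : y ∈ K := by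
      refine Subgroup.mem_inf.2 ⟨hyE, ?_⟩
      rw [Subgroup.mem_centralizer_iff]
      intro h hh
      rw [Set.mem_singleton_iff] at hh
      subst hh
      exact hty
    have hfK : Finite K := Finite.of_injective (Subgroup.inclusion hKE) (Subgroup.inclusion_injective hKE)
    have hKcard : Nat.card K ∣ p ^ 2 := hcard ▸ Subgroup.card_dvd_of_le hKE
    obtain ⟨i, hi, hKi⟩ := (Nat.dvd_prime_pow hp).1 hKcard
    have hne : Nat.card K ≠ p := by
      intro h
      have : L = K := Subgroup.eq_of_le_of_card_ge hLK (by rw [h, hLc])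
      exact hyL (this ▸ hyK)
    have hge : p ≤ Nat.card K := hLc ▸ Subgroup.card_le_of_le hLK
    have hi2 : i = 2 := by
      interval_cases i
      · rw [pow_zero] at hKi
        have := hp.two_le
        omega
      · rw [pow_one] at hKi
        exact absurd hKi hne
      · rfl
    have hKeq : K = E := Subgroup.eq_of_le_of_card_ge hKE (by rw [hKi, hi2, hcard])
    intro e he
    have heK : e ∈ K := hKeq ▸ he
    exact (Subgroup.mem_centralizer_iff.1 (Subgroup.mem_inf.1 heK).2) t rfl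
  have h1 := Subgroup.card_mul_index φ.ker
  rw [Subgroup.index_ker] at h1
  have h2 : Nat.card φ.range ≤ p := hLc ▸ Subgroup.card_le_card_group φ.range
  have h3 : Nat.card φ.ker ≤ p ^ 2 := by
    rw [← hcard]
    refine Nat.card_le_card_of_injective (fun t : φ.ker => (⟨(t : T), hker t t.2⟩ : E)) ?_
    intro a b hab
    apply Subtype.ext
    apply Subtype.ext
    exact congrArg (fun e : E => (e : G)) hab
  calc Nat.card T = Nat.card φ.ker * Nat.card φ.range := h1.symm
    _ ≤ p ^ 2 * p := Nat.mul_le_mul h3 h2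
    _ = p ^ 3 := by ring

end Cfsg.Agent.Lib.Helper89Rk
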