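import Mathlib
import Cfsg.Agent.Lib.Helper89RkDefs
import Cfsg.Agent.Lib.Helper3OmegaRank

set_option autoImplicit false

namespace Cfsg.Agent.Lib.Helper89Rk

variable {G : Type*} [Group G] {S Om Q Z C : Subgroup G} {p : ℕ}

/-- transport of the rank hypothesis to a subgroup (as a type) of `S` -/
theorem Rk2.subtype_rank (hrk : Rk2 p S) {H : Subgroup G} (hH : H ≤ S) (E : Subgroup H)
    (hE : Cfsg.IsElementaryAbelian p E) : Nat.card E ≤ p ^ 2 := by
  rw [← Subgroup.card_map_of_injective (K := E) H.subtype_injective]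
  apply hrk
  · rintro _ ⟨a, _, rfl⟩
    exact hH a.2
  refine ⟨⟨⟨?_⟩⟩, ?_⟩
  · rintro ⟨_, a, ha, rfl⟩ ⟨_, b, hb, rfl⟩
    apply Subtype.ext
    have h1 : a * b = b * a := congrArg Subtype.val (hE.1.is_comm.comm ⟨a, ha⟩ ⟨b, hb⟩)
    show (a : G) * (b : G) = (b : G) * (a : G)
    exact congrArg Subtype.val h1
  · rintro _ ⟨a, ha, rfl⟩
    have := hE.2 a ha
    exact congrArg Subtype.val this

/-- `Ω₁(S)` is the set of elements of order dividing `p`, and it has order at most `p ^ 3`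
(transport `Helper3OmegaRank.main`, `card_le_of_exponent_rank` from the type `↥S`). -/
theorem exists_omega [Finite S] [Fact p.Prime] (hS : IsPGroup p S) (hp : 5 ≤ p) (hrk : Rk2 p S) :
    ∃ Om : Subgroup G, (∀ x, x ∈ Om ↔ x ∈ S ∧ x ^ p = 1) ∧ Nat.card Om ≤ p ^ 3 := by
  have hmul : ∀ x y : S, x ^ p = 1 → y ^ p = 1 → (x * y) ^ p = 1 :=
    Helper3OmegaRank.main (by omega) (Nat.card S) S le_rfl hS (hrk.subtype_rank le_rfl)
  let Om : Subgroup G :=
    { carrier := {x | x ∈ S ∧ x ^ p = 1}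
      mul_mem' := fun {a b} ha hb => ⟨S.mul_mem ha.1 hb.1, by
          have := hmul ⟨a, ha.1⟩ ⟨b, hb.1⟩ (Subtype.ext (by simpa using ha.2))
            (Subtype.ext (by simpa using hb.2))
          simpa using congrArg Subtype.val this⟩
      one_mem' := ⟨S.one_mem, one_pow _⟩
      inv_mem' := fun {a} ha => ⟨S.inv_mem ha.1, by rw [inv_pow, ha.2, inv_one]⟩ }
  have hle : Om ≤ S := fun x hx => hx.1
  refine ⟨Om, fun x => Iff.rfl, ?_⟩
  haveI : Finite Om := Finite.of_injective (Subgroup.inclusion hle) (Subgroup.inclusion_injective hle)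
  apply Helper3OmegaRank.card_le_of_exponent_rank (p := p) (Y := Om)
  · intro g
    exact Subtype.ext (by simpa using g.2.2)
  · exact hrk.subtype_rank hle

end Cfsg.Agent.Lib.Helper89Rk
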