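import Mathlib
import Cfsg.Agent.Lib.Helper89RkDefs
import Cfsg.Agent.Lib.Helper89RkCg
import Cfsg.Agent.Lib.Helper89RkEnd
import Cfsg.Agent.Lib.Helper89RkExC
import Cfsg.Agent.Lib.Helper89RkCdecomp
import Cfsg.Agent.Lib.Helper89RkYcyc
import Cfsg.Agent.Lib.Helper89RkPowmem
import Cfsg.Agent.Lib.Helper89RkGen

set_option autoImplicit false

namespace Cfsg.Agent.Lib.Helper89Rk

variable {G : Type*} [Group G] {S Om Q Z C : Subgroup G} {p : ℕ}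

/-- powers of `a w` modulo the normal subgroup `Om` -/
theorem Frame.mul_pow_mod (fr : Frame p S Om Q Z) {a w : G} (ha : a ∈ S) (hw : w ∈ Om) (n : ℕ) :
    ∃ v ∈ Om, (a * w) ^ n = a ^ n * v := by
  induction n with
  | zero => exact ⟨1, Om.one_mem, by simp⟩
  | succ n ih =>
    obtain ⟨v, hv, h⟩ := ih
    refine ⟨a⁻¹ * v * a⁻¹⁻¹ * w, Om.mul_mem (fr.conj_mem_Om (S.inv_mem ha) hv) hw, ?_⟩
    rw [pow_succ, h, pow_succ]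
    group

/-- if `β x = x ^ k * w` (`w ∈ Om`, `k ≢ 1`) then `x ^ p ∈ Om`.  `x ^ p ∈ C` (`IsC.pow_p_mem`), `x ^ p = w₂ y₂`
(`IsC.decomp`).  `β (x ^ p) = β w₂ * y₂ ^ κ ∈ Om y₂ ^ κ`, and `β (x ^ p) = (x ^ k w) ^ p ∈ x ^ (k p) Om = y₂ ^ k Om`
(`Om` is normal in `S`).  So `y₂ ^ k (y₂ ^ κ)⁻¹ ∈ Om`, hence `y₂ ∈ Om` (`mem_of_pow_mem'`). -/
theorem pow_mem_Om [Finite S] [Fact p.Prime] (hS : IsPGroup p S) (hp : 5 ≤ p) (hrk : Rk2 p S)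
    (fr : Frame p S Om Q Z) (hC : IsC S Om Z C) {β : G → G} (hβ : EndOn S β) {x w : G} {k κ : ℕ}
    (hx : x ∈ S) (hw : w ∈ Om) (hβx : β x = x ^ k * w) (hk : ¬ k ≡ 1 [MOD p]) (hκ1 : κ ≡ 1 [MOD p])
    (hκ : ∀ c, InY S Om c → β c = c ^ κ) : x ^ p ∈ Om := by
  obtain ⟨w₂, hw₂, y₂, hy₂, hxp⟩ := hC.decomp hS hp hrk fr (hC.pow_p_mem fr hx)
  have hw₂S : w₂ ∈ S := fr.Om_le hw₂
  have h1 : β (x ^ p) = β w₂ * y₂ ^ κ := by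
    rw [hxp, hβ.mul _ hw₂S _ hy₂.1, hκ _ hy₂]
  obtain ⟨v, hv, h2⟩ := fr.mul_pow_mod (S.pow_mem hx k) hw p
  have hcomm : Commute w₂ y₂ := (hy₂.2 w₂ hw₂).symm
  have h3 : β (x ^ p) = w₂ ^ k * y₂ ^ k * v := by
    rw [hβ.map_pow hx, hβx, h2, ← pow_mul, mul_comm, pow_mul, hxp, hcomm.mul_pow]
  have h4 : y₂ ^ k * (y₂ ^ κ)⁻¹ = (w₂ ^ k)⁻¹ * β w₂ * v⁻¹ := by
    have h5 : y₂ ^ κ * v⁻¹ = v⁻¹ * y₂ ^ κ := (hy₂.pow κ).2 _ (Om.inv_mem hv)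
    have h6 : y₂ ^ k = (w₂ ^ k)⁻¹ * (β w₂ * y₂ ^ κ) * v⁻¹ := by
      rw [← h1, h3]
      group
    rw [h6, mul_assoc, mul_assoc, mul_assoc, mul_assoc, ← mul_assoc (y₂ ^ κ), h5]
    group
  obtain ⟨n, hn⟩ := hS ⟨y₂, hy₂.1⟩
  have hn' : y₂ ^ p ^ n = 1 := by simpa using congrArg Subtype.val hn
  have hkκ : ¬ k ≡ κ [MOD p] := fun h => hk (h.trans hκ1)
  have hy₂O : y₂ ∈ Om := by
    apply mem_of_pow_mem' hn' (a := k) (b := κ) _ hkκ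
    rw [h4]
    exact Om.mul_mem (Om.mul_mem (Om.inv_mem (Om.pow_mem hw₂ k)) (hβ.mem_Om fr hw₂)) (Om.inv_mem hv)
  rw [hxp]
  exact Om.mul_mem hw₂ hy₂O

end Cfsg.Agent.Lib.Helper89Rk
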