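import Mathlib
import Cfsg.Agent.Lib.Helper89SmallExp
import Cfsg.Agent.Lib.Helper87Closed
import Cfsg.Agent.Lib.Helper88Factor
import Cfsg.Agent.Lib.Helper89HType

set_option autoImplicit false
set_option linter.unusedSectionVars false
set_option linter.unusedVariables false

/-! `p'`-automorphisms in a fusion system and elements of order `p` or `4` of the hyperfocal
subgroup (helper89). -/

namespace Cfsg.Agent.Lib.Helper89SmallExp2

open Cfsg Cfsg.FusionSystem Cfsg.Agent.Lib.Helper87Fusion Cfsg.Agent.Lib.Helper86Group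
  Cfsg.Agent.Lib.Helper86Fusion Cfsg.Agent.Lib.Helper86Fusion2 Cfsg.Agent.Lib.Helper87Fusion2
  Cfsg.Agent.Lib.Helper89Omega Cfsg.Agent.Lib.Helper89SmallExp Cfsg.Agent.Lib.Helper87Closed

variable {Ω : Type*} [Group Ω] {S : Subgroup Ω}

/-- the ascending chain `R ∩ γ_{N-j}(S)` -/
def chain (S P : Subgroup Ω) (R : Subgroup P) (N j : ℕ) : Subgroup P :=
  R ⊓ (S.lowerCentralSeries (N - j)).subgroupOf P

theorem lcs_le (i : ℕ) : S.lowerCentralSeries i ≤ S := S.lowerCentralSeries_antitone (Nat.zero_le i)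

theorem comm_mem_lcs {N j : ℕ} {y g : Ω} (hy : y ∈ S.lowerCentralSeries (N - (j + 1)))
    (hg : g ∈ S) : y⁻¹ * (g * y * g⁻¹) ∈ S.lowerCentralSeries (N - j) := by
  by_cases hj : j < N
  · have e : N - j = (N - (j + 1)) + 1 := by omega
    rw [e, Subgroup.lowerCentralSeries_succ]
    have h1 := Subgroup.commutator_mem_commutator (Subgroup.inv_mem _ hy) hg
    rw [commutatorElement_def, inv_inv] at h1
    have e2 : y⁻¹ * (g * y * g⁻¹) = y⁻¹ * g * y * g⁻¹ := by group
    rw [e2]
    exact h1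
  · have e : N - j = 0 := by omega
    rw [e, Subgroup.lowerCentralSeries_zero]
    have hyS := lcs_le _ hy
    exact S.mul_mem (S.inv_mem hyS) (S.mul_mem (S.mul_mem hg hyS) (S.inv_mem hg))

theorem isMap_lcs {F : FusionSystem S} {β : Ω → Ω} (hβ : IsMap F S β) (i : ℕ) :
    ∀ x ∈ S.lowerCentralSeries i, β x ∈ S.lowerCentralSeries i := by
  induction i with
  | zero =>
    intro x hx
    exact hβ.mem hx
  | succ i ih =>
    intro x hx
    have hx' := hx
    rw [Subgroup.mem_lowerCentralSeries_succ_iff] at hx'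
    induction hx' using Subgroup.closure_induction with
    | mem x hx0 =>
      obtain ⟨a, ha, s, hs, rfl⟩ := hx0
      have haS := lcs_le _ ha
      rw [commutatorElement_def, hβ.map_mul (S.mul_mem (S.mul_mem haS hs) (S.inv_mem haS))
        (S.inv_mem hs), hβ.map_mul (S.mul_mem haS hs) (S.inv_mem haS), hβ.map_mul haS hs,
        hβ.map_inv haS, hβ.map_inv hs, ← commutatorElement_def]
      exact Subgroup.commutator_mem_commutator (ih a ha) (hβ.mem hs)
    | one => rw [hβ.map_one]; exact Subgroup.one_mem _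
    | mul a b ha' hb' ha hb =>
      have haL : a ∈ S.lowerCentralSeries (i + 1) := ha'
      have hbL : b ∈ S.lowerCentralSeries (i + 1) := hb'
      rw [hβ.map_mul (lcs_le _ haL) (lcs_le _ hbL)]
      exact Subgroup.mul_mem _ (ha haL) (hb hbL)
    | inv a ha' ha =>
      have haL : a ∈ S.lowerCentralSeries (i + 1) := ha'
      rw [hβ.map_inv (lcs_le _ haL)]
      exact Subgroup.inv_mem _ (ha haL)

theorem card_zpowers_small {p : ℕ} [hp : Fact p.Prime] {y : Ω} (hy1 : y ≠ 1)
    (hy : y ^ smallExp p = 1) :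
    Nat.card (Subgroup.zpowers y) = p ∨ Nat.card (Subgroup.zpowers y) = 4 := by
  rw [Nat.card_zpowers]
  have h1 := orderOf_dvd_of_pow_eq_one hy
  have h0 : orderOf y ≠ 1 := fun h => hy1 (orderOf_eq_one_iff.1 h)
  unfold smallExp at h1
  split_ifs at h1 with h2
  · subst h2
    obtain ⟨k, hk, e⟩ := (Nat.dvd_prime_pow Nat.prime_two (m := 2)).1 (by simpa using h1)
    interval_cases k
    · exact absurd (by simpa using e) h0
    · left; simpa using e
    · right; simpa using e
  · rcases (Nat.dvd_prime hp.out).1 h1 with h | h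
    · exact absurd h h0
    · exact Or.inl h

theorem key [Finite S] {p : ℕ} [Fact p.Prime] (hS : IsPGroup p S) {F : FusionSystem S}
    (hF : F.IsSaturated p) {P : Subgroup Ω} (hPS : P ≤ S) (K : Set (MulAut P))
    (hKA : ∀ k ∈ K, k ∈ F.autGroup P) (hKp : ∀ k ∈ K, (orderOf k).Coprime p)
    (hKc : ∀ a ∈ F.autGroup P, ∀ k ∈ K, a * k * a⁻¹ ∈ K) (N : ℕ)
    (hN : S.lowerCentralSeries N = ⊥)
    (H : ∀ R : Subgroup P, R ≤ (F.hyperfocalSubgroup p).subgroupOf P →
      (∀ a ∈ F.autGroup P, ∀ x ∈ R, a x ∈ R) → (∀ x ∈ R, x ^ smallExp p = 1) →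
      ∀ k ∈ K, ∀ j, ∀ y ∈ chain S P R N (j + 1), y⁻¹ * k y ∈ chain S P R N j) :
    ∀ k ∈ K, k = 1 := by
  have : Finite P := finite_of_le hPS
  have hPp : IsPGroup p P := hS.to_le hPS
  have hsc := hyperfocal_stronglyClosed hS hF
  have hDinv : ∀ a ∈ F.autGroup P, ∀ x ∈ (F.hyperfocalSubgroup p).subgroupOf P,
      a x ∈ (F.hyperfocalSubgroup p).subgroupOf P := by
    intro a ha x hx
    rw [Subgroup.mem_subgroupOf] at hx ⊢
    have := Cfsg.Agent.Lib.Helper88Factor.sc_mem hsc ((mem_autGroup_iff_totA F hPS a).1 ha) x.2 hx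
    rwa [totA_apply] at this
  have hfix := fixes_of_fixes_small hPp (F.autGroup P) K hKA hKp hKc
    ((F.hyperfocalSubgroup p).subgroupOf P) (fun R hRD hR hexp k hk x hx => by
      refine fixes_of_chain hPp (hKp k hk) (chain S P R N) ?_ (H R hRD hR hexp k hk) N x ?_
      · unfold chain
        rw [Nat.sub_zero, hN, eq_bot_iff]
        rintro y ⟨-, hy⟩
        have hy' : (y : Ω) ∈ (⊥ : Subgroup Ω) := hy
        rw [Subgroup.mem_bot] at hy' ⊢
        exact Subtype.ext hy'
      · refine ⟨hx, ?_⟩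
        show (x : Ω) ∈ S.lowerCentralSeries (N - N)
        rw [Nat.sub_self, Subgroup.lowerCentralSeries_zero]
        exact hPS x.2) _ _ rfl le_rfl hDinv
  intro k hk
  ext x
  have h1 : k x = x := by
    apply fix_of_comm_fixed hPp (hKp k hk)
    apply hfix k hk
    rw [Subgroup.mem_subgroupOf]
    have hα : (⟨k, hKA k hk⟩ : F.autGroup P) ∈ pResidual p (F.autGroup P) := by
      apply Subgroup.subset_closure
      show Nat.Coprime (orderOf (⟨k, hKA k hk⟩ : F.autGroup P)) p
      rw [Subgroup.orderOf_mk]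
      exact hKp k hk
    exact mem_hyperfocal_of hPS hα x
  rw [h1]
  rfl

end Cfsg.Agent.Lib.Helper89SmallExp2
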