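import Mathlib

set_option autoImplicit false
set_option linter.unusedVariables false
set_option linter.unusedSectionVars false

/-! Abelian groups of order `4k`, `k` odd, without elements of order four. -/

namespace Cfsg.Agent.Lib.Helper8Ab

section comm

variable {A : Type*} [CommGroup A] [Finite A]

theorem comm_split (k : ℕ) (hk : Odd k) (hc : Nat.card A = 4 * k) (h2 : ∀ x : A, x ^ 4 = 1 → x ^ 2 = 1) :
    Nat.card {x : A // x ^ k = 1} = k ∧ Nat.card {x : A // x ^ 2 = 1} = 4 := by
  have : Fact (Nat.Prime 2) := ⟨Nat.prime_two⟩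
  let f : A →* A := powMonoidHom k
  have hker : ∀ x, x ∈ f.ker ↔ x ^ k = 1 := fun x => Iff.rfl
  have hran : ∀ x, x ∈ f.range ↔ x ^ 2 = 1 := by
    intro x
    constructor
    · rintro ⟨y, rfl⟩
      apply h2
      show (y ^ k) ^ 4 = 1
      rw [← pow_mul, mul_comm, ← hc, pow_card_eq_one']
    · intro hx
      obtain ⟨j, rfl⟩ := hk
      refine ⟨x, ?_⟩
      show x ^ (2 * j + 1) = x
      rw [pow_succ, pow_mul, hx, one_pow, one_mul]
  have h1 := Subgroup.card_mul_index f.ker
  rw [Subgroup.index_ker, hc] at h1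
  have hodd : Odd (Nat.card f.ker) := by
    rw [← Nat.not_even_iff_odd]
    intro he
    obtain ⟨x, hx⟩ := exists_prime_orderOf_dvd_card' 2 he.two_dvd
    have h3 : (x : A) ^ k = 1 := x.2
    have h4 := orderOf_dvd_of_pow_eq_one h3
    rw [Subgroup.orderOf_coe, hx] at h4
    obtain ⟨j, rfl⟩ := hk
    omega
  have hp : IsPGroup 2 f.range := by
    rintro ⟨x, hx⟩
    refine ⟨1, Subtype.ext ?_⟩
    show x ^ 2 ^ 1 = 1
    rw [pow_one]; exact (hran x).1 hx
  obtain ⟨n, hn⟩ := IsPGroup.iff_card.1 hp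
  have key : Nat.card f.ker = k ∧ Nat.card f.range = 4 := by
    rw [hn] at h1 ⊢
    obtain ⟨a, ha⟩ := hodd
    obtain ⟨j, hj⟩ := hk
    generalize Nat.card f.ker = c at *
    rcases n with _ | _ | _ | n
    · simp at h1; omega
    · simp at h1; omega
    · norm_num at h1 ⊢; omega
    · exfalso
      have : c * 2 ^ (n + 1 + 1 + 1) = 8 * (c * 2 ^ n) := by ring
      rw [this] at h1
      omega
  constructor
  · exact key.1
  · rw [← key.2]
    exact Nat.card_congr (Equiv.subtypeEquivRight (fun x => (hran x).symm))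

theorem card_two_mul (i : ℕ) (hi : Odd i) (h4 : Nat.card {x : A // x ^ 2 = 1} = 4) :
    Nat.card {x : A // orderOf x = 2 * i} = 3 * Nat.card {x : A // orderOf x = i} := by
  have : Fact (Nat.Prime 2) := ⟨Nat.prime_two⟩
  have hi0 : i ≠ 0 := by rintro rfl; exact absurd hi (by decide)
  have h3 : Nat.card {x : A // orderOf x = 2} = 3 := by
    have e : {x : A // orderOf x = 2} ≃ {y : {x : A // x ^ 2 = 1} // y ≠ ⟨1, one_pow 2⟩} :=
      { toFun := fun x => ⟨⟨x.1, by have := pow_orderOf_eq_one x.1; rwa [x.2] at this⟩, by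
          intro h
          have h1 : x.1 = 1 := congrArg Subtype.val h
          have := x.2
          rw [h1, orderOf_one] at this
          omega⟩
        invFun := fun y => ⟨y.1.1, orderOf_eq_prime y.1.2 (fun h => y.2 (Subtype.ext h))⟩
        left_inv := fun x => rfl
        right_inv := fun y => rfl }
    classical
    have : Fintype {x : A // x ^ 2 = 1} := Fintype.ofFinite _
    rw [Nat.card_congr e, Nat.card_eq_fintype_card, Fintype.card_subtype_compl, Fintype.card_subtype_eq,
      ← Nat.card_eq_fintype_card, h4]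
  rw [← h3, ← Nat.card_prod]
  symm
  obtain ⟨j, hj⟩ := hi
  apply Nat.card_congr
  refine Equiv.ofBijective (fun p => ⟨p.1.1 * p.2.1, ?_⟩) ⟨?_, ?_⟩
  · rw [(Commute.all p.1.1 p.2.1).orderOf_mul_eq_mul_orderOf_of_coprime, p.1.2, p.2.2]
    rw [p.1.2, p.2.2, hj]
    simp
  · rintro ⟨⟨t, ht⟩, ⟨d, hd⟩⟩ ⟨⟨t', ht'⟩, ⟨d', hd'⟩⟩ h
    have h1 : t * d = t' * d' := congrArg Subtype.val h
    have hti : ∀ s : A, orderOf s = 2 → s ^ i = s := by
      intro s hs
      rw [hj, pow_succ, pow_mul, ← hs, pow_orderOf_eq_one, one_pow, one_mul]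
    have h2 := congrArg (· ^ i) h1
    simp only [mul_pow] at h2
    rw [hti t ht, hti t' ht'] at h2
    have hdi : d ^ i = 1 := by rw [← hd]; exact pow_orderOf_eq_one _
    have hdi' : d' ^ i = 1 := by rw [← hd']; exact pow_orderOf_eq_one _
    rw [hdi, hdi', mul_one, mul_one] at h2
    subst h2
    have h5 := mul_left_cancel h1
    subst h5
    rfl
  · rintro ⟨z, hz⟩
    have ht : orderOf (z ^ i) = 2 := by
      rw [orderOf_pow_of_dvd hi0 (by rw [hz]; exact Dvd.intro_left 2 rfl), hz]
      exact Nat.mul_div_cancel _ (Nat.pos_of_ne_zero hi0)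
    have hzz : z ^ i * z ^ (i + 1) = z := by
      rw [← pow_add, ← add_assoc, ← two_mul, pow_succ, ← hz, pow_orderOf_eq_one, one_mul]
    have hd : orderOf (z ^ (i + 1)) = i := by
      apply Nat.dvd_antisymm
      · apply orderOf_dvd_of_pow_eq_one
        have : (i + 1) * i = (2 * i) * (j + 1) := by rw [hj]; ring
        rw [← pow_mul, this, pow_mul, ← hz, pow_orderOf_eq_one, one_pow]
      · set e := orderOf (z ^ (i + 1)) with he
        have h6 : z ^ (2 * e) = 1 := by
          have ht2 : (z ^ i) ^ 2 = 1 := by rw [← ht]; exact pow_orderOf_eq_one _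
          have hde : (z ^ (i + 1)) ^ e = 1 := pow_orderOf_eq_one _
          nth_rewrite 1 [← hzz]
          rw [mul_pow, pow_mul (z ^ i) 2 e, ht2, one_pow, one_mul, mul_comm 2 e, pow_mul, hde, one_pow]
        have h7 := orderOf_dvd_of_pow_eq_one h6
        rw [hz] at h7
        exact Nat.dvd_of_mul_dvd_mul_left (by norm_num) h7
    exact ⟨(⟨z ^ i, ht⟩, ⟨z ^ (i + 1), hd⟩), Subtype.ext hzz⟩

end comm

section sub

variable {G : Type*} [Group G] [Finite G]

omit [Finite G] in
theorem ncard_sub (A : Subgroup G) (P : G → Prop) : {z | z ∈ A ∧ P z}.ncard = Nat.card {x : ↥A // P x} := by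
  rw [← Nat.card_coe_set_eq]
  exact (Nat.card_congr (Equiv.subtypeSubtypeEquivSubtypeInter (fun z => z ∈ A) P)).symm

/-- the `k`-torsion of an abelian subgroup -/
def tors (A : Subgroup G) (hcomm : ∀ a ∈ A, ∀ b ∈ A, a * b = b * a) (k : ℕ) : Subgroup G where
  carrier := {z | z ∈ A ∧ z ^ k = 1}
  one_mem' := ⟨A.one_mem, one_pow k⟩
  mul_mem' := by
    rintro a b ⟨ha, ha'⟩ ⟨hb, hb'⟩
    exact ⟨A.mul_mem ha hb, by rw [(show Commute a b from hcomm a ha b hb).mul_pow, ha', hb', one_mul]⟩
  inv_mem' := by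
    rintro a ⟨ha, ha'⟩
    exact ⟨A.inv_mem ha, by rw [inv_pow, ha', inv_one]⟩

omit [Finite G] in
theorem mem_tors {A : Subgroup G} {hcomm : ∀ a ∈ A, ∀ b ∈ A, a * b = b * a} {k : ℕ} {z : G} :
    z ∈ tors A hcomm k ↔ z ∈ A ∧ z ^ k = 1 := Iff.rfl

theorem split (A : Subgroup G) (hcomm : ∀ a ∈ A, ∀ b ∈ A, a * b = b * a) (k : ℕ) (hk : Odd k)
    (hc : Nat.card A = 4 * k) (h2 : ∀ x : G, x ^ 4 = 1 → x * x = 1) :
    Nat.card (tors A hcomm k) = k ∧ {z | z ∈ A ∧ z * z = 1}.ncard = 4 ∧
    ∀ i, Odd i → {z | z ∈ A ∧ orderOf z = 2 * i}.ncard = 3 * {z | z ∈ A ∧ orderOf z = i}.ncard := by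
  let _ : CommGroup ↥A := { (inferInstance : Group ↥A) with
    mul_comm := fun a b => Subtype.ext (hcomm a.1 a.2 b.1 b.2) }
  have h := comm_split (A := ↥A) k hk hc (by
    intro x hx
    apply Subtype.ext
    have h1 : (x : G) ^ 4 = 1 := congrArg Subtype.val hx
    have := h2 _ h1
    show (x : G) ^ 2 = 1
    rw [pow_two]; exact this)
  refine ⟨?_, ?_, ?_⟩
  · have e1 : Nat.card (tors A hcomm k) = {z | z ∈ A ∧ z ^ k = 1}.ncard := Nat.card_coe_set_eq _
    rw [e1, ncard_sub]
    refine Eq.trans ?_ h.1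
    apply Nat.card_congr
    apply Equiv.subtypeEquivRight
    intro x
    constructor
    · intro hx; exact Subtype.ext hx
    · intro hx; exact congrArg Subtype.val hx
  · rw [← h.2, ncard_sub]
    apply Nat.card_congr
    apply Equiv.subtypeEquivRight
    intro x
    constructor
    · intro hx; apply Subtype.ext; show (x : G) ^ 2 = 1; rw [pow_two]; exact hx
    · intro hx
      have : (x : G) ^ 2 = 1 := congrArg Subtype.val hx
      rw [← pow_two]; exact this
  · intro i hi
    have h5 := card_two_mul (A := ↥A) i hi h.2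
    rw [ncard_sub, ncard_sub]
    have e : ∀ d, Nat.card {x : ↥A // orderOf (x : G) = d} = Nat.card {x : ↥A // orderOf x = d} := by
      intro d
      apply Nat.card_congr
      apply Equiv.subtypeEquivRight
      intro x
      rw [Subgroup.orderOf_coe]
    rw [e, e]
    exact h5

/-- number of elements of given order in a cyclic subgroup -/
theorem ncard_order_cyclic (D : Subgroup G) (hD : IsCyclic D) {i : ℕ} (hi : i ∣ Nat.card D) :
    {z | z ∈ D ∧ orderOf z = i}.ncard = Nat.totient i := by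
  classical
  have : Fintype D := Fintype.ofFinite _
  rw [ncard_sub]
  rw [Nat.card_eq_fintype_card] at hi
  rw [← IsCyclic.card_orderOf_eq_totient hi, Nat.card_eq_fintype_card, Fintype.card_subtype]
  congr 1
  ext x
  simp

end sub

end Cfsg.Agent.Lib.Helper8Ab
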