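import Mathlib

set_option autoImplicit false
set_option linter.unusedVariables false

/-! Arithmetic for the class count in the small Ree groups (`q = s + 2`). -/

namespace Cfsg.Agent.Lib.Helper8Ar

theorem lowA {t b w g : ℕ} (h : t * ((b + 1) * w) = g * b) (hb : 6 ≤ b) (hw : w ≤ 6) (hw0 : 0 < w) : g ≤ 7 * t := by
  have h1 : g * ((b + 1) * w) ≤ 7 * t * ((b + 1) * w) := by
    calc g * ((b + 1) * w) ≤ g * ((b + 1) * 6) := by gcongr
      _ ≤ g * (7 * b) := by apply Nat.mul_le_mul_left; omega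
      _ = 7 * (g * b) := by ring
      _ = 7 * t * ((b + 1) * w) := by rw [← h]; ring
  exact Nat.le_of_mul_le_mul_right h1 (by positivity)

theorem lowA' {t b w g : ℕ} (h : t * ((b + 1) * w) = g * b) (hb : 6 ≤ b) (hw : w ≤ 3) (hw0 : 0 < w) :
    2 * g ≤ 7 * t := by
  have h1 : 2 * g * ((b + 1) * w) ≤ 7 * t * ((b + 1) * w) := by
    calc 2 * g * ((b + 1) * w) ≤ 2 * g * ((b + 1) * 3) := by gcongr
      _ = g * ((b + 1) * 6) := by ring
      _ ≤ g * (7 * b) := by apply Nat.mul_le_mul_left; omega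
      _ = 7 * (g * b) := by ring
      _ = 7 * t * ((b + 1) * w) := by rw [← h]; ring
  exact Nat.le_of_mul_le_mul_right h1 (by positivity)

theorem dvd_six {w : ℕ} (h : w ∣ 6) : w = 1 ∨ w = 2 ∨ w = 3 ∨ w = 6 := by
  have h1 : w ≤ 6 := Nat.le_of_dvd (by norm_num) h
  interval_cases w <;> simp_all

/-- the case `w₀ = 2` is impossible -/
theorem lemB {s t x g : ℕ} (hs : 25 ≤ s) (hg : g = (s + 2) ^ 3 * (s + 1) * (s + 3) * (s ^ 2 + 3 * s + 3))
    (hx : x = (s + 2) ^ 3 * (s + 1) ^ 3) (h1 : g ≤ 7 * t) (h2 : t ≤ x) : False := by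
  have h3 : g ≤ 7 * x := by omega
  rw [hg, hx] at h3
  have h4 : (s + 2) ^ 3 * (s + 1) * ((s + 3) * (s ^ 2 + 3 * s + 3)) ≤ (s + 2) ^ 3 * (s + 1) * (7 * (s + 1) ^ 2) := by
    calc _ = (s + 2) ^ 3 * (s + 1) * (s + 3) * (s ^ 2 + 3 * s + 3) := by ring
      _ ≤ 7 * ((s + 2) ^ 3 * (s + 1) ^ 3) := h3
      _ = _ := by ring
  have h5 := Nat.le_of_mul_le_mul_left h4 (by positivity)
  nlinarith

/-- three classes are impossible -/
theorem lemC {s t₁ t₂ t₃ x g : ℕ} (hs : 25 ≤ s) (hg : g = (s + 2) ^ 3 * (s + 1) * (s + 3) * (s ^ 2 + 3 * s + 3))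
    (hx : 3 * x = (s + 2) ^ 4 * (s + 1) * (s + 3) * s) (h1 : g ≤ 7 * t₁) (h2 : g ≤ 7 * t₂) (h3 : g ≤ 7 * t₃)
    (h : t₁ + t₂ + t₃ ≤ x) : False := by
  have h4 : 9 * g ≤ 7 * (3 * x) := by omega
  rw [hg, hx] at h4
  have h5 : (s + 2) ^ 3 * (s + 1) * (s + 3) * (9 * (s ^ 2 + 3 * s + 3)) ≤ (s + 2) ^ 3 * (s + 1) * (s + 3) * (7 * ((s + 2) * s)) := by
    calc _ = 9 * ((s + 2) ^ 3 * (s + 1) * (s + 3) * (s ^ 2 + 3 * s + 3)) := by ring
      _ ≤ 7 * ((s + 2) ^ 4 * (s + 1) * (s + 3) * s) := h4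
      _ = _ := by ring
  have h6 := Nat.le_of_mul_le_mul_left h5 (by positivity)
  nlinarith

/-- one class is impossible -/
theorem lemD {s t b w g : ℕ} (hs : 25 ≤ s) (hg : g = (s + 2) ^ 3 * (s + 1) * (s + 3) * (s ^ 2 + 3 * s + 3))
    (hx : 3 * t = (s + 2) ^ 4 * (s + 1) * (s + 3) * s) (h : t * ((b + 1) * w) = g * b) (hb : 6 ≤ b) (hw : w ∣ 6)
    (hd : b + 1 ∣ s ^ 2 + 3 * s + 3) (hcop : Nat.Coprime (s + 3) (s ^ 2 + 3 * s + 3)) : False := by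
  obtain ⟨c, hc⟩ := hd
  have h1 : (s + 2) * s * ((b + 1) * w) = 3 * (s ^ 2 + 3 * s + 3) * b := by
    apply Nat.eq_of_mul_eq_mul_left (show 0 < (s + 2) ^ 3 * (s + 1) * (s + 3) by positivity)
    calc (s + 2) ^ 3 * (s + 1) * (s + 3) * ((s + 2) * s * ((b + 1) * w))
        = ((s + 2) ^ 4 * (s + 1) * (s + 3) * s) * ((b + 1) * w) := by ring
      _ = 3 * (t * ((b + 1) * w)) := by rw [← hx]; ring
      _ = _ := by rw [h, hg]; ring
  have h2 : (s + 2) * s * w = 3 * c * b := by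
    apply Nat.eq_of_mul_eq_mul_left (show 0 < b + 1 by omega)
    calc (b + 1) * ((s + 2) * s * w) = (s + 2) * s * ((b + 1) * w) := by ring
      _ = 3 * (s ^ 2 + 3 * s + 3) * b := h1
      _ = _ := by rw [hc]; ring
  have h7 : 7 * c ≤ s ^ 2 + 3 * s + 3 := by
    rw [hc]; exact Nat.mul_le_mul_right c (by omega)
  have hX : 625 ≤ s * s := Nat.mul_le_mul hs hs
  have e1 : s ^ 2 = s * s := by ring
  have e2 : (b + 1) * c = c * b + c := by ring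
  have e3 : (s + 2) * s = s * s + 2 * s := by ring
  have e4 : 3 * c * b = 3 * (c * b) := by ring
  have hc0 := hc
  rw [e1] at hc h7
  rw [e2] at hc
  rw [e3, e4] at h2
  generalize s * s = X at *
  generalize c * b = Y at *
  rcases dvd_six hw with rfl | rfl | rfl | rfl
  · omega
  · omega
  · have hcs : c = s + 3 := by omega
    have h8 : s + 3 ∣ s ^ 2 + 3 * s + 3 := ⟨b + 1, by rw [hc0, hcs]; ring⟩
    have := Nat.eq_one_of_dvd_coprimes hcop dvd_rfl h8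
    omega
  · omega

/-- two classes -/
theorem lemE {s t t' b b' w w' g r : ℕ} (hs : 25 ≤ s)
    (hg : g = (s + 2) ^ 3 * (s + 1) * (s + 3) * (s ^ 2 + 3 * s + 3))
    (hx : 3 * (t + t') = (s + 2) ^ 4 * (s + 1) * (s + 3) * s)
    (h : t * ((b + 1) * w) = g * b) (hb : 6 ≤ b) (hw : w ∣ 6) (hd : b + 1 ∣ s ^ 2 + 3 * s + 3)
    (h' : t' * ((b' + 1) * w') = g * b') (hb' : 6 ≤ b') (hw' : w' ∣ 6) (hd' : b' + 1 ∣ s ^ 2 + 3 * s + 3)
    (hcop : Nat.Coprime (s + 3) (s ^ 2 + 3 * s + 3)) (hodd : ¬ 2 ∣ s ^ 2 + 3 * s + 3)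
    (hab : Nat.Coprime (b + 1) (b' + 1)) (hr : r ^ 2 = 3 * (s + 2)) :
    w = 6 ∧ w' = 6 ∧ ((b + 1 + r = s + 3 ∧ b' + 1 = s + 3 + r) ∨ (b' + 1 + r = s + 3 ∧ b + 1 = s + 3 + r)) := by
  have hw0 : 0 < w := Nat.pos_of_dvd_of_pos hw (by norm_num)
  have hw0' : 0 < w' := Nat.pos_of_dvd_of_pos hw' (by norm_num)
  have hw6 : w ≤ 6 := Nat.le_of_dvd (by norm_num) hw
  have hw6' : w' ≤ 6 := Nat.le_of_dvd (by norm_num) hw'
  have hbig : ¬ (9 * g ≤ 7 * (3 * (t + t'))) := by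
    intro h4
    rw [hg, hx] at h4
    have h5 : (s + 2) ^ 3 * (s + 1) * (s + 3) * (9 * (s ^ 2 + 3 * s + 3)) ≤
        (s + 2) ^ 3 * (s + 1) * (s + 3) * (7 * ((s + 2) * s)) := by
      calc _ = 9 * ((s + 2) ^ 3 * (s + 1) * (s + 3) * (s ^ 2 + 3 * s + 3)) := by ring
        _ ≤ 7 * ((s + 2) ^ 4 * (s + 1) * (s + 3) * s) := h4
        _ = _ := by ring
    have h6 := Nat.le_of_mul_le_mul_left h5 (by positivity)
    nlinarith
  have hA := lowA h hb hw6 hw0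
  have hA' := lowA h' hb' hw6' hw0'
  have e6 : w = 6 := by
    by_contra hne
    have h3 : w ≤ 3 := by rcases dvd_six hw with rfl | rfl | rfl | rfl <;> omega
    have := lowA' h hb h3 hw0
    exact hbig (by omega)
  have e6' : w' = 6 := by
    by_contra hne
    have h3 : w' ≤ 3 := by rcases dvd_six hw' with rfl | rfl | rfl | rfl <;> omega
    have := lowA' h' hb' h3 hw0'
    exact hbig (by omega)
  subst e6 e6'
  refine ⟨rfl, rfl, ?_⟩
  set P := s ^ 2 + 3 * s + 3 with hP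
  have k1 : P * ((b + 1) + (b' + 1)) = 2 * ((b + 1) * (b' + 1)) * (s + 3) := by
    apply Nat.eq_of_mul_eq_mul_left (show 0 < (s + 2) ^ 3 * (s + 1) * (s + 3) by positivity)
    zify at hx h h' hg hP ⊢
    rw [hg] at h h'
    linear_combination ((b' + 1 : ℤ)) * h + (b + 1 : ℤ) * h' - 2 * (b + 1 : ℤ) * (b' + 1) * hx +
      (2 * (b + 1 : ℤ) * (b' + 1) * ((s + 2) ^ 3 * (s + 1) * (s + 3))) * hP
  obtain ⟨e, he⟩ := Nat.Coprime.mul_dvd_of_dvd_of_dvd hab hd hd'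
  have k2 : e * ((b + 1) + (b' + 1)) = 2 * (s + 3) := by
    apply Nat.eq_of_mul_eq_mul_left (show 0 < (b + 1) * (b' + 1) by positivity)
    calc (b + 1) * (b' + 1) * (e * ((b + 1) + (b' + 1))) = P * ((b + 1) + (b' + 1)) := by rw [he]; ring
      _ = _ := by rw [k1]; ring
  have he1 : e = 1 := by
    have h1 : e ∣ P := ⟨(b + 1) * (b' + 1), by rw [he]; ring⟩
    have h2 : e ∣ 2 * (s + 3) := ⟨_, k2.symm⟩
    have hc2 : Nat.Coprime P (2 * (s + 3)) :=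
      Nat.Coprime.mul_right ((Nat.coprime_comm.1 ((Nat.Prime.coprime_iff_not_dvd Nat.prime_two).2 hodd))) hcop.symm
    exact Nat.eq_one_of_dvd_coprimes hc2 h1 h2
  rw [he1, one_mul] at k2
  rw [he1, mul_one] at he
  have k3 : ((b : ℤ) + 1 - (b' + 1)) ^ 2 = (2 * r) ^ 2 := by
    zify at k2 he hr hP
    have : ((b : ℤ) + 1 - (b' + 1)) ^ 2 = ((b : ℤ) + 1 + (b' + 1)) ^ 2 - 4 * (((b : ℤ) + 1) * (b' + 1)) := by ring
    rw [this, k2, ← he, hP]
    linear_combination (-4 : ℤ) * hr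
  rcases sq_eq_sq_iff_eq_or_eq_neg.1 k3 with h4 | h4
  · right; omega
  · left; omega

end Cfsg.Agent.Lib.Helper8Ar
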