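import Mathlib

set_option autoImplicit false
set_option linter.unusedVariables false
set_option linter.unusedSectionVars false

/-! Counting conjugates of a "TI" set; automisers of subgroups of prime order. -/

namespace Cfsg.Agent.Lib.Helper8Cnt

variable {G : Type*} [Group G] [Finite G]

/-- the union of the conjugates of a set -/
def cu (M : Set G) : Set G := {z | ∃ g, ∃ y ∈ M, z = g * y * g⁻¹}

theorem mem_cu {M : Set G} {z : G} : z ∈ cu M ↔ ∃ g, ∃ y ∈ M, z = g * y * g⁻¹ := Iff.rfl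

theorem card_cu (N : Subgroup G) (M : Set G) (hinv : ∀ n ∈ N, ∀ z ∈ M, n * z * n⁻¹ ∈ M)
    (hTI : ∀ g, ∀ z ∈ M, g * z * g⁻¹ ∈ M → g ∈ N) : (cu M).ncard = N.index * M.ncard := by
  let f : (G ⧸ N) × M → cu M := fun c => ⟨c.1.out * c.2 * c.1.out⁻¹, c.1.out, c.2, c.2.2, rfl⟩
  have hf : Function.Bijective f := by
    constructor
    · rintro ⟨c, y⟩ ⟨c', y'⟩ h
      have h1 : c.out * (y : G) * c.out⁻¹ = c'.out * (y' : G) * c'.out⁻¹ := congrArg Subtype.val h
      have h2 : (c'.out⁻¹ * c.out) * (y : G) * (c'.out⁻¹ * c.out)⁻¹ = y' := by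
        calc (c'.out⁻¹ * c.out) * (y : G) * (c'.out⁻¹ * c.out)⁻¹ = c'.out⁻¹ * (c.out * (y : G) * c.out⁻¹) * c'.out := by group
          _ = c'.out⁻¹ * (c'.out * (y' : G) * c'.out⁻¹) * c'.out := by rw [h1]
          _ = y' := by group
      have h3 : c'.out⁻¹ * c.out ∈ N := hTI _ y y.2 (by rw [h2]; exact y'.2)
      have h4 : c' = c := by
        rw [← QuotientGroup.out_eq' c', ← QuotientGroup.out_eq' c]
        exact QuotientGroup.eq.2 h3
      subst h4
      have h5 : (y : G) = y' := by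
        have := h1
        exact mul_left_cancel (mul_right_cancel this)
      exact Prod.ext rfl (Subtype.ext h5)
    · rintro ⟨z, g, y, hy, rfl⟩
      have h1 : ((g : G ⧸ N)).out⁻¹ * g ∈ N := by
        rw [← QuotientGroup.eq, QuotientGroup.out_eq']
      refine ⟨((g : G ⧸ N), ⟨_, hinv _ h1 y hy⟩), ?_⟩
      apply Subtype.ext
      show ((g : G ⧸ N)).out * (((g : G ⧸ N)).out⁻¹ * g * y * (((g : G ⧸ N)).out⁻¹ * g)⁻¹) * ((g : G ⧸ N)).out⁻¹ = g * y * g⁻¹
      group
  rw [← Nat.card_coe_set_eq, ← Nat.card_congr (Equiv.ofBijective f hf), Nat.card_prod, Nat.card_coe_set_eq]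
  rfl

theorem relIndex_dvd_six {p : ℕ} [hp : Fact p.Prime] (x : G) (hx : orderOf x = p)
    (h6 : ∀ n ∈ Subgroup.normalizer ((Subgroup.zpowers x : Subgroup G) : Set G), n ^ 6 * x = x * n ^ 6) :
    (Subgroup.centralizer ((Subgroup.zpowers x : Subgroup G) : Set G)).relIndex
      (Subgroup.normalizer ((Subgroup.zpowers x : Subgroup G) : Set G)) ∣ 6 := by
  set Z := Subgroup.zpowers x with hZ
  have hc : Nat.card Z = p := by rw [hZ, Nat.card_zpowers, hx]
  have : Fact (Nat.card Z).Prime := ⟨hc ▸ hp.out⟩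
  have hcycZ : IsCyclic Z := by rw [hZ]; infer_instance
  have hcyc : IsCyclic (MulAut Z) :=
    isCyclic_of_injective (IsCyclic.mulAutMulEquiv Z).toMonoidHom (IsCyclic.mulAutMulEquiv Z).injective
  have hr : IsCyclic Z.normalizerMonoidHom.range := inferInstance
  obtain ⟨⟨σ, n, rfl⟩, hσ⟩ := hr.exists_generator
  have h1 := orderOf_eq_card_of_forall_mem_zpowers hσ
  have h2 : (Subgroup.centralizer (Z : Set G)).relIndex (Subgroup.normalizer (Z : Set G)) =
      Nat.card Z.normalizerMonoidHom.range := by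
    rw [← Subgroup.index_ker, Subgroup.normalizerMonoidHom_ker]
    rfl
  rw [h2, ← h1]
  apply orderOf_dvd_of_pow_eq_one
  apply Subtype.ext
  show (Z.normalizerMonoidHom n) ^ 6 = 1
  rw [← map_pow, ← MonoidHom.mem_ker, Subgroup.normalizerMonoidHom_ker, Subgroup.mem_subgroupOf,
    Subgroup.mem_centralizer_iff]
  intro z hz
  obtain ⟨j, rfl⟩ := Subgroup.mem_zpowers_iff.1 hz
  have h3 : Commute ((n : G) ^ 6) x := h6 n n.2
  exact ((h3.zpow_right j).eq).symm

end Cfsg.Agent.Lib.Helper8Cnt
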