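import Cfsg.Agent.Lib.Helper8Ree19
import Cfsg.Agent.Lib.Helper8Cnt
import Cfsg.Agent.Lib.Helper29Basic

set_option autoImplicit false
set_option linter.unusedVariables false
set_option linter.unusedSectionVars false

/-! More counting lemmas. -/

namespace Cfsg.Agent.Lib.Helper8Cnt2

open Cfsg.Agent.Lib.Helper8Cnt Cfsg.Agent.Lib.Helper8Ree19

variable {G : Type*} [Group G] [Finite G]

omit [Finite G] in
theorem conj_mem_cu {M : Set G} {z : G} (hz : z ∈ cu M) (g : G) : g * z * g⁻¹ ∈ cu M := by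
  obtain ⟨h, y, hy, rfl⟩ := hz
  exact ⟨g * h, y, hy, by group⟩

omit [Finite G] in
theorem subset_cu (M : Set G) : M ⊆ cu M := fun z hz => ⟨1, z, hz, by group⟩

omit [Finite G] in
theorem orderOf_conj (g z : G) : orderOf (g * z * g⁻¹) = orderOf z := by
  have : g * z * g⁻¹ = MulAut.conj g z := rfl
  rw [this, MulEquiv.orderOf_eq]

omit [Finite G] in
theorem conj_ne_one {g z : G} (hz : z ≠ 1) : g * z * g⁻¹ ≠ 1 := by
  intro h
  apply hz
  have : z = g⁻¹ * (g * z * g⁻¹) * g := by group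
  rw [this, h]; group

/-- the TI property from centralisers -/
theorem norm_of_cent (A : Subgroup G) {g z : G} (h1 : Subgroup.centralizer {z} = A)
    (h2 : Subgroup.centralizer {g * z * g⁻¹} = A) : g ∈ Subgroup.normalizer (A : Set G) := by
  rw [cent_conj, h1] at h2
  apply Subgroup.mem_normalizer_fintype
  intro a ha
  show g * a * g⁻¹ ∈ A
  rw [← h2, mem_cj]
  have : g⁻¹ * (g * a * g⁻¹) * g = a := by group
  rw [this]; exact ha

theorem card_cu_cent (A : Subgroup G) (P : G → Prop) (hP : ∀ g z, P z → P (g * z * g⁻¹))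
    (hc : ∀ z ∈ A, P z → Subgroup.centralizer {z} = A) :
    (cu {z | z ∈ A ∧ P z}).ncard = (Subgroup.normalizer (A : Set G)).index * {z | z ∈ A ∧ P z}.ncard := by
  apply card_cu
  · rintro n hn z ⟨hz, hz1⟩
    exact ⟨(Subgroup.mem_normalizer_iff.1 hn z).1 hz, hP _ _ hz1⟩
  · rintro g z ⟨hz, hz1⟩ ⟨hz', hz1'⟩
    exact norm_of_cent A (hc z hz hz1) (hc _ hz' hz1')

/-- orbit-stabiliser for conjugation -/
theorem card_orbit (N : Subgroup G) (t : G) :
    Nat.card N = Nat.card ↥(N ⊓ Subgroup.centralizer {t}) * {s | ∃ n ∈ N, s = n * t * n⁻¹}.ncard := by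
  let S : Subgroup N := (Subgroup.centralizer {t}).subgroupOf N
  let O : Set G := {s | ∃ n ∈ N, s = n * t * n⁻¹}
  let f : (N ⧸ S) → O := fun c => ⟨(c.out : G) * t * (c.out : G)⁻¹, c.out, c.out.2, rfl⟩
  have hf : Function.Bijective f := by
    constructor
    · intro c c' h
      have h1 : (c.out : G) * t * (c.out : G)⁻¹ = (c'.out : G) * t * (c'.out : G)⁻¹ := congrArg Subtype.val h
      rw [← QuotientGroup.out_eq' c, ← QuotientGroup.out_eq' c']
      apply QuotientGroup.eq.2
      show ((c.out⁻¹ * c'.out : N) : G) ∈ Subgroup.centralizer {t}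
      rw [Subgroup.mem_centralizer_singleton_iff]
      push_cast
      calc (c.out : G)⁻¹ * (c'.out : G) * t = (c.out : G)⁻¹ * ((c'.out : G) * t * (c'.out : G)⁻¹) * (c'.out : G) := by group
        _ = (c.out : G)⁻¹ * ((c.out : G) * t * (c.out : G)⁻¹) * (c'.out : G) := by rw [h1]
        _ = _ := by group
    · rintro ⟨s, n, hn, rfl⟩
      refine ⟨((⟨n, hn⟩ : N) : N ⧸ S), ?_⟩
      apply Subtype.ext
      have h1 : (((⟨n, hn⟩ : N) : N ⧸ S)).out⁻¹ * ⟨n, hn⟩ ∈ S := by
        rw [← QuotientGroup.eq, QuotientGroup.out_eq']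
      have h2 : ((((⟨n, hn⟩ : N) : N ⧸ S)).out : G)⁻¹ * n ∈ Subgroup.centralizer {t} := h1
      rw [Subgroup.mem_centralizer_singleton_iff] at h2
      show ((((⟨n, hn⟩ : N) : N ⧸ S)).out : G) * t * ((((⟨n, hn⟩ : N) : N ⧸ S)).out : G)⁻¹ = n * t * n⁻¹
      generalize ((((⟨n, hn⟩ : N) : N ⧸ S)).out : G) = a at h2
      calc a * t * a⁻¹ = a * (t * (a⁻¹ * n)) * n⁻¹ := by group
        _ = a * (a⁻¹ * n * t) * n⁻¹ := by rw [h2]
        _ = _ := by group
  have h3 : Nat.card (N ⧸ S) = O.ncard := by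
    rw [← Nat.card_coe_set_eq]; exact Nat.card_congr (Equiv.ofBijective f hf)
  have h4 := S.card_mul_index
  rw [Subgroup.index, h3] at h4
  rw [← h4]
  congr 1
  have h5 : Nat.card S = Nat.card ↥(Subgroup.centralizer {t} ⊓ N) := by
    have e : S = (Subgroup.centralizer {t} ⊓ N).subgroupOf N := by
      show (Subgroup.centralizer {t}).subgroupOf N = _
      rw [Subgroup.inf_subgroupOf_right]
    rw [e]
    exact Nat.card_congr (Subgroup.subgroupOfEquivOfLe inf_le_right).toEquiv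
  rw [h5, inf_comm]

/-- subgroups of a cyclic subgroup are normalised by its normaliser -/
theorem normalizer_le_of_cyclic {A X : Subgroup G} (hA : IsCyclic A) (hX : X ≤ A) :
    Subgroup.normalizer (A : Set G) ≤ Subgroup.normalizer (X : Set G) := by
  intro g hg
  have h1 : cj g X = X := by
    apply Cfsg.Agent.Lib.Helper29Basic.eq_of_card_eq_of_le_cyclic hA _ hX (card_cj g X)
    intro z hz
    have h2 := hX (mem_cj.1 hz)
    have h3 := (Subgroup.mem_normalizer_iff.1 hg _).1 h2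
    have : g * (g⁻¹ * z * g) * g⁻¹ = z := by group
    rwa [this] at h3
  apply Subgroup.mem_normalizer_fintype
  intro a ha
  show g * a * g⁻¹ ∈ X
  rw [← h1, mem_cj]
  have : g⁻¹ * (g * a * g⁻¹) * g = a := by group
  rw [this]; exact ha

end Cfsg.Agent.Lib.Helper8Cnt2
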