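import Mathlib
import Cfsg.Agent.Lib.Helper31Nilpotent

set_option autoImplicit false
set_option linter.unusedVariables false
set_option linter.unusedSectionVars false

namespace Cfsg.Agent.Lib.Helper8Cover

variable {G Ω : Type*} [Group G] [MulAction G Ω]

theorem fix_of_comm_unique {t y : G} {c : Ω} (hc : t • c = c) (hu : ∀ d, t • d = d → d = c)
    (hty : y * t = t * y) : y • c = c := by
  apply hu
  rw [← mul_smul, ← hty, mul_smul, hc]

theorem fix_of_odd
    (h3 : ∀ g : G, ∀ a b c : Ω, a ≠ b → b ≠ c → a ≠ c → g • a = a → g • b = b → g • c = c → g = 1)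
    {y z : G} (hodd : Odd (orderOf y)) (hz : z ≠ 1) (hyz : y * z = z * y) {c : Ω}
    (hc : z • c = c) : y • c = c := by
  by_contra hne
  have h1 : z • (y • c) = y • c := by rw [← mul_smul, ← hyz, mul_smul, hc]
  have h2 : z • (y • y • c) = y • y • c := by rw [← mul_smul, ← hyz, mul_smul, h1]
  have hne2 : y • y • c ≠ y • c := fun h => hne (smul_left_cancel y h)
  have h4 : y • y • c = c := by
    by_contra h5
    exact hz (h3 z c (y • c) (y • y • c) (Ne.symm hne) (Ne.symm hne2) (Ne.symm h5) hc h1 h2)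
  obtain ⟨k, hk⟩ := hodd
  have h6 : ∀ j : ℕ, (y ^ (2 * j)) • c = c := by
    intro j
    induction j with
    | zero => simp
    | succ j ih => rw [Nat.mul_succ, pow_add, mul_smul, pow_two, mul_smul, h4, ih]
  have h7 : y ^ (orderOf y) • c = y • c := by rw [hk, pow_succ', mul_smul, h6]
  rw [pow_orderOf_eq_one, one_smul] at h7
  exact hne h7.symm

theorem exists_central {A : Subgroup G} (hA : Group.IsNilpotent A) {g : G} (hg : g ∈ A)
    (hg1 : g ≠ 1) : ∃ z ∈ A, z ≠ 1 ∧ ∀ y ∈ A, y * z = z * y := by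
  have hne : (⊤ : Subgroup A) ≠ ⊥ := by
    intro h
    have h' : (⟨g, hg⟩ : A) ∈ (⊥ : Subgroup A) := h ▸ Subgroup.mem_top _
    rw [Subgroup.mem_bot] at h'
    exact hg1 (congrArg Subtype.val h')
  obtain ⟨z, -, hz, hz1⟩ :=
    Cfsg.Agent.Lib.Helper31Nilpotent.exists_center_mem_of_normal (⊤ : Subgroup A) hne
  refine ⟨z, z.2, fun h => hz1 (Subtype.ext h), fun y hy => ?_⟩
  have := Subgroup.mem_center_iff.1 hz ⟨y, hy⟩
  exact congrArg Subtype.val this

variable [Finite G]

theorem invol_of_even {x : G} (h : Even (orderOf x)) : orderOf (x ^ (orderOf x / 2)) = 2 :=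
  orderOf_pow_orderOf_div (orderOf_pos x).ne' h.two_dvd

section main
variable
    (h3 : ∀ g : G, ∀ a b c : Ω, a ≠ b → b ≠ c → a ≠ c → g • a = a → g • b = b → g • c = c → g = 1)
    (hE : ∀ t : G, orderOf t = 2 → ∃ c : Ω, t • c = c ∧ ∀ d, t • d = d → d = c)
include h3 hE

/-- a nilpotent subgroup containing a nonidentity element with a fixed point fixes a point -/
theorem nilpotent_fix {A : Subgroup G} (hA : Group.IsNilpotent A) {g : G} (hg : g ∈ A)
    (hg1 : g ≠ 1) {c0 : Ω} (hc0 : g • c0 = c0) : ∃ c : Ω, ∀ y ∈ A, y • c = c := by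
  obtain ⟨z, hzA, hz1, hzc⟩ := exists_central hA hg hg1
  rcases Nat.even_or_odd (orderOf z) with hev | hodd
  · obtain ⟨c, hc, hu⟩ := hE _ (invol_of_even hev)
    refine ⟨c, fun y hy => fix_of_comm_unique hc hu ?_⟩
    exact ((Commute.pow_right (hzc y hy) _) : Commute y (z ^ (orderOf z / 2)))
  · have hz0 : z • c0 = c0 := fix_of_odd h3 hodd hg1 (hzc g hg).symm hc0
    refine ⟨c0, fun y hy => ?_⟩
    rcases Nat.even_or_odd (orderOf y) with hev | hoddy
    · obtain ⟨c, hc, hu⟩ := hE _ (invol_of_even hev)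
      set t := y ^ (orderOf y / 2) with ht
      have htA : t ∈ A := A.pow_mem hy _
      have hzt : z * t = t * z := (hzc t htA).symm
      have hzc' : z • c = c := fix_of_comm_unique hc hu hzt
      have hcc : c = c0 := by
        by_contra hne
        have h1 : z • (t • c0) = t • c0 := by rw [← mul_smul, hzt, mul_smul, hz0]
        have h2 : t • c0 ≠ c0 := fun h => hne (hu c0 h).symm
        have h4 : t • c0 ≠ c := by
          intro h
          rw [← hc] at h
          exact hne (smul_left_cancel t h).symm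
        exact hz1 (h3 z c c0 (t • c0) hne (Ne.symm h2) (Ne.symm h4) hzc' hz0 h1)
      subst hcc
      exact fix_of_comm_unique hc hu ((Commute.pow_right (Commute.refl y) _) : Commute y _)
    · exact fix_of_odd h3 hoddy hz1 (hzc y hy) hz0

/-- in a nilpotent subgroup containing an element with two fixed points `a`, `b`, everything
fixing `a` fixes `b` -/
theorem nilpotent_fix_two {A : Subgroup G} (hA : Group.IsNilpotent A) {g : G} (hg : g ∈ A)
    (hg1 : g ≠ 1) {a b : Ω} (hab : a ≠ b) (ha : g • a = a) (hb : g • b = b) {y : G} (hy : y ∈ A)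
    (hya : y • a = a) : y • b = b := by
  obtain ⟨z, hzA, hz1, hzc⟩ := exists_central hA hg hg1
  rcases Nat.even_or_odd (orderOf z) with hev | hodd
  · exfalso
    obtain ⟨c, hc, hu⟩ := hE _ (invol_of_even hev)
    set t := z ^ (orderOf z / 2) with ht
    have hgt : g * t = t * g := ((Commute.pow_right (hzc g hg) _) : Commute g _)
    have hgc : g • c = c := fix_of_comm_unique hc hu hgt
    -- every fixed point of g is a or b
    have hfix : ∀ d, g • d = d → d = a ∨ d = b := by
      intro d hd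
      by_contra hcon
      push Not at hcon
      exact hg1 (h3 g a b d hab (Ne.symm hcon.2) (Ne.symm hcon.1) ha hb hd)
    have hta : g • (t • a) = t • a := by rw [← mul_smul, hgt, mul_smul, ha]
    have htb : g • (t • b) = t • b := by rw [← mul_smul, hgt, mul_smul, hb]
    rcases hfix c hgc with rfl | rfl
    · -- c = a; t b must be b
      rcases hfix _ htb with h | h
      · rw [← hc] at h
        exact hab (smul_left_cancel t h).symm
      · exact hab (hu b h).symm
    · rcases hfix _ hta with h | h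
      · exact hab (hu a h)
      · rw [← hc] at h
        exact hab (smul_left_cancel t h)
  · have hza : z • a = a := fix_of_odd h3 hodd hg1 (hzc g hg).symm ha
    have hzb : z • b = b := fix_of_odd h3 hodd hg1 (hzc g hg).symm hb
    by_contra hne
    have h1 : z • (y • b) = y • b := by rw [← mul_smul, ← hzc y hy, mul_smul, hzb]
    have h2 : y • b ≠ a := by
      intro h
      rw [← hya] at h
      exact hab (smul_left_cancel y h).symm
    exact hz1 (h3 z a b (y • b) hab (Ne.symm hne) (Ne.symm h2) hza hzb h1)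

/-- no minimal cover by proper subgroups consists of nilpotent subgroups -/
theorem no_nilpotent_min_cover [Finite Ω]
    (h1 : ∀ ω : Ω, ∃ g : G, g ≠ 1 ∧ ∀ c, g • c = c ↔ c = ω)
    (h2 : ∃ g : G, g ≠ 1 ∧ ∃ a b : Ω, a ≠ b ∧ g • a = a ∧ g • b = b)
    (hprop : ∀ ω : Ω, MulAction.stabilizer G ω ≠ ⊤) :
    ¬ ∃ 𝓐 : Finset (Subgroup G), ((∀ A ∈ 𝓐, A ≠ ⊤) ∧ (∀ g : G, ∃ A ∈ 𝓐, g ∈ A)) ∧
      (∀ 𝓑 : Finset (Subgroup G), (∀ A ∈ 𝓑, A ≠ ⊤) ∧ (∀ g : G, ∃ A ∈ 𝓑, g ∈ A) →
        𝓐.card ≤ 𝓑.card) ∧ (∀ A ∈ 𝓐, Group.IsNilpotent ↥A) := by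
  classical
  rintro ⟨𝓐, ⟨hproper, hcov⟩, hmin, hnil⟩
  haveI := Fintype.ofFinite Ω
  let P : Subgroup G → Prop := fun A => ∃ c : Ω, ∀ y ∈ A, y • c = c
  let St : Finset (Subgroup G) := Finset.univ.image (fun ω : Ω => MulAction.stabilizer G ω)
  have hB := hmin (St ∪ 𝓐.filter (fun A => ¬ P A)) ⟨?_, ?_⟩
  rotate_left
  · intro A hA
    rcases Finset.mem_union.1 hA with h | h
    · obtain ⟨ω, -, rfl⟩ := Finset.mem_image.1 h
      exact hprop ω
    · exact hproper A (Finset.mem_filter.1 h).1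
  · intro g
    obtain ⟨A, hA, hgA⟩ := hcov g
    by_cases hP : P A
    · obtain ⟨c, hc⟩ := hP
      exact ⟨MulAction.stabilizer G c, Finset.mem_union_left _
        (Finset.mem_image.2 ⟨c, Finset.mem_univ _, rfl⟩), hc g hgA⟩
    · exact ⟨A, Finset.mem_union_right _ (Finset.mem_filter.2 ⟨hA, hP⟩), hgA⟩
  choose gω hgω1 hgωfix using h1
  choose Aω hAωmem hgωA using fun ω => hcov (gω ω)
  have hPω : ∀ ω, P (Aω ω) := fun ω =>
    nilpotent_fix h3 hE (hnil _ (hAωmem ω)) (hgωA ω) (hgω1 ω) ((hgωfix ω ω).2 rfl)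
  have huniq : ∀ ω c, (∀ y ∈ Aω ω, y • c = c) → c = ω := fun ω c h =>
    (hgωfix ω c).1 (h _ (hgωA ω))
  have hinj : Function.Injective Aω := by
    intro ω ω' h
    obtain ⟨c, hc⟩ := hPω ω
    have e1 := huniq ω c hc
    have e2 := huniq ω' c (h ▸ hc)
    rw [← e1, e2]
  obtain ⟨g', hg'1, a, b, hab, hga, hgb⟩ := h2
  obtain ⟨A', hA'mem, hg'A⟩ := hcov g'
  have hPA' : P A' := nilpotent_fix h3 hE (hnil _ hA'mem) hg'A hg'1 hga
  have hA'not : A' ∉ Finset.univ.image Aω := by
    intro h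
    obtain ⟨ω, -, rfl⟩ := Finset.mem_image.1 h
    obtain ⟨c, hc⟩ := hPω ω
    have e1 := huniq ω c hc
    subst e1
    -- g' fixes c, so c is a or b
    have hgc : g' • c = c := hc _ hg'A
    have hcab : c = a ∨ c = b := by
      by_contra hcon
      push Not at hcon
      exact hg'1 (h3 g' a b c hab (Ne.symm hcon.2) (Ne.symm hcon.1) hga hgb hgc)
    rcases hcab with rfl | rfl
    · have := nilpotent_fix_two h3 hE (hnil _ (hAωmem c)) hg'A hg'1 hab hga hgb (hgωA c)
        ((hgωfix c c).2 rfl)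
      exact hab ((hgωfix c b).1 this).symm
    · have := nilpotent_fix_two h3 hE (hnil _ (hAωmem c)) hg'A hg'1 hab.symm hgb hga (hgωA c)
        ((hgωfix c c).2 rfl)
      exact hab ((hgωfix c a).1 this)
  have hsub : insert A' (Finset.univ.image Aω) ⊆ 𝓐.filter P := by
    intro A hA
    rcases Finset.mem_insert.1 hA with rfl | h
    · exact Finset.mem_filter.2 ⟨hA'mem, hPA'⟩
    · obtain ⟨ω, -, rfl⟩ := Finset.mem_image.1 h
      exact Finset.mem_filter.2 ⟨hAωmem ω, hPω ω⟩
  have hc1 := Finset.card_le_card hsub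
  rw [Finset.card_insert_of_notMem hA'not, Finset.card_image_of_injective _ hinj,
    Finset.card_univ] at hc1
  have hc2 : (St ∪ 𝓐.filter (fun A => ¬ P A)).card
      ≤ Fintype.card Ω + (𝓐.filter (fun A => ¬ P A)).card := by
    refine (Finset.card_union_le _ _).trans (Nat.add_le_add_right ?_ _)
    exact Finset.card_image_le.trans (le_of_eq Finset.card_univ)
  have hc3 := Finset.card_filter_add_card_filter_not (s := 𝓐) P
  omega

end main

end Cfsg.Agent.Lib.Helper8Cover
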