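import Mathlib
import Cfsg.Prelude.Def_LieExceptional
import Cfsg.Agent.S0319

set_option autoImplicit false
set_option linter.unusedSectionVars false
set_option linter.unusedVariables false

/-! Abstract split rank one groups: `G = UH ∪ UHnU`. -/

namespace Cfsg.Agent.Lib.Helper8Rank1

variable {Γ : Type*} [Group Γ]

/-- a split rank one datum -/
structure R1 (B N U H : Subgroup Γ) (n : Γ) : Prop where
  mem_B : ∀ g, g ∈ B ↔ ∃ u ∈ U, ∃ h ∈ H, g = u * h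
  mem_N : ∀ g, g ∈ N ↔ g ∈ H ∨ ∃ h ∈ H, g = h * n
  hU : ∀ h ∈ H, ∀ u ∈ U, h * u * h⁻¹ ∈ U
  nH : ∀ h ∈ H, n * h * n⁻¹ ∈ H
  nn : n * n ∈ H
  cases : ∀ g : Γ, g ∈ B ∨ (∃ u ∈ U, ∃ h ∈ H, ∃ u' ∈ U, g = u * h * n * u')
  triv : ∀ u ∈ U, n * u * n⁻¹ ∈ B → u = 1
  UH : ∀ u ∈ U, u ∈ H → u = 1
  ne : ∃ u ∈ U, u ≠ 1

variable {B N U H : Subgroup Γ} {n : Γ} (R : R1 B N U H n)

namespace R1

include R

theorem U_le_B : U ≤ B := fun u hu => (R.mem_B u).2 ⟨u, hu, 1, H.one_mem, (mul_one u).symm⟩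
theorem H_le_B : H ≤ B := fun h hh => (R.mem_B h).2 ⟨1, U.one_mem, h, hh, (one_mul h).symm⟩
theorem H_le_N : H ≤ N := fun h hh => (R.mem_N h).2 (Or.inl hh)
theorem n_mem_N : n ∈ N := (R.mem_N n).2 (Or.inr ⟨1, H.one_mem, (one_mul n).symm⟩)

theorem bU {b : Γ} (hb : b ∈ B) {u : Γ} (hu : u ∈ U) : b * u * b⁻¹ ∈ U := by
  obtain ⟨a, ha, h, hh, rfl⟩ := (R.mem_B b).1 hb
  have : a * h * u * (a * h)⁻¹ = a * (h * u * h⁻¹) * a⁻¹ := by group
  rw [this]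
  exact U.mul_mem (U.mul_mem ha (R.hU h hh u hu)) (U.inv_mem ha)

theorem n_not_mem_B : n ∉ B := by
  intro h
  obtain ⟨u, hu, hne⟩ := R.ne
  exact hne (R.triv u hu (R.U_le_B (R.bU h hu)))

theorem nH' {h : Γ} (hh : h ∈ H) : n⁻¹ * h * n ∈ H := by
  have : n⁻¹ * h * n = (n * n)⁻¹ * (n * h * n⁻¹) * (n * n) := by group
  rw [this]
  exact H.mul_mem (H.mul_mem (H.inv_mem R.nn) (R.nH h hh)) R.nn

theorem triv' {u : Γ} (hu : u ∈ U) (h : n⁻¹ * u * n ∈ B) : u = 1 := by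
  apply R.triv u hu
  have : n * u * n⁻¹ = (n * n) * (n⁻¹ * u * n) * (n * n)⁻¹ := by group
  rw [this]
  exact B.mul_mem (B.mul_mem (R.H_le_B R.nn) h) (B.inv_mem (R.H_le_B R.nn))

theorem B_inf_N : B ⊓ N = H := by
  apply le_antisymm
  · rintro g ⟨h1, h2⟩
    rcases (R.mem_N g).1 h2 with h | ⟨h, hh, rfl⟩
    · exact h
    · exfalso
      apply R.n_not_mem_B
      have : n = h⁻¹ * (h * n) := by group
      rw [this]
      exact B.mul_mem (B.inv_mem (R.H_le_B hh)) h1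
  · exact le_inf R.H_le_B R.H_le_N

/-- the mirrored decomposition -/
theorem cases' (g : Γ) : g ∈ B ∨ ∃ u ∈ U, ∃ b ∈ B, g = u * n * b := by
  rcases R.cases g⁻¹ with h | ⟨u, hu, h, hh, u', hu', e⟩
  · left; simpa using B.inv_mem h
  · right
    refine ⟨u'⁻¹, U.inv_mem hu', (n * n)⁻¹ * h⁻¹ * u⁻¹,
      B.mul_mem (B.mul_mem (B.inv_mem (R.H_le_B R.nn)) (B.inv_mem (R.H_le_B hh))) (B.inv_mem (R.U_le_B hu)), ?_⟩
    have : g = (g⁻¹)⁻¹ := by group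
    rw [this, e]; group

theorem uh_unique {u u' h h' : Γ} (hu : u ∈ U) (hu' : u' ∈ U) (hh : h ∈ H) (hh' : h' ∈ H) (e : u * h = u' * h') :
    u = u' ∧ h = h' := by
  have e1 : u'⁻¹ * u = h' * h⁻¹ := by
    have : u = (u * h) * h⁻¹ := by group
    rw [this, e]; group
  have e2 := R.UH _ (U.mul_mem (U.inv_mem hu') hu) (by rw [e1]; exact H.mul_mem hh' (H.inv_mem hh))
  have e3 : u = u' := (inv_mul_eq_one.1 e2).symm
  subst e3
  exact ⟨rfl, mul_left_cancel e⟩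

theorem big_unique {u u' h h' v v' : Γ} (hu : u ∈ U) (hu' : u' ∈ U) (hh : h ∈ H) (hh' : h' ∈ H) (hv : v ∈ U) (hv' : v' ∈ U)
    (e : u * h * n * v = u' * h' * n * v') : u = u' ∧ h = h' ∧ v = v' := by
  have e1 : n * (v * v'⁻¹) * n⁻¹ = (u * h)⁻¹ * (u' * h') := by
    have : u' * h' = (u' * h' * n * v') * v'⁻¹ * n⁻¹ := by group
    rw [this, ← e]; group
  have e2 := R.triv _ (U.mul_mem hv (U.inv_mem hv')) (by
    rw [e1]
    exact B.mul_mem (B.inv_mem (B.mul_mem (R.U_le_B hu) (R.H_le_B hh))) (B.mul_mem (R.U_le_B hu') (R.H_le_B hh')))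
  have e3 : v = v' := mul_inv_eq_one.1 e2
  subst e3
  have e4 : u * h = u' * h' := mul_right_cancel (mul_right_cancel e)
  obtain ⟨a, b⟩ := R.uh_unique hu hu' hh hh' e4
  exact ⟨a, b, rfl⟩

theorem big_not_mem_B {u h v : Γ} (hu : u ∈ U) (hh : h ∈ H) (hv : v ∈ U) : u * h * n * v ∉ B := by
  intro hb
  apply R.n_not_mem_B
  have : n = (u * h)⁻¹ * (u * h * n * v) * v⁻¹ := by group
  rw [this]
  exact B.mul_mem (B.mul_mem (B.inv_mem (B.mul_mem (R.U_le_B hu) (R.H_le_B hh))) hb) (B.inv_mem (R.U_le_B hv))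

theorem card_B : Nat.card B = Nat.card U * Nat.card H := by
  rw [← Nat.card_prod]
  symm
  apply Nat.card_congr
  refine Equiv.ofBijective (fun p : U × H => ⟨p.1.1 * p.2.1, B.mul_mem (R.U_le_B p.1.2) (R.H_le_B p.2.2)⟩) ⟨?_, ?_⟩
  · rintro ⟨⟨u, hu⟩, ⟨h, hh⟩⟩ ⟨⟨u', hu'⟩, ⟨h', hh'⟩⟩ e
    obtain ⟨rfl, rfl⟩ := R.uh_unique hu hu' hh hh' (congrArg Subtype.val e)
    rfl
  · rintro ⟨b, hb⟩
    obtain ⟨u, hu, h, hh, rfl⟩ := (R.mem_B b).1 hb
    exact ⟨⟨⟨u, hu⟩, ⟨h, hh⟩⟩, rfl⟩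

theorem card_G [Finite Γ] : Nat.card Γ = Nat.card U * Nat.card H * (Nat.card U + 1) := by
  have e : (U × H) ⊕ (U × H × U) ≃ Γ := by
    refine Equiv.ofBijective (Sum.elim (fun p => p.1.1 * p.2.1) (fun p => p.1.1 * p.2.1.1 * n * p.2.2.1)) ⟨?_, ?_⟩
    · rintro (⟨⟨u, hu⟩, ⟨h, hh⟩⟩ | ⟨⟨u, hu⟩, ⟨h, hh⟩, ⟨v, hv⟩⟩) (⟨⟨u', hu'⟩, ⟨h', hh'⟩⟩ | ⟨⟨u', hu'⟩, ⟨h', hh'⟩, ⟨v', hv'⟩⟩) e
      · obtain ⟨rfl, rfl⟩ := R.uh_unique hu hu' hh hh' e
        rfl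
      · exfalso
        apply R.big_not_mem_B hu' hh' hv'
        simp only [Sum.elim_inl, Sum.elim_inr] at e
        rw [← e]
        exact B.mul_mem (R.U_le_B hu) (R.H_le_B hh)
      · exfalso
        apply R.big_not_mem_B hu hh hv
        simp only [Sum.elim_inl, Sum.elim_inr] at e
        rw [e]
        exact B.mul_mem (R.U_le_B hu') (R.H_le_B hh')
      · obtain ⟨rfl, rfl, rfl⟩ := R.big_unique hu hu' hh hh' hv hv' e
        rfl
    · intro g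
      rcases R.cases g with hb | ⟨u, hu, h, hh, v, hv, rfl⟩
      · obtain ⟨u, hu, h, hh, rfl⟩ := (R.mem_B g).1 hb
        exact ⟨Sum.inl ⟨⟨u, hu⟩, ⟨h, hh⟩⟩, rfl⟩
      · exact ⟨Sum.inr ⟨⟨u, hu⟩, ⟨h, hh⟩, ⟨v, hv⟩⟩, rfl⟩
  rw [← Nat.card_congr e, Nat.card_sum, Nat.card_prod, Nat.card_prod, Nat.card_prod]
  ring

/-- the `(B, N)`-pair -/
theorem bn : ∃ P : Cfsg.BNPair Γ, P.B = B ∧ P.N = N ∧ P.S = {n} := by
  have hall : ∀ g : Γ, g ∈ B ∨ g ∈ DoubleCoset.doubleCoset n (B : Set Γ) B := by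
    intro g
    rcases R.cases g with h | ⟨u, hu, h, hh, v, hv, rfl⟩
    · exact Or.inl h
    · right
      rw [DoubleCoset.mem_doubleCoset]
      exact ⟨u * h, B.mul_mem (R.U_le_B hu) (R.H_le_B hh), v, R.U_le_B hv, rfl⟩
  have hdc : ∀ x : Γ, ∀ h ∈ B, DoubleCoset.doubleCoset (x * h) (B : Set Γ) B = DoubleCoset.doubleCoset x (B : Set Γ) B := by
    intro x h hh
    apply DoubleCoset.doubleCoset_eq_of_mem
    rw [DoubleCoset.mem_doubleCoset]
    exact ⟨1, B.one_mem, h, hh, by group⟩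
  have hdc' : ∀ x : Γ, ∀ h ∈ B, DoubleCoset.doubleCoset (h * x) (B : Set Γ) B = DoubleCoset.doubleCoset x (B : Set Γ) B := by
    intro x h hh
    apply DoubleCoset.doubleCoset_eq_of_mem
    rw [DoubleCoset.mem_doubleCoset]
    exact ⟨h, hh, 1, B.one_mem, by group⟩
  have hdc1 : ∀ h ∈ B, DoubleCoset.doubleCoset h (B : Set Γ) B = (B : Set Γ) := by
    intro h hh
    ext x
    rw [DoubleCoset.mem_doubleCoset]
    constructor
    · rintro ⟨a, ha, b, hb, rfl⟩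
      exact B.mul_mem (B.mul_mem ha hh) hb
    · intro hx
      exact ⟨x, hx, h⁻¹, B.inv_mem hh, by group⟩
  refine ⟨{ B := B, N := N, S := {n}, sup_eq_top := ?_, conj_mem := ?_, subset := ?_, sq_mem := ?_, inj := ?_,
            closure_sup := ?_, mul_mem_union := ?_, conj_ne := ?_ }, rfl, rfl, rfl⟩
  · rw [eq_top_iff]
    intro g _
    rcases R.cases g with h | ⟨u, hu, h, hh, v, hv, rfl⟩
    · exact Subgroup.mem_sup_left h
    · exact mul_mem (mul_mem (Subgroup.mem_sup_left (B.mul_mem (R.U_le_B hu) (R.H_le_B hh)))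
        (Subgroup.mem_sup_right R.n_mem_N)) (Subgroup.mem_sup_left (R.U_le_B hv))
  · intro x hx t ht
    rw [R.B_inf_N] at ht
    rcases (R.mem_N x).1 hx with h | ⟨h, hh, rfl⟩
    · exact R.H_le_B (H.mul_mem (H.mul_mem h ht) (H.inv_mem h))
    · have : h * n * t * (h * n)⁻¹ = h * (n * t * n⁻¹) * h⁻¹ := by group
      rw [this]
      exact R.H_le_B (H.mul_mem (H.mul_mem hh (R.nH t ht)) (H.inv_mem hh))
  · rintro _ rfl
    exact R.n_mem_N
  · rintro _ rfl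
    exact R.H_le_B R.nn
  · rintro _ rfl _ rfl _
    rfl
  · rw [R.B_inf_N]
    apply le_antisymm
    · apply sup_le _ R.H_le_N
      rw [Subgroup.closure_le]
      rintro _ rfl
      exact R.n_mem_N
    · intro x hx
      rcases (R.mem_N x).1 hx with h | ⟨h, hh, rfl⟩
      · exact Subgroup.mem_sup_right h
      · exact mul_mem (Subgroup.mem_sup_right hh) (Subgroup.mem_sup_left (Subgroup.subset_closure rfl))
  · intro s hs x hx b hb
    obtain rfl : n = s := (Set.mem_singleton_iff.1 hs).symm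
    rcases (R.mem_N x).1 hx with h | ⟨h, hh, rfl⟩
    · rw [hdc _ _ (R.H_le_B h), hdc1 _ (R.H_le_B h)]
      exact (hall _).symm
    · have e : n * (h * n) = (n * h * n⁻¹) * (n * n) := by group
      rw [hdc' _ _ (R.H_le_B hh), e, hdc1 _ (B.mul_mem (R.H_le_B (R.nH h hh)) (R.H_le_B R.nn))]
      exact hall _
  · intro s hs he
    obtain rfl : n = s := (Set.mem_singleton_iff.1 hs).symm
    obtain ⟨u, hu, hne⟩ := R.ne
    apply hne
    apply R.triv u hu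
    have h1 : n * u * n ∈ (B : Set Γ) := by
      rw [← he]; exact ⟨u, R.U_le_B hu, rfl⟩
    have : n * u * n⁻¹ = (n * u * n) * (n * n)⁻¹ := by group
    rw [this]
    exact B.mul_mem h1 (B.inv_mem (R.H_le_B R.nn))

/-- the core of `B` -/
theorem core (hc : ∀ h ∈ H, (∀ u ∈ U, h * u = u * h) → h = 1) : B.normalCore = ⊥ := by
  rw [eq_bot_iff]
  intro k hk
  have hn := Subgroup.normalCore_normal B
  have hkB := Subgroup.normalCore_le B hk
  obtain ⟨u₁, hu₁, h₁, hh₁, rfl⟩ := (R.mem_B k).1 hkB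
  have h1 : u₁ = 1 := by
    apply R.triv u₁ hu₁
    have : n * u₁ * n⁻¹ = (n * (u₁ * h₁) * n⁻¹) * (n * h₁ * n⁻¹)⁻¹ := by group
    rw [this]
    exact B.mul_mem (Subgroup.normalCore_le B (hn.conj_mem _ hk n)) (B.inv_mem (R.H_le_B (R.nH h₁ hh₁)))
  subst h1
  rw [one_mul] at hk hkB ⊢
  rw [Subgroup.mem_bot]
  apply hc h₁ hh₁
  intro u hu
  have h2 : h₁ * u * h₁⁻¹ * u⁻¹ ∈ B.normalCore := by
    have : h₁ * u * h₁⁻¹ * u⁻¹ = h₁ * (u * h₁⁻¹ * u⁻¹) := by group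
    rw [this]
    exact mul_mem hk (hn.conj_mem _ (inv_mem hk) u)
  have h3 : h₁ * u * h₁⁻¹ * u⁻¹ ∈ U := U.mul_mem (R.hU h₁ hh₁ u hu) (U.inv_mem hu)
  have h4 := R.triv _ h3 (Subgroup.normalCore_le B (hn.conj_mem _ h2 n))
  have : h₁ * u = (h₁ * u * h₁⁻¹ * u⁻¹) * (u * h₁) := by group
  rw [this, h4, one_mul]

/-- trivial intersection -/
theorem ti {g : Γ} (hg : g ∉ B) {x : Γ} (hx : x ∈ U) (hx' : g⁻¹ * x * g ∈ U) : x = 1 := by
  rcases R.cases g with h | ⟨u, hu, h, hh, v, hv, rfl⟩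
  · exact absurd h hg
  · have hb : u * h ∈ B := B.mul_mem (R.U_le_B hu) (R.H_le_B hh)
    have h1 : (u * h)⁻¹ * x * (u * h) ∈ U := by
      have := R.bU (B.inv_mem hb) hx
      rwa [inv_inv] at this
    have h2 : v * ((u * h * n * v)⁻¹ * x * (u * h * n * v)) * v⁻¹ ∈ U := U.mul_mem (U.mul_mem hv hx') (U.inv_mem hv)
    have h3 : n * (v * ((u * h * n * v)⁻¹ * x * (u * h * n * v)) * v⁻¹) * n⁻¹ = (u * h)⁻¹ * x * (u * h) := by group
    have h4 := R.triv _ h2 (by rw [h3]; exact R.U_le_B h1)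
    rw [h4] at h3
    have h5 : (u * h)⁻¹ * x * (u * h) = 1 := by rw [← h3]; group
    have : x = (u * h) * ((u * h)⁻¹ * x * (u * h)) * (u * h)⁻¹ := by group
    rw [this, h5]; group

theorem simple [Nontrivial Γ] (hsolv : Group.IsSolvable B) (hperf : commutator Γ = ⊤)
    (hc : ∀ h ∈ H, (∀ u ∈ U, h * u = u * h) → h = 1) : IsSimpleGroup Γ := by
  have hcore := R.core hc
  obtain ⟨P, hB, hN, hS⟩ := R.bn
  subst hB
  refine Cfsg.Agent.S0319.result P ?_ hsolv hperf hcore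
  intro J hJ ⟨j, hj⟩ ⟨k, hk, hkJ⟩
  rw [hS] at hJ hk
  have h1 : j = n := hJ hj
  have h2 : k = n := hk
  rw [h1] at hj
  rw [h2] at hkJ
  exact absurd hj hkJ

/-! ### the action on the cosets of `B` -/

omit R in
theorem stab_mk (a g : Γ) : g ∈ MulAction.stabilizer Γ (a : Γ ⧸ B) ↔ a⁻¹ * g * a ∈ B := by
  rw [MulAction.mem_stabilizer_iff]
  show ((g * a : Γ) : Γ ⧸ B) = a ↔ _
  rw [eq_comm, QuotientGroup.eq, mul_assoc]

omit R in
theorem card_T3_smul (g : Γ) (x y z : Γ ⧸ B) :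
    Nat.card ↥(MulAction.stabilizer Γ (g • x) ⊓ MulAction.stabilizer Γ (g • y) ⊓ MulAction.stabilizer Γ (g • z)) =
    Nat.card ↥(MulAction.stabilizer Γ x ⊓ MulAction.stabilizer Γ y ⊓ MulAction.stabilizer Γ z) := by
  rw [MulAction.stabilizer_smul_eq_stabilizer_map_conj, MulAction.stabilizer_smul_eq_stabilizer_map_conj,
    MulAction.stabilizer_smul_eq_stabilizer_map_conj, ← Subgroup.map_inf _ _ _ (MulAut.conj g).injective,
    ← Subgroup.map_inf _ _ _ (MulAut.conj g).injective]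
  exact Subgroup.card_map_of_injective (MulAut.conj g).injective

theorem T3_std {u : Γ} (hu : u ∈ U) :
    MulAction.stabilizer Γ ((1 : Γ) : Γ ⧸ B) ⊓ MulAction.stabilizer Γ ((n : Γ) : Γ ⧸ B) ⊓
      MulAction.stabilizer Γ ((u * n : Γ) : Γ ⧸ B) = H ⊓ Subgroup.centralizer {u} := by
  ext g
  simp only [Subgroup.mem_inf, stab_mk, Subgroup.mem_centralizer_singleton_iff]
  constructor
  · rintro ⟨⟨h1, h2⟩, h3⟩
    rw [inv_one, one_mul, mul_one] at h1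
    obtain ⟨a, ha, h, hh, rfl⟩ := (R.mem_B g).1 h1
    have a1 : a = 1 := by
      apply R.triv' ha
      have : n⁻¹ * a * n = (n⁻¹ * (a * h) * n) * (n⁻¹ * h * n)⁻¹ := by group
      rw [this]
      exact B.mul_mem h2 (B.inv_mem (R.H_le_B (R.nH' hh)))
    subst a1
    rw [one_mul] at h3 ⊢
    refine ⟨hh, ?_⟩
    have h4 : u⁻¹ * (h * u * h⁻¹) = 1 := by
      apply R.triv' (U.mul_mem (U.inv_mem hu) (R.hU h hh u hu))
      have : n⁻¹ * (u⁻¹ * (h * u * h⁻¹)) * n = ((u * n)⁻¹ * h * (u * n)) * (n⁻¹ * h * n)⁻¹ := by group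
      rw [this]
      exact B.mul_mem h3 (B.inv_mem (R.H_le_B (R.nH' hh)))
    have : h * u = u * (u⁻¹ * (h * u * h⁻¹)) * h := by group
    rw [this, h4, mul_one]
  · rintro ⟨hh, hc⟩
    refine ⟨⟨by simpa using R.H_le_B hh, R.H_le_B (R.nH' hh)⟩, ?_⟩
    have : (u * n)⁻¹ * g * (u * n) = n⁻¹ * (u⁻¹ * (g * u)) * n := by group
    rw [this, hc, inv_mul_cancel_left]
    exact R.H_le_B (R.nH' hh)

theorem three_pt (x y z : Γ ⧸ B) (hxy : x ≠ y) (hxz : x ≠ z) (hyz : y ≠ z) : ∃ u ∈ U, u ≠ 1 ∧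
    Nat.card ↥(MulAction.stabilizer Γ x ⊓ MulAction.stabilizer Γ y ⊓ MulAction.stabilizer Γ z) =
      Nat.card ↥(H ⊓ Subgroup.centralizer {u}) := by
  induction x using QuotientGroup.induction_on with | H a => ?_
  induction y using QuotientGroup.induction_on with | H b => ?_
  induction z using QuotientGroup.induction_on with | H c => ?_
  have hb : a⁻¹ * b ∉ B := fun h => hxy (QuotientGroup.eq.2 h)
  have hc : a⁻¹ * c ∉ B := fun h => hxz (QuotientGroup.eq.2 h)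
  obtain ⟨u, hu, b', hb', eb⟩ := (R.cases' (a⁻¹ * b)).resolve_left hb
  obtain ⟨v, hv, c', hc', ec⟩ := (R.cases' (a⁻¹ * c)).resolve_left hc
  -- translate by `u⁻¹ * a⁻¹`
  have e1 : (u⁻¹ * a⁻¹) • ((a : Γ) : Γ ⧸ B) = ((1 : Γ) : Γ ⧸ B) := by
    show ((u⁻¹ * a⁻¹ * a : Γ) : Γ ⧸ B) = _
    rw [QuotientGroup.eq]
    have : (u⁻¹ * a⁻¹ * a)⁻¹ * 1 = u := by group
    rw [this]; exact R.U_le_B hu
  have e2 : (u⁻¹ * a⁻¹) • ((b : Γ) : Γ ⧸ B) = ((n : Γ) : Γ ⧸ B) := by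
    show ((u⁻¹ * a⁻¹ * b : Γ) : Γ ⧸ B) = _
    rw [QuotientGroup.eq, mul_assoc, eb]
    have : (u⁻¹ * (u * n * b'))⁻¹ * n = b'⁻¹ := by group
    rw [this]; exact B.inv_mem hb'
  have e3 : (u⁻¹ * a⁻¹) • ((c : Γ) : Γ ⧸ B) = ((u⁻¹ * v * n : Γ) : Γ ⧸ B) := by
    show ((u⁻¹ * a⁻¹ * c : Γ) : Γ ⧸ B) = _
    rw [QuotientGroup.eq, mul_assoc, ec]
    have : (u⁻¹ * (v * n * c'))⁻¹ * (u⁻¹ * v * n) = c'⁻¹ := by group
    rw [this]; exact B.inv_mem hc'
  refine ⟨u⁻¹ * v, U.mul_mem (U.inv_mem hu) hv, ?_, ?_⟩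
  · intro h
    apply hyz
    have h1 : u = v := (inv_mul_eq_one.1 h)
    rw [QuotientGroup.eq]
    have : b⁻¹ * c = (a⁻¹ * b)⁻¹ * (a⁻¹ * c) := by group
    rw [this, eb, ec, h1]
    have : (v * n * b')⁻¹ * (v * n * c') = b'⁻¹ * c' := by group
    rw [this]
    exact B.mul_mem (B.inv_mem hb') hc'
  · rw [← card_T3_smul (u⁻¹ * a⁻¹), e1, e2, e3, R.T3_std (U.mul_mem (U.inv_mem hu) hv)]

theorem three_pt' {u : Γ} (hu : u ∈ U) (hne : u ≠ 1) : ∃ x y z : Γ ⧸ B, x ≠ y ∧ x ≠ z ∧ y ≠ z ∧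
    Nat.card ↥(MulAction.stabilizer Γ x ⊓ MulAction.stabilizer Γ y ⊓ MulAction.stabilizer Γ z) =
      Nat.card ↥(H ⊓ Subgroup.centralizer {u}) := by
  refine ⟨((1 : Γ) : Γ ⧸ B), ((n : Γ) : Γ ⧸ B), ((u * n : Γ) : Γ ⧸ B), ?_, ?_, ?_, by rw [R.T3_std hu]⟩
  · intro h
    rw [QuotientGroup.eq, inv_one, one_mul] at h
    exact R.n_not_mem_B h
  · intro h
    rw [QuotientGroup.eq, inv_one, one_mul] at h
    apply R.n_not_mem_B
    have : n = u⁻¹ * (u * n) := by group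
    rw [this]
    exact B.mul_mem (B.inv_mem (R.U_le_B hu)) h
  · intro h
    rw [QuotientGroup.eq, ← mul_assoc] at h
    exact hne (R.triv' hu h)

end R1

/-- a subgroup with a complement coset gives a map onto the group of order two -/
theorem exists_sign {𝔾 : Type*} [Group 𝔾] (N H : Subgroup 𝔾) (n : 𝔾) (hHN : H ≤ N) (hn : n ∈ N) (hnH : n ∉ H)
    (hN : ∀ g ∈ N, g ∈ H ∨ ∃ h ∈ H, g = h * n) (nH : ∀ h ∈ H, n * h * n⁻¹ ∈ H) (nn : n * n ∈ H) :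
    ∃ φ : ↥N →* Multiplicative (ZMod 2), Function.Surjective φ ∧ φ.ker = H.subgroupOf N := by
  classical
  have key : ∀ h ∈ H, h * n ∉ H := by
    intro h hh hc
    apply hnH
    have : n = h⁻¹ * (h * n) := by group
    rw [this]; exact H.mul_mem (H.inv_mem hh) hc
  let f : ↥N → Multiplicative (ZMod 2) := fun x => Multiplicative.ofAdd (if x.1 ∈ H then 0 else 1)
  have f0 : ∀ x : ↥N, x.1 ∈ H → f x = 1 := by
    intro x hx; simp only [f, if_pos hx]; rfl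
  have f1 : ∀ x : ↥N, x.1 ∉ H → f x = Multiplicative.ofAdd 1 := by
    intro x hx; simp only [f, if_neg hx]
  have h11 : (Multiplicative.ofAdd (1 : ZMod 2)) * Multiplicative.ofAdd 1 = 1 := by decide
  let φ : ↥N →* Multiplicative (ZMod 2) := MonoidHom.mk' f (by
    rintro ⟨x, hx⟩ ⟨y, hy⟩
    rcases hN x hx with h | ⟨h, hh, rfl⟩
    · rcases hN y hy with k | ⟨k, hk, rfl⟩
      · rw [f0 ⟨x, hx⟩ h, f0 ⟨y, hy⟩ k, f0 _ (H.mul_mem h k), one_mul]
      · rw [f0 ⟨x, hx⟩ h, f1 ⟨k * n, hy⟩ (key k hk), f1 _ (by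
          show x * (k * n) ∉ H
          rw [← mul_assoc]; exact key _ (H.mul_mem h hk)), one_mul]
    · rcases hN y hy with k | ⟨k, hk, rfl⟩
      · rw [f1 ⟨h * n, hx⟩ (key h hh), f0 ⟨y, hy⟩ k, f1 _ (by
          show h * n * y ∉ H
          have : h * n * y = h * (n * y * n⁻¹) * n := by group
          rw [this]; exact key _ (H.mul_mem hh (nH y k))), mul_one]
      · rw [f1 ⟨h * n, hx⟩ (key h hh), f1 ⟨k * n, hy⟩ (key k hk), f0 _ (by
          show h * n * (k * n) ∈ H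
          have : h * n * (k * n) = h * (n * k * n⁻¹) * (n * n) := by group
          rw [this]; exact H.mul_mem (H.mul_mem hh (nH k hk)) nn), h11])
  refine ⟨φ, ?_, ?_⟩
  · intro z
    have : z = 1 ∨ z = Multiplicative.ofAdd 1 := by revert z; decide
    rcases this with rfl | rfl
    · exact ⟨1, map_one φ⟩
    · exact ⟨⟨n, hn⟩, f1 _ hnH⟩
  · ext x
    rw [MonoidHom.mem_ker, Subgroup.mem_subgroupOf]
    constructor
    · intro h
      by_contra hc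
      have : φ x = Multiplicative.ofAdd 1 := f1 x hc
      rw [h] at this
      exact absurd this (by decide)
    · intro h
      exact f0 x h

end Cfsg.Agent.Lib.Helper8Rank1
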