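import Cfsg.Agent.Lib.Helper8Split
import Cfsg.Agent.Lib.Helper8Rank1

set_option autoImplicit false
set_option linter.unusedSectionVars false
set_option linter.unusedVariables false

/-! Elementary abelian 2-groups generated by commuting involutions. -/

namespace Cfsg.Agent.Lib.Helper8Elem

open Cfsg.Agent.Lib.Helper8Rank1

variable {G : Type*} [Group G]

/-- adjoin a commuting involution -/
def ext2 (V : Subgroup G) (c : G) (hc : c * c = 1) (hcomm : ∀ v ∈ V, c * v = v * c) : Subgroup G where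
  carrier := {g | g ∈ V ∨ ∃ h ∈ V, g = h * c}
  one_mem' := Or.inl V.one_mem
  mul_mem' := by
    rintro a b (ha | ⟨h, hh, rfl⟩) (hb | ⟨k, hk, rfl⟩)
    · exact Or.inl (V.mul_mem ha hb)
    · exact Or.inr ⟨a * k, V.mul_mem ha hk, by group⟩
    · exact Or.inr ⟨h * b, V.mul_mem hh hb, by rw [mul_assoc, hcomm b hb, mul_assoc]⟩
    · left
      have : h * c * (k * c) = h * k := by
        rw [mul_assoc, ← mul_assoc c k c, hcomm k hk, mul_assoc k, hc, mul_one]
      rw [this]; exact V.mul_mem hh hk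
  inv_mem' := by
    rintro a (ha | ⟨h, hh, rfl⟩)
    · exact Or.inl (V.inv_mem ha)
    · right
      refine ⟨h⁻¹, V.inv_mem hh, ?_⟩
      have hci : c⁻¹ = c := inv_eq_of_mul_eq_one_right hc
      rw [mul_inv_rev, hci, hcomm _ (V.inv_mem hh)]

theorem mem_ext2 {V : Subgroup G} {c : G} {hc : c * c = 1} {hcomm : ∀ v ∈ V, c * v = v * c} {g : G} :
    g ∈ ext2 V c hc hcomm ↔ g ∈ V ∨ ∃ h ∈ V, g = h * c := Iff.rfl

theorem le_ext2 (V : Subgroup G) (c : G) (hc : c * c = 1) (hcomm : ∀ v ∈ V, c * v = v * c) :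
    V ≤ ext2 V c hc hcomm := fun _ h => Or.inl h

theorem self_mem_ext2 (V : Subgroup G) (c : G) (hc : c * c = 1) (hcomm : ∀ v ∈ V, c * v = v * c) :
    c ∈ ext2 V c hc hcomm := Or.inr ⟨1, V.one_mem, (one_mul c).symm⟩

theorem exists_sign_ext2 (V : Subgroup G) (c : G) (hc : c * c = 1) (hcomm : ∀ v ∈ V, c * v = v * c) (hcV : c ∉ V) :
    ∃ φ : ↥(ext2 V c hc hcomm) →* Multiplicative (ZMod 2), Function.Surjective φ ∧
      φ.ker = V.subgroupOf (ext2 V c hc hcomm) :=
  exists_sign _ V c (le_ext2 V c hc hcomm) (self_mem_ext2 V c hc hcomm) hcV (fun g hg => hg)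
    (fun h hh => by rw [hcomm h hh, mul_inv_cancel_right]; exact hh) (by rw [hc]; exact V.one_mem)

theorem card_ext2 [Finite G] (V : Subgroup G) (c : G) (hc : c * c = 1) (hcomm : ∀ v ∈ V, c * v = v * c) (hcV : c ∉ V) :
    Nat.card (ext2 V c hc hcomm) = 2 * Nat.card V := by
  obtain ⟨φ, hs, hk⟩ := exists_sign_ext2 V c hc hcomm hcV
  have h1 := Subgroup.card_mul_index φ.ker
  rw [Subgroup.index_ker, MonoidHom.range_eq_top.2 hs, Subgroup.card_top, hk] at h1
  have h2 : Nat.card (Multiplicative (ZMod 2)) = 2 := by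
    rw [Nat.card_eq_fintype_card]; rfl
  have h3 : Nat.card ↥(V.subgroupOf (ext2 V c hc hcomm)) = Nat.card V :=
    Nat.card_congr (Subgroup.subgroupOfEquivOfLe (le_ext2 V c hc hcomm)).toEquiv
  rw [h2, h3] at h1
  omega

theorem exp_ext2 (V : Subgroup G) (c : G) (hc : c * c = 1) (hcomm : ∀ v ∈ V, c * v = v * c)
    (hV : ∀ v ∈ V, v * v = 1) : ∀ v ∈ ext2 V c hc hcomm, v * v = 1 := by
  rintro v (hv | ⟨h, hh, rfl⟩)
  · exact hV v hv
  · rw [mul_assoc, ← mul_assoc c h c, hcomm h hh, mul_assoc h, hc, mul_one, hV h hh]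

theorem comm_ext2 (V : Subgroup G) (c : G) (hc : c * c = 1) (hcomm : ∀ v ∈ V, c * v = v * c) (d : G)
    (hd : ∀ v ∈ V, d * v = v * d) (hdc : d * c = c * d) : ∀ v ∈ ext2 V c hc hcomm, d * v = v * d := by
  rintro v (hv | ⟨h, hh, rfl⟩)
  · exact hd v hv
  · rw [← mul_assoc, hd h hh, mul_assoc, hdc, mul_assoc]

end Cfsg.Agent.Lib.Helper8Elem
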