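import Mathlib

set_option autoImplicit false
set_option linter.unusedSectionVars false

/-! Fusion in perfect groups with abelian Sylow subgroups. -/

namespace Cfsg.Agent.Lib.Helper8Fus

open scoped IsMulCommutative

variable {G : Type*} [Group G] [Finite G]

theorem exists_moving (hperf : commutator G = ⊤) {p : ℕ} [Fact p.Prime] (S : Sylow p G)
    [hc : IsMulCommutative (S : Subgroup G)] (s : G) (hs : s ∈ S) (hs1 : s ≠ 1) :
    ∃ n ∈ Subgroup.normalizer ((S : Subgroup G) : Set G), n⁻¹ * s * n ≠ s := by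
  by_contra hcon
  push Not at hcon
  have key : ∀ (k : ℕ) (g₀ : G), g₀⁻¹ * s ^ k * g₀ ∈ (S : Subgroup G) → g₀⁻¹ * s ^ k * g₀ = s ^ k := by
    intro k g₀ hmem
    obtain ⟨n, hn, h'⟩ := S.conj_eq_normalizer_conj_of_mem (s ^ k) g₀ (pow_mem hs k) hmem
    rw [h']
    have : n⁻¹ * s ^ k * n = (n⁻¹ * s * n) ^ k := by
      have := conj_pow (a := n⁻¹) (b := s) (i := k)
      rw [inv_inv] at this
      exact this.symm
    rw [this, hcon n hn]
  have h1 := MonoidHom.transfer_eq_pow (MonoidHom.id (S : Subgroup G)) s key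
  have h2 : MonoidHom.transfer (MonoidHom.id (S : Subgroup G)) s = 1 := by
    have := Abelianization.commutator_subset_ker (MonoidHom.transfer (MonoidHom.id (S : Subgroup G)))
    rw [hperf] at this
    exact this (Subgroup.mem_top s)
  rw [h2] at h1
  have h3 : s ^ (S : Subgroup G).index = 1 := (congrArg Subtype.val h1).symm
  obtain ⟨k, hk⟩ := (IsPGroup.iff_orderOf.1 S.2) ⟨s, hs⟩
  have h4 : orderOf s = p ^ k := by rw [← hk]; exact (Subgroup.orderOf_mk s hs).symm
  have h5 : orderOf s ∣ (S : Subgroup G).index := orderOf_dvd_of_pow_eq_one h3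
  have h6 : ¬ p ∣ (S : Subgroup G).index := S.not_dvd_index
  apply hs1
  rw [← orderOf_eq_one_iff, h4]
  cases k with
  | zero => rfl
  | succ k =>
    exfalso
    apply h6
    exact (dvd_pow_self p (Nat.succ_ne_zero k)).trans (h4 ▸ h5)

/-- conjugation action of a subgroup on the group -/
@[reducible] noncomputable def cAct (N : Subgroup G) : MulAction N G :=
  MulAction.compHom G ((MulAut.conj (G := G)).comp N.subtype)

theorem cAct_smul (N : Subgroup G) (n : N) (g : G) :
    (letI := cAct N; n • g) = (n : G) * g * (n : G)⁻¹ := rfl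

theorem trans8 (hperf : commutator G = ⊤) (S : Sylow 2 G) (h8 : Nat.card S = 8) (hexp : ∀ x ∈ S, x * x = 1)
    (a : G) (ha : a ∈ S) (ha1 : a ≠ 1) :
    (∀ s ∈ S, s ≠ 1 → ∃ n ∈ Subgroup.normalizer ((S : Subgroup G) : Set G), n * a * n⁻¹ = s) ∧
    Nat.card (Subgroup.normalizer ((S : Subgroup G) : Set G)) =
      7 * Nat.card ↥(Subgroup.normalizer ((S : Subgroup G) : Set G) ⊓ Subgroup.centralizer {a}) := by
  classical
  set N := Subgroup.normalizer ((S : Subgroup G) : Set G) with hN
  let _ := cAct N
  have hcomm : ∀ x ∈ S, ∀ y ∈ S, x * y = y * x := by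
    intro x hx y hy
    have h1 := hexp (x * y) (S.mul_mem hx hy)
    have h2 := hexp x hx
    have h3 := hexp y hy
    calc x * y = x * (x * y * (x * y)) * y := by rw [h1, mul_one]
      _ = (x * x) * (y * x) * (y * y) := by group
      _ = y * x := by rw [h2, h3, one_mul, mul_one]
  have hc : IsMulCommutative (S : Subgroup G) := ⟨⟨fun x y => Subtype.ext (hcomm x x.2 y y.2)⟩⟩
  let X : Set G := {s | s ∈ S ∧ s ≠ 1}
  have hXcard : X.ncard = 7 := by
    have h1 : X = ((S : Subgroup G) : Set G) \ {1} := by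
      ext s; simp [X]
    rw [h1, Set.ncard_sdiff (by simp)]
    have : ((S : Subgroup G) : Set G).ncard = 8 := by
      rw [← Nat.card_coe_set_eq]; exact h8
    rw [this, Set.ncard_singleton]
  have horb : ∀ s ∈ X, MulAction.orbit N s ⊆ X := by
    rintro s ⟨hs, hs1⟩ _ ⟨n, rfl⟩
    refine ⟨?_, ?_⟩
    · show (n : G) * s * (n : G)⁻¹ ∈ S
      exact (Subgroup.mem_normalizer_iff.1 n.2 s).1 hs
    · intro h
      apply hs1
      have h' : (n : G) * s * (n : G)⁻¹ = 1 := h
      have : s = (n : G)⁻¹ * ((n : G) * s * (n : G)⁻¹) * n := by group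
      rw [this, h']; group
  have hodd : ∀ s ∈ X, Odd (MulAction.orbit N s).ncard := by
    rintro s ⟨hs, hs1⟩
    rw [← MulAction.index_stabilizer]
    have h1 : (S : Subgroup G).subgroupOf N ≤ MulAction.stabilizer N s := by
      intro n hn
      rw [MulAction.mem_stabilizer_iff]
      show (n : G) * s * (n : G)⁻¹ = s
      rw [hcomm _ (Subgroup.mem_subgroupOf.1 hn) s hs, mul_inv_cancel_right]
    have h2 := Subgroup.index_dvd_of_le h1
    have h3 : ((S : Subgroup G).subgroupOf N).index ∣ (S : Subgroup G).index :=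
      Subgroup.relIndex_dvd_index_of_le Subgroup.le_normalizer
    have h4 : ¬ 2 ∣ (S : Subgroup G).index := S.not_dvd_index
    rw [Nat.odd_iff]
    by_contra h5
    apply h4
    exact (Nat.dvd_of_mod_eq_zero (by omega)).trans (h2.trans h3)
  have hne1 : ∀ s ∈ X, (MulAction.orbit N s).ncard ≠ 1 := by
    rintro s ⟨hs, hs1⟩ h
    obtain ⟨n, hn, hns⟩ := exists_moving hperf S s hs hs1
    obtain ⟨x, hx⟩ := Set.ncard_eq_one.1 h
    have e1 : s ∈ MulAction.orbit N s := MulAction.mem_orbit_self s
    have e2 : n⁻¹ * s * n ∈ MulAction.orbit N s := by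
      refine ⟨⟨n⁻¹, N.inv_mem hn⟩, ?_⟩
      show n⁻¹ * s * (n⁻¹)⁻¹ = _
      rw [inv_inv]
    rw [hx] at e1 e2
    exact hns (e2.trans e1.symm)
  have h3 : ∀ s ∈ X, 3 ≤ (MulAction.orbit N s).ncard := by
    intro s hs
    have h1 := hodd s hs
    have h2 := hne1 s hs
    rw [Nat.odd_iff] at h1
    omega
  have haX : a ∈ X := ⟨ha, ha1⟩
  have htrans : ∀ s ∈ X, s ∈ MulAction.orbit N a := by
    intro b hb
    by_contra hba
    have hd1 : Disjoint (MulAction.orbit N a) (MulAction.orbit N b) := by
      rcases MulAction.orbit.eq_or_disjoint (G := N) a b with h | h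
      · exact absurd (h ▸ MulAction.mem_orbit_self b) hba
      · exact h
    have hu : (MulAction.orbit N a ∪ MulAction.orbit N b).ncard =
        (MulAction.orbit N a).ncard + (MulAction.orbit N b).ncard := Set.ncard_union_eq hd1
    have hsub : MulAction.orbit N a ∪ MulAction.orbit N b ⊆ X := Set.union_subset (horb a haX) (horb b hb)
    have hle := Set.ncard_le_ncard hsub
    have ho1 := hodd a haX
    have ho2 := hodd b hb
    have hlt : (MulAction.orbit N a ∪ MulAction.orbit N b).ncard < X.ncard := by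
      rw [Nat.odd_iff] at ho1 ho2
      omega
    obtain ⟨c, hcX, hc⟩ := Set.exists_mem_notMem_of_ncard_lt_ncard hlt
    have hd2 : Disjoint (MulAction.orbit N a ∪ MulAction.orbit N b) (MulAction.orbit N c) := by
      rw [Set.disjoint_union_left]
      constructor
      · rcases MulAction.orbit.eq_or_disjoint (G := N) a c with h | h
        · exact absurd (Or.inl (h ▸ MulAction.mem_orbit_self c)) hc
        · exact h
      · rcases MulAction.orbit.eq_or_disjoint (G := N) b c with h | h
        · exact absurd (Or.inr (h ▸ MulAction.mem_orbit_self c)) hc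
        · exact h
    have hu2 := Set.ncard_union_eq hd2
    have hsub2 : (MulAction.orbit N a ∪ MulAction.orbit N b) ∪ MulAction.orbit N c ⊆ X :=
      Set.union_subset hsub (horb c hcX)
    have hle2 := Set.ncard_le_ncard hsub2
    have := h3 a haX
    have := h3 b hb
    have := h3 c hcX
    omega
  constructor
  · intro s hs hs1
    obtain ⟨n, hn⟩ := htrans s ⟨hs, hs1⟩
    exact ⟨n, n.2, hn⟩
  · have e1 : MulAction.orbit N a = X := Set.Subset.antisymm (horb a haX) htrans
    have e2 := MulAction.index_stabilizer (G := N) (x := a)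
    rw [e1, hXcard] at e2
    have e3 := Subgroup.card_mul_index (MulAction.stabilizer N a)
    rw [e2] at e3
    have e4 : MulAction.stabilizer N a = (N ⊓ Subgroup.centralizer {a}).subgroupOf N := by
      ext n
      rw [MulAction.mem_stabilizer_iff, Subgroup.mem_subgroupOf, Subgroup.mem_inf,
        Subgroup.mem_centralizer_singleton_iff]
      constructor
      · intro h
        have h' : (n : G) * a * (n : G)⁻¹ = a := h
        exact ⟨n.2, mul_inv_eq_iff_eq_mul.1 h'⟩
      · rintro ⟨-, h⟩
        show (n : G) * a * (n : G)⁻¹ = a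
        exact mul_inv_eq_iff_eq_mul.2 h
    rw [e4, Nat.card_congr (Subgroup.subgroupOfEquivOfLe inf_le_left).toEquiv] at e3
    omega

end Cfsg.Agent.Lib.Helper8Fus
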