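import Mathlib
import Cfsg.Agent.S0803
import Cfsg.Agent.S0276
import Cfsg.Agent.S0268
import Cfsg.Agent.Lib.Helper50Out

set_option autoImplicit false
set_option linter.unusedSectionVars false

namespace Cfsg.Agent.Lib.Helper8JR2

open Cfsg.Agent.Lib.Helper50Aut Cfsg.Agent.Lib.Helper50AutStr Cfsg.Agent.Lib.Helper50Out

variable {F : Type*} [Field F]

local notation "SL2" => Matrix.SpecialLinearGroup (Fin 2) F
local notation "PSL2" => Matrix.ProjectiveSpecialLinearGroup (Fin 2) F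
local notation "M2" => Matrix (Fin 2) (Fin 2) F
local notation "π" => (QuotientGroup.mk : Matrix.SpecialLinearGroup (Fin 2) F →
  Matrix.SpecialLinearGroup (Fin 2) F ⧸ Subgroup.center (Matrix.SpecialLinearGroup (Fin 2) F))

theorem tr_zero (X : SL2) (hX : (X : M2) * (X : M2) = -1) : (X : M2) 1 1 = - (X : M2) 0 0 := by
  have hd := X.2
  rw [Matrix.det_fin_two] at hd
  have h00 := congrFun (congrFun hX 0) 0
  have h11 := congrFun (congrFun hX 1) 1
  simp [Matrix.mul_apply, Fin.sum_univ_two] at h00 h11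
  have h : ((X : M2) 0 0 + (X : M2) 1 1) ^ 2 = 0 := by
    linear_combination h00 + h11 + 2 * hd
  have := pow_eq_zero_iff (two_ne_zero) |>.1 h
  linear_combination this

theorem scalar_of_comm (h2 : (2 : F) ≠ 0) (X Y : SL2) (A : M2) (hX : (X : M2) * (X : M2) = -1)
    (hY : (Y : M2) * (Y : M2) = -1) (hXY : (X : M2) * (Y : M2) = -((Y : M2) * (X : M2)))
    (h1 : A * (X : M2) = (X : M2) * A) (h3 : A * (Y : M2) = (Y : M2) * A) :
    A = (A 0 0) • (1 : M2) := by
  have tX := tr_zero X hX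
  have tY := tr_zero Y hY
  obtain ⟨a, ha⟩ : ∃ a, a = (X : M2) 0 0 := ⟨_, rfl⟩
  obtain ⟨b, hb⟩ : ∃ a, a = (X : M2) 0 1 := ⟨_, rfl⟩
  obtain ⟨c, hc⟩ : ∃ a, a = (X : M2) 1 0 := ⟨_, rfl⟩
  obtain ⟨e, he⟩ : ∃ a, a = (Y : M2) 0 0 := ⟨_, rfl⟩
  obtain ⟨f, hf⟩ : ∃ a, a = (Y : M2) 0 1 := ⟨_, rfl⟩
  obtain ⟨g, hg⟩ : ∃ a, a = (Y : M2) 1 0 := ⟨_, rfl⟩
  obtain ⟨p, hp⟩ : ∃ a, a = A 0 0 := ⟨_, rfl⟩
  obtain ⟨q, hq⟩ : ∃ a, a = A 0 1 := ⟨_, rfl⟩
  obtain ⟨r, hr⟩ : ∃ a, a = A 1 0 := ⟨_, rfl⟩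
  obtain ⟨s, hs⟩ : ∃ a, a = A 1 1 := ⟨_, rfl⟩
  have e7 := congrFun (congrFun hX 0) 0
  have e8 := congrFun (congrFun hY 0) 0
  have e9 := congrFun (congrFun hXY 0) 0
  have e1 := congrFun (congrFun h1 0) 0
  have e2 := congrFun (congrFun h1 0) 1
  have e3 := congrFun (congrFun h1 1) 0
  have e4 := congrFun (congrFun h3 0) 0
  have e5 := congrFun (congrFun h3 0) 1
  have e6 := congrFun (congrFun h3 1) 0
  simp only [Matrix.mul_apply, Fin.sum_univ_two, Matrix.neg_apply, Matrix.one_apply_eq, tX, tY,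
    ← ha, ← hb, ← hc, ← he, ← hf, ← hg, ← hp, ← hq, ← hr, ← hs] at e1 e2 e3 e4 e5 e6 e7 e8 e9
  obtain ⟨δ, hδ⟩ : ∃ δ, δ = p - s := ⟨_, rfl⟩
  obtain ⟨m, hm⟩ : ∃ m, m = δ * a + q * c + r * b := ⟨_, rfl⟩
  obtain ⟨n, hn⟩ : ∃ n, n = δ * e + q * g + r * f := ⟨_, rfl⟩
  have E1 : q * c = b * r := by linear_combination e1
  have E2 : b * δ = 2 * a * q := by rw [hδ]; linear_combination e2
  have E3 : c * δ = 2 * a * r := by rw [hδ]; linear_combination -e3
  have E4 : q * g = f * r := by linear_combination e4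
  have E5 : f * δ = 2 * e * q := by rw [hδ]; linear_combination e5
  have E6 : g * δ = 2 * e * r := by rw [hδ]; linear_combination -e6
  have A1 : 2 * δ = -(2 * m * a) := by
    rw [hm]; linear_combination (2 * δ) * e7 - c * E2 - b * E3
  have A2 : 2 * q = -(m * b) := by
    rw [hm]; linear_combination (2 * q) * e7 + a * E2 - b * E1
  have A3 : 2 * r = -(m * c) := by
    rw [hm]; linear_combination (2 * r) * e7 + a * E3 + c * E1
  have B1 : 2 * δ = -(2 * n * e) := by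
    rw [hn]; linear_combination (2 * δ) * e8 - g * E5 - f * E6
  have B2 : 2 * q = -(n * f) := by
    rw [hn]; linear_combination (2 * q) * e8 + e * E5 - f * E4
  have B3 : 2 * r = -(n * g) := by
    rw [hn]; linear_combination (2 * r) * e8 + e * E6 + g * E4
  have hn0 : n = 0 := by
    have : 2 * n = 0 := by
      rw [hn]; linear_combination e * A1 + g * A2 + f * A3 - m * e9
    exact (mul_eq_zero.1 this).resolve_left h2
  have hδ0 : δ = 0 := by
    have : 2 * δ = 0 := by rw [B1, hn0]; ring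
    exact (mul_eq_zero.1 this).resolve_left h2
  have hq0 : q = 0 := by
    have : 2 * q = 0 := by rw [B2, hn0]; ring
    exact (mul_eq_zero.1 this).resolve_left h2
  have hr0 : r = 0 := by
    have : 2 * r = 0 := by rw [B3, hn0]; ring
    exact (mul_eq_zero.1 this).resolve_left h2
  ext i j
  fin_cases i <;> fin_cases j
  · simp
  · simp [← hq, hq0]
  · simp [← hr, hr0]
  · simp [← hs, ← hp]
    linear_combination hδ - hδ0

theorem mk_eq (A B : SL2) (h : π A = π B) : (A : M2) = (B : M2) ∨ (A : M2) = -(B : M2) := by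
  rw [QuotientGroup.eq, Matrix.SpecialLinearGroup.mem_center_iff] at h
  obtain ⟨r, hr, hrA⟩ := h
  rw [Fintype.card_fin] at hr
  have h1 : (B : M2) = (A : M2) * (Matrix.scalar (Fin 2) r) := by
    rw [hrA, Matrix.SpecialLinearGroup.coe_mul, ← Matrix.mul_assoc,
      ← Matrix.SpecialLinearGroup.coe_mul, mul_inv_cancel, Matrix.SpecialLinearGroup.coe_one,
      Matrix.one_mul]
  have h2 : r = 1 ∨ r = -1 := sq_eq_one_iff.1 hr
  rcases h2 with rfl | rfl
  · left
    rw [h1, map_one, Matrix.mul_one]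
  · right
    rw [h1, map_neg, map_one, Matrix.mul_neg, Matrix.mul_one, neg_neg]

theorem mk_eq_of_neg (A B : SL2) (h : (A : M2) = -(B : M2)) : π A = π B := by
  rw [QuotientGroup.eq, Matrix.SpecialLinearGroup.mem_center_iff]
  refine ⟨-1, by simp, ?_⟩
  have h1 : (B : M2) = (A : M2) * (Matrix.scalar (Fin 2) (-1 : F)) := by
    rw [h, map_neg, map_one, Matrix.mul_neg, Matrix.mul_one, neg_neg]
  rw [Matrix.SpecialLinearGroup.coe_mul, h1, ← Matrix.mul_assoc,
      ← Matrix.SpecialLinearGroup.coe_mul, inv_mul_cancel, Matrix.SpecialLinearGroup.coe_one,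
      Matrix.one_mul]

theorem sq_neg [Fintype F] (hodd : Odd (Fintype.card F)) (X : SL2) (h1 : π X ≠ 1)
    (h2 : π X * π X = 1) : (X : M2) * (X : M2) = -1 := by
  have h3 : π (X * X) = π 1 := h2
  rcases mk_eq _ _ h3 with h | h
  · exfalso
    have h4 : X * X = 1 := Subtype.ext h
    have hX1 : X ≠ 1 := fun h => h1 (by rw [h]; rfl)
    have h5 := Cfsg.Agent.S0268.result hodd X hX1 h4
    apply h1
    exact mk_eq_of_neg X 1 (by rw [h5]; rfl)
  · rw [Matrix.SpecialLinearGroup.coe_mul, Matrix.SpecialLinearGroup.coe_one] at h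
    exact h

theorem anti (X Y : M2) (hX : X * X = -1) (hY : Y * Y = -1) (hXY : (X * Y) * (X * Y) = -1) :
    X * Y = -(Y * X) := by
  have h1 : X * ((X * Y) * (X * Y)) * Y = (X * X) * (Y * X) * (Y * Y) := by
    simp only [Matrix.mul_assoc]
  rw [hXY, hX, hY] at h1
  simp only [Matrix.mul_neg, Matrix.neg_mul, Matrix.mul_one, Matrix.one_mul, neg_neg] at h1
  rw [← h1, neg_neg]

theorem fin_step (h2 : (2 : F) ≠ 0) (X Y : SL2) (hX : (X : M2) * (X : M2) = -1)
    (hY : (Y : M2) * (Y : M2) = -1) (hXY : (X : M2) * (Y : M2) = -((Y : M2) * (X : M2)))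
    (g : GL (Fin 2) F) (h : SL2) (hh : π h * π h = 1)
    (c1 : ((h : M2) * (g : M2)) * (X : M2) = (X : M2) * ((h : M2) * (g : M2)))
    (c2 : ((h : M2) * (g : M2)) * (Y : M2) = (Y : M2) * ((h : M2) * (g : M2))) :
    cHom g = MulAut.conj (π h) := by
  have h1 := scalar_of_comm h2 X Y _ hX hY hXY c1 c2
  have h3 : Matrix.SpecialLinearGroup.toGL h * g ∈ Subgroup.center (GL (Fin 2) F) := by
    rw [Subgroup.mem_center_iff]
    intro B
    apply Units.ext
    show (B : M2) * ((h : M2) * (g : M2)) = ((h : M2) * (g : M2)) * (B : M2)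
    rw [h1]
    simp
  have h4 := cHom_eq_one_of_mem_center _ h3
  rw [map_mul, cHom_toGL] at h4
  have h5 : (MulAut.conj (π h)) * (MulAut.conj (π h)) = 1 := by
    rw [← map_mul, hh, map_one]
  calc cHom g = (MulAut.conj (π h) * MulAut.conj (π h)) * cHom g := by rw [h5, one_mul]
    _ = MulAut.conj (π h) * (MulAut.conj (π h) * cHom g) := by rw [mul_assoc]
    _ = MulAut.conj (π h) := by rw [h4, mul_one]

theorem sq_mod8 (u : ℕ) : u * u % 8 = 0 ∨ u * u % 8 = 1 ∨ u * u % 8 = 4 := by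
  rw [Nat.mul_mod]
  have : u % 8 < 8 := Nat.mod_lt _ (by norm_num)
  interval_cases (u % 8) <;> simp

theorem conj_sign (g : GL (Fin 2) F) (X : SL2) (h : cHom g (π X) = π X) :
    (g : M2) * (X : M2) = (X : M2) * (g : M2) ∨ (g : M2) * (X : M2) = -((X : M2) * (g : M2)) := by
  rw [cHom_apply, liftAut_mk] at h
  have e : (g : M2) * (X : M2) = (conjGL g X : M2) * (g : M2) := by
    rw [conjGL_coe, Matrix.mul_assoc, gl_inv_mul, Matrix.mul_one]
  rcases mk_eq _ _ h with h | h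
  · left; rw [e, h]
  · right; rw [e, h, Matrix.neg_mul]

theorem lemK [Fintype F] (hq : Fintype.card F % 8 = 3 ∨ Fintype.card F % 8 = 5)
    (β : MulAut PSL2) (k : ℕ) (hβ : β ^ (2 ^ k) = 1) (x y : PSL2) (hx1 : x ≠ 1) (hy1 : y ≠ 1)
    (hxy : x ≠ y) (hx2 : x * x = 1) (hy2 : y * y = 1) (hc : x * y = y * x)
    (hβx : β x = x) (hβy : β y = y) :
    ∃ v, (v = 1 ∨ v = x ∨ v = y ∨ v = x * y) ∧ ∀ z, β z = v * z * v⁻¹ := by
  have hodd : Odd (Fintype.card F) := by
    rw [Nat.odd_iff]; omega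
  have h2 : (2 : F) ≠ 0 := Ring.two_ne_zero (fun h => by
    have := FiniteField.even_card_iff_char_two.1 h
    omega)
  obtain ⟨p, _, f, hp, hcard⟩ := FiniteField.card' F
  have : Fact p.Prime := ⟨hp⟩
  have hfodd : Odd (f : ℕ) := by
    rcases Nat.even_or_odd (f : ℕ) with ⟨j, hj⟩ | h
    · exfalso
      rw [hj, pow_add] at hcard
      have := sq_mod8 (p ^ j)
      omega
    · exact h
  obtain ⟨r, hr, _⟩ := exists_hom_two (F := F)
  obtain ⟨_, hcardA⟩ := ringAut_cyclic_card hcard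
  have h1 : r β = 1 := by
    have e1 : (r β) ^ (2 ^ k) = 1 := by rw [← map_pow, hβ, map_one]
    have e2 : (r β) ^ (f : ℕ) = 1 := by rw [← hcardA]; exact pow_card_eq_one'
    have e3 : Nat.Coprime (2 ^ k) (f : ℕ) :=
      Nat.Coprime.pow_left k (Nat.coprime_two_left.2 hfodd)
    have e4 := orderOf_dvd_of_pow_eq_one e1
    have e5 := orderOf_dvd_of_pow_eq_one e2
    exact orderOf_eq_one_iff.1 (Nat.Coprime.eq_one_of_dvd (Nat.Coprime.coprime_dvd_left e4 e3) e5)
  obtain ⟨g, hg⟩ : β ∈ (cHom : GL (Fin 2) F →* _).range := hr ▸ MonoidHom.mem_ker.2 h1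
  obtain ⟨X, rfl⟩ := QuotientGroup.mk_surjective x
  obtain ⟨Y, rfl⟩ := QuotientGroup.mk_surjective y
  have hX := sq_neg hodd X hx1 hx2
  have hY := sq_neg hodd Y hy1 hy2
  have hxy1 : π (X * Y) ≠ 1 := by
    intro h
    apply hxy
    have h' : π X * π Y = 1 := h
    calc π X = π X * (π Y * π Y) := by rw [hy2, mul_one]
      _ = (π X * π Y) * π Y := by rw [mul_assoc]
      _ = π Y := by rw [h', one_mul]
  have hxy2 : π (X * Y) * π (X * Y) = 1 := by
    show (π X * π Y) * (π X * π Y) = 1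
    calc (π X * π Y) * (π X * π Y) = π X * (π Y * π X) * π Y := by simp only [mul_assoc]
      _ = (π X * π X) * (π Y * π Y) := by rw [← hc]; simp only [mul_assoc]
      _ = 1 := by rw [hx2, hy2, one_mul]
  have hZ := sq_neg hodd (X * Y) hxy1 hxy2
  rw [Matrix.SpecialLinearGroup.coe_mul] at hZ
  have hXY := anti _ _ hX hY hZ
  rw [← hg] at hβx hβy
  have key : ∀ h : SL2, π h * π h = 1 →
      ((h : M2) * (g : M2)) * (X : M2) = (X : M2) * ((h : M2) * (g : M2)) →
      ((h : M2) * (g : M2)) * (Y : M2) = (Y : M2) * ((h : M2) * (g : M2)) →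
      ∀ z, β z = π h * z * (π h)⁻¹ := by
    intro h hh c1 c2 z
    rw [← hg, fin_step h2 X Y hX hY hXY g h hh c1 c2]
    rfl
  rcases conj_sign g X hβx with sX | sX <;> rcases conj_sign g Y hβy with sY | sY
  · refine ⟨π 1, Or.inl rfl, key 1 (mul_one _) ?_ ?_⟩
    · rw [Matrix.SpecialLinearGroup.coe_one, Matrix.one_mul, sX]
    · rw [Matrix.SpecialLinearGroup.coe_one, Matrix.one_mul, sY]
  · refine ⟨π X, Or.inr (Or.inl rfl), key X hx2 ?_ ?_⟩
    · rw [Matrix.mul_assoc, sX]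
    · rw [Matrix.mul_assoc, sY, Matrix.mul_neg, ← Matrix.mul_assoc, hXY, Matrix.neg_mul, neg_neg,
        Matrix.mul_assoc]
  · refine ⟨π Y, Or.inr (Or.inr (Or.inl rfl)), key Y hy2 ?_ ?_⟩
    · rw [Matrix.mul_assoc, sX, Matrix.mul_neg, ← Matrix.mul_assoc, ← Matrix.neg_mul, ← hXY,
        Matrix.mul_assoc]
    · rw [Matrix.mul_assoc, sY]
  · refine ⟨π (X * Y), Or.inr (Or.inr (Or.inr rfl)), key (X * Y) hxy2 ?_ ?_⟩
    · rw [Matrix.SpecialLinearGroup.coe_mul]
      calc (X : M2) * (Y : M2) * (g : M2) * (X : M2) = (X : M2) * (Y : M2) * ((g : M2) * (X : M2)) := by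
            simp only [Matrix.mul_assoc]
        _ = (X : M2) * (-((Y : M2) * (X : M2))) * (g : M2) := by
            rw [sX]; simp only [Matrix.mul_assoc, Matrix.mul_neg, Matrix.neg_mul]
        _ = _ := by rw [← hXY]; simp only [Matrix.mul_assoc]
    · rw [Matrix.SpecialLinearGroup.coe_mul]
      calc (X : M2) * (Y : M2) * (g : M2) * (Y : M2) = (X : M2) * (Y : M2) * ((g : M2) * (Y : M2)) := by
            simp only [Matrix.mul_assoc]
        _ = (-((X : M2) * (Y : M2))) * (Y : M2) * (g : M2) := by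
            rw [sY]; simp only [Matrix.mul_assoc, Matrix.mul_neg, Matrix.neg_mul]
        _ = _ := by
            have e : -((X : M2) * (Y : M2)) = (Y : M2) * (X : M2) := by rw [hXY, neg_neg]
            rw [e]; simp only [Matrix.mul_assoc]

set_option maxRecDepth 100000 in
theorem no_S4 {G : Type*} [Group G] [Finite G]
    (hab : ∀ S : Sylow 2 G, IsMulCommutative ↥(S : Subgroup G))
    (j : Equiv.Perm (Fin 4) →* G) (hj : Function.Injective j) : False := by
  obtain ⟨z, hz⟩ : ∃ z : Equiv.Perm (Fin 4), z = Equiv.swap 0 2 * Equiv.swap 1 3 := ⟨_, rfl⟩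
  have h4 : ∀ x : Equiv.Perm (Fin 4),
      x * (Equiv.swap 0 2 * Equiv.swap 1 3) = (Equiv.swap 0 2 * Equiv.swap 1 3) * x → x ^ 4 = 1 := by
    decide
  have hD : IsPGroup 2 ↥(Subgroup.centralizer {z}) := by
    rintro ⟨x, hx⟩
    refine ⟨2, Subtype.ext ?_⟩
    rw [Subgroup.mem_centralizer_singleton_iff, hz] at hx
    exact h4 x hx
  obtain ⟨Q, hQ⟩ := (hD.map j).exists_le_sylow
  have hc := hab Q
  obtain ⟨a, ha⟩ : ∃ a : Equiv.Perm (Fin 4), a = Equiv.swap 0 2 := ⟨_, rfl⟩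
  obtain ⟨b, hb⟩ : ∃ a : Equiv.Perm (Fin 4), a = Equiv.swap 0 1 * Equiv.swap 2 3 := ⟨_, rfl⟩
  have haD : a ∈ Subgroup.centralizer {z} := by
    rw [Subgroup.mem_centralizer_singleton_iff, hz, ha]; decide
  have hbD : b ∈ Subgroup.centralizer {z} := by
    rw [Subgroup.mem_centralizer_singleton_iff, hz, hb]; decide
  have h1 : j a ∈ (Q : Subgroup G) := hQ ⟨a, haD, rfl⟩
  have h2 : j b ∈ (Q : Subgroup G) := hQ ⟨b, hbD, rfl⟩
  have h3 : (⟨j a, h1⟩ : ↥(Q : Subgroup G)) * ⟨j b, h2⟩ = ⟨j b, h2⟩ * ⟨j a, h1⟩ := hc.is_comm.comm _ _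
  have h5 : j (a * b) = j (b * a) := by
    rw [map_mul, map_mul]; exact congrArg Subtype.val h3
  have h6 := hj h5
  rw [ha, hb] at h6
  revert h6
  decide

theorem mod8 [Fintype F] {G : Type*} [Group G] [Finite G]
    (hab : ∀ S : Sylow 2 G, IsMulCommutative ↥(S : Subgroup G))
    (j : PSL2 →* G) (hj : Function.Injective j) (hodd : Odd (Fintype.card F)) :
    Fintype.card F % 8 = 3 ∨ Fintype.card F % 8 = 5 := by
  by_contra hcon
  rw [Nat.odd_iff] at hodd
  have h1 : Fintype.card F ^ 2 % 16 = 1 := by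
    rcases (by omega : Fintype.card F % 16 = 1 ∨ Fintype.card F % 16 = 7 ∨ Fintype.card F % 16 = 9 ∨
      Fintype.card F % 16 = 15) with h | h | h | h <;> simp [Nat.pow_mod, h]
  obtain ⟨H, ⟨e⟩⟩ := (Cfsg.Agent.S0803.result (F := F) rfl).2 h1
  exact no_S4 hab ((j.comp H.subtype).comp e.symm.toMonoidHom)
    ((hj.comp Subtype.val_injective).comp e.symm.injective)

theorem klein_elems {H : Type*} [Group H] [IsKleinFour H] :
    ∃ x y : H, x ≠ 1 ∧ y ≠ 1 ∧ x ≠ y ∧ (∀ z : H, z = 1 ∨ z = x ∨ z = y ∨ z = x * y) := by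
  classical
  have : Finite H := Nat.finite_of_card_ne_zero (by rw [IsKleinFour.card_four]; norm_num)
  let _ : Fintype H := Fintype.ofFinite H
  have hc : Fintype.card H = 4 := IsKleinFour.card_four'
  obtain ⟨x, hx⟩ : ∃ x : H, x ≠ 1 := by
    by_contra h
    push Not at h
    have : (Finset.univ : Finset H) ⊆ {1} := fun z _ => by simp [h z]
    have := Finset.card_le_card this
    rw [Finset.card_univ, hc] at this
    simp at this
  obtain ⟨y, hy1, hyx⟩ : ∃ y : H, y ≠ 1 ∧ y ≠ x := by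
    by_contra h
    push Not at h
    have : (Finset.univ : Finset H) ⊆ {1, x} := fun z _ => by
      by_cases hz : z = 1
      · simp [hz]
      · simp [h z hz]
    have := (Finset.card_le_card this).trans Finset.card_le_two
    rw [Finset.card_univ, hc] at this
    omega
  refine ⟨x, y, hx, hy1, hyx.symm, fun z => ?_⟩
  have := IsKleinFour.eq_finset_univ hx hy1 hyx.symm
  have hz : z ∈ ({x * y, x, y, 1} : Finset H) := this ▸ Finset.mem_univ z
  simp only [Finset.mem_insert, Finset.mem_singleton] at hz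
  tauto

theorem lemK' [Fintype F] (hq : Fintype.card F % 8 = 3 ∨ Fintype.card F % 8 = 5)
    {M₀ : Type*} [Group M₀] (ψ : M₀ ≃* PSL2) (P₁ : Sylow 2 PSL2)
    (β : MulAut M₀) (k : ℕ) (hβ : β ^ (2 ^ k) = 1) (hfix : ∀ m, ψ m ∈ P₁ → β m = m) :
    ∃ v, ψ v ∈ P₁ ∧ ∀ m, β m = v * m * v⁻¹ := by
  have hK := Cfsg.Agent.S0276.result (F := F) rfl hq P₁
  obtain ⟨x, y, hx, hy, hxy, hall⟩ := klein_elems (H := ↥(P₁ : Subgroup PSL2))
  have hfix' : ∀ z ∈ P₁, (MulAut.congr ψ β) z = z := by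
    intro z hz
    show ψ (β (ψ.symm z)) = z
    rw [hfix _ (by rw [ψ.apply_symm_apply]; exact hz), ψ.apply_symm_apply]
  obtain ⟨v, hv, hvz⟩ := lemK hq (MulAut.congr ψ β) k (by rw [← map_pow, hβ, map_one]) x y
    (fun h => hx (Subtype.ext h)) (fun h => hy (Subtype.ext h)) (fun h => hxy (Subtype.ext h))
    (congrArg Subtype.val (IsKleinFour.mul_self x)) (congrArg Subtype.val (IsKleinFour.mul_self y))
    (congrArg Subtype.val (IsKleinFour.isMulCommutative.is_comm.comm x y))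
    (hfix' x x.2) (hfix' y y.2)
  have hvP : v ∈ P₁ := by
    rcases hv with rfl | rfl | rfl | rfl
    · exact P₁.one_mem
    · exact x.2
    · exact y.2
    · exact P₁.mul_mem x.2 y.2
  refine ⟨ψ.symm v, by rw [ψ.apply_symm_apply]; exact hvP, fun m => ?_⟩
  apply ψ.injective
  have := hvz (ψ m)
  have e : (MulAut.congr ψ β) (ψ m) = ψ (β m) := by
    show ψ (β (ψ.symm (ψ m))) = _
    rw [ψ.symm_apply_apply]
  rw [e] at this
  rw [this, map_mul, map_mul, map_inv, ψ.apply_symm_apply]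

end Cfsg.Agent.Lib.Helper8JR2
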