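import Mathlib

set_option autoImplicit false
set_option linter.unusedVariables false
set_option linter.unusedSectionVars false
set_option linter.unusedSimpArgs false

/-! Semisimple elements of prime order acting on a vector space over a finite field. -/

namespace Cfsg.Agent.Lib.Helper8Lin

variable {F : Type*} [Field F] [Fintype F]
variable {V : Type*} [AddCommGroup V] [Module F V] [Module.Finite F V]

/-- fixed vectors -/
def fix (x : Module.End F V) : Submodule F V := LinearMap.ker (x - 1)

theorem mem_fix {x : Module.End F V} {v : V} : v ∈ fix x ↔ x v = v := by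
  rw [fix, LinearMap.mem_ker, LinearMap.sub_apply, Module.End.one_apply, sub_eq_zero]

theorem card_sub (W : Submodule F V) : Nat.card W = Fintype.card F ^ Module.finrank F W := by
  rw [Module.natCard_eq_pow_finrank (K := F), Nat.card_eq_fintype_card]

/-- counting fixed vectors modulo `p` -/
theorem count {p : ℕ} [Fact p.Prime] (x : Module.End F V) (hxp : x ^ p = 1)
    (W : Submodule F V) (hW : ∀ w ∈ W, x w ∈ W) :
    Nat.card W ≡ Nat.card ↥(W ⊓ fix x) [MOD p] := by
  classical
  have : Finite V := Module.finite_of_finite F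
  have := Fintype.ofFinite W
  let f : Function.End W := fun w => ⟨x w, hW w w.2⟩
  have hpow : ∀ (k : ℕ) (w : W), (((f ^ k) w : W) : V) = (x ^ k) w := by
    intro k
    induction k with
    | zero => intro w; rfl
    | succ k ih =>
      intro w
      rw [pow_succ', pow_succ']
      show x (((f ^ k) w : W) : V) = _
      rw [ih]; rfl
  have hf : f ^ p ^ 1 = 1 := by
    rw [pow_one]
    funext w
    apply Subtype.ext
    rw [hpow, hxp]
    rfl
  have h := Equiv.Perm.card_fixedPoints_modEq hf
  rw [Nat.card_eq_fintype_card]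
  refine h.trans ?_
  have e : Function.fixedPoints f ≃ ↥(W ⊓ fix x) :=
    { toFun := fun w => ⟨w.1.1, w.1.2, mem_fix.2 (congrArg Subtype.val w.2)⟩
      invFun := fun v => ⟨⟨v.1, v.2.1⟩, Subtype.ext (mem_fix.1 v.2.2)⟩
      left_inv := fun w => rfl
      right_inv := fun v => rfl }
  rw [← Nat.card_eq_fintype_card, Nat.card_congr e]

theorem dvd_sub {p e : ℕ} [Fact p.Prime] (he : 0 < e) (ho : orderOf ((Fintype.card F : ℕ) : ZMod p) = e)
    (x : Module.End F V) (hxp : x ^ p = 1) (W : Submodule F V) (hW : ∀ w ∈ W, x w ∈ W) :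
    e ∣ Module.finrank F W - Module.finrank F ↥(W ⊓ fix x) := by
  have h := count x hxp W hW
  rw [card_sub, card_sub] at h
  have hle : Module.finrank F ↥(W ⊓ fix x) ≤ Module.finrank F W := Submodule.finrank_mono inf_le_left
  obtain ⟨d, hd⟩ := Nat.exists_eq_add_of_le hle
  rw [hd, Nat.add_sub_cancel_left]
  have h' : ((Fintype.card F : ℕ) : ZMod p) ^ (Module.finrank F ↥(W ⊓ fix x) + d) =
      ((Fintype.card F : ℕ) : ZMod p) ^ Module.finrank F ↥(W ⊓ fix x) := by
    have := (ZMod.natCast_eq_natCast_iff _ _ _).2 h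
    push_cast at this
    rw [hd] at this
    exact this
  have hu0 : ((Fintype.card F : ℕ) : ZMod p) ≠ 0 := by
    intro h0
    have h1 := pow_orderOf_eq_one ((Fintype.card F : ℕ) : ZMod p)
    rw [ho, h0, zero_pow he.ne'] at h1
    exact zero_ne_one h1
  rw [pow_add] at h'
  have h1 : ((Fintype.card F : ℕ) : ZMod p) ^ d = 1 := by
    have h2 : ((Fintype.card F : ℕ) : ZMod p) ^ Module.finrank F ↥(W ⊓ fix x) * (((Fintype.card F : ℕ) : ZMod p) ^ d - 1) = 0 := by
      linear_combination h'
    rcases mul_eq_zero.1 h2 with h3 | h3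
    · exact absurd h3 (pow_ne_zero _ hu0)
    · linear_combination h3
  rw [← ho]
  exact orderOf_dvd_of_pow_eq_one h1

section irr

variable {p e : ℕ} [Fact p.Prime] (he : 0 < e) (ho : orderOf ((Fintype.card F : ℕ) : ZMod p) = e)
  (x : Module.End F V) (hxp : x ^ p = 1) (hfix : fix x = ⊥) (hdim : Module.finrank F V = e)
include he ho hxp hfix hdim

theorem invariant (W : Submodule F V) (hW : ∀ w ∈ W, x w ∈ W) : W = ⊥ ∨ W = ⊤ := by
  have h := dvd_sub he ho x hxp W hW
  rw [hfix, inf_bot_eq, finrank_bot, Nat.sub_zero] at h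
  have hle : Module.finrank F W ≤ e := hdim ▸ Submodule.finrank_le W
  obtain ⟨k, hk⟩ := h
  have : k = 0 ∨ k = 1 := by
    rcases k with _ | _ | k
    · left; rfl
    · right; rfl
    · exfalso
      rw [hk] at hle
      nlinarith
  rcases this with rfl | rfl
  · left
    rw [mul_zero] at hk
    exact Submodule.finrank_eq_zero.1 hk
  · right
    apply Submodule.eq_top_of_finrank_eq
    rw [hk, mul_one, hdim]

theorem comm_inj {a : Module.End F V} (ha : a * x = x * a) (ha0 : a ≠ 0) {v : V} (hv : a v = 0) : v = 0 := by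
  rcases invariant he ho x hxp hfix hdim (LinearMap.ker a) (by
    intro w hw
    rw [LinearMap.mem_ker] at hw ⊢
    have : a (x w) = (a * x) w := rfl
    rw [this, ha]
    show x (a w) = 0
    rw [hw, map_zero]) with h | h
  · have : v ∈ LinearMap.ker a := hv
    rw [h] at this
    exact this
  · exfalso
    apply ha0
    exact LinearMap.ker_eq_top.1 h

theorem isDomain_centralizer : IsDomain (Subalgebra.centralizer F ({x} : Set (Module.End F V))) := by
  have hmem : ∀ a : Subalgebra.centralizer F ({x} : Set (Module.End F V)), (a : Module.End F V) * x = x * a := by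
    intro a
    exact ((Subalgebra.mem_centralizer_iff F).1 a.2 x rfl).symm
  have hnt : Nontrivial V := by
    apply Module.nontrivial_of_finrank_pos (R := F)
    rw [hdim]; exact he
  have : Nontrivial (Subalgebra.centralizer F ({x} : Set (Module.End F V))) := by
    refine ⟨⟨0, 1, ?_⟩⟩
    intro h
    have h1 : (0 : Module.End F V) = 1 := congrArg Subtype.val h
    obtain ⟨v, hv⟩ := exists_ne (0 : V)
    apply hv
    have := congrArg (fun f : Module.End F V => f v) h1
    simpa using this.symm
  have : NoZeroDivisors (Subalgebra.centralizer F ({x} : Set (Module.End F V))) := by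
    refine ⟨fun {a b} hab => ?_⟩
    by_cases ha : a = 0
    · exact Or.inl ha
    · right
      have ha' : (a : Module.End F V) ≠ 0 := fun h => ha (Subtype.ext h)
      apply Subtype.ext
      apply LinearMap.ext
      intro v
      have h1 : (a : Module.End F V) * (b : Module.End F V) = 0 := congrArg Subtype.val hab
      have h2 : (a : Module.End F V) ((b : Module.End F V) v) = 0 := by
        have : ((a : Module.End F V) * (b : Module.End F V)) v = 0 := by rw [h1]; rfl
        exact this
      exact comm_inj he ho x hxp hfix hdim (hmem a) ha' h2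
  exact NoZeroDivisors.to_isDomain _

theorem isCyclic_of_comm {Γ : Type*} [Group Γ] [Finite Γ] (φ : Γ →* Module.End F V)
    (hφ : Function.Injective φ) (hcomm : ∀ k, φ k * x = x * φ k) : IsCyclic Γ := by
  have hdom := isDomain_centralizer he ho x hxp hfix hdim
  have : Finite V := Module.finite_of_finite F
  have : Finite (Module.End F V) := Finite.of_injective (fun f : Module.End F V => (f : V → V)) DFunLike.coe_injective
  have hfield := Finite.isDomain_to_isField (Subalgebra.centralizer F ({x} : Set (Module.End F V)))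
  let _ : CommRing (Subalgebra.centralizer F ({x} : Set (Module.End F V))) :=
    { (inferInstance : Ring (Subalgebra.centralizer F ({x} : Set (Module.End F V)))) with
      mul_comm := hfield.mul_comm }
  let ψ : Γ →* (Subalgebra.centralizer F ({x} : Set (Module.End F V))) :=
    { toFun := fun k => ⟨φ k, by
        rw [Subalgebra.mem_centralizer_iff]
        intro b hb
        rw [Set.mem_singleton_iff.1 hb]
        exact (hcomm k).symm⟩
      map_one' := Subtype.ext (map_one φ)
      map_mul' := fun a b => Subtype.ext (map_mul φ a b) }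
  have hψ : Function.Injective ψ := by
    intro a b h
    exact hφ (congrArg Subtype.val h)
  exact isCyclic_of_injective_ringHom ψ hψ

end irr

section plusone

variable {p e : ℕ} [Fact p.Prime] (he : 2 ≤ e) (ho : orderOf ((Fintype.card F : ℕ) : ZMod p) = e)
  (hpF : (p : F) ≠ 0)
  (x : Module.End F V) (hxp : x ^ p = 1) (hx1 : x ≠ 1) (hdim : Module.finrank F V = e + 1)

/-- the norm element -/
def Nm (p : ℕ) (x : Module.End F V) : Module.End F V := ∑ i ∈ Finset.range p, x ^ i

/-- the complement of the fixed space -/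
def Wk (p : ℕ) (x : Module.End F V) : Submodule F V := LinearMap.ker (Nm p x)

theorem comm_Nm {c : Module.End F V} (hc : c * x = x * c) : c * Nm p x = Nm p x * c := by
  unfold Nm
  rw [Finset.mul_sum, Finset.sum_mul]
  apply Finset.sum_congr rfl
  intro i _
  exact ((show Commute c x from hc).pow_right i).eq

theorem map_Wk {c : Module.End F V} (hc : c * x = x * c) {w : V} (hw : w ∈ Wk p x) : c w ∈ Wk p x := by
  unfold Wk at hw ⊢
  rw [LinearMap.mem_ker] at hw ⊢
  have : Nm p x (c w) = (Nm p x * c) w := rfl
  rw [this, ← comm_Nm x hc]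
  show c (Nm p x w) = 0
  rw [hw, map_zero]

theorem map_fix {c : Module.End F V} (hc : c * x = x * c) {w : V} (hw : w ∈ fix x) : c w ∈ fix x := by
  rw [mem_fix] at hw ⊢
  have : x (c w) = (x * c) w := rfl
  rw [this, ← hc]
  show c (x w) = c w
  rw [hw]

theorem Nm_fix {v : V} (hv : v ∈ fix x) : Nm p x v = (p : F) • v := by
  rw [mem_fix] at hv
  have hpow : ∀ i : ℕ, (x ^ i) v = v := by
    intro i
    induction i with
    | zero => rfl
    | succ i ih =>
      rw [pow_succ]
      show (x ^ i) (x v) = v
      rw [hv, ih]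
  unfold Nm
  rw [LinearMap.sum_apply, Finset.sum_congr rfl (fun i _ => hpow i), Finset.sum_const, Finset.card_range,
    Nat.cast_smul_eq_nsmul]

include hpF in
theorem Wk_inf_fix : Wk p x ⊓ fix x = ⊥ := by
  rw [eq_bot_iff]
  rintro v ⟨h1, h2⟩
  have h3 : Nm p x v = 0 := h1
  rw [Nm_fix x h2] at h3
  exact (smul_eq_zero.1 h3).resolve_left hpF

include hxp in
theorem sub_mem_Wk (v : V) : x v - v ∈ Wk p x := by
  unfold Wk
  rw [LinearMap.mem_ker]
  have h1 : Nm p x * (x - 1) = x ^ p - 1 := geom_sum_mul x p
  have h2 : Nm p x (x v - v) = (Nm p x * (x - 1)) v := rfl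
  rw [h2, h1, hxp, sub_self]
  rfl

include he ho hxp hx1 hdim in
theorem finrank_fix : Module.finrank F (fix x) = 1 := by
  have h := dvd_sub (by omega) ho x hxp ⊤ (fun _ _ => trivial)
  rw [top_inf_eq, finrank_top, hdim] at h
  have hle : Module.finrank F (fix x) ≤ e + 1 := hdim ▸ Submodule.finrank_le _
  obtain ⟨k, hk⟩ := h
  have hk01 : k = 0 ∨ k = 1 := by
    rcases k with _ | _ | k
    · left; rfl
    · right; rfl
    · exfalso
      have : e * (k + 1 + 1) ≤ e + 1 := by rw [← hk]; omega
      nlinarith
  rcases hk01 with rfl | rfl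
  · exfalso
    apply hx1
    have htop : fix x = ⊤ := by
      apply Submodule.eq_top_of_finrank_eq
      rw [hdim]; omega
    apply LinearMap.ext
    intro v
    have : v ∈ fix x := by rw [htop]; trivial
    exact mem_fix.1 this
  · omega

include he ho hpF hxp hx1 hdim in
theorem finrank_Wk : Module.finrank F (Wk p x) = e := by
  have h := dvd_sub (by omega) ho x hxp (Wk p x) (fun w hw => map_Wk x rfl hw)
  rw [Wk_inf_fix hpF x, finrank_bot, Nat.sub_zero] at h
  have hle : Module.finrank F (Wk p x) ≤ e + 1 := hdim ▸ Submodule.finrank_le _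
  obtain ⟨k, hk⟩ := h
  have hk01 : k = 0 ∨ k = 1 := by
    rcases k with _ | _ | k
    · left; rfl
    · right; rfl
    · exfalso
      rw [hk] at hle
      nlinarith
  rcases hk01 with rfl | rfl
  · exfalso
    apply hx1
    rw [mul_zero] at hk
    have hbot := Submodule.finrank_eq_zero.1 hk
    apply LinearMap.ext
    intro v
    have := sub_mem_Wk x hxp v
    rw [hbot, Submodule.mem_bot, sub_eq_zero] at this
    exact this
  · rw [hk, mul_one]

include he ho hpF hxp hx1 hdim in
theorem sup_eq_top : Wk p x ⊔ fix x = ⊤ := by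
  apply Submodule.eq_top_of_finrank_eq
  have := Submodule.finrank_sup_add_finrank_inf_eq (Wk p x) (fix x)
  rw [Wk_inf_fix hpF x, finrank_bot, finrank_Wk he ho hpF x hxp hx1 hdim, finrank_fix he ho x hxp hx1 hdim] at this
  rw [hdim]; omega

/-- the restriction to the complement -/
def res (c : Module.End F V) (hc : c * x = x * c) : Module.End F (Wk p x) :=
  LinearMap.restrict c (fun _ hw => map_Wk x hc hw)

theorem res_apply (c : Module.End F V) (hc : c * x = x * c) (w : Wk p x) : ((res (p := p) x c hc w : Wk p x) : V) = c w := rfl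

include hxp in
theorem res_pow : (res (p := p) x x rfl) ^ p = 1 := by
  have hpow : ∀ (k : ℕ) (w : Wk p x), ((((res (p := p) x x rfl) ^ k) w : Wk p x) : V) = (x ^ k) w := by
    intro k
    induction k with
    | zero => intro w; rfl
    | succ k ih =>
      intro w
      rw [pow_succ', pow_succ']
      show x ((((res (p := p) x x rfl) ^ k) w : Wk p x) : V) = _
      rw [ih]; rfl
  apply LinearMap.ext
  intro w
  apply Subtype.ext
  rw [hpow, hxp]
  rfl

include hpF in
theorem fix_res : fix (res (p := p) x x rfl) = ⊥ := by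
  rw [eq_bot_iff]
  intro w hw
  rw [mem_fix] at hw
  have h1 : (w : V) ∈ Wk p x ⊓ fix x := ⟨w.2, mem_fix.2 (congrArg Subtype.val hw)⟩
  rw [Wk_inf_fix hpF x] at h1
  exact Subtype.ext h1

include he ho hpF hxp hx1 hdim in
/-- a finite group commuting with `x` and fixing the fixed vectors of `x` is cyclic -/
theorem isCyclic_of_comm' {Γ : Type*} [Group Γ] [Finite Γ] (φ : Γ →* Module.End F V)
    (hφ : Function.Injective φ) (hcomm : ∀ k, φ k * x = x * φ k) (hfx : ∀ k, ∀ v ∈ fix x, φ k v = v) : IsCyclic Γ := by
  let ψ : Γ →* Module.End F (Wk p x) :=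
    { toFun := fun k => res x (φ k) (hcomm k)
      map_one' := by
        apply LinearMap.ext
        intro w
        apply Subtype.ext
        rw [res_apply, map_one]; rfl
      map_mul' := fun a b => by
        apply LinearMap.ext
        intro w
        apply Subtype.ext
        rw [res_apply, map_mul]; rfl }
  apply isCyclic_of_comm (by omega) ho (res (p := p) x x rfl) (res_pow x hxp) (fix_res hpF x)
    (finrank_Wk he ho hpF x hxp hx1 hdim) ψ
  · intro a b hab
    apply hφ
    apply LinearMap.ext
    intro v
    have hv : v ∈ Wk p x ⊔ fix x := by rw [sup_eq_top he ho hpF x hxp hx1 hdim]; trivial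
    obtain ⟨w, hw, u, hu, rfl⟩ := Submodule.mem_sup.1 hv
    rw [map_add, map_add, hfx a u hu, hfx b u hu]
    congr 1
    have := congrArg (fun f : Module.End F (Wk p x) => ((f ⟨w, hw⟩ : Wk p x) : V)) hab
    exact this
  · intro k
    apply LinearMap.ext
    intro w
    apply Subtype.ext
    show φ k (x w) = x (φ k w)
    have : (φ k * x) (w : V) = (x * φ k) (w : V) := by rw [hcomm k]
    exact this

include he ho hxp hx1 hdim in
/-- elements of order prime to `q - 1` commuting with `x` fix the fixed vectors of `x` -/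
theorem fix_of_coprime {c : Module.End F V} (hc : c * x = x * c) {n : ℕ} (hn0 : 0 < n) (hn : c ^ n = 1)
    (hcop : n.Coprime (Fintype.card F - 1)) : ∀ v ∈ fix x, c v = v := by
  have h1 := finrank_fix he ho x hxp hx1 hdim
  obtain ⟨v₀, hv₀, hspan⟩ := finrank_eq_one_iff'.1 h1
  obtain ⟨l, hl⟩ := hspan ⟨c v₀, map_fix x hc v₀.2⟩
  have hl' : c (v₀ : V) = l • (v₀ : V) := (congrArg Subtype.val hl).symm
  have hpow : ∀ k : ℕ, (c ^ k) (v₀ : V) = l ^ k • (v₀ : V) := by
    intro k
    induction k with
    | zero => simp
    | succ k ih =>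
      rw [pow_succ']
      show c ((c ^ k) (v₀ : V)) = _
      rw [ih, map_smul, hl', smul_smul, pow_succ]
  have hv₀' : (v₀ : V) ≠ 0 := fun h => hv₀ (Subtype.ext h)
  have hln : l ^ n = 1 := by
    have := hpow n
    rw [hn] at this
    have h2 : (l ^ n - 1) • (v₀ : V) = 0 := by
      rw [sub_smul, ← this, one_smul]; simp
    have := (smul_eq_zero.1 h2).resolve_right hv₀'
    linear_combination this
  have hl0 : l ≠ 0 := by
    rintro rfl
    rw [zero_pow hn0.ne'] at hln
    exact zero_ne_one hln
  have hlq : l ^ (Fintype.card F - 1) = 1 := FiniteField.pow_card_sub_one_eq_one l hl0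
  have hl1 : l = 1 := by
    have h3 : orderOf l ∣ n := orderOf_dvd_of_pow_eq_one hln
    have h4 : orderOf l ∣ Fintype.card F - 1 := orderOf_dvd_of_pow_eq_one hlq
    have h5 : orderOf l ∣ 1 := by
      rw [← Nat.Coprime.gcd_eq_one hcop]; exact Nat.dvd_gcd h3 h4
    exact orderOf_eq_one_iff.1 (Nat.dvd_one.1 h5)
  intro v hv
  obtain ⟨a, ha⟩ := hspan ⟨v, hv⟩
  have ha' : v = a • (v₀ : V) := (congrArg Subtype.val ha).symm
  rw [ha', map_smul, hl', hl1, one_smul]

end plusone

end Cfsg.Agent.Lib.Helper8Lin
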