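import Cfsg.Agent.Lib.Helper8Lin

set_option autoImplicit false
set_option linter.unusedVariables false
set_option linter.unusedSectionVars false
set_option linter.unusedSimpArgs false

/-! Normalisers of semisimple elements: Galois action on eigenvalues. -/

namespace Cfsg.Agent.Lib.Helper8Lin2

open Polynomial Cfsg.Agent.Lib.Helper8Lin

variable {F : Type*} [Field F] [Fintype F]

theorem poly_lemma (f : F[X]) (hf : Irreducible f) (k : ℕ) (h : f ∣ f.comp (X ^ k)) :
    ∃ j : ℕ, f ∣ X ^ k - X ^ (Fintype.card F ^ j) := by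
  have : Fact (Irreducible f) := ⟨hf⟩
  have hfin : Module.Finite F (AdjoinRoot f) := (AdjoinRoot.powerBasis hf.ne_zero).finite
  have : Finite (AdjoinRoot f) := Module.finite_of_finite F
  have h0 : f.eval₂ (Algebra.ofId F (AdjoinRoot f)) ((AdjoinRoot.root f) ^ k) = 0 := by
    obtain ⟨g, hg⟩ := h
    have h1 : aeval (AdjoinRoot.root f) (f.comp (X ^ k)) = 0 := by
      rw [hg, map_mul, AdjoinRoot.aeval_eq, AdjoinRoot.mk_self, zero_mul]
    rw [aeval_comp, map_pow, aeval_X] at h1
    exact h1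
  let σ : AdjoinRoot f →ₐ[F] AdjoinRoot f := AdjoinRoot.liftAlgHom f (Algebra.ofId F (AdjoinRoot f)) _ h0
  obtain ⟨j, hj⟩ := (FiniteField.bijective_frobeniusAlgHom_pow F (AdjoinRoot f)).2 σ
  refine ⟨j, ?_⟩
  have h1 := congrArg (fun τ : AdjoinRoot f →ₐ[F] AdjoinRoot f => τ (AdjoinRoot.root f)) hj
  simp only [AlgHom.coe_pow, FiniteField.coe_frobeniusAlgHom, pow_iterate] at h1
  have h2 : σ (AdjoinRoot.root f) = (AdjoinRoot.root f) ^ k := AdjoinRoot.liftAlgHom_root _ _ _ _
  rw [h2] at h1
  rw [← AdjoinRoot.mk_eq_zero, map_sub, map_pow, map_pow, AdjoinRoot.mk_X, h1, sub_self]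

variable {V : Type*} [AddCommGroup V] [Module F V] [Module.Finite F V]

theorem semiconj_aeval {a x y : Module.End F V} (h : a * x = y * a) (P : F[X]) : a * aeval x P = aeval y P * a := by
  rw [aeval_eq_sum_range, aeval_eq_sum_range, Finset.mul_sum, Finset.sum_mul]
  apply Finset.sum_congr rfl
  intro i _
  rw [mul_smul_comm, smul_mul_assoc]
  congr 1
  exact ((show SemiconjBy a x y from h).pow_right i).eq

section irr

variable {p e : ℕ} [Fact p.Prime] (he : 0 < e) (ho : orderOf ((Fintype.card F : ℕ) : ZMod p) = e)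
  (x : Module.End F V) (hxp : x ^ p = 1) (hfix : fix x = ⊥) (hdim : Module.finrank F V = e)
include he ho hxp hfix hdim

theorem galois_irr {a a' : Module.End F V} (haa : a * a' = 1) {k : ℕ} (h : a * x = x ^ k * a) :
    ∃ j : ℕ, x ^ k = x ^ (Fintype.card F ^ j) := by
  have hdom := isDomain_centralizer he ho x hxp hfix hdim
  let D := Subalgebra.centralizer F ({x} : Set (Module.End F V))
  let xD : D := ⟨x, by
    rw [Subalgebra.mem_centralizer_iff]
    intro b hb
    rw [Set.mem_singleton_iff.1 hb]⟩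
  have hint : IsIntegral F xD := IsIntegral.of_finite F xD
  have hirr : Irreducible (minpoly F xD) := minpoly.irreducible hint
  have hval : ∀ P : F[X], aeval x P = D.val (aeval xD P) := by
    intro P
    rw [← aeval_algHom_apply]
    rfl
  have h0 : aeval x (minpoly F xD) = 0 := by rw [hval, minpoly.aeval, map_zero]
  have h1 : aeval (x ^ k) (minpoly F xD) = 0 := by
    have h2 := semiconj_aeval h (minpoly F xD)
    rw [h0, mul_zero] at h2
    calc aeval (x ^ k) (minpoly F xD) = aeval (x ^ k) (minpoly F xD) * (a * a') := by rw [haa, mul_one]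
      _ = (aeval (x ^ k) (minpoly F xD) * a) * a' := by rw [mul_assoc]
      _ = 0 := by rw [← h2, zero_mul]
  have h2 : minpoly F xD ∣ (minpoly F xD).comp (X ^ k) := by
    apply minpoly.dvd
    apply Subtype.val_injective
    show D.val _ = D.val 0
    rw [← hval, aeval_comp, map_pow, aeval_X, h1, map_zero]
  obtain ⟨j, g, hg⟩ := poly_lemma _ hirr k h2
  refine ⟨j, ?_⟩
  have h3 := congrArg (aeval x) hg
  rw [map_mul, h0, zero_mul, map_sub, map_pow, map_pow, aeval_X] at h3
  exact sub_eq_zero.1 h3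

end irr

section plusone

variable {p e : ℕ} [Fact p.Prime] (he : 2 ≤ e) (ho : orderOf ((Fintype.card F : ℕ) : ZMod p) = e)
  (hpF : (p : F) ≠ 0)
  (x : Module.End F V) (hxp : x ^ p = 1) (hx1 : x ≠ 1) (hdim : Module.finrank F V = e + 1)

theorem pow_mem_Wk (n : ℕ) {w : V} (hw : w ∈ Wk p x) : (x ^ n) w ∈ Wk p x :=
  map_Wk x ((Commute.refl x).pow_left n).eq hw

theorem pow_fix (n : ℕ) {v : V} (hv : v ∈ fix x) : (x ^ n) v = v := by
  rw [mem_fix] at hv
  induction n with
  | zero => rfl
  | succ i ih =>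
    rw [pow_succ]
    show (x ^ i) (x v) = v
    rw [hv, ih]

theorem res_pow_apply (n : ℕ) (w : Wk p x) : ((((res (p := p) x x rfl) ^ n) w : Wk p x) : V) = (x ^ n) w := by
  induction n generalizing w with
  | zero => rfl
  | succ k ih =>
    rw [pow_succ', pow_succ']
    show x ((((res (p := p) x x rfl) ^ k) w : Wk p x) : V) = _
    rw [ih]; rfl

include hpF hxp in
theorem map_Wk_of_norm (M : (Module.End F V)ˣ) {k k' : ℕ} (h1 : (M : Module.End F V) * x * ((M⁻¹ : (Module.End F V)ˣ) : Module.End F V) = x ^ k)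
    (h2 : ((M⁻¹ : (Module.End F V)ˣ) : Module.End F V) * x * (M : Module.End F V) = x ^ k') {w : V} (hw : w ∈ Wk p x) :
    (M : Module.End F V) w ∈ Wk p x := by
  set u := Nm p x ((M : Module.End F V) w) with hu
  have ha : x u = u := by
    have e1 : (x - 1) * Nm p x = x ^ p - 1 := mul_geom_sum x p
    rw [hxp, sub_self] at e1
    have e2 : ((x - 1) * Nm p x) ((M : Module.End F V) w) = 0 := by rw [e1]; rfl
    have e3 : ((x - 1) * Nm p x) ((M : Module.End F V) w) = x u - u := rfl
    rw [e3] at e2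
    exact sub_eq_zero.1 e2
  have hb : ((M⁻¹ : (Module.End F V)ˣ) : Module.End F V) u ∈ Wk p x := by
    have e1 : ((M⁻¹ : (Module.End F V)ˣ) : Module.End F V) * Nm p x * (M : Module.End F V) = ∑ i ∈ Finset.range p, (x ^ k') ^ i := by
      unfold Nm
      rw [Finset.mul_sum, Finset.sum_mul]
      apply Finset.sum_congr rfl
      intro i _
      rw [← h2, Units.conj_pow']
    have e2 : ((M⁻¹ : (Module.End F V)ˣ) : Module.End F V) u =
        (((M⁻¹ : (Module.End F V)ˣ) : Module.End F V) * Nm p x * (M : Module.End F V)) w := rfl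
    rw [e2, e1, LinearMap.sum_apply]
    apply Submodule.sum_mem
    intro i _
    rw [← pow_mul]
    exact pow_mem_Wk x _ hw
  have hc : ((M⁻¹ : (Module.End F V)ˣ) : Module.End F V) u ∈ fix x := by
    rw [mem_fix]
    have e1 : x * ((M⁻¹ : (Module.End F V)ˣ) : Module.End F V) = ((M⁻¹ : (Module.End F V)ˣ) : Module.End F V) * x ^ k := by
      rw [← h1, ← mul_assoc, ← mul_assoc, Units.inv_mul, one_mul]
    have e2 : x (((M⁻¹ : (Module.End F V)ˣ) : Module.End F V) u) = (x * ((M⁻¹ : (Module.End F V)ˣ) : Module.End F V)) u := rfl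
    rw [e2, e1]
    show ((M⁻¹ : (Module.End F V)ˣ) : Module.End F V) ((x ^ k) u) = _
    rw [pow_fix x k (mem_fix.2 ha)]
  have hd : ((M⁻¹ : (Module.End F V)ˣ) : Module.End F V) u = 0 := by
    have : ((M⁻¹ : (Module.End F V)ˣ) : Module.End F V) u ∈ Wk p x ⊓ fix x := ⟨hb, hc⟩
    rw [Wk_inf_fix hpF x] at this
    exact this
  have he' : u = 0 := by
    have e1 : u = ((M : Module.End F V) * ((M⁻¹ : (Module.End F V)ˣ) : Module.End F V)) u := by
      rw [Units.mul_inv]; rfl
    rw [e1]
    show (M : Module.End F V) (((M⁻¹ : (Module.End F V)ˣ) : Module.End F V) u) = 0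
    rw [hd, map_zero]
  exact he'

include he ho hpF hxp hx1 hdim in
theorem galois (M : (Module.End F V)ˣ) {k k' : ℕ} (h1 : (M : Module.End F V) * x * ((M⁻¹ : (Module.End F V)ˣ) : Module.End F V) = x ^ k)
    (h2 : ((M⁻¹ : (Module.End F V)ˣ) : Module.End F V) * x * (M : Module.End F V) = x ^ k') :
    ∃ j : ℕ, x ^ k = x ^ (Fintype.card F ^ j) := by
  let a : Module.End F (Wk p x) := LinearMap.restrict (M : Module.End F V) (fun _ hw => map_Wk_of_norm hpF x hxp M h1 h2 hw)
  let a' : Module.End F (Wk p x) := LinearMap.restrict ((M⁻¹ : (Module.End F V)ˣ) : Module.End F V)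
    (fun _ hw => map_Wk_of_norm hpF x hxp M⁻¹ (by rw [inv_inv]; exact h2) (by rw [inv_inv]; exact h1) hw)
  have haa : a * a' = 1 := by
    apply LinearMap.ext
    intro w
    apply Subtype.ext
    show (M : Module.End F V) (((M⁻¹ : (Module.End F V)ˣ) : Module.End F V) w) = w
    have : ((M : Module.End F V) * ((M⁻¹ : (Module.End F V)ˣ) : Module.End F V)) (w : V) = w := by
      rw [Units.mul_inv]; rfl
    exact this
  have hax : a * res (p := p) x x rfl = (res (p := p) x x rfl) ^ k * a := by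
    apply LinearMap.ext
    intro w
    apply Subtype.ext
    show (M : Module.End F V) (x w) = ((((res (p := p) x x rfl) ^ k) (a w) : Wk p x) : V)
    rw [res_pow_apply]
    show (M : Module.End F V) (x w) = (x ^ k) ((M : Module.End F V) w)
    have e1 : (M : Module.End F V) * x = x ^ k * (M : Module.End F V) := by
      rw [← h1, mul_assoc, mul_assoc, Units.inv_mul, mul_one]
    have : ((M : Module.End F V) * x) (w : V) = (x ^ k * (M : Module.End F V)) (w : V) := by rw [e1]
    exact this
  obtain ⟨j, hj⟩ := galois_irr (by omega) ho (res (p := p) x x rfl) (res_pow x hxp) (fix_res hpF x)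
    (finrank_Wk he ho hpF x hxp hx1 hdim) haa hax
  refine ⟨j, ?_⟩
  apply LinearMap.ext
  intro v
  have hv : v ∈ Wk p x ⊔ fix x := by rw [sup_eq_top he ho hpF x hxp hx1 hdim]; trivial
  obtain ⟨w, hw, u, hu, rfl⟩ := Submodule.mem_sup.1 hv
  rw [map_add, map_add, pow_fix x _ hu, pow_fix x _ hu]
  congr 1
  have := congrArg (fun f : Module.End F (Wk p x) => ((f ⟨w, hw⟩ : Wk p x) : V)) hj
  simp only [res_pow_apply] at this
  exact this

end plusone

end Cfsg.Agent.Lib.Helper8Lin2
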