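import Cfsg.Agent.Lib.Helper41SL2Q8
import Cfsg.Agent.Lib.Helper41Dk13
import Cfsg.Agent.S0992
import Cfsg.Agent.S0276

set_option autoImplicit false
set_option linter.unusedSectionVars false

namespace Cfsg.Agent.Lib.Helper8PSL

open Matrix Cfsg.Agent.Lib.Helper41SL2 Cfsg.Agent.Lib.Helper41Dk

variable {F : Type*} [Field F] [Fintype F]

local notation "SL2" => Matrix.SpecialLinearGroup (Fin 2)
local notation "PSL2" => Matrix.ProjectiveSpecialLinearGroup (Fin 2)

theorem odd_of_mod (hq : Fintype.card F % 8 = 3) : Odd (Fintype.card F) := by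
  rw [Nat.odd_iff]; omega

theorem card_sylow (hq : Fintype.card F % 8 = 3) (T : Sylow 2 (PSL2 F)) : Nat.card T = 4 :=
  (Cfsg.Agent.S0276.result rfl (Or.inl hq) T).card_four

theorem card_norm (hq : Fintype.card F % 8 = 3) (T : Sylow 2 (PSL2 F)) :
    Nat.card (Subgroup.normalizer ((T : Subgroup (PSL2 F)) : Set (PSL2 F))) = 12 := by
  have hodd := odd_of_mod hq
  have h16 : ¬ 16 ∣ Fintype.card F ^ 2 - 1 := by
    obtain ⟨j, hj⟩ : ∃ j, Fintype.card F = 8 * j + 3 := ⟨Fintype.card F / 8, by omega⟩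
    rw [hj]
    have : (8 * j + 3) ^ 2 - 1 = 16 * (4 * j ^ 2 + 3 * j) + 8 := by
      have : (8 * j + 3) ^ 2 = 16 * (4 * j ^ 2 + 3 * j) + 8 + 1 := by ring
      omega
    rw [this]; omega
  have h1 := card_normalizer_sylow_two_of_not_sixteen hodd h16 (liftSylow hodd T)
  have h2 : Subgroup.normalizer ((liftSylow hodd T : Subgroup (SL2 F)) : Set (SL2 F)) =
      pre (Subgroup.normalizer ((T : Subgroup (PSL2 F)) : Set (PSL2 F))) := by
    ext g
    exact mem_normalizer_liftSylow hodd T g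
  have h3 : (liftSylow hodd T : Subgroup (SL2 F)) = pre (T : Subgroup (PSL2 F)) := rfl
  have h4 : Nat.card (liftSylow hodd T) = ee F * 4 := by
    show Nat.card (liftSylow hodd T : Subgroup (SL2 F)) = _
    rw [h3, card_pre]
    congr 1
    exact card_sylow hq T
  rw [h2, h4] at h1
  apply card_of_card_pre
  rw [h1]; ring

theorem cent_eq (hq : Fintype.card F % 8 = 3) (h4 : 4 ≤ Fintype.card F) (T : Sylow 2 (PSL2 F)) :
    Subgroup.centralizer ((T : Subgroup (PSL2 F)) : Set (PSL2 F)) = T := by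
  have hs : IsSimpleGroup (PSL2 F) :=
    Matrix.ProjectiveSpecialLinearGroup.rank_two_simple (by rw [Nat.card_eq_fintype_card]; exact h4)
  have hodd := odd_of_mod hq
  have hcard := Cfsg.Agent.Lib.Helper7SL.card_PSL_two_mul_two hodd
  obtain ⟨j, hj⟩ : ∃ j, Fintype.card F = 8 * j + 3 := ⟨Fintype.card F / 8, by omega⟩
  have hc2 : Nat.card (PSL2 F) = 4 * ((8 * j + 3) * (8 * j ^ 2 + 6 * j + 1)) := by
    rw [hj] at hcard
    have : (8 * j + 3) ^ 2 - 1 = 8 * (8 * j ^ 2 + 6 * j + 1) := by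
      have : (8 * j + 3) ^ 2 = 8 * (8 * j ^ 2 + 6 * j + 1) + 1 := by ring
      omega
    rw [this] at hcard
    have e : (8 * j + 3) * (8 * (8 * j ^ 2 + 6 * j + 1)) = (4 * ((8 * j + 3) * (8 * j ^ 2 + 6 * j + 1))) * 2 := by ring
    rw [e] at hcard
    exact Nat.eq_of_mul_eq_mul_right (by norm_num) hcard
  have hT4 := card_sylow hq T
  have hnc : ¬ IsMulCommutative (PSL2 F) := by
    intro hc
    have hn : (T : Subgroup (PSL2 F)).Normal := by
      constructor
      intro n hn g
      have : g * n * g⁻¹ = n := by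
        rw [hc.is_comm.comm g n, mul_inv_cancel_right]
      rwa [this]
    rcases hs.eq_bot_or_eq_top_of_normal _ hn with h | h
    · have : Nat.card (T : Subgroup (PSL2 F)) = 1 := by rw [h, Subgroup.card_bot]
      have h' : Nat.card (T : Subgroup (PSL2 F)) = 4 := hT4
      omega
    · have : Nat.card (T : Subgroup (PSL2 F)) = Nat.card (PSL2 F) := by rw [h, Subgroup.card_top]
      have h' : Nat.card (T : Subgroup (PSL2 F)) = 4 := hT4
      rw [h', hc2] at this
      have hj1 : 1 ≤ j := by omega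
      nlinarith
  have heven : Even (Nat.card (PSL2 F)) := by
    rw [hc2]; exact ⟨2 * ((8 * j + 3) * (8 * j ^ 2 + 6 * j + 1)), by ring⟩
  have h8 : ¬ 8 ∣ Nat.card (PSL2 F) := by
    rw [hc2]
    have : (8 * j + 3) * (8 * j ^ 2 + 6 * j + 1) = 2 * (32 * j ^ 3 + 36 * j ^ 2 + 13 * j + 1) + 1 := by ring
    rw [this]; omega
  obtain ⟨hk, hrel⟩ := Cfsg.Agent.S0992.result hnc heven h8 T
  have hN := card_norm hq T
  have hle : Subgroup.centralizer ((T : Subgroup (PSL2 F)) : Set (PSL2 F)) ≤
      Subgroup.normalizer ((T : Subgroup (PSL2 F)) : Set (PSL2 F)) := Subgroup.centralizer_le_normalizer _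
  have h5 := Subgroup.relIndex_mul_relIndex ⊥ _ _ bot_le hle
  rw [Subgroup.relIndex_bot_left, Subgroup.relIndex_bot_left, hrel, hN] at h5
  have hTle : (T : Subgroup (PSL2 F)) ≤ Subgroup.centralizer ((T : Subgroup (PSL2 F)) : Set (PSL2 F)) := by
    have : IsMulCommutative (T : Subgroup (PSL2 F)) := by
      have := hk
      exact IsKleinFour.isMulCommutative
    exact Subgroup.le_centralizer _
  refine (Subgroup.eq_of_le_of_card_ge hTle ?_).symm
  have h' : Nat.card (T : Subgroup (PSL2 F)) = 4 := hT4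
  rw [h']; omega

theorem center_eq_bot (hq : Fintype.card F % 8 = 3) (h4 : 4 ≤ Fintype.card F) :
    Subgroup.center (PSL2 F) = ⊥ := by
  have hs : IsSimpleGroup (PSL2 F) :=
    Matrix.ProjectiveSpecialLinearGroup.rank_two_simple (by rw [Nat.card_eq_fintype_card]; exact h4)
  rcases hs.eq_bot_or_eq_top_of_normal _ (inferInstance : (Subgroup.center (PSL2 F)).Normal) with h | h
  · exact h
  · exfalso
    obtain ⟨T⟩ : Nonempty (Sylow 2 (PSL2 F)) := inferInstance
    have h1 := cent_eq hq h4 T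
    have h2 : Subgroup.centralizer ((T : Subgroup (PSL2 F)) : Set (PSL2 F)) = ⊤ := by
      rw [eq_top_iff, ← h]
      exact Subgroup.center_le_centralizer _
    rw [h2] at h1
    have h3 : Subgroup.normalizer ((T : Subgroup (PSL2 F)) : Set (PSL2 F)) = ⊤ := by
      rw [eq_top_iff, h1]; exact Subgroup.le_normalizer
    have h5 := card_norm hq T
    have h6 : Nat.card (T : Subgroup (PSL2 F)) = 4 := card_sylow hq T
    rw [h3, h1, h6] at h5
    omega

end Cfsg.Agent.Lib.Helper8PSL
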