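import Cfsg.Agent.Lib.Helper8PSL2

set_option autoImplicit false
set_option linter.unusedSectionVars false

namespace Cfsg.Agent.Lib.Helper8PSL3

open Matrix Cfsg.Agent.Lib.Helper41SL2 Cfsg.Agent.Lib.Helper41Dk Cfsg.Agent.Lib.Helper46SL2 Cfsg.Agent.Lib.Helper8PSL2

variable {F : Type*} [Field F] [Fintype F]

local notation "SL2" => Matrix.SpecialLinearGroup (Fin 2)
local notation "PSL2" => Matrix.ProjectiveSpecialLinearGroup (Fin 2)

theorem norm_nonsplit [CharP F 3] {p : ℕ} (hp : p.Prime) (hp2 : p ≠ 2) (hp3 : p ≠ 3)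
    (hpq : ¬ p ∣ Fintype.card F - 1) (y : PSL2 F) (hy : orderOf y = p) :
    Nat.card (Subgroup.normalizer ((Subgroup.centralizer {y} : Subgroup (PSL2 F)) : Set (PSL2 F))) =
      Fintype.card F + 1 := by
  obtain ⟨Y, rfl⟩ := QuotientGroup.mk'_surjective _ y
  have h3 : (3 : F) = 0 := by exact_mod_cast CharP.cast_eq_zero F 3
  have h2 : (2 : F) ≠ 0 := by
    intro h
    apply one_ne_zero (α := F)
    linear_combination h3 - h
  have hodd : Odd (Fintype.card F) := by
    rw [Nat.odd_iff]
    apply FiniteField.odd_card_of_char_ne_two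
    intro hc
    have : CharP F 2 := ringChar.of_eq hc
    exact h2 CharTwo.two_eq_zero
  have ht0 : tr Y ≠ 0 := by
    intro h
    have h1 : Y * Y = -1 := sq_eq_neg_one_iff.2 h
    have h4 : (proj F Y) ^ 2 = 1 := by
      rw [← map_pow, pow_two, h1]
      exact (mk_eq_one_iff _).2 (mem_center_iff_eq.2 (Or.inr rfl))
    have := orderOf_dvd_of_pow_eq_one h4
    rw [hy] at this
    exact hp2 ((Nat.prime_dvd_prime_iff_eq hp Nat.prime_two).1 this)
  have ht4 : tr Y ^ 2 ≠ 4 := by
    intro h
    have h4 : (proj F Y) ^ 3 = 1 := by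
      rw [← map_pow]
      exact (mk_eq_one_iff _).2 (cube_mem_center h)
    have := orderOf_dvd_of_pow_eq_one h4
    rw [hy] at this
    exact hp3 ((Nat.prime_dvd_prime_iff_eq hp Nat.prime_three).1 this)
  have hns : NonSplit (tr Y) := by
    rcases split_or_nonSplit ht4 with ⟨a, ha0, ha, htr⟩ | h
    · exfalso
      have h1 := card_centralizer_split ha0 ha htr
      have h4 : orderOf Y ∣ Fintype.card F - 1 := by
        rw [← h1]
        have : orderOf (⟨Y, Subgroup.mem_centralizer_singleton_iff.2 rfl⟩ : (Subgroup.centralizer {Y} : Subgroup (SL2 F))) = orderOf Y :=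
          Subgroup.orderOf_mk _ _
        rw [← this]
        exact orderOf_dvd_natCard _
      apply hpq
      rw [← hy]
      exact (orderOf_map_dvd (proj F) Y).trans h4
    · exact h
  have hpre : pre (Subgroup.centralizer {proj F Y}) = Subgroup.centralizer {Y} := by
    ext g
    rw [mem_pre, Subgroup.mem_centralizer_singleton_iff, Subgroup.mem_centralizer_singleton_iff, ← map_mul, ← map_mul]
    constructor
    · intro h
      rcases (mk_eq_mk_iff _ _).1 h with h | h
      · exact h.symm
      · exfalso
        apply ht0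
        have e : Y = -(g * Y * g⁻¹) := by
          calc Y = (Y * g) * g⁻¹ := by group
            _ = -(g * Y) * g⁻¹ := by rw [h]
            _ = -(g * Y * g⁻¹) := by simp
        have e2 := congrArg tr e
        rw [tr_neg, tr_conj] at e2
        have : (2 : F) * tr Y = 0 := by linear_combination e2
        exact (mul_eq_zero.1 this).resolve_left h2
    · intro h
      rw [h]
  have h1 := card_pre (Subgroup.normalizer ((Subgroup.centralizer {proj F Y} : Subgroup (PSL2 F)) : Set (PSL2 F)))
  have h5 : pre (Subgroup.normalizer ((Subgroup.centralizer {proj F Y} : Subgroup (PSL2 F)) : Set (PSL2 F))) =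
      Subgroup.normalizer ((pre (Subgroup.centralizer {proj F Y}) : Subgroup (SL2 F)) : Set (SL2 F)) :=
    Subgroup.comap_normalizer_eq_of_surjective _ (QuotientGroup.mk'_surjective _)
  rw [h5, hpre, card_normalizer_centralizer ht4, card_centralizer_nonSplit hns, ee_eq_two hodd] at h1
  exact (Nat.eq_of_mul_eq_mul_left (by norm_num) h1).symm

end Cfsg.Agent.Lib.Helper8PSL3
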