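import Cfsg.Agent.Lib.Helper22ChevWord
import Cfsg.Agent.Lib.Helper22ChevTabG2

set_option autoImplicit false

/-! Characteristic 3 variant of the sparse engine of helper22, and the block structure of the adjoint module of
type G₂ in characteristic 3 (short root vectors and `h_a` span an invariant subspace). -/

namespace Cfsg.Agent.Lib.Helper8Ree1

open Cfsg.Lie Cfsg.Agent.Lib.Helper22ChevEngine Cfsg.Agent.Lib.Helper22ChevFast Cfsg.Agent.Lib.Helper22ChevX
  Cfsg.Agent.Lib.Helper22ChevWord Cfsg.Agent.Lib.Helper22ChevTabG2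

/-- all coefficients vanish mod 3 -/
noncomputable def allZero3 (v : Vec) : Bool :=
  List.rec true (fun x _ ih => Bool.rec false ih (Nat.beq (Nat.mod x.a 3) (Nat.mod x.b 3))) v

noncomputable def eqv3 (v w : Vec) : Bool := allZero3 (norm (pushNeg w v))

/-- reduce mod 3 and drop zero terms -/
noncomputable def prune3 (v : Vec) : Vec :=
  List.rec [] (fun x _ ih => Bool.rec (Tm.mk x.k x.m (Nat.mod x.a 3) (Nat.mod x.b 3) :: ih) ih
    (Nat.beq (Nat.mod x.a 3) (Nat.mod x.b 3))) v

noncomputable def nf3 (v : Vec) : Vec := prune3 (norm v)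

/-- the terms with index `k`, as a polynomial -/
noncomputable def pick (v : Vec) (k : ℕ) : Vec :=
  List.rec [] (fun x _ ih => Bool.rec ih (Tm.mk 0 x.m x.a x.b :: ih) (Nat.beq x.k k)) v

section sem

variable {F : Type*} [Field F] [CharP F 3] (ρ : ℕ → F)

theorem cast_mod3 (a : ℕ) : ((a % 3 : ℕ) : F) = (a : F) := (CharP.cast_eq_mod F 3 a).symm

theorem cast_eq_of_mod3 {a b : ℕ} (h : a % 3 = b % 3) : (a : F) = (b : F) := by
  rw [← cast_mod3 a, ← cast_mod3 b, h]

theorem coef_of_allZero3 (v : Vec) (h : allZero3 v = true) (k : ℕ) : coef ρ v k = 0 := by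
  induction v with
  | nil => simp
  | cons x v ih =>
    have e : allZero3 (x :: v) = Bool.rec false (allZero3 v) (Nat.beq (Nat.mod x.a 3) (Nat.mod x.b 3)) := rfl
    rw [e] at h
    cases hb : Nat.beq (Nat.mod x.a 3) (Nat.mod x.b 3) with
    | false => rw [hb] at h; exact absurd h (by simp)
    | true =>
      rw [hb] at h
      have hab : x.a % 3 = x.b % 3 := Nat.eq_of_beq_eq_true hb
      have hab' : (x.a : F) = x.b := cast_eq_of_mod3 hab
      simp only [coef_cons, ih h, Tm.val, hab', sub_self, zero_mul, ite_self, add_zero]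

theorem coef_eq_of_eqv3 (v w : Vec) (h : eqv3 v w = true) (k : ℕ) : coef ρ v k = coef ρ w k := by
  have h1 := coef_of_allZero3 ρ _ h k
  rw [coef_norm, coef_pushNeg] at h1
  exact sub_eq_zero.mp h1

theorem coef_prune3 (v : Vec) (k : ℕ) : coef ρ (prune3 v) k = coef ρ v k := by
  induction v with
  | nil => rfl
  | cons x v ih =>
    have e : prune3 (x :: v) = Bool.rec (Tm.mk x.k x.m (Nat.mod x.a 3) (Nat.mod x.b 3) :: prune3 v) (prune3 v)
      (Nat.beq (Nat.mod x.a 3) (Nat.mod x.b 3)) := rfl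
    rw [e]
    cases hb : Nat.beq (Nat.mod x.a 3) (Nat.mod x.b 3) with
    | false =>
      have h1 : ((Nat.mod x.a 3 : ℕ) : F) = x.a := cast_mod3 x.a
      have h2 : ((Nat.mod x.b 3 : ℕ) : F) = x.b := cast_mod3 x.b
      simp only [coef_cons, ih, Tm.val, h1, h2]
    | true =>
      have hab : x.a % 3 = x.b % 3 := Nat.eq_of_beq_eq_true hb
      have hab' : (x.a : F) = x.b := cast_eq_of_mod3 hab
      simp only [coef_cons, ih, Tm.val, hab', sub_self, zero_mul, ite_self, zero_add]

theorem coef_nf3 (v : Vec) (k : ℕ) : coef ρ (nf3 v) k = coef ρ v k := by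
  rw [nf3, coef_prune3, coef_norm]

omit [CharP F 3] in
theorem coef_pick (v : Vec) (k : ℕ) : coef ρ (pick v k) 0 = coef ρ v k := by
  induction v with
  | nil => rfl
  | cons x v ih =>
    have e : pick (x :: v) k = Bool.rec (pick v k) (Tm.mk 0 x.m x.a x.b :: pick v k) (Nat.beq x.k k) := rfl
    rw [e]
    by_cases h : x.k = k
    · rw [nbeq_of_eq h]
      simp only [coef_cons, ih, h, if_true, Tm.val]
    · rw [nbeq_of_ne h]
      simp only [coef_cons, ih, h, if_false, zero_add]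

end sem

theorem valid_prune3 {N : ℕ} {v : Vec} (hv : Valid N v) : Valid N (prune3 v) := by
  induction v with
  | nil => intro z hz; exact absurd hz (by simp [prune3])
  | cons x v ih =>
    have e : prune3 (x :: v) = Bool.rec (Tm.mk x.k x.m (Nat.mod x.a 3) (Nat.mod x.b 3) :: prune3 v) (prune3 v)
      (Nat.beq (Nat.mod x.a 3) (Nat.mod x.b 3)) := rfl
    rw [e]
    have ih' := ih (fun w hw => hv w (by simp [hw]))
    cases Nat.beq (Nat.mod x.a 3) (Nat.mod x.b 3) with
    | false =>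
      intro z hz
      simp only [List.mem_cons] at hz
      rcases hz with hz | hz
      · rw [hz]; exact hv x (by simp)
      · exact ih' z hz
    | true => exact ih'

theorem valid_nf3 {N : ℕ} {v : Vec} (hv : Valid N v) : Valid N (nf3 v) := valid_prune3 (valid_norm hv)

theorem nz_nf3 {F : Type*} [Field F] [CharP F 3] (ρ : ℕ → F) (N : ℕ) : Nz ρ N nf3 :=
  ⟨coef_nf3 ρ, fun _ h => valid_nf3 h⟩

/-- check that two words in root elements of G₂ agree in characteristic 3 -/
noncomputable def chkW3 (w₁ w₂ : List (ℕ × Vec)) : Bool :=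
  allLt 14 (fun k => eqv3 (wordOp fd nf3 w₁ k) (wordOp fd nf3 w₂ k))

theorem word_eq3 {F : Type*} [Field F] [CharP F 3] (ρ : ℕ → F) (hρ : ∀ x y, ρ (x * y) = ρ x * ρ y) (hρ1 : ρ 1 = 1)
    (w₁ w₂ : List (ℕ × Vec)) (h₁ : ∀ a ∈ w₁, a.1 < 12) (h₂ : ∀ a ∈ w₂, a.1 < 12) (h : chkW3 w₁ w₂ = true) :
    chevG2.wordMat F (w₁.map fun a => (a.1, evalP ρ a.2)) = chevG2.wordMat F (w₂.map fun a => (a.1, evalP ρ a.2)) := by
  have s1 := sem_wordOp ρ hρ hρ1 agree (nz_nf3 ρ _) w₁ h₁
  have s2 := sem_wordOp ρ hρ hρ1 agree (nz_nf3 ρ _) w₂ h₂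
  refine Sem.ext' ρ s1 s2 ?_
  intro k hk j
  exact coef_eq_of_eqv3 ρ _ _ ((allLt_iff _ _).mp h k hk) j

end Cfsg.Agent.Lib.Helper8Ree1
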