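import Cfsg.Agent.Lib.Helper8Ree9
import Cfsg.Agent.Lib.Helper8Rank1

set_option autoImplicit false
set_option linter.unusedSectionVars false

namespace Cfsg.Agent.Lib.Helper8Ree10

open Cfsg.Lie Cfsg.Agent.Lib.Helper22ChevBasic Cfsg.Agent.Lib.Helper8Ree2 Cfsg.Agent.Lib.Helper8Ree3
  Cfsg.Agent.Lib.Helper23Chev Cfsg.Agent.Lib.Helper23RG Cfsg.Agent.Lib.Helper23Table Cfsg.Agent.Lib.Helper8Ree5
  Cfsg.Agent.Lib.Helper8Ree6 Cfsg.Agent.Lib.Helper8Ree7 Cfsg.Agent.Lib.Helper8Ree8 Cfsg.Agent.Lib.Helper8Ree9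
  Cfsg.Agent.Lib.Helper23Diag Cfsg.Agent.Lib.Helper22ChevU Cfsg.Agent.Lib.Helper8Rank1

variable {K : Type*} [Field K] [Fintype K] [CharP K 3]

section main

variable {m : ℕ} (hK : Fintype.card K = 3 ^ (2 * m + 1))
include hK

theorem mem_U1 {g : GL chevG2.Idx K} : g ∈ chevG2.posUnipotent K ⊓ twistedG2 K (3 ^ m) ↔ ∃ t u v, g = wU m t u v := by
  constructor
  · rintro ⟨h1, h2⟩
    exact mem_U_fix hK h1 (G1_le_Fix hK h2).2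
  · rintro ⟨t, u, v, rfl⟩
    refine ⟨?_, wU_mem _ _ _ _⟩
    rw [← U_eq hT (hR K)]
    exact wU_mem_U _ _ _ _

theorem mem_H1 {g : GL chevG2.Idx K} : g ∈ chevG2.diagonalSubgroup K ⊓ twistedG2 K (3 ^ m) ↔ ∃ μ, g = hh m μ := by
  rw [← H_eq hT (hR K)]
  constructor
  · rintro ⟨h1, h2⟩
    exact mem_H_fix hK h1 (G1_le_Fix hK h2).2
  · rintro ⟨μ, rfl⟩
    exact ⟨hh_mem_H _ _, hh_mem hK _⟩

theorem G1_cases {g : GL chevG2.Idx K} (hg : g ∈ twistedG2 K (3 ^ m)) :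
    (∃ t u v μ, g = wU m t u v * hh m μ) ∨ (∃ t u v μ t' u' v', g = wU m t u v * hh m μ * n1 m * wU m t' u' v') :=
  fix_cases hK (G1_le_Fix hK hg)

theorem mem_B1 {g : GL chevG2.Idx K} : g ∈ chevG2.borelSubgroup K ⊓ twistedG2 K (3 ^ m) ↔
    ∃ t u v μ, g = wU m t u v * hh m μ := by
  rw [← B_eq hT (hR K)]
  constructor
  · rintro ⟨h1, h2⟩
    rcases G1_cases hK h2 with h | ⟨t, u, v, μ, t', u', v', rfl⟩
    · exact h
    · exfalso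
      apply n1_not_mem_B (K := K) m
      have : n1 (K := K) m = (wU m t u v * hh m μ)⁻¹ * (wU m t u v * hh m μ * n1 m * wU m t' u' v') * (wU m t' u' v')⁻¹ := by
        group
      rw [this]
      exact mul_mem (mul_mem (inv_mem (mul_mem (RG.U_le_B (wU_mem_U _ _ _ _)) (RG.H_le_B (hh_mem_H _ _)))) h1)
        (inv_mem (RG.U_le_B (wU_mem_U _ _ _ _)))
  · rintro ⟨t, u, v, μ, rfl⟩
    exact ⟨mul_mem (RG.U_le_B (wU_mem_U _ _ _ _)) (RG.H_le_B (hh_mem_H _ _)), mul_mem (wU_mem _ _ _ _) (hh_mem hK _)⟩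

theorem n1_conj_hh (μ : Kˣ) : ∃ μ', n1 m * hh m μ * (n1 m)⁻¹ = hh m μ' := by
  apply (mem_H1 hK).1
  rw [← H_eq hT (hR K)]
  exact ⟨RG.N_conj_H ok _ (n1_mem_N m) _ (hh_mem_H _ _),
    (twistedG2 K (3 ^ m)).mul_mem ((twistedG2 K (3 ^ m)).mul_mem (n1_mem m) (hh_mem hK _))
      ((twistedG2 K (3 ^ m)).inv_mem (n1_mem m))⟩

theorem n1_conj_wU (t u v : K) : n1 m * wU m t u v * (n1 m)⁻¹ ∈ (SS K).V := by
  obtain ⟨rf, pr, hW, π₀, hπ₀, h₀⟩ := setup (K := K)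
  exact (Mon_n1 hK hW hπ₀ h₀).conj_XS (Ψ := (SS K).pos) (Ψ' := fun r => ¬ (SS K).pos r) h₀ _ (wU_mem_U _ _ _ _)

theorem n1_sq : ∃ μ : Kˣ, n1 m * n1 m = hh m μ := by
  apply (mem_H1 hK).1
  rw [← H_eq hT (hR K)]
  refine ⟨?_, (twistedG2 K (3 ^ m)).mul_mem (n1_mem m) (n1_mem m)⟩
  obtain ⟨rf, pr, hW, π₀, hπ₀, h₀⟩ := setup (K := K)
  have hM := Mon_n1 hK hW hπ₀ h₀
  have hM2 := hM.mul hM
  obtain ⟨π, hπ, hM'⟩ := RG.Mon_N' ok (rf := rf) (pr := pr) _ (mul_mem (n1_mem_N (K := K) m) (n1_mem_N (K := K) m))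
  have hfix : sg K m (n1 m * n1 m) = n1 m * n1 m := (G1_le_Fix hK (mul_mem (n1_mem m) (n1_mem m))).2
  have hM'' : (SS K).Mon (sg K m (n1 m * n1 m)) π := by rw [hfix]; exact hM'
  have hc := (tw m).mon ok hBV' (mul_mem (n1_mem_N m) (n1_mem_N m)) hM' hM''
  rcases (tw m).perm_cases ok hBV' hUN' hW hπ₀ h₀ hπ hc with h | h
  · subst h
    exact RG.mem_H_of_Mon_one ok hBV' hUN' (mul_mem (n1_mem_N m) (n1_mem_N m)) hM'
  · exfalso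
    subst h
    have e := RG.Mon_unique ok hBV' hM2 hM'
    have e1 : π = 1 := by simpa using e
    have := h₀ (rt 6) (by show 6 ≤ 6; exact le_rfl)
    rw [e1] at this
    exact this (by show 6 ≤ 6; exact le_rfl)

theorem mem_N1 {g : GL chevG2.Idx K} : g ∈ chevG2.monomialSubgroup K ⊓ twistedG2 K (3 ^ m) ↔
    (∃ μ, g = hh m μ) ∨ (∃ μ, g = hh m μ * n1 m) := by
  rw [← N_eq hT (hR K)]
  constructor
  · rintro ⟨h1, h2⟩
    rcases G1_cases hK h2 with ⟨t, u, v, μ, rfl⟩ | ⟨t, u, v, μ, t', u', v', rfl⟩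
    · left
      have : wU m t u v = 1 := by
        apply hUN' _ (wU_mem_U _ _ _ _)
        have : wU m t u v = (wU m t u v * hh m μ) * (hh m μ)⁻¹ := by group
        rw [this]
        exact mul_mem h1 (inv_mem (RG.H_le_N (hh_mem_H _ _)))
      exact ⟨μ, by rw [this, one_mul]⟩
    · right
      have hN : hh m μ * n1 m ∈ (SS K).N := mul_mem (RG.H_le_N (hh_mem_H _ _)) (n1_mem_N m)
      have h3 : (hh m μ * n1 m)⁻¹ * (wU m t u v * hh m μ * n1 m * wU m t' u' v') ∈ (SS K).H :=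
        RG.bruhat_uniq ok hBV' hUN' hN h1 (RG.U_le_B (wU_mem_U m t u v)) (RG.U_le_B (wU_mem_U m t' u' v')) (by group)
      have h4 : (hh m μ * n1 m)⁻¹ * (wU m t u v * hh m μ * n1 m * wU m t' u' v') ∈ twistedG2 K (3 ^ m) :=
        mul_mem (inv_mem (mul_mem (hh_mem hK _) (n1_mem m))) h2
      rw [H_eq hT (hR K)] at h3
      obtain ⟨μ₁, hμ₁⟩ := (mem_H1 hK).1 ⟨h3, h4⟩
      obtain ⟨μ₂, hμ₂⟩ := n1_conj_hh hK μ₁
      refine ⟨μ * μ₂, ?_⟩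
      have : wU m t u v * hh m μ * n1 m * wU m t' u' v' = hh m μ * n1 m *
          ((hh m μ * n1 m)⁻¹ * (wU m t u v * hh m μ * n1 m * wU m t' u' v')) := by group
      rw [this, hμ₁, map_mul, ← hμ₂]; group
  · rintro (⟨μ, rfl⟩ | ⟨μ, rfl⟩)
    · exact ⟨RG.H_le_N (hh_mem_H _ _), hh_mem hK _⟩
    · exact ⟨mul_mem (RG.H_le_N (hh_mem_H _ _)) (n1_mem_N m), mul_mem (hh_mem hK _) (n1_mem m)⟩

theorem wU_ne_one : wU m (0 : K) 0 1 ≠ 1 := by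
  intro h
  exact one_ne_zero (wU_eq_one h).2.2

theorem r1 : R1 ((chevG2.borelSubgroup K ⊓ twistedG2 K (3 ^ m)).subgroupOf (twistedG2 K (3 ^ m)))
    ((chevG2.monomialSubgroup K ⊓ twistedG2 K (3 ^ m)).subgroupOf (twistedG2 K (3 ^ m)))
    ((chevG2.posUnipotent K ⊓ twistedG2 K (3 ^ m)).subgroupOf (twistedG2 K (3 ^ m)))
    ((chevG2.diagonalSubgroup K ⊓ twistedG2 K (3 ^ m)).subgroupOf (twistedG2 K (3 ^ m)))
    (⟨n1 m, n1_mem m⟩ : ↥(twistedG2 K (3 ^ m))) where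
  mem_B := by
    rintro ⟨g, hg⟩
    simp only [Subgroup.mem_subgroupOf]
    rw [mem_B1 hK]
    constructor
    · rintro ⟨t, u, v, μ, rfl⟩
      exact ⟨⟨_, wU_mem m t u v⟩, (mem_U1 hK).2 ⟨t, u, v, rfl⟩, ⟨_, hh_mem hK μ⟩, (mem_H1 hK).2 ⟨μ, rfl⟩, rfl⟩
    · rintro ⟨⟨a, ha⟩, ha', ⟨h, hh'⟩, hh'', e⟩
      obtain ⟨t, u, v, rfl⟩ := (mem_U1 hK).1 ha'
      obtain ⟨μ, rfl⟩ := (mem_H1 hK).1 hh''
      exact ⟨t, u, v, μ, congrArg Subtype.val e⟩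
  mem_N := by
    rintro ⟨g, hg⟩
    simp only [Subgroup.mem_subgroupOf]
    rw [mem_N1 hK, mem_H1 hK]
    constructor
    · rintro (h | ⟨μ, rfl⟩)
      · exact Or.inl h
      · exact Or.inr ⟨⟨_, hh_mem hK μ⟩, (mem_H1 hK).2 ⟨μ, rfl⟩, rfl⟩
    · rintro (h | ⟨⟨h, hh'⟩, hh'', e⟩)
      · exact Or.inl h
      · obtain ⟨μ, rfl⟩ := (mem_H1 hK).1 hh''
        exact Or.inr ⟨μ, congrArg Subtype.val e⟩
  hU := by
    rintro ⟨h, hh'⟩ hh'' ⟨a, ha⟩ ha'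
    simp only [Subgroup.mem_subgroupOf] at *
    obtain ⟨t, u, v, rfl⟩ := (mem_U1 hK).1 ha'
    obtain ⟨μ, rfl⟩ := (mem_H1 hK).1 hh''
    exact (mem_U1 hK).2 ⟨_, _, _, hh_conj_wU hK μ t u v⟩
  nH := by
    rintro ⟨h, hh'⟩ hh''
    simp only [Subgroup.mem_subgroupOf] at *
    obtain ⟨μ, rfl⟩ := (mem_H1 hK).1 hh''
    exact (mem_H1 hK).2 (n1_conj_hh hK μ)
  nn := by
    simp only [Subgroup.mem_subgroupOf]
    exact (mem_H1 hK).2 (n1_sq hK)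
  cases := by
    rintro ⟨g, hg⟩
    simp only [Subgroup.mem_subgroupOf]
    rcases G1_cases hK hg with h | ⟨t, u, v, μ, t', u', v', rfl⟩
    · exact Or.inl ((mem_B1 hK).2 h)
    · exact Or.inr ⟨⟨_, wU_mem m t u v⟩, (mem_U1 hK).2 ⟨t, u, v, rfl⟩, ⟨_, hh_mem hK μ⟩, (mem_H1 hK).2 ⟨μ, rfl⟩,
        ⟨_, wU_mem m t' u' v'⟩, (mem_U1 hK).2 ⟨t', u', v', rfl⟩, rfl⟩
  triv := by
    rintro ⟨a, ha⟩ ha' hb
    simp only [Subgroup.mem_subgroupOf] at *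
    obtain ⟨t, u, v, rfl⟩ := (mem_U1 hK).1 ha'
    have h1 := hBV' _ (by rw [B_eq hT (hR K)]; exact hb.1) (n1_conj_wU hK t u v)
    apply Subtype.ext
    show wU m t u v = 1
    have : wU m t u v = (n1 m)⁻¹ * (n1 m * wU m t u v * (n1 m)⁻¹) * n1 m := by group
    rw [this, h1]; group
  UH := by
    rintro ⟨a, ha⟩ ha' hb
    simp only [Subgroup.mem_subgroupOf] at *
    apply Subtype.ext
    exact hUN' _ (by rw [U_eq hT (hR K)]; exact ha'.1) (RG.H_le_N (by rw [H_eq hT (hR K)]; exact hb.1))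
  ne := ⟨⟨_, wU_mem m 0 0 1⟩, (mem_U1 hK).2 ⟨_, _, _, rfl⟩, fun h => wU_ne_one hK (congrArg Subtype.val h)⟩

/-- parametrisation of `U¹` -/
noncomputable def equivU : K × K × K ≃ ↥(chevG2.posUnipotent K ⊓ twistedG2 K (3 ^ m)) :=
  Equiv.ofBijective (fun p => ⟨wU m p.1 p.2.1 p.2.2, (mem_U1 hK).2 ⟨_, _, _, rfl⟩⟩) ⟨by
    rintro ⟨t, u, v⟩ ⟨t', u', v'⟩ e
    obtain ⟨rfl, rfl, rfl⟩ := wU_inj hK (congrArg Subtype.val e)
    rfl, by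
    rintro ⟨g, hg⟩
    obtain ⟨t, u, v, rfl⟩ := (mem_U1 hK).1 hg
    exact ⟨⟨t, u, v⟩, rfl⟩⟩

theorem card_U1 : Nat.card ↥(chevG2.posUnipotent K ⊓ twistedG2 K (3 ^ m)) = (3 ^ (2 * m + 1)) ^ 3 := by
  rw [← Nat.card_congr (equivU hK), Nat.card_prod, Nat.card_prod, Nat.card_eq_fintype_card, hK]
  ring

/-- parametrisation of `H¹` -/
noncomputable def equivH : Kˣ ≃* ↥(chevG2.diagonalSubgroup K ⊓ twistedG2 K (3 ^ m)) :=
  MulEquiv.ofBijective ((hh m).codRestrict _ (fun μ => (mem_H1 hK).2 ⟨μ, rfl⟩)) ⟨by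
    intro a b e
    exact hh_inj m (congrArg Subtype.val e), by
    rintro ⟨g, hg⟩
    obtain ⟨μ, rfl⟩ := (mem_H1 hK).1 hg
    exact ⟨μ, rfl⟩⟩

theorem card_H1 : Nat.card ↥(chevG2.diagonalSubgroup K ⊓ twistedG2 K (3 ^ m)) = 3 ^ (2 * m + 1) - 1 := by
  rw [← Nat.card_congr (equivH hK).toEquiv, Nat.card_units, Nat.card_eq_fintype_card, hK]

omit hK in
theorem card_sub (X : Subgroup (GL chevG2.Idx K)) :
    Nat.card ↥((X ⊓ twistedG2 K (3 ^ m)).subgroupOf (twistedG2 K (3 ^ m))) = Nat.card ↥(X ⊓ twistedG2 K (3 ^ m)) :=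
  Nat.card_congr (Subgroup.subgroupOfEquivOfLe inf_le_right).toEquiv

theorem card_G1 : Nat.card ↥(twistedG2 K (3 ^ m)) =
    (3 ^ (2 * m + 1)) ^ 3 * (3 ^ (2 * m + 1) - 1) * ((3 ^ (2 * m + 1)) ^ 3 + 1) := by
  rw [(r1 hK).card_G, card_sub, card_sub, card_U1 hK, card_H1 hK]

theorem cent_triv : ∀ h ∈ (chevG2.diagonalSubgroup K ⊓ twistedG2 K (3 ^ m)).subgroupOf (twistedG2 K (3 ^ m)),
    (∀ u ∈ (chevG2.posUnipotent K ⊓ twistedG2 K (3 ^ m)).subgroupOf (twistedG2 K (3 ^ m)), h * u = u * h) → h = 1 := by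
  rintro ⟨h, hh'⟩ hh'' hc
  simp only [Subgroup.mem_subgroupOf] at *
  obtain ⟨μ, rfl⟩ := (mem_H1 hK).1 hh''
  have h1 := congrArg Subtype.val (hc ⟨_, wU_mem m 0 0 1⟩ ((mem_U1 hK).2 ⟨_, _, _, rfl⟩))
  have h2 : hh m μ * wU m 0 0 1 = wU m 0 0 1 * hh m μ := h1
  have h3 := hh_conj_wU hK μ 0 0 1
  rw [h2, mul_inv_cancel_right] at h3
  have h4 := (wU_inj hK h3).2.2
  have h5 : μ = 1 := Units.ext (by rw [mul_one] at h4; exact h4.symm)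
  subst h5
  apply Subtype.ext
  exact map_one _

theorem core_B1 : ((chevG2.borelSubgroup K ⊓ twistedG2 K (3 ^ m)).subgroupOf (twistedG2 K (3 ^ m))).normalCore = ⊥ :=
  (r1 hK).core (cent_triv hK)

end main

end Cfsg.Agent.Lib.Helper8Ree10
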