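import Cfsg.Agent.Lib.Helper8Ree10

set_option autoImplicit false
set_option linter.unusedSectionVars false

namespace Cfsg.Agent.Lib.Helper8Ree11

open Cfsg.Lie Cfsg.Agent.Lib.Helper22ChevBasic Cfsg.Agent.Lib.Helper8Ree2 Cfsg.Agent.Lib.Helper8Ree3
  Cfsg.Agent.Lib.Helper23Chev Cfsg.Agent.Lib.Helper23RG Cfsg.Agent.Lib.Helper23Table Cfsg.Agent.Lib.Helper8Ree5
  Cfsg.Agent.Lib.Helper8Ree6 Cfsg.Agent.Lib.Helper8Ree7 Cfsg.Agent.Lib.Helper8Ree8 Cfsg.Agent.Lib.Helper8Ree9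
  Cfsg.Agent.Lib.Helper8Ree10
  Cfsg.Agent.Lib.Helper23Diag Cfsg.Agent.Lib.Helper22ChevU Cfsg.Agent.Lib.Helper8Rank1

variable {K : Type*} [Field K] [Fintype K] [CharP K 3]

open scoped commutatorElement

section main

variable {m : ℕ} (hK : Fintype.card K = 3 ^ (2 * m + 1))
include hK

theorem ch1_eq_one {μ : Kˣ} (h : ch1 m μ = 1) : μ = 1 := by
  have hμ : (μ : K) ≠ 0 := μ.ne_zero
  unfold ch1 at h
  set ν : K := (μ : K) ^ 3 ^ m with hν
  have hν0 : ν ≠ 0 := pow_ne_zero _ hμ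
  have hνν : (ν ^ 3) ^ 3 ^ m = μ := th3 hK _
  have h1 : (μ : K) ^ 2 = ν ^ 3 := by field_simp at h; exact h
  have h2 : (μ : K) = ν ^ 2 := by
    rw [← h1, ← pow_mul, mul_comm, pow_mul, ← hν] at hνν
    exact hνν.symm
  have h3 : ν = 1 := by
    rw [h2] at h1
    have : ν ^ 3 * (ν - 1) = 0 := by linear_combination h1
    rcases mul_eq_zero.1 this with h | h
    · exact absurd h (pow_ne_zero _ hν0)
    · exact sub_eq_zero.1 h
  apply Units.ext
  rw [h2, h3]; simp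

theorem ch2_eq_one {μ : Kˣ} (h : ch2 m μ = 1) : μ = 1 ∨ μ = -1 := by
  have hμ : (μ : K) ≠ 0 := μ.ne_zero
  unfold ch2 at h
  set ν : K := (μ : K) ^ 3 ^ m with hν
  have hνν : (ν ^ 3) ^ 3 ^ m = μ := th3 hK _
  have h1 : ν ^ 3 = (μ : K) := by field_simp at h; exact h
  have h2 : ν = μ := by rw [h1, ← hν] at hνν; exact hνν
  rw [h2] at h1
  have h3 : (μ : K) ^ 2 = 1 := by
    have : (μ : K) * ((μ : K) ^ 2 - 1) = 0 := by linear_combination h1
    rcases mul_eq_zero.1 this with h | h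
    · exact absurd h hμ
    · exact sub_eq_zero.1 h
  rcases sq_eq_one_iff.1 h3 with h | h
  · left; exact Units.ext h
  · right; exact Units.ext h

omit hK in
theorem ch1_neg_one : ch1 m (-1 : Kˣ) = -1 := by
  have hodd : Odd (3 ^ m) := Odd.pow (by decide)
  unfold ch1
  simp only [Units.val_neg, Units.val_one, hodd.neg_one_pow]
  norm_num

omit hK in
theorem ch2_neg_one : ch2 m (-1 : Kˣ) = 1 := by
  have hodd : Odd (3 ^ m) := Odd.pow (by decide)
  unfold ch2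
  simp only [Units.val_neg, Units.val_one, hodd.neg_one_pow]
  norm_num

theorem comm_iff (μ : Kˣ) (t u v : K) : hh m μ * wU m t u v = wU m t u v * hh m μ ↔
    ch1 m μ * t = t ∧ ch2 m μ * u = u ∧ μ * v = v := by
  have h3 := hh_conj_wU hK μ t u v
  constructor
  · intro h
    rw [h, mul_inv_cancel_right] at h3
    obtain ⟨a, b, c⟩ := wU_inj hK h3
    exact ⟨a.symm, b.symm, c.symm⟩
  · rintro ⟨a, b, c⟩
    rw [a, b, c] at h3
    exact mul_inv_eq_iff_eq_mul.1 h3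

theorem wU0_mul (u v w z : K) : wU m 0 u v * wU m 0 w z = wU m 0 (u + w) (v + z) := by
  rw [wU_mul hK]
  have h0 : (0 : K) ^ 3 ^ m = 0 := zero_pow (by positivity)
  congr 1 <;> simp [h0]

theorem wU0_inv (u v : K) : (wU m 0 u v)⁻¹ = wU m 0 (-u) (-v) := by
  apply inv_eq_of_mul_eq_one_right
  rw [wU0_mul hK, add_neg_cancel, add_neg_cancel, wU_zero]

theorem wU_split (t a b u v : K) : wU m t u v = wU m t a b * wU m 0 (u - a) (v - b) := by
  rw [wU_mul hK]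
  have h0 : (0 : K) ^ 3 ^ m = 0 := zero_pow (by positivity)
  congr 1 <;> simp [h0]

theorem exists_mu (hm : 1 ≤ m) : ∃ μ : Kˣ, μ ≠ 1 ∧ μ ≠ -1 := by
  classical
  have hc : 3 < Fintype.card K := by
    rw [hK]
    calc 3 = 3 ^ 1 := by norm_num
      _ < 3 ^ (2 * m + 1) := Nat.pow_lt_pow_right (by norm_num) (by omega)
  have : ∃ x : K, x ∉ ({0, 1, -1} : Finset K) := by
    by_contra hcon
    push Not at hcon
    have h1 : (Finset.univ : Finset K) ⊆ {0, 1, -1} := fun x _ => hcon x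
    have h2 := Finset.card_le_card h1
    have h3 : ({0, 1, -1} : Finset K).card ≤ 3 := Finset.card_le_three
    rw [Finset.card_univ] at h2
    omega
  obtain ⟨x, hx⟩ := this
  simp only [Finset.mem_insert, Finset.mem_singleton, not_or] at hx
  refine ⟨Units.mk0 x hx.1, ?_, ?_⟩
  · intro h; exact hx.2.1 (congrArg Units.val h)
  · intro h; exact hx.2.2 (congrArg Units.val h)

/-! ### perfectness -/

/-- the image of the commutator subgroup in the general linear group -/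
noncomputable def D1 (K : Type*) [Field K] (m : ℕ) : Subgroup (GL chevG2.Idx K) :=
  (commutator ↥(twistedG2 K (3 ^ m))).map (twistedG2 K (3 ^ m)).subtype

omit [Fintype K] [CharP K 3] hK in
theorem comm_mem_D1 {a b : GL chevG2.Idx K} (ha : a ∈ twistedG2 K (3 ^ m)) (hb : b ∈ twistedG2 K (3 ^ m)) :
    a * b * a⁻¹ * b⁻¹ ∈ D1 K m :=
  ⟨⁅(⟨a, ha⟩ : ↥(twistedG2 K (3 ^ m))), ⟨b, hb⟩⁆,
    Subgroup.commutator_mem_commutator (Subgroup.mem_top _) (Subgroup.mem_top _), rfl⟩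

omit [Fintype K] [CharP K 3] hK in
theorem conj_mem_D1 {g d : GL chevG2.Idx K} (hg : g ∈ twistedG2 K (3 ^ m)) (hd : d ∈ D1 K m) :
    g * d * g⁻¹ ∈ D1 K m := by
  obtain ⟨d', hd', rfl⟩ := hd
  have hn : (commutator ↥(twistedG2 K (3 ^ m))).Normal := inferInstance
  exact ⟨_, hn.conj_mem d' hd' ⟨g, hg⟩, rfl⟩

theorem wU00_mem (v : K) : wU m 0 0 v ∈ D1 K m := by
  have h := comm_mem_D1 (hh_mem hK (-1)) (wU_mem m 0 0 v)
  rw [hh_conj_wU hK, wU0_inv hK, mul_zero, mul_zero, wU0_mul hK] at h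
  have e : ((-1 : Kˣ) : K) * v + -v = v := by
    have h3 := three_eq_zero (K := K)
    simp only [Units.val_neg, Units.val_one]
    linear_combination (-v) * h3
  rwa [e, neg_zero, add_zero] at h

theorem wU0_mem (hm : 1 ≤ m) (u : K) : wU m 0 u 0 ∈ D1 K m := by
  obtain ⟨μ, h1, h2⟩ := exists_mu hK hm
  have hc : ch2 m μ - 1 ≠ 0 := by
    intro h
    rcases ch2_eq_one hK (sub_eq_zero.1 h) with h | h
    · exact h1 h
    · exact h2 h
  have h := comm_mem_D1 (hh_mem hK μ) (wU_mem m 0 (u / (ch2 m μ - 1)) 0)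
  rw [hh_conj_wU hK, wU0_inv hK, mul_zero, mul_zero, wU0_mul hK] at h
  have e : ch2 m μ * (u / (ch2 m μ - 1)) + -(u / (ch2 m μ - 1)) = u := by field_simp; ring
  rwa [e, neg_zero, add_zero] at h

theorem wUt_mem (t : K) : ∃ a b, wU m t a b ∈ D1 K m := by
  have h := comm_mem_D1 (hh_mem hK (-1)) (wU_mem m t 0 0)
  rw [hh_conj_wU hK] at h
  have hU : wU m (ch1 m (-1) * t) (ch2 m (-1) * 0) (((-1 : Kˣ) : K) * 0) * (wU m t 0 0)⁻¹ ∈
      chevG2.posUnipotent K ⊓ twistedG2 K (3 ^ m) :=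
    mul_mem ((mem_U1 hK).2 ⟨_, _, _, rfl⟩) (inv_mem ((mem_U1 hK).2 ⟨_, _, _, rfl⟩))
  obtain ⟨x, y, z, e⟩ := (mem_U1 hK).1 hU
  have e1 : wU m x y z * wU m t 0 0 = wU m (ch1 m (-1) * t) (ch2 m (-1) * 0) (((-1 : Kˣ) : K) * 0) := by
    rw [← e]; group
  rw [wU_mul hK] at e1
  have e2 := (wU_inj hK e1).1
  rw [ch1_neg_one] at e2
  have e3 : x = t := by
    have h3 := three_eq_zero (K := K)
    linear_combination e2 - t * h3
  rw [e, e3] at h
  exact ⟨y, z, h⟩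

theorem wU_mem_D1 (hm : 1 ≤ m) (t u v : K) : wU m t u v ∈ D1 K m := by
  obtain ⟨a, b, h⟩ := wUt_mem hK t
  rw [wU_split hK t a b u v]
  have e : wU m 0 (u - a) (v - b) = wU m 0 (u - a) 0 * wU m 0 0 (v - b) := by
    rw [wU0_mul hK, add_zero, zero_add]
  rw [e]
  exact mul_mem h (mul_mem (wU0_mem hK hm _) (wU00_mem hK _))

theorem n1_inv_conj_wV (t u v : K) : ∃ t' u' v', (n1 m)⁻¹ * wV m t u v * n1 m = wU m t' u' v' := by
  apply (mem_U1 hK).1
  refine ⟨?_, (twistedG2 K (3 ^ m)).mul_mem ((twistedG2 K (3 ^ m)).mul_mem ((twistedG2 K (3 ^ m)).inv_mem (n1_mem m))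
    (wV_mem _ _ _ _)) (n1_mem m)⟩
  rw [← U_eq hT (hR K)]
  obtain ⟨rf, pr, hW, π₀, hπ₀, h₀⟩ := setup (K := K)
  have hM0 := Mon_n1 hK hW hπ₀ h₀
  have h1 : ∀ r, ¬ (SS K).pos r → (SS K).pos (π₀⁻¹ r) := by
    intro r hr
    by_contra hcon
    have h2 : (SS K).pos ((SS K).neg (π₀⁻¹ r)) := (ok.pos_neg _).2 hcon
    have h3 := h₀ _ h2
    have e : π₀ (π₀⁻¹ r) = r := by simp
    rw [hM0.1, e] at h3
    exact h3 ((ok.pos_neg _).2 hr)
  have := hM0.inv.conj_XS (Ψ := fun r => ¬ (SS K).pos r) (Ψ' := (SS K).pos) h1 _ (wV_mem_V m t u v)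
  rwa [inv_inv] at this

theorem perfect (hm : 1 ≤ m) : commutator ↥(twistedG2 K (3 ^ m)) = ⊤ := by
  have h1 : twistedG2 K (3 ^ m) ≤ D1 K m := by
    conv_lhs => unfold twistedG2 ChevalleyDatum.genSubgroup
    rw [Subgroup.closure_le]
    rintro g ⟨w, ⟨t, u, v, rfl | rfl⟩, hg⟩
    · have : g = wU m t u v := Units.ext (by rw [hg]; exact (Helper22ChevBasic.coe_wordG hStd _).symm)
      rw [this]
      exact wU_mem_D1 hK hm t u v
    · have : g = wV m t u v := Units.ext (by rw [hg]; exact (Helper22ChevBasic.coe_wordG hStd _).symm)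
      rw [this]
      obtain ⟨t', u', v', e⟩ := n1_inv_conj_wV hK t u v
      have e' : wV m t u v = n1 m * wU m t' u' v' * (n1 m)⁻¹ := by rw [← e]; group
      rw [e']
      exact conj_mem_D1 (n1_mem m) (wU_mem_D1 hK hm _ _ _)
  rw [eq_top_iff]
  rintro ⟨g, hg⟩ _
  obtain ⟨d, hd, e⟩ := h1 hg
  have : d = ⟨g, hg⟩ := Subtype.ext e
  rwa [this] at hd

theorem simple (hm : 1 ≤ m) :
    IsSimpleGroup ↥(twistedG2 K (3 ^ m)) ∧ ¬ IsMulCommutative ↥(twistedG2 K (3 ^ m)) := by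
  have hnt : Nontrivial ↥(twistedG2 K (3 ^ m)) :=
    ⟨⟨⟨_, wU_mem m 0 0 1⟩, 1, fun h => wU_ne_one hK (congrArg Subtype.val h)⟩⟩
  have hperf := perfect hK hm
  have hsolv : Group.IsSolvable ↥((chevG2.borelSubgroup K ⊓ twistedG2 K (3 ^ m)).subgroupOf (twistedG2 K (3 ^ m))) := by
    have := Cfsg.Agent.Lib.Helper23Main.s1050 hT (hR K)
    exact Group.isSolvable_of_isSolvable_injective
      (f := (Subgroup.inclusion (inf_le_left : chevG2.borelSubgroup K ⊓ twistedG2 K (3 ^ m) ≤ chevG2.borelSubgroup K)).comp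
        (Subgroup.subgroupOfEquivOfLe (inf_le_right : chevG2.borelSubgroup K ⊓ twistedG2 K (3 ^ m) ≤ _)).toMonoidHom)
      ((Subgroup.inclusion_injective inf_le_left).comp (Subgroup.subgroupOfEquivOfLe inf_le_right).injective)
  refine ⟨(r1 hK).simple hsolv hperf (cent_triv hK), fun hcomm => ?_⟩
  have h1 : commutator ↥(twistedG2 K (3 ^ m)) = ⊥ := by
    rw [commutator_def, Subgroup.commutator_eq_bot_iff_le_centralizer]
    intro a _
    rw [Subgroup.mem_centralizer_iff]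
    intro b _
    exact hcomm.is_comm.comm b a
  rw [h1] at hperf
  exact bot_ne_top hperf

end main

end Cfsg.Agent.Lib.Helper8Ree11
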