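import Cfsg.Agent.Lib.Helper8Ree11

set_option autoImplicit false
set_option linter.unusedSectionVars false

namespace Cfsg.Agent.Lib.Helper8Ree12

open Cfsg.Lie Cfsg.Agent.Lib.Helper22ChevBasic Cfsg.Agent.Lib.Helper8Ree2 Cfsg.Agent.Lib.Helper8Ree3
  Cfsg.Agent.Lib.Helper23Chev Cfsg.Agent.Lib.Helper23RG Cfsg.Agent.Lib.Helper23Table Cfsg.Agent.Lib.Helper8Ree5
  Cfsg.Agent.Lib.Helper8Ree6 Cfsg.Agent.Lib.Helper8Ree7 Cfsg.Agent.Lib.Helper8Ree8 Cfsg.Agent.Lib.Helper8Ree9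
  Cfsg.Agent.Lib.Helper8Ree10 Cfsg.Agent.Lib.Helper8Ree11
  Cfsg.Agent.Lib.Helper23Diag Cfsg.Agent.Lib.Helper22ChevU Cfsg.Agent.Lib.Helper8Rank1

/-- Sylow subgroups of a split rank one group intersect trivially -/
theorem sylow_ti {Γ : Type*} [Group Γ] [Finite Γ] {B N U H : Subgroup Γ} {n : Γ} (R : R1 B N U H n)
    {p : ℕ} [Fact p.Prime] (S₀ : Sylow p Γ) (hS : (S₀ : Subgroup Γ) = U) (P Q : Sylow p Γ) (hPQ : P ≠ Q) :
    (P : Subgroup Γ) ⊓ (Q : Subgroup Γ) = ⊥ := by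
  obtain ⟨a, rfl⟩ := MulAction.exists_smul_eq Γ S₀ P
  obtain ⟨b, rfl⟩ := MulAction.exists_smul_eq Γ S₀ Q
  have hmem : ∀ (g x : Γ), x ∈ ((g • S₀ : Sylow p Γ) : Subgroup Γ) ↔ g⁻¹ * x * g ∈ U := by
    intro g x
    rw [Sylow.coe_subgroup_smul, Subgroup.mem_pointwise_smul_iff_inv_smul_mem, hS]
    simp [MulAut.smul_def, MulAut.conj_apply]
  rw [eq_bot_iff]
  rintro x ⟨h1, h2⟩
  have h1' := (hmem a x).1 h1
  have h2' := (hmem b x).1 h2
  rw [Subgroup.mem_bot]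
  by_cases hg : a⁻¹ * b ∈ B
  · exfalso
    apply hPQ
    have hn : (a⁻¹ * b) • S₀ = S₀ := by
      rw [Sylow.smul_eq_iff_mem_normalizer]
      show a⁻¹ * b ∈ Subgroup.normalizer ((S₀ : Subgroup Γ) : Set Γ)
      rw [hS, Subgroup.mem_normalizer_iff]
      intro h
      constructor
      · intro hh
        exact R.bU hg hh
      · intro hh
        have := R.bU (B.inv_mem hg) hh
        have e : (a⁻¹ * b)⁻¹ * ((a⁻¹ * b) * h * (a⁻¹ * b)⁻¹) * (a⁻¹ * b)⁻¹⁻¹ = h := by group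
        rwa [e] at this
    calc a • S₀ = a • ((a⁻¹ * b) • S₀) := by rw [hn]
      _ = b • S₀ := by rw [smul_smul, mul_inv_cancel_left]
  · have h3 := R.ti hg h1' (by
      have e : (a⁻¹ * b)⁻¹ * (a⁻¹ * x * a) * (a⁻¹ * b) = b⁻¹ * x * b := by group
      rw [e]; exact h2')
    have : x = a * (a⁻¹ * x * a) * a⁻¹ := by group
    rw [this, h3]; group

theorem card_le_two {G : Type*} [Group G] (S : Subgroup G) (a : G) (h : ∀ g ∈ S, g = 1 ∨ g = a) : Nat.card S ≤ 2 := by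
  have h1 : (S : Set G) ⊆ {1, a} := fun g hg => h g hg
  calc Nat.card S = Set.ncard (S : Set G) := Nat.card_coe_set_eq _
    _ ≤ Set.ncard ({1, a} : Set G) := Set.ncard_le_ncard h1 (Set.toFinite _)
    _ ≤ Set.ncard ({a} : Set G) + 1 := Set.ncard_insert_le _ _
    _ = 2 := by rw [Set.ncard_singleton]

theorem card_eq_two {G : Type*} [Group G] (S : Subgroup G) (a : G) (ha : a ≠ 1) (haS : a ∈ S)
    (h : ∀ g ∈ S, g = 1 ∨ g = a) : Nat.card S = 2 := by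
  have h1 : (S : Set G) = {1, a} := by
    apply Set.Subset.antisymm (fun g hg => h g hg)
    rintro g (rfl | rfl)
    · exact S.one_mem
    · exact haS
  calc Nat.card S = Set.ncard (S : Set G) := Nat.card_coe_set_eq _
    _ = Set.ncard ({1, a} : Set G) := by rw [h1]
    _ = 2 := Set.ncard_pair ha.symm

variable {K : Type*} [Field K] [Fintype K] [CharP K 3]

section main

variable {m : ℕ} (hK : Fintype.card K = 3 ^ (2 * m + 1))
include hK

theorem fact_G1 : (Nat.card ↥(twistedG2 K (3 ^ m))).factorization 3 = 3 * (2 * m + 1) := by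
  rw [card_G1 hK]
  set k := 2 * m + 1 with hk
  have hq : ∃ j, 3 ^ k = 3 * j + 3 := ⟨3 ^ (2 * m) - 1, by
    have : 0 < 3 ^ (2 * m) := by positivity
    rw [hk, pow_succ]; omega⟩
  obtain ⟨j, hj⟩ := hq
  have h1 : ¬ 3 ∣ (3 ^ k - 1) := by rw [hj]; omega
  have h2 : ¬ 3 ∣ ((3 ^ k) ^ 3 + 1) := by
    have : (3 ^ k) ^ 3 = 3 * ((j + 1) * (3 ^ k) ^ 2) := by
      calc (3 ^ k) ^ 3 = 3 ^ k * (3 ^ k) ^ 2 := by ring
        _ = (3 * j + 3) * (3 ^ k) ^ 2 := by rw [← hj]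
        _ = _ := by ring
    rw [this]; omega
  have n1 : (3 ^ k) ^ 3 ≠ 0 := by positivity
  have n2 : 3 ^ k - 1 ≠ 0 := by rw [hj]; omega
  have n3 : (3 ^ k) ^ 3 + 1 ≠ 0 := by positivity
  rw [Nat.factorization_mul (mul_ne_zero n1 n2) n3, Nat.factorization_mul n1 n2, Finsupp.add_apply, Finsupp.add_apply,
    Nat.factorization_eq_zero_of_not_dvd h1, Nat.factorization_eq_zero_of_not_dvd h2, ← pow_mul,
    Nat.Prime.factorization_pow Nat.prime_three]
  simp [mul_comm]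

theorem sylow3_ti (P Q : Sylow 3 ↥(twistedG2 K (3 ^ m))) (hPQ : P ≠ Q) :
    (P : Subgroup ↥(twistedG2 K (3 ^ m))) ⊓ (Q : Subgroup ↥(twistedG2 K (3 ^ m))) = ⊥ := by
  have : Fact (Nat.Prime 3) := ⟨Nat.prime_three⟩
  have hc : Nat.card ↥((chevG2.posUnipotent K ⊓ twistedG2 K (3 ^ m)).subgroupOf (twistedG2 K (3 ^ m))) =
      3 ^ (Nat.card ↥(twistedG2 K (3 ^ m))).factorization 3 := by
    rw [card_sub, card_U1 hK, fact_G1 hK, ← pow_mul, mul_comm]
  exact sylow_ti (r1 hK) (Sylow.ofCard _ hc) rfl P Q hPQ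

/-! ### centralisers of unipotent elements in the torus -/

theorem cent_cases {μ : Kˣ} {t u v : K} (hne : wU m t u v ≠ 1) (hc : hh m μ * wU m t u v = wU m t u v * hh m μ) :
    μ = 1 ∨ μ = -1 := by
  obtain ⟨a, b, c⟩ := (comm_iff hK μ t u v).1 hc
  by_cases ht : t = 0
  · by_cases hv : v = 0
    · by_cases hu : u = 0
      · exfalso; apply hne; rw [ht, hu, hv, wU_zero]
      · exact ch2_eq_one hK (mul_right_cancel₀ hu (b.trans (one_mul u).symm))
    · left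
      exact Units.ext (mul_right_cancel₀ hv (c.trans (one_mul v).symm))
  · left
    exact ch1_eq_one hK (mul_right_cancel₀ ht (a.trans (one_mul t).symm))

theorem neg_one_ne_one : (-1 : Kˣ) ≠ 1 := by
  intro h
  have h1 : (-1 : K) = 1 := congrArg Units.val h
  have h3 := three_eq_zero (K := K)
  have : (1 : K) = 0 := by linear_combination h3 + h1
  exact one_ne_zero this

theorem s1153 :
    (∀ x y z : ↥(twistedG2 K (3 ^ m)) ⧸ ((chevG2.borelSubgroup K ⊓ twistedG2 K (3 ^ m))).subgroupOf (twistedG2 K (3 ^ m)),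
      x ≠ y → x ≠ z → y ≠ z →
        Nat.card ↥(MulAction.stabilizer ↥(twistedG2 K (3 ^ m)) x ⊓ MulAction.stabilizer ↥(twistedG2 K (3 ^ m)) y ⊓
          MulAction.stabilizer ↥(twistedG2 K (3 ^ m)) z) ≤ 2) ∧
      ∃ x y z : ↥(twistedG2 K (3 ^ m)) ⧸ ((chevG2.borelSubgroup K ⊓ twistedG2 K (3 ^ m))).subgroupOf (twistedG2 K (3 ^ m)),
        x ≠ y ∧ x ≠ z ∧ y ≠ z ∧
        Nat.card ↥(MulAction.stabilizer ↥(twistedG2 K (3 ^ m)) x ⊓ MulAction.stabilizer ↥(twistedG2 K (3 ^ m)) y ⊓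
          MulAction.stabilizer ↥(twistedG2 K (3 ^ m)) z) = 2 := by
  set a : ↥(twistedG2 K (3 ^ m)) := ⟨hh m (-1), hh_mem hK _⟩ with ha
  have hsub : ∀ u ∈ (chevG2.posUnipotent K ⊓ twistedG2 K (3 ^ m)).subgroupOf (twistedG2 K (3 ^ m)), u ≠ 1 →
      ∀ g ∈ ((chevG2.diagonalSubgroup K ⊓ twistedG2 K (3 ^ m)).subgroupOf (twistedG2 K (3 ^ m)) ⊓
        Subgroup.centralizer {u} : Subgroup ↥(twistedG2 K (3 ^ m))), g = 1 ∨ g = a := by
    rintro ⟨u, hu⟩ hu' hne ⟨g, hg⟩ hg'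
    rw [Subgroup.mem_inf, Subgroup.mem_centralizer_singleton_iff, Subgroup.mem_subgroupOf] at hg'
    rw [Subgroup.mem_subgroupOf] at hu'
    obtain ⟨h1, h2⟩ := hg'
    obtain ⟨t, u', v, rfl⟩ := (mem_U1 hK).1 hu'
    obtain ⟨μ, rfl⟩ := (mem_H1 hK).1 h1
    rcases cent_cases hK (fun h => hne (Subtype.ext h)) (congrArg Subtype.val h2) with rfl | rfl
    · left; exact Subtype.ext (map_one _)
    · right; rfl
  constructor
  · intro x y z hxy hxz hyz
    obtain ⟨u, hu, hne, hc⟩ := (r1 hK).three_pt x y z hxy hxz hyz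
    rw [hc]
    exact card_le_two _ a (hsub u hu hne)
  · have hu : (⟨wU m 0 1 0, wU_mem _ _ _ _⟩ : ↥(twistedG2 K (3 ^ m))) ∈
        (chevG2.posUnipotent K ⊓ twistedG2 K (3 ^ m)).subgroupOf (twistedG2 K (3 ^ m)) :=
      (mem_U1 hK).2 ⟨_, _, _, rfl⟩
    have hne : (⟨wU m 0 1 0, wU_mem _ _ _ _⟩ : ↥(twistedG2 K (3 ^ m))) ≠ 1 := by
      intro h
      exact one_ne_zero (wU_eq_one (congrArg Subtype.val h)).2.1
    obtain ⟨x, y, z, hxy, hxz, hyz, hc⟩ := (r1 hK).three_pt' hu hne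
    refine ⟨x, y, z, hxy, hxz, hyz, ?_⟩
    rw [hc]
    refine card_eq_two _ a ?_ ?_ (hsub _ hu hne)
    · intro h
      have h1 : hh m (-1 : Kˣ) = hh m (1 : Kˣ) := by rw [map_one]; exact congrArg Subtype.val h
      exact neg_one_ne_one hK (hh_inj m h1)
    · rw [Subgroup.mem_inf, Subgroup.mem_centralizer_singleton_iff, Subgroup.mem_subgroupOf]
      refine ⟨(mem_H1 hK).2 ⟨_, rfl⟩, ?_⟩
      apply Subtype.ext
      exact (comm_iff hK (-1) 0 1 0).2 ⟨by simp, by rw [ch2_neg_one, one_mul], by simp⟩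

/-! ### elements of odd order in the torus -/

theorem card_odd : 2 * Nat.card {μ : Kˣ // Odd (orderOf μ)} = 3 ^ (2 * m + 1) - 1 := by
  classical
  obtain ⟨k, hk⟩ : ∃ k, 3 ^ (2 * m + 1) - 1 = 2 * (2 * k + 1) := by
    have h1 : 3 ^ (2 * m + 1) % 4 = 3 := by
      rw [pow_succ, pow_mul]
      simp [Nat.mul_mod, Nat.pow_mod]
    exact ⟨(3 ^ (2 * m + 1) - 3) / 4, by omega⟩
  have hodd : ∀ μ : Kˣ, Odd (orderOf μ) ↔ μ ^ (2 * k + 1) = 1 := by
    intro μ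
    constructor
    · intro h
      rw [← orderOf_dvd_iff_pow_eq_one]
      have h1 : orderOf μ ∣ 2 * (2 * k + 1) := by
        rw [← hk, orderOf_dvd_iff_pow_eq_one]; exact units_pow_card hK μ
      exact (Nat.Coprime.dvd_mul_left (Nat.Coprime.symm (Nat.coprime_two_left.2 h))).1 h1
    · intro h
      have h1 := orderOf_dvd_iff_pow_eq_one.2 h
      exact Odd.of_dvd_nat ⟨k, rfl⟩ h1
  have hpm : ∀ μ : Kˣ, μ ^ (2 * k + 1) = 1 ∨ μ ^ (2 * k + 1) = -1 := by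
    intro μ
    have h1 : (μ ^ (2 * k + 1)) ^ 2 = 1 := by
      rw [← pow_mul, mul_comm, ← hk, units_pow_card hK]
    have : ((μ ^ (2 * k + 1) : Kˣ) : K) ^ 2 = 1 := by
      rw [← Units.val_pow_eq_pow_val, h1]; rfl
    rcases sq_eq_one_iff.1 this with h | h
    · left; exact Units.ext h
    · right; exact Units.ext h
  have hneg : ∀ μ : Kˣ, (-μ) ^ (2 * k + 1) = -(μ ^ (2 * k + 1)) := fun μ => Odd.neg_pow ⟨k, rfl⟩ μ
  have e : {μ : Kˣ // Odd (orderOf μ)} ≃ {μ : Kˣ // ¬ Odd (orderOf μ)} :=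
    { toFun := fun μ => ⟨-μ.1, by
        rw [hodd, hneg, (hodd _).1 μ.2]
        exact neg_one_ne_one hK⟩
      invFun := fun μ => ⟨-μ.1, by
        rw [hodd, hneg]
        rcases hpm μ.1 with h | h
        · exact absurd ((hodd _).2 h) μ.2
        · rw [h, neg_neg]⟩
      left_inv := fun μ => Subtype.ext (neg_neg _)
      right_inv := fun μ => Subtype.ext (neg_neg _) }
  have h1 : Nat.card Kˣ = 3 ^ (2 * m + 1) - 1 := by
    rw [Nat.card_units, Nat.card_eq_fintype_card, hK]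
  have h2 : Nat.card Kˣ = Nat.card {μ : Kˣ // Odd (orderOf μ)} + Nat.card {μ : Kˣ // ¬ Odd (orderOf μ)} := by
    rw [← Nat.card_sum]
    exact Nat.card_congr (Equiv.sumCompl _).symm
  rw [← Nat.card_congr e] at h2
  omega

theorem s1151 :
    2 * Nat.card {h : ↥(chevG2.diagonalSubgroup K ⊓ twistedG2 K (3 ^ m)) // Odd (orderOf h)} = 3 ^ (2 * m + 1) - 1 ∧
      ∀ h ∈ (chevG2.diagonalSubgroup K ⊓ twistedG2 K (3 ^ m)), h ≠ 1 → Odd (orderOf h) →
        (chevG2.posUnipotent K ⊓ twistedG2 K (3 ^ m)) ⊓ Subgroup.centralizer {h} = ⊥ := by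
  constructor
  · rw [← card_odd hK]
    congr 1
    apply Nat.card_congr
    exact ((equivH hK).toEquiv.subtypeEquiv (fun μ => by
      show Odd (orderOf μ) ↔ Odd (orderOf (equivH hK μ))
      rw [MulEquiv.orderOf_eq])).symm
  · intro h hh' hne hodd
    obtain ⟨μ, rfl⟩ := (mem_H1 hK).1 hh'
    rw [eq_bot_iff]
    rintro g ⟨hg1, hg2⟩
    obtain ⟨t, u, v, rfl⟩ := (mem_U1 hK).1 hg1
    have hg3 : wU m t u v * hh m μ = hh m μ * wU m t u v := Subgroup.mem_centralizer_singleton_iff.1 hg2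
    rw [Subgroup.mem_bot]
    by_contra hcon
    rcases cent_cases hK hcon hg3.symm with rfl | rfl
    · exact hne (map_one _)
    · rw [orderOf_injective (hh m) (hh_inj m)] at hodd
      have : orderOf (-1 : Kˣ) = 2 := by
        rw [orderOf_eq_prime_iff]
        exact ⟨by simp, neg_one_ne_one hK⟩
      rw [this] at hodd
      exact absurd hodd (by decide)

/-! ### elements of order three -/

theorem wU_cube (t u v : K) : wU m t u v ^ 3 = wU m 0 0 (-(t ^ 2 * (t ^ 3 ^ m) ^ 3)) := by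
  have h3 := three_eq_zero (K := K)
  rw [pow_succ, pow_two, wU_mul hK, wU_mul hK]
  congr 1
  · linear_combination t * h3
  · linear_combination (u - t * (t ^ 3 ^ m) ^ 3) * h3
  · linear_combination (v - t * u) * h3

theorem order_three (t u v : K) : orderOf (wU m t u v) = 3 ↔ t = 0 ∧ (u, v) ≠ (0, 0) := by
  have : Fact (Nat.Prime 3) := ⟨Nat.prime_three⟩
  rw [orderOf_eq_prime_iff, wU_cube hK]
  constructor
  · rintro ⟨h1, h2⟩
    have h3 := (wU_eq_one h1).2.2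
    have ht : t = 0 := by
      by_contra hne
      exact (neg_ne_zero.2 (mul_ne_zero (pow_ne_zero _ hne) (pow_ne_zero _ (pow_ne_zero _ hne)))) h3
    refine ⟨ht, fun h => h2 ?_⟩
    rw [Prod.mk.injEq] at h
    rw [ht, h.1, h.2, wU_zero]
  · rintro ⟨rfl, h⟩
    refine ⟨by simp [wU_zero], fun h1 => h ?_⟩
    obtain ⟨-, a, b⟩ := wU_eq_one h1
    rw [a, b]

theorem s1154 : Nat.card {u : ↥(chevG2.posUnipotent K ⊓ twistedG2 K (3 ^ m)) // orderOf u = 3} =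
    (3 ^ (2 * m + 1)) ^ 2 - 1 := by
  classical
  have e : {p : K × K // p ≠ (0, 0)} ≃ {u : ↥(chevG2.posUnipotent K ⊓ twistedG2 K (3 ^ m)) // orderOf u = 3} :=
    Equiv.ofBijective (fun p => ⟨⟨wU m 0 p.1.1 p.1.2, (mem_U1 hK).2 ⟨_, _, _, rfl⟩⟩, by
      rw [← Subgroup.orderOf_coe]
      exact (order_three hK _ _ _).2 ⟨rfl, p.2⟩⟩) ⟨by
        rintro ⟨⟨a, b⟩, h⟩ ⟨⟨a', b'⟩, h'⟩ e
        have e1 : wU m 0 a b = wU m 0 a' b' := congrArg (fun x => x.1.1) e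
        obtain ⟨-, rfl, rfl⟩ := wU_inj hK e1
        rfl, by
        rintro ⟨⟨g, hg⟩, ho⟩
        obtain ⟨t, u, v, rfl⟩ := (mem_U1 hK).1 hg
        rw [← Subgroup.orderOf_coe] at ho
        obtain ⟨rfl, h⟩ := (order_three hK _ _ _).1 ho
        exact ⟨⟨(u, v), h⟩, rfl⟩⟩
  rw [← Nat.card_congr e, Nat.card_eq_fintype_card, Fintype.card_subtype_compl, Fintype.card_subtype_eq,
    Fintype.card_prod, hK]
  ring_nf

end main

end Cfsg.Agent.Lib.Helper8Ree12
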