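import Cfsg.Agent.Lib.Helper8Ree1

set_option autoImplicit false

namespace Cfsg.Agent.Lib.Helper8Ree13

open Cfsg.Lie Cfsg.Agent.Lib.Helper22ChevEngine Cfsg.Agent.Lib.Helper22ChevFast Cfsg.Agent.Lib.Helper22ChevX
  Cfsg.Agent.Lib.Helper22ChevWord Cfsg.Agent.Lib.Helper22ChevTabG2 Cfsg.Agent.Lib.Helper8Ree1

variable {F : Type*} [Field F] [CharP F 3]

set_option linter.unusedSimpArgs false

def N3_0L : List (ℕ × Vec) := [(8, [Tm.mk 0 1 1 0]), (10, [Tm.mk 0 1 1 0]), (3, [Tm.mk 0 1 0 1]), (1, [Tm.mk 0 1 0 1]), (8, [Tm.mk 0 1 1 0]), (10, [Tm.mk 0 1 1 0]), (0, [Tm.mk 0 2 1 0])]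
def N3_0R : List (ℕ × Vec) := [(11, [Tm.mk 0 2 0 1]), (8, [Tm.mk 0 1 1 0]), (10, [Tm.mk 0 1 1 0]), (3, [Tm.mk 0 1 0 1]), (1, [Tm.mk 0 1 0 1]), (8, [Tm.mk 0 1 1 0]), (10, [Tm.mk 0 1 1 0])]

set_option maxRecDepth 100000 in
theorem N3_0_chk : chkW3 N3_0L N3_0R = true := by decide +kernel

theorem N3_0 (t : F) :
    chevG2.wordMat F [(8, 1), (10, 1), (3, -1), (1, -1), (8, 1), (10, 1), (0, t)] =
      chevG2.wordMat F [(11, -t), (8, 1), (10, 1), (3, -1), (1, -1), (8, 1), (10, 1)] := by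
  let g : ℕ → F := fun p => if p = 2 then t else 0
  have h2 : rho g 2 = t := by rw [rho_prime g (by norm_num)]; simp [g]
  have h := word_eq3 (rho g) (rho_mul g) (rho_one g) N3_0L N3_0R (by decide) (by decide) N3_0_chk
  have e1 : (N3_0L.map fun a => (a.1, evalP (rho g) a.2)) = [(8, 1), (10, 1), (3, -1), (1, -1), (8, 1), (10, 1), (0, t)] := by
    simp only [N3_0L, List.map_cons, List.map_nil, evalP_cons, evalP_nil, Tm.val, rho_mul, rho_one, h2]
    all_goals (try simp only [List.cons.injEq, Prod.mk.injEq, true_and, and_true])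
    all_goals (try (constructorm* _ ∧ _ <;> (push_cast; ring)))
  have e2 : (N3_0R.map fun a => (a.1, evalP (rho g) a.2)) = [(11, -t), (8, 1), (10, 1), (3, -1), (1, -1), (8, 1), (10, 1)] := by
    simp only [N3_0R, List.map_cons, List.map_nil, evalP_cons, evalP_nil, Tm.val, rho_mul, rho_one, h2]
    all_goals (try simp only [List.cons.injEq, Prod.mk.injEq, true_and, and_true])
    all_goals (try (constructorm* _ ∧ _ <;> (push_cast; ring)))
  rw [e1, e2] at h
  exact h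

def N3_1L : List (ℕ × Vec) := [(8, [Tm.mk 0 1 1 0]), (10, [Tm.mk 0 1 1 0]), (3, [Tm.mk 0 1 0 1]), (1, [Tm.mk 0 1 0 1]), (8, [Tm.mk 0 1 1 0]), (10, [Tm.mk 0 1 1 0]), (1, [Tm.mk 0 2 1 0])]
def N3_1R : List (ℕ × Vec) := [(10, [Tm.mk 0 2 0 1]), (8, [Tm.mk 0 1 1 0]), (10, [Tm.mk 0 1 1 0]), (3, [Tm.mk 0 1 0 1]), (1, [Tm.mk 0 1 0 1]), (8, [Tm.mk 0 1 1 0]), (10, [Tm.mk 0 1 1 0])]

set_option maxRecDepth 100000 in
theorem N3_1_chk : chkW3 N3_1L N3_1R = true := by decide +kernel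

theorem N3_1 (t : F) :
    chevG2.wordMat F [(8, 1), (10, 1), (3, -1), (1, -1), (8, 1), (10, 1), (1, t)] =
      chevG2.wordMat F [(10, -t), (8, 1), (10, 1), (3, -1), (1, -1), (8, 1), (10, 1)] := by
  let g : ℕ → F := fun p => if p = 2 then t else 0
  have h2 : rho g 2 = t := by rw [rho_prime g (by norm_num)]; simp [g]
  have h := word_eq3 (rho g) (rho_mul g) (rho_one g) N3_1L N3_1R (by decide) (by decide) N3_1_chk
  have e1 : (N3_1L.map fun a => (a.1, evalP (rho g) a.2)) = [(8, 1), (10, 1), (3, -1), (1, -1), (8, 1), (10, 1), (1, t)] := by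
    simp only [N3_1L, List.map_cons, List.map_nil, evalP_cons, evalP_nil, Tm.val, rho_mul, rho_one, h2]
    all_goals (try simp only [List.cons.injEq, Prod.mk.injEq, true_and, and_true])
    all_goals (try (constructorm* _ ∧ _ <;> (push_cast; ring)))
  have e2 : (N3_1R.map fun a => (a.1, evalP (rho g) a.2)) = [(10, -t), (8, 1), (10, 1), (3, -1), (1, -1), (8, 1), (10, 1)] := by
    simp only [N3_1R, List.map_cons, List.map_nil, evalP_cons, evalP_nil, Tm.val, rho_mul, rho_one, h2]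
    all_goals (try simp only [List.cons.injEq, Prod.mk.injEq, true_and, and_true])
    all_goals (try (constructorm* _ ∧ _ <;> (push_cast; ring)))
  rw [e1, e2] at h
  exact h

def N3_2L : List (ℕ × Vec) := [(8, [Tm.mk 0 1 1 0]), (10, [Tm.mk 0 1 1 0]), (3, [Tm.mk 0 1 0 1]), (1, [Tm.mk 0 1 0 1]), (8, [Tm.mk 0 1 1 0]), (10, [Tm.mk 0 1 1 0]), (2, [Tm.mk 0 2 1 0])]
def N3_2R : List (ℕ × Vec) := [(9, [Tm.mk 0 2 0 1]), (8, [Tm.mk 0 1 1 0]), (10, [Tm.mk 0 1 1 0]), (3, [Tm.mk 0 1 0 1]), (1, [Tm.mk 0 1 0 1]), (8, [Tm.mk 0 1 1 0]), (10, [Tm.mk 0 1 1 0])]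

set_option maxRecDepth 100000 in
theorem N3_2_chk : chkW3 N3_2L N3_2R = true := by decide +kernel

theorem N3_2 (t : F) :
    chevG2.wordMat F [(8, 1), (10, 1), (3, -1), (1, -1), (8, 1), (10, 1), (2, t)] =
      chevG2.wordMat F [(9, -t), (8, 1), (10, 1), (3, -1), (1, -1), (8, 1), (10, 1)] := by
  let g : ℕ → F := fun p => if p = 2 then t else 0
  have h2 : rho g 2 = t := by rw [rho_prime g (by norm_num)]; simp [g]
  have h := word_eq3 (rho g) (rho_mul g) (rho_one g) N3_2L N3_2R (by decide) (by decide) N3_2_chk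
  have e1 : (N3_2L.map fun a => (a.1, evalP (rho g) a.2)) = [(8, 1), (10, 1), (3, -1), (1, -1), (8, 1), (10, 1), (2, t)] := by
    simp only [N3_2L, List.map_cons, List.map_nil, evalP_cons, evalP_nil, Tm.val, rho_mul, rho_one, h2]
    all_goals (try simp only [List.cons.injEq, Prod.mk.injEq, true_and, and_true])
    all_goals (try (constructorm* _ ∧ _ <;> (push_cast; ring)))
  have e2 : (N3_2R.map fun a => (a.1, evalP (rho g) a.2)) = [(9, -t), (8, 1), (10, 1), (3, -1), (1, -1), (8, 1), (10, 1)] := by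
    simp only [N3_2R, List.map_cons, List.map_nil, evalP_cons, evalP_nil, Tm.val, rho_mul, rho_one, h2]
    all_goals (try simp only [List.cons.injEq, Prod.mk.injEq, true_and, and_true])
    all_goals (try (constructorm* _ ∧ _ <;> (push_cast; ring)))
  rw [e1, e2] at h
  exact h

def N3_3L : List (ℕ × Vec) := [(8, [Tm.mk 0 1 1 0]), (10, [Tm.mk 0 1 1 0]), (3, [Tm.mk 0 1 0 1]), (1, [Tm.mk 0 1 0 1]), (8, [Tm.mk 0 1 1 0]), (10, [Tm.mk 0 1 1 0]), (3, [Tm.mk 0 2 1 0])]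
def N3_3R : List (ℕ × Vec) := [(8, [Tm.mk 0 2 0 1]), (8, [Tm.mk 0 1 1 0]), (10, [Tm.mk 0 1 1 0]), (3, [Tm.mk 0 1 0 1]), (1, [Tm.mk 0 1 0 1]), (8, [Tm.mk 0 1 1 0]), (10, [Tm.mk 0 1 1 0])]

set_option maxRecDepth 100000 in
theorem N3_3_chk : chkW3 N3_3L N3_3R = true := by decide +kernel

theorem N3_3 (t : F) :
    chevG2.wordMat F [(8, 1), (10, 1), (3, -1), (1, -1), (8, 1), (10, 1), (3, t)] =
      chevG2.wordMat F [(8, -t), (8, 1), (10, 1), (3, -1), (1, -1), (8, 1), (10, 1)] := by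
  let g : ℕ → F := fun p => if p = 2 then t else 0
  have h2 : rho g 2 = t := by rw [rho_prime g (by norm_num)]; simp [g]
  have h := word_eq3 (rho g) (rho_mul g) (rho_one g) N3_3L N3_3R (by decide) (by decide) N3_3_chk
  have e1 : (N3_3L.map fun a => (a.1, evalP (rho g) a.2)) = [(8, 1), (10, 1), (3, -1), (1, -1), (8, 1), (10, 1), (3, t)] := by
    simp only [N3_3L, List.map_cons, List.map_nil, evalP_cons, evalP_nil, Tm.val, rho_mul, rho_one, h2]
    all_goals (try simp only [List.cons.injEq, Prod.mk.injEq, true_and, and_true])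
    all_goals (try (constructorm* _ ∧ _ <;> (push_cast; ring)))
  have e2 : (N3_3R.map fun a => (a.1, evalP (rho g) a.2)) = [(8, -t), (8, 1), (10, 1), (3, -1), (1, -1), (8, 1), (10, 1)] := by
    simp only [N3_3R, List.map_cons, List.map_nil, evalP_cons, evalP_nil, Tm.val, rho_mul, rho_one, h2]
    all_goals (try simp only [List.cons.injEq, Prod.mk.injEq, true_and, and_true])
    all_goals (try (constructorm* _ ∧ _ <;> (push_cast; ring)))
  rw [e1, e2] at h
  exact h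

def N3_4L : List (ℕ × Vec) := [(8, [Tm.mk 0 1 1 0]), (10, [Tm.mk 0 1 1 0]), (3, [Tm.mk 0 1 0 1]), (1, [Tm.mk 0 1 0 1]), (8, [Tm.mk 0 1 1 0]), (10, [Tm.mk 0 1 1 0]), (4, [Tm.mk 0 2 1 0])]
def N3_4R : List (ℕ × Vec) := [(7, [Tm.mk 0 2 0 1]), (8, [Tm.mk 0 1 1 0]), (10, [Tm.mk 0 1 1 0]), (3, [Tm.mk 0 1 0 1]), (1, [Tm.mk 0 1 0 1]), (8, [Tm.mk 0 1 1 0]), (10, [Tm.mk 0 1 1 0])]

set_option maxRecDepth 100000 in
theorem N3_4_chk : chkW3 N3_4L N3_4R = true := by decide +kernel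

theorem N3_4 (t : F) :
    chevG2.wordMat F [(8, 1), (10, 1), (3, -1), (1, -1), (8, 1), (10, 1), (4, t)] =
      chevG2.wordMat F [(7, -t), (8, 1), (10, 1), (3, -1), (1, -1), (8, 1), (10, 1)] := by
  let g : ℕ → F := fun p => if p = 2 then t else 0
  have h2 : rho g 2 = t := by rw [rho_prime g (by norm_num)]; simp [g]
  have h := word_eq3 (rho g) (rho_mul g) (rho_one g) N3_4L N3_4R (by decide) (by decide) N3_4_chk
  have e1 : (N3_4L.map fun a => (a.1, evalP (rho g) a.2)) = [(8, 1), (10, 1), (3, -1), (1, -1), (8, 1), (10, 1), (4, t)] := by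
    simp only [N3_4L, List.map_cons, List.map_nil, evalP_cons, evalP_nil, Tm.val, rho_mul, rho_one, h2]
    all_goals (try simp only [List.cons.injEq, Prod.mk.injEq, true_and, and_true])
    all_goals (try (constructorm* _ ∧ _ <;> (push_cast; ring)))
  have e2 : (N3_4R.map fun a => (a.1, evalP (rho g) a.2)) = [(7, -t), (8, 1), (10, 1), (3, -1), (1, -1), (8, 1), (10, 1)] := by
    simp only [N3_4R, List.map_cons, List.map_nil, evalP_cons, evalP_nil, Tm.val, rho_mul, rho_one, h2]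
    all_goals (try simp only [List.cons.injEq, Prod.mk.injEq, true_and, and_true])
    all_goals (try (constructorm* _ ∧ _ <;> (push_cast; ring)))
  rw [e1, e2] at h
  exact h

def N3_5L : List (ℕ × Vec) := [(8, [Tm.mk 0 1 1 0]), (10, [Tm.mk 0 1 1 0]), (3, [Tm.mk 0 1 0 1]), (1, [Tm.mk 0 1 0 1]), (8, [Tm.mk 0 1 1 0]), (10, [Tm.mk 0 1 1 0]), (5, [Tm.mk 0 2 1 0])]
def N3_5R : List (ℕ × Vec) := [(6, [Tm.mk 0 2 0 1]), (8, [Tm.mk 0 1 1 0]), (10, [Tm.mk 0 1 1 0]), (3, [Tm.mk 0 1 0 1]), (1, [Tm.mk 0 1 0 1]), (8, [Tm.mk 0 1 1 0]), (10, [Tm.mk 0 1 1 0])]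

set_option maxRecDepth 100000 in
theorem N3_5_chk : chkW3 N3_5L N3_5R = true := by decide +kernel

theorem N3_5 (t : F) :
    chevG2.wordMat F [(8, 1), (10, 1), (3, -1), (1, -1), (8, 1), (10, 1), (5, t)] =
      chevG2.wordMat F [(6, -t), (8, 1), (10, 1), (3, -1), (1, -1), (8, 1), (10, 1)] := by
  let g : ℕ → F := fun p => if p = 2 then t else 0
  have h2 : rho g 2 = t := by rw [rho_prime g (by norm_num)]; simp [g]
  have h := word_eq3 (rho g) (rho_mul g) (rho_one g) N3_5L N3_5R (by decide) (by decide) N3_5_chk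
  have e1 : (N3_5L.map fun a => (a.1, evalP (rho g) a.2)) = [(8, 1), (10, 1), (3, -1), (1, -1), (8, 1), (10, 1), (5, t)] := by
    simp only [N3_5L, List.map_cons, List.map_nil, evalP_cons, evalP_nil, Tm.val, rho_mul, rho_one, h2]
    all_goals (try simp only [List.cons.injEq, Prod.mk.injEq, true_and, and_true])
    all_goals (try (constructorm* _ ∧ _ <;> (push_cast; ring)))
  have e2 : (N3_5R.map fun a => (a.1, evalP (rho g) a.2)) = [(6, -t), (8, 1), (10, 1), (3, -1), (1, -1), (8, 1), (10, 1)] := by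
    simp only [N3_5R, List.map_cons, List.map_nil, evalP_cons, evalP_nil, Tm.val, rho_mul, rho_one, h2]
    all_goals (try simp only [List.cons.injEq, Prod.mk.injEq, true_and, and_true])
    all_goals (try (constructorm* _ ∧ _ <;> (push_cast; ring)))
  rw [e1, e2] at h
  exact h

def N3_6L : List (ℕ × Vec) := [(8, [Tm.mk 0 1 1 0]), (10, [Tm.mk 0 1 1 0]), (3, [Tm.mk 0 1 0 1]), (1, [Tm.mk 0 1 0 1]), (8, [Tm.mk 0 1 1 0]), (10, [Tm.mk 0 1 1 0]), (6, [Tm.mk 0 2 1 0])]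
def N3_6R : List (ℕ × Vec) := [(5, [Tm.mk 0 2 0 1]), (8, [Tm.mk 0 1 1 0]), (10, [Tm.mk 0 1 1 0]), (3, [Tm.mk 0 1 0 1]), (1, [Tm.mk 0 1 0 1]), (8, [Tm.mk 0 1 1 0]), (10, [Tm.mk 0 1 1 0])]

set_option maxRecDepth 100000 in
theorem N3_6_chk : chkW3 N3_6L N3_6R = true := by decide +kernel

theorem N3_6 (t : F) :
    chevG2.wordMat F [(8, 1), (10, 1), (3, -1), (1, -1), (8, 1), (10, 1), (6, t)] =
      chevG2.wordMat F [(5, -t), (8, 1), (10, 1), (3, -1), (1, -1), (8, 1), (10, 1)] := by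
  let g : ℕ → F := fun p => if p = 2 then t else 0
  have h2 : rho g 2 = t := by rw [rho_prime g (by norm_num)]; simp [g]
  have h := word_eq3 (rho g) (rho_mul g) (rho_one g) N3_6L N3_6R (by decide) (by decide) N3_6_chk
  have e1 : (N3_6L.map fun a => (a.1, evalP (rho g) a.2)) = [(8, 1), (10, 1), (3, -1), (1, -1), (8, 1), (10, 1), (6, t)] := by
    simp only [N3_6L, List.map_cons, List.map_nil, evalP_cons, evalP_nil, Tm.val, rho_mul, rho_one, h2]
    all_goals (try simp only [List.cons.injEq, Prod.mk.injEq, true_and, and_true])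
    all_goals (try (constructorm* _ ∧ _ <;> (push_cast; ring)))
  have e2 : (N3_6R.map fun a => (a.1, evalP (rho g) a.2)) = [(5, -t), (8, 1), (10, 1), (3, -1), (1, -1), (8, 1), (10, 1)] := by
    simp only [N3_6R, List.map_cons, List.map_nil, evalP_cons, evalP_nil, Tm.val, rho_mul, rho_one, h2]
    all_goals (try simp only [List.cons.injEq, Prod.mk.injEq, true_and, and_true])
    all_goals (try (constructorm* _ ∧ _ <;> (push_cast; ring)))
  rw [e1, e2] at h
  exact h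

def N3_7L : List (ℕ × Vec) := [(8, [Tm.mk 0 1 1 0]), (10, [Tm.mk 0 1 1 0]), (3, [Tm.mk 0 1 0 1]), (1, [Tm.mk 0 1 0 1]), (8, [Tm.mk 0 1 1 0]), (10, [Tm.mk 0 1 1 0]), (7, [Tm.mk 0 2 1 0])]
def N3_7R : List (ℕ × Vec) := [(4, [Tm.mk 0 2 0 1]), (8, [Tm.mk 0 1 1 0]), (10, [Tm.mk 0 1 1 0]), (3, [Tm.mk 0 1 0 1]), (1, [Tm.mk 0 1 0 1]), (8, [Tm.mk 0 1 1 0]), (10, [Tm.mk 0 1 1 0])]

set_option maxRecDepth 100000 in
theorem N3_7_chk : chkW3 N3_7L N3_7R = true := by decide +kernel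

theorem N3_7 (t : F) :
    chevG2.wordMat F [(8, 1), (10, 1), (3, -1), (1, -1), (8, 1), (10, 1), (7, t)] =
      chevG2.wordMat F [(4, -t), (8, 1), (10, 1), (3, -1), (1, -1), (8, 1), (10, 1)] := by
  let g : ℕ → F := fun p => if p = 2 then t else 0
  have h2 : rho g 2 = t := by rw [rho_prime g (by norm_num)]; simp [g]
  have h := word_eq3 (rho g) (rho_mul g) (rho_one g) N3_7L N3_7R (by decide) (by decide) N3_7_chk
  have e1 : (N3_7L.map fun a => (a.1, evalP (rho g) a.2)) = [(8, 1), (10, 1), (3, -1), (1, -1), (8, 1), (10, 1), (7, t)] := by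
    simp only [N3_7L, List.map_cons, List.map_nil, evalP_cons, evalP_nil, Tm.val, rho_mul, rho_one, h2]
    all_goals (try simp only [List.cons.injEq, Prod.mk.injEq, true_and, and_true])
    all_goals (try (constructorm* _ ∧ _ <;> (push_cast; ring)))
  have e2 : (N3_7R.map fun a => (a.1, evalP (rho g) a.2)) = [(4, -t), (8, 1), (10, 1), (3, -1), (1, -1), (8, 1), (10, 1)] := by
    simp only [N3_7R, List.map_cons, List.map_nil, evalP_cons, evalP_nil, Tm.val, rho_mul, rho_one, h2]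
    all_goals (try simp only [List.cons.injEq, Prod.mk.injEq, true_and, and_true])
    all_goals (try (constructorm* _ ∧ _ <;> (push_cast; ring)))
  rw [e1, e2] at h
  exact h

def N3_8L : List (ℕ × Vec) := [(8, [Tm.mk 0 1 1 0]), (10, [Tm.mk 0 1 1 0]), (3, [Tm.mk 0 1 0 1]), (1, [Tm.mk 0 1 0 1]), (8, [Tm.mk 0 1 1 0]), (10, [Tm.mk 0 1 1 0]), (8, [Tm.mk 0 2 1 0])]
def N3_8R : List (ℕ × Vec) := [(3, [Tm.mk 0 2 0 1]), (8, [Tm.mk 0 1 1 0]), (10, [Tm.mk 0 1 1 0]), (3, [Tm.mk 0 1 0 1]), (1, [Tm.mk 0 1 0 1]), (8, [Tm.mk 0 1 1 0]), (10, [Tm.mk 0 1 1 0])]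

set_option maxRecDepth 100000 in
theorem N3_8_chk : chkW3 N3_8L N3_8R = true := by decide +kernel

theorem N3_8 (t : F) :
    chevG2.wordMat F [(8, 1), (10, 1), (3, -1), (1, -1), (8, 1), (10, 1), (8, t)] =
      chevG2.wordMat F [(3, -t), (8, 1), (10, 1), (3, -1), (1, -1), (8, 1), (10, 1)] := by
  let g : ℕ → F := fun p => if p = 2 then t else 0
  have h2 : rho g 2 = t := by rw [rho_prime g (by norm_num)]; simp [g]
  have h := word_eq3 (rho g) (rho_mul g) (rho_one g) N3_8L N3_8R (by decide) (by decide) N3_8_chk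
  have e1 : (N3_8L.map fun a => (a.1, evalP (rho g) a.2)) = [(8, 1), (10, 1), (3, -1), (1, -1), (8, 1), (10, 1), (8, t)] := by
    simp only [N3_8L, List.map_cons, List.map_nil, evalP_cons, evalP_nil, Tm.val, rho_mul, rho_one, h2]
    all_goals (try simp only [List.cons.injEq, Prod.mk.injEq, true_and, and_true])
    all_goals (try (constructorm* _ ∧ _ <;> (push_cast; ring)))
  have e2 : (N3_8R.map fun a => (a.1, evalP (rho g) a.2)) = [(3, -t), (8, 1), (10, 1), (3, -1), (1, -1), (8, 1), (10, 1)] := by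
    simp only [N3_8R, List.map_cons, List.map_nil, evalP_cons, evalP_nil, Tm.val, rho_mul, rho_one, h2]
    all_goals (try simp only [List.cons.injEq, Prod.mk.injEq, true_and, and_true])
    all_goals (try (constructorm* _ ∧ _ <;> (push_cast; ring)))
  rw [e1, e2] at h
  exact h

def N3_9L : List (ℕ × Vec) := [(8, [Tm.mk 0 1 1 0]), (10, [Tm.mk 0 1 1 0]), (3, [Tm.mk 0 1 0 1]), (1, [Tm.mk 0 1 0 1]), (8, [Tm.mk 0 1 1 0]), (10, [Tm.mk 0 1 1 0]), (9, [Tm.mk 0 2 1 0])]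
def N3_9R : List (ℕ × Vec) := [(2, [Tm.mk 0 2 0 1]), (8, [Tm.mk 0 1 1 0]), (10, [Tm.mk 0 1 1 0]), (3, [Tm.mk 0 1 0 1]), (1, [Tm.mk 0 1 0 1]), (8, [Tm.mk 0 1 1 0]), (10, [Tm.mk 0 1 1 0])]

set_option maxRecDepth 100000 in
theorem N3_9_chk : chkW3 N3_9L N3_9R = true := by decide +kernel

theorem N3_9 (t : F) :
    chevG2.wordMat F [(8, 1), (10, 1), (3, -1), (1, -1), (8, 1), (10, 1), (9, t)] =
      chevG2.wordMat F [(2, -t), (8, 1), (10, 1), (3, -1), (1, -1), (8, 1), (10, 1)] := by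
  let g : ℕ → F := fun p => if p = 2 then t else 0
  have h2 : rho g 2 = t := by rw [rho_prime g (by norm_num)]; simp [g]
  have h := word_eq3 (rho g) (rho_mul g) (rho_one g) N3_9L N3_9R (by decide) (by decide) N3_9_chk
  have e1 : (N3_9L.map fun a => (a.1, evalP (rho g) a.2)) = [(8, 1), (10, 1), (3, -1), (1, -1), (8, 1), (10, 1), (9, t)] := by
    simp only [N3_9L, List.map_cons, List.map_nil, evalP_cons, evalP_nil, Tm.val, rho_mul, rho_one, h2]
    all_goals (try simp only [List.cons.injEq, Prod.mk.injEq, true_and, and_true])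
    all_goals (try (constructorm* _ ∧ _ <;> (push_cast; ring)))
  have e2 : (N3_9R.map fun a => (a.1, evalP (rho g) a.2)) = [(2, -t), (8, 1), (10, 1), (3, -1), (1, -1), (8, 1), (10, 1)] := by
    simp only [N3_9R, List.map_cons, List.map_nil, evalP_cons, evalP_nil, Tm.val, rho_mul, rho_one, h2]
    all_goals (try simp only [List.cons.injEq, Prod.mk.injEq, true_and, and_true])
    all_goals (try (constructorm* _ ∧ _ <;> (push_cast; ring)))
  rw [e1, e2] at h
  exact h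

def N3_10L : List (ℕ × Vec) := [(8, [Tm.mk 0 1 1 0]), (10, [Tm.mk 0 1 1 0]), (3, [Tm.mk 0 1 0 1]), (1, [Tm.mk 0 1 0 1]), (8, [Tm.mk 0 1 1 0]), (10, [Tm.mk 0 1 1 0]), (10, [Tm.mk 0 2 1 0])]
def N3_10R : List (ℕ × Vec) := [(1, [Tm.mk 0 2 0 1]), (8, [Tm.mk 0 1 1 0]), (10, [Tm.mk 0 1 1 0]), (3, [Tm.mk 0 1 0 1]), (1, [Tm.mk 0 1 0 1]), (8, [Tm.mk 0 1 1 0]), (10, [Tm.mk 0 1 1 0])]

set_option maxRecDepth 100000 in
theorem N3_10_chk : chkW3 N3_10L N3_10R = true := by decide +kernel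

theorem N3_10 (t : F) :
    chevG2.wordMat F [(8, 1), (10, 1), (3, -1), (1, -1), (8, 1), (10, 1), (10, t)] =
      chevG2.wordMat F [(1, -t), (8, 1), (10, 1), (3, -1), (1, -1), (8, 1), (10, 1)] := by
  let g : ℕ → F := fun p => if p = 2 then t else 0
  have h2 : rho g 2 = t := by rw [rho_prime g (by norm_num)]; simp [g]
  have h := word_eq3 (rho g) (rho_mul g) (rho_one g) N3_10L N3_10R (by decide) (by decide) N3_10_chk
  have e1 : (N3_10L.map fun a => (a.1, evalP (rho g) a.2)) = [(8, 1), (10, 1), (3, -1), (1, -1), (8, 1), (10, 1), (10, t)] := by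
    simp only [N3_10L, List.map_cons, List.map_nil, evalP_cons, evalP_nil, Tm.val, rho_mul, rho_one, h2]
    all_goals (try simp only [List.cons.injEq, Prod.mk.injEq, true_and, and_true])
    all_goals (try (constructorm* _ ∧ _ <;> (push_cast; ring)))
  have e2 : (N3_10R.map fun a => (a.1, evalP (rho g) a.2)) = [(1, -t), (8, 1), (10, 1), (3, -1), (1, -1), (8, 1), (10, 1)] := by
    simp only [N3_10R, List.map_cons, List.map_nil, evalP_cons, evalP_nil, Tm.val, rho_mul, rho_one, h2]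
    all_goals (try simp only [List.cons.injEq, Prod.mk.injEq, true_and, and_true])
    all_goals (try (constructorm* _ ∧ _ <;> (push_cast; ring)))
  rw [e1, e2] at h
  exact h

def N3_11L : List (ℕ × Vec) := [(8, [Tm.mk 0 1 1 0]), (10, [Tm.mk 0 1 1 0]), (3, [Tm.mk 0 1 0 1]), (1, [Tm.mk 0 1 0 1]), (8, [Tm.mk 0 1 1 0]), (10, [Tm.mk 0 1 1 0]), (11, [Tm.mk 0 2 1 0])]
def N3_11R : List (ℕ × Vec) := [(0, [Tm.mk 0 2 0 1]), (8, [Tm.mk 0 1 1 0]), (10, [Tm.mk 0 1 1 0]), (3, [Tm.mk 0 1 0 1]), (1, [Tm.mk 0 1 0 1]), (8, [Tm.mk 0 1 1 0]), (10, [Tm.mk 0 1 1 0])]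

set_option maxRecDepth 100000 in
theorem N3_11_chk : chkW3 N3_11L N3_11R = true := by decide +kernel

theorem N3_11 (t : F) :
    chevG2.wordMat F [(8, 1), (10, 1), (3, -1), (1, -1), (8, 1), (10, 1), (11, t)] =
      chevG2.wordMat F [(0, -t), (8, 1), (10, 1), (3, -1), (1, -1), (8, 1), (10, 1)] := by
  let g : ℕ → F := fun p => if p = 2 then t else 0
  have h2 : rho g 2 = t := by rw [rho_prime g (by norm_num)]; simp [g]
  have h := word_eq3 (rho g) (rho_mul g) (rho_one g) N3_11L N3_11R (by decide) (by decide) N3_11_chk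
  have e1 : (N3_11L.map fun a => (a.1, evalP (rho g) a.2)) = [(8, 1), (10, 1), (3, -1), (1, -1), (8, 1), (10, 1), (11, t)] := by
    simp only [N3_11L, List.map_cons, List.map_nil, evalP_cons, evalP_nil, Tm.val, rho_mul, rho_one, h2]
    all_goals (try simp only [List.cons.injEq, Prod.mk.injEq, true_and, and_true])
    all_goals (try (constructorm* _ ∧ _ <;> (push_cast; ring)))
  have e2 : (N3_11R.map fun a => (a.1, evalP (rho g) a.2)) = [(0, -t), (8, 1), (10, 1), (3, -1), (1, -1), (8, 1), (10, 1)] := by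
    simp only [N3_11R, List.map_cons, List.map_nil, evalP_cons, evalP_nil, Tm.val, rho_mul, rho_one, h2]
    all_goals (try simp only [List.cons.injEq, Prod.mk.injEq, true_and, and_true])
    all_goals (try (constructorm* _ ∧ _ <;> (push_cast; ring)))
  rw [e1, e2] at h
  exact h

def N2L : List (ℕ × Vec) := [(8, [Tm.mk 0 1 1 0]), (10, [Tm.mk 0 1 1 0]), (3, [Tm.mk 0 1 0 1]), (1, [Tm.mk 0 1 0 1]), (8, [Tm.mk 0 1 1 0]), (10, [Tm.mk 0 1 1 0]), (8, [Tm.mk 0 1 1 0]), (10, [Tm.mk 0 1 1 0]), (3, [Tm.mk 0 1 0 1]), (1, [Tm.mk 0 1 0 1]), (8, [Tm.mk 0 1 1 0]), (10, [Tm.mk 0 1 1 0])]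
def N2R : List (ℕ × Vec) := [(8, [])]

set_option maxRecDepth 100000 in
theorem N2_chk : chkW3 N2L N2R = true := by decide +kernel

theorem N2 (t : F) :
    chevG2.wordMat F [(8, 1), (10, 1), (3, -1), (1, -1), (8, 1), (10, 1), (8, 1), (10, 1), (3, -1), (1, -1), (8, 1), (10, 1)] =
      chevG2.wordMat F [(8, 0)] := by
  let g : ℕ → F := fun p => if p = 2 then t else 0
  have h2 : rho g 2 = t := by rw [rho_prime g (by norm_num)]; simp [g]
  have h := word_eq3 (rho g) (rho_mul g) (rho_one g) N2L N2R (by decide) (by decide) N2_chk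
  have e1 : (N2L.map fun a => (a.1, evalP (rho g) a.2)) = [(8, 1), (10, 1), (3, -1), (1, -1), (8, 1), (10, 1), (8, 1), (10, 1), (3, -1), (1, -1), (8, 1), (10, 1)] := by
    simp only [N2L, List.map_cons, List.map_nil, evalP_cons, evalP_nil, Tm.val, rho_mul, rho_one, h2]
    all_goals (try simp only [List.cons.injEq, Prod.mk.injEq, true_and, and_true])
    all_goals (try (constructorm* _ ∧ _ <;> (push_cast; ring)))
  have e2 : (N2R.map fun a => (a.1, evalP (rho g) a.2)) = [(8, 0)] := by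
    simp only [N2R, List.map_cons, List.map_nil, evalP_cons, evalP_nil, Tm.val, rho_mul, rho_one, h2]
    all_goals (try simp only [List.cons.injEq, Prod.mk.injEq, true_and, and_true])
    all_goals (try (constructorm* _ ∧ _ <;> (push_cast; ring)))
  rw [e1, e2] at h
  exact h

def W1L : List (ℕ × Vec) := [(3, [Tm.mk 0 1 0 1]), (1, [Tm.mk 0 1 0 1]), (8, [Tm.mk 0 1 0 1]), (10, [Tm.mk 0 1 0 1]), (3, [Tm.mk 0 1 0 1]), (1, [Tm.mk 0 1 0 1]), (8, [Tm.mk 0 1 0 1]), (10, [Tm.mk 0 1 0 1])]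
def W1R : List (ℕ × Vec) := [(8, [])]

set_option maxRecDepth 100000 in
theorem W1_chk : chkW3 W1L W1R = true := by decide +kernel

theorem W1 (t : F) :
    chevG2.wordMat F [(3, -1), (1, -1), (8, -1), (10, -1), (3, -1), (1, -1), (8, -1), (10, -1)] =
      chevG2.wordMat F [(8, 0)] := by
  let g : ℕ → F := fun p => if p = 2 then t else 0
  have h2 : rho g 2 = t := by rw [rho_prime g (by norm_num)]; simp [g]
  have h := word_eq3 (rho g) (rho_mul g) (rho_one g) W1L W1R (by decide) (by decide) W1_chk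
  have e1 : (W1L.map fun a => (a.1, evalP (rho g) a.2)) = [(3, -1), (1, -1), (8, -1), (10, -1), (3, -1), (1, -1), (8, -1), (10, -1)] := by
    simp only [W1L, List.map_cons, List.map_nil, evalP_cons, evalP_nil, Tm.val, rho_mul, rho_one, h2]
    all_goals (try simp only [List.cons.injEq, Prod.mk.injEq, true_and, and_true])
    all_goals (try (constructorm* _ ∧ _ <;> (push_cast; ring)))
  have e2 : (W1R.map fun a => (a.1, evalP (rho g) a.2)) = [(8, 0)] := by
    simp only [W1R, List.map_cons, List.map_nil, evalP_cons, evalP_nil, Tm.val, rho_mul, rho_one, h2]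
    all_goals (try simp only [List.cons.injEq, Prod.mk.injEq, true_and, and_true])
    all_goals (try (constructorm* _ ∧ _ <;> (push_cast; ring)))
  rw [e1, e2] at h
  exact h

def W2L : List (ℕ × Vec) := [(3, [Tm.mk 0 1 0 1]), (1, [Tm.mk 0 1 0 1]), (8, [Tm.mk 0 1 0 1]), (10, [Tm.mk 0 1 0 1]), (8, [Tm.mk 0 1 1 0]), (10, [Tm.mk 0 1 1 0]), (3, [Tm.mk 0 1 0 1]), (1, [Tm.mk 0 1 0 1]), (8, [Tm.mk 0 1 1 0]), (10, [Tm.mk 0 1 1 0])]
def W2R : List (ℕ × Vec) := [(8, [Tm.mk 0 1 1 0]), (10, [Tm.mk 0 1 1 0]), (3, [Tm.mk 0 1 0 1]), (1, [Tm.mk 0 1 0 1]), (8, [Tm.mk 0 1 1 0]), (10, [Tm.mk 0 1 1 0]), (3, [Tm.mk 0 1 0 1]), (1, [Tm.mk 0 1 0 1]), (8, [Tm.mk 0 1 0 1]), (10, [Tm.mk 0 1 0 1])]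

set_option maxRecDepth 100000 in
theorem W2_chk : chkW3 W2L W2R = true := by decide +kernel

theorem W2 (t : F) :
    chevG2.wordMat F [(3, -1), (1, -1), (8, -1), (10, -1), (8, 1), (10, 1), (3, -1), (1, -1), (8, 1), (10, 1)] =
      chevG2.wordMat F [(8, 1), (10, 1), (3, -1), (1, -1), (8, 1), (10, 1), (3, -1), (1, -1), (8, -1), (10, -1)] := by
  let g : ℕ → F := fun p => if p = 2 then t else 0
  have h2 : rho g 2 = t := by rw [rho_prime g (by norm_num)]; simp [g]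
  have h := word_eq3 (rho g) (rho_mul g) (rho_one g) W2L W2R (by decide) (by decide) W2_chk
  have e1 : (W2L.map fun a => (a.1, evalP (rho g) a.2)) = [(3, -1), (1, -1), (8, -1), (10, -1), (8, 1), (10, 1), (3, -1), (1, -1), (8, 1), (10, 1)] := by
    simp only [W2L, List.map_cons, List.map_nil, evalP_cons, evalP_nil, Tm.val, rho_mul, rho_one, h2]
    all_goals (try simp only [List.cons.injEq, Prod.mk.injEq, true_and, and_true])
    all_goals (try (constructorm* _ ∧ _ <;> (push_cast; ring)))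
  have e2 : (W2R.map fun a => (a.1, evalP (rho g) a.2)) = [(8, 1), (10, 1), (3, -1), (1, -1), (8, 1), (10, 1), (3, -1), (1, -1), (8, -1), (10, -1)] := by
    simp only [W2R, List.map_cons, List.map_nil, evalP_cons, evalP_nil, Tm.val, rho_mul, rho_one, h2]
    all_goals (try simp only [List.cons.injEq, Prod.mk.injEq, true_and, and_true])
    all_goals (try (constructorm* _ ∧ _ <;> (push_cast; ring)))
  rw [e1, e2] at h
  exact h

end Cfsg.Agent.Lib.Helper8Ree13
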