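import Cfsg.Agent.Lib.Helper8Ree12
import Cfsg.Agent.Lib.Helper8Ree13

set_option autoImplicit false
set_option linter.unusedSectionVars false

namespace Cfsg.Agent.Lib.Helper8Ree14

open Cfsg.Lie Cfsg.Agent.Lib.Helper22ChevBasic Cfsg.Agent.Lib.Helper8Ree2 Cfsg.Agent.Lib.Helper8Ree3
  Cfsg.Agent.Lib.Helper23Chev Cfsg.Agent.Lib.Helper23RG Cfsg.Agent.Lib.Helper23Table Cfsg.Agent.Lib.Helper8Ree5
  Cfsg.Agent.Lib.Helper8Ree6 Cfsg.Agent.Lib.Helper8Ree7 Cfsg.Agent.Lib.Helper8Ree8 Cfsg.Agent.Lib.Helper8Ree9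
  Cfsg.Agent.Lib.Helper8Ree10 Cfsg.Agent.Lib.Helper8Ree11 Cfsg.Agent.Lib.Helper8Ree12
  Cfsg.Agent.Lib.Helper23Diag Cfsg.Agent.Lib.Helper22ChevU Cfsg.Agent.Lib.Helper8Rank1

variable {K : Type*} [Field K] [Fintype K] [CharP K 3]

theorem n1_word (m : ℕ) : n1 (K := K) m = wordG hStd [(8, 1), (10, 1), (3, -1), (1, -1), (8, 1), (10, 1)] := by
  unfold n1 nU
  rw [wU_0u0, wV_0u0, inv_one, one_pow]
  simp only [wordG_cons, wordG_nil, mul_one, mul_assoc]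

theorem wordG_eq {w₁ w₂ : List (ℕ × K)} (h : chevG2.wordMat K w₁ = chevG2.wordMat K w₂) :
    wordG hStd w₁ = wordG hStd w₂ :=
  Units.ext (by rw [Helper22ChevBasic.coe_wordG, Helper22ChevBasic.coe_wordG]; exact h)

theorem n1_mul_self (m : ℕ) : n1 (K := K) m * n1 m = 1 := by
  rw [n1_word, ← wordG_append]
  have := wordG_eq (Cfsg.Agent.Lib.Helper8Ree13.N2 (0 : K))
  refine Eq.trans this ?_
  simp [wordG_cons]

theorem n1_inv (m : ℕ) : (n1 (K := K) m)⁻¹ = n1 m := inv_eq_of_mul_eq_one_right (n1_mul_self m)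

theorem n1_xG (m : ℕ) (r : ℕ) (hr : r < 12) (t : K) : n1 m * xG hStd r t = xG hStd (11 - r) (-t) * n1 m := by
  rw [n1_word]
  have key : ∀ r', wordG hStd ([(8, 1), (10, 1), (3, -1), (1, -1), (8, 1), (10, 1)] ++ [(r, t)]) =
      wordG hStd ([(r', -t)] ++ [(8, 1), (10, 1), (3, -1), (1, -1), (8, 1), (10, 1)]) →
      wordG hStd [(8, (1 : K)), (10, 1), (3, -1), (1, -1), (8, 1), (10, 1)] * xG hStd r t =
        xG hStd r' (-t) * wordG hStd [(8, 1), (10, 1), (3, -1), (1, -1), (8, 1), (10, 1)] := by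
    intro r' h
    rw [wordG_append, wordG_append] at h
    simpa [wordG_cons] using h
  interval_cases r
  · exact key _ (wordG_eq (Cfsg.Agent.Lib.Helper8Ree13.N3_0 t))
  · exact key _ (wordG_eq (Cfsg.Agent.Lib.Helper8Ree13.N3_1 t))
  · exact key _ (wordG_eq (Cfsg.Agent.Lib.Helper8Ree13.N3_2 t))
  · exact key _ (wordG_eq (Cfsg.Agent.Lib.Helper8Ree13.N3_3 t))
  · exact key _ (wordG_eq (Cfsg.Agent.Lib.Helper8Ree13.N3_4 t))
  · exact key _ (wordG_eq (Cfsg.Agent.Lib.Helper8Ree13.N3_5 t))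
  · exact key _ (wordG_eq (Cfsg.Agent.Lib.Helper8Ree13.N3_6 t))
  · exact key _ (wordG_eq (Cfsg.Agent.Lib.Helper8Ree13.N3_7 t))
  · exact key _ (wordG_eq (Cfsg.Agent.Lib.Helper8Ree13.N3_8 t))
  · exact key _ (wordG_eq (Cfsg.Agent.Lib.Helper8Ree13.N3_9 t))
  · exact key _ (wordG_eq (Cfsg.Agent.Lib.Helper8Ree13.N3_10 t))
  · exact key _ (wordG_eq (Cfsg.Agent.Lib.Helper8Ree13.N3_11 t))

theorem n1_wordG (m : ℕ) (w : List (ℕ × K)) (hw : ∀ p ∈ w, p.1 < 12) :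
    n1 m * wordG hStd w = wordG hStd (w.map fun p => (11 - p.1, -p.2)) * n1 m := by
  induction w with
  | nil => simp
  | cons p w ih =>
    rw [wordG_cons, ← mul_assoc, n1_xG m _ (hw p (by simp)), mul_assoc, ih (fun q hq => hw q (by simp [hq])),
      List.map_cons, wordG_cons, mul_assoc]

theorem n1_wU (m : ℕ) (t u v : K) : n1 m * wU m t u v = wV m t u v * n1 m := by
  unfold wU wV
  rw [reeWordU_eq, reeWordV_eq, n1_wordG m _ (by simp)]
  congr 2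
  simp only [List.map_cons, List.map_nil, List.cons.injEq, Prod.mk.injEq, true_and, and_true]
  constructorm* _ ∧ _ <;> first | rfl | ring

theorem n1_wV (m : ℕ) (t u v : K) : n1 m * wV m t u v = wU m t u v * n1 m := by
  have h := n1_wU m t u v
  calc n1 m * wV m t u v = n1 m * (wV m t u v * n1 m) * n1 m := by
        rw [mul_assoc, mul_assoc, n1_mul_self, mul_one]
    _ = n1 m * (n1 m * wU m t u v) * n1 m := by rw [h]
    _ = _ := by rw [← mul_assoc, n1_mul_self, one_mul]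

/-- the second involution of the four-group -/
noncomputable def w1 (m : ℕ) : GL chevG2.Idx K := wV m 0 1 0 * wU m 0 (-1) 0

theorem w1_word (m : ℕ) : w1 (K := K) m = wordG hStd [(3, -1), (1, -1), (8, -1), (10, -1)] := by
  have hodd : Odd (3 ^ m) := Odd.pow (by decide)
  unfold w1
  rw [wU_0u0, wV_0u0, one_pow, hodd.neg_one_pow]
  simp only [wordG_cons, wordG_nil, mul_one, mul_assoc]

theorem w1_mul_self (m : ℕ) : w1 (K := K) m * w1 m = 1 := by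
  rw [w1_word, ← wordG_append]
  have := wordG_eq (Cfsg.Agent.Lib.Helper8Ree13.W1 (0 : K))
  refine Eq.trans this ?_
  simp [wordG_cons]

theorem w1_n1 (m : ℕ) : w1 (K := K) m * n1 m = n1 m * w1 m := by
  rw [w1_word, n1_word, ← wordG_append, ← wordG_append]
  exact wordG_eq (Cfsg.Agent.Lib.Helper8Ree13.W2 (0 : K))

theorem w1_mem (m : ℕ) : w1 (K := K) m ∈ twistedG2 K (3 ^ m) := mul_mem (wV_mem _ _ _ _) (wU_mem _ _ _ _)

section main

variable {m : ℕ} (hK : Fintype.card K = 3 ^ (2 * m + 1))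
include hK

theorem n1_hh (μ : Kˣ) : n1 m * hh m μ = hh m μ⁻¹ * n1 m := by
  obtain ⟨μ', hμ'⟩ := n1_conj_hh hK μ
  have h1 : n1 m * hh m μ = hh m μ' * n1 m := by rw [← hμ']; group
  -- compare the actions on the root group `x₀`
  have h2 : hh m μ' * xG hStd 0 (-1) * (hh m μ')⁻¹ = xG hStd 0 (-(μ : K)) := by
    have e1 : xG hStd 0 (-1 : K) = n1 m * xG hStd 11 1 * (n1 m)⁻¹ := by
      rw [n1_xG m 11 (by decide)]; group
    have e2 : hh m μ * xG hStd 11 (1 : K) * (hh m μ)⁻¹ = xG hStd 11 (μ : K) := by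
      rw [hh_conj_xG m μ 11 (by decide), Xv m μ 11 _ 0 1 (by decide) (by decide)]
      simp
    calc hh m μ' * xG hStd 0 (-1) * (hh m μ')⁻¹
        = (hh m μ' * n1 m) * xG hStd 11 1 * (hh m μ' * n1 m)⁻¹ := by rw [e1]; group
      _ = n1 m * (hh m μ * xG hStd 11 1 * (hh m μ)⁻¹) * (n1 m)⁻¹ := by rw [← h1]; group
      _ = n1 m * xG hStd 11 (μ : K) * (n1 m)⁻¹ := by rw [e2]
      _ = _ := by rw [n1_xG m 11 (by decide)]; group
  rw [hh_conj_xG m μ' 0 (by decide), Xv m μ' 0 _ 0 (-1) (by decide) (by decide), ← xg_eq, ← xg_eq] at h2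
  have h3 := (RG.x_eq_iff ok (rt 0) _ _).1 h2
  have h4 : (μ' : K)⁻¹ = μ := by
    simp only [zpow_zero, one_mul, zpow_neg, zpow_one, mul_neg, mul_one, neg_inj] at h3
    exact h3
  have h5 : μ' = μ⁻¹ := by
    apply Units.ext
    rw [Units.val_inv_eq_inv_val, ← h4, inv_inv]
  rw [h1, h5]

theorem nU_mul_eq (u : Kˣ) : nU m (u : K) * nU m (-1) = hh m ((u ^ 3 ^ m) ^ 3 * u) := by
  have h1 : nU m (u : K) * nU m (-1) ∈ twistedG2 K (3 ^ m) := mul_mem (nU_mem _ _) (nU_mem _ _)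
  have h2 := (G1_le_Fix hK h1).2
  have h3 : nU m (u : K) * nU m (-1) ∈ (SS K).H := by
    rw [nU_mul]
    exact mul_mem (RG.hE_mem_H _ (pow_ne_zero _ u.ne_zero)) (RG.hE_mem_H _ u.ne_zero)
  obtain ⟨μ, hμ⟩ := mem_H_fix hK h3 h2
  have h4 := nU_mul m (u : K)
  have e8 := hE8 (K := K) (u ^ 3 ^ m)
  rw [Units.val_pow_eq_pow_val] at e8
  rw [e8, hE10, ← map_mul, hμ] at h4
  have h5 := congrFun (δ_injective h4) (rt 11)
  have h6 : X (cc m μ) (rt 11) = μ := by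
    rw [X_11]
    have hne : i1 ≠ i0 := by decide
    simp [cc, hne]
  rw [Pi.mul_apply, X_mulSingle, X_mulSingle] at h5
  have r1 : chevG2.cartan i0 ((SS K).refl i1 (rt 11)) = 3 := by
    show chevG2.cartan 0 (chevG2.reflectRoot 1 11) = 3
    decide
  have r2 : chevG2.cartan i1 ((SS K).refl i0 (rt 11)) = 1 := by
    show chevG2.cartan 1 (chevG2.reflectRoot 0 11) = 1
    decide
  rw [r1, r2] at h5
  have h8 : μ = (u ^ 3 ^ m) ^ 3 * u := by
    rw [← h6]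
    rw [show (X (cc m μ) : Fin chevG2.nroots → Kˣ) (rt 11) = _ from h5]
    simp
  rw [hμ, h8]

theorem nU_eq_hh (u : Kˣ) : nU m (u : K) = hh m ((u ^ 3 ^ m) ^ 3 * u) * n1 m := by
  have h1 := nU_mul_eq hK (1 : Kˣ)
  simp only [one_pow, one_mul, map_one, Units.val_one] at h1
  have h2 : nU m (-1 : K) = n1 m := by
    have : nU m (-1 : K) = (nU m (1 : K))⁻¹ := eq_inv_of_mul_eq_one_right h1
    rw [this]
    exact n1_inv m
  have h3 := nU_mul_eq hK u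
  rw [h2] at h3
  rw [← h3, mul_assoc, n1_mul_self, mul_one]

theorem wV0_eq (z : Kˣ) : wV m 0 (z : K) 0 =
    wU m 0 (-(z : K)⁻¹) 0 * (hh m (((z⁻¹) ^ 3 ^ m) ^ 3 * z⁻¹) * n1 m) * wU m 0 (-(z : K)⁻¹) 0 := by
  rw [← nU_eq_hh hK z⁻¹]
  unfold nU
  rw [Units.val_inv_eq_inv_val, inv_inv]
  have e : wU m 0 (-(z : K)⁻¹) 0 * wU m 0 (z : K)⁻¹ 0 = 1 := by
    rw [wU0_mul hK]; simp [wU_zero]
  have e' : wU m 0 (z : K)⁻¹ 0 * wU m 0 (-(z : K)⁻¹) 0 = 1 := by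
    rw [wU0_mul hK]; simp [wU_zero]
  calc wV m 0 (z : K) 0 = (wU m 0 (-(z : K)⁻¹) 0 * wU m 0 (z : K)⁻¹ 0) * wV m 0 (z : K) 0 *
        (wU m 0 (z : K)⁻¹ 0 * wU m 0 (-(z : K)⁻¹) 0) := by rw [e, e', one_mul, mul_one]
    _ = _ := by group

end main

end Cfsg.Agent.Lib.Helper8Ree14
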