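import Cfsg.Agent.Lib.Helper8Ree14
import Cfsg.Agent.Lib.Helper8Elem

set_option autoImplicit false
set_option linter.unusedSectionVars false

namespace Cfsg.Agent.Lib.Helper8Ree15

open Cfsg.Lie Cfsg.Agent.Lib.Helper22ChevBasic Cfsg.Agent.Lib.Helper8Ree2
  Cfsg.Agent.Lib.Helper8Ree5
  Cfsg.Agent.Lib.Helper8Ree6 Cfsg.Agent.Lib.Helper8Ree7 Cfsg.Agent.Lib.Helper8Ree8 Cfsg.Agent.Lib.Helper8Ree9
  Cfsg.Agent.Lib.Helper8Ree10 Cfsg.Agent.Lib.Helper8Ree11 Cfsg.Agent.Lib.Helper8Ree12 Cfsg.Agent.Lib.Helper8Ree14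
  Cfsg.Agent.Lib.Helper8Rank1 Cfsg.Agent.Lib.Helper8Elem Cfsg.Agent.Lib.Helper8Split

/-- the Ree group as a type -/
abbrev GG (K : Type*) [Field K] (m : ℕ) := ↥(twistedG2 K (3 ^ m))
abbrev BB (K : Type*) [Field K] (m : ℕ) : Subgroup (GG K m) :=
  (chevG2.borelSubgroup K ⊓ twistedG2 K (3 ^ m)).subgroupOf (twistedG2 K (3 ^ m))
abbrev NN (K : Type*) [Field K] (m : ℕ) : Subgroup (GG K m) :=
  (chevG2.monomialSubgroup K ⊓ twistedG2 K (3 ^ m)).subgroupOf (twistedG2 K (3 ^ m))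
abbrev UU (K : Type*) [Field K] (m : ℕ) : Subgroup (GG K m) :=
  (chevG2.posUnipotent K ⊓ twistedG2 K (3 ^ m)).subgroupOf (twistedG2 K (3 ^ m))
abbrev HH (K : Type*) [Field K] (m : ℕ) : Subgroup (GG K m) :=
  (chevG2.diagonalSubgroup K ⊓ twistedG2 K (3 ^ m)).subgroupOf (twistedG2 K (3 ^ m))

variable {K : Type*} [Field K] [Fintype K] [CharP K 3]

noncomputable def uG (m : ℕ) (t u v : K) : GG K m := ⟨wU m t u v, wU_mem m t u v⟩
noncomputable def nG (m : ℕ) : GG K m := ⟨n1 m, n1_mem m⟩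
noncomputable def wG (m : ℕ) : GG K m := ⟨w1 m, w1_mem m⟩

theorem nG_sq (m : ℕ) : nG (K := K) m * nG m = 1 := Subtype.ext (n1_mul_self m)
theorem wG_sq (m : ℕ) : wG (K := K) m * wG m = 1 := Subtype.ext (w1_mul_self m)
theorem wG_nG (m : ℕ) : wG (K := K) m * nG m = nG m * wG m := Subtype.ext (w1_n1 m)
theorem nG_inv (m : ℕ) : (nG (K := K) m)⁻¹ = nG m := inv_eq_of_mul_eq_one_right (nG_sq m)

section main

variable {m : ℕ} (hK : Fintype.card K = 3 ^ (2 * m + 1))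
include hK

noncomputable def hG (μ : Kˣ) : GG K m := ⟨hh m μ, hh_mem hK μ⟩

theorem R : R1 (BB K m) (NN K m) (UU K m) (HH K m) (nG m) := r1 hK

theorem mem_UU {g : GG K m} : g ∈ UU K m ↔ ∃ t u v, g = uG m t u v := by
  rw [Subgroup.mem_subgroupOf, mem_U1 hK]
  constructor
  · rintro ⟨t, u, v, h⟩; exact ⟨t, u, v, Subtype.ext h⟩
  · rintro ⟨t, u, v, rfl⟩; exact ⟨t, u, v, rfl⟩

theorem mem_HH {g : GG K m} : g ∈ HH K m ↔ ∃ μ, g = hG hK μ := by
  rw [Subgroup.mem_subgroupOf, mem_H1 hK]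
  constructor
  · rintro ⟨μ, h⟩; exact ⟨μ, Subtype.ext h⟩
  · rintro ⟨μ, rfl⟩; exact ⟨μ, rfl⟩

theorem uG_mem (t u v : K) : uG m t u v ∈ UU K m := (mem_UU hK).2 ⟨_, _, _, rfl⟩
theorem hG_mem (μ : Kˣ) : hG hK μ ∈ HH K m := (mem_HH hK).2 ⟨_, rfl⟩

theorem hG_mul (μ ν : Kˣ) : hG hK μ * hG hK ν = hG hK (μ * ν) := Subtype.ext (map_mul (hh m) μ ν).symm
theorem hG_one : hG hK 1 = 1 := Subtype.ext (map_one (hh m))
theorem hG_inv (μ : Kˣ) : (hG hK μ)⁻¹ = hG hK μ⁻¹ := Subtype.ext (map_inv (hh m) μ).symm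
theorem hG_inj {μ ν : Kˣ} (h : hG hK μ = hG hK ν) : μ = ν := hh_inj m (congrArg Subtype.val h)
theorem uG_inj {t u v t' u' v' : K} (h : uG m t u v = uG m t' u' v') : t = t' ∧ u = u' ∧ v = v' :=
  wU_inj hK (congrArg Subtype.val h)
theorem nG_hG (μ : Kˣ) : nG m * hG hK μ = hG hK μ⁻¹ * nG m := Subtype.ext (n1_hh hK μ)
theorem hG_uG (μ : Kˣ) (t u v : K) :
    hG hK μ * uG m t u v = uG m (ch1 m μ * t) (ch2 m μ * u) (μ * v) * hG hK μ := by
  apply Subtype.ext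
  show hh m μ * wU m t u v = wU m _ _ _ * hh m μ
  rw [← hh_conj_wU hK]; group
theorem uG0_mul (u v w z : K) : uG m 0 u v * uG m 0 w z = uG m 0 (u + w) (v + z) := Subtype.ext (wU0_mul hK u v w z)
omit hK in
theorem uG_zero : uG m (0 : K) 0 0 = 1 := Subtype.ext wU_zero
theorem uG0_inv (u v : K) : (uG m 0 u v)⁻¹ = uG m 0 (-u) (-v) := Subtype.ext (wU0_inv hK u v)

/-- the involution of the torus -/
noncomputable def iG : GG K m := hG hK (-1)

theorem iG_sq : iG hK * iG hK = 1 := by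
  unfold iG; rw [hG_mul]; simp [hG_one]
theorem iG_inv : (iG hK)⁻¹ = iG hK := inv_eq_of_mul_eq_one_right (iG_sq hK)
theorem iG_ne_one : iG hK ≠ 1 := by
  intro h
  rw [← hG_one hK] at h
  exact neg_one_ne_one hK (hG_inj hK h)
theorem iG_nG : iG hK * nG m = nG m * iG hK := by
  unfold iG; rw [nG_hG]; simp
theorem iG_hG (μ : Kˣ) : iG hK * hG hK μ = hG hK μ * iG hK := by
  unfold iG; rw [hG_mul, hG_mul, mul_comm]
theorem iG_uG (t u v : K) : iG hK * uG m t u v = uG m (-t) u (-v) * iG hK := by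
  unfold iG
  rw [hG_uG, ch1_neg_one, ch2_neg_one]
  simp
theorem iG_mem_BB : iG hK ∈ BB K m := (R hK).H_le_B (hG_mem hK _)

omit hK in
theorem eq_zero_of_neg_eq {x : K} (h : -x = x) : x = 0 := by
  have h3 := three_eq_zero (K := K)
  linear_combination h + x * h3

theorem iG_wG : iG hK * wG m = wG m * iG hK := by
  have e : wG (K := K) m = nG m * uG m 0 1 0 * nG m * uG m 0 (-1) 0 := by
    apply Subtype.ext
    show w1 m = n1 m * wU m 0 1 0 * n1 m * wU m 0 (-1) 0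
    rw [n1_wU, mul_assoc (wV m 0 1 0), n1_mul_self, mul_one]; rfl
  have h1 : ∀ y : K, iG hK * uG m 0 y 0 = uG m 0 y 0 * iG hK := by
    intro y; rw [iG_uG]; simp
  rw [e]
  calc iG hK * (nG m * uG m 0 1 0 * nG m * uG m 0 (-1) 0)
      = (iG hK * nG m) * uG m 0 1 0 * nG m * uG m 0 (-1) 0 := by group
    _ = nG m * (iG hK * uG m 0 1 0) * nG m * uG m 0 (-1) 0 := by rw [iG_nG]; group
    _ = nG m * uG m 0 1 0 * (iG hK * nG m) * uG m 0 (-1) 0 := by rw [h1]; group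
    _ = nG m * uG m 0 1 0 * nG m * (iG hK * uG m 0 (-1) 0) := by rw [iG_nG]; group
    _ = _ := by rw [h1]; group

/-- elements of the centraliser of the involution -/
theorem mem_CC {g : GG K m} (hg : g ∈ Subgroup.centralizer {iG hK}) :
    (∃ a μ, g = uG m 0 a 0 * hG hK μ) ∨ (∃ a μ b, g = uG m 0 a 0 * hG hK μ * nG m * uG m 0 b 0) := by
  rw [Subgroup.mem_centralizer_singleton_iff] at hg
  rcases (R hK).cases g with hb | ⟨u, hu, h, hh', u', hu', rfl⟩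
  · left
    obtain ⟨u, hu, h, hh', rfl⟩ := ((R hK).mem_B g).1 hb
    obtain ⟨t, a, v, rfl⟩ := (mem_UU hK).1 hu
    obtain ⟨μ, rfl⟩ := (mem_HH hK).1 hh'
    have e : uG m t a v * (hG hK μ * iG hK) = uG m (-t) a (-v) * (hG hK μ * iG hK) := by
      calc uG m t a v * (hG hK μ * iG hK) = uG m t a v * hG hK μ * iG hK := by group
        _ = iG hK * (uG m t a v * hG hK μ) := hg
        _ = (iG hK * uG m t a v) * hG hK μ := by group
        _ = uG m (-t) a (-v) * (iG hK * hG hK μ) := by rw [iG_uG]; group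
        _ = _ := by rw [iG_hG]
    obtain ⟨h1, -, h2⟩ := uG_inj hK (mul_right_cancel e)
    rw [eq_zero_of_neg_eq h1.symm, eq_zero_of_neg_eq h2.symm]
    exact ⟨a, μ, rfl⟩
  · right
    obtain ⟨t, a, v, rfl⟩ := (mem_UU hK).1 hu
    obtain ⟨t', b, v', rfl⟩ := (mem_UU hK).1 hu'
    obtain ⟨μ, rfl⟩ := (mem_HH hK).1 hh'
    have e : uG m t a v * hG hK μ * nG m * uG m t' b v' =
        uG m (-t) a (-v) * hG hK μ * nG m * uG m (-t') b (-v') := by
      have : uG m t a v * hG hK μ * nG m * uG m t' b v' =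
          iG hK * (uG m t a v * hG hK μ * nG m * uG m t' b v') * iG hK := by
        rw [← hg, mul_assoc _ (iG hK) (iG hK), iG_sq, mul_one]
      rw [this]
      calc iG hK * (uG m t a v * hG hK μ * nG m * uG m t' b v') * iG hK
          = (iG hK * uG m t a v) * hG hK μ * nG m * uG m t' b v' * iG hK := by group
        _ = uG m (-t) a (-v) * (iG hK * hG hK μ) * nG m * uG m t' b v' * iG hK := by rw [iG_uG]; group
        _ = uG m (-t) a (-v) * hG hK μ * (iG hK * nG m) * uG m t' b v' * iG hK := by rw [iG_hG]; group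
        _ = uG m (-t) a (-v) * hG hK μ * nG m * (iG hK * uG m t' b v') * iG hK := by rw [iG_nG]; group
        _ = uG m (-t) a (-v) * hG hK μ * nG m * uG m (-t') b (-v') * (iG hK * iG hK) := by rw [iG_uG]; group
        _ = _ := by rw [iG_sq, mul_one]
    obtain ⟨e1, -, e3⟩ := (R hK).big_unique (uG_mem hK _ _ _) (uG_mem hK _ _ _) (hG_mem hK _) (hG_mem hK _)
      (uG_mem hK _ _ _) (uG_mem hK _ _ _) e
    obtain ⟨h1, -, h2⟩ := uG_inj hK e1
    obtain ⟨h3, -, h4⟩ := uG_inj hK e3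
    rw [eq_zero_of_neg_eq h1.symm, eq_zero_of_neg_eq h2.symm, eq_zero_of_neg_eq h3.symm, eq_zero_of_neg_eq h4.symm]
    exact ⟨a, μ, b, rfl⟩

end main

end Cfsg.Agent.Lib.Helper8Ree15
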