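import Cfsg.Agent.Lib.Helper8Ree15
import Cfsg.Agent.S0243

set_option autoImplicit false
set_option linter.unusedSectionVars false

namespace Cfsg.Agent.Lib.Helper8Ree16

open Cfsg.Lie Cfsg.Agent.Lib.Helper22ChevBasic Cfsg.Agent.Lib.Helper8Ree2
  Cfsg.Agent.Lib.Helper8Ree5
  Cfsg.Agent.Lib.Helper8Ree6 Cfsg.Agent.Lib.Helper8Ree7 Cfsg.Agent.Lib.Helper8Ree8 Cfsg.Agent.Lib.Helper8Ree9
  Cfsg.Agent.Lib.Helper8Ree10 Cfsg.Agent.Lib.Helper8Ree11 Cfsg.Agent.Lib.Helper8Ree12 Cfsg.Agent.Lib.Helper8Ree14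
  Cfsg.Agent.Lib.Helper8Ree15
  Cfsg.Agent.Lib.Helper8Rank1 Cfsg.Agent.Lib.Helper8Elem Cfsg.Agent.Lib.Helper8Split

open OnePoint

variable {K : Type*} [Field K] [Fintype K] [CharP K 3]

/-- shortcut instance (speeds up instance search) -/
noncomputable scoped instance (priority := 100000) actGB (m : ℕ) : MulAction (GG K m) (GG K m ⧸ BB K m) :=
  MulAction.quotient (GG K m) (BB K m)

/-- shortcut instance (speeds up instance search) -/
noncomputable scoped instance (priority := 100000) smulGB (m : ℕ) : SMul (GG K m) (GG K m ⧸ BB K m) :=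
  (actGB m).toSMul

/-- the points of the projective line inside `G / B` -/
noncomputable def pt (m : ℕ) : OnePoint K → GG K m ⧸ BB K m
  | Option.none => ((1 : GG K m) : GG K m ⧸ BB K m)
  | Option.some y => ((uG m 0 y 0 * nG m : GG K m) : GG K m ⧸ BB K m)

theorem pt_infty (m : ℕ) : pt (K := K) m ∞ = ((1 : GG K m) : GG K m ⧸ BB K m) := rfl
theorem pt_coe (m : ℕ) (y : K) : pt m (y : OnePoint K) = ((uG m 0 y 0 * nG m : GG K m) : GG K m ⧸ BB K m) := rfl

theorem smul_mk (m : ℕ) (g x : GG K m) : g • (x : GG K m ⧸ BB K m) = ((g * x : GG K m) : GG K m ⧸ BB K m) := rfl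

theorem mk_mul_mem (m : ℕ) (g : GG K m) {b : GG K m} (hb : b ∈ BB K m) :
    ((g * b : GG K m) : GG K m ⧸ BB K m) = (g : GG K m ⧸ BB K m) := QuotientGroup.mk_mul_of_mem g hb

section main

variable {m : ℕ} (hK : Fintype.card K = 3 ^ (2 * m + 1))
include hK

theorem mk_un_eq {u u' : GG K m} (hu : u ∈ UU K m) (hu' : u' ∈ UU K m)
    (h : ((u * nG m : GG K m) : GG K m ⧸ BB K m) = ((u' * nG m : GG K m) : GG K m ⧸ BB K m)) : u = u' := by
  rw [QuotientGroup.eq] at h
  have e : (u * nG m)⁻¹ * (u' * nG m) = (nG m)⁻¹ * (u⁻¹ * u') * nG m := by group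
  rw [e] at h
  have := (R hK).triv' ((UU K m).mul_mem ((UU K m).inv_mem hu) hu') h
  exact (inv_mul_eq_one.1 this)

theorem mk_un_ne {u : GG K m} (hu : u ∈ UU K m) :
    ((u * nG m : GG K m) : GG K m ⧸ BB K m) ≠ ((1 : GG K m) : GG K m ⧸ BB K m) := by
  intro h
  rw [eq_comm, QuotientGroup.eq, inv_one, one_mul] at h
  apply (R hK).n_not_mem_B
  have : nG m = u⁻¹ * (u * nG m) := by group
  rw [this]
  exact (BB K m).mul_mem ((BB K m).inv_mem ((R hK).U_le_B hu)) h

theorem pt_injective : Function.Injective (pt (K := K) m) := by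
  intro a b h
  cases a with
  | infty =>
    cases b with
    | infty => rfl
    | coe y => exact absurd h.symm (mk_un_ne hK (uG_mem hK _ _ _))
  | coe x =>
    cases b with
    | infty => exact absurd h (mk_un_ne hK (uG_mem hK _ _ _))
    | coe y =>
      have := (uG_inj hK (mk_un_eq hK (uG_mem hK _ _ _) (uG_mem hK _ _ _) h)).2.1
      rw [this]

theorem iG_smul_un (t a v : K) : iG hK • ((uG m t a v * nG m : GG K m) : GG K m ⧸ BB K m) =
    ((uG m (-t) a (-v) * nG m : GG K m) : GG K m ⧸ BB K m) := by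
  rw [smul_mk, ← mul_assoc, iG_uG, mul_assoc, iG_nG, ← mul_assoc]
  exact mk_mul_mem m _ (iG_mem_BB hK)

theorem iG_smul_pt (y : OnePoint K) : iG hK • pt m y = pt m y := by
  cases y with
  | infty =>
    rw [pt_infty, smul_mk]
    have := mk_mul_mem m (1 : GG K m) (iG_mem_BB hK)
    rwa [one_mul, ← mul_one (iG hK)] at this
  | coe y => rw [pt_coe, iG_smul_un]; simp

theorem exists_pt {x : GG K m ⧸ BB K m} (hx : iG hK • x = x) : ∃ y, pt m y = x := by
  induction x using QuotientGroup.induction_on with | H g => ?_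
  rcases (R hK).cases' g with hb | ⟨u, hu, b, hb, rfl⟩
  · refine ⟨∞, ?_⟩
    rw [pt_infty]
    have := mk_mul_mem m (1 : GG K m) hb
    rw [one_mul] at this
    exact this.symm
  · obtain ⟨t, a, v, rfl⟩ := (mem_UU hK).1 hu
    have e : ((uG m t a v * nG m * b : GG K m) : GG K m ⧸ BB K m) = ((uG m t a v * nG m : GG K m) : GG K m ⧸ BB K m) :=
      mk_mul_mem m _ hb
    rw [e] at hx ⊢
    rw [iG_smul_un] at hx
    obtain ⟨h1, -, h2⟩ := uG_inj hK (mk_un_eq hK (uG_mem hK _ _ _) (uG_mem hK _ _ _) hx)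
    rw [eq_zero_of_neg_eq h1, eq_zero_of_neg_eq h2]
    exact ⟨(a : OnePoint K), rfl⟩

/-- the fixed points of the involution -/
def Om : Type _ := {x : GG K m ⧸ BB K m // iG hK • x = x}

/-- the centraliser of the involution -/
abbrev CC : Subgroup (GG K m) := Subgroup.centralizer {iG hK}

noncomputable instance actCO : MulAction ↥(CC hK) (Om hK) where
  smul c x := ⟨(c : GG K m) • x.1, by
    have hc := Subgroup.mem_centralizer_singleton_iff.1 c.2
    rw [← mul_smul, ← hc, mul_smul, x.2]⟩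
  one_smul x := Subtype.ext (one_smul _ x.1)
  mul_smul a b x := Subtype.ext (mul_smul (a : GG K m) (b : GG K m) x.1)

theorem coe_smul (c : ↥(CC hK)) (x : Om hK) : (c • x).1 = (c : GG K m) • x.1 := rfl

/-- the labelling of the fixed points -/
noncomputable def EE : OnePoint K ≃ Om hK :=
  Equiv.ofBijective (fun y => ⟨pt m y, iG_smul_pt hK y⟩) ⟨fun a b h => pt_injective hK (congrArg Subtype.val h),
    fun x => by
      obtain ⟨y, hy⟩ := exists_pt hK x.2
      exact ⟨y, Subtype.ext hy⟩⟩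

theorem coe_EE (y : OnePoint K) : (EE hK y).1 = pt m y := rfl

theorem uG_mem_CC (b : K) : uG m 0 b 0 ∈ CC hK := by
  rw [Subgroup.mem_centralizer_singleton_iff, iG_uG]; simp

theorem nG_mem_CC : nG (K := K) m ∈ CC hK := by
  rw [Subgroup.mem_centralizer_singleton_iff, iG_nG]

theorem wG_mem_CC : wG (K := K) m ∈ CC hK := by
  rw [Subgroup.mem_centralizer_singleton_iff, iG_wG]

theorem iG_mem_CC : iG hK ∈ CC hK := by
  rw [Subgroup.mem_centralizer_singleton_iff]

theorem uG_smul_infty (b : K) : uG m 0 b 0 • pt (K := K) m ∞ = pt m ∞ := by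
  rw [pt_infty, smul_mk]
  have := mk_mul_mem m (1 : GG K m) ((R hK).U_le_B (uG_mem hK 0 b 0))
  rwa [one_mul, ← mul_one (uG m 0 b 0)] at this

theorem uG_smul_coe (b y : K) : uG m 0 b 0 • pt m (y : OnePoint K) = pt m ((y + b : K) : OnePoint K) := by
  rw [pt_coe, pt_coe, smul_mk, ← mul_assoc, uG0_mul hK, add_comm b y, add_zero]

theorem nG_smul_infty : nG (K := K) m • pt (K := K) m ∞ = pt m ((0 : K) : OnePoint K) := by
  rw [pt_infty, pt_coe, smul_mk, uG_zero, one_mul, mul_one]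

theorem nG_smul_zero : nG (K := K) m • pt m ((0 : K) : OnePoint K) = pt (K := K) m ∞ := by
  rw [pt_infty, pt_coe, smul_mk, uG_zero, one_mul, nG_sq]

theorem nG_smul_coe (y : K) (hy : y ≠ 0) : nG (K := K) m • pt m (y : OnePoint K) = pt m ((-1 / y : K) : OnePoint K) := by
  rw [pt_coe, pt_coe, smul_mk]
  have e : nG m * (uG m 0 y 0 * nG m) = uG m 0 (-1 / y) 0 * nG m *
      (hG hK (((Units.mk0 y hy)⁻¹ ^ 3 ^ m) ^ 3 * (Units.mk0 y hy)⁻¹)⁻¹ * uG m 0 (-1 / y) 0) := by
    apply Subtype.ext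
    show n1 m * (wU m 0 y 0 * n1 m) = wU m 0 (-1 / y) 0 * n1 m *
      (hh m (((Units.mk0 y hy)⁻¹ ^ 3 ^ m) ^ 3 * (Units.mk0 y hy)⁻¹)⁻¹ * wU m 0 (-1 / y) 0)
    rw [← mul_assoc, n1_wU, mul_assoc, n1_mul_self, mul_one]
    have := wV0_eq hK (Units.mk0 y hy)
    rw [Units.val_mk0] at this
    have hn := n1_hh hK (((Units.mk0 y hy)⁻¹ ^ 3 ^ m) ^ 3 * (Units.mk0 y hy)⁻¹)⁻¹
    rw [inv_inv] at hn
    rw [this, ← hn]
    have e1 : -y⁻¹ = -1 / y := by field_simp
    rw [e1]
    simp only [mul_assoc]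
  rw [e]
  exact mk_mul_mem m _ ((BB K m).mul_mem ((R hK).H_le_B (hG_mem hK _)) ((R hK).U_le_B (uG_mem hK _ _ _)))

end main

end Cfsg.Agent.Lib.Helper8Ree16
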