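import Cfsg.Agent.Lib.Helper8Ree16
import Cfsg.Agent.Lib.Helper7SL

set_option autoImplicit false
set_option linter.unusedSectionVars false

namespace Cfsg.Agent.Lib.Helper8Ree17

open Cfsg.Lie Cfsg.Agent.Lib.Helper22ChevBasic Cfsg.Agent.Lib.Helper8Ree2
  Cfsg.Agent.Lib.Helper8Ree5
  Cfsg.Agent.Lib.Helper8Ree6 Cfsg.Agent.Lib.Helper8Ree7 Cfsg.Agent.Lib.Helper8Ree8 Cfsg.Agent.Lib.Helper8Ree9
  Cfsg.Agent.Lib.Helper8Ree10 Cfsg.Agent.Lib.Helper8Ree11 Cfsg.Agent.Lib.Helper8Ree12 Cfsg.Agent.Lib.Helper8Ree14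
  Cfsg.Agent.Lib.Helper8Ree15 Cfsg.Agent.Lib.Helper8Ree16
  Cfsg.Agent.Lib.Helper8Rank1 Cfsg.Agent.Lib.Helper8Elem Cfsg.Agent.Lib.Helper8Split

open OnePoint

variable {K : Type*} [Field K] [Fintype K] [CharP K 3]

section main

variable {m : ℕ} (hK : Fintype.card K = 3 ^ (2 * m + 1))
include hK

theorem hG_mem_CC (μ : Kˣ) : hG hK μ ∈ CC hK := by
  rw [Subgroup.mem_centralizer_singleton_iff, iG_hG]

theorem card_CC_le : Nat.card ↥(CC hK) ≤ 3 ^ (2 * m + 1) * (3 ^ (2 * m + 1) - 1) * (3 ^ (2 * m + 1) + 1) := by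
  classical
  let f : (K × Kˣ) ⊕ (K × Kˣ × K) → ↥(CC hK) := fun x => match x with
    | Sum.inl (a, μ) => ⟨uG m 0 a 0 * hG hK μ, (CC hK).mul_mem (uG_mem_CC hK a) (hG_mem_CC hK μ)⟩
    | Sum.inr (a, μ, b) => ⟨uG m 0 a 0 * hG hK μ * nG m * uG m 0 b 0,
        (CC hK).mul_mem ((CC hK).mul_mem ((CC hK).mul_mem (uG_mem_CC hK a) (hG_mem_CC hK μ)) (nG_mem_CC hK)) (uG_mem_CC hK b)⟩
  have hf : Function.Surjective f := by
    rintro ⟨g, hg⟩
    rcases mem_CC hK hg with ⟨a, μ, rfl⟩ | ⟨a, μ, b, rfl⟩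
    · exact ⟨Sum.inl (a, μ), rfl⟩
    · exact ⟨Sum.inr (a, μ, b), rfl⟩
  have h1 := Nat.card_le_card_of_surjective f hf
  have h2 : Nat.card ((K × Kˣ) ⊕ (K × Kˣ × K)) = 3 ^ (2 * m + 1) * (3 ^ (2 * m + 1) - 1) * (3 ^ (2 * m + 1) + 1) := by
    rw [Nat.card_eq_fintype_card, Fintype.card_sum, Fintype.card_prod, Fintype.card_prod, Fintype.card_prod,
      Fintype.card_units, hK]
    ring
  rwa [h2] at h1

theorem mem_BB_iff (g : GG K m) : g ∈ BB K m ↔ g • pt (K := K) m ∞ = pt m ∞ := by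
  rw [pt_infty, smul_mk, mul_one, eq_comm, QuotientGroup.eq, inv_one, one_mul]

theorem wG_eq : wG (K := K) m = nG m * uG m 0 1 0 * nG m * uG m 0 (-1) 0 := by
  apply Subtype.ext
  show w1 m = n1 m * wU m 0 1 0 * n1 m * wU m 0 (-1) 0
  rw [n1_wU, mul_assoc (wV m 0 1 0), n1_mul_self, mul_one]
  rfl

theorem wG_smul_infty : wG (K := K) m • pt (K := K) m ∞ = pt m ((-1 : K) : OnePoint K) := by
  rw [wG_eq hK, mul_smul, mul_smul, mul_smul, uG_smul_infty hK, nG_smul_infty hK, uG_smul_coe hK, zero_add,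
    nG_smul_coe hK 1 one_ne_zero, div_one]

theorem wG_smul_zero : wG (K := K) m • pt (K := K) m ((0 : K) : OnePoint K) = pt m ((1 : K) : OnePoint K) := by
  have h3 : (3 : K) = 0 := three_eq_zero
  have hm1 : (-1 : K) ≠ 0 := neg_ne_zero.2 one_ne_zero
  have h2 : (1 + 1 : K) ≠ 0 := by
    intro h
    apply one_ne_zero (α := K)
    linear_combination h3 - h
  rw [wG_eq hK, mul_smul, mul_smul, mul_smul, uG_smul_coe hK, zero_add, nG_smul_coe hK _ hm1, uG_smul_coe hK,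
    nG_smul_coe hK]
  · congr 2
    field_simp
    linear_combination (-1 : K) * h3
  · have : (-1 / -1 + 1 : K) = 1 + 1 := by field_simp
    rw [this]; exact h2

theorem wG_not_mem : wG (K := K) m ∉ BB K m := by
  rw [mem_BB_iff hK, wG_smul_infty hK]
  intro h
  exact absurd (pt_injective hK h) (by simp)

theorem wnG_not_mem : wG (K := K) m * nG m ∉ BB K m := by
  rw [mem_BB_iff hK, mul_smul, nG_smul_infty hK, wG_smul_zero hK]
  intro h
  exact absurd (pt_injective hK h) (by simp)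

/-- `n` in the centraliser -/
noncomputable def nC : ↥(CC hK) := ⟨nG m, nG_mem_CC hK⟩
/-- `w` in the centraliser -/
noncomputable def wC : ↥(CC hK) := ⟨wG m, wG_mem_CC hK⟩
/-- `i` in the centraliser -/
noncomputable def iC : ↥(CC hK) := ⟨iG hK, iG_mem_CC hK⟩

theorem nC_sq : nC hK * nC hK = 1 := Subtype.ext (nG_sq m)
theorem wC_sq : wC hK * wC hK = 1 := Subtype.ext (wG_sq m)
theorem iC_sq : iC hK * iC hK = 1 := Subtype.ext (iG_sq hK)
theorem wC_nC : wC hK * nC hK = nC hK * wC hK := Subtype.ext (wG_nG m)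
theorem iC_comm (c : ↥(CC hK)) : iC hK * c = c * iC hK :=
  Subtype.ext (Subgroup.mem_centralizer_singleton_iff.1 c.2).symm

/-- `⟨n⟩` -/
noncomputable def V1 : Subgroup ↥(CC hK) := ext2 ⊥ (nC hK) (nC_sq hK) (by
  intro v hv; rw [Subgroup.mem_bot.1 hv, mul_one, one_mul])

theorem mem_V1 {g : ↥(CC hK)} : g ∈ V1 hK ↔ g = 1 ∨ g = nC hK := by
  unfold V1
  rw [mem_ext2]
  constructor
  · rintro (h | ⟨h, hh, rfl⟩)
    · exact Or.inl (Subgroup.mem_bot.1 h)
    · right; rw [Subgroup.mem_bot.1 hh, one_mul]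
  · rintro (rfl | rfl)
    · exact Or.inl (one_mem _)
    · exact Or.inr ⟨1, one_mem _, (one_mul _).symm⟩

/-- `⟨n, w⟩` -/
noncomputable def V2 : Subgroup ↥(CC hK) := ext2 (V1 hK) (wC hK) (wC_sq hK) (by
  intro v hv
  rcases (mem_V1 hK).1 hv with rfl | rfl
  · rw [mul_one, one_mul]
  · exact wC_nC hK)

theorem mem_V2 {g : ↥(CC hK)} : g ∈ V2 hK ↔ g = 1 ∨ g = nC hK ∨ g = wC hK ∨ g = nC hK * wC hK := by
  unfold V2
  rw [mem_ext2]
  constructor
  · rintro (h | ⟨h, hh, rfl⟩)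
    · rcases (mem_V1 hK).1 h with rfl | rfl
      · exact Or.inl rfl
      · exact Or.inr (Or.inl rfl)
    · rcases (mem_V1 hK).1 hh with rfl | rfl
      · right; right; left; rw [one_mul]
      · right; right; right; rfl
  · rintro (rfl | rfl | rfl | rfl)
    · exact Or.inl (one_mem _)
    · exact Or.inl ((mem_V1 hK).2 (Or.inr rfl))
    · exact Or.inr ⟨1, one_mem _, (one_mul _).symm⟩
    · exact Or.inr ⟨nC hK, (mem_V1 hK).2 (Or.inr rfl), rfl⟩

/-- `⟨n, w, i⟩` -/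
noncomputable def V3 : Subgroup ↥(CC hK) := ext2 (V2 hK) (iC hK) (iC_sq hK) (fun v _ => iC_comm hK v)

theorem nC_not_mem : nC hK ∉ (⊥ : Subgroup ↥(CC hK)) := by
  intro h
  have := congrArg Subtype.val (Subgroup.mem_bot.1 h)
  apply (R hK).n_not_mem_B
  have e : nG (K := K) m = 1 := this
  rw [e]; exact one_mem _

theorem wC_not_mem : wC hK ∉ V1 hK := by
  intro h
  rcases (mem_V1 hK).1 h with h | h
  · have e : wG (K := K) m = 1 := congrArg Subtype.val h
    apply wG_not_mem hK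
    rw [e]; exact one_mem _
  · have e : wG (K := K) m = nG m := congrArg Subtype.val h
    apply wnG_not_mem hK
    rw [e, nG_sq]; exact one_mem _

theorem iC_not_mem : iC hK ∉ V2 hK := by
  intro h
  rcases (mem_V2 hK).1 h with h | h | h | h
  · exact iG_ne_one hK (congrArg Subtype.val h)
  · have e : iG hK = nG m := congrArg Subtype.val h
    apply (R hK).n_not_mem_B
    rw [← e]; exact iG_mem_BB hK
  · have e : iG hK = wG m := congrArg Subtype.val h
    apply wG_not_mem hK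
    rw [← e]; exact iG_mem_BB hK
  · have e : iG hK = nG m * wG m := congrArg Subtype.val h
    apply wnG_not_mem hK
    rw [wG_nG, ← e]; exact iG_mem_BB hK

theorem card_V3 : Nat.card ↥(V3 hK) = 8 := by
  unfold V3
  rw [card_ext2 _ _ _ _ (iC_not_mem hK)]
  unfold V2
  rw [card_ext2 _ _ _ _ (wC_not_mem hK)]
  unfold V1
  rw [card_ext2 _ _ _ _ (nC_not_mem hK), Subgroup.card_bot]

theorem exp_V3 : ∀ v ∈ V3 hK, v * v = 1 := by
  apply exp_ext2
  apply exp_ext2
  apply exp_ext2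
  intro v hv
  rw [Subgroup.mem_bot.1 hv, mul_one]

omit hK [Fintype K] [CharP K 3] [Field K] in
theorem q_mod (m : ℕ) : 3 ^ (2 * m + 1) % 16 = 3 ∨ 3 ^ (2 * m + 1) % 16 = 11 := by
  induction m with
  | zero => left; norm_num
  | succ k ih =>
    have e : 3 ^ (2 * (k + 1) + 1) = 9 * 3 ^ (2 * k + 1) := by ring
    rw [e]
    omega

theorem card_GG_mod : Nat.card (GG K m) % 16 = 8 := by
  rw [card_G1 hK]
  have h1 : 1 ≤ 3 ^ (2 * m + 1) := Nat.one_le_pow _ _ (by norm_num)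
  obtain ⟨r, hr⟩ : ∃ r, 3 ^ (2 * m + 1) = r + 1 := ⟨3 ^ (2 * m + 1) - 1, by omega⟩
  have hq := q_mod m
  rw [hr] at hq ⊢
  rw [Nat.add_sub_cancel]
  have h2 : r % 16 = 2 ∨ r % 16 = 10 := by omega
  rcases h2 with h | h
  · simp [Nat.mul_mod, Nat.add_mod, Nat.pow_mod, h]
  · simp [Nat.mul_mod, Nat.add_mod, Nat.pow_mod, h]

theorem odd_index_V3 : Odd (V3 hK).index := by
  by_contra hodd
  rw [Nat.not_odd_iff_even] at hodd
  obtain ⟨k, hk⟩ := hodd
  have h1 := Subgroup.card_mul_index (V3 hK)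
  have h2 := Subgroup.card_mul_index (CC hK)
  have h3 := card_GG_mod hK
  rw [card_V3, hk] at h1
  rw [← h2, ← h1] at h3
  have : 8 * (k + k) * (CC hK).index = 16 * (k * (CC hK).index) := by ring
  rw [this] at h3
  omega

theorem exists_chi : ∃ χ : ↥(CC hK) →* Multiplicative (ZMod 2), χ (iC hK) ≠ 1 := by
  obtain ⟨φ, -, hφ⟩ := exists_sign_ext2 (V2 hK) (iC hK) (iC_sq hK) (fun v _ => iC_comm hK v) (iC_not_mem hK)
  refine exists_char_of_central (iC hK) ?_ (iC_sq hK) (V3 hK) (odd_index_V3 hK)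
    (self_mem_ext2 _ _ _ _) φ ?_
  · rw [Subgroup.mem_center_iff]
    intro g; exact (iC_comm hK g).symm
  · intro h
    have : (⟨iC hK, self_mem_ext2 _ _ _ _⟩ : ↥(ext2 (V2 hK) (iC hK) (iC_sq hK) (fun v _ => iC_comm hK v))) ∈ φ.ker := h
    rw [hφ, Subgroup.mem_subgroupOf] at this
    exact iC_not_mem hK this

theorem hG_smul_infty (μ : Kˣ) : hG hK μ • pt (K := K) m ∞ = pt m ∞ :=
  (mem_BB_iff hK _).1 ((R hK).H_le_B (hG_mem hK μ))

theorem hG_smul_coe (μ : Kˣ) (y : K) : hG hK μ • pt m (y : OnePoint K) = pt m ((ch2 m μ * y : K) : OnePoint K) := by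
  rw [pt_coe, pt_coe, smul_mk, ← mul_assoc, hG_uG, mul_zero, mul_zero, mul_assoc]
  have : hG hK μ * nG m = nG m * hG hK μ⁻¹ := by
    have := nG_hG hK μ⁻¹
    rw [inv_inv] at this
    exact this.symm
  rw [this, ← mul_assoc]
  exact mk_mul_mem m _ ((R hK).H_le_B (hG_mem hK _))

theorem faithful_aux {g : GG K m} (hg : g ∈ CC hK) (h : ∀ y : OnePoint K, g • pt m y = pt m y) :
    g = 1 ∨ g = iG hK := by
  rcases mem_CC hK hg with ⟨a, μ, rfl⟩ | ⟨a, μ, b, rfl⟩
  · have h0 := h ((0 : K) : OnePoint K)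
    rw [mul_smul, hG_smul_coe, mul_zero, uG_smul_coe hK, zero_add] at h0
    have ha : a = 0 := by simpa using pt_injective hK h0
    subst ha
    have h1 := h ((1 : K) : OnePoint K)
    rw [uG_zero, one_mul, hG_smul_coe, mul_one] at h1
    have hc : ch2 m μ = 1 := by simpa using pt_injective hK h1
    rw [uG_zero, one_mul]
    rcases ch2_eq_one hK hc with rfl | rfl
    · left; exact hG_one hK
    · right; rfl
  · exfalso
    exact (R hK).big_not_mem_B (uG_mem hK _ _ _) (hG_mem hK _) (uG_mem hK _ _ _) ((mem_BB_iff hK _).2 (h ∞))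

omit hK [Fintype K] [CharP K 3] [Field K] in
theorem z2_sq (a : Multiplicative (ZMod 2)) : a * a = 1 := by revert a; decide

theorem iso_ker (χ : ↥(CC hK) →* Multiplicative (ZMod 2)) (hχ : χ (iC hK) ≠ 1) :
    Nonempty (↥χ.ker ≃* Matrix.ProjectiveSpecialLinearGroup (Fin 2) K) := by
  classical
  have hu : ∀ b : K, (⟨uG m 0 b 0, uG_mem_CC hK b⟩ : ↥(CC hK)) ∈ χ.ker := by
    intro b
    set c : ↥(CC hK) := ⟨uG m 0 b 0, uG_mem_CC hK b⟩ with hc
    have h3 : c * c * c = 1 := by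
      apply Subtype.ext
      show uG m 0 b 0 * uG m 0 b 0 * uG m 0 b 0 = 1
      rw [uG0_mul hK, uG0_mul hK]
      have h3 : (3 : K) = 0 := three_eq_zero
      have : b + b + b = 0 := by linear_combination b * h3
      rw [this, add_zero, add_zero, uG_zero]
    have := congrArg χ h3
    rw [map_mul, map_mul, z2_sq, one_mul, map_one] at this
    exact this
  obtain ⟨t, ht, htt⟩ : ∃ t : ↥(CC hK), t ∈ χ.ker ∧ ∀ y : OnePoint K, (t : GG K m) • pt m y = nG m • pt m y := by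
    by_cases hn : χ (nC hK) = 1
    · exact ⟨nC hK, hn, fun y => rfl⟩
    · refine ⟨nC hK * iC hK, ?_, fun y => ?_⟩
      · rw [MonoidHom.mem_ker, map_mul, (z2_cases _).resolve_left hn, (z2_cases _).resolve_left hχ]
        rfl
      · show (nG m * iG hK) • pt m y = nG m • pt m y
        rw [mul_smul, iG_smul_pt]
  refine iso_of_data' (G := ↥χ.ker) (Ω := Om hK) ?_ (EE hK) ?_ ⟨t, ht⟩ (-1) 1 (by ring) (by simp) ?_ ?_ ?_ ?_
  · intro g hg
    have h1 : ∀ y : OnePoint K, ((g : ↥(CC hK)) : GG K m) • pt m y = pt m y := by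
      intro y
      exact congrArg Subtype.val (hg (EE hK y))
    rcases faithful_aux hK g.1.2 h1 with h | h
    · exact Subtype.ext (Subtype.ext h)
    · exfalso
      apply hχ
      have : (g : ↥(CC hK)) = iC hK := Subtype.ext h
      rw [← this]
      exact g.2
  · intro b
    refine ⟨⟨_, hu b⟩, ?_, fun y => ?_⟩
    · exact Subtype.ext (uG_smul_infty hK b)
    · exact Subtype.ext (uG_smul_coe hK b y)
  · apply Subtype.ext
    show (t : GG K m) • pt m ∞ = _
    rw [htt, nG_smul_infty hK]; rfl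
  · apply Subtype.ext
    show (t : GG K m) • pt m ((0 : K) : OnePoint K) = _
    rw [htt, nG_smul_zero hK]; rfl
  · intro y hy
    apply Subtype.ext
    show (t : GG K m) • pt m (y : OnePoint K) = _
    rw [htt, nG_smul_coe hK y hy]; rfl
  · have h1 := Subgroup.card_mul_index χ.ker
    have hs : Function.Surjective χ := by
      intro a
      rcases z2_cases a with rfl | rfl
      · exact ⟨1, map_one _⟩
      · exact ⟨iC hK, (z2_cases _).resolve_left hχ⟩
    rw [Subgroup.index_ker, MonoidHom.range_eq_top.2 hs, Subgroup.card_top] at h1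
    have h2 : Nat.card (Multiplicative (ZMod 2)) = 2 := by
      rw [Nat.card_eq_fintype_card]; rfl
    rw [h2] at h1
    have h3 := card_CC_le hK
    have hodd : Odd (Fintype.card K) := by
      rw [hK]; exact Odd.pow (by decide)
    have h4 := Cfsg.Agent.Lib.Helper7SL.card_PSL_two_mul_two hodd
    rw [hK] at h4
    have h5 : 3 ^ (2 * m + 1) * ((3 ^ (2 * m + 1)) ^ 2 - 1) = 3 ^ (2 * m + 1) * (3 ^ (2 * m + 1) - 1) * (3 ^ (2 * m + 1) + 1) := by
      have := Nat.sq_sub_sq (3 ^ (2 * m + 1)) 1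
      rw [one_pow] at this
      rw [this]; ring
    rw [h5] at h4
    omega

theorem iso_CC : Nonempty (↥(CC hK) ≃* Multiplicative (ZMod 2) × Matrix.ProjectiveSpecialLinearGroup (Fin 2) K) := by
  obtain ⟨χ, hχ⟩ := exists_chi hK
  obtain ⟨e1⟩ := split_of_char (iC hK) (by
    rw [Subgroup.mem_center_iff]
    intro g; exact (iC_comm hK g).symm) (iC_sq hK) χ hχ
  obtain ⟨e2⟩ := iso_ker hK χ hχ
  exact ⟨e1.trans (MulEquiv.prodCongr (MulEquiv.refl _) e2)⟩

omit hK [Fintype K] [CharP K 3] [Field K] in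
theorem sylow_of_elem {G : Type*} [Group G] [Finite G] (S₀ : Subgroup G) (h8 : Nat.card S₀ = 8)
    (hG : Nat.card G % 16 = 8) : ∃ P : Sylow 2 G, (P : Subgroup G) = S₀ := by
  have hp : IsPGroup 2 S₀ := IsPGroup.of_card (n := 3) (by rw [h8]; norm_num)
  obtain ⟨P, hP⟩ := hp.exists_le_sylow
  obtain ⟨n, hn⟩ := IsPGroup.iff_card.1 P.2
  have h1 : Nat.card (P : Subgroup G) ∣ Nat.card G := Subgroup.card_subgroup_dvd_card _
  have h2 : Nat.card S₀ ∣ Nat.card (P : Subgroup G) := Subgroup.card_dvd_of_le hP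
  have hn3 : n ≤ 3 := by
    by_contra hlt
    have : 2 ^ 4 ∣ 2 ^ n := pow_dvd_pow 2 (by omega)
    have h16 : 16 ∣ Nat.card G := by
      have := this.trans (hn ▸ h1)
      simpa using this
    omega
  have hle : Nat.card (P : Subgroup G) ≤ Nat.card S₀ := by
    rw [hn, h8]
    calc 2 ^ n ≤ 2 ^ 3 := Nat.pow_le_pow_right (by norm_num) hn3
      _ = 8 := by norm_num
  exact ⟨P, (Subgroup.eq_of_le_of_card_ge hP hle).symm⟩

omit hK [Fintype K] [CharP K 3] [Field K] in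
theorem sylow_all {G : Type*} [Group G] [Finite G] (S₀ : Subgroup G) (h8 : Nat.card S₀ = 8)
    (hG : Nat.card G % 16 = 8) (S : Sylow 2 G) : ∃ g : G, ∀ x, x ∈ S ↔ g⁻¹ * x * g ∈ S₀ := by
  obtain ⟨P, hP⟩ := sylow_of_elem S₀ h8 hG
  obtain ⟨g, hg⟩ := MulAction.exists_smul_eq G P S
  refine ⟨g, fun x => ?_⟩
  rw [← hP, ← hg]
  show x ∈ ((g • P : Sylow 2 G) : Subgroup G) ↔ _
  rw [Sylow.coe_subgroup_smul, Subgroup.mem_pointwise_smul_iff_inv_smul_mem]
  simp [MulAut.smul_def, MulAut.conj_apply, mul_assoc]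

theorem sylow_GG (S : Sylow 2 (GG K m)) : ∃ g : GG K m, ∀ x, x ∈ S ↔ g⁻¹ * x * g ∈ (V3 hK).map (CC hK).subtype := by
  apply sylow_all _ _ (card_GG_mod hK)
  rw [Subgroup.card_map_of_injective (Subgroup.subtype_injective _), card_V3]

theorem card_sylow_GG (S : Sylow 2 (GG K m)) : Nat.card S = 8 := by
  obtain ⟨P, hP⟩ := sylow_of_elem ((V3 hK).map (CC hK).subtype)
    (by rw [Subgroup.card_map_of_injective (Subgroup.subtype_injective _), card_V3]) (card_GG_mod hK)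
  have h1 : Nat.card (P : Subgroup (GG K m)) = 8 := by
    rw [hP, Subgroup.card_map_of_injective (Subgroup.subtype_injective _), card_V3]
  rw [← h1]
  exact (Sylow.card_eq_multiplicity S).trans (Sylow.card_eq_multiplicity P).symm

theorem exp_sylow_GG (S : Sylow 2 (GG K m)) : ∀ x ∈ S, x * x = 1 := by
  obtain ⟨g, hg⟩ := sylow_GG hK S
  intro x hx
  obtain ⟨v, hv, hvx⟩ := Subgroup.mem_map.1 ((hg x).1 hx)
  have h1 := congrArg Subtype.val (exp_V3 hK v hv)
  have h2 : (g⁻¹ * x * g) * (g⁻¹ * x * g) = 1 := by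
    rw [← hvx]; exact h1
  have h3 : (g⁻¹ * x * g) * (g⁻¹ * x * g) = g⁻¹ * (x * x) * g := by group
  rw [h3] at h2
  have : x * x = g * (g⁻¹ * (x * x) * g) * g⁻¹ := by group
  rw [this, h2]; group

theorem eq_iG {a : GG K m} (haH : (a : GL chevG2.Idx K) ∈ chevG2.diagonalSubgroup K) (ha1 : a ≠ 1) (ha2 : a * a = 1) :
    a = iG hK := by
  have ha : a ∈ HH K m := by
    rw [Subgroup.mem_subgroupOf]
    exact ⟨haH, a.2⟩
  obtain ⟨μ, rfl⟩ := (mem_HH hK).1 ha
  rw [hG_mul, ← hG_one hK] at ha2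
  have h1 := hG_inj hK ha2
  have h2 : ((μ : K) - 1) * ((μ : K) + 1) = 0 := by
    have := congrArg Units.val h1
    rw [Units.val_mul, Units.val_one] at this
    linear_combination this
  rcases mul_eq_zero.1 h2 with h | h
  · exfalso
    apply ha1
    have : μ = 1 := Units.ext (by rw [Units.val_one]; linear_combination h)
    rw [this, hG_one]
  · have : μ = -1 := Units.ext (by rw [Units.val_neg, Units.val_one]; linear_combination h)
    rw [this]; rfl

end main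

end Cfsg.Agent.Lib.Helper8Ree17
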