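import Cfsg.Agent.Lib.Helper8Ree17
import Cfsg.Agent.Lib.Helper8PSL
import Cfsg.Agent.Lib.Helper8Fus

set_option autoImplicit false
set_option linter.unusedSectionVars false

namespace Cfsg.Agent.Lib.Helper8Ree18

open Cfsg.Lie Cfsg.Agent.Lib.Helper22ChevBasic Cfsg.Agent.Lib.Helper8Ree2
  Cfsg.Agent.Lib.Helper8Ree5
  Cfsg.Agent.Lib.Helper8Ree6 Cfsg.Agent.Lib.Helper8Ree7 Cfsg.Agent.Lib.Helper8Ree8 Cfsg.Agent.Lib.Helper8Ree9
  Cfsg.Agent.Lib.Helper8Ree10 Cfsg.Agent.Lib.Helper8Ree11 Cfsg.Agent.Lib.Helper8Ree12 Cfsg.Agent.Lib.Helper8Ree14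
  Cfsg.Agent.Lib.Helper8Ree15 Cfsg.Agent.Lib.Helper8Ree16 Cfsg.Agent.Lib.Helper8Ree17
  Cfsg.Agent.Lib.Helper8Rank1 Cfsg.Agent.Lib.Helper8Elem Cfsg.Agent.Lib.Helper8Split
  Cfsg.Agent.Lib.Helper8PSL Cfsg.Agent.Lib.Helper8Fus

local notation "PSL2" => Matrix.ProjectiveSpecialLinearGroup (Fin 2)

/-- abstract: cardinality through a homomorphism with kernel of order two -/
theorem card_of_ker {C L : Type*} [Group C] [Group L] [Finite C] (φ : C →* L) (hk : Nat.card φ.ker = 2)
    (X : Subgroup C) (hX : φ.ker ≤ X) : Nat.card X = 2 * Nat.card (X.map φ) := by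
  have h5 := Subgroup.relIndex_mul_relIndex ⊥ _ _ bot_le hX
  rw [Subgroup.relIndex_bot_left, Subgroup.relIndex_bot_left, Subgroup.relIndex_ker, hk] at h5
  exact h5.symm

theorem card_ker_two {C L : Type*} [Group C] [Group L] (φ : C →* L) (z : C) (hz : z ≠ 1)
    (h : ∀ c, φ c = 1 ↔ c = 1 ∨ c = z) : Nat.card φ.ker = 2 := by
  have : (φ.ker : Set C) = {1, z} := by
    ext c
    simp only [SetLike.mem_coe, MonoidHom.mem_ker, h, Set.mem_insert_iff, Set.mem_singleton_iff]
  rw [← SetLike.coe_sort_coe, Nat.card_coe_set_eq, this, Set.ncard_pair hz.symm]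

variable {K : Type*} [Field K] [Fintype K] [CharP K 3]

section main

variable {m : ℕ} (hK : Fintype.card K = 3 ^ (2 * m + 1))
include hK

theorem q_mod8 : Fintype.card K % 8 = 3 := by
  rw [hK]
  rcases q_mod m with h | h <;> omega

theorem q_ge (hm : 1 ≤ m) : 27 ≤ Fintype.card K := by
  rw [hK]
  calc 27 = 3 ^ 3 := by norm_num
    _ ≤ 3 ^ (2 * m + 1) := Nat.pow_le_pow_right (by norm_num) (by omega)

theorem exists_phi (hm : 1 ≤ m) : ∃ φ : ↥(CC hK) →* PSL2 K, Function.Surjective φ ∧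
    ∀ c, φ c = 1 ↔ c = 1 ∨ c = iC hK := by
  obtain ⟨e⟩ := iso_CC hK
  have hq := q_mod8 hK
  have h4 : 4 ≤ Fintype.card K := le_trans (by norm_num) (q_ge hK hm)
  have hl : (e (iC hK)).2 = 1 := by
    have : (e (iC hK)).2 ∈ Subgroup.center (PSL2 K) := by
      rw [Subgroup.mem_center_iff]
      intro l
      have h1 := iC_comm hK (e.symm (1, l))
      have h2 := congrArg e h1
      rw [map_mul, map_mul, MulEquiv.apply_symm_apply] at h2
      exact (congrArg Prod.snd h2).symm
    rw [center_eq_bot hq h4] at this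
    exact Subgroup.mem_bot.1 this
  have hi1 : iC hK ≠ 1 := fun h => iG_ne_one hK (congrArg Subtype.val h)
  have ha : (e (iC hK)).1 = Multiplicative.ofAdd 1 := by
    refine (z2_cases _).resolve_left ?_
    intro h
    apply hi1
    apply e.injective
    rw [map_one]
    exact Prod.ext h hl
  refine ⟨(MonoidHom.snd _ _).comp e.toMonoidHom, ?_, ?_⟩
  · intro l
    exact ⟨e.symm (1, l), by simp⟩
  · intro c
    constructor
    · intro h
      have h' : (e c).2 = 1 := h
      rcases z2_cases (e c).1 with h1 | h1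
      · left
        apply e.injective
        rw [map_one]
        exact Prod.ext h1 h'
      · right
        apply e.injective
        exact Prod.ext (h1.trans ha.symm) (h'.trans hl.symm)
    · rintro (rfl | rfl)
      · exact map_one _
      · exact hl

theorem exists_sylow_iG : ∃ P : Sylow 2 (GG K m), iG hK ∈ P := by
  have hp : IsPGroup 2 (Subgroup.zpowers (iG hK)) := by
    apply IsPGroup.of_card (n := 1)
    rw [Nat.card_zpowers, pow_one]
    exact orderOf_eq_prime (by rw [pow_two]; exact iG_sq hK) (iG_ne_one hK)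
  obtain ⟨P, hP⟩ := hp.exists_le_sylow
  exact ⟨P, hP (Subgroup.mem_zpowers _)⟩

theorem invol_conj (hm : 1 ≤ m) {t : GG K m} (ht1 : t ≠ 1) (ht2 : t * t = 1) :
    ∃ x : GG K m, t = x * iG hK * x⁻¹ := by
  obtain ⟨P, hiP⟩ := exists_sylow_iG hK
  have hp : IsPGroup 2 (Subgroup.zpowers t) := by
    apply IsPGroup.of_card (n := 1)
    rw [Nat.card_zpowers, pow_one]
    exact orderOf_eq_prime (by rw [pow_two]; exact ht2) ht1
  obtain ⟨Q, hQ⟩ := hp.exists_le_sylow
  have htQ : t ∈ Q := hQ (Subgroup.mem_zpowers _)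
  obtain ⟨g, hg⟩ := MulAction.exists_smul_eq (GG K m) P Q
  have h1 : g⁻¹ * t * g ∈ P := by
    rw [← hg] at htQ
    have h2 : t ∈ ((g • P : Sylow 2 (GG K m)) : Subgroup (GG K m)) := htQ
    rw [Sylow.coe_subgroup_smul, Subgroup.mem_pointwise_smul_iff_inv_smul_mem] at h2
    show g⁻¹ * t * g ∈ (P : Subgroup (GG K m))
    simpa [MulAut.smul_def, mul_assoc] using h2
  have h2 : g⁻¹ * t * g ≠ 1 := by
    intro h
    apply ht1
    have : t = g * (g⁻¹ * t * g) * g⁻¹ := by group
    rw [this, h]; group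
  obtain ⟨n, -, hn⟩ := (trans8 (perfect hK hm) P (card_sylow_GG hK P) (exp_sylow_GG hK P) (iG hK) hiP
    (iG_ne_one hK)).1 _ h1 h2
  refine ⟨g * n, ?_⟩
  have : t = g * (g⁻¹ * t * g) * g⁻¹ := by group
  rw [this, ← hn]; group

theorem exists_phi' (hm : 1 ≤ m) {t : GG K m} (ht1 : t ≠ 1) (ht2 : t * t = 1) :
    ∃ φ : ↥(Subgroup.centralizer {t}) →* PSL2 K, Function.Surjective φ ∧
    ∀ c, φ c = 1 ↔ c = 1 ∨ (c : GG K m) = t := by
  obtain ⟨x, rfl⟩ := invol_conj hK hm ht1 ht2
  obtain ⟨φ, hs, hk⟩ := exists_phi hK hm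
  have hmem : ∀ c : ↥(Subgroup.centralizer {x * iG hK * x⁻¹}), x⁻¹ * (c : GG K m) * x ∈ CC hK := by
    intro c
    have := Subgroup.mem_centralizer_singleton_iff.1 c.2
    rw [Subgroup.mem_centralizer_singleton_iff]
    calc x⁻¹ * (c : GG K m) * x * iG hK = x⁻¹ * ((c : GG K m) * (x * iG hK * x⁻¹)) * x := by group
      _ = x⁻¹ * ((x * iG hK * x⁻¹) * (c : GG K m)) * x := by rw [this]
      _ = _ := by group
  let ψ : ↥(Subgroup.centralizer {x * iG hK * x⁻¹}) →* ↥(CC hK) := MonoidHom.mk' (fun c => ⟨_, hmem c⟩) (by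
    intro a b
    apply Subtype.ext
    show x⁻¹ * ((a : GG K m) * (b : GG K m)) * x = (x⁻¹ * (a : GG K m) * x) * (x⁻¹ * (b : GG K m) * x)
    group)
  refine ⟨φ.comp ψ, ?_, ?_⟩
  · intro l
    obtain ⟨c, rfl⟩ := hs l
    refine ⟨⟨x * (c : GG K m) * x⁻¹, ?_⟩, ?_⟩
    · have := Subgroup.mem_centralizer_singleton_iff.1 c.2
      rw [Subgroup.mem_centralizer_singleton_iff]
      calc x * (c : GG K m) * x⁻¹ * (x * iG hK * x⁻¹) = x * ((c : GG K m) * iG hK) * x⁻¹ := by group
        _ = x * (iG hK * (c : GG K m)) * x⁻¹ := by rw [this]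
        _ = _ := by group
    · show φ _ = φ c
      congr 1
      apply Subtype.ext
      show x⁻¹ * (x * (c : GG K m) * x⁻¹) * x = c
      group
  · intro c
    show φ (ψ c) = 1 ↔ _
    rw [hk]
    constructor
    · rintro (h | h)
      · left
        have h' : x⁻¹ * (c : GG K m) * x = 1 := congrArg Subtype.val h
        apply Subtype.ext
        have : (c : GG K m) = x * (x⁻¹ * (c : GG K m) * x) * x⁻¹ := by group
        rw [this, h']; simp
      · right
        have h' : x⁻¹ * (c : GG K m) * x = iG hK := congrArg Subtype.val h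
        have : (c : GG K m) = x * (x⁻¹ * (c : GG K m) * x) * x⁻¹ := by group
        rw [this, h']
    · rintro (rfl | h)
      · left; exact map_one ψ
      · right
        apply Subtype.ext
        show x⁻¹ * (c : GG K m) * x = iG hK
        rw [h]; group

theorem s1157 (hm : 1 ≤ m) (S : Sylow 2 (GG K m)) :
    Subgroup.centralizer ((S : Subgroup (GG K m)) : Set (GG K m)) = S ∧
      Nat.card (Subgroup.normalizer ((S : Subgroup (GG K m)) : Set (GG K m))) = 168 := by
  have h8 := card_sylow_GG hK S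
  have hexp := exp_sylow_GG hK S
  have hq := q_mod8 hK
  have h4 : 4 ≤ Fintype.card K := le_trans (by norm_num) (q_ge hK hm)
  obtain ⟨t, htS, ht1⟩ : ∃ t ∈ S, t ≠ 1 := by
    by_contra hcon
    push Not at hcon
    have : (S : Subgroup (GG K m)) = ⊥ := (Subgroup.eq_bot_iff_forall _).2 hcon
    have h' : Nat.card (S : Subgroup (GG K m)) = 8 := h8
    rw [this, Subgroup.card_bot] at h'
    omega
  have ht2 := hexp t htS
  have hcomm : ∀ x ∈ S, ∀ y ∈ S, x * y = y * x := by
    intro x hx y hy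
    have h1 := hexp (x * y) (S.mul_mem hx hy)
    have h2 := hexp x hx
    have h3 := hexp y hy
    calc x * y = x * (x * y * (x * y)) * y := by rw [h1, mul_one]
      _ = (x * x) * (y * x) * (y * y) := by group
      _ = y * x := by rw [h2, h3, one_mul, mul_one]
  have hφ := exists_phi' hK hm ht1 ht2
  set C := Subgroup.centralizer {t} with hC
  obtain ⟨φ, hs, hk⟩ := hφ
  have hSC : (S : Subgroup (GG K m)) ≤ C := by
    intro x hx
    rw [hC, Subgroup.mem_centralizer_singleton_iff]
    exact hcomm x hx t htS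
  have htC : t ∈ C := hSC htS
  have hk' : ∀ c, φ c = 1 ↔ c = 1 ∨ c = ⟨t, htC⟩ := by
    intro c
    rw [hk]
    constructor
    · rintro (h | h)
      · exact Or.inl h
      · exact Or.inr (Subtype.ext h)
    · rintro (h | h)
      · exact Or.inl h
      · exact Or.inr (congrArg Subtype.val h)
  have hker := card_ker_two φ ⟨t, htC⟩ (fun h => ht1 (congrArg Subtype.val h)) hk'
  set S' := (S : Subgroup (GG K m)).subgroupOf C with hS'
  have hkS : φ.ker ≤ S' := by
    intro c hc
    rcases (hk' c).1 hc with rfl | rfl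
    · exact one_mem _
    · exact Subgroup.mem_subgroupOf.2 htS
  have hS'card : Nat.card S' = 8 := by
    rw [hS', Nat.card_congr (Subgroup.subgroupOfEquivOfLe hSC).toEquiv]; exact h8
  have hTcard : Nat.card (S'.map φ) = 4 := by
    have := card_of_ker φ hker S' hkS
    omega
  obtain ⟨T, hT⟩ : ∃ T : Sylow 2 (PSL2 K), (T : Subgroup (PSL2 K)) = S'.map φ := by
    have hp : IsPGroup 2 (S'.map φ) := IsPGroup.of_card (n := 2) (by rw [hTcard]; norm_num)
    obtain ⟨T, hT⟩ := hp.exists_le_sylow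
    refine ⟨T, (Subgroup.eq_of_le_of_card_ge hT ?_).symm⟩
    rw [hTcard]
    exact le_of_eq (card_sylow hq T)
  have hcomap : (T : Subgroup (PSL2 K)).comap φ = S' := by
    rw [hT]; exact Subgroup.comap_map_eq_self hkS
  constructor
  · apply le_antisymm
    · intro g hg
      have hgC : g ∈ C := by
        rw [hC, Subgroup.mem_centralizer_singleton_iff]
        exact (Subgroup.mem_centralizer_iff.1 hg t htS).symm
      have h1 : φ ⟨g, hgC⟩ ∈ Subgroup.centralizer ((T : Subgroup (PSL2 K)) : Set (PSL2 K)) := by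
        rw [Subgroup.mem_centralizer_iff]
        intro l hl
        have hl' : l ∈ (T : Subgroup (PSL2 K)) := hl
        rw [hT] at hl'
        obtain ⟨s, hs', rfl⟩ := Subgroup.mem_map.1 hl'
        rw [← map_mul, ← map_mul]
        congr 1
        apply Subtype.ext
        exact Subgroup.mem_centralizer_iff.1 hg s (Subgroup.mem_subgroupOf.1 hs')
      rw [cent_eq hq h4 T] at h1
      have h2 : (⟨g, hgC⟩ : C) ∈ (T : Subgroup (PSL2 K)).comap φ := h1
      rw [hcomap] at h2
      exact Subgroup.mem_subgroupOf.1 h2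
    · intro g hg
      rw [Subgroup.mem_centralizer_iff]
      intro s hs'
      exact hcomm s hs' g hg
  · rw [(trans8 (perfect hK hm) S h8 hexp t htS ht1).2]
    have e1 : Nat.card ↥(Subgroup.normalizer ((S : Subgroup (GG K m)) : Set (GG K m)) ⊓ C) =
        Nat.card ↥((Subgroup.normalizer ((S : Subgroup (GG K m)) : Set (GG K m))).subgroupOf C) := by
      rw [← Subgroup.inf_subgroupOf_right]
      exact (Nat.card_congr (Subgroup.subgroupOfEquivOfLe inf_le_right).toEquiv).symm
    rw [e1, Subgroup.subgroupOf_normalizer_eq hSC, ← hS', ← hcomap,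
      ← Subgroup.comap_normalizer_eq_of_surjective _ hs]
    rw [card_of_ker φ hker _ (by
      intro c hc
      rw [Subgroup.mem_comap, MonoidHom.mem_ker.1 hc]
      exact one_mem _), Subgroup.map_comap_eq_self_of_surjective hs, card_norm hq T]

end main

end Cfsg.Agent.Lib.Helper8Ree18
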