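import Cfsg.Agent.Lib.Helper8Ree18
import Cfsg.Agent.Lib.Helper8PSL2

set_option autoImplicit false
set_option linter.unusedSectionVars false

namespace Cfsg.Agent.Lib.Helper8Ree19

open Cfsg.Lie Cfsg.Agent.Lib.Helper22ChevBasic Cfsg.Agent.Lib.Helper8Ree2
  Cfsg.Agent.Lib.Helper8Ree5
  Cfsg.Agent.Lib.Helper8Ree6 Cfsg.Agent.Lib.Helper8Ree7 Cfsg.Agent.Lib.Helper8Ree8 Cfsg.Agent.Lib.Helper8Ree9
  Cfsg.Agent.Lib.Helper8Ree10 Cfsg.Agent.Lib.Helper8Ree11 Cfsg.Agent.Lib.Helper8Ree12 Cfsg.Agent.Lib.Helper8Ree14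
  Cfsg.Agent.Lib.Helper8Ree15 Cfsg.Agent.Lib.Helper8Ree16 Cfsg.Agent.Lib.Helper8Ree17 Cfsg.Agent.Lib.Helper8Ree18
  Cfsg.Agent.Lib.Helper8Rank1 Cfsg.Agent.Lib.Helper8Elem Cfsg.Agent.Lib.Helper8Split
  Cfsg.Agent.Lib.Helper8PSL Cfsg.Agent.Lib.Helper8Fus Cfsg.Agent.Lib.Helper8PSL2

local notation "PSL2" => Matrix.ProjectiveSpecialLinearGroup (Fin 2)

/-- a `p`-element is conjugate into any subgroup of index prime to `p` -/
theorem conj_mem_of_not_dvd {G : Type*} [Group G] [Finite G] (X : Subgroup G) {p : ℕ} [Fact p.Prime] (y : G)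
    (k : ℕ) (hy : y ^ (p ^ k) = 1) (hX : ¬ p ∣ X.index) : ∃ g, g⁻¹ * y * g ∈ X := by
  have hP : IsPGroup p (Subgroup.zpowers y) := by
    rintro ⟨z, hz⟩
    obtain ⟨j, rfl⟩ := Subgroup.mem_zpowers_iff.1 hz
    refine ⟨k, Subtype.ext ?_⟩
    show (y ^ j) ^ (p ^ k) = 1
    rw [← zpow_natCast, ← zpow_mul, mul_comm, zpow_mul, zpow_natCast, hy, one_zpow]
  obtain ⟨x, hx⟩ := hP.nonempty_fixed_point_of_prime_not_dvd_card (G ⧸ X) (by rwa [← Subgroup.index])
  induction x using QuotientGroup.induction_on with | H g => ?_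
  refine ⟨g, ?_⟩
  have h1 := hx ⟨y, Subgroup.mem_zpowers y⟩
  have h2 : ((y * g : G) : G ⧸ X) = (g : G ⧸ X) := h1
  rw [eq_comm, QuotientGroup.eq] at h2
  rwa [mul_assoc]

/-- conjugate subgroup -/
abbrev cj {G : Type*} [Group G] (g : G) (X : Subgroup G) : Subgroup G := X.map (MulAut.conj g).toMonoidHom

theorem mem_cj {G : Type*} [Group G] {g z : G} {X : Subgroup G} : z ∈ cj g X ↔ g⁻¹ * z * g ∈ X := by
  constructor
  · rintro ⟨x, hx, rfl⟩
    have : g⁻¹ * (MulAut.conj g).toMonoidHom x * g = x := by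
      show g⁻¹ * (g * x * g⁻¹) * g = x
      group
    rw [this]; exact hx
  · intro h
    refine ⟨_, h, ?_⟩
    show g * (g⁻¹ * z * g) * g⁻¹ = z
    group

theorem card_cj {G : Type*} [Group G] (g : G) (X : Subgroup G) : Nat.card (cj g X) = Nat.card X :=
  Subgroup.card_map_of_injective (MulAut.conj g).injective

theorem cent_conj {G : Type*} [Group G] (g x : G) :
    Subgroup.centralizer {g * x * g⁻¹} = cj g (Subgroup.centralizer {x}) := by
  ext z
  rw [mem_cj, Subgroup.mem_centralizer_singleton_iff, Subgroup.mem_centralizer_singleton_iff]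
  constructor
  · intro h
    calc g⁻¹ * z * g * x = g⁻¹ * (z * (g * x * g⁻¹)) * g := by group
      _ = g⁻¹ * ((g * x * g⁻¹) * z) * g := by rw [h]
      _ = _ := by group
  · intro h
    calc z * (g * x * g⁻¹) = g * (g⁻¹ * z * g * x) * g⁻¹ := by group
      _ = g * (x * (g⁻¹ * z * g)) * g⁻¹ := by rw [h]
      _ = _ := by group

theorem isCyclic_cj {G : Type*} [Group G] (g : G) (X : Subgroup G) (h : IsCyclic X) : IsCyclic (cj g X) :=
  isCyclic_of_surjective (X.equivMapOfInjective _ (MulAut.conj g).injective)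
    (X.equivMapOfInjective _ (MulAut.conj g).injective).surjective

/-- arithmetic -/
theorem ar1 {p q : ℕ} (hp : p.Prime) (hp2 : p ≠ 2) (hq : 1 ≤ q) (h : p ∣ q - 1) : ¬ p ∣ q ^ 3 + 1 := by
  obtain ⟨s, rfl⟩ : ∃ s, q = s + 1 := ⟨q - 1, by omega⟩
  rw [Nat.add_sub_cancel] at h
  intro h2
  have e : (s + 1) ^ 3 + 1 = s * (s ^ 2 + 3 * s + 3) + 2 := by ring
  rw [e] at h2
  have h3 : p ∣ 2 := (Nat.dvd_add_right (h.mul_right _)).1 h2
  exact hp2 ((Nat.prime_dvd_prime_iff_eq hp Nat.prime_two).1 h3)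

theorem ar2 {p q : ℕ} (hp : p.Prime) (hq : 1 ≤ q) (h : p ∣ q - 1) : ¬ p ∣ q := by
  obtain ⟨s, rfl⟩ : ∃ s, q = s + 1 := ⟨q - 1, by omega⟩
  rw [Nat.add_sub_cancel] at h
  intro h2
  have h3 : p ∣ 1 := (Nat.dvd_add_right h).1 h2
  exact hp.one_lt.ne' (Nat.dvd_one.1 h3)

variable {K : Type*} [Field K] [Fintype K] [CharP K 3]

section main

variable {m : ℕ} (hK : Fintype.card K = 3 ^ (2 * m + 1))
include hK

theorem card_UU : Nat.card (UU K m) = (3 ^ (2 * m + 1)) ^ 3 := by rw [card_sub, card_U1 hK]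
theorem card_HH : Nat.card (HH K m) = 3 ^ (2 * m + 1) - 1 := by rw [card_sub, card_H1 hK]
theorem card_BB : Nat.card (BB K m) = (3 ^ (2 * m + 1)) ^ 3 * (3 ^ (2 * m + 1) - 1) := by
  rw [(R hK).card_B, card_UU hK, card_HH hK]

theorem q_pos : 3 ≤ 3 ^ (2 * m + 1) := by
  calc 3 = 3 ^ 1 := by norm_num
    _ ≤ 3 ^ (2 * m + 1) := Nat.pow_le_pow_right (by norm_num) (by omega)

theorem index_BB : (BB K m).index = (3 ^ (2 * m + 1)) ^ 3 + 1 := by
  have h1 := Subgroup.card_mul_index (BB K m)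
  rw [card_BB hK, card_G1 hK] at h1
  have hq := q_pos hK
  exact Nat.eq_of_mul_eq_mul_left (by
    apply Nat.mul_pos (by positivity); omega) h1

theorem index_UU : (UU K m).index = (3 ^ (2 * m + 1) - 1) * ((3 ^ (2 * m + 1)) ^ 3 + 1) := by
  have h1 := Subgroup.card_mul_index (UU K m)
  rw [card_UU hK, card_G1 hK, mul_assoc] at h1
  exact Nat.eq_of_mul_eq_mul_left (by positivity) h1

theorem card_CC : Nat.card ↥(CC hK) = 3 ^ (2 * m + 1) * (3 ^ (2 * m + 1) - 1) * (3 ^ (2 * m + 1) + 1) := by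
  obtain ⟨e⟩ := iso_CC hK
  rw [Nat.card_congr e.toEquiv, Nat.card_prod]
  have h2 : Nat.card (Multiplicative (ZMod 2)) = 2 := by
    rw [Nat.card_eq_fintype_card]; rfl
  have hodd : Odd (Fintype.card K) := by
    rw [hK]; exact Odd.pow (by decide)
  have h4 := Cfsg.Agent.Lib.Helper7SL.card_PSL_two_mul_two hodd
  rw [hK] at h4
  have h5 : 3 ^ (2 * m + 1) * ((3 ^ (2 * m + 1)) ^ 2 - 1) = 3 ^ (2 * m + 1) * (3 ^ (2 * m + 1) - 1) * (3 ^ (2 * m + 1) + 1) := by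
    have := Nat.sq_sub_sq (3 ^ (2 * m + 1)) 1
    rw [one_pow] at this
    rw [this]; ring
  rw [h2, ← h5, ← h4, mul_comm]

theorem index_CC : (CC hK).index = (3 ^ (2 * m + 1)) ^ 2 * ((3 ^ (2 * m + 1)) ^ 2 - 3 ^ (2 * m + 1) + 1) := by
  have h1 := Subgroup.card_mul_index (CC hK)
  rw [card_CC hK, card_G1 hK] at h1
  have hq := q_pos hK
  obtain ⟨s, hs⟩ : ∃ s, 3 ^ (2 * m + 1) = s + 1 := ⟨3 ^ (2 * m + 1) - 1, by omega⟩
  rw [hs] at h1 ⊢
  have e1 : (s + 1) ^ 2 - (s + 1) + 1 = s ^ 2 + s + 1 := by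
    have : (s + 1) ^ 2 = s ^ 2 + s + (s + 1) := by ring
    omega
  rw [e1]
  rw [Nat.add_sub_cancel] at h1
  have hs0 : 0 < s := by omega
  have hpos : 0 < (s + 1) * s * (s + 1 + 1) := by positivity
  apply Nat.eq_of_mul_eq_mul_left hpos
  rw [h1]; ring

theorem comm_UU {μ : Kˣ} (hμ : μ ^ 2 ≠ 1) {u : GG K m} (hu : u ∈ UU K m) (hc : hG hK μ * u = u * hG hK μ) : u = 1 := by
  obtain ⟨t, a, v, rfl⟩ := (mem_UU hK).1 hu
  by_contra hne
  have h1 : wU m t a v ≠ 1 := fun h => hne (Subtype.ext h)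
  rcases cent_cases hK h1 (congrArg Subtype.val hc) with rfl | rfl
  · exact hμ (one_pow 2)
  · exact hμ (by simp)

theorem cent_hG {μ : Kˣ} (hμ : μ ^ 2 ≠ 1) : Subgroup.centralizer {hG hK μ} = HH K m := by
  ext g
  rw [Subgroup.mem_centralizer_singleton_iff]
  constructor
  · intro hg
    have hh := hG_mem hK μ
    rcases (R hK).cases g with hb | ⟨u, hu, k, hk, v, hv, rfl⟩
    · obtain ⟨u, hu, k, hk, rfl⟩ := ((R hK).mem_B g).1 hb
      obtain ⟨ν, rfl⟩ := (mem_HH hK).1 hk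
      have e : u * (hG hK ν * hG hK μ) = (hG hK μ * u * (hG hK μ)⁻¹) * (hG hK μ * hG hK ν) := by
        rw [← mul_assoc, hg]; group
      obtain ⟨e1, -⟩ := (R hK).uh_unique hu ((R hK).hU _ hh _ hu) ((HH K m).mul_mem hk hh) ((HH K m).mul_mem hh hk) e
      have e2 : hG hK μ * u = u * hG hK μ := by
        conv_rhs => rw [e1]
        group
      rw [comm_UU hK hμ hu e2, one_mul]
      exact hk
    · exfalso
      obtain ⟨ν, rfl⟩ := (mem_HH hK).1 hk
      have hinv : (hG hK μ)⁻¹ * v * hG hK μ ∈ UU K m := by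
        have := (R hK).hU _ ((HH K m).inv_mem hh) _ hv
        rwa [inv_inv] at this
      have e : u * (hG hK ν * hG hK μ⁻¹) * nG m * ((hG hK μ)⁻¹ * v * hG hK μ) =
          (hG hK μ * u * (hG hK μ)⁻¹) * (hG hK μ * hG hK ν) * nG m * v := by
        have e1 : hG hK μ⁻¹ * nG m = nG m * hG hK μ := (nG_hG hK μ).symm
        calc u * (hG hK ν * hG hK μ⁻¹) * nG m * ((hG hK μ)⁻¹ * v * hG hK μ)
            = u * hG hK ν * (hG hK μ⁻¹ * nG m) * ((hG hK μ)⁻¹ * v * hG hK μ) := by group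
          _ = u * hG hK ν * (nG m * hG hK μ) * ((hG hK μ)⁻¹ * v * hG hK μ) := by rw [e1]
          _ = (u * hG hK ν * nG m * v) * hG hK μ := by group
          _ = hG hK μ * (u * hG hK ν * nG m * v) := hg
          _ = _ := by group
      obtain ⟨-, e2, -⟩ := (R hK).big_unique hu ((R hK).hU _ hh _ hu) ((HH K m).mul_mem hk (hG_mem hK _))
        ((HH K m).mul_mem hh hk) hinv hv e
      rw [hG_mul, hG_mul] at e2
      have e3 := hG_inj hK e2
      apply hμ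
      have : μ⁻¹ = μ := by
        rw [mul_comm μ ν] at e3
        exact mul_left_cancel e3
      rw [pow_two]
      nth_rewrite 1 [← this]
      exact inv_mul_cancel μ
  · intro hg
    obtain ⟨ν, rfl⟩ := (mem_HH hK).1 hg
    rw [hG_mul, hG_mul, mul_comm]

theorem conj_H {μ : Kˣ} (hμ : μ ^ 2 ≠ 1) {u : GG K m} (hu : u ∈ UU K m) :
    ∃ v ∈ UU K m, u * hG hK μ = v * hG hK μ * v⁻¹ := by
  have hh := hG_mem hK μ
  let f : ↥(UU K m) → ↥(UU K m) := fun v => ⟨v * (hG hK μ * (v : GG K m)⁻¹ * (hG hK μ)⁻¹),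
    (UU K m).mul_mem v.2 ((R hK).hU _ hh _ ((UU K m).inv_mem v.2))⟩
  have hinj : Function.Injective f := by
    intro v w hvw
    have h1 : (v : GG K m) * (hG hK μ * (v : GG K m)⁻¹ * (hG hK μ)⁻¹) = w * (hG hK μ * (w : GG K m)⁻¹ * (hG hK μ)⁻¹) :=
      congrArg Subtype.val hvw
    have h2 : hG hK μ * ((w : GG K m)⁻¹ * v) = ((w : GG K m)⁻¹ * v) * hG hK μ := by
      have e1 : (w : GG K m)⁻¹ * v * hG hK μ = (w : GG K m)⁻¹ * ((v : GG K m) * (hG hK μ * (v : GG K m)⁻¹ * (hG hK μ)⁻¹)) * hG hK μ * v := by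
        group
      rw [e1, h1]; group
    have h3 := comm_UU hK hμ ((UU K m).mul_mem ((UU K m).inv_mem w.2) v.2) h2
    exact Subtype.ext (inv_mul_eq_one.1 h3).symm
  obtain ⟨v, hv⟩ := (Finite.injective_iff_surjective.1 hinj) ⟨u, hu⟩
  refine ⟨v, v.2, ?_⟩
  have h1 : (v : GG K m) * (hG hK μ * (v : GG K m)⁻¹ * (hG hK μ)⁻¹) = u := congrArg Subtype.val hv
  rw [← h1]; group

theorem conj_into_HH {p : ℕ} (hp : p.Prime) (hp2 : p ≠ 2) (hpq : p ∣ 3 ^ (2 * m + 1) - 1) {y : GG K m}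
    (hy : orderOf y = p) : ∃ g μ, μ ^ 2 ≠ 1 ∧ y = g * hG hK μ * g⁻¹ := by
  have : Fact p.Prime := ⟨hp⟩
  have hq := q_pos hK
  have hyp : y ^ (p ^ 1) = 1 := by rw [pow_one, ← hy]; exact pow_orderOf_eq_one y
  obtain ⟨g, hg⟩ := conj_mem_of_not_dvd (BB K m) y 1 hyp
    (by rw [index_BB hK]; exact ar1 hp hp2 (by omega) hpq)
  obtain ⟨u, hu, k, hk, e⟩ := ((R hK).mem_B _).1 hg
  obtain ⟨μ, rfl⟩ := (mem_HH hK).1 hk
  have hyb : y = g * (u * hG hK μ) * g⁻¹ := by rw [← e]; group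
  have hμ : μ ^ 2 ≠ 1 := by
    intro hμ
    have h1 : (u * hG hK μ) * (u * hG hK μ) ∈ UU K m := by
      have e1 : (u * hG hK μ) * (u * hG hK μ) = u * (hG hK μ * u * (hG hK μ)⁻¹) * (hG hK μ * hG hK μ) := by group
      rw [e1, hG_mul, ← pow_two, hμ, hG_one, mul_one]
      exact (UU K m).mul_mem hu ((R hK).hU _ hk _ hu)
    have h2 : ((u * hG hK μ) * (u * hG hK μ)) ^ Nat.card (UU K m) = 1 := by
      have := pow_card_eq_one' (G := UU K m) (x := ⟨_, h1⟩)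
      exact congrArg Subtype.val this
    rw [card_UU hK, ← pow_two, ← pow_mul] at h2
    have h3 : y ^ (2 * (3 ^ (2 * m + 1)) ^ 3) = 1 := by
      rw [hyb, conj_pow, h2]; group
    have h4 := orderOf_dvd_of_pow_eq_one h3
    rw [hy] at h4
    rcases (Nat.Prime.dvd_mul hp).1 h4 with h5 | h5
    · exact hp2 ((Nat.prime_dvd_prime_iff_eq hp Nat.prime_two).1 h5)
    · exact ar2 hp (by omega) hpq (hp.dvd_of_dvd_pow h5)
  obtain ⟨v, -, e2⟩ := conj_H hK hμ hu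
  refine ⟨g * v, μ, hμ, ?_⟩
  rw [hyb, e2]; group

omit hK [Fintype K] [CharP K 3] [Field K] in
theorem half_odd (m : ℕ) : ∃ k, 3 ^ (2 * m + 1) - 1 = 2 * (2 * k + 1) := by
  have := q_mod m
  generalize 3 ^ (2 * m + 1) = q at this
  exact ⟨(q - 3) / 4, by omega⟩

theorem exists_conj_hG {y : GG K m} (hy1 : y ≠ 1) (hy : y ^ ((3 ^ (2 * m + 1) - 1) / 2) = 1) :
    ∃ g μ, μ ^ 2 ≠ 1 ∧ y = g * hG hK μ * g⁻¹ := by
  obtain ⟨k, hk⟩ := half_odd m
  have hk2 : (3 ^ (2 * m + 1) - 1) / 2 = 2 * k + 1 := by omega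
  rw [hk2] at hy
  have hd : orderOf y ∣ 2 * k + 1 := orderOf_dvd_of_pow_eq_one hy
  have hd1 : orderOf y ≠ 1 := fun h => hy1 (orderOf_eq_one_iff.1 h)
  set p := (orderOf y).minFac with hp
  have hpp : p.Prime := Nat.minFac_prime hd1
  have hpd : p ∣ orderOf y := Nat.minFac_dvd _
  have hp2 : p ≠ 2 := by
    intro h
    have h2 : p ∣ 2 * k + 1 := hpd.trans hd
    rw [h] at h2
    omega
  have hpq : p ∣ 3 ^ (2 * m + 1) - 1 := by
    rw [hk]; exact (hpd.trans hd).mul_left 2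
  have ho : orderOf (y ^ (orderOf y / p)) = p :=
    orderOf_pow_orderOf_div (orderOf_pos y).ne' hpd
  obtain ⟨g, μ, hμ, e⟩ := conj_into_HH hK hpp hp2 hpq ho
  have hc : y ∈ Subgroup.centralizer {y ^ (orderOf y / p)} := by
    rw [Subgroup.mem_centralizer_singleton_iff, ← pow_succ, ← pow_succ']
  rw [e, cent_conj, mem_cj, cent_hG hK hμ] at hc
  obtain ⟨ν, hν⟩ := (mem_HH hK).1 hc
  have hyν : y = g * hG hK ν * g⁻¹ := by rw [← hν]; group
  refine ⟨g, ν, ?_, hyν⟩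
  intro h2
  apply hy1
  have h3 : y * y = 1 := by
    rw [hyν]
    have : g * hG hK ν * g⁻¹ * (g * hG hK ν * g⁻¹) = g * (hG hK ν * hG hK ν) * g⁻¹ := by group
    rw [this, hG_mul, ← pow_two, h2, hG_one]; group
  have h4 : y ^ (2 * k + 1) = y := by
    rw [pow_succ, pow_mul, pow_two, h3, one_pow, one_mul]
  rw [← h4, hy]

theorem isCyclic_HH : IsCyclic (HH K m) := by
  let f : Kˣ →* HH K m := MonoidHom.mk' (fun μ => ⟨hG hK μ, hG_mem hK μ⟩) (fun a b => Subtype.ext (hG_mul hK a b).symm)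
  apply isCyclic_of_surjective f
  rintro ⟨h, hh⟩
  obtain ⟨μ, rfl⟩ := (mem_HH hK).1 hh
  exact ⟨μ, rfl⟩

theorem cent_of_half {y : GG K m} (hy1 : y ≠ 1) (hy : y ^ ((3 ^ (2 * m + 1) - 1) / 2) = 1) :
    ∃ g, Subgroup.centralizer {y} = cj g (HH K m) := by
  obtain ⟨g, μ, hμ, rfl⟩ := exists_conj_hG hK hy1 hy
  exact ⟨g, by rw [cent_conj, cent_hG hK hμ]⟩

omit hK [Fintype K] [CharP K 3] [Field K] in
theorem cent_zpowers {G : Type*} [Group G] (x : G) :
    Subgroup.centralizer ((Subgroup.zpowers x : Subgroup G) : Set G) = Subgroup.centralizer {x} := by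
  rw [Subgroup.zpowers_eq_closure, Subgroup.centralizer_closure]

theorem s2359a (H : Subgroup (GG K m)) (hH : IsCyclic H) (hc : Nat.card H = (3 ^ (2 * m + 1) - 1) / 2) (hm : 1 ≤ m) :
      IsCyclic ↥(Subgroup.centralizer (H : Set (GG K m))) ∧
        Nat.card ↥(Subgroup.centralizer (H : Set (GG K m))) = 3 ^ (2 * m + 1) - 1 ∧
        ∀ A : Subgroup (GG K m), A ≤ H → A ≠ ⊥ →
          Subgroup.centralizer (A : Set (GG K m)) = Subgroup.centralizer (H : Set (GG K m)) := by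
  obtain ⟨⟨x, hxH⟩, hx⟩ := hH.exists_generator
  have hHx : H = Subgroup.zpowers x := by
    ext z
    constructor
    · intro hz
      obtain ⟨j, hj⟩ := Subgroup.mem_zpowers_iff.1 (hx ⟨z, hz⟩)
      exact Subgroup.mem_zpowers_iff.2 ⟨j, congrArg Subtype.val hj⟩
    · intro hz
      exact (Subgroup.zpowers_le.2 hxH) hz
  have hpow : ∀ z ∈ H, z ^ ((3 ^ (2 * m + 1) - 1) / 2) = 1 := by
    intro z hz
    rw [← hc]
    exact congrArg Subtype.val (pow_card_eq_one' (G := H) (x := ⟨z, hz⟩))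
  have hq27 := q_ge hK hm
  rw [hK] at hq27
  have hx1 : x ≠ 1 := by
    rintro rfl
    rw [hHx, Subgroup.zpowers_one_eq_bot, Subgroup.card_bot] at hc
    omega
  obtain ⟨g, hg⟩ := cent_of_half hK hx1 (hpow x hxH)
  have hCH : Subgroup.centralizer (H : Set (GG K m)) = cj g (HH K m) := by
    rw [hHx, cent_zpowers, hg]
  refine ⟨?_, ?_, ?_⟩
  · rw [hCH]; exact isCyclic_cj g _ (isCyclic_HH hK)
  · rw [hCH, card_cj, card_HH hK]
  · intro A hA hA1
    apply le_antisymm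
    · obtain ⟨a, haA, ha1⟩ : ∃ a ∈ A, a ≠ 1 := by
        by_contra hcon
        push Not at hcon
        exact hA1 ((Subgroup.eq_bot_iff_forall _).2 hcon)
      obtain ⟨g', hg'⟩ := cent_of_half hK ha1 (hpow a (hA haA))
      have h1 : Subgroup.centralizer (A : Set (GG K m)) ≤ Subgroup.centralizer {a} :=
        Subgroup.centralizer_le (by simpa using haA)
      have h2 : Subgroup.centralizer (H : Set (GG K m)) ≤ Subgroup.centralizer {a} :=
        Subgroup.centralizer_le (by simpa using hA haA)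
      have h3 : Subgroup.centralizer (H : Set (GG K m)) = Subgroup.centralizer {a} := by
        apply Subgroup.eq_of_le_of_card_ge h2
        rw [hCH, hg', card_cj, card_cj]
      rw [h3]; exact h1
    · exact Subgroup.centralizer_le hA

end main

end Cfsg.Agent.Lib.Helper8Ree19
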