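import Cfsg.Agent.Lib.Helper8Ree1
import Cfsg.Agent.Lib.Helper22ChevBasic
import Cfsg.Agent.Lib.Helper23All

set_option autoImplicit false

namespace Cfsg.Agent.Lib.Helper8Ree2

open Cfsg.Lie Cfsg.Agent.Lib.Helper22ChevEngine Cfsg.Agent.Lib.Helper22ChevFast Cfsg.Agent.Lib.Helper22ChevX
  Cfsg.Agent.Lib.Helper22ChevWord Cfsg.Agent.Lib.Helper22ChevTabG2 Cfsg.Agent.Lib.Helper8Ree1

/-- the swap of long and short roots (and of `h_a`, `h_b`) on engine codes -/
def barN (k : ℕ) : ℕ := [2, 3, 0, 1, 5, 4, 7, 6, 10, 11, 8, 9, 13, 12].getD k 0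

/-- codes of the short root vectors and of `h_a` -/
def isIN (k : ℕ) : Bool := [false, false, true, true, true, false, false, true, true, true, false, false, true, false].getD k false

def imp (a b : Bool) : Bool := Bool.rec true b a

theorem imp_iff (a b : Bool) : imp a b = true ↔ (a = true → b = true) := by
  cases a <;> cases b <;> simp [imp]

def tt : Vec := [Tm.mk 0 2 1 0]
def tt3 : Vec := [Tm.mk 0 8 1 0]

/-- the parameter of the image root element -/
def lamV (r : ℕ) : Vec := Bool.rec tt tt3 (isIN r)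

/-- the exponent -/
def lamN (r : ℕ) : ℕ := Bool.rec 1 3 (isIN r)

noncomputable def chkTri : Bool :=
  allLt 12 fun r => allLt 14 fun k => allLt 14 fun j =>
    imp (isIN k) (imp (!isIN j) (eqv3 (pick (xOp fd r tt k) j) []))

noncomputable def chkBlk : Bool :=
  allLt 12 fun r => allLt 14 fun k => allLt 14 fun j =>
    imp (!isIN k) (imp (!isIN j) (eqv3 (pick (xOp fd r tt k) j) (pick (xOp fd (barN r) (lamV r) (barN k)) (barN j))))

set_option maxRecDepth 100000 in
theorem chkTri_eq : chkTri = true := by decide +kernel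

set_option maxRecDepth 100000 in
theorem chkBlk_eq : chkBlk = true := by decide +kernel

set_option maxRecDepth 100000 in
theorem chkNe_eq : eqv3 (pick (xOp fd 7 tt 12) 7) tt = true := by decide +kernel

theorem barN_lt : ∀ k < 12, barN k < 12 := by decide
theorem barN_lt' : ∀ k < 14, barN k < 14 := by decide
theorem barN_barN : ∀ k < 14, barN (barN k) = k := by decide
theorem isIN_barN : ∀ k < 14, isIN (barN k) = !isIN k := by decide

section

variable {F : Type*} [Field F] [CharP F 3]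

omit [CharP F 3] in
theorem evalP_tt (t : F) : evalP (rho fun _ => t) tt = t := by
  simp [tt, Tm.val, rho_prime _ Nat.prime_two]

omit [CharP F 3] in
theorem evalP_tt3 (t : F) : evalP (rho fun _ => t) tt3 = t ^ 3 := by
  have : rho (fun _ => t) 8 = t ^ 3 := by
    rw [show (8 : ℕ) = 2 * (2 * 2) from rfl, rho_mul, rho_mul, rho_prime _ Nat.prime_two]; ring
  simp [tt3, Tm.val, this]

omit [CharP F 3] in
theorem evalP_lamV (r : ℕ) (t : F) : evalP (rho fun _ => t) (lamV r) = t ^ lamN r := by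
  unfold lamV lamN
  cases isIN r
  · simp [evalP_tt]
  · simp [evalP_tt3]

theorem x_tri (r : ℕ) (hr : r < 12) (t : F) (i j : chevG2.Idx) (hi : isIN (enc i) = false)
    (hj : isIN (enc j) = true) : chevG2.x F r t i j = 0 := by
  have s := sem_xOp (rho fun _ => t) (rho_mul _) (rho_one _) agree r hr tt
  rw [evalP_tt] at s
  rw [s.eq, ← coef_pick]
  have h := (allLt_iff _ _).mp ((allLt_iff _ _).mp ((allLt_iff _ _).mp chkTri_eq r hr) (enc j) (enc_lt j)) (enc i) (enc_lt i)
  rw [imp_iff, imp_iff] at h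
  have := coef_eq_of_eqv3 (rho fun _ => t) _ _ (h hj (by simp [hi])) 0
  rw [this]; rfl

theorem x_blk (r : ℕ) (hr : r < 12) (t : F) (i j i' j' : chevG2.Idx) (hi : isIN (enc i) = false)
    (hj : isIN (enc j) = false) (hi' : enc i' = barN (enc i)) (hj' : enc j' = barN (enc j)) :
    chevG2.x F r t i j = chevG2.x F (barN r) (t ^ lamN r) i' j' := by
  have s := sem_xOp (rho fun _ => t) (rho_mul _) (rho_one _) agree r hr tt
  have s' := sem_xOp (rho fun _ => t) (rho_mul _) (rho_one _) agree (barN r) (barN_lt r hr) (lamV r)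
  rw [evalP_tt] at s
  rw [evalP_lamV] at s'
  rw [s.eq, s'.eq, ← coef_pick, ← coef_pick _ (xOp fd (barN r) (lamV r) (enc j')), hi', hj']
  have h := (allLt_iff _ _).mp ((allLt_iff _ _).mp ((allLt_iff _ _).mp chkBlk_eq r hr) (enc j) (enc_lt j)) (enc i) (enc_lt i)
  rw [imp_iff, imp_iff] at h
  exact coef_eq_of_eqv3 (rho fun _ => t) _ _ (h (by simp [hj]) (by simp [hi])) 0

theorem x_ne (t : F) : chevG2.x F 7 t (Sum.inr ⟨7, by decide⟩) (Sum.inl ⟨0, by decide⟩) = t := by
  have s := sem_xOp (rho fun _ => t) (rho_mul _) (rho_one _) agree 7 (by decide) tt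
  rw [evalP_tt] at s
  rw [s.eq, ← coef_pick]
  have := coef_eq_of_eqv3 (rho fun _ => t) _ _ chkNe_eq 0
  have e1 : enc (Sum.inl ⟨0, by decide⟩ : chevG2.Idx) = 12 := rfl
  have e2 : enc (Sum.inr ⟨7, by decide⟩ : chevG2.Idx) = 7 := rfl
  rw [e1, e2, this]
  simp [tt, Tm.val, rho_prime _ Nat.prime_two]

end


/-! ### the block maps -/

section blocks

variable {F : Type*} [Field F]

/-- the swap on the index set -/
def piI : chevG2.Idx → chevG2.Idx
  | Sum.inl i => Sum.inl ⟨1 - i.val, by show 1 - i.val < 2; omega⟩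
  | Sum.inr s => Sum.inr ⟨barN s.val, barN_lt _ s.isLt⟩

theorem enc_piI (i : chevG2.Idx) : enc (piI i) = barN (enc i) := by
  revert i; decide

theorem piI_piI (i : chevG2.Idx) : piI (piI i) = i := by
  revert i; decide

def piE : Equiv.Perm chevG2.Idx := ⟨piI, piI, piI_piI, piI_piI⟩

theorem isIN_piI (i : chevG2.Idx) : isIN (enc (piI i)) = !isIN (enc i) := by
  rw [enc_piI]; exact isIN_barN _ (enc_lt i)

abbrev J : Type := {i : chevG2.Idx // isIN (enc i) = true}

def Tri (M : Matrix chevG2.Idx chevG2.Idx F) : Prop :=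
  ∀ i j, isIN (enc i) = false → isIN (enc j) = true → M i j = 0

def blkA (M : Matrix chevG2.Idx chevG2.Idx F) : Matrix J J F := fun i j => M i.1 j.1
def blkC (M : Matrix chevG2.Idx chevG2.Idx F) : Matrix J J F := fun i j => M (piI i.1) (piI j.1)

theorem Tri.one : Tri (1 : Matrix chevG2.Idx chevG2.Idx F) := by
  intro i j hi hj
  rw [Matrix.one_apply_ne]
  rintro rfl
  rw [hi] at hj; exact absurd hj (by simp)

theorem Tri.mul {M N : Matrix chevG2.Idx chevG2.Idx F} (hM : Tri M) (hN : Tri N) : Tri (M * N) := by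
  intro i j hi hj
  rw [Matrix.mul_apply]
  refine Finset.sum_eq_zero (fun k _ => ?_)
  cases hk : isIN (enc k)
  · rw [hN k j hk hj, mul_zero]
  · rw [hM i k hi hk, zero_mul]

theorem blkA_one : blkA (1 : Matrix chevG2.Idx chevG2.Idx F) = 1 := by
  ext i j
  simp only [blkA, Matrix.one_apply, Subtype.ext_iff]

theorem blkC_one : blkC (1 : Matrix chevG2.Idx chevG2.Idx F) = 1 := by
  ext i j
  simp only [blkC, Matrix.one_apply, Subtype.ext_iff]
  have : piI i.1 = piI j.1 ↔ i.1 = j.1 := piE.injective.eq_iff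
  simp only [this]

theorem blkA_mul {M N : Matrix chevG2.Idx chevG2.Idx F} (hN : Tri N) : blkA (M * N) = blkA M * blkA N := by
  ext i j
  simp only [blkA, Matrix.mul_apply]
  rw [← Fintype.sum_subtype_add_sum_subtype (fun k : chevG2.Idx => isIN (enc k) = true)]
  rw [add_eq_left]
  refine Finset.sum_eq_zero (fun k _ => ?_)
  rw [hN k.1 j.1 (by simpa using k.2) j.2, mul_zero]

theorem blkC_mul {M N : Matrix chevG2.Idx chevG2.Idx F} (hM : Tri M) : blkC (M * N) = blkC M * blkC N := by
  ext i j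
  simp only [blkC, Matrix.mul_apply]
  rw [← Equiv.sum_comp piE, ← Fintype.sum_subtype_add_sum_subtype (fun k : chevG2.Idx => isIN (enc k) = true)]
  have e : ∀ k, piE k = piI k := fun _ => rfl
  simp only [e]
  rw [add_eq_left]
  refine Finset.sum_eq_zero (fun k _ => ?_)
  have h1 : isIN (enc (piI i.1)) = false := by rw [isIN_piI, i.2]; rfl
  have h2 : isIN (enc (piI k.1)) = true := by
    rw [isIN_piI]
    have := k.2
    simpa using this
  rw [hM _ _ h1 h2, zero_mul]

end blocks


/-! ### the graph automorphism -/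

section aut

open Cfsg.Agent.Lib.Helper22ChevBasic

variable {F : Type*} [Field F] [CharP F 3]

theorem hStd : Std chevG2 := List.mem_cons_self

def triS : Subgroup (GL chevG2.Idx F) where
  carrier := {g | Tri (g : Matrix chevG2.Idx chevG2.Idx F) ∧ Tri ((g⁻¹ : GL chevG2.Idx F) : Matrix chevG2.Idx chevG2.Idx F)}
  mul_mem' := by
    rintro a b ⟨a1, a2⟩ ⟨b1, b2⟩
    exact ⟨by rw [Units.val_mul]; exact a1.mul b1, by rw [mul_inv_rev, Units.val_mul]; exact b2.mul a2⟩
  one_mem' := ⟨Tri.one, by rw [inv_one]; exact Tri.one⟩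
  inv_mem' := by
    rintro a ⟨a1, a2⟩
    exact ⟨a2, by rwa [inv_inv]⟩

theorem group_le_triS : chevG2.group F ≤ triS := by
  rw [group_eq hStd, Subgroup.closure_le]
  rintro _ ⟨r, t, hr, rfl⟩
  refine ⟨?_, ?_⟩
  · exact x_tri r hr t
  · rw [xG_inv]; exact x_tri r hr (-t)

theorem tri_of_mem {g : GL chevG2.Idx F} (hg : g ∈ chevG2.group F) : Tri (g : Matrix chevG2.Idx chevG2.Idx F) :=
  (group_le_triS hg).1

def hA : ↥(chevG2.group F) →* Matrix J J F where
  toFun g := blkA ((g : GL chevG2.Idx F) : Matrix chevG2.Idx chevG2.Idx F)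
  map_one' := blkA_one
  map_mul' _ h := blkA_mul (tri_of_mem h.2)

def hC : ↥(chevG2.group F) →* Matrix J J F where
  toFun g := blkC ((g : GL chevG2.Idx F) : Matrix chevG2.Idx chevG2.Idx F)
  map_one' := blkC_one
  map_mul' g _ := blkC_mul (tri_of_mem g.2)

/-- root elements as elements of the group -/
noncomputable def xE (r : ℕ) (t : F) : ↥(chevG2.group F) := ⟨xG hStd r t, xG_mem_group hStd r t⟩

theorem hC_xE (r : ℕ) (hr : r < 12) (t : F) : hC (xE r t) = hA (xE (barN r) (t ^ lamN r)) := by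
  ext i j
  show chevG2.x F r t (piI i.1) (piI j.1) = chevG2.x F (barN r) (t ^ lamN r) i.1 j.1
  refine x_blk r hr t _ _ _ _ ?_ ?_ ?_ ?_
  · rw [isIN_piI, i.2]; rfl
  · rw [isIN_piI, j.2]; rfl
  · rw [enc_piI, barN_barN _ (enc_lt i.1)]
  · rw [enc_piI, barN_barN _ (enc_lt j.1)]

theorem simpleG : IsSimpleGroup ↥(chevG2.group F) :=
  (Cfsg.Agent.Lib.Helper23All.simple hStd (fun _ => ⟨-1, by simp, by
    intro h
    have h2 : (2 : F) = 0 := by linear_combination -h
    have h3 : (3 : F) = 0 := by exact_mod_cast CharP.cast_eq_zero F 3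
    have : (1 : F) = 0 := by linear_combination h3 - h2
    exact one_ne_zero this⟩)).1

theorem hA_xE7_ne : hA (xE 7 (1 : F)) ≠ 1 := by
  intro h
  have h1 := congrFun (congrFun h ⟨Sum.inr ⟨7, by decide⟩, by decide⟩) ⟨Sum.inl ⟨0, by decide⟩, by decide⟩
  have h2 : hA (xE 7 (1 : F)) ⟨Sum.inr ⟨7, by decide⟩, by decide⟩ ⟨Sum.inl ⟨0, by decide⟩, by decide⟩ = 1 := x_ne 1
  rw [h2, Matrix.one_apply_ne (by simp)] at h1
  exact one_ne_zero h1

theorem inj_of_ne (f : ↥(chevG2.group F) →* Matrix J J F) (g : ↥(chevG2.group F)) (hg : f g ≠ 1) :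
    Function.Injective f.toHomUnits := by
  rw [← MonoidHom.ker_eq_bot_iff]
  have := simpleG (F := F)
  rcases (f.toHomUnits.normal_ker).eq_bot_or_eq_top with h | h
  · exact h
  · exfalso
    have h1 : g ∈ f.toHomUnits.ker := by rw [h]; trivial
    rw [MonoidHom.mem_ker] at h1
    apply hg
    have := congrArg Units.val h1
    simpa using this

theorem hA_inj : Function.Injective (hA (F := F)).toHomUnits := inj_of_ne _ _ hA_xE7_ne

theorem hC_inj : Function.Injective (hC (F := F)).toHomUnits := by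
  refine inj_of_ne _ (xE 6 1) ?_
  rw [hC_xE 6 (by decide)]
  have : (1 : F) ^ lamN 6 = 1 := one_pow _
  rw [this]
  exact hA_xE7_ne

omit [CharP F 3] in
theorem closure_xE : Subgroup.closure {g : ↥(chevG2.group F) | ∃ r t, r < 12 ∧ g = xE r t} = ⊤ := by
  have e := group_eq (F := F) hStd
  rw [eq_top_iff]
  intro g _
  obtain ⟨g, hg⟩ := g
  have hg' := hg
  rw [e] at hg'
  induction hg' using Subgroup.closure_induction with
  | mem x hx =>
    obtain ⟨r, t, hr, rfl⟩ := hx
    exact Subgroup.subset_closure ⟨r, t, hr, rfl⟩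
  | one => exact Subgroup.one_mem _
  | mul x y hx hy ihx ihy =>
    have hx' : x ∈ chevG2.group F := by rw [e]; exact hx
    have hy' : y ∈ chevG2.group F := by rw [e]; exact hy
    exact Subgroup.mul_mem _ (ihx hx' trivial) (ihy hy' trivial)
  | inv x hx ih =>
    have hx' : x ∈ chevG2.group F := by rw [e]; exact hx
    exact Subgroup.inv_mem _ (ih hx' trivial)

theorem hC_mem_range (g : ↥(chevG2.group F)) : (hC (F := F)).toHomUnits g ∈ (hA (F := F)).toHomUnits.range := by
  have : (⊤ : Subgroup ↥(chevG2.group F)) ≤ (hA (F := F)).toHomUnits.range.comap (hC (F := F)).toHomUnits := by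
    rw [← closure_xE, Subgroup.closure_le]
    rintro _ ⟨r, t, hr, rfl⟩
    refine ⟨xE (barN r) (t ^ lamN r), ?_⟩
    apply Units.ext
    simpa using (hC_xE r hr t).symm
  exact this trivial

/-- the graph endomorphism -/
noncomputable def gr : ↥(chevG2.group F) →* ↥(chevG2.group F) :=
  (MonoidHom.ofInjective (hA_inj (F := F))).symm.toMonoidHom.comp
    ((hC (F := F)).toHomUnits.codRestrict _ hC_mem_range)

theorem hA_gr (g : ↥(chevG2.group F)) : (hA (F := F)).toHomUnits (gr g) = (hC (F := F)).toHomUnits g := by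
  have := (MonoidHom.ofInjective (hA_inj (F := F))).apply_symm_apply
    ((hC (F := F)).toHomUnits.codRestrict _ hC_mem_range g)
  exact congrArg Subtype.val this

theorem gr_xE (r : ℕ) (hr : r < 12) (t : F) : gr (xE r t) = xE (barN r) (t ^ lamN r) := by
  apply hA_inj
  rw [hA_gr]
  apply Units.ext
  simpa using hC_xE r hr t

theorem gr_inj : Function.Injective (gr (F := F)) := by
  intro a b h
  apply hC_inj
  rw [← hA_gr, ← hA_gr, h]

theorem gr_surj (hperf : ∀ x : F, ∃ y : F, y ^ 3 = x) : Function.Surjective (gr (F := F)) := by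
  rw [← MonoidHom.range_eq_top, eq_top_iff, ← closure_xE, Subgroup.closure_le]
  rintro _ ⟨r, t, hr, rfl⟩
  have : ∃ s : F, s ^ lamN (barN r) = t := by
    unfold lamN
    cases isIN (barN r)
    · exact ⟨t, pow_one t⟩
    · exact hperf t
  obtain ⟨s, hs⟩ := this
  refine ⟨xE (barN r) s, ?_⟩
  rw [gr_xE _ (barN_lt r hr), hs, barN_barN r (by omega)]

noncomputable def grE (hperf : ∀ x : F, ∃ y : F, y ^ 3 = x) : ↥(chevG2.group F) ≃* ↥(chevG2.group F) :=
  MulEquiv.ofBijective gr ⟨gr_inj, gr_surj hperf⟩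

theorem grE_xE (hperf : ∀ x : F, ∃ y : F, y ^ 3 = x) (r : ℕ) (hr : r < 12) (t : F) :
    grE hperf (xE r t) = xE (barN r) (t ^ lamN r) := gr_xE r hr t

end aut

end Cfsg.Agent.Lib.Helper8Ree2
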