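import Cfsg.Agent.Lib.Helper8Ree19
import Cfsg.Agent.Lib.Helper57Coprime
import Cfsg.Agent.Lib.Helper41Klein
import Cfsg.Agent.S0084

set_option autoImplicit false
set_option linter.unusedSectionVars false

namespace Cfsg.Agent.Lib.Helper8Ree20

open Cfsg.Lie Cfsg.Agent.Lib.Helper22ChevBasic Cfsg.Agent.Lib.Helper8Ree2
  Cfsg.Agent.Lib.Helper8Ree5
  Cfsg.Agent.Lib.Helper8Ree6 Cfsg.Agent.Lib.Helper8Ree7 Cfsg.Agent.Lib.Helper8Ree8 Cfsg.Agent.Lib.Helper8Ree9
  Cfsg.Agent.Lib.Helper8Ree10 Cfsg.Agent.Lib.Helper8Ree11 Cfsg.Agent.Lib.Helper8Ree12 Cfsg.Agent.Lib.Helper8Ree14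
  Cfsg.Agent.Lib.Helper8Ree15 Cfsg.Agent.Lib.Helper8Ree16 Cfsg.Agent.Lib.Helper8Ree17 Cfsg.Agent.Lib.Helper8Ree18
  Cfsg.Agent.Lib.Helper8Ree19
  Cfsg.Agent.Lib.Helper8Rank1 Cfsg.Agent.Lib.Helper8Elem Cfsg.Agent.Lib.Helper8Split
  Cfsg.Agent.Lib.Helper8PSL Cfsg.Agent.Lib.Helper8Fus Cfsg.Agent.Lib.Helper8PSL2

local notation "PSL2" => Matrix.ProjectiveSpecialLinearGroup (Fin 2)

/-- arithmetic: primes dividing `q + 1` -/
theorem ar3 {p q : ℕ} (hp : p.Prime) (hp2 : p ≠ 2) (hq : 1 ≤ q) (h : p ∣ q + 1) : ¬ p ∣ q - 1 := by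
  obtain ⟨s, rfl⟩ : ∃ s, q = s + 1 := ⟨q - 1, by omega⟩
  rw [Nat.add_sub_cancel]
  intro h2
  have h3 : p ∣ 2 := (Nat.dvd_add_right h2).1 (by simpa [add_assoc] using h)
  exact hp2 ((Nat.prime_dvd_prime_iff_eq hp Nat.prime_two).1 h3)

theorem ar4 {p q : ℕ} (hp : p.Prime) (h : p ∣ q + 1) : ¬ p ∣ q := by
  intro h2
  have h3 : p ∣ 1 := (Nat.dvd_add_right h2).1 h
  exact hp.one_lt.ne' (Nat.dvd_one.1 h3)

theorem ar5 {p q : ℕ} (hp : p.Prime) (hp3 : p ≠ 3) (hq : 2 ≤ q) (h : p ∣ q + 1) : ¬ p ∣ q ^ 2 - q + 1 := by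
  obtain ⟨s, rfl⟩ : ∃ s, q = s + 2 := ⟨q - 2, by omega⟩
  have e : (s + 2) ^ 2 - (s + 2) + 1 = (s + 2 + 1) * s + 3 := by
    have : (s + 2) ^ 2 = (s + 2 + 1) * s + 2 + (s + 2) := by ring
    omega
  rw [e]
  intro h2
  have h3 : p ∣ 3 := (Nat.dvd_add_right (h.mul_right _)).1 h2
  exact hp3 ((Nat.prime_dvd_prime_iff_eq hp Nat.prime_three).1 h3)

theorem ar6 {p m : ℕ} (hp : p.Prime) (h : p ∣ 3 ^ (2 * m + 1) + 1) : p ≠ 3 := by
  rintro rfl
  exact ar4 hp h (dvd_pow_self 3 (by omega))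

variable {K : Type*} [Field K] [Fintype K] [CharP K 3]

section main

variable {m : ℕ} (hK : Fintype.card K = 3 ^ (2 * m + 1))
include hK

theorem two_elt {x : GG K m} (k : ℕ) (hx : x ^ (2 ^ k) = 1) : x * x = 1 := by
  have hP : IsPGroup 2 (Subgroup.zpowers x) := by
    rintro ⟨z, hz⟩
    obtain ⟨j, rfl⟩ := Subgroup.mem_zpowers_iff.1 hz
    refine ⟨k, Subtype.ext ?_⟩
    show (x ^ j) ^ (2 ^ k) = 1
    rw [← zpow_natCast, ← zpow_mul, mul_comm, zpow_mul, zpow_natCast, hx, one_zpow]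
  obtain ⟨S, hS⟩ := hP.exists_le_sylow
  exact exp_sylow_GG hK S x (hS (Subgroup.mem_zpowers x))

theorem exists_invol {p : ℕ} (hp : p.Prime) (hp2 : p ≠ 2) (hpq : p ∣ 3 ^ (2 * m + 1) + 1) {y : GG K m}
    (hy : orderOf y = p) : ∃ t : GG K m, t ≠ 1 ∧ t * t = 1 ∧ y * t = t * y := by
  have : Fact p.Prime := ⟨hp⟩
  have hq := q_pos hK
  have hyp : y ^ (p ^ 1) = 1 := by rw [pow_one, ← hy]; exact pow_orderOf_eq_one y
  obtain ⟨g, hg⟩ := conj_mem_of_not_dvd (CC hK) y 1 hyp (by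
    rw [index_CC hK]
    intro h
    rcases (Nat.Prime.dvd_mul hp).1 h with h | h
    · exact ar4 hp hpq (hp.dvd_of_dvd_pow h)
    · exact ar5 hp (ar6 hp hpq) (by omega) hpq h)
  rw [Subgroup.mem_centralizer_singleton_iff] at hg
  refine ⟨g * iG hK * g⁻¹, ?_, ?_, ?_⟩
  · intro h
    apply iG_ne_one hK
    have : iG hK = g⁻¹ * (g * iG hK * g⁻¹) * g := by group
    rw [this, h]; group
  · have : g * iG hK * g⁻¹ * (g * iG hK * g⁻¹) = g * (iG hK * iG hK) * g⁻¹ := by group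
    rw [this, iG_sq]; group
  · calc y * (g * iG hK * g⁻¹) = g * (g⁻¹ * y * g * iG hK) * g⁻¹ := by group
      _ = g * (iG hK * (g⁻¹ * y * g)) * g⁻¹ := by rw [hg]
      _ = _ := by group

theorem b1 (hm : 1 ≤ m) {p : ℕ} (hp : p.Prime) (hp2 : p ≠ 2) (hpq : p ∣ 3 ^ (2 * m + 1) + 1) {y t : GG K m}
    (hy : orderOf y = p) (ht1 : t ≠ 1) (ht2 : t * t = 1) (hyt : y * t = t * y) :
    ∃ (D : Subgroup (PSL2 K)) (ψ : ↥(Subgroup.centralizer {y} ⊓ Subgroup.centralizer {t}) →* D),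
      IsCyclic D ∧ 2 * Nat.card D = 3 ^ (2 * m + 1) + 1 ∧ Function.Surjective ψ ∧
      ∀ c, ψ c = 1 ↔ c = 1 ∨ (c : GG K m) = t := by
  obtain ⟨φ, hs, hk⟩ := exists_phi' hK hm ht1 ht2
  have hq := q_pos hK
  have hyC : y ∈ Subgroup.centralizer {t} := Subgroup.mem_centralizer_singleton_iff.2 hyt
  have hy1 : y ≠ 1 := by
    rintro rfl
    rw [orderOf_one] at hy
    exact hp.one_lt.ne hy
  have hodd : ∃ j, p = 2 * j + 1 := by
    rcases hp.eq_two_or_odd with h | h
    · exact absurd h hp2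
    · exact ⟨p / 2, by omega⟩
  have hyt' : y ≠ t := by
    rintro rfl
    have := orderOf_dvd_of_pow_eq_one (show y ^ 2 = 1 by rw [pow_two]; exact ht2)
    rw [hy] at this
    exact hp2 ((Nat.prime_dvd_prime_iff_eq hp Nat.prime_two).1 this)
  have ho : orderOf (φ ⟨y, hyC⟩) = p := by
    have : Fact p.Prime := ⟨hp⟩
    apply orderOf_eq_prime
    · rw [← map_pow]
      have : (⟨y, hyC⟩ : ↥(Subgroup.centralizer {t})) ^ p = 1 := by
        apply Subtype.ext
        show y ^ p = 1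
        rw [← hy]; exact pow_orderOf_eq_one y
      rw [this, map_one]
    · intro h
      rcases (hk _).1 h with h | h
      · exact hy1 (congrArg Subtype.val h)
      · exact hyt' h
  obtain ⟨hcyc, hcard⟩ := cent_nonsplit hp hp2 (ar6 hp hpq) (by rw [hK]; exact ar3 hp hp2 (by omega) hpq) _ ho
  rw [hK] at hcard
  let ψ : ↥(Subgroup.centralizer {y} ⊓ Subgroup.centralizer {t}) →* (Subgroup.centralizer {φ ⟨y, hyC⟩} : Subgroup (PSL2 K)) :=
    MonoidHom.mk' (fun c => ⟨φ ⟨c.1, c.2.2⟩, by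
      rw [Subgroup.mem_centralizer_singleton_iff, ← map_mul, ← map_mul]
      congr 1
      apply Subtype.ext
      exact Subgroup.mem_centralizer_singleton_iff.1 c.2.1⟩) (by
      intro a b
      apply Subtype.ext
      show φ _ = φ _ * φ _
      rw [← map_mul]
      rfl)
  refine ⟨_, ψ, hcyc, hcard, ?_, ?_⟩
  · rintro ⟨d, hd⟩
    obtain ⟨c₀, rfl⟩ := hs d
    rw [Subgroup.mem_centralizer_singleton_iff, ← map_mul, ← map_mul] at hd
    have h1 : φ (c₀ * ⟨y, hyC⟩ * c₀⁻¹ * (⟨y, hyC⟩ : ↥(Subgroup.centralizer {t}))⁻¹) = 1 := by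
      rw [map_mul, map_mul, hd, map_mul, map_inv, map_inv]; group
    have h2 : (c₀ : GG K m) * y = y * c₀ := by
      rcases (hk _).1 h1 with h | h
      · have h' : (c₀ : GG K m) * y * (c₀ : GG K m)⁻¹ * y⁻¹ = 1 := congrArg Subtype.val h
        have : (c₀ : GG K m) * y = ((c₀ : GG K m) * y * (c₀ : GG K m)⁻¹ * y⁻¹) * (y * c₀) := by group
        rw [this, h', one_mul]
      · exfalso
        have h' : (c₀ : GG K m) * y * (c₀ : GG K m)⁻¹ * y⁻¹ = t := h
        have h3 : (c₀ : GG K m) * y * (c₀ : GG K m)⁻¹ = t * y := mul_inv_eq_iff_eq_mul.1 h'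
        have h4 : ((c₀ : GG K m) * y * (c₀ : GG K m)⁻¹) ^ p = (t * y) ^ p := by rw [h3]
        rw [conj_pow, (show Commute t y from hyt.symm).mul_pow, ← hy, pow_orderOf_eq_one, mul_one, mul_one,
          mul_inv_cancel, hy] at h4
        obtain ⟨j, hj⟩ := hodd
        rw [hj, pow_succ, pow_mul, pow_two, ht2, one_pow, one_mul] at h4
        exact ht1 h4.symm
    exact ⟨⟨c₀, Subgroup.mem_centralizer_singleton_iff.2 h2, c₀.2⟩, rfl⟩
  · intro c
    constructor
    · intro h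
      have h' : φ ⟨c.1, c.2.2⟩ = 1 := congrArg Subtype.val h
      rcases (hk _).1 h' with h | h
      · left
        have h2 : (c : GG K m) = 1 := congrArg Subtype.val h
        exact Subtype.ext h2
      · right; exact h
    · intro h
      apply Subtype.ext
      show φ ⟨c.1, c.2.2⟩ = 1
      rw [hk]
      rcases h with h | h
      · left
        have h2 : (c : GG K m) = 1 := congrArg Subtype.val h
        exact Subtype.ext h2
      · right; exact h

theorem b1_card (hm : 1 ≤ m) {p : ℕ} (hp : p.Prime) (hp2 : p ≠ 2) (hpq : p ∣ 3 ^ (2 * m + 1) + 1) {y t : GG K m}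
    (hy : orderOf y = p) (ht1 : t ≠ 1) (ht2 : t * t = 1) (hyt : y * t = t * y) :
    Nat.card ↥(Subgroup.centralizer {y} ⊓ Subgroup.centralizer {t}) = 3 ^ (2 * m + 1) + 1 := by
  obtain ⟨D, ψ, -, hcard, hs, hk⟩ := b1 hK hm hp hp2 hpq hy ht1 ht2 hyt
  have htA : t ∈ Subgroup.centralizer {y} ⊓ Subgroup.centralizer {t} :=
    ⟨Subgroup.mem_centralizer_singleton_iff.2 hyt.symm, Subgroup.mem_centralizer_singleton_iff.2 rfl⟩
  have hk' : ∀ c, ψ c = 1 ↔ c = 1 ∨ c = ⟨t, htA⟩ := by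
    intro c
    rw [hk]
    constructor
    · rintro (h | h)
      · exact Or.inl h
      · exact Or.inr (Subtype.ext h)
    · rintro (h | h)
      · exact Or.inl h
      · exact Or.inr (congrArg Subtype.val h)
  have hker := card_ker_two ψ ⟨t, htA⟩ (fun h => ht1 (congrArg Subtype.val h)) hk'
  have h1 := card_of_ker ψ hker ⊤ le_top
  rw [Subgroup.card_top, ← MonoidHom.range_eq_map, MonoidHom.range_eq_top.2 hs, Subgroup.card_top] at h1
  rw [h1, hcard]

theorem b1_comm (hm : 1 ≤ m) {p : ℕ} (hp : p.Prime) (hp2 : p ≠ 2) (hpq : p ∣ 3 ^ (2 * m + 1) + 1) {y t : GG K m}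
    (hy : orderOf y = p) (ht1 : t ≠ 1) (ht2 : t * t = 1) (hyt : y * t = t * y) :
    ∀ a ∈ Subgroup.centralizer {y} ⊓ Subgroup.centralizer {t}, ∀ b ∈ Subgroup.centralizer {y} ⊓ Subgroup.centralizer {t},
      a * b = b * a := by
  obtain ⟨D, ψ, hcyc, -, -, hk⟩ := b1 hK hm hp hp2 hpq hy ht1 ht2 hyt
  intro a ha b hb
  have := (MonoidHom.isMulCommutative_of_isCyclic_of_ker_le_center ψ (by
    intro c hc
    rw [Subgroup.mem_center_iff]
    intro g
    rcases (hk c).1 hc with rfl | h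
    · rw [mul_one, one_mul]
    · apply Subtype.ext
      show (g : GG K m) * c = c * g
      rw [h]
      exact Subgroup.mem_centralizer_singleton_iff.1 g.2.2)).is_comm.comm ⟨a, ha⟩ ⟨b, hb⟩
  exact congrArg Subtype.val this

theorem b1_cyc (hm : 1 ≤ m) {p : ℕ} (hp : p.Prime) (hp2 : p ≠ 2) (hpq : p ∣ 3 ^ (2 * m + 1) + 1) {y t : GG K m}
    (hy : orderOf y = p) (ht1 : t ≠ 1) (ht2 : t * t = 1) (hyt : y * t = t * y)
    (X : Subgroup (GG K m)) (hX : X ≤ Subgroup.centralizer {y} ⊓ Subgroup.centralizer {t}) (hodd : Odd (Nat.card X)) :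
    IsCyclic X := by
  obtain ⟨D, ψ, hcyc, -, -, hk⟩ := b1 hK hm hp hp2 hpq hy ht1 ht2 hyt
  have htX : t ∉ X := by
    intro h
    have h1 : orderOf (⟨t, h⟩ : X) = 2 := by
      apply orderOf_eq_prime
      · rw [pow_two]; exact Subtype.ext ht2
      · intro h2; exact ht1 (congrArg Subtype.val h2)
    have h2 := orderOf_dvd_natCard (⟨t, h⟩ : X)
    rw [h1] at h2
    rw [Nat.odd_iff] at hodd
    omega
  apply isCyclic_of_injective (ψ.comp (Subgroup.inclusion hX))
  rw [injective_iff_map_eq_one]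
  intro x hx
  rcases (hk _).1 hx with h | h
  · apply Subtype.ext
    exact congrArg (fun z : ↥(Subgroup.centralizer {y} ⊓ Subgroup.centralizer {t}) => (z : GG K m)) h
  · exfalso
    apply htX
    have : (x : GG K m) = t := h
    rw [← this]; exact x.2

theorem not_three_dvd {p : ℕ} (hp : p.Prime) (hp3 : p ≠ 3) (hpq : ¬ p ∣ 3 ^ (2 * m + 1) - 1) {y : GG K m}
    (hy : orderOf y = p) : ¬ 3 ∣ Nat.card ↥(Subgroup.centralizer {y}) := by
  intro h3
  have : Fact (Nat.Prime 3) := ⟨Nat.prime_three⟩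
  obtain ⟨c, hc⟩ := exists_prime_orderOf_dvd_card' (G := ↥(Subgroup.centralizer {y})) 3 h3
  have hc' : orderOf (c : GG K m) = 3 := by rw [Subgroup.orderOf_coe]; exact hc
  have hq := q_pos hK
  have hc3 : (c : GG K m) ^ (3 ^ 1) = 1 := by
    have := pow_orderOf_eq_one (c : GG K m)
    rw [hc'] at this
    rw [pow_one]; exact this
  obtain ⟨g, hg⟩ := conj_mem_of_not_dvd (UU K m) (c : GG K m) 1 hc3 (by
    rw [index_UU hK]
    obtain ⟨j, hj⟩ : ∃ j, 3 ^ (2 * m + 1) = 3 * j := ⟨3 ^ (2 * m), by ring⟩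
    rw [hj] at hq ⊢
    intro h
    rcases (Nat.Prime.dvd_mul Nat.prime_three).1 h with h | h
    · omega
    · have e : (3 * j) ^ 3 + 1 = 3 * (9 * j ^ 3) + 1 := by ring
      rw [e] at h
      omega)
  have hne : g⁻¹ * (c : GG K m) * g ≠ 1 := by
    intro h
    have h1 : (c : GG K m) = 1 := by
      have : (c : GG K m) = g * (g⁻¹ * (c : GG K m) * g) * g⁻¹ := by group
      rw [this, h]; group
    rw [h1, orderOf_one] at hc'
    omega
  have hcy := Subgroup.mem_centralizer_singleton_iff.1 c.2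
  have hB : g⁻¹ * y * g ∈ BB K m := by
    by_contra hnB
    apply hne
    apply (R hK).ti hnB hg
    have : (g⁻¹ * y * g)⁻¹ * (g⁻¹ * (c : GG K m) * g) * (g⁻¹ * y * g) = g⁻¹ * (y⁻¹ * ((c : GG K m) * y)) * g := by group
    rw [this, hcy]
    have : g⁻¹ * (y⁻¹ * (y * (c : GG K m))) * g = g⁻¹ * (c : GG K m) * g := by group
    rw [this]; exact hg
  have h1 : (g⁻¹ * y * g) ^ Nat.card (BB K m) = 1 :=
    congrArg Subtype.val (pow_card_eq_one' (G := BB K m) (x := ⟨_, hB⟩))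
  have h2 : y ^ Nat.card (BB K m) = 1 := by
    have e := conj_pow (a := g⁻¹) (b := y) (i := Nat.card (BB K m))
    rw [inv_inv, h1] at e
    have : y ^ Nat.card (BB K m) = g * (g⁻¹ * y ^ Nat.card (BB K m) * g) * g⁻¹ := by group
    rw [this, ← e]; group
  have h4 := orderOf_dvd_of_pow_eq_one h2
  rw [hy, card_BB hK] at h4
  rcases (Nat.Prime.dvd_mul hp).1 h4 with h | h
  · have := hp.dvd_of_dvd_pow (hp.dvd_of_dvd_pow h)
    exact hp3 ((Nat.prime_dvd_prime_iff_eq hp Nat.prime_three).1 this)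
  · exact hpq h

theorem cent_le (hm : 1 ≤ m) {p : ℕ} (hp : p.Prime) (hp2 : p ≠ 2) (hpq : p ∣ 3 ^ (2 * m + 1) + 1) {y t : GG K m}
    (hy : orderOf y = p) (ht1 : t ≠ 1) (ht2 : t * t = 1) (hyt : y * t = t * y) :
    Subgroup.centralizer {y} ≤ Subgroup.centralizer {t} := by
  have hq := q_pos hK
  set C := Subgroup.centralizer {y} with hC
  set A := C ⊓ Subgroup.centralizer {t} with hA
  have hAcard : Nat.card A = 3 ^ (2 * m + 1) + 1 := b1_card hK hm hp hp2 hpq hy ht1 ht2 hyt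
  have hAcomm := b1_comm hK hm hp hp2 hpq hy ht1 ht2 hyt
  obtain ⟨k₀, hk₀⟩ : ∃ k₀, 3 ^ (2 * m + 1) + 1 = 4 * k₀ := by
    have := q_mod m
    generalize 3 ^ (2 * m + 1) = q at this
    exact ⟨(q + 1) / 4, by omega⟩
  have hAC : Nat.card A ∣ Nat.card C := Subgroup.card_dvd_of_le inf_le_left
  have h4C : 2 ^ 2 ∣ Nat.card C := by
    refine Dvd.dvd.trans ?_ hAC
    rw [hAcard, hk₀]; exact ⟨k₀, by ring⟩
  have hyy : y * y ≠ 1 := by
    intro h
    have := orderOf_dvd_of_pow_eq_one (show y ^ 2 = 1 by rw [pow_two]; exact h)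
    rw [hy] at this
    exact hp2 ((Nat.prime_dvd_prime_iff_eq hp Nat.prime_two).1 this)
  have hP : ∀ P : Sylow 2 ↥C, Nat.card P = 4 ∧ ∀ g : P, g ^ 2 = 1 := by
    intro P
    have hp' : IsPGroup 2 ((P : Subgroup ↥C).map C.subtype) := P.2.map _
    obtain ⟨S, hS⟩ := hp'.exists_le_sylow
    have hc1 : Nat.card ((P : Subgroup ↥C).map C.subtype) = Nat.card P :=
      Subgroup.card_map_of_injective (Subgroup.subtype_injective _)
    have hc2 : Nat.card P ∣ 8 := by
      rw [← hc1, ← card_sylow_GG hK S]; exact Subgroup.card_dvd_of_le hS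
    have hc3 : 2 ^ 2 ∣ Nat.card P := P.pow_dvd_card_of_pow_dvd_card h4C
    have hc4 : Nat.card P ≠ 8 := by
      intro h8
      have e : (P : Subgroup ↥C).map C.subtype = S := by
        apply Subgroup.eq_of_le_of_card_ge hS
        rw [hc1, h8]; exact le_of_eq (card_sylow_GG hK S)
      have hyS : y ∈ Subgroup.centralizer ((S : Subgroup (GG K m)) : Set (GG K m)) := by
        rw [Subgroup.mem_centralizer_iff]
        intro s hs
        have hs' : s ∈ (S : Subgroup (GG K m)) := hs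
        rw [← e] at hs'
        obtain ⟨c, -, rfl⟩ := Subgroup.mem_map.1 hs'
        exact Subgroup.mem_centralizer_singleton_iff.1 c.2
      rw [(s1157 hK hm S).1] at hyS
      exact hyy (exp_sylow_GG hK S y hyS)
    refine ⟨?_, ?_⟩
    · have h1 := Nat.le_of_dvd (by norm_num) hc2
      obtain ⟨k, hk⟩ := hc3
      rw [hk] at hc2 hc4 h1 ⊢
      have : k = 0 ∨ k = 1 ∨ k = 2 := by omega
      rcases this with rfl | rfl | rfl
      · norm_num at hc2
      · norm_num
      · norm_num at hc4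
    · intro g
      apply Subtype.ext
      apply Subtype.ext
      show ((g : ↥C) : GG K m) ^ 2 = 1
      rw [pow_two]
      exact exp_sylow_GG hK S _ (hS (Subgroup.mem_map.2 ⟨g.1, g.2, rfl⟩))
  obtain ⟨P₀⟩ : Nonempty (Sylow 2 ↥C) := inferInstance
  have hK4 : IsKleinFour (P₀ : Subgroup ↥C) :=
    Cfsg.Agent.Lib.Helper41Klein.isKleinFour_of (hP P₀).1 (hP P₀).2
  obtain ⟨P1, N, hN, hcomp⟩ := Cfsg.Agent.S0084.result P₀ hK4
    (not_three_dvd hK hp (ar6 hp hpq) (ar3 hp hp2 (by omega) hpq) hy)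
  have hcardN : Nat.card N * 4 = Nat.card C := by
    rw [← (hP P1).1]; exact hcomp.card_mul_card
  have hNodd : (Nat.card N).Coprime 2 := by
    rw [Nat.coprime_two_right, ← Nat.not_even_iff_odd]
    rintro ⟨j, hj⟩
    have h8 : 2 ^ 3 ∣ Nat.card C := ⟨j, by rw [← hcardN, hj]; ring⟩
    have := P₀.pow_dvd_card_of_pow_dvd_card h8
    rw [(hP P₀).1] at this
    norm_num at this
  have htA : t ∈ A := ⟨Subgroup.mem_centralizer_singleton_iff.2 hyt.symm, Subgroup.mem_centralizer_singleton_iff.2 rfl⟩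
  obtain ⟨b, hbA, hb1, hbt, hb2⟩ : ∃ b ∈ A, b ≠ 1 ∧ b ≠ t ∧ b * b = 1 := by
    obtain ⟨V, hV⟩ := Sylow.exists_subgroup_card_pow_prime (G := ↥A) 2 (n := 2) (by
      rw [hAcard, hk₀]; exact ⟨k₀, by ring⟩)
    by_contra hcon
    push Not at hcon
    have h1 : ∀ g ∈ V, g = 1 ∨ g = ⟨t, htA⟩ := by
      intro g hg
      by_contra h2
      push Not at h2
      have h3 : (g : GG K m) ^ (2 ^ 2) = 1 := by
        have := pow_card_eq_one' (G := V) (x := ⟨g, hg⟩)
        rw [hV] at this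
        exact congrArg (fun z : V => ((z : ↥A) : GG K m)) this
      exact hcon g g.2 (fun h => h2.1 (Subtype.ext h)) (fun h => h2.2 (Subtype.ext h)) (two_elt hK 2 h3)
    have := card_le_two V _ h1
    rw [hV] at this
    norm_num at this
  have key : ∀ s ∈ A, s ≠ 1 → s * s = 1 → C ⊓ Subgroup.centralizer {s} = A := by
    intro s hs hs1 hs2
    have hys : y * s = s * y := (Subgroup.mem_centralizer_singleton_iff.1 hs.1).symm
    symm
    apply Subgroup.eq_of_le_of_card_ge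
    · intro a ha
      exact ⟨ha.1, Subgroup.mem_centralizer_singleton_iff.2 (hAcomm a ha s hs)⟩
    · rw [hAcard]
      exact le_of_eq (b1_card hK hm hp hp2 hpq hy hs1 hs2 hys)
  have hgen : N ≤ A.subgroupOf C := by
    have : Fact (Nat.Prime 2) := ⟨Nat.prime_two⟩
    apply Cfsg.Agent.Lib.Helper57Coprime.coprime_gen (p := 2) N hNodd ⟨t, htA.1⟩ ⟨b, hbA.1⟩
    · exact Subtype.ext (hAcomm t htA b hbA)
    · rw [pow_two]; exact Subtype.ext ht2
    · rw [pow_two]; exact Subtype.ext hb2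
    · intro t' ht' g _ hgt
      have hgt' : (g : GG K m) * (t' : GG K m) = (t' : GG K m) * g := congrArg Subtype.val hgt
      have fin : ∀ s ∈ A, s ≠ 1 → s * s = 1 → (t' : GG K m) = s → g ∈ A.subgroupOf C := by
        intro s hs hs1 hs2 e
        rw [Subgroup.mem_subgroupOf, ← key s hs hs1 hs2]
        exact ⟨g.2, Subgroup.mem_centralizer_singleton_iff.2 (e ▸ hgt')⟩
      rcases ht' with ⟨i, hi0, hi2, rfl⟩ | ⟨j, hj, rfl⟩
      · obtain rfl : i = 1 := by omega
        exact fin t htA ht1 ht2 (by simp)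
      · have : j = 0 ∨ j = 1 := by omega
        rcases this with rfl | rfl
        · exact fin b hbA hb1 hb2 (by simp)
        · refine fin (t * b) (A.mul_mem htA hbA) ?_ ?_ (by simp)
          · intro h
            apply hbt
            calc b = (t * t) * b := by rw [ht2, one_mul]
              _ = t * (t * b) := by group
              _ = t := by rw [h, mul_one]
          · calc t * b * (t * b) = t * (b * t) * b := by group
              _ = t * (t * b) * b := by rw [hAcomm b hbA t htA]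
              _ = (t * t) * (b * b) := by group
              _ = 1 := by rw [ht2, hb2, one_mul]
  have hNA : Nat.card N ∣ 4 * k₀ := by
    rw [← hk₀, ← hAcard, ← Nat.card_congr (Subgroup.subgroupOfEquivOfLe (inf_le_left : A ≤ C)).toEquiv]
    exact Subgroup.card_dvd_of_le hgen
  have hNk : Nat.card N ∣ k₀ := by
    apply Nat.Coprime.dvd_of_dvd_mul_left _ hNA
    exact Nat.Coprime.pow_right 2 hNodd
  have hk0pos : 0 < k₀ := by omega
  have hle : Nat.card C ≤ Nat.card A := by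
    rw [hAcard, hk₀, ← hcardN]
    have := Nat.le_of_dvd hk0pos hNk
    omega
  have hAeq : A = C := Subgroup.eq_of_le_of_card_ge inf_le_left hle
  rw [← hAeq]
  exact inf_le_right

theorem centB (hm : 1 ≤ m) {p : ℕ} (hp : p.Prime) (hp2 : p ≠ 2) (hpq : p ∣ 3 ^ (2 * m + 1) + 1) {y : GG K m}
    (hy : orderOf y = p) :
    Nat.card ↥(Subgroup.centralizer {y}) = 3 ^ (2 * m + 1) + 1 ∧
    (∀ a ∈ Subgroup.centralizer {y}, ∀ b ∈ Subgroup.centralizer {y}, a * b = b * a) ∧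
    (∀ X : Subgroup (GG K m), X ≤ Subgroup.centralizer {y} → Odd (Nat.card X) → IsCyclic X) := by
  obtain ⟨t, ht1, ht2, hyt⟩ := exists_invol hK hp hp2 hpq hy
  have h := cent_le hK hm hp hp2 hpq hy ht1 ht2 hyt
  have e : Subgroup.centralizer {y} ⊓ Subgroup.centralizer {t} = Subgroup.centralizer {y} := inf_eq_left.2 h
  have h1 := b1_card hK hm hp hp2 hpq hy ht1 ht2 hyt
  have h2 := b1_comm hK hm hp hp2 hpq hy ht1 ht2 hyt
  have h3 := b1_cyc hK hm hp hp2 hpq hy ht1 ht2 hyt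
  rw [e] at h1 h2 h3
  exact ⟨h1, h2, h3⟩

omit hK [Fintype K] [CharP K 3] [Field K] in
theorem quarter_odd (m : ℕ) : ∃ k, 3 ^ (2 * m + 1) + 1 = 4 * (2 * k + 1) := by
  have := q_mod m
  generalize 3 ^ (2 * m + 1) = q at this
  exact ⟨(q - 3) / 8, by omega⟩

theorem centB' (hm : 1 ≤ m) {y : GG K m} (hy1 : y ≠ 1) (hy : y ^ ((3 ^ (2 * m + 1) + 1) / 4) = 1) :
    Nat.card ↥(Subgroup.centralizer {y}) = 3 ^ (2 * m + 1) + 1 ∧
    (∀ a ∈ Subgroup.centralizer {y}, ∀ b ∈ Subgroup.centralizer {y}, a * b = b * a) ∧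
    (∀ X : Subgroup (GG K m), X ≤ Subgroup.centralizer {y} → Odd (Nat.card X) → IsCyclic X) := by
  obtain ⟨k, hk⟩ := quarter_odd m
  have hk2 : (3 ^ (2 * m + 1) + 1) / 4 = 2 * k + 1 := by omega
  rw [hk2] at hy
  have hd : orderOf y ∣ 2 * k + 1 := orderOf_dvd_of_pow_eq_one hy
  have hd1 : orderOf y ≠ 1 := fun h => hy1 (orderOf_eq_one_iff.1 h)
  set p := (orderOf y).minFac with hp
  have hpp : p.Prime := Nat.minFac_prime hd1
  have hpd : p ∣ orderOf y := Nat.minFac_dvd _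
  have hp2 : p ≠ 2 := by
    intro h
    have h2 : p ∣ 2 * k + 1 := hpd.trans hd
    rw [h] at h2
    omega
  have hpq : p ∣ 3 ^ (2 * m + 1) + 1 := by
    rw [hk]; exact (hpd.trans hd).mul_left 4
  have ho : orderOf (y ^ (orderOf y / p)) = p :=
    orderOf_pow_orderOf_div (orderOf_pos y).ne' hpd
  have hB := centB hK hm hpp hp2 hpq ho
  have e : Subgroup.centralizer {y} = Subgroup.centralizer {y ^ (orderOf y / p)} := by
    apply le_antisymm
    · intro c hc
      rw [Subgroup.mem_centralizer_singleton_iff] at hc ⊢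
      exact ((show Commute c y from hc).pow_right _).eq
    · intro c hc
      rw [Subgroup.mem_centralizer_singleton_iff]
      apply hB.2.1 c hc y
      rw [Subgroup.mem_centralizer_singleton_iff, ← pow_succ, ← pow_succ']
  rw [e]; exact hB

theorem s2359b (H : Subgroup (GG K m)) (hH : IsCyclic H) (hc : Nat.card H = (3 ^ (2 * m + 1) + 1) / 4) (hm : 1 ≤ m) :
      IsMulCommutative ↥(Subgroup.centralizer (H : Set (GG K m))) ∧
        Nat.card ↥(Subgroup.centralizer (H : Set (GG K m))) = 3 ^ (2 * m + 1) + 1 ∧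
        (∀ x ∈ Subgroup.centralizer (H : Set (GG K m)), orderOf x ≠ 4) ∧
        ∀ A : Subgroup (GG K m), A ≤ H → A ≠ ⊥ →
          Subgroup.centralizer (A : Set (GG K m)) = Subgroup.centralizer (H : Set (GG K m)) := by
  obtain ⟨⟨x, hxH⟩, hx⟩ := hH.exists_generator
  have hHx : H = Subgroup.zpowers x := by
    ext z
    constructor
    · intro hz
      obtain ⟨j, hj⟩ := Subgroup.mem_zpowers_iff.1 (hx ⟨z, hz⟩)
      exact Subgroup.mem_zpowers_iff.2 ⟨j, congrArg Subtype.val hj⟩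
    · intro hz
      exact (Subgroup.zpowers_le.2 hxH) hz
  have hpow : ∀ z ∈ H, z ^ ((3 ^ (2 * m + 1) + 1) / 4) = 1 := by
    intro z hz
    rw [← hc]
    exact congrArg Subtype.val (pow_card_eq_one' (G := H) (x := ⟨z, hz⟩))
  have hq27 := q_ge hK hm
  rw [hK] at hq27
  have hx1 : x ≠ 1 := by
    rintro rfl
    rw [hHx, Subgroup.zpowers_one_eq_bot, Subgroup.card_bot] at hc
    omega
  obtain ⟨h1, h2, -⟩ := centB' hK hm hx1 (hpow x hxH)
  have hCH : Subgroup.centralizer (H : Set (GG K m)) = Subgroup.centralizer {x} := by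
    rw [hHx, cent_zpowers]
  refine ⟨?_, ?_, ?_, ?_⟩
  · rw [hCH]; exact ⟨⟨fun a b => Subtype.ext (h2 a a.2 b b.2)⟩⟩
  · rw [hCH, h1]
  · intro z _ hz
    have h4 : z ^ (2 ^ 2) = 1 := by
      have := pow_orderOf_eq_one z
      rw [hz] at this
      exact this
    have h5 := two_elt hK 2 h4
    have h6 := orderOf_dvd_of_pow_eq_one (show z ^ 2 = 1 by rw [pow_two]; exact h5)
    rw [hz] at h6
    norm_num at h6
  · intro A hA hA1
    apply le_antisymm
    · obtain ⟨a, haA, ha1⟩ : ∃ a ∈ A, a ≠ 1 := by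
        by_contra hcon
        push Not at hcon
        exact hA1 ((Subgroup.eq_bot_iff_forall _).2 hcon)
      obtain ⟨h1', -, -⟩ := centB' hK hm ha1 (hpow a (hA haA))
      have e1 : Subgroup.centralizer (A : Set (GG K m)) ≤ Subgroup.centralizer {a} :=
        Subgroup.centralizer_le (by simpa using haA)
      have e2 : Subgroup.centralizer (H : Set (GG K m)) ≤ Subgroup.centralizer {a} :=
        Subgroup.centralizer_le (by simpa using hA haA)
      have e3 : Subgroup.centralizer (H : Set (GG K m)) = Subgroup.centralizer {a} := by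
        apply Subgroup.eq_of_le_of_card_ge e2
        rw [hCH, h1, h1']
      rw [e3]; exact e1
    · exact Subgroup.centralizer_le hA

end main

end Cfsg.Agent.Lib.Helper8Ree20
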