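import Cfsg.Agent.Lib.Helper8Ree20
import Cfsg.Agent.Lib.Helper8Lin
import Cfsg.Agent.Lib.Helper29Basic

set_option autoImplicit false
set_option linter.unusedSectionVars false

namespace Cfsg.Agent.Lib.Helper8Ree21

open Cfsg.Lie Cfsg.Agent.Lib.Helper22ChevBasic Cfsg.Agent.Lib.Helper8Ree2
  Cfsg.Agent.Lib.Helper8Ree5
  Cfsg.Agent.Lib.Helper8Ree6 Cfsg.Agent.Lib.Helper8Ree7 Cfsg.Agent.Lib.Helper8Ree8 Cfsg.Agent.Lib.Helper8Ree9
  Cfsg.Agent.Lib.Helper8Ree10 Cfsg.Agent.Lib.Helper8Ree11 Cfsg.Agent.Lib.Helper8Ree12 Cfsg.Agent.Lib.Helper8Ree14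
  Cfsg.Agent.Lib.Helper8Ree15 Cfsg.Agent.Lib.Helper8Ree16 Cfsg.Agent.Lib.Helper8Ree17 Cfsg.Agent.Lib.Helper8Ree18
  Cfsg.Agent.Lib.Helper8Ree19 Cfsg.Agent.Lib.Helper8Ree20
  Cfsg.Agent.Lib.Helper8Rank1 Cfsg.Agent.Lib.Helper8Lin

/-- arithmetic: primes dividing `q² - q + 1` -/
theorem zq {p q : ℕ} (hq : 1 ≤ q) (h : p ∣ q ^ 2 - q + 1) : ((q : ℕ) : ZMod p) ^ 2 - (q : ZMod p) + 1 = 0 := by
  have h1 : ((q ^ 2 - q + 1 : ℕ) : ZMod p) = 0 := (ZMod.natCast_eq_zero_iff _ _).2 h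
  have hle : q ≤ q ^ 2 := by nlinarith
  push_cast [Nat.cast_sub hle] at h1
  exact h1

theorem p_ne_two {p q : ℕ} (hq : 1 ≤ q) (h : p ∣ q ^ 2 - q + 1) : p ≠ 2 := by
  rintro rfl
  have h1 := zq hq h
  have : ∀ u : ZMod 2, u ^ 2 - u + 1 ≠ 0 := by decide
  exact this _ h1

theorem p_ne_three {p q : ℕ} (hq : 1 ≤ q) (h3 : 3 ∣ q) (h : p ∣ q ^ 2 - q + 1) : p ≠ 3 := by
  rintro rfl
  have h1 := zq hq h
  rw [(ZMod.natCast_eq_zero_iff _ _).2 h3] at h1
  revert h1; decide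

theorem not_dvd_q {p q : ℕ} [Fact p.Prime] (hq : 1 ≤ q) (h : p ∣ q ^ 2 - q + 1) : ¬ p ∣ q := by
  intro h2
  have h1 := zq hq h
  rw [(ZMod.natCast_eq_zero_iff _ _).2 h2] at h1
  apply one_ne_zero (α := ZMod p)
  linear_combination h1

theorem not_dvd_qm {p q : ℕ} [Fact p.Prime] (hq : 1 ≤ q) (h : p ∣ q ^ 2 - q + 1) : ¬ p ∣ q - 1 := by
  intro h2
  have h1 := zq hq h
  have h3 : ((q - 1 : ℕ) : ZMod p) = 0 := (ZMod.natCast_eq_zero_iff _ _).2 h2
  push_cast [Nat.cast_sub hq] at h3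
  have h4 : (q : ZMod p) = 1 := by linear_combination h3
  rw [h4] at h1
  apply one_ne_zero (α := ZMod p)
  linear_combination h1

theorem not_dvd_qp {p q : ℕ} [Fact p.Prime] (hq : 1 ≤ q) (h3 : 3 ∣ q) (h : p ∣ q ^ 2 - q + 1) : ¬ p ∣ q + 1 := by
  intro h2
  have h1 := zq hq h
  have h4 : ((q + 1 : ℕ) : ZMod p) = 0 := (ZMod.natCast_eq_zero_iff _ _).2 h2
  push_cast at h4
  have h5 : (q : ZMod p) = -1 := by linear_combination h4
  rw [h5] at h1
  have h6 : ((3 : ℕ) : ZMod p) = 0 := by push_cast; linear_combination h1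
  rw [ZMod.natCast_eq_zero_iff] at h6
  exact p_ne_three hq h3 h ((Nat.prime_dvd_prime_iff_eq Fact.out Nat.prime_three).1 h6)

theorem order_six {p q : ℕ} [Fact p.Prime] (hq : 1 ≤ q) (h3 : 3 ∣ q) (h : p ∣ q ^ 2 - q + 1) :
    orderOf ((q : ℕ) : ZMod p) = 6 := by
  have h1 := zq hq h
  have hc : ((q : ℕ) : ZMod p) ^ 3 = -1 := by linear_combination ((q : ZMod p) + 1) * h1
  have h2 : (2 : ZMod p) ≠ 0 := by
    intro h0
    have : ((2 : ℕ) : ZMod p) = 0 := by exact_mod_cast h0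
    rw [ZMod.natCast_eq_zero_iff] at this
    exact p_ne_two hq h ((Nat.prime_dvd_prime_iff_eq Fact.out Nat.prime_two).1 this)
  have h3' : (3 : ZMod p) ≠ 0 := by
    intro h0
    have : ((3 : ℕ) : ZMod p) = 0 := by exact_mod_cast h0
    rw [ZMod.natCast_eq_zero_iff] at this
    exact p_ne_three hq h3 h ((Nat.prime_dvd_prime_iff_eq Fact.out Nat.prime_three).1 this)
  apply orderOf_eq_of_pow_and_pow_div_prime (by norm_num)
  · have : ((q : ℕ) : ZMod p) ^ 6 = (((q : ℕ) : ZMod p) ^ 3) ^ 2 := by ring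
    rw [this, hc]; ring
  · intro r hr hr6
    have : r = 2 ∨ r = 3 := by
      have hle := Nat.le_of_dvd (by norm_num) hr6
      interval_cases r <;> simp_all (config := {decide := true})
    rcases this with rfl | rfl
    · show ((q : ℕ) : ZMod p) ^ 3 ≠ 1
      rw [hc]
      intro h4
      apply h2
      linear_combination -h4
    · show ((q : ℕ) : ZMod p) ^ 2 ≠ 1
      intro h4
      have h5 : (q : ZMod p) = 2 := by linear_combination h4 - h1
      rw [h5] at h1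
      apply h3'
      linear_combination h1

variable {K : Type*} [Field K] [Fintype K] [CharP K 3]

section main

variable {m : ℕ} (hK : Fintype.card K = 3 ^ (2 * m + 1))
include hK

/-- the 7-dimensional representation -/
noncomputable def rho : GG K m →* Module.End K (J → K) :=
  ((Matrix.toLinAlgEquiv' : Matrix J J K ≃ₐ[K] _) : Matrix J J K →* Module.End K (J → K)).comp
    ((hA (F := K)).comp (Subgroup.inclusion (fun g hg => (G1_le_Fix hK hg).1)))

theorem rho_inj : Function.Injective (rho hK) := by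
  intro a b h
  have h1 : hA (F := K) (Subgroup.inclusion (fun g hg => (G1_le_Fix hK hg).1) a) =
      hA (F := K) (Subgroup.inclusion (fun g hg => (G1_le_Fix hK hg).1) b) :=
    (Matrix.toLinAlgEquiv' : Matrix J J K ≃ₐ[K] _).injective h
  have h2 := hA_inj (F := K) (Units.ext h1)
  exact Subgroup.inclusion_injective _ h2

omit hK [Fintype K] [CharP K 3] in
theorem finrank_J : Module.finrank K (J → K) = 6 + 1 := by
  rw [Module.finrank_fintype_fun_eq_card]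
  rfl

theorem three_dvd_q : 3 ∣ 3 ^ (2 * m + 1) := dvd_pow_self 3 (by omega)

theorem cycP {p : ℕ} (hp : p.Prime) (hpq : p ∣ (3 ^ (2 * m + 1)) ^ 2 - 3 ^ (2 * m + 1) + 1) {x : GG K m}
    (hx : orderOf x = p) (X : Subgroup (GG K m)) (hX : X ≤ Subgroup.centralizer {x})
    (hcop : (Nat.card X).Coprime (3 ^ (2 * m + 1) - 1)) : IsCyclic X := by
  have : Fact p.Prime := ⟨hp⟩
  have hq := q_pos hK
  have hq1 : 1 ≤ 3 ^ (2 * m + 1) := by omega
  have ho : orderOf ((Fintype.card K : ℕ) : ZMod p) = 6 := by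
    rw [hK]; exact order_six hq1 (three_dvd_q hK) hpq
  have hpF : (p : K) ≠ 0 := by
    intro h
    rw [CharP.cast_eq_zero_iff K 3 p] at h
    exact p_ne_three hq1 (three_dvd_q hK) hpq ((Nat.prime_dvd_prime_iff_eq Nat.prime_three hp).1 h).symm
  have hxp : rho hK x ^ p = 1 := by
    rw [← map_pow, ← hx, pow_orderOf_eq_one, map_one]
  have hx1 : rho hK x ≠ 1 := by
    intro h
    have h1 : x = 1 := rho_inj hK (h.trans (map_one _).symm)
    rw [h1, orderOf_one] at hx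
    exact hp.one_lt.ne hx
  have hcomm : ∀ k : X, rho hK k * rho hK x = rho hK x * rho hK k := by
    intro k
    rw [← map_mul, ← map_mul, Subgroup.mem_centralizer_singleton_iff.1 (hX k.2)]
  apply isCyclic_of_comm' (e := 6) (p := p) (by norm_num) ho hpF (rho hK x) hxp hx1 finrank_J
    ((rho hK).comp X.subtype)
  · exact (rho_inj hK).comp (Subgroup.subtype_injective X)
  · exact hcomm
  · intro k
    apply fix_of_coprime (e := 6) (p := p) (by norm_num) ho (rho hK x) hxp hx1 finrank_J (hcomm k)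
      (n := Nat.card X) Nat.card_pos
    · show rho hK (k : GG K m) ^ Nat.card X = 1
      rw [← map_pow]
      have : (k : GG K m) ^ Nat.card X = 1 := congrArg Subtype.val (pow_card_eq_one' (G := X) (x := k))
      rw [this, map_one]
    · rw [hK]; exact hcop

theorem card_cent_invol (hm : 1 ≤ m) {t : GG K m} (ht1 : t ≠ 1) (ht2 : t * t = 1) :
    Nat.card ↥(Subgroup.centralizer {t}) = 3 ^ (2 * m + 1) * (3 ^ (2 * m + 1) - 1) * (3 ^ (2 * m + 1) + 1) := by
  obtain ⟨g, rfl⟩ := invol_conj hK hm ht1 ht2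
  rw [cent_conj, card_cj]
  exact card_CC hK

omit hK [Fintype K] [CharP K 3] [Field K] in
theorem dvd_card_cent {G : Type*} [Group G] [Finite G] {x z : G} (h : x * z = z * x) :
    orderOf x ∣ Nat.card ↥(Subgroup.centralizer {z}) := by
  have hx : x ∈ Subgroup.centralizer {z} := Subgroup.mem_centralizer_singleton_iff.2 h
  have := orderOf_dvd_natCard (⟨x, hx⟩ : ↥(Subgroup.centralizer {z}))
  rwa [Subgroup.orderOf_mk] at this

theorem card_centP (hm : 1 ≤ m) {p : ℕ} (hp : p.Prime) (hpq : p ∣ (3 ^ (2 * m + 1)) ^ 2 - 3 ^ (2 * m + 1) + 1)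
    {x : GG K m} (hx : orderOf x = p) :
    Nat.card ↥(Subgroup.centralizer {x}) ∣ (3 ^ (2 * m + 1)) ^ 2 - 3 ^ (2 * m + 1) + 1 := by
  have : Fact p.Prime := ⟨hp⟩
  have hq := q_pos hK
  have hq1 : 1 ≤ 3 ^ (2 * m + 1) := by omega
  have h3q := three_dvd_q hK
  have n1 := not_dvd_q hq1 hpq
  have n2 := not_dvd_qm hq1 hpq
  have n3 := not_dvd_qp hq1 h3q hpq
  have key : ∀ r : ℕ, r.Prime → r ∣ Nat.card ↥(Subgroup.centralizer {x}) →
      ¬ r ∣ 3 ^ (2 * m + 1) ∧ ¬ r ∣ 3 ^ (2 * m + 1) - 1 ∧ ¬ r ∣ 3 ^ (2 * m + 1) + 1 := by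
    intro r hr hrc
    have : Fact r.Prime := ⟨hr⟩
    obtain ⟨z, hz⟩ := exists_prime_orderOf_dvd_card' (G := ↥(Subgroup.centralizer {x})) r hrc
    have hz' : orderOf (z : GG K m) = r := by rw [Subgroup.orderOf_coe]; exact hz
    have hzx : x * (z : GG K m) = (z : GG K m) * x := (Subgroup.mem_centralizer_singleton_iff.1 z.2).symm
    have hd := dvd_card_cent hzx
    rw [hx] at hd
    have hr3 : r ≠ 3 := by
      rintro rfl
      exact not_three_dvd hK hp (p_ne_three hq1 h3q hpq) n2 hx hrc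
    have hr2 : r ≠ 2 := by
      rintro rfl
      have hz1 : (z : GG K m) ≠ 1 := by
        intro h
        rw [h, orderOf_one] at hz'
        omega
      have hz2 : (z : GG K m) * (z : GG K m) = 1 := by
        rw [← pow_two, ← hz']; exact pow_orderOf_eq_one _
      rw [card_cent_invol hK hm hz1 hz2] at hd
      rcases (Nat.Prime.dvd_mul hp).1 hd with h | h
      · rcases (Nat.Prime.dvd_mul hp).1 h with h | h
        · exact n1 h
        · exact n2 h
      · exact n3 h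
    refine ⟨?_, ?_, ?_⟩
    · intro h
      exact hr3 ((Nat.prime_dvd_prime_iff_eq hr Nat.prime_three).1 (hr.dvd_of_dvd_pow h))
    · intro h
      obtain ⟨g, μ, hμ, e⟩ := conj_into_HH hK hr hr2 h hz'
      rw [e, cent_conj, card_cj, cent_hG hK hμ, card_HH hK] at hd
      exact n2 hd
    · intro h
      rw [(centB hK hm hr hr2 h hz').1] at hd
      exact n3 hd
  have hdvd : Nat.card ↥(Subgroup.centralizer {x}) ∣ Nat.card (GG K m) := Subgroup.card_subgroup_dvd_card _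
  rw [card_G1 hK] at hdvd
  have e : (3 ^ (2 * m + 1)) ^ 3 + 1 = (3 ^ (2 * m + 1) + 1) * ((3 ^ (2 * m + 1)) ^ 2 - 3 ^ (2 * m + 1) + 1) := by
    obtain ⟨s, hs⟩ : ∃ s, 3 ^ (2 * m + 1) = s + 1 := ⟨3 ^ (2 * m + 1) - 1, by omega⟩
    rw [hs]
    have e1 : (s + 1) ^ 2 - (s + 1) + 1 = s ^ 2 + s + 1 := by
      have : (s + 1) ^ 2 = s ^ 2 + s + (s + 1) := by ring
      omega
    rw [e1]; ring
  rw [e] at hdvd
  have c1 : (Nat.card ↥(Subgroup.centralizer {x})).Coprime ((3 ^ (2 * m + 1)) ^ 3) :=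
    Nat.Coprime.pow_right 3 (Nat.coprime_of_dvd (fun r hr h1 h2 => (key r hr h1).1 h2))
  have c2 : (Nat.card ↥(Subgroup.centralizer {x})).Coprime (3 ^ (2 * m + 1) - 1) :=
    Nat.coprime_of_dvd (fun r hr h1 h2 => (key r hr h1).2.1 h2)
  have c3 : (Nat.card ↥(Subgroup.centralizer {x})).Coprime (3 ^ (2 * m + 1) + 1) :=
    Nat.coprime_of_dvd (fun r hr h1 h2 => (key r hr h1).2.2 h2)
  exact c3.dvd_of_dvd_mul_left ((c1.mul_right c2).dvd_of_dvd_mul_left hdvd)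

omit hK [Fintype K] [CharP K 3] [Field K] in
theorem phi_coprime (m : ℕ) {c : ℕ} (hc : c ∣ (3 ^ (2 * m + 1)) ^ 2 - 3 ^ (2 * m + 1) + 1) :
    c.Coprime (3 ^ (2 * m + 1) - 1) := by
  have hq1 : 1 ≤ 3 ^ (2 * m + 1) := Nat.one_le_pow _ _ (by norm_num)
  apply Nat.coprime_of_dvd
  intro r hr h1 h2
  have : Fact r.Prime := ⟨hr⟩
  exact not_dvd_qm hq1 (h1.trans hc) h2

theorem isCyclic_centP (hm : 1 ≤ m) {p : ℕ} (hp : p.Prime) (hpq : p ∣ (3 ^ (2 * m + 1)) ^ 2 - 3 ^ (2 * m + 1) + 1)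
    {x : GG K m} (hx : orderOf x = p) : IsCyclic ↥(Subgroup.centralizer {x}) :=
  cycP hK hp hpq hx _ le_rfl (phi_coprime m (card_centP hK hm hp hpq hx))

omit hK [Fintype K] [CharP K 3] [Field K] in
theorem exists_central_elt {G : Type*} [Group G] [Finite G] {p : ℕ} [Fact p.Prime] (P : Subgroup G) (hP : IsPGroup p P)
    (hnt : Nontrivial P) : ∃ y ∈ P, orderOf y = p ∧ P ≤ Subgroup.centralizer {y} := by
  have h1 := hP.center_nontrivial
  have h2 : IsPGroup p (Subgroup.center P) := hP.to_subgroup _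
  obtain ⟨k, hk⟩ := IsPGroup.iff_card.1 h2
  have hk0 : k ≠ 0 := by
    rintro rfl
    rw [pow_zero] at hk
    have := Finite.one_lt_card_iff_nontrivial.2 h1
    omega
  obtain ⟨z, hz⟩ := exists_prime_orderOf_dvd_card' (G := Subgroup.center P) p (by rw [hk]; exact dvd_pow_self p hk0)
  refine ⟨((z : P) : G), (z : P).2, ?_, ?_⟩
  · rw [Subgroup.orderOf_coe, Subgroup.orderOf_coe]; exact hz
  · intro g hg
    rw [Subgroup.mem_centralizer_singleton_iff]
    have := Subgroup.mem_center_iff.1 z.2 ⟨g, hg⟩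
    exact congrArg Subtype.val this

omit hK [Fintype K] [CharP K 3] [Field K] in
theorem isCyclic_of_le {G : Type*} [Group G] {X W : Subgroup G} (h : X ≤ W) (hW : IsCyclic W) : IsCyclic X :=
  isCyclic_of_injective (Subgroup.inclusion h) (Subgroup.inclusion_injective h)

omit hK [Fintype K] [CharP K 3] [Field K] in
theorem q3_eq (m : ℕ) : (3 ^ (2 * m + 1)) ^ 3 + 1 = (3 ^ (2 * m + 1) + 1) * ((3 ^ (2 * m + 1)) ^ 2 - 3 ^ (2 * m + 1) + 1) := by
  have hq1 : 1 ≤ 3 ^ (2 * m + 1) := Nat.one_le_pow _ _ (by norm_num)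
  obtain ⟨s, hs⟩ : ∃ s, 3 ^ (2 * m + 1) = s + 1 := ⟨3 ^ (2 * m + 1) - 1, by omega⟩
  rw [hs]
  have e1 : (s + 1) ^ 2 - (s + 1) + 1 = s ^ 2 + s + 1 := by
    have : (s + 1) ^ 2 = s ^ 2 + s + (s + 1) := by ring
    omega
  rw [e1]; ring

/-- the three kinds of primes `> 3` -/
theorem prime_cases {p : ℕ} (hp : p.Prime) (hp3 : p ≠ 3) (h : p ∣ Nat.card (GG K m)) :
    p ∣ 3 ^ (2 * m + 1) - 1 ∨ p ∣ 3 ^ (2 * m + 1) + 1 ∨ p ∣ (3 ^ (2 * m + 1)) ^ 2 - 3 ^ (2 * m + 1) + 1 := by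
  rw [card_G1 hK, q3_eq] at h
  rcases (Nat.Prime.dvd_mul hp).1 h with h | h
  · rcases (Nat.Prime.dvd_mul hp).1 h with h | h
    · exact absurd ((Nat.prime_dvd_prime_iff_eq hp Nat.prime_three).1 (hp.dvd_of_dvd_pow (hp.dvd_of_dvd_pow h))) hp3
    · exact Or.inl h
  · rcases (Nat.Prime.dvd_mul hp).1 h with h | h
    · exact Or.inr (Or.inl h)
    · exact Or.inr (Or.inr h)

theorem pgroup_cyclic (hm : 1 ≤ m) {p : ℕ} [hpf : Fact p.Prime] (hp : 3 < p) (P : Subgroup (GG K m)) (hP : IsPGroup p P) :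
    IsCyclic P := by
  have hpp := hpf.out
  by_cases hnt : Nontrivial P
  · obtain ⟨y, hyP, hy, hle⟩ := exists_central_elt P hP hnt
    have hdvd : p ∣ Nat.card (GG K m) := hy ▸ orderOf_dvd_natCard y
    obtain ⟨k, hk⟩ := IsPGroup.iff_card.1 hP
    rcases prime_cases hK hpp (by omega) hdvd with h | h | h
    · obtain ⟨g, μ, hμ, e⟩ := conj_into_HH hK hpp (by omega) h hy
      rw [e, cent_conj, cent_hG hK hμ] at hle
      exact isCyclic_of_le hle (isCyclic_cj g _ (isCyclic_HH hK))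
    · apply (centB hK hm hpp (by omega) h hy).2.2 P hle
      rw [hk]
      apply Odd.pow
      rcases hpp.eq_two_or_odd' with h2 | h2
      · omega
      · exact h2
    · exact isCyclic_of_le hle (isCyclic_centP hK hm hpp h hy)
  · rw [not_nontrivial_iff_subsingleton] at hnt
    exact isCyclic_of_subsingleton

omit hK [Fintype K] [CharP K 3] [Field K] in
theorem conj_of_cyclic {G : Type*} [Group G] [Finite G] {p : ℕ} [Fact p.Prime] (hsyl : ∀ P : Sylow p G, IsCyclic P)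
    (A B : Subgroup G) (hA : IsCyclic A) (hB : IsCyclic B) (hcard : Nat.card A = Nat.card B) (hp : p ∣ Nat.card A)
    (huniq : ∀ y, orderOf y = p → ∀ X Y : Subgroup G, X ≤ Subgroup.centralizer {y} → Y ≤ Subgroup.centralizer {y} →
      Nat.card X = Nat.card A → Nat.card Y = Nat.card A → X = Y) :
    ∃ g : G, B = A.map (MulAut.conj g).toMonoidHom := by
  obtain ⟨x, hx⟩ := exists_prime_orderOf_dvd_card' (G := A) p hp
  obtain ⟨y, hy⟩ := exists_prime_orderOf_dvd_card' (G := B) p (hcard ▸ hp)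
  have hx' : orderOf (x : G) = p := by rw [Subgroup.orderOf_coe]; exact hx
  have hy' : orderOf (y : G) = p := by rw [Subgroup.orderOf_coe]; exact hy
  have hpx : IsPGroup p (Subgroup.zpowers (x : G)) := IsPGroup.of_card (n := 1) (by rw [Nat.card_zpowers, hx', pow_one])
  have hpy : IsPGroup p (Subgroup.zpowers (y : G)) := IsPGroup.of_card (n := 1) (by rw [Nat.card_zpowers, hy', pow_one])
  obtain ⟨P, hP⟩ := hpx.exists_le_sylow
  obtain ⟨Q, hQ⟩ := hpy.exists_le_sylow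
  obtain ⟨g, hg⟩ := MulAction.exists_smul_eq G P Q
  have hxQ : g * (x : G) * g⁻¹ ∈ (Q : Subgroup G) := by
    rw [← hg, Sylow.coe_subgroup_smul, Subgroup.mem_pointwise_smul_iff_inv_smul_mem]
    have : (MulAut.conj g)⁻¹ • (g * (x : G) * g⁻¹) = (x : G) := by
      simp [MulAut.smul_def, mul_assoc]
    rw [this]
    exact hP (Subgroup.mem_zpowers _)
  have ho : orderOf (g * (x : G) * g⁻¹) = p := by
    have : g * (x : G) * g⁻¹ = MulAut.conj g (x : G) := rfl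
    rw [this, MulEquiv.orderOf_eq, hx']
  have heq : Subgroup.zpowers (g * (x : G) * g⁻¹) = Subgroup.zpowers (y : G) := by
    apply Cfsg.Agent.Lib.Helper29Basic.eq_of_card_eq_of_le_cyclic (hsyl Q) (Subgroup.zpowers_le.2 hxQ) hQ
    rw [Nat.card_zpowers, Nat.card_zpowers, ho, hy']
  refine ⟨g, ?_⟩
  symm
  apply huniq (y : G) hy'
  · rintro _ ⟨a, ha, rfl⟩
    have h1 : (y : G) ∈ Subgroup.zpowers (g * (x : G) * g⁻¹) := by rw [heq]; exact Subgroup.mem_zpowers _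
    obtain ⟨j, hj⟩ := Subgroup.mem_zpowers_iff.1 h1
    rw [Subgroup.mem_centralizer_singleton_iff, ← hj]
    have hc : Commute (g * a * g⁻¹) (g * (x : G) * g⁻¹) := by
      have := Cfsg.Agent.Lib.Helper29Basic.comm_of_cyclic hA ha x.2
      show g * a * g⁻¹ * (g * (x : G) * g⁻¹) = g * (x : G) * g⁻¹ * (g * a * g⁻¹)
      calc g * a * g⁻¹ * (g * (x : G) * g⁻¹) = g * (a * x) * g⁻¹ := by group
        _ = g * (x * a) * g⁻¹ := by rw [this]
        _ = _ := by group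
    exact (hc.zpow_right j).eq
  · intro b hb
    rw [Subgroup.mem_centralizer_singleton_iff]
    exact Cfsg.Agent.Lib.Helper29Basic.comm_of_cyclic hB hb y.2
  · exact Subgroup.card_map_of_injective (MulAut.conj g).injective
  · exact hcard.symm

omit hK [Fintype K] [CharP K 3] [Field K] in
theorem phi_factor (m : ℕ) : (3 ^ (2 * m + 1) - 3 ^ (m + 1) + 1) * (3 ^ (2 * m + 1) + 3 ^ (m + 1) + 1) =
    (3 ^ (2 * m + 1)) ^ 2 - 3 ^ (2 * m + 1) + 1 := by
  have e1 : 3 ^ (2 * m + 1) = 3 * (3 ^ m) ^ 2 := by rw [pow_succ, pow_mul']; ring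
  have e2 : 3 ^ (m + 1) = 3 * 3 ^ m := by rw [pow_succ]; ring
  rw [e1, e2]
  have ha : 1 ≤ 3 ^ m := Nat.one_le_pow _ _ (by norm_num)
  obtain ⟨a, ha'⟩ : ∃ a, 3 ^ m = a + 1 := ⟨3 ^ m - 1, by omega⟩
  rw [ha']
  have h1 : 3 * (a + 1) ^ 2 - 3 * (a + 1) + 1 = 3 * a ^ 2 + 3 * a + 1 := by
    have : 3 * (a + 1) ^ 2 = 3 * a ^ 2 + 3 * a + 3 * (a + 1) := by ring
    omega
  have h2 : (3 * (a + 1) ^ 2) ^ 2 - 3 * (a + 1) ^ 2 + 1 = 9 * a ^ 4 + 36 * a ^ 3 + 51 * a ^ 2 + 30 * a + 7 := by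
    have : (3 * (a + 1) ^ 2) ^ 2 = 9 * a ^ 4 + 36 * a ^ 3 + 51 * a ^ 2 + 30 * a + 6 + 3 * (a + 1) ^ 2 := by ring
    omega
  rw [h1, h2]; ring

theorem uniq1 {p : ℕ} (hp : p.Prime) (hp2 : p ≠ 2) (hpq : p ∣ 3 ^ (2 * m + 1) - 1) {y : GG K m} (hy : orderOf y = p)
    (X Y : Subgroup (GG K m)) (hX : X ≤ Subgroup.centralizer {y}) (hY : Y ≤ Subgroup.centralizer {y})
    (h : Nat.card X = Nat.card Y) : X = Y := by
  obtain ⟨g, μ, hμ, e⟩ := conj_into_HH hK hp hp2 hpq hy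
  rw [e, cent_conj, cent_hG hK hμ] at hX hY
  exact Cfsg.Agent.Lib.Helper29Basic.eq_of_card_eq_of_le_cyclic (isCyclic_cj g _ (isCyclic_HH hK)) hX hY h

theorem uniq3 (hm : 1 ≤ m) {p : ℕ} (hp : p.Prime) (hpq : p ∣ (3 ^ (2 * m + 1)) ^ 2 - 3 ^ (2 * m + 1) + 1)
    {y : GG K m} (hy : orderOf y = p)
    (X Y : Subgroup (GG K m)) (hX : X ≤ Subgroup.centralizer {y}) (hY : Y ≤ Subgroup.centralizer {y})
    (h : Nat.card X = Nat.card Y) : X = Y :=
  Cfsg.Agent.Lib.Helper29Basic.eq_of_card_eq_of_le_cyclic (isCyclic_centP hK hm hp hpq hy) hX hY h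

theorem uniq2 (hm : 1 ≤ m) {p : ℕ} (hp : p.Prime) (hp2 : p ≠ 2) (hpq : p ∣ 3 ^ (2 * m + 1) + 1)
    {y : GG K m} (hy : orderOf y = p)
    (X Y : Subgroup (GG K m)) (hX : X ≤ Subgroup.centralizer {y}) (hY : Y ≤ Subgroup.centralizer {y})
    (h : Nat.card X = Nat.card Y) (hodd : Odd (Nat.card X)) : X = Y := by
  obtain ⟨-, hcomm, hcyc⟩ := centB hK hm hp hp2 hpq hy
  set d := Nat.card X with hd
  let O : Subgroup (GG K m) :=
    { carrier := {z | z ∈ Subgroup.centralizer {y} ∧ z ^ d = 1}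
      one_mem' := ⟨one_mem _, one_pow _⟩
      mul_mem' := by
        rintro a b ⟨ha, ha'⟩ ⟨hb, hb'⟩
        exact ⟨mul_mem ha hb, by rw [(show Commute a b from hcomm a ha b hb).mul_pow, ha', hb', one_mul]⟩
      inv_mem' := by
        rintro a ⟨ha, ha'⟩
        exact ⟨inv_mem ha, by rw [inv_pow, ha', inv_one]⟩ }
  have hO : Odd (Nat.card O) := by
    rw [← Nat.not_even_iff_odd]
    intro he
    have : Fact (Nat.Prime 2) := ⟨Nat.prime_two⟩
    obtain ⟨z, hz⟩ := exists_prime_orderOf_dvd_card' (G := O) 2 he.two_dvd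
    have h1 : (z : GG K m) ^ d = 1 := z.2.2
    have h2 : orderOf (z : GG K m) = 2 := by rw [Subgroup.orderOf_coe]; exact hz
    have h3 := orderOf_dvd_of_pow_eq_one h1
    rw [h2] at h3
    rw [Nat.odd_iff] at hodd
    omega
  have hOc := hcyc O (fun z hz => hz.1) hO
  apply Cfsg.Agent.Lib.Helper29Basic.eq_of_card_eq_of_le_cyclic hOc _ _ h
  · intro z hz
    exact ⟨hX hz, congrArg Subtype.val (pow_card_eq_one' (G := X) (x := ⟨z, hz⟩))⟩
  · intro z hz
    refine ⟨hY hz, ?_⟩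
    rw [h]
    exact congrArg Subtype.val (pow_card_eq_one' (G := Y) (x := ⟨z, hz⟩))

theorem s2358 (hm : 1 ≤ m) (d : ℕ)
    (hd : d ∣ (3 ^ (2 * m + 1) - 1) / 2 ∨ d ∣ (3 ^ (2 * m + 1) + 1) / 4 ∨ d ∣ 3 ^ (2 * m + 1) - 3 ^ (m + 1) + 1 ∨ d ∣ 3 ^ (2 * m + 1) + 3 ^ (m + 1) + 1)
    (A B : Subgroup (GG K m)) (hA : IsCyclic A) (hB : IsCyclic B)
    (hAd : Nat.card A = d) (hBd : Nat.card B = d) :
    ∃ g : GG K m, B = A.map (MulAut.conj g).toMonoidHom := by
  by_cases hd1 : d = 1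
  · refine ⟨1, ?_⟩
    rw [hd1] at hAd hBd
    rw [Subgroup.card_eq_one.1 hAd, Subgroup.card_eq_one.1 hBd, Subgroup.map_bot]
  have hpp : (d.minFac).Prime := Nat.minFac_prime hd1
  have hpd : d.minFac ∣ d := Nat.minFac_dvd d
  set p := d.minFac with hp
  have : Fact p.Prime := ⟨hpp⟩
  have hq1 : 1 ≤ 3 ^ (2 * m + 1) := Nat.one_le_pow _ _ (by norm_num)
  have h3q := three_dvd_q hK
  have hd' : d ∣ (3 ^ (2 * m + 1) - 1) / 2 ∨ d ∣ (3 ^ (2 * m + 1) + 1) / 4 ∨
      d ∣ (3 ^ (2 * m + 1)) ^ 2 - 3 ^ (2 * m + 1) + 1 := by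
    rcases hd with h | h | h | h
    · exact Or.inl h
    · exact Or.inr (Or.inl h)
    · exact Or.inr (Or.inr (h.trans ⟨_, (phi_factor m).symm⟩))
    · exact Or.inr (Or.inr (h.trans ⟨_, by rw [← phi_factor m, mul_comm]⟩))
  rcases hd' with h | h | h
  · obtain ⟨k, hk⟩ := half_odd m
    have hk2 : (3 ^ (2 * m + 1) - 1) / 2 = 2 * k + 1 := by omega
    rw [hk2] at h
    have hp2 : p ≠ 2 := by
      intro h2
      have h3 := hpd.trans h
      rw [h2] at h3
      omega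
    have hpq : p ∣ 3 ^ (2 * m + 1) - 1 := by rw [hk]; exact (hpd.trans h).mul_left 2
    have hp3 : p ≠ 3 := by
      intro h3
      rw [h3] at hpq
      obtain ⟨j, hj⟩ := h3q
      omega
    have hp4 : 3 < p := by
      have := hpp.two_le
      omega
    apply conj_of_cyclic (p := p) (fun P => pgroup_cyclic hK hm hp4 P P.2) A B hA hB (hAd.trans hBd.symm) (hAd ▸ hpd)
    intro y hy X Y hX hY h1 h2
    exact uniq1 hK hpp hp2 hpq hy X Y hX hY (h1.trans h2.symm)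
  · obtain ⟨k, hk⟩ := quarter_odd m
    have hk2 : (3 ^ (2 * m + 1) + 1) / 4 = 2 * k + 1 := by omega
    rw [hk2] at h
    have hp2 : p ≠ 2 := by
      intro h2
      have h3 := hpd.trans h
      rw [h2] at h3
      omega
    have hpq : p ∣ 3 ^ (2 * m + 1) + 1 := by rw [hk]; exact (hpd.trans h).mul_left 4
    have hp3 : p ≠ 3 := ar6 hpp hpq
    have hp4 : 3 < p := by
      have := hpp.two_le
      omega
    have hdodd : Odd d := by
      rw [← Nat.not_even_iff_odd]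
      intro he
      have := he.two_dvd.trans h
      omega
    apply conj_of_cyclic (p := p) (fun P => pgroup_cyclic hK hm hp4 P P.2) A B hA hB (hAd.trans hBd.symm) (hAd ▸ hpd)
    intro y hy X Y hX hY h1 h2
    exact uniq2 hK hm hpp hp2 hpq hy X Y hX hY (h1.trans h2.symm) (by rw [h1, hAd]; exact hdodd)
  · have hpq := hpd.trans h
    have hp2 := p_ne_two hq1 hpq
    have hp3 := p_ne_three hq1 h3q hpq
    have hp4 : 3 < p := by
      have := hpp.two_le
      omega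
    apply conj_of_cyclic (p := p) (fun P => pgroup_cyclic hK hm hp4 P P.2) A B hA hB (hAd.trans hBd.symm) (hAd ▸ hpd)
    intro y hy X Y hX hY h1 h2
    exact uniq3 hK hm hpp hpq hy X Y hX hY (h1.trans h2.symm)

end main

end Cfsg.Agent.Lib.Helper8Ree21
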