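import Cfsg.Agent.Lib.Helper8Ree21
import Cfsg.Agent.Lib.Helper8Lin2
import Cfsg.Agent.Lib.Helper8Cnt

set_option autoImplicit false
set_option linter.unusedSectionVars false
set_option linter.unusedVariables false

namespace Cfsg.Agent.Lib.Helper8Ree22

open Cfsg.Lie Cfsg.Agent.Lib.Helper22ChevBasic Cfsg.Agent.Lib.Helper8Ree2
  Cfsg.Agent.Lib.Helper8Ree5
  Cfsg.Agent.Lib.Helper8Ree6 Cfsg.Agent.Lib.Helper8Ree7 Cfsg.Agent.Lib.Helper8Ree8 Cfsg.Agent.Lib.Helper8Ree9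
  Cfsg.Agent.Lib.Helper8Ree10 Cfsg.Agent.Lib.Helper8Ree11 Cfsg.Agent.Lib.Helper8Ree12 Cfsg.Agent.Lib.Helper8Ree14
  Cfsg.Agent.Lib.Helper8Ree15 Cfsg.Agent.Lib.Helper8Ree16 Cfsg.Agent.Lib.Helper8Ree17 Cfsg.Agent.Lib.Helper8Ree18
  Cfsg.Agent.Lib.Helper8Ree19 Cfsg.Agent.Lib.Helper8Ree20 Cfsg.Agent.Lib.Helper8Ree21
  Cfsg.Agent.Lib.Helper8Rank1 Cfsg.Agent.Lib.Helper8Lin Cfsg.Agent.Lib.Helper8Lin2 Cfsg.Agent.Lib.Helper8Cnt

/-- `q² - q + 1` -/
abbrev Ph (m : ℕ) : ℕ := (3 ^ (2 * m + 1)) ^ 2 - 3 ^ (2 * m + 1) + 1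

variable {K : Type*} [Field K] [Fintype K] [CharP K 3]

/-- the "tori" of order dividing `q² - q + 1` -/
def IsTor (m : ℕ) (A : Subgroup (GG K m)) : Prop :=
  ∃ (p : ℕ) (x : GG K m), p.Prime ∧ p ∣ Ph m ∧ orderOf x = p ∧ A = Subgroup.centralizer {x}

section main

variable {m : ℕ} (hK : Fintype.card K = 3 ^ (2 * m + 1))
include hK

theorem tor_cyclic (hm : 1 ≤ m) {A : Subgroup (GG K m)} (hA : IsTor m A) : IsCyclic A := by
  obtain ⟨p, x, hp, hpq, hx, rfl⟩ := hA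
  exact isCyclic_centP hK hm hp hpq hx

theorem tor_card (hm : 1 ≤ m) {A : Subgroup (GG K m)} (hA : IsTor m A) : Nat.card A ∣ Ph m := by
  obtain ⟨p, x, hp, hpq, hx, rfl⟩ := hA
  exact card_centP hK hm hp hpq hx

theorem tor_comm (hm : 1 ≤ m) {A : Subgroup (GG K m)} (hA : IsTor m A) {a b : GG K m} (ha : a ∈ A) (hb : b ∈ A) :
    a * b = b * a := Cfsg.Agent.Lib.Helper29Basic.comm_of_cyclic (tor_cyclic hK hm hA) ha hb

theorem tor_cent (hm : 1 ≤ m) {A : Subgroup (GG K m)} (hA : IsTor m A) {z : GG K m} (hz : z ∈ A) (hz1 : z ≠ 1) :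
    Subgroup.centralizer {z} = A := by
  have hcomm := fun a b (ha : a ∈ A) (hb : b ∈ A) => tor_comm hK hm hA ha hb
  have hcard := tor_card hK hm hA
  obtain ⟨p, x, hp, hpq, hx, rfl⟩ := hA
  apply le_antisymm
  · have hd1 : orderOf z ≠ 1 := fun h => hz1 (orderOf_eq_one_iff.1 h)
    set r := (orderOf z).minFac with hr
    have hrp : r.Prime := Nat.minFac_prime hd1
    have hrd : r ∣ orderOf z := Nat.minFac_dvd _
    have hzc : orderOf z ∣ Nat.card ↥(Subgroup.centralizer {x}) := by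
      have := orderOf_dvd_natCard (⟨z, hz⟩ : ↥(Subgroup.centralizer {x}))
      rwa [Subgroup.orderOf_mk] at this
    have hrq : r ∣ Ph m := hrd.trans (hzc.trans hcard)
    have ho : orderOf (z ^ (orderOf z / r)) = r := orderOf_pow_orderOf_div (orderOf_pos z).ne' hrd
    have hcyc := isCyclic_centP hK hm hrp hrq ho
    intro c hc
    have hc' : c ∈ Subgroup.centralizer {z ^ (orderOf z / r)} := by
      rw [Subgroup.mem_centralizer_singleton_iff] at hc ⊢
      exact ((show Commute c z from hc).pow_right _).eq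
    have hx' : x ∈ Subgroup.centralizer {z ^ (orderOf z / r)} := by
      rw [Subgroup.mem_centralizer_singleton_iff]
      have := Subgroup.mem_centralizer_singleton_iff.1 hz
      exact ((show Commute x z from this.symm).pow_right _).eq
    rw [Subgroup.mem_centralizer_singleton_iff]
    exact Cfsg.Agent.Lib.Helper29Basic.comm_of_cyclic hcyc hc' hx'
  · intro c hc
    rw [Subgroup.mem_centralizer_singleton_iff]
    exact hcomm c z hc hz

theorem conj_pow_q {p : ℕ} (hp : p.Prime) (hpq : p ∣ Ph m) {x n : GG K m} (hx : orderOf x = p)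
    (hn : n ∈ Subgroup.normalizer ((Subgroup.zpowers x : Subgroup (GG K m)) : Set (GG K m))) :
    ∃ j : ℕ, n * x * n⁻¹ = x ^ ((3 ^ (2 * m + 1)) ^ j) := by
  have : Fact p.Prime := ⟨hp⟩
  have hq := q_pos hK
  have hq1 : 1 ≤ 3 ^ (2 * m + 1) := by omega
  have ho : orderOf ((Fintype.card K : ℕ) : ZMod p) = 6 := by
    rw [hK]; exact order_six hq1 (three_dvd_q hK) hpq
  have hpF : (p : K) ≠ 0 := by
    intro h
    rw [CharP.cast_eq_zero_iff K 3 p] at h
    exact p_ne_three hq1 (three_dvd_q hK) hpq ((Nat.prime_dvd_prime_iff_eq Nat.prime_three hp).1 h).symm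
  have hxp : rho hK x ^ p = 1 := by
    rw [← map_pow, ← hx, pow_orderOf_eq_one, map_one]
  have hx1 : rho hK x ≠ 1 := by
    intro h
    have h1 : x = 1 := rho_inj hK (h.trans (map_one _).symm)
    rw [h1, orderOf_one] at hx
    exact hp.one_lt.ne hx
  have h1 : n * x * n⁻¹ ∈ Subgroup.zpowers x :=
    (Subgroup.mem_normalizer_iff.1 hn x).1 (Subgroup.mem_zpowers x)
  have h2 : n⁻¹ * x * n ∈ Subgroup.zpowers x := by
    have := (Subgroup.mem_normalizer_iff.1 (Subgroup.inv_mem _ hn) x).1 (Subgroup.mem_zpowers x)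
    rwa [inv_inv] at this
  obtain ⟨k, hk⟩ := (mem_powers_iff_mem_zpowers).2 h1
  obtain ⟨k', hk'⟩ := (mem_powers_iff_mem_zpowers).2 h2
  let M : (Module.End K (J → K))ˣ := Units.map (rho hK) (toUnits n)
  have hM : (M : Module.End K (J → K)) = rho hK n := rfl
  have hM' : ((M⁻¹ : (Module.End K (J → K))ˣ) : Module.End K (J → K)) = rho hK n⁻¹ := rfl
  obtain ⟨j, hj⟩ := galois (e := 6) (p := p) (by norm_num) ho hpF (rho hK x) hxp hx1 finrank_J M (k := k) (k' := k')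
    (by rw [hM, hM', ← map_mul, ← map_mul, ← map_pow]; congr 1; exact hk.symm)
    (by rw [hM, hM', ← map_mul, ← map_mul, ← map_pow]; congr 1; exact hk'.symm)
  refine ⟨j, ?_⟩
  rw [← map_pow, ← map_pow, hK] at hj
  rw [← rho_inj hK hj]
  exact hk.symm

theorem pow6_comm {p : ℕ} (hp : p.Prime) (hpq : p ∣ Ph m) {x n : GG K m} (hx : orderOf x = p)
    (hn : n ∈ Subgroup.normalizer ((Subgroup.zpowers x : Subgroup (GG K m)) : Set (GG K m))) :
    n ^ 6 * x = x * n ^ 6 := by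
  have : Fact p.Prime := ⟨hp⟩
  have hq := q_pos hK
  have hq1 : 1 ≤ 3 ^ (2 * m + 1) := by omega
  obtain ⟨j, hj⟩ := conj_pow_q hK hp hpq hx hn
  have ho := order_six hq1 (three_dvd_q hK) hpq
  have h1 : ((3 ^ (2 * m + 1)) ^ j) ^ 6 ≡ 1 [MOD orderOf x] := by
    rw [hx, ← ZMod.natCast_eq_natCast_iff]
    have h2 : (((3 ^ (2 * m + 1) : ℕ) : ZMod p)) ^ 6 = 1 := by rw [← ho]; exact pow_orderOf_eq_one _
    rw [Nat.cast_pow, Nat.cast_pow, ← pow_mul, mul_comm j 6, pow_mul, h2, one_pow, Nat.cast_one]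
  generalize (3 ^ (2 * m + 1)) ^ j = Q at hj h1
  have hit : ∀ i : ℕ, n ^ i * x * (n ^ i)⁻¹ = x ^ (Q ^ i) := by
    intro i
    induction i with
    | zero => simp
    | succ i ih =>
      have e : n ^ (i + 1) * x * (n ^ (i + 1))⁻¹ = n * (n ^ i * x * (n ^ i)⁻¹) * n⁻¹ := by
        rw [pow_succ']; group
      rw [e, ih, ← conj_pow, hj, ← pow_mul, pow_succ']
  have h6 := hit 6
  rw [pow_eq_pow_iff_modEq.2 h1, pow_one] at h6
  exact mul_inv_eq_iff_eq_mul.1 h6

theorem tor_normalizer (hm : 1 ≤ m) {p : ℕ} (hp : p.Prime) (hpq : p ∣ Ph m) {x : GG K m} (hx : orderOf x = p) :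
    Subgroup.normalizer ((Subgroup.centralizer {x} : Subgroup (GG K m)) : Set (GG K m)) =
      Subgroup.normalizer ((Subgroup.zpowers x : Subgroup (GG K m)) : Set (GG K m)) := by
  have hcyc := isCyclic_centP hK hm hp hpq hx
  have hxA : x ∈ Subgroup.centralizer {x} := Subgroup.mem_centralizer_singleton_iff.2 rfl
  apply le_antisymm
  · intro g hg
    apply Subgroup.mem_normalizer_fintype
    intro z hz
    have h1 : g * x * g⁻¹ ∈ Subgroup.centralizer {x} := (Subgroup.mem_normalizer_iff.1 hg x).1 hxA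
    have ho : orderOf (g * x * g⁻¹) = p := by
      have : g * x * g⁻¹ = MulAut.conj g x := rfl
      rw [this, MulEquiv.orderOf_eq, hx]
    have heq : Subgroup.zpowers (g * x * g⁻¹) = Subgroup.zpowers x := by
      apply Cfsg.Agent.Lib.Helper29Basic.eq_of_card_eq_of_le_cyclic hcyc (Subgroup.zpowers_le.2 h1)
        (Subgroup.zpowers_le.2 hxA)
      rw [Nat.card_zpowers, Nat.card_zpowers, ho, hx]
    obtain ⟨j, rfl⟩ := Subgroup.mem_zpowers_iff.1 hz
    show g * x ^ j * g⁻¹ ∈ Subgroup.zpowers x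
    rw [← conj_zpow, ← heq]
    exact Subgroup.zpow_mem _ (Subgroup.mem_zpowers _) j
  · intro g hg
    apply Subgroup.mem_normalizer_fintype
    intro a ha
    have ha' : a * x = x * a := Subgroup.mem_centralizer_singleton_iff.1 ha
    show g * a * g⁻¹ ∈ Subgroup.centralizer {x}
    rw [Subgroup.mem_centralizer_singleton_iff]
    have h2 : g⁻¹ * x * g ∈ Subgroup.zpowers x := by
      have := (Subgroup.mem_normalizer_iff.1 (Subgroup.inv_mem _ hg) x).1 (Subgroup.mem_zpowers x)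
      rwa [inv_inv] at this
    obtain ⟨j, hj⟩ := Subgroup.mem_zpowers_iff.1 h2
    have h3 : a * (g⁻¹ * x * g) = (g⁻¹ * x * g) * a := by
      rw [← hj]; exact ((show Commute a x from ha').zpow_right j).eq
    calc g * a * g⁻¹ * x = g * (a * (g⁻¹ * x * g)) * g⁻¹ := by group
      _ = g * ((g⁻¹ * x * g) * a) * g⁻¹ := by rw [h3]
      _ = _ := by group

theorem tor_norm (hm : 1 ≤ m) {A : Subgroup (GG K m)} (hA : IsTor m A) :
    ∃ w, w ∣ 6 ∧ Nat.card (Subgroup.normalizer (A : Set (GG K m))) = Nat.card A * w := by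
  obtain ⟨p, x, hp, hpq, hx, rfl⟩ := hA
  have : Fact p.Prime := ⟨hp⟩
  have h1 := relIndex_dvd_six x hx (fun n hn => pow6_comm hK hp hpq hx hn)
  refine ⟨_, h1, ?_⟩
  rw [tor_normalizer hK hm hp hpq hx, cent_zpowers]
  have hle : Subgroup.centralizer {x} ≤ Subgroup.normalizer ((Subgroup.zpowers x : Subgroup (GG K m)) : Set (GG K m)) := by
    rw [← cent_zpowers]; exact Subgroup.centralizer_le_normalizer _
  have h5 := Subgroup.relIndex_mul_relIndex ⊥ _ _ bot_le hle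
  rw [Subgroup.relIndex_bot_left, Subgroup.relIndex_bot_left] at h5
  exact h5.symm

/-- nonidentity elements -/
def ns (A : Subgroup (GG K m)) : Set (GG K m) := {z | z ∈ A ∧ z ≠ 1}

omit hK [CharP K 3] in
theorem ncard_ns (A : Subgroup (GG K m)) : (ns A).ncard = Nat.card A - 1 := by
  have h1 : ns A = (A : Set (GG K m)) \ {1} := by
    ext s; simp [ns]
  rw [h1, Set.ncard_sdiff (by simp), Set.ncard_singleton, ← Nat.card_coe_set_eq]
  rfl

theorem tor_count (hm : 1 ≤ m) {A : Subgroup (GG K m)} (hA : IsTor m A) :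
    (cu (ns A)).ncard = (Subgroup.normalizer (A : Set (GG K m))).index * (Nat.card A - 1) := by
  rw [← ncard_ns]
  apply card_cu
  · rintro n hn z ⟨hz, hz1⟩
    refine ⟨(Subgroup.mem_normalizer_iff.1 hn z).1 hz, ?_⟩
    intro h
    apply hz1
    have : z = n⁻¹ * (n * z * n⁻¹) * n := by group
    rw [this, h]; group
  · rintro g z ⟨hz, hz1⟩ ⟨hz', hz1'⟩
    have h1 := tor_cent hK hm hA hz hz1
    have h2 := tor_cent hK hm hA hz' hz1'
    rw [cent_conj, h1] at h2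
    apply Subgroup.mem_normalizer_fintype
    intro a ha
    show g * a * g⁻¹ ∈ A
    rw [← h2, mem_cj]
    have : g⁻¹ * (g * a * g⁻¹) * g = a := by group
    rw [this]; exact ha

theorem tor_conj {A : Subgroup (GG K m)} (hA : IsTor m A) (g : GG K m) : IsTor m (cj g A) := by
  obtain ⟨p, x, hp, hpq, hx, rfl⟩ := hA
  refine ⟨p, g * x * g⁻¹, hp, hpq, ?_, (cent_conj g x).symm⟩
  have : g * x * g⁻¹ = MulAut.conj g x := rfl
  rw [this, MulEquiv.orderOf_eq, hx]

/-- two tori whose conjugates meet are conjugate -/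
theorem tor_meet (hm : 1 ≤ m) {A B : Subgroup (GG K m)} (hA : IsTor m A) (hB : IsTor m B) {z : GG K m}
    (h1 : z ∈ cu (ns A)) (h2 : z ∈ cu (ns B)) : ∃ g, B = cj g A := by
  obtain ⟨g, y, ⟨hy, hy1⟩, rfl⟩ := h1
  obtain ⟨g', y', ⟨hy', hy1'⟩, e⟩ := h2
  have e1 := tor_cent hK hm hA hy hy1
  have e2 := tor_cent hK hm hB hy' hy1'
  have e3 : Subgroup.centralizer {g * y * g⁻¹} = Subgroup.centralizer {g' * y' * g'⁻¹} := by rw [e]
  rw [cent_conj, cent_conj, e1, e2] at e3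
  refine ⟨g'⁻¹ * g, ?_⟩
  ext c
  rw [mem_cj]
  have h3 : g' * c * g'⁻¹ ∈ cj g' B ↔ c ∈ B := by
    rw [mem_cj]
    have : g'⁻¹ * (g' * c * g'⁻¹) * g' = c := by group
    rw [this]
  rw [← h3, ← e3, mem_cj]
  have : g⁻¹ * (g' * c * g'⁻¹) * g = (g'⁻¹ * g)⁻¹ * c * (g'⁻¹ * g) := by group
  rw [this]

omit hK [CharP K 3] in
theorem cu_cj (A : Subgroup (GG K m)) (g : GG K m) : cu (ns (cj g A)) = cu (ns A) := by
  ext z
  constructor
  · rintro ⟨h, y, ⟨hy, hy1⟩, rfl⟩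
    refine ⟨h * g, g⁻¹ * y * g, ⟨mem_cj.1 hy, ?_⟩, by group⟩
    intro h0
    apply hy1
    have : y = g * (g⁻¹ * y * g) * g⁻¹ := by group
    rw [this, h0]; group
  · rintro ⟨h, y, ⟨hy, hy1⟩, rfl⟩
    refine ⟨h * g⁻¹, g * y * g⁻¹, ⟨?_, ?_⟩, by group⟩
    · rw [mem_cj]
      have : g⁻¹ * (g * y * g⁻¹) * g = y := by group
      rw [this]; exact hy
    · intro h0
      apply hy1
      have : y = g⁻¹ * (g * y * g⁻¹) * g := by group
      rw [this, h0]; group

end main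

end Cfsg.Agent.Lib.Helper8Ree22
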