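import Cfsg.Agent.Lib.Helper8Ree22
import Cfsg.Agent.Lib.Helper8Cnt2

set_option autoImplicit false
set_option linter.unusedSectionVars false
set_option linter.unusedVariables false

namespace Cfsg.Agent.Lib.Helper8Ree23

open Cfsg.Lie Cfsg.Agent.Lib.Helper22ChevBasic Cfsg.Agent.Lib.Helper8Ree2
  Cfsg.Agent.Lib.Helper8Ree5
  Cfsg.Agent.Lib.Helper8Ree6 Cfsg.Agent.Lib.Helper8Ree7 Cfsg.Agent.Lib.Helper8Ree8 Cfsg.Agent.Lib.Helper8Ree9
  Cfsg.Agent.Lib.Helper8Ree10 Cfsg.Agent.Lib.Helper8Ree11 Cfsg.Agent.Lib.Helper8Ree12 Cfsg.Agent.Lib.Helper8Ree14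
  Cfsg.Agent.Lib.Helper8Ree15 Cfsg.Agent.Lib.Helper8Ree16 Cfsg.Agent.Lib.Helper8Ree17 Cfsg.Agent.Lib.Helper8Ree18
  Cfsg.Agent.Lib.Helper8Ree19 Cfsg.Agent.Lib.Helper8Ree20 Cfsg.Agent.Lib.Helper8Ree21 Cfsg.Agent.Lib.Helper8Ree22
  Cfsg.Agent.Lib.Helper8Rank1 Cfsg.Agent.Lib.Helper8Cnt Cfsg.Agent.Lib.Helper8Cnt2

variable {K : Type*} [Field K] [Fintype K] [CharP K 3]

section main

variable {m : ℕ} (hK : Fintype.card K = 3 ^ (2 * m + 1))
include hK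

/-! ### the unipotent class -/

theorem ti_UU {g z : GG K m} (hz : z ∈ UU K m) (hz1 : z ≠ 1) (h : g * z * g⁻¹ ∈ UU K m) : g ∈ BB K m := by
  by_contra hg
  have hg' : g⁻¹ ∉ BB K m := fun h' => hg (by simpa using (BB K m).inv_mem h')
  exact hz1 ((R hK).ti hg' hz (by rwa [inv_inv]))

theorem count_UU (P : GG K m → Prop) (hP : ∀ g z, P z → P (g * z * g⁻¹)) (hP1 : ∀ z, P z → z ≠ 1) :
    (cu {z | z ∈ UU K m ∧ P z}).ncard = ((3 ^ (2 * m + 1)) ^ 3 + 1) * {z | z ∈ UU K m ∧ P z}.ncard := by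
  rw [← index_BB hK]
  apply card_cu
  · rintro n hn z ⟨hz, hz1⟩
    exact ⟨(R hK).bU hn hz, hP _ _ hz1⟩
  · rintro g z ⟨hz, hz1⟩ ⟨hz', hz1'⟩
    exact ti_UU hK hz (hP1 z hz1) hz'

theorem conj_into_UU {z : GG K m} (k : ℕ) (hz : z ^ (3 ^ k) = 1) : ∃ g, g⁻¹ * z * g ∈ UU K m := by
  have : Fact (Nat.Prime 3) := ⟨Nat.prime_three⟩
  apply conj_mem_of_not_dvd (UU K m) z k hz
  rw [index_UU hK]
  intro h
  have h3 := three_dvd_q hK
  have hq := q_pos hK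
  generalize 3 ^ (2 * m + 1) = q at *
  obtain ⟨s, rfl⟩ := h3
  rcases (Nat.Prime.dvd_mul Nat.prime_three).1 h with h | h
  · omega
  · have : (3 * s) ^ 3 + 1 = 3 * (9 * s ^ 3) + 1 := by ring
    omega

theorem uG_cube (t u v : K) : uG m t u v ^ 3 = uG m 0 0 (-(t ^ 2 * (t ^ 3 ^ m) ^ 3)) :=
  Subtype.ext (wU_cube hK t u v)

theorem uG0_cube (u v : K) : uG m 0 u v ^ 3 = 1 := by
  rw [uG_cube hK]
  have : (-((0 : K) ^ 2 * ((0 : K) ^ 3 ^ m) ^ 3)) = 0 := by simp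
  rw [this, uG_zero]

theorem uG_pow9 (t u v : K) : uG m t u v ^ 9 = 1 := by
  have : (9 : ℕ) = 3 * 3 := by norm_num
  rw [this, pow_mul, uG_cube hK, uG0_cube hK]

theorem uG_eq_one {t u v : K} (h : uG m t u v = 1) : t = 0 ∧ u = 0 ∧ v = 0 := by
  rw [← uG_zero] at h
  exact uG_inj hK h

theorem order_three_iff (t u v : K) : orderOf (uG m t u v) = 3 ↔ t = 0 ∧ (u, v) ≠ (0, 0) := by
  rw [← order_three hK t u v, ← Subgroup.orderOf_coe]
  rfl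

theorem order_nine_iff (t u v : K) : orderOf (uG m t u v) = 9 ↔ t ≠ 0 := by
  have : Fact (Nat.Prime 3) := ⟨Nat.prime_three⟩
  constructor
  · intro h ht
    subst ht
    have h1 := orderOf_dvd_of_pow_eq_one (uG0_cube hK u v)
    rw [h] at h1
    omega
  · intro ht
    have h1 : ¬ uG m t u v ^ 3 ^ 1 = 1 := by
      rw [pow_one, uG_cube hK]
      intro h
      have := (uG_eq_one hK h).2.2
      exact (neg_ne_zero.2 (mul_ne_zero (pow_ne_zero _ ht) (pow_ne_zero _ (pow_ne_zero _ ht)))) this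
    have h2 : uG m t u v ^ 3 ^ (1 + 1) = 1 := by
      have : (3 : ℕ) ^ (1 + 1) = 9 := by norm_num
      rw [this, uG_pow9 hK]
    have := orderOf_eq_prime_pow h1 h2
    rw [this]; norm_num

theorem uG_injective : Function.Injective (fun p : K × K × K => uG m p.1 p.2.1 p.2.2) := by
  rintro ⟨a, b, c⟩ ⟨a', b', c'⟩ h
  obtain ⟨rfl, rfl, rfl⟩ := uG_inj hK h
  rfl

theorem ncard_three : {z | z ∈ UU K m ∧ orderOf z = 3}.ncard = (3 ^ (2 * m + 1)) ^ 2 - 1 := by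
  have e : {z | z ∈ UU K m ∧ orderOf z = 3} =
      (fun p : K × K × K => uG m p.1 p.2.1 p.2.2) '' (({0} : Set K) ×ˢ ({((0 : K), (0 : K))}ᶜ : Set (K × K))) := by
    ext z
    constructor
    · rintro ⟨hz, ho⟩
      obtain ⟨t, u, v, rfl⟩ := (mem_UU hK).1 hz
      obtain ⟨rfl, h⟩ := (order_three_iff hK _ _ _).1 ho
      exact ⟨(0, u, v), ⟨rfl, h⟩, rfl⟩
    · rintro ⟨⟨t, u, v⟩, ⟨h1, h2⟩, rfl⟩
      exact ⟨uG_mem hK _ _ _, (order_three_iff hK _ _ _).2 ⟨h1, h2⟩⟩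
  rw [e, Set.ncard_image_of_injective _ (uG_injective hK), Set.ncard_prod, Set.ncard_singleton, Set.ncard_compl,
    Set.ncard_singleton, Nat.card_prod, Nat.card_eq_fintype_card, hK]
  ring_nf

theorem ncard_nine : {z | z ∈ UU K m ∧ orderOf z = 9}.ncard = (3 ^ (2 * m + 1) - 1) * (3 ^ (2 * m + 1)) ^ 2 := by
  have e : {z | z ∈ UU K m ∧ orderOf z = 9} =
      (fun p : K × K × K => uG m p.1 p.2.1 p.2.2) '' (({0}ᶜ : Set K) ×ˢ (Set.univ : Set (K × K))) := by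
    ext z
    constructor
    · rintro ⟨hz, ho⟩
      obtain ⟨t, u, v, rfl⟩ := (mem_UU hK).1 hz
      have h := (order_nine_iff hK _ _ _).1 ho
      exact ⟨(t, u, v), ⟨h, trivial⟩, rfl⟩
    · rintro ⟨⟨t, u, v⟩, ⟨h1, h2⟩, rfl⟩
      exact ⟨uG_mem hK _ _ _, (order_nine_iff hK _ _ _).2 h1⟩
  rw [e, Set.ncard_image_of_injective _ (uG_injective hK), Set.ncard_prod, Set.ncard_univ, Set.ncard_compl,
    Set.ncard_singleton, Nat.card_prod, Nat.card_eq_fintype_card, hK]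
  ring_nf

/-! ### involutions -/

theorem count_invol : (cu {iG hK}).ncard = (3 ^ (2 * m + 1)) ^ 2 * Ph m := by
  rw [← index_CC hK, ← mul_one (CC hK).index, ← Set.ncard_singleton (iG hK)]
  apply card_cu
  · rintro n hn z rfl
    have := Subgroup.mem_centralizer_singleton_iff.1 hn
    show n * iG hK * n⁻¹ = iG hK
    rw [this]; group
  · rintro g z rfl h
    have h' : g * iG hK * g⁻¹ = iG hK := h
    rw [Subgroup.mem_centralizer_singleton_iff]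
    exact mul_inv_eq_iff_eq_mul.1 h'

theorem cu_invol (hm : 1 ≤ m) : cu {iG hK} = {z : GG K m | z ≠ 1 ∧ z * z = 1} := by
  ext z
  constructor
  · rintro ⟨g, y, rfl, rfl⟩
    refine ⟨conj_ne_one (iG_ne_one hK), ?_⟩
    calc g * iG hK * g⁻¹ * (g * iG hK * g⁻¹) = g * (iG hK * iG hK) * g⁻¹ := by group
      _ = 1 := by rw [iG_sq]; group
  · rintro ⟨h1, h2⟩
    obtain ⟨x, hx⟩ := invol_conj hK hm h1 h2
    exact ⟨x, _, rfl, hx⟩

end main

end Cfsg.Agent.Lib.Helper8Ree23
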