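import Cfsg.Agent.Lib.Helper8Ree23

set_option autoImplicit false
set_option linter.unusedSectionVars false
set_option linter.unusedVariables false

namespace Cfsg.Agent.Lib.Helper8Ree24

open Cfsg.Lie Cfsg.Agent.Lib.Helper22ChevBasic Cfsg.Agent.Lib.Helper8Ree2
  Cfsg.Agent.Lib.Helper8Ree5
  Cfsg.Agent.Lib.Helper8Ree6 Cfsg.Agent.Lib.Helper8Ree7 Cfsg.Agent.Lib.Helper8Ree8 Cfsg.Agent.Lib.Helper8Ree9
  Cfsg.Agent.Lib.Helper8Ree10 Cfsg.Agent.Lib.Helper8Ree11 Cfsg.Agent.Lib.Helper8Ree12 Cfsg.Agent.Lib.Helper8Ree14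
  Cfsg.Agent.Lib.Helper8Ree15 Cfsg.Agent.Lib.Helper8Ree16 Cfsg.Agent.Lib.Helper8Ree17 Cfsg.Agent.Lib.Helper8Ree18
  Cfsg.Agent.Lib.Helper8Ree19 Cfsg.Agent.Lib.Helper8Ree20 Cfsg.Agent.Lib.Helper8Ree21 Cfsg.Agent.Lib.Helper8Ree22
  Cfsg.Agent.Lib.Helper8Ree23
  Cfsg.Agent.Lib.Helper8Rank1 Cfsg.Agent.Lib.Helper8Cnt Cfsg.Agent.Lib.Helper8Cnt2

variable {K : Type*} [Field K] [Fintype K] [CharP K 3]

section main

variable {m : ℕ} (hK : Fintype.card K = 3 ^ (2 * m + 1))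
include hK

/-! ### elements of order six -/

theorem UU_inf_CC {z : GG K m} (hz : z ∈ UU K m) (hc : z ∈ CC hK) : ∃ a, z = uG m 0 a 0 := by
  obtain ⟨t, u, v, rfl⟩ := (mem_UU hK).1 hz
  have h := Subgroup.mem_centralizer_singleton_iff.1 hc
  rw [iG_uG] at h
  obtain ⟨h1, -, h3⟩ := uG_inj hK (mul_right_cancel h)
  rw [eq_zero_of_neg_eq h1.symm, eq_zero_of_neg_eq h3.symm]
  exact ⟨u, rfl⟩

/-- representatives of the elements of order six -/
def M4 : Set (GG K m) := {z | ∃ a : K, a ≠ 0 ∧ z = iG hK * uG m 0 a 0}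

theorem iG_comm_u (a : K) : iG hK * uG m 0 a 0 = uG m 0 a 0 * iG hK := by
  rw [iG_uG]; simp

theorem M4_cube (a : K) : (iG hK * uG m 0 a 0) ^ 3 = iG hK := by
  rw [(show Commute (iG hK) (uG m 0 a 0) from iG_comm_u hK a).mul_pow, uG0_cube hK, mul_one, pow_succ, pow_two, iG_sq,
    one_mul]

theorem M4_pow4 (a : K) : (iG hK * uG m 0 a 0) ^ 4 = uG m 0 a 0 := by
  rw [(show Commute (iG hK) (uG m 0 a 0) from iG_comm_u hK a).mul_pow, pow_succ (uG m 0 a 0) 3, uG0_cube hK, one_mul]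
  have : iG hK ^ 4 = (iG hK * iG hK) * (iG hK * iG hK) := by
    rw [show (4 : ℕ) = 2 + 2 from rfl, pow_add, pow_two]
  rw [this, iG_sq, one_mul, one_mul]

theorem ncard_M4 : (M4 hK).ncard = 3 ^ (2 * m + 1) - 1 := by
  have e : M4 hK = (fun a : K => iG hK * uG m 0 a 0) '' ({0}ᶜ : Set K) := by
    ext z
    constructor
    · rintro ⟨a, ha, rfl⟩; exact ⟨a, ha, rfl⟩
    · rintro ⟨a, ha, rfl⟩; exact ⟨a, ha, rfl⟩
  have hinj : Function.Injective (fun a : K => iG hK * uG m 0 a 0) := by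
    intro a b h
    exact (uG_inj hK (mul_left_cancel h)).2.1
  rw [e, Set.ncard_image_of_injective _ hinj, Set.ncard_compl, Set.ncard_singleton, Nat.card_eq_fintype_card, hK]

theorem card_N4 : Nat.card ↥(CC hK ⊓ BB K m) = 3 ^ (2 * m + 1) * (3 ^ (2 * m + 1) - 1) := by
  classical
  let f : K × Kˣ → ↥(CC hK ⊓ BB K m) := fun p => ⟨uG m 0 p.1 0 * hG hK p.2,
    (CC hK).mul_mem (uG_mem_CC hK _) (hG_mem_CC hK _),
    (BB K m).mul_mem ((R hK).U_le_B (uG_mem hK _ _ _)) ((R hK).H_le_B (hG_mem hK _))⟩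
  have hf : Function.Bijective f := by
    constructor
    · rintro ⟨a, μ⟩ ⟨b, ν⟩ h
      have h1 : uG m 0 a 0 * hG hK μ = uG m 0 b 0 * hG hK ν := congrArg Subtype.val h
      obtain ⟨h2, h3⟩ := (R hK).uh_unique (uG_mem hK _ _ _) (uG_mem hK _ _ _) (hG_mem hK _) (hG_mem hK _) h1
      rw [(uG_inj hK h2).2.1, hG_inj hK h3]
    · rintro ⟨g, hg1, hg2⟩
      rcases mem_CC hK hg1 with ⟨a, μ, rfl⟩ | ⟨a, μ, b, rfl⟩
      · exact ⟨(a, μ), rfl⟩
      · exact absurd hg2 ((R hK).big_not_mem_B (uG_mem hK _ _ _) (hG_mem hK _) (uG_mem hK _ _ _))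
  rw [← Nat.card_congr (Equiv.ofBijective f hf), Nat.card_prod, Nat.card_eq_fintype_card, Nat.card_eq_fintype_card,
    Fintype.card_units, hK]

theorem index_N4 : (CC hK ⊓ BB K m).index = (3 ^ (2 * m + 1)) ^ 2 * ((3 ^ (2 * m + 1)) ^ 3 + 1) := by
  have h1 := Subgroup.card_mul_index (CC hK ⊓ BB K m)
  rw [card_N4 hK, card_G1 hK] at h1
  have hq := q_pos hK
  generalize (CC hK ⊓ BB K m).index = I at *
  generalize 3 ^ (2 * m + 1) = q at h1 hq ⊢
  have hpos : 0 < q * (q - 1) := Nat.mul_pos (by omega) (by omega)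
  apply Nat.eq_of_mul_eq_mul_left hpos
  rw [h1]; ring

theorem count_M4 : (cu (M4 hK)).ncard = (3 ^ (2 * m + 1)) ^ 2 * ((3 ^ (2 * m + 1)) ^ 3 + 1) * (3 ^ (2 * m + 1) - 1) := by
  rw [← index_N4 hK, ← ncard_M4 hK]
  apply card_cu
  · rintro n ⟨hn1, hn2⟩ z ⟨a, ha, rfl⟩
    have h1 : n * uG m 0 a 0 * n⁻¹ ∈ UU K m := (R hK).bU hn2 (uG_mem hK _ _ _)
    have h2 : n * uG m 0 a 0 * n⁻¹ ∈ CC hK := (CC hK).mul_mem ((CC hK).mul_mem hn1 (uG_mem_CC hK _)) ((CC hK).inv_mem hn1)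
    obtain ⟨b, hb⟩ := UU_inf_CC hK h1 h2
    refine ⟨b, ?_, ?_⟩
    · rintro rfl
      rw [uG_zero] at hb
      have h3 : uG m 0 a 0 ≠ 1 := fun h => ha (uG_eq_one hK h).2.1
      exact conj_ne_one h3 hb
    · rw [← hb]
      have := Subgroup.mem_centralizer_singleton_iff.1 hn1
      calc n * (iG hK * uG m 0 a 0) * n⁻¹ = (n * iG hK) * uG m 0 a 0 * n⁻¹ := by group
        _ = (iG hK * n) * uG m 0 a 0 * n⁻¹ := by rw [this]
        _ = _ := by group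
  · rintro g z ⟨a, ha, rfl⟩ ⟨b, hb, h⟩
    constructor
    · show g ∈ CC hK
      rw [Subgroup.mem_centralizer_singleton_iff]
      have h3 := congrArg (· ^ 3) h
      simp only [conj_pow, M4_cube hK] at h3
      exact mul_inv_eq_iff_eq_mul.1 h3
    · have h4 := congrArg (· ^ 4) h
      simp only [conj_pow, M4_pow4 hK] at h4
      have h3 : uG m 0 a 0 ≠ 1 := fun h => ha (uG_eq_one hK h).2.1
      exact ti_UU hK (uG_mem hK _ _ _) h3 (by rw [h4]; exact uG_mem hK _ _ _)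

theorem order_M4 {z : GG K m} (hz : z ∈ M4 hK) : orderOf z = 6 := by
  obtain ⟨a, ha, rfl⟩ := hz
  have h1 : orderOf (iG hK) = 2 := by
    rw [orderOf_eq_prime_iff]
    exact ⟨by rw [pow_two, iG_sq], iG_ne_one hK⟩
  have h2 : orderOf (uG m 0 a 0) = 3 := (order_three_iff hK _ _ _).2 ⟨rfl, by simpa using ha⟩
  rw [(show Commute (iG hK) (uG m 0 a 0) from iG_comm_u hK a).orderOf_mul_eq_mul_orderOf_of_coprime (by rw [h1, h2]; norm_num),
    h1, h2]

theorem card_V : Nat.card ↥((UU K m).subgroupOf (CC hK)) = 3 ^ (2 * m + 1) := by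
  let f : K → ↥((UU K m).subgroupOf (CC hK)) := fun a => ⟨⟨uG m 0 a 0, uG_mem_CC hK a⟩, uG_mem hK _ _ _⟩
  have hf : Function.Bijective f := by
    constructor
    · intro a b h
      have h1 : uG m 0 a 0 = uG m 0 b 0 := congrArg (fun x => x.1.1) h
      exact (uG_inj hK h1).2.1
    · rintro ⟨⟨g, hg1⟩, hg2⟩
      obtain ⟨a, rfl⟩ := UU_inf_CC hK hg2 hg1
      exact ⟨a, rfl⟩
  rw [← Nat.card_congr (Equiv.ofBijective f hf), Nat.card_eq_fintype_card, hK]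

theorem not_dvd_index_V : ¬ 3 ∣ ((UU K m).subgroupOf (CC hK)).index := by
  have h1 := Subgroup.card_mul_index ((UU K m).subgroupOf (CC hK))
  rw [card_V hK, card_CC hK] at h1
  have hq := q_pos hK
  have h3 := three_dvd_q hK
  generalize ((UU K m).subgroupOf (CC hK)).index = I at *
  generalize 3 ^ (2 * m + 1) = q at h1 hq h3 ⊢
  have h2 : I = (q - 1) * (q + 1) := by
    apply Nat.eq_of_mul_eq_mul_left (show 0 < q by omega)
    rw [h1]; ring
  rw [h2]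
  intro h
  rcases (Nat.Prime.dvd_mul Nat.prime_three).1 h with h | h <;> omega

/-- `{2,3}`-elements -/
theorem class_23 (hm : 1 ≤ m) {z : GG K m} (k : ℕ) (hz : z ^ (8 * 3 ^ k) = 1) :
    z ^ (3 ^ k) = 1 ∨ z ∈ cu {iG hK} ∨ z ∈ cu (M4 hK) := by
  have : Fact (Nat.Prime 3) := ⟨Nat.prime_three⟩
  have hQo : Odd (3 ^ k) := Odd.pow (by decide)
  obtain ⟨Q, hQ⟩ : ∃ Q, Q = 3 ^ k := ⟨_, rfl⟩
  rw [← hQ] at hz hQo ⊢
  by_cases ht1 : z ^ Q = 1
  · exact Or.inl ht1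
  right
  have ht2 : z ^ Q * z ^ Q = 1 := by
    apply two_elt hK 3
    rw [← pow_mul, mul_comm]; exact hz
  obtain ⟨x, hx⟩ := invol_conj hK hm ht1 ht2
  -- the `3`-part
  have hodd : ∃ s, Q + 1 = 2 * s := by
    obtain ⟨s, hs⟩ := hQo
    exact ⟨s + 1, by omega⟩
  obtain ⟨s, hs⟩ := hodd
  have hu : (z ^ (Q + 1)) ^ Q = 1 := by
    rw [hs, ← pow_mul, mul_comm 2 s, mul_assoc, mul_comm s, pow_mul, two_mul, pow_add, ht2, one_pow]
  have hz' : z = z ^ Q * z ^ (Q + 1) := by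
    rw [pow_succ, ← mul_assoc, ht2, one_mul]
  set u' := x⁻¹ * z ^ (Q + 1) * x with hu'
  have hu'C : u' ∈ CC hK := by
    rw [Subgroup.mem_centralizer_singleton_iff]
    have e1 : iG hK = x⁻¹ * z ^ Q * x := by rw [hx]; group
    rw [e1, hu']
    calc x⁻¹ * z ^ (Q + 1) * x * (x⁻¹ * z ^ Q * x) = x⁻¹ * (z ^ (Q + 1) * z ^ Q) * x := by group
      _ = x⁻¹ * (z ^ Q * z ^ (Q + 1)) * x := by rw [← pow_add, ← pow_add, add_comm]
      _ = _ := by group
  have hu'Q : u' ^ Q = 1 := by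
    have : u' = x⁻¹ * z ^ (Q + 1) * x⁻¹⁻¹ := by rw [inv_inv]
    rw [this, conj_pow, hu]; group
  -- conjugate into `V`
  obtain ⟨c, hc⟩ := conj_mem_of_not_dvd ((UU K m).subgroupOf (CC hK)) (⟨u', hu'C⟩ : ↥(CC hK)) k
    (by apply Subtype.ext; rw [← hQ]; exact hu'Q) (not_dvd_index_V hK)
  obtain ⟨c, hcC⟩ := c
  have hc1 : c⁻¹ * u' * c ∈ UU K m := Subgroup.mem_subgroupOf.1 hc
  have hc2 : c⁻¹ * u' * c ∈ CC hK := (CC hK).mul_mem ((CC hK).mul_mem ((CC hK).inv_mem hcC) hu'C) hcC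
  obtain ⟨a, ha⟩ := UU_inf_CC hK hc1 hc2
  have hcc := Subgroup.mem_centralizer_singleton_iff.1 hcC
  have key : z = (x * c) * (iG hK * uG m 0 a 0) * (x * c)⁻¹ := by
    rw [← ha, hu']
    calc z = z ^ Q * z ^ (Q + 1) := hz'
      _ = x * iG hK * x⁻¹ * z ^ (Q + 1) := by rw [hx]
      _ = x * (iG hK * c) * c⁻¹ * x⁻¹ * z ^ (Q + 1) := by group
      _ = x * (c * iG hK) * c⁻¹ * x⁻¹ * z ^ (Q + 1) := by rw [hcc]
      _ = _ := by group
  by_cases ha0 : a = 0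
  · left
    rw [ha0, uG_zero, mul_one] at key
    exact ⟨_, _, rfl, key⟩
  · right
    exact ⟨_, _, ⟨a, ha0, rfl⟩, key⟩

/-! ### the split torus -/

theorem exists_mu (hm : 1 ≤ m) : ∃ μ : Kˣ, μ ^ 2 ≠ 1 := by
  classical
  by_contra hcon
  push Not at hcon
  obtain ⟨g, hg⟩ := IsCyclic.exists_generator (α := Kˣ)
  have h1 := orderOf_eq_card_of_forall_mem_zpowers hg
  have h2 := orderOf_dvd_of_pow_eq_one (hcon g)
  rw [h1, Nat.card_eq_fintype_card, Fintype.card_units] at h2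
  have h3 := q_ge hK hm
  have := Nat.le_of_dvd (by norm_num) h2
  omega

theorem hG_comm (μ ν : Kˣ) : hG hK μ * hG hK ν = hG hK ν * hG hK μ := by
  rw [hG_mul, hG_mul, mul_comm]

theorem normalizer_HH (hm : 1 ≤ m) : Subgroup.normalizer ((HH K m : Subgroup (GG K m)) : Set (GG K m)) = NN K m := by
  obtain ⟨μ₀, hμ₀⟩ := exists_mu hK hm
  apply le_antisymm
  · intro g hg
    have hgx : g * hG hK μ₀ * g⁻¹ ∈ HH K m := (Subgroup.mem_normalizer_iff.1 hg _).1 (hG_mem hK _)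
    obtain ⟨ν, hν⟩ := (mem_HH hK).1 hgx
    have hgx' : g * hG hK μ₀ = hG hK ν * g := mul_inv_eq_iff_eq_mul.1 hν
    rcases (R hK).cases g with hb | ⟨u, hu, h, hh, u', hu', rfl⟩
    · obtain ⟨u, hu, h, hh, rfl⟩ := ((R hK).mem_B g).1 hb
      obtain ⟨κ, rfl⟩ := (mem_HH hK).1 hh
      have e1 : u * (hG hK κ * hG hK μ₀) = (hG hK ν * u * (hG hK ν)⁻¹) * (hG hK ν * hG hK κ) := by
        calc u * (hG hK κ * hG hK μ₀) = u * hG hK κ * hG hK μ₀ := by group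
          _ = hG hK ν * (u * hG hK κ) := hgx'
          _ = _ := by group
      obtain ⟨e2, e3⟩ := (R hK).uh_unique hu ((R hK).hU _ (hG_mem hK _) _ hu) ((HH K m).mul_mem (hG_mem hK _) (hG_mem hK _))
        ((HH K m).mul_mem (hG_mem hK _) (hG_mem hK _)) e1
      rw [hG_mul, hG_mul] at e3
      have e4 : μ₀ = ν := by
        have := hG_inj hK e3
        rw [mul_comm ν κ] at this
        exact mul_left_cancel this
      subst e4
      have e5 : u = 1 := comm_UU hK hμ₀ hu (mul_inv_eq_iff_eq_mul.1 e2.symm)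
      rw [e5, one_mul]
      exact (R hK).H_le_N (hG_mem hK _)
    · obtain ⟨κ, rfl⟩ := (mem_HH hK).1 hh
      have e1 : u * (hG hK κ * hG hK μ₀⁻¹) * nG m * ((hG hK μ₀)⁻¹ * u' * (hG hK μ₀)⁻¹⁻¹) =
          (hG hK ν * u * (hG hK ν)⁻¹) * (hG hK ν * hG hK κ) * nG m * u' := by
        calc u * (hG hK κ * hG hK μ₀⁻¹) * nG m * ((hG hK μ₀)⁻¹ * u' * (hG hK μ₀)⁻¹⁻¹)
            = u * hG hK κ * (hG hK μ₀⁻¹ * nG m) * (hG hK μ₀)⁻¹ * u' * hG hK μ₀ := by group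
          _ = u * hG hK κ * (nG m * hG hK μ₀) * (hG hK μ₀)⁻¹ * u' * hG hK μ₀ := by rw [nG_hG]
          _ = u * hG hK κ * nG m * u' * hG hK μ₀ := by group
          _ = hG hK ν * (u * hG hK κ * nG m * u') := hgx'
          _ = _ := by group
      obtain ⟨e2, e3, e4⟩ := (R hK).big_unique hu ((R hK).hU _ (hG_mem hK _) _ hu)
        ((HH K m).mul_mem (hG_mem hK _) (hG_mem hK _)) ((HH K m).mul_mem (hG_mem hK _) (hG_mem hK _))
        ((R hK).hU _ ((HH K m).inv_mem (hG_mem hK _)) _ hu') hu' e1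
      rw [hG_mul, hG_mul] at e3
      have e5 : μ₀⁻¹ = ν := by
        have := hG_inj hK e3
        rw [mul_comm ν κ] at this
        exact mul_left_cancel this
      subst e5
      have hμ₁ : (μ₀⁻¹) ^ 2 ≠ 1 := by
        rw [inv_pow]; exact fun h => hμ₀ (inv_eq_one.1 h)
      have e6 : u = 1 := comm_UU hK hμ₁ hu (mul_inv_eq_iff_eq_mul.1 e2.symm)
      have e7 : u' = 1 := by
        apply comm_UU hK hμ₁ hu'
        rw [← hG_inv]
        exact mul_inv_eq_iff_eq_mul.1 e4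
      rw [e6, e7, one_mul, mul_one]
      exact ((R hK).mem_N _).2 (Or.inr ⟨_, hG_mem hK _, rfl⟩)
  · intro g hg
    apply Subgroup.mem_normalizer_fintype
    intro a ha
    show g * a * g⁻¹ ∈ HH K m
    rcases ((R hK).mem_N g).1 hg with h | ⟨h, hh, rfl⟩
    · exact (HH K m).mul_mem ((HH K m).mul_mem h ha) ((HH K m).inv_mem h)
    · have : h * nG m * a * (h * nG m)⁻¹ = h * (nG m * a * (nG m)⁻¹) * h⁻¹ := by group
      rw [this]
      exact (HH K m).mul_mem ((HH K m).mul_mem hh ((R hK).nH a ha)) ((HH K m).inv_mem hh)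

theorem card_NN : Nat.card (NN K m) = 2 * (3 ^ (2 * m + 1) - 1) := by
  have hnH : nG m ∉ HH K m := fun h => (R hK).n_not_mem_B ((R hK).H_le_B h)
  obtain ⟨φ, hs, hk⟩ := exists_sign (NN K m) (HH K m) (nG m) (R hK).H_le_N (R hK).n_mem_N hnH
    (fun g hg => ((R hK).mem_N g).1 hg) (R hK).nH (R hK).nn
  have h1 := Subgroup.card_mul_index φ.ker
  rw [Subgroup.index_ker, MonoidHom.range_eq_top.2 hs, Subgroup.card_top, hk] at h1
  have h2 : Nat.card ↥((HH K m).subgroupOf (NN K m)) = Nat.card (HH K m) :=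
    Nat.card_congr (Subgroup.subgroupOfEquivOfLe (R hK).H_le_N).toEquiv
  have h3 : Nat.card (Multiplicative (ZMod 2)) = 2 := by
    rw [Nat.card_eq_fintype_card]; rfl
  rw [h2, h3, card_HH hK] at h1
  omega

/-- regular elements of the split torus -/
def M2 : Set (GG K m) := {z | z ∈ HH K m ∧ z * z ≠ 1}

theorem sq_conj {g z : GG K m} (h : z * z ≠ 1) : g * z * g⁻¹ * (g * z * g⁻¹) ≠ 1 := by
  have : g * z * g⁻¹ * (g * z * g⁻¹) = g * (z * z) * g⁻¹ := by group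
  rw [this]; exact conj_ne_one h

theorem cent_M2 {z : GG K m} (hz : z ∈ HH K m) (h2 : z * z ≠ 1) : Subgroup.centralizer {z} = HH K m := by
  obtain ⟨μ, rfl⟩ := (mem_HH hK).1 hz
  apply cent_hG hK
  intro h
  apply h2
  rw [hG_mul, ← pow_two, h, hG_one]

theorem count_HH (hm : 1 ≤ m) (P : GG K m → Prop) (hP : ∀ g z, P z → P (g * z * g⁻¹)) (hP1 : ∀ z, P z → z * z ≠ 1) :
    2 * (cu {z | z ∈ HH K m ∧ P z}).ncard =
      (3 ^ (2 * m + 1)) ^ 3 * ((3 ^ (2 * m + 1)) ^ 3 + 1) * {z | z ∈ HH K m ∧ P z}.ncard := by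
  rw [card_cu_cent (HH K m) P hP (fun z hz hz' => cent_M2 hK hz (hP1 z hz')), normalizer_HH hK hm]
  have h1 := Subgroup.card_mul_index (NN K m)
  rw [card_NN hK, card_G1 hK] at h1
  have hq := q_pos hK
  generalize (NN K m).index = I at *
  generalize 3 ^ (2 * m + 1) = q at h1 hq ⊢
  have h2 : 2 * I = q ^ 3 * (q ^ 3 + 1) := by
    apply Nat.eq_of_mul_eq_mul_left (show 0 < q - 1 by omega)
    linarith
  rw [← mul_assoc, h2]

theorem ncard_M2 : (M2 : Set (GG K m)).ncard = 3 ^ (2 * m + 1) - 3 := by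
  have e : (M2 : Set (GG K m)) = ((HH K m : Subgroup (GG K m)) : Set (GG K m)) \ {1, iG hK} := by
    ext z
    constructor
    · rintro ⟨hz, h2⟩
      refine ⟨hz, ?_⟩
      rintro (rfl | rfl)
      · exact h2 (one_mul 1)
      · exact h2 (iG_sq hK)
    · rintro ⟨hz, h2⟩
      refine ⟨hz, fun h => h2 ?_⟩
      by_cases h1 : z = 1
      · exact Or.inl h1
      · exact Or.inr (eq_iG hK (Subgroup.mem_subgroupOf.1 hz).1 h1 h)
  have hsub : ({1, iG hK} : Set (GG K m)) ⊆ ((HH K m : Subgroup (GG K m)) : Set (GG K m)) := by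
    rintro z (rfl | rfl)
    · exact (HH K m).one_mem
    · exact hG_mem hK _
  rw [e, Set.ncard_sdiff hsub, Set.ncard_pair (iG_ne_one hK).symm, ← Nat.card_coe_set_eq]
  have := card_HH hK
  have h2 : Nat.card ↥((HH K m : Subgroup (GG K m)) : Set (GG K m)) = Nat.card (HH K m) := rfl
  rw [h2, this]
  omega

end main

end Cfsg.Agent.Lib.Helper8Ree24
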