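import Cfsg.Agent.Lib.Helper8Ree24
import Cfsg.Agent.Lib.Helper8PSL3
import Cfsg.Agent.Lib.Helper8Ab

set_option autoImplicit false
set_option linter.unusedSectionVars false
set_option linter.unusedVariables false

namespace Cfsg.Agent.Lib.Helper8Ree25

open Cfsg.Lie Cfsg.Agent.Lib.Helper22ChevBasic Cfsg.Agent.Lib.Helper8Ree2
  Cfsg.Agent.Lib.Helper8Ree5
  Cfsg.Agent.Lib.Helper8Ree6 Cfsg.Agent.Lib.Helper8Ree7 Cfsg.Agent.Lib.Helper8Ree8 Cfsg.Agent.Lib.Helper8Ree9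
  Cfsg.Agent.Lib.Helper8Ree10 Cfsg.Agent.Lib.Helper8Ree11 Cfsg.Agent.Lib.Helper8Ree12 Cfsg.Agent.Lib.Helper8Ree14
  Cfsg.Agent.Lib.Helper8Ree15 Cfsg.Agent.Lib.Helper8Ree16 Cfsg.Agent.Lib.Helper8Ree17 Cfsg.Agent.Lib.Helper8Ree18
  Cfsg.Agent.Lib.Helper8Ree19 Cfsg.Agent.Lib.Helper8Ree20 Cfsg.Agent.Lib.Helper8Ree21 Cfsg.Agent.Lib.Helper8Ree22
  Cfsg.Agent.Lib.Helper8Ree23 Cfsg.Agent.Lib.Helper8Ree24 Cfsg.Agent.Lib.Helper8PSL2 Cfsg.Agent.Lib.Helper8PSL3
  Cfsg.Agent.Lib.Helper8Rank1 Cfsg.Agent.Lib.Helper8Cnt Cfsg.Agent.Lib.Helper8Cnt2 Cfsg.Agent.Lib.Helper8Ab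

local notation "PSL2" => Matrix.ProjectiveSpecialLinearGroup (Fin 2)

variable {K : Type*} [Field K] [Fintype K] [CharP K 3]

/-- the tori of order `q + 1` -/
def IsTorB (m : ℕ) (A : Subgroup (GG K m)) : Prop :=
  ∃ (p : ℕ) (y : GG K m), p.Prime ∧ p ≠ 2 ∧ p ∣ 3 ^ (2 * m + 1) + 1 ∧ orderOf y = p ∧ A = Subgroup.centralizer {y}

/-- `(q+1)/4` -/
abbrev kk (m : ℕ) : ℕ := (3 ^ (2 * m + 1) + 1) / 4

theorem kk_spec (m : ℕ) : Odd (kk m) ∧ 3 ^ (2 * m + 1) + 1 = 4 * kk m := by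
  obtain ⟨k, hk⟩ := quarter_odd m
  have : kk m = 2 * k + 1 := by unfold kk; omega
  rw [this]
  exact ⟨⟨k, rfl⟩, hk⟩

section main

variable {m : ℕ} (hK : Fintype.card K = 3 ^ (2 * m + 1))
include hK

theorem torB_card (hm : 1 ≤ m) {A : Subgroup (GG K m)} (hA : IsTorB m A) : Nat.card A = 3 ^ (2 * m + 1) + 1 := by
  obtain ⟨p, y, hp, hp2, hpq, hy, rfl⟩ := hA
  exact (centB hK hm hp hp2 hpq hy).1

theorem torB_comm (hm : 1 ≤ m) {A : Subgroup (GG K m)} (hA : IsTorB m A) : ∀ a ∈ A, ∀ b ∈ A, a * b = b * a := by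
  obtain ⟨p, y, hp, hp2, hpq, hy, rfl⟩ := hA
  exact (centB hK hm hp hp2 hpq hy).2.1

theorem torB_cyc (hm : 1 ≤ m) {A : Subgroup (GG K m)} (hA : IsTorB m A) (X : Subgroup (GG K m)) (hX : X ≤ A)
    (hodd : Odd (Nat.card X)) : IsCyclic X := by
  obtain ⟨p, y, hp, hp2, hpq, hy, rfl⟩ := hA
  exact (centB hK hm hp hp2 hpq hy).2.2 X hX hodd

theorem exists_odd_prime {z : GG K m} (h : z * z ≠ 1) : ∃ r, r.Prime ∧ r ≠ 2 ∧ r ∣ orderOf z := by
  obtain ⟨k, b, hb, hd⟩ := Nat.exists_eq_two_pow_mul_odd (orderOf_pos z).ne'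
  by_cases hb1 : b = 1
  · exfalso
    apply h
    apply two_elt hK k
    rw [hb1, mul_one] at hd
    rw [← hd]; exact pow_orderOf_eq_one z
  · refine ⟨b.minFac, Nat.minFac_prime hb1, ?_, (Nat.minFac_dvd b).trans (by rw [hd]; exact Dvd.intro_left _ rfl)⟩
    intro h2
    have := Nat.minFac_dvd b
    rw [h2] at this
    obtain ⟨j, rfl⟩ := hb
    omega

theorem torB_cent (hm : 1 ≤ m) {A : Subgroup (GG K m)} (hA : IsTorB m A) {z : GG K m} (hz : z ∈ A) (h2 : z * z ≠ 1) :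
    Subgroup.centralizer {z} = A := by
  have hcomm := torB_comm hK hm hA
  have hcard := torB_card hK hm hA
  obtain ⟨r, hr, hr2, hrd⟩ := exists_odd_prime hK h2
  have hzc : orderOf z ∣ Nat.card A := by
    have := orderOf_dvd_natCard (⟨z, hz⟩ : ↥A)
    rwa [Subgroup.orderOf_mk] at this
  have hrq : r ∣ 3 ^ (2 * m + 1) + 1 := by rw [← hcard]; exact hrd.trans hzc
  have ho : orderOf (z ^ (orderOf z / r)) = r := orderOf_pow_orderOf_div (orderOf_pos z).ne' hrd
  have h3 := (centB hK hm hr hr2 hrq ho).1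
  have hle : A ≤ Subgroup.centralizer {z ^ (orderOf z / r)} := by
    intro a ha
    rw [Subgroup.mem_centralizer_singleton_iff]
    exact hcomm a ha _ (A.pow_mem hz _)
  have heq : A = Subgroup.centralizer {z ^ (orderOf z / r)} :=
    Subgroup.eq_of_le_of_card_ge hle (by rw [h3, hcard])
  apply le_antisymm
  · intro c hc
    rw [heq, Subgroup.mem_centralizer_singleton_iff]
    rw [Subgroup.mem_centralizer_singleton_iff] at hc
    exact ((show Commute c z from hc).pow_right _).eq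
  · intro c hc
    rw [Subgroup.mem_centralizer_singleton_iff]
    exact hcomm c hc z hz

theorem kk_ge (hm : 1 ≤ m) : 7 ≤ kk m := by
  have := q_ge hK hm
  rw [hK] at this
  unfold kk
  omega

theorem exists_torB (hm : 1 ≤ m) : ∃ A : Subgroup (GG K m), IsTorB m A := by
  obtain ⟨hodd, hk⟩ := kk_spec m
  have hk7 := kk_ge hK hm
  have hp : (kk m).minFac.Prime := Nat.minFac_prime (by omega)
  have : Fact (kk m).minFac.Prime := ⟨hp⟩
  have hpk := Nat.minFac_dvd (kk m)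
  have hpq : (kk m).minFac ∣ 3 ^ (2 * m + 1) + 1 := by rw [hk]; exact hpk.mul_left 4
  have hpG : (kk m).minFac ∣ Nat.card (GG K m) := by
    rw [card_G1 hK, q3_eq]
    exact (hpq.mul_right _).mul_left _
  obtain ⟨y, hy⟩ := exists_prime_orderOf_dvd_card' _ hpG
  refine ⟨_, _, y, hp, ?_, hpq, hy, rfl⟩
  intro h2
  rw [h2] at hpk
  obtain ⟨j, hj⟩ := hodd
  omega

theorem four_elt (x : GG K m) (h : x ^ 4 = 1) : x * x = 1 := two_elt hK 2 h

theorem torB_split (hm : 1 ≤ m) {A : Subgroup (GG K m)} (hA : IsTorB m A) :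
    Nat.card (tors A (torB_comm hK hm hA) (kk m)) = kk m ∧ {z | z ∈ A ∧ z * z = 1}.ncard = 4 ∧
    ∀ i, Odd i → {z | z ∈ A ∧ orderOf z = 2 * i}.ncard = 3 * {z | z ∈ A ∧ orderOf z = i}.ncard :=
  split A (torB_comm hK hm hA) (kk m) (kk_spec m).1 (by rw [torB_card hK hm hA, (kk_spec m).2]) (four_elt hK)

theorem torB_D_cyc (hm : 1 ≤ m) {A : Subgroup (GG K m)} (hA : IsTorB m A) :
    IsCyclic (tors A (torB_comm hK hm hA) (kk m)) :=
  torB_cyc hK hm hA _ (fun z hz => hz.1) (by rw [(torB_split hK hm hA).1]; exact (kk_spec m).1)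

theorem torB_conj (hm : 1 ≤ m) {A A' : Subgroup (GG K m)} (hA : IsTorB m A) (hA' : IsTorB m A') :
    ∃ g, A' = cj g A := by
  obtain ⟨g, hg⟩ := s2358 hK hm (kk m) (Or.inr (Or.inl dvd_rfl)) _ _ (torB_D_cyc hK hm hA) (torB_D_cyc hK hm hA')
    (torB_split hK hm hA).1 (torB_split hK hm hA').1
  refine ⟨g, ?_⟩
  have hc' := torB_card hK hm hA'
  have hcA := torB_card hK hm hA
  have hcomm' := torB_comm hK hm hA'
  obtain ⟨p, y, hp, hp2, hpq, hy, rfl⟩ := id hA
  have hyk : y ^ kk m = 1 := by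
    apply orderOf_dvd_iff_pow_eq_one.1
    rw [hy]
    rw [(kk_spec m).2] at hpq
    have hc : Nat.Coprime p 4 := by
      have : Nat.Coprime p (2 ^ 2) := Nat.Coprime.pow_right 2 ((Nat.coprime_primes hp Nat.prime_two).2 hp2)
      exact this
    exact hc.dvd_of_dvd_mul_left hpq
  have hyD : y ∈ tors (Subgroup.centralizer {y}) (torB_comm hK hm hA) (kk m) :=
    ⟨Subgroup.mem_centralizer_singleton_iff.2 rfl, hyk⟩
  have h1 : g * y * g⁻¹ ∈ tors A' (torB_comm hK hm hA') (kk m) := by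
    rw [hg]; exact ⟨y, hyD, rfl⟩
  have hle : A' ≤ cj g (Subgroup.centralizer {y}) := by
    rw [← cent_conj]
    intro a ha
    rw [Subgroup.mem_centralizer_singleton_iff]
    exact hcomm' a ha _ h1.1
  exact Subgroup.eq_of_le_of_card_ge hle (by rw [card_cj, hcA, hc'])

theorem card_norm_inf (hm : 1 ≤ m) {p : ℕ} (hp : p.Prime) (hp2 : p ≠ 2) (hpq : p ∣ 3 ^ (2 * m + 1) + 1) {y t : GG K m}
    (hy : orderOf y = p) (ht1 : t ≠ 1) (ht2 : t * t = 1) (hyt : y * t = t * y) :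
    Nat.card ↥(Subgroup.normalizer ((Subgroup.centralizer {y} : Subgroup (GG K m)) : Set (GG K m)) ⊓
      Subgroup.centralizer {t}) = 2 * (3 ^ (2 * m + 1) + 1) := by
  obtain ⟨φ, hs, hk⟩ := exists_phi' hK hm ht1 ht2
  have hq := q_pos hK
  have hAC := cent_le hK hm hp hp2 hpq hy ht1 ht2 hyt
  have hAcard := (centB hK hm hp hp2 hpq hy).1
  have hyC : y ∈ Subgroup.centralizer {t} := Subgroup.mem_centralizer_singleton_iff.2 hyt
  have htC : t ∈ Subgroup.centralizer {t} := Subgroup.mem_centralizer_singleton_iff.2 rfl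
  have hy1 : y ≠ 1 := by
    rintro rfl
    rw [orderOf_one] at hy
    exact hp.one_lt.ne hy
  have hyt' : y ≠ t := by
    rintro rfl
    have := orderOf_dvd_of_pow_eq_one (show y ^ 2 = 1 by rw [pow_two]; exact ht2)
    rw [hy] at this
    exact hp2 ((Nat.prime_dvd_prime_iff_eq hp Nat.prime_two).1 this)
  have ho : orderOf (φ ⟨y, hyC⟩) = p := by
    have : Fact p.Prime := ⟨hp⟩
    apply orderOf_eq_prime
    · rw [← map_pow]
      have : (⟨y, hyC⟩ : ↥(Subgroup.centralizer {t})) ^ p = 1 := by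
        apply Subtype.ext
        show y ^ p = 1
        rw [← hy]; exact pow_orderOf_eq_one y
      rw [this, map_one]
    · intro h
      rcases (hk _).1 h with h | h
      · exact hy1 (congrArg Subtype.val h)
      · exact hyt' h
  have hpq' : ¬ p ∣ Fintype.card K - 1 := by rw [hK]; exact ar3 hp hp2 (by omega) hpq
  obtain ⟨hcyc, hcard⟩ := cent_nonsplit hp hp2 (ar6 hp hpq) hpq' _ ho
  have hnorm := norm_nonsplit hp hp2 (ar6 hp hpq) hpq' _ ho
  rw [hK] at hcard hnorm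
  have hk' : ∀ c, φ c = 1 ↔ c = 1 ∨ c = ⟨t, htC⟩ := by
    intro c
    rw [hk c]
    constructor
    · rintro (h | h)
      · exact Or.inl h
      · exact Or.inr (Subtype.ext h)
    · rintro (h | h)
      · exact Or.inl h
      · exact Or.inr (congrArg Subtype.val h)
  have hker := card_ker_two φ ⟨t, htC⟩ (fun h => ht1 (congrArg Subtype.val h)) hk'
  have hcomap : (Subgroup.centralizer {φ ⟨y, hyC⟩}).comap φ =
      (Subgroup.centralizer {y}).subgroupOf (Subgroup.centralizer {t}) := by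
    symm
    apply Subgroup.eq_of_le_of_card_ge
    · intro c hc
      have hc' : (c : GG K m) * y = y * c := Subgroup.mem_centralizer_singleton_iff.1 (Subgroup.mem_subgroupOf.1 hc)
      rw [Subgroup.mem_comap, Subgroup.mem_centralizer_singleton_iff, ← map_mul, ← map_mul]
      congr 1
      exact Subtype.ext hc'
    · rw [card_of_ker φ hker _ (by
        intro c hc
        rw [Subgroup.mem_comap, MonoidHom.mem_ker.1 hc]
        exact one_mem _), Subgroup.map_comap_eq_self_of_surjective hs, hcard,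
        Nat.card_congr (Subgroup.subgroupOfEquivOfLe hAC).toEquiv, hAcard]
  have e1 : Nat.card ↥(Subgroup.normalizer ((Subgroup.centralizer {y} : Subgroup (GG K m)) : Set (GG K m)) ⊓
      Subgroup.centralizer {t}) =
      Nat.card ↥((Subgroup.normalizer ((Subgroup.centralizer {y} : Subgroup (GG K m)) : Set (GG K m))).subgroupOf
        (Subgroup.centralizer {t})) := by
    rw [← Subgroup.inf_subgroupOf_right]
    exact (Nat.card_congr (Subgroup.subgroupOfEquivOfLe inf_le_right).toEquiv).symm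
  rw [e1, Subgroup.subgroupOf_normalizer_eq hAC, ← hcomap, ← Subgroup.comap_normalizer_eq_of_surjective _ hs]
  rw [card_of_ker φ hker _ (by
    intro c hc
    rw [Subgroup.mem_comap, MonoidHom.mem_ker.1 hc]
    exact one_mem _), Subgroup.map_comap_eq_self_of_surjective hs, hnorm]

theorem torB_norm (hm : 1 ≤ m) {A : Subgroup (GG K m)} (hA : IsTorB m A) :
    Nat.card (Subgroup.normalizer (A : Set (GG K m))) = 2 * (3 ^ (2 * m + 1) + 1) ∨
    Nat.card (Subgroup.normalizer (A : Set (GG K m))) = 6 * (3 ^ (2 * m + 1) + 1) := by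
  have h4 := (torB_split hK hm hA).2.1
  obtain ⟨p, y, hp, hp2, hpq, hy, rfl⟩ := hA
  obtain ⟨t, ht1, ht2, hyt⟩ := exists_invol hK hp hp2 hpq hy
  have h1 := card_orbit (Subgroup.normalizer ((Subgroup.centralizer {y} : Subgroup (GG K m)) : Set (GG K m))) t
  rw [card_norm_inf hK hm hp hp2 hpq hy ht1 ht2 hyt] at h1
  have htA : t ∈ Subgroup.centralizer {y} := Subgroup.mem_centralizer_singleton_iff.2 hyt.symm
  set O := {s | ∃ n ∈ Subgroup.normalizer ((Subgroup.centralizer {y} : Subgroup (GG K m)) : Set (GG K m)), s = n * t * n⁻¹}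
    with hO
  have hsub : O ⊆ {z | z ∈ Subgroup.centralizer {y} ∧ z * z = 1} \ {1} := by
    rintro s ⟨n, hn, rfl⟩
    refine ⟨⟨(Subgroup.mem_normalizer_iff.1 hn t).1 htA, ?_⟩, conj_ne_one ht1⟩
    calc n * t * n⁻¹ * (n * t * n⁻¹) = n * (t * t) * n⁻¹ := by group
      _ = 1 := by rw [ht2]; group
  have h3 : ({z | z ∈ Subgroup.centralizer {y} ∧ z * z = 1} \ {1} : Set (GG K m)).ncard = 3 := by
    rw [Set.ncard_sdiff (by rintro z rfl; exact ⟨one_mem _, one_mul 1⟩), h4, Set.ncard_singleton]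
  have hle : O.ncard ≤ 3 := by
    rw [← h3]; exact Set.ncard_le_ncard hsub (Set.toFinite _)
  have hpos : 0 < O.ncard := by
    rw [Set.ncard_pos (Set.toFinite _)]
    exact ⟨t, 1, one_mem _, by group⟩
  have h16 := card_GG_mod hK
  have hdvd := Subgroup.card_subgroup_dvd_card
    (Subgroup.normalizer ((Subgroup.centralizer {y} : Subgroup (GG K m)) : Set (GG K m)))
  obtain ⟨k, hk⟩ := quarter_odd m
  generalize O.ncard = o at *
  have ho : o = 1 ∨ o = 2 ∨ o = 3 := by omega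
  rcases ho with rfl | rfl | rfl
  · left; rw [h1]; ring
  · exfalso
    rw [h1, hk] at hdvd
    obtain ⟨c, hc⟩ := hdvd
    rw [hc] at h16
    have : 2 * (4 * (2 * k + 1)) * 2 * c = 16 * ((2 * k + 1) * c) := by ring
    rw [this] at h16
    omega
  · right; rw [h1]; ring

theorem count_torB (hm : 1 ≤ m) {A : Subgroup (GG K m)} (hA : IsTorB m A)
    (P : GG K m → Prop) (hP : ∀ g z, P z → P (g * z * g⁻¹)) (hP1 : ∀ z, P z → z * z ≠ 1) :
    (cu {z | z ∈ A ∧ P z}).ncard = (Subgroup.normalizer (A : Set (GG K m))).index * {z | z ∈ A ∧ P z}.ncard :=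
  card_cu_cent A P hP (fun z hz hz' => torB_cent hK hm hA hz (hP1 z hz'))

theorem ncard_M5 (hm : 1 ≤ m) {A : Subgroup (GG K m)} (hA : IsTorB m A) :
    {z | z ∈ A ∧ z * z ≠ 1}.ncard = 3 ^ (2 * m + 1) - 3 := by
  have e : {z | z ∈ A ∧ z * z ≠ 1} = (A : Set (GG K m)) \ {z | z ∈ A ∧ z * z = 1} := by
    ext z
    constructor
    · rintro ⟨h1, h2⟩; exact ⟨h1, fun h => h2 h.2⟩
    · rintro ⟨h1, h2⟩; exact ⟨h1, fun h => h2 ⟨h1, h⟩⟩
  rw [e, Set.ncard_sdiff (fun z hz => hz.1), (torB_split hK hm hA).2.1, ← Nat.card_coe_set_eq]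
  have h2 : Nat.card ↥(A : Set (GG K m)) = Nat.card A := rfl
  rw [h2, torB_card hK hm hA]
  omega

/-- elements whose order is divisible by an odd prime divisor of `q + 1` -/
theorem class_B (hm : 1 ≤ m) {A : Subgroup (GG K m)} (hA : IsTorB m A) {p : ℕ} (hp : p.Prime) (hp2 : p ≠ 2)
    (hpq : p ∣ 3 ^ (2 * m + 1) + 1) {z : GG K m} (hz : p ∣ orderOf z) : z ∈ cu {z | z ∈ A ∧ z * z ≠ 1} := by
  have ho : orderOf (z ^ (orderOf z / p)) = p := orderOf_pow_orderOf_div (orderOf_pos z).ne' hz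
  obtain ⟨g, hg⟩ := torB_conj hK hm hA ⟨p, _, hp, hp2, hpq, ho, rfl⟩
  have h1 : z ∈ Subgroup.centralizer {z ^ (orderOf z / p)} := by
    rw [Subgroup.mem_centralizer_singleton_iff, ← pow_succ, ← pow_succ']
  rw [hg, mem_cj] at h1
  have h2 : z * z ≠ 1 := by
    intro h
    have := orderOf_dvd_of_pow_eq_one (show z ^ 2 = 1 by rw [pow_two]; exact h)
    exact hp2 ((Nat.prime_dvd_prime_iff_eq hp Nat.prime_two).1 (hz.trans this))
  refine ⟨g, g⁻¹ * z * g, ⟨h1, ?_⟩, by group⟩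
  have := sq_conj hK (g := g⁻¹) h2
  rwa [inv_inv] at this

/-- elements whose order is divisible by an odd prime divisor of `q - 1` -/
theorem class_A {p : ℕ} (hp : p.Prime) (hp2 : p ≠ 2)
    (hpq : p ∣ 3 ^ (2 * m + 1) - 1) {z : GG K m} (hz : p ∣ orderOf z) : z ∈ cu {z | z ∈ HH K m ∧ z * z ≠ 1} := by
  have ho : orderOf (z ^ (orderOf z / p)) = p := orderOf_pow_orderOf_div (orderOf_pos z).ne' hz
  obtain ⟨g, μ, hμ, hg⟩ := conj_into_HH hK hp hp2 hpq ho
  have h1 : z ∈ Subgroup.centralizer {z ^ (orderOf z / p)} := by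
    rw [Subgroup.mem_centralizer_singleton_iff, ← pow_succ, ← pow_succ']
  rw [hg, cent_conj, cent_hG hK hμ, mem_cj] at h1
  have h2 : z * z ≠ 1 := by
    intro h
    have := orderOf_dvd_of_pow_eq_one (show z ^ 2 = 1 by rw [pow_two]; exact h)
    exact hp2 ((Nat.prime_dvd_prime_iff_eq hp Nat.prime_two).1 (hz.trans this))
  refine ⟨g, g⁻¹ * z * g, ⟨h1, ?_⟩, by group⟩
  have := sq_conj hK (g := g⁻¹) h2
  rwa [inv_inv] at this

end main

end Cfsg.Agent.Lib.Helper8Ree25
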