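import Cfsg.Agent.Lib.Helper8Ree25

set_option autoImplicit false
set_option linter.unusedSectionVars false
set_option linter.unusedVariables false

namespace Cfsg.Agent.Lib.Helper8Ree26

open Cfsg.Lie Cfsg.Agent.Lib.Helper22ChevBasic Cfsg.Agent.Lib.Helper8Ree2
  Cfsg.Agent.Lib.Helper8Ree5
  Cfsg.Agent.Lib.Helper8Ree6 Cfsg.Agent.Lib.Helper8Ree7 Cfsg.Agent.Lib.Helper8Ree8 Cfsg.Agent.Lib.Helper8Ree9
  Cfsg.Agent.Lib.Helper8Ree10 Cfsg.Agent.Lib.Helper8Ree11 Cfsg.Agent.Lib.Helper8Ree12 Cfsg.Agent.Lib.Helper8Ree14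
  Cfsg.Agent.Lib.Helper8Ree15 Cfsg.Agent.Lib.Helper8Ree16 Cfsg.Agent.Lib.Helper8Ree17 Cfsg.Agent.Lib.Helper8Ree18
  Cfsg.Agent.Lib.Helper8Ree19 Cfsg.Agent.Lib.Helper8Ree20 Cfsg.Agent.Lib.Helper8Ree21 Cfsg.Agent.Lib.Helper8Ree22
  Cfsg.Agent.Lib.Helper8Ree23 Cfsg.Agent.Lib.Helper8Ree24 Cfsg.Agent.Lib.Helper8Ree25
  Cfsg.Agent.Lib.Helper8Rank1 Cfsg.Agent.Lib.Helper8Cnt Cfsg.Agent.Lib.Helper8Cnt2 Cfsg.Agent.Lib.Helper8Ab

/-! ### arithmetic -/

theorem f1 (m : ℕ) : ¬ 3 ∣ 3 ^ (2 * m + 1) - 1 := by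
  have h : 3 ∣ 3 ^ (2 * m + 1) := dvd_pow_self 3 (by omega)
  have : 0 < 3 ^ (2 * m + 1) := by positivity
  omega

theorem f2 (m : ℕ) : ¬ 3 ∣ 3 ^ (2 * m + 1) + 1 := by
  have h : 3 ∣ 3 ^ (2 * m + 1) := dvd_pow_self 3 (by omega)
  omega

theorem f3 (m : ℕ) : ¬ 3 ∣ Ph m := by
  have h : 3 ∣ 3 ^ (2 * m + 1) := dvd_pow_self 3 (by omega)
  have h0 : 1 ≤ 3 ^ (2 * m + 1) := Nat.one_le_pow _ _ (by norm_num)
  intro h3
  exact p_ne_three h0 h h3 rfl

theorem f4 (m : ℕ) : ¬ 2 ∣ Ph m := by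
  have h0 : 1 ≤ 3 ^ (2 * m + 1) := Nat.one_le_pow _ _ (by norm_num)
  intro h3
  exact p_ne_two h0 h3 rfl

theorem f5 (m : ℕ) : Nat.Coprime (Ph m) (3 ^ (2 * m + 1) - 1) := phi_coprime m dvd_rfl

theorem f6 (m : ℕ) : Nat.Coprime (3 ^ (2 * m + 1) + 1) (Ph m) := by
  apply Nat.coprime_of_dvd
  intro k hk h1
  have h0 : 2 ≤ 3 ^ (2 * m + 1) := by
    have : 3 ^ 1 ≤ 3 ^ (2 * m + 1) := Nat.pow_le_pow_right (by norm_num) (by omega)
    omega
  exact ar5 hk (ar6 hk h1) h0 h1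

theorem cop9 {n : ℕ} (h : ¬ 3 ∣ n) : Nat.Coprime 9 n := by
  have : Nat.Coprime (3 ^ 2) n := Nat.Coprime.pow_left 2 ((Nat.Prime.coprime_iff_not_dvd Nat.prime_three).2 h)
  exact this

variable {K : Type*} [Field K] [Fintype K] [CharP K 3]

section preds

variable {m : ℕ}

def C1 (z : GG K m) : Prop := z ≠ 1 ∧ z ^ 9 = 1
def C2 (z : GG K m) : Prop := z ^ (3 ^ (2 * m + 1) - 1) = 1 ∧ z * z ≠ 1
def C3 (z : GG K m) : Prop := z ≠ 1 ∧ z * z = 1
def C4 (z : GG K m) : Prop := orderOf z = 6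
def C5 (z : GG K m) : Prop := z ^ (3 ^ (2 * m + 1) + 1) = 1 ∧ z * z ≠ 1
def C6 (z : GG K m) : Prop := z ≠ 1 ∧ z ^ (Ph m) = 1

theorem c1_iff {z : GG K m} : C1 z ↔ orderOf z ≠ 1 ∧ orderOf z ∣ 9 := by
  unfold C1; rw [Ne, Ne, orderOf_eq_one_iff, orderOf_dvd_iff_pow_eq_one]
theorem c2_iff {z : GG K m} : C2 z ↔ orderOf z ∣ 3 ^ (2 * m + 1) - 1 ∧ ¬ orderOf z ∣ 2 := by
  unfold C2; rw [orderOf_dvd_iff_pow_eq_one, orderOf_dvd_iff_pow_eq_one, pow_two]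
theorem c3_iff {z : GG K m} : C3 z ↔ orderOf z = 2 := by
  have : Fact (Nat.Prime 2) := ⟨Nat.prime_two⟩
  unfold C3; rw [orderOf_eq_prime_iff, pow_two, and_comm]
theorem c5_iff {z : GG K m} : C5 z ↔ orderOf z ∣ 3 ^ (2 * m + 1) + 1 ∧ ¬ orderOf z ∣ 2 := by
  unfold C5; rw [orderOf_dvd_iff_pow_eq_one, orderOf_dvd_iff_pow_eq_one, pow_two]
theorem c6_iff {z : GG K m} : C6 z ↔ orderOf z ≠ 1 ∧ orderOf z ∣ Ph m := by
  unfold C6; rw [Ne, Ne, orderOf_eq_one_iff, orderOf_dvd_iff_pow_eq_one]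

theorem d12 (z : GG K m) (h : C1 z) (h' : C2 z) : False := by
  rw [c1_iff] at h; rw [c2_iff] at h'
  exact h.1 (Nat.eq_one_of_dvd_coprimes (cop9 (f1 m)) h.2 h'.1)
theorem d13 (z : GG K m) (h : C1 z) (h' : C3 z) : False := by
  rw [c1_iff] at h; rw [c3_iff] at h'
  rw [h'] at h; omega
theorem d14 (z : GG K m) (h : C1 z) (h' : C4 z) : False := by
  rw [c1_iff] at h; unfold C4 at h'
  rw [h'] at h; omega
theorem d15 (z : GG K m) (h : C1 z) (h' : C5 z) : False := by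
  rw [c1_iff] at h; rw [c5_iff] at h'
  exact h.1 (Nat.eq_one_of_dvd_coprimes (cop9 (f2 m)) h.2 h'.1)
theorem d16 (z : GG K m) (h : C1 z) (h' : C6 z) : False := by
  rw [c1_iff] at h; rw [c6_iff] at h'
  exact h.1 (Nat.eq_one_of_dvd_coprimes (cop9 (f3 m)) h.2 h'.2)
theorem d23 (z : GG K m) (h : C2 z) (h' : C3 z) : False := h.2 h'.2
theorem d24 (z : GG K m) (h : C2 z) (h' : C4 z) : False := by
  rw [c2_iff] at h; unfold C4 at h'
  rw [h'] at h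
  exact f1 m ((show 3 ∣ 6 by norm_num).trans h.1)
theorem d25 (z : GG K m) (h : C2 z) (h' : C5 z) : False := by
  rw [c2_iff] at h; rw [c5_iff] at h'
  apply h.2
  have := Nat.dvd_sub h'.1 h.1
  have h0 : 1 ≤ 3 ^ (2 * m + 1) := Nat.one_le_pow _ _ (by norm_num)
  have e : 3 ^ (2 * m + 1) + 1 - (3 ^ (2 * m + 1) - 1) = 2 := by omega
  rwa [e] at this
theorem d26 (z : GG K m) (h : C2 z) (h' : C6 z) : False := by
  rw [c2_iff] at h; rw [c6_iff] at h'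
  exact h'.1 (Nat.eq_one_of_dvd_coprimes (f5 m) h'.2 h.1)
theorem d34 (z : GG K m) (h : C3 z) (h' : C4 z) : False := by
  rw [c3_iff] at h; unfold C4 at h'
  omega
theorem d35 (z : GG K m) (h : C3 z) (h' : C5 z) : False := h'.2 h.2
theorem d36 (z : GG K m) (h : C3 z) (h' : C6 z) : False := by
  rw [c3_iff] at h; rw [c6_iff] at h'
  rw [h] at h'
  exact f4 m h'.2
theorem d45 (z : GG K m) (h : C4 z) (h' : C5 z) : False := by
  rw [c5_iff] at h'; unfold C4 at h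
  rw [h] at h'
  exact f2 m ((show 3 ∣ 6 by norm_num).trans h'.1)
theorem d46 (z : GG K m) (h : C4 z) (h' : C6 z) : False := by
  rw [c6_iff] at h'; unfold C4 at h
  rw [h] at h'
  exact f4 m ((show 2 ∣ 6 by norm_num).trans h'.2)
theorem d56 (z : GG K m) (h : C5 z) (h' : C6 z) : False := by
  rw [c5_iff] at h; rw [c6_iff] at h'
  exact h'.1 (Nat.eq_one_of_dvd_coprimes (f6 m) h.1 h'.2)

end preds

section main

variable {m : ℕ} (hK : Fintype.card K = 3 ^ (2 * m + 1))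
include hK

theorem cu_C1 : cu {z | z ∈ UU K m ∧ z ≠ 1} = {z : GG K m | C1 z} := by
  ext z
  constructor
  · rintro ⟨g, y, ⟨hy, hy1⟩, rfl⟩
    obtain ⟨t, u, v, rfl⟩ := (mem_UU hK).1 hy
    exact ⟨conj_ne_one hy1, by rw [conj_pow, uG_pow9 hK]; group⟩
  · rintro ⟨h1, h2⟩
    obtain ⟨g, hg⟩ := conj_into_UU hK 2 (show z ^ (3 ^ 2) = 1 from h2)
    refine ⟨g, _, ⟨hg, ?_⟩, by group⟩
    have := conj_ne_one (g := g⁻¹) h1
    rwa [inv_inv] at this

theorem pow_card_of_mem {X : Subgroup (GG K m)} {z : GG K m} (hz : z ∈ X) : z ^ Nat.card X = 1 := by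
  have := pow_card_eq_one' (x := (⟨z, hz⟩ : ↥X))
  exact congrArg Subtype.val this

theorem cu_C2 : cu {z | z ∈ HH K m ∧ z * z ≠ 1} = {z : GG K m | C2 z} := by
  ext z
  constructor
  · rintro ⟨g, y, ⟨hy, hy1⟩, rfl⟩
    refine ⟨?_, sq_conj hK hy1⟩
    have := pow_card_of_mem hK hy
    rw [card_HH hK] at this
    rw [conj_pow, this]; group
  · rintro ⟨h1, h2⟩
    obtain ⟨r, hr, hr2, hrd⟩ := exists_odd_prime hK h2
    exact class_A hK hr hr2 (hrd.trans (orderOf_dvd_of_pow_eq_one h1)) hrd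

theorem cu_C3 (hm : 1 ≤ m) : cu {iG hK} = {z : GG K m | C3 z} := cu_invol hK hm

theorem cu_C4 (hm : 1 ≤ m) : cu (M4 hK) = {z : GG K m | C4 z} := by
  ext z
  constructor
  · rintro ⟨g, y, hy, rfl⟩
    show orderOf _ = 6
    rw [orderOf_conj, order_M4 hK hy]
  · intro h
    have h6 : orderOf z = 6 := h
    have h1 : z ^ (8 * 3 ^ 1) = 1 := by
      apply orderOf_dvd_iff_pow_eq_one.1
      rw [h6]; norm_num
    rcases class_23 hK hm 1 h1 with h2 | h2 | h2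
    · exfalso
      have := orderOf_dvd_of_pow_eq_one h2
      rw [h6] at this
      omega
    · exfalso
      rw [cu_invol hK hm] at h2
      exact d34 z h2 h
    · exact h2

theorem cu_C5 (hm : 1 ≤ m) {A : Subgroup (GG K m)} (hA : IsTorB m A) :
    cu {z | z ∈ A ∧ z * z ≠ 1} = {z : GG K m | C5 z} := by
  ext z
  constructor
  · rintro ⟨g, y, ⟨hy, hy1⟩, rfl⟩
    refine ⟨?_, sq_conj hK hy1⟩
    have := pow_card_of_mem hK hy
    rw [torB_card hK hm hA] at this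
    rw [conj_pow, this]; group
  · rintro ⟨h1, h2⟩
    obtain ⟨r, hr, hr2, hrd⟩ := exists_odd_prime hK h2
    exact class_B hK hm hA hr hr2 (hrd.trans (orderOf_dvd_of_pow_eq_one h1)) hrd

theorem class_P (hm : 1 ≤ m) {p : ℕ} (hp : p.Prime) (hpq : p ∣ Ph m) {z : GG K m} (hz : p ∣ orderOf z) :
    C6 z ∧ IsTor m (Subgroup.centralizer {z ^ (orderOf z / p)}) ∧ z ∈ Subgroup.centralizer {z ^ (orderOf z / p)} := by
  have ho : orderOf (z ^ (orderOf z / p)) = p := orderOf_pow_orderOf_div (orderOf_pos z).ne' hz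
  have h1 : z ∈ Subgroup.centralizer {z ^ (orderOf z / p)} := by
    rw [Subgroup.mem_centralizer_singleton_iff, ← pow_succ, ← pow_succ']
  refine ⟨⟨?_, ?_⟩, ⟨p, _, hp, hpq, ho, rfl⟩, h1⟩
  · rintro rfl
    rw [orderOf_one] at hz
    exact hp.one_lt.ne' (Nat.dvd_one.1 hz)
  · obtain ⟨c, hc⟩ := card_centP hK hm hp hpq ho
    have := pow_card_of_mem hK h1
    show z ^ ((3 ^ (2 * m + 1)) ^ 2 - 3 ^ (2 * m + 1) + 1) = 1
    rw [hc, pow_mul, this, one_pow]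

theorem cover (hm : 1 ≤ m) (z : GG K m) : z = 1 ∨ C1 z ∨ C2 z ∨ C3 z ∨ C4 z ∨ C5 z ∨ C6 z := by
  obtain ⟨A, hA⟩ := exists_torB hK hm
  by_cases hw : z ^ (8 * 3 ^ ((2 * m + 1) * 3)) = 1
  · rcases class_23 hK hm _ hw with h | h | h
    · by_cases h1 : z = 1
      · exact Or.inl h1
      · right; left
        obtain ⟨g, hg⟩ := conj_into_UU hK _ h
        have : z ∈ cu {z | z ∈ UU K m ∧ z ≠ 1} := by
          refine ⟨g, _, ⟨hg, ?_⟩, by group⟩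
          have := conj_ne_one (g := g⁻¹) h1
          rwa [inv_inv] at this
        rw [cu_C1 hK] at this
        exact this
    · rw [cu_C3 hK hm] at h
      exact Or.inr (Or.inr (Or.inr (Or.inl h)))
    · rw [cu_C4 hK hm] at h
      exact Or.inr (Or.inr (Or.inr (Or.inr (Or.inl h))))
  · set w := z ^ (8 * 3 ^ ((2 * m + 1) * 3)) with hw'
    have hd1 : orderOf w ≠ 1 := fun h => hw (orderOf_eq_one_iff.1 h)
    obtain ⟨k₁, hk₁⟩ := half_odd m
    obtain ⟨k₂, hk₂⟩ := quarter_odd m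
    have hwo : w ^ ((2 * k₁ + 1) * (2 * k₂ + 1) * Ph m) = 1 := by
      rw [hw', ← pow_mul]
      have e : 8 * 3 ^ ((2 * m + 1) * 3) * ((2 * k₁ + 1) * (2 * k₂ + 1) * Ph m) = Nat.card (GG K m) := by
        rw [card_G1 hK, q3_eq, hk₁, hk₂, pow_mul]; ring
      rw [e, pow_card_eq_one']
    have hp : (orderOf w).minFac.Prime := Nat.minFac_prime hd1
    have hpw : (orderOf w).minFac ∣ orderOf w := Nat.minFac_dvd _
    have hpz : (orderOf w).minFac ∣ orderOf z := hpw.trans (orderOf_pow_dvd _)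
    have hpo := hpw.trans (orderOf_dvd_of_pow_eq_one hwo)
    generalize (orderOf w).minFac = p at *
    rcases (Nat.Prime.dvd_mul hp).1 hpo with h | h
    · rcases (Nat.Prime.dvd_mul hp).1 h with h | h
      · have hp2 : p ≠ 2 := by rintro rfl; omega
        have := class_A hK hp hp2 (by rw [hk₁]; exact h.mul_left 2) hpz
        rw [cu_C2 hK] at this
        exact Or.inr (Or.inr (Or.inl this))
      · have hp2 : p ≠ 2 := by rintro rfl; omega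
        have := class_B hK hm hA hp hp2 (by rw [hk₂]; exact h.mul_left 4) hpz
        rw [cu_C5 hK hm hA] at this
        exact Or.inr (Or.inr (Or.inr (Or.inr (Or.inr (Or.inl this)))))
    · exact Or.inr (Or.inr (Or.inr (Or.inr (Or.inr (Or.inr (class_P hK hm hp h hpz).1)))))

end main

end Cfsg.Agent.Lib.Helper8Ree26
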