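import Cfsg.Agent.Lib.Helper8Ree26

set_option autoImplicit false
set_option linter.unusedSectionVars false
set_option linter.unusedVariables false

namespace Cfsg.Agent.Lib.Helper8Ree27

open Cfsg.Lie Cfsg.Agent.Lib.Helper22ChevBasic Cfsg.Agent.Lib.Helper8Ree2
  Cfsg.Agent.Lib.Helper8Ree5
  Cfsg.Agent.Lib.Helper8Ree6 Cfsg.Agent.Lib.Helper8Ree7 Cfsg.Agent.Lib.Helper8Ree8 Cfsg.Agent.Lib.Helper8Ree9
  Cfsg.Agent.Lib.Helper8Ree10 Cfsg.Agent.Lib.Helper8Ree11 Cfsg.Agent.Lib.Helper8Ree12 Cfsg.Agent.Lib.Helper8Ree14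
  Cfsg.Agent.Lib.Helper8Ree15 Cfsg.Agent.Lib.Helper8Ree16 Cfsg.Agent.Lib.Helper8Ree17 Cfsg.Agent.Lib.Helper8Ree18
  Cfsg.Agent.Lib.Helper8Ree19 Cfsg.Agent.Lib.Helper8Ree20 Cfsg.Agent.Lib.Helper8Ree21 Cfsg.Agent.Lib.Helper8Ree22
  Cfsg.Agent.Lib.Helper8Ree23 Cfsg.Agent.Lib.Helper8Ree24 Cfsg.Agent.Lib.Helper8Ree25 Cfsg.Agent.Lib.Helper8Ree26
  Cfsg.Agent.Lib.Helper8Rank1 Cfsg.Agent.Lib.Helper8Cnt Cfsg.Agent.Lib.Helper8Cnt2 Cfsg.Agent.Lib.Helper8Ab

variable {K : Type*} [Field K] [Fintype K] [CharP K 3]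

section main

variable {m : ℕ} (hK : Fintype.card K = 3 ^ (2 * m + 1))
include hK

theorem dj {P Q : GG K m → Prop} (h : ∀ z, P z → Q z → False) : Disjoint {z | P z} {z | Q z} :=
  Set.disjoint_left.2 (fun z h1 h2 => h z h1 h2)

theorem total (hm : 1 ≤ m) : Nat.card (GG K m) = 1 + ({z : GG K m | C1 z}.ncard + ({z : GG K m | C2 z}.ncard +
    ({z : GG K m | C3 z}.ncard + ({z : GG K m | C4 z}.ncard + ({z : GG K m | C5 z}.ncard + {z : GG K m | C6 z}.ncard))))) := by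
  have hU : (Set.univ : Set (GG K m)) = {z | z = 1} ∪ ({z | C1 z} ∪ ({z | C2 z} ∪ ({z | C3 z} ∪ ({z | C4 z} ∪
      ({z | C5 z} ∪ {z | C6 z}))))) := by
    ext z
    simp only [Set.mem_univ, Set.mem_union, Set.mem_ofPred_eq, true_iff]
    exact cover hK hm z
  have o1 : ∀ z : GG K m, z = 1 → C1 z → False := fun z h h' => h'.1 h
  have o2 : ∀ z : GG K m, z = 1 → C2 z → False := fun z h h' => h'.2 (by rw [h, one_mul])
  have o3 : ∀ z : GG K m, z = 1 → C3 z → False := fun z h h' => h'.1 h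
  have o4 : ∀ z : GG K m, z = 1 → C4 z → False := fun z h h' => by
    unfold C4 at h'; rw [h, orderOf_one] at h'; omega
  have o5 : ∀ z : GG K m, z = 1 → C5 z → False := fun z h h' => h'.2 (by rw [h, one_mul])
  have o6 : ∀ z : GG K m, z = 1 → C6 z → False := fun z h h' => h'.1 h
  rw [← Set.ncard_univ, hU]
  rw [Set.ncard_union_eq (by
      simp only [Set.disjoint_union_right]
      exact ⟨dj hK o1, dj hK o2, dj hK o3, dj hK o4, dj hK o5, dj hK o6⟩) (Set.toFinite _) (Set.toFinite _),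
    Set.ncard_union_eq (by
      simp only [Set.disjoint_union_right]
      exact ⟨dj hK d12, dj hK d13, dj hK d14, dj hK d15, dj hK d16⟩) (Set.toFinite _) (Set.toFinite _),
    Set.ncard_union_eq (by
      simp only [Set.disjoint_union_right]
      exact ⟨dj hK d23, dj hK d24, dj hK d25, dj hK d26⟩) (Set.toFinite _) (Set.toFinite _),
    Set.ncard_union_eq (by
      simp only [Set.disjoint_union_right]
      exact ⟨dj hK d34, dj hK d35, dj hK d36⟩) (Set.toFinite _) (Set.toFinite _),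
    Set.ncard_union_eq (by
      simp only [Set.disjoint_union_right]
      exact ⟨dj hK d45, dj hK d46⟩) (Set.toFinite _) (Set.toFinite _),
    Set.ncard_union_eq (dj hK d56) (Set.toFinite _) (Set.toFinite _)]
  congr 1
  exact Set.ncard_singleton 1

theorem n1 : {z : GG K m | C1 z}.ncard = ((3 ^ (2 * m + 1)) ^ 3 + 1) * ((3 ^ (2 * m + 1)) ^ 3 - 1) := by
  rw [← cu_C1 hK, count_UU hK (fun z => z ≠ 1) (fun g z h => conj_ne_one h) (fun z h => h)]
  congr 1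
  have := ncard_ns (UU K m)
  rw [card_UU hK] at this
  exact this

theorem n2 (hm : 1 ≤ m) : 2 * {z : GG K m | C2 z}.ncard =
    (3 ^ (2 * m + 1)) ^ 3 * ((3 ^ (2 * m + 1)) ^ 3 + 1) * (3 ^ (2 * m + 1) - 3) := by
  rw [← cu_C2 hK, count_HH hK hm (fun z => z * z ≠ 1) (fun g z h => sq_conj hK h) (fun z h => h)]
  congr 1
  exact ncard_M2 hK

theorem n3 (hm : 1 ≤ m) : {z : GG K m | C3 z}.ncard = (3 ^ (2 * m + 1)) ^ 2 * Ph m := by
  rw [← cu_C3 hK hm, count_invol hK]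

theorem n4 (hm : 1 ≤ m) : {z : GG K m | C4 z}.ncard =
    (3 ^ (2 * m + 1)) ^ 2 * ((3 ^ (2 * m + 1)) ^ 3 + 1) * (3 ^ (2 * m + 1) - 1) := by
  rw [← cu_C4 hK hm, count_M4 hK]

theorem n5 (hm : 1 ≤ m) {A : Subgroup (GG K m)} (hA : IsTorB m A) : {z : GG K m | C5 z}.ncard =
    (Subgroup.normalizer (A : Set (GG K m))).index * (3 ^ (2 * m + 1) - 3) := by
  rw [← cu_C5 hK hm hA, count_torB hK hm hA (fun z => z * z ≠ 1) (fun g z h => sq_conj hK h) (fun z h => h),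
    ncard_M5 hK hm hA]

/-- the number of elements of order dividing `q² - q + 1` -/
theorem n6 (hm : 1 ≤ m) {A : Subgroup (GG K m)} (hA : IsTorB m A) :
    (Nat.card (Subgroup.normalizer (A : Set (GG K m))) = 2 * (3 ^ (2 * m + 1) + 1) ∧
      {z : GG K m | C6 z}.ncard = (3 ^ (2 * m + 1)) ^ 3 * (3 ^ (2 * m + 1) - 1) ^ 3) ∨
    (Nat.card (Subgroup.normalizer (A : Set (GG K m))) = 6 * (3 ^ (2 * m + 1) + 1) ∧
      3 * {z : GG K m | C6 z}.ncard =
        (3 ^ (2 * m + 1)) ^ 4 * (3 ^ (2 * m + 1) - 1) * (3 ^ (2 * m + 1) + 1) * (3 ^ (2 * m + 1) - 2)) := by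
  have ht := total hK hm
  rw [n1 hK, n3 hK hm, n4 hK hm, n5 hK hm hA, card_G1 hK] at ht
  have h2 := n2 hK hm
  have hidx := Subgroup.card_mul_index (Subgroup.normalizer (A : Set (GG K m)))
  rw [card_G1 hK] at hidx
  have hq := q_ge hK hm
  rw [hK] at hq
  unfold Ph at ht
  generalize {z : GG K m | C6 z}.ncard = x6 at *
  generalize {z : GG K m | C2 z}.ncard = x2 at *
  generalize (Subgroup.normalizer (A : Set (GG K m))).index = I at *
  rcases torB_norm hK hm hA with h | h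
  · left
    refine ⟨h, ?_⟩
    rw [h] at hidx
    generalize 3 ^ (2 * m + 1) = q at *
    obtain ⟨s, rfl⟩ : ∃ s, q = s + 3 := ⟨q - 3, by omega⟩
    have e1 : s + 3 - 1 = s + 2 := by omega
    have e2 : s + 3 - 3 = s := by omega
    have e3 : (s + 3) ^ 2 - (s + 3) + 1 = s ^ 2 + 5 * s + 7 := by
      have : (s + 3) ^ 2 = s ^ 2 + 5 * s + 6 + (s + 3) := by ring
      omega
    have e4 : (s + 3) ^ 3 - 1 = s ^ 3 + 9 * s ^ 2 + 27 * s + 26 := by
      have : (s + 3) ^ 3 = s ^ 3 + 9 * s ^ 2 + 27 * s + 26 + 1 := by ring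
      omega
    rw [e1, e2, e3, e4] at ht
    rw [e1] at hidx ⊢
    rw [e2] at h2
    have hI : 2 * I = (s + 3) ^ 3 * (s + 2) * (s ^ 2 + 5 * s + 7) := by
      apply Nat.eq_of_mul_eq_mul_left (show 0 < s + 3 + 1 by omega)
      linear_combination hidx
    apply Nat.eq_of_mul_eq_mul_left (show 0 < 2 by norm_num)
    zify at ht h2 hI ⊢
    linear_combination (-2 : ℤ) * ht - h2 - (s : ℤ) * hI
  · right
    refine ⟨h, ?_⟩
    rw [h] at hidx
    generalize 3 ^ (2 * m + 1) = q at *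
    obtain ⟨s, rfl⟩ : ∃ s, q = s + 3 := ⟨q - 3, by omega⟩
    have e1 : s + 3 - 1 = s + 2 := by omega
    have e2 : s + 3 - 3 = s := by omega
    have e5 : s + 3 - 2 = s + 1 := by omega
    have e3 : (s + 3) ^ 2 - (s + 3) + 1 = s ^ 2 + 5 * s + 7 := by
      have : (s + 3) ^ 2 = s ^ 2 + 5 * s + 6 + (s + 3) := by ring
      omega
    have e4 : (s + 3) ^ 3 - 1 = s ^ 3 + 9 * s ^ 2 + 27 * s + 26 := by
      have : (s + 3) ^ 3 = s ^ 3 + 9 * s ^ 2 + 27 * s + 26 + 1 := by ring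
      omega
    rw [e1, e2, e3, e4] at ht
    rw [e1] at hidx ⊢
    rw [e5]
    rw [e2] at h2
    have hI : 6 * I = (s + 3) ^ 3 * (s + 2) * (s ^ 2 + 5 * s + 7) := by
      apply Nat.eq_of_mul_eq_mul_left (show 0 < s + 3 + 1 by omega)
      linear_combination hidx
    apply Nat.eq_of_mul_eq_mul_left (show 0 < 2 by norm_num)
    zify at ht h2 hI ⊢
    linear_combination (-6 : ℤ) * ht - 3 * h2 - (s : ℤ) * hI

end main

end Cfsg.Agent.Lib.Helper8Ree27
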