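import Cfsg.Agent.Lib.Helper8Ree27
import Cfsg.Agent.Lib.Helper8Ar

set_option autoImplicit false
set_option linter.unusedSectionVars false
set_option linter.unusedVariables false

namespace Cfsg.Agent.Lib.Helper8Ree28

open Cfsg.Lie Cfsg.Agent.Lib.Helper22ChevBasic Cfsg.Agent.Lib.Helper8Ree2
  Cfsg.Agent.Lib.Helper8Ree5
  Cfsg.Agent.Lib.Helper8Ree6 Cfsg.Agent.Lib.Helper8Ree7 Cfsg.Agent.Lib.Helper8Ree8 Cfsg.Agent.Lib.Helper8Ree9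
  Cfsg.Agent.Lib.Helper8Ree10 Cfsg.Agent.Lib.Helper8Ree11 Cfsg.Agent.Lib.Helper8Ree12 Cfsg.Agent.Lib.Helper8Ree14
  Cfsg.Agent.Lib.Helper8Ree15 Cfsg.Agent.Lib.Helper8Ree16 Cfsg.Agent.Lib.Helper8Ree17 Cfsg.Agent.Lib.Helper8Ree18
  Cfsg.Agent.Lib.Helper8Ree19 Cfsg.Agent.Lib.Helper8Ree20 Cfsg.Agent.Lib.Helper8Ree21 Cfsg.Agent.Lib.Helper8Ree22
  Cfsg.Agent.Lib.Helper8Ree23 Cfsg.Agent.Lib.Helper8Ree24 Cfsg.Agent.Lib.Helper8Ree25 Cfsg.Agent.Lib.Helper8Ree26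
  Cfsg.Agent.Lib.Helper8Ree27 Cfsg.Agent.Lib.Helper8Ar
  Cfsg.Agent.Lib.Helper8Rank1 Cfsg.Agent.Lib.Helper8Cnt Cfsg.Agent.Lib.Helper8Cnt2 Cfsg.Agent.Lib.Helper8Ab

variable {K : Type*} [Field K] [Fintype K] [CharP K 3]

section main

variable {m : ℕ} (hK : Fintype.card K = 3 ^ (2 * m + 1))
include hK

theorem prime_ge7 {p : ℕ} (hp : p.Prime) (hpq : p ∣ Ph m) : 7 ≤ p := by
  have : Fact p.Prime := ⟨hp⟩
  have hq := q_pos hK
  have hq1 : 1 ≤ 3 ^ (2 * m + 1) := by omega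
  have ho := order_six hq1 (three_dvd_q hK) hpq
  have hne : ((3 ^ (2 * m + 1) : ℕ) : ZMod p) ≠ 0 := by
    intro h
    rw [ZMod.natCast_eq_zero_iff] at h
    exact not_dvd_q hq1 hpq h
  have h1 := ZMod.orderOf_dvd_card_sub_one hne
  rw [ho] at h1
  have h2 := hp.two_le
  have := Nat.le_of_dvd (by omega) h1
  omega

theorem tor_ge7 (hm : 1 ≤ m) {A : Subgroup (GG K m)} (hA : IsTor m A) : 7 ≤ Nat.card A := by
  obtain ⟨p, x, hp, hpq, hx, rfl⟩ := hA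
  have h1 := prime_ge7 hK hp hpq
  have h2 : orderOf x ∣ Nat.card ↥(Subgroup.centralizer {x}) := dvd_card_cent rfl
  rw [hx] at h2
  have := Nat.le_of_dvd Nat.card_pos h2
  omega

theorem tor_eq (hm : 1 ≤ m) {A : Subgroup (GG K m)} (hA : IsTor m A) :
    ∃ w, w ∣ 6 ∧ Nat.card (Subgroup.normalizer (A : Set (GG K m))) = Nat.card A * w ∧
      (cu (ns A)).ncard * (Nat.card A * w) = Nat.card (GG K m) * (Nat.card A - 1) := by
  obtain ⟨w, hw, hN⟩ := tor_norm hK hm hA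
  refine ⟨w, hw, hN, ?_⟩
  rw [tor_count hK hm hA, ← hN, ← Subgroup.card_mul_index (Subgroup.normalizer (A : Set (GG K m)))]
  ring

theorem tor_sub (hm : 1 ≤ m) {A : Subgroup (GG K m)} (hA : IsTor m A) : cu (ns A) ⊆ {z | C6 z} := by
  rintro z ⟨g, y, ⟨hy, hy1⟩, rfl⟩
  refine ⟨conj_ne_one hy1, ?_⟩
  obtain ⟨c, hc⟩ := tor_card hK hm hA
  rw [conj_pow, hc, pow_mul, pow_card_of_mem hK hy, one_pow]; group

theorem exists_tor (hm : 1 ≤ m) {z : GG K m} (hz : C6 z) : ∃ A, IsTor m A ∧ z ∈ cu (ns A) := by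
  have hz' := c6_iff.1 hz
  have hp := Nat.minFac_prime hz'.1
  have hpd := Nat.minFac_dvd (orderOf z)
  obtain ⟨-, h1, h2⟩ := class_P hK hm hp (hpd.trans hz'.2) hpd
  exact ⟨_, h1, subset_cu _ ⟨h2, hz.1⟩⟩

theorem tor_disj (hm : 1 ≤ m) {A B : Subgroup (GG K m)} (hA : IsTor m A) (hB : IsTor m B) {z : GG K m}
    (hzB : z ∈ cu (ns B)) (hzA : z ∉ cu (ns A)) : Disjoint (cu (ns A)) (cu (ns B)) := by
  rw [Set.disjoint_left]
  intro y hy hy'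
  obtain ⟨g, rfl⟩ := tor_meet hK hm hA hB hy hy'
  rw [cu_cj] at hzB
  exact hzA hzB

theorem tor_coprime (hm : 1 ≤ m) {A B : Subgroup (GG K m)} (hA : IsTor m A) (hB : IsTor m B)
    (hd : Disjoint (cu (ns A)) (cu (ns B))) : Nat.Coprime (Nat.card A) (Nat.card B) := by
  apply Nat.coprime_of_dvd
  intro k hk h1 h2
  have : Fact k.Prime := ⟨hk⟩
  obtain ⟨x, hx⟩ := exists_prime_orderOf_dvd_card' k h1
  obtain ⟨y, hy⟩ := exists_prime_orderOf_dvd_card' k h2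
  rw [← Subgroup.orderOf_coe] at hx hy
  have hkP : k ∣ Ph m := h1.trans (tor_card hK hm hA)
  have hkd : k ∣ 3 ^ (2 * m + 1) - 3 ^ (m + 1) + 1 ∨ k ∣ 3 ^ (2 * m + 1) + 3 ^ (m + 1) + 1 := by
    unfold Ph at hkP
    rw [← phi_factor] at hkP
    exact (Nat.Prime.dvd_mul hk).1 hkP
  obtain ⟨g, hg⟩ := s2358 hK hm k (Or.inr (Or.inr hkd)) (Subgroup.zpowers (x : GG K m)) (Subgroup.zpowers (y : GG K m))
    inferInstance inferInstance (by rw [Nat.card_zpowers, hx]) (by rw [Nat.card_zpowers, hy])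
  have hx1 : (x : GG K m) ≠ 1 := by
    intro h
    rw [h, orderOf_one] at hx
    exact hk.one_lt.ne hx
  have h3 : g * (x : GG K m) * g⁻¹ ∈ Subgroup.zpowers (y : GG K m) := by
    rw [hg]; exact ⟨x, Subgroup.mem_zpowers _, rfl⟩
  have h4 : g * (x : GG K m) * g⁻¹ ∈ B := (Subgroup.zpowers_le.2 y.2) h3
  exact Set.disjoint_left.1 hd ⟨g, x, ⟨x.2, hx1⟩, rfl⟩ (subset_cu _ ⟨h4, conj_ne_one hx1⟩)

theorem exists_C6 : ∃ z : GG K m, C6 z := by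
  have hq := q_pos hK
  have hP1 : Ph m ≠ 1 := by
    unfold Ph
    have : 3 ^ (2 * m + 1) * 3 ≤ (3 ^ (2 * m + 1)) ^ 2 := by
      rw [pow_two]; exact Nat.mul_le_mul_left _ hq
    omega
  have hp := Nat.minFac_prime hP1
  have : Fact (Ph m).minFac.Prime := ⟨hp⟩
  have hpd := Nat.minFac_dvd (Ph m)
  have hpG : (Ph m).minFac ∣ Nat.card (GG K m) := by
    rw [card_G1 hK, q3_eq]
    exact (hpd.mul_left _).mul_left _
  obtain ⟨y, hy⟩ := exists_prime_orderOf_dvd_card' _ hpG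
  refine ⟨y, c6_iff.2 ⟨?_, by rw [hy]; exact hpd⟩⟩
  rw [hy]; exact hp.one_lt.ne'

theorem tor_data (hm : 1 ≤ m) {A : Subgroup (GG K m)} (hA : IsTor m A) :
    ∃ b w, Nat.card A = b + 1 ∧ 6 ≤ b ∧ w ∣ 6 ∧ Nat.card (Subgroup.normalizer (A : Set (GG K m))) = (b + 1) * w ∧
      (cu (ns A)).ncard * ((b + 1) * w) = Nat.card (GG K m) * b ∧ b + 1 ∣ Ph m := by
  obtain ⟨w, hw, hN, h⟩ := tor_eq hK hm hA
  have h7 := tor_ge7 hK hm hA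
  have hd := tor_card hK hm hA
  obtain ⟨b, hb⟩ : ∃ b, Nat.card A = b + 1 := ⟨Nat.card A - 1, by omega⟩
  rw [hb] at hN h hd
  exact ⟨b, w, hb, by omega, hw, hN, h, hd⟩

theorem tori (hm : 1 ≤ m) : ∃ A₁ A₂ : Subgroup (GG K m), IsTor m A₁ ∧ IsTor m A₂ ∧
    Nat.card A₁ = 3 ^ (2 * m + 1) - 3 ^ (m + 1) + 1 ∧ Nat.card A₂ = 3 ^ (2 * m + 1) + 3 ^ (m + 1) + 1 ∧
    Nat.card (Subgroup.normalizer (A₁ : Set (GG K m))) = 6 * (3 ^ (2 * m + 1) - 3 ^ (m + 1) + 1) ∧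
    Nat.card (Subgroup.normalizer (A₂ : Set (GG K m))) = 6 * (3 ^ (2 * m + 1) + 3 ^ (m + 1) + 1) ∧
    (∀ z, C6 z → z ∈ cu (ns A₁) ∨ z ∈ cu (ns A₂)) ∧
    (∀ A : Subgroup (GG K m), IsTorB m A →
      Nat.card (Subgroup.normalizer (A : Set (GG K m))) = 6 * (3 ^ (2 * m + 1) + 1)) ∧
    Nat.Coprime (Nat.card A₁) (Nat.card A₂) := by
  have hq := q_ge hK hm
  rw [hK] at hq
  have hr : (3 ^ (m + 1)) ^ 2 = 3 * 3 ^ (2 * m + 1) := by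
    rw [← pow_mul, ← pow_succ']; congr 1; ring
  have hcop := f6 m
  have hodd := f4 m
  have hg := card_G1 hK
  rw [q3_eq] at hg
  obtain ⟨s, hs⟩ : ∃ s, 3 ^ (2 * m + 1) = s + 2 := ⟨3 ^ (2 * m + 1) - 2, by omega⟩
  have hP : Ph m = s ^ 2 + 3 * s + 3 := by
    unfold Ph
    rw [hs]
    have : (s + 2) ^ 2 = s ^ 2 + 3 * s + 2 + (s + 2) := by ring
    omega
  have hs25 : 25 ≤ s := by omega
  have hg' : Nat.card (GG K m) = (s + 2) ^ 3 * (s + 1) * (s + 3) * (s ^ 2 + 3 * s + 3) := by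
    rw [hg]
    have : (3 ^ (2 * m + 1)) ^ 2 - 3 ^ (2 * m + 1) + 1 = Ph m := rfl
    rw [this, hP, hs]
    have e1 : s + 2 - 1 = s + 1 := by omega
    rw [e1]; ring
  rw [hs, hP] at hcop
  rw [hP] at hodd
  rw [hs] at hr
  -- first torus
  obtain ⟨z₁, hz₁⟩ := exists_C6 hK
  obtain ⟨A₁, hA₁, hzA₁⟩ := exists_tor hK hm hz₁
  obtain ⟨b₁, w₁, hc₁, hb₁, hw₁, hN₁, ht₁, hd₁⟩ := tor_data hK hm hA₁
  have hw₁0 : 0 < w₁ := Nat.pos_of_dvd_of_pos hw₁ (by norm_num)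
  have hw₁6 : w₁ ≤ 6 := Nat.le_of_dvd (by norm_num) hw₁
  have hlow₁ := lowA ht₁ hb₁ hw₁6 hw₁0
  have hsub₁ := tor_sub hK hm hA₁
  have hle₁ : (cu (ns A₁)).ncard ≤ {z : GG K m | C6 z}.ncard := Set.ncard_le_ncard hsub₁ (Set.toFinite _)
  -- the value of `n6`
  have key : 3 * {z : GG K m | C6 z}.ncard = (s + 2) ^ 4 * (s + 1) * (s + 3) * s ∧
      ∀ A : Subgroup (GG K m), IsTorB m A →
        Nat.card (Subgroup.normalizer (A : Set (GG K m))) = 6 * (3 ^ (2 * m + 1) + 1) := by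
    have aux : ∀ A : Subgroup (GG K m), IsTorB m A →
        Nat.card (Subgroup.normalizer (A : Set (GG K m))) = 6 * (3 ^ (2 * m + 1) + 1) ∧
        3 * {z : GG K m | C6 z}.ncard = (s + 2) ^ 4 * (s + 1) * (s + 3) * s := by
      intro A hA
      rcases n6 hK hm hA with ⟨-, h⟩ | ⟨h1, h⟩
      · exfalso
        rw [hs] at h
        have e1 : s + 2 - 1 = s + 1 := by omega
        rw [e1] at h
        exact lemB hs25 hg' h hlow₁ hle₁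
      · refine ⟨h1, ?_⟩
        rw [hs] at h
        have e1 : s + 2 - 1 = s + 1 := by omega
        have e2 : s + 2 - 2 = s := by omega
        have e3 : s + 2 + 1 = s + 3 := by omega
        rw [e1, e2, e3] at h
        exact h
    obtain ⟨A, hA⟩ := exists_torB hK hm
    exact ⟨(aux A hA).2, fun A hA => (aux A hA).1⟩
  obtain ⟨hx6, hB⟩ := key
  rw [hP] at hd₁
  -- second torus
  by_cases hall₁ : ∀ z : GG K m, C6 z → z ∈ cu (ns A₁)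
  · exfalso
    have heq : cu (ns A₁) = {z : GG K m | C6 z} := Set.Subset.antisymm hsub₁ hall₁
    rw [← heq] at hx6
    exact lemD hs25 hg' hx6 ht₁ hb₁ hw₁ hd₁ hcop
  push Not at hall₁
  obtain ⟨z₂, hz₂, hz₂A⟩ := hall₁
  obtain ⟨A₂, hA₂, hzA₂⟩ := exists_tor hK hm hz₂
  obtain ⟨b₂, w₂, hc₂, hb₂, hw₂, hN₂, ht₂, hd₂⟩ := tor_data hK hm hA₂
  have hw₂0 : 0 < w₂ := Nat.pos_of_dvd_of_pos hw₂ (by norm_num)
  have hw₂6 : w₂ ≤ 6 := Nat.le_of_dvd (by norm_num) hw₂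
  have hlow₂ := lowA ht₂ hb₂ hw₂6 hw₂0
  have hsub₂ := tor_sub hK hm hA₂
  have hdj₁₂ := tor_disj hK hm hA₁ hA₂ hzA₂ hz₂A
  rw [hP] at hd₂
  by_cases hall₂ : ∀ z : GG K m, C6 z → z ∈ cu (ns A₁) ∪ cu (ns A₂)
  · have heq : cu (ns A₁) ∪ cu (ns A₂) = {z : GG K m | C6 z} :=
      Set.Subset.antisymm (Set.union_subset hsub₁ hsub₂) hall₂
    rw [← heq, Set.ncard_union_eq hdj₁₂ (Set.toFinite _) (Set.toFinite _)] at hx6
    have hcp := tor_coprime hK hm hA₁ hA₂ hdj₁₂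
    have hcp0 := hcp
    rw [hc₁, hc₂] at hcp
    obtain ⟨rfl, rfl, h | h⟩ := lemE hs25 hg' hx6 ht₁ hb₁ hw₁ hd₁ ht₂ hb₂ hw₂ hd₂ hcop hodd hcp hr
    · refine ⟨A₁, A₂, hA₁, hA₂, ?_, ?_, ?_, ?_, fun z hz => hall₂ z hz, hB, hcp0⟩
      · rw [hc₁, hs]; omega
      · rw [hc₂, hs]; omega
      · rw [hN₁, hs]; omega
      · rw [hN₂, hs]; omega
    · refine ⟨A₂, A₁, hA₂, hA₁, ?_, ?_, ?_, ?_, fun z hz => (hall₂ z hz).symm, hB, hcp0.symm⟩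
      · rw [hc₂, hs]; omega
      · rw [hc₁, hs]; omega
      · rw [hN₂, hs]; omega
      · rw [hN₁, hs]; omega
  · exfalso
    push Not at hall₂
    obtain ⟨z₃, hz₃, hz₃A⟩ := hall₂
    obtain ⟨A₃, hA₃, hzA₃⟩ := exists_tor hK hm hz₃
    obtain ⟨b₃, w₃, hc₃, hb₃, hw₃, hN₃, ht₃, hd₃⟩ := tor_data hK hm hA₃
    have hw₃0 : 0 < w₃ := Nat.pos_of_dvd_of_pos hw₃ (by norm_num)
    have hw₃6 : w₃ ≤ 6 := Nat.le_of_dvd (by norm_num) hw₃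
    have hlow₃ := lowA ht₃ hb₃ hw₃6 hw₃0
    have hsub₃ := tor_sub hK hm hA₃
    have hdj₁₃ := tor_disj hK hm hA₁ hA₃ hzA₃ (fun h => hz₃A (Or.inl h))
    have hdj₂₃ := tor_disj hK hm hA₂ hA₃ hzA₃ (fun h => hz₃A (Or.inr h))
    have hle : (cu (ns A₁)).ncard + (cu (ns A₂)).ncard + (cu (ns A₃)).ncard ≤ {z : GG K m | C6 z}.ncard := by
      rw [← Set.ncard_union_eq hdj₁₂ (Set.toFinite _) (Set.toFinite _),
        ← Set.ncard_union_eq (Set.disjoint_union_left.2 ⟨hdj₁₃, hdj₂₃⟩) (Set.toFinite _) (Set.toFinite _)]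
      exact Set.ncard_le_ncard (Set.union_subset (Set.union_subset hsub₁ hsub₂) hsub₃) (Set.toFinite _)
    exact lemC hs25 hg' hx6 hlow₁ hlow₂ hlow₃ hle

end main

end Cfsg.Agent.Lib.Helper8Ree28
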