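import Cfsg.Agent.Lib.Helper8Ree28

set_option autoImplicit false
set_option linter.unusedSectionVars false
set_option linter.unusedVariables false

namespace Cfsg.Agent.Lib.Helper8Ree29

open Cfsg.Lie Cfsg.Agent.Lib.Helper22ChevBasic Cfsg.Agent.Lib.Helper8Ree2
  Cfsg.Agent.Lib.Helper8Ree5
  Cfsg.Agent.Lib.Helper8Ree6 Cfsg.Agent.Lib.Helper8Ree7 Cfsg.Agent.Lib.Helper8Ree8 Cfsg.Agent.Lib.Helper8Ree9
  Cfsg.Agent.Lib.Helper8Ree10 Cfsg.Agent.Lib.Helper8Ree11 Cfsg.Agent.Lib.Helper8Ree12 Cfsg.Agent.Lib.Helper8Ree14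
  Cfsg.Agent.Lib.Helper8Ree15 Cfsg.Agent.Lib.Helper8Ree16 Cfsg.Agent.Lib.Helper8Ree17 Cfsg.Agent.Lib.Helper8Ree18
  Cfsg.Agent.Lib.Helper8Ree19 Cfsg.Agent.Lib.Helper8Ree20 Cfsg.Agent.Lib.Helper8Ree21 Cfsg.Agent.Lib.Helper8Ree22
  Cfsg.Agent.Lib.Helper8Ree23 Cfsg.Agent.Lib.Helper8Ree24 Cfsg.Agent.Lib.Helper8Ree25 Cfsg.Agent.Lib.Helper8Ree26
  Cfsg.Agent.Lib.Helper8Ree27 Cfsg.Agent.Lib.Helper8Ree28 Cfsg.Agent.Lib.Helper8Ar
  Cfsg.Agent.Lib.Helper8Rank1 Cfsg.Agent.Lib.Helper8Cnt Cfsg.Agent.Lib.Helper8Cnt2 Cfsg.Agent.Lib.Helper8Ab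

variable {K : Type*} [Field K] [Fintype K] [CharP K 3]

theorem exists_gen {G : Type*} [Group G] (X : Subgroup G) (hX : IsCyclic X) : ∃ x ∈ X, orderOf x = Nat.card X := by
  obtain ⟨x, hx⟩ := hX.exists_generator
  refine ⟨x, x.2, ?_⟩
  rw [Subgroup.orderOf_coe]
  exact orderOf_eq_card_of_forall_mem_zpowers hx

theorem exists_of_dvd {G : Type*} [Group G] [Finite G] {x : G} {d : ℕ} (h : d ∣ orderOf x) : ∃ g : G, orderOf g = d :=
  ⟨_, orderOf_pow_orderOf_div (orderOf_pos x).ne' h⟩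

theorem half_eq (m : ℕ) : (3 ^ (2 * m + 1) + 1) / 2 = 2 * kk m := by
  have := (kk_spec m).2
  omega

section main

variable {m : ℕ} (hK : Fintype.card K = 3 ^ (2 * m + 1))
include hK

theorem order_dvd_of_mem_cu {A : Subgroup (GG K m)} {z : GG K m} (hz : z ∈ cu (ns A)) : orderOf z ∣ Nat.card A := by
  obtain ⟨g, y, ⟨hy, -⟩, rfl⟩ := hz
  rw [orderOf_conj]
  exact orderOf_dvd_of_pow_eq_one (pow_card_of_mem hK hy)

theorem exists_order_half (hm : 1 ≤ m) : ∃ x : GG K m, orderOf x = 2 * kk m := by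
  obtain ⟨A, hA⟩ := exists_torB hK hm
  obtain ⟨d, hd, hdo⟩ := exists_gen _ (torB_D_cyc hK hm hA)
  rw [(torB_split hK hm hA).1] at hdo
  have hcomm := torB_comm hK hm hA
  obtain ⟨p, y, hp, hp2, hpq, hy, rfl⟩ := id hA
  obtain ⟨t, ht1, ht2, hyt⟩ := exists_invol hK hp hp2 hpq hy
  have htA : t ∈ Subgroup.centralizer {y} := Subgroup.mem_centralizer_singleton_iff.2 hyt.symm
  have hto : orderOf t = 2 := by
    rw [orderOf_eq_prime_iff]
    exact ⟨by rw [pow_two, ht2], ht1⟩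
  refine ⟨t * d, ?_⟩
  rw [(show Commute t d from hcomm t htA d hd.1).orderOf_mul_eq_mul_orderOf_of_coprime, hto, hdo]
  rw [hto, hdo]
  exact (Nat.coprime_two_left).2 (kk_spec m).1

theorem s1159 (hm : 1 ≤ m) (d : ℕ) :
    (∃ g : GG K m, orderOf g = d) ↔
      (d ∣ 6 ∨ d ∣ 9 ∨ d ∣ 3 ^ (2 * m + 1) - 1 ∨ d ∣ (3 ^ (2 * m + 1) + 1) / 2 ∨
        d ∣ 3 ^ (2 * m + 1) - 3 ^ (m + 1) + 1 ∨ d ∣ 3 ^ (2 * m + 1) + 3 ^ (m + 1) + 1) := by
  obtain ⟨A₁, A₂, hA₁, hA₂, hc₁, hc₂, hN₁, hN₂, hall, hB, hcp⟩ := tori hK hm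
  constructor
  · rintro ⟨z, rfl⟩
    rcases cover hK hm z with h | h | h | h | h | h | h
    · left; rw [h, orderOf_one]; exact one_dvd _
    · right; left; exact (c1_iff.1 h).2
    · right; right; left; exact (c2_iff.1 h).1
    · left; rw [c3_iff.1 h]; norm_num
    · left; rw [show orderOf z = 6 from h]
    · right; right; right; left
      rw [half_eq]
      apply orderOf_dvd_of_pow_eq_one
      have h1 : (z ^ kk m) ^ 4 = 1 := by
        rw [← pow_mul, mul_comm, ← (kk_spec m).2]; exact h.1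
      have h2 := four_elt hK _ h1
      rw [two_mul, pow_add]; exact h2
    · rcases hall z h with h | h
      · right; right; right; right; left
        rw [← hc₁]; exact order_dvd_of_mem_cu hK h
      · right; right; right; right; right
        rw [← hc₂]; exact order_dvd_of_mem_cu hK h
  · rintro (h | h | h | h | h | h)
    · have := order_M4 hK (z := iG hK * uG m 0 1 0) ⟨1, one_ne_zero, rfl⟩
      rw [← this] at h
      exact exists_of_dvd h
    · have := (order_nine_iff hK (1 : K) 0 0).2 one_ne_zero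
      rw [← this] at h
      exact exists_of_dvd h
    · obtain ⟨x, -, hx⟩ := exists_gen _ (isCyclic_HH hK)
      rw [card_HH hK] at hx
      rw [← hx] at h
      exact exists_of_dvd h
    · obtain ⟨x, hx⟩ := exists_order_half hK hm
      rw [half_eq, ← hx] at h
      exact exists_of_dvd h
    · obtain ⟨x, -, hx⟩ := exists_gen _ (tor_cyclic hK hm hA₁)
      rw [hc₁] at hx
      rw [← hx] at h
      exact exists_of_dvd h
    · obtain ⟨x, -, hx⟩ := exists_gen _ (tor_cyclic hK hm hA₂)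
      rw [hc₂] at hx
      rw [← hx] at h
      exact exists_of_dvd h

end main

end Cfsg.Agent.Lib.Helper8Ree29
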