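import Cfsg.Agent.Lib.Helper22ChevBruhat

set_option autoImplicit false
set_option linter.unusedSectionVars false
set_option linter.unusedVariables false

/-! Fixed points of a twisting endomorphism of an abstract root group datum (helper23's `RG`) whose symmetry is
transitive on the simple roots: the fixed points lie in `B` or in the big cell, with fixed factors. -/

namespace Cfsg.Agent.Lib.Helper8Ree3

open Subgroup Cfsg.Agent.Lib.Helper23Grp Cfsg.Agent.Lib.Helper23Weyl Cfsg.Agent.Lib.Helper23RG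
  Cfsg.Agent.Lib.Helper23RG.RG Cfsg.Agent.Lib.Helper22ChevBruhat

variable {𝔾 F R I : Type*} [Group 𝔾] [Field F] {S : RG 𝔾 F R I}

/-- a twisting datum -/
structure Tw (S : RG 𝔾 F R I) (sg : 𝔾 → 𝔾) (bar : R → R) (φ : R → F →+* F) : Prop where
  mem : ∀ g ∈ S.G, sg g ∈ S.G
  mul : ∀ g ∈ S.G, ∀ h ∈ S.G, sg (g * h) = sg g * sg h
  x : ∀ r t, sg (S.x r t) = S.x (bar r) (φ r t)
  pos : ∀ r, S.pos (bar r) ↔ S.pos r
  neg : ∀ r, bar (S.neg r) = S.neg (bar r)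
  φneg : ∀ r, φ (S.neg r) = φ r
  simple : ∀ i j, S.simple j = S.simple i ∨ S.simple j = bar (S.simple i)

variable {sg : 𝔾 → 𝔾} {bar : R → R} {φ : R → F →+* F} (T : Tw S sg bar φ)

namespace Tw

include T

theorem one : sg 1 = 1 := by
  have := T.mul 1 S.G.one_mem 1 S.G.one_mem
  rw [mul_one] at this
  exact (mul_eq_left.1 this.symm)

theorem inv {g : 𝔾} (hg : g ∈ S.G) : sg g⁻¹ = (sg g)⁻¹ := by
  have := T.mul g⁻¹ (S.G.inv_mem hg) g hg
  rw [inv_mul_cancel, T.one] at this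
  exact eq_inv_of_mul_eq_one_left this.symm

theorem closure {A : Set 𝔾} {K' : Subgroup 𝔾} (hA : A ⊆ S.G) (h : ∀ x ∈ A, sg x ∈ K') :
    ∀ g ∈ closure A, sg g ∈ K' := by
  intro g hg
  have : g ∈ S.G ∧ sg g ∈ K' := by
    induction hg using closure_induction with
    | mem x hx => exact ⟨hA hx, h x hx⟩
    | one => exact ⟨S.G.one_mem, by rw [T.one]; exact K'.one_mem⟩
    | mul a b _ _ ha hb => exact ⟨S.G.mul_mem ha.1 hb.1, by rw [T.mul a ha.1 b hb.1]; exact K'.mul_mem ha.2 hb.2⟩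
    | inv a _ ha => exact ⟨S.G.inv_mem ha.1, by rw [T.inv ha.1]; exact K'.inv_mem ha.2⟩
  exact this.2

theorem XS {Ψ Ψ' : R → Prop} (hΨ : ∀ r, Ψ r → Ψ' (bar r)) : ∀ g ∈ S.XS Ψ, sg g ∈ S.XS Ψ' := by
  apply T.closure
  · rintro _ ⟨r, t, _, rfl⟩
    exact x_mem_G r t
  · rintro _ ⟨r, t, hr, rfl⟩
    rw [T.x]
    exact x_mem_XS (hΨ r hr) _

theorem U : ∀ g ∈ S.U, sg g ∈ S.U := T.XS (fun r hr => (T.pos r).2 hr)

theorem nE (r : R) (t : F) : sg (S.nE r t) = S.nE (bar r) (φ r t) := by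
  unfold RG.nE
  rw [T.mul _ (S.G.mul_mem (x_mem_G _ _) (x_mem_G _ _)) _ (x_mem_G _ _), T.mul _ (x_mem_G _ _) _ (x_mem_G _ _),
    T.x, T.x, T.neg, T.φneg, map_neg, map_inv₀]

variable (ok : S.Ok)
include ok

theorem hE (r : R) (t : F) : sg (S.hE r t) = S.hE (bar r) (φ r t) := by
  unfold RG.hE
  rw [T.mul _ (nE_mem_G ok _ _) _ (nE_mem_G ok _ _), T.nE, T.nE, map_neg, map_one]

theorem H : ∀ g ∈ S.H, sg g ∈ S.H := by
  apply T.closure
  · rintro _ ⟨r, t, _, rfl⟩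
    exact H_le_G ok (hE_mem_H r ‹_›)
  · rintro _ ⟨r, t, ht, rfl⟩
    rw [T.hE ok]
    exact hE_mem_H _ (by simpa using ht)

theorem N : ∀ g ∈ S.N, sg g ∈ S.N := by
  intro g hg
  unfold RG.N at hg
  rw [sup_eq_closure] at hg
  refine T.closure (K' := S.N) ?_ ?_ g hg
  · rintro x (hx | hx)
    · exact H_le_G ok hx
    · exact N_le_G ok (mem_sup_right hx)
  · rintro x (hx | hx)
    · exact H_le_N (T.H ok x hx)
    · refine T.closure (K' := S.N) ?_ ?_ x hx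
      · rintro _ ⟨r, rfl⟩
        exact nE_mem_G ok _ _
      · rintro _ ⟨r, rfl⟩
        rw [T.nE, map_one]
        exact mem_sup_right (subset_closure ⟨_, rfl⟩)

variable (hBV : ∀ g ∈ S.B, g ∈ S.V → g = 1) (hUN : ∀ g ∈ S.U, g ∈ S.N → g = 1)
include hBV

theorem mon {n : 𝔾} {π π' : Equiv.Perm R} (hn : n ∈ S.N) (hM : S.Mon n π) (hM' : S.Mon (sg n) π') (r : R) :
    π' (bar r) = bar (π r) := by
  obtain ⟨_, c, hc0, _, hc⟩ := hM
  obtain ⟨_, c', hc0', _, hc'⟩ := hM'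
  have hnG := N_le_G ok hn
  have h1 := congrArg sg (hc r 1)
  rw [T.mul _ (S.G.mul_mem hnG (x_mem_G _ _)) _ (S.G.inv_mem hnG), T.mul _ hnG _ (x_mem_G _ _), T.inv hnG, T.x, T.x,
    hc'] at h1
  refine x_root_inj ok hBV _ _ _ _ (mul_ne_zero (hc0' _) ?_) h1
  rw [map_one]; exact one_ne_zero

include hUN

variable {rf : R → R → R} {pr : R → R → ℤ} (hW : (ws ok rf pr).Ok) [Fintype R] [DecidableEq R]
include hW

/-- the permutation attached to a fixed element is trivial or the longest one -/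
theorem perm_cases {π₀ : Equiv.Perm R} (hπ₀ : π₀ ∈ (ws ok rf pr).WJ Set.univ) (h₀ : ∀ r, S.pos r → ¬ S.pos (π₀ r))
    {π : Equiv.Perm R} (hπ : π ∈ (ws ok rf pr).WJ Set.univ) (hc : ∀ r, π (bar r) = bar (π r)) :
    π = 1 ∨ π = π₀ := by
  have hneg₀ : ∀ r, ¬ S.pos r → S.pos (π₀ r) := by
    intro r hr
    have h1 : S.pos (S.neg r) := (ok.pos_neg r).2 hr
    have h2 := h₀ _ h1
    have h4 : π₀ (S.neg r) = S.neg (π₀ r) := WS.mem_neg hW hπ₀ r
    rw [h4] at h2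
    by_contra h3
    exact h2 ((ok.pos_neg _).2 h3)
  have key : ∀ ρ ∈ (ws ok rf pr).WJ Set.univ, (∀ i, ¬ S.pos (ρ (S.simple i))) → π₀ * ρ = 1 := by
    intro ρ hρ h
    by_contra hne
    obtain ⟨i, _, hi⟩ := WS.exists_descent hW (mul_mem hπ₀ hρ) hne
    exact hi (hneg₀ _ (h i))
  by_cases h1 : π = 1
  · exact Or.inl h1
  · right
    obtain ⟨i, _, hi⟩ := WS.exists_descent hW hπ h1
    have hall : ∀ j, ¬ S.pos (π (S.simple j)) := by
      intro j
      rcases T.simple i j with e | e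
      · rw [e]; exact hi
      · rw [e, hc, T.pos]; exact hi
    have e1 := key π hπ hall
    have e2 := key π₀ hπ₀ (fun i => h₀ _ (ok.pos_simple i))
    exact mul_left_cancel (e1.trans e2.symm)

/-- fixed points of the twisting map -/
theorem fix_cases {π₀ : Equiv.Perm R} (hπ₀ : π₀ ∈ (ws ok rf pr).WJ Set.univ) (h₀ : ∀ r, S.pos r → ¬ S.pos (π₀ r))
    {g : 𝔾} (hg : g ∈ S.G) (hfix : sg g = g) :
    (∃ a ∈ S.U, ∃ h ∈ S.H, sg a = a ∧ sg h = h ∧ g = a * h) ∨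
    (∃ a ∈ S.U, ∃ m ∈ S.N, ∃ u ∈ S.U, S.Mon m π₀ ∧ sg a = a ∧ sg m = m ∧ sg u = u ∧ g = a * m * u) := by
  obtain ⟨b, hb, n, hn, π, hM, u, hu, rfl⟩ := normal_form_ex ok hBV hUN hW hg
  obtain ⟨a, ha, h, hh, rfl⟩ := (mem_B_iff ok).1 hb
  have haG := U_le_G ok ha
  have hhG := H_le_G ok hh
  have hnG := N_le_G ok hn
  have huU : u ∈ S.U := XS_mono (fun r hr => hr.1) hu
  have huG := U_le_G ok huU
  set m := h * n with hm
  have hmN : m ∈ S.N := S.N.mul_mem (H_le_N hh) hn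
  have hmG := N_le_G ok hmN
  have hMm : S.Mon m π := by
    have := (Mon_H ok h hh).mul hM
    rwa [one_mul] at this
  have e0 : a * h * n * u = a * m * u := by rw [hm]; group
  rw [e0] at hfix ⊢
  have e1 : sg (a * m * u) = sg a * sg m * sg u := by
    rw [T.mul _ (S.G.mul_mem haG hmG) _ huG, T.mul _ haG _ hmG]
  rw [e1] at hfix
  obtain ⟨π', hπ', hM'⟩ := Mon_N' ok (rf := rf) (pr := pr) _ (T.N ok m hmN)
  obtain ⟨π'', hπ'', hM''⟩ := Mon_N' ok (rf := rf) (pr := pr) _ hmN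
  obtain rfl := Mon_unique ok hBV hMm hM''
  have hk : m⁻¹ * sg m ∈ S.H := by
    apply bruhat_uniq ok hBV hUN hmN (T.N ok m hmN) (b1 := (sg a)⁻¹ * a) (b2 := u * (sg u)⁻¹)
      (U_le_B (mul_mem (inv_mem (T.U a ha)) ha)) (U_le_B (mul_mem huU (inv_mem (T.U u huU))))
    have : sg m = (sg a)⁻¹ * (sg a * sg m * sg u) * (sg u)⁻¹ := by group
    rw [this, hfix]; group
  have hππ : π' = π := by
    have h1 : S.Mon (m * (m⁻¹ * sg m)) (π * 1) := hMm.mul (Mon_H ok _ hk)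
    rw [mul_inv_cancel_left, mul_one] at h1
    exact Mon_unique ok hBV hM' h1
  subst hππ
  have hc := T.mon ok hBV hmN hMm hM'
  have hsu : sg u ∈ S.XS (fun r => S.pos r ∧ ¬ S.pos (π' r)) := by
    refine T.XS ?_ u hu
    rintro r ⟨h1, h2⟩
    exact ⟨(T.pos r).2 h1, by rw [hc, T.pos]; exact h2⟩
  have hmm : sg m = m := nf_unique ok hBV hUN (T.U a ha) ha (T.N ok m hmN) hmN hM' hMm hsu hu hfix
  rw [hmm] at hfix
  have h1 : a⁻¹ * sg a = m * (u * (sg u)⁻¹) * m⁻¹ := by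
    have : sg a = (sg a * m * sg u) * (sg u)⁻¹ * m⁻¹ := by group
    rw [this, hfix]; group
  have h2 : a⁻¹ * sg a = 1 := by
    apply hBV
    · exact U_le_B (mul_mem (inv_mem ha) (T.U a ha))
    · rw [h1]
      exact hMm.conj_XS (Ψ' := fun r => ¬ S.pos r) (fun r hr => hr.2) _ (mul_mem hu (inv_mem hsu))
  have haa : sg a = a := (inv_mul_eq_one.1 h2).symm
  rw [haa] at hfix
  have huu : sg u = u := mul_left_cancel hfix
  rcases T.perm_cases ok hBV hUN hW hπ₀ h₀ hπ' hc with h | h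
  · left
    subst h
    have hmH : m ∈ S.H := mem_H_of_Mon_one ok hBV hUN hmN hMm
    -- `u` lies in the trivial group
    have hu1 : u = 1 := by
      have : S.XS (fun r => S.pos r ∧ ¬ S.pos ((1 : Equiv.Perm R) r)) = ⊥ := by
        unfold RG.XS
        rw [closure_eq_bot_iff]
        rintro _ ⟨r, t, ⟨h1, h2⟩, rfl⟩
        exact absurd h1 h2
      rw [this] at hu
      exact hu
    exact ⟨a, ha, m, hmH, haa, hmm, by rw [hu1, mul_one]⟩
  · right
    subst h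
    exact ⟨a, ha, m, hmN, u, huU, hMm, haa, hmm, huu, rfl⟩

end Tw

end Cfsg.Agent.Lib.Helper8Ree3
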