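import Cfsg.Agent.Lib.Helper8Ree29

set_option autoImplicit false
set_option linter.unusedSectionVars false
set_option linter.unusedVariables false

namespace Cfsg.Agent.Lib.Helper8Ree30

open Cfsg.Lie Cfsg.Agent.Lib.Helper22ChevBasic Cfsg.Agent.Lib.Helper8Ree2
  Cfsg.Agent.Lib.Helper8Ree5
  Cfsg.Agent.Lib.Helper8Ree6 Cfsg.Agent.Lib.Helper8Ree7 Cfsg.Agent.Lib.Helper8Ree8 Cfsg.Agent.Lib.Helper8Ree9
  Cfsg.Agent.Lib.Helper8Ree10 Cfsg.Agent.Lib.Helper8Ree11 Cfsg.Agent.Lib.Helper8Ree12 Cfsg.Agent.Lib.Helper8Ree14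
  Cfsg.Agent.Lib.Helper8Ree15 Cfsg.Agent.Lib.Helper8Ree16 Cfsg.Agent.Lib.Helper8Ree17 Cfsg.Agent.Lib.Helper8Ree18
  Cfsg.Agent.Lib.Helper8Ree19 Cfsg.Agent.Lib.Helper8Ree20 Cfsg.Agent.Lib.Helper8Ree21 Cfsg.Agent.Lib.Helper8Ree22
  Cfsg.Agent.Lib.Helper8Ree23 Cfsg.Agent.Lib.Helper8Ree24 Cfsg.Agent.Lib.Helper8Ree25 Cfsg.Agent.Lib.Helper8Ree26
  Cfsg.Agent.Lib.Helper8Ree27 Cfsg.Agent.Lib.Helper8Ree28 Cfsg.Agent.Lib.Helper8Ree29 Cfsg.Agent.Lib.Helper8Ar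
  Cfsg.Agent.Lib.Helper8Rank1 Cfsg.Agent.Lib.Helper8Cnt Cfsg.Agent.Lib.Helper8Cnt2 Cfsg.Agent.Lib.Helper8Ab

variable {K : Type*} [Field K] [Fintype K] [CharP K 3]

theorem norm_eq {G : Type*} [Group G] [Finite G] (T X : Subgroup G)
    (hN : Subgroup.normalizer (T : Set G) ≤ Subgroup.normalizer (X : Set G)) (hne : X ≠ ⊥)
    (hc : ∀ y ∈ X, y ≠ 1 → Subgroup.centralizer {y} = T) :
    Subgroup.normalizer (X : Set G) = Subgroup.normalizer (T : Set G) := by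
  apply le_antisymm _ hN
  intro g hg
  obtain ⟨z, hz, hz1⟩ := Cfsg.Agent.Lib.Helper29Basic.exists_ne_one_of_ne_bot hne
  have h1 : g * z * g⁻¹ ∈ X := (Subgroup.mem_normalizer_iff.1 hg z).1 hz
  exact norm_of_cent T (hc z hz hz1) (hc _ h1 (conj_ne_one hz1))

/-- packaging -/
theorem pack {G : Type*} [Group G] [Finite G] (T A : Subgroup G) (hne : A ≠ ⊥)
    (hN : ∀ X : Subgroup G, X ≤ A → Subgroup.normalizer (T : Set G) ≤ Subgroup.normalizer (X : Set G))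
    (hc : ∀ y ∈ A, y ≠ 1 → Subgroup.centralizer {y} = T) :
    Subgroup.normalizer (A : Set G) = Subgroup.normalizer (T : Set G) ∧
    ∀ A₀ : Subgroup G, A₀ ≤ A → A₀ ≠ ⊥ → Subgroup.normalizer (A₀ : Set G) = Subgroup.normalizer (A : Set G) := by
  have h1 := norm_eq T A (hN A le_rfl) hne hc
  refine ⟨h1, fun A₀ h0 hne0 => ?_⟩
  rw [h1]
  exact norm_eq T A₀ (hN A₀ h0) hne0 (fun y hy => hc y (h0 hy))

theorem ne_bot_of_card {G : Type*} [Group G] {A : Subgroup G} (h : 1 < Nat.card A) : A ≠ ⊥ := by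
  rintro rfl
  rw [Subgroup.card_bot] at h
  omega

theorem sq_ne_of_odd {G : Type*} [Group G] {y : G} {k : ℕ} (hk : Odd k) (hy : y ^ k = 1) (hy1 : y ≠ 1) : y * y ≠ 1 := by
  intro h
  apply hy1
  obtain ⟨j, rfl⟩ := hk
  rw [pow_succ, pow_mul, pow_two, h, one_pow, one_mul] at hy
  exact hy

section main

variable {m : ℕ} (hK : Fintype.card K = 3 ^ (2 * m + 1))
include hK

theorem caseA (hm : 1 ≤ m) : ∃ A : Subgroup (GG K m), IsCyclic A ∧ Nat.card A = (3 ^ (2 * m + 1) - 1) / 2 ∧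
    Nat.card (Subgroup.normalizer (A : Set (GG K m))) = 2 * (3 ^ (2 * m + 1) - 1) ∧
    ∀ A₀ : Subgroup (GG K m), A₀ ≤ A → A₀ ≠ ⊥ →
      Subgroup.normalizer (A₀ : Set (GG K m)) = Subgroup.normalizer (A : Set (GG K m)) := by
  obtain ⟨h, hh, ho⟩ := exists_gen _ (isCyclic_HH hK)
  rw [card_HH hK] at ho
  obtain ⟨k, hk⟩ := half_odd m
  have hq := q_ge hK hm
  rw [hK] at hq
  have hcard : Nat.card (Subgroup.zpowers (h ^ 2)) = (3 ^ (2 * m + 1) - 1) / 2 := by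
    rw [Nat.card_zpowers, orderOf_pow_of_dvd (by norm_num) (by rw [ho, hk]; exact Dvd.intro _ rfl), ho]
  have hle : Subgroup.zpowers (h ^ 2) ≤ HH K m := Subgroup.zpowers_le.2 ((HH K m).pow_mem hh 2)
  obtain ⟨h1, h2⟩ := pack (HH K m) (Subgroup.zpowers (h ^ 2)) (ne_bot_of_card (by rw [hcard]; omega))
    (fun X hX => normalizer_le_of_cyclic (isCyclic_HH hK) (hX.trans hle))
    (fun y hy hy1 => cent_M2 hK (hle hy) (by
      have h3 := pow_card_of_mem hK hy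
      rw [hcard] at h3
      have e : (3 ^ (2 * m + 1) - 1) / 2 = 2 * k + 1 := by omega
      rw [e] at h3
      exact sq_ne_of_odd ⟨k, rfl⟩ h3 hy1))
  refine ⟨_, inferInstance, hcard, ?_, h2⟩
  rw [h1, normalizer_HH hK hm, card_NN hK]

theorem caseB (hm : 1 ≤ m) : ∃ A : Subgroup (GG K m), IsCyclic A ∧ Nat.card A = (3 ^ (2 * m + 1) + 1) / 4 ∧
    Nat.card (Subgroup.normalizer (A : Set (GG K m))) = 6 * (3 ^ (2 * m + 1) + 1) ∧
    ∀ A₀ : Subgroup (GG K m), A₀ ≤ A → A₀ ≠ ⊥ →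
      Subgroup.normalizer (A₀ : Set (GG K m)) = Subgroup.normalizer (A : Set (GG K m)) := by
  obtain ⟨A₁, A₂, hA₁, hA₂, hc₁, hc₂, hN₁, hN₂, hall, hB, hcp⟩ := tori hK hm
  obtain ⟨T, hT⟩ := exists_torB hK hm
  have hcyc := torB_D_cyc hK hm hT
  have hcard := (torB_split hK hm hT).1
  have h7 := kk_ge hK hm
  have hND : Subgroup.normalizer (T : Set (GG K m)) ≤
      Subgroup.normalizer ((tors T (torB_comm hK hm hT) (kk m) : Subgroup (GG K m)) : Set (GG K m)) := by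
    intro g hg
    apply Subgroup.mem_normalizer_fintype
    rintro z ⟨hz, hzk⟩
    exact ⟨(Subgroup.mem_normalizer_iff.1 hg z).1 hz, by rw [conj_pow, hzk]; group⟩
  obtain ⟨h1, h2⟩ := pack T (tors T (torB_comm hK hm hT) (kk m)) (ne_bot_of_card (by rw [hcard]; omega))
    (fun X hX => hND.trans (normalizer_le_of_cyclic hcyc hX))
    (fun y hy hy1 => torB_cent hK hm hT hy.1 (sq_ne_of_odd (kk_spec m).1 hy.2 hy1))
  refine ⟨_, hcyc, hcard, ?_, h2⟩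
  rw [h1, hB T hT]

theorem caseC (hm : 1 ≤ m) {T : Subgroup (GG K m)} (hT : IsTor m T) : IsCyclic T ∧
    ∀ A₀ : Subgroup (GG K m), A₀ ≤ T → A₀ ≠ ⊥ →
      Subgroup.normalizer (A₀ : Set (GG K m)) = Subgroup.normalizer (T : Set (GG K m)) := by
  have h7 := tor_ge7 hK hm hT
  obtain ⟨h1, h2⟩ := pack T T (ne_bot_of_card (by omega))
    (fun X hX => normalizer_le_of_cyclic (tor_cyclic hK hm hT) hX)
    (fun y hy hy1 => tor_cent hK hm hT hy hy1)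
  exact ⟨tor_cyclic hK hm hT, h2⟩

theorem s1158 (hm : 1 ≤ m) :
    ∀ kn ∈ ({((3 ^ (2 * m + 1) - 1) / 2, 2 * (3 ^ (2 * m + 1) - 1)), ((3 ^ (2 * m + 1) + 1) / 4, 6 * (3 ^ (2 * m + 1) + 1)),
        (3 ^ (2 * m + 1) - 3 ^ (m + 1) + 1, 6 * (3 ^ (2 * m + 1) - 3 ^ (m + 1) + 1)),
        (3 ^ (2 * m + 1) + 3 ^ (m + 1) + 1, 6 * (3 ^ (2 * m + 1) + 3 ^ (m + 1) + 1))} : Set (ℕ × ℕ)),
      ∃ A : Subgroup (GG K m), IsCyclic A ∧ Nat.card A = kn.1 ∧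
        Nat.card (Subgroup.normalizer (A : Set (GG K m))) = kn.2 ∧
        ∀ A₀ : Subgroup (GG K m), A₀ ≤ A → A₀ ≠ ⊥ →
          Subgroup.normalizer (A₀ : Set (GG K m)) = Subgroup.normalizer (A : Set (GG K m)) := by
  obtain ⟨A₁, A₂, hA₁, hA₂, hc₁, hc₂, hN₁, hN₂, hall, hB, hcp⟩ := tori hK hm
  rintro kn (rfl | rfl | rfl | rfl)
  · exact caseA hK hm
  · exact caseB hK hm
  · exact ⟨A₁, (caseC hK hm hA₁).1, hc₁, hN₁, (caseC hK hm hA₁).2⟩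
  · exact ⟨A₂, (caseC hK hm hA₂).1, hc₂, hN₂, (caseC hK hm hA₂).2⟩

end main

end Cfsg.Agent.Lib.Helper8Ree30
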