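import Cfsg.Agent.Lib.Helper8Ree29

set_option autoImplicit false
set_option linter.unusedSectionVars false
set_option linter.unusedVariables false

namespace Cfsg.Agent.Lib.Helper8Ree31

open Cfsg.Lie Cfsg.Agent.Lib.Helper22ChevBasic Cfsg.Agent.Lib.Helper8Ree2
  Cfsg.Agent.Lib.Helper8Ree5
  Cfsg.Agent.Lib.Helper8Ree6 Cfsg.Agent.Lib.Helper8Ree7 Cfsg.Agent.Lib.Helper8Ree8 Cfsg.Agent.Lib.Helper8Ree9
  Cfsg.Agent.Lib.Helper8Ree10 Cfsg.Agent.Lib.Helper8Ree11 Cfsg.Agent.Lib.Helper8Ree12 Cfsg.Agent.Lib.Helper8Ree14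
  Cfsg.Agent.Lib.Helper8Ree15 Cfsg.Agent.Lib.Helper8Ree16 Cfsg.Agent.Lib.Helper8Ree17 Cfsg.Agent.Lib.Helper8Ree18
  Cfsg.Agent.Lib.Helper8Ree19 Cfsg.Agent.Lib.Helper8Ree20 Cfsg.Agent.Lib.Helper8Ree21 Cfsg.Agent.Lib.Helper8Ree22
  Cfsg.Agent.Lib.Helper8Ree23 Cfsg.Agent.Lib.Helper8Ree24 Cfsg.Agent.Lib.Helper8Ree25 Cfsg.Agent.Lib.Helper8Ree26
  Cfsg.Agent.Lib.Helper8Ree27 Cfsg.Agent.Lib.Helper8Ree28 Cfsg.Agent.Lib.Helper8Ree29 Cfsg.Agent.Lib.Helper8Ar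
  Cfsg.Agent.Lib.Helper8Rank1 Cfsg.Agent.Lib.Helper8Cnt Cfsg.Agent.Lib.Helper8Cnt2 Cfsg.Agent.Lib.Helper8Ab

variable {K : Type*} [Field K] [Fintype K] [CharP K 3]

theorem order_set {G : Type*} [Group G] {T : Subgroup G} {P : G → Prop} (i : ℕ)
    (h : ∀ z, orderOf z = i → z ∈ cu {z | z ∈ T ∧ P z}) :
    {z : G | orderOf z = i} = cu {z | z ∈ T ∧ orderOf z = i} := by
  ext z
  constructor
  · intro hz
    obtain ⟨g, y, ⟨hy, -⟩, rfl⟩ := h z hz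
    exact ⟨g, y, ⟨hy, by rwa [← orderOf_conj g y]⟩, rfl⟩
  · rintro ⟨g, y, ⟨hy, ho⟩, rfl⟩
    show orderOf _ = i
    rw [orderOf_conj, ho]

theorem card_eq {G : Type*} [Group G] (i : ℕ) : Nat.card {g : G // orderOf g = i} = {z : G | orderOf z = i}.ncard :=
  Nat.card_coe_set_eq _

theorem sq_ne_of_order {G : Type*} [Group G] {z : G} {i : ℕ} (hi : 2 < i) (h : orderOf z = i) : z * z ≠ 1 := by
  intro h2
  have := orderOf_dvd_of_pow_eq_one (show z ^ 2 = 1 by rw [pow_two]; exact h2)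
  rw [h] at this
  have := Nat.le_of_dvd (by norm_num) this
  omega

section main

variable {m : ℕ} (hK : Fintype.card K = 3 ^ (2 * m + 1))
include hK

theorem p2 (hm : 1 ≤ m) : {z : GG K m | orderOf z = 2}.ncard = (3 ^ (2 * m + 1)) ^ 2 * Ph m := by
  rw [← n3 hK hm]
  congr 1
  ext z
  exact c3_iff.symm

theorem p3 : {z : GG K m | orderOf z = 3}.ncard = ((3 ^ (2 * m + 1)) ^ 2 - 1) * ((3 ^ (2 * m + 1)) ^ 3 + 1) := by
  rw [order_set (T := UU K m) (P := fun z => z ≠ 1) 3 (by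
    intro z hz
    rw [cu_C1 hK]
    exact c1_iff.2 ⟨by rw [hz]; norm_num, by rw [hz]; norm_num⟩),
    count_UU hK (fun z => orderOf z = 3) (fun g z h => by rw [orderOf_conj]; exact h) (fun z h h1 => by
      rw [h1, orderOf_one] at h; omega), ncard_three hK, mul_comm]

theorem p9 : {z : GG K m | orderOf z = 9}.ncard =
    (3 ^ (2 * m + 1)) ^ 2 * (3 ^ (2 * m + 1) - 1) * ((3 ^ (2 * m + 1)) ^ 3 + 1) := by
  rw [order_set (T := UU K m) (P := fun z => z ≠ 1) 9 (by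
    intro z hz
    rw [cu_C1 hK]
    exact c1_iff.2 ⟨by rw [hz]; norm_num, by rw [hz]⟩),
    count_UU hK (fun z => orderOf z = 9) (fun g z h => by rw [orderOf_conj]; exact h) (fun z h h1 => by
      rw [h1, orderOf_one] at h; omega), ncard_nine hK]
  ring

theorem p6 (hm : 1 ≤ m) : {z : GG K m | orderOf z = 6}.ncard =
    (3 ^ (2 * m + 1)) ^ 2 * (3 ^ (2 * m + 1) - 1) * ((3 ^ (2 * m + 1)) ^ 3 + 1) := by
  have := n4 hK hm
  have e : {z : GG K m | orderOf z = 6} = {z : GG K m | C4 z} := rfl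
  rw [e, this]; ring

theorem pA (hm : 1 ≤ m) (i : ℕ) (hi : 2 < i) (hd : i ∣ 3 ^ (2 * m + 1) - 1) :
    2 * {z : GG K m | orderOf z = i}.ncard = Nat.totient i * (3 ^ (2 * m + 1)) ^ 3 * ((3 ^ (2 * m + 1)) ^ 3 + 1) := by
  rw [order_set (T := HH K m) (P := fun z => z * z ≠ 1) i (by
    intro z hz
    rw [cu_C2 hK]
    exact ⟨orderOf_dvd_iff_pow_eq_one.1 (by rw [hz]; exact hd), sq_ne_of_order hi hz⟩),
    count_HH hK hm (fun z => orderOf z = i) (fun g z h => by rw [orderOf_conj]; exact h)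
      (fun z h => sq_ne_of_order hi h),
    ncard_order_cyclic (HH K m) (isCyclic_HH hK) (by rw [card_HH hK]; exact hd)]
  ring

theorem index_torB (hm : 1 ≤ m) {T : Subgroup (GG K m)} (hT : IsTorB m T) :
    6 * (Subgroup.normalizer (T : Set (GG K m))).index = (3 ^ (2 * m + 1)) ^ 3 * (3 ^ (2 * m + 1) - 1) * Ph m := by
  obtain ⟨A₁, A₂, hA₁, hA₂, hc₁, hc₂, hN₁, hN₂, hall, hB, hcp⟩ := tori hK hm
  have h1 := Subgroup.card_mul_index (Subgroup.normalizer (T : Set (GG K m)))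
  rw [hB T hT, card_G1 hK, q3_eq] at h1
  apply Nat.eq_of_mul_eq_mul_left (show 0 < 3 ^ (2 * m + 1) + 1 by positivity)
  unfold Ph
  linear_combination h1

theorem ncard_torB (hm : 1 ≤ m) {T : Subgroup (GG K m)} (hT : IsTorB m T) (i : ℕ) (hd : i ∣ kk m) :
    {z | z ∈ T ∧ orderOf z = i}.ncard = Nat.totient i := by
  rw [← ncard_order_cyclic _ (torB_D_cyc hK hm hT) (by rw [(torB_split hK hm hT).1]; exact hd)]
  congr 1
  ext z
  constructor
  · rintro ⟨h1, h2⟩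
    exact ⟨⟨h1, orderOf_dvd_iff_pow_eq_one.1 (by rw [h2]; exact hd)⟩, h2⟩
  · rintro ⟨h1, h2⟩
    exact ⟨h1.1, h2⟩

theorem pB (hm : 1 ≤ m) (i : ℕ) (hi : 1 < i) (hd : i ∣ kk m) :
    6 * {z : GG K m | orderOf z = i}.ncard =
      Nat.totient i * (3 ^ (2 * m + 1)) ^ 3 * (3 ^ (2 * m + 1) - 1) * Ph m ∧
    2 * {z : GG K m | orderOf z = 2 * i}.ncard =
      Nat.totient i * (3 ^ (2 * m + 1)) ^ 3 * (3 ^ (2 * m + 1) - 1) * Ph m := by
  obtain ⟨T, hT⟩ := exists_torB hK hm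
  obtain ⟨hodd, hk⟩ := kk_spec m
  have hiodd : Odd i := Odd.of_dvd_nat hodd hd
  have hi2 : 2 < i := by
    obtain ⟨j, rfl⟩ := hiodd
    omega
  have hidx := index_torB hK hm hT
  constructor
  · rw [order_set (T := T) (P := fun z => z * z ≠ 1) i (by
      intro z hz
      rw [cu_C5 hK hm hT]
      exact ⟨orderOf_dvd_iff_pow_eq_one.1 (by rw [hz, hk]; exact hd.mul_left 4), sq_ne_of_order hi2 hz⟩),
      count_torB hK hm hT (fun z => orderOf z = i) (fun g z h => by rw [orderOf_conj]; exact h)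
        (fun z h => sq_ne_of_order hi2 h), ncard_torB hK hm hT i hd, ← mul_assoc, hidx]
    ring
  · rw [order_set (T := T) (P := fun z => z * z ≠ 1) (2 * i) (by
      intro z hz
      rw [cu_C5 hK hm hT]
      refine ⟨orderOf_dvd_iff_pow_eq_one.1 ?_, sq_ne_of_order (by omega) hz⟩
      rw [hz, hk]
      exact (Nat.mul_dvd_mul_left 2 hd).trans ⟨2, by ring⟩),
      count_torB hK hm hT (fun z => orderOf z = 2 * i) (fun g z h => by rw [orderOf_conj]; exact h)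
        (fun z h => sq_ne_of_order (by omega) h), (torB_split hK hm hT).2.2 i hiodd, ncard_torB hK hm hT i hd]
    linear_combination (Nat.totient i) * hidx

theorem pC (hm : 1 ≤ m) {T T' : Subgroup (GG K m)} (hT : IsTor m T)
    (hall : ∀ z, C6 z → z ∈ cu (ns T) ∨ z ∈ cu (ns T')) (hcp : Nat.Coprime (Nat.card T) (Nat.card T'))
    (hN : Nat.card (Subgroup.normalizer (T : Set (GG K m))) = 6 * Nat.card T)
    (hprod : Nat.card T * Nat.card T' = Ph m) (i : ℕ) (hi : 1 < i) (hd : i ∣ Nat.card T) :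
    6 * {z : GG K m | orderOf z = i}.ncard =
      Nat.totient i * (3 ^ (2 * m + 1)) ^ 3 * ((3 ^ (2 * m + 1)) ^ 2 - 1) * Nat.card T' := by
  have hidx : 6 * (Subgroup.normalizer (T : Set (GG K m))).index =
      (3 ^ (2 * m + 1)) ^ 3 * ((3 ^ (2 * m + 1)) ^ 2 - 1) * Nat.card T' := by
    have h1 := Subgroup.card_mul_index (Subgroup.normalizer (T : Set (GG K m)))
    rw [hN, card_G1 hK, q3_eq] at h1
    have e : (3 ^ (2 * m + 1)) ^ 2 - 3 ^ (2 * m + 1) + 1 = Ph m := rfl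
    rw [e, ← hprod] at h1
    have e2 : (3 ^ (2 * m + 1)) ^ 2 - 1 = (3 ^ (2 * m + 1) - 1) * (3 ^ (2 * m + 1) + 1) := by
      have := q_pos hK
      generalize 3 ^ (2 * m + 1) = q at *
      obtain ⟨s, rfl⟩ : ∃ s, q = s + 1 := ⟨q - 1, by omega⟩
      have : (s + 1) ^ 2 = s * (s + 1 + 1) + 1 := by ring
      rw [this]; simp
    rw [e2]
    apply Nat.eq_of_mul_eq_mul_left (show 0 < Nat.card T from Nat.card_pos)
    linear_combination h1
  have hne : ∀ z : GG K m, orderOf z = i → z ≠ 1 := by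
    rintro z h rfl
    rw [orderOf_one] at h; omega
  rw [order_set (T := T) (P := fun z => z ≠ 1) i (by
      intro z hz
      have h6 : C6 z := c6_iff.2 ⟨by rw [hz]; omega, by rw [hz]; exact hd.trans (tor_card hK hm hT)⟩
      rcases hall z h6 with h | h
      · exact h
      · exfalso
        have h2 := order_dvd_of_mem_cu hK h
        rw [hz] at h2
        have := Nat.eq_one_of_dvd_coprimes hcp hd h2
        omega),
    card_cu_cent T (fun z => orderOf z = i) (fun g z h => by rw [orderOf_conj]; exact h)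
      (fun z hz h => tor_cent hK hm hT hz (hne z h)),
    ncard_order_cyclic T (tor_cyclic hK hm hT) hd, ← mul_assoc, hidx]
  ring

theorem s2357 (hm : 1 ≤ m) :
    Nat.card {g : GG K m // orderOf g = 2} = (3 ^ (2 * m + 1)) ^ 2 * ((3 ^ (2 * m + 1)) ^ 2 - 3 ^ (2 * m + 1) + 1) ∧
    Nat.card {g : GG K m // orderOf g = 3} = ((3 ^ (2 * m + 1)) ^ 2 - 1) * ((3 ^ (2 * m + 1)) ^ 3 + 1) ∧
    Nat.card {g : GG K m // orderOf g = 6} = (3 ^ (2 * m + 1)) ^ 2 * (3 ^ (2 * m + 1) - 1) * ((3 ^ (2 * m + 1)) ^ 3 + 1) ∧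
    Nat.card {g : GG K m // orderOf g = 9} = (3 ^ (2 * m + 1)) ^ 2 * (3 ^ (2 * m + 1) - 1) * ((3 ^ (2 * m + 1)) ^ 3 + 1) ∧
    (∀ i : ℕ, 2 < i → i ∣ 3 ^ (2 * m + 1) - 1 →
      2 * Nat.card {g : GG K m // orderOf g = i} = Nat.totient i * (3 ^ (2 * m + 1)) ^ 3 * ((3 ^ (2 * m + 1)) ^ 3 + 1)) ∧
    (∀ i : ℕ, 1 < i → i ∣ (3 ^ (2 * m + 1) + 1) / 4 →
      6 * Nat.card {g : GG K m // orderOf g = i} =
          Nat.totient i * (3 ^ (2 * m + 1)) ^ 3 * (3 ^ (2 * m + 1) - 1) * ((3 ^ (2 * m + 1)) ^ 2 - 3 ^ (2 * m + 1) + 1) ∧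
        2 * Nat.card {g : GG K m // orderOf g = 2 * i} =
          Nat.totient i * (3 ^ (2 * m + 1)) ^ 3 * (3 ^ (2 * m + 1) - 1) * ((3 ^ (2 * m + 1)) ^ 2 - 3 ^ (2 * m + 1) + 1)) ∧
    (∀ i : ℕ, 1 < i → i ∣ 3 ^ (2 * m + 1) - 3 ^ (m + 1) + 1 →
      6 * Nat.card {g : GG K m // orderOf g = i} =
        Nat.totient i * (3 ^ (2 * m + 1)) ^ 3 * ((3 ^ (2 * m + 1)) ^ 2 - 1) * (3 ^ (2 * m + 1) + 3 ^ (m + 1) + 1)) ∧
    (∀ i : ℕ, 1 < i → i ∣ 3 ^ (2 * m + 1) + 3 ^ (m + 1) + 1 →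
      6 * Nat.card {g : GG K m // orderOf g = i} =
        Nat.totient i * (3 ^ (2 * m + 1)) ^ 3 * ((3 ^ (2 * m + 1)) ^ 2 - 1) * (3 ^ (2 * m + 1) - 3 ^ (m + 1) + 1)) := by
  obtain ⟨A₁, A₂, hA₁, hA₂, hc₁, hc₂, hN₁, hN₂, hall, hB, hcp⟩ := tori hK hm
  have hprod : Nat.card A₁ * Nat.card A₂ = Ph m := by rw [hc₁, hc₂]; exact phi_factor m
  simp only [card_eq]
  refine ⟨p2 hK hm, p3 hK, p6 hK hm, p9 hK, pA hK hm, pB hK hm, ?_, ?_⟩
  · intro i hi hd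
    rw [← hc₂]
    exact pC hK hm hA₁ hall hcp (by rw [hN₁, hc₁]) hprod i hi (by rw [hc₁]; exact hd)
  · intro i hi hd
    rw [← hc₁]
    exact pC hK hm hA₂ (fun z hz => (hall z hz).symm) hcp.symm (by rw [hN₂, hc₂]) (by rw [mul_comm]; exact hprod) i hi
      (by rw [hc₂]; exact hd)

end main

end Cfsg.Agent.Lib.Helper8Ree31
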