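import Cfsg.Agent.Lib.Helper8Ree30
import Cfsg.Agent.Lib.Helper8PSL4

set_option autoImplicit false
set_option linter.unusedSectionVars false
set_option linter.unusedVariables false

namespace Cfsg.Agent.Lib.Helper8Ree32

open Cfsg.Lie Cfsg.Agent.Lib.Helper22ChevBasic Cfsg.Agent.Lib.Helper8Ree2
  Cfsg.Agent.Lib.Helper8Ree5
  Cfsg.Agent.Lib.Helper8Ree6 Cfsg.Agent.Lib.Helper8Ree7 Cfsg.Agent.Lib.Helper8Ree8 Cfsg.Agent.Lib.Helper8Ree9
  Cfsg.Agent.Lib.Helper8Ree10 Cfsg.Agent.Lib.Helper8Ree11 Cfsg.Agent.Lib.Helper8Ree12 Cfsg.Agent.Lib.Helper8Ree14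
  Cfsg.Agent.Lib.Helper8Ree15 Cfsg.Agent.Lib.Helper8Ree16 Cfsg.Agent.Lib.Helper8Ree17 Cfsg.Agent.Lib.Helper8Ree18
  Cfsg.Agent.Lib.Helper8Ree19 Cfsg.Agent.Lib.Helper8Ree20 Cfsg.Agent.Lib.Helper8Ree21 Cfsg.Agent.Lib.Helper8Ree22
  Cfsg.Agent.Lib.Helper8Ree23 Cfsg.Agent.Lib.Helper8Ree24 Cfsg.Agent.Lib.Helper8Ree25 Cfsg.Agent.Lib.Helper8Ree26
  Cfsg.Agent.Lib.Helper8Ree27 Cfsg.Agent.Lib.Helper8Ree28 Cfsg.Agent.Lib.Helper8Ree29 Cfsg.Agent.Lib.Helper8Ree30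
  Cfsg.Agent.Lib.Helper8PSL2 Cfsg.Agent.Lib.Helper8PSL3 Cfsg.Agent.Lib.Helper8PSL4
  Cfsg.Agent.Lib.Helper8Rank1 Cfsg.Agent.Lib.Helper8Cnt Cfsg.Agent.Lib.Helper8Cnt2 Cfsg.Agent.Lib.Helper8Ab

local notation "PSL2" => Matrix.ProjectiveSpecialLinearGroup (Fin 2)

variable {K : Type*} [Field K] [Fintype K] [CharP K 3]

section main

variable {m : ℕ} (hK : Fintype.card K = 3 ^ (2 * m + 1))
include hK

theorem comap_cent (hm : 1 ≤ m) {p : ℕ} (hp : p.Prime) (hp2 : p ≠ 2) (hpq : p ∣ 3 ^ (2 * m + 1) + 1) {y t : GG K m}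
    (hy : orderOf y = p) (ht1 : t ≠ 1) (ht2 : t * t = 1) (hyt : y * t = t * y)
    (φ : ↥(Subgroup.centralizer {t}) →* PSL2 K) (hs : Function.Surjective φ)
    (hk : ∀ c, φ c = 1 ↔ c = 1 ∨ (c : GG K m) = t) :
    orderOf (φ ⟨y, Subgroup.mem_centralizer_singleton_iff.2 hyt⟩) = p ∧
    (Subgroup.centralizer {φ ⟨y, Subgroup.mem_centralizer_singleton_iff.2 hyt⟩}).comap φ =
      (Subgroup.centralizer {y}).subgroupOf (Subgroup.centralizer {t}) := by
  have hq := q_pos hK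
  have hAC := cent_le hK hm hp hp2 hpq hy ht1 ht2 hyt
  have hAcard := (centB hK hm hp hp2 hpq hy).1
  have hyC : y ∈ Subgroup.centralizer {t} := Subgroup.mem_centralizer_singleton_iff.2 hyt
  have htC : t ∈ Subgroup.centralizer {t} := Subgroup.mem_centralizer_singleton_iff.2 rfl
  have hy1 : y ≠ 1 := by
    rintro rfl
    rw [orderOf_one] at hy
    exact hp.one_lt.ne hy
  have hyt' : y ≠ t := by
    rintro rfl
    have := orderOf_dvd_of_pow_eq_one (show y ^ 2 = 1 by rw [pow_two]; exact ht2)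
    rw [hy] at this
    exact hp2 ((Nat.prime_dvd_prime_iff_eq hp Nat.prime_two).1 this)
  have ho : orderOf (φ ⟨y, hyC⟩) = p := by
    have : Fact p.Prime := ⟨hp⟩
    apply orderOf_eq_prime
    · rw [← map_pow]
      have : (⟨y, hyC⟩ : ↥(Subgroup.centralizer {t})) ^ p = 1 := by
        apply Subtype.ext
        show y ^ p = 1
        rw [← hy]; exact pow_orderOf_eq_one y
      rw [this, map_one]
    · intro h
      rcases (hk _).1 h with h | h
      · exact hy1 (congrArg Subtype.val h)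
      · exact hyt' h
  refine ⟨ho, ?_⟩
  have hpq' : ¬ p ∣ Fintype.card K - 1 := by rw [hK]; exact ar3 hp hp2 (by omega) hpq
  obtain ⟨hcyc, hcard⟩ := cent_nonsplit hp hp2 (ar6 hp hpq) hpq' _ ho
  rw [hK] at hcard
  have hk' : ∀ c, φ c = 1 ↔ c = 1 ∨ c = ⟨t, htC⟩ := by
    intro c
    rw [hk c]
    constructor
    · rintro (h | h)
      · exact Or.inl h
      · exact Or.inr (Subtype.ext h)
    · rintro (h | h)
      · exact Or.inl h
      · exact Or.inr (congrArg Subtype.val h)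
  have hker := card_ker_two φ ⟨t, htC⟩ (fun h => ht1 (congrArg Subtype.val h)) hk'
  symm
  apply Subgroup.eq_of_le_of_card_ge
  · intro c hc
    have hc' : (c : GG K m) * y = y * c := Subgroup.mem_centralizer_singleton_iff.1 (Subgroup.mem_subgroupOf.1 hc)
    rw [Subgroup.mem_comap, Subgroup.mem_centralizer_singleton_iff, ← map_mul, ← map_mul]
    congr 1
    exact Subtype.ext hc'
  · rw [card_of_ker φ hker _ (by
      intro c hc
      rw [Subgroup.mem_comap, MonoidHom.mem_ker.1 hc]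
      exact one_mem _), Subgroup.map_comap_eq_self_of_surjective hs, hcard,
      Nat.card_congr (Subgroup.subgroupOfEquivOfLe hAC).toEquiv, hAcard]

/-- two tori of order `q + 1` sharing a four-group coincide -/
theorem torB_unique (hm : 1 ≤ m) {T T' : Subgroup (GG K m)} (hT : IsTorB m T) (hT' : IsTorB m T') {t t' : GG K m}
    (ht1 : t ≠ 1) (ht2 : t * t = 1) (ht'1 : t' ≠ 1) (hne : t' ≠ t)
    (h1 : t ∈ T) (h2 : t' ∈ T) (h3 : t ∈ T') (h4 : t' ∈ T') : T = T' := by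
  have hq := q_pos hK
  obtain ⟨φ, hs, hk⟩ := exists_phi' hK hm ht1 ht2
  have hcomm := torB_comm hK hm hT
  obtain ⟨p, y, hp, hp2, hpq, hy, rfl⟩ := hT
  obtain ⟨p', y', hp', hp2', hpq', hy', rfl⟩ := hT'
  have hyt : y * t = t * y := (Subgroup.mem_centralizer_singleton_iff.1 h1).symm
  have hyt' : y' * t = t * y' := (Subgroup.mem_centralizer_singleton_iff.1 h3).symm
  obtain ⟨o1, c1⟩ := comap_cent hK hm hp hp2 hpq hy ht1 ht2 hyt φ hs hk
  obtain ⟨o2, c2⟩ := comap_cent hK hm hp' hp2' hpq' hy' ht1 ht2 hyt' φ hs hk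
  have ht'C : t' ∈ Subgroup.centralizer {t} := by
    rw [Subgroup.mem_centralizer_singleton_iff]
    exact hcomm t' h2 t h1
  have hi : φ ⟨t', ht'C⟩ ≠ 1 := by
    intro h
    rcases (hk _).1 h with h | h
    · exact ht'1 (congrArg Subtype.val h)
    · exact hne h
  have hu := cent_unique hp hp2 (ar6 hp hpq) (by rw [hK]; exact ar3 hp hp2 (by omega) hpq)
    hp' hp2' (ar6 hp' hpq') (by rw [hK]; exact ar3 hp' hp2' (by omega) hpq') _ _ (φ ⟨t', ht'C⟩) o1 o2 hi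
    (by rw [← map_mul, ← map_mul]; congr 1; exact Subtype.ext (Subgroup.mem_centralizer_singleton_iff.1 h2))
    (by rw [← map_mul, ← map_mul]; congr 1; exact Subtype.ext (Subgroup.mem_centralizer_singleton_iff.1 h4))
  rw [hu, c2] at c1
  have l1 := cent_le hK hm hp hp2 hpq hy ht1 ht2 hyt
  have l2 := cent_le hK hm hp' hp2' hpq' hy' ht1 ht2 hyt'
  have := Subgroup.subgroupOf_inj.1 c1
  rw [inf_eq_left.2 l1, inf_eq_left.2 l2] at this
  exact this.symm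

/-- every four-group lies in a torus of order `q + 1` -/
theorem exists_torB_four (hm : 1 ≤ m) {t t' : GG K m} (ht1 : t ≠ 1) (ht2 : t * t = 1) (ht'1 : t' ≠ 1)
    (ht'2 : t' * t' = 1) (hne : t' ≠ t) (hc : t' * t = t * t') :
    ∃ T : Subgroup (GG K m), IsTorB m T ∧ t ∈ T ∧ t' ∈ T := by
  obtain ⟨φ, hs, hk⟩ := exists_phi' hK hm ht1 ht2
  obtain ⟨hodd, hkk⟩ := kk_spec m
  have hk7 := kk_ge hK hm
  have hp : (kk m).minFac.Prime := Nat.minFac_prime (by omega)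
  have hpk := Nat.minFac_dvd (kk m)
  have hpq : (kk m).minFac ∣ 3 ^ (2 * m + 1) + 1 := by rw [hkk]; exact hpk.mul_left 4
  have hp2 : (kk m).minFac ≠ 2 := by
    intro h2
    rw [h2] at hpk
    obtain ⟨j, hj⟩ := hodd
    omega
  generalize (kk m).minFac = p at *
  have : Fact p.Prime := ⟨hp⟩
  have ht'C : t' ∈ Subgroup.centralizer {t} := Subgroup.mem_centralizer_singleton_iff.2 hc
  have hi : φ ⟨t', ht'C⟩ ≠ 1 := by
    intro h
    rcases (hk _).1 h with h | h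
    · exact ht'1 (congrArg Subtype.val h)
    · exact hne h
  have hi2 : φ ⟨t', ht'C⟩ * φ ⟨t', ht'C⟩ = 1 := by
    rw [← map_mul]
    have : (⟨t', ht'C⟩ : ↥(Subgroup.centralizer {t})) * ⟨t', ht'C⟩ = 1 := Subtype.ext ht'2
    rw [this, map_one]
  obtain ⟨ybar, hyo, hyc⟩ := exists_comm_odd (q_mod8 hK) hp hp2 (by rw [hK]; exact hpq) _ hi hi2
  obtain ⟨⟨y₀, hy₀C⟩, hy₀⟩ := hs ybar
  have hy₀t : y₀ * t = t * y₀ := Subgroup.mem_centralizer_singleton_iff.1 hy₀C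
  -- `y₀ ^ p` is `1` or `t`
  have h1 : (y₀ ^ p) * (y₀ ^ p) = 1 := by
    have : φ (⟨y₀, hy₀C⟩ ^ p) = 1 := by rw [map_pow, hy₀, ← hyo, pow_orderOf_eq_one]
    rcases (hk _).1 this with h | h
    · have h' : y₀ ^ p = 1 := congrArg Subtype.val h
      rw [h', one_mul]
    · have h' : y₀ ^ p = t := h
      rw [h', ht2]
  have hyp : (y₀ ^ 2) ^ p = 1 := by
    rw [← pow_mul, mul_comm, pow_mul, pow_two]; exact h1
  have hy1 : y₀ ^ 2 ≠ 1 := by
    intro h
    have h2 : ybar ^ 2 = 1 := by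
      rw [← hy₀, ← map_pow]
      have : (⟨y₀, hy₀C⟩ : ↥(Subgroup.centralizer {t})) ^ 2 = 1 := Subtype.ext h
      rw [this, map_one]
    have := orderOf_dvd_of_pow_eq_one h2
    rw [hyo] at this
    exact hp2 ((Nat.prime_dvd_prime_iff_eq hp Nat.prime_two).1 this)
  have hyord : orderOf (y₀ ^ 2) = p := orderOf_eq_prime hyp hy1
  have hcomm' : y₀ ^ 2 * t' = t' * y₀ ^ 2 := by
    have h5 : φ (⟨y₀, hy₀C⟩ * ⟨t', ht'C⟩ * ⟨y₀, hy₀C⟩⁻¹ * ⟨t', ht'C⟩⁻¹) = 1 := by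
      rw [map_mul, map_mul, map_mul, map_inv, map_inv, hy₀, ← hyc]; group
    rcases (hk _).1 h5 with h | h
    · have h' : y₀ * t' * y₀⁻¹ * t'⁻¹ = 1 := congrArg Subtype.val h
      have h6 : y₀ * t' = t' * y₀ := by
        have : y₀ * t' = (y₀ * t' * y₀⁻¹ * t'⁻¹) * (t' * y₀) := by group
        rw [this, h', one_mul]
      exact ((show Commute y₀ t' from h6).pow_left 2).eq
    · have h' : y₀ * t' * y₀⁻¹ * t'⁻¹ = t := h
      have h6 : y₀ * t' = t * t' * y₀ := by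
        have : y₀ * t' = (y₀ * t' * y₀⁻¹ * t'⁻¹) * (t' * y₀) := by group
        rw [this, h']; group
      calc y₀ ^ 2 * t' = y₀ * (y₀ * t') := by rw [pow_two]; group
        _ = y₀ * (t * t' * y₀) := by rw [h6]
        _ = (y₀ * t) * t' * y₀ := by group
        _ = (t * y₀) * t' * y₀ := by rw [hy₀t]
        _ = t * (y₀ * t') * y₀ := by group
        _ = t * (t * t' * y₀) * y₀ := by rw [h6]
        _ = (t * t) * t' * y₀ ^ 2 := by rw [pow_two]; group
        _ = t' * y₀ ^ 2 := by rw [ht2, one_mul]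
  refine ⟨Subgroup.centralizer {y₀ ^ 2}, ⟨p, _, hp, hp2, hpq, hyord, rfl⟩, ?_, ?_⟩
  · rw [Subgroup.mem_centralizer_singleton_iff]
    exact ((show Commute y₀ t from hy₀t).pow_left 2).eq.symm
  · rw [Subgroup.mem_centralizer_singleton_iff]
    exact hcomm'.symm

end main

end Cfsg.Agent.Lib.Helper8Ree32
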