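import Cfsg.Agent.Lib.Helper8Ree32
import Cfsg.Agent.Lib.Helper1Fitting
import Cfsg.Agent.S0044

set_option autoImplicit false
set_option linter.unusedSectionVars false
set_option linter.unusedVariables false

namespace Cfsg.Agent.Lib.Helper8Ree33

open Cfsg.Lie Cfsg.Agent.Lib.Helper22ChevBasic Cfsg.Agent.Lib.Helper8Ree2
  Cfsg.Agent.Lib.Helper8Ree5
  Cfsg.Agent.Lib.Helper8Ree6 Cfsg.Agent.Lib.Helper8Ree7 Cfsg.Agent.Lib.Helper8Ree8 Cfsg.Agent.Lib.Helper8Ree9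
  Cfsg.Agent.Lib.Helper8Ree10 Cfsg.Agent.Lib.Helper8Ree11 Cfsg.Agent.Lib.Helper8Ree12 Cfsg.Agent.Lib.Helper8Ree14
  Cfsg.Agent.Lib.Helper8Ree15 Cfsg.Agent.Lib.Helper8Ree16 Cfsg.Agent.Lib.Helper8Ree17 Cfsg.Agent.Lib.Helper8Ree18
  Cfsg.Agent.Lib.Helper8Ree19 Cfsg.Agent.Lib.Helper8Ree20 Cfsg.Agent.Lib.Helper8Ree21 Cfsg.Agent.Lib.Helper8Ree22
  Cfsg.Agent.Lib.Helper8Ree23 Cfsg.Agent.Lib.Helper8Ree24 Cfsg.Agent.Lib.Helper8Ree25 Cfsg.Agent.Lib.Helper8Ree26
  Cfsg.Agent.Lib.Helper8Ree27 Cfsg.Agent.Lib.Helper8Ree28 Cfsg.Agent.Lib.Helper8Ree29 Cfsg.Agent.Lib.Helper8Ree30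
  Cfsg.Agent.Lib.Helper8Ree32
  Cfsg.Agent.Lib.Helper8Rank1 Cfsg.Agent.Lib.Helper8Cnt Cfsg.Agent.Lib.Helper8Cnt2 Cfsg.Agent.Lib.Helper8Ab

variable {K : Type*} [Field K] [Fintype K] [CharP K 3]

theorem le_normalizer_map {G : Type*} [Group G] [Finite G] (S : Subgroup G) (Q : Subgroup S) (hQ : Q.Normal) :
    S ≤ Subgroup.normalizer ((Q.map S.subtype : Subgroup G) : Set G) := by
  intro s hs
  apply Subgroup.mem_normalizer_fintype
  rintro x ⟨q, hq, rfl⟩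
  exact ⟨⟨s, hs⟩ * q * ⟨s, hs⟩⁻¹, hQ.conj_mem q hq _, rfl⟩

theorem normalizer_cj {G : Type*} [Group G] (g : G) (X : Subgroup G) :
    Subgroup.normalizer ((cj g X : Subgroup G) : Set G) = cj g (Subgroup.normalizer (X : Set G)) :=
  (Subgroup.map_equiv_normalizer_eq X (MulAut.conj g)).symm

theorem two_mul_card_le {G : Type*} [Group G] [Finite G] {H L : Subgroup G} (h : H < L) :
    2 * Nat.card H ≤ Nat.card L := by
  obtain ⟨c, hc⟩ := Subgroup.card_dvd_of_le h.le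
  have hpos : 0 < Nat.card L := Nat.card_pos
  have hposH : 0 < Nat.card H := Nat.card_pos
  have hc1 : c ≠ 1 := by
    rintro rfl
    exact h.ne (Subgroup.eq_of_le_of_card_ge h.le (by omega))
  have hc0 : c ≠ 0 := by
    rintro rfl
    omega
  rw [hc, mul_comm]
  exact Nat.mul_le_mul_left _ (by omega)

section main

variable {m : ℕ} (hK : Fintype.card K = 3 ^ (2 * m + 1))
include hK

theorem torB_D_norm (hm : 1 ≤ m) {T : Subgroup (GG K m)} (hT : IsTorB m T) :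
    Subgroup.normalizer ((tors T (torB_comm hK hm hT) (kk m) : Subgroup (GG K m)) : Set (GG K m)) =
      Subgroup.normalizer (T : Set (GG K m)) := by
  have hcyc := torB_D_cyc hK hm hT
  have hcard := (torB_split hK hm hT).1
  have h7 := kk_ge hK hm
  have hND : Subgroup.normalizer (T : Set (GG K m)) ≤
      Subgroup.normalizer ((tors T (torB_comm hK hm hT) (kk m) : Subgroup (GG K m)) : Set (GG K m)) := by
    intro g hg
    apply Subgroup.mem_normalizer_fintype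
    rintro z ⟨hz, hzk⟩
    exact ⟨(Subgroup.mem_normalizer_iff.1 hg z).1 hz, by rw [conj_pow, hzk]; group⟩
  exact (pack T (tors T (torB_comm hK hm hT) (kk m)) (ne_bot_of_card (by rw [hcard]; omega))
    (fun X hX => hND.trans (normalizer_le_of_cyclic hcyc hX))
    (fun y hy hy1 => torB_cent hK hm hT hy.1 (sq_ne_of_odd (kk_spec m).1 hy.2 hy1))).1

theorem odd_aux (hm : 1 ≤ m) {p : ℕ} (hp : p.Prime) (X : Subgroup (GG K m)) (hX : IsCyclic X) (hXc : Nat.card X = p)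
    (hd : p ∣ (3 ^ (2 * m + 1) - 1) / 2 ∨ p ∣ (3 ^ (2 * m + 1) + 1) / 4 ∨ p ∣ 3 ^ (2 * m + 1) - 3 ^ (m + 1) + 1 ∨
      p ∣ 3 ^ (2 * m + 1) + 3 ^ (m + 1) + 1)
    {A : Subgroup (GG K m)} (hA : IsCyclic A) (hpA : p ∣ Nat.card A)
    (hall : ∀ A₀ : Subgroup (GG K m), A₀ ≤ A → A₀ ≠ ⊥ →
      Subgroup.normalizer (A₀ : Set (GG K m)) = Subgroup.normalizer (A : Set (GG K m))) :
    ∃ g, Subgroup.normalizer (X : Set (GG K m)) = Subgroup.normalizer ((cj g A : Subgroup (GG K m)) : Set (GG K m)) := by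
  have : Fact p.Prime := ⟨hp⟩
  obtain ⟨x₀, hx₀⟩ := exists_prime_orderOf_dvd_card' p hpA
  rw [← Subgroup.orderOf_coe] at hx₀
  have hle : Subgroup.zpowers (x₀ : GG K m) ≤ A := Subgroup.zpowers_le.2 x₀.2
  have hc0 : Nat.card (Subgroup.zpowers (x₀ : GG K m)) = p := by rw [Nat.card_zpowers, hx₀]
  have hne : Subgroup.zpowers (x₀ : GG K m) ≠ ⊥ := ne_bot_of_card (by rw [hc0]; exact hp.one_lt)
  obtain ⟨g, hg⟩ := s2358 hK hm p hd (Subgroup.zpowers (x₀ : GG K m)) X inferInstance hX hc0 hXc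
  refine ⟨g, ?_⟩
  rw [hg]
  have e1 := normalizer_cj g (Subgroup.zpowers (x₀ : GG K m))
  have e2 := normalizer_cj g A
  rw [hall _ hle hne] at e1
  exact e1.trans e2.symm

theorem odd_case (hm : 1 ≤ m) {p : ℕ} (hp : p.Prime) (hp3 : 3 < p) (M : Subgroup (GG K m)) (hM : IsPGroup p M)
    (hne : M ≠ ⊥) : ∃ A : Subgroup (GG K m),
      Subgroup.normalizer (M : Set (GG K m)) ≤ Subgroup.normalizer (A : Set (GG K m)) ∧ IsCyclic A ∧
      (Nat.card A = (3 ^ (2 * m + 1) - 1) / 2 ∨ Nat.card A = (3 ^ (2 * m + 1) + 1) / 4 ∨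
          Nat.card A = 3 ^ (2 * m + 1) - 3 ^ (m + 1) + 1 ∨ Nat.card A = 3 ^ (2 * m + 1) + 3 ^ (m + 1) + 1) := by
  have : Fact p.Prime := ⟨hp⟩
  have hcyc := pgroup_cyclic hK hm hp3 M hM
  have hnt : Nontrivial M := (Subgroup.nontrivial_iff_ne_bot M).2 hne
  obtain ⟨x, hxM, hxo, -⟩ := exists_central_elt M hM hnt
  have hle : Subgroup.zpowers x ≤ M := Subgroup.zpowers_le.2 hxM
  have hN := normalizer_le_of_cyclic hcyc hle
  have hXc : Nat.card (Subgroup.zpowers x) = p := by rw [Nat.card_zpowers, hxo]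
  have hpG : p ∣ Nat.card (GG K m) := by rw [← hxo]; exact orderOf_dvd_natCard x
  have hp2 : p ≠ 2 := by omega
  have hc2 : Nat.Coprime p 2 := (Nat.coprime_primes hp Nat.prime_two).2 hp2
  have hd : p ∣ (3 ^ (2 * m + 1) - 1) / 2 ∨ p ∣ (3 ^ (2 * m + 1) + 1) / 4 ∨ p ∣ 3 ^ (2 * m + 1) - 3 ^ (m + 1) + 1 ∨
      p ∣ 3 ^ (2 * m + 1) + 3 ^ (m + 1) + 1 := by
    rcases prime_cases hK hp (by omega) hpG with h | h | h
    · left
      obtain ⟨k, hk⟩ := half_odd m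
      have e : (3 ^ (2 * m + 1) - 1) / 2 = 2 * k + 1 := by omega
      rw [e]
      rw [hk] at h
      exact hc2.dvd_of_dvd_mul_left h
    · right; left
      rw [(kk_spec m).2] at h
      have hc4 : Nat.Coprime p 4 := by
        have : Nat.Coprime p (2 ^ 2) := Nat.Coprime.pow_right 2 hc2
        exact this
      exact hc4.dvd_of_dvd_mul_left h
    · right; right
      rw [← phi_factor] at h
      exact (Nat.Prime.dvd_mul hp).1 h
  have h58 := s1158 hK hm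
  rcases hd with h | h | h | h
  · obtain ⟨A, hA, hc, -, hall⟩ := h58 _ (Or.inl rfl)
    obtain ⟨g, hg⟩ := odd_aux hK hm hp _ inferInstance hXc (Or.inl h) hA (by rw [hc]; exact h) hall
    exact ⟨cj g A, by rw [← hg]; exact hN, isCyclic_cj g A hA, Or.inl (by rw [card_cj]; exact hc)⟩
  · obtain ⟨A, hA, hc, -, hall⟩ := h58 _ (Or.inr (Or.inl rfl))
    obtain ⟨g, hg⟩ := odd_aux hK hm hp _ inferInstance hXc (Or.inr (Or.inl h)) hA (by rw [hc]; exact h) hall
    exact ⟨cj g A, by rw [← hg]; exact hN, isCyclic_cj g A hA, Or.inr (Or.inl (by rw [card_cj]; exact hc))⟩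
  · obtain ⟨A, hA, hc, -, hall⟩ := h58 _ (Or.inr (Or.inr (Or.inl rfl)))
    obtain ⟨g, hg⟩ := odd_aux hK hm hp _ inferInstance hXc (Or.inr (Or.inr (Or.inl h))) hA (by rw [hc]; exact h) hall
    exact ⟨cj g A, by rw [← hg]; exact hN, isCyclic_cj g A hA, Or.inr (Or.inr (Or.inl (by rw [card_cj]; exact hc)))⟩
  · obtain ⟨A, hA, hc, -, hall⟩ := h58 _ (Or.inr (Or.inr (Or.inr rfl)))
    obtain ⟨g, hg⟩ := odd_aux hK hm hp _ inferInstance hXc (Or.inr (Or.inr (Or.inr h))) hA (by rw [hc]; exact h) hall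
    exact ⟨cj g A, by rw [← hg]; exact hN, isCyclic_cj g A hA, Or.inr (Or.inr (Or.inr (by rw [card_cj]; exact hc)))⟩

theorem three_case (M : Subgroup (GG K m)) (hM : IsPGroup 3 M) (hne : M ≠ ⊥) :
    ∃ P : Sylow 3 (GG K m), Subgroup.normalizer (M : Set (GG K m)) ≤
      Subgroup.normalizer ((P : Subgroup (GG K m)) : Set (GG K m)) := by
  have : Fact (Nat.Prime 3) := ⟨Nat.prime_three⟩
  obtain ⟨P, hP⟩ := hM.exists_le_sylow
  refine ⟨P, fun s hs => ?_⟩
  suffices h : s • P = P from Sylow.smul_eq_iff_mem_normalizer.1 h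
  by_contra hcon
  have h1 := sylow3_ti hK (s • P) P hcon
  apply hne
  rw [eq_bot_iff, ← h1]
  intro x hx
  refine ⟨?_, hP hx⟩
  show x ∈ ((s • P : Sylow 3 (GG K m)) : Subgroup (GG K m))
  rw [Sylow.coe_subgroup_smul, Subgroup.mem_pointwise_smul_iff_inv_smul_mem]
  have h2 : s⁻¹ * x * s⁻¹⁻¹ ∈ M := (Subgroup.mem_normalizer_iff.1 (Subgroup.inv_mem _ hs) x).1 hx
  have h3 : (MulAut.conj s)⁻¹ • x = s⁻¹ * x * s⁻¹⁻¹ := by
    simp [MulAut.smul_def]
  exact h3 ▸ hP h2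

theorem two_case (hm : 1 ≤ m) (S F : Subgroup (GG K m)) (hF : IsPGroup 2 F) (hFS : F ≤ S)
    (hSF : S ≤ Subgroup.normalizer (F : Set (GG K m)))
    (hcent : ∀ s ∈ S, (∀ x ∈ F, s * x = x * s) → s ∈ F) :
    ∃ A : Subgroup (GG K m), S ≤ Subgroup.normalizer (A : Set (GG K m)) ∧
      ((∃ P : Sylow 2 (GG K m), A = P) ∨ (IsCyclic A ∧ Nat.card A = (3 ^ (2 * m + 1) + 1) / 4)) := by
  have : Fact (Nat.Prime 2) := ⟨Nat.prime_two⟩
  obtain ⟨P, hP⟩ := hF.exists_le_sylow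
  have hexp := exp_sylow_GG hK P
  have h8 := card_sylow_GG hK P
  by_cases h1 : ∃ t ∈ F, t ≠ 1
  swap
  · -- `F` trivial
    push Not at h1
    refine ⟨P, ?_, Or.inl ⟨P, rfl⟩⟩
    intro s hs
    have : s ∈ F := hcent s hs (fun x hx => by rw [h1 x hx, mul_one, one_mul])
    exact Subgroup.le_normalizer (hP this)
  obtain ⟨t, htF, ht1⟩ := h1
  have ht2 : t * t = 1 := hexp t (hP htF)
  by_cases h2 : ∃ t' ∈ F, t' ≠ 1 ∧ t' ≠ t
  swap
  · push Not at h2
    refine ⟨P, ?_, Or.inl ⟨P, rfl⟩⟩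
    intro s hs
    have hst : s * t * s⁻¹ = t := by
      have h3 : s * t * s⁻¹ ∈ F := (Subgroup.mem_normalizer_iff.1 (hSF hs) t).1 htF
      exact h2 _ h3 (conj_ne_one ht1)
    have : s ∈ F := hcent s hs (fun x hx => by
      by_cases hx1 : x = 1
      · rw [hx1, mul_one, one_mul]
      · rw [h2 x hx hx1]
        exact mul_inv_eq_iff_eq_mul.1 hst)
    exact Subgroup.le_normalizer (hP this)
  obtain ⟨t', ht'F, ht'1, hne⟩ := h2
  have ht'2 : t' * t' = 1 := hexp t' (hP ht'F)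
  have hcommP : ∀ a ∈ P, ∀ b ∈ P, a * b = b * a := by
    intro a ha b hb
    have h3 := hexp (a * b) (P.mul_mem ha hb)
    have ha2 := hexp a ha
    have hb2 := hexp b hb
    calc a * b = a * (a * b * (a * b)) * b := by rw [h3, mul_one]
      _ = (a * a) * (b * a) * (b * b) := by group
      _ = b * a := by rw [ha2, hb2, one_mul, mul_one]
  obtain ⟨T, hT, htT, ht'T⟩ := exists_torB_four hK hm ht1 ht2 ht'1 ht'2 hne (hcommP t' (hP ht'F) t (hP htF))
  by_cases hFT : F ≤ T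
  · refine ⟨tors T (torB_comm hK hm hT) (kk m), ?_, Or.inr ⟨torB_D_cyc hK hm hT, (torB_split hK hm hT).1⟩⟩
    rw [torB_D_norm hK hm hT]
    intro s hs
    have a1 : s * t * s⁻¹ ∈ F := (Subgroup.mem_normalizer_iff.1 (hSF hs) t).1 htF
    have a2 : s * t' * s⁻¹ ∈ F := (Subgroup.mem_normalizer_iff.1 (hSF hs) t').1 ht'F
    have hT' : IsTorB m (cj s T) := by
      obtain ⟨p, y, hp, hp2, hpq, hy, rfl⟩ := hT
      exact ⟨p, s * y * s⁻¹, hp, hp2, hpq, by rw [orderOf_conj, hy], (cent_conj s y).symm⟩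
    have b1 : s * t * s⁻¹ ∈ cj s T := by
      rw [mem_cj]
      have : s⁻¹ * (s * t * s⁻¹) * s = t := by group
      rw [this]; exact htT
    have b2 : s * t' * s⁻¹ ∈ cj s T := by
      rw [mem_cj]
      have : s⁻¹ * (s * t' * s⁻¹) * s = t' := by group
      rw [this]; exact ht'T
    have hu := torB_unique hK hm hT hT' (t := s * t * s⁻¹) (t' := s * t' * s⁻¹) (conj_ne_one ht1)
      (hexp _ (hP a1)) (conj_ne_one ht'1) (by
        intro h
        apply hne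
        exact mul_left_cancel (mul_right_cancel h)) (hFT a1) (hFT a2) b1 b2
    apply Subgroup.mem_normalizer_fintype
    intro a ha
    show s * a * s⁻¹ ∈ T
    rw [hu, mem_cj]
    have : s⁻¹ * (s * a * s⁻¹) * s = a := by group
    rw [this]; exact ha
  · -- `F` is a Sylow subgroup
    have l1 : Subgroup.zpowers t < F ⊓ T := by
      refine lt_of_le_of_ne (Subgroup.zpowers_le.2 ⟨htF, htT⟩) ?_
      intro h
      have h3 : t' ∈ Subgroup.zpowers t := by rw [h]; exact ⟨ht'F, ht'T⟩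
      obtain ⟨j, hj⟩ := Subgroup.mem_zpowers_iff.1 h3
      rcases Int.even_or_odd' j with ⟨c, rfl | rfl⟩
      · apply ht'1
        rw [← hj, zpow_mul, zpow_two, ht2, one_zpow]
      · apply hne
        rw [← hj, zpow_add, zpow_mul, zpow_two, ht2, one_zpow, one_mul, zpow_one]
    have l2 : F ⊓ T < F := lt_of_le_of_ne inf_le_left (fun h => hFT (inf_eq_left.1 h))
    have c1 := two_mul_card_le l1
    have c2 := two_mul_card_le l2
    have c0 : Nat.card (Subgroup.zpowers t) = 2 := by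
      rw [Nat.card_zpowers, orderOf_eq_prime_iff]
      exact ⟨by rw [pow_two, ht2], ht1⟩
    have hFP : F = P := Subgroup.eq_of_le_of_card_ge hP (by
      have : Nat.card (P : Subgroup (GG K m)) = 8 := h8
      omega)
    exact ⟨F, hSF, Or.inl ⟨P, hFP⟩⟩

theorem s2361 (hm : 1 ≤ m) (S : Subgroup (GG K m)) (hS : Group.IsSolvable S) :
    ∃ A : Subgroup (GG K m), S ≤ Subgroup.normalizer (A : Set (GG K m)) ∧
      ((∃ P : Sylow 2 (GG K m), A = P) ∨
       (∃ P : Sylow 3 (GG K m), A = P) ∨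
       (IsCyclic A ∧ (Nat.card A = (3 ^ (2 * m + 1) - 1) / 2 ∨ Nat.card A = (3 ^ (2 * m + 1) + 1) / 4 ∨
          Nat.card A = 3 ^ (2 * m + 1) - 3 ^ (m + 1) + 1 ∨ Nat.card A = 3 ^ (2 * m + 1) + 3 ^ (m + 1) + 1))) := by
  by_cases hodd : ∃ p : ℕ, p.Prime ∧ p ≠ 2 ∧ Cfsg.pCore p ↥S ≠ ⊥
  · obtain ⟨p, hp, hp2, hne⟩ := hodd
    have hSM := le_normalizer_map S _ (Cfsg.Agent.Lib.Helper1Fitting.pCore_normal (G := ↥S) p)
    have hMp : IsPGroup p ((Cfsg.pCore p ↥S).map S.subtype) :=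
      (Cfsg.Agent.Lib.Helper1Fitting.pCore_isPGroup (G := ↥S) p).map _
    have hMne : (Cfsg.pCore p ↥S).map S.subtype ≠ ⊥ := by
      intro h
      exact hne ((Subgroup.map_eq_bot_iff_of_injective _ S.subtype_injective).1 h)
    by_cases hp3 : p = 3
    · subst hp3
      obtain ⟨P, hP⟩ := three_case hK _ hMp hMne
      exact ⟨P, hSM.trans hP, Or.inr (Or.inl ⟨P, rfl⟩)⟩
    · have h3 : 3 < p := by
        have := hp.two_le
        omega
      obtain ⟨A, hA, hcyc, hc⟩ := odd_case hK hm hp h3 _ hMp hMne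
      exact ⟨A, hSM.trans hA, Or.inr (Or.inr ⟨hcyc, hc⟩)⟩
  · push Not at hodd
    have hfit : Cfsg.fittingSubgroup ↥S = Cfsg.pCore 2 ↥S := by
      rw [Cfsg.Agent.Lib.Helper1Fitting.fitting_eq_iSup_pCore]
      apply le_antisymm
      · apply iSup_le
        intro p
        by_cases h2 : (p : ℕ) = 2
        · rw [h2]
        · rw [hodd p p.2 h2]; exact bot_le
      · exact le_iSup (fun p : Nat.Primes => Cfsg.pCore (p : ℕ) ↥S) ⟨2, Nat.prime_two⟩
    have hcent := Cfsg.Agent.S0044.result (G := ↥S)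
    rw [hfit] at hcent
    obtain ⟨A, hA, h⟩ := two_case hK hm S ((Cfsg.pCore 2 ↥S).map S.subtype)
      ((Cfsg.Agent.Lib.Helper1Fitting.pCore_isPGroup (G := ↥S) 2).map _) (Subgroup.map_subtype_le _)
      (le_normalizer_map S _ (Cfsg.Agent.Lib.Helper1Fitting.pCore_normal (G := ↥S) 2))
      (by
        intro s hs hx
        have : (⟨s, hs⟩ : ↥S) ∈ Subgroup.centralizer ((Cfsg.pCore 2 ↥S : Subgroup ↥S) : Set ↥S) := by
          rw [Subgroup.mem_centralizer_iff]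
          intro x hx'
          apply Subtype.ext
          exact (hx x ⟨x, hx', rfl⟩).symm
        exact ⟨_, hcent this, rfl⟩)
    rcases h with h | ⟨h1, h2⟩
    · exact ⟨A, hA, Or.inl h⟩
    · exact ⟨A, hA, Or.inr (Or.inr ⟨h1, Or.inr (Or.inl h2)⟩)⟩

end main

end Cfsg.Agent.Lib.Helper8Ree33
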