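import Cfsg.Agent.Lib.Helper8Sz8
import Cfsg.Agent.Lib.Helper8Cover
import Cfsg.Prelude.Def_KGroupFacts

set_option autoImplicit false
set_option linter.unusedVariables false
set_option linter.unusedSectionVars false
set_option linter.unusedSimpArgs false

namespace Cfsg.Agent.Lib.Helper8SzAut

open Cfsg Cfsg.Agent.Lib.Helper8Sz Cfsg.Agent.Lib.Helper8Sz2 Cfsg.Agent.Lib.Helper8Sz3
  Cfsg.Agent.Lib.Helper8Sz4 Cfsg.Agent.Lib.Helper8Sz5 Cfsg.Agent.Lib.Helper8Sz7
  Cfsg.Agent.Lib.Helper8Sz8 Cfsg.Agent.Lib.Helper8Cover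

theorem ringAut_card {F : Type*} [Field F] [Fintype F] {p f : ℕ} [Fact p.Prime]
    (hF : Fintype.card F = p ^ f) : Nat.card (F ≃+* F) = f := by
  have hchar : CharP F p := charP_of_card_eq_prime_pow hF
  let _ : Algebra (ZMod p) F := ZMod.algebra F p
  let e : (F ≃ₐ[ZMod p] F) ≃ (F ≃+* F) :=
    { toFun := fun σ => σ.toRingEquiv
      invFun := fun σ => AlgEquiv.ofRingEquiv (f := σ) (fun r => by
        have := RingHom.ext_zmod ((σ : F →+* F).comp (algebraMap (ZMod p) F))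
          (algebraMap (ZMod p) F)
        exact congrFun (congrArg DFunLike.coe this) r)
      left_inv := fun σ => by ext; rfl
      right_inv := fun σ => by ext; rfl }
  have hfin : Module.finrank (ZMod p) F = f := by
    have h1 := Module.card_eq_pow_finrank (K := ZMod p) (V := F)
    rw [ZMod.card, hF] at h1
    exact (Nat.pow_right_injective (Fact.out : p.Prime).two_le h1).symm
  rw [← Nat.card_congr e, IsGalois.card_aut_eq_finrank, hfin]

variable {F : Type*} [Field F]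

/-- entrywise action of a ring automorphism -/
def fmap (τ : F ≃+* F) :
    Matrix.SpecialLinearGroup (Fin 4) F →* Matrix.SpecialLinearGroup (Fin 4) F :=
  Matrix.SpecialLinearGroup.map (τ : F →+* F)

theorem fmap_apply (τ : F ≃+* F) (g : Matrix.SpecialLinearGroup (Fin 4) F) (i j : Fin 4) :
    (fmap τ g) i j = τ (g i j) := rfl

theorem tau_sg (τ : F ≃+* F) (m : ℕ) (x : F) : τ (sg m x) = sg m (τ x) := map_pow τ x _

theorem tau_fS (τ : F ≃+* F) (m : ℕ) (x y : F) : τ (fS m x y) = fS m (τ x) (τ y) := by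
  simp [fS]

theorem fmap_tS (τ : F ≃+* F) (m : ℕ) (a b : F) : fmap τ (tS m a b) = tS m (τ a) (τ b) := by
  ext i j
  rw [fmap_apply]
  fin_cases i <;> fin_cases j <;> simp [tS, tMat, tau_sg, tau_fS]

theorem fmap_wS (τ : F ≃+* F) : fmap τ (wS : Matrix.SpecialLinearGroup (Fin 4) F) = wS := by
  ext i j
  rw [fmap_apply]
  fin_cases i <;> fin_cases j <;> simp [wS, suzukiForm]

theorem fmap_hS (τ : F ≃+* F) (m : ℕ) (c : F) (hc : c ≠ 0) :
    fmap τ (hS m c hc) = hS m (τ c) ((map_ne_zero τ).2 hc) := by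
  ext i j
  rw [fmap_apply]
  fin_cases i <;> fin_cases j <;> simp [hS, hMat, tau_sg]

theorem fmap_symm (τ : F ≃+* F) (g : Matrix.SpecialLinearGroup (Fin 4) F) :
    fmap τ.symm (fmap τ g) = g := by
  ext i j
  rw [fmap_apply, fmap_apply, RingEquiv.symm_apply_apply]

theorem fmap_symm' (τ : F ≃+* F) (g : Matrix.SpecialLinearGroup (Fin 4) F) :
    fmap τ (fmap τ.symm g) = g := by
  ext i j
  rw [fmap_apply, fmap_apply, RingEquiv.apply_symm_apply]

variable [Fintype F] {m : ℕ} (hF : Fintype.card F = 2 ^ (2 * m + 1))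
include hF

theorem fmap_mem (hm : 1 ≤ m) (τ : F ≃+* F) {g : Matrix.SpecialLinearGroup (Fin 4) F}
    (hg : g ∈ Sz F m) : fmap τ g ∈ Sz F m := by
  rcases Sz_decomp hF hm hg with ⟨a, b, c, hc, rfl⟩ | ⟨a, b, a', b', c, hc, rfl⟩
  · rw [map_mul, fmap_tS, fmap_hS]
    exact Subgroup.mul_mem _ (tS_mem hF _ _) (hS_mem hF _ _)
  · rw [map_mul, map_mul, map_mul, fmap_tS, fmap_tS, fmap_hS, fmap_wS]
    exact Subgroup.mul_mem _ (Subgroup.mul_mem _ (tS_mem hF _ _) (wS_mem hF))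
      (Subgroup.mul_mem _ (tS_mem hF _ _) (hS_mem hF _ _))

/-- the field automorphism of the Suzuki group -/
def Phi (hm : 1 ≤ m) (τ : F ≃+* F) : MulAut (Sz F m) where
  toFun g := ⟨fmap τ g.1, fmap_mem hF hm τ g.2⟩
  invFun g := ⟨fmap τ.symm g.1, fmap_mem hF hm τ.symm g.2⟩
  left_inv g := Subtype.ext (fmap_symm τ g.1)
  right_inv g := Subtype.ext (fmap_symm' τ g.1)
  map_mul' g h := Subtype.ext (map_mul (fmap τ) g.1 h.1)

theorem Phi_T (hm : 1 ≤ m) (τ : F ≃+* F) (a b : F) :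
    Phi hF hm τ (T hF a b) = T hF (τ a) (τ b) := Subtype.ext (fmap_tS τ m a b)

theorem Phi_H (hm : 1 ≤ m) (τ : F ≃+* F) (c : F) (hc : c ≠ 0) :
    Phi hF hm τ (H hF c hc) = H hF (τ c) ((map_ne_zero τ).2 hc) := Subtype.ext (fmap_hS τ m c hc)

theorem Phi_W (hm : 1 ≤ m) (τ : F ≃+* F) : Phi hF hm τ (W hF) = W hF := Subtype.ext (fmap_wS τ)

theorem Phi_inv (hm : 1 ≤ m) (τ : F ≃+* F) : (Phi hF hm τ)⁻¹ = Phi hF hm τ.symm := rfl

/-- an automorphism fixing the Borel subgroup elementwise with `α W ∞ = 0` is trivial -/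
theorem rigid (hm : 1 ≤ m) (α : MulAut (Sz F m)) (hT : ∀ a b, α (T hF a b) = T hF a b)
    (hH : ∀ c hc, α (H hF c hc) = H hF c hc) (hW : α (W hF) • oInf F m = oPt m 0 0) : α = 1 := by
  have h1 : ∀ g : Sz F m, α g • oInf F m = g • oInf F m := by
    intro g
    rcases decomp hF hm g with ⟨a, b, c, hc, rfl⟩ | ⟨a, b, a', b', c, hc, rfl⟩
    · rw [map_mul, hT, hH]
    · rw [map_mul, map_mul, map_mul, hT, hT, hH]
      simp only [mul_smul, H_oInf, T_oInf, hW, W_oInf]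
  ext1 g
  have := faithful hF hm
  apply FaithfulSMul.eq_of_smul_eq_smul (α := suzukiOvoid F m)
  intro ω
  obtain ⟨k, rfl⟩ := exists_map_inf hF ω
  calc α g • (k • oInf F m) = α g • (α k • oInf F m) := by rw [h1 k]
    _ = α (g * k) • oInf F m := by rw [map_mul, mul_smul]
    _ = g • (k • oInf F m) := by rw [h1, mul_smul]

theorem mem_Q_of_fix (hm : 1 ≤ m) {x : Sz F m} (hx : x • oInf F m = oInf F m) (h4 : x ^ 4 = 1) :
    ∃ a b, x = T hF a b := by
  let g : MulAction.stabilizer (Sz F m) (oInf F m) := ⟨x, hx⟩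
  apply mem_ker_chi hF hm g
  rw [MonoidHom.mem_ker]
  have h : (chi hF hm g) ^ 4 = 1 := by
    rw [← map_pow]
    have : g ^ 4 = 1 := Subtype.ext h4
    rw [this, map_one]
  apply Units.ext
  have h' : ((chi hF hm g : Fˣ) : F) ^ 4 = 1 := by
    have := congrArg Units.val h
    simpa using this
  apply sq_injective hF
  apply sq_injective hF
  rw [Units.val_one, one_pow, one_pow, ← pow_mul]
  exact h'

theorem T_comm (hm : 1 ≤ m) (a b y : F) : T hF a b * T hF 0 y = T hF 0 y * T hF a b := by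
  rw [T_mul hF hm, T_mul hF hm]
  congr 1
  · ring
  · rw [sg_zero]; ring

theorem T01_ne_one (hm : 1 ≤ m) : T hF (0 : F) 1 ≠ 1 := by
  intro h
  rw [← T_zero hF hm] at h
  exact one_ne_zero (T_inj hF h).2

theorem orderOf_T01 (hm : 1 ≤ m) : orderOf (T hF (0 : F) 1) = 2 := by
  apply orderOf_eq_prime
  · rw [pow_two, T_sq hF hm, zero_mul, T_zero hF hm]
  · exact T01_ne_one hF hm

theorem invol_unique (hm : 1 ≤ m) {t : Sz F m} (ht : orderOf t = 2) {c : suzukiOvoid F m}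
    (hc : t • c = c) : ∀ d, t • d = d → d = c := by
  obtain ⟨c', hc', hu⟩ := invol_fix hF hm ht
  intro d hd
  rw [hu d hd, hu c hc]

theorem aut_Q (hm : 1 ≤ m) (α : MulAut (Sz F m))
    (N1 : α (T hF 0 1) • oInf F m = oInf F m) (a b : F) :
    ∃ a' b', α (T hF a b) = T hF a' b' := by
  have ho : orderOf (α (T hF 0 1)) = 2 := by rw [MulEquiv.orderOf_eq, orderOf_T01 hF hm]
  have hu := invol_unique hF hm ho N1
  have hcomm : α (T hF a b) * α (T hF 0 1) = α (T hF 0 1) * α (T hF a b) := by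
    rw [← map_mul, ← map_mul, T_comm hF hm]
  have hfix := fix_of_comm_unique N1 hu hcomm
  exact mem_Q_of_fix hF hm hfix (by rw [← map_pow, T_pow_four hF hm, map_one])

/-- the dual automorphism -/
def dual (α : MulAut (Sz F m)) : MulAut (Sz F m) := MulAut.conj (W hF) * α * MulAut.conj (W hF)

theorem dual_apply (α : MulAut (Sz F m)) (x : Sz F m) :
    dual hF α x = W hF * α (W hF * x * W hF) * W hF := by
  simp only [dual, MulAut.mul_apply, MulAut.conj_apply, W_inv]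

theorem dual_N1 (α : MulAut (Sz F m))
    (N2 : α (W hF * T hF 0 1 * W hF) • oPt m (0 : F) 0 = oPt m 0 0) :
    dual hF α (T hF 0 1) • oInf F m = oInf F m := by
  rw [dual_apply, mul_smul, mul_smul, W_oInf, N2, W_oPt_zero]

theorem aut_Qm (hm : 1 ≤ m) (α : MulAut (Sz F m))
    (N2 : α (W hF * T hF 0 1 * W hF) • oPt m (0 : F) 0 = oPt m 0 0) (a b : F) :
    ∃ a' b', α (W hF * T hF a b * W hF) = W hF * T hF a' b' * W hF := by
  obtain ⟨a', b', h⟩ := aut_Q hF hm (dual hF α) (dual_N1 hF α N2) a b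
  refine ⟨a', b', ?_⟩
  rw [← h, dual_apply]
  have hw := W_mul_self hF
  calc α (W hF * T hF a b * W hF)
      = (W hF * W hF) * α (W hF * T hF a b * W hF) * (W hF * W hF) := by rw [hw, one_mul, mul_one]
    _ = _ := by group

theorem aut_ne (α : MulAut (Sz F m)) {x : Sz F m} (hx : x ≠ 1) : α x ≠ 1 := by
  intro h
  exact hx (α.injective (by rw [h, map_one]))

theorem T_ne_one_iff (hm : 1 ≤ m) {a b : F} (h : T hF a b ≠ 1) : ¬ (a = 0 ∧ b = 0) := by
  rintro ⟨rfl, rfl⟩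
  exact h (T_zero hF hm)

theorem aut_H_inf (hm : 1 ≤ m) (α : MulAut (Sz F m))
    (N1 : α (T hF 0 1) • oInf F m = oInf F m) (c : F) (hc : c ≠ 0) :
    α (H hF c hc) • oInf F m = oInf F m := by
  obtain ⟨a0, b0, h0⟩ := aut_Q hF hm α N1 0 1
  have hne : ¬ (a0 = 0 ∧ b0 = 0) := T_ne_one_iff hF hm (h0 ▸ aut_ne hF α (T01_ne_one hF hm))
  obtain ⟨a', b', h1⟩ := aut_Q hF hm α N1 (sg m c * 0) (c ^ 2 * sg m c * 1)
  have h2 : α (H hF c hc) * T hF a0 b0 * (α (H hF c hc))⁻¹ = T hF a' b' := by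
    rw [← h0, ← h1, ← map_inv, ← map_mul, ← map_mul, H_T_H hF hm]
  have h3 := (conj_T_fix hF (α (H hF c hc)) hne (oInf F m)).1 (by rw [h2, T_oInf])
  exact h3.symm

theorem H_W (c : F) (hc : c ≠ 0) : H hF c hc * W hF = W hF * H hF c⁻¹ (inv_ne_zero hc) := by
  have := W_H hF c⁻¹ (inv_ne_zero hc)
  rw [this]
  congr 1
  simp only [inv_inv]

theorem aut_H_zero (hm : 1 ≤ m) (α : MulAut (Sz F m))
    (N2 : α (W hF * T hF 0 1 * W hF) • oPt m (0 : F) 0 = oPt m 0 0) (c : F) (hc : c ≠ 0) :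
    α (H hF c hc) • oPt m (0 : F) 0 = oPt m 0 0 := by
  have h := aut_H_inf hF hm (dual hF α) (dual_N1 hF α N2) c⁻¹ (inv_ne_zero hc)
  rw [dual_apply] at h
  have e : W hF * H hF c⁻¹ (inv_ne_zero hc) * W hF = H hF c hc := by
    rw [← H_W hF c hc, mul_assoc, W_mul_self, mul_one]
  rw [e, mul_smul, mul_smul, W_oInf] at h
  have h2 : W hF • (W hF • α (H hF c hc) • oPt m (0 : F) 0) = W hF • oInf F m := by rw [h]
  rwa [← mul_smul, W_mul_self, one_smul, W_oInf] at h2

theorem aut_H (hm : 1 ≤ m) (α : MulAut (Sz F m))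
    (N1 : α (T hF 0 1) • oInf F m = oInf F m)
    (N2 : α (W hF * T hF 0 1 * W hF) • oPt m (0 : F) 0 = oPt m 0 0) (c : F) (hc : c ≠ 0) :
    ∃ (c' : F) (hc' : c' ≠ 0), α (H hF c hc) = H hF c' hc' :=
  stab_two' hF hm (aut_H_inf hF hm α N1 c hc) (aut_H_zero hF hm α N2 c hc)

theorem aut_W (hm : 1 ≤ m) (α : MulAut (Sz F m))
    (N1 : α (T hF 0 1) • oInf F m = oInf F m)
    (N2 : α (W hF * T hF 0 1 * W hF) • oPt m (0 : F) 0 = oPt m 0 0) :
    α (W hF) • oInf F m = oPt m 0 0 := by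
  obtain ⟨a0, b0, h0⟩ := aut_Q hF hm α N1 0 1
  have hne : ¬ (a0 = 0 ∧ b0 = 0) := T_ne_one_iff hF hm (h0 ▸ aut_ne hF α (T01_ne_one hF hm))
  have h2 : α (W hF) * T hF a0 b0 * (α (W hF))⁻¹ = α (W hF * T hF 0 1 * W hF) := by
    rw [← h0, ← map_inv, ← map_mul, ← map_mul, W_inv]
  have h3 := (conj_T_fix hF (α (W hF)) hne (oPt m 0 0)).1 (by rw [h2, N2])
  exact h3.symm

theorem Phi_inf (hm : 1 ≤ m) (τ : F ≃+* F) {x : Sz F m} (hx : x • oInf F m = oPt m 0 0) :
    Phi hF hm τ x • oInf F m = oPt m 0 0 := by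
  rcases decomp hF hm x with ⟨a, b, c, hc, rfl⟩ | ⟨a, b, a', b', c, hc, rfl⟩
  · rw [mul_smul, H_oInf, T_oInf] at hx
    exact absurd hx.symm (oPt_ne_oInf 0 0)
  · simp only [mul_smul, H_oInf, T_oInf, W_oInf, T_oPt_zero] at hx
    obtain ⟨rfl, rfl⟩ := oPt_inj hx
    rw [map_mul, map_mul, map_mul, Phi_T, Phi_T, Phi_H, Phi_W]
    simp only [mul_smul, H_oInf, T_oInf, W_oInf, T_oPt_zero, map_zero]

theorem aut_normalized (hm : 1 ≤ m) (α : MulAut (Sz F m))
    (N1 : α (T hF 0 1) • oInf F m = oInf F m)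
    (N2 : α (W hF * T hF 0 1 * W hF) • oPt m (0 : F) 0 = oPt m 0 0)
    (N3 : ∃ b', α (T hF 1 0) = T hF 1 b') : ∃ τ : F ≃+* F, α = Phi hF hm τ := by
  have h20 : (2 : F) = 0 := two_eq_zero hF
  choose f g hfg using aut_Q hF hm α N1
  choose γ hγ0 hγ using aut_H hF hm α N1 N2
  have hmul : ∀ a b a' b', f (a + a') (b + b' + sg m a * a') = f a b + f a' b' ∧
      g (a + a') (b + b' + sg m a * a') = g a b + g a' b' + sg m (f a b) * f a' b' := by
    intro a b a' b'
    have := congrArg α (T_mul hF hm a b a' b')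
    rw [map_mul, hfg, hfg, hfg, T_mul hF hm] at this
    exact T_inj hF this.symm
  have hconj : ∀ c hc a b, f (sg m c * a) (c ^ 2 * sg m c * b) = sg m (γ c hc) * f a b ∧
      g (sg m c * a) (c ^ 2 * sg m c * b) = (γ c hc) ^ 2 * sg m (γ c hc) * g a b := by
    intro c hc a b
    have := congrArg α (H_T_H hF hm c hc a b)
    rw [map_mul, map_mul, map_inv, hγ, hfg, hfg, H_T_H hF hm] at this
    exact T_inj hF this.symm
  have hf0 : ∀ b, f 0 b = 0 := by
    intro b
    apply T_sq_eq_one hF hm (b := g 0 b)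
    rw [← hfg, ← map_pow, pow_two, T_sq hF hm, zero_mul, T_zero hF hm, map_one]
  have h00 : f 0 0 = 0 ∧ g 0 0 = 0 := by
    have := hfg 0 0
    rw [T_zero hF hm, map_one, ← T_zero hF hm] at this
    exact ⟨(T_inj hF this).1.symm, (T_inj hF this).2.symm⟩
  have hf : ∀ a b, f a b = f a 0 := by
    intro a b
    have := (hmul a 0 0 b).1
    rw [hf0, add_zero, add_zero, mul_zero, add_zero, zero_add] at this
    exact this
  have hg : ∀ a b, g a b = g a 0 + g 0 b := by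
    intro a b
    have := (hmul a 0 0 b).2
    rw [hf0, add_zero, mul_zero, mul_zero, add_zero, add_zero, zero_add] at this
    exact this
  have hψadd : ∀ a a', f (a + a') 0 = f a 0 + f a' 0 := by
    intro a a'
    have := (hmul a 0 a' 0).1
    rw [hf] at this
    exact this
  have hψ1 : f 1 0 = 1 := by
    obtain ⟨b', hb'⟩ := N3
    rw [hfg] at hb'
    exact (T_inj hF hb').1
  have hψσ : ∀ c hc, f (sg m c) 0 = sg m (γ c hc) := by
    intro c hc
    have := (hconj c hc 1 0).1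
    rw [mul_one, mul_zero, hψ1, mul_one] at this
    exact this
  have hψmul : ∀ e a, f (e * a) 0 = f e 0 * f a 0 := by
    intro e a
    by_cases he : e = 0
    · subst he; rw [zero_mul, h00.1, zero_mul]
    · obtain ⟨c, rfl⟩ := (sg_bijective hF).2 e
      have hc : c ≠ 0 := by rintro rfl; exact he (sg_zero m)
      have := (hconj c hc a 0).1
      rw [mul_zero] at this
      rw [this, hψσ c hc]
  let τ0 : F →+* F :=
    { toFun := fun a => f a 0
      map_one' := hψ1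
      map_mul' := hψmul
      map_zero' := h00.1
      map_add' := hψadd }
  let τ : F ≃+* F := RingEquiv.ofBijective τ0
    ⟨τ0.injective, Finite.injective_iff_surjective.1 τ0.injective⟩
  have hτ : ∀ a, τ a = f a 0 := fun a => rfl
  have hγτ : ∀ c hc, γ c hc = τ c := by
    intro c hc
    apply sg_injective hF
    rw [← hψσ c hc, ← hτ, tau_sg]
  -- the centre
  have hφ : ∀ b, g 0 b = τ b := by
    intro b
    by_cases hb : b = 0
    · subst hb; rw [h00.2, map_zero]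
    · obtain ⟨c, hc, rfl⟩ := norm_surj hF hb
      have := congrArg α (T_sq hF hm c 0)
      rw [map_mul, hfg, hfg, T_sq hF hm] at this
      have h2 := (T_inj hF this).2
      rw [← h2, ← hτ, map_mul, tau_sg]
  have hεadd : ∀ a a', g (a + a') 0 = g a 0 + g a' 0 := by
    intro a a'
    have := (hmul a 0 a' 0).2
    rw [hg, hφ, ← hτ, ← hτ, add_zero, zero_add, map_mul, tau_sg] at this
    exact add_right_cancel this
  have hεσ : ∀ c (hc : c ≠ 0), g (sg m c) 0 = τ (c ^ 2 * sg m c) * g 1 0 := by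
    intro c hc
    have := (hconj c hc 1 0).2
    rw [mul_one, mul_zero, hγτ] at this
    rw [this, map_mul, map_pow, tau_sg]
  have hd : g 1 0 = 0 := by
    obtain ⟨c, hc0, hc1⟩ := exists_ne_zero_one hF hm
    have hc1' : c + 1 ≠ 0 := by
      intro h
      apply hc1
      linear_combination h - h20
    have e1 := hεσ c hc0
    have e2 := hεσ (c + 1) hc1'
    have e3 := hεadd (sg m c) 1
    rw [sg_add hF, sg_one] at e2
    rw [e2, e1] at e3
    have e4 : τ (c ^ 2 + sg m c) * g 1 0 = 0 := by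
      have e5 : (c + 1) ^ 2 * (sg m c + 1) = c ^ 2 * sg m c + (c ^ 2 + sg m c) + 1 := by
        linear_combination (c * sg m c + c) * h20
      rw [e5, map_add, map_add, map_one] at e3
      linear_combination e3
    rcases mul_eq_zero.1 e4 with h | h
    · exfalso
      have h' : c ^ 2 + sg m c = 0 := (map_eq_zero τ).1 h
      have h'' : sg m (sg m c) = sg m c := by
        rw [sg_sg hF]
        linear_combination h' - sg m c * h20
      exact sg_ne_self hF hc0 hc1 (sg_injective hF h'')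
    · exact h
  have hε : ∀ a, g a 0 = 0 := by
    intro a
    by_cases ha : a = 0
    · subst ha; exact h00.2
    · obtain ⟨c, rfl⟩ := (sg_bijective hF).2 a
      have hc : c ≠ 0 := by rintro rfl; exact ha (sg_zero m)
      rw [hεσ c hc, hd, mul_zero]
  have hαT : ∀ a b, α (T hF a b) = T hF (τ a) (τ b) := by
    intro a b
    rw [hfg, hf, hg, hε, hφ, zero_add, ← hτ]
  refine ⟨τ, ?_⟩
  have hβ : (Phi hF hm τ)⁻¹ * α = 1 := by
    apply rigid hF hm
    · intro a b
      rw [MulAut.mul_apply, hαT, Phi_inv, Phi_T, RingEquiv.symm_apply_apply,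
        RingEquiv.symm_apply_apply]
    · intro c hc
      rw [MulAut.mul_apply, hγ, Phi_inv, Phi_H]
      congr 1
      rw [hγτ, RingEquiv.symm_apply_apply]
    · rw [MulAut.mul_apply, Phi_inv]
      exact Phi_inf hF hm _ (aut_W hF hm α N1 N2)
  exact (inv_mul_eq_one.1 hβ).symm

theorem WTW_eq (a b : F) : W hF * T hF a b * W hF = MulAut.conj (W hF) (T hF a b) := by
  rw [MulAut.conj_apply, W_inv]

theorem conj_pow_four {x k : Sz F m} (hx : x * x = 1) : (k⁻¹ * x * k) ^ 4 = 1 := by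
  have h2 : (k⁻¹ * x * k) * (k⁻¹ * x * k) = 1 := by
    calc (k⁻¹ * x * k) * (k⁻¹ * x * k) = k⁻¹ * (x * x) * k := by group
      _ = 1 := by rw [hx]; group
  generalize k⁻¹ * x * k = y at h2
  have e : y ^ 4 = (y * y) * (y * y) := by
    rw [pow_succ, pow_succ, pow_succ, pow_one, mul_assoc]
  rw [e, h2, one_mul]

theorem conj_invol (hm : 1 ≤ m) {x k : Sz F m} (hx : x * x = 1)
    (hfix : x • (k • oInf F m) = k • oInf F m) : ∃ b, k⁻¹ * x * k = T hF 0 b := by
  have e1 : (k⁻¹ * x * k) • oInf F m = oInf F m := by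
    rw [mul_smul, mul_smul, hfix, inv_smul_smul]
  obtain ⟨a, b, h⟩ := mem_Q_of_fix hF hm e1 (conj_pow_four hF hx)
  have h2 : T hF a b ^ 2 = 1 := by
    rw [← h, pow_two]
    calc (k⁻¹ * x * k) * (k⁻¹ * x * k) = k⁻¹ * (x * x) * k := by group
      _ = 1 := by rw [hx]; group
  have ha := T_sq_eq_one hF hm h2
  subst ha
  exact ⟨b, h⟩

theorem aut_exists (hm : 1 ≤ m) (α : MulAut (Sz F m)) :
    ∃ (k : Sz F m) (τ : F ≃+* F), α = MulAut.conj k * Phi hF hm τ := by
  set z := α (T hF 0 1) with hz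
  set z' := α (W hF * T hF 0 1 * W hF) with hz'
  have hoz : orderOf z = 2 := by rw [hz, MulEquiv.orderOf_eq, orderOf_T01 hF hm]
  have hoz' : orderOf z' = 2 := by
    rw [hz', MulEquiv.orderOf_eq, WTW_eq, MulEquiv.orderOf_eq, orderOf_T01 hF hm]
  have hzz : z * z = 1 := by rw [← pow_two, ← hoz, pow_orderOf_eq_one]
  have hzz' : z' * z' = 1 := by rw [← pow_two, ← hoz', pow_orderOf_eq_one]
  obtain ⟨ω₁, h1, u1⟩ := invol_fix hF hm hoz
  obtain ⟨ω₂, h2, u2⟩ := invol_fix hF hm hoz'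
  have hne : ω₁ ≠ ω₂ := by
    intro h
    subst h
    obtain ⟨k, rfl⟩ := exists_map_inf hF ω₁
    obtain ⟨b, hb⟩ := conj_invol hF hm hzz h1
    obtain ⟨b', hb'⟩ := conj_invol hF hm hzz' h2
    have hcomm : z' * z = z * z' := by
      have e1 : z = k * T hF 0 b * k⁻¹ := by rw [← hb]; group
      have e2 : z' = k * T hF 0 b' * k⁻¹ := by rw [← hb']; group
      rw [e1, e2]
      calc k * T hF 0 b' * k⁻¹ * (k * T hF 0 b * k⁻¹) = k * (T hF 0 b' * T hF 0 b) * k⁻¹ := by group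
        _ = k * (T hF 0 b * T hF 0 b') * k⁻¹ := by rw [T_comm hF hm]
        _ = _ := by group
    have hcomm2 : (W hF * T hF 0 1 * W hF) * T hF 0 1 = T hF 0 1 * (W hF * T hF 0 1 * W hF) := by
      apply α.injective
      rw [map_mul α (W hF * T hF 0 1 * W hF), map_mul α (T hF 0 1)]
      exact hcomm
    have hu := invol_unique hF hm (orderOf_T01 hF hm) (T_oInf hF 0 1)
    have h3 := fix_of_comm_unique (T_oInf hF 0 1) hu hcomm2
    rw [mul_smul, mul_smul, W_oInf, T_oPt_zero] at h3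
    have h4 : W hF • (W hF • oPt m (0 : F) 1) = W hF • oInf F m := by rw [h3]
    rw [← mul_smul, W_mul_self, one_smul, W_oInf] at h4
    exact one_ne_zero (oPt_inj h4).2
  obtain ⟨k, hk1, hk2⟩ := exists_map_pair hF hne
  set α₁ : MulAut (Sz F m) := MulAut.conj k⁻¹ * α with hα₁
  have hα₁a : ∀ x, α₁ x = k⁻¹ * α x * k := by
    intro x
    rw [hα₁, MulAut.mul_apply, MulAut.conj_apply, inv_inv]
  have N1 : α₁ (T hF 0 1) • oInf F m = oInf F m := by
    rw [hα₁a, mul_smul, mul_smul, hk1, ← hz, h1, ← hk1, inv_smul_smul]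
  have N2 : α₁ (W hF * T hF 0 1 * W hF) • oPt m (0 : F) 0 = oPt m 0 0 := by
    rw [hα₁a, mul_smul, mul_smul, hk2, ← hz', h2, ← hk2, inv_smul_smul]
  obtain ⟨a', b', h3⟩ := aut_Q hF hm α₁ N1 1 0
  have ha' : a' ≠ 0 := by
    rintro rfl
    have e1 : α₁ (T hF 1 0 ^ 2) = 1 := by
      rw [map_pow, h3, pow_two, T_sq hF hm, zero_mul, T_zero hF hm]
    have e2 : T hF (1 : F) 0 ^ 2 = 1 := α₁.injective (by rw [e1, map_one])
    exact one_ne_zero (T_sq_eq_one hF hm e2)
  obtain ⟨c0, hc0⟩ := (sg_bijective hF).2 a'⁻¹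
  have hc00 : c0 ≠ 0 := by
    rintro rfl
    rw [sg_zero] at hc0
    exact inv_ne_zero ha' hc0.symm
  set α₂ : MulAut (Sz F m) := MulAut.conj (H hF c0 hc00) * α₁ with hα₂
  have hα₂a : ∀ x, α₂ x = H hF c0 hc00 * α₁ x * (H hF c0 hc00)⁻¹ := by
    intro x
    rw [hα₂, MulAut.mul_apply, MulAut.conj_apply]
  have M1 : α₂ (T hF 0 1) • oInf F m = oInf F m := by
    rw [hα₂a, mul_smul, mul_smul, H_inv, H_oInf, N1, H_oInf]
  have M2 : α₂ (W hF * T hF 0 1 * W hF) • oPt m (0 : F) 0 = oPt m 0 0 := by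
    rw [hα₂a, mul_smul, mul_smul, H_inv, H_oPt_zero, N2, H_oPt_zero]
  have M3 : ∃ b'', α₂ (T hF 1 0) = T hF 1 b'' := by
    refine ⟨c0 ^ 2 * sg m c0 * b', ?_⟩
    rw [hα₂a, h3, H_T_H hF hm, hc0, inv_mul_cancel₀ ha']
  obtain ⟨τ, hτ⟩ := aut_normalized hF hm α₂ M1 M2 M3
  refine ⟨k * (H hF c0 hc00)⁻¹, τ, ?_⟩
  rw [← hτ, hα₂, hα₁, map_mul, map_inv, map_inv]
  group

theorem Phi_inner (hm : 1 ≤ m) (τ τ' : F ≃+* F) (k : Sz F m)
    (h : Phi hF hm τ' = Phi hF hm τ * MulAut.conj k) : τ' = τ := by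
  set k' := Phi hF hm τ k with hk'
  have hx : ∀ x, Phi hF hm τ' x = k' * Phi hF hm τ x * k'⁻¹ := by
    intro x
    rw [h, MulAut.mul_apply, MulAut.conj_apply, map_mul, map_mul, map_inv]
  have hne : ¬ ((0 : F) = 0 ∧ (1 : F) = 0) := fun h => one_ne_zero h.2
  have e1 : k' • oInf F m = oInf F m := by
    have := hx (T hF 0 1)
    rw [Phi_T, Phi_T, map_zero, map_zero, map_one, map_one] at this
    exact ((conj_T_fix hF k' hne (oInf F m)).1 (by rw [← this, T_oInf])).symm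
  have e2 : k' • oPt m (0 : F) 0 = oPt m 0 0 := by
    have := hx (W hF * T hF 0 1 * W hF)
    rw [map_mul, map_mul, map_mul, map_mul, Phi_T, Phi_T, Phi_W, Phi_W, map_zero, map_zero,
      map_one, map_one] at this
    have e3 : k' * (W hF * T hF 0 1 * W hF) * k'⁻¹
        = (k' * W hF) * T hF 0 1 * (k' * W hF)⁻¹ := by
      rw [mul_inv_rev, W_inv]; group
    rw [e3] at this
    have h4 := (conj_T_fix hF (k' * W hF) hne (oPt m 0 0)).1 (by
      rw [← this, mul_smul, mul_smul, W_oPt_zero, T_oInf, W_oInf])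
    rw [mul_smul, W_oInf] at h4
    exact h4.symm
  obtain ⟨c, hc, hkc⟩ := stab_two' hF hm e1 e2
  have e5 : ∀ a, τ' a = sg m c * τ a := by
    intro a
    have := hx (T hF a 0)
    rw [Phi_T, Phi_T, hkc, H_T_H hF hm] at this
    exact (T_inj hF this).1
  have e6 : sg m c = 1 := by
    have := e5 1
    rw [map_one, map_one, mul_one] at this
    exact this.symm
  ext a
  rw [e5, e6, one_mul]

theorem card_Out (hm : 1 ≤ m) : Nat.card (Cfsg.Out (Sz F m)) = 2 * m + 1 := by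
  have : Fact (Nat.Prime 2) := ⟨Nat.prime_two⟩
  rw [← ringAut_card hF]
  symm
  apply Nat.card_congr
  refine Equiv.ofBijective
    (fun τ => (QuotientGroup.mk (Phi hF hm τ) : Cfsg.Out (Sz F m))) ⟨?_, ?_⟩
  · intro τ τ' h
    rw [QuotientGroup.eq] at h
    obtain ⟨k, hk⟩ := h
    exact (Phi_inner hF hm τ τ' k (by rw [hk]; group)).symm
  · intro x
    obtain ⟨α, rfl⟩ := QuotientGroup.mk_surjective x
    obtain ⟨k, τ, rfl⟩ := aut_exists hF hm α
    refine ⟨τ, ?_⟩
    show (QuotientGroup.mk (Phi hF hm τ) : Cfsg.Out (Sz F m)) = _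
    rw [QuotientGroup.eq]
    have := (Cfsg.innNormal (Sz F m)).conj_mem (MulAut.conj k) ⟨k, rfl⟩ (Phi hF hm τ)⁻¹
    simpa [mul_assoc] using this

omit hF [Fintype F] [Field F] in
theorem card_Out_congr {G G' : Type*} [Group G] [Group G'] (e : G ≃* G') :
    Nat.card (Cfsg.Out G) = Nat.card (Cfsg.Out G') := by
  apply Nat.card_congr
  refine (QuotientGroup.congr (Cfsg.Inn G) (Cfsg.Inn G') (MulAut.congr e) ?_).toEquiv
  ext φ
  constructor
  · rintro ⟨_, ⟨g, rfl⟩, rfl⟩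
    refine ⟨e g, ?_⟩
    ext x
    simp [MulAut.congr, MulAut.conj_apply]
  · rintro ⟨g, rfl⟩
    refine ⟨MulAut.conj (e.symm g), ⟨_, rfl⟩, ?_⟩
    ext x
    simp [MulAut.congr, MulAut.conj_apply]

end Cfsg.Agent.Lib.Helper8SzAut
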