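import Cfsg.Agent.Lib.Helper8Ree24
import Cfsg.Agent.Lib.Helper8SzAut
import Cfsg.Agent.S1080

set_option autoImplicit false
set_option linter.unusedSectionVars false
set_option linter.unusedVariables false

namespace Cfsg.Agent.Lib.Helper8Ree34

open Cfsg.Lie Cfsg.Agent.Lib.Helper22ChevBasic Cfsg.Agent.Lib.Helper8Ree2
  Cfsg.Agent.Lib.Helper8Ree5
  Cfsg.Agent.Lib.Helper8Ree6 Cfsg.Agent.Lib.Helper8Ree7 Cfsg.Agent.Lib.Helper8Ree8 Cfsg.Agent.Lib.Helper8Ree9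
  Cfsg.Agent.Lib.Helper8Ree10 Cfsg.Agent.Lib.Helper8Ree11 Cfsg.Agent.Lib.Helper8Ree12 Cfsg.Agent.Lib.Helper8Ree14
  Cfsg.Agent.Lib.Helper8Ree15 Cfsg.Agent.Lib.Helper8Ree16 Cfsg.Agent.Lib.Helper8Ree17 Cfsg.Agent.Lib.Helper8Ree18
  Cfsg.Agent.Lib.Helper8Ree19 Cfsg.Agent.Lib.Helper8Ree20 Cfsg.Agent.Lib.Helper8Ree21 Cfsg.Agent.Lib.Helper8Ree22
  Cfsg.Agent.Lib.Helper8Ree23 Cfsg.Agent.Lib.Helper8Ree24
  Cfsg.Agent.Lib.Helper8Rank1

variable {K : Type*} [Field K]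

/-- entrywise field automorphism -/
noncomputable abbrev gm (τ : K ≃+* K) : GL chevG2.Idx K ≃* GL chevG2.Idx K := Cfsg.Agent.S1080.glMap chevG2 τ

theorem gm_xG (τ : K ≃+* K) (r : ℕ) (t : K) : gm τ (xG hStd r t) = xG hStd r (τ t) := by
  apply Units.ext
  rw [Cfsg.Agent.S1080.glMap_coe, coe_xG, coe_xG]
  unfold ChevalleyDatum.x
  split_ifs with h
  · exact Cfsg.Agent.S1080.xMat_map chevG2 (τ : K →+* K) ⟨r, h⟩ t
  · ext i j
    simp [Matrix.one_apply]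

theorem gm_wordG (τ : K ≃+* K) (w : List (ℕ × K)) :
    gm τ (wordG hStd w) = wordG hStd (w.map fun p => (p.1, τ p.2)) := by
  induction w with
  | nil => simp
  | cons p w ih => rw [wordG_cons, map_mul, ih, gm_xG, List.map_cons, wordG_cons]

theorem gm_wU (τ : K ≃+* K) (m : ℕ) (t u v : K) : gm τ (wU m t u v) = wU m (τ t) (τ u) (τ v) := by
  unfold wU
  rw [gm_wordG, reeWordU_eq, reeWordU_eq]
  simp

theorem gm_wV (τ : K ≃+* K) (m : ℕ) (t u v : K) : gm τ (wV m t u v) = wV m (τ t) (τ u) (τ v) := by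
  unfold wV
  rw [gm_wordG, reeWordV_eq, reeWordV_eq]
  simp

theorem gm_n1 (τ : K ≃+* K) (m : ℕ) : gm τ (n1 m) = n1 m := by
  unfold n1 nU
  rw [map_mul, map_mul, gm_wU, gm_wV]
  simp

theorem gm_mem (τ : K ≃+* K) (m : ℕ) {g : GL chevG2.Idx K} (hg : g ∈ twistedG2 K (3 ^ m)) :
    gm τ g ∈ twistedG2 K (3 ^ m) := by
  have : twistedG2 K (3 ^ m) ≤ (twistedG2 K (3 ^ m)).comap (gm τ).toMonoidHom := by
    conv_lhs => unfold twistedG2 ChevalleyDatum.genSubgroup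
    rw [Subgroup.closure_le]
    rintro g ⟨w, ⟨t, u, v, rfl | rfl⟩, hg⟩
    · have : g = wU m t u v := Units.ext (by rw [hg]; exact (Helper22ChevBasic.coe_wordG hStd _).symm)
      subst this
      show gm τ (wU m t u v) ∈ twistedG2 K (3 ^ m)
      rw [gm_wU]
      exact wU_mem _ _ _ _
    · have : g = wV m t u v := Units.ext (by rw [hg]; exact (Helper22ChevBasic.coe_wordG hStd _).symm)
      subst this
      show gm τ (wV m t u v) ∈ twistedG2 K (3 ^ m)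
      rw [gm_wV]
      exact wV_mem _ _ _ _
  exact this hg

theorem gm_symm (τ : K ≃+* K) (g : GL chevG2.Idx K) : gm τ.symm (gm τ g) = g := by
  apply Units.ext
  ext i j
  simp [Cfsg.Agent.S1080.glMap_coe]

theorem gm_symm' (τ : K ≃+* K) (g : GL chevG2.Idx K) : gm τ (gm τ.symm g) = g := by
  apply Units.ext
  ext i j
  simp [Cfsg.Agent.S1080.glMap_coe]

/-- the field automorphism of the Ree group -/
noncomputable def Phi (m : ℕ) (τ : K ≃+* K) : MulAut (GG K m) where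
  toFun g := ⟨gm τ g.1, gm_mem τ m g.2⟩
  invFun g := ⟨gm τ.symm g.1, gm_mem τ.symm m g.2⟩
  left_inv g := Subtype.ext (gm_symm τ g.1)
  right_inv g := Subtype.ext (gm_symm' τ g.1)
  map_mul' g h := Subtype.ext (map_mul (gm τ) g.1 h.1)

theorem Phi_uG (m : ℕ) (τ : K ≃+* K) (t u v : K) : Phi m τ (uG m t u v) = uG m (τ t) (τ u) (τ v) :=
  Subtype.ext (gm_wU τ m t u v)

variable [Fintype K] [CharP K 3]

theorem Phi_nG (m : ℕ) (τ : K ≃+* K) : Phi m τ (nG m) = nG m := Subtype.ext (gm_n1 τ m)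

theorem Phi_inv (m : ℕ) (τ : K ≃+* K) : (Phi m τ)⁻¹ = Phi m τ.symm := rfl


section main

variable {m : ℕ} (hK : Fintype.card K = 3 ^ (2 * m + 1))
include hK

theorem uG_mul (t u v s w z : K) : uG m t u v * uG m s w z =
    uG m (t + s) (u + w - t * (s ^ 3 ^ m) ^ 3)
      (v + z - s * u + (s ^ 3 ^ m) ^ 3 * s * t - (s ^ 3 ^ m) ^ 3 * t ^ 2) := Subtype.ext (wU_mul hK t u v s w z)

theorem uG_mul0 (t u v w z : K) : uG m t u v * uG m 0 w z = uG m t (u + w) (v + z) := by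
  rw [uG_mul hK]
  have h0 : ((0 : K) ^ 3 ^ m) ^ 3 = 0 := by simp
  rw [h0]
  congr 1 <;> ring

theorem th33 (x : K) : ((((x ^ 3 ^ m) ^ 3) ^ 3 ^ m) ^ 3) = x ^ 3 := by rw [th3 hK]

/-- `ch1` is inverted by `x ↦ x ^ (3θ + 2)` -/
theorem ch1_inv (μ : Kˣ) : ((ch1 m μ) ^ 3 ^ m) ^ 3 * (ch1 m μ) ^ 2 = μ := by
  unfold ch1
  have hμ : (μ : K) ≠ 0 := μ.ne_zero
  rw [mul_pow, mul_pow, inv_pow, inv_pow, th33 hK]
  have e : (((μ : K) ^ 2) ^ 3 ^ m) ^ 3 = (((μ : K) ^ 3 ^ m) ^ 3) ^ 2 := by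
    rw [← pow_mul, ← pow_mul, ← pow_mul, ← pow_mul]; congr 1; ring
  rw [e]
  have hL : ((μ : K) ^ 3 ^ m) ^ 3 ≠ 0 := pow_ne_zero _ (pow_ne_zero _ hμ)
  field_simp

theorem ch1_injective {μ ν : Kˣ} (h : ch1 m μ = ch1 m ν) : μ = ν := by
  apply Units.ext
  rw [← ch1_inv hK μ, ← ch1_inv hK ν, h]

theorem ch1_surj {x : K} (hx : x ≠ 0) : ∃ μ : Kˣ, ch1 m μ = x ∧ (μ : K) = (x ^ 3 ^ m) ^ 3 * x ^ 2 := by
  have hL : (x ^ 3 ^ m) ^ 3 ≠ 0 := pow_ne_zero _ (pow_ne_zero _ hx)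
  refine ⟨Units.mk0 ((x ^ 3 ^ m) ^ 3 * x ^ 2) (mul_ne_zero hL (pow_ne_zero _ hx)), ?_, rfl⟩
  unfold ch1
  rw [Units.val_mk0, mul_pow, mul_pow, th33 hK]
  have e : ((x ^ 2) ^ 3 ^ m) ^ 3 = ((x ^ 3 ^ m) ^ 3) ^ 2 := by
    rw [← pow_mul, ← pow_mul, ← pow_mul, ← pow_mul]; congr 1; ring
  rw [e]
  field_simp

theorem x0_ne : uG m (0 : K) 0 1 ≠ 1 := by
  intro h
  exact one_ne_zero (uG_eq_one hK h).2.2

theorem B_inf {g : GG K m} (hg : g ∈ BB K m) (hg' : nG m * g * nG m ∈ BB K m) : g ∈ HH K m := by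
  obtain ⟨u, hu, h, hh, rfl⟩ := ((R hK).mem_B g).1 hg
  have h1 : nG m * u * (nG m)⁻¹ ∈ BB K m := by
    have h2 : nG m * h * (nG m)⁻¹ ∈ BB K m := (R hK).H_le_B ((R hK).nH h hh)
    have h3 := (BB K m).mul_mem hg' ((BB K m).inv_mem h2)
    have e : nG m * (u * h) * nG m * (nG m * h * (nG m)⁻¹)⁻¹ = nG m * u * (nG m)⁻¹ := by
      rw [nG_inv]
      have := nG_sq (K := K) m
      calc nG m * (u * h) * nG m * (nG m * h * nG m)⁻¹
          = nG m * u * h * (nG m * (nG m)⁻¹) * h⁻¹ * (nG m)⁻¹ := by group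
        _ = nG m * u * nG m := by rw [nG_inv, this]; simp
    rwa [e] at h3
  rw [(R hK).triv u hu h1, one_mul]
  exact hh

/-- normalised automorphisms -/
def Nrm (α : MulAut (GG K m)) : Prop := (∀ x ∈ UU K m, α x ∈ UU K m) ∧ nG m * α (nG m) ∈ BB K m

theorem aut_B {α : MulAut (GG K m)} (hα : ∀ x ∈ UU K m, α x ∈ UU K m) {h : GG K m} (hh : h ∈ BB K m) :
    α h ∈ BB K m := by
  apply ti_UU hK (hα _ (uG_mem hK 0 0 1))
  · intro h1
    exact x0_ne hK (α.injective (by rw [h1, map_one]))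
  · rw [← map_inv, ← map_mul, ← map_mul]
    exact hα _ ((R hK).bU hh (uG_mem hK 0 0 1))

theorem aut_H {α : MulAut (GG K m)} (hα : Nrm α) {h : GG K m} (hh : h ∈ HH K m) : α h ∈ HH K m := by
  apply B_inf hK (aut_B hK hα.1 ((R hK).H_le_B hh))
  have h1 : nG m * h * (nG m)⁻¹ ∈ BB K m := (R hK).H_le_B ((R hK).nH h hh)
  have h2 := aut_B hK hα.1 h1
  set b := nG m * α (nG m) with hb
  have e : nG m * α h * nG m = b * α (nG m * h * (nG m)⁻¹) * b⁻¹ := by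
    rw [hb, map_mul, map_mul, map_inv, mul_inv_rev, nG_inv]
    have e1 : α (nG m) * α (nG m) = 1 := by rw [← map_mul, nG_sq, map_one]
    have e2 : (α (nG m))⁻¹ = α (nG m) := inv_eq_of_mul_eq_one_right e1
    rw [e2]
    calc nG m * α h * nG m = nG m * (α (nG m) * α (nG m)) * α h * (α (nG m) * α (nG m)) * nG m := by
          rw [e1]; simp
      _ = _ := by group
  rw [e]
  exact (BB K m).mul_mem ((BB K m).mul_mem hα.2 h2) ((BB K m).inv_mem hα.2)

theorem rigid (hm : 1 ≤ m) (β : MulAut (GG K m)) (hU : ∀ t u v, β (uG m t u v) = uG m t u v)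
    (hH : ∀ μ, β (hG hK μ) = hG hK μ) : β = 1 := by
  have hB : ∀ b ∈ BB K m, β b = b := by
    intro b hb
    obtain ⟨u, hu, h, hh, rfl⟩ := ((R hK).mem_B b).1 hb
    obtain ⟨t, a, v, rfl⟩ := (mem_UU hK).1 hu
    obtain ⟨μ, rfl⟩ := (mem_HH hK).1 hh
    rw [map_mul, hU, hH]
  have hn : β (nG m) ∈ NN K m := by
    rw [← normalizer_HH hK hm]
    apply Subgroup.mem_normalizer_fintype
    intro x hx
    obtain ⟨μ, rfl⟩ := (mem_HH hK).1 hx
    rw [← hH μ, ← map_inv, ← map_mul, ← map_mul, nG_hG, mul_assoc, mul_inv_cancel, mul_one, hH]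
    exact hG_mem hK _
  obtain ⟨μ, hμ⟩ : ∃ μ, β (nG m) = hG hK μ * nG m := by
    rcases ((R hK).mem_N _).1 hn with h | ⟨h, hh, e⟩
    · exfalso
      obtain ⟨μ, hμ⟩ := (mem_HH hK).1 h
      rw [← hH μ] at hμ
      have := β.injective hμ
      exact (R hK).n_not_mem_B (this ▸ (R hK).H_le_B (hG_mem hK μ))
    · obtain ⟨μ, rfl⟩ := (mem_HH hK).1 hh
      exact ⟨μ, e⟩
  have hc : ∀ y, y⁻¹ * β y ∈ BB K m := by
    intro y
    rcases (R hK).cases y with hy | ⟨u, hu, h, hh, u', hu', rfl⟩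
    · rw [hB y hy, inv_mul_cancel]; exact (BB K m).one_mem
    · rw [map_mul, map_mul, map_mul, hB u ((R hK).U_le_B hu), hB h ((R hK).H_le_B hh),
        hB u' ((R hK).U_le_B hu'), hμ]
      have e : (u * h * nG m * u')⁻¹ * (u * h * (hG hK μ * nG m) * u')
          = u'⁻¹ * ((nG m)⁻¹ * hG hK μ * nG m) * u' := by group
      rw [e]
      have h1 : (nG m)⁻¹ * hG hK μ * nG m ∈ BB K m := (R hK).H_le_B ((R hK).nH' (hG_mem hK μ))
      exact (BB K m).mul_mem ((BB K m).mul_mem ((BB K m).inv_mem ((R hK).U_le_B hu')) h1) ((R hK).U_le_B hu')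
  ext1 g
  have hcore : g⁻¹ * β g ∈ (BB K m).normalCore := by
    intro y
    have h1 := hc (g * y⁻¹)
    have h2 := hc y⁻¹
    have e : y * (g⁻¹ * β g) * y⁻¹ = ((g * y⁻¹)⁻¹ * β (g * y⁻¹)) * (y⁻¹⁻¹ * β y⁻¹)⁻¹ := by
      rw [map_mul]; group
    rw [e]
    exact (BB K m).mul_mem h1 ((BB K m).inv_mem h2)
  rw [core_B1 hK, Subgroup.mem_bot] at hcore
  rw [MulAut.one_apply]
  exact (inv_mul_eq_one.1 hcore).symm

theorem first_zero {α : MulAut (GG K m)} {u v t' u' v' : K} (h : α (uG m 0 u v) = uG m t' u' v') : t' = 0 := by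
  have h1 : (uG m t' u' v') ^ 3 = 1 := by rw [← h, ← map_pow, uG0_cube hK, map_one]
  rw [uG_cube hK] at h1
  have h2 := (uG_eq_one hK h1).2.2
  by_contra ht
  have : t' ^ 2 * (t' ^ 3 ^ m) ^ 3 ≠ 0 := mul_ne_zero (pow_ne_zero _ ht) (pow_ne_zero _ (pow_ne_zero _ ht))
  exact this (neg_eq_zero.1 h2)

theorem hG_uG0 (μ : Kˣ) (t : K) : hG hK μ * uG m t 0 0 = uG m (ch1 m μ * t) 0 0 * hG hK μ := by
  rw [hG_uG, mul_zero, mul_zero]

theorem aut_field {α : MulAut (GG K m)} (hα : Nrm α) (N3 : ∃ u v, α (uG m 1 0 0) = uG m 1 u v) :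
    ∃ τ : K ≃+* K, ∀ t, ∃ u v, α (uG m t 0 0) = uG m (τ t) u v := by
  choose f g k hf using fun t u v => (mem_UU hK).1 (hα.1 _ (uG_mem hK t u v))
  choose σ hσ using fun μ => (mem_HH hK).1 (aut_H hK hα (hG_mem hK μ))
  have hf0 : ∀ u v, f 0 u v = 0 := fun u v => first_zero hK (hf 0 u v)
  have hft : ∀ t u v, f t u v = f t 0 0 := by
    intro t u v
    have := congrArg α (uG_mul0 hK t 0 0 u v)
    rw [map_mul, hf, hf, zero_add, zero_add, hf, uG_mul hK, hf0, add_zero] at this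
    exact (uG_inj hK this).1.symm
  have hadd : ∀ t s, f (t + s) 0 0 = f t 0 0 + f s 0 0 := by
    intro t s
    have := congrArg α (uG_mul hK t 0 0 s 0 0)
    rw [map_mul, hf, hf, hf, uG_mul hK] at this
    rw [(uG_inj hK this).1]; exact (hft _ _ _).symm
  have hone : f 1 0 0 = 1 := by
    obtain ⟨u, v, h⟩ := N3
    rw [hf] at h
    exact (uG_inj hK h).1
  have hzero : f 0 0 0 = 0 := hf0 0 0
  have heq : ∀ μ t, f (ch1 m μ * t) 0 0 = ch1 m (σ μ) * f t 0 0 := by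
    intro μ t
    have := congrArg α (hG_uG0 hK μ t)
    rw [map_mul, map_mul, hσ, hf, hf, hG_uG] at this
    exact (uG_inj hK (mul_right_cancel this)).1.symm
  have hmul : ∀ x y, f (x * y) 0 0 = f x 0 0 * f y 0 0 := by
    intro x y
    by_cases hx : x = 0
    · subst hx; rw [zero_mul, hzero, zero_mul]
    · obtain ⟨μ, rfl, -⟩ := ch1_surj hK hx
      have h1 := heq μ 1
      rw [mul_one, hone, mul_one] at h1
      rw [heq, h1]
  let τ0 : K →+* K :=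
    { toFun := fun a => f a 0 0
      map_one' := hone
      map_mul' := hmul
      map_zero' := hzero
      map_add' := hadd }
  let τ : K ≃+* K := RingEquiv.ofBijective τ0
    ⟨τ0.injective, Finite.injective_iff_surjective.1 τ0.injective⟩
  exact ⟨τ, fun t => ⟨_, _, hf t 0 0⟩⟩

theorem not_fixed {x : K} (h0 : x ≠ 0) (h1 : x ≠ 1) (h2 : x ≠ -1) : (x ^ 3 ^ m) ^ 3 ≠ x := by
  intro h
  have h3 := th33 hK x
  rw [h, h] at h3
  have : x * (x - 1) * (x + 1) = 0 := by linear_combination -h3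
  rcases mul_eq_zero.1 this with h | h
  · rcases mul_eq_zero.1 h with h | h
    · exact h0 h
    · exact h1 (sub_eq_zero.1 h)
  · exact h2 (eq_neg_of_add_eq_zero_left h)

theorem aut_id (hm : 1 ≤ m) {β : MulAut (GG K m)} (hβ : Nrm β) (N : ∀ t, ∃ u v, β (uG m t 0 0) = uG m t u v) :
    β = 1 := by
  have h3 := three_eq_zero (K := K)
  choose b c hbc using N
  choose σ hσ using fun μ => (mem_HH hK).1 (aut_H hK hβ (hG_mem hK μ))
  have hH : ∀ μ, β (hG hK μ) = hG hK μ := by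
    intro μ
    have := congrArg β (hG_uG0 hK μ 1)
    rw [map_mul, map_mul, hσ, hbc, hbc, hG_uG] at this
    have h1 := (uG_inj hK (mul_right_cancel this)).1
    rw [mul_one, mul_one] at h1
    rw [hσ, ch1_injective hK h1]
  have hi : β (iG hK) = iG hK := hH _
  -- the centre
  have hZ : ∀ v, β (uG m 0 0 v) = uG m 0 0 v := by
    intro v
    by_cases hv : v = 0
    · subst hv; rw [uG_zero, map_one]
    · obtain ⟨μ, -, hμ⟩ := ch1_surj hK (x := ch1 m (Units.mk0 (-v) (neg_ne_zero.2 hv))) (by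
        unfold ch1
        exact mul_ne_zero (inv_ne_zero (pow_ne_zero _ (pow_ne_zero _ (Units.ne_zero _)))) (pow_ne_zero _ (Units.ne_zero _)))
      have h1 := ch1_inv hK (Units.mk0 (-v) (neg_ne_zero.2 hv))
      set t := ch1 m (Units.mk0 (-v) (neg_ne_zero.2 hv)) with ht
      rw [Units.val_mk0] at h1
      have h2 : uG m t 0 0 ^ 3 = uG m 0 0 v := by
        rw [uG_cube hK]
        congr 1
        linear_combination -h1
      have h4 : uG m t (b t) (c t) ^ 3 = uG m 0 0 v := by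
        rw [uG_cube hK]
        congr 1
        linear_combination -h1
      rw [← h2, map_pow, hbc, h4, h2]
  -- the middle layer
  choose f d e hde using fun u => (mem_UU hK).1 (hβ.1 _ (uG_mem hK 0 u 0))
  have hf0 : ∀ u, f u = 0 := fun u => first_zero hK (hde u)
  have he0 : ∀ u, e u = 0 := by
    intro u
    have := congrArg β (iG_uG hK 0 u 0)
    rw [map_mul, map_mul, hi, neg_zero, hde, iG_uG] at this
    exact Cfsg.Agent.Lib.Helper8Ree15.eq_zero_of_neg_eq (uG_inj hK (mul_right_cancel this)).2.2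
  have hM : ∀ u, β (uG m 0 u 0) = uG m 0 (d u) 0 := by
    intro u; rw [hde, hf0, he0]
  have hgen : ∀ t u v, β (uG m t u v) = uG m t (b t + d u) (c t + v) := by
    intro t u v
    have e1 : uG m t u v = uG m t 0 0 * uG m 0 u 0 * uG m 0 0 v := by
      rw [uG_mul0 hK, uG_mul0 hK]; congr 1 <;> ring
    rw [e1, map_mul, map_mul, hbc, hM, hZ, uG_mul0 hK, uG_mul0 hK]
    congr 1 <;> ring
  have hmul : ∀ t s, b t + b s - t * (s ^ 3 ^ m) ^ 3 = b (t + s) + d (0 + 0 - t * (s ^ 3 ^ m) ^ 3) ∧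
      c t + c s - s * b t = c (t + s) := by
    intro t s
    have := congrArg β (uG_mul hK t 0 0 s 0 0)
    rw [map_mul, hbc, hbc, hgen, uG_mul hK] at this
    obtain ⟨-, h1, h2⟩ := uG_inj hK this
    exact ⟨h1, by linear_combination h2⟩
  have hb1 : ∀ t, b t = t * b 1 := by
    intro t
    have h1 := (hmul t 1).2
    have h2 := (hmul 1 t).2
    rw [add_comm 1 t] at h2
    linear_combination h2 - h1
  have hbneg : ∀ t, b (-t) = b t ∧ c (-t) = - c t := by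
    intro t
    have := congrArg β (iG_uG hK t 0 0)
    rw [map_mul, map_mul, hi, neg_zero, hbc, hbc, iG_uG] at this
    obtain ⟨-, h1, h2⟩ := uG_inj hK (mul_right_cancel this)
    exact ⟨h1.symm, h2.symm⟩
  have hb10 : b 1 = 0 := by
    have h1 := (hbneg 1).1
    rw [hb1 (-1)] at h1
    apply Cfsg.Agent.Lib.Helper8Ree15.eq_zero_of_neg_eq
    linear_combination h1
  have hb : ∀ t, b t = 0 := fun t => by rw [hb1, hb10, mul_zero]
  have hd : ∀ u, d u = u := by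
    intro u
    have h1 := (hmul (-u) 1).1
    rw [hb, hb, hb, one_pow, one_pow] at h1
    have e1 : (0 : K) + 0 - -u * 1 = u := by ring
    rw [e1] at h1
    linear_combination -h1
  have hcadd : ∀ t s, c (t + s) = c t + c s := by
    intro t s
    have h1 := (hmul t s).2
    rw [hb] at h1
    linear_combination -h1
  have hceq : ∀ μ : Kˣ, c (ch1 m μ) = μ * c 1 := by
    intro μ
    have := congrArg β (hG_uG0 hK μ 1)
    rw [map_mul, map_mul, hH, hbc, hbc, hG_uG, mul_one] at this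
    exact (uG_inj hK (mul_right_cancel this)).2.2.symm
  have hcx : ∀ x : K, x ≠ 0 → c x = (x ^ 3 ^ m) ^ 3 * x ^ 2 * c 1 := by
    intro x hx
    obtain ⟨μ, h1, h2⟩ := ch1_surj hK hx
    rw [← h2, ← hceq, h1]
  have hc1 : c 1 = 0 := by
    obtain ⟨μ, hμ1, hμ2⟩ := Cfsg.Agent.Lib.Helper8Ree11.exists_mu hK hm
    have x0 : (μ : K) ≠ 0 := μ.ne_zero
    have x1 : (μ : K) ≠ 1 := fun h => hμ1 (Units.ext h)
    have x2 : (μ : K) ≠ -1 := fun h => hμ2 (Units.ext (by simpa using h))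
    have x3 : (μ : K) + 1 ≠ 0 := fun h => x2 (eq_neg_of_add_eq_zero_left h)
    have hne := not_fixed hK x0 x1 x2
    generalize (μ : K) = x at *
    have e1 := hcadd x 1
    rw [hcx _ x3, hcx _ x0, add_pow3, one_pow] at e1
    generalize x ^ 3 ^ m = A at *
    have e2 : (x - 1) * (x - A ^ 3) * c 1 = 0 := by
      linear_combination e1 - (A ^ 2 * (x + 1) ^ 2 + A * (x + 1) ^ 2 + A ^ 3 * x + x) * c 1 * h3
    rcases mul_eq_zero.1 e2 with h | h
    · rcases mul_eq_zero.1 h with h | h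
      · exact absurd (sub_eq_zero.1 h) x1
      · exact absurd (sub_eq_zero.1 h).symm hne
    · exact h
  have hc : ∀ t, c t = 0 := by
    intro t
    by_cases ht : t = 0
    · subst ht
      have := hcadd 0 0
      rw [add_zero] at this
      linear_combination -this
    · rw [hcx t ht, hc1, mul_zero]
  apply rigid hK hm β _ hH
  intro t u v
  rw [hgen, hb, hc, hd, zero_add, zero_add]

theorem Nrm_Phi (τ : K ≃+* K) : Nrm (Phi m τ) := by
  refine ⟨fun x hx => ?_, ?_⟩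
  · obtain ⟨t, u, v, rfl⟩ := (mem_UU hK).1 hx
    rw [Phi_uG]
    exact uG_mem hK _ _ _
  · rw [Phi_nG, nG_sq]
    exact (BB K m).one_mem

theorem Nrm_mul {α β : MulAut (GG K m)} (hα : Nrm α) (hβ : Nrm β) : Nrm (α * β) := by
  refine ⟨fun x hx => hα.1 _ (hβ.1 _ hx), ?_⟩
  have e : β (nG m) = nG m * (nG m * β (nG m)) := by rw [← mul_assoc, nG_sq, one_mul]
  rw [MulAut.mul_apply, e, map_mul, ← mul_assoc]
  exact (BB K m).mul_mem hα.2 (aut_B hK hα.1 hβ.2)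

theorem Nrm_conj (μ : Kˣ) : Nrm (MulAut.conj (hG hK μ)) := by
  refine ⟨fun x hx => ?_, ?_⟩
  · rw [MulAut.conj_apply]
    exact (R hK).hU _ (hG_mem hK μ) _ hx
  · rw [MulAut.conj_apply]
    have e : nG m * (hG hK μ * nG m * (hG hK μ)⁻¹) = (nG m * hG hK μ * (nG m)⁻¹) * (hG hK μ)⁻¹ := by
      rw [nG_inv]; group
    rw [e]
    exact (R hK).H_le_B ((HH K m).mul_mem ((R hK).nH _ (hG_mem hK μ)) ((HH K m).inv_mem (hG_mem hK μ)))

theorem aut_normalized (hm : 1 ≤ m) {α : MulAut (GG K m)} (hα : Nrm α)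
    (N3 : ∃ u v, α (uG m 1 0 0) = uG m 1 u v) : ∃ τ : K ≃+* K, α = Phi m τ := by
  obtain ⟨τ, hτ⟩ := aut_field hK hα N3
  refine ⟨τ, ?_⟩
  have : (Phi m τ)⁻¹ * α = 1 := by
    apply aut_id hK hm
    · rw [Phi_inv]; exact Nrm_mul hK (Nrm_Phi hK _) hα
    · intro t
      obtain ⟨u, v, h⟩ := hτ t
      refine ⟨τ.symm u, τ.symm v, ?_⟩
      rw [MulAut.mul_apply, h, Phi_inv, Phi_uG, RingEquiv.symm_apply_apply]
  exact (inv_mul_eq_one.1 this).symm

theorem exists_conj_U (α : MulAut (GG K m)) : ∃ g : GG K m, ∀ x ∈ UU K m, g * α x * g⁻¹ ∈ UU K m := by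
  have : Fact (Nat.Prime 3) := ⟨Nat.prime_three⟩
  have hc : Nat.card (UU K m) = 3 ^ (Nat.card (GG K m)).factorization 3 := by
    rw [card_UU hK, fact_G1 hK, ← pow_mul, mul_comm]
  let P₀ : Sylow 3 (GG K m) := Sylow.ofCard (UU K m) hc
  let P₁ : Sylow 3 (GG K m) := Sylow.ofCard ((UU K m).map α.toMonoidHom) (by
    rw [Subgroup.card_map_of_injective α.injective, hc])
  obtain ⟨g, hg⟩ := MulAction.exists_smul_eq (GG K m) P₁ P₀
  refine ⟨g, fun x hx => ?_⟩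
  have h1 : g * α x * g⁻¹ ∈ ((g • P₁ : Sylow 3 (GG K m)) : Subgroup (GG K m)) := by
    rw [Sylow.coe_subgroup_smul, Subgroup.mem_pointwise_smul_iff_inv_smul_mem]
    have e : ((MulAut.conj g)⁻¹ • (g * α x * g⁻¹) : GG K m) = α x := by
      simp [MulAut.smul_def, MulAut.conj_apply, mul_assoc]
    rw [e]
    exact ⟨x, hx, rfl⟩
  rw [hg] at h1
  exact h1

theorem aut_U_surj {α : MulAut (GG K m)} (hα : ∀ x ∈ UU K m, α x ∈ UU K m) {y : GG K m}
    (hy : α y ∈ UU K m) : y ∈ UU K m := by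
  let φ : UU K m → UU K m := fun x => ⟨α x.1, hα _ x.2⟩
  have hinj : Function.Injective φ := fun a b h => Subtype.ext (α.injective (congrArg Subtype.val h))
  obtain ⟨x, hx⟩ := (Finite.injective_iff_surjective.1 hinj) ⟨α y, hy⟩
  have : α x.1 = α y := congrArg Subtype.val hx
  rw [← α.injective this]; exact x.2

theorem aut_exists (hm : 1 ≤ m) (α : MulAut (GG K m)) :
    ∃ (k : GG K m) (τ : K ≃+* K), α = MulAut.conj k * Phi m τ := by
  obtain ⟨g, hg⟩ := exists_conj_U hK α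
  obtain ⟨α₁, hα₁⟩ : ∃ α₁, α₁ = MulAut.conj g * α := ⟨_, rfl⟩
  have h1 : ∀ x ∈ UU K m, α₁ x ∈ UU K m := fun x hx => by
    rw [hα₁, MulAut.mul_apply, MulAut.conj_apply]; exact hg x hx
  have hn : α₁ (nG m) ∉ BB K m := by
    intro hB
    have h2 : α₁ (nG m * uG m 0 0 1 * (nG m)⁻¹) ∈ UU K m := by
      rw [map_mul, map_mul, map_inv]
      exact (R hK).bU hB (h1 _ (uG_mem hK 0 0 1))
    have h3 := aut_U_surj hK h1 h2
    exact x0_ne hK ((R hK).triv _ (uG_mem hK 0 0 1) ((R hK).U_le_B h3))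
  obtain ⟨u, hu, b, hb, e⟩ := ((R hK).cases' (α₁ (nG m))).resolve_left hn
  obtain ⟨α₂, hα₂⟩ : ∃ α₂, α₂ = MulAut.conj u⁻¹ * α₁ := ⟨_, rfl⟩
  have hα₂a : ∀ x, α₂ x = u⁻¹ * α₁ x * u := by
    intro x
    rw [hα₂, MulAut.mul_apply, MulAut.conj_apply, inv_inv]
  have N : Nrm α₂ := by
    refine ⟨fun x hx => ?_, ?_⟩
    · rw [hα₂a]
      exact (UU K m).mul_mem ((UU K m).mul_mem ((UU K m).inv_mem hu) (h1 x hx)) hu
    · rw [hα₂a, e]
      have e1 : nG m * (u⁻¹ * (u * nG m * b) * u) = (nG m * nG m) * b * u := by group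
      rw [e1, nG_sq, one_mul]
      exact (BB K m).mul_mem hb ((R hK).U_le_B hu)
  obtain ⟨t', u', v', h3⟩ := (mem_UU hK).1 (N.1 _ (uG_mem hK 1 0 0))
  have ht' : t' ≠ 0 := by
    rintro rfl
    have e1 : α₂ (uG m 1 0 0 ^ 3) = 1 := by rw [map_pow, h3, uG0_cube hK]
    have e2 : uG m (1 : K) 0 0 ^ 3 = 1 := α₂.injective (by rw [e1, map_one])
    rw [uG_cube hK] at e2
    have := (uG_eq_one hK e2).2.2
    simp at this
  obtain ⟨ν, hν, -⟩ := ch1_surj hK (inv_ne_zero ht')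
  obtain ⟨α₃, hα₃⟩ : ∃ α₃, α₃ = MulAut.conj (hG hK ν) * α₂ := ⟨_, rfl⟩
  have N' : Nrm α₃ := hα₃ ▸ Nrm_mul hK (Nrm_conj hK ν) N
  have N3 : ∃ u v, α₃ (uG m 1 0 0) = uG m 1 u v := by
    refine ⟨ch2 m ν * u', ν * v', ?_⟩
    rw [hα₃, MulAut.mul_apply, MulAut.conj_apply, h3, hG_uG, mul_assoc, mul_inv_cancel, mul_one, hν,
      inv_mul_cancel₀ ht']
  obtain ⟨τ, hτ⟩ := aut_normalized hK hm N' N3
  refine ⟨g⁻¹ * u * (hG hK ν)⁻¹, τ, ?_⟩
  rw [← hτ, hα₃, hα₂, hα₁, map_mul, map_mul, map_inv, map_inv, map_inv]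
  group

theorem Phi_inner (τ τ' : K ≃+* K) (k : GG K m) (h : Phi m τ' = Phi m τ * MulAut.conj k) : τ' = τ := by
  obtain ⟨k', hk'⟩ : ∃ k', k' = Phi m τ k := ⟨_, rfl⟩
  have hx : ∀ x, Phi m τ' x = k' * Phi m τ x * k'⁻¹ := by
    intro x
    rw [h, MulAut.mul_apply, MulAut.conj_apply, map_mul, map_mul, map_inv, hk']
  have e1 : k' ∈ BB K m := by
    apply ti_UU hK (uG_mem hK 0 0 1) (x0_ne hK)
    have := hx (uG m 0 0 1)
    rw [Phi_uG, Phi_uG, map_zero, map_zero, map_one, map_one] at this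
    rw [← this]
    exact uG_mem hK 0 0 1
  have e2 : nG m * k' * nG m ∈ BB K m := by
    apply ti_UU hK (uG_mem hK 0 0 1) (x0_ne hK)
    have := hx (nG m * uG m 0 0 1 * nG m)
    rw [map_mul, map_mul, map_mul, map_mul, Phi_uG, Phi_uG, Phi_nG, Phi_nG, map_zero, map_zero, map_one,
      map_one] at this
    have e3 : nG m * k' * nG m * uG m 0 0 1 * (nG m * k' * nG m)⁻¹
        = nG m * (k' * (nG m * uG m 0 0 1 * nG m) * k'⁻¹) * nG m := by
      rw [mul_inv_rev, mul_inv_rev, nG_inv]; group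
    rw [e3, ← this]
    have e4 : nG m * (nG m * uG m (0 : K) 0 1 * nG m) * nG m
        = (nG m * nG m) * uG m 0 0 1 * (nG m * nG m) := by
      group
    rw [e4, nG_sq, one_mul, mul_one]
    exact uG_mem hK 0 0 1
  obtain ⟨μ, hμ⟩ := (mem_HH hK).1 (B_inf hK e1 e2)
  have e5 : ∀ a, τ' a = ch1 m μ * τ a := by
    intro a
    have := hx (uG m a 0 0)
    rw [Phi_uG, Phi_uG, hμ, hG_uG, mul_assoc, mul_inv_cancel, mul_one] at this
    exact (uG_inj hK this).1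
  have e6 : ch1 m μ = 1 := by
    have := e5 1
    rw [map_one, map_one, mul_one] at this
    exact this.symm
  ext a
  rw [e5, e6, one_mul]

theorem card_Out (hm : 1 ≤ m) : Nat.card (Cfsg.Out (GG K m)) = 2 * m + 1 := by
  have : Fact (Nat.Prime 3) := ⟨Nat.prime_three⟩
  rw [← Cfsg.Agent.Lib.Helper8SzAut.ringAut_card hK]
  symm
  apply Nat.card_congr
  refine Equiv.ofBijective
    (fun τ => (QuotientGroup.mk (Phi m τ) : Cfsg.Out (GG K m))) ⟨?_, ?_⟩
  · intro τ τ' h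
    rw [QuotientGroup.eq] at h
    obtain ⟨k, hk⟩ := h
    exact (Phi_inner hK τ τ' k (by rw [hk]; group)).symm
  · intro x
    obtain ⟨α, rfl⟩ := QuotientGroup.mk_surjective x
    obtain ⟨k, τ, rfl⟩ := aut_exists hK hm α
    refine ⟨τ, ?_⟩
    show (QuotientGroup.mk (Phi m τ) : Cfsg.Out (GG K m)) = _
    rw [QuotientGroup.eq]
    have := (Cfsg.innNormal (GG K m)).conj_mem (MulAut.conj k) ⟨k, rfl⟩ (Phi m τ)⁻¹
    simpa [mul_assoc] using this

end main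

end Cfsg.Agent.Lib.Helper8Ree34
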