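import Cfsg.Agent.Lib.Helper8Ree34

set_option autoImplicit false
set_option linter.unusedSectionVars false
set_option linter.unusedVariables false

namespace Cfsg.Agent.Lib.Helper8Ree35

open Cfsg.Lie Cfsg.Agent.Lib.Helper22ChevBasic Cfsg.Agent.Lib.Helper8Ree2
  Cfsg.Agent.Lib.Helper8Ree5
  Cfsg.Agent.Lib.Helper8Ree6 Cfsg.Agent.Lib.Helper8Ree7 Cfsg.Agent.Lib.Helper8Ree8 Cfsg.Agent.Lib.Helper8Ree9
  Cfsg.Agent.Lib.Helper8Ree10 Cfsg.Agent.Lib.Helper8Ree11 Cfsg.Agent.Lib.Helper8Ree12 Cfsg.Agent.Lib.Helper8Ree14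
  Cfsg.Agent.Lib.Helper8Ree15 Cfsg.Agent.Lib.Helper8Ree16 Cfsg.Agent.Lib.Helper8Ree17 Cfsg.Agent.Lib.Helper8Ree18
  Cfsg.Agent.Lib.Helper8Ree19 Cfsg.Agent.Lib.Helper8Ree20 Cfsg.Agent.Lib.Helper8Ree21 Cfsg.Agent.Lib.Helper8Ree22
  Cfsg.Agent.Lib.Helper8Ree23 Cfsg.Agent.Lib.Helper8Ree24 Cfsg.Agent.Lib.Helper8Ree34
  Cfsg.Agent.Lib.Helper8Rank1

variable {K : Type*} [Field K] [Fintype K] [CharP K 3]

section main

variable {m : ℕ} (hK : Fintype.card K = 3 ^ (2 * m + 1))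
include hK

/-- the torus as a homomorphism -/
noncomputable def hGhom : Kˣ →* GG K m where
  toFun := hG hK
  map_one' := hG_one hK
  map_mul' μ ν := (hG_mul hK μ ν).symm

theorem ch2_sq {d : K} (hd : d ≠ 0) : ∃ μ : Kˣ, ch2 m μ = d ^ 2 := by
  have hL : (d ^ 3 ^ m) ^ 3 ≠ 0 := pow_ne_zero _ (pow_ne_zero _ hd)
  refine ⟨Units.mk0 ((d ^ 3 ^ m) ^ 3 * d) (mul_ne_zero hL hd), ?_⟩
  unfold ch2
  rw [Units.val_mk0, mul_pow, mul_pow, th33 hK]
  field_simp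

theorem cube_surj (v : K) : ∃ t : K, -(t ^ 2 * (t ^ 3 ^ m) ^ 3) = v := by
  by_cases hv : v = 0
  · exact ⟨0, by simp [hv]⟩
  · have h1 := ch1_inv hK (Units.mk0 (-v) (neg_ne_zero.2 hv))
    rw [Units.val_mk0] at h1
    exact ⟨ch1 m (Units.mk0 (-v) (neg_ne_zero.2 hv)), by linear_combination -h1⟩

theorem gen_top (hm : 1 ≤ m) (L : Subgroup (GG K m)) (hH : ∀ μ, hG hK μ ∈ L) (hb : uG m 1 0 0 * nG m ∈ L) :
    L = ⊤ := by
  have h3 := three_eq_zero (K := K)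
  obtain ⟨a₀, b₀, hinv⟩ : ∃ a b, (uG m (1 : K) 0 0)⁻¹ = uG m (-1) a b := by
    obtain ⟨t, a, b, h⟩ := (mem_UU hK).1 ((UU K m).inv_mem (uG_mem hK 1 0 0))
    have h1 : uG m (1 : K) 0 0 * uG m t a b = 1 := by rw [← h, mul_inv_cancel]
    rw [uG_mul hK] at h1
    have h2 := (uG_eq_one hK h1).1
    have : t = -1 := by linear_combination h2
    exact ⟨a, b, this ▸ h⟩
  -- step 2
  have s2 : ∀ ν : Kˣ, ∃ a b, uG m (1 - ch1 m ν) a b ∈ L := by
    intro ν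
    have h1 : (uG m 1 0 0 * nG m) * hG hK ν⁻¹ * (uG m 1 0 0 * nG m)⁻¹ ∈ L :=
      L.mul_mem (L.mul_mem hb (hH _)) (L.inv_mem hb)
    have h2 := L.mul_mem h1 (hH ν⁻¹)
    have e : (uG m 1 0 0 * nG m) * hG hK ν⁻¹ * (uG m 1 0 0 * nG m)⁻¹ * hG hK ν⁻¹
        = uG m 1 0 0 * (hG hK ν * (uG m 1 0 0)⁻¹) * hG hK ν⁻¹ := by
      rw [mul_inv_rev, mul_assoc (uG m 1 0 0) (nG m), nG_hG, inv_inv]
      have := nG_sq (K := K) m
      rw [nG_inv]
      calc uG m 1 0 0 * (hG hK ν * nG m) * (nG m * (uG m 1 0 0)⁻¹) * hG hK ν⁻¹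
          = uG m 1 0 0 * hG hK ν * (nG m * nG m) * (uG m 1 0 0)⁻¹ * hG hK ν⁻¹ := by group
        _ = _ := by rw [this]; group
    rw [e, hinv, hG_uG, mul_assoc, mul_assoc, hG_mul, mul_inv_cancel, hG_one, mul_one, uG_mul hK] at h2
    have e2 : (1 : K) - ch1 m ν = 1 + ch1 m ν * -1 := by ring
    rw [e2]
    exact ⟨_, _, h2⟩
  have s2' : ∀ t : K, ∃ a b, uG m t a b ∈ L := by
    have key : ∀ t : K, t ≠ 1 → ∃ a b, uG m t a b ∈ L := by
      intro t ht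
      obtain ⟨ν, hν, -⟩ := ch1_surj hK (x := 1 - t) (sub_ne_zero.2 (Ne.symm ht))
      obtain ⟨a, b, h⟩ := s2 ν
      rw [hν] at h
      exact ⟨a, b, by simpa using h⟩
    intro t
    by_cases ht : t = 1
    · have hne : (-1 : K) ≠ 1 := by
        intro h
        have : (1 : K) = 0 := by linear_combination h3 + h
        exact one_ne_zero this
      obtain ⟨a, b, h⟩ := key (-1) hne
      have h2 := L.mul_mem h h
      rw [uG_mul hK] at h2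
      have e : (-1 : K) + -1 = t := by rw [ht]; linear_combination -h3
      rw [e] at h2
      exact ⟨_, _, h2⟩
    · exact key t ht
  -- step 3
  have s3 : ∀ v : K, uG m 0 0 v ∈ L := by
    intro v
    obtain ⟨t, ht⟩ := cube_surj hK v
    obtain ⟨a, b, h⟩ := s2' t
    have := L.pow_mem h 3
    rwa [uG_cube hK, ht] at this
  -- step 4
  have s4a : ∀ u v : K, uG m 0 u v ∈ L → uG m 0 u 0 ∈ L := by
    intro u v h
    have := L.mul_mem h (s3 (-v))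
    rwa [uG0_mul hK, add_zero, add_neg_cancel] at this
  obtain ⟨w₀, hw₀, hw₀L⟩ : ∃ w₀ : K, w₀ ≠ 0 ∧ uG m 0 w₀ 0 ∈ L := by
    obtain ⟨μ, hμ1, hμ2⟩ := Cfsg.Agent.Lib.Helper8Ree11.exists_mu hK hm
    have x0 : (μ : K) ≠ 0 := μ.ne_zero
    have x1 : (μ : K) ≠ 1 := fun h => hμ1 (Units.ext h)
    have x2 : (μ : K) ≠ -1 := fun h => hμ2 (Units.ext (by simpa using h))
    have hne := not_fixed hK x0 x1 x2
    generalize (μ : K) = s at *
    obtain ⟨a, b, hx⟩ := s2' 1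
    obtain ⟨c, d, hy⟩ := s2' s
    have h1 := L.mul_mem (L.inv_mem (L.mul_mem hy hx)) (L.mul_mem hx hy)
    refine ⟨s - (s ^ 3 ^ m) ^ 3, sub_ne_zero.2 (Ne.symm hne), ?_⟩
    have e : ∃ z, uG m 1 a b * uG m s c d = uG m s c d * uG m 1 a b * uG m 0 (s - (s ^ 3 ^ m) ^ 3) z := by
      rw [uG_mul hK, uG_mul hK]
      refine ⟨(b + d - s * a + (s ^ 3 ^ m) ^ 3 * s * 1 - (s ^ 3 ^ m) ^ 3 * 1 ^ 2)
        - (d + b - 1 * c + ((1 : K) ^ 3 ^ m) ^ 3 * 1 * s - ((1 : K) ^ 3 ^ m) ^ 3 * s ^ 2), ?_⟩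
      rw [uG_mul0 hK]
      congr 1
      · ring
      · rw [one_pow, one_pow]; ring
      · ring
    obtain ⟨z, hz⟩ := e
    rw [hz, ← mul_assoc, inv_mul_cancel, one_mul] at h1
    exact s4a _ _ h1
  have s4b : ∀ d u : K, uG m 0 u 0 ∈ L → uG m 0 (d ^ 2 * u) 0 ∈ L := by
    intro d u h
    by_cases hd : d = 0
    · subst hd
      have : (0 : K) ^ 2 * u = 0 := by ring
      rw [this, uG_zero]; exact L.one_mem
    · obtain ⟨μ, hμ⟩ := ch2_sq hK hd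
      have h1 := L.mul_mem (L.mul_mem (hH μ) h) (L.inv_mem (hH μ))
      rwa [hG_uG, mul_assoc, mul_inv_cancel, mul_one, mul_zero, mul_zero, hμ] at h1
  have s4 : ∀ u : K, uG m 0 u 0 ∈ L := by
    intro u
    have h1 := s4b (u / w₀ + 1) w₀ hw₀L
    have h2 := L.inv_mem (s4b (u / w₀ - 1) w₀ hw₀L)
    have h4 := L.mul_mem h1 h2
    rw [uG0_inv hK, uG0_mul hK] at h4
    have e : (u / w₀ + 1) ^ 2 * w₀ + -((u / w₀ - 1) ^ 2 * w₀) = u := by
      field_simp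
      linear_combination u * w₀ * h3
    rw [e] at h4
    simpa using h4
  have s5 : ∀ t u v : K, uG m t u v ∈ L := by
    intro t u v
    obtain ⟨a, b, h⟩ := s2' t
    have h1 := L.mul_mem (L.mul_mem h (s4 (u - a))) (s3 (v - b))
    rw [uG_mul0 hK, uG_mul0 hK] at h1
    have e1 : a + (u - a) + 0 = u := by ring
    have e2 : b + 0 + (v - b) = v := by ring
    rwa [e1, e2] at h1
  have s6 : nG m ∈ L := by
    have := L.mul_mem (L.inv_mem (s5 1 0 0)) hb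
    rwa [← mul_assoc, inv_mul_cancel, one_mul] at this
  have hU : ∀ u ∈ UU K m, u ∈ L := by
    intro u hu
    obtain ⟨t, a, b, rfl⟩ := (mem_UU hK).1 hu
    exact s5 _ _ _
  have hH' : ∀ h ∈ HH K m, h ∈ L := by
    intro h hh
    obtain ⟨μ, rfl⟩ := (mem_HH hK).1 hh
    exact hH μ
  rw [eq_top_iff]
  intro g _
  rcases (R hK).cases g with hg | ⟨u, hu, h, hh, u', hu', rfl⟩
  · obtain ⟨u, hu, h, hh, rfl⟩ := ((R hK).mem_B g).1 hg
    exact L.mul_mem (hU u hu) (hH' h hh)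
  · exact L.mul_mem (L.mul_mem (L.mul_mem (hU u hu) (hH' h hh)) s6) (hU u' hu')

theorem s2409 (hm : 1 ≤ m) : ∃ a b : GG K m, Subgroup.closure ({a, b} : Set (GG K m)) = ⊤ := by
  obtain ⟨μ₀, hμ₀⟩ := IsCyclic.exists_generator (α := Kˣ)
  refine ⟨hG hK μ₀, uG m 1 0 0 * nG m, ?_⟩
  apply gen_top hK hm
  · intro μ
    have h1 : Subgroup.zpowers μ₀ ≤ (Subgroup.closure ({hG hK μ₀, uG m 1 0 0 * nG m} : Set (GG K m))).comap
        (hGhom hK) := by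
      rw [Subgroup.zpowers_le]
      exact Subgroup.subset_closure (Set.mem_insert _ _)
    exact h1 (hμ₀ μ)
  · exact Subgroup.subset_closure (Set.mem_insert_of_mem _ rfl)

end main

end Cfsg.Agent.Lib.Helper8Ree35
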