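import Cfsg.Agent.Lib.Helper8Ree35
import Cfsg.Agent.Lib.Helper8Mult

set_option autoImplicit false
set_option linter.unusedSectionVars false
set_option linter.unusedVariables false

namespace Cfsg.Agent.Lib.Helper8Ree36

open Cfsg.Lie Cfsg.Agent.Lib.Helper22ChevBasic Cfsg.Agent.Lib.Helper8Ree2
  Cfsg.Agent.Lib.Helper8Ree5
  Cfsg.Agent.Lib.Helper8Ree6 Cfsg.Agent.Lib.Helper8Ree7 Cfsg.Agent.Lib.Helper8Ree8 Cfsg.Agent.Lib.Helper8Ree9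
  Cfsg.Agent.Lib.Helper8Ree10 Cfsg.Agent.Lib.Helper8Ree11 Cfsg.Agent.Lib.Helper8Ree12 Cfsg.Agent.Lib.Helper8Ree14
  Cfsg.Agent.Lib.Helper8Ree15 Cfsg.Agent.Lib.Helper8Ree16 Cfsg.Agent.Lib.Helper8Ree17 Cfsg.Agent.Lib.Helper8Ree18
  Cfsg.Agent.Lib.Helper8Ree19 Cfsg.Agent.Lib.Helper8Ree20 Cfsg.Agent.Lib.Helper8Ree21 Cfsg.Agent.Lib.Helper8Ree22
  Cfsg.Agent.Lib.Helper8Ree23 Cfsg.Agent.Lib.Helper8Ree24 Cfsg.Agent.Lib.Helper8Ree34 Cfsg.Agent.Lib.Helper8Ree35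
  Cfsg.Agent.Lib.Helper8Rank1 Cfsg.Agent.Lib.Helper8Mult Cfsg.Agent.Lib.Helper8Schur
open scoped commutatorElement

variable {K : Type*} [Field K] [Fintype K] [CharP K 3]

section main

variable {m : ℕ} (hK : Fintype.card K = 3 ^ (2 * m + 1))
include hK

noncomputable def yB (t u v : K) : ↥(BB K m) := ⟨uG m t u v, (R hK).U_le_B (uG_mem hK t u v)⟩
noncomputable def hB (μ : Kˣ) : ↥(BB K m) := ⟨hG hK μ, (R hK).H_le_B (hG_mem hK μ)⟩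

theorem yB_mul (t u v s w z : K) : yB hK t u v * yB hK s w z =
    yB hK (t + s) (u + w - t * (s ^ 3 ^ m) ^ 3)
      (v + z - s * u + (s ^ 3 ^ m) ^ 3 * s * t - (s ^ 3 ^ m) ^ 3 * t ^ 2) := Subtype.ext (uG_mul hK t u v s w z)

theorem yB_mul0 (t u v w z : K) : yB hK t u v * yB hK 0 w z = yB hK t (u + w) (v + z) :=
  Subtype.ext (uG_mul0 hK t u v w z)

theorem yB_0mul (t u v w z : K) : yB hK 0 w z * yB hK t u v = yB hK t (w + u) (z + v - t * w) := by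
  rw [yB_mul]
  congr 1 <;> ring

theorem hB_yB (μ : Kˣ) (t u v : K) :
    hB hK μ * yB hK t u v = yB hK (ch1 m μ * t) (ch2 m μ * u) (μ * v) * hB hK μ := Subtype.ext (hG_uG hK μ t u v)

theorem iB_yB (t u v : K) : hB hK (-1) * yB hK t u v = yB hK (-t) u (-v) * hB hK (-1) :=
  Subtype.ext (iG_uG hK t u v)

theorem hB_mul (μ ν : Kˣ) : hB hK μ * hB hK ν = hB hK (μ * ν) := Subtype.ext (hG_mul hK μ ν)

theorem yB_inj {t u v t' u' v' : K} (h : yB hK t u v = yB hK t' u' v') : t = t' ∧ u = u' ∧ v = v' :=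
  uG_inj hK (congrArg Subtype.val h)

theorem yB_zero : yB hK 0 0 0 = 1 := Subtype.ext uG_zero

theorem B_decomp (b : ↥(BB K m)) : ∃ t u v μ, b = yB hK t u v * hB hK μ := by
  obtain ⟨u, hu, h, hh, e⟩ := ((R hK).mem_B b.1).1 b.2
  obtain ⟨t, a, v, rfl⟩ := (mem_UU hK).1 hu
  obtain ⟨μ, rfl⟩ := (mem_HH hK).1 hh
  exact ⟨t, a, v, μ, Subtype.ext e⟩

theorem exK (hm : 1 ≤ m) : ∃ l : K, l ≠ 0 ∧ l ≠ 1 ∧ l ≠ -1 := by
  obtain ⟨μ, hμ1, hμ2⟩ := Cfsg.Agent.Lib.Helper8Ree11.exists_mu hK hm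
  exact ⟨μ, μ.ne_zero, fun h => hμ1 (Units.ext h), fun h => hμ2 (Units.ext (by simpa using h))⟩

theorem E_add (v v' : K) : yB hK 0 0 (v + v') = yB hK 0 0 v * yB hK 0 0 v' := by
  rw [yB_mul0, add_zero]

theorem A_add (u u' : K) : yB hK 0 (u + u') 0 = yB hK 0 u 0 * yB hK 0 u' 0 := by
  rw [yB_mul0, add_zero]

theorem U1_comm (u v u' v' : K) : yB hK 0 u v * yB hK 0 u' v' = yB hK 0 u' v' * yB hK 0 u v := by
  rw [yB_mul0, yB_mul0, add_comm u, add_comm v]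

theorem E_central (t u v w : K) : yB hK t u v * yB hK 0 0 w = yB hK 0 0 w * yB hK t u v := by
  rw [yB_mul0, yB_0mul]
  congr 1 <;> ring

theorem split1 (t u v : K) : yB hK t u v = yB hK t 0 0 * yB hK 0 u v := by
  rw [yB_mul0, zero_add, zero_add]

theorem split2 (u v : K) : yB hK 0 u v = yB hK 0 u 0 * yB hK 0 0 v := by
  rw [yB_mul0, zero_add, add_zero]

theorem hB_E (μ : Kˣ) (v : K) : hB hK μ * yB hK 0 0 v = yB hK 0 0 (μ * v) * hB hK μ := by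
  rw [hB_yB, mul_zero, mul_zero]

theorem hB_A (μ : Kˣ) (u : K) : hB hK μ * yB hK 0 u 0 = yB hK 0 (ch2 m μ * u) 0 * hB hK μ := by
  rw [hB_yB, mul_zero, mul_zero]

theorem hB_Y (μ : Kˣ) (t : K) : hB hK μ * yB hK t 0 0 = yB hK (ch1 m μ * t) 0 0 * hB hK μ := by
  rw [hB_yB, mul_zero, mul_zero]

theorem iB_E (v : K) : hB hK (-1) * yB hK 0 0 v = yB hK 0 0 (-v) * hB hK (-1) := by
  rw [iB_yB, neg_zero]

theorem iB_A (u : K) : hB hK (-1) * yB hK 0 u 0 = yB hK 0 u 0 * hB hK (-1) := by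
  rw [iB_yB, neg_zero]

theorem iB_Y (t : K) : hB hK (-1) * yB hK t 0 0 = yB hK (-t) 0 0 * hB hK (-1) := by
  rw [iB_yB, neg_zero]

/-- the commutator of `y` and an element of the middle layer -/
theorem comm_YA (t b c u : K) :
    yB hK t b c * yB hK 0 u 0 = yB hK 0 0 (t * u) * (yB hK 0 u 0 * yB hK t b c) := by
  rw [yB_mul0, yB_0mul, yB_0mul]
  congr 1 <;> ring

theorem comm_YY (t b c t' b' c' : K) : ∃ w z,
    yB hK t b c * yB hK t' b' c' = yB hK 0 w z * (yB hK t' b' c' * yB hK t b c) := by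
  rw [yB_mul, yB_mul]
  refine ⟨(b + b' - t * (t' ^ 3 ^ m) ^ 3) - (b' + b - t' * (t ^ 3 ^ m) ^ 3), ?_⟩
  refine ⟨(c + c' - t' * b + (t' ^ 3 ^ m) ^ 3 * t' * t - (t' ^ 3 ^ m) ^ 3 * t ^ 2)
    - (c' + c - t * b' + (t ^ 3 ^ m) ^ 3 * t * t' - (t ^ 3 ^ m) ^ 3 * t' ^ 2)
    + (t' + t) * ((b + b' - t * (t' ^ 3 ^ m) ^ 3) - (b' + b - t' * (t ^ 3 ^ m) ^ 3)), ?_⟩
  rw [yB_0mul]
  congr 1 <;> ring

theorem add_Y (t t' : K) : ∃ b c, yB hK (t + t') 0 0 = yB hK t 0 0 * (yB hK t' 0 0 * yB hK 0 b c) := by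
  refine ⟨t * (t' ^ 3 ^ m) ^ 3, -((t' ^ 3 ^ m) ^ 3 * t' * t - (t' ^ 3 ^ m) ^ 3 * t ^ 2), ?_⟩
  rw [yB_mul0, yB_mul]
  congr 1 <;> ring

theorem ch1_mul_ne {μ : Kˣ} (h1 : μ ≠ 1) (h2 : μ ≠ -1) : ch1 m μ * μ - 1 ≠ 0 := by
  have h3 := three_eq_zero (K := K)
  intro h
  have hμ : (μ : K) ≠ 0 := μ.ne_zero
  have x1 : (μ : K) ≠ 1 := fun h => h1 (Units.ext h)
  have x2 : (μ : K) ≠ -1 := fun h => h2 (Units.ext (by simpa using h))
  unfold ch1 at h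
  have hL : ((μ : K) ^ 3 ^ m) ^ 3 ≠ 0 := pow_ne_zero _ (pow_ne_zero _ hμ)
  have e1 : ((μ : K) ^ 3 ^ m) ^ 3 = (μ : K) ^ 3 := by
    field_simp at h
    linear_combination -h
  have e2 := th33 hK (μ : K)
  rw [e1] at e2
  have e3 : (((μ : K) ^ 3) ^ 3 ^ m) ^ 3 = (((μ : K) ^ 3 ^ m) ^ 3) ^ 3 := by
    rw [← pow_mul, ← pow_mul, ← pow_mul, ← pow_mul]; congr 1; ring
  rw [e3, e1] at e2
  generalize (μ : K) = x at *
  have e4 : (x * (x - 1) * (x + 1)) ^ 3 = 0 := by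
    linear_combination e2 + (-x ^ 7 + x ^ 5) * h3
  have e5 := pow_eq_zero_iff (three_ne_zero) |>.1 e4
  rcases mul_eq_zero.1 e5 with h | h
  · rcases mul_eq_zero.1 h with h | h
    · exact hμ h
    · exact x1 (sub_eq_zero.1 h)
  · exact x2 (eq_neg_of_add_eq_zero_left h)

section lem

variable {M : Type*} [Group M] {L : ↥(BB K m) → M} (hL : PH L)
include hL

theorem p33 (hm : 1 ≤ m) (v v' : K) : ⁅L (yB hK 0 0 v), L (yB hK 0 0 v')⁆ = 1 := by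
  have hc : ∀ a b, ⁅L (yB hK 0 0 a), L (yB hK 0 0 b)⁆ ∈ Subgroup.center M :=
    fun a b => hL.comm_central (U1_comm hK _ _ _ _) hL.one_mem
  obtain ⟨a1, a2⟩ := pair_add hL (fun v => yB hK 0 0 v) (fun v => yB hK 0 0 v) (E_add hK) (E_add hK) hc
  apply lemD three_eq_zero (fun v v' => ⁅L (yB hK 0 0 v), L (yB hK 0 0 v')⁆) a1 a2 _ (exK hK hm)
  intro l hl t s
  exact hL.inv (hB_E hK (Units.mk0 l hl) t) (hB_E hK (Units.mk0 l hl) s) (hc _ _)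

theorem p23 (u v : K) : ⁅L (yB hK 0 u 0), L (yB hK 0 0 v)⁆ = 1 := by
  have hc : ∀ a b, ⁅L (yB hK 0 a 0), L (yB hK 0 0 b)⁆ ∈ Subgroup.center M :=
    fun a b => hL.comm_central (U1_comm hK _ _ _ _) hL.one_mem
  obtain ⟨a1, a2⟩ := pair_add hL (fun v => yB hK 0 v 0) (fun v => yB hK 0 0 v) (A_add hK) (E_add hK) hc
  apply lemI three_eq_zero (fun v => ⁅L (yB hK 0 u 0), L (yB hK 0 0 v)⁆) (a2 u)
  intro t
  exact hL.inv (iB_A hK u) (iB_E hK t) (hc _ _)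

theorem p22 (hm : 1 ≤ m) (u u' : K) : ⁅L (yB hK 0 u 0), L (yB hK 0 u' 0)⁆ = 1 := by
  have hc : ∀ a b, ⁅L (yB hK 0 a 0), L (yB hK 0 b 0)⁆ ∈ Subgroup.center M :=
    fun a b => hL.comm_central (U1_comm hK _ _ _ _) hL.one_mem
  obtain ⟨a1, a2⟩ := pair_add hL (fun v => yB hK 0 v 0) (fun v => yB hK 0 v 0) (A_add hK) (A_add hK) hc
  apply lemD' three_eq_zero (fun v v' => ⁅L (yB hK 0 v 0), L (yB hK 0 v' 0)⁆) a1 a2 _ _ (exK hK hm)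
  · intro d hd t s
    obtain ⟨μ, hμ⟩ := ch2_sq hK hd
    have := hL.inv (hB_A hK μ t) (hB_A hK μ s) (hc _ _)
    rwa [hμ] at this
  · apply sq_or_neg
    have := q_mod8 hK
    omega

theorem pU1 (hm : 1 ≤ m) (u v u' v' : K) : ⁅L (yB hK 0 u v), L (yB hK 0 u' v')⁆ = 1 := by
  have hc : ∀ a b a' b', ⁅L (yB hK 0 a b), L (yB hK 0 a' b')⁆ ∈ Subgroup.center M :=
    fun a b a' b' => hL.comm_central (U1_comm hK _ _ _ _) hL.one_mem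
  rw [split2 hK u v, hL.cml (hc _ _ _ _), split2 hK u' v', hL.cmr (hc _ _ _ _), hL.cmr (hc _ _ _ _),
    p22 hK hL hm, p23 hK hL, p33 hK hL hm, ← commutatorElement_inv, p23 hK hL]
  simp

theorem commU1 (hm : 1 ≤ m) {a b : M} (ha : ∃ u v, ∃ c ∈ Subgroup.center M, a = L (yB hK 0 u v) * c)
    (hb : ∃ u v, ∃ c ∈ Subgroup.center M, b = L (yB hK 0 u v) * c) : Commute a b := by
  obtain ⟨u, v, c, hc, rfl⟩ := ha
  obtain ⟨u', v', c', hc', rfl⟩ := hb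
  rw [← comm_eq_one_iff, comm_cl hc, comm_cr hc']
  exact pU1 hK hL hm _ _ _ _

theorem p13_rel (hm : 1 ≤ m) (s t u : K) :
    ⁅L (yB hK s 0 0), L (yB hK 0 0 (t * u))⁆ = ⁅L (yB hK t 0 0), L (yB hK 0 0 (s * u))⁆ := by
  obtain ⟨c₁, hc₁, e₁⟩ := hL.map_comm (comm_YA hK t 0 0 u)
  obtain ⟨c₂, hc₂, e₂⟩ := hL.map_comm (comm_YA hK s 0 0 u)
  obtain ⟨w, z, hwz⟩ := comm_YY hK s 0 0 t 0 0
  obtain ⟨c₃, hc₃, e₃⟩ := hL.map_comm hwz
  have hcen : ⁅L (yB hK t 0 0), L (yB hK 0 0 (s * u))⁆ ∈ Subgroup.center M :=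
    hL.comm_central (E_central hK _ _ _ _) hL.one_mem
  have key := lemHW (L (yB hK s 0 0)) (L (yB hK t 0 0)) (L (yB hK 0 u 0))
    (commU1 hK hL hm ⟨_, _, _, hc₃, e₃⟩ ⟨_, _, _, hc₂, e₂⟩)
    (commU1 hK hL hm ⟨_, _, _, hc₃, e₃⟩ ⟨u, 0, 1, Subgroup.one_mem _, (mul_one _).symm⟩)
    (commU1 hK hL hm ⟨_, _, _, hc₃, e₃⟩ ⟨_, _, _, hc₁, e₁⟩)
    (commU1 hK hL hm ⟨_, _, _, hc₂, e₂⟩ ⟨_, _, _, hc₁, e₁⟩)
    (by rw [e₂, comm_cr hc₂]; exact comm_of_center hcen _)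
  rw [e₁, e₂, comm_cr hc₁, comm_cr hc₂] at key
  exact key

theorem p13 (hm : 1 ≤ m) (s v : K) : ⁅L (yB hK s 0 0), L (yB hK 0 0 v)⁆ = 1 := by
  have hc : ∀ a b, ⁅L (yB hK a 0 0), L (yB hK 0 0 b)⁆ ∈ Subgroup.center M :=
    fun a b => hL.comm_central (E_central hK _ _ _ _) hL.one_mem
  have hadd : ∀ a b b', ⁅L (yB hK a 0 0), L (yB hK 0 0 (b + b'))⁆
      = ⁅L (yB hK a 0 0), L (yB hK 0 0 b)⁆ * ⁅L (yB hK a 0 0), L (yB hK 0 0 b')⁆ := by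
    intro a b b'
    rw [E_add hK]; exact hL.cmr (hc _ _)
  obtain ⟨μ, hμ1, hμ2⟩ := Cfsg.Agent.Lib.Helper8Ree11.exists_mu hK hm
  have hD := ch1_mul_ne hK hμ1 hμ2
  have g1 : ∀ w, ⁅L (yB hK 1 0 0), L (yB hK 0 0 (ch1 m μ * μ * w))⁆ = ⁅L (yB hK 1 0 0), L (yB hK 0 0 w)⁆ := by
    intro w
    have i1 := hL.inv (hB_Y hK μ 1) (hB_E hK μ w) (hc _ _)
    have i2 := p13_rel hK hL hm (ch1 m μ * 1) 1 (μ * w)
    rw [one_mul] at i2
    rw [← i1, i2]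
    congr 3
    ring
  have g2 : ∀ w, ⁅L (yB hK 1 0 0), L (yB hK 0 0 ((ch1 m μ * μ - 1) * w))⁆ = 1 := by
    intro w
    have := hadd 1 ((ch1 m μ * μ - 1) * w) w
    have e : (ch1 m μ * μ - 1) * w + w = ch1 m μ * μ * w := by ring
    rw [e, g1] at this
    exact (mul_eq_right.1 this.symm)
  have g3 : ∀ w, ⁅L (yB hK 1 0 0), L (yB hK 0 0 w)⁆ = 1 := by
    intro w
    have := g2 ((ch1 m μ * μ - 1)⁻¹ * w)
    rwa [mul_inv_cancel_left₀ hD] at this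
  have := p13_rel hK hL hm s 1 v
  rw [one_mul] at this
  rw [this, g3]

theorem pU2 (hm : 1 ≤ m) (t u v w : K) : ⁅L (yB hK t u v), L (yB hK 0 0 w)⁆ = 1 := by
  have hc : ∀ a b c d, ⁅L (yB hK a b c), L (yB hK 0 0 d)⁆ ∈ Subgroup.center M :=
    fun a b c d => hL.comm_central (E_central hK _ _ _ _) hL.one_mem
  rw [split1 hK t u v, hL.cml (hc _ _ _ _), p13 hK hL hm, pU1 hK hL hm, one_mul]

/-- level two -/
theorem lemB (hE : ∀ v, L (yB hK 0 0 v) ∈ Subgroup.center M)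
    (hU1 : ∀ u v u' v', ⁅L (yB hK 0 u v), L (yB hK 0 u' v')⁆ = 1) (t u v u' v' : K) :
    ⁅L (yB hK t u v), L (yB hK 0 u' v')⁆ = 1 := by
  have hc : ∀ a b c d, ⁅L (yB hK a b c), L (yB hK 0 d 0)⁆ ∈ Subgroup.center M := by
    intro a b c d
    obtain ⟨c₁, hc₁, e₁⟩ := hL.map_comm (comm_YA hK a b c d)
    rw [e₁]
    exact Subgroup.mul_mem _ (hE _) hc₁
  have hE1 : ∀ (q : M) w, ⁅q, L (yB hK 0 0 w)⁆ = 1 := fun q w => comm_eq_one_iff.2 (comm_of_center (hE w) q)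
  have h12 : ∀ t u, ⁅L (yB hK t 0 0), L (yB hK 0 u 0)⁆ = 1 := by
    intro t u
    apply lemI three_eq_zero (fun t => ⁅L (yB hK t 0 0), L (yB hK 0 u 0)⁆)
    · intro t t'
      obtain ⟨b, c, e⟩ := add_Y hK t t'
      show ⁅L (yB hK (t + t') 0 0), L (yB hK 0 u 0)⁆ = _
      have h1 : ⁅L (yB hK 0 b c), L (yB hK 0 u 0)⁆ = 1 := hU1 _ _ _ _
      have h2 : ⁅L (yB hK t' 0 0 * yB hK 0 b c), L (yB hK 0 u 0)⁆ = ⁅L (yB hK t' 0 0), L (yB hK 0 u 0)⁆ := by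
        rw [hL.cml (by rw [h1]; exact Subgroup.one_mem _), h1, mul_one]
      rw [e, hL.cml (by rw [h2]; exact hc _ _ _ _), h2]
    · intro t
      exact hL.inv (iB_Y hK t) (iB_A hK u) (hc _ _ _ _)
  rw [split2 hK u' v', hL.cmr (by rw [hE1]; exact Subgroup.one_mem _), hE1, mul_one, split1 hK t u v,
    hL.cml (by rw [hU1]; exact Subgroup.one_mem _), hU1, h12, mul_one]

/-- level one -/
theorem lemC (hm : 1 ≤ m) (hU1 : ∀ u v, L (yB hK 0 u v) ∈ Subgroup.center M) (t u v t' u' v' : K) :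
    ⁅L (yB hK t u v), L (yB hK t' u' v')⁆ = 1 := by
  have hc : ∀ a b, ⁅L (yB hK a 0 0), L (yB hK b 0 0)⁆ ∈ Subgroup.center M := by
    intro a b
    obtain ⟨w, z, hwz⟩ := comm_YY hK a 0 0 b 0 0
    obtain ⟨c₁, hc₁, e₁⟩ := hL.map_comm hwz
    rw [e₁]
    exact Subgroup.mul_mem _ (hU1 _ _) hc₁
  have hl : ∀ (g : ↥(BB K m)) (b c : K) (q : M), ⁅L (g * yB hK 0 b c), q⁆ = ⁅L g, q⁆ := by
    intro g b c q
    obtain ⟨c₁, hc₁, e₁⟩ := hL g (yB hK 0 b c)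
    rw [e₁, comm_cl hc₁, comm_cl (hU1 _ _)]
  have hr : ∀ (g : ↥(BB K m)) (b c : K) (q : M), ⁅q, L (g * yB hK 0 b c)⁆ = ⁅q, L g⁆ := by
    intro g b c q
    obtain ⟨c₁, hc₁, e₁⟩ := hL g (yB hK 0 b c)
    rw [e₁, comm_cr hc₁, comm_cr (hU1 _ _)]
  have h11 : ∀ t s, ⁅L (yB hK t 0 0), L (yB hK s 0 0)⁆ = 1 := by
    apply lemD three_eq_zero (fun t s => ⁅L (yB hK t 0 0), L (yB hK s 0 0)⁆) _ _ _ (exK hK hm)
    · intro t t' s
      obtain ⟨b, c, e⟩ := add_Y hK t t'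
      show ⁅L (yB hK (t + t') 0 0), L (yB hK s 0 0)⁆ = _
      rw [e, hL.cml (by rw [hl]; exact hc _ _), hl]
    · intro t s s'
      obtain ⟨b, c, e⟩ := add_Y hK s s'
      show ⁅L (yB hK t 0 0), L (yB hK (s + s') 0 0)⁆ = _
      rw [e, hL.cmr (by rw [hr]; exact hc _ _), hr]
    · intro l hl' t s
      obtain ⟨μ, hμ, -⟩ := ch1_surj hK hl'
      have := hL.inv (hB_Y hK μ t) (hB_Y hK μ s) (hc _ _)
      rwa [hμ] at this
  rw [split1 hK t u v, split1 hK t' u' v', hl, hr, h11]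

end lem

theorem yB0_inv (u v : K) : (yB hK 0 u v)⁻¹ = yB hK 0 (-u) (-v) :=
  inv_eq_of_mul_eq_one_right (by rw [yB_mul0, add_neg_cancel, add_neg_cancel, yB_zero])

/-- the filtration of the unipotent radical -/
def V0 : Subgroup ↥(BB K m) := (UU K m).subgroupOf (BB K m)

def V1 : Subgroup ↥(BB K m) where
  carrier := {b | ∃ u v, b = yB hK 0 u v}
  one_mem' := ⟨0, 0, (yB_zero hK).symm⟩
  mul_mem' := by
    rintro _ _ ⟨u, v, rfl⟩ ⟨u', v', rfl⟩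
    exact ⟨_, _, yB_mul0 hK _ _ _ _ _⟩
  inv_mem' := by
    rintro _ ⟨u, v, rfl⟩
    exact ⟨_, _, yB0_inv hK u v⟩

def V2 : Subgroup ↥(BB K m) where
  carrier := {b | ∃ v, b = yB hK 0 0 v}
  one_mem' := ⟨0, (yB_zero hK).symm⟩
  mul_mem' := by
    rintro _ _ ⟨v, rfl⟩ ⟨v', rfl⟩
    exact ⟨_, (E_add hK v v').symm⟩
  inv_mem' := by
    rintro _ ⟨v, rfl⟩
    exact ⟨-v, by rw [yB0_inv, neg_zero]⟩

theorem mem_V0 {b : ↥(BB K m)} : b ∈ V0 (K := K) (m := m) ↔ ∃ t u v, b = yB hK t u v := by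
  unfold V0
  rw [Subgroup.mem_subgroupOf, mem_UU hK]
  constructor
  · rintro ⟨t, u, v, h⟩; exact ⟨t, u, v, Subtype.ext h⟩
  · rintro ⟨t, u, v, rfl⟩; exact ⟨t, u, v, rfl⟩

theorem mem_V1 {b : ↥(BB K m)} : b ∈ V1 hK ↔ ∃ u v, b = yB hK 0 u v := Iff.rfl
theorem mem_V2 {b : ↥(BB K m)} : b ∈ V2 hK ↔ ∃ v, b = yB hK 0 0 v := Iff.rfl

theorem V2_le_V1 : V2 hK ≤ V1 hK := by rintro _ ⟨v, rfl⟩; exact ⟨0, v, rfl⟩
theorem V1_le_V0 : V1 hK ≤ V0 (K := K) (m := m) := by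
  rintro _ ⟨u, v, rfl⟩; exact (mem_V0 hK).2 ⟨0, u, v, rfl⟩

omit hK [Fintype K] [CharP K 3] [Field K] in
theorem conj_of_rel {G : Type*} [Group G] {k a a' : G} (h : k * a = a' * k) : k * a * k⁻¹ = a' := by
  rw [h, mul_inv_cancel_right]

theorem conjU1 (t b c u v : K) : yB hK t b c * yB hK 0 u v = yB hK 0 u (v + t * u) * yB hK t b c := by
  rw [yB_mul0, yB_0mul]
  congr 1 <;> ring

theorem V0_norm (b a : ↥(BB K m)) (ha : a ∈ V0 (K := K) (m := m)) : b * a * b⁻¹ ∈ V0 (K := K) (m := m) := by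
  unfold V0 at *
  rw [Subgroup.mem_subgroupOf] at *
  exact (R hK).bU b.2 ha

theorem V1_norm (b a : ↥(BB K m)) (ha : a ∈ V1 hK) : b * a * b⁻¹ ∈ V1 hK := by
  obtain ⟨u, v, rfl⟩ := ha
  obtain ⟨t, b', c, μ, rfl⟩ := B_decomp hK b
  have e : yB hK t b' c * hB hK μ * yB hK 0 u v * (yB hK t b' c * hB hK μ)⁻¹
      = yB hK t b' c * (hB hK μ * yB hK 0 u v * (hB hK μ)⁻¹) * (yB hK t b' c)⁻¹ := by group
  rw [e, conj_of_rel (hB_yB hK μ 0 u v), mul_zero, conj_of_rel (conjU1 hK _ _ _ _ _)]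
  exact ⟨_, _, rfl⟩

theorem V2_norm (b a : ↥(BB K m)) (ha : a ∈ V2 hK) : b * a * b⁻¹ ∈ V2 hK := by
  obtain ⟨v, rfl⟩ := ha
  obtain ⟨t, b', c, μ, rfl⟩ := B_decomp hK b
  have e : yB hK t b' c * hB hK μ * yB hK 0 0 v * (yB hK t b' c * hB hK μ)⁻¹
      = yB hK t b' c * (hB hK μ * yB hK 0 0 v * (hB hK μ)⁻¹) * (yB hK t b' c)⁻¹ := by group
  rw [e, conj_of_rel (hB_E hK μ v), conj_of_rel (conjU1 hK _ _ _ _ _)]
  exact ⟨_, rfl⟩

theorem commH1 (μ : Kˣ) (u v : K) :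
    ⁅hB hK μ, yB hK 0 u v⁆ = yB hK 0 ((ch2 m μ - 1) * u) (((μ : K) - 1) * v) := by
  rw [commutatorElement_def, conj_of_rel (hB_yB hK μ 0 u v), mul_zero, yB0_inv, yB_mul0]
  congr 1 <;> ring

theorem left_Y (T t' : K) : ∃ b c, yB hK (T + t') 0 0 = yB hK T b c * yB hK t' 0 0 := by
  refine ⟨T * (t' ^ 3 ^ m) ^ 3,
    t' * (T * (t' ^ 3 ^ m) ^ 3) - (t' ^ 3 ^ m) ^ 3 * t' * T + (t' ^ 3 ^ m) ^ 3 * T ^ 2, ?_⟩
  rw [yB_mul]
  congr 1 <;> ring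

theorem comm_mem_V0 (b : ↥(BB K m)) (μ : Kˣ) : ⁅b, hB hK μ⁆ ∈ V0 (K := K) (m := m) := by
  obtain ⟨t, u, v, ν, rfl⟩ := B_decomp hK b
  have hc : hB hK ν * hB hK μ = hB hK μ * hB hK ν := by rw [hB_mul, hB_mul, mul_comm]
  have e : ⁅yB hK t u v * hB hK ν, hB hK μ⁆
      = yB hK t u v * (hB hK μ * (yB hK t u v)⁻¹ * (hB hK μ)⁻¹) := by
    rw [commutatorElement_def, mul_assoc (yB hK t u v), hc]
    group
  rw [e]
  have h1 : yB hK t u v ∈ V0 (K := K) (m := m) := (mem_V0 hK).2 ⟨_, _, _, rfl⟩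
  exact Subgroup.mul_mem _ h1 (V0_norm hK _ _ (Subgroup.inv_mem _ h1))

/-- the torus of the Borel subgroup -/
noncomputable def hBhom : Kˣ →* ↥(BB K m) where
  toFun := hB hK
  map_one' := Subtype.ext (hG_one hK)
  map_mul' μ ν := (hB_mul hK μ ν).symm

theorem local3 (hm : 1 ≤ m) {X : Type*} [Group X] (τ : X →* ↥(BB K m)) (hsurj : Function.Surjective τ)
    (hker : τ.ker ≤ Subgroup.center X) (z : X) (hz : z ∈ commutator X) (hz1 : τ z = 1) : z = 1 := by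
  obtain ⟨s, hs⟩ : ∃ s : ↥(BB K m) → X, ∀ b, τ (s b) = b := ⟨Function.surjInv hsurj, Function.surjInv_eq hsurj⟩
  obtain ⟨μ, hμ1, hμ2⟩ := Cfsg.Agent.Lib.Helper8Ree11.exists_mu hK hm
  have d1 : ch1 m μ - 1 ≠ 0 := fun h => hμ1 (ch1_eq_one hK (sub_eq_zero.1 h))
  have d2 : ch2 m μ - 1 ≠ 0 := fun h => by
    rcases ch2_eq_one hK (sub_eq_zero.1 h) with h | h
    · exact hμ1 h
    · exact hμ2 h
  have d3 : (μ : K) - 1 ≠ 0 := fun h => hμ1 (Units.ext (sub_eq_zero.1 h))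
  obtain ⟨h, hh⟩ : ∃ h, τ h = hB hK μ := hsurj _
  have s6 : ∀ x : X, τ ⁅x, h⁆ ∈ V0 (K := K) (m := m) := by
    intro x
    rw [map_commutatorElement, hh]
    exact comm_mem_V0 hK _ _
  -- level three
  have PH3 := ph_quot τ hker (⊥ : Subgroup X) s hs
  have A1 : ∀ x a, τ x ∈ V1 hK → τ a ∈ V1 hK → ⁅x, a⁆ = 1 := by
    intro x a hx ha
    obtain ⟨u, v, hx⟩ := hx
    obtain ⟨u', v', ha⟩ := ha
    have := mem_of_quot τ hker (⊥ : Subgroup X) s hs (x := x) (a := a) (by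
      rw [hx, ha]; exact pU1 hK PH3 hm _ _ _ _)
    exact Subgroup.mem_bot.1 this
  have A2 : ∀ x a, τ x ∈ V0 (K := K) (m := m) → τ a ∈ V2 hK → ⁅x, a⁆ ∈ (⊥ : Subgroup X) := by
    intro x a hx ha
    obtain ⟨t, u, v, hx⟩ := (mem_V0 hK).1 hx
    obtain ⟨v', ha⟩ := ha
    exact mem_of_quot τ hker (⊥ : Subgroup X) s hs (x := x) (a := a) (by
      rw [hx, ha]; exact pU2 hK PH3 hm _ _ _ _)
  obtain ⟨W2, hW2n, -, w2a, w2b, w2c⟩ := step τ hsurj hker ⊥ ⊥ (V2 hK) V0 h bot_le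
    ((V2_le_V1 hK).trans (V1_le_V0 hK))
    (by intro w hw; rw [Subgroup.mem_bot.1 hw, map_one]; exact Subgroup.one_mem _)
    (by intro d hd; exact ⟨1, Subgroup.one_mem _, by rw [map_one, Subgroup.mem_bot.1 hd]⟩)
    (by intro w hw _; exact Subgroup.mem_bot.1 hw)
    A2 (V2_norm hK)
    (by
      rintro _ ⟨v, rfl⟩ hc
      rw [hh, commH1, Subgroup.mem_bot, ← yB_zero hK] at hc
      have := (yB_inj hK hc).2.2
      have hv : v = 0 := (mul_eq_zero.1 this).resolve_left d3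
      rw [hv, yB_zero]; exact Subgroup.one_mem _)
    (by
      rintro _ ⟨v, rfl⟩
      refine ⟨yB hK 0 0 (((μ : K) - 1)⁻¹ * v), ⟨_, rfl⟩, 1, Subgroup.one_mem _, ?_⟩
      rw [hh, commH1, mul_zero, mul_inv_cancel_left₀ d3, mul_one])
    s6
  -- level two
  have PH2 := ph_quot τ hker W2 s hs
  have B2 : ∀ x a, τ x ∈ V0 (K := K) (m := m) → τ a ∈ V1 hK → ⁅x, a⁆ ∈ W2 := by
    intro x a hx ha
    obtain ⟨t, u, v, hx⟩ := (mem_V0 hK).1 hx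
    obtain ⟨u', v', ha⟩ := ha
    apply mem_of_quot τ hker W2 s hs
    rw [hx, ha]
    apply lemB hK PH2
    · intro v
      exact level_quot τ hker W2 s hs (V2 hK) w2b ⟨v, rfl⟩
    · intro u v u' v'
      rw [← map_commutatorElement, A1 _ _ (by rw [hs]; exact ⟨_, _, rfl⟩) (by rw [hs]; exact ⟨_, _, rfl⟩),
        map_one]
  obtain ⟨W1, hW1n, -, w1a, w1b, w1c⟩ := step τ hsurj hker W2 (V2 hK) (V1 hK) V0 h (V2_le_V1 hK)
    (V1_le_V0 hK) w2a w2b w2c B2 (V1_norm hK)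
    (by
      rintro _ ⟨u, v, rfl⟩ hc
      rw [hh, commH1] at hc
      obtain ⟨v', hv'⟩ := hc
      have := (yB_inj hK hv').2.1
      have hu : u = 0 := (mul_eq_zero.1 this).resolve_left d2
      rw [hu]; exact ⟨v, rfl⟩)
    (by
      rintro _ ⟨u, v, rfl⟩
      refine ⟨yB hK 0 ((ch2 m μ - 1)⁻¹ * u) 0, ⟨_, _, rfl⟩, yB hK 0 0 v, ⟨_, rfl⟩, ?_⟩
      rw [hh, commH1, mul_zero, mul_inv_cancel_left₀ d2, yB_mul0, add_zero, zero_add])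
    s6
  -- level one
  have PH1 := ph_quot τ hker W1 s hs
  have C2 : ∀ x a, τ x ∈ V0 (K := K) (m := m) → τ a ∈ V0 (K := K) (m := m) → ⁅x, a⁆ ∈ W1 := by
    intro x a hx ha
    obtain ⟨t, u, v, hx⟩ := (mem_V0 hK).1 hx
    obtain ⟨t', u', v', ha⟩ := (mem_V0 hK).1 ha
    apply mem_of_quot τ hker W1 s hs
    rw [hx, ha]
    apply lemC hK PH1 hm
    intro u v
    exact level_quot τ hker W1 s hs (V1 hK) w1b ⟨u, v, rfl⟩
  obtain ⟨W0, hW0n, -, w0a, w0b, w0c⟩ := step τ hsurj hker W1 (V1 hK) V0 V0 h (V1_le_V0 hK)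
    le_rfl w1a w1b w1c C2 (V0_norm hK)
    (by
      intro a ha hc
      obtain ⟨t, u, v, rfl⟩ := (mem_V0 hK).1 ha
      obtain ⟨w, z', hc⟩ := hc
      rw [hh, commutatorElement_def, conj_of_rel (hB_yB hK μ t u v)] at hc
      have e := eq_mul_of_mul_inv_eq hc
      rw [yB_0mul] at e
      have h1 := (yB_inj hK e).1
      have ht : t = 0 := (mul_eq_zero.1 (show (ch1 m μ - 1) * t = 0 by linear_combination h1)).resolve_left d1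
      rw [ht]; exact ⟨u, v, rfl⟩)
    (by
      intro a ha
      obtain ⟨t, u, v, rfl⟩ := (mem_V0 hK).1 ha
      obtain ⟨b, c, e⟩ := left_Y hK t ((ch1 m μ - 1)⁻¹ * t)
      refine ⟨yB hK ((ch1 m μ - 1)⁻¹ * t) 0 0, (mem_V0 hK).2 ⟨_, _, _, rfl⟩, yB hK 0 (u - b) (v - c),
        ⟨_, _, rfl⟩, ?_⟩
      have e2 : ch1 m μ * ((ch1 m μ - 1)⁻¹ * t) = t + (ch1 m μ - 1)⁻¹ * t := by
        field_simp
        ring
      rw [hh, commutatorElement_def, conj_of_rel (hB_Y hK μ _), e2, e, mul_inv_cancel_right, yB_mul0]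
      congr 1 <;> ring)
    s6
  -- the quotient is abelian
  have PH0 := ph_quot τ hker W0 s hs
  have hT : ∀ ν ν' : Kˣ, ⁅s (hB hK ν), s (hB hK ν')⁆ = 1 := by
    intro ν ν'
    have hcyc : IsCyclic (hBhom hK).range :=
      isCyclic_of_surjective (hBhom hK).rangeRestrict (hBhom hK).rangeRestrict_surjective
    have m1 : s (hB hK ν) ∈ (hBhom hK).range.comap τ := by
      rw [Subgroup.mem_comap, hs]; exact ⟨ν, rfl⟩
    have m2 : s (hB hK ν') ∈ (hBhom hK).range.comap τ := by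
      rw [Subgroup.mem_comap, hs]; exact ⟨ν', rfl⟩
    have := cyclic_local τ hker (hBhom hK).range hcyc ⁅⟨_, m1⟩, ⟨_, m2⟩⁆
      (Subgroup.commutator_mem_commutator (Subgroup.mem_top _) (Subgroup.mem_top _))
    exact this
  have hall : ∀ x y : X, ⁅x, y⁆ ∈ W0 := by
    intro x y
    apply mem_of_quot τ hker W0 s hs
    obtain ⟨t, u, v, ν, hx⟩ := B_decomp hK (τ x)
    obtain ⟨t', u', v', ν', hy⟩ := B_decomp hK (τ y)
    rw [hx, hy]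
    obtain ⟨c₁, hc₁, e₁⟩ := PH0 (yB hK t u v) (hB hK ν)
    obtain ⟨c₂, hc₂, e₂⟩ := PH0 (yB hK t' u' v') (hB hK ν')
    have l1 := level_quot τ hker W0 s hs V0 w0b ((mem_V0 hK).2 ⟨t, u, v, rfl⟩)
    have l2 := level_quot τ hker W0 s hs V0 w0b ((mem_V0 hK).2 ⟨t', u', v', rfl⟩)
    simp only at e₁ e₂
    rw [e₁, e₂, comm_cl hc₁, comm_cr hc₂, ← (comm_of_center l1 _).eq, ← (comm_of_center l2 _).eq,
      comm_cl l1, comm_cr l2, ← map_commutatorElement, hT, map_one]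
  have hle : commutator X ≤ W0 := by
    rw [commutator_def, Subgroup.commutator_le]
    intro x _ y _
    exact hall x y
  exact w0c z (hle hz) hz1

end main

end Cfsg.Agent.Lib.Helper8Ree36
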