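import Cfsg.Agent.Lib.Helper8Ree36

set_option autoImplicit false
set_option linter.unusedSectionVars false
set_option linter.unusedVariables false

namespace Cfsg.Agent.Lib.Helper8Ree37

open Cfsg.Lie Cfsg.Agent.Lib.Helper22ChevBasic Cfsg.Agent.Lib.Helper8Ree2
  Cfsg.Agent.Lib.Helper8Ree5
  Cfsg.Agent.Lib.Helper8Ree6 Cfsg.Agent.Lib.Helper8Ree7 Cfsg.Agent.Lib.Helper8Ree8 Cfsg.Agent.Lib.Helper8Ree9
  Cfsg.Agent.Lib.Helper8Ree10 Cfsg.Agent.Lib.Helper8Ree11 Cfsg.Agent.Lib.Helper8Ree12 Cfsg.Agent.Lib.Helper8Ree14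
  Cfsg.Agent.Lib.Helper8Ree15 Cfsg.Agent.Lib.Helper8Ree16 Cfsg.Agent.Lib.Helper8Ree17 Cfsg.Agent.Lib.Helper8Ree18
  Cfsg.Agent.Lib.Helper8Ree19 Cfsg.Agent.Lib.Helper8Ree20 Cfsg.Agent.Lib.Helper8Ree21 Cfsg.Agent.Lib.Helper8Ree22
  Cfsg.Agent.Lib.Helper8Ree23 Cfsg.Agent.Lib.Helper8Ree24 Cfsg.Agent.Lib.Helper8Ree34 Cfsg.Agent.Lib.Helper8Ree35
  Cfsg.Agent.Lib.Helper8Ree36 Cfsg.Agent.Lib.Helper8PSL
  Cfsg.Agent.Lib.Helper8Rank1 Cfsg.Agent.Lib.Helper8Mult Cfsg.Agent.Lib.Helper8Schur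
open scoped commutatorElement

local notation "PSL2" => Matrix.ProjectiveSpecialLinearGroup (Fin 2)

variable {K : Type*} [Field K] [Fintype K] [CharP K 3]

section main

variable {m : ℕ} (hK : Fintype.card K = 3 ^ (2 * m + 1))
include hK

theorem psl_perfect (hm : 1 ≤ m) : commutator (PSL2 K) = ⊤ := by
  have hq := q_mod8 hK
  have h4 : 4 ≤ Fintype.card K := le_trans (by norm_num) (q_ge hK hm)
  have hs : IsSimpleGroup (PSL2 K) :=
    Matrix.ProjectiveSpecialLinearGroup.rank_two_simple (by rw [Nat.card_eq_fintype_card]; exact h4)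
  rcases hs.eq_bot_or_eq_top_of_normal _ (inferInstance : (commutator (PSL2 K)).Normal) with h | h
  · exfalso
    rw [commutator_eq_bot_iff_center_eq_top, center_eq_bot hq h4] at h
    exact bot_ne_top h
  · exact h

theorem invol_pair (hm : 1 ≤ m) {M : Type*} [Group M] {L : GG K m → M} (hL : PH L) {t y : GG K m}
    (ht1 : t ≠ 1) (ht2 : t * t = 1) (hy : t * y = y * t) : ⁅L t, L y⁆ = 1 := by
  obtain ⟨φ, hs, hk⟩ := exists_phi' hK hm ht1 ht2
  have hcen : ∀ c : ↥(Subgroup.centralizer {t}), ⁅L t, L c.1⁆ ∈ Subgroup.center M := by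
    intro c
    exact hL.comm_central (Subgroup.mem_centralizer_singleton_iff.1 c.2).symm hL.one_mem
  let f : ↥(Subgroup.centralizer {t}) →* M :=
    { toFun := fun c => ⁅L t, L c.1⁆
      map_one' := comm_eq_one_iff.2 (comm_of_center hL.one_mem _)
      map_mul' := fun a b => hL.cmr (hcen b) }
  have hf : commutator ↥(Subgroup.centralizer {t}) ≤ f.ker := by
    rw [commutator_def, Subgroup.commutator_le]
    intro a _ b _
    rw [MonoidHom.mem_ker, map_commutatorElement]
    exact comm_eq_one_iff.2 (comm_of_center (hcen b) _)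
  have hmap : (commutator ↥(Subgroup.centralizer {t})).map φ = ⊤ := by
    rw [commutator_def, Subgroup.map_commutator, Subgroup.map_top_of_surjective φ hs, ← commutator_def,
      psl_perfect hK hm]
  have hyC : y ∈ Subgroup.centralizer {t} := Subgroup.mem_centralizer_singleton_iff.2 hy.symm
  obtain ⟨y', hy', e⟩ : φ ⟨y, hyC⟩ ∈ (commutator ↥(Subgroup.centralizer {t})).map φ := by
    rw [hmap]; exact Subgroup.mem_top _
  have h1 : φ (y'⁻¹ * ⟨y, hyC⟩) = 1 := by rw [map_mul, map_inv, e, inv_mul_cancel]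
  have h2 : f (y'⁻¹ * ⟨y, hyC⟩) = 1 := by
    rcases (hk _).1 h1 with h | h
    · rw [h, map_one]
    · show ⁅L t, L (y'⁻¹ * ⟨y, hyC⟩ : ↥(Subgroup.centralizer {t})).1⁆ = 1
      rw [h]
      exact commutatorElement_self _
  rw [map_mul, map_inv, MonoidHom.mem_ker.1 (hf hy'), inv_one, one_mul] at h2
  exact h2

theorem local2 (hm : 1 ≤ m) {Γ : Type*} [Group Γ] (σ : Γ →* GG K m) (hsurj : Function.Surjective σ)
    (hker : σ.ker ≤ Subgroup.center Γ) (S : Sylow 2 (GG K m))
    (z : ↥((S : Subgroup (GG K m)).comap σ)) (hz : z ∈ commutator ↥((S : Subgroup (GG K m)).comap σ)) :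
    (z : Γ) = 1 := by
  obtain ⟨s, hs⟩ : ∃ s : GG K m → Γ, ∀ b, σ (s b) = b := ⟨Function.surjInv hsurj, Function.surjInv_eq hsurj⟩
  have hexp := exp_sylow_GG hK S
  have hcomm : ∀ x ∈ S, ∀ y ∈ S, x * y = y * x := by
    intro x hx y hy
    have h1 := hexp (x * y) (S.mul_mem hx hy)
    have h2 := hexp x hx
    have h3 := hexp y hy
    calc x * y = x * (x * y * (x * y)) * y := by rw [h1, mul_one]
      _ = (x * x) * (y * x) * (y * y) := by group
      _ = y * x := by rw [h2, h3, one_mul, mul_one]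
  have PH3 := ph_quot σ hker (⊥ : Subgroup Γ) s hs
  have key : ∀ x y : Γ, σ x ∈ S → σ y ∈ S → ⁅x, y⁆ = 1 := by
    intro x y hx hy
    have := mem_of_quot σ hker (⊥ : Subgroup Γ) s hs (x := x) (a := y) (by
      by_cases h1 : σ x = 1
      · rw [h1]
        exact comm_eq_one_iff.2 (comm_of_center PH3.one_mem _).symm
      · exact invol_pair hK hm PH3 h1 (hexp _ hx) (hcomm _ hx _ hy))
    exact Subgroup.mem_bot.1 this
  have hle : commutator ↥((S : Subgroup (GG K m)).comap σ) ≤ ⊥ := by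
    rw [commutator_def, Subgroup.commutator_le]
    intro x _ y _
    rw [Subgroup.mem_bot]
    apply Subtype.ext
    exact key x.1 y.1 x.2 y.2
  have := hle hz
  rw [Subgroup.mem_bot] at this
  rw [this]; rfl

theorem ker_eq_bot (hm : 1 ≤ m) {Γ : Type*} [Group Γ] [Finite Γ] (σ : Γ →* GG K m)
    (hsurj : Function.Surjective σ) (hker : σ.ker ≤ Subgroup.center Γ)
    (hker' : σ.ker ≤ commutator Γ) : σ.ker = ⊥ := by
  classical
  apply ker_eq_bot_of_local σ hsurj hker hker'
  intro p hp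
  have : Fact p.Prime := ⟨hp⟩
  by_cases hp2 : p = 2
  · subst hp2
    let P : Sylow 2 (GG K m) := default
    refine ⟨P, P.not_dvd_index, ?_⟩
    intro z hz _
    exact local2 hK hm σ hsurj hker P z hz
  by_cases hp3 : p = 3
  · subst hp3
    refine ⟨BB K m, ?_, ?_⟩
    · rw [index_BB hK]
      intro h
      have h3 : 3 ∣ (3 ^ (2 * m + 1)) ^ 3 := dvd_pow (dvd_pow_self 3 (by omega)) (by norm_num)
      have := (Nat.dvd_add_right h3).1 h
      omega
    · intro z hz hz1
      have hk : (σ.subgroupComap (BB K m)).ker ≤ Subgroup.center ↥((BB K m).comap σ) := by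
        intro a ha
        rw [Subgroup.mem_center_iff]
        intro g
        apply Subtype.ext
        have ha' : (a : Γ) ∈ σ.ker := by
          rw [MonoidHom.mem_ker] at ha ⊢
          exact congrArg Subtype.val ha
        exact Subgroup.mem_center_iff.1 (hker ha') g
      have := local3 hK hm (σ.subgroupComap (BB K m))
        (MonoidHom.subgroupComap_surjective_of_surjective σ _ hsurj) hk z hz (Subtype.ext hz1)
      rw [this]; rfl
  · have hp' : 3 < p := by
      have := hp.two_le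
      omega
    let P : Sylow p (GG K m) := default
    refine ⟨P, P.not_dvd_index, ?_⟩
    intro z hz _
    exact cyclic_local σ hker P (pgroup_cyclic hK hm hp' P P.2) z hz

end main

end Cfsg.Agent.Lib.Helper8Ree37
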