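import Cfsg.Agent.Lib.Helper8Ree1

set_option autoImplicit false

namespace Cfsg.Agent.Lib.Helper8Ree4

open Cfsg.Lie Cfsg.Agent.Lib.Helper22ChevEngine Cfsg.Agent.Lib.Helper22ChevFast Cfsg.Agent.Lib.Helper22ChevX
  Cfsg.Agent.Lib.Helper22ChevWord Cfsg.Agent.Lib.Helper22ChevTabG2 Cfsg.Agent.Lib.Helper8Ree1

variable {F : Type*} [Field F] [CharP F 3]

set_option linter.unusedSimpArgs false

def E1L : List (ℕ × Vec) := [(6, [Tm.mk 0 2 1 0]), (7, [Tm.mk 0 3 1 0]), (10, [Tm.mk 0 (3*3*3*2) 1 0, Tm.mk 0 5 1 0]), (11, [Tm.mk 0 (3*3*3*2*2) 1 0, Tm.mk 0 11 1 0]), (8, [Tm.mk 0 7 1 0]), (9, [Tm.mk 0 13 1 0])]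
def E1R : List (ℕ × Vec) := [(7, [Tm.mk 0 3 1 0]), (6, [Tm.mk 0 2 1 0]), (8, [Tm.mk 0 7 1 0, Tm.mk 0 (3*2) 1 0]), (9, [Tm.mk 0 13 1 0, Tm.mk 0 (3*3*2) 1 0]), (10, [Tm.mk 0 5 1 0]), (11, [Tm.mk 0 11 1 0])]

set_option maxRecDepth 100000 in
theorem E1_chk : chkW3 E1L E1R = true := by decide +kernel

theorem E1 (t T u M v N : F) :
    chevG2.wordMat F [(6, t), (7, T), (10, T^3*t + u), (11, T^3*t^2 + v), (8, M), (9, N)] =
      chevG2.wordMat F [(7, T), (6, t), (8, M + T*t), (9, N + T^2*t), (10, u), (11, v)] := by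
  let g : ℕ → F := fun p => if p = 2 then t else if p = 3 then T else if p = 5 then u else if p = 7 then M else if p = 11 then v else if p = 13 then N else 0
  have h2 : rho g 2 = t := by rw [rho_prime g (by norm_num)]; simp [g]
  have h3 : rho g 3 = T := by rw [rho_prime g (by norm_num)]; simp [g]
  have h5 : rho g 5 = u := by rw [rho_prime g (by norm_num)]; simp [g]
  have h7 : rho g 7 = M := by rw [rho_prime g (by norm_num)]; simp [g]
  have h11 : rho g 11 = v := by rw [rho_prime g (by norm_num)]; simp [g]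
  have h13 : rho g 13 = N := by rw [rho_prime g (by norm_num)]; simp [g]
  have h := word_eq3 (rho g) (rho_mul g) (rho_one g) E1L E1R (by decide) (by decide) E1_chk
  have e1 : (E1L.map fun a => (a.1, evalP (rho g) a.2)) = [(6, t), (7, T), (10, T^3*t + u), (11, T^3*t^2 + v), (8, M), (9, N)] := by
    simp only [E1L, List.map_cons, List.map_nil, evalP_cons, evalP_nil, Tm.val, rho_mul, rho_one, h2, h3, h5, h7, h11, h13]
    simp only [List.cons.injEq, Prod.mk.injEq, true_and, and_true]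
    constructorm* _ ∧ _ <;> (push_cast; ring)
  have e2 : (E1R.map fun a => (a.1, evalP (rho g) a.2)) = [(7, T), (6, t), (8, M + T*t), (9, N + T^2*t), (10, u), (11, v)] := by
    simp only [E1R, List.map_cons, List.map_nil, evalP_cons, evalP_nil, Tm.val, rho_mul, rho_one, h2, h3, h5, h7, h11, h13]
    simp only [List.cons.injEq, Prod.mk.injEq, true_and, and_true]
    constructorm* _ ∧ _ <;> (push_cast; ring)
  rw [e1, e2] at h
  exact h

def E2L : List (ℕ × Vec) := [(5, [Tm.mk 0 2 0 1]), (4, [Tm.mk 0 3 0 1]), (1, [Tm.mk 0 (3*3*3*2) 0 1, Tm.mk 0 5 0 1]), (0, [Tm.mk 0 (3*3*3*2*2) 0 1, Tm.mk 0 11 0 1]), (3, [Tm.mk 0 7 0 1]), (2, [Tm.mk 0 13 0 1])]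
def E2R : List (ℕ × Vec) := [(4, [Tm.mk 0 3 0 1]), (5, [Tm.mk 0 2 0 1]), (3, [Tm.mk 0 7 0 1, Tm.mk 0 (3*2) 0 1]), (2, [Tm.mk 0 13 0 1, Tm.mk 0 (3*3*2) 0 1]), (1, [Tm.mk 0 5 0 1]), (0, [Tm.mk 0 11 0 1])]

set_option maxRecDepth 100000 in
theorem E2_chk : chkW3 E2L E2R = true := by decide +kernel

theorem E2 (t T u M v N : F) :
    chevG2.wordMat F [(5, -t), (4, -T), (1, -T^3*t - u), (0, -T^3*t^2 - v), (3, -M), (2, -N)] =
      chevG2.wordMat F [(4, -T), (5, -t), (3, -M - T*t), (2, -N - T^2*t), (1, -u), (0, -v)] := by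
  let g : ℕ → F := fun p => if p = 2 then t else if p = 3 then T else if p = 5 then u else if p = 7 then M else if p = 11 then v else if p = 13 then N else 0
  have h2 : rho g 2 = t := by rw [rho_prime g (by norm_num)]; simp [g]
  have h3 : rho g 3 = T := by rw [rho_prime g (by norm_num)]; simp [g]
  have h5 : rho g 5 = u := by rw [rho_prime g (by norm_num)]; simp [g]
  have h7 : rho g 7 = M := by rw [rho_prime g (by norm_num)]; simp [g]
  have h11 : rho g 11 = v := by rw [rho_prime g (by norm_num)]; simp [g]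
  have h13 : rho g 13 = N := by rw [rho_prime g (by norm_num)]; simp [g]
  have h := word_eq3 (rho g) (rho_mul g) (rho_one g) E2L E2R (by decide) (by decide) E2_chk
  have e1 : (E2L.map fun a => (a.1, evalP (rho g) a.2)) = [(5, -t), (4, -T), (1, -T^3*t - u), (0, -T^3*t^2 - v), (3, -M), (2, -N)] := by
    simp only [E2L, List.map_cons, List.map_nil, evalP_cons, evalP_nil, Tm.val, rho_mul, rho_one, h2, h3, h5, h7, h11, h13]
    simp only [List.cons.injEq, Prod.mk.injEq, true_and, and_true]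
    constructorm* _ ∧ _ <;> (push_cast; ring)
  have e2 : (E2R.map fun a => (a.1, evalP (rho g) a.2)) = [(4, -T), (5, -t), (3, -M - T*t), (2, -N - T^2*t), (1, -u), (0, -v)] := by
    simp only [E2R, List.map_cons, List.map_nil, evalP_cons, evalP_nil, Tm.val, rho_mul, rho_one, h2, h3, h5, h7, h11, h13]
    simp only [List.cons.injEq, Prod.mk.injEq, true_and, and_true]
    constructorm* _ ∧ _ <;> (push_cast; ring)
  rw [e1, e2] at h
  exact h

def E5L : List (ℕ × Vec) := [(7, [Tm.mk 0 3 1 0]), (6, [Tm.mk 0 2 1 0]), (8, [Tm.mk 0 7 1 0, Tm.mk 0 (3*2) 1 0]), (9, [Tm.mk 0 13 1 0, Tm.mk 0 (3*3*2) 1 0]), (10, [Tm.mk 0 5 1 0]), (11, [Tm.mk 0 11 1 0]), (7, [Tm.mk 0 19 1 0]), (6, [Tm.mk 0 17 1 0]), (8, [Tm.mk 0 (19*17) 1 0, Tm.mk 0 29 1 0]), (9, [Tm.mk 0 (19*19*17) 1 0, Tm.mk 0 37 1 0]), (10, [Tm.mk 0 23 1 0]), (11, [Tm.mk 0 31 1 0])]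
def E5R : List (ℕ × Vec) := [(7, [Tm.mk 0 19 1 0, Tm.mk 0 3 1 0]), (6, [Tm.mk 0 17 1 0, Tm.mk 0 2 1 0]), (8, [Tm.mk 0 7 1 0, Tm.mk 0 (19*17) 1 0, Tm.mk 0 (19*2) 1 0, Tm.mk 0 (3*2) 1 0, Tm.mk 0 29 1 0]), (9, [Tm.mk 0 (7*19) 0 1, Tm.mk 0 13 1 0, Tm.mk 0 (19*3*2) 0 1, Tm.mk 0 (19*19*17) 1 0, Tm.mk 0 (19*19*2) 1 0, Tm.mk 0 (3*3*2) 1 0, Tm.mk 0 37 1 0]), (10, [Tm.mk 0 (19*19*19*2) 0 1, Tm.mk 0 5 1 0, Tm.mk 0 23 1 0]), (11, [Tm.mk 0 (19*19*19*17*2) 1 0, Tm.mk 0 (19*19*19*2*2) 0 1, Tm.mk 0 (17*5) 0 1, Tm.mk 0 11 1 0, Tm.mk 0 31 1 0])]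

set_option maxRecDepth 100000 in
theorem E5_chk : chkW3 E5L E5R = true := by decide +kernel

theorem E5 (t T u M v N s S w W z Z : F) :
    chevG2.wordMat F [(7, T), (6, t), (8, M + T*t), (9, N + T^2*t), (10, u), (11, v), (7, S), (6, s), (8, S*s + W), (9, S^2*s + Z), (10, w), (11, z)] =
      chevG2.wordMat F [(7, S + T), (6, s + t), (8, M + S*s + S*t + T*t + W), (9, -M*S + N - S*T*t + S^2*s + S^2*t + T^2*t + Z), (10, -S^3*t + u + w), (11, S^3*s*t - S^3*t^2 - s*u + v + z)] := by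
  let g : ℕ → F := fun p => if p = 2 then t else if p = 3 then T else if p = 5 then u else if p = 7 then M else if p = 11 then v else if p = 13 then N else if p = 17 then s else if p = 19 then S else if p = 23 then w else if p = 29 then W else if p = 31 then z else if p = 37 then Z else 0
  have h2 : rho g 2 = t := by rw [rho_prime g (by norm_num)]; simp [g]
  have h3 : rho g 3 = T := by rw [rho_prime g (by norm_num)]; simp [g]
  have h5 : rho g 5 = u := by rw [rho_prime g (by norm_num)]; simp [g]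
  have h7 : rho g 7 = M := by rw [rho_prime g (by norm_num)]; simp [g]
  have h11 : rho g 11 = v := by rw [rho_prime g (by norm_num)]; simp [g]
  have h13 : rho g 13 = N := by rw [rho_prime g (by norm_num)]; simp [g]
  have h17 : rho g 17 = s := by rw [rho_prime g (by norm_num)]; simp [g]
  have h19 : rho g 19 = S := by rw [rho_prime g (by norm_num)]; simp [g]
  have h23 : rho g 23 = w := by rw [rho_prime g (by norm_num)]; simp [g]
  have h29 : rho g 29 = W := by rw [rho_prime g (by norm_num)]; simp [g]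
  have h31 : rho g 31 = z := by rw [rho_prime g (by norm_num)]; simp [g]
  have h37 : rho g 37 = Z := by rw [rho_prime g (by norm_num)]; simp [g]
  have h := word_eq3 (rho g) (rho_mul g) (rho_one g) E5L E5R (by decide) (by decide) E5_chk
  have e1 : (E5L.map fun a => (a.1, evalP (rho g) a.2)) = [(7, T), (6, t), (8, M + T*t), (9, N + T^2*t), (10, u), (11, v), (7, S), (6, s), (8, S*s + W), (9, S^2*s + Z), (10, w), (11, z)] := by
    simp only [E5L, List.map_cons, List.map_nil, evalP_cons, evalP_nil, Tm.val, rho_mul, rho_one, h2, h3, h5, h7, h11, h13, h17, h19, h23, h29, h31, h37]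
    simp only [List.cons.injEq, Prod.mk.injEq, true_and, and_true]
    constructorm* _ ∧ _ <;> (push_cast; ring)
  have e2 : (E5R.map fun a => (a.1, evalP (rho g) a.2)) = [(7, S + T), (6, s + t), (8, M + S*s + S*t + T*t + W), (9, -M*S + N - S*T*t + S^2*s + S^2*t + T^2*t + Z), (10, -S^3*t + u + w), (11, S^3*s*t - S^3*t^2 - s*u + v + z)] := by
    simp only [E5R, List.map_cons, List.map_nil, evalP_cons, evalP_nil, Tm.val, rho_mul, rho_one, h2, h3, h5, h7, h11, h13, h17, h19, h23, h29, h31, h37]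
    simp only [List.cons.injEq, Prod.mk.injEq, true_and, and_true]
    constructorm* _ ∧ _ <;> (push_cast; ring)
  rw [e1, e2] at h
  exact h

def C8_10L : List (ℕ × Vec) := [(8, [Tm.mk 0 2 1 0]), (10, [Tm.mk 0 3 1 0])]
def C8_10R : List (ℕ × Vec) := [(10, [Tm.mk 0 3 1 0]), (8, [Tm.mk 0 2 1 0])]

set_option maxRecDepth 100000 in
theorem C8_10_chk : chkW3 C8_10L C8_10R = true := by decide +kernel

theorem C8_10 (t T : F) :
    chevG2.wordMat F [(8, t), (10, T)] =
      chevG2.wordMat F [(10, T), (8, t)] := by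
  let g : ℕ → F := fun p => if p = 2 then t else if p = 3 then T else 0
  have h2 : rho g 2 = t := by rw [rho_prime g (by norm_num)]; simp [g]
  have h3 : rho g 3 = T := by rw [rho_prime g (by norm_num)]; simp [g]
  have h := word_eq3 (rho g) (rho_mul g) (rho_one g) C8_10L C8_10R (by decide) (by decide) C8_10_chk
  have e1 : (C8_10L.map fun a => (a.1, evalP (rho g) a.2)) = [(8, t), (10, T)] := by
    simp only [C8_10L, List.map_cons, List.map_nil, evalP_cons, evalP_nil, Tm.val, rho_mul, rho_one, h2, h3]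
    simp only [List.cons.injEq, Prod.mk.injEq, true_and, and_true]
    constructorm* _ ∧ _ <;> (push_cast; ring)
  have e2 : (C8_10R.map fun a => (a.1, evalP (rho g) a.2)) = [(10, T), (8, t)] := by
    simp only [C8_10R, List.map_cons, List.map_nil, evalP_cons, evalP_nil, Tm.val, rho_mul, rho_one, h2, h3]
    simp only [List.cons.injEq, Prod.mk.injEq, true_and, and_true]
    constructorm* _ ∧ _ <;> (push_cast; ring)
  rw [e1, e2] at h
  exact h

def C8_1L : List (ℕ × Vec) := [(8, [Tm.mk 0 2 1 0]), (1, [Tm.mk 0 3 1 0])]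
def C8_1R : List (ℕ × Vec) := [(1, [Tm.mk 0 3 1 0]), (8, [Tm.mk 0 2 1 0])]

set_option maxRecDepth 100000 in
theorem C8_1_chk : chkW3 C8_1L C8_1R = true := by decide +kernel

theorem C8_1 (t T : F) :
    chevG2.wordMat F [(8, t), (1, T)] =
      chevG2.wordMat F [(1, T), (8, t)] := by
  let g : ℕ → F := fun p => if p = 2 then t else if p = 3 then T else 0
  have h2 : rho g 2 = t := by rw [rho_prime g (by norm_num)]; simp [g]
  have h3 : rho g 3 = T := by rw [rho_prime g (by norm_num)]; simp [g]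
  have h := word_eq3 (rho g) (rho_mul g) (rho_one g) C8_1L C8_1R (by decide) (by decide) C8_1_chk
  have e1 : (C8_1L.map fun a => (a.1, evalP (rho g) a.2)) = [(8, t), (1, T)] := by
    simp only [C8_1L, List.map_cons, List.map_nil, evalP_cons, evalP_nil, Tm.val, rho_mul, rho_one, h2, h3]
    simp only [List.cons.injEq, Prod.mk.injEq, true_and, and_true]
    constructorm* _ ∧ _ <;> (push_cast; ring)
  have e2 : (C8_1R.map fun a => (a.1, evalP (rho g) a.2)) = [(1, T), (8, t)] := by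
    simp only [C8_1R, List.map_cons, List.map_nil, evalP_cons, evalP_nil, Tm.val, rho_mul, rho_one, h2, h3]
    simp only [List.cons.injEq, Prod.mk.injEq, true_and, and_true]
    constructorm* _ ∧ _ <;> (push_cast; ring)
  rw [e1, e2] at h
  exact h

def C3_10L : List (ℕ × Vec) := [(3, [Tm.mk 0 2 1 0]), (10, [Tm.mk 0 3 1 0])]
def C3_10R : List (ℕ × Vec) := [(10, [Tm.mk 0 3 1 0]), (3, [Tm.mk 0 2 1 0])]

set_option maxRecDepth 100000 in
theorem C3_10_chk : chkW3 C3_10L C3_10R = true := by decide +kernel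

theorem C3_10 (t T : F) :
    chevG2.wordMat F [(3, t), (10, T)] =
      chevG2.wordMat F [(10, T), (3, t)] := by
  let g : ℕ → F := fun p => if p = 2 then t else if p = 3 then T else 0
  have h2 : rho g 2 = t := by rw [rho_prime g (by norm_num)]; simp [g]
  have h3 : rho g 3 = T := by rw [rho_prime g (by norm_num)]; simp [g]
  have h := word_eq3 (rho g) (rho_mul g) (rho_one g) C3_10L C3_10R (by decide) (by decide) C3_10_chk
  have e1 : (C3_10L.map fun a => (a.1, evalP (rho g) a.2)) = [(3, t), (10, T)] := by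
    simp only [C3_10L, List.map_cons, List.map_nil, evalP_cons, evalP_nil, Tm.val, rho_mul, rho_one, h2, h3]
    simp only [List.cons.injEq, Prod.mk.injEq, true_and, and_true]
    constructorm* _ ∧ _ <;> (push_cast; ring)
  have e2 : (C3_10R.map fun a => (a.1, evalP (rho g) a.2)) = [(10, T), (3, t)] := by
    simp only [C3_10R, List.map_cons, List.map_nil, evalP_cons, evalP_nil, Tm.val, rho_mul, rho_one, h2, h3]
    simp only [List.cons.injEq, Prod.mk.injEq, true_and, and_true]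
    constructorm* _ ∧ _ <;> (push_cast; ring)
  rw [e1, e2] at h
  exact h

def C3_1L : List (ℕ × Vec) := [(3, [Tm.mk 0 2 1 0]), (1, [Tm.mk 0 3 1 0])]
def C3_1R : List (ℕ × Vec) := [(1, [Tm.mk 0 3 1 0]), (3, [Tm.mk 0 2 1 0])]

set_option maxRecDepth 100000 in
theorem C3_1_chk : chkW3 C3_1L C3_1R = true := by decide +kernel

theorem C3_1 (t T : F) :
    chevG2.wordMat F [(3, t), (1, T)] =
      chevG2.wordMat F [(1, T), (3, t)] := by
  let g : ℕ → F := fun p => if p = 2 then t else if p = 3 then T else 0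
  have h2 : rho g 2 = t := by rw [rho_prime g (by norm_num)]; simp [g]
  have h3 : rho g 3 = T := by rw [rho_prime g (by norm_num)]; simp [g]
  have h := word_eq3 (rho g) (rho_mul g) (rho_one g) C3_1L C3_1R (by decide) (by decide) C3_1_chk
  have e1 : (C3_1L.map fun a => (a.1, evalP (rho g) a.2)) = [(3, t), (1, T)] := by
    simp only [C3_1L, List.map_cons, List.map_nil, evalP_cons, evalP_nil, Tm.val, rho_mul, rho_one, h2, h3]
    simp only [List.cons.injEq, Prod.mk.injEq, true_and, and_true]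
    constructorm* _ ∧ _ <;> (push_cast; ring)
  have e2 : (C3_1R.map fun a => (a.1, evalP (rho g) a.2)) = [(1, T), (3, t)] := by
    simp only [C3_1R, List.map_cons, List.map_nil, evalP_cons, evalP_nil, Tm.val, rho_mul, rho_one, h2, h3]
    simp only [List.cons.injEq, Prod.mk.injEq, true_and, and_true]
    constructorm* _ ∧ _ <;> (push_cast; ring)
  rw [e1, e2] at h
  exact h

def E3L : List (ℕ × Vec) := [(7, [Tm.mk 0 1 0 1]), (6, [Tm.mk 0 1 0 1]), (8, []), (9, []), (10, [Tm.mk 0 1 0 1]), (11, [Tm.mk 0 1 1 0]), (4, [Tm.mk 0 1 0 1]), (5, [Tm.mk 0 1 0 1]), (3, [Tm.mk 0 1 0 1]), (2, [Tm.mk 0 1 0 1]), (1, []), (0, []), (7, [Tm.mk 0 1 1 0]), (6, [Tm.mk 0 1 1 0]), (8, [Tm.mk 0 1 0 1]), (9, [Tm.mk 0 1 0 1]), (10, [Tm.mk 0 1 1 0]), (11, [Tm.mk 0 1 1 0]), (7, []), (6, []), (8, [Tm.mk 0 1 1 0]), (9, []), (10, [Tm.mk 0 1 1 0]), (11, []), (4, []), (5, []), (3, [Tm.mk 0 1 0 1]), (2, []), (1, [Tm.mk 0 1 0 1]), (0, []), (7, []), (6, []), (8, [Tm.mk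 0 1 1 0]), (9, []), (10, [Tm.mk 0 1 1 0]), (11, [])]
def E3R : List (ℕ × Vec) := [(7, [Tm.mk 0 1 0 1]), (4, [Tm.mk 0 1 1 0]), (7, [Tm.mk 0 1 0 1]), (7, [Tm.mk 0 1 0 1]), (4, [Tm.mk 0 1 1 0]), (7, [Tm.mk 0 1 0 1]), (6, [Tm.mk 0 1 0 1]), (5, [Tm.mk 0 1 1 0]), (6, [Tm.mk 0 1 0 1]), (6, [Tm.mk 0 1 0 1]), (5, [Tm.mk 0 1 1 0]), (6, [Tm.mk 0 1 0 1])]

set_option maxRecDepth 100000 in
theorem E3_chk : chkW3 E3L E3R = true := by decide +kernel

theorem E3 (t : F) :
    chevG2.wordMat F [(7, -1), (6, -1), (8, 0), (9, 0), (10, -1), (11, 1), (4, -1), (5, -1), (3, -1), (2, -1), (1, 0), (0, 0), (7, 1), (6, 1), (8, -1), (9, -1), (10, 1), (11, 1), (7, 0), (6, 0), (8, 1), (9, 0), (10, 1), (11, 0), (4, 0), (5, 0), (3, -1), (2, 0), (1, -1), (0, 0), (7, 0), (6, 0), (8, 1), (9, 0), (10, 1), (11, 0)] =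
      chevG2.wordMat F [(7, -1), (4, 1), (7, -1), (7, -1), (4, 1), (7, -1), (6, -1), (5, 1), (6, -1), (6, -1), (5, 1), (6, -1)] := by
  let g : ℕ → F := fun p => if p = 2 then t else 0
  have h2 : rho g 2 = t := by rw [rho_prime g (by norm_num)]; simp [g]
  have h := word_eq3 (rho g) (rho_mul g) (rho_one g) E3L E3R (by decide) (by decide) E3_chk
  have e1 : (E3L.map fun a => (a.1, evalP (rho g) a.2)) = [(7, -1), (6, -1), (8, 0), (9, 0), (10, -1), (11, 1), (4, -1), (5, -1), (3, -1), (2, -1), (1, 0), (0, 0), (7, 1), (6, 1), (8, -1), (9, -1), (10, 1), (11, 1), (7, 0), (6, 0), (8, 1), (9, 0), (10, 1), (11, 0), (4, 0), (5, 0), (3, -1), (2, 0), (1, -1), (0, 0), (7, 0), (6, 0), (8, 1), (9, 0), (10, 1), (11, 0)] := by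
    simp only [E3L, List.map_cons, List.map_nil, evalP_cons, evalP_nil, Tm.val, rho_mul, rho_one, h2]
    simp only [List.cons.injEq, Prod.mk.injEq, true_and, and_true]
    constructorm* _ ∧ _ <;> (push_cast; ring)
  have e2 : (E3R.map fun a => (a.1, evalP (rho g) a.2)) = [(7, -1), (4, 1), (7, -1), (7, -1), (4, 1), (7, -1), (6, -1), (5, 1), (6, -1), (6, -1), (5, 1), (6, -1)] := by
    simp only [E3R, List.map_cons, List.map_nil, evalP_cons, evalP_nil, Tm.val, rho_mul, rho_one, h2]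
    simp only [List.cons.injEq, Prod.mk.injEq, true_and, and_true]
    constructorm* _ ∧ _ <;> (push_cast; ring)
  rw [e1, e2] at h
  exact h

end Cfsg.Agent.Lib.Helper8Ree4
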