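import Cfsg.Agent.Lib.Helper8Ree2
import Cfsg.Agent.Lib.Helper8Ree3
import Cfsg.Agent.Lib.Helper22ChevInst
import Cfsg.Agent.S1080
import Cfsg.Agent.Lib.Helper22ChevU
import Cfsg.Agent.Lib.Helper8Ree4
import Cfsg.Prelude.Def_LieTwisted

set_option autoImplicit false
set_option linter.unusedSectionVars false

namespace Cfsg.Agent.Lib.Helper8Ree5

open Cfsg.Lie Cfsg.Agent.Lib.Helper22ChevBasic Cfsg.Agent.Lib.Helper8Ree2 Cfsg.Agent.Lib.Helper8Ree3
  Cfsg.Agent.Lib.Helper23Chev Cfsg.Agent.Lib.Helper23RG Cfsg.Agent.Lib.Helper23Table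

theorem charP_three {K : Type*} [Field K] [Fintype K] {m : ℕ} (hK : Fintype.card K = 3 ^ (2 * m + 1)) : CharP K 3 := by
  obtain ⟨p, hp⟩ := CharP.exists K
  obtain ⟨n, hpp, hn⟩ := FiniteField.card K p
  rw [hK] at hn
  have h1 : p ∣ 3 ^ (2 * m + 1) := by rw [hn]; exact dvd_pow_self _ n.ne_zero
  have h2 : p = 3 := (Nat.prime_dvd_prime_iff_eq hpp Nat.prime_three).1 (hpp.dvd_of_dvd_pow h1)
  subst h2; exact hp

variable {K : Type*} [Field K] [Fintype K] [CharP K 3]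

instance : ExpChar K 3 := ExpChar.prime Nat.prime_three

theorem hperf : ∀ x : K, ∃ y : K, y ^ 3 = x := by
  intro x
  obtain ⟨y, hy⟩ := (frobeniusEquiv K 3).surjective x
  exact ⟨y, by rw [← hy]; rfl⟩

theorem hT : TableOK chevG2 := Cfsg.Agent.Lib.Helper23All.tab hStd
omit [Fintype K] [CharP K 3] in
variable (K) in
theorem hR : Rel chevG2 K := Cfsg.Agent.Lib.Helper23All.rel hStd

variable (K) in
/-- the root group datum of `G₂(K)` -/
noncomputable abbrev SS : RG (GL chevG2.Idx K) K (Fin chevG2.nroots) (Fin chevG2.rank) := rg hT (hR K)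

omit [Fintype K] [CharP K 3] in
theorem xg_eq (r : ℕ) (t : K) : xg chevG2 K r t = xG hStd r t := Units.ext (coe_xg (hR K) r t)

variable (K) in
/-- the field automorphism `t ↦ t ^ 3 ^ m` on the group -/
noncomputable def fa (m : ℕ) : ↥(chevG2.group K) ≃* ↥(chevG2.group K) :=
  Classical.choose (Cfsg.Agent.S1080.result chevG2 hStd (iterateFrobeniusEquiv K 3 m))

theorem fa_xE (m r : ℕ) (hr : r < 12) (t : K) : fa K m (xE r t) = xE r (t ^ 3 ^ m) := by
  have := Classical.choose_spec (Cfsg.Agent.S1080.result chevG2 hStd (iterateFrobeniusEquiv K 3 m)) (xE r t) r t hr rfl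
  exact Subtype.ext (Units.ext this)

variable (K) in
/-- the twisting automorphism -/
noncomputable def sgE (m : ℕ) : ↥(chevG2.group K) ≃* ↥(chevG2.group K) := (grE hperf).trans (fa K m)

def eN (r : ℕ) : ℕ := Bool.rec 0 1 (isIN r)

theorem sgE_xE (m r : ℕ) (hr : r < 12) (t : K) : sgE K m (xE r t) = xE (barN r) (t ^ 3 ^ (m + eN r)) := by
  show fa K m (grE hperf (xE r t)) = _
  rw [grE_xE hperf r hr, fa_xE m _ (barN_lt r hr)]
  congr 1
  unfold lamN eN
  cases isIN r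
  · simp
  · simp only [← pow_mul]
    congr 1
    rw [pow_succ]; ring

open Classical in
variable (K) in
/-- the twisting map on the general linear group (trivial outside the Chevalley group) -/
noncomputable def sg (m : ℕ) (g : GL chevG2.Idx K) : GL chevG2.Idx K :=
  if h : g ∈ chevG2.group K then (sgE K m ⟨g, h⟩ : GL chevG2.Idx K) else 1

theorem sg_of_mem (m : ℕ) {g : GL chevG2.Idx K} (h : g ∈ chevG2.group K) :
    sg K m g = (sgE K m ⟨g, h⟩ : GL chevG2.Idx K) := dif_pos h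

theorem sg_xG (m r : ℕ) (hr : r < 12) (t : K) : sg K m (xG hStd r t) = xG hStd (barN r) (t ^ 3 ^ (m + eN r)) := by
  rw [sg_of_mem m (xG_mem_group hStd r t)]
  have := sgE_xE m r hr t
  exact congrArg Subtype.val this

def barF (r : Fin chevG2.nroots) : Fin chevG2.nroots := ⟨barN r.val, barN_lt _ r.isLt⟩

variable (K) in
noncomputable def phi (m : ℕ) (r : Fin chevG2.nroots) : K →+* K := iterateFrobenius K 3 (m + eN r.val)

theorem tw (m : ℕ) : Tw (SS K) (sg K m) barF (phi K m) where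
  mem := by
    intro g hg
    rw [G_eq] at hg ⊢
    rw [sg_of_mem m hg]
    exact (sgE K m ⟨g, hg⟩).2
  mul := by
    intro g hg h hh
    rw [G_eq] at hg hh
    rw [sg_of_mem m hg, sg_of_mem m hh, sg_of_mem m (mul_mem hg hh)]
    have : (⟨g * h, mul_mem hg hh⟩ : ↥(chevG2.group K)) = ⟨g, hg⟩ * ⟨h, hh⟩ := rfl
    rw [this, map_mul]; rfl
  x := by
    intro r t
    show sg K m (xg chevG2 K r t) = xg chevG2 K (barF r) _
    rw [xg_eq, xg_eq, sg_xG m r r.isLt]
    rfl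
  pos := by
    intro r
    show chevG2.nroots / 2 ≤ (barF r).val ↔ chevG2.nroots / 2 ≤ r.val
    revert r; decide
  neg := by
    intro r
    apply Fin.ext
    show barN (chevG2.neg r.val) = chevG2.neg (barN r.val)
    revert r; decide
  φneg := by
    intro r
    have : eN (chevG2.neg r.val) = eN r.val := by revert r; decide
    show iterateFrobenius K 3 (m + eN (chevG2.neg r.val)) = _
    rw [this]; rfl
  simple := by
    intro i j
    have : ∀ i j : Fin chevG2.rank, chevG2.simple j.val = chevG2.simple i.val ∨ chevG2.simple j.val = barN (chevG2.simple i.val) := by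
      decide
    rcases this i j with h | h
    · left; exact Fin.ext h
    · right; exact Fin.ext h


/-! ### words -/

section words

variable (m : ℕ)

theorem sg_one : sg K m 1 = 1 := (tw m).one

theorem mem_G {g : GL chevG2.Idx K} : g ∈ (SS K).G ↔ g ∈ chevG2.group K := by rw [G_eq]

theorem sg_mul {g h : GL chevG2.Idx K} (hg : g ∈ chevG2.group K) (hh : h ∈ chevG2.group K) :
    sg K m (g * h) = sg K m g * sg K m h := (tw m).mul g (mem_G.2 hg) h (mem_G.2 hh)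

theorem sg_inv {g : GL chevG2.Idx K} (hg : g ∈ chevG2.group K) : sg K m g⁻¹ = (sg K m g)⁻¹ :=
  (tw m).inv (mem_G.2 hg)

theorem sg_mem {g : GL chevG2.Idx K} (hg : g ∈ chevG2.group K) : sg K m g ∈ chevG2.group K :=
  mem_G.1 ((tw m).mem g (mem_G.2 hg))

theorem sg_wordG (w : List (ℕ × K)) (hw : ∀ p ∈ w, p.1 < 12) :
    sg K m (wordG hStd w) = wordG hStd (w.map fun p => (barN p.1, p.2 ^ 3 ^ (m + eN p.1))) := by
  induction w with
  | nil => exact sg_one m
  | cons p w ih =>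
    rw [wordG_cons, sg_mul m (xG_mem_group hStd _ _) (wordG_mem_group hStd _), sg_xG m _ (hw p (by simp)),
      ih (fun q hq => hw q (by simp [hq]))]
    rfl

/-- the fixed points of the twisting map -/
def Fix : Subgroup (GL chevG2.Idx K) where
  carrier := {g | g ∈ chevG2.group K ∧ sg K m g = g}
  mul_mem' := by
    rintro a b ⟨a1, a2⟩ ⟨b1, b2⟩
    exact ⟨mul_mem a1 b1, by rw [sg_mul m a1 b1, a2, b2]⟩
  one_mem' := ⟨one_mem _, sg_one m⟩
  inv_mem' := by
    rintro a ⟨a1, a2⟩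
    exact ⟨inv_mem a1, by rw [sg_inv m a1, a2]⟩

theorem mem_Fix {g : GL chevG2.Idx K} : g ∈ Fix (K := K) m ↔ g ∈ chevG2.group K ∧ sg K m g = g := Iff.rfl

end words

/-! ### field arithmetic -/

section arith

variable {m : ℕ} (hK : Fintype.card K = 3 ^ (2 * m + 1))
include hK

theorem pow_q (x : K) : x ^ 3 ^ (2 * m + 1) = x := by
  rw [← hK]; exact FiniteField.pow_card x

theorem th_th (x : K) : (x ^ 3 ^ m) ^ 3 ^ (m + 1) = x := by
  rw [← pow_mul, ← pow_add]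
  have : m + (m + 1) = 2 * m + 1 := by ring
  rw [this, pow_q hK]

theorem th_th' (x : K) : (x ^ 3 ^ (m + 1)) ^ 3 ^ m = x := by
  rw [← pow_mul, ← pow_add]
  have : m + 1 + m = 2 * m + 1 := by ring
  rw [this, pow_q hK]

end arith

omit [Fintype K] in
theorem add_pow3 (k : ℕ) (x y : K) : (x + y) ^ 3 ^ k = x ^ 3 ^ k + y ^ 3 ^ k := add_pow_expChar_pow x y 3 k

/-- the elements of `U¹` -/
noncomputable def wU (m : ℕ) (t u v : K) : GL chevG2.Idx K := wordG hStd (reeWordU (3 ^ m) t u v)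
/-- the elements of `V¹` -/
noncomputable def wV (m : ℕ) (t u v : K) : GL chevG2.Idx K := wordG hStd (reeWordV (3 ^ m) t u v)

omit [Fintype K] [CharP K 3] in
theorem reeWordU_eq (m : ℕ) (t u v : K) : reeWordU (3 ^ m) t u v =
    [(7, t ^ 3 ^ m), (6, t), (8, u ^ 3 ^ m + t ^ 3 ^ m * t), (9, v ^ 3 ^ m + (t ^ 3 ^ m) ^ 2 * t), (10, u), (11, v)] := by
  simp only [reeWordU, g2a, g2b, g2ab, g2aab, g2aaab, g2aaabb, List.cons.injEq, Prod.mk.injEq, true_and, and_true]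
  refine ⟨?_, ?_⟩ <;> ring

omit [Fintype K] [CharP K 3] in
theorem reeWordV_eq (m : ℕ) (t u v : K) : reeWordV (3 ^ m) t u v =
    [(4, -t ^ 3 ^ m), (5, -t), (3, -u ^ 3 ^ m - t ^ 3 ^ m * t), (2, -v ^ 3 ^ m - (t ^ 3 ^ m) ^ 2 * t), (1, -u), (0, -v)] := by
  have e7 : chevG2.negIdx.getD 7 0 = 4 := by decide
  have e6 : chevG2.negIdx.getD 6 0 = 5 := by decide
  have e8 : chevG2.negIdx.getD 8 0 = 3 := by decide
  have e9 : chevG2.negIdx.getD 9 0 = 2 := by decide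
  have e10 : chevG2.negIdx.getD 10 0 = 1 := by decide
  have e11 : chevG2.negIdx.getD 11 0 = 0 := by decide
  simp only [reeWordV, ChevalleyDatum.negWord, reeWordU_eq, List.map_cons, List.map_nil, e7, e6, e8, e9, e10, e11,
    List.cons.injEq, Prod.mk.injEq, true_and, and_true]
  constructorm* _ ∧ _ <;> ring

section fixed

variable {m : ℕ} (hK : Fintype.card K = 3 ^ (2 * m + 1))
include hK

theorem sg_wU (t u v : K) : sg K m (wU m t u v) = wU m t u v := by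
  unfold wU
  rw [reeWordU_eq, sg_wordG m _ (by simp)]
  apply Units.ext
  rw [Helper22ChevBasic.coe_wordG, Helper22ChevBasic.coe_wordG]
  have h := Cfsg.Agent.Lib.Helper8Ree4.E1 t (t ^ 3 ^ m) u (u ^ 3 ^ m) v (v ^ 3 ^ m)
  rw [← h]
  congr 1
  have b7 : barN 7 = 6 := rfl
  have b6 : barN 6 = 7 := rfl
  have b8 : barN 8 = 10 := rfl
  have b9 : barN 9 = 11 := rfl
  have b10 : barN 10 = 8 := rfl
  have b11 : barN 11 = 9 := rfl
  have e7 : eN 7 = 1 := rfl
  have e6 : eN 6 = 0 := rfl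
  have e8 : eN 8 = 1 := rfl
  have e9 : eN 9 = 1 := rfl
  have e10 : eN 10 = 0 := rfl
  have e11 : eN 11 = 0 := rfl
  simp only [List.map_cons, List.map_nil, b7, b6, b8, b9, b10, b11, e7, e6, e8, e9, e10, e11, add_zero, add_pow3, mul_pow,
    th_th hK, List.cons.injEq, Prod.mk.injEq, true_and, and_true]
  have h3 : ∀ x : K, x ^ 3 ^ (m + 1) = (x ^ 3 ^ m) ^ 3 := by
    intro x; rw [← pow_mul, pow_succ]
  have h4 : ∀ x : K, ((x ^ 3 ^ m) ^ 2) ^ 3 ^ (m + 1) = x ^ 2 := by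
    intro x; rw [← pow_mul, mul_comm, pow_mul, th_th hK]
  refine ⟨?_, ?_⟩
  · rw [h3 t]; ring
  · rw [h4, h3 t]; ring

theorem sg_wV (t u v : K) : sg K m (wV m t u v) = wV m t u v := by
  unfold wV
  rw [reeWordV_eq, sg_wordG m _ (by simp)]
  apply Units.ext
  rw [Helper22ChevBasic.coe_wordG, Helper22ChevBasic.coe_wordG]
  have h := Cfsg.Agent.Lib.Helper8Ree4.E2 t (t ^ 3 ^ m) u (u ^ 3 ^ m) v (v ^ 3 ^ m)
  rw [← h]
  congr 1
  have b7 : barN 4 = 5 := rfl
  have b6 : barN 5 = 4 := rfl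
  have b8 : barN 3 = 1 := rfl
  have b9 : barN 2 = 0 := rfl
  have b10 : barN 1 = 3 := rfl
  have b11 : barN 0 = 2 := rfl
  have e7 : eN 4 = 1 := rfl
  have e6 : eN 5 = 0 := rfl
  have e8 : eN 3 = 1 := rfl
  have e9 : eN 2 = 1 := rfl
  have e10 : eN 1 = 0 := rfl
  have e11 : eN 0 = 0 := rfl
  have hodd : ∀ k, Odd (3 ^ k) := fun k => Odd.pow (by decide)
  simp only [List.map_cons, List.map_nil, b7, b6, b8, b9, b10, b11, e7, e6, e8, e9, e10, e11, add_zero, sub_eq_add_neg,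
    add_pow3, mul_pow, (hodd _).neg_pow, th_th hK, List.cons.injEq, Prod.mk.injEq, true_and, and_true]
  have h3 : ∀ x : K, x ^ 3 ^ (m + 1) = (x ^ 3 ^ m) ^ 3 := by
    intro x; rw [← pow_mul, pow_succ]
  have h4 : ∀ x : K, ((x ^ 3 ^ m) ^ 2) ^ 3 ^ (m + 1) = x ^ 2 := by
    intro x; rw [← pow_mul, mul_comm, pow_mul, th_th hK]
  refine ⟨?_, ?_⟩
  · rw [h3 t]; ring
  · rw [h4, h3 t]; ring

end fixed


/-! ### the fixed points in `U` -/

section UFix

open Cfsg.Agent.Lib.Helper22ChevU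

theorem three_eq_zero : (3 : K) = 0 := by exact_mod_cast CharP.cast_eq_zero K 3

omit [Fintype K] [CharP K 3] in
theorem Uk_le_group (k : ℕ) : Uk (F := K) hStd k ≤ chevG2.group K := by
  unfold Uk
  rw [Subgroup.closure_le]
  rintro _ ⟨r, t, _, rfl⟩
  exact xG_mem_group hStd r t

omit [Fintype K] [CharP K 3] in
theorem Uk_unique {k : ℕ} (hk : 6 ≤ k) (hkn : k < 12) {a a' : K} {u u' : GL chevG2.Idx K}
    (hu : u ∈ Uk (F := K) hStd (k + 1)) (hu' : u' ∈ Uk (F := K) hStd (k + 1))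
    (h : xG hStd k a * u = xG hStd k a' * u') : a = a' ∧ u = u' := by
  have h1 : xG hStd k (a - a') = u' * u⁻¹ := by
    have : xG hStd k (a - a') = (xG hStd k a')⁻¹ * (xG hStd k a * u) * u⁻¹ := by
      rw [xG_inv, sub_eq_add_neg, add_comm, ← xG_add]; group
    rw [this, h]; group
  have h2 : a - a' = 0 := eq_zero_of_mem_Uk hStd (k := k) hk hkn (by rw [h1]; exact mul_mem hu' (inv_mem hu))
  have h3 : a = a' := sub_eq_zero.1 h2
  subst h3
  exact ⟨rfl, mul_left_cancel h⟩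

theorem sg_Uk8 (m : ℕ) : ∀ g ∈ Uk (F := K) hStd 8, sg K m g ∈ Uk (F := K) hStd 8 := by
  apply (tw m).closure
  · rintro _ ⟨r, t, _, rfl⟩
    exact mem_G.2 (xG_mem_group hStd r t)
  · rintro _ ⟨r, t, hr, rfl⟩
    by_cases h : r < 12
    · rw [sg_xG m r h]
      refine xG_mem_Uk hStd ?_ _
      have : ∀ r, r < 12 → 8 ≤ r → 8 ≤ barN r := by decide
      exact this r h hr
    · rw [xG_eq_one hStd h, sg_one]
      exact one_mem _

theorem comm76 (α β : K) : ∃ c ∈ Uk (F := K) hStd 8, xG hStd 7 α * xG hStd 6 β = xG hStd 6 β * xG hStd 7 α * c := by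
  have h := Cfsg.Agent.Lib.Helper8Ree4.E1 β α 0 0 0 0
  have h' : wordG hStd [(6, β), (7, α), (10, α^3*β + 0), (11, α^3*β^2 + 0), (8, 0), (9, 0)] =
      wordG hStd [(7, α), (6, β), (8, 0 + α*β), (9, 0 + α^2*β), (10, 0), (11, (0 : K))] :=
    Units.ext (by rw [Helper22ChevBasic.coe_wordG, Helper22ChevBasic.coe_wordG]; exact h)
  rw [wordG_cons, wordG_cons, wordG_cons (w := [(6, β), (8, 0 + α*β), (9, 0 + α^2*β), (10, 0), (11, (0 : K))]),
    wordG_cons (w := [(8, 0 + α*β), (9, 0 + α^2*β), (10, 0), (11, (0 : K))])] at h'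
  have c1 : wordG hStd [(10, α^3*β + 0), (11, α^3*β^2 + 0), (8, 0), (9, (0 : K))] ∈ Uk (F := K) hStd 8 :=
    wordG_mem_Uk hStd _ (by simp)
  have c2 : wordG hStd [(8, 0 + α*β), (9, 0 + α^2*β), (10, 0), (11, (0 : K))] ∈ Uk (F := K) hStd 8 :=
    wordG_mem_Uk hStd _ (by simp)
  refine ⟨_, mul_mem c1 (inv_mem c2), ?_⟩
  simp only at h'
  calc xG hStd 7 α * xG hStd 6 β = (xG hStd 7 α * (xG hStd 6 β * wordG hStd [(8, 0 + α*β), (9, 0 + α^2*β), (10, 0), (11, (0 : K))])) *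
        (wordG hStd [(8, 0 + α*β), (9, 0 + α^2*β), (10, 0), (11, (0 : K))])⁻¹ := by group
    _ = _ := by rw [← h']; group

variable {m : ℕ} (hK : Fintype.card K = 3 ^ (2 * m + 1))
include hK

theorem th3 (x : K) : ((x ^ 3 ^ m) ^ 3) ^ 3 ^ m = x := by
  rw [← pow_mul, ← pow_mul]
  have : 3 ^ m * (3 * 3 ^ m) = 3 ^ (2 * m + 1) := by ring
  rw [this, pow_q hK]

theorem wU_mul (t u v s w z : K) : wU m t u v * wU m s w z =
    wU m (t + s) (u + w - t * (s ^ 3 ^ m) ^ 3)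
      (v + z - s * u + (s ^ 3 ^ m) ^ 3 * s * t - (s ^ 3 ^ m) ^ 3 * t ^ 2) := by
  unfold wU
  rw [← wordG_append]
  apply Units.ext
  rw [Helper22ChevBasic.coe_wordG, Helper22ChevBasic.coe_wordG, reeWordU_eq, reeWordU_eq, reeWordU_eq]
  have h := Cfsg.Agent.Lib.Helper8Ree4.E5 t (t ^ 3 ^ m) u (u ^ 3 ^ m) v (v ^ 3 ^ m) s (s ^ 3 ^ m) w (w ^ 3 ^ m) z (z ^ 3 ^ m)
  have hodd : Odd (3 ^ m) := Odd.pow (by decide)
  have h3 := three_eq_zero (K := K)
  convert h using 2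
  · simp only [List.cons_append, List.nil_append, List.cons.injEq, Prod.mk.injEq, true_and, and_true]
    constructorm* _ ∧ _ <;> ring
  · simp only [sub_eq_add_neg, add_pow3, mul_pow, hodd.neg_pow, th3 hK, List.cons.injEq, Prod.mk.injEq, true_and, and_true]
    have h4 : ∀ x : K, (x ^ 2) ^ 3 ^ m = (x ^ 3 ^ m) ^ 2 := fun x => by rw [← pow_mul, ← pow_mul, mul_comm]
    simp only [h4]
    refine ⟨by ring, by ring, by ring, ?_, by ring, by ring⟩
    linear_combination (s ^ 3 ^ m * t ^ 3 ^ m * s + s ^ 3 ^ m * t ^ 3 ^ m * t) * h3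

omit hK in
theorem wU_zero : wU m (0 : K) 0 0 = 1 := by
  unfold wU
  rw [reeWordU_eq]
  have : (0 : K) ^ 3 ^ m = 0 := zero_pow (by positivity)
  simp [this, wordG_cons]

theorem mem_U_fix {g : GL chevG2.Idx K} (hg : g ∈ chevG2.posUnipotent K) (hfix : sg K m g = g) :
    ∃ t u v, g = wU m t u v := by
  rw [posUnipotent_eq_Uk hStd] at hg
  obtain ⟨t, g₁, hg₁, rfl⟩ := mem_Uk_split hStd (k := 6) (by decide) hg
  obtain ⟨s, g₂, hg₂, rfl⟩ := mem_Uk_split hStd (k := 7) (by decide) hg₁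
  have hG2 := Uk_le_group 8 hg₂
  have e1 : sg K m (xG hStd 6 t * (xG hStd 7 s * g₂)) =
      xG hStd 7 (t ^ 3 ^ m) * (xG hStd 6 (s ^ 3 ^ (m + 1)) * sg K m g₂) := by
    rw [sg_mul m (xG_mem_group hStd _ _) (mul_mem (xG_mem_group hStd _ _) hG2), sg_mul m (xG_mem_group hStd _ _) hG2,
      sg_xG m 6 (by decide), sg_xG m 7 (by decide)]
    rfl
  obtain ⟨c, hc, hcomm⟩ := comm76 (t ^ 3 ^ m) (s ^ 3 ^ (m + 1))
  have e2 : xG hStd 6 t * (xG hStd 7 s * g₂) =
      xG hStd 6 (s ^ 3 ^ (m + 1)) * (xG hStd 7 (t ^ 3 ^ m) * (c * sg K m g₂)) := by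
    rw [← hfix, e1, ← mul_assoc, hcomm]; group
  have hc2 : c * sg K m g₂ ∈ Uk (F := K) hStd 8 := mul_mem hc (sg_Uk8 m g₂ hg₂)
  obtain ⟨ht, e3⟩ := Uk_unique (k := 6) le_rfl (by decide) hg₁
    (mul_mem (xG_mem_Uk hStd le_rfl _) (Subgroup.closure_mono (by
      rintro _ ⟨r, t, hr, rfl⟩; exact ⟨r, t, by omega, rfl⟩) hc2)) e2
  obtain ⟨hs, -⟩ := Uk_unique (k := 7) (by decide) (by decide) hg₂ hc2 e3
  -- compare with `wU t 0 0`
  have hw : ∃ c₃ ∈ Uk (F := K) hStd 8, wU m t 0 0 = xG hStd 6 t * xG hStd 7 s * c₃ := by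
    obtain ⟨c', hc', hcomm'⟩ := comm76 s t
    refine ⟨c' * wordG hStd [(8, (0 : K) ^ 3 ^ m + t ^ 3 ^ m * t), (9, (0 : K) ^ 3 ^ m + (t ^ 3 ^ m) ^ 2 * t), (10, 0), (11, 0)],
      mul_mem hc' (wordG_mem_Uk hStd _ (by simp)), ?_⟩
    unfold wU
    rw [reeWordU_eq, wordG_cons, wordG_cons, ← hs, ← mul_assoc, ← mul_assoc]
    simp only
    rw [hcomm']
  obtain ⟨c₃, hc₃, hw⟩ := hw
  set z := (wU m t 0 0)⁻¹ * (xG hStd 6 t * (xG hStd 7 s * g₂)) with hz
  have hzU : z ∈ Uk (F := K) hStd 8 := by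
    have : z = c₃⁻¹ * g₂ := by rw [hz, hw]; group
    rw [this]; exact mul_mem (inv_mem hc₃) hg₂
  have hwG : wU m t (0 : K) 0 ∈ chevG2.group K := wordG_mem_group hStd _
  have hzfix : sg K m z = z := by
    rw [hz, sg_mul m (inv_mem hwG) (mul_mem (xG_mem_group hStd _ _) (mul_mem (xG_mem_group hStd _ _) hG2)), sg_inv m hwG,
      sg_wU hK, hfix]
  obtain ⟨f, hf⟩ := exists_ow hStd 4 8 rfl (by decide) z hzU
  have hf' : z = wordG hStd [(8, f 8), (9, f 9), (10, f 10), (11, f 11)] := by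
    rw [hf]; rfl
  have e4 : sg K m z = wordG hStd [(8, f 10 ^ 3 ^ m), (9, f 11 ^ 3 ^ m), (10, f 8 ^ 3 ^ (m + 1)), (11, f 9 ^ 3 ^ (m + 1))] := by
    rw [hf', sg_wordG m _ (by simp)]
    have h := Cfsg.Agent.Lib.Helper8Ree4.E1 (0 : K) 0 (f 8 ^ 3 ^ (m + 1)) (f 10 ^ 3 ^ m) (f 9 ^ 3 ^ (m + 1)) (f 11 ^ 3 ^ m)
    have h' := (Units.ext (by rw [Helper22ChevBasic.coe_wordG, Helper22ChevBasic.coe_wordG]; exact h) :
      wordG hStd [(6, (0 : K)), (7, 0), (10, 0^3*0 + f 8 ^ 3 ^ (m + 1)), (11, 0^3*0^2 + f 9 ^ 3 ^ (m + 1)), (8, f 10 ^ 3 ^ m), (9, f 11 ^ 3 ^ m)] =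
      wordG hStd [(7, (0 : K)), (6, 0), (8, f 10 ^ 3 ^ m + 0*0), (9, f 11 ^ 3 ^ m + 0^2*0), (10, f 8 ^ 3 ^ (m + 1)), (11, f 9 ^ 3 ^ (m + 1))])
    simp only [wordG_cons, xG_zero, one_mul, wordG_nil, mul_one] at h' ⊢
    simp only [List.map_cons, List.map_nil, wordG_cons, wordG_nil, mul_one]
    have b8 : barN 8 = 10 := rfl
    have b9 : barN 9 = 11 := rfl
    have b10 : barN 10 = 8 := rfl
    have b11 : barN 11 = 9 := rfl
    have e8 : eN 8 = 1 := rfl
    have e9 : eN 9 = 1 := rfl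
    have e10 : eN 10 = 0 := rfl
    have e11 : eN 11 = 0 := rfl
    simp only [b8, b9, b10, b11, e8, e9, e10, e11, add_zero]
    simpa using h'
  rw [hzfix, hf'] at e4
  let f' : ℕ → K := fun r => if r = 8 then f 10 ^ 3 ^ m else if r = 9 then f 11 ^ 3 ^ m else
    if r = 10 then f 8 ^ 3 ^ (m + 1) else f 9 ^ 3 ^ (m + 1)
  have e5 : wordG hStd (ow f 8 4) = wordG hStd (ow f' 8 4) := by
    have : ow f' 8 4 = [(8, f 10 ^ 3 ^ m), (9, f 11 ^ 3 ^ m), (10, f 8 ^ 3 ^ (m + 1)), (11, f 9 ^ 3 ^ (m + 1))] := rfl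
    rw [this, ← e4]; rfl
  have hu := ow_unique hStd 4 8 rfl (by decide) f f' e5
  have h8 : f 8 = f 10 ^ 3 ^ m := hu 8 le_rfl (by decide)
  have h9 : f 9 = f 11 ^ 3 ^ m := hu 9 (by decide) (by decide)
  have hzw : z = wU m 0 (f 10) (f 11) := by
    rw [hf']
    unfold wU
    rw [reeWordU_eq]
    have : (0 : K) ^ 3 ^ m = 0 := zero_pow (by positivity)
    simp [this, wordG_cons, h8, h9]
  refine ⟨t, f 10, f 11, ?_⟩
  have : xG hStd 6 t * (xG hStd 7 s * g₂) = wU m t 0 0 * z := by rw [hz]; group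
  rw [this, hzw, wU_mul hK]
  have h0 : (0 : K) ^ 3 ^ m = 0 := zero_pow (by positivity)
  congr 1 <;> simp [h0]

end UFix


/-! ### the fixed points in `H` -/

section HFix

open Cfsg.Agent.Lib.Helper23Diag

def i0 : Fin chevG2.rank := ⟨0, by decide⟩
def i1 : Fin chevG2.rank := ⟨1, by decide⟩
def rt (k : ℕ) (h : k < 12 := by decide) : Fin chevG2.nroots := ⟨k, h⟩

theorem ok : (SS K).Ok := rg_ok hT (hR K)

omit [Fintype K] [CharP K 3] in
theorem X_eq (c : Fin chevG2.rank → Kˣ) (s : Fin chevG2.nroots) :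
    X c s = c i0 ^ chevG2.cartan 0 s * c i1 ^ chevG2.cartan 1 s := by
  rw [X_apply]
  exact Fin.prod_univ_two (fun i : Fin 2 => c i ^ chevG2.cartan i s)

omit [Fintype K] [CharP K 3] in
theorem X_9 (c : Fin chevG2.rank → Kˣ) : X c (rt 9) = c i0 := by
  rw [X_eq]
  have h1 : chevG2.cartan 0 (rt 9) = 1 := by decide
  have h2 : chevG2.cartan 1 (rt 9) = 0 := by decide
  rw [h1, h2]; simp

omit [Fintype K] [CharP K 3] in
theorem X_11 (c : Fin chevG2.rank → Kˣ) : X c (rt 11) = c i1 := by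
  rw [X_eq]
  have h1 : chevG2.cartan 0 (rt 11) = 0 := by decide
  have h2 : chevG2.cartan 1 (rt 11) = 1 := by decide
  rw [h1, h2]; simp

omit [Fintype K] [CharP K 3] in
theorem X_inj : Function.Injective (X : (Fin chevG2.rank → Kˣ) →* (Fin chevG2.nroots → Kˣ)) := by
  intro c d h
  have h9 := congrFun h (rt 9)
  have h11 := congrFun h (rt 11)
  rw [X_9, X_9] at h9
  rw [X_11, X_11] at h11
  funext i
  have : ∀ i : Fin chevG2.rank, i = i0 ∨ i = i1 := by decide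
  rcases this i with rfl | rfl
  · exact h9
  · exact h11

omit [Fintype K] [CharP K 3] in
theorem dX_eq (c : Fin chevG2.rank → Kˣ) : (δ (X c) : GL chevG2.Idx K) =
    (SS K).hE ((SS K).simple i0) (c i0 : K) * (SS K).hE ((SS K).simple i1) (c i1 : K) := by
  rw [hE_eq, hE_eq, ← map_mul, ← map_mul]
  congr 2
  funext i
  have : ∀ i : Fin chevG2.rank, i = i0 ∨ i = i1 := by decide
  have h01 : i0 ≠ i1 := by decide
  rcases this i with rfl | rfl
  · simp [Pi.mulSingle_eq_of_ne h01]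
  · simp [Pi.mulSingle_eq_of_ne h01.symm]

/-- the twisted parameters -/
def tc (m : ℕ) (c : Fin chevG2.rank → Kˣ) : Fin chevG2.rank → Kˣ :=
  fun i => if i = i0 then c i1 ^ 3 ^ m else c i0 ^ 3 ^ (m + 1)

theorem sg_dX (m : ℕ) (c : Fin chevG2.rank → Kˣ) : sg K m (δ (X c)) = δ (X (tc m c)) := by
  rw [dX_eq, dX_eq]
  have hG : ∀ r t, (SS K).hE r t ∈ chevG2.group K := by
    intro r t
    rw [← G_eq hT (hR K)]
    exact mul_mem (RG.nE_mem_G ok _ _) (RG.nE_mem_G ok _ _)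
  rw [sg_mul m (hG _ _) (hG _ _), (tw m).hE ok, (tw m).hE ok]
  have b0 : barF ((SS K).simple i0) = (SS K).simple i1 := by
    apply Fin.ext
    show barN (chevG2.simple 0) = chevG2.simple 1
    decide
  have b1 : barF ((SS K).simple i1) = (SS K).simple i0 := by
    apply Fin.ext
    show barN (chevG2.simple 1) = chevG2.simple 0
    decide
  have p0 : ∀ t : K, phi K m ((SS K).simple i0) t = t ^ 3 ^ (m + 1) := fun t => rfl
  have p1 : ∀ t : K, phi K m ((SS K).simple i1) t = t ^ 3 ^ m := fun t => rfl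
  rw [b0, b1, p0, p1]
  have c0 : ((tc m c i0 : Kˣ) : K) = (c i1 : K) ^ 3 ^ m := by simp [tc]
  have c1 : ((tc m c i1 : Kˣ) : K) = (c i0 : K) ^ 3 ^ (m + 1) := by
    have : i1 ≠ i0 := by decide
    simp [tc, this]
  rw [c0, c1]
  -- the two factors commute
  have e0 := hE_eq hT (hR K) i0 (c i1 ^ 3 ^ m)
  have e1 := hE_eq hT (hR K) i1 (c i0 ^ 3 ^ (m + 1))
  simp only [Units.val_pow_eq_pow_val] at e0 e1
  rw [e0, e1, ← map_mul, ← map_mul, ← map_mul, ← map_mul, mul_comm]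

/-- the parameters of the fixed torus -/
def cc (m : ℕ) : Kˣ →* (Fin chevG2.rank → Kˣ) where
  toFun μ := fun i => if i = i0 then μ ^ 3 ^ m else μ
  map_one' := by funext i; simp
  map_mul' a b := by
    funext i
    by_cases h : i = i0 <;> simp [h, mul_pow]

/-- the fixed torus -/
def hh (m : ℕ) : Kˣ →* GL chevG2.Idx K := (δ.comp X).comp (cc m)

omit [Fintype K] [CharP K 3] in
theorem hh_inj (m : ℕ) : Function.Injective (hh (K := K) m) := by
  intro a b h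
  have h1 := X_inj (δ_injective h)
  have := congrFun h1 i1
  have hne : i1 ≠ i0 := by decide
  simpa [cc, hne] using this

theorem hC : CartanRefl chevG2 := Cfsg.Agent.Lib.Helper23All.cartanRefl hStd

omit [Fintype K] [CharP K 3] in
theorem hh_mem_H (m : ℕ) (μ : Kˣ) : hh m μ ∈ (SS K).H := by
  rw [H_eq_range hT (hR K) hC]
  exact ⟨cc m μ, rfl⟩

variable {m : ℕ} (hK : Fintype.card K = 3 ^ (2 * m + 1))
include hK

theorem sg_hh (μ : Kˣ) : sg K m (hh m μ) = hh m μ := by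
  show sg K m (δ (X (cc m μ))) = δ (X (cc m μ))
  rw [sg_dX]
  congr 2
  funext i
  have hne : i1 ≠ i0 := by decide
  by_cases h : i = i0
  · simp [tc, cc, h, hne]
  · simp only [tc, cc, h, if_false, MonoidHom.coe_mk, OneHom.coe_mk, if_true]
    apply Units.ext
    simp only [Units.val_pow_eq_pow_val]
    exact th_th hK _

theorem mem_H_fix {h : GL chevG2.Idx K} (hh' : h ∈ (SS K).H) (hfix : sg K m h = h) : ∃ μ, h = hh m μ := by
  rw [H_eq_range hT (hR K) hC] at hh'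
  obtain ⟨c, rfl⟩ := hh'
  have h1 : tc m c = c := X_inj (δ_injective ((sg_dX m c).symm.trans hfix))
  refine ⟨c i1, ?_⟩
  show δ (X c) = δ (X (cc m (c i1)))
  congr 2
  funext i
  have : ∀ i : Fin chevG2.rank, i = i0 ∨ i = i1 := by decide
  have hne : i1 ≠ i0 := by decide
  rcases this i with rfl | rfl
  · have := congrFun h1 i0
    simp only [tc, if_true] at this
    simp [cc, this]
  · simp [cc, hne]

end HFix

end Cfsg.Agent.Lib.Helper8Ree5
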