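import Cfsg.Agent.Lib.Helper8Ree5

set_option autoImplicit false
set_option linter.unusedSectionVars false

namespace Cfsg.Agent.Lib.Helper8Ree6

open Cfsg.Lie Cfsg.Agent.Lib.Helper22ChevBasic Cfsg.Agent.Lib.Helper8Ree2 Cfsg.Agent.Lib.Helper8Ree3
  Cfsg.Agent.Lib.Helper23Chev Cfsg.Agent.Lib.Helper23RG Cfsg.Agent.Lib.Helper23Table Cfsg.Agent.Lib.Helper8Ree5

variable {K : Type*} [Field K] [Fintype K] [CharP K 3]

/-! ### the twisted group -/

section G1

open Cfsg.Agent.Lib.Helper23Diag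

omit [Fintype K] [CharP K 3] in
theorem wU_mem (m : ℕ) (t u v : K) : wU m t u v ∈ twistedG2 K (3 ^ m) :=
  Subgroup.subset_closure ⟨_, ⟨t, u, v, Or.inl rfl⟩, Helper22ChevBasic.coe_wordG hStd _⟩

omit [Fintype K] [CharP K 3] in
theorem wV_mem (m : ℕ) (t u v : K) : wV m t u v ∈ twistedG2 K (3 ^ m) :=
  Subgroup.subset_closure ⟨_, ⟨t, u, v, Or.inr rfl⟩, Helper22ChevBasic.coe_wordG hStd _⟩

omit [Fintype K] [CharP K 3] in
theorem wU_0u0 (m : ℕ) (u : K) : wU m 0 u 0 = xG hStd 8 (u ^ 3 ^ m) * xG hStd 10 u := by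
  unfold wU
  rw [reeWordU_eq]
  have : (0 : K) ^ 3 ^ m = 0 := zero_pow (by positivity)
  simp [this, wordG_cons]

omit [Fintype K] [CharP K 3] in
theorem wV_0u0 (m : ℕ) (u : K) : wV m 0 u 0 = xG hStd 3 (-u ^ 3 ^ m) * xG hStd 1 (-u) := by
  unfold wV
  rw [reeWordV_eq]
  have : (0 : K) ^ 3 ^ m = 0 := zero_pow (by positivity)
  simp [this, wordG_cons]

omit [Fintype K] in
theorem comm_of {r s : ℕ} (h : ∀ a b : K, chevG2.wordMat K [(r, a), (s, b)] = chevG2.wordMat K [(s, b), (r, a)]) (a b : K) :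
    Commute (xG hStd r a) (xG hStd s b) := by
  have := h a b
  have h' : wordG hStd [(r, a), (s, b)] = wordG hStd [(s, b), (r, a)] :=
    Units.ext (by rw [Helper22ChevBasic.coe_wordG, Helper22ChevBasic.coe_wordG]; exact this)
  show _ * _ = _ * _
  simpa [wordG_cons] using h'

omit [Fintype K] in
theorem c8_10 (a b : K) : Commute (xG hStd 8 a) (xG hStd 10 b) := comm_of Cfsg.Agent.Lib.Helper8Ree4.C8_10 a b
omit [Fintype K] in
theorem c8_1 (a b : K) : Commute (xG hStd 8 a) (xG hStd 1 b) := comm_of Cfsg.Agent.Lib.Helper8Ree4.C8_1 a b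
omit [Fintype K] in
theorem c3_10 (a b : K) : Commute (xG hStd 3 a) (xG hStd 10 b) := comm_of Cfsg.Agent.Lib.Helper8Ree4.C3_10 a b
omit [Fintype K] in
theorem c3_1 (a b : K) : Commute (xG hStd 3 a) (xG hStd 1 b) := comm_of Cfsg.Agent.Lib.Helper8Ree4.C3_1 a b

omit [Fintype K] [CharP K 3] in
theorem nE8 (a : K) : (SS K).nE (rt 8) a = xG hStd 8 a * xG hStd 3 (-a⁻¹) * xG hStd 8 a := by
  unfold RG.nE
  show xg chevG2 K 8 a * xg chevG2 K (chevG2.neg 8) (-a⁻¹) * xg chevG2 K 8 a = _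
  rw [xg_eq, xg_eq]; rfl

omit [Fintype K] [CharP K 3] in
theorem nE10 (a : K) : (SS K).nE (rt 10) a = xG hStd 10 a * xG hStd 1 (-a⁻¹) * xG hStd 10 a := by
  unfold RG.nE
  show xg chevG2 K 10 a * xg chevG2 K (chevG2.neg 10) (-a⁻¹) * xg chevG2 K 10 a = _
  rw [xg_eq, xg_eq]; rfl

theorem six {G : Type*} [Group G] (A B C D : G) (h1 : Commute B C) (h2 : Commute D A) (h3 : Commute B A) :
    (A * B) * (C * D) * (A * B) = (A * C * A) * (B * D * B) := by
  calc (A * B) * (C * D) * (A * B) = A * (B * C) * (D * A) * B := by group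
    _ = A * (C * B) * (A * D) * B := by rw [h1.eq, h2.eq]
    _ = A * C * (B * A) * D * B := by group
    _ = A * C * (A * B) * D * B := by rw [h3.eq]
    _ = _ := by group

/-- the monomial elements of the twisted group -/
noncomputable def nU (m : ℕ) (u : K) : GL chevG2.Idx K := wU m 0 u 0 * wV m 0 u⁻¹ 0 * wU m 0 u 0

omit [Fintype K] [CharP K 3] in
theorem nU_mem (m : ℕ) (u : K) : nU m u ∈ twistedG2 K (3 ^ m) :=
  mul_mem (mul_mem (wU_mem _ _ _ _) (wV_mem _ _ _ _)) (wU_mem _ _ _ _)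

omit [Fintype K] in
theorem nU_eq (m : ℕ) (u : K) : nU m u = (SS K).nE (rt 8) (u ^ 3 ^ m) * (SS K).nE (rt 10) u := by
  unfold nU
  rw [wU_0u0, wV_0u0, nE8, nE10, inv_pow]
  exact six _ _ _ _ (c3_10 _ _).symm (c8_1 _ _).symm (c8_10 _ _).symm

omit [Fintype K] in
theorem comm_nE (a b : K) : Commute ((SS K).nE (rt 10) a) ((SS K).nE (rt 8) b) := by
  rw [nE8, nE10]
  have h1 : ∀ x y : K, Commute (xG hStd 10 x) (xG hStd 8 y) := fun x y => (c8_10 y x).symm
  have h2 : ∀ x y : K, Commute (xG hStd 10 x) (xG hStd 3 y) := fun x y => (c3_10 y x).symm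
  have h3 : ∀ x y : K, Commute (xG hStd 1 x) (xG hStd 8 y) := fun x y => (c8_1 y x).symm
  have h4 : ∀ x y : K, Commute (xG hStd 1 x) (xG hStd 3 y) := fun x y => (c3_1 y x).symm
  exact (((h1 _ _).mul_right (h2 _ _)).mul_right (h1 _ _)).mul_left (((h3 _ _).mul_right (h4 _ _)).mul_right (h3 _ _))
    |>.mul_left (((h1 _ _).mul_right (h2 _ _)).mul_right (h1 _ _))

omit [Fintype K] in
theorem nU_mul (m : ℕ) (u : K) : nU m u * nU m (-1) = (SS K).hE (rt 8) (u ^ 3 ^ m) * (SS K).hE (rt 10) u := by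
  rw [nU_eq, nU_eq]
  have hodd : Odd (3 ^ m) := Odd.pow (by decide)
  rw [hodd.neg_one_pow]
  unfold RG.hE
  have := (comm_nE u (-1 : K)).eq
  calc _ = (SS K).nE (rt 8) (u ^ 3 ^ m) * ((SS K).nE (rt 10) u * (SS K).nE (rt 8) (-1)) * (SS K).nE (rt 10) (-1) := by group
    _ = _ := by rw [this]; group

theorem hE8 (a : Kˣ) : (SS K).hE (rt 8) (a : K) = δ (fun s => X (Pi.mulSingle i0 a) ((SS K).refl i1 s)) := by
  have h := RG.nn_conj_hE ok (Cfsg.Agent.Lib.Helper23Main.hE_mul_simple hT (hR K)) i1 ((SS K).simple i0) a.ne_zero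
  have e : (SS K).refl i1 ((SS K).simple i0) = rt 8 := by
    apply Fin.ext
    show chevG2.reflectRoot 1 (chevG2.simple 0) = 8
    decide
  rw [e] at h
  rw [← h, hE_eq, nn_conj_δ]

theorem hE10 (a : Kˣ) : (SS K).hE (rt 10) (a : K) = δ (fun s => X (Pi.mulSingle i1 a) ((SS K).refl i0 s)) := by
  have h := RG.nn_conj_hE ok (Cfsg.Agent.Lib.Helper23Main.hE_mul_simple hT (hR K)) i0 ((SS K).simple i1) a.ne_zero
  have e : (SS K).refl i0 ((SS K).simple i1) = rt 10 := by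
    apply Fin.ext
    show chevG2.reflectRoot 0 (chevG2.simple 1) = 10
    decide
  rw [e] at h
  rw [← h, hE_eq, nn_conj_δ]

variable {m : ℕ} (hK : Fintype.card K = 3 ^ (2 * m + 1))
include hK

theorem G1_le_Fix : twistedG2 K (3 ^ m) ≤ Fix (K := K) m := by
  unfold twistedG2 ChevalleyDatum.genSubgroup
  rw [Subgroup.closure_le]
  rintro g ⟨w, ⟨t, u, v, rfl | rfl⟩, hg⟩
  · have : g = wU m t u v := Units.ext (by rw [hg]; exact (Helper22ChevBasic.coe_wordG hStd _).symm)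
    rw [this]
    exact ⟨wordG_mem_group hStd _, sg_wU hK t u v⟩
  · have : g = wV m t u v := Units.ext (by rw [hg]; exact (Helper22ChevBasic.coe_wordG hStd _).symm)
    rw [this]
    exact ⟨wordG_mem_group hStd _, sg_wV hK t u v⟩

theorem hh_pow_mem (u : Kˣ) : hh m ((u ^ 3 ^ m) ^ 3 * u) ∈ twistedG2 K (3 ^ m) := by
  have h1 : nU m (u : K) * nU m (-1) ∈ twistedG2 K (3 ^ m) := mul_mem (nU_mem _ _) (nU_mem _ _)
  have h2 := (G1_le_Fix hK h1).2
  have h3 : nU m (u : K) * nU m (-1) ∈ (SS K).H := by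
    rw [nU_mul]
    exact mul_mem (RG.hE_mem_H _ (pow_ne_zero _ u.ne_zero)) (RG.hE_mem_H _ u.ne_zero)
  obtain ⟨μ, hμ⟩ := mem_H_fix hK h3 h2
  have h4 := nU_mul m (u : K)
  have e8 := hE8 (K := K) (u ^ 3 ^ m)
  rw [Units.val_pow_eq_pow_val] at e8
  rw [e8, hE10, ← map_mul, hμ] at h4
  have h5 := congrFun (δ_injective h4) (rt 11)
  have h6 : X (cc m μ) (rt 11) = μ := by
    rw [X_11]
    have hne : i1 ≠ i0 := by decide
    simp [cc, hne]
  have h7 : (hh m μ : GL chevG2.Idx K) = δ (X (cc m μ)) := rfl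
  rw [Pi.mul_apply, X_mulSingle, X_mulSingle] at h5
  have r1 : chevG2.cartan i0 ((SS K).refl i1 (rt 11)) = 3 := by
    show chevG2.cartan 0 (chevG2.reflectRoot 1 11) = 3
    decide
  have r2 : chevG2.cartan i1 ((SS K).refl i0 (rt 11)) = 1 := by
    show chevG2.cartan 1 (chevG2.reflectRoot 0 11) = 1
    decide
  rw [r1, r2] at h5
  have h8 : μ = (u ^ 3 ^ m) ^ 3 * u := by
    rw [← h6]
    rw [show (X (cc m μ) : Fin chevG2.nroots → Kˣ) (rt 11) = _ from h5]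
    simp
  rw [← h8, ← hμ]
  exact h1

end G1

end Cfsg.Agent.Lib.Helper8Ree6
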