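import Cfsg.Agent.Lib.Helper8Ree6
import Cfsg.Agent.Lib.Helper23Simp2

set_option autoImplicit false
set_option linter.unusedSectionVars false

namespace Cfsg.Agent.Lib.Helper8Ree7

open Cfsg.Lie Cfsg.Agent.Lib.Helper22ChevBasic Cfsg.Agent.Lib.Helper8Ree2 Cfsg.Agent.Lib.Helper8Ree3
  Cfsg.Agent.Lib.Helper23Chev Cfsg.Agent.Lib.Helper23RG Cfsg.Agent.Lib.Helper23Table Cfsg.Agent.Lib.Helper8Ree5
  Cfsg.Agent.Lib.Helper8Ree6 Cfsg.Agent.Lib.Helper23Diag

variable {K : Type*} [Field K] [Fintype K] [CharP K 3]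

theorem hE_word (r : ℕ) (hr : r < 12) : (SS K).hE (rt r hr) (-1) =
    wordG hStd [(r, (-1 : K)), (chevG2.neg r, 1), (r, -1), (r, -1), (chevG2.neg r, 1), (r, -1)] := by
  unfold RG.hE RG.nE
  show xg chevG2 K r (-1) * xg chevG2 K (chevG2.neg r) (- (-1 : K)⁻¹) * xg chevG2 K r (-1) *
    (xg chevG2 K r (-1) * xg chevG2 K (chevG2.neg r) (- (-1 : K)⁻¹) * xg chevG2 K r (-1)) = _
  have : (- (-1 : K)⁻¹) = 1 := by norm_num
  rw [this]
  simp only [xg_eq, wordG_cons, wordG_nil, mul_one, mul_assoc]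

theorem hh_neg_one (m : ℕ) : hh m (-1 : Kˣ) =
    wU m (-1) (-1) 1 * wV m 1 0 0 * wU m 1 1 1 * wU m 0 1 0 * wV m 0 1 0 * wU m 0 1 0 := by
  have hodd : Odd (3 ^ m) := Odd.pow (by decide)
  have h3 := three_eq_zero (K := K)
  have e1 : (hh m (-1 : Kˣ) : GL chevG2.Idx K) = (SS K).hE (rt 7) (-1) * (SS K).hE (rt 6) (-1) := by
    show δ (X (cc m (-1))) = _
    rw [dX_eq]
    have a0 : ((cc m (-1 : Kˣ) i0 : Kˣ) : K) = -1 := by simp [cc, hodd.neg_one_pow]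
    have a1 : ((cc m (-1 : Kˣ) i1 : Kˣ) : K) = -1 := by
      have hne : i1 ≠ i0 := by decide
      simp [cc, hne]
    rw [a0, a1]
    rfl
  rw [e1, hE_word, hE_word, ← wordG_append]
  unfold wU wV
  rw [← wordG_append, ← wordG_append, ← wordG_append, ← wordG_append, ← wordG_append]
  apply Units.ext
  rw [Helper22ChevBasic.coe_wordG, Helper22ChevBasic.coe_wordG]
  have h := Cfsg.Agent.Lib.Helper8Ree4.E3 (0 : K)
  have n7 : chevG2.neg 7 = 4 := by decide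
  have n6 : chevG2.neg 6 = 5 := by decide
  rw [n7, n6]
  refine Eq.trans ?_ (h.symm.trans ?_)
  · rfl
  · congr 1
    simp only [reeWordU_eq, reeWordV_eq, hodd.neg_one_pow, one_pow, zero_pow (show 3 ^ m ≠ 0 by positivity),
      List.cons_append, List.nil_append, List.cons.injEq, Prod.mk.injEq, true_and, and_true]
    constructorm* _ ∧ _ <;> first | ring1 | linear_combination h3 | linear_combination -h3

section main

variable {m : ℕ} (hK : Fintype.card K = 3 ^ (2 * m + 1))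
include hK

theorem hh_neg_one_mem : hh m (-1 : Kˣ) ∈ twistedG2 K (3 ^ m) := by
  rw [hh_neg_one]
  exact mul_mem (mul_mem (mul_mem (mul_mem (mul_mem (wU_mem _ _ _ _) (wV_mem _ _ _ _)) (wU_mem _ _ _ _)) (wU_mem _ _ _ _))
    (wV_mem _ _ _ _)) (wU_mem _ _ _ _)

theorem units_pow_card (μ : Kˣ) : μ ^ (3 ^ (2 * m + 1) - 1) = 1 := by
  rw [← hK]
  apply Units.ext
  rw [Units.val_pow_eq_pow_val]
  exact FiniteField.pow_card_sub_one_eq_one _ μ.ne_zero

theorem hh_sq_mem (μ : Kˣ) : hh m (μ ^ 2) ∈ twistedG2 K (3 ^ m) := by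
  have h := hh_pow_mem hK (μ ^ (3 * 3 ^ m - 1))
  have e : ((μ ^ (3 * 3 ^ m - 1)) ^ 3 ^ m) ^ 3 * μ ^ (3 * 3 ^ m - 1) = μ ^ 2 := by
    rw [← pow_mul, ← pow_mul, ← pow_add]
    obtain ⟨a, ha⟩ : ∃ a, 3 ^ m = a + 1 := ⟨3 ^ m - 1, by have : 0 < 3 ^ m := by positivity
                                                          omega⟩
    have e1 : (3 * 3 ^ m - 1) * (3 ^ m * 3) + (3 * 3 ^ m - 1) = 3 * (3 ^ (2 * m + 1) - 1) + 2 := by
      have e2 : 3 ^ (2 * m + 1) = 3 * (a + 1) * (a + 1) := by rw [← ha]; ring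
      rw [e2, ha]
      have e3 : 3 * (a + 1) - 1 = 3 * a + 2 := by omega
      have e4 : 3 * (a + 1) * (a + 1) - 1 = 3 * a * a + 6 * a + 2 := by
        have : 3 * (a + 1) * (a + 1) = 3 * a * a + 6 * a + 2 + 1 := by ring
        omega
      rw [e3, e4]; ring
    rw [e1, pow_add, pow_mul', units_pow_card hK, one_pow, one_mul]
  rwa [e] at h

theorem hh_mem (μ : Kˣ) : hh m μ ∈ twistedG2 K (3 ^ m) := by
  obtain ⟨k, hk⟩ : ∃ k, 3 ^ (2 * m + 1) - 1 = 2 * (2 * k + 1) := by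
    have h1 : 3 ^ (2 * m + 1) % 4 = 3 := by
      rw [pow_succ, pow_mul]
      simp [Nat.mul_mod, Nat.pow_mod]
    exact ⟨(3 ^ (2 * m + 1) - 3) / 4, by omega⟩
  have h1 : (μ ^ (2 * k + 1)) ^ 2 = 1 := by
    rw [← pow_mul, mul_comm, ← hk, units_pow_card hK]
  have h2 : μ ^ (2 * k + 1) = 1 ∨ μ ^ (2 * k + 1) = -1 := by
    have : ((μ ^ (2 * k + 1) : Kˣ) : K) ^ 2 = 1 := by
      rw [← Units.val_pow_eq_pow_val, h1]; rfl
    rcases sq_eq_one_iff.1 this with h | h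
    · left; exact Units.ext h
    · right; exact Units.ext h
  have h3 : μ = μ ^ (2 * k + 1) * ((μ⁻¹) ^ k) ^ 2 := by
    rw [← pow_mul, inv_pow, pow_succ, mul_comm k 2]
    group
  rw [h3, map_mul]
  refine mul_mem ?_ (hh_sq_mem hK _)
  rcases h2 with h | h
  · rw [h, map_one]; exact one_mem _
  · rw [h]; exact hh_neg_one_mem hK

end main

end Cfsg.Agent.Lib.Helper8Ree7
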