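import Cfsg.Agent.Lib.Helper8Ree7

set_option autoImplicit false
set_option linter.unusedSectionVars false

namespace Cfsg.Agent.Lib.Helper8Ree8

open Cfsg.Lie Cfsg.Agent.Lib.Helper22ChevBasic Cfsg.Agent.Lib.Helper8Ree2 Cfsg.Agent.Lib.Helper8Ree3
  Cfsg.Agent.Lib.Helper23Chev Cfsg.Agent.Lib.Helper23RG Cfsg.Agent.Lib.Helper23Table Cfsg.Agent.Lib.Helper8Ree5
  Cfsg.Agent.Lib.Helper8Ree6 Cfsg.Agent.Lib.Helper8Ree7 Cfsg.Agent.Lib.Helper23Diag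

variable {K : Type*} [Field K] [Fintype K] [CharP K 3]

theorem hBV' : ∀ g ∈ (SS K).B, g ∈ (SS K).V → g = 1 := hBV hT (hR K)
theorem hUN' : ∀ g ∈ (SS K).U, g ∈ (SS K).N → g = 1 := hUN hT (hR K)

theorem setup : ∃ (rf : Fin chevG2.nroots → Fin chevG2.nroots → Fin chevG2.nroots)
    (pr : Fin chevG2.nroots → Fin chevG2.nroots → ℤ) (_ : (RG.ws (ok (K := K)) rf pr).Ok)
    (π₀ : Equiv.Perm (Fin chevG2.nroots)),
    π₀ ∈ (RG.ws (ok (K := K)) rf pr).WJ Set.univ ∧ ∀ r, (SS K).pos r → ¬ (SS K).pos (π₀ r) := by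
  obtain ⟨rf, pr, hW⟩ := Cfsg.Agent.Lib.Helper22ChevInst.exists_hW hStd hT (hR K)
  obtain ⟨n0, hn0, π0, hM0, hneg⟩ := Cfsg.Agent.Lib.Helper23All.hasN0 hStd hT (hR K)
  obtain ⟨π', hπ', hM'⟩ := RG.Mon_N' ok (rf := rf) (pr := pr) n0 hn0
  obtain rfl := RG.Mon_unique ok hBV' hM0 hM'
  exact ⟨rf, pr, hW, π0, hπ', hneg⟩

/-- the Weyl element of the twisted group -/
noncomputable def n1 (m : ℕ) : GL chevG2.Idx K := nU m 1

theorem n1_mem (m : ℕ) : n1 (K := K) m ∈ twistedG2 K (3 ^ m) := nU_mem _ _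

theorem n1_mem_N (m : ℕ) : n1 (K := K) m ∈ (SS K).N := by
  unfold n1
  rw [nU_eq, one_pow]
  exact mul_mem (Subgroup.mem_sup_right (Subgroup.subset_closure ⟨_, rfl⟩))
    (Subgroup.mem_sup_right (Subgroup.subset_closure ⟨_, rfl⟩))

theorem wU_mem_U (m : ℕ) (t u v : K) : wU m t u v ∈ (SS K).U := by
  rw [U_eq, Cfsg.Agent.Lib.Helper22ChevU.posUnipotent_eq_Uk hStd]
  unfold wU
  rw [reeWordU_eq]
  exact Cfsg.Agent.Lib.Helper22ChevU.wordG_mem_Uk hStd _ (by simp; decide)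

theorem xG_mem_V {r : ℕ} (hr : r < 6) (t : K) : xG hStd r t ∈ (SS K).V := by
  rw [← xg_eq]
  exact RG.x_mem_V (S := SS K) (r := ⟨r, by show r < 12; omega⟩) (by
    show ¬ (chevG2.nroots / 2 ≤ r)
    show ¬ (6 ≤ r)
    omega) t

theorem wV_mem_V (m : ℕ) (t u v : K) : wV m t u v ∈ (SS K).V := by
  unfold wV
  rw [reeWordV_eq]
  simp only [wordG_cons, wordG_nil, mul_one]
  exact mul_mem (xG_mem_V (by decide) _) (mul_mem (xG_mem_V (by decide) _) (mul_mem (xG_mem_V (by decide) _)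
    (mul_mem (xG_mem_V (by decide) _) (mul_mem (xG_mem_V (by decide) _) (xG_mem_V (by decide) _)))))

theorem n1_not_mem_B (m : ℕ) : n1 (K := K) m ∉ (SS K).B := by
  intro h
  have h1 : wV m (0 : K) 1 0 ∈ (SS K).B := by
    have : wV m (0 : K) 1 0 = (wU m 0 1 0)⁻¹ * n1 m * (wU m 0 1 0)⁻¹ := by
      unfold n1 nU
      rw [inv_one]; group
    rw [this]
    exact mul_mem (mul_mem (inv_mem (RG.U_le_B (wU_mem_U _ _ _ _))) h) (inv_mem (RG.U_le_B (wU_mem_U _ _ _ _)))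
  have h2 := hBV' _ h1 (wV_mem_V _ _ _ _)
  rw [wV_0u0, one_pow] at h2
  have h3 : xG hStd 3 (-1 : K) = xG hStd 1 1 := by
    have := eq_inv_of_mul_eq_one_left h2
    rw [this, xG_inv, neg_neg]
  rw [← xg_eq, ← xg_eq] at h3
  have := RG.x_root_inj ok hBV' (rt 3) (rt 1) (-1 : K) 1 (by norm_num) h3
  exact absurd this (by decide)

section main

variable {m : ℕ} (hK : Fintype.card K = 3 ^ (2 * m + 1))
include hK

theorem sg_n1 : sg K m (n1 m) = n1 m := (G1_le_Fix hK (n1_mem m)).2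

theorem Mon_n1 {rf : Fin chevG2.nroots → Fin chevG2.nroots → Fin chevG2.nroots}
    {pr : Fin chevG2.nroots → Fin chevG2.nroots → ℤ} (hW : (RG.ws (ok (K := K)) rf pr).Ok)
    {π₀ : Equiv.Perm (Fin chevG2.nroots)}
    (hπ₀ : π₀ ∈ (RG.ws (ok (K := K)) rf pr).WJ Set.univ) (h₀ : ∀ r, (SS K).pos r → ¬ (SS K).pos (π₀ r)) :
    (SS K).Mon (n1 m) π₀ := by
  obtain ⟨π, hπ, hM⟩ := RG.Mon_N' ok (rf := rf) (pr := pr) _ (n1_mem_N (K := K) m)
  have hM' : (SS K).Mon (sg K m (n1 m)) π := by rw [sg_n1 hK]; exact hM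
  have hc := (tw m).mon ok hBV' (n1_mem_N m) hM hM'
  rcases (tw m).perm_cases ok hBV' hUN' hW hπ₀ h₀ hπ hc with h | h
  · subst h
    exact absurd (RG.H_le_B (RG.mem_H_of_Mon_one ok hBV' hUN' (n1_mem_N m) hM)) (n1_not_mem_B m)
  · subst h; exact hM

/-- the structure of the fixed points -/
theorem fix_cases {g : GL chevG2.Idx K} (hg : g ∈ Fix (K := K) m) :
    (∃ t u v μ, g = wU m t u v * hh m μ) ∨ (∃ t u v μ t' u' v', g = wU m t u v * hh m μ * n1 m * wU m t' u' v') := by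
  obtain ⟨rf, pr, hW, π₀, hπ₀, h₀⟩ := setup (K := K)
  rcases (tw m).fix_cases ok hBV' hUN' hW hπ₀ h₀ (mem_G.2 hg.1) hg.2 with
    ⟨a, ha, h, hh', fa, fh, rfl⟩ | ⟨a, ha, n, hn, u, hu, hM, fa, fn, fu, rfl⟩
  · left
    rw [U_eq] at ha
    obtain ⟨t, u, v, rfl⟩ := mem_U_fix hK ha fa
    obtain ⟨μ, rfl⟩ := mem_H_fix hK hh' fh
    exact ⟨t, u, v, μ, rfl⟩
  · right
    rw [U_eq] at ha hu
    obtain ⟨t, u', v, rfl⟩ := mem_U_fix hK ha fa
    obtain ⟨t', u'', v', rfl⟩ := mem_U_fix hK hu fu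
    have hM1 := Mon_n1 hK hW hπ₀ h₀
    have h1 : (SS K).Mon (n * (n1 m)⁻¹) 1 := by
      have := hM.mul hM1.inv
      rwa [mul_inv_cancel] at this
    have h2 : n * (n1 m)⁻¹ ∈ (SS K).H :=
      RG.mem_H_of_Mon_one ok hBV' hUN' (mul_mem hn (inv_mem (n1_mem_N m))) h1
    have hnG : n ∈ chevG2.group K := mem_G.1 (RG.N_le_G ok hn)
    have hn1G : n1 (K := K) m ∈ chevG2.group K := mem_G.1 (RG.N_le_G ok (n1_mem_N m))
    have h3 : sg K m (n * (n1 m)⁻¹) = n * (n1 m)⁻¹ := by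
      rw [sg_mul m hnG (inv_mem hn1G), sg_inv m hn1G, fn, sg_n1 hK]
    obtain ⟨μ, hμ⟩ := mem_H_fix hK h2 h3
    refine ⟨t, u', v, μ, t', u'', v', ?_⟩
    rw [← hμ]; group

theorem G1_eq_Fix : twistedG2 K (3 ^ m) = Fix (K := K) m := by
  apply le_antisymm (G1_le_Fix hK)
  intro g hg
  rcases fix_cases hK hg with ⟨t, u, v, μ, rfl⟩ | ⟨t, u, v, μ, t', u', v', rfl⟩
  · exact mul_mem (wU_mem _ _ _ _) (hh_mem hK _)
  · exact mul_mem (mul_mem (mul_mem (wU_mem _ _ _ _) (hh_mem hK _)) (n1_mem m)) (wU_mem _ _ _ _)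

end main

end Cfsg.Agent.Lib.Helper8Ree8
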