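import Cfsg.Agent.Lib.Helper8Ree8

set_option autoImplicit false
set_option linter.unusedSectionVars false

namespace Cfsg.Agent.Lib.Helper8Ree9

open Cfsg.Lie Cfsg.Agent.Lib.Helper22ChevBasic Cfsg.Agent.Lib.Helper8Ree2 Cfsg.Agent.Lib.Helper8Ree3
  Cfsg.Agent.Lib.Helper23Chev Cfsg.Agent.Lib.Helper23RG Cfsg.Agent.Lib.Helper23Table Cfsg.Agent.Lib.Helper8Ree5
  Cfsg.Agent.Lib.Helper8Ree6 Cfsg.Agent.Lib.Helper8Ree7 Cfsg.Agent.Lib.Helper8Ree8 Cfsg.Agent.Lib.Helper23Diag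
  Cfsg.Agent.Lib.Helper22ChevU

variable {K : Type*} [Field K] [Fintype K] [CharP K 3]

theorem wU_eq_one {m : ℕ} {t u v : K} (h : wU m t u v = 1) : t = 0 ∧ u = 0 ∧ v = 0 := by
  have h1 : wU m t u v = xG hStd 7 (t ^ 3 ^ m) * xG hStd 6 t *
      wordG hStd [(8, u ^ 3 ^ m + t ^ 3 ^ m * t), (9, v ^ 3 ^ m + (t ^ 3 ^ m) ^ 2 * t), (10, u), (11, v)] := by
    unfold wU
    rw [reeWordU_eq, wordG_cons, wordG_cons, mul_assoc]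
  obtain ⟨c, hc, hcomm⟩ := comm76 (t ^ 3 ^ m) t
  have hw : wordG hStd [(8, u ^ 3 ^ m + t ^ 3 ^ m * t), (9, v ^ 3 ^ m + (t ^ 3 ^ m) ^ 2 * t), (10, u), (11, v)] ∈
      Uk (F := K) hStd 8 := wordG_mem_Uk hStd _ (by simp)
  have h87 : Uk (F := K) hStd 8 ≤ Uk (F := K) hStd 7 := Subgroup.closure_mono (by
      rintro _ ⟨r, t, hr, rfl⟩; exact ⟨r, t, by omega, rfl⟩)
  have h2 : xG hStd 6 t * (xG hStd 7 (t ^ 3 ^ m) * (c *
      wordG hStd [(8, u ^ 3 ^ m + t ^ 3 ^ m * t), (9, v ^ 3 ^ m + (t ^ 3 ^ m) ^ 2 * t), (10, u), (11, v)])) =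
      xG hStd 6 0 * 1 := by
    rw [xG_zero, one_mul, ← h, h1, hcomm]; group
  obtain ⟨ht, -⟩ := Uk_unique (k := 6) le_rfl (by decide)
    (mul_mem (xG_mem_Uk hStd le_rfl _) (h87 (mul_mem hc hw))) (one_mem _) h2
  subst ht
  have h0 : (0 : K) ^ 3 ^ m = 0 := zero_pow (by positivity)
  rw [h0, xG_zero, xG_zero, one_mul, one_mul, h] at h1
  let f : ℕ → K := fun r => if r = 8 then u ^ 3 ^ m + 0 * 0 else if r = 9 then v ^ 3 ^ m + 0 ^ 2 * 0 else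
    if r = 10 then u else v
  have e5 : wordG hStd (ow f 8 4) = wordG hStd (ow (fun _ => (0 : K)) 8 4) := by
    have e1 : ow f 8 4 = [(8, u ^ 3 ^ m + 0 * 0), (9, v ^ 3 ^ m + 0 ^ 2 * 0), (10, u), (11, v)] := rfl
    have e2 : ow (fun _ => (0 : K)) 8 4 = [(8, 0), (9, 0), (10, 0), (11, 0)] := rfl
    rw [e1, ← h1, e2]
    simp [wordG_cons]
  have hu := ow_unique hStd 4 8 rfl (by decide) f _ e5
  exact ⟨rfl, hu 10 (by decide) (by decide), hu 11 (by decide) (by decide)⟩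

section main

variable {m : ℕ} (hK : Fintype.card K = 3 ^ (2 * m + 1))
include hK

theorem wU_inj {t u v t' u' v' : K} (h : wU m t u v = wU m t' u' v') : t = t' ∧ u = u' ∧ v = v' := by
  have h1 := wU_mul hK t u v (t' - t) (u' - u + t * ((t' - t) ^ 3 ^ m) ^ 3)
    (v' - v + (t' - t) * u - ((t' - t) ^ 3 ^ m) ^ 3 * (t' - t) * t + ((t' - t) ^ 3 ^ m) ^ 3 * t ^ 2)
  have e1 : t + (t' - t) = t' := by ring
  have e2 : u + (u' - u + t * ((t' - t) ^ 3 ^ m) ^ 3) - t * ((t' - t) ^ 3 ^ m) ^ 3 = u' := by ring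
  have e3 : v + (v' - v + (t' - t) * u - ((t' - t) ^ 3 ^ m) ^ 3 * (t' - t) * t + ((t' - t) ^ 3 ^ m) ^ 3 * t ^ 2) - (t' - t) * u +
      ((t' - t) ^ 3 ^ m) ^ 3 * (t' - t) * t - ((t' - t) ^ 3 ^ m) ^ 3 * t ^ 2 = v' := by ring
  rw [e1, e2, e3, ← h] at h1
  obtain ⟨a1, a2, a3⟩ := wU_eq_one (mul_eq_left.1 h1)
  have h0 : (0 : K) ^ 3 ^ m = 0 := zero_pow (by positivity)
  rw [a1, h0] at a2 a3
  refine ⟨(sub_eq_zero.1 a1).symm, ?_, ?_⟩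
  · have : u' - u = 0 := by simpa using a2
    exact (sub_eq_zero.1 this).symm
  · have : v' - v = 0 := by simpa using a3
    exact (sub_eq_zero.1 this).symm

end main

/-! ### the action of the torus -/

theorem hh_conj_xG (m : ℕ) (μ : Kˣ) (r : ℕ) (hr : r < 12) (t : K) :
    hh m μ * xG hStd r t * (hh m μ)⁻¹ = xG hStd r ((X (cc m μ) (rt r hr) : Kˣ) * t) := by
  have := Cfsg.Agent.Lib.Helper23Simp2.δX_conj hT (hR K) (cc m μ) (rt r hr) t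
  rw [← xg_eq, ← xg_eq]
  exact this

theorem Xv (m : ℕ) (μ : Kˣ) (r : ℕ) (hr : r < 12) (a b : ℤ) (ha : chevG2.cartan 0 r = a) (hb : chevG2.cartan 1 r = b) :
    ((X (cc m μ) (rt r hr) : Kˣ) : K) = ((μ : K) ^ 3 ^ m) ^ a * (μ : K) ^ b := by
  rw [Helper8Ree5.X_eq]
  have hne : i1 ≠ i0 := by decide
  have e0 : cc m μ i0 = μ ^ 3 ^ m := by simp [cc]
  have e1 : cc m μ i1 = μ := by simp [cc, hne]
  rw [e0, e1]
  show ((((μ ^ 3 ^ m) ^ chevG2.cartan 0 r * μ ^ chevG2.cartan 1 r : Kˣ)) : K) = _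
  rw [ha, hb]
  simp

/-- the character on the first coordinate -/
noncomputable def ch1 (m : ℕ) (μ : Kˣ) : K := (((μ : K) ^ 3 ^ m) ^ 3)⁻¹ * (μ : K) ^ 2
/-- the character on the second coordinate -/
noncomputable def ch2 (m : ℕ) (μ : Kˣ) : K := ((μ : K) ^ 3 ^ m) ^ 3 * (μ : K)⁻¹

section main2

variable {m : ℕ} (hK : Fintype.card K = 3 ^ (2 * m + 1))
include hK

theorem hh_conj_wU (μ : Kˣ) (t u v : K) :
    hh m μ * wU m t u v * (hh m μ)⁻¹ = wU m (ch1 m μ * t) (ch2 m μ * u) (μ * v) := by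
  have hc : ∀ (a b : GL chevG2.Idx K), hh m μ * (a * b) * (hh m μ)⁻¹ =
      (hh m μ * a * (hh m μ)⁻¹) * (hh m μ * b * (hh m μ)⁻¹) := by intro a b; group
  unfold wU
  rw [reeWordU_eq, reeWordU_eq]
  simp only [wordG_cons, wordG_nil, mul_one]
  rw [hc, hc, hc, hc, hc, hh_conj_xG m μ 7 (by decide), hh_conj_xG m μ 6 (by decide), hh_conj_xG m μ 8 (by decide),
    hh_conj_xG m μ 9 (by decide), hh_conj_xG m μ 10 (by decide), hh_conj_xG m μ 11 (by decide),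
    Xv m μ 7 _ 2 (-1) (by decide) (by decide), Xv m μ 6 _ (-3) 2 (by decide) (by decide),
    Xv m μ 8 _ (-1) 1 (by decide) (by decide), Xv m μ 9 _ 1 0 (by decide) (by decide),
    Xv m μ 10 _ 3 (-1) (by decide) (by decide), Xv m μ 11 _ 0 1 (by decide) (by decide)]
  have hμ : (μ : K) ≠ 0 := μ.ne_zero
  set ν : K := (μ : K) ^ 3 ^ m with hν
  have hν0 : ν ≠ 0 := pow_ne_zero _ hμ
  have hνν : (ν ^ 3) ^ 3 ^ m = μ := th3 hK _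
  have e1 : (ch1 m μ * t) ^ 3 ^ m = ν ^ 2 * (μ : K)⁻¹ * t ^ 3 ^ m := by
    unfold ch1
    rw [mul_pow, mul_pow, inv_pow, ← hν, hνν, ← pow_mul, mul_comm 2, pow_mul, ← hν]; ring
  have e2 : (ch2 m μ * u) ^ 3 ^ m = ν⁻¹ * (μ : K) * u ^ 3 ^ m := by
    unfold ch2
    rw [mul_pow, mul_pow, inv_pow, ← hν, hνν]; ring
  have e3 : ((μ : K) * v) ^ 3 ^ m = ν * v ^ 3 ^ m := by rw [mul_pow]
  rw [e1, e2, e3]
  unfold ch1 ch2
  rw [← hν]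
  have z1 : ν ^ (2 : ℤ) = ν ^ 2 := by norm_cast
  have z2 : ν ^ (-3 : ℤ) = (ν ^ 3)⁻¹ := by rw [zpow_neg]; norm_cast
  have z3 : ν ^ (3 : ℤ) = ν ^ 3 := by norm_cast
  have z4 : (μ : K) ^ (2 : ℤ) = (μ : K) ^ 2 := by norm_cast
  simp only [z1, z2, z3, z4, zpow_neg, zpow_one, zpow_zero]
  have a7 : ν ^ 2 * (μ : K)⁻¹ * t ^ 3 ^ m = ν ^ 2 * (μ : K)⁻¹ * t ^ 3 ^ m := rfl
  have a8 : ν⁻¹ * (μ : K) * (u ^ 3 ^ m + t ^ 3 ^ m * t) =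
      ν⁻¹ * (μ : K) * u ^ 3 ^ m + ν ^ 2 * (μ : K)⁻¹ * t ^ 3 ^ m * ((ν ^ 3)⁻¹ * (μ : K) ^ 2 * t) := by
    field_simp
  have a9 : ν * 1 * (v ^ 3 ^ m + (t ^ 3 ^ m) ^ 2 * t) =
      ν * v ^ 3 ^ m + (ν ^ 2 * (μ : K)⁻¹ * t ^ 3 ^ m) ^ 2 * ((ν ^ 3)⁻¹ * (μ : K) ^ 2 * t) := by
    field_simp
  rw [a8, a9, one_mul]

end main2

end Cfsg.Agent.Lib.Helper8Ree9
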