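import Mathlib
import Cfsg.Agent.Lib.Helper63RecB

set_option autoImplicit false
set_option linter.unusedSectionVars false
set_option linter.unusedVariables false

/-! Splitting off a central involution by transfer; recognition of `PSL₂(F)` for every finite field. -/

namespace Cfsg.Agent.Lib.Helper8Split

theorem z2_cases (a : Multiplicative (ZMod 2)) : a = 1 ∨ a = Multiplicative.ofAdd 1 := by
  revert a; decide

theorem exists_char_of_central {C : Type*} [Group C] [Finite C] (i : C) (hi : i ∈ Subgroup.center C)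
    (i2 : i * i = 1) (S : Subgroup C) (hS : Odd S.index) (hiS : i ∈ S)
    (ϕ : S →* Multiplicative (ZMod 2)) (hϕ : ϕ ⟨i, hiS⟩ ≠ 1) : ∃ χ : C →* Multiplicative (ZMod 2), χ i ≠ 1 := by
  refine ⟨MonoidHom.transfer ϕ, ?_⟩
  have key : ∀ (k : ℕ) (g₀ : C), g₀⁻¹ * i ^ k * g₀ ∈ S → g₀⁻¹ * i ^ k * g₀ = i ^ k := by
    intro k g₀ _
    have : i ^ k ∈ Subgroup.center C := Subgroup.pow_mem _ hi k
    rw [Subgroup.mem_center_iff] at this
    rw [mul_assoc, ← this g₀, inv_mul_cancel_left]
  rw [MonoidHom.transfer_eq_pow ϕ i key]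
  obtain ⟨k, hk⟩ := hS
  have e : i ^ S.index = i := by
    rw [hk, pow_succ, pow_mul, pow_two, i2, one_pow, one_mul]
  have : (⟨i ^ S.index, MonoidHom.transfer_eq_pow_aux i key⟩ : S) = ⟨i, hiS⟩ := Subtype.ext e
  rw [this]
  exact hϕ

theorem split_of_char {C : Type*} [Group C] (i : C) (hi : i ∈ Subgroup.center C) (i2 : i * i = 1)
    (χ : C →* Multiplicative (ZMod 2)) (hχ : χ i ≠ 1) : Nonempty (C ≃* Multiplicative (ZMod 2) × χ.ker) := by
  classical
  have hχi : χ i = Multiplicative.ofAdd 1 := (z2_cases _).resolve_left hχ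
  have h11 : (Multiplicative.ofAdd (1 : ZMod 2)) * Multiplicative.ofAdd 1 = 1 := by decide
  have hne : (Multiplicative.ofAdd (1 : ZMod 2)) ≠ 1 := by decide
  let σ : Multiplicative (ZMod 2) →* C := MonoidHom.mk' (fun a => if a = 1 then 1 else i) (by
    intro a b
    rcases z2_cases a with rfl | rfl <;> rcases z2_cases b with rfl | rfl <;> simp [h11, hne, i2])
  have σ1 : σ (Multiplicative.ofAdd 1) = i := by
    show (if (Multiplicative.ofAdd (1 : ZMod 2)) = 1 then 1 else i) = i
    rw [if_neg hne]
  have hσc : ∀ a, σ a ∈ Subgroup.center C := by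
    intro a
    rcases z2_cases a with rfl | rfl
    · rw [map_one]; exact one_mem _
    · rw [σ1]; exact hi
  have hχσ : ∀ a, χ (σ a) = a := by
    intro a
    rcases z2_cases a with rfl | rfl
    · rw [map_one, map_one]
    · rw [σ1, hχi]
  let g : Multiplicative (ZMod 2) × χ.ker →* C := MonoidHom.mk' (fun p => σ p.1 * p.2.1) (by
    rintro ⟨a, l⟩ ⟨b, l'⟩
    show σ (a * b) * (l.1 * l'.1) = σ a * l.1 * (σ b * l'.1)
    have := (Subgroup.mem_center_iff.1 (hσc b)) l.1
    rw [map_mul]
    calc σ a * σ b * (l.1 * l'.1) = σ a * (σ b * l.1) * l'.1 := by group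
      _ = σ a * (l.1 * σ b) * l'.1 := by rw [this]
      _ = _ := by group)
  refine ⟨(MulEquiv.ofBijective g ⟨?_, ?_⟩).symm⟩
  · rw [injective_iff_map_eq_one]
    rintro ⟨a, l⟩ h
    have h' : σ a * l.1 = 1 := h
    have h1 := congrArg χ h'
    rw [map_mul, hχσ, MonoidHom.mem_ker.1 l.2, mul_one, map_one] at h1
    subst h1
    rw [map_one, one_mul] at h'
    exact Prod.ext rfl (Subtype.ext h')
  · intro c
    refine ⟨(χ c, ⟨(σ (χ c))⁻¹ * c, ?_⟩), ?_⟩
    · rw [MonoidHom.mem_ker, map_mul, map_inv, hχσ, inv_mul_cancel]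
    · show σ (χ c) * ((σ (χ c))⁻¹ * c) = c
      group

open Matrix MatrixGroups OnePoint Cfsg.Agent.Lib.Helper6SL2Hom Cfsg.Agent.Lib.Helper63RecB

variable {F : Type*} [Field F] [DecidableEq F]

theorem iso_of_data' [Finite F] {G Ω : Type*} [Group G] [Finite G]
    [MulAction G Ω]
    (hfaith : ∀ g : G, (∀ ω : Ω, g • ω = ω) → g = 1)
    (E : OnePoint F ≃ Ω)
    (hx : ∀ b : F, ∃ g : G, g • E ∞ = E ∞ ∧ ∀ y : F, g • E (y : OnePoint F) = E ((y + b : F) : OnePoint F))
    (t : G) (c e : F) (he : e ^ 2 = - c) (hc : c ≠ 0)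
    (ht1 : t • E ∞ = E ((0 : F) : OnePoint F)) (ht2 : t • E ((0 : F) : OnePoint F) = E ∞)
    (ht3 : ∀ y : F, y ≠ 0 → t • E (y : OnePoint F) = E ((c / y : F) : OnePoint F))
    (hcard : Nat.card G ≤ Nat.card (ProjectiveSpecialLinearGroup (Fin 2) F)) :
    Nonempty (G ≃* ProjectiveSpecialLinearGroup (Fin 2) F) := by
  classical
  have he0 : e ≠ 0 := by
    rintro rfl
    apply hc
    have : (0 : F) = - c := by simpa using he
    exact neg_eq_zero.mp this.symm
  let S : Subgroup (SpecialLinearGroup (Fin 2) F) :=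
    { carrier := {A | ∃ g : G, ∀ y : OnePoint F, g • E y = E (SpecialLinearGroup.toGL A • y)}
      one_mem' := ⟨1, fun y => by simp⟩
      mul_mem' := by
        rintro A B ⟨g, hg⟩ ⟨k, hk⟩
        exact ⟨g * k, fun y => by rw [mul_smul, hk, hg, map_mul, mul_smul]⟩
      inv_mem' := by
        rintro A ⟨g, hg⟩
        refine ⟨g⁻¹, fun y => ?_⟩
        rw [inv_smul_eq_iff, hg, map_inv, smul_inv_smul] }
  have hT01 : ∀ b : F, SpecialLinearGroup.transvection (zero_ne_one : (0 : Fin 2) ≠ 1) b ∈ S := by
    intro b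
    obtain ⟨g, hg1, hg2⟩ := hx b
    refine ⟨g, fun y => ?_⟩
    cases y with
    | infty => rw [hg1, sl_smul_infty, T01_10]; simp
    | coe y => rw [hg2, sl_smul_coe, T01_10, T01_11, T01_00, T01_01]; simp
  have hw : wMat c e he hc ∈ S := by
    refine ⟨t, fun y => ?_⟩
    have e00 : (wMat c e he hc) 0 0 = 0 := rfl
    have e01 : (wMat c e he hc) 0 1 = c / e := rfl
    have e10 : (wMat c e he hc) 1 0 = 1 / e := rfl
    have e11 : (wMat c e he hc) 1 1 = 0 := rfl
    cases y with
    | infty =>
      rw [ht1, sl_smul_infty, e10, e00, if_neg (by simpa using he0)]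
      simp
    | coe y =>
      rw [sl_smul_coe, e00, e01, e10, e11]
      by_cases hy : y = 0
      · subst hy
        rw [ht2]; simp
      · rw [ht3 y hy, if_neg (by simp [he0, hy])]
        congr 2
        rw [zero_mul, zero_add, add_zero]
        field_simp
  have hT10 : ∀ b : F, SpecialLinearGroup.transvection (one_ne_zero : (1 : Fin 2) ≠ 0) b ∈ S := by
    intro b
    have hmul : SpecialLinearGroup.transvection (one_ne_zero : (1 : Fin 2) ≠ 0) b * wMat c e he hc
        = wMat c e he hc * SpecialLinearGroup.transvection (zero_ne_one : (0 : Fin 2) ≠ 1) (b * c) := by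
      have hm : !![1, 0; b, 1] * !![0, c / e; 1 / e, 0]
          = !![0, c / e; 1 / e, 0] * !![1, b * c; 0, 1] := by
        ext i j
        fin_cases i <;> fin_cases j <;> simp [Matrix.mul_apply, Fin.sum_univ_two] <;> field_simp
      apply Matrix.SpecialLinearGroup.ext
      intro i j
      have h1 := Matrix.SpecialLinearGroup.coe_mul
        (SpecialLinearGroup.transvection (one_ne_zero : (1 : Fin 2) ≠ 0) b) (wMat c e he hc)
      have h2 := Matrix.SpecialLinearGroup.coe_mul (wMat c e he hc)
        (SpecialLinearGroup.transvection (zero_ne_one : (0 : Fin 2) ≠ 1) (b * c))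
      rw [T10_entries] at h1
      rw [T01_entries] at h2
      rw [h1, h2]
      exact congrFun (congrFun hm i) j
    rw [eq_mul_inv_of_mul_eq hmul]
    exact S.mul_mem (S.mul_mem hw (hT01 _)) (S.inv_mem hw)
  have hS : S = ⊤ := by
    rw [eq_top_iff, ← closure_transvections, Subgroup.closure_le]
    rintro A (⟨b, rfl⟩ | ⟨b, rfl⟩)
    · exact hT01 b
    · exact hT10 b
  have hall : ∀ A : SpecialLinearGroup (Fin 2) F,
      ∃ g : G, ∀ y : OnePoint F, g • E y = E (SpecialLinearGroup.toGL A • y) := by
    intro A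
    have : A ∈ S := by rw [hS]; trivial
    exact this
  choose ψ hψ using hall
  have hEs : ∀ ω : Ω, ∃ y, E y = ω := E.surjective
  let Ψ : SpecialLinearGroup (Fin 2) F →* G := MonoidHom.mk' ψ (by
    intro A B
    apply eq_of_act hfaith
    intro ω
    obtain ⟨y, rfl⟩ := hEs ω
    rw [hψ, mul_smul, hψ, hψ, map_mul, mul_smul])
  have hΨ : ∀ A y, Ψ A • E y = E (SpecialLinearGroup.toGL A • y) := hψ
  have hker : ∀ A : SpecialLinearGroup (Fin 2) F, Ψ A = 1 ↔ A ∈ Subgroup.center (SpecialLinearGroup (Fin 2) F) := by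
    intro A
    rw [Matrix.SpecialLinearGroup.mem_center_iff]
    constructor
    · intro h
      have h1 : ∀ y : OnePoint F, SpecialLinearGroup.toGL A • y = y := by
        intro y
        have := hΨ A y
        rw [h, one_smul] at this
        exact (E.injective this).symm
      have a10 : A 1 0 = 0 := by
        have := h1 ∞
        rw [sl_smul_infty] at this
        by_contra hne
        rw [if_neg hne] at this
        exact absurd this (by simp)
      have hdet := Matrix.det_fin_two A.1
      rw [A.2] at hdet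
      have hdet' : A 0 0 * A 1 1 = 1 := by
        have : (A.1 1 0) = 0 := a10
        rw [this] at hdet
        simpa using hdet.symm
      have a11 : A 1 1 ≠ 0 := right_ne_zero_of_mul_eq_one hdet'
      have a01 : A 0 1 = 0 := by
        have := h1 ((0 : F) : OnePoint F)
        rw [sl_smul_coe, a10, zero_mul, zero_add, if_neg a11, mul_zero, zero_add] at this
        have h2 : A 0 1 / A 1 1 = 0 := OnePoint.coe_injective this
        rcases div_eq_zero_iff.1 h2 with h | h
        · exact h
        · exact absurd h a11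
      have a00 : A 0 0 = A 1 1 := by
        have := h1 ((1 : F) : OnePoint F)
        rw [sl_smul_coe, a10, zero_mul, zero_add, if_neg a11, mul_one, a01, add_zero] at this
        have h2 : A 0 0 / A 1 1 = 1 := OnePoint.coe_injective this
        exact (div_eq_one_iff_eq a11).1 h2
      refine ⟨A 0 0, ?_, ?_⟩
      · rw [Fintype.card_fin, pow_two]
        nth_rewrite 2 [a00]
        exact hdet'
      · ext i j
        fin_cases i <;> fin_cases j <;> simp [a10, a01, a00, Matrix.scalar_apply]
    · rintro ⟨r, hr, hA⟩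
      apply hfaith
      intro ω
      obtain ⟨y, rfl⟩ := hEs ω
      rw [hΨ]
      have hr0 : r ≠ 0 := by
        rintro rfl
        simp at hr
      have e00 : A 0 0 = r := by
        have := congrFun (congrFun hA 0) 0
        simpa [Matrix.scalar_apply] using this.symm
      have e01 : A 0 1 = 0 := by
        have := congrFun (congrFun hA 0) 1
        simpa [Matrix.scalar_apply] using this.symm
      have e10 : A 1 0 = 0 := by
        have := congrFun (congrFun hA 1) 0
        simpa [Matrix.scalar_apply] using this.symm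
      have e11 : A 1 1 = r := by
        have := congrFun (congrFun hA 1) 1
        simpa [Matrix.scalar_apply] using this.symm
      cases y with
      | infty => rw [sl_smul_infty, e10]; simp
      | coe y =>
        rw [sl_smul_coe, e00, e01, e10, e11]
        simp [hr0]
  let θ : ProjectiveSpecialLinearGroup (Fin 2) F →* G :=
    QuotientGroup.lift (Subgroup.center (SpecialLinearGroup (Fin 2) F)) Ψ (fun A hA => (hker A).2 hA)
  have hθ : Function.Injective θ := by
    rw [injective_iff_map_eq_one]
    intro x hx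
    induction x using QuotientGroup.induction_on with | H A => ?_
    have : Ψ A = 1 := hx
    exact (QuotientGroup.eq_one_iff A).2 ((hker A).1 this)
  have hfin : Finite (ProjectiveSpecialLinearGroup (Fin 2) F) := Finite.of_injective θ hθ
  have hb : Function.Bijective θ := hθ.bijective_of_nat_card_le hcard
  exact ⟨(MulEquiv.ofBijective θ hb).symm⟩

end Cfsg.Agent.Lib.Helper8Split
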