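import Cfsg.Agent.Lib.Helper8SzIso

set_option autoImplicit false
set_option linter.unusedVariables false
set_option linter.unusedSectionVars false
set_option linter.unusedSimpArgs false

namespace Cfsg.Agent.Lib.Helper8Sz8

open Cfsg Cfsg.Agent.Lib.Helper8Sz Cfsg.Agent.Lib.Helper8Sz2 Cfsg.Agent.Lib.Helper8Sz3
  Cfsg.Agent.Lib.Helper8Sz4 Cfsg.Agent.Lib.Helper8Sz5 Cfsg.Agent.Lib.Helper8Sz7
  Cfsg.Agent.Lib.Helper8SzIso

variable {F : Type*} [Field F] [Fintype F] {m : ℕ} (hF : Fintype.card F = 2 ^ (2 * m + 1))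
include hF

/-- a 2-element is conjugate into `Q` -/
theorem two_elt_conj (hm : 1 ≤ m) {t : Sz F m} {k : ℕ} (ht : t ^ (2 ^ k) = 1) :
    ∃ (g : Sz F m) (a b : F), t = g * T hF a b * g⁻¹ := by
  have : Fact (Nat.Prime 2) := ⟨Nat.prime_two⟩
  have hp : IsPGroup 2 (Subgroup.zpowers t) := by
    rintro ⟨x, hx⟩
    obtain ⟨j, rfl⟩ := Subgroup.mem_zpowers_iff.1 hx
    refine ⟨k, Subtype.ext ?_⟩
    show (t ^ j) ^ (2 ^ k) = 1
    rw [← zpow_natCast, ← zpow_mul, mul_comm, zpow_mul, zpow_natCast, ht, one_zpow]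
  obtain ⟨P, hP⟩ := hp.exists_le_sylow
  obtain ⟨g, hg⟩ := sylow_conj hF hm P
  obtain ⟨a, b, e⟩ := (hg t).1 (hP (Subgroup.mem_zpowers t))
  refine ⟨g, a, b, ?_⟩
  rw [← e]; group

/-- fixed points of a conjugate of a nonidentity element of `Q` -/
theorem conj_T_fix (g : Sz F m) {a b : F} (hne : ¬ (a = 0 ∧ b = 0)) (c : suzukiOvoid F m) :
    (g * T hF a b * g⁻¹) • c = c ↔ c = g • oInf F m := by
  constructor
  · intro h
    have h1 : T hF a b • (g⁻¹ • c) = g⁻¹ • c := by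
      have : g⁻¹ • ((g * T hF a b * g⁻¹) • c) = g⁻¹ • c := by rw [h]
      rwa [mul_smul, mul_smul, inv_smul_smul] at this
    rcases o_cases (g⁻¹ • c) with h2 | ⟨x, y, h2⟩
    · rw [← h2, smul_inv_smul]
    · rw [h2] at h1
      exact absurd (T_fix hF h1) hne
  · rintro rfl
    rw [mul_smul, mul_smul, inv_smul_smul, T_oInf]

/-- an involution has exactly one fixed point -/
theorem invol_fix (hm : 1 ≤ m) {t : Sz F m} (ht : orderOf t = 2) :
    ∃ c : suzukiOvoid F m, t • c = c ∧ ∀ d, t • d = d → d = c := by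
  have h2 : t ^ (2 ^ 1) = 1 := by rw [pow_one, ← ht, pow_orderOf_eq_one]
  obtain ⟨g, a, b, rfl⟩ := two_elt_conj hF hm h2
  have hne : ¬ (a = 0 ∧ b = 0) := by
    rintro ⟨rfl, rfl⟩
    rw [T_zero hF hm, mul_one, mul_inv_cancel, orderOf_one] at ht
    omega
  exact ⟨g • oInf F m, (conj_T_fix hF g hne _).2 rfl, fun d hd => (conj_T_fix hF g hne d).1 hd⟩

theorem exists_one_fix (ω : suzukiOvoid F m) :
    ∃ g : Sz F m, g ≠ 1 ∧ ∀ c, g • c = c ↔ c = ω := by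
  obtain ⟨k, rfl⟩ := exists_map_inf hF ω
  have hne : ¬ ((0 : F) = 0 ∧ (1 : F) = 0) := fun h => one_ne_zero h.2
  refine ⟨k * T hF 0 1 * k⁻¹, ?_, conj_T_fix hF k hne⟩
  intro h
  have h1 := (conj_T_fix hF k hne (k • oPt m 0 0)).1 (by rw [h, one_smul])
  exact oPt_ne_oInf 0 0 (smul_left_cancel k h1)

theorem exists_two_fix (hm : 1 ≤ m) :
    ∃ g : Sz F m, g ≠ 1 ∧ ∃ a b : suzukiOvoid F m, a ≠ b ∧ g • a = a ∧ g • b = b := by
  obtain ⟨c, hc0, hc1⟩ := exists_ne_zero_one hF hm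
  exact ⟨H hF c hc0, H_ne_one hF hc0 hc1, oInf F m, oPt m 0 0, (oPt_ne_oInf 0 0).symm,
    H_oInf hF c hc0, H_oPt_zero hF c hc0⟩

theorem stab_ne_top (ω : suzukiOvoid F m) : MulAction.stabilizer (Sz F m) ω ≠ ⊤ := by
  intro h
  obtain ⟨k, rfl⟩ := exists_map_inf hF ω
  have h1 : k * W hF * k⁻¹ ∈ MulAction.stabilizer (Sz F m) (k • oInf F m) := h ▸ Subgroup.mem_top _
  rw [MulAction.mem_stabilizer_iff, mul_smul, mul_smul, inv_smul_smul, W_oInf] at h1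
  exact oPt_ne_oInf 0 0 (smul_left_cancel k h1)

end Cfsg.Agent.Lib.Helper8Sz8
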