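import Cfsg.Agent.Lib.Helper8SzSub

set_option autoImplicit false
set_option linter.unusedVariables false
set_option linter.unusedSectionVars false
set_option linter.unusedSimpArgs false

namespace Cfsg.Agent.Lib.Helper8SzMax

open Cfsg Cfsg.Agent.Lib.Helper8Sz Cfsg.Agent.Lib.Helper8Sz2 Cfsg.Agent.Lib.Helper8Sz3
  Cfsg.Agent.Lib.Helper8Sz4 Cfsg.Agent.Lib.Helper8Sz5 Cfsg.Agent.Lib.Helper8Sz7
  Cfsg.Agent.Lib.Helper8Sz8 Cfsg.Agent.Lib.Helper8SzAut Cfsg.Agent.Lib.Helper8SzSub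

/-- two involutions whose product has odd order are conjugate under an involution of the
dihedral group they generate -/
theorem dihedral_conj {G : Type*} [Group G] {s t : G} (hs : s * s = 1) (ht : t * t = 1) {j : ℕ}
    (hj : (s * t) ^ (2 * j + 1) = 1) :
    ((s * t) ^ j * s) * ((s * t) ^ j * s) = 1 ∧ ((s * t) ^ j * s) * s * ((s * t) ^ j * s)⁻¹ = t := by
  have hsi : s⁻¹ = s := inv_eq_of_mul_eq_one_right hs
  have hti : t⁻¹ = t := inv_eq_of_mul_eq_one_right ht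
  have hsd : SemiconjBy s (s * t) (s * t)⁻¹ := by
    show s * (s * t) = (s * t)⁻¹ * s
    rw [mul_inv_rev, hsi, hti, ← mul_assoc, hs, one_mul, mul_assoc, hs, mul_one]
  have hsj : s * (s * t) ^ j = ((s * t) ^ j)⁻¹ * s := by
    have := (hsd.pow_right j).eq
    rwa [inv_pow] at this
  have h1 : ((s * t) ^ j * s) * ((s * t) ^ j * s) = 1 := by
    rw [mul_assoc, ← mul_assoc s, hsj, mul_assoc, hs, mul_one, mul_inv_cancel]
  refine ⟨h1, ?_⟩
  rw [inv_eq_of_mul_eq_one_right h1, mul_assoc ((s * t) ^ j) s s, hs, mul_one, ← mul_assoc,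
    ← pow_add]
  have h2 : (s * t) ^ (j + j) = (s * t)⁻¹ := by
    apply eq_inv_of_mul_eq_one_left
    rw [← pow_succ, ← hj]
    congr 1
    ring
  rw [h2, mul_inv_rev, hsi, hti, mul_assoc, hs, mul_one]

variable {F : Type*} [Field F] [Fintype F] {m : ℕ} (hF : Fintype.card F = 2 ^ (2 * m + 1))

include hF

theorem orderOf_T0 (hm : 1 ≤ m) {b : F} (hb : b ≠ 0) : orderOf (T hF 0 b) = 2 := by
  apply orderOf_eq_prime
  · rw [pow_two, T_sq hF hm, zero_mul, T_zero hF hm]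
  · intro h
    rw [← T_zero hF hm] at h
    exact hb (T_inj hF h).2

theorem invol_mul_self {t : Sz F m} (ht : orderOf t = 2) : t * t = 1 := by
  rw [← pow_two, ← ht, pow_orderOf_eq_one]

/-- the product of two involutions with different fixed points has odd order -/
theorem odd_order_mul (hm : 1 ≤ m) {s t : Sz F m} (hs : orderOf s = 2) (ht : orderOf t = 2)
    {α β : suzukiOvoid F m} (hsα : s • α = α) (htβ : t • β = β) (hαβ : α ≠ β) :
    ∃ j, (s * t) ^ (2 * j + 1) = 1 := by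
  have hss := invol_mul_self hF hs
  have htt := invol_mul_self hF ht
  have hsi : s⁻¹ = s := inv_eq_of_mul_eq_one_right hss
  have hti : t⁻¹ = t := inv_eq_of_mul_eq_one_right htt
  rcases Nat.even_or_odd' (orderOf (s * t)) with ⟨k, hk | hk⟩
  · exfalso
    have hpos : 0 < orderOf (s * t) := orderOf_pos _
    have hk0 : 0 < k := by omega
    set u := (s * t) ^ k with hu
    have hou : orderOf u = 2 := by
      rw [hu, orderOf_pow_of_dvd hk0.ne' ⟨2, by rw [hk]; ring⟩, hk]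
      exact Nat.mul_div_cancel _ hk0
    have huu := invol_mul_self hF hou
    have hui : u⁻¹ = u := inv_eq_of_mul_eq_one_right huu
    have hsd : SemiconjBy s (s * t) (s * t)⁻¹ := by
      show s * (s * t) = (s * t)⁻¹ * s
      rw [mul_inv_rev, hsi, hti, ← mul_assoc, hss, one_mul, mul_assoc, hss, mul_one]
    have htd : SemiconjBy t (s * t) (s * t)⁻¹ := by
      show t * (s * t) = (s * t)⁻¹ * t
      rw [mul_inv_rev, hsi, hti, mul_assoc]
    have hsu : s * u = u * s := by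
      have := (hsd.pow_right k).eq
      rwa [inv_pow, ← hu, hui] at this
    have htu : t * u = u * t := by
      have := (htd.pow_right k).eq
      rwa [inv_pow, ← hu, hui] at this
    have h1 : u • α = α := by
      apply invol_unique hF hm hs hsα
      rw [← mul_smul, hsu, mul_smul, hsα]
    have h2 : u • β = β := by
      apply invol_unique hF hm ht htβ
      rw [← mul_smul, htu, mul_smul, htβ]
    exact hαβ (invol_unique hF hm hou h2 α h1)
  · exact ⟨k, by rw [← hk, pow_orderOf_eq_one]⟩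

theorem orderOf_conj' (g x : Sz F m) : orderOf (g * x * g⁻¹) = orderOf x := by
  rw [← MulAut.conj_apply, MulEquiv.orderOf_eq]

theorem norm2_inj {c c' : F} (hc : c ≠ 0) (hc' : c' ≠ 0)
    (h : c ^ 2 * sg m c = c' ^ 2 * sg m c') : c = c' := by
  have h1 : (c / c') ^ 2 * sg m (c / c') = 1 := by
    rw [sg_div, div_pow, div_mul_div_comm, h]
    exact div_self (mul_ne_zero (pow_ne_zero _ hc') (sg_ne_zero hc'))
  have := norm2_eq_one hF h1
  field_simp at this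
  exact this

theorem H_congr {c c' : F} (h : c = c') (hc : c ≠ 0) (hc' : c' ≠ 0) :
    H hF c hc = H hF c' hc' := by
  subst h; rfl

theorem H_pow' (c : F) (hc : c ≠ 0) (k : ℕ) :
    H hF (c ^ k) (pow_ne_zero k hc) = (H hF c hc) ^ k := by
  induction k with
  | zero =>
    exact (H_congr hF (pow_zero c) _ one_ne_zero).trans ((H_one hF).trans (pow_zero _).symm)
  | succ k ih =>
    refine (H_congr hF (pow_succ c k) _ (mul_ne_zero (pow_ne_zero k hc) hc)).trans ?_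
    rw [H_mul hF (c ^ k) c (pow_ne_zero k hc) hc, ih, pow_succ]

theorem pow_half (x : F) : (x ^ 2) ^ (2 ^ (2 * m)) = x := by
  rw [← pow_mul, ← pow_succ', ← hF, FiniteField.pow_card]

section normalized

variable (hm : 1 ≤ m) (M : Subgroup (Sz F m)) {b₁ : F} (hb₁ : b₁ ≠ 0) (h₁ : T hF 0 b₁ ∈ M)

include hm hb₁ h₁

/-- involutions of `M` swapping infinity with another point of its orbit -/
theorem exists_swap {g : Sz F m} (hg : g ∈ M) (hmove : g • oInf F m ≠ oInf F m) {b : F}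
    (hb : b ≠ 0) (hbM : T hF 0 b ∈ M) :
    ∃ w ∈ M, w • oInf F m = g • oInf F m ∧ w • (g • oInf F m) = oInf F m ∧
      w * T hF 0 b₁ * w⁻¹ = g * T hF 0 b * g⁻¹ := by
  have hs := orderOf_T0 hF hm hb₁
  have ht : orderOf (g * T hF 0 b * g⁻¹) = 2 := by rw [orderOf_conj' hF, orderOf_T0 hF hm hb]
  have htβ : (g * T hF 0 b * g⁻¹) • (g • oInf F m) = g • oInf F m := by
    rw [mul_smul, mul_smul, inv_smul_smul, T_oInf]
  obtain ⟨j, hj⟩ := odd_order_mul hF hm hs ht (T_oInf hF 0 b₁) htβ (Ne.symm hmove)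
  obtain ⟨hw1, hw2⟩ := dihedral_conj (invol_mul_self hF hs) (invol_mul_self hF ht) hj
  set w := (T hF 0 b₁ * (g * T hF 0 b * g⁻¹)) ^ j * T hF 0 b₁ with hw
  have hwM : w ∈ M :=
    M.mul_mem (M.pow_mem (M.mul_mem h₁ (M.mul_mem (M.mul_mem hg hbM) (M.inv_mem hg))) j) h₁
  have h3 : w • oInf F m = g • oInf F m := by
    apply invol_unique hF hm ht htβ
    rw [← hw2, mul_smul, mul_smul, inv_smul_smul, T_oInf]
  refine ⟨w, hwM, h3, ?_, hw2⟩
  rw [← h3, ← mul_smul, hw1, one_smul]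

variable (hW : W hF ∈ M)

include hW

/-- the torus part of `M` is transitive on the involutions of `M` fixing infinity -/
theorem exists_torus {b : F} (hb : b ≠ 0) (hbM : T hF 0 b ∈ M) :
    ∃ (c : F) (hc : c ≠ 0), H hF c hc ∈ M ∧ c ^ 2 * sg m c * b₁ = b := by
  have hmove : W hF • oInf F m ≠ oInf F m := by
    rw [W_oInf]; exact oPt_ne_oInf 0 0
  obtain ⟨w, hwM, hw1, hw2, hw3⟩ := exists_swap hF hm M hb₁ h₁ hW hmove hb hbM
  rw [W_oInf] at hw1 hw2
  obtain ⟨c, hc, e⟩ := stab_two' hF hm (g := w * W hF)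
    (by rw [mul_smul, W_oInf, hw2]) (by rw [mul_smul, W_oPt_zero, hw1])
  have hcM : H hF c hc ∈ M := e ▸ M.mul_mem hwM hW
  have hw : w = H hF c hc * W hF := by
    rw [← e, mul_assoc, W_mul_self, mul_one]
  refine ⟨c⁻¹, inv_ne_zero hc, ?_, ?_⟩
  · rw [← H_inv hF c hc]; exact M.inv_mem hcM
  · have e2 : T hF 0 b = (W hF * w) * T hF 0 b₁ * (W hF * w)⁻¹ := by
      have : (W hF * w) * T hF 0 b₁ * (W hF * w)⁻¹ = W hF * (w * T hF 0 b₁ * w⁻¹) * (W hF)⁻¹ := by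
        group
      rw [this, hw3, W_inv]
      have e3 : W hF * (W hF * T hF 0 b * W hF) * W hF
          = (W hF * W hF) * T hF 0 b * (W hF * W hF) := by group
      rw [e3, W_mul_self, one_mul, mul_one]
    have e4 : W hF * w = H hF c⁻¹ (inv_ne_zero hc) := by
      rw [hw, ← mul_assoc, W_H, mul_assoc, W_mul_self, mul_one]
    rw [e4, H_T_H hF hm] at e2
    exact (T_inj hF e2).2.symm

/-- splitting elements of the point stabiliser -/
theorem split_stab {a b c : F} {hc : c ≠ 0} (hx : T hF a b * H hF c hc ∈ M) :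
    H hF c hc ∈ M ∧ T hF a b ∈ M := by
  have h1 : T hF 0 (c ^ 2 * sg m c * b₁) ∈ M := by
    rw [← conj_T0 hF hm a b c hc b₁]
    exact M.mul_mem (M.mul_mem hx h₁) (M.inv_mem hx)
  have hne : c ^ 2 * sg m c * b₁ ≠ 0 :=
    mul_ne_zero (mul_ne_zero (pow_ne_zero _ hc) (sg_ne_zero hc)) hb₁
  obtain ⟨c', hc', hM', e⟩ := exists_torus hF hm M hb₁ h₁ hW hne h1
  have : c' = c := norm2_inj hF hc' hc (mul_right_cancel₀ hb₁ e)
  subst this
  refine ⟨hM', ?_⟩
  have : T hF a b = (T hF a b * H hF c' hc') * (H hF c' hc')⁻¹ := by group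
  rw [this]
  exact M.mul_mem hx (M.inv_mem hM')

variable {b₂ : F} (hb₂ : b₂ ≠ 0) (hne : b₁ ≠ b₂) (h₂ : T hF 0 b₂ ∈ M)

include hb₂ hne h₂

/-- the unipotent part of `M` is transitive on the orbit of infinity minus infinity -/
theorem orbit_inf {g : Sz F m} (hg : g ∈ M) (hmove : g • oInf F m ≠ oInf F m) :
    ∃ a b, T hF a b ∈ M ∧ g • oInf F m = oPt m a b := by
  obtain ⟨w₁, hw₁M, hw₁a, hw₁b, hw₁c⟩ := exists_swap hF hm M hb₁ h₁ hg hmove hb₁ h₁
  obtain ⟨w₂, hw₂M, hw₂a, hw₂b, hw₂c⟩ := exists_swap hF hm M hb₁ h₁ hg hmove hb₂ h₂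
  set β := g • oInf F m with hβ
  have hx1 : w₁⁻¹ * w₂ ≠ 1 := by
    intro h
    have h' : w₂ = w₁ := by
      have := congrArg (fun z => w₁ * z) h
      simpa using this
    rw [h', hw₁c] at hw₂c
    have h3 : T hF 0 b₁ = T hF 0 b₂ := by
      have := congrArg (fun z => g⁻¹ * z * g) hw₂c
      simpa [mul_assoc] using this
    exact hne (T_inj hF h3).2
  have hxM : w₁⁻¹ * w₂ ∈ M := M.mul_mem (M.inv_mem hw₁M) hw₂M
  have hxinf : (w₁⁻¹ * w₂) • oInf F m = oInf F m := by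
    rw [mul_smul, hw₂a, ← hw₁a, inv_smul_smul]
  have hxβ : (w₁⁻¹ * w₂) • β = β := by
    rw [mul_smul, hw₂b, inv_smul_eq_iff, hw₁b]
  obtain ⟨a, b, c, hc, e⟩ := stab_one' hF hm hxinf
  rw [e] at hx1 hxM hxβ
  obtain ⟨hHM, hTM⟩ := split_stab hF hm M hb₁ h₁ hW hxM
  obtain ⟨x', y', hβ'⟩ := (o_cases β).resolve_left hmove
  have hc1 : c ≠ 1 := by
    rintro rfl
    rw [H_one, mul_one] at hx1 hxβ
    rw [hβ'] at hxβ
    obtain ⟨rfl, rfl⟩ := T_fix hF hxβ
    exact hx1 (T_zero hF hm)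
  -- the commutator map with `H c` on `M ⊓ Q`
  let S : Subgroup (Sz F m) := M ⊓ Q hF hm
  have hmemS : ∀ s : S, (s : Sz F m) * H hF c hc * (s : Sz F m)⁻¹ * (H hF c hc)⁻¹ ∈ S := by
    rintro ⟨s, hsM, hsQ⟩
    refine ⟨M.mul_mem (M.mul_mem (M.mul_mem hsM hHM) (M.inv_mem hsM)) (M.inv_mem hHM), ?_⟩
    obtain ⟨u, v, rfl⟩ := (mem_Q hF hm).1 hsQ
    have : T hF u v * H hF c hc * (T hF u v)⁻¹ * (H hF c hc)⁻¹
        = T hF u v * (H hF c hc * T hF u v * (H hF c hc)⁻¹)⁻¹ := by group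
    show T hF u v * H hF c hc * (T hF u v)⁻¹ * (H hF c hc)⁻¹ ∈ Q hF hm
    rw [this, H_T_H hF hm]
    exact (Q hF hm).mul_mem (T_mem_Q hF hm _ _) ((Q hF hm).inv_mem (T_mem_Q hF hm _ _))
  let f : S → S := fun s => ⟨_, hmemS s⟩
  have hinj : Function.Injective f := by
    intro s s' hss
    have h1 : (s : Sz F m) * H hF c hc * (s : Sz F m)⁻¹ * (H hF c hc)⁻¹
        = (s' : Sz F m) * H hF c hc * (s' : Sz F m)⁻¹ * (H hF c hc)⁻¹ := congrArg Subtype.val hss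
    have h2 : ((s' : Sz F m)⁻¹ * s) * H hF c hc = H hF c hc * ((s' : Sz F m)⁻¹ * s) := by
      have h3 := mul_right_cancel h1
      calc ((s' : Sz F m)⁻¹ * s) * H hF c hc
          = (s' : Sz F m)⁻¹ * ((s : Sz F m) * H hF c hc * (s : Sz F m)⁻¹) * s := by group
        _ = (s' : Sz F m)⁻¹ * ((s' : Sz F m) * H hF c hc * (s' : Sz F m)⁻¹) * s := by rw [h3]
        _ = H hF c hc * ((s' : Sz F m)⁻¹ * s) := by group
    obtain ⟨u, v, huv⟩ := (mem_Q hF hm).1 ((Q hF hm).mul_mem ((Q hF hm).inv_mem s'.2.2) s.2.2)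
    rw [huv, H_T hF hm] at h2
    obtain ⟨e1, e2⟩ := T_inj hF (mul_right_cancel h2)
    have hu : u = 0 := by
      by_contra hu
      have : sg m c = 1 := by
        have h5 : sg m c * u = 1 * u := by rw [one_mul]; exact e1.symm
        exact mul_right_cancel₀ hu h5
      exact hc1 (sg_eq_one hF this)
    have hv : v = 0 := by
      by_contra hv
      have : c ^ 2 * sg m c = 1 := by
        have h5 : c ^ 2 * sg m c * v = 1 * v := by rw [one_mul]; exact e2.symm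
        exact mul_right_cancel₀ hv h5
      exact hc1 (norm2_eq_one hF this)
    rw [hu, hv, T_zero hF hm] at huv
    apply Subtype.ext
    exact (inv_mul_eq_one.1 huv).symm
  obtain ⟨⟨s', hs'M, hs'Q⟩, hs'⟩ := Finite.surjective_of_injective hinj
    ⟨T hF a b, hTM, T_mem_Q hF hm a b⟩
  have hs'' : s' * H hF c hc * s'⁻¹ * (H hF c hc)⁻¹ = T hF a b := congrArg Subtype.val hs'
  obtain ⟨a', b', rfl⟩ := (mem_Q hF hm).1 hs'Q
  refine ⟨a', b', hs'M, ?_⟩
  have hx : T hF a b * H hF c hc = T hF a' b' * H hF c hc * (T hF a' b')⁻¹ := by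
    rw [← hs'']; group
  have hfix : (T hF a b * H hF c hc) • oPt m a' b' = oPt m a' b' := by
    rw [hx, mul_smul, mul_smul, ← T_oPt_zero hF a' b', inv_smul_smul, H_oPt_zero]
  by_contra hcon
  exact hx1 (three_point hF hm _ (oInf F m) β (oPt m a' b') (Ne.symm hmove) hcon
    (Ne.symm (oPt_ne_oInf a' b')) (e ▸ hxinf) hxβ hfix)

theorem unip_of_E {b : F} (hb : b ≠ 0) (hbM : T hF 0 b ∈ M) : T hF (b / sg m b) 0 ∈ M := by
  have hgM : W hF * T hF 0 b * W hF ∈ M := M.mul_mem (M.mul_mem hW hbM) hW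
  have hf : fS m 0 b = sg m b := by rw [fS_eq, sg_zero]; ring
  have hg : (W hF * T hF 0 b * W hF) • oInf F m = oPt m (b / sg m b) 0 := by
    rw [mul_smul, mul_smul, W_oInf, T_oPt_zero, W_oPt hF (by rw [hf]; exact sg_ne_zero hb), hf,
      zero_div]
  obtain ⟨a', b', hM', e⟩ := orbit_inf hF hm M hb₁ h₁ hW hb₂ hne h₂ hgM
    (by rw [hg]; exact oPt_ne_oInf _ _)
  rw [hg] at e
  obtain ⟨rfl, rfl⟩ := oPt_inj e
  exact hM'

theorem inv_mem_E {b : F} (hb : b ≠ 0) (hbM : T hF 0 b ∈ M) : T hF 0 b⁻¹ ∈ M := by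
  have h := unip_of_E hF hm M hb₁ h₁ hW hb₂ hne h₂ hb hbM
  have h2 := M.mul_mem h h
  rw [T_sq hF hm, sg_div, sg_sg hF] at h2
  have hs : sg m b ≠ 0 := sg_ne_zero hb
  have e : b / sg m b * (sg m b / b ^ 2) = b⁻¹ := by
    field_simp
  rwa [e] at h2

theorem b₁_mem_N : ∃ (c : F) (hc : c ≠ 0), H hF c hc ∈ M ∧ c ^ 2 * sg m c = b₁ := by
  obtain ⟨c, hc, hcM, e⟩ := exists_torus hF hm M hb₁ h₁ hW (inv_ne_zero hb₁)
    (inv_mem_E hF hm M hb₁ h₁ hW hb₂ hne h₂ hb₁ h₁)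
  refine ⟨(c⁻¹) ^ (2 ^ (2 * m)), pow_ne_zero _ (inv_ne_zero hc), ?_, ?_⟩
  · rw [H_pow' hF c⁻¹ (inv_ne_zero hc), ← H_inv hF c hc]
    exact M.pow_mem (M.inv_mem hcM) _
  · have hs : sg m c ≠ 0 := sg_ne_zero hc
    have e2 : (c⁻¹) ^ 2 * sg m c⁻¹ = b₁ ^ 2 := by
      rw [sg_inv]
      field_simp
      field_simp at e
      linear_combination (-1 : F) * e
    rw [sg_pow, ← pow_mul, mul_comm (2 ^ (2 * m)) 2, pow_mul, ← mul_pow, e2, pow_half hF]

theorem one_mem_E : T hF 0 1 ∈ M := by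
  obtain ⟨c, hc, hcM, e⟩ := b₁_mem_N hF hm M hb₁ h₁ hW hb₂ hne h₂
  have h := M.mul_mem (M.mul_mem (M.inv_mem hcM) h₁) (M.inv_mem (M.inv_mem hcM))
  rw [H_inv hF c hc, H_T_H hF hm, mul_zero, ← e, sg_inv] at h
  have hs : sg m c ≠ 0 := sg_ne_zero hc
  have e2 : c⁻¹ ^ 2 * (sg m c)⁻¹ * (c ^ 2 * sg m c) = 1 := by
    field_simp
  rwa [e2] at h

theorem mem_E_iff {b : F} (hb : b ≠ 0) :
    T hF 0 b ∈ M ↔ ∃ (c : F) (hc : c ≠ 0), H hF c hc ∈ M ∧ c ^ 2 * sg m c = b := by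
  constructor
  · intro hbM
    obtain ⟨c, hc, hcM, e⟩ := exists_torus hF hm M hb₁ h₁ hW hb hbM
    obtain ⟨c₁, hc₁, hc₁M, e₁⟩ := b₁_mem_N hF hm M hb₁ h₁ hW hb₂ hne h₂
    refine ⟨c * c₁, mul_ne_zero hc hc₁, ?_, ?_⟩
    · rw [H_mul hF c c₁ hc hc₁]; exact M.mul_mem hcM hc₁M
    · rw [← e, ← e₁, sg_mul]; ring
  · rintro ⟨c, hc, hcM, rfl⟩
    have h := M.mul_mem (M.mul_mem hcM (one_mem_E hF hm M hb₁ h₁ hW hb₂ hne h₂)) (M.inv_mem hcM)
    rwa [H_T_H hF hm, mul_zero, mul_one] at h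

/-- the subfield attached to `M` -/
theorem exists_field : ∃ K : Subfield F, ∀ b, b ∈ K ↔ T hF 0 b ∈ M := by
  refine ⟨{ carrier := {b | T hF 0 b ∈ M}
            mul_mem' := ?_
            one_mem' := one_mem_E hF hm M hb₁ h₁ hW hb₂ hne h₂
            add_mem' := ?_
            zero_mem' := ?_
            neg_mem' := ?_
            inv_mem' := ?_ }, fun b => Iff.rfl⟩
  · intro a b ha hb
    by_cases ha0 : a = 0
    · subst ha0
      show T hF 0 (0 * b) ∈ M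
      rw [zero_mul, T_zero hF hm]; exact M.one_mem
    · obtain ⟨c, hc, hcM, rfl⟩ := (mem_E_iff hF hm M hb₁ h₁ hW hb₂ hne h₂ ha0).1 ha
      have h := M.mul_mem (M.mul_mem hcM hb) (M.inv_mem hcM)
      rwa [H_T_H hF hm, mul_zero] at h
  · intro a b ha hb
    show T hF 0 (a + b) ∈ M
    rw [← T0_mul hF hm]; exact M.mul_mem ha hb
  · show T hF 0 0 ∈ M
    rw [T_zero hF hm]; exact M.one_mem
  · intro a ha
    show T hF 0 (-a) ∈ M
    rw [neg_eq hF]; exact ha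
  · intro a ha
    by_cases ha0 : a = 0
    · subst ha0
      show T hF 0 (0 : F)⁻¹ ∈ M
      rw [inv_zero]; exact ha
    · exact inv_mem_E hF hm M hb₁ h₁ hW hb₂ hne h₂ ha0 ha

/-- structure of a subgroup containing `W` and two involutions fixing infinity -/
theorem normalized_main : ∃ K : Subfield F, b₁ ∈ K ∧ b₂ ∈ K ∧
    (∀ a b, a ∈ K → b ∈ K → T hF a b ∈ M) ∧
    ∀ g ∈ M, (∃ (a b c : F) (hc : c ≠ 0), a ∈ K ∧ b ∈ K ∧ c ∈ K ∧ g = T hF a b * H hF c hc) ∨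
      (∃ (a b a' b' c : F) (hc : c ≠ 0), a ∈ K ∧ b ∈ K ∧ a' ∈ K ∧ b' ∈ K ∧ c ∈ K ∧
        g = T hF a b * W hF * (T hF a' b' * H hF c hc)) := by
  obtain ⟨K, hK⟩ := exists_field hF hm M hb₁ h₁ hW hb₂ hne h₂
  have hsg : ∀ x, x ∈ K → sg m x ∈ K := fun x hx => K.pow_mem hx _
  have hK6 : ∀ a, a ∈ K → T hF a 0 ∈ M := by
    intro a ha
    by_cases ha0 : a = 0
    · subst ha0
      rw [T_zero hF hm]; exact M.one_mem
    · have hs : sg m a ≠ 0 := sg_ne_zero ha0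
      have hb0 : (a * sg m a)⁻¹ ≠ 0 := inv_ne_zero (mul_ne_zero ha0 hs)
      have hbK : (a * sg m a)⁻¹ ∈ K := K.inv_mem (K.mul_mem ha (hsg a ha))
      have h := unip_of_E hF hm M hb₁ h₁ hW hb₂ hne h₂ hb0 ((hK _).1 hbK)
      have e : (a * sg m a)⁻¹ / sg m (a * sg m a)⁻¹ = a := by
        rw [sg_inv, sg_mul, sg_sg hF]
        field_simp
      rwa [e] at h
  have hK7 : ∀ a b, T hF a b ∈ M → a ∈ K ∧ b ∈ K := by
    intro a b hab
    have h2 := M.mul_mem hab hab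
    rw [T_sq hF hm] at h2
    have hd : a * sg m a ∈ K := (hK _).2 h2
    have ha : a ∈ K := by
      by_cases ha0 : a = 0
      · rw [ha0]; exact K.zero_mem
      · have hs : sg m a ≠ 0 := sg_ne_zero ha0
        have e : a = sg m (a * sg m a) / (a * sg m a) := by
          rw [sg_mul, sg_sg hF]
          field_simp
        rw [e]
        exact K.div_mem (hsg _ hd) hd
    refine ⟨ha, (hK _).2 ?_⟩
    have e : T hF 0 b = (T hF a 0)⁻¹ * T hF a b := by
      rw [eq_inv_mul_iff_mul_eq, T_mul hF hm]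
      congr 1 <;> ring
    rw [e]
    exact M.mul_mem (M.inv_mem (hK6 a ha)) hab
  have hK8 : ∀ (c : F) (hc : c ≠ 0), H hF c hc ∈ M → c ∈ K := by
    intro c hc hcM
    have hs : sg m c ≠ 0 := sg_ne_zero hc
    have hd0 : c ^ 2 * sg m c ≠ 0 := mul_ne_zero (pow_ne_zero _ hc) hs
    have hd : c ^ 2 * sg m c ∈ K :=
      (hK _).2 ((mem_E_iff hF hm M hb₁ h₁ hW hb₂ hne h₂ hd0).2 ⟨c, hc, hcM, rfl⟩)
    have h1 : sg m c ∈ K := by
      have e : sg m c = sg m (c ^ 2 * sg m c) / (c ^ 2 * sg m c) := by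
        rw [sg_mul, sg_pow, sg_sg hF]
        field_simp
      rw [e]
      exact K.div_mem (hsg _ hd) hd
    have h2 : c ^ 2 ∈ K := by
      rw [← sg_sg hF]; exact hsg _ h1
    rw [← pow_half hF c]
    exact K.pow_mem h2 _
  refine ⟨K, (hK _).2 h₁, (hK _).2 h₂, ?_, ?_⟩
  · intro a b ha hb
    have e : T hF a b = T hF a 0 * T hF 0 b := by
      rw [T_mul hF hm]
      congr 1 <;> ring
    rw [e]
    exact M.mul_mem (hK6 a ha) ((hK _).1 hb)
  · intro g hg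
    have hstab : ∀ x ∈ M, x • oInf F m = oInf F m →
        ∃ (a b c : F) (hc : c ≠ 0), a ∈ K ∧ b ∈ K ∧ c ∈ K ∧ x = T hF a b * H hF c hc := by
      intro x hx hfix
      obtain ⟨a, b, c, hc, rfl⟩ := stab_one' hF hm hfix
      obtain ⟨h3, h4⟩ := split_stab hF hm M hb₁ h₁ hW hx
      obtain ⟨h5, h6⟩ := hK7 a b h4
      exact ⟨a, b, c, hc, h5, h6, hK8 c hc h3, rfl⟩
    by_cases hfix : g • oInf F m = oInf F m
    · exact Or.inl (hstab g hg hfix)
    · right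
      obtain ⟨a, b, hab, e⟩ := orbit_inf hF hm M hb₁ h₁ hW hb₂ hne h₂ hg hfix
      obtain ⟨h5, h6⟩ := hK7 a b hab
      obtain ⟨a', b', c, hc, h7, h8, h9, e2⟩ := hstab (W hF * (T hF a b)⁻¹ * g)
        (M.mul_mem (M.mul_mem hW (M.inv_mem hab)) hg)
        (by rw [mul_smul, mul_smul, e, ← T_oPt_zero hF a b, inv_smul_smul, W_oPt_zero])
      refine ⟨a, b, a', b', c, hc, h5, h6, h7, h8, h9, ?_⟩
      rw [← e2]
      have : T hF a b * W hF * (W hF * (T hF a b)⁻¹ * g)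
          = T hF a b * (W hF * W hF) * (T hF a b)⁻¹ * g := by group
      rw [this, W_mul_self]
      group

end normalized

omit hF in
theorem subfield_pow_card (K₀ : Subfield F) {x : F} (hx : x ∈ K₀) : x ^ Nat.card K₀ = x := by
  have : Fintype K₀ := Fintype.ofFinite K₀
  have h := FiniteField.pow_card (⟨x, hx⟩ : K₀)
  rw [Nat.card_eq_fintype_card]
  exact congrArg Subtype.val h

omit hF in
/-- roots of `X^|K| - X` lie in the image of `K` -/
theorem mem_range_of_pow {K : Type*} [Field K] [Fintype K] (ι : K →+* F) {x : F}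
    (hx : x ^ Fintype.card K = x) : ∃ y, ι y = x := by
  classical
  have hs : 1 < Fintype.card K := Fintype.one_lt_card
  set P : Polynomial F := Polynomial.X ^ Fintype.card K - Polynomial.X with hP
  have hP0 : P ≠ 0 := FiniteField.X_pow_card_sub_X_ne_zero F hs
  have hdeg : P.natDegree = Fintype.card K := FiniteField.X_pow_card_sub_X_natDegree_eq F hs
  have hsub : Finset.univ.image ι ⊆ P.roots.toFinset := by
    intro y hy
    obtain ⟨z, -, rfl⟩ := Finset.mem_image.1 hy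
    rw [Multiset.mem_toFinset, Polynomial.mem_roots hP0, Polynomial.IsRoot.def, hP]
    simp only [Polynomial.eval_sub, Polynomial.eval_pow, Polynomial.eval_X]
    rw [← map_pow, FiniteField.pow_card, sub_self]
  have hcard : P.roots.toFinset.card ≤ (Finset.univ.image ι).card := by
    rw [Finset.card_image_of_injective _ ι.injective, Finset.card_univ, ← hdeg]
    exact (Multiset.toFinset_card_le _).trans (Polynomial.card_roots' P)
  have heq := Finset.eq_of_subset_of_card_le hsub hcard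
  have : x ∈ P.roots.toFinset := by
    rw [Multiset.mem_toFinset, Polynomial.mem_roots hP0, Polynomial.IsRoot.def, hP]
    simp only [Polynomial.eval_sub, Polynomial.eval_pow, Polynomial.eval_X]
    rw [hx, sub_self]
  rw [← heq] at this
  obtain ⟨y, -, h⟩ := Finset.mem_image.1 this
  exact ⟨y, h⟩

theorem field_data (K₀ : Subfield F) {b₁ b₂ : F} (h₁ : b₁ ∈ K₀) (h₂ : b₂ ∈ K₀) (hb₁ : b₁ ≠ 0)
    (hb₂ : b₂ ≠ 0) (hne : b₁ ≠ b₂) :
    ∃ k, 1 ≤ k ∧ 2 * k + 1 ∣ 2 * m + 1 ∧ Nat.card K₀ = 2 ^ (2 * k + 1) := by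
  have h := Module.natCard_eq_pow_finrank (K := K₀) (V := F)
  rw [Nat.card_eq_fintype_card, hF] at h
  have hpos : 0 < Module.finrank K₀ F := Module.finrank_pos
  have hdvd : Nat.card K₀ ∣ 2 ^ (2 * m + 1) := by
    rw [h]; exact dvd_pow_self _ hpos.ne'
  obtain ⟨n, -, hn⟩ := (Nat.dvd_prime_pow Nat.prime_two).1 hdvd
  have hnd := subfield_card_dvd hF K₀ hn
  obtain ⟨k, hk⟩ : ∃ k, n = 2 * k + 1 := by
    rcases Nat.even_or_odd' n with ⟨e, he | he⟩
    · exfalso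
      obtain ⟨d, hd⟩ := hnd
      rw [he] at hd
      have : 2 * m + 1 = 2 * (e * d) := by rw [hd]; ring
      omega
    · exact ⟨e, he⟩
  subst hk
  refine ⟨k, ?_, hnd, hn⟩
  by_contra hk
  have hk0 : k = 0 := by omega
  subst hk0
  have key : ∀ x ∈ K₀, x ≠ 0 → x = 1 := by
    intro x hx hx0
    have := subfield_pow_card K₀ hx
    rw [hn] at this
    have h3 : x * x = x * 1 := by
      rw [mul_one]
      simpa [pow_two] using this
    exact mul_left_cancel₀ hx0 h3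
  exact hne ((key b₁ h₁ hb₁).trans (key b₂ h₂ hb₂).symm)

/-- a proper subgroup containing `W` and two involutions fixing infinity lies in a subfield
subgroup -/
theorem normalized_le_emb (hm : 1 ≤ m) (M : Subgroup (Sz F m)) (hM : M ≠ ⊤) {b₁ b₂ : F}
    (hb₁ : b₁ ≠ 0) (h₁ : T hF 0 b₁ ∈ M) (hW : W hF ∈ M) (hb₂ : b₂ ≠ 0) (hne : b₁ ≠ b₂)
    (h₂ : T hF 0 b₂ ∈ M) :
    ∃ (K : Type) (_ : Field K) (_ : Fintype K) (k : ℕ), 1 ≤ k ∧ k < m ∧
      Fintype.card K = 2 ^ (2 * k + 1) ∧ 2 * k + 1 ∣ 2 * m + 1 ∧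
      ∃ φ : Sz K k →* Sz F m, Function.Injective φ ∧ M ≤ φ.range := by
  obtain ⟨K₀, hk₁, hk₂, hT, hall⟩ := normalized_main hF hm M hb₁ h₁ hW hb₂ hne h₂
  obtain ⟨k, hk, hdiv, hcard⟩ := field_data hF K₀ hk₁ hk₂ hb₁ hb₂ hne
  have : Fact (Nat.Prime 2) := ⟨Nat.prime_two⟩
  let _ : Fintype (GaloisField 2 (2 * k + 1)) := Fintype.ofFinite _
  have hK : Fintype.card (GaloisField 2 (2 * k + 1)) = 2 ^ (2 * k + 1) := by
    rw [← Nat.card_eq_fintype_card, GaloisField.card 2 (2 * k + 1) (by omega)]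
  have hkm : k < m := by
    by_contra hcon
    have hle := Nat.le_of_dvd (by omega) hdiv
    have hkm : k = m := by omega
    subst hkm
    have htop : ∀ x : F, x ∈ K₀ := by
      have h1 : K₀.toAddSubgroup = ⊤ := by
        apply AddSubgroup.eq_top_of_card_eq
        rw [Nat.card_eq_fintype_card (α := F), hF, ← hcard]
        rfl
      intro x
      have : x ∈ K₀.toAddSubgroup := h1 ▸ AddSubgroup.mem_top x
      exact this
    apply hM
    apply eq_top_of_T_W hF hm M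
    · intro a b
      exact hT a b (htop a) (htop b)
    · intro a b
      exact M.mul_mem (M.mul_mem hW (hT a b (htop a) (htop b))) hW
  obtain ⟨ι⟩ := exists_iota hK hF hdiv
  have hι : ∀ x ∈ K₀, ∃ y, ι y = x := by
    intro x hx
    apply mem_range_of_pow ι
    rw [hK, ← hcard]
    exact subfield_pow_card K₀ hx
  refine ⟨GaloisField 2 (2 * k + 1), inferInstance, inferInstance, k, hk, hkm, hK, hdiv,
    Emb hK hF hk ι (iota_sg hK hdiv ι), Emb_injective hK hF hk ι (iota_sg hK hdiv ι), ?_⟩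
  have hTr : ∀ a b, a ∈ K₀ → b ∈ K₀ → T hF a b ∈ (Emb hK hF hk ι (iota_sg hK hdiv ι)).range := by
    intro a b ha hb
    obtain ⟨a', rfl⟩ := hι a ha
    obtain ⟨b', rfl⟩ := hι b hb
    exact ⟨T hK a' b', Emb_T hK hF hk ι _ a' b'⟩
  have hHr : ∀ (c : F) (hc : c ≠ 0), c ∈ K₀ →
      H hF c hc ∈ (Emb hK hF hk ι (iota_sg hK hdiv ι)).range := by
    intro c hc hcK
    obtain ⟨c', rfl⟩ := hι c hcK
    exact ⟨H hK c' ((map_ne_zero ι).1 hc), Emb_H hK hF hk ι _ c' _⟩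
  have hWr : W hF ∈ (Emb hK hF hk ι (iota_sg hK hdiv ι)).range := ⟨W hK, Emb_W hK hF hk ι _⟩
  intro g hg
  rcases hall g hg with ⟨a, b, c, hc, ha, hb, hcK, rfl⟩ | ⟨a, b, a', b', c, hc, ha, hb, ha', hb', hcK, rfl⟩
  · exact Subgroup.mul_mem _ (hTr a b ha hb) (hHr c hc hcK)
  · exact Subgroup.mul_mem _ (Subgroup.mul_mem _ (hTr a b ha hb) hWr)
      (Subgroup.mul_mem _ (hTr a' b' ha' hb') (hHr c hc hcK))

theorem pow_half' (x : F) : (x ^ (2 ^ (2 * m))) ^ 2 = x := by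
  rw [← pow_mul, ← pow_succ, ← hF, FiniteField.pow_card]

/-- a proper subgroup with two involutions fixing a point which it moves lies in a subfield
subgroup -/
theorem subfield_case (hm : 1 ≤ m) (M : Subgroup (Sz F m)) (hM : M ≠ ⊤) {s₁ s₂ : Sz F m}
    (hs₁ : orderOf s₁ = 2) (hs₂ : orderOf s₂ = 2) (hne : s₁ ≠ s₂) (h₁ : s₁ ∈ M) (h₂ : s₂ ∈ M)
    {α : suzukiOvoid F m} (hα₁ : s₁ • α = α) (hα₂ : s₂ • α = α) {g₀ : Sz F m} (hg₀ : g₀ ∈ M)
    (hmove : g₀ • α ≠ α) :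
    ∃ (K : Type) (_ : Field K) (_ : Fintype K) (k : ℕ), 1 ≤ k ∧ k < m ∧
      Fintype.card K = 2 ^ (2 * k + 1) ∧ 2 * k + 1 ∣ 2 * m + 1 ∧
      ∃ S : Subgroup (Sz F m), Nonempty (S ≃* Sz K k) ∧ M ≤ S := by
  obtain ⟨k₁, hk₁a, hk₁b⟩ := exists_map_pair hF (a := α) (b := g₀ • α) (Ne.symm hmove)
  obtain ⟨b₁, e₁⟩ := conj_invol hF hm (x := s₁) (k := k₁) (invol_mul_self hF hs₁)
    (by rw [hk₁a, hα₁])
  obtain ⟨b₂, e₂⟩ := conj_invol hF hm (x := s₂) (k := k₁) (invol_mul_self hF hs₂)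
    (by rw [hk₁a, hα₂])
  have e₁' : s₁ = k₁ * T hF 0 b₁ * k₁⁻¹ := by rw [← e₁]; group
  have e₂' : s₂ = k₁ * T hF 0 b₂ * k₁⁻¹ := by rw [← e₂]; group
  have hb₁ : b₁ ≠ 0 := by
    rintro rfl
    rw [T_zero hF hm, mul_one, mul_inv_cancel] at e₁'
    rw [e₁', orderOf_one] at hs₁
    omega
  have hb₂ : b₂ ≠ 0 := by
    rintro rfl
    rw [T_zero hF hm, mul_one, mul_inv_cancel] at e₂'
    rw [e₂', orderOf_one] at hs₂
    omega
  have hbne : b₁ ≠ b₂ := by
    rintro rfl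
    exact hne (e₁'.trans e₂'.symm)
  -- first conjugate
  let M₁ : Subgroup (Sz F m) := M.comap (MulAut.conj k₁).toMonoidHom
  have hM₁ : ∀ x, x ∈ M₁ ↔ k₁ * x * k₁⁻¹ ∈ M := fun x => Iff.rfl
  have hT₁ : T hF 0 b₁ ∈ M₁ := by rw [hM₁, ← e₁']; exact h₁
  have hg₁ : k₁⁻¹ * g₀ * k₁ ∈ M₁ := by
    rw [hM₁]
    have : k₁ * (k₁⁻¹ * g₀ * k₁) * k₁⁻¹ = g₀ := by group
    rw [this]; exact hg₀
  have hg₁z : (k₁⁻¹ * g₀ * k₁) • oInf F m = oPt m 0 0 := by
    rw [mul_smul, mul_smul, hk₁a, ← hk₁b, inv_smul_smul]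
  obtain ⟨w, hwM, hw1, hw2, -⟩ := exists_swap hF hm M₁ hb₁ hT₁ hg₁
    (by rw [hg₁z]; exact oPt_ne_oInf 0 0) hb₁ hT₁
  rw [hg₁z] at hw1 hw2
  obtain ⟨c₀, hc₀, e⟩ := stab_two' hF hm (g := w * W hF)
    (by rw [mul_smul, W_oInf, hw2]) (by rw [mul_smul, W_oPt_zero, hw1])
  have hw : w = H hF c₀ hc₀ * W hF := by
    rw [← e, mul_assoc, W_mul_self, mul_one]
  -- second conjugate
  set d : F := (c₀⁻¹) ^ (2 ^ (2 * m)) with hd
  have hd0 : d ≠ 0 := pow_ne_zero _ (inv_ne_zero hc₀)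
  have hd2 : d ^ 2 = c₀⁻¹ := pow_half' hF _
  set k : Sz F m := k₁ * (H hF d hd0)⁻¹ with hk
  let M₂ : Subgroup (Sz F m) := M.comap (MulAut.conj k).toMonoidHom
  have hM₂ : ∀ x, x ∈ M₂ ↔ (H hF d hd0)⁻¹ * x * H hF d hd0 ∈ M₁ := by
    intro x
    rw [hM₁]
    have : k₁ * ((H hF d hd0)⁻¹ * x * H hF d hd0) * k₁⁻¹ = k * x * k⁻¹ := by
      rw [hk]; group
    rw [this]
    exact Iff.rfl
  have hW₂ : W hF ∈ M₂ := by
    rw [hM₂]
    have : (H hF d hd0)⁻¹ * W hF * H hF d hd0 = w := by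
      rw [mul_assoc, W_H, H_inv hF d hd0, ← mul_assoc, ← H_mul, hw]
      congr 1
      apply H_congr hF
      rw [← mul_inv, ← pow_two, hd2, inv_inv]
    rw [this]; exact hwM
  have hT₂ : ∀ b, T hF 0 b ∈ M₁ → T hF 0 (d ^ 2 * sg m d * b) ∈ M₂ := by
    intro b hb
    rw [hM₂]
    have : (H hF d hd0)⁻¹ * T hF 0 (d ^ 2 * sg m d * b) * H hF d hd0 = T hF 0 b := by
      have h3 := H_T_H hF hm d hd0 0 b
      rw [mul_zero] at h3
      rw [← h3]; group
    rw [this]; exact hb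
  have hν : d ^ 2 * sg m d ≠ 0 := mul_ne_zero (pow_ne_zero _ hd0) (sg_ne_zero hd0)
  have hM₂top : M₂ ≠ ⊤ := by
    intro h
    apply hM
    rw [eq_top_iff]
    intro y _
    have : k⁻¹ * y * k ∈ M₂ := h ▸ Subgroup.mem_top _
    have h4 : k * (k⁻¹ * y * k) * k⁻¹ ∈ M := this
    have h5 : k * (k⁻¹ * y * k) * k⁻¹ = y := by group
    rwa [h5] at h4
  obtain ⟨K, iK, iK', kk, hkk, hkm, hcard, hdiv, φ, hφ, hle⟩ :=
    normalized_le_emb hF hm M₂ hM₂top (mul_ne_zero hν hb₁) (hT₂ b₁ hT₁) hW₂ (mul_ne_zero hν hb₂)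
      (fun h => hbne (mul_left_cancel₀ hν h))
      (hT₂ b₂ (by rw [hM₁, ← e₂']; exact h₂))
  refine ⟨K, iK, iK', kk, hkk, hkm, hcard, hdiv, φ.range.map (MulAut.conj k).toMonoidHom,
    ⟨((φ.range.equivMapOfInjective _ (MulAut.conj k).injective).symm.trans
      (MonoidHom.ofInjective hφ).symm)⟩, ?_⟩
  intro y hy
  have h6 : k⁻¹ * y * k ∈ M₂ := by
    show k * (k⁻¹ * y * k) * k⁻¹ ∈ M
    have h5 : k * (k⁻¹ * y * k) * k⁻¹ = y := by group
    rw [h5]; exact hy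
  refine ⟨k⁻¹ * y * k, hle h6, ?_⟩
  show k * (k⁻¹ * y * k) * k⁻¹ = y
  group

end Cfsg.Agent.Lib.Helper8SzMax
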