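import Cfsg.Agent.Lib.Helper8SzAut

set_option autoImplicit false
set_option linter.unusedVariables false
set_option linter.unusedSectionVars false
set_option linter.unusedSimpArgs false

namespace Cfsg.Agent.Lib.Helper8SzSub

open Cfsg Cfsg.Agent.Lib.Helper8Sz Cfsg.Agent.Lib.Helper8Sz2 Cfsg.Agent.Lib.Helper8Sz3
  Cfsg.Agent.Lib.Helper8Sz4 Cfsg.Agent.Lib.Helper8Sz5 Cfsg.Agent.Lib.Helper8Sz7
  Cfsg.Agent.Lib.Helper8Sz8 Cfsg.Agent.Lib.Helper8Cover Cfsg.Agent.Lib.Helper8SzAut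

/-- two embeddings of a finite field have the same image -/
theorem range_le {K F : Type*} [Field K] [Fintype K] [Field F] [Fintype F] (ι₁ ι₂ : K →+* F)
    (a : K) : ∃ a' : K, ι₁ a = ι₂ a' := by
  classical
  have hs : 1 < Fintype.card K := Fintype.one_lt_card
  set P : Polynomial F := Polynomial.X ^ Fintype.card K - Polynomial.X with hP
  have hP0 : P ≠ 0 := FiniteField.X_pow_card_sub_X_ne_zero F hs
  have hdeg : P.natDegree = Fintype.card K := FiniteField.X_pow_card_sub_X_natDegree_eq F hs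
  have hroot : ∀ (ι : K →+* F) (x : K), ι x ∈ P.roots.toFinset := by
    intro ι x
    rw [Multiset.mem_toFinset, Polynomial.mem_roots hP0, Polynomial.IsRoot.def, hP]
    simp only [Polynomial.eval_sub, Polynomial.eval_pow, Polynomial.eval_X]
    rw [← map_pow, FiniteField.pow_card, sub_self]
  have hsub : Finset.univ.image ι₂ ⊆ P.roots.toFinset := by
    intro y hy
    obtain ⟨x, -, rfl⟩ := Finset.mem_image.1 hy
    exact hroot ι₂ x
  have hcard : P.roots.toFinset.card ≤ (Finset.univ.image ι₂).card := by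
    rw [Finset.card_image_of_injective _ ι₂.injective, Finset.card_univ, ← hdeg]
    exact (Multiset.toFinset_card_le _).trans (Polynomial.card_roots' P)
  have heq := Finset.eq_of_subset_of_card_le hsub hcard
  have := hroot ι₁ a
  rw [← heq] at this
  obtain ⟨a', -, h⟩ := Finset.mem_image.1 this
  exact ⟨a', h.symm⟩

variable {K : Type*} [Field K] [Fintype K] {k : ℕ} (hK : Fintype.card K = 2 ^ (2 * k + 1))
variable {F : Type*} [Field F] [Fintype F] {m : ℕ} (hF : Fintype.card F = 2 ^ (2 * m + 1))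

include hK in
/-- compatibility of the two Tits endomorphisms -/
theorem iota_sg (hdiv : 2 * k + 1 ∣ 2 * m + 1) (ι : K →+* F) (x : K) :
    ι (sg k x) = sg m (ι x) := by
  obtain ⟨d, hd⟩ := hdiv
  -- d is odd
  obtain ⟨e, he⟩ : ∃ e, d = 2 * e + 1 := by
    rcases Nat.even_or_odd' d with ⟨e, he | he⟩
    · exfalso
      rw [he] at hd
      have : 2 * m + 1 = 2 * ((2 * k + 1) * e) := by rw [hd]; ring
      omega
    · exact ⟨e, he⟩
  have hm1 : m + 1 = (2 * k + 1) * e + (k + 1) := by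
    rw [he] at hd
    have : 2 * m + 1 = 2 * ((2 * k + 1) * e + k) + 1 := by rw [hd]; ring
    omega
  have e1 : x ^ (2 ^ (m + 1)) = x ^ (2 ^ (k + 1)) := by
    rw [hm1, pow_add 2, pow_mul 2, ← hK, mul_comm (Fintype.card K ^ e), pow_mul x,
      FiniteField.pow_card_pow]
  unfold sg
  rw [← map_pow, e1]

omit [Fintype K] [Fintype F] in
theorem iota_fS (ι : K →+* F) (h : ∀ x, ι (sg k x) = sg m (ι x)) (x y : K) :
    ι (fS k x y) = fS m (ι x) (ι y) := by
  rw [fS_eq, fS_eq, map_add, map_add, map_mul, map_mul, map_pow, h, h]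

/-- entrywise map -/
def emap (ι : K →+* F) :
    Matrix.SpecialLinearGroup (Fin 4) K →* Matrix.SpecialLinearGroup (Fin 4) F :=
  Matrix.SpecialLinearGroup.map ι

omit [Fintype K] [Fintype F] in
theorem emap_apply (ι : K →+* F) (g : Matrix.SpecialLinearGroup (Fin 4) K) (i j : Fin 4) :
    (emap ι g) i j = ι (g i j) := rfl

omit [Fintype K] [Fintype F] in
theorem emap_tS (ι : K →+* F) (h : ∀ x, ι (sg k x) = sg m (ι x)) (a b : K) :
    emap ι (tS k a b) = tS m (ι a) (ι b) := by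
  ext i j
  rw [emap_apply]
  fin_cases i <;> fin_cases j <;> simp [tS, tMat, h, iota_fS ι h]

omit [Fintype K] [Fintype F] in
theorem emap_wS (ι : K →+* F) : emap ι (wS : Matrix.SpecialLinearGroup (Fin 4) K) = wS := by
  ext i j
  rw [emap_apply]
  fin_cases i <;> fin_cases j <;> simp [wS, suzukiForm]

omit [Fintype K] [Fintype F] in
theorem emap_hS (ι : K →+* F) (h : ∀ x, ι (sg k x) = sg m (ι x)) (c : K) (hc : c ≠ 0) :
    emap ι (hS k c hc) = hS m (ι c) ((map_ne_zero ι).2 hc) := by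
  ext i j
  rw [emap_apply]
  fin_cases i <;> fin_cases j <;> simp [hS, hMat, h]

omit [Fintype K] [Fintype F] in
theorem emap_injective (ι : K →+* F) : Function.Injective (emap ι) := by
  intro g g' h
  ext i j
  apply ι.injective
  rw [← emap_apply, ← emap_apply, h]

include hK hF in
theorem emap_mem (hk : 1 ≤ k) (ι : K →+* F) (h : ∀ x, ι (sg k x) = sg m (ι x))
    {g : Matrix.SpecialLinearGroup (Fin 4) K} (hg : g ∈ Sz K k) : emap ι g ∈ Sz F m := by
  rcases Sz_decomp hK hk hg with ⟨a, b, c, hc, rfl⟩ | ⟨a, b, a', b', c, hc, rfl⟩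
  · rw [map_mul, emap_tS ι h, emap_hS ι h]
    exact Subgroup.mul_mem _ (tS_mem hF _ _) (hS_mem hF _ _)
  · rw [map_mul, map_mul, map_mul, emap_tS ι h, emap_tS ι h, emap_hS ι h, emap_wS]
    exact Subgroup.mul_mem _ (Subgroup.mul_mem _ (tS_mem hF _ _) (wS_mem hF))
      (Subgroup.mul_mem _ (tS_mem hF _ _) (hS_mem hF _ _))

/-- the subfield embedding of Suzuki groups -/
def Emb (hk : 1 ≤ k) (ι : K →+* F) (h : ∀ x, ι (sg k x) = sg m (ι x)) : Sz K k →* Sz F m where
  toFun g := ⟨emap ι g.1, emap_mem hK hF hk ι h g.2⟩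
  map_one' := Subtype.ext (map_one (emap ι))
  map_mul' g g' := Subtype.ext (map_mul (emap ι) g.1 g'.1)

theorem Emb_injective (hk : 1 ≤ k) (ι : K →+* F) (h : ∀ x, ι (sg k x) = sg m (ι x)) :
    Function.Injective (Emb hK hF hk ι h) := by
  intro g g' e
  exact Subtype.ext (emap_injective ι (congrArg Subtype.val e))

theorem Emb_T (hk : 1 ≤ k) (ι : K →+* F) (h : ∀ x, ι (sg k x) = sg m (ι x)) (a b : K) :
    Emb hK hF hk ι h (T hK a b) = T hF (ι a) (ι b) := Subtype.ext (emap_tS ι h a b)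

theorem Emb_H (hk : 1 ≤ k) (ι : K →+* F) (h : ∀ x, ι (sg k x) = sg m (ι x)) (c : K)
    (hc : c ≠ 0) :
    Emb hK hF hk ι h (H hK c hc) = H hF (ι c) ((map_ne_zero ι).2 hc) :=
  Subtype.ext (emap_hS ι h c hc)

theorem Emb_W (hk : 1 ≤ k) (ι : K →+* F) (h : ∀ x, ι (sg k x) = sg m (ι x)) :
    Emb hK hF hk ι h (W hK) = W hF := Subtype.ext (emap_wS ι)

theorem W_oPt {x y : F} (h : fS m x y ≠ 0) :
    W hF • oPt m x y = oPt m (y / fS m x y) (x / fS m x y) := Subtype.ext (wS_pt hF h)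

section rigid
variable (hk : 1 ≤ k) (hm : 1 ≤ m) (φ : Sz K k →* Sz F m) (hφ : Function.Injective φ)
include hK hF hk hm hφ

theorem emb_Q (N1 : φ (T hK 0 1) • oInf F m = oInf F m) (a b : K) :
    ∃ a' b', φ (T hK a b) = T hF a' b' := by
  have ho : orderOf (φ (T hK 0 1)) = 2 := by rw [orderOf_injective φ hφ, orderOf_T01 hK hk]
  have hu := invol_unique hF hm ho N1
  have hcomm : φ (T hK a b) * φ (T hK 0 1) = φ (T hK 0 1) * φ (T hK a b) := by
    rw [← map_mul, ← map_mul, T_comm hK hk]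
  have hfix := fix_of_comm_unique N1 hu hcomm
  exact mem_Q_of_fix hF hm hfix (by rw [← map_pow, T_pow_four hK hk, map_one])

omit hk hm hφ in
/-- the dual embedding -/
def dualE (φ : Sz K k →* Sz F m) : Sz K k →* Sz F m :=
  (MulAut.conj (W hF)).toMonoidHom.comp (φ.comp (MulAut.conj (W hK)).toMonoidHom)

omit hk hm hφ in
theorem dualE_apply (x : Sz K k) :
    dualE hK hF φ x = W hF * φ (W hK * x * W hK) * W hF := by
  show MulAut.conj (W hF) (φ (MulAut.conj (W hK) x)) = _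
  simp only [MulAut.conj_apply, W_inv]

omit hk hm in
theorem dualE_injective : Function.Injective (dualE hK hF φ) := by
  intro x y h
  have h1 : MulAut.conj (W hF) (φ (MulAut.conj (W hK) x))
      = MulAut.conj (W hF) (φ (MulAut.conj (W hK) y)) := h
  exact (MulAut.conj (W hK)).injective (hφ ((MulAut.conj (W hF)).injective h1))

omit hk hm hφ in
theorem dualE_N1 (N2 : φ (W hK * T hK 0 1 * W hK) • oPt m (0 : F) 0 = oPt m 0 0) :
    dualE hK hF φ (T hK 0 1) • oInf F m = oInf F m := by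
  rw [dualE_apply, mul_smul, mul_smul, W_oInf, N2, W_oPt_zero]

omit hK hF hk hm in
theorem emb_ne {x : Sz K k} (hx : x ≠ 1) : φ x ≠ 1 := by
  intro h
  exact hx (hφ (by rw [h, map_one]))

theorem emb_H_inf (N1 : φ (T hK 0 1) • oInf F m = oInf F m) (c : K) (hc : c ≠ 0) :
    φ (H hK c hc) • oInf F m = oInf F m := by
  obtain ⟨a0, b0, h0⟩ := emb_Q hK hF hk hm φ hφ N1 0 1
  have hne : ¬ (a0 = 0 ∧ b0 = 0) := T_ne_one_iff hF hm (h0 ▸ emb_ne φ hφ (T01_ne_one hK hk))
  obtain ⟨a', b', h1⟩ := emb_Q hK hF hk hm φ hφ N1 (sg k c * 0) (c ^ 2 * sg k c * 1)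
  have h2 : φ (H hK c hc) * T hF a0 b0 * (φ (H hK c hc))⁻¹ = T hF a' b' := by
    rw [← h0, ← h1, ← map_inv, ← map_mul, ← map_mul, H_T_H hK hk]
  have h3 := (conj_T_fix hF (φ (H hK c hc)) hne (oInf F m)).1 (by rw [h2, T_oInf])
  exact h3.symm

theorem emb_H_zero (N2 : φ (W hK * T hK 0 1 * W hK) • oPt m (0 : F) 0 = oPt m 0 0) (c : K)
    (hc : c ≠ 0) : φ (H hK c hc) • oPt m (0 : F) 0 = oPt m 0 0 := by
  have h := emb_H_inf hK hF hk hm (dualE hK hF φ) (dualE_injective hK hF φ hφ)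
    (dualE_N1 hK hF φ N2) c⁻¹ (inv_ne_zero hc)
  rw [dualE_apply] at h
  have e : W hK * H hK c⁻¹ (inv_ne_zero hc) * W hK = H hK c hc := by
    rw [← H_W hK c hc, mul_assoc, W_mul_self, mul_one]
  rw [e, mul_smul, mul_smul, W_oInf] at h
  have h2 : W hF • (W hF • φ (H hK c hc) • oPt m (0 : F) 0) = W hF • oInf F m := by rw [h]
  rwa [← mul_smul, W_mul_self, one_smul, W_oInf] at h2

theorem emb_H (N1 : φ (T hK 0 1) • oInf F m = oInf F m)
    (N2 : φ (W hK * T hK 0 1 * W hK) • oPt m (0 : F) 0 = oPt m 0 0) (c : K) (hc : c ≠ 0) :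
    ∃ (c' : F) (hc' : c' ≠ 0), φ (H hK c hc) = H hF c' hc' :=
  stab_two' hF hm (emb_H_inf hK hF hk hm φ hφ N1 c hc) (emb_H_zero hK hF hk hm φ hφ N2 c hc)

theorem emb_W (N1 : φ (T hK 0 1) • oInf F m = oInf F m)
    (N2 : φ (W hK * T hK 0 1 * W hK) • oPt m (0 : F) 0 = oPt m 0 0) :
    φ (W hK) • oInf F m = oPt m 0 0 := by
  obtain ⟨a0, b0, h0⟩ := emb_Q hK hF hk hm φ hφ N1 0 1
  have hne : ¬ (a0 = 0 ∧ b0 = 0) := T_ne_one_iff hF hm (h0 ▸ emb_ne φ hφ (T01_ne_one hK hk))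
  have h2 : φ (W hK) * T hF a0 b0 * (φ (W hK))⁻¹ = φ (W hK * T hK 0 1 * W hK) := by
    rw [← h0, ← map_inv, ← map_mul, ← map_mul, W_inv]
  have h3 := (conj_T_fix hF (φ (W hK)) hne (oPt m 0 0)).1 (by rw [h2, N2])
  exact h3.symm

theorem emb_normalized (hdiv : 2 * k + 1 ∣ 2 * m + 1)
    (N1 : φ (T hK 0 1) • oInf F m = oInf F m)
    (N2 : φ (W hK * T hK 0 1 * W hK) • oPt m (0 : F) 0 = oPt m 0 0)
    (N3 : ∃ b', φ (T hK 1 0) = T hF 1 b') :
    ∃ ι : K →+* F, φ = Emb hK hF hk ι (iota_sg hK hdiv ι) := by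
  have h20 : (2 : K) = 0 := two_eq_zero hK
  choose f g hfg using emb_Q hK hF hk hm φ hφ N1
  choose γ hγ0 hγ using emb_H hK hF hk hm φ hφ N1 N2
  have hmul : ∀ a b a' b', f (a + a') (b + b' + sg k a * a') = f a b + f a' b' ∧
      g (a + a') (b + b' + sg k a * a') = g a b + g a' b' + sg m (f a b) * f a' b' := by
    intro a b a' b'
    have := congrArg φ (T_mul hK hk a b a' b')
    rw [map_mul, hfg, hfg, hfg, T_mul hF hm] at this
    exact T_inj hF this.symm
  have hconj : ∀ c hc a b, f (sg k c * a) (c ^ 2 * sg k c * b) = sg m (γ c hc) * f a b ∧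
      g (sg k c * a) (c ^ 2 * sg k c * b) = (γ c hc) ^ 2 * sg m (γ c hc) * g a b := by
    intro c hc a b
    have := congrArg φ (H_T_H hK hk c hc a b)
    rw [map_mul, map_mul, map_inv, hγ, hfg, hfg, H_T_H hF hm] at this
    exact T_inj hF this.symm
  have hf0 : ∀ b, f 0 b = 0 := by
    intro b
    apply T_sq_eq_one hF hm (b := g 0 b)
    rw [← hfg, ← map_pow, pow_two, T_sq hK hk, zero_mul, T_zero hK hk, map_one]
  have h00 : f 0 0 = 0 ∧ g 0 0 = 0 := by
    have := hfg 0 0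
    rw [T_zero hK hk, map_one, ← T_zero hF hm] at this
    exact ⟨(T_inj hF this).1.symm, (T_inj hF this).2.symm⟩
  have hf : ∀ a b, f a b = f a 0 := by
    intro a b
    have := (hmul a 0 0 b).1
    rw [hf0, add_zero, add_zero, mul_zero, add_zero, zero_add] at this
    exact this
  have hg : ∀ a b, g a b = g a 0 + g 0 b := by
    intro a b
    have := (hmul a 0 0 b).2
    rw [hf0, add_zero, mul_zero, mul_zero, add_zero, add_zero, zero_add] at this
    exact this
  have hψadd : ∀ a a', f (a + a') 0 = f a 0 + f a' 0 := by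
    intro a a'
    have := (hmul a 0 a' 0).1
    rw [hf] at this
    exact this
  have hψ1 : f 1 0 = 1 := by
    obtain ⟨b', hb'⟩ := N3
    rw [hfg] at hb'
    exact (T_inj hF hb').1
  have hψσ : ∀ c hc, f (sg k c) 0 = sg m (γ c hc) := by
    intro c hc
    have := (hconj c hc 1 0).1
    rw [mul_one, mul_zero, hψ1, mul_one] at this
    exact this
  have hψmul : ∀ e a, f (e * a) 0 = f e 0 * f a 0 := by
    intro e a
    by_cases he : e = 0
    · subst he; rw [zero_mul, h00.1, zero_mul]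
    · obtain ⟨c, rfl⟩ := (sg_bijective hK).2 e
      have hc : c ≠ 0 := by rintro rfl; exact he (sg_zero k)
      have := (hconj c hc a 0).1
      rw [mul_zero] at this
      rw [this, hψσ c hc]
  let ι : K →+* F :=
    { toFun := fun a => f a 0
      map_one' := hψ1
      map_mul' := hψmul
      map_zero' := h00.1
      map_add' := hψadd }
  have hι : ∀ a, ι a = f a 0 := fun a => rfl
  have hσ := iota_sg (F := F) (m := m) hK hdiv ι
  have hγι : ∀ c hc, γ c hc = ι c := by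
    intro c hc
    apply sg_injective hF
    rw [← hψσ c hc, ← hι, hσ]
  have hφc : ∀ b, g 0 b = ι b := by
    intro b
    by_cases hb : b = 0
    · subst hb; rw [h00.2, map_zero]
    · obtain ⟨c, hc, rfl⟩ := norm_surj hK hb
      have := congrArg φ (T_sq hK hk c 0)
      rw [map_mul, hfg, hfg, T_sq hF hm] at this
      have h2 := (T_inj hF this).2
      rw [← h2, ← hι, map_mul, hσ]
  have hεadd : ∀ a a', g (a + a') 0 = g a 0 + g a' 0 := by
    intro a a'
    have := (hmul a 0 a' 0).2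
    rw [hg, hφc, ← hι, ← hι, add_zero, zero_add, map_mul, hσ] at this
    exact add_right_cancel this
  have hεσ : ∀ c (hc : c ≠ 0), g (sg k c) 0 = ι (c ^ 2 * sg k c) * g 1 0 := by
    intro c hc
    have := (hconj c hc 1 0).2
    rw [mul_one, mul_zero, hγι] at this
    rw [this, map_mul, map_pow, hσ]
  have hd : g 1 0 = 0 := by
    obtain ⟨c, hc0, hc1⟩ := exists_ne_zero_one hK hk
    have hc1' : c + 1 ≠ 0 := by
      intro h
      apply hc1
      linear_combination h - h20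
    have e1 := hεσ c hc0
    have e2 := hεσ (c + 1) hc1'
    have e3 := hεadd (sg k c) 1
    rw [sg_add hK, sg_one] at e2
    rw [e2, e1] at e3
    have e4 : ι (c ^ 2 + sg k c) * g 1 0 = 0 := by
      have e5 : (c + 1) ^ 2 * (sg k c + 1) = c ^ 2 * sg k c + (c ^ 2 + sg k c) + 1 := by
        linear_combination (c * sg k c + c) * h20
      rw [e5, map_add, map_add, map_one] at e3
      linear_combination e3
    rcases mul_eq_zero.1 e4 with h | h
    · exfalso
      have h' : c ^ 2 + sg k c = 0 := (map_eq_zero ι).1 h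
      have h'' : sg k (sg k c) = sg k c := by
        rw [sg_sg hK]
        linear_combination h' - sg k c * h20
      exact sg_ne_self hK hc0 hc1 (sg_injective hK h'')
    · exact h
  have hε : ∀ a, g a 0 = 0 := by
    intro a
    by_cases ha : a = 0
    · subst ha; exact h00.2
    · obtain ⟨c, rfl⟩ := (sg_bijective hK).2 a
      have hc : c ≠ 0 := by rintro rfl; exact ha (sg_zero k)
      rw [hεσ c hc, hd, mul_zero]
  have hφT : ∀ a b, φ (T hK a b) = T hF (ι a) (ι b) := by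
    intro a b
    rw [hfg, hf, hg, hε, hφc, zero_add, ← hι]
  have hφH : ∀ c hc, φ (H hK c hc) = H hF (ι c) ((map_ne_zero ι).2 hc) := by
    intro c hc
    rw [hγ]
    congr 1
    exact hγι c hc
  -- the Weyl element
  have hW1 := emb_W hK hF hk hm φ hφ N1 N2
  have hWW : φ (W hK) * φ (W hK) = 1 := by rw [← map_mul, W_mul_self, map_one]
  have hW2 : φ (W hK) • oPt m (0 : F) 0 = oInf F m := by
    rw [← hW1, ← mul_smul, hWW, one_smul]
  obtain ⟨e, he, hWe⟩ := stab_two' hF hm (g := W hF * φ (W hK))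
    (by rw [mul_smul, hW1, W_oPt_zero]) (by rw [mul_smul, hW2, W_oInf])
  have hWe' : φ (W hK) = W hF * H hF e he := by
    rw [← hWe, ← mul_assoc, W_mul_self, one_mul]
  have hf01 : fS k (0 : K) 1 = 1 := by rw [fS_eq, sg_zero, sg_one]; ring
  -- Bruhat decomposition of W T(0,1) W in the small group
  have hy : (W hK * T hK 0 1 * W hK) • oInf K k = oPt k 1 0 := by
    rw [mul_smul, mul_smul, W_oInf, T_oPt_zero, W_oPt hK (by rw [hf01]; exact one_ne_zero), hf01]
    simp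
  have hy2 : ((T hK 1 0 * W hK)⁻¹ * (W hK * T hK 0 1 * W hK)) • oInf K k = oInf K k := by
    rw [mul_smul, hy, inv_smul_eq_iff, mul_smul, W_oInf, T_oPt_zero]
  obtain ⟨a2, b2, c2, hc2, hdec⟩ := stab_one' hK hk hy2
  have hdec' : W hK * T hK 0 1 * W hK = T hK 1 0 * W hK * (T hK a2 b2 * H hK c2 hc2) := by
    rw [← hdec]; group
  have himg := congrArg φ hdec'
  rw [map_mul, map_mul, map_mul, map_mul, map_mul, hφT, hφT, hφT, hφH, map_zero, map_one] at himg
  have himg2 := congrArg (fun x : Sz F m => x • oInf F m) himg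
  simp only [mul_smul, H_oInf, T_oInf, hW1, T_oPt_zero] at himg2
  rw [hWe', mul_smul, H_oPt, mul_zero, mul_one] at himg2
  have hμ0 : e ^ 2 * sg m e ≠ 0 := mul_ne_zero (pow_ne_zero _ he) (sg_ne_zero he)
  have hfμ : fS m (0 : F) (e ^ 2 * sg m e) = sg m (e ^ 2 * sg m e) := by
    rw [fS_eq, sg_zero]; ring
  rw [W_oPt hF (by rw [hfμ]; exact sg_ne_zero hμ0), hfμ] at himg2
  have hμ1 := (oPt_inj himg2).1
  have hμ2 : sg m (e ^ 2 * sg m e) = e ^ 2 * sg m e := by
    have := sg_ne_zero (m := m) hμ0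
    field_simp at hμ1
    exact hμ1.symm
  have hμ3 : e ^ 2 * sg m e = 1 := by
    by_contra hne
    exact sg_ne_self hF hμ0 hne hμ2
  have he1 : e = 1 := norm2_eq_one hF hμ3
  subst he1
  rw [H_one, mul_one] at hWe'
  refine ⟨ι, ?_⟩
  ext1 x
  rcases decomp hK hk x with ⟨a, b, c, hc, rfl⟩ | ⟨a, b, a', b', c, hc, rfl⟩
  · rw [map_mul, map_mul, hφT, hφH, Emb_T, Emb_H]
  · rw [map_mul, map_mul, map_mul, map_mul, map_mul, map_mul, hφT, hφT, hφH, hWe', Emb_T, Emb_T,
      Emb_H, Emb_W]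

theorem emb_exists (hdiv : 2 * k + 1 ∣ 2 * m + 1) :
    ∃ (u : Sz F m) (ι : K →+* F), ∀ x, φ x = u * Emb hK hF hk ι (iota_sg hK hdiv ι) x * u⁻¹ := by
  set z := φ (T hK 0 1) with hz
  set z' := φ (W hK * T hK 0 1 * W hK) with hz'
  have hoz : orderOf z = 2 := by rw [hz, orderOf_injective φ hφ, orderOf_T01 hK hk]
  have hoz' : orderOf z' = 2 := by
    rw [hz', orderOf_injective φ hφ, WTW_eq, MulEquiv.orderOf_eq, orderOf_T01 hK hk]
  have hzz : z * z = 1 := by rw [← pow_two, ← hoz, pow_orderOf_eq_one]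
  have hzz' : z' * z' = 1 := by rw [← pow_two, ← hoz', pow_orderOf_eq_one]
  obtain ⟨ω₁, h1, u1⟩ := invol_fix hF hm hoz
  obtain ⟨ω₂, h2, u2⟩ := invol_fix hF hm hoz'
  have hne : ω₁ ≠ ω₂ := by
    intro h
    subst h
    obtain ⟨v, rfl⟩ := exists_map_inf hF ω₁
    obtain ⟨b, hb⟩ := conj_invol hF hm hzz h1
    obtain ⟨b', hb'⟩ := conj_invol hF hm hzz' h2
    have hcomm : z' * z = z * z' := by
      have e1 : z = v * T hF 0 b * v⁻¹ := by rw [← hb]; group
      have e2 : z' = v * T hF 0 b' * v⁻¹ := by rw [← hb']; group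
      rw [e1, e2]
      calc v * T hF 0 b' * v⁻¹ * (v * T hF 0 b * v⁻¹) = v * (T hF 0 b' * T hF 0 b) * v⁻¹ := by group
        _ = v * (T hF 0 b * T hF 0 b') * v⁻¹ := by rw [T_comm hF hm]
        _ = _ := by group
    have hcomm2 : (W hK * T hK 0 1 * W hK) * T hK 0 1 = T hK 0 1 * (W hK * T hK 0 1 * W hK) := by
      apply hφ
      rw [map_mul φ (W hK * T hK 0 1 * W hK), map_mul φ (T hK 0 1)]
      exact hcomm
    have hu := invol_unique hK hk (orderOf_T01 hK hk) (T_oInf hK 0 1)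
    have h3 := fix_of_comm_unique (T_oInf hK 0 1) hu hcomm2
    rw [mul_smul, mul_smul, W_oInf, T_oPt_zero] at h3
    have h4 : W hK • (W hK • oPt k (0 : K) 1) = W hK • oInf K k := by rw [h3]
    rw [← mul_smul, W_mul_self, one_smul, W_oInf] at h4
    exact one_ne_zero (oPt_inj h4).2
  obtain ⟨v, hv1, hv2⟩ := exists_map_pair hF hne
  set φ₁ : Sz K k →* Sz F m := (MulAut.conj v⁻¹).toMonoidHom.comp φ with hφ₁
  have hφ₁a : ∀ x, φ₁ x = v⁻¹ * φ x * v := by
    intro x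
    show MulAut.conj v⁻¹ (φ x) = _
    rw [MulAut.conj_apply, inv_inv]
  have hφ₁i : Function.Injective φ₁ := (MulAut.conj v⁻¹).injective.comp hφ
  have N1 : φ₁ (T hK 0 1) • oInf F m = oInf F m := by
    rw [hφ₁a, mul_smul, mul_smul, hv1, ← hz, h1, ← hv1, inv_smul_smul]
  have N2 : φ₁ (W hK * T hK 0 1 * W hK) • oPt m (0 : F) 0 = oPt m 0 0 := by
    rw [hφ₁a, mul_smul, mul_smul, hv2, ← hz', h2, ← hv2, inv_smul_smul]
  obtain ⟨a', b', h3⟩ := emb_Q hK hF hk hm φ₁ hφ₁i N1 1 0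
  have ha' : a' ≠ 0 := by
    rintro rfl
    have e1 : φ₁ (T hK 1 0 ^ 2) = 1 := by
      rw [map_pow, h3, pow_two, T_sq hF hm, zero_mul, T_zero hF hm]
    have e2 : T hK (1 : K) 0 ^ 2 = 1 := hφ₁i (by rw [e1, map_one])
    exact one_ne_zero (T_sq_eq_one hK hk e2)
  obtain ⟨c0, hc0⟩ := (sg_bijective hF).2 a'⁻¹
  have hc00 : c0 ≠ 0 := by
    rintro rfl
    rw [sg_zero] at hc0
    exact inv_ne_zero ha' hc0.symm
  set φ₂ : Sz K k →* Sz F m := (MulAut.conj (H hF c0 hc00)).toMonoidHom.comp φ₁ with hφ₂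
  have hφ₂a : ∀ x, φ₂ x = H hF c0 hc00 * φ₁ x * (H hF c0 hc00)⁻¹ := by
    intro x
    show MulAut.conj (H hF c0 hc00) (φ₁ x) = _
    rw [MulAut.conj_apply]
  have hφ₂i : Function.Injective φ₂ := (MulAut.conj (H hF c0 hc00)).injective.comp hφ₁i
  have M1 : φ₂ (T hK 0 1) • oInf F m = oInf F m := by
    rw [hφ₂a, mul_smul, mul_smul, H_inv, H_oInf, N1, H_oInf]
  have M2 : φ₂ (W hK * T hK 0 1 * W hK) • oPt m (0 : F) 0 = oPt m 0 0 := by
    rw [hφ₂a, mul_smul, mul_smul, H_inv, H_oPt_zero, N2, H_oPt_zero]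
  have M3 : ∃ b'', φ₂ (T hK 1 0) = T hF 1 b'' := by
    refine ⟨c0 ^ 2 * sg m c0 * b', ?_⟩
    rw [hφ₂a, h3, H_T_H hF hm, hc0, inv_mul_cancel₀ ha']
  obtain ⟨ι, hι⟩ := emb_normalized hK hF hk hm φ₂ hφ₂i hdiv M1 M2 M3
  refine ⟨v * (H hF c0 hc00)⁻¹, ι, fun x => ?_⟩
  rw [← hι, hφ₂a, hφ₁a]
  group

end rigid

include hK hF in
/-- the image of a subfield embedding does not depend on the embedding -/
theorem Emb_range_le (hk : 1 ≤ k) (ι₁ ι₂ : K →+* F) (h₁ : ∀ x, ι₁ (sg k x) = sg m (ι₁ x))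
    (h₂ : ∀ x, ι₂ (sg k x) = sg m (ι₂ x)) :
    (Emb hK hF hk ι₁ h₁).range ≤ (Emb hK hF hk ι₂ h₂).range := by
  have hT : ∀ a b, T hF (ι₁ a) (ι₁ b) ∈ (Emb hK hF hk ι₂ h₂).range := by
    intro a b
    obtain ⟨a', ha⟩ := range_le ι₁ ι₂ a
    obtain ⟨b', hb⟩ := range_le ι₁ ι₂ b
    exact ⟨T hK a' b', by rw [Emb_T, ha, hb]⟩
  have hH : ∀ c (hc : c ≠ 0), H hF (ι₁ c) ((map_ne_zero ι₁).2 hc) ∈ (Emb hK hF hk ι₂ h₂).range := by
    intro c hc
    obtain ⟨c', hc'⟩ := range_le ι₁ ι₂ c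
    have hc0 : c' ≠ 0 := by
      rintro rfl
      rw [map_zero] at hc'
      exact hc ((map_eq_zero ι₁).1 hc')
    refine ⟨H hK c' hc0, ?_⟩
    rw [Emb_H]
    congr 1
    exact hc'.symm
  have hW : W hF ∈ (Emb hK hF hk ι₂ h₂).range := ⟨W hK, Emb_W hK hF hk ι₂ h₂⟩
  rintro _ ⟨x, rfl⟩
  rcases decomp hK hk x with ⟨a, b, c, hc, rfl⟩ | ⟨a, b, a', b', c, hc, rfl⟩
  · rw [map_mul, Emb_T, Emb_H]
    exact Subgroup.mul_mem _ (hT a b) (hH c hc)
  · rw [map_mul, map_mul, map_mul, Emb_T, Emb_T, Emb_H, Emb_W]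
    exact Subgroup.mul_mem _ (Subgroup.mul_mem _ (hT a b) hW)
      (Subgroup.mul_mem _ (hT a' b') (hH c hc))

include hK hF in
theorem exists_iota (hdiv : 2 * k + 1 ∣ 2 * m + 1) : Nonempty (K →+* F) := by
  have : Fact (Nat.Prime 2) := ⟨Nat.prime_two⟩
  have : CharP F 2 := charP_two hF
  have : CharP K 2 := charP_two hK
  let _ : Algebra (ZMod 2) F := ZMod.algebra F 2
  let _ : Algebra (ZMod 2) K := ZMod.algebra K 2
  have h1 : Module.finrank (ZMod 2) F = 2 * m + 1 := by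
    have := FiniteField.pow_finrank_eq_card 2 F
    rw [hF] at this
    exact Nat.pow_right_injective le_rfl this
  have h2 : Module.finrank (ZMod 2) K = 2 * k + 1 := by
    have := FiniteField.pow_finrank_eq_card 2 K
    rw [hK] at this
    exact Nat.pow_right_injective le_rfl this
  obtain ⟨f⟩ := FiniteField.nonempty_algHom_of_finrank_dvd (F := ZMod 2) (K := K)
    (L := F) (by rw [h1, h2]; exact hdiv)
  exact ⟨f.toRingHom⟩

end Cfsg.Agent.Lib.Helper8SzSub
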