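import Mathlib
import Cfsg.Agent.Lib.Helper87Fusion
import Cfsg.Agent.Lib.Helper87Fusion2
import Cfsg.Agent.Lib.Helper87Fusion3
import Cfsg.Agent.Lib.Helper86Fusion
import Cfsg.Agent.Lib.Helper90SmallExp
import Cfsg.Agent.Lib.Helper55Core

set_option autoImplicit false

namespace Cfsg.Agent.Lib.Helper90Hyp

open Cfsg Cfsg.FusionSystem
open Cfsg.Agent.Lib.Helper87Fusion Cfsg.Agent.Lib.Helper87Fusion2 Cfsg.Agent.Lib.Helper87Fusion3
open Cfsg.Agent.Lib.Helper86Fusion Cfsg.Agent.Lib.Helper90SmallExp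

variable {Ω : Type*} [Group Ω] {S : Subgroup Ω}

/-- `f` induces on `P` an automorphism belonging to `F` whose order is prime to `p`. -/
def PAut (F : FusionSystem S) (p : ℕ) (P : Subgroup Ω) (f : Ω → Ω) : Prop :=
  IsMap F P f ∧ (∀ x ∈ P, f x ∈ P) ∧ ∃ k : ℕ, k.Coprime p ∧ ∀ x ∈ P, f^[k] x = x

/-- elements of order dividing `p`, or `4` when `p = 2`. -/
def Small (p : ℕ) (x : Ω) : Prop := x ^ p = 1 ∨ (p = 2 ∧ x ^ 4 = 1)

namespace PAut

variable {F : FusionSystem S} {p : ℕ} {P R : Subgroup Ω} {f : Ω → Ω}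

theorem restrict (h : PAut F p P f) (hR : R ≤ P) (hf : ∀ x ∈ R, f x ∈ R) : PAut F p R f := by
  obtain ⟨h1, -, k, hk, h3⟩ := h
  exact ⟨h1.restrict hR, hf, k, hk, fun x hx => h3 x (hR hx)⟩

theorem iterate_mem (h : PAut F p P f) (n : ℕ) {x : Ω} (hx : x ∈ P) : f^[n] x ∈ P := by
  induction n with
  | zero => exact hx
  | succ n ih => rw [Function.iterate_succ_apply']; exact h.2.1 _ ih

theorem image [hp : Fact p.Prime] (h : PAut F p P f) : f '' (P : Set Ω) = (P : Set Ω) := by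
  obtain ⟨k, hk, h3⟩ := h.2.2
  ext y
  constructor
  · rintro ⟨x, hx, rfl⟩
    exact h.2.1 x hx
  · intro hy
    have hk0 : k ≠ 0 := by
      rintro rfl
      rw [Nat.coprime_zero_left] at hk
      exact hp.out.one_lt.ne' hk
    obtain ⟨m, rfl⟩ := Nat.exists_eq_succ_of_ne_zero hk0
    refine ⟨f^[m] y, h.iterate_mem m hy, ?_⟩
    rw [← Function.iterate_succ_apply' f m y]
    exact h3 y hy

theorem exists_aut [hp : Fact p.Prime] (h : PAut F p P f) :
    ∃ α : MulAut P, α ∈ F.autGroup P ∧ (orderOf α).Coprime p ∧ ∀ x : P, ((α x : P) : Ω) = f x := by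
  obtain ⟨α, hα, hαf⟩ := h.1.exists_aut h.image
  obtain ⟨k, hk, h3⟩ := h.2.2
  refine ⟨α, hα, ?_, hαf⟩
  have hit : ∀ (n : ℕ) (x : P), (((α ^ n) x : P) : Ω) = f^[n] x := by
    intro n
    induction n with
    | zero => intro x; rfl
    | succ n ih =>
      intro x
      rw [pow_succ', MulAut.mul_apply, hαf, ih, Function.iterate_succ_apply']
  have : α ^ k = 1 := by
    ext x
    rw [hit, h3 x x.2]
    rfl
  exact Nat.Coprime.coprime_dvd_left (orderOf_dvd_of_pow_eq_one this) hk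

end PAut

theorem pAut_of_aut {F : FusionSystem S} {p : ℕ} {P : Subgroup Ω} (hP : P ≤ S) (α : MulAut P)
    (hα : α ∈ F.autGroup P) (k : ℕ) (hk : k.Coprime p) (hαk : α ^ k = 1) :
    PAut F p P (totA α) := by
  refine ⟨(mem_autGroup_iff_totA F hP α).1 hα, fun x hx => totA_mem α hx, k, hk, ?_⟩
  have hit : ∀ (n : ℕ) (x : P), (totA α)^[n] x = (((α ^ n) x : P) : Ω) := by
    intro n
    induction n with
    | zero => intro x; rfl
    | succ n ih =>
      intro x
      rw [Function.iterate_succ_apply', ih, totA_apply, pow_succ', MulAut.mul_apply]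
  intro x hx
  have := hit k ⟨x, hx⟩
  rw [hαk] at this
  exact this

namespace PAut

variable {F : FusionSystem S} {p : ℕ} {P R : Subgroup Ω} {f : Ω → Ω}

theorem comm_mem_hyp [hp : Fact p.Prime] (h : PAut F p P f) {x : Ω} (hx : x ∈ P) :
    x⁻¹ * f x ∈ F.hyperfocalSubgroup p := by
  obtain ⟨α, hα, hαp, hαf⟩ := h.exists_aut
  apply Subgroup.subset_closure
  refine ⟨P, ⟨α, hα⟩, ⟨x, hx⟩, h.1.le, ?_, ?_⟩
  · apply Subgroup.subset_closure
    show Nat.Coprime (orderOf (⟨α, hα⟩ : F.autGroup P)) p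
    rw [Subgroup.orderOf_mk]
    exact hαp
  · show x⁻¹ * f x = x⁻¹ * ((α ⟨x, hx⟩ : P) : Ω)
    rw [hαf]

theorem eq_of_chain [Finite S] [hp : Fact p.Prime] (hS : IsPGroup p S) (h : PAut F p P f)
    (hc : ∀ x ∈ P, f (x⁻¹ * f x) = x⁻¹ * f x) : ∀ x ∈ P, f x = x := by
  obtain ⟨α, hα, hαp, hαf⟩ := h.exists_aut
  have hfin : Finite P := finite_of_le h.1.le
  have hPp : IsPGroup p P := hS.to_le h.1.le
  have : α = 1 := by
    apply aut_eq_one_of_chain p hPp α hαp
    intro x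
    apply Subtype.ext
    rw [hαf]
    show f ((x : Ω)⁻¹ * ((α x : P) : Ω)) = (x : Ω)⁻¹ * ((α x : P) : Ω)
    rw [hαf]
    exact hc x x.2
  intro x hx
  rw [← hαf ⟨x, hx⟩, this]
  rfl

theorem eq_of_small [Finite S] [hp : Fact p.Prime] (hS : IsPGroup p S) (h : PAut F p P f)
    (hc : ∀ x ∈ P, Small p x → f x = x) : ∀ x ∈ P, f x = x := by
  obtain ⟨α, hα, hαp, hαf⟩ := h.exists_aut
  have hfin : Finite P := finite_of_le h.1.le
  have hPp : IsPGroup p P := hS.to_le h.1.le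
  have key := aut_fix_of_small p hPp α hαp ⊤ (fun _ _ => trivial) (by
    intro d _ hd
    apply Subtype.ext
    rw [hαf]
    apply hc d d.2
    rcases hd with h1 | ⟨h1, h2⟩
    · left
      simpa using congrArg Subtype.val h1
    · right
      exact ⟨h1, by simpa using congrArg Subtype.val h2⟩)
  intro x hx
  rw [← hαf ⟨x, hx⟩, key ⟨x, hx⟩ trivial]

end PAut

theorem IsMap_map_pow {F : FusionSystem S} {P : Subgroup Ω} {f : Ω → Ω} (h : IsMap F P f) {x : Ω}
    (hx : x ∈ P) (n : ℕ) : f (x ^ n) = f x ^ n := by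
  induction n with
  | zero => simpa using h.map_one
  | succ n ih => rw [pow_succ, h.map_mul (P.pow_mem hx n) hx, ih, pow_succ]

theorem small_map {F : FusionSystem S} {p : ℕ} {P : Subgroup Ω} {f : Ω → Ω} (h : IsMap F P f) {x : Ω}
    (hx : x ∈ P) (hs : Small p x) : Small p (f x) := by
  rcases hs with h1 | ⟨h1, h2⟩
  · left; rw [← IsMap_map_pow h hx, h1, h.map_one]
  · right; exact ⟨h1, by rw [← IsMap_map_pow h hx, h2, h.map_one]⟩

/-- invariance of a generated subgroup -/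
theorem closure_invariant {F : FusionSystem S} {P : Subgroup Ω} {f : Ω → Ω} (h : IsMap F P f)
    (T : Set Ω) (hT : T ⊆ P) (hf : ∀ t ∈ T, f t ∈ Subgroup.closure T) :
    ∀ x ∈ Subgroup.closure T, f x ∈ Subgroup.closure T := by
  have hle : Subgroup.closure T ≤ P := (Subgroup.closure_le P).2 hT
  intro x hx
  induction hx using Subgroup.closure_induction with
  | mem t ht => exact hf t ht
  | one => rw [h.map_one]; exact Subgroup.one_mem _
  | mul a b ha hb iha ihb => rw [h.map_mul (hle ha) (hle hb)]; exact Subgroup.mul_mem _ iha ihb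
  | inv a ha iha => rw [h.map_inv (hle ha)]; exact Subgroup.inv_mem _ iha

/-- the lower central series of `S`, inside `Ω`. -/
def Lc (S : Subgroup Ω) (n : ℕ) : Subgroup Ω := S.lowerCentralSeries n

theorem Lc_conj {n : ℕ} {y s : Ω} (hy : y ∈ Lc S n) (hs : s ∈ S) : s * y * s⁻¹ ∈ Lc S n :=
  (Subgroup.mem_normalizer_iff.1 (S.self_le_normalizer_lowerCentralSeries n hs) y).1 hy

theorem Lc_comm {n : ℕ} {y s : Ω} (hy : y ∈ Lc S n) (hs : s ∈ S) : y * s * y⁻¹ * s⁻¹ ∈ Lc S (n + 1) :=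
  Subgroup.commutator_mem_commutator hy hs

theorem eq_bot_of_le_Lc [Finite S] {p : ℕ} [Fact p.Prime] (hS : IsPGroup p S) {P : Subgroup Ω}
    (h : ∀ n, P ≤ Lc S n) : P = ⊥ := by
  have hn : Group.IsNilpotent S := hS.isNilpotent
  obtain ⟨n, hn⟩ := (Subgroup.isNilpotent_iff_lowerCentralSeries S).1 hn
  rw [eq_bot_iff, ← hn]
  exact h n

/-- If fusion of small elements of the hyperfocal subgroup is controlled by `S`, there are no
`p'`-automorphisms. -/
theorem pAut_trivial [Finite S] {p : ℕ} [hp : Fact p.Prime] (hS : IsPGroup p S) (F : FusionSystem S)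
    (H : ∀ x ∈ F.hyperfocalSubgroup p, Small p x → ∀ g : Ω → Ω, IsMap F (Subgroup.zpowers x) g →
      g x ∈ F.hyperfocalSubgroup p → ∃ s ∈ S, g x = s * x * s⁻¹) :
    ∀ (n : ℕ) (P : Subgroup Ω) (f : Ω → Ω), Nat.card P = n → PAut F p P f → ∀ x ∈ P, f x = x := by
  intro n
  induction n using Nat.strong_induction_on with
  | _ n ih =>
  intro P f hn h
  have hPS : P ≤ S := h.1.le
  have hfin : Finite P := finite_of_le hPS
  set W₁ : Subgroup Ω := Subgroup.closure {y | ∃ x ∈ P, y = x⁻¹ * f x} with hW₁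
  have hT₁ : {y | ∃ x ∈ P, y = x⁻¹ * f x} ⊆ (P : Set Ω) := by
    rintro _ ⟨x, hx, rfl⟩
    exact P.mul_mem (P.inv_mem hx) (h.2.1 x hx)
  have hW₁P : W₁ ≤ P := (Subgroup.closure_le P).2 hT₁
  have hW₁f : ∀ x ∈ W₁, f x ∈ W₁ := by
    apply closure_invariant h.1 _ hT₁
    rintro _ ⟨x, hx, rfl⟩
    apply Subgroup.subset_closure
    refine ⟨f x, h.2.1 x hx, ?_⟩
    rw [h.1.map_mul (P.inv_mem hx) (h.2.1 x hx), h.1.map_inv hx]
  by_cases hc1 : W₁ = P
  swap
  · have hlt : Nat.card W₁ < n := by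
      rw [← hn]
      exact card_lt_of_lt (lt_of_le_of_ne hW₁P hc1)
    have h1 := ih _ hlt W₁ f rfl (h.restrict hW₁P hW₁f)
    apply h.eq_of_chain hS
    intro x hx
    exact h1 _ (Subgroup.subset_closure ⟨x, hx, rfl⟩)
  have hPhyp : P ≤ F.hyperfocalSubgroup p := by
    rw [← hc1, hW₁, Subgroup.closure_le]
    rintro _ ⟨x, hx, rfl⟩
    exact h.comm_mem_hyp hx
  set W₂ : Subgroup Ω := Subgroup.closure {y | y ∈ P ∧ Small p y} with hW₂
  have hT₂ : {y | y ∈ P ∧ Small p y} ⊆ (P : Set Ω) := fun y hy => hy.1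
  have hW₂P : W₂ ≤ P := (Subgroup.closure_le P).2 hT₂
  have hW₂f : ∀ x ∈ W₂, f x ∈ W₂ := by
    apply closure_invariant h.1 _ hT₂
    rintro x ⟨hx, hxs⟩
    exact Subgroup.subset_closure ⟨h.2.1 x hx, small_map h.1 hx hxs⟩
  by_cases hc2 : W₂ = P
  swap
  · have hlt : Nat.card W₂ < n := by
      rw [← hn]
      exact card_lt_of_lt (lt_of_le_of_ne hW₂P hc2)
    have h1 := ih _ hlt W₂ f rfl (h.restrict hW₂P hW₂f)
    apply h.eq_of_small hS
    intro x hx hxs
    exact h1 _ (Subgroup.subset_closure ⟨hx, hxs⟩)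
  have hall : ∀ m, P ≤ Lc S m := by
    intro m
    induction m with
    | zero =>
      exact hPS
    | succ m ihm =>
      have key : ∀ r ∈ W₂, r ∈ P ∧ r⁻¹ * f r ∈ Lc S (m + 1) := by
        intro r hr
        induction hr using Subgroup.closure_induction with
        | mem t ht =>
          refine ⟨ht.1, ?_⟩
          obtain ⟨s, hs, hst⟩ := H t (hPhyp ht.1) ht.2 f
            (h.1.restrict ((Subgroup.zpowers_le).2 ht.1)) (hPhyp (h.2.1 t ht.1))
          rw [hst]
          have := Lc_comm (ihm (P.inv_mem ht.1)) hs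
          rw [inv_inv] at this
          simpa [mul_assoc] using this
        | one => exact ⟨P.one_mem, by rw [h.1.map_one]; simp⟩
        | mul a b _ _ iha ihb =>
          refine ⟨P.mul_mem iha.1 ihb.1, ?_⟩
          rw [h.1.map_mul iha.1 ihb.1]
          have e : (a * b)⁻¹ * (f a * f b) = (b⁻¹ * (a⁻¹ * f a) * b⁻¹⁻¹) * (b⁻¹ * f b) := by group
          rw [e]
          exact Subgroup.mul_mem _ (Lc_conj iha.2 (S.inv_mem (hPS ihb.1))) ihb.2
        | inv a _ iha =>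
          refine ⟨P.inv_mem iha.1, ?_⟩
          rw [h.1.map_inv iha.1]
          have e : a⁻¹⁻¹ * (f a)⁻¹ = a * (a⁻¹ * f a)⁻¹ * a⁻¹ := by group
          rw [e]
          exact Lc_conj (Subgroup.inv_mem _ iha.2) (hPS iha.1)
      rw [← hc1, hW₁, Subgroup.closure_le]
      rintro _ ⟨x, hx, rfl⟩
      exact (key x (by rw [hc2]; exact hx)).2
  have hbot := eq_bot_of_le_Lc hS hall
  intro x hx
  rw [hbot, Subgroup.mem_bot] at hx
  rw [hx, h.1.map_one]

end Cfsg.Agent.Lib.Helper90Hyp
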