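import Mathlib
import Cfsg.Agent.S0093
import Cfsg.Agent.Lib.Helper3PGroup
import Cfsg.Agent.Lib.Helper11SmallExp
import Cfsg.Agent.Lib.Helper90SmallExp
import Cfsg.Agent.Lib.Helper90Hyp

set_option autoImplicit false

namespace Cfsg.Agent.Lib.Helper90Crit

open Cfsg.Agent.Lib.Helper11SmallExp Cfsg.Agent.Lib.Helper90SmallExp Cfsg.Agent.Lib.Helper90Hyp
open scoped commutatorElement

/-- In a group where commutators and `p`-th powers of elements of `H` are central in `H`, the product of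
two elements of small order has small order. -/
theorem small_mul {Q : Type*} [Group Q] (p : ℕ) [hp : Fact p.Prime] (x y : Q)
    (hcx : Commute (y * x * y⁻¹ * x⁻¹) x) (hcy : Commute (y * x * y⁻¹ * x⁻¹) y)
    (hyp : Commute (y ^ p) x) (hx : Small p x) (hy : Small p y) : Small p (x * y) := by
  set c := y * x * y⁻¹ * x⁻¹ with hc
  have h : y * x = c * x * y := by rw [hc]; group
  have hpow := mul_pow_of_class_two x y c h hcx hcy
  have hcomm := pow_mul_comm_of x y c h hcy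
  by_cases h2 : p = 2
  · subst h2
    have hx4 : x ^ 4 = 1 := by
      rcases hx with h1 | ⟨-, h1⟩
      · calc x ^ 4 = (x ^ 2) ^ 2 := by rw [← pow_mul]
          _ = 1 := by rw [h1, one_pow]
      · exact h1
    have hy4 : y ^ 4 = 1 := by
      rcases hy with h1 | ⟨-, h1⟩
      · calc y ^ 4 = (y ^ 2) ^ 2 := by rw [← pow_mul]
          _ = 1 := by rw [h1, one_pow]
      · exact h1
    have hc2 : c ^ 2 = 1 := by
      have h3 := hcomm 2
      rw [hyp.eq] at h3
      have h4 : x * y ^ 2 = c ^ 2 * (x * y ^ 2) := by rw [← mul_assoc]; exact h3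
      exact (mul_eq_right.1 h4.symm)
    right
    refine ⟨rfl, ?_⟩
    rw [hpow 4, hx4, hy4]
    have : Nat.choose 4 2 = 2 * 3 := by decide
    rw [this, pow_mul, hc2]
    simp
  · have hx1 : x ^ p = 1 := by
      rcases hx with h1 | ⟨h1, -⟩
      · exact h1
      · exact absurd h1 h2
    have hy1 : y ^ p = 1 := by
      rcases hy with h1 | ⟨h1, -⟩
      · exact h1
      · exact absurd h1 h2
    have hcp : c ^ p = 1 := by
      have h3 := hcomm p
      rw [hy1] at h3
      have h4 : x = c ^ p * x := by simpa using h3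
      exact (mul_eq_right.1 h4.symm)
    left
    rw [hpow p, hx1, hy1]
    have hlt : 2 < p := lt_of_le_of_ne hp.out.two_le (Ne.symm h2)
    obtain ⟨m, hm⟩ := hp.out.dvd_choose_self (by norm_num : (2 : ℕ) ≠ 0) hlt
    rw [hm, pow_mul, hcp]
    simp

theorem small_inv {Q : Type*} [Group Q] {p : ℕ} {x : Q} (hx : Small p x) : Small p x⁻¹ := by
  rcases hx with h1 | ⟨h1, h2⟩
  · left; rw [inv_pow, h1, inv_one]
  · right; exact ⟨h1, by rw [inv_pow, h2, inv_one]⟩

/-- A finite `p`-group has a characteristic subgroup all of whose elements have order dividing `p` (or `4`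
if `p = 2`) on which every nontrivial `p'`-automorphism acts nontrivially. -/
theorem exists_small_char {Q : Type*} [Group Q] [Finite Q] (p : ℕ) [hp : Fact p.Prime]
    (hQ : IsPGroup p Q) :
    ∃ D : Subgroup Q, D.Characteristic ∧ (∀ d ∈ D, Small p d) ∧
      ∀ α : MulAut Q, (orderOf α).Coprime p → (∀ d ∈ D, α d = d) → α = 1 := by
  obtain ⟨H, hchar, hΦ, -, hC⟩ := Cfsg.Agent.S0093.result hQ
  have hHp : IsPGroup p H := hQ.to_subgroup H
  have hcen : ∀ z : H, z ∈ frattini H → ∀ h ∈ H, Commute (z : Q) h := by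
    intro z hz h hh
    have := hΦ ⟨z, hz, rfl⟩
    exact (Subgroup.mem_centralizer_iff.1 this h hh).symm
  have hcomm : ∀ x ∈ H, ∀ y ∈ H, ∀ h ∈ H, Commute (y * x * y⁻¹ * x⁻¹) h := by
    intro x hx y hy h hh
    have h1 : ⁅(⟨y, hy⟩ : H), ⟨x, hx⟩⁆ ∈ frattini H :=
      Cfsg.Agent.Lib.Helper3PGroup.commutator_le_frattini hHp
        (Subgroup.commutator_mem_commutator (Subgroup.mem_top _) (Subgroup.mem_top _))
    exact hcen _ h1 h hh
  have hpow : ∀ y ∈ H, ∀ h ∈ H, Commute (y ^ p) h := by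
    intro y hy h hh
    exact hcen _ (Cfsg.Agent.Lib.Helper3PGroup.pow_mem_frattini hHp ⟨y, hy⟩) h hh
  let D : Subgroup Q :=
    { carrier := {x | x ∈ H ∧ Small p x}
      one_mem' := ⟨H.one_mem, Or.inl (one_pow _)⟩
      mul_mem' := fun {a b} ha hb => ⟨H.mul_mem ha.1 hb.1,
        small_mul p a b (hcomm a ha.1 b hb.1 a ha.1) (hcomm a ha.1 b hb.1 b hb.1)
          (hpow b hb.1 a ha.1) ha.2 hb.2⟩
      inv_mem' := fun {a} ha => ⟨H.inv_mem ha.1, small_inv ha.2⟩ }
  have hHinv : ∀ (φ : Q ≃* Q), ∀ h ∈ H, φ h ∈ H := by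
    intro φ h hh
    exact (Subgroup.characteristic_iff_le_comap.1 hchar φ) hh
  refine ⟨D, ?_, fun d hd => hd.2, ?_⟩
  · rw [Subgroup.characteristic_iff_le_comap]
    intro φ d hd
    refine ⟨hHinv φ d hd.1, ?_⟩
    rcases hd.2 with h1 | ⟨h1, h2⟩
    · left
      show (φ d) ^ p = 1
      rw [← map_pow, h1, map_one]
    · right
      refine ⟨h1, ?_⟩
      show (φ d) ^ 4 = 1
      rw [← map_pow, h2, map_one]
  · intro α hα hD
    have h1 : ∀ w ∈ H, α w = w :=
      aut_fix_of_small p hQ α hα H (fun w hw => hHinv α w hw) (fun d hd hs => hD d ⟨hd, hs⟩)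
    apply aut_eq_one_of_chain p hQ α hα
    intro x
    apply h1
    apply hC
    rw [Subgroup.mem_centralizer_iff]
    intro h hh
    have hn : x * h * x⁻¹ ∈ H := by
      have := hHinv (MulAut.conj x) h hh
      simpa using this
    have h2 := h1 _ hn
    rw [map_mul, map_mul, map_inv, h1 h hh] at h2
    -- α x * h * (α x)⁻¹ = x * h * x⁻¹
    calc h * (x⁻¹ * α x) = x⁻¹ * (x * h * x⁻¹) * α x := by group
      _ = x⁻¹ * (α x * h * (α x)⁻¹) * α x := by rw [h2]
      _ = x⁻¹ * α x * h := by group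

variable {Ω : Type*} [Group Ω]

/-- In a finite `p`-group `N`, if `A < X` are normalized by `N` and `X ≤ N`, some element of `X` outside `A` is
central modulo `A`. -/
theorem exists_central_mod {p : ℕ} [Fact p.Prime] (N : Subgroup Ω) [Finite N] (hN : IsPGroup p N)
    (A X : Subgroup Ω) (hXN : X ≤ N) (hX : ∀ n ∈ N, ∀ x ∈ X, n * x * n⁻¹ ∈ X) (hlt : ¬ X ≤ A) :
    ∃ y ∈ X, y ∉ A ∧ ∀ n ∈ N, y * n * y⁻¹ * n⁻¹ ∈ A := by
  classical
  have hnil : Group.IsNilpotent N := hN.isNilpotent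
  obtain ⟨m, hm⟩ := (Subgroup.isNilpotent_iff_lowerCentralSeries N).1 hnil
  have hex : ∃ i, X ⊓ Lc N i ≤ A := ⟨m, by
    show X ⊓ N.lowerCentralSeries m ≤ A
    rw [hm]; simp⟩
  have hi := Nat.find_spec hex
  have hi0 : Nat.find hex ≠ 0 := by
    intro h0
    rw [h0] at hi
    apply hlt
    intro x hx
    exact hi ⟨hx, hXN hx⟩
  obtain ⟨j, hj⟩ := Nat.exists_eq_succ_of_ne_zero hi0
  have hjn : ¬ X ⊓ Lc N j ≤ A := Nat.find_min hex (by rw [hj]; exact Nat.lt_succ_self j)
  obtain ⟨y, hy, hyA⟩ := SetLike.not_le_iff_exists.1 hjn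
  refine ⟨y, hy.1, hyA, fun n hn => ?_⟩
  apply hi
  rw [hj]
  refine ⟨?_, Lc_comm hy.2 hn⟩
  have h1 := hX n hn y⁻¹ (X.inv_mem hy.1)
  have : y * n * y⁻¹ * n⁻¹ = y * (n * y⁻¹ * n⁻¹) := by group
  rw [this]
  exact X.mul_mem hy.1 h1

end Cfsg.Agent.Lib.Helper90Crit
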