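import Mathlib
import Cfsg.Agent.Lib.Helper90NilpFun
import Cfsg.Agent.Lib.Helper24Thompson
import Cfsg.Agent.S2800
import Cfsg.Prelude.Def_FusionReduction

/-!
# Thompson's normal `p`-complement theorem for fusion systems, and a strengthened Frobenius criterion
(modulo the closure of the class of `H`-free systems under normalizers and quotients)
-/

set_option autoImplicit false
set_option linter.unusedSectionVars false

universe u

namespace Cfsg.Agent.Lib.Helper90Thompson

open Cfsg Cfsg.FusionSystem Cfsg.Agent.Lib.Helper87Fusion Cfsg.Agent.Lib.Helper87Fusion2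
  Cfsg.Agent.Lib.Helper87Fusion3 Cfsg.Agent.Lib.Helper86Fusion Cfsg.Agent.Lib.Helper90Nilp
  Cfsg.Agent.Lib.Helper90NilpFun
  Cfsg.Agent.Lib.Helper11Frobenius Cfsg.Agent.Lib.Helper24Functor Cfsg.Agent.Lib.Helper24Thompson
  Cfsg.Agent.Lib.Helper88Factor Cfsg.Agent.Lib.Helper88Quot Cfsg.Agent.Lib.Helper88QuotSat

section model

variable {Ω : Type u} [Group Ω] {S : Subgroup Ω}

theorem normalizerIn_eq_of_isNormal {F : FusionSystem S} {Q : Subgroup Ω} (hQ : F.IsNormal Q) :
    normalizerIn S Q = S := by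
  apply le_antisymm (normalizerIn_le S Q)
  intro s hs
  refine ⟨hs, ?_⟩
  show s ∈ Subgroup.normalizer (Q : Set Ω)
  rw [Subgroup.mem_normalizer_iff]
  intro x
  constructor
  · exact fun hx => Cfsg.Agent.Lib.Helper87Model.conj_mem_of_isNormal hQ hs hx
  · intro hx
    have := Cfsg.Agent.Lib.Helper87Model.conj_mem_of_isNormal hQ (S.inv_mem hs) hx
    have h2 : s⁻¹ * (s * x * s⁻¹) * s⁻¹⁻¹ = x := by group
    rwa [h2] at this

/-- a model of `F` is a model of `N_F(Q)` when `Q` is normal in `F` -/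
theorem isModel_normalizer_of_normal {p : ℕ} {F : FusionSystem S} {Q : Subgroup Ω}
    (hQ : F.IsNormal Q) {N : FusionSystem (normalizerIn S Q)} (hN : F.IsNormalizerSystem Q N)
    {G : Type*} [Group G] {ι : S →* G} (hM : F.IsModel p G ι) :
    N.IsModel p G (ι.comp (Subgroup.inclusion (normalizerIn_le S Q))) := by
  have hT := normalizerIn_eq_of_isNormal hQ
  obtain ⟨hfin, ⟨hinj, hreal⟩, ⟨T, hTr⟩, hcen⟩ := hM
  refine ⟨hfin, ⟨hinj.comp (Subgroup.inclusion_injective _), fun P hP φ hφ => ?_⟩, ⟨T, ?_⟩, hcen⟩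
  · rw [hN P]
    have h1 := hreal P (hP.trans (normalizerIn_le S Q)) φ (fun x => normalizerIn_le S Q (hφ x))
    constructor
    · intro h
      exact h1.1 h.1
    · intro h
      have h2 := h1.2 h
      exact ⟨h2, hP, hφ, hQ.2 P φ h2⟩
  · rw [hTr]
    ext y
    constructor
    · rintro ⟨s, rfl⟩
      exact ⟨⟨s, hT.symm ▸ s.2⟩, rfl⟩
    · rintro ⟨s, rfl⟩
      exact ⟨_, rfl⟩

theorem not_involves_of_sectionFree [Finite S] {p : ℕ} {H : Type*} [Group H] {F : FusionSystem S}
    (hfree : F.IsSectionFree p H) {Q : Subgroup Ω} (hQ : F.IsNormal Q) (hQc : F.IsCentric Q)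
    {G : Type u} [Group G] {ι : S →* G} (hM : F.IsModel p G ι) : ¬ Involves H G := by
  have hsc := Cfsg.Agent.Lib.Helper86Sub.normal_stronglyClosed hQ
  have hN := Cfsg.Agent.Lib.Helper87NormSys.normData_isNormalizerSystem F Q hQ.1
  exact hfree Q (Cfsg.Agent.Lib.Helper87Split.fullyNormalized_of_stronglyClosed hsc) hQc _ hN G _
    (isModel_normalizer_of_normal hQ hN hM)

end model

/-- closure of the class of `H`-free saturated systems under normalizers and quotients -/
structure FreeClosed (p : ℕ) (H : Type*) [Group H] : Prop where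
  norm : ∀ (Ω : Type u) [Group Ω] (S : Subgroup Ω) [Finite S] (F : FusionSystem S),
    IsPGroup p S → F.IsSaturated p → F.IsSectionFree p H → ∀ Q : Subgroup Ω,
    F.IsFullyNormalized Q → ∀ N : FusionSystem (normalizerIn S Q), F.IsNormalizerSystem Q N →
    N.IsSectionFree p H
  factor : ∀ (Ω : Type u) [Group Ω] (S : Subgroup Ω) [Finite S] (F : FusionSystem S),
    IsPGroup p S → F.IsSaturated p → F.IsSectionFree p H → ∀ Q : Subgroup Ω, F.IsNormal Q →
    ∀ (Ω' : Type u) [Group Ω'] (S' : Subgroup Ω') (θ : S →* Ω') (E : FusionSystem S'),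
    F.IsFactorSystem Q θ E → E.IsSectionFree p H

section thompson

variable {p : ℕ} [Fact p.Prime]

/-- the class of systems in Thompson's theorem -/
def KT (p : ℕ) : ∀ (Ω : Type u) [Group Ω] (S : Subgroup Ω), FusionSystem S → Prop :=
  fun _ _ _ F => p ≠ 2 ∨ F.IsSectionFree p (Equiv.Perm (Fin 4))

/-- the family of functors in Thompson's theorem -/
def WT : Set (Bool × (∀ (Q : Type u) [Group Q], Subgroup Q)) := {(false, fZ), (true, fJA)}

theorem axiomsT (hcl : p = 2 → FreeClosed.{u} p (Equiv.Perm (Fin 4))) :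
    Axioms.{u} p (KT p) (CW WT) := by
  apply axioms_of
  · rintro w (rfl | rfl)
    · exact isChar_fZ p
    · exact isChar_fJA p
  · rintro w (rfl | rfl) h
    · intro Q _; exact le_rfl
    · exact absurd h (by simp)
  · rintro Ω _ S _ F hS hF (h | h) Q hQ N hN
    · exact Or.inl h
    · by_cases hp : p = 2
      · exact Or.inr ((hcl hp).norm Ω S F hS hF h Q hQ N hN)
      · exact Or.inl hp
  · rintro Ω _ S _ F hS hF (h | h) Q hQ Ω' _ S' θ E hE
    · exact Or.inl h
    · by_cases hp : p = 2
      · exact Or.inr ((hcl hp).factor Ω S F hS hF h Q hQ Ω' S' θ E hE)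
      · exact Or.inl hp
  · intro Ω _ S _ F hS hF hK Q hQn hQc G _ _ ι hM hH
    obtain ⟨T, hT⟩ := hM.2.2.1
    rw [hasNPC_iff]
    apply Cfsg.Agent.S2800.result T
    · exact hK.imp id (fun h => not_involves_of_sectionFree h hQn hQc hM)
    · rw [← hasNPC_iff]
      have := hH T (false, fZ) (Or.inl rfl)
      rw [ind_fZ] at this
      exact this
    · rw [← hasNPC_iff]
      have := hH T (true, fJA) (Or.inr rfl)
      rw [ind_fJA] at this
      exact this

/-- **Thompson's theorem for fusion systems** (modulo closure of the `S₄`-free class). -/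
theorem thompson (hcl : p = 2 → FreeClosed.{u} p (Equiv.Perm (Fin 4))) {Ω : Type u} [Group Ω]
    {S : Subgroup Ω} [Finite S] (hS : IsPGroup p S) (F : FusionSystem S) (hF : F.IsSaturated p)
    (hp : p ≠ 2 ∨ F.IsSectionFree p (Equiv.Perm (Fin 4)))
    (hC : ∀ C : FusionSystem (centralizerIn S (S ⊓ Subgroup.centralizer (S : Set Ω))),
      F.IsCentralizerSystem (S ⊓ Subgroup.centralizer (S : Set Ω)) C → ∀ P : Subgroup Ω,
      C.Hom P = (innerFusionSystem (centralizerIn S (S ⊓ Subgroup.centralizer (S : Set Ω)))).Hom P)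
    (hN : ∀ N : FusionSystem (normalizerIn S (thompsonSubgroupAOf S)),
      F.IsNormalizerSystem (thompsonSubgroupAOf S) N → ∀ P : Subgroup Ω,
      N.Hom P = (innerFusionSystem (normalizerIn S (thompsonSubgroupAOf S))).Hom P) :
    F = innerFusionSystem S := by
  apply eq_inner_of_hyp (axiomsT hcl) hS hF hp
  rintro P hP α hα ⟨w, (rfl | rfl), hVP, hVα, hVfix⟩ hc
  · rw [ind_fZ] at hVP hVfix
    have hCsys := Cfsg.Agent.Lib.Helper87NormSys.centData_isCentralizerSystem F
      (S ⊓ Subgroup.centralizer (S : Set Ω)) inf_le_left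
    refine eq_one_of_centralizer_inner hS hCsys (hC _ hCsys) hVP ?_ hα (hVfix rfl) hc
    intro x hx
    refine ⟨hP hx, ?_⟩
    intro z hz
    exact (hz.2 x (hP hx)).symm
  · rw [ind_fJA] at hVP hVα
    have hJS : thompsonSubgroupAOf S ≤ S := by rw [← ind_fJA]; exact ind_le S
    have hT : normalizerIn S (thompsonSubgroupAOf S) = S := by
      rw [← ind_fJA]; exact normalizerIn_ind (isChar_fJA p) hS
    have hNsys := Cfsg.Agent.Lib.Helper87NormSys.normData_isNormalizerSystem F _ hJS
    exact eq_one_of_normalizer_inner hS hNsys (hN _ hNsys) hVP (hT.symm ▸ hP) hα hVα hc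

end thompson

section frobenius

variable {p : ℕ} [Fact p.Prime]

theorem char_comap {A B : Type*} [Group A] [Group B] (f : A →* B) (hf : Function.Surjective f)
    (hker : f.ker.Characteristic) {R : Subgroup B} (hR : R.Characteristic) :
    (R.comap f).Characteristic := by
  rw [Subgroup.characteristic_iff_le_comap]
  intro β a ha
  have hmap : f.ker.map β.toMonoidHom = f.ker := Subgroup.characteristic_iff_map_eq.1 hker β
  let e := QuotientGroup.quotientKerEquivOfSurjective f hf
  let c := QuotientGroup.congr f.ker f.ker β hmap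
  let βbar : B ≃* B := e.symm.trans (c.trans e)
  have h1 : ∀ a, βbar (f a) = f (β a) := by
    intro a
    have h2 : e.symm (f a) = QuotientGroup.mk a := by
      rw [MulEquiv.symm_apply_eq]; rfl
    show e (c (e.symm (f a))) = _
    rw [h2]
    rfl
  have h3 := Subgroup.characteristic_iff_le_comap.1 hR βbar (show f a ∈ R from ha)
  show f (β a) ∈ R
  rw [← h1]
  exact h3

theorem char_preimage {Ω Ω' : Type*} [Group Ω] [Group Ω'] {T V : Subgroup Ω} {S' : Subgroup Ω'}
    {θ : T →* Ω'} (hq : IsQuot θ V S') (hV : (V.subgroupOf T).Characteristic) {R : Subgroup Ω'}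
    (hR : (R.subgroupOf S').Characteristic) :
    ((preimageAlong θ R).subgroupOf T).Characteristic := by
  let f : T →* S' := θ.codRestrict S' (fun t => hq.range ▸ ⟨t, rfl⟩)
  have hf : Function.Surjective f := by
    rintro ⟨y, hy⟩
    rw [← hq.range] at hy
    obtain ⟨t, rfl⟩ := hy
    exact ⟨t, rfl⟩
  have hker : f.ker = V.subgroupOf T := by
    ext t
    rw [MonoidHom.mem_ker, Subgroup.mem_subgroupOf, ← hq.ker t]
    exact ⟨fun h => congrArg Subtype.val h, fun h => Subtype.ext h⟩
  have h1 := char_comap f hf (hker ▸ hV) hR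
  have h2 : (R.subgroupOf S').comap f = (preimageAlong θ R).subgroupOf T := by
    ext t
    rw [Subgroup.mem_comap, Subgroup.mem_subgroupOf, Subgroup.mem_subgroupOf, mem_preimageAlong,
      tt_coe]
    exact ⟨fun h => ⟨t.2, h⟩, fun h => h.2⟩
  rwa [h2] at h1

/-- restriction of an automorphism to an invariant subgroup whose automizer is a `p`-group -/
theorem fix_of_isPGroup {Ω : Type u} [Group Ω] {S : Subgroup Ω} [Finite S] {F : FusionSystem S}
    {V P : Subgroup Ω} (hVP : V ≤ P) (hPS : P ≤ S) (hV : IsPGroup p (F.autGroup V)) {α : MulAut P}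
    (hα : α ∈ F.autGroup P) (hinv : ∀ x : P, (x : Ω) ∈ V → ((α x : P) : Ω) ∈ V)
    (hc : (orderOf α).Coprime p) : ∀ x : P, (x : Ω) ∈ V → α x = x := by
  have h1 : IsMap F P (totA α) := (mem_autGroup_iff_totA F hPS α).1 hα
  have h2 : totA α '' (V : Set Ω) = (V : Set Ω) := by
    apply Cfsg.Agent.Lib.Helper88Normal.image_eq_of_maps_to (h1.restrict hVP)
    intro x hx
    rw [totA_of_mem α (hVP hx)]
    exact hinv _ hx
  obtain ⟨β, hβ, hβα⟩ := (h1.restrict hVP).exists_aut h2
  have hpow : ∀ (n : ℕ) (x : V), (((β ^ n) x : V) : Ω) = ((α ^ n) ⟨x, hVP x.2⟩ : P) := by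
    intro n
    induction n with
    | zero => intro x; rfl
    | succ n ih =>
      intro x
      rw [pow_succ', pow_succ', MulAut.mul_apply, MulAut.mul_apply, hβα, ih,
        totA_of_mem α ((α ^ n) ⟨x, hVP x.2⟩).2]
  have hord : orderOf β ∣ orderOf α := by
    apply orderOf_dvd_of_pow_eq_one
    ext x
    rw [hpow, pow_orderOf_eq_one]
    rfl
  have hβ1 : β = 1 := by
    have := eq_one_of_isPGroup_of_coprime hV (x := ⟨β, hβ⟩)
      (by rw [← Subgroup.orderOf_coe]; exact Nat.Coprime.coprime_dvd_left hord hc)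
    exact congrArg Subtype.val this
  intro x hx
  apply Subtype.ext
  have := hβα ⟨x, hx⟩
  rw [hβ1, totA_of_mem α x.2] at this
  exact this.symm

/-- the hypothesis of the strengthened Frobenius criterion -/
def CharHyp (p : ℕ) {Ω : Type u} [Group Ω] {S : Subgroup Ω} (F : FusionSystem S) : Prop :=
  ∀ Q : Subgroup Ω, Q ≤ S → Q ≠ ⊥ → (Q.subgroupOf S).Characteristic → IsPGroup p (F.autGroup Q)

theorem frobenius_aux (hcl : p = 2 → FreeClosed.{u} p (Equiv.Perm (Fin 4))) (n : ℕ) :
    ∀ (Ω : Type u) [Group Ω] (S : Subgroup Ω) [Finite S], Nat.card S < n → IsPGroup p S →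
      ∀ F : FusionSystem S, F.IsSaturated p → KT p Ω S F → CharHyp p F → AllP p F := by
  induction n with
  | zero => intro Ω _ S _ h; omega
  | succ n ih =>
    intro Ω _ S _ hcard hS F hF hK hch
    apply main (axiomsT hcl) Ω S hS F hF hK
    rintro P hP α hα ⟨w, hw, hVP, hVα, -⟩ hc
    by_contra hne
    have hW : IsCharPFunctor.{u} p w.2 := by
      rcases hw with rfl | rfl
      exacts [isChar_fZ p, isChar_fJA p]
    have hVS : inducedFunctor w.2 S ≤ S := ind_le S
    have hS1 : S ≠ ⊥ := by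
      rintro rfl
      apply hne
      have hP' : P = ⊥ := le_bot_iff.1 hP
      subst hP'
      ext x
      have h1 : ∀ y : (⊥ : Subgroup Ω), (y : Ω) = 1 := fun y => Subgroup.mem_bot.1 y.2
      rw [h1, h1]
    have hV1 : inducedFunctor w.2 S ≠ ⊥ := ind_ne_bot hW S hS hS1
    have hVchar : ((inducedFunctor w.2 S).subgroupOf S).Characteristic := by
      rw [Subgroup.characteristic_iff_le_comap]
      intro β x hx
      exact ind_char hW S hS β x hx
    have hT : normalizerIn S (inducedFunctor w.2 S) = S := normalizerIn_ind hW hS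
    have hfn := Cfsg.Agent.Lib.Helper89Fusion.isFullyNormalized_of_normalizerIn_eq F hVS hT
    have hN := Cfsg.Agent.Lib.Helper87NormSys.normData_isNormalizerSystem F _ hVS
    have hNsat := Cfsg.Agent.Lib.Helper87KNorm.normalizer_saturated hS hF hfn hN
    have hKN := (axiomsT hcl).K_norm Ω S F hS hF hK _ hfn _ hN
    have hVn := Cfsg.Agent.Lib.Helper87Model.normalizerSystem_isNormal hVS hN
    have hsc := Cfsg.Agent.Lib.Helper86Sub.normal_stronglyClosed hVn
    have hTS := normalizerIn_le S (inducedFunctor w.2 S)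
    have hfinT : Finite (normalizerIn S (inducedFunctor w.2 S)) := finite_of_le hTS
    have hST := hS.to_le hTS
    obtain ⟨Ω', _, S', _, θ, E, hE, hEsat, hS', hcard'⟩ := exists_factor hST hNsat hsc hV1
    have hq := IsFactorSystem.isQuot hE
    have hKE := (axiomsT hcl).K_factor Ω _ _ hST hNsat hKN _ hVn Ω' S' θ E hE
    have hcT : Nat.card (normalizerIn S (inducedFunctor w.2 S)) = Nat.card S := by rw [hT]
    have hAllE : AllP p E := by
      apply ih Ω' S' (by omega) hS' E hEsat hKE
      intro R hR hR1 hRch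
      have hVR₀ : inducedFunctor w.2 S ≤ preimageAlong θ R := hq.le_pre _
      have hR₀T : preimageAlong θ R ≤ normalizerIn S (inducedFunctor w.2 S) :=
        preimageAlong_le θ _
      have hR₀ch := char_preimage hq (by rw [hT]; exact hVchar) hRch
      have htr : ∀ (X R₀ : Subgroup Ω), X = S → (R₀.subgroupOf X).Characteristic →
          (R₀.subgroupOf S).Characteristic := by
        rintro X R₀ rfl h; exact h
      have h1 : IsPGroup p (F.autGroup (preimageAlong θ R)) :=
        hch _ (hR₀T.trans hTS) (fun h => hV1 (le_bot_iff.1 (h ▸ hVR₀))) (htr _ _ hT hR₀ch)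
      have h2 := h1.to_le (fun a ha => autGroup_normalizer_le hN hR₀T ha)
      have h3 := IsPGroup.of_surjective h2 (Phi hE hsc hVR₀ hR₀T) (Phi_surjective hE hsc hVR₀ hR₀T)
      rwa [image_pre hq hR] at h3
    have hPT : P ≤ normalizerIn S (inducedFunctor w.2 S) := hT.symm ▸ hP
    have hαN := mem_autGroup_normalizer hN hVP hPT hα hVα
    have htriv := act_trivial_mod hE hsc hAllE hVP hPT hαN hc
    have hfix := fix_of_isPGroup hVP hP (hch _ hVS hV1 hVchar) hα hVα hc
    have hfinP : Finite P := finite_of_le hP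
    exact hne (Cfsg.Agent.Lib.Helper90SmallExp.aut_eq_one_of_chain p (hS.to_le hP) α hc
      (fun x => hfix _ (htriv x)))

/-- **Strengthened Frobenius criterion for fusion systems** (modulo closure of the `S₄`-free
class). -/
theorem frobenius_strong (hcl : p = 2 → FreeClosed.{u} p (Equiv.Perm (Fin 4))) {Ω : Type u}
    [Group Ω] {S : Subgroup Ω} [Finite S] (hS : IsPGroup p S) (F : FusionSystem S)
    (hF : F.IsSaturated p) (hp : p ≠ 2 ∨ F.IsSectionFree p (Equiv.Perm (Fin 4)))
    (h : ∀ Q : Subgroup Ω, Q ≤ S → Q ≠ ⊥ → (Q.subgroupOf S).Characteristic →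
      IsPGroup p (F.autGroup Q)) : F = innerFusionSystem S :=
  Cfsg.Agent.S5083.result p hS F hF
    (allP_iff.1 (frobenius_aux hcl _ Ω S (Nat.lt_succ_self _) hS F hF hp h))

end frobenius

end Cfsg.Agent.Lib.Helper90Thompson
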