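import Mathlib
import Cfsg.Agent.Lib.Helper90Thompson
import Cfsg.Agent.Lib.Helper87Free2
import Cfsg.Agent.Lib.Helper87Free3

/-! The class of `H`-free saturated fusion systems is closed under normalizers and quotients. -/

set_option autoImplicit false

universe u

namespace Cfsg.Agent.Lib.Helper90Free

open Cfsg Cfsg.FusionSystem Cfsg.Agent.Lib.Helper90Thompson

theorem freeClosed (p : ℕ) [Fact p.Prime] (H : Type*) [Group H] : FreeClosed.{u} p H where
  norm := fun _ _ _ _ _ hS hF hfree _ hQ _ hN =>
    Cfsg.Agent.Lib.Helper87Free2.sectionFree_normalizer hS hF hfree hQ hN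
  factor := fun _ _ _ _ _ hS hF hfree _ hQ _ _ _ _ _ hE =>
    Cfsg.Agent.Lib.Helper87Free3.sectionFree_factor hS hF hQ hfree hE

end Cfsg.Agent.Lib.Helper90Free
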