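import Cfsg.Agent.Lib.Helper14Replace
import Cfsg.Agent.Lib.Helper14ReplaceSub
import Cfsg.Agent.Lib.Helper14FamProps
import Cfsg.Agent.Lib.Helper52PReduced

set_option autoImplicit false

/-! Thompson replacement for an abelian normal subgroup (all primes) and the normal subgroup
centralizing the `p`-th powers of `Z(S)` in a group of characteristic `p` in which `J(S)` is not
normal. -/

namespace Cfsg.Agent.Lib.Helper90Repl

open Cfsg Subgroup Cfsg.Agent.Lib.Helper14Family Cfsg.Agent.Lib.Helper14FamProps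
  Cfsg.Agent.Lib.Helper52Basic Cfsg.Agent.Lib.Helper52PReduced

variable {G : Type*} [Group G]

theorem replace_step_ab {S : Type*} [Group S] [Finite S] {p : ℕ} [Fact p.Prime] (hS : IsPGroup p S)
    (B : Subgroup S) [B.Normal] (hB : IsMulCommutative B) (A : Subgroup S) (hA : IsMulCommutative A)
    (hnot : ¬ B ≤ normalizer (A : Set S)) :
    ∃ K : Subgroup S, Nat.card K = Nat.card A ∧ IsMulCommutative K ∧ A ⊓ B < K ⊓ B ∧ K ⊓ B < B := by
  have hBA : ⁅B, B⁆ ≤ A := by
    have : ⁅B, B⁆ = ⊥ := by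
      rw [Subgroup.commutator_eq_bot_iff_le_centralizer]
      exact Subgroup.le_centralizer B
    rw [this]; exact bot_le
  obtain ⟨b, hb, hbN, hbA⟩ := Cfsg.Agent.S0649.result hS B (fun _ => hB) A hA hBA hnot
  obtain ⟨h1, h2, h3, h4, h5, -⟩ :=
    Cfsg.Agent.S0650.result hS B (fun _ => hB) A hA hBA hnot b hb hbN hbA
  exact ⟨_, h1, h2, h4, h5⟩

theorem famA_replace_ab [Finite G] {p : ℕ} [Fact p.Prime] (P B A : Subgroup G)
    (hP : IsPGroup p P) (hBP : B ≤ P) (hPB : P ≤ normalizer (B : Set G)) (hB : IsMulCommutative B)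
    (hA : A ∈ famA P) (hnot : ¬ B ≤ normalizer (A : Set G)) :
    ∃ K ∈ famA P, A ⊓ B < K ⊓ B ∧ K ⊓ B < B := by
  have hAP := hA.1
  have hAc := hA.2.1
  have hBn : (B.subgroupOf P).Normal := (Subgroup.normal_subgroupOf_iff_le_normalizer hBP).mpr hPB
  have h2 : ¬ B.subgroupOf P ≤ normalizer ((A.subgroupOf P : Subgroup P) : Set P) := by
    intro h
    apply hnot
    rw [Subgroup.le_normalizer_iff] at h ⊢
    intro b hb a ha
    exact h ⟨b, hBP hb⟩ hb ⟨a, hAP ha⟩ ha
  obtain ⟨K, k1, k2, k4, k5⟩ :=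
    replace_step_ab hP (B.subgroupOf P) inferInstance (A.subgroupOf P) inferInstance h2
  refine ⟨K.map P.subtype, ⟨Subgroup.map_subtype_le K, inferInstance, ?_⟩, ?_, ?_⟩
  · intro B' hB' hB'c
    rw [Subgroup.card_map_of_injective P.subtype_injective, k1,
      ← Subgroup.card_map_of_injective P.subtype_injective, Subgroup.subgroupOf_map_subtype,
      inf_eq_left.2 hAP]
    exact hA.2.2 B' hB' hB'c
  · have := (Subgroup.map_lt_map_iff_of_injective P.subtype_injective).mpr k4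
    rwa [Subgroup.map_inf _ _ _ P.subtype_injective, Subgroup.map_inf _ _ _ P.subtype_injective,
      Subgroup.subgroupOf_map_subtype, Subgroup.subgroupOf_map_subtype, inf_eq_left.2 hAP,
      inf_eq_left.2 hBP] at this
  · have := (Subgroup.map_lt_map_iff_of_injective P.subtype_injective).mpr k5
    rwa [Subgroup.map_inf _ _ _ P.subtype_injective, Subgroup.subgroupOf_map_subtype,
      inf_eq_left.2 hBP] at this

/-- centre of `Q` as a subgroup of the ambient group -/
def zen (Q : Subgroup G) : Subgroup G := Q ⊓ centralizer (Q : Set G)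

theorem zen_comm (Q : Subgroup G) : IsMulCommutative (zen Q) := by
  apply IsMulCommutative.of_setLike_mul_comm
  intro a ha b hb
  exact (hb.2 a ha.1)

theorem normalizer_le_normalizer_zen (Q : Subgroup G) :
    normalizer (Q : Set G) ≤ normalizer ((zen Q : Subgroup G) : Set G) := by
  intro g hg
  have h1 := normalizer_le_normalizer_centralizer Q hg
  rw [mem_normalizer_iff_map_conj_eq] at hg h1 ⊢
  unfold zen
  rw [Subgroup.map_inf _ _ _ (MulAut.conj g).injective, hg, h1]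

/-- **Thompson replacement**: if some abelian subgroup of `P` of largest order is not contained in
the normal subgroup `Q` of `P`, then there is such a subgroup normalized by `Z(Q)`. -/
theorem exists_normalized [Finite G] {p : ℕ} [Fact p.Prime] (P Q : Subgroup G) (hP : IsPGroup p P)
    (hQP : Q ≤ P) (hPQ : P ≤ normalizer (Q : Set G)) (h : ∃ A ∈ famA P, ¬ A ≤ Q) :
    ∃ A ∈ famA P, ¬ A ≤ Q ∧ zen Q ≤ normalizer (A : Set G) := by
  obtain ⟨A₀, hA₀, hA₀Q⟩ := h
  have hne : Nonempty {A : Subgroup G // A ∈ famA P ∧ ¬ A ≤ Q} := ⟨⟨A₀, hA₀, hA₀Q⟩⟩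
  obtain ⟨⟨A, hA1, hA2⟩, hmax⟩ := Finite.exists_max
    (fun A : {A : Subgroup G // A ∈ famA P ∧ ¬ A ≤ Q} =>
      Nat.card ((A : Subgroup G) ⊓ zen Q : Subgroup G))
  refine ⟨A, hA1, hA2, ?_⟩
  by_contra hnot
  obtain ⟨K, hK, k4, k5⟩ := famA_replace_ab P (zen Q) A hP (inf_le_left.trans hQP)
    (hPQ.trans (normalizer_le_normalizer_zen Q)) (zen_comm Q) hA1 hnot
  by_cases hKQ : K ≤ Q
  · -- then `Z(Q)` centralizes `K`, hence lies in `K`
    apply k5.ne
    rw [inf_eq_right]
    intro z hz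
    have hzK : z ∈ centralizer (K : Set G) := Subgroup.centralizer_le hKQ hz.2
    have h1 := hK.2.2 (K ⊔ zpowers z)
      (sup_le hK.1 (by rw [zpowers_le]; exact hQP hz.1)) (comm_sup_zpowers K hK.2.1 z hzK)
    have h2 : K = K ⊔ zpowers z := Subgroup.eq_of_le_of_card_ge le_sup_left h1
    rw [h2]
    exact (le_sup_right : zpowers z ≤ K ⊔ zpowers z) (mem_zpowers z)
  · have h1 := hmax ⟨K, hK, hKQ⟩
    have h2 : Nat.card (A ⊓ zen Q : Subgroup G) < Nat.card (K ⊓ zen Q : Subgroup G) :=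
      Cfsg.Agent.Lib.Helper14Replace.card_lt_of_lt k4
    exact absurd h1 (not_le.2 h2)


/-- If every abelian subgroup of largest order of `P` lies in a normal subgroup `Q ≤ P` of `G`,
then `J(P)` is normal in `G`. -/
theorem thompsonA_normal_of_le (P Q : Subgroup G) (hQ : Q.Normal) (hQP : Q ≤ P)
    (h : ∀ A ∈ famA P, A ≤ Q) : (thompsonSubgroupAOf P).Normal := by
  rw [thompsonSubgroupAOf_eq]
  have key : ∀ g : G, (sSup (famA P)).map (MulAut.conj g).toMonoidHom ≤ sSup (famA P) := by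
    intro g
    rw [Subgroup.map_le_iff_le_comap]
    apply sSup_le
    intro A hA
    rw [← Subgroup.map_le_iff_le_comap]
    apply le_sSup
    have := hA.2.1
    refine ⟨?_, inferInstance, ?_⟩
    · rintro _ ⟨a, ha, rfl⟩
      exact hQP (hQ.conj_mem a (h A hA ha) g)
    · intro B hB hBc
      rw [Subgroup.card_map_of_injective (MulAut.conj g).injective]
      exact hA.2.2 B hB hBc
  exact ⟨fun n hn g => key g ⟨n, hn, rfl⟩⟩

/-- the elements of order dividing `p ^ i` of an abelian subgroup -/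
def Om (p : ℕ) (U : Subgroup G) (hU : ∀ a ∈ U, ∀ b ∈ U, a * b = b * a) (i : ℕ) : Subgroup G where
  carrier := {u | u ∈ U ∧ u ^ (p ^ i) = 1}
  one_mem' := ⟨U.one_mem, one_pow _⟩
  mul_mem' := fun {a b} ha hb => ⟨U.mul_mem ha.1 hb.1, by
    have : Commute a b := hU a ha.1 b hb.1
    rw [this.mul_pow, ha.2, hb.2, one_mul]⟩
  inv_mem' := fun {a} ha => ⟨U.inv_mem ha.1, by rw [inv_pow, ha.2, inv_one]⟩

/-- A subgroup centralizing the elements of order `p` of a normal abelian `p`-subgroup `U` acts as a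
`p`-group on `U`. -/
theorem pow_mem_centralizer_of_omega [Finite G] {p : ℕ} [Fact p.Prime] (U : Subgroup G)
    (hUn : U.Normal) (hUp : IsPGroup p U) (hU : ∀ a ∈ U, ∀ b ∈ U, a * b = b * a) (K : Subgroup G)
    (hK : ∀ k ∈ K, ∀ u ∈ U, u ^ p = 1 → k * u = u * k) :
    ∀ x ∈ K, ∃ k : ℕ, x ^ (p ^ k) ∈ centralizer (U : Set G) := by
  have h1 : ∀ i : ℕ, ∀ x ∈ K, ∃ k : ℕ, x ^ (p ^ k) ∈ centralizer ((Om p U hU i : Subgroup G) : Set G) := by
    intro i
    induction i with
    | zero =>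
      intro x _
      refine ⟨0, ?_⟩
      rw [mem_centralizer_iff]
      rintro u ⟨-, hu⟩
      rw [pow_zero, pow_one] at hu
      rw [hu, one_mul, mul_one]
    | succ i ih =>
      intro x hx
      refine stab_step K (Om p U hU (i + 1)) (Om p U hU i) (hUp.to_le (fun u hu => hu.1)) ?_ x hx
        (ih x hx)
      rintro l hl r ⟨hrU, hr⟩
      have hlr : l * r * l⁻¹ ∈ U := hUn.conj_mem r hrU l
      refine ⟨U.mul_mem hlr (U.inv_mem hrU), ?_⟩
      have hc : Commute (l * r * l⁻¹) r⁻¹ := hU _ hlr _ (U.inv_mem hrU)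
      rw [hc.mul_pow, conj_pow]
      have h2 : l * r ^ (p ^ i) = r ^ (p ^ i) * l := by
        apply hK l hl _ (U.pow_mem hrU _)
        rw [← pow_mul, ← pow_succ]
        exact hr
      rw [h2, inv_pow]
      group
  obtain ⟨n, hn⟩ := (IsPGroup.iff_card (p := p) (G := U)).1 hUp
  intro x hx
  obtain ⟨k, hk⟩ := h1 n x hx
  refine ⟨k, ?_⟩
  rw [mem_centralizer_iff] at hk ⊢
  intro u hu
  apply hk u
  refine ⟨hu, ?_⟩
  have : (⟨u, hu⟩ : U) ^ (Nat.card U) = 1 := pow_card_eq_one'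
  rw [hn] at this
  simpa using congrArg Subtype.val this

/-- `O_p(G / C_G(U)) = 1` for `U = ⟨Z(T)^G⟩`, in elementwise form. -/
theorem le_centralizer_normalClosure [Finite G] {p : ℕ} [Fact p.Prime] (T : Sylow p G)
    (K : Subgroup G) [hKn : K.Normal]
    (hK : ∀ x ∈ K, ∃ k : ℕ, x ^ (p ^ k) ∈
      centralizer ((normalClosure ((zen (T : Subgroup G) : Subgroup G) : Set G) : Subgroup G) : Set G)) :
    K ≤ centralizer ((normalClosure ((zen (T : Subgroup G) : Subgroup G) : Set G) : Subgroup G) : Set G) := by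
  set U := normalClosure ((zen (T : Subgroup G) : Subgroup G) : Set G) with hU
  have hCn : (centralizer (U : Set G)).Normal := inferInstance
  have h1 : K ≤ centralizer (U : Set G) ⊔ (K ⊓ T) :=
    le_sup_inf_sylow T K (centralizer (U : Set G)) (by rw [normalizer_eq_top]; exact le_top) hK
  have h2 : K ≤ centralizer ((zen (T : Subgroup G) : Subgroup G) : Set G) := by
    refine h1.trans (sup_le ?_ ?_)
    · exact Subgroup.centralizer_le subset_normalClosure
    · intro t ht
      rw [mem_centralizer_iff]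
      intro z hz
      exact (hz.2 t ht.2).symm
  -- `zen T ≤ C(K)`, which is normal
  have h3 : zen (T : Subgroup G) ≤ centralizer (K : Set G) := by
    rw [Subgroup.le_centralizer_iff]; exact h2
  have h4 : U ≤ centralizer (K : Set G) := normalClosure_le_normal h3
  rw [Subgroup.le_centralizer_iff]; exact h4

/-- In a finite group `G` with `C_G(O_p(G)) ≤ O_p(G)` and Sylow `p`-subgroup `T` such that `J(T)` is
not normal, there is a normal subgroup `C` centralizing all `p`-th powers of elements of `Z(T)` with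
`T ∩ C ≰ O_p(G)`. -/
theorem exists_normal_centralizing [Finite G] {p : ℕ} [Fact p.Prime] (T : Sylow p G)
    (hc : centralizer (pCore p G : Set G) ≤ pCore p G)
    (hJ : ¬ (thompsonSubgroupAOf (T : Subgroup G)).Normal) :
    ∃ C : Subgroup G, C.Normal ∧
      (∀ c ∈ C, ∀ z ∈ zen (T : Subgroup G), c * z ^ p = z ^ p * c) ∧
      ¬ ((T : Subgroup G) ⊓ C ≤ pCore p G) := by
  set Q := pCore p G with hQ
  have hQn : Q.Normal := Cfsg.pCore_normal p G
  have hQT : Q ≤ T := pCore_le_sylow T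
  have hTp : IsPGroup p (T : Subgroup G) := T.isPGroup'
  have hex : ∃ A ∈ famA (T : Subgroup G), ¬ A ≤ Q := by
    by_contra hcon
    push Not at hcon
    exact hJ (thompsonA_normal_of_le T Q hQn hQT hcon)
  obtain ⟨A, hA, hAQ, hBA⟩ := exists_normalized T Q hTp hQT
    (by rw [normalizer_eq_top]; exact le_top) hex
  have hAc : ∀ a ∈ A, ∀ b ∈ A, a * b = b * a := by
    have := hA.2.1
    intro a ha b hb
    exact setLike_mul_comm ha hb
  have hBn : (zen Q).Normal := by
    rw [← normalizer_eq_top_iff, eq_top_iff]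
    refine le_trans ?_ (normalizer_le_normalizer_zen Q)
    rw [normalizer_eq_top]
  have hBc : ∀ a ∈ zen Q, ∀ b ∈ zen Q, a * b = b * a := fun a ha b hb => hb.2 a ha.1
  set U := normalClosure ((zen (T : Subgroup G) : Subgroup G) : Set G) with hU
  have hZB : zen (T : Subgroup G) ≤ zen Q := by
    intro z hz
    have h1 : z ∈ centralizer (Q : Set G) := Subgroup.centralizer_le hQT hz.2
    exact ⟨hc h1, h1⟩
  have hUB : U ≤ zen Q := normalClosure_le_normal hZB
  have hUn : U.Normal := normalClosure_normal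
  have hUc : ∀ a ∈ U, ∀ b ∈ U, a * b = b * a := fun a ha b hb => hBc a (hUB ha) b (hUB hb)
  have hUp : IsPGroup p U := (pCore_isPGroup (G := G) (p := p)).to_le (hUB.trans inf_le_left)
  have hOmn : (Om p U hUc 1).Normal := by
    refine ⟨fun u hu g => ⟨hUn.conj_mem u hu.1 g, ?_⟩⟩
    rw [conj_pow, hu.2]; group
  set K := centralizer ((Om p U hUc 1 : Subgroup G) : Set G) with hK
  have hKn : K.Normal := inferInstance
  have hKU : K ≤ centralizer (U : Set G) := by
    apply le_centralizer_normalClosure T K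
    apply pow_mem_centralizer_of_omega U hUn hUp hUc K
    intro k hk u hu hup
    exact (hk u ⟨hu, by rwa [pow_one]⟩).symm
  -- the commutator of `a ∈ A` and `u ∈ U` lies in `A`
  have hcA : ∀ a ∈ A, ∀ u ∈ U, a * u * a⁻¹ * u⁻¹ ∈ A := by
    intro a ha u hu
    have h1 : u * a⁻¹ * u⁻¹ ∈ A :=
      (mem_normalizer_iff.1 (hBA (hUB hu)) a⁻¹).1 (A.inv_mem ha)
    have h2 : a * u * a⁻¹ * u⁻¹ = a * (u * a⁻¹ * u⁻¹) := by group
    rw [h2]; exact A.mul_mem ha h1
  have hpow : ∀ a ∈ A, ∀ u ∈ U, ∀ m : ℕ,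
      a ^ m * u * (a ^ m)⁻¹ = (a * u * a⁻¹ * u⁻¹) ^ m * u := by
    intro a ha u hu m
    apply conj_pow_of_commute (by group)
    exact hAc a ha _ (hcA a ha u hu)
  have hcp : ∀ a ∈ A, ∀ u ∈ U, (a * u * a⁻¹ * u⁻¹) ^ p = a * u ^ p * a⁻¹ * (u ^ p)⁻¹ := by
    intro a ha u hu
    have hc' : Commute (a * u * a⁻¹) u⁻¹ := hUc _ (hUn.conj_mem u hu a) _ (U.inv_mem hu)
    rw [hc'.mul_pow, conj_pow, inv_pow]
  have hapK : ∀ a ∈ A, a ^ p ∈ K := by
    intro a ha
    rw [hK, mem_centralizer_iff]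
    rintro u ⟨hu, hup⟩
    rw [pow_one] at hup
    have h1 := hpow a ha u hu p
    rw [hcp a ha u hu, hup] at h1
    have h2 : a ^ p * u * (a ^ p)⁻¹ = u := by rw [h1]; group
    calc u * a ^ p = (a ^ p * u * (a ^ p)⁻¹) * a ^ p := by rw [h2]
      _ = a ^ p * u := by group
  have hfix : ∀ a ∈ A, ∀ u ∈ U, a * u ^ p = u ^ p * a := by
    intro a ha u hu
    have h0 := hKU (hapK a ha)
    rw [mem_centralizer_iff] at h0
    have h1 := hpow a ha u hu p
    have h2 : a ^ p * u * (a ^ p)⁻¹ = u := by rw [← h0 u hu]; group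
    rw [h2, hcp a ha u hu] at h1
    have h3 : a * u ^ p * a⁻¹ * (u ^ p)⁻¹ = 1 := by
      have := h1.symm
      rwa [mul_eq_right] at this
    calc a * u ^ p = (a * u ^ p * a⁻¹ * (u ^ p)⁻¹) * (u ^ p * a) := by group
      _ = u ^ p * a := by rw [h3, one_mul]
  let Pw : Subgroup G :=
    { carrier := {y | ∃ u ∈ U, y = u ^ p}
      one_mem' := ⟨1, U.one_mem, (one_pow _).symm⟩
      mul_mem' := by
        rintro _ _ ⟨u, hu, rfl⟩ ⟨v, hv, rfl⟩
        have : Commute u v := hUc u hu v hv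
        exact ⟨u * v, U.mul_mem hu hv, (this.mul_pow p).symm⟩
      inv_mem' := by
        rintro _ ⟨u, hu, rfl⟩
        exact ⟨u⁻¹, U.inv_mem hu, (inv_pow u p).symm⟩ }
  have hPwn : Pw.Normal := by
    refine ⟨?_⟩
    rintro _ ⟨u, hu, rfl⟩ g
    exact ⟨g * u * g⁻¹, hUn.conj_mem u hu g, (conj_pow).symm⟩
  refine ⟨centralizer (Pw : Set G), inferInstance, ?_, ?_⟩
  · intro c hc' z hz
    rw [mem_centralizer_iff] at hc'
    exact (hc' (z ^ p) ⟨z, subset_normalClosure hz, rfl⟩).symm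
  · intro hle
    apply hAQ
    intro a ha
    apply hle
    refine ⟨hA.1 ha, ?_⟩
    show a ∈ centralizer (Pw : Set G)
    rw [mem_centralizer_iff]
    rintro _ ⟨u, hu, rfl⟩
    exact (hfix a ha u hu).symm

/-- A `p`-subgroup of `C T`, `C` normal and `T` a Sylow `p`-subgroup of `G`, is conjugate into `T`
by an element of `C`. -/
theorem exists_conj_into_sylow [Finite G] {p : ℕ} [Fact p.Prime] (T : Sylow p G) (C : Subgroup G)
    [C.Normal] (Y : Subgroup G) (hY : IsPGroup p Y) (hYle : Y ≤ (T : Subgroup G) ⊔ C) :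
    ∃ c ∈ C, ∀ y ∈ Y, c * y * c⁻¹ ∈ (T : Subgroup G) := by
  set H := (T : Subgroup G) ⊔ C with hH
  let T' : Sylow p H := T.subtype le_sup_left
  have hY' : IsPGroup p (Y.subgroupOf H) :=
    hY.comap_of_injective H.subtype H.subtype_injective
  obtain ⟨R, hR⟩ := hY'.exists_le_sylow
  obtain ⟨h, hh⟩ := MulAction.exists_smul_eq H R T'
  have hmem : (h : G) ∈ ((T : Subgroup G) ⊔ C : Subgroup G) := h.2
  rw [← SetLike.mem_coe, mul_normal] at hmem
  obtain ⟨t, ht, c, hc, htc⟩ := hmem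
  refine ⟨c, hc, fun y hy => ?_⟩
  have h1 : (⟨y, hYle hy⟩ : H) ∈ R := hR (by simpa [mem_subgroupOf] using hy)
  have h2 : h * ⟨y, hYle hy⟩ * h⁻¹ ∈ (T' : Subgroup H) := by
    rw [← hh, Sylow.coe_subgroup_smul]
    exact ⟨_, h1, rfl⟩
  have h3 : (h : G) * y * (h : G)⁻¹ ∈ (T : Subgroup G) := by
    have h2' : h * ⟨y, hYle hy⟩ * h⁻¹ ∈ (T : Subgroup G).subgroupOf H := by
      rw [← Sylow.coe_subtype T le_sup_left]; exact h2
    simpa [mem_subgroupOf] using h2'
  rw [← htc] at h3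
  have h4 := (T : Subgroup G).mul_mem ((T : Subgroup G).mul_mem ((T : Subgroup G).inv_mem ht) h3) ht
  have h5 : t⁻¹ * (t * c * y * (t * c)⁻¹) * t = c * y * c⁻¹ := by group
  rwa [h5] at h4

end Cfsg.Agent.Lib.Helper90Repl
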