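import Mathlib
import Cfsg.Prelude.Def_FusionSystem
import Cfsg.Agent.Lib.Helper40FusWC
import Cfsg.Agent.Lib.Helper40FusWC2
import Cfsg.Agent.Lib.Helper24Thompson
import Cfsg.Agent.Lib.Helper90Repl
import Cfsg.Agent.Lib.Helper90RealNormal
import Cfsg.Agent.S5145

set_option autoImplicit false

/-! A saturated fusion system is generated by `C_F(℧¹(Z(S)))` and `N_F(J(S))`. -/

namespace Cfsg.Agent.Lib.Helper90Gen

universe u

open Cfsg Cfsg.FusionSystem Cfsg.Agent.Lib.Helper87Fusion Cfsg.Agent.Lib.Helper40FusWC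
  Cfsg.Agent.Lib.Helper14Family Cfsg.Agent.Lib.Helper14FamProps Cfsg.Agent.Lib.Helper24Thompson

variable {Ω : Type u} [Group Ω]

/-- `J(T)` -/
abbrev JJ (T : Subgroup Ω) : Subgroup Ω := thompsonSubgroupAOf T

/-- `℧¹(Z(T))` -/
abbrev VV (p : ℕ) (T : Subgroup Ω) : Subgroup Ω :=
  powerClosure p 1 (T ⊓ Subgroup.centralizer (T : Set Ω))

theorem JJ_le (T : Subgroup Ω) : JJ T ≤ T := Subgroup.map_subtype_le _

theorem JJ_equiv {T T' : Subgroup Ω} (e : T ≃* T') (x : T) :
    (x : Ω) ∈ JJ T ↔ ((e x : T') : Ω) ∈ JJ T' := by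
  have h1 : (x : Ω) ∈ JJ T ↔ x ∈ thompsonSubgroupA T := Subgroup.mem_map_iff_mem T.subtype_injective
  have h2 : ((e x : T') : Ω) ∈ JJ T' ↔ e x ∈ thompsonSubgroupA T' :=
    Subgroup.mem_map_iff_mem T'.subtype_injective
  rw [h1, h2, ← thompsonA_map e]
  exact (Subgroup.mem_map_iff_mem e.injective).symm

theorem JJ_image {S : Subgroup Ω} {F : FusionSystem S} {T T' : Subgroup Ω} {f : Ω → Ω}
    (hf : IsMap F T f) (hT' : f '' (T : Set Ω) = (T' : Set Ω)) :
    f '' (JJ T : Set Ω) = (JJ T' : Set Ω) := by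
  obtain ⟨e, he⟩ := Cfsg.Agent.Lib.Helper86Fusion.exists_mulEquiv hf hT'
  ext y
  constructor
  · rintro ⟨x, hx, rfl⟩
    have h1 := (JJ_equiv e ⟨x, JJ_le T hx⟩).1 hx
    rwa [he] at h1
  · intro hy
    have hyT' : y ∈ T' := JJ_le T' hy
    refine ⟨(e.symm ⟨y, hyT'⟩ : T), ?_, ?_⟩
    · apply (JJ_equiv e _).2
      rw [MulEquiv.apply_symm_apply]
      exact hy
    · rw [← he, MulEquiv.apply_symm_apply]

theorem famA_nonempty (T : Subgroup Ω) [Finite T] : (famA T).Nonempty := by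
  obtain ⟨A, hA⟩ := maxAb_nonempty T
  rw [← image_maxAbelian]
  exact ⟨_, A, hA, rfl⟩

theorem JJ_eq_of_le {X T : Subgroup Ω} [Finite T] (h1 : JJ T ≤ X) (h2 : X ≤ T) : JJ X = JJ T := by
  have hle : ∀ A ∈ famA T, A ≤ X := fun A hA => by
    refine le_trans ?_ h1
    show A ≤ thompsonSubgroupAOf T
    rw [thompsonSubgroupAOf_eq]; exact le_sSup hA
  obtain ⟨A₀, hA₀⟩ := famA_nonempty T
  have h3 : famA X = famA T := by
    apply Set.Subset.antisymm
    · exact famA_F3 T X A₀ hA₀ (hle A₀ hA₀) h2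
    · intro A hA
      exact famA_F3' T X A hA (hle A hA) h2
  show thompsonSubgroupAOf X = thompsonSubgroupAOf T
  rw [thompsonSubgroupAOf_eq, thompsonSubgroupAOf_eq, h3]

theorem centralizer_JJ_le (T : Subgroup Ω) [Finite T] :
    T ⊓ Subgroup.centralizer (JJ T : Set Ω) ≤ JJ T := by
  rintro x ⟨hxT, hxC⟩
  obtain ⟨A, hA⟩ := famA_nonempty T
  have hAJ : A ≤ JJ T := by
    show A ≤ thompsonSubgroupAOf T
    rw [thompsonSubgroupAOf_eq]; exact le_sSup hA
  have hxA : x ∈ Subgroup.centralizer (A : Set Ω) := Subgroup.centralizer_le hAJ hxC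
  have hle : A ⊔ Subgroup.zpowers x ≤ T := sup_le hA.1 (by rwa [Subgroup.zpowers_le])
  have : Finite (A ⊔ Subgroup.zpowers x : Subgroup Ω) :=
    Finite.of_injective (Subgroup.inclusion hle) (Subgroup.inclusion_injective hle)
  have h1 := hA.2.2 (A ⊔ Subgroup.zpowers x) hle (comm_sup_zpowers A hA.2.1 x hxA)
  have h2 : A = A ⊔ Subgroup.zpowers x := Subgroup.eq_of_le_of_card_ge le_sup_left h1
  apply hAJ
  rw [h2]
  exact (le_sup_right : Subgroup.zpowers x ≤ A ⊔ Subgroup.zpowers x) (Subgroup.mem_zpowers x)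

theorem normalizerIn_le_JJ {S : Subgroup Ω} (F : FusionSystem S) {T : Subgroup Ω} (hT : T ≤ S) :
    normalizerIn S T ≤ normalizerIn S (JJ T) := by
  rintro s ⟨hsS, hsN⟩
  refine ⟨hsS, mem_normalizer_of_image_conj ?_⟩
  exact JJ_image (isMap_conj F hT hsS) (image_conj_of_mem_normalizer hsN)

theorem VV_mono (p : ℕ) {S T : Subgroup Ω} (hTS : T ≤ S)
    (hZ : S ⊓ Subgroup.centralizer (S : Set Ω) ≤ T) : VV p S ≤ VV p T := by
  apply Subgroup.closure_mono
  rintro y ⟨x, hx, rfl⟩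
  exact ⟨x, ⟨hZ hx, Subgroup.centralizer_le hTS hx.2⟩, rfl⟩

theorem VV_le (p : ℕ) (S : Subgroup Ω) : VV p S ≤ S := by
  show Subgroup.closure _ ≤ S
  rw [Subgroup.closure_le]
  rintro y ⟨x, hx, rfl⟩
  exact S.pow_mem hx.1 _

/-- `E` contains `C_F(℧¹(Z(S)))`. -/
def HC (p : ℕ) {S : Subgroup Ω} (F E : FusionSystem S) : Prop :=
  ∀ (P : Subgroup Ω) (f : Ω → Ω), IsMap F P f →
    (∃ f', IsMap F (P ⊔ VV p S) f' ∧ (∀ x ∈ P, f' x = f x) ∧ ∀ v ∈ VV p S, f' v = v) → IsMap E P f

/-- `E` contains `N_F(U)`. -/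
def HN {S : Subgroup Ω} (F E : FusionSystem S) (U : Subgroup Ω) : Prop :=
  ∀ (P : Subgroup Ω) (f : Ω → Ω), IsMap F P f → P ≤ normalizerIn S U →
    (∀ x ∈ P, f x ∈ normalizerIn S U) →
    (∃ f', IsMap F (P ⊔ U) f' ∧ (∀ x ∈ P, f' x = f x) ∧ f' '' (U : Set Ω) = (U : Set Ω)) →
    IsMap E P f

/-- the theorem for all systems with fewer than `n` maps -/
def Holds (Ω : Type u) [Group Ω] (p : ℕ) (n : ℕ) : Prop :=
  ∀ (S : Subgroup Ω) [Finite S], IsPGroup p S → ∀ F : FusionSystem S, mu F < n → F.IsSaturated p →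
    ∀ E : FusionSystem S, HC p F E → HN F E (JJ S) → ∀ (P : Subgroup Ω) (f : Ω → Ω),
      IsMap F P f → IsMap E P f

section induction
variable {p : ℕ} [hp : Fact p.Prime]

open Cfsg.Agent.Lib.Helper86Fusion Cfsg.Agent.Lib.Helper86Fusion2 Cfsg.Agent.Lib.Helper87Fusion2
  Cfsg.Agent.Lib.Helper87NormSys Cfsg.Agent.Lib.Helper87KNorm Cfsg.Agent.Lib.Helper87Model
  Cfsg.Agent.Lib.Helper86Sub Cfsg.Agent.Lib.Helper89Fusion
open Cfsg.Agent.Lib.Helper87Fusion3 hiding pCore_normal pCore_isPGroup le_pCore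

theorem normalizerIn_mono_left {S T U : Subgroup Ω} (h : T ≤ S) :
    normalizerIn T U ≤ normalizerIn S U := inf_le_inf_right _ h

theorem sysStep {S : Subgroup Ω} [Finite S] (hS : IsPGroup p S)
    {F : FusionSystem S} (hF : F.IsSaturated p) (IH : Holds Ω p (mu F)) {E : FusionSystem S}
    (hC : HC p F E) {U : Subgroup Ω} (hUn : F.IsFullyNormalized U) (hnn : ¬ F.IsNormal U)
    (hA : HN F E (JJ (normalizerIn S U))) : HN F E U := by
  have hUS := hUn.1
  have hE := normData_isNormalizerSystem F U hUS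
  have hEsat := normalizer_saturated hS hF hUn hE
  have hTS : normalizerIn S U ≤ S := normalizerIn_le S U
  have hfin : Finite (normalizerIn S U) := finite_of_le hTS
  have hlt : mu (normData F U hUS).toFusion < mu F := by
    apply mu_lt _ F (fun P f h => ((isMap_normalizer_iff hE).1 h).1)
    by_contra hcon
    push Not at hcon
    apply hnn
    rw [Helper87Fusion3.isNormal_iff]
    refine ⟨hUS, fun P f hf => ?_⟩
    obtain ⟨-, -, -, f', h⟩ := (isMap_normalizer_iff hE).1 (hcon P f hf)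
    exact ⟨f', h⟩
  set N := (normData F U hUS).toFusion with hN
  have hNF : ∀ P f, IsMap N P f → IsMap F P f := fun P f h => ((isMap_normalizer_iff hE).1 h).1
  let C : Subgroup Ω → (Ω → Ω) → Prop := fun P f => IsMap E P f
  have hcongr : ∀ (P : Subgroup Ω) (f g : Ω → Ω), (∀ x ∈ P, f x = g x) → C P f → C P g :=
    fun P f g h hC => IsMap.congr hC h
  have hconj : ∀ (P : Subgroup Ω) (g : Ω), P ≤ normalizerIn S U → g ∈ normalizerIn S U →
      C P (fun x => g * x * g⁻¹) := fun P g hP hg => isMap_conj E (hP.trans hTS) (hTS hg)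
  have hcomp : ∀ (P Q : Subgroup Ω) (f g : Ω → Ω), IsMap N P f → IsMap N Q g → (∀ x ∈ P, f x ∈ Q) →
      C P f → C Q g → C P (fun x => g (f x)) :=
    fun P Q f g _ _ h h1 h2 => IsMap.comp h1 h2 h
  have hinv : ∀ (P Q : Subgroup Ω) (f g : Ω → Ω), IsMap N P f → f '' (P : Set Ω) = (Q : Set Ω) →
      IsMap N Q g → (∀ x ∈ P, g (f x) = x) → C P f → C Q g := by
    intro P Q f g _ hQ _ hgf h1
    obtain ⟨g', hg', hg'f, -, -⟩ := IsMap.inv h1 hQ
    refine IsMap.congr hg' (fun y hy => ?_)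
    obtain ⟨x, hx, rfl⟩ := IsMap.exists_of_mem_image hQ hy
    rw [hg'f x hx, hgf x hx]
  have hZ : S ⊓ Subgroup.centralizer (S : Set Ω) ≤ normalizerIn S U := center_le_normalizerIn hUS
  have key := IH (normalizerIn S U) (hS.to_le hTS) N hlt hEsat (subsystem N C hcongr hconj hcomp hinv)
    (by
      intro P f hf ⟨f', hf', h1, h2⟩
      rw [isMap_subsystem_iff]
      refine ⟨hf, hC P f (hNF P f hf) ⟨f', ?_, h1, fun v hv => h2 v (VV_mono p hTS hZ hv)⟩⟩
      exact (hNF _ f' hf').restrict (sup_le_sup_left (VV_mono p hTS hZ) P))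
    (by
      intro P f hf hP hfP ⟨f', hf', h1, h2⟩
      rw [isMap_subsystem_iff]
      exact ⟨hf, hA P f (hNF P f hf) (hP.trans (normalizerIn_mono_left hTS))
        (fun x hx => normalizerIn_mono_left hTS (hfP x hx)) ⟨f', hNF _ f' hf', h1, h2⟩⟩)
  intro P f hf hP hfP hex
  exact ((isMap_subsystem_iff N C hcongr hconj hcomp hinv).1
    (key P f ((isMap_normalizer_iff hE).2 ⟨hf, hP, hfP, hex⟩))).2

theorem eq_of_conj_normal {S : Subgroup Ω} [Finite S] {F : FusionSystem S} {U U' : Subgroup Ω}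
    (h : F.IsConj U U') (hn : F.IsNormal U') : U = U' := by
  obtain ⟨f, hf, hfU⟩ := isConj_iff.1 (isConj_symm h)
  have hsc := normal_stronglyClosed hn
  have h1 : f '' (U' : Set Ω) = (U' : Set Ω) :=
    image_eq_of_card_le hf hn.1 (fun x hx => StronglyClosed_mem hsc hf hx hx) le_rfl
  exact SetLike.coe_injective (hfU.symm.trans h1)

theorem claim2 {S : Subgroup Ω} [Finite S] (hS : IsPGroup p S)
    {F : FusionSystem S} (hF : F.IsSaturated p) (IH : Holds Ω p (mu F)) {E : FusionSystem S}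
    (hC : HC p F E) (hN : HN F E (JJ S)) (n : ℕ)
    (IHbig : ∀ (R : Subgroup Ω) (f : Ω → Ω), n < Nat.card R → IsMap F R f → IsMap E R f) :
    ∀ (k : ℕ) (T : Subgroup Ω), T ≤ S → S ⊓ Subgroup.centralizer (S : Set Ω) ≤ T → F.core ≤ T →
      (n < Nat.card T ∨ T = S) → (¬ F.IsNormal (JJ T) ∨ T = S) → Nat.card S - Nat.card T ≤ k →
      HN F E (JJ T) := by
  have hcore : F.IsNormal F.core := Cfsg.Agent.S5145.result F
  have hcsc := normal_stronglyClosed hcore
  intro k
  induction k with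
  | zero =>
    intro T hTS _ _ _ _ hk
    have hT : T = S := Subgroup.eq_of_le_of_card_ge hTS (by omega)
    rw [hT]; exact hN
  | succ k ih =>
    intro T hTS hZT hcT hn hnn hk
    by_cases hT : T = S
    · rw [hT]; exact hN
    have hn' : n < Nat.card T := hn.resolve_right hT
    have hnn' : ¬ F.IsNormal (JJ T) := hnn.resolve_right hT
    have hfinT : Finite T := finite_of_le hTS
    set U := JJ T with hU
    have hUT : U ≤ T := JJ_le T
    have hUS : U ≤ S := hUT.trans hTS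
    have hcard1 : Nat.card T < Nat.card (normalizerIn S T) :=
      Cfsg.Agent.Lib.Helper90Alperin.card_lt_card_normalizerIn hS hTS hT
    have hfin2 : Finite (normalizerIn S U) := finite_of_le (normalizerIn_le S U)
    have hTN : T ≤ normalizerIn S U := (le_normalizerIn hTS).trans (normalizerIn_le_JJ F hTS)
    have hcard2 : Nat.card (normalizerIn S T) ≤ Nat.card (normalizerIn S U) :=
      Subgroup.card_le_of_le (normalizerIn_le_JJ F hTS)
    obtain ⟨U', hconj, hfn⟩ := exists_fullyNormalized_conj F hUS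
    obtain ⟨-, hfa, hrec⟩ := saturated_fullyNormalized hS hF hfn
    obtain ⟨χ, hχ, hχU, hχN⟩ := exists_normalizer_map hS F U' U hfa hrec hconj
    have hU'S : U' ≤ S := hfn.1
    have hcard3 : Nat.card (normalizerIn S U) ≤ Nat.card (normalizerIn S U') :=
      card_le_of_isMap hχ (normalizerIn_le S U') hχN
    have hUN : U ≤ normalizerIn S U := le_normalizerIn hUS
    have hU'n : ¬ F.IsNormal U' := by
      intro h
      have := eq_of_conj_normal hconj h
      exact hnn' (this ▸ h)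
    have hfin3 : Finite (normalizerIn S U') := finite_of_le (normalizerIn_le S U')
    -- the image of `T`
    obtain ⟨T₁, hT₁⟩ := (hχ.restrict hTN).exists_image
    have hT₁N : T₁ ≤ normalizerIn S U' := by
      intro y hy
      obtain ⟨x, hx, rfl⟩ := IsMap.exists_of_mem_image hT₁ hy
      exact hχN x (hTN hx)
    have hJT₁ : JJ T₁ = U' := by
      apply SetLike.coe_injective
      rw [← JJ_image (hχ.restrict hTN) hT₁]
      exact hχU
    have hcT₁ : F.core ≤ T₁ := by
      have h1 : χ '' (F.core : Set Ω) = (F.core : Set Ω) :=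
        image_eq_of_card_le (hχ.restrict (hcT.trans hTN)) hcore.1
          (fun x hx => StronglyClosed_mem hcsc hχ (hTN (hcT hx)) hx) le_rfl
      intro y hy
      obtain ⟨x, hx, rfl⟩ := IsMap.exists_of_mem_image h1 hy
      exact IsMap.mem_image hT₁ (hcT hx)
    have hnn2 : ¬ F.IsNormal (JJ (normalizerIn S U')) := by
      intro h
      have h1 : JJ (normalizerIn S U') ≤ T₁ := (le_sSup h : _ ≤ F.core).trans hcT₁
      have h2 := JJ_eq_of_le h1 hT₁N
      rw [hJT₁] at h2
      exact hU'n (h2 ▸ h)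
    have hcardS : Nat.card (normalizerIn S U') ≤ Nat.card S :=
      Subgroup.card_le_of_le (normalizerIn_le S U')
    have h1 : HN F E (JJ (normalizerIn S U')) :=
      ih _ (normalizerIn_le S U') (center_le_normalizerIn hU'S) (hcT₁.trans hT₁N)
        (Or.inl (by omega)) (Or.inl hnn2) (by omega)
    have h2 : HN F E U' := sysStep hS hF IH hC hfn hU'n h1
    have hχE : IsMap E (normalizerIn S U) χ := IHbig _ χ (by omega) hχ
    -- transport
    intro P f hf hP hfP ⟨f', hf', hf'P, hf'U⟩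
    have hP₁ : P ⊔ U ≤ normalizerIn S U := sup_le hP hUN
    have hf'N : ∀ x ∈ P ⊔ U, f' x ∈ normalizerIn S U := by
      apply map_sup_mem hf'
      · intro x hx; rw [hf'P x hx]; exact hfP x hx
      · intro x hx; exact hUN (IsMap.mem_image hf'U hx)
    obtain ⟨P₁', hP₁'⟩ := (hχ.restrict hP₁).exists_image
    obtain ⟨σ, hσ, hσχ, hχσ, hσP⟩ := (hχ.restrict hP₁).inv hP₁'
    have hg : IsMap F P₁' (fun y => χ (f' (σ y))) :=
      (hσ.comp hf' (fun y hy => IsMap.mem_image hσP hy)).comp hχ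
        (fun y hy => hf'N _ (IsMap.mem_image hσP hy))
    have hU'P₁' : U' ≤ P₁' := by
      intro y hy
      obtain ⟨x, hx, rfl⟩ := IsMap.exists_of_mem_image hχU hy
      exact IsMap.mem_image hP₁' (Subgroup.mem_sup_right hx)
    have hgU' : (fun y => χ (f' (σ y))) '' (U' : Set Ω) = (U' : Set Ω) := by
      refine image_eq_of_card_le (hg.restrict hU'P₁') hU'S (fun y hy => ?_) le_rfl
      obtain ⟨x, hx, rfl⟩ := IsMap.exists_of_mem_image hχU hy
      show χ (f' (σ (χ x))) ∈ U'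
      rw [hσχ x (Subgroup.mem_sup_right hx)]
      exact IsMap.mem_image hχU (IsMap.mem_image hf'U hx)
    have hgE : IsMap E P₁' (fun y => χ (f' (σ y))) := by
      apply h2 P₁' _ hg
      · intro y hy
        obtain ⟨x, hx, rfl⟩ := IsMap.exists_of_mem_image hP₁' hy
        exact hχN x (hP₁ hx)
      · intro y hy
        exact hχN _ (hf'N _ (IsMap.mem_image hσP hy))
      · refine ⟨_, ?_, fun _ _ => rfl, hgU'⟩
        rw [sup_eq_left.2 hU'P₁']
        exact hg
    obtain ⟨P₂, hP₂⟩ := hf'.exists_image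
    have hP₂N : P₂ ≤ normalizerIn S U := by
      intro y hy
      obtain ⟨x, hx, rfl⟩ := IsMap.exists_of_mem_image hP₂ hy
      exact hf'N x hx
    obtain ⟨P₂', hP₂'⟩ := (hχE.restrict hP₂N).exists_image
    obtain ⟨τ, hτ, hτχ, -, -⟩ := (hχE.restrict hP₂N).inv hP₂'
    have hfin : IsMap E P (fun x => τ (χ (f' (σ (χ x))))) := by
      refine ((hχE.restrict hP).comp hgE (fun x hx => ?_)).comp hτ (fun x hx => ?_)
      · exact IsMap.mem_image hP₁' (Subgroup.mem_sup_left hx)
      · show χ (f' (σ (χ x))) ∈ P₂'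
        rw [hσχ x (Subgroup.mem_sup_left hx)]
        exact IsMap.mem_image hP₂' (IsMap.mem_image hP₂ (Subgroup.mem_sup_left hx))
    refine hfin.congr (fun x hx => ?_)
    rw [hσχ x (Subgroup.mem_sup_left hx),
      hτχ _ (IsMap.mem_image hP₂ (Subgroup.mem_sup_left hx)), hf'P x hx]

theorem cj_sup {G : Type*} [Group G] (g : G) (X Y : Subgroup G) :
    Cfsg.Agent.Lib.Helper87Sylow.cj g (X ⊔ Y) =
      Cfsg.Agent.Lib.Helper87Sylow.cj g X ⊔ Cfsg.Agent.Lib.Helper87Sylow.cj g Y :=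
  Subgroup.map_sup _ _ _

open Cfsg.Agent.Lib.Helper87Realized Cfsg.Agent.Lib.Helper87Sylow Cfsg.Agent.Lib.Helper90RealNormal
  Cfsg.Agent.Lib.Helper90Repl in
theorem loc {S : Subgroup Ω} [Finite S] (hS : IsPGroup p S)
    {F : FusionSystem S} (hF : F.IsSaturated p) (IH : Holds Ω p (mu F)) {E : FusionSystem S}
    (hC : HC p F E) (hN : HN F E (JJ S)) {R : Subgroup Ω} (hRn : F.IsNormal R)
    (hRc : F.IsCentric R) : ∀ (P : Subgroup Ω) (f : Ω → Ω), IsMap F P f → IsMap E P f := by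
  obtain ⟨G, _, ι, hM, -, -⟩ := Helper90Model.exists_model_of_normal_centric hS hF hRn hRc
  obtain ⟨hfin, hι, ⟨T, hT⟩, hcen⟩ := id hM
  have hinj := hι.1
  have hJS : JJ S ≤ S := JJ_le S
  have hNJ : normalizerIn S (JJ S) = S :=
    le_antisymm (normalizerIn_le S _) (by
      have := normalizerIn_le_JJ F (le_refl S)
      rwa [normalizerIn_self] at this)
  have hJhat : thompsonSubgroupAOf (T : Subgroup G) = hat ι (JJ S) :=
    Cfsg.Agent.Lib.Helper40FusWC2.map_W_eq (p := p) fJA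
      (fun Q R _ _ _ _ φ => thompsonA_map φ) hS ι hinj (T : Subgroup G) hT
  by_cases hJn : (thompsonSubgroupAOf (T : Subgroup G)).Normal
  · intro P f hf
    obtain ⟨hPS, hfS, g, hg⟩ := (isMap_realized_iff hι).1 hf
    rw [hJhat] at hJn
    have hle : cj g (hat ι (P ⊔ JJ S)) ≤ ι.range := by
      rw [hat_sup ι hPS hJS, cj_sup]
      apply sup_le
      · rintro _ ⟨y, hy, rfl⟩
        obtain ⟨x, hx, hxS, rfl⟩ := mem_hat.1 hy
        show g * iot ι x * g⁻¹ ∈ ι.range
        rw [← hg x hx]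
        exact iot_mem_range ι (hfS x hx)
      · rintro _ ⟨y, hy, rfl⟩
        exact hat_le_range ι _ (hJn.conj_mem y hy g)
    obtain ⟨h1, h2, -⟩ := isMap_of_conj hι (sup_le hPS hJS) hle
    apply hN P f hf (by rw [hNJ]; exact hPS) (fun x hx => by rw [hNJ]; exact hfS x hx)
    refine ⟨_, h1, fun x hx => ?_, ?_⟩
    · apply iot_inj hinj (h1.mem (Subgroup.mem_sup_left hx)) (hfS x hx)
      rw [h2 x (Subgroup.mem_sup_left hx), hg x hx]
    · refine image_eq_of_card_le (h1.restrict le_sup_right) hJS (fun x hx => ?_) le_rfl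
      rw [← pull_hat hinj hJS, mem_pull]
      refine ⟨h1.mem (Subgroup.mem_sup_right hx), ?_⟩
      rw [h2 x (Subgroup.mem_sup_right hx)]
      exact hJn.conj_mem _ (iot_mem_hat hJS hx) g
  · obtain ⟨C, hCn, hCV, hCQ⟩ := exists_normal_centralizing T hcen hJn
    set T₀ := pull ι ((T : Subgroup G) ⊓ C) with hT₀
    have hT₀S : T₀ ≤ S := pull_le _ _
    have hhat : hat ι T₀ = (T : Subgroup G) ⊓ C := hat_pull (inf_le_left.trans hT.le)
    have hNT₀ : normalizerIn S T₀ = S := by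
      apply le_antisymm (normalizerIn_le S _)
      intro s hs
      refine ⟨hs, ?_⟩
      have : Finite T₀ := finite_of_le hT₀S
      apply Cfsg.Agent.Lib.Helper87Realized.mem_normalizer_of_conj_mem
      intro x hx
      obtain ⟨hxS, hxT, hxC⟩ := mem_pull.1 hx
      rw [hT₀, mem_pull]
      refine ⟨S.mul_mem (S.mul_mem hs hxS) (S.inv_mem hs), ?_⟩
      rw [iot_conj ι hs hxS]
      refine ⟨?_, hCn.conj_mem _ hxC _⟩
      have h3 : iot ι s ∈ (T : Subgroup G) := by rw [hT]; exact iot_mem_range ι hs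
      exact (T : Subgroup G).mul_mem ((T : Subgroup G).mul_mem h3 hxT) ((T : Subgroup G).inv_mem h3)
    have hT₀fn : F.IsFullyNormalized T₀ := isFullyNormalized_of_normalizerIn_eq F hT₀S hNT₀
    have hT₀n : ¬ F.IsNormal T₀ := by
      intro h
      have h1 := hat_normal hM h
      rw [hhat] at h1
      exact hCQ (Cfsg.Agent.Lib.Helper52Basic.le_pCore h1 (T.isPGroup'.to_le inf_le_left))
    have hNT : HN F E T₀ := sysStep hS hF IH hC hT₀fn hT₀n (by rw [hNT₀]; exact hN)
    have hVS : VV p S ≤ S := VV_le p S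
    -- elements of `C` centralize the image of `℧¹(Z(S))`
    have hcV : ∀ c ∈ C, ∀ v ∈ VV p S, c * iot ι v * c⁻¹ = iot ι v := by
      intro c hc v hv
      have hv' : v ∈ S ∧ c * iot ι v * c⁻¹ = iot ι v := by
        induction hv using Subgroup.closure_induction with
        | mem y hy =>
          obtain ⟨z, hz, rfl⟩ := hy
          rw [pow_one]
          refine ⟨S.pow_mem hz.1 _, ?_⟩
          have hz' : iot ι z ∈ zen (T : Subgroup G) := by
            refine ⟨by rw [hT]; exact iot_mem_range ι hz.1, ?_⟩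
            show iot ι z ∈ Subgroup.centralizer ((T : Subgroup G) : Set G)
            rw [Subgroup.mem_centralizer_iff]
            intro t ht
            have ht' : t ∈ ι.range := by rw [← hT]; exact ht
            obtain ⟨s, hs, rfl⟩ := exists_of_mem_range ι ht'
            rw [← iot_mul ι hs hz.1, ← iot_mul ι hz.1 hs, hz.2 s hs]
          have hpow : iot ι (z ^ p) = iot ι z ^ p := by
            rw [iot_of_mem ι hz.1, iot_of_mem ι (S.pow_mem hz.1 p), ← map_pow]
            rfl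
          rw [hpow, hCV c hc _ hz']
          group
        | one =>
          refine ⟨S.one_mem, ?_⟩
          rw [iot_of_mem ι S.one_mem]
          have : (⟨1, S.one_mem⟩ : S) = 1 := rfl
          rw [this, map_one]; group
        | mul a b _ _ iha ihb =>
          refine ⟨S.mul_mem iha.1 ihb.1, ?_⟩
          rw [iot_mul ι iha.1 ihb.1]
          calc c * (iot ι a * iot ι b) * c⁻¹ = (c * iot ι a * c⁻¹) * (c * iot ι b * c⁻¹) := by group
            _ = iot ι a * iot ι b := by rw [iha.2, ihb.2]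
        | inv a _ iha =>
          refine ⟨S.inv_mem iha.1, ?_⟩
          rw [iot_inv ι iha.1]
          calc c * (iot ι a)⁻¹ * c⁻¹ = (c * iot ι a * c⁻¹)⁻¹ := by group
            _ = (iot ι a)⁻¹ := by rw [iha.2]
      exact hv'.2
    intro P f hf
    obtain ⟨hPS, hfS, g, hg⟩ := (isMap_realized_iff hι).1 hf
    have hPT₀ : P ⊔ T₀ ≤ S := sup_le hPS hT₀S
    have hYp : IsPGroup p (cj g (hat ι (P ⊔ T₀))) := by
      apply isPGroup_cj
      exact T.isPGroup'.to_le (by rw [hT]; exact hat_le_range ι _)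
    have hYle : cj g (hat ι (P ⊔ T₀)) ≤ (T : Subgroup G) ⊔ C := by
      rw [hat_sup ι hPS hT₀S, cj_sup]
      apply sup_le
      · refine le_trans ?_ le_sup_left
        rintro _ ⟨y, hy, rfl⟩
        obtain ⟨x, hx, hxS, rfl⟩ := mem_hat.1 hy
        show g * iot ι x * g⁻¹ ∈ (T : Subgroup G)
        rw [← hg x hx, hT]
        exact iot_mem_range ι (hfS x hx)
      · refine le_trans ?_ le_sup_right
        rintro _ ⟨y, hy, rfl⟩
        rw [hhat] at hy
        exact hCn.conj_mem y hy.2 g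
    obtain ⟨c, hc, hcY⟩ := exists_conj_into_sylow T C _ hYp hYle
    have hn : ∀ x ∈ P ⊔ T₀, (c * g) * iot ι x * (c * g)⁻¹ ∈ (T : Subgroup G) := by
      intro x hx
      have := hcY _ (conj_mem_cj (g := g) (iot_mem_hat hPT₀ hx))
      have e : (c * g) * iot ι x * (c * g)⁻¹ = c * (g * iot ι x * g⁻¹) * c⁻¹ := by group
      rw [e]; exact this
    have hle1 : cj (c * g) (hat ι (P ⊔ T₀)) ≤ ι.range := by
      rintro _ ⟨y, hy, rfl⟩
      obtain ⟨x, hx, hxS, rfl⟩ := mem_hat.1 hy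
      rw [← hT]
      exact hn x hx
    obtain ⟨h1, h2, -⟩ := isMap_of_conj hι hPT₀ hle1
    set f₁ : Ω → Ω := fun x => kap ι ((c * g) * iot ι x * (c * g)⁻¹) with hf₁
    have hf₁E : IsMap E P f₁ := by
      apply hNT P f₁ (h1.restrict le_sup_left) (by rw [hNT₀]; exact hPS)
        (fun x hx => by rw [hNT₀]; exact h1.mem (Subgroup.mem_sup_left hx))
      refine ⟨f₁, h1, fun _ _ => rfl, ?_⟩
      refine image_eq_of_card_le (h1.restrict le_sup_right) hT₀S (fun x hx => ?_) le_rfl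
      rw [hT₀, mem_pull]
      refine ⟨h1.mem (Subgroup.mem_sup_right hx), ?_⟩
      rw [h2 x (Subgroup.mem_sup_right hx)]
      exact ⟨hn x (Subgroup.mem_sup_right hx), hCn.conj_mem _ (mem_pull.1 hx).2.2 _⟩
    obtain ⟨P₁, hP₁⟩ := (h1.restrict (le_sup_left : P ≤ P ⊔ T₀)).exists_image
    have hP₁S : P₁ ≤ S := (h1.restrict le_sup_left).image_le hP₁
    have hle2 : cj c⁻¹ (hat ι (P₁ ⊔ VV p S)) ≤ ι.range := by
      rw [hat_sup ι hP₁S hVS, cj_sup]
      apply sup_le
      · rintro _ ⟨y, hy, rfl⟩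
        obtain ⟨x', hx', -, rfl⟩ := mem_hat.1 hy
        obtain ⟨x, hx, rfl⟩ := IsMap.exists_of_mem_image hP₁ hx'
        show c⁻¹ * iot ι (f₁ x) * c⁻¹⁻¹ ∈ ι.range
        rw [h2 x (Subgroup.mem_sup_left hx)]
        have e : c⁻¹ * ((c * g) * iot ι x * (c * g)⁻¹) * c⁻¹⁻¹ = g * iot ι x * g⁻¹ := by group
        rw [e, ← hg x hx]
        exact iot_mem_range ι (hfS x hx)
      · rintro _ ⟨y, hy, rfl⟩
        obtain ⟨v, hv, hvS, rfl⟩ := mem_hat.1 hy
        show c⁻¹ * iot ι v * c⁻¹⁻¹ ∈ ι.range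
        rw [hcV c⁻¹ (C.inv_mem hc) v hv]
        exact iot_mem_range ι hvS
    obtain ⟨k1, k2, -⟩ := isMap_of_conj hι (sup_le hP₁S hVS) hle2
    set f₂ : Ω → Ω := fun x => kap ι (c⁻¹ * iot ι x * c⁻¹⁻¹) with hf₂
    have hf₂E : IsMap E P₁ f₂ := by
      apply hC P₁ f₂ (k1.restrict le_sup_left)
      refine ⟨f₂, k1, fun _ _ => rfl, fun v hv => ?_⟩
      apply iot_inj hinj (k1.mem (Subgroup.mem_sup_right hv)) (hVS hv)
      rw [k2 v (Subgroup.mem_sup_right hv), hcV c⁻¹ (C.inv_mem hc) v hv]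
    refine (hf₁E.comp hf₂E (fun x hx => IsMap.mem_image hP₁ hx)).congr (fun x hx => ?_)
    have hx₁ : f₁ x ∈ P₁ := IsMap.mem_image hP₁ hx
    apply iot_inj hinj (k1.mem (Subgroup.mem_sup_left hx₁)) (hfS x hx)
    rw [k2 _ (Subgroup.mem_sup_left hx₁), h2 x (Subgroup.mem_sup_left hx), hg x hx]
    group

theorem le_of_normalizer_inf_le {S P X : Subgroup Ω} [Finite S] (hS : IsPGroup p S) (hP : P ≤ S)
    (hX : X ≤ S) (hPX : P ≤ Subgroup.normalizer (X : Set Ω))
    (h : X ⊓ Subgroup.normalizer (P : Set Ω) ≤ P) : X ≤ P := by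
  by_contra hcon
  have hlt : P < P ⊔ X := by
    refine lt_of_le_of_ne le_sup_left (fun he => hcon ?_)
    rw [he]; exact le_sup_right
  have hle : P ⊔ X ≤ S := sup_le hP hX
  have : Finite (P ⊔ X : Subgroup Ω) := finite_of_le hle
  obtain ⟨y, hy, hyN, hyP⟩ := Cfsg.Agent.Lib.Helper86Group.exists_mem_normalizer_not_mem (p := p)
    (P ⊔ X) P (hS.to_le hle) hlt
  rw [← SetLike.mem_coe, Subgroup.coe_mul_of_left_le_normalizer_right P X hPX, Set.mem_mul] at hy
  obtain ⟨a, ha, x, hx, rfl⟩ := hy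
  apply hyP
  refine P.mul_mem ha (h ⟨hx, ?_⟩)
  have h1 := (Subgroup.normalizer (P : Set Ω)).mul_mem
    ((Subgroup.normalizer (P : Set Ω)).inv_mem (Subgroup.le_normalizer ha)) hyN
  simpa using h1

/-- If `J(N_S(P))` is normal in `F` for some `P` containing `O_p(F)`, it is centric. -/
theorem centric_of_JJ_normal {S : Subgroup Ω} [Finite S] (hS : IsPGroup p S) {F : FusionSystem S}
    {P : Subgroup Ω} (hPS : P ≤ S) (hcP : F.core ≤ P) (h : F.IsNormal (JJ (normalizerIn S P))) :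
    F.IsCentric (JJ (normalizerIn S P)) := by
  set T₀ := normalizerIn S P with hT₀
  have hT₀S : T₀ ≤ S := normalizerIn_le S P
  have hfin : Finite T₀ := finite_of_le hT₀S
  set U := JJ T₀ with hU
  have hUP : U ≤ P := (le_sSup h : U ≤ F.core).trans hcP
  have hXS : centralizerIn S U ≤ S := centralizerIn_le S U
  have hfinX : Finite (centralizerIn S U) := finite_of_le hXS
  have h1 : centralizerIn S U ⊓ Subgroup.normalizer (P : Set Ω) ≤ U := by
    rintro x ⟨hx, hxN⟩
    exact centralizer_JJ_le T₀ ⟨⟨hx.1, hxN⟩, hx.2⟩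
  have h2 : P ≤ Subgroup.normalizer ((centralizerIn S U : Subgroup Ω) : Set Ω) := by
    intro a ha
    apply Cfsg.Agent.Lib.Helper87Realized.mem_normalizer_of_conj_mem
    intro x hx
    obtain ⟨hxS, hxU⟩ := mem_centralizerIn.1 hx
    have haS := hPS ha
    rw [mem_centralizerIn]
    refine ⟨S.mul_mem (S.mul_mem haS hxS) (S.inv_mem haS), fun u hu => ?_⟩
    have h3 : a⁻¹ * u * a⁻¹⁻¹ ∈ U := conj_mem_of_isNormal h (S.inv_mem haS) hu
    have h4 := hxU _ h3
    calc u * (a * x * a⁻¹) = a * ((a⁻¹ * u * a⁻¹⁻¹) * x) * a⁻¹ := by group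
      _ = a * (x * (a⁻¹ * u * a⁻¹⁻¹)) * a⁻¹ := by rw [h4]
      _ = a * x * a⁻¹ * u := by group
  have h5 : centralizerIn S U ≤ P := le_of_normalizer_inf_le hS hPS hXS h2 (h1.trans hUP)
  have h6 : centralizerIn S U ≤ U := fun x hx => h1 ⟨hx, Subgroup.le_normalizer (h5 hx)⟩
  refine ⟨h.1, fun Q hQ => ?_⟩
  have := eq_of_conj_normal (isConj_symm hQ) h
  rw [this]; exact h6

theorem step {S : Subgroup Ω} [Finite S] (hS : IsPGroup p S)
    {F : FusionSystem S} (hF : F.IsSaturated p) (IH : Holds Ω p (mu F)) {E : FusionSystem S}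
    (hC : HC p F E) (hN : HN F E (JJ S)) :
    ∀ (P : Subgroup Ω) (f : Ω → Ω), IsMap F P f → IsMap E P f := by
  by_cases hcon : ∃ R, F.IsNormal R ∧ F.IsCentric R
  · obtain ⟨R, hRn, hRc⟩ := hcon
    exact loc hS hF IH hC hN hRn hRc
  have hcore : F.IsNormal F.core := Cfsg.Agent.S5145.result F
  apply Cfsg.Agent.Lib.Helper90Alperin.alperin_induction hS F hF E
  intro P hfa hrec IHbig a ha haP
  have hPS : P ≤ S := hfa.1
  have hbig : ∀ X : Subgroup Ω, X ≤ S → ¬ X ≤ P → Nat.card P < Nat.card (P ⊔ X : Subgroup Ω) := by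
    intro X hX hXP
    have hle : P ⊔ X ≤ S := sup_le hPS hX
    have : Finite (P ⊔ X : Subgroup Ω) := finite_of_le hle
    apply Cfsg.Agent.Lib.Helper86Group.card_lt_card_of_lt
    refine lt_of_le_of_ne le_sup_left (fun he => hXP ?_)
    rw [he]; exact le_sup_right
  by_cases hcP : F.core ≤ P
  swap
  · obtain ⟨a', ha', h1, -⟩ := (Helper87Fusion3.isNormal_iff.1 hcore).2 P a ha
    exact ((IHbig _ a' (hbig _ hcore.1 hcP) ha').restrict le_sup_left).congr h1
  by_cases hCP : centralizerIn S P ≤ P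
  swap
  · obtain ⟨a', ha', h1⟩ := extend_centralizing (C := centralizerIn S P) hrec ha haP le_rfl
    exact ((IHbig _ a' (hbig _ (centralizerIn_le S P) hCP) ha').restrict le_sup_left).congr h1
  have hPn : ¬ F.IsNormal P := by
    intro h
    refine hcon ⟨P, h, hPS, fun Q hQ => ?_⟩
    have := eq_of_conj_normal (isConj_symm hQ) h
    rw [this]; exact hCP
  have hPfn := fullyNormalized_of_automized_receptive hS F P hfa hrec
  have hHN : HN F E P := by
    refine sysStep hS hF IH hC hPfn hPn (claim2 hS hF IH hC hN (Nat.card P) IHbig _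
      (normalizerIn S P) (normalizerIn_le S P) (center_le_normalizerIn hPS)
      (hcP.trans (le_normalizerIn hPS)) ?_ ?_ le_rfl)
    · by_cases hPS' : P = S
      · right
        rw [hPS']; exact normalizerIn_self S
      · left
        exact Cfsg.Agent.Lib.Helper90Alperin.card_lt_card_normalizerIn hS hPS hPS'
    · left
      intro h
      exact hcon ⟨_, h, centric_of_JJ_normal hS hPS hcP h⟩
  exact hHN P a ha (le_normalizerIn hPS) (fun x hx => le_normalizerIn hPS (IsMap.mem_image haP hx))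
    ⟨a, by rw [sup_idem]; exact ha, fun _ _ => rfl, haP⟩

/-- **Generation**: the main induction. -/
theorem main : ∀ n : ℕ, Holds Ω p n := by
  intro n
  induction n using Nat.strong_induction_on with
  | _ n ih =>
    intro S _ hS F hlt hF E hC hN
    exact step hS hF (ih (mu F) hlt) hC hN

theorem generated {S : Subgroup Ω} [Finite S] (hS : IsPGroup p S)
    {F : FusionSystem S} (hF : F.IsSaturated p) {E : FusionSystem S}
    (hC : HC p F E) (hN : HN F E (JJ S)) :
    ∀ (P : Subgroup Ω) (f : Ω → Ω), IsMap F P f → IsMap E P f :=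
  main (mu F + 1) S hS F (Nat.lt_succ_self _) hF E hC hN

end induction

end Cfsg.Agent.Lib.Helper90Gen
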