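import Cfsg.Agent.Lib.Helper61HigDefs
import Cfsg.Agent.Lib.Helper3HigBasic
import Cfsg.Agent.Lib.Helper15HigOrdfour

set_option autoImplicit false

/-! # Project 61 (Higman's theorem on Suzuki 2-groups), piece `caseBadd` -/

namespace Cfsg.Agent.Lib.Helper90HigCaseBadd

open Subgroup
open Cfsg.Agent.Lib.Helper61HigDefs

universe u v

section gen
variable {G : Type*} [Group G]

lemma pow_four_eq (a : G) : a ^ 4 = (a * a) * (a * a) := by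
  rw [show 4 = 2 + 2 from rfl, pow_add, pow_two]

lemma sq_mul_central (a c : G) (ha : ∀ y, a * y = y * a) (ha2 : a * a = 1) :
    (a * c) * (a * c) = c * c := by
  calc (a * c) * (a * c) = a * (c * a) * c := by group
    _ = a * (a * c) * c := by rw [ha c]
    _ = (a * a) * (c * c) := by group
    _ = c * c := by rw [ha2, one_mul]

/-- `(x g)² = x² g² [x,g]` when `g²` is central -/
lemma sq_eq (x g : G) (hg : ∀ y, (g * g) * y = y * (g * g)) :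
    (x * g) * (x * g) = (x * x) * ((g * g) * (x⁻¹ * g⁻¹ * x * g)) := by
  symm
  calc (x * x) * ((g * g) * (x⁻¹ * g⁻¹ * x * g)) = x * x * ((g * g) * x⁻¹) * (g⁻¹ * x * g) := by group
    _ = x * x * (x⁻¹ * (g * g)) * (g⁻¹ * x * g) := by rw [hg x⁻¹]
    _ = (x * g) * (x * g) := by group

lemma pow_four_comm (x g : G) (hx : ∀ y, (x * x) * y = y * (x * x))
    (hg : ∀ y, (g * g) * y = y * (g * g)) (hx2 : (x * x) * (x * x) = 1)
    (hg2 : (g * g) * (g * g) = 1) :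
    (x * g) ^ 4 = (x⁻¹ * g⁻¹ * x * g) * (x⁻¹ * g⁻¹ * x * g) := by
  rw [pow_four_eq, sq_eq x g hg, sq_mul_central _ _ hx hx2, sq_mul_central _ _ hg hg2]

/-- `(d z d')² = d² d'²` -/
lemma sq_three (d z d' : G) (hz : ∀ y, z * y = y * z) (hz2 : z * z = 1) (hdd : d * d' = d' * d) :
    (d * z * d') * (d * z * d') = (d * d) * (d' * d') := by
  have e : d * z * d' = z * (d * d') := by
    rw [← hz d, mul_assoc]
  rw [e, sq_mul_central _ _ hz hz2]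
  calc d * d' * (d * d') = d * (d' * d) * d' := by group
    _ = d * (d * d') * d' := by rw [hdd]
    _ = d * d * (d' * d') := by group

lemma swap_three (d z d' : G) (hz : ∀ y, z * y = y * z) (hdd : d' * d = d * d') :
    d' * (d * z) = d * z * d' := by
  rw [← mul_assoc, hdd, mul_assoc, ← hz d', mul_assoc]

end gen

variable {P : Type u} {A : Type v} [Group P] [Group A] {f : A →* MulAut P}

theorem caseB_add_core {D M₁ M₂ : Subgroup P} (hD : DH f D)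
    (hM₁ : centralizer (D : Set P) ≤ M₁)
    (he₁ : ∀ x ∈ M₁, x ^ 4 = 1) (he₂ : ∀ x ∈ M₂, x ^ 4 = 1)
    (hic : ∀ z : P, z * z = 1 → ∀ x, z * x = x * z)
    (hord : ∀ c ∈ centralizer (D : Set P), c ^ 4 = 1 → c ∈ D) :
    (∀ x ∈ M₁, ∀ g ∈ M₂, (x * g) ^ 2 ∈ D) ∧
    (∀ x ∈ M₁, ∀ x' ∈ M₁, ∀ g ∈ M₂, (x * x' * g) ^ 4 = (x * g) ^ 4 * (x' * g) ^ 4) ∧
    (∀ x ∈ M₁, ∀ g ∈ M₂, ∀ g' ∈ M₂, (x * (g * g')) ^ 4 = (x * g) ^ 4 * (x * g') ^ 4) := by
  have hsqD : ∀ y : P, (y * y) ∈ D := by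
    intro y
    have hyC : y * y ∈ centralizer (D : Set P) :=
      mem_centralizer_iff.2 (fun d hd => (hD.sqc d hd y).symm)
    exact hord _ hyC (he₁ _ (hM₁ hyC))
  have h1 : ∀ x ∈ M₁, (x * x) * (x * x) = 1 := fun x hx => by rw [← pow_four_eq, he₁ x hx]
  have h2 : ∀ x ∈ M₂, (x * x) * (x * x) = 1 := fun x hx => by rw [← pow_four_eq, he₂ x hx]
  have hcD : ∀ x ∈ M₁, ∀ g ∈ M₂, x⁻¹ * g⁻¹ * x * g ∈ D := by
    intro x hx g hg
    have e := sq_eq x g (hic _ (h2 g hg))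
    have : x⁻¹ * g⁻¹ * x * g = (g * g)⁻¹ * ((x * x)⁻¹ * ((x * g) * (x * g))) := by
      rw [e]
      group
    rw [this]
    exact D.mul_mem (D.inv_mem (hsqD g)) (D.mul_mem (D.inv_mem (hsqD x)) (hsqD _))
  have hp : ∀ x ∈ M₁, ∀ g ∈ M₂, (x * g) ^ 4 = (x⁻¹ * g⁻¹ * x * g) * (x⁻¹ * g⁻¹ * x * g) :=
    fun x hx g hg => pow_four_comm x g (hic _ (h1 x hx)) (hic _ (h2 g hg)) (h1 x hx) (h2 g hg)
  refine ⟨fun x _ g _ => by rw [pow_two]; exact hsqD _, ?_, ?_⟩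
  · intro x hx x' hx' g hg
    rw [hp _ (M₁.mul_mem hx hx') g hg, hp x hx g hg, hp x' hx' g hg]
    set d := x⁻¹ * g⁻¹ * x * g with hd
    set d' := x'⁻¹ * g⁻¹ * x' * g with hd'
    have hdD : d ∈ D := hcD x hx g hg
    have hd'D : d' ∈ D := hcD x' hx' g hg
    have e : (x * x')⁻¹ * g⁻¹ * (x * x') * g = d * (d⁻¹ * x'⁻¹ * d * x') * d' := by
      rw [hd, hd']
      group
    rw [e]
    exact sq_three _ _ _ (hic _ (hD.cen d hdD x')) (hD.cen d hdD x') (hD.comm d hdD d' hd'D)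
  · intro x hx g hg g' hg'
    rw [hp x hx _ (M₂.mul_mem hg hg'), hp x hx g hg, hp x hx g' hg']
    set d := x⁻¹ * g⁻¹ * x * g with hd
    set d' := x⁻¹ * g'⁻¹ * x * g' with hd'
    have hdD : d ∈ D := hcD x hx g hg
    have hd'D : d' ∈ D := hcD x hx g' hg'
    have hz := hic _ (hD.cen d hdD g')
    have e : x⁻¹ * (g * g')⁻¹ * x * (g * g') = d * (d⁻¹ * g'⁻¹ * d * g') * d' := by
      have e1 : x⁻¹ * (g * g')⁻¹ * x * (g * g') = d' * (d * (d⁻¹ * g'⁻¹ * d * g')) := by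
        rw [hd, hd']
        group
      rw [e1]
      exact swap_three _ _ _ hz (hD.comm d' hd'D d hdD)
    rw [e]
    exact sq_three _ _ _ hz (hD.cen d hdD g') (hD.comm d hdD d' hd'D)

/-- piece `caseBadd` -/
theorem caseB_add (h : HS f) {D M₁ M₂ : Subgroup P} (hD : DH f D)
    (hM₁ : centralizer (D : Set P) ≤ M₁) (hM₂ : centralizer (D : Set P) ≤ M₂)
    (he₁ : ∀ x ∈ M₁, x ^ 4 = 1) (he₂ : ∀ x ∈ M₂, x ^ 4 = 1) :
    (∀ x ∈ M₁, ∀ g ∈ M₂, (x * g) ^ 2 ∈ D) ∧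
    (∀ x ∈ M₁, ∀ x' ∈ M₁, ∀ g ∈ M₂, (x * x' * g) ^ 4 = (x * g) ^ 4 * (x' * g) ^ 4) ∧
    (∀ x ∈ M₁, ∀ g ∈ M₂, ∀ g' ∈ M₂, (x * (g * g')) ^ 4 = (x * g) ^ 4 * (x * g') ^ 4) :=
  caseB_add_core hD hM₁ he₁ he₂ (fun _ hz x => Cfsg.Agent.Lib.Helper3HigBasic.invol_central h hz x)
    (fun _ hc hc4 => Cfsg.Agent.Lib.Helper15HigOrdfour.mem_D_of_pow_four h hD hc hc4)

end Cfsg.Agent.Lib.Helper90HigCaseBadd
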