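import Mathlib
import Cfsg.Prelude.Def_FusionSystem
import Cfsg.Agent.Lib.Helper87Fusion
import Cfsg.Agent.Lib.Helper87Fusion2
import Cfsg.Agent.Lib.Helper87GroupFusion
import Cfsg.Agent.Lib.Helper87Realized
import Cfsg.Agent.Lib.Helper86Fusion2
import Cfsg.Agent.Lib.Helper86Group
import Cfsg.Agent.Lib.Helper14NPS
import Cfsg.Agent.Lib.Helper14Quad

set_option autoImplicit false

/-! `p`-stability of the fusion system of a group versus `p`-stability (normalizer form) of the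
group. -/

namespace Cfsg.Agent.Lib.Helper90PStable

open Cfsg Cfsg.FusionSystem Cfsg.Agent.Lib.Helper87Fusion Cfsg.Agent.Lib.Helper87Fusion2
  Cfsg.Agent.Lib.Helper87GroupFusion Cfsg.Agent.Lib.Helper87Sylow Cfsg.Agent.Lib.Helper14NPS
  Cfsg.Agent.Lib.Helper14Quad

/-- `p`-stability of a fusion system -/
def FPS (p : ℕ) {Ω : Type*} [Group Ω] {S : Subgroup Ω} (F : FusionSystem S) : Prop :=
  ∀ Q : Subgroup Ω, F.IsFullyNormalized Q → ∀ χ : MulAut ↥Q, χ ∈ F.autGroup Q →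
    (∀ a : ↥Q, (χ a⁻¹) * a * (χ a⁻¹) * (χ (χ a)) = 1) →
    χ ∈ ((pCore p ↥(F.autGroup Q)).map (F.autGroup Q).subtype : Subgroup (MulAut ↥Q))

theorem mem_pCore_map_iff {M : Type*} [Group M] (p : ℕ) (A : Subgroup M) (χ : M) :
    χ ∈ (pCore p A).map A.subtype ↔
      ∃ D : Subgroup M, D ≤ A ∧ A ≤ Subgroup.normalizer (D : Set M) ∧ IsPGroup p D ∧ χ ∈ D := by
  constructor
  · intro h
    refine ⟨_, Subgroup.map_subtype_le _, ?_, (Cfsg.Agent.Lib.Helper86Group.pCore_isPGroup p A).map _, h⟩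
    rw [Subgroup.le_normalizer_iff]
    rintro a ha _ ⟨d, hd, rfl⟩
    exact ⟨⟨a, ha⟩ * d * ⟨a, ha⟩⁻¹, (Cfsg.pCore_normal p A).conj_mem d hd _, rfl⟩
  · rintro ⟨D, hDA, hAD, hDp, hχ⟩
    have h1 : (D.subgroupOf A).Normal := (Subgroup.normal_subgroupOf_iff_le_normalizer hDA).mpr hAD
    have h2 : IsPGroup p (D.subgroupOf A) := hDp.comap_of_injective A.subtype A.subtype_injective
    exact ⟨⟨χ, hDA hχ⟩, Cfsg.Agent.Lib.Helper86Group.le_pCore h1 h2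
      (by simpa [Subgroup.mem_subgroupOf] using hχ), rfl⟩

variable {G : Type*} [Group G]

theorem nmh_apply (Q : Subgroup G) (n : Subgroup.normalizer (Q : Set G)) (x : Q) :
    ((Q.normalizerMonoidHom n x : Q) : G) = n * x * (n : G)⁻¹ := rfl

theorem mem_autGroup_group_iff [Finite G] {S Q : Subgroup G} (hQ : Q ≤ S) (χ : MulAut Q) :
    χ ∈ (groupFusionSystem S).autGroup Q ↔ ∃ n : Subgroup.normalizer (Q : Set G),
      χ = Q.normalizerMonoidHom n := by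
  rw [mem_autGroup_iff_totA _ hQ]
  constructor
  · intro h
    obtain ⟨-, g, hg⟩ := isMap_group_iff.1 h
    have hgN : g ∈ Subgroup.normalizer (Q : Set G) := by
      apply Cfsg.Agent.Lib.Helper87Realized.mem_normalizer_of_conj_mem
      intro q hq
      rw [← (hg q hq).1]
      exact totA_mem χ hq
    refine ⟨⟨g, hgN⟩, ?_⟩
    ext x
    rw [nmh_apply, ← totA_apply, (hg x x.2).1]
  · rintro ⟨n, rfl⟩
    refine isMap_group_iff.2 ⟨hQ, n, fun x hx => ?_⟩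
    have h1 : totA (Q.normalizerMonoidHom n) x = n * x * (n : G)⁻¹ := by
      rw [totA_of_mem _ hx, nmh_apply]
    refine ⟨h1, ?_⟩
    rw [← h1]
    exact hQ (totA_mem _ hx)

/-- the two forms of quadratic action -/
theorem quad_aut_iff (Q : Subgroup G) (n : Subgroup.normalizer (Q : Set G)) :
    (∀ a : Q, (Q.normalizerMonoidHom n a⁻¹) * a * (Q.normalizerMonoidHom n a⁻¹) *
      (Q.normalizerMonoidHom n (Q.normalizerMonoidHom n a)) = 1) ↔
    ⁅⁅Q, Subgroup.zpowers (n : G)⁆, Subgroup.zpowers (n : G)⁆ = ⊥ := by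
  rw [quad_iff]
  set g : G := (n : G) with hg
  constructor
  · intro h a ha
    have h1 := congrArg Subtype.val (h ⟨a, ha⟩)
    have h2 : (g * a⁻¹ * g⁻¹) * a * (g * a⁻¹ * g⁻¹) * (g * (g * a * g⁻¹) * g⁻¹) = 1 := h1
    rw [commutatorElement_def]
    calc a * g * a⁻¹ * g⁻¹ * g
        = (g * a * g⁻¹) * ((g * a⁻¹ * g⁻¹) * a * (g * a⁻¹ * g⁻¹) * (g * (g * a * g⁻¹) * g⁻¹)) *
            (g * (g * a⁻¹ * g⁻¹)) := by group
      _ = g * (a * g * a⁻¹ * g⁻¹) := by rw [h2]; group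
  · intro h a
    apply Subtype.ext
    show (g * (a : G)⁻¹ * g⁻¹) * a * (g * (a : G)⁻¹ * g⁻¹) * (g * (g * a * g⁻¹) * g⁻¹) = 1
    have h1 := h a a.2
    rw [commutatorElement_def] at h1
    calc (g * (a : G)⁻¹ * g⁻¹) * a * (g * (a : G)⁻¹ * g⁻¹) * (g * (g * a * g⁻¹) * g⁻¹)
        = (g * (a : G)⁻¹ * g⁻¹) * ((a : G) * g * (a : G)⁻¹ * g⁻¹ * g) * (g * a * g⁻¹) * g⁻¹ := by group
      _ = 1 := by rw [h1]; group

theorem inOp_conj {p : ℕ} {V : Subgroup G} {g h : G}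
    (H : InOp p (Subgroup.normalizer ((cj h V : Subgroup G) : Set G))
      (Subgroup.centralizer ((cj h V : Subgroup G) : Set G)) (h * g * h⁻¹)) :
    InOp p (Subgroup.normalizer (V : Set G)) (Subgroup.centralizer (V : Set G)) g := by
  obtain ⟨D, hD1, hD2, hD3, hD4⟩ := H
  rw [← cj_normalizer] at hD1 hD2
  refine ⟨cj h⁻¹ D, ?_, ?_, ?_, ?_⟩
  · intro d hd
    rw [mem_cj, inv_inv] at hd
    have := mem_cj.1 (hD1 hd)
    have e : h⁻¹ * (h * d * h⁻¹) * h = d := by group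
    rwa [e] at this
  · rw [Subgroup.le_normalizer_iff]
    intro n hn d hd
    rw [mem_cj, inv_inv] at hd ⊢
    have h1 : h * n * h⁻¹ ∈ Subgroup.normalizer (D : Set G) := hD2 (conj_mem_cj hn)
    have h2 := (Subgroup.mem_normalizer_iff.1 h1 _).1 hd
    have e : h * n * h⁻¹ * (h * d * h⁻¹) * (h * n * h⁻¹)⁻¹ = h * (n * d * n⁻¹) * h⁻¹ := by group
    rwa [e] at h2
  · rw [mem_cj, inv_inv]; exact hD3
  · intro d hd
    rw [mem_cj, inv_inv] at hd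
    obtain ⟨k, hk⟩ := hD4 _ hd
    refine ⟨k, ?_⟩
    rw [← cj_centralizer, mem_cj, conj_pow] at hk
    have e : h⁻¹ * (h * d ^ p ^ k * h⁻¹) * h = d ^ p ^ k := by group
    rwa [e] at hk

theorem nps_of_fps [Finite G] {p : ℕ} [Fact p.Prime] (P : Sylow p G)
    (H : FPS p (groupFusionSystem (P : Subgroup G))) : IsNormalizerPStable p G := by
  rw [nps_iff]
  intro V hV g hg hq
  obtain ⟨h₁, hh₁⟩ := exists_conj_le_sylow P hV
  obtain ⟨Q, hconj, hfn⟩ := Cfsg.Agent.Lib.Helper86Fusion2.exists_fullyNormalized_conj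
    (groupFusionSystem (P : Subgroup G)) hh₁
  obtain ⟨-, hQP, h₂, hh₂⟩ := isConj_group_iff.1 hconj
  rw [cj_cj] at hh₂
  set h := h₂ * h₁ with hh
  subst hh₂
  apply inOp_conj (h := h)
  have hg' : h * g * h⁻¹ ∈ Subgroup.normalizer ((cj h V : Subgroup G) : Set G) := by
    rw [← cj_normalizer]; exact conj_mem_cj hg
  have hq' : ⁅⁅cj h V, Subgroup.zpowers (h * g * h⁻¹)⁆, Subgroup.zpowers (h * g * h⁻¹)⁆ = ⊥ :=
    (quad_map_iff (τ := (MulAut.conj h).toMonoidHom) (MulAut.conj h).injective V g).2 hq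
  set Q := cj h V with hQ
  set θ := Q.normalizerMonoidHom with hθ
  have h1 := H Q hfn (θ ⟨_, hg'⟩) ((mem_autGroup_group_iff hQP _).2 ⟨_, rfl⟩)
    ((quad_aut_iff Q ⟨_, hg'⟩).2 hq')
  obtain ⟨D', hD'A, hAD', hD'p, hχ⟩ := (mem_pCore_map_iff p _ _).1 h1
  refine ⟨(D'.comap θ).map (Subgroup.normalizer (Q : Set G)).subtype, Subgroup.map_subtype_le _, ?_,
    ⟨⟨_, hg'⟩, hχ, rfl⟩, ?_⟩
  · rw [Subgroup.le_normalizer_iff]
    rintro n hn _ ⟨d, hd, rfl⟩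
    refine ⟨⟨n, hn⟩ * d * ⟨n, hn⟩⁻¹, ?_, rfl⟩
    show θ (⟨n, hn⟩ * d * ⟨n, hn⟩⁻¹) ∈ D'
    rw [map_mul, map_mul, map_inv]
    have h2 : θ ⟨n, hn⟩ ∈ Subgroup.normalizer (D' : Set (MulAut Q)) :=
      hAD' ((mem_autGroup_group_iff hQP _).2 ⟨_, rfl⟩)
    exact (Subgroup.mem_normalizer_iff.1 h2 _).1 hd
  · rintro _ ⟨d, hd, rfl⟩
    obtain ⟨k, hk⟩ := hD'p ⟨θ d, hd⟩
    refine ⟨k, ?_⟩
    have h2 : θ (d ^ p ^ k) = 1 := by
      rw [map_pow]
      simpa using congrArg Subtype.val hk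
    have h3 : d ^ p ^ k ∈ θ.ker := h2
    rw [hθ, Subgroup.normalizerMonoidHom_ker, Subgroup.mem_subgroupOf] at h3
    simpa using h3

theorem fps_of_nps [Finite G] {p : ℕ} [Fact p.Prime] (P : Sylow p G)
    (H : IsNormalizerPStable p G) : FPS p (groupFusionSystem (P : Subgroup G)) := by
  rw [nps_iff] at H
  intro Q hfn χ hχ hquad
  have hQP : Q ≤ P := hfn.1
  obtain ⟨n, rfl⟩ := (mem_autGroup_group_iff hQP χ).1 hχ
  obtain ⟨D, hD1, hD2, hD3, hD4⟩ := H Q (P.isPGroup'.to_le hQP) n n.2 ((quad_aut_iff Q n).1 hquad)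
  set θ := Q.normalizerMonoidHom with hθ
  rw [mem_pCore_map_iff]
  refine ⟨(D.subgroupOf (Subgroup.normalizer (Q : Set G))).map θ, ?_, ?_, ?_, ⟨n, hD3, rfl⟩⟩
  · rintro _ ⟨d, -, rfl⟩
    exact (mem_autGroup_group_iff hQP _).2 ⟨d, rfl⟩
  · rw [Subgroup.le_normalizer_iff]
    rintro α hα _ ⟨d, hd, rfl⟩
    obtain ⟨m, rfl⟩ := (mem_autGroup_group_iff hQP α).1 hα
    refine ⟨m * d * m⁻¹, ?_, by rw [map_mul, map_mul, map_inv]⟩
    rw [SetLike.mem_coe, Subgroup.mem_subgroupOf] at hd ⊢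
    exact (Subgroup.mem_normalizer_iff.1 (hD2 m.2) _).1 hd
  · rintro ⟨_, d, hd, rfl⟩
    obtain ⟨k, hk⟩ := hD4 d hd
    refine ⟨k, Subtype.ext ?_⟩
    show (θ d) ^ p ^ k = 1
    rw [← map_pow]
    have h3 : d ^ p ^ k ∈ θ.ker := by
      rw [hθ, Subgroup.normalizerMonoidHom_ker, Subgroup.mem_subgroupOf]
      simpa using hk
    exact h3

end Cfsg.Agent.Lib.Helper90PStable
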