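import Mathlib
import Cfsg.Agent.Lib.Helper90Thompson
import Cfsg.Agent.Lib.Helper40FusWC

/-!
# Sparse fusion systems are constrained (`p` odd or `S₄`-free)
-/

set_option autoImplicit false
set_option linter.unusedSectionVars false

universe u

namespace Cfsg.Agent.Lib.Helper90Sparse

open Cfsg Cfsg.FusionSystem Cfsg.Agent.Lib.Helper87Fusion Cfsg.Agent.Lib.Helper87Fusion2
  Cfsg.Agent.Lib.Helper87Fusion3 Cfsg.Agent.Lib.Helper86Fusion Cfsg.Agent.Lib.Helper90Nilp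
  Cfsg.Agent.Lib.Helper90NilpFun Cfsg.Agent.Lib.Helper90Thompson
  Cfsg.Agent.Lib.Helper88Factor Cfsg.Agent.Lib.Helper88Quot Cfsg.Agent.Lib.Helper88QuotSat

variable {p : ℕ} [Fact p.Prime]

/-- the standard quotient (no cardinality claim) -/
theorem exists_factor' {Ω : Type u} [Group Ω] {S : Subgroup Ω} [Finite S] (hS : IsPGroup p S)
    {F : FusionSystem S} (hF : F.IsSaturated p) {Q : Subgroup Ω} (hsc : F.StronglyClosed Q) :
    ∃ (Ω' : Type u) (_ : Group Ω') (S' : Subgroup Ω') (_ : Finite S') (θ : S →* Ω')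
      (E : FusionSystem S'), F.IsFactorSystem Q θ E ∧ E.IsSaturated p ∧ IsPGroup p S' := by
  have hQS : Q ≤ S := hsc.1
  have hn : (Q.subgroupOf S).Normal := by
    refine ⟨fun x hx s => ?_⟩
    rw [Subgroup.mem_subgroupOf] at hx ⊢
    exact sc_conj_mem hsc s.2 hx
  have hq : IsQuot (QuotientGroup.mk' (Q.subgroupOf S)) Q (⊤ : Subgroup (S ⧸ Q.subgroupOf S)) := by
    refine ⟨hQS, fun s => ?_, ?_⟩
    · rw [QuotientGroup.mk'_apply, QuotientGroup.eq_one_iff, Subgroup.mem_subgroupOf]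
    · exact MonoidHom.range_eq_top.2 (QuotientGroup.mk'_surjective _)
  have hE := factorSystem_isFactorSystem F _ Q _ hq hsc
  exact ⟨S ⧸ Q.subgroupOf S, inferInstance, ⊤, inferInstance, _, _, hE,
    factor_saturated hS hF hE hsc, (hS.to_quotient _).to_subgroup _⟩

/-- lifting a `p'`-automorphism of the quotient preserving a nontrivial `S'`-invariant subgroup -/
theorem exists_lift {Ω Ω' : Type u} [Group Ω] [Group Ω'] {S : Subgroup Ω} [Finite S]
    {S' : Subgroup Ω'} {θ : S →* Ω'} {F : FusionSystem S} {E : FusionSystem S'} {Q : Subgroup Ω}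
    (hE : F.IsFactorSystem Q θ E) (hsc : F.StronglyClosed Q) {Pbar Vbar : Subgroup Ω'}
    (hPbar : Pbar ≤ S') {αbar : MulAut Pbar} (hαbar : αbar ∈ E.autGroup Pbar)
    (hc : (orderOf αbar).Coprime p) (hV1 : Vbar ≠ ⊥) (hVP : Vbar ≤ Pbar)
    (hVchar : ∀ β : MulAut S', ∀ x : S', (x : Ω') ∈ Vbar → ((β x : S') : Ω') ∈ Vbar)
    (hVα : ∀ x : Pbar, (x : Ω') ∈ Vbar → ((αbar x : Pbar) : Ω') ∈ Vbar) :
    ∃ (P₀ R : Subgroup Ω) (α : MulAut P₀), Q < R ∧ R ≤ P₀ ∧ P₀ ≤ S ∧ normalizerIn S R = S ∧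
      α ∈ F.autGroup P₀ ∧ (orderOf α).Coprime p ∧
      (∀ x : P₀, (x : Ω) ∈ R → ((α x : P₀) : Ω) ∈ R) ∧ (α = 1 → αbar = 1) := by
  have hq := IsFactorSystem.isQuot hE
  obtain ⟨P₀, hQP₀, hP₀S, rfl⟩ : ∃ P₀, Q ≤ P₀ ∧ P₀ ≤ S ∧ imageAlong θ P₀ = Pbar :=
    ⟨preimageAlong θ Pbar, hq.le_pre _, preimageAlong_le θ _, image_pre hq hPbar⟩
  have hfinP₀ : Finite P₀ := finite_of_le hP₀S
  obtain ⟨⟨α, hα⟩, hΦ, hαc⟩ := exists_coprime_lift (p := p) (Phi hE hsc hQP₀ hP₀S)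
    (Phi_surjective hE hsc hQP₀ hP₀S) ⟨αbar, hαbar⟩ (by rwa [← Subgroup.orderOf_coe])
  have hαc' : (orderOf α).Coprime p := by rwa [← Subgroup.orderOf_coe] at hαc
  set R := preimageAlong θ Vbar with hR
  have hRS : R ≤ S := preimageAlong_le θ _
  have hQR : Q ≤ R := hq.le_pre _
  have hRP₀ : R ≤ P₀ := by
    intro x hx
    rw [← pre_image_of_le hq hQP₀ hP₀S, mem_preimageAlong]
    exact ⟨hRS hx, hVP ((mem_preimageAlong θ).1 hx).2⟩
  have hαR : ∀ x : P₀, (x : Ω) ∈ R → ((α x : P₀) : Ω) ∈ R := by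
    intro x hx
    rw [hR, mem_preimageAlong]
    refine ⟨hP₀S (α x).2, ?_⟩
    have h2 := Phi_spec hE hsc hQP₀ hP₀S ⟨α, hα⟩ x.2
    rw [hΦ, totA_apply, totA_of_mem _ (tt_mem_image hP₀S x.2)] at h2
    rw [← h2]
    exact hVα _ ((mem_preimageAlong θ).1 hx).2
  have hnorm : normalizerIn S R = S := by
    apply le_antisymm (normalizerIn_le S R)
    intro s hs
    refine ⟨hs, mem_normalizer_of_conj_mem' hRS (fun x hx => ?_)⟩
    rw [hR, mem_preimageAlong]
    have hxS := hRS hx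
    refine ⟨S.mul_mem (S.mul_mem hs hxS) (S.inv_mem hs), ?_⟩
    rw [tt_mul θ (S.mul_mem hs hxS) (S.inv_mem hs), tt_mul θ hs hxS, tt_inv θ hs]
    exact hVchar (MulAut.conj ⟨tt θ s, hq.tt_mem hs⟩) ⟨tt θ x, hq.tt_mem hxS⟩
      ((mem_preimageAlong θ).1 hx).2
  have hQltR : Q < R := by
    refine lt_of_le_of_ne hQR (fun h => hV1 ?_)
    rw [eq_bot_iff]
    intro v hv
    obtain ⟨x, hx, rfl⟩ := hq.exists_tt ((hVP.trans hPbar) hv)
    have hxR : x ∈ R := (mem_preimageAlong θ).2 ⟨hx, hv⟩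
    rw [← h] at hxR
    exact Subgroup.mem_bot.2 ((hq.tt_eq_one_iff hx).2 hxR)
  refine ⟨P₀, R, α, hQltR, hRP₀, hP₀S, hnorm, hα, hαc', hαR, fun hα1 => ?_⟩
  have h3 : (⟨α, hα⟩ : F.autGroup P₀) = 1 := Subtype.ext hα1
  rw [h3, map_one] at hΦ
  exact (congrArg Subtype.val hΦ).symm

theorem exists_cast {Ω : Type u} [Group Ω] {T S : Subgroup Ω} (h : T = S) (N : FusionSystem T) :
    ∃ E : FusionSystem S, (∀ P, E.Hom P = N.Hom P) ∧ (N.IsSaturated p → E.IsSaturated p) := by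
  subst h
  exact ⟨N, fun _ => rfl, id⟩

/-- the sparseness hypothesis -/
def Sparse (p : ℕ) {Ω : Type u} [Group Ω] {S : Subgroup Ω} (F : FusionSystem S) : Prop :=
  ∀ E : FusionSystem S, E.IsSaturated p → E.IsSubsystemOf F →
    (∀ P : Subgroup Ω, E.Hom P = F.Hom P) ∨
      (∀ P : Subgroup Ω, E.Hom P = (innerFusionSystem S).Hom P)

theorem sparse_normalizer {Ω : Type u} [Group Ω] {S : Subgroup Ω} [Finite S] (hS : IsPGroup p S)
    {F : FusionSystem S} (hF : F.IsSaturated p) (hsp : Sparse p F) {R : Subgroup Ω} (hRS : R ≤ S)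
    (hT : normalizerIn S R = S) {N : FusionSystem (normalizerIn S R)}
    (hN : F.IsNormalizerSystem R N) :
    F.IsNormal R ∨ ∀ P, N.Hom P = (innerFusionSystem (normalizerIn S R)).Hom P := by
  have hfn := Cfsg.Agent.Lib.Helper89Fusion.isFullyNormalized_of_normalizerIn_eq F hRS hT
  have hNsat := Cfsg.Agent.Lib.Helper87KNorm.normalizer_saturated hS hF hfn hN
  obtain ⟨E, hEN, hEsat⟩ := exists_cast (p := p) hT N
  rcases hsp E (hEsat hNsat) (fun P φ hφ => by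
    rw [hEN P, hN P] at hφ
    exact hφ.1) with h | h
  · left
    refine ⟨hRS, fun P φ hφ => ?_⟩
    rw [← h P, hEN P, hN P] at hφ
    exact hφ.2.2.2
  · right
    intro P
    rw [← hEN P, h P]
    exact congrArg (fun X => (innerFusionSystem X).Hom P) hT.symm

/-- **Sparse systems are constrained** (modulo closure of the `S₄`-free class when `p = 2`). -/
theorem constrained_of_sparse (hcl : p = 2 → FreeClosed.{u} p (Equiv.Perm (Fin 4))) {Ω : Type u}
    [Group Ω] {S : Subgroup Ω} [Finite S] (hS : IsPGroup p S) (F : FusionSystem S)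
    (hF : F.IsSaturated p) (hsp : Sparse p F)
    (hp : p ≠ 2 ∨ F.IsSectionFree p (Equiv.Perm (Fin 4))) : F.IsConstrained p := by
  have hQ : F.IsNormal F.core := Cfsg.Agent.S5145.result F
  have hmax : ∀ R : Subgroup Ω, F.IsNormal R → R ≤ F.core := fun R hR => le_sSup hR
  have hsc := Cfsg.Agent.Lib.Helper86Sub.normal_stronglyClosed hQ
  have hQS : F.core ≤ S := hQ.1
  obtain ⟨Ω', _, S', _, θ, E, hE, hEsat, hS'⟩ := exists_factor' hS hF hsc
  have hKE : KT p Ω' S' E := (axiomsT hcl).K_factor Ω S F hS hF hp _ hQ Ω' S' θ E hE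
  have hAllE : AllP p E := by
    apply main (axiomsT hcl) Ω' S' hS' E hEsat hKE
    intro Pbar hPbar αbar hαbar hC hc
    by_contra hne
    obtain ⟨Vbar, hV1, hVP, hVchar, hVα⟩ := (axiomsT hcl).C_char Ω' S' Pbar αbar hS' hPbar hne hC
    obtain ⟨P₀, R, α, hQR, hRP₀, hP₀S, hnorm, hα, hαc, hαR, hfin⟩ :=
      exists_lift hE hsc hPbar hαbar hc hV1 hVP hVchar hVα
    have hRS : R ≤ S := hRP₀.trans hP₀S
    have hN := Cfsg.Agent.Lib.Helper87NormSys.normData_isNormalizerSystem F R hRS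
    rcases sparse_normalizer hS hF hsp hRS hnorm hN with h | h
    · exact absurd (hmax R h) (not_le_of_gt hQR)
    · exact hne (hfin (eq_one_of_normalizer_inner hS hN h hRP₀ (hnorm.symm ▸ hP₀S) hα hαR hαc))
  have htriv : ∀ P : Subgroup Ω, F.core ≤ P → P ≤ S → ∀ α ∈ F.autGroup P, (orderOf α).Coprime p →
      ∀ x : P, (x : Ω)⁻¹ * (α x : P) ∈ F.core :=
    fun P hQP hPS α hα hc => act_trivial_mod hE hsc hAllE hQP hPS hα hc
  have hCn := centralizer_normal hS hF hQ htriv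
  refine ⟨hF, F.core, hQ, hQS, fun Q' h => ?_⟩
  rw [Cfsg.Agent.Lib.Helper87Split.conj_eq_of_stronglyClosed hsc h]
  exact hmax _ hCn

/-- a non-inner saturated system contains a non-inner sparse saturated system over `S` -/
theorem exists_sparse {Ω : Type u} [Group Ω] {S : Subgroup Ω} [Finite S] :
    ∀ (n : ℕ) (F : FusionSystem S), Cfsg.Agent.Lib.Helper40FusWC.mu F = n → F.IsSaturated p →
      (∃ P : Subgroup Ω, F.Hom P ≠ (innerFusionSystem S).Hom P) →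
      ∃ E : FusionSystem S, E ≤ F ∧ E.IsSaturated p ∧ Sparse p E ∧
        ∃ P : Subgroup Ω, E.Hom P ≠ (innerFusionSystem S).Hom P := by
  intro n
  induction n using Nat.strong_induction_on with
  | _ n ih =>
  intro F hn hF hne
  by_cases hsp : Sparse p F
  · exact ⟨F, fun _ => le_rfl, hF, hsp, hne⟩
  · unfold Sparse at hsp
    push Not at hsp
    obtain ⟨E', hE'sat, hE'F, ⟨P₁, hP₁⟩, hE'ne⟩ := hsp
    have hlt : Cfsg.Agent.Lib.Helper40FusWC.mu E' < Cfsg.Agent.Lib.Helper40FusWC.mu F := by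
      apply Cfsg.Agent.Lib.Helper40FusWC.mu_lt E' F
      · rintro P f ⟨φ, hφ, hf⟩
        exact ⟨φ, hE'F P hφ, hf⟩
      · have : ∃ φ ∈ F.Hom P₁, φ ∉ E'.Hom P₁ := by
          by_contra hcon
          push Not at hcon
          exact hP₁ (Set.Subset.antisymm (hE'F P₁) hcon)
        obtain ⟨φ, hφF, hφE⟩ := this
        exact ⟨P₁, tot φ, isMap_tot hφF, fun h => hφE (h.hom_mem (fun x => (tot_apply φ x).symm))⟩
    obtain ⟨E, hEE', hEsat, hEsp, hEne⟩ := ih _ (hn ▸ hlt) E' rfl hE'sat hE'ne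
    exact ⟨E, fun P => (hEE' P).trans (hE'F P), hEsat, hEsp, hEne⟩

end Cfsg.Agent.Lib.Helper90Sparse
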