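import Mathlib
import Cfsg.Agent.Lib.Helper90Crit
import Cfsg.Agent.Lib.Helper87Closed
import Cfsg.Agent.Lib.Helper87Sylow
import Cfsg.Agent.Lib.Helper86Fusion2
import Cfsg.Agent.Lib.Helper86Fusion4
import Cfsg.Agent.Lib.Helper86Group
import Cfsg.Agent.Lib.Helper88Fusion
import Cfsg.Agent.Lib.Helper14FamProps

set_option autoImplicit false

namespace Cfsg.Agent.Lib.Helper90ThmB

open Cfsg Cfsg.FusionSystem
open Cfsg.Agent.Lib.Helper87Fusion Cfsg.Agent.Lib.Helper87Fusion2 Cfsg.Agent.Lib.Helper87Fusion3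
open Cfsg.Agent.Lib.Helper86Fusion Cfsg.Agent.Lib.Helper86Fusion2 Cfsg.Agent.Lib.Helper90SmallExp
open Cfsg.Agent.Lib.Helper90Hyp Cfsg.Agent.Lib.Helper90Crit Cfsg.Agent.Lib.Helper87Sylow

variable {Ω : Type*} [Group Ω] {S : Subgroup Ω}

/-- abelian, all elements of small order -/
def SA (p : ℕ) (A : Subgroup Ω) : Prop := IsMulCommutative A ∧ ∀ a ∈ A, Small p a

/-- The subgroup `D` of `P ∩ hyp(F)`. -/
theorem exists_D [Finite S] {p : ℕ} [hp : Fact p.Prime] (hS : IsPGroup p S) {F : FusionSystem S}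
    (hF : F.IsSaturated p) (P : Subgroup Ω) (hP : P ≤ S) :
    ∃ D : Subgroup Ω, D ≤ P ⊓ F.hyperfocalSubgroup p ∧ (∀ d ∈ D, Small p d) ∧
      (∀ g, IsMap F P g → (∀ x ∈ P, g x ∈ P) → ∀ d ∈ D, g d ∈ D) ∧
      (∀ f, PAut F p P f → (∀ d ∈ D, f d = d) → ∀ x ∈ P, f x = x) := by
  have hsc := Cfsg.Agent.Lib.Helper87Closed.hyperfocal_stronglyClosed hS hF
  set Ph : Subgroup Ω := P ⊓ F.hyperfocalSubgroup p with hPh
  have hPhP : Ph ≤ P := inf_le_left
  have hPhS : Ph ≤ S := hPhP.trans hP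
  have hfin : Finite Ph := finite_of_le hPhS
  have hPhp : IsPGroup p Ph := hS.to_le hPhS
  obtain ⟨D₀, hchar, hsmall, hfaith⟩ := exists_small_char p hPhp
  have hinv : ∀ g, IsMap F P g → (∀ x ∈ P, g x ∈ P) → ∀ x ∈ Ph, g x ∈ Ph := fun g hg hgP x hx =>
    ⟨hgP x hx.1, StronglyClosed_mem hsc hg hx.1 hx.2⟩
  refine ⟨D₀.map Ph.subtype, ?_, ?_, ?_, ?_⟩
  · rintro _ ⟨d, -, rfl⟩
    exact d.2
  · rintro _ ⟨d, hd, rfl⟩
    rcases hsmall d hd with h1 | ⟨h1, h2⟩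
    · left; simpa using congrArg Subtype.val h1
    · right; exact ⟨h1, by simpa using congrArg Subtype.val h2⟩
  · rintro g hg hgP _ ⟨d, hd, rfl⟩
    have hg' : IsMap F Ph g := hg.restrict hPhP
    obtain ⟨α, -, hα⟩ := hg'.exists_aut (image_eq_of_card_le hg' hPhS (hinv g hg hgP) le_rfl)
    refine ⟨α d, (Subgroup.characteristic_iff_le_comap.1 hchar α) hd, ?_⟩
    exact hα d
  · intro f hf hfD
    have hf' : PAut F p Ph f := hf.restrict hPhP (hinv f hf.1 hf.2.1)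
    obtain ⟨α, -, hαp, hα⟩ := hf'.exists_aut
    have h1 : α = 1 := by
      apply hfaith α hαp
      intro d hd
      apply Subtype.ext
      rw [hα]
      exact hfD _ ⟨d, hd, rfl⟩
    have h2 : ∀ x ∈ Ph, f x = x := by
      intro x hx
      rw [← hα ⟨x, hx⟩, h1]
      rfl
    apply hf.eq_of_chain hS
    intro x hx
    exact h2 _ ⟨P.mul_mem (P.inv_mem hx) (hf.2.1 x hx), hf.comm_mem_hyp hx⟩

/-- A maximal `N`-invariant abelian subgroup of `D` is self-centralizing in `D`. -/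
theorem exists_A [Finite S] {p : ℕ} [hp : Fact p.Prime] (hS : IsPGroup p S) (N D : Subgroup Ω)
    (hN : N ≤ S) (hDN : D ≤ N) (hD : ∀ n ∈ N, ∀ d ∈ D, n * d * n⁻¹ ∈ D) :
    ∃ A : Subgroup Ω, A ≤ D ∧ IsMulCommutative A ∧ (∀ n ∈ N, ∀ a ∈ A, n * a * n⁻¹ ∈ A) ∧
      ∀ d ∈ D, (∀ a ∈ A, d * a = a * d) → d ∈ A := by
  have hNfin : Finite N := finite_of_le hN
  let 𝒮 : Set (Subgroup Ω) := {A | A ≤ D ∧ IsMulCommutative A ∧ ∀ n ∈ N, ∀ a ∈ A, n * a * n⁻¹ ∈ A}
  have hfin : 𝒮.Finite :=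
    (Cfsg.Agent.Lib.Helper88Fusion.finite_le S).subset (fun A hA => hA.1.trans (hDN.trans hN))
  have hne : 𝒮.Nonempty := by
    refine ⟨⊥, bot_le, ?_, ?_⟩
    · exact ⟨⟨fun a b => by
        have ha : a = 1 := Subsingleton.elim _ _
        rw [ha]; simp⟩⟩
    · intro n _ a ha
      rw [Subgroup.mem_bot] at ha
      rw [ha]; simp
  obtain ⟨A, hA, hmax⟩ := hfin.exists_maximal hne
  refine ⟨A, hA.1, hA.2.1, hA.2.2, ?_⟩
  intro d hd hdA
  by_contra hdn
  set X : Subgroup Ω := D ⊓ Subgroup.centralizer (A : Set Ω) with hX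
  have hXA : ¬ X ≤ A := fun h => hdn (h ⟨hd, Subgroup.mem_centralizer_iff.2 (fun a ha => (hdA a ha).symm)⟩)
  have hXinv : ∀ n ∈ N, ∀ x ∈ X, n * x * n⁻¹ ∈ X := by
    intro n hn x hx
    refine ⟨hD n hn x hx.1, ?_⟩
    apply Subgroup.mem_centralizer_iff.2
    intro a ha
    have h1 : n⁻¹ * a * n⁻¹⁻¹ ∈ A := hA.2.2 n⁻¹ (N.inv_mem hn) a ha
    have h2 := Subgroup.mem_centralizer_iff.1 hx.2 _ h1
    calc a * (n * x * n⁻¹) = n * ((n⁻¹ * a * n⁻¹⁻¹) * x) * n⁻¹ := by group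
      _ = n * (x * (n⁻¹ * a * n⁻¹⁻¹)) * n⁻¹ := by rw [h2]
      _ = n * x * n⁻¹ * a := by group
  obtain ⟨y, hyX, hyA, hyN⟩ := exists_central_mod N (hS.to_le hN) A X (inf_le_left.trans hDN) hXinv hXA
  have hB : A ⊔ Subgroup.zpowers y ∈ 𝒮 := by
    refine ⟨sup_le hA.1 ((Subgroup.zpowers_le).2 hyX.1),
      Cfsg.Agent.Lib.Helper14FamProps.comm_sup_zpowers A hA.2.1 y hyX.2, ?_⟩
    intro n hn
    have hle : A ⊔ Subgroup.zpowers y ≤
        (A ⊔ Subgroup.zpowers y).comap (MulAut.conj n).toMonoidHom := by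
      apply sup_le
      · intro a ha
        rw [Subgroup.mem_comap]
        show n * a * n⁻¹ ∈ _
        exact (le_sup_left : A ≤ A ⊔ Subgroup.zpowers y) (hA.2.2 n hn a ha)
      · rw [Subgroup.zpowers_le, Subgroup.mem_comap]
        show n * y * n⁻¹ ∈ _
        have e : n * y * n⁻¹ = (y * n * y⁻¹ * n⁻¹)⁻¹ * y := by group
        rw [e]
        exact Subgroup.mul_mem _ ((le_sup_left : A ≤ A ⊔ Subgroup.zpowers y) (A.inv_mem (hyN n hn)))
          ((le_sup_right : Subgroup.zpowers y ≤ A ⊔ Subgroup.zpowers y) (Subgroup.mem_zpowers y))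
    intro b hb
    exact hle hb
  exact hyA (hmax hB le_sup_left ((le_sup_right : Subgroup.zpowers y ≤ A ⊔ Subgroup.zpowers y)
    (Subgroup.mem_zpowers y)))

/-- An `F`-automorphism of the fully normalized subgroup `P` fixing `A` elementwise is induced by an element
of `N_S(P)`. -/
theorem conj_of_fix [Finite S] {p : ℕ} [hp : Fact p.Prime] (hS : IsPGroup p S) {F : FusionSystem S}
    (hF : F.IsSaturated p) {P : Subgroup Ω} (hP : F.IsFullyNormalized P) (D A : Subgroup Ω)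
    (hDP : D ≤ P)
    (hDinv : ∀ g, IsMap F P g → (∀ x ∈ P, g x ∈ P) → ∀ d ∈ D, g d ∈ D)
    (hDf : ∀ f, PAut F p P f → (∀ d ∈ D, f d = d) → ∀ x ∈ P, f x = x)
    (hAD : A ≤ D) (hAN : ∀ n ∈ normalizerIn S P, ∀ a ∈ A, n * a * n⁻¹ ∈ A)
    (hAC : ∀ d ∈ D, (∀ a ∈ A, d * a = a * d) → d ∈ A)
    (f : Ω → Ω) (hf : IsMap F P f) (hfP : ∀ x ∈ P, f x ∈ P) (hfA : ∀ a ∈ A, f a = a) :
    ∃ n ∈ normalizerIn S P, ∀ x ∈ P, f x = n * x * n⁻¹ := by
  have hPS : P ≤ S := hP.1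
  have hfin : Finite P := finite_of_le hPS
  obtain ⟨-, ⟨-, R, hR⟩, -⟩ := saturated_fullyNormalized hS hF hP
  have hTG := autInducedBy_le_autGroup F hPS
  have hT : SylIn p (autInducedBy S P) (F.autGroup P) := (sylIn_iff hTG).2 ⟨R, hR⟩
  let C : Subgroup (MulAut P) :=
    { carrier := {γ | γ ∈ F.autGroup P ∧ ∀ a : P, (a : Ω) ∈ A → γ a = a}
      one_mem' := ⟨Subgroup.one_mem _, fun _ _ => rfl⟩
      mul_mem' := fun {a b} ha hb => ⟨Subgroup.mul_mem _ ha.1 hb.1, fun x hx => by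
        rw [MulAut.mul_apply, hb.2 x hx, ha.2 x hx]⟩
      inv_mem' := fun {a} ha => ⟨Subgroup.inv_mem _ ha.1, fun x hx => by
        conv_lhs => rw [← ha.2 x hx]
        exact MulAut.inv_apply_self _ a x⟩ }
  have hCG : C ≤ F.autGroup P := fun c hc => hc.1
  have hCp : IsPGroup p C := by
    apply Cfsg.Agent.Lib.Helper55Core.isPGroup_of_forall_coprime
    intro c hc k hk hck
    have hpa := pAut_of_aut hPS c hc.1 k hk hck
    set g := totA c with hg
    have hgA : ∀ a ∈ A, g a = a := by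
      intro a ha
      have haP : a ∈ P := hDP (hAD ha)
      rw [hg, totA_of_mem c haP, hc.2 ⟨a, haP⟩ ha]
    have hD' : PAut F p D g := hpa.restrict hDP (hDinv _ hpa.1 hpa.2.1)
    have h1 : ∀ d ∈ D, g d = d := by
      apply hD'.eq_of_chain hS
      intro d hd
      apply hgA
      apply hAC _ (D.mul_mem (D.inv_mem hd) (hD'.2.1 d hd))
      intro a ha
      have hdP : d ∈ P := hDP hd
      have haP : a ∈ P := hDP (hAD ha)
      have h2 : d * a * d⁻¹ ∈ A := hAN d (le_normalizerIn hPS hdP) a ha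
      have h3 := hgA _ h2
      rw [hpa.1.map_conj hdP haP, hgA a ha] at h3
      calc d⁻¹ * g d * a = d⁻¹ * (g d * a * (g d)⁻¹) * g d := by group
        _ = d⁻¹ * (d * a * d⁻¹) * g d := by rw [h3]
        _ = a * (d⁻¹ * g d) := by group
    have h2 := hDf g hpa h1
    ext x
    rw [← totA_apply, ← hg, h2 x x.2]
    rfl
  have hCn : ∀ t ∈ autInducedBy S P, ∀ c ∈ C, t * c * t⁻¹ ∈ C := by
    intro t ht c hc
    refine ⟨Subgroup.mul_mem _ (Subgroup.mul_mem _ (hTG ht) hc.1) (Subgroup.inv_mem _ (hTG ht)), ?_⟩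
    intro a ha
    obtain ⟨s, hs, hts⟩ := (mem_autInducedBy_iff S P t⁻¹).1 (Subgroup.inv_mem _ ht)
    have hsN : s ∈ normalizerIn S P := by
      refine ⟨hs, Cfsg.Agent.Lib.Helper87Realized.mem_normalizer_of_conj_mem ?_⟩
      intro q hq
      rw [← hts ⟨q, hq⟩]
      exact (t⁻¹ ⟨q, hq⟩).2
    have h1 : ((t⁻¹ a : P) : Ω) ∈ A := by
      rw [hts]
      exact hAN s hsN a ha
    show t (c (t⁻¹ a)) = a
    rw [hc.2 _ h1]
    exact MulAut.apply_inv_self _ t a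
  have hTC : autInducedBy S P ≤ Subgroup.normalizer (C : Set (MulAut P)) := by
    intro t ht
    exact Cfsg.Agent.Lib.Helper87Realized.mem_normalizer_of_conj_mem (hCn t ht)
  have hCT : C ≤ autInducedBy S P := by
    have h1 : IsPGroup p (autInducedBy S P ⊔ C : Subgroup (MulAut P)) :=
      hT.isPGroup.to_sup_of_normal_right' hCp hTC
    have h2 := hT.eq_of_le le_sup_left (sup_le hTG hCG) h1
    rw [h2]
    exact le_sup_right
  obtain ⟨α, hα, hαf⟩ := hf.exists_aut (image_eq_of_card_le hf hPS hfP le_rfl)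
  have hαC : α ∈ C := by
    refine ⟨hα, fun a ha => ?_⟩
    apply Subtype.ext
    rw [hαf, hfA a ha]
  obtain ⟨n, hn, hαn⟩ := (mem_autInducedBy_iff S P α).1 (hCT hαC)
  refine ⟨n, ⟨hn, Cfsg.Agent.Lib.Helper87Realized.mem_normalizer_of_conj_mem ?_⟩, ?_⟩
  · intro q hq
    rw [← hαn ⟨q, hq⟩]
    exact (α ⟨q, hq⟩).2
  · intro x hx
    rw [← hαf ⟨x, hx⟩, hαn]

/-- The main step: automorphisms of a fully normalized subgroup. -/
theorem aut_mem [Finite S] {p : ℕ} [hp : Fact p.Prime] (hS : IsPGroup p S) {E F : FusionSystem S}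
    (hE : E.IsSaturated p) (hF : F.IsSaturated p) (hEF : ∀ P g, IsMap E P g → IsMap F P g)
    (H : ∀ A B : Subgroup Ω, A ≤ F.hyperfocalSubgroup p → B ≤ F.hyperfocalSubgroup p → SA p A →
      SA p B → ∀ g, IsMap F A g → (∀ a ∈ A, g a ∈ B) → IsMap E A g)
    {P : Subgroup Ω} (hP : F.IsFullyNormalized P)
    (IH : ∀ (Q : Subgroup Ω) (g : Ω → Ω), Nat.card P < Nat.card Q → IsMap F Q g → IsMap E Q g)
    (γ : Ω → Ω) (hγ : IsMap F P γ) (hγP : ∀ x ∈ P, γ x ∈ P) : IsMap E P γ := by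
  have hPS : P ≤ S := hP.1
  have hPfin : Finite P := finite_of_le hPS
  set N := normalizerIn S P with hN
  have hPN : P ≤ N := le_normalizerIn hPS
  obtain ⟨D, hDle, hDs, hDinv, hDf⟩ := exists_D hS hF P hPS
  have hDP : D ≤ P := hDle.trans inf_le_left
  have hDT : D ≤ F.hyperfocalSubgroup p := hDle.trans inf_le_right
  have hDN : ∀ n ∈ N, ∀ d ∈ D, n * d * n⁻¹ ∈ D := fun n hn d hd =>
    hDinv (fun x => n * x * n⁻¹) (isMap_conj F hPS hn.1)
      (fun x hx => (Subgroup.mem_normalizer_iff.1 hn.2 x).1 hx) d hd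
  obtain ⟨A, hAD, hAc, hAN, hAC⟩ := exists_A hS N D (normalizerIn_le S P) (hDP.trans hPN) hDN
  have hfix := conj_of_fix hS hF hP D A hDP hDinv hDf hAD hAN hAC
  have hAP : A ≤ P := hAD.trans hDP
  have hAS : A ≤ S := hAP.trans hPS
  have hAfin : Finite A := finite_of_le hAS
  have hSA_A : SA p A := ⟨hAc, fun a ha => hDs a (hAD ha)⟩
  have hγim : γ '' (P : Set Ω) = (P : Set Ω) := image_eq_of_card_le hγ hPS hγP le_rfl
  obtain ⟨δ, hδ, hδγ, hγδ, hδim⟩ := hγ.inv hγim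
  have hδP : ∀ x ∈ P, δ x ∈ P := fun x hx => IsMap.mem_image hδim hx
  obtain ⟨B, hB⟩ := hγ.exists_image_of_le hAP
  have hBD : B ≤ D := by
    intro y hy
    obtain ⟨x, hx, rfl⟩ := IsMap.exists_of_mem_image hB hy
    exact hDinv γ hγ hγP x (hAD hx)
  have hBP : B ≤ P := hBD.trans hDP
  have hBfin : Finite B := finite_of_le (hBP.trans hPS)
  have hSA_B : SA p B := by
    refine ⟨⟨⟨fun x y => ?_⟩⟩, fun b hb => hDs b (hBD hb)⟩
    obtain ⟨a, ha, hax⟩ := IsMap.exists_of_mem_image hB x.2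
    obtain ⟨b, hb, hby⟩ := IsMap.exists_of_mem_image hB y.2
    apply Subtype.ext
    show (x : Ω) * y = y * x
    rw [← hax, ← hby, ← hγ.map_mul (hAP ha) (hAP hb), ← hγ.map_mul (hAP hb) (hAP ha),
      setLike_mul_comm ha hb]
  have hδB : ∀ b ∈ B, δ b ∈ A := by
    intro b hb
    obtain ⟨a, ha, rfl⟩ := IsMap.exists_of_mem_image hB hb
    rw [hδγ a (hAP ha)]
    exact ha
  have hδE : IsMap E B δ :=
    H B A (hBD.trans hDT) (hAD.trans hDT) hSA_B hSA_A δ (hδ.restrict hBP) hδB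
  obtain ⟨A', hAA', hA'⟩ := exists_fullyNormalized_conj E hAS
  obtain ⟨-, hA'a, hA'r⟩ := saturated_fullyNormalized hS hE hA'
  obtain ⟨χ, hχ, hχA, -⟩ := exists_normalizer_map hS E A' A hA'a hA'r hAA'
  have hNA : N ≤ normalizerIn S A := fun n hn =>
    ⟨hn.1, Cfsg.Agent.Lib.Helper87Realized.mem_normalizer_of_conj_mem (hAN n hn)⟩
  have hPNA : P ≤ normalizerIn S A := hPN.trans hNA
  have hρ₀ : IsMap E B (fun x => χ (δ x)) := hδE.comp hχ (fun x hx => hPNA (hAP (hδB x hx)))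
  have hρ₀im : (fun x => χ (δ x)) '' (B : Set Ω) = (A' : Set Ω) := by
    rw [← hχA]
    ext y
    constructor
    · rintro ⟨b, hb, rfl⟩
      exact ⟨δ b, hδB b hb, rfl⟩
    · rintro ⟨a, ha, rfl⟩
      exact ⟨γ a, IsMap.mem_image hB ha, by show χ (δ (γ a)) = χ a; rw [hδγ a (hAP ha)]⟩
  obtain ⟨ψ, hψ, hψB⟩ := isReceptive_extend hA'r hρ₀ hρ₀im (N := P) (by
    intro g hg
    refine ⟨hPS hg, Cfsg.Agent.Lib.Helper87Realized.mem_normalizer_of_conj_mem ?_, χ (δ g),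
      hχ.mem (hPNA (hδP g hg)), ?_⟩
    · intro b hb
      obtain ⟨a, ha, rfl⟩ := IsMap.exists_of_mem_image hB hb
      have h1 : δ g * a * (δ g)⁻¹ ∈ A := hAN _ (hPN (hδP g hg)) a ha
      have h2 := IsMap.mem_image hB h1
      rwa [hγ.map_conj (hδP g hg) (hAP ha), hγδ g hg] at h2
    · intro b hb
      show χ (δ (g * b * g⁻¹)) = χ (δ g) * χ (δ b) * (χ (δ g))⁻¹
      rw [hδ.map_conj hg (hBP hb), hχ.map_conj (hPNA (hδP g hg)) (hPNA (hδP b (hBP hb)))])
  set μ : Ω → Ω := fun x => ψ (γ x) with hμ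
  have hμF : IsMap F P μ := hγ.comp (hEF _ _ hψ) hγP
  have hμA : ∀ a ∈ A, μ a = χ a := by
    intro a ha
    show ψ (γ a) = χ a
    rw [hψB (γ a) (IsMap.mem_image hB ha), hδγ a (hAP ha)]
  obtain ⟨P₁, hP₁⟩ := hμF.exists_image
  have hψim : ψ '' (P : Set Ω) = (P₁ : Set Ω) := by
    rw [← hP₁]
    ext y
    constructor
    · rintro ⟨x, hx, rfl⟩
      exact ⟨δ x, hδP x hx, by show ψ (γ (δ x)) = ψ x; rw [hγδ x hx]⟩
    · rintro ⟨x, hx, rfl⟩
      exact ⟨γ x, hγP x hx, rfl⟩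
  suffices hμE : IsMap E P μ by
    obtain ⟨ψi, hψi, hψi1, -, -⟩ := hψ.inv hψim
    exact (hμE.comp hψi (fun x hx => IsMap.mem_image hP₁ hx)).congr
      (fun x hx => hψi1 (γ x) (hγP x hx))
  have hP₁S : P₁ ≤ S := hμF.image_le hP₁
  have hP₁fin : Finite P₁ := finite_of_le hP₁S
  obtain ⟨ρ, hρ, hρμ, hμρ, hρim⟩ := hμF.inv hP₁
  have hρP : ∀ y ∈ P₁, ρ y ∈ P := fun y hy => IsMap.mem_image hρim hy
  obtain ⟨-, -, hPr⟩ := saturated_fullyNormalized hS hF hP
  have hA'μ : ∀ a' ∈ A', ∃ a ∈ A, μ a = a' := by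
    intro a' ha'
    obtain ⟨a, ha, rfl⟩ := IsMap.exists_of_mem_image hχA ha'
    exact ⟨a, ha, hμA a ha⟩
  have hkey : ∀ g ∈ normalizerIn S P₁, (∀ a' ∈ A', g * a' = a' * g) →
      ∃ h ∈ S, ∀ y ∈ P₁, ρ (g * y * g⁻¹) = h * ρ y * h⁻¹ := by
    intro g hg hgA
    have hgn : ∀ y ∈ P₁, g * y * g⁻¹ ∈ P₁ := fun y hy => (Subgroup.mem_normalizer_iff.1 hg.2 y).1 hy
    have hf : IsMap F P (fun x => ρ (g * μ x * g⁻¹)) :=
      (hμF.comp (isMap_conj F hP₁S hg.1) (fun x hx => IsMap.mem_image hP₁ hx)).comp hρ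
        (fun x hx => hgn _ (IsMap.mem_image hP₁ hx))
    obtain ⟨n, hn, hfn⟩ := hfix _ hf (fun x hx => hρP _ (hgn _ (IsMap.mem_image hP₁ hx))) (by
      intro a ha
      have h1 : μ a ∈ A' := by rw [hμA a ha]; exact IsMap.mem_image hχA ha
      show ρ (g * μ a * g⁻¹) = a
      rw [hgA _ h1, mul_inv_cancel_right, hρμ a (hAP ha)])
    refine ⟨n, hn.1, fun y hy => ?_⟩
    have := hfn (ρ y) (hρP y hy)
    simp only [hμρ y hy] at this
    exact this
  obtain ⟨φ, hφ, hφρ⟩ := id hρ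
  set Ext := extender S P₁ φ with hExt
  have hP₁Ext : P₁ ≤ Ext := le_extender hφ
  have hExtS : Ext ≤ S := (extender_le P₁ φ).trans (normalizerIn_le S P₁)
  have hExtfin : Finite Ext := finite_of_le hExtS
  obtain ⟨ρ', hρ', hρ'ρ⟩ := isReceptive_extend hPr hρ hρim (N := Ext)
    (fun g hg => (mem_extender_iff' φ hφρ g).1 hg)
  by_cases hcase : Ext = P₁
  swap
  · have hlt : Nat.card P < Nat.card Ext := by
      rw [← hμF.card_image hP₁]
      exact card_lt_of_lt (lt_of_le_of_ne hP₁Ext (Ne.symm hcase))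
    have h1 : IsMap E P₁ ρ := ((IH Ext ρ' hlt hρ').restrict hP₁Ext).congr hρ'ρ
    obtain ⟨μ', hμ', hμ'1, -, -⟩ := h1.inv hρim
    refine hμ'.congr (fun x hx => ?_)
    have := hμ'1 (μ x) (IsMap.mem_image hP₁ hx)
    rwa [hρμ x hx] at this
  · have hcen : ∀ g ∈ normalizerIn S P₁, (∀ a' ∈ A', g * a' = a' * g) → g ∈ P₁ := by
      intro g hg hgA
      rw [← hcase]
      exact (mem_extender_iff' φ hφρ g).2 ⟨hg.1, hg.2, hkey g hg hgA⟩
    set C := centralizerIn S A' with hC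
    have hP₁A' : ∀ u ∈ P₁, ∀ a' ∈ A', u * a' * u⁻¹ ∈ A' := by
      intro u hu a' ha'
      obtain ⟨x, hx, rfl⟩ := IsMap.exists_of_mem_image hP₁ hu
      obtain ⟨a, ha, rfl⟩ := hA'μ a' ha'
      rw [← hμF.map_conj hx (hAP ha), hμA _ (hAN x (hPN hx) a ha)]
      exact IsMap.mem_image hχA (hAN x (hPN hx) a ha)
    have hP₁C : P₁ ≤ Subgroup.normalizer (C : Set Ω) := by
      intro u hu
      have hCfin : Finite C := finite_of_le (centralizerIn_le S A')
      apply Cfsg.Agent.Lib.Helper87Realized.mem_normalizer_of_conj_mem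
      intro c hc
      refine ⟨S.mul_mem (S.mul_mem (hP₁S hu) hc.1) (S.inv_mem (hP₁S hu)), ?_⟩
      apply Subgroup.mem_centralizer_iff.2
      intro a' ha'
      have h1 : u⁻¹ * a' * u⁻¹⁻¹ ∈ A' := hP₁A' u⁻¹ (P₁.inv_mem hu) a' ha'
      have h2 := Subgroup.mem_centralizer_iff.1 hc.2 _ h1
      calc a' * (u * c * u⁻¹) = u * ((u⁻¹ * a' * u⁻¹⁻¹) * c) * u⁻¹ := by group
        _ = u * (c * (u⁻¹ * a' * u⁻¹⁻¹)) * u⁻¹ := by rw [h2]
        _ = u * c * u⁻¹ * a' := by group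
    have hCP₁ : C ≤ P₁ := by
      by_contra hcon
      have hlt : P₁ < P₁ ⊔ C := by
        refine lt_of_le_of_ne le_sup_left (fun h => hcon ?_)
        rw [h]; exact le_sup_right
      have hYS : P₁ ⊔ C ≤ S := sup_le hP₁S (centralizerIn_le S A')
      have hYfin : Finite (P₁ ⊔ C : Subgroup Ω) := finite_of_le hYS
      obtain ⟨x, hxY, hxN, hxP⟩ :=
        Cfsg.Agent.Lib.Helper86Group.exists_mem_normalizer_not_mem (P₁ ⊔ C) P₁ (hS.to_le hYS) hlt
      have hx' : x ∈ ((P₁ ⊔ C : Subgroup Ω) : Set Ω) := hxY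
      rw [Subgroup.coe_mul_of_left_le_normalizer_right P₁ C hP₁C] at hx'
      obtain ⟨u, hu, c, hc, rfl⟩ := hx'
      have hu' : u ∈ P₁ := hu
      have hc' : c ∈ C := hc
      apply hxP
      apply P₁.mul_mem hu'
      apply hcen c ⟨hc'.1, ?_⟩ (fun a' ha' => (Subgroup.mem_centralizer_iff.1 hc'.2 a' ha').symm)
      have : c = u⁻¹ * (u * c) := by group
      rw [this]
      exact Subgroup.mul_mem _ (Subgroup.inv_mem _ (Subgroup.le_normalizer hu')) hxN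
    have hχP₁ : ∀ x ∈ P, χ x ∈ P₁ := by
      intro x hx
      have hz : (μ x)⁻¹ * χ x ∈ C := by
        refine ⟨S.mul_mem (S.inv_mem (hμF.mem hx)) (hχ.mem (hPNA hx)), ?_⟩
        apply Subgroup.mem_centralizer_iff.2
        intro a' ha'
        obtain ⟨a, ha, rfl⟩ := hA'μ a' ha'
        have h1 : x * a * x⁻¹ ∈ A := hAN x (hPN hx) a ha
        have h2 := hμA _ h1
        rw [hμF.map_conj hx (hAP ha), hχ.map_conj (hPNA hx) (hPNA (hAP ha)), ← hμA a ha] at h2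
        calc μ a * ((μ x)⁻¹ * χ x) = (μ x)⁻¹ * (μ x * μ a * (μ x)⁻¹) * χ x := by group
          _ = (μ x)⁻¹ * (χ x * μ a * (χ x)⁻¹) * χ x := by rw [h2]
          _ = (μ x)⁻¹ * χ x * μ a := by group
      have : χ x = μ x * ((μ x)⁻¹ * χ x) := by group
      rw [this]
      exact P₁.mul_mem (IsMap.mem_image hP₁ hx) (hCP₁ hz)
    have hτ : IsMap F P (fun x => ρ (χ x)) := ((hEF _ _ hχ).restrict hPNA).comp hρ hχP₁
    obtain ⟨n, hn, hτn⟩ := hfix _ hτ (fun x hx => hρP _ (hχP₁ x hx)) (by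
      intro a ha
      show ρ (χ a) = a
      rw [← hμA a ha, hρμ a (hAP ha)])
    have hninv : n⁻¹ ∈ N := N.inv_mem hn
    have hnP : ∀ y ∈ P, n⁻¹ * y * n⁻¹⁻¹ ∈ P := fun y hy =>
      (Subgroup.mem_normalizer_iff.1 hninv.2 y).1 hy
    refine ((isMap_conj E hPS hninv.1).comp (hχ.restrict hPNA) hnP).congr (fun y hy => ?_)
    have h1 := hτn _ (hnP y hy)
    have h2 : n * (n⁻¹ * y * n⁻¹⁻¹) * n⁻¹ = y := by group
    simp only [h2] at h1
    show χ (n⁻¹ * y * n⁻¹⁻¹) = μ y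
    have h3 := hμρ _ (hχP₁ _ (hnP y hy))
    rw [h1] at h3
    exact h3.symm

/-- Theorem B in `IsMap` form. -/
theorem all_mem [Finite S] {p : ℕ} [hp : Fact p.Prime] (hS : IsPGroup p S) {E F : FusionSystem S}
    (hE : E.IsSaturated p) (hF : F.IsSaturated p) (hEF : ∀ P g, IsMap E P g → IsMap F P g)
    (H : ∀ A B : Subgroup Ω, A ≤ F.hyperfocalSubgroup p → B ≤ F.hyperfocalSubgroup p → SA p A →
      SA p B → ∀ g, IsMap F A g → (∀ a ∈ A, g a ∈ B) → IsMap E A g) :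
    ∀ (P : Subgroup Ω) (g : Ω → Ω), IsMap F P g → IsMap E P g := by
  have key : ∀ (n : ℕ) (P : Subgroup Ω) (g : Ω → Ω), Nat.card S - Nat.card P = n →
      IsMap F P g → IsMap E P g := by
    intro n
    induction n using Nat.strong_induction_on with
    | _ n ih =>
      intro P g hn hg
      have hPS : P ≤ S := hg.le
      have hPfin : Finite P := finite_of_le hPS
      have IH : ∀ (Q : Subgroup Ω) (g' : Ω → Ω), Nat.card P < Nat.card Q → IsMap F Q g' →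
          IsMap E Q g' := by
        intro Q g' hlt hg'
        have h1 : Nat.card Q ≤ Nat.card S := Subgroup.card_le_of_le hg'.le
        exact ih (Nat.card S - Nat.card Q) (by omega) Q g' rfl hg'
      by_cases hPeq : P = S
      · subst hPeq
        exact aut_mem hS hE hF hEF H (Cfsg.Agent.Lib.Helper86Fusion4.fullyNormalized_self F) IH g hg
          (fun x hx => hg.mem hx)
      · have hnorm : ∀ R : Subgroup Ω, R ≤ S → Nat.card R = Nat.card P →
            Nat.card P < Nat.card (normalizerIn S R) := by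
          intro R hRS hcard
          have hRne : R ≠ S := by
            intro h
            apply hPeq
            have h2 : Nat.card P = Nat.card S := by rw [← hcard, h]
            exact Subgroup.eq_of_le_of_card_ge hPS h2.ge
          have hlt : R < S := lt_of_le_of_ne hRS hRne
          obtain ⟨x, hxS, hxN, hxR⟩ :=
            Cfsg.Agent.Lib.Helper86Group.exists_mem_normalizer_not_mem S R hS hlt
          rw [← hcard]
          have : Finite (normalizerIn S R) := finite_of_le (normalizerIn_le S R)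
          apply card_lt_of_lt
          refine lt_of_le_of_ne (le_normalizerIn hRS) (fun h => hxR ?_)
          rw [h]
          exact ⟨hxS, hxN⟩
        obtain ⟨P₀, hPP₀, hP₀⟩ := exists_fullyNormalized_conj F hPS
        obtain ⟨-, hP₀a, hP₀r⟩ := saturated_fullyNormalized hS hF hP₀
        obtain ⟨χ₁, hχ₁, hχ₁im, -⟩ := exists_normalizer_map hS F P₀ P hP₀a hP₀r hPP₀
        obtain ⟨Q, hQ⟩ := hg.exists_image
        have hQS : Q ≤ S := hg.image_le hQ
        have hQcard : Nat.card Q = Nat.card P := hg.card_image hQ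
        have hQP₀ : F.IsConj Q P₀ := isConj_trans (isConj_symm (isConj_iff.2 ⟨g, hg, hQ⟩)) hPP₀
        obtain ⟨χ₂, hχ₂, hχ₂im, -⟩ := exists_normalizer_map hS F P₀ Q hP₀a hP₀r hQP₀
        have hχ₁E : IsMap E P χ₁ := (IH _ χ₁ (hnorm P hPS rfl) hχ₁).restrict (le_normalizerIn hPS)
        have hχ₂E : IsMap E Q χ₂ := (IH _ χ₂ (hnorm Q hQS hQcard) hχ₂).restrict (le_normalizerIn hQS)
        have hχ₁F : IsMap F P χ₁ := hχ₁.restrict (le_normalizerIn hPS)
        have hχ₂F : IsMap F Q χ₂ := hχ₂.restrict (le_normalizerIn hQS)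
        have hP₀card : Nat.card P₀ = Nat.card P := hχ₁F.card_image hχ₁im
        obtain ⟨ι₁, hι₁, hι₁χ, hχι₁, hι₁im⟩ := hχ₁F.inv hχ₁im
        obtain ⟨ι₂, hι₂, hι₂χ, hχι₂, hι₂im⟩ := hχ₂E.inv hχ₂im
        have hθ : IsMap F P₀ (fun x => χ₂ (g (ι₁ x))) :=
          (hι₁.comp hg (fun x hx => IsMap.mem_image hι₁im hx)).comp hχ₂F
            (fun x hx => IsMap.mem_image hQ (IsMap.mem_image hι₁im hx))
        have hθE : IsMap E P₀ (fun x => χ₂ (g (ι₁ x))) :=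
          aut_mem hS hE hF hEF H hP₀ (fun R g' hlt hg' => IH R g' (hP₀card ▸ hlt) hg') _ hθ
            (fun x hx => IsMap.mem_image hχ₂im (IsMap.mem_image hQ (IsMap.mem_image hι₁im hx)))
        refine ((hχ₁E.comp hθE (fun x hx => IsMap.mem_image hχ₁im hx)).comp hι₂
          (fun x hx => IsMap.mem_image hχ₂im (IsMap.mem_image hQ (IsMap.mem_image hι₁im
            (IsMap.mem_image hχ₁im hx))))).congr (fun x hx => ?_)
        show ι₂ (χ₂ (g (ι₁ (χ₁ x)))) = g x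
        rw [hι₁χ x hx, hι₂χ _ (IsMap.mem_image hQ hx)]
  exact fun P g hg => key _ P g rfl hg

end Cfsg.Agent.Lib.Helper90ThmB
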