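import Mathlib
import Cfsg.Prelude.Def_Transfer
import Cfsg.Agent.Lib.Helper3PGroup

set_option autoImplicit false

/-! The extension of an `𝔽₂`-space `V` by `𝔽₂` defined by a bilinear form `β`:
an extraspecial 2-group when the polar form of `β` is non-degenerate. -/

namespace Cfsg.Agent.Lib.Helper91ES

open Cfsg
open scoped commutatorElement

variable {V : Type*} [AddCommGroup V] [Module (ZMod 2) V]

/-- underlying type of the extension. -/
@[ext] structure Ext (β : V →ₗ[ZMod 2] V →ₗ[ZMod 2] ZMod 2) where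
  s : ZMod 2
  u : V

variable {β : V →ₗ[ZMod 2] V →ₗ[ZMod 2] ZMod 2}

instance : Group (Ext β) where
  mul a b := ⟨a.s + b.s + β a.u b.u, a.u + b.u⟩
  one := ⟨0, 0⟩
  inv a := ⟨-a.s + β a.u a.u, -a.u⟩
  mul_assoc a b c := by
    apply Ext.ext
    · show a.s + b.s + β a.u b.u + c.s + β (a.u + b.u) c.u
        = a.s + (b.s + c.s + β b.u c.u) + β a.u (b.u + c.u)
      simp only [map_add, LinearMap.add_apply]
      ring
    · show a.u + b.u + c.u = a.u + (b.u + c.u)
      exact add_assoc _ _ _
  one_mul a := by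
    apply Ext.ext
    · show 0 + a.s + β 0 a.u = a.s
      simp
    · show 0 + a.u = a.u
      simp
  mul_one a := by
    apply Ext.ext
    · show a.s + 0 + β a.u 0 = a.s
      simp
    · show a.u + 0 = a.u
      simp
  inv_mul_cancel a := by
    apply Ext.ext
    · show -a.s + β a.u a.u + a.s + β (-a.u) a.u = 0
      rw [map_neg, LinearMap.neg_apply]
      ring
    · show -a.u + a.u = 0
      simp

@[simp] theorem mul_s (a b : Ext β) : (a * b).s = a.s + b.s + β a.u b.u := rfl
@[simp] theorem mul_u (a b : Ext β) : (a * b).u = a.u + b.u := rfl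
@[simp] theorem one_s : (1 : Ext β).s = 0 := rfl
@[simp] theorem one_u : (1 : Ext β).u = 0 := rfl

theorem z2_add_self (x : ZMod 2) : x + x = 0 := by revert x; decide

theorem z2_eq_of_add (x y : ZMod 2) (h : x + y = 0) : x = y := by revert x y; decide

theorem v_add_self (u : V) : u + u = 0 := by
  have : (2 : ZMod 2) • u = 0 := by
    have h2 : (2 : ZMod 2) = 0 := by decide
    rw [h2, zero_smul]
  rwa [two_smul] at this

theorem sq_eq (a : Ext β) : a ^ 2 = ⟨β a.u a.u, 0⟩ := by
  rw [sq]
  apply Ext.ext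
  · simp [z2_add_self]
  · simp [v_add_self]

theorem commute_iff (a b : Ext β) : a * b = b * a ↔ β a.u b.u = β b.u a.u := by
  constructor
  · intro h
    have := congrArg Ext.s h
    simp only [mul_s] at this
    have h2 : a.s + b.s = b.s + a.s := add_comm _ _
    rw [h2] at this
    exact add_left_cancel this
  · intro h
    apply Ext.ext
    · simp only [mul_s, h]; ring
    · simp only [mul_u]; exact add_comm _ _

/-- the projection to `V`. -/
def proj (β : V →ₗ[ZMod 2] V →ₗ[ZMod 2] ZMod 2) : Ext β →* Multiplicative V where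
  toFun a := Multiplicative.ofAdd a.u
  map_one' := rfl
  map_mul' _ _ := rfl

theorem mem_ker_proj (a : Ext β) : a ∈ (proj β).ker ↔ a.u = 0 := Iff.rfl

/-- as a set, the extension is a product. -/
def equivProd (β : V →ₗ[ZMod 2] V →ₗ[ZMod 2] ZMod 2) : Ext β ≃ ZMod 2 × V where
  toFun a := (a.s, a.u)
  invFun p := ⟨p.1, p.2⟩
  left_inv _ := rfl
  right_inv _ := rfl

instance [Finite V] : Finite (Ext β) := Finite.of_equiv _ (equivProd β).symm

theorem card_ext : Nat.card (Ext β) = 2 * Nat.card V := by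
  rw [Nat.card_congr (equivProd β), Nat.card_prod]
  simp

/-- subgroup of the elements lying over a subspace. -/
def overS (β : V →ₗ[ZMod 2] V →ₗ[ZMod 2] ZMod 2) (U : Submodule (ZMod 2) V) : Subgroup (Ext β) where
  carrier := {a | a.u ∈ U}
  mul_mem' := fun ha hb => U.add_mem ha hb
  one_mem' := U.zero_mem
  inv_mem' := fun ha => U.neg_mem ha

theorem mem_overS (U : Submodule (ZMod 2) V) (a : Ext β) : a ∈ overS β U ↔ a.u ∈ U := Iff.rfl

def overEquiv (β : V →ₗ[ZMod 2] V →ₗ[ZMod 2] ZMod 2) (U : Submodule (ZMod 2) V) :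
    overS β U ≃ ZMod 2 × U where
  toFun a := (a.1.s, ⟨a.1.u, a.2⟩)
  invFun p := ⟨⟨p.1, p.2.1⟩, p.2.2⟩
  left_inv _ := rfl
  right_inv _ := rfl

theorem card_overS (U : Submodule (ZMod 2) V) : Nat.card (overS β U) = 2 * Nat.card U := by
  rw [Nat.card_congr (overEquiv β U), Nat.card_prod]
  simp

/-- the subspace covered by a subgroup. -/
def under (A : Subgroup (Ext β)) : Submodule (ZMod 2) V where
  carrier := {u | ∃ s, (⟨s, u⟩ : Ext β) ∈ A}
  add_mem' := by
    rintro u v ⟨s, hs⟩ ⟨t, ht⟩
    exact ⟨_, A.mul_mem hs ht⟩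
  zero_mem' := ⟨0, A.one_mem⟩
  smul_mem' := by
    rintro c u ⟨s, hs⟩
    have hc : c = 0 ∨ c = 1 := by revert c; decide
    rcases hc with rfl | rfl
    · rw [zero_smul]; exact ⟨0, A.one_mem⟩
    · rw [one_smul]; exact ⟨s, hs⟩

theorem le_overS_under (A : Subgroup (Ext β)) : A ≤ overS β (under A) := fun a ha => ⟨a.s, ha⟩

section nondeg

variable (hnd : ∀ u : V, (∀ v, β u v + β v u = 0) → u = 0)

include hnd in
theorem center_eq : Subgroup.center (Ext β) = (proj β).ker := by
  ext a
  rw [Subgroup.mem_center_iff, mem_ker_proj]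
  constructor
  · intro h
    apply hnd
    intro v
    have := (commute_iff (⟨0, v⟩ : Ext β) a).1 (h ⟨0, v⟩)
    simp only at this
    rw [this, z2_add_self]
  · intro h b
    rw [commute_iff, h]
    simp

theorem ker_eq_overS : (proj β).ker = overS β ⊥ := by
  ext a
  rw [mem_ker_proj, mem_overS, Submodule.mem_bot]

theorem card_ker : Nat.card (proj β).ker = 2 := by
  rw [ker_eq_overS, card_overS]
  simp

include hnd in
theorem commutator_eq [Nontrivial V] : commutator (Ext β) = (proj β).ker := by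
  apply le_antisymm
  · exact Abelianization.commutator_subset_ker (proj β)
  · obtain ⟨u, hu⟩ := exists_ne (0 : V)
    obtain ⟨v, hv⟩ : ∃ v, β u v + β v u ≠ 0 := by
      by_contra hcon
      push Not at hcon
      exact hu (hnd u hcon)
    have hv1 : β u v + β v u = 1 := by
      have key : ∀ x : ZMod 2, x ≠ 0 → x = 1 := by decide
      exact key _ hv
    have hz : (⟨1, 0⟩ : Ext β) ∈ commutator (Ext β) := by
      have h1 : ⁅(⟨0, u⟩ : Ext β), (⟨0, v⟩ : Ext β)⁆ ∈ commutator (Ext β) :=
        Subgroup.commutator_mem_commutator (Subgroup.mem_top _) (Subgroup.mem_top _)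
      have h2 : ⁅(⟨0, u⟩ : Ext β), (⟨0, v⟩ : Ext β)⁆ = ⟨1, 0⟩ := by
        rw [commutatorElement_def, mul_inv_eq_iff_eq_mul, mul_inv_eq_iff_eq_mul]
        apply Ext.ext
        · simp only [mul_s, mul_u, map_zero, LinearMap.zero_apply, zero_add, add_zero]
          have key : ∀ x y : ZMod 2, x + y = 1 → x = 1 + y := by decide
          exact key _ _ hv1
        · simp only [mul_u, zero_add]
          exact add_comm _ _
      rwa [h2] at h1
    intro a ha
    rw [mem_ker_proj] at ha
    have hs : a.s = 0 ∨ a.s = 1 := by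
      have key : ∀ x : ZMod 2, x = 0 ∨ x = 1 := by decide
      exact key _
    rcases hs with hs | hs
    · have : a = 1 := Ext.ext hs ha
      rw [this]; exact Subgroup.one_mem _
    · have : a = ⟨1, 0⟩ := Ext.ext hs ha
      rw [this]; exact hz

theorem isPGroup [Finite V] : IsPGroup 2 (Ext β) := by
  intro a
  refine ⟨2, ?_⟩
  have h4 : a ^ (2 ^ 2) = (a ^ 2) ^ 2 := by rw [← pow_mul]; norm_num
  rw [h4, sq_eq, sq_eq]
  apply Ext.ext <;> simp

include hnd in
theorem isExtraspecial [Finite V] [Nontrivial V] : IsExtraspecial 2 (Ext β) := by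
  have : Fact (Nat.Prime 2) := ⟨Nat.prime_two⟩
  have hc := center_eq hnd
  have hcomm := commutator_eq hnd
  refine ⟨⟨isPGroup, ?_, by rw [hc, hcomm]⟩, by rw [hc]; exact card_ker⟩
  apply le_antisymm
  · apply Cfsg.Agent.Lib.Helper3PGroup.frattini_le_of_elementary (p := 2)
    · rw [hc, hcomm]
    · intro x
      rw [hc, mem_ker_proj, sq_eq]
  · rw [hc, ← hcomm]
    exact Cfsg.Agent.Lib.Helper3PGroup.commutator_le_frattini isPGroup

end nondeg

section elem

theorem singular_of_elem {A : Subgroup (Ext β)} (hA : IsElementaryAbelian 2 A) :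
    ∀ u ∈ under A, β u u = 0 := by
  rintro u ⟨s, hs⟩
  have := hA.2 _ hs
  rw [sq_eq] at this
  exact congrArg Ext.s this

theorem elem_overS {U : Submodule (ZMod 2) V} (hU : ∀ u ∈ U, β u u = 0) :
    IsElementaryAbelian 2 (overS β U) := by
  constructor
  · constructor
    constructor
    rintro ⟨a, ha⟩ ⟨b, hb⟩
    apply Subtype.ext
    show a * b = b * a
    rw [commute_iff]
    have h1 := hU _ (U.add_mem ha hb)
    simp only [map_add, LinearMap.add_apply, hU _ ha, hU _ hb, zero_add, add_zero] at h1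
    exact (z2_eq_of_add _ _ h1).symm
  · intro a ha
    rw [sq_eq, hU _ ha]
    rfl

/-- the 2-rank of the extension is one more than the Witt index. -/
theorem sSup_rank [Finite V] (w : ℕ)
    (hex : ∃ U : Submodule (ZMod 2) V, (∀ u ∈ U, β u u = 0) ∧ Module.finrank (ZMod 2) U = w)
    (hle : ∀ U : Submodule (ZMod 2) V, (∀ u ∈ U, β u u = 0) → Module.finrank (ZMod 2) U ≤ w) :
    sSup {k : ℕ | ∃ A : Subgroup (Ext β), IsElementaryAbelian 2 A ∧ Nat.card A = 2 ^ k} = w + 1 := by
  have hcardU : ∀ U : Submodule (ZMod 2) V, Nat.card U = 2 ^ Module.finrank (ZMod 2) U := by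
    intro U
    have : Module.Finite (ZMod 2) V := Module.Finite.of_finite
    rw [Module.natCard_eq_pow_finrank (K := ZMod 2) (V := U)]
    simp
  apply IsGreatest.csSup_eq
  constructor
  · obtain ⟨U, hU, hw⟩ := hex
    exact ⟨overS β U, elem_overS hU, by rw [card_overS, hcardU, hw, pow_succ, mul_comm]⟩
  · rintro k ⟨A, hA, hk⟩
    have h1 : Nat.card A ≤ Nat.card (overS β (under A)) :=
      Subgroup.card_le_of_le (le_overS_under A)
    rw [hk, card_overS, hcardU] at h1
    have h2 := hle _ (singular_of_elem hA)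
    have h3 : 2 * 2 ^ Module.finrank (ZMod 2) (under A) ≤ 2 ^ (w + 1) := by
      rw [pow_succ, mul_comm]
      exact Nat.mul_le_mul_right 2 (Nat.pow_le_pow_right (by norm_num) h2)
    exact (Nat.pow_le_pow_iff_right (by norm_num)).1 (h1.trans h3)

end elem

end Cfsg.Agent.Lib.Helper91ES
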