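import Mathlib
import Cfsg.Prelude.Def_Transfer
import Cfsg.Prelude.Def_CaseTheorems
import Cfsg.Agent.Lib.Helper91ES
import Cfsg.Agent.Lib.Helper3Extraspecial
import Cfsg.Agent.Lib.Helper42Quad
import Cfsg.Agent.Lib.Helper7QForms
import Cfsg.Agent.S5396
import Cfsg.Agent.S2616
import Cfsg.Agent.S2562

set_option autoImplicit false

namespace Cfsg.Agent.Lib.Helper91ES2

/-- a finite group of exponent two is an `𝔽₂`-coordinate space. -/
theorem exists_equiv_of_exp_two (A : Type*) [Group A] [Finite A] (h : ∀ a : A, a * a = 1) :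
    ∃ k : ℕ, Nonempty (A ≃* Multiplicative (Fin k → ZMod 2)) := by
  have hcomm : ∀ a b : A, a * b = b * a := by
    intro a b
    have h1 := h (a * b)
    have ha : a⁻¹ = a := inv_eq_of_mul_eq_one_left (h a)
    have hb : b⁻¹ = b := inv_eq_of_mul_eq_one_left (h b)
    have h2 : a * b = (a * b)⁻¹ := (inv_eq_of_mul_eq_one_left h1).symm
    rw [h2, mul_inv_rev, ha, hb]
  let _ : CommGroup A := { (inferInstance : Group A) with mul_comm := hcomm }
  let _ : Module (ZMod 2) (Additive A) := AddCommGroup.zmodModule (n := 2) (by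
    intro x
    rw [two_nsmul]
    exact h (Additive.toMul x))
  have : Module.Finite (ZMod 2) (Additive A) := Module.Finite.of_finite
  let b := Module.finBasis (ZMod 2) (Additive A)
  exact ⟨_, ⟨AddEquiv.toMultiplicativeRight b.equivFun.toAddEquiv⟩⟩

/-- separating character of a group whose squares lie in a normal subgroup `N`. -/
theorem exists_char {A : Type*} [Group A] [Finite A] (N : Subgroup A) [N.Normal]
    (h : ∀ a : A, a * a ∈ N) {ζ : A} (hζ : ζ ∉ N) :
    ∃ χ : A →* Multiplicative (ZMod 2), (∀ a ∈ N, χ a = 1) ∧ χ ζ ≠ 1 := by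
  obtain ⟨k, ⟨e⟩⟩ := exists_equiv_of_exp_two (A ⧸ N) (by
    intro a
    induction a using QuotientGroup.induction_on with
    | H a =>
      rw [← QuotientGroup.mk_mul, QuotientGroup.eq_one_iff]
      exact h a)
  have hne : e (ζ : A ⧸ N) ≠ 1 := by
    intro h1
    rw [map_eq_one_iff e e.injective, QuotientGroup.eq_one_iff] at h1
    exact hζ h1
  obtain ⟨i, hi⟩ : ∃ i, Multiplicative.toAdd (e (ζ : A ⧸ N)) i ≠ 0 := by
    by_contra hcon
    push Not at hcon
    apply hne
    have : Multiplicative.toAdd (e (ζ : A ⧸ N)) = 0 := funext hcon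
    exact this
  let ev : Multiplicative (Fin k → ZMod 2) →* Multiplicative (ZMod 2) :=
    AddMonoidHom.toMultiplicative (Pi.evalAddMonoidHom (fun _ => ZMod 2) i)
  refine ⟨(ev.comp e.toMonoidHom).comp (QuotientGroup.mk' N), ?_, ?_⟩
  · intro a ha
    have : (QuotientGroup.mk' N) a = 1 := (QuotientGroup.eq_one_iff a).2 ha
    simp only [MonoidHom.comp_apply, this, map_one]
  · intro h1
    exact hi h1

theorem mz2_cases (x : Multiplicative (ZMod 2)) : x = 1 ∨ x = Multiplicative.ofAdd 1 := by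
  have key : ∀ y : ZMod 2, y = 0 ∨ y = 1 := by decide
  rcases key (Multiplicative.toAdd x) with h | h
  · left; exact h
  · right; exact h

theorem mz2_mul {x y : Multiplicative (ZMod 2)} (hx : x ≠ 1) (hy : y ≠ 1) : x * y = 1 := by
  rcases mz2_cases x with rfl | rfl
  · exact absurd rfl hx
  · rcases mz2_cases y with rfl | rfl
    · exact absurd rfl hy
    · rfl

/-- two central extensions of an exponent-two group by a group of order two with the same
squaring map are isomorphic. -/
theorem iso_of_fibre {E E' W : Type*} [Group E] [Group E'] [Group W] [Finite E] [Finite E']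
    (π : E →* W) (π' : E' →* W) (hπ : Function.Surjective π) (hπ' : Function.Surjective π')
    (z : E) (z' : E') (hz : z ≠ 1) (hz' : z' ≠ 1)
    (hker : ∀ x, π x = 1 ↔ x = 1 ∨ x = z) (hker' : ∀ x, π' x = 1 ↔ x = 1 ∨ x = z')
    (hsq : ∀ x x', π x = π' x' → (x * x = 1 ∧ x' * x' = 1) ∨ (x * x = z ∧ x' * x' = z')) :
    Nonempty (E ≃* E') := by
  have hπz : π z = 1 := (hker z).2 (Or.inr rfl)
  have hπz' : π' z' = 1 := (hker' z').2 (Or.inr rfl)
  have hzz : z * z = 1 := by
    rcases hsq z 1 (by rw [hπz, map_one]) with h | h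
    · exact h.1
    · exact absurd h.2.symm (by simpa using hz')
  have hzz' : z' * z' = 1 := by
    rcases hsq 1 z' (by rw [hπz', map_one]) with h | h
    · exact h.2
    · exact absurd h.1.symm (by simpa using hz)
  have hcen : ∀ g : E, g * z * g⁻¹ = z := by
    intro g
    have h1 : π (g * z * g⁻¹) = 1 := by simp [hπz]
    rcases (hker _).1 h1 with h | h
    · exfalso; apply hz
      have : g * z = g := by rwa [mul_inv_eq_one] at h
      simpa using this
    · exact h
  have hcen' : ∀ g : E', g * z' * g⁻¹ = z' := by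
    intro g
    have h1 : π' (g * z' * g⁻¹) = 1 := by simp [hπz']
    rcases (hker' _).1 h1 with h | h
    · exfalso; apply hz'
      have : g * z' = g := by rwa [mul_inv_eq_one] at h
      simpa using this
    · exact h
  -- the fibre product
  let P : Subgroup (E × E') := MonoidHom.eqLocus (π.comp (MonoidHom.fst E E'))
    (π'.comp (MonoidHom.snd E E'))
  have hP : ∀ p : E × E', p ∈ P ↔ π p.1 = π' p.2 := fun p => Iff.rfl
  let δ : P := ⟨(z, z'), by rw [hP, hπz, hπz']⟩
  let ζ : P := ⟨(z, 1), by rw [hP, hπz, map_one]⟩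
  let N : Subgroup P := Subgroup.zpowers δ
  have hδδ : δ * δ = 1 := Subtype.ext (Prod.ext hzz hzz')
  have hN : ∀ p : P, p ∈ N ↔ p = 1 ∨ p = δ := by
    intro p
    constructor
    · rintro ⟨i, rfl⟩
      rcases Int.even_or_odd' i with ⟨j, rfl | rfl⟩
      · left
        show δ ^ (2 * j) = 1
        rw [zpow_mul, zpow_two, hδδ, one_zpow]
      · right
        show δ ^ (2 * j + 1) = δ
        rw [zpow_add, zpow_mul, zpow_two, hδδ, one_zpow, one_mul, zpow_one]
    · rintro (rfl | rfl)
      · exact Subgroup.one_mem _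
      · exact Subgroup.mem_zpowers _
  have hNn : N.Normal := by
    constructor
    intro n hn g
    rcases (hN n).1 hn with rfl | rfl
    · simp
    · have : g * δ * g⁻¹ = δ := Subtype.ext (Prod.ext (hcen g.1.1) (hcen' g.1.2))
      rw [this]; exact hn
  have hsqN : ∀ p : P, p * p ∈ N := by
    intro p
    rw [hN]
    rcases hsq p.1.1 p.1.2 p.2 with h | h
    · left; exact Subtype.ext (Prod.ext h.1 h.2)
    · right; exact Subtype.ext (Prod.ext h.1 h.2)
  have hζN : ζ ∉ N := by
    rw [hN]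
    rintro (h | h)
    · exact hz (congrArg (fun p : P => p.1.1) h)
    · exact hz' (congrArg (fun p : P => p.1.2) h).symm
  obtain ⟨χ, hχN, hχζ⟩ := exists_char N hsqN hζN
  have hχδ : χ δ = 1 := hχN δ ((hN δ).2 (Or.inr rfl))
  let ζ' : P := ⟨(1, z'), by rw [hP, hπz', map_one]⟩
  have hζ' : ζ' = ζ * δ := Subtype.ext (Prod.ext hzz.symm (one_mul _).symm)
  have hχζ' : χ ζ' ≠ 1 := by rw [hζ', map_mul, hχδ, mul_one]; exact hχζ
  let C : Subgroup P := χ.ker
  let p1 : C →* E := ((MonoidHom.fst E E').comp P.subtype).comp C.subtype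
  let p2 : C →* E' := ((MonoidHom.snd E E').comp P.subtype).comp C.subtype
  have b1 : Function.Bijective p1 := by
    constructor
    · rw [injective_iff_map_eq_one]
      intro c hc
      have hc1 : c.1.1.1 = 1 := hc
      have h2 : π' c.1.1.2 = 1 := by
        have := c.1.2
        rw [hP, hc1, map_one] at this
        exact this.symm
      rcases (hker' _).1 h2 with h | h
      · exact Subtype.ext (Subtype.ext (Prod.ext hc1 h))
      · exfalso
        have : c.1 = ζ' := Subtype.ext (Prod.ext hc1 h)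
        apply hχζ'
        rw [← this]
        exact c.2
    · intro x
      obtain ⟨x', hx'⟩ := hπ' (π x)
      let p : P := ⟨(x, x'), by rw [hP]; exact hx'.symm⟩
      by_cases hp : χ p = 1
      · exact ⟨⟨p, hp⟩, rfl⟩
      · refine ⟨⟨p * ζ', ?_⟩, ?_⟩
        · show χ (p * ζ') = 1
          rw [map_mul]; exact mz2_mul hp hχζ'
        · show x * 1 = x
          exact mul_one x
  have b2 : Function.Bijective p2 := by
    constructor
    · rw [injective_iff_map_eq_one]
      intro c hc
      have hc1 : c.1.1.2 = 1 := hc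
      have h2 : π c.1.1.1 = 1 := by
        have := c.1.2
        rw [hP, hc1, map_one] at this
        exact this
      rcases (hker _).1 h2 with h | h
      · exact Subtype.ext (Subtype.ext (Prod.ext h hc1))
      · exfalso
        have : c.1 = ζ := Subtype.ext (Prod.ext h hc1)
        apply hχζ
        rw [← this]
        exact c.2
    · intro x'
      obtain ⟨x, hx⟩ := hπ (π' x')
      let p : P := ⟨(x, x'), by rw [hP]; exact hx⟩
      by_cases hp : χ p = 1
      · exact ⟨⟨p, hp⟩, rfl⟩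
      · refine ⟨⟨p * ζ, ?_⟩, ?_⟩
        · show χ (p * ζ) = 1
          rw [map_mul]; exact mz2_mul hp hχζ
        · show x' * 1 = x'
          exact mul_one x'
  exact ⟨(MulEquiv.ofBijective p1 b1).symm.trans (MulEquiv.ofBijective p2 b2)⟩

section form

open scoped commutatorElement
open Cfsg.Agent.Lib.Helper91ES

/-- elementwise description of an extraspecial 2-group with central involution `z`. -/
structure Pkg (E : Type*) [Group E] (z : E) : Prop where
  ne : z ≠ 1
  sq : z * z = 1
  cen : ∀ x : E, x ∈ Subgroup.center E ↔ x = 1 ∨ x = z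
  sqm : ∀ x : E, x * x = 1 ∨ x * x = z
  com : ∀ x y : E, ⁅x, y⁆ = 1 ∨ ⁅x, y⁆ = z

theorem exists_pkg {E : Type*} [Group E] [Finite E] (hE : Cfsg.IsExtraspecial 2 E) :
    ∃ z : E, Pkg E z := by
  have : Fact (Nat.Prime 2) := ⟨Nat.prime_two⟩
  obtain ⟨z, hz, huniq⟩ := (Nat.card_eq_two_iff' (1 : Subgroup.center E)).1 hE.2
  have hcen : ∀ x : E, x ∈ Subgroup.center E ↔ x = 1 ∨ x = (z : E) := by
    intro x
    constructor
    · intro hx
      by_cases h1 : x = 1
      · left; exact h1
      · right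
        have := huniq ⟨x, hx⟩ (fun h => h1 (congrArg Subtype.val h))
        exact congrArg Subtype.val this
    · rintro (rfl | rfl)
      · exact Subgroup.one_mem _
      · exact z.2
  have hz1 : (z : E) ≠ 1 := fun h => hz (Subtype.ext h)
  refine ⟨z, hz1, ?_, hcen, ?_, ?_⟩
  · rcases (hcen _).1 (Subgroup.mul_mem _ z.2 z.2) with h | h
    · exact h
    · exfalso; apply hz1
      simpa using h
  · intro x
    have h1 : x ^ 2 ∈ frattini E := Cfsg.Agent.Lib.Helper3PGroup.pow_mem_frattini hE.1.1 x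
    rw [hE.1.2.1, sq] at h1
    exact (hcen _).1 h1
  · intro x y
    exact (hcen _).1 (Cfsg.Agent.Lib.Helper3Extraspecial.comm_central hE x y)

open Classical in
/-- indicator of non-triviality, with values in `𝔽₂`. -/
noncomputable def eps {E : Type*} [Group E] (g : E) : ZMod 2 := if g = 1 then 0 else 1

theorem eps_one {E : Type*} [Group E] : eps (1 : E) = 0 := if_pos rfl

theorem eps_of_ne {E : Type*} [Group E] {g : E} (h : g ≠ 1) : eps g = 1 := if_neg h

theorem eps_eq_zero {E : Type*} [Group E] {g : E} (h : eps g = 0) : g = 1 := by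
  by_contra hg
  rw [eps_of_ne hg] at h
  exact absurd h (by decide)

variable {E : Type*} [Group E] {z : E}

theorem Pkg.eps_mul (h : Pkg E z) {a b : E} (ha : a = 1 ∨ a = z) (hb : b = 1 ∨ b = z) :
    eps (a * b) = eps a + eps b := by
  rcases ha with rfl | rfl <;> rcases hb with rfl | rfl
  · simp [eps_one]
  · simp [eps_one]
  · simp [eps_one]
  · rw [h.sq, eps_one, eps_of_ne h.ne]; decide

theorem Pkg.z_comm (h : Pkg E z) (g : E) : g * z = z * g :=
  (Subgroup.mem_center_iff.1 ((h.cen z).2 (Or.inr rfl))) g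

theorem Pkg.c_comm (h : Pkg E z) {c : E} (hc : c = 1 ∨ c = z) (g : E) : g * c = c * g := by
  rcases hc with rfl | rfl
  · simp
  · exact h.z_comm g

theorem Pkg.c_sq (h : Pkg E z) {c : E} (hc : c = 1 ∨ c = z) : c * c = 1 := by
  rcases hc with rfl | rfl
  · simp
  · exact h.sq

theorem Pkg.comm_mul (h : Pkg E z) (x x' y : E) : ⁅x * x', y⁆ = ⁅x, y⁆ * ⁅x', y⁆ := by
  have hc := h.c_comm (h.com x' y)
  have e : ⁅x * x', y⁆ = x * ⁅x', y⁆ * y * x⁻¹ * y⁻¹ := by
    simp only [commutatorElement_def]; group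
  rw [e, hc x, hc ⁅x, y⁆, commutatorElement_def x y]
  simp only [mul_assoc]

theorem Pkg.comm_symm (h : Pkg E z) (x y : E) : ⁅x, y⁆ = ⁅y, x⁆ := by
  have h1 : ⁅x, y⁆ = ⁅y, x⁆⁻¹ := (commutatorElement_inv y x).symm
  rw [h1]
  exact inv_eq_of_mul_eq_one_left (h.c_sq (h.com y x))

theorem Pkg.sq_mul (h : Pkg E z) (x y : E) : x * y * (x * y) = (x * x) * (y * y) * ⁅x, y⁆ := by
  rw [h.comm_symm x y]
  have hc := h.c_comm (h.com y x)
  have e : x * y * (x * y) = x * (⁅y, x⁆ * x * y) * y := by
    rw [commutatorElement_def]; group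
  rw [e]
  generalize ⁅y, x⁆ = c at hc
  calc x * (c * x * y) * y = (x * c) * (x * (y * y)) := by simp only [mul_assoc]
    _ = (c * x) * (x * (y * y)) := by rw [hc x]
    _ = c * (x * x * (y * y)) := by simp only [mul_assoc]
    _ = x * x * (y * y) * c := (hc _).symm

variable {V : Type*} [AddCommGroup V] [Module (ZMod 2) V]

theorem Pkg.exists_form (h : Pkg E z) (π : E →* Multiplicative V) (hπ : Function.Surjective π)
    (hker : ∀ x, π x = 1 ↔ x = 1 ∨ x = z) :
    ∃ Q : QuadraticForm (ZMod 2) V,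
      (∀ x, Q (Multiplicative.toAdd (π x)) = eps (x * x)) ∧
      (∀ x y, QuadraticMap.polar Q (Multiplicative.toAdd (π x)) (Multiplicative.toAdd (π y))
        = eps ⁅x, y⁆) := by
  have key : ∀ x y, π x = π y → ∃ c, (c = 1 ∨ c = z) ∧ y = x * c := by
    intro x y hxy
    refine ⟨x⁻¹ * y, (hker _).1 (by rw [map_mul, map_inv, hxy, inv_mul_cancel]), by group⟩
  have sq_indep : ∀ x y, π x = π y → x * x = y * y := by
    intro x y hxy
    obtain ⟨c, hc, rfl⟩ := key x y hxy
    have e : x * c * (x * c) = x * (c * x) * c := by group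
    rw [e, ← h.c_comm hc x, mul_assoc, mul_assoc, h.c_sq hc, mul_one]
  have comm_indep : ∀ x x' y y', π x = π x' → π y = π y' → ⁅x, y⁆ = ⁅x', y'⁆ := by
    intro x x' y y' hx hy
    obtain ⟨c, hc, rfl⟩ := key x x' hx
    obtain ⟨d, hd, rfl⟩ := key y y' hy
    have e1 : ∀ w : E, ⁅c, w⁆ = 1 := fun w => by
      rw [commutatorElement_eq_one_iff_mul_comm]; exact (h.c_comm hc w).symm
    have e2 : ∀ w : E, ⁅d, w⁆ = 1 := fun w => by
      rw [commutatorElement_eq_one_iff_mul_comm]; exact (h.c_comm hd w).symm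
    rw [h.comm_mul, e1, mul_one, h.comm_symm x (y * d), h.comm_mul, e2, mul_one, h.comm_symm]
  let σ : V → E := fun u => Function.surjInv hπ (Multiplicative.ofAdd u)
  have hσ : ∀ u, π (σ u) = Multiplicative.ofAdd u := fun u => Function.surjInv_eq hπ _
  let qf : V → ZMod 2 := fun u => eps (σ u * σ u)
  let Bf : V → V → ZMod 2 := fun u v => eps ⁅σ u, σ v⁆
  have hq : ∀ x, qf (Multiplicative.toAdd (π x)) = eps (x * x) := by
    intro x
    have e : π (σ (Multiplicative.toAdd (π x))) = π x := hσ _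
    show eps (σ (Multiplicative.toAdd (π x)) * σ (Multiplicative.toAdd (π x))) = _
    rw [sq_indep _ _ e]
  have hB : ∀ x y, Bf (Multiplicative.toAdd (π x)) (Multiplicative.toAdd (π y)) = eps ⁅x, y⁆ := by
    intro x y
    have e : π (σ (Multiplicative.toAdd (π x))) = π x := hσ _
    have e' : π (σ (Multiplicative.toAdd (π y))) = π y := hσ _
    show eps ⁅σ (Multiplicative.toAdd (π x)), σ (Multiplicative.toAdd (π y))⁆ = _
    rw [comm_indep _ _ _ _ e e']
  have hu : ∀ u : V, u = Multiplicative.toAdd (π (σ u)) := fun u => by rw [hσ]; rfl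
  have hadd : ∀ x y, Multiplicative.toAdd (π x) + Multiplicative.toAdd (π y)
      = Multiplicative.toAdd (π (x * y)) := fun x y => by rw [map_mul]; rfl
  have Badd : ∀ u u' v, Bf (u + u') v = Bf u v + Bf u' v := by
    intro u u' v
    rw [hu u, hu u', hu v, hadd, hB, hB, hB, h.comm_mul, h.eps_mul (h.com _ _) (h.com _ _)]
  have Bsymm : ∀ u v, Bf u v = Bf v u := by
    intro u v
    rw [hu u, hu v, hB, hB, h.comm_symm]
  have Bzero : ∀ v, Bf 0 v = 0 := by
    intro v
    have := Badd 0 0 v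
    rw [add_zero] at this
    have key2 : ∀ a : ZMod 2, a = a + a → a = 0 := by decide
    exact key2 _ this
  have Bsmul : ∀ (c : ZMod 2) u v, Bf (c • u) v = c • Bf u v := by
    intro c u v
    have hc : c = 0 ∨ c = 1 := by revert c; decide
    rcases hc with rfl | rfl
    · rw [zero_smul, zero_smul, Bzero]
    · rw [one_smul, one_smul]
  let B : LinearMap.BilinMap (ZMod 2) V (ZMod 2) := LinearMap.mk₂ (ZMod 2) Bf Badd Bsmul
    (fun u v v' => by rw [Bsymm u, Badd, Bsymm v, Bsymm v'])
    (fun c u v => by rw [Bsymm u, Bsmul, Bsymm v])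
  have qadd : ∀ u v, qf (u + v) = qf u + qf v + Bf u v := by
    intro u v
    rw [hu u, hu v, hadd, hq, hq, hq, hB, h.sq_mul]
    have h1 : (σ u * σ u) * (σ v * σ v) = 1 ∨ (σ u * σ u) * (σ v * σ v) = z := by
      rcases h.sqm (σ u) with e | e <;> rcases h.sqm (σ v) with e' | e' <;> rw [e, e']
      · left; simp
      · right; simp
      · right; simp
      · left; exact h.sq
    rw [h.eps_mul h1 (h.com _ _), h.eps_mul (h.sqm _) (h.sqm _)]
  have qzero : qf 0 = 0 := by
    have := hq 1
    rw [map_one, mul_one, eps_one] at this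
    exact this
  let Q : QuadraticForm (ZMod 2) V :=
    { toFun := qf
      toFun_smul := by
        intro c u
        have hc : c = 0 ∨ c = 1 := by revert c; decide
        rcases hc with rfl | rfl
        · rw [zero_smul, qzero]; simp
        · simp
      exists_companion' := ⟨B, fun u v => qadd u v⟩ }
  refine ⟨Q, hq, ?_⟩
  intro x y
  rw [← hB]
  show qf (_ + _) - qf _ - qf _ = _
  rw [qadd]
  ring

theorem Pkg.iso_ext [Finite E] [Finite V] (h : Pkg E z) (π : E →* Multiplicative V)
    (hπ : Function.Surjective π) (hker : ∀ x, π x = 1 ↔ x = 1 ∨ x = z)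
    (β : V →ₗ[ZMod 2] V →ₗ[ZMod 2] ZMod 2)
    (hβ : ∀ x, β (Multiplicative.toAdd (π x)) (Multiplicative.toAdd (π x)) = eps (x * x)) :
    Nonempty (E ≃* Ext β) := by
  refine iso_of_fibre π (proj β) hπ ?_ z ⟨1, 0⟩ h.ne ?_ hker ?_ ?_
  · intro w
    exact ⟨⟨0, Multiplicative.toAdd w⟩, rfl⟩
  · intro e
    have : (1 : ZMod 2) = 0 := congrArg Ext.s e
    exact absurd this (by decide)
  · intro a
    have h1 : proj β a = 1 ↔ a.u = 0 := Iff.rfl
    rw [h1]
    constructor
    · intro hu
      have hs : a.s = 0 ∨ a.s = 1 := by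
        have key : ∀ x : ZMod 2, x = 0 ∨ x = 1 := by decide
        exact key _
      rcases hs with hs | hs
      · left; exact Ext.ext hs hu
      · right; exact Ext.ext hs hu
    · rintro (rfl | rfl) <;> rfl
  · intro x a hxa
    have hu : a.u = Multiplicative.toAdd (π x) := by rw [hxa]; rfl
    have hsq : a * a = ⟨eps (x * x), 0⟩ := by
      rw [← pow_two, sq_eq, hu, hβ]
    rcases h.sqm x with e | e
    · left
      refine ⟨e, ?_⟩
      rw [hsq, e, eps_one]; rfl
    · right
      refine ⟨e, ?_⟩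
      rw [hsq, e, eps_of_ne h.ne]

end form

section classify

open Cfsg.Agent.Lib.Helper91ES Cfsg.Agent.S5396

theorem z2_key1 : ∀ x : ZMod 2, (0 : ZMod 2) ^ 2 + 0 + x ≠ 0 → x = 1 := by decide
theorem z2_two_smul : ∀ a : ZMod 2, 2 • a = 0 := by decide
theorem z2_one_add_one : (0 : ZMod 2) = 1 + 1 := by decide

theorem form_eq {ι : Type*} [Fintype ι] [DecidableEq ι] {V : Type*} [AddCommGroup V]
    [Module (ZMod 2) V] (b : Module.Basis ι (ZMod 2) V) (Q : QuadraticForm (ZMod 2) V)
    (β : (ι → ZMod 2) →ₗ[ZMod 2] (ι → ZMod 2) →ₗ[ZMod 2] ZMod 2)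
    (h1 : ∀ i, Q (b i) = β (Pi.single i 1) (Pi.single i 1))
    (h2 : ∀ i j, QuadraticMap.polar Q (b i) (b j)
      = β (Pi.single i 1) (Pi.single j 1) + β (Pi.single j 1) (Pi.single i 1)) :
    ∀ v, Q v = β (b.equivFun v) (b.equivFun v) := by
  let Q' : QuadraticForm (ZMod 2) V :=
    (LinearMap.BilinMap.toQuadraticMap β).comp b.equivFun.toLinearMap
  have hQ' : ∀ v, Q' v = β (b.equivFun v) (b.equivFun v) := fun v => rfl
  have hb : ∀ i, b.equivFun (b i) = Pi.single i 1 := by
    intro i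
    funext j
    rw [b.equivFun_self, Pi.single_apply]
    simp only [eq_comm]
  have : Q = Q' := by
    apply Cfsg.Agent.Lib.Helper42Quad.ext_of_basis b
    · intro i
      rw [h1, hQ', hb]
    · intro i j
      rw [h2]
      unfold QuadraticMap.polar
      rw [hQ', hQ', hQ', map_add, hb, hb]
      simp only [map_add, LinearMap.add_apply]
      ring
  intro v
  rw [this, hQ']

theorem classify {E : Type*} [Group E] [Finite E] (hE : Cfsg.IsExtraspecial 2 E) :
    ∃ m, 1 ≤ m ∧ Nat.card E = 2 ^ (2 * m + 1) ∧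
      (Nonempty (E ≃* Ext (bPlus m)) ∨ Nonempty (E ≃* Ext (bMinus (m - 1)))) := by
  have : Fact (Nat.Prime 2) := ⟨Nat.prime_two⟩
  obtain ⟨z, h⟩ := exists_pkg hE
  obtain ⟨m, hm, hcard⟩ :=
    Cfsg.Agent.Lib.Helper3Extraspecial.card_extraspecial (p := 2) (Nat.card E) E le_rfl hE
  refine ⟨m, hm, hcard, ?_⟩
  obtain ⟨k, ⟨e⟩⟩ := exists_equiv_of_exp_two (E ⧸ Subgroup.center E) (by
    intro a
    induction a using QuotientGroup.induction_on with
    | H a =>
      rw [← QuotientGroup.mk_mul, QuotientGroup.eq_one_iff, h.cen]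
      exact h.sqm a)
  let π : E →* Multiplicative (Fin k → ZMod 2) :=
    e.toMonoidHom.comp (QuotientGroup.mk' (Subgroup.center E))
  have hπ : Function.Surjective π := e.surjective.comp (QuotientGroup.mk'_surjective _)
  have hker : ∀ x, π x = 1 ↔ x = 1 ∨ x = z := by
    intro x
    rw [← h.cen]
    show e (x : E ⧸ Subgroup.center E) = 1 ↔ _
    rw [map_eq_one_iff e e.injective, QuotientGroup.eq_one_iff]
  have hk : k = 2 * m := by
    have h1 := Subgroup.card_eq_card_quotient_mul_card_subgroup (Subgroup.center E)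
    rw [hE.2, hcard, Nat.card_congr e.toEquiv] at h1
    have h2 : Nat.card (Multiplicative (Fin k → ZMod 2)) = 2 ^ k := by
      show Nat.card (Fin k → ZMod 2) = 2 ^ k
      rw [Nat.card_eq_fintype_card, Fintype.card_fun]
      simp
    rw [h2, pow_succ] at h1
    have h3 : 2 ^ (2 * m) = 2 ^ k := Nat.eq_of_mul_eq_mul_right (by norm_num) h1
    exact (Nat.pow_right_injective le_rfl h3).symm
  subst hk
  obtain ⟨Q, hQ1, hQ2⟩ := h.exists_form π hπ hker
  have hnd : (QuadraticMap.polarBilin Q).Nondegenerate := by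
    rw [Cfsg.Agent.Lib.Helper42Quad.nondeg_iff]
    intro u hu
    obtain ⟨x, hx⟩ := hπ (Multiplicative.ofAdd u)
    have hxu : u = Multiplicative.toAdd (π x) := by rw [hx]; rfl
    have hcen : x ∈ Subgroup.center E := by
      rw [Subgroup.mem_center_iff]
      intro y
      have h1 := hu (Multiplicative.toAdd (π y))
      rw [hxu, hQ2] at h1
      have h2 := eps_eq_zero h1
      rw [commutatorElement_eq_one_iff_mul_comm] at h2
      exact h2.symm
    rw [h.cen, ← hker] at hcen
    rw [hxu, hcen]; rfl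
  -- transport along a basis
  have transport : ∀ {ι : Type} [Fintype ι] [DecidableEq ι]
      (b : Module.Basis ι (ZMod 2) (Fin (2 * m) → ZMod 2))
      (β : (ι → ZMod 2) →ₗ[ZMod 2] (ι → ZMod 2) →ₗ[ZMod 2] ZMod 2),
      (∀ v, Q v = β (b.equivFun v) (b.equivFun v)) → Nonempty (E ≃* Ext β) := by
    intro ι _ _ b β hβ
    let T : Multiplicative (Fin (2 * m) → ZMod 2) ≃* Multiplicative (ι → ZMod 2) :=
      AddEquiv.toMultiplicative b.equivFun.toAddEquiv
    refine h.iso_ext (T.toMonoidHom.comp π) (T.surjective.comp hπ) ?_ β ?_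
    · intro x
      rw [← hker]
      show T (π x) = 1 ↔ _
      rw [map_eq_one_iff T T.injective]
    · intro x
      rw [← hQ1, hβ]
      rfl
  rcases Cfsg.Agent.S2616.result hm (by simp) Q hnd with
    ⟨b, h1, h2, h3⟩ | ⟨b, ζ, hζ, h1, h2, h3, h4, h5, h6, h7⟩
  · left
    apply transport b
    apply form_eq
    · rintro (i | i)
      · rw [(h1 i).1]; simp [bPlus_apply, Pi.single_apply]
      · rw [(h1 i).2]; simp [bPlus_apply, Pi.single_apply]
    · rintro (i | i) (j | j)
      · rw [(h3 i j).1]; simp [bPlus_apply, Pi.single_apply]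
      · rw [h2 i j]; simp [bPlus_apply, Pi.single_apply, eq_comm]
      · rw [QuadraticMap.polar_comm, h2 j i]; simp [bPlus_apply, Pi.single_apply, eq_comm]
      · rw [(h3 i j).2]; simp [bPlus_apply, Pi.single_apply]
  · right
    have hζ1 : ζ = 1 := by
      have := hζ 0
      exact z2_key1 _ this
    apply transport b
    apply form_eq
    · rintro ((i | i) | i)
      · rw [(h1 i).1]; simp [bMinus_apply, Pi.single_apply]
      · rw [(h1 i).2]; simp [bMinus_apply, Pi.single_apply]
      · fin_cases i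
        · simp only [Fin.zero_eta]; rw [h5]; simp [bMinus_apply, Pi.single_apply]
        · simp only [Fin.mk_one]; rw [h7, hζ1]; simp [bMinus_apply, Pi.single_apply]
    · have hself : ∀ x, QuadraticMap.polar Q x x = 0 := by
        intro x
        rw [QuadraticMap.polar_self]
        exact z2_two_smul _
      rintro ((i | i) | i) ((j | j) | j)
      · rw [(h3 i j).1]; simp [bMinus_apply, Pi.single_apply]
      · rw [h2 i j]; simp [bMinus_apply, Pi.single_apply, eq_comm]
      · rw [(h4 i j).1]; simp [bMinus_apply, Pi.single_apply]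
      · rw [QuadraticMap.polar_comm, h2 j i]; simp [bMinus_apply, Pi.single_apply, eq_comm]
      · rw [(h3 i j).2]; simp [bMinus_apply, Pi.single_apply]
      · rw [(h4 i j).2]; simp [bMinus_apply, Pi.single_apply]
      · rw [QuadraticMap.polar_comm, (h4 j i).1]; simp [bMinus_apply, Pi.single_apply]
      · rw [QuadraticMap.polar_comm, (h4 j i).2]; simp [bMinus_apply, Pi.single_apply]
      · fin_cases i <;> fin_cases j
        · simp only [Fin.zero_eta]; rw [hself]; simp [bMinus_apply, Pi.single_apply]; exact z2_one_add_one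
        · simp only [Fin.zero_eta, Fin.mk_one]; rw [h6]; simp [bMinus_apply, Pi.single_apply]
        · simp only [Fin.zero_eta, Fin.mk_one]; rw [QuadraticMap.polar_comm, h6]
          simp [bMinus_apply, Pi.single_apply]
        · simp only [Fin.mk_one]; rw [hself]; simp [bMinus_apply, Pi.single_apply]; exact z2_one_add_one

end classify

section extra

open Cfsg.Agent.Lib.Helper91ES Cfsg.Agent.S5396

theorem prankLE_of_equiv {G H : Type*} [Group G] [Group H] (e : G ≃* H) {p k : ℕ}
    (h : Cfsg.PRankLE p k H) : Cfsg.PRankLE p k G := by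
  intro A hA hexp
  have h1 := h (A.map e.toMonoidHom) inferInstance (by
    rintro _ ⟨a, ha, rfl⟩
    show e a ^ p = 1
    rw [← map_pow, hexp a ha, map_one])
  rwa [Subgroup.card_map_of_injective e.injective] at h1

theorem prankLE_congr {G H : Type*} [Group G] [Group H] (e : G ≃* H) (p k : ℕ) :
    Cfsg.PRankLE p k G ↔ Cfsg.PRankLE p k H :=
  ⟨prankLE_of_equiv e.symm, prankLE_of_equiv e⟩

theorem prank_ext {V : Type*} [AddCommGroup V] [Module (ZMod 2) V] [Finite V]
    {β : V →ₗ[ZMod 2] V →ₗ[ZMod 2] ZMod 2} (w : ℕ)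
    (hex : ∃ U : Submodule (ZMod 2) V, (∀ u ∈ U, β u u = 0) ∧ Module.finrank (ZMod 2) U = w)
    (hle : ∀ U : Submodule (ZMod 2) V, (∀ u ∈ U, β u u = 0) → Module.finrank (ZMod 2) U ≤ w) :
    Cfsg.PRankLE 2 (w + 1) (Ext β) ∧ ¬ Cfsg.PRankLE 2 w (Ext β) := by
  have hcardU : ∀ U : Submodule (ZMod 2) V, Nat.card U = 2 ^ Module.finrank (ZMod 2) U := by
    intro U
    have : Module.Finite (ZMod 2) V := Module.Finite.of_finite
    rw [Module.natCard_eq_pow_finrank (K := ZMod 2) (V := U)]
    simp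
  constructor
  · intro A hA hexp
    have h1 : Nat.card A ≤ Nat.card (overS β (under A)) :=
      Subgroup.card_le_of_le (le_overS_under A)
    rw [card_overS, hcardU] at h1
    have h2 := hle _ (singular_of_elem (A := A) ⟨hA, hexp⟩)
    have h3 : 2 * 2 ^ Module.finrank (ZMod 2) (under A) ≤ 2 ^ (w + 1) := by
      rw [pow_succ, mul_comm]
      exact Nat.mul_le_mul_right 2 (Nat.pow_le_pow_right (by norm_num) h2)
    exact h1.trans h3
  · intro h
    obtain ⟨U, hU, hw⟩ := hex
    have h1 := h (overS β U) (elem_overS hU).1 (elem_overS hU).2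
    rw [card_overS, hcardU, hw] at h1
    have : 0 < 2 ^ w := by positivity
    omega

theorem prank_plus (n : ℕ) (hn : 1 ≤ n) :
    Cfsg.PRankLE 2 (n + 1) (Ext (bPlus n)) ∧ ¬ Cfsg.PRankLE 2 n (Ext (bPlus n)) := by
  obtain ⟨p1, p2, -, -⟩ := Cfsg.Agent.S2562.result n hn
  exact prank_ext n p1 p2

theorem prank_minus (n : ℕ) (hn : 1 ≤ n) :
    Cfsg.PRankLE 2 n (Ext (bMinus (n - 1))) ∧ ¬ Cfsg.PRankLE 2 (n - 1) (Ext (bMinus (n - 1))) := by
  obtain ⟨-, -, m1, m2⟩ := Cfsg.Agent.S2562.result n hn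
  have := prank_ext (β := bMinus (n - 1)) (n - 1)
    (by simpa only [bMinus_self] using m1) (by simpa only [bMinus_self] using m2)
  have e : n - 1 + 1 = n := by omega
  rwa [e] at this

theorem card_sq_congr {G H : Type*} [Group G] [Group H] (e : G ≃* H) :
    Nat.card {x : G // x ^ 2 = 1} = Nat.card {x : H // x ^ 2 = 1} := by
  apply Nat.card_congr
  refine e.toEquiv.subtypeEquiv ?_
  intro a
  show a ^ 2 = 1 ↔ e a ^ 2 = 1
  rw [← map_pow, map_eq_one_iff e e.injective]

theorem card_sq_ext {V : Type*} [AddCommGroup V] [Module (ZMod 2) V]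
    (β : V →ₗ[ZMod 2] V →ₗ[ZMod 2] ZMod 2) :
    Nat.card {a : Ext β // a ^ 2 = 1} = 2 * Nat.card {u : V // β u u = 0} := by
  have e : {a : Ext β // a ^ 2 = 1} ≃ ZMod 2 × {u : V // β u u = 0} :=
    { toFun := fun a => (a.1.s, ⟨a.1.u, by
        have := a.2
        rw [sq_eq] at this
        exact congrArg Ext.s this⟩)
      invFun := fun p => ⟨⟨p.1, p.2.1⟩, by rw [sq_eq, p.2.2]; rfl⟩
      left_inv := fun _ => rfl
      right_inv := fun _ => rfl }
  rw [Nat.card_congr e, Nat.card_prod]
  simp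

theorem card_sq_plus (m : ℕ) :
    Nat.card {a : Ext (bPlus m) // a ^ 2 = 1} = 2 ^ (2 * m) + 2 ^ m := by
  rw [card_sq_ext]
  have h1 := Cfsg.Agent.Lib.Helper7QForms.card_plus (F := ZMod 2) m 0
  have h2 := Cfsg.Agent.Lib.Helper7QForms.cntQ_plus_zero (F := ZMod 2) m
  have h3 : Nat.card {u : Fin m ⊕ Fin m → ZMod 2 // bPlus m u u = 0}
      = Nat.card {v : Fin m ⊕ Fin m → ZMod 2 // Cfsg.quadFormPlus m (ZMod 2) v = 0} := rfl
  rw [h3, h1]
  rw [ZMod.card, pow_succ] at h2
  omega

theorem card_sq_minus (m : ℕ) (hm : 1 ≤ m) :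
    Nat.card {a : Ext (bMinus (m - 1)) // a ^ 2 = 1} = 2 ^ (2 * m) - 2 ^ m := by
  rw [card_sq_ext]
  have h1 := Cfsg.Agent.Lib.Helper7QForms.card_minus (F := ZMod 2) (m - 1) 1 1 0
  have h2 := Cfsg.Agent.Lib.Helper7QForms.cntQ_minus_zero (F := ZMod 2) 1 1 (by decide) (m - 1)
  have h3 : Nat.card {u : (Fin (m - 1) ⊕ Fin (m - 1)) ⊕ Fin 2 → ZMod 2 // bMinus (m - 1) u u = 0}
      = Nat.card {v : (Fin (m - 1) ⊕ Fin (m - 1)) ⊕ Fin 2 → ZMod 2 //
          Cfsg.quadFormMinus (m - 1) (ZMod 2) 1 1 v = 0} := by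
    simp only [bMinus_self]
  rw [h3, h1]
  rw [ZMod.card] at h2
  obtain ⟨k, rfl⟩ : ∃ k, m = k + 1 := ⟨m - 1, by omega⟩
  simp only [Nat.add_sub_cancel] at h2 ⊢
  have e1 : 2 ^ (2 * (k + 1)) = 2 * 2 ^ (2 * k + 1) := by
    rw [show 2 * (k + 1) = (2 * k + 1) + 1 by ring, pow_succ]; ring
  have e2 : 2 ^ (k + 1) = 2 * 2 ^ k := by rw [pow_succ]; ring
  rw [e1]
  rw [e2] at h2 ⊢
  omega

end extra

end Cfsg.Agent.Lib.Helper91ES2
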