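import Mathlib
import Cfsg.Agent.Lib.Helper60TTd
import Cfsg.Agent.Lib.Helper47AltHom
import Cfsg.Agent.Lib.Helper1Fitting

set_option autoImplicit false

/-! Fischer's lemma: `O(⟨D_x⟩)` not central.  Part I: the `W`-classes inside `D_x` force
`D_x ∩ D_a = ∅`. -/

namespace Cfsg.Agent.Lib.Helper91F1

open Cfsg
open Cfsg.Agent.Lib.Helper91Trans Cfsg.Agent.Lib.Helper91V Cfsg.Agent.Lib.Helper60TTa
  Cfsg.Agent.Lib.Helper60TTb Cfsg.Agent.Lib.Helper60TTc Cfsg.Agent.Lib.Helper60TTd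

variable {G : Type*} [Group G] {D : Set G}

/-- `v'` is a second member of the `W`-class of `v` inside `D_u`. -/
def Wr (D : Set G) (u v v' : G) : Prop :=
  v ∈ Dn D u ∧ v' ∈ Dn D u ∧ ¬ Commute v v' ∧ ∀ g ∈ Dn D u, (g ∈ Dn D v' ↔ g ∈ Dn D v)

theorem Wr.conj (hconj : ∀ g : G, ∀ d ∈ D, g * d * g⁻¹ ∈ D) (k : G) {u v v' : G}
    (h : Wr D u v v') : Wr D (k * u * k⁻¹) (k * v * k⁻¹) (k * v' * k⁻¹) := by
  obtain ⟨h1, h2, h3, h4⟩ := h
  refine ⟨(conj_mem_Dn_iff hconj k u v).2 h1, (conj_mem_Dn_iff hconj k u v').2 h2, ?_, ?_⟩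
  · rw [commute_conj_conj_iff]; exact h3
  · intro g hg
    obtain ⟨g0, rfl⟩ : ∃ g0, g = k * g0 * k⁻¹ := ⟨k⁻¹ * g * k, by group⟩
    rw [conj_mem_Dn_iff hconj] at hg
    rw [conj_mem_Dn_iff hconj, conj_mem_Dn_iff hconj]
    exact h4 g0 hg

theorem cox_rel4 {a b c d : G} (ha : a * a = 1) (hb : b * b = 1) (hc : c * c = 1) (hd : d * d = 1)
    (hab : (a * b) ^ 3 = 1) (hbc : (b * c) ^ 3 = 1) (hcd : (c * d) ^ 3 = 1)
    (hac : a * c = c * a) (had : a * d = d * a) (hbd : b * d = d * b) :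
    ∀ i j, ((![a, b, c, d] : Fin 4 → G) i * (![a, b, c, d] : Fin 4 → G) j) ^
      (CoxeterMatrix.A 4 i j) = 1 := by
  have flip3 : ∀ x y : G, (x * y) ^ 3 = 1 → (y * x) ^ 3 = 1 := by
    intro x y h
    have : y * x = y * (x * y) * y⁻¹ := by group
    rw [this, conj_pow, h]; simp
  have sq2 : ∀ x y : G, x * x = 1 → y * y = 1 → x * y = y * x → (x * y) ^ 2 = 1 := by
    intro x y hx hy h
    rw [pow_two]
    calc x * y * (x * y) = x * y * (y * x) := by rw [h]
      _ = x * (y * y) * x := by group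
      _ = 1 := by rw [hy, mul_one, hx]
  have hba := flip3 _ _ hab
  have hcb := flip3 _ _ hbc
  have hdc := flip3 _ _ hcd
  have hac2 := sq2 _ _ ha hc hac
  have hca2 := sq2 _ _ hc ha hac.symm
  have had2 := sq2 _ _ ha hd had
  have hda2 := sq2 _ _ hd ha had.symm
  have hbd2 := sq2 _ _ hb hd hbd
  have hdb2 := sq2 _ _ hd hb hbd.symm
  intro i j
  fin_cases i <;> fin_cases j <;> simp [CoxeterMatrix.A] <;> assumption

/-- the homomorphism from `S₅` attached to a path `d - e - b - a`. -/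
theorem exists_path_hom (hS : IsThreeTranspositionSet D) {d e b a : G} (hd : d ∈ D) (he : e ∈ D)
    (hb : b ∈ D) (ha : a ∈ D) (hde : ¬ Commute d e) (heb : ¬ Commute e b) (hba : ¬ Commute b a)
    (hdb : Commute d b) (hda : Commute d a) (hea : Commute e a) :
    ∃ φ : Equiv.Perm (Fin 5) →* G, φ (Equiv.swap 0 1) = d ∧ φ (Equiv.swap 1 2) = e ∧
      φ (Equiv.swap 2 3) = b ∧ φ (Equiv.swap 3 4) = a := by
  obtain ⟨φ, hφ⟩ := Cfsg.Agent.Lib.Helper47AltHom.exists_permHom 4 (![d, e, b, a] : Fin 4 → G)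
    (cox_rel4 (sq_one hS hd) (sq_one hS he) (sq_one hS hb) (sq_one hS ha)
      (cube_of_not_commute hS hd he hde) (cube_of_not_commute hS he hb heb)
      (cube_of_not_commute hS hb ha hba) hdb.eq hda.eq hea.eq)
  exact ⟨φ, hφ 0, hφ 1, hφ 2, hφ 3⟩

theorem s5_id1 : (Equiv.swap (0 : Fin 5) 3 * Equiv.swap 1 4) * Equiv.swap 0 1 *
    (Equiv.swap (0 : Fin 5) 3 * Equiv.swap 1 4)⁻¹ = Equiv.swap 3 4 := by decide

theorem s5_id2 : (Equiv.swap (0 : Fin 5) 3 * Equiv.swap 1 4) * Equiv.swap 3 4 *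
    (Equiv.swap (0 : Fin 5) 3 * Equiv.swap 1 4)⁻¹ = Equiv.swap 0 1 := by decide

theorem s5_id3 : (Equiv.swap (0 : Fin 5) 3 * Equiv.swap 1 4) * Equiv.swap 2 3 *
    (Equiv.swap (0 : Fin 5) 3 * Equiv.swap 1 4)⁻¹
      = Equiv.swap 0 1 * Equiv.swap 1 2 * Equiv.swap 0 1 := by decide

/-- Step 2. -/
theorem step2 (hS : IsThreeTranspositionSet D) (hconj : ∀ g : G, ∀ d ∈ D, g * d * g⁻¹ ∈ D)
    {d a b e : G} (hd : d ∈ D) (hW : Wr D d a b) (he : e ∈ Dn D a) (heb : e ∉ Dn D b) :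
    ¬ Commute d e ∧ Wr D a d e := by
  obtain ⟨h1, h2, h3, h4⟩ := hW
  have heD := he.1
  have haD := h1.1
  have hbD := h2.1
  have hne_eb : e ≠ b := by
    rintro rfl
    exact h3 he.2.2
  have hebc : ¬ Commute e b := fun h => heb ⟨heD, hne_eb, h.symm⟩
  have hde : ¬ Commute d e := by
    intro h
    by_cases hed : e = d
    · apply hebc
      rw [hed]; exact h2.2.2
    · exact heb ((h4 e ⟨heD, hed, h⟩).2 he)
  refine ⟨hde, ?_⟩
  obtain ⟨φ, f0, f1, f2, f3⟩ := exists_path_hom hS hd heD hbD haD hde hebc (fun h => h3 h.symm)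
    h2.2.2 h1.2.2 he.2.2.symm
  have c1 := congrArg φ s5_id1
  have c2 := congrArg φ s5_id2
  have c3 := congrArg φ s5_id3
  obtain ⟨P, hP⟩ : ∃ P, P = φ (Equiv.swap (0 : Fin 5) 3 * Equiv.swap 1 4) := ⟨_, rfl⟩
  rw [map_mul, map_mul, map_inv, ← hP, f0, f3] at c1
  rw [map_mul, map_mul, map_inv, ← hP, f0, f3] at c2
  rw [map_mul, map_mul, map_inv, ← hP, f2, map_mul, map_mul, f0, f1] at c3
  have w1 := Wr.conj hconj P (⟨h1, h2, h3, h4⟩ : Wr D d a b)
  rw [c1, c2, c3] at w1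
  have w2 := Wr.conj hconj d w1
  have hdi : d⁻¹ = d := inv_eq hS hd
  have hdd := sq_one hS hd
  have e1 : d * a * d⁻¹ = a := by rw [h1.2.2.eq, mul_assoc, mul_inv_cancel, mul_one]
  have e2 : d * d * d⁻¹ = d := by rw [mul_assoc, mul_inv_cancel, mul_one]
  have e3 : d * (d * e * d) * d⁻¹ = e := by
    rw [hdi]
    calc d * (d * e * d) * d = (d * d) * e * (d * d) := by group
      _ = e := by rw [hdd, one_mul, mul_one]
  rw [e1, e2, e3] at w2
  exact w2

/-- Step 3. -/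
theorem step3 (hS : IsThreeTranspositionSet D) (hconj : ∀ g : G, ∀ d ∈ D, g * d * g⁻¹ ∈ D)
    {d a e g : G} (ha : a ∈ D) (hW : Wr D a d e) (hg : g ∈ Dn D d) (hge : g ∉ Dn D e) :
    Wr D d a g :=
  (step2 hS hconj ha hW hg hge).2

theorem conj_inv_self (hS : IsThreeTranspositionSet D) {z : G} (hz : z ∈ D) (x : G) :
    z * (z * x * z) * z = x := by
  have hzz := sq_one hS hz
  calc z * (z * x * z) * z = (z * z) * x * (z * z) := by group
    _ = x := by rw [hzz, one_mul, mul_one]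

theorem commute_conj_inv_iff (hS : IsThreeTranspositionSet D) {z : G} (hz : z ∈ D) (x y : G) :
    Commute (z * x * z) (z * y * z) ↔ Commute x y := by
  have := commute_conj_conj_iff z x y
  rwa [inv_eq hS hz] at this

/-- Step 4: the sets `D_d ∩ D_a` are empty. -/
theorem inter_empty [Finite G] (hD : IsThreeTranspositionClass D) (hP : Prim D)
    (hW : ∀ u ∈ D, ∀ v ∈ Dn D u, ∃ v', Wr D u v v') {d a f : G} (hd : d ∈ D) (ha : a ∈ Dn D d)
    (hfd : f ∈ Dn D d) (hfa : f ∈ Dn D a) : False := by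
  have hS := hD.1
  have hconj := hconj_of_class hD
  have haD := ha.1
  have hfD := hfd.1
  obtain ⟨b, hWb⟩ := hW d hd a ha
  have hbD := hWb.2.1.1
  have hda' : d ∈ Dn D a := ⟨hd, ha.2.1.symm, ha.2.2.symm⟩
  obtain ⟨e, he, heb⟩ : ∃ e ∈ Dn D a, e ∉ Dn D b := by
    by_contra hcon
    push Not at hcon
    have := eq_of_Dn_subset hD hP haD hbD ⟨d, hda'⟩ hcon
    apply hWb.2.2.1
    rw [this]
  obtain ⟨hde, hWe⟩ := step2 hS hconj hd hWb he heb
  have heD := he.1
  have hebc : ¬ Commute e b := by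
    intro h
    apply heb
    refine ⟨heD, ?_, h.symm⟩
    rintro rfl
    exact hWb.2.2.1 he.2.2
  -- e commutes with f
  have hfe : f ∈ Dn D e := (hWe.2.2.2 f hfa).2 hfd
  have hdf : d ∈ Dn D f := ⟨hd, hfd.2.1.symm, hfd.2.2.symm⟩
  obtain ⟨z, hWz⟩ := hW f hfD d hdf
  have hzD := hWz.2.1.1
  have hdz : ¬ Commute d z := hWz.2.2.1
  have haf : a ∈ Dn D f := ⟨haD, hfa.2.1.symm, hfa.2.2.symm⟩
  have hfb : f ∈ Dn D b := (hWb.2.2.2 f hfd).2 hfa
  have hbf : b ∈ Dn D f := ⟨hbD, hfb.2.1.symm, hfb.2.2.symm⟩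
  have haz : a ∈ Dn D z := (hWz.2.2.2 a haf).2 ha
  have hbz : b ∈ Dn D z := (hWz.2.2.2 b hbf).2 hWb.2.1
  have hef : e ∈ Dn D f := ⟨heD, hfe.2.1.symm, hfe.2.2.symm⟩
  -- a general remark: members of the class of `d` in `D_f` do not commute with `e`
  have hgen : ∀ y, Wr D f d y → Commute y b → ¬ Commute y e := by
    intro y hy hyb hye
    have hne : e ≠ y := by
      rintro rfl
      exact hebc hyb
    have h1 : e ∈ Dn D d := (hy.2.2.2 e hef).1 ⟨heD, hne, hye⟩
    exact hde h1.2.2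
  have hze : ¬ Commute z e := hgen z hWz hbz.2.2
  have hdd := sq_one hS hd
  have hdi := inv_eq hS hd
  have hzz := sq_one hS hzD
  have hWz2 : Wr D f d (d * z * d) := by
    have := Wr.conj hconj d hWz
    have e1 : d * f * d⁻¹ = f := by rw [hfd.2.2.eq, mul_assoc, mul_inv_cancel, mul_one]
    have e2 : d * d * d⁻¹ = d := by rw [mul_assoc, mul_inv_cancel, mul_one]
    rw [e1, e2, hdi] at this
    exact this
  have hz2e : ¬ Commute (d * z * d) e := by
    apply hgen _ hWz2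
    exact ((hWb.2.1.2.2.mul_left hbz.2.2).mul_left hWb.2.1.2.2)
  by_cases h1 : Commute (z * e * z) d
  · apply hz2e
    have h2 := (commute_conj_inv_iff hS hzD (z * e * z) d).2 h1
    rw [conj_inv_self hS hzD, braid hS hzD hd (fun h => hdz h.symm)] at h2
    exact h2.symm
  · have he1D : z * e * z ∈ D := by
      have := hconj z e heD
      rwa [inv_eq hS hzD] at this
    have he1A : z * e * z ∈ An D d := ⟨he1D, fun h => h1 h.symm⟩
    have heA : e ∈ An D d := ⟨heD, hde⟩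
    obtain ⟨k, hk, hke⟩ := trans_An hD hP hd ⟨a, ha⟩ (trans_Dn hD hP hd) e heA _ he1A
    obtain ⟨h, hh, hhz⟩ : ∃ h ∈ Dn D d, h ∉ Dn D z := by
      by_contra hcon
      push Not at hcon
      have := eq_of_Dn_subset hD hP hd hzD ⟨a, ha⟩ hcon
      apply hdz
      rw [this]
    have hhD := hh.1
    have hWh : Wr D d f h := step3 hS hconj hfD hWz hh hhz
    have hah : a ∈ Dn D h := (hWh.2.2.2 a ha).2 haf
    have hbh : b ∈ Dn D h := (hWh.2.2.2 b hWb.2.1).2 hbf
    have hhe : Commute e h := by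
      by_contra hcon
      have := step3 hS hconj haD hWe hh (fun h' => hcon h'.2.2)
      exact this.2.2.1 hah.2.2.symm
    have hhzc : ¬ Commute z h := by
      intro hc
      apply hhz
      refine ⟨hhD, ?_, hc⟩
      rintro rfl
      exact hdz hh.2.2
    have hhe1 : ¬ Commute (z * e * z) h := by
      intro hc
      apply hhzc
      have hbr : z * e * z = e * z * e := braid hS hzD heD hze
      rw [hbr] at hc
      have h3 : Commute (e * (e * z * e) * e) h := (hhe.mul_left hc).mul_left hhe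
      rwa [conj_inv_self hS heD] at h3
    have hbe1 : ¬ Commute (z * e * z) b := by
      intro hc
      apply hebc
      have e1 : z * b * z = b := by rw [hbz.2.2.eq, mul_assoc, hzz, mul_one]
      rw [← e1] at hc
      exact (commute_conj_inv_iff hS hzD e b).1 hc
    -- transport by k
    have hkd : k * d * k⁻¹ = d := conj_self_of_mem_Kh hk
    have tr : ∀ y ∈ Dn D d, ¬ Commute (z * e * z) y → Wr D d a (k⁻¹ * y * k) := by
      intro y hy hyc
      apply step3 hS hconj haD hWe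
      · have h5 : k * (k⁻¹ * y * k) * k⁻¹ ∈ Dn D (k * d * k⁻¹) := by
          rw [hkd]
          have : k * (k⁻¹ * y * k) * k⁻¹ = y := by group
          rw [this]; exact hy
        exact (conj_mem_Dn_iff hconj k d _).1 h5
      · intro h5
        apply hyc
        have h6 := (commute_conj_conj_iff k e (k⁻¹ * y * k)).2 h5.2.2
        have : k * (k⁻¹ * y * k) * k⁻¹ = y := by group
        rwa [this, hke] at h6
    have w1 := tr h hh hhe1
    have w2 := tr b hWb.2.1 hbe1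
    have h7 : k⁻¹ * b * k ∈ Dn D (k⁻¹ * h * k) := by
      have := (conj_mem_Dn_iff hconj k⁻¹ h b).2 hbh
      rwa [inv_inv] at this
    have h8 := (w1.2.2.2 _ w2.2.1).1 h7
    exact w2.2.2.1 h8.2.2

/-- Step 1: a non-central odd core of `⟨D_x⟩` gives non-trivial `W`-classes in all `D_u`. -/
theorem exists_Wr [Finite G] (hD : IsThreeTranspositionClass D) (hP : Prim D) {x : G} (hx : x ∈ D)
    (h : ¬ Cfsg.oddCore ↥(Subgroup.closure (Dn D x)) ≤
      Subgroup.center ↥(Subgroup.closure (Dn D x))) :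
    ∀ u ∈ D, ∀ v ∈ Dn D u, ∃ v', Wr D u v v' := by
  have hS := hD.1
  have hconj := hconj_of_class hD
  obtain ⟨H, hH⟩ : ∃ H, H = Subgroup.closure (Dn D x) := ⟨_, rfl⟩
  rw [← hH] at h
  obtain ⟨O', hO'⟩ : ∃ O', O' = (Cfsg.oddCore ↥H).map H.subtype := ⟨_, rfl⟩
  have hDH : ∀ y ∈ Dn D x, y ∈ H := fun y hy => by rw [hH]; exact Subgroup.subset_closure hy
  have hOH : O' ≤ H := by
    rw [hO']
    rintro _ ⟨o, -, rfl⟩
    exact o.2
  have hOn : ∀ m ∈ H, ∀ o ∈ O', m * o * m⁻¹ ∈ O' := by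
    intro m hm o ho
    rw [hO'] at ho ⊢
    obtain ⟨o0, ho0, rfl⟩ := ho
    exact ⟨⟨m, hm⟩ * o0 * ⟨m, hm⟩⁻¹,
      (Cfsg.Agent.Lib.Helper1Fitting.pPrimeCore_normal (G := ↥H) 2).conj_mem o0 ho0 ⟨m, hm⟩, rfl⟩
  have hOodd : ∀ o ∈ O', o * o = 1 → o = 1 := by
    intro o ho hoo
    rw [hO'] at ho
    obtain ⟨o0, ho0, rfl⟩ := ho
    have h1 : orderOf (⟨o0, ho0⟩ : ↥(Cfsg.oddCore ↥H)) ∣ Nat.card ↥(Cfsg.oddCore ↥H) :=
      orderOf_dvd_natCard _
    have h2 : orderOf (⟨o0, ho0⟩ : ↥(Cfsg.oddCore ↥H)) ∣ 2 := by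
      apply orderOf_dvd_of_pow_eq_one
      apply Subtype.ext
      apply Subtype.ext
      rw [pow_two]
      exact hoo
    have h3 := Cfsg.Agent.Lib.Helper1Fitting.card_pPrimeCore_coprime (G := ↥H) 2
    have h4 : orderOf (⟨o0, ho0⟩ : ↥(Cfsg.oddCore ↥H)) = 1 :=
      Nat.eq_one_of_dvd_coprimes h3 h1 h2
    rw [orderOf_eq_one_iff] at h4
    have h5 : o0 = 1 := congrArg Subtype.val h4
    rw [h5]; rfl
  obtain ⟨y0, hy0, k0, hk0, hyk⟩ : ∃ y0 ∈ Dn D x, ∃ k0 ∈ O', ¬ Commute k0 y0 := by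
    by_contra hall
    push Not at hall
    apply h
    intro o ho
    rw [Subgroup.mem_center_iff]
    intro g
    apply Subtype.ext
    show (g : G) * (o : G) = (o : G) * (g : G)
    have hoO : (o : G) ∈ O' := by rw [hO']; exact ⟨o, ho, rfl⟩
    have hle : Subgroup.closure (Dn D x) ≤ Subgroup.centralizer {(o : G)} := by
      rw [Subgroup.closure_le]
      intro y hy
      rw [SetLike.mem_coe, Subgroup.mem_centralizer_singleton_iff]
      exact (hall y hy _ hoO).eq.symm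
    have := hle (hH.le g.2)
    rw [Subgroup.mem_centralizer_singleton_iff] at this
    exact this
  have key : ∀ v ∈ Dn D x, ∀ v' ∈ Dn D x, v * v' ∈ O' → ¬ Commute v v' →
      ∀ g ∈ Dn D x, g ∈ Dn D v → g ∈ Dn D v' := by
    intro v hv v' hv' ht hvv g hg hgv
    have hgD := hg.1
    have hvD := hv.1
    have hv'D := hv'.1
    refine ⟨hgD, ?_, ?_⟩
    · rintro rfl
      exact hvv hgv.2.2
    · by_contra hc
      have h3 := cube_of_not_commute hS hgD hv'D (fun hh => hc hh.symm)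
      obtain ⟨i, hi⟩ : ∃ i, i = g * v := ⟨_, rfl⟩
      obtain ⟨t, ht'⟩ : ∃ t, t = v * v' := ⟨_, rfl⟩
      rw [← ht'] at ht
      have hgg := sq_one hS hgD
      have hvv2 := sq_one hS hvD
      have hii : i * i = 1 := by
        rw [hi]
        calc g * v * (g * v) = g * (v * g) * v := by group
          _ = g * (g * v) * v := by rw [hgv.2.2.eq]
          _ = (g * g) * (v * v) := by group
          _ = 1 := by rw [hgg, hvv2, one_mul]
      have hit : g * v' = i * t := by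
        rw [hi, ht']
        calc g * v' = g * (v * v) * v' := by rw [hvv2, mul_one]
          _ = _ := by group
      have hiH : i ∈ H := by rw [hi]; exact mul_mem (hDH g hg) (hDH v hv)
      have hii' : i⁻¹ = i := inv_eq_of_mul_eq_one_left hii
      have hc1 : i * t * i ∈ O' := by
        have := hOn i hiH t ht
        rwa [hii'] at this
      have h4 : (i * t * i) * t * (i * t * i) * i = 1 := by
        rw [hit] at h3
        calc (i * t * i) * t * (i * t * i) * i = (i * t) ^ 3 * (i * i) := by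
              simp only [pow_succ, pow_zero, one_mul, mul_assoc]
          _ = 1 := by rw [h3, hii, one_mul]
      have h5 : i ∈ O' := by
        have h6 : i = ((i * t * i) * t * (i * t * i))⁻¹ := by
          rw [eq_comm, inv_eq_iff_mul_eq_one]
          exact h4
        rw [h6]
        exact inv_mem (mul_mem (mul_mem hc1 ht) hc1)
      have h7 := hOodd i h5 hii
      apply hgv.2.1
      rw [hi] at h7
      calc g = g * (v * v) := by rw [hvv2, mul_one]
        _ = (g * v) * v := by group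
        _ = v := by rw [h7, one_mul]
  have base : ∀ v ∈ Dn D x, ∃ v', Wr D x v v' := by
    intro v hv
    obtain ⟨m, hm, hmv⟩ := trans_Dn hD hP hx y0 hy0 v hv
    have hmH : m ∈ H := by rw [hH]; exact hm
    obtain ⟨k, hk⟩ : ∃ k, k = m * k0 * m⁻¹ := ⟨_, rfl⟩
    have hkO : k ∈ O' := by rw [hk]; exact hOn m hmH k0 hk0
    have hkv : ¬ Commute k v := by
      rw [hk, ← hmv, commute_conj_conj_iff]
      exact hyk
    have hvD := hv.1
    have hvi := inv_eq hS hvD
    have hvv2 := sq_one hS hvD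
    have hkKh : k ∈ Kh D x := Kd_le_Kh x (by
      have := hOH hkO
      rw [hH] at this
      exact this)
    have hv' : k * v * k⁻¹ ∈ Dn D x := (conj_mem_Dn_of_Kh hconj hkKh).2 hv
    have ht : v * (k * v * k⁻¹) ∈ O' := by
      have h1 := hOn v (hDH v hv) k hkO
      rw [hvi] at h1
      have : v * (k * v * k⁻¹) = (v * k * v) * k⁻¹ := by group
      rw [this]
      exact mul_mem h1 (inv_mem hkO)
    have hne : k * v * k⁻¹ ≠ v := by
      intro hh
      apply hkv
      rw [mul_inv_eq_iff_eq_mul] at hh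
      exact hh
    have hv'2 := sq_one hS hv'.1
    have hvv : ¬ Commute v (k * v * k⁻¹) := by
      intro hc
      apply hne
      have h1 : v * (k * v * k⁻¹) * (v * (k * v * k⁻¹)) = 1 := by
        calc v * (k * v * k⁻¹) * (v * (k * v * k⁻¹))
            = v * ((k * v * k⁻¹) * v) * (k * v * k⁻¹) := by group
          _ = v * (v * (k * v * k⁻¹)) * (k * v * k⁻¹) := by rw [hc.eq]
          _ = (v * v) * ((k * v * k⁻¹) * (k * v * k⁻¹)) := by group
          _ = 1 := by rw [hvv2, hv'2, one_mul]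
      have h2 := hOodd _ ht h1
      calc k * v * k⁻¹ = (v * v) * (k * v * k⁻¹) := by rw [hvv2, one_mul]
        _ = v * (v * (k * v * k⁻¹)) := by group
        _ = v := by rw [h2, mul_one]
    refine ⟨k * v * k⁻¹, hv, hv', hvv, fun g hg => ⟨?_, ?_⟩⟩
    · apply key _ hv' _ hv _ (fun hh => hvv hh.symm) g hg
      have : (k * v * k⁻¹) * v = (v * (k * v * k⁻¹))⁻¹ := by
        rw [_root_.mul_inv_rev, hvi, inv_eq hS hv'.1]
      rw [this]
      exact inv_mem ht
    · exact key _ hv _ hv' ht hvv g hg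
  intro u hu v hv
  obtain ⟨m, hm⟩ := exists_conj_of_class hD hx hu
  have hv0 : m⁻¹ * v * m ∈ Dn D x := by
    apply (conj_mem_Dn_iff hconj m x _).1
    rw [hm]
    have : m * (m⁻¹ * v * m) * m⁻¹ = v := by group
    rw [this]; exact hv
  obtain ⟨v', hv'⟩ := base _ hv0
  have := Wr.conj hconj m hv'
  have e1 : m * (m⁻¹ * v * m) * m⁻¹ = v := by group
  rw [hm, e1] at this
  exact ⟨_, this⟩

end Cfsg.Agent.Lib.Helper91F1
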