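import Mathlib
import Cfsg.Agent.Lib.Helper91F1

set_option autoImplicit false

/-! Fischer's lemma, Part II: a primitive class of 3-transpositions without commuting triangles
which contains a path `d - e - b - a` is the class of transpositions of `S₅`. -/

namespace Cfsg.Agent.Lib.Helper91F2

open Cfsg
open Cfsg.Agent.Lib.Helper91Trans Cfsg.Agent.Lib.Helper91V Cfsg.Agent.Lib.Helper60TTa
  Cfsg.Agent.Lib.Helper60TTb Cfsg.Agent.Lib.Helper60TTc Cfsg.Agent.Lib.Helper60TTd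
  Cfsg.Agent.Lib.Helper91F1

variable {G : Type*} [Group G] {D : Set G}

theorem exists_perm4 : ∀ i j k l : Fin 5, i ≠ j → i ≠ k → i ≠ l → j ≠ k → j ≠ l → k ≠ l →
    ∃ π : Equiv.Perm (Fin 5), π 0 = i ∧ π 1 = j ∧ π 2 = k ∧ π 3 = l := by decide +kernel

theorem exists_perm3 : ∀ i j k : Fin 5, i ≠ j → i ≠ k → j ≠ k →
    ∃ π : Equiv.Perm (Fin 5), π 0 = i ∧ π 1 = j ∧ π 2 = k := by decide +kernel

theorem exists_perm2 : ∀ i j : Fin 5, i ≠ j →
    ∃ π : Equiv.Perm (Fin 5), π 0 = i ∧ π 1 = j := by decide +kernel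

set_option synthInstance.maxHeartbeats 400000 in
set_option synthInstance.maxSize 2000 in
theorem swap_disj : ∀ i j k l : Fin 5, i ≠ k → i ≠ l → j ≠ k → j ≠ l →
    Equiv.swap i j * Equiv.swap k l = Equiv.swap k l * Equiv.swap i j := by decide +kernel

theorem swap_tri : ∀ i j k : Fin 5, i ≠ j → i ≠ k → j ≠ k →
    Equiv.swap i j * Equiv.swap j k * Equiv.swap i j = Equiv.swap i k := by decide +kernel

set_option synthInstance.maxHeartbeats 400000 in
set_option synthInstance.maxSize 2000 in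
theorem swap_v4 : ∀ i j k l : Fin 5, i ≠ j → i ≠ k → i ≠ l → j ≠ k → j ≠ l → k ≠ l →
    Equiv.swap i j * Equiv.swap k l * (Equiv.swap i l * Equiv.swap j k)
      = Equiv.swap i k * Equiv.swap j l := by decide +kernel

theorem exists_ne2 : ∀ a b : Fin 5, ∃ j, j ≠ a ∧ j ≠ b := by decide

/-- the hypotheses on a homomorphism from `S₅`. -/
structure Good (D : Set G) (φ : Equiv.Perm (Fin 5) →* G) : Prop where
  mem : φ (Equiv.swap 0 1) ∈ D
  nc : ¬ Commute (φ (Equiv.swap 0 1)) (φ (Equiv.swap 1 2))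
  ne : φ (Equiv.swap 0 1) ≠ φ (Equiv.swap 2 3)

theorem Good.conj (hconj : ∀ g : G, ∀ d ∈ D, g * d * g⁻¹ ∈ D) {φ : Equiv.Perm (Fin 5) →* G}
    (h : Good D φ) (g : G) : Good D ((MulAut.conj g).toMonoidHom.comp φ) := by
  refine ⟨?_, ?_, ?_⟩
  · show g * φ _ * g⁻¹ ∈ D
    exact hconj _ _ h.mem
  · show ¬ Commute (g * φ _ * g⁻¹) (g * φ _ * g⁻¹)
    rw [commute_conj_conj_iff]
    exact h.nc
  · show g * φ _ * g⁻¹ ≠ g * φ _ * g⁻¹
    intro hh
    exact h.ne (conj_inj g hh)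

theorem map_swap_conj (φ : Equiv.Perm (Fin 5) →* G) (π : Equiv.Perm (Fin 5)) (i j : Fin 5) :
    φ (Equiv.swap (π i) (π j)) = φ π * φ (Equiv.swap i j) * (φ π)⁻¹ := by
  rw [Equiv.swap_apply_apply, map_mul, map_mul, map_inv]

section
variable {φ : Equiv.Perm (Fin 5) →* G}

theorem Good.tD (hconj : ∀ g : G, ∀ d ∈ D, g * d * g⁻¹ ∈ D) (h : Good D φ) {i j : Fin 5}
    (hij : i ≠ j) : φ (Equiv.swap i j) ∈ D := by
  obtain ⟨π, rfl, rfl⟩ := exists_perm2 i j hij
  rw [map_swap_conj]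
  exact hconj _ _ h.mem

theorem Good.tnc (h : Good D φ) {i j k : Fin 5} (hij : i ≠ j) (hik : i ≠ k) (hjk : j ≠ k) :
    ¬ Commute (φ (Equiv.swap i j)) (φ (Equiv.swap j k)) := by
  obtain ⟨π, rfl, rfl, rfl⟩ := exists_perm3 i j k hij hik hjk
  rw [map_swap_conj, map_swap_conj, commute_conj_conj_iff]
  exact h.nc

theorem Good.tne (h : Good D φ) {i j k l : Fin 5} (hij : i ≠ j) (hik : i ≠ k) (hil : i ≠ l)
    (hjk : j ≠ k) (hjl : j ≠ l) (hkl : k ≠ l) : φ (Equiv.swap i j) ≠ φ (Equiv.swap k l) := by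
  obtain ⟨π, rfl, rfl, rfl, rfl⟩ := exists_perm4 i j k l hij hik hil hjk hjl hkl
  rw [map_swap_conj, map_swap_conj]
  intro hh
  exact h.ne (conj_inj _ hh)

theorem tcomm (φ : Equiv.Perm (Fin 5) →* G) {i j k l : Fin 5} (hik : i ≠ k) (hil : i ≠ l)
    (hjk : j ≠ k) (hjl : j ≠ l) : Commute (φ (Equiv.swap i j)) (φ (Equiv.swap k l)) := by
  show _ * _ = _ * _
  rw [← map_mul, ← map_mul, swap_disj i j k l hik hil hjk hjl]

theorem tconj (φ : Equiv.Perm (Fin 5) →* G) {i j k : Fin 5} (hij : i ≠ j) (hik : i ≠ k)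
    (hjk : j ≠ k) :
    φ (Equiv.swap i j) * φ (Equiv.swap j k) * φ (Equiv.swap i j) = φ (Equiv.swap i k) := by
  rw [← map_mul, ← map_mul, swap_tri i j k hij hik hjk]

theorem comm_trans (φ : Equiv.Perm (Fin 5) →* G) {y : G} {i j k : Fin 5} (hij : i ≠ j)
    (hik : i ≠ k) (hjk : j ≠ k) (h1 : Commute y (φ (Equiv.swap i j)))
    (h2 : Commute y (φ (Equiv.swap j k))) : Commute y (φ (Equiv.swap i k)) := by
  rw [← tconj φ hij hik hjk]
  exact (h1.mul_right h2).mul_right h1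

end

theorem tri (hw2 : ∀ y ∈ D, ∀ p ∈ Dn D y, ∀ q ∈ Dn D y, q ∉ Dn D p) {y p q : G} (hy : y ∈ D)
    (hp : p ∈ D) (hq : q ∈ D) (hyp : Commute y p) (hyq : Commute y q) (hpq : Commute p q)
    (hne : p ≠ q) : y = p ∨ y = q := by
  by_contra hcon
  push Not at hcon
  exact hw2 y hy p ⟨hp, hcon.1.symm, hyp⟩ q ⟨hq, hcon.2.symm, hyq⟩ ⟨hq, hne.symm, hpq⟩

theorem str (hS : IsThreeTranspositionSet D) (hconj : ∀ g : G, ∀ d ∈ D, g * d * g⁻¹ ∈ D)
    {s t e : G} (hs : s ∈ D) (ht : t ∈ D) (he : e ∈ D) (hst : Commute s t) (hne : s ≠ t)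
    (hes : ¬ Commute e s) (het : ¬ Commute e t) : (s * t) * e * (s * t)⁻¹ ∈ Dn D e := by
  have hss := sq_one hS hs
  have htt := sq_one hS ht
  have hee := sq_one hS he
  have b1 := braid hS he hs hes
  have b2 := braid hS he ht het
  have e1 : (s * t) * e * (s * t)⁻¹ = s * t * e * t * s := by
    rw [_root_.mul_inv_rev, inv_eq hS hs, inv_eq hS ht]
    group
  refine ⟨hconj _ _ he, ?_, ?_⟩
  · rw [e1]
    intro hh
    apply hne
    have h1 : t * e * t = s * e * s := by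
      calc t * e * t = (s * s) * t * e * t * (s * s) := by rw [hss, one_mul, mul_one]
        _ = s * (s * t * e * t * s) * s := by group
        _ = s * e * s := by rw [hh]
    rw [← b1, ← b2] at h1
    have h2 : e * (e * t * e) * e = e * (e * s * e) * e := by rw [h1]
    rw [conj_inv_self hS he, conj_inv_self hS he] at h2
    exact h2.symm
  · rw [e1]
    exact (s4_commute hss hee hst.eq b1 b2).symm

section
variable {φ : Equiv.Perm (Fin 5) →* G}

/-- the `V₄` trick. -/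
theorem lemX (hS : IsThreeTranspositionSet D) (hconj : ∀ g : G, ∀ d ∈ D, g * d * g⁻¹ ∈ D)
    (hw2 : ∀ y ∈ D, ∀ p ∈ Dn D y, ∀ q ∈ Dn D y, q ∉ Dn D p) (h : Good D φ) {i j k l : Fin 5}
    (hij : i ≠ j) (hik : i ≠ k) (hil : i ≠ l) (hjk : j ≠ k) (hjl : j ≠ l) (hkl : k ≠ l) {e : G}
    (he : e ∈ D) :
    Commute e (φ (Equiv.swap i j)) ∨ Commute e (φ (Equiv.swap k l)) ∨
    Commute e (φ (Equiv.swap i k)) ∨ Commute e (φ (Equiv.swap j l)) ∨
    Commute e (φ (Equiv.swap i l)) ∨ Commute e (φ (Equiv.swap j k)) := by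
  by_contra hcon
  push Not at hcon
  obtain ⟨n1, n2, n3, n4, n5, n6⟩ := hcon
  have e1 := str hS hconj (h.tD hconj hij) (h.tD hconj hkl) he (tcomm φ hik hil hjk hjl)
    (h.tne hij hik hil hjk hjl hkl) n1 n2
  have e2 := str hS hconj (h.tD hconj hik) (h.tD hconj hjl) he (tcomm φ hij hil hjk.symm hkl)
    (h.tne hik hij hil hjk.symm hkl hjl) n3 n4
  have e3 := str hS hconj (h.tD hconj hil) (h.tD hconj hjk) he (tcomm φ hij hik hjl.symm hkl.symm)
    (h.tne hil hij hik hjl.symm hkl.symm hjk) n5 n6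
  have hτ : φ (Equiv.swap i j) * φ (Equiv.swap k l) * (φ (Equiv.swap i l) * φ (Equiv.swap j k))
      = φ (Equiv.swap i k) * φ (Equiv.swap j l) := by
    rw [← map_mul, ← map_mul, ← map_mul, ← map_mul, swap_v4 i j k l hij hik hil hjk hjl hkl]
  have e4 := (conj_mem_Dn_iff hconj (φ (Equiv.swap i j) * φ (Equiv.swap k l)) e _).2 e3
  have e5 : φ (Equiv.swap i j) * φ (Equiv.swap k l) *
      (φ (Equiv.swap i l) * φ (Equiv.swap j k) * e * (φ (Equiv.swap i l) * φ (Equiv.swap j k))⁻¹) *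
      (φ (Equiv.swap i j) * φ (Equiv.swap k l))⁻¹
      = (φ (Equiv.swap i k) * φ (Equiv.swap j l)) * e *
        (φ (Equiv.swap i k) * φ (Equiv.swap j l))⁻¹ := by
    rw [← hτ]
    group
  rw [e5] at e4
  exact hw2 e he _ e1 _ e2 e4

theorem lemS (hS : IsThreeTranspositionSet D) (hconj : ∀ g : G, ∀ d ∈ D, g * d * g⁻¹ ∈ D)
    (hw2 : ∀ y ∈ D, ∀ p ∈ Dn D y, ∀ q ∈ Dn D y, q ∉ Dn D p) (h : Good D φ) {i j k l m : Fin 5}
    (hij : i ≠ j) (hik : i ≠ k) (hil : i ≠ l) (him : i ≠ m) (hjk : j ≠ k) (hjl : j ≠ l)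
    (hjm : j ≠ m) (hkl : k ≠ l) (hkm : k ≠ m) (hlm : l ≠ m) {y : G} (hy : y ∈ D)
    (n1 : ¬ Commute y (φ (Equiv.swap i j))) (n2 : ¬ Commute y (φ (Equiv.swap i k)))
    (n3 : ¬ Commute y (φ (Equiv.swap j k))) (n4 : ¬ Commute y (φ (Equiv.swap l m))) :
    ¬ Commute y (φ (Equiv.swap j l)) := by
  intro hc
  rcases lemX hS hconj hw2 h hik hil him hkl hkm hlm hy with h1 | h1 | h1 | h1 | h1 | h1
  · exact n2 h1
  · exact n4 h1
  · apply n1
    refine comm_trans φ hil hij hjl.symm h1 ?_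
    rw [Equiv.swap_comm]; exact hc
  · rcases tri hw2 hy (h.tD hconj hjl) (h.tD hconj hkm) hc h1 (tcomm φ hjk hjm hkl.symm hlm)
      (h.tne hjl hjk hjm hkl.symm hlm hkm) with rfl | rfl
    · exact n2 (tcomm φ hij.symm hjk hil.symm hkl.symm)
    · exact n1 (tcomm φ hik.symm hjk.symm him.symm hjm.symm)
  · rcases tri hw2 hy (h.tD hconj hjl) (h.tD hconj him) hc h1 (tcomm φ hij.symm hjm hil.symm hlm)
      (h.tne hjl hij.symm hjm hil.symm hlm him) with rfl | rfl
    · exact n2 (tcomm φ hij.symm hjk hil.symm hkl.symm)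
    · exact n3 (tcomm φ hij hik hjm.symm hkm.symm)
  · apply n3
    refine comm_trans φ hjl hjk hkl.symm hc ?_
    rw [Equiv.swap_comm]; exact h1

theorem lemT (hS : IsThreeTranspositionSet D) (hconj : ∀ g : G, ∀ d ∈ D, g * d * g⁻¹ ∈ D)
    (hw2 : ∀ y ∈ D, ∀ p ∈ Dn D y, ∀ q ∈ Dn D y, q ∉ Dn D p) (h : Good D φ) {i j k l m : Fin 5}
    (hij : i ≠ j) (hik : i ≠ k) (hil : i ≠ l) (him : i ≠ m) (hjk : j ≠ k) (hjl : j ≠ l)
    (hjm : j ≠ m) (hkl : k ≠ l) (hkm : k ≠ m) (hlm : l ≠ m) {y : G} (hy : y ∈ D)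
    (n1 : ¬ Commute y (φ (Equiv.swap i j))) (n2 : ¬ Commute y (φ (Equiv.swap i k)))
    (n3 : ¬ Commute y (φ (Equiv.swap j k))) : Commute y (φ (Equiv.swap l m)) := by
  by_contra n4
  have n1' : ¬ Commute y (φ (Equiv.swap j i)) := by rwa [Equiv.swap_comm]
  have n4' : ¬ Commute y (φ (Equiv.swap m l)) := by rwa [Equiv.swap_comm]
  rcases lemX hS hconj hw2 h hij hil him hjl hjm hlm hy with h1 | h1 | h1 | h1 | h1 | h1
  · exact n1 h1
  · exact n4 h1
  · exact lemS hS hconj hw2 h hij.symm hjk hjl hjm hik hil him hkl hkm hlm hy n1' n3 n2 n4 h1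
  · exact lemS hS hconj hw2 h hij hik him hil hjk hjm hjl hkm hkl hlm.symm hy n1 n2 n3 n4' h1
  · exact lemS hS hconj hw2 h hij.symm hjk hjm hjl hik him hil hkm hkl hlm.symm hy n1' n3 n2 n4' h1
  · exact lemS hS hconj hw2 h hij hik hil him hjk hjl hjm hkl hkm hlm hy n1 n2 n3 n4 h1

theorem lemFinal [Finite G] (hD : IsThreeTranspositionClass D) (hP : Prim D)
    (hw2 : ∀ y ∈ D, ∀ p ∈ Dn D y, ∀ q ∈ Dn D y, q ∉ Dn D p) (h : Good D φ) {a b c l m : Fin 5}
    (hab : a ≠ b) (hac : a ≠ c) (hal : a ≠ l) (ham : a ≠ m) (hbc : b ≠ c) (hbl : b ≠ l)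
    (hbm : b ≠ m) (hcl : c ≠ l) (hcm : c ≠ m) (hlm : l ≠ m) {g : G} (hg : g ∈ D)
    (hgT : ∀ i j : Fin 5, i ≠ j → g ≠ φ (Equiv.swap i j))
    (c1 : Commute g (φ (Equiv.swap a b))) (c2 : Commute g (φ (Equiv.swap b c))) : False := by
  have hS := hD.1
  have hconj := hconj_of_class hD
  have c3 := comm_trans φ hab hac hbc c1 c2
  have htD := h.tD hconj hlm
  have hgt : ¬ Commute g (φ (Equiv.swap l m)) := by
    intro hc
    rcases tri hw2 hg (h.tD hconj hab) htD c1 hc (tcomm φ hal ham hbl hbm)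
      (h.tne hab hal ham hbl hbm hlm) with h1 | h1
    · exact hgT _ _ hab h1
    · exact hgT _ _ hlm h1
  have hsub : Dn D (φ (Equiv.swap l m)) ⊆ Dn D g := by
    intro y hy
    have hyD := hy.1
    refine ⟨hyD, ?_, ?_⟩
    · rintro rfl
      exact hgt hy.2.2.symm
    · have aux : ∀ i j : Fin 5, i ≠ j → i ≠ l → i ≠ m → j ≠ l → j ≠ m →
          Commute g (φ (Equiv.swap i j)) → Commute y (φ (Equiv.swap i j)) → Commute g y := by
        intro i j hij hil him hjl hjm hgc hyc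
        rcases tri hw2 hyD (h.tD hconj hij) htD hyc hy.2.2.symm (tcomm φ hil him hjl hjm)
          (h.tne hij hil him hjl hjm hlm) with h1 | h1
        · rw [h1]; exact hgc
        · exact absurd h1 hy.2.1
      by_cases n1 : Commute y (φ (Equiv.swap a b))
      · exact aux a b hab hal ham hbl hbm c1 n1
      by_cases n2 : Commute y (φ (Equiv.swap a c))
      · exact aux a c hac hal ham hcl hcm c3 n2
      by_cases n3 : Commute y (φ (Equiv.swap b c))
      · exact aux b c hbc hbl hbm hcl hcm c2 n3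
      have hfix : ∀ t : G, Commute g t → g * t * g⁻¹ = t := by
        intro t ht
        rw [ht.eq, mul_assoc, mul_inv_cancel, mul_one]
      have hT := lemT (φ := (MulAut.conj g).toMonoidHom.comp φ) hS hconj hw2 (h.conj hconj g)
        hab hac hal ham hbc hbl hbm hcl hcm hlm hyD
        (by show ¬ Commute y (g * φ _ * g⁻¹); rw [hfix _ c1]; exact n1)
        (by show ¬ Commute y (g * φ _ * g⁻¹); rw [hfix _ c3]; exact n2)
        (by show ¬ Commute y (g * φ _ * g⁻¹); rw [hfix _ c2]; exact n3)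
      have hT' : Commute y (g * φ (Equiv.swap l m) * g⁻¹) := hT
      rw [inv_eq hS hg, braid hS hg htD hgt] at hT'
      have h3 : Commute y (φ (Equiv.swap l m) * (φ (Equiv.swap l m) * g * φ (Equiv.swap l m)) *
          φ (Equiv.swap l m)) := (hy.2.2.symm.mul_right hT').mul_right hy.2.2.symm
      rw [conj_inv_self hS htD] at h3
      exact h3.symm
  have := eq_of_Dn_subset hD hP htD hg
    ⟨φ (Equiv.swap a b), h.tD hconj hab, h.tne hab hal ham hbl hbm hlm,
      (tcomm φ hal ham hbl hbm).symm⟩ hsub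
  exact hgT _ _ hlm this

theorem lemB [Finite G] (hD : IsThreeTranspositionClass D) (hP : Prim D)
    (hw2 : ∀ y ∈ D, ∀ p ∈ Dn D y, ∀ q ∈ Dn D y, q ∉ Dn D p) (h : Good D φ) {a b c l m : Fin 5}
    (hab : a ≠ b) (hac : a ≠ c) (hal : a ≠ l) (ham : a ≠ m) (hbc : b ≠ c) (hbl : b ≠ l)
    (hbm : b ≠ m) (hcl : c ≠ l) (hcm : c ≠ m) (hlm : l ≠ m) {g : G} (hg : g ∈ D)
    (hgT : ∀ i j : Fin 5, i ≠ j → g ≠ φ (Equiv.swap i j))
    (c1 : Commute g (φ (Equiv.swap a b))) : False := by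
  have hS := hD.1
  have hconj := hconj_of_class hD
  have aux : ∀ i j : Fin 5, i ≠ j → a ≠ i → a ≠ j → b ≠ i → b ≠ j →
      ¬ Commute g (φ (Equiv.swap i j)) := by
    intro i j hij hai haj hbi hbj hc
    rcases tri hw2 hg (h.tD hconj hab) (h.tD hconj hij) c1 hc (tcomm φ hai haj hbi hbj)
      (h.tne hab hai haj hbi hbj hij) with h1 | h1
    · exact hgT _ _ hab h1
    · exact hgT _ _ hij h1
  rcases lemX hS hconj hw2 h hbc hbl hbm hcl hcm hlm hg with h1 | h1 | h1 | h1 | h1 | h1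
  · exact lemFinal hD hP hw2 h hab hac hal ham hbc hbl hbm hcl hcm hlm hg hgT c1 h1
  · exact aux l m hlm hal ham hbl hbm h1
  · exact lemFinal hD hP hw2 h hab hal hac ham hbl hbc hbm hcl.symm hlm hcm hg hgT c1 h1
  · exact aux c m hcm hac ham hbc hbm h1
  · exact lemFinal hD hP hw2 h hab ham hac hal hbm hbc hbl hcm.symm hlm.symm hcl hg hgT c1 h1
  · exact aux c l hcl hac hal hbc hbl h1

theorem mem_T [Finite G] (hD : IsThreeTranspositionClass D) (hP : Prim D)
    (hw2 : ∀ y ∈ D, ∀ p ∈ Dn D y, ∀ q ∈ Dn D y, q ∉ Dn D p) (h : Good D φ) {g : G} (hg : g ∈ D) :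
    ∃ i j : Fin 5, i ≠ j ∧ g = φ (Equiv.swap i j) := by
  by_contra hcon
  push Not at hcon
  have hS := hD.1
  have hconj := hconj_of_class hD
  rcases lemX (i := 0) (j := 1) (k := 2) (l := 3) hS hconj hw2 h (by decide) (by decide) (by decide)
    (by decide) (by decide) (by decide) hg with h1 | h1 | h1 | h1 | h1 | h1
  · exact lemB (a := 0) (b := 1) (c := 2) (l := 3) (m := 4) hD hP hw2 h (by decide) (by decide)
      (by decide) (by decide) (by decide) (by decide) (by decide) (by decide) (by decide)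
      (by decide) hg hcon h1
  · exact lemB (a := 2) (b := 3) (c := 0) (l := 1) (m := 4) hD hP hw2 h (by decide) (by decide)
      (by decide) (by decide) (by decide) (by decide) (by decide) (by decide) (by decide)
      (by decide) hg hcon h1
  · exact lemB (a := 0) (b := 2) (c := 1) (l := 3) (m := 4) hD hP hw2 h (by decide) (by decide)
      (by decide) (by decide) (by decide) (by decide) (by decide) (by decide) (by decide)
      (by decide) hg hcon h1
  · exact lemB (a := 1) (b := 3) (c := 0) (l := 2) (m := 4) hD hP hw2 h (by decide) (by decide)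
      (by decide) (by decide) (by decide) (by decide) (by decide) (by decide) (by decide)
      (by decide) hg hcon h1
  · exact lemB (a := 0) (b := 3) (c := 1) (l := 2) (m := 4) hD hP hw2 h (by decide) (by decide)
      (by decide) (by decide) (by decide) (by decide) (by decide) (by decide) (by decide)
      (by decide) hg hcon h1
  · exact lemB (a := 1) (b := 2) (c := 0) (l := 3) (m := 4) hD hP hw2 h (by decide) (by decide)
      (by decide) (by decide) (by decide) (by decide) (by decide) (by decide) (by decide)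
      (by decide) hg hcon h1

theorem t_inj (h : Good D φ) {a b c d : Fin 5} (hab : a ≠ b) (hcd : c ≠ d)
    (he : φ (Equiv.swap a b) = φ (Equiv.swap c d)) : (a = c ∧ b = d) ∨ (a = d ∧ b = c) := by
  by_cases hac : a = c
  · subst hac
    by_cases hbd : b = d
    · exact Or.inl ⟨rfl, hbd⟩
    · exfalso
      apply h.tnc hab.symm hbd hcd
      rw [Equiv.swap_comm b a, he]
  by_cases had : a = d
  · subst had
    by_cases hbc : b = c
    · exact Or.inr ⟨rfl, hbc⟩
    · exfalso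
      apply h.tnc hab.symm hbc hcd.symm
      rw [Equiv.swap_comm b a, he, Equiv.swap_comm c a]
  by_cases hbc : b = c
  · subst hbc
    exfalso
    apply h.tnc hab had hcd
    rw [he]
  by_cases hbd : b = d
  · subst hbd
    exfalso
    apply h.tnc hab hac hcd.symm
    rw [he, Equiv.swap_comm c b]
  exact absurd he (h.tne hab hac had hbc hbd hcd)

theorem injective_of_good (h : Good D φ) : Function.Injective φ := by
  rw [injective_iff_map_eq_one]
  intro σ hσ
  ext i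
  by_contra hne
  have hne' : σ i ≠ i := fun hh => hne (by rw [hh]; rfl)
  obtain ⟨j, hj1, hj2⟩ := exists_ne2 i (σ i)
  have h1 := map_swap_conj φ σ i j
  rw [hσ, one_mul, inv_one, mul_one] at h1
  rcases t_inj h (fun hh => hj1 (σ.injective hh).symm) hj1.symm h1 with h2 | h2
  · exact hne' h2.1
  · exact hj2 h2.1.symm

theorem bijective_of_good [Finite G] (hD : IsThreeTranspositionClass D) (hP : Prim D)
    (hw2 : ∀ y ∈ D, ∀ p ∈ Dn D y, ∀ q ∈ Dn D y, q ∉ Dn D p) (h : Good D φ) :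
    Function.Bijective φ := by
  refine ⟨injective_of_good h, ?_⟩
  rw [← MonoidHom.range_eq_top, eq_top_iff, ← hD.2.2, Subgroup.closure_le]
  intro g hg
  obtain ⟨i, j, -, rfl⟩ := mem_T hD hP hw2 h hg
  exact ⟨_, rfl⟩

end

theorem iso_S5 [Finite G] (hD : IsThreeTranspositionClass D) (hP : Prim D)
    (hW : ∀ u ∈ D, ∀ v ∈ Dn D u, ∃ v', Wr D u v v') {d a : G} (hd : d ∈ D) (ha : a ∈ Dn D d) :
    Nonempty (G ≃* Equiv.Perm (Fin 5)) := by
  have hS := hD.1
  have hconj := hconj_of_class hD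
  have hw2 : ∀ y ∈ D, ∀ p ∈ Dn D y, ∀ q ∈ Dn D y, q ∉ Dn D p :=
    fun y hy p hp q hq hqp => inter_empty hD hP hW hy hp hq hqp
  have haD := ha.1
  obtain ⟨b, hWb⟩ := hW d hd a ha
  have hbD := hWb.2.1.1
  have hda' : d ∈ Dn D a := ⟨hd, ha.2.1.symm, ha.2.2.symm⟩
  obtain ⟨e, he, heb⟩ : ∃ e ∈ Dn D a, e ∉ Dn D b := by
    by_contra hcon
    push Not at hcon
    have := eq_of_Dn_subset hD hP haD hbD ⟨d, hda'⟩ hcon
    apply hWb.2.2.1
    rw [this]
  obtain ⟨hde, -⟩ := step2 hS hconj hd hWb he heb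
  have heD := he.1
  have hebc : ¬ Commute e b := by
    intro h
    apply heb
    refine ⟨heD, ?_, h.symm⟩
    rintro rfl
    exact hWb.2.2.1 he.2.2
  obtain ⟨φ, f0, f1, f2, f3⟩ := exists_path_hom hS hd heD hbD haD hde hebc
    (fun h => hWb.2.2.1 h.symm) hWb.2.1.2.2 ha.2.2 he.2.2.symm
  have hgood : Good D φ := by
    refine ⟨?_, ?_, ?_⟩
    · rw [f0]; exact hd
    · rw [f0, f1]; exact hde
    · rw [f0, f2]; exact hWb.2.1.2.1.symm
  exact ⟨(MulEquiv.ofBijective φ (bijective_of_good hD hP hw2 hgood)).symm⟩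

end Cfsg.Agent.Lib.Helper91F2
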