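import Mathlib

/-!
Counting lemma for project PG, piece Five: a group normalising `Q` acts on pairs of elements of `Q`.
-/

set_option autoImplicit false

namespace Cfsg.Agent.Lib.Helper91FiveCount

theorem card_le_of_normalizes {G : Type*} [Group G] [Finite G] (Q Y : Subgroup G) (x y : G)
    (hx : x ∈ Q) (hy : y ∈ Q) (hY : ∀ g ∈ Y, ∀ q ∈ Q, g * q * g⁻¹ ∈ Q) (n : ℕ)
    (hc : Nat.card (Subgroup.centralizer {x} ⊓ Subgroup.centralizer {y} : Subgroup G) ≤ n) :
    Nat.card Y ≤ Nat.card Q * Nat.card Q * n := by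
  classical
  haveI := Fintype.ofFinite Y
  haveI := Fintype.ofFinite Q
  let f : Y → Q × Q := fun g =>
    (⟨(g : G) * x * (g : G)⁻¹, hY g g.2 x hx⟩, ⟨(g : G) * y * (g : G)⁻¹, hY g g.2 y hy⟩)
  have h1 := Finset.card_le_mul_card_image (f := f) (Finset.univ : Finset Y) n (by
    intro a ha
    obtain ⟨g0, -, rfl⟩ := Finset.mem_image.1 ha
    haveI := Fintype.ofFinite (Subgroup.centralizer {x} ⊓ Subgroup.centralizer {y} : Subgroup G)
    rw [← Fintype.card_subtype]
    rw [Nat.card_eq_fintype_card] at hc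
    refine le_trans (Fintype.card_le_of_injective
      (fun g : {g : Y // f g = f g0} =>
        (⟨((g0 : G))⁻¹ * ((g : Y) : G), by
          have h := g.2
          have e1 : ((g : Y) : G) * x * ((g : Y) : G)⁻¹ = (g0 : G) * x * (g0 : G)⁻¹ :=
            congrArg (fun p : Q × Q => ((p.1 : Q) : G)) h
          have e2 : ((g : Y) : G) * y * ((g : Y) : G)⁻¹ = (g0 : G) * y * (g0 : G)⁻¹ :=
            congrArg (fun p : Q × Q => ((p.2 : Q) : G)) h
          refine Subgroup.mem_inf.2 ⟨?_, ?_⟩
          · rw [Subgroup.mem_centralizer_singleton_iff]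
            have : ((g : Y) : G) * x = (g0 : G) * x * (g0 : G)⁻¹ * ((g : Y) : G) := by
              rw [← e1]; group
            calc (g0 : G)⁻¹ * ((g : Y) : G) * x = (g0 : G)⁻¹ * (((g : Y) : G) * x) := by group
              _ = x * ((g0 : G)⁻¹ * ((g : Y) : G)) := by rw [this]; group
          · rw [Subgroup.mem_centralizer_singleton_iff]
            have : ((g : Y) : G) * y = (g0 : G) * y * (g0 : G)⁻¹ * ((g : Y) : G) := by
              rw [← e2]; group
            calc (g0 : G)⁻¹ * ((g : Y) : G) * y = (g0 : G)⁻¹ * (((g : Y) : G) * y) := by group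
              _ = y * ((g0 : G)⁻¹ * ((g : Y) : G)) := by rw [this]; group⟩ :
          (Subgroup.centralizer {x} ⊓ Subgroup.centralizer {y} : Subgroup G))) ?_) hc
    intro g g' h
    have := congrArg (fun c : (Subgroup.centralizer {x} ⊓ Subgroup.centralizer {y} : Subgroup G) => (c : G)) h
    simp only [mul_right_inj] at this
    exact Subtype.ext (Subtype.ext this))
  have h2 : (Finset.univ.image f).card ≤ Fintype.card (Q × Q) := Finset.card_le_univ _
  rw [Fintype.card_prod] at h2
  rw [Nat.card_eq_fintype_card, Nat.card_eq_fintype_card]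
  calc Fintype.card Y = (Finset.univ : Finset Y).card := rfl
    _ ≤ n * (Finset.univ.image f).card := h1
    _ ≤ n * (Fintype.card Q * Fintype.card Q) := Nat.mul_le_mul_left _ h2
    _ = Fintype.card Q * Fintype.card Q * n := by ring

end Cfsg.Agent.Lib.Helper91FiveCount
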