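import Mathlib
import Cfsg.Agent.Lib.Helper91F2

set_option autoImplicit false

/-! 3-transposition sets in which every `D_d` is a line of three pairwise non-commuting elements:
the local analysis and the `S₅` case. -/

namespace Cfsg.Agent.Lib.Helper91G1

open Cfsg
open Cfsg.Agent.Lib.Helper91Trans Cfsg.Agent.Lib.Helper91V Cfsg.Agent.Lib.Helper60TTa
  Cfsg.Agent.Lib.Helper60TTb Cfsg.Agent.Lib.Helper60TTc Cfsg.Agent.Lib.Helper60TTd
  Cfsg.Agent.Lib.Helper91F1 Cfsg.Agent.Lib.Helper91F2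

variable {G : Type*} [Group G] {D : Set G}

/-- every `D_d` is a line. -/
structure Loc (D : Set G) : Prop where
  ex : ∀ d ∈ D, ∃ x ∈ Dn D d, ∃ y ∈ Dn D d, x ≠ y
  nc : ∀ d ∈ D, ∀ x ∈ Dn D d, ∀ y ∈ Dn D d, x ≠ y → ¬ Commute x y
  line : ∀ d ∈ D, ∀ x ∈ Dn D d, ∀ y ∈ Dn D d, x ≠ y → ∀ p ∈ Dn D d,
    p = x ∨ p = y ∨ p = x * y * x

theorem s3_nc : ∀ a b : Equiv.Perm (Fin 3), a * a = 1 → b * b = 1 → a ≠ 1 → b ≠ 1 → a ≠ b →
    a * b ≠ b * a := by decide +kernel

set_option synthInstance.maxHeartbeats 400000 in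
set_option synthInstance.maxSize 2000 in
theorem s3_line : ∀ a b c : Equiv.Perm (Fin 3), a * a = 1 → b * b = 1 → c * c = 1 → a ≠ 1 →
    b ≠ 1 → c ≠ 1 → a ≠ b → c = a ∨ c = b ∨ c = a * b * a := by decide +kernel

theorem s3_noncomm : ∃ a b : Equiv.Perm (Fin 3), a * b ≠ b * a := by decide +kernel

theorem s3_center : ∀ a : Equiv.Perm (Fin 3), (∀ b, a * b = b * a) → a = 1 := by decide +kernel

theorem loc_of_iso (hS : IsThreeTranspositionSet D)
    (hloc : ∀ d ∈ D, Nonempty (↥(Subgroup.closure (Dn D d)) ≃* Equiv.Perm (Fin 3))) : Loc D := by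
  have key : ∀ d ∈ D, ∀ e : ↥(Subgroup.closure (Dn D d)) ≃* Equiv.Perm (Fin 3),
      ∀ x (hx : x ∈ Dn D d), e ⟨x, Subgroup.subset_closure hx⟩ * e ⟨x, Subgroup.subset_closure hx⟩ = 1
        ∧ e ⟨x, Subgroup.subset_closure hx⟩ ≠ 1 := by
    intro d hd e x hx
    constructor
    · rw [← map_mul]
      have : (⟨x, Subgroup.subset_closure hx⟩ : ↥(Subgroup.closure (Dn D d))) *
          ⟨x, Subgroup.subset_closure hx⟩ = 1 := Subtype.ext (sq_one hS hx.1)
      rw [this, map_one]
    · intro h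
      have h1 := (map_eq_one_iff e e.injective).1 h
      exact ne_one hS hx.1 (congrArg Subtype.val h1)
  refine ⟨?_, ?_, ?_⟩
  · intro d hd
    obtain ⟨e⟩ := hloc d hd
    by_contra hcon
    push Not at hcon
    obtain ⟨a, b, hab⟩ := s3_noncomm
    apply hab
    have hc : ∀ u ∈ Subgroup.closure (Dn D d), ∀ v ∈ Subgroup.closure (Dn D d), u * v = v * u := by
      intro u hu v hv
      have h1 : Subgroup.closure (Dn D d) ≤ Subgroup.centralizer (Dn D d) := by
        rw [Subgroup.closure_le]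
        intro p hp
        rw [SetLike.mem_coe, Subgroup.mem_centralizer_iff]
        intro q hq
        rw [hcon p hp q hq]
      have h2 : Subgroup.closure (Dn D d) ≤ Subgroup.centralizer (Subgroup.closure (Dn D d) : Set G) := by
        rw [Subgroup.centralizer_closure]
        exact h1
      exact ((Subgroup.mem_centralizer_iff.1 (h2 hu)) v hv).symm
    have h3 := hc _ (e.symm a).2 _ (e.symm b).2
    have h4 : e.symm a * e.symm b = e.symm b * e.symm a := Subtype.ext h3
    have h5 := congrArg e h4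
    simpa using h5
  · intro d hd x hx y hy hne hc
    obtain ⟨e⟩ := hloc d hd
    obtain ⟨a1, a2⟩ := key d hd e x hx
    obtain ⟨b1, b2⟩ := key d hd e y hy
    refine s3_nc _ _ a1 b1 a2 b2 ?_ ?_
    · intro h
      exact hne (congrArg Subtype.val (e.injective h))
    · rw [← map_mul, ← map_mul]
      congr 1
      exact Subtype.ext hc.eq
  · intro d hd x hx y hy hne p hp
    obtain ⟨e⟩ := hloc d hd
    obtain ⟨a1, a2⟩ := key d hd e x hx
    obtain ⟨b1, b2⟩ := key d hd e y hy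
    obtain ⟨c1, c2⟩ := key d hd e p hp
    rcases s3_line _ _ _ a1 b1 c1 a2 b2 c2
      (fun h => hne (congrArg Subtype.val (e.injective h))) with h | h | h
    · exact Or.inl (congrArg Subtype.val (e.injective h))
    · exact Or.inr (Or.inl (congrArg Subtype.val (e.injective h)))
    · rw [← map_mul, ← map_mul] at h
      exact Or.inr (Or.inr (congrArg Subtype.val (e.injective h)))

theorem Loc.hw2 (hL : Loc D) : ∀ y ∈ D, ∀ p ∈ Dn D y, ∀ q ∈ Dn D y, q ∉ Dn D p := by
  intro y hy p hp q hq hqp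
  exact hL.nc y hy p hp q hq hqp.2.1.symm hqp.2.2

section
variable {φ : Equiv.Perm (Fin 5) →* G}

theorem mem_T_aux (hconj : ∀ g : G, ∀ d ∈ D, g * d * g⁻¹ ∈ D) (hL : Loc D) (h : Good D φ)
    {a b c l m : Fin 5}
    (hab : a ≠ b) (hac : a ≠ c) (hal : a ≠ l) (ham : a ≠ m) (hbc : b ≠ c) (hbl : b ≠ l)
    (hbm : b ≠ m) (hcl : c ≠ l) (hcm : c ≠ m) (hlm : l ≠ m) {g : G} (hg : g ∈ D)
    (c1 : Commute g (φ (Equiv.swap a b))) : ∃ i j : Fin 5, i ≠ j ∧ g = φ (Equiv.swap i j) := by
  by_cases h0 : g = φ (Equiv.swap a b)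
  · exact ⟨a, b, hab, h0⟩
  have htD := h.tD hconj hab
  have hg' : g ∈ Dn D (φ (Equiv.swap a b)) := ⟨hg, h0, c1.symm⟩
  have h1 : φ (Equiv.swap c l) ∈ Dn D (φ (Equiv.swap a b)) :=
    ⟨h.tD hconj hcl, (h.tne hab hac hal hbc hbl hcl).symm, tcomm φ hac hal hbc hbl⟩
  have h2 : φ (Equiv.swap l m) ∈ Dn D (φ (Equiv.swap a b)) :=
    ⟨h.tD hconj hlm, (h.tne hab hal ham hbl hbm hlm).symm, tcomm φ hal ham hbl hbm⟩
  have hne : φ (Equiv.swap c l) ≠ φ (Equiv.swap l m) := by
    intro hh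
    apply h.tnc hcl hcm hlm
    rw [hh]
  rcases hL.line _ htD _ h1 _ h2 hne g hg' with h3 | h3 | h3
  · exact ⟨c, l, hcl, h3⟩
  · exact ⟨l, m, hlm, h3⟩
  · rw [tconj φ hcl hcm hlm] at h3
    exact ⟨c, m, hcm, h3⟩

theorem mem_T' (hS : IsThreeTranspositionSet D) (hconj : ∀ g : G, ∀ d ∈ D, g * d * g⁻¹ ∈ D)
    (hL : Loc D) (h : Good D φ) {g : G} (hg : g ∈ D) :
    ∃ i j : Fin 5, i ≠ j ∧ g = φ (Equiv.swap i j) := by
  rcases lemX (i := 0) (j := 1) (k := 2) (l := 3) hS hconj hL.hw2 h (by decide) (by decide)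
    (by decide) (by decide) (by decide) (by decide) hg with h1 | h1 | h1 | h1 | h1 | h1
  · exact mem_T_aux (a := 0) (b := 1) (c := 2) (l := 3) (m := 4) hconj hL h (by decide) (by decide)
      (by decide) (by decide) (by decide) (by decide) (by decide) (by decide) (by decide)
      (by decide) hg h1
  · exact mem_T_aux (a := 2) (b := 3) (c := 0) (l := 1) (m := 4) hconj hL h (by decide) (by decide)
      (by decide) (by decide) (by decide) (by decide) (by decide) (by decide) (by decide)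
      (by decide) hg h1
  · exact mem_T_aux (a := 0) (b := 2) (c := 1) (l := 3) (m := 4) hconj hL h (by decide) (by decide)
      (by decide) (by decide) (by decide) (by decide) (by decide) (by decide) (by decide)
      (by decide) hg h1
  · exact mem_T_aux (a := 1) (b := 3) (c := 0) (l := 2) (m := 4) hconj hL h (by decide) (by decide)
      (by decide) (by decide) (by decide) (by decide) (by decide) (by decide) (by decide)
      (by decide) hg h1
  · exact mem_T_aux (a := 0) (b := 3) (c := 1) (l := 2) (m := 4) hconj hL h (by decide) (by decide)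
      (by decide) (by decide) (by decide) (by decide) (by decide) (by decide) (by decide)
      (by decide) hg h1
  · exact mem_T_aux (a := 1) (b := 2) (c := 0) (l := 3) (m := 4) hconj hL h (by decide) (by decide)
      (by decide) (by decide) (by decide) (by decide) (by decide) (by decide) (by decide)
      (by decide) hg h1

theorem range_eq (hS : IsThreeTranspositionSet D) (hconj : ∀ g : G, ∀ d ∈ D, g * d * g⁻¹ ∈ D)
    (hL : Loc D) (h : Good D φ) : φ.range = Subgroup.closure D := by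
  apply le_antisymm
  · rw [MonoidHom.range_eq_map, ← Equiv.Perm.closure_isSwap, MonoidHom.map_closure,
      Subgroup.closure_le]
    rintro _ ⟨σ, ⟨i, j, hij, rfl⟩, rfl⟩
    exact Subgroup.subset_closure (h.tD hconj hij)
  · rw [Subgroup.closure_le]
    intro g hg
    obtain ⟨i, j, -, rfl⟩ := mem_T' hS hconj hL h hg
    exact ⟨_, rfl⟩

end

/-- the `S₅` case. -/
theorem caseA (hS : IsThreeTranspositionSet D) (hconj : ∀ g : G, ∀ d ∈ D, g * d * g⁻¹ ∈ D)
    (hL : Loc D) {d x y p : G} (hd : d ∈ D) (hx : x ∈ Dn D d) (hy : y ∈ Dn D d) (hxy : x ≠ y)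
    (hp : p ∈ Dn D x) (hpd : p ≠ d) (hpy : ¬ Commute p y) :
    Nonempty (↥(Subgroup.closure D) ≃* Equiv.Perm (Fin 5)) := by
  have hdx : d ∈ Dn D x := ⟨hd, hx.2.1.symm, hx.2.2.symm⟩
  have hdp : ¬ Commute d p := hL.nc x hx.1 d hdx p hp hpd.symm
  obtain ⟨φ, f0, f1, f2, f3⟩ := exists_path_hom hS hd hp.1 hy.1 hx.1 hdp hpy
    (hL.nc d hd y hy x hx hxy.symm) hy.2.2 hx.2.2 hp.2.2.symm
  have hgood : Good D φ := by
    refine ⟨?_, ?_, ?_⟩
    · rw [f0]; exact hd
    · rw [f0, f1]; exact hdp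
    · rw [f0, f2]; exact hy.2.1.symm
  have e1 := MonoidHom.ofInjective (injective_of_good hgood)
  exact ⟨(e1.trans (MulEquiv.subgroupCongr (range_eq hS hconj hL hgood))).symm⟩

end Cfsg.Agent.Lib.Helper91G1
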