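import Mathlib
import Cfsg.Agent.Lib.Helper91G1
import Cfsg.Agent.S5350

set_option autoImplicit false

/-! 3-transposition sets in which every `D_d` is a line: the `S₃ × S₃` case. -/

namespace Cfsg.Agent.Lib.Helper91G2

open Cfsg
open Cfsg.Agent.Lib.Helper91Trans Cfsg.Agent.Lib.Helper91V Cfsg.Agent.Lib.Helper60TTa
  Cfsg.Agent.Lib.Helper60TTb Cfsg.Agent.Lib.Helper60TTc Cfsg.Agent.Lib.Helper60TTd
  Cfsg.Agent.Lib.Helper60TTe Cfsg.Agent.Lib.Helper60TTf
  Cfsg.Agent.Lib.Helper91F1 Cfsg.Agent.Lib.Helper91F2 Cfsg.Agent.Lib.Helper91G1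
  Cfsg.Agent.S5350

variable {G : Type*} [Group G] {D : Set G}

/-! ### products of `W`-related pairs generate a normal 3-subgroup (no transitivity needed) -/

theorem MW_le_normalizer' (hS : IsThreeTranspositionSet D)
    (hconj : ∀ g : G, ∀ d ∈ D, g * d * g⁻¹ ∈ D) {x : G} (hx : x ∈ D) :
    MW D ≤ Subgroup.normalizer {y | WR D x y} := by
  unfold MW
  rw [Subgroup.closure_le]
  rintro _ ⟨u, v, huv, rfl⟩
  have hxx : x ∈ {y | WR D x y} := ⟨hx, hx, rfl⟩
  have main : ∀ h : G, h * x * h⁻¹ = u → u * v ∈ Subgroup.normalizer {y | WR D x y} := by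
    intro h hh
    have hv' : h⁻¹ * v * h ∈ {y | WR D x y} := by
      have := huv.conj hconj h⁻¹
      rw [← hh] at this
      have e : h⁻¹ * (h * x * h⁻¹) * h⁻¹⁻¹ = x := by group
      rw [e, inv_inv] at this
      exact this
    have key := Cfsg.Agent.Lib.Helper60TTa.mul_conj_mem hS hconj (B := {y | WR D x y})
      (fun y hy => hy.2.1) (blk_W hconj x) hxx hv' hxx h
    have e : h * (h⁻¹ * v * h) * h⁻¹ = v := by group
    rw [hh, e] at key
    exact mem_normalizer_of_conj_mem (blk_W hconj x) hxx key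
  by_cases hxu : x = u
  · exact main 1 (by simp [hxu])
  by_cases hc : Commute u x
  · have h1 : x ∈ Dn D u := ⟨hx, hxu, hc⟩
    have h2 : x ∈ Dn D v := huv.2.2 ▸ h1
    apply mem_normalizer_of_conj_mem (blk_W hconj x) hxx
    have h3 : Commute (u * v) x := hc.mul_left h2.2.2
    have h4 : u * v * x * (u * v)⁻¹ = x := by
      rw [h3.eq, mul_assoc, mul_inv_cancel, mul_one]
    rw [h4]
    exact hxx
  · apply main (x * u)
    have b := braid hS huv.1 hx hc
    rw [_root_.mul_inv_rev, inv_eq hS hx, inv_eq hS huv.1]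
    calc x * u * x * (u * x) = x * (u * x * u) * x := by group
      _ = (x * x) * u * (x * x) := by rw [b]; group
      _ = u := by rw [sq_one hS hx, one_mul, mul_one]

theorem MW_isPGroup' [Finite G] (hS : IsThreeTranspositionSet D)
    (hconj : ∀ g : G, ∀ d ∈ D, g * d * g⁻¹ ∈ D) : IsPGroup 3 (MW D) := by
  have hnorm : ∀ x ∈ D, ((XW D x).subgroupOf (MW D)).Normal := by
    intro x hx
    rw [Subgroup.normal_subgroupOf_iff_le_normalizer (XW_le_MW x)]
    intro m hm
    have h1 := MW_le_normalizer' hS hconj hx hm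
    have h2 := MW_le_normalizer' hS hconj hx ((MW D).inv_mem hm)
    rw [Subgroup.mem_set_normalizer_iff] at h1 h2
    apply Cfsg.Agent.Lib.Helper5BaerSuzuki.mem_normalizer_closure
    · rintro _ ⟨u, hu, v, hv, rfl⟩
      exact ⟨m * u * m⁻¹, (h1 u).mp hu, m * v * m⁻¹, (h1 v).mp hv, by group⟩
    · rintro _ ⟨u, hu, v, hv, rfl⟩
      refine ⟨m⁻¹ * u * m, ?_, m⁻¹ * v * m, ?_, by group⟩
      · have := (h2 u).mp hu
        rwa [inv_inv] at this
      · have := (h2 v).mp hv
        rwa [inv_inv] at this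
  have hle : ∀ x ∈ D, (XW D x).subgroupOf (MW D) ≤ Cfsg.pCore 3 (MW D) := by
    intro x hx
    exact le_pCore (hnorm x hx) ((XW_isPGroup hS hconj x).comap_subtype)
  have hall : ∀ m (hm : m ∈ MW D), (⟨m, hm⟩ : MW D) ∈ Cfsg.pCore 3 (MW D) := by
    intro m hm
    induction hm using Subgroup.closure_induction with
    | mem z hz =>
      obtain ⟨u, v, huv, rfl⟩ := hz
      apply hle u huv.1
      rw [Subgroup.mem_subgroupOf]
      exact Subgroup.subset_closure ⟨u, ⟨huv.1, huv.1, rfl⟩, v, huv, rfl⟩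
    | one => exact Subgroup.one_mem _
    | mul a b ha hb iha ihb => exact Subgroup.mul_mem _ iha ihb
    | inv a ha iha => exact Subgroup.inv_mem _ iha
  rintro ⟨m, hm⟩
  obtain ⟨k, hk⟩ := pCore_isPGroup 3 (MW D) ⟨⟨m, hm⟩, hall m hm⟩
  exact ⟨k, congrArg Subtype.val hk⟩

theorem MW_normal' (hconj : ∀ g : G, ∀ d ∈ D, g * d * g⁻¹ ∈ D) : (MW D).Normal := by
  apply closure_normal
  rintro _ ⟨u, v, huv, rfl⟩ g
  exact ⟨g * u * g⁻¹, g * v * g⁻¹, huv.conj hconj g, by group⟩

theorem mul_mem_MW {u v : G} (h : WR D u v) : u * v ∈ MW D :=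
  Subgroup.subset_closure ⟨u, v, h, rfl⟩

/-! ### case B -/

/-- the hypothesis of case B -/
def HB (D : Set G) : Prop :=
  ∀ d ∈ D, ∀ x ∈ Dn D d, ∀ y ∈ Dn D d, x ≠ y → ∀ p ∈ Dn D x, p ≠ d → Commute p y

theorem Dn_symm {a b : G} (ha : a ∈ D) (h : b ∈ Dn D a) : a ∈ Dn D b :=
  ⟨ha, h.2.1.symm, h.2.2.symm⟩

theorem Dn_eq (hL : Loc D) (hB : HB D) {d x y : G} (hd : d ∈ D) (hx : x ∈ Dn D d)
    (hy : y ∈ Dn D d) : Dn D x = Dn D y := by
  have aux : ∀ x ∈ Dn D d, ∀ y ∈ Dn D d, Dn D x ⊆ Dn D y := by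
    intro x hx y hy p hp
    by_cases hxy : x = y
    · rw [← hxy]; exact hp
    by_cases hpd : p = d
    · rw [hpd]; exact Dn_symm hd hy
    have hc := hB d hd x hx y hy hxy p hp hpd
    refine ⟨hp.1, ?_, hc.symm⟩
    rintro rfl
    exact hL.nc d hd x hx p hy hxy hp.2.2
  exact Set.Subset.antisymm (aux x hx y hy) (aux y hy x hx)

theorem WR_of_mem (hL : Loc D) (hB : HB D) {d x y : G} (hd : d ∈ D) (hx : x ∈ Dn D d)
    (hy : y ∈ Dn D d) : WR D x y := ⟨hx.1, hy.1, Dn_eq hL hB hd hx hy⟩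

theorem not_comm_prod (hS : IsThreeTranspositionSet D) {g x x' : G} (hg : g ∈ D) (hx : x ∈ D)
    (hx' : x' ∈ D) (hne : x ≠ x') (h1 : ¬ Commute g x) (h2 : ¬ Commute g x') :
    ¬ Commute g (x * x') := by
  intro hc
  have hgg := sq_one hS hg
  have hxx := sq_one hS hx
  have hxx' := sq_one hS hx'
  have b1 := braid hS hg hx h1
  have b2 := braid hS hg hx' h2
  have E1 : g * (x * x') * g = x * x' := by rw [hc.eq, mul_assoc, hgg, mul_one]
  have E2 : g * (x * x') * g = (x * g * x) * (x' * g * x') := by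
    rw [← b1, ← b2]
    calc g * (x * x') * g = g * x * 1 * x' * g := by group
      _ = g * x * (g * g) * x' * g := by rw [hgg]
      _ = _ := by group
  have E3 : g * (x * x') * g = 1 := by
    calc g * (x * x') * g = (x * x) * (g * (x * x') * g) * (x' * x') := by
          rw [hxx, hxx', one_mul, mul_one]
      _ = x * ((x * g * x) * (x' * g * x')) * x' := by group
      _ = x * (x * x') * x' := by rw [← E2, E1]
      _ = (x * x) * (x' * x') := by group
      _ = 1 := by rw [hxx, hxx', one_mul]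
  rw [E1] at E3
  apply hne
  rw [← inv_eq hS hx']
  exact eq_inv_of_mul_eq_one_left E3

theorem third (hS : IsThreeTranspositionSet D) (hconj : ∀ g : G, ∀ d ∈ D, g * d * g⁻¹ ∈ D)
    (hL : Loc D) {d x y : G} (hd : d ∈ D) (hx : x ∈ Dn D d) (hy : y ∈ Dn D d) (hne : x ≠ y) :
    x * y * x ∈ Dn D d ∧ x * y * x ≠ x ∧ x * y * x ≠ y := by
  have hnc := hL.nc d hd x hx y hy hne
  have hxx := sq_one hS hx.1
  refine ⟨⟨?_, ?_, ?_⟩, ?_, ?_⟩
  · have := hconj x y hy.1
    rwa [inv_eq hS hx.1] at this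
  · intro h
    apply hy.2.1
    calc y = (x * x) * y * (x * x) := by rw [hxx, one_mul, mul_one]
      _ = x * (x * y * x) * x := by group
      _ = x * d * x := by rw [h]
      _ = d * (x * x) := by rw [← hx.2.2.eq]; group
      _ = d := by rw [hxx, mul_one]
  · exact (hx.2.2.mul_right hy.2.2).mul_right hx.2.2
  · intro h
    apply hne
    have h1 : x * y = 1 := by
      have : x * y * x = 1 * x := by rw [h, one_mul]
      exact mul_right_cancel this
    rw [← inv_eq hS hy.1]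
    exact eq_inv_of_mul_eq_one_left h1
  · intro h
    apply hnc
    show x * y = y * x
    calc x * y = x * y * (x * x) := by rw [hxx, mul_one]
      _ = (x * y * x) * x := by group
      _ = y * x := by rw [h]

/-- a `K_{3,3}` configuration -/
structure Cfg (D : Set G) (d d' x x' : G) : Prop where
  hd : d ∈ D
  hx : x ∈ Dn D d
  hx' : x' ∈ Dn D d
  hxx : x ≠ x'
  hd' : d' ∈ Dn D x
  hdd : d ≠ d'

/-- `g` lies outside the component -/
def Out (D : Set G) (d x g : G) : Prop := g ∈ D ∧ g ∉ Dn D d ∧ g ∉ Dn D x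

section cfg
variable {d d' x x' : G}

theorem Cfg.swap (hL : Loc D) (hB : HB D) (c : Cfg D d d' x x') : Cfg D d d' x' x :=
  ⟨c.hd, c.hx', c.hx, c.hxx.symm, by rw [← Dn_eq hL hB c.hd c.hx c.hx']; exact c.hd', c.hdd⟩

theorem comm_LL (hL : Loc D) (hB : HB D) (hd : d ∈ D) (hx : x ∈ Dn D d) {a b : G}
    (ha : a ∈ Dn D x) (hb : b ∈ Dn D d) : a ∈ Dn D b := by
  rw [Dn_eq hL hB hd hb hx]; exact ha

theorem Out.ncL (hL : Loc D) (hB : HB D) (hd : d ∈ D) (hx : x ∈ Dn D d) {g : G}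
    (hg : Out D d x g) {a : G} (ha : a ∈ Dn D x) : ¬ Commute g a := by
  intro hc
  by_cases h : g = a
  · exact hg.2.2 (h ▸ ha)
  · apply hg.2.1
    rw [← Dn_eq hL hB hx.1 ha (Dn_symm hd hx)]
    exact ⟨hg.1, h, hc.symm⟩

theorem Out.ncL' (hL : Loc D) (hB : HB D) (hd : d ∈ D) (hx : x ∈ Dn D d) {g : G}
    (hg : Out D d x g) {b : G} (hb : b ∈ Dn D d) : ¬ Commute g b := by
  intro hc
  by_cases h : g = b
  · exact hg.2.1 (h ▸ hb)
  · apply hg.2.2
    rw [← Dn_eq hL hB hd hb hx]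
    exact ⟨hg.1, h, hc.symm⟩

theorem Out.of_mem (hL : Loc D) (hB : HB D) (hd : d ∈ D) (hx : x ∈ Dn D d) {g h : G}
    (hg : Out D d x g) (hh : h ∈ Dn D g) : Out D d x h := by
  refine ⟨hh.1, ?_, ?_⟩
  · intro h1
    exact Out.ncL' hL hB hd hx hg h1 hh.2.2
  · intro h1
    exact Out.ncL hL hB hd hx hg h1 hh.2.2

theorem Out.swap (hL : Loc D) (hB : HB D) (c : Cfg D d d' x x') {g : G} (hg : Out D d x g) :
    Out D d x' g := ⟨hg.1, hg.2.1, by rw [← Dn_eq hL hB c.hd c.hx c.hx']; exact hg.2.2⟩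

theorem comm_of_conj_eq {g s t : G} (h : s * g * s⁻¹ = t * g * t⁻¹) : Commute g (t⁻¹ * s) := by
  show g * (t⁻¹ * s) = t⁻¹ * s * g
  calc g * (t⁻¹ * s) = t⁻¹ * (t * g * t⁻¹) * s := by group
    _ = t⁻¹ * (s * g * s⁻¹) * s := by rw [h]
    _ = t⁻¹ * s * g := by group

theorem comm_of_P_eq (hS : IsThreeTranspositionSet D) (hL : Loc D) (hB : HB D) (hd : d ∈ D)
    (hx : x ∈ Dn D d) {g a a' b b' : G} (ha : a ∈ Dn D x) (ha' : a' ∈ Dn D x)
    (hb' : b' ∈ Dn D d)
    (h : (a * b) * g * (a * b)⁻¹ = (a' * b') * g * (a' * b')⁻¹) :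
    Commute g ((a' * a) * (b' * b)) := by
  have h1 := comm_of_conj_eq h
  have c1 : Commute b' a := (comm_LL hL hB hd hx ha hb').2.2
  have c2 : Commute b' a' := (comm_LL hL hB hd hx ha' hb').2.2
  have e : (a' * b')⁻¹ * (a * b) = (a' * a) * (b' * b) := by
    rw [_root_.mul_inv_rev, inv_eq hS ha'.1, inv_eq hS hb'.1]
    calc b' * a' * (a * b) = (b' * (a' * a)) * b := by group
      _ = ((a' * a) * b') * b := by rw [(c2.mul_right c1).eq]
      _ = _ := by group
  rwa [e] at h1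

theorem P_mem (hS : IsThreeTranspositionSet D) (hconj : ∀ g : G, ∀ d ∈ D, g * d * g⁻¹ ∈ D)
    (hL : Loc D) (hB : HB D) (hd : d ∈ D)
    (hx : x ∈ Dn D d) {g a b : G} (hg : Out D d x g) (ha : a ∈ Dn D x) (hb : b ∈ Dn D d) :
    (a * b) * g * (a * b)⁻¹ ∈ Dn D g :=
  str hS hconj ha.1 hb.1 hg.1 (comm_LL hL hB hd hx ha hb).2.2.symm
    (comm_LL hL hB hd hx ha hb).2.1 (Out.ncL hL hB hd hx hg ha) (Out.ncL' hL hB hd hx hg hb)

theorem exists_comm (hS : IsThreeTranspositionSet D) (hconj : ∀ g : G, ∀ d ∈ D, g * d * g⁻¹ ∈ D)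
    (hL : Loc D) (hB : HB D) (c : Cfg D d d' x x') {g : G} (hg : Out D d x g) :
    Commute g ((d * d') * (x * x')) ∨ Commute g ((d * d') * (x' * x)) := by
  have hd := c.hd
  have hx := c.hx
  have hdx : d ∈ Dn D x := Dn_symm hd hx
  obtain ⟨t1, t2, t3⟩ := third hS hconj hL hx.1 hdx c.hd' c.hdd
  have hdd := sq_one hS hd
  have hxx := sq_one hS hx.1
  have p1 := P_mem hS hconj hL hB hd hx hg hdx hx
  have p2 := P_mem hS hconj hL hB hd hx hg c.hd' hx
  have p3 := P_mem hS hconj hL hB hd hx hg t1 hx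
  have q := P_mem hS hconj hL hB hd hx hg hdx c.hx'
  have ncp : ∀ a ∈ Dn D x, ∀ a' ∈ Dn D x, a ≠ a' →
      (a * x) * g * (a * x)⁻¹ ≠ (a' * x) * g * (a' * x)⁻¹ := by
    intro a ha a' ha' hne h
    have h1 := comm_of_P_eq hS hL hB hd hx ha ha' hx h
    rw [hxx, mul_one] at h1
    exact not_comm_prod hS hg.1 ha'.1 ha.1 hne.symm (Out.ncL hL hB hd hx hg ha')
      (Out.ncL hL hB hd hx hg ha) h1
  have n12 := ncp d hdx d' c.hd' c.hdd
  have n13 := ncp d hdx _ t1 t2.symm
  have n23 := ncp d' c.hd' _ t1 t3.symm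
  have e3 : (d * d' * d * x) * g * (d * d' * d * x)⁻¹ =
      ((d * x) * g * (d * x)⁻¹) * ((d' * x) * g * (d' * x)⁻¹) * ((d * x) * g * (d * x)⁻¹) := by
    rcases hL.line g hg.1 _ p1 _ p2 n12 _ p3 with h | h | h
    · exact absurd h.symm n13
    · exact absurd h.symm n23
    · exact h
  rcases hL.line g hg.1 _ p1 _ p2 n12 _ q with h | h | h
  · exfalso
    have h1 := comm_of_P_eq hS hL hB hd hx hdx hdx hx h
    rw [hdd, one_mul] at h1
    exact not_comm_prod hS hg.1 hx.1 c.hx'.1 c.hxx (Out.ncL' hL hB hd hx hg hx)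
      (Out.ncL' hL hB hd hx hg c.hx') h1
  · right
    have h1 := comm_of_P_eq hS hL hB hd hx hdx c.hd' hx h
    have h2 := h1.inv_right
    have c1 : Commute x d := (comm_LL hL hB hd hx hdx hx).2.2
    have c2 : Commute x d' := (comm_LL hL hB hd hx c.hd' hx).2.2
    have c3 : Commute x' d := (comm_LL hL hB hd hx hdx c.hx').2.2
    have c4 : Commute x' d' := (comm_LL hL hB hd hx c.hd' c.hx').2.2
    have e : (d' * d * (x * x'))⁻¹ = (d * d') * (x' * x) := by
      rw [_root_.mul_inv_rev, _root_.mul_inv_rev, _root_.mul_inv_rev, inv_eq hS hd,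
        inv_eq hS c.hd'.1, inv_eq hS hx.1, inv_eq hS c.hx'.1]
      exact ((c3.mul_left c1).mul_right (c4.mul_left c2)).eq
    rwa [e] at h2
  · left
    rw [← e3] at h
    have h1 := comm_of_P_eq hS hL hB hd hx hdx t1 hx h
    have e : d * d' * d * d = d * d' := by rw [mul_assoc, hdd, mul_one]
    rwa [e] at h1

end cfg

/-- an element of `MW D` centralising `g` is inverted by every member of `D_g`. -/
theorem inverts [Finite G] (hS : IsThreeTranspositionSet D)
    (hconj : ∀ g : G, ∀ d ∈ D, g * d * g⁻¹ ∈ D) (hL : Loc D) (hB : HB D) {g h t : G} (hg : g ∈ D)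
    (hcard : Nat.card (Cfsg.pCore 3 ↥(Subgroup.centralizer ({g} : Set G))) = 3)
    (hh : h ∈ Dn D g) (ht : t ∈ MW D) (hgt : Commute g t) : h * t * h = t⁻¹ := by
  obtain ⟨h', hh', hne⟩ : ∃ h' ∈ Dn D g, h ≠ h' := by
    obtain ⟨a, ha, b, hb, hab⟩ := hL.ex g hg
    by_cases h1 : h = a
    · exact ⟨b, hb, h1 ▸ hab⟩
    · exact ⟨a, ha, h1⟩
  have hnc := hL.nc g hg h hh h' hh' hne
  have hhh := sq_one hS hh.1
  have hhh' := sq_one hS hh'.1
  set z := h * h' with hz
  have hzM : z ∈ MW D := mul_mem_MW (WR_of_mem hL hB hg hh hh')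
  have hz3 : z ^ 3 = 1 := cube_of_not_commute hS hh.1 hh'.1 hnc
  have hz1 : z ≠ 1 := by
    intro h1
    apply hne
    rw [← inv_eq hS hh'.1]
    exact eq_inv_of_mul_eq_one_left h1
  have hgz : Commute g z := hh.2.2.mul_right hh'.2.2
  have memC : ∀ w : G, Commute g w → w ∈ Subgroup.centralizer ({g} : Set G) := by
    intro w hw
    rw [Subgroup.mem_centralizer_iff]
    intro y hy
    rw [Set.mem_singleton_iff] at hy
    rw [hy]
    exact hw.eq
  have hMle : (MW D).subgroupOf (Subgroup.centralizer ({g} : Set G)) ≤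
      Cfsg.pCore 3 ↥(Subgroup.centralizer ({g} : Set G)) := by
    have := MW_normal' (D := D) hconj
    exact le_pCore inferInstance ((MW_isPGroup' hS hconj).comap_subtype)
  set zC : ↥(Subgroup.centralizer ({g} : Set G)) := ⟨z, memC z hgz⟩ with hzC
  set tC : ↥(Subgroup.centralizer ({g} : Set G)) := ⟨t, memC t hgt⟩ with htC
  have hzP : zC ∈ Cfsg.pCore 3 ↥(Subgroup.centralizer ({g} : Set G)) :=
    hMle (Subgroup.mem_subgroupOf.2 hzM)
  have htP : tC ∈ Cfsg.pCore 3 ↥(Subgroup.centralizer ({g} : Set G)) :=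
    hMle (Subgroup.mem_subgroupOf.2 ht)
  have hord : orderOf zC = 3 := by
    have : Fact (Nat.Prime 3) := ⟨by norm_num⟩
    apply orderOf_eq_prime
    · exact Subtype.ext hz3
    · intro h1
      exact hz1 (congrArg Subtype.val h1)
  have heq : Subgroup.zpowers zC = Cfsg.pCore 3 ↥(Subgroup.centralizer ({g} : Set G)) := by
    apply Subgroup.eq_of_le_of_card_ge
    · rw [Subgroup.zpowers_le]; exact hzP
    · rw [hcard, Nat.card_zpowers, hord]
  rw [← heq] at htP
  obtain ⟨k, hk⟩ := Subgroup.mem_zpowers_iff.1 htP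
  have hk' : z ^ k = t := by
    have := congrArg Subtype.val hk
    simpa using this
  have hinv : h * z * h⁻¹ = z⁻¹ := by
    rw [hz, _root_.mul_inv_rev, inv_eq hS hh.1, inv_eq hS hh'.1]
    calc h * (h * h') * h = (h * h) * h' * h := by group
      _ = h' * h := by rw [hhh, one_mul]
  have : h * t * h⁻¹ = t⁻¹ := by
    rw [← hk', ← conj_zpow, hinv, inv_zpow]
  rwa [inv_eq hS hh.1] at this

section cfg2
variable {d d' x x' : G}

theorem Cfg.mem_MW (hL : Loc D) (hB : HB D) (c : Cfg D d d' x x') :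
    (d * d') * (x * x') ∈ MW D :=
  (MW D).mul_mem (mul_mem_MW (WR_of_mem hL hB c.hx.1 (Dn_symm c.hd c.hx) c.hd'))
    (mul_mem_MW (WR_of_mem hL hB c.hd c.hx c.hx'))

theorem Cfg.not_comm (hL : Loc D) (c : Cfg D d d' x x') : ¬ Commute d (d * d') := by
  intro h
  apply hL.nc x c.hx.1 d (Dn_symm c.hd c.hx) d' c.hd' c.hdd
  have h1 : d * (d * d') = d * d' * d := h.eq
  rw [mul_assoc] at h1
  exact mul_left_cancel h1

theorem Cfg.comm_v (c : Cfg D d d' x x') : Commute d (x * x') := c.hx.2.2.mul_right c.hx'.2.2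

theorem Cfg.comm_uv (hL : Loc D) (hB : HB D) (c : Cfg D d d' x x') :
    Commute (d * d') (x * x') := by
  have hd := c.hd
  have hx := c.hx
  have hdx : d ∈ Dn D x := Dn_symm hd hx
  have c1 : Commute x d := (comm_LL hL hB hd hx hdx hx).2.2
  have c2 : Commute x d' := (comm_LL hL hB hd hx c.hd' hx).2.2
  have c3 : Commute x' d := (comm_LL hL hB hd hx hdx c.hx').2.2
  have c4 : Commute x' d' := (comm_LL hL hB hd hx c.hd' c.hx').2.2
  exact ((c1.mul_left c3).mul_right (c2.mul_left c4)).symm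

theorem Cfg.triv (hS : IsThreeTranspositionSet D) (hL : Loc D) (hB : HB D)
    (c : Cfg D d d' x x') {h : G} (hh : h ∈ D)
    (h1 : h * ((d * d') * (x * x')) * h = ((d * d') * (x * x'))⁻¹)
    (h2 : Commute h ((d * d') * (x * x'))) : False := by
  have hu3 : (d * d') ^ 3 = 1 := cube_of_not_commute hS c.hd c.hd'.1
    (hL.nc x c.hx.1 d (Dn_symm c.hd c.hx) d' c.hd' c.hdd)
  have hv3 : (x * x') ^ 3 = 1 := cube_of_not_commute hS c.hx.1 c.hx'.1
    (hL.nc d c.hd x c.hx x' c.hx' c.hxx)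
  have huv := c.comm_uv hL hB
  set u := d * d' with hu
  set v := x * x' with hv
  have ht3 : (u * v) ^ 3 = 1 := by rw [huv.mul_pow, hu3, hv3, one_mul]
  have e1 : u * v = (u * v)⁻¹ := by
    rw [← h1, h2.eq, mul_assoc (u * v) h h, sq_one hS hh, mul_one]
  have e2 : (u * v) * (u * v) = 1 := by
    nth_rewrite 1 [e1]
    exact inv_mul_cancel _
  have e3 : u * v = 1 := by
    rw [pow_succ, pow_two, e2, one_mul] at ht3
    exact ht3
  apply c.not_comm hL
  have : u = v⁻¹ := eq_inv_of_mul_eq_one_left e3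
  rw [← hu, this]
  exact c.comm_v.inv_right

theorem Cfg.final (hS : IsThreeTranspositionSet D) (hL : Loc D) (hB : HB D)
    (c : Cfg D d d' x x') {h : G} (hh : Out D d x h)
    (h1 : h * ((d * d') * (x * x')) * h = ((d * d') * (x * x'))⁻¹)
    (h2 : Commute h ((d * d') * (x' * x))) : False := by
  have hu3 : (d * d') ^ 3 = 1 := cube_of_not_commute hS c.hd c.hd'.1
    (hL.nc x c.hx.1 d (Dn_symm c.hd c.hx) d' c.hd' c.hdd)
  have hv3 : (x * x') ^ 3 = 1 := cube_of_not_commute hS c.hx.1 c.hx'.1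
    (hL.nc d c.hd x c.hx x' c.hx' c.hxx)
  have huv := c.comm_uv hL hB
  have hdv := c.comm_v
  have hncu := c.not_comm hL
  have hhh := sq_one hS hh.1
  have hdd := sq_one hS c.hd
  have hv' : x' * x = (x * x')⁻¹ := by
    rw [_root_.mul_inv_rev, inv_eq hS c.hx.1, inv_eq hS c.hx'.1]
  have hdu : d * (d * d') * d = (d * d')⁻¹ := by
    rw [_root_.mul_inv_rev, inv_eq hS c.hd, inv_eq hS c.hd'.1]
    calc d * (d * d') * d = (d * d) * d' * d := by group
      _ = d' * d := by rw [hdd, one_mul]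
  have hbr := braid hS c.hd hh.1 (fun hc => Out.ncL hL hB c.hd c.hx hh (Dn_symm c.hd c.hx) hc.symm)
  rw [hv'] at h2
  set u := d * d' with hu
  set v := x * x' with hv
  have h2' : h * (u * v⁻¹) * h = u * v⁻¹ := by rw [h2.eq, mul_assoc, hhh, mul_one]
  -- h u⁻¹ h = v
  have hu2 : u * u = u⁻¹ := by
    apply eq_inv_of_mul_eq_one_left
    rw [← pow_two, ← pow_succ]; exact hu3
  have hv2 : v⁻¹ * v⁻¹ = v := by
    have : v * v * v = 1 := by rw [← pow_two, ← pow_succ]; exact hv3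
    calc v⁻¹ * v⁻¹ = v⁻¹ * v⁻¹ * (v * v * v) := by rw [this, mul_one]
      _ = v := by group
  have e1 : h * u⁻¹ * h = v := by
    calc h * u⁻¹ * h = h * (u * u) * h := by rw [hu2]
      _ = h * ((u * v) * (u * v⁻¹)) * h := by
          congr 2
          calc u * u = u * (v * v⁻¹) * u := by group
            _ = u * v * (v⁻¹ * u) := by group
            _ = u * v * (u * v⁻¹) := by rw [huv.inv_right.eq]
      _ = (h * (u * v) * h) * (h * (u * v⁻¹) * h) := by
          calc h * ((u * v) * (u * v⁻¹)) * h = h * (u * v) * 1 * (u * v⁻¹) * h := by group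
            _ = h * (u * v) * (h * h) * (u * v⁻¹) * h := by rw [hhh]
            _ = _ := by group
      _ = (u * v)⁻¹ * (u * v⁻¹) := by rw [h1, h2']
      _ = v⁻¹ * v⁻¹ := by group
      _ = v := hv2
  have e2 : h * u * h = v⁻¹ := by
    rw [← e1, _root_.mul_inv_rev, _root_.mul_inv_rev, inv_inv, inv_eq hS hh.1, mul_assoc]
  have e3 : h * v⁻¹ * h = u := by
    rw [← e2]
    calc h * (h * u * h) * h = (h * h) * u * (h * h) := by group
      _ = u := by rw [hhh, one_mul, mul_one]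
  have f1 : (d * h * d) * u * (d * h * d) = v := by
    calc (d * h * d) * u * (d * h * d) = d * (h * (d * u * d) * h) * d := by group
      _ = d * v * d := by rw [hdu, e1]
      _ = v * (d * d) := by rw [hdv.eq]; group
      _ = v := by rw [hdd, mul_one]
  have f2 : (h * d * h) * u * (h * d * h) = u := by
    calc (h * d * h) * u * (h * d * h) = h * (d * (h * u * h) * d) * h := by group
      _ = h * (d * v⁻¹ * d) * h := by rw [e2]
      _ = h * (v⁻¹ * (d * d)) * h := by rw [hdv.inv_right.eq]; group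
      _ = u := by rw [hdd, mul_one, e3]
  rw [hbr, f2] at f1
  apply hncu
  rw [f1]
  exact hdv

/-- no member of `D` lies outside a component. -/
theorem no_out [Finite G] (hS : IsThreeTranspositionSet D)
    (hconj : ∀ g : G, ∀ d ∈ D, g * d * g⁻¹ ∈ D) (hL : Loc D) (hB : HB D)
    (hcard : ∀ g ∈ D, Nat.card (Cfsg.pCore 3 ↥(Subgroup.centralizer ({g} : Set G))) = 3)
    (c : Cfg D d d' x x') {g : G} (hg : Out D d x g) : False := by
  obtain ⟨h, hh, -⟩ := hL.ex g hg.1
  have hho := Out.of_mem hL hB c.hd c.hx hg hh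
  have c' := c.swap hL hB
  rcases exists_comm hS hconj hL hB c hg with hg1 | hg1
  · have i1 := inverts hS hconj hL hB hg.1 (hcard g hg.1) hh (c.mem_MW hL hB) hg1
    rcases exists_comm hS hconj hL hB c hho with hh1 | hh1
    · exact c.triv hS hL hB hh.1 i1 hh1
    · exact c.final hS hL hB hho i1 hh1
  · have i1 := inverts hS hconj hL hB hg.1 (hcard g hg.1) hh (c'.mem_MW hL hB) hg1
    rcases exists_comm hS hconj hL hB c hho with hh1 | hh1
    · exact c'.final hS hL hB (Out.swap hL hB c hho) i1 hh1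
    · exact c'.triv hS hL hB hh.1 i1 hh1

end cfg2

/-- the `S₃ × S₃` case. -/
theorem caseB1 (hL : Loc D) (hB : HB D) {d x : G} (hd : d ∈ D) (hx : x ∈ Dn D d)
    (hall : ∀ g ∈ D, g ∈ Dn D d ∨ g ∈ Dn D x)
    (e1 : ↥(Subgroup.closure (Dn D x)) ≃* Equiv.Perm (Fin 3))
    (e2 : ↥(Subgroup.closure (Dn D d)) ≃* Equiv.Perm (Fin 3)) :
    Nonempty (↥(Subgroup.closure D) ≃* Equiv.Perm (Fin 3) × Equiv.Perm (Fin 3)) := by
  have hle : Subgroup.closure (Dn D x) ≤
      Subgroup.centralizer (Subgroup.closure (Dn D d) : Set G) := by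
    rw [Subgroup.centralizer_closure, Subgroup.closure_le]
    intro a ha
    rw [SetLike.mem_coe, Subgroup.mem_centralizer_iff]
    intro b hb
    exact (comm_LL hL hB hd hx ha hb).2.2.eq
  have hcomm : ∀ (a : ↥(Subgroup.closure (Dn D x))) (b : ↥(Subgroup.closure (Dn D d))),
      Commute ((Subgroup.closure (Dn D x)).subtype a) ((Subgroup.closure (Dn D d)).subtype b) := by
    intro a b
    exact ((Subgroup.mem_centralizer_iff.1 (hle a.2)) b.1 b.2).symm
  set f := MonoidHom.noncommCoprod (Subgroup.closure (Dn D x)).subtype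
    (Subgroup.closure (Dn D d)).subtype hcomm with hf
  have hinj : Function.Injective f := by
    rw [MonoidHom.noncommCoprod_injective]
    refine ⟨Subtype.val_injective, Subtype.val_injective, ?_⟩
    rw [Subgroup.range_subtype, Subgroup.range_subtype, Subgroup.disjoint_def]
    intro z hz1 hz2
    have h1 : e2 ⟨z, hz2⟩ = 1 := by
      apply s3_center
      intro b
      obtain ⟨b', rfl⟩ := e2.surjective b
      rw [← map_mul, ← map_mul]
      congr 1
      exact Subtype.ext ((Subgroup.mem_centralizer_iff.1 (hle hz1)) b'.1 b'.2).symm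
    have h2 := (map_eq_one_iff e2 e2.injective).1 h1
    exact congrArg Subtype.val h2
  have hrange : f.range = Subgroup.closure D := by
    rw [hf, MonoidHom.noncommCoprod_range, Subgroup.range_subtype, Subgroup.range_subtype,
      ← Subgroup.closure_union]
    congr 1
    ext g
    constructor
    · rintro (h | h)
      · exact h.1
      · exact h.1
    · intro h
      exact (hall g h).symm
  exact ⟨((MulEquiv.subgroupCongr hrange).symm.trans (MonoidHom.ofInjective hinj).symm).trans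
    (MulEquiv.prodCongr e1 e2)⟩

/-- the main theorem. -/
theorem main [Finite G] (hS : IsThreeTranspositionSet D)
    (hconj : ∀ g : G, ∀ d ∈ D, g * d * g⁻¹ ∈ D) (hne : D.Nonempty)
    (hloc : ∀ d ∈ D, Nonempty (↥(Subgroup.closure (Dn D d)) ≃* Equiv.Perm (Fin 3)))
    (hcard : ∀ g ∈ D, Nat.card (Cfsg.pCore 3 ↥(Subgroup.centralizer ({g} : Set G))) = 3) :
    Nonempty (↥(Subgroup.closure D) ≃* Equiv.Perm (Fin 5)) ∨
      Nonempty (↥(Subgroup.closure D) ≃* Equiv.Perm (Fin 3) × Equiv.Perm (Fin 3)) := by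
  have hL := loc_of_iso hS hloc
  by_cases hB : HB D
  · right
    obtain ⟨d, hd⟩ := hne
    obtain ⟨x, hx, x', hx', hxx⟩ := hL.ex d hd
    obtain ⟨d', hd', hdd⟩ : ∃ d' ∈ Dn D x, d ≠ d' := by
      obtain ⟨a, ha, b, hb, hab⟩ := hL.ex x hx.1
      by_cases h1 : d = a
      · exact ⟨b, hb, h1 ▸ hab⟩
      · exact ⟨a, ha, h1⟩
    have c : Cfg D d d' x x' := ⟨hd, hx, hx', hxx, hd', hdd⟩
    obtain ⟨e1⟩ := hloc x hx.1
    obtain ⟨e2⟩ := hloc d hd
    apply caseB1 hL hB hd hx _ e1 e2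
    intro g hg
    by_contra hcon
    push Not at hcon
    exact no_out hS hconj hL hB hcard c ⟨hg, hcon.1, hcon.2⟩
  · left
    unfold HB at hB
    push Not at hB
    obtain ⟨d, hd, x, hx, y, hy, hxy, p, hp, hpd, hpy⟩ := hB
    exact caseA hS hconj hL hd hx hy hxy hp hpd hpy

end Cfsg.Agent.Lib.Helper91G2
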