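import Mathlib
import Cfsg.Agent.Lib.Helper63SylowNum2
import Cfsg.Agent.Lib.Helper63SylowNum3
import Cfsg.Agent.Lib.Helper63RecA

set_option autoImplicit false

/-! helper29's project 8 (S0497), piece `cyc`. -/

namespace Cfsg.Agent.Lib.Helper91P8cyc

open MulAction Subgroup

variable {G : Type*} [Group G] [Finite G] [IsSimpleGroup G]

/-- piece `cyc` -/
theorem exists_h (h : Nat.card G = 360) (hn : Nat.card (Sylow 3 G) = 10)
    (hreg : ∀ P Q Q' : Sylow 3 G, Q ≠ P → Q' ≠ P → ∃ x ∈ (P : Subgroup G), x • Q = Q')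
    (hinv : ∀ (P : Sylow 3 G) (z : G), orderOf z = 2 → z • P = P →
      ∀ x ∈ (P : Subgroup G), z * x * z⁻¹ = x⁻¹)
    (P Q : Sylow 3 G) (hQ : Q ≠ P) :
    ∃ hh : G, orderOf hh = 4 ∧ hh • P = P ∧ hh • Q = Q ∧
      (∀ g : G, g • P = P → g • Q = Q → ∃ k : ℕ, g = hh ^ k) := by
  have hn1 : Nat.card (Sylow 3 G) ≠ 1 := by rw [hn]; norm_num
  have hmemfix : ∀ x ∈ (P : Subgroup G), x • P = P := by
    intro x hx
    exact Sylow.smul_eq_iff_mem_normalizer.mpr (le_normalizer hx)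
  set H : Subgroup G := stabilizer G P ⊓ stabilizer G Q with hH
  have h1 := Cfsg.Agent.Lib.Helper63RecA.card_stabilizer (G := G) P
  have h2 := Cfsg.Agent.Lib.Helper63RecA.card_two_stabilizer (G := G) P Q (by
    intro ω hω
    obtain ⟨x, hx, hxQ⟩ := hreg P Q ω hQ hω
    exact ⟨x, hmemfix x hx, hxQ⟩) hQ
  rw [hn, h] at h1
  rw [hn] at h2
  have hcardH : Nat.card H = 4 := by
    rw [hH]
    omega
  have hmemH : ∀ g : G, g ∈ H ↔ g • P = P ∧ g • Q = Q := by
    intro g
    rw [hH, Subgroup.mem_inf, mem_stabilizer_iff, mem_stabilizer_iff]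
  -- uniqueness of the involution
  have huniq : ∀ z ∈ H, ∀ z' ∈ H, orderOf z = 2 → orderOf z' = 2 → z = z' := by
    intro z hz z' hz' ho ho'
    have hw : z * z'⁻¹ = 1 := by
      apply Cfsg.Agent.Lib.Helper63SylowNum2.faithful (p := 3) hn1
      have hwH : z * z'⁻¹ ∈ H := mul_mem hz (inv_mem hz')
      have hcen : ∀ x ∈ (P : Subgroup G), (z * z'⁻¹) * x = x * (z * z'⁻¹) := by
        intro x hx
        have e5 := hinv P z ho ((hmemH z).1 hz).1 x⁻¹ (inv_mem hx)
        have e7 := hinv P z' ho' ((hmemH z').1 hz').1 x⁻¹ (inv_mem hx)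
        have e6 : z'⁻¹ * x * z' = x⁻¹ := by
          calc z'⁻¹ * x * z' = z'⁻¹ * (z' * x⁻¹ * z'⁻¹) * z' := by rw [e7, inv_inv]
            _ = x⁻¹ := by group
        calc (z * z'⁻¹) * x = z * (z'⁻¹ * x * z') * z'⁻¹ := by group
          _ = z * x⁻¹ * z'⁻¹ := by rw [e6]
          _ = (z * x⁻¹ * z⁻¹) * z * z'⁻¹ := by group
          _ = x * (z * z'⁻¹) := by rw [e5, inv_inv, mul_assoc]
      intro R
      by_cases hR : R = P
      · rw [hR]; exact ((hmemH _).1 hwH).1
      · obtain ⟨x, hx, rfl⟩ := hreg P Q R hQ hR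
        rw [← mul_smul, hcen x hx, mul_smul, ((hmemH _).1 hwH).2]
    exact mul_inv_eq_one.1 hw
  -- an element of order 4
  have hord : ∀ g ∈ H, g ≠ 1 → orderOf g = 2 ∨ orderOf g = 4 := by
    intro g hg hg1
    have hd : orderOf g ∣ 4 := by
      rw [← hcardH]
      have := orderOf_dvd_natCard (⟨g, hg⟩ : H)
      rwa [Subgroup.orderOf_mk] at this
    have hle : orderOf g ≤ 4 := Nat.le_of_dvd (by norm_num) hd
    have h1 : orderOf g ≠ 1 := fun h => hg1 (orderOf_eq_one_iff.1 h)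
    have h0 : 0 < orderOf g := orderOf_pos g
    interval_cases (orderOf g) <;> simp_all
  obtain ⟨hh, hhH, hh4⟩ : ∃ hh ∈ H, orderOf hh = 4 := by
    by_contra hcon
    push Not at hcon
    have h3 : ∀ g ∈ H, g ≠ 1 → orderOf g = 2 := fun g hg hg1 =>
      (hord g hg hg1).resolve_right (hcon g hg)
    have hlt : 2 < Nat.card H := by rw [hcardH]; norm_num
    have : Fintype H := Fintype.ofFinite H
    rw [Nat.card_eq_fintype_card] at hlt
    obtain ⟨a, b, c, hab, hac, hbc⟩ := Fintype.two_lt_card_iff.1 hlt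
    -- two of them are different from 1
    have key : ∀ a b : H, a ≠ b → a ≠ 1 → b ≠ 1 → False := by
      intro a b hab ha hb
      apply hab
      apply Subtype.ext
      exact huniq a a.2 b b.2 (h3 a a.2 (fun h => ha (Subtype.ext h)))
        (h3 b b.2 (fun h => hb (Subtype.ext h)))
    by_cases ha : a = 1
    · exact key b c hbc (fun h => hab (ha.trans h.symm)) (fun h => hac (ha.trans h.symm))
    · by_cases hb : b = 1
      · exact key a c hac ha (fun h => hbc (hb.trans h.symm))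
      · exact key a b hab ha hb
  refine ⟨hh, hh4, ((hmemH hh).1 hhH).1, ((hmemH hh).1 hhH).2, ?_⟩
  intro g hgP hgQ
  have hgH : g ∈ H := (hmemH g).2 ⟨hgP, hgQ⟩
  have hzp : zpowers hh = H := by
    apply Subgroup.eq_of_le_of_card_ge (zpowers_le.2 hhH)
    rw [Nat.card_zpowers, hh4, hcardH]
  rw [← hzp] at hgH
  obtain ⟨k, hk⟩ := (mem_powers_iff_mem_zpowers.2 hgH)
  exact ⟨k, hk.symm⟩

end Cfsg.Agent.Lib.Helper91P8cyc
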