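import Mathlib
import Cfsg.Agent.Lib.Helper63SylowNum2
import Cfsg.Agent.Lib.Helper63SylowNum3

set_option autoImplicit false

/-! helper29's project 8 (S0497), piece `inv`. -/

namespace Cfsg.Agent.Lib.Helper91P8inv

open MulAction Subgroup

variable {G : Type*} [Group G] [Finite G] [IsSimpleGroup G]

/-- number of fixed points of an involution -/
theorem card_fix (hn : Nat.card (Sylow 3 G) = 10) (z : G) (hz : orderOf z = 2) :
    Nat.card (MulAction.fixedBy (Sylow 3 G) z) ∈ ({2, 6, 10} : Set ℕ) := by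
  classical
  have : Fintype (Sylow 3 G) := Fintype.ofFinite _
  have hn1 : Nat.card (Sylow 3 G) ≠ 1 := by rw [hn]; norm_num
  have hnc := Cfsg.Agent.Lib.Helper63SylowNum2.not_comm_of_card_sylow (G := G) (p := 3) hn1
  have hsign := Cfsg.Agent.Lib.Helper63SylowNum2.sign_eq_one hnc (α := Sylow 3 G) z
  have hz1 : z ≠ 1 := by
    rintro rfl
    simp at hz
  have hord : orderOf (MulAction.toPerm z : Equiv.Perm (Sylow 3 G)) = 2 := by
    apply orderOf_eq_prime
    · ext Q
      have : z ^ 2 = 1 := by rw [← hz]; exact pow_orderOf_eq_one z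
      rw [pow_two, Equiv.Perm.mul_apply, MulAction.toPerm_apply, MulAction.toPerm_apply,
        ← mul_smul, ← pow_two, this, one_smul]
      rfl
    · intro h1
      apply hz1
      apply Cfsg.Agent.Lib.Helper63SylowNum2.faithful (p := 3) hn1
      intro Q
      have := congrArg (fun f : Equiv.Perm (Sylow 3 G) => f Q) h1
      simpa using this
  have h2 := Cfsg.Agent.Lib.Helper63SylowNum2.sign_involution _ hord
  rw [hsign] at h2
  have hfix : Fintype.card (Function.fixedPoints (MulAction.toPerm z : Equiv.Perm (Sylow 3 G))) =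
      Nat.card (MulAction.fixedBy (Sylow 3 G) z) := by
    rw [← Nat.card_eq_fintype_card]
    rfl
  have hcard : Fintype.card (Sylow 3 G) = 10 := by rw [← Nat.card_eq_fintype_card, hn]
  rw [hfix, hcard] at h2
  have : Fact (Nat.Prime 2) := ⟨Nat.prime_two⟩
  have h3 := Cfsg.Agent.Lib.Helper63SylowNum2.card_modEq_card_fixedBy (α := Sylow 3 G) z hz
  rw [hn] at h3
  have hle : Nat.card (MulAction.fixedBy (Sylow 3 G) z) ≤ 10 := by
    rw [← hn]
    exact Nat.card_le_card_of_injective _ Subtype.val_injective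
  set f := Nat.card (MulAction.fixedBy (Sylow 3 G) z) with hf
  have h4 : Even ((10 - f) / 2) := by
    by_contra hodd
    rw [Nat.not_even_iff_odd] at hodd
    rw [hodd.neg_one_pow] at h2
    exact absurd h2 (by decide)
  unfold Nat.ModEq at h3
  simp only [Set.mem_insert_iff, Set.mem_singleton_iff]
  clear_value f
  clear h2 hfix hf
  revert h3 h4
  interval_cases f <;> decide

/-- piece `inv` -/
theorem invol_inverts (h : Nat.card G = 360) (hn : Nat.card (Sylow 3 G) = 10)
    (hsemi : ∀ P Q : Sylow 3 G, Q ≠ P → ∀ x ∈ (P : Subgroup G), x • Q = Q → x = 1)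
    (P : Sylow 3 G) (z : G)
    (hz : orderOf z = 2) (hzP : z • P = P) (x : G) (hx : x ∈ (P : Subgroup G)) :
    z * x * z⁻¹ = x⁻¹ := by
  have hn1 : Nat.card (Sylow 3 G) ≠ 1 := by rw [hn]; norm_num
  have hz1 : z ≠ 1 := by
    rintro rfl
    simp at hz
  have hz2 : z * z = 1 := by rw [← pow_two, ← hz]; exact pow_orderOf_eq_one z
  have hcardP : Nat.card (P : Subgroup G) = 3 ^ 2 :=
    Cfsg.Agent.Lib.Helper63SylowNum3.card_sylow_eq_prime_pow (m := 40) P (by rw [h]; norm_num) (by norm_num)
  have hcomm : ∀ x ∈ (P : Subgroup G), ∀ y ∈ (P : Subgroup G), x * y = y * x := by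
    intro x hx y hy
    have := IsPGroup.isMulCommutative_of_card_eq_prime_sq hcardP
    exact congrArg Subtype.val (this.is_comm.comm (⟨x, hx⟩ : (P : Subgroup G)) ⟨y, hy⟩)
  have hnorm : ∀ x ∈ (P : Subgroup G), z * x * z⁻¹ ∈ (P : Subgroup G) := by
    intro x hx
    have := Sylow.smul_eq_iff_mem_normalizer.mp hzP
    exact (mem_normalizer_iff.mp this x).mp hx
  -- `C_P(z) = 1`
  have hC : ∀ y ∈ (P : Subgroup G), z * y = y * z → y = 1 := by
    intro y hy hzy
    by_contra hy1
    have hA : IsPGroup 3 (zpowers y) := P.2.to_le (by rwa [zpowers_le])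
    have hcz : ∀ a ∈ zpowers y, z * a = a * z := by
      intro a ha
      obtain ⟨k, rfl⟩ := ha
      exact ((Commute.zpow_right (show Commute z y from hzy)) k).eq
    have h1 := Cfsg.Agent.Lib.Helper63SylowNum3.card_inv_set_modEq (α := Sylow 3 G) (zpowers y) hA
      (MulAction.fixedBy (Sylow 3 G) z) (by
        intro a ha Q hQ
        rw [MulAction.mem_fixedBy] at hQ ⊢
        rw [← mul_smul, hcz a ha, mul_smul, hQ])
    have h2 : {Q : Sylow 3 G | Q ∈ MulAction.fixedBy (Sylow 3 G) z ∧ ∀ a ∈ zpowers y, a • Q = Q} =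
        {P} := by
      ext Q
      simp only [Set.mem_ofPred_eq, Set.mem_singleton_iff]
      constructor
      · rintro ⟨-, hQ⟩
        by_contra hQP
        exact hy1 (hsemi P Q hQP y hy (hQ y (mem_zpowers y)))
      · rintro rfl
        refine ⟨hzP, fun a ha => ?_⟩
        apply Sylow.smul_eq_iff_mem_normalizer.mpr
        exact le_normalizer ((zpowers_le.2 hy) ha)
    have h2' : Nat.card ({P} : Set (Sylow 3 G)) = 1 := Nat.card_unique
    rw [h2, h2'] at h1
    have h3 := card_fix hn z hz
    have h4 : Nat.card (MulAction.fixedBy (Sylow 3 G) z) = 10 := by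
      unfold Nat.ModEq at h1
      simp only [Set.mem_insert_iff, Set.mem_singleton_iff] at h3
      rcases h3 with h3 | h3 | h3
      · rw [h3] at h1; exact absurd h1 (by decide)
      · rw [h3] at h1; exact absurd h1 (by decide)
      · exact h3
    apply hz1
    apply Cfsg.Agent.Lib.Helper63SylowNum2.faithful (p := 3) hn1
    have h5 : MulAction.fixedBy (Sylow 3 G) z = Set.univ := by
      rw [Set.eq_univ_iff_ncard, hn, ← h4]
      rfl
    intro Q
    have : Q ∈ MulAction.fixedBy (Sylow 3 G) z := by rw [h5]; trivial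
    exact this
  have hy : x * (z * x * z⁻¹) = 1 := by
    apply hC _ (mul_mem hx (hnorm x hx))
    have hzi : z⁻¹ = z := inv_eq_of_mul_eq_one_left hz2
    have h1 := hcomm x hx _ (hnorm x hx)
    rw [hzi] at h1 ⊢
    calc z * (x * (z * x * z)) = (z * x * z) * x * z := by simp only [mul_assoc]
      _ = x * (z * x * z) * z := by rw [← h1]
  exact (eq_inv_of_mul_eq_one_right hy)

end Cfsg.Agent.Lib.Helper91P8inv
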