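import Cfsg.Agent.Lib.Helper91StarFIN
import Cfsg.Agent.Lib.Helper91StarEVVL

/-!
# Project 80, pieces B-FIN and B-EVVL: alias file

The content lives in `Cfsg.Agent.Lib.Helper91StarFIN` and `Cfsg.Agent.Lib.Helper91StarEVVL`.
-/

namespace Cfsg.Agent.Lib.Helper91StarBFIN

export Cfsg.Agent.Lib.Helper91StarFIN (coordEquiv finite_OA free_OA finite_End conjSetoid crep
  crep_conj crep_spec finite_Fix)
export Cfsg.Agent.Lib.Helper91StarEVVL (evL evVanishP)

end Cfsg.Agent.Lib.Helper91StarBFIN
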