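import Mathlib
import Cfsg.Agent.Lib.Helper92HupDefs

/-!
PROJECT 92, piece `inj`.
-/

set_option autoImplicit false

namespace Cfsg.Agent.Lib.Helper92HupInj

universe u v

theorem inj_of_invariant {G : Type u} {V : Type v} [Group G] [AddCommGroup V] [Finite V]
    [DistribMulAction G V] (htrans : ∀ v w : V, v ≠ 0 → w ≠ 0 → ∃ g : G, g • v = w)
    (R : Subring (AddMonoid.End V)) (hcomm : ∀ a ∈ R, ∀ b ∈ R, a * b = b * a)
    (hinv : ∀ (g : G), ∀ a ∈ R, ∃ b ∈ R, ∀ v : V, b (g • v) = g • a v) :
    ∀ a ∈ R, a ≠ 0 → ∀ v : V, a v = 0 → v = 0 := by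
  classical
  have hfin : Finite (AddMonoid.End V) :=
    Finite.of_injective (fun f : V →+ V => (f : V → V)) DFunLike.coe_injective
  let I : V → Set (AddMonoid.End V) := fun v => {a | a ∈ R ∧ a v = 0}
  have hle : ∀ (g : G) (v : V), (I v).ncard ≤ (I (g • v)).ncard := by
    intro g v
    let f : AddMonoid.End V → AddMonoid.End V := fun a =>
      if h : a ∈ R then Classical.choose (hinv g a h) else 0
    have hf : ∀ a (h : a ∈ R), f a ∈ R ∧ ∀ x : V, f a (g • x) = g • a x := by
      intro a h
      have := Classical.choose_spec (hinv g a h)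
      simp only [f, dif_pos h]
      exact this
    refine Set.ncard_le_ncard_of_injOn f ?_ ?_ (Set.toFinite _)
    · rintro a ⟨haR, hav⟩
      refine ⟨(hf a haR).1, ?_⟩
      rw [(hf a haR).2, hav, smul_zero]
    · rintro a ⟨haR, -⟩ b ⟨hbR, -⟩ hab
      ext x
      have h1 := (hf a haR).2 x
      have h2 := (hf b hbR).2 x
      have hab' : f a = f b := hab
      rw [hab', h2] at h1
      exact (smul_left_cancel g h1).symm
  have hcard : ∀ v w : V, v ≠ 0 → w ≠ 0 → (I v).ncard = (I w).ncard := by
    intro v w hv hw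
    obtain ⟨g, rfl⟩ := htrans v w hv hw
    apply le_antisymm (hle g v)
    have := hle g⁻¹ (g • v)
    rwa [inv_smul_smul] at this
  have hsub : ∀ v w : V, v ≠ 0 → w ≠ 0 → I v ⊆ I w → I v = I w := by
    intro v w hv hw h
    exact Set.eq_of_subset_of_ncard_le h (hcard v w hv hw).ge (Set.toFinite _)
  have hcm : ∀ a ∈ R, ∀ b ∈ R, ∀ x : V, a (b x) = b (a x) := by
    intro a ha b hb x
    have := hcomm a ha b hb
    exact DFunLike.congr_fun this x
  have heq : ∀ v w : V, v ≠ 0 → w ≠ 0 → I v = I w := by
    intro v w hv hw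
    by_contra hne
    have hu : v + w ≠ 0 := by
      intro h0
      apply hne
      have hw' : w = -v := (neg_eq_of_add_eq_zero_right h0).symm
      ext a
      simp only [I, Set.mem_ofPred_eq, hw', map_neg, neg_eq_zero]
    have key : ∀ a ∈ I (v + w), a v = 0 := by
      rintro a ⟨haR, hau⟩
      by_contra hx
      rw [map_add] at hau
      have haw : a w = -(a v) := (neg_eq_of_add_eq_zero_right hau).symm
      apply hne
      have h1 : I v = I (a v) := by
        apply hsub v _ hv hx
        rintro b ⟨hbR, hbv⟩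
        exact ⟨hbR, by rw [hcm b hbR a haR, hbv, map_zero]⟩
      have h2 : I w = I (a v) := by
        apply hsub w _ hw hx
        rintro b ⟨hbR, hbw⟩
        refine ⟨hbR, ?_⟩
        have : a v = -(a w) := by rw [haw, neg_neg]
        rw [this, map_neg, hcm b hbR a haR, hbw, map_zero, neg_zero]
      rw [h1, h2]
    have h1 : I (v + w) = I v := by
      apply hsub _ _ hu hv
      intro a ha
      exact ⟨ha.1, key a ha⟩
    have h2 : I (v + w) = I w := by
      apply hsub _ _ hu hw
      intro a ha
      refine ⟨ha.1, ?_⟩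
      have h3 := ha.2
      rw [map_add, key a ha, zero_add] at h3
      exact h3
    exact hne (h1.symm.trans h2)
  intro a haR ha0 v hav
  by_contra hv
  apply ha0
  ext w
  by_cases hw : w = 0
  · rw [hw, map_zero, map_zero]
  · have : a ∈ I w := by
      rw [← heq v w hv hw]
      exact ⟨haR, hav⟩
    rw [this.2]
    rfl

end Cfsg.Agent.Lib.Helper92HupInj
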