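import Cfsg.Agent.Lib.Helper92SpDTensor
import Cfsg.Agent.Lib.Helper12AschNotSLWreath

set_option autoImplicit false

/-! PROJECT 3 = ASCH-SP, PART D, piece `D_wreath`: some symplectic transvection lies outside a tensor wreath
subgroup (`2 ≠ 0`). -/

namespace Cfsg.Agent.Lib.Helper92SpDWreath

open Cfsg Cfsg.Geo Matrix
open Cfsg.Agent.Lib.Helper97GBase Cfsg.Agent.Lib.Helper97GCore
  Cfsg.Agent.Lib.Helper98AschGDefs Cfsg.Agent.Lib.Helper98AschGBasic Cfsg.Agent.Lib.Helper96SpDefs
  Cfsg.Agent.Lib.Helper96SpTv
open Cfsg.Agent.Lib.Helper12AschNotSLWreath (Pure pure_iff_of_mem)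
open scoped MatrixGroups Kronecker

variable {ι : Type} [Fintype ι] [DecidableEq ι] {F : Type*} [Field F]
variable {f : (ι → F) → (ι → F) → F}

lemma pure_key {k t : ℕ} {u : (Fin t → Fin k) → F} (hu : Pure u) (z o : Fin k) (i0 : Fin t) :
    u (Function.update (fun _ => z) i0 o) * u (Function.update (fun _ => o) i0 z) =
      u (fun _ => z) * u (fun _ => o) := by
  obtain ⟨x, hx⟩ := hu
  rw [hx, hx, hx, hx, ← Finset.prod_mul_distrib, ← Finset.prod_mul_distrib]
  refine Finset.prod_congr rfl fun i _ => ?_
  by_cases h : i = i0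
  · subst h
    simp [mul_comm]
  · simp [Function.update_of_ne h]

/-- [D_wreath] -/
theorem notSp_wreath (hf : IsSymplecticForm f) (h2 : (2 : F) ≠ 0) {k t : ℕ} (hk : 2 ≤ k) (ht : 2 ≤ t)
    (e : ι ≃ (Fin t → Fin k)) (P : GL ι F) : ∃ v c, tv hf v c ∉ tensorWreathSubgroup k t e P := by
  set z : Fin k := ⟨0, by omega⟩ with hz
  set o : Fin k := ⟨1, by omega⟩ with ho
  have hzo : z ≠ o := by
    intro h
    simpa [hz, ho] using congrArg Fin.val h
  let i0 : Fin t := ⟨0, by omega⟩
  let i1 : Fin t := ⟨1, by omega⟩
  have hi : i0 ≠ i1 := by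
    intro h
    simpa [i0, i1] using congrArg Fin.val h
  set a0 : Fin t → Fin k := fun _ => z with ha0
  set a1 : Fin t → Fin k := fun _ => o with ha1
  set b : Fin t → Fin k := Function.update (fun _ => z) i0 o with hb
  set c : Fin t → Fin k := Function.update (fun _ => o) i0 z with hc
  have e01 : a0 ≠ a1 := fun h => hzo (congrFun h i0)
  have eb0 : b ≠ a0 := by
    intro h
    have := congrFun h i0
    simp [hb, ha0] at this
    exact hzo this.symm
  have eb1 : b ≠ a1 := by
    intro h
    have := congrFun h i1
    rw [hb, Function.update_of_ne hi.symm] at this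
    exact hzo this
  have ec0 : c ≠ a0 := by
    intro h
    have := congrFun h i1
    rw [hc, Function.update_of_ne hi.symm] at this
    exact hzo this.symm
  have ec1 : c ≠ a1 := by
    intro h
    have := congrFun h i0
    simp [hc, ha1] at this
    exact hzo this
  have ebc : b ≠ c := by
    intro h
    have := congrFun h i0
    simp [hb, hc] at this
    exact hzo this.symm
  set w : (Fin t → Fin k) → F := Pi.single a0 1 + Pi.single a1 1 with hw
  apply Cfsg.Agent.Lib.Helper92SpDTensor.core hf e P Pure w
  · intro h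
    have := congrFun h a0
    simp [hw, Pi.single_apply, e01] at this
  · intro a
    refine ⟨fun i => Pi.single (a i) 1, fun x => ?_⟩
    simp only [Pi.single_apply, Finset.prod_ite_zero, Finset.prod_const_one]
    simp [funext_iff]
  · intro a hu
    have key := pure_key hu z o i0
    simp only [hw, Pi.add_apply, Pi.single_apply] at key
    rw [← hb, ← hc, ← ha0, ← ha1] at key
    simp only [if_neg eb0, if_neg eb1, if_neg ec0, if_neg ec1, if_neg e01, if_neg e01.symm, if_true,
      add_zero, zero_add] at key
    by_cases c1 : b = a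
    · have c2 : c ≠ a := by rw [← c1]; exact ebc.symm
      have c3 : a0 ≠ a := by rw [← c1]; exact eb0.symm
      have c4 : a1 ≠ a := by rw [← c1]; exact eb1.symm
      simp [c2, c3, c4] at key
    · by_cases c3 : a0 = a
      · have c4 : a1 ≠ a := by rw [← c3]; exact e01.symm
        simp only [if_neg c1, if_pos c3, if_neg c4, zero_mul, zero_add, mul_one] at key
        apply h2
        rw [← one_add_one_eq_two]
        exact key.symm
      · by_cases c4 : a1 = a
        · simp only [if_neg c1, if_neg c3, if_pos c4, zero_mul, zero_add, one_mul] at key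
          apply h2
          rw [← one_add_one_eq_two]
          exact key.symm
        · simp [c1, c3, c4] at key
  · intro g hg u hu
    rw [mem_tensorWreathSubgroup_iff] at hg
    refine ⟨_, (pure_iff_of_mem hg u).1 hu, ?_⟩
    have h3 := conj_reindex_mulVec e P
      (((glReindex e) (P⁻¹ * g * P) : GL (Fin t → Fin k) F) : Matrix (Fin t → Fin k) (Fin t → Fin k) F) u
    rw [← h3]
    congr 1
    have h4 : Matrix.reindex e.symm e.symm
        (((glReindex e) (P⁻¹ * g * P) : GL (Fin t → Fin k) F) : Matrix (Fin t → Fin k) (Fin t → Fin k) F) =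
        ((P⁻¹ * g * P : GL ι F) : Matrix ι ι F) := by
      ext i j
      simp [glReindex]
    rw [h4, Units.val_mul, Units.val_mul]
    simp only [← mul_assoc, iv, one_mul]
    rw [mul_assoc, iv, mul_one]

end Cfsg.Agent.Lib.Helper92SpDWreath
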