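import Mathlib

set_option autoImplicit false

namespace Cfsg.Agent.Lib.Helper92Transfer

open MulAction Subgroup

variable {G A : Type*} [Group G] [CommGroup A]

/-- If `x • c = c` then the chosen representative of the `⟨x⟩`-orbit of `c` is `c`. -/
theorem out_mk_of_fixed (H : Subgroup G) (x : G) (c : G ⧸ H) (hc : x • c = c) :
    (Quotient.mk (orbitRel (zpowers x) (G ⧸ H)) c).out = c := by
  have h1 : (orbitRel (zpowers x) (G ⧸ H)) (Quotient.mk (orbitRel (zpowers x) (G ⧸ H)) c).out c :=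
    Quotient.mk_out (s := orbitRel (zpowers x) (G ⧸ H)) c
  rw [orbitRel_apply] at h1
  obtain ⟨⟨k, hk⟩, hk2⟩ := h1
  obtain ⟨n, rfl⟩ := Subgroup.mem_zpowers_iff.mp hk
  have h2 : ∀ n : ℤ, x ^ n • c = c := by
    intro n
    have : x ∈ MulAction.stabilizer G c := hc
    exact (MulAction.stabilizer G c).zpow_mem this n
  rw [← hk2]
  exact h2 n

theorem smul_mk_eq_iff (H : Subgroup G) (x g : G) :
    x • (QuotientGroup.mk g : G ⧸ H) = QuotientGroup.mk g ↔ g⁻¹ * x * g ∈ H := by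
  rw [MulAction.Quotient.smul_mk, eq_comm, QuotientGroup.eq, smul_eq_mul, mul_assoc]

/-- Transfer evaluation: if every term `g⁻¹ x^m g ∈ H` with `g ∉ H` is killed by `φ`, then the
transfer of `x ∈ H` is `φ x`. -/
theorem transfer_eq_of_unique [Finite G] (H : Subgroup G) (φ : H →* A) (x : G) (hx : x ∈ H)
    (hkey : ∀ (g : G) (m : ℕ) (h : g⁻¹ * x ^ m * g ∈ H), g ∈ H ∨ φ ⟨_, h⟩ = 1) :
    MonoidHom.transfer φ x = φ ⟨x, hx⟩ := by
  classical
  let _ : Fintype (Quotient (orbitRel (zpowers x) (G ⧸ H))) := Fintype.ofFinite _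
  rw [MonoidHom.transfer_eq_prod_quotient_orbitRel_zpowers_quot]
  have hfix1 : x • (QuotientGroup.mk 1 : G ⧸ H) = QuotientGroup.mk 1 := by
    rw [smul_mk_eq_iff]; simpa using hx
  set q₀ := Quotient.mk (orbitRel (zpowers x) (G ⧸ H)) (QuotientGroup.mk 1 : G ⧸ H) with hq₀
  have hq₀out : q₀.out = QuotientGroup.mk 1 := out_mk_of_fixed H x _ hfix1
  rw [Finset.prod_eq_single q₀]
  · have haux : ∀ (g : G) (m : ℕ) (h : g⁻¹ * x ^ m * g ∈ H), g ∈ H → m = 1 →
        φ ⟨g⁻¹ * x ^ m * g, h⟩ = φ ⟨x, hx⟩ := by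
      intro g m h hg hm
      subst hm
      have : (⟨g⁻¹ * x ^ 1 * g, h⟩ : H) = (⟨g, hg⟩ : H)⁻¹ * ⟨x, hx⟩ * ⟨g, hg⟩ := by
        apply Subtype.ext; simp
      rw [this, map_mul, map_mul, map_inv, mul_comm, mul_inv_cancel_left]
    apply haux
    · have h1 : (QuotientGroup.mk q₀.out.out : G ⧸ H) = QuotientGroup.mk 1 := by
        rw [← hq₀out]; exact Quotient.out_eq' _
      rw [QuotientGroup.eq] at h1
      simpa using H.inv_mem h1
    · rw [hq₀out]
      exact Function.minimalPeriod_eq_one_iff_isFixedPt.mpr hfix1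
  · intro q _ hq
    rcases hkey _ _ (QuotientGroup.out_conj_pow_minimalPeriod_mem H x q.out) with h | h
    · exfalso
      apply hq
      have h1 : q.out = (QuotientGroup.mk 1 : G ⧸ H) := by
        rw [← Quotient.out_eq' q.out]
        change (QuotientGroup.mk q.out.out : G ⧸ H) = _
        rw [QuotientGroup.eq]
        simpa using H.inv_mem h
      rw [hq₀, ← h1]
      exact (Quotient.out_eq q).symm
    · exact h
  · intro h; exact absurd (Finset.mem_univ _) h

/-- The cosets `gH` fixed by `d` on which the transfer term `φ (g⁻¹ d g)` equals `φ d`. -/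
def Bad (H : Subgroup G) (φ : H →* A) (d : G) (σ : A) (c : G ⧸ H) : Prop :=
  ∃ g : G, QuotientGroup.mk g = c ∧ ∃ h : g⁻¹ * d * g ∈ H, φ ⟨_, h⟩ = σ

theorem bad_mk_iff (H : Subgroup G) (φ : H →* A) (d : G) (σ : A) (g : G) :
    Bad H φ d σ (QuotientGroup.mk g) ↔ ∃ h : g⁻¹ * d * g ∈ H, φ ⟨_, h⟩ = σ := by
  constructor
  · rintro ⟨g', hg', h, hφ⟩
    rw [QuotientGroup.eq] at hg'
    have h1 : g⁻¹ * d * g = (g'⁻¹ * g)⁻¹ * (g'⁻¹ * d * g') * (g'⁻¹ * g) := by group
    have h2 : g⁻¹ * d * g ∈ H := by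
      rw [h1]; exact H.mul_mem (H.mul_mem (H.inv_mem hg') h) hg'
    refine ⟨h2, ?_⟩
    have h3 : (⟨g⁻¹ * d * g, h2⟩ : H) = (⟨_, hg'⟩ : H)⁻¹ * ⟨_, h⟩ * ⟨_, hg'⟩ := Subtype.ext h1
    rw [h3, map_mul, map_mul, map_inv, mul_comm, mul_inv_cancel_left, hφ]
  · intro h
    exact ⟨g, rfl, h⟩

theorem Bad.fixed {H : Subgroup G} {φ : H →* A} {d : G} {σ : A} {c : G ⧸ H}
    (h : Bad H φ d σ c) : d • c = c := by
  obtain ⟨g, rfl, h, -⟩ := h
  exact (smul_mk_eq_iff H d g).mpr h

/-- Transfer of an involution `d ∈ H` when `φ` takes only the values `1` and `φ d`. -/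
theorem transfer_involution [Finite G] (H : Subgroup G) (φ : H →* A) (d : G) (hd : d ∈ H)
    (hd2 : d * d = 1) (hφ : ∀ h : H, φ h = 1 ∨ φ h = φ ⟨d, hd⟩) :
    MonoidHom.transfer φ d = φ ⟨d, hd⟩ ^ Nat.card {c : G ⧸ H // Bad H φ d (φ ⟨d, hd⟩) c} := by
  classical
  let _ : Fintype (Quotient (orbitRel (zpowers d) (G ⧸ H))) := Fintype.ofFinite _
  let _ : Fintype (G ⧸ H) := Fintype.ofFinite _
  set σ := φ ⟨d, hd⟩ with hσ
  have hterm : ∀ (c : G ⧸ H) (m : ℕ) (h : c.out⁻¹ * d ^ m * c.out ∈ H),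
      m = Function.minimalPeriod (d • ·) c → φ ⟨_, h⟩ = if Bad H φ d σ c then σ else 1 := by
    intro c m h hm
    have hdvd : m ∣ 2 := by
      rw [hm, ← MulAction.pow_smul_eq_iff_minimalPeriod_dvd, pow_two, hd2, one_smul]
    have hc : (QuotientGroup.mk c.out : G ⧸ H) = c := Quotient.out_eq' c
    rcases (Nat.dvd_prime Nat.prime_two).mp hdvd with rfl | rfl
    · have h' : c.out⁻¹ * d * c.out ∈ H := by simpa using h
      have e : (⟨c.out⁻¹ * d ^ 1 * c.out, h⟩ : H) = ⟨_, h'⟩ := Subtype.ext (by simp)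
      rw [e]
      by_cases hB : Bad H φ d σ c
      · rw [if_pos hB]
        rw [← hc, bad_mk_iff] at hB
        exact hB.2
      · rw [if_neg hB]
        rcases hφ ⟨_, h'⟩ with h1 | h1
        · exact h1
        · exfalso; apply hB
          rw [← hc, bad_mk_iff]
          exact ⟨h', h1⟩
    · have hB : ¬ Bad H φ d σ c := by
        intro hB
        have h9 : (2 : ℕ) = 1 := hm.trans (Function.minimalPeriod_eq_one_iff_isFixedPt.mpr hB.fixed)
        omega
      rw [if_neg hB]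
      have e : (⟨c.out⁻¹ * d ^ 2 * c.out, h⟩ : H) = 1 := Subtype.ext (by simp [pow_two, hd2])
      rw [e, map_one]
  rw [MonoidHom.transfer_eq_prod_quotient_orbitRel_zpowers_quot]
  rw [Finset.prod_congr rfl (fun q _ => hterm q.out _ _ rfl), ← Finset.prod_filter,
    Finset.prod_const]
  congr 1
  rw [Nat.card_eq_fintype_card, Fintype.card_subtype]
  apply Finset.card_bij (fun q _ => q.out)
  · intro q hq
    simpa using hq
  · intro q _ q' _ h
    exact Quotient.out_injective h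
  · intro c hc
    have hc' : Bad H φ d σ c := by simpa using hc
    refine ⟨Quotient.mk _ c, ?_, out_mk_of_fixed H d c hc'.fixed⟩
    rw [Finset.mem_filter]
    refine ⟨Finset.mem_univ _, ?_⟩
    rw [out_mk_of_fixed H d c hc'.fixed]
    exact hc'

/-- The bad cosets form an invariant set for every subgroup centralizing `d`. -/
def badSub (H : Subgroup G) (φ : H →* A) (d : G) (σ : A) (K : Subgroup G)
    (hK : ∀ x ∈ K, x * d = d * x) : SubMulAction K (G ⧸ H) where
  carrier := {c | Bad H φ d σ c}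
  smul_mem' := by
    rintro ⟨x, hx⟩ c ⟨g, rfl, h, hφ⟩
    refine ⟨x * g, rfl, ?_⟩
    have h1 : (x * g)⁻¹ * d * (x * g) = g⁻¹ * d * g := by
      calc (x * g)⁻¹ * d * (x * g) = g⁻¹ * x⁻¹ * (d * x) * g := by group
        _ = g⁻¹ * x⁻¹ * (x * d) * g := by rw [hK x hx]
        _ = g⁻¹ * d * g := by group
    refine ⟨by rw [h1]; exact h, ?_⟩
    rw [← hφ]
    congr 1
    exact Subtype.ext h1

/-- Transfer of a central involution `d` of a self-normalizing 2-subgroup `H`. -/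
theorem transfer_central_involution [Finite G] (H : Subgroup G) (hH : IsPGroup 2 H) (φ : H →* A)
    (d : G) (hd : d ∈ H) (hd2 : d * d = 1) (hdc : ∀ x ∈ H, x * d = d * x)
    (hself : ∀ g : G, (∀ x ∈ H, g⁻¹ * x * g ∈ H) → g ∈ H)
    (hφ : ∀ h : H, φ h = 1 ∨ φ h = φ ⟨d, hd⟩) :
    MonoidHom.transfer φ d = φ ⟨d, hd⟩ := by
  have : Fact (Nat.Prime 2) := ⟨Nat.prime_two⟩
  rw [transfer_involution H φ d hd hd2 hφ]
  set σ := φ ⟨d, hd⟩ with hσ
  have hσ2 : σ ^ 2 = 1 := by
    rw [hσ, ← map_pow]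
    have : (⟨d, hd⟩ : H) ^ 2 = 1 := Subtype.ext (by simp [pow_two, hd2])
    rw [this, map_one]
  have h1 := hH.card_modEq_card_fixedPoints (badSub H φ d σ H hdc)
  have hB1 : Bad H φ d σ (QuotientGroup.mk 1) := by
    rw [bad_mk_iff]
    refine ⟨by simpa using hd, ?_⟩
    rw [hσ]; congr 1; exact Subtype.ext (by simp)
  have h2 : Nat.card (fixedPoints H (badSub H φ d σ H hdc)) = 1 := by
    rw [Nat.card_eq_one_iff_exists]
    refine ⟨⟨⟨QuotientGroup.mk 1, hB1⟩, ?_⟩, ?_⟩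
    · rintro ⟨x, hx⟩
      apply Subtype.ext
      change x • (QuotientGroup.mk 1 : G ⧸ H) = QuotientGroup.mk 1
      rw [smul_mk_eq_iff]; simpa using hx
    · rintro ⟨⟨c, hc⟩, hfix⟩
      apply Subtype.ext
      apply Subtype.ext
      change c = QuotientGroup.mk 1
      induction c using QuotientGroup.induction_on with
      | H g =>
        have hg : g ∈ H := by
          apply hself
          intro x hx
          have h3 := hfix ⟨x, hx⟩
          have h4 : x • (QuotientGroup.mk g : G ⧸ H) = QuotientGroup.mk g :=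
            congrArg Subtype.val h3
          exact (smul_mk_eq_iff H x g).mp h4
        rw [QuotientGroup.eq]
        simpa using H.inv_mem hg
  rw [h2] at h1
  have h3 : Nat.card {c : G ⧸ H // Bad H φ d σ c} % 2 = 1 := h1
  have h4 : Nat.card {c : G ⧸ H // Bad H φ d σ c}
      = 2 * (Nat.card {c : G ⧸ H // Bad H φ d σ c} / 2) + 1 := by omega
  rw [h4, pow_succ, pow_mul, hσ2, one_pow, one_mul]

end Cfsg.Agent.Lib.Helper92Transfer
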