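import Cfsg.Agent.Lib.Helper92Transfer

set_option autoImplicit false

namespace Cfsg.Agent.Lib.Helper92Transfer2

open MulAction Subgroup Cfsg.Agent.Lib.Helper92Transfer

variable {G A : Type*} [Group G] [CommGroup A]

/-- The cosets that are not bad form an invariant set for every subgroup centralizing `d`. -/
def goodSub (H : Subgroup G) (φ : H →* A) (d : G) (σ : A) (K : Subgroup G)
    (hK : ∀ x ∈ K, x * d = d * x) : SubMulAction K (G ⧸ H) where
  carrier := {c | ¬ Bad H φ d σ c}
  smul_mem' := by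
    intro x c hc hbad
    apply hc
    have h1 := (badSub H φ d σ K hK).smul_mem x⁻¹ hbad
    rw [inv_smul_smul] at h1
    exact h1

/-- Transfer of a central involution `d` of a 2-subgroup `H` of odd index, when every conjugate of
`d` under the normalizer of `H` has the same image as `d` under `φ`. -/
theorem transfer_central_involution' [Finite G] (H : Subgroup G) (hH : IsPGroup 2 H)
    (hodd : Odd H.index) (φ : H →* A)
    (d : G) (hd : d ∈ H) (hd2 : d * d = 1) (hdc : ∀ x ∈ H, x * d = d * x)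
    (hN : ∀ g : G, (∀ x ∈ H, g⁻¹ * x * g ∈ H) → ∃ h : g⁻¹ * d * g ∈ H, φ ⟨_, h⟩ = φ ⟨d, hd⟩)
    (hφ : ∀ h : H, φ h = 1 ∨ φ h = φ ⟨d, hd⟩) :
    MonoidHom.transfer φ d = φ ⟨d, hd⟩ := by
  classical
  have : Fact (Nat.Prime 2) := ⟨Nat.prime_two⟩
  rw [transfer_involution H φ d hd hd2 hφ]
  set σ := φ ⟨d, hd⟩ with hσ
  have hσ2 : σ ^ 2 = 1 := by
    rw [hσ, ← map_pow]
    have : (⟨d, hd⟩ : H) ^ 2 = 1 := Subtype.ext (by simp [pow_two, hd2])
    rw [this, map_one]
  have h1 := hH.card_modEq_card_fixedPoints (goodSub H φ d σ H hdc)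
  have h2 : Nat.card (fixedPoints H (goodSub H φ d σ H hdc)) = 0 := by
    rw [Nat.card_eq_zero]
    left
    constructor
    rintro ⟨⟨c, hc⟩, hfix⟩
    apply hc
    induction c using QuotientGroup.induction_on with
    | H g =>
      rw [bad_mk_iff]
      apply hN
      intro x hx
      have h3 := hfix ⟨x, hx⟩
      have h4 : x • (QuotientGroup.mk g : G ⧸ H) = QuotientGroup.mk g :=
        congrArg Subtype.val h3
      exact (smul_mk_eq_iff H x g).mp h4
  rw [h2] at h1
  have h3 : Nat.card {c : G ⧸ H // ¬ Bad H φ d σ c} % 2 = 0 := h1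
  have h5 : Nat.card {c : G ⧸ H // Bad H φ d σ c} + Nat.card {c : G ⧸ H // ¬ Bad H φ d σ c}
      = H.index := by
    rw [← Nat.card_sum]
    exact Nat.card_congr (Equiv.sumCompl _)
  obtain ⟨k, hk⟩ := hodd
  have h4 : Nat.card {c : G ⧸ H // Bad H φ d σ c}
      = 2 * (Nat.card {c : G ⧸ H // Bad H φ d σ c} / 2) + 1 := by omega
  rw [h4, pow_succ, pow_mul, hσ2, one_pow, one_mul]

end Cfsg.Agent.Lib.Helper92Transfer2
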