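import Mathlib
import Cfsg.Agent.Lib.Helper33Pack

/-!
# Counting integer vectors by Kronecker substitution (helper93)

The number of vectors `x` with `x i ∈ V i` and `∑ i, e (x i) = E` is the digit number `E` in base
`2 ^ W` of the product over `i` of the numbers `∑ v ∈ V i, 2 ^ (W * e v)`.
-/

set_option autoImplicit false

namespace Cfsg.Agent.Lib.Helper93Kron

open Cfsg.Agent.Lib.Helper33Pack

theorem card_fiber_eq_dg {ι : Type*} [Fintype ι] [DecidableEq ι] (V : ι → Finset ℤ) (e : ℤ → ℕ)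
    (W : ℕ) (hW : ∏ i, (V i).card < 2 ^ W) (E : ℕ) :
    ((Fintype.piFinset V).filter (fun x => ∑ i, e (x i) = E)).card =
      dg W (∏ i, ∑ v ∈ V i, 2 ^ (W * e v)) E := by
  set S := Fintype.piFinset V with hS
  set K := (∑ x ∈ S, ∑ i, e (x i)) + E + 1 with hK
  have hKx : ∀ x ∈ S, ∑ i, e (x i) < K := by
    intro x hx
    have := Finset.single_le_sum (f := fun x => ∑ i, e (x i)) (fun _ _ => Nat.zero_le _) hx
    omega
  have h1 : ∏ i, ∑ v ∈ V i, 2 ^ (W * e v) = ∑ x ∈ S, 2 ^ (W * ∑ i, e (x i)) := by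
    rw [Finset.prod_univ_sum]
    apply Finset.sum_congr rfl
    intro x _
    rw [Finset.prod_pow_eq_pow_sum, Finset.mul_sum]
  have h2 : ∑ x ∈ S, 2 ^ (W * ∑ i, e (x i)) =
      pk W (fun E => (S.filter (fun x => ∑ i, e (x i) = E)).card) K := by
    unfold pk
    rw [← Finset.sum_fiberwise_of_maps_to (t := Finset.range K) (g := fun x => ∑ i, e (x i))
      (fun x hx => Finset.mem_range.2 (hKx x hx))]
    apply Finset.sum_congr rfl
    intro E' _
    rw [Finset.sum_congr rfl (g := fun _ => 2 ^ (W * E')), Finset.sum_const, smul_eq_mul]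
    intro x hx
    rw [(Finset.mem_filter.1 hx).2]
  rw [h1, h2, dg_pk W _ K _ E (by omega)]
  intro i _
  calc (S.filter (fun x => ∑ i, e (x i) = i)).card ≤ S.card := Finset.card_filter_le _ _
    _ = ∏ i, (V i).card := by rw [hS, Fintype.card_piFinset]
    _ < 2 ^ W := hW

/-- the same for a set of admissible values -/
theorem card_filter_mem_eq_sum {ι : Type*} [Fintype ι] [DecidableEq ι] (V : ι → Finset ℤ)
    (e : ℤ → ℕ) (W : ℕ) (hW : ∏ i, (V i).card < 2 ^ W) (T : Finset ℕ) :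
    ((Fintype.piFinset V).filter (fun x => ∑ i, e (x i) ∈ T)).card =
      ∑ E ∈ T, dg W (∏ i, ∑ v ∈ V i, 2 ^ (W * e v)) E := by
  have H : (((Fintype.piFinset V).filter (fun x => ∑ i, e (x i) ∈ T) : Finset (ι → ℤ)) :
      Set (ι → ℤ)).MapsTo (fun x => ∑ i, e (x i)) (T : Set ℕ) := by
    intro x hx
    exact (Finset.mem_filter.1 (Finset.mem_coe.1 hx)).2
  rw [Finset.card_eq_sum_card_fiberwise H]
  apply Finset.sum_congr rfl
  intro E hE
  rw [← card_fiber_eq_dg V e W hW E]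
  congr 1
  ext x
  simp only [Finset.mem_filter]
  constructor
  · rintro ⟨⟨h1, _⟩, h3⟩; exact ⟨h1, h3⟩
  · rintro ⟨h1, h3⟩; exact ⟨⟨h1, h3 ▸ hE⟩, h3⟩

end Cfsg.Agent.Lib.Helper93Kron
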