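import Cfsg.Agent.Lib.Helper94Dod

/-!
# Quartets of a dodecad (helper93)

Equivariance, the standard quartet `Q0` of the standard dodecad `dec d0`, uniqueness of the quartet
through two triples, normal form of a pair (dodecad, quartet).
-/

set_option autoImplicit false

namespace Cfsg.Agent.Lib.Helper93Quartet

open Cfsg Cfsg.Agent.Lib.Helper33Golay Cfsg.Agent.Lib.Helper94M24A Cfsg.Agent.Lib.Helper94M24B
  Cfsg.Agent.Lib.Helper94Dod
open scoped Pointwise

/-! ### equivariance -/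

theorem smul_mem_hexadsOn {g : Equiv.Perm GolayPt} (hg : g ∈ M24) {d h : Finset GolayPt}
    (hh : h ∈ hexadsOn d) : g • h ∈ hexadsOn (g • d) := by
  obtain ⟨hc, o, ho, rfl⟩ := hh
  refine ⟨by rw [Finset.card_smul_finset]; exact hc, g • o, smul_mem_octads hg ho, ?_⟩
  rw [Finset.smul_finset_inter]

theorem smul_mem_quartets {g : Equiv.Perm GolayPt} (hg : g ∈ M24) {d : Finset GolayPt}
    {Q : Finset (Finset GolayPt)} (hQ : Q ∈ quartets d) : g • Q ∈ quartets (g • d) := by
  obtain ⟨h4, h3, hu⟩ := hQ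
  refine ⟨by rw [Finset.card_smul_finset]; exact h4, ?_, ?_⟩
  · intro t ht
    obtain ⟨t', ht', rfl⟩ := Finset.mem_smul_finset.1 ht
    exact ⟨by rw [Finset.card_smul_finset]; exact (h3 t' ht').1,
      Finset.smul_finset_subset_smul_finset (h3 t' ht').2⟩
  · intro t ht u hu' hne
    obtain ⟨t', ht', rfl⟩ := Finset.mem_smul_finset.1 ht
    obtain ⟨u', hu'', rfl⟩ := Finset.mem_smul_finset.1 hu'
    rw [← Finset.smul_finset_union]
    exact smul_mem_hexadsOn hg (hu t' ht' u' hu'' (fun e => hne (by rw [e])))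

/-! ### hexads on the standard dodecad -/

def isHex (h : ℕ) : Bool := Nat.beq (pop h) 6 && octL.any (fun o => Nat.beq (Nat.land o d0) h)

theorem dec_mem_hexadsOn {h : ℕ} (hh : isHex h = true) : dec h ∈ hexadsOn (dec d0) := by
  simp only [isHex, Bool.and_eq_true, List.any_eq_true] at hh
  obtain ⟨h6, o, ho, e⟩ := hh
  refine ⟨by rw [card_dec, Nat.eq_of_beq_eq_true h6], dec o, dec_mem_octads ho, ?_⟩
  rw [← dec_and]
  exact congrArg dec (Nat.eq_of_beq_eq_true e)

theorem exists_of_mem_hexadsOn {s : Finset GolayPt} (hs : s ∈ hexadsOn (dec d0)) :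
    ∃ o ∈ octL, s = dec (Nat.land o d0) ∧ pop (Nat.land o d0) = 6 := by
  obtain ⟨hc, o, ho, rfl⟩ := hs
  refine ⟨enc o, (mem_octads_iff o).1 ho, ?_, ?_⟩
  · show _ = dec (enc o &&& d0)
    rw [dec_and, dec_enc]
  · rw [← card_dec]
    show (dec (enc o &&& d0)).card = 6
    rw [dec_and, dec_enc]; exact hc

theorem land_d0_lt (o : ℕ) : Nat.land o d0 < 2 ^ 24 :=
  lt_of_le_of_lt Nat.and_le_right (by norm_num [d0])

theorem isHex_of_mem {h : ℕ} (hlt : h < 2 ^ 24) (hh : dec h ∈ hexadsOn (dec d0)) :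
    isHex h = true := by
  obtain ⟨o, ho, e, h6⟩ := exists_of_mem_hexadsOn hh
  have := dec_injOn hlt (land_d0_lt o) e
  simp only [isHex, Bool.and_eq_true, List.any_eq_true]
  refine ⟨by rw [this, h6]; rfl, o, ho, by rw [this]; exact Nat.beq_refl _⟩

/-! ### families of sets given by lists of masks -/

/-- the family of the sets coded by a list of masks -/
def QF (l : List ℕ) : Finset (Finset GolayPt) := (l.map dec).toFinset

theorem mem_QF {l : List ℕ} {t : Finset GolayPt} : t ∈ QF l ↔ ∃ m ∈ l, dec m = t := by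
  simp [QF]

theorem card_QF {l : List ℕ} (hl : ∀ m ∈ l, m < 2 ^ 24) (hn : l.Nodup) : (QF l).card = l.length := by
  unfold QF
  rw [List.toFinset_card_of_nodup, List.length_map]
  exact List.Nodup.map_on (fun a ha b hb h => dec_injOn (hl a ha) (hl b hb) h) hn

/-- Bool test: the list of masks codes a quartet of the standard dodecad -/
def isQ (l : List ℕ) : Bool :=
  Nat.beq l.length 4 && nodupB l &&
    l.all (fun a => Nat.beq (pop a) 3 && Nat.beq (Nat.land a d0) a &&
      l.all (fun b => Nat.beq a b || isHex (Nat.lor a b)))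

theorem isQ_lt {l : List ℕ} (h : isQ l = true) : ∀ m ∈ l, m < 2 ^ 24 := by
  simp only [isQ, Bool.and_eq_true, List.all_eq_true] at h
  intro m hm
  have := Nat.eq_of_beq_eq_true (h.2 m hm).1.2
  rw [← this]; exact land_d0_lt m

theorem QF_mem_quartets {l : List ℕ} (h : isQ l = true) : QF l ∈ quartets (dec d0) := by
  have hlt := isQ_lt h
  simp only [isQ, Bool.and_eq_true, List.all_eq_true, Bool.or_eq_true] at h
  obtain ⟨⟨h4, hn⟩, hall⟩ := h
  refine ⟨by rw [card_QF hlt (nodup_of_nodupB hn), Nat.eq_of_beq_eq_true h4], ?_, ?_⟩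
  · intro t ht
    obtain ⟨m, hm, rfl⟩ := mem_QF.1 ht
    refine ⟨by rw [card_dec, Nat.eq_of_beq_eq_true (hall m hm).1.1], ?_⟩
    rw [dec_subset_iff (hlt m hm)]
    exact Nat.eq_of_beq_eq_true (hall m hm).1.2
  · intro t ht u hu hne
    obtain ⟨a, ha, rfl⟩ := mem_QF.1 ht
    obtain ⟨b, hb, rfl⟩ := mem_QF.1 hu
    rcases (hall a ha).2 b hb with e | e
    · exact absurd (by rw [Nat.eq_of_beq_eq_true e]) hne
    · rw [← dec_or]; exact dec_mem_hexadsOn e

/-! ### the standard quartet -/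

def T1 : ℕ := 8388611
def T2 : ℕ := 131084
def T3 : ℕ := 2359312
def T4 : ℕ := 593920

/-- the standard quartet -/
def Q0 : Finset (Finset GolayPt) := QF [T1, T2, T3, T4]

theorem isQ_Q0 : isQ [T1, T2, T3, T4] = true := by decide +kernel

theorem Q0_mem : Q0 ∈ quartets (dec d0) := QF_mem_quartets isQ_Q0

theorem chkU : octL.all (fun o =>
    !(Nat.beq (pop (Nat.land o d0)) 6) || !(Nat.beq (Nat.land T1 (Nat.land o d0)) T1) ||
    (!(isHex (Nat.lor T2 (Nat.xor (Nat.land o d0) T1))) ||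
      Nat.beq (Nat.xor (Nat.land o d0) T1) T3 || Nat.beq (Nat.xor (Nat.land o d0) T1) T4)) = true := by
  decide +kernel

theorem symmDiff_union_left {s v : Finset GolayPt} (h : Disjoint s v) : symmDiff (s ∪ v) s = v := by
  ext x
  simp only [Finset.mem_symmDiff, Finset.mem_union]
  have hd : x ∈ s → x ∉ v := fun hx => Finset.disjoint_left.1 h hx
  tauto

theorem eq_Q0 {Q : Finset (Finset GolayPt)} (hQ : Q ∈ quartets (dec d0)) (h1 : dec T1 ∈ Q)
    (h2 : dec T2 ∈ Q) : Q = Q0 := by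
  obtain ⟨h4, h3, hu⟩ := hQ
  apply Finset.eq_of_subset_of_card_le
  · intro v hv
    unfold Q0
    rw [mem_QF]
    by_cases e1 : v = dec T1
    · exact ⟨T1, by simp, e1.symm⟩
    by_cases e2 : v = dec T2
    · exact ⟨T2, by simp, e2.symm⟩
    have a1 := hu _ h1 v hv (Ne.symm e1)
    have a2 := hu _ h2 v hv (Ne.symm e2)
    obtain ⟨o, ho, e, h6⟩ := exists_of_mem_hexadsOn a1
    have hdisj : Disjoint (dec T1) v := by
      rw [← Finset.card_union_eq_card_add_card, a1.1, (h3 _ h1).1, (h3 _ hv).1]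
    have hv' : v = dec (Nat.xor (Nat.land o d0) T1) := by
      show v = dec ((Nat.land o d0) ^^^ T1)
      rw [dec_xor, ← e, symmDiff_union_left hdisj]
    have hsub : Nat.land T1 (Nat.land o d0) = T1 := by
      have : dec T1 ⊆ dec (Nat.land o d0) := by rw [← e]; exact Finset.subset_union_left
      rwa [dec_subset_iff (by norm_num [T1])] at this
    have hx : Nat.xor (Nat.land o d0) T1 < 2 ^ 24 :=
      Nat.xor_lt_two_pow (land_d0_lt o) (by norm_num [T1])
    have hhex : isHex (Nat.lor T2 (Nat.xor (Nat.land o d0) T1)) = true := by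
      apply isHex_of_mem (Nat.or_lt_two_pow (by norm_num [T2]) hx)
      show dec (T2 ||| (Nat.xor (Nat.land o d0) T1)) ∈ _
      rw [dec_or, ← hv']; exact a2
    have c := List.all_eq_true.1 chkU o ho
    rw [h6, hsub, hhex] at c
    simp only [Nat.beq_refl, Bool.not_true, Bool.false_or, Bool.or_eq_true] at c
    rcases c with c | c
    · exact ⟨T3, by simp, by rw [hv', Nat.eq_of_beq_eq_true c]⟩
    · exact ⟨T4, by simp, by rw [hv', Nat.eq_of_beq_eq_true c]⟩
  · rw [h4, Q0_mem.1]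

theorem T1_mem : dec T1 ∈ Q0 := mem_QF.2 ⟨T1, by simp, rfl⟩
theorem T2_mem : dec T2 ∈ Q0 := mem_QF.2 ⟨T2, by simp, rfl⟩

/-! ### normal form -/

theorem dec_T1 : dec T1 = {pt 23, pt 0, pt 1} := by decide +kernel

theorem chkH : octL.all (fun o => !(Nat.beq (pop (Nat.land o d0)) 6) ||
    !(Nat.beq (Nat.land 8388623 (Nat.land o d0)) 8388623) ||
    Nat.beq (Nat.land o d0) (Nat.lor T1 T2)) = true := by decide +kernel

theorem std_pair {d : Finset GolayPt} (hd : d ∈ dodecads) {t u : Finset GolayPt} (ht : t.card = 3)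
    (hu : u.card = 3) (htu : Disjoint t u) (hh : t ∪ u ∈ hexadsOn d) :
    ∃ k ∈ M24, k • d = dec d0 ∧ k • t = dec T1 ∧ k • u = dec T2 := by
  obtain ⟨a, b, c, hab, hac, hbc, rfl⟩ := Finset.card_eq_three.1 ht
  obtain ⟨x, y, z, hxy, hxz, hyz, rfl⟩ := Finset.card_eq_three.1 hu
  have hsub : ({a, b, c} ∪ {x, y, z} : Finset GolayPt) ⊆ d := by
    obtain ⟨_, o, _, e⟩ := hh
    rw [← e]; exact Finset.inter_subset_right
  have hm : ∀ p ∈ ({a, b, c} ∪ {x, y, z} : Finset GolayPt), p ∈ d := fun p hp => hsub hp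
  have hdis : ∀ p ∈ ({a, b, c} : Finset GolayPt), ∀ q ∈ ({x, y, z} : Finset GolayPt), p ≠ q :=
    fun p hp q hq e => Finset.disjoint_left.1 htu hp (e ▸ hq)
  obtain ⟨k, hk, kd, k0, k1, k2, k3, k4⟩ := std_d5 hd a b c x y (by
    simp only [List.nodup_cons, List.mem_cons, List.not_mem_nil, or_false, not_or,
      not_false_eq_true, List.nodup_nil, and_true]
    exact ⟨⟨hab, hac, hdis a (by simp) x (by simp), hdis a (by simp) y (by simp)⟩,
      ⟨hbc, hdis b (by simp) x (by simp), hdis b (by simp) y (by simp)⟩,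
      ⟨hdis c (by simp) x (by simp), hdis c (by simp) y (by simp)⟩, hxy⟩)
    (hm a (by simp)) (hm b (by simp)) (hm c (by simp)) (hm x (by simp)) (hm y (by simp))
  have kt : k • ({a, b, c} : Finset GolayPt) = dec T1 := by
    rw [dec_T1, Finset.smul_finset_insert, Finset.smul_finset_insert, Finset.smul_finset_singleton]
    simp only [Equiv.Perm.smul_def, k0, k1, k2]
  refine ⟨k, hk, kd, kt, ?_⟩
  have hh' := smul_mem_hexadsOn hk hh
  rw [kd] at hh'
  obtain ⟨o, ho, e, h6⟩ := exists_of_mem_hexadsOn hh'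
  have hB : Nat.land 8388623 (Nat.land o d0) = 8388623 := by
    have : dec 8388623 ⊆ dec (Nat.land o d0) := by
      rw [← e, dec_B5]
      intro p hp
      simp only [Finset.mem_insert, Finset.mem_singleton] at hp
      rcases hp with rfl | rfl | rfl | rfl | rfl
      · rw [← k0]; exact Finset.smul_mem_smul_finset (a := k) (by simp)
      · rw [← k1]; exact Finset.smul_mem_smul_finset (a := k) (by simp)
      · rw [← k2]; exact Finset.smul_mem_smul_finset (a := k) (by simp)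
      · rw [← k3]; exact Finset.smul_mem_smul_finset (a := k) (by simp)
      · rw [← k4]; exact Finset.smul_mem_smul_finset (a := k) (by simp)
    rwa [dec_subset_iff (by norm_num)] at this
  have cc := List.all_eq_true.1 chkH o ho
  rw [h6, hB] at cc
  simp only [Nat.beq_refl, Bool.not_true, Bool.false_or] at cc
  rw [Nat.eq_of_beq_eq_true cc] at e
  have h1 := congrArg (fun s => k • s) (symmDiff_union_left htu)
  simp only [Finset.smul_finset_symmDiff] at h1
  rw [e, kt, ← dec_xor] at h1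
  rw [← h1]
  rfl

theorem disjoint_of_mem {d : Finset GolayPt} {Q : Finset (Finset GolayPt)} (hQ : Q ∈ quartets d)
    {t u : Finset GolayPt} (ht : t ∈ Q) (hu : u ∈ Q) (hne : t ≠ u) : Disjoint t u := by
  rw [← Finset.card_union_eq_card_add_card, (hQ.2.2 t ht u hu hne).1, (hQ.2.1 t ht).1,
    (hQ.2.1 u hu).1]

/-- a pair (dodecad, quartet) can be moved to the standard one -/
theorem std_quartet {d : Finset GolayPt} (hd : d ∈ dodecads) {Q : Finset (Finset GolayPt)}
    (hQ : Q ∈ quartets d) : ∃ k ∈ M24, k • d = dec d0 ∧ k • Q = Q0 := by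
  obtain ⟨t, ht, u, hu, hne⟩ := Finset.one_lt_card.1 (by rw [hQ.1]; norm_num : 1 < Q.card)
  obtain ⟨k, hk, kd, kt, ku⟩ := std_pair hd (hQ.2.1 t ht).1 (hQ.2.1 u hu).1
    (disjoint_of_mem hQ ht hu hne) (hQ.2.2 t ht u hu hne)
  exact ⟨k, hk, kd, eq_Q0 (kd ▸ smul_mem_quartets hk hQ) (kt ▸ Finset.smul_mem_smul_finset ht)
    (ku ▸ Finset.smul_mem_smul_finset hu)⟩

/-- two triples determine the quartet -/
theorem unique_quartet {d : Finset GolayPt} (hd : d ∈ dodecads) {t u : Finset GolayPt}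
    (ht : t.card = 3) (hu : u.card = 3) (htu : Disjoint t u) (hh : t ∪ u ∈ hexadsOn d) :
    ∃! Q : Finset (Finset GolayPt), Q ∈ quartets d ∧ t ∈ Q ∧ u ∈ Q := by
  obtain ⟨k, hk, kd, kt, ku⟩ := std_pair hd ht hu htu hh
  refine ⟨k⁻¹ • Q0, ⟨?_, ?_, ?_⟩, ?_⟩
  · have := smul_mem_quartets (M24.inv_mem hk) Q0_mem
    rwa [← kd, inv_smul_smul] at this
  · rw [Finset.mem_inv_smul_finset_iff, kt]; exact T1_mem
  · rw [Finset.mem_inv_smul_finset_iff, ku]; exact T2_mem
  · rintro Q' ⟨hQ', h1, h2⟩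
    rw [eq_inv_smul_iff]
    exact eq_Q0 (kd ▸ smul_mem_quartets hk hQ') (kt ▸ Finset.smul_mem_smul_finset h1)
      (ku ▸ Finset.smul_mem_smul_finset h2)

/-- the stabiliser of a dodecad is transitive on its quartets -/
theorem quartet_trans {d : Finset GolayPt} (hd : d ∈ dodecads) {Q Q' : Finset (Finset GolayPt)}
    (hQ : Q ∈ quartets d) (hQ' : Q' ∈ quartets d) : ∃ g ∈ M24, g • d = d ∧ g • Q = Q' := by
  obtain ⟨k, hk, kd, kQ⟩ := std_quartet hd hQ
  obtain ⟨l, hl, ld, lQ⟩ := std_quartet hd hQ'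
  refine ⟨l⁻¹ * k, M24.mul_mem (M24.inv_mem hl) hk, ?_, ?_⟩
  · rw [mul_smul, kd, ← ld, inv_smul_smul]
  · rw [mul_smul, kQ, ← lQ, inv_smul_smul]

end Cfsg.Agent.Lib.Helper93Quartet
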