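import Cfsg.Agent.Lib.Helper43SpDefs2
import Cfsg.Agent.Lib.Helper36SpPmval

set_option autoImplicit false

/-! Project 243, piece `epm`. -/

namespace Cfsg.Agent.Lib.Helper93SpEpm

open Matrix Cfsg.Agent.Lib.Helper43BP Cfsg.Agent.Lib.Helper43St Cfsg.Agent.Lib.Helper43Sp

theorem exists_pm (n : ℕ) (F : Type*) [Field F] :
    ∃ pm : Equiv.Perm (Fin n) →* Sp n F, ∀ σ, pm σ = PM F σ :=
  ⟨MonoidHom.mk' (fun σ => PM F σ) (fun σ τ => Helper36SpPmval.PM_mul σ τ), fun _ => rfl⟩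

end Cfsg.Agent.Lib.Helper93SpEpm
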