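import Cfsg.Agent.Lib.Helper43SpDefs2
import Cfsg.Agent.Lib.Helper43R1Defs
import Cfsg.Agent.Lib.Helper36StSWire

set_option autoImplicit false

/-! Project 243, piece `sthom3`. -/

namespace Cfsg.Agent.Lib.Helper93SpSthom3

open Matrix Cfsg.Agent.Lib.Helper43BP Cfsg.Agent.Lib.Helper43St Cfsg.Agent.Lib.Helper43Sp
open Cfsg.Agent.Lib.Helper43R1 (StR)

theorem st_hom3 {K : Type*} [Field K] [Finite K] {Γ : Type*} [Group Γ] (T : StR 3 K Γ) :
    ∃ f : SpecialLinearGroup (Fin 3) K →* Γ, ∀ p q t, p ≠ q → f (tv p q t) = T.x p q t := by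
  obtain ⟨e, he⟩ := Helper36StSWire.st3_iso K
  obtain ⟨f, hf⟩ := Helper7StStpres.st_lift T
  refine ⟨f.comp e.symm.toMonoidHom, fun p q t hpq => ?_⟩
  have h1 := he ⟨(p, q), hpq⟩ t
  have h2 := hf ⟨(p, q), hpq⟩ t
  simp only at h1 h2
  rw [← h1, ← h2]
  simp

end Cfsg.Agent.Lib.Helper93SpSthom3
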