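import Cfsg.Agent.Lib.Helper13UMain
import Cfsg.Agent.Lib.Helper13UProper
import Cfsg.Agent.Lib.Helper74UDec

set_option autoImplicit false
set_option linter.unusedSectionVars false

/-! Piece `field62b` of the ASCH-U project: an orthonormal basis `v₁, z v₁, z² v₁, v₂, z v₂, z² v₂` adapted to an
isometry `z` with `z ^ 3 = ω`, over the field with four elements. -/

namespace Cfsg.Agent.Lib.Helper94UField62b

open Cfsg Cfsg.Geo Matrix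
open Cfsg.Agent.Lib.Helper97AschBase Cfsg.Agent.Lib.Helper97UBase
  Cfsg.Agent.Lib.Helper98AschDefs Cfsg.Agent.Lib.Helper98AschBasic Cfsg.Agent.Lib.Helper13UDefs
  Cfsg.Agent.Lib.Helper74UDec Cfsg.Agent.Lib.Helper95Herm
open scoped MatrixGroups Kronecker

variable {n : ℕ} {F : Type*} [Field F] {σ : F ≃+* F} {f : (Fin n → F) → (Fin n → F) → F}

/-- the standard element `z` with `z ^ 3 = ω`: `I₂ ⊗ Z`, `Z` the companion matrix of `X ^ 3 - ω` -/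
def Z6 (ω : F) : Matrix (Fin 6) (Fin 6) F :=
  !![0, 0, ω, 0, 0, 0; 1, 0, 0, 0, 0, 0; 0, 1, 0, 0, 0, 0; 0, 0, 0, 0, 0, ω; 0, 0, 0, 1, 0, 0; 0, 0, 0, 0, 1, 0]

lemma add_right' (hf : IsUnitaryForm σ f) (v x y : Fin n → F) : f v (x + y) = f v x + f v y := by
  rw [hf.herm, hf.add_left, map_add, ← hf.herm, ← hf.herm]

lemma smul_right' (hf : IsUnitaryForm σ f) (c : F) (v x : Fin n → F) : f v (c • x) = σ c * f v x := by
  rw [hf.herm, hf.smul_left, map_mul, ← hf.herm]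

section

variable [Fintype F] (hU : US σ f 2) {Z : Matrix (Fin n) (Fin n) F} {ω : F}
  (hω : ω ^ 2 + ω + 1 = 0) (hZ : ∀ u v, f (Z *ᵥ u) (Z *ᵥ v) = f u v)
  (hZ3 : ∀ u, Z *ᵥ (Z *ᵥ (Z *ᵥ u)) = ω • u)

include hU hZ hZ3 in
lemma form_sq (u : Fin n → F) : f (Z *ᵥ (Z *ᵥ u)) u = ω * σ (f (Z *ᵥ u) u) := by
  rw [← hZ (Z *ᵥ (Z *ᵥ u)) u, hZ3, hU.unitary.smul_left, ← hU.unitary.herm]

include hU hω hZ hZ3 in
/-- the key computation -/
lemma exists_adapted {u : Fin n → F} (hu : f u u = 1) :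
    ∃ y : F, f (u + y • (Z *ᵥ u)) (u + y • (Z *ᵥ u)) = 1 ∧
      f (Z *ᵥ (u + y • (Z *ᵥ u))) (u + y • (Z *ᵥ u)) = 0 := by
  have hf := hU.unitary
  have h2 : (2 : F) = 0 := two_eq_zero_of_card hU.card
  obtain ⟨b, hb⟩ : ∃ b, b = f (Z *ᵥ u) u := ⟨_, rfl⟩
  have hb' : f u (Z *ᵥ u) = σ b := by rw [hf.herm, hb]
  have hc : f (Z *ᵥ (Z *ᵥ u)) u = ω * σ b := by rw [form_sq hU hZ hZ3, hb]
  have hN : b = 0 ∨ b * σ b = 1 := by
    by_cases h0 : b = 0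
    · exact Or.inl h0
    · exact Or.inr (norm_eq_one_of_ne hU h0)
  have hσb : σ b = b ^ 2 := hU.pow b
  have hσω : σ ω = ω ^ 2 := hU.pow ω
  refine ⟨ω * σ b, ?_, ?_⟩
  · rw [hf.add_left, add_right' hf, add_right' hf, hf.smul_left, hf.smul_left, smul_right' hf,
      smul_right' hf, hZ, hu, ← hb, hb', map_mul, hf.involutive, hσω, hσb]
    linear_combination (b ^ 3 * ω) * hω
  · rw [Matrix.mulVec_add, Matrix.mulVec_smul, hf.add_left, add_right' hf, add_right' hf, hf.smul_left,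
      hf.smul_left, smul_right' hf, smul_right' hf, hZ, hZ, hu, ← hb, hc, map_mul, hf.involutive, hσω, hσb]
    rcases hN with h0 | h1
    · rw [h0]
      ring
    · rw [hσb] at h1
      have h3 : b ^ 3 = 1 := by linear_combination h1
      linear_combination (ω ^ 2 + ω ^ 3) * b * h3 + b * (ω - 1) * hω + b * (1 + ω ^ 2) * h2

include hU hZ hZ3 in
/-- orthonormality of a triple -/
lemma triple {v : Fin n → F} (h1 : f v v = 1) (h0 : f (Z *ᵥ v) v = 0) :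
    f v (Z *ᵥ v) = 0 ∧ f v (Z *ᵥ (Z *ᵥ v)) = 0 ∧ f (Z *ᵥ v) (Z *ᵥ v) = 1 ∧
      f (Z *ᵥ v) (Z *ᵥ (Z *ᵥ v)) = 0 ∧ f (Z *ᵥ (Z *ᵥ v)) v = 0 ∧ f (Z *ᵥ (Z *ᵥ v)) (Z *ᵥ v) = 0 ∧
      f (Z *ᵥ (Z *ᵥ v)) (Z *ᵥ (Z *ᵥ v)) = 1 := by
  have hf := hU.unitary
  have h2 : f (Z *ᵥ (Z *ᵥ v)) v = 0 := by rw [form_sq hU hZ hZ3, h0, map_zero, mul_zero]
  have h3 : f v (Z *ᵥ v) = 0 := by rw [hf.herm, h0, map_zero]
  have h4 : f v (Z *ᵥ (Z *ᵥ v)) = 0 := by rw [hf.herm, h2, map_zero]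
  exact ⟨h3, h4, by rw [hZ, h1], by rw [hZ, h3], h2, by rw [hZ, h0], by rw [hZ, hZ, h1]⟩

/-- orthogonality to the triple of `v` -/
def P3 (f : (Fin n → F) → (Fin n → F) → F) (Z : Matrix (Fin n) (Fin n) F) (v t : Fin n → F) : Prop :=
  f t v = 0 ∧ f t (Z *ᵥ v) = 0 ∧ f t (Z *ᵥ (Z *ᵥ v)) = 0

include hU hω hZ hZ3 in
lemma P3_Z {v t : Fin n → F} (h : P3 f Z v t) : P3 f Z v (Z *ᵥ t) := by
  have hf := hU.unitary
  obtain ⟨h0, h1, h2⟩ := h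
  refine ⟨?_, by rw [hZ, h0], by rw [hZ, h1]⟩
  have hω0 : σ ω ≠ 0 := by
    intro h
    have : ω = 0 := by simpa using h
    rw [this] at hω
    simp at hω
  have h3 : σ ω * f (Z *ᵥ t) v = 0 := by
    rw [← smul_right' hf, ← hZ3, hZ, h2]
  exact (mul_eq_zero.mp h3).resolve_left hω0

include hU in
lemma P3_add_smul {v t t' : Fin n → F} (y : F) (h : P3 f Z v t) (h' : P3 f Z v t') :
    P3 f Z v (t + y • t') := by
  have hf := hU.unitary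
  obtain ⟨h0, h1, h2⟩ := h
  obtain ⟨h0', h1', h2'⟩ := h'
  refine ⟨?_, ?_, ?_⟩ <;> rw [hf.add_left, hf.smul_left] <;> simp [-Matrix.mulVec_mulVec, *]

end

lemma exists_perp_unit [Fintype F] {f : (Fin 6 → F) → (Fin 6 → F) → F} (hU : US σ f 2)
    {e0 e1 e2 : Fin 6 → F}
    (h00 : f e0 e0 = 1) (h01 : f e0 e1 = 0) (h02 : f e0 e2 = 0)
    (h10 : f e1 e0 = 0) (h11 : f e1 e1 = 1) (h12 : f e1 e2 = 0)
    (h20 : f e2 e0 = 0) (h21 : f e2 e1 = 0) (h22 : f e2 e2 = 1) :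
    ∃ u, f u e0 = 0 ∧ f u e1 = 0 ∧ f u e2 = 0 ∧ f u u = 1 := by
  classical
  have hf := hU.unitary
  have h := herm_of_unitary hf
  by_contra hcon
  push Not at hcon
  set T := h.perp ((({e0, e1, e2} : Finset (Fin 6 → F)) : Set (Fin 6 → F))) with hTdef
  have hT : ∀ t, t ∈ T ↔ f t e0 = 0 ∧ f t e1 = 0 ∧ f t e2 = 0 := by
    intro t
    rw [hTdef, h.mem_perp]
    simp
  have hfin := h.finrank_perp_ge ({e0, e1, e2} : Finset (Fin 6 → F))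
  have hcard : ({e0, e1, e2} : Finset (Fin 6 → F)).card ≤ 3 := Finset.card_le_three
  rw [Module.finrank_fin_fun] at hfin
  have hne : T ≠ ⊥ := by
    intro hb
    rw [← hTdef, hb, finrank_bot] at hfin
    omega
  have hsing : ∀ t ∈ T, f t t = 0 := by
    intro t ht
    by_contra hne
    obtain ⟨a0, a1, a2⟩ := (hT t).1 ht
    exact hcon t a0 a1 a2 (eq_one_of_fixed hU hne (hf.herm t t).symm)
  have hpol := h.polar T hsing
  obtain ⟨t, ht, ht0⟩ := Submodule.exists_mem_ne_zero_of_ne_bot hne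
  obtain ⟨x, hx⟩ := h.nondeg t ht0
  obtain ⟨a0, a1, a2⟩ := (hT t).1 ht
  have b0 : f e0 t = 0 := by rw [hf.herm, a0, map_zero]
  have b1 : f e1 t = 0 := by rw [hf.herm, a1, map_zero]
  have b2 : f e2 t = 0 := by rw [hf.herm, a2, map_zero]
  obtain ⟨s, hs⟩ : ∃ s, s = f x e0 • e0 + (f x e1 • e1 + f x e2 • e2) := ⟨_, rfl⟩
  have hst : f s t = 0 := by
    rw [hs, hf.add_left, hf.add_left, hf.smul_left, hf.smul_left, hf.smul_left, b0, b1, b2]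
    ring
  have hmem : x + (-1 : F) • s ∈ T := by
    rw [hT]
    refine ⟨?_, ?_, ?_⟩
    · rw [hf.add_left, hf.smul_left, hs, hf.add_left, hf.add_left, hf.smul_left, hf.smul_left,
        hf.smul_left, h00, h10, h20]
      ring
    · rw [hf.add_left, hf.smul_left, hs, hf.add_left, hf.add_left, hf.smul_left, hf.smul_left,
        hf.smul_left, h01, h11, h21]
      ring
    · rw [hf.add_left, hf.smul_left, hs, hf.add_left, hf.add_left, hf.smul_left, hf.smul_left,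
        hf.smul_left, h02, h12, h22]
      ring
  have h5 := hpol _ hmem t ht
  rw [hf.add_left, hf.smul_left, hst] at h5
  apply hx
  linear_combination h5

lemma Z6_col0 (ω : F) : Z6 ω *ᵥ Pi.single 0 1 = Pi.single 1 1 := by
  rw [Matrix.mulVec_single_one]
  ext i
  fin_cases i <;> simp [Z6]

lemma Z6_col1 (ω : F) : Z6 ω *ᵥ Pi.single 1 1 = Pi.single 2 1 := by
  rw [Matrix.mulVec_single_one]
  ext i
  fin_cases i <;> simp [Z6]

lemma Z6_col2 (ω : F) : Z6 ω *ᵥ Pi.single 2 1 = ω • Pi.single 0 1 := by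
  rw [Matrix.mulVec_single_one]
  ext i
  fin_cases i <;> simp [Z6]

lemma Z6_col3 (ω : F) : Z6 ω *ᵥ Pi.single 3 1 = Pi.single 4 1 := by
  rw [Matrix.mulVec_single_one]
  ext i
  fin_cases i <;> simp [Z6]

lemma Z6_col4 (ω : F) : Z6 ω *ᵥ Pi.single 4 1 = Pi.single 5 1 := by
  rw [Matrix.mulVec_single_one]
  ext i
  fin_cases i <;> simp [Z6]

lemma Z6_col5 (ω : F) : Z6 ω *ᵥ Pi.single 5 1 = ω • Pi.single 3 1 := by
  rw [Matrix.mulVec_single_one]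
  ext i
  fin_cases i <;> simp [Z6]

/-- [field62b] -/
theorem adapted_ON62 [Fintype F] {f : (Fin 6 → F) → (Fin 6 → F) → F} (hU : US σ f 2)
    {z : GL (Fin 6) F} {ω : F} (hω : ω ^ 2 + ω + 1 = 0) (hz : z ∈ Iso f)
    (hz3 : (z : Matrix (Fin 6) (Fin 6) F) ^ 3 = ω • (1 : Matrix (Fin 6) (Fin 6) F)) :
    ∃ P : GL (Fin 6) F, IsON σ f P ∧
      (z : Matrix (Fin 6) (Fin 6) F) = (P : Matrix (Fin 6) (Fin 6) F) * Z6 ω *
        ((P⁻¹ : GL (Fin 6) F) : Matrix (Fin 6) (Fin 6) F) := by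
  have hf := hU.unitary
  obtain ⟨Z, hZdef⟩ : ∃ Z, Z = (z : Matrix (Fin 6) (Fin 6) F) := ⟨_, rfl⟩
  rw [← hZdef] at hz3 ⊢
  have hZ : ∀ u v, f (Z *ᵥ u) (Z *ᵥ v) = f u v := by
    rw [hZdef]
    exact mem_Iso.1 hz
  have hZ3 : ∀ u, Z *ᵥ (Z *ᵥ (Z *ᵥ u)) = ω • u := by
    intro u
    rw [Matrix.mulVec_mulVec, Matrix.mulVec_mulVec]
    have : Z * Z * Z = Z ^ 3 := by
      rw [pow_succ, pow_two]
    rw [this, hz3, Matrix.smul_mulVec, Matrix.one_mulVec]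
  obtain ⟨P₀, hP₀⟩ := Cfsg.Agent.Lib.Helper13UProper.exists_ON hf
  obtain ⟨u₁, hu₁⟩ : ∃ u, f u u = 1 := by
    refine ⟨(P₀ : Matrix (Fin 6) (Fin 6) F) *ᵥ Pi.single 0 1, ?_⟩
    rw [form_col_right hP₀]
    simp
  obtain ⟨y₁, a1, a0⟩ := exists_adapted hU hω hZ hZ3 hu₁
  obtain ⟨v₁, hv₁⟩ : ∃ v, v = u₁ + y₁ • (Z *ᵥ u₁) := ⟨_, rfl⟩
  rw [← hv₁] at a1 a0
  obtain ⟨t1, t2, t3, t4, t5, t6, t7⟩ := triple hU hZ hZ3 a1 a0
  obtain ⟨u₂, p0, p1, p2, hu₂⟩ := exists_perp_unit hU a1 t1 t2 a0 t3 t4 t5 t6 t7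
  obtain ⟨y₂, b1, b0⟩ := exists_adapted hU hω hZ hZ3 hu₂
  obtain ⟨v₂, hv₂⟩ : ∃ v, v = u₂ + y₂ • (Z *ᵥ u₂) := ⟨_, rfl⟩
  rw [← hv₂] at b1 b0
  obtain ⟨s1, s2, s3, s4, s5, s6, s7⟩ := triple hU hZ hZ3 b1 b0
  have hp : P3 f Z v₁ u₂ := ⟨p0, p1, p2⟩
  have hq0 : P3 f Z v₁ v₂ := by
    rw [hv₂]
    exact P3_add_smul hU y₂ hp (P3_Z hU hω hZ hZ3 hp)
  have hq1 := P3_Z hU hω hZ hZ3 hq0
  have hq2 := P3_Z hU hω hZ hZ3 hq1
  obtain ⟨c00, c01, c02⟩ := hq0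
  obtain ⟨c10, c11, c12⟩ := hq1
  obtain ⟨c20, c21, c22⟩ := hq2
  have sw : ∀ {x y : Fin 6 → F}, f x y = 0 → f y x = 0 := by
    intro x y h
    rw [hf.herm, h, map_zero]
  obtain ⟨P, hP, hPb⟩ := exists_ON_of_family hf
    ![v₁, Z *ᵥ v₁, Z *ᵥ (Z *ᵥ v₁), v₂, Z *ᵥ v₂, Z *ᵥ (Z *ᵥ v₂)] (by
      intro i j
      fin_cases i <;> fin_cases j <;>
        simp [-Matrix.mulVec_mulVec, a1, a0, t1, t2, t3, t4, t5, t6, t7, b1, b0, s1, s2, s3, s4, s5, s6, s7, c00, c01, c02, c10,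
          c11, c12, c20, c21, c22, sw c00, sw c01, sw c02, sw c10, sw c11, sw c12, sw c20, sw c21, sw c22])
  refine ⟨P, hP, ?_⟩
  have key : Z * (P : Matrix (Fin 6) (Fin 6) F) = (P : Matrix (Fin 6) (Fin 6) F) * Z6 ω := by
    apply Matrix.ext_of_mulVec_single
    intro j
    rw [← Matrix.mulVec_mulVec, ← Matrix.mulVec_mulVec, hPb j]
    fin_cases j
    · show Z *ᵥ v₁ = _
      rw [show ((fun i => i) (⟨0, by norm_num⟩ : Fin 6)) = (0 : Fin 6) from rfl, Z6_col0, hPb 1]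
      rfl
    · show Z *ᵥ (Z *ᵥ v₁) = _
      rw [show ((fun i => i) (⟨1, by norm_num⟩ : Fin 6)) = (1 : Fin 6) from rfl, Z6_col1, hPb 2]
      rfl
    · show Z *ᵥ (Z *ᵥ (Z *ᵥ v₁)) = _
      rw [show ((fun i => i) (⟨2, by norm_num⟩ : Fin 6)) = (2 : Fin 6) from rfl, Z6_col2,
        Matrix.mulVec_smul, hPb 0, hZ3]
      rfl
    · show Z *ᵥ v₂ = _
      rw [show ((fun i => i) (⟨3, by norm_num⟩ : Fin 6)) = (3 : Fin 6) from rfl, Z6_col3, hPb 4]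
      rfl
    · show Z *ᵥ (Z *ᵥ v₂) = _
      rw [show ((fun i => i) (⟨4, by norm_num⟩ : Fin 6)) = (4 : Fin 6) from rfl, Z6_col4, hPb 5]
      rfl
    · show Z *ᵥ (Z *ᵥ (Z *ᵥ v₂)) = _
      rw [show ((fun i => i) (⟨5, by norm_num⟩ : Fin 6)) = (5 : Fin 6) from rfl, Z6_col5,
        Matrix.mulVec_smul, hPb 3, hZ3]
      rfl
  rw [← key, Matrix.mul_assoc, ← Units.val_mul, mul_inv_cancel, Units.val_one, Matrix.mul_one]

end Cfsg.Agent.Lib.Helper94UField62b
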