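import Cfsg.Agent.Lib.Helper95SU

set_option autoImplicit false

namespace Cfsg.Agent.Lib.Helper95CU

open Module Cfsg.Agent.Lib.Helper95Sp Cfsg.Agent.Lib.Helper95SpSL Cfsg.Agent.Lib.Helper95Herm
  Cfsg.Agent.Lib.Helper95SU

variable {K V : Type*} [Field K] [AddCommGroup V] [Module K V]
variable {σ : K →+* K} {f : V → V → K}

/-- isotropic vectors all of whose unitary transvections lie in `M` -/
def CU (h : Herm σ f) (M : Subgroup (V ≃ₗ[K] V)) : Set V :=
  {v | ∃ hv : f v v = 0, ∀ z, z + σ z = 0 → h.utv v z hv ∈ M}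

variable {M : Subgroup (V ≃ₗ[K] V)}

lemma CU_iso (h : Herm σ f) {v : V} (hv : v ∈ CU h M) : f v v = 0 := hv.1

lemma zero_mem_CU (h : Herm σ f) : (0 : V) ∈ CU h M := by
  refine ⟨h.zero_left 0, fun z _ => ?_⟩
  have : h.utv 0 z (h.zero_left 0) = 1 := by
    ext x
    rw [h.utv_apply]
    simp
  rw [this]
  exact M.one_mem

lemma CU_map (h : Herm σ f) {v : V} (hv : v ∈ CU h M) (e : V ≃ₗ[K] V) (he : e ∈ M)
    (hiso : ∀ x y, f (e x) (e y) = f x y) : e v ∈ CU h M := by
  obtain ⟨hv0, hv1⟩ := hv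
  refine ⟨by rw [hiso]; exact hv0, fun z hz => ?_⟩
  rw [← utv_conj h e hiso v z hv0]
  exact M.mul_mem (M.mul_mem he (hv1 z hz)) (M.inv_mem he)

lemma CU_smul (h : Herm σ f) {v : V} (hv : v ∈ CU h M) (c : K) : c • v ∈ CU h M := by
  obtain ⟨hv0, hv1⟩ := hv
  have hcv : f (c • v) (c • v) = 0 := by rw [h.smul_left, h.smul_right, hv0]; ring
  refine ⟨hcv, fun z hz => ?_⟩
  have : h.utv (c • v) z hcv = h.utv v (z * (c * σ c)) hv0 := by
    ext x
    rw [h.utv_apply, h.utv_apply, h.smul_right, smul_smul]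
    congr 1
    ring
  rw [this]
  apply hv1
  rw [map_mul, map_mul, h.invol]
  linear_combination (c * σ c) * hz

lemma CU_of_smul (h : Herm σ f) {v : V} {c : K} (hc : c ≠ 0) (hv : c • v ∈ CU h M) :
    v ∈ CU h M := by
  have := CU_smul h hv c⁻¹
  rwa [smul_smul, inv_mul_cancel₀ hc, one_smul] at this

/-- on a hyperbolic line: `b + (z f(b,a)) a` -/
lemma CU_line (h : Herm σ f) (hMiso : ∀ e ∈ M, ∀ x y, f (e x) (e y) = f x y) {a b : V}
    (ha : a ∈ CU h M) (hb : b ∈ CU h M) (z : K) (hz : z + σ z = 0) :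
    b + (z * f b a) • a ∈ CU h M := by
  have h1 := CU_map h hb _ (ha.2 z hz) (hMiso _ (ha.2 z hz))
  rwa [h.utv_apply] at h1

/-- the unitary Siegel transformation
`x ↦ x + f x a • b - f x b • a + (c * f x a) • a` -/
noncomputable def sieg (h : Herm σ f) (a b : V) (c : K) (ha : f a a = 0) (hab : f b a = 0) :
    V ≃ₗ[K] V :=
  LinearEquiv.transvection (f := - h.fl b + (c + f b b) • h.fl a) (v := a) (by
    simp [h.swap_zero hab, ha]) *
  LinearEquiv.transvection (f := h.fl a) (v := b) (show h.fl a b = 0 from hab)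

lemma sieg_apply (h : Herm σ f) (a b : V) (c : K) (ha : f a a = 0) (hab : f b a = 0) (x : V) :
    sieg h a b c ha hab x = x + f x a • b - f x b • a + (c * f x a) • a := by
  simp only [sieg, LinearEquiv.mul_apply, LinearEquiv.transvection.apply, LinearMap.add_apply,
    LinearMap.neg_apply, LinearMap.smul_apply, Herm.fl_apply, smul_eq_mul, h.add_left, h.smul_left,
    hab]
  module

lemma sieg_isometry (h : Herm σ f) (a b : V) (c : K) (ha : f a a = 0) (hab : f b a = 0)
    (hc : c + σ c = - f b b) (x y : V) :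
    f (sieg h a b c ha hab x) (sieg h a b c ha hab y) = f x y := by
  have hba : f a b = 0 := h.swap_zero hab
  simp only [sieg_apply, h.add_left, h.add_right, h.sub_left, h.sub_right, h.smul_left,
    h.smul_right, ha, hab, hba, map_mul, ← h.herm a y, ← h.herm b y]
  linear_combination (f x a * f a y) * hc

lemma sieg_det [FiniteDimensional K V] (h : Herm σ f) (a b : V) (c : K) (ha : f a a = 0)
    (hab : f b a = 0) :
    LinearMap.det ((sieg h a b c ha hab : V ≃ₗ[K] V) : V →ₗ[K] V) = 1 := by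
  have : ((sieg h a b c ha hab : V ≃ₗ[K] V) : V →ₗ[K] V) =
      (LinearMap.transvection (- h.fl b + (c + f b b) • h.fl a) a) *
        (LinearMap.transvection (h.fl a) b) := by
    ext x
    simp [sieg, LinearMap.transvection.apply]
  rw [this, map_mul, LinearMap.transvection.det, LinearMap.transvection.det]
  simp [h.swap_zero hab, ha, hab]

/-- the Siegel transformations with centre `a` are transitive on isotropic vectors `x` with
`f x a = 1` -/
lemma sieg_move (h : Herm σ f) (a x x' : V) (ha : f a a = 0) (hx : f x x = 0) (hx' : f x' x' = 0)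
    (hxa : f x a = 1) (hx'a : f x' a = 1) :
    ∃ (hab : f (x' - x) a = 0), f x x' + σ (f x x') = - f (x' - x) (x' - x) ∧
      sieg h a (x' - x) (f x x') ha hab x = x' := by
  have hab : f (x' - x) a = 0 := by rw [h.sub_left, hxa, hx'a, sub_self]
  refine ⟨hab, ?_, ?_⟩
  · rw [h.sub_left, h.sub_right, h.sub_right, hx, hx', ← h.herm x' x]
    ring
  · rw [sieg_apply, hxa, h.sub_right, hx]
    module

end Cfsg.Agent.Lib.Helper95CU
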