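import Cfsg.Agent.Lib.Helper96SpTv
import Cfsg.Agent.Lib.Helper96Decomp

set_option autoImplicit false

/-! ASCH-SP PART D, pieces `D_sub`, `D_dec`. -/

namespace Cfsg.Agent.Lib.Helper96SpDSub

open Cfsg Cfsg.Geo Matrix
open Cfsg.Agent.Lib.Helper97GBase Cfsg.Agent.Lib.Helper96SpDefs Cfsg.Agent.Lib.Helper96SpTv
open scoped MatrixGroups

variable {ι : Type} [Fintype ι] [DecidableEq ι] {F : Type*} [Field F]
variable {f : (ι → F) → (ι → F) → F}

/-- for a proper subspace `W` and `w ≠ 0` there is `v ∉ W` with `f w v ≠ 0`. -/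
lemma exists_not_mem (hf : IsSymplecticForm f) {W : Submodule F (ι → F)} (h1 : W ≠ ⊤) {w : ι → F}
    (hw : w ≠ 0) : ∃ v, v ∉ W ∧ f w v ≠ 0 := by
  obtain ⟨a, ha⟩ : ∃ a, a ∉ W := by
    by_contra hcon
    push Not at hcon
    exact h1 (eq_top_iff.2 fun x _ => hcon x)
  obtain ⟨b, hb⟩ := (hf.nondegenerate w hw).2
  by_cases h3 : f w a = 0
  · by_cases h4 : b ∈ W
    · refine ⟨a + b, fun h => ha ?_, ?_⟩
      · have := W.sub_mem h h4
        simpa using this
      · rw [hf.bilinear.add_right, h3, zero_add]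
        exact hb
    · exact ⟨b, h4, hb⟩
  · exact ⟨a, ha, h3⟩

/-- [D_sub] -/
theorem notSp_subspace (hf : IsSymplecticForm f) {W : Submodule F (ι → F)} (h0 : W ≠ ⊥) (h1 : W ≠ ⊤) :
    ∃ v c, tv hf v c ∉ subspaceStabilizer W := by
  obtain ⟨w, hwW, hw0⟩ := (Submodule.ne_bot_iff W).1 h0
  obtain ⟨v, hv, hwv⟩ := exists_not_mem hf h1 hw0
  refine ⟨v, 1, fun hmem => hv ?_⟩
  have h2 := (mem_subspaceStabilizer_iff.1 hmem w).1 hwW
  rw [tv_mulVec, one_mul] at h2
  have h3 : (f w v) • v ∈ W := by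
    have := W.sub_mem h2 hwW
    simpa using this
  have := W.smul_mem (f w v)⁻¹ h3
  rwa [smul_smul, inv_mul_cancel₀ hwv, one_smul] at this

/-- [D_sub] -/
theorem ts_ne_top [Nonempty ι] (hf : IsSymplecticForm f) {W : Submodule F (ι → F)}
    (hW : IsTotallySingularFor f W) : W ≠ ⊤ := by
  rintro rfl
  obtain ⟨w, hw⟩ : ∃ w : ι → F, w ≠ 0 := exists_ne 0
  obtain ⟨x, hx⟩ := (hf.nondegenerate w hw).1
  exact hx (hW x Submodule.mem_top w Submodule.mem_top)

/-- [D_dec] -/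
theorem notSp_decomp (hf : IsSymplecticForm f) {t k : ℕ} {D : Fin t → Submodule F (ι → F)}
    (hD : IsMDecomposition k D) (hk : 2 ≤ k) : ∃ v c, tv hf v c ∉ decompositionStabilizer D := by
  classical
  have ht := hD.two_le
  set i0 : Fin t := ⟨0, by omega⟩ with hi0
  set i1 : Fin t := ⟨1, by omega⟩ with hi1
  have h01 : i0 ≠ i1 := by simp [hi0, hi1]
  have hdisj : ∀ i j, i ≠ j → ∀ x, x ∈ D i → x ∈ D j → x = 0 := by
    intro i j hij x hxi hxj
    have := (hD.indep.pairwiseDisjoint hij)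
    rw [Function.onFun, disjoint_iff] at this
    have h2 : x ∈ D i ⊓ D j := ⟨hxi, hxj⟩
    rw [this] at h2
    simpa using h2
  have hbot : ∀ i, D i ≠ ⊥ := by
    intro i h
    have := hD.finrank_eq i
    rw [h, finrank_bot] at this
    omega
  have htop : D i0 ≠ ⊤ := by
    intro h
    obtain ⟨x, hx, hx0⟩ := (Submodule.ne_bot_iff _).1 (hbot i1)
    exact hx0 (hdisj i0 i1 h01 x (h ▸ Submodule.mem_top) hx)
  obtain ⟨w, hwW, hw0⟩ := (Submodule.ne_bot_iff _).1 (hbot i0)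
  obtain ⟨v, hv, hwv⟩ := exists_not_mem hf htop hw0
  refine ⟨v, 1, fun hmem => hv ?_⟩
  obtain ⟨σ, hσ⟩ := Cfsg.Agent.Lib.Helper96Decomp.exists_perm_of_mem_stab hmem
  -- a non-zero vector of `D i0` orthogonal to `v`
  obtain ⟨x, hx, hx0, hxv⟩ : ∃ x ∈ D i0, x ≠ 0 ∧ f x v = 0 := by
    -- another vector of `D i0`, independent of `w`
    obtain ⟨u, hu, hun⟩ : ∃ u ∈ D i0, u ∉ Submodule.span F {w} := by
      by_contra hcon
      push Not at hcon
      have hle : D i0 ≤ Submodule.span F {w} := hcon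
      have h1 := Submodule.finrank_mono hle
      rw [hD.finrank_eq, finrank_span_singleton hw0] at h1
      omega
    refine ⟨u - (f u v / f w v) • w, (D i0).sub_mem hu ((D i0).smul_mem _ hwW), ?_, ?_⟩
    · intro h
      apply hun
      rw [sub_eq_zero] at h
      rw [h]
      exact Submodule.smul_mem _ _ (Submodule.mem_span_singleton_self w)
    · rw [bil_sub_left hf.bilinear, hf.bilinear.smul_left, div_mul_cancel₀ _ hwv, sub_self]
  have h1 := (hσ i0 x).1 hx
  rw [tv_mulVec, hxv, mul_zero, zero_smul, add_zero] at h1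
  have hσ0 : σ i0 = i0 := by
    by_contra hne
    exact hx0 (hdisj _ _ hne x h1 hx)
  have h2 := (hσ i0 w).1 hwW
  rw [hσ0, tv_mulVec, one_mul] at h2
  have h3 : (f w v) • v ∈ D i0 := by
    have := (D i0).sub_mem h2 hwW
    simpa using this
  have := (D i0).smul_mem (f w v)⁻¹ h3
  rwa [smul_smul, inv_mul_cancel₀ hwv, one_smul] at this

end Cfsg.Agent.Lib.Helper96SpDSub
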