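import Cfsg.Agent.Lib.Helper16TiB
import Cfsg.Agent.Lib.Helper16TiC
import Cfsg.Agent.Lib.Helper96TiPM
import Mathlib

/-!
PROJECT 4064, piece `T`.
-/

set_option autoImplicit false

namespace Cfsg.Agent.Lib.Helper96TiT

open Cfsg Cfsg.Agent.Helper16Ti Cfsg.Agent.Lib.Helper96TiPM

variable {G : Type*} [Group G] [Finite G]

theorem split (g : G) : ∃ i j : ℤ, g = g ^ i * g ^ j ∧ (∃ k : ℕ, orderOf (g ^ i) = 2 ^ k) ∧
    Odd (orderOf (g ^ j)) := by
  have hpos : orderOf g ≠ 0 := (orderOf_pos g).ne'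
  obtain ⟨k, m, hm, hkm⟩ := Nat.exists_eq_two_pow_mul_odd hpos
  have hcop : Nat.Coprime (2 ^ k) m := (Nat.coprime_two_left.2 hm).pow_left k
  have hb := Nat.gcd_eq_gcd_ab (2 ^ k) m
  rw [hcop.gcd_eq_one] at hb
  refine ⟨(m : ℤ) * Nat.gcdB (2 ^ k) m, ((2 ^ k : ℕ) : ℤ) * Nat.gcdA (2 ^ k) m, ?_, ?_, ?_⟩
  · rw [← zpow_add]
    have : (m : ℤ) * Nat.gcdB (2 ^ k) m + ((2 ^ k : ℕ) : ℤ) * Nat.gcdA (2 ^ k) m = 1 := by
      rw [add_comm]; exact_mod_cast hb.symm
    rw [this, zpow_one]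
  · have h1 : (g ^ ((m : ℤ) * Nat.gcdB (2 ^ k) m)) ^ (2 ^ k) = 1 := by
      rw [← zpow_natCast, ← zpow_mul]
      have : (m : ℤ) * Nat.gcdB (2 ^ k) m * ((2 ^ k : ℕ) : ℤ)
          = ((orderOf g : ℕ) : ℤ) * Nat.gcdB (2 ^ k) m := by
        rw [hkm]; push_cast; ring
      rw [this, zpow_mul, zpow_natCast, pow_orderOf_eq_one, one_zpow]
    obtain ⟨l, -, hl⟩ := (Nat.dvd_prime_pow Nat.prime_two).1 (orderOf_dvd_of_pow_eq_one h1)
    exact ⟨l, hl⟩
  · have h1 : (g ^ (((2 ^ k : ℕ) : ℤ) * Nat.gcdA (2 ^ k) m)) ^ m = 1 := by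
      rw [← zpow_natCast, ← zpow_mul]
      have : ((2 ^ k : ℕ) : ℤ) * Nat.gcdA (2 ^ k) m * (m : ℤ)
          = ((orderOf g : ℕ) : ℤ) * Nat.gcdA (2 ^ k) m := by
        rw [hkm]; push_cast; ring
      rw [this, zpow_mul, zpow_natCast, pow_orderOf_eq_one, one_zpow]
    exact Odd.of_dvd_nat hm (orderOf_dvd_of_pow_eq_one h1)

theorem exists_t (h : TIC G) (heven : Even (Nat.card G)) :
    ∃ (t : G) (P : Sylow 2 G), WData G t ∧ ∀ x ∈ P, Commute x t := by
  classical
  have : Fact (Nat.Prime 2) := ⟨Nat.prime_two⟩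
  obtain ⟨P⟩ : Nonempty (Sylow 2 G) := inferInstance
  have hPne : (P : Subgroup G) ≠ ⊥ := P.ne_bot_of_dvd_card heven.two_dvd
  have : Nontrivial (P : Subgroup G) := (Subgroup.nontrivial_iff_ne_bot _).2 hPne
  have hZ : Nontrivial (Subgroup.center (P : Subgroup G)) := P.isPGroup'.center_nontrivial
  have hZp : IsPGroup 2 (Subgroup.center (P : Subgroup G)) := P.isPGroup'.to_subgroup _
  obtain ⟨n, hn⟩ := IsPGroup.iff_card.1 hZp
  have hn0 : n ≠ 0 := by
    rintro rfl
    rw [pow_zero] at hn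
    have := Finite.one_lt_card (α := Subgroup.center (P : Subgroup G))
    omega
  have h2dvd : 2 ∣ Nat.card (Subgroup.center (P : Subgroup G)) := by
    rw [hn]; exact dvd_pow_self 2 hn0
  obtain ⟨z, hz⟩ := exists_prime_orderOf_dvd_card' 2 h2dvd
  set t : G := ((z : (P : Subgroup G)) : G) with ht
  have hot : orderOf t = 2 := by
    rw [ht, Subgroup.orderOf_coe, Subgroup.orderOf_coe, hz]
  have ht1 : t ≠ 1 := by
    intro h1
    rw [h1, orderOf_one] at hot
    omega
  have ht2 : t * t = 1 := by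
    rw [← pow_two, ← hot, pow_orderOf_eq_one]
  have hPt : ∀ x ∈ P, Commute x t := by
    intro x hx
    have := Subgroup.mem_center_iff.1 z.2 ⟨x, hx⟩
    have h3 := congrArg (Subtype.val) this
    exact h3
  -- odd elements
  have hA : ∀ a b : G, Odd (orderOf a) → b ≠ 1 → Commute a b → Commute b t → Commute a t := by
    intro a b ha hb hab hbt
    apply h.cop hb hab hbt.symm
    rw [hot]
    exact (Nat.coprime_two_right.2 ha)
  have hmemP : ∀ a : G, (∃ k : ℕ, orderOf a = 2 ^ k) →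
      a ∈ Subgroup.normalizer ((P : Subgroup G) : Set G) → a ∈ P := by
    intro a ⟨k, hk⟩ hn
    have hp : IsPGroup 2 (Subgroup.zpowers a) := by
      rw [IsPGroup.iff_card]
      exact ⟨k, by rw [Nat.card_zpowers, hk]⟩
    have := hp.inf_normalizer_sylow P
    have h1 : a ∈ Subgroup.zpowers a ⊓ (P : Subgroup G) := by
      rw [← this]
      exact ⟨Subgroup.mem_zpowers a, hn⟩
    exact h1.2
  have hB : ∀ a b : G, (∃ k : ℕ, orderOf a = 2 ^ k) → b ≠ 1 → Commute a b → Commute b t →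
      Commute a t := by
    intro a b ha hb hab hbt
    obtain ⟨i, j, hbij, hb2, hbo⟩ := split b
    by_cases hj : b ^ j = 1
    · -- the 2-part is nontrivial
      have hi : b ^ i ≠ 1 := by
        intro hi
        apply hb
        rw [hbij, hi, hj, one_mul]
      have h1 : Commute (b ^ i) t := hbt.zpow_left i
      have h2 : Commute a (b ^ i) := hab.zpow_right i
      have hN := h.norm hi h1 h2
      apply hPt
      apply hmemP a ha
      have hconj : ∀ c : G, c ∈ Subgroup.normalizer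
          ((Subgroup.centralizer ({t} : Set G) : Subgroup G) : Set G) →
          ∀ x ∈ P, c * x * c⁻¹ ∈ P := by
        intro c hc x hx
        apply p_mem h P ht1 hPt (conj_comm_of_mem_norm hc (hPt x hx))
        obtain ⟨k, hk⟩ := (IsPGroup.iff_orderOf.1 P.isPGroup') ⟨x, hx⟩
        refine ⟨k, ?_⟩
        rw [← hk, Subgroup.orderOf_mk]
        have : c * x * c⁻¹ = MulAut.conj c x := rfl
        rw [this, MulEquiv.orderOf_eq]
      rw [Subgroup.mem_normalizer_iff]
      intro x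
      constructor
      · exact hconj a hN x
      · intro hx
        have := hconj a⁻¹ (Subgroup.inv_mem _ hN) _ hx
        have h3 : a⁻¹ * (a * x * a⁻¹) * a⁻¹⁻¹ = x := by group
        rwa [h3] at this
    · have h1 : Commute (b ^ j) t := hbt.zpow_left j
      have h2 : Commute a (b ^ j) := hab.zpow_right j
      apply hPt
      apply p_mem h P hj ?_ h2 ha
      intro x hx
      apply h.cop ht1 (hPt x hx) h1
      obtain ⟨k, hk⟩ := (IsPGroup.iff_orderOf.1 P.isPGroup') ⟨x, hx⟩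
      rw [Subgroup.orderOf_mk] at hk
      rw [hk]
      exact (Nat.coprime_two_left.2 hbo).pow_left k
  refine ⟨t, P, ⟨?_, ht1, ht2⟩, hPt⟩
  intro a b _ hb hab hbt
  obtain ⟨i, j, haij, ha2, hao⟩ := split a
  rw [haij]
  exact (hB _ b ha2 hb (hab.zpow_left i) hbt).mul_left (hA _ b hao hb (hab.zpow_left j) hbt)

end Cfsg.Agent.Lib.Helper96TiT
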