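import Cfsg.Agent.Lib.Helper97AschExtra
import Cfsg.Agent.Lib.Helper97AschTransv

set_option autoImplicit false

namespace Cfsg.Agent.Lib.Helper97AschC6

open Cfsg Cfsg.Geo Matrix Cfsg.Agent.Lib.Helper97AschBase Cfsg.Agent.Lib.Helper97AschHeis
  Cfsg.Agent.Lib.Helper97AschStd Cfsg.Agent.Lib.Helper97AschExtra Cfsg.Agent.Lib.Helper97AschTransv
open scoped MatrixGroups

variable {n : ℕ} {F : Type*} [Field F]

lemma pow_mul_of_mul {a A B : Matrix (Fin n) (Fin n) F} (h : a * B = B * A) (i : ℕ) :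
    a ^ i * B = B * A ^ i := by
  induction i with
  | zero => simp
  | succ i ih => rw [pow_succ, mul_assoc, h, ← mul_assoc, ih, mul_assoc, ← pow_succ]

/-- all elements of `N` in standard coordinates -/
lemma std_all [NeZero n] {N : Subgroup (GL (Fin n) F)}
    (hNSL : N ≤ specialLinear (Fin n) F) (hcomm : ⁅N, N⁆ ≤ scalars (Fin n) F)
    {x y : GL (Fin n) F} {ζ : F} (h : Heis n F x y ζ) (hx : x ∈ N) (hy : y ∈ N)
    {B : GL (Fin n) F} (hBx : (x : Matrix (Fin n) (Fin n) F) * B = B * stdX n ζ)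
    (hBy : (y : Matrix (Fin n) (Fin n) F) * B = B * stdY n F)
    {w : GL (Fin n) F} (hw : w ∈ N) :
    ∃ k < n, ∃ i < n, ∃ j < n, (w : Matrix (Fin n) (Fin n) F) * B =
      B * (ζ ^ k • (stdX n ζ ^ i * stdY n F ^ j)) := by
  obtain ⟨k, hk, i, hi, j, hj, hwv⟩ := normal_form hNSL hcomm h hx hy hw
  refine ⟨k, hk, i, hi, j, hj, ?_⟩
  rw [hwv, Matrix.smul_mul, mul_assoc, pow_mul_of_mul hBy, ← mul_assoc, pow_mul_of_mul hBx,
    Matrix.mul_smul, mul_assoc]

lemma conj_mulVec {w B : GL (Fin n) F} {W₀ : Matrix (Fin n) (Fin n) F}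
    (h : (w : Matrix (Fin n) (Fin n) F) * B = B * W₀) (u : Fin n → F) :
    ((B⁻¹ : GL (Fin n) F) : Matrix (Fin n) (Fin n) F) *ᵥ ((w : Matrix (Fin n) (Fin n) F) *ᵥ u) =
      W₀ *ᵥ (((B⁻¹ : GL (Fin n) F) : Matrix (Fin n) (Fin n) F) *ᵥ u) := by
  have h1 : (w : Matrix (Fin n) (Fin n) F) *ᵥ u = (B : Matrix (Fin n) (Fin n) F) *ᵥ
      (W₀ *ᵥ (((B⁻¹ : GL (Fin n) F) : Matrix (Fin n) (Fin n) F) *ᵥ u)) := by
    rw [Matrix.mulVec_mulVec, ← h, ← Matrix.mulVec_mulVec, mulVec_inv_mulVec]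
  rw [h1, inv_mulVec_mulVec]

/-! ### entries in a subfield -/

/-- all entries lie in the subfield -/
def EntriesIn (F₀ : Subfield F) (M : Matrix (Fin n) (Fin n) F) : Prop := ∀ i j, M i j ∈ F₀

lemma EntriesIn.mul {F₀ : Subfield F} {M M' : Matrix (Fin n) (Fin n) F} (h : EntriesIn F₀ M)
    (h' : EntriesIn F₀ M') : EntriesIn F₀ (M * M') := by
  intro i j
  rw [Matrix.mul_apply]
  exact F₀.sum_mem fun k _ => F₀.mul_mem (h i k) (h' k j)

lemma EntriesIn.one {F₀ : Subfield F} : EntriesIn F₀ (1 : Matrix (Fin n) (Fin n) F) := by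
  intro i j
  by_cases hij : i = j
  · subst hij; rw [Matrix.one_apply_eq]; exact F₀.one_mem
  · rw [Matrix.one_apply_ne hij]; exact F₀.zero_mem

lemma EntriesIn.pow {F₀ : Subfield F} {M : Matrix (Fin n) (Fin n) F} (h : EntriesIn F₀ M) (k : ℕ) :
    EntriesIn F₀ (M ^ k) := by
  induction k with
  | zero => rw [pow_zero]; exact EntriesIn.one
  | succ k ih => rw [pow_succ]; exact ih.mul h

lemma EntriesIn.smul {F₀ : Subfield F} {M : Matrix (Fin n) (Fin n) F} (h : EntriesIn F₀ M) {c : F}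
    (hc : c ∈ F₀) : EntriesIn F₀ (c • M) := by
  intro i j
  rw [Matrix.smul_apply, smul_eq_mul]
  exact F₀.mul_mem hc (h i j)

lemma entriesIn_stdX {F₀ : Subfield F} {ζ : F} (hζ : ζ ∈ F₀) : EntriesIn F₀ (stdX n ζ) := by
  intro i j
  unfold stdX
  by_cases hij : i = j
  · subst hij; rw [Matrix.diagonal_apply_eq]; exact F₀.pow_mem hζ _
  · rw [Matrix.diagonal_apply_ne _ hij]; exact F₀.zero_mem

lemma entriesIn_stdY [NeZero n] {F₀ : Subfield F} : EntriesIn F₀ (stdY n F) := by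
  intro i j
  unfold stdY
  rw [Matrix.of_apply]
  split_ifs
  · exact F₀.one_mem
  · exact F₀.zero_mem

lemma realisable_of [NeZero n] {N : Subgroup (GL (Fin n) F)} {ζ : F} {B : GL (Fin n) F}
    (hB : ∀ w ∈ N, ∃ k < n, ∃ i < n, ∃ j < n, (w : Matrix (Fin n) (Fin n) F) * B =
      B * (ζ ^ k • (stdX n ζ ^ i * stdY n F ^ j)))
    (F₀ : Subfield F) (hζ : ζ ∈ F₀) : RealisableOver F₀ (matrixSet N) := by
  refine ⟨B⁻¹, ?_⟩
  rintro _ ⟨w, hw, rfl⟩
  obtain ⟨k, _, i, _, j, _, hwB⟩ := hB w hw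
  rw [inv_inv, mul_assoc, hwB, ← mul_assoc, val_inv_mul, one_mul]
  exact (((entriesIn_stdX hζ).pow i).mul (entriesIn_stdY.pow j)).smul (F₀.pow_mem hζ k)

/-! ### the standard unitary form -/

/-- the standard hermitian form -/
def f₀ (σ : F ≃+* F) (u v : Fin n → F) : F := ∑ j, u j * σ (v j)

/-- `M` preserves the standard hermitian form -/
def Pres (σ : F ≃+* F) (M : Matrix (Fin n) (Fin n) F) : Prop :=
  ∀ u v, f₀ σ (M *ᵥ u) (M *ᵥ v) = f₀ σ u v

lemma Pres.mul {σ : F ≃+* F} {M M' : Matrix (Fin n) (Fin n) F} (h : Pres σ M) (h' : Pres σ M') :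
    Pres σ (M * M') := by
  intro u v
  rw [← Matrix.mulVec_mulVec, ← Matrix.mulVec_mulVec, h, h']

lemma Pres.one {σ : F ≃+* F} : Pres σ (1 : Matrix (Fin n) (Fin n) F) := by
  intro u v
  rw [Matrix.one_mulVec, Matrix.one_mulVec]

lemma Pres.pow {σ : F ≃+* F} {M : Matrix (Fin n) (Fin n) F} (h : Pres σ M) (k : ℕ) :
    Pres σ (M ^ k) := by
  induction k with
  | zero => rw [pow_zero]; exact Pres.one
  | succ k ih => rw [pow_succ]; exact ih.mul h

lemma Pres.smul {σ : F ≃+* F} {M : Matrix (Fin n) (Fin n) F} (h : Pres σ M) {c : F}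
    (hc : c * σ c = 1) : Pres σ (c • M) := by
  intro u v
  rw [← h u v]
  unfold f₀
  apply Finset.sum_congr rfl
  intro j _
  rw [Matrix.smul_mulVec, Matrix.smul_mulVec, Pi.smul_apply, Pi.smul_apply, smul_eq_mul, smul_eq_mul,
    map_mul]
  calc c * (M *ᵥ u) j * (σ c * σ ((M *ᵥ v) j)) = (c * σ c) * ((M *ᵥ u) j * σ ((M *ᵥ v) j)) := by ring
    _ = _ := by rw [hc, one_mul]

lemma pow_mul_map_pow {σ : F ≃+* F} {c : F} (hc : c * σ c = 1) (k : ℕ) : c ^ k * σ (c ^ k) = 1 := by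
  rw [map_pow, ← mul_pow, hc, one_pow]

lemma pres_stdX {σ : F ≃+* F} {ζ : F} (hζ : ζ * σ ζ = 1) : Pres σ (stdX n ζ) := by
  intro u v
  unfold f₀ stdX
  apply Finset.sum_congr rfl
  intro j _
  rw [Matrix.mulVec_diagonal, Matrix.mulVec_diagonal, map_mul]
  calc ζ ^ (j : ℕ) * u j * (σ (ζ ^ (j : ℕ)) * σ (v j)) =
      (ζ ^ (j : ℕ) * σ (ζ ^ (j : ℕ))) * (u j * σ (v j)) := by ring
    _ = _ := by rw [pow_mul_map_pow hζ, one_mul]

lemma stdY_mulVec [NeZero n] (u : Fin n → F) (j : Fin n) : (stdY n F *ᵥ u) (j + 1) = u j := by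
  rw [Matrix.mulVec, dotProduct, Finset.sum_eq_single j]
  · simp [stdY]
  · intro b _ hb
    simp only [stdY, Matrix.of_apply]
    rw [if_neg (fun h => hb (add_right_cancel h).symm), zero_mul]
  · intro h; exact absurd (Finset.mem_univ j) h

lemma pres_stdY [NeZero n] {σ : F ≃+* F} : Pres σ (stdY n F) := by
  intro u v
  unfold f₀
  rw [← Equiv.sum_comp (Equiv.addRight (1 : Fin n))]
  apply Finset.sum_congr rfl
  intro j _
  simp only [Equiv.coe_addRight]
  rw [stdY_mulVec, stdY_mulVec]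

lemma unitary_of [NeZero n] {N : Subgroup (GL (Fin n) F)} {ζ : F} {B : GL (Fin n) F}
    (hB : ∀ w ∈ N, ∃ k < n, ∃ i < n, ∃ j < n, (w : Matrix (Fin n) (Fin n) F) * B =
      B * (ζ ^ k • (stdX n ζ ^ i * stdY n F ^ j)))
    (σ : F ≃+* F) (hσ1 : σ ≠ RingEquiv.refl F) (hσ2 : ∀ a, σ (σ a) = a) (hζ : ζ * σ ζ = 1) :
    ∃ f : (Fin n → F) → (Fin n → F) → F, IsUnitaryForm σ f ∧ FixesForm (matrixSet N) f := by
  refine ⟨fun u v => f₀ σ (((B⁻¹ : GL (Fin n) F) : Matrix (Fin n) (Fin n) F) *ᵥ u)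
    (((B⁻¹ : GL (Fin n) F) : Matrix (Fin n) (Fin n) F) *ᵥ v), ⟨hσ1, hσ2, ?_, ?_, ?_, ?_⟩, ?_⟩
  · intro a b v
    simp only [f₀, Matrix.mulVec_add, Pi.add_apply, add_mul, Finset.sum_add_distrib]
  · intro c a v
    simp only [f₀, Matrix.mulVec_smul, Pi.smul_apply, smul_eq_mul, Finset.mul_sum, mul_assoc]
  · intro v w
    simp only [f₀, map_sum, map_mul, hσ2]
    apply Finset.sum_congr rfl
    intro j _
    rw [mul_comm]
  · intro v hv
    have hv' : ((B⁻¹ : GL (Fin n) F) : Matrix (Fin n) (Fin n) F) *ᵥ v ≠ 0 := by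
      intro h0
      apply hv
      apply mulVec_injective B⁻¹
      simpa using h0
    obtain ⟨j, hj⟩ := Function.ne_iff.mp hv'
    rw [Pi.zero_apply] at hj
    constructor
    · refine ⟨(B : Matrix (Fin n) (Fin n) F) *ᵥ Pi.single j 1, ?_⟩
      simp only [inv_mulVec_mulVec, f₀]
      rw [Finset.sum_eq_single j]
      · simpa using hj
      · intro b _ hb
        simp [hb]
      · intro h; exact absurd (Finset.mem_univ j) h
    · refine ⟨(B : Matrix (Fin n) (Fin n) F) *ᵥ Pi.single j 1, ?_⟩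
      simp only [inv_mulVec_mulVec, f₀]
      rw [Finset.sum_eq_single j]
      · simpa using hj
      · intro b _ hb
        simp [hb]
      · intro h; exact absurd (Finset.mem_univ j) h
  · rintro _ ⟨w, hw, rfl⟩ u v
    obtain ⟨k, _, i, _, j, _, hwB⟩ := hB w hw
    simp only
    rw [conj_mulVec hwB, conj_mulVec hwB]
    exact (((pres_stdX hζ).pow i).mul (pres_stdY.pow j)).smul (pow_mul_map_pow hζ k) _ _

/-! ### properness -/

lemma fin_succ [NeZero n] (k : ℕ) (hk : k + 1 < n) :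
    (⟨k, by omega⟩ : Fin n) + 1 = ⟨k + 1, hk⟩ := by
  apply Fin.ext
  rw [Fin.val_add]
  have h2 : ((1 : Fin n) : ℕ) = 1 % n := Fin.val_one' n
  rw [h2]
  simp only [Nat.add_mod_mod]
  rw [Nat.mod_eq_of_lt hk]

lemma stdX_pow_single (ζ : F) (i : ℕ) (m : Fin n) :
    (stdX n ζ ^ i) *ᵥ Pi.single m 1 = (ζ ^ (m : ℕ)) ^ i • Pi.single m 1 := by
  induction i with
  | zero => rw [pow_zero, pow_zero, Matrix.one_mulVec, one_smul]
  | succ i ih =>
    rw [pow_succ', ← Matrix.mulVec_mulVec, ih, Matrix.mulVec_smul, stdX_single, smul_smul, pow_succ]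

lemma stdY_pow_single [NeZero n] (j : ℕ) (hj : j < n) :
    (stdY n F ^ j) *ᵥ Pi.single (0 : Fin n) 1 = Pi.single (⟨j, hj⟩ : Fin n) 1 := by
  induction j with
  | zero => rw [pow_zero, Matrix.one_mulVec]; rfl
  | succ j ih =>
    rw [pow_succ', ← Matrix.mulVec_mulVec, ih (by omega), stdY_single, fin_succ]

lemma proper_of [NeZero n] (hn : 2 ≤ n) {N : Subgroup (GL (Fin n) F)} {ζ : F} (hζ1 : ζ ≠ 1)
    {x B : GL (Fin n) F} (hx : x ∈ N)
    (hBx : (x : Matrix (Fin n) (Fin n) F) * B = B * stdX n ζ)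
    (hB : ∀ w ∈ N, ∃ k < n, ∃ i < n, ∃ j < n, (w : Matrix (Fin n) (Fin n) F) * B =
      B * (ζ ^ k • (stdX n ζ ^ i * stdY n F ^ j))) :
    ¬ specialLinear (Fin n) F ≤ subgroupNormalizer N := by
  intro hle
  let i1 : Fin n := ⟨1, by omega⟩
  have h01 : i1 ≠ 0 := by
    intro h
    have := congrArg Fin.val h
    simp [i1] at this
  let u : Fin n → F := Pi.single 0 1
  let φ : Fin n → F := Pi.single i1 1
  have hφ : ∀ v : Fin n → F, φ ⬝ᵥ v = v i1 := fun v => by simp [φ]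
  have hφu : φ ⬝ᵥ u = 0 := by rw [hφ]; simp [u, h01]
  have hmem : B * tv u φ hφu * B⁻¹ ∈ specialLinear (Fin n) F := by
    have h1 := tv_mem_SL u φ hφu
    unfold specialLinear at h1 ⊢
    rw [MonoidHom.mem_ker] at h1 ⊢
    rw [map_mul, map_mul, h1, map_inv]
    simp
  have h2 := hle hmem
  unfold subgroupNormalizer at h2
  rw [Subgroup.mem_normalizer_iff] at h2
  have h3 := (h2 x).mp hx
  obtain ⟨k, hk, i, hi, j, hj, hw⟩ := hB _ h3
  -- the relation in standard coordinates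
  have hrel : (tv u φ hφu : Matrix (Fin n) (Fin n) F) * stdX n ζ =
      (ζ ^ k • (stdX n ζ ^ i * stdY n F ^ j)) * (tv u φ hφu : Matrix (Fin n) (Fin n) F) := by
    have e1 : ((B * tv u φ hφu * B⁻¹ * x * (B * tv u φ hφu * B⁻¹)⁻¹ : GL (Fin n) F) :
        Matrix (Fin n) (Fin n) F) * B * (tv u φ hφu : Matrix (Fin n) (Fin n) F) =
        (B : Matrix (Fin n) (Fin n) F) * tv u φ hφu * ((B⁻¹ : GL (Fin n) F) : Matrix (Fin n) (Fin n) F) *
          (x * B) := by
      simp only [← Units.val_mul]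
      congr 1
      group
    rw [hw, hBx] at e1
    have e2 := congrArg (fun M => ((B⁻¹ : GL (Fin n) F) : Matrix (Fin n) (Fin n) F) * M) e1
    simp only [← mul_assoc, val_inv_mul, one_mul] at e2
    rw [mul_assoc (tv u φ hφu : Matrix (Fin n) (Fin n) F), val_inv_mul, mul_one] at e2
    exact e2.symm
  -- apply to the first basis vector
  have ha := congrArg (fun M => M *ᵥ (Pi.single (0 : Fin n) (1 : F))) hrel
  simp only [← Matrix.mulVec_mulVec, Matrix.smul_mulVec] at ha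
  have htu : (tv u φ hφu : Matrix (Fin n) (Fin n) F) *ᵥ Pi.single (0 : Fin n) (1 : F) =
      Pi.single (0 : Fin n) (1 : F) := by
    rw [tv_mulVec, hφ]
    simp [h01]
  rw [stdX_single, htu, stdY_pow_single j hj, stdX_pow_single] at ha
  simp only [Fin.val_zero, pow_zero, one_smul] at ha
  rw [htu] at ha
  have hj0 : j = 0 := by
    by_contra hj0
    have h5 := congrFun ha 0
    have h6 : (0 : Fin n) ≠ ⟨j, hj⟩ := by
      intro h
      have := congrArg Fin.val h
      simp at this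
      exact hj0 this.symm
    simp [h6] at h5
  subst hj0
  have hk1 : ζ ^ k = 1 := by
    have h5 := congrFun ha 0
    have h6 : (⟨0, hj⟩ : Fin n) = 0 := rfl
    simp [h6] at h5
    exact h5.symm
  -- apply to the second basis vector
  have hb := congrArg (fun M => M *ᵥ (Pi.single i1 (1 : F))) hrel
  simp only [← Matrix.mulVec_mulVec, Matrix.smul_mulVec] at hb
  have ht1 : (tv u φ hφu : Matrix (Fin n) (Fin n) F) *ᵥ Pi.single i1 (1 : F) =
      Pi.single i1 (1 : F) + Pi.single (0 : Fin n) (1 : F) := by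
    rw [tv_mulVec, hφ]
    simp [u]
  rw [stdX_single, Matrix.mulVec_smul, ht1, hk1, one_smul, pow_zero, Matrix.one_mulVec,
    Matrix.mulVec_add, stdX_pow_single, stdX_pow_single] at hb
  have h7 := congrFun hb 0
  simp [h01.symm, i1] at h7
  exact hζ1 h7

/-! ### finite fields -/

lemma exists_not_fixed [Fintype F] {p e d : ℕ} (hp : p.Prime) (hcard : Fintype.card F = p ^ e)
    (hd0 : 0 < d) (hde : d < e) : ∃ a : F, a ^ (p ^ d) ≠ a := by
  classical
  by_contra hcon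
  push Not at hcon
  obtain ⟨g, hg⟩ := IsCyclic.exists_generator (α := Fˣ)
  have hord : orderOf g = p ^ e - 1 := by
    rw [orderOf_eq_card_of_forall_mem_zpowers hg, Nat.card_eq_fintype_card, Fintype.card_units, hcard]
  have h6 : 1 < p ^ d := Nat.one_lt_pow hd0.ne' hp.one_lt
  have h1 : g ^ (p ^ d - 1) = 1 := by
    have h2 := hcon (g : F)
    have h3 : (g : F) ^ (p ^ d - 1) * g = g := by
      rw [← pow_succ, Nat.sub_add_cancel h6.le]; exact h2
    apply Units.ext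
    rw [Units.val_pow_eq_pow_val, Units.val_one]
    exact mul_right_cancel₀ g.ne_zero (by rw [h3, one_mul])
  have h4 := orderOf_dvd_of_pow_eq_one h1
  rw [hord] at h4
  have h5 : p ^ d < p ^ e := Nat.pow_lt_pow_right hp.one_lt hde
  have := Nat.le_of_dvd (by omega) h4
  omega

/-- class six -/
lemma c6 [Fintype F] (hn : n.Prime) (hodd : n ≠ 2) {H N : Subgroup (GL (Fin n) F)}
    (hHSL : H ≤ specialLinear (Fin n) F) (hNH : N ≤ H) (hnorm : Nz H N)
    (habs : ActsAbsolutelyIrreducibly (matrixSet N)) (hcomm : ⁅N, N⁆ ≤ scalars (Fin n) F)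
    (hall : ∀ A : Subgroup (GL (Fin n) F), A ≤ N → Nz H A → (∀ a ∈ A, ∀ b ∈ A, a * b = b * a) →
      A ≤ scalars (Fin n) F) :
    (IsLinearSymplecticTypeData n N ∧ ¬ specialLinear (Fin n) F ≤ subgroupNormalizer N) ∨
    (∃ F₀ : Subfield F, F₀ ≠ ⊤ ∧ RealisableOver F₀ (matrixSet N)) ∨
    (∃ (σ : F ≃+* F) (f : (Fin n → F) → (Fin n → F) → F), IsUnitaryForm σ f ∧
      FixesForm (matrixSet N) f) := by
  have : NeZero n := ⟨hn.ne_zero⟩
  have hNSL := hNH.trans hHSL
  obtain ⟨x, hx, y, hy, ζ, h⟩ := exists_heis hn hodd hNSL habs hcomm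
  obtain ⟨B, hBx, hBy⟩ := exists_std h
  have hB := fun w hw => std_all hNSL hcomm h hx hy hBx hBy (w := w) hw
  obtain ⟨p, hchar, e, hp, hcard⟩ := FiniteField.card' F
  have : Fact p.Prime := ⟨hp⟩
  have hζ0 : ζ ≠ 0 := h.prim.ne_zero hn.ne_zero
  have hdvd : n ∣ p ^ (e : ℕ) - 1 := by
    apply h.prim.dvd_of_pow_eq_one
    rw [← hcard]
    exact FiniteField.pow_card_sub_one_eq_one ζ hζ0
  have hfix : ∀ d, n ∣ p ^ d - 1 → ζ ^ (p ^ d) = ζ := by
    intro d hd
    obtain ⟨c, hc⟩ := hd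
    have h1 : p ^ d = n * c + 1 := by
      have := Nat.one_le_pow d p hp.pos
      omega
    rw [h1, pow_succ, pow_mul, h.prim.pow_eq_one, one_pow, one_mul]
  by_cases hmin : ∃ d, 0 < d ∧ d < (e : ℕ) ∧ n ∣ p ^ d - 1
  · obtain ⟨d, hd0, hde, hd⟩ := hmin
    right; left
    refine ⟨RingHom.eqLocusField (iterateFrobenius F p d) (RingHom.id F), ?_, realisable_of hB _ ?_⟩
    · intro htop
      obtain ⟨a, ha⟩ := exists_not_fixed hp hcard hd0 hde
      have h1 : a ∈ RingHom.eqLocusField (iterateFrobenius F p d) (RingHom.id F) := by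
        rw [htop]; trivial
      exact ha h1
    · exact hfix d hd
  · push Not at hmin
    rcases Nat.even_or_odd (e : ℕ) with he | he
    · right; right
      obtain ⟨m, hm⟩ := he
      have hm0 : 0 < m := by
        have := e.pos
        omega
      have hme : m < (e : ℕ) := by omega
      refine ⟨iterateFrobeniusEquiv F p m, unitary_of hB _ ?_ ?_ ?_⟩
      · intro hrefl
        obtain ⟨a, ha⟩ := exists_not_fixed hp hcard hm0 hme
        apply ha
        have h1 := congrArg (fun τ : F ≃+* F => τ a) hrefl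
        exact h1
      · intro a
        rw [iterateFrobeniusEquiv_def, iterateFrobeniusEquiv_def, ← pow_mul, ← pow_add, ← hm, ← hcard]
        exact FiniteField.pow_card a
      · rw [iterateFrobeniusEquiv_def, ← pow_succ']
        have h1 : (p ^ m - 1) * (p ^ m + 1) = p ^ (e : ℕ) - 1 := by
          have h2 := Nat.one_le_pow m p hp.pos
          rw [hm, pow_add]
          obtain ⟨c, hc⟩ : ∃ c, p ^ m = c + 1 := ⟨p ^ m - 1, by omega⟩
          rw [hc]
          simp only [Nat.add_sub_cancel]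
          have : (c + 1) * (c + 1) = c * (c + 1 + 1) + 1 := by ring
          rw [this, Nat.add_sub_cancel]
        rw [← h1] at hdvd
        rcases (Nat.Prime.dvd_mul hn).mp hdvd with h3 | h3
        · exact absurd h3 (hmin m hm0 hme)
        · obtain ⟨c, hc⟩ := h3
          rw [hc, pow_mul, h.prim.pow_eq_one, one_pow]
    · left
      have hcc := card_center hn hNSL habs h hx hy
      refine ⟨⟨symplecticType hn hodd hNSL hnorm habs hcomm hall h hx hy, habs, p, e, ?_,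
        ⟨hp, hchar, hcard, ?_, ?_⟩, Or.inl ⟨hn.odd_of_ne_two hodd, he, hcc, 1, le_rfl, ?_⟩⟩,
        proper_of hn.two_le (h.prim.ne_one hn.one_lt) hx hBx hB⟩
      · rintro rfl
        have h1 : n ∣ n ^ (e : ℕ) := dvd_pow_self n e.pos.ne'
        have h2 := Nat.one_le_pow e n hp.pos
        have h3 : n ∣ 1 := by
          have := (Nat.dvd_sub h1 hdvd)
          rwa [Nat.sub_sub_self h2] at this
        exact hn.one_lt.ne' (Nat.dvd_one.mp h3)
      · rw [hcc]; exact hdvd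
      · rw [hcc]; exact hmin
      · exact card_eq hNSL hcomm h hx hy

end Cfsg.Agent.Lib.Helper97AschC6
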