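import Cfsg.Agent.Lib.Helper97AschStd

set_option autoImplicit false

namespace Cfsg.Agent.Lib.Helper97AschExtra

open Cfsg Cfsg.Geo Matrix Cfsg.Agent.Lib.Helper97AschBase Cfsg.Agent.Lib.Helper97AschHeis
  Cfsg.Agent.Lib.Helper97AschStd
open scoped MatrixGroups

variable {n : ℕ} {F : Type*} [Field F]

lemma smul_cancel [NeZero n] (g : GL (Fin n) F) {a b : F}
    (h : a • (g : Matrix (Fin n) (Fin n) F) = b • (g : Matrix (Fin n) (Fin n) F)) : a = b := by
  have h1 := congrArg (fun M => M * ((g⁻¹ : GL (Fin n) F) : Matrix (Fin n) (Fin n) F)) h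
  simp only [Matrix.smul_mul, val_mul_inv] at h1
  have h2 := congrFun (congrFun h1 0) 0
  simpa using h2

section

variable {x y : GL (Fin n) F} {ζ : F}

/-- the central element -/
def zz (x y : GL (Fin n) F) : GL (Fin n) F := x * y * x⁻¹ * y⁻¹

lemma zz_val (h : Heis n F x y ζ) : (zz x y : Matrix (Fin n) (Fin n) F) = ζ • 1 := by
  unfold zz
  rw [Units.val_mul, Units.val_mul, Units.val_mul, h.rel, Matrix.smul_mul, Matrix.smul_mul,
    mul_assoc (y : Matrix (Fin n) (Fin n) F), val_mul_inv, mul_one, val_mul_inv]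

lemma zz_mem {N : Subgroup (GL (Fin n) F)} (hx : x ∈ N) (hy : y ∈ N) : zz x y ∈ N :=
  N.mul_mem (N.mul_mem (N.mul_mem hx hy) (N.inv_mem hx)) (N.inv_mem hy)

lemma word_val (h : Heis n F x y ζ) (k i j : ℕ) :
    ((zz x y ^ k * x ^ i * y ^ j : GL (Fin n) F) : Matrix (Fin n) (Fin n) F) =
      ζ ^ k • ((x : Matrix (Fin n) (Fin n) F) ^ i * (y : Matrix (Fin n) (Fin n) F) ^ j) := by
  rw [Units.val_mul, Units.val_mul, Units.val_pow_eq_pow_val, Units.val_pow_eq_pow_val,
    Units.val_pow_eq_pow_val, zz_val h, _root_.smul_pow, one_pow, Matrix.smul_mul, Matrix.smul_mul,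
    one_mul]

lemma word_x (h : Heis n F x y ζ) (k i j : ℕ) :
    (x : Matrix (Fin n) (Fin n) F) * (ζ ^ k • ((x : Matrix (Fin n) (Fin n) F) ^ i * (y : Matrix (Fin n) (Fin n) F) ^ j)) =
      ζ ^ j • ((ζ ^ k • ((x : Matrix (Fin n) (Fin n) F) ^ i * (y : Matrix (Fin n) (Fin n) F) ^ j)) * x) := by
  rw [Matrix.mul_smul, Matrix.smul_mul, ← mul_assoc, ← pow_succ', pow_succ, mul_assoc,
    rel_pow_right h j, Matrix.mul_smul, smul_comm, mul_assoc]

lemma word_y (h : Heis n F x y ζ) (k i j : ℕ) :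
    (ζ ^ k • ((x : Matrix (Fin n) (Fin n) F) ^ i * (y : Matrix (Fin n) (Fin n) F) ^ j)) * y =
      ζ ^ i • ((y : Matrix (Fin n) (Fin n) F) * (ζ ^ k • ((x : Matrix (Fin n) (Fin n) F) ^ i * (y : Matrix (Fin n) (Fin n) F) ^ j))) := by
  rw [Matrix.mul_smul, Matrix.smul_mul, mul_assoc, ← pow_succ, pow_succ', ← mul_assoc,
    rel_pow_left h i, Matrix.smul_mul, smul_comm, mul_assoc]

lemma word_inj [NeZero n] (h : Heis n F x y ζ) {k i j k' i' j' : ℕ} (hk : k < n) (hi : i < n) (hj : j < n)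
    (hk' : k' < n) (hi' : i' < n) (hj' : j' < n)
    (he : zz x y ^ k * x ^ i * y ^ j = zz x y ^ k' * x ^ i' * y ^ j') : k = k' ∧ i = i' ∧ j = j' := by
  have hv := congrArg (fun g : GL (Fin n) F => (g : Matrix (Fin n) (Fin n) F)) he
  simp only [word_val h] at hv
  have hj2 : j = j' := by
    have h1 := word_x h k i j
    have h2 := word_x h k' i' j'
    rw [← hv, h1] at h2
    rw [← word_val h, ← Units.val_mul] at h2
    exact h.prim.pow_inj hj hj' (smul_cancel _ h2)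
  have hi2 : i = i' := by
    have h1 := word_y h k i j
    have h2 := word_y h k' i' j'
    rw [← hv, h1] at h2
    rw [← word_val h, ← Units.val_mul] at h2
    exact h.prim.pow_inj hi hi' (smul_cancel _ h2)
  subst hj2 hi2
  refine ⟨?_, rfl, rfl⟩
  have h3 : (x : Matrix (Fin n) (Fin n) F) ^ i * (y : Matrix (Fin n) (Fin n) F) ^ j =
      ((x ^ i * y ^ j : GL (Fin n) F) : Matrix (Fin n) (Fin n) F) := by
    rw [Units.val_mul, Units.val_pow_eq_pow_val, Units.val_pow_eq_pow_val]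
  rw [h3] at hv
  exact h.prim.pow_inj hk hk' (smul_cancel _ hv)

end

section structure_of_N

variable {N : Subgroup (GL (Fin n) F)} {x y : GL (Fin n) F} {ζ : F}

lemma card_eq [NeZero n] (hNSL : N ≤ specialLinear (Fin n) F) (hcomm : ⁅N, N⁆ ≤ scalars (Fin n) F)
    (h : Heis n F x y ζ) (hx : x ∈ N) (hy : y ∈ N) : Nat.card N = n ^ 3 := by
  let Φ : Fin n × Fin n × Fin n → N := fun t =>
    ⟨zz x y ^ (t.1 : ℕ) * x ^ (t.2.1 : ℕ) * y ^ (t.2.2 : ℕ),
      N.mul_mem (N.mul_mem (N.pow_mem (zz_mem hx hy) _) (N.pow_mem hx _)) (N.pow_mem hy _)⟩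
  have hinj : Function.Injective Φ := by
    rintro ⟨k, i, j⟩ ⟨k', i', j'⟩ he
    have he' := congrArg Subtype.val he
    obtain ⟨h1, h2, h3⟩ := word_inj h k.2 i.2 j.2 k'.2 i'.2 j'.2 he'
    rw [Prod.mk.injEq, Prod.mk.injEq]
    exact ⟨Fin.ext h1, Fin.ext h2, Fin.ext h3⟩
  have hsurj : Function.Surjective Φ := by
    rintro ⟨w, hw⟩
    obtain ⟨k, hk, i, hi, j, hj, hwv⟩ := normal_form hNSL hcomm h hx hy hw
    refine ⟨(⟨k, hk⟩, ⟨i, hi⟩, ⟨j, hj⟩), ?_⟩
    apply Subtype.ext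
    apply Units.ext
    rw [hwv]
    exact word_val h k i j
  rw [← Nat.card_congr (Equiv.ofBijective Φ ⟨hinj, hsurj⟩)]
  simp [Nat.card_prod]
  ring

lemma mem_zpowers_of_scalar [NeZero n] (hNSL : N ≤ specialLinear (Fin n) F)
    (h : Heis n F x y ζ) (hx : x ∈ N) (hy : y ∈ N) (w : N)
    (hw : (w : GL (Fin n) F) ∈ scalars (Fin n) F) :
    w ∈ Subgroup.zpowers (⟨zz x y, zz_mem hx hy⟩ : N) := by
  obtain ⟨c, hc⟩ := (mem_scalars_iff _).mp hw
  have hdet : ((w : GL (Fin n) F) : Matrix (Fin n) (Fin n) F).det = 1 :=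
    mem_specialLinear_iff.mp (hNSL w.2)
  rw [hc, Matrix.det_smul, Matrix.det_one, mul_one, Fintype.card_fin] at hdet
  obtain ⟨k, _, hk⟩ := h.prim.eq_pow_of_pow_eq_one hdet
  rw [Subgroup.mem_zpowers_iff]
  refine ⟨k, ?_⟩
  apply Subtype.ext
  apply Units.ext
  rw [zpow_natCast, hc, ← hk]
  simp [Units.val_pow_eq_pow_val, zz_val h, _root_.smul_pow]

lemma orderOf_zz (hn : n.Prime) (h : Heis n F x y ζ) (hx : x ∈ N) (hy : y ∈ N) :
    orderOf (⟨zz x y, zz_mem hx hy⟩ : N) = n := by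
  have : Fact n.Prime := ⟨hn⟩
  have : NeZero n := ⟨hn.ne_zero⟩
  apply orderOf_eq_prime
  · apply Subtype.ext
    apply Units.ext
    simp [Units.val_pow_eq_pow_val, zz_val h, _root_.smul_pow, h.prim.pow_eq_one]
  · intro h1
    have h2 := congrArg (fun g : N => ((g : GL (Fin n) F) : Matrix (Fin n) (Fin n) F)) h1
    simp only [zz_val h] at h2
    have h3 : ζ • ((1 : GL (Fin n) F) : Matrix (Fin n) (Fin n) F) = (1 : F) • ((1 : GL (Fin n) F) : Matrix (Fin n) (Fin n) F) := by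
      simpa using h2
    exact h.prim.ne_one hn.one_lt (smul_cancel _ h3)

lemma center_eq (hn : n.Prime) (hNSL : N ≤ specialLinear (Fin n) F)
    (habs : ActsAbsolutelyIrreducibly (matrixSet N))
    (h : Heis n F x y ζ) (hx : x ∈ N) (hy : y ∈ N) :
    Subgroup.center N = Subgroup.zpowers (⟨zz x y, zz_mem hx hy⟩ : N) := by
  have : NeZero n := ⟨hn.ne_zero⟩
  apply le_antisymm
  · intro w hw
    apply mem_zpowers_of_scalar hNSL h hx hy
    apply mem_scalars_of_comm hn.pos habs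
    intro u hu
    have := Subgroup.mem_center_iff.mp hw ⟨u, hu⟩
    exact (congrArg Subtype.val this).symm
  · rw [Subgroup.zpowers_le, Subgroup.mem_center_iff]
    intro g
    apply Subtype.ext
    apply Units.ext
    simp [zz_val h]

lemma card_center (hn : n.Prime) (hNSL : N ≤ specialLinear (Fin n) F)
    (habs : ActsAbsolutelyIrreducibly (matrixSet N))
    (h : Heis n F x y ζ) (hx : x ∈ N) (hy : y ∈ N) :
    Nat.card (Subgroup.center N) = n := by
  rw [center_eq hn hNSL habs h hx hy, Nat.card_zpowers, orderOf_zz hn h hx hy]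

/-- conjugation by a normalising element as an automorphism -/
def conjEquiv (N : Subgroup (GL (Fin n) F)) (g : GL (Fin n) F) (h1 : ∀ x ∈ N, g * x * g⁻¹ ∈ N)
    (h2 : ∀ x ∈ N, g⁻¹ * x * g ∈ N) : N ≃* N where
  toFun x := ⟨g * x * g⁻¹, h1 x x.2⟩
  invFun x := ⟨g⁻¹ * x * g, h2 x x.2⟩
  left_inv x := by apply Subtype.ext; simp [mul_assoc]
  right_inv x := by apply Subtype.ext; simp [mul_assoc]
  map_mul' a b := by apply Subtype.ext; simp [mul_assoc]

lemma symplecticType (hn : n.Prime) (hodd : n ≠ 2) {H : Subgroup (GL (Fin n) F)}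
    (hNSL : N ≤ specialLinear (Fin n) F) (hnorm : Nz H N)
    (habs : ActsAbsolutelyIrreducibly (matrixSet N)) (hcomm : ⁅N, N⁆ ≤ scalars (Fin n) F)
    (hall : ∀ A : Subgroup (GL (Fin n) F), A ≤ N → Nz H A → (∀ a ∈ A, ∀ b ∈ A, a * b = b * a) →
      A ≤ scalars (Fin n) F)
    (h : Heis n F x y ζ) (hx : x ∈ N) (hy : y ∈ N) : IsSymplecticTypeGroup n N := by
  have : NeZero n := ⟨hn.ne_zero⟩
  have hcard := card_eq hNSL hcomm h hx hy
  refine ⟨hn, IsPGroup.of_card hcard, ?_, ?_⟩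
  · intro A hchar hc
    have hA : A.map N.subtype ≤ scalars (Fin n) F := by
      apply hall
      · rintro _ ⟨a, _, rfl⟩
        exact a.2
      · rintro g hg _ ⟨a, ha, rfl⟩
        have h1 : ∀ x ∈ N, g * x * g⁻¹ ∈ N := fun x hx => hnorm g hg x hx
        have h2 : ∀ x ∈ N, g⁻¹ * x * g ∈ N := fun x hx => by
          have := hnorm g⁻¹ (H.inv_mem hg) x hx
          rwa [inv_inv] at this
        have h3 := hchar.fixed (conjEquiv N g h1 h2).symm
        have h4 : (conjEquiv N g h1 h2) a ∈ A := by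
          rw [← h3, Subgroup.mem_comap]
          simpa using ha
        exact ⟨_, h4, rfl⟩
      · rintro _ ⟨a, ha, rfl⟩ _ ⟨b, hb, rfl⟩
        have := hc.is_comm.comm ⟨a, ha⟩ ⟨b, hb⟩
        have h5 := congrArg (fun t : A => ((t : N) : GL (Fin n) F)) this
        exact h5
    have hle : A ≤ Subgroup.zpowers (⟨zz x y, zz_mem hx hy⟩ : N) := by
      intro a ha
      apply mem_zpowers_of_scalar hNSL h hx hy
      exact hA ⟨a, ha, rfl⟩
    exact Subgroup.isCyclic_of_le hle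
  · have hg : Nat.gcd 2 n = 1 := by
      rw [Nat.coprime_primes Nat.prime_two hn |>.mpr (Ne.symm hodd)]
    rw [hg, mul_one]
    have hd : Monoid.exponent N ∣ n := by
      apply Monoid.exponent_dvd_of_forall_pow_eq_one
      intro g
      apply Subtype.ext
      exact pow_eq_one_of_mem hn hodd hNSL habs hcomm g.2
    rcases (Nat.dvd_prime hn).mp hd with h1 | h1
    · exfalso
      rw [Monoid.exp_eq_one_iff] at h1
      have h2 : Nat.card N = 1 := Nat.card_eq_one_iff_unique.mpr ⟨h1, ⟨1⟩⟩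
      rw [hcard] at h2
      have := hn.one_lt
      have h3 : 1 < n ^ 3 := Nat.one_lt_pow (by norm_num) this
      omega
    · exact h1

end structure_of_N

end Cfsg.Agent.Lib.Helper97AschExtra
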