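import Cfsg.Agent.Lib.Helper97AschCore

set_option autoImplicit false

namespace Cfsg.Agent.Lib.Helper97AschHeis

open Cfsg Cfsg.Geo Matrix Polynomial Cfsg.Agent.Lib.Helper97AschBase
open scoped MatrixGroups

variable {n : ℕ} {F : Type*} [Field F]

lemma charpoly_smul_comp (c : F) (M : Matrix (Fin n) (Fin n) F) :
    (c • M).charpoly.comp (C c * X) = C (c ^ n) * M.charpoly := by
  have h1 : (c • M).charpoly.comp (C c * X) =
      ((Polynomial.compRingHom (C c * X)).mapMatrix (charmatrix (c • M))).det := by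
    unfold Matrix.charpoly
    exact RingHom.map_det (Polynomial.compRingHom (C c * X)) (charmatrix (c • M))
  have h2 : (Polynomial.compRingHom (C c * X)).mapMatrix (charmatrix (c • M)) =
      (C c : F[X]) • charmatrix M := by
    ext1 i j
    by_cases hij : i = j
    · subst hij
      simp [charmatrix_apply_eq, mul_sub]
    · simp [charmatrix_apply_ne _ _ _ hij]
  rw [h1, h2, Matrix.det_smul, Fintype.card_fin, ← C_pow]
  rfl

/-- if `x` is conjugate to `ζ x`, `ζ` a primitive `n`-th root of unity, then the characteristic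
polynomial of `x` is `X ^ n - (-1)^(n+1) det x`. -/
lemma charpoly_of_conj {ζ : F} (hζ : IsPrimitiveRoot ζ n) (hn : 0 < n) (x y : GL (Fin n) F)
    (h : (y : Matrix (Fin n) (Fin n) F) * x * ((y⁻¹ : GL (Fin n) F) : Matrix (Fin n) (Fin n) F) =
      ζ • (x : Matrix (Fin n) (Fin n) F)) :
    (x : Matrix (Fin n) (Fin n) F).charpoly =
      X ^ n + C ((-1) ^ n * (x : Matrix (Fin n) (Fin n) F).det) := by
  obtain ⟨p, hp⟩ : ∃ p, p = (x : Matrix (Fin n) (Fin n) F).charpoly := ⟨_, rfl⟩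
  rw [← hp]
  have h1 : (ζ • (x : Matrix (Fin n) (Fin n) F)).charpoly = p := by
    have h0 := Matrix.charpoly_units_conj y (x : Matrix (Fin n) (Fin n) F)
    rw [← Matrix.coe_units_inv, h] at h0
    rw [h0, hp]
  have h2 : p.comp (C ζ * X) = p := by
    have := charpoly_smul_comp ζ (x : Matrix (Fin n) (Fin n) F)
    rw [h1, hζ.pow_eq_one, C_1, one_mul, ← hp] at this
    exact this
  have hdeg : p.natDegree = n := by
    rw [hp, Matrix.charpoly_natDegree_eq_dim, Fintype.card_fin]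
  have hmonic : p.Monic := by rw [hp]; exact Matrix.charpoly_monic _
  have hcoeff : ∀ k, 0 < k → k < n → p.coeff k = 0 := by
    intro k hk0 hkn
    have h3 := congrArg (fun q => q.coeff k) h2
    simp only [comp_C_mul_X_coeff] at h3
    have h4 : ζ ^ k ≠ 1 := hζ.pow_ne_one_of_pos_of_lt hk0.ne' hkn
    have h5 : p.coeff k * (ζ ^ k - 1) = 0 := by rw [mul_sub, h3, mul_one, sub_self]
    rcases mul_eq_zero.mp h5 with h6 | h6
    · exact h6
    · exact absurd (sub_eq_zero.mp h6) h4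
  have h0 : p.coeff 0 = (-1) ^ n * (x : Matrix (Fin n) (Fin n) F).det := by
    have := Matrix.det_eq_sign_charpoly_coeff (x : Matrix (Fin n) (Fin n) F)
    rw [Fintype.card_fin, ← hp] at this
    rw [this, ← mul_assoc, ← mul_pow]
    simp
  ext k
  rw [coeff_add, coeff_X_pow, coeff_C]
  rcases Nat.lt_trichotomy k n with hk | hk | hk
  · rcases Nat.eq_zero_or_pos k with rfl | hk0
    · rw [h0, if_neg hn.ne, if_pos rfl, zero_add]
    · rw [hcoeff k hk0 hk, if_neg hk.ne, if_neg hk0.ne', zero_add]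
  · subst hk
    have h3 : p.coeff k = 1 := by
      have := hmonic.coeff_natDegree
      rwa [hdeg] at this
    rw [h3, if_pos rfl, if_neg hn.ne', add_zero]
  · rw [coeff_eq_zero_of_natDegree_lt (by rw [hdeg]; exact hk), if_neg hk.ne',
      if_neg (hn.trans hk).ne', add_zero]

lemma pow_eq_one_of_conj {ζ : F} (hζ : IsPrimitiveRoot ζ n) (hodd : Odd n) (x y : GL (Fin n) F)
    (hdet : (x : Matrix (Fin n) (Fin n) F).det = 1)
    (h : (y : Matrix (Fin n) (Fin n) F) * x * ((y⁻¹ : GL (Fin n) F) : Matrix (Fin n) (Fin n) F) =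
      ζ • (x : Matrix (Fin n) (Fin n) F)) :
    x ^ n = 1 ∧ (x : Matrix (Fin n) (Fin n) F).charpoly = X ^ n - 1 := by
  have hcp : (x : Matrix (Fin n) (Fin n) F).charpoly = X ^ n - 1 := by
    rw [charpoly_of_conj hζ hodd.pos x y h, hdet, hodd.neg_one_pow]
    simp [sub_eq_add_neg]
  refine ⟨?_, hcp⟩
  have h1 := Matrix.aeval_self_charpoly (x : Matrix (Fin n) (Fin n) F)
  rw [hcp] at h1
  simp only [map_sub, map_pow, aeval_X, map_one] at h1
  apply Units.ext
  rw [Units.val_pow_eq_pow_val, Units.val_one]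
  exact sub_eq_zero.mp h1

local notation "Mat" => Matrix (Fin n) (Fin n) F

lemma val_inv_mul (g : GL (Fin n) F) : ((g⁻¹ : GL (Fin n) F) : Matrix (Fin n) (Fin n) F) * (g : Matrix (Fin n) (Fin n) F) = 1 := by
  rw [← Units.val_mul, inv_mul_cancel, Units.val_one]

lemma val_mul_inv (g : GL (Fin n) F) : (g : Matrix (Fin n) (Fin n) F) * ((g⁻¹ : GL (Fin n) F) : Matrix (Fin n) (Fin n) F) = 1 := by
  rw [← Units.val_mul, mul_inv_cancel, Units.val_one]

/-- commutation up to a root of unity -/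
lemma comm_scalar {N : Subgroup (GL (Fin n) F)} (hNSL : N ≤ specialLinear (Fin n) F)
    (hcomm : ⁅N, N⁆ ≤ scalars (Fin n) F) {a b : GL (Fin n) F} (ha : a ∈ N) (hb : b ∈ N) :
    ∃ c : F, c ^ n = 1 ∧ (a : Matrix (Fin n) (Fin n) F) * b = c • ((b : Matrix (Fin n) (Fin n) F) * a) := by
  have h1 : a * b * a⁻¹ * b⁻¹ ∈ scalars (Fin n) F := hcomm (Subgroup.commutator_mem_commutator ha hb)
  obtain ⟨c, hc⟩ := (mem_scalars_iff _).mp h1
  refine ⟨c, ?_, ?_⟩
  · have h2 : ((a * b * a⁻¹ * b⁻¹ : GL (Fin n) F) : Matrix (Fin n) (Fin n) F).det = 1 := by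
      rw [← mem_specialLinear_iff]
      have hN := N.mul_mem (N.mul_mem (N.mul_mem ha hb) (N.inv_mem ha)) (N.inv_mem hb)
      exact hNSL hN
    rw [hc, Matrix.det_smul, Matrix.det_one, mul_one, Fintype.card_fin] at h2
    exact h2
  · have h3 : a * b = (a * b * a⁻¹ * b⁻¹) * (b * a) := by group
    have h4 := congrArg (fun g : GL (Fin n) F => (g : Matrix (Fin n) (Fin n) F)) h3
    rw [Units.val_mul (a * b * a⁻¹ * b⁻¹), hc, Units.val_mul, Units.val_mul] at h4
    rw [h4]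
    simp

lemma isPrimitiveRoot_of_prime (hn : n.Prime) {c : F} (hc : c ^ n = 1) (hc1 : c ≠ 1) :
    IsPrimitiveRoot c n := by
  have : Fact n.Prime := ⟨hn⟩
  have := orderOf_eq_prime hc hc1
  rw [← this]
  exact IsPrimitiveRoot.orderOf c

lemma conj_of_rel {a b : GL (Fin n) F} {c : F}
    (h : (a : Matrix (Fin n) (Fin n) F) * b = c • ((b : Matrix (Fin n) (Fin n) F) * a)) :
    (a : Matrix (Fin n) (Fin n) F) * b * ((a⁻¹ : GL (Fin n) F) : Matrix (Fin n) (Fin n) F) =
      c • (b : Matrix (Fin n) (Fin n) F) := by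
  rw [h, Matrix.smul_mul, mul_assoc, val_mul_inv, mul_one]

lemma mem_scalars_of_comm {N : Subgroup (GL (Fin n) F)} (hn : 0 < n)
    (habs : ActsAbsolutelyIrreducibly (matrixSet N)) {w : GL (Fin n) F}
    (h : ∀ u ∈ N, w * u = u * w) : w ∈ scalars (Fin n) F := by
  obtain ⟨c, hc⟩ := habs.2 (w : Matrix (Fin n) (Fin n) F) (by
    rintro _ ⟨u, hu, rfl⟩
    rw [← Units.val_mul, ← Units.val_mul, h u hu])
  rw [mem_scalars_iff]
  have hc0 : c ≠ 0 := by
    rintro rfl
    have h2 : (w : Matrix (Fin n) (Fin n) F) = 0 := by simpa using hc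
    have h3 : (w : Matrix (Fin n) (Fin n) F).det ≠ 0 := by
      have := (Matrix.isUnit_iff_isUnit_det _).mp w.isUnit
      exact this.ne_zero
    rw [h2] at h3
    have : Nonempty (Fin n) := ⟨⟨0, hn⟩⟩
    exact h3 Matrix.det_zero
  exact ⟨Units.mk0 c hc0, hc⟩

lemma pow_eq_one_of_mem (hn : n.Prime) (hodd : n ≠ 2) {N : Subgroup (GL (Fin n) F)}
    (hNSL : N ≤ specialLinear (Fin n) F) (habs : ActsAbsolutelyIrreducibly (matrixSet N))
    (hcomm : ⁅N, N⁆ ≤ scalars (Fin n) F) {w : GL (Fin n) F} (hw : w ∈ N) : w ^ n = 1 := by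
  have hdet : (w : Matrix (Fin n) (Fin n) F).det = 1 := mem_specialLinear_iff.mp (hNSL hw)
  by_cases hsc : ∀ u ∈ N, w * u = u * w
  · obtain ⟨c, hc⟩ := (mem_scalars_iff _).mp (mem_scalars_of_comm hn.pos habs hsc)
    rw [hc, Matrix.det_smul, Matrix.det_one, mul_one, Fintype.card_fin] at hdet
    apply Units.ext
    rw [Units.val_pow_eq_pow_val, hc, _root_.smul_pow, one_pow, hdet, one_smul, Units.val_one]
  · push Not at hsc
    obtain ⟨u, hu, huw⟩ := hsc
    obtain ⟨c, hcn, hc⟩ := comm_scalar hNSL hcomm hu hw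
    have hc1 : c ≠ 1 := by
      rintro rfl
      apply huw
      apply Units.ext
      rw [Units.val_mul, Units.val_mul, hc, one_smul]
    exact (pow_eq_one_of_conj (isPrimitiveRoot_of_prime hn hcn hc1) (hn.odd_of_ne_two hodd) w u hdet
      (conj_of_rel hc)).1

/-- the data of a Heisenberg pair -/
structure Heis (n : ℕ) (F : Type*) [Field F] (x y : GL (Fin n) F) (ζ : F) : Prop where
  prim : IsPrimitiveRoot ζ n
  rel : (x : Matrix (Fin n) (Fin n) F) * y = ζ • ((y : Matrix (Fin n) (Fin n) F) * x)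
  xn : x ^ n = 1
  yn : y ^ n = 1
  cp : (x : Matrix (Fin n) (Fin n) F).charpoly = X ^ n - 1

lemma exists_heis (hn : n.Prime) (hodd : n ≠ 2) {N : Subgroup (GL (Fin n) F)}
    (hNSL : N ≤ specialLinear (Fin n) F) (habs : ActsAbsolutelyIrreducibly (matrixSet N))
    (hcomm : ⁅N, N⁆ ≤ scalars (Fin n) F) :
    ∃ x ∈ N, ∃ y ∈ N, ∃ ζ : F, Heis n F x y ζ := by
  have hnc := not_absIrred_of_comm hn.two_le (A := N)
  have : ∃ x ∈ N, ∃ y ∈ N, x * y ≠ y * x := by
    by_contra hcon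
    push Not at hcon
    exact hnc hcon habs
  obtain ⟨x, hx, y, hy, hxy⟩ := this
  obtain ⟨ζ, hζn, hζ⟩ := comm_scalar hNSL hcomm hx hy
  have hζ1 : ζ ≠ 1 := by
    rintro rfl
    apply hxy
    apply Units.ext
    rw [Units.val_mul, Units.val_mul, hζ, one_smul]
  have hprim := isPrimitiveRoot_of_prime hn hζn hζ1
  have hζ0 : ζ ≠ 0 := hprim.ne_zero hn.ne_zero
  have hrel' : (y : Matrix (Fin n) (Fin n) F) * x = ζ⁻¹ • ((x : Matrix (Fin n) (Fin n) F) * y) := by
    rw [hζ, smul_smul, inv_mul_cancel₀ hζ0, one_smul]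
  refine ⟨x, hx, y, hy, ζ, hprim, hζ, pow_eq_one_of_mem hn hodd hNSL habs hcomm hx,
    pow_eq_one_of_mem hn hodd hNSL habs hcomm hy, ?_⟩
  exact (pow_eq_one_of_conj hprim.inv (hn.odd_of_ne_two hodd) x y
    (mem_specialLinear_iff.mp (hNSL hx)) (conj_of_rel hrel')).2

end Cfsg.Agent.Lib.Helper97AschHeis
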