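import Cfsg.Agent.Lib.Helper97AschTransv

set_option autoImplicit false

namespace Cfsg.Agent.Lib.Helper97AschProper

open Cfsg Cfsg.Geo Matrix Cfsg.Agent.Lib.Helper97AschBase Cfsg.Agent.Lib.Helper97AschTransv
open scoped MatrixGroups

variable {n : ℕ} {F : Type*} [Field F]

lemma not_SL_le_subalgebraNormalizer (hn : 3 ≤ n) (K : Subalgebra F (Matrix (Fin n) (Fin n) F))
    (hK : IsFieldSubalgebra n K) :
    ¬ specialLinear (Fin n) F ≤ subalgebraNormalizer K := by
  intro hle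
  let i0 : Fin n := ⟨0, by omega⟩
  let i1 : Fin n := ⟨1, by omega⟩
  have h01 : i1 ≠ i0 := by
    intro h
    have := congrArg Fin.val h
    simp [i0, i1] at this
  let u : Fin n → F := Pi.single i0 1
  let φ : Fin n → F := Pi.single i1 1
  have hφ : ∀ v : Fin n → F, φ ⬝ᵥ v = v i1 := fun v => by simp [φ]
  have hu0 : u ≠ 0 := by
    intro h0
    have := congrFun h0 i0
    simp [u] at this
  have hφu : φ ⬝ᵥ u = 0 := by rw [hφ]; simp [u, h01]
  have ht := hle (tv_mem_SL u φ hφu)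
  have hzero : ∀ k ∈ K, ∀ v : Fin n → F, v ≠ 0 → k *ᵥ v = 0 → k = 0 := by
    intro k hk v hv hkv
    by_contra hk0
    obtain ⟨k', hk', hkk'⟩ := hK.inv k hk hk0
    rw [hK.comm k hk k' hk'] at hkk'
    apply hv
    have := congrArg (fun M => M *ᵥ v) hkk'
    simp only [← Matrix.mulVec_mulVec, hkv, Matrix.mulVec_zero, Matrix.one_mulVec] at this
    exact this.symm
  have hcomm : ∀ k ∈ K, ∀ v, (tv u φ hφu : Matrix (Fin n) (Fin n) F) *ᵥ (k *ᵥ v) =
      k *ᵥ ((tv u φ hφu : Matrix (Fin n) (Fin n) F) *ᵥ v) := by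
    intro k hk
    have hk2 := (ht k).mp hk
    obtain ⟨v, hv0, hv1, hv2⟩ : ∃ v : Fin n → F, v ≠ 0 ∧ v i1 = 0 ∧ (k *ᵥ v) i1 = 0 := by
      let L : (Fin n → F) →ₗ[F] F × F :=
        (LinearMap.proj i1).prod ((LinearMap.proj i1) ∘ₗ Matrix.toLin' k)
      have hL : LinearMap.ker L ≠ ⊥ := by
        apply LinearMap.ker_ne_bot_of_finrank_lt
        rw [Module.finrank_prod, Module.finrank_self, Module.finrank_fin_fun]
        omega
      obtain ⟨v, hv, hv0⟩ := Submodule.exists_mem_ne_zero_of_ne_bot hL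
      rw [LinearMap.mem_ker] at hv
      have h1 := congrArg Prod.fst hv
      have h2 := congrArg Prod.snd hv
      exact ⟨v, hv0, by simpa [L] using h1, by simpa [L, Matrix.toLin'_apply] using h2⟩
    have htv : (tv u φ hφu : Matrix (Fin n) (Fin n) F) *ᵥ v = v := by
      rw [tv_mulVec, hφ, hv1, zero_smul, add_zero]
    have htv' : (((tv u φ hφu)⁻¹ : GL (Fin n) F) : Matrix (Fin n) (Fin n) F) *ᵥ v = v := by
      conv_lhs => rw [← htv]
      simp
    have h3 : ((tv u φ hφu : Matrix (Fin n) (Fin n) F) * k *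
        (((tv u φ hφu)⁻¹ : GL (Fin n) F) : Matrix (Fin n) (Fin n) F) - k) *ᵥ v = 0 := by
      rw [Matrix.sub_mulVec, ← Matrix.mulVec_mulVec, htv', ← Matrix.mulVec_mulVec, tv_mulVec, hφ, hv2,
        zero_smul, add_zero, sub_self]
    have h4 := sub_eq_zero.mp (hzero _ (K.sub_mem hk2 hk) v hv0 h3)
    intro w
    conv_rhs => rw [← h4]
    rw [← Matrix.mulVec_mulVec, ← Matrix.mulVec_mulVec, inv_mulVec_mulVec]
  have hsc : ∀ k ∈ K, k ∈ (⊥ : Subalgebra F (Matrix (Fin n) (Fin n) F)) := by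
    intro k hk
    have h1 := hcomm k hk φ
    rw [tv_mulVec, tv_mulVec, Matrix.mulVec_add, Matrix.mulVec_smul] at h1
    have h2 : φ ⬝ᵥ φ = 1 := by rw [hφ]; simp [φ]
    rw [h2, one_smul] at h1
    have h3 : k *ᵥ u = (φ ⬝ᵥ k *ᵥ φ) • u := (add_left_cancel h1).symm
    have h4 : (k - algebraMap F _ (φ ⬝ᵥ k *ᵥ φ)) *ᵥ u = 0 := by
      rw [Matrix.sub_mulVec, h3, Algebra.algebraMap_eq_smul_one, Matrix.smul_mulVec, Matrix.one_mulVec,
        sub_self]
    have h5 := sub_eq_zero.mp (hzero _ (K.sub_mem hk (K.algebraMap_mem _)) u hu0 h4)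
    rw [h5]
    exact Subalgebra.algebraMap_mem _ _
  have hbot : K = ⊥ := eq_bot_iff.mpr hsc
  have hfr := hK.finrank_eq
  have : Nonempty (Fin n) := ⟨i0⟩
  rw [hbot, Subalgebra.finrank_bot] at hfr
  omega

lemma not_SL_le_subfieldSubgroup (hn : 2 ≤ n) (F₀ : Subfield F) (h : F₀ ≠ ⊤) (P : GL (Fin n) F) :
    ¬ specialLinear (Fin n) F ≤ subfieldSubgroup F₀ P := by
  intro hle
  obtain ⟨a, ha⟩ : ∃ a, a ∉ F₀ := by
    by_contra hcon
    push Not at hcon
    exact h (eq_top_iff.mpr fun x _ => hcon x)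
  let i0 : Fin n := ⟨0, by omega⟩
  let i1 : Fin n := ⟨1, by omega⟩
  have h01 : i1 ≠ i0 := by
    intro h
    have := congrArg Fin.val h
    simp [i0, i1] at this
  let u : Fin n → F := Pi.single i0 a
  let φ : Fin n → F := Pi.single i1 1
  have hφu : φ ⬝ᵥ u = 0 := by simp [φ, u, h01]
  have hmem : P * tv u φ hφu * P⁻¹ ∈ specialLinear (Fin n) F := by
    have h1 := tv_mem_SL u φ hφu
    unfold specialLinear at h1 ⊢
    rw [MonoidHom.mem_ker] at h1 ⊢
    rw [map_mul, map_mul, h1, map_inv]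
    simp
  obtain ⟨g, hg, hgt⟩ := hle hmem
  have hgt' : g = tv u φ hφu := by
    have : P * g * P⁻¹ = P * tv u φ hφu * P⁻¹ := hgt
    exact mul_left_cancel (mul_right_cancel this)
  obtain ⟨g₀, ⟨m, rfl⟩, z, hz, hgz⟩ := Subgroup.mem_sup_of_normal_right.mp hg
  obtain ⟨c, hc⟩ := (mem_scalars_iff z).mp hz
  have hval : ∀ i j, (tv u φ hφu : Matrix (Fin n) (Fin n) F) i j = ((m i j : F₀) : F) * c := by
    intro i j
    rw [← hgt', ← hgz, Units.val_mul, hc, Matrix.mul_smul, mul_one]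
    simp [mul_comm]
  have h00 := hval i0 i0
  have h10 := hval i0 i1
  rw [tv_val] at h00 h10
  simp only [Matrix.add_apply, Matrix.one_apply_eq, vecMulVec_apply, u, φ, Pi.single_eq_same,
    Pi.single_eq_of_ne h01.symm, mul_zero, add_zero, Matrix.one_apply_ne h01.symm, zero_add, mul_one] at h00 h10
  apply ha
  have hm0 : ((m i0 i0 : F₀) : F) ≠ 0 := by
    intro h0
    rw [h0, zero_mul] at h00
    exact one_ne_zero h00
  have hcF : (c : F) ∈ F₀ := by
    have : (c : F) = ((m i0 i0 : F₀) : F)⁻¹ := by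
      field_simp
      rw [mul_comm]; exact h00.symm
    rw [this]
    exact F₀.inv_mem (m i0 i0).2
  rw [h10]
  exact F₀.mul_mem (m i0 i1).2 hcF

end Cfsg.Agent.Lib.Helper97AschProper
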