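import Cfsg.Agent.Lib.Helper97AschSchur
import Cfsg.Agent.Lib.Helper97AschClifford
import Cfsg.Agent.Lib.Helper97AschCore
import Cfsg.Agent.Lib.Helper97AschC6
import Cfsg.Agent.Lib.Helper97AschProper
import Cfsg.Agent.Lib.Helper97AschForms
import Cfsg.Agent.Lib.Helper97AschSubfield
import Cfsg.Agent.Lib.Helper97AschMono

set_option autoImplicit false

namespace Cfsg.Agent.Lib.Helper97AschMain

open Cfsg Cfsg.Geo Matrix
open Cfsg.Agent.Lib.Helper97AschBase Cfsg.Agent.Lib.Helper97AschSchur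
  Cfsg.Agent.Lib.Helper97AschClifford Cfsg.Agent.Lib.Helper97AschCore Cfsg.Agent.Lib.Helper97AschC6
  Cfsg.Agent.Lib.Helper97AschTransv Cfsg.Agent.Lib.Helper97AschProper
  Cfsg.Agent.Lib.Helper97AschForms Cfsg.Agent.Lib.Helper97AschSubfield Cfsg.Agent.Lib.Helper97AschMono
open scoped MatrixGroups

variable {n : ℕ} {F : Type*} [Field F]

/-- Aschbacher's theorem for the maximal subgroups of `SL_n(q)`, `n` an odd prime. -/
theorem main [Fintype F] (hn : n.Prime) (hodd : n ≠ 2)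
    (H : Subgroup (GL (Fin n) F)) (hH : IsMaximalIn (specialLinear (Fin n) F) H) :
    (∃ W : Submodule F (Fin n → F), W ≠ ⊥ ∧ W ≠ ⊤ ∧ H = subspaceStabilizer W ⊓ specialLinear (Fin n) F) ∨
    (5 ≤ Fintype.card F ∧ ∃ D : Fin n → Submodule F (Fin n → F), IsMDecomposition 1 D ∧
      H = decompositionStabilizer D ⊓ specialLinear (Fin n) F) ∨
    (∃ K : Subalgebra F (Matrix (Fin n) (Fin n) F), IsFieldSubalgebra n K ∧
      H = subalgebraNormalizer K ⊓ specialLinear (Fin n) F) ∨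
    (∃ (F₀ : Subfield F) (r : ℕ) (P : GL (Fin n) F), r.Prime ∧ Fintype.card F = Nat.card F₀ ^ r ∧
      H = subfieldSubgroup F₀ P ⊓ specialLinear (Fin n) F) ∨
    (∃ R : Subgroup (GL (Fin n) F), IsLinearSymplecticTypeData n R ∧
      H = subgroupNormalizer R ⊓ specialLinear (Fin n) F) ∨
    (Odd (Fintype.card F) ∧ ∃ Q : (Fin n → F) → F, IsNondegenerateQuadraticForm Q ∧
      H = quadSimilarityGroup Q ⊓ specialLinear (Fin n) F) ∨
    (∃ (σ : F ≃+* F) (f : (Fin n → F) → (Fin n → F) → F), IsUnitaryForm σ f ∧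
      H = similarityGroup f ⊓ specialLinear (Fin n) F) ∨
    InLinearResidualClass H := by
  have hn2 : 2 ≤ n := hn.two_le
  have : NeZero n := ⟨hn.ne_zero⟩
  have hn3 : 3 ≤ n := by
    rcases Nat.lt_or_ge n 3 with h | h
    · exfalso; apply hodd; omega
    · exact h
  have hoddn : Odd n := hn.odd_of_ne_two hodd
  -- packaged conclusions
  have concl1 : ∀ W : Submodule F (Fin n → F), W ≠ ⊥ → W ≠ ⊤ → H ≤ subspaceStabilizer W →
      (∃ W : Submodule F (Fin n → F), W ≠ ⊥ ∧ W ≠ ⊤ ∧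
        H = subspaceStabilizer W ⊓ specialLinear (Fin n) F) := fun W h0 h1 hle =>
    ⟨W, h0, h1, eq_inf_of_le hH hle (not_SL_le_subspaceStabilizer W h0 h1)⟩
  have concl6 : ∀ Q : (Fin n → F) → F, IsNondegenerateQuadraticForm Q → H ≤ quadSimilarityGroup Q →
      (Odd (Fintype.card F) ∧ ∃ Q : (Fin n → F) → F, IsNondegenerateQuadraticForm Q ∧
      H = quadSimilarityGroup Q ⊓ specialLinear (Fin n) F) := fun Q hQ hle =>
    ⟨odd_card_of_quadratic hoddn hQ, Q, hQ, eq_inf_of_le hH hle (not_SL_le_quadSimilarityGroup hn3 Q hQ)⟩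
  have concl7 : ∀ (σ : F ≃+* F) (f : (Fin n → F) → (Fin n → F) → F), IsUnitaryForm σ f →
      H ≤ similarityGroup f → (∃ (σ : F ≃+* F) (f : (Fin n → F) → (Fin n → F) → F), IsUnitaryForm σ f ∧
      H = similarityGroup f ⊓ specialLinear (Fin n) F) := fun σ f hf hle =>
    ⟨σ, f, hf, eq_inf_of_le hH hle (not_SL_le_similarityGroup hn3 σ f hf)⟩
  have concl4 : ∀ (P : Subgroup (GL (Fin n) F)), Nz H P → ActsAbsolutelyIrreducibly (matrixSet P) →
      ∀ F₀ : Subfield F, F₀ ≠ ⊤ → RealisableOver F₀ (matrixSet P) →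
      (∃ (F₀ : Subfield F) (r : ℕ) (P : GL (Fin n) F), r.Prime ∧ Fintype.card F = Nat.card F₀ ^ r ∧
      H = subfieldSubgroup F₀ P ⊓ specialLinear (Fin n) F) := by
    intro P hnorm habs F₀ hF₀ hreal
    obtain ⟨F₁, r, B, hr, hcard, hle⟩ := le_subfieldSubgroup hnorm habs hF₀ hreal
    exact ⟨F₁, r, B, hr, hcard, eq_inf_of_le hH hle
      (not_SL_le_subfieldSubgroup hn2 F₁ (subfield_ne_top_of_card hr hcard) B)⟩
  -- reducible case
  by_cases hirr : ActsIrreducibly (matrixSet H)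
  swap
  · left
    unfold ActsIrreducibly at hirr
    push Not at hirr
    obtain ⟨W, hW, h0, h1⟩ := hirr
    exact concl1 W h0 h1 (le_subspaceStabilizer_of_inv hW)
  -- imprimitive case
  by_cases himp : ∃ D : Fin n → Submodule F (Fin n → F), IsMDecomposition 1 D ∧
      H ≤ decompositionStabilizer D
  · obtain ⟨D, hD, hle⟩ := himp
    by_cases hq : 5 ≤ Fintype.card F
    · right; left
      exact ⟨hq, D, hD, eq_inf_of_le hH hle (not_SL_le_decompositionStabilizer D hD)⟩
    · rcases c2_small hn2 D hD (not_le.mp hq) with ⟨W, h0, h1, hW⟩ | ⟨_, Q, hQ, hle'⟩ | ⟨σ, f, hf, hle'⟩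
      · left; exact concl1 W h0 h1 (hle.trans hW)
      · right; right; right; right; right; left
        exact concl6 Q hQ (hle.trans hle')
      · right; right; right; right; right; right; left
        exact concl7 σ f hf (hle.trans hle')
  -- extension field case
  by_cases hext : ∃ K : Subalgebra F (Matrix (Fin n) (Fin n) F), IsFieldSubalgebra n K ∧
      H ≤ subalgebraNormalizer K
  · obtain ⟨K, hK, hle⟩ := hext
    right; right; left
    exact ⟨K, hK, eq_inf_of_le hH hle (not_SL_le_subalgebraNormalizer hn3 K hK)⟩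
  -- dichotomy for normal subgroups
  have hdich : ∀ T : Subgroup (GL (Fin n) F), T ≤ H → Nz H T →
      T ≤ scalars (Fin n) F ∨ ActsAbsolutelyIrreducibly (matrixSet T) := by
    intro T hTH hnorm
    rcases clifford hn hirr hnorm with h | h | ⟨D, hD, hle, _⟩
    · exact Or.inl h
    · rcases absIrred_or_field hn h with h' | h'
      · exact Or.inr h'
      · exact absurd ⟨_, h', le_normalizer_centralizer hnorm⟩ hext
    · exact absurd ⟨D, hD, hle⟩ himp
  have hns : ¬ H ≤ scalars (Fin n) F := fun h => not_irred_of_le_scalars hn2 h hirr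
  by_cases h6 : ∃ N : Subgroup (GL (Fin n) F), N ≤ H ∧ Nz H N ∧ ⁅N, N⁆ ≤ scalars (Fin n) F ∧
      ¬ N ≤ scalars (Fin n) F
  · obtain ⟨N, hNH, hnorm, hcomm, hNs⟩ := h6
    have habs : ActsAbsolutelyIrreducibly (matrixSet N) := (hdich N hNH hnorm).resolve_left hNs
    have hall : ∀ A : Subgroup (GL (Fin n) F), A ≤ N → Nz H A →
        (∀ a ∈ A, ∀ b ∈ A, a * b = b * a) → A ≤ scalars (Fin n) F := by
      intro A hAN hA hc
      exact (hdich A (hAN.trans hNH) hA).resolve_right (not_absIrred_of_comm hn2 hc)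
    rcases c6 hn hodd hH.1.le hNH hnorm habs hcomm hall with ⟨hd, hp⟩ | ⟨F₀, hF₀, hreal⟩ | ⟨σ, f, hf, hfix⟩
    · right; right; right; right; left
      exact ⟨N, hd, eq_inf_of_le hH (le_normalizer_of_Nz hnorm) hp⟩
    · right; right; right; left
      exact concl4 N hnorm habs F₀ hF₀ hreal
    · right; right; right; right; right; right; left
      exact concl7 σ f hf (le_similarityGroup_of_fixes hnorm habs hf hfix)
  · push Not at h6
    obtain ⟨P, hPH, hnorm, hperf, hsimple, hnonab, habs⟩ := exists_core hn hns hdich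
      (fun T h1 h2 h3 => h6 T h1 h2 h3)
    by_cases hsub : ∃ F₀ : Subfield F, F₀ ≠ ⊤ ∧ RealisableOver F₀ (matrixSet P)
    · obtain ⟨F₀, hF₀, hreal⟩ := hsub
      right; right; right; left
      exact concl4 P hnorm habs F₀ hF₀ hreal
    by_cases hquad : ∃ Q : (Fin n → F) → F, IsNondegenerateQuadraticForm Q ∧ FixesQuadForm (matrixSet P) Q
    · obtain ⟨Q, hQ, hfix⟩ := hquad
      right; right; right; right; right; left
      exact concl6 Q hQ (le_quadSimilarityGroup_of_fixes (odd_card_of_quadratic hoddn hQ) hnorm habs hQ hfix)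
    by_cases hunit : ∃ (σ : F ≃+* F) (f : (Fin n → F) → (Fin n → F) → F), IsUnitaryForm σ f ∧
        FixesForm (matrixSet P) f
    · obtain ⟨σ, f, hf, hfix⟩ := hunit
      right; right; right; right; right; right; left
      exact concl7 σ f hf (le_similarityGroup_of_fixes hnorm habs hf hfix)
    right; right; right; right; right; right; right
    refine ⟨P, ⟨hPH, hnorm, hperf, hsimple, hnonab, ?_, habs, ?_⟩, hquad, ?_, hunit⟩
    · intro h _ hh
      exact centralizer_scalar_of_perfect hperf habs h hh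
    · intro F₀ hF₀ hreal
      exact hsub ⟨F₀, hF₀, hreal⟩
    · rintro ⟨f, hf, _⟩
      exact no_symplectic hoddn f hf

lemma dvd_pow_sub_one_iff {m p d : ℕ} (hm : 1 < m) (hp : 0 < p) :
    m ∣ p ^ d - 1 ↔ (p % m) ^ d % m = 1 := by
  have h1 : 1 ≤ p ^ d := Nat.one_le_pow d p hp
  rw [← Nat.modEq_iff_dvd' h1, ← Nat.pow_mod]
  unfold Nat.ModEq
  rw [Nat.mod_eq_of_lt hm]
  exact eq_comm

/-- the arithmetic content of the class six data -/
lemma field_data [Fintype F] (hn : n.Prime) (hodd : n ≠ 2) {R : Subgroup (GL (Fin n) F)}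
    (h : IsLinearSymplecticTypeData n R) :
    ∃ p e : ℕ, p.Prime ∧ CharP F p ∧ Fintype.card F = p ^ e ∧ 0 < e ∧ e < n ∧ e % 2 = 1 ∧
      (p % n) ^ e % n = 1 ∧ ∀ d < e, 0 < d → (p % n) ^ d % n ≠ 1 := by
  obtain ⟨p, e, hnp, ⟨hp, hchar, hcard, hdvd, hmin⟩, hcases⟩ := h.field
  rcases hcases with ⟨_, he, hc, _⟩ | ⟨h2, _⟩ | ⟨h2, _⟩
  · rw [hc] at hdvd hmin
    have he0 : 0 < e := he.pos
    refine ⟨p, e, hp, hchar, hcard, he0, ?_, Nat.odd_iff.mp he,
      (dvd_pow_sub_one_iff hn.one_lt hp.pos).mp hdvd, fun d hd hd0 hcon =>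
        hmin d hd0 hd ((dvd_pow_sub_one_iff hn.one_lt hp.pos).mpr hcon)⟩
    by_contra hcon
    push Not at hcon
    have hcop : Nat.Coprime p n := (Nat.coprime_primes hp hn).mpr (Ne.symm hnp)
    have h1 := Nat.ModEq.pow_totient hcop
    rw [Nat.totient_prime hn] at h1
    have h2 : n ∣ p ^ (n - 1) - 1 := (Nat.modEq_iff_dvd' (Nat.one_le_pow _ p hp.pos)).mp h1.symm
    have := hn.two_le
    exact hmin (n - 1) (by omega) (by omega) h2
  · exact absurd h2 hodd
  · exact absurd h2 hodd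

end Cfsg.Agent.Lib.Helper97AschMain
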