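import Cfsg.Agent.Lib.Helper97AschHeis

set_option autoImplicit false

namespace Cfsg.Agent.Lib.Helper97AschStd

open Cfsg Cfsg.Geo Matrix Cfsg.Agent.Lib.Helper97AschBase Cfsg.Agent.Lib.Helper97AschHeis
open scoped MatrixGroups

variable {n : ℕ} {F : Type*} [Field F]

/-- the standard diagonal matrix -/
def stdX (n : ℕ) (ζ : F) : Matrix (Fin n) (Fin n) F := Matrix.diagonal (fun j : Fin n => ζ ^ (j : ℕ))

/-- the standard cyclic shift -/
def stdY (n : ℕ) [NeZero n] (F : Type*) [Field F] : Matrix (Fin n) (Fin n) F :=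
  Matrix.of fun i j : Fin n => if i = j + 1 then 1 else 0

lemma matrix_eq_of_single {M N : Matrix (Fin n) (Fin n) F}
    (h : ∀ j, M *ᵥ Pi.single j 1 = N *ᵥ Pi.single j 1) : M = N := by
  ext i j
  have := congrFun (h j) i
  simpa [Matrix.mulVec_single_one, Matrix.col] using this

lemma stdX_single (ζ : F) (j : Fin n) :
    stdX n ζ *ᵥ Pi.single j 1 = ζ ^ (j : ℕ) • Pi.single j 1 := by
  ext i
  simp only [stdX, Matrix.mulVec_single_one, Matrix.col, Matrix.transpose_apply, Pi.smul_apply,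
    smul_eq_mul, Matrix.diagonal_apply, Pi.single_apply]
  by_cases h : i = j
  · subst h; simp
  · simp [h]

lemma stdY_single [NeZero n] (j : Fin n) :
    stdY n F *ᵥ Pi.single j 1 = Pi.single (j + 1) 1 := by
  ext i
  simp [stdY, Matrix.col, Pi.single_apply]

lemma exists_fixed {x y : GL (Fin n) F} {ζ : F} (h : Heis n F x y ζ) :
    ∃ v : Fin n → F, v ≠ 0 ∧ (x : Matrix (Fin n) (Fin n) F) *ᵥ v = v := by
  have h1 : ((x : Matrix (Fin n) (Fin n) F).charpoly).eval 1 = 0 := by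
    rw [h.cp]; simp
  rw [Matrix.eval_charpoly] at h1
  obtain ⟨v, hv0, hv⟩ := Matrix.exists_mulVec_eq_zero_iff.mpr h1
  refine ⟨v, hv0, ?_⟩
  rw [Matrix.sub_mulVec] at hv
  have h2 := sub_eq_zero.mp hv
  simpa using h2.symm

/-- the vectors `y ^ j v₀` -/
def vv (y : GL (Fin n) F) (v₀ : Fin n → F) (j : ℕ) : Fin n → F :=
  ((y ^ j : GL (Fin n) F) : Matrix (Fin n) (Fin n) F) *ᵥ v₀

lemma y_vv (y : GL (Fin n) F) (v₀ : Fin n → F) (j : ℕ) :
    (y : Matrix (Fin n) (Fin n) F) *ᵥ vv y v₀ j = vv y v₀ (j + 1) := by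
  unfold vv
  rw [Matrix.mulVec_mulVec, ← Units.val_mul, ← pow_succ']

lemma x_vv {x y : GL (Fin n) F} {ζ : F} (h : Heis n F x y ζ) {v₀ : Fin n → F}
    (hv : (x : Matrix (Fin n) (Fin n) F) *ᵥ v₀ = v₀) (j : ℕ) :
    (x : Matrix (Fin n) (Fin n) F) *ᵥ vv y v₀ j = ζ ^ j • vv y v₀ j := by
  induction j with
  | zero => simp [vv, hv]
  | succ j ih =>
    rw [← y_vv, Matrix.mulVec_mulVec, h.rel, Matrix.smul_mulVec, ← Matrix.mulVec_mulVec, ih,
      Matrix.mulVec_smul, smul_smul, pow_succ']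

lemma vv_mod {x y : GL (Fin n) F} {ζ : F} (h : Heis n F x y ζ) (v₀ : Fin n → F) (j : ℕ) :
    vv y v₀ (j % n) = vv y v₀ j := by
  unfold vv
  rw [← pow_eq_pow_mod j h.yn]

lemma vv_ne_zero (y : GL (Fin n) F) {v₀ : Fin n → F} (hv : v₀ ≠ 0) (j : ℕ) : vv y v₀ j ≠ 0 := by
  intro h0
  apply hv
  apply mulVec_injective (y ^ j)
  simpa [vv] using h0

lemma exists_std [NeZero n] {x y : GL (Fin n) F} {ζ : F} (h : Heis n F x y ζ) :
    ∃ B : GL (Fin n) F, (x : Matrix (Fin n) (Fin n) F) * B = B * stdX n ζ ∧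
      (y : Matrix (Fin n) (Fin n) F) * B = B * stdY n F := by
  obtain ⟨v₀, hv0, hv⟩ := exists_fixed h
  let M : Matrix (Fin n) (Fin n) F := Matrix.of (fun i j => vv y v₀ (j : ℕ) i)
  have hMcol : ∀ j : Fin n, M *ᵥ Pi.single j 1 = vv y v₀ (j : ℕ) := by
    intro j
    rw [Matrix.mulVec_single_one]
    rfl
  have hind : LinearIndependent F M.col := by
    apply Module.End.eigenvectors_linearIndependent' (Matrix.toLin' (x : Matrix (Fin n) (Fin n) F))
      (fun j : Fin n => ζ ^ (j : ℕ))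
    · intro i j hij
      exact Fin.ext (h.prim.pow_inj i.2 j.2 hij)
    · intro j
      refine ⟨?_, vv_ne_zero y hv0 j⟩
      rw [Module.End.mem_eigenspace_iff, Matrix.toLin'_apply]
      exact x_vv h hv j
  have hunit : IsUnit M := Matrix.linearIndependent_cols_iff_isUnit.mp hind
  obtain ⟨B, hB⟩ := hunit
  refine ⟨B, ?_, ?_⟩
  · apply matrix_eq_of_single
    intro j
    rw [← Matrix.mulVec_mulVec, ← Matrix.mulVec_mulVec, hB, hMcol, stdX_single, Matrix.mulVec_smul,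
      hMcol]
    exact x_vv h hv j
  · apply matrix_eq_of_single
    intro j
    rw [← Matrix.mulVec_mulVec, ← Matrix.mulVec_mulVec, hB, hMcol, stdY_single, hMcol, y_vv,
      ← vv_mod h v₀ (j + 1)]
    congr 1
    rw [Fin.val_add]
    simp

lemma scalar_of_comm_std [NeZero n] {ζ : F} (hζ : IsPrimitiveRoot ζ n) {M : Matrix (Fin n) (Fin n) F}
    (hX : M * stdX n ζ = stdX n ζ * M) (hY : M * stdY n F = stdY n F * M) :
    ∃ c : F, M = c • (1 : Matrix (Fin n) (Fin n) F) := by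
  have hoff : ∀ i j, i ≠ j → M i j = 0 := by
    intro i j hij
    have h1 := congrFun (congrFun hX i) j
    simp only [stdX, Matrix.mul_diagonal, Matrix.diagonal_mul] at h1
    have h2 : M i j * (ζ ^ (j : ℕ) - ζ ^ (i : ℕ)) = 0 := by rw [mul_sub, h1]; ring
    rcases mul_eq_zero.mp h2 with h3 | h3
    · exact h3
    · exfalso
      apply hij
      exact (Fin.ext (hζ.pow_inj j.2 i.2 (sub_eq_zero.mp h3))).symm
  have hdiag : ∀ j : Fin n, M (j + 1) (j + 1) = M j j := by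
    intro j
    have h1 := congrArg (fun A => A *ᵥ (Pi.single j 1 : Fin n → F)) hY
    simp only [← Matrix.mulVec_mulVec, stdY_single] at h1
    have h2 := congrFun h1 (j + 1)
    rw [Matrix.mulVec_single_one, Matrix.mulVec_single_one] at h2
    simp only [Matrix.col, Matrix.transpose_apply] at h2
    rw [h2, Matrix.mulVec, dotProduct, Finset.sum_eq_single j]
    · simp [stdY]
    · intro b _ hb
      simp only [stdY, Matrix.of_apply]
      rw [if_neg (fun h => hb (add_right_cancel h).symm), zero_mul]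
    · intro h; exact absurd (Finset.mem_univ j) h
  have hall : ∀ (k : ℕ) (hk : k < n), M ⟨k, hk⟩ ⟨k, hk⟩ = M 0 0 := by
    intro k
    induction k with
    | zero => intro hk; rfl
    | succ k ih =>
      intro hk
      have h1 : (⟨k + 1, hk⟩ : Fin n) = ⟨k, by omega⟩ + 1 := by
        apply Fin.ext
        rw [Fin.val_add]
        have h2 : ((1 : Fin n) : ℕ) = 1 % n := Fin.val_one' n
        rw [h2]
        simp only [Nat.add_mod_mod]
        rw [Nat.mod_eq_of_lt hk]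
      rw [h1, hdiag, ih]
  refine ⟨M 0 0, ?_⟩
  ext i j
  by_cases hij : i = j
  · subst hij
    have := hall i i.2
    simp only [Fin.eta] at this
    simp [this]
  · simp [hoff i j hij, hij]

section rel

variable {x y : GL (Fin n) F} {ζ : F}

lemma rel_pow_left (h : Heis n F x y ζ) (i : ℕ) :
    (x : Matrix (Fin n) (Fin n) F) ^ i * y = ζ ^ i • ((y : Matrix (Fin n) (Fin n) F) * x ^ i) := by
  induction i with
  | zero => simp
  | succ i ih =>
    rw [pow_succ', mul_assoc, ih, Matrix.mul_smul, ← mul_assoc, h.rel, Matrix.smul_mul, smul_smul,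
      mul_assoc, pow_succ ζ]

lemma rel_pow_right (h : Heis n F x y ζ) (j : ℕ) :
    (x : Matrix (Fin n) (Fin n) F) * y ^ j = ζ ^ j • ((y : Matrix (Fin n) (Fin n) F) ^ j * x) := by
  induction j with
  | zero => simp
  | succ j ih =>
    rw [pow_succ, ← mul_assoc, ih, Matrix.smul_mul, mul_assoc, h.rel, Matrix.mul_smul, smul_smul,
      ← mul_assoc, pow_succ ζ]

end rel

/-- normal form of the elements of `N` -/
lemma normal_form [NeZero n] {N : Subgroup (GL (Fin n) F)}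
    (hNSL : N ≤ specialLinear (Fin n) F) (hcomm : ⁅N, N⁆ ≤ scalars (Fin n) F)
    {x y : GL (Fin n) F} {ζ : F} (h : Heis n F x y ζ) (hx : x ∈ N) (hy : y ∈ N)
    {w : GL (Fin n) F} (hw : w ∈ N) :
    ∃ k < n, ∃ i < n, ∃ j < n, (w : Matrix (Fin n) (Fin n) F) =
      ζ ^ k • ((x : Matrix (Fin n) (Fin n) F) ^ i * (y : Matrix (Fin n) (Fin n) F) ^ j) := by
  obtain ⟨B, hBx, hBy⟩ := exists_std h
  obtain ⟨c, hcn, hc⟩ := comm_scalar hNSL hcomm hw hx
  obtain ⟨c', hcn', hc'⟩ := comm_scalar hNSL hcomm hw hy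
  have hc0 : c ≠ 0 := by
    rintro rfl
    rw [zero_pow (NeZero.ne n)] at hcn
    exact zero_ne_one hcn
  obtain ⟨j, hjn, hj⟩ := h.prim.eq_pow_of_pow_eq_one (ξ := c⁻¹) (by rw [inv_pow, hcn, inv_one])
  obtain ⟨i, hin, hi⟩ := h.prim.eq_pow_of_pow_eq_one hcn'
  let g : GL (Fin n) F := x ^ i * y ^ j
  have hgval : (g : Matrix (Fin n) (Fin n) F) =
      (x : Matrix (Fin n) (Fin n) F) ^ i * (y : Matrix (Fin n) (Fin n) F) ^ j := by
    simp [g, Units.val_mul, Units.val_pow_eq_pow_val]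
  have hgx : (g : Matrix (Fin n) (Fin n) F) * x = c • ((x : Matrix (Fin n) (Fin n) F) * g) := by
    have h1 : (y : Matrix (Fin n) (Fin n) F) ^ j * x = c • ((x : Matrix (Fin n) (Fin n) F) * y ^ j) := by
      rw [rel_pow_right h j, smul_smul, hj, mul_inv_cancel₀ hc0, one_smul]
    rw [hgval, mul_assoc, h1, Matrix.mul_smul, ← mul_assoc, ← mul_assoc, ← pow_succ, ← pow_succ']
  have hgy : (g : Matrix (Fin n) (Fin n) F) * y = c' • ((y : Matrix (Fin n) (Fin n) F) * g) := by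
    rw [hgval, mul_assoc, ← pow_succ, pow_succ', ← mul_assoc, rel_pow_left h i, hi, Matrix.smul_mul,
      mul_assoc]
  let u : GL (Fin n) F := g⁻¹ * w
  have hgu : (g : Matrix (Fin n) (Fin n) F) * u = w := by
    rw [← Units.val_mul]; simp [u]
  have hcancel : ∀ A A' : Matrix (Fin n) (Fin n) F, (g : Matrix (Fin n) (Fin n) F) * A = g * A' → A = A' := by
    intro A A' hA
    have := congrArg (fun M => ((g⁻¹ : GL (Fin n) F) : Matrix (Fin n) (Fin n) F) * M) hA
    simpa [← mul_assoc, val_inv_mul] using this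
  have hux : (u : Matrix (Fin n) (Fin n) F) * x = x * u := by
    apply hcancel
    rw [← mul_assoc, hgu, hc, ← mul_assoc, hgx, Matrix.smul_mul, mul_assoc, hgu]
  have huy : (u : Matrix (Fin n) (Fin n) F) * y = y * u := by
    apply hcancel
    rw [← mul_assoc, hgu, hc', ← mul_assoc, hgy, Matrix.smul_mul, mul_assoc, hgu]
  -- pass to standard coordinates
  have hBx' : ((B⁻¹ : GL (Fin n) F) : Matrix (Fin n) (Fin n) F) * x = stdX n ζ * ((B⁻¹ : GL (Fin n) F) : Matrix (Fin n) (Fin n) F) := by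
    have := congrArg (fun M => ((B⁻¹ : GL (Fin n) F) : Matrix (Fin n) (Fin n) F) * M *
      ((B⁻¹ : GL (Fin n) F) : Matrix (Fin n) (Fin n) F)) hBx
    simpa [mul_assoc, val_mul_inv, ← mul_assoc ((B⁻¹ : GL (Fin n) F) : Matrix (Fin n) (Fin n) F) (B : Matrix (Fin n) (Fin n) F),
      val_inv_mul] using this
  have hBy' : ((B⁻¹ : GL (Fin n) F) : Matrix (Fin n) (Fin n) F) * y = stdY n F * ((B⁻¹ : GL (Fin n) F) : Matrix (Fin n) (Fin n) F) := by
    have := congrArg (fun M => ((B⁻¹ : GL (Fin n) F) : Matrix (Fin n) (Fin n) F) * M *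
      ((B⁻¹ : GL (Fin n) F) : Matrix (Fin n) (Fin n) F)) hBy
    simpa [mul_assoc, val_mul_inv, ← mul_assoc ((B⁻¹ : GL (Fin n) F) : Matrix (Fin n) (Fin n) F) (B : Matrix (Fin n) (Fin n) F),
      val_inv_mul] using this
  obtain ⟨c₀, hc₀⟩ := scalar_of_comm_std h.prim
    (M := ((B⁻¹ : GL (Fin n) F) : Matrix (Fin n) (Fin n) F) * u * B)
    (by rw [mul_assoc, ← hBx, ← mul_assoc, mul_assoc _ (u : Matrix (Fin n) (Fin n) F), hux,
          ← mul_assoc, hBx', mul_assoc, mul_assoc, mul_assoc])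
    (by rw [mul_assoc, ← hBy, ← mul_assoc, mul_assoc _ (u : Matrix (Fin n) (Fin n) F), huy,
          ← mul_assoc, hBy', mul_assoc, mul_assoc, mul_assoc])
  have hu : (u : Matrix (Fin n) (Fin n) F) = c₀ • 1 := by
    have := congrArg (fun M => (B : Matrix (Fin n) (Fin n) F) * M *
      ((B⁻¹ : GL (Fin n) F) : Matrix (Fin n) (Fin n) F)) hc₀
    simpa [mul_assoc, val_mul_inv, ← mul_assoc (B : Matrix (Fin n) (Fin n) F) ((B⁻¹ : GL (Fin n) F) : Matrix (Fin n) (Fin n) F)]
      using this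
  have huN : u ∈ N := N.mul_mem (N.inv_mem (N.mul_mem (N.pow_mem hx i) (N.pow_mem hy j))) hw
  have hdet : (u : Matrix (Fin n) (Fin n) F).det = 1 := mem_specialLinear_iff.mp (hNSL huN)
  rw [hu, Matrix.det_smul, Matrix.det_one, mul_one, Fintype.card_fin] at hdet
  obtain ⟨k, hkn, hk⟩ := h.prim.eq_pow_of_pow_eq_one hdet
  refine ⟨k, hkn, i, hin, j, hjn, ?_⟩
  rw [← hgu, hu, hk, hgval]
  simp

end Cfsg.Agent.Lib.Helper97AschStd
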