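import Cfsg.Agent.Lib.Helper94AutO8
import Cfsg.Prelude.Def_ChevE6
import Cfsg.Prelude.Def_ChevF4
import Cfsg.Prelude.Def_ChevG2
import Cfsg.Prelude.Def_ChevB2

set_option autoImplicit false

/-! Piece S11 of project CHEV-AUT: at most two diagram symmetries, except for D4. -/

namespace Cfsg.Agent.Lib.Helper97AutS11

open Cfsg Cfsg.Lie Cfsg.Lie.ChevalleyDatum

theorem sym_G2 : ∃ ρ0 : Equiv.Perm (Fin chevG2.rank), ∀ ρ : Equiv.Perm (Fin chevG2.rank), ρ = 1 ∨ ρ = ρ0 := by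
  decide

theorem sym_B2 : ∃ ρ0 : Equiv.Perm (Fin chevB2.rank), ∀ ρ : Equiv.Perm (Fin chevB2.rank), ρ = 1 ∨ ρ = ρ0 := by
  decide

/-- the reversal of four nodes -/
def r4 : Equiv.Perm (Fin 4) where
  toFun := ![3, 2, 1, 0]
  invFun := ![3, 2, 1, 0]
  left_inv := by decide
  right_inv := by decide

theorem sym_F4 : ∀ ρ : Equiv.Perm (Fin 4),
    (∀ i j : Fin 4, i ≠ j → chevF4.bonds (ρ i) (ρ j) = chevF4.bonds i j) → ρ = 1 ∨ ρ = r4 := by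
  decide +kernel

/-- the bond table of `E₆` -/
def tE6 : Fin 6 → Fin 6 → ℤ :=
  ![![4, 0, 1, 0, 0, 0], ![0, 4, 0, 1, 0, 0], ![1, 0, 4, 1, 0, 0], ![0, 1, 1, 4, 1, 0], ![0, 0, 0, 1, 4, 1],
    ![0, 0, 0, 0, 1, 4]]

theorem bonds_E6 : ∀ i j : Fin 6, chevE6.bonds i j = tE6 i j := by decide +kernel

/-- the nontrivial symmetry of the diagram -/
def r6 : Equiv.Perm (Fin 6) where
  toFun := ![5, 1, 4, 3, 2, 0]
  invFun := ![5, 1, 4, 3, 2, 0]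
  left_inv := by decide
  right_inv := by decide

theorem sym_E6 : ∀ ρ : Equiv.Perm (Fin 6), (∀ i j : Fin 6, i ≠ j → tE6 (ρ i) (ρ j) = tE6 i j) → ρ = 1 ∨ ρ = r6 := by
  decide +kernel

/-- S11 : at most two diagram symmetries, except for D4 -/
theorem diag_sym_le_two {D : ChevalleyDatum} (hD : D ∈ [chevG2, chevB2, chevF4, chevE6, chevE7, chevE8]) :
    ∃ ρ0 : Equiv.Perm (Fin D.rank), ∀ ρ : Equiv.Perm (Fin D.rank), D.IsDiagramSymmetry ρ → ρ = 1 ∨ ρ = ρ0 := by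
  simp only [List.mem_cons, List.not_mem_nil, or_false] at hD
  rcases hD with rfl | rfl | rfl | rfl | rfl | rfl
  · obtain ⟨ρ0, h⟩ := sym_G2
    exact ⟨ρ0, fun ρ _ => h ρ⟩
  · obtain ⟨ρ0, h⟩ := sym_B2
    exact ⟨ρ0, fun ρ _ => h ρ⟩
  · exact ⟨r4, fun ρ hρ => sym_F4 ρ hρ⟩
  · refine ⟨r6, fun ρ hρ => ?_⟩
    refine sym_E6 ρ (fun i j hij => ?_)
    rw [← bonds_E6, ← bonds_E6]
    exact hρ i j hij
  · exact ⟨1, fun ρ hρ => Or.inl (Cfsg.Agent.Lib.Helper94AutO8.diag_sym_E7 ρ hρ)⟩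
  · exact ⟨1, fun ρ hρ => Or.inl (Cfsg.Agent.Lib.Helper94AutO8.diag_sym_E8 ρ hρ)⟩

end Cfsg.Agent.Lib.Helper97AutS11
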