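import Cfsg.Agent.Lib.Helper97GBase

set_option autoImplicit false

namespace Cfsg.Agent.Lib.Helper97GSchur

open Cfsg Cfsg.Geo Matrix Cfsg.Agent.Lib.Helper97GBase
open scoped MatrixGroups

variable {ι : Type} [Fintype ι] [DecidableEq ι] {F : Type*} [Field F]

/-- a divisibility principle for dimensions -/
lemma dvd_finrank_of_exists_compl {V : Type*} [AddCommGroup V] [Module F V] [FiniteDimensional F V]
    (PP : Submodule F V → Prop) (h0 : PP ⊥) (hsup : ∀ U W, PP U → PP W → PP (U ⊔ W)) (d : ℕ) (hd : 0 < d)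
    (h : ∀ U, PP U → U ≠ ⊤ → ∃ W, PP W ∧ Module.finrank F W = d ∧ U ⊓ W = ⊥) :
    d ∣ Module.finrank F V := by
  have key : ∀ k : ℕ, ∀ U : Submodule F V, PP U → d ∣ Module.finrank F U →
      Module.finrank F V - Module.finrank F U = k → d ∣ Module.finrank F V := by
    intro k
    induction k using Nat.strong_induction_on with
    | _ k ih =>
      intro U hU hdU hk
      by_cases hUt : U = ⊤
      · rw [hUt, finrank_top] at hdU
        exact hdU
      · obtain ⟨W, hW, hWd, hUW⟩ := h U hU hUt
        have h1 := Submodule.finrank_sup_add_finrank_inf_eq U W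
        rw [hUW, finrank_bot, add_zero, hWd] at h1
        have h2 : Module.finrank F ↥(U ⊔ W) ≤ Module.finrank F V := Submodule.finrank_le _
        refine ih (Module.finrank F V - Module.finrank F ↥(U ⊔ W)) ?_ (U ⊔ W) (hsup U W hU hW) ?_ rfl
        · omega
        · rw [h1]
          exact Dvd.dvd.add hdU dvd_rfl
  exact key _ ⊥ h0 (by simp) rfl

/-- nonzero elements of the centralizer of an irreducible group are invertible -/
lemma isUnit_of_mem_centralizer {T : Subgroup (GL ι F)}
    (hT : ActsIrreducibly (matrixSet T)) {c : Matrix ι ι F}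
    (hc : c ∈ Subalgebra.centralizer F (matrixSet T)) (hc0 : c ≠ 0) : IsUnit c := by
  rw [actsIrreducibly_iff] at hT
  rw [Subalgebra.mem_centralizer_iff] at hc
  have hinv : Inv T (LinearMap.ker (Matrix.toLin' c)) := by
    intro t ht w hw
    rw [LinearMap.mem_ker, Matrix.toLin'_apply] at hw ⊢
    rw [Matrix.mulVec_mulVec, ← hc _ ⟨t, ht, rfl⟩, ← Matrix.mulVec_mulVec, hw, Matrix.mulVec_zero]
  rcases hT _ hinv with h | h
  · rw [← Matrix.mulVec_injective_iff_isUnit]
    rw [LinearMap.ker_eq_bot] at h
    intro u v huv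
    apply h
    simpa [Matrix.toLin'_apply] using huv
  · exfalso
    apply hc0
    rw [LinearMap.ker_eq_top] at h
    simpa using h

lemma inv_mem_centralizer {S : Set (Matrix ι ι F)} {c : Matrix ι ι F}
    (hc : c ∈ Subalgebra.centralizer F S) (hu : IsUnit c) :
    c⁻¹ ∈ Subalgebra.centralizer F S := by
  rw [Subalgebra.mem_centralizer_iff] at hc ⊢
  intro s hs
  have hdet : IsUnit c.det := (Matrix.isUnit_iff_isUnit_det c).mp hu
  have h1 : c⁻¹ * c = 1 := Matrix.nonsing_inv_mul c hdet
  have h2 : c * c⁻¹ = 1 := Matrix.mul_nonsing_inv c hdet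
  calc s * c⁻¹ = (c⁻¹ * c) * s * c⁻¹ := by rw [h1, one_mul]
    _ = c⁻¹ * (s * c) * c⁻¹ := by rw [hc s hs]; simp only [mul_assoc]
    _ = c⁻¹ * s := by simp only [mul_assoc]; rw [h2, mul_one]

lemma absIrred_or_field [Finite F] (hn : (Fintype.card ι).Prime) {T : Subgroup (GL ι F)}
    (hT : ActsIrreducibly (matrixSet T)) :
    ActsAbsolutelyIrreducibly (matrixSet T) ∨
      IsFieldSubalgebra (Fintype.card ι) (Subalgebra.centralizer F (matrixSet T)) := by
  classical
  set C := Subalgebra.centralizer F (matrixSet T) with hC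
  have : Nonempty ι := Fintype.card_pos_iff.mp hn.pos
  have hinvC : ∀ x ∈ C, x ≠ 0 → ∃ y ∈ C, x * y = 1 := by
    intro x hx hx0
    have hu := isUnit_of_mem_centralizer hT hx hx0
    exact ⟨x⁻¹, inv_mem_centralizer hx hu,
      Matrix.mul_nonsing_inv x ((Matrix.isUnit_iff_isUnit_det x).mp hu)⟩
  -- C is a domain
  have : Nontrivial C := ⟨0, 1, by
    intro h
    have := congrArg Subtype.val h
    simp at this⟩
  have : NoZeroDivisors C := ⟨by
    intro a b hab
    by_cases ha : a = 0
    · exact Or.inl ha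
    · right
      have ha' : (a : Matrix ι ι F) ≠ 0 := fun h => ha (Subtype.ext h)
      have hu := isUnit_of_mem_centralizer hT a.2 ha'
      have hab' : (a : Matrix ι ι F) * b = 0 := congrArg Subtype.val hab
      apply Subtype.ext
      exact (hu.mul_right_eq_zero).mp hab'⟩
  have : IsDomain C := NoZeroDivisors.to_isDomain C
  have hfield : IsField C := Finite.isDomain_to_isField C
  have hcomm : ∀ x ∈ C, ∀ y ∈ C, x * y = y * x := by
    intro x hx y hy
    exact congrArg Subtype.val (hfield.mul_comm ⟨x, hx⟩ ⟨y, hy⟩)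
  -- the degree divides n
  set d := Module.finrank F C with hd
  have hdpos : 0 < d := Module.finrank_pos
  have hdvd : d ∣ Module.finrank F (ι → F) := by
    refine dvd_finrank_of_exists_compl
      (fun U => ∀ c ∈ C, ∀ u ∈ U, c *ᵥ u ∈ U) ?_ ?_ d hdpos ?_
    · intro c _ u hu
      rw [Submodule.mem_bot] at hu
      simp [hu]
    · intro U W hU hW c hc u hu
      obtain ⟨a, ha, b, hb, rfl⟩ := Submodule.mem_sup.mp hu
      rw [Matrix.mulVec_add]
      exact Submodule.add_mem _ (Submodule.mem_sup_left (hU c hc a ha))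
        (Submodule.mem_sup_right (hW c hc b hb))
    · intro U hU hUt
      obtain ⟨v, hv⟩ : ∃ v, v ∉ U := by
        by_contra h
        push Not at h
        exact hUt (eq_top_iff.mpr fun x _ => h x)
      let φ : C →ₗ[F] (ι → F) :=
        { toFun := fun c => (c : Matrix ι ι F) *ᵥ v
          map_add' := fun a b => by simp [Matrix.add_mulVec]
          map_smul' := fun a b => by simp [Matrix.smul_mulVec] }
      have hφ : ∀ c : C, φ c ∈ U → c = 0 := by
        intro c hcU
        by_contra hc0
        have hc0' : (c : Matrix ι ι F) ≠ 0 := fun h => hc0 (Subtype.ext h)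
        obtain ⟨y, hy, hxy⟩ := hinvC c c.2 hc0'
        have hyx : y * (c : Matrix ι ι F) = 1 := by rw [hcomm y hy c c.2, hxy]
        apply hv
        have := hU y hy _ hcU
        simpa [φ, Matrix.mulVec_mulVec, hyx] using this
      have hφinj : Function.Injective φ := by
        rw [← LinearMap.ker_eq_bot, LinearMap.ker_eq_bot']
        intro c hc
        apply hφ
        rw [hc]
        exact U.zero_mem
      refine ⟨LinearMap.range φ, ?_, ?_, ?_⟩
      · rintro c hc _ ⟨a, rfl⟩
        exact ⟨⟨c, hc⟩ * a, by simp [φ, Matrix.mulVec_mulVec]⟩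
      · exact LinearMap.finrank_range_of_inj hφinj
      · rw [Submodule.eq_bot_iff]
        rintro x ⟨hxU, a, rfl⟩
        rw [hφ a hxU, map_zero]
  rw [Module.finrank_fintype_fun_eq_card] at hdvd
  rcases (Nat.dvd_prime hn).mp hdvd with h1 | h1
  · left
    refine ⟨hT, ?_⟩
    intro M hM
    have hbot : C = ⊥ := Subalgebra.eq_bot_of_finrank_one h1
    have hMC : M ∈ C := by
      rw [hC, Subalgebra.mem_centralizer_iff]
      intro s hs
      exact (hM s hs).symm
    rw [hbot, Algebra.mem_bot] at hMC
    obtain ⟨c, rfl⟩ := hMC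
    exact ⟨c, Algebra.algebraMap_eq_smul_one c⟩
  · right
    exact ⟨hcomm, hinvC, h1⟩

end Cfsg.Agent.Lib.Helper97GSchur
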