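import Cfsg.Agent.Lib.Helper97UBase
import Cfsg.Agent.Lib.Helper97AschSubfield
import Cfsg.Agent.Lib.Helper97AschCore

set_option autoImplicit false

namespace Cfsg.Agent.Lib.Helper97USub

open Cfsg Cfsg.Geo Matrix Cfsg.Agent.Lib.Helper97AschBase Cfsg.Agent.Lib.Helper97AschForms
  Cfsg.Agent.Lib.Helper95Herm Cfsg.Agent.Lib.Helper97UBase Cfsg.Agent.Lib.Helper97AschSubfield
  Cfsg.Agent.Lib.Helper97AschCore
open scoped MatrixGroups

variable {n : ℕ} {F : Type*} [Field F]

/-- the fixed field of an involution -/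
lemma fix_sigma [Fintype F] (σ : F ≃+* F) (h1 : σ ≠ RingEquiv.refl F) (h2 : ∀ a, σ (σ a) = a) :
    ∃ F₁ : Subfield F, (∀ a, σ a = a ↔ a ∈ F₁) ∧ Fintype.card F = Nat.card F₁ ^ 2 := by
  classical
  let F₀ : Subfield F := RingHom.eqLocusField (σ : F →+* F) (RingHom.id F)
  let τ : F ≃ₐ[F₀] F := AlgEquiv.ofRingEquiv (f := σ) (fun r => r.2)
  have hτa : ∀ a, τ a = σ a := fun a => rfl
  have hτ : orderOf τ = 2 := by
    apply orderOf_eq_prime
    · ext a
      rw [pow_two, AlgEquiv.mul_apply, hτa, hτa, h2]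
      rfl
    · intro h
      apply h1
      ext a
      have := congrArg (fun φ : F ≃ₐ[F₀] F => φ a) h
      exact this
  let K := IntermediateField.fixedField (Subgroup.zpowers τ)
  have hK : Module.finrank K F = 2 := by
    rw [IntermediateField.finrank_fixedField_eq_card, Nat.card_zpowers, hτ]
  refine ⟨K.toSubfield, ?_, ?_⟩
  · intro a
    constructor
    · intro ha
      change a ∈ K
      rw [IntermediateField.mem_fixedField_iff]
      have hle : Subgroup.zpowers τ ≤ MulAction.stabilizer (F ≃ₐ[F₀] F) a := by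
        rw [Subgroup.zpowers_le, MulAction.mem_stabilizer_iff]
        exact ha
      intro f hf
      exact MulAction.mem_stabilizer_iff.mp (hle hf)
    · intro ha
      change a ∈ K at ha
      rw [IntermediateField.mem_fixedField_iff] at ha
      exact ha τ (Subgroup.mem_zpowers τ)
  · have h3 := Module.natCard_eq_pow_finrank (K := K) (V := F)
    rw [hK, Nat.card_eq_fintype_card] at h3
    exact h3

/-- a field automorphism of prime order fixing a given proper subfield -/
lemma exists_aut' [Fintype F] {F₀ : Subfield F} (hF₀ : F₀ ≠ ⊤) :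
    ∃ (τ : F ≃+* F) (F₁ : Subfield F) (r : ℕ), r.Prime ∧ Fintype.card F = Nat.card F₁ ^ r ∧
      (∀ a ∈ F₀, τ a = a) ∧ (∀ a, τ a = a ↔ a ∈ F₁) := by
  classical
  have : Fintype F₀ := Fintype.ofFinite _
  let φ := FiniteField.frobeniusAlgEquivOfAlgebraic F₀ F
  have hord : orderOf φ = Module.finrank F₀ F := FiniteField.orderOf_frobeniusAlgEquivOfAlgebraic F₀ F
  have hm1 : Module.finrank F₀ F ≠ 1 := by
    intro h1
    have h2 := Module.natCard_eq_pow_finrank (K := F₀) (V := F)
    rw [h1, pow_one] at h2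
    apply hF₀
    have h3 : Function.Bijective (F₀.subtype) :=
      Function.Injective.bijective_of_nat_card_le F₀.subtype_injective h2.le
    rw [eq_top_iff]
    intro a _
    obtain ⟨b, hb⟩ := h3.2 a
    rw [← hb]
    exact b.2
  have hm0 : Module.finrank F₀ F ≠ 0 := Module.finrank_pos.ne'
  let r := (Module.finrank F₀ F).minFac
  have hr : r.Prime := Nat.minFac_prime hm1
  let τ := φ ^ (orderOf φ / r)
  have hτ : orderOf τ = r := by
    apply orderOf_pow_orderOf_div
    · rw [hord]; exact hm0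
    · rw [hord]; exact Nat.minFac_dvd _
  let K := IntermediateField.fixedField (Subgroup.zpowers τ)
  have hK : Module.finrank K F = r := by
    rw [IntermediateField.finrank_fixedField_eq_card, Nat.card_zpowers, hτ]
  refine ⟨τ.toRingEquiv, K.toSubfield, r, hr, ?_, ?_, ?_⟩
  · have h2 := Module.natCard_eq_pow_finrank (K := K) (V := F)
    rw [hK, Nat.card_eq_fintype_card] at h2
    exact h2
  · intro a ha
    exact τ.commutes ⟨a, ha⟩
  · intro a
    constructor
    · intro ha
      change a ∈ K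
      rw [IntermediateField.mem_fixedField_iff]
      have hle : Subgroup.zpowers τ ≤ MulAction.stabilizer (F ≃ₐ[F₀] F) a := by
        rw [Subgroup.zpowers_le, MulAction.mem_stabilizer_iff]
        exact ha
      intro f hf
      exact MulAction.mem_stabilizer_iff.mp (hle hf)
    · intro ha
      change a ∈ K at ha
      rw [IntermediateField.mem_fixedField_iff] at ha
      exact ha τ (Subgroup.mem_zpowers τ)

/-- the semilinear map attached to a rational structure -/
def semi (τ : F ≃+* F) (B : GL (Fin n) F) (v : Fin n → F) : Fin n → F :=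
  ((B⁻¹ : GL (Fin n) F) : Matrix (Fin n) (Fin n) F) *ᵥ
    (fun i => τ (((B : Matrix (Fin n) (Fin n) F) *ᵥ v) i))

lemma semi_add (τ : F ≃+* F) (B : GL (Fin n) F) (u v : Fin n → F) :
    semi τ B (u + v) = semi τ B u + semi τ B v := by
  unfold semi
  rw [← Matrix.mulVec_add]
  congr 1
  ext i
  simp [Matrix.mulVec_add]

lemma semi_smul (τ : F ≃+* F) (B : GL (Fin n) F) (c : F) (v : Fin n → F) :
    semi τ B (c • v) = τ c • semi τ B v := by
  unfold semi
  rw [← Matrix.mulVec_smul]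
  congr 1
  ext i
  simp [Matrix.mulVec_smul]

lemma map_mulVec_of_fixed (τ : F ≃+* F) {M : Matrix (Fin n) (Fin n) F} (hM : ∀ i j, τ (M i j) = M i j)
    (w : Fin n → F) : (fun i => τ ((M *ᵥ w) i)) = M *ᵥ (fun i => τ (w i)) := by
  ext i
  simp only [Matrix.mulVec, dotProduct, map_sum, map_mul, hM]

lemma semi_comm (τ : F ≃+* F) (B x : GL (Fin n) F)
    (hx : ∀ i j, τ (((B * x * B⁻¹ : GL (Fin n) F) : Matrix (Fin n) (Fin n) F) i j) =
      ((B * x * B⁻¹ : GL (Fin n) F) : Matrix (Fin n) (Fin n) F) i j) (v : Fin n → F) :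
    semi τ B ((x : Matrix (Fin n) (Fin n) F) *ᵥ v) = (x : Matrix (Fin n) (Fin n) F) *ᵥ semi τ B v := by
  unfold semi
  have e1 : (B : Matrix (Fin n) (Fin n) F) *ᵥ ((x : Matrix (Fin n) (Fin n) F) *ᵥ v) =
      ((B * x * B⁻¹ : GL (Fin n) F) : Matrix (Fin n) (Fin n) F) *ᵥ ((B : Matrix (Fin n) (Fin n) F) *ᵥ v) := by
    rw [Matrix.mulVec_mulVec, Matrix.mulVec_mulVec, ← Units.val_mul, ← Units.val_mul]
    congr 2
    group
  rw [e1, map_mulVec_of_fixed τ hx, Matrix.mulVec_mulVec, Matrix.mulVec_mulVec, ← Units.val_mul,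
    ← Units.val_mul]
  congr 2
  group

lemma semi_fixed (τ : F ≃+* F) (B : GL (Fin n) F) {u : Fin n → F} (hu : ∀ i, τ (u i) = u i) :
    semi τ B (((B⁻¹ : GL (Fin n) F) : Matrix (Fin n) (Fin n) F) *ᵥ u) =
      ((B⁻¹ : GL (Fin n) F) : Matrix (Fin n) (Fin n) F) *ᵥ u := by
  unfold semi
  rw [mulVec_inv_mulVec]
  congr 1
  ext i
  exact hu i

variable {σ : F ≃+* F} {f : (Fin n → F) → (Fin n → F) → F}

/-- the form is semi-invariant under the semilinear map -/
lemma semi_form (hf : IsUnitaryForm σ f) (τ : F ≃+* F) (hcomm : ∀ a, τ (σ a) = σ (τ a))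
    {P : Subgroup (GL (Fin n) F)} (hP : P ≤ Iso f) (habs : ActsAbsolutelyIrreducibly (matrixSet P))
    (B : GL (Fin n) F)
    (hB : ∀ x ∈ P, ∀ i j, τ (((B * x * B⁻¹ : GL (Fin n) F) : Matrix (Fin n) (Fin n) F) i j) =
      ((B * x * B⁻¹ : GL (Fin n) F) : Matrix (Fin n) (Fin n) F) i j) :
    ∃ c : F, ∀ u v, f (semi τ B u) (semi τ B v) = c * τ (f u v) := by
  have hs := sesq_of_unitary hf
  have hs₂ : Sesq σ (fun u v => τ.symm (f (semi τ B u) (semi τ B v))) :=
    { add_left := fun x y v => by simp only [semi_add, hs.add_left, map_add]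
      smul_left := fun c x v => by
        simp only [semi_smul, hs.smul_left, map_mul, RingEquiv.symm_apply_apply]
      add_right := fun v x y => by simp only [semi_add, hs.add_right, map_add]
      smul_right := fun c v x => by
        simp only [semi_smul, hs.smul_right, map_mul, ← hcomm, RingEquiv.symm_apply_apply] }
  have hfix₂ : FixesForm (matrixSet P) (fun u v => τ.symm (f (semi τ B u) (semi τ B v))) := by
    rintro _ ⟨x, hx, rfl⟩ u v
    simp only
    rw [semi_comm τ B x (hB x hx), semi_comm τ B x (hB x hx)]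
    congr 1
    exact hP hx _ _
  obtain ⟨c, hc⟩ := schur_form habs hs hs₂ hf.nondegenerate (fixes_of_le_Iso hP) hfix₂
  refine ⟨τ c, fun u v => ?_⟩
  have := congrArg τ (hc u v)
  simpa using this

/-- a fixed non-isotropic vector -/
lemma exists_fixed_nonsingular (hf : IsUnitaryForm σ f) (hodd : Odd n) (B : GL (Fin n) F) :
    ∃ u : Fin n → F, (∀ τ : F ≃+* F, ∀ i, τ (u i) = u i) ∧
      f (((B⁻¹ : GL (Fin n) F) : Matrix (Fin n) (Fin n) F) *ᵥ u)
        (((B⁻¹ : GL (Fin n) F) : Matrix (Fin n) (Fin n) F) *ᵥ u) ≠ 0 := by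
  by_contra hcon
  push Not at hcon
  have hs := sesq_of_unitary hf
  have hs₁ := hs.comp ((B⁻¹ : GL (Fin n) F) : Matrix (Fin n) (Fin n) F)
  have hnd : ∀ v : Fin n → F, v ≠ 0 → ∃ x, f (((B⁻¹ : GL (Fin n) F) : Matrix (Fin n) (Fin n) F) *ᵥ x)
      (((B⁻¹ : GL (Fin n) F) : Matrix (Fin n) (Fin n) F) *ᵥ v) ≠ 0 := by
    intro v hv
    have hv' : ((B⁻¹ : GL (Fin n) F) : Matrix (Fin n) (Fin n) F) *ᵥ v ≠ 0 := by
      intro h0
      apply hv
      apply mulVec_injective B⁻¹
      simpa using h0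
    obtain ⟨x, hx⟩ := (hf.nondegenerate _ hv').1
    exact ⟨(B : Matrix (Fin n) (Fin n) F) *ᵥ x, by simpa using hx⟩
  have hunit := hs₁.isUnit_det_gram hnd
  have hsingle : ∀ (j : Fin n) (τ : F ≃+* F) (i : Fin n),
      τ ((Pi.single j 1 : Fin n → F) i) = (Pi.single j 1 : Fin n → F) i := by
    intro j τ i
    by_cases hij : i = j
    · subst hij; simp
    · simp [hij]
  rw [det_alt_eq_zero hodd] at hunit
  · exact not_isUnit_zero hunit
  · intro i j
    have h1 := hcon (Pi.single i 1 + Pi.single j 1) (by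
      intro τ k
      rw [Pi.add_apply, map_add, hsingle, hsingle])
    have h2 := hcon (Pi.single i 1) (hsingle i)
    have h3 := hcon (Pi.single j 1) (hsingle j)
    rw [Matrix.mulVec_add, hs.add_left, hs.add_right, hs.add_right, h2, h3] at h1
    simp only [Helper97AschForms.gram, Matrix.of_apply]
    linear_combination h1
  · intro i
    exact hcon (Pi.single i 1) (hsingle i)

/-- rescaling makes the structure rational -/
lemma rational_of_aut [Finite F] (hf : IsUnitaryForm σ f) (hodd : Odd n)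
    (τ : F ≃+* F) (hcomm : ∀ a, τ (σ a) = σ (τ a))
    {P : Subgroup (GL (Fin n) F)} (hP : P ≤ Iso f) (habs : ActsAbsolutelyIrreducibly (matrixSet P))
    (B : GL (Fin n) F)
    (hB : ∀ x ∈ P, ∀ i j, τ (((B * x * B⁻¹ : GL (Fin n) F) : Matrix (Fin n) (Fin n) F) i j) =
      ((B * x * B⁻¹ : GL (Fin n) F) : Matrix (Fin n) (Fin n) F) i j) :
    ∃ l : F, l ≠ 0 ∧ ∀ u v : Fin n → F, (∀ i, τ (u i) = u i) → (∀ i, τ (v i) = v i) →
      τ (f (((B⁻¹ : GL (Fin n) F) : Matrix (Fin n) (Fin n) F) *ᵥ (l • u))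
        (((B⁻¹ : GL (Fin n) F) : Matrix (Fin n) (Fin n) F) *ᵥ (l • v))) =
      f (((B⁻¹ : GL (Fin n) F) : Matrix (Fin n) (Fin n) F) *ᵥ (l • u))
        (((B⁻¹ : GL (Fin n) F) : Matrix (Fin n) (Fin n) F) *ᵥ (l • v)) := by
  have hs := sesq_of_unitary hf
  have h := herm_of_unitary hf
  obtain ⟨c, hc⟩ := semi_form hf τ hcomm hP habs B hB
  obtain ⟨u₀, hu₀, hd⟩ := exists_fixed_nonsingular hf hodd B
  obtain ⟨d, hdd⟩ : ∃ d, d = f (((B⁻¹ : GL (Fin n) F) : Matrix (Fin n) (Fin n) F) *ᵥ u₀)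
        (((B⁻¹ : GL (Fin n) F) : Matrix (Fin n) (Fin n) F) *ᵥ u₀) := ⟨_, rfl⟩
  rw [← hdd] at hd
  have hσd : (σ : F →+* F) d = d := by rw [hdd]; exact h.self_fix _
  have hcd : d = c * τ d := by
    have := hc (((B⁻¹ : GL (Fin n) F) : Matrix (Fin n) (Fin n) F) *ᵥ u₀)
      (((B⁻¹ : GL (Fin n) F) : Matrix (Fin n) (Fin n) F) *ᵥ u₀)
    rw [semi_fixed τ B (hu₀ τ), ← hdd] at this
    exact this
  have hc0 : c ≠ 0 := by
    rintro rfl
    rw [zero_mul] at hcd
    exact hd hcd
  obtain ⟨l, hl⟩ := h.norm_surj d⁻¹ (by rw [map_inv₀, hσd])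
  have hl' : l * σ l = d⁻¹ := hl
  have hl0 : l ≠ 0 := by
    rintro rfl
    rw [zero_mul] at hl'
    exact inv_ne_zero hd hl'.symm
  refine ⟨l, hl0, fun u v hu hv => ?_⟩
  have e := hc (((B⁻¹ : GL (Fin n) F) : Matrix (Fin n) (Fin n) F) *ᵥ u)
      (((B⁻¹ : GL (Fin n) F) : Matrix (Fin n) (Fin n) F) *ᵥ v)
  rw [semi_fixed τ B hu, semi_fixed τ B hv] at e
  rw [Matrix.mulVec_smul, Matrix.mulVec_smul, hs.smul_left, hs.smul_right, ← mul_assoc, hl', map_mul,
    map_inv₀]
  have hτd0 : τ d ≠ 0 := by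
    intro h0
    rw [h0, mul_zero] at hcd
    exact hd hcd
  obtain ⟨X, hX⟩ : ∃ X, X = f (((B⁻¹ : GL (Fin n) F) : Matrix (Fin n) (Fin n) F) *ᵥ u)
      (((B⁻¹ : GL (Fin n) F) : Matrix (Fin n) (Fin n) F) *ᵥ v) := ⟨_, rfl⟩
  rw [← hX] at e ⊢
  have e1 : τ X = X / c := by rw [eq_div_iff hc0, mul_comm]; exact e.symm
  have e2 : τ d = d / c := by rw [eq_div_iff hc0, mul_comm]; exact hcd.symm
  rw [e1, e2]
  field_simp

/-- in characteristic two and odd dimension, no invariant non-degenerate bilinear form -/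
lemma no_bilinear_char_two [Fintype F] (h2 : (2 : F) = 0) (hodd : Odd n) (hn : 2 ≤ n)
    {P : Subgroup (GL (Fin n) F)} (habs : ActsAbsolutelyIrreducibly (matrixSet P))
    {β : (Fin n → F) → (Fin n → F) → F} (hβ : IsBilinearForm β) (hnd : IsNondegenerateForm β)
    (hfix : FixesForm (matrixSet P) β) : False := by
  have hs := sesq_of_bilinear hβ
  have hs' : Sesq (RingEquiv.refl F) (fun u v => β v u) :=
    { add_left := fun x y v => hβ.add_right v x y
      smul_left := fun c x v => hβ.smul_right c v x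
      add_right := fun v x y => hβ.add_left x y v
      smul_right := fun c v x => hβ.smul_left c x v }
  have hfix' : FixesForm (matrixSet P) (fun u v => β v u) := fun s hs u v => hfix s hs v u
  obtain ⟨c, hc⟩ := schur_form habs hs hs' hnd hfix hfix'
  let i0 : Fin n := ⟨0, by omega⟩
  let i1 : Fin n := ⟨1, by omega⟩
  have h01 : i1 ≠ i0 := by
    intro h
    have := congrArg Fin.val h
    simp [i0, i1] at this
  have he0 : (Pi.single i0 1 : Fin n → F) ≠ 0 := by
    intro h
    have := congrFun h i0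
    simp at this
  have hc1 : c = 1 := by
    obtain ⟨x, hx⟩ := (hnd _ he0).1
    have e1 := hc x (Pi.single i0 1)
    have e2 := hc (Pi.single i0 1) x
    rw [e1] at e2
    have e3 : c * c = 1 := by
      apply mul_right_cancel₀ hx
      rw [one_mul, mul_assoc]
      exact e2.symm
    have e4 : (c - 1) ^ 2 = 0 := by linear_combination e3 + (1 - c) * h2
    exact sub_eq_zero.mp (pow_eq_zero_iff (two_ne_zero) |>.mp e4)
  have hsymm : ∀ u v, β v u = β u v := by
    intro u v
    have := hc u v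
    simpa [hc1] using this
  let W₀ : Submodule F (Fin n → F) :=
    { carrier := {v | β v v = 0}
      add_mem' := by
        intro a b ha hb
        show β (a + b) (a + b) = 0
        have ha' : β a a = 0 := ha
        have hb' : β b b = 0 := hb
        rw [hβ.add_left, hβ.add_right, hβ.add_right, ha', hb', hsymm a b]
        linear_combination (β a b) * h2
      zero_mem' := by
        show β 0 0 = 0
        have := hβ.smul_left 0 0 0
        simpa using this
      smul_mem' := by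
        intro c v hv
        show β (c • v) (c • v) = 0
        have hv' : β v v = 0 := hv
        rw [hβ.smul_left, hβ.smul_right, hv', mul_zero, mul_zero] }
  have hW₀ : Inv P W₀ := by
    intro x hx v hv
    show β _ _ = 0
    rw [hfix _ ⟨x, hx, rfl⟩]
    exact hv
  rcases (actsIrreducibly_iff.mp habs.1) W₀ hW₀ with hb | ht
  · have hchar : ringChar F = 2 := CharP.ringChar_of_prime_eq_zero Nat.prime_two (by exact_mod_cast h2)
    have ha : β (Pi.single i0 1) (Pi.single i0 1) ≠ 0 := by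
      intro h0
      have : (Pi.single i0 1 : Fin n → F) ∈ W₀ := h0
      rw [hb] at this
      exact he0 this
    obtain ⟨r, hr⟩ := FiniteField.isSquare_of_char_two hchar
      (β (Pi.single i1 1) (Pi.single i1 1) / β (Pi.single i0 1) (Pi.single i0 1))
    have hv : (Pi.single i1 1 + r • Pi.single i0 1 : Fin n → F) ∈ W₀ := by
      show β _ _ = 0
      rw [hβ.add_left, hβ.add_right, hβ.add_right, hβ.smul_left, hβ.smul_left, hβ.smul_right,
        hβ.smul_right, hsymm (Pi.single i1 1) (Pi.single i0 1)]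
      have e : r * r * β (Pi.single i0 1) (Pi.single i0 1) = β (Pi.single i1 1) (Pi.single i1 1) := by
        rw [← hr]
        field_simp
      linear_combination e + (β (Pi.single i1 1) (Pi.single i1 1) +
        r * β (Pi.single i1 1) (Pi.single i0 1)) * h2
    rw [hb] at hv
    have := congrFun ((Submodule.mem_bot F).mp hv) i1
    simp [h01] at this
  · apply no_symplectic hodd β
    have halt : ∀ v, β v v = 0 := by
      intro v
      have : v ∈ W₀ := by rw [ht]; trivial
      exact this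
    refine ⟨hβ, ?_, halt, hnd⟩
    intro v w
    rw [hsymm w v]
    linear_combination (β w v) * h2

/-- a scalar matrix -/
lemma exists_scalar {l : F} (hl : l ≠ 0) : ∃ z : GL (Fin n) F, z ∈ scalars (Fin n) F ∧
    (z : Matrix (Fin n) (Fin n) F) = l • (1 : Matrix (Fin n) (Fin n) F) := by
  refine ⟨Units.map (Matrix.scalar (Fin n) : F →+* Matrix (Fin n) (Fin n) F).toMonoidHom (Units.mk0 l hl),
    ⟨_, rfl⟩, ?_⟩
  simp [Matrix.smul_one_eq_diagonal]

lemma structure_of_aut [Finite F] [NeZero n] (hf : IsUnitaryForm σ f) (hodd : Odd n)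
    (τ : F ≃+* F) (hcomm : ∀ a, τ (σ a) = σ (τ a)) {F₀ F₁ : Subfield F}
    (hτ0 : ∀ a ∈ F₀, τ a = a) (hτ1 : ∀ a, τ a = a ↔ a ∈ F₁)
    {H P : Subgroup (GL (Fin n) F)} (hnorm : Nz H P) (hP : P ≤ Iso f)
    (habs : ActsAbsolutelyIrreducibly (matrixSet P)) (B : GL (Fin n) F)
    (hB : ∀ s ∈ matrixSet P, ∀ i j,
      ((B : Matrix (Fin n) (Fin n) F) * s * ((B⁻¹ : GL (Fin n) F) : Matrix (Fin n) (Fin n) F)) i j ∈ F₀) :
    ∃ C : GL (Fin n) F, IsFormRationalStructure f F₁ 1 C ∧ H ≤ subfieldSubgroup F₁ C := by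
  have hB' : ∀ x ∈ P, ∀ i j, ((B * x * B⁻¹ : GL (Fin n) F) : Matrix (Fin n) (Fin n) F) i j ∈ F₀ := by
    intro x hx i j
    have := hB _ ⟨x, hx, rfl⟩ i j
    simpa [Units.val_mul] using this
  obtain ⟨l, hl0, hl⟩ := rational_of_aut hf hodd τ hcomm hP habs B
    (fun x hx i j => hτ0 _ (hB' x hx i j))
  obtain ⟨z, hz, hzl⟩ := exists_scalar (n := n) hl0
  have hzc := Subgroup.mem_center_iff.mp (scalars_le_center hz)
  have hC : ∀ u : Fin n → F, ((B⁻¹ * z : GL (Fin n) F) : Matrix (Fin n) (Fin n) F) *ᵥ u =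
      ((B⁻¹ : GL (Fin n) F) : Matrix (Fin n) (Fin n) F) *ᵥ (l • u) := by
    intro u
    rw [Units.val_mul, ← Matrix.mulVec_mulVec, hzl, Matrix.smul_mulVec, Matrix.one_mulVec]
  refine ⟨B⁻¹ * z, ?_, ?_⟩
  · intro u v hu hv
    rw [one_mul, hC, hC, ← hτ1]
    exact hl u v (fun i => (hτ1 _).mpr (hu i)) (fun i => (hτ1 _).mpr (hv i))
  · have := key (τ : F →+* F) hτ0 (fun a ha => (hτ1 a).mp ha) hnorm habs (B⁻¹ * z)⁻¹ (by
      rintro _ ⟨x, hx, rfl⟩ i j
      have e : (B⁻¹ * z)⁻¹ * x * (B⁻¹ * z)⁻¹⁻¹ = B * x * B⁻¹ := by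
        rw [inv_inv, _root_.mul_inv_rev, inv_inv]
        calc z⁻¹ * B * x * (B⁻¹ * z) = z⁻¹ * ((B * x * B⁻¹) * z) := by group
          _ = z⁻¹ * (z * (B * x * B⁻¹)) := by rw [hzc]
          _ = B * x * B⁻¹ := by group
      rw [← Units.val_mul, ← Units.val_mul, e]
      exact hB' x hx i j)
    rwa [inv_inv] at this


lemma semi_semi (hσ : ∀ a, σ (σ a) = a) (B : GL (Fin n) F) (v : Fin n → F) :
    semi σ B (semi σ B v) = v := by
  unfold semi
  rw [mulVec_inv_mulVec]
  simp only [hσ]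
  exact inv_mulVec_mulVec B v

lemma semi_zero (τ : F ≃+* F) (B : GL (Fin n) F) : semi τ B 0 = 0 := by
  have := semi_smul τ B 0 0
  simpa using this

/-- a group of isometries realisable over the fixed field of the involution: odd characteristic -/
lemma odd_of_fixed [Fintype F] (hf : IsUnitaryForm σ f) (hodd : Odd n) (hn : 2 ≤ n)
    {P : Subgroup (GL (Fin n) F)} (hP : P ≤ Iso f) (habs : ActsAbsolutelyIrreducibly (matrixSet P))
    (B : GL (Fin n) F)
    (hB : ∀ x ∈ P, ∀ i j, σ (((B * x * B⁻¹ : GL (Fin n) F) : Matrix (Fin n) (Fin n) F) i j) =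
      ((B * x * B⁻¹ : GL (Fin n) F) : Matrix (Fin n) (Fin n) F) i j) : Odd (Fintype.card F) := by
  by_contra hcon
  rw [Nat.not_odd_iff] at hcon
  have hchar : ringChar F = 2 := FiniteField.even_card_iff_char_two.mpr hcon
  have h2 : (2 : F) = 0 := by
    have := ringChar.Nat.cast_ringChar (R := F)
    rw [hchar] at this
    exact_mod_cast this
  have hs := sesq_of_unitary hf
  apply no_bilinear_char_two h2 hodd hn habs (β := fun u v => f u (semi σ B v))
  · exact
      { add_left := fun x y v => hs.add_left _ _ _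
        smul_left := fun c x v => hs.smul_left _ _ _
        add_right := fun v x y => by simp only [semi_add, hs.add_right]
        smul_right := fun c v x => by simp only [semi_smul, hs.smul_right, hf.involutive] }
  · intro v hv
    constructor
    · have hv' : semi σ B v ≠ 0 := by
        intro h0
        apply hv
        rw [← semi_semi hf.involutive B v, h0, semi_zero]
      exact (hf.nondegenerate _ hv').1
    · obtain ⟨y, hy⟩ := (hf.nondegenerate v hv).2
      exact ⟨semi σ B y, by simp only [semi_semi hf.involutive]; exact hy⟩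
  · rintro _ ⟨x, hx, rfl⟩ u v
    simp only
    rw [semi_comm σ B x (hB x hx)]
    exact hP hx _ _

lemma subfield_case [Fintype F] [NeZero n] (hf : IsUnitaryForm σ f) (hodd : Odd n) (hn : 2 ≤ n) {q : ℕ}
    (hq : Fintype.card F = q ^ 2) (hσq : ∀ a, σ a = a ^ q)
    {H P : Subgroup (GL (Fin n) F)} (hnorm : Nz H P) (hP : P ≤ Iso f)
    (habs : ActsAbsolutelyIrreducibly (matrixSet P)) {F₀ : Subfield F} (hF₀ : F₀ ≠ ⊤)
    (hreal : RealisableOver F₀ (matrixSet P)) :
    ∃ (F₁ : Subfield F) (r : ℕ) (C : GL (Fin n) F), r.Prime ∧ Fintype.card F = Nat.card F₁ ^ r ∧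
      (Odd r ∨ (r = 2 ∧ Odd q)) ∧ IsFormRationalStructure f F₁ 1 C ∧ H ≤ subfieldSubgroup F₁ C := by
  obtain ⟨B, hB⟩ := hreal
  by_cases hA : ∀ a ∈ F₀, σ a = a
  · obtain ⟨F₁, hF₁, hcard⟩ := fix_sigma σ hf.ne_refl hf.involutive
    obtain ⟨C, hC, hle⟩ := structure_of_aut hf hodd σ (fun a => rfl) hA hF₁ hnorm hP habs B hB
    refine ⟨F₁, 2, C, Nat.prime_two, hcard, Or.inr ⟨rfl, ?_⟩, hC, hle⟩
    have h1 := odd_of_fixed hf hodd hn hP habs B (by
      intro x hx i j
      apply hA
      have := hB _ ⟨x, hx, rfl⟩ i j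
      simpa [Units.val_mul] using this)
    rw [hq] at h1
    exact Nat.Odd.of_mul_right (by rw [← pow_two]; exact h1)
  · push Not at hA
    obtain ⟨a₀, ha₀, hne⟩ := hA
    obtain ⟨τ, F₁, r, hr, hcard, hτ0, hτ1⟩ := exists_aut' hF₀
    obtain ⟨C, hC, hle⟩ := structure_of_aut hf hodd τ (fun a => by rw [hσq, hσq, map_pow]) hτ0 hτ1
      hnorm hP habs B hB
    refine ⟨F₁, r, C, hr, hcard, Or.inl ?_, hC, hle⟩
    rcases hr.eq_two_or_odd' with h2 | h2
    · exfalso
      apply hne
      subst h2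
      rw [hq] at hcard
      have hqc : q = Nat.card F₁ := Nat.pow_left_injective (n := 2) (by norm_num) hcard
      have : Fintype F₁ := Fintype.ofFinite _
      have h3 := FiniteField.pow_card (⟨a₀, (hτ1 a₀).mp (hτ0 a₀ ha₀)⟩ : F₁)
      rw [← Nat.card_eq_fintype_card, ← hqc] at h3
      rw [hσq]
      exact congrArg Subtype.val h3
    · exact h2


end Cfsg.Agent.Lib.Helper97USub
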