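import Mathlib
import Cfsg.Prelude.Def_Characters
import Cfsg.Agent.Lib.Helper4Char4

set_option autoImplicit false

/-! Project 45 (S2336), piece `count`. -/

namespace Cfsg.Agent.Lib.Helper97Vcount

open Cfsg Cfsg.Agent.Lib.Helper4Char Cfsg.Agent.Lib.Helper4Char4

theorem norm_eq_sum_sq {G : Type*} [Group G] [Fintype G] {θ : G → ℂ} (hθ : IsClassFunction G θ)
    (m : IrrCharacter G → ℕ) (hm : ∀ χ : IrrCharacter G, classInner θ χ = m χ) :
    classInner θ θ = ((∑ χ, (m χ) ^ 2 : ℕ) : ℂ) := by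
  rw [classInner_eq_sum θ θ hθ]
  push_cast
  apply Finset.sum_congr rfl
  intro χ _
  rw [← classInner_conj_symm θ χ, hm]
  simp [sq]

theorem count_irr {G : Type*} [Group G] [Fintype G] {I : Type*} [Fintype I] [DecidableEq I]
    (φ : I → G → ℂ) (hφ : ∀ i, IsCharacter G (φ i)) (h1 : ∀ i, φ i 1 ≠ 0) (i₀ : I)
    (τ : G → ℂ) (hτ : IsIrrCharacter G τ) (h0 : φ i₀ = 1 + τ)
    (hnorm : classInner (∑ i, φ i) (∑ i, φ i) = (Fintype.card I : ℂ) + 1) :
    (∀ i, i ≠ i₀ → IsIrrCharacter G (φ i)) ∧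
    (∀ i j, i ≠ i₀ → j ≠ i₀ → φ i = φ j → i = j) ∧ (∀ i, i ≠ i₀ → φ i ≠ τ) := by
  classical
  choose a ha1 ha2 using fun i => IsCharacter.eq_sum_nat (hφ i)
  obtain ⟨b, hb1, hb2⟩ := IsCharacter.eq_sum_nat (IsCharacter.one (G := G))
  -- row sums are positive
  have hpos : ∀ (θ : G → ℂ) (c : IrrCharacter G → ℕ), θ = ∑ χ : IrrCharacter G, (c χ : ℂ) • (χ : G → ℂ) →
      θ 1 ≠ 0 → 1 ≤ ∑ χ, c χ := by
    intro θ c hc hθ
    by_contra hlt
    have h0 : ∑ χ, c χ = 0 := by omega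
    rw [Finset.sum_eq_zero_iff] at h0
    apply hθ
    rw [hc]
    simp only [Finset.sum_apply, Pi.smul_apply]
    apply Finset.sum_eq_zero
    intro χ hχ
    rw [h0 χ hχ]
    simp
  have hr : ∀ i, 1 ≤ ∑ χ, a i χ := fun i => hpos _ _ (ha1 i) (h1 i)
  have hbpos : 1 ≤ ∑ χ, b χ := hpos _ _ hb1 (by simp)
  have ha0 : ∀ χ : IrrCharacter G, a i₀ χ = b χ + if χ = ⟨τ, hτ⟩ then 1 else 0 := by
    intro χ
    have e1 := ha2 i₀ χ
    rw [h0, classInner_add_left, hb2, classInner_irr hτ χ.2] at e1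
    have e2 : ((a i₀ χ : ℕ) : ℂ) = ((b χ + if χ = ⟨τ, hτ⟩ then 1 else 0 : ℕ) : ℂ) := by
      rw [← e1]
      push_cast
      congr 1
      by_cases hc : χ = ⟨τ, hτ⟩
      · rw [if_pos hc, if_pos (by rw [hc])]
      · rw [if_neg hc, if_neg (fun hh => hc (Subtype.ext hh.symm))]
    exact_mod_cast e2
  have hr0 : 2 ≤ ∑ χ, a i₀ χ := by
    simp only [ha0, Finset.sum_add_distrib, Finset.sum_ite_eq', Finset.mem_univ, if_true]
    omega
  -- column sums
  have hm : ∀ χ : IrrCharacter G, classInner (∑ i, φ i) χ = ((∑ i, a i χ : ℕ) : ℂ) := by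
    intro χ
    rw [classInner_sum_left]
    push_cast
    exact Finset.sum_congr rfl (fun i _ => ha2 i χ)
  have hcf : IsClassFunction G (∑ i, φ i) :=
    IsClassFunction.sum _ (fun i _ => IsCharacter.isClassFunction (hφ i))
  have hN := norm_eq_sum_sq hcf _ hm
  rw [hnorm] at hN
  have hN' : Fintype.card I + 1 = ∑ χ : IrrCharacter G, (∑ i, a i χ) ^ 2 := by exact_mod_cast hN
  have hl : ∑ i : I, (if i = i₀ then 2 else 1) = Fintype.card I + 1 := by
    have : ∀ i : I, (if i = i₀ then 2 else 1) = 1 + if i = i₀ then 1 else 0 := by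
      intro i; split_ifs <;> rfl
    simp only [this, Finset.sum_add_distrib, Finset.sum_ite_eq', Finset.mem_univ, if_true]
    simp
  have hlr : ∀ i ∈ (Finset.univ : Finset I), (if i = i₀ then 2 else 1) ≤ ∑ χ, a i χ := by
    intro i _
    split_ifs with hi
    · rw [hi]; exact hr0
    · exact hr i
  have hswap : ∑ i, ∑ χ, a i χ = ∑ χ : IrrCharacter G, ∑ i, a i χ := Finset.sum_comm
  have hsq : ∀ χ ∈ (Finset.univ : Finset (IrrCharacter G)), ∑ i, a i χ ≤ (∑ i, a i χ) ^ 2 := by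
    intro χ _
    exact Nat.le_self_pow (by norm_num) _
  have hA := Finset.sum_le_sum hlr
  have hB := Finset.sum_le_sum hsq
  rw [hl] at hA
  have hrow : ∀ i, (if i = i₀ then 2 else 1) = ∑ χ, a i χ := by
    have := (Finset.sum_eq_sum_iff_of_le hlr).1 (by rw [hl]; omega)
    exact fun i => this i (Finset.mem_univ i)
  have hcol : ∀ χ : IrrCharacter G, ∑ i, a i χ ≤ 1 := by
    have := (Finset.sum_eq_sum_iff_of_le hsq).1 (by omega)
    intro χ
    have h2 := this χ (Finset.mem_univ χ)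
    by_contra hgt
    have h3 : 2 ≤ ∑ i, a i χ := by omega
    nlinarith
  have hale : ∀ i χ, a i χ ≤ 1 := fun i χ =>
    (Finset.single_le_sum (f := fun k => a k χ) (fun _ _ => Nat.zero_le _) (Finset.mem_univ i)).trans
      (hcol χ)
  have hpair : ∀ i j χ, i ≠ j → a i χ + a j χ ≤ 1 := by
    intro i j χ hij
    refine le_trans ?_ (hcol χ)
    rw [← Finset.sum_pair (f := fun k => a k χ) hij]
    exact Finset.sum_le_sum_of_subset (Finset.subset_univ _)
  refine ⟨?_, ?_, ?_⟩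
  · intro i hi
    rw [isIrrCharacter_iff]
    refine ⟨hφ i, ?_⟩
    rw [norm_eq_sum_sq (IsCharacter.isClassFunction (hφ i)) (a i) (ha2 i)]
    have e1 : ∑ χ, (a i χ) ^ 2 = ∑ χ, a i χ := by
      apply Finset.sum_congr rfl
      intro χ _
      have := hale i χ
      interval_cases (a i χ) <;> rfl
    rw [e1, ← hrow i, if_neg hi]
    simp
  · intro i j hi hj hij
    by_contra hne
    have h2 := hr i
    obtain ⟨χ, -, hχ⟩ : ∃ χ ∈ (Finset.univ : Finset (IrrCharacter G)), a i χ ≠ 0 := by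
      by_contra hcon
      push Not at hcon
      rw [Finset.sum_eq_zero hcon] at h2
      omega
    have h3 : a i χ = a j χ := by
      have e1 := ha2 i χ
      rw [hij, ha2 j χ] at e1
      exact_mod_cast e1.symm
    have := hpair i j χ hne
    omega
  · intro i hi hiτ
    have e1 := ha2 i ⟨τ, hτ⟩
    rw [hiτ] at e1
    have e1' : classInner τ τ = (a i ⟨τ, hτ⟩ : ℂ) := e1
    rw [classInner_irr_self hτ] at e1'
    have e2 : a i ⟨τ, hτ⟩ = 1 := by exact_mod_cast e1'.symm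
    have e3 := ha0 ⟨τ, hτ⟩
    rw [if_pos rfl] at e3
    have := hpair i i₀ ⟨τ, hτ⟩ hi
    omega

end Cfsg.Agent.Lib.Helper97Vcount
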