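import Cfsg.Agent.Lib.Helper7AschC6
import Cfsg.Agent.Lib.Helper98AschMainAux

set_option autoImplicit false

/-! Refinement of helper7's symplectic-type case (the proofs of `caseA'`, `c6_core'` are helper7's
`caseA`, `c6_core`, recording in addition that the dimension is a power of `r`), and the general theorem. -/

namespace Cfsg.Agent.Lib.Helper98AschMain

open Cfsg Cfsg.Geo Matrix Cfsg.Agent.Lib.Helper97GCore
  Cfsg.Agent.Lib.Helper7C6Mono Cfsg.Agent.Lib.Helper7C6Str Cfsg.Agent.Lib.Helper7C6Asm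
open scoped MatrixGroups commutatorElement

section gen
variable {ι : Type} [Fintype ι] [DecidableEq ι] {F : Type*} [Field F]

open Cfsg.Agent.Lib.Helper97GBase in
theorem caseA' [Fintype F] (hn : 3 ≤ Fintype.card ι) {H N : Subgroup (GL ι F)} (hnorm : Nz H N)
    (habs : ActsAbsolutelyIrreducibly (matrixSet N)) (hcomm : ⁅N, N⁆ ≤ scalars ι F)
    (hdich : ∀ T : Subgroup (GL ι F), Nz H T →
      T ≤ scalars ι F ∨ ActsAbsolutelyIrreducibly (matrixSet T))
    {r : ℕ} (hr : r.Prime) (hP : IsPGroup r N) (hexp : Monoid.exponent N = r * Nat.gcd 2 r)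
    (hpow : ∀ x ∈ N, x ^ (r * Nat.gcd 2 r) = 1)
    (hz : Nat.card (Subgroup.center N) = r * Nat.gcd 2 r)
    {m : ℕ} (hm : 1 ≤ m) (hcard : Nat.card N = Nat.card (Subgroup.center N) * r ^ (2 * m)) :
    (∃ (F₁ : Subfield F) (r : ℕ) (B : GL ι F), r.Prime ∧ Fintype.card F = Nat.card F₁ ^ r ∧
      H ≤ subfieldSubgroup F₁ B) ∨
    (∃ (r : ℕ) (R : Subgroup (GL ι F)) (j : ℕ), IsLinearSymplecticTypeData r R ∧
      Fintype.card ι = r ^ j ∧ H ≤ subgroupNormalizer R) ∨
    (∃ (σ : F ≃+* F) (f : (ι → F) → (ι → F) → F), IsUnitaryForm σ f ∧ H ≤ similarityGroup f) := by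
  classical
  have : Nonempty ι := Fintype.card_pos_iff.mp (by omega)
  obtain ⟨c, hc, -⟩ := exists_root habs
  set z := Nat.card (Subgroup.center N) with hzdef
  have hz' : (z.Prime ∧ Odd z) ∨ z = 4 := by
    by_cases hr2 : r = 2
    · right; rw [hz, hr2]; norm_num
    · left
      have hg : Nat.gcd 2 r = 1 := (Nat.coprime_primes Nat.prime_two hr).mpr (Ne.symm hr2)
      rw [hz, hg, mul_one]
      exact ⟨hr, hr.odd_of_ne_two hr2⟩
  have hz0 : 0 < z := by
    rcases hz' with h | h
    · exact h.1.pos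
    · omega
  have hζ : IsPrimitiveRoot (c : F) z := by
    rw [IsPrimitiveRoot.coe_units_iff, ← hc]
    exact IsPrimitiveRoot.orderOf c
  have hdvd : z ∣ Fintype.card F - 1 := by
    rw [← hc, ← Fintype.card_units]
    exact orderOf_dvd_card
  obtain ⟨B, hB, hιN⟩ := monomial_form N habs.1 hcomm hz0 (by rw [hz]; exact hpow) hζ
  obtain ⟨p, e, hp, hchar, hF, hcases⟩ := Cfsg.Agent.Lib.Helper38AschField.field_cases z hz' hdvd
  rcases hcases with ⟨F₀, hF₀, hroots⟩ | ⟨hminF, hodd, h4⟩ | ⟨σ, hσ1, hσ2, hσ3⟩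
  · left
    exact Cfsg.Agent.Lib.Helper97GSubfield.le_subfieldSubgroup hnorm habs hF₀
      (realisable_of_mono hB F₀ hroots)
  · right; left
    have hdim : ∃ j : ℕ, Fintype.card ι = r ^ j := by
      have h1 : Nat.card N ∣ r ^ (2 + 2 * m) := by
        rw [hcard, hz, pow_add]
        apply Nat.mul_dvd_mul_right
        rw [pow_two]
        apply Nat.mul_dvd_mul_left
        rcases (Nat.dvd_prime Nat.prime_two).mp (Nat.gcd_dvd_left 2 r) with h | h
        · rw [h]; exact one_dvd _
        · exact Nat.gcd_dvd_right 2 r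
      obtain ⟨j, _, hj⟩ := (Nat.dvd_prime_pow hr).mp (hιN.trans h1)
      exact ⟨j, hj⟩
    obtain ⟨j, hj⟩ := hdim
    refine ⟨r, N, j, ⟨⟨hr, hP, fun A hA hc => cyclic_of_char (by omega) hnorm hdich A hA hc, hexp⟩,
      habs, p, e, ?_, hminF, ?_⟩, hj, le_normalizer_of_Nz hnorm⟩
    · rintro rfl
      have h1 : r ∣ Fintype.card F - 1 := Dvd.dvd.trans (by rw [hz]; exact Dvd.intro _ rfl) hdvd
      have he : e ≠ 0 := by
        rintro rfl
        have := Fintype.one_lt_card (α := F)
        rw [hF] at this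
        simp at this
      have h2 : r ∣ Fintype.card F := by rw [hF]; exact dvd_pow_self r he
      have h3 : 0 < Fintype.card F := Fintype.card_pos
      have h4 : r ∣ 1 := by
        have := (Nat.dvd_sub h2 h1)
        have e1 : Fintype.card F - (Fintype.card F - 1) = 1 := by omega
        rwa [e1] at this
      exact hr.one_lt.ne' (Nat.dvd_one.mp h4)
    · by_cases hr2 : r = 2
      · right; left
        subst hr2
        have hz4 : z = 4 := by rw [hz]; norm_num
        refine ⟨rfl, h4 hz4, hz4, ?_, m, ?_⟩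
        · have hN2 : Nat.card N = 2 ^ (2 + 2 * m) := by rw [hcard, hz4, pow_add]; norm_num
          rw [hN2] at hιN
          obtain ⟨j, hj, hje⟩ := (Nat.dvd_prime_pow Nat.prime_two).mp hιN
          rw [hje] at hn ⊢
          have hj2 : 2 ≤ j := by
            by_contra hcon
            have : j = 0 ∨ j = 1 := by omega
            rcases this with rfl | rfl <;> norm_num at hn
          calc 4 = 2 ^ 2 := by norm_num
            _ ≤ 2 ^ j := Nat.pow_le_pow_right (by norm_num) hj2
        · rw [hcard, hz4, pow_add]; norm_num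
      · left
        have hg : Nat.gcd 2 r = 1 := (Nat.coprime_primes Nat.prime_two hr).mpr (Ne.symm hr2)
        have hzr : z = r := by rw [hz, hg, mul_one]
        refine ⟨hr.odd_of_ne_two hr2, hodd, hzr, m, hm, ?_⟩
        rw [hcard, hzr, pow_add, pow_one]
  · right; right
    obtain ⟨f, hf, hfix⟩ := unitary_of_mono hB σ hσ1 hσ2 hσ3
    exact ⟨σ, f, hf, Cfsg.Agent.Lib.Helper97GForms.le_similarityGroup_of_fixes hnorm habs hf hfix⟩

open Cfsg.Agent.Lib.Helper97GBase in
/-- the symplectic type case, for a general index type. -/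
theorem c6_core' [Fintype F] (hn : 3 ≤ Fintype.card ι) {H N : Subgroup (GL ι F)} (hnorm : Nz H N)
    (hNs : ¬ N ≤ scalars ι F) (hcomm : ⁅N, N⁆ ≤ scalars ι F)
    (hmin : ∀ N' : Subgroup (GL ι F), N' ≤ N → Nz H N' → N' ≤ scalars ι F ∨ N' = N)
    (hdich : ∀ T : Subgroup (GL ι F), Nz H T →
      T ≤ scalars ι F ∨ ActsAbsolutelyIrreducibly (matrixSet T)) :
    (∃ (F₁ : Subfield F) (r : ℕ) (B : GL ι F), r.Prime ∧ Fintype.card F = Nat.card F₁ ^ r ∧
      H ≤ subfieldSubgroup F₁ B) ∨
    (∃ (r : ℕ) (R : Subgroup (GL ι F)) (j : ℕ), IsLinearSymplecticTypeData r R ∧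
      Fintype.card ι = r ^ j ∧ H ≤ subgroupNormalizer R) ∨
    (∃ (σ : F ≃+* F) (f : (ι → F) → (ι → F) → F), IsUnitaryForm σ f ∧ H ≤ similarityGroup f) ∨
    (∃ f : (ι → F) → (ι → F) → F, IsSymplecticForm f ∧ H ≤ similarityGroup f) ∨
    (∃ Q : (ι → F) → F, IsNondegenerateQuadraticForm Q ∧ Odd (Fintype.card F) ∧
      H ≤ quadSimilarityGroup Q) := by
  classical
  have : Nonempty ι := Fintype.card_pos_iff.mp (by omega)
  have habs : ActsAbsolutelyIrreducibly (matrixSet N) := (hdich N hnorm).resolve_left hNs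
  have : Finite (GL ι F) := inferInstance
  obtain ⟨r, hr, hP, hexp, hpow, hpowr, hC, m, hm, hcard⟩ :=
    structure_cor (scalars ι F) H N scalars_le_center hnorm hNs hcomm
      (fun x _ hx => mem_scalars_of_comm habs hx) hmin
  by_cases hz : Nat.card (Subgroup.center N) = r * Nat.gcd 2 r
  · rcases caseA' hn hnorm habs hcomm hdich hr hP hexp hpow hz hm hcard with h | h | h
    · exact Or.inl h
    · exact Or.inr (Or.inl h)
    · exact Or.inr (Or.inr (Or.inl h))
  · have hr2 : r = 2 := by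
      by_contra hr2
      have hg : Nat.gcd 2 r = 1 := (Nat.coprime_primes Nat.prime_two hr).mpr (Ne.symm hr2)
      rw [hg, mul_one] at hz
      rcases hC with h | h
      · exact hz h
      · exact hr2 h.1
    subst hr2
    have hz2 : Nat.card (Subgroup.center N) = 2 := by
      rcases hC with h | h
      · exact h
      · exfalso; apply hz; rw [h.2]; norm_num
    obtain ⟨h2, hcN, hsq, hsc⟩ := caseB_hyps habs hpowr hz2 hcard
    right; right; right
    rcases Cfsg.Agent.Lib.Helper38AschBilin.bilinear_of_sq N habs h2 hcN hsq hsc with ⟨Q, hQ, hfix⟩ | ⟨f, hf, hfix⟩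
    · right
      have hodd : Odd (Fintype.card F) := by
        rw [Nat.odd_iff]
        apply FiniteField.odd_card_of_char_ne_two
        intro hch
        apply h2
        have : CharP F 2 := by rw [← hch]; exact ringChar.charP F
        exact CharTwo.two_eq_zero
      exact ⟨Q, hQ, hodd,
        Cfsg.Agent.Lib.Helper97GForms.le_quadSimilarityGroup_of_fixes hodd hnorm habs hQ hfix⟩
    · left
      exact ⟨f, hf, Cfsg.Agent.Lib.Helper97GForms.similarity_of_fixes hnorm habs
        (Cfsg.Agent.Lib.Helper97GForms.sesq_of_bilinear hf.bilinear) hf.nondegenerate hfix⟩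

end gen

variable {n : ℕ} {F : Type*} [Field F]

open Cfsg.Agent.Lib.Helper98AschAlt Cfsg.Agent.Lib.Helper98AschDich Cfsg.Agent.Lib.Helper98AschMainAux

/-- **Aschbacher's theorem for `GL_n(q)`, `n ≥ 3`** : every subgroup lies in a member of one of the eight
geometric classes (explicit list `GeomAlt`) or is in the residual class. -/
theorem main [Fintype F] (hn : 3 ≤ n) (H : Subgroup (GL (Fin n) F)) :
    GeomAlt n F H ∨ InLinearResidualClass H := by
  apply main_aux (by omega)
  intro H N hnorm hNs hcomm hmin hdich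
  rcases c6_core' (ι := Fin n) (by simpa using hn) hnorm hNs hcomm hmin hdich with
    ⟨F₁, r, B, hr, hc, hle⟩ | ⟨r, R, j, hR, hj, hle⟩ | ⟨σ, f, hf, hle⟩ | ⟨f, hf, hle⟩ | ⟨Q, hQ, hodd, hle⟩
  · exact alt5 hr hc hle
  · exact alt6 hR (by simpa using hj) hle
  · exact alt8u hf hle
  · exact alt8s hf hle
  · exact alt8q hodd hQ hle

end Cfsg.Agent.Lib.Helper98AschMain
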