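import Mathlib

/-! Vocabulary for S2271 (the number of fixed points is not constant on a product of two `A_n`-classes). -/

namespace Cfsg.Agent.Lib.Helper98FixDefs

open Equiv Finset

/-- number of fixed points. -/
def fx {n : ℕ} (σ : Perm (Fin n)) : ℕ := (univ.filter fun x => σ x = x).card

/-- the even permutations, as a finset. -/
def AF (n : ℕ) : Finset (Perm (Fin n)) := univ.filter fun h => Perm.sign h = 1

theorem mem_AF {n : ℕ} {h : Perm (Fin n)} : h ∈ AF n ↔ h ∈ alternatingGroup (Fin n) := by
  simp [AF, Perm.mem_alternatingGroup]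

end Cfsg.Agent.Lib.Helper98FixDefs
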