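import Mathlib

/-! Vocabulary of PROJECT 4157 (Kulakoff / P. Hall counting theorems, rows S4157 and S4237). -/

namespace Cfsg.Agent.Lib.Helper98KulDefs

/-- number of subgroups of order `p ^ k` -/
noncomputable def sc (p k : ℕ) (G : Type*) [Group G] : ℕ :=
  Nat.card {H : Subgroup G // Nat.card H = p ^ k}

/-- number of subgroups of index `p` containing `H` -/
noncomputable def mu (p : ℕ) {G : Type*} [Group G] (H : Subgroup G) : ℕ :=
  Nat.card {M : Subgroup G // M.index = p ∧ H ≤ M}

/-- `T` is the intersection of two distinct subgroups of index `p` -/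
def IsT (p : ℕ) {G : Type*} [Group G] (T : Subgroup G) : Prop :=
  ∃ M M' : Subgroup G, M.index = p ∧ M'.index = p ∧ M ≠ M' ∧ T = M ⊓ M'

/-- number of `T` (intersections of two distinct index-`p` subgroups) containing `H` -/
noncomputable def tau (p : ℕ) {G : Type*} [Group G] (H : Subgroup G) : ℕ :=
  Nat.card {T : Subgroup G // IsT p T ∧ H ≤ T}

/-- number of pairs `H ≤ M`, `|H| = p^k`, `|G : M| = p` -/
noncomputable def nM (p k : ℕ) (G : Type*) [Group G] : ℕ :=
  Nat.card {x : Subgroup G × Subgroup G // Nat.card x.1 = p ^ k ∧ x.2.index = p ∧ x.1 ≤ x.2}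

/-- number of pairs `H ≤ T`, `|H| = p^k`, `IsT p T` -/
noncomputable def nT (p k : ℕ) (G : Type*) [Group G] : ℕ :=
  Nat.card {x : Subgroup G × Subgroup G // Nat.card x.1 = p ^ k ∧ IsT p x.2 ∧ x.1 ≤ x.2}

end Cfsg.Agent.Lib.Helper98KulDefs
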