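import Mathlib

set_option autoImplicit false

namespace Cfsg.Agent.Lib.Helper98Part

open Equiv Equiv.Perm

variable {Ω ι : Type*}

/-- The stabilizer of the partition of `Ω` into the fibres of `f`. -/
def partStab (f : Ω → ι) : Subgroup (Perm Ω) where
  carrier := {g | ∀ x y, f x = f y ↔ f (g x) = f (g y)}
  one_mem' := by intro x y; simp
  mul_mem' := by
    intro g h hg hh x y
    simp only [Perm.coe_mul, Function.comp_apply]
    exact (hh x y).trans (hg _ _)
  inv_mem' := by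
    intro g hg x y
    have := hg (g⁻¹ x) (g⁻¹ y)
    simp at this
    exact this.symm

theorem mem_partStab {f : Ω → ι} {g : Perm Ω} :
    g ∈ partStab f ↔ ∀ x y, f x = f y ↔ f (g x) = f (g y) := Iff.rfl

theorem closure_eq_partStab (f : Ω → ι) :
    Subgroup.closure {g : Perm Ω | ∀ x y, f x = f y ↔ f (g x) = f (g y)} = partStab f :=
  Subgroup.closure_eq (partStab f)

theorem mem_partStab_of_forall {f : Ω → ι} {g : Perm Ω} (σ : Perm ι)
    (h : ∀ x, f (g x) = σ (f x)) : g ∈ partStab f := by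
  intro x y
  rw [h, h]
  exact σ.injective.eq_iff.symm

theorem apply_swap_of_eq [DecidableEq Ω] {f : Ω → ι} {x y : Ω} (h : f x = f y) (z : Ω) :
    f (swap x y z) = f z := by
  rcases eq_or_ne z x with rfl | hx
  · rw [swap_apply_left, h]
  rcases eq_or_ne z y with rfl | hy
  · rw [swap_apply_right, h]
  rw [swap_apply_of_ne_of_ne hx hy]

theorem swap_mem_partStab [DecidableEq Ω] {f : Ω → ι} {x y : Ω} (h : f x = f y) :
    swap x y ∈ partStab f :=
  mem_partStab_of_forall 1 (fun z => by simpa using apply_swap_of_eq h z)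

theorem exists_equiv_prod [Finite Ω] {a b : ℕ} (f : Ω → Fin b)
    (hf : ∀ i : Fin b, Nat.card {x : Ω // f x = i} = a) :
    ∃ e : Ω ≃ Fin b × Fin a, ∀ x, (e x).1 = f x := by
  refine ⟨(Equiv.sigmaFiberEquiv f).symm.trans
    ((Equiv.sigmaCongrRight fun i => Finite.equivFinOfCardEq (hf i)).trans
      (Equiv.sigmaEquivProd _ _)), ?_⟩
  intro x
  simp [Equiv.sigmaFiberEquiv]

theorem exists_lift [Finite Ω] {a b : ℕ} (f : Ω → Fin b)
    (hf : ∀ i : Fin b, Nat.card {x : Ω // f x = i} = a) (σ : Perm (Fin b)) :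
    ∃ h : Perm Ω, ∀ x, f (h x) = σ (f x) := by
  obtain ⟨e, he⟩ := exists_equiv_prod f hf
  refine ⟨e.symm.permCongr (σ.prodCongr (Equiv.refl _)), ?_⟩
  intro x
  rw [← he, ← he]
  simp [Equiv.permCongr_apply]

theorem exists_fibre {a b : ℕ} (ha : 1 ≤ a) (f : Ω → Fin b)
    (hf : ∀ i : Fin b, Nat.card {x : Ω // f x = i} = a) (i : Fin b) : ∃ x, f x = i := by
  have : Nonempty {x : Ω // f x = i} := by
    by_contra hne
    rw [not_nonempty_iff] at hne
    have := hf i
    rw [Nat.card_of_isEmpty] at this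
    omega
  obtain ⟨x, hx⟩ := this
  exact ⟨x, hx⟩

theorem exists_fibre_ne {a b : ℕ} (ha : 2 ≤ a) (f : Ω → Fin b)
    (hf : ∀ i : Fin b, Nat.card {x : Ω // f x = i} = a) (x : Ω) : ∃ y, f y = f x ∧ y ≠ x := by
  have h1 : 1 < Nat.card {y : Ω // f y = f x} := by rw [hf]; omega
  have hfin : Finite {y : Ω // f y = f x} := Nat.finite_of_card_ne_zero (by omega)
  rw [Finite.one_lt_card_iff_nontrivial] at h1
  obtain ⟨⟨y, hy⟩, hne⟩ := exists_ne (⟨x, rfl⟩ : {y : Ω // f y = f x})
  exact ⟨y, hy, fun h => hne (Subtype.ext h)⟩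

theorem partStab_ne_top [DecidableEq Ω] {a b : ℕ} (ha : 2 ≤ a) (hb : 2 ≤ b) (f : Ω → Fin b)
    (hf : ∀ i : Fin b, Nat.card {x : Ω // f x = i} = a) : partStab f ≠ ⊤ := by
  intro htop
  obtain ⟨x, hx⟩ := exists_fibre (by omega) f hf ⟨0, by omega⟩
  obtain ⟨z, hz⟩ := exists_fibre (by omega) f hf ⟨1, by omega⟩
  obtain ⟨y, hy, hyx⟩ := exists_fibre_ne ha f hf x
  have hxz : f x ≠ f z := by rw [hx, hz]; simp [Fin.ext_iff]
  have hmem : swap y z ∈ partStab f := by rw [htop]; trivial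
  have := (hmem x y).mp hy.symm
  rw [swap_apply_left, swap_apply_of_ne_of_ne hyx.symm (fun h => hxz (by rw [h]))] at this
  exact hxz this

/-- Any subgroup strictly containing the partition stabilizer is everything. -/
theorem eq_top_of_partStab_lt [Fintype Ω] [DecidableEq Ω] {a b : ℕ}
    (f : Ω → Fin b) (hf : ∀ i : Fin b, Nat.card {x : Ω // f x = i} = a)
    {H : Subgroup (Perm Ω)} (hlt : partStab f < H) : H = ⊤ := by
  obtain ⟨hle, hnle⟩ := hlt
  obtain ⟨g, hgH, hgG⟩ := Set.not_subset.mp hnle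
  -- a swap across two fibres
  have hcross : ∃ u v, f u ≠ f v ∧ swap u v ∈ H := by
    have : ¬ ∀ x y, f x = f y ↔ f (g x) = f (g y) := hgG
    push Not at this
    obtain ⟨x, y, hxy⟩ := this
    rcases hxy with ⟨h1, h2⟩ | ⟨h1, h2⟩
    · refine ⟨g x, g y, h2, ?_⟩
      have : swap (g x) (g y) = g * swap x y * g⁻¹ := by
        rw [Equiv.swap_apply_apply]
      rw [this]
      exact H.mul_mem (H.mul_mem hgH (hle (swap_mem_partStab h1))) (H.inv_mem hgH)
    · refine ⟨x, y, h1, ?_⟩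
      have : swap x y = g⁻¹ * swap (g x) (g y) * g := by
        rw [Equiv.swap_apply_apply]
        ext z; simp
      rw [this]
      exact H.mul_mem (H.mul_mem (H.inv_mem hgH) (hle (swap_mem_partStab h2))) hgH
  obtain ⟨u, v, huv, hswap⟩ := hcross
  -- all swaps from the fibre of u
  have hall : ∀ s t, swap s t ∈ H := by
    have h2 : ∀ {i j k l : Fin b}, i ≠ j → k ≠ l → ∃ σ : Perm (Fin b), σ • i = k ∧ σ • j = l :=
      (MulAction.is_two_pretransitive_iff (G := Perm (Fin b)) (α := Fin b)).mp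
        (Equiv.Perm.isMultiplyPretransitive (Fin b) 2)
    intro s t
    by_cases hst : f s = f t
    · exact hle (swap_mem_partStab hst)
    · obtain ⟨σ, hσ1, hσ2⟩ := h2 huv hst
      obtain ⟨h, hh⟩ := exists_lift f hf σ
      have hhH : h ∈ H := hle (mem_partStab_of_forall σ hh)
      have h3 : swap (h u) (h v) ∈ H := by
        have : swap (h u) (h v) = h * swap u v * h⁻¹ := by
          rw [Equiv.swap_apply_apply]
        rw [this]
        exact H.mul_mem (H.mul_mem hhH hswap) (H.inv_mem hhH)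
      have h4 : swap s (h u) ∈ H := hle (swap_mem_partStab (by rw [hh]; exact hσ1.symm))
      have h5 : swap (h v) t ∈ H := hle (swap_mem_partStab (by rw [hh]; exact hσ2))
      exact SubmonoidClass.swap_mem_trans H (SubmonoidClass.swap_mem_trans H h4 h3) h5
  rw [eq_top_iff, ← Equiv.Perm.closure_isSwap, Subgroup.closure_le]
  rintro _ ⟨s, t, -, rfl⟩
  exact hall s t

theorem isCoatom_partStab [Fintype Ω] [DecidableEq Ω] {a b : ℕ} (ha : 2 ≤ a) (hb : 2 ≤ b)
    (f : Ω → Fin b) (hf : ∀ i : Fin b, Nat.card {x : Ω // f x = i} = a) :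
    IsCoatom (partStab f) :=
  ⟨partStab_ne_top ha hb f hf, fun _ hlt => eq_top_of_partStab_lt f hf hlt⟩

end Cfsg.Agent.Lib.Helper98Part
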