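import Mathlib

set_option autoImplicit false

namespace Cfsg.Agent.Lib.Helper98Perm

open Equiv Equiv.Perm

variable {α : Type*} [Fintype α] [DecidableEq α]

/-- A subgroup containing the alternating group is the alternating group or everything. -/
theorem eq_top_or_eq_alt_of_alt_le {H : Subgroup (Perm α)} (h : alternatingGroup α ≤ H) :
    H = ⊤ ∨ H = alternatingGroup α := by
  rcases subsingleton_or_nontrivial α with hs | hn
  · left
    exact Subsingleton.elim _ _
  · have hd : H.index ∣ 2 := by
      rw [← alternatingGroup.index_eq_two (α := α)]
      exact Subgroup.index_dvd_of_le h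
    rcases (Nat.dvd_prime Nat.prime_two).mp hd with h1 | h2
    · left; exact Subgroup.index_eq_one.mp h1
    · right; exact eq_alternatingGroup_of_index_eq_two h2

/-- For degree at least five, a subgroup not containing the alternating group is core-free. -/
theorem normalCore_eq_bot (h5 : 5 ≤ Fintype.card α) {H : Subgroup (Perm α)}
    (h : ¬ alternatingGroup α ≤ H) : H.normalCore = ⊥ := by
  by_contra hne
  have hnt : Nontrivial H.normalCore := (Subgroup.nontrivial_iff_ne_bot _).mpr hne
  have := alternatingGroup_le_of_normal (by simpa using h5) hnt
  exact h (this.trans H.normalCore_le)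

/-- The coset action of a core-free subgroup is injective. -/
theorem toPermHom_injective_of_normalCore {G : Type*} [Group G] {H : Subgroup G}
    (h : H.normalCore = ⊥) : Function.Injective (MulAction.toPermHom G (G ⧸ H)) := by
  rw [← MonoidHom.ker_eq_bot_iff, ← Subgroup.normalCore_eq_ker, h]

/-- A core-free subgroup of a finite group has `|G| ≤ (index)!`. -/
theorem card_le_factorial_index {G : Type*} [Group G] [Finite G] {H : Subgroup G}
    (h : H.normalCore = ⊥) : Nat.card G ≤ (H.index).factorial := by
  classical
  have hinj := toPermHom_injective_of_normalCore h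
  have := Nat.card_le_card_of_injective _ hinj
  have hc : Nat.card (Perm (G ⧸ H)) = (H.index).factorial := by
    have : Fintype (G ⧸ H) := Fintype.ofFinite _
    rw [Nat.card_eq_fintype_card, Fintype.card_perm, Subgroup.index, Nat.card_eq_fintype_card]
  rwa [hc] at this

/-- Proper subgroups of the symmetric group other than the alternating group have index
at least the degree (degree at least five). -/
theorem card_le_index (h5 : 5 ≤ Fintype.card α) {H : Subgroup (Perm α)}
    (h : ¬ alternatingGroup α ≤ H) : Fintype.card α ≤ H.index := by
  have h1 := card_le_factorial_index (normalCore_eq_bot h5 h)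
  rw [Nat.card_eq_fintype_card, Fintype.card_perm] at h1
  by_contra hlt
  push Not at hlt
  have hpos : 0 < H.index := Nat.pos_of_ne_zero Subgroup.index_ne_zero_of_finite
  have := (Nat.factorial_lt hpos).mpr hlt
  omega

end Cfsg.Agent.Lib.Helper98Perm
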