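import Mathlib

/-! Vocabulary for soft subgroups of `p`-groups (Hethelyi): `A` abelian, self-centralizing, of index `p` in its normalizer. -/

namespace Cfsg.Agent.Lib.Helper98SoftDefs

variable {G : Type*} [Group G]

/-- `A` is a soft subgroup of `G`. -/
structure Soft (p : ℕ) (A : Subgroup G) : Prop where
  comm : ∀ x ∈ A, ∀ y ∈ A, x * y = y * x
  cent : Subgroup.centralizer (A : Set G) ≤ A
  idx : A.relIndex (Subgroup.normalizer (A : Set G)) = p

/-- the overgroups of `A` form a chain. -/
def Chain (A : Subgroup G) : Prop := ∀ K L : Subgroup G, A ≤ K → A ≤ L → K ≤ L ∨ L ≤ K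

/-- every proper overgroup of `A` has index `p` in its normalizer. -/
def NormP (p : ℕ) (A : Subgroup G) : Prop :=
  ∀ K : Subgroup G, A ≤ K → K ≠ ⊤ → K.relIndex (Subgroup.normalizer (K : Set G)) = p

/-- a proper overgroup `K` with `|K : A| = p ^ i` has class exactly `i + 1`. -/
def ClassP (p : ℕ) (A : Subgroup G) : Prop :=
  ∀ (i : ℕ) (K : Subgroup G), A ≤ K → K ≠ ⊤ → A.relIndex K = p ^ i →
    K.lowerCentralSeries (i + 1) = ⊥ ∧ K.lowerCentralSeries i ≠ ⊥

/-- the centre of the subgroup `M`, as a subgroup of `G`. -/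
def cen (M : Subgroup G) : Subgroup G := M ⊓ Subgroup.centralizer (M : Set G)

end Cfsg.Agent.Lib.Helper98SoftDefs
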