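import Mathlib
import Cfsg.Agent.Lib.Helper98Perm

set_option autoImplicit false

namespace Cfsg.Agent.Lib.Helper98Sym

open Equiv Equiv.Perm Nat

theorem card_centralizer_map {G G' : Type*} [Group G] [Group G'] (e : G ≃* G') (g : G) :
    Nat.card (Subgroup.centralizer {g}) = Nat.card (Subgroup.centralizer {e g}) := by
  refine Nat.card_congr (Equiv.subtypeEquiv e.toEquiv ?_)
  intro x
  simp only [Subgroup.mem_centralizer_singleton_iff, MulEquiv.toEquiv_eq_coe, MulEquiv.coe_toEquiv]
  rw [← map_mul, ← map_mul, e.injective.eq_iff]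

theorem card_centralizer_replicate {α : Type*} [Fintype α] [DecidableEq α] (g : Perm α) (k : ℕ)
    (hk : 1 ≤ k) (h : g.cycleType = Multiset.replicate k 2) :
    Nat.card (Subgroup.centralizer {g}) = (Fintype.card α - 2 * k)! * 2 ^ k * k ! := by
  rw [nat_card_centralizer, h, Multiset.sum_replicate, Multiset.prod_replicate,
    Multiset.toFinset_replicate, if_neg (by omega)]
  simp [mul_comm]

theorem aux_ineq (j : ℕ) : 2 ^ (j + 4) * (j + 4)! < (2 * j + 6)! * 2 := by
  induction j with
  | zero => decide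
  | succ j ih =>
    have h1 : (2 * (j + 1) + 6)! = (2 * j + 8) * ((2 * j + 7) * (2 * j + 6)!) := by
      have : 2 * (j + 1) + 6 = (2 * j + 6) + 1 + 1 := by ring
      rw [this, Nat.factorial_succ, Nat.factorial_succ]
    have h2 : (j + 1 + 4)! = (j + 5) * (j + 4)! := by
      have : j + 1 + 4 = (j + 4) + 1 := by ring
      rw [this, Nat.factorial_succ]
    rw [h1, h2]
    have h3 : 2 ^ (j + 1 + 4) = 2 * 2 ^ (j + 4) := by ring
    rw [h3]
    calc 2 * 2 ^ (j + 4) * ((j + 5) * (j + 4)!) = (2 * (j + 5)) * (2 ^ (j + 4) * (j + 4)!) := by ring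
      _ < (2 * (j + 5)) * ((2 * j + 6)! * 2) := by
          apply Nat.mul_lt_mul_of_pos_left ih (by omega)
      _ ≤ ((2 * j + 8) * (2 * j + 7)) * ((2 * j + 6)! * 2) := by
          apply Nat.mul_le_mul_right
          nlinarith
      _ = (2 * j + 8) * ((2 * j + 7) * (2 * j + 6)!) * 2 := by ring

theorem numeric (n k : ℕ) (hk : 1 ≤ k) (h2k : 2 * k ≤ n)
    (h : (n - 2)! * 2 = (n - 2 * k)! * 2 ^ k * k !) : k = 1 ∨ (n = 6 ∧ k = 3) := by
  obtain ⟨m, rfl⟩ := Nat.exists_eq_add_of_le h2k
  have hm : 2 * k + m - 2 * k = m := by omega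
  rw [hm] at h
  have hmpos : 0 < m ! := Nat.factorial_pos m
  rcases Nat.lt_or_ge k 4 with hk4 | hk4
  · interval_cases k
    · left; rfl
    · exfalso
      have h1 : 2 * 2 + m - 2 = m + 1 + 1 := by omega
      rw [h1, Nat.factorial_succ, Nat.factorial_succ] at h
      have h2 : (m + 1 + 1) * (m + 1) = 4 := by
        have : ((m + 1 + 1) * (m + 1)) * m ! = 4 * m ! := by
          simp only [Nat.factorial] at h
          nlinarith
        exact Nat.eq_of_mul_eq_mul_right hmpos this
      rcases m with _ | m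
      · omega
      · nlinarith
    · right
      refine ⟨?_, rfl⟩
      have h1 : 2 * 3 + m - 2 = m + 1 + 1 + 1 + 1 := by omega
      rw [h1, Nat.factorial_succ, Nat.factorial_succ, Nat.factorial_succ, Nat.factorial_succ] at h
      have h2 : (m + 1 + 1 + 1 + 1) * ((m + 1 + 1 + 1) * ((m + 1 + 1) * (m + 1))) = 24 := by
        have : ((m + 1 + 1 + 1 + 1) * ((m + 1 + 1 + 1) * ((m + 1 + 1) * (m + 1)))) * m !
            = 24 * m ! := by
          simp only [Nat.factorial] at h
          nlinarith
        exact Nat.eq_of_mul_eq_mul_right hmpos this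
      rcases m with _ | m
      · rfl
      · exfalso
        have : 5 * (4 * (3 * 2)) ≤ (m + 1 + 1 + 1 + 1 + 1) * ((m + 1 + 1 + 1 + 1) * ((m + 1 + 1 + 1) * (m + 1 + 1))) := by
          apply Nat.mul_le_mul (by omega)
          apply Nat.mul_le_mul (by omega)
          apply Nat.mul_le_mul (by omega) (by omega)
        omega
  · exfalso
    obtain ⟨j, rfl⟩ := Nat.exists_eq_add_of_le hk4
    have h1 : 2 * (4 + j) + m - 2 = m + (2 * j + 6) := by omega
    rw [h1] at h
    have h2 : m ! * (2 * j + 6)! ≤ (m + (2 * j + 6))! :=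
      Nat.le_of_dvd (Nat.factorial_pos _) (Nat.factorial_mul_factorial_dvd_factorial_add _ _)
    have h3 := aux_ineq j
    have h4 : 4 + j = j + 4 := by ring
    rw [h4] at h
    have h5 : m ! * (2 ^ (j + 4) * (j + 4)!) < m ! * ((2 * j + 6)! * 2) :=
      Nat.mul_lt_mul_of_pos_left h3 hmpos
    nlinarith

section types

variable {α β : Type*} [Fintype α] [DecidableEq α] [Fintype β] [DecidableEq β]

/-- An isomorphism preserving transpositions. -/
def SwapPres (e : Perm α ≃* Perm β) : Prop := ∀ τ : Perm α, τ.IsSwap → (e τ).IsSwap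

theorem involution_type (g : Perm β) (h : orderOf g = 2) :
    ∃ k, 1 ≤ k ∧ 2 * k ≤ Fintype.card β ∧ g.cycleType = Multiset.replicate k 2 := by
  obtain ⟨m, hm⟩ := cycleType_prime_order (σ := g) (by rw [h]; exact Nat.prime_two)
  rw [h] at hm
  refine ⟨m + 1, by omega, ?_, hm⟩
  have h1 := sum_cycleType g
  rw [hm, Multiset.sum_replicate] at h1
  have h2 := Finset.card_le_univ g.support
  simp only [smul_eq_mul] at h1
  omega

theorem swap_image_type (hcard : Fintype.card α = Fintype.card β) (e : Perm α ≃* Perm β)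
    {τ : Perm α} (hτ : τ.IsSwap) :
    (e τ).IsSwap ∨ (Fintype.card α = 6 ∧ (e τ).cycleType = Multiset.replicate 3 2) := by
  have ho : orderOf (e τ) = 2 := by rw [MulEquiv.orderOf_eq, hτ.orderOf]
  obtain ⟨k, hk1, hk2, hk⟩ := involution_type (e τ) ho
  have h1 := card_centralizer_replicate τ 1 le_rfl (by
    rw [isSwap_iff_cycleType.mp hτ]; rfl)
  have h2 := card_centralizer_replicate (e τ) k hk1 hk
  rw [card_centralizer_map e τ, h2, ← hcard] at h1
  have h3 := numeric (Fintype.card α) k hk1 (by omega) (by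
    rw [h1]; simp)
  rcases h3 with rfl | ⟨h6, rfl⟩
  · left
    rw [isSwap_iff_cycleType, hk]; rfl
  · right
    exact ⟨h6, hk⟩

theorem type3_image_type (hα : Fintype.card α = 6) (hβ : Fintype.card β = 6)
    (e : Perm α ≃* Perm β) {g : Perm α} (hg : g.cycleType = Multiset.replicate 3 2) :
    (e g).IsSwap ∨ (e g).cycleType = Multiset.replicate 3 2 := by
  have hog : orderOf g = 2 := by
    rw [← lcm_cycleType, hg]; rfl
  have ho : orderOf (e g) = 2 := by rw [MulEquiv.orderOf_eq, hog]
  obtain ⟨k, hk1, hk2, hk⟩ := involution_type (e g) ho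
  have h1 := card_centralizer_replicate g 3 (by omega) hg
  have h2 := card_centralizer_replicate (e g) k hk1 hk
  rw [card_centralizer_map e g, h2, hα, hβ] at h1
  have hk3 : k ≤ 3 := by omega
  interval_cases k
  · left
    rw [isSwap_iff_cycleType, hk]; rfl
  · exfalso
    revert h1
    decide
  · right; exact hk

theorem cycleType_map_eq_of_eq (e : Perm α ≃* Perm β) {g h : Perm α}
    (hgh : g.cycleType = h.cycleType) : (e g).cycleType = (e h).cycleType := by
  rw [← isConj_iff_cycleType_eq] at hgh ⊢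
  exact e.toMonoidHom.map_isConj hgh

theorem cycleType_eq_of_map_eq (e : Perm α ≃* Perm β) {g h : Perm α}
    (hgh : (e g).cycleType = (e h).cycleType) : g.cycleType = h.cycleType := by
  rw [← isConj_iff_cycleType_eq] at hgh ⊢
  have := e.symm.toMonoidHom.map_isConj hgh
  simpa using this

/-- Either all transpositions go to transpositions, or all go to triple transpositions. -/
theorem dichotomy (hcard : Fintype.card α = Fintype.card β) (e : Perm α ≃* Perm β) :
    SwapPres e ∨ (Fintype.card α = 6 ∧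
      ∀ τ : Perm α, τ.IsSwap → (e τ).cycleType = Multiset.replicate 3 2) := by
  by_cases h : SwapPres e
  · exact Or.inl h
  · right
    unfold SwapPres at h
    push Not at h
    obtain ⟨τ, hτ, hne⟩ := h
    obtain ⟨h6, h3⟩ := (swap_image_type hcard e hτ).resolve_left hne
    refine ⟨h6, fun σ hσ => ?_⟩
    rw [← h3]
    apply cycleType_map_eq_of_eq
    rw [isSwap_iff_cycleType.mp hσ, isSwap_iff_cycleType.mp hτ]

theorem SwapPres.symm (hcard : Fintype.card α = Fintype.card β) {e : Perm α ≃* Perm β}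
    (h : SwapPres e) : SwapPres e.symm := by
  intro σ hσ
  rcases subsingleton_or_nontrivial α with hs | hn
  · exfalso
    have : Fintype.card β ≤ 1 := by rw [← hcard]; exact Fintype.card_le_one_iff_subsingleton.mpr hs
    have hsb : Subsingleton β := Fintype.card_le_one_iff_subsingleton.mp this
    obtain ⟨x, y, hxy, -⟩ := hσ
    exact hxy (Subsingleton.elim _ _)
  · obtain ⟨x, y, hxy⟩ := exists_pair_ne α
    have h1 : (e (swap x y)).IsSwap := h _ ⟨x, y, hxy, rfl⟩
    have h2 : (e (e.symm σ)).cycleType = (e (swap x y)).cycleType := by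
      rw [MulEquiv.apply_symm_apply, isSwap_iff_cycleType.mp hσ, isSwap_iff_cycleType.mp h1]
    have h3 := cycleType_eq_of_map_eq e h2
    rw [isSwap_iff_cycleType, h3, isSwap_iff_cycleType.mp ⟨x, y, hxy, rfl⟩]

end types

end Cfsg.Agent.Lib.Helper98Sym
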