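import Mathlib
import Cfsg.Agent.Lib.Helper98Sym

set_option autoImplicit false

namespace Cfsg.Agent.Lib.Helper98SymB

open Equiv Equiv.Perm Cfsg.Agent.Lib.Helper98Sym

section swaps

variable {α : Type*} [DecidableEq α]

theorem eq_swap_of_moved {u : Perm α} (hu : u.IsSwap) {a a' : α} (h : a ≠ a') (ha : u a ≠ a)
    (ha' : u a' ≠ a') : u = swap a a' := by
  obtain ⟨p, q, hpq, rfl⟩ := hu
  rw [swap_apply_ne_self_iff] at ha ha'
  rcases ha.2 with rfl | rfl <;> rcases ha'.2 with rfl | rfl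
  · exact absurd rfl h
  · rfl
  · exact swap_comm _ _
  · exact absurd rfl h

theorem exists_common_moved {u v : Perm α} (h : ¬ Commute u v) : ∃ a, u a ≠ a ∧ v a ≠ a := by
  by_contra hcon
  push Not at hcon
  apply h
  apply Disjoint.commute
  intro x
  by_cases hx : u x = x
  · exact Or.inl hx
  · exact Or.inr (hcon x hx)

end swaps

section fixed

variable {α β : Type*} [Fintype α] [DecidableEq α] [Fintype β] [DecidableEq β]

theorem exists_two_ne (h3 : 3 ≤ Fintype.card β) (b : β) :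
    ∃ c₁ c₂ : β, c₁ ≠ b ∧ c₂ ≠ b ∧ c₁ ≠ c₂ := by
  have h1 : ∃ c₁, c₁ ∉ ({b} : Finset β) := by
    by_contra hcon
    push Not at hcon
    have : Finset.univ ⊆ ({b} : Finset β) := fun x _ => hcon x
    have := Finset.card_le_card this
    simp at this
    omega
  obtain ⟨c₁, hc₁⟩ := h1
  have h2 : ∃ c₂, c₂ ∉ ({b, c₁} : Finset β) := by
    by_contra hcon
    push Not at hcon
    have : Finset.univ ⊆ ({b, c₁} : Finset β) := fun x _ => hcon x
    have := Finset.card_le_card this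
    have h4 := Finset.card_le_two (a := b) (b := c₁)
    simp only [Finset.card_univ] at this
    omega
  obtain ⟨c₂, hc₂⟩ := h2
  simp only [Finset.mem_singleton, Finset.mem_insert, not_or] at hc₁ hc₂
  exact ⟨c₁, c₂, hc₁, hc₂.1, fun h => hc₂.2 h.symm⟩

omit [Fintype α] in
theorem exists_fixed (ψ : Perm β ≃* Perm α) (hψ : SwapPres ψ) (h3 : 3 ≤ Fintype.card β) (b : β) :
    ∃ a : α, ∀ g : Perm β, g b = b → ψ g a = a := by
  obtain ⟨c₁, c₂, hc₁, hc₂, hc₁₂⟩ := exists_two_ne h3 b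
  have F1 : ∀ c, c ≠ b → (ψ (swap b c)).IsSwap := fun c hc => hψ _ ⟨b, c, hc.symm, rfl⟩
  have hconj : ∀ c c', c ≠ b → c' ≠ b → c ≠ c' →
      ψ (swap b c) * ψ (swap b c') * ψ (swap b c) = ψ (swap c c') := by
    intro c c' hc hc' hcc
    rw [← map_mul, ← map_mul]
    congr 1
    have := swap_mul_swap_mul_swap (x := c') (y := b) (z := c) hc' hcc.symm
    rw [swap_comm c' b] at this
    exact this
  have F3 : ∀ c c' c'', c ≠ b → c' ≠ b → c'' ≠ b → ψ (swap c c') ≠ ψ (swap b c'') := by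
    intro c c' c'' hc hc' hc'' h
    have h1 := ψ.injective h
    have h2 := congrArg (fun f : Perm β => f b) h1
    simp only [swap_apply_left] at h2
    rw [swap_apply_of_ne_of_ne hc.symm hc'.symm] at h2
    exact hc'' h2.symm
  have hsq : ∀ c, ψ (swap b c) * ψ (swap b c) = 1 := by
    intro c
    rw [← map_mul, swap_mul_self, map_one]
  have F5 : ∀ c c', c ≠ b → c' ≠ b → c ≠ c' → ¬ Commute (ψ (swap b c)) (ψ (swap b c')) := by
    intro c c' hc hc' hcc hcom
    have h1 := hconj c c' hc hc' hcc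
    rw [hcom.eq, mul_assoc, hsq, mul_one] at h1
    exact F3 c c' c' hc hc' hc' h1.symm
  obtain ⟨a, ha₁, ha₂⟩ := exists_common_moved (F5 c₁ c₂ hc₁ hc₂ hc₁₂)
  have hall : ∀ c, c ≠ b → ψ (swap b c) a ≠ a := by
    intro c hc hfix
    have hcc₁ : c ≠ c₁ := fun h => ha₁ (h ▸ hfix)
    have hcc₂ : c ≠ c₂ := fun h => ha₂ (h ▸ hfix)
    obtain ⟨p, hp, hp₁⟩ := exists_common_moved (F5 c c₁ hc hc₁ hcc₁)
    obtain ⟨q, hq, hq₂⟩ := exists_common_moved (F5 c c₂ hc hc₂ hcc₂)
    have hpa : a ≠ p := fun h => hp (h ▸ hfix)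
    have hqa : a ≠ q := fun h => hq (h ▸ hfix)
    have e₁ := eq_swap_of_moved (F1 c₁ hc₁) hpa ha₁ hp₁
    have e₂ := eq_swap_of_moved (F1 c₂ hc₂) hqa ha₂ hq₂
    have hpq : p ≠ q := by
      intro h
      apply F5 c₁ c₂ hc₁ hc₂ hc₁₂
      rw [e₁, e₂, h]
    have e₃ := eq_swap_of_moved (F1 c hc) hpq hp hq
    have h1 := hconj c₁ c₂ hc₁ hc₂ hc₁₂
    rw [e₁, e₂] at h1
    have h2 := swap_mul_swap_mul_swap (x := q) (y := a) (z := p) hqa.symm hpq.symm
    rw [swap_comm q a] at h2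
    rw [h2, ← e₃] at h1
    exact F3 c₁ c₂ c hc₁ hc₂ hc h1.symm
  refine ⟨a, fun g hg => ?_⟩
  have hmove : ∀ c, c ≠ b → ψ (swap b c) (ψ g a) ≠ ψ g a := by
    intro c hc
    have hc' : g⁻¹ c ≠ b := by
      intro h
      apply hc
      rw [← hg, ← h]
      simp
    have h1 : swap b c = g * swap b (g⁻¹ c) * g⁻¹ := by
      rw [← swap_apply_apply, hg]
      simp
    rw [h1, map_mul, map_mul, map_inv]
    simp only [Perm.coe_mul, Function.comp_apply]
    intro h
    have h2 : (ψ g)⁻¹ ((ψ g) a) = a := by simp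
    rw [h2] at h
    exact hall _ hc' ((ψ g).injective h)
  by_contra hne
  apply F5 c₁ c₂ hc₁ hc₂ hc₁₂
  rw [eq_swap_of_moved (F1 c₁ hc₁) (Ne.symm hne) ha₁ (hmove c₁ hc₁),
    eq_swap_of_moved (F1 c₂ hc₂) (Ne.symm hne) ha₂ (hmove c₂ hc₂)]

end fixed

theorem eq_of_le_of_index_eq {G : Type*} [Group G] [Finite G] {H K : Subgroup G} (h : H ≤ K)
    (hi : H.index = K.index) : H = K := by
  apply le_antisymm h
  rw [← Subgroup.relIndex_eq_one]
  have h1 := Subgroup.relIndex_mul_index h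
  rw [hi] at h1
  have hpos : 0 < K.index := Nat.pos_of_ne_zero Subgroup.index_ne_zero_of_finite
  nlinarith

section stab

variable {α β : Type*} [Fintype α] [DecidableEq α] [Fintype β] [DecidableEq β]

/-- The preimage of a point stabilizer under a transposition preserving isomorphism is a point
stabilizer. -/
theorem comap_stabilizer (hcard : Fintype.card α = Fintype.card β) (h3 : 3 ≤ Fintype.card β)
    (e : Perm α ≃* Perm β) (he : SwapPres e) (b : β) :
    ∃ a : α, (MulAction.stabilizer (Perm β) b).comap e.toMonoidHom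
      = MulAction.stabilizer (Perm α) a := by
  obtain ⟨a, ha⟩ := exists_fixed e.symm (he.symm hcard) h3 b
  refine ⟨a, eq_of_le_of_index_eq ?_ ?_⟩
  · intro g hg
    have h1 : e g b = b := hg
    have := ha (e g) h1
    rw [MulEquiv.symm_apply_apply] at this
    exact this
  · rw [Subgroup.index_comap_of_surjective _ e.surjective,
      MulAction.index_stabilizer_of_transitive, MulAction.index_stabilizer_of_transitive,
      Nat.card_eq_fintype_card, Nat.card_eq_fintype_card, hcard]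

end stab

end Cfsg.Agent.Lib.Helper98SymB
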