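import Mathlib
import Cfsg.Agent.Lib.Helper98SymB

set_option autoImplicit false

namespace Cfsg.Agent.Lib.Helper98SymC

open Equiv Equiv.Perm Cfsg.Agent.Lib.Helper98Perm Cfsg.Agent.Lib.Helper98Sym
  Cfsg.Agent.Lib.Helper98SymB

variable {α : Type*} [Fintype α] [DecidableEq α]

theorem not_alt_le (h5 : 5 ≤ Fintype.card α) {H : Subgroup (Perm α)}
    (hH : H.index = Fintype.card α) : ¬ alternatingGroup α ≤ H := by
  intro hle
  rcases eq_top_or_eq_alt_of_alt_le hle with h | h
  · rw [h, Subgroup.index_top] at hH; omega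
  · have : Nontrivial α := Fintype.one_lt_card_iff_nontrivial.mp (by omega)
    rw [h, alternatingGroup.index_eq_two] at hH; omega

theorem toPermHom_bijective (h5 : 5 ≤ Fintype.card α) {H : Subgroup (Perm α)}
    (hH : H.index = Fintype.card α) :
    Function.Bijective (MulAction.toPermHom (Perm α) (Perm α ⧸ H)) := by
  classical
  have hinj := toPermHom_injective_of_normalCore (normalCore_eq_bot h5 (not_alt_le h5 hH))
  apply hinj.bijective_of_nat_card_le
  have : Fintype (Perm α ⧸ H) := Fintype.ofFinite _
  rw [Nat.card_eq_fintype_card, Nat.card_eq_fintype_card, Fintype.card_perm, Fintype.card_perm,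
    ← Nat.card_eq_fintype_card (α := Perm α ⧸ H), ← Subgroup.index, hH]

/-- The coset action as an isomorphism. -/
noncomputable def cosetEquiv (h5 : 5 ≤ Fintype.card α) {H : Subgroup (Perm α)}
    (hH : H.index = Fintype.card α) : Perm α ≃* Perm (Perm α ⧸ H) :=
  MulEquiv.ofBijective _ (toPermHom_bijective h5 hH)

theorem comap_cosetEquiv (h5 : 5 ≤ Fintype.card α) {H : Subgroup (Perm α)}
    (hH : H.index = Fintype.card α) (x : Perm α) :
    (MulAction.stabilizer (Perm (Perm α ⧸ H)) (x : Perm α ⧸ H)).comap
      (cosetEquiv h5 hH).toMonoidHom = H.map (MulAut.conj x).toMonoidHom := by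
  have h1 : (MulAction.stabilizer (Perm (Perm α ⧸ H)) (x : Perm α ⧸ H)).comap
      (cosetEquiv h5 hH).toMonoidHom = MulAction.stabilizer (Perm α) (x : Perm α ⧸ H) := by
    ext g
    rfl
  have h2 : (x : Perm α ⧸ H) = x • ((1 : Perm α) : Perm α ⧸ H) := by
    rw [MulAction.Quotient.smul_coe, smul_eq_mul, mul_one]
  rw [h1, h2, MulAction.stabilizer_smul_eq_stabilizer_map_conj, MulAction.stabilizer_quotient]

omit [DecidableEq α] in
theorem eq_stabilizer_of_le {H : Subgroup (Perm α)} (hH : H.index = Fintype.card α) {x : α}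
    (h : H ≤ MulAction.stabilizer (Perm α) x) : H = MulAction.stabilizer (Perm α) x := by
  apply eq_of_le_of_index_eq h
  rw [hH, MulAction.index_stabilizer_of_transitive, Nat.card_eq_fintype_card]

theorem eq_stabilizer_of_swapPres (h5 : 5 ≤ Fintype.card α) {H : Subgroup (Perm α)}
    (hH : H.index = Fintype.card α) [Fintype (Perm α ⧸ H)] [DecidableEq (Perm α ⧸ H)]
    (he : SwapPres (cosetEquiv h5 hH)) : ∃ x : α, H = MulAction.stabilizer (Perm α) x := by
  have hQ : Fintype.card α = Fintype.card (Perm α ⧸ H) := by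
    rw [← hH, Subgroup.index, Nat.card_eq_fintype_card]
  obtain ⟨a, ha⟩ := comap_stabilizer hQ (by omega) (cosetEquiv h5 hH) he
    ((1 : Perm α) : Perm α ⧸ H)
  refine ⟨a, ?_⟩
  rw [← ha, comap_cosetEquiv]
  ext g
  simp

theorem eq_stabilizer_of_index_large (h5 : 5 ≤ Fintype.card α) (h6 : Fintype.card α ≠ 6)
    {H : Subgroup (Perm α)} (hH : H.index = Fintype.card α) :
    ∃ x : α, H = MulAction.stabilizer (Perm α) x := by
  classical
  have : Fintype (Perm α ⧸ H) := Fintype.ofFinite _
  have hQ : Fintype.card α = Fintype.card (Perm α ⧸ H) := by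
    rw [← hH, Subgroup.index, Nat.card_eq_fintype_card]
  exact eq_stabilizer_of_swapPres h5 hH
    ((dichotomy hQ (cosetEquiv h5 hH)).resolve_right (fun h => h6 h.1))

theorem eq_stabilizer_of_index_small (h4 : Fintype.card α ≤ 4)
    {H : Subgroup (Perm α)} (hH : H.index = Fintype.card α) :
    ∃ x : α, H = MulAction.stabilizer (Perm α) x := by
  have hpos : 0 < Fintype.card α := by
    rw [← hH]; exact Nat.pos_of_ne_zero Subgroup.index_ne_zero_of_finite
  have hne : Nonempty α := Fintype.card_pos_iff.mp hpos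
  suffices h : ∃ x : α, H ≤ MulAction.stabilizer (Perm α) x by
    obtain ⟨x, hx⟩ := h
    exact ⟨x, eq_stabilizer_of_le hH hx⟩
  have hcard := H.card_mul_index
  rw [hH, Nat.card_eq_fintype_card (α := Perm α), Fintype.card_perm] at hcard
  have hn : Fintype.card α = 1 ∨ Fintype.card α = 2 ∨ Fintype.card α = 3 ∨ Fintype.card α = 4 := by
    omega
  rcases hn with hn | hn | hn | hn
  · rw [hn] at hcard
    have h1 : Nat.card H = 1 := by simpa using hcard
    rw [Subgroup.eq_bot_of_card_eq H h1]
    exact ⟨Classical.arbitrary α, bot_le⟩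
  · rw [hn] at hcard
    have h1 : Nat.card H = 1 := by
      simp only [Nat.factorial] at hcard
      omega
    rw [Subgroup.eq_bot_of_card_eq H h1]
    exact ⟨Classical.arbitrary α, bot_le⟩
  · rw [hn] at hcard
    have h1 : Nat.card H = 2 ^ 1 := by
      simp only [Nat.factorial] at hcard
      omega
    have hp : IsPGroup 2 H := IsPGroup.of_card h1
    obtain ⟨x, hx⟩ := hp.nonempty_fixed_point_of_prime_not_dvd_card α (by
      rw [Nat.card_eq_fintype_card, hn]; decide)
    exact ⟨x, fun h hh => hx ⟨h, hh⟩⟩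
  · rw [hn] at hcard
    have h1 : Nat.card H = 6 := by
      simp only [Nat.factorial] at hcard
      omega
    have : Fact (Nat.Prime 3) := ⟨Nat.prime_three⟩
    obtain ⟨c, hc⟩ := exists_prime_orderOf_dvd_card' (G := H) 3 (by rw [h1]; decide)
    have hc' : orderOf (c : Perm α) = 3 := by rw [Subgroup.orderOf_coe, hc]
    obtain ⟨k, hk⟩ := cycleType_prime_order (σ := (c : Perm α)) (by rw [hc']; exact Nat.prime_three)
    rw [hc'] at hk
    have hsum := sum_cycleType (c : Perm α)
    rw [hk, Multiset.sum_replicate, smul_eq_mul] at hsum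
    have hle := Finset.card_le_univ (c : Perm α).support
    have hsupp : (c : Perm α).support.card = 3 := by omega
    have hcompl : ((c : Perm α).support)ᶜ.card = 1 := by
      rw [Finset.card_compl, hsupp, hn]
    obtain ⟨x, hx⟩ := Finset.card_eq_one.mp hcompl
    have hfix : ∀ y, (c : Perm α) y = y ↔ y = x := by
      intro y
      have : y ∈ ((c : Perm α).support)ᶜ ↔ y ∈ ({x} : Finset α) := by rw [hx]
      rw [Finset.mem_compl, mem_support, not_not, Finset.mem_singleton] at this
      exact this
    have hidx : (Subgroup.zpowers c).index = 2 := by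
      have h2 := (Subgroup.zpowers c).card_mul_index
      rw [Nat.card_zpowers, hc, h1] at h2
      omega
    have hnorm : (Subgroup.zpowers c).Normal := Subgroup.normal_of_index_eq_two hidx
    refine ⟨x, fun h hh => ?_⟩
    have h3 := hnorm.conj_mem c (Subgroup.mem_zpowers c) ⟨h, hh⟩
    obtain ⟨j, hj⟩ := Subgroup.mem_zpowers_iff.mp h3
    have h4 : ((c : Perm α) ^ j) x = x := by
      apply zpow_apply_eq_self_of_apply_eq_self
      exact (hfix x).mpr rfl
    have h5 : (h * (c : Perm α) * h⁻¹) x = x := by
      have := congrArg (fun t : H => (t : Perm α)) hj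
      simp only [Subgroup.coe_zpow, Subgroup.coe_mul, Subgroup.coe_inv] at this
      rw [← this]
      exact h4
    have h6 : (c : Perm α) (h⁻¹ x) = h⁻¹ x := by
      have : h ((c : Perm α) (h⁻¹ x)) = x := h5
      apply h.injective
      rw [this]
      simp
    have h7 := (hfix _).mp h6
    rw [MulAction.mem_stabilizer_iff, Perm.smul_def]
    calc h x = h (h⁻¹ x) := by rw [h7]
      _ = x := by simp

theorem eq_stabilizer_of_index (h6 : Fintype.card α ≠ 6)
    {H : Subgroup (Perm α)} (hH : H.index = Fintype.card α) :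
    ∃ x : α, H = MulAction.stabilizer (Perm α) x := by
  rcases Nat.lt_or_ge (Fintype.card α) 5 with h | h
  · exact eq_stabilizer_of_index_small (by omega) hH
  · exact eq_stabilizer_of_index_large h h6 hH

end Cfsg.Agent.Lib.Helper98SymC
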