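import Mathlib
import Cfsg.Agent.Lib.Helper98SymC

set_option autoImplicit false

namespace Cfsg.Agent.Lib.Helper98SymD

open Equiv Equiv.Perm Cfsg.Agent.Lib.Helper98Perm Cfsg.Agent.Lib.Helper98Sym
  Cfsg.Agent.Lib.Helper98SymB Cfsg.Agent.Lib.Helper98SymC

section sylow

instance : Fact (Nat.Prime 5) := ⟨by norm_num⟩

theorem card_perm_five : Nat.card (Perm (Fin 5)) = 120 := by
  rw [Nat.card_eq_fintype_card, Fintype.card_perm, Fintype.card_fin]; rfl

theorem not_alt_le_pgroup (P : Subgroup (Perm (Fin 5))) (hP : IsPGroup 5 P) :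
    ¬ alternatingGroup (Fin 5) ≤ P := by
  intro hle
  have h1 : IsPGroup 5 (alternatingGroup (Fin 5)) := hP.to_le hle
  obtain ⟨k, hk⟩ := IsPGroup.iff_card.mp h1
  have h2 := two_mul_card_alternatingGroup (α := Fin 5)
  rw [Fintype.card_perm, Fintype.card_fin, ← Nat.card_eq_fintype_card, hk] at h2
  have h3 : 2 ∣ 5 ^ k := by
    have : 5 ^ k = 60 := by
      have : (5 : ℕ).factorial = 120 := rfl
      omega
    rw [this]; decide
  have := Nat.Prime.dvd_of_dvd_pow Nat.prime_two h3
  omega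

theorem card_sylow_five : Nat.card (Sylow 5 (Perm (Fin 5))) = 6 := by
  obtain ⟨P⟩ : Nonempty (Sylow 5 (Perm (Fin 5))) := inferInstance
  have h1 := card_sylow_modEq_one 5 (Perm (Fin 5))
  have h2 : Nat.card (Sylow 5 (Perm (Fin 5))) ∣ 120 := by
    rw [← card_perm_five]
    exact (Sylow.card_dvd_index P).trans (Subgroup.index_dvd_card _)
  have h3 : Nat.card (Sylow 5 (Perm (Fin 5))) ≠ 1 := by
    intro h
    rw [Sylow.card_eq_index_normalizer P, Subgroup.index_eq_one] at h
    have h : Subgroup.normalizer ((P : Subgroup (Perm (Fin 5))) : Set (Perm (Fin 5))) = ⊤ := h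
    rw [Subgroup.normalizer_eq_top_iff] at h
    have hne : (P : Subgroup (Perm (Fin 5))) ≠ ⊥ :=
      P.ne_bot_of_dvd_card (by rw [card_perm_five]; decide)
    have hnt : Nontrivial (P : Subgroup (Perm (Fin 5))) := (Subgroup.nontrivial_iff_ne_bot _).mpr hne
    exact not_alt_le_pgroup P P.2 (alternatingGroup_le_of_normal (by simp) hnt)
  have h4 : ∀ n ≤ 120, n ∣ 120 → n % 5 = 1 → n ≠ 1 → n = 6 := by decide
  exact h4 _ (Nat.le_of_dvd (by norm_num) h2) h2 h1 h3

theorem sylow_action_injective :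
    Function.Injective (MulAction.toPermHom (Perm (Fin 5)) (Sylow 5 (Perm (Fin 5)))) := by
  rw [← MonoidHom.ker_eq_bot_iff]
  by_contra hne
  have hnt : Nontrivial (MulAction.toPermHom (Perm (Fin 5)) (Sylow 5 (Perm (Fin 5)))).ker :=
    (Subgroup.nontrivial_iff_ne_bot _).mpr hne
  have hle := alternatingGroup_le_of_normal (by simp) hnt
  obtain ⟨P⟩ : Nonempty (Sylow 5 (Perm (Fin 5))) := inferInstance
  have hle2 : alternatingGroup (Fin 5) ≤ MulAction.stabilizer (Perm (Fin 5)) P := by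
    intro g hg
    have := hle hg
    rw [MonoidHom.mem_ker] at this
    have h2 := congrArg (fun f : Perm (Sylow 5 (Perm (Fin 5))) => f P) this
    exact h2
  have h3 := Subgroup.index_dvd_of_le hle2
  rw [MulAction.index_stabilizer_of_transitive, card_sylow_five,
    alternatingGroup.index_eq_two] at h3
  omega

end sylow

variable {Ω : Type*} [Fintype Ω] [DecidableEq Ω]

/-- The symmetric group of degree six has a subgroup of index six, isomorphic to the symmetric
group of degree five, that fixes no point. -/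
theorem exists_exotic (h6 : Fintype.card Ω = 6) :
    ∃ H : Subgroup (Perm Ω), H.index = 6 ∧ ∀ x : Ω, ¬ H ≤ MulAction.stabilizer (Perm Ω) x := by
  have hc : Nat.card (Sylow 5 (Perm (Fin 5))) = Nat.card Ω := by
    rw [card_sylow_five, Nat.card_eq_fintype_card, h6]
  have σ : Sylow 5 (Perm (Fin 5)) ≃ Ω :=
    (Finite.equivFinOfCardEq hc).trans (Finite.equivFinOfCardEq rfl).symm
  set ρ : Perm (Fin 5) →* Perm Ω := (σ.permCongrHom).toMonoidHom.comp
    (MulAction.toPermHom (Perm (Fin 5)) (Sylow 5 (Perm (Fin 5)))) with hρ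
  have hinj : Function.Injective ρ := by
    rw [hρ]
    exact σ.permCongrHom.injective.comp sylow_action_injective
  refine ⟨ρ.range, ?_, ?_⟩
  · have h1 := ρ.range.card_mul_index
    have h2 : Nat.card ρ.range = 120 := by
      rw [← card_perm_five]
      exact (Nat.card_congr (MonoidHom.ofInjective hinj).toEquiv).symm
    rw [h2, Nat.card_eq_fintype_card, Fintype.card_perm, h6] at h1
    have : (6 : ℕ).factorial = 720 := rfl
    omega
  · intro x hle
    have hfix : ∀ g : Perm (Fin 5), g • σ.symm x = σ.symm x := by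
      intro g
      have h1 : ρ g x = x := hle ⟨g, rfl⟩
      have h2 : ρ g x = σ (g • σ.symm x) := rfl
      rw [h2] at h1
      rw [Equiv.eq_symm_apply]
      exact h1
    have hsub : Subsingleton (Sylow 5 (Perm (Fin 5))) := by
      refine ⟨fun P Q => ?_⟩
      obtain ⟨g, hg⟩ := MulAction.exists_smul_eq (Perm (Fin 5)) (σ.symm x) P
      obtain ⟨g', hg'⟩ := MulAction.exists_smul_eq (Perm (Fin 5)) (σ.symm x) Q
      rw [← hg, ← hg', hfix, hfix]
    have := card_sylow_five
    rw [Nat.card_of_subsingleton (σ.symm x)] at this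
    omega

theorem replicate_ne : (Multiset.replicate 3 2 : Multiset ℕ) ≠ {2} := by decide

theorem swapPres_trans_of_not (h6 : Fintype.card Ω = 6) {Q Q' : Type*} [Fintype Q] [DecidableEq Q]
    [Fintype Q'] [DecidableEq Q'] (hQ : Fintype.card Q = 6) (hQ' : Fintype.card Q' = 6)
    (e : Perm Ω ≃* Perm Q) (e' : Perm Ω ≃* Perm Q') (he : ¬ SwapPres e) (he' : ¬ SwapPres e') :
    SwapPres (e'.symm.trans e) := by
  have o := (dichotomy (h6.trans hQ.symm) e).resolve_left he
  have o' := (dichotomy (h6.trans hQ'.symm) e').resolve_left he'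
  intro σ hσ
  show (e (e'.symm σ)).IsSwap
  rcases swap_image_type (hQ'.trans h6.symm) e'.symm hσ with h | ⟨-, h⟩
  · exfalso
    have := o'.2 _ h
    rw [MulEquiv.apply_symm_apply, isSwap_iff_cycleType.mp hσ] at this
    exact replicate_ne this.symm
  · rcases type3_image_type h6 hQ e h with h2 | h2
    · exact h2
    · exfalso
      have hnt : Nontrivial Ω := Fintype.one_lt_card_iff_nontrivial.mp (by omega)
      obtain ⟨x, y, hxy⟩ := exists_pair_ne Ω
      have h3 := o.2 (swap x y) ⟨x, y, hxy, rfl⟩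
      have h4 := cycleType_eq_of_map_eq e (h2.trans h3.symm)
      rw [h, isSwap_iff_cycleType.mp ⟨x, y, hxy, rfl⟩] at h4
      exact replicate_ne h4

theorem conj_of_not_stabilizer (h6 : Fintype.card Ω = 6) {H H' : Subgroup (Perm Ω)}
    (hH : H.index = 6) (hH' : H'.index = 6)
    (h : ∀ x : Ω, H ≠ MulAction.stabilizer (Perm Ω) x)
    (h' : ∀ x : Ω, H' ≠ MulAction.stabilizer (Perm Ω) x) :
    ∃ g : Perm Ω, H'.map (MulAut.conj g).toMonoidHom = H := by
  classical
  have : Fintype (Perm Ω ⧸ H) := Fintype.ofFinite _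
  have : Fintype (Perm Ω ⧸ H') := Fintype.ofFinite _
  have h5 : 5 ≤ Fintype.card Ω := by omega
  rw [← h6] at hH hH'
  have hQ : Fintype.card (Perm Ω ⧸ H) = 6 := by
    rw [← h6, ← hH, Subgroup.index, Nat.card_eq_fintype_card]
  have hQ' : Fintype.card (Perm Ω ⧸ H') = 6 := by
    rw [← h6, ← hH', Subgroup.index, Nat.card_eq_fintype_card]
  have he : ¬ SwapPres (cosetEquiv h5 hH) := fun hs => by
    obtain ⟨x, hx⟩ := eq_stabilizer_of_swapPres h5 hH hs
    exact h x hx
  have he' : ¬ SwapPres (cosetEquiv h5 hH') := fun hs => by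
    obtain ⟨x, hx⟩ := eq_stabilizer_of_swapPres h5 hH' hs
    exact h' x hx
  have hχ := swapPres_trans_of_not h6 hQ hQ' _ _ he he'
  obtain ⟨a, ha⟩ := comap_stabilizer (hQ'.trans hQ.symm) (by omega) _ hχ
    ((1 : Perm Ω) : Perm Ω ⧸ H)
  obtain ⟨g, rfl⟩ := QuotientGroup.mk_surjective a
  refine ⟨g, ?_⟩
  rw [← comap_cosetEquiv h5 hH' g, ← ha, Subgroup.comap_comap]
  have hcomp : ((cosetEquiv h5 hH').symm.trans (cosetEquiv h5 hH)).toMonoidHom.comp
      (cosetEquiv h5 hH').toMonoidHom = (cosetEquiv h5 hH).toMonoidHom := by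
    ext1 x
    simp
  rw [hcomp, comap_cosetEquiv h5 hH 1]
  ext x
  simp

omit [Fintype Ω] [DecidableEq Ω] in
theorem map_conj_stabilizer (g : Perm Ω) (x : Ω) :
    (MulAction.stabilizer (Perm Ω) x).map (MulAut.conj g).toMonoidHom
      = MulAction.stabilizer (Perm Ω) (g x) :=
  (MulAction.stabilizer_smul_eq_stabilizer_map_conj g x).symm

/-- Classification of the subgroups of index six in degree six. -/
theorem classification (h6 : Fintype.card Ω = 6) {H₂ : Subgroup (Perm Ω)} (hH₂ : H₂.index = 6)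
    (h₂ : ∀ x : Ω, ¬ H₂ ≤ MulAction.stabilizer (Perm Ω) x) (H : Subgroup (Perm Ω))
    (hH : H.index = 6) :
    (∃ x : Ω, H = MulAction.stabilizer (Perm Ω) x) ∨
      ∃ g : Perm Ω, H₂.map (MulAut.conj g).toMonoidHom = H := by
  by_cases h : ∃ x : Ω, H = MulAction.stabilizer (Perm Ω) x
  · exact Or.inl h
  · right
    push Not at h
    exact conj_of_not_stabilizer h6 hH hH₂ h (fun x hx => h₂ x hx.le)

omit [Fintype Ω] [DecidableEq Ω] in
theorem map_conj_ne_stabilizer {H₂ : Subgroup (Perm Ω)}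
    (h₂ : ∀ x : Ω, ¬ H₂ ≤ MulAction.stabilizer (Perm Ω) x) (g : Perm Ω) (x : Ω) :
    H₂.map (MulAut.conj g).toMonoidHom ≠ MulAction.stabilizer (Perm Ω) x := by
  intro h
  apply h₂ (g⁻¹ x)
  intro k hk
  have h1 : g * k * g⁻¹ ∈ MulAction.stabilizer (Perm Ω) x := by
    rw [← h]
    exact ⟨k, hk, rfl⟩
  rw [MulAction.mem_stabilizer_iff] at h1 ⊢
  have h2 : g (k (g⁻¹ x)) = x := h1
  show k (g⁻¹ x) = g⁻¹ x
  apply g.injective
  rw [h2]
  simp

end Cfsg.Agent.Lib.Helper98SymD
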