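import Mathlib

/-! Vocabulary of PROJECT 2929 (row S2929). -/

namespace Cfsg.Agent.Lib.Helper98TcDefs
open Equiv

/-- the even permutations fixing every point outside `Δ` -/
def AltOn {n : ℕ} (Δ : Set (Fin n)) : Subgroup (Perm (Fin n)) where
  carrier := {g | Perm.sign g = 1 ∧ ∀ x, x ∉ Δ → g x = x}
  mul_mem' := by
    rintro a b ⟨ha, ha'⟩ ⟨hb, hb'⟩
    refine ⟨by simp [ha, hb], fun x hx => ?_⟩
    rw [Perm.mul_apply, hb' x hx, ha' x hx]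
  one_mem' := ⟨by simp, fun _ _ => rfl⟩
  inv_mem' := by
    rintro a ⟨ha, ha'⟩
    refine ⟨by simp [ha], fun x hx => ?_⟩
    rw [Perm.inv_eq_iff_eq]
    exact (ha' x hx).symm

theorem mem_AltOn {n : ℕ} {Δ : Set (Fin n)} {g : Perm (Fin n)} :
    g ∈ AltOn Δ ↔ Perm.sign g = 1 ∧ ∀ x, x ∉ Δ → g x = x := Iff.rfl

end Cfsg.Agent.Lib.Helper98TcDefs
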