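import Mathlib

set_option autoImplicit false

namespace Cfsg.Agent.Lib.Helper99Blocks

open Finset

section Choice

variable {I : Type*} [LinearOrder I] (π : I → I)

lemma exists_block (hπ : ∀ i, π (π i) = i) (a t : ℕ) (ha : 1 ≤ a) (ht : 1 ≤ t) (S : Finset I)
    (hS : ∀ i ∈ S, π i ∈ S) (hc : S.card = a * t) :
    (∃ B ⊆ S, (∀ i ∈ B, π i ∈ B) ∧ B.card = a) ∨
      (2 ≤ t ∧ ∃ A ⊆ S, (∀ i ∈ A, π i ∉ A) ∧ A.card = a) := by
  classical
  have hinj : Function.Injective π := fun x y h => by rw [← hπ x, ← hπ y, h]
  set Fx := S.filter (fun i => π i = i) with hFx
  set C := S.filter (fun i => i < π i) with hC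
  set C' := S.filter (fun i => π i < i) with hC'
  have hC'eq : C' = C.image π := by
    ext i
    simp only [hC', hC, mem_filter, mem_image]
    constructor
    · rintro ⟨h1, h2⟩
      exact ⟨π i, ⟨hS i h1, by rw [hπ]; exact h2⟩, hπ i⟩
    · rintro ⟨j, ⟨h1, h2⟩, rfl⟩
      exact ⟨hS j h1, by rw [hπ]; exact h2⟩
  have hC'card : C'.card = C.card := by
    rw [hC'eq, card_image_of_injective _ hinj]
  have hsum : S.card = Fx.card + C.card + C'.card := by
    have h1 : Fx.card + (S.filter (fun i => ¬ π i = i)).card = S.card :=
      Finset.card_filter_add_card_filter_not (s := S) (fun i => π i = i)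
    have h2 : (S.filter (fun i => ¬ π i = i)).card = C.card + C'.card := by
      rw [← card_union_of_disjoint]
      · congr 1
        ext i
        simp only [hC, hC', mem_filter, mem_union]
        constructor
        · rintro ⟨h1, h2⟩
          rcases lt_trichotomy i (π i) with h | h | h
          · exact Or.inl ⟨h1, h⟩
          · exact absurd h.symm h2
          · exact Or.inr ⟨h1, h⟩
        · rintro (⟨h1, h2⟩ | ⟨h1, h2⟩)
          · exact ⟨h1, fun h => by rw [h] at h2; exact lt_irrefl _ h2⟩
          · exact ⟨h1, fun h => by rw [h] at h2; exact lt_irrefl _ h2⟩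
      · rw [disjoint_left]
        intro i h1 h2
        simp only [hC, hC', mem_filter] at h1 h2
        exact lt_asymm h1.2 h2.2
    omega
  by_cases h : a ≤ C.card
  · right
    obtain ⟨A, hAC, hA⟩ := Finset.exists_subset_card_eq h
    refine ⟨?_, A, fun i hi => (mem_filter.1 (hAC hi)).1, ?_, hA⟩
    · by_contra hlt
      have : t = 1 := by omega
      subst this
      omega
    · intro i hi hi'
      have h1 := (mem_filter.1 (hAC hi)).2
      have h2 := (mem_filter.1 (hAC hi')).2
      rw [hπ] at h2
      exact lt_asymm h1 h2
  · left
    have h := not_le.1 h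
    have hat : a ≤ a * t := Nat.le_mul_of_pos_right a ht
    obtain ⟨k, hk1, hk2, hk3⟩ : ∃ k, k ≤ C.card ∧ 2 * k ≤ a ∧ a - 2 * k ≤ Fx.card := by
      by_cases h' : C.card ≤ a / 2
      · exact ⟨C.card, le_rfl, by omega, by omega⟩
      · refine ⟨a / 2, by omega, by omega, ?_⟩
        by_contra hlt
        have h0 : Fx.card = 0 := by omega
        have h1 : a % 2 = 1 := by omega
        have h2 : a * t < 2 * a := by omega
        have h3 : t = 1 := by
          by_contra h3
          have : 2 ≤ t := by omega
          have : a * 2 ≤ a * t := Nat.mul_le_mul_left a this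
          omega
        subst h3
        omega
    obtain ⟨K, hKC, hK⟩ := Finset.exists_subset_card_eq hk1
    obtain ⟨E, hEF, hE⟩ := Finset.exists_subset_card_eq hk3
    refine ⟨K ∪ K.image π ∪ E, ?_, ?_, ?_⟩
    · intro i hi
      simp only [mem_union, mem_image] at hi
      rcases hi with (hi | ⟨j, hj, rfl⟩) | hi
      · exact (mem_filter.1 (hKC hi)).1
      · exact hS _ (mem_filter.1 (hKC hj)).1
      · exact (mem_filter.1 (hEF hi)).1
    · intro i hi
      simp only [mem_union, mem_image] at hi ⊢
      rcases hi with (hi | ⟨j, hj, rfl⟩) | hi
      · exact Or.inl (Or.inr ⟨i, hi, rfl⟩)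
      · rw [hπ]; exact Or.inl (Or.inl hj)
      · rw [(mem_filter.1 (hEF hi)).2]; exact Or.inr hi
    · have hd1 : Disjoint K (K.image π) := by
        rw [disjoint_left]
        intro i h1 h2
        obtain ⟨j, hj, rfl⟩ := mem_image.1 h2
        have h3 := (mem_filter.1 (hKC h1)).2
        have h4 := (mem_filter.1 (hKC hj)).2
        rw [hπ] at h3
        exact lt_asymm h3 h4
      have hd2 : Disjoint (K ∪ K.image π) E := by
        rw [disjoint_left]
        intro i h1 h2
        have h3 := (mem_filter.1 (hEF h2)).2
        rcases mem_union.1 h1 with h1 | h1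
        · have h4 := (mem_filter.1 (hKC h1)).2
          rw [h3] at h4
          exact lt_irrefl _ h4
        · obtain ⟨j, hj, rfl⟩ := mem_image.1 h1
          have h4 := (mem_filter.1 (hKC hj)).2
          rw [hπ] at h3
          rw [← h3] at h4
          exact lt_irrefl _ h4
      rw [card_union_of_disjoint hd2, card_union_of_disjoint hd1, card_image_of_injective _ hinj, hK, hE]
      omega

lemma exists_blocks_aux (hπ : ∀ i, π (π i) = i) (a : ℕ) (ha : 1 ≤ a) :
    ∀ t : ℕ, ∀ S : Finset I, (∀ i ∈ S, π i ∈ S) → S.card = a * t →
      ∃ (β : I → ℕ) (σ : ℕ → ℕ), (∀ i ∈ S, β i < t) ∧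
        (∀ j < t, (S.filter (fun i => β i = j)).card = a) ∧
        (∀ j < t, σ j < t) ∧ (∀ j < t, σ (σ j) = j) ∧ ∀ i ∈ S, β (π i) = σ (β i) := by
  classical
  intro t
  induction t using Nat.strong_induction_on with
  | _ t ih =>
    intro S hS hc
    rcases Nat.eq_zero_or_pos t with rfl | ht
    · have : S = ∅ := by simpa using hc
      subst this
      exact ⟨fun _ => 0, id, by simp, by simp, by simp, by simp, by simp⟩
    · rcases exists_block π hπ a t ha ht S hS hc with ⟨B, hBS, hBπ, hBc⟩ | ⟨ht2, A, hAS, hAπ, hAc⟩
      · have hS' : ∀ i ∈ S \ B, π i ∈ S \ B := by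
          intro i hi
          rw [mem_sdiff] at hi ⊢
          refine ⟨hS i hi.1, fun h => hi.2 ?_⟩
          have := hBπ _ h
          rwa [hπ] at this
        have hc' : (S \ B).card = a * (t - 1) := by
          rw [card_sdiff_of_subset hBS, hc, hBc, Nat.mul_sub_one]
        obtain ⟨β', σ', h1, h2, h3, h4, h5⟩ := ih (t - 1) (by omega) (S \ B) hS' hc'
        refine ⟨fun i => if i ∈ B then t - 1 else β' i, fun j => if j = t - 1 then t - 1 else σ' j,
          ?_, ?_, ?_, ?_, ?_⟩
        · intro i hi
          by_cases hiB : i ∈ B
          · simp only [hiB, if_true]; omega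
          · simp only [hiB, if_false]
            have := h1 i (mem_sdiff.2 ⟨hi, hiB⟩)
            omega
        · intro j hj
          by_cases hj' : j = t - 1
          · subst hj'
            rw [← hBc]
            congr 1
            ext i
            simp only [mem_filter]
            constructor
            · rintro ⟨hi, h⟩
              by_contra hiB
              simp only [hiB, if_false] at h
              have := h1 i (mem_sdiff.2 ⟨hi, hiB⟩)
              omega
            · intro hiB
              exact ⟨hBS hiB, by simp [hiB]⟩
          · rw [← h2 j (by omega)]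
            congr 1
            ext i
            simp only [mem_filter, mem_sdiff]
            constructor
            · rintro ⟨hi, h⟩
              by_cases hiB : i ∈ B
              · simp only [hiB, if_true] at h
                exact absurd h.symm hj'
              · simp only [hiB, if_false] at h
                exact ⟨⟨hi, hiB⟩, h⟩
            · rintro ⟨⟨hi, hiB⟩, h⟩
              exact ⟨hi, by simp [hiB, h]⟩
        · intro j hj
          by_cases hj' : j = t - 1
          · simp only [hj', if_true]; omega
          · simp only [hj', if_false]
            have := h3 j (by omega)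
            omega
        · intro j hj
          by_cases hj' : j = t - 1
          · simp [hj']
          · have h6 := h3 j (by omega)
            have h7 : σ' j ≠ t - 1 := by omega
            simp only [hj', if_false, h7]
            exact h4 j (by omega)
        · intro i hi
          by_cases hiB : i ∈ B
          · simp [hiB, hBπ i hiB]
          · have h6 := hS' i (mem_sdiff.2 ⟨hi, hiB⟩)
            have h7 := h1 i (mem_sdiff.2 ⟨hi, hiB⟩)
            have h8 : β' i ≠ t - 1 := by omega
            simp only [hiB, (mem_sdiff.1 h6).2, if_false, h8]
            exact h5 i (mem_sdiff.2 ⟨hi, hiB⟩)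
      · have hinj : Function.Injective π := fun x y h => by rw [← hπ x, ← hπ y, h]
        have hA'S : A.image π ⊆ S := by
          intro i hi
          obtain ⟨j, hj, rfl⟩ := mem_image.1 hi
          exact hS j (hAS hj)
        have hd : Disjoint A (A.image π) := by
          rw [disjoint_left]
          intro i h1 h2
          obtain ⟨j, hj, rfl⟩ := mem_image.1 h2
          exact hAπ j hj h1
        have hmem' : ∀ i, i ∈ A.image π ↔ π i ∈ A := by
          intro i
          constructor
          · intro hi
            obtain ⟨j, hj, rfl⟩ := mem_image.1 hi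
            rwa [hπ]
          · intro hi
            exact mem_image.2 ⟨π i, hi, hπ i⟩
        have hS' : ∀ i ∈ S \ (A ∪ A.image π), π i ∈ S \ (A ∪ A.image π) := by
          intro i hi
          rw [mem_sdiff, mem_union, hmem'] at hi ⊢
          refine ⟨hS i hi.1, fun h => hi.2 ?_⟩
          rw [hπ] at h
          exact h.symm
        have hc' : (S \ (A ∪ A.image π)).card = a * (t - 2) := by
          rw [card_sdiff_of_subset (union_subset hAS hA'S), hc, card_union_of_disjoint hd,
            card_image_of_injective _ hinj, hAc, Nat.mul_sub]
          omega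
        obtain ⟨β', σ', h1, h2, h3, h4, h5⟩ := ih (t - 2) (by omega) _ hS' hc'
        refine ⟨fun i => if i ∈ A then t - 2 else if π i ∈ A then t - 1 else β' i,
          fun j => if j = t - 2 then t - 1 else if j = t - 1 then t - 2 else σ' j,
          ?_, ?_, ?_, ?_, ?_⟩
        · intro i hi
          by_cases hiA : i ∈ A
          · simp only [hiA, if_true]; omega
          · by_cases hiA' : π i ∈ A
            · simp only [hiA, hiA', if_true, if_false]; omega
            · simp only [hiA, hiA', if_false]
              have := h1 i (by rw [mem_sdiff, mem_union, hmem']; exact ⟨hi, by tauto⟩)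
              omega
        · intro j hj
          by_cases hj' : j = t - 2
          · subst hj'
            rw [← hAc]
            congr 1
            ext i
            simp only [mem_filter]
            constructor
            · rintro ⟨hi, h⟩
              by_contra hiA
              by_cases hiA' : π i ∈ A
              · simp only [hiA, hiA', if_true, if_false] at h
                omega
              · simp only [hiA, hiA', if_false] at h
                have := h1 i (by rw [mem_sdiff, mem_union, hmem']; exact ⟨hi, by tauto⟩)
                omega
            · intro hiA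
              exact ⟨hAS hiA, by simp [hiA]⟩
          · by_cases hj'' : j = t - 1
            · subst hj''
              rw [← hAc, ← card_image_of_injective A hinj]
              congr 1
              ext i
              simp only [mem_filter, hmem']
              constructor
              · rintro ⟨hi, h⟩
                by_contra hiA'
                by_cases hiA : i ∈ A
                · simp only [hiA, if_true] at h
                  omega
                · simp only [hiA, hiA', if_false] at h
                  have := h1 i (by rw [mem_sdiff, mem_union, hmem']; exact ⟨hi, by tauto⟩)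
                  omega
              · intro hiA'
                have hiA : i ∉ A := fun h => hAπ i h hiA'
                exact ⟨hA'S ((hmem' i).2 hiA'), by simp [hiA, hiA']⟩
            · rw [← h2 j (by omega)]
              congr 1
              ext i
              simp only [mem_filter, mem_sdiff, mem_union, hmem']
              constructor
              · rintro ⟨hi, h⟩
                by_cases hiA : i ∈ A
                · simp only [hiA, if_true] at h
                  exact absurd h.symm hj'
                · by_cases hiA' : π i ∈ A
                  · simp only [hiA, hiA', if_true, if_false] at h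
                    exact absurd h.symm hj''
                  · simp only [hiA, hiA', if_false] at h
                    exact ⟨⟨hi, by tauto⟩, h⟩
              · rintro ⟨⟨hi, hiA⟩, h⟩
                have h6 : i ∉ A := fun h => hiA (Or.inl h)
                have h7 : π i ∉ A := fun h => hiA (Or.inr h)
                exact ⟨hi, by simp [h6, h7, h]⟩
        · intro j hj
          by_cases hj' : j = t - 2
          · simp only [hj', if_true]; omega
          · by_cases hj'' : j = t - 1
            · subst hj''
              simp only [hj', if_true, if_false]; omega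
            · simp only [hj', hj'', if_false]
              have := h3 j (by omega)
              omega
        · intro j hj
          by_cases hj' : j = t - 2
          · have : t - 1 ≠ t - 2 := by omega
            simp [hj', this]
          · by_cases hj'' : j = t - 1
            · simp [hj'']
            · have h6 := h3 j (by omega)
              have h7 : σ' j ≠ t - 1 := by omega
              have h8 : σ' j ≠ t - 2 := by omega
              simp only [hj', hj'', if_false, h7, h8]
              exact h4 j (by omega)
        · intro i hi
          by_cases hiA : i ∈ A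
          · have h6 : π i ∉ A := hAπ i hiA
            simp [hiA, h6, hπ]
          · by_cases hiA' : π i ∈ A
            · have : t - 1 ≠ t - 2 := by omega
              simp [hiA, hiA', this]
            · have hmem : i ∈ S \ (A ∪ A.image π) := by
                rw [mem_sdiff, mem_union, hmem']; exact ⟨hi, by tauto⟩
              have h7 := h1 i hmem
              have h8 : β' i ≠ t - 1 := by omega
              have h9 : β' i ≠ t - 2 := by omega
              simp only [hiA, hiA', hπ, if_false, h8, h9]
              exact h5 i hmem

end Choice

theorem exists_blocks {I : Type*} [Fintype I] [DecidableEq I] (π : I → I) (hπ : ∀ i, π (π i) = i)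
    (a t : ℕ) (ha : 1 ≤ a) (hcard : Fintype.card I = a * t) :
    ∃ (β : I → Fin t) (σ : Equiv.Perm (Fin t)),
      (∀ j, (Finset.univ.filter (fun i => β i = j)).card = a) ∧ ∀ i, β (π i) = σ (β i) := by
  classical
  let _ : LinearOrder I := LinearOrder.lift' (Fintype.equivFin I) (Equiv.injective _)
  obtain ⟨β, σ, h1, h2, h3, h4, h5⟩ := exists_blocks_aux π hπ a ha t Finset.univ (by simp)
    (by rw [Finset.card_univ, hcard])
  refine ⟨fun i => ⟨β i, h1 i (mem_univ _)⟩,
    ⟨fun j => ⟨σ j, h3 j j.2⟩, fun j => ⟨σ j, h3 j j.2⟩, fun j => Fin.ext (h4 j j.2),
      fun j => Fin.ext (h4 j j.2)⟩, ?_, ?_⟩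
  · intro j
    rw [← h2 j j.2]
    congr 1
    ext i
    simp [Fin.ext_iff]
  · intro i
    apply Fin.ext
    simpa using h5 i (mem_univ _)

section Monomial

open Module Submodule

variable {F V : Type*} [Field F] [AddCommGroup V] [Module F V] [FiniteDimensional F V]

lemma exists_monomial_family_aux (T : V →ₗ[F] V) (z : F) (hT : ∀ v, T (T v) = z • v) :
    ∀ m : ℕ, ∀ U : Submodule F V, (∀ u ∈ U, T u ∈ U) → finrank F U = m →
      ∃ (I : Type) (_ : Fintype I) (b : I → V) (π : I → I) (c : I → F),
        LinearIndependent F b ∧ span F (Set.range b) = U ∧ (∀ i, π (π i) = i) ∧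
          ∀ i, T (b i) = c i • b (π i) := by
  intro m
  induction m using Nat.strong_induction_on with
  | _ m ih =>
    intro U hU hm
    by_cases h : ∃ v ∈ U, T v ∉ span F {v}
    · obtain ⟨v, hvU, hv⟩ := h
      obtain ⟨φ, hφ1, hφ2⟩ := Submodule.exists_dual_map_eq_bot_of_notMem hv inferInstance
      have hφv : φ v = 0 := by
        have : φ v ∈ (span F {v}).map φ := Submodule.mem_map_of_mem (mem_span_singleton_self v)
        rw [hφ2] at this
        simpa using this
      have hv0 : v ≠ 0 := by
        rintro rfl
        apply hv
        simp
      set U' : Submodule F V := U ⊓ LinearMap.ker φ ⊓ LinearMap.ker (φ ∘ₗ T) with hU'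
      have hmemU' : ∀ u, u ∈ U' ↔ u ∈ U ∧ φ u = 0 ∧ φ (T u) = 0 := by
        intro u
        simp [hU', and_assoc]
      have hU'inv : ∀ u ∈ U', T u ∈ U' := by
        intro u hu
        rw [hmemU'] at hu ⊢
        refine ⟨hU u hu.1, hu.2.2, ?_⟩
        rw [hT, map_smul, hu.2.1, smul_zero]
      have hlt : U' < U := by
        refine lt_of_le_of_ne (fun u hu => ((hmemU' u).1 hu).1) ?_
        intro heq
        have : v ∈ U' := heq ▸ hvU
        exact hφ1 ((hmemU' v).1 this).2.2
      have hfin := Submodule.finrank_lt_finrank_of_lt hlt
      obtain ⟨I', hI', b', π', c', hb1, hb2, hb3, hb4⟩ :=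
        ih (finrank F U') (hm ▸ hfin) U' hU'inv rfl
      have hrange : Set.range ![v, T v] = {v, T v} := by
        simp [Matrix.range_cons, Matrix.range_empty, Set.pair_comm]
      refine ⟨Fin 2 ⊕ I', inferInstance, Sum.elim ![v, T v] b', Sum.map (fun e => e + 1) π',
        Sum.elim ![1, z] c', ?_, ?_, ?_, ?_⟩
      · refine LinearIndependent.sum_type ?_ hb1 ?_
        · rw [LinearIndependent.pair_iff' hv0]
          intro a ha
          exact hv (mem_span_singleton.2 ⟨a, ha⟩)
        · rw [hb2, hrange, Submodule.disjoint_def]
          intro x hx1 hx2
          obtain ⟨α, β, rfl⟩ := mem_span_pair.1 hx1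
          have h1 := ((hmemU' _).1 hx2).2.1
          have h2 := ((hmemU' _).1 hx2).2.2
          simp only [map_add, map_smul, hT, hφv, smul_eq_mul, mul_zero, zero_add, add_zero] at h1 h2
          have hβ : β = 0 := by
            rcases mul_eq_zero.1 h1 with h | h
            · exact h
            · exact absurd h hφ1
          have hα : α = 0 := by
            rcases mul_eq_zero.1 h2 with h | h
            · exact h
            · exact absurd h hφ1
          simp [hα, hβ]
      · rw [Set.Sum.elim_range, span_union, hb2, hrange]
        apply le_antisymm
        · refine sup_le ?_ hlt.le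
          rw [span_le]
          intro x hx
          rcases hx with rfl | rfl
          · exact hvU
          · exact hU _ hvU
        · intro u hu
          have hdec : u = ((φ (T u) / φ (T v)) • v + (φ u / φ (T v)) • T v) +
              (u - ((φ (T u) / φ (T v)) • v + (φ u / φ (T v)) • T v)) := by abel
          rw [hdec]
          refine Submodule.add_mem_sup (mem_span_pair.2 ⟨_, _, rfl⟩) ?_
          rw [hmemU']
          refine ⟨?_, ?_, ?_⟩
          · exact U.sub_mem hu (U.add_mem (U.smul_mem _ hvU) (U.smul_mem _ (hU _ hvU)))
          · simp only [map_sub, map_add, map_smul, hφv, smul_eq_mul, mul_zero, zero_add]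
            field_simp
            ring
          · simp only [map_sub, map_add, map_smul, hT, hφv, smul_eq_mul, mul_zero, add_zero]
            field_simp
            ring
      · rintro (e | i)
        · fin_cases e <;> simp
        · simp [hb3]
      · rintro (e | i)
        · fin_cases e <;> simp [hT]
        · simp [hb4]
    · have h : ∀ v ∈ U, T v ∈ span F {v} := by
        intro v hv
        by_contra hc
        exact h ⟨v, hv, hc⟩
      let B := Module.finBasis F U
      have hc : ∀ i, ∃ a : F, a • (B i : V) = T (B i : V) := fun i =>
        mem_span_singleton.1 (h _ (B i).2)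
      choose c hc using hc
      refine ⟨Fin (finrank F U), inferInstance, fun i => (B i : V), id, c, ?_, ?_, fun _ => rfl,
        fun i => (hc i).symm⟩
      · exact B.linearIndependent.map' U.subtype (ker_subtype U)
      · have : Set.range (fun i => (B i : V)) = U.subtype '' Set.range B := by
          rw [← Set.range_comp]; rfl
        rw [this, ← Submodule.map_span, B.span_eq, Submodule.map_subtype_top]

theorem exists_monomial_family (T : V →ₗ[F] V) (z : F) (hT : ∀ v, T (T v) = z • v) :
    ∃ (I : Type) (_ : Fintype I) (b : I → V) (π : I → I) (c : I → F),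
      LinearIndependent F b ∧ span F (Set.range b) = ⊤ ∧ (∀ i, π (π i) = i) ∧
        ∀ i, T (b i) = c i • b (π i) :=
  exists_monomial_family_aux T z hT _ ⊤ (fun _ _ => mem_top) rfl

end Monomial

section Decomp

open Module Submodule

variable {F V : Type*} [Field F] [AddCommGroup V] [Module F V]
variable {J : Type*} {t : ℕ}

/-- The span of the members of a family lying over one block. -/
def blockSpan (b : J → V) (γ : J → Fin t) (j : Fin t) : Submodule F V :=
  span F (b '' {i | γ i = j})

lemma mem_blockSpan (b : J → V) (γ : J → Fin t) (i : J) : b i ∈ blockSpan (F := F) b γ (γ i) :=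
  subset_span ⟨i, rfl, rfl⟩

lemma finrank_blockSpan [Fintype J] {b : J → V} (hb : LinearIndependent F b) (γ : J → Fin t) (j : Fin t) :
    finrank F (blockSpan (F := F) b γ j) = (Finset.univ.filter (fun i => γ i = j)).card := by
  classical
  have h1 : b '' {i | γ i = j} = Set.range (b ∘ (Subtype.val : {i // γ i = j} → J)) := by
    ext x
    simp
  rw [blockSpan, h1, finrank_span_eq_card (hb.comp _ Subtype.val_injective), Fintype.card_subtype]

lemma iSupIndep_blockSpan {b : J → V} (hb : LinearIndependent F b) (γ : J → Fin t) :
    iSupIndep (blockSpan (F := F) b γ) := by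
  intro j
  have h1 : (⨆ (k) (_ : k ≠ j), blockSpan (F := F) b γ k) ≤ span F (b '' {i | γ i ≠ j}) := by
    refine iSup₂_le fun k hk => span_mono (Set.image_mono ?_)
    intro i hi
    change γ i = k at hi
    change γ i ≠ j
    rw [hi]; exact hk
  refine Disjoint.mono_right h1 (hb.disjoint_span_image ?_)
  rw [Set.disjoint_left]
  intro i h1 h2
  exact h2 h1

lemma iSup_blockSpan {b : J → V} (hb : span F (Set.range b) = ⊤) (γ : J → Fin t) :
    iSup (blockSpan (F := F) b γ) = ⊤ := by
  rw [eq_top_iff, ← hb, span_le]
  rintro _ ⟨i, rfl⟩
  exact (le_iSup (blockSpan (F := F) b γ) (γ i)) (mem_blockSpan b γ i)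

lemma map_blockSpan [Fintype J] [FiniteDimensional F V] {b : J → V} (hb : LinearIndependent F b) (γ : J → Fin t)
    (a : ℕ) (hcard : ∀ j, (Finset.univ.filter (fun i => γ i = j)).card = a)
    (T : V →ₗ[F] V) (hT : Function.Injective T) (σ : Fin t → Fin t)
    (h : ∀ i, T (b i) ∈ blockSpan (F := F) b γ (σ (γ i))) (j : Fin t) :
    (blockSpan (F := F) b γ j).map T = blockSpan (F := F) b γ (σ j) := by
  apply Submodule.eq_of_le_of_finrank_eq
  · rw [Submodule.map_le_iff_le_comap, blockSpan, span_le]
    rintro _ ⟨i, hi, rfl⟩
    have := h i
    rw [hi] at this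
    exact this
  · rw [← (Submodule.equivMapOfInjective T hT _).finrank_eq, finrank_blockSpan hb,
      finrank_blockSpan hb, hcard, hcard]

end Decomp

end Cfsg.Agent.Lib.Helper99Blocks
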