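import Mathlib
import Cfsg.Agent.Lib.Helper99Blocks

set_option autoImplicit false

namespace Cfsg.Agent.Lib.Helper99Symp

open Module Submodule

variable {F V : Type*} [Field F] [AddCommGroup V] [Module F V]

section Basic

variable (B : LinearMap.BilinForm F V)

/-- `B` is non-degenerate on the subspace `U`. -/
def NondegOn (U : Submodule F V) : Prop := ∀ u ∈ U, u ≠ 0 → ∃ v ∈ U, B u v ≠ 0

/-- The part of `U` orthogonal to `e` and `f`. -/
def perpPair (U : Submodule F V) (e f : V) : Submodule F V :=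
  U ⊓ LinearMap.ker (B.flip e) ⊓ LinearMap.ker (B.flip f)

variable {B}

lemma mem_perpPair {U : Submodule F V} {e f u : V} :
    u ∈ perpPair B U e f ↔ u ∈ U ∧ B u e = 0 ∧ B u f = 0 := by
  simp [perpPair, and_assoc]

lemma skew (hB : ∀ v, B v v = 0) (u v : V) : B u v = - B v u := by
  have h := hB (u + v)
  simp only [map_add, LinearMap.add_apply, hB, zero_add, add_zero] at h
  exact eq_neg_of_add_eq_zero_right h

lemma eq_zero_of_mem_span_pair {u e f w : V} (hw : w ∈ span F {e, f}) (h1 : B u e = 0)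
    (h2 : B u f = 0) : B u w = 0 := by
  obtain ⟨α, β, rfl⟩ := mem_span_pair.1 hw
  simp [h1, h2]

lemma perpPair_le {U : Submodule F V} {e f : V} : perpPair B U e f ≤ U :=
  fun _ hu => (mem_perpPair.1 hu).1

lemma perpPair_decomp (hB : ∀ v, B v v = 0) {U : Submodule F V} {e f : V} (he : e ∈ U) (hf : f ∈ U)
    (hef : B e f ≠ 0) {u : V} (hu : u ∈ U) :
    u - ((B u f / B e f) • e + (- B u e / B e f) • f) ∈ perpPair B U e f := by
  rw [mem_perpPair]
  refine ⟨U.sub_mem hu (U.add_mem (U.smul_mem _ he) (U.smul_mem _ hf)), ?_, ?_⟩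
  · simp only [map_sub, map_add, map_smul, LinearMap.sub_apply, LinearMap.add_apply,
      LinearMap.smul_apply, hB, smul_eq_mul, mul_zero, zero_add]
    rw [skew hB f e]
    field_simp
    ring
  · simp only [map_sub, map_add, map_smul, LinearMap.sub_apply, LinearMap.add_apply,
      LinearMap.smul_apply, hB, smul_eq_mul, mul_zero, add_zero]
    field_simp
    ring

lemma perpPair_sup (hB : ∀ v, B v v = 0) {U : Submodule F V} {e f : V} (he : e ∈ U) (hf : f ∈ U)
    (hef : B e f ≠ 0) : span F {e, f} ⊔ perpPair B U e f = U := by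
  apply le_antisymm
  · refine sup_le ?_ perpPair_le
    rw [span_le]
    rintro x (rfl | rfl)
    · exact he
    · exact hf
  · intro u hu
    have hdec : u = ((B u f / B e f) • e + (- B u e / B e f) • f) +
        (u - ((B u f / B e f) • e + (- B u e / B e f) • f)) := by abel
    rw [hdec]
    exact Submodule.add_mem_sup (mem_span_pair.2 ⟨_, _, rfl⟩) (perpPair_decomp hB he hf hef hu)

lemma perpPair_nondeg (hB : ∀ v, B v v = 0) {U : Submodule F V} {e f : V} (he : e ∈ U) (hf : f ∈ U)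
    (hef : B e f ≠ 0) (hU : NondegOn B U) : NondegOn B (perpPair B U e f) := by
  intro u hu hu0
  obtain ⟨hu1, hu2, hu3⟩ := mem_perpPair.1 hu
  obtain ⟨v, hv, huv⟩ := hU u hu1 hu0
  refine ⟨_, perpPair_decomp hB he hf hef hv, ?_⟩
  simpa [hu2, hu3] using huv

lemma perpPair_lt {U : Submodule F V} {e f : V} (he : e ∈ U)
    (hef : B e f ≠ 0) : perpPair B U e f < U := by
  refine lt_of_le_of_ne perpPair_le ?_
  intro heq
  have : e ∈ perpPair B U e f := by rw [heq]; exact he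
  exact hef (mem_perpPair.1 this).2.2

end Basic

section Family

variable (B : LinearMap.BilinForm F V)

/-- A family of hyperbolic pairs `(g i false, g i true)`, pairwise orthogonal, spanning `U`. -/
def IsSympFamily (U : Submodule F V) {I : Type*} (g : I → Bool → V) : Prop :=
  span F (Set.range (fun x : I × Bool => g x.1 x.2)) = U ∧
    ∀ i s j s', B (g i s) (g j s') ≠ 0 ↔ (i = j ∧ s ≠ s')

variable {B}

lemma IsSympFamily.mem {U : Submodule F V} {I : Type*} {g : I → Bool → V}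
    (h : IsSympFamily B U g) (i : I) (s : Bool) : g i s ∈ U := by
  rw [← h.1]
  exact subset_span ⟨(i, s), rfl⟩

lemma IsSympFamily.cons (hB : ∀ v, B v v = 0) {U : Submodule F V} {e f : V} (he : e ∈ U)
    (hf : f ∈ U) (hef : B e f ≠ 0) {I : Type*} {g : I → Bool → V}
    (h : IsSympFamily B (perpPair B U e f) g) :
    IsSympFamily B U (Sum.elim (fun (_ : Unit) s => cond s f e) g) := by
  constructor
  · apply le_antisymm
    · rw [span_le]
      rintro _ ⟨⟨i | i, s⟩, rfl⟩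
      · cases s
        · exact he
        · exact hf
      · exact perpPair_le (h.mem i s)
    · rw [← perpPair_sup hB he hf hef]
      refine sup_le ?_ ?_
      · rw [span_le]
        rintro x (rfl | rfl)
        · exact subset_span ⟨(Sum.inl (), false), rfl⟩
        · exact subset_span ⟨(Sum.inl (), true), rfl⟩
      · rw [← h.1]
        apply span_mono
        rintro _ ⟨⟨i, s⟩, rfl⟩
        exact ⟨(Sum.inr i, s), rfl⟩
  · have hfe : B f e ≠ 0 := by rw [skew hB]; exact neg_ne_zero.2 hef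
    rintro (i | i) s (j | j) s'
    · cases s <;> cases s' <;> simp [hB, hef, hfe]
    · have h1 := (mem_perpPair.1 (h.mem j s')).2
      have h2 : B e (g j s') = 0 := by rw [skew hB, h1.1, neg_zero]
      have h3 : B f (g j s') = 0 := by rw [skew hB, h1.2, neg_zero]
      cases s <;> simp [h2, h3]
    · have h1 := (mem_perpPair.1 (h.mem i s)).2
      cases s' <;> simp [h1.1, h1.2]
    · simpa using h.2 i s j s'

lemma IsSympFamily.linearIndependent {U : Submodule F V} {I : Type*} {g : I → Bool → V}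
    (h : IsSympFamily B U g) : LinearIndependent F (fun x : I × Bool => g x.1 x.2) := by
  classical
  rw [linearIndependent_iff']
  intro s c hc x hx
  have h1 : B (∑ y ∈ s, c y • g y.1 y.2) (g x.1 (!x.2)) = 0 := by rw [hc]; simp
  rw [map_sum, LinearMap.sum_apply, Finset.sum_eq_single x] at h1
  · simp only [map_smul, LinearMap.smul_apply, smul_eq_mul] at h1
    rcases mul_eq_zero.1 h1 with h2 | h2
    · exact h2
    · exact absurd h2 ((h.2 _ _ _ _).2 ⟨rfl, by simp⟩)
  · intro y _ hy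
    have : B (g y.1 y.2) (g x.1 (!x.2)) = 0 := by
      by_contra hne
      obtain ⟨h3, h4⟩ := (h.2 _ _ _ _).1 hne
      apply hy
      ext
      · exact h3
      · cases hy2 : y.2 <;> cases hx2 : x.2 <;> simp_all
    simp [this]
  · intro hx'
    exact absurd hx hx'

end Family

section Peel

variable {B : LinearMap.BilinForm F V}
variable {X : V →ₗ[F] V} {z : F}

lemma B_X_left (hX : ∀ u v, B (X u) (X v) = B u v) (hz : z * z = 1)
    (hXX : ∀ v, X (X v) = z • v) (u w : V) : B (X u) w = z * B u (X w) := by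
  have h1 : X (z • X w) = w := by rw [map_smul, hXX, smul_smul, hz, one_smul]
  calc B (X u) w = B (X u) (X (z • X w)) := by rw [h1]
    _ = B u (z • X w) := hX _ _
    _ = z * B u (X w) := by simp

theorem exists_sympFamily_aux [FiniteDimensional F V] (hB : ∀ v, B v v = 0)
    (hX : ∀ u v, B (X u) (X v) = B u v) (hz : z * z = 1) (hXX : ∀ v, X (X v) = z • v)
    (P : V → V → V → V → Prop)
    (hP : ∀ e f e' f', P e f e' f' → X e ∈ span F {e', f'} ∧ X f ∈ span F {e', f'})
    (H : ∀ U : Submodule F V, U ≠ ⊥ → (∀ u ∈ U, X u ∈ U) → NondegOn B U →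
      (∃ e ∈ U, ∃ f ∈ U, B e f ≠ 0 ∧ P e f e f) ∨
      (∃ e₁ ∈ U, ∃ f₁ ∈ U, ∃ e₂ ∈ U, ∃ f₂ ∈ U, B e₁ f₁ ≠ 0 ∧ B e₂ f₂ ≠ 0 ∧ B e₂ e₁ = 0 ∧
        B e₂ f₁ = 0 ∧ B f₂ e₁ = 0 ∧ B f₂ f₁ = 0 ∧ P e₁ f₁ e₂ f₂ ∧ P e₂ f₂ e₁ f₁)) :
    ∀ m : ℕ, ∀ U : Submodule F V, (∀ u ∈ U, X u ∈ U) → NondegOn B U → finrank F U = m →
      ∃ (I : Type) (_ : Fintype I) (g : I → Bool → V) (π : I → I), IsSympFamily B U g ∧
        (∀ i, π (π i) = i) ∧ ∀ i, P (g i false) (g i true) (g (π i) false) (g (π i) true) := by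
  intro m
  induction m using Nat.strong_induction_on with
  | _ m ih =>
    intro U hU hnd hm
    by_cases hbot : U = ⊥
    · subst hbot
      refine ⟨Empty, inferInstance, fun i => i.elim, id, ⟨?_, fun i => i.elim⟩, fun i => i.elim,
        fun i => i.elim⟩
      rw [span_eq_bot]
      rintro _ ⟨⟨i, _⟩, _⟩
      exact i.elim
    · rcases H U hbot hU hnd with ⟨e, he, f, hf, hef, hPef⟩ |
        ⟨e₁, he₁, f₁, hf₁, e₂, he₂, f₂, hf₂, h11, h22, ha, hb, hc, hd, hP1, hP2⟩
      · have hinv : ∀ u ∈ perpPair B U e f, X u ∈ perpPair B U e f := by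
          intro u hu
          obtain ⟨h1, h2, h3⟩ := mem_perpPair.1 hu
          refine mem_perpPair.2 ⟨hU u h1, ?_, ?_⟩
          · rw [B_X_left hX hz hXX, eq_zero_of_mem_span_pair (hP _ _ _ _ hPef).1 h2 h3, mul_zero]
          · rw [B_X_left hX hz hXX, eq_zero_of_mem_span_pair (hP _ _ _ _ hPef).2 h2 h3, mul_zero]
        have hfin := Submodule.finrank_lt_finrank_of_lt (perpPair_lt (f := f) he hef)
        obtain ⟨I', hI', g', π', hg, hπ, hPg⟩ := ih _ (hm ▸ hfin) _ hinv
          (perpPair_nondeg hB he hf hef hnd) rfl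
        refine ⟨Unit ⊕ I', inferInstance, _, Sum.map id π', hg.cons hB he hf hef, ?_, ?_⟩
        · rintro (i | i)
          · rfl
          · simp [hπ]
        · rintro (i | i)
          · exact hPef
          · exact hPg i
      · have he₂' : e₂ ∈ perpPair B U e₁ f₁ := mem_perpPair.2 ⟨he₂, ha, hb⟩
        have hf₂' : f₂ ∈ perpPair B U e₁ f₁ := mem_perpPair.2 ⟨hf₂, hc, hd⟩
        have hinv : ∀ u ∈ perpPair B (perpPair B U e₁ f₁) e₂ f₂,
            X u ∈ perpPair B (perpPair B U e₁ f₁) e₂ f₂ := by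
          intro u hu
          obtain ⟨h0, h4, h5⟩ := mem_perpPair.1 hu
          obtain ⟨h1, h2, h3⟩ := mem_perpPair.1 h0
          refine mem_perpPair.2 ⟨mem_perpPair.2 ⟨hU u h1, ?_, ?_⟩, ?_, ?_⟩
          · rw [B_X_left hX hz hXX, eq_zero_of_mem_span_pair (hP _ _ _ _ hP1).1 h4 h5, mul_zero]
          · rw [B_X_left hX hz hXX, eq_zero_of_mem_span_pair (hP _ _ _ _ hP1).2 h4 h5, mul_zero]
          · rw [B_X_left hX hz hXX, eq_zero_of_mem_span_pair (hP _ _ _ _ hP2).1 h2 h3, mul_zero]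
          · rw [B_X_left hX hz hXX, eq_zero_of_mem_span_pair (hP _ _ _ _ hP2).2 h2 h3, mul_zero]
        have hfin := Submodule.finrank_lt_finrank_of_lt
          ((perpPair_lt (f := f₂) he₂' h22).trans (perpPair_lt (f := f₁) he₁ h11))
        obtain ⟨I', hI', g', π', hg, hπ, hPg⟩ := ih _ (hm ▸ hfin) _ hinv
          (perpPair_nondeg hB he₂' hf₂' h22 (perpPair_nondeg hB he₁ hf₁ h11 hnd)) rfl
        refine ⟨Unit ⊕ (Unit ⊕ I'), inferInstance, _,
          fun x => match x with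
            | .inl _ => .inr (.inl ())
            | .inr (.inl _) => .inl ()
            | .inr (.inr i) => .inr (.inr (π' i)),
          (hg.cons hB he₂' hf₂' h22).cons hB he₁ hf₁ h11, ?_, ?_⟩
        · rintro (i | i | i)
          · rfl
          · rfl
          · simp [hπ]
        · rintro (i | i | i)
          · exact hP1
          · exact hP2
          · exact hPg i

theorem exists_sympFamily [FiniteDimensional F V] (hB : ∀ v, B v v = 0)
    (hnd : ∀ u, u ≠ 0 → ∃ v, B u v ≠ 0)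
    (hX : ∀ u v, B (X u) (X v) = B u v) (hz : z * z = 1) (hXX : ∀ v, X (X v) = z • v)
    (P : V → V → V → V → Prop)
    (hP : ∀ e f e' f', P e f e' f' → X e ∈ span F {e', f'} ∧ X f ∈ span F {e', f'})
    (H : ∀ U : Submodule F V, U ≠ ⊥ → (∀ u ∈ U, X u ∈ U) → NondegOn B U →
      (∃ e ∈ U, ∃ f ∈ U, B e f ≠ 0 ∧ P e f e f) ∨
      (∃ e₁ ∈ U, ∃ f₁ ∈ U, ∃ e₂ ∈ U, ∃ f₂ ∈ U, B e₁ f₁ ≠ 0 ∧ B e₂ f₂ ≠ 0 ∧ B e₂ e₁ = 0 ∧
        B e₂ f₁ = 0 ∧ B f₂ e₁ = 0 ∧ B f₂ f₁ = 0 ∧ P e₁ f₁ e₂ f₂ ∧ P e₂ f₂ e₁ f₁)) :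
    ∃ (I : Type) (_ : Fintype I) (g : I → Bool → V) (π : I → I), IsSympFamily B ⊤ g ∧
      (∀ i, π (π i) = i) ∧ ∀ i, P (g i false) (g i true) (g (π i) false) (g (π i) true) :=
  exists_sympFamily_aux hB hX hz hXX P hP H _ ⊤ (fun _ _ => mem_top)
    (fun u _ hu => by obtain ⟨v, hv⟩ := hnd u hu; exact ⟨v, mem_top, hv⟩) rfl

end Peel

section Cases

variable {B : LinearMap.BilinForm F V}
variable {X : V →ₗ[F] V} {z : F}

lemma H_planes (hB : ∀ v, B v v = 0)
    (hX : ∀ u v, B (X u) (X v) = B u v) (hz : z * z = 1) (hXX : ∀ v, X (X v) = z • v)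
    (U : Submodule F V) (hbot : U ≠ ⊥) (hU : ∀ u ∈ U, X u ∈ U) (hnd : NondegOn B U) :
    (∃ e ∈ U, ∃ f ∈ U, B e f ≠ 0 ∧ (X e ∈ span F {e, f} ∧ X f ∈ span F {e, f})) ∨
    (∃ e₁ ∈ U, ∃ f₁ ∈ U, ∃ e₂ ∈ U, ∃ f₂ ∈ U, B e₁ f₁ ≠ 0 ∧ B e₂ f₂ ≠ 0 ∧ B e₂ e₁ = 0 ∧
      B e₂ f₁ = 0 ∧ B f₂ e₁ = 0 ∧ B f₂ f₁ = 0 ∧
      (X e₁ ∈ span F {e₂, f₂} ∧ X f₁ ∈ span F {e₂, f₂}) ∧
      (X e₂ ∈ span F {e₁, f₁} ∧ X f₂ ∈ span F {e₁, f₁})) := by
  by_cases h1 : ∃ v ∈ U, B v (X v) ≠ 0
  · obtain ⟨v, hv, hne⟩ := h1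
    left
    refine ⟨v, hv, X v, hU v hv, hne, mem_span_pair.2 ⟨0, 1, by simp⟩, ?_⟩
    rw [hXX]
    exact mem_span_pair.2 ⟨z, 0, by simp⟩
  · have h1 : ∀ v ∈ U, B v (X v) = 0 := by
      intro v hv
      by_contra hc
      exact h1 ⟨v, hv, hc⟩
    by_cases h2 : ∃ v ∈ U, X v ∉ span F {v}
    · obtain ⟨v, hv, hnot⟩ := h2
      have hv0 : v ≠ 0 := by
        rintro rfl
        apply hnot
        simp
      obtain ⟨w1, hw1, hne1⟩ := hnd v hv hv0
      have hy0 : B (X v) w1 • v - B v w1 • X v ≠ 0 := by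
        intro h
        apply hnot
        refine mem_span_singleton.2 ⟨B (X v) w1 / B v w1, ?_⟩
        have h3 : B v w1 • X v = B (X v) w1 • v := (sub_eq_zero.1 h).symm
        rw [div_eq_inv_mul, mul_smul, ← h3, smul_smul, inv_mul_cancel₀ hne1, one_smul]
      have hyU : B (X v) w1 • v - B v w1 • X v ∈ U :=
        U.sub_mem (U.smul_mem _ hv) (U.smul_mem _ (hU v hv))
      obtain ⟨w2, hw2, hne2⟩ := hnd _ hyU hy0
      have hw : B (X v) w2 • w1 - B (X v) w1 • w2 ∈ U :=
        U.sub_mem (U.smul_mem _ hw1) (U.smul_mem _ hw2)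
      set w := B (X v) w2 • w1 - B (X v) w1 • w2 with hwdef
      have hvw : B v w ≠ 0 := by
        intro h
        apply hne2
        simp only [hwdef, map_sub, map_smul, smul_eq_mul, LinearMap.sub_apply,
          LinearMap.smul_apply] at h ⊢
        linear_combination -h
      have hXvw : B (X v) w = 0 := by
        simp only [hwdef, map_sub, map_smul, smul_eq_mul]
        ring
      right
      refine ⟨v, hv, w, hw, X v, hU v hv, X w, hU w hw, hvw, by rw [hX]; exact hvw, ?_, hXvw, ?_, ?_,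
        ⟨mem_span_pair.2 ⟨1, 0, by simp⟩, mem_span_pair.2 ⟨0, 1, by simp⟩⟩,
        ⟨by rw [hXX]; exact mem_span_pair.2 ⟨z, 0, by simp⟩,
          by rw [hXX]; exact mem_span_pair.2 ⟨0, z, by simp⟩⟩⟩
      · rw [skew hB, h1 v hv, neg_zero]
      · rw [B_X_left hX hz hXX, skew hB, hXvw, neg_zero, mul_zero]
      · rw [skew hB, h1 w hw, neg_zero]
    · have h2 : ∀ v ∈ U, X v ∈ span F {v} := by
        intro v hv
        by_contra hc
        exact h2 ⟨v, hv, hc⟩
      obtain ⟨v, hv, hv0⟩ := Submodule.exists_mem_ne_zero_of_ne_bot hbot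
      obtain ⟨w, hw, hne⟩ := hnd v hv hv0
      left
      refine ⟨v, hv, w, hw, hne, span_mono (by simp) (h2 v hv), span_mono (by simp) (h2 w hw)⟩

lemma H_fixed (h2 : (2 : F) ≠ 0)
    (hX : ∀ u v, B (X u) (X v) = B u v) (hXX : ∀ v, X (X v) = (1 : F) • v)
    (U : Submodule F V) (hbot : U ≠ ⊥) (hU : ∀ u ∈ U, X u ∈ U) (hnd : NondegOn B U) :
    ∃ e ∈ U, ∃ f ∈ U, B e f ≠ 0 ∧ (X e ∈ span F {e} ∧ X f ∈ span F {f}) := by
  simp only [one_smul] at hXX
  obtain ⟨u, hu, hu0⟩ := Submodule.exists_mem_ne_zero_of_ne_bot hbot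
  obtain ⟨e, he, he0, ε, hε, hXe⟩ : ∃ e ∈ U, e ≠ 0 ∧ ∃ ε : F, ε * ε = 1 ∧ X e = ε • e := by
    by_cases h : u + X u = 0
    · refine ⟨u - X u, U.sub_mem hu (hU u hu), ?_, -1, by ring, ?_⟩
      · intro h'
        apply hu0
        have h3 : (2 : F) • u = 0 := by
          rw [two_smul]
          calc u + u = (u + X u) + (u - X u) := by abel
            _ = 0 := by rw [h, h', add_zero]
        exact (smul_eq_zero.1 h3).resolve_left h2
      · rw [map_sub, hXX]
        simp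
    · exact ⟨u + X u, U.add_mem hu (hU u hu), h, 1, by ring, by rw [map_add, hXX]; simp [add_comm]⟩
  obtain ⟨w, hw, hne⟩ := hnd e he he0
  refine ⟨e, he, w + ε • X w, U.add_mem hw (U.smul_mem _ (hU w hw)), ?_,
    mem_span_singleton.2 ⟨ε, hXe.symm⟩, mem_span_singleton.2 ⟨ε, ?_⟩⟩
  · have h3 : B e (X w) = ε * B e w := by
      have h4 := hX e (X w)
      rw [hXX, hXe] at h4
      simp only [map_smul, LinearMap.smul_apply, smul_eq_mul] at h4
      exact h4.symm
    simp only [map_add, map_smul, smul_eq_mul, h3]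
    have : B e w + ε * (ε * B e w) = 2 * B e w := by
      rw [← mul_assoc, hε]; ring
    rw [this]
    exact mul_ne_zero h2 hne
  · rw [map_add, map_smul, hXX, smul_add, smul_smul, hε, one_smul, add_comm]

lemma H_swap (hB : ∀ v, B v v = 0) (h2 : (2 : F) ≠ 0)
    (hX : ∀ u v, B (X u) (X v) = B u v) (hXX : ∀ v, X (X v) = (-1 : F) • v)
    (U : Submodule F V) (hbot : U ≠ ⊥) (hU : ∀ u ∈ U, X u ∈ U) (hnd : NondegOn B U) :
    ∃ e ∈ U, ∃ f ∈ U, B e f ≠ 0 ∧ (X e ∈ span F {f} ∧ X f ∈ span F {e}) := by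
  by_cases h1 : ∃ v ∈ U, B v (X v) ≠ 0
  · obtain ⟨v, hv, hne⟩ := h1
    refine ⟨v, hv, X v, hU v hv, hne, mem_span_singleton_self _, ?_⟩
    rw [hXX]
    exact mem_span_singleton.2 ⟨-1, rfl⟩
  · exfalso
    have h1 : ∀ v ∈ U, B v (X v) = 0 := by
      intro v hv
      by_contra hc
      exact h1 ⟨v, hv, hc⟩
    have hpol : ∀ v ∈ U, ∀ w ∈ U, B v (X w) + B w (X v) = 0 := by
      intro v hv w hw
      have h := h1 (v + w) (U.add_mem hv hw)
      simp only [map_add, LinearMap.add_apply, h1 v hv, h1 w hw, zero_add, add_zero] at h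
      rw [add_comm]
      exact h
    have hzero : ∀ v ∈ U, ∀ w ∈ U, B v (X w) = 0 := by
      intro v hv w hw
      have h3 : B w (X v) = B v (X w) := by
        rw [skew hB, B_X_left hX (by ring : (-1 : F) * -1 = 1) hXX]
        ring
      have h4 := hpol v hv w hw
      rw [h3, ← two_mul] at h4
      exact (mul_eq_zero.1 h4).resolve_left h2
    obtain ⟨v, hv, hv0⟩ := Submodule.exists_mem_ne_zero_of_ne_bot hbot
    obtain ⟨w, hw, hne⟩ := hnd v hv hv0
    have h5 := hzero v hv (X w) (hU w hw)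
    rw [hXX] at h5
    simp only [map_smul, smul_eq_mul, neg_mul, one_mul, neg_eq_zero] at h5
    exact hne h5

end Cases

section Abstract

open Cfsg.Agent.Lib.Helper99Blocks

variable {B : LinearMap.BilinForm F V}
variable {X : V →ₗ[F] V} {z : F}

lemma zero_on_spans {S T : Set V} (h : ∀ a ∈ S, ∀ b ∈ T, B a b = 0) :
    ∀ u ∈ span F S, ∀ v ∈ span F T, B u v = 0 := by
  intro u hu v hv
  have h1 : span F S ≤ LinearMap.ker (B.flip v) := by
    rw [span_le]
    intro a ha
    have h2 : span F T ≤ LinearMap.ker (B a) := by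
      rw [span_le]
      intro b hb
      exact h a ha b hb
    exact h2 hv
  exact h1 hu

lemma injective_of_sq (hz : z * z = 1) (hXX : ∀ v, X (X v) = z • v) : Function.Injective X := by
  intro u v h
  have h1 : z • X (X u) = z • X (X v) := by rw [h]
  rwa [hXX, hXX, smul_smul, smul_smul, hz, one_smul, one_smul] at h1

theorem polar_pair_of_family [FiniteDimensional F V] {I : Type} [Fintype I] {g : I → Bool → V}
    (hg : IsSympFamily B ⊤ g) (hinj : Function.Injective X) (τ : Bool → Bool)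
    (π : I → I) (h : ∀ i s, X (g i s) ∈ span F {g (π i) (τ s)}) :
    ∃ U : Bool → Submodule F V, IsCompl (U false) (U true) ∧
      (∀ s, ∀ u ∈ U s, ∀ v ∈ U s, B u v = 0) ∧ ∀ s, (U s).map X = U (τ s) := by
  classical
  have hli := hg.linearIndependent
  have hlis : ∀ s, LinearIndependent F (fun i => g i s) := fun s =>
    hli.comp (fun i => (i, s)) (fun i j hij => (Prod.ext_iff.1 hij).1)
  refine ⟨fun s => span F (Set.range (fun i => g i s)), ⟨?_, ?_⟩, ?_, ?_⟩
  · have h1 : ∀ s, Set.range (fun i => g i s) =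
        (fun x : I × Bool => g x.1 x.2) '' {x | x.2 = s} := by
      intro s
      ext v
      constructor
      · rintro ⟨i, rfl⟩
        exact ⟨(i, s), rfl, rfl⟩
      · rintro ⟨⟨i, s'⟩, hs, rfl⟩
        have hs : s' = s := hs
        subst hs
        exact ⟨i, rfl⟩
    simp only [h1]
    apply hli.disjoint_span_image
    rw [Set.disjoint_left]
    intro x hx1 hx2
    have hx1 : x.2 = false := hx1
    have hx2 : x.2 = true := hx2
    rw [hx1] at hx2
    exact Bool.noConfusion hx2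
  · rw [codisjoint_iff, eq_top_iff, ← hg.1, span_le]
    rintro _ ⟨⟨i, s⟩, rfl⟩
    cases s
    · exact Submodule.mem_sup_left (subset_span ⟨i, rfl⟩)
    · exact Submodule.mem_sup_right (subset_span ⟨i, rfl⟩)
  · intro s
    apply zero_on_spans
    rintro _ ⟨i, rfl⟩ _ ⟨j, rfl⟩
    by_contra hne
    exact ((hg.2 _ _ _ _).1 hne).2 rfl
  · intro s
    apply Submodule.eq_of_le_of_finrank_eq
    · rw [Submodule.map_le_iff_le_comap, span_le]
      rintro _ ⟨i, rfl⟩
      have h2 : span F {g (π i) (τ s)} ≤ span F (Set.range (fun i => g i (τ s))) := by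
        apply span_mono
        rintro _ rfl
        exact ⟨π i, rfl⟩
      exact h2 (h i s)
    · rw [← (Submodule.equivMapOfInjective X hinj _).finrank_eq, finrank_span_eq_card (hlis s),
        finrank_span_eq_card (hlis (τ s))]

theorem polar_pair [FiniteDimensional F V] (hB : ∀ v, B v v = 0)
    (hnd : ∀ u, u ≠ 0 → ∃ v, B u v ≠ 0) (h2 : (2 : F) ≠ 0)
    (hX : ∀ u v, B (X u) (X v) = B u v) (hz : z * z = 1) (hXX : ∀ v, X (X v) = z • v) :
    ∃ U W : Submodule F V, IsCompl U W ∧ (∀ u ∈ U, ∀ v ∈ U, B u v = 0) ∧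
      (∀ u ∈ W, ∀ v ∈ W, B u v = 0) ∧
      ((U.map X = U ∧ W.map X = W) ∨ (U.map X = W ∧ W.map X = U)) := by
  have hinj := injective_of_sq hz hXX
  rcases mul_self_eq_one_iff.1 hz with rfl | rfl
  · obtain ⟨I, hI, g, π, hg, -, hP⟩ := exists_sympFamily hB hnd hX hz hXX
      (fun e f e' f' => X e ∈ span F {e'} ∧ X f ∈ span F {f'})
      (fun e f e' f' h => ⟨span_mono (by simp) h.1, span_mono (by simp) h.2⟩)
      (fun U h1 h3 h4 => Or.inl (H_fixed h2 hX hXX U h1 h3 h4))
    obtain ⟨U, h1, h3, h4⟩ := polar_pair_of_family hg hinj id π (by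
      intro i s
      cases s
      · exact (hP i).1
      · exact (hP i).2)
    exact ⟨U false, U true, h1, h3 false, h3 true, Or.inl ⟨h4 false, h4 true⟩⟩
  · obtain ⟨I, hI, g, π, hg, -, hP⟩ := exists_sympFamily hB hnd hX hz hXX
      (fun e f e' f' => X e ∈ span F {f'} ∧ X f ∈ span F {e'})
      (fun e f e' f' h => ⟨span_mono (by simp) h.1, span_mono (by simp) h.2⟩)
      (fun U h1 h3 h4 => Or.inl (H_swap hB h2 hX hXX U h1 h3 h4))
    obtain ⟨U, h1, h3, h4⟩ := polar_pair_of_family hg hinj not π (by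
      intro i s
      cases s
      · exact (hP i).1
      · exact (hP i).2)
    exact ⟨U false, U true, h1, h3 false, h3 true, Or.inr ⟨h4 false, h4 true⟩⟩

theorem orth_decomp [FiniteDimensional F V] (hB : ∀ v, B v v = 0)
    (hnd : ∀ u, u ≠ 0 → ∃ v, B u v ≠ 0)
    (hX : ∀ u v, B (X u) (X v) = B u v) (hz : z * z = 1) (hXX : ∀ v, X (X v) = z • v)
    (a' t : ℕ) (ha' : 1 ≤ a') (hdim : finrank F V = 2 * a' * t) :
    ∃ D : Fin t → Submodule F V, (∀ j, finrank F (D j) = 2 * a') ∧ iSupIndep D ∧ iSup D = ⊤ ∧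
      (∀ j, ∀ u ∈ D j, u ≠ 0 → ∃ v ∈ D j, B u v ≠ 0) ∧
      (∀ j j', j ≠ j' → ∀ u ∈ D j, ∀ v ∈ D j', B u v = 0) ∧
      ∃ σ : Equiv.Perm (Fin t), ∀ j, (D j).map X = D (σ j) := by
  classical
  have hinj := injective_of_sq hz hXX
  obtain ⟨I, hI, g, π, hg, hπ, hP⟩ := exists_sympFamily hB hnd hX hz hXX
    (fun e f e' f' => X e ∈ span F {e', f'} ∧ X f ∈ span F {e', f'})
    (fun e f e' f' h => h) (H_planes hB hX hz hXX)
  have hli := hg.linearIndependent
  have hcard : Fintype.card I = a' * t := by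
    have h1 := finrank_span_eq_card hli
    rw [hg.1, finrank_top, hdim, Fintype.card_prod, Fintype.card_bool] at h1
    have h2 : 2 * (a' * t) = 2 * Fintype.card I := by rw [← mul_assoc, h1, mul_comm]
    omega
  obtain ⟨β, σ, h1, h2⟩ := exists_blocks π hπ a' t ha' hcard
  set G : I × Bool → V := fun x => g x.1 x.2 with hG
  set γ : I × Bool → Fin t := fun x => β x.1 with hγ
  have hfib : ∀ j, (Finset.univ.filter (fun x => γ x = j)).card = 2 * a' := by
    intro j
    have h3 : Finset.univ.filter (fun x : I × Bool => γ x = j) =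
        (Finset.univ.filter (fun i => β i = j)) ×ˢ (Finset.univ : Finset Bool) := by
      ext x
      simp [hγ]
    rw [h3, Finset.card_product, h1, Finset.card_univ, Fintype.card_bool, mul_comm]
  have horth : ∀ j j', j ≠ j' → ∀ u ∈ blockSpan (F := F) G γ j, ∀ v ∈ blockSpan (F := F) G γ j',
      B u v = 0 := by
    intro j j' hjj'
    apply zero_on_spans
    rintro _ ⟨x, hx, rfl⟩ _ ⟨y, hy, rfl⟩
    by_contra hne
    have h3 := ((hg.2 _ _ _ _).1 hne).1
    apply hjj'
    have hx : β x.1 = j := hx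
    have hy : β y.1 = j' := hy
    rw [← hx, ← hy, h3]
  refine ⟨blockSpan G γ, fun j => by rw [finrank_blockSpan hli, hfib], iSupIndep_blockSpan hli γ,
    iSup_blockSpan hg.1 γ, ?_, horth, σ, fun j => map_blockSpan hli γ _ hfib X hinj σ ?_ j⟩
  · intro j u hu hu0
    by_contra hcon
    have hcon : ∀ v ∈ blockSpan (F := F) G γ j, B u v = 0 := by
      intro v hv
      by_contra hc
      exact hcon ⟨v, hv, hc⟩
    obtain ⟨v, hv⟩ := hnd u hu0
    apply hv
    have h3 : (⊤ : Submodule F V) ≤ LinearMap.ker (B u) := by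
      rw [← hg.1, span_le]
      rintro _ ⟨x, rfl⟩
      by_cases hx : γ x = j
      · exact hcon _ (hx ▸ mem_blockSpan G γ x)
      · exact horth j (γ x) (Ne.symm hx) u hu _ (mem_blockSpan G γ x)
    exact h3 mem_top
  · intro x
    have h3 : span F {g (π x.1) false, g (π x.1) true} ≤ blockSpan (F := F) G γ (σ (γ x)) := by
      rw [span_le]
      have h4 : σ (γ x) = β (π x.1) := (h2 x.1).symm
      rw [h4]
      rintro _ (rfl | rfl)
      · exact mem_blockSpan G γ (π x.1, false)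
      · exact mem_blockSpan G γ (π x.1, true)
    obtain ⟨i, s⟩ := x
    cases s
    · exact h3 (hP i).1
    · exact h3 (hP i).2

end Abstract

end Cfsg.Agent.Lib.Helper99Symp
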