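import Mathlib

set_option autoImplicit false

/-! Transversal chains: elementary certificates for orders and simplicity of subgroups given by
generators inside a finite group. -/

namespace Cfsg.Agent.Lib.Helper9ChainT

variable {G : Type*} [Group G]

/-- If `H * T` is closed under right multiplication by `S`, it contains the subgroup generated
by `S`. -/
theorem mem_cover [Finite G] (S T : Set G) (H : Subgroup G) (h1 : (1 : G) ∈ T)
    (hcl : ∀ t ∈ T, ∀ s ∈ S, ∃ h ∈ H, ∃ t' ∈ T, t * s = h * t') :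
    ∀ g ∈ Subgroup.closure S, ∃ h ∈ H, ∃ t ∈ T, g = h * t := by
  intro g hg
  have hg' : g ∈ Submonoid.closure S := by
    rw [← Subgroup.closure_toSubmonoid_of_finite]; exact hg
  induction hg' using Submonoid.closure_induction_right with
  | one => exact ⟨1, H.one_mem, 1, h1, by simp⟩
  | mul_right x hx y hy ih =>
    have hxm : x ∈ Subgroup.closure S := by
      have : x ∈ (Subgroup.closure S).toSubmonoid := by
        rw [Subgroup.closure_toSubmonoid_of_finite]; exact hx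
      exact this
    obtain ⟨h, hh, t, ht, rfl⟩ := ih hxm
    obtain ⟨h', hh', t', ht', he⟩ := hcl t ht y hy
    exact ⟨h * h', H.mul_mem hh hh', t', ht', by rw [mul_assoc, he, mul_assoc]⟩

theorem card_le_of_cover [Finite G] (K H : Subgroup G) (T : List G)
    (hc : ∀ g ∈ K, ∃ h ∈ H, ∃ t ∈ T, g = h * t) :
    Nat.card K ≤ Nat.card H * T.length := by
  classical
  have hsurj : ∀ g : K, ∃ p : H × Fin T.length, (g : G) = (p.1 : G) * T.get p.2 := by
    intro g
    obtain ⟨h, hh, t, ht, he⟩ := hc g g.2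
    obtain ⟨i, hi⟩ := List.get_of_mem ht
    exact ⟨(⟨h, hh⟩, i), by rw [he, hi]⟩
  choose f hf using hsurj
  have hinj : Function.Injective f := by
    intro a b hab
    apply Subtype.ext
    rw [hf a, hf b, hab]
  have := Nat.card_le_card_of_injective f hinj
  rwa [Nat.card_prod, Nat.card_eq_fintype_card (α := Fin T.length), Fintype.card_fin] at this

/-- Simplicity criterion: for every prime there is a Sylow subgroup all of whose nonidentity
elements have the whole group as normal closure. -/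
theorem simple_of_witness {K : Type*} [Group K] [Finite K] [Nontrivial K]
    (h : ∀ r : ℕ, r.Prime → r ∣ Nat.card K → ∃ (S : Subgroup K) (a : ℕ), Nat.card S = r ^ a ∧
      ¬ r ^ (a + 1) ∣ Nat.card K ∧
      ∀ z ∈ S, z ≠ 1 → ∀ N : Subgroup K, N.Normal → z ∈ N → N = ⊤) : IsSimpleGroup K := by
  refine ⟨fun N hN => ?_⟩
  by_cases hb : N = ⊥
  · exact Or.inl hb
  right
  have hcard : Nat.card N ≠ 1 := by
    intro h1
    exact hb (Subgroup.card_eq_one.mp h1)
  obtain ⟨r, hr, hrN⟩ := Nat.exists_prime_and_dvd hcard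
  have : Fact r.Prime := ⟨hr⟩
  obtain ⟨S, a, hS, hna, hw⟩ := h r hr (hrN.trans (Subgroup.card_subgroup_dvd_card N))
  obtain ⟨g, hg⟩ := exists_prime_orderOf_dvd_card' (G := N) r hrN
  -- `S` is contained in a Sylow subgroup `Q`, equal to it by cardinality
  have hSp : IsPGroup r S := IsPGroup.of_card hS
  obtain ⟨Q, hQ⟩ := hSp.exists_le_sylow
  have hQS : (Q : Subgroup K) = S := by
    obtain ⟨b, hb'⟩ := IsPGroup.iff_card.mp Q.2
    have hdvd : r ^ b ∣ Nat.card K := hb' ▸ Subgroup.card_subgroup_dvd_card (Q : Subgroup K)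
    have hba : b ≤ a := by
      by_contra hlt
      exact hna ((pow_dvd_pow r (by omega)).trans hdvd)
    symm
    apply Subgroup.eq_of_le_of_card_ge hQ
    rw [hb', hS]
    exact Nat.pow_le_pow_right hr.pos hba
  -- the element `g` lies in some Sylow subgroup
  have hgp : IsPGroup r (Subgroup.zpowers (g : K)) := by
    apply IsPGroup.of_card (n := 1)
    rw [Nat.card_zpowers, pow_one, Subgroup.orderOf_coe, hg]
  obtain ⟨Q', hQ'⟩ := hgp.exists_le_sylow
  obtain ⟨k, hk⟩ := MulAction.exists_smul_eq K Q' Q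
  have hgQ' : (g : K) ∈ (Q' : Subgroup K) := hQ' (Subgroup.mem_zpowers _)
  have hz : k * (g : K) * k⁻¹ ∈ S := by
    rw [← hQS, ← hk, Sylow.coe_subgroup_smul]
    exact ⟨(g : K), hgQ', by simp [MulAut.conj_apply]⟩
  apply hw _ hz _ N hN (hN.conj_mem _ g.2 k)
  intro h1
  have : (g : K) = 1 := by
    have := congrArg (fun x => k⁻¹ * x * k) h1
    simpa [mul_assoc] using this
  have hg1 : g = 1 := Subtype.ext this
  rw [hg1, orderOf_one] at hg
  exact hr.one_lt.ne hg

/-- in a cyclic group of prime order every nonidentity element generates -/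
theorem mem_of_mem_zpowers_prime {K : Type*} [Group K] {g z : K} {r : ℕ} (hr : r.Prime)
    (hg : g ^ r = 1) (hz : z ∈ Subgroup.zpowers g) (hz1 : z ≠ 1) (N : Subgroup K) (hzN : z ∈ N) :
    g ∈ N := by
  obtain ⟨k, rfl⟩ := Subgroup.mem_zpowers_iff.mp hz
  have hcop : IsCoprime k (r : ℤ) := by
    rw [isCoprime_comm, Prime.coprime_iff_not_dvd (Nat.prime_iff_prime_int.mp hr)]
    rintro ⟨m, rfl⟩
    apply hz1
    rw [zpow_mul, zpow_natCast, hg, one_zpow]
  obtain ⟨u, v, huv⟩ := hcop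
  have : g = (g ^ k) ^ u := by
    have h1 : g ^ (u * k + v * r) = g := by rw [huv, zpow_one]
    have h2 : g ^ (v * (r : ℤ)) = 1 := by
      rw [mul_comm, zpow_mul, zpow_natCast, hg, one_zpow]
    rw [zpow_add, h2, mul_one, mul_comm u k, zpow_mul] at h1
    exact h1.symm
  rw [this]
  exact N.zpow_mem hzN u

theorem card_ge_of_nodup [Finite G] (E : Subgroup G) (l : List G) (hn : l.Nodup)
    (hm : ∀ g ∈ l, g ∈ E) : l.length ≤ Nat.card E := by
  classical
  have h1 : l.toFinset.card = l.length := List.toFinset_card_of_nodup hn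
  rw [← h1, ← SetLike.coe_sort_coe, Nat.card_coe_set_eq, ← Set.ncard_coe_finset]
  apply Set.ncard_le_ncard _ (Set.toFinite _)
  intro g hg
  exact hm g (by simpa using hg)

/-- `N` is normalised by `K` -/
def NormBy (K N : Subgroup G) : Prop := ∀ n ∈ N, ∀ k ∈ K, k * n * k⁻¹ ∈ N

/-- subgroup version of `simple_of_witness` -/
theorem simple_of_witness' [Finite G] (K : Subgroup G) (hK : K ≠ ⊥)
    (h : ∀ r : ℕ, r.Prime → r ∣ Nat.card K → ∃ (S : Subgroup G) (a : ℕ), S ≤ K ∧
      Nat.card S = r ^ a ∧ ¬ r ^ (a + 1) ∣ Nat.card K ∧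
      ∀ z ∈ S, z ≠ 1 → ∀ N : Subgroup G, N ≤ K → NormBy K N → z ∈ N → K ≤ N) :
    IsSimpleGroup K := by
  have : Nontrivial K := (Subgroup.nontrivial_iff_ne_bot K).mpr hK
  apply simple_of_witness
  intro r hr hrK
  obtain ⟨S, a, hSK, hS, hna, hw⟩ := h r hr hrK
  refine ⟨S.subgroupOf K, a, ?_, hna, ?_⟩
  · rw [Nat.card_congr (Subgroup.subgroupOfEquivOfLe hSK).toEquiv, hS]
  · intro z hz hz1 N hN hzN
    have h1 := hw (z : G) (Subgroup.mem_subgroupOf.mp hz) (fun h => hz1 (Subtype.ext h))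
      (N.map K.subtype) (by
        rintro _ ⟨n, _, rfl⟩
        exact n.2) (by
        rintro _ ⟨n, hn, rfl⟩ k hk
        exact ⟨⟨k, hk⟩ * n * ⟨k, hk⟩⁻¹, hN.conj_mem n hn ⟨k, hk⟩, rfl⟩)
      ⟨z, hzN, rfl⟩
    rw [eq_top_iff]
    intro k _
    obtain ⟨n, hn, hnk⟩ := h1 k.2
    have : n = k := Subtype.ext hnk
    rwa [← this]

theorem mul_pow_mem {K N : Subgroup G} (hN : NormBy K N) {x y : G} (hx : x ∈ N) (hy : y ∈ K) :
    ∀ n : ℕ, (x * y) ^ n * (y ^ n)⁻¹ ∈ N
  | 0 => by simp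
  | n + 1 => by
    have ih := mul_pow_mem hN hx hy n
    have h2 := hN x hx (y ^ n) (K.pow_mem hy n)
    have h3 := N.mul_mem ih h2
    have : (x * y) ^ (n + 1) * (y ^ (n + 1))⁻¹ =
        (x * y) ^ n * (y ^ n)⁻¹ * (y ^ n * x * (y ^ n)⁻¹) := by
      rw [pow_succ, pow_succ]
      group
    rw [this]
    exact h3

/-- if `x ∈ N`, `(xy)^m = 1` and `y^(mu) = y`, then `y ∈ N` -/
theorem mem_of_rel {K N : Subgroup G} (hN : NormBy K N) {x y : G} (hx : x ∈ N) (hy : y ∈ K)
    (m u : ℕ) (h1 : (x * y) ^ m = 1) (h2 : (y ^ m) ^ u = y) : y ∈ N := by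
  have h := mul_pow_mem hN hx hy m
  rw [h1, one_mul] at h
  have h3 : y ^ m ∈ N := by simpa using N.inv_mem h
  rw [← h2]
  exact N.pow_mem h3 u

/-- two conjugates of powers -/
theorem mem_of_conj2 {K N : Subgroup G} (hN : NormBy K N) {x z c1 c2 : G} (m1 m2 : ℕ)
    (hz : z ∈ N) (hc1 : c1 ∈ K) (hc2 : c2 ∈ K)
    (h : x = c1 * z ^ m1 * c1⁻¹ * (c2 * z ^ m2 * c2⁻¹)) : x ∈ N := by
  rw [h]
  exact N.mul_mem (hN _ (N.pow_mem hz m1) _ hc1) (hN _ (N.pow_mem hz m2) _ hc2)

theorem card_zpowers_prime {g : G} {r : ℕ} (hr : r.Prime) (hg : g ^ r = 1) (hg1 : g ≠ 1) :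
    Nat.card (Subgroup.zpowers g) = r := by
  have : Fact r.Prime := ⟨hr⟩
  rw [Nat.card_zpowers]
  exact orderOf_eq_prime hg hg1

end Cfsg.Agent.Lib.Helper9ChainT
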