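import Cfsg.Agent.Lib.Helper9Out

set_option autoImplicit false
open Cfsg
open scoped Pointwise

namespace Cfsg.Agent.Lib.Helper9Enum

open Cfsg.Agent.Lib.Helper9Golay Cfsg.Agent.Lib.Helper9Golay2 Cfsg.Agent.Lib.Helper9M24
open Cfsg.Agent.Lib.Helper9Chain Cfsg.Agent.Lib.Helper9M24Data
open Cfsg.Agent.Lib.Helper9M24Order Cfsg.Agent.Lib.Helper9M24Trans Cfsg.Agent.Lib.Helper9M12
open Cfsg.Agent.Lib.Helper9Octad Cfsg.Agent.Lib.Helper9Out

/-! ### enumeration of the elements of `M24` with prescribed images of base points -/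

/-- one level of the stabiliser chain: `cert` lists the orbit of `pt b` under the stabiliser of
`pre` together with indices of transversal elements in the table `T` -/
def LevelOK (pre : List ℕ) (b : ℕ) (cert : List (ℕ × ℕ)) : Prop :=
  (∀ g ∈ M24 ⊓ Fx pre, ∃ x ∈ cert.map Prod.fst, g (pt b) = pt x) ∧
  (∀ c ∈ cert, c.1 < 24) ∧
  (∀ c ∈ cert, ∃ g ∈ M24 ⊓ Fx pre, g (pt c.1) = pt b ∧ tbl g = T.getD c.2 idl)

def ChainOK : List ℕ → List (ℕ × List (ℕ × ℕ)) → Prop
  | pre, [] => M24 ⊓ Fx pre = ⊥
  | pre, (b, cert) :: ls => LevelOK pre b cert ∧ ChainOK (b :: pre) ls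

theorem level_tbl' {fixed : List ℕ} {b : ℕ} {cert : List (ℕ × ℕ)} (hfix : ∀ f ∈ fixed, f < 24)
    (hc : ∀ c ∈ cert, c.1 < 24) (h : levelCheck T fixed b cert = true) :
    ∀ c ∈ cert, ∃ g ∈ M24 ⊓ Fx fixed, g (pt c.1) = pt b ∧ tbl g = T.getD c.2 idl := by
  intro c hcm
  have h1 := List.all_eq_true.1 h c hcm
  rw [Bool.and_eq_true, List.all_eq_true] at h1
  obtain ⟨g, hg, hgl⟩ := T_sound.getD c.2
  refine ⟨g, ⟨K_le hg, fun f hf => ?_⟩, ?_, hgl⟩
  · exact apply_of_tbl hgl (hfix f hf) (by simpa using h1.1 f hf)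
  · exact apply_of_tbl hgl (hc c hcm) (by simpa using h1.2)

def chain : List (ℕ × List (ℕ × ℕ)) :=
  [(23, cert0), (0, cert1), (1, cert2), (2, cert3), (3, cert4), (5, cert5), (4, cert6)]

theorem lv0 : LevelOK [] 23 cert0 :=
  ⟨upper (by decide) (by decide) (by decide +kernel), by decide,
    level_tbl' (by decide) (by decide) check0⟩
theorem lv1 : LevelOK [23] 0 cert1 :=
  ⟨upper (by decide) (by decide) (by decide +kernel), by decide,
    level_tbl' (by decide) (by decide) check1⟩
theorem lv2 : LevelOK [0, 23] 1 cert2 :=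
  ⟨upper (by decide) (by decide) (by decide +kernel), by decide,
    level_tbl' (by decide) (by decide) check2⟩
theorem lv3 : LevelOK [1, 0, 23] 2 cert3 :=
  ⟨upper (by decide) (by decide) (by decide +kernel), by decide,
    level_tbl' (by decide) (by decide) check3⟩
theorem lv4 : LevelOK [2, 1, 0, 23] 3 cert4 :=
  ⟨upper (by decide) (by decide) (by decide +kernel), by decide,
    level_tbl' (by decide) (by decide) check4⟩
theorem lv5 : LevelOK [3, 2, 1, 0, 23] 5 cert5 :=
  ⟨upper5, by decide, level_tbl' (by decide) (by decide) check5⟩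
theorem lv6 : LevelOK [5, 3, 2, 1, 0, 23] 4 cert6 :=
  ⟨upper6, by decide, level_tbl' (by decide) (by decide) Cfsg.Agent.Lib.Helper9M24Data.check6⟩

theorem chain_ok : ChainOK [] chain :=
  ⟨lv0, lv1, lv2, lv3, lv4, lv5, lv6, trivial_stab⟩

/-- depth-first search through the stabiliser chain; `im` prescribes the images (under `g`) of
the first base points, the leaves are the tables of the `g⁻¹` -/
def search (P : List ℕ → Bool) : List (ℕ × List (ℕ × ℕ)) → List (Option ℕ) → List ℕ → Bool
  | [], _, acc => P acc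
  | (_, cert) :: ls, some a :: im, acc =>
      cert.all fun c => c.1 != acc.getD a 99 || search P ls im (compose (T.getD c.2 idl) acc)
  | (_, cert) :: ls, none :: im, acc =>
      cert.all fun c => search P ls im (compose (T.getD c.2 idl) acc)
  | (_, cert) :: ls, [], acc =>
      cert.all fun c => search P ls [] (compose (T.getD c.2 idl) acc)

def Constr (g : Equiv.Perm GolayPt) : List (ℕ × List (ℕ × ℕ)) → List (Option ℕ) → Prop
  | (b, _) :: ls, some a :: im => (a < 24 ∧ g (pt b) = pt a) ∧ Constr g ls im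
  | (_, _) :: ls, none :: im => Constr g ls im
  | _, _ => True

theorem Constr_nil (g : Equiv.Perm GolayPt) (ls : List (ℕ × List (ℕ × ℕ))) : Constr g ls [] := by
  cases ls <;> trivial

theorem getD_tbl (k : Equiv.Perm GolayPt) (p : GolayPt) : (tbl k).getD (idx p) 99 = idx (k p) :=
  tblF_getD k p 99

theorem search_sound (P : List ℕ → Bool) (g : Equiv.Perm GolayPt) (hg : g ∈ M24) :
    ∀ (ls : List (ℕ × List (ℕ × ℕ))) (pre : List ℕ), ChainOK pre ls →
      ∀ (im : List (Option ℕ)) (k : Equiv.Perm GolayPt), k ∈ M24 → k * g ∈ Fx pre →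
        Constr g ls im → search P ls im (tbl k) = true → P (tbl g⁻¹) = true := by
  intro ls
  induction ls with
  | nil =>
    intro pre hc im k hk hkg _ h
    have h1 : k * g ∈ M24 ⊓ Fx pre := ⟨M24.mul_mem hk hg, hkg⟩
    rw [show M24 ⊓ Fx pre = ⊥ from hc, Subgroup.mem_bot] at h1
    have h2 : g⁻¹ = k := (eq_inv_of_mul_eq_one_left h1).symm
    rw [h2]
    cases im <;> exact h
  | cons lv ls ih =>
    obtain ⟨b, cert⟩ := lv
    intro pre hc im k hk hkg hcon h
    obtain ⟨⟨hup, hlt, hlev⟩, hc'⟩ := hc
    obtain ⟨x, hx, hgx⟩ := hup (k * g) ⟨M24.mul_mem hk hg, hkg⟩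
    obtain ⟨c, hcm, rfl⟩ := List.mem_map.1 hx
    obtain ⟨k', hk', hk'x, ht⟩ := hlev c hcm
    have hnext : k' * k * g ∈ Fx (b :: pre) := by
      intro f hf
      rw [mul_assoc]
      rcases List.mem_cons.1 hf with rfl | hf
      · rw [Equiv.Perm.mul_apply, hgx, hk'x]
      · rw [Equiv.Perm.mul_apply, hkg f hf, hk'.2 f hf]
    have htbl : tbl (k' * k) = compose (T.getD c.2 idl) (tbl k) := by rw [tbl_mul, ht]
    match im, hcon, h with
    | some a :: im, hcon, h =>
      have h1 := List.all_eq_true.1 h c hcm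
      rw [Bool.or_eq_true] at h1
      rcases h1 with h1 | h1
      · exfalso
        have h2 : c.1 ≠ (tbl k).getD a 99 := by simpa using h1
        apply h2
        rw [Equiv.Perm.mul_apply, hcon.1.2] at hgx
        have h3 := getD_tbl k (pt a)
        rw [idx_pt hcon.1.1, hgx, idx_pt (hlt c hcm)] at h3
        exact h3.symm
      · rw [← htbl] at h1
        exact ih (b :: pre) hc' im (k' * k) (M24.mul_mem hk'.1 hk) hnext hcon.2 h1
    | none :: im, hcon, h =>
      have h1 := List.all_eq_true.1 h c hcm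
      rw [← htbl] at h1
      exact ih (b :: pre) hc' im (k' * k) (M24.mul_mem hk'.1 hk) hnext hcon h1
    | [], hcon, h =>
      have h1 := List.all_eq_true.1 h c hcm
      rw [← htbl] at h1
      exact ih (b :: pre) hc' [] (k' * k) (M24.mul_mem hk'.1 hk) hnext (Constr_nil _ _) h1

/-- the enumeration principle: to prove `P (tbl g⁻¹)` for all `g ∈ M24` with prescribed images of
the first base points `23, 0, 1, 2, 3, 5, 4`, run the search -/
theorem enum {P : List ℕ → Bool} {im : List (Option ℕ)} (h : search P chain im idl = true)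
    {g : Equiv.Perm GolayPt} (hg : g ∈ M24) (hcon : Constr g chain im) : P (tbl g⁻¹) = true :=
  search_sound P g hg chain [] chain_ok im 1 M24.one_mem (fun _ hf => absurd hf (by simp)) hcon
    (by rw [tbl_one]; exact h)

/-! ### permutations from tables -/

def validPair (l l' : List ℕ) : Bool :=
  compose l l' == idl && compose l' l == idl && l.all (fun x => decide (x < 24))
    && l'.all (fun x => decide (x < 24))

theorem compose_getD {a b : List ℕ} (h : compose a b = idl) {i : ℕ} (hi : i < 24) :
    b.length = 24 ∧ a.getD (b.getD i 0) 0 = i := by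
  have hlen : b.length = 24 := by
    have := congrArg List.length h
    simpa [compose, idl] using this
  refine ⟨hlen, ?_⟩
  have h1 := congrArg (fun l => l.getD i 0) h
  simp only [compose, idl] at h1
  rw [List.getD_eq_getElem _ _ (by simpa [hlen] using hi),
    List.getD_eq_getElem _ _ (by simpa using hi)] at h1
  rw [List.getD_eq_getElem b _ (by rw [hlen]; exact hi)]
  simpa using h1

theorem getD_lt {l : List ℕ} (h : l.all (fun x => decide (x < 24)) = true) (i : ℕ) :
    l.getD i 0 < 24 := by
  by_cases hi : i < l.length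
  · rw [List.getD_eq_getElem _ _ hi]
    simpa using List.all_eq_true.1 h _ (List.getElem_mem hi)
  · rw [List.getD_eq_default _ _ (by omega)]; norm_num

/-- the permutation with table `l` and inverse table `l'` -/
def ofTbl (l l' : List ℕ) (h : validPair l l' = true) : Equiv.Perm GolayPt where
  toFun p := pt (l.getD (idx p) 0)
  invFun p := pt (l'.getD (idx p) 0)
  left_inv p := by
    simp only [validPair, Bool.and_eq_true, beq_iff_eq] at h
    change pt (l'.getD (idx (pt (l.getD (idx p) 0))) 0) = p
    rw [idx_pt (getD_lt h.1.2 _), (compose_getD h.1.1.2 (idx_lt p)).2, pt_idx]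
  right_inv p := by
    simp only [validPair, Bool.and_eq_true, beq_iff_eq] at h
    change pt (l.getD (idx (pt (l'.getD (idx p) 0))) 0) = p
    rw [idx_pt (getD_lt h.2 _), (compose_getD h.1.1.1 (idx_lt p)).2, pt_idx]

theorem tbl_ofTbl (l l' : List ℕ) (h : validPair l l' = true) : tbl (ofTbl l l' h) = l := by
  have h' := h
  simp only [validPair, Bool.and_eq_true, beq_iff_eq] at h'
  have hlen : l.length = 24 := (compose_getD h'.1.1.2 (i := 0) (by norm_num)).1
  apply List.ext_getElem
  · rw [tblF_length, hlen]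
  · intro i h1 h2
    rw [tblF_getElem]
    change idx (pt (l.getD (idx (pt i)) 0)) = l[i]
    rw [tblF_length] at h1
    rw [idx_pt h1, idx_pt (getD_lt h'.1.2 _), List.getD_eq_getElem _ _ h2]

theorem ofTbl_mem (l l' : List ℕ) (h : validPair l l' = true) (hp : preserves l = true) :
    ofTbl l l' h ∈ M24 := by
  rw [mem_M24_iff_preserves, tbl_ofTbl]; exact hp

/-- existence form: a valid table preserving the code is the table of an element of `M24` -/
theorem exists_of_tbl (l l' : List ℕ) (h : (validPair l l' && preserves l) = true) :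
    ∃ g ∈ M24, tbl g = l := by
  rw [Bool.and_eq_true] at h
  exact ⟨ofTbl l l' h.1, ofTbl_mem l l' h.1 h.2, tbl_ofTbl l l' h.1⟩

end Cfsg.Agent.Lib.Helper9Enum
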