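import Cfsg.Agent.Lib.Helper9Out
import Cfsg.Prelude.Def_Spor_Mathieu

set_option autoImplicit false
open Cfsg
open scoped Pointwise

namespace Cfsg.Agent.Lib.Helper9Out23

open Cfsg.Agent.Lib.Helper9Golay Cfsg.Agent.Lib.Helper9Golay2 Cfsg.Agent.Lib.Helper9M24
open Cfsg.Agent.Lib.Helper9Chain Cfsg.Agent.Lib.Helper9M24Data
open Cfsg.Agent.Lib.Helper9M24Order Cfsg.Agent.Lib.Helper9M24Trans Cfsg.Agent.Lib.Helper9M12
open Cfsg.Agent.Lib.Helper9Octad Cfsg.Agent.Lib.Helper9Out

/-- fixed points of an element of prime order on an invariant set -/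
theorem fix_mod {y : Equiv.Perm GolayPt} {p : ℕ} [Fact p.Prime] (hy : y ^ p = 1)
    (S : Finset GolayPt) (hS : ∀ s ∈ S, y s ∈ S) : S.card ≡ (S ∩ fixF y).card [MOD p] := by
  classical
  let f : Function.End S := fun s => ⟨y s, hS s s.2⟩
  have hpow : ∀ (n : ℕ) (s : S), ((f ^ n) s : GolayPt) = (y ^ n) s := by
    intro n
    induction n with
    | zero => intro s; rfl
    | succ n ih =>
      intro s
      rw [pow_succ, pow_succ]
      exact ih (f s)
  have hf : f ^ p ^ 1 = 1 := by
    rw [pow_one]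
    funext s
    apply Subtype.ext
    rw [hpow, hy]
    rfl
  have h := Equiv.Perm.card_fixedPoints_modEq hf
  rw [Fintype.card_coe] at h
  have h2 : Fintype.card (Function.fixedPoints f) = (S ∩ fixF y).card := by
    rw [← Fintype.card_coe]
    apply Fintype.card_congr
    exact ⟨fun s => ⟨s.1.1, Finset.mem_inter.2 ⟨s.1.2, mem_fixF.2 (congrArg Subtype.val s.2)⟩⟩,
      fun t => ⟨⟨t.1, (Finset.mem_inter.1 t.2).1⟩,
        Subtype.ext (mem_fixF.1 (Finset.mem_inter.1 t.2).2)⟩, fun _ => rfl, fun _ => rfl⟩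
  rwa [h2] at h

theorem exists_ord (L : Subgroup (Equiv.Perm GolayPt)) (p : ℕ) [Fact p.Prime]
    (h : p ∣ Nat.card L) : ∃ x ∈ L, orderOf x = p := by
  obtain ⟨x, hx⟩ := exists_prime_orderOf_dvd_card' p h
  exact ⟨x, x.2, by rw [Subgroup.orderOf_coe, hx]⟩

theorem ne_one_of_orderOf {x : Equiv.Perm GolayPt} {p : ℕ} (hp : 1 < p) (hx : orderOf x = p) :
    x ≠ 1 := by
  rintro rfl
  rw [orderOf_one] at hx
  omega

theorem card_univ_GolayPt : (Finset.univ : Finset GolayPt).card = 24 := by
  rw [Finset.card_univ, ← Nat.card_eq_fintype_card, card_GolayPt]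

/-- a subgroup of index 23 of `M23` fixes a second point -/
theorem idx23 (H : Subgroup (Equiv.Perm GolayPt)) (hH : H ≤ Spor.M23)
    (hcard : Nat.card H = 443520) : ∃ q : GolayPt, q ≠ none ∧ ∀ g ∈ H, g q = q := by
  classical
  have hp11 : Fact (Nat.Prime 11) := ⟨by norm_num⟩
  have hp7 : Fact (Nat.Prime 7) := ⟨by norm_num⟩
  have hfixn : ∀ g ∈ H, g none = none := fun g hg => (hH hg).2
  have hM : ∀ g ∈ H, g ∈ M24 := fun g hg => (hH hg).1
  obtain ⟨x, hxH, hx⟩ := exists_ord H 11 (by rw [hcard]; norm_num)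
  have hx1 : x ≠ 1 := ne_one_of_orderOf (by norm_num) hx
  have hx8 := card_fixF_le (hM x hxH) hx1
  have hxp : x ^ 11 = 1 := by rw [← hx]; exact pow_orderOf_eq_one x
  have hmod := fix_mod hxp Finset.univ (fun _ _ => Finset.mem_univ _)
  rw [Finset.univ_inter, card_univ_GolayPt] at hmod
  have h2 : (fixF x).card = 2 := by
    unfold Nat.ModEq at hmod
    omega
  have hnone : none ∈ fixF x := mem_fixF.2 (hfixn x hxH)
  obtain ⟨q0, hq0, hfx⟩ : ∃ q0 : GolayPt, q0 ≠ none ∧ fixF x = {none, q0} := by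
    obtain ⟨a, b, hab, he⟩ := Finset.card_eq_two.1 h2
    rw [he] at hnone
    simp only [Finset.mem_insert, Finset.mem_singleton] at hnone
    rcases hnone with rfl | rfl
    · exact ⟨b, hab.symm, he⟩
    · exact ⟨a, hab, by rw [he, Finset.pair_comm]⟩
  refine ⟨q0, hq0, ?_⟩
  set O : Finset GolayPt := (Set.toFinite (MulAction.orbit H q0)).toFinset with hO
  have memO : ∀ r, r ∈ O ↔ r ∈ MulAction.orbit H q0 := fun r => by rw [hO, Set.Finite.mem_toFinset]
  have hOinv : ∀ g ∈ H, ∀ s ∈ O, g s ∈ O := by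
    intro g hg s hs
    rw [memO] at hs ⊢
    exact MulAction.mem_orbit_of_mem_orbit (⟨g, hg⟩ : H) hs
  have hq0O : q0 ∈ O := (memO _).2 (MulAction.mem_orbit_self _)
  have hnO : none ∉ O := by
    intro hn
    obtain ⟨⟨g, hg⟩, hgq⟩ := (memO _).1 hn
    have h7 : g q0 = none := hgq
    exact hq0 (g.injective (h7.trans (hfixn g hg).symm))
  have hOx : O ∩ fixF x = {q0} := by
    rw [hfx]
    ext r
    simp only [Finset.mem_inter, Finset.mem_insert, Finset.mem_singleton]
    constructor
    · rintro ⟨h1, rfl | rfl⟩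
      · exact absurd h1 hnO
      · rfl
    · rintro rfl
      exact ⟨hq0O, Or.inr rfl⟩
  have hmodO := fix_mod hxp O (hOinv x hxH)
  rw [hOx, Finset.card_singleton] at hmodO
  have hOcard : O.card = (MulAction.orbit H q0).ncard := by
    rw [hO, Set.ncard_eq_toFinset_card _ (Set.toFinite _)]
  have hdvd : O.card ∣ 443520 := by
    rw [hOcard, ← MulAction.index_stabilizer, ← hcard]
    exact Subgroup.index_dvd_card _
  have hle : O.card ≤ 23 := by
    have h3 : O ⊆ Finset.univ.erase none := fun r hr =>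
      Finset.mem_erase.2 ⟨fun h => hnO (h ▸ hr), Finset.mem_univ _⟩
    have h4 := Finset.card_le_card h3
    rw [Finset.card_erase_of_mem (Finset.mem_univ _), card_univ_GolayPt] at h4
    omega
  have hcases : O.card = 1 ∨ O.card = 12 ∨ O.card = 23 := by
    unfold Nat.ModEq at hmodO
    omega
  rcases hcases with h1 | h12 | h23
  · intro g hg
    have h3 := hOinv g hg q0 hq0O
    obtain ⟨a, ha⟩ := Finset.card_eq_one.1 h1
    rw [ha, Finset.mem_singleton] at h3 hq0O
    rw [h3, hq0O]
  · exfalso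
    obtain ⟨y, hyH, hy⟩ := exists_ord H 7 (by rw [hcard]; norm_num)
    have hy1 : y ≠ 1 := ne_one_of_orderOf (by norm_num) hy
    have hy8 := card_fixF_le (hM y hyH) hy1
    have hyp : y ^ 7 = 1 := by rw [← hy]; exact pow_orderOf_eq_one y
    have hm1 := fix_mod hyp O (hOinv y hyH)
    have hOc : ∀ s ∈ Oᶜ, y s ∈ Oᶜ := by
      intro s hs
      rw [Finset.mem_compl] at hs ⊢
      intro h3
      apply hs
      have h4 := hOinv y⁻¹ (H.inv_mem hyH) _ h3
      simpa using h4
    have hm2 := fix_mod hyp Oᶜ hOc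
    have hcc : Oᶜ.card = 12 := by
      rw [Finset.card_compl, ← Nat.card_eq_fintype_card, card_GolayPt, h12]
    rw [h12] at hm1
    rw [hcc] at hm2
    have hsum : (O ∩ fixF y).card + (Oᶜ ∩ fixF y).card = (fixF y).card := by
      rw [← Finset.card_union_of_disjoint, ← Finset.union_inter_distrib_right,
        Finset.union_compl, Finset.univ_inter]
      exact Disjoint.mono Finset.inter_subset_left Finset.inter_subset_left disjoint_compl_right
    unfold Nat.ModEq at hm1 hm2
    omega
  · exfalso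
    rw [h23] at hdvd
    revert hdvd
    norm_num

theorem card_M23_stab {p : GolayPt} (hp : p ≠ none) :
    Nat.card ↥(Spor.M23 ⊓ MulAction.stabilizer (Equiv.Perm GolayPt) p) = 443520 := by
  rw [← card_stabilizer2 (Ne.symm hp)]
  have h : (MulAction.stabilizer M24 (none : GolayPt) ⊓ MulAction.stabilizer M24 p).map M24.subtype
      = Spor.M23 ⊓ MulAction.stabilizer (Equiv.Perm GolayPt) p := by
    ext g
    constructor
    · rintro ⟨⟨g, hg⟩, ⟨h1, h2⟩, rfl⟩
      exact ⟨⟨hg, h1⟩, h2⟩
    · rintro ⟨⟨hg, h1⟩, h2⟩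
      exact ⟨⟨g, hg⟩, ⟨h1, h2⟩, rfl⟩
  rw [← h, Subgroup.card_map_of_injective M24.subtype_injective]

/-! ### octads through the extra point span the code -/

def spanData : List (List ℕ) :=
  [[12656663, 12661896], [12656663, 12650793], [8536111, 8521420], [8683614, 8654232],
   [12656663, 12594948], [8536111, 8407702], [10846245, 10584520], [13303882, 12780432],
   [9830549, 8783649], [14688364, 12594948], [12656663, 8464984], [8391797]]

theorem spanData_ok : spanData.map (fun l => l.foldr (fun a b => a ^^^ b) 0) = basis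
    ∧ spanData.all (fun l => l.all (fun o => isOctad o && o.testBit 23)) = true := by
  decide +kernel

theorem smul_symmDiff (σ : Equiv.Perm GolayPt) (s t : Finset GolayPt) :
    σ • symmDiff s t = symmDiff (σ • s) (σ • t) := by
  ext p
  simp only [mem_smul_iff, Finset.mem_symmDiff]

theorem empty_mem_Csup : (∅ : Finset GolayPt) ∈ Csup := by
  rw [← fs_zero]
  exact (fs_mem_supports_iff (by norm_num)).2 (by decide +kernel)

theorem smul_foldr_mem (σ : Equiv.Perm GolayPt) (l : List ℕ) (h : ∀ o ∈ l, σ • fs o ∈ Csup) :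
    σ • fs (l.foldr (fun a b => a ^^^ b) 0) ∈ Csup := by
  induction l with
  | nil =>
    simp only [List.foldr_nil, fs_zero, Finset.smul_finset_empty]
    exact empty_mem_Csup
  | cons a l ih =>
    simp only [List.foldr_cons]
    rw [fs_xor, smul_symmDiff]
    exact symmDiff_mem_supports (h a (by simp)) (ih (fun o ho => h o (by simp [ho])))

/-- a permutation mapping the octads through the extra point to octads lies in `M24` -/
theorem mem_M24_of_octads_none {σ : Equiv.Perm GolayPt}
    (h : ∀ o ∈ octads, none ∈ o → σ • o ∈ octads) : σ ∈ M24 := by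
  apply mem_M24_of
  intro b hb
  rw [← spanData_ok.1] at hb
  obtain ⟨l, hl, rfl⟩ := List.mem_map.1 hb
  apply smul_foldr_mem
  intro o ho
  have h1 := List.all_eq_true.1 (List.all_eq_true.1 spanData_ok.2 l hl) o ho
  rw [Bool.and_eq_true] at h1
  exact (h _ (fs_mem_octads h1.1) (by rw [mem_fs]; exact h1.2)).1

theorem mem_M24_of_normalizes_M23 {σ : Equiv.Perm GolayPt}
    (h : ∀ g ∈ Spor.M23, σ * g * σ⁻¹ ∈ M24) : σ ∈ M24 := by
  apply mem_M24_of_octads_none
  intro o ho hn
  exact smul_octad_of_conj ho (fun g hg => h g ⟨(mem_PS.1 hg).1, (mem_PS.1 hg).2 _ hn⟩)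

end Cfsg.Agent.Lib.Helper9Out23
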