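import Cfsg.Agent.Lib.Helper9Enum
import Cfsg.Agent.Lib.Helper9Out23

set_option autoImplicit false
open Cfsg
open scoped Pointwise

namespace Cfsg.Agent.Lib.Helper9Fix

open Cfsg.Agent.Lib.Helper9Golay Cfsg.Agent.Lib.Helper9Golay2 Cfsg.Agent.Lib.Helper9M24
open Cfsg.Agent.Lib.Helper9Chain Cfsg.Agent.Lib.Helper9M24Data
open Cfsg.Agent.Lib.Helper9M24Order Cfsg.Agent.Lib.Helper9M24Trans Cfsg.Agent.Lib.Helper9M12
open Cfsg.Agent.Lib.Helper9Octad Cfsg.Agent.Lib.Helper9Out Cfsg.Agent.Lib.Helper9Out23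
open Cfsg.Agent.Lib.Helper9Enum

/-- five distinct points can be moved to the first five base points -/
theorem exists_norm5 {a b c d e : GolayPt} (hnd : [a, b, c, d, e].Nodup) :
    ∃ k ∈ M24, k a = pt 23 ∧ k b = pt 0 ∧ k c = pt 1 ∧ k d = pt 2 ∧ k e = pt 3 := by
  let y : Fin 5 ↪ GolayPt := ⟨fun i => [a, b, c, d, e].get i, List.nodup_iff_injective_get.1 hnd⟩
  obtain ⟨k, hk, mk⟩ := Cfsg.Agent.Lib.Helper9M24Trans.exists_maps5 y
  simp only [Maps, List.forall₂_cons, List.forall₂_nil_right_iff, and_true] at mk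
  exact ⟨k, hk, mk.2.2.2.2, mk.2.2.2.1, mk.2.2.1, mk.2.1, mk.1⟩

theorem conj_apply (k g : Equiv.Perm GolayPt) {a b a' b' : GolayPt} (h : g a = b) (ha : k a = a')
    (hb : k b = b') : (k * g * k⁻¹) a' = b' := by
  subst ha hb
  simp [h]

theorem conj_ne_one {k g : Equiv.Perm GolayPt} (h : g ≠ 1) : k * g * k⁻¹ ≠ 1 := by
  intro h3
  apply h
  have h5 : g = k⁻¹ * (k * g * k⁻¹) * k := by group
  rw [h5, h3]; group

theorem card_fixF_tbl (g : Equiv.Perm GolayPt) : (fixF g).card = popc 24 (fixMask (tbl g)) := by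
  rw [fixF_eq, card_fs]

theorem search3 : search (fun l => compose l (compose l l) != idl || popc 24 (fixMask l) == 6) chain
    [some 23, some 0, some 2, some 3, some 1] idl = true := by decide +kernel

theorem search2 : search (fun l => compose l l != idl || popc 24 (fixMask l) == 8) chain
    [some 23, some 1, some 0, some 3, some 2] idl = true := by decide +kernel

/-- an element of order 3 of `M24` with a fixed point has exactly six fixed points -/
theorem card_fixF_three {w : Equiv.Perm GolayPt} (hw : w ∈ M24) (h1 : w ≠ 1) (h3 : w ^ 3 = 1)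
    {a : GolayPt} (ha : w a = a) : (fixF w).card = 6 := by
  have hp3 : Fact (Nat.Prime 3) := ⟨by norm_num⟩
  have h8 := card_fixF_le hw h1
  have hmod := fix_mod h3 Finset.univ (fun _ _ => Finset.mem_univ _)
  rw [Finset.univ_inter, card_univ_GolayPt] at hmod
  have hpos : 0 < (fixF w).card := Finset.card_pos.2 ⟨a, mem_fixF.2 ha⟩
  have h2 : 1 < (fixF w).card := by
    unfold Nat.ModEq at hmod
    omega
  obtain ⟨a, ha, b, hb, hab⟩ := Finset.one_lt_card.1 h2
  rw [mem_fixF] at ha hb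
  obtain ⟨d, hd⟩ : ∃ d, w d ≠ d := by
    by_contra hcon
    push Not at hcon
    exact h1 (Equiv.ext hcon)
  have hw3 : w (w (w d)) = d := by
    have := congrArg (fun f : Equiv.Perm GolayPt => f d) h3
    simpa [pow_succ] using this
  have hde : w (w d) ≠ w d := fun h => hd (w.injective h)
  have hdf : w (w d) ≠ d := by
    intro h
    rw [h] at hw3
    exact hd hw3
  have hnd : [a, b, d, w d, w (w d)].Nodup := by
    have e1 : a ≠ d := fun h => hd (h ▸ ha)
    have e2 : a ≠ w d := fun h => e1 (w.injective (ha.trans h))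
    have e3 : a ≠ w (w d) := fun h => e2 (w.injective (ha.trans h))
    have f1 : b ≠ d := fun h => hd (h ▸ hb)
    have f2 : b ≠ w d := fun h => f1 (w.injective (hb.trans h))
    have f3 : b ≠ w (w d) := fun h => f2 (w.injective (hb.trans h))
    simp only [List.nodup_cons, List.mem_cons, List.not_mem_nil, or_false, not_or,
      List.nodup_nil, and_true, not_false_eq_true]
    exact ⟨⟨hab, e1, e2, e3⟩, ⟨f1, f2, f3⟩, ⟨Ne.symm hd, Ne.symm hdf⟩, Ne.symm hde⟩
  obtain ⟨k, hk, k0, k1, k2, k3, k4⟩ := exists_norm5 hnd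
  have hg' : k * w * k⁻¹ ∈ M24 := M24.mul_mem (M24.mul_mem hk hw) (M24.inv_mem hk)
  have hP := enum search3 hg' ⟨⟨by norm_num, conj_apply k w ha k0 k0⟩,
    ⟨by norm_num, conj_apply k w hb k1 k1⟩, ⟨by norm_num, conj_apply k w rfl k2 k3⟩,
    ⟨by norm_num, conj_apply k w rfl k3 k4⟩, ⟨by norm_num, conj_apply k w hw3 k4 k2⟩, trivial⟩
  rw [Bool.or_eq_true] at hP
  rcases hP with hP | hP
  · exfalso
    rw [← tbl_mul, ← tbl_mul, ← tbl_one] at hP
    have : (k * w * k⁻¹)⁻¹ * ((k * w * k⁻¹)⁻¹ * (k * w * k⁻¹)⁻¹) = 1 := by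
      have h5 : (k * w * k⁻¹)⁻¹ * ((k * w * k⁻¹)⁻¹ * (k * w * k⁻¹)⁻¹) = k * (w ^ 3)⁻¹ * k⁻¹ := by
        group
      rw [h5, h3]; group
    rw [this] at hP
    simp at hP
  · have h6 : popc 24 (fixMask (tbl (k * w * k⁻¹)⁻¹)) = 6 := by simpa using hP
    rw [← card_fixF_tbl, fixF_inv, fixF_conj, Finset.card_smul_finset] at h6
    exact h6

/-- an involution of `M24` with a fixed point fixes exactly the points of an octad -/
theorem fixF_two {u : Equiv.Perm GolayPt} (hu : u ∈ M24) (h1 : u ≠ 1) (h2 : u ^ 2 = 1)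
    {a : GolayPt} (ha : u a = a) : fixF u ∈ octads := by
  have h8 := card_fixF_le hu h1
  have huu : ∀ x, u (u x) = x := by
    intro x
    have := congrArg (fun f : Equiv.Perm GolayPt => f x) h2
    simpa [pow_succ] using this
  obtain ⟨c, hc⟩ : ∃ d, u d ≠ d := by
    by_contra hcon
    push Not at hcon
    exact h1 (Equiv.ext hcon)
  obtain ⟨e, he, hec, hed⟩ : ∃ e, u e ≠ e ∧ e ≠ c ∧ e ≠ u c := by
    by_contra hcon
    push Not at hcon
    have hsub : (Finset.univ : Finset GolayPt) ⊆ insert c (insert (u c) (fixF u)) := by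
      intro x _
      simp only [Finset.mem_insert, mem_fixF]
      by_cases hx : u x = x
      · exact Or.inr (Or.inr hx)
      · by_cases hxc : x = c
        · exact Or.inl hxc
        · exact Or.inr (Or.inl (hcon x hx hxc))
    have h9 := Finset.card_le_card hsub
    rw [card_univ_GolayPt] at h9
    have h10 := Finset.card_insert_le c (insert (u c) (fixF u))
    have h11 := Finset.card_insert_le (u c) (fixF u)
    omega
  have hnd : [a, c, u c, e, u e].Nodup := by
    have e1 : a ≠ c := fun h => hc (h ▸ ha)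
    have e2 : a ≠ u c := fun h => e1 (u.injective (ha.trans h))
    have e3 : a ≠ e := fun h => he (h ▸ ha)
    have e4 : a ≠ u e := fun h => e3 (u.injective (ha.trans h))
    have f1 : c ≠ u e := fun h => hed (by rw [h, huu])
    have f2 : u c ≠ u e := fun h => hec (u.injective h).symm
    simp only [List.nodup_cons, List.mem_cons, List.not_mem_nil, or_false, not_or,
      List.nodup_nil, and_true, not_false_eq_true]
    exact ⟨⟨e1, e2, e3, e4⟩, ⟨Ne.symm hc, Ne.symm hec, f1⟩, ⟨Ne.symm hed, f2⟩, Ne.symm he⟩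
  obtain ⟨k, hk, k0, k1, k2, k3, k4⟩ := exists_norm5 hnd
  have hg' : k * u * k⁻¹ ∈ M24 := M24.mul_mem (M24.mul_mem hk hu) (M24.inv_mem hk)
  have hP := enum search2 hg' ⟨⟨by norm_num, conj_apply k u ha k0 k0⟩,
    ⟨by norm_num, conj_apply k u rfl k1 k2⟩, ⟨by norm_num, conj_apply k u (huu c) k2 k1⟩,
    ⟨by norm_num, conj_apply k u rfl k3 k4⟩, ⟨by norm_num, conj_apply k u (huu e) k4 k3⟩, trivial⟩
  rw [Bool.or_eq_true] at hP
  rcases hP with hP | hP
  · exfalso
    rw [← tbl_mul, ← tbl_one] at hP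
    have : (k * u * k⁻¹)⁻¹ * (k * u * k⁻¹)⁻¹ = 1 := by
      have h5 : (k * u * k⁻¹)⁻¹ * (k * u * k⁻¹)⁻¹ = k * (u ^ 2)⁻¹ * k⁻¹ := by
        group
      rw [h5, h2]; group
    rw [this] at hP
    simp at hP
  · have h6 : popc 24 (fixMask (tbl (k * u * k⁻¹)⁻¹)) = 8 := by simpa using hP
    rw [← card_fixF_tbl, fixF_inv, fixF_conj, Finset.card_smul_finset] at h6
    exact fix_octad hu h1 (by omega)

/-- an involution and an element of order 3 of `M24` cannot fix six common points -/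
theorem no_common_six {u w : Equiv.Perm GolayPt} (hu : u ∈ M24) (hu1 : u ≠ 1) (hu2 : u ^ 2 = 1)
    (hw : w ∈ M24) (hw1 : w ≠ 1) (hw3 : w ^ 3 = 1) {S : Finset GolayPt} (hS : 6 ≤ S.card)
    (hSu : S ⊆ fixF u) (hSw : S ⊆ fixF w) : False := by
  have hp3 : Fact (Nat.Prime 3) := ⟨by norm_num⟩
  obtain ⟨a, haS⟩ : S.Nonempty := Finset.card_pos.1 (by omega)
  have hO := fixF_two hu hu1 hu2 (mem_fixF.1 (hSu haS))
  have h6 := card_fixF_three hw hw1 hw3 (mem_fixF.1 (hSw haS))
  have hinv : w • fixF u = fixF u := by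
    apply octad_unique (smul_mem_octads hw hO) hO
    refine le_trans (by omega : 5 ≤ S.card) (Finset.card_le_card ?_)
    intro p hp
    rw [Finset.mem_inter, mem_smul_iff]
    have h1 : w⁻¹ p = p := by rw [Equiv.Perm.inv_eq_iff_eq]; exact (mem_fixF.1 (hSw hp)).symm
    rw [h1]
    exact ⟨hSu hp, hSu hp⟩
  have hmod := fix_mod hw3 (fixF u) (fun s hs => (apply_mem_iff hinv s).2 hs)
  rw [hO.2] at hmod
  have hge : 6 ≤ (fixF u ∩ fixF w).card :=
    le_trans hS (Finset.card_le_card (fun p hp => Finset.mem_inter.2 ⟨hSu hp, hSw hp⟩))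
  have hle : (fixF u ∩ fixF w).card ≤ 6 := by
    rw [← h6]; exact Finset.card_le_card Finset.inter_subset_right
  unfold Nat.ModEq at hmod
  omega

end Cfsg.Agent.Lib.Helper9Fix
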