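import Mathlib
import Cfsg.Agent.Lib.Helper10M22

set_option autoImplicit false

namespace Cfsg.Agent.Lib.Helper9Idx

open MulAction Subgroup Cfsg.Agent.Lib.Helper10Simple Cfsg.Agent.Lib.Helper10M22

variable {G Ω : Type*} [Group G] [MulAction G Ω]

/-- a group acting faithfully on 22 points in which elements fixing three points have exponent 48
cannot have order 18480 (Sylow arithmetic at the prime 11) -/
theorem no_card_18480 [Finite Ω] (hΩ : Nat.card Ω = 22)
    (hfaith : ∀ g : G, (∀ y : Ω, g • y = y) → g = 1)
    (h3 : ∀ g : G, ∀ x y z : Ω, x ≠ y → x ≠ z → y ≠ z → g • x = x → g • y = y → g • z = z →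
      g ^ 48 = 1) : Nat.card G ≠ 18480 := by
  classical
  intro hcard
  have hfin : Finite G := Nat.finite_of_card_ne_zero (by omega)
  have hne : Nonempty Ω := (Nat.card_pos_iff.mp (by omega)).1
  have hp : Fact (Nat.Prime 11) := ⟨by norm_num⟩
  have h11G : 11 ∣ Nat.card G := by rw [hcard]; norm_num
  obtain ⟨n, hnG⟩ := exists_prime_orderOf_dvd_card' 11 h11G
  have hQcard : Nat.card (zpowers (n : G)) = 11 := by
    rw [Nat.card_zpowers, hnG]
  have hQidx : (zpowers (n : G)).index = 1680 := by
    have := (zpowers (n : G)).card_mul_index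
    rw [hQcard, hcard] at this
    omega
  let P : Sylow 11 G := (IsPGroup.of_card (n := 1) (by rw [hQcard, pow_one])).toSylow
    (P := zpowers (n : G)) (by rw [hQidx]; norm_num)
  have hPcoe : (P : Subgroup G) = zpowers (n : G) := rfl
  have hPcard : Nat.card (P : Subgroup G) = 11 := hQcard
  have hPidx : (P : Subgroup G).index = 1680 := hQidx
  have hPcyc : IsCyclic (P : Subgroup G) := isCyclic_of_prime_card hPcard
  have hPcomm : ∀ x ∈ (P : Subgroup G), ∀ y ∈ (P : Subgroup G), x * y = y * x := by
    intro x hx y hy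
    rw [hPcoe] at hx hy
    obtain ⟨i, rfl⟩ := mem_zpowers_iff.mp hx
    obtain ⟨j, rfl⟩ := mem_zpowers_iff.mp hy
    rw [← zpow_add, ← zpow_add, add_comm]
  have hfree : ∀ y : Ω, (n : G) • y ≠ y := by
    intro y hy
    have hpg : IsPGroup 11 (zpowers (n : G)) := IsPGroup.of_card (n := 1) (by rw [hQcard, pow_one])
    have hmod := hpg.card_modEq_card_fixedPoints Ω
    rw [hΩ, Nat.card_coe_set_eq] at hmod
    have hmem : ∀ w : Ω, w ∈ fixedPoints (zpowers (n : G)) Ω ↔ (n : G) • w = w := by
      intro w
      constructor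
      · intro hw
        exact hw ⟨n, mem_zpowers _⟩
      · intro hw z
        obtain ⟨z, hz⟩ := z
        obtain ⟨i, rfl⟩ := mem_zpowers_iff.mp hz
        have h1 : (n : G) ∈ stabilizer G w := hw
        exact zpow_mem h1 i
    have hpos : 0 < (fixedPoints (zpowers (n : G)) Ω).ncard :=
      (Set.ncard_pos (Set.toFinite _)).mpr ⟨y, (hmem y).mpr hy⟩
    have h2lt : 2 < (fixedPoints (zpowers (n : G)) Ω).ncard := by
      unfold Nat.ModEq at hmod
      omega
    obtain ⟨a, b, c, ha, hb, hc, hab, hac, hbc⟩ := (Set.two_lt_ncard_iff (Set.toFinite _)).mp h2lt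
    have h48 := h3 n a b c hab hac hbc ((hmem a).mp ha) ((hmem b).mp hb) ((hmem c).mp hc)
    have := orderOf_dvd_of_pow_eq_one h48
    rw [hnG] at this
    omega
  have hPC : (P : Subgroup G) ≤ centralizer ((P : Subgroup G) : Set G) := by
    intro g hg
    rw [mem_centralizer_iff]
    intro y hy
    exact hPcomm y hy g hg
  have hCN : centralizer ((P : Subgroup G) : Set G) ≤ normalizer ((P : Subgroup G) : Set G) :=
    centralizer_le_normalizer _
  have hCcard : Nat.card (centralizer ((P : Subgroup G) : Set G)) ≤ 22 := by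
    obtain ⟨a⟩ := hne
    rw [← hΩ]
    apply Nat.card_le_card_of_injective
      (fun g : centralizer ((P : Subgroup G) : Set G) => (g : G) • a)
    intro g g' hgg
    have hgg' : (g : G) • a = (g' : G) • a := hgg
    have hmem : (g : G)⁻¹ * g' ∈ centralizer ((P : Subgroup G) : Set G) :=
      mul_mem (inv_mem g.2) g'.2
    have hnP : (n : G) ∈ (P : Subgroup G) := by rw [hPcoe]; exact mem_zpowers _
    have hc : ((g : G)⁻¹ * g') * n = n * ((g : G)⁻¹ * g') :=
      (mem_centralizer_iff.mp hmem n hnP).symm
    have h1 := eq_one_of_fix hΩ hfaith h3 (n : G) hfree hnG _ hc a (by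
      rw [mul_smul, ← hgg', inv_smul_smul])
    exact Subtype.ext (inv_mul_eq_one.mp h1)
  have hc1 : 11 * (P : Subgroup G).relIndex (centralizer ((P : Subgroup G) : Set G)) =
      Nat.card (centralizer ((P : Subgroup G) : Set G)) := by
    have h1 := ((P : Subgroup G).subgroupOf (centralizer ((P : Subgroup G) : Set G))).card_mul_index
    rw [Nat.card_congr (subgroupOfEquivOfLe hPC).toEquiv, hPcard] at h1
    exact h1
  have key := card_dvd_of_injective _
    (QuotientGroup.kerLift_injective (P : Subgroup G).normalizerMonoidHom)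
  rw [normalizerMonoidHom_ker, ← index, ← relIndex, hPcyc.card_mulAut, hPcard,
    Nat.totient_prime hp.out] at key
  have hmul0 := relIndex_mul_relIndex (P : Subgroup G) (centralizer ((P : Subgroup G) : Set G))
    (normalizer ((P : Subgroup G) : Set G)) hPC hCN
  have hmul := relIndex_mul_index (le_normalizer (H := (P : Subgroup G)))
  rw [hPidx] at hmul
  have hmod : (normalizer ((P : Subgroup G) : Set G)).index ≡ 1 [MOD 11] := by
    have h0 : Nat.card (Sylow 11 G) = (normalizer ((P : Subgroup G) : Set G)).index :=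
      P.card_eq_index_normalizer
    rw [← h0]
    exact card_sylow_modEq_one 11 G
  rw [← hmul0] at hmul
  generalize (P : Subgroup G).relIndex (centralizer ((P : Subgroup G) : Set G)) = c at hc1 hmul
  generalize (centralizer ((P : Subgroup G) : Set G)).relIndex
    (normalizer ((P : Subgroup G) : Set G)) = m at key hmul
  generalize (normalizer ((P : Subgroup G) : Set G)).index = i at hmul hmod
  have hm10 : m ≤ 10 := Nat.le_of_dvd (by norm_num) key
  have hc2 : c ≤ 2 := by omega
  unfold Nat.ModEq at hmod
  interval_cases c <;> interval_cases m <;> omega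

end Cfsg.Agent.Lib.Helper9Idx
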