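import Cfsg.Agent.Lib.Helper9Idx
import Cfsg.Agent.Lib.Helper9M12
import Cfsg.Agent.S0379

set_option autoImplicit false
open Cfsg
open scoped Pointwise

namespace Cfsg.Agent.Lib.Helper9Idx24

open Cfsg.Agent.Lib.Helper9Golay Cfsg.Agent.Lib.Helper9Golay2 Cfsg.Agent.Lib.Helper9M24
open Cfsg.Agent.Lib.Helper9M24Order Cfsg.Agent.Lib.Helper9M24Trans Cfsg.Agent.Lib.Helper9M12
open Cfsg.Agent.Lib.Helper9Idx

/-- an element of `M24` fixing five points has exponent 48 -/
theorem pow48 {g : Equiv.Perm GolayPt} (hg : g ∈ M24) (l : List GolayPt) (hl : l.Nodup)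
    (h5 : l.length = 5) (hfix : ∀ w ∈ l, g w = w) : g ^ 48 = 1 := by
  have h := Cfsg.Agent.S0379.pow_eq_one_of_fix (H := M24) (α := GolayPt) 5 48
    (by rw [card_M24, ← Nat.card_eq_fintype_card, card_GolayPt]; decide)
    (by rw [← Nat.card_eq_fintype_card, card_GolayPt]; decide) l hl h5 ⟨g, hg⟩ hfix
  have := congrArg Subtype.val h
  simpa using this

/-- the action of a group fixing two points on the remaining 22 points -/
def act22 (L : Subgroup (Equiv.Perm GolayPt)) (p q : GolayPt) (h : ∀ g ∈ L, g p = p ∧ g q = q) :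
    SubMulAction L GolayPt where
  carrier := {x | x ≠ p ∧ x ≠ q}
  smul_mem' := by
    rintro ⟨g, hg⟩ x ⟨hx1, hx2⟩
    constructor
    · intro hh
      apply hx1
      apply g.injective
      rw [(h g hg).1]; exact hh
    · intro hh
      apply hx2
      apply g.injective
      rw [(h g hg).2]; exact hh

theorem card_act22 (L : Subgroup (Equiv.Perm GolayPt)) {p q : GolayPt} (hpq : p ≠ q)
    (h : ∀ g ∈ L, g p = p ∧ g q = q) : Nat.card (act22 L p q h) = 22 := by
  have h1 : Nat.card (act22 L p q h) = (({p, q} : Set GolayPt)ᶜ).ncard := by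
    rw [← Nat.card_coe_set_eq]
    apply Nat.card_congr
    apply Equiv.setCongr
    ext x
    simp [act22]
    rfl
  rw [h1, Set.ncard_compl, Set.ncard_pair hpq, card_GolayPt]

theorem A1 (L : Subgroup (Equiv.Perm GolayPt)) (hL : L ≤ M24) {p q : GolayPt} (hpq : p ≠ q)
    (h : ∀ g ∈ L, g p = p ∧ g q = q) : Nat.card L ≠ 18480 := by
  apply no_card_18480 (Ω := act22 L p q h) (card_act22 L hpq h)
  · rintro ⟨g, hg⟩ hy
    apply Subtype.ext
    refine Equiv.ext fun y => ?_
    by_cases hy1 : y = p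
    · rw [hy1]; exact (h g hg).1
    · by_cases hy2 : y = q
      · rw [hy2]; exact (h g hg).2
      · exact congrArg Subtype.val (hy ⟨y, hy1, hy2⟩)
  · rintro ⟨g, hg⟩ ⟨x, hx1, hx2⟩ ⟨y, hy1, hy2⟩ ⟨z, hz1, hz2⟩ hxy hxz hyz hx hy hz
    have hx' : g x = x := congrArg Subtype.val hx
    have hy' : g y = y := congrArg Subtype.val hy
    have hz' : g z = z := congrArg Subtype.val hz
    have hnd : [p, q, x, y, z].Nodup := by
      simp only [List.nodup_cons, List.mem_cons, List.not_mem_nil, or_false, not_or,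
        List.nodup_nil, and_true, not_false_eq_true]
      exact ⟨⟨hpq, fun h => hx1 h.symm, fun h => hy1 h.symm, fun h => hz1 h.symm⟩,
        ⟨fun h => hx2 h.symm, fun h => hy2 h.symm, fun h => hz2 h.symm⟩,
        ⟨fun h => hxy (Subtype.ext h), fun h => hxz (Subtype.ext h)⟩, fun h => hyz (Subtype.ext h)⟩
    have h48 := pow48 (hL hg) _ hnd rfl (by simp [(h g hg).1, (h g hg).2, hx', hy', hz'])
    apply Subtype.ext
    simpa using h48

/-- structure of a permutation of order 23 of the 24 points -/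
theorem ord23 {x : Equiv.Perm GolayPt} (hx : orderOf x = 23) :
    ∃ p0, x p0 = p0 ∧ ∀ q r, q ≠ p0 → r ≠ p0 → ∃ i : ℤ, (x ^ i) q = r := by
  classical
  have hp : Fact (Nat.Prime 23) := ⟨by norm_num⟩
  have hZcard : Nat.card (Subgroup.zpowers x) = 23 := by rw [Nat.card_zpowers, hx]
  have hpg : IsPGroup 23 (Subgroup.zpowers x) := IsPGroup.of_card (n := 1) (by rw [hZcard, pow_one])
  have hmod := hpg.card_modEq_card_fixedPoints GolayPt
  rw [card_GolayPt, Nat.card_coe_set_eq] at hmod
  have hmem : ∀ w : GolayPt, w ∈ MulAction.fixedPoints (Subgroup.zpowers x) GolayPt ↔ x w = w := by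
    intro w
    constructor
    · intro hw
      exact hw ⟨x, Subgroup.mem_zpowers _⟩
    · intro hw z
      obtain ⟨z, hz⟩ := z
      obtain ⟨i, rfl⟩ := Subgroup.mem_zpowers_iff.mp hz
      have h1 : x ∈ MulAction.stabilizer (Equiv.Perm GolayPt) w := hw
      exact zpow_mem h1 i
  set F := MulAction.fixedPoints (Subgroup.zpowers x) GolayPt with hF
  have hle : F.ncard ≤ 24 := by
    rw [← card_GolayPt, ← Set.ncard_univ]
    exact Set.ncard_le_ncard (Set.subset_univ _) (Set.toFinite _)
  have hne24 : F.ncard ≠ 24 := by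
    intro h24
    have : F = Set.univ := by
      apply Set.eq_of_subset_of_ncard_le (Set.subset_univ _) _ (Set.toFinite _)
      rw [Set.ncard_univ, card_GolayPt, h24]
    have hx1 : x = 1 := by
      ext1 w
      exact (hmem w).1 (this ▸ Set.mem_univ w)
    rw [hx1, orderOf_one] at hx
    omega
  have h1 : F.ncard = 1 := by
    unfold Nat.ModEq at hmod
    omega
  obtain ⟨p0, hp0⟩ := Set.ncard_eq_one.1 h1
  have hp0fix : x p0 = p0 := (hmem p0).1 (by rw [hp0]; rfl)
  refine ⟨p0, hp0fix, fun q r hq hr => ?_⟩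
  have hqnot : ¬ x q = q := by
    intro hh
    have : q ∈ F := (hmem q).2 hh
    rw [hp0] at this
    exact hq this
  -- the orbit of q has 23 elements
  have horb : (MulAction.orbit (Subgroup.zpowers x) q).ncard = 23 := by
    rw [← MulAction.index_stabilizer]
    have h2 := (MulAction.stabilizer (Subgroup.zpowers x) q).card_mul_index
    rw [hZcard] at h2
    have h3 : Nat.card (MulAction.stabilizer (Subgroup.zpowers x) q) ∣ 23 := ⟨_, h2.symm⟩
    rcases (Nat.dvd_prime hp.out).1 h3 with h4 | h4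
    · rw [h4] at h2; omega
    · exfalso
      have h5 : MulAction.stabilizer (Subgroup.zpowers x) q = ⊤ := by
        apply Subgroup.eq_top_of_card_eq
        rw [h4, hZcard]
      have h6 : (⟨x, Subgroup.mem_zpowers x⟩ : Subgroup.zpowers x) ∈
          MulAction.stabilizer (Subgroup.zpowers x) q := by rw [h5]; trivial
      exact hqnot h6
  have hsub : MulAction.orbit (Subgroup.zpowers x) q ⊆ ({p0} : Set GolayPt)ᶜ := by
    rintro _ ⟨⟨z, hz⟩, rfl⟩ hh
    obtain ⟨i, rfl⟩ := Subgroup.mem_zpowers_iff.mp hz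
    have h7 : (x ^ i) q = p0 := hh
    have h8 : (x ^ i) p0 = p0 := by
      have h1 : x ∈ MulAction.stabilizer (Equiv.Perm GolayPt) p0 := hp0fix
      exact zpow_mem h1 i
    exact hq ((x ^ i).injective (h7.trans h8.symm))
  have heq : MulAction.orbit (Subgroup.zpowers x) q = ({p0} : Set GolayPt)ᶜ := by
    apply Set.eq_of_subset_of_ncard_le hsub _ (Set.toFinite _)
    rw [horb, Set.ncard_compl, Set.ncard_singleton, card_GolayPt]
  have hr' : r ∈ MulAction.orbit (Subgroup.zpowers x) q := by rw [heq]; exact hr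
  obtain ⟨⟨z, hz⟩, hzr⟩ := hr'
  obtain ⟨i, rfl⟩ := Subgroup.mem_zpowers_iff.mp hz
  exact ⟨i, hzr⟩

theorem exists_ord23 (L : Subgroup (Equiv.Perm GolayPt)) (h : 23 ∣ Nat.card L) :
    ∃ x ∈ L, orderOf x = 23 := by
  have hp : Fact (Nat.Prime 23) := ⟨by norm_num⟩
  obtain ⟨x, hx⟩ := exists_prime_orderOf_dvd_card' 23 h
  exact ⟨x, x.2, by rw [Subgroup.orderOf_coe, hx]⟩

theorem A2 (L : Subgroup (Equiv.Perm GolayPt)) (hL : L ≤ M24) {p : GolayPt}
    (h : ∀ g ∈ L, g p = p) : Nat.card L ≠ 425040 := by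
  intro hcard
  obtain ⟨x, hxL, hx⟩ := exists_ord23 L (by rw [hcard]; norm_num)
  obtain ⟨p0, hp0, htr⟩ := ord23 hx
  have hpp : p = p0 := by
    by_contra hne
    obtain ⟨q, hq1, hq2⟩ : ∃ q : GolayPt, q ≠ p0 ∧ q ≠ p := by
      by_contra hcon
      push Not at hcon
      have : (Set.univ : Set GolayPt) ⊆ {p0, p} := by
        intro q _
        by_cases hq : q = p0
        · left; exact hq
        · right; exact hcon q hq
      have h2 := Set.ncard_le_ncard this (Set.toFinite _)
      rw [Set.ncard_univ, card_GolayPt] at h2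
      have := Set.ncard_pair (Ne.symm hne)
      omega
    obtain ⟨i, hi⟩ := htr p q hne hq1
    have : (x ^ i) p = p := h _ (L.zpow_mem hxL i)
    exact hq2 (hi.symm.trans this)
  subst hpp
  obtain ⟨q, hq⟩ : ∃ q : GolayPt, q ≠ p := by
    by_contra hcon
    push Not at hcon
    have : (Set.univ : Set GolayPt) ⊆ {p} := fun q _ => hcon q
    have h2 := Set.ncard_le_ncard this (Set.toFinite _)
    rw [Set.ncard_univ, card_GolayPt, Set.ncard_singleton] at h2
    omega
  have horb : MulAction.orbit L q = ({p} : Set GolayPt)ᶜ := by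
    ext r
    constructor
    · rintro ⟨⟨g, hg⟩, rfl⟩ hh
      have h7 : g q = p := hh
      exact hq (g.injective (h7.trans (h g hg).symm))
    · intro hr
      obtain ⟨i, hi⟩ := htr q r hq hr
      exact ⟨⟨x ^ i, L.zpow_mem hxL i⟩, hi⟩
  have h2 := (MulAction.stabilizer L q).card_mul_index
  rw [MulAction.index_stabilizer, horb, Set.ncard_compl, Set.ncard_singleton, card_GolayPt,
    hcard, card_stabilizer_subgroup] at h2
  refine A1 (L ⊓ MulAction.stabilizer (Equiv.Perm GolayPt) q) (inf_le_left.trans hL) (Ne.symm hq)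
    (fun g hg => ⟨h g hg.1, hg.2⟩) (by omega)

theorem A3 (H : Subgroup (Equiv.Perm GolayPt)) (hH : H ≤ M24) (hcard : Nat.card H = 10200960) :
    ∃ p, ∀ g ∈ H, g p = p := by
  obtain ⟨x, hxH, hx⟩ := exists_ord23 H (by rw [hcard]; norm_num)
  obtain ⟨p0, hp0, htr⟩ := ord23 hx
  refine ⟨p0, ?_⟩
  by_contra hcon
  push Not at hcon
  obtain ⟨h, hh, hne⟩ := hcon
  have horb : MulAction.orbit H p0 = Set.univ := by
    ext r
    simp only [Set.mem_univ, iff_true]
    by_cases hr : r = p0
    · rw [hr]; exact MulAction.mem_orbit_self _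
    · obtain ⟨i, hi⟩ := htr (h p0) r hne hr
      exact ⟨⟨x ^ i * h, H.mul_mem (H.zpow_mem hxH i) hh⟩, hi⟩
  have h2 := (MulAction.stabilizer H p0).card_mul_index
  rw [MulAction.index_stabilizer, horb, Set.ncard_univ, card_GolayPt,
    hcard, card_stabilizer_subgroup] at h2
  exact A2 (H ⊓ MulAction.stabilizer (Equiv.Perm GolayPt) p0) (inf_le_left.trans hH)
    (fun g hg => hg.2) (by omega)

end Cfsg.Agent.Lib.Helper9Idx24
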