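import Cfsg.Agent.Lib.Helper9Chain

set_option autoImplicit false
open Cfsg
open scoped Pointwise

namespace Cfsg.Agent.Lib.Helper9M24Data

open Cfsg.Agent.Lib.Helper9Golay Cfsg.Agent.Lib.Helper9Golay2 Cfsg.Agent.Lib.Helper9M24
open Cfsg.Agent.Lib.Helper9Chain

def al : List ℕ := [1, 2, 3, 4, 5, 6, 7, 8, 9, 10, 11, 12, 13, 14, 15, 16, 17, 18, 19, 20, 21, 22, 0, 23]
def ga : List ℕ := [23, 22, 11, 15, 17, 9, 19, 13, 20, 5, 16, 2, 21, 7, 18, 3, 10, 4, 14, 6, 8, 12, 1, 0]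
def de : List ℕ := [0, 18, 6, 3, 2, 21, 1, 5, 16, 12, 7, 19, 8, 9, 17, 15, 13, 11, 4, 22, 10, 20, 14, 23]

/-- the subgroup generated by the three standard permutations -/
def K : Subgroup (Equiv.Perm GolayPt) :=
  Subgroup.closure {Equiv.optionCongr (Equiv.addRight (1 : ZMod 23)), Cfsg.projInv, Cfsg.cubeTwist}

theorem tbl_al : tbl (Equiv.optionCongr (Equiv.addRight (1 : ZMod 23))) = al := by decide +kernel
theorem tbl_ga : tbl Cfsg.projInv = ga := by decide +kernel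
theorem tbl_de : tbl Cfsg.cubeTwist = de := by decide +kernel

def prog : List (ℕ × ℕ) :=
  [(2, 0), (2, 0), (1, 4), (0, 4), (0, 4), (3, 0), (7, 5), (2, 7), (0, 9), (0, 10), (3, 0), (12, 10),
  (6, 1), (3, 13), (0, 14), (0, 15), (4, 0), (4, 0), (7, 0), (0, 8), (0, 9), (5, 21), (0, 23), (0,
  25), (0, 25), (0, 25), (0, 26), (28, 0), (7, 0), (18, 0), (0, 19), (4, 32), (0, 33), (34, 0), (3,
  0), (29, 3), (25, 7), (4, 38), (2, 0), (2, 0), (34, 22), (0, 9), (24, 2), (0, 32), (15, 15), (0,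
  5), (0, 17), (9, 47), (6, 0), (5, 0), (3, 0), (50, 11), (0, 34), (21, 35), (14, 19), (0, 4), (8,
  56), (0, 59), (5, 0), (5, 0), (49, 0), (5, 0), (63, 64), (0, 62), (0, 46), (64, 33), (60, 37),
  (56, 32), (39, 39), (11, 70), (0, 71), (0, 72), (0, 74), (8, 0), (8, 0), (8, 0), (8, 0), (8, 0),
  (77, 46), (73, 47), (69, 69), (0, 70), (42, 31), (10, 84), (0, 84), (86, 0), (7, 0), (7, 0), (6,
  0), (6, 0), (28, 0), (92, 93), (93, 91), (1, 95), (2, 95), (3, 94), (4, 67), (5, 35), (6, 63),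
  (7, 48), (8, 22), (9, 10), (9, 104), (10, 41), (11, 53), (11, 107), (12, 95), (13, 89), (14, 68),
  (13, 110), (14, 92), (14, 113), (15, 113), (112, 112), (113, 82), (114, 86), (115, 76), (116,
  55), (117, 83), (118, 68), (119, 29), (7, 115), (8, 90), (8, 122), (9, 113), (10, 47), (11, 35),
  (11, 76), (12, 37), (12, 97), (13, 112), (12, 120), (13, 81), (13, 93), (128, 102), (129, 117),
  (130, 107), (131, 97), (132, 103), (133, 88), (134, 62), (109, 109), (110, 124), (111, 103),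
  (112, 93), (113, 67), (114, 55), (12, 141), (13, 119), (14, 98), (14, 118), (15, 116), (11, 146),
  (142, 142), (143, 136), (144, 126), (145, 116), (146, 95), (147, 123), (148, 108), (149, 69),
  (143, 121), (144, 100), (9, 152), (10, 129), (10, 136), (11, 126), (12, 105), (11, 117), (11,
  107), (7, 141), (142, 142), (143, 132), (133, 144), (134, 112), (135, 140), (136, 125), (137,
  99), (138, 87), (7, 117), (7, 118), (8, 146), (8, 120), (8, 154), (9, 122), (10, 150), (10, 146),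
  (11, 136), (126, 126), (154, 138), (155, 112), (156, 100), (141, 114), (142, 102), (116, 103),
  (5, 117), (6, 105), (6, 106), (5, 107), (3, 108)]

def T : List (List ℕ) := runSLP prog [de, ga, al, idl]

theorem T_sound : Sound K T := by
  apply runSLP_sound
  intro l hl
  simp only [List.mem_cons, List.not_mem_nil, or_false] at hl
  rcases hl with rfl | rfl | rfl | rfl
  · exact ⟨_, Subgroup.subset_closure (by simp), tbl_de⟩
  · exact ⟨_, Subgroup.subset_closure (by simp), tbl_ga⟩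
  · exact ⟨_, Subgroup.subset_closure (by simp), tbl_al⟩
  · exact ⟨1, K.one_mem, tbl_one⟩

def cert0 : List (ℕ × ℕ) :=
  [(0, 201), (1, 105), (2, 89), (3, 87), (4, 98), (5, 104), (6, 99), (7, 95), (8, 93), (9, 90), (10,
  92), (11, 101), (12, 102), (13, 100), (14, 88), (15, 103), (16, 96), (17, 91), (18, 97), (19,
  107), (20, 94), (21, 106), (22, 108), (23, 203)]

def cert1 : List (ℕ × ℕ) :=
  [(0, 203), (1, 86), (2, 69), (3, 66), (4, 71), (5, 83), (6, 77), (7, 80), (8, 70), (9, 74), (10,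
  67), (11, 85), (12, 73), (13, 72), (14, 68), (15, 81), (16, 82), (17, 75), (18, 78), (19, 199),
  (20, 76), (21, 79), (22, 84)]

def cert2 : List (ℕ × ℕ) :=
  [(1, 203), (2, 58), (3, 49), (4, 64), (5, 47), (6, 168), (7, 53), (8, 63), (9, 62), (10, 50), (11,
  60), (12, 48), (13, 61), (14, 56), (15, 65), (16, 57), (17, 52), (18, 194), (19, 51), (20, 59),
  (21, 55), (22, 54)]

def cert3 : List (ℕ × ℕ) :=
  [(2, 203), (3, 33), (4, 41), (5, 182), (6, 35), (7, 45), (8, 40), (9, 46), (10, 43), (11, 39), (12,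
  189), (13, 32), (14, 29), (15, 31), (16, 34), (17, 37), (18, 44), (19, 38), (20, 36), (21, 42),
  (22, 30)]

def cert4 : List (ℕ × ℕ) :=
  [(3, 203), (4, 22), (5, 20), (6, 21), (7, 160), (8, 17), (9, 16), (10, 24), (11, 15), (12, 13),
  (13, 25), (14, 28), (15, 12), (16, 26), (17, 171), (18, 14), (19, 23), (20, 18), (21, 27), (22,
  19)]

def cert5 : List (ℕ × ℕ) :=
  [(5, 203), (14, 11), (17, 138)]

def cert6 : List (ℕ × ℕ) :=
  [(4, 203), (6, 5), (7, 122), (8, 10), (9, 2), (10, 9), (11, 8), (12, 165), (13, 6), (15, 4), (16,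
  149), (18, 3), (19, 7), (20, 0), (21, 1), (22, 109)]

def fixProg : List (ℕ × ℕ × ℕ) :=
  [(0, 2162811, 0), (0, 8391797, 0), (1, 1, 0), (0, 786999, 0), (1, 1, 0), (2, 2, 0), (3, 0, 6), (0,
  11010247, 0), (1, 0, 5), (2, 1, 0), (0, 262637, 0), (1, 1, 0), (3, 0, 7), (0, 10486557, 0), (1,
  0, 10), (2, 1, 0), (0, 8421811, 0), (1, 1, 0), (3, 0, 8), (0, 4196943, 0), (0, 1050548, 0), (1,
  1, 0), (1, 0, 17), (2, 1, 0), (3, 0, 9), (0, 198058, 0), (1, 20, 0), (1, 0, 13), (2, 1, 0), (3,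
  0, 10), (0, 4459426, 0), (1, 24, 0), (1, 0, 10), (3, 0, 11), (0, 5279, 0), (0, 5249380, 0), (1,
  1, 0), (1, 0, 29), (2, 1, 0), (3, 0, 12), (0, 10558, 0), (0, 5252293, 0), (1, 1, 0), (1, 0, 34),
  (2, 1, 0), (3, 0, 13), (0, 18147, 0), (0, 5262104, 0), (1, 1, 0), (1, 0, 24), (2, 1, 0), (3, 0,
  14), (0, 36294, 0), (0, 5275709, 0), (1, 1, 0), (1, 0, 44), (2, 1, 0), (3, 0, 15), (0, 69395, 0),
  (0, 5309160, 0), (1, 1, 0), (1, 0, 34), (2, 1, 0), (3, 0, 16), (0, 133817, 0), (0, 5375810, 0),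
  (1, 1, 0), (1, 0, 39), (2, 1, 0), (3, 0, 17), (0, 5508118, 0), (1, 49, 0), (1, 0, 58), (2, 1, 0),
  (3, 0, 18), (0, 525274, 0), (0, 5770785, 0), (1, 1, 0), (1, 0, 48), (2, 1, 0), (3, 0, 19), (0,
  9963547, 0), (1, 50, 0), (1, 0, 67), (2, 1, 0), (3, 0, 20), (0, 2101096, 0), (0, 7340691, 0), (1,
  1, 0), (1, 0, 57), (2, 1, 0), (3, 0, 21), (0, 13108704, 0), (1, 60, 0), (1, 0, 76), (2, 1, 0),
  (3, 0, 22)]

theorem check0 : levelCheck T [] 23 cert0 = true := by decide +kernel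

theorem level0 : ∀ x ∈ cert0.map Prod.fst, ∃ g ∈ K ⊓ Fx [], g (pt x) = pt 23 :=
  level_sound T_sound (by decide) (by decide) check0

theorem check1 : levelCheck T [23] 0 cert1 = true := by decide +kernel

theorem level1 : ∀ x ∈ cert1.map Prod.fst, ∃ g ∈ K ⊓ Fx [23], g (pt x) = pt 0 :=
  level_sound T_sound (by decide) (by decide) check1

theorem check2 : levelCheck T [0, 23] 1 cert2 = true := by decide +kernel

theorem level2 : ∀ x ∈ cert2.map Prod.fst, ∃ g ∈ K ⊓ Fx [0, 23], g (pt x) = pt 1 :=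
  level_sound T_sound (by decide) (by decide) check2

theorem check3 : levelCheck T [1, 0, 23] 2 cert3 = true := by decide +kernel

theorem level3 : ∀ x ∈ cert3.map Prod.fst, ∃ g ∈ K ⊓ Fx [1, 0, 23], g (pt x) = pt 2 :=
  level_sound T_sound (by decide) (by decide) check3

theorem check4 : levelCheck T [2, 1, 0, 23] 3 cert4 = true := by decide +kernel

theorem level4 : ∀ x ∈ cert4.map Prod.fst, ∃ g ∈ K ⊓ Fx [2, 1, 0, 23], g (pt x) = pt 3 :=
  level_sound T_sound (by decide) (by decide) check4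

theorem check5 : levelCheck T [3, 2, 1, 0, 23] 5 cert5 = true := by decide +kernel

theorem level5 : ∀ x ∈ cert5.map Prod.fst, ∃ g ∈ K ⊓ Fx [3, 2, 1, 0, 23], g (pt x) = pt 5 :=
  level_sound T_sound (by decide) (by decide) check5

theorem check6 : levelCheck T [5, 3, 2, 1, 0, 23] 4 cert6 = true := by decide +kernel

theorem level6 : ∀ x ∈ cert6.map Prod.fst, ∃ g ∈ K ⊓ Fx [5, 3, 2, 1, 0, 23], g (pt x) = pt 4 :=
  level_sound T_sound (by decide) (by decide) check6

theorem trivial_stab : M24 ⊓ Fx [4, 5, 3, 2, 1, 0, 23] = ⊥ :=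
  trivial_of_prog _ fixProg (by decide +kernel)

end Cfsg.Agent.Lib.Helper9M24Data
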