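import Cfsg.Agent.Lib.Helper9ONPL

set_option autoImplicit false
set_option maxRecDepth 100000
set_option linter.constructorNameAsVariable false

/-! Centralisers in the O'Nan group by scanning the 122760 points with orbital invariants. -/

namespace Cfsg.Agent.Lib.Helper9ONC

open Cfsg.Agent.Lib.Helper35TC Cfsg.Agent.Lib.Helper35ONa Cfsg.Agent.Lib.Helper9ChainT
  Cfsg.Agent.Lib.Helper9ONW Cfsg.Agent.Lib.Helper9ONS Cfsg.Agent.Lib.Helper9ONPL

/-- action on natural numbers -/
noncomputable def ap (c : Gr) (a : ℕ) : ℕ :=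
  if h : a < K.P.n then ((ok.phi c) ⟨a, h⟩).val else a

theorem ap_lt (c : Gr) {a : ℕ} (h : a < K.P.n) : ap c a < K.P.n := by
  rw [ap, dif_pos h]; exact Fin.is_lt _

theorem ap_val (c : Gr) (j : Fin K.P.n) : ap c j.val = ((ok.phi c) j).val := by
  rw [ap, dif_pos j.2]

theorem ap_mul (c d : Gr) (a : ℕ) : ap (c * d) a = ap c (ap d a) := by
  by_cases h : a < K.P.n
  · rw [ap, dif_pos h, map_mul, Equiv.Perm.mul_apply, ← ap_val, ← ap_val]
  · have h1 : ap d a = a := by rw [ap, dif_neg h]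
    rw [h1, ap, dif_neg h, ap, dif_neg h]

theorem ap_one (a : ℕ) : ap 1 a = a := by
  by_cases h : a < K.P.n
  · rw [ap, dif_pos h, map_one]; rfl
  · rw [ap, dif_neg h]

theorem ap_inj (c : Gr) {a b : ℕ} (h : ap c a = ap c b) : a = b := by
  have := congrArg (ap c⁻¹) h
  rwa [← ap_mul, ← ap_mul, inv_mul_cancel, ap_one, ap_one] at this

theorem ap_ev (w : W) {a : ℕ} (h : a < K.P.n) : ap (ev w) a = act w false a := by
  rw [ap, dif_pos h]
  exact (act_spec w ⟨a, h⟩).1

/-- parent letter -/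
noncomputable def pl (p : ℕ) : ℕ :=
  Nat.land (Nat.shiftRight (tPL.get (Nat.shiftRight p 10)) (Nat.mul (Nat.land p 1023) 3)) 7

theorem pl_lt (p : ℕ) : pl p < 8 := by
  have : pl p ≤ 7 := Nat.and_le_right
  omega

/-- walk `p` towards `0` along the tree, moving `q` along -/
noncomputable def dw (fuel : ℕ) : ℕ → ℕ → ℕ :=
  Nat.rec (fun _ q => q)
    (fun _ ih p q => Nat.rec q
      (fun _ _ => strict (pl p) fun l => strict (P.A p l) fun p' => strict (P.A q l) fun q' =>
        ih p' q') p) fuel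

theorem dw_zero (p q : ℕ) : dw 0 p q = q := rfl

theorem dw_succ_zero (f q : ℕ) : dw (f + 1) 0 q = q := rfl

theorem dw_succ_succ (f p q : ℕ) :
    dw (f + 1) (p + 1) q = dw f (P.A (p + 1) (pl (p + 1))) (P.A q (pl (p + 1))) := rfl

theorem exists_letter {l : ℕ} (hl : l < 8) :
    ∃ g : Gr, ∀ a, a < K.P.n → ap g a = P.A a l := by
  obtain ⟨g, hg⟩ := ok.exists_phi_eq_val (l := l) hl
  refine ⟨g, fun a ha => ?_⟩
  rw [ap, dif_pos ha, hg]
  exact ok.hP.val_apply hl ⟨a, ha⟩

theorem dw_spec : ∀ (f p q : ℕ), p < K.P.n → q < K.P.n →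
    ∃ g : Gr, ap g p = dw f p p ∧ ap g q = dw f p q
  | 0, p, q, _, _ => ⟨1, by rw [ap_one, dw_zero], by rw [ap_one, dw_zero]⟩
  | f + 1, 0, q, _, _ => ⟨1, by rw [ap_one, dw_succ_zero], by rw [ap_one, dw_succ_zero]⟩
  | f + 1, p + 1, q, hp, hq => by
    obtain ⟨g1, hg1⟩ := exists_letter (pl_lt (p + 1))
    have h1 := hg1 _ hp
    have h2 := hg1 _ hq
    obtain ⟨g, hg, hg'⟩ := dw_spec f (P.A (p + 1) (pl (p + 1))) (P.A q (pl (p + 1)))
      (by rw [← h1]; exact ap_lt _ hp) (by rw [← h2]; exact ap_lt _ hq)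
    refine ⟨g * g1, ?_, ?_⟩
    · rw [ap_mul, h1, hg, dw_succ_succ]
    · rw [ap_mul, h2, hg', dw_succ_succ]

/-- the fuel used everywhere -/
def F : ℕ := 122760

/-- every walk reaches `0` -/
def Reach : Prop := ∀ p < 122760, dw F p p = 0

theorem lab_ap_of_fix {h : Gr} (h0 : ap h 0 = 0) {j : ℕ} (hj : j < K.P.n) :
    P.lab (ap h j) = P.lab j := by
  have hH : h ∈ K.H := by
    rw [ok.mem_H_iff]
    apply Fin.ext
    have := ap_val h ok.zero
    rw [← this]
    exact h0
  have := ok.lab_invariant horb h hH ⟨j, hj⟩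
  rw [← ap_val] at this
  exact this

theorem dlab_inv (hr : Reach) (c : Gr) {p q : ℕ} (hp : p < K.P.n) (hq : q < K.P.n) :
    P.lab (dw F (ap c p) (ap c q)) = P.lab (dw F p q) := by
  obtain ⟨g1, h1, h1'⟩ := dw_spec F p q hp hq
  obtain ⟨g2, h2, h2'⟩ := dw_spec F (ap c p) (ap c q) (ap_lt c hp) (ap_lt c hq)
  rw [hr p hp] at h1
  rw [hr _ (ap_lt c hp)] at h2
  have h0 : ap (g2 * c * g1⁻¹) 0 = 0 := by
    have : ap g1⁻¹ 0 = p := by
      rw [← h1, ← ap_mul, inv_mul_cancel, ap_one]
    rw [ap_mul, this, ap_mul, h2]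
  have h3 := lab_ap_of_fix h0 (j := ap g1 q) (ap_lt _ hq)
  rw [← ap_mul, inv_mul_cancel_right, ap_mul, h2', h1'] at h3
  exact h3

/-- A test `(w, k, a, e)`: `w` is a word for the `k`-th power of the centralised element; `a` is an
anchor point, or `122760` (the point itself), or `122761` (test `w p = p`). -/
abbrev Tst := W × ℕ × ℕ × ℕ

noncomputable def tst (t : Tst) (p : ℕ) : Bool :=
  strict (act t.1 false p) fun q =>
    Bool.rec
      (Bool.rec (Nat.beq (P.lab (dw F t.2.2.1 q)) t.2.2.2) (Nat.beq (P.lab (dw F p q)) t.2.2.2)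
        (Nat.beq t.2.2.1 122760))
      (Nat.beq q p) (Nat.beq t.2.2.1 122761)

theorem tst_eq (t : Tst) (p : ℕ) : tst t p =
    if t.2.2.1 = 122761 then Nat.beq (act t.1 false p) p
    else if t.2.2.1 = 122760 then Nat.beq (P.lab (dw F p (act t.1 false p))) t.2.2.2
    else Nat.beq (P.lab (dw F t.2.2.1 (act t.1 false p))) t.2.2.2 := by
  unfold tst
  simp only [strict_eq]
  by_cases h1 : t.2.2.1 = 122761
  · have : Nat.beq t.2.2.1 122761 = true := by rw [Nat.beq_eq]; exact h1
    rw [this, if_pos h1]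
  · have e1 : Nat.beq t.2.2.1 122761 = false := by
      cases h : Nat.beq t.2.2.1 122761
      · rfl
      · exact absurd (Nat.beq_eq ▸ h) h1
    rw [e1, if_neg h1]
    by_cases h2 : t.2.2.1 = 122760
    · have : Nat.beq t.2.2.1 122760 = true := by rw [Nat.beq_eq]; exact h2
      rw [this, if_pos h2]
    · have e2 : Nat.beq t.2.2.1 122760 = false := by
        cases h : Nat.beq t.2.2.1 122760
        · rfl
        · exact absurd (Nat.beq_eq ▸ h) h2
      rw [e2, if_neg h2]

theorem beq_congr {a b a' b' : ℕ} (h : a = b ↔ a' = b') : Nat.beq a b = Nat.beq a' b' := by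
  cases h1 : Nat.beq a b <;> cases h2 : Nat.beq a' b'
  · rfl
  · have := h.mpr (Nat.beq_eq ▸ h2)
    rw [this] at h1
    have h3 : Nat.beq b b = true := Nat.beq_eq ▸ rfl
    rw [h3] at h1; exact absurd h1 (by simp)
  · have := h.mp (Nat.beq_eq ▸ h1)
    rw [this] at h2
    have h3 : Nat.beq b' b' = true := Nat.beq_eq ▸ rfl
    rw [h3] at h2; exact absurd h2 (by simp)
  · rfl

/-- invariance of a test under an element commuting with the word and moving the anchor `a1`
to `a2` -/
theorem tst_inv (hr : Reach) (w : W) (k a1 a2 e : ℕ) (c : Gr) (hc : Commute c (ev w))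
    (ha : (122760 ≤ a1 ∧ a1 ≤ 122761 ∧ a2 = a1) ∨ (a1 < 122760 ∧ ap c a1 = a2))
    {β : ℕ} (hβ : β < K.P.n) :
    tst (w, k, a2, e) (ap c β) = tst (w, k, a1, e) β := by
  have hq : act w false (ap c β) = ap c (act w false β) := by
    rw [← ap_ev _ (ap_lt c hβ), ← ap_ev _ hβ, ← ap_mul, ← ap_mul, hc.eq]
  have hqlt : act w false β < K.P.n := by
    rw [← ap_ev _ hβ]; exact ap_lt _ hβ
  rw [tst_eq, tst_eq]
  simp only
  rw [hq]
  rcases ha with ⟨h1, h2, h3⟩ | ⟨h1, h2⟩
  · subst h3
    split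
    · exact beq_congr ⟨fun h => ap_inj c h, fun h => by rw [h]⟩
    · rename_i h3
      have h4 : a2 = 122760 := by omega
      rw [if_pos h4, if_pos h4, dlab_inv hr c hβ hqlt]
  · have h3 : a2 < 122760 := by rw [← h2]; exact ap_lt c h1
    rw [if_neg (by omega), if_neg (by omega), if_neg (by omega), if_neg (by omega), ← h2,
      dlab_inv hr c h1 hqlt]

noncomputable def parChk (p : ℕ) : Bool :=
  Nat.ble 122760 p || (Nat.beq p 0 || Nat.ble (Nat.succ (P.A p (pl p))) p)

theorem parChk_all : allD parChk 17 0 = true := by decide +kernel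

theorem par_lt {p : ℕ} (hp : p < 122760) (h0 : p ≠ 0) : P.A p (pl p) < p := by
  have h := all_of_allD parChk 17 122760 (by norm_num) parChk_all p hp
  unfold parChk at h
  rw [Bool.or_eq_true, Bool.or_eq_true, Nat.ble_eq, Nat.beq_eq, Nat.ble_eq] at h
  rcases h with h | h | h
  · omega
  · exact absurd h h0
  · exact h

theorem reach_aux : ∀ (f p : ℕ), p ≤ f → p < 122760 → dw f p p = 0
  | 0, p, h, _ => by
    have : p = 0 := by omega
    rw [this, dw_zero]
  | f + 1, 0, _, _ => dw_succ_zero f 0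
  | f + 1, p + 1, h, hp => by
    rw [dw_succ_succ]
    have h1 := par_lt hp (by omega)
    exact reach_aux f _ (by omega) (by omega)

theorem reach : Reach := fun p hp => reach_aux F p (by unfold F; omega) hp

noncomputable def sigChk (tests : List Tst) (p : ℕ) : Bool := allL (fun t => tst t p) tests

noncomputable def memL (l : List ℕ) (p : ℕ) : Bool :=
  List.rec false (fun a _ ih => Bool.rec ih true (Nat.beq a p)) l

theorem memL_spec : ∀ (l : List ℕ) (p : ℕ), memL l p = true → p ∈ l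
  | [], _, h => by simp [memL] at h
  | a :: l, p, h => by
    have h' : @Bool.rec (fun _ => Bool) (memL l p) true (Nat.beq a p) = true := h
    cases hp : Nat.beq a p with
    | false =>
      rw [hp] at h'
      exact List.mem_cons_of_mem _ (memL_spec l p h')
    | true =>
      have : a = p := Nat.beq_eq ▸ hp
      rw [this]; exact List.mem_cons_self

noncomputable def scanChk (tests : List Tst) (al : List ℕ) (p : ℕ) : Bool :=
  Nat.ble 122760 p || Bool.rec true (memL al p) (sigChk tests p)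

theorem scan_spec {tests : List Tst} {al : List ℕ} {p : ℕ} (hp : p < 122760)
    (h : scanChk tests al p = true) (h2 : sigChk tests p = true) : p ∈ al := by
  unfold scanChk at h
  rw [Bool.or_eq_true, Nat.ble_eq, h2] at h
  rcases h with h | h
  · omega
  · exact memL_spec _ _ h

theorem ap_inv_of_fix {c : Gr} {a : ℕ} (h : ap c a = a) : ap c⁻¹ a = a := by
  have := congrArg (ap c⁻¹) h
  rw [← ap_mul, inv_mul_cancel, ap_one] at this
  exact this.symm

/-- partial information on an element: `a ↦ a'` -/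
abbrev Asg := List (ℕ × ℕ)

def Holds (c : Gr) (A : Asg) : Prop := ∀ x ∈ A, ap c x.1 = x.2

/-- every element commuting with `u` and compatible with `A` is a power of `s` -/
def Claim (u s : W) (A : Asg) : Prop :=
  ∀ c : Gr, Commute c (ev u) → Holds c A → c ∈ Subgroup.zpowers (ev s)

/-- tests `(w, k, a1, a2, e)` -/
abbrev Tst5 := W × ℕ × ℕ × ℕ × ℕ

def T1 (t : Tst5) : Tst := (t.1, t.2.1, t.2.2.1, t.2.2.2.2)
def T2 (t : Tst5) : Tst := (t.1, t.2.1, t.2.2.2.1, t.2.2.2.2)

noncomputable def memA (A : Asg) (a1 a2 : ℕ) : Bool :=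
  List.rec false (fun x _ ih => Bool.rec ih true (Nat.beq x.1 a1 && Nat.beq x.2 a2)) A

theorem memA_spec : ∀ (A : Asg) (a1 a2 : ℕ), memA A a1 a2 = true → (a1, a2) ∈ A
  | [], _, _, h => by simp [memA] at h
  | x :: l, a1, a2, h => by
    have h' : @Bool.rec (fun _ => Bool) (memA l a1 a2) true (Nat.beq x.1 a1 && Nat.beq x.2 a2) = true := h
    cases hp : (Nat.beq x.1 a1 && Nat.beq x.2 a2) with
    | false =>
      rw [hp] at h'
      exact List.mem_cons_of_mem _ (memA_spec l a1 a2 h')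
    | true =>
      rw [Bool.and_eq_true, Nat.beq_eq, Nat.beq_eq] at hp
      have : x = (a1, a2) := Prod.ext hp.1 hp.2
      rw [this]; exact List.mem_cons_self

noncomputable def validT (A : Asg) (t : Tst5) : Bool :=
  (Nat.ble 122760 t.2.2.1 && (Nat.ble t.2.2.1 122761 && Nat.beq t.2.2.2.1 t.2.2.1)) ||
    memA A t.2.2.1 t.2.2.2.1

theorem allL_intro {β : Type} (p : β → Bool) : ∀ l : List β, (∀ a ∈ l, p a = true) → allL p l = true
  | [], _ => rfl
  | b :: l, h => by
    show @Bool.rec (fun _ => Bool) false (allL p l) (p b) = true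
    rw [h b (by simp)]
    exact allL_intro p l (fun a ha => h a (by simp [ha]))

/-- One step of the determination of a centraliser. -/
theorem step (u s : W) (hsu : Commute (ev s) (ev u)) (A : Asg) (b : ℕ)
    (tests : List Tst5) (al : List (ℕ × ℕ × ℕ))
    (hb : b < 122760) (hA : ∀ x ∈ A, x.1 < 122760 ∧ x.2 < 122760)
    (hw : allL (fun t : Tst5 => eqChk t.1 (.pow u t.2.1)) tests = true)
    (hv : allL (validT A) tests = true)
    (hbc : sigChk (tests.map T1) b = true)
    (hscan : ∀ p < 122760, scanChk (tests.map T2) (al.map Prod.fst) p = true)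
    (hal : allL (fun r : ℕ × ℕ × ℕ => Nat.ble (Nat.succ r.2.2) 122760 &&
      (Nat.beq (act (.pow s r.2.1) false r.2.2) r.1 &&
      allL (fun x : ℕ × ℕ => Nat.beq (act (.pow s r.2.1) false x.2) x.2) A)) al = true)
    (hnext : ∀ r ∈ al, Claim u s ((b, r.2.2) :: A)) : Claim u s A := by
  intro c hc hfixc
  have hb' : b < K.P.n := hb
  have hsig : sigChk (tests.map T2) (ap c b) = true := by
    apply allL_intro
    intro t2 ht2
    obtain ⟨t, ht, rfl⟩ := List.mem_map.mp ht2
    have h1 := allL_spec _ _ hbc (T1 t) (List.mem_map_of_mem ht)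
    have h2 := eq_of_chk (allL_spec _ _ hw t ht)
    have h3 := allL_spec _ _ hv t ht
    rw [ev_pow] at h2
    show tst (t.1, t.2.1, t.2.2.2.1, t.2.2.2.2) (ap c b) = true
    rw [tst_inv reach t.1 t.2.1 t.2.2.1 t.2.2.2.1 t.2.2.2.2 c (by rw [h2]; exact hc.pow_right _) ?_ hb']
    · exact h1
    · unfold validT at h3
      rw [Bool.or_eq_true, Bool.and_eq_true, Bool.and_eq_true, Nat.ble_eq, Nat.ble_eq,
        Nat.beq_eq] at h3
      rcases h3 with h3 | h3
      · exact Or.inl ⟨h3.1, h3.2.1, h3.2.2⟩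
      · have h4 := memA_spec _ _ _ h3
        exact Or.inr ⟨(hA _ h4).1, hfixc _ h4⟩
  have hmem := scan_spec (ap_lt c hb') (hscan _ (ap_lt c hb')) hsig
  obtain ⟨r, hr, hr1⟩ := List.mem_map.mp hmem
  have h4 := allL_spec _ _ hal r hr
  rw [Bool.and_eq_true, Bool.and_eq_true, Nat.ble_eq, Nat.beq_eq] at h4
  obtain ⟨h4r, h5, h6⟩ := h4
  have h4r' : r.2.2 < K.P.n := h4r
  set ℓ := ev (.pow s r.2.1) with hℓ
  have hℓβ : ap ℓ r.2.2 = ap c b := by rw [hℓ, ap_ev _ h4r', h5, hr1]
  have hℓa : ∀ x ∈ A, ap ℓ x.2 = x.2 := by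
    intro x hx
    have := allL_spec _ _ h6 x hx
    rw [Nat.beq_eq] at this
    rw [hℓ, ap_ev _ (hA x hx).2, this]
  have hℓu : Commute ℓ (ev u) := by rw [hℓ, ev_pow]; exact hsu.pow_left _
  have hℓM : ℓ ∈ Subgroup.zpowers (ev s) := by
    rw [hℓ, ev_pow]; exact Subgroup.pow_mem _ (Subgroup.mem_zpowers _) _
  have h7 := hnext r hr (ℓ⁻¹ * c) (hℓu.inv_left.mul_left hc) (by
    intro x hx
    rw [ap_mul]
    rcases List.mem_cons.mp hx with rfl | hx
    · show ap ℓ⁻¹ (ap c b) = r.2.2
      rw [← hℓβ, ← ap_mul, inv_mul_cancel, ap_one]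
    · rw [hfixc x hx]; exact ap_inv_of_fix (hℓa x hx))
  have := Subgroup.mul_mem _ hℓM h7
  rwa [mul_inv_cancel_left] at this

theorem base_pts : BD.base.map BD.pt = [27, 12, 16, 40, 51] := by decide +kernel

theorem base_case (u s : W) (A : Asg)
    (hsub : ∀ a ∈ [0, 27, 12, 16, 40, 51], (a, a) ∈ A) : Claim u s A := by
  intro c _ hc
  have : c = 1 := by
    apply hfix
    · apply Fin.ext
      rw [← ap_val]
      exact hc _ (hsub 0 (by simp))
    · intro b hb
      apply Fin.ext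
      rw [← ap_val, ok.qpt_val hBD (hBD.hbase b hb)]
      apply hc (BD.pt b, BD.pt b)
      apply hsub
      have : BD.pt b ∈ BD.base.map BD.pt := List.mem_map_of_mem hb
      rw [base_pts] at this
      exact List.mem_cons_of_mem _ this
  rw [this]; exact Subgroup.one_mem _

theorem scan_of_allD {tests : List Tst} {al : List ℕ}
    (h : allD (scanChk tests al) 17 0 = true) : ∀ p < 122760, scanChk tests al p = true :=
  all_of_allD _ 17 122760 (by norm_num) h

end Cfsg.Agent.Lib.Helper9ONC
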