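import Cfsg.Agent.Lib.Helper9ONF1d
set_option maxRecDepth 100000
set_option autoImplicit false
set_option linter.constructorNameAsVariable false
namespace Cfsg.Agent.Lib.Helper9ONF1c3
open Cfsg.Agent.Lib.Helper35TC Cfsg.Agent.Lib.Helper35ONa Cfsg.Agent.Lib.Helper9ONW Cfsg.Agent.Lib.Helper9ONS Cfsg.Agent.Lib.Helper9ONC
open Cfsg.Agent.Lib.Helper9ONF1d
theorem c : allD (scanChk (TT0.map T2) (AL0.map Prod.fst)) 14 49152 = true := by decide +kernel
end Cfsg.Agent.Lib.Helper9ONF1c3
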