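import Cfsg.Agent.Lib.Helper9ONF1b
import Cfsg.Agent.Lib.Helper9ONF1c0
import Cfsg.Agent.Lib.Helper9ONF1c1
import Cfsg.Agent.Lib.Helper9ONF1c2
import Cfsg.Agent.Lib.Helper9ONF1c3
import Cfsg.Agent.Lib.Helper9ONF1c4
import Cfsg.Agent.Lib.Helper9ONF1c5
import Cfsg.Agent.Lib.Helper9ONF1c6
import Cfsg.Agent.Lib.Helper9ONF1c7
set_option maxRecDepth 100000
set_option autoImplicit false
set_option linter.constructorNameAsVariable false

/-! The centraliser of an element of order `11` of the O'Nan group is cyclic of order `11`. -/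

namespace Cfsg.Agent.Lib.Helper9ONF1
open Cfsg.Agent.Lib.Helper35TC Cfsg.Agent.Lib.Helper35ONa Cfsg.Agent.Lib.Helper9ONW Cfsg.Agent.Lib.Helper9ONS Cfsg.Agent.Lib.Helper9ONC
open Cfsg.Agent.Lib.Helper9ONF1d Cfsg.Agent.Lib.Helper9ONF1b

theorem scan0 : allD (scanChk (TT0.map T2) (AL0.map Prod.fst)) 17 0 = true :=
  allD_join
    (allD_join
      (allD_join Cfsg.Agent.Lib.Helper9ONF1c0.c Cfsg.Agent.Lib.Helper9ONF1c1.c (by norm_num))
      (allD_join Cfsg.Agent.Lib.Helper9ONF1c2.c Cfsg.Agent.Lib.Helper9ONF1c3.c (by norm_num))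
      (by norm_num))
    (allD_join
      (allD_join Cfsg.Agent.Lib.Helper9ONF1c4.c Cfsg.Agent.Lib.Helper9ONF1c5.c (by norm_num))
      (allD_join Cfsg.Agent.Lib.Helper9ONF1c6.c Cfsg.Agent.Lib.Helper9ONF1c7.c (by norm_num))
      (by norm_num))
    (by norm_num)

theorem tau_zero : act tau false 0 = 69 := by decide +kernel

theorem claim69 : Claim X0 X0 [(69, 69)] := by
  intro c hc hA
  have h69 : ap c 69 = 69 := hA (69, 69) (by simp)
  have htau : ap (ev tau) 0 = 69 := by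
    rw [ap_ev _ (show 0 < K.P.n by decide +kernel)]; exact tau_zero
  set T : Gr := (ev tau)⁻¹ with hT
  have hT' : ev tau = T⁻¹ := by rw [hT, inv_inv]
  have hX : ev X = T * ev X0 * T⁻¹ := by
    rw [X, ev_mul, ev_inv, ev_mul, ← hT, hT', mul_assoc]
  have h1 := claimX (T * c * T⁻¹) (by rw [hX]; exact (Commute.conj_iff T).mpr hc) (by
    intro y hy
    have : y = (0, 0) := by simpa using hy
    subst this
    show ap (T * c * T⁻¹) 0 = 0
    rw [ap_mul, ap_mul, ← hT', htau, h69, ← htau, ← ap_mul, hT, inv_mul_cancel, ap_one])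
  obtain ⟨n, hn⟩ := Subgroup.mem_zpowers_iff.mp h1
  rw [hX, conj_zpow] at hn
  have h2 : ev X0 ^ n = c := mul_left_cancel (mul_right_cancel hn)
  rw [← h2]
  exact Subgroup.zpow_mem_zpowers _ _

theorem claim0 : Claim X0 X0 [] :=
  step X0 X0 (Commute.refl _) [] 69 TT0 AL0 (by norm_num) (by simp) (by decide +kernel)
    (by decide +kernel) (by decide +kernel) (scan_of_allD scan0) (by decide +kernel)
    (by
    intro r hr
    simp only [AL0, List.mem_cons, List.not_mem_nil, or_false] at hr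
    rcases hr with rfl | rfl | rfl | rfl | rfl | rfl | rfl | rfl | rfl | rfl | rfl <;>
      exact claim69)

theorem cent_X0 : ∀ c : Gr, Commute c (ev X0) → c ∈ Subgroup.zpowers (ev X0) :=
  fun c hc => claim0 c hc (by intro y hy; simp at hy)

theorem cent_conj {G : Type*} [Group G] {y : G} (t : G)
    (h : ∀ c : G, Commute c y → c ∈ Subgroup.zpowers y) :
    ∀ c : G, Commute c (t * y * t⁻¹) → c ∈ Subgroup.zpowers (t * y * t⁻¹) := by
  intro c hc
  have h1 : Commute (t⁻¹ * c * t⁻¹⁻¹) (t⁻¹ * (t * y * t⁻¹) * t⁻¹⁻¹) := (Commute.conj_iff t⁻¹).mpr hc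
  have h2 : t⁻¹ * (t * y * t⁻¹) * t⁻¹⁻¹ = y := by group
  rw [h2] at h1
  obtain ⟨n, hn⟩ := Subgroup.mem_zpowers_iff.mp (h _ h1)
  have h3 : c = t * y ^ n * t⁻¹ := by rw [hn]; group
  rw [h3, ← conj_zpow]
  exact Subgroup.zpow_mem_zpowers _ _

def x : W := (.mul (.inv (.of .g)) (.mul (.of .c) (.mul (.of .e) (.mul (.of .d) (.mul (.of .c) (.mul (.of .b) (.mul (.inv (.of .g)) (.mul (.of .c) (.mul (.of .e) (.mul (.of .d) (.mul (.inv (.of .g)) (.mul (.of .c) (.mul (.of .d) (.mul (.of .b) (.mul (.of .c) (.mul (.of .g) (.mul (.of .e) (.mul (.of .g) (.mul (.of .d) (.mul (.of .e) (.mul (.of .c) (.inv (.of .g)))))))))))))))))))))))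
def kk : W := (.mul (.of .g) (.mul (.of .c) (.mul (.of .b) (.mul (.of .d) (.mul (.of .e) (.mul (.inv (.of .g)) (.mul (.of .c) (.mul (.of .d) (.mul (.of .e) (.mul (.inv (.of .g)) (.mul (.of .b) (.mul (.inv (.of .g)) (.mul (.of .c) (.mul (.of .d) (.mul (.of .b) (.mul (.of .g) (.mul (.of .e) (.mul (.of .c) (.mul (.of .d) (.mul (.of .g) (.mul (.of .e) (.mul (.inv (.of .g)) (.mul (.of .d) (.mul (.of .b) (.of .c)))))))))))))))))))))))))

theorem x_eq : ev x = ev kk * ev X0 * (ev kk)⁻¹ := by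
  have h : eqChk x (.mul (.mul kk X0) (.inv kk)) = true := by decide +kernel
  rw [eq_of_chk h, ev_mul, ev_mul, ev_inv]

theorem cent_x : ∀ c : Gr, Commute c (ev x) → c ∈ Subgroup.zpowers (ev x) := by
  rw [x_eq]
  exact cent_conj _ cent_X0

end Cfsg.Agent.Lib.Helper9ONF1
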