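import Cfsg.Agent.Lib.Helper9ONF1d
set_option maxRecDepth 100000
set_option autoImplicit false
set_option linter.constructorNameAsVariable false
namespace Cfsg.Agent.Lib.Helper9ONF1b
open Cfsg.Agent.Lib.Helper35TC Cfsg.Agent.Lib.Helper35ONa Cfsg.Agent.Lib.Helper9ONW Cfsg.Agent.Lib.Helper9ONS Cfsg.Agent.Lib.Helper9ONC
open Cfsg.Agent.Lib.Helper9ONF1d
theorem claim1 : Claim X X [(51, 51), (40, 40), (16, 16), (12, 12), (27, 27), (0, 0)] :=
  base_case _ _ _ (by decide)
def TT2 : List Tst5 := [((.pow X 0), 0, 0, 0, 3), ((.pow X 0), 0, 16, 16, 2), ((.pow X 0), 0, 12, 12, 1), ((.pow X 0), 0, 40, 40, 1), ((.pow X 0), 0, 27, 27, 1), ((.pow X 1), 1, 0, 0, 3), ((.pow X 1), 1, 16, 16, 1), ((.pow X 1), 1, 12, 12, 1), ((.pow X 1), 1, 40, 40, 1), ((.pow X 1), 1, 27, 27, 1)]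
def AL2 : List (ℕ × ℕ × ℕ) := [(51, 0, 51)]
theorem scan2 : allD (scanChk (TT2.map T2) (AL2.map Prod.fst)) 17 0 = true := by decide +kernel
theorem claim2 : Claim X X [(40, 40), (16, 16), (12, 12), (27, 27), (0, 0)] :=
  step X X (Commute.refl _) [(40, 40), (16, 16), (12, 12), (27, 27), (0, 0)] 51 TT2 AL2 (by norm_num) (by decide +kernel) (by decide +kernel)
    (by decide +kernel) (by decide +kernel) (scan_of_allD scan2) (by decide +kernel)
    (by
    intro r hr
    simp only [AL2, List.mem_cons, List.not_mem_nil, or_false] at hr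
    rcases hr with rfl <;> first | exact claim1)
def TT3 : List Tst5 := [((.pow X 0), 0, 0, 0, 3), ((.pow X 0), 0, 16, 16, 1), ((.pow X 0), 0, 12, 12, 2), ((.pow X 0), 0, 27, 27, 2), ((.pow X 1), 1, 0, 0, 1), ((.pow X 1), 1, 16, 16, 1), ((.pow X 1), 1, 12, 12, 1), ((.pow X 1), 1, 27, 27, 2), ((.pow X 2), 2, 0, 0, 2), ((.pow X 2), 2, 16, 16, 2), ((.pow X 2), 2, 12, 12, 1), ((.pow X 2), 2, 27, 27, 2), ((.pow X 3), 3, 0, 0, 2), ((.pow X 3), 3, 16, 16, 2)]
def AL3 : List (ℕ × ℕ × ℕ) := [(40, 0, 40)]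
theorem scan3 : allD (scanChk (TT3.map T2) (AL3.map Prod.fst)) 17 0 = true := by decide +kernel
theorem claim3 : Claim X X [(16, 16), (12, 12), (27, 27), (0, 0)] :=
  step X X (Commute.refl _) [(16, 16), (12, 12), (27, 27), (0, 0)] 40 TT3 AL3 (by norm_num) (by decide +kernel) (by decide +kernel)
    (by decide +kernel) (by decide +kernel) (scan_of_allD scan3) (by decide +kernel)
    (by
    intro r hr
    simp only [AL3, List.mem_cons, List.not_mem_nil, or_false] at hr
    rcases hr with rfl <;> first | exact claim2)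
def TT4 : List Tst5 := [((.pow X 0), 0, 0, 0, 3), ((.pow X 0), 0, 12, 12, 1), ((.pow X 0), 0, 27, 27, 1), ((.pow X 1), 1, 0, 0, 1), ((.pow X 1), 1, 12, 12, 2), ((.pow X 1), 1, 27, 27, 1), ((.pow X 2), 2, 0, 0, 2), ((.pow X 2), 2, 12, 12, 1), ((.pow X 2), 2, 27, 27, 2), ((.pow X 3), 3, 0, 0, 2), ((.pow X 1), 1, 122760, 122760, 3)]
def AL4 : List (ℕ × ℕ × ℕ) := [(16, 0, 16)]
theorem scan4 : allD (scanChk (TT4.map T2) (AL4.map Prod.fst)) 17 0 = true := by decide +kernel
theorem claim4 : Claim X X [(12, 12), (27, 27), (0, 0)] :=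
  step X X (Commute.refl _) [(12, 12), (27, 27), (0, 0)] 16 TT4 AL4 (by norm_num) (by decide +kernel) (by decide +kernel)
    (by decide +kernel) (by decide +kernel) (scan_of_allD scan4) (by decide +kernel)
    (by
    intro r hr
    simp only [AL4, List.mem_cons, List.not_mem_nil, or_false] at hr
    rcases hr with rfl <;> first | exact claim3)
def TT5 : List Tst5 := [((.pow X 0), 0, 0, 0, 3), ((.pow X 0), 0, 27, 27, 2), ((.pow X 1), 1, 0, 0, 3), ((.pow X 1), 1, 27, 27, 4), ((.pow X 2), 2, 0, 0, 1), ((.pow X 2), 2, 27, 27, 1), ((.pow X 1), 1, 122760, 122760, 2)]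
def AL5 : List (ℕ × ℕ × ℕ) := [(12, 0, 12)]
theorem scan5 : allD (scanChk (TT5.map T2) (AL5.map Prod.fst)) 17 0 = true := by decide +kernel
theorem claim5 : Claim X X [(27, 27), (0, 0)] :=
  step X X (Commute.refl _) [(27, 27), (0, 0)] 12 TT5 AL5 (by norm_num) (by decide +kernel) (by decide +kernel)
    (by decide +kernel) (by decide +kernel) (scan_of_allD scan5) (by decide +kernel)
    (by
    intro r hr
    simp only [AL5, List.mem_cons, List.not_mem_nil, or_false] at hr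
    rcases hr with rfl <;> first | exact claim4)
def TT6 : List Tst5 := [((.pow X 0), 0, 0, 0, 3), ((.pow X 1), 1, 0, 0, 1), ((.pow X 2), 2, 0, 0, 2), ((.pow X 3), 3, 0, 0, 1), ((.pow X 1), 1, 122760, 122760, 2), ((.pow X 4), 4, 0, 0, 1), ((.pow X 2), 2, 122760, 122760, 2), ((.pow X 5), 5, 0, 0, 2), ((.pow X 3), 3, 122760, 122760, 1), ((.pow X 6), 6, 0, 0, 2), ((.pow X 4), 4, 122760, 122760, 1), ((.pow X 7), 7, 0, 0, 1), ((.pow X 5), 5, 122760, 122760, 2)]
def AL6 : List (ℕ × ℕ × ℕ) := [(27, 0, 27)]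
theorem scan6 : allD (scanChk (TT6.map T2) (AL6.map Prod.fst)) 17 0 = true := by decide +kernel
theorem claim6 : Claim X X [(0, 0)] :=
  step X X (Commute.refl _) [(0, 0)] 27 TT6 AL6 (by norm_num) (by decide +kernel) (by decide +kernel)
    (by decide +kernel) (by decide +kernel) (scan_of_allD scan6) (by decide +kernel)
    (by
    intro r hr
    simp only [AL6, List.mem_cons, List.not_mem_nil, or_false] at hr
    rcases hr with rfl <;> first | exact claim5)
theorem claimX : Claim X X [(0, 0)] := claim6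
end Cfsg.Agent.Lib.Helper9ONF1b
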