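import Cfsg.Agent.Lib.Helper9ONC
set_option maxRecDepth 100000
set_option autoImplicit false
set_option linter.constructorNameAsVariable false
namespace Cfsg.Agent.Lib.Helper9ONF1d
open Cfsg.Agent.Lib.Helper35TC Cfsg.Agent.Lib.Helper35ONa Cfsg.Agent.Lib.Helper9ONW Cfsg.Agent.Lib.Helper9ONS Cfsg.Agent.Lib.Helper9ONC
def X0 : W := (.mul (.of .g) (.mul (.of .b) (.mul (.of .c) (.mul (.of .d) (.of .e)))))
def tau : W := (.mul (.of .c) (.mul (.of .d) (.mul (.of .a) (.mul (.of .b) (.inv (.of .g))))))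
def X : W := .mul (.inv tau) (.mul X0 tau)
def TT0 : List Tst5 := [((.pow X0 1), 1, 122760, 122760, 3), ((.pow X0 2), 2, 122760, 122760, 3), ((.pow X0 3), 3, 122760, 122760, 2), ((.pow X0 4), 4, 122760, 122760, 4)]
def AL0 : List (ℕ × ℕ × ℕ) := [(69, 0, 69), (4056, 1, 69), (61466, 2, 69), (106471, 3, 69), (20486, 4, 69), (102096, 5, 69), (60438, 6, 69), (103511, 7, 69), (45060, 8, 69), (1135, 9, 69), (254, 10, 69)]
end Cfsg.Agent.Lib.Helper9ONF1d
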