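import Cfsg.Agent.Lib.Helper9ONC
set_option maxRecDepth 100000
set_option autoImplicit false
set_option linter.constructorNameAsVariable false
namespace Cfsg.Agent.Lib.Helper9ONF3
open Cfsg.Agent.Lib.Helper35TC Cfsg.Agent.Lib.Helper35ONa Cfsg.Agent.Lib.Helper9ONW Cfsg.Agent.Lib.Helper9ONS Cfsg.Agent.Lib.Helper9ONC
def s : W := (.mul (.of .g) (.mul (.of .b) (.mul (.of .d) (.of .c))))
def v : W := .pow s 2
theorem hsv : Commute (ev s) (ev v) := by
  rw [v, ev_pow]; exact (Commute.refl _).pow_right _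
theorem claim1 : Claim v s [(51, 51), (40, 40), (16, 16), (12, 12), (27, 27), (0, 0), (297, 297)] :=
  base_case _ _ _ (by decide)
def TT2 : List Tst5 := [((.pow v 0), 0, 0, 0, 3), ((.pow v 1), 1, 0, 0, 1), ((.pow v 0), 0, 16, 16, 2), ((.pow v 0), 0, 12, 12, 1), ((.pow v 0), 0, 40, 40, 1), ((.pow v 0), 0, 27, 27, 1), ((.pow v 2), 2, 0, 0, 1), ((.pow v 1), 1, 16, 16, 1), ((.pow v 1), 1, 12, 12, 2), ((.pow v 0), 0, 297, 297, 2)]
def AL2 : List (ℕ × ℕ × ℕ) := [(51, 0, 51), (52, 10, 51)]
theorem scan2 : allD (scanChk (TT2.map T2) (AL2.map Prod.fst)) 17 0 = true := by decide +kernel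
theorem claim2 : Claim v s [(40, 40), (16, 16), (12, 12), (27, 27), (0, 0), (297, 297)] :=
  step v s hsv [(40, 40), (16, 16), (12, 12), (27, 27), (0, 0), (297, 297)] 51 TT2 AL2 (by norm_num) (by decide +kernel) (by decide +kernel)
    (by decide +kernel) (by decide +kernel) (scan_of_allD scan2) (by decide +kernel)
    (by
    intro r hr
    simp only [AL2, List.mem_cons, List.not_mem_nil, or_false] at hr
    rcases hr with rfl | rfl <;> first | exact claim1)
def TT3 : List Tst5 := [((.of .f), 5, 122761, 122761, 0), ((.pow v 0), 0, 0, 0, 3), ((.pow v 1), 1, 0, 0, 1), ((.pow v 0), 0, 16, 16, 1), ((.pow v 0), 0, 12, 12, 2), ((.pow v 0), 0, 27, 27, 2)]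
def AL3 : List (ℕ × ℕ × ℕ) := [(40, 0, 40)]
theorem scan3 : allD (scanChk (TT3.map T2) (AL3.map Prod.fst)) 17 0 = true := by decide +kernel
theorem claim3 : Claim v s [(16, 16), (12, 12), (27, 27), (0, 0), (297, 297)] :=
  step v s hsv [(16, 16), (12, 12), (27, 27), (0, 0), (297, 297)] 40 TT3 AL3 (by norm_num) (by decide +kernel) (by decide +kernel)
    (by decide +kernel) (by decide +kernel) (scan_of_allD scan3) (by decide +kernel)
    (by
    intro r hr
    simp only [AL3, List.mem_cons, List.not_mem_nil, or_false] at hr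
    rcases hr with rfl <;> first | exact claim2)
def TT4 : List Tst5 := [((.of .f), 5, 122761, 122761, 0), ((.pow v 0), 0, 0, 0, 3), ((.pow v 1), 1, 0, 0, 3), ((.pow v 0), 0, 12, 12, 1), ((.pow v 0), 0, 27, 27, 1), ((.pow v 2), 2, 0, 0, 1), ((.pow v 1), 1, 12, 12, 2)]
def AL4 : List (ℕ × ℕ × ℕ) := [(16, 0, 16)]
theorem scan4 : allD (scanChk (TT4.map T2) (AL4.map Prod.fst)) 17 0 = true := by decide +kernel
theorem claim4 : Claim v s [(12, 12), (27, 27), (0, 0), (297, 297)] :=
  step v s hsv [(12, 12), (27, 27), (0, 0), (297, 297)] 16 TT4 AL4 (by norm_num) (by decide +kernel) (by decide +kernel)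
    (by decide +kernel) (by decide +kernel) (scan_of_allD scan4) (by decide +kernel)
    (by
    intro r hr
    simp only [AL4, List.mem_cons, List.not_mem_nil, or_false] at hr
    rcases hr with rfl <;> first | exact claim3)
def TT5 : List Tst5 := [((.of .f), 5, 122761, 122761, 0), ((.pow v 0), 0, 0, 0, 3), ((.pow v 1), 1, 0, 0, 1), ((.pow v 0), 0, 27, 27, 2), ((.pow v 2), 2, 0, 0, 1), ((.pow v 1), 1, 27, 27, 1), ((.pow v 3), 3, 27, 27, 1)]
def AL5 : List (ℕ × ℕ × ℕ) := [(12, 0, 12)]
theorem scan5 : allD (scanChk (TT5.map T2) (AL5.map Prod.fst)) 17 0 = true := by decide +kernel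
theorem claim5 : Claim v s [(27, 27), (0, 0), (297, 297)] :=
  step v s hsv [(27, 27), (0, 0), (297, 297)] 12 TT5 AL5 (by norm_num) (by decide +kernel) (by decide +kernel)
    (by decide +kernel) (by decide +kernel) (scan_of_allD scan5) (by decide +kernel)
    (by
    intro r hr
    simp only [AL5, List.mem_cons, List.not_mem_nil, or_false] at hr
    rcases hr with rfl <;> first | exact claim4)
def TT6 : List Tst5 := [((.of .f), 5, 122761, 122761, 0), ((.pow v 0), 0, 0, 0, 3), ((.pow v 1), 1, 0, 0, 4), ((.pow v 2), 2, 0, 0, 1), ((.pow v 1), 1, 297, 297, 1), ((.pow v 1), 1, 122760, 122760, 4)]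
def AL6 : List (ℕ × ℕ × ℕ) := [(27, 0, 27)]
theorem scan6 : allD (scanChk (TT6.map T2) (AL6.map Prod.fst)) 17 0 = true := by decide +kernel
theorem claim6 : Claim v s [(0, 0), (297, 297)] :=
  step v s hsv [(0, 0), (297, 297)] 27 TT6 AL6 (by norm_num) (by decide +kernel) (by decide +kernel)
    (by decide +kernel) (by decide +kernel) (scan_of_allD scan6) (by decide +kernel)
    (by
    intro r hr
    simp only [AL6, List.mem_cons, List.not_mem_nil, or_false] at hr
    rcases hr with rfl <;> first | exact claim5)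
def TT7 : List Tst5 := [((.of .f), 5, 122761, 122761, 0), ((.pow v 0), 0, 297, 297, 3), ((.pow v 1), 1, 297, 297, 1), ((.pow v 2), 2, 297, 297, 3), ((.pow v 3), 3, 297, 297, 1), ((.pow v 1), 1, 122760, 122760, 1), ((.pow v 2), 2, 122760, 122760, 1)]
def AL7 : List (ℕ × ℕ × ℕ) := [(0, 0, 0), (16, 5, 0)]
theorem scan7 : allD (scanChk (TT7.map T2) (AL7.map Prod.fst)) 17 0 = true := by decide +kernel
theorem claim7 : Claim v s [(297, 297)] :=
  step v s hsv [(297, 297)] 0 TT7 AL7 (by norm_num) (by decide +kernel) (by decide +kernel)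
    (by decide +kernel) (by decide +kernel) (scan_of_allD scan7) (by decide +kernel)
    (by
    intro r hr
    simp only [AL7, List.mem_cons, List.not_mem_nil, or_false] at hr
    rcases hr with rfl | rfl <;> first | exact claim6)
def TT8 : List Tst5 := [((.of .f), 5, 122761, 122761, 0), ((.pow v 0), 0, 297, 1403, 1), ((.pow v 0), 0, 0, 1998, 3), ((.pow v 1), 1, 297, 1403, 1), ((.pow v 1), 1, 0, 1998, 4), ((.pow v 2), 2, 0, 1998, 1), ((.pow v 1), 1, 122760, 122760, 4), ((.pow v 3), 3, 297, 1403, 3)]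
def AL8 : List (ℕ × ℕ × ℕ) := []
theorem scan8 : allD (scanChk (TT8.map T2) (AL8.map Prod.fst)) 17 0 = true := by decide +kernel
theorem claim8 : Claim v s [(0, 1998), (297, 1403)] :=
  step v s hsv [(0, 1998), (297, 1403)] 27 TT8 AL8 (by norm_num) (by decide +kernel) (by decide +kernel)
    (by decide +kernel) (by decide +kernel) (scan_of_allD scan8) (by decide +kernel)
    (by intro r hr; simp [AL8] at hr)
def TT9 : List Tst5 := [((.of .f), 5, 122761, 122761, 0), ((.pow v 0), 0, 297, 1403, 3), ((.pow v 1), 1, 297, 1403, 1), ((.pow v 2), 2, 297, 1403, 3), ((.pow v 1), 1, 122760, 122760, 1), ((.pow v 3), 3, 297, 1403, 1), ((.pow v 2), 2, 122760, 122760, 1)]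
def AL9 : List (ℕ × ℕ × ℕ) := [(1998, 0, 1998), (3543, 5, 1998)]
theorem scan9 : allD (scanChk (TT9.map T2) (AL9.map Prod.fst)) 17 0 = true := by decide +kernel
theorem claim9 : Claim v s [(297, 1403)] :=
  step v s hsv [(297, 1403)] 0 TT9 AL9 (by norm_num) (by decide +kernel) (by decide +kernel)
    (by decide +kernel) (by decide +kernel) (scan_of_allD scan9) (by decide +kernel)
    (by
    intro r hr
    simp only [AL9, List.mem_cons, List.not_mem_nil, or_false] at hr
    rcases hr with rfl | rfl <;> first | exact claim8)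
def TT10 : List Tst5 := [((.of .f), 5, 122761, 122761, 0), ((.pow v 1), 1, 122760, 122760, 3), ((.pow v 2), 2, 122760, 122760, 1)]
def AL10 : List (ℕ × ℕ × ℕ) := [(297, 0, 297), (298, 1, 297), (1401, 2, 297), (3109, 3, 297), (1432, 4, 297), (1403, 0, 1403), (1916, 1, 1403), (5783, 2, 1403), (1926, 3, 1403), (3229, 4, 1403)]
theorem scan10 : allD (scanChk (TT10.map T2) (AL10.map Prod.fst)) 17 0 = true := by decide +kernel
theorem claim10 : Claim v s [] :=
  step v s hsv [] 297 TT10 AL10 (by norm_num) (by decide +kernel) (by decide +kernel)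
    (by decide +kernel) (by decide +kernel) (scan_of_allD scan10) (by decide +kernel)
    (by
    intro r hr
    simp only [AL10, List.mem_cons, List.not_mem_nil, or_false] at hr
    rcases hr with rfl | rfl | rfl | rfl | rfl | rfl | rfl | rfl | rfl | rfl <;> first | exact claim7 | exact claim9)
theorem cent_v : ∀ c : Gr, Commute c (ev v) → c ∈ Subgroup.zpowers (ev s) :=
  fun c hc => claim10 c hc (by intro x hx; simp at hx)
end Cfsg.Agent.Lib.Helper9ONF3
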