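import Cfsg.Agent.Lib.Helper9ONS
set_option maxRecDepth 100000
set_option autoImplicit false
namespace Cfsg.Agent.Lib.Helper9ONJ1a
open Cfsg.Agent.Lib.Helper35TC Cfsg.Agent.Lib.Helper35ONa Cfsg.Agent.Lib.Helper9ONW Cfsg.Agent.Lib.Helper9ONS
def wJ : W := (.mul (.of .d) (.mul (.of .c) (.mul (.of .b) (.mul (.of .g) (.mul (.of .f) (.mul (.of .d) (.mul (.of .c) (.mul (.of .b) (.mul (.of .d) (.mul (.of .c) (.mul (.of .a) (.mul (.of .e) (.mul (.of .b) (.mul (.of .d) (.mul (.of .c) (.mul (.of .e) (.mul (.of .a) (.of .b))))))))))))))))))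
def x : W := .of .a
def y : W := .mul (.inv wJ) (.mul (.mul (.of .a) (.of .b)) wJ)
def S0 : List W := [x, y]
def T0w : List (List ℕ) := [[], [3, 0, 3, 0, 3, 0, 2], [3, 0, 3, 0, 3, 0], [3, 0, 3, 0, 3], [3, 0, 3, 0, 2], [2, 0, 3, 0, 3], [2, 0, 3, 0], [2, 0, 3], [2, 0], [2], [0], [0, 2], [0, 2, 0], [0, 2, 0, 3], [0, 2, 0, 3, 0], [0, 2, 0, 2, 0, 2, 0], [0, 2, 0, 2, 0, 2], [0, 2, 0, 2, 0, 3], [0, 3, 0, 2, 0, 2], [0, 3, 0, 2, 0, 3], [0, 3, 0, 2, 0, 3, 0], [2, 0, 3, 0, 2, 0], [2, 0, 3, 0, 2], [0, 3, 0, 2, 0], [0, 3, 0, 2], [0, 3, 0, 3], [0, 3, 0, 3, 0], [0, 3, 0, 3, 0, 3], [0, 3, 0, 3, 0, 3, 0], [2, 0, 2, 0, 2, 0, 3], [2, 0, 2, 0, 2, 0, 3, 0], [2, 0, 2, 0, 2, 0, 3, 0, 3], [2, 0, 2, 0, 2, 0, 3, 0, 3, 0], [2, 0, 2, 0, 2, 0, 3, 0, 3, 0, 2],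 [2, 0, 2, 0, 2, 0, 3, 0, 3, 0, 2, 0], [2, 0, 2, 0, 2, 0, 3, 0, 3, 0, 2, 0, 2], [2, 0, 2, 0, 2, 0, 3, 0, 3, 0, 2, 0, 2, 0], [2, 0, 2, 0, 2, 0, 3, 0, 3, 0, 2, 0, 2, 0, 3], [2, 0, 2, 0, 2, 0, 3, 0, 3, 0, 2, 0, 2, 0, 3, 0], [2, 0, 2, 0, 2, 0, 3, 0, 3, 0, 2, 0, 2, 0, 3, 0, 2], [2, 0, 2, 0, 2, 0, 3, 0, 3, 0, 2, 0, 2, 0, 3, 0, 2, 0], [2, 0, 2, 0, 2, 0, 3, 0, 2, 0, 3, 0, 3, 0, 2, 0, 3, 0], [2, 0, 2, 0, 2, 0, 3, 0, 2, 0, 3, 0, 3, 0, 2, 0, 3], [2, 0, 2, 0, 2, 0, 3, 0, 2, 0, 3, 0, 3, 0, 2, 0], [2, 0, 2, 0, 2, 0, 3, 0, 2, 0, 3, 0, 3, 0, 2], [2, 0, 2, 0, 2, 0, 3, 0, 2, 0, 3, 0, 3, 0], [2, 0, 2, 0, 2, 0, 3, 0, 2, 0, 3, 0, 3], [2, 0, 2, 0, 2, 0, 3, 0, 2, 0, 3, 0], [2, 0, 2, 0, 2, 0, 3, 0, 2, 0, 3], [2, 0, 2, 0, 2, 0, 3, 0, 2, 0], [2, 0, 2, 0, 2,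 0, 3, 0, 2], [2, 0, 2, 0, 2, 0], [2, 0, 2, 0, 2], [2, 0, 2, 0], [2, 0, 2], [3, 0, 3, 0], [3, 0, 3], [3, 0, 2], [3, 0, 2, 0], [3, 0], [3], [0, 2, 0, 2], [0, 2, 0, 2, 0], [2, 0, 2, 0, 2, 0, 3, 0, 3, 0, 2, 0, 3], [2, 0, 2, 0, 2, 0, 3, 0, 3, 0, 2, 0, 3, 0], [2, 0, 2, 0, 2, 0, 3, 0, 3, 0, 2, 0, 3, 0, 2], [0, 3], [0, 3, 0], [2, 0, 2, 0, 3], [2, 0, 2, 0, 3, 0], [2, 0, 2, 0, 3, 0, 2], [2, 0, 2, 0, 3, 0, 2, 0], [2, 0, 2, 0, 3, 0, 2, 0, 3], [2, 0, 2, 0, 3, 0, 2, 0, 3, 0], [2, 0, 2, 0, 3, 0, 2, 0, 3, 0, 2], [2, 0, 2, 0, 3, 0, 2, 0, 3, 0, 2, 0], [2, 0, 2, 0, 3, 0, 2, 0, 3, 0, 2, 0, 2], [2, 0, 2, 0, 3, 0, 2, 0, 3, 0, 2, 0, 2, 0], [2, 0, 2, 0, 3, 0, 2, 0, 3, 0, 2, 0, 2, 0, 3], [2, 0, 2, 0, 3, 0, 2, 0, 3, 0, 2, 0, 2, 0, 3, 0], [2, 0, 2, 0, 3, 0,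 2, 0, 3, 0, 2, 0, 2, 0, 3, 0, 2], [2, 0, 2, 0, 3, 0, 2, 0, 3, 0, 2, 0, 2, 0, 3, 0, 2, 0], [2, 0, 2, 0, 3, 0, 2, 0, 3, 0, 2, 0, 3, 0, 2, 0, 2, 0], [2, 0, 2, 0, 3, 0, 2, 0, 3, 0, 2, 0, 3, 0, 2, 0, 2], [2, 0, 2, 0, 3, 0, 2, 0, 3, 0, 2, 0, 3, 0, 2, 0, 3], [2, 0, 2, 0, 3, 0, 3, 0, 2, 0, 2, 0, 3, 0, 2, 0, 3], [2, 0, 2, 0, 3, 0, 3, 0, 2, 0, 2, 0, 3, 0, 2, 0, 2], [2, 0, 2, 0, 3, 0, 2, 0, 3, 0, 3, 0, 2, 0, 2, 0, 3], [2, 0, 2, 0, 3, 0, 2, 0, 3, 0, 3, 0, 2, 0, 2, 0], [2, 0, 2, 0, 3, 0, 2, 0, 3, 0, 3, 0, 2, 0, 2], [2, 0, 2, 0, 3, 0, 2, 0, 3, 0, 3, 0, 2, 0, 3], [2, 0, 2, 0, 3, 0, 2, 0, 3, 0, 3, 0, 2, 0, 2, 0, 2], [2, 0, 2, 0, 3, 0, 2, 0, 3, 0, 2, 0, 3, 0, 3, 0, 3], [2, 0, 2, 0, 3, 0, 2, 0, 3, 0, 2, 0, 3, 0, 3, 0, 2], [2, 0, 2, 0, 3, 0, 2, 0, 3,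 0, 2, 0, 3, 0, 3, 0, 2, 0], [2, 0, 2, 0, 3, 0, 2, 0, 3, 0, 2, 0, 3, 0, 3, 0], [2, 0, 2, 0, 3, 0, 2, 0, 3, 0, 2, 0, 3, 0, 3], [2, 0, 2, 0, 3, 0, 2, 0, 3, 0, 2, 0, 3, 0], [2, 0, 2, 0, 3, 0, 2, 0, 3, 0, 2, 0, 3], [2, 0, 2, 0, 3, 0, 2, 0, 3, 0, 2, 0, 3, 0, 2], [2, 0, 2, 0, 3, 0, 2, 0, 3, 0, 2, 0, 3, 0, 2, 0], [2, 0, 2, 0, 3, 0, 3, 0, 2, 0, 2, 0, 3, 0, 2, 0], [2, 0, 2, 0, 3, 0, 3, 0, 2, 0, 2, 0, 3, 0, 2], [2, 0, 2, 0, 3, 0, 3, 0, 2, 0, 2, 0, 3, 0], [2, 0, 2, 0, 3, 0, 3, 0, 2, 0, 2, 0, 3], [2, 0, 2, 0, 3, 0, 3, 0, 2, 0, 2, 0], [2, 0, 2, 0, 3, 0, 3, 0, 2, 0, 2], [2, 0, 2, 0, 3, 0, 3, 0, 2, 0, 3], [2, 0, 2, 0, 3, 0, 3, 0, 2, 0, 3, 0], [2, 0, 2, 0, 3, 0, 3, 0, 2, 0, 3, 0, 3], [0, 3, 0, 3, 0, 2, 0, 2, 0, 3, 0, 2, 0, 2], [0, 3, 0, 3, 0, 2, 0,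 2, 0, 3, 0, 2, 0], [0, 3, 0, 3, 0, 2, 0, 2, 0, 3, 0, 2], [0, 3, 0, 3, 0, 2, 0, 2, 0, 3, 0, 3], [0, 3, 0, 3, 0, 2, 0, 2, 0, 3, 0, 3, 0], [0, 3, 0, 3, 0, 2, 0, 2, 0, 3, 0, 3, 0, 2], [0, 3, 0, 3, 0, 2, 0, 2, 0, 3, 0, 3, 0, 2, 0], [0, 3, 0, 3, 0, 2, 0, 2, 0, 3, 0, 3, 0, 2, 0, 3], [0, 3, 0, 3, 0, 2, 0, 2, 0, 3, 0, 3, 0, 2, 0, 3, 0], [0, 3, 0, 3, 0, 2, 0, 2, 0, 3, 0, 3, 0, 2, 0, 3, 0, 2], [0, 3, 0, 3, 0, 2, 0, 3, 0, 2, 0, 3, 0, 2, 0, 3, 0, 2], [0, 3, 0, 3, 0, 2, 0, 3, 0, 2, 0, 3, 0, 2, 0, 3, 0], [0, 3, 0, 3, 0, 2, 0, 3, 0, 2, 0, 3, 0, 2, 0, 3], [0, 3, 0, 3, 0, 2, 0, 3, 0, 2, 0, 3, 0, 2, 0], [0, 3, 0, 3, 0, 2, 0, 3, 0, 2, 0, 3, 0, 2], [0, 3, 0, 3, 0, 2, 0, 3, 0, 2, 0, 3, 0], [0, 3, 0, 3, 0, 2, 0, 3, 0, 2, 0, 3], [0, 3, 0, 3, 0, 2, 0, 3, 0,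 2, 0], [0, 3, 0, 3, 0, 2, 0, 3, 0, 2], [0, 3, 0, 3, 0, 2, 0, 3, 0], [0, 3, 0, 3, 0, 2, 0, 3], [0, 3, 0, 3, 0, 2, 0], [0, 3, 0, 3, 0, 2], [2, 0, 2, 0, 3, 0, 3, 0, 2, 0, 3, 0, 2, 0, 3, 0, 2, 0], [2, 0, 2, 0, 3, 0, 3, 0, 2, 0, 3, 0, 2, 0, 3, 0, 2], [2, 0, 2, 0, 3, 0, 3, 0, 2, 0, 3, 0, 2, 0, 3, 0, 3], [2, 0, 2, 0, 3, 0, 3, 0, 2, 0, 3, 0, 2, 0, 3, 0, 3, 0], [0, 3, 0, 3, 0, 2, 0, 2, 0, 3, 0, 2, 0, 3, 0, 2, 0, 2, 0], [0, 3, 0, 3, 0, 2, 0, 2, 0, 3, 0, 2, 0, 3, 0, 2, 0, 2], [0, 3, 0, 3, 0, 2, 0, 2, 0, 3, 0, 2, 0, 3, 0, 2, 0, 3], [0, 3, 0, 3, 0, 2, 0, 2, 0, 3, 0, 2, 0, 3, 0, 2, 0, 3, 0], [0, 3, 0, 3, 0, 2, 0, 3, 0, 2, 0, 3, 0, 2, 0, 3, 0, 3, 0], [0, 3, 0, 3, 0, 2, 0, 3, 0, 2, 0, 3, 0, 2, 0, 3, 0, 3], [2, 0, 2, 0, 2, 0, 3, 0, 2, 0, 2], [0, 3,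 0, 3, 0, 2, 0, 3, 0, 3, 0, 3], [0, 3, 0, 3, 0, 2, 0, 3, 0, 3, 0, 2], [0, 3, 0, 3, 0, 2, 0, 3, 0, 3, 0, 2, 0], [0, 3, 0, 3, 0, 2, 0, 3, 0, 3, 0, 2, 0, 2], [0, 3, 0, 3, 0, 2, 0, 3, 0, 3, 0, 2, 0, 2, 0], [0, 3, 0, 3, 0, 2, 0, 3, 0, 3, 0, 2, 0, 2, 0, 3], [0, 3, 0, 3, 0, 2, 0, 3, 0, 3, 0, 2, 0, 2, 0, 3, 0], [2, 0, 2, 0, 3, 0, 2, 0, 2, 0, 3, 0, 3, 0, 2, 0, 3], [2, 0, 2, 0, 3, 0, 2, 0, 2, 0, 3, 0, 3, 0, 2, 0, 3, 0], [2, 0, 2, 0, 3, 0, 3, 0, 2, 0, 3, 0, 2, 0, 3, 0], [2, 0, 2, 0, 3, 0, 3, 0, 2, 0, 3, 0, 2, 0, 3], [2, 0, 2, 0, 3, 0, 3, 0, 2, 0, 3, 0, 2, 0], [2, 0, 2, 0, 3, 0, 3, 0, 2, 0, 3, 0, 2], [2, 0, 2, 0, 3, 0, 3, 0, 2, 0], [2, 0, 2, 0, 3, 0, 3, 0, 2], [2, 0, 2, 0, 3, 0, 3, 0], [2, 0, 2, 0, 3, 0, 3], [2, 0, 2, 0, 2, 0, 3, 0, 2, 0, 3, 0,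 2], [2, 0, 2, 0, 2, 0, 3, 0, 2, 0, 3, 0, 2, 0], [2, 0, 2, 0, 2, 0, 3, 0, 2, 0, 3, 0, 2, 0, 3], [2, 0, 3, 0, 2, 0, 2], [2, 0, 3, 0, 2, 0, 2, 0], [2, 0, 3, 0, 2, 0, 2, 0, 3], [0, 3, 0, 3, 0, 2, 0, 2, 0, 2], [0, 3, 0, 3, 0, 2, 0, 2, 0, 3], [0, 3, 0, 3, 0, 2, 0, 2, 0, 3, 0], [0, 3, 0, 3, 0, 2, 0, 2, 0, 3, 0, 2, 0, 3], [0, 3, 0, 3, 0, 2, 0, 2, 0, 3, 0, 2, 0, 3, 0], [0, 3, 0, 3, 0, 2, 0, 2, 0, 3, 0, 2, 0, 3, 0, 2], [0, 3, 0, 3, 0, 2, 0, 2, 0, 3, 0, 2, 0, 3, 0, 2, 0], [0, 3, 0, 3, 0, 2, 0, 3, 0, 2, 0, 3, 0, 3, 0, 2, 0, 3, 0], [0, 3, 0, 3, 0, 2, 0, 3, 0, 2, 0, 3, 0, 3, 0, 2, 0, 3], [0, 3, 0, 3, 0, 2, 0, 3, 0, 2, 0, 3, 0, 3, 0, 2, 0, 2], [0, 3, 0, 3, 0, 2, 0, 2, 0, 3, 0, 3, 0, 2, 0, 3, 0, 3], [0, 3, 0, 3, 0, 2, 0, 3, 0, 2, 0, 2, 0, 3, 0, 3,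 0, 2], [0, 3, 0, 3, 0, 2, 0, 3, 0, 2, 0, 2, 0, 3, 0, 3, 0], [0, 3, 0, 3, 0, 2, 0, 3, 0, 2, 0, 2, 0, 3, 0, 3], [0, 3, 0, 3, 0, 2, 0, 3, 0, 2, 0, 2, 0, 3, 0], [0, 3, 0, 3, 0, 2, 0, 3, 0, 2, 0, 2, 0, 3], [0, 3, 0, 3, 0, 2, 0, 3, 0, 2, 0, 2, 0, 2], [0, 3, 0, 3, 0, 2, 0, 2, 0, 3, 0, 3, 0, 3], [0, 3, 0, 3, 0, 2, 0, 3, 0, 2, 0, 3, 0, 3], [0, 3, 0, 3, 0, 2, 0, 3, 0, 2, 0, 3, 0, 3, 0], [0, 3, 0, 3, 0, 2, 0, 3, 0, 2, 0, 3, 0, 3, 0, 3], [0, 3, 0, 3, 0, 2, 0, 3, 0, 3, 0, 2, 0, 2, 0, 2], [0, 3, 0, 3, 0, 2, 0, 3, 0, 3, 0, 2, 0, 3], [0, 3, 0, 3, 0, 2, 0, 3, 0, 3, 0, 2, 0, 3, 0], [0, 3, 0, 3, 0, 2, 0, 3, 0, 3, 0, 2, 0, 3, 0, 2], [2, 0, 2, 0, 3, 0, 2, 0, 2, 0, 3, 0, 2, 0, 3], [2, 0, 2, 0, 3, 0, 2, 0, 2, 0, 3, 0, 2, 0, 2], [2, 0, 2, 0, 3, 0, 2, 0, 2,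 0, 3, 0, 2, 0, 2, 0], [2, 0, 2, 0, 2, 0, 3, 0, 3, 0, 2, 0, 3, 0, 3, 0], [2, 0, 2, 0, 2, 0, 3, 0, 3, 0, 2, 0, 3, 0, 3], [0, 3, 0, 3, 0, 2, 0, 3, 0, 3, 0], [0, 3, 0, 3, 0, 2, 0, 3, 0, 3], [0, 3, 0, 3, 0, 2, 0, 2], [0, 3, 0, 3, 0, 2, 0, 2, 0], [2, 0, 3, 0, 2, 0, 2, 0, 2], [2, 0, 2, 0, 3, 0, 3, 0, 3], [0, 3, 0, 3, 0, 2, 0, 3, 0, 2, 0, 3, 0, 3, 0, 2, 0], [0, 3, 0, 3, 0, 2, 0, 3, 0, 2, 0, 3, 0, 3, 0, 2], [0, 3, 0, 3, 0, 2, 0, 3, 0, 2, 0, 2], [0, 3, 0, 3, 0, 2, 0, 3, 0, 2, 0, 2, 0], [2, 0, 2, 0, 3, 0, 3, 0, 2, 0, 3, 0, 2, 0, 2], [2, 0, 2, 0, 3, 0, 3, 0, 2, 0, 3, 0, 2, 0, 2, 0], [2, 0, 2, 0, 3, 0, 3, 0, 2, 0, 2, 0, 3, 0, 3, 0], [2, 0, 2, 0, 3, 0, 3, 0, 2, 0, 2, 0, 3, 0, 3], [2, 0, 2, 0, 2, 0, 3, 0, 2, 0, 3, 0, 3, 0, 3], [2, 0, 2, 0, 2, 0,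 3, 0, 3, 0, 2, 0, 2, 0, 2], [2, 0, 2, 0, 2, 0, 3, 0, 3, 0, 2, 0, 2, 0, 3, 0, 3], [2, 0, 2, 0, 2, 0, 3, 0, 3, 0, 2, 0, 2, 0, 3, 0, 3, 0], [2, 0, 2, 0, 2, 0, 3, 0, 3, 0, 2, 0, 2, 0, 3, 0, 3, 0, 2], [2, 0, 2, 0, 2, 0, 3, 0, 3, 0, 2, 0, 2, 0, 3, 0, 3, 0, 2, 0], [2, 0, 2, 0, 2, 0, 3, 0, 2, 0, 3, 0, 3, 0, 2, 0, 2, 0, 3, 0], [2, 0, 2, 0, 2, 0, 3, 0, 2, 0, 3, 0, 3, 0, 2, 0, 2, 0, 3], [2, 0, 2, 0, 2, 0, 3, 0, 2, 0, 3, 0, 3, 0, 2, 0, 2, 0], [2, 0, 2, 0, 2, 0, 3, 0, 2, 0, 3, 0, 3, 0, 2, 0, 2], [2, 0, 2, 0, 2, 0, 3, 0, 3, 0, 2, 0, 2, 0, 3, 0, 2, 0, 2], [2, 0, 2, 0, 2, 0, 3, 0, 3, 0, 2, 0, 2, 0, 3, 0, 2, 0, 2, 0], [2, 0, 2, 0, 3, 0, 2, 0, 2, 0, 3, 0, 2, 0, 2, 0, 3, 0], [2, 0, 2, 0, 3, 0, 2, 0, 2, 0, 3, 0, 2, 0, 2, 0, 3], [2, 0, 2, 0, 3, 0, 3, 0,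 2, 0, 2, 0, 2], [2, 0, 2, 0, 3, 0, 2, 0, 3, 0, 3, 0, 3], [2, 0, 2, 0, 3, 0, 2, 0, 3, 0, 3, 0, 2], [2, 0, 2, 0, 3, 0, 2, 0, 3, 0, 3, 0, 2, 0], [2, 0, 2, 0, 3, 0, 2, 0, 3, 0, 2, 0, 2, 0, 3, 0, 3], [2, 0, 2, 0, 3, 0, 2, 0, 3, 0, 3], [2, 0, 2, 0, 3, 0, 2, 0, 3, 0, 3, 0], [0, 3, 0, 3, 0, 2, 0, 3, 0, 2, 0, 3, 0, 2, 0, 2], [0, 3, 0, 3, 0, 2, 0, 3, 0, 2, 0, 3, 0, 2, 0, 2, 0], [0, 3, 0, 3, 0, 2, 0, 3, 0, 2, 0, 3, 0, 2, 0, 2, 0, 3], [0, 3, 0, 3, 0, 2, 0, 3, 0, 2, 0, 3, 0, 2, 0, 2, 0, 3, 0], [0, 3, 0, 3, 0, 2, 0, 3, 0, 2, 0, 3, 0, 2, 0, 2, 0, 2], [0, 3, 0, 3, 0, 2, 0, 3, 0, 2, 0, 2, 0, 3, 0, 3, 0, 3], [0, 3, 0, 3, 0, 2, 0, 3, 0, 2, 0, 2, 0, 3, 0, 2], [2, 0, 2, 0, 3, 0, 2, 0, 2, 0, 3, 0, 3, 0, 2, 0], [2, 0, 2, 0, 3, 0, 2, 0, 2, 0, 3, 0, 3, 0,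 2], [2, 0, 2, 0, 3, 0, 2, 0, 2, 0, 3, 0, 3, 0], [2, 0, 2, 0, 3, 0, 2, 0, 2, 0, 3, 0, 3], [2, 0, 2, 0, 3, 0, 2, 0, 2, 0, 3, 0], [2, 0, 2, 0, 3, 0, 2, 0, 2, 0, 3], [2, 0, 2, 0, 3, 0, 2, 0, 2, 0, 2], [2, 0, 2, 0, 2, 0, 3, 0, 3, 0, 3], [2, 0, 2, 0, 3, 0, 2, 0, 2], [2, 0, 2, 0, 3, 0, 2, 0, 2, 0], [2, 0, 2, 0, 3, 0, 2, 0, 2, 0, 3, 0, 2], [2, 0, 2, 0, 3, 0, 2, 0, 2, 0, 3, 0, 2, 0], [0, 3, 0, 3, 0, 2, 0, 3, 0, 3, 0, 2, 0, 3, 0, 3], [0, 3, 0, 3, 0, 2, 0, 3, 0, 3, 0, 2, 0, 3, 0, 3, 0], [2, 0, 2, 0, 2, 0, 3, 0, 2, 0, 3, 0, 2, 0, 2, 0], [2, 0, 2, 0, 2, 0, 3, 0, 2, 0, 3, 0, 2, 0, 2], [2, 0, 2, 0, 3, 0, 3, 0, 2, 0, 3, 0, 2, 0, 2, 0, 2], [2, 0, 2, 0, 2, 0, 3, 0, 3, 0, 2, 0, 2, 0, 3, 0, 3, 0, 2, 0, 2], [0, 3, 0, 3, 0, 2, 0, 2, 0, 3, 0, 3, 0, 2, 0,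 2], [0, 3, 0, 3, 0, 2, 0, 2, 0, 3, 0, 3, 0, 2, 0, 2, 0], [0, 3, 0, 3, 0, 2, 0, 2, 0, 3, 0, 3, 0, 2, 0, 2, 0, 2], [2, 0, 2, 0, 2, 0, 3, 0, 2, 0, 3, 0, 2, 0, 2, 0, 3], [2, 0, 2, 0, 2, 0, 3, 0, 2, 0, 3, 0, 2, 0, 2, 0, 3, 0], [2, 0, 2, 0, 3, 0, 2, 0, 2, 0, 3, 0, 3, 0, 3], [2, 0, 2, 0, 3, 0, 2, 0, 3, 0, 2, 0, 2, 0, 2], [0, 3, 0, 3, 0, 2, 0, 2, 0, 3, 0, 2, 0, 3, 0, 3], [0, 3, 0, 3, 0, 2, 0, 2, 0, 3, 0, 2, 0, 3, 0, 3, 0]]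
def S1w : List (List ℕ) := [[3, 0, 2, 0, 3, 0, 3, 0, 2], [0, 2, 0, 3, 0, 3, 0, 2, 0, 3, 0]]
def C0 : List (List (List ℕ × ℕ)) := [[([], 10), ([], 9)], [([0, 2, 0, 3, 1, 3, 0, 3], 1), ([], 15)], [([], 3), ([], 1)], [([], 2), ([], 55)], [([0], 5), ([], 3)], [([1], 4), ([], 6)], [([], 7), ([], 22)], [([], 6), ([], 8)], [([], 9), ([], 54)], [([], 8), ([], 60)], [([], 0), ([], 11)], [([], 12), ([], 66)], [([], 11), ([], 61)], [([], 14), ([], 12)], [([], 13), ([3], 14)], [([], 16), ([], 2)], [([], 15), ([], 17)], [([3], 18), ([], 62)], [([2], 17), ([], 19)], [([], 20), ([], 23)], [([], 19), ([1, 3, 0, 2, 0, 3, 1], 21)], [([], 22), ([], 164)], [([], 21), ([], 5)], [([], 24), ([], 18)], [([], 23), ([], 25)], [([], 26), ([], 67)], [([], 25),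 ([], 132)], [([], 28), ([], 26)], [([], 27), ([], 29)], [([], 30), ([], 51)], [([], 29), ([], 50)], [([], 32), ([], 30)], [([], 31), ([], 33)], [([], 34), ([], 246)], [([], 33), ([], 35)], [([], 36), ([], 63)], [([], 35), ([], 212)], [([], 38), ([], 36)], [([], 37), ([], 39)], [([], 40), ([], 213)], [([], 39), ([], 221)], [([], 42), ([1, 2, 1, 2, 1, 2, 0, 2, 0], 40)], [([], 41), ([], 43)], [([], 44), ([], 220)], [([], 43), ([], 211)], [([], 46), ([], 44)], [([], 45), ([], 47)], [([], 48), ([], 161)], [([], 47), ([], 49)], [([], 50), ([], 143)], [([], 49), ([], 31)], [([], 52), ([], 28)], [([], 51), ([], 68)], [([], 54), ([], 52)], [([], 53), ([], 7)], [([], 56), ([], 4)], [([], 55), ([], 59)], [([], 58), ([], 56)], [([], 57), ([1],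 58)], [([], 60), ([], 57)], [([], 59), ([], 0)], [([], 62), ([], 13)], [([], 61), ([], 16)], [([], 64), ([], 34)], [([], 63), ([], 65)], [([0, 3, 0, 3, 0, 3, 0, 3, 0, 2], 65), ([], 196)], [([], 67), ([], 10)], [([], 66), ([], 24)], [([], 69), ([], 53)], [([], 68), ([], 70)], [([], 71), ([], 160)], [([], 70), ([], 247)], [([], 73), ([], 71)], [([], 72), ([], 74)], [([], 75), ([], 230)], [([], 74), ([], 76)], [([], 77), ([], 98)], [([], 76), ([], 263)], [([], 79), ([], 77)], [([], 78), ([], 80)], [([], 81), ([], 229)], [([], 80), ([3, 0, 3, 1], 133)], [([], 83), ([0, 2, 1, 2, 0, 3], 81)], [([], 82), ([], 84)], [([2, 0, 2, 1, 3, 1, 2], 85), ([], 100)], [([3, 0, 2, 0, 3, 1, 3], 84), ([], 101)], [([1, 3, 0, 2, 1, 2, 1], 87), ([], 85)],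 [([1, 3, 0, 2, 1, 2, 1], 86), ([], 88)], [([], 89), ([], 91)], [([], 88), ([], 90)], [([1, 3, 0, 2, 1, 2, 1], 90), ([], 228)], [([], 92), ([], 87)], [([], 91), ([], 95)], [([], 94), ([], 92)], [([], 93), ([3, 1, 2, 0, 3, 0], 94)], [([], 96), ([], 93)], [([], 95), ([], 97)], [([], 98), ([], 99)], [([], 97), ([], 75)], [([], 100), ([], 96)], [([], 99), ([], 83)], [([], 102), ([], 86)], [([], 101), ([], 210)], [([], 104), ([], 102)], [([], 103), ([], 105)], [([], 106), ([], 225)], [([], 105), ([], 107)], [([], 108), ([], 157)], [([], 107), ([], 156)], [([0, 2, 1, 3, 1, 2, 0], 110), ([], 108)], [([1, 3, 0, 2, 0, 3, 1], 109), ([], 170)], [([], 112), ([], 110)], [([], 111), ([], 113)], [([], 114), ([], 169)], [([], 113), ([], 115)], [([],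 116), ([], 184)], [([], 115), ([], 257)], [([], 118), ([], 116)], [([], 117), ([], 119)], [([0, 3, 1, 3, 0, 2, 0], 120), ([], 177)], [([1, 3, 1, 2, 0, 2, 1], 119), ([], 142)], [([], 122), ([], 120)], [([], 121), ([], 123)], [([], 124), ([], 232)], [([], 123), ([], 185)], [([], 126), ([], 124)], [([], 125), ([], 127)], [([], 128), ([], 205)], [([], 127), ([], 198)], [([], 130), ([], 128)], [([], 129), ([], 131)], [([], 132), ([], 199)], [([], 131), ([], 27)], [([], 134), ([2, 0, 3, 0, 3, 0, 3, 0], 82)], [([], 133), ([], 135)], [([], 136), ([], 153)], [([], 135), ([0, 2, 1, 2], 152)], [([], 138), ([1, 3, 0, 2, 0, 3, 1], 136)], [([], 137), ([], 139)], [([], 140), ([], 173)], [([], 139), ([3, 1, 2, 1], 174)], [([], 142), ([2, 1, 2, 1,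 2, 1, 2, 0], 140)], [([], 141), ([], 121)], [([], 144), ([], 48)], [([], 143), ([], 197)], [([], 146), ([], 144)], [([], 145), ([], 147)], [([], 148), ([], 189)], [([], 147), ([], 188)], [([], 150), ([], 148)], [([], 149), ([0, 3, 0, 2, 1, 3, 0, 3], 151)], [([], 152), ([], 239)], [([], 151), ([2, 1, 2, 0], 137)], [([], 154), ([], 134)], [([], 153), ([], 155)], [([], 156), ([], 207)], [([], 155), ([], 109)], [([], 158), ([], 106)], [([], 157), ([], 202)], [([], 160), ([], 158)], [([], 159), ([], 69)], [([], 162), ([], 46)], [([], 161), ([], 254)], [([0, 2, 1, 2, 1, 2, 1, 2, 1, 2], 163), ([], 162)], [([], 165), ([0, 2, 1, 3, 1, 2, 0], 20)], [([], 164), ([], 201)], [([0, 2, 1, 3, 1, 2, 0], 167), ([], 165)], [([1, 3, 0, 2, 0, 3, 1], 166),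 ([], 168)], [([], 169), ([], 200)], [([], 168), ([], 112)], [([], 171), ([], 111)], [([], 170), ([], 172)], [([], 173), ([], 264)], [([], 172), ([], 138)], [([], 175), ([1, 2, 0, 3, 0, 2], 141)], [([], 174), ([], 203)], [([1, 2, 0, 3, 0, 2], 176), ([], 175)], [([2, 0, 3, 1, 2, 1, 2], 178), ([], 118)], [([2, 0, 3, 1, 2, 1, 2], 177), ([], 237)], [([], 180), ([], 178)], [([], 179), ([], 181)], [([], 182), ([], 238)], [([], 181), ([], 206)], [([], 184), ([], 182)], [([], 183), ([], 114)], [([], 186), ([], 125)], [([], 185), ([], 204)], [([], 188), ([], 186)], [([], 187), ([], 149)], [([], 190), ([], 146)], [([], 189), ([], 191)], [([0, 3, 0, 2, 1, 3, 0, 3], 192), ([], 251)], [([3, 0, 3, 1, 2, 0, 3, 0], 191), ([], 250)], [([], 194), ([],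 192)], [([], 193), ([], 195)], [([], 196), ([], 224)], [([], 195), ([], 64)], [([], 198), ([], 145)], [([], 197), ([], 129)], [([], 200), ([], 130)], [([], 199), ([], 167)], [([], 202), ([], 166)], [([], 201), ([], 159)], [([], 204), ([], 176)], [([], 203), ([], 187)], [([], 206), ([], 126)], [([], 205), ([], 183)], [([], 208), ([], 154)], [([], 207), ([], 255)], [([], 210), ([0, 2, 0, 3, 0, 3, 0, 3, 0, 3], 208)], [([], 209), ([], 103)], [([], 212), ([], 45)], [([], 211), ([], 37)], [([], 214), ([], 38)], [([], 213), ([], 215)], [([], 216), ([0, 3, 0, 3, 0, 3, 0, 3, 0, 2], 223)], [([], 215), ([], 256)], [([], 218), ([2, 0, 3, 1, 2, 0], 216)], [([], 217), ([], 219)], [([], 220), ([0, 2, 1, 2, 1, 2, 1, 2, 1, 2], 261)], [([], 219), ([],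 42)], [([], 222), ([1, 3, 1, 3, 0, 3, 0, 3, 0], 41)], [([], 221), ([1, 2, 1, 2, 1, 2, 0, 2, 0], 222)], [([], 224), ([0, 3, 0, 3, 0, 3, 0, 3, 0, 2], 214)], [([], 223), ([], 194)], [([], 226), ([], 104)], [([], 225), ([], 231)], [([], 228), ([], 226)], [([], 227), ([], 89)], [([0, 2, 1, 2, 0, 3], 229), ([], 79)], [([], 231), ([], 73)], [([], 230), ([], 227)], [([], 233), ([], 122)], [([], 232), ([], 236)], [([], 235), ([], 233)], [([], 234), ([2, 1, 2, 0, 3, 1], 235)], [([], 237), ([], 234)], [([], 236), ([], 179)], [([2, 0, 3, 1, 2, 1, 2], 238), ([], 180)], [([], 240), ([3, 0, 3, 1, 2, 0, 3, 0], 150)], [([], 239), ([], 262)], [([], 242), ([], 240)], [([], 241), ([], 243)], [([], 244), ([], 249)], [([], 243), ([], 248)], [([], 246),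 ([], 244)], [([], 245), ([], 32)], [([], 248), ([], 72)], [([], 247), ([], 245)], [([], 250), ([], 242)], [([], 249), ([], 193)], [([], 252), ([], 190)], [([], 251), ([], 260)], [([], 254), ([], 252)], [([], 253), ([], 163)], [([0, 2, 0, 3, 0, 3, 0, 3, 0, 3], 255), ([0, 2, 0, 3, 0, 3, 0, 3, 0, 3], 209)], [([1, 3, 0, 3, 0, 3, 0, 3, 0, 3], 256), ([1, 3, 0, 2, 1, 3], 217)], [([], 258), ([], 117)], [([], 257), ([], 259)], [([1, 2, 1, 2, 1, 2, 1, 2, 0, 2], 259), ([1, 2, 1, 2, 1, 2, 1, 2, 0, 2], 265)], [([], 261), ([], 253)], [([], 260), ([0, 2, 1, 2, 1, 2, 1, 2, 1, 2], 218)], [([], 263), ([], 241)], [([], 262), ([], 78)], [([], 265), ([], 171)], [([], 264), ([1, 2, 1, 2, 1, 2, 1, 2, 0, 2], 258)]]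
def T1w : List (List ℕ) := [[], [3, 0, 2, 0, 3, 0, 3, 0, 2], [2, 0, 3, 0, 2, 0, 3, 0, 3, 0, 2, 0, 3, 0, 3, 0], [2, 0, 3, 0, 3, 0, 2, 0, 3, 0, 2, 0, 3, 0, 3, 0, 2, 0], [0, 3, 0, 2, 0, 3, 0, 2, 0, 3, 0, 2, 0, 3], [3, 0, 2, 0, 2, 0, 3, 0, 2, 0, 2, 0, 3, 0, 3, 0, 2, 0, 3, 0], [3, 0, 3, 0, 3, 0, 2, 0, 3, 0, 2, 0, 3, 0, 2, 0, 3, 0, 2], [3, 0, 3, 0, 3, 0, 2, 0, 3, 0, 2, 0, 2, 0, 2], [3, 0, 2, 0, 3, 0, 2, 0, 2, 0, 3, 0, 3, 0, 2, 0, 3, 0, 2, 0], [3, 0, 2, 0, 2, 0, 3, 0, 2], [3, 0, 2, 0, 3, 0, 2, 0, 3, 0, 2, 0, 3, 0, 2, 0, 2, 0, 2]]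
def S2w : List (List ℕ) := [[0, 2, 0, 3, 0, 3, 0, 2, 0, 3, 0], [3, 0, 2, 0, 3, 0, 3, 0, 2, 0, 3, 0, 2, 0, 3, 0, 2, 0, 3, 0, 2, 0, 3]]
def C1 : List (List (List ℕ × ℕ)) := [[([], 1), ([0], 0)], [([], 9), ([2], 2)], [([2, 1, 3], 2), ([2, 1, 2, 1], 7)], [([2, 0], 10), ([], 9)], [([0], 6), ([0, 3, 3], 8)], [([2, 1, 3, 0], 5), ([], 3)], [([], 7), ([0, 3, 1, 2], 6)], [([1], 4), ([0, 2, 1], 1)], [([0, 3, 0, 3, 1], 3), ([], 10)], [([], 0), ([], 5)], [([0, 3, 0, 3, 0], 8), ([0, 3, 3], 4)]]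
def T2w : List (List ℕ) := [[], [0, 2, 0, 3, 0, 3, 0, 2, 0, 3, 0], [2, 0, 3, 0, 2, 0, 3, 0, 2, 0, 3, 0, 2, 0, 3, 0, 2, 0, 2, 0, 3, 0, 2], [0, 2, 0, 3, 0, 2, 0, 2, 0, 3, 0], [0, 3, 0, 2, 0, 2, 0, 3, 0, 2, 0, 3, 0, 2, 0, 2, 0, 3, 0, 3, 0, 2, 0, 3, 0, 2, 0, 3, 0, 2, 0, 3], [3, 0, 3, 0, 2, 0, 3, 0, 3, 0, 2, 0, 3, 0, 3, 0, 2, 0, 3, 0, 2, 0, 2, 0, 3, 0, 2, 0, 3], [0, 3, 0, 2, 0, 2, 0, 3, 0, 3, 0, 2, 0, 3, 0, 2, 0, 2, 0, 3, 0, 3, 0, 2, 0, 2, 0, 3, 0, 2, 0, 3], [3, 0, 2, 0, 3, 0, 3, 0, 2, 0, 2, 0, 3, 0, 2, 0, 3, 0, 2, 0, 3, 0, 3, 0, 2, 0, 2, 0, 2], [2, 0, 3, 0, 2, 0, 3, 0, 3, 0, 2, 0, 2, 0, 3, 0, 3, 0, 2, 0, 3, 0, 3, 0, 2, 0, 2, 0, 2], [0, 3, 0, 2, 0, 2, 0, 3, 0, 3, 0, 2, 0, 3, 0, 2, 0, 3, 0, 2, 0, 3, 0, 3, 0, 2, 0, 2, 0, 3, 0, 2]]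
def S3w : List (List ℕ) := [[0, 2, 0, 3, 0, 2, 0, 2, 0, 3, 0, 2, 0, 3, 0, 2, 0, 3, 0, 2, 0, 3, 0, 2, 0, 3, 0, 2, 0, 2, 0, 3, 0, 2], [3, 0, 3, 0, 2, 0, 3, 0, 2, 0, 3, 0, 2, 0, 3, 0, 3, 0, 2, 0, 2, 0, 3, 0, 3, 0, 2, 0, 2, 0, 3, 0, 2, 0, 3, 0, 2, 0, 3, 0, 2, 0, 2]]
def C2 : List (List (List ℕ × ℕ)) := [[([], 1), ([1], 3)], [([], 3), ([], 4)], [([0, 2], 7), ([], 0)], [([], 0), ([0, 2], 8)], [([1, 2], 9), ([1, 2], 7)], [([1], 5), ([0, 2], 2)], [([1, 2], 2), ([0], 1)], [([1], 6), ([2], 9)], [([1], 4), ([1], 5)], [([0, 2], 8), ([], 6)]]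
def T3w : List (List ℕ) := [[], [0, 2, 0, 3, 0, 2, 0, 2, 0, 3, 0, 2, 0, 3, 0, 2, 0, 3, 0, 2, 0, 3, 0, 2, 0, 3, 0, 2, 0, 2, 0, 3, 0, 2], [3, 0, 2, 0, 3, 0, 3, 0, 2, 0, 3, 0, 2, 0, 3, 0, 2, 0, 3, 0, 2, 0, 3, 0, 2, 0, 3, 0, 3, 0, 2, 0, 3, 0]]
def S4w : List (List ℕ) := [[0, 2, 0, 2, 0, 3, 0, 3, 0, 2, 0, 3, 0, 3, 0, 2, 0, 2, 0, 3, 0, 2, 0, 3, 0, 3, 0, 2, 0, 2, 0, 3, 0, 2, 0, 2, 0, 3, 0, 2, 0, 3, 0, 2, 0, 3, 0, 3]]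
def C3 : List (List (List ℕ × ℕ)) := [[([], 1), ([0], 2)], [([], 2), ([0], 1)], [([], 0), ([0], 0)]]
def T4w : List (List ℕ) := [[], [0, 2, 0, 2, 0, 3, 0, 3, 0, 2, 0, 3, 0, 3, 0, 2, 0, 2, 0, 3, 0, 2, 0, 3, 0, 3, 0, 2, 0, 2, 0, 3, 0, 2, 0, 2, 0, 3, 0, 2, 0, 3, 0, 2, 0, 3, 0, 3]]
def S5w : List (List ℕ) := []
def C4 : List (List (List ℕ × ℕ)) := [[([], 1)], [([], 0)]]
theorem lev0 : allB (levChk S0 (T0w.map (mkW S0)) (S1w.map (mkW S0)) C0) 266 = true := by decide +kernel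
theorem bd0 : Nat.card (cl S0) ≤ Nat.card (cl (S1w.map (mkW S0))) * 266 :=
  lev_bound S0 _ T0w S1w C0 266 (by decide +kernel) (by decide +kernel) lev0
theorem lev1 : allB (levChk (S1w.map (mkW S0)) (T1w.map (mkW S0)) (S2w.map (mkW S0)) C1) 11 = true := by decide +kernel
theorem bd1 : Nat.card (cl (S1w.map (mkW S0))) ≤ Nat.card (cl (S2w.map (mkW S0))) * 11 :=
  lev_bound S0 _ T1w S2w C1 11 (by decide +kernel) (by decide +kernel) lev1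
theorem lev2 : allB (levChk (S2w.map (mkW S0)) (T2w.map (mkW S0)) (S3w.map (mkW S0)) C2) 10 = true := by decide +kernel
theorem bd2 : Nat.card (cl (S2w.map (mkW S0))) ≤ Nat.card (cl (S3w.map (mkW S0))) * 10 :=
  lev_bound S0 _ T2w S3w C2 10 (by decide +kernel) (by decide +kernel) lev2
theorem lev3 : allB (levChk (S3w.map (mkW S0)) (T3w.map (mkW S0)) (S4w.map (mkW S0)) C3) 3 = true := by decide +kernel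
theorem bd3 : Nat.card (cl (S3w.map (mkW S0))) ≤ Nat.card (cl (S4w.map (mkW S0))) * 3 :=
  lev_bound S0 _ T3w S4w C3 3 (by decide +kernel) (by decide +kernel) lev3
theorem lev4 : allB (levChk (S4w.map (mkW S0)) (T4w.map (mkW S0)) (S5w.map (mkW S0)) C4) 2 = true := by decide +kernel
theorem bd4 : Nat.card (cl (S4w.map (mkW S0))) ≤ Nat.card (cl (S5w.map (mkW S0))) * 2 :=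
  lev_bound S0 _ T4w S5w C4 2 (by decide +kernel) (by decide +kernel) lev4
end Cfsg.Agent.Lib.Helper9ONJ1a
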