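import Cfsg.Agent.Lib.Helper9ONS
set_option maxRecDepth 100000
set_option autoImplicit false
namespace Cfsg.Agent.Lib.Helper9ONM11a
open Cfsg.Agent.Lib.Helper35TC Cfsg.Agent.Lib.Helper35ONa Cfsg.Agent.Lib.Helper9ONW Cfsg.Agent.Lib.Helper9ONS
def wM : W := (.mul (.of .c) (.mul (.inv (.of .g)) (.mul (.of .b) (.mul (.of .c) (.mul (.of .b) (.mul (.of .d) (.mul (.of .g) (.mul (.of .b) (.mul (.of .c) (.mul (.inv (.of .g)) (.mul (.of .d) (.mul (.of .c) (.mul (.of .e) (.mul (.inv (.of .g)) (.mul (.of .d) (.mul (.of .c) (.mul (.of .b) (.mul (.of .e) (.mul (.of .d) (.mul (.of .g) (.mul (.of .d) (.mul (.of .g) (.mul (.of .b) (.mul (.of .g) (.mul (.of .f) (.mul (.of .e) (.mul (.of .d) (.mul (.of .c) (.mul (.of .g) (.mul (.of .f) (.mul (.of .b) (.mul (.inv (.of .g)) (.mul (.of .e) (.mul (.of .d) (.mul (.of .g) (.mul (.of .a) (.mul (.of .e) (.mul (.of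 .c) (.mul (.of .f) (.of .c))))))))))))))))))))))))))))))))))))))))
def x : W := .of .a
def y : W := .mul (.inv wM) (.mul (.of .g) wM)
def S0 : List W := [x, y]
def T0w : List (List ℕ) := [[], [0], [3], [0, 2], [0, 2, 0], [0, 2, 0, 2], [0, 2, 0, 2, 2], [0, 2, 0, 3], [0, 2, 0, 3, 0], [0, 2, 0, 3, 0, 2], [0, 2, 0, 3, 0, 2, 0], [0, 2, 0, 3, 0, 2, 0, 2]]
def S1w : List (List ℕ) := [[0, 3], [3, 0, 2]]
def C0 : List (List (List ℕ × ℕ)) := [[([], 1), ([1], 1)], [([], 0), ([], 3)], [([2], 2), ([], 0)], [([], 4), ([0], 2)], [([], 3), ([], 5)], [([1, 1, 2, 0, 2, 1], 5), ([], 6)], [([0, 0, 2, 1, 1], 6), ([], 7)], [([], 8), ([], 4)], [([], 7), ([], 9)], [([], 10), ([1, 1, 1, 2, 0, 2], 8)], [([], 9), ([], 11)], [([2, 1, 2, 0, 2], 11), ([2], 10)]]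
def T1w : List (List ℕ) := [[], [0, 3], [3, 0, 2], [2, 0], [2, 0, 2, 0], [2, 0, 2, 0, 2, 0], [3, 0, 2, 0, 3], [2, 0, 2, 0, 2, 0, 2, 0], [2, 0, 3, 0, 2], [2, 0, 3, 0, 2, 0, 3, 0, 3], [2, 0, 3, 0, 2, 0, 3]]
def S2w : List (List ℕ) := [[0, 3, 0, 3, 3, 0, 2], [0, 3, 3, 0, 2, 0, 3, 0, 3]]
def C1 : List (List (List ℕ × ℕ)) := [[([], 1), ([], 2)], [([0], 2), ([2], 4)], [([], 6), ([], 0)], [([], 0), ([], 8)], [([], 3), ([3], 1)], [([], 4), ([1, 2, 2], 5)], [([3], 8), ([1, 3, 0, 2, 1, 3], 6)], [([], 5), ([0, 3, 1], 10)], [([], 10), ([], 3)], [([2, 1], 7), ([1, 3, 1, 2], 9)], [([], 9), ([0, 2, 1], 7)]]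
def T2w : List (List ℕ) := [[], [0, 3, 3, 0, 2, 0, 3, 0, 3], [2, 2, 0, 2, 0, 3, 0, 3, 0], [0, 2, 0, 3, 0, 2, 2, 0, 2, 0, 2, 0, 2], [0, 3, 0, 3, 0, 3, 0, 3, 3, 0, 2, 0, 3], [0, 3, 0, 3, 3, 0, 2], [3, 0, 2, 2, 0, 2, 0], [2, 0, 2, 0, 3, 0, 3, 0, 2, 0, 3, 0, 3, 3], [2, 0, 3, 0, 3, 0, 2, 0, 3, 0, 2, 0, 2, 0, 3], [3, 0, 3, 0, 3, 0, 3, 3, 0, 2, 2, 0, 3, 0, 3, 3]]
def S3w : List (List ℕ) := [[0, 3, 0, 3, 0, 3, 3, 0, 2, 2, 0, 3, 0, 2], [0, 3, 0, 3, 3, 0, 2, 0, 3, 3, 0, 2, 0, 3, 0, 3]]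
def C2 : List (List (List ℕ × ℕ)) := [[([], 5), ([], 1)], [([0, 3], 2), ([0, 2], 9)], [([], 3), ([], 7)], [([0, 3], 1), ([0, 3], 8)], [([2], 7), ([], 5)], [([], 6), ([2], 0)], [([], 0), ([], 2)], [([0], 8), ([0, 2], 3)], [([0, 3], 4), ([3], 6)], [([2], 9), ([0], 4)]]
def T3w : List (List ℕ) := [[], [0, 3, 0, 3, 0, 3, 3, 0, 2, 2, 0, 3, 0, 2], [0, 3, 0, 3, 3, 0, 2, 0, 3, 3, 0, 2, 0, 3, 0, 3]]
def S4w : List (List ℕ) := [[3, 0, 2, 0, 2, 0, 2, 0, 3, 0, 3, 0, 2, 0, 3, 0, 2, 0, 3, 0, 3]]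
def C3 : List (List (List ℕ × ℕ)) := [[([], 1), ([], 2)], [([], 0), ([0], 0)], [([0], 2), ([0], 1)]]
def T4w : List (List ℕ) := [[], [3, 0, 2, 0, 2, 0, 2, 0, 3, 0, 3, 0, 2, 0, 3, 0, 2, 0, 3, 0, 3]]
def S5w : List (List ℕ) := []
def C4 : List (List (List ℕ × ℕ)) := [[([], 1)], [([], 0)]]
theorem lev0 : allB (levChk S0 (T0w.map (mkW S0)) (S1w.map (mkW S0)) C0) 12 = true := by decide +kernel
theorem bd0 : Nat.card (cl S0) ≤ Nat.card (cl (S1w.map (mkW S0))) * 12 :=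
  lev_bound S0 _ T0w S1w C0 12 (by decide +kernel) (by decide +kernel) lev0
theorem lev1 : allB (levChk (S1w.map (mkW S0)) (T1w.map (mkW S0)) (S2w.map (mkW S0)) C1) 11 = true := by decide +kernel
theorem bd1 : Nat.card (cl (S1w.map (mkW S0))) ≤ Nat.card (cl (S2w.map (mkW S0))) * 11 :=
  lev_bound S0 _ T1w S2w C1 11 (by decide +kernel) (by decide +kernel) lev1
theorem lev2 : allB (levChk (S2w.map (mkW S0)) (T2w.map (mkW S0)) (S3w.map (mkW S0)) C2) 10 = true := by decide +kernel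
theorem bd2 : Nat.card (cl (S2w.map (mkW S0))) ≤ Nat.card (cl (S3w.map (mkW S0))) * 10 :=
  lev_bound S0 _ T2w S3w C2 10 (by decide +kernel) (by decide +kernel) lev2
theorem lev3 : allB (levChk (S3w.map (mkW S0)) (T3w.map (mkW S0)) (S4w.map (mkW S0)) C3) 3 = true := by decide +kernel
theorem bd3 : Nat.card (cl (S3w.map (mkW S0))) ≤ Nat.card (cl (S4w.map (mkW S0))) * 3 :=
  lev_bound S0 _ T3w S4w C3 3 (by decide +kernel) (by decide +kernel) lev3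
theorem lev4 : allB (levChk (S4w.map (mkW S0)) (T4w.map (mkW S0)) (S5w.map (mkW S0)) C4) 2 = true := by decide +kernel
theorem bd4 : Nat.card (cl (S4w.map (mkW S0))) ≤ Nat.card (cl (S5w.map (mkW S0))) * 2 :=
  lev_bound S0 _ T4w S5w C4 2 (by decide +kernel) (by decide +kernel) lev4
end Cfsg.Agent.Lib.Helper9ONM11a
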