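import Mathlib
import Cfsg.Prelude.Def_KGroupFacts
import Cfsg.Agent.Lib.Helper64J3OutA
import Cfsg.Agent.Lib.Helper47OutA
import Cfsg.Agent.Lib.Helper47OutB

set_option autoImplicit false

/-! An abstract criterion for `|Out G| = 2`: a Sylow subgroup `⟨x⟩` of order `11` with normaliser
`11:10 = ⟨x, v⟩`, `v = s²` with `s` of order `20`, self-centralising `⟨x⟩` and `C(v) = ⟨s⟩`. -/

namespace Cfsg.Agent.Lib.Helper9OutAbs

open Subgroup

variable {G : Type*} [Group G]

theorem conj_pow_v {x v : G} (h : v * x * v⁻¹ = x ^ 2) : ∀ i : ℕ, v ^ i * x * (v ^ i)⁻¹ = x ^ (2 ^ i)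
  | 0 => by simp
  | i + 1 => by
    have ih := conj_pow_v h i
    have h1 : v ^ (i + 1) * x * (v ^ (i + 1))⁻¹ = v ^ i * (v * x * v⁻¹) * (v ^ i)⁻¹ := by
      rw [pow_succ]; group
    rw [h1, h, ← conj_pow, ih, ← pow_mul, pow_succ]

theorem arith : ∀ j : Fin 11, j.val ≠ 0 → ∃ i : Fin 10, (2 ^ i.val * j.val) % 11 = 1 := by decide

theorem normalise_x [Finite G] {x v : G} (hx : orderOf x = 11) (hidx : ¬ 11 ∣ (zpowers x).index)
    (hvx : v * x * v⁻¹ = x ^ 2) (φ : MulAut G) : ∃ g : G, g * φ x * g⁻¹ = x := by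
  have : Fact (Nat.Prime 11) := ⟨by norm_num⟩
  obtain ⟨g, hg⟩ := Cfsg.Agent.Lib.Helper47OutA.exists_conj_mem 11 x hx hidx (φ x)
    (by rw [MulEquiv.orderOf_eq, hx])
  obtain ⟨j, hj, hjx⟩ : ∃ j < 11, x ^ j = g * φ x * g⁻¹ := by
    have h1 : g * φ x * g⁻¹ ∈ Submonoid.powers x := mem_powers_iff_mem_zpowers.mpr hg
    obtain ⟨n, hn⟩ := h1
    refine ⟨n % 11, Nat.mod_lt _ (by norm_num), ?_⟩
    rw [← hn, ← hx, pow_mod_orderOf]
  have hj0 : j ≠ 0 := by
    rintro rfl
    rw [pow_zero] at hjx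
    have h1 : φ x = 1 := by
      have := congrArg (fun y => g⁻¹ * y * g) hjx
      simp only [mul_one, inv_mul_cancel] at this
      rw [this]; group
    have h2 : x = 1 := by
      apply φ.injective; rw [h1, map_one]
    rw [h2, orderOf_one] at hx
    exact absurd hx (by norm_num)
  obtain ⟨i, hi⟩ := arith ⟨j, hj⟩ hj0
  refine ⟨v ^ i.val * g, ?_⟩
  have h1 : v ^ i.val * g * φ x * (v ^ i.val * g)⁻¹ = v ^ i.val * (g * φ x * g⁻¹) * (v ^ i.val)⁻¹ := by
    group
  rw [h1, ← hjx, ← conj_pow, conj_pow_v hvx, ← pow_mul, ← pow_mod_orderOf, hx, hi, pow_one]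

/-- an automorphism fixing `x` can be corrected by a power of `x` so that it also fixes `v` -/
theorem normalise_v {x v : G} (hvx : v * x * v⁻¹ = x ^ 2)
    (C1 : ∀ c : G, Commute c x → c ∈ zpowers x) (α : MulAut G) (hα : α x = x) :
    ∃ n : G, Commute n x ∧ n * α v * n⁻¹ = v := by
  set w := v⁻¹ * α v with hw
  have h1 : α v * x * (α v)⁻¹ = x ^ 2 := by
    have := congrArg α hvx
    rwa [map_mul, map_mul, map_inv, map_pow, hα] at this
  have hwx : Commute w x := by
    show w * x = x * w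
    have h2 : α v * x = x ^ 2 * α v := by
      rw [← h1]; group
    have h3 : v * x = x ^ 2 * v := by
      rw [← hvx]; group
    have h4 : v⁻¹ * x ^ 2 = x * v⁻¹ := by
      have : v⁻¹ * (v * x) * v⁻¹ = v⁻¹ * (x ^ 2 * v) * v⁻¹ := congrArg (fun y => v⁻¹ * y * v⁻¹) h3
      have e1 : v⁻¹ * (v * x) * v⁻¹ = x * v⁻¹ := by group
      have e2 : v⁻¹ * (x ^ 2 * v) * v⁻¹ = v⁻¹ * x ^ 2 := by group
      rw [e1, e2] at this
      exact this.symm
    rw [hw, mul_assoc, h2, ← mul_assoc, h4, mul_assoc]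
  obtain ⟨n, hn⟩ := mem_zpowers_iff.mp (C1 w hwx)
  -- `v * w = w ^ 2 * v`
  have hsc : SemiconjBy v x (x ^ 2) := by
    show v * x = x ^ 2 * v
    rw [← hvx]; group
  have h5 : v * w = w ^ 2 * v := by
    have := hsc.zpow_right n
    rw [hn] at this
    have e : (x ^ 2) ^ n = w ^ 2 := by
      rw [← hn, ← zpow_natCast, ← zpow_natCast, ← zpow_mul, ← zpow_mul, mul_comm]
    rw [e] at this
    exact this
  refine ⟨w ^ 2, hwx.pow_left 2, ?_⟩
  have h6 : α v = v * w := by rw [hw]; group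
  have h7 : v * w⁻¹ = (w ^ 2)⁻¹ * v := by
    have : (w ^ 2)⁻¹ * (v * w) * w⁻¹ = (w ^ 2)⁻¹ * (w ^ 2 * v) * w⁻¹ :=
      congrArg (fun y => (w ^ 2)⁻¹ * y * w⁻¹) h5
    have e1 : (w ^ 2)⁻¹ * (v * w) * w⁻¹ = (w ^ 2)⁻¹ * v := by group
    have e2 : (w ^ 2)⁻¹ * (w ^ 2 * v) * w⁻¹ = v * w⁻¹ := by group
    rw [e1, e2] at this
    exact this.symm
  calc w ^ 2 * α v * (w ^ 2)⁻¹ = w ^ 2 * (v * w⁻¹) := by rw [h6]; group
    _ = v := by rw [h7]; group

theorem image_s {s : G} (hs : orderOf s = 20)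
    (C2 : ∀ c : G, Commute c (s ^ 2) → c ∈ zpowers s) (β : MulAut G) (hβ : β (s ^ 2) = s ^ 2) :
    β s = s ∨ β s = s ^ 11 := by
  have h1 : Commute (β s) (s ^ 2) := by
    have : Commute (β s) (β (s ^ 2)) := by
      rw [map_pow]; exact (Commute.refl _).pow_right 2
    rwa [hβ] at this
  obtain ⟨m, hm⟩ := mem_zpowers_iff.mp (C2 _ h1)
  have h2 : s ^ (2 * m - 2) = 1 := by
    have h3 : (β s) ^ 2 = s ^ 2 := by rw [← map_pow, hβ]
    rw [← hm, ← zpow_natCast, ← zpow_mul] at h3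
    push_cast at h3
    rw [zpow_sub, mul_comm, h3]
    have : s ^ (2 : ℤ) = s ^ (2 : ℕ) := by exact_mod_cast rfl
    rw [this, mul_inv_cancel]
  have h4 : (20 : ℤ) ∣ 2 * m - 2 := by
    have := orderOf_dvd_iff_zpow_eq_one.mpr h2
    rwa [hs] at this
  obtain ⟨t, ht⟩ := h4
  have hm' : m = 1 + 10 * t := by omega
  have hz : (s ^ (10 : ℤ)) ^ (2 : ℤ) = 1 := by
    rw [← zpow_mul]
    have : s ^ (20 : ℕ) = 1 := by rw [← hs]; exact pow_orderOf_eq_one s
    exact_mod_cast this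
  rcases Int.even_or_odd' t with ⟨k, hk | hk⟩
  · left
    rw [← hm, hm', hk, zpow_add, zpow_one, show (10 : ℤ) * (2 * k) = 10 * 2 * k by ring, zpow_mul,
      zpow_mul, hz, one_zpow, mul_one]
  · right
    rw [← hm, hm', hk, show (1 : ℤ) + 10 * (2 * k + 1) = 11 + 10 * 2 * k by ring, zpow_add, zpow_mul,
      zpow_mul, hz, one_zpow, mul_one]
    exact_mod_cast rfl

theorem out_two [Finite G] (x s : G) (σ : MulAut G) (hx : orderOf x = 11)
    (hidx : ¬ 11 ∣ (zpowers x).index) (hs : orderOf s = 20)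
    (hvx : s ^ 2 * x * (s ^ 2)⁻¹ = x ^ 2)
    (C1 : ∀ c : G, Commute c x → c ∈ zpowers x)
    (C2 : ∀ c : G, Commute c (s ^ 2) → c ∈ zpowers s)
    (hgen : closure ({x, s} : Set G) = ⊤)
    (hσx : σ x = x) (hσs : σ s = s ^ 11) : Nat.card (Cfsg.Out G) = 2 := by
  have hs10 : s ^ 10 ≠ 1 := by
    intro h
    have := orderOf_dvd_of_pow_eq_one h
    rw [hs] at this
    exact absurd this (by norm_num)
  have hs20 : s ^ 20 = 1 := by rw [← hs]; exact pow_orderOf_eq_one s
  have hfix : ∀ β : MulAut G, β x = x → β s = s → β = 1 := by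
    intro β h1 h2
    apply Cfsg.Agent.Lib.Helper47OutB.eq_one_of_closure _ hgen
    intro y hy
    rcases hy with rfl | rfl
    · exact h1
    · exact h2
  apply Cfsg.Agent.Helper64J3.card_out_eq_two σ
  · -- `σ` is not inner
    rintro ⟨k, hk⟩
    have h1 : k * x * k⁻¹ = x := by
      have : σ x = k * x * k⁻¹ := by rw [← hk]; rfl
      rw [← this, hσx]
    have hkx : Commute k x := by
      show k * x = x * k
      have := congrArg (fun y => y * k) h1
      simpa using this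
    obtain ⟨n, hn⟩ := mem_zpowers_iff.mp (C1 k hkx)
    have hσv : σ (s ^ 2) = s ^ 2 := by
      rw [map_pow, hσs, ← pow_mul, show 11 * 2 = 20 + 2 by norm_num, pow_add, hs20, one_mul]
    have h2 : k * s ^ 2 * k⁻¹ = s ^ 2 := by
      have : σ (s ^ 2) = k * s ^ 2 * k⁻¹ := by rw [← hk]; rfl
      rw [← this, hσv]
    -- `k` commutes with `v`, hence `k² = k`
    have hsc : SemiconjBy (s ^ 2) x (x ^ 2) := by
      show s ^ 2 * x = x ^ 2 * s ^ 2
      rw [← hvx]; group
    have h3 := hsc.zpow_right n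
    rw [hn] at h3
    have e : (x ^ 2) ^ n = k ^ 2 := by
      rw [← hn, ← zpow_natCast, ← zpow_natCast, ← zpow_mul, ← zpow_mul, mul_comm]
    rw [e] at h3
    have h4 : s ^ 2 * k = k * s ^ 2 := by
      have := congrArg (fun y => y * k) h2
      simpa using this.symm
    have h5 : k = 1 := by
      have h6 : k * s ^ 2 = k ^ 2 * s ^ 2 := by rw [← h4]; exact h3
      have h7 := mul_right_cancel h6
      rw [pow_two] at h7
      exact (mul_eq_left.mp h7.symm)
    have h6 : σ = 1 := by rw [← hk, h5, map_one]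
    rw [h6] at hσs
    apply hs10
    have h7 : s = s ^ 10 * s := by
      have : s ^ 11 = s ^ 10 * s := pow_succ s 10
      rw [← this]; exact hσs
    exact (mul_eq_right.mp h7.symm)
  · intro φ
    obtain ⟨g, hg⟩ := normalise_x hx hidx hvx φ
    set α : MulAut G := MulAut.conj g * φ with hα
    have hαx : α x = x := hg
    obtain ⟨n, hnx, hn⟩ := normalise_v hvx C1 α hαx
    set β : MulAut G := MulAut.conj n * α with hβ
    have hβx : β x = x := by
      show n * α x * n⁻¹ = x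
      rw [hαx, hnx.eq, mul_inv_cancel_right]
    have hβv : β (s ^ 2) = s ^ 2 := hn
    have hφ : φ = MulAut.conj (n * g)⁻¹ * β := by
      rw [hβ, hα, map_inv, map_mul]; group
    rcases image_s hs C2 β hβv with h | h
    · left
      rw [hφ, hfix β hβx h, mul_one]
      exact ⟨_, rfl⟩
    · right
      have h1 : σ⁻¹ * β = 1 := by
        apply hfix
        · show σ⁻¹ (β x) = x
          rw [hβx]
          exact (MulEquiv.symm_apply_eq σ).mpr hσx.symm
        · show σ⁻¹ (β s) = s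
          rw [h]
          exact (MulEquiv.symm_apply_eq σ).mpr hσs.symm
      have h2 : β = σ := by
        have := congrArg (fun y => σ * y) h1
        simpa using this
      rw [hφ, h2]
      have h3 := (Cfsg.innNormal G).conj_mem (MulAut.conj (n * g)⁻¹) ⟨_, rfl⟩ σ⁻¹
      rw [inv_inv] at h3
      rw [← mul_assoc]
      exact h3

end Cfsg.Agent.Lib.Helper9OutAbs
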