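import Cfsg.Agent.Lib.Helper9ONF1
import Cfsg.Agent.Lib.Helper9ONF3
import Cfsg.Agent.Lib.Helper9OutAbs
import Cfsg.Agent.Lib.Helper35Iso
set_option maxRecDepth 100000
set_option autoImplicit false
set_option linter.constructorNameAsVariable false

/-! The outer automorphism group of the O'Nan group has order `2`. -/

namespace Cfsg.Agent.Lib.Helper9ONOut
open Cfsg.Agent.Lib.Helper35TC Cfsg.Agent.Lib.Helper35ONa Cfsg.Agent.Lib.Helper9ONW Cfsg.Agent.Lib.Helper9ONS Cfsg.Agent.Lib.Helper9ONC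
open Cfsg.Agent.Lib.Helper9ONF1 Cfsg.Agent.Lib.Helper9ONF3

/-- images of the generators under the outer automorphism -/
def img : Gen → W
  | .a => (.mul (.inv (.of .g)) (.mul (.of .d) (.mul (.of .c) (.mul (.of .b) (.mul (.of .g) (.mul (.of .d) (.mul (.of .c) (.mul (.of .g) (.mul (.of .d) (.mul (.of .b) (.mul (.of .c) (.mul (.of .g) (.of .d)))))))))))))
  | .b => (.mul (.of .a) (.mul (.of .b) (.mul (.of .g) (.mul (.of .c) (.mul (.of .d) (.mul (.of .b) (.mul (.of .c) (.mul (.of .d) (.mul (.of .b) (.mul (.of .c) (.mul (.inv (.of .g)) (.mul (.of .b) (.of .a)))))))))))))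
  | .c => (.mul (.of .f) (.mul (.of .c) (.mul (.of .d) (.mul (.of .b) (.mul (.of .c) (.mul (.of .d) (.mul (.of .b) (.of .c))))))))
  | .d => (.mul (.of .c) (.mul (.inv (.of .g)) (.mul (.of .d) (.mul (.of .b) (.mul (.of .c) (.mul (.of .d) (.mul (.of .c) (.mul (.of .g) (.mul (.of .b) (.mul (.of .g) (.of .c)))))))))))
  | .e => (.mul (.of .b) (.mul (.of .c) (.mul (.inv (.of .g)) (.mul (.of .b) (.mul (.of .d) (.mul (.inv (.of .g)) (.mul (.of .c) (.mul (.of .d) (.mul (.of .e) (.mul (.of .d) (.mul (.of .c) (.mul (.of .g) (.mul (.of .d) (.mul (.of .b) (.mul (.of .g) (.mul (.of .c) (.of .b)))))))))))))))))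
  | .f => (.of .f)
  | .g => (.mul (.of .c) (.mul (.of .d) (.mul (.of .c) (.mul (.of .g) (.mul (.of .b) (.mul (.of .c) (.of .d)))))))

theorem relChk : allL (fun e : W => eqChk (e.bind img) one) K.relExps = true := by decide +kernel

theorem hrel : ∀ e ∈ K.relExps, PresentedGroup.mk K.rels (e.bind img).eval = 1 := by
  intro e he
  have h := eq_of_chk (allL_spec _ _ relChk e he)
  rw [ev_one] at h
  exact h

noncomputable def sigH : Gr →* Gr := ok.homW K img hrel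

theorem sigH_ev (e : W) : sigH (ev e) = ev (e.bind img) := ok.homW_mk K img hrel e

def sI : W := .inv s

theorem ev_sI : ev sI = (ev s)⁻¹ := ev_inv s

theorem sigH_x : sigH (ev x) = ev x := by
  have h : eqChk (x.bind img) x = true := by decide +kernel
  rw [sigH_ev, eq_of_chk h]

theorem sigH_sI : sigH (ev sI) = ev sI ^ 11 := by
  have h : eqChk (sI.bind img) (.pow sI 11) = true := by decide +kernel
  rw [sigH_ev, eq_of_chk h, ev_pow]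

theorem x_pow : ev x ^ 11 = 1 := by
  have h : eqChk (.pow x 11) one = true := by decide +kernel
  rw [← ev_pow, eq_of_chk h, ev_one]

theorem x_ne : ev x ≠ 1 := by
  rw [← ev_one]
  exact ne_of_act 0 (by norm_num) (by decide +kernel)

theorem order_x : orderOf (ev x) = 11 := by
  have : Fact (Nat.Prime 11) := ⟨by norm_num⟩
  exact orderOf_eq_prime x_pow x_ne

theorem s_pow : ev sI ^ 20 = 1 := by
  have h : eqChk (.pow sI 20) one = true := by decide +kernel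
  rw [← ev_pow, eq_of_chk h, ev_one]

theorem s_pow10 : ev sI ^ 10 ≠ 1 := by
  rw [← ev_one, ← ev_pow]
  exact ne_of_act 5 (by norm_num) (by decide +kernel)

theorem s_pow4 : ev sI ^ 4 ≠ 1 := by
  rw [← ev_one, ← ev_pow]
  exact ne_of_act 5 (by norm_num) (by decide +kernel)

theorem order_s : orderOf (ev sI) = 20 := by
  apply orderOf_eq_of_pow_and_pow_div_prime (by norm_num) s_pow
  intro p hp hd
  have hle : p ≤ 20 := Nat.le_of_dvd (by norm_num) hd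
  interval_cases p
  all_goals first
    | exact s_pow10
    | exact s_pow4
    | (exfalso; revert hp; norm_num; done)
    | (exfalso; revert hd; norm_num)

theorem hvx : ev sI ^ 2 * ev x * (ev sI ^ 2)⁻¹ = ev x ^ 2 := by
  have h : eqChk (.mul (.mul (.pow sI 2) x) (.inv (.pow sI 2))) (.pow x 2) = true := by
    decide +kernel
  have := eq_of_chk h
  rwa [ev_mul, ev_mul, ev_inv, ev_pow, ev_pow] at this

theorem hidx : ¬ 11 ∣ (Subgroup.zpowers (ev x)).index := by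
  have h := Subgroup.card_mul_index (Subgroup.zpowers (ev x))
  rw [Nat.card_zpowers, order_x, Cfsg.Agent.Lib.Helper35ONFin.card_eq] at h
  omega

theorem C2 : ∀ c : Gr, Commute c (ev sI ^ 2) → c ∈ Subgroup.zpowers (ev sI) := by
  intro c hc
  rw [ev_sI, Subgroup.zpowers_inv]
  apply cent_v
  rw [ev_sI, inv_pow, Commute.inv_right_iff] at hc
  rw [v, ev_pow]
  exact hc

def cw_a : List ℕ := [3, 1, 2, 0, 0, 0, 0, 2, 0, 2, 0, 0, 2, 0, 0, 0, 2, 0, 0, 0, 0, 0, 3, 3, 3, 3, 3, 3, 3, 1, 1, 3, 0, 0, 0, 3, 0, 0, 0, 3, 1, 3, 0, 0, 1, 1, 2, 0, 0, 2, 0, 0, 2, 0, 2, 0, 0, 0, 2, 0, 0, 0, 0, 0, 2, 2, 2, 2, 2, 2, 2, 2, 2, 0, 0, 0, 0, 3, 1, 1, 1, 1, 3, 0, 0, 0, 0, 0, 3, 0, 0, 0, 0, 3, 1, 1, 1, 1, 1, 1, 1, 2, 1, 1, 1, 1, 2, 1, 1, 2, 0, 0, 2, 2, 2, 2, 2, 0, 2, 0, 0, 3, 1, 1, 1, 3, 0, 0, 3, 1, 3, 0, 0, 0, 3, 1, 2, 0, 0, 0, 0, 2, 0, 2, 0, 0, 2, 0, 0, 0, 2, 0, 0, 0, 0, 0, 3, 3,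 3, 3, 3, 3, 3, 1, 1, 3, 0, 0, 0, 3, 0, 0, 0, 3, 1, 3, 0, 0, 1, 1, 2, 0, 0, 2, 0, 0, 2, 0, 2, 0, 0, 0, 2, 0, 0, 0, 0, 0, 2, 2, 2, 2, 2, 2, 2, 2, 2, 0, 0, 0, 0, 3, 1, 1, 1, 1, 3, 0, 0, 0, 0, 0, 3, 0, 0, 0, 0, 3, 1, 1, 1, 1, 1, 1, 1, 2, 1, 1, 1, 1, 2, 1, 1, 2, 0, 0, 2, 2, 2, 2, 2, 0, 2, 0, 0, 3, 1, 1, 1, 3, 0, 0, 3, 1, 3, 0, 0, 0, 3, 3, 3, 3, 3, 3, 3, 3, 3, 3]
theorem mem_a : ev (.of .a) ∈ cl [x, sI] := by
  have h : eqChk (.of .a) (mkW [x, sI] cw_a) = true := by decide +kernel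
  rw [eq_of_chk h]; exact mkW_mem _ _
def cw_b : List ℕ := [1, 1, 1, 2, 1, 1, 1, 1, 2, 1, 1, 2, 0, 0, 2, 2, 2, 2, 2, 0, 2, 0, 0, 3, 1, 1, 1, 3, 0, 0, 3, 1, 3, 0, 0, 0]
theorem mem_b : ev (.of .b) ∈ cl [x, sI] := by
  have h : eqChk (.of .b) (mkW [x, sI] cw_b) = true := by decide +kernel
  rw [eq_of_chk h]; exact mkW_mem _ _
def cw_c : List ℕ := [1, 2, 0, 0, 0, 0, 2, 0, 2, 0, 0, 2, 0, 0, 0, 2, 0, 0, 0, 0, 0, 3, 3, 3, 3, 3, 3, 3, 1, 1, 3, 0, 0, 0, 3, 0, 0, 0, 3, 1, 3, 0, 0]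
theorem mem_c : ev (.of .c) ∈ cl [x, sI] := by
  have h : eqChk (.of .c) (mkW [x, sI] cw_c) = true := by decide +kernel
  rw [eq_of_chk h]; exact mkW_mem _ _
def cw_d : List ℕ := [1, 1, 2, 0, 0, 2, 0, 0, 2, 0, 2, 0, 0, 0, 2, 0, 0, 0, 0, 0, 2, 2, 2, 2, 2, 2, 2, 2, 2, 0, 0, 0, 0, 3, 1, 1, 1, 1, 3, 0, 0, 0, 0, 0, 3, 0, 0, 0, 0, 3, 1, 1, 1, 1]
theorem mem_d : ev (.of .d) ∈ cl [x, sI] := by
  have h : eqChk (.of .d) (mkW [x, sI] cw_d) = true := by decide +kernel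
  rw [eq_of_chk h]; exact mkW_mem _ _
def cw_e : List ℕ := [1, 1, 1, 2, 0, 0, 0, 0, 0, 2, 1, 2, 0, 0, 0, 2, 0, 0, 3, 1, 2, 2, 2, 2, 2, 1, 1, 1, 3, 1, 1, 3, 1, 1, 1, 1, 3, 1, 1, 3]
theorem mem_e : ev (.of .e) ∈ cl [x, sI] := by
  have h : eqChk (.of .e) (mkW [x, sI] cw_e) = true := by decide +kernel
  rw [eq_of_chk h]; exact mkW_mem _ _
def cw_f : List ℕ := [3, 3, 3, 3, 3, 3, 3, 3, 3, 3]
theorem mem_f : ev (.of .f) ∈ cl [x, sI] := by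
  have h : eqChk (.of .f) (mkW [x, sI] cw_f) = true := by decide +kernel
  rw [eq_of_chk h]; exact mkW_mem _ _
def cw_g : List ℕ := [3, 1, 2, 0, 0, 0, 0, 2, 0, 2, 0, 0, 2, 0, 0, 0, 2, 0, 0, 0, 0, 0, 3, 3, 3, 3, 3, 3, 3, 1, 1, 3, 0, 0, 0, 3, 0, 0, 0, 3, 1, 3, 0, 0, 1, 1, 2, 0, 0, 2, 0, 0, 2, 0, 2, 0, 0, 0, 2, 0, 0, 0, 0, 0, 2, 2, 2, 2, 2, 2, 2, 2, 2, 0, 0, 0, 0, 3, 1, 1, 1, 1, 3, 0, 0, 0, 0, 0, 3, 0, 0, 0, 0, 3, 1, 1, 1, 1, 1, 1, 1, 2, 1, 1, 1, 1, 2, 1, 1, 2, 0, 0, 2, 2, 2, 2, 2, 0, 2, 0, 0, 3, 1, 1, 1, 3, 0, 0, 3, 1, 3, 0, 0, 0]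
theorem mem_g : ev (.of .g) ∈ cl [x, sI] := by
  have h : eqChk (.of .g) (mkW [x, sI] cw_g) = true := by decide +kernel
  rw [eq_of_chk h]; exact mkW_mem _ _

theorem cl_top : cl [x, sI] = ⊤ := by
  apply Pkg.top_of_gens
  intro a
  cases a
  · exact mem_g
  · exact mem_a
  · exact mem_b
  · exact mem_c
  · exact mem_d
  · exact mem_e
  · exact mem_f

theorem hgen : Subgroup.closure ({ev x, ev sI} : Set Gr) = ⊤ := by
  rw [← cl_top, cl]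
  congr 1
  ext y
  simp only [evs, Set.mem_insert_iff, Set.mem_singleton_iff, Set.mem_ofPred_eq, List.mem_cons,
    List.not_mem_nil, or_false, exists_eq_or_imp, exists_eq_left]

theorem sigH_surj : Function.Surjective sigH := by
  rw [← MonoidHom.range_eq_top, eq_top_iff, ← hgen, Subgroup.closure_le]
  rintro y (rfl | rfl)
  · exact ⟨ev x, sigH_x⟩
  · refine ⟨ev sI ^ 11, ?_⟩
    rw [map_pow, sigH_sI, ← pow_mul, show 11 * 11 = 20 * 6 + 1 by norm_num, pow_add, pow_mul, s_pow,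
      one_pow, one_mul, pow_one]

noncomputable def sig : MulAut Gr :=
  MulEquiv.ofBijective sigH ⟨(Finite.injective_iff_surjective).mpr sigH_surj, sigH_surj⟩

theorem out_card : Nat.card (Cfsg.Out Gr) = 2 :=
  Cfsg.Agent.Lib.Helper9OutAbs.out_two (ev x) (ev sI) sig order_x hidx order_s hvx cent_x C2 hgen
    sigH_x sigH_sI

end Cfsg.Agent.Lib.Helper9ONOut
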