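import Cfsg.Agent.Lib.Helper9ONW

set_option autoImplicit false
set_option maxRecDepth 100000
set_option linter.constructorNameAsVariable false

/-! Certificates for Sylow subgroups and simplicity of two-generator subgroups of the O'Nan
group. -/

namespace Cfsg.Agent.Lib.Helper9ONS

open Cfsg.Agent.Lib.Helper35TC Cfsg.Agent.Lib.Helper35ONa Cfsg.Agent.Lib.Helper9ChainT
  Cfsg.Agent.Lib.Helper9ONW

/-- `c1 z^m1 c1⁻¹ c2 z^m2 c2⁻¹` -/
def conj2 (z c1 c2 : W) (m1 m2 : ℕ) : W :=
  .mul (.mul (.mul c1 (.pow z m1)) (.inv c1)) (.mul (.mul c2 (.pow z m2)) (.inv c2))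

theorem ev_conj2 (z c1 c2 : W) (m1 m2 : ℕ) : ev (conj2 z c1 c2 m1 m2) =
    ev c1 * ev z ^ m1 * (ev c1)⁻¹ * (ev c2 * ev z ^ m2 * (ev c2)⁻¹) := by
  simp only [conj2, ev_mul, ev_inv, ev_pow]

theorem act_zero (e : W) : ((ok.phi (ev e)) ok.zero).val = act e false 0 :=
  (act_spec e ok.zero).1

theorem ne_one_of_act {e : W} (u : W)
    (h : Nat.beq (act (.mul e u) false 0) (act u false 0) = false) : ev e ≠ 1 := by
  intro he
  have h1 : ev (.mul e u) = ev u := by rw [ev_mul, he, one_mul]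
  have h2 : act (.mul e u) false 0 = act u false 0 := by
    rw [← act_zero, ← act_zero, h1]
  rw [h2] at h
  have h4 : Nat.beq (act u false 0) (act u false 0) = true := Nat.beq_eq ▸ rfl
  rw [h4] at h
  exact absurd h (by simp)

/-- The property needed of a Sylow subgroup. -/
def Wit (S0 : List W) (x : W) (r a : ℕ) : Prop :=
  ∃ S : Subgroup Gr, S ≤ cl S0 ∧ Nat.card S = r ^ a ∧
    ∀ z ∈ S, z ≠ 1 → ∀ N : Subgroup Gr, NormBy (cl S0) N → z ∈ N → ev x ∈ N

theorem prime_case (S0 : List W) (x : W) (r : ℕ) (hr : r.Prime) (g c1 c2 : List ℕ) (m1 m2 : ℕ)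
    (u : W)
    (h1 : eqChk (.pow (mkW S0 g) r) one = true)
    (h2 : eqChk x (conj2 (mkW S0 g) (mkW S0 c1) (mkW S0 c2) m1 m2) = true)
    (h3 : Nat.beq (act (.mul (mkW S0 g) u) false 0) (act u false 0) = false) : Wit S0 x r 1 := by
  have e1 : ev (mkW S0 g) ^ r = 1 := by
    have := eq_of_chk h1
    rwa [ev_pow, ev_one] at this
  have e3 := ne_one_of_act u h3
  refine ⟨Subgroup.zpowers (ev (mkW S0 g)), ?_, ?_, ?_⟩
  · rw [Subgroup.zpowers_le]
    exact mkW_mem S0 g
  · rw [pow_one]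
    exact card_zpowers_prime hr e1 e3
  · intro z hz hz1 N hN hzN
    have hg := mem_of_mem_zpowers_prime hr e1 hz hz1 N hzN
    have e2 := eq_of_chk h2
    rw [ev_conj2] at e2
    exact mem_of_conj2 hN m1 m2 hg (mkW_mem S0 c1) (mkW_mem S0 c2) e2

/-- witnesses for the elements of a list -/
noncomputable def witChk (S0 : List W) (x : W) (T : List W)
    (wit : List (List ℕ × ℕ × List ℕ × ℕ)) (i : ℕ) : Bool :=
  Nat.beq i 0 ||
    eqChk x (conj2 (T.getD i one) (mkW S0 (wit.getD i ([], 0, [], 0)).1)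
      (mkW S0 (wit.getD i ([], 0, [], 0)).2.2.1) (wit.getD i ([], 0, [], 0)).2.1
      (wit.getD i ([], 0, [], 0)).2.2.2)

theorem list_case (S0 : List W) (x : W) (r a : ℕ) (Ew Tw : List (List ℕ))
    (C : List (List (List ℕ × ℕ))) (wit : List (List ℕ × ℕ × List ℕ × ℕ)) (u : W)
    (hlen : Tw.length = r ^ a)
    (h0 : Tw.getD 0 [0] = [])
    (hlev : allB (levChk (Ew.map (mkW S0)) (Tw.map (mkW (Ew.map (mkW S0)))) [] C) Tw.length = true)
    (hwit : allB (witChk S0 x (Tw.map (mkW (Ew.map (mkW S0)))) wit) Tw.length = true)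
    (hnd : ((Tw.map (mkW (Ew.map (mkW S0)))).map (fun e => act (.mul e u) false 0)).Nodup) :
    Wit S0 x r a := by
  set E := Ew.map (mkW S0) with hE
  set T := Tw.map (mkW E) with hT
  have hTlen : T.length = Tw.length := by rw [hT, List.length_map]
  have hpos : 0 < Tw.length := by
    rcases Nat.eq_zero_or_pos Tw.length with h | h
    · rw [List.getD_eq_default _ _ (by omega)] at h0
      exact absurd h0 (by simp)
    · exact h
  have hT0 : T.getD 0 one = one := by
    rw [List.getD_eq_getElem _ _ (by omega)]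
    rw [List.getD_eq_getElem _ _ hpos] at h0
    simp only [hT, List.getElem_map, h0]
    rfl
  have hcov := cover_of_lev E T [] C (by rw [hT0, ev_one]) (by omega)
    (fun i hi => allB_spec _ _ hlev i (by omega))
  have hcov' : ∀ g ∈ cl E, g ∈ T.map ev := by
    intro g hg
    obtain ⟨h, hh, t, ht, rfl⟩ := hcov g hg
    rw [cl_nil, Subgroup.mem_bot] at hh
    rwa [hh, one_mul]
  have hub : Nat.card (cl E) ≤ r ^ a := by
    have := card_le_of_lev E T [] C (by rw [hT0, ev_one]) (by omega)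
      (fun i hi => allB_spec _ _ hlev i (by omega))
    rw [cl_nil, Subgroup.card_bot, one_mul, hTlen, hlen] at this
    exact this
  have hmem : ∀ g ∈ T.map ev, g ∈ cl E := by
    intro g hg
    obtain ⟨t, ht, rfl⟩ := List.mem_map.mp hg
    obtain ⟨w, _, rfl⟩ := List.mem_map.mp ht
    exact mkW_mem E w
  have hnd' : (T.map ev).Nodup := by
    apply List.Nodup.of_map (fun g => ((ok.phi (g * ev u)) ok.zero).val)
    rw [List.map_map]
    have : ((fun g => ((ok.phi (g * ev u)) ok.zero).val) ∘ ev) =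
        fun e => act (.mul e u) false 0 := by
      funext e
      show ((ok.phi (ev e * ev u)) ok.zero).val = _
      rw [← ev_mul, act_zero]
    rw [this]
    exact hnd
  have hlb := card_ge_of_nodup (cl E) (T.map ev) hnd' hmem
  rw [List.length_map, hTlen, hlen] at hlb
  refine ⟨cl E, cl_map_le S0 Ew, le_antisymm hub hlb, ?_⟩
  intro z hz hz1 N hN hzN
  obtain ⟨t, ht, rfl⟩ := List.mem_map.mp (hcov' z hz)
  obtain ⟨i, hi, rfl⟩ := List.getElem_of_mem ht
  have h1 := allB_spec _ _ hwit i (by omega)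
  unfold witChk at h1
  rw [Bool.or_eq_true, Nat.beq_eq] at h1
  rcases h1 with h1 | h1
  · exfalso
    apply hz1
    subst h1
    rw [← List.getD_eq_getElem _ one hi, hT0, ev_one]
  · have e2 := eq_of_chk h1
    rw [ev_conj2, List.getD_eq_getElem _ _ hi] at e2
    exact mem_of_conj2 hN _ _ hzN (mkW_mem S0 _) (mkW_mem S0 _) e2

/-- final step: the normal closure of `x` is everything -/
theorem top_of_x (x y : W) (m u : ℕ) (h1 : eqChk (.pow (.mul x y) m) one = true)
    (h2 : eqChk (.pow (.pow y m) u) y = true) (N : Subgroup Gr) (hN : NormBy (cl [x, y]) N)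
    (hx : ev x ∈ N) : cl [x, y] ≤ N := by
  have e1 := eq_of_chk h1
  have e2 := eq_of_chk h2
  rw [ev_pow, ev_mul, ev_one] at e1
  rw [ev_pow, ev_pow] at e2
  have hy : ev y ∈ cl [x, y] := Subgroup.subset_closure ⟨y, by simp, rfl⟩
  have := mem_of_rel hN hx hy m u e1 e2
  apply cl_le
  intro e he
  simp only [List.mem_cons, List.not_mem_nil, or_false] at he
  rcases he with rfl | rfl
  · exact hx
  · exact this

theorem simple_of_wit (x y : W) (m u : ℕ) (h1 : eqChk (.pow (.mul x y) m) one = true)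
    (h2 : eqChk (.pow (.pow y m) u) y = true) (hne : cl [x, y] ≠ ⊥)
    (h : ∀ r : ℕ, r.Prime → r ∣ Nat.card (cl [x, y]) →
      ∃ a, Wit [x, y] x r a ∧ ¬ r ^ (a + 1) ∣ Nat.card (cl [x, y])) :
    IsSimpleGroup (cl [x, y]) := by
  apply simple_of_witness' _ hne
  intro r hr hd
  obtain ⟨a, ⟨S, hS, hc, hw⟩, hna⟩ := h r hr hd
  exact ⟨S, a, hS, hc, hna, fun z hz hz1 N _ hN hzN =>
    top_of_x x y m u h1 h2 N hN (hw z hz hz1 N hN hzN)⟩

theorem Wit.dvd {S0 : List W} {x : W} {r a : ℕ} (h : Wit S0 x r a) : r ^ a ∣ Nat.card (cl S0) := by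
  obtain ⟨S, hS, hc, _⟩ := h
  rw [← hc]
  exact Subgroup.card_dvd_of_le hS

theorem lev_bound (S0 S : List W) (Tw Sw : List (List ℕ)) (C : List (List (List ℕ × ℕ))) (n : ℕ)
    (hn : Tw.length = n) (h0 : Tw.getD 0 [0] = [])
    (h : allB (levChk S (Tw.map (mkW S0)) (Sw.map (mkW S0)) C) n = true) :
    Nat.card (cl S) ≤ Nat.card (cl (Sw.map (mkW S0))) * n := by
  have hpos : 0 < Tw.length := by
    rcases Nat.eq_zero_or_pos Tw.length with h | h
    · rw [List.getD_eq_default _ _ (by omega)] at h0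
      exact absurd h0 (by simp)
    · exact h
  have hTlen : (Tw.map (mkW S0)).length = n := by rw [List.length_map, hn]
  have hT0 : (Tw.map (mkW S0)).getD 0 one = one := by
    rw [List.getD_eq_getElem _ _ (by omega)]
    rw [List.getD_eq_getElem _ _ hpos] at h0
    simp only [List.getElem_map, h0]
    rfl
  have := card_le_of_lev S (Tw.map (mkW S0)) (Sw.map (mkW S0)) C (by rw [hT0, ev_one]) (by omega)
    (fun i hi => allB_spec _ _ h i (by omega))
  rwa [hTlen] at this

theorem prime_mem_of_dvd_prod (r : ℕ) (hr : r.Prime) (l : List ℕ) (hl : ∀ q ∈ l, q.Prime)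
    (h : r ∣ l.prod) : r ∈ l := by
  obtain ⟨a, ha, hd⟩ := (Prime.dvd_prod_iff (Nat.prime_iff.mp hr)).mp h
  rwa [(Nat.prime_dvd_prime_iff_eq hr (hl a ha)).mp hd]

theorem card_cl_nil (S0 : List W) : Nat.card (cl (([] : List (List ℕ)).map (mkW S0))) = 1 := by
  show Nat.card (cl []) = 1
  rw [cl_nil, Subgroup.card_bot]

end Cfsg.Agent.Lib.Helper9ONS
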