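import Cfsg.Agent.Lib.Helper35ONFin
import Cfsg.Agent.Lib.Helper9ChainT

set_option autoImplicit false
set_option maxRecDepth 100000
set_option linter.constructorNameAsVariable false

/-! Computing inside the O'Nan group: word expressions acting on the 122760 points, equality
certificates, transversal levels. -/

namespace Cfsg.Agent.Lib.Helper9ONW

open Cfsg.Agent.Lib.Helper35TC Cfsg.Agent.Lib.Helper35ONa Cfsg.Agent.Lib.Helper9ChainT

abbrev Gen := Cfsg.Spor.ON.Gen
abbrev W := WExp Gen
abbrev Gr := K.Grp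

noncomputable def ev (e : W) : Gr := PresentedGroup.mk K.rels e.eval

theorem ev_mul (a b : W) : ev (.mul a b) = ev a * ev b := by
  simp only [ev, WExp.eval, map_mul]

theorem ev_inv (a : W) : ev (.inv a) = (ev a)⁻¹ := by
  simp only [ev, WExp.eval, map_inv]

theorem ev_pow (a : W) (n : ℕ) : ev (.pow a n) = ev a ^ n := by
  simp only [ev, WExp.eval, map_pow]

/-- the identity as a word expression -/
def one : W := .pow (.of .a) 0

theorem ev_one : ev one = 1 := by rw [one, ev_pow, pow_zero]

instance : Finite Gr := Cfsg.Agent.Lib.Helper35ONFin.hub.1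

/-- image of the point `p` under the element `e` (`b = false`) or its inverse (`b = true`) -/
noncomputable def act (e : W) : Bool → ℕ → ℕ :=
  WExp.rec (motive := fun _ => Bool → ℕ → ℕ)
    (fun a b p => Bool.rec (P.A p (code a)) (P.A p (P.iv (code a))) b)
    (fun _ _ ihx ihy b p =>
      Bool.rec (strict (ihy false p) (ihx false)) (strict (ihx true p) (ihy true)) b)
    (fun _ ih b p => ih (Bool.rec true false b) p)
    (fun _ n ih b p => Nat.rec (fun q => q) (fun _ r q => strict (ih b q) r) n p)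
    e

theorem act_of (a : Gen) (b : Bool) (p : ℕ) :
    act (.of a) b p = if b then P.A p (P.iv (code a)) else P.A p (code a) := by
  cases b <;> rfl

theorem act_mul_false (x y : W) (p : ℕ) : act (.mul x y) false p = act x false (act y false p) :=
  rfl

theorem act_mul_true (x y : W) (p : ℕ) : act (.mul x y) true p = act y true (act x true p) :=
  rfl

theorem act_inv (x : W) (b : Bool) (p : ℕ) : act (.inv x) b p = act x (!b) p := by
  cases b <;> rfl

theorem act_pow_zero (x : W) (b : Bool) (p : ℕ) : act (.pow x 0) b p = p := rfl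

theorem act_pow_succ (x : W) (n : ℕ) (b : Bool) (p : ℕ) :
    act (.pow x (n + 1)) b p = act (.pow x n) b (act x b p) := rfl

theorem phi_of (a : Gen) : ok.phi (ev (.of a)) = ok.hP.val (code a) :=
  PresentedGroup.toGroup.of _

theorem act_spec (e : W) : ∀ p : Fin K.P.n,
    ((ok.phi (ev e)) p).val = act e false p.val ∧ (((ok.phi (ev e))⁻¹) p).val = act e true p.val := by
  induction e with
  | of a =>
    intro p
    have hc : code a < K.P.L := ok.hcodeL a
    refine ⟨?_, ?_⟩
    · rw [phi_of, ok.hP.val_apply hc]; rfl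
    · rw [phi_of, ← ok.hP.val_iv, ok.hP.val_apply (ok.hP.hiv _ hc).1]; rfl
  | mul x y hx hy =>
    intro p
    refine ⟨?_, ?_⟩
    · rw [ev_mul, map_mul, Equiv.Perm.mul_apply, (hx _).1, (hy _).1, act_mul_false]
    · rw [ev_mul, map_mul, mul_inv_rev, Equiv.Perm.mul_apply, (hy _).2, (hx _).2, act_mul_true]
  | inv x hx =>
    intro p
    refine ⟨?_, ?_⟩
    · rw [ev_inv, map_inv, (hx _).2, act_inv]; rfl
    · rw [ev_inv, map_inv, inv_inv, (hx _).1, act_inv]; rfl
  | pow x n hx =>
    induction n with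
    | zero =>
      intro p
      rw [ev_pow, pow_zero, map_one, inv_one]
      exact ⟨rfl, rfl⟩
    | succ n ih =>
      intro p
      refine ⟨?_, ?_⟩
      · rw [ev_pow, pow_succ, map_mul, Equiv.Perm.mul_apply, ← ev_pow, (ih _).1, (hx _).1,
          act_pow_succ]
      · rw [ev_pow, pow_succ', map_mul, mul_inv_rev, Equiv.Perm.mul_apply, ← ev_pow, (ih _).2,
          (hx _).2, act_pow_succ]

theorem hfix : ∀ g : Gr, ok.phi g ok.zero = ok.zero →
    (∀ b ∈ BD.base, ok.phi g (ok.qpt BD b) = ok.qpt BD b) → g = 1 :=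
  (ok.order_eq hBD 3753792 hprod Cfsg.Agent.Lib.Helper35ONFin.hub).2.2

/-- equality test on the base -/
noncomputable def eqChk (e1 e2 : W) : Bool :=
  Nat.beq (act e1 false 0) (act e2 false 0) &&
    allL (fun b => Nat.beq (act e1 false (BD.pt b)) (act e2 false (BD.pt b))) BD.base

theorem eq_of_chk {e1 e2 : W} (h : eqChk e1 e2 = true) : ev e1 = ev e2 := by
  unfold eqChk at h
  rw [Bool.and_eq_true, Nat.beq_eq] at h
  have key : ∀ p : Fin K.P.n, act e1 false p.val = act e2 false p.val →
      ok.phi ((ev e2)⁻¹ * ev e1) p = p := by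
    intro p hp
    rw [map_mul, map_inv, Equiv.Perm.mul_apply, Equiv.Perm.inv_eq_iff_eq]
    apply Fin.ext
    rw [(act_spec e1 p).1, (act_spec e2 p).1, hp]
  have h1 : (ev e2)⁻¹ * ev e1 = 1 := by
    apply hfix
    · exact key _ h.1
    · intro b hb
      apply key
      rw [ok.qpt_val hBD (hBD.hbase b hb)]
      have := allL_spec _ _ h.2 b hb
      rwa [Nat.beq_eq] at this
  exact (inv_mul_eq_one.mp h1).symm

theorem ne_of_act {e1 e2 : W} (p : ℕ) (hp : p < 122760)
    (h : act e1 false p ≠ act e2 false p) : ev e1 ≠ ev e2 := by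
  intro he
  apply h
  have h1 := (act_spec e1 ⟨p, hp⟩).1
  have h2 := (act_spec e2 ⟨p, hp⟩).1
  rw [← h1, ← h2, he]

/-- the set of values of a list of expressions -/
def evs (S : List W) : Set Gr := {g | ∃ e ∈ S, g = ev e}

/-- the subgroup generated by a list of expressions -/
noncomputable def cl (S : List W) : Subgroup Gr := Subgroup.closure (evs S)

/-- letter `2 i` is the `i`-th entry of `S`, letter `2 i + 1` its inverse -/
noncomputable def ltr (S : List W) (c : ℕ) : W :=
  Nat.rec (S.getD (Nat.shiftRight c 1) one) (fun _ _ => .inv (S.getD (Nat.shiftRight c 1) one))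
    (Nat.land c 1)

/-- product of the letters of `w` -/
noncomputable def mkW (S : List W) (w : List ℕ) : W :=
  List.rec one (fun c _ ih => .mul (ltr S c) ih) w

theorem mkW_nil (S : List W) : mkW S [] = one := rfl
theorem mkW_cons (S : List W) (c : ℕ) (w : List ℕ) : mkW S (c :: w) = .mul (ltr S c) (mkW S w) :=
  rfl

theorem getD_mem (S : List W) (i : ℕ) : ev (S.getD i one) ∈ cl S := by
  by_cases hi : i < S.length
  · rw [List.getD_eq_getElem _ _ hi]
    exact Subgroup.subset_closure ⟨_, List.getElem_mem hi, rfl⟩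
  · rw [List.getD_eq_default _ _ (by omega), ev_one]
    exact Subgroup.one_mem _

theorem ltr_mem (S : List W) (c : ℕ) : ev (ltr S c) ∈ cl S := by
  unfold ltr
  cases Nat.land c 1 with
  | zero => exact getD_mem S _
  | succ n =>
    show ev (.inv (S.getD (Nat.shiftRight c 1) one)) ∈ cl S
    rw [ev_inv]
    exact Subgroup.inv_mem _ (getD_mem S _)

theorem mkW_mem (S : List W) : ∀ w : List ℕ, ev (mkW S w) ∈ cl S
  | [] => by rw [mkW_nil, ev_one]; exact Subgroup.one_mem _
  | c :: w => by
    rw [mkW_cons, ev_mul]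
    exact Subgroup.mul_mem _ (ltr_mem S c) (mkW_mem S w)

theorem cl_le {S : List W} {M : Subgroup Gr} (h : ∀ e ∈ S, ev e ∈ M) : cl S ≤ M := by
  rw [cl, Subgroup.closure_le]
  rintro _ ⟨e, he, rfl⟩
  exact h e he

theorem cl_map_le (S : List W) (ws : List (List ℕ)) : cl (ws.map (mkW S)) ≤ cl S := by
  apply cl_le
  intro e he
  obtain ⟨w, _, rfl⟩ := List.mem_map.mp he
  exact mkW_mem S w

theorem cl_nil : cl [] = ⊥ := by
  rw [eq_bot_iff]
  apply cl_le
  intro e he
  simp at he

/-- one row of a level: `T i * S j = h * T k` with `h` a word in `S'` -/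
noncomputable def rowChk (S T S' : List W) (i j : ℕ) (c : List ℕ × ℕ) : Bool :=
  Nat.ble (Nat.succ c.2) T.length &&
    eqChk (.mul (T.getD i one) (S.getD j one)) (.mul (mkW S' c.1) (T.getD c.2 one))

noncomputable def levChk (S T S' : List W) (C : List (List (List ℕ × ℕ))) (i : ℕ) : Bool :=
  allB (fun j => rowChk S T S' i j ((C.getD i []).getD j ([], 0))) S.length

theorem cover_of_lev (S T S' : List W) (C : List (List (List ℕ × ℕ)))
    (h0 : ev (T.getD 0 one) = 1) (hT : 0 < T.length)
    (h : ∀ i < T.length, levChk S T S' C i = true) :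
    ∀ g ∈ cl S, ∃ h ∈ cl S', ∃ t ∈ T.map ev, g = h * t := by
  apply mem_cover (evs S) {t | t ∈ T.map ev} (cl S')
  · show (1 : Gr) ∈ T.map ev
    rw [← h0, List.getD_eq_getElem _ _ hT]
    exact List.mem_map_of_mem (List.getElem_mem hT)
  · rintro t ht s ⟨e, he, rfl⟩
    obtain ⟨t', ht', rfl⟩ := List.mem_map.mp ht
    obtain ⟨i, hi, rfl⟩ := List.getElem_of_mem ht'
    obtain ⟨j, hj, rfl⟩ := List.getElem_of_mem he
    have h1 := allB_spec _ _ (h i hi) j hj
    unfold rowChk at h1
    rw [Bool.and_eq_true, Nat.ble_eq] at h1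
    obtain ⟨h2, h3⟩ := h1
    have h4 := eq_of_chk h3
    rw [ev_mul, ev_mul, List.getD_eq_getElem _ _ hi, List.getD_eq_getElem _ _ hj,
      List.getD_eq_getElem _ _ h2] at h4
    exact ⟨_, mkW_mem S' _, _, List.mem_map_of_mem (List.getElem_mem h2), h4⟩

theorem card_le_of_lev (S T S' : List W) (C : List (List (List ℕ × ℕ)))
    (h0 : ev (T.getD 0 one) = 1) (hT : 0 < T.length)
    (h : ∀ i < T.length, levChk S T S' C i = true) :
    Nat.card (cl S) ≤ Nat.card (cl S') * T.length := by
  have := card_le_of_cover (cl S) (cl S') (T.map ev) (cover_of_lev S T S' C h0 hT h)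
  rwa [List.length_map] at this

end Cfsg.Agent.Lib.Helper9ONW
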