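import Cfsg.Agent.Lib.Helper9Out23

set_option autoImplicit false
open Cfsg
open scoped Pointwise

namespace Cfsg.Agent.Lib.Helper9Out22

open Cfsg.Agent.Lib.Helper9Golay Cfsg.Agent.Lib.Helper9Golay2 Cfsg.Agent.Lib.Helper9M24
open Cfsg.Agent.Lib.Helper9Chain Cfsg.Agent.Lib.Helper9M24Data
open Cfsg.Agent.Lib.Helper9M24Order Cfsg.Agent.Lib.Helper9M24Trans Cfsg.Agent.Lib.Helper9M12
open Cfsg.Agent.Lib.Helper9Octad Cfsg.Agent.Lib.Helper9Out Cfsg.Agent.Lib.Helper9Out23

/-! ### the code is its own dual -/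

theorem parity_inter_symmDiff (s t b : Finset GolayPt) :
    (b ∩ symmDiff s t).card % 2 = ((b ∩ s).card + (b ∩ t).card) % 2 := by
  have h := card_inter_symmDiff (b ∩ s) (b ∩ t)
  have h2 : symmDiff (b ∩ s) (b ∩ t) = b ∩ symmDiff s t := by
    ext p
    simp only [Finset.mem_symmDiff, Finset.mem_inter]
    tauto
  rw [h2] at h
  omega

theorem dualCheck : (List.range 4096).all
    (fun m => m == 0 || basis.any (fun b => popc 24 (m &&& b) % 2 == 1)) = true := by
  decide +kernel

theorem fs_basis_mem {b : ℕ} (hb : b ∈ basis) : fs b ∈ Csup :=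
  ⟨toWord b, basis_mem b hb, support_toWord b⟩

theorem fs_code_mem (k : ℕ) : fs (code k) ∈ Csup :=
  (mem_supports_iff _).2 ⟨code k, code_mem k, rfl⟩

/-- a set meeting all basis words evenly is (the support of) a code word -/
theorem mem_Csup_of_even {s : Finset GolayPt} (h : ∀ b ∈ basis, 2 ∣ (s ∩ fs b).card) :
    s ∈ Csup := by
  have hn : mk s < 2 ^ 24 := mk_lt s
  have hk : mk s >>> 12 < 4096 := by
    rw [Nat.shiftRight_eq_div_pow]
    omega
  have hm : (mk s ^^^ code (mk s >>> 12)) < 4096 := by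
    have h1 : (mk s ^^^ code (mk s >>> 12)) >>> 12 = 0 := by
      rw [Nat.shiftRight_xor_distrib, code_shift _ hk, Nat.xor_self]
    rw [Nat.shiftRight_eq_div_pow] at h1
    have := (Nat.div_eq_zero_iff).1 h1
    omega
  have hc := forall_lt_of_all dualCheck _ hm
  rw [Bool.or_eq_true] at hc
  rcases hc with hc | hc
  · have h0 : mk s ^^^ code (mk s >>> 12) = 0 := by simpa using hc
    have h1 : mk s = code (mk s >>> 12) := Nat.xor_eq_zero_iff.1 h0
    rw [← fs_mk s, h1]
    exact fs_code_mem _
  · exfalso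
    obtain ⟨b, hb, hodd⟩ := List.any_eq_true.1 hc
    have hodd' : popc 24 ((mk s ^^^ code (mk s >>> 12)) &&& b) % 2 = 1 := by simpa using hodd
    rw [← card_fs, fs_and, fs_xor, fs_mk, Finset.inter_comm, parity_inter_symmDiff] at hodd'
    have h1 := h b hb
    have h2 := even_card_inter (fs_basis_mem hb) (fs_code_mem (mk s >>> 12))
    rw [Finset.inter_comm] at h1
    omega

theorem even_inter_foldr (s : Finset GolayPt) (l : List ℕ) (h : ∀ o ∈ l, 2 ∣ (s ∩ fs o).card) :
    2 ∣ (s ∩ fs (l.foldr (fun a b => a ^^^ b) 0)).card := by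
  induction l with
  | nil => simp [fs_zero]
  | cons a l ih =>
    simp only [List.foldr_cons]
    have h1 := parity_inter_symmDiff (fs a) (fs (l.foldr (fun a b => a ^^^ b) 0)) s
    rw [fs_xor]
    have h2 := h a (by simp)
    have h3 := ih (fun o ho => h o (by simp [ho]))
    omega

/-! ### octads through the two fixed points -/

def c0 : ℕ := 8394986

def spanData22 : List (List ℕ) :=
  [[8394986, 8391797], [12656663, 12650793], [8394986, 8412681], [11010247, 11046145],
   [8394986, 11100169, 8922769, 10506593], [8394986, 8524371], [8394986, 8657159],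
   [11010247, 10486557], [9830549, 8783649], [8946281, 11046145], [8394986, 12587685], [8391797]]

theorem spanData22_ok : spanData22.map (fun l => l.foldr (fun a b => a ^^^ b) 0) = basis
    ∧ spanData22.all (fun l => l.all (fun o => o == c0 ||
        (isOctad o && o.testBit 23 && o.testBit 0))) = true := by
  decide +kernel

theorem c0_props : isOctad c0 = true ∧ c0.testBit 23 = true ∧ c0.testBit 0 = false := by
  decide +kernel

theorem card_smul_inter (σ : Equiv.Perm GolayPt) (s t : Finset GolayPt) :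
    (σ • s ∩ t).card = (s ∩ σ⁻¹ • t).card := by
  have h : σ • s ∩ t = σ • (s ∩ σ⁻¹ • t) := by
    rw [Finset.smul_finset_inter, smul_inv_smul]
  rw [h, Finset.card_smul_finset]

theorem idx_zero : idx (some 0) = 0 := rfl

theorem idx_none : idx none = 23 := rfl

abbrev tau : Equiv.Perm GolayPt := Equiv.swap none (some 0)

theorem tau_smul_of_mem {o : Finset GolayPt} (h1 : none ∈ o) (h2 : some 0 ∈ o) : tau • o = o := by
  ext p
  rw [mem_smul_iff, Equiv.swap_inv]
  by_cases hp1 : p = none
  · subst hp1; simp [h1, h2]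
  · by_cases hp2 : p = some 0
    · subst hp2; simp [h1, h2]
    · rw [Equiv.swap_apply_of_ne_of_ne hp1 hp2]

theorem tau_smul_inter {s c : Finset GolayPt} (_h1 : none ∈ s) (h2 : some 0 ∉ s) (_h3 : none ∈ c)
    (h4 : some 0 ∉ c) : tau • s ∩ c = (s ∩ c).erase none := by
  ext p
  rw [Finset.mem_inter, mem_smul_iff, Equiv.swap_inv, Finset.mem_erase, Finset.mem_inter]
  by_cases hp1 : p = none
  · subst hp1; simp [h2]
  · by_cases hp2 : p = some 0
    · subst hp2; simp [h4]
    · rw [Equiv.swap_apply_of_ne_of_ne hp1 hp2]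
      simp [hp1]

/-- a permutation fixing the two points and permuting the octads through them lies in `M24`,
up to the transposition of the two points -/
theorem key22 {σ : Equiv.Perm GolayPt} (hn : σ none = none) (h0 : σ (some 0) = some 0)
    (h : ∀ o ∈ octads, none ∈ o → some 0 ∈ o → σ • o ∈ octads)
    (h' : ∀ o ∈ octads, none ∈ o → some 0 ∈ o → σ⁻¹ • o ∈ octads) :
    σ ∈ M24 ∨ tau * σ ∈ M24 := by
  have hc0 : fs c0 ∈ octads := fs_mem_octads c0_props.1
  have hc1 : none ∈ fs c0 := by rw [mem_fs]; exact c0_props.2.1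
  have hc2 : some 0 ∉ fs c0 := by rw [mem_fs, idx_zero, c0_props.2.2]; simp
  have hs1 : none ∈ σ • fs c0 := by
    rw [mem_smul_iff, Equiv.Perm.inv_eq_iff_eq.2 hn.symm]; exact hc1
  have hs2 : some 0 ∉ σ • fs c0 := by
    rw [mem_smul_iff, Equiv.Perm.inv_eq_iff_eq.2 h0.symm]; exact hc2
  -- the hexads
  have hex : ∀ o : ℕ, (isOctad o && o.testBit 23 && o.testBit 0) = true →
      fs o ∈ octads ∧ none ∈ fs o ∧ some 0 ∈ fs o := by
    intro o ho
    rw [Bool.and_eq_true, Bool.and_eq_true] at ho
    exact ⟨fs_mem_octads ho.1.1, by rw [mem_fs]; exact ho.1.2, by rw [mem_fs]; exact ho.2⟩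
  have hev : ∀ o : ℕ, (isOctad o && o.testBit 23 && o.testBit 0) = true →
      2 ∣ (σ • fs c0 ∩ fs o).card := by
    intro o ho
    obtain ⟨a, b, c⟩ := hex o ho
    rw [card_smul_inter]
    exact even_card_inter hc0.1 (h' _ a b c).1
  have hmemσ : ∀ o : ℕ, (isOctad o && o.testBit 23 && o.testBit 0) = true →
      none ∈ σ • fs o ∧ some 0 ∈ σ • fs o := by
    intro o ho
    obtain ⟨a, b, c⟩ := hex o ho
    constructor
    · rw [mem_smul_iff, Equiv.Perm.inv_eq_iff_eq.2 hn.symm]; exact b
    · rw [mem_smul_iff, Equiv.Perm.inv_eq_iff_eq.2 h0.symm]; exact c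
  by_cases hpar : 2 ∣ (σ • fs c0 ∩ fs c0).card
  · left
    have hmem : σ • fs c0 ∈ Csup := by
      apply mem_Csup_of_even
      intro b hb
      rw [← spanData22_ok.1] at hb
      obtain ⟨l, hl, rfl⟩ := List.mem_map.1 hb
      apply even_inter_foldr
      intro o ho
      have h1 := List.all_eq_true.1 (List.all_eq_true.1 spanData22_ok.2 l hl) o ho
      rw [Bool.or_eq_true] at h1
      rcases h1 with h1 | h1
      · have : o = c0 := by simpa using h1
        rw [this]; exact hpar
      · exact hev o h1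
    apply mem_M24_of
    intro b hb
    rw [← spanData22_ok.1] at hb
    obtain ⟨l, hl, rfl⟩ := List.mem_map.1 hb
    apply smul_foldr_mem
    intro o ho
    have h1 := List.all_eq_true.1 (List.all_eq_true.1 spanData22_ok.2 l hl) o ho
    rw [Bool.or_eq_true] at h1
    rcases h1 with h1 | h1
    · have : o = c0 := by simpa using h1
      rw [this]; exact hmem
    · obtain ⟨a, b, c⟩ := hex o h1
      exact (h _ a b c).1
  · right
    have hmem : tau • σ • fs c0 ∈ Csup := by
      apply mem_Csup_of_even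
      intro b hb
      rw [← spanData22_ok.1] at hb
      obtain ⟨l, hl, rfl⟩ := List.mem_map.1 hb
      apply even_inter_foldr
      intro o ho
      have h1 := List.all_eq_true.1 (List.all_eq_true.1 spanData22_ok.2 l hl) o ho
      rw [Bool.or_eq_true] at h1
      rcases h1 with h1 | h1
      · have : o = c0 := by simpa using h1
        rw [this, tau_smul_inter hs1 hs2 hc1 hc2,
          Finset.card_erase_of_mem (Finset.mem_inter.2 ⟨hs1, hc1⟩)]
        have hpos : 0 < (σ • fs c0 ∩ fs c0).card :=
          Finset.card_pos.2 ⟨none, Finset.mem_inter.2 ⟨hs1, hc1⟩⟩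
        omega
      · obtain ⟨a, b, c⟩ := hex o h1
        rw [card_smul_inter, Equiv.swap_inv, tau_smul_of_mem b c]
        exact hev o h1
    apply mem_M24_of
    intro b hb
    rw [← spanData22_ok.1] at hb
    obtain ⟨l, hl, rfl⟩ := List.mem_map.1 hb
    apply smul_foldr_mem
    intro o ho
    have h1 := List.all_eq_true.1 (List.all_eq_true.1 spanData22_ok.2 l hl) o ho
    rw [Bool.or_eq_true] at h1
    rw [mul_smul]
    rcases h1 with h1 | h1
    · have : o = c0 := by simpa using h1
      rw [this]; exact hmem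
    · obtain ⟨a, b, c⟩ := hex o h1
      rw [tau_smul_of_mem (hmemσ o h1).1 (hmemσ o h1).2]
      exact (h _ a b c).1

/-! ### point stabilisers of `M22` -/

theorem card_M22_stab {p : GolayPt} (hp1 : p ≠ none) (hp2 : p ≠ some 0) :
    Nat.card ↥(Spor.M22 ⊓ MulAction.stabilizer (Equiv.Perm GolayPt) p) = 20160 := by
  have hcard3 : ({none, some 0, p} : Set GolayPt).ncard = 3 := by
    rw [Set.ncard_eq_three]
    exact ⟨none, some 0, p, by simp, Ne.symm hp1, Ne.symm hp2, rfl⟩
  have h := Subgroup.card_mul_index (fixingSubgroup M24 ({none, some 0, p} : Set GolayPt))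
  have h2 := (isMultiplyPretransitive_le (m := 3) (by norm_num)).index_of_fixingSubgroup_mul
    (s := ({none, some 0, p} : Set GolayPt)) hcard3
  rw [card_GolayPt] at h2
  have h3 : (fixingSubgroup M24 ({none, some 0, p} : Set GolayPt)).index = 12144 := by
    have h4 : (24 : ℕ).factorial = 12144 * (24 - 3).factorial := by decide +kernel
    rw [h4] at h2
    exact Nat.eq_of_mul_eq_mul_right (Nat.factorial_pos _) h2
  rw [h3, card_M24] at h
  have h5 : (fixingSubgroup M24 ({none, some 0, p} : Set GolayPt)).map M24.subtype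
      = Spor.M22 ⊓ MulAction.stabilizer (Equiv.Perm GolayPt) p := by
    ext g
    constructor
    · rintro ⟨⟨g, hg⟩, hfix, rfl⟩
      rw [SetLike.mem_coe, mem_fixingSubgroup_iff] at hfix
      exact ⟨⟨⟨hg, hfix none (by simp)⟩, hfix (some 0) (by simp)⟩, hfix p (by simp)⟩
    · rintro ⟨⟨⟨hg, h1⟩, h2⟩, h3⟩
      refine ⟨⟨g, hg⟩, ?_, rfl⟩
      rw [SetLike.mem_coe, mem_fixingSubgroup_iff]
      intro y hy
      simp only [Set.mem_insert_iff, Set.mem_singleton_iff] at hy
      rcases hy with rfl | rfl | rfl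
      · exact h1
      · exact h2
      · exact h3
  rw [← h5, Subgroup.card_map_of_injective M24.subtype_injective]
  omega

theorem fix4 {p q : GolayPt} (hp1 : p ≠ none) (hp2 : p ≠ some 0) (hq1 : q ≠ none)
    (hq2 : q ≠ some 0) (hpq : p ≠ q) : ∃ g ∈ Spor.M22, g p = p ∧ g q ≠ q := by
  obtain ⟨r, hr1, hr2, hr3, hr4⟩ : ∃ r : GolayPt, r ≠ none ∧ r ≠ some 0 ∧ r ≠ p ∧ r ≠ q := by
    by_contra hcon
    push Not at hcon
    have : (Finset.univ : Finset GolayPt) ⊆ {none, some 0, p, q} := by
      intro r _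
      simp only [Finset.mem_insert, Finset.mem_singleton]
      by_cases h1 : r = none
      · exact Or.inl h1
      · by_cases h2 : r = some 0
        · exact Or.inr (Or.inl h2)
        · by_cases h3 : r = p
          · exact Or.inr (Or.inr (Or.inl h3))
          · exact Or.inr (Or.inr (Or.inr (hcon r h1 h2 h3)))
    have h2 := Finset.card_le_card this
    rw [card_univ_GolayPt] at h2
    have h3 : ({none, some 0, p, q} : Finset GolayPt).card ≤ 4 := Finset.card_le_four
    omega
  have h4t := isMultiplyPretransitive_le (m := 4) (by norm_num)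
  have hn0 : (none : GolayPt) ≠ some 0 := by simp
  let x : Fin 4 ↪ GolayPt := ⟨![none, some 0, p, q], by
    intro i j hij
    fin_cases i <;> fin_cases j <;>
      simp_all [Ne.symm hp1, Ne.symm hp2, Ne.symm hq1, Ne.symm hq2]⟩
  let y : Fin 4 ↪ GolayPt := ⟨![none, some 0, p, r], by
    intro i j hij
    fin_cases i <;> fin_cases j <;>
      simp_all [Ne.symm hp1, Ne.symm hp2, Ne.symm hr1, Ne.symm hr2, Ne.symm hr3]⟩
  obtain ⟨⟨g, hg⟩, hgx⟩ := h4t.exists_smul_eq x y
  have e0 : g none = none := congrArg (fun f : Fin 4 ↪ GolayPt => f 0) hgx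
  have e1 : g (some 0) = some 0 := congrArg (fun f : Fin 4 ↪ GolayPt => f 1) hgx
  have e2 : g p = p := congrArg (fun f : Fin 4 ↪ GolayPt => f 2) hgx
  have e3 : g q = r := congrArg (fun f : Fin 4 ↪ GolayPt => f 3) hgx
  exact ⟨g, ⟨⟨hg, e0⟩, e1⟩, e2, by rw [e3]; exact hr4⟩

/-- a group of permutations in `M24` leaving a 7-set invariant and fixing two further points
has order at most `7!` -/
theorem card_le_of_seven (H : Subgroup (Equiv.Perm GolayPt)) (hH : H ≤ M24) (R : Finset GolayPt)
    (hR : R.card = 7) (hinv : ∀ g ∈ H, ∀ s, g s ∈ R ↔ s ∈ R) {a b : GolayPt} (hab : a ≠ b)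
    (ha : a ∉ R) (hb : b ∉ R) (hfa : ∀ g ∈ H, g a = a) (hfb : ∀ g ∈ H, g b = b) :
    Nat.card H ≤ 5040 := by
  classical
  have hc : Nat.card (Equiv.Perm {x // x ∈ R}) = 5040 := by
    rw [Nat.card_eq_fintype_card, Fintype.card_perm, Fintype.card_coe, hR]
    rfl
  rw [← hc]
  apply Nat.card_le_card_of_injective
    (fun g : H => (g : Equiv.Perm GolayPt).subtypePerm (hinv g g.2))
  intro g g' hgg
  have h1 : ∀ r ∈ R, (g : Equiv.Perm GolayPt) r = (g' : Equiv.Perm GolayPt) r := by
    intro r hr
    have := congrArg (fun f : Equiv.Perm {x // x ∈ R} => ((f ⟨r, hr⟩ : {x // x ∈ R}) : GolayPt)) hgg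
    simpa using this
  by_contra hne
  have hk : ((g' : Equiv.Perm GolayPt)⁻¹ * g) ≠ 1 := by
    intro h2
    apply hne
    apply Subtype.ext
    exact (inv_mul_eq_one.1 h2).symm
  have h8 := card_fixF_le (hH (H.mul_mem (H.inv_mem g'.2) g.2)) hk
  have hsub : insert a (insert b R) ⊆ fixF ((g' : Equiv.Perm GolayPt)⁻¹ * g) := by
    intro r hr
    rw [mem_fixF, Equiv.Perm.mul_apply, Equiv.Perm.inv_eq_iff_eq]
    simp only [Finset.mem_insert] at hr
    rcases hr with rfl | rfl | hr
    · rw [hfa g g.2, hfa g' g'.2]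
    · rw [hfb g g.2, hfb g' g'.2]
    · exact h1 r hr
  have h9 := Finset.card_le_card hsub
  rw [Finset.card_insert_of_notMem (by simp [hab, ha]), Finset.card_insert_of_notMem hb, hR] at h9
  omega

/-- a subgroup of index 22 of `M22` fixes a third point -/
theorem idx22 (H : Subgroup (Equiv.Perm GolayPt)) (hH : H ≤ Spor.M22)
    (hcard : Nat.card H = 20160) :
    ∃ q : GolayPt, q ≠ none ∧ q ≠ some 0 ∧ ∀ g ∈ H, g q = q := by
  classical
  have hp7 : Fact (Nat.Prime 7) := ⟨by norm_num⟩
  have hp5 : Fact (Nat.Prime 5) := ⟨by norm_num⟩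
  have hn0 : (none : GolayPt) ≠ some 0 := by simp
  have hfixn : ∀ g ∈ H, g none = none := fun g hg => (hH hg).1.2
  have hfix0 : ∀ g ∈ H, g (some 0) = some 0 := fun g hg => (hH hg).2
  have hM : ∀ g ∈ H, g ∈ M24 := fun g hg => (hH hg).1.1
  obtain ⟨x, hxH, hx⟩ := exists_ord H 7 (by rw [hcard]; norm_num)
  have hx1 : x ≠ 1 := ne_one_of_orderOf (by norm_num) hx
  have hx8 := card_fixF_le (hM x hxH) hx1
  have hxp : x ^ 7 = 1 := by rw [← hx]; exact pow_orderOf_eq_one x
  have hmod := fix_mod hxp Finset.univ (fun _ _ => Finset.mem_univ _)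
  rw [Finset.univ_inter, card_univ_GolayPt] at hmod
  have h3 : (fixF x).card = 3 := by
    unfold Nat.ModEq at hmod
    omega
  have hnone : none ∈ fixF x := mem_fixF.2 (hfixn x hxH)
  have hzero : some 0 ∈ fixF x := mem_fixF.2 (hfix0 x hxH)
  obtain ⟨q0, hq0⟩ : ∃ q0, ((fixF x).erase none).erase (some 0) = {q0} := by
    apply Finset.card_eq_one.1
    rw [Finset.card_erase_of_mem (Finset.mem_erase.2 ⟨hn0.symm, hzero⟩),
      Finset.card_erase_of_mem hnone, h3]
  have hq0m : q0 ∈ ((fixF x).erase none).erase (some 0) := by rw [hq0]; simp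
  simp only [Finset.mem_erase] at hq0m
  obtain ⟨hq02, hq01, hq0f⟩ := hq0m
  have hfx : ∀ r ∈ fixF x, r = none ∨ r = some 0 ∨ r = q0 := by
    intro r hr
    by_cases h1 : r = none
    · exact Or.inl h1
    · by_cases h2 : r = some 0
      · exact Or.inr (Or.inl h2)
      · have : r ∈ ((fixF x).erase none).erase (some 0) := by
          simp only [Finset.mem_erase]; exact ⟨h2, h1, hr⟩
        rw [hq0, Finset.mem_singleton] at this
        exact Or.inr (Or.inr this)
  refine ⟨q0, hq01, hq02, ?_⟩
  set O : Finset GolayPt := (Set.toFinite (MulAction.orbit H q0)).toFinset with hO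
  have memO : ∀ r, r ∈ O ↔ r ∈ MulAction.orbit H q0 := fun r => by rw [hO, Set.Finite.mem_toFinset]
  have hOinv : ∀ g ∈ H, ∀ s ∈ O, g s ∈ O := by
    intro g hg s hs
    rw [memO] at hs ⊢
    exact MulAction.mem_orbit_of_mem_orbit (⟨g, hg⟩ : H) hs
  have hq0O : q0 ∈ O := (memO _).2 (MulAction.mem_orbit_self _)
  have hnO : none ∉ O := by
    intro hn
    obtain ⟨⟨g, hg⟩, hgq⟩ := (memO _).1 hn
    have h7 : g q0 = none := hgq
    exact hq01 (g.injective (h7.trans (hfixn g hg).symm))
  have hzO : some 0 ∉ O := by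
    intro hn
    obtain ⟨⟨g, hg⟩, hgq⟩ := (memO _).1 hn
    have h7 : g q0 = some 0 := hgq
    exact hq02 (g.injective (h7.trans (hfix0 g hg).symm))
  have hOx : O ∩ fixF x = {q0} := by
    ext r
    simp only [Finset.mem_inter, Finset.mem_singleton]
    constructor
    · rintro ⟨h1, h2⟩
      rcases hfx r h2 with rfl | rfl | rfl
      · exact absurd h1 hnO
      · exact absurd h1 hzO
      · rfl
    · rintro rfl
      exact ⟨hq0O, hq0f⟩
  have hmodO := fix_mod hxp O (hOinv x hxH)
  rw [hOx, Finset.card_singleton] at hmodO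
  have hOcard : O.card = (MulAction.orbit H q0).ncard := by
    rw [hO, Set.ncard_eq_toFinset_card _ (Set.toFinite _)]
  have hdvd : O.card ∣ 20160 := by
    rw [hOcard, ← MulAction.index_stabilizer, ← hcard]
    exact Subgroup.index_dvd_card _
  have hle : O.card ≤ 22 := by
    have h3 : O ⊆ (Finset.univ.erase none).erase (some 0) := fun r hr =>
      Finset.mem_erase.2 ⟨fun h => hzO (h ▸ hr),
        Finset.mem_erase.2 ⟨fun h => hnO (h ▸ hr), Finset.mem_univ _⟩⟩
    have h4 := Finset.card_le_card h3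
    rw [Finset.card_erase_of_mem (Finset.mem_erase.2 ⟨hn0.symm, Finset.mem_univ _⟩),
      Finset.card_erase_of_mem (Finset.mem_univ _), card_univ_GolayPt] at h4
    omega
  have hcases : O.card = 1 ∨ O.card = 8 ∨ O.card = 15 ∨ O.card = 22 := by
    unfold Nat.ModEq at hmodO
    omega
  rcases hcases with h1 | h8 | h15 | h22
  · intro g hg
    have h3 := hOinv g hg q0 hq0O
    obtain ⟨a, ha⟩ := Finset.card_eq_one.1 h1
    rw [ha, Finset.mem_singleton] at h3 hq0O
    rw [h3, hq0O]
  · exfalso
    obtain ⟨y, hyH, hy⟩ := exists_ord H 5 (by rw [hcard]; norm_num)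
    have hy1 : y ≠ 1 := ne_one_of_orderOf (by norm_num) hy
    have hy8 := card_fixF_le (hM y hyH) hy1
    have hyp : y ^ 5 = 1 := by rw [← hy]; exact pow_orderOf_eq_one y
    have hm0 := fix_mod hyp Finset.univ (fun _ _ => Finset.mem_univ _)
    rw [Finset.univ_inter, card_univ_GolayPt] at hm0
    have hm1 := fix_mod hyp O (hOinv y hyH)
    rw [h8] at hm1
    have hsub : insert none (insert (some 0) (O ∩ fixF y)) ⊆ fixF y := by
      intro r hr
      simp only [Finset.mem_insert] at hr
      rcases hr with rfl | rfl | hr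
      · exact mem_fixF.2 (hfixn y hyH)
      · exact mem_fixF.2 (hfix0 y hyH)
      · exact (Finset.mem_inter.1 hr).2
    have h9 := Finset.card_le_card hsub
    rw [Finset.card_insert_of_notMem (by simp [hn0, hnO]),
      Finset.card_insert_of_notMem (by simp [hzO])] at h9
    unfold Nat.ModEq at hm0 hm1
    omega
  · exfalso
    have hOinv' : ∀ g ∈ H, ∀ s, g s ∈ O ↔ s ∈ O := by
      intro g hg s
      constructor
      · intro h3
        have h4 := hOinv g⁻¹ (H.inv_mem hg) _ h3
        simpa using h4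
      · exact hOinv g hg s
    have hle := card_le_of_seven H (fun g hg => hM g hg) ((Oᶜ.erase none).erase (some 0))
      (by
        rw [Finset.card_erase_of_mem (Finset.mem_erase.2 ⟨hn0.symm, Finset.mem_compl.2 hzO⟩),
          Finset.card_erase_of_mem (Finset.mem_compl.2 hnO), Finset.card_compl,
          ← Nat.card_eq_fintype_card, card_GolayPt, h15])
      (by
        intro g hg s
        simp only [Finset.mem_erase, Finset.mem_compl, hOinv' g hg s]
        have e1 : g s = some 0 ↔ s = some 0 := by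
          constructor
          · intro h; exact g.injective (h.trans (hfix0 g hg).symm)
          · intro h; rw [h]; exact hfix0 g hg
        have e2 : g s = none ↔ s = none := by
          constructor
          · intro h; exact g.injective (h.trans (hfixn g hg).symm)
          · intro h; rw [h]; exact hfixn g hg
        rw [Ne, Ne, e1, e2])
      hn0 (by simp) (by simp) hfixn hfix0
    omega
  · exfalso
    rw [h22] at hdvd
    revert hdvd
    norm_num

end Cfsg.Agent.Lib.Helper9Out22
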