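import Mathlib
import Cfsg.Prelude.Def_Spor_Mathieu
import Cfsg.Agent.Lib.Helper9M24

set_option autoImplicit false

/-!
Extensions of `M23` by the dual of the 11-dimensional code module, attached to a 2-cochain `φ` on the
code module (for the Parker loop cocycle this extension is non-split).
-/

namespace Cfsg.Agent.Lib.Helper9Parker

open Cfsg Cfsg.Agent.Lib.Helper9Golay Cfsg.Agent.Lib.Helper9Golay2 Cfsg.Agent.Lib.Helper9M24
open scoped Pointwise

abbrev Wd : Type := GolayPt → ZMod 2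

/-- the code words vanishing at the extra point -/
def C0 : Submodule (ZMod 2) Wd := golayCode ⊓ LinearMap.ker (LinearMap.proj (none : GolayPt))

theorem mem_C0 (w : Wd) : w ∈ C0 ↔ w ∈ golayCode ∧ w none = 0 := Iff.rfl

theorem comp_mem_golayCode {g : Equiv.Perm GolayPt} (hg : g ∈ M24) {w : Wd} (hw : w ∈ golayCode) :
    w ∘ ⇑g⁻¹ ∈ golayCode := by
  obtain ⟨w', hw', hs⟩ := (mem_M24_iff g).1 hg _ ⟨w, hw, rfl⟩
  have h1 : support₂ (w ∘ g.symm) = g • support₂ w := support_comp g w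
  rw [← h1] at hs
  have := support₂_injective hs
  change w ∘ g.symm ∈ golayCode
  rw [← this]; exact hw'

theorem comp_mem_C0 (π : Spor.M23) {w : Wd} (hw : w ∈ C0) : w ∘ ⇑(π.1)⁻¹ ∈ C0 := by
  refine ⟨comp_mem_golayCode π.2.1 hw.1, ?_⟩
  have h1 : π.1 none = none := π.2.2
  have h2 : (π.1)⁻¹ none = none := by rw [Equiv.Perm.inv_eq_iff_eq, h1]
  change w ((π.1)⁻¹ none) = 0
  rw [h2]; exact hw.2

instance : DistribMulAction Spor.M23 C0 where
  smul π c := ⟨c.1 ∘ ⇑(π.1)⁻¹, comp_mem_C0 π c.2⟩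
  one_smul c := by apply Subtype.ext; rfl
  mul_smul π ρ c := by
    apply Subtype.ext
    funext p
    change c.1 ((π.1 * ρ.1)⁻¹ p) = c.1 ((ρ.1)⁻¹ ((π.1)⁻¹ p))
    rw [mul_inv_rev]; rfl
  smul_zero π := by apply Subtype.ext; rfl
  smul_add π c d := by apply Subtype.ext; rfl

theorem smul_val (π : Spor.M23) (c : C0) : (π • c).1 = c.1 ∘ ⇑(π.1)⁻¹ := rfl

theorem smul_apply (π : Spor.M23) (c : C0) (p : GolayPt) : (π • c).1 p = c.1 ((π.1)⁻¹ p) := rfl

/-- the split extension of `M23` by all functions on the code module -/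
@[ext] structure G0 where
  f : C0 → ZMod 2
  π : Spor.M23

instance : Mul G0 := ⟨fun a b => ⟨fun c => a.f c + b.f (a.π⁻¹ • c), a.π * b.π⟩⟩
instance : One G0 := ⟨⟨0, 1⟩⟩
instance : Inv G0 := ⟨fun a => ⟨fun c => a.f (a.π • c), a.π⁻¹⟩⟩

theorem mul_f (a b : G0) (c : C0) : (a * b).f c = a.f c + b.f (a.π⁻¹ • c) := rfl
theorem mul_π (a b : G0) : (a * b).π = a.π * b.π := rfl
theorem one_f (c : C0) : (1 : G0).f c = 0 := rfl
theorem one_π : (1 : G0).π = 1 := rfl
theorem inv_f (a : G0) (c : C0) : (a⁻¹).f c = a.f (a.π • c) := rfl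
theorem inv_π (a : G0) : (a⁻¹).π = a.π⁻¹ := rfl

instance : Group G0 :=
  Group.ofLeftAxioms
    (by
      intro a b c
      ext x
      · simp only [mul_f, mul_π, mul_inv_rev, mul_smul, add_assoc]
      · simp only [mul_π, mul_assoc])
    (by
      intro a
      ext x
      · simp only [mul_f, one_f, one_π, inv_one, one_smul, zero_add]
      · simp only [mul_π, one_π, one_mul])
    (by
      intro a
      ext x
      · simp only [mul_f, inv_f, inv_π, inv_inv, one_f]
        exact CharTwo.add_self_eq_zero _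
      · simp only [mul_π, inv_π, inv_mul_cancel, one_π])

instance : Finite G0 :=
  Finite.of_injective (fun a : G0 => (a.f, a.π)) (by
    intro a b h
    simp only [Prod.mk.injEq] at h
    exact G0.ext h.1 h.2)

/-- the projection -/
def pr : G0 →* Spor.M23 where
  toFun a := a.π
  map_one' := rfl
  map_mul' _ _ := rfl

section
variable (φ : C0 → C0 → ZMod 2)

/-- the extension attached to the cochain `φ` -/
def Es : Subgroup G0 where
  carrier := {e | ∀ x y : C0, e.f (x + y) + e.f x + e.f y = φ (e.π⁻¹ • x) (e.π⁻¹ • y) + φ x y}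
  one_mem' := by
    intro x y
    simp only [one_f, one_π, inv_one, one_smul, add_zero]
    exact (CharTwo.add_self_eq_zero _).symm
  mul_mem' := by
    intro a b ha hb x y
    have h1 := ha x y
    have h2 := hb (a.π⁻¹ • x) (a.π⁻¹ • y)
    simp only [mul_f, mul_π, mul_inv_rev, mul_smul, smul_add]
    rw [← smul_add] at h2
    have e : a.f (x + y) + b.f (a.π⁻¹ • x + a.π⁻¹ • y) + (a.f x + b.f (a.π⁻¹ • x)) +
        (a.f y + b.f (a.π⁻¹ • y)) = (a.f (x + y) + a.f x + a.f y) +
        (b.f (a.π⁻¹ • (x + y)) + b.f (a.π⁻¹ • x) + b.f (a.π⁻¹ • y)) := by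
      rw [smul_add]; ring
    rw [e, h1, h2]
    have : ∀ u v w : ZMod 2, u + v + (w + u) = w + v := by decide
    exact this _ _ _
  inv_mem' := by
    intro a ha x y
    have h1 := ha (a.π • x) (a.π • y)
    simp only [inv_f, inv_π, inv_inv, smul_add]
    rw [h1, inv_smul_smul, inv_smul_smul, add_comm]

theorem mem_Es (e : G0) : e ∈ Es φ ↔
    ∀ x y : C0, e.f (x + y) + e.f x + e.f y = φ (e.π⁻¹ • x) (e.π⁻¹ • y) + φ x y := Iff.rfl

/-- the projection of the extension -/
def pE : Es φ →* Spor.M23 := pr.comp (Es φ).subtype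

theorem pE_apply (e : Es φ) : pE φ e = e.1.π := rfl

/-- pairing with a word -/
def lam (w : Wd) : C0 → ZMod 2 := fun c => ∑ p, w p * c.1 p

theorem lam_add_right (w : Wd) (x y : C0) : lam w (x + y) = lam w x + lam w y := by
  simp only [lam, Submodule.coe_add, Pi.add_apply, mul_add, Finset.sum_add_distrib]

theorem lam_add_left (w w' : Wd) (c : C0) : lam (w + w') c = lam w c + lam w' c := by
  simp only [lam, Pi.add_apply, add_mul, Finset.sum_add_distrib]

theorem lam_zero (c : C0) : lam 0 c = 0 := by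
  simp only [lam, Pi.zero_apply, zero_mul, Finset.sum_const_zero]

theorem lam_smul (w : Wd) (π : Spor.M23) (c : C0) : lam w (π⁻¹ • c) = lam (w ∘ ⇑(π.1)⁻¹) c := by
  simp only [lam, smul_apply, Function.comp]
  have h : ((π⁻¹ : Spor.M23).1)⁻¹ = π.1 := by
    change ((π.1)⁻¹)⁻¹ = π.1
    rw [inv_inv]
  rw [h]
  rw [← Equiv.sum_comp π.1 (fun p => w ((π.1)⁻¹ p) * c.1 p)]
  apply Finset.sum_congr rfl
  intro p _
  have : (π.1)⁻¹ (π.1 p) = p := Equiv.symm_apply_apply π.1 p
  rw [this]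

/-- the elements of the kernel -/
def nE (w : Wd) : Es φ := ⟨⟨lam w, 1⟩, by
  intro x y
  change lam w (x + y) + lam w x + lam w y = φ ((1 : Spor.M23)⁻¹ • x) ((1 : Spor.M23)⁻¹ • y) + φ x y
  rw [lam_add_right, inv_one, one_smul, one_smul, CharTwo.add_self_eq_zero]
  have : ∀ u v : ZMod 2, u + v + u + v = 0 := by decide
  exact this _ _⟩

theorem nE_mem (w : Wd) : nE φ w ∈ (pE φ).ker := rfl

def θ : Wd →+ Additive (pE φ).ker where
  toFun w := Additive.ofMul ⟨nE φ w, nE_mem φ w⟩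
  map_zero' := by
    apply Additive.toMul.injective
    apply Subtype.ext
    apply Subtype.ext
    apply G0.ext
    · funext c; exact lam_zero c
    · rfl
  map_add' w w' := by
    apply Additive.toMul.injective
    apply Subtype.ext
    apply Subtype.ext
    apply G0.ext
    · funext c
      change lam (w + w') c = lam w c + lam w' ((1 : Spor.M23)⁻¹ • c)
      rw [inv_one, one_smul, lam_add_left]
    · change (1 : Spor.M23) = 1 * 1
      rw [one_mul]

theorem θ_val (w : Wd) : (((θ φ w).toMul : (pE φ).ker) : Es φ) = nE φ w := rfl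

theorem θ_eq_zero_iff (w : Wd) : θ φ w = 0 ↔ ∀ c : C0, lam w c = 0 := by
  constructor
  · intro h c
    have h1 : (((θ φ w).toMul : (pE φ).ker) : Es φ).1.f c = 0 := by rw [h]; rfl
    exact h1
  · intro h
    apply Additive.toMul.injective
    apply Subtype.ext
    apply Subtype.ext
    apply G0.ext
    · funext c; exact h c
    · rfl

theorem θ_surjective : Function.Surjective (θ φ) := by
  intro n
  obtain ⟨⟨⟨⟨f, π⟩, he⟩, hk⟩, rfl⟩ : ∃ m : (pE φ).ker, Additive.ofMul m = n := ⟨n.toMul, rfl⟩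
  have hπ : π = 1 := hk
  subst hπ
  have hadd : ∀ x y : C0, f (x + y) = f x + f y := by
    intro x y
    have h1 := he x y
    change f (x + y) + f x + f y = φ ((1 : Spor.M23)⁻¹ • x) ((1 : Spor.M23)⁻¹ • y) + φ x y at h1
    rw [inv_one, one_smul, one_smul, CharTwo.add_self_eq_zero] at h1
    have : ∀ u v t : ZMod 2, u + v + t = 0 → u = v + t := by decide
    exact this _ _ _ h1
  let F : C0 →ₗ[ZMod 2] ZMod 2 := (AddMonoidHom.mk' f hadd).toZModLinearMap 2
  obtain ⟨g, hg⟩ := LinearMap.exists_extend F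
  refine ⟨fun p => g (Pi.single p 1), ?_⟩
  apply Additive.toMul.injective
  apply Subtype.ext
  apply Subtype.ext
  apply G0.ext
  · funext c
    change lam (fun p => g (Pi.single p 1)) c = f c
    have h1 : f c = g c.1 := by
      have := congrArg (fun k => k c) hg
      exact this.symm
    rw [h1, LinearMap.pi_apply_eq_sum_univ g c.1]
    simp only [lam, smul_eq_mul]
    apply Finset.sum_congr rfl
    intro p _
    rw [mul_comm]
    congr 2
    funext j
    simp only [Pi.single_apply, eq_comm]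
  · rfl

theorem conj_nE (g : Es φ) (w : Wd) : nE φ (w ∘ ⇑((pE φ g).1)⁻¹) = g * nE φ w * g⁻¹ := by
  apply Subtype.ext
  apply G0.ext
  · funext c
    change lam (w ∘ ⇑(g.1.π.1)⁻¹) c = (g.1 * (nE φ w).1 * g.1⁻¹).f c
    rw [mul_f, mul_f, inv_f, mul_π]
    change _ = g.1.f c + lam w (g.1.π⁻¹ • c) + g.1.f (g.1.π • ((g.1.π * 1)⁻¹ • c))
    rw [mul_one, smul_inv_smul, lam_smul]
    have : ∀ u v : ZMod 2, v = u + v + u := by decide
    exact this _ _
  · change (1 : Spor.M23) = g.1.π * 1 * g.1.π⁻¹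
    rw [mul_one, mul_inv_cancel]

/-- **Non-splitting criterion.** -/
theorem nonsplit (x y : C0) (a b c1 c2 : Spor.M23) (ha : a * a * a = 1) (hb : b * b * b = 1)
    (hc1 : c1 * c1 * c1 = 1) (hc2 : c2 * c2 * c2 = 1)
    (hav : a • (x + y) = x + y) (hbv : b • (x + y) = x + y) (hc1x : c1 • x = x) (hc2x : c2 • x = x)
    (hsq : (a * b) * (a * b) = c1 * c2) (hx : (a * b) • x = y) (hy : (a * b) • y = x)
    (hφ : φ y x + φ x y = 1) (hsurj : Function.Surjective (pE φ))
    (H : Subgroup (Es φ)) (h1 : H ⊓ (pE φ).ker = ⊥) : H ⊔ (pE φ).ker ≠ ⊤ := by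
  intro h2
  have lift : ∀ π, ∃ h ∈ H, pE φ h = π := by
    intro π
    obtain ⟨e, rfl⟩ := hsurj π
    have he : e ∈ ((H ⊔ (pE φ).ker : Subgroup (Es φ)) : Set (Es φ)) := by rw [h2]; trivial
    rw [Subgroup.mul_normal] at he
    obtain ⟨h, hh, n, hn, rfl⟩ := he
    refine ⟨h, hh, ?_⟩
    rw [map_mul, MonoidHom.mem_ker.1 hn, mul_one]
  have one_of : ∀ h ∈ H, pE φ h = 1 → h = 1 := by
    intro h hh hk
    have : h ∈ H ⊓ (pE φ).ker := ⟨hh, hk⟩
    rw [h1] at this
    exact this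
  have uniq : ∀ h ∈ H, ∀ h' ∈ H, pE φ h = pE φ h' → h = h' := by
    intro h hh h' hh' e
    have := one_of (h⁻¹ * h') (H.mul_mem (H.inv_mem hh) hh') (by rw [map_mul, map_inv, e, inv_mul_cancel])
    exact inv_mul_eq_one.1 this
  have K1 : ∀ h ∈ H, ∀ u : C0, (pE φ h) * (pE φ h) * (pE φ h) = 1 → (pE φ h) • u = u →
      h.1.f u = 0 := by
    intro h hh u h3 hu
    have e1 : h * h * h = 1 := one_of _ (H.mul_mem (H.mul_mem hh hh) hh) (by
      rw [map_mul, map_mul, h3])
    have e2 : (h.1 * h.1 * h.1).f u = 0 := by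
      have : (h * h * h).1.f u = 0 := by rw [e1]; rfl
      exact this
    have hu' : h.1.π⁻¹ • u = u := by
      rw [inv_smul_eq_iff]; exact hu.symm
    rw [mul_f, mul_f, mul_π, mul_inv_rev, mul_smul, hu', hu'] at e2
    have : ∀ t : ZMod 2, t + t + t = 0 → t = 0 := by decide
    exact this _ e2
  obtain ⟨A, hA, hAa⟩ := lift a
  obtain ⟨B, hB, hBb⟩ := lift b
  obtain ⟨D1, hD1, hD1c⟩ := lift c1
  obtain ⟨D2, hD2, hD2c⟩ := lift c2
  have fA : A.1.f (x + y) = 0 := K1 A hA _ (by rw [hAa]; exact ha) (by rw [hAa]; exact hav)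
  have fB : B.1.f (x + y) = 0 := K1 B hB _ (by rw [hBb]; exact hb) (by rw [hBb]; exact hbv)
  have fD1 : D1.1.f x = 0 := K1 D1 hD1 _ (by rw [hD1c]; exact hc1) (by rw [hD1c]; exact hc1x)
  have fD2 : D2.1.f x = 0 := K1 D2 hD2 _ (by rw [hD2c]; exact hc2) (by rw [hD2c]; exact hc2x)
  have πA : A.1.π = a := hAa
  have πB : B.1.π = b := hBb
  have πD1 : D1.1.π = c1 := hD1c
  have hP : (A * B) * (A * B) = D1 * D2 := by
    apply uniq _ (H.mul_mem (H.mul_mem hA hB) (H.mul_mem hA hB)) _ (H.mul_mem hD1 hD2)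
    simp only [map_mul, hAa, hBb, hD1c, hD2c]
    exact hsq
  have g1 : (A.1 * B.1).f (x + y) = 0 := by
    rw [mul_f, fA, πA, inv_smul_eq_iff.2 hav.symm, fB, add_zero]
  have g2 : (D1.1 * D2.1).f x = 0 := by
    rw [mul_f, fD1, πD1, inv_smul_eq_iff.2 hc1x.symm, fD2, add_zero]
  have πP : (A.1 * B.1).π = a * b := by rw [mul_π, πA, πB]
  have ix : (a * b)⁻¹ • x = y := inv_smul_eq_iff.2 hy.symm
  have iy : (a * b)⁻¹ • y = x := inv_smul_eq_iff.2 hx.symm
  have g3 : (A.1 * B.1).f x + (A.1 * B.1).f y = 0 := by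
    have e : ((A.1 * B.1) * (A.1 * B.1)).f x = (D1.1 * D2.1).f x := by
      have := congrArg (fun k : Es φ => k.1.f x) hP
      exact this
    rw [g2, mul_f (A.1 * B.1), πP, ix] at e
    exact e
  have g4 := (A * B).2 x y
  change (A.1 * B.1).f (x + y) + (A.1 * B.1).f x + (A.1 * B.1).f y =
    φ ((A.1 * B.1).π⁻¹ • x) ((A.1 * B.1).π⁻¹ • y) + φ x y at g4
  rw [πP, ix, iy, hφ, g1, zero_add, g3] at g4
  exact zero_ne_one g4

end

structure Tw (V : Type*) where
  v : V
  s : ZMod 2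

theorem exists_quad {V : Type*} [AddCommGroup V] [Module (ZMod 2) V] (ψ : V → V → ZMod 2)
    (h1 : ∀ x x' y, ψ (x + x') y = ψ x y + ψ x' y) (h2 : ∀ x y y', ψ x (y + y') = ψ x y + ψ x y')
    (h3 : ∀ x, ψ x x = 0) : ∃ f : V → ZMod 2, ∀ x y, f (x + y) = f x + f y + ψ x y := by
  have z1 : ∀ y, ψ 0 y = 0 := by
    intro y
    have := h1 0 0 y
    rw [add_zero] at this
    have k : ∀ u : ZMod 2, u = u + u → u = 0 := by decide
    exact k _ this
  have z2 : ∀ x, ψ x 0 = 0 := by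
    intro x
    have := h2 x 0 0
    rw [add_zero] at this
    have k : ∀ u : ZMod 2, u = u + u → u = 0 := by decide
    exact k _ this
  have sym : ∀ x y, ψ x y = ψ y x := by
    intro x y
    have := h3 (x + y)
    rw [h1, h2, h2, h3, h3] at this
    have k : ∀ u v : ZMod 2, 0 + u + (v + 0) = 0 → u = v := by decide
    exact k _ _ this
  have vv : ∀ x : V, x + x = 0 := by
    intro x
    have : (2 : ZMod 2) • x = 0 := by
      have h : (2 : ZMod 2) = 0 := by decide
      rw [h, zero_smul]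
    rwa [two_smul] at this
  let iAdd : Add (Tw V) := ⟨fun a b => ⟨a.v + b.v, a.s + b.s + ψ a.v b.v⟩⟩
  let iZero : Zero (Tw V) := ⟨⟨0, 0⟩⟩
  let iNeg : Neg (Tw V) := ⟨fun a => a⟩
  let iG : AddGroup (Tw V) := AddGroup.ofLeftAxioms
      (by
        intro a b c
        change (⟨a.v + b.v + c.v, a.s + b.s + ψ a.v b.v + c.s + ψ (a.v + b.v) c.v⟩ : Tw V) =
          ⟨a.v + (b.v + c.v), a.s + (b.s + c.s + ψ b.v c.v) + ψ a.v (b.v + c.v)⟩
        rw [h1, h2, add_assoc]
        congr 1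
        ring)
      (by
        intro a
        change (⟨0 + a.v, 0 + a.s + ψ 0 a.v⟩ : Tw V) = a
        rw [z1, zero_add, zero_add, add_zero])
      (by
        intro a
        change (⟨a.v + a.v, a.s + a.s + ψ a.v a.v⟩ : Tw V) = ⟨0, 0⟩
        rw [h3, vv, CharTwo.add_self_eq_zero, add_zero])
  let iA : AddCommGroup (Tw V) :=
    { iG with
      add_comm := by
        intro a b
        change (⟨a.v + b.v, a.s + b.s + ψ a.v b.v⟩ : Tw V) = ⟨b.v + a.v, b.s + a.s + ψ b.v a.v⟩
        rw [sym a.v b.v, add_comm a.v, add_comm a.s] }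
  have addv : ∀ a b : Tw V, (a + b).v = a.v + b.v := fun _ _ => rfl
  have adds : ∀ a b : Tw V, (a + b).s = a.s + b.s + ψ a.v b.v := fun _ _ => rfl
  let iM : Module (ZMod 2) (Tw V) := AddCommGroup.zmodModule (by
    intro a
    rw [two_nsmul]
    exact neg_add_cancel a)
  let P : Tw V →ₗ[ZMod 2] V := (AddMonoidHom.mk' (fun a : Tw V => a.v) addv).toZModLinearMap 2
  have hP : Function.Surjective P := fun x => ⟨⟨x, 0⟩, rfl⟩
  obtain ⟨g, hg⟩ := LinearMap.exists_rightInverse_of_surjective P (LinearMap.range_eq_top.2 hP)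
  have gv : ∀ x, (g x).v = x := by
    intro x
    have := congrArg (fun k => k x) hg
    exact this
  refine ⟨fun x => (g x).s, ?_⟩
  intro x y
  change (g (x + y)).s = _
  rw [map_add, adds, gv, gv]


theorem pE_surjective (φ : C0 → C0 → ZMod 2) (T : C0 → C0 → C0 → ZMod 2) (q : C0 → ZMod 2)
    (P1 : ∀ x y y', φ x (y + y') = φ x y + φ x y')
    (P2 : ∀ x x' y, φ (x + x') y = φ x y + φ x' y + T x x' y)
    (P3 : ∀ x, φ x x = q x)
    (hT : ∀ (π : Spor.M23) x x' y, T (π • x) (π • x') (π • y) = T x x' y)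
    (hq : ∀ (π : Spor.M23) x, q (π • x) = q x) : Function.Surjective (pE φ) := by
  intro π
  obtain ⟨f, hf⟩ := exists_quad (fun x y : C0 => φ (π⁻¹ • x) (π⁻¹ • y) + φ x y)
    (by
      intro x x' y
      simp only [smul_add, P2, hT]
      have : ∀ a b c d t : ZMod 2, a + b + t + (c + d + t) = a + c + (b + d) := by decide
      exact this _ _ _ _ _)
    (by
      intro x y y'
      simp only [smul_add, P1]
      have : ∀ a b c d : ZMod 2, a + b + (c + d) = a + c + (b + d) := by decide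
      exact this _ _ _ _)
    (by
      intro x
      simp only [P3, hq]
      exact CharTwo.add_self_eq_zero _)
  refine ⟨⟨⟨f, π⟩, ?_⟩, rfl⟩
  intro x y
  change f (x + y) + f x + f y = φ (π⁻¹ • x) (π⁻¹ • y) + φ x y
  rw [hf]
  have : ∀ a b c : ZMod 2, a + b + c + a + b = c := by decide
  exact this _ _ _

/-- the triple intersection form -/
def T3 (x x' y : C0) : ZMod 2 := ∑ p, x.1 p * x'.1 p * y.1 p

theorem T3_smul (π : Spor.M23) (x x' y : C0) : T3 (π • x) (π • x') (π • y) = T3 x x' y := by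
  simp only [T3, smul_apply]
  exact Equiv.sum_comp (π.1)⁻¹ (fun p => x.1 p * x'.1 p * y.1 p)

/-- a quarter of the weight -/
def q4 (x : C0) : ZMod 2 := (((support₂ x.1).card / 4 : ℕ) : ZMod 2)

theorem q4_smul (π : Spor.M23) (x : C0) : q4 (π • x) = q4 x := by
  have h : support₂ (π • x).1 = π.1 • support₂ x.1 := support_comp π.1 x.1
  rw [q4, h, Finset.card_smul_finset, q4]

end Cfsg.Agent.Lib.Helper9Parker
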