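import Mathlib
import Cfsg.Agent.Lib.Helper9Parker
import Cfsg.Agent.Lib.Helper9Enum

set_option autoImplicit false
set_option linter.unusedSimpArgs false

/-!
The Parker loop cocycle on the 11-dimensional code module, and the resulting non-split extension.
-/

namespace Cfsg.Agent.Lib.Helper9Parker2

open Cfsg Cfsg.Agent.Lib.Helper9Golay Cfsg.Agent.Lib.Helper9Golay2 Cfsg.Agent.Lib.Helper9M24
open Cfsg.Agent.Lib.Helper9Parker Cfsg.Agent.Lib.Helper9Chain Cfsg.Agent.Lib.Helper9Enum
open scoped Pointwise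

/-- the quadratic part: the sum of `b_i ∩ b_j` over the pairs `i < j` of bits of `k` -/
def quL : List ℕ → ℕ → ℕ
  | [], _ => 0
  | b :: l, k => (if k % 2 = 1 then b &&& encL l (k / 2) else 0) ^^^ quL l (k / 2)

theorem encL_xor (l : List ℕ) (k k' : ℕ) : encL l (k ^^^ k') = encL l k ^^^ encL l k' := by
  induction l generalizing k k' with
  | nil => simp [encL]
  | cons b l ih =>
    simp only [encL, Nat.xor_div_two, ih, Nat.xor_mod_two_eq_one]
    apply Nat.eq_of_testBit_eq
    intro i
    by_cases h : k % 2 = 1 <;> by_cases h' : k' % 2 = 1 <;>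
      simp only [h, h', if_true, if_false, iff_true, iff_false, true_iff, false_iff, not_true,
        not_false_iff, not_not, Nat.testBit_xor, Nat.zero_testBit] <;>
      cases b.testBit i <;> cases (encL l (k / 2)).testBit i <;>
      cases (encL l (k' / 2)).testBit i <;> rfl

theorem quL_xor (l : List ℕ) (k k' : ℕ) : quL l (k ^^^ k') =
    quL l k ^^^ quL l k' ^^^ (encL l k &&& encL l k') ^^^ encL l (k &&& k') := by
  induction l generalizing k k' with
  | nil => simp [encL, quL]
  | cons b l ih =>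
    simp only [encL, quL, Nat.xor_div_two, Nat.and_div_two, ih, Nat.xor_mod_two_eq_one,
      Nat.and_mod_two_eq_one, encL_xor]
    apply Nat.eq_of_testBit_eq
    intro i
    by_cases h : k % 2 = 1 <;> by_cases h' : k' % 2 = 1 <;>
      simp only [h, h', if_true, if_false, iff_true, iff_false, true_iff, false_iff, not_true,
        not_false_iff, not_not, and_true, and_false, true_and, false_and,
        Nat.testBit_xor, Nat.testBit_and, Nat.zero_testBit] <;>
      cases b.testBit i <;> cases (encL l (k / 2)).testBit i <;>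
      cases (encL l (k' / 2)).testBit i <;> cases (quL l (k / 2)).testBit i <;>
      cases (quL l (k' / 2)).testBit i <;> cases (encL l (k / 2 &&& k' / 2)).testBit i <;> rfl

def alist : List ℕ := [2097152, 16384, 0, 131072, 262144, 0, 0, 0, 4194304, 0, 0]

def Th (k : ℕ) : ℕ := quL basis k ^^^ encL alist k

theorem Th_xor (k k' : ℕ) :
    Th (k ^^^ k') = Th k ^^^ Th k' ^^^ (code k &&& code k') ^^^ code (k &&& k') := by
  simp only [Th, code, quL_xor, encL_xor]
  apply Nat.eq_of_testBit_eq
  intro i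
  simp only [Nat.testBit_xor, Nat.testBit_and]
  cases (quL basis k).testBit i <;> cases (quL basis k').testBit i <;>
    cases (encL basis k).testBit i <;> cases (encL basis k').testBit i <;>
    cases (encL basis (k &&& k')).testBit i <;> cases (encL alist k).testBit i <;>
    cases (encL alist k').testBit i <;> rfl

theorem Th_diag : ∀ k < 2048, popc 24 (Th k &&& code k) % 2 = popc 24 (code k) / 4 % 2 := by
  have h : (List.range 2048).all
      (fun k => popc 24 (Th k &&& code k) % 2 == popc 24 (code k) / 4 % 2) = true := by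
    decide +kernel
  intro k hk
  simpa using forall_lt_of_all h k hk


theorem toWord_and (a b : ℕ) (p : GolayPt) : toWord (a &&& b) p = toWord a p * toWord b p := by
  simp only [toWord, Nat.testBit_and, Bool.and_eq_true]
  by_cases h : a.testBit (idx p) = true <;> by_cases h' : b.testBit (idx p) = true <;> simp [h, h']

/-- the index of a code word -/
def ix (x : C0) : ℕ := mk (support₂ x.1) >>> 12

theorem ix_eq {x : C0} {k : ℕ} (hk : k < 4096) (h : x.1 = toWord (code k)) : ix x = k := by
  rw [ix, h, support_toWord, mk_fs (code_lt k), code_shift k hk]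

theorem ix_spec (x : C0) : ix x < 2048 ∧ x.1 = toWord (code (ix x)) := by
  obtain ⟨n, hn, hx⟩ := (mem_golayCode_iff x.1).1 x.2.1
  obtain ⟨k, hk, rfl⟩ := (mem_codeList_iff' n).1 hn
  rw [ix_eq hk hx]
  refine ⟨?_, hx⟩
  have h0 : x.1 none = 0 := x.2.2
  rw [hx] at h0
  have h1 : (code k).testBit 23 = false := by
    by_contra hc
    have hc' : (code k).testBit (idx none) = true := by
      have : (code k).testBit 23 = true := by simpa using hc
      exact this
    simp only [toWord, hc', if_true] at h0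
    exact one_ne_zero h0
  have h2 : k.testBit 11 = false := by
    rw [← code_shift k hk, Nat.testBit_shiftRight]
    exact h1
  rw [Nat.testBit_eq_decide_div_mod_eq] at h2
  simp only [decide_eq_false_iff_not] at h2
  omega

theorem ix_add (x y : C0) : ix (x + y) = ix x ^^^ ix y := by
  have hx := ix_spec x
  have hy := ix_spec y
  apply ix_eq
  · exact Nat.xor_lt_two_pow (n := 12) (by omega) (by omega)
  · rw [code, encL_xor, toWord_xor, Submodule.coe_add]
    conv_lhs => rw [hx.2, hy.2]
    rfl

/-- the code word with a given index -/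
def cw (k : ℕ) (h : (decide (k < 2048)) = true) : C0 := ⟨toWord (code k), by
  have hk : k < 2048 := by simpa using h
  refine ⟨(mem_golayCode_iff _).2 ⟨code k, code_mem k, rfl⟩, ?_⟩
  change toWord (code k) none = 0
  have h2 : (code k).testBit 23 = false := by
    have : (code k >>> 12).testBit 11 = false := by
      rw [code_shift k (by omega), Nat.testBit_eq_decide_div_mod_eq]
      simp only [decide_eq_false_iff_not]
      omega
    rw [Nat.testBit_shiftRight] at this
    exact this
  have h3 : (code k).testBit (idx none) = false := h2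
  simp only [toWord, h3]
  rfl⟩

theorem ix_cw (k : ℕ) (h : (decide (k < 2048)) = true) : ix (cw k h) = k :=
  ix_eq (by have hk : k < 2048 := by simpa using h
            omega) rfl

/-- the Parker cocycle -/
def φ (x y : C0) : ZMod 2 := lam (toWord (Th (ix x))) y

theorem lam_toWord (a b : ℕ) (y : C0) (hy : y.1 = toWord b) :
    lam (toWord a) y = ((popc 24 (a &&& b) : ℕ) : ZMod 2) := by
  rw [lam, hy, sum_mul_eq, support_toWord, support_toWord, ← fs_and, card_fs]

theorem P1 (x y y' : C0) : φ x (y + y') = φ x y + φ x y' := lam_add_right _ _ _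

theorem P2 (x x' y : C0) : φ (x + x') y = φ x y + φ x' y + T3 x x' y := by
  have hx := (ix_spec x).2
  have hx' := (ix_spec x').2
  rw [φ, ix_add, Th_xor, toWord_xor, toWord_xor, toWord_xor, lam_add_left, lam_add_left,
    lam_add_left]
  have h1 : lam (toWord (code (ix x &&& ix x'))) y = 0 :=
    self_orth _ _ ((mem_golayCode_iff _).2 ⟨_, code_mem _, rfl⟩) y.2.1
  have h2 : lam (toWord (code (ix x) &&& code (ix x'))) y = T3 x x' y := by
    rw [lam, T3]
    apply Finset.sum_congr rfl
    intro p _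
    rw [toWord_and, ← hx, ← hx']
  rw [h1, h2, add_zero]
  rfl

theorem P3 (x : C0) : φ x x = q4 x := by
  have hx := ix_spec x
  rw [φ, lam_toWord _ _ x hx.2, q4]
  conv_rhs => rw [hx.2]
  rw [support_toWord, card_fs, ZMod.natCast_eq_natCast_iff']
  exact Th_diag _ hx.1

theorem surj : Function.Surjective (pE φ) :=
  pE_surjective φ T3 q4 P1 P2 P3 T3_smul q4_smul


/-! ### the kernel of the pairing -/

theorem dual_check : ∀ m < 4096, (∀ b ∈ basis, popc 24 (m &&& b) % 2 = 0) → m = 0 := by
  have h : (List.range 4096).all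
      (fun m => m == 0 || basis.any (fun b => popc 24 (m &&& b) % 2 == 1)) = true := by
    decide +kernel
  intro m hm hb
  have h1 := forall_lt_of_all h m hm
  simp only [Bool.or_eq_true, beq_iff_eq, List.any_eq_true] at h1
  rcases h1 with h1 | ⟨b, hb1, hb2⟩
  · exact h1
  · have := hb b hb1
    omega

theorem toWord_mk (w : Wd) : toWord (mk (support₂ w)) = w := by
  apply support₂_injective
  rw [support_toWord, fs_mk]

theorem sum_toWord (a b : ℕ) :
    ∑ p, toWord a p * toWord b p = ((popc 24 (a &&& b) : ℕ) : ZMod 2) := by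
  rw [sum_mul_eq, support_toWord, support_toWord, ← fs_and, card_fs]

theorem mem_of_orth (w : Wd) (h : ∀ c ∈ golayCode, ∑ p, w p * c p = 0) : w ∈ golayCode := by
  obtain ⟨n, hn, rfl⟩ : ∃ n < 2 ^ 24, toWord n = w := ⟨_, mk_lt _, toWord_mk w⟩
  have hm : n ^^^ code (n >>> 12) < 4096 := by
    have h1 : (n ^^^ code (n >>> 12)) >>> 12 = 0 := by
      rw [Nat.shiftRight_xor_distrib, code_shift _ (by rw [Nat.shiftRight_eq_div_pow]; omega),
        Nat.xor_self]
    rw [Nat.shiftRight_eq_div_pow] at h1
    omega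
  have h0 := dual_check _ hm (by
    intro b hb
    have h1 : ∑ p, toWord (n ^^^ code (n >>> 12)) p * toWord b p = 0 := by
      rw [toWord_xor]
      simp only [Pi.add_apply, add_mul, Finset.sum_add_distrib]
      rw [h _ (basis_mem b hb), self_orth _ _ ((mem_golayCode_iff _).2 ⟨_, code_mem _, rfl⟩)
        (basis_mem b hb), add_zero]
    rw [sum_toWord, ZMod.natCast_eq_zero_iff] at h1
    omega)
  rw [Nat.xor_eq_zero_iff] at h0
  rw [h0]
  exact (mem_golayCode_iff _).2 ⟨_, code_mem _, rfl⟩

theorem one_mem : (1 : Wd) ∈ golayCode := by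
  rw [one_eq]
  exact gtab_mem _ (by decide)

theorem mem_of_orth0 (w : Wd) (h : ∀ c : C0, lam w c = 0) (hs : ∑ p, w p = 0) :
    w ∈ golayCode := by
  apply mem_of_orth
  intro c hc
  have hc01 : c none = 0 ∨ c none = 1 := by
    have : ∀ t : ZMod 2, t = 0 ∨ t = 1 := by decide
    exact this _
  rcases hc01 with h0 | h1
  · exact h ⟨c, hc, h0⟩
  · have h2 := h ⟨c + 1, golayCode.add_mem hc one_mem, by
      change c none + 1 = 0
      rw [h1]; decide⟩
    simp only [lam, Pi.add_apply, Pi.one_apply, mul_add, mul_one, Finset.sum_add_distrib] at h2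
    rw [hs, add_zero] at h2
    exact h2

theorem lam_single (c : C0) : lam (Pi.single none 1) c = 0 := by
  rw [lam, Finset.sum_eq_single none]
  · rw [Pi.single_eq_same, one_mul]; exact c.2.2
  · intro p _ hp
    rw [Pi.single_eq_of_ne hp, zero_mul]
  · intro h; exact absurd (Finset.mem_univ _) h

theorem ker_iff (w : Wd) :
    (∀ c : C0, lam w c = 0) ↔ w ∈ golayCode ∨ w + Pi.single none 1 ∈ golayCode := by
  constructor
  · intro h
    have hs01 : ∑ p, w p = 0 ∨ ∑ p, w p = 1 := by
      have : ∀ t : ZMod 2, t = 0 ∨ t = 1 := by decide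
      exact this _
    rcases hs01 with h0 | h1
    · exact Or.inl (mem_of_orth0 w h h0)
    · right
      apply mem_of_orth0
      · intro c
        rw [lam_add_left, h c, lam_single, add_zero]
      · simp only [Pi.add_apply, Finset.sum_add_distrib]
        rw [h1, Finset.sum_pi_single']
        simp only [Finset.mem_univ, if_true]
        decide
  · rintro (h | h) c
    · exact self_orth _ _ h c.2.1
    · have h1 : lam (w + Pi.single none 1) c = 0 := self_orth _ _ h c.2.1
      rw [lam_add_left, lam_single, add_zero] at h1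
      exact h1

/-! ### the data of the non-splitting criterion -/

def tA : List ℕ := [0, 1, 16, 6, 2, 14, 8, 17, 3, 12, 10, 7, 18, 13, 15, 5, 4, 11, 9, 21, 19, 20, 22, 23]
def tA' : List ℕ := [0, 1, 4, 8, 16, 15, 3, 11, 6, 18, 10, 17, 9, 13, 5, 14, 2, 7, 12, 20, 21, 19, 22, 23]
def tB : List ℕ := [13, 3, 18, 6, 2, 7, 1, 11, 0, 9, 10, 5, 12, 8, 20, 15, 16, 19, 4, 22, 21, 14, 17, 23]
def tB' : List ℕ := [8, 6, 4, 1, 18, 11, 3, 5, 13, 9, 10, 7, 12, 0, 21, 15, 16, 22, 2, 17, 14, 20, 19, 23]
def tC1 : List ℕ := [2, 1, 12, 3, 4, 9, 16, 7, 11, 22, 10, 18, 0, 21, 19, 14, 20, 13, 8, 15, 6, 17, 5, 23]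
def tC1' : List ℕ := [12, 1, 0, 3, 4, 22, 20, 7, 18, 5, 10, 8, 2, 17, 15, 19, 6, 21, 11, 14, 16, 13, 9, 23]
def tC2 : List ℕ := [3, 1, 2, 12, 4, 13, 20, 7, 17, 11, 10, 14, 0, 18, 9, 21, 6, 19, 5, 8, 16, 22, 15, 23]
def tC2' : List ℕ := [12, 1, 2, 0, 4, 18, 16, 7, 19, 14, 10, 9, 3, 5, 11, 22, 20, 8, 13, 17, 6, 15, 21, 23]

theorem exists_M23 (l l' : List ℕ) (h : (validPair l l' && preserves l) = true)
    (h23 : l.getD 23 99 = 23) : ∃ g : Spor.M23, tbl g.1 = l := by
  obtain ⟨g, hg, hl⟩ := exists_of_tbl l l' h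
  exact ⟨⟨g, hg, apply_of_tbl hl (i := 23) (j := 23) (by norm_num) h23⟩, hl⟩

theorem smul_cw (π : Spor.M23) (l : List ℕ) (hl : tbl π.1 = l) (k k' : ℕ)
    (h : (decide (k < 2048)) = true) (h' : (decide (k' < 2048)) = true)
    (e : mapMask l (code k) = code k') : π • cw k h = cw k' h' := by
  apply Subtype.ext
  apply support₂_injective
  have h1 : support₂ (π • cw k h).1 = π.1 • support₂ (cw k h).1 := support_comp π.1 (cw k h).1
  rw [h1]
  change π.1 • support₂ (toWord (code k)) = support₂ (toWord (code k'))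
  rw [support_toWord, support_toWord, smul_fs, hl, e]

theorem M23_ext {g h : Spor.M23} (e : tbl g.1 = tbl h.1) : g = h :=
  Subtype.ext (tbl_injective e)

theorem nonsplit_φ (H : Subgroup (Es φ)) (h1 : H ⊓ (pE φ).ker = ⊥) : H ⊔ (pE φ).ker ≠ ⊤ := by
  obtain ⟨a, ha⟩ := exists_M23 tA tA' (by decide +kernel) (by decide +kernel)
  obtain ⟨b, hb⟩ := exists_M23 tB tB' (by decide +kernel) (by decide +kernel)
  obtain ⟨c1, hc1⟩ := exists_M23 tC1 tC1' (by decide +kernel) (by decide +kernel)
  obtain ⟨c2, hc2⟩ := exists_M23 tC2 tC2' (by decide +kernel) (by decide +kernel)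
  have hxy : cw 1 (by decide) + cw 82 (by decide) = cw 83 (by decide) := by
    apply Subtype.ext
    change toWord (code 1) + toWord (code 82) = toWord (code 83)
    rw [← toWord_xor]
    congr 1
  have hab : tbl (a * b).1 = compose tA tB := by
    change tbl (a.1 * b.1) = _
    rw [tbl_mul, ha, hb]
  refine nonsplit φ (cw 1 (by decide)) (cw 82 (by decide)) a b c1 c2 ?_ ?_ ?_ ?_ ?_ ?_ ?_ ?_ ?_ ?_ ?_
    ?_ surj H h1
  · apply M23_ext
    change tbl (a.1 * a.1 * a.1) = tbl 1
    rw [tbl_mul, tbl_mul, tbl_one, ha]; decide +kernel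
  · apply M23_ext
    change tbl (b.1 * b.1 * b.1) = tbl 1
    rw [tbl_mul, tbl_mul, tbl_one, hb]; decide +kernel
  · apply M23_ext
    change tbl (c1.1 * c1.1 * c1.1) = tbl 1
    rw [tbl_mul, tbl_mul, tbl_one, hc1]; decide +kernel
  · apply M23_ext
    change tbl (c2.1 * c2.1 * c2.1) = tbl 1
    rw [tbl_mul, tbl_mul, tbl_one, hc2]; decide +kernel
  · rw [hxy]; exact smul_cw a _ ha _ _ _ _ (by decide +kernel)
  · rw [hxy]; exact smul_cw b _ hb _ _ _ _ (by decide +kernel)
  · exact smul_cw c1 _ hc1 _ _ _ _ (by decide +kernel)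
  · exact smul_cw c2 _ hc2 _ _ _ _ (by decide +kernel)
  · apply M23_ext
    change tbl ((a.1 * b.1) * (a.1 * b.1)) = tbl (c1.1 * c2.1)
    rw [tbl_mul, tbl_mul, tbl_mul, ha, hb, hc1, hc2]; decide +kernel
  · exact smul_cw (a * b) _ hab _ _ _ _ (by decide +kernel)
  · exact smul_cw (a * b) _ hab _ _ _ _ (by decide +kernel)
  · rw [φ, φ, ix_cw, ix_cw, lam_toWord _ (code 1) _ rfl, lam_toWord _ (code 82) _ rfl]
    decide +kernel

end Cfsg.Agent.Lib.Helper9Parker2
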