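import Cfsg.Agent.Lib.LeadAutDefs
import Cfsg.Agent.Lib.LeadChevMisc

set_option autoImplicit false

/-! Piece A8 of project CHEV-AUT. -/

namespace Cfsg.Agent.Lib.LeadAutA8

open Subgroup Cfsg.Agent.Lib.Helper23Grp Cfsg.Agent.Lib.Helper23RG Cfsg.Agent.Lib.Helper23RG.RG
  Cfsg.Agent.Lib.Helper23Weyl Cfsg.Agent.Lib.LeadAutDefs

variable {𝔾 K R I : Type*} [Group 𝔾] [Field K] [Fintype R] [DecidableEq R] {S : RG 𝔾 K R I}

omit [Fintype R] [DecidableEq R] in
theorem opp_aux (h : AData S) {n0 : 𝔾} (hn0 : n0 ∈ S.N) {π0 : Equiv.Perm R} (hM : S.Mon n0 π0)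
    (h0 : ∀ r, S.pos r → ¬ S.pos (π0 r)) (i : I) : ∃ j, π0 (S.neg (S.simple i)) = S.simple j := by
  have ok := h.ok
  obtain ⟨rf, pr, hW⟩ := h.hW
  obtain ⟨π, hπ, hMπ⟩ := Mon_N' ok (rf := rf) (pr := pr) n0 hn0
  obtain rfl : π = π0 := Mon_unique ok h.hBV hMπ hM
  have hs : reflPerm ok i ∈ (ws ok rf pr).WJ Set.univ := WS.s_mem_WJ (W := ws ok rf pr) (Set.mem_univ i)
  have hw : π * reflPerm ok i * π⁻¹ ∈ (ws ok rf pr).WJ Set.univ := mul_mem (mul_mem hπ hs) (inv_mem hπ)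
  have h1 : π * reflPerm ok i * π⁻¹ ≠ 1 := by
    intro e
    have e2 : reflPerm ok i = 1 := by
      have := congrArg (fun z => π⁻¹ * z * π) e
      simpa [mul_assoc] using this
    have h7 : S.refl i (S.simple i) = S.simple i := by
      rw [← reflPerm_apply ok, e2]; rfl
    rw [ok.refl_simple] at h7
    have := ok.pos_simple i
    rw [← h7, ok.pos_neg] at this
    exact this (ok.pos_simple i)
  obtain ⟨j, _, hj⟩ := WS.exists_descent hW hw h1
  have hj' : ¬ S.pos (π (S.refl i (π⁻¹ (S.simple j)))) := hj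
  refine ⟨j, ?_⟩
  set r := π⁻¹ (S.simple j) with hr
  have hπr : π r = S.simple j := by simp [hr]
  have hrneg : ¬ S.pos r := by
    intro hp
    exact h0 r hp (hπr ▸ ok.pos_simple j)
  have hpos2 : S.pos (S.refl i r) := by
    by_contra hn
    have h3 : S.pos (S.neg (S.refl i r)) := (ok.pos_neg _).2 hn
    have h4 := h0 _ h3
    rw [hM.1, ok.pos_neg] at h4
    exact h4 hj'
  have hr' : S.pos (S.neg r) := (ok.pos_neg _).2 hrneg
  have e : S.neg r = S.simple i := by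
    by_contra hne
    have := ok.refl_pos i _ hr' hne
    rw [ok.refl_neg, ok.pos_neg] at this
    exact this hpos2
  have e2 : r = S.neg (S.simple i) := by rw [← e, ok.neg_neg]
  rw [← e2, hπr]

/-- A8 -/
theorem opp_simple (h : AData S) {n0 : 𝔾} (hn0 : n0 ∈ S.N) {π0 : Equiv.Perm R} (hM : S.Mon n0 π0)
    (h0 : ∀ r, S.pos r → ¬ S.pos (π0 r)) :
    ∃ τ : Equiv.Perm I, ∀ i, π0 (S.neg (S.simple i)) = S.simple (τ i) := by
  choose τ hτ using opp_aux h hn0 hM h0
  haveI : Finite I := Finite.of_injective S.simple h.inj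
  have hinj : Function.Injective τ := by
    intro a b e
    have h1 : π0 (S.neg (S.simple a)) = π0 (S.neg (S.simple b)) := by rw [hτ, hτ, e]
    have h2 := π0.injective h1
    have h3 : S.simple a = S.simple b := by
      rw [← h.ok.neg_neg (S.simple a), h2, h.ok.neg_neg]
    exact h.inj h3
  exact ⟨Equiv.ofBijective τ (Finite.injective_iff_bijective.1 hinj), hτ⟩

end Cfsg.Agent.Lib.LeadAutA8
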