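import Cfsg.Agent.Lib.LeadAutDefs
import Cfsg.Agent.Lib.LeadChevMisc

set_option autoImplicit false

/-! Piece B2 of project CHEV-AUT. -/

namespace Cfsg.Agent.Lib.LeadAutB2

open Subgroup Cfsg.Agent.Lib.Helper23Grp Cfsg.Agent.Lib.Helper23RG Cfsg.Agent.Lib.Helper23RG.RG
  Cfsg.Agent.Lib.Helper23Weyl Cfsg.Agent.Lib.LeadAutDefs Cfsg.Agent.Lib.LeadChevMisc

variable {𝔾 K R I : Type*} [Group 𝔾] [Field K] [Fintype R] [DecidableEq R] {S : RG 𝔾 K R I}

/-- B2 -/
theorem mem_B_of_conj_simple (h : AData S) {c : 𝔾} (hc : ∀ i, c * S.x (S.simple i) 1 * c⁻¹ ∈ S.B) :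
    c ∈ S.B := by
  have ok := h.ok
  have hBV := h.hBV
  have hUN := h.hUN
  obtain ⟨rf, pr, hW⟩ := h.hW
  have hcG : c ∈ S.G := by rw [h.top]; trivial
  obtain ⟨n, hn, b1, hb1, b2, hb2, rfl⟩ := bruhat_ex ok hBV hUN hcG
  obtain ⟨π, hπ, hM⟩ := Mon_N' ok (rf := rf) (pr := pr) n hn
  by_cases h1 : π = 1
  · subst h1
    exact mul_mem (mul_mem hb1 (H_le_B (mem_H_of_Mon_one ok hBV hUN hn hM))) hb2
  exfalso
  obtain ⟨i, _, hneg⟩ := WS.exists_descent hW hπ h1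
  have hneg' : ¬ S.pos (π (S.simple i)) := hneg
  obtain ⟨w, hw, a, ha, e1⟩ := B_conj_simple ok i hb2 (one_ne_zero (α := K))
  have hy : n * (w * S.x (S.simple i) a) * n⁻¹ =
      b1⁻¹ * (b1 * n * b2 * S.x (S.simple i) 1 * (b1 * n * b2)⁻¹) * b1 := by
    rw [← e1]; group
  set y := b1⁻¹ * (b1 * n * b2 * S.x (S.simple i) 1 * (b1 * n * b2)⁻¹) * b1 with hydef
  have hyB : y ∈ S.B := mul_mem (mul_mem (inv_mem hb1) (hc i)) hb1
  set n' := n * (S.nn i)⁻¹ with hn'def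
  have hn' : n' ∈ S.N := mul_mem hn (inv_mem (nn_mem_N i))
  have hM' : S.Mon n' (π * reflPerm ok i) := by
    have := hM.mul (Mon_nn ok i).inv
    rwa [reflPerm_inv] at this
  have hpos' : S.pos ((π * reflPerm ok i) (S.simple i)) := by
    rw [Equiv.Perm.mul_apply, reflPerm_apply, ok.refl_simple, hM.1, ok.pos_neg]
    exact hneg'
  set w' := S.nn i * w * (S.nn i)⁻¹ with hw'def
  have hw' : w' ∈ S.Ui i := conj_mem_of_mem_normalizer (nn_mem_normalizer_Ui ok i) hw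
  set a' := S.η i (S.simple i) * a with ha'def
  have ha' : a' ≠ 0 := mul_ne_zero (η_ne_zero ok _ _) ha
  have e2 : y * n' = n' * w' * S.x (S.neg (S.simple i)) a' := by
    have h3 : S.nn i * S.x (S.simple i) a * (S.nn i)⁻¹ = S.x (S.neg (S.simple i)) a' := by
      rw [ok.n_conj, ok.refl_simple]
    rw [← h3, ← hy, hw'def, hn'def]; group
  have m1 : y * n' ∈ S.C (π * reflPerm ok i) := ⟨n', hn', hM', y, hyB, 1, one_mem _, by group⟩
  have m2 : y * n' ∈ S.C (π * reflPerm ok i * reflPerm ok i) := by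
    rw [e2, rank_one ok (S.simple i) ha']
    have hg : n' * (w' * S.x (S.simple i) a'⁻¹ * S.hE (S.simple i) (-a'⁻¹)) ∈ S.C (π * reflPerm ok i) := by
      apply C_mul_B ⟨n', hn', hM', 1, one_mem _, 1, one_mem _, by group⟩
      refine mul_mem (mul_mem (U_le_B (Ui_le_U ok i hw')) (U_le_B (x_mem_U (ok.pos_simple i) _))) (H_le_B ?_)
      exact hE_mem_H _ (neg_ne_zero.2 (inv_ne_zero ha'))
    have := cell_maps ok hpos' hg a'⁻¹
    have e3 : n' * w' * (S.x (S.simple i) a'⁻¹ * (S.hE (S.simple i) (-a'⁻¹) * S.nE (S.simple i) 1) *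
        S.x (S.simple i) a'⁻¹) = n' * (w' * S.x (S.simple i) a'⁻¹ * S.hE (S.simple i) (-a'⁻¹)) * S.nn i *
        S.x (S.simple i) a'⁻¹ := by
      show _ = n' * (w' * S.x (S.simple i) a'⁻¹ * S.hE (S.simple i) (-a'⁻¹)) * S.nE (S.simple i) 1 *
        S.x (S.simple i) a'⁻¹
      group
    rw [e3]; exact this
  have h5 := C_disjoint ok hBV hUN m1 m2
  have h6 : reflPerm ok i = 1 := by
    have h55 : (π * reflPerm ok i) * 1 = (π * reflPerm ok i) * reflPerm ok i := by rw [mul_one]; exact h5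
    exact (mul_left_cancel h55).symm
  have h7 : S.refl i (S.simple i) = S.simple i := by
    rw [← reflPerm_apply ok, h6]; rfl
  rw [ok.refl_simple] at h7
  have := ok.pos_simple i
  rw [← h7, ok.pos_neg] at this
  exact this (ok.pos_simple i)

end Cfsg.Agent.Lib.LeadAutB2
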